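import Mathlib

set_option autoImplicit false
set_option linter.unusedSectionVars false
set_option linter.unusedVariables false

namespace Cfsg.Agent.Lib.Helper2.ZS

section arith

variable {ι : Type*} [DecidableEq ι]

theorem exists_ne_zero_of_sum_sq_pos (T : Finset ι) (δ : ι → ℤ) (h : 0 < ∑ i ∈ T, δ i ^ 2) :
    ∃ i ∈ T, δ i ≠ 0 := by
  by_contra hne
  push Not at hne
  have : ∑ i ∈ T, δ i ^ 2 = 0 := Finset.sum_eq_zero (fun i hi => by rw [hne i hi]; ring)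
  omega

theorem sum_sq_nonneg (T : Finset ι) (δ : ι → ℤ) : 0 ≤ ∑ i ∈ T, δ i ^ 2 :=
  Finset.sum_nonneg (fun i _ => sq_nonneg _)

/-- peel off one element of the support -/
theorem peel (T : Finset ι) (δ : ι → ℤ) (n : ℤ) (hn : 0 < n) (hn3 : n ≤ 3)
    (hs : ∑ i ∈ T, δ i ^ 2 = n) :
    ∃ i ∈ T, (δ i = 1 ∨ δ i = -1) ∧ ∑ j ∈ T.erase i, δ j ^ 2 = n - 1 := by
  obtain ⟨i, hi, hne⟩ := exists_ne_zero_of_sum_sq_pos T δ (by rw [hs]; exact hn)
  have h1 := Finset.add_sum_erase T (fun j => δ j ^ 2) hi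
  have h2 := sum_sq_nonneg (T.erase i) δ
  have h3 : δ i ^ 2 ≤ 3 := by omega
  have h4 : -1 ≤ δ i ∧ δ i ≤ 1 := by constructor <;> nlinarith
  have h5 : δ i = 1 ∨ δ i = -1 := by omega
  refine ⟨i, hi, h5, ?_⟩
  have h6 : δ i ^ 2 = 1 := by rcases h5 with h | h <;> rw [h] <;> norm_num
  omega

theorem eq_zero_of_sum_sq_eq_zero (T : Finset ι) (δ : ι → ℤ) (h : ∑ i ∈ T, δ i ^ 2 = 0) :
    ∀ i ∈ T, δ i = 0 := by
  intro i hi
  have h1 := (Finset.sum_eq_zero_iff_of_nonneg (fun j _ => sq_nonneg (δ j))).mp h i hi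
  exact pow_eq_zero_iff (two_ne_zero) |>.mp h1

/-- **Norm three.** -/
theorem norm_three (B : Finset ι) (o : ι) (ho : o ∈ B)
    (k : ι → ℤ) (d : ι → ℕ) (τ : ι → ℂ)
    (hd : ∀ i ∈ B, 0 < d i) (hko : k o = 1) (hdo : d o = 1) (hτo : τ o = 1)
    (hnorm : ∑ i ∈ B, (k i) ^ 2 = 3)
    (ha : ∑ i ∈ B, (k i : ℂ) * (d i : ℂ) = 0)
    (hb : ∑ i ∈ B, (k i : ℂ) * τ i = 0)
    (hc : ∑ i ∈ B, (k i : ℂ) * (τ i) ^ 2 / (d i : ℂ) = 0) :
    ∃ i ∈ B, i ≠ o ∧ τ i = (d i : ℂ) := by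
  have h0 := Finset.add_sum_erase B (fun j => k j ^ 2) ho
  rw [hko, hnorm] at h0
  have hT : ∑ j ∈ B.erase o, k j ^ 2 = 2 := by omega
  obtain ⟨i, hi, hki, hT1⟩ := peel (B.erase o) k 2 (by norm_num) (by norm_num) hT
  obtain ⟨j, hj, hkj, hT2⟩ := peel ((B.erase o).erase i) k (2 - 1) (by norm_num) (by norm_num) hT1
  have hz := eq_zero_of_sum_sq_eq_zero _ k (by rw [hT2]; norm_num)
  have hiB : i ∈ B := Finset.mem_of_mem_erase hi
  have hio : i ≠ o := Finset.ne_of_mem_erase hi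
  have hj' : j ∈ B.erase o := Finset.mem_of_mem_erase hj
  have hjB : j ∈ B := Finset.mem_of_mem_erase hj'
  have hjo : j ≠ o := Finset.ne_of_mem_erase hj'
  -- three-term formula
  have three : ∀ g : ι → ℂ, ∑ x ∈ B, (k x : ℂ) * g x = g o + (k i : ℂ) * g i + (k j : ℂ) * g j := by
    intro g
    rw [← Finset.add_sum_erase B _ ho, ← Finset.add_sum_erase _ _ hi, ← Finset.add_sum_erase _ _ hj]
    have : ∑ x ∈ ((B.erase o).erase i).erase j, (k x : ℂ) * g x = 0 :=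
      Finset.sum_eq_zero (fun x hx => by rw [hz x hx]; simp)
    rw [this, hko]
    push_cast
    ring
  have ha' := three (fun x => (d x : ℂ))
  have hb' := three τ
  have hc' := three (fun x => (τ x) ^ 2 / (d x : ℂ))
  have hc2 : ∑ x ∈ B, (k x : ℂ) * ((τ x) ^ 2 / (d x : ℂ)) = 0 := by
    rw [← hc]; apply Finset.sum_congr rfl; intro x _; ring
  rw [ha] at ha'
  rw [hb] at hb'
  rw [hc2] at hc'
  rw [hdo] at ha' hc'
  rw [hτo] at hb' hc'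
  have hdi := hd i hiB
  have hdj := hd j hjB
  have hdiC : (d i : ℂ) ≠ 0 := by exact_mod_cast hdi.ne'
  have hdjC : (d j : ℂ) ≠ 0 := by exact_mod_cast hdj.ne'
  rcases hki with hki | hki <;> rcases hkj with hkj | hkj <;> rw [hki, hkj] at ha' hb' hc'
  · -- (+,+)
    exfalso
    have : ((1 + d i + d j : ℕ) : ℂ) = 0 := by push_cast; push_cast at ha'; linear_combination -ha'
    have h2 : (1 + d i + d j : ℕ) = 0 := by exact_mod_cast this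
    omega
  · -- (+,-): d j = d i + 1
    refine ⟨i, hiB, hio, ?_⟩
    push_cast at ha' hb' hc'
    have e1 : (d j : ℂ) = d i + 1 := by linear_combination ha'
    have e2 : τ j = τ i + 1 := by linear_combination hb'
    rw [e1, e2] at hc'
    have hdj' : (d i : ℂ) + 1 ≠ 0 := by rw [← e1]; exact hdjC
    have h3 : ((d i : ℂ) - τ i) ^ 2 = 0 := by
      field_simp at hc'
      linear_combination -hc'
    have h4 : (d i : ℂ) - τ i = 0 := pow_eq_zero_iff (two_ne_zero) |>.mp h3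
    linear_combination -h4
  · -- (-,+): d i = d j + 1
    refine ⟨j, hjB, hjo, ?_⟩
    push_cast at ha' hb' hc'
    have e1 : (d i : ℂ) = d j + 1 := by linear_combination ha'
    have e2 : τ i = τ j + 1 := by linear_combination hb'
    rw [e1, e2] at hc'
    have hdi' : (d j : ℂ) + 1 ≠ 0 := by rw [← e1]; exact hdiC
    have h3 : ((d j : ℂ) - τ j) ^ 2 = 0 := by
      field_simp at hc'
      linear_combination -hc'
    have h4 : (d j : ℂ) - τ j = 0 := pow_eq_zero_iff (two_ne_zero) |>.mp h3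
    linear_combination -h4
  · -- (-,-)
    exfalso
    have : ((d i + d j : ℕ) : ℂ) = ((1 : ℕ) : ℂ) := by push_cast; push_cast at ha'; linear_combination ha'
    have h2 : (d i + d j : ℕ) = 1 := by exact_mod_cast this
    omega

/-- **Norm four, two orthogonal columns.** -/
theorem norm_four_two (B : Finset ι) (o : ι) (ho : o ∈ B)
    (δ δ' c : ι → ℤ)
    (hδo : δ o = 1) (hδ'o : δ' o = 1) (hco : c o = 0)
    (hpar : ∀ i ∈ B, (δ i - δ' i) % 2 = 0)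
    (hn : ∑ i ∈ B, δ i ^ 2 = 4) (hn' : ∑ i ∈ B, δ' i ^ 2 = 4)
    (horth : ∑ i ∈ B, δ i * δ' i = 0)
    (hb : ∑ i ∈ B, δ i * c i = 0) (hb' : ∑ i ∈ B, δ' i * c i = 0) :
    ∃ i ∈ B, i ≠ o ∧ c i = 0 := by
  have e1 := Finset.add_sum_erase B (fun j => δ j ^ 2) ho
  have e2 := Finset.add_sum_erase B (fun j => δ' j ^ 2) ho
  have e3 := Finset.add_sum_erase B (fun j => δ j * δ' j) ho
  have e4 := Finset.add_sum_erase B (fun j => δ j * c j) ho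
  have e5 := Finset.add_sum_erase B (fun j => δ' j * c j) ho
  simp only [hδo, hδ'o, hco] at e1 e2 e3 e4 e5
  rw [hn] at e1
  rw [hn'] at e2
  rw [horth] at e3
  rw [hb] at e4
  rw [hb'] at e5
  set T := B.erase o with hT
  have hT1 : ∑ j ∈ T, δ j ^ 2 = 3 := by omega
  have hT2 : ∑ j ∈ T, δ' j ^ 2 = 3 := by omega
  have hT3 : ∑ j ∈ T, δ j * δ' j = -1 := by omega
  have hT4 : ∑ j ∈ T, δ j * c j = 0 := by omega
  have hT5 : ∑ j ∈ T, δ' j * c j = 0 := by omega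
  -- ranges
  have hr : ∀ j ∈ T, -1 ≤ δ j ∧ δ j ≤ 1 := by
    intro j hj
    have h1 := Finset.add_sum_erase T (fun j => δ j ^ 2) hj
    have h2 := sum_sq_nonneg (T.erase j) δ
    have h3 : δ j ^ 2 ≤ 3 := by omega
    constructor <;> nlinarith
  have hr' : ∀ j ∈ T, -1 ≤ δ' j ∧ δ' j ≤ 1 := by
    intro j hj
    have h1 := Finset.add_sum_erase T (fun j => δ' j ^ 2) hj
    have h2 := sum_sq_nonneg (T.erase j) δ'
    have h3 : δ' j ^ 2 ≤ 3 := by omega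
    constructor <;> nlinarith
  -- f = (δ + δ')²
  have hf : ∑ j ∈ T, (δ j + δ' j) ^ 2 = 4 := by
    have : ∀ j, (δ j + δ' j) ^ 2 = δ j ^ 2 + δ' j ^ 2 + 2 * (δ j * δ' j) := fun j => by ring
    simp_rw [this]
    rw [Finset.sum_add_distrib, Finset.sum_add_distrib, ← Finset.mul_sum, hT1, hT2, hT3]
    norm_num
  have hfv : ∀ j ∈ T, δ j + δ' j = 0 ∨ (δ j + δ' j) ^ 2 = 4 := by
    intro j hj
    have h1 := hr j hj
    have h2 := hr' j hj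
    have h3 := hpar j (Finset.mem_of_mem_erase hj)
    have h4 : δ j + δ' j = 0 ∨ δ j + δ' j = 2 ∨ δ j + δ' j = -2 := by omega
    rcases h4 with h | h | h
    · left; exact h
    · right; rw [h]; norm_num
    · right; rw [h]; norm_num
  obtain ⟨i, hi, hne⟩ := exists_ne_zero_of_sum_sq_pos T (fun j => δ j + δ' j) (by
    rw [hf]; norm_num)
  have hi4 : (δ i + δ' i) ^ 2 = 4 := (hfv i hi).resolve_left hne
  have h6 := Finset.add_sum_erase T (fun j => (δ j + δ' j) ^ 2) hi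
  rw [hf, hi4] at h6
  have h7 : ∑ j ∈ T.erase i, (δ j + δ' j) ^ 2 = 0 := by omega
  have hz := eq_zero_of_sum_sq_eq_zero (T.erase i) (fun j => δ j + δ' j) h7
  have h8 : ∑ j ∈ T, (δ j + δ' j) * c j = 0 := by
    have : ∀ j, (δ j + δ' j) * c j = δ j * c j + δ' j * c j := fun j => by ring
    simp_rw [this]
    rw [Finset.sum_add_distrib, hT4, hT5]
    norm_num
  rw [← Finset.add_sum_erase T _ hi] at h8
  have h9 : ∑ j ∈ T.erase i, (δ j + δ' j) * c j = 0 :=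
    Finset.sum_eq_zero (fun j hj => by rw [hz j hj]; ring)
  rw [h9, add_zero] at h8
  refine ⟨i, Finset.mem_of_mem_erase hi, Finset.ne_of_mem_erase hi, ?_⟩
  exact (mul_eq_zero.mp h8).resolve_left hne

/-- the key fact modulo 4 behind the descent -/
theorem descent_mod4 : ∀ a b : ZMod 4, (a * 3 - b * 3) ^ 2 = a ^ 2 * 3 + b ^ 2 * 3 →
    (a = 0 ∨ a = 2) ∧ (b = 0 ∨ b = 2) := by decide

theorem stage1_mod4 : ∀ a b : ZMod 4,
    (a * (2 * b - 1) - b * (2 * a - 1)) ^ 2 = a ^ 2 * (2 * b - 1) + b ^ 2 * (2 * a - 1) →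
    (a = 0 ∨ a = 2) ∧ (b = 0 ∨ b = 2) := by decide

theorem even_of_cast_zmod4 (c : ℤ) (h : (c : ZMod 4) = 0 ∨ (c : ZMod 4) = 2) : 2 ∣ c := by
  rcases h with h | h
  · have h1 : (4 : ℤ) ∣ c := by
      have := (ZMod.intCast_zmod_eq_zero_iff_dvd c 4).mp h
      exact_mod_cast this
    omega
  · have h1 : ((c - 2 : ℤ) : ZMod 4) = 0 := by push_cast; rw [h]; ring
    have h2 : (4 : ℤ) ∣ c - 2 := by
      have := (ZMod.intCast_zmod_eq_zero_iff_dvd (c - 2) 4).mp h1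
      exact_mod_cast this
    omega

/-- infinite descent -/
theorem descent (n : ℕ) : ∀ c₁ c₂ d₁ d₂ : ℤ, c₁.natAbs + c₂.natAbs = n → d₁ % 4 = 3 → d₂ % 4 = 3 →
    (c₁ * d₂ - c₂ * d₁) ^ 2 = c₁ ^ 2 * d₂ + c₂ ^ 2 * d₁ → c₁ = 0 ∧ c₂ = 0 := by
  induction n using Nat.strong_induction_on with
  | _ n ih =>
    intro c₁ c₂ d₁ d₂ hn hd₁ hd₂ heq
    have hd₁' : (d₁ : ZMod 4) = 3 := by
      have : (4 : ℤ) ∣ d₁ - 3 := by omega
      have h2 := (ZMod.intCast_zmod_eq_zero_iff_dvd (d₁ - 3) 4).mpr (by exact_mod_cast this)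
      push_cast at h2
      linear_combination h2
    have hd₂' : (d₂ : ZMod 4) = 3 := by
      have : (4 : ℤ) ∣ d₂ - 3 := by omega
      have h2 := (ZMod.intCast_zmod_eq_zero_iff_dvd (d₂ - 3) 4).mpr (by exact_mod_cast this)
      push_cast at h2
      linear_combination h2
    have h := congrArg (Int.cast : ℤ → ZMod 4) heq
    push_cast at h
    rw [hd₁', hd₂'] at h
    obtain ⟨h1, h2⟩ := descent_mod4 _ _ h
    obtain ⟨a, ha⟩ := even_of_cast_zmod4 c₁ h1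
    obtain ⟨b, hb⟩ := even_of_cast_zmod4 c₂ h2
    by_cases hzero : c₁ = 0 ∧ c₂ = 0
    · exact hzero
    · have hlt : a.natAbs + b.natAbs < n := by
        rw [← hn, ha, hb, Int.natAbs_mul, Int.natAbs_mul]
        have : a ≠ 0 ∨ b ≠ 0 := by
          by_contra hcon
          push Not at hcon
          apply hzero
          rw [ha, hb, hcon.1, hcon.2]
          simp
        have h3 : 0 < a.natAbs ∨ 0 < b.natAbs := by
          rcases this with h | h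
          · left; exact Int.natAbs_pos.mpr h
          · right; exact Int.natAbs_pos.mpr h
        have e2 : (2 : ℤ).natAbs = 2 := rfl
        rw [e2]
        omega
      have heq' : (a * d₂ - b * d₁) ^ 2 = a ^ 2 * d₂ + b ^ 2 * d₁ := by
        rw [ha, hb] at heq
        have : (4 : ℤ) * ((a * d₂ - b * d₁) ^ 2) = 4 * (a ^ 2 * d₂ + b ^ 2 * d₁) := by
          linear_combination heq
        linarith
      obtain ⟨ha0, hb0⟩ := ih _ hlt a b d₁ d₂ rfl hd₁ hd₂ heq'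
      rw [ha, hb, ha0, hb0]
      simp

/-- the case of two minus signs -/
theorem two_minus (c₁ c₂ d₁ d₂ : ℤ) (hg₁ : (d₁ + 1 - 2 * c₁) % 4 = 0) (hg₂ : (d₂ + 1 - 2 * c₂) % 4 = 0)
    (heq : (c₁ * d₂ - c₂ * d₁) ^ 2 = c₁ ^ 2 * d₂ + c₂ ^ 2 * d₁) : c₁ = 0 ∧ c₂ = 0 := by
  have hd₁' : (d₁ : ZMod 4) = 2 * (c₁ : ZMod 4) - 1 := by
    have h2 := (ZMod.intCast_zmod_eq_zero_iff_dvd (d₁ + 1 - 2 * c₁) 4).mpr
      (by exact_mod_cast Int.dvd_of_emod_eq_zero hg₁)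
    push_cast at h2
    linear_combination h2
  have hd₂' : (d₂ : ZMod 4) = 2 * (c₂ : ZMod 4) - 1 := by
    have h2 := (ZMod.intCast_zmod_eq_zero_iff_dvd (d₂ + 1 - 2 * c₂) 4).mpr
      (by exact_mod_cast Int.dvd_of_emod_eq_zero hg₂)
    push_cast at h2
    linear_combination h2
  have h := congrArg (Int.cast : ℤ → ZMod 4) heq
  push_cast at h
  rw [hd₁', hd₂'] at h
  obtain ⟨h1, h2⟩ := stage1_mod4 _ _ h
  obtain ⟨a, ha⟩ := even_of_cast_zmod4 c₁ h1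
  obtain ⟨b, hb⟩ := even_of_cast_zmod4 c₂ h2
  have e1 : d₁ % 4 = 3 := by rw [ha] at hg₁; omega
  have e2 : d₂ % 4 = 3 := by rw [hb] at hg₂; omega
  exact descent _ c₁ c₂ d₁ d₂ rfl e1 e2 heq

/-- the case of two plus signs -/
theorem two_plus (c₁ c₂ d₁ d₂ : ℤ) (hd₁ : 0 < d₁) (hd₂ : 0 < d₂)
    (heq : c₁ ^ 2 * d₂ * (d₁ + d₂ + 1) + c₂ ^ 2 * d₁ * (d₁ + d₂ + 1) = (c₁ + c₂) ^ 2 * d₁ * d₂) :
    c₁ = 0 ∧ c₂ = 0 := by
  have h1 : (c₁ * d₂ - c₂ * d₁) ^ 2 + c₁ ^ 2 * d₂ + c₂ ^ 2 * d₁ = 0 := by linear_combination heq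
  have h2 : 0 ≤ c₁ ^ 2 * d₂ := mul_nonneg (sq_nonneg _) hd₂.le
  have h3 : 0 ≤ c₂ ^ 2 * d₁ := mul_nonneg (sq_nonneg _) hd₁.le
  have h4 : 0 ≤ (c₁ * d₂ - c₂ * d₁) ^ 2 := sq_nonneg _
  have h5 : c₁ ^ 2 * d₂ = 0 := by linarith
  have h6 : c₂ ^ 2 * d₁ = 0 := by linarith
  constructor
  · rcases mul_eq_zero.mp h5 with h | h
    · exact pow_eq_zero_iff (two_ne_zero) |>.mp h
    · omega
  · rcases mul_eq_zero.mp h6 with h | h
    · exact pow_eq_zero_iff (two_ne_zero) |>.mp h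
    · omega

/-- the core three-term analysis -/
theorem core3 (δ₁ δ₂ δ₃ d₁ d₂ d₃ c₁ c₂ c₃ : ℤ)
    (hδ₁ : δ₁ = 1 ∨ δ₁ = -1) (hδ₂ : δ₂ = 1 ∨ δ₂ = -1) (hδ₃ : δ₃ = 1 ∨ δ₃ = -1)
    (hd₁ : 0 < d₁) (hd₂ : 0 < d₂) (hd₃ : 0 < d₃)
    (hc₁ : 0 ≤ c₁) (hc₂ : 0 ≤ c₂) (hc₃ : 0 ≤ c₃)
    (ha : 1 + δ₁ * d₁ + δ₂ * d₂ + δ₃ * d₃ = 0) (hb : δ₁ * c₁ + δ₂ * c₂ + δ₃ * c₃ = 0)
    (hc : δ₁ * c₁ ^ 2 * d₂ * d₃ + δ₂ * c₂ ^ 2 * d₁ * d₃ + δ₃ * c₃ ^ 2 * d₁ * d₂ = 0)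
    (hg₁ : (d₁ - δ₁ - 2 * c₁) % 4 = 0) (hg₂ : (d₂ - δ₂ - 2 * c₂) % 4 = 0)
    (hg₃ : (d₃ - δ₃ - 2 * c₃) % 4 = 0) : c₁ = 0 ∨ c₂ = 0 ∨ c₃ = 0 := by
  rcases hδ₁ with rfl | rfl <;> rcases hδ₂ with rfl | rfl <;> rcases hδ₃ with rfl | rfl
  · exfalso; omega
  · -- (+,+,-)
    have e1 : d₃ = d₁ + d₂ + 1 := by omega
    have e2 : c₃ = c₁ + c₂ := by omega
    subst e1; subst e2
    left
    exact (two_plus c₁ c₂ d₁ d₂ hd₁ hd₂ (by linear_combination hc)).1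
  · -- (+,-,+)
    have e1 : d₂ = d₁ + d₃ + 1 := by omega
    have e2 : c₂ = c₁ + c₃ := by omega
    subst e1; subst e2
    left
    exact (two_plus c₁ c₃ d₁ d₃ hd₁ hd₃ (by linear_combination hc)).1
  · -- (+,-,-)
    have e1 : d₁ = d₂ + d₃ - 1 := by omega
    have e2 : c₁ = c₂ + c₃ := by omega
    subst e1; subst e2
    right; left
    exact (two_minus c₂ c₃ d₂ d₃ (by omega) (by omega) (by linear_combination -hc)).1
  · -- (-,+,+)
    have e1 : d₁ = d₂ + d₃ + 1 := by omega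
    have e2 : c₁ = c₂ + c₃ := by omega
    subst e1; subst e2
    right; left
    exact (two_plus c₂ c₃ d₂ d₃ hd₂ hd₃ (by linear_combination hc)).1
  · -- (-,+,-)
    have e1 : d₂ = d₁ + d₃ - 1 := by omega
    have e2 : c₂ = c₁ + c₃ := by omega
    subst e1; subst e2
    left
    exact (two_minus c₁ c₃ d₁ d₃ (by omega) (by omega) (by linear_combination -hc)).1
  · -- (-,-,+)
    have e1 : d₃ = d₁ + d₂ - 1 := by omega
    have e2 : c₃ = c₁ + c₂ := by omega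
    subst e1; subst e2
    left
    exact (two_minus c₁ c₂ d₁ d₂ (by omega) (by omega) (by linear_combination -hc)).1
  · -- (-,-,-)
    left; omega

/-- **Norm four, one column** (all elements of order four conjugate). -/
theorem norm_four_one (B : Finset ι) (o : ι) (ho : o ∈ B)
    (δ d c : ι → ℤ)
    (hd : ∀ i ∈ B, 0 < d i) (hc0 : ∀ i ∈ B, 0 ≤ c i)
    (hδo : δ o = 1) (hdo : d o = 1) (hco : c o = 0)
    (hn : ∑ i ∈ B, δ i ^ 2 = 4)
    (hcong : ∀ i ∈ B, (d i - δ i - 2 * c i) % 4 = 0)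
    (ha : ∑ i ∈ B, δ i * d i = 0)
    (hb : ∑ i ∈ B, δ i * c i = 0)
    (hc : ∑ i ∈ B, (δ i : ℚ) * (c i : ℚ) ^ 2 / (d i : ℚ) = 0) :
    ∃ i ∈ B, i ≠ o ∧ c i = 0 := by
  have h0 := Finset.add_sum_erase B (fun j => δ j ^ 2) ho
  rw [hδo, hn] at h0
  have hT : ∑ j ∈ B.erase o, δ j ^ 2 = 3 := by omega
  obtain ⟨i₁, hi₁, hk₁, hT1⟩ := peel (B.erase o) δ 3 (by norm_num) (by norm_num) hT
  obtain ⟨i₂, hi₂, hk₂, hT2⟩ := peel ((B.erase o).erase i₁) δ (3 - 1) (by norm_num) (by norm_num) hT1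
  obtain ⟨i₃, hi₃, hk₃, hT3⟩ := peel (((B.erase o).erase i₁).erase i₂) δ (3 - 1 - 1) (by norm_num)
    (by norm_num) hT2
  have hz := eq_zero_of_sum_sq_eq_zero _ δ (by rw [hT3]; norm_num)
  have h1B : i₁ ∈ B := Finset.mem_of_mem_erase hi₁
  have h1o : i₁ ≠ o := Finset.ne_of_mem_erase hi₁
  have hi₂' : i₂ ∈ B.erase o := Finset.mem_of_mem_erase hi₂
  have h2B : i₂ ∈ B := Finset.mem_of_mem_erase hi₂'
  have h2o : i₂ ≠ o := Finset.ne_of_mem_erase hi₂'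
  have hi₃' : i₃ ∈ (B.erase o).erase i₁ := Finset.mem_of_mem_erase hi₃
  have hi₃'' : i₃ ∈ B.erase o := Finset.mem_of_mem_erase hi₃'
  have h3B : i₃ ∈ B := Finset.mem_of_mem_erase hi₃''
  have h3o : i₃ ≠ o := Finset.ne_of_mem_erase hi₃''
  have four : ∀ g : ι → ℚ, ∑ x ∈ B, (δ x : ℚ) * g x
      = g o + (δ i₁ : ℚ) * g i₁ + (δ i₂ : ℚ) * g i₂ + (δ i₃ : ℚ) * g i₃ := by
    intro g
    rw [← Finset.add_sum_erase B _ ho, ← Finset.add_sum_erase _ _ hi₁,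
      ← Finset.add_sum_erase _ _ hi₂, ← Finset.add_sum_erase _ _ hi₃]
    have : ∑ x ∈ (((B.erase o).erase i₁).erase i₂).erase i₃, (δ x : ℚ) * g x = 0 :=
      Finset.sum_eq_zero (fun x hx => by rw [hz x hx]; simp)
    rw [this, hδo]
    push_cast
    ring
  have ha' := four (fun x => (d x : ℚ))
  have hb' := four (fun x => (c x : ℚ))
  have hc' := four (fun x => (c x : ℚ) ^ 2 / (d x : ℚ))
  have haQ : ∑ x ∈ B, (δ x : ℚ) * (d x : ℚ) = 0 := by exact_mod_cast ha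
  have hbQ : ∑ x ∈ B, (δ x : ℚ) * (c x : ℚ) = 0 := by exact_mod_cast hb
  have hcQ : ∑ x ∈ B, (δ x : ℚ) * ((c x : ℚ) ^ 2 / (d x : ℚ)) = 0 := by
    rw [← hc]; apply Finset.sum_congr rfl; intro x _; ring
  rw [haQ] at ha'
  rw [hbQ] at hb'
  rw [hcQ] at hc'
  rw [hdo] at ha' hc'
  rw [hco] at hb' hc'
  have hd₁ := hd i₁ h1B
  have hd₂ := hd i₂ h2B
  have hd₃ := hd i₃ h3B
  have hd₁Q : (d i₁ : ℚ) ≠ 0 := by exact_mod_cast hd₁.ne'
  have hd₂Q : (d i₂ : ℚ) ≠ 0 := by exact_mod_cast hd₂.ne'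
  have hd₃Q : (d i₃ : ℚ) ≠ 0 := by exact_mod_cast hd₃.ne'
  have haZ : 1 + δ i₁ * d i₁ + δ i₂ * d i₂ + δ i₃ * d i₃ = 0 := by
    have : ((1 + δ i₁ * d i₁ + δ i₂ * d i₂ + δ i₃ * d i₃ : ℤ) : ℚ) = 0 := by
      push_cast; push_cast at ha'; linear_combination -ha'
    exact_mod_cast this
  have hbZ : δ i₁ * c i₁ + δ i₂ * c i₂ + δ i₃ * c i₃ = 0 := by
    have : ((δ i₁ * c i₁ + δ i₂ * c i₂ + δ i₃ * c i₃ : ℤ) : ℚ) = 0 := by
      push_cast; push_cast at hb'; linear_combination -hb'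
    exact_mod_cast this
  have hcZ : δ i₁ * c i₁ ^ 2 * d i₂ * d i₃ + δ i₂ * c i₂ ^ 2 * d i₁ * d i₃
      + δ i₃ * c i₃ ^ 2 * d i₁ * d i₂ = 0 := by
    have : ((δ i₁ * c i₁ ^ 2 * d i₂ * d i₃ + δ i₂ * c i₂ ^ 2 * d i₁ * d i₃
      + δ i₃ * c i₃ ^ 2 * d i₁ * d i₂ : ℤ) : ℚ) = 0 := by
      push_cast
      push_cast at hc'
      field_simp at hc'
      linear_combination -hc'
    exact_mod_cast this
  rcases core3 (δ i₁) (δ i₂) (δ i₃) (d i₁) (d i₂) (d i₃) (c i₁) (c i₂) (c i₃) hk₁ hk₂ hk₃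
    hd₁ hd₂ hd₃ (hc0 _ h1B) (hc0 _ h2B) (hc0 _ h3B) haZ hbZ hcZ (hcong _ h1B) (hcong _ h2B)
    (hcong _ h3B) with h | h | h
  · exact ⟨i₁, h1B, h1o, h⟩
  · exact ⟨i₂, h2B, h2o, h⟩
  · exact ⟨i₃, h3B, h3o, h⟩

end arith

end Cfsg.Agent.Lib.Helper2.ZS
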