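import Mathlib

/-! Klein four-subgroups: construction from two commuting involutions, and the action of the
normalizer on the three involutions. -/

namespace Cfsg.Agent.Lib.Helper2.FourGroup

variable {X : Type*} [Group X]

/-- the four-subgroup generated by two commuting involutions -/
def fourSub (a b : X) (ha : a * a = 1) (hb : b * b = 1) (hab : a * b = b * a) : Subgroup X where
  carrier := {g | g = 1 ∨ g = a ∨ g = b ∨ g = a * b}
  one_mem' := Or.inl rfl
  mul_mem' := by
    have h1 : a * (a * b) = b := by rw [← mul_assoc, ha, one_mul]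
    have h2 : b * (a * b) = a := by rw [hab, ← mul_assoc, hb, one_mul]
    have h3 : a * b * a = b := by rw [hab, mul_assoc, ha, mul_one]
    have h4 : a * b * b = a := by rw [mul_assoc, hb, mul_one]
    have h5 : a * b * (a * b) = 1 := by rw [mul_assoc, h2, ha]
    rintro g h (rfl | rfl | rfl | rfl) (rfl | rfl | rfl | rfl) <;>
      simp [ha, hb, h1, h2, h3, h4, h5, ← hab]
  inv_mem' := by
    have h2 : b * (a * b) = a := by rw [hab, ← mul_assoc, hb, one_mul]
    have h5 : a * b * (a * b) = 1 := by rw [mul_assoc, h2, ha]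
    rintro g (rfl | rfl | rfl | rfl)
    · left; simp
    · right; left; exact inv_eq_of_mul_eq_one_right ha
    · right; right; left; exact inv_eq_of_mul_eq_one_right hb
    · right; right; right; exact inv_eq_of_mul_eq_one_right h5

theorem mem_fourSub {a b : X} {ha : a * a = 1} {hb : b * b = 1} {hab : a * b = b * a} {g : X} :
    g ∈ fourSub a b ha hb hab ↔ g = 1 ∨ g = a ∨ g = b ∨ g = a * b := Iff.rfl

theorem left_mem_fourSub {a b : X} {ha : a * a = 1} {hb : b * b = 1} {hab : a * b = b * a} :
    a ∈ fourSub a b ha hb hab := Or.inr (Or.inl rfl)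

theorem right_mem_fourSub {a b : X} {ha : a * a = 1} {hb : b * b = 1} {hab : a * b = b * a} :
    b ∈ fourSub a b ha hb hab := Or.inr (Or.inr (Or.inl rfl))

theorem fourSub_le {a b : X} {ha : a * a = 1} {hb : b * b = 1} {hab : a * b = b * a}
    {K : Subgroup X} (haK : a ∈ K) (hbK : b ∈ K) : fourSub a b ha hb hab ≤ K := by
  rintro g (rfl | rfl | rfl | rfl)
  · exact K.one_mem
  · exact haK
  · exact hbK
  · exact K.mul_mem haK hbK

theorem card_fourSub {a b : X} {ha : a * a = 1} {hb : b * b = 1} {hab : a * b = b * a}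
    (ha1 : a ≠ 1) (hb1 : b ≠ 1) (hne : a ≠ b) : Nat.card ↥(fourSub a b ha hb hab) = 4 := by
  have h0 : Nat.card ↥(fourSub a b ha hb hab) = ((fourSub a b ha hb hab : Subgroup X) : Set X).ncard :=
    Nat.card_coe_set_eq _
  have h1 : ((fourSub a b ha hb hab : Subgroup X) : Set X) = {1, a, b, a * b} :=
    Set.ext fun g => Iff.rfl
  have hab1 : a * b ≠ 1 := by
    intro h
    have : a⁻¹ = b := inv_eq_of_mul_eq_one_right h
    have h2 : a⁻¹ = a := inv_eq_of_mul_eq_one_right ha
    exact hne (h2.symm.trans this)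
  have haba : a * b ≠ a := by
    intro h
    exact hb1 (mul_eq_left.mp h)
  have habb : a * b ≠ b := by
    intro h
    exact ha1 (mul_eq_right.mp h)
  rw [h0, h1, Set.ncard_insert_of_notMem, Set.ncard_insert_of_notMem, Set.ncard_insert_of_notMem,
    Set.ncard_singleton]
  · simp only [Set.mem_singleton_iff]
    exact fun h => habb h.symm
  · simp only [Set.mem_insert_iff, Set.mem_singleton_iff, not_or]
    exact ⟨hne, fun h => haba h.symm⟩
  · simp only [Set.mem_insert_iff, Set.mem_singleton_iff, not_or]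
    exact ⟨fun h => ha1 h.symm, fun h => hb1 h.symm, fun h => hab1 h.symm⟩

theorem isKleinFour_fourSub {a b : X} {ha : a * a = 1} {hb : b * b = 1} {hab : a * b = b * a}
    (ha1 : a ≠ 1) (hb1 : b ≠ 1) (hne : a ≠ b) : IsKleinFour ↥(fourSub a b ha hb hab) where
  card_four := card_fourSub ha1 hb1 hne
  exponent_two := by
    haveI : Fact (Nat.Prime 2) := ⟨Nat.prime_two⟩
    apply Nat.dvd_antisymm
    · apply Monoid.exponent_dvd_of_forall_pow_eq_one
      rintro ⟨g, hg⟩
      apply Subtype.ext
      have h2 : b * (a * b) = a := by rw [hab, ← mul_assoc, hb, one_mul]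
      have h5 : a * b * (a * b) = 1 := by rw [mul_assoc, h2, ha]
      show g ^ 2 = 1
      rw [pow_two]
      rcases hg with rfl | rfl | rfl | rfl
      · simp
      · exact ha
      · exact hb
      · exact h5
    · have h : orderOf (⟨a, left_mem_fourSub⟩ : ↥(fourSub a b ha hb hab)) = 2 := by
        apply orderOf_eq_prime
        · apply Subtype.ext
          show a ^ 2 = 1
          rw [pow_two, ha]
        · intro h
          exact ha1 (congrArg Subtype.val h)
      rw [← h]
      exact Monoid.order_dvd_exponent _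

section Klein

variable (U : Subgroup X) [hU : IsKleinFour ↥U]

include hU in
theorem mul_self_of_mem {g : X} (hg : g ∈ U) : g * g = 1 :=
  congrArg Subtype.val (IsKleinFour.mul_self (⟨g, hg⟩ : ↥U))

include hU in
theorem inv_eq_of_mem {g : X} (hg : g ∈ U) : g⁻¹ = g :=
  inv_eq_of_mul_eq_one_right (mul_self_of_mem U hg)

include hU in
theorem orderOf_of_mem {g : X} (hg : g ∈ U) (h1 : g ≠ 1) : orderOf g = 2 := by
  haveI : Fact (Nat.Prime 2) := ⟨Nat.prime_two⟩
  apply orderOf_eq_prime _ h1
  rw [pow_two]; exact mul_self_of_mem U hg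

include hU in
theorem comm_of_mem {a b : X} (ha : a ∈ U) (hb : b ∈ U) : a * b = b * a := by
  have := (IsKleinFour.isMulCommutative (G := ↥U)).is_comm.comm ⟨a, ha⟩ ⟨b, hb⟩
  exact congrArg Subtype.val this

include hU in
theorem mem_cases {a b g : X} (ha : a ∈ U) (hb : b ∈ U) (ha1 : a ≠ 1) (hb1 : b ≠ 1)
    (hab : a ≠ b) (hg : g ∈ U) : g = 1 ∨ g = a ∨ g = b ∨ g = a * b := by
  by_cases h1 : g = 1
  · exact Or.inl h1
  by_cases h2 : g = a
  · exact Or.inr (Or.inl h2)
  by_cases h3 : g = b
  · exact Or.inr (Or.inr (Or.inl h3))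
  right; right; right
  have := IsKleinFour.eq_mul_of_ne_all (x := (⟨a, ha⟩ : ↥U)) (y := ⟨b, hb⟩) (z := ⟨g, hg⟩)
    (fun h => ha1 (congrArg Subtype.val h)) (fun h => hb1 (congrArg Subtype.val h))
    (fun h => hab (congrArg Subtype.val h)) (fun h => h1 (congrArg Subtype.val h))
    (fun h => h2 (congrArg Subtype.val h)) (fun h => h3 (congrArg Subtype.val h))
  exact congrArg Subtype.val this

include hU in
theorem exists_third {a : X} (ha : a ∈ U) : ∃ b ∈ U, b ≠ 1 ∧ b ≠ a := by
  by_contra h
  push Not at h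
  apply IsKleinFour.not_isCyclic (G := ↥U)
  refine ⟨⟨⟨a, ha⟩, fun x => ?_⟩⟩
  by_cases hx : (x : X) = 1
  · have : x = 1 := Subtype.ext hx
    rw [this]; exact Subgroup.one_mem (Subgroup.zpowers (⟨a, ha⟩ : ↥U))
  · have : x = ⟨a, ha⟩ := Subtype.ext (h x x.2 hx)
    rw [this]; exact Subgroup.mem_zpowers _

include hU in
/-- If the normalizer of a four-group fixes one of its involutions, then `|N : C| ≤ 2`. -/
theorem relIndex_of_fixed {a : X} (ha : a ∈ U) (ha1 : a ≠ 1)
    (hfix : ∀ n ∈ Subgroup.normalizer (U : Set X), n * a * n⁻¹ = a) :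
    (Subgroup.centralizer (U : Set X)).relIndex (Subgroup.normalizer (U : Set X)) = 1 ∨
    (Subgroup.centralizer (U : Set X)).relIndex (Subgroup.normalizer (U : Set X)) = 2 := by
  obtain ⟨b, hb, hb1, hba⟩ := exists_third U ha
  have hab : a ≠ b := fun h => hba h.symm
  have hmem : ∀ n ∈ Subgroup.normalizer (U : Set X), ∀ u ∈ U, n * u * n⁻¹ ∈ U :=
    fun n hn u hu => (Subgroup.mem_normalizer_iff.mp hn u).mp hu
  have haa : a * a = 1 := mul_self_of_mem U ha
  -- image of `b`
  have himg : ∀ n ∈ Subgroup.normalizer (U : Set X), n * b * n⁻¹ = b ∨ n * b * n⁻¹ = a * b := by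
    intro n hn
    rcases mem_cases U ha hb ha1 hb1 hab (hmem n hn b hb) with h | h | h | h
    · exfalso
      apply hb1
      have : b = n⁻¹ * (n * b * n⁻¹) * n := by group
      rw [this, h]; group
    · exfalso
      apply hba
      have h2 := hfix n hn
      have : b = n⁻¹ * (n * b * n⁻¹) * n := by group
      rw [this, h]
      nth_rewrite 1 [← h2]
      group
    · exact Or.inl h
    · exact Or.inr h
  have hcent : ∀ n ∈ Subgroup.normalizer (U : Set X), n * b * n⁻¹ = b →
      n ∈ Subgroup.centralizer (U : Set X) := by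
    intro n hn hnb
    rw [Subgroup.mem_centralizer_iff]
    intro u hu
    have hna := hfix n hn
    have e1 : a * n = n * a := by
      calc a * n = (n * a * n⁻¹) * n := by rw [hna]
        _ = n * a := by group
    have e2 : b * n = n * b := by
      calc b * n = (n * b * n⁻¹) * n := by rw [hnb]
        _ = n * b := by group
    rcases mem_cases U ha hb ha1 hb1 hab hu with rfl | rfl | rfl | rfl
    · simp
    · exact e1
    · exact e2
    · rw [mul_assoc, e2, ← mul_assoc, e1, mul_assoc]
  by_cases hall : ∀ n ∈ Subgroup.normalizer (U : Set X), n * b * n⁻¹ = b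
  · left
    rw [Subgroup.relIndex_eq_one]
    exact fun n hn => hcent n hn (hall n hn)
  · right
    push Not at hall
    obtain ⟨n₀, hn₀, hn₀b⟩ := hall
    have hn₀b' : n₀ * b * n₀⁻¹ = a * b := (himg n₀ hn₀).resolve_left hn₀b
    have habb : a * b ≠ b := fun h => ha1 (mul_eq_right.mp h)
    unfold Subgroup.relIndex
    rw [Subgroup.index_eq_two_iff]
    refine ⟨⟨n₀, hn₀⟩, fun n => ?_⟩
    obtain ⟨n, hn⟩ := n
    have hcentb : ∀ g ∈ Subgroup.centralizer (U : Set X), g * b * g⁻¹ = b := by
      intro g hg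
      have := Subgroup.mem_centralizer_iff.mp hg b hb
      rw [← this]; group
    have hprod : (n * n₀) * b * (n * n₀)⁻¹ = n * (a * b) * n⁻¹ := by
      rw [← hn₀b']; group
    have hprod2 : n * (a * b) * n⁻¹ = a * (n * b * n⁻¹) := by
      calc n * (a * b) * n⁻¹ = (n * a * n⁻¹) * (n * b * n⁻¹) := by group
        _ = a * (n * b * n⁻¹) := by rw [hfix n hn]
    rcases himg n hn with h | h
    · -- n centralizes
      right
      refine ⟨?_, ?_⟩
      · rw [Subgroup.mem_subgroupOf]
        exact hcent n hn h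
      · rw [Subgroup.mem_subgroupOf]
        intro hc
        have := hcentb _ hc
        rw [Subgroup.coe_mul] at this
        rw [hprod, hprod2, h] at this
        exact habb this
    · left
      refine ⟨?_, ?_⟩
      · rw [Subgroup.mem_subgroupOf]
        apply hcent _ (Subgroup.mul_mem _ hn hn₀)
        show (n * n₀) * b * (n * n₀)⁻¹ = b
        rw [hprod, hprod2, h, ← mul_assoc, haa, one_mul]
      · rw [Subgroup.mem_subgroupOf]
        intro hc
        have := hcentb _ hc
        rw [h] at this
        exact habb this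

include hU in
/-- If `|N(U) : C(U)|` is neither 1 nor 2, then the involutions of `U` are all conjugate. -/
theorem isConj_of_relIndex
    (h1 : (Subgroup.centralizer (U : Set X)).relIndex (Subgroup.normalizer (U : Set X)) ≠ 1)
    (h2 : (Subgroup.centralizer (U : Set X)).relIndex (Subgroup.normalizer (U : Set X)) ≠ 2)
    {u v : X} (hu : u ∈ U) (hv : v ∈ U) (hu1 : u ≠ 1) (hv1 : v ≠ 1) : IsConj u v := by
  have hmoved : ∀ a ∈ U, a ≠ 1 → ∃ n ∈ Subgroup.normalizer (U : Set X), n * a * n⁻¹ ≠ a := by
    intro a ha ha1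
    by_contra hcon
    push Not at hcon
    rcases relIndex_of_fixed U ha ha1 hcon with h | h
    · exact h1 h
    · exact h2 h
  have hmem : ∀ n ∈ Subgroup.normalizer (U : Set X), ∀ u ∈ U, n * u * n⁻¹ ∈ U :=
    fun n hn u hu => (Subgroup.mem_normalizer_iff.mp hn u).mp hu
  have hne1 : ∀ (n a : X), a ≠ 1 → n * a * n⁻¹ ≠ 1 := by
    intro n a ha h
    apply ha
    have : a = n⁻¹ * (n * a * n⁻¹) * n := by group
    rw [this, h]; group
  by_cases huv : u = v
  · rw [huv]
  obtain ⟨n, hn, hnu⟩ := hmoved u hu hu1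
  obtain ⟨n', hn', hnv⟩ := hmoved v hv hv1
  rcases mem_cases U hu hv hu1 hv1 huv (hmem n hn u hu) with h | h | h | h
  · exact absurd h (hne1 n u hu1)
  · exact absurd h hnu
  · exact isConj_iff.2 ⟨n, h⟩
  · rcases mem_cases U hu hv hu1 hv1 huv (hmem n' hn' v hv) with h' | h' | h' | h'
    · exact absurd h' (hne1 n' v hv1)
    · exact (isConj_iff.2 ⟨n', h'⟩).symm
    · exact absurd h' hnv
    · exact (isConj_iff.2 ⟨n, h⟩).trans (isConj_iff.2 ⟨n', h'⟩).symm

end Klein

section Isolated

/-- an involution commuting with a distinct conjugate is not isolated (Prelude-free form) -/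
theorem not_isolated_aux {u v : X} (huv : Commute u v) (hne : v ≠ u) (hc : IsConj u v)
    (hiso : ∀ g : X, Commute u (g * u * g⁻¹) → g * u * g⁻¹ = u) : False := by
  obtain ⟨c, hc⟩ := isConj_iff.1 hc
  apply hne
  rw [← hc]
  apply hiso
  rw [hc]; exact huv

end Isolated

end Cfsg.Agent.Lib.Helper2.FourGroup
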