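import Mathlib
import Cfsg.Agent.Lib.Helper2.FourGroup

/-!
# Bounding `|N : M|` by a permutation action, with applications to Klein four-subgroups
-/

set_option autoImplicit false

namespace Cfsg.Agent.Lib.Helper2.AutIndex

open Cfsg.Agent.Lib.Helper2.FourGroup

variable {G : Type*} [Group G]

/-- If `N` acts on a finite set `Ω` with kernel `M`, then `|N : M|` divides `|Ω|!`. -/
theorem relIndex_dvd_factorial {N M : Subgroup G} (Ω : Type*) [Finite Ω]
    [MulAction ↥N Ω] (hker : ∀ n : ↥N, (∀ ω : Ω, n • ω = ω) ↔ (n : G) ∈ M) :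
    M.relIndex N ∣ (Nat.card Ω).factorial := by
  have hk : (MulAction.toPermHom ↥N Ω).ker = M.subgroupOf N := by
    ext n
    rw [MonoidHom.mem_ker, Subgroup.mem_subgroupOf, ← hker]
    constructor
    · intro h ω
      have := congrArg (fun σ : Equiv.Perm Ω => σ ω) h
      simpa using this
    · intro h
      ext ω
      simpa using h ω
  unfold Subgroup.relIndex
  rw [← hk, Subgroup.index_ker]
  have := Subgroup.card_subgroup_dvd_card (MulAction.toPermHom ↥N Ω).range
  rwa [Nat.card_perm] at this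

theorem factorial_dvd_six {k : ℕ} (hk : k ≤ 3) : k.factorial ∣ 6 := by
  have : (3 : ℕ).factorial = 6 := by decide
  rw [← this]
  exact Nat.factorial_dvd_factorial hk

theorem factorial_dvd_two {k : ℕ} (hk : k ≤ 2) : k.factorial ∣ 2 := by
  have : (2 : ℕ).factorial = 2 := by decide
  rw [← this]
  exact Nat.factorial_dvd_factorial hk

/-- A normal subgroup `M` of `N` with `|N : M|` dividing 6, and a `2`-element of `N` outside `M`:
the index is 2 or 6. -/
theorem relIndex_two_or_six {M N : Subgroup G} (hMN : M ≤ N)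
    (hnorm : N ≤ Subgroup.normalizer (M : Set G)) (h6 : M.relIndex N ∣ 6)
    (t : G) (htN : t ∈ N) (htM : t ∉ M) (j : ℕ) (ht : t ^ (2 ^ j) = 1) :
    M.relIndex N = 2 ∨ M.relIndex N = 6 := by
  have hdiv : M.relIndex N ∈ Nat.divisors 6 := Nat.mem_divisors.mpr ⟨h6, by norm_num⟩
  have hd : Nat.divisors 6 = {1, 2, 3, 6} := by decide
  rw [hd] at hdiv
  simp only [Finset.mem_insert, Finset.mem_singleton] at hdiv
  rcases hdiv with h | h | h | h
  · exfalso
    rw [Subgroup.relIndex_eq_one] at h
    exact htM (h htN)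
  · exact Or.inl h
  · exfalso
    haveI : (M.subgroupOf N).Normal := (Subgroup.normal_subgroupOf_iff_le_normalizer hMN).mpr hnorm
    have h3 : (⟨t, htN⟩ : ↥N) ^ (M.subgroupOf N).index ∈ M.subgroupOf N :=
      Subgroup.pow_index_mem _ _
    have h3' : (M.subgroupOf N).index = 3 := h
    rw [h3', Subgroup.mem_subgroupOf, Subgroup.coe_pow] at h3
    change t ^ 3 ∈ M at h3
    have hcop : Nat.Coprime 3 (orderOf t) := by
      have hdvd : orderOf t ∣ 2 ^ j := orderOf_dvd_of_pow_eq_one ht
      exact Nat.Coprime.coprime_dvd_right hdvd (Nat.Coprime.pow_right j (by norm_num))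
    obtain ⟨m, hm⟩ := exists_pow_eq_self_of_coprime hcop
    apply htM
    rw [← hm]
    exact M.pow_mem h3 m
  · exact Or.inr h

/-- If `3` divides `|N : M|` (`M ⊴ N`), there is an element of odd order in `N ∖ M`. -/
theorem exists_odd_not_mem [Finite G] {M N : Subgroup G} (hMN : M ≤ N)
    (hnorm : N ≤ Subgroup.normalizer (M : Set G)) (h3 : 3 ∣ M.relIndex N) :
    ∃ n ∈ N, Odd (orderOf n) ∧ n ∉ M := by
  haveI : (M.subgroupOf N).Normal := (Subgroup.normal_subgroupOf_iff_le_normalizer hMN).mpr hnorm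
  haveI : Fact (Nat.Prime 3) := ⟨by norm_num⟩
  have hcard : Nat.card (↥N ⧸ M.subgroupOf N) = M.relIndex N := rfl
  obtain ⟨nb, hnb⟩ := exists_prime_orderOf_dvd_card' (G := ↥N ⧸ M.subgroupOf N) 3
    (by rw [hcard]; exact h3)
  obtain ⟨n, rfl⟩ := QuotientGroup.mk_surjective nb
  obtain ⟨a, b, hb, hab⟩ := Nat.exists_eq_two_pow_mul_odd (orderOf_pos (n : G)).ne'
  refine ⟨(n : G) ^ 2 ^ a, N.pow_mem n.2 _, ?_, ?_⟩
  · have h1 : ((n : G) ^ 2 ^ a) ^ b = 1 := by
      rw [← pow_mul, ← hab, pow_orderOf_eq_one]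
    exact Odd.of_dvd_nat hb (orderOf_dvd_of_pow_eq_one h1)
  · intro hmem
    have h1 : ((n ^ 2 ^ a : ↥N) : ↥N ⧸ M.subgroupOf N) = 1 := by
      rw [QuotientGroup.eq_one_iff, Subgroup.mem_subgroupOf, Subgroup.coe_pow]
      exact hmem
    rw [QuotientGroup.mk_pow] at h1
    have h2 := orderOf_dvd_of_pow_eq_one h1
    rw [hnb] at h2
    have h3' : (3 : ℕ) ∣ 2 := by
      have := (Nat.Prime.dvd_of_dvd_pow (by norm_num : Nat.Prime 3) h2)
      exact this
    omega

/-- An element of odd order whose square lies in a subgroup lies in the subgroup. -/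
theorem mem_of_sq_mem_of_odd {M : Subgroup G} {n : G} (hodd : Odd (orderOf n))
    (h : n ^ 2 ∈ M) : n ∈ M := by
  obtain ⟨m, hm⟩ := hodd
  have : n = (n ^ 2) ^ (m + 1) := by
    rw [← pow_mul]
    have : 2 * (m + 1) = orderOf n + 1 := by rw [hm]; ring
    rw [this, pow_succ, pow_orderOf_eq_one, one_mul]
  rw [this]
  exact M.pow_mem h _

section Four

variable (T : Subgroup G) [hT : IsKleinFour ↥T]

/-- the set of involutions of a subgroup -/
abbrev Invs (T : Subgroup G) : Type _ := {u : ↥T // u ≠ 1}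

/-- conjugation action of the normalizer on the non-identity elements -/
def conjInvs (n : ↥(Subgroup.normalizer (T : Set G))) (u : Invs T) : Invs T :=
  ⟨⟨(n : G) * (u.1 : G) * (n : G)⁻¹, (Subgroup.mem_normalizer_iff.mp n.2 _).mp u.1.2⟩, by
    intro h
    apply u.2
    have h1 : (n : G) * (u.1 : G) * (n : G)⁻¹ = 1 := congrArg Subtype.val h
    apply Subtype.ext
    have h2 : (u.1 : G) = (n : G)⁻¹ * ((n : G) * (u.1 : G) * (n : G)⁻¹) * (n : G) := by group
    rw [h2, h1]; simp⟩

instance invsAction : MulAction ↥(Subgroup.normalizer (T : Set G)) (Invs T) where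
  smul := conjInvs T
  one_smul := by
    intro u
    apply Subtype.ext
    apply Subtype.ext
    show ((1 : ↥(Subgroup.normalizer (T : Set G))) : G) * (u.1 : G) *
      ((1 : ↥(Subgroup.normalizer (T : Set G))) : G)⁻¹ = (u.1 : G)
    simp
  mul_smul := by
    intro a b u
    apply Subtype.ext
    apply Subtype.ext
    show ((a * b : ↥(Subgroup.normalizer (T : Set G))) : G) * (u.1 : G) *
      ((a * b : ↥(Subgroup.normalizer (T : Set G))) : G)⁻¹ =
      (a : G) * ((b : G) * (u.1 : G) * (b : G)⁻¹) * (a : G)⁻¹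
    rw [Subgroup.coe_mul]; group

theorem invs_smul_coe (n : ↥(Subgroup.normalizer (T : Set G))) (u : Invs T) :
    (((n • u : Invs T).1 : ↥T) : G) = (n : G) * (u.1 : G) * (n : G)⁻¹ := rfl

include hT in
/-- `|N(T) : C(T)|` divides 6 for a Klein four-subgroup. -/
theorem four_relIndex_dvd_six :
    (Subgroup.centralizer (T : Set G)).relIndex (Subgroup.normalizer (T : Set G)) ∣ 6 := by
  classical
  haveI : Finite ↥T := Nat.finite_of_card_ne_zero (by rw [IsKleinFour.card_four]; norm_num)
  haveI := Fintype.ofFinite ↥T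
  have hcard : Nat.card (Invs T) = 3 := by
    have h2 : Fintype.card ↥T = 4 := by
      rw [← Nat.card_eq_fintype_card]; exact IsKleinFour.card_four
    have h0 : Nat.card (Invs T) = Nat.card ({x : ↥T | x ≠ 1} : Set ↥T) := rfl
    rw [h0, Nat.card_eq_fintype_card, Set.card_ne_eq, h2]
  have key := relIndex_dvd_factorial (N := Subgroup.normalizer (T : Set G))
    (M := Subgroup.centralizer (T : Set G)) (Invs T) (by
      intro n
      rw [Subgroup.mem_centralizer_iff]
      constructor
      · intro h t ht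
        by_cases ht1 : t = 1
        · rw [ht1]; simp
        · have h1 := h ⟨⟨t, ht⟩, fun h' => ht1 (congrArg Subtype.val h')⟩
          have h2 : (n : G) * t * (n : G)⁻¹ = t := congrArg (fun u : Invs T => ((u.1 : ↥T) : G)) h1
          calc t * (n : G) = ((n : G) * t * (n : G)⁻¹) * (n : G) := by rw [h2]
            _ = (n : G) * t := by group
      · intro h u
        apply Subtype.ext
        apply Subtype.ext
        rw [invs_smul_coe]
        have := h _ u.1.2
        rw [← this]; group)
  rw [hcard] at key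
  exact key

include hT in
/-- An element of odd order of `N(T)` fixing an involution of `T` centralizes `T`. -/
theorem mem_centralizer_of_odd_fix {n : G} (hn : n ∈ Subgroup.normalizer (T : Set G))
    (hodd : Odd (orderOf n)) {u : G} (hu : u ∈ T) (hu1 : u ≠ 1) (hfix : n * u * n⁻¹ = u) :
    n ∈ Subgroup.centralizer (T : Set G) := by
  obtain ⟨v, hv, hv1, hvu⟩ := exists_third T hu
  have huv : u ≠ v := fun h => hvu h.symm
  have hmem : ∀ t ∈ T, n * t * n⁻¹ ∈ T :=
    fun t ht => (Subgroup.mem_normalizer_iff.mp hn t).mp ht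
  have huu : u * u = 1 := mul_self_of_mem T hu
  -- it suffices that `n ^ 2` centralizes
  have key : ∀ m : G, m * u * m⁻¹ = u → m * v * m⁻¹ = v → m ∈ Subgroup.centralizer (T : Set G) := by
    intro m h1 h2
    rw [Subgroup.mem_centralizer_iff]
    intro t ht
    have e1 : u * m = m * u := by
      calc u * m = (m * u * m⁻¹) * m := by rw [h1]
        _ = m * u := by group
    have e2 : v * m = m * v := by
      calc v * m = (m * v * m⁻¹) * m := by rw [h2]
        _ = m * v := by group
    rcases mem_cases T hu hv hu1 hv1 huv ht with rfl | rfl | rfl | rfl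
    · simp
    · exact e1
    · exact e2
    · rw [mul_assoc, e2, ← mul_assoc, e1, mul_assoc]
  rcases mem_cases T hu hv hu1 hv1 huv (hmem v hv) with h | h | h | h
  · exfalso
    apply hv1
    have : v = n⁻¹ * (n * v * n⁻¹) * n := by group
    rw [this, h]; group
  · exfalso
    apply hvu
    have : v = n⁻¹ * (n * v * n⁻¹) * n := by group
    rw [this, h]
    nth_rewrite 1 [← hfix]
    group
  · exact key n hfix h
  · apply mem_of_sq_mem_of_odd hodd
    apply key
    · have : n ^ 2 * u * (n ^ 2)⁻¹ = n * (n * u * n⁻¹) * n⁻¹ := by rw [pow_two]; group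
      rw [this, hfix, hfix]
    · have : n ^ 2 * v * (n ^ 2)⁻¹ = n * (n * v * n⁻¹) * n⁻¹ := by rw [pow_two]; group
      rw [this, h]
      have : n * (u * v) * n⁻¹ = (n * u * n⁻¹) * (n * v * n⁻¹) := by group
      rw [this, hfix, h, ← mul_assoc, huu, one_mul]

end Four

end Cfsg.Agent.Lib.Helper2.AutIndex
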