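import Mathlib
import Cfsg.Agent.Lib.Helper2.AutIndex
import Cfsg.Agent.Lib.Helper7.CharP
import Cfsg.Agent.Lib.Helper7.WeaklyClosed

/-!
# Automizers of quaternion subgroups of order 8

For `Q ≤ G` with `Q ≃* QuaternionGroup 2`: `|N_G(Q) : Q C_G(Q)|` divides 6, and elements of odd
order of `N_G(Q)` normalizing a cyclic subgroup of order 4 of `Q` lie in `Q C_G(Q)`.
-/

set_option autoImplicit false

namespace Cfsg.Agent.Lib.Helper2.QuatAut

open QuaternionGroup Cfsg.Agent.Lib.Helper2.AutIndex Cfsg.Agent.Lib.Helper7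

section Abstract

variable {K : Type*} [Group K] (e : K ≃* QuaternionGroup 2)

theorem ne_one_of {g : K} (hg : g * g ≠ 1) : e g * e g ≠ 1 := by
  intro h
  apply hg
  apply e.injective
  rw [map_mul, h, map_one]

set_option maxRecDepth 100000 in
include e in
theorem k_rel {g h : K} (hg : g * g ≠ 1) (hh : h * h ≠ 1) :
    (h = g ∨ h = g⁻¹) ∨ (h * g * h⁻¹ = g⁻¹ ∧ g * h * g⁻¹ = h⁻¹) := by
  have D : ∀ g h : QuaternionGroup 2, g * g ≠ 1 → h * h ≠ 1 →
      (h = g ∨ h = g⁻¹) ∨ (h * g * h⁻¹ = g⁻¹ ∧ g * h * g⁻¹ = h⁻¹) := by decide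
  rcases D (e g) (e h) (ne_one_of e hg) (ne_one_of e hh) with (h1 | h1) | ⟨h1, h2⟩
  · left; left; exact e.injective h1
  · left; right; apply e.injective; rw [map_inv]; exact h1
  · right
    constructor
    · apply e.injective; rw [map_mul, map_mul, map_inv, map_inv]; exact h1
    · apply e.injective; rw [map_mul, map_mul, map_inv, map_inv]; exact h2

include e in
theorem k_pow_four {g : K} : g * g * (g * g) = 1 := by
  have D : ∀ g : QuaternionGroup 2, g * g * (g * g) = 1 := by decide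
  apply e.injective
  rw [map_mul, map_mul, map_one]
  exact D (e g)

include e in
theorem k_orderOf_iff (g : K) : orderOf g = 4 ↔ g * g ≠ 1 := by
  constructor
  · intro ho h
    have : orderOf g ∣ 2 := orderOf_dvd_of_pow_eq_one (by rw [pow_two]; exact h)
    rw [ho] at this
    omega
  · intro h
    have h4 : g ^ 2 ^ (1 + 1) = 1 := by
      have := k_pow_four e (g := g)
      rw [← pow_two, ← pow_two, ← pow_mul] at this
      exact this
    have h2 : ¬ g ^ 2 ^ 1 = 1 := by rw [pow_one, pow_two]; exact h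
    have := orderOf_eq_prime_pow (p := 2) (n := 1) h2 h4
    simpa using this

set_option maxRecDepth 100000 in
include e in
theorem k_gen {g h : K} (hg : g * g ≠ 1) (hh : h * h ≠ 1) (h1 : h ≠ g) (h2 : h ≠ g⁻¹) (k : K) :
    ∃ i j : ℕ, k = g ^ i * h ^ j := by
  have D : ∀ g h : QuaternionGroup 2, g * g ≠ 1 → h * h ≠ 1 → h ≠ g → h ≠ g⁻¹ →
      ∀ k : QuaternionGroup 2, ∃ i j : Fin 4, k = g ^ (i : ℕ) * h ^ (j : ℕ) := by decide
  obtain ⟨i, j, hij⟩ := D (e g) (e h) (ne_one_of e hg) (ne_one_of e hh)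
    (fun h' => h1 (e.injective h')) (fun h' => h2 (e.injective (by rw [h', map_inv]))) (e k)
  refine ⟨i, j, e.injective ?_⟩
  rw [map_mul, map_pow, map_pow]; exact hij

set_option maxRecDepth 100000 in
include e in
theorem k_three {g h k : K} (hg : g * g ≠ 1) (hh : h * h ≠ 1) (hk : k * k ≠ 1) (h1 : h ≠ g)
    (h2 : h ≠ g⁻¹) :
    (k = g ∨ k = g⁻¹) ∨ (k = h ∨ k = h⁻¹) ∨ (k = g * h ∨ k = (g * h)⁻¹) := by
  have D : ∀ g h k : QuaternionGroup 2, g * g ≠ 1 → h * h ≠ 1 → k * k ≠ 1 → h ≠ g → h ≠ g⁻¹ →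
      (k = g ∨ k = g⁻¹) ∨ (k = h ∨ k = h⁻¹) ∨ (k = g * h ∨ k = (g * h)⁻¹) := by decide
  rcases D (e g) (e h) (e k) (ne_one_of e hg) (ne_one_of e hh) (ne_one_of e hk)
    (fun h' => h1 (e.injective h')) (fun h' => h2 (e.injective (by rw [h', map_inv])))
    with (h3 | h3) | (h3 | h3) | (h3 | h3)
  · left; left; exact e.injective h3
  · left; right; apply e.injective; rw [map_inv]; exact h3
  · right; left; left; exact e.injective h3
  · right; left; right; apply e.injective; rw [map_inv]; exact h3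
  · right; right; left; apply e.injective; rw [map_mul]; exact h3
  · right; right; right; apply e.injective; rw [map_inv, map_mul]; exact h3

include e in
theorem k_prod {g h : K} (hg : g * g ≠ 1) (hh : h * h ≠ 1) (h1 : h ≠ g) (h2 : h ≠ g⁻¹) :
    (g * h) * (g * h) ≠ 1 ∧ g * h ≠ g ∧ g * h ≠ g⁻¹ ∧ g * h ≠ h ∧ g * h ≠ h⁻¹ := by
  have D : ∀ g h : QuaternionGroup 2, g * g ≠ 1 → h * h ≠ 1 → h ≠ g → h ≠ g⁻¹ →
      (g * h) * (g * h) ≠ 1 ∧ g * h ≠ g ∧ g * h ≠ g⁻¹ ∧ g * h ≠ h ∧ g * h ≠ h⁻¹ := by decide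
  obtain ⟨d1, d2, d3, d4, d5⟩ := D (e g) (e h) (ne_one_of e hg) (ne_one_of e hh)
    (fun h' => h1 (e.injective h')) (fun h' => h2 (e.injective (by rw [h', map_inv])))
  refine ⟨?_, ?_, ?_, ?_, ?_⟩
  · intro h'; apply d1; rw [← map_mul, ← map_mul, h', map_one]
  · intro h'; apply d2; rw [← map_mul, h']
  · intro h'; apply d3; rw [← map_mul, h', map_inv]
  · intro h'; apply d4; rw [← map_mul, h']
  · intro h'; apply d5; rw [← map_mul, h', map_inv]

include e in
theorem k_inner {g h : K} (hg : g * g ≠ 1) (hh : h * h ≠ 1) (h1 : h ≠ g) (h2 : h ≠ g⁻¹)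
    {g' h' : K} (hg' : g' = g ∨ g' = g⁻¹) (hh' : h' = h ∨ h' = h⁻¹) :
    ∃ q : K, q * g * q⁻¹ = g' ∧ q * h * q⁻¹ = h' := by
  have D : ∀ g h : QuaternionGroup 2, g * g ≠ 1 → h * h ≠ 1 → h ≠ g → h ≠ g⁻¹ →
      (∃ q, q * g * q⁻¹ = g ∧ q * h * q⁻¹ = h) ∧ (∃ q, q * g * q⁻¹ = g⁻¹ ∧ q * h * q⁻¹ = h) ∧
      (∃ q, q * g * q⁻¹ = g ∧ q * h * q⁻¹ = h⁻¹) ∧
      (∃ q, q * g * q⁻¹ = g⁻¹ ∧ q * h * q⁻¹ = h⁻¹) := by decide
  obtain ⟨⟨q1, a1, b1⟩, ⟨q2, a2, b2⟩, ⟨q3, a3, b3⟩, ⟨q4, a4, b4⟩⟩ :=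
    D (e g) (e h) (ne_one_of e hg) (ne_one_of e hh)
    (fun h' => h1 (e.injective h')) (fun h' => h2 (e.injective (by rw [h', map_inv])))
  have tr : ∀ (q : QuaternionGroup 2) (u u' : K), q * e u * q⁻¹ = e u' →
      e.symm q * u * (e.symm q)⁻¹ = u' := by
    intro q u u' hq
    apply e.injective
    rw [map_mul, map_mul, map_inv, MulEquiv.apply_symm_apply]
    exact hq
  rcases hg' with rfl | rfl <;> rcases hh' with rfl | rfl
  · exact ⟨e.symm q1, tr _ _ _ a1, tr _ _ _ b1⟩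
  · exact ⟨e.symm q3, tr _ _ _ a3, tr _ _ _ (by rw [map_inv]; exact b3)⟩
  · exact ⟨e.symm q2, tr _ _ _ (by rw [map_inv]; exact a2), tr _ _ _ b2⟩
  · exact ⟨e.symm q4, tr _ _ _ (by rw [map_inv]; exact a4), tr _ _ _ (by rw [map_inv]; exact b4)⟩

include e in
theorem k_conj {q g : K} (hg : g * g ≠ 1) : q * g * q⁻¹ = g ∨ q * g * q⁻¹ = g⁻¹ := by
  have D : ∀ q g : QuaternionGroup 2, g * g ≠ 1 → q * g * q⁻¹ = g ∨ q * g * q⁻¹ = g⁻¹ := by
    decide
  rcases D (e q) (e g) (ne_one_of e hg) with h | h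
  · left; apply e.injective; rw [map_mul, map_mul, map_inv]; exact h
  · right; apply e.injective; rw [map_mul, map_mul, map_inv, map_inv]; exact h

include e in
theorem k_exists_pair' : ∃ g h : K, g * g ≠ 1 ∧ h * h ≠ 1 ∧ h ≠ g ∧ h ≠ g⁻¹ := by
  refine ⟨e.symm (a 1), e.symm (xa 0), ?_, ?_, ?_, ?_⟩
  · intro h
    have := congrArg e h
    rw [map_mul, MulEquiv.apply_symm_apply, map_one] at this
    revert this; decide
  · intro h
    have := congrArg e h
    rw [map_mul, MulEquiv.apply_symm_apply, map_one] at this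
    revert this; decide
  · intro h
    have := e.symm.injective h
    revert this; decide
  · intro h
    have := congrArg e h
    rw [map_inv, MulEquiv.apply_symm_apply, MulEquiv.apply_symm_apply] at this
    revert this; decide

include e in
theorem k_swap {g h : K} (hg : g * g ≠ 1) (hh : h * h ≠ 1) (h1 : h ≠ g) (h2 : h ≠ g⁻¹)
    {g' h' : K} (hg' : g' = g ∨ g' = g⁻¹) (hh' : h' = g * h ∨ h' = (g * h)⁻¹) :
    g' * h' = h ∨ g' * h' = h⁻¹ := by
  have D : ∀ g h : QuaternionGroup 2, g * g ≠ 1 → h * h ≠ 1 → h ≠ g → h ≠ g⁻¹ →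
      ∀ g' h' : QuaternionGroup 2, (g' = g ∨ g' = g⁻¹) → (h' = g * h ∨ h' = (g * h)⁻¹) →
      (g' * h' = h ∨ g' * h' = h⁻¹) := by decide
  have hg'' : e g' = e g ∨ e g' = (e g)⁻¹ := by
    rcases hg' with rfl | rfl
    · exact Or.inl rfl
    · exact Or.inr (map_inv e g)
  have hh'' : e h' = e g * e h ∨ e h' = (e g * e h)⁻¹ := by
    rcases hh' with rfl | rfl
    · exact Or.inl (map_mul e g h)
    · right; rw [map_inv, map_mul]
  rcases D (e g) (e h) (ne_one_of e hg) (ne_one_of e hh)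
    (fun h' => h1 (e.injective h')) (fun h' => h2 (e.injective (by rw [h', map_inv])))
    (e g') (e h') hg'' hh'' with h3 | h3
  · left; apply e.injective; rw [map_mul]; exact h3
  · right; apply e.injective; rw [map_mul, map_inv]; exact h3

include e in
theorem k_exists_other {g : K} (hg : g * g ≠ 1) : ∃ h : K, h * h ≠ 1 ∧ h ≠ g ∧ h ≠ g⁻¹ := by
  obtain ⟨a, b, ha, hb, hba, hba'⟩ := k_exists_pair' e
  obtain ⟨p1, p2, p3, p4, p5⟩ := k_prod e ha hb hba hba'
  rcases k_three e ha hb hg hba hba' with (h | h) | (h | h) | (h | h)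
  · refine ⟨b, hb, by rw [h]; exact hba, by rw [h]; exact hba'⟩
  · refine ⟨b, hb, by rw [h]; exact hba', by rw [h, inv_inv]; exact hba⟩
  · refine ⟨a, ha, by rw [h]; exact fun h' => hba h'.symm, ?_⟩
    rw [h]; intro h'; apply hba'; rw [h', inv_inv]
  · refine ⟨a, ha, ?_, by rw [h, inv_inv]; exact fun h' => hba h'.symm⟩
    rw [h]; intro h'; apply hba'; rw [h', inv_inv]
  · refine ⟨a, ha, by rw [h]; exact fun h' => p2 h'.symm, ?_⟩
    rw [h]; intro h'; exact p3 (inv_eq_iff_eq_inv.mp h'.symm)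
  · refine ⟨a, ha, ?_, by rw [h, inv_inv]; exact fun h' => p2 h'.symm⟩
    rw [h]; intro h'; exact p3 (inv_eq_iff_eq_inv.mp h'.symm)

end Abstract

section General

variable {G : Type*} [Group G]

/-- elements of order 4 in a cyclic group generated by an element of order 4 -/
theorem eq_or_eq_inv_of_mem_zpowers {g h : G} (hg : orderOf g = 4) (hh : orderOf h = 4)
    (hmem : h ∈ Subgroup.zpowers g) : h = g ∨ h = g⁻¹ := by
  obtain ⟨k, rfl⟩ := Subgroup.mem_zpowers_iff.mp hmem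
  rw [← zpow_mod_orderOf, hg] at hh ⊢
  have hk : k % ((4 : ℕ) : ℤ) = 0 ∨ k % ((4 : ℕ) : ℤ) = 1 ∨ k % ((4 : ℕ) : ℤ) = 2 ∨
      k % ((4 : ℕ) : ℤ) = 3 := by omega
  rcases hk with h0 | h0 | h0 | h0
  · rw [h0, zpow_zero, orderOf_one] at hh; omega
  · left; rw [h0, zpow_one]
  · exfalso
    rw [h0] at hh
    have h2 : (g ^ (2 : ℤ)) ^ 2 = 1 := by
      rw [← zpow_natCast, ← zpow_mul]
      have : g ^ ((2 : ℤ) * ((2 : ℕ) : ℤ)) = g ^ (4 : ℕ) := by
        rw [← zpow_natCast]; norm_num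
      rw [this, ← hg, pow_orderOf_eq_one]
    have := orderOf_dvd_of_pow_eq_one h2
    rw [hh] at this
    omega
  · right
    rw [h0]
    have : g ^ (3 : ℤ) * g = 1 := by
      have h4 : g ^ (3 : ℤ) * g = g ^ (4 : ℕ) := by
        rw [← zpow_natCast, ← zpow_add_one]; norm_num
      rw [h4, ← hg, pow_orderOf_eq_one]
    exact eq_inv_of_mul_eq_one_left this

theorem orderOf_conj_eq' (c u : G) : orderOf (c * u * c⁻¹) = orderOf u := by
  have : c * u * c⁻¹ = MulAut.conj c u := by simp [MulAut.conj_apply]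
  rw [this, MulEquiv.orderOf_eq]

end General

section Sub

variable {G : Type*} [Group G] (Q : Subgroup G) (e : ↥Q ≃* QuaternionGroup 2)

/-- `M = Q C_G(Q)` -/
abbrev QC : Subgroup G := Q ⊔ Subgroup.centralizer (Q : Set G)

theorem mem_QC_iff (n : G) :
    n ∈ QC Q ↔ ∃ q ∈ Q, ∃ c ∈ Subgroup.centralizer (Q : Set G), n = q * c := by
  have hle : Q ≤ Subgroup.normalizer ((Subgroup.centralizer (Q : Set G) : Subgroup G) : Set G) :=
    Subgroup.le_normalizer.trans (normalizer_le_normalizer_centralizer Q)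
  have h := Subgroup.coe_mul_of_left_le_normalizer_right Q (Subgroup.centralizer (Q : Set G)) hle
  constructor
  · intro hn
    have hn' : n ∈ ((Q ⊔ Subgroup.centralizer (Q : Set G) : Subgroup G) : Set G) := hn
    rw [h, Set.mem_mul] at hn'
    obtain ⟨q, hq, c, hc, rfl⟩ := hn'
    exact ⟨q, hq, c, hc, rfl⟩
  · rintro ⟨q, hq, c, hc, rfl⟩
    exact Subgroup.mul_mem_sup hq hc

theorem QC_le_normalizer : QC Q ≤ Subgroup.normalizer (Q : Set G) :=
  sup_le Subgroup.le_normalizer (Subgroup.centralizer_le_normalizer _)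

theorem normalizer_le_normalizer_QC :
    Subgroup.normalizer (Q : Set G) ≤ Subgroup.normalizer ((QC Q : Subgroup G) : Set G) := by
  refine le_trans ?_ (Subgroup.normalizer_inf_normalizer_le_normalizer_sup Q _)
  exact le_inf le_rfl (normalizer_le_normalizer_centralizer Q)

include e in
/-- **Kernel lemma**: an element of `N_G(Q)` normalizing two distinct cyclic subgroups of order 4
of `Q` lies in `Q C_G(Q)`. -/
theorem mem_QC_of_fix_two {n : G} (g h : ↥Q) (hg : g * g ≠ 1)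
    (hh : h * h ≠ 1) (h1 : h ≠ g) (h2 : h ≠ g⁻¹)
    (hng : n * (g : G) * n⁻¹ ∈ Subgroup.zpowers (g : G))
    (hnh : n * (h : G) * n⁻¹ ∈ Subgroup.zpowers (h : G)) : n ∈ QC Q := by
  have hog : orderOf (g : G) = 4 := by
    rw [Subgroup.orderOf_coe]; exact (k_orderOf_iff e g).2 hg
  have hoh : orderOf (h : G) = 4 := by
    rw [Subgroup.orderOf_coe]; exact (k_orderOf_iff e h).2 hh
  have hg' := eq_or_eq_inv_of_mem_zpowers hog (by rw [orderOf_conj_eq', hog]) hng
  have hh' := eq_or_eq_inv_of_mem_zpowers hoh (by rw [orderOf_conj_eq', hoh]) hnh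
  -- the images as elements of `Q`
  obtain ⟨g', hg'1, hg'2⟩ : ∃ g' : ↥Q, (g' : G) = n * (g : G) * n⁻¹ ∧ (g' = g ∨ g' = g⁻¹) := by
    rcases hg' with h' | h'
    · exact ⟨g, h'.symm, Or.inl rfl⟩
    · exact ⟨g⁻¹, by rw [h']; rfl, Or.inr rfl⟩
  obtain ⟨h', hh'1, hh'2⟩ : ∃ h' : ↥Q, (h' : G) = n * (h : G) * n⁻¹ ∧ (h' = h ∨ h' = h⁻¹) := by
    rcases hh' with h'' | h''
    · exact ⟨h, h''.symm, Or.inl rfl⟩
    · exact ⟨h⁻¹, by rw [h'']; rfl, Or.inr rfl⟩
  obtain ⟨q, hq1, hq2⟩ := k_inner e hg hh h1 h2 hg'2 hh'2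
  have hq1' : (q : G) * (g : G) * (q : G)⁻¹ = n * (g : G) * n⁻¹ := by
    rw [← hg'1, ← hq1]; rfl
  have hq2' : (q : G) * (h : G) * (q : G)⁻¹ = n * (h : G) * n⁻¹ := by
    rw [← hh'1, ← hq2]; rfl
  rw [mem_QC_iff]
  refine ⟨q, q.2, (q : G)⁻¹ * n, ?_, by group⟩
  -- `c = q⁻¹ n` centralizes `g` and `h`
  have cg : Commute ((q : G)⁻¹ * n) (g : G) := by
    unfold Commute SemiconjBy
    have : (q : G)⁻¹ * n * (g : G) = (q : G)⁻¹ * (n * (g : G) * n⁻¹) * n := by group
    rw [this, ← hq1']; group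
  have ch : Commute ((q : G)⁻¹ * n) (h : G) := by
    unfold Commute SemiconjBy
    have : (q : G)⁻¹ * n * (h : G) = (q : G)⁻¹ * (n * (h : G) * n⁻¹) * n := by group
    rw [this, ← hq2']; group
  rw [Subgroup.mem_centralizer_iff]
  intro k hk
  obtain ⟨i, j, hij⟩ := k_gen e hg hh h1 h2 ⟨k, hk⟩
  have hk' : k = (g : G) ^ i * (h : G) ^ j := by
    have := congrArg Subtype.val hij
    simpa using this
  rw [hk']
  exact ((cg.pow_right i).mul_right (ch.pow_right j)).eq.symm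

include e in
/-- Elements of `Q C_G(Q)` normalize every cyclic subgroup of order 4 of `Q`. -/
theorem conj_mem_zpowers_of_mem_QC {n : G} (hn : n ∈ QC Q) (g : ↥Q) (hg : g * g ≠ 1) :
    n * (g : G) * n⁻¹ ∈ Subgroup.zpowers (g : G) := by
  obtain ⟨q, hq, c, hc, rfl⟩ := (mem_QC_iff Q n).1 hn
  have hcg : c * (g : G) * c⁻¹ = (g : G) := by
    have := Subgroup.mem_centralizer_iff.mp hc _ g.2
    rw [← this]; group
  have : q * c * (g : G) * (q * c)⁻¹ = q * (c * (g : G) * c⁻¹) * q⁻¹ := by group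
  rw [this, hcg]
  rcases k_conj e (q := ⟨q, hq⟩) hg with h | h
  · have h' : q * (g : G) * q⁻¹ = (g : G) := congrArg Subtype.val h
    rw [h']; exact Subgroup.mem_zpowers _
  · have h' : q * (g : G) * q⁻¹ = (g : G)⁻¹ := congrArg Subtype.val h
    rw [h']; exact Subgroup.inv_mem _ (Subgroup.mem_zpowers _)

include e in
/-- An element of odd order of `N_G(Q)` normalizing a cyclic subgroup of order 4 of `Q` lies in
`Q C_G(Q)`. -/
theorem mem_QC_of_odd_fix {n : G} (hn : n ∈ Subgroup.normalizer (Q : Set G))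
    (hodd : Odd (orderOf n)) (g : ↥Q) (hg : g * g ≠ 1)
    (hng : n * (g : G) * n⁻¹ ∈ Subgroup.zpowers (g : G)) : n ∈ QC Q := by
  obtain ⟨h, hh, h1, h2⟩ := k_exists_other e hg
  have hog : orderOf (g : G) = 4 := by
    rw [Subgroup.orderOf_coe]; exact (k_orderOf_iff e g).2 hg
  have hoh : orderOf (h : G) = 4 := by
    rw [Subgroup.orderOf_coe]; exact (k_orderOf_iff e h).2 hh
  have hg' := eq_or_eq_inv_of_mem_zpowers hog (by rw [orderOf_conj_eq', hog]) hng
  obtain ⟨g', hg'1, hg'2⟩ : ∃ g' : ↥Q, (g' : G) = n * (g : G) * n⁻¹ ∧ (g' = g ∨ g' = g⁻¹) := by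
    rcases hg' with h' | h'
    · exact ⟨g, h'.symm, Or.inl rfl⟩
    · exact ⟨g⁻¹, by rw [h']; rfl, Or.inr rfl⟩
  have hmem : n * (h : G) * n⁻¹ ∈ Q := (Subgroup.mem_normalizer_iff.mp hn _).mp h.2
  obtain ⟨h', hh'def⟩ : ∃ h' : ↥Q, (h' : G) = n * (h : G) * n⁻¹ := ⟨⟨_, hmem⟩, rfl⟩
  have hh' : h' * h' ≠ 1 := by
    rw [← k_orderOf_iff e, ← Subgroup.orderOf_coe, hh'def, orderOf_conj_eq', hoh]
  have cancel : ∀ a b : G, n * a * n⁻¹ = n * b * n⁻¹ → a = b := by
    intro a b hab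
    have : a = n⁻¹ * (n * a * n⁻¹) * n := by group
    rw [this, hab]; group
  have conj_inv : ∀ a : G, n * a⁻¹ * n⁻¹ = (n * a * n⁻¹)⁻¹ := by intro a; group
  rcases k_three e hg hh hh' h1 h2 with (h3 | h3) | (h3 | h3) | (h3 | h3)
  · -- `n h n⁻¹ = g`
    exfalso
    have e1 : n * (h : G) * n⁻¹ = (g : G) := by rw [← hh'def, h3]
    rcases hg'2 with h4 | h4
    · rw [h4] at hg'1
      exact h1 (Subtype.ext (cancel _ _ (e1.trans hg'1)))
    · rw [h4] at hg'1
      have e2 : n * (g : G)⁻¹ * n⁻¹ = (g : G) := by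
        rw [conj_inv, ← hg'1]; simp
      exact h2 (Subtype.ext (cancel _ _ (e1.trans e2.symm)))
  · exfalso
    have e1 : n * (h : G) * n⁻¹ = (g : G)⁻¹ := by rw [← hh'def, h3]; rfl
    rcases hg'2 with h4 | h4
    · rw [h4] at hg'1
      have e2 : n * (g : G)⁻¹ * n⁻¹ = (g : G)⁻¹ := by rw [conj_inv, ← hg'1]
      exact h2 (Subtype.ext (cancel _ _ (e1.trans e2.symm)))
    · rw [h4] at hg'1
      have e2 : n * (g : G) * n⁻¹ = (g : G)⁻¹ := by rw [← hg'1]; rfl
      exact h1 (Subtype.ext (cancel _ _ (e1.trans e2.symm)))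
  · apply mem_QC_of_fix_two Q e g h hg hh h1 h2 hng
    rw [← hh'def, h3]; exact Subgroup.mem_zpowers _
  · apply mem_QC_of_fix_two Q e g h hg hh h1 h2 hng
    rw [← hh'def, h3]; exact Subgroup.inv_mem _ (Subgroup.mem_zpowers _)
  · -- swap: `n²` fixes both
    apply mem_of_sq_mem_of_odd hodd
    have hP := k_swap e hg hh h1 h2 hg'2 (Or.inl h3)
    have hPc : ((g' * h' : ↥Q) : G) = n * ((g : G) * (h : G)) * n⁻¹ := by
      rw [Subgroup.coe_mul, hg'1, hh'def]; group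
    apply mem_QC_of_fix_two Q e g h hg hh h1 h2
    · have : n ^ 2 * (g : G) * (n ^ 2)⁻¹ = n * (n * (g : G) * n⁻¹) * n⁻¹ := by
        rw [pow_two]; group
      rw [this, ← hg'1]
      rcases hg'2 with h4 | h4
      · rw [h4]; exact hng
      · rw [h4]
        have : n * ((g⁻¹ : ↥Q) : G) * n⁻¹ = (n * (g : G) * n⁻¹)⁻¹ := by
          rw [Subgroup.coe_inv]; group
        rw [this]; exact Subgroup.inv_mem _ hng
    · have : n ^ 2 * (h : G) * (n ^ 2)⁻¹ = n * (n * (h : G) * n⁻¹) * n⁻¹ := by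
        rw [pow_two]; group
      rw [this, ← hh'def, h3, Subgroup.coe_mul, ← hPc]
      rcases hP with h5 | h5
      · rw [h5]; exact Subgroup.mem_zpowers _
      · rw [h5]; exact Subgroup.inv_mem _ (Subgroup.mem_zpowers _)
  · apply mem_of_sq_mem_of_odd hodd
    have hP := k_swap e hg hh h1 h2 hg'2 (Or.inr h3)
    have hPc : ((g' * h' : ↥Q) : G) = n * (g : G) * n⁻¹ * (n * (h : G) * n⁻¹) := by
      rw [Subgroup.coe_mul, hg'1, hh'def]
    apply mem_QC_of_fix_two Q e g h hg hh h1 h2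
    · have : n ^ 2 * (g : G) * (n ^ 2)⁻¹ = n * (n * (g : G) * n⁻¹) * n⁻¹ := by
        rw [pow_two]; group
      rw [this, ← hg'1]
      rcases hg'2 with h4 | h4
      · rw [h4]; exact hng
      · rw [h4]
        have : n * ((g⁻¹ : ↥Q) : G) * n⁻¹ = (n * (g : G) * n⁻¹)⁻¹ := by
          rw [Subgroup.coe_inv]; group
        rw [this]; exact Subgroup.inv_mem _ hng
    · have e3 : n ^ 2 * (h : G) * (n ^ 2)⁻¹ = n * (n * (h : G) * n⁻¹) * n⁻¹ := by
        rw [pow_two]; group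
      have e4 : n * (h : G) * n⁻¹ = ((g : G) * (h : G))⁻¹ := by
        rw [← hh'def, h3]; rfl
      have e5 : n * (n * (h : G) * n⁻¹) * n⁻¹ = ((g' * h' : ↥Q) : G)⁻¹ := by
        calc n * (n * (h : G) * n⁻¹) * n⁻¹ = n * ((g : G) * (h : G))⁻¹ * n⁻¹ := by rw [e4]
          _ = (n * ((g : G) * (h : G)) * n⁻¹)⁻¹ := conj_inv _
          _ = (n * (g : G) * n⁻¹ * (n * (h : G) * n⁻¹))⁻¹ := by congr 1; group
          _ = ((g' * h' : ↥Q) : G)⁻¹ := by rw [hPc]
      rw [e3, e5]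
      rcases hP with h5 | h5
      · rw [h5]; exact Subgroup.inv_mem _ (Subgroup.mem_zpowers _)
      · rw [h5, Subgroup.coe_inv, inv_inv]; exact Subgroup.mem_zpowers _

end Sub

section Action

variable {G : Type*} [Group G] (Q : Subgroup G)

/-- the cyclic subgroups of order 4 of `Q` (generated by the elements of `Q` with `g² ≠ 1`) -/
abbrev Cyc4 (Q : Subgroup G) : Type _ :=
  {X : Subgroup G // ∃ g : ↥Q, g * g ≠ 1 ∧ X = Subgroup.zpowers (g : G)}

/-- conjugation action of `N_G(Q)` on `Cyc4 Q` -/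
def conjCyc4 (n : ↥(Subgroup.normalizer (Q : Set G))) (X : Cyc4 Q) : Cyc4 Q :=
  ⟨X.1.map (MulAut.conj (n : G)).toMonoidHom, by
    obtain ⟨g, hg, hX⟩ := X.2
    have hmem : (n : G) * (g : G) * (n : G)⁻¹ ∈ Q :=
      (Subgroup.mem_normalizer_iff.mp n.2 _).mp g.2
    refine ⟨⟨_, hmem⟩, ?_, ?_⟩
    · intro h
      apply hg
      have h1 : (n : G) * (g : G) * (n : G)⁻¹ * ((n : G) * (g : G) * (n : G)⁻¹) = 1 :=
        congrArg Subtype.val h
      apply Subtype.ext
      show (g : G) * (g : G) = 1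
      have : (g : G) * (g : G) = (n : G)⁻¹ *
          ((n : G) * (g : G) * (n : G)⁻¹ * ((n : G) * (g : G) * (n : G)⁻¹)) * (n : G) := by group
      rw [this, h1]; group
    · rw [hX, MonoidHom.map_zpowers]; rfl⟩

instance cyc4Action : MulAction ↥(Subgroup.normalizer (Q : Set G)) (Cyc4 Q) where
  smul := conjCyc4 Q
  one_smul := by
    intro X
    apply Subtype.ext
    show X.1.map (MulAut.conj ((1 : ↥(Subgroup.normalizer (Q : Set G))) : G)).toMonoidHom = X.1
    rw [Subgroup.coe_one]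
    exact map_conj_one X.1
  mul_smul := by
    intro a b X
    apply Subtype.ext
    show X.1.map (MulAut.conj ((a * b : ↥(Subgroup.normalizer (Q : Set G))) : G)).toMonoidHom =
      (X.1.map (MulAut.conj (b : G)).toMonoidHom).map (MulAut.conj (a : G)).toMonoidHom
    rw [Subgroup.coe_mul, map_conj_map_conj]

theorem cyc4_smul_coe (n : ↥(Subgroup.normalizer (Q : Set G))) (X : Cyc4 Q) :
    ((n • X : Cyc4 Q) : Subgroup G) = X.1.map (MulAut.conj (n : G)).toMonoidHom := rfl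

variable (e : ↥Q ≃* QuaternionGroup 2)

include e in
theorem card_cyc4_le [Finite G] : Nat.card (Cyc4 Q) ≤ 3 := by
  obtain ⟨a, b, ha, hb, hba, hba'⟩ := k_exists_pair' e
  obtain ⟨p1, -⟩ := k_prod e ha hb hba hba'
  let f : Fin 3 → Cyc4 Q := fun i =>
    if i = 0 then ⟨Subgroup.zpowers (a : G), a, ha, rfl⟩
    else if i = 1 then ⟨Subgroup.zpowers (b : G), b, hb, rfl⟩
    else ⟨Subgroup.zpowers ((a * b : ↥Q) : G), a * b, p1, rfl⟩
  have hf : Function.Surjective f := by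
    rintro ⟨X, g, hg, rfl⟩
    rcases k_three e ha hb hg hba hba' with (h | h) | (h | h) | (h | h)
    · exact ⟨0, Subtype.ext (by simp [f, h])⟩
    · exact ⟨0, Subtype.ext (by simp [f, h])⟩
    · exact ⟨1, Subtype.ext (by simp [f, h])⟩
    · exact ⟨1, Subtype.ext (by simp [f, h])⟩
    · exact ⟨2, Subtype.ext (by simp [f, h])⟩
    · refine ⟨2, Subtype.ext ?_⟩
      show Subgroup.zpowers ((a * b : ↥Q) : G) = Subgroup.zpowers (g : G)
      rw [h, Subgroup.coe_inv, Subgroup.zpowers_inv]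
  have := Nat.card_le_card_of_surjective f hf
  simpa using this

include e in
/-- `|N_G(Q) : Q C_G(Q)|` divides 6. -/
theorem quat_relIndex_dvd_six [Finite G] :
    (QC Q).relIndex (Subgroup.normalizer (Q : Set G)) ∣ 6 := by
  have key := relIndex_dvd_factorial (N := Subgroup.normalizer (Q : Set G)) (M := QC Q)
    (Cyc4 Q) (by
      intro n
      constructor
      · intro h
        obtain ⟨a, b, ha, hb, hba, hba'⟩ := k_exists_pair' e
        apply mem_QC_of_fix_two Q e a b ha hb hba hba'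
        · have h1 := congrArg Subtype.val (h ⟨Subgroup.zpowers (a : G), a, ha, rfl⟩)
          rw [cyc4_smul_coe] at h1
          have h2 : (n : G) * (a : G) * (n : G)⁻¹ ∈
              (Subgroup.zpowers (a : G)).map (MulAut.conj (n : G)).toMonoidHom :=
            ⟨a, Subgroup.mem_zpowers _, rfl⟩
          rwa [h1] at h2
        · have h1 := congrArg Subtype.val (h ⟨Subgroup.zpowers (b : G), b, hb, rfl⟩)
          rw [cyc4_smul_coe] at h1
          have h2 : (n : G) * (b : G) * (n : G)⁻¹ ∈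
              (Subgroup.zpowers (b : G)).map (MulAut.conj (n : G)).toMonoidHom :=
            ⟨b, Subgroup.mem_zpowers _, rfl⟩
          rwa [h1] at h2
      · intro h X
        obtain ⟨X, g, hg, rfl⟩ := X
        apply Subtype.ext
        rw [cyc4_smul_coe]
        show (Subgroup.zpowers (g : G)).map (MulAut.conj (n : G)).toMonoidHom = _
        rw [MonoidHom.map_zpowers]
        show Subgroup.zpowers ((n : G) * (g : G) * (n : G)⁻¹) = _
        have hog : orderOf (g : G) = 4 := by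
          rw [Subgroup.orderOf_coe]; exact (k_orderOf_iff e g).2 hg
        have h1 := conj_mem_zpowers_of_mem_QC Q e h g hg
        rcases eq_or_eq_inv_of_mem_zpowers hog (by rw [orderOf_conj_eq', hog]) h1 with h2 | h2
        · rw [h2]
        · rw [h2, Subgroup.zpowers_inv])
  exact key.trans (factorial_dvd_six (card_cyc4_le Q e))

end Action

end Cfsg.Agent.Lib.Helper2.QuatAut
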