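import Mathlib

set_option autoImplicit false

namespace Cfsg.Agent.Lib.Helper2

variable (G : Type*) [CommGroup G]

/-- The `n`-torsion subgroup `{x | x ^ n = 1}` of a commutative group. -/
def torsionSub (n : ℕ) : Subgroup G := (powMonoidHom n : G →* G).ker

variable {G}

theorem mem_torsionSub {n : ℕ} {x : G} : x ∈ torsionSub G n ↔ x ^ n = 1 := by
  unfold torsionSub
  rw [MonoidHom.mem_ker, powMonoidHom_apply]

theorem torsionSub_one : torsionSub G 1 = ⊥ := by
  ext x
  rw [mem_torsionSub, pow_one, Subgroup.mem_bot]

/-- `|G[mn]| ≤ |G[m]| · |G[n]|`. -/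
theorem card_torsionSub_mul_le [Finite G] (m n : ℕ) :
    Nat.card (torsionSub G (m * n)) ≤ Nat.card (torsionSub G m) * Nat.card (torsionSub G n) := by
  let f : torsionSub G (m * n) →* G := (powMonoidHom m : G →* G).comp (torsionSub G (m * n)).subtype
  have h1 : Nat.card f.ker * Nat.card f.range = Nat.card (torsionSub G (m * n)) := by
    rw [← Subgroup.index_ker, Subgroup.card_mul_index]
  have h2 : Nat.card f.range ≤ Nat.card (torsionSub G n) := by
    apply Subgroup.card_le_of_le
    rintro _ ⟨x, rfl⟩
    rw [mem_torsionSub]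
    show ((x : G) ^ m) ^ n = 1
    rw [← pow_mul]
    exact mem_torsionSub.1 x.2
  have h3 : Nat.card f.ker ≤ Nat.card (torsionSub G m) := by
    have : f.ker.map (torsionSub G (m * n)).subtype ≤ torsionSub G m := by
      rintro _ ⟨x, hx, rfl⟩
      rw [mem_torsionSub]
      exact hx
    have h4 := Subgroup.card_le_of_le this
    rwa [Subgroup.card_map_of_injective (Subgroup.subtype_injective _)] at h4
  rw [← h1]
  exact Nat.mul_le_mul h3 h2

/-- If `|G[p]| ≤ p` for all primes `p` then `|G[n]| ≤ n` for all `n > 0`. -/
theorem card_torsionSub_le [Finite G]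
    (h : ∀ p : ℕ, p.Prime → Nat.card (torsionSub G p) ≤ p) :
    ∀ n : ℕ, 0 < n → Nat.card (torsionSub G n) ≤ n := by
  intro n
  induction n using Nat.strong_induction_on with
  | _ n ih =>
    intro hn
    by_cases h1 : n = 1
    · subst h1
      rw [torsionSub_one, Subgroup.card_bot]
    · have hp := Nat.minFac_prime h1
      obtain ⟨k, hk⟩ := Nat.minFac_dvd n
      have hk0 : 0 < k := by
        rcases Nat.eq_zero_or_pos k with h0 | h0
        · rw [h0, mul_zero] at hk; omega
        · exact h0
      have hkn : k < n := by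
        rw [hk]
        have := hp.one_lt
        nlinarith
      calc Nat.card (torsionSub G n) = Nat.card (torsionSub G (n.minFac * k)) := by rw [← hk]
        _ ≤ Nat.card (torsionSub G n.minFac) * Nat.card (torsionSub G k) :=
            card_torsionSub_mul_le _ _
        _ ≤ n.minFac * k := Nat.mul_le_mul (h _ hp) (ih k hkn hk0)
        _ = n := hk.symm

/-- A finite commutative group with at most `p` elements of order dividing `p`, for every
prime `p`, is cyclic. -/
theorem isCyclic_of_card_torsionSub_le [Finite G]
    (h : ∀ p : ℕ, p.Prime → Nat.card (torsionSub G p) ≤ p) : IsCyclic G := by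
  classical
  letI := Fintype.ofFinite G
  apply isCyclic_of_card_pow_eq_one_le
  intro n hn
  have h1 := card_torsionSub_le h n hn
  have h2 : Nat.card (torsionSub G n) = (Finset.univ.filter (fun a : G => a ^ n = 1)).card := by
    rw [Nat.card_eq_fintype_card, Fintype.card_subtype]
    congr 1
  rw [← h2]
  exact h1

/-- A finite non-cyclic commutative group has more than `p` elements of order dividing `p` for
some prime `p`. -/
theorem exists_prime_lt_card_torsionSub [Finite G] (h : ¬ IsCyclic G) :
    ∃ p : ℕ, p.Prime ∧ p < Nat.card (torsionSub G p) := by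
  by_contra hcon
  push Not at hcon
  exact h (isCyclic_of_card_torsionSub_le hcon)

/-- A cyclic group of exponent dividing `n > 0` has at most `n` elements. -/
theorem card_le_of_isCyclic_of_pow_eq_one {H : Type*} [Group H] [Finite H] [IsCyclic H] {n : ℕ}
    (hn : 0 < n) (h : ∀ x : H, x ^ n = 1) : Nat.card H ≤ n := by
  obtain ⟨g, hg⟩ := IsCyclic.exists_generator (α := H)
  rw [← orderOf_eq_card_of_forall_mem_zpowers hg]
  exact Nat.le_of_dvd hn (orderOf_dvd_of_pow_eq_one (h g))

end Cfsg.Agent.Lib.Helper2
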