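import Mathlib

set_option autoImplicit false

namespace Cfsg.Agent.Lib.Helper2

open scoped commutatorElement

variable {G : Type*} [Group G]

/-- Elements `x` with `⁅x, c⁆ ∈ N` for all `c ∈ C`, as a subgroup (`N` normal). -/
def commStab (C N : Subgroup G) [N.Normal] : Subgroup G :=
  (Subgroup.centralizer ((C.map (QuotientGroup.mk' N) : Subgroup (G ⧸ N)) : Set (G ⧸ N))).comap
    (QuotientGroup.mk' N)

theorem mem_commStab {C N : Subgroup G} [N.Normal] {x : G} :
    x ∈ commStab C N ↔ ∀ c ∈ C, ⁅x, c⁆ ∈ N := by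
  unfold commStab
  rw [Subgroup.mem_comap, Subgroup.mem_centralizer_iff]
  constructor
  · intro h c hc
    have := h (QuotientGroup.mk' N c) ⟨c, hc, rfl⟩
    rw [← QuotientGroup.eq_one_iff, commutatorElement_def]
    simp only [QuotientGroup.mk'_apply] at this
    simp only [QuotientGroup.mk_mul, QuotientGroup.mk_inv]
    rw [← this]
    group
  · rintro h _ ⟨c, hc, rfl⟩
    have := h c hc
    rw [← QuotientGroup.eq_one_iff, commutatorElement_def] at this
    simp only [QuotientGroup.mk_mul, QuotientGroup.mk_inv] at this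
    simp only [QuotientGroup.mk'_apply]
    have h2 : (x : G ⧸ N) * (c : G ⧸ N) = (c : G ⧸ N) * (x : G ⧸ N) := by
      have h3 := congrArg (fun t => t * ((c : G ⧸ N) * (x : G ⧸ N))) this
      simpa [mul_assoc] using h3
    exact h2.symm

theorem commutator_le_iff_le_commStab {A C N : Subgroup G} [N.Normal] :
    ⁅A, C⁆ ≤ N ↔ A ≤ commStab C N := by
  rw [Subgroup.commutator_le]
  exact ⟨fun h x hx => mem_commStab.2 (h x hx), fun h x hx => mem_commStab.1 (h hx)⟩

theorem commutator_sup_le {A B C N : Subgroup G} [N.Normal] (hA : ⁅A, C⁆ ≤ N) (hB : ⁅B, C⁆ ≤ N) :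
    ⁅A ⊔ B, C⁆ ≤ N := by
  rw [commutator_le_iff_le_commStab] at *
  exact sup_le hA hB

theorem commutator_sup_le' {A B C N : Subgroup G} [N.Normal] (hA : ⁅C, A⁆ ≤ N) (hB : ⁅C, B⁆ ≤ N) :
    ⁅C, A ⊔ B⁆ ≤ N := by
  rw [Subgroup.commutator_comm] at *
  exact commutator_sup_le hA hB

theorem commutator_iSup_le {ι : Sort*} {A : ι → Subgroup G} {C N : Subgroup G} [N.Normal]
    (hA : ∀ i, ⁅A i, C⁆ ≤ N) : ⁅⨆ i, A i, C⁆ ≤ N := by
  rw [commutator_le_iff_le_commStab]
  exact iSup_le (fun i => commutator_le_iff_le_commStab.1 (hA i))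

theorem commutator_sSup_le {S : Set (Subgroup G)} {C N : Subgroup G} [N.Normal]
    (hA : ∀ A ∈ S, ⁅A, C⁆ ≤ N) : ⁅sSup S, C⁆ ≤ N := by
  rw [commutator_le_iff_le_commStab]
  exact sSup_le (fun A hA' => commutator_le_iff_le_commStab.1 (hA A hA'))

/-- The relative lower central series of a normal subgroup consists of normal subgroups. -/
theorem lowerCentralSeries_normal (H : Subgroup G) [H.Normal] (n : ℕ) :
    (H.lowerCentralSeries n).Normal := by
  induction n with
  | zero => exact (inferInstance : H.Normal)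
  | succ n ih =>
    rw [Subgroup.lowerCentralSeries_succ]
    haveI := ih
    exact Subgroup.commutator_normal _ _

/-- Three subgroups lemma modulo a normal subgroup. -/
theorem commutator_commutator_le_of_rotate {H₁ H₂ H₃ N : Subgroup G} [N.Normal]
    (h1 : ⁅⁅H₂, H₃⁆, H₁⁆ ≤ N) (h2 : ⁅⁅H₃, H₁⁆, H₂⁆ ≤ N) : ⁅⁅H₁, H₂⁆, H₃⁆ ≤ N := by
  have hk : (QuotientGroup.mk' N).ker = N := QuotientGroup.ker_mk' N
  have e : ∀ X : Subgroup G, X ≤ N ↔ X.map (QuotientGroup.mk' N) = ⊥ := by
    intro X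
    rw [Subgroup.map_eq_bot_iff, hk]
  rw [e, Subgroup.map_commutator, Subgroup.map_commutator] at h1 h2 ⊢
  exact Subgroup.commutator_commutator_eq_bot_of_rotate h1 h2

end Cfsg.Agent.Lib.Helper2
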