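import Mathlib
import Cfsg.Prelude.Def_Solvable
import Cfsg.Prelude.Def_OddOrderLocal
import Cfsg.Agent.S4204

set_option autoImplicit false

namespace Cfsg.Agent.Lib.Helper2

open Cfsg

variable {G : Type*} [Group G]

/-- `|HK| · |H ∩ K| = |H| · |K|` when `K` is normal. -/
theorem card_sup_mul_card_inf (H K : Subgroup G) [K.Normal] :
    Nat.card (H ⊔ K : Subgroup G) * Nat.card (H ⊓ K : Subgroup G) = Nat.card H * Nat.card K := by
  have h1 : Nat.card K * K.relIndex (H ⊔ K) = Nat.card (H ⊔ K : Subgroup G) := by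
    rw [← Subgroup.relIndex_bot_left, Subgroup.relIndex_mul_relIndex _ _ _ bot_le le_sup_right,
      Subgroup.relIndex_bot_left]
  have h2 : Nat.card (H ⊓ K : Subgroup G) * K.relIndex H = Nat.card H := by
    rw [← Subgroup.inf_relIndex_left, inf_comm, ← Subgroup.relIndex_bot_left,
      Subgroup.relIndex_mul_relIndex _ _ _ bot_le inf_le_right, Subgroup.relIndex_bot_left]
  rw [← h1, Subgroup.relIndex_sup_right, ← h2]
  ring

theorem card_sup_dvd (H K : Subgroup G) [K.Normal] :
    Nat.card (H ⊔ K : Subgroup G) ∣ Nat.card H * Nat.card K :=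
  Dvd.intro _ (card_sup_mul_card_inf H K)

/-- In a finite group, the join of all subgroups with a sup-closed property has the property. -/
theorem sSup_mem_of_sup_closed [Finite G] (P : Subgroup G → Prop) (hbot : P ⊥)
    (hsup : ∀ A B, P A → P B → P (A ⊔ B)) : P (sSup {N | P N}) := by
  have hs : SupClosed {N : Subgroup G | P N} := fun A hA B hB => hsup A B hA hB
  exact hs.sSup_mem_of_nonempty (Set.toFinite _) ⟨⊥, hbot⟩ le_rfl

/-- The join of all subgroups with an automorphism-invariant property is characteristic. -/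
theorem sSup_characteristic (P : Subgroup G → Prop)
    (hP : ∀ (ϕ : G ≃* G) (N : Subgroup G), P N → P (N.map ϕ.toMonoidHom)) :
    (sSup {N | P N}).Characteristic := by
  rw [Subgroup.characteristic_iff_map_le]
  intro ϕ
  have e : Subgroup.map ϕ.toMonoidHom (sSup {N | P N})
      = ⨆ N : {N : Subgroup G | P N}, Subgroup.map ϕ.toMonoidHom (N : Subgroup G) := by
    rw [sSup_eq_iSup', Subgroup.map_iSup]
  rw [e]
  apply iSup_le
  rintro ⟨N, hN⟩
  exact le_sSup (hP ϕ N hN)

theorem normal_map_equiv (ϕ : G ≃* G) (N : Subgroup G) [hN : N.Normal] :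
    (N.map ϕ.toMonoidHom).Normal :=
  hN.map _ ϕ.surjective

theorem card_map_equiv (ϕ : G ≃* G) (N : Subgroup G) :
    Nat.card (N.map ϕ.toMonoidHom) = Nat.card N :=
  Nat.card_congr (ϕ.subgroupMap N).symm.toEquiv

/-! ### the `p`-core -/

theorem pCore_mem [Finite G] (p : ℕ) :
    (pCore p G).Normal ∧ IsPGroup p (pCore p G) := by
  apply sSup_mem_of_sup_closed (fun N : Subgroup G => N.Normal ∧ IsPGroup p N)
  · exact ⟨inferInstance, IsPGroup.of_bot⟩
  · rintro A B ⟨hA, hA'⟩ ⟨hB, hB'⟩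
    exact ⟨inferInstance, hA'.to_sup_of_normal_right hB'⟩

theorem pCore_isPGroup [Finite G] (p : ℕ) : IsPGroup p (pCore p G) := (pCore_mem p).2

theorem le_pCore {p : ℕ} {N : Subgroup G} [hN : N.Normal] (h : IsPGroup p N) : N ≤ pCore p G :=
  le_sSup ⟨hN, h⟩

theorem pCore_characteristic (p : ℕ) : (pCore p G).Characteristic := by
  apply sSup_characteristic (fun N : Subgroup G => N.Normal ∧ IsPGroup p N)
  rintro ϕ N ⟨hN, hN'⟩
  exact ⟨normal_map_equiv ϕ N, hN'.map _⟩

/-! ### the `p'`-core -/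

theorem pPrimeCore_mem [Finite G] (p : ℕ) :
    (pPrimeCore p G).Normal ∧ (Nat.card (pPrimeCore p G)).Coprime p := by
  apply sSup_mem_of_sup_closed (fun N : Subgroup G => N.Normal ∧ (Nat.card N).Coprime p)
  · exact ⟨inferInstance, by simp⟩
  · rintro A B ⟨hA, hA'⟩ ⟨hB, hB'⟩
    refine ⟨inferInstance, ?_⟩
    exact Nat.Coprime.coprime_dvd_left (card_sup_dvd A B) (Nat.Coprime.mul_left hA' hB')

theorem pPrimeCore_card_coprime [Finite G] (p : ℕ) : (Nat.card (pPrimeCore p G)).Coprime p :=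
  (pPrimeCore_mem p).2

theorem le_pPrimeCore {p : ℕ} {N : Subgroup G} [hN : N.Normal] (h : (Nat.card N).Coprime p) :
    N ≤ pPrimeCore p G :=
  le_sSup ⟨hN, h⟩

theorem pPrimeCore_characteristic (p : ℕ) : (pPrimeCore p G).Characteristic := by
  apply sSup_characteristic (fun N : Subgroup G => N.Normal ∧ (Nat.card N).Coprime p)
  rintro ϕ N ⟨hN, hN'⟩
  exact ⟨normal_map_equiv ϕ N, by rw [card_map_equiv]; exact hN'⟩

/-! ### the `π`-core -/

theorem piCore_mem [Finite G] (π : Set ℕ) :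
    (piCore π G).Normal ∧ ∀ p : ℕ, p.Prime → p ∣ Nat.card (piCore π G) → p ∈ π := by
  apply sSup_mem_of_sup_closed
    (fun N : Subgroup G => N.Normal ∧ ∀ p : ℕ, p.Prime → p ∣ Nat.card N → p ∈ π)
  · refine ⟨inferInstance, ?_⟩
    intro p hp hdvd
    rw [Subgroup.card_bot] at hdvd
    exact absurd (Nat.dvd_one.1 hdvd) hp.one_lt.ne'
  · rintro A B ⟨hA, hA'⟩ ⟨hB, hB'⟩
    refine ⟨inferInstance, ?_⟩
    intro p hp hdvd
    rcases (hp.dvd_mul).1 (hdvd.trans (card_sup_dvd A B)) with h | h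
    · exact hA' p hp h
    · exact hB' p hp h

theorem piCore_pi [Finite G] (π : Set ℕ) :
    ∀ p : ℕ, p.Prime → p ∣ Nat.card (piCore π G) → p ∈ π := (piCore_mem π).2

theorem le_piCore {π : Set ℕ} {N : Subgroup G} [hN : N.Normal]
    (h : ∀ p : ℕ, p.Prime → p ∣ Nat.card N → p ∈ π) : N ≤ piCore π G :=
  le_sSup ⟨hN, h⟩

theorem piCore_characteristic (π : Set ℕ) : (piCore π G).Characteristic := by
  apply sSup_characteristic
    (fun N : Subgroup G => N.Normal ∧ ∀ p : ℕ, p.Prime → p ∣ Nat.card N → p ∈ π)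
  rintro ϕ N ⟨hN, hN'⟩
  exact ⟨normal_map_equiv ϕ N, by rw [card_map_equiv]; exact hN'⟩

/-! ### the Fitting subgroup -/

/-- Fitting's theorem. -/
theorem isNilpotent_sup [Finite G] (H K : Subgroup G) [H.Normal] [K.Normal]
    (hH : Group.IsNilpotent H) (hK : Group.IsNilpotent K) :
    Group.IsNilpotent (H ⊔ K : Subgroup G) := by
  obtain ⟨c, hc⟩ := (Subgroup.isNilpotent_iff_lowerCentralSeries H).1 hH
  obtain ⟨d, hd⟩ := (Subgroup.isNilpotent_iff_lowerCentralSeries K).1 hK
  exact (Subgroup.isNilpotent_iff_lowerCentralSeries _).2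
    ⟨c + d, Cfsg.Agent.S4204.result H K c d hc hd⟩

theorem fittingSubgroup_mem [Finite G] :
    (fittingSubgroup G).Normal ∧ Group.IsNilpotent (fittingSubgroup G) := by
  apply sSup_mem_of_sup_closed (fun N : Subgroup G => N.Normal ∧ Group.IsNilpotent N)
  · exact ⟨inferInstance, inferInstance⟩
  · rintro A B ⟨hA, hA'⟩ ⟨hB, hB'⟩
    exact ⟨inferInstance, isNilpotent_sup A B hA' hB'⟩

theorem fittingSubgroup_normal : (fittingSubgroup G).Normal :=
  Subgroup.sSup_normal _ (fun _ h => h.1)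

theorem fittingSubgroup_isNilpotent [Finite G] : Group.IsNilpotent (fittingSubgroup G) :=
  fittingSubgroup_mem.2

theorem le_fittingSubgroup {N : Subgroup G} [hN : N.Normal] (h : Group.IsNilpotent N) :
    N ≤ fittingSubgroup G :=
  le_sSup ⟨hN, h⟩

theorem fittingSubgroup_characteristic : (fittingSubgroup G).Characteristic := by
  apply sSup_characteristic (fun N : Subgroup G => N.Normal ∧ Group.IsNilpotent N)
  rintro ϕ N ⟨hN, hN'⟩
  refine ⟨normal_map_equiv ϕ N, ?_⟩
  exact (Group.isNilpotent_congr (ϕ.subgroupMap N)).1 hN'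

theorem pCore_le_fittingSubgroup [Finite G] (p : ℕ) [Fact p.Prime] :
    pCore p G ≤ fittingSubgroup G := by
  haveI := (pCore_mem (G := G) p).1
  exact le_fittingSubgroup (pCore_isPGroup p).isNilpotent

end Cfsg.Agent.Lib.Helper2
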