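import Mathlib
import Cfsg.Agent.Lib.Helper2.Cores

set_option autoImplicit false

namespace Cfsg.Agent.Lib.Helper2

variable {G : Type*} [Group G]

/-- `|N : P ∩ N| = |PN : P|` for `N` normal. -/
theorem relIndex_sup_eq_of_normal [Finite G] (P N : Subgroup G) [N.Normal] :
    P.relIndex (P ⊔ N) = P.relIndex N := by
  have h1 := card_sup_mul_card_inf P N
  have h2 : Nat.card P * P.relIndex (P ⊔ N) = Nat.card (P ⊔ N : Subgroup G) := by
    rw [← Subgroup.relIndex_bot_left, Subgroup.relIndex_mul_relIndex _ _ _ bot_le le_sup_left,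
      Subgroup.relIndex_bot_left]
  have h3 : Nat.card (P ⊓ N : Subgroup G) * (P ⊓ N).relIndex N = Nat.card N := by
    rw [← Subgroup.relIndex_bot_left, Subgroup.relIndex_mul_relIndex _ _ _ bot_le inf_le_right,
      Subgroup.relIndex_bot_left]
  rw [Subgroup.inf_relIndex_right] at h3
  rw [← h2, ← h3] at h1
  have h4 : Nat.card P * Nat.card (P ⊓ N : Subgroup G) * P.relIndex (P ⊔ N) =
      Nat.card P * Nat.card (P ⊓ N : Subgroup G) * P.relIndex N := by
    calc _ = Nat.card ↥P * P.relIndex (P ⊔ N) * Nat.card ↥(P ⊓ N) := by ring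
      _ = Nat.card ↥P * (Nat.card ↥(P ⊓ N) * P.relIndex N) := h1
      _ = _ := by ring
  exact Nat.eq_of_mul_eq_mul_left (Nat.mul_pos Nat.card_pos Nat.card_pos) h4

/-- The intersection of a Sylow subgroup with a normal subgroup is a Sylow subgroup of it. -/
theorem exists_sylow_eq_inf_normal [Finite G] {p : ℕ} [Fact p.Prime] (P : Sylow p G)
    (N : Subgroup G) [N.Normal] :
    ∃ Q : Sylow p N, (Q : Subgroup N) = ((P : Subgroup G) ⊓ N).subgroupOf N := by
  have hK : IsPGroup p (((P : Subgroup G) ⊓ N).subgroupOf N) :=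
    (P.2.to_le inf_le_left).comap_subtype
  have hidx : ¬ p ∣ (((P : Subgroup G) ⊓ N).subgroupOf N).index := by
    have : (((P : Subgroup G) ⊓ N).subgroupOf N).index = ((P : Subgroup G) ⊓ N).relIndex N := rfl
    rw [this, Subgroup.inf_relIndex_right, ← relIndex_sup_eq_of_normal]
    intro h
    exact P.not_dvd_index (h.trans (Subgroup.relIndex_dvd_index_of_le le_sup_left))
  exact ⟨hK.toSylow hidx, IsPGroup.toSylow_coe hK hidx⟩

/-- A `p`-subgroup is conjugate into any subgroup of index prime to `p`. -/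
theorem exists_conj_le_of_not_dvd_index [Finite G] {p : ℕ} [Fact p.Prime] {R M : Subgroup G}
    (hR : IsPGroup p R) (hM : ¬ p ∣ M.index) : ∃ g : G, ∀ x ∈ R, g⁻¹ * x * g ∈ M := by
  have hcard : ¬ p ∣ Nat.card (G ⧸ M) := by rwa [← Subgroup.index_eq_card]
  obtain ⟨x, hx⟩ := hR.nonempty_fixed_point_of_prime_not_dvd_card (G ⧸ M) hcard
  obtain ⟨g, rfl⟩ := QuotientGroup.mk_surjective x
  refine ⟨g, ?_⟩
  intro y hy
  have h1 := hx ⟨y, hy⟩
  have h2 : ((⟨y, hy⟩ : R) • (QuotientGroup.mk g : G ⧸ M)) = QuotientGroup.mk (y * g) := rfl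
  rw [h2, QuotientGroup.eq] at h1
  have h3 : g⁻¹ * y⁻¹ * g ∈ M := by simpa [mul_assoc] using h1
  have := M.inv_mem h3
  simpa [mul_assoc] using this

/-- a simple `p`-group is commutative -/
theorem comm_of_simple_of_isPGroup [Finite G] {p : ℕ} [Fact p.Prime] [IsSimpleGroup G]
    (hG : IsPGroup p G) : ∀ a b : G, a * b = b * a := by
  haveI : Nontrivial G := IsSimpleGroup.toNontrivial
  have hc := hG.center_nontrivial
  have hcn : (Subgroup.center G).Normal := inferInstance
  rcases hcn.eq_bot_or_eq_top with h | h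
  · exfalso
    rw [h] at hc
    exact not_nontrivial _ hc
  · intro a b
    have : b ∈ Subgroup.center G := by rw [h]; trivial
    exact (Subgroup.mem_center_iff.1 this a)

end Cfsg.Agent.Lib.Helper2
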