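import Mathlib

/-!
# The "bar" convention: images of subgroups in `N_G(N)/N`

For a subgroup `N` of a group `G` we consider the quotient group `N_G(N)/N` (a type) and, for a
subgroup `H` of `G`, the image `bar N H` of `H ∩ N_G(N)` in it.  All the usual facts about
passing to quotients are then available for subgroups of an ambient group.
-/

set_option autoImplicit false

namespace Cfsg.Agent.Lib.Helper2

open scoped commutatorElement

variable {G : Type*} [Group G]

/-- The quotient group `N_G(N)/N`. -/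
abbrev QuotNorm (N : Subgroup G) : Type _ :=
  ↥(Subgroup.normalizer (N : Set G)) ⧸ N.subgroupOf (Subgroup.normalizer (N : Set G))

/-- The canonical map `N_G(N) → N_G(N)/N`. -/
def barHom (N : Subgroup G) : ↥(Subgroup.normalizer (N : Set G)) →* QuotNorm N :=
  QuotientGroup.mk' _

/-- The image of `H ∩ N_G(N)` in `N_G(N)/N`. -/
def bar (N H : Subgroup G) : Subgroup (QuotNorm N) :=
  (H.subgroupOf (Subgroup.normalizer (N : Set G))).map (barHom N)

/-- The full preimage in `G` of a subgroup of `N_G(N)/N`. -/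
def unbar (N : Subgroup G) (K : Subgroup (QuotNorm N)) : Subgroup G :=
  (K.comap (barHom N)).map (Subgroup.normalizer (N : Set G)).subtype

theorem barHom_surjective (N : Subgroup G) : Function.Surjective (barHom N) :=
  QuotientGroup.mk'_surjective _

theorem ker_barHom (N : Subgroup G) :
    (barHom N).ker = N.subgroupOf (Subgroup.normalizer (N : Set G)) :=
  QuotientGroup.ker_mk' _

theorem barHom_eq_one_iff (N : Subgroup G) (x : ↥(Subgroup.normalizer (N : Set G))) :
    barHom N x = 1 ↔ (x : G) ∈ N := by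
  rw [← MonoidHom.mem_ker, ker_barHom, Subgroup.mem_subgroupOf]

theorem barHom_eq_iff (N : Subgroup G) (x y : ↥(Subgroup.normalizer (N : Set G))) :
    barHom N x = barHom N y ↔ (x : G)⁻¹ * y ∈ N := by
  rw [← inv_mul_eq_one, ← map_inv, ← map_mul, barHom_eq_one_iff]
  rfl

theorem barHom_eq_iff' (N : Subgroup G) (x y : ↥(Subgroup.normalizer (N : Set G))) :
    barHom N x = barHom N y ↔ (x : G) * (y : G)⁻¹ ∈ N := by
  rw [← mul_inv_eq_one, ← map_inv, ← map_mul, barHom_eq_one_iff]
  rfl

theorem mem_bar {N H : Subgroup G} {q : QuotNorm N} :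
    q ∈ bar N H ↔ ∃ h, ∃ hL : h ∈ Subgroup.normalizer (N : Set G), h ∈ H ∧ barHom N ⟨h, hL⟩ = q := by
  constructor
  · rintro ⟨x, hx, rfl⟩
    exact ⟨x.1, x.2, Subgroup.mem_subgroupOf.1 hx, rfl⟩
  · rintro ⟨h, hL, hH, rfl⟩
    exact ⟨⟨h, hL⟩, Subgroup.mem_subgroupOf.2 hH, rfl⟩

theorem barHom_mem_bar {N H : Subgroup G} {x : ↥(Subgroup.normalizer (N : Set G))}
    (hx : (x : G) ∈ H) : barHom N x ∈ bar N H :=
  ⟨x, Subgroup.mem_subgroupOf.2 hx, rfl⟩

theorem barHom_mem_bar_iff {N H : Subgroup G} (hNH : N ≤ H)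
    {x : ↥(Subgroup.normalizer (N : Set G))} : barHom N x ∈ bar N H ↔ (x : G) ∈ H := by
  constructor
  · intro hx
    obtain ⟨h, hL, hH, he⟩ := mem_bar.1 hx
    rw [barHom_eq_iff] at he
    have : (x : G) = h * (h⁻¹ * x) := by group
    rw [this]
    exact H.mul_mem hH (hNH he)
  · exact barHom_mem_bar

theorem bar_mono (N : Subgroup G) {H K : Subgroup G} (h : H ≤ K) : bar N H ≤ bar N K :=
  Subgroup.map_mono (fun _ hx => h hx)

theorem bar_self (N : Subgroup G) : bar N N = ⊥ := by
  rw [eq_bot_iff]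
  intro q hq
  obtain ⟨h, hL, hH, rfl⟩ := mem_bar.1 hq
  rw [Subgroup.mem_bot, barHom_eq_one_iff]
  exact hH

theorem subgroupOf_sup_of_le {L H K : Subgroup G} (hH : H ≤ L) (hK : K ≤ L) :
    (H ⊔ K).subgroupOf L = H.subgroupOf L ⊔ K.subgroupOf L := by
  apply Subgroup.map_injective L.subtype_injective
  rw [Subgroup.map_sup, Subgroup.subgroupOf_map_subtype, Subgroup.subgroupOf_map_subtype,
    Subgroup.subgroupOf_map_subtype, inf_eq_left.2 hH, inf_eq_left.2 hK,
    inf_eq_left.2 (sup_le hH hK)]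

theorem subgroupOf_commutator_of_le {L H K : Subgroup G} (hH : H ≤ L) (hK : K ≤ L) :
    (⁅H, K⁆).subgroupOf L = ⁅H.subgroupOf L, K.subgroupOf L⁆ := by
  apply Subgroup.map_injective L.subtype_injective
  have hc : ⁅H, K⁆ ≤ L := (Subgroup.commutator_mono hH hK).trans (Subgroup.commutator_le_self L)
  rw [Subgroup.map_commutator, Subgroup.subgroupOf_map_subtype, Subgroup.subgroupOf_map_subtype,
    Subgroup.subgroupOf_map_subtype, inf_eq_left.2 hH, inf_eq_left.2 hK, inf_eq_left.2 hc]

theorem bar_sup {N H K : Subgroup G} (hH : H ≤ Subgroup.normalizer (N : Set G))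
    (hK : K ≤ Subgroup.normalizer (N : Set G)) : bar N (H ⊔ K) = bar N H ⊔ bar N K := by
  unfold bar
  rw [subgroupOf_sup_of_le hH hK, Subgroup.map_sup]

theorem bar_commutator {N H K : Subgroup G} (hH : H ≤ Subgroup.normalizer (N : Set G))
    (hK : K ≤ Subgroup.normalizer (N : Set G)) : bar N ⁅H, K⁆ = ⁅bar N H, bar N K⁆ := by
  unfold bar
  rw [subgroupOf_commutator_of_le hH hK, Subgroup.map_commutator]

theorem bar_sup_self {N H : Subgroup G} (hH : H ≤ Subgroup.normalizer (N : Set G)) :
    bar N (H ⊔ N) = bar N H := by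
  rw [bar_sup hH Subgroup.le_normalizer, bar_self, sup_bot_eq]

theorem bar_le_bar_iff {N H K : Subgroup G} (hH : H ≤ Subgroup.normalizer (N : Set G))
    (hK : K ≤ Subgroup.normalizer (N : Set G)) : bar N H ≤ bar N K ↔ H ≤ K ⊔ N := by
  unfold bar
  rw [Subgroup.map_le_map_iff, ker_barHom, ← subgroupOf_sup_of_le hK Subgroup.le_normalizer]
  constructor
  · intro h x hx
    exact Subgroup.mem_subgroupOf.1 (h (Subgroup.mem_subgroupOf.2 hx : (⟨x, hH hx⟩ :
      ↥(Subgroup.normalizer (N : Set G))) ∈ H.subgroupOf _))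
  · intro h x hx
    exact Subgroup.mem_subgroupOf.2 (h (Subgroup.mem_subgroupOf.1 hx))

theorem bar_eq_bot_iff {N H : Subgroup G} (hH : H ≤ Subgroup.normalizer (N : Set G)) :
    bar N H = ⊥ ↔ H ≤ N := by
  rw [← le_bot_iff, ← bar_self N, bar_le_bar_iff hH Subgroup.le_normalizer, sup_idem]

theorem card_bar_dvd [Finite G] {N H : Subgroup G} (hH : H ≤ Subgroup.normalizer (N : Set G)) :
    Nat.card (bar N H) ∣ Nat.card H := by
  have h1 : Nat.card (bar N H) ∣ Nat.card (H.subgroupOf (Subgroup.normalizer (N : Set G))) :=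
    Subgroup.card_map_dvd _ _
  have h2 : Nat.card (H.subgroupOf (Subgroup.normalizer (N : Set G))) = Nat.card H :=
    Nat.card_congr (Subgroup.subgroupOfEquivOfLe hH).toEquiv
  rwa [h2] at h1

theorem bar_le_normalizer {N A H : Subgroup G} (hAH : A ≤ Subgroup.normalizer (H : Set G)) :
    bar N A ≤ Subgroup.normalizer ((bar N H : Subgroup (QuotNorm N)) : Set (QuotNorm N)) := by
  unfold bar
  refine le_trans (Subgroup.map_mono ?_) (Subgroup.le_normalizer_map _)
  refine le_trans ?_ (Subgroup.le_normalizer_comap _)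
  intro x hx
  exact hAH (Subgroup.mem_subgroupOf.1 hx)

theorem bar_le_centralizer_iff {N A H : Subgroup G} (hA : A ≤ Subgroup.normalizer (N : Set G))
    (hH : H ≤ Subgroup.normalizer (N : Set G)) :
    bar N A ≤ Subgroup.centralizer ((bar N H : Subgroup (QuotNorm N)) : Set (QuotNorm N)) ↔
      ⁅A, H⁆ ≤ N := by
  have hc : ⁅A, H⁆ ≤ Subgroup.normalizer (N : Set G) :=
    (Subgroup.commutator_mono hA hH).trans (Subgroup.commutator_le_self _)
  rw [← Subgroup.commutator_eq_bot_iff_le_centralizer, ← bar_commutator hA hH, bar_eq_bot_iff hc]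

theorem isMulCommutative_bar {N H : Subgroup G} (hH : H ≤ Subgroup.normalizer (N : Set G))
    (h : ⁅H, H⁆ ≤ N) : IsMulCommutative (bar N H) := by
  have h1 := (bar_le_centralizer_iff hH hH).2 h
  refine ⟨⟨fun a b => ?_⟩⟩
  apply Subtype.ext
  have := h1 a.2 b b.2
  exact this.symm

theorem isPGroup_bar {N H : Subgroup G} {p : ℕ} (hH : IsPGroup p H) : IsPGroup p (bar N H) := by
  unfold bar
  apply IsPGroup.map
  exact hH.comap_subtype

theorem mem_unbar {N : Subgroup G} {K : Subgroup (QuotNorm N)} {x : G} :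
    x ∈ unbar N K ↔ ∃ hL : x ∈ Subgroup.normalizer (N : Set G), barHom N ⟨x, hL⟩ ∈ K := by
  constructor
  · rintro ⟨y, hy, rfl⟩
    exact ⟨y.2, hy⟩
  · rintro ⟨hL, hx⟩
    exact ⟨⟨x, hL⟩, hx, rfl⟩

theorem unbar_le (N : Subgroup G) (K : Subgroup (QuotNorm N)) :
    unbar N K ≤ Subgroup.normalizer (N : Set G) := by
  intro x hx
  exact (mem_unbar.1 hx).1

theorem le_unbar (N : Subgroup G) (K : Subgroup (QuotNorm N)) : N ≤ unbar N K := by
  intro x hx
  refine mem_unbar.2 ⟨Subgroup.le_normalizer hx, ?_⟩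
  rw [(barHom_eq_one_iff N _).2 hx]
  exact K.one_mem

theorem unbar_mono (N : Subgroup G) {K K' : Subgroup (QuotNorm N)} (h : K ≤ K') :
    unbar N K ≤ unbar N K' := by
  intro x hx
  obtain ⟨hL, hx⟩ := mem_unbar.1 hx
  exact mem_unbar.2 ⟨hL, h hx⟩

theorem bar_unbar (N : Subgroup G) (K : Subgroup (QuotNorm N)) : bar N (unbar N K) = K := by
  apply le_antisymm
  · intro q hq
    obtain ⟨h, hL, hH, rfl⟩ := mem_bar.1 hq
    exact (mem_unbar.1 hH).2
  · intro q hq
    obtain ⟨x, rfl⟩ := barHom_surjective N q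
    exact barHom_mem_bar (mem_unbar.2 ⟨x.2, hq⟩)

theorem unbar_bar {N H : Subgroup G} (hH : H ≤ Subgroup.normalizer (N : Set G)) :
    unbar N (bar N H) = H ⊔ N := by
  apply le_antisymm
  · intro x hx
    obtain ⟨hL, hx⟩ := mem_unbar.1 hx
    rw [← bar_sup_self hH] at hx
    exact (barHom_mem_bar_iff le_sup_right).1 hx
  · refine sup_le ?_ (le_unbar N _)
    intro x hx
    exact mem_unbar.2 ⟨hH hx, barHom_mem_bar hx⟩

theorem unbar_bar_of_le {N H : Subgroup G} (hNH : N ≤ H)
    (hH : H ≤ Subgroup.normalizer (N : Set G)) : unbar N (bar N H) = H := by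
  rw [unbar_bar hH, sup_eq_left.2 hNH]

theorem card_unbar [Finite G] (N : Subgroup G) (K : Subgroup (QuotNorm N)) :
    Nat.card (unbar N K) = Nat.card K * Nat.card N := by
  have h1 : Nat.card (unbar N K) = Nat.card (K.comap (barHom N)) := by
    unfold unbar
    exact Nat.card_congr
      ((K.comap (barHom N)).equivMapOfInjective _ (Subgroup.subtype_injective _)).toEquiv.symm
  have h2 : Nat.card (K.comap (barHom N)) = Nat.card K * Nat.card (barHom N).ker := by
    have h3 := Subgroup.card_eq_card_quotient_mul_card_subgroup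
      (((barHom N).ker).subgroupOf (K.comap (barHom N)))
    have h4 : Nat.card (((barHom N).ker).subgroupOf (K.comap (barHom N))) =
        Nat.card (barHom N).ker := by
      apply Nat.card_congr
      exact (Subgroup.subgroupOfEquivOfLe (fun x hx => by
        rw [Subgroup.mem_comap, MonoidHom.mem_ker.1 hx]; exact K.one_mem)).toEquiv
    have hsurj : Function.Surjective ((barHom N).subgroupComap K) :=
      MonoidHom.subgroupComap_surjective_of_surjective _ _ (barHom_surjective N)
    have h5 : Nat.card (↥(K.comap (barHom N)) ⧸ ((barHom N).ker).subgroupOf (K.comap (barHom N)))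
        = Nat.card K := by
      have hker : ((barHom N).subgroupComap K).ker =
          ((barHom N).ker).subgroupOf (K.comap (barHom N)) := by
        ext x
        rw [MonoidHom.mem_ker, Subgroup.mem_subgroupOf, MonoidHom.mem_ker]
        constructor
        · intro h; exact congrArg Subtype.val h
        · intro h; exact Subtype.ext h
      rw [← hker]
      exact Nat.card_congr (QuotientGroup.quotientKerEquivOfSurjective _ hsurj).toEquiv
    rw [h3, h4, h5]
  have h6 : Nat.card (barHom N).ker = Nat.card N := by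
    rw [ker_barHom]
    exact Nat.card_congr (Subgroup.subgroupOfEquivOfLe Subgroup.le_normalizer).toEquiv
  rw [h1, h2, h6]

theorem card_bar_mul [Finite G] {N H : Subgroup G} (hNH : N ≤ H)
    (hH : H ≤ Subgroup.normalizer (N : Set G)) :
    Nat.card (bar N H) * Nat.card N = Nat.card H := by
  rw [← card_unbar, unbar_bar_of_le hNH hH]

end Cfsg.Agent.Lib.Helper2
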