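import Mathlib
import Cfsg.Agent.Lib.Helper2.Bar
import Cfsg.Agent.Lib.Helper1.FrattiniP
import Cfsg.Agent.Lib.Helper1.FrattiniAction
import Cfsg.Agent.Lib.Helper1.CoprimeSylow

/-!
# The Frattini subgroup, centre and derived subgroup of a subgroup, as subgroups of the ambient group
-/

set_option autoImplicit false

namespace Cfsg.Agent.Lib.Helper2

open scoped commutatorElement
open Cfsg.Agent.Lib.Helper1

variable {G : Type*} [Group G]

theorem map_subtype_commutator (P : Subgroup G) :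
    (commutator ↥P).map P.subtype = ⁅P, P⁆ := by
  rw [commutator_def, Subgroup.map_commutator, ← MonoidHom.range_eq_map, Subgroup.range_subtype]

theorem mem_map_subtype_center {P : Subgroup G} {x : G} :
    x ∈ (Subgroup.center ↥P).map P.subtype ↔ x ∈ P ∧ ∀ y ∈ P, y * x = x * y := by
  constructor
  · rintro ⟨z, hz, rfl⟩
    refine ⟨z.2, fun y hy => ?_⟩
    have := Subgroup.mem_center_iff.1 hz ⟨y, hy⟩
    exact congrArg Subtype.val this
  · rintro ⟨hx, h⟩
    refine ⟨⟨x, hx⟩, ?_, rfl⟩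
    show (⟨x, hx⟩ : ↥P) ∈ Subgroup.center ↥P
    rw [Subgroup.mem_center_iff]
    intro g
    exact Subtype.ext (h g g.2)

theorem map_subtype_center_eq (P : Subgroup G) :
    (Subgroup.center ↥P).map P.subtype = P ⊓ Subgroup.centralizer (P : Set G) := by
  ext x
  rw [mem_map_subtype_center, Subgroup.mem_inf, Subgroup.mem_centralizer_iff]
  rfl

theorem commutator_le_map_frattini [Finite G] {p : ℕ} [Fact p.Prime] {P : Subgroup G}
    (hP : IsPGroup p P) : ⁅P, P⁆ ≤ (frattini ↥P).map P.subtype := by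
  rw [← map_subtype_commutator]
  exact Subgroup.map_mono (commutator_le_frattini_of_isPGroup p hP)

theorem pow_mem_map_frattini [Finite G] {p : ℕ} [Fact p.Prime] {P : Subgroup G}
    (hP : IsPGroup p P) {x : G} (hx : x ∈ P) : x ^ p ∈ (frattini ↥P).map P.subtype :=
  ⟨⟨x, hx⟩ ^ p, pow_prime_mem_frattini_of_isPGroup p hP ⟨x, hx⟩, rfl⟩

theorem map_frattini_nongenerating [Finite G] {P K : Subgroup G} (hK : K ≤ P)
    (h : K ⊔ (frattini ↥P).map P.subtype = P) : K = P := by
  have h1 : K.subgroupOf P ⊔ frattini ↥P = ⊤ := by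
    have h2 : ((frattini ↥P).map P.subtype).subgroupOf P = frattini ↥P :=
      Subgroup.comap_map_eq_self_of_injective P.subtype_injective _
    rw [← h2, ← subgroupOf_sup_of_le hK (Subgroup.map_subtype_le _), h]
    exact Subgroup.subgroupOf_self P
  have h3 := frattini_nongenerating h1
  apply le_antisymm hK
  rw [← Subgroup.subgroupOf_eq_top]
  exact h3

theorem map_frattini_lt [Finite G] {P : Subgroup G} (hP : P ≠ ⊥) :
    (frattini ↥P).map P.subtype < P := by
  refine lt_of_le_of_ne (Subgroup.map_subtype_le _) ?_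
  intro h
  apply hP
  have h1 : (⊥ : Subgroup G) ⊔ (frattini ↥P).map P.subtype = P := by rw [bot_sup_eq, h]
  exact (map_frattini_nongenerating bot_le h1).symm

theorem le_normalizer_map_frattini (P : Subgroup G) :
    Subgroup.normalizer (P : Set G) ≤
      Subgroup.normalizer (((frattini ↥P).map P.subtype : Subgroup G) : Set G) :=
  normalizer_le_normalizer_map_characteristic P (frattini ↥P)

theorem le_normalizer_map_center (P : Subgroup G) :
    Subgroup.normalizer (P : Set G) ≤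
      Subgroup.normalizer (((Subgroup.center ↥P).map P.subtype : Subgroup G) : Set G) :=
  normalizer_le_normalizer_map_characteristic P (Subgroup.center ↥P)

/-- If `c = ⁅x, y⁆` commutes with `x` then `⁅x ^ n, y⁆ = c ^ n`. -/
theorem commutatorElement_pow_left {x y : G} (hcx : Commute ⁅x, y⁆ x) (n : ℕ) :
    ⁅x ^ n, y⁆ = ⁅x, y⁆ ^ n := by
  induction n with
  | zero => simp
  | succ n ih =>
    have h1 : ⁅x ^ (n + 1), y⁆ = x * ⁅x ^ n, y⁆ * x⁻¹ * ⁅x, y⁆ := by
      simp only [commutatorElement_def, pow_succ']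
      group
    rw [h1, ih]
    have h2 : x * ⁅x, y⁆ ^ n * x⁻¹ = ⁅x, y⁆ ^ n := by
      rw [← (hcx.pow_left n).eq, mul_inv_cancel_right]
    rw [h2, pow_succ]

/-- `{x ∈ H | x ^ n = 1}` as a subgroup, when the `n`-th power map is multiplicative on `H`. -/
def powKer (H : Subgroup G) (n : ℕ) (hmul : ∀ x ∈ H, ∀ y ∈ H, (x * y) ^ n = x ^ n * y ^ n) :
    Subgroup G where
  carrier := {x | x ∈ H ∧ x ^ n = 1}
  mul_mem' := by
    rintro x y ⟨hx, hx1⟩ ⟨hy, hy1⟩
    exact ⟨H.mul_mem hx hy, by rw [hmul x hx y hy, hx1, hy1, one_mul]⟩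
  one_mem' := ⟨H.one_mem, one_pow n⟩
  inv_mem' := by
    rintro x ⟨hx, hx1⟩
    exact ⟨H.inv_mem hx, by rw [inv_pow, hx1, inv_one]⟩

theorem mem_powKer {H : Subgroup G} {n : ℕ}
    {hmul : ∀ x ∈ H, ∀ y ∈ H, (x * y) ^ n = x ^ n * y ^ n} {x : G} :
    x ∈ powKer H n hmul ↔ x ∈ H ∧ x ^ n = 1 := Iff.rfl

theorem powKer_le {H : Subgroup G} {n : ℕ}
    {hmul : ∀ x ∈ H, ∀ y ∈ H, (x * y) ^ n = x ^ n * y ^ n} : powKer H n hmul ≤ H :=
  fun _ hx => hx.1

theorem le_normalizer_powKer {H : Subgroup G} {n : ℕ}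
    {hmul : ∀ x ∈ H, ∀ y ∈ H, (x * y) ^ n = x ^ n * y ^ n} :
    Subgroup.normalizer (H : Set G) ≤
      Subgroup.normalizer ((powKer H n hmul : Subgroup G) : Set G) := by
  apply le_normalizer_of_conj_mem
  rintro g hg x ⟨hx, hx1⟩
  refine ⟨(Subgroup.mem_normalizer_iff.1 hg x).1 hx, ?_⟩
  rw [conj_pow, hx1, mul_one, mul_inv_cancel]

theorem le_normalizer_commutator {B H K : Subgroup G}
    (hH : B ≤ Subgroup.normalizer (H : Set G)) (hK : B ≤ Subgroup.normalizer (K : Set G)) :
    B ≤ Subgroup.normalizer ((⁅H, K⁆ : Subgroup G) : Set G) := by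
  intro b hb
  rw [Subgroup.mem_normalizer_iff_map_conj_eq, Subgroup.map_commutator,
    Subgroup.mem_normalizer_iff_map_conj_eq.1 (hH hb),
    Subgroup.mem_normalizer_iff_map_conj_eq.1 (hK hb)]

end Cfsg.Agent.Lib.Helper2
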