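import Mathlib
import Cfsg.Prelude.Def_CaseTheorems
import Cfsg.Agent.S4218
import Cfsg.Agent.Lib.Helper2.Cores

/-!
# Dual Hall–Higman Lemma 1.2.3

For a finite `p`-solvable group `X` with `O_p(X) = 1`, `C_X(O_{p'}(X)) ≤ O_{p'}(X)`.
-/

set_option autoImplicit false

namespace Cfsg.Agent.Lib.Helper2

open Cfsg

theorem pCore_quotient_pCore_eq_bot {G : Type*} [Group G] [Finite G] (p : ℕ) [Fact p.Prime] :
    pCore p (G ⧸ pCore p G) = ⊥ := by
  have hsurj : Function.Surjective (QuotientGroup.mk' (pCore p G)) :=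
    QuotientGroup.mk'_surjective _
  have h1 : ((pCore p (G ⧸ pCore p G)).comap (QuotientGroup.mk' (pCore p G))).Normal :=
    (inferInstance : (pCore p (G ⧸ pCore p G)).Normal).comap _
  have h2 : IsPGroup p ((pCore p (G ⧸ pCore p G)).comap (QuotientGroup.mk' (pCore p G))) := by
    apply (pCore_isPGroup (G := G ⧸ pCore p G) p).comap_of_ker_isPGroup
    rw [QuotientGroup.ker_mk']
    exact pCore_isPGroup p
  have h3 := le_pCore (hN := h1) h2
  rw [eq_bot_iff]
  intro y hy
  obtain ⟨g, rfl⟩ := hsurj y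
  have h4 : g ∈ pCore p G := h3 hy
  rw [Subgroup.mem_bot, QuotientGroup.mk'_apply, QuotientGroup.eq_one_iff]
  exact h4

theorem relIndex_dvd_relIndex_of_le_of_normal {G : Type*} [Group G] (H : Subgroup G) [H.Normal]
    {K L : Subgroup G} (hKL : K ≤ L) : H.relIndex K ∣ H.relIndex L := by
  rw [← Subgroup.relIndex_subgroupOf (H := H) hKL]
  exact Subgroup.relIndex_dvd_index_of_normal (H.subgroupOf L) (K.subgroupOf L)

/-- Dual Hall–Higman 1.2.3: in a finite `p`-solvable group with `O_p = 1`, the `p'`-core contains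
its centralizer. -/
theorem centralizer_pPrimeCore_le {X : Type*} [Group X] [Finite X] (p : ℕ) [hp : Fact p.Prime]
    (hX : IsPSolvable p X) (hcore : pCore p X = ⊥) :
    Subgroup.centralizer (pPrimeCore p X : Set X) ≤ pPrimeCore p X := by
  by_contra hCK
  obtain ⟨n, H, h0, hlast, hmono, hnorm, hfac⟩ := hX
  obtain ⟨K, hK⟩ : ∃ K, K = pPrimeCore p X := ⟨_, rfl⟩
  obtain ⟨C, hC⟩ : ∃ C, C = Subgroup.centralizer (K : Set X) := ⟨_, rfl⟩
  rw [← hK, ← hC] at hCK
  haveI hKn : K.Normal := hK ▸ inferInstance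
  haveI hCn : C.Normal := hC ▸ inferInstance
  obtain ⟨i, hi1, hi2⟩ := Cfsg.Agent.S4218.exists_step n H C K h0 hlast hCK
  haveI := hnorm i.castSucc
  haveI := hnorm i.succ
  obtain ⟨N₀, hN₀⟩ : ∃ N₀, N₀ = C ⊓ H i.castSucc := ⟨_, rfl⟩
  obtain ⟨N, hN⟩ : ∃ N, N = C ⊓ H i.succ := ⟨_, rfl⟩
  rw [← hN₀] at hi1
  rw [← hN] at hi2
  haveI hN₀n : N₀.Normal := hN₀ ▸ inferInstance
  haveI hNn : N.Normal := hN ▸ inferInstance
  have hle : H i.castSucc ≤ H i.succ := hmono (Fin.castSucc_le_succ i)
  have hN₀N : N₀ ≤ N := by rw [hN₀, hN]; exact inf_le_inf_left _ hle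
  have hKcop : (Nat.card K).Coprime p := hK ▸ pPrimeCore_card_coprime p
  have hN₀cop : (Nat.card N₀).Coprime p :=
    Nat.Coprime.coprime_dvd_left (Subgroup.card_dvd_of_le hi1) hKcop
  have hdvd : N₀.relIndex N ∣ (H i.castSucc).relIndex (H i.succ) := by
    have e1 : N₀ = N ⊓ H i.castSucc := by
      rw [hN₀, hN, inf_assoc, inf_eq_right.mpr hle]
    have e2 : N₀.relIndex N = (H i.castSucc).relIndex N := by
      rw [e1, Subgroup.inf_relIndex_left]
    rw [e2]
    exact relIndex_dvd_relIndex_of_le_of_normal _ (hN ▸ inf_le_right)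
  have hcardN : Nat.card N₀ * N₀.relIndex N = Nat.card N := by
    have := Subgroup.relIndex_mul_relIndex ⊥ N₀ N bot_le hN₀N
    rwa [Subgroup.relIndex_bot_left, Subgroup.relIndex_bot_left] at this
  rcases hfac i with ⟨m, hm⟩ | hcop
  · -- `p`-factor
    rw [hm] at hdvd
    obtain ⟨j, hjm, hj⟩ := (Nat.dvd_prime_pow hp.out).mp hdvd
    -- the central subgroup Z
    have hcentral : ∀ z ∈ N₀, ∀ g ∈ N, z * g = g * z := by
      intro z hz g hg
      have hgC : g ∈ Subgroup.centralizer (K : Set X) := by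
        rw [← hC]; exact (hN ▸ hg : g ∈ C ⊓ H i.succ).1
      exact Subgroup.mem_centralizer_iff.mp hgC z (hi1 hz)
    obtain ⟨P⟩ : Nonempty (Sylow p ↥N) := inferInstance
    have hZidx : (N₀.subgroupOf N).index = p ^ j := hj
    have hPZ : (P : Subgroup ↥N) ⊔ N₀.subgroupOf N = ⊤ := by
      rw [← Subgroup.index_eq_one]
      have h1 : ((P : Subgroup ↥N) ⊔ N₀.subgroupOf N).index ∣ (P : Subgroup ↥N).index :=
        Subgroup.index_dvd_of_le le_sup_left
      have h2 : ((P : Subgroup ↥N) ⊔ N₀.subgroupOf N).index ∣ p ^ j := by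
        rw [← hZidx]; exact Subgroup.index_dvd_of_le le_sup_right
      have h3 : ((P : Subgroup ↥N).index).Coprime (p ^ j) :=
        Nat.Coprime.pow_right j ((Nat.coprime_comm.mp
          ((hp.out.coprime_iff_not_dvd).mpr P.not_dvd_index)))
      exact Nat.eq_one_of_dvd_coprimes h3 h1 h2
    have hPn : (P : Subgroup ↥N).Normal := by
      rw [← Subgroup.normalizer_eq_top_iff, eq_top_iff, ← hPZ]
      apply sup_le Subgroup.le_normalizer
      intro z hz
      rw [Subgroup.mem_subgroupOf] at hz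
      rw [Subgroup.mem_normalizer_iff]
      intro h
      have : z * h * z⁻¹ = h := by
        have h1 : z * h = h * z := Subtype.ext (hcentral z hz h h.2)
        rw [h1]; group
      rw [this]
    haveI hPc : (P : Subgroup ↥N).Characteristic := Sylow.characteristic_of_normal P hPn
    have hPX : ((P : Subgroup ↥N).map N.subtype).Normal := inferInstance
    have hPle : (P : Subgroup ↥N).map N.subtype ≤ pCore p X :=
      le_pCore (hN := hPX) (P.isPGroup'.map _)
    rw [hcore, le_bot_iff, Subgroup.map_eq_bot_iff_of_injective _ N.subtype_injective] at hPle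
    have hnd : ¬ p ∣ Nat.card N := by
      have := P.not_dvd_index
      rwa [hPle, Subgroup.index_bot] at this
    have hj0 : j = 0 := by
      by_contra hj0
      apply hnd
      have h1 : p ∣ p ^ j := dvd_pow_self p hj0
      have h2 : p ^ j ∣ Nat.card N := by
        have h3 : N₀.relIndex N = p ^ j := hj
        rw [← h3]; exact Subgroup.relIndex_dvd_card N₀ N
      exact h1.trans h2
    have h4 : N₀.relIndex N = 1 := by
      have h3 : N₀.relIndex N = p ^ j := hj
      rw [h3, hj0, pow_zero]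
    exact hi2 ((Subgroup.relIndex_eq_one.mp h4).trans hi1)
  · -- `p'`-factor
    have h1 : (N₀.relIndex N).Coprime p := Nat.Coprime.coprime_dvd_left hdvd hcop
    have h2 : (Nat.card N).Coprime p := by
      rw [← hcardN]; exact Nat.Coprime.mul_left hN₀cop h1
    apply hi2
    rw [hK]
    exact le_pPrimeCore h2

end Cfsg.Agent.Lib.Helper2
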