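import Mathlib

set_option autoImplicit false

namespace Cfsg.Agent.Lib.Helper2

universe u

/-- `A` is a minimal normal subgroup (or trivial): normal, and the only normal subgroups of the
group inside it are `⊥` and `A`. -/
def IsMinNormal {G : Type*} [Group G] (A : Subgroup G) : Prop :=
  A.Normal ∧ ∀ B : Subgroup G, B.Normal → B ≤ A → B = ⊥ ∨ B = A

theorem IsMinNormal.map_equiv {G : Type*} [Group G] {A : Subgroup G} (hA : IsMinNormal A)
    (ϕ : G ≃* G) : IsMinNormal (A.map ϕ.toMonoidHom) := by
  refine ⟨hA.1.map _ ϕ.surjective, ?_⟩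
  intro B hB hBA
  have h1 : (B.comap ϕ.toMonoidHom).Normal := hB.comap _
  have h2 : B.comap ϕ.toMonoidHom ≤ A := by
    intro x hx
    obtain ⟨a, ha, hax⟩ := hBA hx
    have : a = x := ϕ.injective hax
    rwa [← this]
  have h3 : (B.comap ϕ.toMonoidHom).map ϕ.toMonoidHom = B :=
    Subgroup.map_comap_eq_self_of_surjective ϕ.surjective B
  rcases hA.2 _ h1 h2 with h | h
  · left; rw [← h3, h, Subgroup.map_bot]
  · right; rw [← h3, h]

/-- In a finite group, every nontrivial normal subgroup contains a nontrivial minimal normal
subgroup. -/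
theorem exists_isMinNormal_le {G : Type*} [Group G] [Finite G] (A : Subgroup G) [hA : A.Normal]
    (hne : A ≠ ⊥) : ∃ B : Subgroup G, B ≤ A ∧ B ≠ ⊥ ∧ IsMinNormal B := by
  induction' hn : Nat.card A using Nat.strong_induction_on with n ih generalizing A
  by_cases hmin : ∀ B : Subgroup G, B.Normal → B ≤ A → B = ⊥ ∨ B = A
  · exact ⟨A, le_rfl, hne, hA, hmin⟩
  · push Not at hmin
    obtain ⟨B, hBn, hBA, hBbot, hBne⟩ := hmin
    have hlt : Nat.card B < n := by
      rw [← hn]
      have hle : Nat.card B ≤ Nat.card A := Subgroup.card_le_of_le hBA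
      refine lt_of_le_of_ne hle ?_
      intro h
      apply hBne
      have h2 : B.subgroupOf A = ⊤ := by
        apply Subgroup.eq_top_of_le_card
        rw [Nat.card_congr (Subgroup.subgroupOfEquivOfLe hBA).toEquiv, h]
      rw [Subgroup.subgroupOf_eq_top] at h2
      exact le_antisymm hBA h2
    obtain ⟨C, hCB, hCne, hCmin⟩ := ih (Nat.card B) hlt B hBbot rfl
    exact ⟨C, hCB.trans hBA, hCne, hCmin⟩

/-- A minimal normal subgroup normalizes every subnormal subgroup. -/
theorem IsMinNormal.le_normalizer_of_isSubnormal {G : Type u} [Group G] [Finite G]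
    {A : Subgroup G} (hA : IsMinNormal A) {S : Subgroup G} (hS : S.IsSubnormal) :
    A ≤ Subgroup.normalizer (S : Set G) := by
  induction' hn : Nat.card G using Nat.strong_induction_on with n ih generalizing G
  rcases hS.lt_normal with rfl | ⟨H, hHn, hSH, hHtop⟩
  · rw [Subgroup.normalizer_eq_top_iff.2 (inferInstance : (⊤ : Subgroup G).Normal)]
    exact le_top
  · haveI := hA.1
    have hAH : (A ⊓ H).Normal := inferInstance
    rcases hA.2 _ hAH inf_le_left with h | h
    · -- A ∩ H = 1, so A centralizes H
      have h1 : ⁅A, H⁆ = ⊥ := by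
        rw [eq_bot_iff, ← h]
        exact Subgroup.commutator_le_inf A H
      have h2 : A ≤ Subgroup.centralizer (H : Set G) :=
        Subgroup.commutator_eq_bot_iff_le_centralizer.1 h1
      refine h2.trans ((Subgroup.centralizer_le hSH).trans (Subgroup.centralizer_le_normalizer _))
    · have hAleH : A ≤ H := inf_eq_left.1 h
      by_cases hAbot : A = ⊥
      · rw [hAbot]; exact bot_le
      -- work in H
      have hcard : Nat.card H < n := by
        rw [← hn]
        by_contra hcon
        exact hHtop.ne (Subgroup.eq_top_of_le_card H (not_lt.1 hcon))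
      have hA'n : (A.subgroupOf H).Normal := inferInstance
      have hA'ne : A.subgroupOf H ≠ ⊥ := by
        intro h0
        apply hAbot
        rw [← Subgroup.map_subgroupOf_eq_of_le hAleH, h0, Subgroup.map_bot]
      obtain ⟨B, hBA, hBne, hBmin⟩ := exists_isMinNormal_le (A.subgroupOf H) hA'ne
      have hS' : (S.subgroupOf H).IsSubnormal := hS.subgroupOf
      -- conjugates of B in H
      let φ : G →* MulAut H := MulAut.conjNormal
      have hconj : ∀ g : G, B.map (φ g).toMonoidHom ≤
          Subgroup.normalizer ((S.subgroupOf H : Subgroup H) : Set H) := by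
        intro g
        exact ih (Nat.card H) hcard (hBmin.map_equiv (φ g)) hS' rfl
      set T : Subgroup H := ⨆ g : G, B.map (φ g).toMonoidHom with hT
      have hTnorm : T ≤ Subgroup.normalizer ((S.subgroupOf H : Subgroup H) : Set H) :=
        iSup_le hconj
      have hTA : T.map H.subtype ≤ A := by
        rw [hT, Subgroup.map_iSup]
        apply iSup_le
        intro g
        rintro _ ⟨_, ⟨b, hb, rfl⟩, rfl⟩
        have hbA : (b : G) ∈ A := Subgroup.mem_subgroupOf.1 (hBA hb)
        simp only [φ, Subgroup.coe_subtype, MulEquiv.coe_toMonoidHom, MulAut.conjNormal_apply]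
        exact hA.1.conj_mem _ hbA g
      have hTn : (T.map H.subtype).Normal := by
        constructor
        rintro _ ⟨t, ht, rfl⟩ g
        refine ⟨φ g t, ?_, by simp [φ]⟩
        have h1 : T.map (φ g).toMonoidHom ≤ T := by
          rw [hT, Subgroup.map_iSup]
          apply iSup_le
          intro g'
          rw [Subgroup.map_map]
          have : (φ g).toMonoidHom.comp (φ g').toMonoidHom = (φ (g * g')).toMonoidHom := by
            ext x; simp [φ, map_mul]
          rw [this]
          exact le_iSup (fun g : G => B.map (φ g).toMonoidHom) (g * g')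
        exact h1 ⟨t, ht, rfl⟩
      have hTne : T.map H.subtype ≠ ⊥ := by
        intro h0
        rw [Subgroup.map_eq_bot_iff_of_injective _ H.subtype_injective] at h0
        apply hBne
        rw [eq_bot_iff, ← h0]
        have : B = B.map (φ 1).toMonoidHom := by
          ext x; simp [φ]
        conv_lhs => rw [this]
        exact le_iSup (fun g : G => B.map (φ g).toMonoidHom) 1
      rcases hA.2 _ hTn hTA with h0 | h0
      · exact absurd h0 hTne
      · rw [← h0]
        calc T.map H.subtype
            ≤ (Subgroup.normalizer ((S.subgroupOf H : Subgroup H) : Set H)).map H.subtype :=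
              Subgroup.map_mono hTnorm
          _ ≤ Subgroup.normalizer (((S.subgroupOf H).map H.subtype : Subgroup G) : Set G) :=
              Subgroup.le_normalizer_map _
          _ = Subgroup.normalizer (S : Set G) := by
              rw [Subgroup.map_subgroupOf_eq_of_le hSH]

end Cfsg.Agent.Lib.Helper2
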