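import Mathlib
import Cfsg.Prelude.Def_TwoFusion
import Cfsg.Prelude.Def_CaseTheorems
import Cfsg.Agent.Lib.Lead.Isolated
import Cfsg.Agent.Lib.Lead.IsolatedMid
import Cfsg.Agent.S0216
import Cfsg.Agent.S0209

set_option autoImplicit false
open Cfsg

namespace Cfsg.Agent.Lib.Helper2.ZS

open Cfsg.Agent.Lib.Lead Cfsg.Agent.Lib.Lead.IsoMid

section basic

variable {G : Type*} [Group G]

/-- an isolated involution of `G` is isolated in every subgroup containing it -/
theorem isolated_subgroup {t : G} (ht : Cfsg.IsIsolatedInvolution t) (H : Subgroup G)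
    (htH : t ∈ H) : Cfsg.IsIsolatedInvolution (⟨t, htH⟩ : H) := by
  refine ⟨?_, ?_⟩
  · rw [← Subgroup.orderOf_coe]; exact ht.1
  · intro g hc
    apply Subtype.ext
    have h1 : Commute t ((g : G) * t * (g : G)⁻¹) := by
      have := congrArg Subtype.val hc.eq
      simpa [Commute, SemiconjBy] using this
    have := ht.2 (g : G) h1
    simpa using this

/-- non-conjugate involutions have a product of even order -/
theorem even_orderOf_mul_of_not_isConj [Finite G] {t b : G} (ht : orderOf t = 2)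
    (hb : orderOf b = 2) (hc : ¬ IsConj t b) : Even (orderOf (t * b)) := by
  by_contra hodd
  rw [Nat.not_even_iff_odd] at hodd
  obtain ⟨m, hm⟩ := hodd
  apply hc
  rw [isConj_iff]
  refine ⟨(t * b) ^ m, ?_⟩
  apply odd_conj_pow ht hb m
  rw [← hm]; exact pow_orderOf_eq_one _

/-- in a dihedral group of order `4m`, `m` odd, generated by involutions `t`, `b`, with central
involution `c`, the element `t * c` is conjugate to `b`. -/
theorem dihedral_mid {t b : G} (ht : orderOf t = 2) (hb : orderOf b = 2) (m : ℕ) (hm : Odd m) :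
    (t * b) ^ ((m - 1) / 2) * (t * (t * b) ^ m) * ((t * b) ^ ((m - 1) / 2))⁻¹ = b := by
  obtain ⟨i, hi⟩ := hm
  have hi2 : (m - 1) / 2 = i := by omega
  rw [hi2]
  set r := t * b with hrdef
  have h1 := rot_conj_x ht hb (i : ℤ)
  rw [zpow_natCast, ← hrdef] at h1
  -- t * r^m = r^(-m) * t
  have h2 := invol_mul_zpow_mul ht hb (m : ℤ)
  rw [← hrdef, zpow_natCast] at h2
  have h3 : t * r ^ m = r ^ (-(m : ℤ)) * t := by
    rw [← h2, mul_assoc, mul_assoc, invol_mul_self ht, mul_one]
  have hcomm : Commute (r ^ i) (r ^ m) := (Commute.refl r).pow_pow i m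
  calc r ^ i * (t * r ^ m) * (r ^ i)⁻¹
      = (r ^ i * t * (r ^ i)⁻¹) * r ^ m := by
        have : r ^ m * (r ^ i)⁻¹ = (r ^ i)⁻¹ * r ^ m := (hcomm.inv_left.eq).symm
        calc r ^ i * (t * r ^ m) * (r ^ i)⁻¹ = r ^ i * t * (r ^ m * (r ^ i)⁻¹) := by group
          _ = r ^ i * t * ((r ^ i)⁻¹ * r ^ m) := by rw [this]
          _ = (r ^ i * t * (r ^ i)⁻¹) * r ^ m := by group
    _ = r ^ (2 * (i : ℤ)) * t * r ^ m := by rw [h1]
    _ = r ^ (2 * (i : ℤ)) * (r ^ (-(m : ℤ)) * t) := by rw [mul_assoc, h3]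
    _ = r ^ (2 * (i : ℤ) + -(m : ℤ)) * t := by rw [← mul_assoc, ← zpow_add]
    _ = r ^ (-1 : ℤ) * t := by
        congr 2
        rw [hi]; push_cast; ring
    _ = b := by
        rw [zpow_neg_one, hrdef, mul_inv_rev, invol_inv ht, invol_inv hb, mul_assoc,
          invol_mul_self ht, mul_one]

/-- the Sylow form of isolation implies isolation -/
theorem isolated_of_sylow [Finite G] (P : Sylow 2 G) (u : G) (hu : orderOf u = 2) (huP : u ∈ P)
    (hiso : ∀ g : G, g * u * g⁻¹ ∈ P → g * u * g⁻¹ = u) : Cfsg.IsIsolatedInvolution u := by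
  refine ⟨hu, ?_⟩
  intro g hc
  have hodd := (Cfsg.Agent.S0216.result P u hu huP).mp hiso g
  set v := g * u * g⁻¹ with hv
  have hvo : orderOf v = 2 := by rw [hv, orderOf_conj']; exact hu
  have e : u * g * u⁻¹ * g⁻¹ = u * v := by rw [invol_inv hu, hv]; group
  rw [e] at hodd
  have hsq : (u * v) ^ 2 = 1 := by
    rw [pow_two]
    calc u * v * (u * v) = u * (v * u) * v := by group
      _ = u * (u * v) * v := by rw [hc.eq]
      _ = (u * u) * (v * v) := by group
      _ = 1 := by rw [invol_mul_self hu, invol_mul_self hvo, one_mul]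
  have hdvd : orderOf (u * v) ∣ 2 := orderOf_dvd_of_pow_eq_one hsq
  have h1 : orderOf (u * v) = 1 := by
    rcases (Nat.dvd_prime Nat.prime_two).mp hdvd with h | h
    · exact h
    · rw [h] at hodd; exact absurd hodd (by decide)
  rw [orderOf_eq_one_iff] at h1
  have : v = u⁻¹ := (eq_inv_of_mul_eq_one_right h1)
  rw [this, invol_inv hu]

end basic

end Cfsg.Agent.Lib.Helper2.ZS
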