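import Mathlib
import Cfsg.Agent.Lib.Helper2.ZS1
import Cfsg.Agent.Lib.Helper6.BlkColumn
import Cfsg.Agent.Lib.Helper6.BlkPrincipalKer
import Cfsg.Agent.Lib.Helper6.BrPrin
import Cfsg.Agent.Lib.Helper6.BlkKer
import Cfsg.Agent.Lib.Helper6.ClassMult
import Cfsg.Agent.Lib.Helper6.Orthogonality
import Cfsg.Agent.Lib.Helper6.BlkVanish
import Cfsg.Agent.S1182

set_option autoImplicit false
set_option linter.unusedSectionVars false
open Cfsg

namespace Cfsg.Agent.Lib.Helper2.ZS

open Cfsg.Agent.Lib.Lead Cfsg.Agent.Lib.Lead.IsoMid Cfsg.Agent.Lib.Helper6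
open scoped ComplexConjugate

section

variable {G : Type*} [Group G]

/-- The inductive hypothesis, in the form used: for every involution `c` commuting with `t`,
the commutators `[t, g]`, `g ∈ C_G(c)`, lie in `O(C_G(c))`. -/
def CentHyp (t : G) : Prop :=
  ∀ c : G, orderOf c = 2 → ∀ (htc : t ∈ Subgroup.centralizer ({c} : Set G))
    (g : Subgroup.centralizer ({c} : Set G)),
    (⟨t, htc⟩ : Subgroup.centralizer ({c} : Set G)) * g *
      (⟨t, htc⟩ : Subgroup.centralizer ({c} : Set G))⁻¹ * g⁻¹ ∈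
      Cfsg.pPrimeCore 2 (Subgroup.centralizer ({c} : Set G))

theorem dihedral_char [Finite G] {t b : G} (ht : orderOf t = 2) (hb : orderOf b = 2)
    (hH : CentHyp t) (heven : Even (orderOf (t * b))) (M : Ideal Cfsg.AlgInt)
    (hM : Cfsg.IsPModular 2 M) :
    Odd (orderOf (t * b) / 2) ∧ ∀ χ ∈ Cfsg.principalBlock M G,
      (χ : G → ℂ) (t * b) = (χ : G → ℂ) ((t * b) ^ (orderOf (t * b) / 2)) := by
  classical
  have : Fintype G := Fintype.ofFinite G
  have : Fact (Nat.Prime 2) := ⟨Nat.prime_two⟩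
  obtain ⟨hc2, hct, hcb⟩ := Cfsg.Agent.S0209.result t b ht hb heven
  set r := t * b with hr
  set n := orderOf r with hn
  obtain ⟨m, hm⟩ := heven
  have hm2 : n / 2 = m := by omega
  rw [hm2] at hc2 hct hcb ⊢
  set c := r ^ m with hc
  have hnpos : 0 < n := orderOf_pos r
  have htc : t ∈ Subgroup.centralizer ({c} : Set G) := by
    rw [Subgroup.mem_centralizer_singleton_iff]; exact hct.eq.symm
  have hbc : b ∈ Subgroup.centralizer ({c} : Set G) := by
    rw [Subgroup.mem_centralizer_singleton_iff]; exact hcb.eq.symm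
  have hw := hH c hc2 htc ⟨b, hbc⟩
  obtain ⟨w, hwdef⟩ : ∃ w : Subgroup.centralizer ({c} : Set G),
      w = (⟨t, htc⟩ : Subgroup.centralizer ({c} : Set G)) * ⟨b, hbc⟩ *
        (⟨t, htc⟩ : Subgroup.centralizer ({c} : Set G))⁻¹ *
        (⟨b, hbc⟩ : Subgroup.centralizer ({c} : Set G))⁻¹ := ⟨_, rfl⟩
  rw [← hwdef] at hw
  have hwval : (w : G) = r ^ 2 := by
    rw [hwdef]
    simp only [Subgroup.coe_mul, Subgroup.coe_inv]
    rw [invol_inv ht, invol_inv hb, pow_two, hr]
    group
  obtain ⟨_, hcop⟩ := pPrimeCore_normal_and_coprime (G := Subgroup.centralizer ({c} : Set G)) 2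
  have hwodd : Odd (orderOf w) := by
    have h1 : orderOf (⟨w, hw⟩ : Cfsg.pPrimeCore 2 (Subgroup.centralizer ({c} : Set G))) ∣
        Nat.card (Cfsg.pPrimeCore 2 (Subgroup.centralizer ({c} : Set G))) := orderOf_dvd_natCard _
    rw [Subgroup.orderOf_mk] at h1
    exact Nat.Coprime.odd_of_right (Nat.Coprime.coprime_dvd_left h1 hcop)
  have hwm : orderOf w = m := by
    rw [← Subgroup.orderOf_coe, hwval, orderOf_pow' r (by norm_num : 2 ≠ 0), ← hn, hm]
    have : Nat.gcd (m + m) 2 = 2 := Nat.gcd_eq_right ⟨m, by ring⟩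
    rw [this]; omega
  rw [hwm] at hwodd
  refine ⟨hwodd, ?_⟩
  intro χ hχ
  obtain ⟨j, hj⟩ := hwodd
  have hρ : w ^ (j + 1) ∈ Cfsg.pPrimeCore 2 (Subgroup.centralizer ({c} : Set G)) := pow_mem hw _
  have hρval : ((w ^ (j + 1) : Subgroup.centralizer ({c} : Set G)) : G) = r ^ (m + 1) := by
    rw [Subgroup.coe_pow, hwval, ← pow_mul]
    congr 1; omega
  have hrc : r = c * ((w ^ (j + 1) : Subgroup.centralizer ({c} : Set G)) : G) := by
    rw [hρval, hc, ← pow_add]
    have : m + (m + 1) = n + 1 := by omega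
    rw [this, pow_succ, hn, pow_orderOf_eq_one, one_mul]
  have : Fintype (Subgroup.centralizer ({c} : Set G)) := Fintype.ofFinite _
  have := principal_apply_mul_core hM c ⟨1, by rw [hc2]; norm_num⟩
    (Subgroup.centralizer ({c} : Set G)) rfl χ hχ (w ^ (j + 1)) hρ
  rw [← hrc] at this
  exact this

/-- **Key lemma.** -/
theorem key_lemma [Finite G] {t : G} (ht : Cfsg.IsIsolatedInvolution t) (hH : CentHyp t)
    {z : G} (hz : orderOf z = 2) (hzt : Commute z t) (hnc : ¬ IsConj t z)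
    (M : Ideal Cfsg.AlgInt) (hM : Cfsg.IsPModular 2 M) (χ : Cfsg.IrrCharacter G)
    (hχ : χ ∈ Cfsg.principalBlock M G) :
    (χ : G → ℂ) t * (χ : G → ℂ) z = (χ : G → ℂ) 1 * (χ : G → ℂ) (t * z) := by
  classical
  have : Fintype G := Fintype.ofFinite G
  have hcf := IsIrrCharacter.isClassFunction χ.2
  have htt : t * t = 1 := invol_mul_self ht.1
  have key : ∀ g : G, (χ : G → ℂ) (t * (g * z * g⁻¹)) = (χ : G → ℂ) (t * z) := by
    intro g
    set b := g * z * g⁻¹ with hbdef
    have hb : orderOf b = 2 := by rw [hbdef, orderOf_conj']; exact hz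
    have hzb : IsConj z b := isConj_iff.mpr ⟨g, rfl⟩
    have hnc' : ¬ IsConj t b := fun h => hnc (h.trans hzb.symm)
    have heven := even_orderOf_mul_of_not_isConj ht.1 hb hnc'
    obtain ⟨hodd, hchar⟩ := dihedral_char ht.1 hb hH heven M hM
    obtain ⟨-, hct, -⟩ := Cfsg.Agent.S0209.result t b ht.1 hb heven
    rw [hchar χ hχ]
    set m := orderOf (t * b) / 2 with hm
    set c := (t * b) ^ m with hc
    have hconj : IsConj (t * c) b := isConj_iff.mpr ⟨_, dihedral_mid ht.1 hb m hodd⟩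
    have hconj' : IsConj (t * c) z := hconj.trans hzb.symm
    obtain ⟨h, hh⟩ := isConj_iff.mp hconj'
    have hxt : Commute (t * c) t := (Commute.refl t).mul_left hct
    obtain ⟨k, -, hkt, hk⟩ := Cfsg.Agent.S1182.result t ht ⊤
      (by rw [Subgroup.normalizer_eq_top]; exact Subgroup.mem_top _) (t * c) z
      (Subgroup.mem_top _) (Subgroup.mem_top _) hxt hzt h (Subgroup.mem_top _) hh
    have hkc : k * c * k⁻¹ = t * z := by
      have e : c = t * (t * c) := by rw [← mul_assoc, htt, one_mul]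
      calc k * c * k⁻¹ = k * (t * (t * c)) * k⁻¹ := by rw [← e]
        _ = (k * t) * (t * c) * k⁻¹ := by group
        _ = (t * k) * (t * c) * k⁻¹ := by rw [hkt.eq]
        _ = t * (k * (t * c) * k⁻¹) := by group
        _ = t * z := by rw [hk]
    rw [← hkc, hcf]
  have hsum := IsIrrCharacter.sum_conj_mul χ.2 z t
  have h1 : ∀ g : G, (χ : G → ℂ) (g * z * g⁻¹ * t) = (χ : G → ℂ) (t * z) := by
    intro g
    have e : t * (g * z * g⁻¹ * t) * t⁻¹ = t * (g * z * g⁻¹) := by
      rw [invol_inv ht.1]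
      calc t * (g * z * g⁻¹ * t) * t = t * (g * z * g⁻¹) * (t * t) := by group
        _ = t * (g * z * g⁻¹) := by rw [htt, mul_one]
    rw [← key g, ← hcf (g * z * g⁻¹ * t) t, e]
  rw [Finset.sum_congr rfl (fun g _ => h1 g), Finset.sum_const, Finset.card_univ,
    nsmul_eq_mul, Nat.card_eq_fintype_card] at hsum
  have h0 := IsIrrCharacter.apply_one_ne_zero χ.2
  have hG : (Fintype.card G : ℂ) ≠ 0 := by
    exact_mod_cast Fintype.card_ne_zero
  field_simp at hsum
  rw [mul_comm ((χ : G → ℂ) t), mul_comm ((χ : G → ℂ) 1)]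
  linear_combination -hsum
  
/-- **Case B**: an involution not conjugate to `t` cannot exist. -/
theorem caseB_false [Finite G] {t : G} (ht : Cfsg.IsIsolatedInvolution t) (hH : CentHyp t)
    (hnc : Subgroup.normalClosure ({t} : Set G) = ⊤) {z₀ : G} (hz₀ : orderOf z₀ = 2)
    (hnc0 : ¬ IsConj t z₀) : False := by
  classical
  have : Fintype G := Fintype.ofFinite G
  have : Fact (Nat.Prime 2) := ⟨Nat.prime_two⟩
  have : Fintype (Cfsg.IrrCharacter G) := Fintype.ofFinite _
  obtain ⟨M, hM⟩ := exists_isPModular 2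
  have htt : t * t = 1 := invol_mul_self ht.1
  have heven := even_orderOf_mul_of_not_isConj ht.1 hz₀ hnc0
  obtain ⟨hodd, -⟩ := dihedral_char ht.1 hz₀ hH heven M hM
  obtain ⟨hc2, hct, -⟩ := Cfsg.Agent.S0209.result t z₀ ht.1 hz₀ heven
  set m := orderOf (t * z₀) / 2 with hm
  set c := (t * z₀) ^ m with hc
  obtain ⟨z₁, hz₁⟩ : ∃ z₁ : G, z₁ = t * c := ⟨_, rfl⟩
  have hconj : IsConj z₁ z₀ := by
    rw [hz₁]; exact isConj_iff.mpr ⟨_, dihedral_mid ht.1 hz₀ m hodd⟩
  have hz₁o : orderOf z₁ = 2 := by rw [isConj_orderOf hconj.symm]; exact hz₀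
  have hnc1 : ¬ IsConj t z₁ := fun h => hnc0 (h.trans hconj)
  have hz₁t : Commute z₁ t := by rw [hz₁]; exact (Commute.refl t).mul_left hct
  have hcz : c = t * z₁ := by rw [hz₁, ← mul_assoc, htt, one_mul]
  have hncc : ¬ IsConj t c := by
    intro h
    obtain ⟨g, hg⟩ := isConj_iff.mp h
    have h1 := ht.2 g (by rw [hg]; exact hct.symm)
    rw [hg] at h1
    have h2 : z₁ = 1 := by rw [hz₁, h1, htt]
    rw [h2, orderOf_one] at hz₁o; omega
  have hrel : ∀ χ ∈ Cfsg.principalBlock M G,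
      (χ : G → ℂ) z₁ * ((χ : G → ℂ) t ^ 2 - (χ : G → ℂ) 1 ^ 2) = 0 := by
    intro χ hχ
    have e1 := key_lemma ht hH hz₁o hz₁t hnc1 M hM χ hχ
    have e2 := key_lemma ht hH hc2 hct hncc M hM χ hχ
    rw [← hcz] at e1
    rw [← hz₁] at e2
    linear_combination ((χ : G → ℂ) t) * e1 + ((χ : G → ℂ) 1) * e2
  have hz₁ne : z₁ ≠ 1 := invol_ne_one hz₁o
  have hcol1 := principal_column_not_conj 2 M hM t z₁ ⟨1, by rw [ht.1]; norm_num⟩
    ⟨1, by rw [hz₁o]; norm_num⟩ hnc1
  have hcol2 := principal_column_not_conj 2 M hM 1 z₁ ⟨0, by simp⟩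
    ⟨1, by rw [hz₁o]; norm_num⟩ (fun h => hz₁ne (isConj_one_right.mp h))
  have hsum : ∑ᶠ ζ ∈ Cfsg.principalBlock M G,
      ((ζ : G → ℂ) t + (ζ : G → ℂ) 1) * conj ((ζ : G → ℂ) z₁) = 0 := by
    have h := finsum_mem_add_distrib (s := Cfsg.principalBlock M G)
      (f := fun ζ : Cfsg.IrrCharacter G => (ζ : G → ℂ) t * conj ((ζ : G → ℂ) z₁))
      (g := fun ζ : Cfsg.IrrCharacter G => (ζ : G → ℂ) 1 * conj ((ζ : G → ℂ) z₁)) (Set.toFinite _)
    rw [hcol1, hcol2, add_zero] at h
    rw [← h]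
    apply finsum_mem_congr rfl
    intro ζ _
    ring
  have hterm : ∀ ζ ∈ Cfsg.principalBlock M G,
      ((ζ : G → ℂ) t + (ζ : G → ℂ) 1) * conj ((ζ : G → ℂ) z₁)
        = if ζ = oneIrr G then (2 : ℂ) else 0 := by
    intro ζ hζ
    split_ifs with h
    · subst h
      simp only [oneIrr, map_one, mul_one]
      norm_num
    · by_cases hz : (ζ : G → ℂ) z₁ = 0
      · rw [hz]; simp
      · have h2 := hrel ζ hζ
        have h3 : (ζ : G → ℂ) t ^ 2 - (ζ : G → ℂ) 1 ^ 2 = 0 := (mul_eq_zero.mp h2).resolve_left hz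
        have h4 : ((ζ : G → ℂ) t - (ζ : G → ℂ) 1) * ((ζ : G → ℂ) t + (ζ : G → ℂ) 1) = 0 := by
          linear_combination h3
        rcases mul_eq_zero.mp h4 with h5 | h5
        · exfalso
          apply h
          have hζc := IsIrrCharacter.isCharacter ζ.2
          have hker : t ∈ charKer hζc := sub_eq_zero.mp h5
          have := charKer_normal hζc
          have hle : Subgroup.normalClosure ({t} : Set G) ≤ charKer hζc :=
            Subgroup.normalClosure_le_normal (by simpa using hker)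
          rw [hnc] at hle
          have hall : ∀ g : G, (ζ : G → ℂ) g = (ζ : G → ℂ) 1 := fun g => hle (Subgroup.mem_top g)
          have hin := classInner_irrCharacter ζ (oneIrr G)
          by_contra hne
          rw [if_neg hne] at hin
          have h0 := IsIrrCharacter.apply_one_ne_zero ζ.2
          apply h0
          rw [← hin]
          unfold Cfsg.classInner
          simp only [oneIrr, map_one, mul_one]
          rw [Finset.sum_congr rfl (fun g _ => hall g), Finset.sum_const, Finset.card_univ,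
            nsmul_eq_mul, Nat.card_eq_fintype_card]
          have hG : (Fintype.card G : ℂ) ≠ 0 := by exact_mod_cast Fintype.card_ne_zero
          field_simp
        · rw [h5, zero_mul]
  rw [finsum_mem_congr rfl hterm, finsum_mem_eq_sum_filter_lib] at hsum
  rw [Finset.sum_ite_eq'] at hsum
  have hone := oneIrr_mem_principalBlock (G := G) hM
  simp [hone] at hsum

end

end Cfsg.Agent.Lib.Helper2.ZS
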