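import Mathlib
import Cfsg.Agent.Lib.Helper2.ZS1
import Cfsg.Agent.Lib.Helper2.ZS3
import Cfsg.Agent.Lib.Helper1.NormalPComplement
import Cfsg.Agent.Lib.Helper1.OddStable4
import Cfsg.Agent.Lib.Helper1.PLengthOne
import Cfsg.Agent.Lib.Helper1.PConstrainedLocal2
import Cfsg.Agent.S1181

set_option autoImplicit false
set_option linter.unusedSectionVars false
open Cfsg

namespace Cfsg.Agent.Lib.Helper2.ZS

open Cfsg.Agent.Lib.Lead Cfsg.Agent.Lib.Lead.IsoMid Cfsg.Agent.Lib.Helper6

universe u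

/-- The statement of the `Z*`-theorem for all groups (in the same universe) of smaller order. -/
def ZStarBelow (G : Type u) [Group G] : Prop :=
  ∀ (H : Type u) [Group H] [Finite H], Nat.card H < Nat.card G →
    ∀ t : H, Cfsg.IsIsolatedInvolution t → ∀ g : H, t * g * t⁻¹ * g⁻¹ ∈ Cfsg.pPrimeCore 2 H

/-- In a group with a normal `2`-complement, elements of odd order lie in `O(X)`. -/
theorem odd_mem_pPrimeCore_of_npc {X : Type*} [Group X] [Finite X]
    (h : Cfsg.HasNormalPComplement 2 X) (x : X) (hx : Odd (orderOf x)) :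
    x ∈ Cfsg.pPrimeCore 2 X := by
  have : Fact (Nat.Prime 2) := ⟨Nat.prime_two⟩
  obtain ⟨P, K, hKn, hK⟩ := h
  have hmem := Cfsg.Agent.Lib.Helper1.mem_normal_complement_iff P K hK
  have hcard : (Nat.card K).Coprime 2 := by
    rw [Nat.coprime_comm, Nat.Prime.coprime_iff_not_dvd Nat.prime_two]
    intro hdvd
    obtain ⟨y, hy⟩ := exists_prime_orderOf_dvd_card' 2 hdvd
    have h1 := (hmem (y : X)).mp y.2
    rw [Subgroup.orderOf_coe, hy] at h1
    norm_num at h1
  apply Cfsg.Agent.Lib.Helper1.le_pPrimeCore hKn hcard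
  rw [hmem]
  exact Nat.coprime_two_right.mpr hx

/-- Step 1: if `O(G) ≠ 1`, pass to `G / O(G)`. -/
theorem quot_reduce {G : Type u} [Group G] [Finite G] (hIH : ZStarBelow G)
    (hO : Cfsg.pPrimeCore 2 G ≠ ⊥) (t : G) (ht : Cfsg.IsIsolatedInvolution t) (g : G) :
    t * g * t⁻¹ * g⁻¹ ∈ Cfsg.pPrimeCore 2 G := by
  have hN : (Cfsg.pPrimeCore 2 G).Normal := Cfsg.Agent.Lib.Helper1.pPrimeCore_normal 2
  have hcop := Cfsg.Agent.Lib.Helper1.pPrimeCore_card_coprime (G := G) 2
  have hlt : Nat.card (G ⧸ Cfsg.pPrimeCore 2 G) < Nat.card G := by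
    have h1 := Subgroup.card_eq_card_quotient_mul_card_subgroup (Cfsg.pPrimeCore 2 G)
    have h2 : 1 < Nat.card (Cfsg.pPrimeCore 2 G) := (Subgroup.one_lt_card_iff_ne_bot _).mpr hO
    have h3 : 0 < Nat.card (G ⧸ Cfsg.pPrimeCore 2 G) := Nat.card_pos
    rw [h1]
    nlinarith
  have htN : t ∉ Cfsg.pPrimeCore 2 G := by
    intro h
    have h1 : orderOf (⟨t, h⟩ : Cfsg.pPrimeCore 2 G) ∣ Nat.card (Cfsg.pPrimeCore 2 G) :=
      orderOf_dvd_natCard _
    rw [Subgroup.orderOf_mk, ht.1] at h1
    have := Nat.Coprime.eq_one_of_dvd hcop.symm h1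
    omega
  obtain ⟨-, hiso⟩ := Cfsg.Agent.S1181.result t ht (Cfsg.pPrimeCore 2 G) htN
  have h1 := hIH (G ⧸ Cfsg.pPrimeCore 2 G) hlt _ hiso (QuotientGroup.mk g)
  rw [Cfsg.Agent.Lib.Helper1.pPrimeCore_quotient_eq_bot 2, Subgroup.mem_bot] at h1
  rw [← QuotientGroup.eq_one_iff]
  simpa using h1

/-- The centralizer hypothesis of `ZS3` follows from the inductive hypothesis when there are no
central involutions. -/
theorem centHyp_of_below {G : Type u} [Group G] [Finite G] (hIH : ZStarBelow G) {t : G}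
    (ht : Cfsg.IsIsolatedInvolution t)
    (hnc : ∀ c : G, orderOf c = 2 → c ∉ Subgroup.center G) : CentHyp t := by
  intro c hc htc g
  have hne : Subgroup.centralizer ({c} : Set G) ≠ ⊤ := by
    intro h
    rw [Subgroup.centralizer_eq_top_iff_subset] at h
    exact hnc c hc (h (Set.mem_singleton c))
  have hlt : Nat.card (Subgroup.centralizer ({c} : Set G)) < Nat.card G := by
    apply lt_of_le_of_ne (Subgroup.card_le_card_group _)
    intro h
    exact hne (Subgroup.card_eq_iff_eq_top _ |>.mp h)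
  exact hIH _ hlt ⟨t, htc⟩ (isolated_subgroup ht _ htc) g

/-- Step 3: the normal closure of `t` is everything. -/
theorem normalClosure_eq_top {G : Type u} [Group G] [Finite G] (hIH : ZStarBelow G)
    (hO : Cfsg.pPrimeCore 2 G = ⊥) {t : G} (ht : Cfsg.IsIsolatedInvolution t)
    (hntc : t ∉ Subgroup.center G) : Subgroup.normalClosure ({t} : Set G) = ⊤ := by
  by_contra hne
  set M := Subgroup.normalClosure ({t} : Set G) with hM
  have hMn : M.Normal := Subgroup.normalClosure_normal
  have htM : t ∈ M := Subgroup.subset_normalClosure (Set.mem_singleton t)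
  have hlt : Nat.card M < Nat.card G := by
    apply lt_of_le_of_ne (Subgroup.card_le_card_group _)
    intro h
    exact hne (Subgroup.card_eq_iff_eq_top _ |>.mp h)
  have hOM : Cfsg.pPrimeCore 2 M = ⊥ :=
    Cfsg.Agent.Lib.Helper1.OddStable.pPrimeCore_eq_bot_of_normal M hO
  have hcomm : ∀ x ∈ M, Commute t x := by
    intro x hx
    have h1 := hIH M hlt ⟨t, htM⟩ (isolated_subgroup ht M htM) ⟨x, hx⟩
    rw [hOM, Subgroup.mem_bot] at h1
    have h2 := congrArg Subtype.val h1
    simp only [Subgroup.coe_mul, Subgroup.coe_inv, Subgroup.coe_one] at h2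
    have h3 : t * x * t⁻¹ = x := by
      rw [mul_inv_eq_one] at h2; exact h2
    have h4 : t * x = x * t := by
      calc t * x = (t * x * t⁻¹) * t := by group
        _ = x * t := by rw [h3]
    exact h4
  apply hntc
  rw [Subgroup.mem_center_iff]
  intro g
  have h1 := ht.2 g (hcomm _ (hMn.conj_mem t htM g))
  calc g * t = (g * t * g⁻¹) * g := by group
    _ = t * g := by rw [h1]

/-- Step 2: there is no central involution. -/
theorem no_central_invol {G : Type u} [Group G] [Finite G] (hIH : ZStarBelow G)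
    (hO : Cfsg.pPrimeCore 2 G = ⊥) {t : G} (ht : Cfsg.IsIsolatedInvolution t)
    (hntc : t ∉ Subgroup.center G) (c : G) (hc : orderOf c = 2) : c ∉ Subgroup.center G := by
  intro hcc
  have : Fact (Nat.Prime 2) := ⟨Nat.prime_two⟩
  set Z := Subgroup.zpowers c with hZ
  have hZc : Z ≤ Subgroup.center G := by rw [hZ, Subgroup.zpowers_le]; exact hcc
  have hZn : Z.Normal := by
    constructor
    intro n hn g
    have h1 := Subgroup.mem_center_iff.mp (hZc hn) g
    have h2 : g * n * g⁻¹ = n := by rw [h1]; group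
    rw [h2]; exact hn
  have hZcard : Nat.card Z = 2 := by rw [hZ, Nat.card_zpowers, hc]
  have htZ : t ∉ Z := fun h => hntc (hZc h)
  have hlt : Nat.card (G ⧸ Z) < Nat.card G := by
    have h1 := Subgroup.card_eq_card_quotient_mul_card_subgroup Z
    have h3 : 0 < Nat.card (G ⧸ Z) := Nat.card_pos
    rw [h1, hZcard]; omega
  obtain ⟨-, hiso⟩ := Cfsg.Agent.S1181.result t ht Z htZ
  have hQ : Cfsg.pPrimeCore 2 (G ⧸ Z) = ⊥ := by
    set N := Cfsg.pPrimeCore 2 (G ⧸ Z) with hN
    have hNn : N.Normal := Cfsg.Agent.Lib.Helper1.pPrimeCore_normal 2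
    have hNcop : (Nat.card N).Coprime 2 := Cfsg.Agent.Lib.Helper1.pPrimeCore_card_coprime 2
    set R := N.comap (QuotientGroup.mk' Z) with hR
    have hRn : R.Normal := hNn.comap _
    have hZR : Z ≤ R := by
      intro x hx
      rw [hR, Subgroup.mem_comap]
      have h1 : (QuotientGroup.mk' Z) x = 1 := (QuotientGroup.eq_one_iff x).mpr hx
      rw [h1]; exact one_mem _
    have hRcard : Nat.card R = 2 * Nat.card N := by
      rw [hR, Cfsg.Agent.Lib.Helper1.card_comap_of_surjective' _ (QuotientGroup.mk'_surjective Z),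
        QuotientGroup.ker_mk', hZcard]
    have hOR : Cfsg.pPrimeCore 2 R = ⊥ :=
      Cfsg.Agent.Lib.Helper1.OddStable.pPrimeCore_eq_bot_of_normal R hO
    set Z' := Z.subgroupOf R with hZ'
    have hZ'card : Nat.card Z' = 2 := by
      rw [hZ', Nat.card_congr (Subgroup.subgroupOfEquivOfLe hZR).toEquiv, hZcard]
    have hZ'p : IsPGroup 2 Z' := IsPGroup.of_card (n := 1) (by rw [hZ'card]; norm_num)
    have hidx : ¬ 2 ∣ Z'.index := by
      have h1 := Subgroup.card_mul_index Z'
      rw [hZ'card, hRcard] at h1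
      have h2 : Z'.index = Nat.card N := by omega
      rw [h2]
      intro hd
      have := Nat.Coprime.eq_one_of_dvd hNcop.symm hd
      omega
    obtain ⟨P, hPZ⟩ : ∃ P : Sylow 2 R, (P : Subgroup R) = Z' :=
      ⟨hZ'p.toSylow hidx, IsPGroup.toSylow_coe _ _⟩
    have hcent : Subgroup.normalizer ((P : Subgroup R) : Set R) ≤
        Subgroup.centralizer ((P : Subgroup R) : Set R) := by
      intro r _
      rw [Subgroup.mem_centralizer_iff]
      intro h hh
      rw [SetLike.mem_coe, hPZ, hZ', Subgroup.mem_subgroupOf] at hh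
      have h1 := Subgroup.mem_center_iff.mp (hZc hh) (r : G)
      apply Subtype.ext
      simp only [Subgroup.coe_mul]
      exact h1.symm
    have hnpc := Cfsg.Agent.Lib.Helper1.hasNormalPComplement_of_normalizer_le_centralizer P hcent
    have hodd1 : ∀ x : R, Odd (orderOf x) → x = 1 := by
      intro x hx
      have h1 := odd_mem_pPrimeCore_of_npc hnpc x hx
      rw [hOR, Subgroup.mem_bot] at h1; exact h1
    rw [eq_bot_iff]
    intro q hq
    rw [Subgroup.mem_bot]
    obtain ⟨x, rfl⟩ := QuotientGroup.mk_surjective q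
    have hxR : x ∈ R := by rw [hR, Subgroup.mem_comap]; exact hq
    have hqo : Odd (orderOf (QuotientGroup.mk x : G ⧸ Z)) := by
      have h1 : orderOf (⟨_, hq⟩ : N) ∣ Nat.card N := orderOf_dvd_natCard _
      rw [Subgroup.orderOf_mk] at h1
      exact Nat.Coprime.odd_of_right (Nat.Coprime.coprime_dvd_left h1 hNcop)
    obtain ⟨o, ho⟩ : ∃ o : ℕ, o = orderOf (QuotientGroup.mk x : G ⧸ Z) := ⟨_, rfl⟩
    rw [← ho] at hqo
    have hxo : x ^ o ∈ Z := by
      rw [← QuotientGroup.eq_one_iff, QuotientGroup.mk_pow, ho]; exact pow_orderOf_eq_one _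
    have hx2o : (x ^ 2) ^ o = 1 := by
      rw [← pow_mul, mul_comm, pow_mul]
      have h1 := orderOf_dvd_natCard (⟨_, hxo⟩ : Z)
      rw [Subgroup.orderOf_mk, hZcard] at h1
      exact orderOf_dvd_iff_pow_eq_one.mp h1
    have hx2odd : Odd (orderOf (x ^ 2)) := hqo.of_dvd_nat (orderOf_dvd_of_pow_eq_one hx2o)
    have hx2 : x ^ 2 = 1 := by
      have h1 := hodd1 ⟨x ^ 2, pow_mem hxR 2⟩ (by rw [Subgroup.orderOf_mk]; exact hx2odd)
      exact congrArg Subtype.val h1
    have hq2 : (QuotientGroup.mk x : G ⧸ Z) ^ 2 = 1 := by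
      rw [← QuotientGroup.mk_pow, hx2]; rfl
    have hd : o ∣ 2 := by rw [ho]; exact orderOf_dvd_of_pow_eq_one hq2
    have ho1 : o = 1 := by
      rcases (Nat.dvd_prime Nat.prime_two).mp hd with h | h
      · exact h
      · rw [h] at hqo; exact absurd hqo (by decide)
    rw [ho] at ho1
    exact orderOf_eq_one_iff.mp ho1
  apply hntc
  rw [Subgroup.mem_center_iff]
  intro g
  have h1 := hIH (G ⧸ Z) hlt _ hiso (QuotientGroup.mk g)
  rw [hQ, Subgroup.mem_bot] at h1
  have h2 : t * g * t⁻¹ * g⁻¹ ∈ Z := by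
    rw [← QuotientGroup.eq_one_iff]; simpa using h1
  have hodd := isolated_odd ht g
  have e : t * g * t⁻¹ * g⁻¹ = t * (g * t * g⁻¹) := by rw [invol_inv ht.1]; group
  rw [e] at h2
  have h3 : orderOf (t * (g * t * g⁻¹)) ∣ 2 := by
    have h := orderOf_dvd_natCard (⟨_, h2⟩ : Z)
    rw [Subgroup.orderOf_mk, hZcard] at h; exact h
  have h4 : orderOf (t * (g * t * g⁻¹)) = 1 := by
    rcases (Nat.dvd_prime Nat.prime_two).mp h3 with h | h
    · exact h
    · rw [h] at hodd; exact absurd hodd (by decide)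
  rw [orderOf_eq_one_iff] at h4
  have h5 : g * t * g⁻¹ = t := by
    have h := eq_inv_of_mul_eq_one_right h4
    rw [h, invol_inv ht.1]
  calc g * t = (g * t * g⁻¹) * g := by group
    _ = t * g := by rw [h5]

end Cfsg.Agent.Lib.Helper2.ZS
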