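import Mathlib

set_option autoImplicit false

namespace Cfsg.Agent.Lib.Helper2

variable {G : Type*} [Group G]

/-- If `g a g⁻¹ = a ^ u` then `g^k a g^-k = a ^ (u ^ k)`. -/
theorem conj_pow_eq_pow_pow {g a : G} {u : ℕ} (h : g * a * g⁻¹ = a ^ u) (k : ℕ) :
    g ^ k * a * (g ^ k)⁻¹ = a ^ (u ^ k) := by
  induction k with
  | zero => simp
  | succ k ih =>
    calc g ^ (k + 1) * a * (g ^ (k + 1))⁻¹ = g * (g ^ k * a * (g ^ k)⁻¹) * g⁻¹ := by
          rw [pow_succ']; group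
      _ = g * a ^ (u ^ k) * g⁻¹ := by rw [ih]
      _ = (g * a * g⁻¹) ^ (u ^ k) := by rw [conj_pow]
      _ = a ^ (u ^ (k + 1)) := by rw [h, ← pow_mul, pow_succ']

/-- An automorphism of a cyclic group of order `p ^ n` induced by conjugation which fixes a
nonidentity element has `p`-power order: `g ^ (p ^ n)` centralizes the generator. -/
theorem pow_prime_pow_commute_of_fix {p n : ℕ} (hp : p.Prime) {a g x : G}
    (ha : orderOf a = p ^ n) (hg : g * a * g⁻¹ ∈ Subgroup.zpowers a)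
    (hx : x ∈ Subgroup.zpowers a) (hx1 : x ≠ 1) (hgx : g * x = x * g) :
    g ^ (p ^ n) * a = a * g ^ (p ^ n) := by
  have hfin : IsOfFinOrder a := by
    rw [← orderOf_pos_iff, ha]; exact pow_pos hp.pos n
  obtain ⟨u, hu⟩ : ∃ u : ℕ, a ^ u = g * a * g⁻¹ := by
    rw [← hfin.mem_powers_iff_mem_zpowers] at hg
    exact Submonoid.mem_powers_iff _ _ |>.1 hg
  obtain ⟨i, hi⟩ : ∃ i : ℕ, a ^ i = x := by
    rw [← hfin.mem_powers_iff_mem_zpowers] at hx
    exact Submonoid.mem_powers_iff _ _ |>.1 hx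
  -- g x g⁻¹ = x gives u * i ≡ i
  have h1 : a ^ (u * i) = a ^ i := by
    rw [pow_mul, hu, conj_pow, hi, hgx]; group
  rw [pow_eq_pow_iff_modEq, ha, Nat.modEq_iff_dvd] at h1
  have hni : ¬ (p ^ n : ℤ) ∣ (i : ℤ) := by
    intro hd
    apply hx1
    rw [← hi]
    apply orderOf_dvd_iff_pow_eq_one.1
    rw [ha]
    exact_mod_cast hd
  have hpu : (p : ℤ) ∣ (u : ℤ) - 1 := by
    by_contra hnd
    apply hni
    have hpi : Prime (p : ℤ) := Nat.prime_iff_prime_int.1 hp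
    have hcop : IsCoprime ((p : ℤ) ^ n) ((u : ℤ) - 1) :=
      IsCoprime.pow_left ((Prime.coprime_iff_not_dvd hpi).2 hnd)
    have h2 : ((p : ℤ) ^ n) ∣ ((u : ℤ) - 1) * (i : ℤ) := by
      have h3 : ((p ^ n : ℕ) : ℤ) ∣ -(((u : ℤ) - 1) * (i : ℤ)) := by
        convert h1 using 1
        push_cast
        ring
      rw [dvd_neg] at h3
      exact_mod_cast h3
    exact_mod_cast hcop.dvd_of_dvd_mul_left h2
  have hpow : ((p : ℤ) ^ (n + 1)) ∣ (u : ℤ) ^ p ^ n - 1 := by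
    have := dvd_sub_pow_of_dvd_sub (R := ℤ) (p := p) (a := (u : ℤ)) (b := 1) hpu n
    simpa using this
  have hmod : u ^ p ^ n ≡ 1 [MOD p ^ n] := by
    rw [Nat.ModEq.comm, Nat.modEq_iff_dvd]
    push_cast
    exact (pow_dvd_pow (p : ℤ) (Nat.le_succ n)).trans hpow
  have h4 : a ^ (u ^ p ^ n) = a ^ 1 := by
    rw [pow_eq_pow_iff_modEq, ha]; exact hmod
  have h5 := conj_pow_eq_pow_pow hu.symm (p ^ n)
  rw [h4, pow_one] at h5
  calc g ^ p ^ n * a = (g ^ p ^ n * a * (g ^ p ^ n)⁻¹) * g ^ p ^ n := by group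
    _ = a * g ^ p ^ n := by rw [h5]

/-- A `p`-element normalizing a Sylow `p`-subgroup lies in it. -/
theorem mem_sylow_of_mem_normalizer {p : ℕ} [Fact p.Prime] (P : Sylow p G) {g : G}
    (hg : g ∈ Subgroup.normalizer ((P : Subgroup G) : Set G)) {k : ℕ} (hk : orderOf g = p ^ k) :
    g ∈ (P : Subgroup G) := by
  have hz : IsPGroup p ↥(Subgroup.zpowers g) :=
    IsPGroup.of_card (n := k) (by rw [Nat.card_zpowers, hk])
  have hle : Subgroup.zpowers g ≤ Subgroup.normalizer ((P : Subgroup G) : Set G) :=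
    Subgroup.zpowers_le.2 hg
  have hsup : IsPGroup p ↥(Subgroup.zpowers g ⊔ (P : Subgroup G) : Subgroup G) :=
    hz.to_sup_of_normal_right' P.isPGroup' hle
  have := P.is_maximal' hsup le_sup_right
  rw [← this]
  exact (le_sup_left : Subgroup.zpowers g ≤ _) (Subgroup.mem_zpowers g)

end Cfsg.Agent.Lib.Helper2
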