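import Mathlib
import Cfsg.Agent.Lib.Helper1.CoprimeAut

/-! An odd-order automorphism of a finite `2`-group fixing all elements of order dividing `4`
is trivial. -/

set_option autoImplicit false
open scoped commutatorElement

namespace Cfsg.Agent.Lib.Helper2

open Cfsg.Agent.Lib.Helper1

universe u

theorem coprime_aut_trivial_of_fix_omega_two_aux :
    ∀ (n : ℕ) (G : Type u) [Group G] [Finite G], Nat.card G = n → IsPGroup 2 G →
      ∀ a : MulAut G, Nat.Coprime (orderOf a) 2 → (∀ x : G, x ^ 4 = 1 → a x = x) → a = 1 := by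
  intro n
  induction n using Nat.strong_induction_on with
  | _ n ih =>
  intro G _ _ hn hG a ha h
  haveI : Fact (Nat.Prime 2) := ⟨Nat.prime_two⟩
  have key : ∀ H : Subgroup G, H ≠ ⊤ → (∀ x ∈ H, a x ∈ H) → ∀ x ∈ H, a x = x := by
    intro H hHtop hH x hx
    have hlt : Nat.card H < n := hn ▸ card_lt_of_ne_top H hHtop
    have h1 := ih (Nat.card H) hlt H rfl (hG.to_subgroup H) (restrictAut a H hH)
      (Nat.Coprime.coprime_dvd_left (orderOf_restrictAut_dvd a H hH) ha) (by
        intro y hy
        apply Subtype.ext
        rw [restrictAut_apply]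
        apply h
        have := congrArg Subtype.val hy
        simpa using this)
    have := restrictAut_apply a H hH ⟨x, hx⟩
    rw [h1] at this
    exact this.symm
  ext g
  rw [MulAut.one_apply]
  by_cases hF : frattini G = ⊤
  · have hbt : (⊥ : Subgroup G) = ⊤ := frattini_nongenerating (by rw [hF]; simp)
    have hall : ∀ x : G, x = 1 := fun x => by
      have : x ∈ (⊥ : Subgroup G) := by rw [hbt]; trivial
      exact this
    rw [hall g, map_one]
  have hFchar : (frattini G).Characteristic := frattini_characteristic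
  have hFn : (frattini G).Normal := Subgroup.normal_of_characteristic _
  have hFinv : ∀ x ∈ frattini G, a x ∈ frattini G := by
    intro x hx
    have := (Subgroup.characteristic_iff_map_eq.mp hFchar) a
    rw [← this]
    exact ⟨x, hx, rfl⟩
  have hFfix := key _ hF hFinv
  set K := Subgroup.closure {c : G | ∃ g : G, c = g⁻¹ * a g} with hK
  have hKinv : ∀ x ∈ K, a x ∈ K := by
    intro x hx
    induction hx using Subgroup.closure_induction with
    | mem c hc =>
      obtain ⟨g, rfl⟩ := hc
      apply Subgroup.subset_closure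
      exact ⟨a g, by rw [map_mul, map_inv]⟩
    | one => rw [map_one]; exact Subgroup.one_mem _
    | mul x y _ _ hx hy => rw [map_mul]; exact Subgroup.mul_mem _ hx hy
    | inv x _ hx => rw [map_inv]; exact Subgroup.inv_mem _ hx
  have hcK : g⁻¹ * a g ∈ K := Subgroup.subset_closure ⟨g, rfl⟩
  apply aut_apply_eq_of_fixed_commutator hG a ha g
  by_cases hKtop : K = ⊤
  · -- Φ ≤ Z(G)
    have hFZ : frattini G ≤ Subgroup.center G := by
      intro z hz
      have hle : K ≤ Subgroup.centralizer {z} := by
        rw [hK, Subgroup.closure_le]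
        rintro c ⟨g', rfl⟩
        rw [SetLike.mem_coe, Subgroup.mem_centralizer_singleton_iff]
        have h1 : a (g' * z * g'⁻¹) = g' * z * g'⁻¹ := hFfix _ (hFn.conj_mem z hz g')
        rw [map_mul, map_mul, map_inv, hFfix z hz] at h1
        have := congrArg (fun t => g'⁻¹ * t * a g') h1
        beta_reduce at this
        rw [show g'⁻¹ * (a g' * z * (a g')⁻¹) * a g' = g'⁻¹ * a g' * z by group,
          show g'⁻¹ * (g' * z * g'⁻¹) * a g' = z * (g'⁻¹ * a g') by group] at this
        exact this
      rw [hKtop] at hle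
      rw [Subgroup.mem_center_iff]
      intro y
      have := hle (Subgroup.mem_top y)
      rw [Subgroup.mem_centralizer_singleton_iff] at this
      exact this
    -- squares are central and fixed
    have hsqF : ∀ y : G, y ^ 2 ∈ frattini G := fun y => pow_prime_mem_frattini_of_isPGroup 2 hG y
    have hsqZ : ∀ y : G, y ^ 2 ∈ Subgroup.center G := fun y => hFZ (hsqF y)
    have hcommZ : ∀ x y : G, y * x * y⁻¹ * x⁻¹ ∈ Subgroup.center G := by
      intro x y
      apply hFZ
      apply commutator_le_frattini_of_isPGroup 2 hG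
      rw [commutator_def]
      have : y * x * y⁻¹ * x⁻¹ = ⁅y, x⁆ := by rw [commutatorElement_def]
      rw [this]
      exact Subgroup.commutator_mem_commutator (Subgroup.mem_top y) (Subgroup.mem_top x)
    -- `c = g⁻¹ * a g` satisfies `c ^ 4 = 1`
    apply h
    set x := g⁻¹ with hx
    set y := a g with hy
    set c := y * x * y⁻¹ * x⁻¹ with hc
    have hcZ := hcommZ x y
    have hc1 : y * x = c * x * y := by rw [hc]; group
    have hcx : Commute c x := (Subgroup.mem_center_iff.mp hcZ x).symm
    have hcy : Commute c y := (Subgroup.mem_center_iff.mp hcZ y).symm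
    -- `(x y)^2 = x^2 y^2 c`
    have h2 : (x * y) ^ 2 = x ^ 2 * y ^ 2 * c := by
      calc (x * y) ^ 2 = x * (y * x) * y := by rw [pow_two]; group
        _ = x * (c * x * y) * y := by rw [hc1]
        _ = x * c * x * y * y := by group
        _ = c * x * x * y * y := by rw [hcx.eq]
        _ = c * (x ^ 2 * y ^ 2) := by rw [pow_two, pow_two]; group
        _ = x ^ 2 * y ^ 2 * c := by
            rw [((hcx.pow_right 2).mul_right (hcy.pow_right 2)).eq]
    have hy2 : y ^ 2 = g ^ 2 := by
      rw [hy, ← map_pow]; exact hFfix _ (hsqF g)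
    have hx2 : x ^ 2 = (g ^ 2)⁻¹ := by rw [hx, inv_pow]
    have h3 : (x * y) ^ 2 = c := by rw [h2, hx2, hy2]; group
    -- `c^2 = 1`
    have hc2 : c ^ 2 = 1 := by
      have hy2Z : y ^ 2 ∈ Subgroup.center G := hsqZ y
      have e1 : y ^ 2 * x = x * y ^ 2 := (Subgroup.mem_center_iff.mp hy2Z x).symm
      have e2 : y ^ 2 * x = c ^ 2 * x * y ^ 2 := by
        calc y ^ 2 * x = y * (y * x) := by rw [pow_two]; group
          _ = y * (c * x * y) := by rw [hc1]
          _ = (y * c) * x * y := by group
          _ = (c * y) * x * y := by rw [hcy.eq]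
          _ = c * (y * x) * y := by group
          _ = c * (c * x * y) * y := by rw [hc1]
          _ = c ^ 2 * x * y ^ 2 := by rw [pow_two, pow_two]; group
      rw [e1] at e2
      have e3 : c ^ 2 * (x * y ^ 2) = 1 * (x * y ^ 2) := by
        rw [one_mul]; rw [← mul_assoc]; exact e2.symm
      exact mul_right_cancel e3
    calc (x * y) ^ 4 = ((x * y) ^ 2) ^ 2 := by rw [← pow_mul]
      _ = c ^ 2 := by rw [h3]
      _ = 1 := hc2
  · exact key K hKtop hKinv _ hcK

/-- An odd-order automorphism of a finite `2`-group fixing all elements of order dividing `4`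
is trivial. -/
theorem coprime_aut_trivial_of_fix_omega_two {G : Type u} [Group G] [Finite G]
    (hG : IsPGroup 2 G) (a : MulAut G) (ha : Nat.Coprime (orderOf a) 2)
    (h : ∀ x : G, x ^ 4 = 1 → a x = x) : a = 1 :=
  coprime_aut_trivial_of_fix_omega_two_aux (Nat.card G) G rfl hG a ha h

end Cfsg.Agent.Lib.Helper2
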