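import Mathlib

set_option autoImplicit false

namespace Cfsg.Agent.Lib.Helper2

variable {G : Type*} [Group G]

theorem card_mul_relIndex {H K : Subgroup G} (h : H ≤ K) :
    Nat.card H * H.relIndex K = Nat.card K := by
  rw [← Subgroup.relIndex_bot_left, Subgroup.relIndex_mul_relIndex _ _ _ bot_le h,
    Subgroup.relIndex_bot_left]

/-- A subgroup of index `p` in a finite `p`-group is normal. -/
theorem normal_of_index_eq_prime [Finite G] {p : ℕ} [Fact p.Prime] (hG : IsPGroup p G)
    (H : Subgroup G) (h : H.index = p) : H.Normal := by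
  have hp : p.Prime := Fact.out
  apply Subgroup.normal_of_index_eq_minFac_card
  obtain ⟨n, hn⟩ := IsPGroup.iff_card.1 hG
  have hn0 : n ≠ 0 := by
    rintro rfl
    have h1 := H.index_dvd_card
    rw [hn, pow_zero, h, Nat.dvd_one] at h1
    exact hp.one_lt.ne' h1
  rw [h, hn, Nat.Prime.pow_minFac hp hn0]

/-- A subgroup of prime index is maximal. -/
theorem sup_eq_top_of_index_prime {p : ℕ} (hp : p.Prime) {Q K : Subgroup G} (hQ : Q.index = p)
    (hK : ¬ K ≤ Q) : Q ⊔ K = ⊤ := by
  have h1 := Subgroup.relIndex_mul_index (le_sup_left : Q ≤ Q ⊔ K)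
  rw [hQ] at h1
  have h2 : (Q ⊔ K).index ∣ p := Dvd.intro_left _ h1
  rcases (Nat.dvd_prime hp).1 h2 with h3 | h3
  · exact Subgroup.index_eq_one.1 h3
  · exfalso
    rw [h3] at h1
    have h4 : Q.relIndex (Q ⊔ K) = 1 := by
      have := Nat.eq_of_mul_eq_mul_right hp.pos (h1.trans (one_mul p).symm)
      exact this
    rw [Subgroup.relIndex_eq_one] at h4
    exact hK (le_sup_right.trans h4)

theorem isCoatom_of_index_prime {p : ℕ} (hp : p.Prime) {Q : Subgroup G} (hQ : Q.index = p) :
    IsCoatom Q := by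
  constructor
  · intro h
    rw [h, Subgroup.index_top] at hQ
    exact hp.one_lt.ne' hQ.symm
  · intro K hK
    have h1 : ¬ K ≤ Q := fun h => hK.not_ge h
    have := sup_eq_top_of_index_prime hp hQ h1
    rwa [sup_eq_right.2 hK.le] at this

end Cfsg.Agent.Lib.Helper2
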