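import Mathlib
import Cfsg.Agent.Lib.Helper2.ZS2
import Cfsg.Agent.Lib.Helper2.ZS3
import Cfsg.Agent.Lib.Helper1.NormalPComplement
import Cfsg.Agent.Lib.Helper6.BlkOrthFull
import Cfsg.Agent.S3864
import Cfsg.Agent.S0947

set_option autoImplicit false
set_option linter.unusedSectionVars false
open Cfsg

namespace Cfsg.Agent.Lib.Helper2.ZS

open Cfsg.Agent.Lib.Lead Cfsg.Agent.Lib.Lead.IsoMid Cfsg.Agent.Lib.Helper6
open scoped ComplexConjugate

section

variable {G : Type*} [Group G] [Finite G]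

open Classical in
/-- the principal block as a finset -/
noncomputable def blk (M : Ideal Cfsg.AlgInt) (G : Type*) [Group G] [Finite G] :
    Finset (Cfsg.IrrCharacter G) :=
  haveI : Fintype (Cfsg.IrrCharacter G) := Fintype.ofFinite _
  Finset.univ.filter (fun χ => χ ∈ Cfsg.principalBlock M G)

theorem mem_blk {M : Ideal Cfsg.AlgInt} {χ : Cfsg.IrrCharacter G} :
    χ ∈ blk M G ↔ χ ∈ Cfsg.principalBlock M G := by
  unfold blk; simp

theorem coe_blk (M : Ideal Cfsg.AlgInt) :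
    ((blk M G : Finset (Cfsg.IrrCharacter G)) : Set (Cfsg.IrrCharacter G))
      = Cfsg.principalBlock M G := by
  ext χ; simp [mem_blk]

theorem finsum_blk (M : Ideal Cfsg.AlgInt) (f : Cfsg.IrrCharacter G → ℂ) :
    ∑ᶠ χ ∈ Cfsg.principalBlock M G, f χ = ∑ χ ∈ blk M G, f χ := by
  rw [← coe_blk, finsum_mem_coe_finset]

theorem finsum_blk_real (M : Ideal Cfsg.AlgInt) (f : Cfsg.IrrCharacter G → ℝ) :
    ∑ᶠ χ ∈ Cfsg.principalBlock M G, f χ = ∑ χ ∈ blk M G, f χ := by
  rw [← coe_blk, finsum_mem_coe_finset]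

theorem oneIrr_mem_blk {M : Ideal Cfsg.AlgInt} (hM : Cfsg.IsPModular 2 M) : oneIrr G ∈ blk M G := by
  classical
  have : Fintype G := Fintype.ofFinite G
  exact mem_blk.mpr (oneIrr_mem_principalBlock hM)

/-- the pairing of two columns of the principal block -/
noncomputable def col (M : Ideal Cfsg.AlgInt) (g s : G) : ℂ :=
  ∑ χ ∈ blk M G, (χ : G → ℂ) g * conj ((χ : G → ℂ) s)

theorem isPPart_self {s : G} (hs : ∃ k : ℕ, orderOf s = 2 ^ k) : Cfsg.IsPPart 2 s s :=
  ⟨1, mul_one s, Commute.one_right s, hs, by rw [orderOf_one]; norm_num⟩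

theorem isPPart_one_of_odd {g : G} (hg : Odd (orderOf g)) : Cfsg.IsPPart 2 g 1 :=
  ⟨g, one_mul g, Commute.one_left g, ⟨0, by simp⟩, by
    intro h; rw [← even_iff_two_dvd] at h; exact (Nat.not_even_iff_odd.mpr hg) h⟩

/-- block orthogonality for columns -/
theorem col_eq_zero {M : Ideal Cfsg.AlgInt} (hM : Cfsg.IsPModular 2 M) {g x s : G}
    (hgx : Cfsg.IsPPart 2 g x) (hs : ∃ k : ℕ, orderOf s = 2 ^ k) (hne : ¬ IsConj x s) :
    col M g s = 0 := by
  classical
  have : Fintype G := Fintype.ofFinite G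
  have h := block_orthogonality hM g s x s hgx (isPPart_self hs) hne (oneIrr G)
  rw [← principalBlock_eq, finsum_blk] at h
  rw [← h]
  unfold col
  apply Finset.sum_congr rfl
  intro χ _
  rw [IsCharacter.apply_inv (IsIrrCharacter.isCharacter χ.2)]

theorem col_conj_left (M : Ideal Cfsg.AlgInt) {g g' : G} (h : IsConj g g') (s : G) :
    col M g s = col M g' s := by
  obtain ⟨c, rfl⟩ := isConj_iff.mp h
  unfold col
  apply Finset.sum_congr rfl
  intro χ _
  rw [IsIrrCharacter.isClassFunction χ.2]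

theorem col_conj_right (M : Ideal Cfsg.AlgInt) (g : G) {s s' : G} (h : IsConj s s') :
    col M g s = col M g s' := by
  obtain ⟨c, rfl⟩ := isConj_iff.mp h
  unfold col
  apply Finset.sum_congr rfl
  intro χ _
  rw [IsIrrCharacter.isClassFunction χ.2]

/-- a group with a normal `2`-complement has `O(X)` of `2`-power index -/
theorem index_pPrimeCore_of_npc {X : Type*} [Group X] [Finite X]
    (h : Cfsg.HasNormalPComplement 2 X) : ∃ k : ℕ, (Cfsg.pPrimeCore 2 X).index = 2 ^ k := by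
  have : Fact (Nat.Prime 2) := ⟨Nat.prime_two⟩
  have hall := odd_mem_pPrimeCore_of_npc h
  obtain ⟨P, K, hKn, hK⟩ := h
  have hmem := Cfsg.Agent.Lib.Helper1.mem_normal_complement_iff P K hK
  have hle : K ≤ Cfsg.pPrimeCore 2 X := by
    intro x hx
    apply hall
    exact Nat.coprime_two_right.mp ((hmem x).mp hx)
  have h1 : (Cfsg.pPrimeCore 2 X).index ∣ K.index := Subgroup.index_dvd_of_le hle
  have h2 : K.index = Nat.card P := hK.symm.index_eq_card
  obtain ⟨n, hn⟩ := IsPGroup.iff_card.mp P.2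
  rw [h2, hn] at h1
  obtain ⟨k, -, hk⟩ := (Nat.dvd_prime_pow Nat.prime_two).mp h1
  exact ⟨k, hk⟩

/-- the column norm at a `2`-element whose centralizer has a cyclic Sylow `2`-subgroup -/
theorem col_self_of_sylow_cyclic {M : Ideal Cfsg.AlgInt} (hM : Cfsg.IsPModular 2 M) (s : G)
    (hs : ∃ k : ℕ, orderOf s = 2 ^ k) (hs1 : s ≠ 1)
    (Q : Sylow 2 (Subgroup.centralizer ({s} : Set G)))
    (hQ : IsCyclic (Q : Subgroup (Subgroup.centralizer ({s} : Set G)))) :
    col M s s = (Nat.card (Q : Subgroup (Subgroup.centralizer ({s} : Set G))) : ℂ) := by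
  classical
  have : Fact (Nat.Prime 2) := ⟨Nat.prime_two⟩
  have hcent := Cfsg.Agent.S3864.normalizer_le_centralizer_of_cyclic Q hQ
  have hnpc := Cfsg.Agent.Lib.Helper1.hasNormalPComplement_of_normalizer_le_centralizer Q hcent
  have hidx := index_pPrimeCore_of_npc hnpc
  have h947 := (Cfsg.Agent.S0947.result 2 M hM s hs hs1
    (1 : Subgroup.centralizer ({s} : Set G)) (by rw [orderOf_one]; norm_num)).2 hidx
  rw [Subgroup.coe_one, mul_one, finsum_blk_real, ← Sylow.card_eq_multiplicity Q] at h947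
  unfold col
  have h1 : ∀ χ : Cfsg.IrrCharacter G, (χ : G → ℂ) s * conj ((χ : G → ℂ) s)
      = ((‖(χ : G → ℂ) s‖ ^ 2 : ℝ) : ℂ) := by
    intro χ
    rw [Complex.mul_conj, Complex.normSq_eq_norm_sq]
  rw [Finset.sum_congr rfl (fun χ _ => h1 χ), ← Complex.ofReal_sum, h947]
  push_cast
  rfl

/-- relation (c): a combination of principal block characters vanishing on elements of odd order
satisfies `∑ k_χ χ(t)² / χ(1) = 0` for an isolated involution `t` -/
theorem rel_c {t : G} (ht : Cfsg.IsIsolatedInvolution t) (k : Cfsg.IrrCharacter G → ℂ)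
    (B : Finset (Cfsg.IrrCharacter G))
    (hV : ∀ g : G, Odd (orderOf g) → ∑ χ ∈ B, k χ * (χ : G → ℂ) g = 0) :
    ∑ χ ∈ B, k χ * ((χ : G → ℂ) t) ^ 2 / (χ : G → ℂ) 1 = 0 := by
  classical
  have : Fintype G := Fintype.ofFinite G
  have h1 : ∀ g : G, ∑ χ ∈ B, k χ * (χ : G → ℂ) (g * t * g⁻¹ * t) = 0 := by
    intro g
    apply hV
    have h2 := isolated_odd ht g
    have e : g * t * g⁻¹ * t = (t * (g * t * g⁻¹))⁻¹ := by
      rw [mul_inv_rev, invol_inv ht.1, mul_inv_rev, mul_inv_rev, inv_inv, invol_inv ht.1]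
      group
    rw [e, orderOf_inv]
    exact h2
  have h2 : ∑ g : G, ∑ χ ∈ B, k χ * (χ : G → ℂ) (g * t * g⁻¹ * t) = 0 :=
    Finset.sum_eq_zero (fun g _ => h1 g)
  rw [Finset.sum_comm] at h2
  have hG : (Nat.card G : ℂ) ≠ 0 := by
    have : 0 < Nat.card G := Nat.card_pos
    exact_mod_cast this.ne'
  have h3 : ∀ χ ∈ B, ∑ g : G, k χ * (χ : G → ℂ) (g * t * g⁻¹ * t)
      = (Nat.card G : ℂ) * (k χ * ((χ : G → ℂ) t) ^ 2 / (χ : G → ℂ) 1) := by
    intro χ _
    rw [← Finset.mul_sum, IsIrrCharacter.sum_conj_mul χ.2 t t]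
    ring
  rw [Finset.sum_congr rfl h3, ← Finset.mul_sum] at h2
  exact (mul_eq_zero.mp h2).resolve_left hG

end

end Cfsg.Agent.Lib.Helper2.ZS
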