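import Mathlib

set_option autoImplicit false

namespace Cfsg.Agent.Lib.Helper2.ZS

open QuaternionGroup

section quat

variable {m : ℕ}

theorem quat_inv_a (i : ZMod (2 * m)) : (a i : QuaternionGroup m)⁻¹ = a (-i) := by
  apply inv_eq_of_mul_eq_one_right
  rw [a_mul_a, add_neg_cancel, a_zero]

theorem quat_two_m_zero : ((m : ZMod (2 * m)) + (m : ZMod (2 * m))) = 0 := by
  have h : ((2 * m : ℕ) : ZMod (2 * m)) = 0 := ZMod.natCast_self _
  push_cast at h
  rw [← h]; ring

theorem quat_inv_xa (i : ZMod (2 * m)) : (xa i : QuaternionGroup m)⁻¹ = xa ((m : ZMod (2 * m)) + i) := by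
  apply inv_eq_of_mul_eq_one_right
  rw [xa_mul_xa, ← a_zero]
  congr 1
  have := quat_two_m_zero (m := m)
  linear_combination this

/-- conjugation in a generalized quaternion group maps elements of order `> 4` to their powers
`±1` -/
theorem quat_conj_pow [NeZero m] (s q : QuaternionGroup m) (hs : 4 < orderOf s) :
    q * s * q⁻¹ = s ∨ q * s * q⁻¹ = s⁻¹ := by
  rcases s with i | i
  · rcases q with j | j
    · left
      rw [mul_inv_eq_iff_eq_mul, a_mul_a, a_mul_a, add_comm]
    · right
      rw [mul_inv_eq_iff_eq_mul, quat_inv_a, xa_mul_a, a_mul_xa]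
      congr 1; ring
  · rw [orderOf_xa] at hs; omega

theorem quat_not_central (hm : 2 ≤ m) (s : QuaternionGroup m) (hs : s ^ 2 ≠ 1) :
    ∃ q : QuaternionGroup m, ¬ Commute q s := by
  rcases s with i | i
  · refine ⟨xa 0, ?_⟩
    intro h
    have h1 := h.eq
    rw [xa_mul_a, a_mul_xa] at h1
    have h2 : (0 : ZMod (2 * m)) + i = 0 - i := xa.inj h1
    apply hs
    rw [sq, a_mul_a, ← a_zero]
    congr 1
    linear_combination h2
  · refine ⟨a 1, ?_⟩
    intro h
    have h1 := h.eq
    rw [xa_mul_a, a_mul_xa] at h1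
    have h2 : i - 1 = i + 1 := xa.inj h1
    have h3 : ((2 : ℕ) : ZMod (2 * m)) = 0 := by
      push_cast
      linear_combination -h2
    rw [ZMod.natCast_eq_zero_iff] at h3
    have := Nat.le_of_dvd (by norm_num) h3
    omega

theorem quat_inverted (hm : Even m) (s : QuaternionGroup m) :
    ∃ q : QuaternionGroup m, q * s * q⁻¹ = s⁻¹ := by
  rcases s with i | i
  · refine ⟨xa 0, ?_⟩
    rw [mul_inv_eq_iff_eq_mul, quat_inv_a, xa_mul_a, a_mul_xa]
    congr 1; ring
  · obtain ⟨j, hj⟩ := hm
    refine ⟨a (j : ZMod (2 * m)), ?_⟩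
    rw [mul_inv_eq_iff_eq_mul, quat_inv_xa, xa_mul_a, a_mul_xa]
    congr 1
    have h := quat_two_m_zero (m := m)
    have h2 : (m : ZMod (2 * m)) = (j : ZMod (2 * m)) + j := by rw [hj]; push_cast; ring
    rw [h2] at h ⊢
    linear_combination -h

theorem quat8_sq : ∀ w : QuaternionGroup 2, w ≠ 1 → w ≠ a 2 → w ^ 2 = a 2 := by decide

theorem quat_nat_card [NeZero m] : Nat.card (QuaternionGroup m) = 4 * m := by
  rw [Nat.card_eq_fintype_card, QuaternionGroup.card]

end quat

/-- the isomorphism-invariant properties of generalized quaternion groups used below -/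
structure QuatLike (m : ℕ) (X : Type*) [Group X] : Prop where
  card : Nat.card X = 4 * m
  conj_pow : ∀ s q : X, 4 < orderOf s → q * s * q⁻¹ = s ∨ q * s * q⁻¹ = s⁻¹
  not_central : ∀ s : X, s ^ 2 ≠ 1 → ∃ q : X, ¬ Commute q s
  inverted : ∀ s : X, ∃ q : X, q * s * q⁻¹ = s⁻¹

theorem QuatLike.of_equiv {m : ℕ} {X : Type*} [Group X] (e : X ≃* QuaternionGroup m)
    (hm : 2 ≤ m) (hev : Even m) : QuatLike m X := by
  have : NeZero m := ⟨by omega⟩
  refine ⟨?_, ?_, ?_, ?_⟩
  · rw [Nat.card_congr e.toEquiv, quat_nat_card]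
  · intro s q hs
    have h := quat_conj_pow (e s) (e q) (by rw [MulEquiv.orderOf_eq]; exact hs)
    rcases h with h | h
    · left
      apply e.injective
      rw [map_mul, map_mul, map_inv]; exact h
    · right
      apply e.injective
      rw [map_mul, map_mul, map_inv, map_inv]; exact h
  · intro s hs
    obtain ⟨q, hq⟩ := quat_not_central hm (e s) (by
      intro h
      apply hs
      apply e.injective
      rw [map_pow, map_one]; exact h)
    refine ⟨e.symm q, ?_⟩
    intro hc
    apply hq
    have := hc.map e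
    simpa using this
  · intro s
    obtain ⟨q, hq⟩ := quat_inverted hev (e s)
    refine ⟨e.symm q, ?_⟩
    apply e.injective
    rw [map_mul, map_mul, map_inv, map_inv]
    simpa using hq

theorem QuatLike.congr {m : ℕ} {X Y : Type*} [Group X] [Group Y] (h : QuatLike m X) (e : Y ≃* X) :
    QuatLike m Y := by
  refine ⟨?_, ?_, ?_, ?_⟩
  · rw [Nat.card_congr e.toEquiv, h.card]
  · intro s q hs
    rcases h.conj_pow (e s) (e q) (by rw [MulEquiv.orderOf_eq]; exact hs) with h1 | h1
    · left
      apply e.injective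
      rw [map_mul, map_mul, map_inv]; exact h1
    · right
      apply e.injective
      rw [map_mul, map_mul, map_inv, map_inv]; exact h1
  · intro s hs
    obtain ⟨q, hq⟩ := h.not_central (e s) (by
      intro h1
      apply hs
      apply e.injective
      rw [map_pow, map_one]; exact h1)
    refine ⟨e.symm q, ?_⟩
    intro hc
    apply hq
    have := hc.map e
    simpa using this
  · intro s
    obtain ⟨q, hq⟩ := h.inverted (e s)
    refine ⟨e.symm q, ?_⟩
    apply e.injective
    rw [map_mul, map_mul, map_inv, map_inv]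
    simpa using hq

/-- generators -/
theorem exists_quat_gens {m : ℕ} {X : Type*} [Group X] (e : X ≃* QuaternionGroup m) :
    ∃ α β : X, orderOf α = 2 * m ∧ β * α * β⁻¹ = α⁻¹ := by
  refine ⟨e.symm (a 1), e.symm (xa 0), ?_, ?_⟩
  · rw [MulEquiv.orderOf_eq, orderOf_a_one]
  · apply e.injective
    rw [map_mul, map_mul, map_inv, map_inv]
    simp only [MulEquiv.apply_symm_apply]
    rw [mul_inv_eq_iff_eq_mul, quat_inv_a, xa_mul_a, a_mul_xa]
    congr 1; ring

/-- in a group isomorphic to `Q₈`, all elements other than `1` and the involution square to the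
involution -/
theorem quat8_like {X : Type*} [Group X] (e : X ≃* QuaternionGroup 2) :
    ∃ t : X, orderOf t = 2 ∧ ∀ w : X, w ≠ 1 → w ≠ t → w ^ 2 = t := by
  refine ⟨e.symm (a 2), ?_, ?_⟩
  · rw [MulEquiv.orderOf_eq]
    have h1 : (a 2 : QuaternionGroup 2) ≠ 1 := by decide
    have h2 : (a 2 : QuaternionGroup 2) ^ 2 = 1 := by decide
    exact orderOf_eq_prime h2 h1
  · intro w hw1 hwt
    apply e.injective
    rw [map_pow, MulEquiv.apply_symm_apply]
    apply quat8_sq
    · intro h
      apply hw1
      apply e.injective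
      rw [h, map_one]
    · intro h
      apply hwt
      apply e.injective
      rw [h, MulEquiv.apply_symm_apply]

end Cfsg.Agent.Lib.Helper2.ZS
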