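import Mathlib
import Cfsg.Agent.Lib.Helper2.ZS4
import Cfsg.Agent.Lib.Helper2.ZS6
import Cfsg.Agent.Lib.Helper2.QuatAut
import Cfsg.Agent.S3803

set_option autoImplicit false
set_option linter.unusedSectionVars false
open Cfsg

namespace Cfsg.Agent.Lib.Helper2.ZS

open Cfsg.Agent.Lib.Lead Cfsg.Agent.Lib.Lead.IsoMid Cfsg.Agent.Lib.Helper6
open Cfsg.Agent.Lib.Helper1 Cfsg.Agent.Lib.Helper2
open scoped ComplexConjugate

section

variable {G : Type*} [Group G] [Finite G]

/-- all Sylow `2`-subgroups are generalized quaternion of order `4m` -/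
def AllQuat (m : ℕ) (G : Type*) [Group G] : Prop := ∀ P : Sylow 2 G, QuatLike m P

theorem allQuat_of {m : ℕ} (P : Sylow 2 G) (h : QuatLike m P) : AllQuat m G := by
  have : Fact (Nat.Prime 2) := ⟨Nat.prime_two⟩
  intro P'
  exact h.congr (Sylow.equiv P' P)

theorem two_element_of_isPGroup {T : Subgroup G} (hT : IsPGroup 2 T) {s : G} (hs : s ∈ T) :
    ∃ k : ℕ, orderOf s = 2 ^ k := by
  obtain ⟨k, hk⟩ := hT ⟨s, hs⟩
  have h1 : s ^ 2 ^ k = 1 := by simpa using congrArg Subtype.val hk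
  obtain ⟨j, -, hj⟩ := (Nat.dvd_prime_pow Nat.prime_two).mp (orderOf_dvd_of_pow_eq_one h1)
  exact ⟨j, hj⟩

/-- a `2`-subgroup centralizing a non-involution has order at most `2m` -/
theorem card_le_of_centralizes {m : ℕ} (hQ : AllQuat m G) (T : Subgroup G) (hT : IsPGroup 2 T)
    {s : G} (hsT : s ∈ T) (hs2 : s ^ 2 ≠ 1) (hcomm : ∀ x ∈ T, Commute x s) :
    Nat.card T ≤ 2 * m := by
  have : Fact (Nat.Prime 2) := ⟨Nat.prime_two⟩
  obtain ⟨P', hTP⟩ := hT.exists_le_sylow
  have hq := hQ P'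
  obtain ⟨q, hq'⟩ := hq.not_central ⟨s, hTP hsT⟩ (by
    intro h
    apply hs2
    simpa using congrArg Subtype.val h)
  have hne : T.subgroupOf P' ≠ ⊤ := by
    intro h
    have h1 : q ∈ T.subgroupOf P' := by rw [h]; trivial
    rw [Subgroup.mem_subgroupOf] at h1
    apply hq'
    have h2 := hcomm _ h1
    exact Subtype.ext h2.eq
  have hdvd : Nat.card (T.subgroupOf P') ∣ Nat.card P' := Subgroup.card_subgroup_dvd_card _
  have hcard : Nat.card (T.subgroupOf P') = Nat.card T :=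
    Nat.card_congr (Subgroup.subgroupOfEquivOfLe hTP).toEquiv
  have hne' : Nat.card (T.subgroupOf P') ≠ Nat.card P' :=
    fun h => hne ((Subgroup.card_eq_iff_eq_top _).mp h)
  rw [hcard] at hdvd hne'
  rw [hq.card] at hdvd hne'
  obtain ⟨c, hc⟩ := hdvd
  have hpos : 0 < Nat.card T := Nat.card_pos
  have hc0 : c ≠ 0 := by
    intro h; rw [h, mul_zero] at hc
    have := hq.card
    have : 0 < Nat.card P' := Nat.card_pos
    omega
  have hc1 : c ≠ 1 := by
    intro h; rw [h, mul_one] at hc; exact hne' hc.symm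
  have hc2 : 2 ≤ c := by omega
  nlinarith

theorem zpowers_commute {α x y : G} (hx : x ∈ Subgroup.zpowers α) (hy : y ∈ Subgroup.zpowers α) :
    Commute x y := by
  obtain ⟨i, rfl⟩ := Subgroup.mem_zpowers_iff.mp hx
  obtain ⟨j, rfl⟩ := Subgroup.mem_zpowers_iff.mp hy
  exact (Commute.refl α).zpow_zpow i j

/-- the column norm at a non-involution of the cyclic maximal subgroup -/
theorem col_self_quat {m n : ℕ} (hm : m = 2 ^ n) (hQ : AllQuat m G) {M : Ideal Cfsg.AlgInt}
    (hM : Cfsg.IsPModular 2 M) (α : G) (hα : orderOf α = 2 * m) (s : G)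
    (hs : s ∈ Subgroup.zpowers α) (hs2 : s ^ 2 ≠ 1) : col M s s = ((2 * m : ℕ) : ℂ) := by
  have : Fact (Nat.Prime 2) := ⟨Nat.prime_two⟩
  have hAcard : Nat.card (Subgroup.zpowers α) = 2 * m := by rw [Nat.card_zpowers, hα]
  have hAp : IsPGroup 2 (Subgroup.zpowers α) := by
    apply IsPGroup.of_card (n := n + 1)
    rw [hAcard, hm, pow_succ]; ring
  have hAC : Subgroup.zpowers α ≤ Subgroup.centralizer ({s} : Set G) := by
    intro x hx
    rw [Subgroup.mem_centralizer_singleton_iff]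
    exact (zpowers_commute hx hs).eq
  have hA'p : IsPGroup 2 ((Subgroup.zpowers α).subgroupOf (Subgroup.centralizer ({s} : Set G))) :=
    hAp.comap_subtype
  obtain ⟨T, hA'T⟩ := hA'p.exists_le_sylow
  have hTG : IsPGroup 2 ((T : Subgroup (Subgroup.centralizer ({s} : Set G))).map
      (Subgroup.centralizer ({s} : Set G)).subtype) := T.2.map _
  have hsC : s ∈ Subgroup.centralizer ({s} : Set G) := hAC hs
  have hsT : s ∈ (T : Subgroup (Subgroup.centralizer ({s} : Set G))).map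
      (Subgroup.centralizer ({s} : Set G)).subtype := by
    refine ⟨⟨s, hsC⟩, ?_, rfl⟩
    apply hA'T
    rw [Subgroup.mem_subgroupOf]
    exact hs
  have hle := card_le_of_centralizes hQ _ hTG hsT hs2 (by
    rintro _ ⟨c, -, rfl⟩
    exact Subgroup.mem_centralizer_singleton_iff.mp c.2)
  rw [Subgroup.card_map_of_injective (Subgroup.subtype_injective _)] at hle
  have hA'card : Nat.card ((Subgroup.zpowers α).subgroupOf (Subgroup.centralizer ({s} : Set G)))
      = 2 * m := by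
    rw [Nat.card_congr (Subgroup.subgroupOfEquivOfLe hAC).toEquiv, hAcard]
  have heq : (Subgroup.zpowers α).subgroupOf (Subgroup.centralizer ({s} : Set G))
      = (T : Subgroup (Subgroup.centralizer ({s} : Set G))) :=
    Subgroup.eq_of_le_of_card_ge hA'T (by rw [hA'card]; exact hle)
  have hcyc : IsCyclic (T : Subgroup (Subgroup.centralizer ({s} : Set G))) := by
    rw [← heq]
    exact isCyclic_of_surjective (Subgroup.subgroupOfEquivOfLe hAC).symm.toMonoidHom
      (Subgroup.subgroupOfEquivOfLe hAC).symm.surjective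
  have hs1 : s ≠ 1 := by
    intro h; apply hs2; rw [h]; simp
  rw [col_self_of_sylow_cyclic hM s (two_element_of_isPGroup hAp hs) hs1 T hcyc, ← heq, hA'card]

/-- an element of odd order normalizing a cyclic `2`-subgroup centralizes it -/
theorem odd_centralizes_cyclic (E : Subgroup G) (hE : IsPGroup 2 E) (hc : IsCyclic E) {c : G}
    (hcN : c ∈ Subgroup.normalizer (E : Set G)) (hcodd : Odd (orderOf c)) :
    ∀ x ∈ E, c * x * c⁻¹ = x := by
  set φ : MulAut ↥E := conjEquivOfMemNormalizer E c hcN with hφ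
  have hφ1 : φ = 1 := by
    apply coprime_aut_trivial_of_fix_omega_two hE φ
    · have h1 : orderOf φ ∣ orderOf c := by
        apply orderOf_dvd_of_pow_eq_one
        ext y
        rw [Cfsg.Agent.S3803.conjEquiv_pow_apply, pow_orderOf_eq_one]
        simp
      exact Nat.Coprime.coprime_dvd_left h1 (Nat.coprime_two_right.2 hcodd)
    · intro y hy
      apply Subtype.ext
      have hy' : (y : G) ^ 4 = 1 := by
        have := congrArg Subtype.val hy
        simpa using this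
      exact Cfsg.Agent.S3803.cyclic_case hc hcN hcodd y.2 hy'
  intro x hx
  have h5 : (φ ⟨x, hx⟩ : G) = c * x * c⁻¹ := rfl
  rw [hφ1] at h5
  exact h5.symm

/-- fusion of a `2`-element of order at least four with its powers -/
theorem fusion_of_mem_zpowers {m : ℕ} (hQ : AllQuat m G) {s g : G}
    (hs : ∃ k : ℕ, orderOf s = 2 ^ k) (hs4 : 4 ≤ orderOf s)
    (hmem : g * s * g⁻¹ ∈ Subgroup.zpowers s) : g * s * g⁻¹ = s ∨ g * s * g⁻¹ = s⁻¹ := by
  have : Fact (Nat.Prime 2) := ⟨Nat.prime_two⟩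
  by_cases h4 : orderOf s = 4
  · exact Cfsg.Agent.Lib.Helper2.QuatAut.eq_or_eq_inv_of_mem_zpowers h4 (by rw [orderOf_conj']; exact h4) hmem
  have hgt : 4 < orderOf s := by omega
  obtain ⟨k, hk⟩ := hs
  have hEp : IsPGroup 2 (Subgroup.zpowers s) := by
    apply IsPGroup.of_card (n := k)
    rw [Nat.card_zpowers, hk]
  have hEc : IsCyclic (Subgroup.zpowers s) := inferInstance
  have hgN : g ∈ Subgroup.normalizer ((Subgroup.zpowers s : Subgroup G) : Set G) := by
    apply Subgroup.mem_normalizer_fintype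
    intro x hx
    obtain ⟨i, rfl⟩ := Subgroup.mem_zpowers_iff.mp hx
    rw [SetLike.mem_coe, ← conj_zpow]
    exact Subgroup.zpow_mem _ hmem i
  obtain ⟨a, b, hb, hab⟩ := Nat.exists_eq_two_pow_mul_odd (orderOf_pos g).ne'
  -- odd part
  have hcN : g ^ 2 ^ a ∈ Subgroup.normalizer ((Subgroup.zpowers s : Subgroup G) : Set G) :=
    Subgroup.pow_mem _ hgN _
  have hcodd : Odd (orderOf (g ^ 2 ^ a)) := by
    have h3 : (g ^ 2 ^ a) ^ b = 1 := by rw [← pow_mul, ← hab, pow_orderOf_eq_one]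
    exact Odd.of_dvd_nat hb (orderOf_dvd_of_pow_eq_one h3)
  have hccent := odd_centralizes_cyclic _ hEp hEc hcN hcodd
  have hccent' : g ^ 2 ^ a ∈ Subgroup.centralizer ((Subgroup.zpowers s : Subgroup G) : Set G) := by
    rw [Subgroup.mem_centralizer_iff]
    intro x hx
    have h1 := hccent x hx
    calc x * g ^ 2 ^ a = (g ^ 2 ^ a * x * (g ^ 2 ^ a)⁻¹) * g ^ 2 ^ a := by rw [h1]
      _ = g ^ 2 ^ a * x := by group
  -- 2-part
  have hdN : g ^ b ∈ Subgroup.normalizer ((Subgroup.zpowers s : Subgroup G) : Set G) :=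
    Subgroup.pow_mem _ hgN _
  have hDp : IsPGroup 2 (Subgroup.zpowers (g ^ b)) := by
    have h3 : (g ^ b) ^ 2 ^ a = 1 := by rw [← pow_mul, mul_comm, ← hab, pow_orderOf_eq_one]
    obtain ⟨j, -, hj⟩ := (Nat.dvd_prime_pow Nat.prime_two).1 (orderOf_dvd_of_pow_eq_one h3)
    apply IsPGroup.of_card (n := j)
    rw [Nat.card_zpowers, hj]
  have hDN : Subgroup.zpowers (g ^ b) ≤ Subgroup.normalizer ((Subgroup.zpowers s : Subgroup G) : Set G) := by
    rw [Subgroup.zpowers_le]; exact hdN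
  have hsup : IsPGroup 2 (Subgroup.zpowers s ⊔ Subgroup.zpowers (g ^ b) : Subgroup G) :=
    hEp.to_sup_of_normal_left' hDp hDN
  obtain ⟨P', hP'⟩ := hsup.exists_le_sylow
  have hsP' : s ∈ P' := hP' (Subgroup.mem_sup_left (Subgroup.mem_zpowers s))
  -- Bezout
  have hcop : Nat.Coprime (2 ^ a) b := Nat.Coprime.pow_left a (Nat.coprime_two_left.2 hb)
  have hbez := Int.gcd_eq_gcd_ab (2 ^ a : ℕ) b
  rw [show Int.gcd ((2 ^ a : ℕ) : ℤ) (b : ℤ) = Nat.gcd (2 ^ a) b from Int.gcd_natCast_natCast _ _,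
    hcop] at hbez
  have hg' : g = (g ^ 2 ^ a) ^ (Int.gcdA (2 ^ a : ℕ) b) * (g ^ b) ^ (Int.gcdB (2 ^ a : ℕ) b) := by
    rw [← zpow_natCast g (2 ^ a), ← zpow_natCast g b, ← zpow_mul, ← zpow_mul, ← zpow_add]
    have : ((1 : ℕ) : ℤ) = ((2 ^ a : ℕ) : ℤ) * Int.gcdA (2 ^ a : ℕ) b + (b : ℤ) * Int.gcdB (2 ^ a : ℕ) b :=
      hbez
    rw [← this]
    simp
  set c := (g ^ 2 ^ a) ^ (Int.gcdA (2 ^ a : ℕ) b) with hcdef
  set d := (g ^ b) ^ (Int.gcdB (2 ^ a : ℕ) b) with hddef
  have hdP' : d ∈ P' := hP' (Subgroup.mem_sup_right (Subgroup.zpow_mem _ (Subgroup.mem_zpowers _) _))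
  have hcC : c ∈ Subgroup.centralizer ((Subgroup.zpowers s : Subgroup G) : Set G) :=
    Subgroup.zpow_mem _ hccent' _
  have hq := (hQ P').conj_pow ⟨s, hsP'⟩ ⟨d, hdP'⟩ (by rw [Subgroup.orderOf_mk]; exact hgt)
  have hq' : d * s * d⁻¹ = s ∨ d * s * d⁻¹ = s⁻¹ := by
    rcases hq with h | h
    · left; simpa using congrArg Subtype.val h
    · right; simpa using congrArg Subtype.val h
  have hfix : ∀ x ∈ Subgroup.zpowers s, c * x * c⁻¹ = x := by
    intro x hx
    have h1 := Subgroup.mem_centralizer_iff.mp hcC x hx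
    calc c * x * c⁻¹ = (x * c) * c⁻¹ := by rw [h1]
      _ = x := by group
  have e : g * s * g⁻¹ = c * (d * s * d⁻¹) * c⁻¹ := by rw [hg']; group
  rw [e]
  rcases hq' with h | h
  · left; rw [h]; exact hfix s (Subgroup.mem_zpowers s)
  · right; rw [h]; exact hfix _ (Subgroup.inv_mem _ (Subgroup.mem_zpowers s))

end

end Cfsg.Agent.Lib.Helper2.ZS
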