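import Mathlib
import Cfsg.Agent.Lib.Helper2.ZS5
import Cfsg.Agent.Lib.Helper2.ZS7
import Cfsg.Agent.Lib.Helper6.Mult

set_option autoImplicit false
set_option linter.unusedSectionVars false
open Cfsg

namespace Cfsg.Agent.Lib.Helper2.ZS

open Cfsg.Agent.Lib.Lead Cfsg.Agent.Lib.Lead.IsoMid Cfsg.Agent.Lib.Helper6
open scoped ComplexConjugate

section cyc

variable {G : Type*} [Group G] [Finite G]

/-- in a finite cyclic group, elements of equal order generate the same subgroup -/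
theorem mem_zpowers_of_orderOf_eq {α x y : G} (hx : x ∈ Subgroup.zpowers α)
    (hy : y ∈ Subgroup.zpowers α) (h : orderOf y = orderOf x) : y ∈ Subgroup.zpowers x := by
  obtain ⟨i, hi⟩ := (mem_powers_iff_mem_zpowers).mpr hx
  obtain ⟨j, hj⟩ := (mem_powers_iff_mem_zpowers).mpr hy
  simp only at hi hj
  subst hi
  subst hj
  have hN : 0 < orderOf α := orderOf_pos α
  rw [orderOf_pow, orderOf_pow] at h
  have hg : Nat.gcd (orderOf α) j = Nat.gcd (orderOf α) i := by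
    obtain ⟨u, hu⟩ := Nat.gcd_dvd_left (orderOf α) i
    obtain ⟨v, hv⟩ := Nat.gcd_dvd_left (orderOf α) j
    have hgi : 0 < Nat.gcd (orderOf α) i := Nat.gcd_pos_of_pos_left _ hN
    have hgj : 0 < Nat.gcd (orderOf α) j := Nat.gcd_pos_of_pos_left _ hN
    have e1 : orderOf α / Nat.gcd (orderOf α) i = u := Nat.div_eq_of_eq_mul_right hgi hu
    have e2 : orderOf α / Nat.gcd (orderOf α) j = v := Nat.div_eq_of_eq_mul_right hgj hv
    rw [e1, e2] at h
    have hu0 : 0 < u := by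
      rcases Nat.eq_zero_or_pos u with h0 | h0
      · rw [h0, mul_zero] at hu; omega
      · exact h0
    have : Nat.gcd (orderOf α) j * u = Nat.gcd (orderOf α) i * u := by
      rw [← hu, ← h, ← hv]
    exact Nat.eq_of_mul_eq_mul_right hu0 this
  have hdvd : Nat.gcd (orderOf α) i ∣ j := hg ▸ Nat.gcd_dvd_right (orderOf α) j
  obtain ⟨l, hl⟩ := hdvd
  have hbez := Nat.gcd_eq_gcd_ab (orderOf α) i
  have e : α ^ (Nat.gcd (orderOf α) i) = (α ^ i) ^ (Nat.gcdB (orderOf α) i) := by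
    rw [← zpow_natCast α (Nat.gcd (orderOf α) i), hbez, zpow_add, zpow_mul, zpow_natCast,
      pow_orderOf_eq_one, one_zpow, one_mul, zpow_mul, zpow_natCast]
  rw [hl, pow_mul, e]
  exact Subgroup.pow_mem _ (Subgroup.zpow_mem _ (Subgroup.mem_zpowers _) _) _

theorem isConj_inv_of_inverted {α β a : G} (hβ : β * α * β⁻¹ = α⁻¹) (ha : a ∈ Subgroup.zpowers α) :
    IsConj a a⁻¹ := by
  obtain ⟨i, rfl⟩ := Subgroup.mem_zpowers_iff.mp ha
  rw [isConj_iff]
  refine ⟨β, ?_⟩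
  rw [← conj_zpow, hβ, inv_zpow]

end cyc

section big

variable {G : Type*} [Group G] [Finite G]

theorem conj_unit_of_pow_eq_one (u : ℂˣ) {N : ℕ} (hN : 0 < N) (h : u ^ N = 1) :
    conj (u : ℂ) = ((u⁻¹ : ℂˣ) : ℂ) := by
  have h1 : ((u : ℂ)) ^ N = 1 := by
    have := congrArg Units.val h
    simpa using this
  have hn : ‖(u : ℂ)‖ = 1 := Complex.norm_eq_one_of_pow_eq_one h1 hN.ne'
  rw [Units.val_inv_eq_inv_val, Complex.inv_def, Complex.normSq_eq_norm_sq, hn]
  simp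

/-- the unit `i` -/
noncomputable def Iu : ℂˣ := ⟨Complex.I, -Complex.I, by simp, by simp⟩

theorem Iu_val : (Iu : ℂ) = Complex.I := rfl

theorem Iu_pow_four : Iu ^ 4 = 1 := by
  apply Units.ext
  rw [Units.val_pow_eq_pow_val, Iu_val, Complex.I_pow_four]
  rfl

theorem Iu_ne_one : Iu ≠ 1 := by
  intro h
  have := congrArg Units.val h
  rw [Iu_val, Units.val_one] at this
  exact Complex.I_ne_zero (by
    have h2 := congrArg Complex.im this
    simp at h2)

theorem Iu_sq_ne_one : Iu ^ 2 ≠ 1 := by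
  intro h
  have := congrArg Units.val h
  rw [Units.val_pow_eq_pow_val, Iu_val, Complex.I_sq, Units.val_one] at this
  norm_num at this

/-- integrality of the coefficients `⟨χ|_A, 1 - μ⟩` -/
theorem kz_exists (A : Subgroup G) [Fintype A] (μ : A →* ℂˣ) (χ : Cfsg.IrrCharacter G) :
    ∃ k : ℤ, (k : ℂ) = (Nat.card A : ℂ)⁻¹ *
      ∑ a : A, (χ : G → ℂ) a * conj (1 - ((μ a : ℂˣ) : ℂ)) := by
  have hres := IsCharacter.restrict A (IsIrrCharacter.isCharacter χ.2)
  obtain ⟨n₁, h₁⟩ := IsCharacter.classInner_irr_nat hres (isIrrCharacter_one (G := A))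
  obtain ⟨n₂, h₂⟩ := IsCharacter.classInner_irr_nat hres (isIrrCharacter_of_hom μ)
  refine ⟨(n₁ : ℤ) - n₂, ?_⟩
  push_cast
  rw [← h₁, ← h₂]
  unfold Cfsg.classInner
  rw [← mul_sub, ← Finset.sum_sub_distrib]
  congr 1
  apply Finset.sum_congr rfl
  intro a _
  rw [map_sub, map_one]
  ring

/-- evaluation of the combination `∑ k_χ χ` -/
theorem kz_eval (A : Subgroup G) [Fintype A] (μ : A →* ℂˣ) (M : Ideal Cfsg.AlgInt)
    (kz : Cfsg.IrrCharacter G → ℤ)
    (hkz : ∀ χ : Cfsg.IrrCharacter G, (kz χ : ℂ) = (Nat.card A : ℂ)⁻¹ *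
      ∑ a : A, (χ : G → ℂ) a * conj (1 - ((μ a : ℂˣ) : ℂ))) (g : G) :
    ∑ χ ∈ blk M G, (kz χ : ℂ) * (χ : G → ℂ) g
      = (Nat.card A : ℂ)⁻¹ * ∑ a : A, (1 - ((μ a : ℂˣ) : ℂ)) * col M g (a : G) := by
  have hk2 : ∀ χ : Cfsg.IrrCharacter G, (kz χ : ℂ) = (Nat.card A : ℂ)⁻¹ *
      ∑ a : A, conj ((χ : G → ℂ) a) * (1 - ((μ a : ℂˣ) : ℂ)) := by
    intro χ
    have h := congrArg conj (hkz χ)
    rw [map_intCast, map_mul, map_inv₀, Complex.conj_natCast, map_sum] at h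
    rw [h]
    congr 1
    apply Finset.sum_congr rfl
    intro a _
    rw [map_mul, Complex.conj_conj]
  simp_rw [hk2]
  unfold col
  have e1 : ∀ χ ∈ blk M G, (Nat.card A : ℂ)⁻¹ * (∑ a : A, conj ((χ : G → ℂ) a) * (1 - ((μ a : ℂˣ) : ℂ))) * (χ : G → ℂ) g
      = ∑ a : A, (Nat.card A : ℂ)⁻¹ * ((1 - ((μ a : ℂˣ) : ℂ)) * ((χ : G → ℂ) g * conj ((χ : G → ℂ) a))) := by
    intro χ _
    rw [Finset.mul_sum, Finset.sum_mul]
    apply Finset.sum_congr rfl
    intro a _
    ring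
  rw [Finset.sum_congr rfl e1, Finset.sum_comm, Finset.mul_sum]
  apply Finset.sum_congr rfl
  intro a _
  rw [← Finset.mul_sum, ← Finset.mul_sum]

/-- **The case `|P| ≥ 16`.** -/
theorem exists_char_big {m n : ℕ} (hm : m = 2 ^ n) (hn : 2 ≤ n) (hQ : AllQuat m G)
    {M : Ideal Cfsg.AlgInt} (hM : Cfsg.IsPModular 2 M) {t : G} (ht : Cfsg.IsIsolatedInvolution t)
    (α β : G) (hα : orderOf α = 2 * m) (hβ : β * α * β⁻¹ = α⁻¹) (hαt : α ^ m = t)
    (hinv : ∀ a ∈ Subgroup.zpowers α, a ^ 2 = 1 → a = 1 ∨ a = t) :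
    ∃ χ ∈ blk M G, χ ≠ oneIrr G ∧ (χ : G → ℂ) t = (χ : G → ℂ) 1 := by
  classical
  have : Fact (Nat.Prime 2) := ⟨Nat.prime_two⟩
  have : Fintype G := Fintype.ofFinite G
  obtain ⟨A, hA⟩ : ∃ A : Subgroup G, A = Subgroup.zpowers α := ⟨_, rfl⟩
  have : Fintype A := Fintype.ofFinite A
  have hAcard : Nat.card A = 2 * m := by rw [hA, Nat.card_zpowers, hα]
  obtain ⟨m', hm'⟩ : ∃ m' : ℕ, m = 4 * m' := by
    refine ⟨2 ^ (n - 2), ?_⟩
    rw [hm]
    have : n = (n - 2) + 2 := by omega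
    conv_lhs => rw [this]
    rw [pow_add]; ring
  have hmpos : 0 < m := by rw [hm]; positivity
  have hαA : α ∈ A := by rw [hA]; exact Subgroup.mem_zpowers α
  obtain ⟨a₀, ha₀⟩ : ∃ a₀ : A, a₀ = ⟨α, hαA⟩ := ⟨_, rfl⟩
  have hgen : ∀ x : A, x ∈ Subgroup.zpowers a₀ := by
    intro x
    have hx : (x : G) ∈ Subgroup.zpowers α := by rw [← hA]; exact x.2
    obtain ⟨i, hi⟩ := Subgroup.mem_zpowers_iff.mp hx
    refine Subgroup.mem_zpowers_iff.mpr ⟨i, Subtype.ext ?_⟩
    rw [ha₀]; simpa using hi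
  have ha₀o : orderOf a₀ = 2 * m := by rw [ha₀, Subgroup.orderOf_mk, hα]
  have hIo : orderOf Iu ∣ orderOf a₀ := by
    rw [ha₀o]
    exact (orderOf_dvd_of_pow_eq_one Iu_pow_four).trans ⟨2 * m', by rw [hm']; ring⟩
  obtain ⟨μ, hμ⟩ : ∃ μ : A →* ℂˣ, μ = monoidHomOfForallMemZpowers hgen hIo := ⟨_, rfl⟩
  have hμa₀ : μ a₀ = Iu := by rw [hμ]; exact monoidHomOfForallMemZpowers_apply_gen hgen hIo
  have hμ4 : ∀ a : A, (μ a) ^ 4 = 1 := by
    intro a
    obtain ⟨i, hi⟩ := Subgroup.mem_zpowers_iff.mp (hgen a)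
    rw [← hi, map_zpow, hμa₀, ← zpow_natCast, ← zpow_mul, mul_comm, zpow_mul, zpow_natCast,
      Iu_pow_four, one_zpow]
  have hconj : ∀ a : A, conj ((μ a : ℂˣ) : ℂ) = ((μ a⁻¹ : ℂˣ) : ℂ) := by
    intro a
    rw [map_inv]
    exact conj_unit_of_pow_eq_one _ (by norm_num) (hμ4 a)
  have hS1 : ∑ a : A, ((μ a : ℂˣ) : ℂ) = 0 := by
    have := sum_hom_units_eq_zero ((Units.coeHom ℂ).comp μ) (by
      intro h
      have h1 := DFunLike.congr_fun h a₀
      simp only [MonoidHom.comp_apply, Units.coeHom_apply, MonoidHom.one_apply] at h1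
      rw [hμa₀] at h1
      exact Iu_ne_one (Units.ext h1))
    simpa using this
  have hS2 : ∑ a : A, (((μ a : ℂˣ) : ℂ)) ^ 2 = 0 := by
    have := sum_hom_units_eq_zero ((Units.coeHom ℂ).comp (μ ^ 2)) (by
      intro h
      have h1 := DFunLike.congr_fun h a₀
      simp only [MonoidHom.comp_apply, Units.coeHom_apply, MonoidHom.one_apply,
        MonoidHom.pow_apply] at h1
      rw [hμa₀] at h1
      exact Iu_sq_ne_one (Units.ext h1))
    simpa using this
  choose kz hkz using kz_exists A μ (G := G)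
  have hev := kz_eval A μ M kz hkz
  have nC0 : (Nat.card A : ℂ) ≠ 0 := by
    rw [hAcard]
    have : 2 * m ≠ 0 := by omega
    exact_mod_cast this
  have hμt : ∀ a : A, (a : G) = t → μ a = 1 := by
    intro a hat
    have h1 : a = a₀ ^ m := Subtype.ext (by rw [hat, ha₀]; simp [hαt])
    rw [h1, map_pow, hμa₀, hm', pow_mul, Iu_pow_four, one_pow]
  have hsupp : ∀ a : A, μ a ≠ 1 → (a : G) ^ 2 ≠ 1 := by
    intro a ha h2
    rcases hinv a (hA ▸ a.2) h2 with h | h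
    · apply ha
      have h1 : a = 1 := Subtype.ext h
      rw [h1, map_one]
    · exact ha (hμt a h)
  have hAp : IsPGroup 2 A := IsPGroup.of_card (n := n + 1) (by rw [hAcard, hm, pow_succ]; ring)
  have hord : ∀ a : A, μ a ≠ 1 → (∃ k : ℕ, orderOf (a : G) = 2 ^ k) ∧ 4 ≤ orderOf (a : G) := by
    intro a ha
    obtain ⟨k, hk⟩ := two_element_of_isPGroup hAp a.2
    refine ⟨⟨k, hk⟩, ?_⟩
    have h2 := hsupp a ha
    rw [hk]
    rcases k with _ | _ | k
    · exfalso; apply h2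
      rw [pow_zero, orderOf_eq_one_iff] at hk
      rw [hk]; simp
    · exfalso; apply h2
      rw [zero_add, pow_one] at hk
      rw [← hk]; exact pow_orderOf_eq_one _
    · rw [pow_succ, pow_succ]
      have := Nat.one_le_two_pow (n := k)
      omega
  have hcol : ∀ a a' : A, μ a ≠ 1 → (1 - ((μ a' : ℂˣ) : ℂ)) * col M (a : G) (a' : G)
      = (1 - ((μ a' : ℂˣ) : ℂ)) * (if a' = a ∨ a' = a⁻¹ then (Nat.card A : ℂ) else 0) := by
    intro a a' ha
    by_cases ha' : μ a' = 1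
    · rw [ha']; simp
    · congr 1
      obtain ⟨ho, ho4⟩ := hord a ha
      obtain ⟨ho', ho4'⟩ := hord a' ha'
      have haA : (a : G) ∈ Subgroup.zpowers α := hA ▸ a.2
      have ha'A : (a' : G) ∈ Subgroup.zpowers α := hA ▸ a'.2
      by_cases hc : IsConj (a : G) (a' : G)
      · obtain ⟨g, hg⟩ := isConj_iff.mp hc
        have hmem : g * (a : G) * g⁻¹ ∈ Subgroup.zpowers (a : G) := by
          rw [hg]
          exact mem_zpowers_of_orderOf_eq haA ha'A (by rw [← hg, orderOf_conj'])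
        have hfus := fusion_of_mem_zpowers hQ ho ho4 hmem
        rw [hg] at hfus
        have h3 : a' = a ∨ a' = a⁻¹ := by
          rcases hfus with h | h
          · left; exact Subtype.ext h
          · right; exact Subtype.ext (by simpa using h)
        rw [if_pos h3, ← col_conj_right M (a : G) hc,
          col_self_quat hm hQ hM α hα (a : G) haA (hsupp a ha), hAcard]
      · rw [if_neg, col_eq_zero hM (isPPart_self ho) ho' hc]
        rintro (h | h)
        · apply hc; rw [h]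
        · apply hc; rw [h]; simpa using isConj_inv_of_inverted hβ haA
  have hFA : ∀ a : A, μ a ≠ 1 → ∑ χ ∈ blk M G, (kz χ : ℂ) * (χ : G → ℂ) (a : G)
      = (1 - ((μ a : ℂˣ) : ℂ)) + (1 - ((μ a⁻¹ : ℂˣ) : ℂ)) := by
    intro a ha
    rw [hev, Finset.sum_congr rfl (fun a' _ => hcol a a' ha)]
    have hne : a ≠ a⁻¹ := by
      intro h
      apply hsupp a ha
      have h1 : a * a = 1 := by nth_rw 2 [h]; exact mul_inv_cancel a
      have h2 := congrArg Subtype.val h1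
      simpa [sq] using h2
    have e : ∀ a' : A, (1 - ((μ a' : ℂˣ) : ℂ)) *
        (if a' = a ∨ a' = a⁻¹ then (Nat.card A : ℂ) else 0)
        = (if a' = a then (1 - ((μ a' : ℂˣ) : ℂ)) * (Nat.card A : ℂ) else 0)
          + (if a' = a⁻¹ then (1 - ((μ a' : ℂˣ) : ℂ)) * (Nat.card A : ℂ) else 0) := by
      intro a'
      by_cases h1 : a' = a
      · have h2 : a' ≠ a⁻¹ := by rw [h1]; exact hne
        rw [if_pos (Or.inl h1), if_pos h1, if_neg h2, add_zero]
      · by_cases h2 : a' = a⁻¹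
        · rw [if_pos (Or.inr h2), if_neg h1, if_pos h2, zero_add]
        · rw [if_neg (by tauto), if_neg h1, if_neg h2, mul_zero, add_zero]
    rw [Finset.sum_congr rfl (fun a' _ => e a'), Finset.sum_add_distrib, Finset.sum_ite_eq',
      Finset.sum_ite_eq']
    simp only [Finset.mem_univ, if_true]
    field_simp
  have hnorm : ∑ χ ∈ blk M G, (kz χ) ^ 2 = 3 := by
    have hC : ∑ χ ∈ blk M G, ((kz χ : ℂ)) ^ 2 = 3 := by
      have e1 : ∀ χ ∈ blk M G, ((kz χ : ℂ)) ^ 2 = (Nat.card A : ℂ)⁻¹ *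
          ∑ a : A, conj (1 - ((μ a : ℂˣ) : ℂ)) * ((kz χ : ℂ) * (χ : G → ℂ) a) := by
        intro χ _
        rw [sq]
        nth_rw 2 [hkz χ]
        rw [Finset.mul_sum, Finset.mul_sum, Finset.mul_sum]
        apply Finset.sum_congr rfl
        intro a _
        ring
      rw [Finset.sum_congr rfl e1, ← Finset.mul_sum, Finset.sum_comm]
      have e2 : ∀ a : A, ∑ χ ∈ blk M G, conj (1 - ((μ a : ℂˣ) : ℂ)) *
          ((kz χ : ℂ) * (χ : G → ℂ) a)
          = conj (1 - ((μ a : ℂˣ) : ℂ)) *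
            ((1 - ((μ a : ℂˣ) : ℂ)) + (1 - ((μ a⁻¹ : ℂˣ) : ℂ))) := by
        intro a
        rw [← Finset.mul_sum]
        by_cases ha : μ a = 1
        · rw [ha]; simp
        · rw [hFA a ha]
      rw [Finset.sum_congr rfl (fun a _ => e2 a)]
      have e3 : ∀ a : A, conj (1 - ((μ a : ℂˣ) : ℂ)) *
          ((1 - ((μ a : ℂˣ) : ℂ)) + (1 - ((μ a⁻¹ : ℂˣ) : ℂ)))
          = 3 - ((μ a : ℂˣ) : ℂ) - 3 * conj ((μ a : ℂˣ) : ℂ) + conj (((μ a : ℂˣ) : ℂ) ^ 2) := by
        intro a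
        rw [map_sub, map_one, ← hconj a, map_pow]
        have hmm : ((μ a : ℂˣ) : ℂ) * conj ((μ a : ℂˣ) : ℂ) = 1 := by
          rw [hconj a, map_inv, ← Units.val_mul, mul_inv_cancel, Units.val_one]
        linear_combination hmm
      rw [Finset.sum_congr rfl (fun a _ => e3 a)]
      rw [Finset.sum_add_distrib, Finset.sum_sub_distrib, Finset.sum_sub_distrib, ← Finset.mul_sum,
        ← map_sum, ← map_sum, hS1, hS2, Finset.sum_const, Finset.card_univ,
        ← Nat.card_eq_fintype_card]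
      simp only [map_zero, mul_zero, sub_zero, add_zero, nsmul_eq_mul]
      field_simp
    exact_mod_cast hC
  have hV : ∀ g x : G, Cfsg.IsPPart 2 g x → orderOf x ≤ 2 →
      ∑ χ ∈ blk M G, (kz χ : ℂ) * (χ : G → ℂ) g = 0 := by
    intro g x hgx hx
    rw [hev]
    have h0 : ∀ a : A, (1 - ((μ a : ℂˣ) : ℂ)) * col M g (a : G) = 0 := by
      intro a
      by_cases ha : μ a = 1
      · rw [ha]; simp
      · obtain ⟨ho, ho4⟩ := hord a ha
        rw [col_eq_zero hM hgx ho, mul_zero]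
        intro hc
        have := isConj_orderOf hc
        omega
    rw [Finset.sum_congr rfl (fun a _ => h0 a), Finset.sum_const_zero, mul_zero]
  have hdeg : ∀ χ : Cfsg.IrrCharacter G, (χ : G → ℂ) 1 = (Cfsg.charDegree (χ : G → ℂ) : ℂ) :=
    fun χ => IsCharacter.apply_one_eq_charDegree (IsIrrCharacter.isCharacter χ.2)
  have ha : ∑ χ ∈ blk M G, (kz χ : ℂ) * (Cfsg.charDegree (χ : G → ℂ) : ℂ) = 0 := by
    have h := hV 1 1 (isPPart_self ⟨0, by simp⟩) (by simp)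
    rw [← h]
    apply Finset.sum_congr rfl
    intro χ _
    rw [hdeg]
  have hb : ∑ χ ∈ blk M G, (kz χ : ℂ) * (χ : G → ℂ) t = 0 :=
    hV t t (isPPart_self ⟨1, by rw [ht.1]; norm_num⟩) (by rw [ht.1])
  have hc : ∑ χ ∈ blk M G, (kz χ : ℂ) * ((χ : G → ℂ) t) ^ 2 / (Cfsg.charDegree (χ : G → ℂ) : ℂ)
      = 0 := by
    have h := rel_c ht (fun χ => (kz χ : ℂ)) (blk M G)
      (fun g hg => hV g 1 (isPPart_one_of_odd hg) (by simp))
    rw [← h]
    apply Finset.sum_congr rfl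
    intro χ _
    rw [hdeg]
  have hko : kz (oneIrr G) = 1 := by
    have h1 : (kz (oneIrr G) : ℂ) = 1 := by
      rw [hkz]
      simp only [oneIrr, one_mul, map_sub, map_one]
      rw [Finset.sum_sub_distrib, ← map_sum, hS1, Finset.sum_const, Finset.card_univ,
        ← Nat.card_eq_fintype_card]
      simp only [map_zero, sub_zero, nsmul_eq_mul, mul_one]
      field_simp
    exact_mod_cast h1
  obtain ⟨χ, hχB, hχne, hχt⟩ := norm_three (blk M G) (oneIrr G) (oneIrr_mem_blk hM) kz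
    (fun χ => Cfsg.charDegree (χ : G → ℂ)) (fun χ => (χ : G → ℂ) t)
    (fun χ _ => Nat.pos_of_ne_zero (charDegree_ne_zero χ)) hko charDegree_one_fun rfl hnorm ha hb hc
  exact ⟨χ, hχB, hχne, by rw [hχt, hdeg]⟩

end big

end Cfsg.Agent.Lib.Helper2.ZS
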