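import Mathlib
import Cfsg.Agent.Lib.Helper2.ZS8

set_option autoImplicit false
set_option linter.unusedSectionVars false
open Cfsg

namespace Cfsg.Agent.Lib.Helper2.ZS

open Cfsg.Agent.Lib.Lead Cfsg.Agent.Lib.Lead.IsoMid Cfsg.Agent.Lib.Helper6
open scoped ComplexConjugate

section q8

variable {G : Type*} [Group G] [Finite G]

/-- sum over a cyclic group of order four -/
theorem sum_zpowers_four {w : G} (hw : orderOf w = 4) [Fintype (Subgroup.zpowers w)]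
    (f : Subgroup.zpowers w → ℂ) :
    ∑ x : Subgroup.zpowers w, f x
      = f 1 + f ⟨w, Subgroup.mem_zpowers w⟩ + f ⟨w ^ 2, Subgroup.pow_mem _ (Subgroup.mem_zpowers w) 2⟩
        + f ⟨w ^ 3, Subgroup.pow_mem _ (Subgroup.mem_zpowers w) 3⟩ := by
  obtain ⟨e, he⟩ : ∃ e : Fin 4 ≃ Subgroup.zpowers w, ∀ i : Fin 4, (e i : G) = w ^ (i : ℕ) :=
    ⟨(finCongr hw.symm).trans (finEquivZPowers (isOfFinOrder_of_finite w)), fun i => by
      simp [finEquivZPowers_apply]⟩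
  rw [← Equiv.sum_comp e f, Fin.sum_univ_four]
  congr 1
  · congr 1
    · congr 1
      · congr 1; apply Subtype.ext; rw [he]; simp
      · congr 1; apply Subtype.ext; rw [he]; simp
    · congr 1; apply Subtype.ext; rw [he]; simp
  · congr 1; apply Subtype.ext; rw [he]; simp

/-- restriction of a character to a cyclic subgroup of order four generated by a real element -/
theorem restrict_four (χ : Cfsg.IrrCharacter G) {w : G} (hw : orderOf w = 4) (hinv : IsConj w w⁻¹) :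
    ∃ n₀ n₂ c : ℕ, Cfsg.charDegree (χ : G → ℂ) = n₀ + n₂ + 2 * c ∧
      (χ : G → ℂ) (w ^ 2) = (n₀ : ℂ) + n₂ - 2 * c ∧ (χ : G → ℂ) w = (n₀ : ℂ) - n₂ := by
  classical
  have : Fintype (Subgroup.zpowers w) := Fintype.ofFinite _
  obtain ⟨w₀, hw₀⟩ : ∃ w₀ : Subgroup.zpowers w, w₀ = ⟨w, Subgroup.mem_zpowers w⟩ := ⟨_, rfl⟩
  have hgen : ∀ x : Subgroup.zpowers w, x ∈ Subgroup.zpowers w₀ := by
    intro x
    obtain ⟨i, hi⟩ := Subgroup.mem_zpowers_iff.mp x.2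
    refine Subgroup.mem_zpowers_iff.mpr ⟨i, Subtype.ext ?_⟩
    rw [hw₀]; simpa using hi
  have hw₀o : orderOf w₀ = 4 := by rw [hw₀, Subgroup.orderOf_mk, hw]
  have hIo : orderOf Iu ∣ orderOf w₀ := by
    rw [hw₀o]; exact orderOf_dvd_of_pow_eq_one Iu_pow_four
  obtain ⟨lam, hlam⟩ : ∃ lam : Subgroup.zpowers w →* ℂˣ,
      lam = monoidHomOfForallMemZpowers hgen hIo := ⟨_, rfl⟩
  have hlam₀ : lam w₀ = Iu := by rw [hlam]; exact monoidHomOfForallMemZpowers_apply_gen hgen hIo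
  have hres := IsCharacter.restrict (Subgroup.zpowers w) (IsIrrCharacter.isCharacter χ.2)
  obtain ⟨n₀, h₀⟩ := IsCharacter.classInner_irr_nat hres (isIrrCharacter_one (G := Subgroup.zpowers w))
  obtain ⟨n₁, h₁⟩ := IsCharacter.classInner_irr_nat hres (isIrrCharacter_of_hom lam)
  obtain ⟨n₂, h₂⟩ := IsCharacter.classInner_irr_nat hres (isIrrCharacter_of_hom (lam ^ 2))
  unfold Cfsg.classInner at h₀ h₁ h₂
  rw [sum_zpowers_four hw] at h₀ h₁ h₂
  have hcard : (Nat.card (Subgroup.zpowers w) : ℂ) = 4 := by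
    rw [Nat.card_zpowers, hw]; norm_num
  rw [hcard] at h₀ h₁ h₂
  have e1 : (⟨w, Subgroup.mem_zpowers w⟩ : Subgroup.zpowers w) = w₀ := hw₀.symm
  have e2 : (⟨w ^ 2, Subgroup.pow_mem _ (Subgroup.mem_zpowers w) 2⟩ : Subgroup.zpowers w)
      = w₀ ^ 2 := by rw [hw₀]; rfl
  have e3 : (⟨w ^ 3, Subgroup.pow_mem _ (Subgroup.mem_zpowers w) 3⟩ : Subgroup.zpowers w)
      = w₀ ^ 3 := by rw [hw₀]; rfl
  have hw3 : (χ : G → ℂ) (w ^ 3) = (χ : G → ℂ) w := by
    have h1 : w ^ 3 = w⁻¹ := by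
      apply eq_inv_of_mul_eq_one_left
      rw [← pow_succ]
      show w ^ 4 = 1
      rw [← hw]; exact pow_orderOf_eq_one w
    rw [h1]
    obtain ⟨g, hg⟩ := isConj_iff.mp hinv
    rw [← hg, IsIrrCharacter.isClassFunction χ.2]
  have hdeg := IsCharacter.apply_one_eq_charDegree (IsIrrCharacter.isCharacter χ.2)
  have hl1 : lam ⟨w, Subgroup.mem_zpowers w⟩ = Iu := by rw [e1, hlam₀]
  have hl2 : lam ⟨w ^ 2, Subgroup.pow_mem _ (Subgroup.mem_zpowers w) 2⟩ = Iu ^ 2 := by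
    rw [e2, map_pow, hlam₀]
  have hl3 : lam ⟨w ^ 3, Subgroup.pow_mem _ (Subgroup.mem_zpowers w) 3⟩ = Iu ^ 3 := by
    rw [e3, map_pow, hlam₀]
  simp only [Subgroup.coe_one, map_one, mul_one, hw3] at h₀
  simp only [Subgroup.coe_one, map_one, hl1, hl2, hl3, MonoidHom.pow_apply,
    Units.val_pow_eq_pow_val, Iu_val, Units.val_one, mul_one, hw3, map_pow, Complex.conj_I] at h₁ h₂
  have p2 : (-Complex.I) ^ 2 = -1 := by rw [neg_sq, Complex.I_sq]
  have p3 : (-Complex.I) ^ 3 = Complex.I := by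
    rw [pow_succ, p2]; ring
  rw [p2, p3] at h₁ h₂
  rw [Complex.I_sq] at h₂
  refine ⟨n₀, n₂, n₁, ?_, ?_, ?_⟩
  · have h : ((Cfsg.charDegree (χ : G → ℂ) : ℕ) : ℂ) = ((n₀ + n₂ + 2 * n₁ : ℕ) : ℂ) := by
      push_cast
      rw [← hdeg]
      linear_combination h₀ + h₂ + 2 * h₁
    exact_mod_cast h
  · linear_combination h₀ + h₂ - 2 * h₁
  · linear_combination h₀ - h₂

/-- the multiplicity of the trivial character in the restriction to a `Q₈` all of whose elements of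
order four are conjugate -/
theorem restrict_P_trivial (χ : Cfsg.IrrCharacter G) (P : Subgroup G) (hcard : Nat.card P = 8)
    {t w : G} (htP : t ∈ P) (ht1 : t ≠ 1)
    (hall : ∀ x ∈ P, x ≠ 1 → x ≠ t → IsConj w x) :
    ∃ p₀ : ℕ, (8 * (p₀ : ℂ)) = (χ : G → ℂ) 1 + (χ : G → ℂ) t + 6 * (χ : G → ℂ) w := by
  classical
  have : Fintype P := Fintype.ofFinite P
  have hres := IsCharacter.restrict P (IsIrrCharacter.isCharacter χ.2)
  obtain ⟨p₀, h₀⟩ := IsCharacter.classInner_irr_nat hres (isIrrCharacter_one (G := P))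
  refine ⟨p₀, ?_⟩
  unfold Cfsg.classInner at h₀
  simp only [map_one, mul_one] at h₀
  have h1 : ∑ x : P, ((χ : G → ℂ) x - (χ : G → ℂ) w)
      = ((χ : G → ℂ) ((1 : P) : G) - (χ : G → ℂ) w)
        + ((χ : G → ℂ) ((⟨t, htP⟩ : P) : G) - (χ : G → ℂ) w) := by
    apply Finset.sum_eq_add (1 : P) ⟨t, htP⟩
    · intro h
      apply ht1
      have := congrArg Subtype.val h
      simpa using this.symm
    · intro c _ hc
      rw [sub_eq_zero]
      have hc1 : (c : G) ≠ 1 := fun h => hc.1 (Subtype.ext h)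
      have hct : (c : G) ≠ t := fun h => hc.2 (Subtype.ext h)
      obtain ⟨g, hg⟩ := isConj_iff.mp (hall c c.2 hc1 hct)
      rw [← hg, IsIrrCharacter.isClassFunction χ.2]
    · intro h; exact absurd (Finset.mem_univ _) h
    · intro h; exact absurd (Finset.mem_univ _) h
  rw [Finset.sum_sub_distrib, Finset.sum_const, Finset.card_univ, ← Nat.card_eq_fintype_card,
    hcard] at h1
  rw [hcard] at h₀
  simp only [Subgroup.coe_one, nsmul_eq_mul] at h1
  push_cast at h1 h₀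
  linear_combination (-8 : ℂ) * h₀ + h1

/-- the column of an element of order four -/
theorem q8_column {M : Ideal Cfsg.AlgInt} (hM : Cfsg.IsPModular 2 M) {t : G}
    (ht : Cfsg.IsIsolatedInvolution t) (c : Cfsg.IrrCharacter G → ℤ)
    (hc : ∀ χ : Cfsg.IrrCharacter G,
      (χ : G → ℂ) t = (Cfsg.charDegree (χ : G → ℂ) : ℂ) - 4 * (c χ : ℂ))
    (w : G) (hw4 : orderOf w = 4) (hreal : IsConj w w⁻¹) (hcol : col M w w = 4) :
    ∃ δ : Cfsg.IrrCharacter G → ℤ,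
      (∀ χ : Cfsg.IrrCharacter G, (χ : G → ℂ) w = (δ χ : ℂ)) ∧
      (∀ χ : Cfsg.IrrCharacter G, (δ χ - (Cfsg.charDegree (χ : G → ℂ) : ℤ)) % 2 = 0) ∧
      δ (oneIrr G) = 1 ∧
      ∑ χ ∈ blk M G, δ χ ^ 2 = 4 ∧
      ∑ χ ∈ blk M G, δ χ * (Cfsg.charDegree (χ : G → ℂ) : ℤ) = 0 ∧
      ∑ χ ∈ blk M G, δ χ * c χ = 0 ∧
      ∑ χ ∈ blk M G, (δ χ : ℚ) * (c χ : ℚ) ^ 2 / ((Cfsg.charDegree (χ : G → ℂ) : ℤ) : ℚ) = 0 := by
  classical
  have : Fintype G := Fintype.ofFinite G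
  choose n₀ n₂ c' h1 h2 h3 using fun χ : Cfsg.IrrCharacter G => restrict_four χ hw4 hreal
  have hdeg : ∀ χ : Cfsg.IrrCharacter G, (χ : G → ℂ) 1 = (Cfsg.charDegree (χ : G → ℂ) : ℂ) :=
    fun χ => IsCharacter.apply_one_eq_charDegree (IsIrrCharacter.isCharacter χ.2)
  have hd0 : ∀ χ : Cfsg.IrrCharacter G, (Cfsg.charDegree (χ : G → ℂ) : ℂ) ≠ 0 := by
    intro χ
    exact_mod_cast charDegree_ne_zero χ
  have hw2el : ∃ k : ℕ, orderOf w = 2 ^ k := ⟨2, by rw [hw4]; norm_num⟩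
  have hw1 : w ≠ 1 := by
    intro h; rw [h, orderOf_one] at hw4; omega
  have hnc1 : ¬ IsConj (1 : G) w := fun h => hw1 (isConj_one_right.mp h)
  have hnct : ¬ IsConj t w := by
    intro h
    have := isConj_orderOf h
    rw [ht.1, hw4] at this
    omega
  refine ⟨fun χ => (n₀ χ : ℤ) - n₂ χ, ?_, ?_, ?_, ?_, ?_, ?_, ?_⟩
  · intro χ
    rw [h3 χ]; push_cast; ring
  · intro χ
    have := h1 χ
    simp only
    omega
  · have h := h3 (oneIrr G)
    have h' : ((1 : ℤ) : ℂ) = (((n₀ (oneIrr G) : ℤ) - n₂ (oneIrr G) : ℤ) : ℂ) := by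
      push_cast
      rw [← h]
      simp [oneIrr]
    have := Int.cast_injective h'
    simp only
    omega
  · have h : ((∑ χ ∈ blk M G, ((n₀ χ : ℤ) - n₂ χ) ^ 2 : ℤ) : ℂ) = ((4 : ℤ) : ℂ) := by
      push_cast
      rw [← hcol]
      unfold col
      apply Finset.sum_congr rfl
      intro χ _
      rw [h3 χ, map_sub, Complex.conj_natCast, Complex.conj_natCast]
      ring
    exact_mod_cast h
  · have h : ((∑ χ ∈ blk M G, ((n₀ χ : ℤ) - n₂ χ) * (Cfsg.charDegree (χ : G → ℂ) : ℤ) : ℤ) : ℂ)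
        = ((0 : ℤ) : ℂ) := by
      push_cast
      rw [← col_eq_zero hM (isPPart_self (s := (1 : G)) ⟨0, by simp⟩) hw2el hnc1]
      unfold col
      apply Finset.sum_congr rfl
      intro χ _
      rw [h3 χ, map_sub, Complex.conj_natCast, Complex.conj_natCast, hdeg]
      ring
    exact_mod_cast h
  · have ha : ∑ χ ∈ blk M G, (((n₀ χ : ℂ) - n₂ χ)) * (Cfsg.charDegree (χ : G → ℂ) : ℂ) = 0 := by
      rw [← col_eq_zero hM (isPPart_self (s := (1 : G)) ⟨0, by simp⟩) hw2el hnc1]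
      unfold col
      apply Finset.sum_congr rfl
      intro χ _
      rw [h3 χ, map_sub, Complex.conj_natCast, Complex.conj_natCast, hdeg]
      ring
    have hb : ∑ χ ∈ blk M G, (((n₀ χ : ℂ) - n₂ χ)) *
        ((Cfsg.charDegree (χ : G → ℂ) : ℂ) - 4 * (c χ : ℂ)) = 0 := by
      rw [← col_eq_zero hM (isPPart_self (s := t) ⟨1, by rw [ht.1]; norm_num⟩) hw2el hnct]
      unfold col
      apply Finset.sum_congr rfl
      intro χ _
      rw [h3 χ, map_sub, Complex.conj_natCast, Complex.conj_natCast, hc]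
      ring
    have h : ((∑ χ ∈ blk M G, ((n₀ χ : ℤ) - n₂ χ) * c χ : ℤ) : ℂ) = ((0 : ℤ) : ℂ) := by
      push_cast
      have e : ∑ χ ∈ blk M G, (((n₀ χ : ℂ) - n₂ χ)) *
          ((Cfsg.charDegree (χ : G → ℂ) : ℂ) - 4 * (c χ : ℂ))
          = ∑ χ ∈ blk M G, (((n₀ χ : ℂ) - n₂ χ)) * (Cfsg.charDegree (χ : G → ℂ) : ℂ)
            - 4 * ∑ χ ∈ blk M G, (((n₀ χ : ℂ) - n₂ χ)) * (c χ : ℂ) := by
        rw [Finset.mul_sum, ← Finset.sum_sub_distrib]
        apply Finset.sum_congr rfl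
        intro χ _
        ring
      rw [e, ha] at hb
      linear_combination (-1 / 4 : ℂ) * hb
    exact_mod_cast h
  · -- relation (c)
    have ha : ∑ χ ∈ blk M G, (((n₀ χ : ℂ) - n₂ χ)) * (Cfsg.charDegree (χ : G → ℂ) : ℂ) = 0 := by
      rw [← col_eq_zero hM (isPPart_self (s := (1 : G)) ⟨0, by simp⟩) hw2el hnc1]
      unfold col
      apply Finset.sum_congr rfl
      intro χ _
      rw [h3 χ, map_sub, Complex.conj_natCast, Complex.conj_natCast, hdeg]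
      ring
    have hb : ∑ χ ∈ blk M G, (((n₀ χ : ℂ) - n₂ χ)) *
        ((Cfsg.charDegree (χ : G → ℂ) : ℂ) - 4 * (c χ : ℂ)) = 0 := by
      rw [← col_eq_zero hM (isPPart_self (s := t) ⟨1, by rw [ht.1]; norm_num⟩) hw2el hnct]
      unfold col
      apply Finset.sum_congr rfl
      intro χ _
      rw [h3 χ, map_sub, Complex.conj_natCast, Complex.conj_natCast, hc]
      ring
    have hV : ∀ g : G, Odd (orderOf g) →
        ∑ χ ∈ blk M G, (((n₀ χ : ℂ) - n₂ χ)) * (χ : G → ℂ) g = 0 := by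
      intro g hg
      rw [← col_eq_zero hM (isPPart_one_of_odd hg) hw2el hnc1]
      unfold col
      apply Finset.sum_congr rfl
      intro χ _
      rw [h3 χ, map_sub, Complex.conj_natCast, Complex.conj_natCast]
      ring
    have hrc := rel_c ht (fun χ => ((n₀ χ : ℂ) - n₂ χ)) (blk M G) hV
    have e : ∀ χ ∈ blk M G, ((n₀ χ : ℂ) - n₂ χ) * ((χ : G → ℂ) t) ^ 2 / (χ : G → ℂ) 1
        = ((n₀ χ : ℂ) - n₂ χ) * ((Cfsg.charDegree (χ : G → ℂ) : ℂ) - 4 * (c χ : ℂ))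
          - 4 * (((n₀ χ : ℂ) - n₂ χ) * (c χ : ℂ))
          + 16 * (((n₀ χ : ℂ) - n₂ χ) * (c χ : ℂ) ^ 2 / (Cfsg.charDegree (χ : G → ℂ) : ℂ)) := by
      intro χ _
      rw [hc, hdeg]
      have := hd0 χ
      field_simp
      ring
    rw [Finset.sum_congr rfl e, Finset.sum_add_distrib, Finset.sum_sub_distrib, hb,
      ← Finset.mul_sum, ← Finset.mul_sum] at hrc
    have hbc : ∑ χ ∈ blk M G, (((n₀ χ : ℂ) - n₂ χ)) * (c χ : ℂ) = 0 := by
      have e2 : ∑ χ ∈ blk M G, (((n₀ χ : ℂ) - n₂ χ)) *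
          ((Cfsg.charDegree (χ : G → ℂ) : ℂ) - 4 * (c χ : ℂ))
          = ∑ χ ∈ blk M G, (((n₀ χ : ℂ) - n₂ χ)) * (Cfsg.charDegree (χ : G → ℂ) : ℂ)
            - 4 * ∑ χ ∈ blk M G, (((n₀ χ : ℂ) - n₂ χ)) * (c χ : ℂ) := by
        rw [Finset.mul_sum, ← Finset.sum_sub_distrib]
        apply Finset.sum_congr rfl
        intro χ _
        ring
      rw [e2, ha] at hb
      linear_combination (-1 / 4 : ℂ) * hb
    rw [hbc] at hrc
    have h : ((∑ χ ∈ blk M G, (((n₀ χ : ℤ) - n₂ χ : ℤ) : ℚ) * (c χ : ℚ) ^ 2 /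
        ((Cfsg.charDegree (χ : G → ℂ) : ℤ) : ℚ) : ℚ) : ℂ) = ((0 : ℚ) : ℂ) := by
      push_cast
      linear_combination (1 / 16 : ℂ) * hrc
    exact_mod_cast h

/-- **The case `P ≅ Q₈`.** -/
theorem exists_char_q8 (hQ : AllQuat 2 G) {M : Ideal Cfsg.AlgInt} (hM : Cfsg.IsPModular 2 M)
    {t : G} (ht : Cfsg.IsIsolatedInvolution t) (P : Sylow 2 G) (htP : t ∈ (P : Subgroup G))
    (hP8 : ∀ w ∈ (P : Subgroup G), w ≠ 1 → w ≠ t → w ^ 2 = t) :
    ∃ χ ∈ blk M G, χ ≠ oneIrr G ∧ (χ : G → ℂ) t = (χ : G → ℂ) 1 := by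
  classical
  have : Fintype G := Fintype.ofFinite G
  have : Fintype (P : Subgroup G) := Fintype.ofFinite _
  have hq := hQ P
  have hcard : Nat.card (P : Subgroup G) = 8 := by rw [hq.card]
  have ht1 : t ≠ 1 := invol_ne_one ht.1
  have htt : t ^ 2 = 1 := invol_sq ht.1
  have hdeg : ∀ χ : Cfsg.IrrCharacter G, (χ : G → ℂ) 1 = (Cfsg.charDegree (χ : G → ℂ) : ℂ) :=
    fun χ => IsCharacter.apply_one_eq_charDegree (IsIrrCharacter.isCharacter χ.2)
  -- pick an element of order four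
  obtain ⟨w₁, hw₁P, hw₁1, hw₁t⟩ : ∃ w ∈ (P : Subgroup G), w ≠ 1 ∧ w ≠ t := by
    by_contra hcon
    push Not at hcon
    have hsub : (Finset.univ : Finset (P : Subgroup G)) ⊆ {1, ⟨t, htP⟩} := by
      intro x _
      by_cases h : (x : G) = 1
      · have : x = 1 := Subtype.ext h
        rw [this]; simp
      · have : x = ⟨t, htP⟩ := Subtype.ext (hcon x x.2 h)
        rw [this]; simp
    have h1 := Finset.card_le_card hsub
    have h2 : ({1, ⟨t, htP⟩} : Finset (P : Subgroup G)).card ≤ 2 := Finset.card_le_two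
    rw [Finset.card_univ, ← Nat.card_eq_fintype_card, hcard] at h1
    omega
  -- basic facts about elements of order four
  have hfacts : ∀ w ∈ (P : Subgroup G), w ≠ 1 → w ≠ t →
      orderOf w = 4 ∧ IsConj w w⁻¹ ∧ col M w w = 4 := by
    intro w hwP hw1 hwt
    have hw2 := hP8 w hwP hw1 hwt
    have hw4 : orderOf w = 4 := by
      have h4 : w ^ 4 = 1 := by
        have : w ^ 4 = (w ^ 2) ^ 2 := by rw [← pow_mul]
        rw [this, hw2, htt]
      have hdvd : orderOf w ∣ 2 ^ 2 := by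
        have := orderOf_dvd_of_pow_eq_one h4
        simpa using this
      obtain ⟨j, hj, hjeq⟩ := (Nat.dvd_prime_pow Nat.prime_two).mp hdvd
      interval_cases j
      · exfalso; rw [pow_zero, orderOf_eq_one_iff] at hjeq; exact hw1 hjeq
      · exfalso
        rw [pow_one] at hjeq
        have : w ^ 2 = 1 := by rw [← hjeq]; exact pow_orderOf_eq_one w
        rw [hw2] at this; exact ht1 this
      · rw [hjeq]; norm_num
    refine ⟨hw4, ?_, ?_⟩
    · obtain ⟨q, hq'⟩ := hq.inverted ⟨w, hwP⟩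
      rw [isConj_iff]
      refine ⟨(q : G), ?_⟩
      have := congrArg Subtype.val hq'
      simpa using this
    · have h := col_self_quat (m := 2) (n := 1) (by norm_num) hQ hM w (by rw [hw4]) w
        (Subgroup.mem_zpowers w) (by rw [hw2]; exact ht1)
      rw [h]; norm_num
  obtain ⟨hw₁4, hw₁r, hw₁c⟩ := hfacts w₁ hw₁P hw₁1 hw₁t
  -- the function c
  choose n₀ n₂ c' h1 h2 h3 using fun χ : Cfsg.IrrCharacter G => restrict_four χ hw₁4 hw₁r
  have hc : ∀ χ : Cfsg.IrrCharacter G,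
      (χ : G → ℂ) t = (Cfsg.charDegree (χ : G → ℂ) : ℂ) - 4 * (((c' χ : ℕ) : ℤ) : ℂ) := by
    intro χ
    rw [← hP8 w₁ hw₁P hw₁1 hw₁t, h2 χ, h1 χ]
    push_cast
    ring
  have hc0 : ∀ χ : Cfsg.IrrCharacter G, (0 : ℤ) ≤ ((c' χ : ℕ) : ℤ) := fun χ => Int.natCast_nonneg _
  have hcone : ((c' (oneIrr G) : ℕ) : ℤ) = 0 := by
    have h := hc (oneIrr G)
    have e0 : Cfsg.charDegree ((oneIrr G : Cfsg.IrrCharacter G) : G → ℂ) = 1 := charDegree_one_fun
    rw [e0] at h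
    have h' : (((4 * ((c' (oneIrr G) : ℕ) : ℤ) : ℤ)) : ℂ) = ((0 : ℤ) : ℂ) := by
      push_cast
      have e : ((oneIrr G : Cfsg.IrrCharacter G) : G → ℂ) t = 1 := rfl
      rw [e] at h
      push_cast at h
      linear_combination h
    have := Int.cast_injective h'
    omega
  obtain ⟨δ, hδw, hδpar, hδone, hδn, hδa, hδb, hδc⟩ :=
    q8_column hM ht (fun χ => ((c' χ : ℕ) : ℤ)) hc w₁ hw₁4 hw₁r hw₁c
  have hfinish : ∀ χ : Cfsg.IrrCharacter G, ((c' χ : ℕ) : ℤ) = 0 →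
      (χ : G → ℂ) t = (χ : G → ℂ) 1 := by
    intro χ h
    rw [hc χ, h, hdeg]
    simp
  by_cases hall : ∀ x ∈ (P : Subgroup G), x ≠ 1 → x ≠ t → IsConj w₁ x
  · -- all elements of order four conjugate
    have hcong : ∀ χ ∈ blk M G,
        ((Cfsg.charDegree (χ : G → ℂ) : ℤ) - δ χ - 2 * ((c' χ : ℕ) : ℤ)) % 4 = 0 := by
      intro χ _
      obtain ⟨p₀, hp₀⟩ := restrict_P_trivial χ (P : Subgroup G) hcard htP ht1 hall
      rw [hc χ, hdeg, hδw χ] at hp₀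
      have h' : ((8 * (p₀ : ℤ) : ℤ) : ℂ) = (((Cfsg.charDegree (χ : G → ℂ) : ℤ)
          + ((Cfsg.charDegree (χ : G → ℂ) : ℤ) - 4 * ((c' χ : ℕ) : ℤ)) + 6 * δ χ : ℤ) : ℂ) := by
        push_cast
        push_cast at hp₀
        linear_combination hp₀
      have := Int.cast_injective h'
      omega
    obtain ⟨χ, hχB, hχne, hχc⟩ := norm_four_one (blk M G) (oneIrr G) (oneIrr_mem_blk hM) δ
      (fun χ => (Cfsg.charDegree (χ : G → ℂ) : ℤ)) (fun χ => ((c' χ : ℕ) : ℤ))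
      (fun χ _ => by
        have := Nat.pos_of_ne_zero (charDegree_ne_zero χ)
        exact_mod_cast this)
      (fun χ _ => hc0 χ) hδone (by
        have e0 : Cfsg.charDegree ((oneIrr G : Cfsg.IrrCharacter G) : G → ℂ) = 1 :=
          charDegree_one_fun
        show ((Cfsg.charDegree ((oneIrr G : Cfsg.IrrCharacter G) : G → ℂ) : ℕ) : ℤ) = 1
        rw [e0]; rfl) hcone hδn hcong hδa hδb hδc
    exact ⟨χ, hχB, hχne, hfinish χ hχc⟩
  · -- two non-conjugate elements of order four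
    push Not at hall
    obtain ⟨w₂, hw₂P, hw₂1, hw₂t, hnc⟩ := hall
    obtain ⟨hw₂4, hw₂r, hw₂c⟩ := hfacts w₂ hw₂P hw₂1 hw₂t
    obtain ⟨δ', hδ'w, hδ'par, hδ'one, hδ'n, hδ'a, hδ'b, hδ'c⟩ :=
      q8_column hM ht (fun χ => ((c' χ : ℕ) : ℤ)) hc w₂ hw₂4 hw₂r hw₂c
    have horth : ∑ χ ∈ blk M G, δ χ * δ' χ = 0 := by
      have h : ((∑ χ ∈ blk M G, δ χ * δ' χ : ℤ) : ℂ) = ((0 : ℤ) : ℂ) := by
        push_cast
        rw [← col_eq_zero hM (isPPart_self (s := w₁) ⟨2, by rw [hw₁4]; norm_num⟩)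
          ⟨2, by rw [hw₂4]; norm_num⟩ hnc]
        unfold col
        apply Finset.sum_congr rfl
        intro χ _
        rw [hδw χ, hδ'w χ, map_intCast]
      exact_mod_cast h
    obtain ⟨χ, hχB, hχne, hχc⟩ := norm_four_two (blk M G) (oneIrr G) (oneIrr_mem_blk hM) δ δ'
      (fun χ => ((c' χ : ℕ) : ℤ)) hδone hδ'one hcone
      (fun χ _ => by
        have h1 := hδpar χ
        have h2 := hδ'par χ
        omega)
      hδn hδ'n horth hδb hδ'b
    exact ⟨χ, hχB, hχne, hfinish χ hχc⟩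

end q8

end Cfsg.Agent.Lib.Helper2.ZS
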