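import Mathlib
import Cfsg.Agent.Lib.Helper2.ZS9
import Cfsg.Agent.S0016
import Cfsg.Agent.S0231

set_option autoImplicit false
set_option linter.unusedSectionVars false
open Cfsg

namespace Cfsg.Agent.Lib.Helper2.ZS

open Cfsg.Agent.Lib.Lead Cfsg.Agent.Lib.Lead.IsoMid Cfsg.Agent.Lib.Helper6
open scoped ComplexConjugate

universe u

section final

variable {G : Type u} [Group G] [Finite G]

/-- a principal-block character with `t` in its kernel is trivial when `t^G` generates `G` -/
theorem eq_oneIrr_of_apply_eq {t : G} (hnc : Subgroup.normalClosure ({t} : Set G) = ⊤)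
    (ζ : Cfsg.IrrCharacter G) (h : (ζ : G → ℂ) t = (ζ : G → ℂ) 1) : ζ = oneIrr G := by
  classical
  have : Fintype G := Fintype.ofFinite G
  have hζc := IsIrrCharacter.isCharacter ζ.2
  have hker : t ∈ charKer hζc := h
  have := charKer_normal hζc
  have hle : Subgroup.normalClosure ({t} : Set G) ≤ charKer hζc :=
    Subgroup.normalClosure_le_normal (by simpa using hker)
  rw [hnc] at hle
  have hall : ∀ g : G, (ζ : G → ℂ) g = (ζ : G → ℂ) 1 := fun g => hle (Subgroup.mem_top g)
  have hin := classInner_irrCharacter ζ (oneIrr G)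
  by_contra hne
  rw [if_neg hne] at hin
  have h0 := IsIrrCharacter.apply_one_ne_zero ζ.2
  apply h0
  rw [← hin]
  unfold Cfsg.classInner
  simp only [oneIrr, map_one, mul_one]
  rw [Finset.sum_congr rfl (fun g _ => hall g), Finset.sum_const, Finset.card_univ,
    nsmul_eq_mul, Nat.card_eq_fintype_card]
  have hG : (Fintype.card G : ℂ) ≠ 0 := by exact_mod_cast Fintype.card_ne_zero
  field_simp

/-- a cyclic Sylow `2`-subgroup forces an isolated involution to be central when `O(G) = 1` -/
theorem central_of_cyclic_sylow (hO : Cfsg.pPrimeCore 2 G = ⊥) {t : G}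
    (ht : Cfsg.IsIsolatedInvolution t) (P : Sylow 2 G) (hc : IsCyclic (P : Subgroup G)) :
    t ∈ Subgroup.center G := by
  have : Fact (Nat.Prime 2) := ⟨Nat.prime_two⟩
  have hcent := Cfsg.Agent.S3864.normalizer_le_centralizer_of_cyclic P hc
  have hnpc := Cfsg.Agent.Lib.Helper1.hasNormalPComplement_of_normalizer_le_centralizer P hcent
  rw [Subgroup.mem_center_iff]
  intro g
  have h1 := odd_mem_pPrimeCore_of_npc hnpc _ (isolated_odd ht g)
  rw [hO, Subgroup.mem_bot] at h1
  have h5 : g * t * g⁻¹ = t := by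
    have h := eq_inv_of_mul_eq_one_right h1
    rw [h, invol_inv ht.1]
  calc g * t = (g * t * g⁻¹) * g := by group
    _ = t * g := by rw [h5]

/-- **Case A**: all involutions conjugate. -/
theorem caseA_false (hO : Cfsg.pPrimeCore 2 G = ⊥) {t : G} (ht : Cfsg.IsIsolatedInvolution t)
    (hntc : t ∉ Subgroup.center G) (hnc : Subgroup.normalClosure ({t} : Set G) = ⊤)
    (hall : ∀ z : G, orderOf z = 2 → IsConj t z) : False := by
  classical
  have : Fact (Nat.Prime 2) := ⟨Nat.prime_two⟩
  obtain ⟨M, hM⟩ := exists_isPModular 2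
  obtain ⟨P, htP⟩ := Cfsg.Agent.S0231.invol_mem_sylow t ht.1
  have huniq : ∀ u ∈ (P : Subgroup G), orderOf u = 2 → u = t := by
    intro u hu hu2
    obtain ⟨g, hg⟩ := isConj_iff.mp (hall u hu2)
    rw [← hg]
    exact isolated_sylow ht P htP g (by rw [hg]; exact hu)
  -- subgroups of order two of P
  have hsub : ∀ H : Subgroup (P : Subgroup G), Nat.card H = 2 →
      H = Subgroup.zpowers (⟨t, htP⟩ : (P : Subgroup G)) := by
    intro H hH
    have hnt : Nontrivial H := by
      rw [← Finite.one_lt_card_iff_nontrivial, hH]; norm_num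
    obtain ⟨h, hh1⟩ := exists_ne (1 : H)
    have ho : orderOf h = 2 := by
      have hd : orderOf h ∣ 2 := by
        have := orderOf_dvd_natCard h
        rwa [hH] at this
      rcases (Nat.dvd_prime Nat.prime_two).mp hd with h0 | h0
      · exact absurd (orderOf_eq_one_iff.mp h0) hh1
      · exact h0
    have ho' : orderOf ((h : (P : Subgroup G)) : G) = 2 := by
      rw [Subgroup.orderOf_coe, Subgroup.orderOf_coe]; exact ho
    have ht' : ((h : (P : Subgroup G)) : G) = t := huniq _ (h : (P : Subgroup G)).2 ho'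
    have hmem : (⟨t, htP⟩ : (P : Subgroup G)) ∈ H := by
      have : (⟨t, htP⟩ : (P : Subgroup G)) = (h : (P : Subgroup G)) := Subtype.ext ht'.symm
      rw [this]; exact h.2
    symm
    apply Subgroup.eq_of_le_of_card_ge
    · rw [Subgroup.zpowers_le]; exact hmem
    · rw [hH, Nat.card_zpowers, Subgroup.orderOf_mk, ht.1]
  have h16 := Cfsg.Agent.S0016.result (G := (P : Subgroup G)) 2 P.2
    (fun H K hH hK => by rw [hsub H hH, hsub K hK])
  -- the final contradiction from a character
  have hfin : (∃ χ ∈ blk M G, χ ≠ oneIrr G ∧ (χ : G → ℂ) t = (χ : G → ℂ) 1) → False := by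
    rintro ⟨χ, -, hne, hχ⟩
    exact hne (eq_oneIrr_of_apply_eq hnc χ hχ)
  rcases h16 with hcyc | ⟨-, n, ⟨e⟩⟩
  · exact hntc (central_of_cyclic_sylow hO ht P hcyc)
  · rcases n with _ | _ | n
    · -- QuaternionGroup 1 is cyclic
      apply hntc
      apply central_of_cyclic_sylow hO ht P
      have h1 : IsCyclic (QuaternionGroup (2 ^ 0)) := by
        rw [pow_zero]; exact QuaternionGroup.quaternionGroup_one_isCyclic
      exact isCyclic_of_surjective e.symm.toMonoidHom e.symm.surjective
    · -- Q₈
      have e' : (P : Subgroup G) ≃* QuaternionGroup 2 := e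
      have hq : QuatLike 2 (P : Subgroup G) := QuatLike.of_equiv e' le_rfl (by decide)
      have hQ := allQuat_of P hq
      obtain ⟨t', ht'o, ht'⟩ := quat8_like e'
      have ht'eq : (t' : G) = t := huniq _ t'.2 (by rw [Subgroup.orderOf_coe]; exact ht'o)
      apply hfin
      apply exists_char_q8 hQ hM ht P htP
      intro w hwP hw1 hwt
      have := ht' ⟨w, hwP⟩ (fun h => hw1 (by simpa using congrArg Subtype.val h))
        (fun h => hwt (by rw [← ht'eq, ← h]))
      have h2 := congrArg Subtype.val this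
      rw [← ht'eq]
      simpa using h2
    · -- order at least 16
      have hmge : 2 ≤ 2 ^ (n + 1 + 1) := by
        have : 2 ^ 1 ≤ 2 ^ (n + 1 + 1) := Nat.pow_le_pow_right (by norm_num) (by omega)
        simpa using this
      have hmev : Even (2 ^ (n + 1 + 1)) := by
        rw [pow_succ]; exact even_two.mul_left _
      have hq : QuatLike (2 ^ (n + 1 + 1)) (P : Subgroup G) := QuatLike.of_equiv e hmge hmev
      have hQ := allQuat_of P hq
      obtain ⟨α, β, hα, hβ⟩ := exists_quat_gens e
      have hαo : orderOf (α : G) = 2 * 2 ^ (n + 1 + 1) := by rw [Subgroup.orderOf_coe]; exact hα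
      have hβ' : (β : G) * (α : G) * (β : G)⁻¹ = (α : G)⁻¹ := by
        have := congrArg Subtype.val hβ
        simpa using this
      have hαt : (α : G) ^ (2 ^ (n + 1 + 1)) = t := by
        apply huniq _ (Subgroup.pow_mem _ α.2 _)
        rw [orderOf_pow' _ (by positivity), hαo]
        have : Nat.gcd (2 * 2 ^ (n + 1 + 1)) (2 ^ (n + 1 + 1)) = 2 ^ (n + 1 + 1) :=
          Nat.gcd_eq_right ⟨2, by ring⟩
        rw [this]
        exact Nat.mul_div_cancel _ (by positivity)
      apply hfin
      apply exists_char_big (m := 2 ^ (n + 1 + 1)) (n := n + 1 + 1) rfl (by omega) hQ hM ht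
        (α : G) (β : G) hαo hβ' hαt
      intro a ha ha2
      have haP : a ∈ (P : Subgroup G) := by
        have hle : Subgroup.zpowers (α : G) ≤ (P : Subgroup G) := by
          rw [Subgroup.zpowers_le]; exact α.2
        exact hle ha
      by_cases h1 : a = 1
      · left; exact h1
      · right
        apply huniq a haP
        exact orderOf_eq_prime ha2 h1

/-- the inductive step -/
theorem zstar_step (hIH : ZStarBelow G) (t : G) (ht : Cfsg.IsIsolatedInvolution t) (g : G) :
    t * g * t⁻¹ * g⁻¹ ∈ Cfsg.pPrimeCore 2 G := by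
  by_cases hO : Cfsg.pPrimeCore 2 G = ⊥
  · by_cases htc : t ∈ Subgroup.center G
    · have h1 : t * g * t⁻¹ * g⁻¹ = 1 := by
        rw [Subgroup.mem_center_iff] at htc
        rw [← htc g]; group
      rw [h1]; exact one_mem _
    · exfalso
      have hnci := no_central_invol hIH hO ht htc
      have hcl := normalClosure_eq_top hIH hO ht htc
      have hCH := centHyp_of_below hIH ht hnci
      by_cases hall : ∀ z : G, orderOf z = 2 → IsConj t z
      · exact caseA_false hO ht htc hcl hall
      · push Not at hall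
        obtain ⟨z₀, hz₀, hnc⟩ := hall
        exact caseB_false ht hCH hcl hz₀ hnc
  · exact quot_reduce hIH hO t ht g

end final

theorem zstar_aux (n : ℕ) : ∀ (G : Type u) [Group G] [Finite G], Nat.card G = n →
    ∀ t : G, Cfsg.IsIsolatedInvolution t → ∀ g : G, t * g * t⁻¹ * g⁻¹ ∈ Cfsg.pPrimeCore 2 G := by
  induction n using Nat.strong_induction_on with
  | _ n ih =>
    intro G _ _ hn t ht g
    apply zstar_step _ t ht g
    intro H _ _ hlt t' ht' g'
    exact ih (Nat.card H) (hn ▸ hlt) H rfl t' ht' g'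

/-- **Glauberman's `Z*`-theorem.** -/
theorem zstar {G : Type u} [Group G] [Finite G] (t : G) (ht : Cfsg.IsIsolatedInvolution t)
    (g : G) : t * g * t⁻¹ * g⁻¹ ∈ Cfsg.oddCore G :=
  zstar_aux _ G rfl t ht g

end Cfsg.Agent.Lib.Helper2.ZS
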