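import Mathlib
import Cfsg.Agent.Lib.Helper2.ZS10

set_option autoImplicit false
set_option linter.unusedSectionVars false
open Cfsg

namespace Cfsg.Agent.Lib.Helper2.ZS

open Cfsg.Agent.Lib.Lead Cfsg.Agent.Lib.Lead.IsoMid Cfsg.Agent.Lib.Helper6
open QuaternionGroup

/-- the unique involution of a generalized quaternion group -/
theorem quat_unique_invol {m : ℕ} [NeZero m] (x : QuaternionGroup m) (hx : orderOf x = 2) :
    x = a (m : ZMod (2 * m)) := by
  have hm : 0 < m := Nat.pos_of_ne_zero (NeZero.ne m)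
  rcases x with i | i
  · have h2 : (a i : QuaternionGroup m) ^ 2 = 1 := by rw [← hx]; exact pow_orderOf_eq_one _
    rw [sq, a_mul_a, ← a_zero] at h2
    have hii : i + i = 0 := a.inj h2
    have hi0 : i ≠ 0 := by
      rintro rfl
      rw [a_zero, orderOf_one] at hx
      omega
    congr 1
    have : NeZero (2 * m) := ⟨by omega⟩
    have hv := ZMod.val_lt i
    have h3 : (i + i).val = 0 := by rw [hii]; exact ZMod.val_zero
    rw [ZMod.val_add] at h3
    obtain ⟨k, hk⟩ := Nat.dvd_of_mod_eq_zero h3
    have hcases : i.val = 0 ∨ i.val = m := by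
      rcases k with _ | _ | k
      · left; omega
      · right; omega
      · exfalso
        have : 2 * m * (k + 1 + 1) ≥ 2 * m * 2 := Nat.mul_le_mul_left _ (by omega)
        omega
    rcases hcases with h | h
    · exfalso; apply hi0
      rw [← ZMod.natCast_zmod_val i, h, Nat.cast_zero]
    · rw [← ZMod.natCast_zmod_val i, h]
  · rw [orderOf_xa] at hx; omega

theorem normal_zpowers_of_central {G : Type*} [Group G] {z : G} (hz : z ∈ Subgroup.center G) :
    (Subgroup.zpowers z).Normal := by
  have hle : Subgroup.zpowers z ≤ Subgroup.center G := by rw [Subgroup.zpowers_le]; exact hz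
  constructor
  intro n hn g
  have h1 := Subgroup.mem_center_iff.mp (hle hn) g
  have h2 : g * n * g⁻¹ = n := by rw [h1]; group
  rw [h2]; exact hn

/-- **The Brauer–Suzuki theorem.** -/
theorem brauer_suzuki {G : Type*} [Group G] [Finite G] (S : Sylow 2 G) (n : ℕ)
    (e : (S : Subgroup G) ≃* QuaternionGroup (2 ^ (n + 1)))
    (hO : ∀ N : Subgroup G, N.Normal → Odd (Nat.card N) → N = ⊥) :
    Nat.card (Subgroup.center G) = 2 := by
  have : Fact (Nat.Prime 2) := ⟨Nat.prime_two⟩
  have hmpos : 0 < 2 ^ (n + 1) := by positivity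
  have : NeZero (2 ^ (n + 1)) := ⟨hmpos.ne'⟩
  have hmge : 2 ≤ 2 ^ (n + 1) := by
    have : 2 ^ 1 ≤ 2 ^ (n + 1) := Nat.pow_le_pow_right (by norm_num) (by omega)
    simpa using this
  have hmev : Even (2 ^ (n + 1)) := by rw [pow_succ]; exact even_two.mul_left _
  have hq : QuatLike (2 ^ (n + 1)) (S : Subgroup G) := QuatLike.of_equiv e hmge hmev
  -- the involution
  have ham : orderOf (a ((2 ^ (n + 1) : ℕ) : ZMod (2 * 2 ^ (n + 1))) : QuaternionGroup (2 ^ (n + 1))) = 2 := by
    apply orderOf_eq_prime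
    · rw [sq, a_mul_a, ← a_zero]
      congr 1
      exact quat_two_m_zero
    · intro h
      rw [← a_zero] at h
      have h1 := a.inj h
      rw [ZMod.natCast_eq_zero_iff] at h1
      have := Nat.le_of_dvd hmpos h1
      omega
  obtain ⟨t', ht'⟩ : ∃ t' : (S : Subgroup G), t' = e.symm (a ((2 ^ (n + 1) : ℕ) : ZMod (2 * 2 ^ (n + 1)))) :=
    ⟨_, rfl⟩
  have ht'o : orderOf t' = 2 := by rw [ht', MulEquiv.orderOf_eq]; exact ham
  have ht2 : orderOf (t' : G) = 2 := by rw [Subgroup.orderOf_coe]; exact ht'o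
  have huniq : ∀ u ∈ (S : Subgroup G), orderOf u = 2 → u = (t' : G) := by
    intro u hu hu2
    have h1 : orderOf (e ⟨u, hu⟩) = 2 := by rw [MulEquiv.orderOf_eq, Subgroup.orderOf_mk]; exact hu2
    have h2 := quat_unique_invol _ h1
    have h3 : (⟨u, hu⟩ : (S : Subgroup G)) = t' := by
      rw [ht', ← h2, MulEquiv.symm_apply_apply]
    exact congrArg Subtype.val h3
  have hiso : Cfsg.IsIsolatedInvolution (t' : G) :=
    isolated_of_sylow S (t' : G) ht2 t'.2 (fun g hg => huniq _ hg (by rw [orderOf_conj']; exact ht2))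
  have hOdd : Cfsg.pPrimeCore 2 G = ⊥ :=
    hO _ (Cfsg.Agent.Lib.Helper1.pPrimeCore_normal 2)
      (Nat.Coprime.odd_of_right (Cfsg.Agent.Lib.Helper1.pPrimeCore_card_coprime 2))
  have htc : (t' : G) ∈ Subgroup.center G := by
    rw [Subgroup.mem_center_iff]
    intro g
    have h1 := zstar (t' : G) hiso g
    rw [show Cfsg.oddCore G = Cfsg.pPrimeCore 2 G from rfl, hOdd, Subgroup.mem_bot] at h1
    have h2 : (t' : G) * g * (t' : G)⁻¹ = g := by
      rw [mul_inv_eq_one] at h1; exact h1
    calc g * (t' : G) = ((t' : G) * g * (t' : G)⁻¹) * (t' : G) := by rw [h2]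
      _ = (t' : G) * g := by group
  have hZ : Subgroup.center G = Subgroup.zpowers (t' : G) := by
    apply le_antisymm
    · intro z hz
      obtain ⟨a', b, hb, hab⟩ := Nat.exists_eq_two_pow_mul_odd (orderOf_pos z).ne'
      have hy : z ^ 2 ^ a' = 1 := by
        have hyc : z ^ 2 ^ a' ∈ Subgroup.center G := Subgroup.pow_mem _ hz _
        have hN := normal_zpowers_of_central hyc
        have hodd : Odd (Nat.card (Subgroup.zpowers (z ^ 2 ^ a'))) := by
          rw [Nat.card_zpowers]
          have h3 : (z ^ 2 ^ a') ^ b = 1 := by rw [← pow_mul, ← hab, pow_orderOf_eq_one]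
          exact Odd.of_dvd_nat hb (orderOf_dvd_of_pow_eq_one h3)
        have h4 := hO _ hN hodd
        have h5 : z ^ 2 ^ a' ∈ Subgroup.zpowers (z ^ 2 ^ a') := Subgroup.mem_zpowers _
        rw [h4, Subgroup.mem_bot] at h5
        exact h5
      have hzp : IsPGroup 2 (Subgroup.zpowers z) := by
        obtain ⟨j, -, hj⟩ := (Nat.dvd_prime_pow Nat.prime_two).1 (orderOf_dvd_of_pow_eq_one hy)
        apply IsPGroup.of_card (n := j)
        rw [Nat.card_zpowers, hj]
      have hzN := normal_zpowers_of_central hz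
      have hzS : z ∈ (S : Subgroup G) := hzp.le_sylow_of_normal S (Subgroup.mem_zpowers z)
      have hz2 : z ^ 2 = 1 := by
        by_contra hne
        obtain ⟨q, hq'⟩ := hq.not_central ⟨z, hzS⟩ (by
          intro h
          apply hne
          simpa using congrArg Subtype.val h)
        apply hq'
        have h1 := Subgroup.mem_center_iff.mp hz (q : G)
        exact Subtype.ext h1
      by_cases h1 : z = 1
      · rw [h1]; exact one_mem _
      · have := huniq z hzS (orderOf_eq_prime hz2 h1)
        rw [this]; exact Subgroup.mem_zpowers _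
    · rw [Subgroup.zpowers_le]; exact htc
  rw [hZ, Nat.card_zpowers, ht2]

end Cfsg.Agent.Lib.Helper2.ZS
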