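import Cfsg.Prelude.Def_LocalEven
import Mathlib

set_option autoImplicit false

/-! # Basic calculus of sections (`Cfsg.Involves`) -/

namespace Cfsg.Agent.Lib.Helper2.Inv

universe u v w

variable {H : Type u} [Group H] {G : Type v} [Group G]

/-- A surjection from a subgroup gives a section. -/
theorem involves_of_surjective (K : Subgroup G) (φ : K →* H) (hφ : Function.Surjective φ) :
    Cfsg.Involves H G := by
  have h1 : (φ.ker.map K.subtype).subgroupOf K = φ.ker := by
    ext x
    rw [Subgroup.mem_subgroupOf, Subgroup.mem_map]
    constructor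
    · rintro ⟨y, hy, hyx⟩
      have : y = x := Subtype.ext hyx
      rwa [← this]
    · intro hx
      exact ⟨x, hx, rfl⟩
  haveI hN : ((φ.ker.map K.subtype).subgroupOf K).Normal := by rw [h1]; infer_instance
  exact ⟨K, φ.ker.map K.subtype, hN, ⟨(QuotientGroup.quotientMulEquivOfEq h1).trans
      (QuotientGroup.quotientKerEquivOfSurjective φ hφ)⟩⟩

/-- A section gives a surjection from a subgroup. -/
theorem exists_surjective_of_involves (h : Cfsg.Involves H G) :
    ∃ (K : Subgroup G) (φ : K →* H), Function.Surjective φ := by
  obtain ⟨K, R, hN, ⟨e⟩⟩ := h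
  exact ⟨K, e.toMonoidHom.comp (QuotientGroup.mk' _),
    e.surjective.comp (QuotientGroup.mk'_surjective _)⟩

theorem involves_iff_exists_surjective :
    Cfsg.Involves H G ↔ ∃ (K : Subgroup G) (φ : K →* H), Function.Surjective φ :=
  ⟨exists_surjective_of_involves, fun ⟨K, φ, hφ⟩ => involves_of_surjective K φ hφ⟩

/-- Replace the involved group by an isomorphic one. -/
theorem involves_congr {H' : Type w} [Group H'] (e : H ≃* H') (h : Cfsg.Involves H G) :
    Cfsg.Involves H' G := by
  obtain ⟨K, φ, hφ⟩ := exists_surjective_of_involves h
  exact involves_of_surjective K (e.toMonoidHom.comp φ) (e.surjective.comp hφ)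

/-- A subgroup is involved. -/
theorem involves_subgroup (K : Subgroup G) : Cfsg.Involves K G :=
  involves_of_surjective K (MonoidHom.id K) Function.surjective_id

/-- A group involves itself. -/
theorem involves_refl : Cfsg.Involves G G :=
  involves_of_surjective ⊤ ((Subgroup.topEquiv : (⊤ : Subgroup G) ≃* G).toMonoidHom)
    (Subgroup.topEquiv : (⊤ : Subgroup G) ≃* G).surjective

/-- Sections of a subgroup are sections of the group. -/
theorem involves_of_subgroup (L : Subgroup G) (h : Cfsg.Involves H L) : Cfsg.Involves H G := by
  obtain ⟨K, φ, hφ⟩ := exists_surjective_of_involves h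
  -- `K.map L.subtype` is isomorphic to `K`
  let e : K ≃* K.map L.subtype := K.equivMapOfInjective L.subtype L.subtype_injective
  exact involves_of_surjective (K.map L.subtype) (φ.comp e.symm.toMonoidHom)
    (hφ.comp e.symm.surjective)

/-- Sections of a homomorphic image of a subgroup are sections of the group. -/
theorem involves_of_surjective_hom {Q : Type w} [Group Q] (L : Subgroup G) (π : L →* Q)
    (hπ : Function.Surjective π) (h : Cfsg.Involves H Q) : Cfsg.Involves H G := by
  obtain ⟨K, φ, hφ⟩ := exists_surjective_of_involves h
  apply involves_of_subgroup L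
  -- the preimage of `K` in `L`
  let ψ : (K.comap π) →* K := (π.subgroupComap K)
  have hψ : Function.Surjective ψ := MonoidHom.subgroupComap_surjective_of_surjective π K hπ
  exact involves_of_surjective (K.comap π) (φ.comp ψ) (hφ.comp hψ)

/-- Transitivity of involvement. -/
theorem involves_trans {Q : Type w} [Group Q] (h1 : Cfsg.Involves H Q) (h2 : Cfsg.Involves Q G) :
    Cfsg.Involves H G := by
  obtain ⟨L, π, hπ⟩ := exists_surjective_of_involves h2
  exact involves_of_surjective_hom L π hπ h1

/-- Sections of a quotient are sections of the group. -/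
theorem involves_of_quotient (N : Subgroup G) [N.Normal] (h : Cfsg.Involves H (G ⧸ N)) :
    Cfsg.Involves H G := by
  have h2 : Cfsg.Involves (G ⧸ N) G :=
    involves_of_surjective ⊤
      ((QuotientGroup.mk' N).comp (Subgroup.topEquiv : (⊤ : Subgroup G) ≃* G).toMonoidHom)
      ((QuotientGroup.mk'_surjective N).comp (Subgroup.topEquiv : (⊤ : Subgroup G) ≃* G).surjective)
  exact involves_trans h h2

/-- Transport of the ambient group along an isomorphism. -/
theorem involves_of_equiv {G' : Type w} [Group G'] (e : G ≃* G') (h : Cfsg.Involves H G) :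
    Cfsg.Involves H G' := by
  have h2 : Cfsg.Involves G G' :=
    involves_of_surjective ⊤
      (e.symm.toMonoidHom.comp (Subgroup.topEquiv : (⊤ : Subgroup G') ≃* G').toMonoidHom)
      (e.symm.surjective.comp (Subgroup.topEquiv : (⊤ : Subgroup G') ≃* G').surjective)
  exact involves_trans h h2

end Cfsg.Agent.Lib.Helper2.Inv
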