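import Mathlib
import Cfsg.Agent.Lib.Helper1.Nilpotent
import Cfsg.Agent.Lib.Helper1.Hall
import Cfsg.Agent.Lib.Helper2.AbelianCyclic

set_option autoImplicit false

universe u

namespace Cfsg.Agent.Lib.Helper2

open Cfsg.Agent.Lib.Helper1
open scoped commutatorElement

/-- A nontrivial normal subgroup of a finite `p`-group contains a central element of order `p`. -/
theorem exists_central_orderOf_eq_prime {G : Type*} [Group G] [Finite G] {p : ℕ} [Fact p.Prime]
    (hG : IsPGroup p G) (Ω : Subgroup G) [Ω.Normal] (hΩ : Ω ≠ ⊥) :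
    ∃ z : G, z ∈ Ω ∧ z ∈ Subgroup.center G ∧ orderOf z = p := by
  have : Group.IsNilpotent G := hG.isNilpotent
  have hne := normal_inf_center_ne_bot Ω hΩ
  have hN : IsPGroup p ↥(Ω ⊓ Subgroup.center G) := hG.to_subgroup _
  obtain ⟨m, hm⟩ := IsPGroup.iff_card.1 hN
  have hm0 : m ≠ 0 := by
    rintro rfl
    rw [pow_zero, Subgroup.card_eq_one] at hm
    exact hne hm
  have hdvd : p ∣ Nat.card ↥(Ω ⊓ Subgroup.center G) := by
    rw [hm]; exact dvd_pow_self p hm0
  obtain ⟨x, hx⟩ := exists_prime_orderOf_dvd_card' p hdvd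
  refine ⟨(x : G), x.2.1, x.2.2, ?_⟩
  rw [Subgroup.orderOf_coe]; exact hx

theorem zpowers_normal_of_mem_center {G : Type*} [Group G] {z : G}
    (hz : z ∈ Subgroup.center G) : (Subgroup.zpowers z).Normal := by
  constructor
  intro c hc g
  have hcc : c ∈ Subgroup.center G := (Subgroup.zpowers_le.2 hz) hc
  have : g * c * g⁻¹ = c := by
    rw [(Subgroup.mem_center_iff.1 hcc g), mul_assoc, mul_inv_cancel, mul_one]
  rw [this]; exact hc

/-- In a finite `p`-group, a normal subgroup contains normal subgroups of all possible orders. -/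
theorem exists_normal_le_card_eq_pow_aux (p : ℕ) [Fact p.Prime] :
    ∀ (k : ℕ) (G : Type u) [Group G] [Finite G], IsPGroup p G → ∀ Ω : Subgroup G, Ω.Normal →
      p ^ k ∣ Nat.card Ω → ∃ E : Subgroup G, E ≤ Ω ∧ E.Normal ∧ Nat.card E = p ^ k := by
  have hp : p.Prime := Fact.out
  intro k
  induction k with
  | zero =>
    intro G _ _ _ Ω _ _
    exact ⟨⊥, bot_le, Subgroup.normal_bot, by rw [Subgroup.card_bot, pow_zero]⟩
  | succ k ih =>
    intro G _ _ hG Ω hΩn hdvd
    have := hΩn
    have hΩ : Ω ≠ ⊥ := by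
      rintro rfl
      rw [Subgroup.card_bot, Nat.dvd_one] at hdvd
      have : 1 < p ^ (k + 1) := Nat.one_lt_pow (by omega) hp.one_lt
      omega
    obtain ⟨z, hzΩ, hzc, hoz⟩ := exists_central_orderOf_eq_prime hG Ω hΩ
    have hZn : (Subgroup.zpowers z).Normal := zpowers_normal_of_mem_center hzc
    have hZcard : Nat.card (Subgroup.zpowers z) = p := by rw [Nat.card_zpowers, hoz]
    have hZΩ : Subgroup.zpowers z ≤ Ω := Subgroup.zpowers_le.2 hzΩ
    set f := QuotientGroup.mk' (Subgroup.zpowers z) with hf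
    have hfs : Function.Surjective f := QuotientGroup.mk'_surjective _
    have hcm : (Ω.map f).comap f = Ω := by
      rw [Subgroup.comap_map_eq, QuotientGroup.ker_mk', sup_eq_left.2 hZΩ]
    have hcard : Nat.card Ω = p * Nat.card (Ω.map f) := by
      have := card_comap_mk' (Subgroup.zpowers z) (Ω.map f)
      rw [← hf, hcm, hZcard] at this
      exact this
    have hdvd' : p ^ k ∣ Nat.card (Ω.map f) := by
      rw [hcard, pow_succ, mul_comm] at hdvd
      exact Nat.dvd_of_mul_dvd_mul_left hp.pos hdvd
    obtain ⟨E', hE'Ω, hE'n, hE'c⟩ := ih (G ⧸ Subgroup.zpowers z) (hG.to_quotient _) (Ω.map f)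
      (hΩn.map f hfs) hdvd'
    refine ⟨E'.comap f, ?_, hE'n.comap f, ?_⟩
    · rw [← hcm]
      exact Subgroup.comap_mono hE'Ω
    · rw [hf, card_comap_mk', hZcard, hE'c, pow_succ, mul_comm]

theorem exists_normal_le_card_eq_pow {G : Type u} [Group G] [Finite G] {p : ℕ} [Fact p.Prime]
    (hG : IsPGroup p G) (Ω : Subgroup G) [hΩ : Ω.Normal] {k : ℕ} (h : p ^ k ∣ Nat.card Ω) :
    ∃ E : Subgroup G, E ≤ Ω ∧ E.Normal ∧ Nat.card E = p ^ k :=
  exists_normal_le_card_eq_pow_aux p k G hG Ω hΩ h

/-- A power of `p` which is at least `p ^ k` is divisible by `p ^ k`. -/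
theorem pow_dvd_of_le_of_isPGroup {G : Type*} [Group G] [Finite G] {p : ℕ} [Fact p.Prime]
    (hG : IsPGroup p G) {k : ℕ} (h : p ^ k ≤ Nat.card G) : p ^ k ∣ Nat.card G := by
  have hp : p.Prime := Fact.out
  obtain ⟨m, hm⟩ := IsPGroup.iff_card.1 hG
  rw [hm] at h ⊢
  exact pow_dvd_pow p ((Nat.pow_le_pow_iff_right hp.one_lt).1 h)




theorem card_sdiff_add_card {S : Type*} [Group S] [Finite S] {Z B : Subgroup S} (h : Z ≤ B) :
    Nat.card {g : S // g ∈ B ∧ g ∉ Z} + Nat.card Z = Nat.card B := by
  have h1 : Nat.card {g : S // g ∈ B ∧ g ∉ Z} = ((B : Set S) \ (Z : Set S)).ncard := by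
    rw [← Nat.card_coe_set_eq]; rfl
  have h2 : Nat.card Z = (Z : Set S).ncard := by
    rw [← Nat.card_coe_set_eq]; rfl
  have h3 : Nat.card B = (B : Set S).ncard := by
    rw [← Nat.card_coe_set_eq]; rfl
  rw [h1, h2, h3]
  exact Set.ncard_sdiff_add_ncard_of_subset (by exact_mod_cast h) (Set.toFinite _)

/-- The conjugacy class of a non-central element `e` of a normal subgroup `E` lies in
`E \ Z(G)`; hence the index of its centralizer is less than `|E|`. -/
theorem index_centralizer_singleton_lt {G : Type*} [Group G] [Finite G] (E : Subgroup G)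
    [hE : E.Normal] {e : G} (he : e ∈ E) (hec : e ∉ Subgroup.center G)
    (hne : E ⊓ Subgroup.center G ≠ ⊥) :
    (Subgroup.centralizer ({e} : Set G)).index < Nat.card E := by
  classical
  set C := Subgroup.centralizer ({e} : Set G) with hC
  set Z₁ := E ⊓ Subgroup.center G with hZ₁
  have hmem : ∀ q : G ⧸ C, ((Subgroup.quotientCentralizerEmbedding e q : commutatorSet G) : G) * e ∈ E ∧
      ((Subgroup.quotientCentralizerEmbedding e q : commutatorSet G) : G) * e ∉ Z₁ := by
    intro q
    induction q using QuotientGroup.induction_on with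
    | H x =>
      rw [Subgroup.quotientCentralizerEmbedding_apply]
      have : (⁅x, e⁆ : G) * e = x * e * x⁻¹ := by
        rw [commutatorElement_def]; group
      show (⁅x, e⁆ : G) * e ∈ E ∧ (⁅x, e⁆ : G) * e ∉ Z₁
      rw [this]
      refine ⟨hE.conj_mem e he x, ?_⟩
      intro hz
      apply hec
      have hz' : x * e * x⁻¹ ∈ Subgroup.center G := hz.2
      have : e = x⁻¹ * (x * e * x⁻¹) * x⁻¹⁻¹ := by group
      rw [this]
      exact (inferInstance : (Subgroup.center G).Normal).conj_mem _ hz' _
  let f : G ⧸ C → {g : G // g ∈ E ∧ g ∉ Z₁} := fun q =>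
    ⟨((Subgroup.quotientCentralizerEmbedding e q : commutatorSet G) : G) * e, hmem q⟩
  have hf : Function.Injective f := by
    intro q₁ q₂ h
    have h1 : ((Subgroup.quotientCentralizerEmbedding e q₁ : commutatorSet G) : G) * e =
        ((Subgroup.quotientCentralizerEmbedding e q₂ : commutatorSet G) : G) * e :=
      congrArg Subtype.val h
    have h2 := mul_right_cancel h1
    exact (Subgroup.quotientCentralizerEmbedding e).injective (Subtype.ext h2)
  have h1 := Nat.card_le_card_of_injective f hf
  have h2 := card_sdiff_add_card (inf_le_left : Z₁ ≤ E)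
  have h3 : 0 < Nat.card Z₁ := Nat.card_pos
  rw [Subgroup.index_eq_card]
  change Nat.card {g : G // g ∈ E ∧ g ∉ Z₁} + Nat.card Z₁ = Nat.card E at h2
  have h4 : 1 < Nat.card Z₁ := by
    rcases Nat.lt_or_ge 1 (Nat.card Z₁) with h | h
    · exact h
    · exfalso
      apply hne
      rw [← Subgroup.card_eq_one]
      omega
  omega

/-- A normal subgroup of order `p²` of a finite `p`-group has a centralizer of index dividing `p`. -/
theorem index_centralizer_dvd_prime {G : Type*} [Group G] [Finite G] {p : ℕ} [Fact p.Prime]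
    (hG : IsPGroup p G) (E : Subgroup G) [hE : E.Normal] (hcard : Nat.card E = p ^ 2) :
    (Subgroup.centralizer (E : Set G)).index ∣ p := by
  have hp : p.Prime := Fact.out
  by_cases hEZ : E ≤ Subgroup.center G
  · have : Subgroup.centralizer (E : Set G) = ⊤ :=
      Subgroup.centralizer_eq_top_iff_subset.2 hEZ
    rw [this, Subgroup.index_top]
    exact one_dvd p
  · obtain ⟨e, he, hec⟩ := SetLike.not_le_iff_exists.1 hEZ
    have : Group.IsNilpotent G := hG.isNilpotent
    have hEne : E ≠ ⊥ := by
      rintro rfl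
      rw [Subgroup.card_bot] at hcard
      have : 1 < p ^ 2 := Nat.one_lt_pow (by norm_num) hp.one_lt
      omega
    have hne := normal_inf_center_ne_bot E hEne
    set Z₁ := E ⊓ Subgroup.center G with hZ₁
    have hlt := index_centralizer_singleton_lt E he hec hne
    -- centralizer E = centralizer {e}
    have hKE : Subgroup.zpowers e ⊔ Z₁ = E := by
      have hK : Subgroup.zpowers e ⊔ Z₁ ≤ E := sup_le (Subgroup.zpowers_le.2 he) inf_le_left
      apply Subgroup.eq_of_le_of_card_ge hK
      have hZK : Z₁ < Subgroup.zpowers e ⊔ Z₁ := by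
        apply lt_of_le_of_ne le_sup_right
        intro h
        apply hec
        have : e ∈ Z₁ := by
          rw [h]; exact (le_sup_left : Subgroup.zpowers e ≤ _) (Subgroup.mem_zpowers e)
        exact this.2
      have hc1 : Nat.card Z₁ < Nat.card (Subgroup.zpowers e ⊔ Z₁ : Subgroup G) := by
        apply lt_of_le_of_ne (Subgroup.card_le_of_le hZK.le)
        intro hcc
        exact hZK.ne (Subgroup.eq_of_le_of_card_ge hZK.le hcc.ge)
      have hKp : IsPGroup p ↥(Subgroup.zpowers e ⊔ Z₁ : Subgroup G) := hG.to_subgroup _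
      obtain ⟨m, hm⟩ := IsPGroup.iff_card.1 hKp
      have hZp : IsPGroup p ↥Z₁ := hG.to_subgroup _
      obtain ⟨m', hm'⟩ := IsPGroup.iff_card.1 hZp
      have hm'0 : m' ≠ 0 := by
        rintro rfl
        rw [pow_zero, Subgroup.card_eq_one] at hm'
        exact hne hm'
      rw [hm, hm'] at hc1
      have hmm : m' < m := (Nat.pow_lt_pow_iff_right hp.one_lt).1 hc1
      rw [hcard, hm]
      exact Nat.pow_le_pow_right hp.pos (by omega)
    have hCeq : Subgroup.centralizer (E : Set G) = Subgroup.centralizer ({e} : Set G) := by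
      apply le_antisymm
      · exact Subgroup.centralizer_le (Set.singleton_subset_iff.2 he)
      · intro g hg
        rw [Subgroup.mem_centralizer_singleton_iff] at hg
        have h2 : Subgroup.zpowers e ⊔ Z₁ ≤ Subgroup.centralizer ({g} : Set G) := by
          apply sup_le
          · rw [Subgroup.zpowers_le, Subgroup.mem_centralizer_singleton_iff]
            exact hg.symm
          · intro c hc
            rw [Subgroup.mem_centralizer_singleton_iff]
            exact (Subgroup.mem_center_iff.1 hc.2 g).symm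
        rw [hKE] at h2
        rw [Subgroup.mem_centralizer_iff]
        intro h hh
        have := h2 hh
        rw [Subgroup.mem_centralizer_singleton_iff] at this
        exact this
    rw [hCeq]
    have hdvd : (Subgroup.centralizer ({e} : Set G)).index ∣ Nat.card G := Subgroup.index_dvd_card _
    obtain ⟨n, hn⟩ := IsPGroup.iff_card.1 hG
    rw [hn] at hdvd
    obtain ⟨m, -, hm⟩ := (Nat.dvd_prime_pow hp).1 hdvd
    rw [hm, hcard] at hlt
    have : m < 2 := (Nat.pow_lt_pow_iff_right hp.one_lt).1 hlt
    rw [hm]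
    calc p ^ m ∣ p ^ 1 := pow_dvd_pow p (by omega)
      _ = p := pow_one p



/-- If `c` with `y * x = c * x * y` commutes with `x` and `y`, then
`(x y)^n = x^n y^n c^(n choose 2)`. -/
theorem mul_pow_of_central_commutator {G : Type*} [Group G] {x y c : G}
    (hc : y * x = c * x * y) (hcx : Commute c x) (hcy : Commute c y) (n : ℕ) :
    (x * y) ^ n = x ^ n * y ^ n * c ^ (n.choose 2) := by
  -- y^n x = c^n x y^n
  have h1 : ∀ n : ℕ, y ^ n * x = c ^ n * x * y ^ n := by
    intro n
    induction n with
    | zero => simp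
    | succ n ih =>
      calc y ^ (n + 1) * x = y ^ n * (y * x) := by rw [pow_succ, mul_assoc]
        _ = y ^ n * (c * x * y) := by rw [hc]
        _ = (y ^ n * c) * x * y := by simp only [mul_assoc]
        _ = (c * y ^ n) * x * y := by rw [(hcy.pow_right n).eq]
        _ = c * (y ^ n * x) * y := by simp only [mul_assoc]
        _ = c * (c ^ n * x * y ^ n) * y := by rw [ih]
        _ = c ^ (n + 1) * x * y ^ (n + 1) := by rw [pow_succ' c, pow_succ y]; simp only [mul_assoc]
  induction n with
  | zero => simp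
  | succ n ih =>
    have e : (n + 1).choose 2 = n + n.choose 2 := by
      rw [Nat.choose_succ_succ' n 1, Nat.choose_one_right]
    calc (x * y) ^ (n + 1) = (x * y) ^ n * (x * y) := pow_succ _ _
      _ = x ^ n * y ^ n * c ^ (n.choose 2) * (x * y) := by rw [ih]
      _ = x ^ n * y ^ n * ((x * y) * c ^ (n.choose 2)) := by
          rw [mul_assoc (x ^ n * y ^ n), ((hcx.mul_right hcy).pow_left _).eq]
      _ = x ^ n * (y ^ n * x) * y * c ^ (n.choose 2) := by simp only [mul_assoc]
      _ = x ^ n * (c ^ n * x * y ^ n) * y * c ^ (n.choose 2) := by rw [h1]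
      _ = (x ^ n * c ^ n) * x * y ^ n * y * c ^ (n.choose 2) := by simp only [mul_assoc]
      _ = (c ^ n * x ^ n) * x * y ^ n * y * c ^ (n.choose 2) := by
          rw [((hcx.pow_left n).pow_right n).eq]
      _ = c ^ n * (x ^ (n + 1) * y ^ (n + 1)) * c ^ (n.choose 2) := by
          rw [pow_succ x, pow_succ y]; simp only [mul_assoc]
      _ = (x ^ (n + 1) * y ^ (n + 1)) * c ^ n * c ^ (n.choose 2) := by
          rw [(((hcx.pow_right (n+1)).mul_right (hcy.pow_right (n+1))).pow_left n).eq]
      _ = x ^ (n + 1) * y ^ (n + 1) * c ^ ((n + 1).choose 2) := by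
          rw [e, pow_add c n]; simp only [mul_assoc]

/-- For an odd prime `p`, if the commutator of `x` and `y` is central of order dividing `p` then
`(x y)^p = x^p y^p`. -/
theorem mul_pow_prime_of_central_commutator {G : Type*} [Group G] {p : ℕ} (hp : p.Prime)
    (hp2 : p ≠ 2) {x y c : G} (hc : y * x = c * x * y) (hcx : Commute c x) (hcy : Commute c y)
    (hcp : c ^ p = 1) : (x * y) ^ p = x ^ p * y ^ p := by
  rw [mul_pow_of_central_commutator hc hcx hcy p]
  have hdvd : p ∣ p.choose 2 := hp.dvd_choose_self (by norm_num) (by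
    have := hp.two_le; omega)
  obtain ⟨t, ht⟩ := hdvd
  rw [ht, pow_mul, hcp, one_pow, mul_one]


end Cfsg.Agent.Lib.Helper2
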