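import Mathlib
import Cfsg.Prelude.Def_CaseTheorems
import Cfsg.Agent.S3962

set_option autoImplicit false

namespace Cfsg.Agent.Lib.Helper2

open Cfsg

/-- A homomorphism from a perfect group to a group with commutative multiplication is trivial. -/
theorem hom_eq_one_of_isPerfect {D A : Type*} [Group D] [Group A] (hD : Group.IsPerfect D)
    (hA : ∀ a b : A, a * b = b * a) (f : D →* A) (x : D) : f x = 1 := by
  have h1 : (⁅(⊤ : Subgroup D), ⊤⁆ : Subgroup D) ≤ f.ker := by
    rw [Subgroup.commutator_le]
    intro g₁ _ g₂ _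
    rw [MonoidHom.mem_ker, map_commutatorElement, commutatorElement_eq_one_iff_mul_comm]
    exact hA _ _
  have h2 : (⁅(⊤ : Subgroup D), ⊤⁆ : Subgroup D) = ⊤ := hD.commutator_eq_top
  rw [h2] at h1
  exact MonoidHom.mem_ker.1 (h1 (Subgroup.mem_top x))

/-- A perfect central extension of a quasisimple group is quasisimple. -/
theorem isQuasisimple_of_surjective_central {D Q : Type*} [Group D] [Group Q]
    (hD : Group.IsPerfect D) (θ : D →* Q) (hθ : Function.Surjective θ)
    (hker : θ.ker ≤ Subgroup.center D) (hQ : IsQuasisimple Q) : IsQuasisimple D := by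
  refine ⟨hD, ?_⟩
  have hc : (Subgroup.center D).map θ = Subgroup.center Q :=
    Cfsg.Agent.S3962.result hD θ hθ hker
  let ψ : D →* Q ⧸ Subgroup.center Q := (QuotientGroup.mk' (Subgroup.center Q)).comp θ
  have hψ : Function.Surjective ψ :=
    (QuotientGroup.mk'_surjective (Subgroup.center Q)).comp hθ
  have hkerψ : ψ.ker = Subgroup.center D := by
    have : ψ.ker = (Subgroup.center Q).comap θ := by
      ext x
      simp only [ψ, MonoidHom.mem_ker, MonoidHom.coe_comp, Function.comp_apply,
        QuotientGroup.mk'_apply, QuotientGroup.eq_one_iff, Subgroup.mem_comap]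
    rw [this, ← hc, Subgroup.comap_map_eq, sup_eq_left]
    exact hker
  have e1 : D ⧸ ψ.ker ≃* Q ⧸ Subgroup.center Q :=
    QuotientGroup.quotientKerEquivOfSurjective ψ hψ
  have e2 : D ⧸ Subgroup.center D ≃* D ⧸ ψ.ker :=
    QuotientGroup.quotientMulEquivOfEq hkerψ.symm
  haveI : IsSimpleGroup (Q ⧸ Subgroup.center Q) := hQ.2
  exact (e2.trans e1).isSimpleGroup

end Cfsg.Agent.Lib.Helper2
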