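import Mathlib
import Cfsg.Prelude.Def_Local
import Cfsg.Agent.Lib.Helper2.Commutator
import Cfsg.Agent.Lib.Helper2.Quasisimple

set_option autoImplicit false

namespace Cfsg.Agent.Lib.Helper2

open Cfsg
open scoped commutatorElement

variable {G : Type*} [Group G]

/-- A normal subgroup of a quasisimple group is the whole group or central. -/
theorem isQuasisimple_normal_eq_top_or_le_center {H : Type*} [Group H] (hH : IsQuasisimple H)
    (M : Subgroup H) [M.Normal] : M = ⊤ ∨ M ≤ Subgroup.center H := by
  obtain ⟨hperf, hsimple⟩ := hH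
  set Z := Subgroup.center H with hZ
  have hMn : (M.map (QuotientGroup.mk' Z)).Normal :=
    Subgroup.Normal.map inferInstance _ (QuotientGroup.mk'_surjective Z)
  rcases hMn.eq_bot_or_eq_top with h | h
  · right
    rw [Subgroup.map_eq_bot_iff, QuotientGroup.ker_mk'] at h
    exact h
  · left
    have h1 : M ⊔ Z = ⊤ := by
      have := congrArg (Subgroup.comap (QuotientGroup.mk' Z)) h
      rwa [Subgroup.comap_map_eq, QuotientGroup.ker_mk', Subgroup.comap_top] at this
    have h2 : (⁅(⊤ : Subgroup H), ⊤⁆ : Subgroup H) = ⊤ := hperf.commutator_eq_top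
    rw [eq_top_iff, ← h2]
    conv_lhs => rw [← h1]
    apply commutator_sup_le
    · exact Subgroup.commutator_le_left M _
    · rw [hZ, Subgroup.commutator_center_left]; exact bot_le

/-- The perfect-subnormal lemma: if `L` is perfect and subnormal, `L` normalizes `N`, and
`[N ∩ L, L] = 1`, then `[N, L] = 1`. Auxiliary general form. -/
theorem commutator_eq_bot_of_subnormal_aux (H : Subgroup G) (hH : H.IsSubnormal) :
    ∀ L : Subgroup G, L ≤ H → ⁅L, L⁆ = L → ∀ N : Subgroup G,
      L ≤ Subgroup.normalizer (N : Set G) → ⁅N ⊓ H, L⁆ = ⊥ → ⁅N, L⁆ = ⊥ := by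
  induction hH with
  | top =>
    intro L _ _ N _ h
    rwa [inf_top_eq] at h
  | step H K hHK hK hnorm ih =>
    intro L hLH hperf N hLN h
    apply ih L (hLH.trans hHK) hperf N hLN
    have hKH : K ≤ Subgroup.normalizer (H : Set G) :=
      (Subgroup.normal_subgroupOf_iff_le_normalizer hHK).1 hnorm
    have h1 : ⁅N ⊓ K, L⁆ ≤ N ⊓ H := by
      apply le_inf
      · refine (Subgroup.commutator_mono inf_le_left le_rfl).trans ?_
        exact Subgroup.le_normalizer_iff_commutator_le_left.1 hLN
      · refine (Subgroup.commutator_mono inf_le_right hLH).trans ?_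
        exact Subgroup.le_normalizer_iff_commutator_le_right.1 hKH
    have h2 : ⁅⁅N ⊓ K, L⁆, L⁆ = ⊥ := by
      rw [eq_bot_iff, ← h]
      exact Subgroup.commutator_mono h1 le_rfl
    have h3 : ⁅⁅L, N ⊓ K⁆, L⁆ = ⊥ := by
      rw [Subgroup.commutator_comm L (N ⊓ K)]; exact h2
    have h4 : ⁅⁅L, L⁆, N ⊓ K⁆ = ⊥ :=
      Subgroup.commutator_commutator_eq_bot_of_rotate h3 h2
    rw [hperf] at h4
    rw [Subgroup.commutator_comm]; exact h4

theorem commutator_eq_bot_of_subnormal_perfect {L N : Subgroup G} (hL : L.IsSubnormal)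
    (hperf : ⁅L, L⁆ = L) (hLN : L ≤ Subgroup.normalizer (N : Set G)) (h : ⁅N ⊓ L, L⁆ = ⊥) :
    ⁅N, L⁆ = ⊥ :=
  commutator_eq_bot_of_subnormal_aux L hL L le_rfl hperf N hLN h

theorem isComponent_perfect {L : Subgroup G} (hL : IsComponent L) : ⁅L, L⁆ = L :=
  Subgroup.isPerfect_iff.1 hL.2.1

/-- A component `L` normalizing `N` lies in `N` or centralizes `N`. -/
theorem isComponent_le_or_commutator_eq_bot_of_le_normalizer {L N : Subgroup G}
    (hL : IsComponent L) (hLN : L ≤ Subgroup.normalizer (N : Set G)) : L ≤ N ∨ ⁅N, L⁆ = ⊥ := by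
  have hn : ((N ⊓ L).subgroupOf L).Normal := by
    apply Subgroup.normal_subgroupOf_of_le_normalizer
    refine (le_inf hLN Subgroup.le_normalizer).trans ?_
    exact Subgroup.inf_normalizer_le_normalizer_inf
  rcases isQuasisimple_normal_eq_top_or_le_center hL.2 ((N ⊓ L).subgroupOf L) with h | h
  · left
    rw [Subgroup.subgroupOf_eq_top] at h
    exact h.trans inf_le_left
  · right
    apply commutator_eq_bot_of_subnormal_perfect hL.1 (isComponent_perfect hL) hLN
    rw [Subgroup.commutator_eq_bot_iff_le_centralizer]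
    intro x hx
    rw [Subgroup.mem_centralizer_iff]
    intro l hl
    have hx' : (⟨x, hx.2⟩ : L) ∈ (N ⊓ L).subgroupOf L := Subgroup.mem_subgroupOf.2 hx
    have := Subgroup.mem_center_iff.1 (h hx') ⟨l, hl⟩
    exact congrArg Subtype.val this

/-- A component lies in, or centralizes, every subnormal subgroup. -/
theorem isComponent_le_or_commutator_eq_bot {L U : Subgroup G} (hL : IsComponent L)
    (hU : U.IsSubnormal) : L ≤ U ∨ ⁅U, L⁆ = ⊥ := by
  induction hU with
  | top => exact Or.inl le_top
  | step U K hUK hK hnorm ih =>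
    rcases ih with h | h
    · have hKU : K ≤ Subgroup.normalizer (U : Set G) :=
        (Subgroup.normal_subgroupOf_iff_le_normalizer hUK).1 hnorm
      exact isComponent_le_or_commutator_eq_bot_of_le_normalizer hL (h.trans hKU)
    · right
      rw [eq_bot_iff, ← h]
      exact Subgroup.commutator_mono hUK le_rfl

theorem isComponent_ne_bot {L : Subgroup G} (hL : IsComponent L) : L ≠ ⊥ := by
  rintro rfl
  haveI := hL.2.2
  have h1 : Nontrivial ((⊥ : Subgroup G) ⧸ Subgroup.center (⊥ : Subgroup G)) := inferInstance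
  have h2 : Subsingleton ((⊥ : Subgroup G) ⧸ Subgroup.center (⊥ : Subgroup G)) :=
    (QuotientGroup.mk_surjective (s := Subgroup.center (⊥ : Subgroup G))).subsingleton
  exact not_subsingleton _ h2

theorem isComponent_not_commutative {L : Subgroup G} (hL : IsComponent L) : ⁅L, L⁆ ≠ ⊥ := by
  rw [(isComponent_perfect hL)]; exact (isComponent_ne_bot hL)

/-- Distinct components commute. -/
theorem isComponent_eq_or_commutator_eq_bot {K L : Subgroup G} (hK : IsComponent K)
    (hL : IsComponent L) : K = L ∨ ⁅K, L⁆ = ⊥ := by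
  rcases isComponent_le_or_commutator_eq_bot hL hK.1 with h1 | h1
  · rcases isComponent_le_or_commutator_eq_bot hK hL.1 with h2 | h2
    · exact Or.inl (le_antisymm h2 h1)
    · right; rw [Subgroup.commutator_comm]; exact h2
  · exact Or.inr h1

end Cfsg.Agent.Lib.Helper2
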