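import Mathlib
import Cfsg.Agent.Lib.Helper2.Components

set_option autoImplicit false

namespace Cfsg.Agent.Lib.Helper2

open Cfsg
open scoped commutatorElement

variable {G : Type*} [Group G]

theorem isQuasisimple_of_mulEquiv {H H' : Type*} [Group H] [Group H'] (e : H ≃* H')
    (h : IsQuasisimple H') : IsQuasisimple H := by
  haveI := h.1
  have hperf : Group.IsPerfect H := Group.IsPerfect.ofSurjective (f := e.symm.toMonoidHom)
    e.symm.surjective
  refine isQuasisimple_of_surjective_central hperf e.toMonoidHom e.surjective ?_ h
  intro x hx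
  rw [MonoidHom.mem_ker] at hx
  have : x = 1 := e.injective (by simpa using hx)
  rw [this]; exact Subgroup.one_mem _

theorem isComponent_map_equiv (ϕ : G ≃* G) {K : Subgroup G} (hK : IsComponent K) :
    IsComponent (K.map ϕ.toMonoidHom) :=
  ⟨hK.1.map ϕ.surjective, isQuasisimple_of_mulEquiv (ϕ.subgroupMap K).symm hK.2⟩

theorem isComponent_conj (g : G) {K : Subgroup G} (hK : IsComponent K) :
    IsComponent (K.map (MulAut.conj g).toMonoidHom) :=
  isComponent_map_equiv (MulAut.conj g) hK

/-- A non-abelian simple group is quasisimple. -/
theorem isQuasisimple_of_simple {H : Type*} [Group H] [IsSimpleGroup H]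
    (hna : ¬ ∀ a b : H, a * b = b * a) : IsQuasisimple H := by
  have hc : Subgroup.center H = ⊥ := by
    rcases (inferInstance : (Subgroup.center H).Normal).eq_bot_or_eq_top with h | h
    · exact h
    · exfalso
      apply hna
      intro a b
      have : b ∈ Subgroup.center H := by rw [h]; trivial
      exact Subgroup.mem_center_iff.1 this a
  have hp : commutator H = ⊤ := by
    rcases (inferInstance : (commutator H).Normal).eq_bot_or_eq_top with h | h
    · exfalso
      apply hna
      intro a b
      have h1 : ⁅a, b⁆ ∈ commutator H :=
        Subgroup.commutator_mem_commutator (Subgroup.mem_top a) (Subgroup.mem_top b)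
      rw [h, Subgroup.mem_bot, commutatorElement_eq_one_iff_mul_comm] at h1
      exact h1
    · exact h
  refine ⟨⟨hp⟩, ?_⟩
  have e1 : H ⧸ Subgroup.center H ≃* H ⧸ (⊥ : Subgroup H) :=
    QuotientGroup.quotientMulEquivOfEq hc
  exact (e1.trans QuotientGroup.quotientBot).isSimpleGroup

/-- A quasisimple group with trivial centre is simple. -/
theorem isSimpleGroup_of_isQuasisimple {H : Type*} [Group H] (h : IsQuasisimple H)
    (hc : Subgroup.center H = ⊥) : IsSimpleGroup H := by
  haveI := h.2
  have e1 : H ⧸ Subgroup.center H ≃* H ⧸ (⊥ : Subgroup H) :=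
    QuotientGroup.quotientMulEquivOfEq hc
  exact (e1.trans QuotientGroup.quotientBot).symm.isSimpleGroup

/-- `H` has trivial centre, stated inside the ambient group. -/
def Centerless (H : Subgroup G) : Prop :=
  ∀ z ∈ H, (∀ h ∈ H, h * z = z * h) → z = 1

theorem centerless_iff (H : Subgroup G) : Centerless H ↔ Subgroup.center H = ⊥ := by
  constructor
  · intro h
    rw [eq_bot_iff]
    intro z hz
    rw [Subgroup.mem_bot]
    apply Subtype.ext
    apply h z z.2
    intro x hx
    exact congrArg Subtype.val (Subgroup.mem_center_iff.1 hz ⟨x, hx⟩)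
  · intro h z hz hcomm
    have : (⟨z, hz⟩ : H) ∈ Subgroup.center H := by
      rw [Subgroup.mem_center_iff]
      intro x
      exact Subtype.ext (hcomm x x.2)
    rw [h, Subgroup.mem_bot] at this
    exact congrArg Subtype.val this

theorem centerless_sup {H₁ H₂ : Subgroup G} (hc : ⁅H₁, H₂⁆ = ⊥) (h1 : Centerless H₁)
    (h2 : Centerless H₂) : Centerless (H₁ ⊔ H₂) := by
  have hcent : H₁ ≤ Subgroup.centralizer (H₂ : Set G) :=
    Subgroup.commutator_eq_bot_iff_le_centralizer.1 hc
  have hcomm : ∀ a ∈ H₁, ∀ b ∈ H₂, b * a = a * b := fun a ha b hb =>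
    Subgroup.mem_centralizer_iff.1 (hcent ha) b hb
  have hnorm : H₁ ≤ Subgroup.normalizer (H₂ : Set G) :=
    hcent.trans (Subgroup.centralizer_le_normalizer _)
  intro z hz hzc
  have hz' : z ∈ ((H₁ ⊔ H₂ : Subgroup G) : Set G) := hz
  rw [Subgroup.coe_mul_of_left_le_normalizer_right H₁ H₂ hnorm] at hz'
  obtain ⟨a, ha, b, hb, rfl⟩ := hz'
  simp only at hz hzc ⊢
  have ha1 : a = 1 := by
    apply h1 a ha
    intro h hh
    have e := hzc h (Subgroup.mem_sup_left hh)
    -- h * (a * b) = a * b * h, and b commutes with h
    have e2 : b * h = h * b := hcomm h hh b hb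
    have : h * a * b = a * h * b := by
      calc h * a * b = h * (a * b) := by group
        _ = a * b * h := e
        _ = a * (b * h) := by group
        _ = a * (h * b) := by rw [e2]
        _ = a * h * b := by group
    exact mul_right_cancel this
  have hb1 : b = 1 := by
    apply h2 b hb
    intro h hh
    have e := hzc h (Subgroup.mem_sup_right hh)
    have e2 : h * a = a * h := hcomm a ha h hh
    have : a * (h * b) = a * (b * h) := by
      calc a * (h * b) = (a * h) * b := by group
        _ = (h * a) * b := by rw [e2]
        _ = h * (a * b) := by group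
        _ = a * b * h := e
        _ = a * (b * h) := by group
    exact mul_left_cancel this
  rw [ha1, hb1]; simp

open Classical in
theorem centerless_finset_sup (S : Finset (Subgroup G))
    (hpair : ∀ A ∈ S, ∀ B ∈ S, A ≠ B → ⁅A, B⁆ = ⊥) (hc : ∀ A ∈ S, Centerless A) :
    Centerless (S.sup id) := by
  induction S using Finset.induction_on with
  | empty =>
    intro z hz _
    simpa using hz
  | insert A S hA ih =>
    rw [Finset.sup_insert]
    apply centerless_sup
    · rw [Subgroup.commutator_comm, Subgroup.commutator_eq_bot_iff_le_centralizer]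
      apply Finset.sup_le
      intro B hB
      have hne : B ≠ A := fun h => hA (h ▸ hB)
      have := hpair B (Finset.mem_insert_of_mem hB) A (Finset.mem_insert_self A S) hne
      exact Subgroup.commutator_eq_bot_iff_le_centralizer.1 this
    · exact hc A (Finset.mem_insert_self A S)
    · apply ih
      · intro B hB C hC hne
        exact hpair B (Finset.mem_insert_of_mem hB) C (Finset.mem_insert_of_mem hC) hne
      · intro B hB
        exact hc B (Finset.mem_insert_of_mem hB)

open Classical in
/-- The normal closure of a subgroup of a finite group as a finite join of conjugates. -/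
theorem normalClosure_eq_finset_sup [Fintype G] (K : Subgroup G) :
    Subgroup.normalClosure (K : Set G) =
      (Finset.univ.image (fun g : G => K.map (MulAut.conj g).toMonoidHom)).sup id := by
  set T := (Finset.univ.image (fun g : G => K.map (MulAut.conj g).toMonoidHom)).sup id with hT
  apply le_antisymm
  · have hTn : T.Normal := by
      constructor
      intro n hn g
      have h1 : T.map (MulAut.conj g).toMonoidHom ≤ T := by
        rw [hT, Finset.sup_image]
        simp only [Function.id_comp]
        rw [Finset.sup_eq_iSup]
        simp only [Finset.mem_univ, iSup_pos]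
        rw [Subgroup.map_iSup]
        apply iSup_le
        intro h
        rw [Subgroup.map_map]
        have : (MulAut.conj g).toMonoidHom.comp (MulAut.conj h).toMonoidHom
            = (MulAut.conj (g * h)).toMonoidHom := by
          ext x; simp [mul_assoc]
        rw [this]
        exact le_iSup (fun h : G => K.map (MulAut.conj h).toMonoidHom) (g * h)
      exact h1 ⟨n, hn, by simp⟩
    apply Subgroup.normalClosure_le_normal
    intro x hx
    have : K ≤ T := by
      have h1 : K = K.map (MulAut.conj (1 : G)).toMonoidHom := by
        ext y; simp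
      rw [h1]
      exact Finset.le_sup (f := id) (Finset.mem_image_of_mem _ (Finset.mem_univ (1 : G)))
    exact this hx
  · apply Finset.sup_le
    intro A hA
    rw [Finset.mem_image] at hA
    obtain ⟨g, _, rfl⟩ := hA
    rintro _ ⟨k, hk, rfl⟩
    have hk' : k ∈ Subgroup.normalClosure (K : Set G) := Subgroup.subset_normalClosure hk
    exact (Subgroup.normalClosure_normal).conj_mem k hk' g

end Cfsg.Agent.Lib.Helper2
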