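import Mathlib
import Cfsg.Agent.Lib.Helper2.Cores

set_option autoImplicit false

namespace Cfsg.Agent.Lib.Helper2

open Cfsg

universe u

/-- A subnormal subgroup with a "radical" property lies in the corresponding radical. -/
theorem subnormal_le_radical (PP : ∀ (X : Type u) [Group X], Prop)
    (hiso : ∀ (X Y : Type u) [Group X] [Group Y], (X ≃* Y) → PP X → PP Y)
    (hsup : ∀ (X : Type u) [Group X] [Finite X] (A B : Subgroup X),
      A.Normal → B.Normal → PP A → PP B → PP (A ⊔ B : Subgroup X))
    (hbot : ∀ (X : Type u) [Group X], PP (⊥ : Subgroup X))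
    {G : Type u} [Group G] [Finite G] (A : Subgroup G) (hA : A.IsSubnormal) (hPA : PP A) :
    A ≤ sSup {N : Subgroup G | N.Normal ∧ PP N} := by
  induction' hn : Nat.card G using Nat.strong_induction_on with n ih generalizing G
  rcases hA.lt_normal with rfl | ⟨K, hKn, hAK, hKtop⟩
  · exact le_sSup ⟨inferInstance, hPA⟩
  · -- work inside K
    have hcard : Nat.card K < n := by
      rw [← hn]
      by_contra hcon
      exact hKtop.ne (Subgroup.eq_top_of_le_card K (not_lt.1 hcon))
    have hsub : (A.subgroupOf K).IsSubnormal := hA.subgroupOf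
    have hP' : PP (A.subgroupOf K) :=
      hiso _ _ (Subgroup.subgroupOfEquivOfLe hAK).symm hPA
    have h1 := ih (Nat.card K) hcard (A.subgroupOf K) hsub hP' rfl
    set R : Subgroup K := sSup {N : Subgroup K | N.Normal ∧ PP N} with hR
    have hRmem : R.Normal ∧ PP R := by
      apply sSup_mem_of_sup_closed (fun N : Subgroup K => N.Normal ∧ PP N)
      · exact ⟨inferInstance, hbot K⟩
      · rintro X Y ⟨hX, hX'⟩ ⟨hY, hY'⟩
        exact ⟨inferInstance, hsup K X Y hX hY hX' hY'⟩
    have hRchar : R.Characteristic := by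
      apply sSup_characteristic (fun N : Subgroup K => N.Normal ∧ PP N)
      rintro ϕ N ⟨hN, hN'⟩
      exact ⟨normal_map_equiv ϕ N, hiso _ _ (ϕ.subgroupMap N) hN'⟩
    have hRn : (R.map K.subtype).Normal := inferInstance
    have hRP : PP (R.map K.subtype) :=
      hiso _ _ (R.equivMapOfInjective K.subtype K.subtype_injective) hRmem.2
    calc A = (A.subgroupOf K).map K.subtype := (Subgroup.map_subgroupOf_eq_of_le hAK).symm
      _ ≤ R.map K.subtype := Subgroup.map_mono h1
      _ ≤ sSup {N : Subgroup G | N.Normal ∧ PP N} := le_sSup ⟨hRn, hRP⟩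

end Cfsg.Agent.Lib.Helper2
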