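import Mathlib
import Cfsg.Agent.Lib.Helper2.Components2
import Cfsg.Agent.Lib.Helper2.Radical

set_option autoImplicit false

namespace Cfsg.Agent.Lib.Helper2

open Cfsg
open scoped commutatorElement

variable {G : Type*} [Group G]

theorem centerless_map_equiv (ϕ : G ≃* G) {K : Subgroup G} (hK : Centerless K) :
    Centerless (K.map ϕ.toMonoidHom) := by
  rintro _ ⟨k, hk, rfl⟩ hcomm
  have : k = 1 := by
    apply hK k hk
    intro h hh
    have := hcomm (ϕ h) ⟨h, hh, rfl⟩
    apply ϕ.injective
    simpa using this
  rw [this]; simp

theorem layer_characteristic : (layer G).Characteristic :=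
  sSup_characteristic (fun K : Subgroup G => IsComponent K)
    (fun ϕ _ hK => isComponent_map_equiv ϕ hK)

theorem layer_normal : (layer G).Normal :=
  haveI := layer_characteristic (G := G)
  inferInstance

theorem le_layer {K : Subgroup G} (hK : IsComponent K) : K ≤ layer G := le_sSup hK

/-- The normal closure of a component with trivial centre is a minimal normal subgroup. -/
theorem normalClosure_component_minimal [Finite G] {K : Subgroup G} (hK : IsComponent K)
    (hc : Subgroup.center K = ⊥) :
    Subgroup.normalClosure (K : Set G) ≠ ⊥ ∧ ∀ N : Subgroup G, N.Normal →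
      N ≤ Subgroup.normalClosure (K : Set G) → N = ⊥ ∨ N = Subgroup.normalClosure (K : Set G) := by
  classical
  haveI : Fintype G := Fintype.ofFinite G
  constructor
  · intro h
    apply isComponent_ne_bot hK
    rw [eq_bot_iff, ← h]
    exact Subgroup.le_normalClosure
  · intro N hN hle
    rcases isComponent_le_or_commutator_eq_bot hK hN.isSubnormal with h | h
    · right
      exact le_antisymm hle (Subgroup.normalClosure_le_normal h)
    · left
      set S := Finset.univ.image (fun g : G => K.map (MulAut.conj g).toMonoidHom) with hS
      have hSc : Centerless (S.sup id) := by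
        apply centerless_finset_sup
        · intro A hA B hB hne
          rw [hS, Finset.mem_image] at hA hB
          obtain ⟨a, _, rfl⟩ := hA
          obtain ⟨b, _, rfl⟩ := hB
          rcases isComponent_eq_or_commutator_eq_bot (isComponent_conj a hK)
            (isComponent_conj b hK) with h1 | h1
          · exact absurd h1 hne
          · exact h1
        · intro A hA
          rw [hS, Finset.mem_image] at hA
          obtain ⟨a, _, rfl⟩ := hA
          exact centerless_map_equiv (MulAut.conj a) ((centerless_iff K).2 hc)
      have hcent : S.sup id ≤ Subgroup.centralizer (N : Set G) := by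
        apply Finset.sup_le
        intro A hA
        rw [hS, Finset.mem_image] at hA
        obtain ⟨a, _, rfl⟩ := hA
        rw [id, ← Subgroup.commutator_eq_bot_iff_le_centralizer]
        have h1 : N.map (MulAut.conj a).toMonoidHom = N := by
          apply le_antisymm
          · rintro _ ⟨n, hn, rfl⟩
            exact hN.conj_mem n hn a
          · intro n hn
            refine ⟨a⁻¹ * n * a, ?_, by simp [mul_assoc]⟩
            have := hN.conj_mem n hn a⁻¹
            simpa using this
        rw [Subgroup.commutator_comm, ← h1, ← Subgroup.map_commutator, h, Subgroup.map_bot]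
      rw [eq_bot_iff]
      intro n hn
      rw [Subgroup.mem_bot]
      apply hSc n
      · rw [← normalClosure_eq_finset_sup]; exact hle hn
      · intro x hx
        exact (Subgroup.mem_centralizer_iff.1 (hcent hx) n hn).symm

/-- In a finite group, every nontrivial subnormal subgroup contains a simple subnormal subgroup. -/
theorem exists_simple_subnormal_le [Finite G] (N : Subgroup G) (hN : N.IsSubnormal) (hne : N ≠ ⊥) :
    ∃ T : Subgroup G, T ≤ N ∧ T.IsSubnormal ∧ IsSimpleGroup T := by
  induction' hn : Nat.card N using Nat.strong_induction_on with n ih generalizing N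
  by_cases hs : IsSimpleGroup N
  · exact ⟨N, le_rfl, hN, hs⟩
  · haveI : Nontrivial N := (Subgroup.nontrivial_iff_ne_bot N).2 hne
    have : ∃ T' : Subgroup N, T'.Normal ∧ T' ≠ ⊥ ∧ T' ≠ ⊤ := by
      by_contra hcon
      push Not at hcon
      apply hs
      exact ⟨fun T' hT' => by
        by_cases h : T' = ⊥
        · exact Or.inl h
        · exact Or.inr (hcon T' hT' h)⟩
    obtain ⟨T', hT'n, hT'bot, hT'top⟩ := this
    set M := T'.map N.subtype with hM
    have hMsub : M.IsSubnormal := hT'n.isSubnormal.trans' hN
    have hMN : M ≤ N := Subgroup.map_subtype_le T'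
    have hMne : M ≠ ⊥ := by
      intro h
      apply hT'bot
      rw [hM, Subgroup.map_eq_bot_iff_of_injective _ N.subtype_injective] at h
      exact h
    have hMlt : Nat.card M < n := by
      rw [← hn]
      have h1 : Nat.card M = Nat.card T' :=
        Nat.card_congr (T'.equivMapOfInjective N.subtype N.subtype_injective).symm.toEquiv
      rw [h1]
      by_contra hcon
      exact hT'top (Subgroup.eq_top_of_le_card T' (not_lt.1 hcon))
    obtain ⟨T, hTM, hTsub, hTs⟩ := ih (Nat.card M) hMlt M hMsub hMne rfl
    exact ⟨T, hTM.trans hMN, hTsub, hTs⟩

end Cfsg.Agent.Lib.Helper2
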