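import Mathlib
import Cfsg.Agent.Lib.Helper2.PGroupNormal

set_option autoImplicit false

universe u

namespace Cfsg.Agent.Lib.Helper2

open Cfsg.Agent.Lib.Helper1

/-- A finite noncyclic abelian `p`-group has a (normal) subgroup of order `p²` and exponent `p`. -/
theorem exists_elementary_sq_of_comm {G : Type u} [Group G] [Finite G] {p : ℕ} [Fact p.Prime]
    (hG : IsPGroup p G) (hcomm : ∀ a b : G, a * b = b * a) (hnc : ¬ IsCyclic G) :
    ∃ E : Subgroup G, E.Normal ∧ Nat.card E = p ^ 2 ∧ ∀ x ∈ E, x ^ p = 1 := by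
  have hp : p.Prime := Fact.out
  let _ : CommGroup G := { ‹Group G› with mul_comm := hcomm }
  obtain ⟨q, hq, hlt⟩ := exists_prime_lt_card_torsionSub (G := G) hnc
  have hqp : q = p := by
    by_contra hne
    have hbot : torsionSub G q = ⊥ := by
      rw [eq_bot_iff]
      intro x hx
      rw [Subgroup.mem_bot]
      have h1 : orderOf x ∣ q := orderOf_dvd_of_pow_eq_one (mem_torsionSub.1 hx)
      obtain ⟨k, hk⟩ := (IsPGroup.iff_orderOf.1 hG) x
      rcases (Nat.dvd_prime hq).1 h1 with h2 | h2
      · exact orderOf_eq_one_iff.1 h2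
      · exfalso
        rw [h2] at hk
        have hpq : p ∣ q := by
          rcases Nat.eq_zero_or_pos k with h0 | h0
          · rw [h0, pow_zero] at hk
            exact absurd hk hq.one_lt.ne'
          · rw [hk]; exact dvd_pow_self p h0.ne'
        exact hne ((Nat.prime_dvd_prime_iff_eq hp hq).1 hpq).symm
    rw [hbot, Subgroup.card_bot] at hlt
    exact absurd hlt (by have := hq.one_lt; omega)
  subst hqp
  have hΩp : IsPGroup q ↥(torsionSub G q) := hG.to_subgroup _
  have h2 : q ^ 2 ∣ Nat.card (torsionSub G q) := by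
    obtain ⟨m, hm⟩ := IsPGroup.iff_card.1 hΩp
    rw [hm] at hlt ⊢
    apply pow_dvd_pow
    by_contra hm2
    have : m ≤ 1 := by omega
    have := Nat.pow_le_pow_right hp.pos this
    rw [pow_one] at this
    omega
  obtain ⟨E, hEΩ, hEn, hEc⟩ := exists_normal_le_card_eq_pow hG (torsionSub G q) h2
  exact ⟨E, hEn, hEc, fun x hx => mem_torsionSub.1 (hEΩ hx)⟩

/-- For an odd prime `p`, a finite noncyclic `p`-group has a normal subgroup of order `p²` and
exponent `p`. -/
theorem exists_normal_elementary_sq_aux (p : ℕ) [Fact p.Prime] (hp2 : p ≠ 2) :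
    ∀ (n : ℕ) (G : Type u) [Group G] [Finite G], Nat.card G = n → IsPGroup p G → ¬ IsCyclic G →
      ∃ E : Subgroup G, E.Normal ∧ Nat.card E = p ^ 2 ∧ ∀ x ∈ E, x ^ p = 1 := by
  have hp : p.Prime := Fact.out
  intro n
  induction n using Nat.strong_induction_on with
  | _ n ih =>
    intro G _ _ hcard hG hnc
    have hnt : Nontrivial G := by
      by_contra hnt
      rw [not_nontrivial_iff_subsingleton] at hnt
      exact hnc inferInstance
    obtain ⟨z, -, hzc, hoz⟩ := exists_central_orderOf_eq_prime hG ⊤ top_ne_bot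
    have hZn : (Subgroup.zpowers z).Normal := zpowers_normal_of_mem_center hzc
    have hZcard : Nat.card (Subgroup.zpowers z) = p := by rw [Nat.card_zpowers, hoz]
    set f := QuotientGroup.mk' (Subgroup.zpowers z) with hf
    have hker : f.ker = Subgroup.zpowers z := QuotientGroup.ker_mk' _
    have hQcard : Nat.card (G ⧸ Subgroup.zpowers z) * p = n := by
      rw [← hcard, ← hZcard]
      exact (Subgroup.card_eq_card_quotient_mul_card_subgroup _).symm
    have hQlt : Nat.card (G ⧸ Subgroup.zpowers z) < n := by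
      rw [← hQcard]
      have : 0 < Nat.card (G ⧸ Subgroup.zpowers z) := Nat.card_pos
      have := hp.one_lt
      nlinarith
    have hZc : ∀ c ∈ Subgroup.zpowers z, c ∈ Subgroup.center G ∧ c ^ p = 1 := by
      intro c hc
      refine ⟨(Subgroup.zpowers_le.2 hzc) hc, ?_⟩
      obtain ⟨i, rfl⟩ := Subgroup.mem_zpowers_iff.1 hc
      rw [← zpow_natCast, ← zpow_mul, mul_comm, zpow_mul, zpow_natCast, ← hoz, pow_orderOf_eq_one,
        one_zpow]
    by_cases hQ : IsCyclic (G ⧸ Subgroup.zpowers z)
    · have hcomm : ∀ a b : G, a * b = b * a := fun a b =>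
        (f.isMulCommutative_of_isCyclic_of_ker_le_center
          (by rw [hker]; exact Subgroup.zpowers_le.2 hzc)).is_comm.comm a b
      exact exists_elementary_sq_of_comm hG hcomm hnc
    · obtain ⟨Ē, hĒn, hĒc, hĒp⟩ := ih _ hQlt (G ⧸ Subgroup.zpowers z) rfl (hG.to_quotient _) hQ
      set E₁ := Ē.comap f with hE₁
      have hE₁n : E₁.Normal := hĒn.comap f
      have hE₁c : Nat.card E₁ = p * p ^ 2 := by
        rw [hE₁, hf, card_comap_mk', hZcard, hĒc]
      have hĒcomm : ∀ a b : ↥Ē, a * b = b * a := fun a b =>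
        (IsPGroup.isMulCommutative_of_card_eq_prime_sq hĒc).is_comm.comm a b
      have hcomm1 : ∀ x ∈ E₁, ∀ y ∈ E₁, y * x * y⁻¹ * x⁻¹ ∈ Subgroup.zpowers z := by
        intro x hx y hy
        rw [← hker, MonoidHom.mem_ker]
        have := congrArg Subtype.val (hĒcomm ⟨f y, hy⟩ ⟨f x, hx⟩)
        simp only [Subgroup.coe_mul] at this
        rw [map_mul, map_mul, map_mul, map_inv, map_inv, this]
        group
      have hpow1 : ∀ x ∈ E₁, x ^ p ∈ Subgroup.zpowers z := by
        intro x hx
        rw [← hker, MonoidHom.mem_ker, map_pow]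
        exact hĒp (f x) hx
      have hmul : ∀ x ∈ E₁, ∀ y ∈ E₁, (x * y) ^ p = x ^ p * y ^ p := by
        intro x hx y hy
        obtain ⟨hcc, hcp⟩ := hZc _ (hcomm1 x hx y hy)
        apply mul_pow_prime_of_central_commutator hp hp2 (c := y * x * y⁻¹ * x⁻¹) (by group)
          ((Subgroup.mem_center_iff.1 hcc x).symm) ((Subgroup.mem_center_iff.1 hcc y).symm) hcp
      let Ω : Subgroup G :=
        { carrier := {x | x ∈ E₁ ∧ x ^ p = 1}
          one_mem' := ⟨E₁.one_mem, one_pow p⟩
          mul_mem' := by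
            rintro a b ⟨ha, hap⟩ ⟨hb, hbp⟩
            exact ⟨E₁.mul_mem ha hb, by rw [hmul a ha b hb, hap, hbp, one_mul]⟩
          inv_mem' := by
            rintro a ⟨ha, hap⟩
            exact ⟨E₁.inv_mem ha, by rw [inv_pow, hap, inv_one]⟩ }
      have hΩn : Ω.Normal := by
        constructor
        rintro a ⟨ha, hap⟩ g
        refine ⟨hE₁n.conj_mem a ha g, ?_⟩
        rw [conj_pow, hap, mul_one, mul_inv_cancel]
      let φ : ↥E₁ →* G :=
        { toFun := fun x => (x : G) ^ p
          map_one' := one_pow p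
          map_mul' := fun x y => hmul x x.2 y y.2 }
      have hrange : Nat.card φ.range ≤ p := by
        rw [← hZcard]
        apply Subgroup.card_le_of_le
        rintro _ ⟨x, rfl⟩
        exact hpow1 x x.2
      have hkerφ : Nat.card φ.ker ≤ Nat.card Ω := by
        have h1 : φ.ker.map E₁.subtype ≤ Ω := by
          rintro _ ⟨x, hx, rfl⟩
          exact ⟨x.2, hx⟩
        have h2 := Subgroup.card_le_of_le h1
        rwa [Subgroup.card_map_of_injective (Subgroup.subtype_injective _)] at h2
      have hprod : Nat.card φ.ker * Nat.card φ.range = Nat.card E₁ := by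
        rw [← Subgroup.index_ker, Subgroup.card_mul_index]
      have hΩge : p ^ 2 ≤ Nat.card Ω := by
        have h3 : p * p ^ 2 ≤ Nat.card Ω * p := by
          rw [← hE₁c, ← hprod]
          exact Nat.mul_le_mul hkerφ hrange
        rw [mul_comm] at h3
        exact Nat.le_of_mul_le_mul_right h3 hp.pos
      have hΩdvd : p ^ 2 ∣ Nat.card Ω := pow_dvd_of_le_of_isPGroup (hG.to_subgroup Ω) hΩge
      obtain ⟨E, hEΩ, hEn, hEc⟩ := exists_normal_le_card_eq_pow hG Ω hΩdvd
      exact ⟨E, hEn, hEc, fun x hx => (hEΩ hx).2⟩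

/-- For an odd prime `p`, a finite noncyclic `p`-group has a normal subgroup of order `p²` and
exponent `p` (hence elementary abelian of rank two). -/
theorem exists_normal_elementary_sq {G : Type u} [Group G] [Finite G] {p : ℕ} [Fact p.Prime]
    (hp2 : p ≠ 2) (hG : IsPGroup p G) (hnc : ¬ IsCyclic G) :
    ∃ E : Subgroup G, E.Normal ∧ Nat.card E = p ^ 2 ∧ ∀ x ∈ E, x ^ p = 1 :=
  exists_normal_elementary_sq_aux p hp2 _ G rfl hG hnc

end Cfsg.Agent.Lib.Helper2
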