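import Mathlib
import Cfsg.Agent.Lib.Helper1.AODefs

set_option autoImplicit false
set_option linter.unusedVariables false
set_option linter.unusedSectionVars false
set_option linter.style.longLine false
set_option linter.style.haveILetI false

open Cfsg.Agent.Lib.Helper1.AO

universe u

namespace Cfsg.Agent.Lib.Helper2.AO

variable {G : Type u} [Group G] [Finite G] {p r : ℕ}

/-- elements of the centralizer of `t` commute with `t`. -/
theorem comm_of_mem_centralizer_singleton {t c : G}
    (hc : c ∈ Subgroup.centralizer ({t} : Set G)) : c * t = t * c := by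
  rw [Subgroup.mem_centralizer_iff] at hc
  exact (hc t (Set.mem_singleton t)).symm

theorem mem_centralizer_singleton_of_comm {t c : G} (hc : c * t = t * c) :
    c ∈ Subgroup.centralizer ({t} : Set G) := by
  rw [Subgroup.mem_centralizer_iff]
  intro y hy
  rw [Set.mem_singleton_iff] at hy
  subst hy
  exact hc.symm


/-- own copy of the needed part of T7: an element commuting with an involution has order
dividing `2 * p`. -/
theorem orderOf_dvd_two_mul_of_comm_invol (H : TwoP G p r) (t : G) (ht : orderOf t = 2) (c : G)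
    (hc : c * t = t * c) : orderOf c ∣ 2 * p := by
  rcases H.spec c with h | h | h | h | h
  · rw [h]; exact one_dvd _
  · rw [h]; exact Dvd.intro _ rfl
  · rw [h]; exact Dvd.intro_left _ rfl
  · rw [h]
  · exfalso
    have hcm : Commute c t := hc
    have hcop : Nat.Coprime (orderOf c) (orderOf t) := by
      rw [h, ht, Nat.coprime_primes H.hr Nat.prime_two]; exact H.hr2
    have ho := hcm.orderOf_mul_eq_mul_orderOf_of_coprime hcop
    rw [h, ht] at ho
    have hr1 : 1 < r := H.hr.one_lt
    have hp1 : 1 < p := H.hp.one_lt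
    rcases H.spec (c * t) with h' | h' | h' | h' | h' <;> rw [ho] at h'
    · omega
    · omega
    · -- r * 2 = p
      have : (2 : ℕ) ∣ p := ⟨r, by omega⟩
      have := (Nat.prime_dvd_prime_iff_eq Nat.prime_two H.hp).mp this
      exact H.hp2 this.symm
    · have : r = p := by omega
      exact H.hpr this.symm
    · omega

/-- own copy of the needed part of T1: a Sylow 2-subgroup has exponent 2. -/
theorem sq_eq_one_of_mem_sylow_two (H : TwoP G p r) (S : Sylow 2 G) (s : G)
    (hs : s ∈ (S : Subgroup G)) : s ^ 2 = 1 := by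
  obtain ⟨k, hk⟩ := (IsPGroup.iff_orderOf.mp S.2) ⟨s, hs⟩
  rw [Subgroup.orderOf_mk] at hk
  have two_of : ∀ q : ℕ, q.Prime → q ∣ 2 ^ k → q = 2 := by
    intro q hq hdvd
    have := hq.dvd_of_dvd_pow hdvd
    exact (Nat.prime_dvd_prime_iff_eq hq Nat.prime_two).mp this
  rcases H.spec s with h | h | h | h | h
  · rw [orderOf_eq_one_iff] at h; rw [h]; simp
  · rw [← h]; exact pow_orderOf_eq_one s
  · exfalso; apply H.hp2; apply two_of p H.hp; rw [← hk, h]
  · exfalso; apply H.hp2; apply two_of p H.hp; rw [← hk, h]; exact Dvd.intro_left 2 rfl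
  · exfalso; apply H.hr2; apply two_of r H.hr; rw [← hk, h]

/-- own copy of the needed part of T1: a Sylow 2-subgroup is abelian. -/
theorem comm_of_mem_sylow_two (H : TwoP G p r) (S : Sylow 2 G) (x : G)
    (hx : x ∈ (S : Subgroup G)) (y : G) (hy : y ∈ (S : Subgroup G)) : x * y = y * x := by
  have hx2 := sq_eq_one_of_mem_sylow_two H S x hx
  have hy2 := sq_eq_one_of_mem_sylow_two H S y hy
  have hxy2 := sq_eq_one_of_mem_sylow_two H S (x * y) ((S : Subgroup G).mul_mem hx hy)
  rw [pow_two] at hx2 hy2 hxy2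
  have hxi : x⁻¹ = x := inv_eq_of_mul_eq_one_left hx2
  have hyi : y⁻¹ = y := inv_eq_of_mul_eq_one_left hy2
  have h1 : (x * y)⁻¹ = x * y := inv_eq_of_mul_eq_one_left hxy2
  rw [mul_inv_rev, hxi, hyi] at h1
  exact h1.symm

/-- a `p`-element commuting with the involution `t` has `p`-th power `1`. -/
theorem pow_p_eq_one_of_pgroup_comm (H : TwoP G p r) (t : G) (ht : orderOf t = 2)
    (Pt : Subgroup G) (hP : IsPGroup p Pt) (hPC : Pt ≤ Subgroup.centralizer ({t} : Set G))
    (x : G) (hx : x ∈ Pt) : x ^ p = 1 := by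
  haveI : Fact p.Prime := ⟨H.hp⟩
  obtain ⟨k, hk⟩ := (IsPGroup.iff_orderOf.mp hP) ⟨x, hx⟩
  rw [Subgroup.orderOf_mk] at hk
  have hdvd : orderOf x ∣ 2 * p :=
    orderOf_dvd_two_mul_of_comm_invol H t ht x (comm_of_mem_centralizer_singleton (hPC hx))
  have hodd : Nat.Coprime (orderOf x) 2 := by
    rw [hk]
    apply Nat.Coprime.pow_left
    rw [Nat.coprime_primes H.hp Nat.prime_two]
    exact H.hp2
  have : orderOf x ∣ p := by
    have := hodd.dvd_of_dvd_mul_left hdvd
    exact this
  exact orderOf_dvd_iff_pow_eq_one.mp this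

theorem orderOf_eq_p_of_mem (H : TwoP G p r) (t : G) (ht : orderOf t = 2)
    (Pt : Subgroup G) (hP : IsPGroup p Pt) (hPC : Pt ≤ Subgroup.centralizer ({t} : Set G))
    (x : G) (hx : x ∈ Pt) (hx1 : x ≠ 1) : orderOf x = p := by
  haveI : Fact p.Prime := ⟨H.hp⟩
  exact orderOf_eq_prime (pow_p_eq_one_of_pgroup_comm H t ht Pt hP hPC x hx) hx1

/-- characterisation of `Pt`. -/
theorem mem_pt_iff (H : TwoP G p r) (t : G) (ht : orderOf t = 2)
    (Pt : Subgroup G) (hP : IsPGroup p Pt) (hPC : Pt ≤ Subgroup.centralizer ({t} : Set G))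
    (hPall : ∀ x : G, orderOf x = p → x * t = t * x → x ∈ Pt) (c : G) :
    c ∈ Pt ↔ c * t = t * c ∧ c ^ p = 1 := by
  haveI : Fact p.Prime := ⟨H.hp⟩
  constructor
  · intro hc
    exact ⟨comm_of_mem_centralizer_singleton (hPC hc),
      pow_p_eq_one_of_pgroup_comm H t ht Pt hP hPC c hc⟩
  · rintro ⟨h1, h2⟩
    by_cases hc1 : c = 1
    · rw [hc1]; exact Pt.one_mem
    · exact hPall c (orderOf_eq_prime h2 hc1) h1

/-- `t * x` has order `2 * p`, and its powers recover `t` and `x`. -/
theorem orderOf_t_mul (H : TwoP G p r) (t x : G) (ht : orderOf t = 2) (hx : orderOf x = p)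
    (hc : x * t = t * x) : orderOf (t * x) = 2 * p := by
  have hcm : Commute t x := hc.symm
  have := hcm.orderOf_mul_eq_mul_orderOf_of_coprime (by
    rw [ht, hx, Nat.coprime_primes Nat.prime_two H.hp]; exact fun h => H.hp2 h.symm)
  rw [this, ht, hx]

theorem t_mul_pow_p (H : TwoP G p r) (t x : G) (ht : orderOf t = 2) (hx : x ^ p = 1)
    (hc : x * t = t * x) : (t * x) ^ p = t := by
  have hcm : Commute t x := hc.symm
  rw [hcm.mul_pow, hx, mul_one]
  have hodd : Odd p := H.hp.odd_of_ne_two H.hp2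
  obtain ⟨k, hk⟩ := hodd
  have ht2 : t ^ 2 = 1 := by rw [← ht]; exact pow_orderOf_eq_one t
  rw [hk, pow_succ, pow_mul, ht2, one_pow, one_mul]

theorem t_mul_pow_p_succ (H : TwoP G p r) (t x : G) (ht : orderOf t = 2) (hx : x ^ p = 1)
    (hc : x * t = t * x) : (t * x) ^ (p + 1) = x := by
  have hcm : Commute t x := hc.symm
  rw [hcm.mul_pow, pow_succ x, hx, one_mul]
  have hodd : Odd p := H.hp.odd_of_ne_two H.hp2
  obtain ⟨k, hk⟩ := hodd
  have ht2 : t ^ 2 = 1 := by rw [← ht]; exact pow_orderOf_eq_one t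
  have : p + 1 = 2 * (k + 1) := by omega
  rw [this, pow_mul, ht2, one_pow, one_mul]

-- T10
theorem case1_abelian (H : TwoP G p r) (t : G) (ht : orderOf t = 2)
    (Pt : Subgroup G) (hP : IsPGroup p Pt)
    (hPC : Pt ≤ Subgroup.centralizer ({t} : Set G))
    (hPn : ∀ c ∈ Subgroup.centralizer ({t} : Set G), ∀ x ∈ Pt, c * x * c⁻¹ ∈ Pt)
    (hPall : ∀ x : G, orderOf x = p → x * t = t * x → x ∈ Pt) :
    ∀ x ∈ Pt, ∀ y ∈ Pt, x * y = y * x := by
  classical
  haveI : Fact p.Prime := ⟨H.hp⟩
  by_cases htriv : Pt = ⊥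
  · intro x hx y hy
    rw [htriv, Subgroup.mem_bot] at hx hy
    rw [hx, hy]
  -- a nontrivial central element
  haveI : Nontrivial Pt := (Subgroup.nontrivial_iff_ne_bot Pt).mpr htriv
  haveI : Finite Pt := inferInstance
  have hcen := hP.center_nontrivial
  obtain ⟨⟨z, hzc⟩, hz1⟩ := exists_ne (1 : Subgroup.center Pt)
  have hzP : (z : G) ∈ Pt := z.2
  have hz1' : (z : G) ≠ 1 := by
    intro h
    apply hz1
    apply Subtype.ext
    apply Subtype.ext
    exact h
  have hzcomm : ∀ y ∈ Pt, (z : G) * y = y * (z : G) := by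
    intro y hy
    rw [Subgroup.mem_center_iff] at hzc
    have := hzc ⟨y, hy⟩
    have h2 := congrArg (fun w : Pt => (w : G)) this
    simpa using h2.symm
  have hzord : orderOf (z : G) = p := orderOf_eq_p_of_mem H t ht Pt hP hPC z hzP hz1'
  have hzt : (z : G) * t = t * (z : G) := comm_of_mem_centralizer_singleton (hPC hzP)
  -- every nonidentity x in Pt is central
  have key : ∀ x ∈ Pt, x ≠ 1 → ∀ y ∈ Pt, x * y = y * x := by
    intro x hx hx1 y hy
    have hxord : orderOf x = p := orderOf_eq_p_of_mem H t ht Pt hP hPC x hx hx1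
    have hxt : x * t = t * x := comm_of_mem_centralizer_singleton (hPC hx)
    have ho : orderOf (t * (z : G)) = orderOf (t * x) := by
      rw [orderOf_t_mul H t z ht hzord hzt, orderOf_t_mul H t x ht hxord hxt]
    obtain ⟨α, hα⟩ := H.aut (t * (z : G)) (t * x) ho
    have hzp : (z : G) ^ p = 1 := by rw [← hzord]; exact pow_orderOf_eq_one _
    have hxp : x ^ p = 1 := by rw [← hxord]; exact pow_orderOf_eq_one _
    have hαt : α t = t := by
      have h1 : α ((t * (z : G)) ^ p) = (t * x) ^ p := by rw [map_pow, hα]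
      rwa [t_mul_pow_p H t z ht hzp hzt, t_mul_pow_p H t x ht hxp hxt] at h1
    have hαz : α (z : G) = x := by
      have h1 : α ((t * (z : G)) ^ (p + 1)) = (t * x) ^ (p + 1) := by rw [map_pow, hα]
      rwa [t_mul_pow_p_succ H t z ht hzp hzt, t_mul_pow_p_succ H t x ht hxp hxt] at h1
    -- α⁻¹ y ∈ Pt
    have hαinv_t : α.symm t = t := by
      rw [MulEquiv.symm_apply_eq]; exact hαt.symm
    have hy' : α.symm y ∈ Pt := by
      rw [mem_pt_iff H t ht Pt hP hPC hPall]
      have hyc := (mem_pt_iff H t ht Pt hP hPC hPall y).mp hy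
      constructor
      · have := congrArg α.symm hyc.1
        rw [map_mul, map_mul, hαinv_t] at this
        exact this
      · rw [← map_pow, hyc.2, map_one]
    have h1 := hzcomm (α.symm y) hy'
    have h2 := congrArg α h1
    rw [map_mul, map_mul, hαz, MulEquiv.apply_symm_apply] at h2
    exact h2
  intro x hx y hy
  by_cases hx1 : x = 1
  · rw [hx1, one_mul, mul_one]
  · exact key x hx hx1 y hy

end Cfsg.Agent.Lib.Helper2.AO
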