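import Mathlib
import Cfsg.Agent.Lib.Helper1.AODefs
import Cfsg.Agent.Lib.Helper2.AOT10

set_option autoImplicit false
set_option linter.unusedVariables false
set_option linter.unusedSectionVars false
set_option linter.style.longLine false
set_option linter.style.haveILetI false

open Cfsg.Agent.Lib.Helper1.AO

universe u

namespace Cfsg.Agent.Lib.Helper2.AO

variable {G : Type u} [Group G] [Finite G] {p r : ℕ}

/-- an element lying in a `p`-subgroup and a 2-subgroup (`p` odd) is trivial. -/
theorem eq_one_of_mem_pgroup_of_mem_two_group (hp : p.Prime) (hp2 : p ≠ 2)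
    (Pt S : Subgroup G) (hP : IsPGroup p Pt) (hS : IsPGroup 2 S) (x : G) (hxP : x ∈ Pt)
    (hxS : x ∈ S) : x = 1 := by
  haveI : Fact p.Prime := ⟨hp⟩
  obtain ⟨k, hk⟩ := (IsPGroup.iff_orderOf.mp hP) ⟨x, hxP⟩
  obtain ⟨m, hm⟩ := (IsPGroup.iff_orderOf.mp hS) ⟨x, hxS⟩
  rw [Subgroup.orderOf_mk] at hk hm
  have hcop : Nat.Coprime (p ^ k) (2 ^ m) := by
    apply Nat.Coprime.pow
    rw [Nat.coprime_primes hp Nat.prime_two]; exact hp2
  rw [← hk, ← hm] at hcop
  have : orderOf x = 1 := by simpa using hcop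
  exact orderOf_eq_one_iff.mp this

-- T9
theorem case1_card (H : TwoP G p r) (S : Sylow 2 G) (t : G) (ht : orderOf t = 2)
    (hts : t ∈ (S : Subgroup G)) (Pt : Subgroup G) (hP : IsPGroup p Pt)
    (hPC : Pt ≤ Subgroup.centralizer ({t} : Set G))
    (hPn : ∀ c ∈ Subgroup.centralizer ({t} : Set G), ∀ x ∈ Pt, c * x * c⁻¹ ∈ Pt)
    (hPall : ∀ x : G, orderOf x = p → x * t = t * x → x ∈ Pt) :
    cz t = Nat.card (S : Subgroup G) * Nat.card Pt ∧ com p t + 1 = Nat.card Pt ∧
      ∀ c : G, c * t = t * c → ∃ u ∈ Pt, ∃ s ∈ (S : Subgroup G), c = u * s := by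
  classical
  haveI : Fact p.Prime := ⟨H.hp⟩
  haveI : Fact (2 : ℕ).Prime := ⟨Nat.prime_two⟩
  have hS2 := sq_eq_one_of_mem_sylow_two H S
  have hSab := comm_of_mem_sylow_two H S
  set C : Subgroup G := Subgroup.centralizer ({t} : Set G) with hC
  have hSC : (S : Subgroup G) ≤ C := by
    intro s hs
    exact mem_centralizer_singleton_of_comm (hSab s hs t hts)
  -- subgroups of C
  set PtC : Subgroup C := Pt.subgroupOf C with hPtC
  set SC : Subgroup C := (S : Subgroup G).subgroupOf C with hSCdef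
  have hcardPtC : Nat.card PtC = Nat.card Pt :=
    Nat.card_congr (Subgroup.subgroupOfEquivOfLe hPC).toEquiv
  have hcardSC : Nat.card SC = Nat.card (S : Subgroup G) :=
    Nat.card_congr (Subgroup.subgroupOfEquivOfLe hSC).toEquiv
  haveI hPtCn : PtC.Normal := by
    constructor
    intro n hn g
    rw [hPtC, Subgroup.mem_subgroupOf] at hn ⊢
    have := hPn g.1 g.2 n.1 hn
    simpa using this
  -- the quotient is a 2-group
  have hsq : ∀ c : C, c ^ 2 ∈ PtC := by
    intro c
    rw [hPtC, Subgroup.mem_subgroupOf]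
    have hct : (c : G) * t = t * (c : G) := comm_of_mem_centralizer_singleton c.2
    have hdvd : orderOf (c : G) ∣ 2 * p := orderOf_dvd_two_mul_of_comm_invol H t ht c hct
    have hpow : ((c : G) ^ 2) ^ p = 1 := by
      rw [← pow_mul]; exact orderOf_dvd_iff_pow_eq_one.mp hdvd
    have hc2t : (c : G) ^ 2 * t = t * (c : G) ^ 2 := by
      have : Commute (c : G) t := hct
      exact (this.pow_left 2)
    have : ((c ^ 2 : C) : G) = (c : G) ^ 2 := by simp
    rw [this]
    exact (mem_pt_iff H t ht Pt hP hPC hPall _).mpr ⟨hc2t, hpow⟩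
  have hQ : IsPGroup 2 (C ⧸ PtC) := by
    intro q
    refine ⟨1, ?_⟩
    induction q using QuotientGroup.induction_on with
    | H c =>
      rw [pow_one, ← QuotientGroup.mk_pow, QuotientGroup.eq_one_iff]
      exact hsq c
  obtain ⟨k, hk⟩ := hQ.exists_card_eq
  have hcardC : Nat.card C = Nat.card Pt * 2 ^ k := by
    rw [Subgroup.card_eq_card_quotient_mul_card_subgroup PtC, hk, hcardPtC, mul_comm]
  obtain ⟨a, ha⟩ := S.2.exists_card_eq
  obtain ⟨b, hb⟩ := hP.exists_card_eq
  -- |S| = 2 ^ k
  have hSk : Nat.card (S : Subgroup G) = 2 ^ k := by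
    apply Nat.dvd_antisymm
    · have h1 : Nat.card SC ∣ Nat.card C := Subgroup.card_subgroup_dvd_card SC
      rw [hcardSC, hcardC] at h1
      have hcop : Nat.Coprime (Nat.card (S : Subgroup G)) (Nat.card Pt) := by
        rw [ha, hb]
        apply Nat.Coprime.pow
        rw [Nat.coprime_primes Nat.prime_two H.hp]; exact fun h => H.hp2 h.symm
      exact hcop.dvd_of_dvd_mul_left h1
    · apply S.pow_dvd_card_of_pow_dvd_card
      have h1 : Nat.card C ∣ Nat.card G := Subgroup.card_subgroup_dvd_card C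
      rw [hcardC] at h1
      exact dvd_trans (Dvd.intro_left _ rfl) h1
  have hcz : cz t = Nat.card (S : Subgroup G) * Nat.card Pt := by
    unfold cz
    rw [← hC, hcardC, hSk, mul_comm]
  refine ⟨hcz, ?_, ?_⟩
  · -- com p t + 1 = |Pt|
    unfold com
    have e : {y : G // orderOf y = p ∧ y * t = t * y} ≃ {x : Pt // x ≠ 1} :=
      { toFun := fun y => ⟨⟨y.1, hPall y.1 y.2.1 y.2.2⟩, by
          intro h
          have h1 : y.1 = 1 := congrArg (fun w : Pt => (w : G)) h
          have h2 := y.2.1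
          rw [h1, orderOf_one] at h2
          exact H.hp.one_lt.ne h2⟩
        invFun := fun x => ⟨x.1.1, by
          refine ⟨orderOf_eq_p_of_mem H t ht Pt hP hPC x.1.1 x.1.2 ?_,
            comm_of_mem_centralizer_singleton (hPC x.1.2)⟩
          intro h
          apply x.2
          exact Subtype.ext h⟩
        left_inv := fun y => rfl
        right_inv := fun x => rfl }
    rw [Nat.card_congr e]
    have h1 : Nat.card {x : Pt // x ≠ 1} = Nat.card Pt - 1 := by
      haveI : Fintype Pt := Fintype.ofFinite Pt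
      rw [Nat.card_eq_fintype_card, Nat.card_eq_fintype_card]
      exact Fintype.card_subtype_compl (fun x : Pt => x = 1) |>.trans (by simp)
    rw [h1]
    have : 0 < Nat.card Pt := Nat.card_pos
    omega
  · -- decomposition
    have hcomp : Subgroup.IsComplement' PtC SC := by
      apply Subgroup.isComplement'_of_coprime
      · rw [hcardPtC, hcardSC, hcardC, hSk]
      · rw [hcardPtC, hcardSC, ha, hb]
        apply Nat.Coprime.pow
        rw [Nat.coprime_primes H.hp Nat.prime_two]; exact H.hp2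
    intro c hc
    have hcC : c ∈ C := mem_centralizer_singleton_of_comm hc
    obtain ⟨⟨u, s⟩, hus, -⟩ := (Subgroup.isComplement_iff_existsUnique.mp hcomp) ⟨c, hcC⟩
    refine ⟨u.1.1, ?_, s.1.1, ?_, ?_⟩
    · have hu : u.1 ∈ Pt.subgroupOf C := u.2
      exact Subgroup.mem_subgroupOf.mp hu
    · have hs : s.1 ∈ (S : Subgroup G).subgroupOf C := s.2
      exact Subgroup.mem_subgroupOf.mp hs
    · have := congrArg (fun w : C => (w : G)) hus
      simpa using this.symm

end Cfsg.Agent.Lib.Helper2.AO
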