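import Mathlib
import Cfsg.Agent.Lib.Helper1.AODefs
import Cfsg.Agent.Lib.Helper2.AOT10
import Cfsg.Agent.Lib.Helper2.AOT9

set_option autoImplicit false
set_option linter.unusedVariables false
set_option linter.unusedSectionVars false
set_option linter.style.longLine false
set_option linter.style.haveILetI false

open Cfsg.Agent.Lib.Helper1.AO

universe u

namespace Cfsg.Agent.Lib.Helper2.AO

variable {G : Type u} [Group G] [Finite G] {p r : ℕ}

-- T11
theorem case1_const (H : TwoP G p r) (S : Sylow 2 G) (t : G) (ht : orderOf t = 2)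
    (hts : t ∈ (S : Subgroup G)) (Pt : Subgroup G) (hP : IsPGroup p Pt)
    (hPC : Pt ≤ Subgroup.centralizer ({t} : Set G))
    (hPn : ∀ c ∈ Subgroup.centralizer ({t} : Set G), ∀ x ∈ Pt, c * x * c⁻¹ ∈ Pt)
    (hPall : ∀ x : G, orderOf x = p → x * t = t * x → x ∈ Pt)
    (x : G) (hx : x ∈ Pt) (hx1 : x ≠ 1) :
    Nat.card {s : G // s ∈ (S : Subgroup G) ∧ s * x = x * s} * Nat.card Pt = cz (t * x) := by
  classical
  haveI : Fact p.Prime := ⟨H.hp⟩
  have hS2 := sq_eq_one_of_mem_sylow_two H S
  have hSab := comm_of_mem_sylow_two H S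
  obtain ⟨-, -, hdec⟩ := case1_card H S t ht hts Pt hP hPC hPn hPall
  have hab := case1_abelian H t ht Pt hP hPC hPn hPall
  have hxord : orderOf x = p := orderOf_eq_p_of_mem H t ht Pt hP hPC x hx hx1
  have hxp : x ^ p = 1 := by rw [← hxord]; exact pow_orderOf_eq_one _
  have hxt : x * t = t * x := comm_of_mem_centralizer_singleton (hPC hx)
  unfold cz
  rw [← Nat.card_prod]
  let f : {s : G // s ∈ (S : Subgroup G) ∧ s * x = x * s} × Pt →
      Subgroup.centralizer ({t * x} : Set G) := fun q =>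
    ⟨q.2.1 * q.1.1, by
      apply mem_centralizer_singleton_of_comm
      have hut : Commute (q.2.1 : G) t := comm_of_mem_centralizer_singleton (hPC q.2.2)
      have hux : Commute (q.2.1 : G) x := hab _ q.2.2 x hx
      have hst : Commute (q.1.1 : G) t := hSab _ q.1.2.1 t hts
      have hsx : Commute (q.1.1 : G) x := q.1.2.2
      exact ((hut.mul_right hux).mul_left (hst.mul_right hsx))⟩
  apply Nat.card_congr
  apply Equiv.ofBijective f
  constructor
  · -- injective
    rintro ⟨⟨s, hs, hsx⟩, ⟨u, hu⟩⟩ ⟨⟨s', hs', hsx'⟩, ⟨u', hu'⟩⟩ hq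
    have hq' : u * s = u' * s' := congrArg (fun w : Subgroup.centralizer ({t * x} : Set G) => (w : G)) hq
    have hkey : u'⁻¹ * u = s' * s⁻¹ := by
      have : u'⁻¹ * (u * s) * s⁻¹ = u'⁻¹ * (u' * s') * s⁻¹ := by rw [hq']
      simpa [mul_assoc] using this
    have hmemP : u'⁻¹ * u ∈ Pt := Pt.mul_mem (Pt.inv_mem hu') hu
    have hmemS : u'⁻¹ * u ∈ (S : Subgroup G) := by
      rw [hkey]; exact (S : Subgroup G).mul_mem hs' ((S : Subgroup G).inv_mem hs)
    have h1 := eq_one_of_mem_pgroup_of_mem_two_group H.hp H.hp2 Pt (S : Subgroup G) hP S.2 _ hmemP hmemS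
    have huu : u = u' := by
      have : u' * (u'⁻¹ * u) = u' * 1 := by rw [h1]
      simpa using this
    have hss : s = s' := by
      rw [h1] at hkey
      have : s' * s⁻¹ * s = 1 * s := by rw [← hkey]
      simpa using this.symm
    subst huu; subst hss
    rfl
  · -- surjective
    rintro ⟨c, hc⟩
    have hctx : c * (t * x) = (t * x) * c := comm_of_mem_centralizer_singleton hc
    have hcm : Commute c (t * x) := hctx
    have hct : c * t = t * c := by
      have := hcm.pow_right p
      rwa [t_mul_pow_p H t x ht hxp hxt] at this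
    have hcx : c * x = x * c := by
      have := hcm.pow_right (p + 1)
      rwa [t_mul_pow_p_succ H t x ht hxp hxt] at this
    obtain ⟨u, hu, s, hs, hcus⟩ := hdec c hct
    have hux : Commute u x := hab u hu x hx
    have hsx : s * x = x * s := by
      have hs_eq : s = u⁻¹ * c := by rw [hcus]; simp
      have h1 : Commute (u⁻¹ * c) x := (hux.inv_left).mul_left hcx
      rw [hs_eq]; exact h1
    refine ⟨⟨⟨s, hs, hsx⟩, ⟨u, hu⟩⟩, ?_⟩
    apply Subtype.ext
    exact hcus.symm

end Cfsg.Agent.Lib.Helper2.AO
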