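import Mathlib
import Cfsg.Agent.Lib.Helper1.AODefs
import Cfsg.Agent.Lib.Helper4.AOG1
import Cfsg.Agent.Lib.Helper2.AOT10
import Cfsg.Agent.Lib.Helper2.AOT9
import Cfsg.Agent.Lib.Helper2.AOT11

set_option autoImplicit false
set_option linter.unusedVariables false
set_option linter.unusedSectionVars false
set_option linter.style.longLine false
set_option linter.style.haveILetI false

open Cfsg.Agent.Lib.Helper1.AO

universe u

namespace Cfsg.Agent.Lib.Helper2.AO

variable {G : Type u} [Group G] [Finite G] {p r : ℕ}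

-- T12
theorem case1_half (H : TwoP G p r) (S : Sylow 2 G) (t : G) (ht : orderOf t = 2)
    (hts : t ∈ (S : Subgroup G)) (Pt : Subgroup G) (hP : IsPGroup p Pt)
    (hPC : Pt ≤ Subgroup.centralizer ({t} : Set G))
    (hPn : ∀ c ∈ Subgroup.centralizer ({t} : Set G), ∀ x ∈ Pt, c * x * c⁻¹ ∈ Pt)
    (hPall : ∀ x : G, orderOf x = p → x * t = t * x → x ∈ Pt)
    (x : G) (hx : x ∈ Pt) (hx1 : x ≠ 1) :
    Nat.card (S : Subgroup G) ≤ 2 * Nat.card {s : G // s ∈ (S : Subgroup G) ∧ s * x = x * s} := by
  classical
  haveI : Fact p.Prime := ⟨H.hp⟩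
  have hS2 := sq_eq_one_of_mem_sylow_two H S
  have hSab := comm_of_mem_sylow_two H S
  have hab := case1_abelian H t ht Pt hP hPC hPn hPall
  have hxord : orderOf x = p := orderOf_eq_p_of_mem H t ht Pt hP hPC x hx hx1
  have hxt : x * t = t * x := comm_of_mem_centralizer_singleton (hPC hx)
  have hPtpos : 0 < Nat.card Pt := Nat.card_pos
  -- the cardinality of C_S(y) is constant
  have hconst : ∀ y ∈ Pt, y ≠ 1 →
      Nat.card {s : G // s ∈ (S : Subgroup G) ∧ s * y = y * s} =
        Nat.card {s : G // s ∈ (S : Subgroup G) ∧ s * x = x * s} := by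
    intro y hy hy1
    have h1 := case1_const H S t ht hts Pt hP hPC hPn hPall y hy hy1
    have h2 := case1_const H S t ht hts Pt hP hPC hPn hPall x hx hx1
    have hyord : orderOf y = p := orderOf_eq_p_of_mem H t ht Pt hP hPC y hy hy1
    have hyt : y * t = t * y := comm_of_mem_centralizer_singleton (hPC hy)
    have ho : orderOf (t * y) = orderOf (t * x) := by
      rw [orderOf_t_mul H t y ht hyord hyt, orderOf_t_mul H t x ht hxord hxt]
    have h3 := Cfsg.Agent.Lib.Helper4.AO.cz_eq H.aut ho
    rw [← h1, ← h2] at h3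
    exact Nat.eq_of_mul_eq_mul_right hPtpos h3
  -- inverse of an element of S
  have hSinv : ∀ s ∈ (S : Subgroup G), s⁻¹ = s := by
    intro s hs
    have := hS2 s hs
    rw [pow_two] at this
    exact inv_eq_of_mul_eq_one_left this
  -- each s ∈ S centralizes or inverts x
  have hdich : ∀ s ∈ (S : Subgroup G), s * x = x * s ∨ s * x * s⁻¹ = x⁻¹ := by
    intro s hs
    by_cases hsx : s * x = x * s
    · exact Or.inl hsx
    right
    have hsC : s ∈ Subgroup.centralizer ({t} : Set G) :=
      mem_centralizer_singleton_of_comm (hSab s hs t hts)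
    set y := s * x * s⁻¹ with hy
    have hyP : y ∈ Pt := hPn s hsC x hx
    by_contra hne
    have hu1 : x * y ≠ 1 := by
      intro h
      apply hne
      exact (eq_inv_of_mul_eq_one_right h)
    have huP : x * y ∈ Pt := Pt.mul_mem hx hyP
    have hcard := hconst (x * y) huP hu1
    -- C_S(x) ⊂ C_S(x*y)
    have hsub : {s' : G | s' ∈ (S : Subgroup G) ∧ s' * x = x * s'} ⊂
        {s' : G | s' ∈ (S : Subgroup G) ∧ s' * (x * y) = (x * y) * s'} := by
      rw [Set.ssubset_iff_of_subset]
      · refine ⟨s, ⟨hs, ?_⟩, ?_⟩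
        · -- s commutes with x * y
          have hsi := hSinv s hs
          have h1 : s * y * s⁻¹ = x := by
            rw [hy, hsi]
            have hss : s * s = 1 := by have := hS2 s hs; rwa [pow_two] at this
            calc s * (s * x * s) * s = (s * s) * x * (s * s) := by simp [mul_assoc]
              _ = x := by rw [hss]; simp
          have h2 : s * (x * y) * s⁻¹ = y * x := by
            calc s * (x * y) * s⁻¹ = (s * x * s⁻¹) * (s * y * s⁻¹) := by simp [mul_assoc]
              _ = y * x := by rw [h1]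
          have h3 : y * x = x * y := hab y hyP x hx
          rw [h3] at h2
          have : s * (x * y) * s⁻¹ * s = (x * y) * s := by rw [h2]
          simpa [mul_assoc] using this
        · intro hmem
          exact hsx hmem.2
      · intro s' hs'
        refine ⟨hs'.1, ?_⟩
        have hs'x := hs'.2
        have hs's : s' * s = s * s' := hSab s' hs'.1 s hs
        have hs'si : s' * s⁻¹ = s⁻¹ * s' := by
          rw [hSinv s hs]; exact hs's
        have hs'y : s' * y = y * s' := by
          rw [hy]
          calc s' * (s * x * s⁻¹) = (s' * s) * x * s⁻¹ := by simp [mul_assoc]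
            _ = s * (s' * x) * s⁻¹ := by rw [hs's]; simp [mul_assoc]
            _ = s * x * (s' * s⁻¹) := by rw [hs'x]; simp [mul_assoc]
            _ = s * x * s⁻¹ * s' := by rw [hs'si]; simp [mul_assoc]
        calc s' * (x * y) = (s' * x) * y := by simp [mul_assoc]
          _ = x * (s' * y) := by rw [hs'x]; simp [mul_assoc]
          _ = x * y * s' := by rw [hs'y]; simp [mul_assoc]
    have hlt := Set.ncard_lt_ncard hsub (Set.toFinite _)
    rw [← Nat.card_coe_set_eq, ← Nat.card_coe_set_eq] at hlt
    have hc' : Nat.card ↥{s' : G | s' ∈ (S : Subgroup G) ∧ s' * (x * y) = (x * y) * s'} =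
        Nat.card ↥{s' : G | s' ∈ (S : Subgroup G) ∧ s' * x = x * s'} := hcard
    omega
  -- counting
  by_cases hall : ∀ s ∈ (S : Subgroup G), s * x = x * s
  · have : Nat.card (S : Subgroup G) ≤
        Nat.card {s : G // s ∈ (S : Subgroup G) ∧ s * x = x * s} := by
      apply Nat.card_le_card_of_injective
        (fun s : ↥(S : Subgroup G) => (⟨s.1, s.2, hall s.1 s.2⟩ :
          {s : G // s ∈ (S : Subgroup G) ∧ s * x = x * s}))
      intro a b hab'
      apply Subtype.ext
      exact congrArg (fun w : {s : G // s ∈ (S : Subgroup G) ∧ s * x = x * s} => (w : G)) hab'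
    omega
  · push Not at hall
    obtain ⟨s₁, hs₁, hs₁x⟩ := hall
    have hinv₁ : s₁ * x * s₁⁻¹ = x⁻¹ := (hdich s₁ hs₁).resolve_left hs₁x
    have hprod : ∀ s ∈ (S : Subgroup G), ¬ s * x = x * s → (s₁ * s) * x = x * (s₁ * s) := by
      intro s hs hsx
      have hinv : s * x * s⁻¹ = x⁻¹ := (hdich s hs).resolve_left hsx
      have h1 : (s₁ * s) * x * (s₁ * s)⁻¹ = x := by
        calc (s₁ * s) * x * (s₁ * s)⁻¹ = s₁ * (s * x * s⁻¹) * s₁⁻¹ := by simp [mul_assoc]
          _ = s₁ * x⁻¹ * s₁⁻¹ := by rw [hinv]
          _ = (s₁ * x * s₁⁻¹)⁻¹ := by simp [mul_assoc]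
          _ = x := by rw [hinv₁, inv_inv]
      have : (s₁ * s) * x * (s₁ * s)⁻¹ * (s₁ * s) = x * (s₁ * s) := by rw [h1]
      simpa [mul_assoc] using this
    let g : ↥(S : Subgroup G) → Bool × {s : G // s ∈ (S : Subgroup G) ∧ s * x = x * s} := fun s =>
      if h : s.1 * x = x * s.1 then (false, ⟨s.1, s.2, h⟩)
      else (true, ⟨s₁ * s.1, (S : Subgroup G).mul_mem hs₁ s.2, hprod s.1 s.2 h⟩)
    have hg : Function.Injective g := by
      intro a b habg
      by_cases ha : a.1 * x = x * a.1
      · by_cases hb : b.1 * x = x * b.1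
        · simp only [g, ha, hb, dif_pos, Prod.mk.injEq, true_and, Subtype.mk.injEq] at habg
          exact Subtype.ext habg
        · simp only [g, ha, hb, dif_pos, dif_neg, not_false_eq_true, Prod.mk.injEq] at habg
          exact absurd habg.1 (by simp)
      · by_cases hb : b.1 * x = x * b.1
        · simp only [g, ha, hb, dif_pos, dif_neg, not_false_eq_true, Prod.mk.injEq] at habg
          exact absurd habg.1 (by simp)
        · simp only [g, ha, hb, dif_neg, not_false_eq_true, Prod.mk.injEq, true_and,
            Subtype.mk.injEq, mul_right_inj] at habg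
          exact Subtype.ext habg
    have h1 := Nat.card_le_card_of_injective g hg
    rw [Nat.card_prod, Nat.card_eq_fintype_card (α := Bool), Fintype.card_bool] at h1
    exact h1

end Cfsg.Agent.Lib.Helper2.AO
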