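import Mathlib
import Cfsg.Agent.Lib.Helper2.Bar
import Cfsg.Agent.Lib.Helper2.FrattiniSub
import Cfsg.Agent.Lib.Helper1.Coprime
import Cfsg.Agent.Lib.Helper1.CoprimeSylow
import Cfsg.Agent.Lib.Helper2.AbelianCyclic

/-!
# Generation by centralizers for coprime actions of noncyclic abelian groups
-/

set_option autoImplicit false

namespace Cfsg.Agent.Lib.Helper2

open scoped commutatorElement

/-- Abstract averaging lemma: if `(ZMod r)²` acts (through `θ`) on a finite abelian group `V` of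
order prime to `r`, then `V` is generated by the fixed points of `θ 1 0` and of the `θ j 1`. -/
theorem abelian_gen_aux {V : Type*} [CommGroup V] [Finite V] {r : ℕ} [hr : Fact r.Prime]
    (hcop : (Nat.card V).Coprime r) (θ : ZMod r → ZMod r → MulAut V)
    (hθ : ∀ a b a' b', θ (a + a') (b + b') = θ a b * θ a' b') (W : Subgroup V)
    (h0 : ∀ v, θ 1 0 v = v → v ∈ W) (hj : ∀ j : ZMod r, ∀ v, θ j 1 v = v → v ∈ W) (v : V) :
    v ∈ W := by
  classical
  have hθ0 : θ 0 0 = 1 := by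
    have := hθ 0 0 0 0
    rw [add_zero] at this
    exact (mul_eq_left.1 this.symm)
  have happ : ∀ a b a' b' (w : V), θ a b (θ a' b' w) = θ (a + a') (b + b') w := by
    intro a b a' b' w
    rw [hθ]; rfl
  -- σ∞
  set s0 : V := ∏ a : ZMod r, θ a 0 v with hs0
  have hs0W : s0 ∈ W := by
    apply h0
    rw [hs0, map_prod]
    apply Fintype.prod_equiv (Equiv.addLeft (1 : ZMod r))
    intro a
    rw [happ, add_zero]; rfl
  set s : ZMod r → V := fun j => ∏ k : ZMod r, θ (j * k) k v with hs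
  have hsW : ∀ j, s j ∈ W := by
    intro j
    apply hj j
    rw [hs]
    simp only
    rw [map_prod]
    apply Fintype.prod_equiv (Equiv.addLeft (1 : ZMod r))
    intro k
    rw [happ]
    simp only [Equiv.coe_addLeft]
    congr 2
    ring
  set t : V := ∏ k : ZMod r, ∏ a : ZMod r, θ a k v with ht
  have htW : t ∈ W := by
    apply h0
    rw [ht, map_prod]
    apply Finset.prod_congr rfl
    intro k _
    rw [map_prod]
    apply Fintype.prod_equiv (Equiv.addLeft (1 : ZMod r))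
    intro a
    rw [happ, zero_add]; rfl
  -- the identity
  have hid : s0 * ∏ j : ZMod r, s j = v ^ r * t := by
    have h1 : ∏ j : ZMod r, s j = ∏ k : ZMod r, ∏ j : ZMod r, θ (j * k) k v := by
      rw [hs]; exact Finset.prod_comm
    have h2 : ∀ k : ZMod r, k ≠ 0 → ∏ j : ZMod r, θ (j * k) k v = ∏ a : ZMod r, θ a k v := by
      intro k hk
      apply Fintype.prod_equiv (Equiv.mulRight₀ k hk)
      intro j
      rfl
    have h3 : ∏ j : ZMod r, θ (j * 0) 0 v = v ^ r := by
      have : ∀ j : ZMod r, θ (j * 0) 0 v = v := by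
        intro j
        rw [mul_zero, hθ0]; rfl
      rw [Finset.prod_congr rfl (fun j _ => this j), Finset.prod_const, Finset.card_univ,
        ZMod.card]
    rw [h1, Fintype.prod_eq_mul_prod_compl (0 : ZMod r), h3, ht,
      Fintype.prod_eq_mul_prod_compl (0 : ZMod r) (fun k => ∏ a : ZMod r, θ a k v)]
    have h4 : ∏ k ∈ ({0}ᶜ : Finset (ZMod r)), ∏ j : ZMod r, θ (j * k) k v =
        ∏ k ∈ ({0}ᶜ : Finset (ZMod r)), ∏ a : ZMod r, θ a k v := by
      apply Finset.prod_congr rfl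
      intro k hk
      apply h2
      simpa using hk
    rw [h4, ← hs0]
    simp only [mul_left_comm]
  have hvr : v ^ r ∈ W := by
    have : v ^ r = s0 * (∏ j : ZMod r, s j) * t⁻¹ := by
      rw [hid]; simp
    rw [this]
    exact W.mul_mem (W.mul_mem hs0W (Subgroup.prod_mem _ (fun j _ => hsW j))) (W.inv_mem htW)
  have hcop' : r.Coprime (orderOf v) :=
    (Nat.Coprime.coprime_dvd_left (orderOf_dvd_natCard v) hcop).symm
  obtain ⟨m, hm⟩ := exists_pow_eq_self_of_coprime hcop'
  rw [← hm]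
  exact W.pow_mem hvr m

/-- Two commuting elements of order dividing `r` give an action of `(ZMod r)²`. -/
theorem zmod_sq_hom_aux {M : Type*} [Group M] {r : ℕ} [hr : Fact r.Prime] {u w : M}
    (huw : Commute u w) (hu : u ^ r = 1) (hw : w ^ r = 1) (a b a' b' : ZMod r) :
    u ^ (a + a').val * w ^ (b + b').val = (u ^ a.val * w ^ b.val) * (u ^ a'.val * w ^ b'.val) := by
  haveI : NeZero r := ⟨hr.out.ne_zero⟩
  rw [ZMod.val_add, ZMod.val_add, ← pow_eq_pow_mod _ hu, ← pow_eq_pow_mod _ hw, pow_add, pow_add]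
  have h1 : Commute (w ^ b.val) (u ^ a'.val) := (huw.pow_pow a'.val b.val).symm
  calc u ^ a.val * u ^ a'.val * (w ^ b.val * w ^ b'.val)
      = u ^ a.val * (u ^ a'.val * w ^ b.val) * w ^ b'.val := by group
    _ = u ^ a.val * (w ^ b.val * u ^ a'.val) * w ^ b'.val := by rw [h1.eq]
    _ = _ := by group

variable {G : Type*} [Group G]

/-- Generation of an abelian group by centralizers under a coprime `(ZMod r)²`-action,
in ambient form. -/
theorem gen_abelian [Finite G] (H : Subgroup G) [hHc : IsMulCommutative H] {r : ℕ}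
    [hr : Fact r.Prime] (hcop : (Nat.card H).Coprime r) (x y : G)
    (hxH : x ∈ Subgroup.normalizer (H : Set G)) (hyH : y ∈ Subgroup.normalizer (H : Set G))
    (hxy : x * y = y * x) (hx : x ^ r ∈ Subgroup.centralizer (H : Set G))
    (hy : y ^ r ∈ Subgroup.centralizer (H : Set G)) (W : Subgroup G)
    (h0 : H ⊓ Subgroup.centralizer {x} ≤ W)
    (hj : ∀ j : ℕ, H ⊓ Subgroup.centralizer {x ^ j * y} ≤ W) : H ≤ W := by
  haveI : NeZero r := ⟨hr.out.ne_zero⟩
  letI : CommGroup H := { (inferInstance : Group H) with mul_comm := fun a b => mul_comm' a b }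
  set xt : Subgroup.normalizer (H : Set G) := ⟨x, hxH⟩ with hxt
  set yt : Subgroup.normalizer (H : Set G) := ⟨y, hyH⟩ with hyt
  set φ := H.normalizerMonoidHom with hφ
  have hker : ∀ g : Subgroup.normalizer (H : Set G),
      (g : G) ∈ Subgroup.centralizer (H : Set G) → φ g = 1 := by
    intro g hg
    rw [← MonoidHom.mem_ker, hφ, Subgroup.normalizerMonoidHom_ker, Subgroup.mem_subgroupOf]
    exact hg
  have hu : φ xt ^ r = 1 := by
    rw [← map_pow]; apply hker; exact hx
  have hw : φ yt ^ r = 1 := by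
    rw [← map_pow]; apply hker; exact hy
  have huw : Commute (φ xt) (φ yt) := by
    have : xt * yt = yt * xt := Subtype.ext hxy
    show φ xt * φ yt = φ yt * φ xt
    rw [← map_mul, ← map_mul, this]
  have happ : ∀ (g : Subgroup.normalizer (H : Set G)) (v : H),
      ((φ g v : H) : G) = (g : G) * v * (g : G)⁻¹ := fun _ _ => rfl
  intro v hv
  have key := abelian_gen_aux (V := H) hcop (fun a b => φ xt ^ a.val * φ yt ^ b.val)
    (fun a b a' b' => zmod_sq_hom_aux huw hu hw a b a' b') (W.subgroupOf H) ?_ ?_ ⟨v, hv⟩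
  · exact Subgroup.mem_subgroupOf.1 key
  · intro v hv
    rw [Subgroup.mem_subgroupOf]
    apply h0
    refine ⟨v.2, ?_⟩
    show (v : G) ∈ Subgroup.centralizer {x}
    rw [Subgroup.mem_centralizer_singleton_iff]
    have h1 : (1 : ZMod r).val = 1 := by
      haveI : Fact (1 < r) := ⟨hr.out.one_lt⟩
      exact ZMod.val_one r
    simp only [h1, pow_one, ZMod.val_zero, pow_zero, mul_one] at hv
    have h2 := congrArg Subtype.val hv
    rw [happ] at h2
    show (v : G) * x = x * (v : G)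
    calc (v : G) * x = (x * v * x⁻¹) * x := by rw [h2]
      _ = x * v := by group
  · intro j v hv
    rw [Subgroup.mem_subgroupOf]
    apply hj j.val
    refine ⟨v.2, ?_⟩
    show (v : G) ∈ Subgroup.centralizer {x ^ j.val * y}
    rw [Subgroup.mem_centralizer_singleton_iff]
    have h1 : (1 : ZMod r).val = 1 := by
      haveI : Fact (1 < r) := ⟨hr.out.one_lt⟩
      exact ZMod.val_one r
    simp only [h1, pow_one] at hv
    rw [← map_pow, ← map_mul] at hv
    have h2 := congrArg Subtype.val hv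
    rw [happ] at h2
    have h3 : ((xt ^ j.val * yt : Subgroup.normalizer (H : Set G)) : G) = x ^ j.val * y := rfl
    rw [h3] at h2
    calc (v : G) * (x ^ j.val * y) = ((x ^ j.val * y) * v * (x ^ j.val * y)⁻¹) * (x ^ j.val * y) := by
          rw [h2]
      _ = (x ^ j.val * y) * v := by group

open Cfsg.Agent.Lib.Helper1 in
/-- Coprime lifting of fixed points of a single element to `N_G(N)/N`. -/
theorem exists_lift_fixed [Finite G] {H N : Subgroup G} (hNH : N ≤ H)
    (hHN : H ≤ Subgroup.normalizer (N : Set G)) {g : G}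
    (hgH : g ∈ Subgroup.normalizer (H : Set G)) (hgN : g ∈ Subgroup.normalizer (N : Set G))
    (hcop : (orderOf g).Coprime (Nat.card H)) {q : QuotNorm N} (hq : q ∈ bar N H)
    (hqg : q * barHom N ⟨g, hgN⟩ = barHom N ⟨g, hgN⟩ * q) :
    ∃ c, ∃ hc : c ∈ Subgroup.normalizer (N : Set G), c ∈ H ∧ c * g = g * c ∧
      barHom N ⟨c, hc⟩ = q := by
  obtain ⟨h, hL, hhH, rfl⟩ := mem_bar.1 hq
  set A : Subgroup G := Subgroup.zpowers g with hA
  have hAH : A ≤ Subgroup.normalizer (H : Set G) := by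
    rw [hA, Subgroup.zpowers_le]; exact hgH
  have hAN : A ≤ Subgroup.normalizer (N : Set G) := by
    rw [hA, Subgroup.zpowers_le]; exact hgN
  have hcopA : (Nat.card A).Coprime (Nat.card H) := by
    rw [hA, Nat.card_zpowers]; exact hcop
  have hsolv : Group.IsSolvable A ∨ Group.IsSolvable H := Or.inl (by rw [hA]; infer_instance)
  have hfix : ∀ a ∈ A, a * h * a⁻¹ * h⁻¹ ∈ N := by
    intro a ha
    obtain ⟨k, rfl⟩ := Subgroup.mem_zpowers_iff.1 ha
    have hk : g ^ k ∈ Subgroup.normalizer (N : Set G) := Subgroup.zpow_mem _ hgN k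
    have hcomm : Commute (barHom N ⟨h, hL⟩) (barHom N ⟨g ^ k, hk⟩) := by
      have : (⟨g ^ k, hk⟩ : Subgroup.normalizer (N : Set G)) = ⟨g, hgN⟩ ^ k := by
        apply Subtype.ext; simp
      rw [this, map_zpow]
      exact Commute.zpow_right hqg k
    have h2 : barHom N (⟨g ^ k, hk⟩ * ⟨h, hL⟩) = barHom N (⟨h, hL⟩ * ⟨g ^ k, hk⟩) := by
      rw [map_mul, map_mul]; exact hcomm.eq.symm
    rw [barHom_eq_iff'] at h2
    have e : g ^ k * h * (g ^ k)⁻¹ * h⁻¹ = (g ^ k * h) * (h * g ^ k)⁻¹ := by group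
    rw [e]; exact h2
  obtain ⟨c, hc, hkc⟩ := coprime_fixed_points_quotient A H hAH hcopA hsolv N hNH hHN hAN h hhH hfix
  refine ⟨c, hHN hc.1, hc.1, ?_, ?_⟩
  · exact (Subgroup.mem_centralizer_iff.1 hc.2 g (Subgroup.mem_zpowers g)).symm
  · rw [eq_comm, barHom_eq_iff]
    exact hkc

/-- Generation of a `p`-group by centralizers under a coprime `(ZMod r)²`-action. -/
theorem gen_pgroup [Finite G] {p : ℕ} [Fact p.Prime] (E H : Subgroup G)
    (hEH : E ≤ Subgroup.normalizer (H : Set G)) (hcop : (Nat.card E).Coprime (Nat.card H))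
    (hH : IsPGroup p H) {r : ℕ} [hr : Fact r.Prime] (hrH : (Nat.card H).Coprime r) (x y : G)
    (hxE : x ∈ E) (hyE : y ∈ E) (hxy : x * y = y * x)
    (hx : x ^ r ∈ Subgroup.centralizer (H : Set G))
    (hy : y ^ r ∈ Subgroup.centralizer (H : Set G)) (W : Subgroup G)
    (h0 : H ⊓ Subgroup.centralizer {x} ≤ W)
    (hj : ∀ j : ℕ, H ⊓ Subgroup.centralizer {x ^ j * y} ≤ W) : H ≤ W := by
  set Φ : Subgroup G := (frattini ↥H).map H.subtype with hΦ
  have hΦH : Φ ≤ H := Subgroup.map_subtype_le _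
  have hNΦ : Subgroup.normalizer (H : Set G) ≤ Subgroup.normalizer (Φ : Set G) :=
    le_normalizer_map_frattini H
  have hHΦ : H ≤ Subgroup.normalizer (Φ : Set G) := Subgroup.le_normalizer.trans hNΦ
  have hEΦ : E ≤ Subgroup.normalizer (Φ : Set G) := hEH.trans hNΦ
  suffices hsuff : H ≤ (W ⊓ H) ⊔ Φ by
    have h1 : (W ⊓ H) ⊔ Φ = H := le_antisymm (sup_le inf_le_right hΦH) hsuff
    have h2 := map_frattini_nongenerating inf_le_right h1
    exact (inf_eq_right.1 h2)
  have hW0 : W ⊓ H ≤ Subgroup.normalizer (Φ : Set G) := inf_le_right.trans hHΦ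
  rw [← bar_le_bar_iff hHΦ hW0]
  haveI : IsMulCommutative (bar Φ H) := isMulCommutative_bar hHΦ (commutator_le_map_frattini hH)
  have hcard : (Nat.card (bar Φ H)).Coprime r :=
    Nat.Coprime.coprime_dvd_left (card_bar_dvd hHΦ) hrH
  have hgcop : ∀ g ∈ E, (orderOf g).Coprime (Nat.card H) := by
    intro g hg
    have : orderOf g ∣ Nat.card E := by
      have := orderOf_dvd_natCard (⟨g, hg⟩ : E)
      rwa [Subgroup.orderOf_mk] at this
    exact Nat.Coprime.coprime_dvd_left this hcop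
  have hnorm : ∀ g (hg : g ∈ E), barHom Φ ⟨g, hEΦ hg⟩ ∈
      Subgroup.normalizer ((bar Φ H : Subgroup (QuotNorm Φ)) : Set (QuotNorm Φ)) := by
    intro g hg
    have h1 : Subgroup.zpowers g ≤ Subgroup.normalizer (H : Set G) := by
      rw [Subgroup.zpowers_le]; exact hEH hg
    exact bar_le_normalizer (N := Φ) h1 (barHom_mem_bar (Subgroup.mem_zpowers g))
  have hcent : ∀ g (hg : g ∈ E), g ^ r ∈ Subgroup.centralizer (H : Set G) →
      barHom Φ ⟨g, hEΦ hg⟩ ^ r ∈
        Subgroup.centralizer ((bar Φ H : Subgroup (QuotNorm Φ)) : Set (QuotNorm Φ)) := by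
    intro g hg hgr
    have hz : Subgroup.zpowers (g ^ r) ≤ Subgroup.normalizer (Φ : Set G) := by
      rw [Subgroup.zpowers_le]; exact Subgroup.pow_mem _ (hEΦ hg) r
    have h1 : ⁅Subgroup.zpowers (g ^ r), H⁆ ≤ Φ := by
      have : ⁅Subgroup.zpowers (g ^ r), H⁆ = ⊥ := by
        rw [Subgroup.commutator_eq_bot_iff_le_centralizer, Subgroup.zpowers_le]
        exact hgr
      rw [this]; exact bot_le
    have h2 := (bar_le_centralizer_iff hz hHΦ).2 h1
    apply h2
    rw [← map_pow]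
    exact barHom_mem_bar (N := Φ) (H := Subgroup.zpowers (g ^ r))
      (x := (⟨g, hEΦ hg⟩ : Subgroup.normalizer (Φ : Set G)) ^ r) (by
        show g ^ r ∈ Subgroup.zpowers (g ^ r)
        exact Subgroup.mem_zpowers _)
  have hlift : ∀ g (hg : g ∈ E), H ⊓ Subgroup.centralizer {g} ≤ W →
      bar Φ H ⊓ Subgroup.centralizer {barHom Φ ⟨g, hEΦ hg⟩} ≤ bar Φ (W ⊓ H) := by
    intro g hg hgW q hq
    have hq2 := Subgroup.mem_centralizer_singleton_iff.1 hq.2
    obtain ⟨c, hc, hcH, hcg, rfl⟩ := exists_lift_fixed hΦH hHΦ (hEH hg) (hEΦ hg) (hgcop g hg)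
      hq.1 hq2
    apply barHom_mem_bar
    have hcC : c ∈ Subgroup.centralizer {g} := by
      rw [Subgroup.mem_centralizer_singleton_iff]
      exact hcg
    exact ⟨hgW ⟨hcH, hcC⟩, hcH⟩
  have hxyE : ∀ j : ℕ, x ^ j * y ∈ E := fun j => E.mul_mem (E.pow_mem hxE j) hyE
  refine gen_abelian (bar Φ H) hcard (barHom Φ ⟨x, hEΦ hxE⟩) (barHom Φ ⟨y, hEΦ hyE⟩)
    (hnorm x hxE) (hnorm y hyE) ?_ (hcent x hxE hx) (hcent y hyE hy) (bar Φ (W ⊓ H))
    (hlift x hxE h0) ?_
  · rw [← map_mul, ← map_mul]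
    congr 1
    exact Subtype.ext hxy
  · intro j
    have := hlift (x ^ j * y) (hxyE j) (hj j)
    have e : barHom Φ ⟨x, hEΦ hxE⟩ ^ j * barHom Φ ⟨y, hEΦ hyE⟩ =
        barHom Φ ⟨x ^ j * y, hEΦ (hxyE j)⟩ := by
      rw [← map_pow, ← map_mul]
      rfl
    rw [e]
    exact this

/-- A subgroup containing a Sylow `p`-subgroup of `H` for every prime `p` contains `H`. -/
theorem le_of_forall_sylow_le [Finite G] {H W : Subgroup G}
    (h : ∀ (p : ℕ) [Fact p.Prime], ∃ P : Sylow p H, (P : Subgroup H).map H.subtype ≤ W) :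
    H ≤ W := by
  have hle : W ⊓ H ≤ H := inf_le_right
  have hdvd : Nat.card H ∣ Nat.card (W ⊓ H : Subgroup G) := by
    rw [← Nat.factorization_prime_le_iff_dvd Nat.card_pos.ne' Nat.card_pos.ne']
    intro p hp
    haveI : Fact p.Prime := ⟨hp⟩
    obtain ⟨P, hP⟩ := h p
    have h1 : Nat.card ((P : Subgroup H).map H.subtype) ∣ Nat.card (W ⊓ H : Subgroup G) :=
      Subgroup.card_dvd_of_le (le_inf hP (Subgroup.map_subtype_le _))
    rw [Subgroup.card_map_of_injective H.subtype_injective, P.card_eq_multiplicity] at h1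
    exact (Nat.Prime.pow_dvd_iff_le_factorization hp Nat.card_pos.ne').1 h1
  have := Subgroup.eq_of_le_of_card_ge hle (Nat.le_of_dvd Nat.card_pos hdvd)
  exact inf_eq_right.1 this

open Cfsg.Agent.Lib.Helper1 in
/-- Generation of a finite group by centralizers under a coprime `(ZMod r)²`-action. -/
theorem gen_general [Finite G] (E H : Subgroup G) [hEc : IsMulCommutative E]
    (hEH : E ≤ Subgroup.normalizer (H : Set G)) (hcop : (Nat.card E).Coprime (Nat.card H))
    {r : ℕ} [hr : Fact r.Prime] (hrH : (Nat.card H).Coprime r) (x y : G)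
    (hxE : x ∈ E) (hyE : y ∈ E)
    (hx : x ^ r ∈ Subgroup.centralizer (H : Set G))
    (hy : y ^ r ∈ Subgroup.centralizer (H : Set G)) (W : Subgroup G)
    (h0 : H ⊓ Subgroup.centralizer {x} ≤ W)
    (hj : ∀ j : ℕ, H ⊓ Subgroup.centralizer {x ^ j * y} ≤ W) : H ≤ W := by
  have hxy : x * y = y * x :=
    congrArg Subtype.val (hEc.is_comm.comm (⟨x, hxE⟩ : E) ⟨y, hyE⟩)
  have hsolv : Group.IsSolvable E ∨ Group.IsSolvable H := Or.inl (by
    letI : CommGroup E := { (inferInstance : Group E) with mul_comm := fun a b => mul_comm' a b }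
    infer_instance)
  apply le_of_forall_sylow_le
  intro p _
  obtain ⟨P, hP⟩ := coprime_exists_invariant_sylow E H hEH hcop hsolv p
  refine ⟨P, ?_⟩
  set P' : Subgroup G := (P : Subgroup H).map H.subtype with hP'
  have hP'H : P' ≤ H := Subgroup.map_subtype_le _
  have hP'p : IsPGroup p P' := P.isPGroup'.map _
  have hdvd : Nat.card P' ∣ Nat.card H := Subgroup.card_dvd_of_le hP'H
  refine gen_pgroup E P' hP (Nat.Coprime.coprime_dvd_right hdvd hcop) hP'p
    (Nat.Coprime.coprime_dvd_left hdvd hrH) x y hxE hyE hxy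
    (Subgroup.centralizer_le hP'H hx) (Subgroup.centralizer_le hP'H hy) W
    ((inf_le_inf_right _ hP'H).trans h0) (fun j => (inf_le_inf_right _ hP'H).trans (hj j))

/-- If `A/D` is not cyclic (for `A` abelian), there are `x, y ∈ A` spanning a `(ZMod r)²`
modulo `D`. -/
theorem exists_noncyclic_pair [Finite G] (A D : Subgroup G) [hAc : IsMulCommutative A]
    (hDA : D ≤ A) (h : ¬ ∃ a ∈ A, D ⊔ Subgroup.zpowers a = A) :
    ∃ r : ℕ, r.Prime ∧ ∃ x ∈ A, ∃ y ∈ A, x ^ r ∈ D ∧ y ^ r ∈ D ∧ x ∉ D ∧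
      ∀ j : ℕ, x ^ j * y ∉ D := by
  letI : CommGroup A := { (inferInstance : Group A) with mul_comm := fun a b => mul_comm' a b }
  set D' : Subgroup A := D.subgroupOf A with hD'
  have hmk : ∀ a : A, (QuotientGroup.mk a : A ⧸ D') = 1 ↔ (a : G) ∈ D := by
    intro a
    rw [QuotientGroup.eq_one_iff, hD', Subgroup.mem_subgroupOf]
  have hnc : ¬ IsCyclic (A ⧸ D') := by
    intro hcyc
    obtain ⟨q, hq⟩ := hcyc.exists_generator
    obtain ⟨a, rfl⟩ := QuotientGroup.mk_surjective q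
    apply h
    refine ⟨a, a.2, le_antisymm (sup_le hDA (by rw [Subgroup.zpowers_le]; exact a.2)) ?_⟩
    intro b hb
    obtain ⟨k, hk⟩ := Subgroup.mem_zpowers_iff.1 (hq (QuotientGroup.mk (⟨b, hb⟩ : A)))
    have h1 : (QuotientGroup.mk ((a ^ k)⁻¹ * ⟨b, hb⟩ : A) : A ⧸ D') = 1 := by
      rw [QuotientGroup.mk_mul, QuotientGroup.mk_inv, QuotientGroup.mk_zpow, hk, inv_mul_cancel]
    rw [hmk] at h1
    have h2 : b = (a : G) ^ k * (((a ^ k)⁻¹ * ⟨b, hb⟩ : A) : G) := by
      simp
    rw [h2]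
    exact Subgroup.mul_mem _
      ((le_sup_right : Subgroup.zpowers (a : G) ≤ D ⊔ Subgroup.zpowers (a : G))
        (Subgroup.zpow_mem _ (Subgroup.mem_zpowers _) k))
      ((le_sup_left : D ≤ D ⊔ Subgroup.zpowers (a : G)) h1)
  obtain ⟨r, hr, hlt⟩ := exists_prime_lt_card_torsionSub hnc
  set T := torsionSub (A ⧸ D') r with hT
  -- a nontrivial element of T
  have hTne : T ≠ ⊥ := by
    intro hbot
    rw [hbot, Subgroup.card_bot] at hlt
    exact absurd hlt (by have := hr.one_lt; omega)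
  obtain ⟨xb, hxbT, hxb1⟩ := (Subgroup.ne_bot_iff_exists_ne_one.1 hTne) |> fun ⟨z, hz⟩ =>
    (⟨(z : A ⧸ D'), z.2, fun h => hz (Subtype.ext h)⟩ :
      ∃ xb : A ⧸ D', xb ∈ T ∧ xb ≠ 1)
  have hxr : xb ^ r = 1 := mem_torsionSub.1 hxbT
  have hzle : Subgroup.zpowers xb ≤ T := by
    rw [Subgroup.zpowers_le]; exact hxbT
  have hzcard : Nat.card (Subgroup.zpowers xb) ≤ r := by
    rw [Nat.card_zpowers]
    exact Nat.le_of_dvd hr.pos (orderOf_dvd_of_pow_eq_one hxr)
  have hex : ∃ yb ∈ T, yb ∉ Subgroup.zpowers xb := by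
    by_contra hcon
    push Not at hcon
    have : T ≤ Subgroup.zpowers xb := hcon
    have := Subgroup.card_le_of_le this
    omega
  obtain ⟨yb, hybT, hyb⟩ := hex
  obtain ⟨x, rfl⟩ := QuotientGroup.mk_surjective xb
  obtain ⟨y, rfl⟩ := QuotientGroup.mk_surjective yb
  refine ⟨r, hr, x, x.2, y, y.2, ?_, ?_, ?_, ?_⟩
  · have := hxr
    rw [← QuotientGroup.mk_pow, hmk] at this
    simpa using this
  · have := mem_torsionSub.1 hybT
    rw [← QuotientGroup.mk_pow, hmk] at this
    simpa using this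
  · intro hx
    apply hxb1
    rw [hmk]; exact hx
  · intro j hj
    apply hyb
    have h1 : (QuotientGroup.mk (x ^ j * y : A) : A ⧸ D') = 1 := by
      rw [hmk]; simpa using hj
    rw [QuotientGroup.mk_mul, QuotientGroup.mk_pow, mul_eq_one_iff_eq_inv'] at h1
    rw [h1]
    exact Subgroup.inv_mem _ (Subgroup.pow_mem _ (Subgroup.mem_zpowers _) j)

end Cfsg.Agent.Lib.Helper2
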