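import Mathlib
import Cfsg.Agent.Lib.Helper2.PGroup

/-!
# Burnside's basis theorem (upper bound): a finite `p`-group `G` with `|G : Φ(G)| ≤ p ^ d` is generated
by at most `d` elements
-/

set_option autoImplicit false

namespace Cfsg.Agent.Lib.Helper2

variable {G : Type*} [Group G]

/-- in a finite `p`-group a proper inclusion of subgroups has relative index at least `p` -/
theorem le_relIndex_of_lt [Finite G] {p : ℕ} [Fact p.Prime] (hG : IsPGroup p G) {H K : Subgroup G}
    (h : H < K) : p ≤ H.relIndex K := by
  have hp : p.Prime := Fact.out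
  have h1 : H.relIndex K ≠ 1 := by
    intro h1
    exact absurd (Subgroup.relIndex_eq_one.mp h1) (not_le_of_gt h)
  have h2 : H.relIndex K ∣ Nat.card K := by
    rw [← card_mul_relIndex h.le]
    exact dvd_mul_left _ _
  obtain ⟨k, hk⟩ := (hG.to_subgroup K).exists_card_eq
  rw [hk] at h2
  obtain ⟨j, -, hj⟩ := (Nat.dvd_prime_pow hp).1 h2
  rw [hj] at h1 ⊢
  rcases Nat.eq_zero_or_pos j with rfl | hj0
  · exact absurd (pow_zero p) h1
  · calc p = p ^ 1 := (pow_one p).symm
      _ ≤ p ^ j := Nat.pow_le_pow_right hp.pos hj0

/-- Burnside's basis theorem, upper bound -/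
theorem exists_generators_of_index_frattini_le [Finite G] {p : ℕ} [Fact p.Prime] (hG : IsPGroup p G)
    {d : ℕ} (hd : (frattini G).index ≤ p ^ d) :
    ∃ S : Finset G, S.card ≤ d ∧ Subgroup.closure (S : Set G) = ⊤ := by
  classical
  have hp : p.Prime := Fact.out
  set Φ := frattini G with hΦ
  have key : ∀ j : ℕ, ∃ S : Finset G, S.card ≤ j ∧
      (Subgroup.closure (S : Set G) ⊔ Φ = ⊤ ∨ p ^ j ≤ Φ.relIndex (Subgroup.closure (S : Set G) ⊔ Φ)) := by
    intro j
    induction j with
    | zero =>
      refine ⟨∅, le_rfl, Or.inr ?_⟩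
      rw [pow_zero]
      have : Φ.relIndex (Subgroup.closure ((∅ : Finset G) : Set G) ⊔ Φ) ≠ 0 := by
        show (Φ.subgroupOf _).index ≠ 0
        exact Subgroup.index_ne_zero_of_finite
      omega
    | succ j ih =>
      obtain ⟨S, hS, hor⟩ := ih
      rcases hor with htop | hidx
      · exact ⟨S, by omega, Or.inl htop⟩
      · by_cases htop : Subgroup.closure (S : Set G) ⊔ Φ = ⊤
        · exact ⟨S, by omega, Or.inl htop⟩
        · obtain ⟨x, -, hx⟩ := SetLike.exists_of_lt (lt_top_iff_ne_top.mpr htop)
          refine ⟨insert x S, (Finset.card_insert_le x S).trans (by omega), Or.inr ?_⟩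
          set K := Subgroup.closure (S : Set G) ⊔ Φ with hK
          set K' := Subgroup.closure ((insert x S : Finset G) : Set G) ⊔ Φ with hK'
          have hKK' : K ≤ K' := by
            apply sup_le_sup_right
            apply Subgroup.closure_mono
            intro y hy
            exact Finset.mem_coe.mpr (Finset.mem_insert_of_mem hy)
          have hxK' : x ∈ K' :=
            Subgroup.mem_sup_left (Subgroup.subset_closure
              (Finset.mem_coe.mpr (Finset.mem_insert_self x S)))
          have hlt : K < K' := lt_of_le_of_ne hKK' (fun heq => hx (heq ▸ hxK'))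
          have h1 := le_relIndex_of_lt hG hlt
          have h2 : Φ.relIndex K * K.relIndex K' = Φ.relIndex K' :=
            Subgroup.relIndex_mul_relIndex _ _ _ le_sup_right hKK'
          rw [← h2, pow_succ]
          exact Nat.mul_le_mul hidx h1
  obtain ⟨S, hS, hor⟩ := key d
  refine ⟨S, hS, ?_⟩
  have htop : Subgroup.closure (S : Set G) ⊔ Φ = ⊤ := by
    rcases hor with htop | hidx
    · exact htop
    · set K := Subgroup.closure (S : Set G) ⊔ Φ with hK
      have h1 : Φ.relIndex K * K.index = Φ.index := Subgroup.relIndex_mul_index le_sup_right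
      have h2 : K.index ≠ 0 := Subgroup.index_ne_zero_of_finite
      have h3 : K.index = 1 := by
        by_contra h3
        have h4 : 2 ≤ K.index := by omega
        have h5 : Φ.relIndex K * 2 ≤ Φ.index := h1 ▸ Nat.mul_le_mul_left _ h4
        have h6 : 0 < p ^ d := pow_pos hp.pos d
        omega
      exact Subgroup.index_eq_one.mp h3
  exact frattini_nongenerating htop

end Cfsg.Agent.Lib.Helper2
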