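import Mathlib
import Cfsg.Prelude.Def_ChevStructure
import Cfsg.Agent.Lib.Helper1.AutDefs
import Cfsg.Agent.Lib.Helper5.ChevRankOne
import Cfsg.Agent.Lib.Helper5.StPres.NAct
import Cfsg.Agent.Lib.Helper7.Ch2G4

set_option autoImplicit false
set_option linter.style.haveILetI false

/-!
S2156 farm, unit C3: the rank-two relation between the field automorphisms attached to two
fundamental roots.
-/

namespace Cfsg.Agent.Lib.Helper2.ChevAut

open Cfsg Cfsg.Lie Cfsg.Agent.Lib.Helper5.ChevStruct Cfsg.Agent.Lib.Helper5.ChevSym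
  Cfsg.Agent.Lib.Helper1.ChevAut

variable {F : Type*} [Field F]

/-- **C3** rank two: compare `σ_i` and `σ_k` through `h_{p_i}(t) x_{p_k}(u) h_{p_i}(t)⁻¹`. -/
theorem rank_two_rel (D : ChevalleyDatum) (hD : D ∈ Seven) (θ : ↥(D.group F) ≃* ↥(D.group F))
    (i k i' k' : ℕ) (hi : i < D.rank) (hk : k < D.rank) (hi' : i' < D.rank) (hk' : k' < D.rank)
    (ck : Fˣ) (σi σk : F ≃+* F)
    (hh : ∀ t, t ≠ 0 → ∀ g : ↥(D.group F), (g : GL D.Idx F) = hGL D hD (D.simple i) t →
      (θ g : GL D.Idx F) = hGL D hD (D.simple i') (σi t))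
    (hx : ∀ t, θ (xG D hD (D.simple k) t) = xG D hD (D.simple k') ((ck : F) * σk t)) :
    ∀ t : F, t ≠ 0 → (σi t) ^ (D.cartan i' (D.simple k')) = (σk t) ^ (D.cartan i (D.simple k)) := by
  intro t ht
  have hσt : σi t ≠ 0 := fun h => ht ((map_eq_zero σi).1 h)
  set hg : ↥(D.group F) := ⟨hGL D hD (D.simple i) t, wordGL_mem_group D hD _⟩ with hhg
  have h1 : (θ hg : GL D.Idx F) = hGL D hD (D.simple i') (σi t) := hh t ht hg rfl
  -- the relation in `G`
  have hrel : hg * xG D hD (D.simple k) 1 * hg⁻¹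
      = xG D hD (D.simple k) (t ^ (D.cartan i (D.simple k)) * 1) := by
    apply Subtype.ext
    show hGL D hD (D.simple i) t * xGL D hD (D.simple k) 1 * (hGL D hD (D.simple i) t)⁻¹ = _
    exact Cfsg.Agent.Lib.Helper7.Ch2G.hGL_conj_x D hD i hi t ht (D.simple k) 1
  have hθ := congrArg θ hrel
  rw [map_mul, map_mul, map_inv, hx, hx] at hθ
  have hθ' := congrArg (fun g : ↥(D.group F) => (g : GL D.Idx F)) hθ
  simp only [Subgroup.coe_mul, Subgroup.coe_inv, xG_coe] at hθ'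
  rw [h1, Cfsg.Agent.Lib.Helper7.Ch2G.hGL_conj_x D hD i' hi' (σi t) hσt] at hθ'
  have hθ'' := congrArg (fun g : GL D.Idx F => (g : Matrix D.Idx D.Idx F)) hθ'
  simp only [xGL_val] at hθ''
  have hp := Cfsg.Agent.Lib.Helper5.StPres.x_param_inj D hD (D.simple k')
    (simple_lt D hD k' hk') _ _ hθ''
  rw [map_one, mul_one, mul_one, map_zpow₀] at hp
  have hck : (ck : F) ≠ 0 := ck.ne_zero
  have : (ck : F) * (σi t) ^ (D.cartan i' (D.simple k'))
      = (ck : F) * (σk t) ^ (D.cartan i (D.simple k)) := by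
    rw [← hp]; ring
  exact mul_left_cancel₀ hck this

end Cfsg.Agent.Lib.Helper2.ChevAut
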