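import Mathlib
import Cfsg.Agent.Lib.Helper1.Coprime

set_option autoImplicit false

namespace Cfsg.Agent.Lib.Helper2

open Cfsg.Agent.Lib.Helper1

variable {G : Type*} [Group G]

/-- Elements of the join of two elementwise commuting subgroups are products. -/
theorem exists_mul_of_mem_sup_of_commute {W M : Subgroup G}
    (h : ∀ w ∈ W, ∀ m ∈ M, w * m = m * w) {x : G} (hx : x ∈ W ⊔ M) :
    ∃ w ∈ W, ∃ m ∈ M, x = w * m := by
  let K : Subgroup G :=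
    { carrier := {x | ∃ w ∈ W, ∃ m ∈ M, x = w * m}
      one_mem' := ⟨1, W.one_mem, 1, M.one_mem, by simp⟩
      mul_mem' := by
        rintro _ _ ⟨w₁, hw₁, m₁, hm₁, rfl⟩ ⟨w₂, hw₂, m₂, hm₂, rfl⟩
        refine ⟨w₁ * w₂, W.mul_mem hw₁ hw₂, m₁ * m₂, M.mul_mem hm₁ hm₂, ?_⟩
        calc w₁ * m₁ * (w₂ * m₂) = w₁ * (m₁ * w₂) * m₂ := by group
          _ = w₁ * (w₂ * m₁) * m₂ := by rw [h w₂ hw₂ m₁ hm₁]
          _ = w₁ * w₂ * (m₁ * m₂) := by group
      inv_mem' := by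
        rintro _ ⟨w, hw, m, hm, rfl⟩
        refine ⟨w⁻¹, W.inv_mem hw, m⁻¹, M.inv_mem hm, ?_⟩
        rw [mul_inv_rev, h w⁻¹ (W.inv_mem hw) m⁻¹ (M.inv_mem hm)] }
  have hle : W ⊔ M ≤ K := by
    apply sup_le
    · intro w hw; exact ⟨w, hw, 1, M.one_mem, by simp⟩
    · intro m hm; exact ⟨1, W.one_mem, m, hm, by simp⟩
  exact hle hx

/-- A nontrivial `A`-invariant subgroup contains a minimal `A`-invariant subgroup. -/
theorem exists_minimal_invariant [Finite G] {A T : Subgroup G} (hT : T ≠ ⊥)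
    (hAT : A ≤ Subgroup.normalizer (T : Set G)) :
    ∃ M : Subgroup G, M ≤ T ∧ M ≠ ⊥ ∧ A ≤ Subgroup.normalizer (M : Set G) ∧
      ∀ M' : Subgroup G, M' ≤ M → A ≤ Subgroup.normalizer (M' : Set G) → M' = ⊥ ∨ M' = M := by
  obtain ⟨M, hMT, hMmin⟩ := (Set.toFinite {M : Subgroup G | M ≤ T ∧ M ≠ ⊥ ∧
    A ≤ Subgroup.normalizer (M : Set G)}).exists_le_minimal
    (show T ∈ {M : Subgroup G | M ≤ T ∧ M ≠ ⊥ ∧ A ≤ Subgroup.normalizer (M : Set G)} from
      ⟨le_rfl, hT, hAT⟩)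
  obtain ⟨h1, h2, h3⟩ := hMmin.prop
  refine ⟨M, h1, h2, h3, ?_⟩
  intro M' hM'M hAM'
  by_cases hb : M' = ⊥
  · exact Or.inl hb
  · right
    exact le_antisymm hM'M (hMmin.le_of_le ⟨hM'M.trans h1, hb, hAM'⟩ hM'M)

/-- Conjugation by an element normalizing `A` maps `A`-invariant subgroups to `A`-invariant
subgroups. -/
theorem le_normalizer_map_conj {A M : Subgroup G} {h : G}
    (hh : h ∈ Subgroup.normalizer (A : Set G)) (hAM : A ≤ Subgroup.normalizer (M : Set G)) :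
    A ≤ Subgroup.normalizer ((M.map (MulAut.conj h).toMonoidHom : Subgroup G) : Set G) := by
  intro a ha
  have ha' : h⁻¹ * a * h ∈ A := by
    have := (Subgroup.mem_normalizer_iff.1 (Subgroup.inv_mem _ hh) a).1 ha
    simpa using this
  have hn := hAM ha'
  rw [Subgroup.mem_normalizer_iff] at hn ⊢
  intro y
  constructor
  · rintro ⟨m, hm, rfl⟩
    refine ⟨(h⁻¹ * a * h) * m * (h⁻¹ * a * h)⁻¹, (hn m).1 hm, ?_⟩
    simp only [MulEquiv.coe_toMonoidHom, MulAut.conj_apply]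
    group
  · rintro ⟨m, hm, hmy⟩
    have hm' := (hn ((h⁻¹ * a * h)⁻¹ * m * (h⁻¹ * a * h))).2 (by
      have : (h⁻¹ * a * h) * ((h⁻¹ * a * h)⁻¹ * m * (h⁻¹ * a * h)) * (h⁻¹ * a * h)⁻¹ = m := by
        group
      rw [this]; exact hm)
    refine ⟨(h⁻¹ * a * h)⁻¹ * m * (h⁻¹ * a * h), hm', ?_⟩
    simp only [MulEquiv.coe_toMonoidHom, MulAut.conj_apply] at hmy ⊢
    have : y = a⁻¹ * (a * y * a⁻¹) * a := by group
    rw [this, ← hmy]
    group

end Cfsg.Agent.Lib.Helper2
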