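import Mathlib
import Cfsg.Agent.Lib.Helper2.Bar
import Cfsg.Agent.Lib.Helper1.CoprimeAbelian

/-!
# Coprime action on abelian quotients
-/

set_option autoImplicit false

namespace Cfsg.Agent.Lib.Helper2

open scoped commutatorElement
open Cfsg.Agent.Lib.Helper1

variable {G : Type*} [Group G]

/-- Coprime action on an abelian section `V/N`: `C_{V/N}(A) ∩ [V/N, A] = 1`, stated for subgroups
of an ambient group. -/
theorem coprime_abelian_quotient_inf [Finite G] (A V N : Subgroup G)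
    (hVN : V ≤ Subgroup.normalizer (N : Set G))
    (hAN : A ≤ Subgroup.normalizer (N : Set G)) (hAV : A ≤ Subgroup.normalizer (V : Set G))
    (hab : ⁅V, V⁆ ≤ N) (hcop : (Nat.card A).Coprime (Nat.card V))
    (v : G) (hvV : v ∈ V) (hv : v ∈ ⁅V, A⁆ ⊔ N) (hfix : ∀ a ∈ A, ⁅v, a⁆ ∈ N) : v ∈ N := by
  have hvL : v ∈ Subgroup.normalizer (N : Set G) := hVN hvV
  haveI : IsMulCommutative (bar N V) := isMulCommutative_bar hVN hab
  have hAV' := bar_le_normalizer (N := N) hAV
  have hcop' : (Nat.card (bar N A)).Coprime (Nat.card (bar N V)) :=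
    Nat.Coprime.coprime_dvd_left (card_bar_dvd hAN)
      (Nat.Coprime.coprime_dvd_right (card_bar_dvd hVN) hcop)
  have key := coprime_abelian_centralizer_inf_commutator (bar N A) (bar N V) hAV' hcop'
  have hcL : ⁅V, A⁆ ≤ Subgroup.normalizer (N : Set G) :=
    (Subgroup.commutator_mono hVN hAN).trans (Subgroup.commutator_le_self _)
  have h1 : barHom N ⟨v, hvL⟩ ∈ ⁅bar N V, bar N A⁆ := by
    rw [← bar_commutator hVN hAN, ← bar_sup_self hcL]
    exact barHom_mem_bar hv
  have h2 : barHom N ⟨v, hvL⟩ ∈ bar N V := barHom_mem_bar hvV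
  have h3 : barHom N ⟨v, hvL⟩ ∈ Subgroup.centralizer ((bar N A : Subgroup (QuotNorm N)) :
      Set (QuotNorm N)) := by
    rw [Subgroup.mem_centralizer_iff]
    intro q hq
    obtain ⟨a, haL, haA, rfl⟩ := mem_bar.1 hq
    rw [← map_mul, ← map_mul, eq_comm, barHom_eq_iff']
    have := hfix a haA
    rw [commutatorElement_def] at this
    simpa [mul_assoc] using this
  have h4 : barHom N ⟨v, hvL⟩ ∈ (bar N V ⊓ Subgroup.centralizer ((bar N A :
      Subgroup (QuotNorm N)) : Set (QuotNorm N))) ⊓ ⁅bar N V, bar N A⁆ := ⟨⟨h2, h3⟩, h1⟩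
  rw [key, Subgroup.mem_bot, barHom_eq_one_iff] at h4
  exact h4

end Cfsg.Agent.Lib.Helper2
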