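import Mathlib
import Cfsg.Agent.Lib.Helper1.Metacyclic
import Cfsg.Agent.Lib.Lead.UniqueP

set_option autoImplicit false
open scoped commutatorElement

/-!
# Finite `p`-groups (`p` odd) whose derived subgroup lies in a cyclic normal subgroup

The Chermak–Delgado-type measure `|R| * |C_G(R)|` is monotone in `R`.
-/

namespace Cfsg.Agent.Lib.Helper2.MetaOdd

variable {G : Type*} [Group G]

/-- Conjugation acts on a cyclic normal subgroup by a power map. -/
theorem exists_pow_conj [Finite G] (N : Subgroup G) [hNn : N.Normal] (hN : IsCyclic N) (g : G) :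
    ∃ κ : ℕ, ∀ y ∈ N, g * y * g⁻¹ = y ^ κ := by
  obtain ⟨a', ha'⟩ := hN.exists_generator
  have hgen : ∀ y ∈ N, ∃ j : ℤ, (a' : G) ^ j = y := by
    intro y hy
    obtain ⟨j, hj⟩ := Subgroup.mem_zpowers_iff.mp (ha' ⟨y, hy⟩)
    refine ⟨j, ?_⟩
    have := congrArg Subtype.val hj
    rwa [Subgroup.coe_zpow] at this
  have h1 : g * (a' : G) * g⁻¹ ∈ N := hNn.conj_mem _ a'.2 g
  obtain ⟨k, hk⟩ := hgen _ h1
  refine ⟨(k % (orderOf (a' : G) : ℤ)).toNat, ?_⟩
  have hpos : (0 : ℤ) < orderOf (a' : G) := by exact_mod_cast orderOf_pos (a' : G)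
  have hk' : (a' : G) ^ (k % (orderOf (a' : G) : ℤ)).toNat = g * (a' : G) * g⁻¹ := by
    rw [← zpow_natCast, Int.toNat_of_nonneg (Int.emod_nonneg _ hpos.ne'), zpow_mod_orderOf, hk]
  intro y hy
  obtain ⟨j, rfl⟩ := hgen y hy
  have h2 : g * (a' : G) ^ j * g⁻¹ = (g * (a' : G) * g⁻¹) ^ j := by
    have := map_zpow (MulAut.conj g) (a' : G) j
    rw [MulAut.conj_apply, MulAut.conj_apply] at this
    exact this
  rw [h2, ← hk', ← zpow_natCast, ← zpow_natCast, ← zpow_mul, ← zpow_mul, mul_comm]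

/-- In a finite `p`-group, the power by which an element acts on a cyclic normal subgroup may be
taken congruent to `1` modulo `p`. -/
theorem exists_pow_conj_modEq [Finite G] (p : ℕ) [hp : Fact p.Prime] (hG : IsPGroup p G)
    (N : Subgroup G) [hNn : N.Normal] (hN : IsCyclic N) (g : G) :
    ∃ κ : ℕ, κ ≡ 1 [MOD p] ∧ ∀ y ∈ N, g * y * g⁻¹ = y ^ κ := by
  by_cases hbot : N = ⊥
  · refine ⟨1, Nat.ModEq.refl 1, ?_⟩
    intro y hy
    rw [hbot, Subgroup.mem_bot] at hy
    rw [hy]; simp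
  obtain ⟨κ, hκ⟩ := exists_pow_conj N hN g
  refine ⟨κ, ?_, hκ⟩
  obtain ⟨y, hyN, hy1⟩ : ∃ y ∈ N, y ≠ 1 := by
    by_contra hcon
    push Not at hcon
    exact hbot (eq_bot_iff.mpr fun y hy => Subgroup.mem_bot.mpr (hcon y hy))
  -- iterate conjugation
  have hiter : ∀ t : ℕ, ∀ y ∈ N, g ^ t * y * (g ^ t)⁻¹ = y ^ (κ ^ t) := by
    intro t
    induction t with
    | zero => intro y _; simp
    | succ t ih =>
      intro y hy
      have h1 : g ^ (t + 1) * y * (g ^ (t + 1))⁻¹ = g * (g ^ t * y * (g ^ t)⁻¹) * g⁻¹ := by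
        rw [pow_succ']; group
      rw [h1, ih y hy, hκ _ (N.pow_mem hy _), ← pow_mul, pow_succ]
  obtain ⟨t, ht⟩ := hG g
  have h2 := hiter (p ^ t) y hyN
  rw [ht] at h2
  simp only [one_mul, inv_one, mul_one] at h2
  -- `orderOf y` divides `κ ^ p ^ t - 1`
  obtain ⟨s, hs⟩ := hG y
  have hord : orderOf y ∣ p ^ s := orderOf_dvd_of_pow_eq_one hs
  obtain ⟨u, hu, hu2⟩ := (Nat.dvd_prime_pow hp.out).mp hord
  have hu0 : u ≠ 0 := by
    rintro rfl
    rw [pow_zero, orderOf_eq_one_iff] at hu2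
    exact hy1 hu2
  have h3 : κ ^ p ^ t ≡ 1 [MOD orderOf y] := by
    have h4 : y ^ (κ ^ p ^ t) = y ^ 1 := by rw [pow_one]; exact h2.symm
    exact pow_eq_pow_iff_modEq.mp h4
  have h5 : κ ^ p ^ t ≡ 1 [MOD p] := by
    apply Nat.ModEq.of_dvd _ h3
    rw [hu2]; exact dvd_pow_self p hu0
  -- Fermat
  have h6 : ((κ : ZMod p)) ^ p ^ t = (κ : ZMod p) := ZMod.pow_card_pow _
  have h7 : ((κ ^ p ^ t : ℕ) : ZMod p) = ((1 : ℕ) : ZMod p) :=
    (ZMod.natCast_eq_natCast_iff _ _ _).mpr h5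
  rw [Nat.cast_pow, h6] at h7
  exact (ZMod.natCast_eq_natCast_iff _ _ _).mp h7

/-- The twisted power formula for commutators `[c, x^t]`. -/
theorem comm_pow_eq (N : Subgroup G) (c x : G) (κ : ℕ) (hd : c * x * c⁻¹ * x⁻¹ ∈ N)
    (hκ : ∀ y ∈ N, x * y * x⁻¹ = y ^ κ) (t : ℕ) :
    c * x ^ t * c⁻¹ * (x ^ t)⁻¹ = (c * x * c⁻¹ * x⁻¹) ^ (∑ i ∈ Finset.range t, κ ^ i) := by
  induction t with
  | zero => simp
  | succ t ih =>
    have h1 : c * x ^ (t + 1) * c⁻¹ * (x ^ (t + 1))⁻¹ =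
        (c * x * c⁻¹ * x⁻¹) * (x * (c * x ^ t * c⁻¹ * (x ^ t)⁻¹) * x⁻¹) := by
      rw [pow_succ']; group
    rw [h1, ih, hκ _ (N.pow_mem hd _), ← pow_mul, Finset.sum_range_succ', pow_zero]
    rw [← pow_succ']
    congr 2
    rw [Finset.sum_mul]
    apply Finset.sum_congr rfl
    intro i _
    rw [← pow_succ]

/-- For `κ ≡ 1 (mod p)` and `p` odd, `p²` does not divide `1 + κ + ... + κ^(p-1)`. -/
theorem not_sq_dvd_geom {p : ℕ} (hp : p.Prime) (hodd : p ≠ 2) (κ : ℕ) (hκ : κ ≡ 1 [MOD p]) :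
    ¬ p ^ 2 ∣ ∑ i ∈ Finset.range p, κ ^ i := by
  have hp' : Prime (p : ℤ) := Nat.prime_iff_prime_int.mp hp
  have hodd' : Odd p := hp.odd_of_ne_two hodd
  have hxy : (p : ℤ) ∣ (κ : ℤ) - 1 := by
    have := (Int.natCast_modEq_iff.mpr hκ).symm.dvd
    simpa using this
  have hx : ¬ (p : ℤ) ∣ (κ : ℤ) := by
    intro h
    have h1 : (p : ℤ) ∣ 1 := by
      have := dvd_sub h hxy
      simpa using this
    have := Int.natCast_dvd_natCast.mp (by simpa using h1 : ((p : ℕ) : ℤ) ∣ ((1 : ℕ) : ℤ))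
    exact hp.one_lt.ne' (Nat.dvd_one.mp this)
  have h := emultiplicity_geom_sum₂_eq_one hp' hodd' hxy hx
  simp only [one_pow, mul_one] at h
  intro hdvd
  have h2 : ((p : ℤ)) ^ 2 ∣ ∑ i ∈ Finset.range p, (κ : ℤ) ^ i := by
    have := Int.natCast_dvd_natCast.mpr hdvd
    simpa using this
  have h3 := le_emultiplicity_of_pow_dvd h2
  rw [h] at h3
  norm_cast at h3


/-- If `[c, x^p] = 1` then `[c, x]^p = 1` (odd `p`, twist `κ ≡ 1`). -/
theorem comm_pow_prime_eq_one [Finite G] {p : ℕ} [hp : Fact p.Prime] (hodd : p ≠ 2)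
    (hG : IsPGroup p G) (N : Subgroup G) (c x : G) (κ : ℕ) (hκ1 : κ ≡ 1 [MOD p])
    (hd : c * x * c⁻¹ * x⁻¹ ∈ N) (hκ : ∀ y ∈ N, x * y * x⁻¹ = y ^ κ)
    (hcomm : c * x ^ p = x ^ p * c) : (c * x * c⁻¹ * x⁻¹) ^ p = 1 := by
  have h1 := comm_pow_eq N c x κ hd hκ p
  have h2 : c * x ^ p * c⁻¹ * (x ^ p)⁻¹ = 1 := by rw [hcomm]; group
  rw [h2] at h1
  obtain ⟨d, hddef⟩ : ∃ d, d = c * x * c⁻¹ * x⁻¹ := ⟨_, rfl⟩
  rw [← hddef] at h1 ⊢
  have h3 : orderOf d ∣ ∑ i ∈ Finset.range p, κ ^ i := orderOf_dvd_of_pow_eq_one h1.symm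
  obtain ⟨s, hs⟩ := hG d
  obtain ⟨u, hu, hu2⟩ := (Nat.dvd_prime_pow hp.out).mp (orderOf_dvd_of_pow_eq_one hs)
  have hu1 : u ≤ 1 := by
    by_contra hcon
    push Not at hcon
    apply not_sq_dvd_geom hp.out hodd κ hκ1
    refine dvd_trans ?_ h3
    rw [hu2]
    exact pow_dvd_pow p hcon
  have : orderOf d ∣ p := by
    rw [hu2]
    calc p ^ u ∣ p ^ 1 := pow_dvd_pow p hu1
      _ = p := pow_one p
  exact orderOf_dvd_iff_pow_eq_one.mp this

/-- Elements of order dividing `p` in a cyclic normal subgroup of a `p`-group are central. -/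
theorem mem_center_of_pow_eq_one [Finite G] {p : ℕ} [hp : Fact p.Prime] (hG : IsPGroup p G)
    (N : Subgroup G) [hNn : N.Normal] (hN : IsCyclic N) (y : G) (hy : y ∈ N) (hyp : y ^ p = 1) :
    y ∈ Subgroup.center G := by
  rw [Subgroup.mem_center_iff]
  intro g
  obtain ⟨κ, hκ1, hκ⟩ := exists_pow_conj_modEq p hG N hN g
  have h1 := hκ y hy
  have h2 : y ^ κ = y := by
    have h3 : κ % p = 1 := by
      have := hκ1
      unfold Nat.ModEq at this
      rw [this]
      exact Nat.mod_eq_of_lt hp.out.one_lt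
    have h4 : κ = p * (κ / p) + 1 := by
      have := Nat.div_add_mod κ p
      omega
    rw [h4, pow_succ, pow_mul, hyp, one_pow, one_mul]
  rw [h2] at h1
  calc g * y = (g * y * g⁻¹) * g := by group
    _ = y * g := by rw [h1]

/-- One step of the monotonicity: adjoining `x` with `x^p ∈ R` shrinks the centralizer by a factor
at most `p`. -/
theorem card_centralizer_le_step [Finite G] {p : ℕ} [hp : Fact p.Prime] (hodd : p ≠ 2)
    (hG : IsPGroup p G) (N : Subgroup G) [hNn : N.Normal] (hN : IsCyclic N)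
    (hGN : commutator G ≤ N) (R : Subgroup G) (x : G) (hx : x ^ p ∈ R) :
    Nat.card (Subgroup.centralizer (R : Set G)) ≤
      p * Nat.card (Subgroup.centralizer ((R ⊔ Subgroup.zpowers x : Subgroup G) : Set G)) := by
  obtain ⟨κ, hκ1, hκ⟩ := exists_pow_conj_modEq p hG N hN x
  have hNcomm : ∀ y ∈ N, ∀ z ∈ N, y * z = z * y := by
    intro y hy z hz
    have := Cfsg.Agent.Lib.Lead.UniqueP.comm_of_isCyclic (H := ↥N) ⟨y, hy⟩ ⟨z, hz⟩
    exact congrArg Subtype.val this
  -- the target subgroup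
  let Ω : Subgroup G :=
    { carrier := {y | y ∈ N ∧ y ^ p = 1}
      one_mem' := ⟨N.one_mem, one_pow _⟩
      mul_mem' := by
        rintro y z ⟨hy, hyp⟩ ⟨hz, hzp⟩
        refine ⟨N.mul_mem hy hz, ?_⟩
        rw [(Commute.mul_pow (hNcomm y hy z hz) p), hyp, hzp, one_mul]
      inv_mem' := by
        rintro y ⟨hy, hyp⟩
        exact ⟨N.inv_mem hy, by rw [inv_pow, hyp, inv_one]⟩ }
  have hΩN : Ω ≤ N := fun y hy => hy.1
  have hΩcard : Nat.card Ω ≤ p := by
    haveI : IsCyclic ↥Ω := Subgroup.isCyclic_of_le hΩN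
    apply Cfsg.Agent.Lib.Helper1.card_le_of_isCyclic_of_pow_eq_one hp.out.pos
    intro c
    apply Subtype.ext
    rw [Subgroup.coe_pow, Subgroup.coe_one]
    exact c.2.2
  have hΩZ : Ω ≤ Subgroup.center G := fun y hy => mem_center_of_pow_eq_one hG N hN y hy.1 hy.2
  have hdN : ∀ c : G, c * x * c⁻¹ * x⁻¹ ∈ N := by
    intro c
    apply hGN
    have : c * x * c⁻¹ * x⁻¹ = ⁅c, x⁆ := rfl
    rw [this]
    exact Subgroup.commutator_mem_commutator (Subgroup.mem_top c) (Subgroup.mem_top x)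
  have hdΩ : ∀ c ∈ Subgroup.centralizer (R : Set G), c * x * c⁻¹ * x⁻¹ ∈ Ω := by
    intro c hc
    refine ⟨hdN c, ?_⟩
    apply comm_pow_prime_eq_one hodd hG N c x κ hκ1 (hdN c) hκ
    exact ((Subgroup.mem_centralizer_iff.mp hc) _ hx).symm
  -- the homomorphism
  let φ : ↥(Subgroup.centralizer (R : Set G)) →* ↥Ω :=
    { toFun := fun c => ⟨(c : G) * x * (c : G)⁻¹ * x⁻¹, hdΩ c c.2⟩
      map_one' := by
        apply Subtype.ext
        simp
      map_mul' := by
        intro c c'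
        apply Subtype.ext
        have hz : (c' : G) * x * (c' : G)⁻¹ * x⁻¹ ∈ Subgroup.center G := hΩZ (hdΩ c' c'.2)
        have hz' := Subgroup.mem_center_iff.mp hz
        change ((c : G) * (c' : G)) * x * ((c : G) * (c' : G))⁻¹ * x⁻¹ =
          ((c : G) * x * (c : G)⁻¹ * x⁻¹) * ((c' : G) * x * (c' : G)⁻¹ * x⁻¹)
        calc ((c : G) * (c' : G)) * x * ((c : G) * (c' : G))⁻¹ * x⁻¹
            = ((c : G) * ((c' : G) * x * (c' : G)⁻¹ * x⁻¹)) * (x * (c : G)⁻¹ * x⁻¹) := by group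
          _ = (((c' : G) * x * (c' : G)⁻¹ * x⁻¹) * (c : G)) * (x * (c : G)⁻¹ * x⁻¹) := by
              rw [hz' (c : G)]
          _ = ((c' : G) * x * (c' : G)⁻¹ * x⁻¹) * ((c : G) * x * (c : G)⁻¹ * x⁻¹) := by group
          _ = ((c : G) * x * (c : G)⁻¹ * x⁻¹) * ((c' : G) * x * (c' : G)⁻¹ * x⁻¹) := by
              rw [hz' _] }
  have h1 : Nat.card ↥(Subgroup.centralizer (R : Set G)) = Nat.card φ.ker * Nat.card φ.range := by
    rw [← Subgroup.index_ker, Subgroup.card_mul_index]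
  have h2 : Nat.card φ.range ≤ p := (Subgroup.card_le_card_group _).trans hΩcard
  have h3 : Nat.card φ.ker ≤
      Nat.card (Subgroup.centralizer ((R ⊔ Subgroup.zpowers x : Subgroup G) : Set G)) := by
    refine Nat.card_le_card_of_injective (fun k : φ.ker =>
      (⟨((k : ↥(Subgroup.centralizer (R : Set G))) : G), ?_⟩ :
        Subgroup.centralizer ((R ⊔ Subgroup.zpowers x : Subgroup G) : Set G))) ?_
    · have hk : φ (k : ↥(Subgroup.centralizer (R : Set G))) = 1 := k.2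
      have hk' : ((k : ↥(Subgroup.centralizer (R : Set G))) : G) * x *
          ((k : ↥(Subgroup.centralizer (R : Set G))) : G)⁻¹ * x⁻¹ = 1 :=
        congrArg Subtype.val hk
      have hkx : ((k : ↥(Subgroup.centralizer (R : Set G))) : G) * x =
          x * ((k : ↥(Subgroup.centralizer (R : Set G))) : G) := by
        have := mul_inv_eq_one.mp hk'
        calc ((k : ↥(Subgroup.centralizer (R : Set G))) : G) * x
            = (((k : ↥(Subgroup.centralizer (R : Set G))) : G) * x *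
              ((k : ↥(Subgroup.centralizer (R : Set G))) : G)⁻¹) *
              ((k : ↥(Subgroup.centralizer (R : Set G))) : G) := by group
          _ = x * ((k : ↥(Subgroup.centralizer (R : Set G))) : G) := by rw [this]
      have hle : R ⊔ Subgroup.zpowers x ≤
          Subgroup.centralizer ({((k : ↥(Subgroup.centralizer (R : Set G))) : G)} : Set G) := by
        apply sup_le
        · intro r hr
          rw [Subgroup.mem_centralizer_singleton_iff]
          exact (Subgroup.mem_centralizer_iff.mp (k : ↥(Subgroup.centralizer (R : Set G))).2 r hr)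
        · rw [Subgroup.zpowers_le, Subgroup.mem_centralizer_singleton_iff]
          exact hkx.symm
      rw [Subgroup.mem_centralizer_iff]
      intro h hh
      have := hle hh
      rw [Subgroup.mem_centralizer_singleton_iff] at this
      exact this
    · intro k k' hkk
      have : ((k : ↥(Subgroup.centralizer (R : Set G))) : G) =
          ((k' : ↥(Subgroup.centralizer (R : Set G))) : G) := by
        have h := congrArg Subtype.val hkk
        exact h
      exact Subtype.ext (Subtype.ext this)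
  rw [h1, mul_comm]
  exact Nat.mul_le_mul h2 h3

/-- The measure `|R| * |C_G(R)|` is monotone in `R`. -/
theorem card_mul_card_centralizer_mono [Finite G] {p : ℕ} [hp : Fact p.Prime] (hodd : p ≠ 2)
    (hG : IsPGroup p G) (N : Subgroup G) [hNn : N.Normal] (hN : IsCyclic N)
    (hGN : commutator G ≤ N) (R : Subgroup G) :
    ∀ (k : ℕ) (R₀ : Subgroup G), R₀ ≤ R → Nat.card R - Nat.card R₀ = k →
      Nat.card R₀ * Nat.card (Subgroup.centralizer (R₀ : Set G)) ≤
        Nat.card R * Nat.card (Subgroup.centralizer (R : Set G)) := by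
  intro k
  induction k using Nat.strong_induction_on with
  | _ k ih =>
    intro R₀ hle hk
    by_cases heq : R₀ = R
    · rw [heq]
    have hlt : R₀ < R := lt_of_le_of_ne hle heq
    obtain ⟨x₀, hx₀R, hx₀⟩ := SetLike.exists_of_lt hlt
    -- find a power `x` of `x₀` outside `R₀` with `x^p ∈ R₀`
    obtain ⟨t, ht⟩ := hG x₀
    have hex : ∃ j : ℕ, x₀ ^ p ^ j ∈ R₀ := ⟨t, by rw [ht]; exact R₀.one_mem⟩
    classical
    obtain ⟨j, hj, hjmin⟩ : ∃ j, x₀ ^ p ^ j ∈ R₀ ∧ ∀ i < j, x₀ ^ p ^ i ∉ R₀ :=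
      ⟨Nat.find hex, Nat.find_spec hex, fun i hi => Nat.find_min hex hi⟩
    have hj0 : j ≠ 0 := by
      rintro rfl
      rw [pow_zero, pow_one] at hj
      exact hx₀ hj
    obtain ⟨x, hxdef⟩ : ∃ x, x = x₀ ^ p ^ (j - 1) := ⟨_, rfl⟩
    have hxR : x ∈ R := by rw [hxdef]; exact R.pow_mem hx₀R _
    have hxR₀ : x ∉ R₀ := by rw [hxdef]; exact hjmin (j - 1) (by omega)
    have hxp : x ^ p ∈ R₀ := by
      rw [hxdef, ← pow_mul, ← pow_succ, Nat.sub_add_cancel (by omega)]
      exact hj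
    obtain ⟨R₁, hR₁⟩ : ∃ R₁, R₁ = R₀ ⊔ Subgroup.zpowers x := ⟨_, rfl⟩
    have hR₁R : R₁ ≤ R := by
      rw [hR₁]; exact sup_le hle (Subgroup.zpowers_le.mpr hxR)
    have hR₀R₁ : R₀ < R₁ := by
      rw [hR₁]
      refine lt_of_le_of_ne le_sup_left ?_
      intro h
      apply hxR₀
      rw [h]
      exact le_sup_right (a := R₀) (Subgroup.mem_zpowers x)
    have hstep := card_centralizer_le_step hodd hG N hN hGN R₀ x hxp
    rw [← hR₁] at hstep
    -- `|R₁| ≥ p |R₀|`
    have hcard : p * Nat.card R₀ ≤ Nat.card R₁ := by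
      obtain ⟨u, hu⟩ := (hG.to_subgroup R₀).exists_card_eq
      obtain ⟨v, hv⟩ := (hG.to_subgroup R₁).exists_card_eq
      have h1 : Nat.card R₀ < Nat.card R₁ := by
        have hsub := Subgroup.card_le_of_le hR₀R₁.le
        refine lt_of_le_of_ne hsub ?_
        intro he
        exact hR₀R₁.ne (Subgroup.eq_of_le_of_card_ge hR₀R₁.le he.ge)
      rw [hu, hv] at h1 ⊢
      have huv : u < v := (Nat.pow_lt_pow_iff_right hp.out.one_lt).mp h1
      rw [← pow_succ']
      exact Nat.pow_le_pow_right hp.out.pos huv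
    have hIH := ih (Nat.card R - Nat.card R₁) (by
      have h1 := Subgroup.card_le_of_le hR₁R
      have h2 : Nat.card R₀ < Nat.card R₁ := by
        have : 0 < Nat.card R₀ := Nat.card_pos
        have hp2 := hp.out.two_le
        nlinarith
      omega) R₁ hR₁R rfl
    calc Nat.card R₀ * Nat.card (Subgroup.centralizer (R₀ : Set G))
        ≤ Nat.card R₀ * (p * Nat.card (Subgroup.centralizer (R₁ : Set G))) :=
          Nat.mul_le_mul_left _ hstep
      _ = (p * Nat.card R₀) * Nat.card (Subgroup.centralizer (R₁ : Set G)) := by ring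
      _ ≤ Nat.card R₁ * Nat.card (Subgroup.centralizer (R₁ : Set G)) :=
          Nat.mul_le_mul_right _ hcard
      _ ≤ _ := hIH

theorem card_mul_card_centralizer_le [Finite G] {p : ℕ} [Fact p.Prime] (hodd : p ≠ 2)
    (hG : IsPGroup p G) (N : Subgroup G) [N.Normal] (hN : IsCyclic N)
    (hGN : commutator G ≤ N) {R₀ R : Subgroup G} (h : R₀ ≤ R) :
    Nat.card R₀ * Nat.card (Subgroup.centralizer (R₀ : Set G)) ≤
      Nat.card R * Nat.card (Subgroup.centralizer (R : Set G)) :=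
  card_mul_card_centralizer_mono hodd hG N hN hGN R _ R₀ h rfl

/-- `(★)`: if `Z(G) ≤ R` then `|R| * |C_G(R)| = |G| * |Z(G)|`. -/
theorem card_mul_card_centralizer_eq [Finite G] {p : ℕ} [Fact p.Prime] (hodd : p ≠ 2)
    (hG : IsPGroup p G) (N : Subgroup G) [N.Normal] (hN : IsCyclic N)
    (hGN : commutator G ≤ N) {R : Subgroup G} (h : Subgroup.center G ≤ R) :
    Nat.card R * Nat.card (Subgroup.centralizer (R : Set G)) =
      Nat.card G * Nat.card (Subgroup.center G) := by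
  have h1 := card_mul_card_centralizer_le hodd hG N hN hGN h
  have h2 := card_mul_card_centralizer_le hodd hG N hN hGN (le_top : R ≤ ⊤)
  have e1 : Subgroup.centralizer ((Subgroup.center G : Subgroup G) : Set G) = ⊤ := by
    rw [eq_top_iff]
    intro g _
    rw [Subgroup.mem_centralizer_iff]
    intro z hz
    exact (Subgroup.mem_center_iff.mp hz g).symm
  have e2 : Subgroup.centralizer (((⊤ : Subgroup G) : Subgroup G) : Set G) = Subgroup.center G := by
    rw [Subgroup.coe_top, Subgroup.centralizer_univ]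
  rw [e1, Subgroup.card_top] at h1
  rw [e2, Subgroup.card_top] at h2
  have : Nat.card (Subgroup.center G) * Nat.card G = Nat.card G * Nat.card (Subgroup.center G) :=
    mul_comm _ _
  omega

end Cfsg.Agent.Lib.Helper2.MetaOdd
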