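import Mathlib
import Cfsg.Prelude.Def_BaumannBlocks
import Cfsg.Prelude.Def_OddOrderLocal
import Cfsg.Agent.Lib.Helper2.MetaOdd1

set_option autoImplicit false
open scoped commutatorElement

namespace Cfsg.Agent.Lib.Helper2.MetaOdd

variable {G : Type*} [Group G]

theorem commutator_le_of_cyclic_quotient (N : Subgroup G) [N.Normal] (h : IsCyclic (G ⧸ N)) :
    commutator G ≤ N := by
  rw [← Subgroup.Normal.quotient_commutative_iff_commutator_le]
  exact IsCyclic.isMulCommutative

theorem centralizer_sup_center (R : Subgroup G) :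
    Subgroup.centralizer ((R ⊔ Subgroup.center G : Subgroup G) : Set G) =
      Subgroup.centralizer (R : Set G) := by
  apply le_antisymm
  · exact Subgroup.centralizer_le (SetLike.coe_subset_coe.mpr le_sup_left)
  · intro g hg
    rw [Subgroup.mem_centralizer_iff] at hg ⊢
    have hle : R ⊔ Subgroup.center G ≤ Subgroup.centralizer ({g} : Set G) := by
      apply sup_le
      · intro r hr
        rw [Subgroup.mem_centralizer_singleton_iff]
        exact hg r hr
      · intro z hz
        rw [Subgroup.mem_centralizer_singleton_iff]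
        exact (Subgroup.mem_center_iff.mp hz g).symm
    intro h hh
    have := hle hh
    rw [Subgroup.mem_centralizer_singleton_iff] at this
    exact this

/-- For a finite `p`-group (`p` odd) with derived subgroup inside a cyclic normal subgroup,
`|R| |C_G(R)| ≤ |G| |Z(G)|` with equality exactly when `Z(G) ≤ R`. -/
theorem card_mul_card_centralizer_eq_iff [Finite G] {p : ℕ} [Fact p.Prime] (hodd : p ≠ 2)
    (hG : IsPGroup p G) (N : Subgroup G) [N.Normal] (hN : IsCyclic N)
    (hGN : commutator G ≤ N) (R : Subgroup G) :
    Nat.card R * Nat.card (Subgroup.centralizer (R : Set G)) =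
      Nat.card G * Nat.card (Subgroup.center G) ↔ Subgroup.center G ≤ R := by
  constructor
  · intro h
    have h1 := card_mul_card_centralizer_eq hodd hG N hN hGN
      (le_sup_right : Subgroup.center G ≤ R ⊔ Subgroup.center G)
    rw [centralizer_sup_center, ← h] at h1
    have hpos : 0 < Nat.card (Subgroup.centralizer (R : Set G)) := Nat.card_pos
    have h2 : Nat.card (R ⊔ Subgroup.center G : Subgroup G) = Nat.card R :=
      Nat.eq_of_mul_eq_mul_right hpos h1
    have h3 : R = R ⊔ Subgroup.center G :=
      Subgroup.eq_of_le_of_card_ge le_sup_left h2.le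
    rw [h3]
    exact le_sup_right
  · exact fun h => card_mul_card_centralizer_eq hodd hG N hN hGN h

theorem card_mul_card_centralizer_le_top [Finite G] {p : ℕ} [Fact p.Prime] (hodd : p ≠ 2)
    (hG : IsPGroup p G) (N : Subgroup G) [N.Normal] (hN : IsCyclic N)
    (hGN : commutator G ≤ N) (R : Subgroup G) :
    Nat.card R * Nat.card (Subgroup.centralizer (R : Set G)) ≤
      Nat.card G * Nat.card (Subgroup.center G) := by
  have h2 := card_mul_card_centralizer_le hodd hG N hN hGN (le_top : R ≤ ⊤)
  rw [Subgroup.coe_top, Subgroup.centralizer_univ, Subgroup.card_top] at h2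
  exact h2

theorem maxCentralizerProduct_eq [Finite G] {p : ℕ} [Fact p.Prime] (hodd : p ≠ 2)
    (hG : IsPGroup p G) (N : Subgroup G) [N.Normal] (hN : IsCyclic N)
    (hGN : commutator G ≤ N) :
    Cfsg.maxCentralizerProduct G = Nat.card G * Nat.card (Subgroup.center G) := by
  unfold Cfsg.maxCentralizerProduct
  apply IsGreatest.csSup_eq
  constructor
  · refine ⟨⊤, ?_⟩
    rw [Subgroup.coe_top, Subgroup.centralizer_univ, Subgroup.card_top]
  · rintro k ⟨R, rfl⟩
    exact card_mul_card_centralizer_le_top hodd hG N hN hGN R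

theorem isCentralizerLarge_iff [Finite G] {p : ℕ} [Fact p.Prime] (hodd : p ≠ 2)
    (hG : IsPGroup p G) (N : Subgroup G) [N.Normal] (hN : IsCyclic N)
    (hGN : commutator G ≤ N) (R : Subgroup G) :
    Cfsg.IsCentralizerLarge R ↔ Subgroup.center G ≤ R := by
  unfold Cfsg.IsCentralizerLarge
  rw [maxCentralizerProduct_eq hodd hG N hN hGN]
  exact card_mul_card_centralizer_eq_iff hodd hG N hN hGN R

/-- An abelian subgroup containing the center is the center of its centralizer. -/
theorem eq_center_centralizer [Finite G] {p : ℕ} [Fact p.Prime] (hodd : p ≠ 2)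
    (hG : IsPGroup p G) (N : Subgroup G) [N.Normal] (hN : IsCyclic N)
    (hGN : commutator G ≤ N) (K : Subgroup G) (hK : IsMulCommutative ↥K)
    (hZ : Subgroup.center G ≤ K) :
    K = Subgroup.centralizer (K : Set G) ⊓
      Subgroup.centralizer (Subgroup.centralizer (K : Set G) : Set G) := by
  have hKC : K ≤ Subgroup.centralizer (K : Set G) := by
    intro k hk
    rw [Subgroup.mem_centralizer_iff]
    intro h hh
    have := mul_comm' (⟨h, hh⟩ : ↥K) ⟨k, hk⟩
    exact congrArg Subtype.val this
  have hKCC : K ≤ Subgroup.centralizer (Subgroup.centralizer (K : Set G) : Set G) := by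
    intro k hk
    rw [Subgroup.mem_centralizer_iff]
    intro c hc
    exact ((Subgroup.mem_centralizer_iff.mp hc) k hk).symm
  have h1 := card_mul_card_centralizer_eq hodd hG N hN hGN hZ
  have h2 := card_mul_card_centralizer_eq hodd hG N hN hGN (hZ.trans hKC)
  have h3 : Nat.card (Subgroup.centralizer (Subgroup.centralizer (K : Set G) : Set G)) =
      Nat.card K := by
    have hpos : 0 < Nat.card (Subgroup.centralizer (K : Set G)) := Nat.card_pos
    apply Nat.eq_of_mul_eq_mul_left hpos
    rw [h2, ← h1, mul_comm]
  have h4 : K = Subgroup.centralizer (Subgroup.centralizer (K : Set G) : Set G) :=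
    Subgroup.eq_of_le_of_card_ge hKCC h3.le
  apply le_antisymm
  · exact le_inf hKC hKCC
  · rw [← h4]
    exact inf_le_right

end Cfsg.Agent.Lib.Helper2.MetaOdd
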