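import Mathlib
import Cfsg.Agent.Lib.Helper2.MetaOdd2
import Cfsg.Agent.Lib.Helper2.Cores

set_option autoImplicit false
open scoped commutatorElement

namespace Cfsg.Agent.Lib.Helper2.MetaOdd

variable {G : Type*} [Group G]

/-- A generator modulo a normal subgroup with cyclic quotient. -/
theorem exists_gen_mod (N : Subgroup G) [N.Normal] (h : IsCyclic (G ⧸ N)) :
    ∃ b : G, ∀ g : G, ∃ k : ℤ, ∃ y ∈ N, g = b ^ k * y := by
  obtain ⟨q, hq⟩ := h.exists_generator
  obtain ⟨b, rfl⟩ := QuotientGroup.mk_surjective q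
  refine ⟨b, fun g => ?_⟩
  obtain ⟨k, hk⟩ := Subgroup.mem_zpowers_iff.mp (hq (g : G ⧸ N))
  refine ⟨k, (b ^ k)⁻¹ * g, ?_, by group⟩
  rw [← QuotientGroup.eq, QuotientGroup.mk_zpow]
  exact hk

theorem comm_of_cyclic (N : Subgroup G) (hN : IsCyclic N) :
    ∀ y ∈ N, ∀ z ∈ N, y * z = z * y := by
  intro y hy z hz
  have := Cfsg.Agent.Lib.Lead.UniqueP.comm_of_isCyclic (H := ↥N) ⟨y, hy⟩ ⟨z, hz⟩
  exact congrArg Subtype.val this

section Gen

variable (N : Subgroup G) [hNn : N.Normal] (hN : IsCyclic N) (b : G)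
  (hb : ∀ g : G, ∃ k : ℤ, ∃ y ∈ N, g = b ^ k * y)

include hN hb

/-- `C_N(b) = N ∩ Z(G)`. -/
theorem mem_center_of_comm_gen (y : G) (hy : y ∈ N) (hyb : y * b = b * y) :
    y ∈ Subgroup.center G := by
  rw [Subgroup.mem_center_iff]
  intro g
  obtain ⟨k, z, hz, rfl⟩ := hb g
  have h1 : Commute y (b ^ k) := (Commute.zpow_right hyb k)
  have h2 : Commute y z := comm_of_cyclic N hN y hy z hz
  exact ((h1.mul_right h2).eq).symm

/-- The centralizer of `N` is commutative. -/
theorem centralizer_comm (h₁ h₂ : G) (hh₁ : h₁ ∈ Subgroup.centralizer (N : Set G))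
    (hh₂ : h₂ ∈ Subgroup.centralizer (N : Set G)) : h₁ * h₂ = h₂ * h₁ := by
  have hNH : N ≤ Subgroup.centralizer (N : Set G) := by
    intro y hy
    rw [Subgroup.mem_centralizer_iff]
    intro z hz
    exact comm_of_cyclic N hN z hz y hy
  obtain ⟨k, y, hy, rfl⟩ := hb h₁
  obtain ⟨j, z, hz, rfl⟩ := hb h₂
  have hbk : b ^ k ∈ Subgroup.centralizer (N : Set G) := by
    have : b ^ k = (b ^ k * y) * y⁻¹ := by group
    rw [this]
    exact Subgroup.mul_mem _ hh₁ (Subgroup.inv_mem _ (hNH hy))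
  have hbj : b ^ j ∈ Subgroup.centralizer (N : Set G) := by
    have : b ^ j = (b ^ j * z) * z⁻¹ := by group
    rw [this]
    exact Subgroup.mul_mem _ hh₂ (Subgroup.inv_mem _ (hNH hz))
  have c1 : Commute (b ^ k) (b ^ j) := (Commute.refl b).zpow_zpow k j
  have c2 : Commute (b ^ k) z := ((Subgroup.mem_centralizer_iff.mp hbk) z hz).symm
  have c3 : Commute y (b ^ j) := (Subgroup.mem_centralizer_iff.mp hbj) y hy
  have c4 : Commute y z := comm_of_cyclic N hN y hy z hz
  exact ((c1.mul_right c2).mul_left (c3.mul_right c4)).eq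

theorem centralizer_centralizer_eq :
    Subgroup.centralizer ((Subgroup.centralizer (N : Set G) : Subgroup G) : Set G) =
      Subgroup.centralizer (N : Set G) := by
  have hNH : N ≤ Subgroup.centralizer (N : Set G) := by
    intro y hy
    rw [Subgroup.mem_centralizer_iff]
    intro z hz
    exact comm_of_cyclic N hN z hz y hy
  apply le_antisymm
  · exact Subgroup.centralizer_le (SetLike.coe_subset_coe.mpr hNH)
  · intro h hh
    rw [Subgroup.mem_centralizer_iff]
    intro c hc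
    exact centralizer_comm N hN b hb c h hc hh

/-- The derived subgroup of `G = N⟨b⟩`: `|G'| * |N ∩ Z(G)| = |N|`. -/
theorem card_commutator_mul [Finite G] :
    Nat.card (commutator G) * Nat.card (N ⊓ Subgroup.center G : Subgroup G) = Nat.card N := by
  have hc := comm_of_cyclic N hN
  -- the homomorphism `y ↦ [b, y]` on `N`
  let ψ : ↥N →* ↥N :=
    { toFun := fun y => ⟨b * (y : G) * b⁻¹ * (y : G)⁻¹,
        N.mul_mem (hNn.conj_mem _ y.2 b) (N.inv_mem y.2)⟩
      map_one' := by apply Subtype.ext; simp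
      map_mul' := by
        intro y z
        apply Subtype.ext
        change b * ((y : G) * (z : G)) * b⁻¹ * ((y : G) * (z : G))⁻¹ =
          (b * (y : G) * b⁻¹ * (y : G)⁻¹) * (b * (z : G) * b⁻¹ * (z : G)⁻¹)
        have h1 : Commute (y : G)⁻¹ (b * (z : G) * b⁻¹ * (z : G)⁻¹) := by
          apply Commute.inv_left
          exact hc _ y.2 _ (N.mul_mem (hNn.conj_mem _ z.2 b) (N.inv_mem z.2))
        calc b * ((y : G) * (z : G)) * b⁻¹ * ((y : G) * (z : G))⁻¹
            = (b * (y : G) * b⁻¹) * ((b * (z : G) * b⁻¹ * (z : G)⁻¹) * (y : G)⁻¹) := by group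
          _ = (b * (y : G) * b⁻¹) * ((y : G)⁻¹ * (b * (z : G) * b⁻¹ * (z : G)⁻¹)) := by
              rw [h1.eq]
          _ = _ := by group }
  obtain ⟨D, hD⟩ : ∃ D : Subgroup G, D = ψ.range.map N.subtype := ⟨_, rfl⟩
  have hDN : D ≤ N := by rw [hD]; exact Subgroup.map_subtype_le _
  have hDmem : ∀ y ∈ N, b * y * b⁻¹ * y⁻¹ ∈ D := by
    intro y hy
    rw [hD]
    exact ⟨ψ ⟨y, hy⟩, ⟨⟨y, hy⟩, rfl⟩, rfl⟩
  -- `D` is normal
  haveI hDn : D.Normal := by
    constructor
    intro d hd g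
    obtain ⟨κ, hκ⟩ := exists_pow_conj N hN g
    rw [hκ d (hDN hd)]
    exact D.pow_mem hd κ
  -- `commutator G = D`
  have hle : commutator G ≤ D := by
    rw [← Subgroup.Normal.quotient_commutative_iff_commutator_le]
    refine ⟨⟨fun g₁ g₂ => ?_⟩⟩
    obtain ⟨g₁, rfl⟩ := QuotientGroup.mk_surjective g₁
    obtain ⟨g₂, rfl⟩ := QuotientGroup.mk_surjective g₂
    obtain ⟨k, y, hy, rfl⟩ := hb g₁
    obtain ⟨j, z, hz, rfl⟩ := hb g₂
    have hby : ∀ w ∈ N, Commute ((b : G) : G ⧸ D) ((w : G) : G ⧸ D) := by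
      intro w hw
      change ((b : G) : G ⧸ D) * ((w : G) : G ⧸ D) = ((w : G) : G ⧸ D) * ((b : G) : G ⧸ D)
      rw [← QuotientGroup.mk_mul, ← QuotientGroup.mk_mul, QuotientGroup.eq]
      have hyN : b⁻¹ * w * b ∈ N := by
        have := hNn.conj_mem w hw b⁻¹
        simpa using this
      have h1 : (b * w)⁻¹ * (w * b) = w⁻¹ * (b⁻¹ * w * b) := by group
      have h2 : w⁻¹ * (b⁻¹ * w * b) = (b⁻¹ * w * b) * w⁻¹ :=
        hc _ (N.inv_mem hw) _ hyN
      have h3 : (b⁻¹ * w * b) * w⁻¹ = (b * (b⁻¹ * w * b) * b⁻¹ * (b⁻¹ * w * b)⁻¹)⁻¹ := by group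
      rw [h1, h2, h3]
      exact D.inv_mem (hDmem _ hyN)
    have hyz : Commute ((y : G) : G ⧸ D) ((z : G) : G ⧸ D) := by
      change ((y : G) : G ⧸ D) * ((z : G) : G ⧸ D) = ((z : G) : G ⧸ D) * ((y : G) : G ⧸ D)
      rw [← QuotientGroup.mk_mul, ← QuotientGroup.mk_mul, hc y hy z hz]
    have c1 : Commute (((b : G) : G ⧸ D) ^ k) (((b : G) : G ⧸ D) ^ j) :=
      (Commute.refl _).zpow_zpow k j
    have c2 : Commute (((b : G) : G ⧸ D) ^ k) ((z : G) : G ⧸ D) := (hby z hz).zpow_left k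
    have c3 : Commute ((y : G) : G ⧸ D) (((b : G) : G ⧸ D) ^ j) := ((hby y hy).symm).zpow_right j
    have := ((c1.mul_right c2).mul_left (c3.mul_right hyz)).eq
    rw [QuotientGroup.mk_mul, QuotientGroup.mk_mul, QuotientGroup.mk_zpow, QuotientGroup.mk_zpow]
    exact this
  have hge : D ≤ commutator G := by
    rw [hD]
    rintro _ ⟨_, ⟨y, rfl⟩, rfl⟩
    change b * (y : G) * b⁻¹ * (y : G)⁻¹ ∈ commutator G
    exact Subgroup.commutator_mem_commutator (Subgroup.mem_top b) (Subgroup.mem_top (y : G))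
  have heq : commutator G = D := le_antisymm hle hge
  -- cardinalities
  have h1 : Nat.card D = Nat.card ψ.range := by
    rw [hD]
    exact Subgroup.card_map_of_injective N.subtype_injective
  have h2 : Nat.card ψ.ker = Nat.card (N ⊓ Subgroup.center G : Subgroup G) := by
    refine Nat.card_congr ⟨fun k => ⟨((k : ↥N) : G), ?_⟩, fun w => ⟨⟨(w : G), w.2.1⟩, ?_⟩, ?_, ?_⟩
    · refine ⟨(k : ↥N).2, ?_⟩
      apply mem_center_of_comm_gen N hN b hb _ (k : ↥N).2
      have hk : ψ (k : ↥N) = 1 := k.2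
      have hk' : b * ((k : ↥N) : G) * b⁻¹ * ((k : ↥N) : G)⁻¹ = 1 := congrArg Subtype.val hk
      have := mul_inv_eq_one.mp hk'
      calc ((k : ↥N) : G) * b = (b * ((k : ↥N) : G) * b⁻¹) * b := by rw [this]
        _ = b * ((k : ↥N) : G) := by group
    · rw [MonoidHom.mem_ker]
      apply Subtype.ext
      change b * (w : G) * b⁻¹ * (w : G)⁻¹ = 1
      have := Subgroup.mem_center_iff.mp w.2.2 b
      rw [this]; group
    · intro k; rfl
    · intro w; rfl
  rw [heq, h1, h2.symm, ← Subgroup.index_ker, mul_comm, Subgroup.card_mul_index]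

/-- **Center index** of a metacyclic-type `p`-group for odd `p`: `|G : Z(G)| = |G'|²`. -/
theorem index_center_eq_sq [Finite G] {p : ℕ} [Fact p.Prime] (hodd : p ≠ 2) (hG : IsPGroup p G)
    (hGN : commutator G ≤ N) :
    (Subgroup.center G).index = Nat.card (commutator G) ^ 2 ∧
    Nat.card (commutator G) * Nat.card (Subgroup.centralizer (N : Set G)) = Nat.card G := by
  have hNH : N ≤ Subgroup.centralizer (N : Set G) := by
    intro y hy
    rw [Subgroup.mem_centralizer_iff]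
    intro z hz
    exact comm_of_cyclic N hN z hz y hy
  have hZH : Subgroup.center G ≤ Subgroup.centralizer (N : Set G) := Subgroup.center_le_centralizer _
  -- (L4)
  have h4 := card_mul_card_centralizer_eq hodd hG N hN hGN hZH
  rw [centralizer_centralizer_eq N hN b hb] at h4
  -- (L5)
  have h5 := card_mul_card_centralizer_eq hodd hG N hN hGN
    (le_sup_right : Subgroup.center G ≤ N ⊔ Subgroup.center G)
  rw [centralizer_sup_center] at h5
  have h6 := card_sup_mul_card_inf N (Subgroup.center G)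
  have h7 := card_commutator_mul N hN b hb
  have hZpos : 0 < Nat.card (Subgroup.center G) := Nat.card_pos
  have hIpos : 0 < Nat.card (N ⊓ Subgroup.center G : Subgroup G) := Nat.card_pos
  have hHpos : 0 < Nat.card (Subgroup.centralizer (N : Set G)) := Nat.card_pos
  obtain ⟨c, hcdef⟩ : ∃ c, c = Nat.card (commutator G) := ⟨_, rfl⟩
  obtain ⟨h, hhdef⟩ : ∃ h, h = Nat.card (Subgroup.centralizer (N : Set G)) := ⟨_, rfl⟩
  obtain ⟨z, hzdef⟩ : ∃ z, z = Nat.card (Subgroup.center G) := ⟨_, rfl⟩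
  obtain ⟨i, hidef⟩ : ∃ i, i = Nat.card (N ⊓ Subgroup.center G : Subgroup G) := ⟨_, rfl⟩
  obtain ⟨s, hsdef⟩ : ∃ s, s = Nat.card (N ⊔ Subgroup.center G : Subgroup G) := ⟨_, rfl⟩
  obtain ⟨n, hndef⟩ : ∃ n, n = Nat.card N := ⟨_, rfl⟩
  obtain ⟨g, hgdef⟩ : ∃ g, g = Nat.card G := ⟨_, rfl⟩
  rw [← hhdef, ← hgdef, ← hzdef] at h4
  rw [← hsdef, ← hhdef, ← hgdef, ← hzdef] at h5
  rw [← hsdef, ← hidef, ← hndef, ← hzdef] at h6
  rw [← hcdef, ← hidef, ← hndef] at h7
  rw [← hzdef] at hZpos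
  rw [← hidef] at hIpos
  rw [← hhdef] at hHpos
  -- c * h = g
  have hch : c * h = g := by
    have e1 : (s * i) * h = (n * z) * h := by rw [h6]
    have e2 : (s * h) * i = (g * z) * i := by rw [h5]
    have e3 : (c * i) * z * h = g * z * i := by rw [h7]; nlinarith
    have e4 : (c * h) * (i * z) = g * (i * z) := by nlinarith
    exact Nat.eq_of_mul_eq_mul_right (Nat.mul_pos hIpos hZpos) e4
  refine ⟨?_, by rw [← hcdef, ← hhdef, ← hgdef]; exact hch⟩
  have hidx := (Subgroup.center G).card_mul_index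
  rw [← hzdef, ← hgdef] at hidx
  rw [← hcdef]
  -- z * idx = g, h*h = g*z, c*h = g ⟹ idx = c^2
  have e5 : (h * h) * (Subgroup.center G).index = (h * h) * c ^ 2 := by
    calc (h * h) * (Subgroup.center G).index = (g * z) * (Subgroup.center G).index := by rw [h4]
      _ = g * (z * (Subgroup.center G).index) := by ring
      _ = g * g := by rw [hidx]
      _ = (c * h) * (c * h) := by rw [hch]
      _ = (h * h) * c ^ 2 := by ring
  exact Nat.eq_of_mul_eq_mul_left (Nat.mul_pos hHpos hHpos) e5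

end Gen

end Cfsg.Agent.Lib.Helper2.MetaOdd
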