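import Mathlib
import Cfsg.Agent.Lib.Helper2.MetaOdd3
import Cfsg.Agent.Lib.Helper4.ConjClass

set_option autoImplicit false
open scoped commutatorElement

namespace Cfsg.Agent.Lib.Helper2.MetaOdd

theorem emultiplicity_geom_pow {p : ℕ} (hp : p.Prime) (hodd : p ≠ 2) (κ : ℕ) (hκ : κ ≡ 1 [MOD p])
    (e : ℕ) : emultiplicity p (∑ i ∈ Finset.range (p ^ e), κ ^ i) = e := by
  by_cases h1 : κ = 1
  · subst h1
    simp only [one_pow, Finset.sum_const, Finset.card_range, smul_eq_mul, mul_one]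
    exact emultiplicity_pow_self_of_prime (Nat.prime_iff.mp hp) e
  have hp' : Prime (p : ℤ) := Nat.prime_iff_prime_int.mp hp
  have hodd' : Odd p := hp.odd_of_ne_two hodd
  have hxy : (p : ℤ) ∣ (κ : ℤ) - 1 := by
    have := (Int.natCast_modEq_iff.mpr hκ).symm.dvd
    simpa using this
  have hx : ¬ (p : ℤ) ∣ (κ : ℤ) := by
    intro h
    have h1 : (p : ℤ) ∣ 1 := by
      have := dvd_sub h hxy
      simpa using this
    have := Int.natCast_dvd_natCast.mp (by simpa using h1 : ((p : ℕ) : ℤ) ∣ ((1 : ℕ) : ℤ))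
    exact hp.one_lt.ne' (Nat.dvd_one.mp this)
  have hmul := geom_sum_mul (κ : ℤ) (p ^ e)
  have hlte := Int.emultiplicity_pow_sub_pow hp hodd' (x := (κ : ℤ)) (y := 1)
    (by simpa using hxy) hx (p ^ e)
  rw [one_pow, ← hmul, emultiplicity_mul hp', emultiplicity_pow_self_of_prime (Nat.prime_iff.mp hp) e,
    add_comm] at hlte
  have hfin : emultiplicity (p : ℤ) ((κ : ℤ) - 1) ≠ ⊤ := by
    rw [← finiteMultiplicity_iff_emultiplicity_ne_top, Int.finiteMultiplicity_iff]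
    refine ⟨?_, ?_⟩
    · simpa using hp.ne_one
    · intro h
      apply h1
      have : (κ : ℤ) = 1 := by linarith
      exact_mod_cast this
  have h2 := ENat.add_right_injective_of_ne_top hfin hlte
  rw [← Int.natCast_emultiplicity]
  push_cast
  exact h2

variable {G : Type*} [Group G]

/-- `[c, x^(p^e)] = 1` iff `[c, x]^(p^e) = 1`. -/
theorem comm_pow_prime_pow_iff [Finite G] {p : ℕ} [hp : Fact p.Prime] (hodd : p ≠ 2)
    (hG : IsPGroup p G) (N : Subgroup G) (c x : G) (κ : ℕ) (hκ1 : κ ≡ 1 [MOD p])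
    (hd : c * x * c⁻¹ * x⁻¹ ∈ N) (hκ : ∀ y ∈ N, x * y * x⁻¹ = y ^ κ) (e : ℕ) :
    c * x ^ p ^ e = x ^ p ^ e * c ↔ (c * x * c⁻¹ * x⁻¹) ^ p ^ e = 1 := by
  have h1 := comm_pow_eq N c x κ hd hκ (p ^ e)
  obtain ⟨d, hddef⟩ : ∃ d, d = c * x * c⁻¹ * x⁻¹ := ⟨_, rfl⟩
  rw [← hddef] at h1 ⊢
  have h2 : c * x ^ p ^ e = x ^ p ^ e * c ↔ c * x ^ p ^ e * c⁻¹ * (x ^ p ^ e)⁻¹ = 1 := by
    constructor
    · intro h; rw [h]; group
    · intro h
      have := mul_inv_eq_one.mp h
      calc c * x ^ p ^ e = (c * x ^ p ^ e * c⁻¹) * c := by group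
        _ = x ^ p ^ e * c := by rw [this]
  rw [h2, h1]
  obtain ⟨s, hs⟩ := hG d
  obtain ⟨u, hu, hu2⟩ := (Nat.dvd_prime_pow hp.out).mp (orderOf_dvd_of_pow_eq_one hs)
  have hem := emultiplicity_geom_pow hp.out hodd κ hκ1 e
  rw [← orderOf_dvd_iff_pow_eq_one, ← orderOf_dvd_iff_pow_eq_one, hu2,
    pow_dvd_iff_le_emultiplicity, hem, Nat.pow_dvd_pow_iff_le_right hp.out.one_lt]
  exact Nat.cast_le

/-- Elements of `N` of order dividing `q`. -/
def omegaSub (N : Subgroup G) (hc : ∀ y ∈ N, ∀ z ∈ N, y * z = z * y) (q : ℕ) : Subgroup G where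
  carrier := {y | y ∈ N ∧ y ^ q = 1}
  one_mem' := ⟨N.one_mem, one_pow _⟩
  mul_mem' := by
    rintro y z ⟨hy, hyp⟩ ⟨hz, hzp⟩
    refine ⟨N.mul_mem hy hz, ?_⟩
    rw [(Commute.mul_pow (hc y hy z hz) q), hyp, hzp, one_mul]
  inv_mem' := by
    rintro y ⟨hy, hyp⟩
    exact ⟨N.inv_mem hy, by rw [inv_pow, hyp, inv_one]⟩

theorem mem_omegaSub {N : Subgroup G} {hc : ∀ y ∈ N, ∀ z ∈ N, y * z = z * y} {q : ℕ} {y : G} :
    y ∈ omegaSub N hc q ↔ y ∈ N ∧ y ^ q = 1 := Iff.rfl

theorem omegaSub_conj_mem (N : Subgroup G) [hNn : N.Normal]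
    (hc : ∀ y ∈ N, ∀ z ∈ N, y * z = z * y) (q : ℕ) (y : G) (hy : y ∈ omegaSub N hc q) (g : G) :
    g * y * g⁻¹ ∈ omegaSub N hc q := by
  refine ⟨hNn.conj_mem _ hy.1 g, ?_⟩
  rw [conj_pow, hy.2]; group

theorem card_omegaSub_le [Finite G] (N : Subgroup G) (hN : IsCyclic N)
    (hc : ∀ y ∈ N, ∀ z ∈ N, y * z = z * y) (q : ℕ) (hq : 0 < q) :
    Nat.card (omegaSub N hc q) ≤ q := by
  have hle : omegaSub N hc q ≤ N := fun y hy => hy.1
  haveI : IsCyclic ↥(omegaSub N hc q) := Subgroup.isCyclic_of_le hle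
  apply Cfsg.Agent.Lib.Helper1.card_le_of_isCyclic_of_pow_eq_one hq
  intro c
  apply Subtype.ext
  rw [Subgroup.coe_pow, Subgroup.coe_one]
  exact c.2.2

/-- The elements all of whose commutators lie in a given set closed under conjugation form a
subgroup. -/
def commCore (M : Subgroup G) (hM : ∀ y ∈ M, ∀ g : G, g * y * g⁻¹ ∈ M) : Subgroup G where
  carrier := {g | ∀ x : G, g * x * g⁻¹ * x⁻¹ ∈ M}
  one_mem' := by intro x; simp [M.one_mem]
  mul_mem' := by
    intro g h hg hh x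
    have h1 : (g * h) * x * (g * h)⁻¹ * x⁻¹ =
        (g * (h * x * h⁻¹ * x⁻¹) * g⁻¹) * (g * x * g⁻¹ * x⁻¹) := by group
    rw [h1]
    exact M.mul_mem (hM _ (hh x) g) (hg x)
  inv_mem' := by
    intro g hg x
    have h1 : g⁻¹ * x * g⁻¹⁻¹ * x⁻¹ = g⁻¹ * (g * x * g⁻¹ * x⁻¹)⁻¹ * g⁻¹⁻¹ := by group
    rw [h1]
    exact hM _ (M.inv_mem (hg x)) g⁻¹

/-- `T e = {g | g^(p^e) ∈ Z(G)}` as a subgroup. -/
def T (p : ℕ) (N : Subgroup G) [N.Normal] (hN : IsCyclic N) (e : ℕ) : Subgroup G :=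
  commCore (omegaSub N (comm_of_cyclic N hN) (p ^ e))
    (fun y hy g => omegaSub_conj_mem N (comm_of_cyclic N hN) (p ^ e) y hy g)

section Main

variable [Finite G] {p : ℕ} [hp : Fact p.Prime] (hodd : p ≠ 2) (hG : IsPGroup p G)
  (N : Subgroup G) [hNn : N.Normal] (hN : IsCyclic N) (hGN : commutator G ≤ N)

include hodd hG hN hGN

/-- Class size equals the order modulo the center. -/
theorem index_centralizer_eq_orderOf (g : G) :
    (Subgroup.centralizer ({g} : Set G)).index = orderOf ((g : G) : G ⧸ Subgroup.center G) := by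
  have h1 := card_mul_card_centralizer_eq hodd hG N hN hGN
    (le_sup_right : Subgroup.center G ≤ Subgroup.zpowers g ⊔ Subgroup.center G)
  rw [centralizer_sup_center] at h1
  have h2 : Subgroup.centralizer ((Subgroup.zpowers g : Subgroup G) : Set G) =
      Subgroup.centralizer ({g} : Set G) := by
    rw [Subgroup.zpowers_eq_closure, Subgroup.centralizer_closure]
  rw [h2] at h1
  have h3 : Nat.card (Subgroup.zpowers g ⊔ Subgroup.center G : Subgroup G) =
      Nat.card (Subgroup.center G) * orderOf ((g : G) : G ⧸ Subgroup.center G) := by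
    have e1 := Subgroup.relIndex_mul_relIndex (⊥ : Subgroup G) (Subgroup.center G)
      (Subgroup.zpowers g ⊔ Subgroup.center G) bot_le le_sup_right
    rw [Subgroup.relIndex_bot_left, Subgroup.relIndex_bot_left] at e1
    rw [← e1, Subgroup.relIndex_sup_right]
    congr 1
    have e2 := Subgroup.relIndex_ker (K := Subgroup.zpowers g)
      (QuotientGroup.mk' (Subgroup.center G))
    rw [QuotientGroup.ker_mk'] at e2
    rw [e2, MonoidHom.map_zpowers, Nat.card_zpowers]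
    rfl
  rw [h3] at h1
  have h4 := (Subgroup.centralizer ({g} : Set G)).card_mul_index
  have hZpos : 0 < Nat.card (Subgroup.center G) := Nat.card_pos
  have hCpos : 0 < Nat.card (Subgroup.centralizer ({g} : Set G)) := Nat.card_pos
  have h5 : Nat.card (Subgroup.centralizer ({g} : Set G)) *
      orderOf ((g : G) : G ⧸ Subgroup.center G) =
      Nat.card (Subgroup.centralizer ({g} : Set G)) * (Subgroup.centralizer ({g} : Set G)).index := by
    rw [h4]
    have : Nat.card (Subgroup.center G) * (Nat.card (Subgroup.centralizer ({g} : Set G)) *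
        orderOf ((g : G) : G ⧸ Subgroup.center G)) = Nat.card (Subgroup.center G) * Nat.card G := by
      calc Nat.card (Subgroup.center G) * (Nat.card (Subgroup.centralizer ({g} : Set G)) *
            orderOf ((g : G) : G ⧸ Subgroup.center G))
          = Nat.card (Subgroup.center G) * orderOf ((g : G) : G ⧸ Subgroup.center G) *
            Nat.card (Subgroup.centralizer ({g} : Set G)) := by ring
        _ = Nat.card G * Nat.card (Subgroup.center G) := h1
        _ = _ := by ring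
    exact Nat.eq_of_mul_eq_mul_left hZpos this
  exact (Nat.eq_of_mul_eq_mul_left hCpos h5).symm

theorem index_centralizer_le_iff (g : G) (e : ℕ) :
    (Subgroup.centralizer ({g} : Set G)).index ≤ p ^ e ↔ g ^ p ^ e ∈ Subgroup.center G := by
  rw [index_centralizer_eq_orderOf hodd hG N hN hGN g]
  have hq : IsPGroup p (G ⧸ Subgroup.center G) := hG.to_quotient _
  obtain ⟨s, hs⟩ := hq ((g : G) : G ⧸ Subgroup.center G)
  obtain ⟨u, hu, hu2⟩ := (Nat.dvd_prime_pow hp.out).mp (orderOf_dvd_of_pow_eq_one hs)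
  rw [← QuotientGroup.eq_one_iff, QuotientGroup.mk_pow, ← orderOf_dvd_iff_pow_eq_one, hu2,
    Nat.pow_dvd_pow_iff_le_right hp.out.one_lt]
  exact Nat.pow_le_pow_iff_right hp.out.one_lt

omit hodd hN hNn hGN in
theorem index_centralizer_le_card_commutator (g : G) :
    (Subgroup.centralizer ({g} : Set G)).index ≤ Nat.card (commutator G) := by
  rw [← Cfsg.Agent.Lib.Helper4.card_carrier_eq_index]
  refine Nat.card_le_card_of_injective
    (fun c : (ConjClasses.mk g).carrier => (⟨(c : G) * g⁻¹, ?_⟩ : commutator G)) ?_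
  · have hc := c.2
    rw [ConjClasses.mem_carrier_iff_mk_eq, ConjClasses.mk_eq_mk_iff_isConj, isConj_comm,
      isConj_iff] at hc
    obtain ⟨y, hy⟩ := hc
    rw [← hy]
    exact Subgroup.commutator_mem_commutator (Subgroup.mem_top y) (Subgroup.mem_top g)
  · intro c d hcd
    have : (c : G) * g⁻¹ = (d : G) * g⁻¹ := congrArg Subtype.val hcd
    exact Subtype.ext (mul_right_cancel this)

/-- `G / Z(G)` has exponent dividing `|G'|`. -/
theorem pow_card_commutator_mem_center (n : ℕ) (hn : Nat.card (commutator G) = p ^ n) (g : G) :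
    g ^ p ^ n ∈ Subgroup.center G := by
  rw [← index_centralizer_le_iff hodd hG N hN hGN, ← hn]
  exact index_centralizer_le_card_commutator hG g


omit hodd hG hGN hp in
theorem mem_T_iff_comm (e : ℕ) (g : G) :
    g ∈ T p N hN e ↔ ∀ x : G, g * x * g⁻¹ * x⁻¹ ∈ N ∧ (g * x * g⁻¹ * x⁻¹) ^ p ^ e = 1 :=
  Iff.rfl

theorem comm_mem (c x : G) : c * x * c⁻¹ * x⁻¹ ∈ N := by
  apply hGN
  have : c * x * c⁻¹ * x⁻¹ = ⁅c, x⁆ := rfl
  rw [this]
  exact Subgroup.commutator_mem_commutator (Subgroup.mem_top c) (Subgroup.mem_top x)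

theorem mem_T_iff_pow (e : ℕ) (g : G) :
    g ∈ T p N hN e ↔ g ^ p ^ e ∈ Subgroup.center G := by
  rw [mem_T_iff_comm, Subgroup.mem_center_iff]
  obtain ⟨κ, hκ1, hκ⟩ := exists_pow_conj_modEq p hG N hN g
  constructor
  · intro h x
    have h1 := (comm_pow_prime_pow_iff hodd hG N x g κ hκ1 (comm_mem hodd hG N hN hGN x g) hκ e).mpr
    apply h1
    have h2 := (h x).2
    have h3 : x * g * x⁻¹ * g⁻¹ = (g * x * g⁻¹ * x⁻¹)⁻¹ := by group
    rw [h3, inv_pow, h2, inv_one]
  · intro h x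
    refine ⟨comm_mem hodd hG N hN hGN g x, ?_⟩
    have h1 := (comm_pow_prime_pow_iff hodd hG N x g κ hκ1 (comm_mem hodd hG N hN hGN x g) hκ e).mp
      (h x)
    have h3 : g * x * g⁻¹ * x⁻¹ = (x * g * x⁻¹ * g⁻¹)⁻¹ := by group
    rw [h3, inv_pow, h1, inv_one]

/-- `T e` is the centralizer of the subgroup generated by `p^e`-th powers. -/
theorem T_eq_centralizer (e : ℕ) :
    T p N hN e =
      Subgroup.centralizer ((Subgroup.closure {x : G | ∃ y : G, y ^ p ^ e = x} : Subgroup G) : Set G) := by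
  rw [Subgroup.centralizer_closure]
  ext g
  rw [mem_T_iff_comm, Subgroup.mem_centralizer_iff]
  constructor
  · rintro h _ ⟨y, rfl⟩
    obtain ⟨κ, hκ1, hκ⟩ := exists_pow_conj_modEq p hG N hN y
    exact ((comm_pow_prime_pow_iff hodd hG N g y κ hκ1 (h y).1 hκ e).mpr (h y).2).symm
  · intro h x
    refine ⟨comm_mem hodd hG N hN hGN g x, ?_⟩
    obtain ⟨κ, hκ1, hκ⟩ := exists_pow_conj_modEq p hG N hN x
    exact (comm_pow_prime_pow_iff hodd hG N g x κ hκ1 (comm_mem hodd hG N hN hGN g x) hκ e).mp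
      (h _ ⟨x, rfl⟩).symm

theorem T_zero : T p N hN 0 = Subgroup.center G := by
  ext g
  rw [mem_T_iff_pow hodd hG N hN hGN, pow_zero, pow_one]

theorem T_mono {e e' : ℕ} (h : e ≤ e') : T p N hN e ≤ T p N hN e' := by
  intro g hg
  rw [mem_T_iff_pow hodd hG N hN hGN] at hg ⊢
  obtain ⟨k, rfl⟩ := Nat.exists_eq_add_of_le h
  rw [pow_add, pow_mul]
  exact Subgroup.pow_mem _ hg _

theorem center_le_T (e : ℕ) : Subgroup.center G ≤ T p N hN e := by
  rw [← T_zero hodd hG N hN hGN]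
  exact T_mono hodd hG N hN hGN (Nat.zero_le e)

theorem power_closure_le_T (n : ℕ) (hn : Nat.card (commutator G) = p ^ n) (s : ℕ) (hs : s ≤ n) :
    Subgroup.closure {x : G | ∃ y : G, y ^ p ^ s = x} ≤ T p N hN (n - s) := by
  rw [Subgroup.closure_le]
  rintro _ ⟨y, rfl⟩
  rw [SetLike.mem_coe, mem_T_iff_pow hodd hG N hN hGN, ← pow_mul, ← pow_add, Nat.add_sub_cancel' hs]
  exact pow_card_commutator_mem_center hodd hG N hN hGN n hn y

end Main

/-- In a finite cyclic group of order `a * b`, an element killed by `b` is an `a`-th power. -/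
theorem exists_pow_eq_of_pow_eq_one {A : Type*} [Group A] [Finite A] (hA : IsCyclic A) (a b : ℕ)
    (hb : 0 < b) (hcard : Nat.card A = a * b) (y : A) (hy : y ^ b = 1) : ∃ z : A, z ^ a = y := by
  obtain ⟨g, hg⟩ := hA.exists_generator
  obtain ⟨j, rfl⟩ := hg y
  have hord : orderOf g = a * b := by
    rw [← hcard]; exact orderOf_eq_card_of_forall_mem_zpowers hg
  have h1 : (g ^ j) ^ (b : ℤ) = 1 := by rw [zpow_natCast]; exact hy
  rw [← zpow_mul, ← orderOf_dvd_iff_zpow_eq_one, hord] at h1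
  have h2 : (a : ℤ) ∣ j := by
    have h3 : ((a : ℤ) * (b : ℤ)) ∣ j * (b : ℤ) := by exact_mod_cast h1
    exact (mul_dvd_mul_iff_right (by exact_mod_cast hb.ne')).mp h3
  obtain ⟨j', rfl⟩ := h2
  refine ⟨g ^ j', ?_⟩
  rw [← zpow_natCast, ← zpow_mul, mul_comm]

section Gen2

variable [Finite G] {p : ℕ} [hp : Fact p.Prime] (hodd : p ≠ 2) (hG : IsPGroup p G)
  (N : Subgroup G) [hNn : N.Normal] (hN : IsCyclic N) (hGN : commutator G ≤ N)
  (b : G) (hb : ∀ g : G, ∃ k : ℤ, ∃ y ∈ N, g = b ^ k * y)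

include hodd hG hN hGN hb

theorem le_centralizer_self : N ≤ Subgroup.centralizer (N : Set G) := by
  intro y hy
  rw [Subgroup.mem_centralizer_iff]
  intro z hz
  exact comm_of_cyclic N hN z hz y hy

/-- `b` has order `|G'|` modulo `C_G(N)`. -/
theorem orderOf_gen_mod_centralizer :
    orderOf ((b : G) : G ⧸ Subgroup.centralizer (N : Set G)) = Nat.card (commutator G) := by
  have hNH := le_centralizer_self hodd hG N hN hGN b hb
  have h1 := (index_center_eq_sq N hN b hb hodd hG hGN).2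
  have h2 := (Subgroup.centralizer (N : Set G)).card_mul_index
  have h3 : (Subgroup.centralizer (N : Set G)).index = Nat.card (commutator G) := by
    have hpos : 0 < Nat.card (Subgroup.centralizer (N : Set G)) := Nat.card_pos
    apply Nat.eq_of_mul_eq_mul_left hpos
    rw [h2, ← h1, mul_comm]
  rw [← h3, Subgroup.index_eq_card]
  apply orderOf_eq_card_of_forall_mem_zpowers
  intro q
  obtain ⟨g, rfl⟩ := QuotientGroup.mk_surjective q
  obtain ⟨k, y, hy, rfl⟩ := hb g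
  refine ⟨k, ?_⟩
  show ((b : G) : G ⧸ Subgroup.centralizer (N : Set G)) ^ k = _
  rw [QuotientGroup.mk_mul, QuotientGroup.mk_zpow, (QuotientGroup.eq_one_iff y).mpr (hNH hy), mul_one]

theorem T_le_power_closure (n : ℕ) (hn : Nat.card (commutator G) = p ^ n) (s : ℕ) (hs : s ≤ n) :
    T p N hN (n - s) ≤ Subgroup.closure {x : G | ∃ y : G, y ^ p ^ s = x} := by
  have hNH := le_centralizer_self hodd hG N hN hGN b hb
  have hc := comm_of_cyclic N hN
  have hord := orderOf_gen_mod_centralizer hodd hG N hN hGN b hb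
  rw [hn] at hord
  intro g hg
  obtain ⟨k, y, hy, rfl⟩ := hb g
  -- Step 1: `p^s ∣ k`
  have hZ := (mem_T_iff_pow hodd hG N hN hGN (n - s) (b ^ k * y)).mp hg
  have hZH : Subgroup.center G ≤ Subgroup.centralizer (N : Set G) := Subgroup.center_le_centralizer _
  have h1 : (((b ^ k * y : G) : G ⧸ Subgroup.centralizer (N : Set G))) ^ p ^ (n - s) = 1 := by
    rw [← QuotientGroup.mk_pow, QuotientGroup.eq_one_iff]
    exact hZH hZ
  rw [QuotientGroup.mk_mul, QuotientGroup.mk_zpow, (QuotientGroup.eq_one_iff y).mpr (hNH hy), mul_one,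
    ← zpow_natCast, ← zpow_mul, ← orderOf_dvd_iff_zpow_eq_one, hord] at h1
  have hk : ((p : ℤ) ^ s) ∣ k := by
    have h2 : ((p : ℤ) ^ s * (p : ℤ) ^ (n - s)) ∣ k * (p : ℤ) ^ (n - s) := by
      rw [← pow_add, Nat.add_sub_cancel' hs]
      exact_mod_cast h1
    exact (mul_dvd_mul_iff_right (pow_ne_zero _ (by exact_mod_cast hp.out.ne_zero))).mp h2
  -- Step 2: `y^(p^(n-s))` is central
  have hcomm := ((mem_T_iff_comm N hN (n - s) (b ^ k * y)).mp hg b).2
  have hconj : (b ^ k * y) * b * (b ^ k * y)⁻¹ * b⁻¹ = b ^ k * (y * b * y⁻¹ * b⁻¹) * (b ^ k)⁻¹ := by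
    have hbk : b ^ k * b = b * b ^ k := (Commute.zpow_self b k).eq.symm ▸ rfl
    have : (b ^ k)⁻¹ * b⁻¹ = b⁻¹ * (b ^ k)⁻¹ := by
      rw [← mul_inv_rev, ← mul_inv_rev, hbk]
    rw [mul_inv_rev]
    calc b ^ k * y * b * (y⁻¹ * (b ^ k)⁻¹) * b⁻¹
        = b ^ k * y * b * y⁻¹ * ((b ^ k)⁻¹ * b⁻¹) := by group
      _ = b ^ k * y * b * y⁻¹ * (b⁻¹ * (b ^ k)⁻¹) := by rw [this]
      _ = _ := by group
  rw [hconj, conj_pow] at hcomm
  have hd : (y * b * y⁻¹ * b⁻¹) ^ p ^ (n - s) = 1 := by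
    have := congrArg (fun t => (b ^ k)⁻¹ * t * b ^ k) hcomm
    simpa [mul_assoc] using this
  have hyb : b * y ^ p ^ (n - s) = y ^ p ^ (n - s) * b := by
    refine (comm_pow_prime_pow_iff hodd hG N b y 1 (Nat.ModEq.refl 1)
      (comm_mem hodd hG N hN hGN b y) ?_ (n - s)).mpr ?_
    · intro z hz
      rw [pow_one, hc y hy z hz]; group
    · have h3 : b * y * b⁻¹ * y⁻¹ = (y * b * y⁻¹ * b⁻¹)⁻¹ := by group
      rw [h3, inv_pow, hd, inv_one]
  have hyZ : y ^ p ^ (n - s) ∈ Subgroup.center G :=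
    mem_center_of_comm_gen N hN b hb _ (N.pow_mem hy _) hyb.symm
  -- Step 3: `y^(p^(m-s)) = 1`
  have hNp : IsPGroup p N := hG.to_subgroup N
  obtain ⟨m, hm⟩ := IsPGroup.iff_card.mp hNp
  have hcm := card_commutator_mul N hN b hb
  rw [hn, hm] at hcm
  have hnm : n ≤ m := by
    have : p ^ n ∣ p ^ m := Dvd.intro _ hcm
    exact (Nat.pow_dvd_pow_iff_le_right hp.out.one_lt).mp this
  have hNZ : Nat.card (N ⊓ Subgroup.center G : Subgroup G) = p ^ (m - n) := by
    have hpos : 0 < p ^ n := pow_pos hp.out.pos n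
    apply Nat.eq_of_mul_eq_mul_left hpos
    rw [hcm, ← pow_add, Nat.add_sub_cancel' hnm]
  have hy1 : y ^ p ^ (m - s) = 1 := by
    have hmem : y ^ p ^ (n - s) ∈ (N ⊓ Subgroup.center G : Subgroup G) := ⟨N.pow_mem hy _, hyZ⟩
    have := congrArg Subtype.val
      (pow_card_eq_one' (x := (⟨_, hmem⟩ : (N ⊓ Subgroup.center G : Subgroup G))))
    rw [Subgroup.coe_pow, Subgroup.coe_one, hNZ, ← pow_mul, ← pow_add] at this
    have he : n - s + (m - n) = m - s := by omega
    rwa [he] at this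
  -- Step 4: `y` is a `p^s`-th power
  have hsm : s ≤ m := hs.trans hnm
  obtain ⟨z, hz⟩ := exists_pow_eq_of_pow_eq_one hN (p ^ s) (p ^ (m - s)) (pow_pos hp.out.pos _)
    (by rw [hm, ← pow_add, Nat.add_sub_cancel' hsm]) ⟨y, hy⟩
    (by apply Subtype.ext; rw [Subgroup.coe_pow, Subgroup.coe_one]; exact hy1)
  obtain ⟨k', rfl⟩ := hk
  refine Subgroup.mul_mem _ (Subgroup.subset_closure ⟨b ^ k', ?_⟩)
    (Subgroup.subset_closure ⟨(z : G), ?_⟩)
  · rw [← zpow_natCast, ← zpow_mul, mul_comm]; push_cast; rfl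
  · have := congrArg Subtype.val hz
    rwa [Subgroup.coe_pow] at this

theorem power_closure_eq_T (n : ℕ) (hn : Nat.card (commutator G) = p ^ n) (s : ℕ) (hs : s ≤ n) :
    Subgroup.closure {x : G | ∃ y : G, y ^ p ^ s = x} = T p N hN (n - s) :=
  le_antisymm (power_closure_le_T hodd hG N hN hGN n hn s hs)
    (T_le_power_closure hodd hG N hN hGN b hb n hn s hs)

end Gen2

end Cfsg.Agent.Lib.Helper2.MetaOdd
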