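import Mathlib
import Cfsg.Agent.Lib.Helper2.MetaOdd4
import Cfsg.Agent.Lib.Helper1.Metacyclic

set_option autoImplicit false
open scoped commutatorElement

namespace Cfsg.Agent.Lib.Helper2.MetaOdd

variable {G : Type*} [Group G]

theorem card_eq_card_ker_mul_card_map {H : Type*} [Group H] (f : G →* H) (K : Subgroup G)
    (hK : f.ker ≤ K) : Nat.card K = Nat.card f.ker * Nat.card (K.map f) := by
  have e1 := Subgroup.relIndex_mul_relIndex (⊥ : Subgroup G) f.ker K bot_le hK
  rw [Subgroup.relIndex_bot_left, Subgroup.relIndex_bot_left, Subgroup.relIndex_ker] at e1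
  exact e1.symm

/-- In a metacyclic group, a subgroup `K ≥ Z` with `K^q ⊆ Z` (`Z` normal) has `|K| ≤ |Z| q²`. -/
theorem card_le_sq_of_pow_mem [Finite G] (N : Subgroup G) [hNn : N.Normal] (hN : IsCyclic N)
    (hQ : IsCyclic (G ⧸ N)) (Z : Subgroup G) [Z.Normal] (K : Subgroup G) (hZK : Z ≤ K) (q : ℕ)
    (hq : 0 < q) (hK : ∀ k ∈ K, k ^ q ∈ Z) : Nat.card K ≤ Nat.card Z * q ^ 2 := by
  have hsurj : Function.Surjective (QuotientGroup.mk' Z) := QuotientGroup.mk'_surjective Z
  haveI hN'n : (N.map (QuotientGroup.mk' Z)).Normal := hNn.map _ hsurj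
  haveI hN'c : IsCyclic ↥(N.map (QuotientGroup.mk' Z)) := by
    haveI := hN
    exact isCyclic_of_surjective ((QuotientGroup.mk' Z).subgroupMap N)
      ((QuotientGroup.mk' Z).subgroupMap_surjective N)
  haveI hQ'c : IsCyclic ((G ⧸ Z) ⧸ N.map (QuotientGroup.mk' Z)) := by
    haveI := hQ
    refine isCyclic_of_surjective (QuotientGroup.map N (N.map (QuotientGroup.mk' Z))
      (QuotientGroup.mk' Z) (Subgroup.le_comap_map _ _)) ?_
    intro x
    obtain ⟨y, rfl⟩ := QuotientGroup.mk_surjective x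
    obtain ⟨g, rfl⟩ := hsurj y
    exact ⟨(g : G ⧸ N), rfl⟩
  have h1 := Cfsg.Agent.Lib.Helper1.card_le_sq_of_metacyclic hq (N.map (QuotientGroup.mk' Z))
    (K.map (QuotientGroup.mk' Z)) (by
      rintro _ ⟨k, hk, rfl⟩
      rw [← map_pow]
      exact (QuotientGroup.eq_one_iff _).mpr (hK k hk))
  have h2 := card_eq_card_ker_mul_card_map (QuotientGroup.mk' Z) K
    (by rw [QuotientGroup.ker_mk']; exact hZK)
  rw [QuotientGroup.ker_mk'] at h2
  rw [h2]
  exact Nat.mul_le_mul_left _ h1

section Count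

variable [Finite G] {p : ℕ} [hp : Fact p.Prime] (hodd : p ≠ 2) (hG : IsPGroup p G)
  (N : Subgroup G) [hNn : N.Normal] (hN : IsCyclic N) (hQ : IsCyclic (G ⧸ N))

include hodd hG hN hQ

theorem card_T_le (e : ℕ) :
    Nat.card (T p N hN e) ≤ Nat.card (Subgroup.center G) * p ^ (2 * e) := by
  have hGN := commutator_le_of_cyclic_quotient N hQ
  have := card_le_sq_of_pow_mem N hN hQ (Subgroup.center G) (T p N hN e)
    (center_le_T hodd hG N hN hGN e) (p ^ e) (pow_pos hp.out.pos e)
    (fun k hk => (mem_T_iff_pow hodd hG N hN hGN e k).mp hk)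
  rwa [← pow_mul, mul_comm e 2] at this

theorem card_T_mul_card_T (n : ℕ) (hn : Nat.card (commutator G) = p ^ n) (e : ℕ) (he : e ≤ n) :
    Nat.card (T p N hN (n - e)) * Nat.card (T p N hN e) =
      Nat.card G * Nat.card (Subgroup.center G) := by
  have hGN := commutator_le_of_cyclic_quotient N hQ
  obtain ⟨b, hb⟩ := exists_gen_mod N hQ
  have h1 := T_eq_centralizer hodd hG N hN hGN e
  have h2 := power_closure_eq_T hodd hG N hN hGN b hb n hn e he
  rw [h2] at h1
  have h3 := card_mul_card_centralizer_eq hodd hG N hN hGN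
    (center_le_T hodd hG N hN hGN (n - e))
  rw [← h1] at h3
  exact h3

theorem card_T (n : ℕ) (hn : Nat.card (commutator G) = p ^ n) (e : ℕ) (he : e ≤ n) :
    Nat.card (T p N hN e) = Nat.card (Subgroup.center G) * p ^ (2 * e) := by
  have hGN := commutator_le_of_cyclic_quotient N hQ
  obtain ⟨b, hb⟩ := exists_gen_mod N hQ
  have h1 := card_T_le hodd hG N hN hQ e
  have h2 := card_T_le hodd hG N hN hQ (n - e)
  have h3 := card_T_mul_card_T hodd hG N hN hQ n hn e he
  have h4 := (index_center_eq_sq N hN b hb hodd hG hGN).1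
  have h5 := (Subgroup.center G).card_mul_index
  rw [h4, hn] at h5
  rw [← h5] at h3
  by_contra hne
  have hlt : Nat.card (T p N hN e) < Nat.card (Subgroup.center G) * p ^ (2 * e) :=
    lt_of_le_of_ne h1 hne
  have hpos : 0 < Nat.card (T p N hN (n - e)) := Nat.card_pos
  have h6 : Nat.card (T p N hN (n - e)) * Nat.card (T p N hN e) <
      (Nat.card (Subgroup.center G) * p ^ (2 * (n - e))) *
        (Nat.card (Subgroup.center G) * p ^ (2 * e)) :=
    Nat.mul_lt_mul_of_le_of_lt h2 hlt (lt_of_lt_of_le hpos h2)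
  rw [h3] at h6
  have h7 : (Nat.card (Subgroup.center G) * p ^ (2 * (n - e))) *
        (Nat.card (Subgroup.center G) * p ^ (2 * e)) =
      Nat.card (Subgroup.center G) * (p ^ n) ^ 2 * Nat.card (Subgroup.center G) := by
    have : (p ^ n) ^ 2 = p ^ (2 * (n - e)) * p ^ (2 * e) := by
      rw [← pow_mul, ← pow_add]; congr 1; omega
    rw [this]; ring
  rw [h7] at h6
  exact lt_irrefl _ h6

/-- Number of elements with class size exactly `p^i`. -/
theorem card_index_centralizer_eq (n : ℕ) (hn : Nat.card (commutator G) = p ^ n) (i : ℕ)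
    (hi : 1 ≤ i) (hin : i ≤ n) :
    Nat.card {g : G // (Subgroup.centralizer ({g} : Set G)).index = p ^ i} =
      Nat.card (Subgroup.center G) * (p ^ (2 * i) - p ^ (2 * i - 2)) := by
  have hGN := commutator_le_of_cyclic_quotient N hQ
  have hset : {g : G | (Subgroup.centralizer ({g} : Set G)).index = p ^ i} =
      (T p N hN i : Set G) \ (T p N hN (i - 1) : Set G) := by
    ext g
    rw [Set.mem_sdiff, SetLike.mem_coe, SetLike.mem_coe, mem_T_iff_pow hodd hG N hN hGN,
      mem_T_iff_pow hodd hG N hN hGN, ← index_centralizer_le_iff hodd hG N hN hGN,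
      ← index_centralizer_le_iff hodd hG N hN hGN, Set.mem_ofPred_eq]
    obtain ⟨k, hk⟩ := IsPGroup.iff_card.mp hG
    have hdvd : (Subgroup.centralizer ({g} : Set G)).index ∣ p ^ k := by
      rw [← hk]; exact Subgroup.index_dvd_card _
    obtain ⟨j, -, hj⟩ := (Nat.dvd_prime_pow hp.out).mp hdvd
    rw [hj, Nat.pow_le_pow_iff_right hp.out.one_lt, Nat.pow_le_pow_iff_right hp.out.one_lt]
    constructor
    · intro h
      have := Nat.pow_right_injective hp.out.two_le h
      omega
    · rintro ⟨h1, h2⟩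
      congr 1
      omega
  have hsub : (T p N hN (i - 1) : Set G) ⊆ (T p N hN i : Set G) :=
    SetLike.coe_subset_coe.mpr (T_mono hodd hG N hN hGN (Nat.sub_le i 1))
  have hc1 := card_T hodd hG N hN hQ n hn i hin
  have hc2 := card_T hodd hG N hN hQ n hn (i - 1) ((Nat.sub_le i 1).trans hin)
  change Nat.card ↥{g : G | (Subgroup.centralizer ({g} : Set G)).index = p ^ i} = _
  rw [hset, _root_.Nat.card_coe_set_eq, Set.ncard_sdiff hsub (Set.toFinite _),
    ← _root_.Nat.card_coe_set_eq, ← _root_.Nat.card_coe_set_eq]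
  change Nat.card (T p N hN i) - Nat.card (T p N hN (i - 1)) = _
  have he : 2 * (i - 1) = 2 * i - 2 := by omega
  rw [hc1, hc2, he, Nat.mul_sub]

end Count

end Cfsg.Agent.Lib.Helper2.MetaOdd
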