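import Mathlib
import Cfsg.Prelude.Def_OddOrderLocal
import Cfsg.Agent.Lib.Helper2.MetaOdd5
import Cfsg.Agent.Lib.Helper1.FrattiniP

set_option autoImplicit false
open scoped commutatorElement

namespace Cfsg.Agent.Lib.Helper2.MetaOdd

variable {G : Type*} [Group G]

/-- Subgroups of metacyclic groups are metacyclic. -/
theorem isMetacyclic_subgroup (hmc : Cfsg.IsMetacyclic G) (K : Subgroup G) :
    Cfsg.IsMetacyclic ↥K := by
  obtain ⟨N, hNn, hNc, hQc⟩ := hmc
  refine ⟨N.subgroupOf K, inferInstance, ?_, ?_⟩
  · haveI := hNc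
    refine isCyclic_of_injective ((K.subtype).subgroupComap N) ?_
    intro x y h
    apply Subtype.ext
    apply Subtype.ext
    have h' := congrArg Subtype.val h
    exact h'
  · haveI := hQc
    refine isCyclic_of_injective
      (QuotientGroup.map (N.subgroupOf K) N K.subtype
        (show N.subgroupOf K ≤ Subgroup.comap K.subtype N from le_rfl)) ?_
    rw [injective_iff_map_eq_one]
    intro x hx
    obtain ⟨k, rfl⟩ := QuotientGroup.mk_surjective x
    rw [QuotientGroup.map_mk, QuotientGroup.eq_one_iff] at hx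
    exact (QuotientGroup.eq_one_iff k).mpr hx

section Sub

variable [Finite G] {p : ℕ} [hp : Fact p.Prime] (hodd : p ≠ 2) (hG : IsPGroup p G)
  (hmc : Cfsg.IsMetacyclic G)

include hodd hG hmc

theorem exists_card_commutator (hna : ¬ IsMulCommutative G) :
    ∃ n : ℕ, n ≠ 0 ∧ Nat.card (commutator G) = p ^ n := by
  obtain ⟨n, hn⟩ := IsPGroup.iff_card.mp (hG.to_subgroup (commutator G))
  refine ⟨n, ?_, hn⟩
  rintro rfl
  apply hna
  rw [pow_zero, Subgroup.card_eq_one] at hn
  refine ⟨⟨fun a b => ?_⟩⟩
  have : ⁅a, b⁆ ∈ commutator G :=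
    Subgroup.commutator_mem_commutator (Subgroup.mem_top a) (Subgroup.mem_top b)
  rw [hn, Subgroup.mem_bot, commutatorElement_eq_one_iff_mul_comm] at this
  exact this

theorem center_le_frattini (hna : ¬ IsMulCommutative G) :
    Subgroup.center G ≤ frattini G := by
  obtain ⟨n, hn0, hn⟩ := exists_card_commutator hodd hG hmc hna
  obtain ⟨N, hNn, hNc, hQc⟩ := hmc
  obtain ⟨b, hb⟩ := exists_gen_mod N hQc
  have hGN := commutator_le_of_cyclic_quotient N hQc
  have h1 := power_closure_eq_T hodd hG N hNc hGN b hb n hn n le_rfl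
  rw [Nat.sub_self, T_zero hodd hG N hNc hGN] at h1
  rw [← h1, Subgroup.closure_le]
  rintro _ ⟨y, rfl⟩
  obtain ⟨k, rfl⟩ := Nat.exists_eq_succ_of_ne_zero hn0
  rw [pow_succ, pow_mul]
  exact Cfsg.Agent.Lib.Helper1.pow_prime_mem_frattini_of_isPGroup p hG _

/-- Non-abelian subgroups contain their centralizers. -/
theorem centralizer_le_of_not_comm (R : Subgroup G) (hR : ¬ IsMulCommutative ↥R) :
    Subgroup.centralizer (R : Set G) ≤ R := by
  intro c hc
  obtain ⟨K, hKdef⟩ : ∃ K : Subgroup G, K = R ⊔ Subgroup.zpowers c := ⟨_, rfl⟩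
  have hKle : K ≤ R ⊔ Subgroup.zpowers c := hKdef.le
  have hKge : R ⊔ Subgroup.zpowers c ≤ K := hKdef.ge
  have hRK : R ≤ K := le_sup_left.trans hKge
  have hcK : c ∈ K := hKge ((le_sup_right : Subgroup.zpowers c ≤ _) (Subgroup.mem_zpowers c))
  clear hKdef
  have hKna : ¬ IsMulCommutative ↥K := by
    intro h
    apply hR
    refine ⟨⟨fun a b => ?_⟩⟩
    haveI := h
    have := mul_comm' (⟨a.1, hRK a.2⟩ : K) ⟨b.1, hRK b.2⟩
    apply Subtype.ext
    have h' := congrArg Subtype.val this
    exact h'
  have hKc : K ≤ Subgroup.centralizer ({c} : Set G) := by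
    refine hKle.trans ?_
    rw [sup_le_iff]
    constructor
    · intro r hr
      rw [Subgroup.mem_centralizer_iff]
      intro x hx
      rw [Set.mem_singleton_iff] at hx
      subst hx
      rw [Subgroup.mem_centralizer_iff] at hc
      exact (hc r hr).symm
    · rw [Subgroup.zpowers_le]
      rw [Subgroup.mem_centralizer_iff]
      intro x hx
      rw [Set.mem_singleton_iff] at hx
      subst hx
      rfl
  have hcZ : (⟨c, hcK⟩ : K) ∈ Subgroup.center ↥K := by
    rw [Subgroup.mem_center_iff]
    intro k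
    apply Subtype.ext
    have := hKc k.2
    rw [Subgroup.mem_centralizer_iff] at this
    exact (this c rfl).symm
  have hcF := center_le_frattini hodd (hG.to_subgroup K) (isMetacyclic_subgroup hmc K) hKna hcZ
  have hle : R ⊔ Subgroup.zpowers c ≤ (R.subgroupOf K ⊔ frattini ↥K).map K.subtype := by
    rw [sup_le_iff]
    constructor
    · intro r hr
      exact ⟨⟨r, hRK hr⟩, (le_sup_left : R.subgroupOf K ≤ _) (Subgroup.mem_subgroupOf.mpr hr), rfl⟩
    · rw [Subgroup.zpowers_le]
      exact ⟨⟨c, hcK⟩, (le_sup_right : frattini ↥K ≤ _) hcF, rfl⟩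
  have htop : R.subgroupOf K ⊔ frattini ↥K = ⊤ := by
    rw [eq_top_iff]
    intro k _
    obtain ⟨k', hk', hkk⟩ := hle (hKle k.2)
    have : k' = k := Subtype.ext hkk
    exact this ▸ hk'
  have := frattini_nongenerating htop
  rw [Subgroup.subgroupOf_eq_top] at this
  exact this hcK

omit [Finite G] hodd hG hmc in
theorem comm_sup_zpowers {A : Subgroup G} (hA : IsMulCommutative A) {x : G}
    (hx : x ∈ Subgroup.centralizer (A : Set G)) :
    IsMulCommutative (A ⊔ Subgroup.zpowers x : Subgroup G) := by
  have hcl : A ⊔ Subgroup.zpowers x = Subgroup.closure ((A : Set G) ∪ {x}) := by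
    rw [Subgroup.closure_union, Subgroup.closure_eq, Subgroup.zpowers_eq_closure]
  rw [hcl]
  apply Subgroup.isMulCommutative_closure
  have hAc : ∀ a ∈ A, ∀ b ∈ A, a * b = b * a := fun a ha b hb =>
    congrArg Subtype.val (mul_comm' (⟨a, ha⟩ : A) ⟨b, hb⟩)
  rintro a (ha | ha) b (hb | hb)
  · exact hAc a ha b hb
  · rw [Set.mem_singleton_iff] at hb
    rw [hb]
    exact Subgroup.mem_centralizer_iff.mp hx a ha
  · rw [Set.mem_singleton_iff] at ha
    rw [ha]
    exact (Subgroup.mem_centralizer_iff.mp hx b hb).symm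
  · rw [Set.mem_singleton_iff] at ha hb
    rw [ha, hb]

/-- `|G : G'|² = |G| |Z(G)|`. -/
theorem index_commutator_sq :
    (commutator G).index ^ 2 = Nat.card G * Nat.card (Subgroup.center G) := by
  obtain ⟨N, hNn, hNc, hQc⟩ := hmc
  obtain ⟨b, hb⟩ := exists_gen_mod N hQc
  have hGN := commutator_le_of_cyclic_quotient N hQc
  have h1 := (index_center_eq_sq N hNc b hb hodd hG hGN).1
  have h2 := (Subgroup.center G).card_mul_index
  have h3 := (commutator G).card_mul_index
  rw [h1] at h2
  have hpos : 0 < Nat.card (commutator G) := Nat.card_pos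
  have h4 : (commutator G).index = Nat.card (Subgroup.center G) * Nat.card (commutator G) := by
    apply Nat.eq_of_mul_eq_mul_left hpos
    rw [h3, ← h2]; ring
  rw [h4, ← h2]; ring

theorem card_sq_le_of_comm (L : Subgroup G) (hL : IsMulCommutative ↥L) :
    Nat.card L ^ 2 ≤ (commutator G).index ^ 2 := by
  rw [index_commutator_sq hodd hG hmc]
  obtain ⟨N, hNn, hNc, hQc⟩ := hmc
  have hGN := commutator_le_of_cyclic_quotient N hQc
  have h1 := card_mul_card_centralizer_le_top hodd hG N hNc hGN L
  have h2 : L ≤ Subgroup.centralizer (L : Set G) :=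
    Subgroup.le_centralizer_iff_isMulCommutative.mpr hL
  calc Nat.card L ^ 2 = Nat.card L * Nat.card L := sq _
    _ ≤ Nat.card L * Nat.card (Subgroup.centralizer (L : Set G)) :=
        Nat.mul_le_mul_left _ (Subgroup.card_le_of_le h2)
    _ ≤ _ := h1

theorem card_mul_card_centralizer_of_not_comm (L : Subgroup G) (hL : ¬ IsMulCommutative ↥L) :
    Nat.card L * Nat.card (Subgroup.centralizer (L : Set G)) = (commutator G).index ^ 2 := by
  rw [index_commutator_sq hodd hG hmc]
  have h0 := centralizer_le_of_not_comm hodd hG hmc L hL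
  obtain ⟨N, hNn, hNc, hQc⟩ := hmc
  have hGN := commutator_le_of_cyclic_quotient N hQc
  exact card_mul_card_centralizer_eq hodd hG N hNc hGN
    ((Subgroup.center_le_centralizer _).trans h0)

theorem comm_iff_card_le (L : Subgroup G) :
    IsMulCommutative ↥L ↔ Nat.card ↥L ≤ (commutator G).index := by
  constructor
  · intro hL
    have := card_sq_le_of_comm hodd hG hmc L hL
    exact (Nat.pow_le_pow_iff_left (by norm_num)).mp this
  · intro hle
    by_contra hL
    have h0 := centralizer_le_of_not_comm hodd hG hmc L hL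
    have h1 := card_mul_card_centralizer_of_not_comm hodd hG hmc L hL
    have hlt : Nat.card (Subgroup.centralizer (L : Set G)) < Nat.card L := by
      by_contra hge
      push Not at hge
      have := Subgroup.eq_of_le_of_card_ge h0 hge
      apply hL
      rw [← Subgroup.le_centralizer_iff_isMulCommutative]
      exact this.ge
    have hpos : 0 < Nat.card L := Nat.card_pos
    have h2 : (commutator G).index ^ 2 < Nat.card L ^ 2 := by
      rw [← h1, sq]
      exact Nat.mul_lt_mul_of_pos_left hlt hpos
    have h3 := Nat.pow_le_pow_left hle 2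
    omega

theorem maximal_comm_iff (L : Subgroup G) :
    Maximal (fun K : Subgroup G => IsMulCommutative ↥K) L ↔
      Nat.card ↥L = (commutator G).index := by
  constructor
  · rintro ⟨hL, hmax⟩
    have h2 : L ≤ Subgroup.centralizer (L : Set G) :=
      Subgroup.le_centralizer_iff_isMulCommutative.mpr hL
    have h3 : Subgroup.centralizer (L : Set G) ≤ L := by
      intro c hc
      have := hmax (comm_sup_zpowers hL hc) le_sup_left
      exact this ((le_sup_right : Subgroup.zpowers c ≤ _) (Subgroup.mem_zpowers c))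
    have h4 : Subgroup.centralizer (L : Set G) = L := le_antisymm h3 h2
    have h5 := index_commutator_sq hodd hG hmc
    obtain ⟨N, hNn, hNc, hQc⟩ := hmc
    have hGN := commutator_le_of_cyclic_quotient N hQc
    have h6 := card_mul_card_centralizer_eq hodd hG N hNc hGN
      ((Subgroup.center_le_centralizer _).trans h3)
    rw [h4, ← h5, ← sq] at h6
    exact Nat.pow_left_injective (by norm_num : 2 ≠ 0) h6
  · intro hcard
    have hL := (comm_iff_card_le hodd hG hmc L).mpr hcard.le
    refine ⟨hL, fun K hK hLK => ?_⟩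
    have := (comm_iff_card_le hodd hG hmc K).mp hK
    rw [← hcard] at this
    exact (Subgroup.eq_of_le_of_card_ge hLK this).ge

end Sub

end Cfsg.Agent.Lib.Helper2.MetaOdd
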