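import Mathlib
import Cfsg.Prelude.Def_OddOrderLocal
import Cfsg.Agent.Lib.Helper2.MetaOdd6

set_option autoImplicit false
open scoped commutatorElement

namespace Cfsg.Agent.Lib.Helper2.MetaOdd

variable {G : Type*} [Group G]

section Frat

variable [Finite G] {p : ℕ} [hp : Fact p.Prime] (hodd : p ≠ 2) (hG : IsPGroup p G)
  (N : Subgroup G) [hNn : N.Normal] (hN : IsCyclic N) (hQ : IsCyclic (G ⧸ N))

include hodd hG hN hQ

/-- `Φ(G) = {g | g^(p^(n-1)) ∈ Z(G)}` where `|G'| = p^n`, `n ≥ 1`. -/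
theorem frattini_eq_T (n : ℕ) (hn0 : n ≠ 0) (hn : Nat.card (commutator G) = p ^ n) :
    frattini G = T p N hN (n - 1) := by
  have hGN := commutator_le_of_cyclic_quotient N hQ
  obtain ⟨b, hb⟩ := exists_gen_mod N hQ
  have h1n : 1 ≤ n := Nat.one_le_iff_ne_zero.mpr hn0
  apply le_antisymm
  · apply Cfsg.Agent.Lib.Helper1.frattini_le_of_elementary_quotient p
    · intro c hc
      rw [mem_T_iff_pow hodd hG N hN hGN]
      apply mem_center_of_pow_eq_one hG N hN _ (N.pow_mem (hGN hc) _)
      rw [← pow_mul, ← pow_succ, Nat.sub_add_cancel h1n, ← hn]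
      have := congrArg Subtype.val (pow_card_eq_one' (x := (⟨c, hc⟩ : commutator G)))
      rwa [Subgroup.coe_pow, Subgroup.coe_one] at this
    · intro x
      rw [mem_T_iff_pow hodd hG N hN hGN, ← pow_mul, ← pow_succ', Nat.sub_add_cancel h1n]
      exact pow_card_commutator_mem_center hodd hG N hN hGN n hn x
  · rw [← power_closure_eq_T hodd hG N hN hGN b hb n hn 1 h1n, Subgroup.closure_le]
    rintro _ ⟨y, rfl⟩
    rw [pow_one]
    exact Cfsg.Agent.Lib.Helper1.pow_prime_mem_frattini_of_isPGroup p hG y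

end Frat

section Sub2

variable [Finite G] {p : ℕ} [hp : Fact p.Prime] (hodd : p ≠ 2) (hG : IsPGroup p G)
  (hmc : Cfsg.IsMetacyclic G)

include hodd hG hmc

theorem not_mem_frattini_iff (hna : ¬ IsMulCommutative G) (g : G) :
    g ∉ frattini G ↔ IsMulCommutative ↥(Subgroup.centralizer ({g} : Set G)) := by
  obtain ⟨n, hn0, hn⟩ := exists_card_commutator hodd hG hmc hna
  rw [comm_iff_card_le hodd hG hmc]
  obtain ⟨N, hNn, hNc, hQc⟩ := hmc
  have hGN := commutator_le_of_cyclic_quotient N hQc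
  rw [frattini_eq_T hodd hG N hNc hQc n hn0 hn, mem_T_iff_pow hodd hG N hNc hGN,
    ← index_centralizer_le_iff hodd hG N hNc hGN]
  obtain ⟨k, hk⟩ := IsPGroup.iff_card.mp hG
  have hdvd : (Subgroup.centralizer ({g} : Set G)).index ∣ p ^ k := by
    rw [← hk]; exact Subgroup.index_dvd_card _
  obtain ⟨j, -, hj⟩ := (Nat.dvd_prime_pow hp.out).mp hdvd
  have h1 := (Subgroup.centralizer ({g} : Set G)).card_mul_index
  have h2 := (commutator G).card_mul_index
  rw [hn] at h2
  rw [hj] at h1 ⊢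
  rw [Nat.pow_le_pow_iff_right hp.out.one_lt]
  have hppos : ∀ e, 0 < p ^ e := fun e => pow_pos hp.out.pos e
  constructor
  · intro h
    have hnj : n ≤ j := by omega
    have h3 : Nat.card (Subgroup.centralizer ({g} : Set G)) * p ^ j ≤
        (commutator G).index * p ^ j := by
      rw [h1, ← h2, mul_comm]
      exact Nat.mul_le_mul_left _ (Nat.pow_le_pow_right hp.out.pos hnj)
    exact Nat.le_of_mul_le_mul_right h3 (hppos j)
  · intro h hjn
    have hlt : j < n := by omega
    have h3 : Nat.card (Subgroup.centralizer ({g} : Set G)) * p ^ j <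
        (commutator G).index * p ^ n :=
      Nat.mul_lt_mul_of_le_of_lt h (Nat.pow_lt_pow_right hp.out.one_lt hlt)
        (lt_of_lt_of_le Nat.card_pos h)
    rw [h1, mul_comm, h2] at h3
    exact lt_irrefl _ h3

end Sub2

end Cfsg.Agent.Lib.Helper2.MetaOdd
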