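import Mathlib
import Cfsg.Prelude.Def_OddOrderLocal
import Cfsg.Agent.Lib.Helper2.MetaOdd7
import Cfsg.Agent.Lib.Helper1.ClassTwo
import Cfsg.Agent.Lib.Helper1.FrattiniP

/-!
# Automorphisms of class-two metacyclic `p`-groups, `p` odd

The pairing `om g x = ⁅g, x⁆ ^ p ^ (n - 1)` (where `|G'| = p ^ n`), elementary index counting, and
the `p ^ k`-power endomorphisms.
-/

set_option autoImplicit false
open scoped commutatorElement

namespace Cfsg.Agent.Lib.Helper2.MetaAct

open Cfsg.Agent.Lib.Helper1 Cfsg.Agent.Lib.Helper2.MetaOdd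

variable {G : Type*} [Group G]

section Counting

theorem index_of_index_sq {p : ℕ} (hp : p.Prime) (Φ K : Subgroup G) (hΦ : Φ.index = p ^ 2)
    (hle : Φ ≤ K) (hK : K ≠ ⊤) (hnle : ¬ K ≤ Φ) : Φ.relIndex K = p ∧ K.index = p := by
  have h1 := Subgroup.relIndex_mul_index hle
  rw [hΦ] at h1
  have h2 : Φ.relIndex K ≠ 1 := fun h => hnle (Subgroup.relIndex_eq_one.mp h)
  have h3 : K.index ≠ 1 := fun h => hK (Subgroup.index_eq_one.mp h)
  exact (Nat.Prime.mul_eq_prime_sq_iff hp h2 h3).mp h1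

theorem sup_zpowers_eq_top {p : ℕ} (hp : p.Prime) (K : Subgroup G) (hK : K.index = p) (u : G)
    (hu : u ∉ K) : K ⊔ Subgroup.zpowers u = ⊤ := by
  have hle : K ≤ K ⊔ Subgroup.zpowers u := le_sup_left
  have h1 := Subgroup.relIndex_mul_index hle
  rw [hK] at h1
  have h2 : K.relIndex (K ⊔ Subgroup.zpowers u) ≠ 1 := by
    intro h
    have := Subgroup.relIndex_eq_one.mp h
    exact hu (this (le_sup_right (a := K) (Subgroup.mem_zpowers u)))
  have h3 : (K ⊔ Subgroup.zpowers u).index ∣ p := Dvd.intro_left _ h1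
  rcases (Nat.dvd_prime hp).mp h3 with h4 | h4
  · exact Subgroup.index_eq_one.mp h4
  · exfalso
    rw [h4] at h1
    apply h2
    have hp0 : 0 < p := hp.pos
    exact Nat.eq_of_mul_eq_mul_right hp0 (by rw [h1, one_mul])

theorem le_sup_zpowers {p : ℕ} (hp : p.Prime) (Φ K : Subgroup G) (hle : Φ ≤ K)
    (hr : Φ.relIndex K = p) (v : G) (hv : v ∈ K) (hvΦ : v ∉ Φ) :
    K ≤ Φ ⊔ Subgroup.zpowers v := by
  have hL : Φ ⊔ Subgroup.zpowers v ≤ K := sup_le hle (Subgroup.zpowers_le.mpr hv)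
  have h1 := Subgroup.relIndex_mul_relIndex Φ (Φ ⊔ Subgroup.zpowers v) K le_sup_left hL
  rw [hr] at h1
  have h2 : Φ.relIndex (Φ ⊔ Subgroup.zpowers v) ≠ 1 := by
    intro h
    have := Subgroup.relIndex_eq_one.mp h
    exact hvΦ (this (le_sup_right (a := Φ) (Subgroup.mem_zpowers v)))
  have h3 : Φ.relIndex (Φ ⊔ Subgroup.zpowers v) ∣ p := Dvd.intro _ h1
  rcases (Nat.dvd_prime hp).mp h3 with h4 | h4
  · exact absurd h4 h2
  · rw [h4] at h1
    have hp0 : 0 < p := hp.pos
    have h5 : (Φ ⊔ Subgroup.zpowers v).relIndex K = 1 :=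
      Nat.eq_of_mul_eq_mul_left hp0 (by rw [h1, mul_one])
    exact Subgroup.relIndex_eq_one.mp h5

theorem dvd_choose_two_of_odd (q : ℕ) (hq : Odd q) : q ∣ q.choose 2 := by
  obtain ⟨m, rfl⟩ := hq
  rw [Nat.choose_two_right]
  have : (2 * m + 1) * (2 * m + 1 - 1) / 2 = (2 * m + 1) * m := by
    rw [Nat.add_sub_cancel, show (2 * m + 1) * (2 * m) = ((2 * m + 1) * m) * 2 by ring,
      Nat.mul_div_cancel _ (by norm_num)]
  rw [this]; exact dvd_mul_right _ _

end Counting

section Pairing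

/-- The pairing `⁅g, x⁆ ^ p ^ (n - 1)`. -/
def om (p n : ℕ) (g x : G) : G := ⁅g, x⁆ ^ p ^ (n - 1)

variable (hcc : CommCentral G) (p n : ℕ)
include hcc

theorem om_mul_left (g h x : G) : om p n (g * h) x = om p n g x * om p n h x := by
  unfold om
  rw [hcc.comm_mul_left, (hcc.comm_commute g x _).mul_pow]

theorem om_mul_right (g x y : G) : om p n g (x * y) = om p n g x * om p n g y := by
  unfold om
  rw [hcc.comm_mul_right, (hcc.comm_commute g x _).mul_pow]

theorem om_commute (g x z : G) : Commute (om p n g x) z :=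
  (hcc.comm_commute g x z).pow_left _

omit hcc in
theorem om_self (g : G) : om p n g g = 1 := by
  unfold om
  rw [commutatorElement_self, one_pow]

omit hcc in
theorem om_one_left (x : G) : om p n 1 x = 1 := by
  unfold om
  rw [commutatorElement_one_left, one_pow]

omit hcc in
theorem om_one_right (g : G) : om p n g 1 = 1 := by
  unfold om
  rw [commutatorElement_one_right, one_pow]

omit hcc in
theorem om_swap (g x : G) : om p n x g = (om p n g x)⁻¹ := by
  unfold om
  rw [← commutatorElement_inv, inv_pow]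

theorem om_inv_left (g x : G) : om p n g⁻¹ x = (om p n g x)⁻¹ := by
  apply eq_inv_of_mul_eq_one_left
  rw [← om_mul_left hcc, inv_mul_cancel, om_one_left]

theorem om_inv_right (g x : G) : om p n g x⁻¹ = (om p n g x)⁻¹ := by
  apply eq_inv_of_mul_eq_one_left
  rw [← om_mul_right hcc, inv_mul_cancel, om_one_right]

theorem om_pow_left (g x : G) (m : ℕ) : om p n (g ^ m) x = om p n g x ^ m := by
  induction m with
  | zero => rw [pow_zero, pow_zero, om_one_left]
  | succ m ih => rw [pow_succ, om_mul_left hcc, ih, pow_succ]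

theorem om_pow_right (g x : G) (m : ℕ) : om p n g (x ^ m) = om p n g x ^ m := by
  induction m with
  | zero => rw [pow_zero, pow_zero, om_one_right]
  | succ m ih => rw [pow_succ, om_mul_right hcc, ih, pow_succ]

omit hcc in
theorem om_map (α : MulAut G) (g x : G) : om p n (α g) (α x) = α (om p n g x) := by
  unfold om
  rw [← map_commutatorElement, map_pow]

omit hcc in
theorem om_mem_commutator (g x : G) : om p n g x ∈ commutator G := by
  unfold om
  apply Subgroup.pow_mem
  rw [commutator_def]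
  exact Subgroup.commutator_mem_commutator (Subgroup.mem_top g) (Subgroup.mem_top x)

/-- `{g | om g x = 1}` as a subgroup. -/
def perpL (x : G) : Subgroup G where
  carrier := {g | om p n g x = 1}
  one_mem' := om_one_left p n x
  mul_mem' := by
    intro a b ha hb
    show om p n (a * b) x = 1
    rw [om_mul_left hcc, show om p n a x = 1 from ha, show om p n b x = 1 from hb, one_mul]
  inv_mem' := by
    intro a ha
    show om p n a⁻¹ x = 1
    rw [om_inv_left hcc, show om p n a x = 1 from ha, inv_one]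

theorem mem_perpL (x g : G) : g ∈ perpL hcc p n x ↔ om p n g x = 1 := Iff.rfl

/-- `{x | om g x = 1}` as a subgroup. -/
def perpR (g : G) : Subgroup G where
  carrier := {x | om p n g x = 1}
  one_mem' := om_one_right p n g
  mul_mem' := by
    intro a b ha hb
    show om p n g (a * b) = 1
    rw [om_mul_right hcc, show om p n g a = 1 from ha, show om p n g b = 1 from hb, one_mul]
  inv_mem' := by
    intro a ha
    show om p n g a⁻¹ = 1
    rw [om_inv_right hcc, show om p n g a = 1 from ha, inv_one]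

theorem mem_perpR (g x : G) : x ∈ perpR hcc p n g ↔ om p n g x = 1 := Iff.rfl

end Pairing

section Meta

variable [Finite G] {p : ℕ} [hp : Fact p.Prime] (hodd : p ≠ 2) (hG : IsPGroup p G)
  (N : Subgroup G) [hNn : N.Normal] (hN : IsCyclic N) (hQ : IsCyclic (G ⧸ N))
  (n : ℕ) (hn0 : n ≠ 0) (hn : Nat.card (commutator G) = p ^ n)

omit [Finite G] hp in
include hn in
theorem comm_pow_card (g x : G) : ⁅g, x⁆ ^ p ^ n = 1 := by
  have hc : ⁅g, x⁆ ∈ commutator G := by
    rw [commutator_def]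
    exact Subgroup.commutator_mem_commutator (Subgroup.mem_top g) (Subgroup.mem_top x)
  have := congrArg Subtype.val (pow_card_eq_one' (x := (⟨⁅g, x⁆, hc⟩ : commutator G)))
  rwa [hn, Subgroup.coe_pow, Subgroup.coe_one] at this

omit [Finite G] hp in
include hn0 hn in
theorem om_pow_prime (g x : G) : om p n g x ^ p = 1 := by
  unfold om
  rw [← pow_mul, ← pow_succ, Nat.sub_add_cancel (Nat.one_le_iff_ne_zero.mpr hn0)]
  exact comm_pow_card n hn g x

include hodd hG hN hQ hn0 hn in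
theorem mem_frattini_iff (g : G) : g ∈ frattini G ↔ ∀ x : G, om p n g x = 1 := by
  have hGN := commutator_le_of_cyclic_quotient N hQ
  rw [frattini_eq_T hodd hG N hN hQ n hn0 hn, mem_T_iff_comm]
  constructor
  · intro h x
    exact (h x).2
  · intro h x
    exact ⟨comm_mem hodd hG N hN hGN g x, h x⟩

include hodd hG hN hQ hn0 hn in
theorem index_frattini : (frattini G).index = p ^ 2 := by
  have hGN := commutator_le_of_cyclic_quotient N hQ
  obtain ⟨b, hb⟩ := exists_gen_mod N hQ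
  have h1 : 1 ≤ n := Nat.one_le_iff_ne_zero.mpr hn0
  have h2 := card_T hodd hG N hN hQ n hn (n - 1) (Nat.sub_le n 1)
  rw [← frattini_eq_T hodd hG N hN hQ n hn0 hn] at h2
  have h4 := (index_center_eq_sq N hN b hb hodd hG hGN).1
  have h5 := (Subgroup.center G).card_mul_index
  rw [h4, hn] at h5
  have h6 := (frattini G).card_mul_index
  rw [← h5, h2] at h6
  have hpos : 0 < Nat.card (Subgroup.center G) * p ^ (2 * (n - 1)) :=
    Nat.mul_pos Nat.card_pos (pow_pos hp.out.pos _)
  apply Nat.eq_of_mul_eq_mul_left hpos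
  rw [h6]
  have : (p ^ n) ^ 2 = p ^ (2 * (n - 1)) * p ^ 2 := by
    rw [← pow_mul, ← pow_add]; congr 1; omega
  rw [this]; ring

include hodd hn in
theorem exists_pow_hom (hcc : CommCentral G) (k : ℕ) (hk : n ≤ k) :
    ∃ f : G →* G, ∀ g, f g = g ^ p ^ k := by
  refine ⟨MonoidHom.mk' (fun g => g ^ p ^ k) ?_, fun g => rfl⟩
  intro x y
  show (x * y) ^ p ^ k = x ^ p ^ k * y ^ p ^ k
  rw [hcc.mul_pow_eq]
  have h1 : p ^ n ∣ (p ^ k).choose 2 :=
    (pow_dvd_pow p hk).trans (dvd_choose_two_of_odd _ ((hp.out.odd_of_ne_two hodd).pow))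
  obtain ⟨m, hm⟩ := h1
  rw [hm, pow_mul, comm_pow_card n hn, one_pow, mul_one]

include hN in
/-- In a cyclic `N`, elements of order dividing `p` are powers of any nontrivial such element. -/
theorem mem_zpowers_of_pow_prime_eq_one (c d : G) (hc : c ∈ N) (hcp : c ^ p = 1)
    (hd : d ∈ N) (hdp : d ^ p = 1) (hd1 : d ≠ 1) : c ∈ Subgroup.zpowers d := by
  have h1 := card_omegaSub_le N hN (comm_of_cyclic N hN) p hp.out.pos
  have h2 : Subgroup.zpowers d ≤ omegaSub N (comm_of_cyclic N hN) p :=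
    Subgroup.zpowers_le.mpr (mem_omegaSub.mpr ⟨hd, hdp⟩)
  have h3 : Nat.card (Subgroup.zpowers d) = p := by
    rw [Nat.card_zpowers]; exact orderOf_eq_prime hdp hd1
  have h4 := Subgroup.eq_of_le_of_card_ge h2 (by rw [h3]; exact h1)
  rw [h4]
  exact mem_omegaSub.mpr ⟨hc, hcp⟩

include hN in
theorem exists_theta (c₁ : G) (hc₁N : c₁ ∈ N) (hc₁p : c₁ ^ p = 1) (hc₁ : c₁ ≠ 1) (α : MulAut G)
    (hα : α c₁ ∈ N) :
    ∃ θ : ℕ, (∀ c ∈ N, c ^ p = 1 → α c = c ^ θ) ∧ (∀ c ∈ N, c ^ p = 1 → c ^ θ = 1 → c = 1) := by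
  have h1 : α c₁ ∈ Subgroup.zpowers c₁ :=
    mem_zpowers_of_pow_prime_eq_one N hN (α c₁) c₁ hα (by rw [← map_pow, hc₁p, map_one])
      hc₁N hc₁p hc₁
  rw [← (isOfFinOrder_of_finite c₁).mem_powers_iff_mem_zpowers, Submonoid.mem_powers_iff] at h1
  obtain ⟨θ, hθ⟩ := h1
  refine ⟨θ, ?_, ?_⟩
  · intro c hcN hcp
    have h2 := mem_zpowers_of_pow_prime_eq_one N hN c c₁ hcN hcp hc₁N hc₁p hc₁
    rw [← (isOfFinOrder_of_finite c₁).mem_powers_iff_mem_zpowers, Submonoid.mem_powers_iff] at h2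
    obtain ⟨j, rfl⟩ := h2
    rw [map_pow, ← hθ, ← pow_mul, ← pow_mul, mul_comm]
  · intro c hcN hcp hcθ
    by_contra hc1
    have h2 := mem_zpowers_of_pow_prime_eq_one N hN c₁ c hc₁N hc₁p hcN hcp hc1
    rw [← (isOfFinOrder_of_finite c).mem_powers_iff_mem_zpowers, Submonoid.mem_powers_iff] at h2
    obtain ⟨i, hi⟩ := h2
    apply hc₁
    have h3 : α c₁ = 1 := by
      rw [← hθ, ← hi, ← pow_mul, mul_comm, pow_mul, hcθ, one_pow]
    have := (map_eq_one_iff α α.injective).mp h3
    exact this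

end Meta

end Cfsg.Agent.Lib.Helper2.MetaAct
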