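import Mathlib
import Cfsg.Prelude.Def_OddOrderLocal
import Cfsg.Agent.Lib.Helper2.MetaAct1

/-!
# The automorphism dichotomy for class-two metacyclic `p`-groups, `p` odd
-/

set_option autoImplicit false
open scoped commutatorElement

namespace Cfsg.Agent.Lib.Helper2.MetaAct

open Cfsg.Agent.Lib.Helper1 Cfsg.Agent.Lib.Helper2.MetaOdd

variable {G : Type*} [Group G]

variable [Finite G] {p : ℕ} [hp : Fact p.Prime] (hodd : p ≠ 2) (hG : IsPGroup p G)
  (N : Subgroup G) [hNn : N.Normal] (hN : IsCyclic N) (hQ : IsCyclic (G ⧸ N))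
  (n : ℕ) (hn0 : n ≠ 0) (hn : Nat.card (commutator G) = p ^ n)

set_option maxHeartbeats 1000000 in
include hodd hG hN hQ hn0 hn in
theorem aut_dichotomy (hcc : CommCentral G) :
    (∃ x : G, x ∉ frattini G ∧ ∀ α : MulAut G, x * (α x)⁻¹ ∈ frattini G) ∨
    (∃ R₁ : Subgroup G, R₁ ≠ ⊤ ∧ ∀ (α : MulAut G) (g : G), g * (α g)⁻¹ ∈ R₁) := by
  have hGN := commutator_le_of_cyclic_quotient N hQ
  obtain ⟨b, hb⟩ := exists_gen_mod N hQ
  have h1n : 1 ≤ n := Nat.one_le_iff_ne_zero.mpr hn0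
  have hΦ := mem_frattini_iff hodd hG N hN hQ n hn0 hn
  have hidx := index_frattini hodd hG N hN hQ n hn0 hn
  have hp1 : 1 < p := hp.out.one_lt
  have hne : frattini G ≠ ⊤ := by
    intro h
    rw [h, Subgroup.index_top] at hidx
    have : 1 < p ^ 2 := Nat.one_lt_pow (by norm_num) hp1
    omega
  obtain ⟨u₀, hu₀⟩ : ∃ u₀, u₀ ∉ frattini G := by
    by_contra h
    push Not at h
    exact hne (eq_top_iff.mpr fun x _ => h x)
  obtain ⟨x₀, hx₀⟩ : ∃ x₀, om p n u₀ x₀ ≠ 1 := by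
    by_contra h
    push Not at h
    exact hu₀ ((hΦ u₀).mpr h)
  obtain ⟨c₁, hc₁def⟩ : ∃ c₁, c₁ = om p n u₀ x₀ := ⟨_, rfl⟩
  have hΩN : ∀ g x : G, om p n g x ∈ N := fun g x => hGN (om_mem_commutator p n g x)
  have hΩp : ∀ g x : G, om p n g x ^ p = 1 := om_pow_prime n hn0 hn
  have hc₁N : c₁ ∈ N := hc₁def ▸ hΩN u₀ x₀
  have hc₁p : c₁ ^ p = 1 := hc₁def ▸ hΩp u₀ x₀
  have hc₁1 : c₁ ≠ 1 := hc₁def ▸ hx₀
  have hc₁Z : c₁ ∈ Subgroup.center G := by
    rw [hc₁def]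
    exact Subgroup.mem_center_iff.mpr (fun z => ((om_commute hcc p n u₀ x₀ z).eq).symm)
  have hαN : ∀ α : MulAut G, α c₁ ∈ N := by
    intro α
    rw [hc₁def, ← om_map]
    exact hΩN _ _
  -- the power condition
  have hPn : ∃ y : G, y ^ p ^ n = c₁ := by
    obtain ⟨f, hf⟩ := exists_pow_hom hodd n hn hcc n le_rfl
    have h1 := power_closure_eq_T hodd hG N hN hGN b hb n hn n le_rfl
    rw [Nat.sub_self, T_zero hodd hG N hN hGN] at h1
    have h2 : {x : G | ∃ y : G, y ^ p ^ n = x} = (f.range : Set G) := by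
      ext x
      constructor
      · rintro ⟨y, rfl⟩
        exact ⟨y, hf y⟩
      · rintro ⟨y, rfl⟩
        exact ⟨y, (hf y).symm⟩
    rw [h2, Subgroup.closure_eq] at h1
    rw [← h1] at hc₁Z
    obtain ⟨y, hy⟩ := hc₁Z
    exact ⟨y, by rw [← hf, hy]⟩
  obtain ⟨e, he⟩ := IsPGroup.iff_card.mp hG
  have hexp : ∀ y : G, y ^ p ^ e = 1 := by
    intro y
    rw [← he]
    exact pow_card_eq_one'
  obtain ⟨k, hk, ⟨u, hu⟩, hPk1⟩ :
      ∃ k, n ≤ k ∧ (∃ y : G, y ^ p ^ k = c₁) ∧ ¬ ∃ y : G, y ^ p ^ (k + 1) = c₁ := by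
    by_contra h
    push Not at h
    have h1 : ∀ k, n ≤ k → ∃ y : G, y ^ p ^ k = c₁ := by
      intro k hk
      induction k, hk using Nat.le_induction with
      | base => exact hPn
      | succ k hk ih =>
        exact h k hk ih
    obtain ⟨y, hy⟩ := h1 (n + e) (Nat.le_add_right n e)
    apply hc₁1
    rw [← hy, add_comm, pow_add, pow_mul, hexp, one_pow]
  obtain ⟨f, hf⟩ := exists_pow_hom hodd n hn hcc k hk
  obtain ⟨f', hf'⟩ := exists_pow_hom hodd n hn hcc (k + 1) (by omega)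
  obtain ⟨Y', hY'⟩ : ∃ Y' : Subgroup G, Y' = f'.range := ⟨_, rfl⟩
  obtain ⟨R₁', hR₁'⟩ : ∃ R₁' : Subgroup G, R₁' = Y'.comap f := ⟨_, rfl⟩
  have hmemR : ∀ g, g ∈ R₁' ↔ f g ∈ Y' := by
    intro g
    rw [hR₁', Subgroup.mem_comap]
  have hfu : f u = c₁ := by rw [hf, hu]
  have hc₁Y : c₁ ∉ Y' := by
    rw [hY']
    rintro ⟨y, hy⟩
    exact hPk1 ⟨y, by rw [← hf']; exact hy⟩
  have huR : u ∉ R₁' := by
    rw [hmemR, hfu]
    exact hc₁Y
  have hΦR : frattini G ≤ R₁' := by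
    rw [frattini_eq_T hodd hG N hN hQ n hn0 hn,
      ← power_closure_eq_T hodd hG N hN hGN b hb n hn 1 h1n, Subgroup.closure_le]
    rintro _ ⟨y, rfl⟩
    show y ^ p ^ 1 ∈ R₁'
    rw [hmemR, hY', hf]
    exact ⟨y, by rw [hf', ← pow_mul, pow_one, ← pow_succ']⟩
  have hfα : ∀ (α : MulAut G) (g : G), f (α g) = α (f g) := by
    intro α g
    rw [hf, hf, map_pow]
  have hinv : ∀ α : MulAut G, ∀ g ∈ R₁', α g ∈ R₁' := by
    intro α g hg
    rw [hmemR, hY'] at hg ⊢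
    obtain ⟨y, hy⟩ := hg
    refine ⟨α y, ?_⟩
    rw [hfα, ← hy, hf', hf', map_pow]
  by_cases hcase : R₁' ≤ frattini G
  · -- every element whose `p^k`-th power is a `p^(k+1)`-th power is a non-generator
    right
    refine ⟨perpL hcc p n u, ?_, ?_⟩
    · have huΦ : u ∉ frattini G := fun h => huR (hΦR h)
      obtain ⟨x, hx⟩ : ∃ x, om p n u x ≠ 1 := by
        by_contra h
        push Not at h
        exact huΦ ((hΦ u).mpr h)
      intro htop
      have h1 : x ∈ perpL hcc p n u := by rw [htop]; exact Subgroup.mem_top x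
      rw [mem_perpL, om_swap, inv_eq_one] at h1
      exact hx h1
    · intro α g
      obtain ⟨θ, hθ1, hθ2⟩ := exists_theta N hN c₁ hc₁N hc₁p hc₁1 α (hαN α)
      have h1 : (u ^ θ)⁻¹ * α u ∈ R₁' := by
        rw [hmemR]
        have : f ((u ^ θ)⁻¹ * α u) = 1 := by
          rw [map_mul, map_inv, map_pow, hfα, hfu, hθ1 c₁ hc₁N hc₁p, inv_mul_cancel]
        rw [this]
        exact Y'.one_mem
      have h2 := hcase h1
      have h3 : om p n (α g) (α u) = om p n g u ^ θ := by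
        rw [om_map, hθ1 _ (hΩN _ _) (hΩp _ _)]
      have h4 : om p n (α g) (α u) = om p n (α g) u ^ θ := by
        have h5 : α u = u ^ θ * ((u ^ θ)⁻¹ * α u) := by group
        have h6 : om p n (α g) ((u ^ θ)⁻¹ * α u) = 1 := by
          rw [om_swap, (hΦ _).mp h2, inv_one]
        rw [h5, om_mul_right hcc, om_pow_right hcc, h6, mul_one]
      rw [mem_perpL]
      apply hθ2 _ (hΩN _ _) (hΩp _ _)
      rw [om_mul_left hcc, om_inv_left hcc, (om_commute hcc p n _ _ _).mul_pow, inv_pow, ← h4, h3,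
        mul_inv_cancel]
  · left
    obtain ⟨v₁, hv₁R, hv₁Φ⟩ : ∃ v₁ ∈ R₁', v₁ ∉ frattini G := by
      rwa [SetLike.not_le_iff_exists] at hcase
    refine ⟨v₁, hv₁Φ, ?_⟩
    intro α
    have hRtop : R₁' ≠ ⊤ := fun h => huR (h ▸ Subgroup.mem_top u)
    obtain ⟨hrel, hidxR⟩ := index_of_index_sq hp.out (frattini G) R₁' hidx hΦR hRtop hcase
    have hsup := sup_zpowers_eq_top hp.out R₁' hidxR u huR
    have hle := le_sup_zpowers hp.out (frattini G) R₁' hΦR hrel v₁ hv₁R hv₁Φ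
    have hi : ∀ r ∈ R₁', om p n v₁ r = 1 := by
      intro r hr
      have h1 : frattini G ⊔ Subgroup.zpowers v₁ ≤ perpR hcc p n v₁ := by
        apply sup_le
        · intro f hf
          rw [mem_perpR, om_swap, (hΦ f).mp hf v₁, inv_one]
        · exact Subgroup.zpowers_le.mpr (om_self p n v₁)
      exact h1 (hle hr)
    have hii : ∀ w ∈ R₁', ∀ r ∈ R₁', om p n w r = 1 := by
      intro w hw r hr
      have h1 : frattini G ⊔ Subgroup.zpowers v₁ ≤ perpL hcc p n r := by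
        apply sup_le
        · intro f hf
          exact (hΦ f).mp hf r
        · exact Subgroup.zpowers_le.mpr (hi r hr)
      exact h1 (hle hw)
    rw [hΦ]
    have hwR : v₁ * (α v₁)⁻¹ ∈ R₁' := R₁'.mul_mem hv₁R (R₁'.inv_mem (hinv α v₁ hv₁R))
    have hwu : om p n (v₁ * (α v₁)⁻¹) u = 1 := by
      obtain ⟨θ, hθ1, hθ2⟩ := exists_theta N hN c₁ hc₁N hc₁p hc₁1 α (hαN α)
      haveI : R₁'.Normal := normal_of_commutator_le
        ((commutator_le_frattini_of_isPGroup p hG).trans hΦR)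
      have hαu : α u ∈ R₁' ⊔ Subgroup.zpowers u := by rw [hsup]; exact Subgroup.mem_top _
      obtain ⟨r, hr, z, hz, hrz⟩ := Subgroup.mem_sup_of_normal_left.mp hαu
      rw [← (isOfFinOrder_of_finite u).mem_powers_iff_mem_zpowers, Submonoid.mem_powers_iff] at hz
      obtain ⟨a, rfl⟩ := hz
      have h1 : c₁ ^ θ = f r * c₁ ^ a := by
        rw [← hθ1 c₁ hc₁N hc₁p, ← hfu, ← hfα, ← hrz, map_mul, map_pow]
      have h2 : c₁ ^ θ = c₁ ^ a := by
        by_contra hne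
        have hd : c₁ ^ θ * (c₁ ^ a)⁻¹ ∈ Y' := by
          rw [h1, mul_inv_cancel_right]
          exact (hmemR r).mp hr
        have hd1 : c₁ ^ θ * (c₁ ^ a)⁻¹ ≠ 1 := fun h => hne (mul_inv_eq_one.mp h)
        have hdN : c₁ ^ θ * (c₁ ^ a)⁻¹ ∈ N :=
          N.mul_mem (N.pow_mem hc₁N _) (N.inv_mem (N.pow_mem hc₁N _))
        have hdp : (c₁ ^ θ * (c₁ ^ a)⁻¹) ^ p = 1 := by
          have hcomm : Commute (c₁ ^ θ) (c₁ ^ a)⁻¹ :=
            ((Commute.refl c₁).pow_pow θ a).inv_right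
          rw [hcomm.mul_pow, inv_pow, ← pow_mul, ← pow_mul, mul_comm θ, mul_comm a, pow_mul,
            pow_mul, hc₁p, one_pow, one_pow, inv_one, mul_one]
        have := mem_zpowers_of_pow_prime_eq_one N hN c₁ _ hc₁N hc₁p hdN hdp hd1
        exact hc₁Y (Subgroup.zpowers_le.mpr hd this)
      have h3 : ∀ c ∈ N, c ^ p = 1 → c ^ a = c ^ θ := by
        intro c hcN hcp
        have h4 := mem_zpowers_of_pow_prime_eq_one N hN c c₁ hcN hcp hc₁N hc₁p hc₁1
        rw [← (isOfFinOrder_of_finite c₁).mem_powers_iff_mem_zpowers,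
          Submonoid.mem_powers_iff] at h4
        obtain ⟨j, rfl⟩ := h4
        rw [← pow_mul, ← pow_mul, mul_comm j, mul_comm j, pow_mul, pow_mul, h2]
      have h4 : om p n (α v₁) (α u) = om p n v₁ u ^ θ := by
        rw [om_map, hθ1 _ (hΩN _ _) (hΩp _ _)]
      have h5 : om p n (α v₁) (α u) = om p n (α v₁) u ^ θ := by
        rw [← hrz, om_mul_right hcc, hii _ (hinv α v₁ hv₁R) r hr, one_mul, om_pow_right hcc,
          h3 _ (hΩN _ _) (hΩp _ _)]
      apply hθ2 _ (hΩN _ _) (hΩp _ _)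
      rw [om_mul_left hcc, om_inv_left hcc, (om_commute hcc p n _ _ _).mul_pow, inv_pow, ← h5, h4,
        mul_inv_cancel]
    intro x
    have hx : x ∈ R₁' ⊔ Subgroup.zpowers u := by rw [hsup]; exact Subgroup.mem_top _
    have h1 : R₁' ⊔ Subgroup.zpowers u ≤ perpR hcc p n (v₁ * (α v₁)⁻¹) := by
      apply sup_le
      · intro r hr
        exact hii _ hwR r hr
      · exact Subgroup.zpowers_le.mpr hwu
    exact h1 hx

end Cfsg.Agent.Lib.Helper2.MetaAct
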