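import Mathlib
import Cfsg.Prelude.Def_OddOrderLocal
import Cfsg.Agent.Lib.Helper2.MetaAct2
import Cfsg.Agent.Lib.Helper2.CoprimeQuot
import Cfsg.Agent.Lib.Helper1.FrattiniAction
import Cfsg.Agent.Lib.Helper1.Metacyclic
import Cfsg.Agent.Lib.Helper7.ConjK

/-!
# Coprime action on metacyclic `p`-groups, `p` odd: `[R, A] = R` forces `R` abelian
-/

set_option autoImplicit false
open scoped commutatorElement

namespace Cfsg.Agent.Lib.Helper2.MetaAct

open Cfsg.Agent.Lib.Helper1 Cfsg.Agent.Lib.Helper2.MetaOdd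

variable {G : Type*} [Group G]

theorem conj_eq_zpow_of_isCyclic (C : Subgroup G) (hC : IsCyclic C) (x : G)
    (hx : x ∈ Subgroup.normalizer (C : Set G)) : ∃ k : ℤ, ∀ y ∈ C, x * y * x⁻¹ = y ^ k := by
  obtain ⟨c, hc⟩ := (Subgroup.isCyclic_iff_exists_zpowers_eq_top C).mp hC
  have hcC : c ∈ C := by rw [← hc]; exact Subgroup.mem_zpowers c
  have h1 : x * c * x⁻¹ ∈ C := (Subgroup.mem_normalizer_iff.mp hx c).mp hcC
  rw [← hc] at h1
  obtain ⟨k, hk⟩ := Subgroup.mem_zpowers_iff.mp h1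
  refine ⟨k, ?_⟩
  intro y hy
  rw [← hc] at hy
  obtain ⟨i, rfl⟩ := Subgroup.mem_zpowers_iff.mp hy
  calc x * c ^ i * x⁻¹ = (x * c * x⁻¹) ^ i := by
        rw [← MulAut.conj_apply, ← MulAut.conj_apply, map_zpow]
    _ = (c ^ k) ^ i := by rw [hk]
    _ = (c ^ i) ^ k := by rw [← zpow_mul, ← zpow_mul, mul_comm]

/-- Commutators of elements normalising a cyclic subgroup centralise it. -/
theorem commutator_mem_centralizer_of_isCyclic (C : Subgroup G) (hC : IsCyclic C) (x y : G)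
    (hx : x ∈ Subgroup.normalizer (C : Set G)) (hy : y ∈ Subgroup.normalizer (C : Set G)) :
    ⁅x, y⁆ ∈ Subgroup.centralizer (C : Set G) := by
  obtain ⟨k₁, hk₁⟩ := conj_eq_zpow_of_isCyclic C hC x hx
  obtain ⟨k₂, hk₂⟩ := conj_eq_zpow_of_isCyclic C hC y hy
  have huv : ∀ z ∈ C, (x * y) * z * (x * y)⁻¹ = (y * x) * z * (y * x)⁻¹ := by
    intro z hz
    have e1 : (x * y) * z * (x * y)⁻¹ = x * (y * z * y⁻¹) * x⁻¹ := by group
    have e2 : (y * x) * z * (y * x)⁻¹ = y * (x * z * x⁻¹) * y⁻¹ := by group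
    rw [e1, e2, hk₂ z hz, hk₁ z hz, hk₁ _ (Subgroup.zpow_mem _ hz _),
      hk₂ _ (Subgroup.zpow_mem _ hz _), ← zpow_mul, ← zpow_mul, mul_comm]
  rw [Subgroup.mem_centralizer_iff]
  intro z hz
  have hv : (y * x)⁻¹ ∈ Subgroup.normalizer (C : Set G) :=
    Subgroup.inv_mem _ (Subgroup.mul_mem _ hy hx)
  have hz' : (y * x)⁻¹ * z * (y * x)⁻¹⁻¹ ∈ C := (Subgroup.mem_normalizer_iff.mp hv z).mp hz
  have h3 := huv _ hz'
  have e3 : (y * x) * ((y * x)⁻¹ * z * (y * x)⁻¹⁻¹) * (y * x)⁻¹ = z := by group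
  rw [e3] at h3
  have e4 : ⁅x, y⁆ * z * ⁅x, y⁆⁻¹ = (x * y) * ((y * x)⁻¹ * z * (y * x)⁻¹⁻¹) * (x * y)⁻¹ := by
    rw [commutatorElement_def]; group
  have h5 : ⁅x, y⁆ * z * ⁅x, y⁆⁻¹ = z := by rw [e4, h3]
  calc z * ⁅x, y⁆ = (⁅x, y⁆ * z * ⁅x, y⁆⁻¹) * ⁅x, y⁆ := by rw [h5]
    _ = ⁅x, y⁆ * z := by group

theorem isMetacyclic_of_mulEquiv {H : Type*} [Group H] (e : G ≃* H) (h : Cfsg.IsMetacyclic G) :
    Cfsg.IsMetacyclic H := by
  obtain ⟨N, hNn, hNc, hQc⟩ := h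
  have hNn' : (N.map e.toMonoidHom).Normal := hNn.map _ e.surjective
  refine ⟨N.map e.toMonoidHom, hNn', ?_, ?_⟩
  · exact (MulEquiv.isCyclic (e.subgroupMap N)).mp hNc
  · exact (MulEquiv.isCyclic (QuotientGroup.congr N (N.map e.toMonoidHom) e rfl)).mp hQc

/-- **Key lemma**: a metacyclic `p`-group (`p` odd) `R` with `[R, A] = R` for a `p'`-group `A`
acting on it is abelian. -/
theorem isMulCommutative_of_commutator_eq [Finite G] {p : ℕ} [hp : Fact p.Prime] (hodd : p ≠ 2)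
    (R A : Subgroup G) (hR : IsPGroup p R) (hRm : Cfsg.IsMetacyclic R)
    (hA : A ≤ Subgroup.normalizer (R : Set G)) (hcop : (Nat.card A).Coprime p)
    (hRA : ⁅R, A⁆ = R) : IsMulCommutative ↥R := by
  by_contra hna
  obtain ⟨n, hn0, hn⟩ := exists_card_commutator hodd hR hRm hna
  obtain ⟨N, hNn, hNc, hQc⟩ := hRm
  have hGN := commutator_le_of_cyclic_quotient N hQc
  -- Step A: class two
  have hCcyc : IsCyclic ↥(⁅R, R⁆ : Subgroup G) := by
    have h1 : (⁅R, R⁆ : Subgroup G) ≤ N.map R.subtype := by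
      rw [← Cfsg.Agent.Lib.Helper7.map_commutator_subtype]
      exact Subgroup.map_mono hGN
    have h2 : IsCyclic ↥(N.map R.subtype) :=
      (MulEquiv.isCyclic (N.equivMapOfInjective R.subtype R.subtype_injective)).mp hNc
    exact isCyclic_of_injective (Subgroup.inclusion h1) (Subgroup.inclusion_injective h1)
  have hRn : R ≤ Subgroup.normalizer ((⁅R, R⁆ : Subgroup G) : Set G) :=
    Subgroup.normalizer_commutator_ge_right R R
  have hAn : A ≤ Subgroup.normalizer ((⁅R, R⁆ : Subgroup G) : Set G) := by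
    have := normalizer_le_normalizer_map_characteristic R (commutator ↥R)
    rw [Cfsg.Agent.Lib.Helper7.map_commutator_subtype] at this
    exact hA.trans this
  have hRC : R ≤ Subgroup.centralizer ((⁅R, R⁆ : Subgroup G) : Set G) := by
    have h1 : ⁅R, A⁆ ≤ Subgroup.centralizer ((⁅R, R⁆ : Subgroup G) : Set G) := by
      rw [Subgroup.commutator_le]
      intro r hr a ha
      exact commutator_mem_centralizer_of_isCyclic _ hCcyc r a (hRn hr) (hAn ha)
    rwa [hRA] at h1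
  have hcc : CommCentral ↥R := by
    intro x y z
    apply Subtype.ext
    have h1 : ((⁅x, y⁆ : ↥R) : G) ∈ (⁅R, R⁆ : Subgroup G) := by
      rw [← Cfsg.Agent.Lib.Helper7.mem_commutator_subtype_iff, commutator_def]
      exact Subgroup.commutator_mem_commutator (Subgroup.mem_top x) (Subgroup.mem_top y)
    have h2 := Subgroup.mem_centralizer_iff.mp (hRC z.2) _ h1
    rw [Subgroup.coe_mul, Subgroup.coe_mul]
    exact h2
  -- the dichotomy
  obtain ⟨e, he⟩ := IsPGroup.iff_card.mp hR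
  have hcopR : (Nat.card A).Coprime (Nat.card R) := by
    rw [he]; exact Nat.Coprime.pow_right e hcop
  rcases aut_dichotomy hodd hR N hNc hQc n hn0 hn hcc with ⟨x, hxΦ, hx⟩ | ⟨R₁, hR₁top, hR₁⟩
  · -- a nonzero fixed vector in `R / Φ(R)`
    apply hxΦ
    have hΦn : Subgroup.normalizer (R : Set G) ≤
        Subgroup.normalizer (((frattini ↥R).map R.subtype : Subgroup G) : Set G) :=
      normalizer_le_normalizer_map_characteristic R (frattini ↥R)
    have hab : ⁅R, R⁆ ≤ (frattini ↥R).map R.subtype := by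
      rw [← Cfsg.Agent.Lib.Helper7.map_commutator_subtype]
      exact Subgroup.map_mono (commutator_le_frattini_of_isPGroup p hR)
    have hfix : ∀ a ∈ A, ⁅(x : G), a⁆ ∈ (frattini ↥R).map R.subtype := by
      intro a ha
      refine ⟨x * (Cfsg.Agent.Lib.Helper7.conjK R a (hA ha) x)⁻¹,
        hx (Cfsg.Agent.Lib.Helper7.conjK R a (hA ha)), ?_⟩
      rw [Subgroup.subtype_apply, Subgroup.coe_mul, Subgroup.coe_inv,
        Cfsg.Agent.Lib.Helper7.conjK_coe, commutatorElement_def]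
      group
    have hv : (x : G) ∈ ⁅R, A⁆ ⊔ (frattini ↥R).map R.subtype := by
      rw [hRA]; exact Subgroup.mem_sup_left x.2
    have h1 := coprime_abelian_quotient_inf A R ((frattini ↥R).map R.subtype)
      (Subgroup.le_normalizer.trans hΦn) (hA.trans hΦn) hA hab hcopR (x : G) x.2 hv hfix
    obtain ⟨y, hy, hyx⟩ := h1
    have : y = x := Subtype.ext hyx
    rwa [← this]
  · -- a nonzero fixed covector
    apply hR₁top
    have h1 : ⁅R, A⁆ ≤ R₁.map R.subtype := by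
      rw [Subgroup.commutator_le]
      intro r hr a ha
      refine ⟨(⟨r, hr⟩ : ↥R) * (Cfsg.Agent.Lib.Helper7.conjK R a (hA ha) ⟨r, hr⟩)⁻¹,
        hR₁ (Cfsg.Agent.Lib.Helper7.conjK R a (hA ha)) ⟨r, hr⟩, ?_⟩
      rw [Subgroup.subtype_apply, Subgroup.coe_mul, Subgroup.coe_inv,
        Cfsg.Agent.Lib.Helper7.conjK_coe, commutatorElement_def]
      group
    rw [hRA] at h1
    rw [eq_top_iff]
    intro x _
    obtain ⟨y, hy, hyx⟩ := h1 x.2
    have : y = x := Subtype.ext hyx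
    rwa [← this]

/-- In a metacyclic `p`-group (`p` odd), a noncyclic subgroup contains every element of order
dividing `p`. -/
theorem mem_of_pow_eq_one_of_not_isCyclic [Finite G] {p : ℕ} [hp : Fact p.Prime] (hodd : p ≠ 2)
    (hG : IsPGroup p G) (hm : Cfsg.IsMetacyclic G) (K : Subgroup G) (hK : ¬ IsCyclic ↥K)
    (x : G) (hx : x ^ p = 1) : x ∈ K := by
  have hGnc : ¬ IsCyclic G := fun h => hK inferInstance
  obtain ⟨-, h1⟩ := metacyclic_omegaOne hodd hG hm hGnc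
  obtain ⟨-, h2⟩ := metacyclic_omegaOne hodd (hG.to_subgroup K) (isMetacyclic_subgroup hm K) hK
  have h3 : (Cfsg.omegaOne p (⊤ : Subgroup ↥K)).map K.subtype ≤
      Cfsg.omegaOne p (⊤ : Subgroup G) := by
    unfold Cfsg.omegaOne
    rw [MonoidHom.map_closure, Subgroup.closure_le]
    rintro _ ⟨k, ⟨-, hk⟩, rfl⟩
    apply Subgroup.subset_closure
    refine ⟨Subgroup.mem_top _, ?_⟩
    have := congrArg Subtype.val hk
    rwa [Subgroup.coe_pow, Subgroup.coe_one] at this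
  have h4 := Subgroup.eq_of_le_of_card_ge h3
    (by rw [h1, Subgroup.card_map_of_injective K.subtype_injective, h2])
  have h5 : x ∈ Cfsg.omegaOne p (⊤ : Subgroup G) :=
    Subgroup.subset_closure ⟨Subgroup.mem_top _, hx⟩
  rw [← h4] at h5
  obtain ⟨k, -, rfl⟩ := h5
  exact k.2

theorem exists_ne_one_pow_prime_eq_one [Finite G] {p : ℕ} [hp : Fact p.Prime] (Y : Subgroup G)
    (hY : IsPGroup p Y) (hY1 : Y ≠ ⊥) : ∃ z ∈ Y, z ≠ 1 ∧ z ^ p = 1 := by
  have hYnt : Nontrivial Y := (Subgroup.nontrivial_iff_ne_bot _).mpr hY1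
  obtain ⟨k, hk⟩ := IsPGroup.iff_card.mp hY
  have hk0 : k ≠ 0 := by
    rintro rfl
    rw [pow_zero] at hk
    have := Finite.one_lt_card (α := Y)
    omega
  have hdvd : p ∣ Nat.card Y := by rw [hk]; exact dvd_pow_self p hk0
  obtain ⟨c, hc⟩ := exists_prime_orderOf_dvd_card' p hdvd
  rw [← Subgroup.orderOf_coe] at hc
  refine ⟨(c : G), c.2, ?_, ?_⟩
  · intro h
    rw [h, orderOf_one] at hc
    exact hp.out.one_lt.ne hc
  · rw [← hc, pow_orderOf_eq_one]

theorem isCyclic_of_inf_eq_bot [Finite G] {p : ℕ} [hp : Fact p.Prime] (hodd : p ≠ 2)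
    (R X Y : Subgroup G) (hR : IsPGroup p R) (hRm : Cfsg.IsMetacyclic R) (hX : X ≤ R) (hY : Y ≤ R)
    (hXY : X ⊓ Y = ⊥) (hY1 : Y ≠ ⊥) : IsCyclic ↥X := by
  by_contra hnc
  have h1 : ¬ IsCyclic ↥(X.subgroupOf R) :=
    fun h => hnc ((MulEquiv.isCyclic (Subgroup.subgroupOfEquivOfLe hX)).mp h)
  obtain ⟨z, hzY, hz1, hzp⟩ := exists_ne_one_pow_prime_eq_one Y (hR.to_le hY) hY1
  have h2 := mem_of_pow_eq_one_of_not_isCyclic hodd hR hRm (X.subgroupOf R) h1 ⟨z, hY hzY⟩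
    (Subtype.ext (by simpa using hzp))
  rw [Subgroup.mem_subgroupOf] at h2
  have h3 : z ∈ X ⊓ Y := ⟨h2, hzY⟩
  rw [hXY, Subgroup.mem_bot] at h3
  exact hz1 h3

theorem commutator_le_of_sup_eq_of_isCyclic (R X C : Subgroup G) (hX : X ≤ R)
    (hXn : R ≤ Subgroup.normalizer (X : Set G)) (hC : C ≤ R) (hsup : C ⊔ X = R)
    (hCc : IsCyclic ↥C) : ⁅R, R⁆ ≤ X := by
  haveI : (X.subgroupOf R).Normal := (Subgroup.normal_subgroupOf_iff_le_normalizer hX).mpr hXn
  obtain ⟨φ, hφ⟩ : ∃ φ : ↥C →* ↥R ⧸ X.subgroupOf R,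
      φ = (QuotientGroup.mk' _).comp (Subgroup.inclusion hC) := ⟨_, rfl⟩
  have hsurj : Function.Surjective φ := by
    intro q
    obtain ⟨r, rfl⟩ := QuotientGroup.mk_surjective q
    have h1 : (r : G) ∈ ((C ⊔ X : Subgroup G) : Set G) := by rw [hsup]; exact r.2
    rw [Subgroup.coe_mul_of_left_le_normalizer_right C X (hC.trans hXn)] at h1
    obtain ⟨c, hc, x, hx, hcx⟩ := Set.mem_mul.mp h1
    refine ⟨⟨c, hc⟩, ?_⟩
    rw [hφ]
    show (QuotientGroup.mk (Subgroup.inclusion hC ⟨c, hc⟩) : ↥R ⧸ X.subgroupOf R) =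
      QuotientGroup.mk r
    rw [QuotientGroup.eq, Subgroup.mem_subgroupOf]
    have : ((Subgroup.inclusion hC ⟨c, hc⟩)⁻¹ * r : ↥R) = (⟨x, hX hx⟩ : ↥R) := by
      apply Subtype.ext
      rw [Subgroup.coe_mul, Subgroup.coe_inv, ← hcx]
      show c⁻¹ * (c * x) = x
      group
    rw [this]
    exact hx
  have hcyc : IsCyclic (↥R ⧸ X.subgroupOf R) := isCyclic_of_surjective φ hsurj
  have h2 := commutator_le_of_cyclic_quotient _ hcyc
  rw [← Cfsg.Agent.Lib.Helper7.map_commutator_subtype]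
  rintro _ ⟨y, hy, rfl⟩
  exact Subgroup.mem_subgroupOf.mp (h2 hy)

/-- Coprime action on a metacyclic `p`-group, `p` odd. -/
theorem metacyclic_coprime_action [Finite G] (p : ℕ) [Fact p.Prime] (hp : p ≠ 2)
    (R A : Subgroup G) (hR : IsPGroup p R) (hRm : Cfsg.IsMetacyclic R)
    (hA : (A ≤ Subgroup.normalizer (R : Set G))) (hcop : (Nat.card A).Coprime p) :
    IsMulCommutative ↥⁅R, A⁆ ∧ ⁅R, A⁆ ⊔ (R ⊓ Subgroup.centralizer (A : Set G)) = R ∧
      ⁅R, A⁆ ⊓ (R ⊓ Subgroup.centralizer (A : Set G)) = ⊥ ∧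
      (¬ IsMulCommutative R → ¬ A ≤ Subgroup.centralizer (R : Set G) →
        ⁅R, A⁆ ≠ ⊥ ∧ IsCyclic ↥⁅R, A⁆ ∧ (R ⊓ Subgroup.centralizer (A : Set G)) ≠ ⊥ ∧
        IsCyclic ↥(R ⊓ Subgroup.centralizer (A : Set G)) ∧ ⁅R, R⁆ ≤ ⁅R, A⁆) := by
  obtain ⟨e, he⟩ := IsPGroup.iff_card.mp hR
  have hcopR : (Nat.card A).Coprime (Nat.card R) := by
    rw [he]; exact Nat.Coprime.pow_right e hcop
  haveI : Group.IsNilpotent ↥R := hR.isNilpotent
  have hsolv : Group.IsSolvable A ∨ Group.IsSolvable R := Or.inr inferInstance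
  have h2 := coprime_commutator_sup_centralizer A R hA hcopR hsolv
  have hRR₀ := coprime_commutator_commutator A R hA hcopR hsolv
  have hle : ⁅R, A⁆ ≤ R := Subgroup.le_normalizer_iff_commutator_le_left.mp hA
  have hAR₀ : A ≤ Subgroup.normalizer ((⁅R, A⁆ : Subgroup G) : Set G) :=
    Subgroup.normalizer_commutator_ge_right R A
  have hR₀p : IsPGroup p ↥⁅R, A⁆ := hR.to_le hle
  have hR₀m : Cfsg.IsMetacyclic ↥⁅R, A⁆ :=
    isMetacyclic_of_mulEquiv (Subgroup.subgroupOfEquivOfLe hle)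
      (isMetacyclic_subgroup hRm ((⁅R, A⁆ : Subgroup G).subgroupOf R))
  have h1 : IsMulCommutative ↥⁅R, A⁆ :=
    isMulCommutative_of_commutator_eq hp ⁅R, A⁆ A hR₀p hR₀m hAR₀ hcop hRR₀
  have hcopR₀ : (Nat.card A).Coprime (Nat.card ↥⁅R, A⁆) :=
    Nat.Coprime.coprime_dvd_right (Subgroup.card_dvd_of_le hle) hcopR
  have h3 : ⁅R, A⁆ ⊓ (R ⊓ Subgroup.centralizer (A : Set G)) = ⊥ := by
    have := coprime_abelian_centralizer_inf_commutator A ⁅R, A⁆ hAR₀ hcopR₀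
    rw [hRR₀] at this
    rw [eq_bot_iff, ← this]
    intro x hx
    exact ⟨⟨hx.1, hx.2.2⟩, hx.1⟩
  refine ⟨h1, h2, h3, ?_⟩
  intro hna hnc
  have h4a : ⁅R, A⁆ ≠ ⊥ := by
    intro h
    apply hnc
    rw [Subgroup.commutator_eq_bot_iff_le_centralizer] at h
    exact Subgroup.le_centralizer_iff.mp h
  have h4c : R ⊓ Subgroup.centralizer (A : Set G) ≠ ⊥ := by
    intro h
    rw [h, sup_bot_eq] at h2
    apply hna
    rw [← h2]
    exact h1
  have h4d : IsCyclic ↥(R ⊓ Subgroup.centralizer (A : Set G)) :=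
    isCyclic_of_inf_eq_bot hp R _ _ hR hRm inf_le_left hle (by rw [inf_comm]; exact h3) h4a
  refine ⟨h4a, isCyclic_of_inf_eq_bot hp R _ _ hR hRm hle inf_le_left h3 h4c, h4c, h4d, ?_⟩
  exact commutator_le_of_sup_eq_of_isCyclic R ⁅R, A⁆ (R ⊓ Subgroup.centralizer (A : Set G)) hle
    (Subgroup.normalizer_commutator_ge_left R A) inf_le_left (by rw [sup_comm]; exact h2) h4d

end Cfsg.Agent.Lib.Helper2.MetaAct
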