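import Mathlib
import Cfsg.Prelude.Def_OddOrderLocal

set_option autoImplicit false

namespace Cfsg.Agent.Lib.Helper2

/-- `m` is a `π`-number: all its prime divisors lie in `π`. -/
def IsPiNum (π : Set ℕ) (m : ℕ) : Prop := ∀ p : ℕ, p.Prime → p ∣ m → p ∈ π

theorem isPiNum_one (π : Set ℕ) : IsPiNum π 1 := by
  intro p hp h
  exact absurd (Nat.dvd_one.1 h) hp.one_lt.ne'

theorem IsPiNum.mul {π : Set ℕ} {a b : ℕ} (ha : IsPiNum π a) (hb : IsPiNum π b) :
    IsPiNum π (a * b) := by
  intro p hp h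
  rcases (hp.dvd_mul).1 h with h | h
  · exact ha p hp h
  · exact hb p hp h

theorem IsPiNum.of_dvd {π : Set ℕ} {a b : ℕ} (hb : IsPiNum π b) (h : a ∣ b) : IsPiNum π a :=
  fun p hp hpa => hb p hp (hpa.trans h)

theorem isPiNum_prime_pow {π : Set ℕ} {p : ℕ} (hpπ : p ∈ π) (hp : p.Prime) (k : ℕ) :
    IsPiNum π (p ^ k) := by
  intro q hq h
  have := (Nat.prime_dvd_prime_iff_eq hq hp).1 (hq.dvd_of_dvd_pow h)
  rw [this]; exact hpπ

/-- a `π`-number and a `π'`-number are coprime -/
theorem coprime_of_isPiNum {π : Set ℕ} {a b : ℕ} (ha : IsPiNum π a) (hb : IsPiNum πᶜ b) :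
    a.Coprime b := by
  apply Nat.Coprime.symm
  apply Nat.coprime_of_dvd
  intro p hp h1 h2
  exact hb p hp h1 (ha p hp h2)

/-- Every positive integer is the product of a `π`-number and a `π'`-number. -/
theorem exists_pi_decomp (π : Set ℕ) : ∀ N : ℕ, N ≠ 0 →
    ∃ m n : ℕ, N = m * n ∧ IsPiNum π m ∧ IsPiNum πᶜ n := by
  intro N
  induction N using Nat.strong_induction_on with
  | _ N ih =>
    intro hN
    by_cases h1 : N = 1
    · exact ⟨1, 1, by rw [h1], isPiNum_one _, isPiNum_one _⟩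
    · set p := N.minFac with hp
      have hpp : p.Prime := Nat.minFac_prime h1
      obtain ⟨k, N', hpN', hN'⟩ := Nat.exists_eq_pow_mul_and_not_dvd hN p hpp.ne_one
      have hk : k ≠ 0 := by
        rintro rfl
        rw [pow_zero, one_mul] at hN'
        exact hpN' (hN' ▸ Nat.minFac_dvd N)
      have hN'0 : N' ≠ 0 := by
        rintro rfl
        rw [mul_zero] at hN'
        exact hN hN'
      have hlt : N' < N := by
        rw [hN']
        have : 1 < p ^ k := Nat.one_lt_pow hk hpp.one_lt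
        nlinarith [Nat.pos_of_ne_zero hN'0]
      obtain ⟨m, n, hmn, hm, hn⟩ := ih N' hlt hN'0
      by_cases hpπ : p ∈ π
      · refine ⟨p ^ k * m, n, by rw [hN', hmn]; ring, (isPiNum_prime_pow hpπ hpp k).mul hm, hn⟩
      · refine ⟨m, p ^ k * n, by rw [hN', hmn]; ring, hm, ?_⟩
        exact (isPiNum_prime_pow (π := πᶜ) hpπ hpp k).mul hn

end Cfsg.Agent.Lib.Helper2

namespace Cfsg.Agent.Lib.Helper2

variable {G : Type*} [Group G]

theorem card_mul_relIndex' {H K : Subgroup G} (h : H ≤ K) :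
    Nat.card H * H.relIndex K = Nat.card K := by
  rw [← Subgroup.relIndex_bot_left, Subgroup.relIndex_mul_relIndex _ _ _ bot_le h,
    Subgroup.relIndex_bot_left]

/-- Numeric characterisation of Hall `π`-subgroups. -/
theorem isPiHallOf_iff_card [Finite G] {π : Set ℕ} {H K : Subgroup G} {m n : ℕ}
    (hK : Nat.card K = m * n) (hm : IsPiNum π m) (hn : IsPiNum πᶜ n) :
    Cfsg.IsPiHallOf π H K ↔ H ≤ K ∧ Nat.card H = m := by
  constructor
  · rintro ⟨hHK, hπ, hidx⟩
    refine ⟨hHK, ?_⟩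
    have h1 := card_mul_relIndex' hHK
    rw [hK] at h1
    have hr : IsPiNum πᶜ (H.relIndex K) := fun p hp hdvd hpπ => hidx p hp hpπ hdvd
    have hH : IsPiNum π (Nat.card H) := hπ
    apply Nat.dvd_antisymm
    · have : Nat.card H ∣ m * n := Dvd.intro _ h1
      exact (coprime_of_isPiNum hH hn).dvd_of_dvd_mul_right this
    · have : m ∣ Nat.card H * H.relIndex K := Dvd.intro _ h1.symm
      exact (coprime_of_isPiNum hm hr).dvd_of_dvd_mul_right this
  · rintro ⟨hHK, hcard⟩
    refine ⟨hHK, ?_, ?_⟩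
    · rw [hcard]; exact hm
    · have h1 := card_mul_relIndex' hHK
      rw [hK, hcard] at h1
      have hm0 : 0 < m := by
        rw [← hcard]; exact Nat.card_pos
      have h2 : H.relIndex K = n := Nat.eq_of_mul_eq_mul_left hm0 h1
      intro p hp hpπ hdvd
      rw [h2] at hdvd
      exact hn p hp hdvd hpπ

/-- the order of a Hall subgroup is coprime to its index -/
theorem IsPiHallOf.coprime [Finite G] {π : Set ℕ} {H K : Subgroup G}
    (h : Cfsg.IsPiHallOf π H K) : (Nat.card H).Coprime (H.relIndex K) := by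
  apply coprime_of_isPiNum (π := π) h.2.1
  intro p hp hdvd hpπ
  exact h.2.2 p hp hpπ hdvd

end Cfsg.Agent.Lib.Helper2
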