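import Mathlib
import Cfsg.Agent.Lib.Helper1.Glauberman
import Cfsg.Agent.Lib.Helper1.Hall
import Cfsg.Agent.Lib.Helper1.FrattiniHall
import Cfsg.Agent.Lib.Helper1.CoprimeSylow
import Cfsg.Agent.Lib.Helper2.PiNumber
import Cfsg.Agent.Lib.Helper2.MinNormal
import Cfsg.Agent.Lib.Helper2.Cores

set_option autoImplicit false

namespace Cfsg.Agent.Lib.Helper2

open Cfsg.Agent.Lib.Helper1
open scoped Pointwise commutatorElement

universe u

variable {Γ : Type u} [Group Γ]

/-- Subgroups of the normal subgroup `K` of order `m`, with the conjugation action of `Γ`. -/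
def SubOfCard (K : Subgroup Γ) (m : ℕ) : Type u :=
  {H : Subgroup Γ // H ≤ K ∧ Nat.card H = m}

theorem conj_smul_le_of_normal (K : Subgroup Γ) [K.Normal] {H : Subgroup Γ} (h : H ≤ K) (g : Γ) :
    MulAut.conj g • H ≤ K := by
  have : MulAut.conj g • H ≤ MulAut.conj g • K :=
    Subgroup.pointwise_smul_le_pointwise_smul_iff.mpr h
  rwa [Subgroup.Normal.conj_smul_eq_self g K] at this

instance subOfCardMulAction (K : Subgroup Γ) [K.Normal] (m : ℕ) : MulAction Γ (SubOfCard K m) where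
  smul g H := ⟨MulAut.conj g • H.1, conj_smul_le_of_normal K H.2.1 g, by
    rw [card_conj_smul]; exact H.2.2⟩
  one_smul H := by
    apply Subtype.ext
    show MulAut.conj (1 : Γ) • H.1 = H.1
    rw [map_one, one_smul]
  mul_smul g h H := by
    apply Subtype.ext
    show MulAut.conj (g * h) • H.1 = MulAut.conj g • (MulAut.conj h • H.1)
    rw [map_mul, mul_smul]

theorem subOfCard_smul_val (K : Subgroup Γ) [K.Normal] (m : ℕ) (g : Γ) (H : SubOfCard K m) :
    (g • H).1 = MulAut.conj g • H.1 := rfl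

theorem subOfCard_pretransitive [Finite Γ] (K : Subgroup Γ) [K.Normal] (hK : Group.IsSolvable K)
    {m n : ℕ} (hcard : Nat.card K = m * n) (hmn : m.Coprime n) :
    MulAction.IsPretransitive K (SubOfCard K m) := by
  constructor
  intro H₁ H₂
  have hidx : ∀ H : SubOfCard K m, (H.1.subgroupOf K).index = n := by
    intro H
    have h1 := (H.1.subgroupOf K).card_mul_index
    rw [card_subgroupOf_of_le H.2.1, H.2.2, hcard] at h1
    have hm0 : 0 < m := by rw [← H.2.2]; exact Nat.card_pos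
    exact Nat.eq_of_mul_eq_mul_left hm0 h1
  have h1 : (Nat.card (H₁.1.subgroupOf K)).Coprime (H₁.1.subgroupOf K).index := by
    rw [hidx, card_subgroupOf_of_le H₁.2.1, H₁.2.2]; exact hmn
  have h2 : Nat.card (H₁.1.subgroupOf K) = Nat.card (H₂.1.subgroupOf K) := by
    rw [card_subgroupOf_of_le H₁.2.1, card_subgroupOf_of_le H₂.2.1, H₁.2.2, H₂.2.2]
  obtain ⟨k, hk⟩ := hall_conj (H₁.1.subgroupOf K) (H₂.1.subgroupOf K) h1 h2
  refine ⟨k, ?_⟩
  apply Subtype.ext
  exact conj_smul_of_subgroupOf H₁.2.1 H₂.2.1 k hk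

theorem subOfCard_nonempty [Finite Γ] (K : Subgroup Γ) (hK : Group.IsSolvable K)
    {m n : ℕ} (hcard : Nat.card K = m * n) (hmn : m.Coprime n) :
    Nonempty (SubOfCard K m) := by
  obtain ⟨H', hH'⟩ := hall_exists (G := K) m n hcard hmn
  exact ⟨⟨H'.map K.subtype, Subgroup.map_subtype_le _, by
    rw [Subgroup.card_map_of_injective K.subtype_injective, hH']⟩⟩

/-- Coprime action (complement form): there is an `A`-invariant subgroup of `K` of Hall order. -/
theorem exists_invariant_hall_compl [Finite Γ] (K A : Subgroup Γ) [K.Normal]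
    (hc : Subgroup.IsComplement' K A) (hcop : (Nat.card K).Coprime (Nat.card A))
    (hK : Group.IsSolvable K) {m n : ℕ} (hcard : Nat.card K = m * n) (hmn : m.Coprime n) :
    ∃ H : Subgroup Γ, H ≤ K ∧ Nat.card H = m ∧ A ≤ Subgroup.normalizer (H : Set Γ) := by
  haveI := subOfCard_nonempty K hK hcard hmn
  have hidx : K.index = Nat.card A := hc.symm.index_eq_card
  obtain ⟨H, hH⟩ := glauberman_exists_fixed (X := SubOfCard K m) K A hc (hidx ▸ hcop) (Or.inl hK)
    (subOfCard_pretransitive K hK hcard hmn)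
  refine ⟨H.1, H.2.1, H.2.2, ?_⟩
  intro a ha
  apply mem_normalizer_of_conj_smul_eq
  have := hH a ha
  exact congrArg Subtype.val this

/-- Coprime action (complement form): two `A`-invariant subgroups of `K` of Hall order are
conjugate by an element of `C_K(A)`. -/
theorem invariant_hall_conj_compl [Finite Γ] (K A : Subgroup Γ) [K.Normal]
    (hc : Subgroup.IsComplement' K A) (hcop : (Nat.card K).Coprime (Nat.card A))
    (hK : Group.IsSolvable K) {m n : ℕ} (hcard : Nat.card K = m * n) (hmn : m.Coprime n)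
    (H₁ H₂ : Subgroup Γ) (h₁ : H₁ ≤ K) (h₂ : H₂ ≤ K) (c₁ : Nat.card H₁ = m) (c₂ : Nat.card H₂ = m)
    (n₁ : A ≤ Subgroup.normalizer (H₁ : Set Γ)) (n₂ : A ≤ Subgroup.normalizer (H₂ : Set Γ)) :
    ∃ c ∈ K ⊓ Subgroup.centralizer (A : Set Γ), MulAut.conj c • H₁ = H₂ := by
  have hidx : K.index = Nat.card A := hc.symm.index_eq_card
  obtain ⟨k, hk, hk2⟩ := glauberman_fixed_conj (X := SubOfCard K m) K A hc (hidx ▸ hcop)
    (Or.inl hK) (subOfCard_pretransitive K hK hcard hmn) ⟨H₁, h₁, c₁⟩ ⟨H₂, h₂, c₂⟩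
    (fun a ha => Subtype.ext (conj_smul_eq_of_mem_normalizer (n₁ ha)))
    (fun a ha => Subtype.ext (conj_smul_eq_of_mem_normalizer (n₂ ha)))
  exact ⟨k, hk, congrArg Subtype.val hk2⟩

section ambient

variable {G : Type u} [Group G]

theorem subgroupOf_le_normalizer_subgroupOf {A U L : Subgroup G} (hUL : U ≤ L)
    (h : A ≤ Subgroup.normalizer (U : Set G)) :
    A.subgroupOf L ≤ Subgroup.normalizer ((U.subgroupOf L : Subgroup L) : Set L) := by
  rw [← Subgroup.subgroupOf_normalizer_eq hUL]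
  intro x hx
  rw [Subgroup.mem_subgroupOf] at hx ⊢
  exact h hx

theorem le_normalizer_map_subtype {L : Subgroup G} {A' H' : Subgroup L}
    (h : A' ≤ Subgroup.normalizer (H' : Set L)) :
    A'.map L.subtype ≤ Subgroup.normalizer ((H'.map L.subtype : Subgroup G) : Set G) :=
  (Subgroup.map_mono h).trans (Subgroup.le_normalizer_map _)

/-- Coprime action on a solvable group: an invariant subgroup of Hall order exists. -/
theorem coprime_exists_invariant_hall [Finite G] (A K : Subgroup G)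
    (hAK : A ≤ Subgroup.normalizer (K : Set G))
    (hcop : (Nat.card A).Coprime (Nat.card K)) (hsolv : Group.IsSolvable K)
    {m n : ℕ} (hcard : Nat.card K = m * n) (hmn : m.Coprime n) :
    ∃ H : Subgroup G, H ≤ K ∧ Nat.card H = m ∧ A ≤ Subgroup.normalizer (H : Set G) := by
  obtain ⟨hn, hc, -, -⟩ := coprime_action_data A K hAK hcop (Or.inr hsolv)
  have hKL : K ≤ K ⊔ A := le_sup_left
  have hAL : A ≤ K ⊔ A := le_sup_right
  have hcop' : (Nat.card (K.subgroupOf (K ⊔ A))).Coprime (Nat.card (A.subgroupOf (K ⊔ A))) := by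
    rw [card_subgroupOf_of_le hKL, card_subgroupOf_of_le hAL]; exact hcop.symm
  have hcard' : Nat.card (K.subgroupOf (K ⊔ A)) = m * n := by
    rw [card_subgroupOf_of_le hKL, hcard]
  obtain ⟨H', hH'K, hH'c, hH'n⟩ := exists_invariant_hall_compl (K.subgroupOf (K ⊔ A))
    (A.subgroupOf (K ⊔ A)) hc hcop' (isSolvable_subgroupOf K _) hcard' hmn
  refine ⟨H'.map (K ⊔ A).subtype, ?_, ?_, ?_⟩
  · rintro _ ⟨y, hy, rfl⟩
    exact Subgroup.mem_subgroupOf.1 (hH'K hy)
  · rw [Subgroup.card_map_of_injective (K ⊔ A).subtype_injective, hH'c]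
  · have := le_normalizer_map_subtype hH'n
    rwa [Subgroup.subgroupOf_map_subtype, inf_of_le_left hAL] at this

/-- Coprime action on a solvable group: invariant subgroups of Hall order are conjugate under
the fixed points. -/
theorem coprime_invariant_hall_conj [Finite G] (A K : Subgroup G)
    (hAK : A ≤ Subgroup.normalizer (K : Set G))
    (hcop : (Nat.card A).Coprime (Nat.card K)) (hsolv : Group.IsSolvable K)
    {m n : ℕ} (hcard : Nat.card K = m * n) (hmn : m.Coprime n)
    (H₁ H₂ : Subgroup G) (h₁ : H₁ ≤ K) (h₂ : H₂ ≤ K) (c₁ : Nat.card H₁ = m) (c₂ : Nat.card H₂ = m)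
    (n₁ : A ≤ Subgroup.normalizer (H₁ : Set G)) (n₂ : A ≤ Subgroup.normalizer (H₂ : Set G)) :
    ∃ c ∈ K ⊓ Subgroup.centralizer (A : Set G), MulAut.conj c • H₁ = H₂ := by
  obtain ⟨hn, hc, -, -⟩ := coprime_action_data A K hAK hcop (Or.inr hsolv)
  have hKL : K ≤ K ⊔ A := le_sup_left
  have hAL : A ≤ K ⊔ A := le_sup_right
  have hcop' : (Nat.card (K.subgroupOf (K ⊔ A))).Coprime (Nat.card (A.subgroupOf (K ⊔ A))) := by
    rw [card_subgroupOf_of_le hKL, card_subgroupOf_of_le hAL]; exact hcop.symm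
  have hcard' : Nat.card (K.subgroupOf (K ⊔ A)) = m * n := by
    rw [card_subgroupOf_of_le hKL, hcard]
  have h₁L : H₁ ≤ K ⊔ A := h₁.trans hKL
  have h₂L : H₂ ≤ K ⊔ A := h₂.trans hKL
  obtain ⟨c, ⟨hcK, hcC⟩, hconj⟩ := invariant_hall_conj_compl (K.subgroupOf (K ⊔ A))
    (A.subgroupOf (K ⊔ A)) hc hcop' (isSolvable_subgroupOf K _) hcard' hmn
    (H₁.subgroupOf (K ⊔ A)) (H₂.subgroupOf (K ⊔ A))
    (fun x hx => Subgroup.mem_subgroupOf.2 (h₁ (Subgroup.mem_subgroupOf.1 hx)))
    (fun x hx => Subgroup.mem_subgroupOf.2 (h₂ (Subgroup.mem_subgroupOf.1 hx)))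
    (by rw [card_subgroupOf_of_le h₁L, c₁]) (by rw [card_subgroupOf_of_le h₂L, c₂])
    (subgroupOf_le_normalizer_subgroupOf h₁L n₁) (subgroupOf_le_normalizer_subgroupOf h₂L n₂)
  refine ⟨(c : G), ⟨Subgroup.mem_subgroupOf.1 hcK, ?_⟩, conj_smul_of_subgroupOf h₁L h₂L c hconj⟩
  show (c : G) ∈ Subgroup.centralizer (A : Set G)
  have hcC : c ∈ Subgroup.centralizer ((A.subgroupOf (K ⊔ A) : Subgroup _) : Set _) := hcC
  rw [Subgroup.mem_centralizer_iff]
  intro a ha
  have := Subgroup.mem_centralizer_iff.1 hcC ⟨a, hAL ha⟩ (Subgroup.mem_subgroupOf.2 ha)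
  exact congrArg Subtype.val this

end ambient

/-- A minimal normal subgroup inside a solvable normal subgroup has prime power order. -/
theorem minNormal_card_prime_pow [Finite Γ] {K M : Subgroup Γ} (hK : Group.IsSolvable K)
    (hMK : M ≤ K) (hM : IsMinNormal M) (hne : M ≠ ⊥) :
    ∃ q e : ℕ, q.Prime ∧ Nat.card M = q ^ e := by
  haveI hMn : M.Normal := hM.1
  haveI : Group.IsSolvable M := isSolvable_of_le hMK
  have hcomm : ⁅M, M⁆ = ⊥ := by
    have h1 : (⁅M, M⁆ : Subgroup Γ).Normal := inferInstance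
    rcases hM.2 _ h1 (Subgroup.commutator_le_left M M) with h | h
    · exact h
    · exact absurd h (commutator_self_ne_of_isSolvable M hne)
  have hc : ∀ x ∈ M, ∀ y ∈ M, x * y = y * x := by
    intro x hx y hy
    have : ⁅x, y⁆ ∈ (⁅M, M⁆ : Subgroup Γ) := Subgroup.commutator_mem_commutator hx hy
    rw [hcomm, Subgroup.mem_bot] at this
    exact (commutatorElement_eq_one_iff_mul_comm.1 this)
  have hcard1 : Nat.card M ≠ 1 := fun h => hne (Subgroup.card_eq_one.1 h)
  obtain ⟨q, hq, hqM⟩ := Nat.exists_prime_and_dvd hcard1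
  haveI : Fact q.Prime := ⟨hq⟩
  let T : Subgroup Γ :=
    { carrier := {x | x ∈ M ∧ x ^ q = 1}
      one_mem' := ⟨one_mem _, one_pow _⟩
      mul_mem' := by
        rintro a b ⟨ha, ha'⟩ ⟨hb, hb'⟩
        refine ⟨M.mul_mem ha hb, ?_⟩
        have : Commute a b := hc a ha b hb
        rw [this.mul_pow, ha', hb', one_mul]
      inv_mem' := by
        rintro a ⟨ha, ha'⟩
        exact ⟨M.inv_mem ha, by rw [inv_pow, ha', inv_one]⟩ }
  have hTmem : ∀ x, x ∈ T ↔ x ∈ M ∧ x ^ q = 1 := fun x => Iff.rfl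
  have hTn : T.Normal := by
    constructor
    intro x hx g
    rw [hTmem] at hx ⊢
    exact ⟨hMn.conj_mem x hx.1 g, by rw [conj_pow, hx.2]; group⟩
  have hTM : T ≤ M := fun x hx => ((hTmem x).1 hx).1
  have hTne : T ≠ ⊥ := by
    obtain ⟨x, hx⟩ := exists_prime_orderOf_dvd_card' (G := M) q hqM
    intro h
    have : (x : Γ) ∈ T := by
      rw [hTmem]
      refine ⟨x.2, ?_⟩
      have := pow_orderOf_eq_one x
      rw [hx] at this
      have := congrArg Subtype.val this
      simpa using this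
    rw [h, Subgroup.mem_bot] at this
    have hx1 : x = 1 := Subtype.ext this
    rw [hx1, orderOf_one] at hx
    exact hq.one_lt.ne' hx.symm
  have hTeq : T = M := (hM.2 T hTn hTM).resolve_left hTne
  have hpg : IsPGroup q M := by
    intro x
    refine ⟨1, ?_⟩
    have : (x : Γ) ∈ T := by rw [hTeq]; exact x.2
    apply Subtype.ext
    rw [pow_one]
    simpa using ((hTmem _).1 this).2
  obtain ⟨e, he⟩ := IsPGroup.iff_card.1 hpg
  exact ⟨q, e, hq, he⟩

theorem coprime_of_prime_not_mem {π : Set ℕ} {q n : ℕ} (hq : q.Prime) (hqπ : q ∈ π)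
    (hn : IsPiNum πᶜ n) (e : ℕ) : (q ^ e).Coprime n := by
  apply Nat.Coprime.pow_left
  rw [Nat.Prime.coprime_iff_not_dvd hq]
  intro h
  exact hn q hq h hqπ

/-- Coprime action on a solvable group (complement form): every invariant `π`-subgroup lies in
an invariant Hall `π`-subgroup. -/
theorem invariant_le_hall_aux (π : Set ℕ) : ∀ (N : ℕ) (Γ : Type u) [Group Γ] [Finite Γ],
    Nat.card Γ = N → ∀ (K A : Subgroup Γ) [K.Normal], K.IsComplement' A →
    (Nat.card K).Coprime (Nat.card A) → Group.IsSolvable K →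
    ∀ (m n : ℕ), Nat.card K = m * n → IsPiNum π m → IsPiNum πᶜ n →
    ∀ U : Subgroup Γ, U ≤ K → IsPiNum π (Nat.card U) → A ≤ Subgroup.normalizer (U : Set Γ) →
    ∃ H : Subgroup Γ, H ≤ K ∧ Nat.card H = m ∧ A ≤ Subgroup.normalizer (H : Set Γ) ∧ U ≤ H := by
  intro N
  induction N using Nat.strong_induction_on with
  | _ N ih =>
  intro Γ _ _ hN K A _ hc hcop hK m n hcard hm hn U hUK hUπ hUA
  have hmn : m.Coprime n := coprime_of_isPiNum hm hn
  by_cases hKbot : K = ⊥
  · refine ⟨⊥, bot_le, ?_, ?_, ?_⟩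
    · rw [hKbot, Subgroup.card_bot] at hcard
      rw [Subgroup.card_bot]
      exact (Nat.eq_one_of_mul_eq_one_right hcard.symm).symm
    · intro a _
      rw [Subgroup.mem_normalizer_iff]
      intro x
      simp [Subgroup.mem_bot]
    · rw [← hKbot]; exact hUK
  obtain ⟨M, hMK, hMne, hMmin⟩ := exists_isMinNormal_le K hKbot
  obtain ⟨q, e, hq, hMcard⟩ := minNormal_card_prime_pow hK hMK hMmin hMne
  haveI hMn : M.Normal := hMmin.1
  have hf : Function.Surjective (QuotientGroup.mk' M) := QuotientGroup.mk'_surjective M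
  haveI hKqn : (K.map (QuotientGroup.mk' M)).Normal := Subgroup.Normal.map inferInstance _ hf
  have hcq := isComplement'_map hc hcop (QuotientGroup.mk' M) hf
  have hcopq := coprime_card_map hcop (QuotientGroup.mk' M)
  have hKq : Group.IsSolvable (K.map (QuotientGroup.mk' M)) := isSolvable_map _ K
  have hcomapK : (K.map (QuotientGroup.mk' M)).comap (QuotientGroup.mk' M) = K := by
    rw [Subgroup.comap_map_eq, QuotientGroup.ker_mk', sup_eq_left.2 hMK]
  have hKqcard : Nat.card K = q ^ e * Nat.card (K.map (QuotientGroup.mk' M)) := by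
    have := card_comap_mk' M (K.map (QuotientGroup.mk' M))
    rwa [hcomapK, hMcard] at this
  have hqpos : 0 < q ^ e := pow_pos hq.pos e
  have hNq : Nat.card (Γ ⧸ M) < N := hN ▸ card_quotient_lt_of_ne_bot M hMne
  have hUq : U.map (QuotientGroup.mk' M) ≤ K.map (QuotientGroup.mk' M) := Subgroup.map_mono hUK
  have hUqπ : IsPiNum π (Nat.card (U.map (QuotientGroup.mk' M))) :=
    hUπ.of_dvd (Subgroup.card_map_dvd _ _)
  have hUqA : A.map (QuotientGroup.mk' M) ≤
      Subgroup.normalizer ((U.map (QuotientGroup.mk' M) : Subgroup (Γ ⧸ M)) : Set (Γ ⧸ M)) :=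
    (Subgroup.map_mono hUA).trans (Subgroup.le_normalizer_map _)
  -- properties of a pulled back subgroup
  have pull : ∀ Hq : Subgroup (Γ ⧸ M), Hq ≤ K.map (QuotientGroup.mk' M) →
      A.map (QuotientGroup.mk' M) ≤ Subgroup.normalizer (Hq : Set (Γ ⧸ M)) →
      U.map (QuotientGroup.mk' M) ≤ Hq →
      Hq.comap (QuotientGroup.mk' M) ≤ K ∧
        Nat.card (Hq.comap (QuotientGroup.mk' M)) = q ^ e * Nat.card Hq ∧
        A ≤ Subgroup.normalizer ((Hq.comap (QuotientGroup.mk' M) : Subgroup Γ) : Set Γ) ∧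
        U ≤ Hq.comap (QuotientGroup.mk' M) := by
    intro Hq h1 h2 h3
    refine ⟨?_, ?_, ?_, ?_⟩
    · rw [← hcomapK]; exact Subgroup.comap_mono h1
    · rw [card_comap_mk', hMcard]
    · rw [← Subgroup.comap_normalizer_eq_of_surjective _ hf]
      intro a ha
      exact h2 (Subgroup.mem_map_of_mem _ ha)
    · exact (Subgroup.le_comap_map _ _).trans (Subgroup.comap_mono h3)
  by_cases hqπ : q ∈ π
  · -- `M` is a `π`-group
    have hdvd : q ^ e ∣ m := by
      have h1 : q ^ e ∣ m * n := by rw [← hcard, hKqcard]; exact Dvd.intro _ rfl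
      exact (coprime_of_prime_not_mem hq hqπ hn e).dvd_of_dvd_mul_right h1
    obtain ⟨m', hm'⟩ := hdvd
    have hcardq : Nat.card (K.map (QuotientGroup.mk' M)) = m' * n := by
      have : q ^ e * Nat.card (K.map (QuotientGroup.mk' M)) = q ^ e * (m' * n) := by
        rw [← hKqcard, hcard, hm']; ring
      exact Nat.eq_of_mul_eq_mul_left hqpos this
    have hm'π : IsPiNum π m' := hm.of_dvd (Dvd.intro_left _ hm'.symm)
    obtain ⟨Hq, h1, h2, h3, h4⟩ := ih _ hNq (Γ ⧸ M) rfl (K.map (QuotientGroup.mk' M))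
      (A.map (QuotientGroup.mk' M)) hcq hcopq hKq m' n hcardq hm'π hn _ hUq hUqπ hUqA
    obtain ⟨p1, p2, p3, p4⟩ := pull Hq h1 h3 h4
    exact ⟨_, p1, by rw [p2, h2, hm'], p3, p4⟩
  · -- `M` is a `π'`-group
    have hqπ' : q ∈ πᶜ := hqπ
    have hdvd : q ^ e ∣ n := by
      have h1 : q ^ e ∣ n * m := by rw [mul_comm, ← hcard, hKqcard]; exact Dvd.intro _ rfl
      exact (coprime_of_prime_not_mem (π := πᶜ) hq hqπ' (by rwa [compl_compl]) e).dvd_of_dvd_mul_right
        h1
    obtain ⟨n', hn'⟩ := hdvd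
    have hcardq : Nat.card (K.map (QuotientGroup.mk' M)) = m * n' := by
      have : q ^ e * Nat.card (K.map (QuotientGroup.mk' M)) = q ^ e * (m * n') := by
        rw [← hKqcard, hcard, hn']; ring
      exact Nat.eq_of_mul_eq_mul_left hqpos this
    have hn'π : IsPiNum πᶜ n' := hn.of_dvd (Dvd.intro_left _ hn'.symm)
    obtain ⟨Hq, h1, h2, h3, h4⟩ := ih _ hNq (Γ ⧸ M) rfl (K.map (QuotientGroup.mk' M))
      (A.map (QuotientGroup.mk' M)) hcq hcopq hKq m n' hcardq hm hn'π _ hUq hUqπ hUqA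
    obtain ⟨p1, p2, p3, p4⟩ := pull Hq h1 h3 h4
    set H₁ := Hq.comap (QuotientGroup.mk' M) with hH₁
    rw [h2] at p2
    have hqeπ : IsPiNum πᶜ (q ^ e) := isPiNum_prime_pow hqπ' hq e
    have hcopmq : m.Coprime (q ^ e) := coprime_of_isPiNum hm hqeπ
    have hdisjKA : Disjoint K A := hc.disjoint
    by_cases hH₁K : H₁ = K
    · -- `K = M ⋊ H`
      have hcardK : Nat.card K = m * q ^ e := by rw [← hH₁K, p2]; ring
      obtain ⟨H, hHK, hHcard, hHA⟩ := exists_invariant_hall_compl K A hc hcop hK hcard hmn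
      -- L = U M
      set L := U ⊔ M with hL
      have hLK : L ≤ K := sup_le hUK hMK
      have hML : M ≤ L := le_sup_right
      have hLA : A ≤ Subgroup.normalizer (L : Set Γ) := by
        have h1 := Subgroup.normalizer_inf_normalizer_le_normalizer_sup U M
        have h2 : Subgroup.normalizer (M : Set Γ) = ⊤ := Subgroup.normalizer_eq_top_iff.2 hMn
        rw [h2, inf_top_eq] at h1
        exact hUA.trans h1
      have hUM : U ⊓ M = ⊥ := (Subgroup.disjoint_of_coprime_natCard (by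
        rw [hMcard]; exact coprime_of_isPiNum hUπ hqeπ)).eq_bot
      have hLcard : Nat.card L = Nat.card U * q ^ e := by
        have := card_sup_mul_card_inf U M
        rwa [hUM, Subgroup.card_bot, mul_one, hMcard] at this
      -- K = H M
      have hHM : H ⊓ M = ⊥ := (Subgroup.disjoint_of_coprime_natCard (by
        rw [hMcard, hHcard]; exact hcopmq)).eq_bot
      have hKHM : H ⊔ M = K := by
        apply Subgroup.eq_of_le_of_card_ge (sup_le hHK hMK)
        have := card_sup_mul_card_inf H M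
        rw [hHM, Subgroup.card_bot, mul_one, hMcard, hHcard] at this
        rw [this, hcardK]
      set V := L ⊓ H with hV
      have hVA : A ≤ Subgroup.normalizer (V : Set Γ) := le_normalizer_inf hLA hHA
      have hVM : V ⊓ M = ⊥ := by
        rw [eq_bot_iff, ← hHM]
        exact inf_le_inf_right M inf_le_right
      have hLVM : V ⊔ M = L := by
        apply le_antisymm (sup_le inf_le_left hML)
        intro x hx
        have hxK : x ∈ ((H ⊔ M : Subgroup Γ) : Set Γ) := by rw [hKHM]; exact hLK hx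
        rw [Subgroup.mul_normal] at hxK
        obtain ⟨h, hh, μ, hμ, rfl⟩ := hxK
        have hhL : h ∈ L := by
          have : h = (h * μ) * μ⁻¹ := by group
          rw [this]
          exact L.mul_mem hx (L.inv_mem (hML hμ))
        exact Subgroup.mul_mem_sup ⟨hhL, hh⟩ hμ
      have hVcard : Nat.card V = Nat.card U := by
        have := card_sup_mul_card_inf V M
        rw [hVM, Subgroup.card_bot, mul_one, hMcard, hLVM, hLcard] at this
        exact (Nat.eq_of_mul_eq_mul_right hqpos this).symm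
      have hcopAL : (Nat.card A).Coprime (Nat.card L) :=
        Nat.Coprime.coprime_dvd_right (Subgroup.card_dvd_of_le hLK) hcop.symm
      haveI : Group.IsSolvable L := isSolvable_of_le hLK
      obtain ⟨c, ⟨hcL, hcC⟩, hcVU⟩ := coprime_invariant_hall_conj A L hLA hcopAL inferInstance
        hLcard (coprime_of_isPiNum hUπ hqeπ) V U inf_le_left le_sup_left hVcard rfl hVA hUA
      refine ⟨MulAut.conj c • H, conj_smul_le_of_normal K hHK c, ?_, ?_, ?_⟩
      · rw [card_conj_smul, hHcard]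
      · intro a ha
        apply mem_normalizer_of_conj_smul_eq
        have hac : a * c = c * a := Subgroup.mem_centralizer_iff.1 hcC a ha
        rw [← mul_smul, ← map_mul, hac, map_mul, mul_smul,
          conj_smul_eq_of_mem_normalizer (hHA ha)]
      · rw [← hcVU]
        exact Subgroup.pointwise_smul_le_pointwise_smul_iff.mpr inf_le_right
    · -- induction inside `H₁ A`
      have hH₁A : Disjoint H₁ A := hdisjKA.mono_left p1
      obtain ⟨hn₁, hc₁⟩ := isComplement'_subgroupOf_sup p3 hH₁A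
      have hne : H₁ ⊔ A ≠ ⊤ := by
        intro htop
        apply hH₁K
        apply le_antisymm p1
        intro x hx
        have hx' : x ∈ ((H₁ ⊔ A : Subgroup Γ) : Set Γ) := by rw [htop]; trivial
        rw [Subgroup.coe_mul_of_right_le_normalizer_left H₁ A p3] at hx'
        obtain ⟨h, hh, a, ha, hha⟩ := hx'
        have hha : h * a = x := hha
        have haK : a ∈ K := by
          have : a = h⁻¹ * (h * a) := by group
          rw [this, hha]
          exact K.mul_mem (K.inv_mem (p1 hh)) hx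
        have : a ∈ K ⊓ A := ⟨haK, ha⟩
        rw [hdisjKA.eq_bot, Subgroup.mem_bot] at this
        rw [← hha, this, mul_one]; exact hh
      have hlt : Nat.card ↥(H₁ ⊔ A) < N := hN ▸ card_lt_of_ne_top _ hne
      have hH₁L : H₁ ≤ H₁ ⊔ A := le_sup_left
      have hAL : A ≤ H₁ ⊔ A := le_sup_right
      have hUL : U ≤ H₁ ⊔ A := p4.trans hH₁L
      have hcop₁ : (Nat.card (H₁.subgroupOf (H₁ ⊔ A))).Coprime
          (Nat.card (A.subgroupOf (H₁ ⊔ A))) := by
        rw [card_subgroupOf_of_le hH₁L, card_subgroupOf_of_le hAL]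
        exact Nat.Coprime.coprime_dvd_left (Subgroup.card_dvd_of_le p1) hcop
      haveI : Group.IsSolvable H₁ := isSolvable_of_le p1
      have hcard₁ : Nat.card (H₁.subgroupOf (H₁ ⊔ A)) = m * q ^ e := by
        rw [card_subgroupOf_of_le hH₁L, p2]; ring
      obtain ⟨H₂, g1, g2, g3, g4⟩ := ih _ hlt ↥(H₁ ⊔ A) rfl (H₁.subgroupOf (H₁ ⊔ A))
        (A.subgroupOf (H₁ ⊔ A)) hc₁ hcop₁ (isSolvable_subgroupOf H₁ _) m (q ^ e) hcard₁ hm hqeπ
        (U.subgroupOf (H₁ ⊔ A))
        (fun x hx => Subgroup.mem_subgroupOf.2 (p4 (Subgroup.mem_subgroupOf.1 hx)))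
        (by rw [card_subgroupOf_of_le hUL]; exact hUπ)
        (subgroupOf_le_normalizer_subgroupOf hUL hUA)
      refine ⟨H₂.map (H₁ ⊔ A).subtype, ?_, ?_, ?_, ?_⟩
      · rintro _ ⟨y, hy, rfl⟩
        exact p1 (Subgroup.mem_subgroupOf.1 (g1 hy))
      · rw [Subgroup.card_map_of_injective (H₁ ⊔ A).subtype_injective, g2]
      · have := le_normalizer_map_subtype g3
        rwa [Subgroup.subgroupOf_map_subtype, inf_of_le_left hAL] at this
      · have := Subgroup.map_mono (f := (H₁ ⊔ A).subtype) g4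
        rwa [Subgroup.subgroupOf_map_subtype, inf_of_le_left hUL] at this

/-- Coprime action on a solvable group: every invariant `π`-subgroup lies in an invariant Hall
`π`-subgroup. -/
theorem coprime_invariant_le_hall {G : Type u} [Group G] [Finite G] (A K : Subgroup G)
    (hAK : A ≤ Subgroup.normalizer (K : Set G))
    (hcop : (Nat.card A).Coprime (Nat.card K)) (hsolv : Group.IsSolvable K) (π : Set ℕ)
    {m n : ℕ} (hcard : Nat.card K = m * n) (hm : IsPiNum π m) (hn : IsPiNum πᶜ n)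
    (U : Subgroup G) (hUK : U ≤ K) (hUπ : IsPiNum π (Nat.card U))
    (hUA : A ≤ Subgroup.normalizer (U : Set G)) :
    ∃ H : Subgroup G, H ≤ K ∧ Nat.card H = m ∧ A ≤ Subgroup.normalizer (H : Set G) ∧ U ≤ H := by
  obtain ⟨hn', hc, -, -⟩ := coprime_action_data A K hAK hcop (Or.inr hsolv)
  have hKL : K ≤ K ⊔ A := le_sup_left
  have hAL : A ≤ K ⊔ A := le_sup_right
  have hUL : U ≤ K ⊔ A := hUK.trans hKL
  have hcop' : (Nat.card (K.subgroupOf (K ⊔ A))).Coprime (Nat.card (A.subgroupOf (K ⊔ A))) := by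
    rw [card_subgroupOf_of_le hKL, card_subgroupOf_of_le hAL]; exact hcop.symm
  have hcard' : Nat.card (K.subgroupOf (K ⊔ A)) = m * n := by
    rw [card_subgroupOf_of_le hKL, hcard]
  obtain ⟨H', g1, g2, g3, g4⟩ := invariant_le_hall_aux π _ ↥(K ⊔ A) rfl (K.subgroupOf (K ⊔ A))
    (A.subgroupOf (K ⊔ A)) hc hcop' (isSolvable_subgroupOf K _) m n hcard' hm hn
    (U.subgroupOf (K ⊔ A))
    (fun x hx => Subgroup.mem_subgroupOf.2 (hUK (Subgroup.mem_subgroupOf.1 hx)))
    (by rw [card_subgroupOf_of_le hUL]; exact hUπ)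
    (subgroupOf_le_normalizer_subgroupOf hUL hUA)
  refine ⟨H'.map (K ⊔ A).subtype, ?_, ?_, ?_, ?_⟩
  · rintro _ ⟨y, hy, rfl⟩
    exact Subgroup.mem_subgroupOf.1 (g1 hy)
  · rw [Subgroup.card_map_of_injective (K ⊔ A).subtype_injective, g2]
  · have := le_normalizer_map_subtype g3
    rwa [Subgroup.subgroupOf_map_subtype, inf_of_le_left hAL] at this
  · have := Subgroup.map_mono (f := (K ⊔ A).subtype) g4
    rwa [Subgroup.subgroupOf_map_subtype, inf_of_le_left hUL] at this

end Cfsg.Agent.Lib.Helper2
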