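import Mathlib
import Cfsg.Prelude.Def_Local
import Cfsg.Prelude.Def_CaseTheorems
import Cfsg.Agent.Lib.Helper2.Cores
import Cfsg.Agent.Lib.Helper3.UpperPSeries
import Cfsg.Agent.Lib.Helper1.UpperPSeriesShift

set_option autoImplicit false

namespace Cfsg.Agent.Lib.Helper2.PLQ

open Cfsg

/-- The image of `O_{p'}` under a surjection lies in `O_{p'}`. -/
theorem map_pPrimeCore_le {G H : Type*} [Group G] [Group H] [Finite G] (p : ℕ) (f : G →* H)
    (hf : Function.Surjective f) : (pPrimeCore p G).map f ≤ pPrimeCore p H := by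
  haveI : ((pPrimeCore p G).map f).Normal := Subgroup.Normal.map inferInstance f hf
  apply Helper2.le_pPrimeCore
  have h1 : Nat.card ((pPrimeCore p G).map f) ∣ Nat.card (pPrimeCore p G) :=
    Subgroup.card_map_dvd _ _
  exact Nat.Coprime.coprime_dvd_left h1 (Helper2.pPrimeCore_card_coprime p)

/-- The image of `O_p` under a surjection lies in `O_p`. -/
theorem map_pCore_le {G H : Type*} [Group G] [Group H] [Finite G] (p : ℕ) (f : G →* H)
    (hf : Function.Surjective f) : (pCore p G).map f ≤ pCore p H := by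
  haveI : ((pCore p G).map f).Normal := Subgroup.Normal.map inferInstance f hf
  apply Helper2.le_pCore
  exact (Helper2.pCore_isPGroup p).map f

/-- The upper `p`-series is compatible with surjections. -/
theorem upperPSeries_map_le {G H : Type*} [Group G] [Group H] [Finite G] (p : ℕ) (f : G →* H)
    (hf : Function.Surjective f) (n : ℕ) :
    (upperPSeries p G n).1.map f ≤ (upperPSeries p H n).1 := by
  induction n with
  | zero =>
    rw [Helper3.upperPSeries_zero, Subgroup.map_bot]
    exact bot_le
  | succ n ih =>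
    have hle : (upperPSeries p G n).1 ≤ (upperPSeries p H n).1.comap f :=
      Subgroup.map_le_iff_le_comap.mp ih
    obtain ⟨fbar, hfbar⟩ : ∃ fbar : G ⧸ (upperPSeries p G n).1 →* H ⧸ (upperPSeries p H n).1,
        fbar = QuotientGroup.map _ _ f hle := ⟨_, rfl⟩
    have hfs : Function.Surjective fbar := by
      intro y
      obtain ⟨h, rfl⟩ := QuotientGroup.mk_surjective y
      obtain ⟨g, rfl⟩ := hf h
      exact ⟨QuotientGroup.mk g, by rw [hfbar]; rfl⟩
    have hcomm : ∀ x : G, fbar (QuotientGroup.mk' _ x) = QuotientGroup.mk' _ (f x) := by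
      intro x; rw [hfbar]; rfl
    rw [Subgroup.map_le_iff_le_comap]
    intro x hx
    rw [Subgroup.mem_comap]
    by_cases hn : Even n
    · rw [Helper3.upperPSeries_succ_even p G n hn] at hx
      rw [Helper3.upperPSeries_succ_even p H n hn, Subgroup.mem_comap, ← hcomm]
      rw [Subgroup.mem_comap] at hx
      exact map_pPrimeCore_le p fbar hfs (Subgroup.mem_map_of_mem _ hx)
    · rw [Helper3.upperPSeries_succ_odd p G n hn] at hx
      rw [Helper3.upperPSeries_succ_odd p H n hn, Subgroup.mem_comap, ← hcomm]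
      rw [Subgroup.mem_comap] at hx
      exact map_pCore_le p fbar hfs (Subgroup.mem_map_of_mem _ hx)

/-- `p`-length passes to quotients. -/
theorem pLengthLE_of_surjective {G H : Type*} [Group G] [Group H] [Finite G] (p k : ℕ) (f : G →* H)
    (hf : Function.Surjective f) (h : PLengthLE p k G) : PLengthLE p k H := by
  unfold PLengthLE at h ⊢
  have h1 := upperPSeries_map_le p f hf (2 * k + 1)
  rw [h, ← MonoidHom.range_eq_map, MonoidHom.range_eq_top.mpr hf] at h1
  exact top_le_iff.mp h1

/-- The `p`-length drops by one modulo `O_{p',p}`. -/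
theorem pLengthLE_quotient_two {G : Type*} [Group G] (p k : ℕ) (h : PLengthLE p (k + 1) G) :
    PLengthLE p k (G ⧸ (upperPSeries p G 2).1) := by
  unfold PLengthLE at h ⊢
  have e : 2 * (k + 1) + 1 = (2 * k + 1) + 2 := by ring
  rw [e, Helper1.upperPSeries_shift] at h
  have h2 := congrArg (Subgroup.map (QuotientGroup.mk' (upperPSeries p G 2).1)) h
  rw [Subgroup.map_comap_eq_self_of_surjective (QuotientGroup.mk'_surjective _),
    ← MonoidHom.range_eq_map, MonoidHom.range_eq_top.mpr (QuotientGroup.mk'_surjective _)] at h2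
  exact h2

/-- `O_p(G) ≤ O_{p',p}(G)`. -/
theorem pCore_le_upperPSeries_two {G : Type*} [Group G] [Finite G] (p : ℕ) :
    pCore p G ≤ (upperPSeries p G 2).1 := by
  rw [Helper3.upperPSeries_two]
  intro x hx
  change QuotientGroup.mk' (pPrimeCore p G) x ∈ pCore p (G ⧸ pPrimeCore p G)
  exact map_pCore_le p (QuotientGroup.mk' (pPrimeCore p G)) (QuotientGroup.mk'_surjective _)
    (Subgroup.mem_map_of_mem _ hx)

/-- If `O_{p'}(G) = 1` then `O_{p',p}(G)` is a `p`-group. -/
theorem isPGroup_upperPSeries_two {G : Type*} [Group G] [Finite G] (p : ℕ) [Fact p.Prime]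
    (h : pPrimeCore p G = ⊥) : IsPGroup p (upperPSeries p G 2).1 := by
  rw [Helper3.upperPSeries_two]
  intro ⟨x, hx⟩
  have hx' : QuotientGroup.mk' (pPrimeCore p G) x ∈ pCore p (G ⧸ pPrimeCore p G) := hx
  obtain ⟨k, hk⟩ := (Helper2.pCore_isPGroup (G := G ⧸ pPrimeCore p G) p) ⟨_, hx'⟩
  refine ⟨k, ?_⟩
  have hk' : (QuotientGroup.mk' (pPrimeCore p G) x) ^ p ^ k = 1 := congrArg Subtype.val hk
  rw [← map_pow, QuotientGroup.mk'_apply, QuotientGroup.eq_one_iff, h, Subgroup.mem_bot] at hk'
  exact Subtype.ext hk'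

/-- Derived series of a quotient vanishing means the derived series lands in the kernel. -/
theorem derivedSeries_le_of_quotient {G : Type*} [Group G] (N : Subgroup G) [N.Normal] (a : ℕ)
    (h : derivedSeries (G ⧸ N) a = ⊥) : derivedSeries G a ≤ N := by
  have h1 := map_derivedSeries_eq (QuotientGroup.mk'_surjective N) a
  rw [h] at h1
  intro x hx
  have : QuotientGroup.mk' N x ∈ (⊥ : Subgroup (G ⧸ N)) := by
    rw [← h1]; exact Subgroup.mem_map_of_mem _ hx
  rw [Subgroup.mem_bot, QuotientGroup.mk'_apply, QuotientGroup.eq_one_iff] at this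
  exact this

theorem derivedSeries_add_le_map {G : Type*} [Group G] (N : Subgroup G) (a : ℕ)
    (h : derivedSeries G a ≤ N) (b : ℕ) :
    derivedSeries G (a + b) ≤ (derivedSeries ↥N b).map N.subtype := by
  induction b with
  | zero =>
    rw [derivedSeries_zero, ← MonoidHom.range_eq_map, Subgroup.range_subtype]
    exact h
  | succ b ih =>
    rw [← add_assoc, derivedSeries_succ, derivedSeries_succ, Subgroup.map_commutator]
    exact Subgroup.commutator_mono ih ih

theorem derivedSeries_add_eq_bot {G : Type*} [Group G] (N : Subgroup G) (a b : ℕ)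
    (h : derivedSeries G a ≤ N) (hN : derivedSeries ↥N b = ⊥) :
    derivedSeries G (a + b) = ⊥ := by
  have := derivedSeries_add_le_map N a h b
  rw [hN, Subgroup.map_bot] at this
  exact le_bot_iff.mp this

/-- Derived length passes to subgroups. -/
theorem derivedSeries_eq_bot_of_le {G : Type*} [Group G] {H K : Subgroup G} (hHK : H ≤ K) (n : ℕ)
    (hK : derivedSeries ↥K n = ⊥) : derivedSeries ↥H n = ⊥ := by
  have h1 := map_derivedSeries_le_derivedSeries (Subgroup.inclusion hHK) n
  rw [hK, le_bot_iff] at h1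
  exact (Subgroup.map_eq_bot_iff_of_injective _ (Subgroup.inclusion_injective hHK)).mp h1

/-- Derived length passes to surjective images. -/
theorem derivedSeries_eq_bot_of_surjective {G H : Type*} [Group G] [Group H] (f : G →* H)
    (hf : Function.Surjective f) (n : ℕ) (hG : derivedSeries G n = ⊥) : derivedSeries H n = ⊥ := by
  rw [← map_derivedSeries_eq hf n, hG, Subgroup.map_bot]

/-- Sylow subgroups of a quotient inherit derived length bounds. -/
theorem derivedSeries_sylow_of_surjective {G H : Type*} [Group G] [Group H] [Finite G] (p : ℕ)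
    [Fact p.Prime] (f : G →* H) (hf : Function.Surjective f) (n : ℕ)
    (hG : ∀ S : Sylow p G, derivedSeries ↥(S : Subgroup G) n = ⊥) (Q : Sylow p H) :
    derivedSeries ↥(Q : Subgroup H) n = ⊥ := by
  obtain ⟨S, rfl⟩ := Sylow.mapSurjective_surjective hf p Q
  rw [Sylow.coe_mapSurjective]
  exact derivedSeries_eq_bot_of_surjective (f.subgroupMap (S : Subgroup G))
    (MonoidHom.subgroupMap_surjective _ _) n (hG S)

end Cfsg.Agent.Lib.Helper2.PLQ
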