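import Mathlib
import Cfsg.Prelude.Def_Local
import Cfsg.Prelude.Def_CaseTheorems
import Cfsg.Agent.Lib.Helper2.PLengthQuot
import Cfsg.Agent.Lib.Helper2.HHDual

set_option autoImplicit false

namespace Cfsg.Agent.Lib.Helper2.PLQ

open Cfsg

theorem relIndex_comap_mk_eq_card {G : Type*} [Group G] (U : Subgroup G) [U.Normal]
    (X : Subgroup (G ⧸ U)) : U.relIndex (X.comap (QuotientGroup.mk' U)) = Nat.card X := by
  have := Subgroup.relIndex_ker (K := X.comap (QuotientGroup.mk' U)) (QuotientGroup.mk' U)
  rw [QuotientGroup.ker_mk',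
    Subgroup.map_comap_eq_self_of_surjective (QuotientGroup.mk'_surjective U)] at this
  exact this

theorem relIndex_upperPSeries_even {G : Type*} [Group G] [Finite G] (p : ℕ) (n : ℕ)
    (hn : Even n) :
    ((upperPSeries p G n).1.relIndex (upperPSeries p G (n + 1)).1).Coprime p := by
  rw [Helper3.upperPSeries_succ_even p G n hn, relIndex_comap_mk_eq_card]
  exact Helper2.pPrimeCore_card_coprime p

theorem relIndex_upperPSeries_odd {G : Type*} [Group G] [Finite G] (p : ℕ) [Fact p.Prime] (n : ℕ)
    (hn : ¬ Even n) :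
    ∃ k, (upperPSeries p G n).1.relIndex (upperPSeries p G (n + 1)).1 = p ^ k := by
  rw [Helper3.upperPSeries_succ_odd p G n hn, relIndex_comap_mk_eq_card]
  exact (Helper2.pCore_isPGroup p).exists_card_eq

/-- Series domination: any normal series of `G` whose layers are alternately `p'`- and
`p`-groups lies below the upper `p`-series. -/
theorem le_upperPSeries_of_series {G : Type*} [Group G] [Finite G] (p : ℕ) [Fact p.Prime]
    (C : ℕ → Subgroup G) (hn : ∀ n, (C n).Normal) (h0 : C 0 = ⊥)
    (heven : ∀ n, Even n → ((C n).relIndex (C (n + 1))).Coprime p)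
    (hodd : ∀ n, ¬ Even n → ∃ k, (C n).relIndex (C (n + 1)) = p ^ k) :
    ∀ n, C n ≤ (upperPSeries p G n).1 := by
  intro n
  induction n with
  | zero => rw [h0]; exact bot_le
  | succ n ih =>
    obtain ⟨U, hU⟩ : ∃ U : Subgroup G, U = (upperPSeries p G n).1 := ⟨_, rfl⟩
    haveI hUn : U.Normal := by rw [hU]; infer_instance
    have ih' : C n ≤ U := by rw [hU]; exact ih
    have hdvd : U.relIndex (C (n + 1)) ∣ (C n).relIndex (C (n + 1)) :=
      Subgroup.relIndex_dvd_of_le_left _ ih'
    have hcard : Nat.card ((C (n + 1)).map (QuotientGroup.mk' U)) = U.relIndex (C (n + 1)) := by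
      have := Subgroup.relIndex_ker (K := C (n + 1)) (QuotientGroup.mk' U)
      rw [QuotientGroup.ker_mk'] at this
      exact this.symm
    haveI : ((C (n + 1)).map (QuotientGroup.mk' U)).Normal :=
      (hn (n + 1)).map _ (QuotientGroup.mk'_surjective _)
    by_cases hev : Even n
    · rw [Helper3.upperPSeries_succ_even p G n hev,
        Helper3.comap_pPrimeCore_congr p _ U hU.symm, ← Subgroup.map_le_iff_le_comap]
      apply Helper2.le_pPrimeCore
      rw [hcard]
      exact Nat.Coprime.coprime_dvd_left hdvd (heven n hev)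
    · rw [Helper3.upperPSeries_succ_odd p G n hev,
        Helper3.comap_pCore_congr p _ U hU.symm, ← Subgroup.map_le_iff_le_comap]
      apply Helper2.le_pCore
      obtain ⟨k, hk⟩ := hodd n hev
      rw [hk] at hdvd
      obtain ⟨j, -, hj⟩ := (Nat.dvd_prime_pow Fact.out).mp hdvd
      exact IsPGroup.of_card (hcard.trans hj)

/-- `p`-length passes to normal subgroups. -/
theorem pLengthLE_of_normal {G : Type*} [Group G] [Finite G] (p k : ℕ) [Fact p.Prime]
    (N : Subgroup G) [N.Normal] (h : PLengthLE p k G) : PLengthLE p k ↥N := by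
  unfold PLengthLE at h ⊢
  have hrel : ∀ n, ((upperPSeries p G n).1.subgroupOf N).relIndex
      ((upperPSeries p G (n + 1)).1.subgroupOf N) ∣
      (upperPSeries p G n).1.relIndex (upperPSeries p G (n + 1)).1 := by
    intro n
    have e : ((upperPSeries p G n).1.subgroupOf N).relIndex
        ((upperPSeries p G (n + 1)).1.subgroupOf N) =
        (upperPSeries p G n).1.relIndex ((upperPSeries p G (n + 1)).1 ⊓ N) := by
      rw [← Subgroup.subgroupOf_map_subtype]
      exact Subgroup.relIndex_comap ..
    rw [e]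
    exact relIndex_dvd_relIndex_of_le_of_normal _ inf_le_left
  have key := le_upperPSeries_of_series (G := ↥N) p
    (fun n => (upperPSeries p G n).1.subgroupOf N) (fun n => inferInstance)
    (by
      change (upperPSeries p G 0).1.subgroupOf N = ⊥
      rw [Helper3.upperPSeries_zero, Subgroup.bot_subgroupOf])
    (fun n hn => Nat.Coprime.coprime_dvd_left (hrel n) (relIndex_upperPSeries_even p n hn))
    (fun n hn => by
      obtain ⟨j, hj⟩ := relIndex_upperPSeries_odd (G := G) p n hn
      have h1 := hrel n
      rw [hj] at h1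
      obtain ⟨i, -, hi⟩ := (Nat.dvd_prime_pow Fact.out).mp h1
      exact ⟨i, hi⟩) (2 * k + 1)
  change (upperPSeries p G (2 * k + 1)).1.subgroupOf N ≤ _ at key
  rw [h, Subgroup.top_subgroupOf] at key
  exact top_le_iff.mp key

theorem upperPSeries_map_equiv {A B : Type*} [Group A] [Group B] [Finite A] (p : ℕ) (e : A ≃* B)
    (n : ℕ) : (upperPSeries p A n).1.map e.toMonoidHom = (upperPSeries p B n).1 := by
  haveI : Finite B := Finite.of_equiv A e.toEquiv
  apply le_antisymm
  · exact upperPSeries_map_le p e.toMonoidHom e.surjective n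
  · intro x hx
    have h1 := upperPSeries_map_le p e.symm.toMonoidHom e.symm.surjective n
    have h2 : e.symm x ∈ (upperPSeries p A n).1 := h1 (Subgroup.mem_map_of_mem _ hx)
    exact ⟨e.symm x, h2, e.apply_symm_apply x⟩

instance upperPSeries_characteristic {G : Type*} [Group G] [Finite G] (p n : ℕ) :
    (upperPSeries p G n).1.Characteristic :=
  Subgroup.characteristic_iff_map_eq.mpr fun ϕ => upperPSeries_map_equiv p ϕ n

theorem pLengthLE_of_mulEquiv {A B : Type*} [Group A] [Group B] [Finite A] (p k : ℕ) (e : A ≃* B)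
    (h : PLengthLE p k A) : PLengthLE p k B :=
  pLengthLE_of_surjective p k e.toMonoidHom e.surjective h

/-- Sub-additivity of `p`-length along a normal subgroup. -/
theorem pLengthLE_add {G : Type*} [Group G] [Finite G] (p a b : ℕ) [Fact p.Prime]
    (N : Subgroup G) [N.Normal] (hN : PLengthLE p a ↥N) (hQ : PLengthLE p b (G ⧸ N)) :
    PLengthLE p (a + b) G := by
  unfold PLengthLE at hN hQ ⊢
  obtain ⟨C, hC⟩ : ∃ C : ℕ → Subgroup G, C = fun n =>
      if n ≤ 2 * a then (upperPSeries p ↥N n).1.map N.subtype
      else (upperPSeries p (G ⧸ N) (n - 2 * a)).1.comap (QuotientGroup.mk' N) := ⟨_, rfl⟩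
  have hlow : ∀ n, n ≤ 2 * a → C n = (upperPSeries p ↥N n).1.map N.subtype := by
    intro n hn; rw [hC]; simp only [hn, if_true]
  have hhigh : ∀ m, 0 < m → C (2 * a + m) =
      (upperPSeries p (G ⧸ N) m).1.comap (QuotientGroup.mk' N) := by
    intro m hm
    have h1 : ¬ (2 * a + m ≤ 2 * a) := by omega
    have h2 : 2 * a + m - 2 * a = m := by omega
    rw [hC]; simp only [h1, if_false, h2]
  have hNeq : N = (upperPSeries p (G ⧸ N) 0).1.comap (QuotientGroup.mk' N) := by
    rw [Helper3.upperPSeries_zero, MonoidHom.comap_bot, QuotientGroup.ker_mk']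
  have hNtop : N = (upperPSeries p ↥N (2 * a + 1)).1.map N.subtype := by
    rw [hN, ← MonoidHom.range_eq_map, Subgroup.range_subtype]
  have hcomap : ∀ m, ((upperPSeries p (G ⧸ N) m).1.comap (QuotientGroup.mk' N)).relIndex
      ((upperPSeries p (G ⧸ N) (m + 1)).1.comap (QuotientGroup.mk' N)) =
      (upperPSeries p (G ⧸ N) m).1.relIndex (upperPSeries p (G ⧸ N) (m + 1)).1 := by
    intro m
    rw [Subgroup.relIndex_comap,
      Subgroup.map_comap_eq_self_of_surjective (QuotientGroup.mk'_surjective N)]
  have hmap : ∀ n, ((upperPSeries p ↥N n).1.map N.subtype).relIndex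
      ((upperPSeries p ↥N (n + 1)).1.map N.subtype) =
      (upperPSeries p ↥N n).1.relIndex (upperPSeries p ↥N (n + 1)).1 := by
    intro n
    exact Subgroup.relIndex_map_map_of_injective _ _ N.subtype_injective
  have hmid : (C (2 * a)).relIndex (C (2 * a + 1)) =
      (upperPSeries p ↥N (2 * a)).1.relIndex (upperPSeries p ↥N (2 * a + 1)).1 *
      (upperPSeries p (G ⧸ N) 0).1.relIndex (upperPSeries p (G ⧸ N) (0 + 1)).1 := by
    rw [hlow (2 * a) le_rfl, hhigh 1 Nat.one_pos, ← hmap, ← hcomap, ← hNeq, ← hNtop]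
    refine (Subgroup.relIndex_mul_relIndex _ _ _ ?_ ?_).symm
    · exact Subgroup.map_subtype_le _
    · conv_lhs => rw [hNeq]
      exact Subgroup.comap_mono (Helper1.upperPSeries_le_succ p _ 0)
  have key := le_upperPSeries_of_series (G := G) p C
    (by
      intro n
      by_cases h : n ≤ 2 * a
      · rw [hlow n h]; infer_instance
      · have : n = 2 * a + (n - 2 * a) := by omega
        rw [this, hhigh _ (by omega)]; infer_instance)
    (by rw [hlow 0 (Nat.zero_le _), Helper3.upperPSeries_zero, Subgroup.map_bot])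
    (by
      intro n hn
      by_cases h : n + 1 ≤ 2 * a
      · rw [hlow n (by omega), hlow (n + 1) h, hmap]
        exact relIndex_upperPSeries_even p n hn
      · by_cases h2 : n = 2 * a
        · rw [h2, hmid]
          exact Nat.Coprime.mul_left (relIndex_upperPSeries_even p _ (by simp))
            (relIndex_upperPSeries_even p _ (by simp))
        · obtain ⟨m, hm0, rfl⟩ : ∃ m, 0 < m ∧ n = 2 * a + m := ⟨n - 2 * a, by omega, by omega⟩
          have hm : Even m := by
            rcases hn with ⟨j, hj⟩
            exact ⟨j - a, by omega⟩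
          rw [hhigh m hm0, add_assoc, hhigh (m + 1) (by omega), hcomap]
          exact relIndex_upperPSeries_even p _ hm)
    (by
      intro n hn
      by_cases h : n + 1 ≤ 2 * a
      · rw [hlow n (by omega), hlow (n + 1) h, hmap]
        exact relIndex_upperPSeries_odd p n hn
      · have h2 : n ≠ 2 * a := by
          rintro rfl
          exact hn (by simp)
        obtain ⟨m, hm0, rfl⟩ : ∃ m, 0 < m ∧ n = 2 * a + m := ⟨n - 2 * a, by omega, by omega⟩
        have hm : ¬ Even m := by
          intro hm
          apply hn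
          rcases hm with ⟨j, hj⟩
          exact ⟨j + a, by omega⟩
        rw [hhigh m hm0, add_assoc, hhigh (m + 1) (by omega), hcomap]
        exact relIndex_upperPSeries_odd p _ hm)
    (2 * (a + b) + 1)
  have e : 2 * (a + b) + 1 = 2 * a + (2 * b + 1) := by ring
  rw [e, hhigh _ (by omega), hQ, Subgroup.comap_top] at key
  rw [e]
  exact top_le_iff.mp key

/-- A finite group of order prime to `p` has `p`-length zero. -/
theorem pLengthLE_zero_of_coprime {G : Type*} [Group G] (p : ℕ) (h : (Nat.card G).Coprime p) :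
    PLengthLE p 0 G := by
  change (upperPSeries p G 1).1 = ⊤
  rw [Helper3.upperPSeries_one, eq_top_iff]
  apply Helper2.le_pPrimeCore
  rw [Subgroup.card_top]
  exact h

theorem pLengthLE_mono {G : Type*} [Group G] (p : ℕ) {a b : ℕ} (hab : a ≤ b)
    (h : PLengthLE p a G) : PLengthLE p b G := by
  unfold PLengthLE at h ⊢
  have := Helper1.upperPSeries_mono p G (show 2 * a + 1 ≤ 2 * b + 1 by omega)
  rw [h] at this
  exact top_le_iff.mp this

end Cfsg.Agent.Lib.Helper2.PLQ
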