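import Mathlib
import Cfsg.Agent.Lib.Helper7.BGD2
import Cfsg.Agent.Lib.Helper3.CyclicSub

set_option autoImplicit false
set_option maxHeartbeats 4000000
set_option linter.unusedVariables false
set_option linter.unusedSectionVars false
set_option linter.style.longLine false
set_option linter.unusedSimpArgs false
set_option linter.style.haveILetI false
set_option linter.deprecated false

/-!
# B&G Lemma 12.14 (a), (b), (c)  (S1424) from the row S1416
-/

open scoped commutatorElement Pointwise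
universe u
namespace Cfsg.Agent.Lib.Helper2.BGH

open Cfsg Cfsg.Agent.Lib.Helper1 Cfsg.Agent.Lib.Helper7 Cfsg.Agent.Lib.Helper7.BGRows

variable {G : Type u} [Group G] [Finite G]

theorem cj_self_of_mem {M : Subgroup G} {m : G} (hm : m ∈ M) : BG7.cj m M = M :=
  BG7.cj_eq_of_mem_normalizer (Subgroup.le_normalizer hm)

theorem cj_eq_of_mem_centralizer {S : Subgroup G} {c : G}
    (hc : c ∈ Subgroup.centralizer (S : Set G)) : BG7.cj c S = S :=
  BG7.cj_eq_of_mem_normalizer (Subgroup.centralizer_le_normalizer _ hc)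

/-- for `q ∈ σ(M)`: any `q`-subgroup `T` containing a nontrivial subgroup `S ≤ M` can be moved into
`M` by an element of `C(S)` -/
theorem exists_centralizer_cj_le (hG : IsMinSimpleOddOrder G) {M : Subgroup G} (hM : IsCoatom M)
    {q : ℕ} [hq : Fact q.Prime] (hqσ : q ∈ sigma M) {S T : Subgroup G} (hS : IsPGroup q S)
    (hS1 : S ≠ ⊥) (hSM : S ≤ M) (hT : IsPGroup q T) (hST : S ≤ T) :
    ∃ c ∈ Subgroup.centralizer (S : Set G), BG7.cj c T ≤ M := by
  obtain ⟨R, hRM, -⟩ := BT.exists_isMaxP_ge (p := q) (IsPGroup.of_bot : IsPGroup q (⊥ : Subgroup G))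
    (bot_le : (⊥ : Subgroup G) ≤ M)
  obtain ⟨-, hRtop, -⟩ := BT.sigma_sylow_le_commutator hG hM hqσ hRM
  obtain ⟨g, -, hTg⟩ := BT.exists_cj_ge hRtop hT le_top
  have h1 : BG7.cj g⁻¹ T ≤ M := by
    have := BG7.cj_mono (k := g⁻¹) hTg
    rw [BG7.cj_inv_cj] at this
    exact this.trans hRM.1
  have h2 : BG7.cj g⁻¹ S ≤ M := (BG7.cj_mono hST).trans h1
  obtain ⟨m, hm, c, hc, hgmc⟩ :=
    (BT.sigma_trans hG hM hqσ (Nat.card G - Nat.card S) S hS hS1 hSM rfl).1 g⁻¹ h2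
  refine ⟨c, hc, ?_⟩
  rw [hgmc, BG7.cj_mul] at h1
  have h3 := BG7.cj_mono (k := m⁻¹) h1
  rw [BG7.cj_inv_cj, cj_self_of_mem (M.inv_mem hm)] at h3
  exact h3

/-- B&G 12.14(c) -/
theorem isMaxP_of_inf (hG : IsMinSimpleOddOrder G) {M Mstar : Subgroup G} (hM : IsCoatom M)
    {q : ℕ} [hq : Fact q.Prime] (hqσ : q ∈ sigma M) {X S : Subgroup G} (hX1 : X ≠ ⊥)
    (hNX : Subgroup.normalizer (X : Set G) ≤ Mstar) (hXS : X ≤ S)
    (hS : BG8.IsMaxP q S (M ⊓ Mstar)) : BG8.IsMaxP q S Mstar := by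
  have hSM : S ≤ M := hS.1.trans inf_le_left
  have hSMs : S ≤ Mstar := hS.1.trans inf_le_right
  have hS1 : S ≠ ⊥ := by
    intro h
    apply hX1
    rw [h] at hXS
    exact le_bot_iff.mp hXS
  have hCS : Subgroup.centralizer (S : Set G) ≤ Mstar :=
    (Subgroup.centralizer_le (SetLike.coe_subset_coe.mpr hXS)).trans
      ((Subgroup.centralizer_le_normalizer _).trans hNX)
  refine ⟨hSMs, hS.2.1, fun T hT hST hTMs => ?_⟩
  obtain ⟨c, hc, hcT⟩ := exists_centralizer_cj_le hG hM hqσ hS.2.1 hS1 hSM hT hST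
  have hcMs : c ∈ Mstar := hCS hc
  have h1 : BG7.cj c T ≤ Mstar := BG9.cj_le_of_mem hcMs hTMs
  have h2 : S ≤ BG7.cj c T := by
    have h := BG7.cj_mono (k := c) hST
    rwa [cj_eq_of_mem_centralizer hc] at h
  have h3 : BG7.cj c T = S :=
    hS.2.2 _ (show IsPGroup q ↥(BG7.cj c T) from hT.map _) h2 (le_inf hcT h1)
  have h4 : Nat.card T = Nat.card S := by rw [← h3, BG7.card_cj]
  exact (Subgroup.eq_of_le_of_card_ge hST (le_of_eq h4)).symm

/-- B&G 12.14(b) -/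
theorem normalizer_le_of_inf (hG : IsMinSimpleOddOrder G) {M Mstar : Subgroup G} (hM : IsCoatom M)
    (h1416 : Row1416 G) {q : ℕ} [hq : Fact q.Prime] (hqσ : q ∈ sigma M) {X S : Subgroup G}
    (hX1 : X ≠ ⊥) (hNX : Subgroup.normalizer (X : Set G) ≤ Mstar) (hXS : X ≤ S)
    (hS : BG8.IsMaxP q S (M ⊓ Mstar)) : Subgroup.normalizer (S : Set G) ≤ M := by
  have hSMs := isMaxP_of_inf hG hM hqσ hX1 hNX hXS hS
  have hSM : S ≤ M := hS.1.trans inf_le_left
  by_cases hc : IsCyclic ↥S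
  · haveI := hc
    have h1 : Subgroup.normalizer (S : Set G) ≤ Subgroup.normalizer (X : Set G) := by
      intro n hn
      apply BG9.mem_normalizer_of_cj_le
      have h2 : BG7.cj n X ≤ S := by
        have h := BG7.cj_mono (k := n) hXS
        rwa [BG7.cj_eq_of_mem_normalizer hn] at h
      have h3 : BG7.cj n X = X :=
        Cfsg.Agent.Lib.Helper3.subgroup_eq_of_card_eq_of_le_isCyclic S _ _ h2 hXS (BG7.card_cj n X)
      exact h3.le
    have h4 : BG8.IsMaxP q S ⊤ := hSMs.top_of_normalizer_le (h1.trans hNX)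
    have h5 : BG8.IsMaxP q S M := h4.mono hSM le_top
    exact (BT.sigma_sylow_le_commutator hG hM hqσ h5).2.2
  · exact BGD.normalizer_le_of_noncyclic hG hM h1416 hqσ hS.2.1 hSM hc

/-- B&G 12.14(a) -/
theorem not_conj_of_normalizer_le (hG : IsMinSimpleOddOrder G) {M Mstar : Subgroup G}
    (hM : IsCoatom M) (hne : Mstar ≠ M) {q : ℕ} [hq : Fact q.Prime] (hqσ : q ∈ sigma M)
    {X : Subgroup G} (hXq : IsPGroup q X) (hX1 : X ≠ ⊥) (hXM : X ≤ M)
    (hNX : Subgroup.normalizer (X : Set G) ≤ Mstar) : ∀ g : G, Mstar ≠ BG7.cj g M := by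
  intro g hg
  have hXMs : X ≤ Mstar := Subgroup.le_normalizer.trans hNX
  have hX' : X ≤ BG7.cj g M := by rw [← hg]; exact hXMs
  have h1 : BG7.cj g⁻¹ X ≤ M := by
    have h := BG7.cj_mono (k := g⁻¹) hX'
    rwa [BG7.cj_inv_cj] at h
  obtain ⟨m, hm, c, hc, hgmc⟩ :=
    (BT.sigma_trans hG hM hqσ (Nat.card G - Nat.card X) X hXq hX1 hXM rfl).1 g⁻¹ h1
  have hg' : g = c⁻¹ * m⁻¹ := by
    have h : g⁻¹⁻¹ = (m * c)⁻¹ := by rw [hgmc]
    rw [inv_inv, mul_inv_rev] at h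
    exact h
  have hcMs : c ∈ Mstar := hNX (Subgroup.centralizer_le_normalizer _ hc)
  have h2 : Mstar = BG7.cj c⁻¹ M := by
    rw [hg, hg', BG7.cj_mul, cj_self_of_mem (M.inv_mem hm)]
  have h3 : BG7.cj c Mstar = M := by rw [h2, BG9.cj_cj_inv]
  rw [cj_self_of_mem hcMs] at h3
  exact hne h3

/-- B&G 12.14 (a), (b), (c) = S1424, from S1416 -/
theorem s1424_of (hG : IsMinSimpleOddOrder G) (h1416 : Row1416 G)
    (M : Subgroup G) (hM : IsCoatom M) (q : ℕ) [Fact q.Prime] (hq : q ∈ Cfsg.sigma M)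
    (X : Subgroup G) (hXq : IsPGroup q X) (hX1 : X ≠ ⊥) (hXM : X ≤ M)
    (Mstar : Subgroup G) (hMs : IsCoatom Mstar) (hne : Mstar ≠ M)
    (hNX : Subgroup.normalizer (X : Set G) ≤ Mstar)
    (S : Sylow q ↥(M ⊓ Mstar))
    (hXS : X ≤ (S : Subgroup ↥(M ⊓ Mstar)).map (M ⊓ Mstar).subtype) :
    (∀ g : G, Mstar ≠ M.map (MulAut.conj g).toMonoidHom) ∧
      Subgroup.normalizer (((S : Subgroup ↥(M ⊓ Mstar)).map (M ⊓ Mstar).subtype : Subgroup G) : Set G)
        ≤ M ∧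
      ¬ q ∣ ((S : Subgroup ↥(M ⊓ Mstar)).map (M ⊓ Mstar).subtype).relIndex Mstar := by
  have hS := BG8.isMaxP_of_sylow S
  refine ⟨fun g => not_conj_of_normalizer_le hG hM hne hq hXq hX1 hXM hNX g,
    normalizer_le_of_inf hG hM h1416 hq hX1 hNX hXS hS, ?_⟩
  have h1 := isMaxP_of_inf hG hM hq hX1 hNX hXS hS
  obtain ⟨R, hR⟩ := h1.exists_sylow
  have h7 : ((R : Subgroup ↥Mstar).map Mstar.subtype).subgroupOf Mstar = (R : Subgroup ↥Mstar) :=
    Subgroup.comap_map_eq_self_of_injective Mstar.subtype_injective _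
  rw [← hR, Subgroup.relIndex, h7]
  exact R.not_dvd_index

end Cfsg.Agent.Lib.Helper2.BGH
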