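import Mathlib
import Cfsg.Agent.Lib.Helper7.Generation3

set_option autoImplicit false
set_option maxHeartbeats 4000000
set_option linter.unusedVariables false
set_option linter.unusedSectionVars false
set_option linter.style.longLine false
set_option linter.unusedSimpArgs false
set_option linter.style.haveILetI false
set_option linter.deprecated false

/-!
# Generation by centralizers modulo a subgroup acting trivially
-/

open scoped commutatorElement Pointwise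
universe u
namespace Cfsg.Agent.Lib.Helper2.BGH

open Cfsg

/-- generation by centralizers for two elements commuting modulo a normal subgroup `Z` meeting `K`
trivially -/
theorem le_of_centralizers_le_mod {Γ : Type u} [Group Γ] [Finite Γ] {p : ℕ} [hp : Fact p.Prime]
    (Z K H : Subgroup Γ) [hZn : Z.Normal] (x y : Γ)
    (hxp : x ^ p ∈ Z) (hyp : y ^ p ∈ Z) (hxy : x * y * x⁻¹ * y⁻¹ ∈ Z)
    (hx : x ∈ Subgroup.normalizer (K : Set Γ)) (hy : y ∈ Subgroup.normalizer (K : Set Γ))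
    (hK : ¬ p ∣ Nat.card K) (hKZ : K ⊓ Z = ⊥)
    (h1 : K ⊓ Subgroup.centralizer ({y} : Set Γ) ≤ H)
    (h2 : ∀ c : ZMod p, K ⊓ Subgroup.centralizer ({x * y ^ c.val} : Set Γ) ≤ H) : K ≤ H := by
  classical
  obtain ⟨π, hπ⟩ : ∃ π : Γ →* Γ ⧸ Z, π = QuotientGroup.mk' Z := ⟨_, rfl⟩
  have hker : ∀ g : Γ, π g = 1 ↔ g ∈ Z := by
    intro g
    rw [hπ]
    exact QuotientGroup.eq_one_iff g
  have key : ∀ b : Γ, b ∈ Subgroup.normalizer (K : Set Γ) → ∀ k ∈ K,
      π k * π b = π b * π k → k * b = b * k := by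
    intro b hb k hk hcomm
    have h3 : π (k * b * k⁻¹ * b⁻¹) = 1 := by
      rw [map_mul, map_mul, map_mul, map_inv, map_inv, hcomm]; group
    have h4 : k * b * k⁻¹ * b⁻¹ ∈ Z := (hker _).mp h3
    have h5 : k * b * k⁻¹ * b⁻¹ ∈ K := by
      have h6 : b * k⁻¹ * b⁻¹ ∈ K := (Subgroup.mem_normalizer_iff.mp hb k⁻¹).mp (K.inv_mem hk)
      have e : k * b * k⁻¹ * b⁻¹ = k * (b * k⁻¹ * b⁻¹) := by group
      rw [e]; exact K.mul_mem hk h6
    have h6 : k * b * k⁻¹ * b⁻¹ ∈ K ⊓ Z := Subgroup.mem_inf.mpr ⟨h5, h4⟩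
    rw [hKZ, Subgroup.mem_bot] at h6
    calc k * b = (k * b * k⁻¹ * b⁻¹) * (b * k) := by group
      _ = b * k := by rw [h6, one_mul]
  have hnorm : ∀ b : Γ, b ∈ Subgroup.normalizer (K : Set Γ) →
      π b ∈ Subgroup.normalizer ((K.map π : Subgroup (Γ ⧸ Z)) : Set (Γ ⧸ Z)) := by
    intro b hb
    rw [Subgroup.mem_normalizer_iff]
    intro w
    constructor
    · rintro ⟨k, hk, rfl⟩
      refine ⟨b * k * b⁻¹, (Subgroup.mem_normalizer_iff.mp hb k).mp hk, ?_⟩
      rw [map_mul, map_mul, map_inv]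
    · rintro ⟨k, hk, hkw⟩
      refine ⟨b⁻¹ * k * b, ?_, ?_⟩
      · have h3 := (Subgroup.mem_normalizer_iff.mp (Subgroup.inv_mem _ hb) k).mp hk
        rw [inv_inv] at h3
        exact h3
      · rw [map_mul, map_mul, map_inv, hkw]; group
  have hxp' : (π x) ^ p = 1 := by rw [← map_pow]; exact (hker _).mpr hxp
  have hyp' : (π y) ^ p = 1 := by rw [← map_pow]; exact (hker _).mpr hyp
  have hcomm : Commute (π x) (π y) := by
    have h3 : π x * π y * (π x)⁻¹ * (π y)⁻¹ = 1 := by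
      rw [← map_inv, ← map_inv, ← map_mul, ← map_mul, ← map_mul]; exact (hker _).mpr hxy
    show π x * π y = π y * π x
    calc π x * π y = (π x * π y * (π x)⁻¹ * (π y)⁻¹) * (π y * π x) := by group
      _ = π y * π x := by rw [h3, one_mul]
  have hKc : ¬ p ∣ Nat.card (K.map π) := fun h => hK (h.trans (Subgroup.card_map_dvd K π))
  have hgen := Cfsg.Agent.Lib.Helper7.le_genC (p := p) (π x) (π y) hxp' hyp' hcomm (K.map π)
    (hnorm x hx) (hnorm y hy) hKc
  have hcent : ∀ b : Γ, b ∈ Subgroup.normalizer (K : Set Γ) →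
      K ⊓ Subgroup.centralizer ({b} : Set Γ) ≤ H →
      K.map π ⊓ Subgroup.centralizer ({π b} : Set (Γ ⧸ Z)) ≤ (H ⊓ K).map π := by
    intro b hb hbH w hw
    obtain ⟨hw1, hw2⟩ := Subgroup.mem_inf.mp hw
    obtain ⟨k, hk, rfl⟩ := hw1
    have hc : π k * π b = π b * π k := by
      have h3 := Subgroup.mem_centralizer_iff.mp hw2 (π b) rfl
      exact h3.symm
    have h3 := key b hb k hk hc
    have h4 : k ∈ K ⊓ Subgroup.centralizer ({b} : Set Γ) := by
      refine Subgroup.mem_inf.mpr ⟨hk, ?_⟩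
      rw [Subgroup.mem_centralizer_iff]
      intro z hz
      rw [Set.mem_singleton_iff] at hz
      subst hz
      exact h3.symm
    exact ⟨k, Subgroup.mem_inf.mpr ⟨hbH h4, hk⟩, rfl⟩
  have hle : Cfsg.Agent.Lib.Helper7.genC p (π x) (π y) (K.map π) ≤ (H ⊓ K).map π := by
    unfold Cfsg.Agent.Lib.Helper7.genC
    apply sup_le
    · exact hcent y hy h1
    · apply iSup_le
      intro c
      have hb : x * y ^ c.val ∈ Subgroup.normalizer (K : Set Γ) :=
        Subgroup.mul_mem _ hx (Subgroup.pow_mem _ hy _)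
      have h3 := hcent (x * y ^ c.val) hb (h2 c)
      rw [map_mul, map_pow] at h3
      exact h3
  intro k hk
  have h3 : π k ∈ (H ⊓ K).map π := hle (hgen ⟨k, hk, rfl⟩)
  obtain ⟨h, hh, hhk⟩ := h3
  obtain ⟨hhH, hhK⟩ := Subgroup.mem_inf.mp hh
  have h4 : π (h⁻¹ * k) = 1 := by rw [map_mul, map_inv, hhk]; group
  have h5 : h⁻¹ * k ∈ K ⊓ Z :=
    Subgroup.mem_inf.mpr ⟨K.mul_mem (K.inv_mem hhK) hk, (hker _).mp h4⟩
  rw [hKZ, Subgroup.mem_bot] at h5
  have h6 : k = h := by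
    calc k = h * (h⁻¹ * k) := by group
      _ = h := by rw [h5, mul_one]
  rw [h6]; exact hhH

/-- the same inside the normalizer of a (not necessarily normal) subgroup `Z` -/
theorem le_of_centralizers_le_mod' {G : Type u} [Group G] [Finite G] {p : ℕ} [hp : Fact p.Prime]
    (Z K H : Subgroup G) (x y : G)
    (hxZ : x ∈ Subgroup.normalizer (Z : Set G)) (hyZ : y ∈ Subgroup.normalizer (Z : Set G))
    (hKN : K ≤ Subgroup.normalizer (Z : Set G))
    (hxp : x ^ p ∈ Z) (hyp : y ^ p ∈ Z) (hxy : x * y * x⁻¹ * y⁻¹ ∈ Z)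
    (hx : x ∈ Subgroup.normalizer (K : Set G)) (hy : y ∈ Subgroup.normalizer (K : Set G))
    (hK : ¬ p ∣ Nat.card K) (hKZ : K ⊓ Z = ⊥)
    (h1 : K ⊓ Subgroup.centralizer ({y} : Set G) ≤ H)
    (h2 : ∀ c : ZMod p, K ⊓ Subgroup.centralizer ({x * y ^ c.val} : Set G) ≤ H) : K ≤ H := by
  classical
  obtain ⟨N, hN⟩ : ∃ N : Subgroup G, N = Subgroup.normalizer (Z : Set G) := ⟨_, rfl⟩
  rw [← hN] at hxZ hyZ hKN
  haveI hZn : (Z.subgroupOf N).Normal := by
    rw [hN]; exact Subgroup.normal_in_normalizer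
  have hnormK : ∀ b : G, ∀ hb : b ∈ N, b ∈ Subgroup.normalizer (K : Set G) →
      (⟨b, hb⟩ : ↥N) ∈ Subgroup.normalizer ((K.subgroupOf N : Subgroup ↥N) : Set ↥N) := by
    intro b hb hbK
    rw [Subgroup.mem_normalizer_iff]
    intro w
    rw [Subgroup.mem_subgroupOf, Subgroup.mem_subgroupOf]
    exact Subgroup.mem_normalizer_iff.mp hbK (w : G)
  have hcentK : ∀ b : G, ∀ hb : b ∈ N, K ⊓ Subgroup.centralizer ({b} : Set G) ≤ H →
      K.subgroupOf N ⊓ Subgroup.centralizer ({(⟨b, hb⟩ : ↥N)} : Set ↥N) ≤ H.subgroupOf N := by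
    intro b hb hbH w hw
    obtain ⟨hw1, hw2⟩ := Subgroup.mem_inf.mp hw
    rw [Subgroup.mem_subgroupOf] at hw1 ⊢
    apply hbH
    refine Subgroup.mem_inf.mpr ⟨hw1, ?_⟩
    rw [Subgroup.mem_centralizer_iff]
    intro z hz
    rw [Set.mem_singleton_iff] at hz
    subst hz
    have h3 := Subgroup.mem_centralizer_iff.mp hw2 ⟨z, hb⟩ rfl
    exact congrArg Subtype.val h3
  have hcard : Nat.card (K.subgroupOf N) = Nat.card K :=
    Nat.card_congr (Subgroup.subgroupOfEquivOfLe hKN).toEquiv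
  have hmain : K.subgroupOf N ≤ H.subgroupOf N := by
    apply le_of_centralizers_le_mod (p := p) (Z.subgroupOf N) (K.subgroupOf N) (H.subgroupOf N)
      (⟨x, hxZ⟩ : ↥N) ⟨y, hyZ⟩
    · rw [Subgroup.mem_subgroupOf]; exact hxp
    · rw [Subgroup.mem_subgroupOf]; exact hyp
    · rw [Subgroup.mem_subgroupOf]; exact hxy
    · exact hnormK x hxZ hx
    · exact hnormK y hyZ hy
    · rw [hcard]; exact hK
    · rw [eq_bot_iff]
      intro w hw
      obtain ⟨hw1, hw2⟩ := Subgroup.mem_inf.mp hw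
      rw [Subgroup.mem_subgroupOf] at hw1 hw2
      have h3 : (w : G) ∈ K ⊓ Z := Subgroup.mem_inf.mpr ⟨hw1, hw2⟩
      rw [hKZ, Subgroup.mem_bot] at h3
      rw [Subgroup.mem_bot]
      exact Subtype.ext h3
    · exact hcentK y hyZ h1
    · intro c
      have h3 := hcentK (x * y ^ c.val) (N.mul_mem hxZ (N.pow_mem hyZ _)) (h2 c)
      exact h3
  intro k hk
  have h3 : (⟨k, hKN hk⟩ : ↥N) ∈ H.subgroupOf N := hmain (Subgroup.mem_subgroupOf.mpr hk)
  exact Subgroup.mem_subgroupOf.mp h3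

end Cfsg.Agent.Lib.Helper2.BGH
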