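import Mathlib
import Cfsg.Agent.Lib.Helper2.BGH1
import Cfsg.Agent.Lib.Helper2.BGH2
import Cfsg.Agent.Lib.Helper1.MS1
import Cfsg.Agent.Lib.Lead.PLength
import Cfsg.Agent.S1410
import Cfsg.Agent.S1412

set_option autoImplicit false
set_option maxHeartbeats 4000000
set_option linter.unusedVariables false
set_option linter.unusedSectionVars false
set_option linter.style.longLine false
set_option linter.unusedSimpArgs false
set_option linter.style.haveILetI false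
set_option linter.deprecated false

/-!
# B&G Lemma 12.12 (S1422): nonabelian `p`-subgroups are uniqueness subgroups
-/

open scoped commutatorElement Pointwise
universe u
namespace Cfsg.Agent.Lib.Helper2.BGH

open Cfsg Cfsg.Agent.Lib.Helper1 Cfsg.Agent.Lib.Helper7 Cfsg.Agent.Lib.Helper7.BGRows

variable {G : Type u} [Group G] [Finite G]

/-- the data of a Sylow subgroup `S = P₁ ∘ P₂` with `P₁` extraspecial of order `p³` and exponent `p`
(only what is used) -/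
structure ESC (p : ℕ) (S P₁ Z₀ : Subgroup G) : Prop where
  le : P₁ ≤ S
  zle : Z₀ ≤ P₁
  zcard : Nat.card Z₀ = p
  cent : S ≤ Subgroup.centralizer (Z₀ : Set G)
  exp : ∀ a ∈ P₁, a ^ p = 1
  comm : ∀ a ∈ P₁, ∀ b ∈ P₁, a * b * a⁻¹ * b⁻¹ ∈ Z₀
  center : ∀ a ∈ P₁, (∀ b ∈ P₁, a * b = b * a) → a ∈ Z₀
  nonab : ∃ x ∈ P₁, ∃ y ∈ P₁, x * y ≠ y * x

theorem esc_of_s1412 (hG : IsMinSimpleOddOrder G) {p : ℕ} [hp : Fact p.Prime] (R : Sylow p G)
    (hr : PRankLE p 2 ↥(R : Subgroup G)) (hna : ¬ IsMulCommutative ↥(R : Subgroup G)) :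
    ∃ P₁ Z₀ : Subgroup G, ESC p (R : Subgroup G) P₁ Z₀ := by
  classical
  rcases Cfsg.Agent.S1412.result hG p R hr with hab | ⟨P₁, P₂, hsup, hcomm, hna₁, hcard, hexp, hcyc, hcl⟩
  · exact absurd hab hna
  obtain ⟨Z₀, hZ₀⟩ : ∃ Z₀ : Subgroup G, Z₀ = P₁ ⊓ Subgroup.centralizer (P₁ : Set G) := ⟨_, rfl⟩
  have hnc' : ¬ ∀ a b : ↥P₁, a * b = b * a := fun h => hna₁ (isMulCommutative_iff.mpr h)
  have hZc := BK.card_center_of_card_cube hcard hnc'
  have hcardZ : Nat.card ↥Z₀ = p := by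
    have e : Z₀.subgroupOf P₁ = Subgroup.center ↥P₁ := by
      ext z
      rw [hZ₀, Subgroup.mem_subgroupOf, Subgroup.mem_inf, Subgroup.mem_center_iff,
        Subgroup.mem_centralizer_iff]
      constructor
      · rintro ⟨_, h⟩ g
        apply Subtype.ext
        simpa using h g g.2
      · intro h
        refine ⟨z.2, fun c hc' => ?_⟩
        simpa using congrArg Subtype.val (h ⟨c, hc'⟩)
    have hle : Z₀ ≤ P₁ := by rw [hZ₀]; exact inf_le_left
    rw [← hZc, ← e]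
    exact (Nat.card_congr (Subgroup.subgroupOfEquivOfLe hle).toEquiv).symm
  have hZP₂ : Z₀ ≤ P₂ := by
    rw [hZ₀, ← hcl, Subgroup.closure_le]
    intro x hx
    exact hx.1
  have hP₂c : ∀ a ∈ P₂, ∀ b ∈ P₂, a * b = b * a := by
    intro a ha b hb
    haveI := hcyc
    have h1 := isMulCommutative_iff.mp (IsCyclic.isMulCommutative (α := ↥P₂)) ⟨a, ha⟩ ⟨b, hb⟩
    exact congrArg Subtype.val h1
  have hderiv := MS.commutator_eq_center_of_card_cube P₁ hcard hna₁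
  refine ⟨P₁, Z₀, ⟨?_, ?_, hcardZ, ?_, ?_, ?_, ?_, ?_⟩⟩
  · rw [← hsup]; exact le_sup_left
  · rw [hZ₀]; exact inf_le_left
  · rw [← hsup]
    apply sup_le
    · intro a ha
      rw [Subgroup.mem_centralizer_iff]
      intro z hz
      rw [hZ₀] at hz
      have h1 := Subgroup.mem_centralizer_iff.mp (Subgroup.mem_inf.mp hz).2 a ha
      exact h1.symm
    · intro b hb
      rw [Subgroup.mem_centralizer_iff]
      intro z hz
      exact hP₂c z (hZP₂ hz) b hb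
  · intro a ha
    have h1 : (⟨a, ha⟩ : ↥P₁) ^ p = 1 := by
      rw [← hexp]; exact Monoid.pow_exponent_eq_one _
    have h2 := congrArg Subtype.val h1
    simpa using h2
  · intro a ha b hb
    have h1 : ⁅a, b⁆ ∈ ⁅P₁, P₁⁆ := Subgroup.commutator_mem_commutator ha hb
    rw [hderiv, ← hZ₀, commutatorElement_def] at h1
    exact h1
  · intro a ha hall
    rw [hZ₀]
    refine Subgroup.mem_inf.mpr ⟨ha, ?_⟩
    rw [Subgroup.mem_centralizer_iff]
    intro b hb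
    exact (hall b hb).symm
  · by_contra hcon
    push Not at hcon
    apply hnc'
    intro a b
    exact Subtype.ext (hcon a a.2 b b.2)

namespace ESC

variable {p : ℕ} [hp : Fact p.Prime] {S P₁ Z₀ : Subgroup G}

theorem zcomm (h : ESC p S P₁ Z₀) {z s : G} (hz : z ∈ Z₀) (hs : s ∈ S) : s * z = z * s := by
  have h1 := Subgroup.mem_centralizer_iff.mp (h.cent hs) z hz
  exact h1.symm

theorem z_ne_bot (h : ESC p S P₁ Z₀) : Z₀ ≠ ⊥ := by
  intro hb
  have h1 := h.zcard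
  rw [hb, Subgroup.card_bot] at h1
  exact hp.out.one_lt.ne h1

theorem zelem (h : ESC p S P₁ Z₀) : IsElementaryAbelian p Z₀ := by
  refine ⟨isMulCommutative_iff.mpr ?_, fun a ha => h.exp a (h.zle ha)⟩
  intro a b
  exact Subtype.ext (h.zcomm b.2 (h.le (h.zle a.2)))

theorem elem (h : ESC p S P₁ Z₀) {b : G} (hb : b ∈ P₁) (hbZ : b ∉ Z₀) :
    IsElementaryAbelian p (Z₀ ⊔ Subgroup.zpowers b) ∧
      Nat.card (Z₀ ⊔ Subgroup.zpowers b : Subgroup G) = p ^ 2 ∧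
      Z₀ ⊔ Subgroup.zpowers b ≤ P₁ := by
  obtain ⟨h1, h2⟩ := BT.elementary_sup_zpowers h.zelem (h.cent (h.le hb)) (h.exp b hb) hbZ
  refine ⟨h1, ?_, sup_le h.zle (Subgroup.zpowers_le.mpr hb)⟩
  rw [h2, h.zcard]; ring

/-- conjugation inside a coset of the centre -/
theorem coset_conj (h : ESC p S P₁ Z₀) {b : G} (hb : b ∈ P₁) (hbZ : b ∉ Z₀) :
    ∀ w ∈ Z₀, ∃ g ∈ P₁, g * b * g⁻¹ = b * w := by
  classical
  let W : Subgroup G :=
    { carrier := {w | w ∈ Z₀ ∧ ∃ g ∈ P₁, g * b * g⁻¹ = b * w}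
      one_mem' := ⟨Z₀.one_mem, 1, P₁.one_mem, by group⟩
      mul_mem' := by
        rintro w w' ⟨hw, g, hg, hgw⟩ ⟨hw', g', hg', hgw'⟩
        refine ⟨Z₀.mul_mem hw hw', g * g', P₁.mul_mem hg hg', ?_⟩
        have h1 : g * w' = w' * g := h.zcomm hw' (h.le hg)
        calc g * g' * b * (g * g')⁻¹ = g * (g' * b * g'⁻¹) * g⁻¹ := by group
          _ = g * (b * w') * g⁻¹ := by rw [hgw']
          _ = (g * b * g⁻¹) * (g * w' * g⁻¹) := by group
          _ = (b * w) * (w' * g * g⁻¹) := by rw [hgw, h1]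
          _ = b * (w * w') := by group
      inv_mem' := by
        rintro w ⟨hw, g, hg, hgw⟩
        refine ⟨Z₀.inv_mem hw, g⁻¹, P₁.inv_mem hg, ?_⟩
        have h1 : g * w = w * g := h.zcomm hw (h.le hg)
        have h2 : g⁻¹ * w = w * g⁻¹ := by
          calc g⁻¹ * w = g⁻¹ * (w * g) * g⁻¹ := by group
            _ = g⁻¹ * (g * w) * g⁻¹ := by rw [h1]
            _ = w * g⁻¹ := by group
        have h3 : b = g⁻¹ * (b * w) * g := by rw [← hgw]; group
        have h4 : g⁻¹ * w * g = w := by rw [h2]; group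
        have h5 : b = (g⁻¹ * b * g) * w := by
          calc b = g⁻¹ * (b * w) * g := h3
            _ = (g⁻¹ * b * g) * (g⁻¹ * w * g) := by group
            _ = (g⁻¹ * b * g) * w := by rw [h4]
        calc g⁻¹ * b * g⁻¹⁻¹ = g⁻¹ * b * g := by rw [inv_inv]
          _ = ((g⁻¹ * b * g) * w) * w⁻¹ := by group
          _ = b * w⁻¹ := by rw [← h5] }
  have hWZ : W ≤ Z₀ := fun w hw => hw.1
  have hWne : W ≠ ⊥ := by
    obtain ⟨y, hy, hby⟩ : ∃ y ∈ P₁, b * y ≠ y * b := by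
      by_contra hcon
      push Not at hcon
      exact hbZ (h.center b hb hcon)
    intro hbot
    have h1 : b⁻¹ * y * b * y⁻¹ ∈ W := by
      refine ⟨?_, y, hy, by group⟩
      have h2 := h.comm b⁻¹ (P₁.inv_mem hb) y hy
      rw [inv_inv] at h2
      exact h2
    rw [hbot, Subgroup.mem_bot] at h1
    apply hby
    calc b * y = b * (b⁻¹ * y * b * y⁻¹) * y := by rw [h1]; group
      _ = y * b := by group
  have hWcard : Nat.card W = p := by
    have h1 : Nat.card W ∣ p := by rw [← h.zcard]; exact Subgroup.card_dvd_of_le hWZ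
    rcases (Nat.dvd_prime hp.out).mp h1 with h2 | h2
    · exact absurd (Subgroup.eq_bot_of_card_eq _ h2) hWne
    · exact h2
  have hWeq : W = Z₀ := Subgroup.eq_of_le_of_card_ge hWZ (by rw [hWcard, h.zcard])
  intro w hw
  rw [← hWeq] at hw
  exact hw.2

/-- a subgroup of order `p` either equals `Z₀` or meets it trivially -/
theorem line_cases (h : ESC p S P₁ Z₀) {A₀ : Subgroup G} (hA₀ : Nat.card A₀ = p) :
    A₀ = Z₀ ∨ A₀ ⊓ Z₀ = ⊥ := by
  have h1 : Nat.card ↥(A₀ ⊓ Z₀) ∣ p := by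
    rw [← h.zcard]; exact Subgroup.card_dvd_of_le inf_le_right
  rcases (Nat.dvd_prime hp.out).mp h1 with h2 | h2
  · right; exact Subgroup.eq_bot_of_card_eq _ h2
  · left
    have h3 : A₀ ⊓ Z₀ = Z₀ := Subgroup.eq_of_le_of_card_ge inf_le_right (by rw [h2, h.zcard])
    have h4 : Z₀ ≤ A₀ := by rw [← h3]; exact inf_le_left
    exact (Subgroup.eq_of_le_of_card_ge h4 (by rw [hA₀, h.zcard])).symm

/-- the noncentral lines of `Z₀ × ⟨b⟩` are conjugate under `P₁` -/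
theorem line_conj (h : ESC p S P₁ Z₀) {b : G} (hb : b ∈ P₁) (hbZ : b ∉ Z₀)
    {A₀ A₀' : Subgroup G} (hA₀le : A₀ ≤ Z₀ ⊔ Subgroup.zpowers b) (hA₀ : Nat.card A₀ = p)
    (hA₀Z : A₀ ⊓ Z₀ = ⊥) (hA₀'le : A₀' ≤ Z₀ ⊔ Subgroup.zpowers b) (hA₀' : Nat.card A₀' = p)
    (hA₀'Z : A₀' ⊓ Z₀ = ⊥) : ∃ g ∈ P₁, A₀' = BG7.cj g A₀ := by
  classical
  obtain ⟨hAe, hA2, hAP⟩ := h.elem hb hbZ
  have hex : ∀ B : Subgroup G, Nat.card B = p → ∃ a ∈ B, a ≠ 1 := by
    intro B hB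
    by_contra hcon
    push Not at hcon
    have h1 : B = ⊥ := by
      rw [eq_bot_iff]; intro x hx; rw [Subgroup.mem_bot]; exact hcon x hx
    rw [h1, Subgroup.card_bot] at hB
    exact hp.out.one_lt.ne hB
  obtain ⟨a, ha, ha1⟩ := hex A₀ hA₀
  obtain ⟨a', ha', ha'1⟩ := hex A₀' hA₀'
  have haP : a ∈ P₁ := hAP (hA₀le ha)
  have ha'P : a' ∈ P₁ := hAP (hA₀'le ha')
  have haZ : a ∉ Z₀ := by
    intro hz
    have h1 : a ∈ A₀ ⊓ Z₀ := Subgroup.mem_inf.mpr ⟨ha, hz⟩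
    rw [hA₀Z, Subgroup.mem_bot] at h1
    exact ha1 h1
  have ha'Z : a' ∉ Z₀ := by
    intro hz
    have h1 : a' ∈ A₀' ⊓ Z₀ := Subgroup.mem_inf.mpr ⟨ha', hz⟩
    rw [hA₀'Z, Subgroup.mem_bot] at h1
    exact ha'1 h1
  have hzA₀' : Subgroup.zpowers a' = A₀' := BK.zpowers_eq_of_card_prime hA₀' ha' ha'1
  -- `Z₀ ⊔ A₀'` is everything
  have hsup : Z₀ ⊔ A₀' = Z₀ ⊔ Subgroup.zpowers b := by
    obtain ⟨-, h2⟩ := BT.elementary_sup_zpowers h.zelem (h.cent (h.le ha'P)) (h.exp a' ha'P) ha'Z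
    rw [hzA₀'] at h2
    apply Subgroup.eq_of_le_of_card_ge (sup_le le_sup_left hA₀'le)
    rw [h2, hA2, h.zcard]; exact le_of_eq (by ring)
  have haS : a ∈ Z₀ ⊔ A₀' := by rw [hsup]; exact hA₀le ha
  have hnorm : A₀' ≤ Subgroup.normalizer (Z₀ : Set G) := by
    intro x hx
    exact Subgroup.centralizer_le_normalizer _ (h.cent (h.le (hAP (hA₀'le hx))))
  have h1 : (↑(Z₀ ⊔ A₀') : Set G) = ↑Z₀ * ↑A₀' :=
    Subgroup.coe_mul_of_right_le_normalizer_left Z₀ A₀' hnorm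
  have h2 : a ∈ (↑Z₀ * ↑A₀' : Set G) := by rw [← h1]; exact haS
  obtain ⟨w, hw, a'', ha'', hwa⟩ := Set.mem_mul.mp h2
  have ha''1 : a'' ≠ 1 := by
    intro h3
    rw [h3, mul_one] at hwa
    exact haZ (hwa ▸ hw)
  have hwa' : a'' = a * w⁻¹ := by
    have h3 : a * w⁻¹ = w⁻¹ * a := h.zcomm (Z₀.inv_mem hw) (h.le haP)
    rw [h3, ← hwa]; group
  obtain ⟨g, hg, hgb⟩ := h.coset_conj haP haZ w⁻¹ (Z₀.inv_mem hw)
  refine ⟨g, hg, ?_⟩
  have h3 : a'' ∈ BG7.cj g A₀ := by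
    rw [hwa', ← hgb]; exact BG7.conj_mem_cj ha
  have h4 : Nat.card (BG7.cj g A₀) = p := by rw [BG7.card_cj]; exact hA₀
  have h5 : Subgroup.zpowers a'' = BG7.cj g A₀ := BK.zpowers_eq_of_card_prime h4 h3 ha''1
  have h6 : Subgroup.zpowers a'' = A₀' := BK.zpowers_eq_of_card_prime hA₀' ha'' ha''1
  rw [← h5, h6]

end ESC

/-- `A₀` has its normalizer in `M`, and `M` is the only maximal subgroup containing it -/
def Good (M A₀ : Subgroup G) : Prop :=
  Subgroup.normalizer (A₀ : Set G) ≤ M ∧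
    ∀ L : Subgroup G, IsCoatom L → Subgroup.normalizer (A₀ : Set G) ≤ L → L = M

theorem good_cj {M A₀ : Subgroup G} (h : Good M A₀) {g : G} (hg : g ∈ M) :
    Good M (BG7.cj g A₀) := by
  refine ⟨?_, ?_⟩
  · rw [← BT.cj_normalizer]
    exact BG9.cj_le_of_mem hg h.1
  · intro L hL hNL
    rw [← BT.cj_normalizer] at hNL
    have h1 : Subgroup.normalizer (A₀ : Set G) ≤ BG7.cj g⁻¹ L := by
      have h2 := BG7.cj_mono (k := g⁻¹) hNL
      rwa [BG7.cj_inv_cj] at h2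
    have h2 : BG7.cj g⁻¹ L = M := h.2 _ (BG9.isCoatom_cj hL g⁻¹) h1
    have h3 : L = BG7.cj g M := by rw [← h2, BG9.cj_cj_inv]
    rw [h3, cj_self_of_mem hg]

/-- nonabelian `p`-subgroups of `M` force `p ∈ σ(M)` -/
theorem sigma_of_nonabelian (hG : IsMinSimpleOddOrder G) (h1417 : Row1417 G) {M : Subgroup G}
    (hM : IsCoatom M) {p : ℕ} [hp : Fact p.Prime] {P : Subgroup G} (hP : IsPGroup p P)
    (hPM : P ≤ M) (hna : ¬ IsMulCommutative ↥P) : p ∈ sigma M := by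
  by_contra hpσ
  apply hna
  have h1 := BGD.comm_of_pgroup hG hM h1417 hpσ hPM hP
  exact isMulCommutative_iff.mpr (fun a b => Subtype.ext (h1 a a.2 b b.2))

theorem not_comm_of_le {P T : Subgroup G} (hPT : P ≤ T) (hna : ¬ IsMulCommutative ↥P) :
    ¬ IsMulCommutative ↥T := by
  intro hT
  apply hna
  rw [isMulCommutative_iff] at hT ⊢
  intro a b
  have h1 := hT ⟨a, hPT a.2⟩ ⟨b, hPT b.2⟩
  have h2 := congrArg Subtype.val h1
  apply Subtype.ext
  simpa using h2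

/-- `p`-subgroups of `M` lie in `M_σ` for `p ∈ σ(M)` -/
theorem pgroup_le_sigmaCore (hG : IsMinSimpleOddOrder G) {M : Subgroup G} (hM : IsCoatom M)
    {p : ℕ} [hp : Fact p.Prime] (hpσ : p ∈ sigma M) {X : Subgroup G} (hX : IsPGroup p X)
    (hXM : X ≤ M) : X ≤ sigmaCore M := by
  obtain ⟨R, hR, hXR⟩ := BT.exists_isMaxP_ge hX hXM
  obtain ⟨R₀, hR₀⟩ := hR.exists_sylow
  have h1 := BGA.sigma_sylow_le_piCore hG hM hpσ R₀
  have h2 : R ≤ sigmaCore M := by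
    rw [← hR₀]
    exact Subgroup.map_mono h1
  exact hXR.trans h2

/-- two maximal subgroups containing a nonabelian `p`-subgroup share a Sylow `p`-subgroup of `G` -/
theorem common_sylow (hG : IsMinSimpleOddOrder G) (h1416 : Row1416 G) (h1417 : Row1417 G)
    {M M' : Subgroup G} (hM : IsCoatom M) (hM' : IsCoatom M') {p : ℕ} [hp : Fact p.Prime]
    {P : Subgroup G} (hP : IsPGroup p P) (hPM : P ≤ M) (hPM' : P ≤ M')
    (hna : ¬ IsMulCommutative ↥P) :
    ∃ T : Subgroup G, BG8.IsMaxP p T ⊤ ∧ P ≤ T ∧ T ≤ M ∧ T ≤ M' := by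
  obtain ⟨T, hT, hPT⟩ := BT.exists_isMaxP_ge hP (le_inf hPM hPM')
  have hTM : T ≤ M := hT.1.trans inf_le_left
  have hTM' : T ≤ M' := hT.1.trans inf_le_right
  have hTna := not_comm_of_le hPT hna
  have hnc : ¬ IsCyclic ↥T := by
    intro hc
    haveI := hc
    exact hTna IsCyclic.isMulCommutative
  have hσ := sigma_of_nonabelian hG h1417 hM hP hPM hna
  have hσ' := sigma_of_nonabelian hG h1417 hM' hP hPM' hna
  have hN := BGD.normalizer_le_of_noncyclic hG hM h1416 hσ hT.2.1 hTM hnc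
  have hN' := BGD.normalizer_le_of_noncyclic hG hM' h1416 hσ' hT.2.1 hTM' hnc
  exact ⟨T, hT.top_of_normalizer_le (le_inf hN hN'), hPT, hTM, hTM'⟩

end Cfsg.Agent.Lib.Helper2.BGH
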