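import Mathlib
import Cfsg.Agent.Lib.Helper2.BGH3

set_option autoImplicit false
set_option maxHeartbeats 4000000
set_option linter.unusedVariables false
set_option linter.unusedSectionVars false
set_option linter.style.longLine false
set_option linter.unusedSimpArgs false
set_option linter.style.haveILetI false
set_option linter.deprecated false

/-!
# B&G Lemma 12.12 (S1422), main argument
-/

open scoped commutatorElement Pointwise
universe u
namespace Cfsg.Agent.Lib.Helper2.BGH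

open Cfsg Cfsg.Agent.Lib.Helper1 Cfsg.Agent.Lib.Helper7 Cfsg.Agent.Lib.Helper7.BGRows

variable {G : Type u} [Group G] [Finite G]

/-- if `M_σ` is nilpotent then `M = N_G(S)` for a Sylow `p`-subgroup `S ≤ M`, `p ∈ σ(M)` -/
theorem normalizer_eq_of_nilpotent (hG : IsMinSimpleOddOrder G) {M : Subgroup G} (hM : IsCoatom M)
    {p : ℕ} [hp : Fact p.Prime] (hpσ : p ∈ sigma M) {S : Subgroup G} (hS : BG8.IsMaxP p S ⊤)
    (hSM : S ≤ M) (hS1 : S ≠ ⊥) (hnil : Group.IsNilpotent ↥(sigmaCore M)) :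
    Subgroup.normalizer (S : Set G) = M := by
  classical
  have hle : S ≤ sigmaCore M := pgroup_le_sigmaCore hG hM hpσ hS.2.1 hSM
  have hS' : BG8.IsMaxP p S (sigmaCore M) := hS.mono hle le_top
  have hNσ : M ≤ Subgroup.normalizer (sigmaCore M : Set G) :=
    BG7.le_normalizer_piCoreOf (sigma M) M
  have hall : ∀ q (_ : Fact q.Prime) (P : Sylow q ↥(sigmaCore M)),
      (↑P : Subgroup ↥(sigmaCore M)).Normal :=
    ((Group.isNilpotent_of_finite_tfae (G := ↥(sigmaCore M))).out 0 3).mp hnil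
  obtain ⟨Q, hQ⟩ := hS'.exists_sylow
  haveI hu : Unique (Sylow p ↥(sigmaCore M)) := Sylow.unique_of_normal Q (hall p inferInstance Q)
  have hMN : M ≤ Subgroup.normalizer (S : Set G) := by
    intro m hm
    apply BG9.mem_normalizer_of_cj_le
    have h1 : BG8.IsMaxP p (BG7.cj m S) (BG7.cj m (sigmaCore M)) := BT.isMaxP_cj hS' m
    rw [BG7.cj_eq_of_mem_normalizer (hNσ hm)] at h1
    obtain ⟨Q', hQ'⟩ := h1.exists_sylow
    have h2 : Q' = Q := Subsingleton.elim _ _
    rw [← hQ', h2, hQ]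
  exact BG8.normalizer_eq_of_coatom hG hM hSM hS1 hMN

/-- the trichotomy for a maximal subgroup containing `S` -/
theorem tri (hG : IsMinSimpleOddOrder G) (h1416 : Row1416 G) {p : ℕ} [hp : Fact p.Prime]
    {S P₁ Z₀ : Subgroup G} (hE : ESC p S P₁ Z₀) (hS : BG8.IsMaxP p S ⊤) {M : Subgroup G}
    (hM : IsCoatom M) (hSM : S ≤ M) (hpσ : p ∈ sigma M) :
    Subgroup.normalizer (S : Set G) = M ∨ Good M Z₀ ∨
      ∀ b ∈ P₁, b ∉ Z₀ → ∃ A₀ : Subgroup G, A₀ ≤ Z₀ ⊔ Subgroup.zpowers b ∧ Nat.card A₀ = p ∧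
        A₀ ⊓ Z₀ = ⊥ ∧ Good M A₀ := by
  by_cases hnil : Group.IsNilpotent ↥(sigmaCore M)
  · left
    have hS1 : S ≠ ⊥ := by
      intro h
      apply hE.z_ne_bot
      have h1 := hE.zle.trans hE.le
      rw [h] at h1
      exact le_bot_iff.mp h1
    exact normalizer_eq_of_nilpotent hG hM hpσ hS hSM hS1 hnil
  by_cases hZ : Good M Z₀
  · right; left; exact hZ
  right; right
  intro b hb hbZ
  obtain ⟨hAe, hA2, hAP⟩ := hE.elem hb hbZ
  by_contra hcon
  push Not at hcon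
  apply hnil
  have h1 := (h1416 hG M hM p (Z₀ ⊔ Subgroup.zpowers b)
    ⟨(hAP.trans hE.le).trans hSM, hAe, hA2⟩).2
  refine (h1 ?_).2.2
  intro A₀ hA₀ hc hgood
  rcases hE.line_cases hc with h2 | h2
  · rw [h2] at hgood; exact hZ hgood
  · exact hcon A₀ hA₀ hc h2 hgood

theorem nc_aux {p : ℕ} [hp : Fact p.Prime] {S P₁ Z₀ : Subgroup G} (hE : ESC p S P₁ Z₀)
    {M A₀ K : Subgroup G} {b : G} (hb : b ∈ P₁)
    (hA₀le : A₀ ≤ Z₀ ⊔ Subgroup.zpowers b) (hA₀ : Nat.card A₀ = p) (hgood : Good M A₀)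
    (hK : K ≤ Subgroup.centralizer (Z₀ : Set G)) :
    K ⊓ Subgroup.centralizer ({b} : Set G) ≤ M := by
  classical
  obtain ⟨a, ha, ha1⟩ : ∃ a ∈ A₀, a ≠ 1 := by
    by_contra hcon
    push Not at hcon
    have h1 : A₀ = ⊥ := by
      rw [eq_bot_iff]; intro x hx; rw [Subgroup.mem_bot]; exact hcon x hx
    rw [h1, Subgroup.card_bot] at hA₀
    exact hp.out.one_lt.ne hA₀
  have hz : Subgroup.zpowers a = A₀ := BK.zpowers_eq_of_card_prime hA₀ ha ha1
  have hnorm : Subgroup.zpowers b ≤ Subgroup.normalizer (Z₀ : Set G) :=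
    Subgroup.zpowers_le.mpr (Subgroup.centralizer_le_normalizer _ (hE.cent (hE.le hb)))
  have h1 : (↑(Z₀ ⊔ Subgroup.zpowers b) : Set G) = ↑Z₀ * ↑(Subgroup.zpowers b) :=
    Subgroup.coe_mul_of_right_le_normalizer_left Z₀ _ hnorm
  have h2 : a ∈ (↑Z₀ * ↑(Subgroup.zpowers b) : Set G) := by rw [← h1]; exact hA₀le ha
  obtain ⟨w, hw, c, hc, hwc⟩ := Set.mem_mul.mp h2
  intro k hk
  obtain ⟨hkK, hkb⟩ := Subgroup.mem_inf.mp hk
  apply hgood.1
  apply Subgroup.centralizer_le_normalizer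
  rw [← hz, BT.centralizer_zpowers_eq, Subgroup.mem_centralizer_iff]
  intro x hx
  rw [Set.mem_singleton_iff] at hx
  subst hx
  have hkw : w * k = k * w := Subgroup.mem_centralizer_iff.mp (hK hkK) w hw
  have hkc : c * k = k * c := by
    have h3 : k ∈ Subgroup.centralizer ((Subgroup.zpowers b : Subgroup G) : Set G) := by
      rw [BT.centralizer_zpowers_eq]; exact hkb
    exact Subgroup.mem_centralizer_iff.mp h3 c hc
  rw [← hwc]
  calc w * c * k = w * (c * k) := by group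
    _ = w * (k * c) := by rw [hkc]
    _ = (w * k) * c := by group
    _ = k * (w * c) := by rw [hkw]; group

/-- in the noncentral case the centralizer of `Z₀` lies in `M` -/
theorem nc_cent (hG : IsMinSimpleOddOrder G) {p : ℕ} [hp : Fact p.Prime]
    {S P₁ Z₀ : Subgroup G} (hE : ESC p S P₁ Z₀) (hS : BG8.IsMaxP p S ⊤) {M : Subgroup G}
    (hM : IsCoatom M) (hSM : S ≤ M) (hpσ : p ∈ sigma M)
    (hNC : ∀ b ∈ P₁, b ∉ Z₀ → ∃ A₀ : Subgroup G, A₀ ≤ Z₀ ⊔ Subgroup.zpowers b ∧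
      Nat.card A₀ = p ∧ A₀ ⊓ Z₀ = ⊥ ∧ Good M A₀) :
    Subgroup.centralizer (Z₀ : Set G) ≤ M := by
  classical
  obtain ⟨C, hCdef⟩ : ∃ C : Subgroup G, C = Subgroup.centralizer (Z₀ : Set G) := ⟨_, rfl⟩
  rw [← hCdef]
  have hZp : IsPGroup p ↥Z₀ := IsPGroup.of_card (n := 1) (by rw [hE.zcard, pow_one])
  have hZtop : Z₀ ≠ ⊤ := BG7.pgroup_ne_top hG hZp
  have hCN : C ≤ Subgroup.normalizer (Z₀ : Set G) := by
    rw [hCdef]; exact Subgroup.centralizer_le_normalizer _
  have hCtop : C ≠ ⊤ := by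
    intro h
    apply BG7.normalizer_ne_top hG hE.z_ne_bot hZtop
    rw [eq_top_iff, ← h]; exact hCN
  have hpl : PLengthLE p 1 ↥C := Cfsg.Agent.S1410.result hG p C hCtop
  have hSC : S ≤ C := by rw [hCdef]; exact hE.cent
  obtain ⟨Q, hQ⟩ := (hS.mono hSC le_top).exists_sylow
  obtain ⟨-, -, hsup, -⟩ := Cfsg.Agent.Lib.Lead.PLength.pLengthLE_one_core p hpl Q
  obtain ⟨K₀, hK₀⟩ : ∃ K₀ : Subgroup G, K₀ = (pPrimeCore p ↥C).map C.subtype := ⟨_, rfl⟩
  have hK₀C : K₀ ≤ C := by rw [hK₀]; exact Subgroup.map_subtype_le _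
  have hNS : Subgroup.normalizer (S : Set G) ≤ M :=
    (BT.sigma_sylow_le_commutator hG hM hpσ (hS.mono hSM le_top)).2.2
  have hK₀M : K₀ ≤ M := by
    obtain ⟨x, hx, y, hy, hxy⟩ := hE.nonab
    have hcN : ∀ c ∈ C, c ∈ Subgroup.normalizer (K₀ : Set G) := by
      intro c hc
      rw [hK₀]
      apply BG9.coe_mem_normalizer_map (n := (⟨c, hc⟩ : ↥C))
      rw [Subgroup.normalizer_eq_top_iff.mpr inferInstance]
      exact Subgroup.mem_top _
    have hxC : x ∈ C := hSC (hE.le hx)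
    have hyC : y ∈ C := hSC (hE.le hy)
    have hyZ : y ∉ Z₀ := fun h => hxy (hE.zcomm h (hE.le hx))
    have hKcard : ¬ p ∣ Nat.card K₀ := by
      rw [hK₀, Subgroup.card_map_of_injective C.subtype_injective]
      have h1 := Cfsg.Agent.Lib.Helper2.pPrimeCore_card_coprime (G := ↥C) p
      intro hd
      exact hp.out.one_lt.ne' (Nat.Coprime.eq_one_of_dvd h1.symm hd)
    have hKZ : K₀ ⊓ Z₀ = ⊥ := by
      apply Subgroup.eq_bot_of_card_eq
      have h1 : Nat.card ↥(K₀ ⊓ Z₀) ∣ p := by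
        rw [← hE.zcard]; exact Subgroup.card_dvd_of_le inf_le_right
      rcases (Nat.dvd_prime hp.out).mp h1 with h2 | h2
      · exact h2
      · exfalso; apply hKcard; rw [← h2]; exact Subgroup.card_dvd_of_le inf_le_left
    have hcent : ∀ b ∈ P₁, b ∉ Z₀ → K₀ ⊓ Subgroup.centralizer ({b} : Set G) ≤ M := by
      intro b hb hbZ
      obtain ⟨A₀, hA₀le, hA₀c, -, hgood⟩ := hNC b hb hbZ
      have hK₀C' : K₀ ≤ Subgroup.centralizer (Z₀ : Set G) := by rw [← hCdef]; exact hK₀C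
      exact nc_aux hE hb hA₀le hA₀c hgood hK₀C'
    apply le_of_centralizers_le_mod' (p := p) Z₀ K₀ M x y (hCN hxC) (hCN hyC) (hK₀C.trans hCN)
    · rw [hE.exp x hx]; exact Z₀.one_mem
    · rw [hE.exp y hy]; exact Z₀.one_mem
    · exact hE.comm x hx y hy
    · exact hcN x hxC
    · exact hcN y hyC
    · exact hKcard
    · exact hKZ
    · exact hcent y hy hyZ
    · intro c
      apply hcent (x * y ^ c.val) (P₁.mul_mem hx (P₁.pow_mem hy _))
      intro hbZ
      apply hxy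
      have h1 : (x * y ^ c.val) * y = y * (x * y ^ c.val) := (hE.zcomm hbZ (hE.le hy)).symm
      have h2 : x * y ^ c.val * y = x * y * y ^ c.val := by
        calc x * y ^ c.val * y = x * (y ^ c.val * y) := mul_assoc _ _ _
          _ = x * (y * y ^ c.val) := by rw [(Commute.pow_self y c.val).eq]
          _ = x * y * y ^ c.val := (mul_assoc _ _ _).symm
      rw [h2] at h1
      have h3 : x * y * y ^ c.val = y * x * y ^ c.val := by rw [h1, mul_assoc]
      exact mul_right_cancel h3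
  intro c hc
  have h1 : (⟨c, hc⟩ : ↥C) ∈ pPrimeCore p ↥C ⊔ Subgroup.normalizer ((Q : Subgroup ↥C) : Set ↥C) := by
    rw [hsup]; exact Subgroup.mem_top _
  obtain ⟨k, hk, n, hn, hkn⟩ := Subgroup.mem_sup_of_normal_left.mp h1
  have hkM : (k : G) ∈ M := by
    apply hK₀M
    rw [hK₀]
    exact Subgroup.mem_map_of_mem _ hk
  have hnM : (n : G) ∈ M := by
    apply hNS
    have h2 := BG9.coe_mem_normalizer_map hn
    rwa [hQ] at h2
  have h3 : c = (k : G) * (n : G) := by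
    have h4 := congrArg Subtype.val hkn
    simpa using h4.symm
  rw [h3]; exact M.mul_mem hkM hnM

/-- a nonabelian Sylow subgroup of `G` lies in a unique maximal subgroup -/
theorem unique_of_sylow_nonabelian (hG : IsMinSimpleOddOrder G) (h1416 : Row1416 G)
    (h1417 : Row1417 G) {p : ℕ} [hp : Fact p.Prime] {S : Subgroup G} (hS : BG8.IsMaxP p S ⊤)
    (hna : ¬ IsMulCommutative ↥S) {M M' : Subgroup G} (hM : IsCoatom M) (hM' : IsCoatom M')
    (hSM : S ≤ M) (hSM' : S ≤ M') : M' = M := by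
  classical
  have hσ := sigma_of_nonabelian hG h1417 hM hS.2.1 hSM hna
  have hσ' := sigma_of_nonabelian hG h1417 hM' hS.2.1 hSM' hna
  by_cases hr : PRankLE p 2 ↥S
  · obtain ⟨R, hR⟩ := hS.exists_sylow_top
    subst hR
    obtain ⟨P₁, Z₀, hE⟩ := esc_of_s1412 hG R hr hna
    have hNS : Subgroup.normalizer ((R : Subgroup G) : Set G) ≤ M :=
      (BT.sigma_sylow_le_commutator hG hM hσ (hS.mono hSM le_top)).2.2
    have hNS' : Subgroup.normalizer ((R : Subgroup G) : Set G) ≤ M' :=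
      (BT.sigma_sylow_le_commutator hG hM' hσ' (hS.mono hSM' le_top)).2.2
    have t := tri hG h1416 hE hS hM hSM hσ
    have t' := tri hG h1416 hE hS hM' hSM' hσ'
    have hZp : IsPGroup p ↥Z₀ := IsPGroup.of_card (n := 1) (by rw [hE.zcard, pow_one])
    have hnorm : ∀ {L : Subgroup G}, IsCoatom L → (R : Subgroup G) ≤ L → p ∈ sigma L →
        Subgroup.centralizer (Z₀ : Set G) ≤ L → Subgroup.normalizer (Z₀ : Set G) ≤ L := by
      intro L hL hSL hσL hC
      have h1 := (BT.sigma_trans hG hL hσL (Nat.card G - Nat.card Z₀) Z₀ hZp hE.z_ne_bot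
        ((hE.zle.trans hE.le).trans hSL) rfl).2
      rw [h1]; exact sup_le inf_le_left hC
    rcases t with h | h | h
    · have hMM' : M ≤ M' := by rw [← h]; exact hNS'
      exact BG8.eq_of_coatom_le hM hMM' hM'.1
    · rcases t' with h' | h' | h'
      · have hM'M : M' ≤ M := by rw [← h']; exact hNS
        exact (BG8.eq_of_coatom_le hM' hM'M hM.1).symm
      · exact h.2 M' hM' h'.1
      · exact h.2 M' hM' (hnorm hM' hSM' hσ' (nc_cent hG hE hS hM' hSM' hσ' h'))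
    · rcases t' with h' | h' | h'
      · have hM'M : M' ≤ M := by rw [← h']; exact hNS
        exact (BG8.eq_of_coatom_le hM' hM'M hM.1).symm
      · exact (h'.2 M hM (hnorm hM hSM hσ (nc_cent hG hE hS hM hSM hσ h))).symm
      · obtain ⟨x, hx, y, hy, hxy⟩ := hE.nonab
        have hxZ : x ∉ Z₀ := fun hz => hxy ((hE.zcomm hz (hE.le hy)).symm)
        obtain ⟨A₀, hle, hc, hbot, hgood⟩ := h x hx hxZ
        obtain ⟨A₀', hle', hc', hbot', hgood'⟩ := h' x hx hxZ
        obtain ⟨g, hg, hgA⟩ := hE.line_conj hx hxZ hle hc hbot hle' hc' hbot'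
        have h1 : Good M A₀' := by
          rw [hgA]; exact good_cj hgood (hSM (hE.le hg))
        exact h1.2 M' hM' hgood'.1
  · have h1 := BT.le_of_rank_three hG hp.out hM hSM hr hSM' hM'.1
    exact (BG8.eq_of_coatom_le hM' h1 hM.1).symm

/-- B&G 12.12 = S1422, from S1416 and S1417 -/
theorem s1422_of (hG : IsMinSimpleOddOrder G) (h1416 : Row1416 G) (h1417 : Row1417 G)
    (p : ℕ) [Fact p.Prime] (P : Subgroup G) (hP : IsPGroup p P) (hPna : ¬ IsMulCommutative P) :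
    InUniqueMaximal P := by
  have hPtop : P ≠ ⊤ := BG7.pgroup_ne_top hG hP
  rcases eq_top_or_exists_le_coatom P with h | ⟨M, hM, hPM⟩
  · exact absurd h hPtop
  refine ⟨M, ⟨hM, hPM⟩, ?_⟩
  rintro M' ⟨hM', hPM'⟩
  obtain ⟨T, hT, hPT, hTM, hTM'⟩ := common_sylow hG h1416 h1417 hM hM' hP hPM hPM' hPna
  exact unique_of_sylow_nonabelian hG h1416 h1417 hT (not_comm_of_le hPT hPna) hM hM' hTM hTM'

end Cfsg.Agent.Lib.Helper2.BGH
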