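import Mathlib
import Cfsg.Agent.Lib.Helper2.BGH4
import Cfsg.Agent.S1414

set_option autoImplicit false
set_option maxHeartbeats 4000000
set_option linter.unusedVariables false
set_option linter.unusedSectionVars false
set_option linter.style.longLine false
set_option linter.unusedSimpArgs false
set_option linter.style.haveILetI false
set_option linter.deprecated false

/-!
# B&G Lemma 12.13 (S1423)
-/

open scoped commutatorElement Pointwise
universe u
namespace Cfsg.Agent.Lib.Helper2.BGH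

open Cfsg Cfsg.Agent.Lib.Helper1 Cfsg.Agent.Lib.Helper7 Cfsg.Agent.Lib.Helper7.BGRows

/-- in a group with a normal `p`-complement, a Sylow `p`-subgroup `Q` meets the derived subgroup
in `Q'` -/
theorem mem_commutator_sylow_of_npc {H : Type*} [Group H] [Finite H] {p : ℕ} [hp : Fact p.Prime]
    (h : HasNormalPComplement p H) (Q : Sylow p H) {x : H} (hxQ : x ∈ (Q : Subgroup H))
    (hx : x ∈ commutator H) : x ∈ ⁅(Q : Subgroup H), (Q : Subgroup H)⁆ := by
  classical
  obtain ⟨P₀, N, hN, hc⟩ := h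
  haveI := hN
  have h1 : Nat.card ↥N * Nat.card ↥(P₀ : Subgroup H) = Nat.card H := hc.card_mul_card
  have h2 : Nat.card ↥(Q : Subgroup H) = Nat.card ↥(P₀ : Subgroup H) := by
    rw [Sylow.card_eq_multiplicity, Sylow.card_eq_multiplicity]
  have h3 : (Nat.card ↥N).Coprime (Nat.card ↥(Q : Subgroup H)) := by
    rw [h2, ← hc.index_eq_card]
    exact (P₀.card_coprime_index).symm
  have hcQ : N.IsComplement' (Q : Subgroup H) :=
    Subgroup.isComplement'_of_coprime (by rw [h2]; exact h1) h3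
  have hsup : N ⊔ (Q : Subgroup H) = ⊤ := hcQ.sup_eq_top
  have hdisj : N ⊓ (Q : Subgroup H) = ⊥ := hcQ.disjoint.eq_bot
  have hmap : Subgroup.map (QuotientGroup.mk' N) (⊤ : Subgroup H) =
      Subgroup.map (QuotientGroup.mk' N) (Q : Subgroup H) := by
    rw [← hsup, Subgroup.map_sup, QuotientGroup.map_mk'_self, bot_sup_eq]
  have h4 : Subgroup.map (QuotientGroup.mk' N) (commutator H) =
      Subgroup.map (QuotientGroup.mk' N) ⁅(Q : Subgroup H), (Q : Subgroup H)⁆ := by
    rw [commutator_def, Subgroup.map_commutator, Subgroup.map_commutator, hmap]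
  have h5 : (QuotientGroup.mk' N) x ∈
      Subgroup.map (QuotientGroup.mk' N) ⁅(Q : Subgroup H), (Q : Subgroup H)⁆ := by
    rw [← h4]; exact Subgroup.mem_map_of_mem _ hx
  obtain ⟨t, ht, hte⟩ := h5
  have h6 : t⁻¹ * x ∈ N := by
    have h := hte
    rw [QuotientGroup.mk'_apply, QuotientGroup.mk'_apply, QuotientGroup.eq] at h
    exact h
  have htQ : t ∈ (Q : Subgroup H) := Subgroup.commutator_le_self _ ht
  have h7 : t⁻¹ * x ∈ N ⊓ (Q : Subgroup H) :=
    ⟨h6, Subgroup.mul_mem _ (Subgroup.inv_mem _ htQ) hxQ⟩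
  rw [hdisj, Subgroup.mem_bot] at h7
  have h8 : t = x := inv_mul_eq_one.mp h7
  rw [← h8]; exact ht

variable {G : Type u} [Group G] [Finite G]

/-- a normal subgroup of index at most `p` in a `p`-group contains the derived subgroup -/
theorem commutator_le_of_card_le {p : ℕ} [hp : Fact p.Prime] {T K : Subgroup G}
    (hT : IsPGroup p T) (hKT : K ≤ T) (hTK : T ≤ Subgroup.normalizer (K : Set G))
    (hcard : Nat.card T ≤ p * Nat.card K) : ⁅T, T⁆ ≤ K := by
  classical
  haveI hn : (K.subgroupOf T).Normal :=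
    (Subgroup.normal_subgroupOf_iff_le_normalizer hKT).mpr hTK
  have hidx : (K.subgroupOf T).index * Nat.card K = Nat.card T := by
    have := Subgroup.index_mul_card (K.subgroupOf T)
    rwa [card_subgroupOf_of_le hKT] at this
  have hKpos : 0 < Nat.card K := Nat.card_pos
  have hle : (K.subgroupOf T).index ≤ p := by
    have h1 : (K.subgroupOf T).index * Nat.card K ≤ p * Nat.card K := by rw [hidx]; exact hcard
    exact Nat.le_of_mul_le_mul_right h1 hKpos
  have hcomm : IsMulCommutative (↥T ⧸ K.subgroupOf T) := by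
    obtain ⟨n, hn'⟩ := (hT.to_quotient (K.subgroupOf T)).exists_card_eq
    have hq : Nat.card (↥T ⧸ K.subgroupOf T) = (K.subgroupOf T).index :=
      (Subgroup.index_eq_card _).symm
    rcases Nat.lt_or_ge n 2 with hn2 | hn2
    · interval_cases n
      · have : Subsingleton (↥T ⧸ K.subgroupOf T) :=
          Finite.card_le_one_iff_subsingleton.mp (by rw [hn']; simp)
        exact ⟨⟨fun a b => Subsingleton.elim _ _⟩⟩
      · have hcyc : IsCyclic (↥T ⧸ K.subgroupOf T) :=
          isCyclic_of_prime_card (p := p) (by rw [hn']; simp)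
        exact ⟨⟨IsCyclic.commGroup.mul_comm⟩⟩
    · exfalso
      have h2 : p ^ 2 ≤ p ^ n := Nat.pow_le_pow_right hp.out.pos hn2
      have h3 : p ^ n ≤ p := by rw [← hn', hq]; exact hle
      have hp2 := hp.out.two_le
      nlinarith
  have h := Subgroup.Normal.quotient_commutative_iff_commutator_le.mp hcomm
  rw [← Subgroup.map_subtype_commutator]
  rintro _ ⟨y, hy, rfl⟩
  exact Subgroup.mem_subgroupOf.mp (h hy)

/-- rank `≤ 2` nonabelian Sylow subgroups: the derived subgroup lies in a central subgroup of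
order `p` (from S1412) -/
theorem derived_le_of_rank_two (hG : IsMinSimpleOddOrder G) {p : ℕ} [hp : Fact p.Prime]
    (R : Sylow p G) (hr : PRankLE p 2 ↥(R : Subgroup G))
    (hna : ¬ IsMulCommutative ↥(R : Subgroup G)) :
    ∃ Z₀ : Subgroup G, Nat.card Z₀ = p ∧
      (R : Subgroup G) ≤ Subgroup.centralizer (Z₀ : Set G) ∧
      ⁅(R : Subgroup G), (R : Subgroup G)⁆ ≤ Z₀ := by
  classical
  rcases Cfsg.Agent.S1412.result hG p R hr with hab | ⟨P₁, P₂, hsup, hcomm, hna₁, hcard, hexp, hcyc, hcl⟩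
  · exact absurd hab hna
  obtain ⟨Z₀, hZ₀⟩ : ∃ Z₀ : Subgroup G, Z₀ = P₁ ⊓ Subgroup.centralizer (P₁ : Set G) := ⟨_, rfl⟩
  have hnc' : ¬ ∀ a b : ↥P₁, a * b = b * a := fun h => hna₁ (isMulCommutative_iff.mpr h)
  have hZc := BK.card_center_of_card_cube hcard hnc'
  have hcardZ : Nat.card ↥Z₀ = p := by
    have e : Z₀.subgroupOf P₁ = Subgroup.center ↥P₁ := by
      ext z
      rw [hZ₀, Subgroup.mem_subgroupOf, Subgroup.mem_inf, Subgroup.mem_center_iff,
        Subgroup.mem_centralizer_iff]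
      constructor
      · rintro ⟨_, h⟩ g
        apply Subtype.ext
        simpa using h g g.2
      · intro h
        refine ⟨z.2, fun c hc' => ?_⟩
        simpa using congrArg Subtype.val (h ⟨c, hc'⟩)
    have hle : Z₀ ≤ P₁ := by rw [hZ₀]; exact inf_le_left
    rw [← hZc, ← e]
    exact (Nat.card_congr (Subgroup.subgroupOfEquivOfLe hle).toEquiv).symm
  have hZP₂ : Z₀ ≤ P₂ := by
    rw [hZ₀, ← hcl, Subgroup.closure_le]
    intro x hx
    exact hx.1
  have hP₂c : ∀ a ∈ P₂, ∀ b ∈ P₂, a * b = b * a := by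
    intro a ha b hb
    haveI := hcyc
    have h1 := isMulCommutative_iff.mp (IsCyclic.isMulCommutative (α := ↥P₂)) ⟨a, ha⟩ ⟨b, hb⟩
    exact congrArg Subtype.val h1
  have hderiv := MS.commutator_eq_center_of_card_cube P₁ hcard hna₁
  -- `P₂` is central in `R`
  have hP₂cen : ∀ b ∈ P₂, ∀ g ∈ (R : Subgroup G), b * g = g * b := by
    intro b hb g hg
    have h1 : P₁ ⊔ P₂ ≤ Subgroup.centralizer ({b} : Set G) := by
      apply sup_le
      · intro a ha
        rw [Subgroup.mem_centralizer_singleton_iff]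
        exact hcomm a ha b hb
      · intro a ha
        rw [Subgroup.mem_centralizer_singleton_iff]
        exact hP₂c a ha b hb
    rw [hsup] at h1
    have h2 := Subgroup.mem_centralizer_singleton_iff.mp (h1 hg)
    exact h2.symm
  have hdecomp : ∀ g ∈ (R : Subgroup G), ∃ a ∈ P₁, ∃ b ∈ P₂, a * b = g := by
    intro g hg
    have hP₂N : P₂ ≤ Subgroup.normalizer (P₁ : Set G) := by
      intro b hb
      rw [Subgroup.mem_normalizer_iff]
      intro a
      have key : ∀ a ∈ P₁, b * a * b⁻¹ = a := by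
        intro a ha
        rw [← hcomm a ha b hb]; group
      constructor
      · intro ha
        rw [key a ha]; exact ha
      · intro ha
        have h1 := key _ ha
        have h2 : a = b⁻¹ * (b * a * b⁻¹) * b := by group
        have h3 : b * (b * a * b⁻¹) * b⁻¹ = b * a * b⁻¹ := h1
        have h4 : b * a * b⁻¹ = a := by
          have := congrArg (fun y => b⁻¹ * y * b) h3
          have e1 : b⁻¹ * (b * (b * a * b⁻¹) * b⁻¹) * b = b * a * b⁻¹ := by group
          have e2 : b⁻¹ * (b * a * b⁻¹) * b = a := by group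
          rw [e1, e2] at this
          exact this
        rw [← h4]; exact ha
    have h1 := Subgroup.coe_mul_of_right_le_normalizer_left P₁ P₂ hP₂N
    have h2 : g ∈ ((P₁ ⊔ P₂ : Subgroup G) : Set G) := by rw [hsup]; exact hg
    rw [h1] at h2
    obtain ⟨a, ha, b, hb, hab⟩ := Set.mem_mul.mp h2
    exact ⟨a, ha, b, hb, hab⟩
  refine ⟨Z₀, hcardZ, ?_, ?_⟩
  · rw [← hsup]
    apply sup_le
    · intro a ha
      rw [Subgroup.mem_centralizer_iff]
      intro z hz
      rw [hZ₀] at hz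
      have h1 := Subgroup.mem_centralizer_iff.mp (Subgroup.mem_inf.mp hz).2 a ha
      exact h1.symm
    · intro b hb
      rw [Subgroup.mem_centralizer_iff]
      intro z hz
      exact hP₂c z (hZP₂ hz) b hb
  · rw [Subgroup.commutator_le]
    intro g₁ hg₁ g₂ hg₂
    obtain ⟨a₁, ha₁, b₁, hb₁, rfl⟩ := hdecomp g₁ hg₁
    obtain ⟨a₂, ha₂, b₂, hb₂, hg₂e⟩ := hdecomp g₂ hg₂
    have hP₁R : P₁ ≤ (R : Subgroup G) := by rw [← hsup]; exact le_sup_left
    have e1 : b₁ * g₂ * b₁⁻¹ = g₂ := by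
      rw [hP₂cen b₁ hb₁ g₂ hg₂]; group
    have e2 : b₂ * a₁⁻¹ * b₂⁻¹ = a₁⁻¹ := by
      rw [hP₂cen b₂ hb₂ a₁⁻¹ (Subgroup.inv_mem _ (hP₁R ha₁))]; group
    have e3 : ⁅a₁ * b₁, g₂⁆ = ⁅a₁, a₂⁆ := by
      rw [commutatorElement_def, commutatorElement_def]
      calc a₁ * b₁ * g₂ * (a₁ * b₁)⁻¹ * g₂⁻¹
          = a₁ * (b₁ * g₂ * b₁⁻¹) * a₁⁻¹ * g₂⁻¹ := by group
        _ = a₁ * g₂ * a₁⁻¹ * g₂⁻¹ := by rw [e1]
        _ = a₁ * (a₂ * b₂) * a₁⁻¹ * (a₂ * b₂)⁻¹ := by rw [hg₂e]
        _ = a₁ * a₂ * (b₂ * a₁⁻¹ * b₂⁻¹) * a₂⁻¹ := by group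
        _ = a₁ * a₂ * a₁⁻¹ * a₂⁻¹ := by rw [e2]
    rw [e3]
    have h1 : ⁅a₁, a₂⁆ ∈ ⁅P₁, P₁⁆ := Subgroup.commutator_mem_commutator ha₁ ha₂
    rw [hderiv, ← hZ₀] at h1
    exact h1

/-- rank `≥ 3`: an elementary abelian subgroup of order `≥ p^3` centralizing a subgroup of order
`p` of the derived subgroup -/
theorem exists_cube_centralizer {p : ℕ} [hp : Fact p.Prime] (hp2 : p ≠ 2) {T X : Subgroup G}
    (hT : IsPGroup p T) (hr : ¬ PRankLE p 2 ↥T) (hXT : X ≤ ⁅T, T⁆) (hX : Nat.card X = p) :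
    ∃ B : Subgroup G, B ≤ T ∧ IsElementaryAbelian p B ∧ p ^ (2 + 1) ≤ Nat.card B ∧
      B ≤ Subgroup.centralizer (X : Set G) := by
  classical
  have hpp := hp.out
  have hX1 : X ≠ ⊥ := by
    intro hb; rw [hb, Subgroup.card_bot] at hX; exact hpp.one_lt.ne hX
  have hnc : ¬ IsCyclic ↥T := by
    intro hc
    haveI := hc
    have hcm : ∀ a b : ↥T, a * b = b * a :=
      isMulCommutative_iff.mp (IsCyclic.isMulCommutative (α := ↥T))
    have h1 : ⁅T, T⁆ = ⊥ := by
      rw [Subgroup.commutator_eq_bot_iff_le_centralizer]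
      intro a ha
      rw [Subgroup.mem_centralizer_iff]
      intro b hb
      exact congrArg Subtype.val (hcm ⟨b, hb⟩ ⟨a, ha⟩)
    rw [h1] at hXT
    exact hX1 (le_bot_iff.mp hXT)
  obtain ⟨V, hVT, hTV, hVe, hV2⟩ := BG9.exists_normal_elementary_sq hp2 hT hnc
  have hTN : T ≤ Subgroup.normalizer ((T ⊓ Subgroup.centralizer (V : Set G) : Subgroup G) : Set G) :=
    le_normalizer_inf Subgroup.le_normalizer
      (hTV.trans (BG7.normalizer_le_normalizer_centralizer_self V))
  have hK : ⁅T, T⁆ ≤ T ⊓ Subgroup.centralizer (V : Set G) :=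
    commutator_le_of_card_le hT inf_le_left hTN
      (BG9.card_le_mul_card_inf_centralizer hT hVT hTV hVe hV2 le_rfl)
  obtain ⟨E, hET, hEe, hE3⟩ := BG9.exists_elementary_of_not_pRankLE hpp hr
  have hXV : X ≤ Subgroup.centralizer (V : Set G) := fun x hx => (hK (hXT hx)).2
  have hXleT : X ≤ T := hXT.trans (Subgroup.commutator_le_self T)
  have key : ∃ u ∈ T, u ∈ Subgroup.centralizer (V : Set G) ∧ u ^ p = 1 ∧ u ∉ V ∧
      X ≤ V ⊔ Subgroup.zpowers u := by
    by_cases hXleV : X ≤ V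
    · have hc := BG9.card_le_mul_card_inf_centralizer hT hVT hTV hVe hV2 hET
      by_contra hcon
      push Not at hcon
      have hle : E ⊓ Subgroup.centralizer (V : Set G) ≤ V := by
        intro e he
        by_contra heV
        exact hcon e (hET he.1) he.2 (hEe.2 e he.1) heV (hXleV.trans le_sup_left)
      have h2 : p ^ 2 ≤ Nat.card ↥(E ⊓ Subgroup.centralizer (V : Set G) : Subgroup G) :=
        BG9.sq_le_card_of_cube_le hpp hE3 hc
      have heq : E ⊓ Subgroup.centralizer (V : Set G) = V :=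
        Subgroup.eq_of_le_of_card_ge hle (by rw [hV2]; exact h2)
      have hVE : V ≤ E := heq ▸ inf_le_left
      have hEC : E ≤ Subgroup.centralizer (V : Set G) := by
        intro e he
        rw [Subgroup.mem_centralizer_iff]
        intro v hv
        exact isElementaryAbelian_comm hEe (hVE hv) he
      have hEV : E ≤ V := by rw [← heq]; exact le_inf le_rfl hEC
      have h3 := Subgroup.card_le_of_le hEV
      rw [hV2] at h3
      have h4 : p ^ 2 < p ^ (2 + 1) := Nat.pow_lt_pow_right hpp.one_lt (by omega)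
      omega
    · obtain ⟨x, hx, hxV⟩ := SetLike.not_le_iff_exists.mp hXleV
      have hx1 : x ≠ 1 := fun h => hxV (h ▸ V.one_mem)
      have hzx : Subgroup.zpowers x = X := BK.zpowers_eq_of_card_prime hX hx hx1
      refine ⟨x, hXleT hx, hXV hx, ?_, hxV, ?_⟩
      · have h1 : (⟨x, hx⟩ : ↥X) ^ Nat.card ↥X = 1 := pow_card_eq_one'
        rw [hX] at h1
        have h2 := congrArg Subtype.val h1
        simpa using h2
      · rw [hzx]; exact le_sup_right
  obtain ⟨u, huT, huC, hup, huV, hXB⟩ := key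
  obtain ⟨hBe, hBc⟩ := BT.elementary_sup_zpowers hVe huC hup huV
  refine ⟨V ⊔ Subgroup.zpowers u, sup_le hVT (Subgroup.zpowers_le.mpr huT), hBe, ?_, ?_⟩
  · rw [hBc, hV2]; exact le_of_eq (by ring)
  · intro b hb
    rw [Subgroup.mem_centralizer_iff]
    intro x hx
    exact isElementaryAbelian_comm hBe (hXB hx) hb

/-- **B&G Lemma 12.13** (S1423) modulo S1416, S1417. -/
theorem s1423_of (hG : IsMinSimpleOddOrder G) (h1416 : Row1416 G) (h1417 : Row1417 G)
    (M : Subgroup G) (hM : IsCoatom M) (p : ℕ) [hp : Fact p.Prime] (hpσ : p ∈ sigma M)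
    (X : Subgroup G) (hXM : X ≤ M) (hX : Nat.card X = p)
    (P : Sylow p ↥(sigmaCore M)) (h : p ∈ beta M ∨ X ≤ ⁅sigmaCore M, sigmaCore M⁆) :
    (Subgroup.centralizer (X : Set G) ≤ M ∧
      ∀ L : Subgroup G, IsCoatom L → Subgroup.centralizer (X : Set G) ≤ L → L = M) ∧
    InUniqueMaximal ((P : Subgroup ↥(sigmaCore M)).map (sigmaCore M).subtype) ∧
      (P : Subgroup ↥(sigmaCore M)).map (sigmaCore M).subtype ≤ M := by
  classical
  have hpp := hp.out
  obtain ⟨P', hP'def⟩ : ∃ P' : Subgroup G,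
      P' = (P : Subgroup ↥(sigmaCore M)).map (sigmaCore M).subtype := ⟨_, rfl⟩
  rw [← hP'def]
  have hSgM : sigmaCore M ≤ M := Subgroup.map_subtype_le _
  have hP'Sg : BG8.IsMaxP p P' (sigmaCore M) := hP'def ▸ BG8.isMaxP_of_sylow P
  have hP'M : BG8.IsMaxP p P' M :=
    ⟨hP'Sg.1.trans hSgM, hP'Sg.2.1, fun T hT hle hTM =>
      hP'Sg.2.2 T hT hle (pgroup_le_sigmaCore hG hM hpσ hT hTM)⟩
  obtain ⟨-, hP'top, hNP'⟩ := BT.sigma_sylow_le_commutator hG hM hpσ hP'M
  have hXp : IsPGroup p X := IsPGroup.of_card (n := 1) (by rw [hX, pow_one])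
  have hX1 : X ≠ ⊥ := by
    intro hb; rw [hb, Subgroup.card_bot] at hX; exact hpp.one_lt.ne hX
  have hXtop : X ≠ ⊤ := BG7.pgroup_ne_top hG hXp
  have hpM : p ∣ Nat.card M := hpσ.2.1
  have hp2 : p ≠ 2 := BG9.odd_prime_of_dvd hG (hpM.trans (Subgroup.card_subgroup_dvd_card M))
  obtain ⟨m, hm, hXT⟩ := BT.exists_cj_ge hP'M hXp hXM
  obtain ⟨T, hTdef⟩ : ∃ T, T = BG7.cj m P' := ⟨_, rfl⟩
  rw [← hTdef] at hXT
  have hTM : BG8.IsMaxP p T M := hTdef ▸ BT.isMaxP_cj_of_mem hP'M hm
  obtain ⟨-, hTtop, hNT⟩ := BT.sigma_sylow_le_commutator hG hM hpσ hTM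
  have hTSg : T ≤ sigmaCore M := pgroup_le_sigmaCore hG hM hpσ hTM.2.1 hTM.1
  have hT1 : T ≠ ⊥ := fun hb => hX1 (le_bot_iff.mp (hb ▸ hXT))
  have hCtop : Subgroup.centralizer (X : Set G) ≠ ⊤ := by
    intro hc
    apply BG7.normalizer_ne_top hG hX1 hXtop
    exact top_le_iff.mp (hc ▸ Subgroup.centralizer_le_normalizer (X : Set G))
  have finish3 : ∀ B : Subgroup G, B ≤ T → ¬ PRankLE p 2 ↥B →
      B ≤ Subgroup.centralizer (X : Set G) →
      (Subgroup.centralizer (X : Set G) ≤ M ∧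
        ∀ L : Subgroup G, IsCoatom L → Subgroup.centralizer (X : Set G) ≤ L → L = M) := by
    intro B hBT hBr hBC
    refine ⟨BT.le_of_rank_three hG hpp hM (hBT.trans hTM.1) hBr hBC hCtop, fun L hL hCL => ?_⟩
    have h1 := BT.le_of_rank_three hG hpp hM (hBT.trans hTM.1) hBr (hBC.trans hCL) hL.1
    exact (BG8.eq_of_coatom_le hL h1 hM.1).symm
  by_cases hβ : p ∈ beta M
  · obtain ⟨hα, hideal⟩ := hβ
    have hrM : ¬ PRankLE p 2 ↥M := hα.2
    obtain ⟨E, hEM, hEe, hE3⟩ := BG9.exists_elementary_of_not_pRankLE hpp hrM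
    have hEp := BG9.isPGroup_of_isElementaryAbelian hEe
    obtain ⟨m₁, hm₁, hEm₁⟩ := BT.exists_cj_ge hTM hEp hEM
    have hE'T : BG7.cj m₁⁻¹ E ≤ T := by
      have := BG7.cj_mono (k := m₁⁻¹) hEm₁; rwa [BG7.cj_inv_cj] at this
    have hE'e := BG9.isElementaryAbelian_cj m₁⁻¹ hEe
    have hE'3 : p ^ (2 + 1) ≤ Nat.card ↥(BG7.cj m₁⁻¹ E) := by rw [BG7.card_cj]; exact hE3
    obtain ⟨m₂, hm₂, hEm₂⟩ := BT.exists_cj_ge hP'M hEp hEM
    have hE''P : BG7.cj m₂⁻¹ E ≤ P' := by
      have := BG7.cj_mono (k := m₂⁻¹) hEm₂; rwa [BG7.cj_inv_cj] at this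
    have hE''e := BG9.isElementaryAbelian_cj m₂⁻¹ hEe
    have hE''3 : p ^ (2 + 1) ≤ Nat.card ↥(BG7.cj m₂⁻¹ E) := by rw [BG7.card_cj]; exact hE3
    have hrP' : ¬ PRankLE p 2 ↥P' := BG9.not_pRankLE_of_elementary hpp hE''P hE''e hE''3
    refine ⟨?_, ?_, hP'M.1⟩
    · obtain ⟨R, hR⟩ := hTtop.exists_sylow_top
      have hXe : IsElementaryAbelian p X := by
        haveI : IsCyclic ↥X := isCyclic_of_prime_card (p := p) hX
        refine ⟨IsCyclic.isMulCommutative, fun a ha => ?_⟩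
        have h1 : (⟨a, ha⟩ : ↥X) ^ Nat.card ↥X = 1 := pow_card_eq_one'
        rw [hX] at h1
        have h2 := congrArg Subtype.val h1
        simpa using h2
      have key : ∃ u ∈ T, u ∈ Subgroup.centralizer (X : Set G) ∧ u ^ p = 1 ∧ u ∉ X := by
        by_cases hZ : BT.omegaZ p T ≤ X
        · have hZ1 := BT.omegaZ_ne_bot hTM.2.1 hT1
          have hZeq : BT.omegaZ p T = X := by
            apply Subgroup.eq_of_le_of_card_ge hZ
            rw [hX]
            have hd := Subgroup.card_dvd_of_le hZ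
            rw [hX] at hd
            rcases (Nat.dvd_prime hpp).mp hd with h1 | h1
            · exact absurd (Subgroup.eq_bot_of_card_eq _ h1) hZ1
            · exact h1.ge
          have hXc : T ≤ Subgroup.centralizer (X : Set G) := by
            intro t ht
            rw [Subgroup.mem_centralizer_iff]
            intro x hx
            have hx' : x ∈ BT.omegaZ p T := hZeq ▸ hx
            have h1 := Subgroup.mem_centralizer_iff.mp hx'.2.1 t ht
            exact h1.symm
          have hnle : ¬ BG7.cj m₁⁻¹ E ≤ X := by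
            intro hle
            have h3 := Subgroup.card_le_of_le hle
            rw [hX] at h3
            have h4 : p ^ 1 < p ^ (2 + 1) := Nat.pow_lt_pow_right hpp.one_lt (by omega)
            rw [pow_one] at h4
            omega
          obtain ⟨u, hu, huX⟩ := SetLike.not_le_iff_exists.mp hnle
          exact ⟨u, hE'T hu, hXc (hE'T hu), hE'e.2 u hu, huX⟩
        · obtain ⟨u, hu, huX⟩ := SetLike.not_le_iff_exists.mp hZ
          exact ⟨u, hu.1, Subgroup.centralizer_le (by exact_mod_cast hXT) hu.2.1, hu.2.2, huX⟩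
      obtain ⟨u, huT, huC, hup, huX⟩ := key
      obtain ⟨hAe, hAc⟩ := BT.elementary_sup_zpowers hXe huC hup huX
      have hAR : X ⊔ Subgroup.zpowers u ≤ (R : Subgroup G) := by
        rw [hR]; exact sup_le hXT (Subgroup.zpowers_le.mpr huT)
      obtain ⟨B, hBR, hBe, hAB⟩ := hideal.2.2 R (X ⊔ Subgroup.zpowers u) hAR hAe
        (by rw [hAc, hX]; ring)
      have hB3 : p ^ (2 + 1) ≤ Nat.card ↥B := by
        have hlt : Nat.card ↥(X ⊔ Subgroup.zpowers u : Subgroup G) < Nat.card ↥B := by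
          by_contra hcon
          push Not at hcon
          exact hAB.ne (Subgroup.eq_of_le_of_card_ge hAB.le hcon)
        rw [hAc, hX] at hlt
        obtain ⟨n, hn⟩ := (BG9.isPGroup_of_isElementaryAbelian hBe).exists_card_eq
        rw [hn] at hlt ⊢
        have h5 : p ^ 2 < p ^ n := by
          calc p ^ 2 = p * p := by ring
            _ < p ^ n := hlt
        have h6 : 2 < n := (Nat.pow_lt_pow_iff_right hpp.one_lt).mp h5
        exact Nat.pow_le_pow_right hpp.pos (by omega)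
      have hBr : ¬ PRankLE p 2 ↥B := BG9.not_pRankLE_of_elementary hpp le_rfl hBe hB3
      apply finish3 B (hR ▸ hBR) hBr
      intro b hb
      rw [Subgroup.mem_centralizer_iff]
      intro x hx
      exact isElementaryAbelian_comm hBe (hAB.le (le_sup_left (a := X) hx)) hb
    · refine ⟨M, ⟨hM, hP'M.1⟩, ?_⟩
      rintro L ⟨hL, hPL⟩
      have h1 := BT.le_of_rank_three hG hpp hM hP'M.1 hrP' hPL hL.1
      exact (BG8.eq_of_coatom_le hL h1 hM.1).symm
  · have hXSg' : X ≤ ⁅sigmaCore M, sigmaCore M⁆ := h.resolve_left hβ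
    obtain ⟨-, -, -, -, h14⟩ := Cfsg.Agent.S1414.result hG M hM
    obtain ⟨-, hnpc, -⟩ := h14 p hpp hpM hβ
    obtain ⟨Q, hQ⟩ := (hTtop.mono hTSg le_top).exists_sylow
    have hXT' : X ≤ ⁅T, T⁆ := by
      intro x hx
      have hxSg' := hXSg' hx
      rw [← Subgroup.map_subtype_commutator] at hxSg'
      obtain ⟨y, hy, hyx⟩ := hxSg'
      have hyQ : y ∈ (Q : Subgroup ↥(sigmaCore M)) := by
        have hxT := hXT hx
        rw [← hQ] at hxT
        obtain ⟨q, hq, hqx⟩ := hxT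
        have hqy : q = y := Subgroup.subtype_injective _ (hqx.trans hyx.symm)
        exact hqy ▸ hq
      have h1 := mem_commutator_sylow_of_npc hnpc Q hyQ hy
      have h2 : (sigmaCore M).subtype y ∈ Subgroup.map (sigmaCore M).subtype
          ⁅(Q : Subgroup ↥(sigmaCore M)), (Q : Subgroup ↥(sigmaCore M))⁆ :=
        Subgroup.mem_map_of_mem _ h1
      rw [Subgroup.map_commutator, hQ, hyx] at h2
      exact h2
    have hTna : ¬ IsMulCommutative ↥T := by
      intro hc
      have h1 : ⁅T, T⁆ = ⊥ := by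
        rw [Subgroup.commutator_eq_bot_iff_le_centralizer]
        intro a ha
        rw [Subgroup.mem_centralizer_iff]
        intro b hb
        exact congrArg Subtype.val (isMulCommutative_iff.mp hc ⟨b, hb⟩ ⟨a, ha⟩)
      rw [h1] at hXT'
      exact hX1 (le_bot_iff.mp hXT')
    have hP'na : ¬ IsMulCommutative ↥P' := by
      intro hc
      apply hTna
      rw [isMulCommutative_iff] at hc ⊢
      rintro ⟨a, ha⟩ ⟨b, hb⟩
      rw [hTdef, BG7.mem_cj] at ha hb
      have h3 : m⁻¹ * a * m * (m⁻¹ * b * m) = m⁻¹ * b * m * (m⁻¹ * a * m) :=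
        congrArg Subtype.val (hc ⟨_, ha⟩ ⟨_, hb⟩)
      have h4 : a * b = m * (m⁻¹ * a * m * (m⁻¹ * b * m)) * m⁻¹ := by group
      have h5 : b * a = m * (m⁻¹ * b * m * (m⁻¹ * a * m)) * m⁻¹ := by group
      apply Subtype.ext
      show a * b = b * a
      rw [h4, h5, h3]
    have hU := s1422_of hG h1416 h1417 p P' hP'Sg.2.1 hP'na
    refine ⟨?_, hU, hP'M.1⟩
    by_cases hr : PRankLE p 2 ↥T
    · obtain ⟨R, hR⟩ := hTtop.exists_sylow_top
      obtain ⟨Z₀, hZ₀c, hZ₀cent, hZ₀d⟩ := derived_le_of_rank_two hG R (by rw [hR]; exact hr)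
        (by rw [hR]; exact hTna)
      rw [hR] at hZ₀cent hZ₀d
      have hXZ : X = Z₀ := Subgroup.eq_of_le_of_card_ge (hXT'.trans hZ₀d) (by rw [hX, hZ₀c])
      have hTC : T ≤ Subgroup.centralizer (X : Set G) := hXZ ▸ hZ₀cent
      have huniq : ∀ L : Subgroup G, IsCoatom L → Subgroup.centralizer (X : Set G) ≤ L → L = M :=
        fun L hL hCL =>
          unique_of_sylow_nonabelian hG h1416 h1417 hTtop hTna hM hL hTM.1 (hTC.trans hCL)
      refine ⟨?_, huniq⟩
      obtain ⟨L, hL, hCL⟩ :=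
        (eq_top_or_exists_le_coatom (Subgroup.centralizer (X : Set G))).resolve_left hCtop
      rw [← huniq L hL hCL]; exact hCL
    · obtain ⟨B, hBT, hBe, hB3, hBC⟩ := exists_cube_centralizer hp2 hTM.2.1 hr hXT' hX
      exact finish3 B hBT (BG9.not_pRankLE_of_elementary hpp le_rfl hBe hB3) hBC

end Cfsg.Agent.Lib.Helper2.BGH
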