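import Mathlib
import Cfsg.Agent.Lib.Helper2.BGH5
import Cfsg.Agent.Lib.Helper1.CoprimeAbelian

set_option autoImplicit false
set_option maxHeartbeats 4000000
set_option linter.unusedVariables false
set_option linter.unusedSectionVars false
set_option linter.style.longLine false
set_option linter.unusedSimpArgs false
set_option linter.style.haveILetI false
set_option linter.deprecated false

/-!
# B&G Lemma 12.17 (a)-(c) (S1426)
-/

open scoped commutatorElement Pointwise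
universe u
namespace Cfsg.Agent.Lib.Helper2.BGH

open Cfsg Cfsg.Agent.Lib.Helper1 Cfsg.Agent.Lib.Helper7 Cfsg.Agent.Lib.Helper7.BGRows

variable {G : Type u} [Group G] [Finite G]

/-- `M = Σ ⋊ E` solvable with `Σ ≤ M'`: then `[Σ, E] = Σ`. -/
theorem comm_eq_of_le_commutator {Sg E M : Subgroup G} (hE : IsComplIn E Sg M)
    (hN : M ≤ Subgroup.normalizer (Sg : Set G)) (hsolv : Group.IsSolvable ↥M)
    (hle : Sg ≤ ⁅M, M⁆) : ⁅Sg, E⁆ = Sg := by
  classical
  obtain ⟨hEM, hSM, hdisj, hprod⟩ := hE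
  obtain ⟨K, hKdef⟩ : ∃ K : Subgroup G, K = ⁅Sg, E⁆ := ⟨_, rfl⟩
  rw [← hKdef]
  have hKS : K ≤ Sg := by
    rw [hKdef]; exact Subgroup.le_normalizer_iff_commutator_le_left.mp (hEM.trans hN)
  have hSK : Sg ≤ Subgroup.normalizer (K : Set G) := by
    rw [hKdef]; exact Subgroup.normalizer_commutator_ge_left Sg E
  have hEK : E ≤ Subgroup.normalizer (K : Set G) := by
    rw [hKdef]; exact Subgroup.normalizer_commutator_ge_right Sg E
  obtain ⟨L, hLdef⟩ : ∃ L : Subgroup G, L = K ⊔ E := ⟨_, rfl⟩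
  have hLM : L ≤ M := by rw [hLdef]; exact sup_le (hKS.trans hSM) hEM
  have hEL' : E ≤ L := by rw [hLdef]; exact le_sup_right
  have hSL : Sg ≤ Subgroup.normalizer (L : Set G) := by
    apply le_normalizer_of_conj_mem
    intro t ht x hx
    have h1 : L.map (MulAut.conj t).toMonoidHom ≤ L := by
      rw [hLdef, Subgroup.map_sup]
      apply sup_le
      · rintro _ ⟨n, hn, rfl⟩
        show t * n * t⁻¹ ∈ K ⊔ E
        exact (le_sup_left : K ≤ K ⊔ E) ((Subgroup.mem_normalizer_iff.mp (hSK ht) n).mp hn)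
      · rintro _ ⟨a, ha, rfl⟩
        show t * a * t⁻¹ ∈ K ⊔ E
        have e : t * a * t⁻¹ = ⁅t, a⁆ * a := by rw [commutatorElement_def]; group
        rw [e]
        refine Subgroup.mul_mem_sup ?_ ha
        rw [hKdef]; exact Subgroup.commutator_mem_commutator ht ha
    exact h1 ⟨x, hx, rfl⟩
  have hEL : E ≤ Subgroup.normalizer (L : Set G) := hEL'.trans Subgroup.le_normalizer
  have hML : M ≤ Subgroup.normalizer (L : Set G) := by
    intro m hm
    obtain ⟨a, ha, b, hb, rfl⟩ := hprod m hm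
    exact Subgroup.mul_mem _ (hEL ha) (hSL hb)
  haveI hn : (L.subgroupOf M).Normal :=
    (Subgroup.normal_subgroupOf_iff_le_normalizer hLM).mpr hML
  have hsurj := QuotientGroup.mk'_surjective (L.subgroupOf M)
  have hperf : commutator (↥M ⧸ L.subgroupOf M) = ⊤ := by
    have h1 : (commutator ↥M).map (QuotientGroup.mk' (L.subgroupOf M)) =
        commutator (↥M ⧸ L.subgroupOf M) := by
      rw [map_commutator_eq, commutator_def, MonoidHom.range_eq_top.mpr hsurj]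
    rw [← h1, eq_top_iff]
    rintro q -
    obtain ⟨m, rfl⟩ := hsurj q
    obtain ⟨a, ha, b, hb, hab⟩ := hprod m.1 m.2
    have hbM : b ∈ M := hSM hb
    have hbc : (⟨b, hbM⟩ : ↥M) ∈ commutator ↥M := by
      have h2 := hle hb
      rw [← Subgroup.map_subtype_commutator] at h2
      obtain ⟨y, hy, hyb⟩ := h2
      have h3 : y = ⟨b, hbM⟩ := Subtype.ext hyb
      rw [← h3]; exact hy
    refine ⟨⟨b, hbM⟩, hbc, ?_⟩
    have hm : m = (⟨a, hEM ha⟩ : ↥M) * ⟨b, hbM⟩ := Subtype.ext hab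
    have ha1 : (QuotientGroup.mk' (L.subgroupOf M)) (⟨a, hEM ha⟩ : ↥M) = 1 := by
      rw [QuotientGroup.mk'_apply, QuotientGroup.eq_one_iff]
      exact Subgroup.mem_subgroupOf.mpr (hEL' ha)
    rw [hm, map_mul, ha1, one_mul]
  haveI : Group.IsSolvable (↥M ⧸ L.subgroupOf M) := Group.isSolvable_of_surjective hsurj
  have hsub : Subsingleton (↥M ⧸ L.subgroupOf M) := by
    by_contra hns
    rw [not_subsingleton_iff_nontrivial] at hns
    haveI := hns
    exact (Group.IsSolvable.commutator_lt_top_of_nontrivial (↥M ⧸ L.subgroupOf M)).ne hperf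
  have hMleL : M ≤ L := by
    intro m hm
    have h1 : (QuotientGroup.mk' (L.subgroupOf M)) ⟨m, hm⟩ = 1 := Subsingleton.elim _ _
    rw [QuotientGroup.mk'_apply, QuotientGroup.eq_one_iff] at h1
    exact Subgroup.mem_subgroupOf.mp h1
  apply le_antisymm hKS
  intro s hs
  have hsL : s ∈ K ⊔ E := by rw [← hLdef]; exact hMleL (hSM hs)
  have h1 := Subgroup.coe_mul_of_right_le_normalizer_left K E hEK
  have h2 : s ∈ ((K ⊔ E : Subgroup G) : Set G) := hsL
  rw [h1] at h2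
  obtain ⟨k, hk, e, he, hke⟩ := Set.mem_mul.mp h2
  have he1 : e ∈ E ⊓ Sg := by
    refine ⟨he, ?_⟩
    have h3 : e = k⁻¹ * s := by rw [← hke]; group
    rw [h3]; exact Subgroup.mul_mem _ (Subgroup.inv_mem _ (hKS hk)) hs
  rw [hdisj, Subgroup.mem_bot] at he1
  rw [← hke, he1, mul_one]; exact hk

/-- coprime action with `[Σ, E] = Σ`: `C_Σ(E) ≤ Σ'`. -/
theorem centralizer_le_derived {Sg E M : Subgroup G} (hEM : E ≤ M) (hSM : Sg ≤ M)
    (hN : M ≤ Subgroup.normalizer (Sg : Set G))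
    (hcop : (Nat.card E).Coprime (Nat.card Sg)) (hb : ⁅Sg, E⁆ = Sg) :
    Sg ⊓ Subgroup.centralizer (E : Set G) ≤ ⁅Sg, Sg⁆ := by
  classical
  obtain ⟨D, hDdef⟩ : ∃ D : Subgroup G, D = ⁅Sg, Sg⁆ := ⟨_, rfl⟩
  rw [← hDdef]
  have hDS : D ≤ Sg := by rw [hDdef]; exact Subgroup.commutator_le_self Sg
  have hDM : D ≤ M := hDS.trans hSM
  have hMD : M ≤ Subgroup.normalizer (D : Set G) := by
    apply le_normalizer_of_conj_mem
    intro m hm x hx
    have h1 : BG7.cj m D = D := by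
      rw [hDdef]
      unfold BG7.cj
      rw [Subgroup.map_commutator]
      have h2 : Sg.map (MulAut.conj m).toMonoidHom = Sg := BG7.cj_eq_of_mem_normalizer (hN hm)
      rw [h2]
    rw [← h1]; exact BG7.conj_mem_cj hx
  haveI hn : (D.subgroupOf M).Normal :=
    (Subgroup.normal_subgroupOf_iff_le_normalizer hDM).mpr hMD
  haveI hSn : (Sg.subgroupOf M).Normal :=
    (Subgroup.normal_subgroupOf_iff_le_normalizer hSM).mpr hN
  have hsurj := QuotientGroup.mk'_surjective (D.subgroupOf M)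
  obtain ⟨f, hf⟩ : ∃ f : ↥M →* ↥M ⧸ D.subgroupOf M, f = QuotientGroup.mk' (D.subgroupOf M) :=
    ⟨_, rfl⟩
  have hfsurj : Function.Surjective f := hf ▸ hsurj
  have hker : f.ker = D.subgroupOf M := by rw [hf]; exact QuotientGroup.ker_mk' _
  obtain ⟨V, hVdef⟩ : ∃ V : Subgroup (↥M ⧸ D.subgroupOf M), V = (Sg.subgroupOf M).map f :=
    ⟨_, rfl⟩
  obtain ⟨A, hAdef⟩ : ∃ A : Subgroup (↥M ⧸ D.subgroupOf M), A = (E.subgroupOf M).map f :=
    ⟨_, rfl⟩
  have hVV : ⁅V, V⁆ = ⊥ := by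
    rw [hVdef, ← Subgroup.map_commutator, Subgroup.map_eq_bot_iff, hker, Subgroup.commutator_le]
    intro x hx y hy
    rw [Subgroup.mem_subgroupOf] at hx hy ⊢
    have h1 : ((⁅x, y⁆ : ↥M) : G) = ⁅(x : G), (y : G)⁆ := by
      simp [commutatorElement_def]
    rw [h1, hDdef]
    exact Subgroup.commutator_mem_commutator hx hy
  haveI hVc : IsMulCommutative ↥V := Subgroup.commutator_self_eq_bot_iff.mp hVV
  haveI hVn : V.Normal := by rw [hVdef]; exact Subgroup.Normal.map hSn f hfsurj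
  have hAV : A ≤ Subgroup.normalizer (V : Set (↥M ⧸ D.subgroupOf M)) := by
    rw [Subgroup.normalizer_eq_top]; exact le_top
  have hcop' : (Nat.card ↥A).Coprime (Nat.card ↥V) := by
    have h1 : Nat.card ↥A ∣ Nat.card ↥E := by
      rw [hAdef, ← card_subgroupOf_of_le hEM]; exact Subgroup.card_map_dvd _ _
    have h2 : Nat.card ↥V ∣ Nat.card ↥Sg := by
      rw [hVdef, ← card_subgroupOf_of_le hSM]; exact Subgroup.card_map_dvd _ _
    exact Nat.Coprime.coprime_dvd_left h1 (Nat.Coprime.coprime_dvd_right h2 hcop)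
  have hkey := coprime_abelian_centralizer_inf_commutator A V hAV hcop'
  have hSle : Sg.subgroupOf M ≤ ⁅Sg.subgroupOf M, E.subgroupOf M⁆ := by
    intro x hx
    rw [Subgroup.mem_subgroupOf] at hx
    have h1 : (x : G) ∈ ⁅Sg, E⁆ := by rw [hb]; exact hx
    have h2 : ⁅Sg, E⁆ = (⁅Sg.subgroupOf M, E.subgroupOf M⁆).map M.subtype := by
      rw [Subgroup.map_commutator, Subgroup.map_subgroupOf_eq_of_le hSM,
        Subgroup.map_subgroupOf_eq_of_le hEM]
    rw [h2] at h1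
    obtain ⟨y, hy, hyx⟩ := h1
    have h3 : y = x := Subtype.ext hyx
    rw [← h3]; exact hy
  have hVle : V ≤ ⁅V, A⁆ := by
    rw [hVdef, hAdef, ← Subgroup.map_commutator]
    exact Subgroup.map_mono hSle
  intro c hc
  have hcM : c ∈ M := hSM hc.1
  have h1 : f ⟨c, hcM⟩ ∈ V := by
    rw [hVdef]; exact Subgroup.mem_map_of_mem _ (Subgroup.mem_subgroupOf.mpr hc.1)
  have h2 : f ⟨c, hcM⟩ ∈ Subgroup.centralizer (A : Set (↥M ⧸ D.subgroupOf M)) := by
    rw [Subgroup.mem_centralizer_iff]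
    intro a ha
    rw [hAdef] at ha
    obtain ⟨e, he, rfl⟩ := ha
    have he' : (e : G) ∈ E := Subgroup.mem_subgroupOf.mp he
    have h3 : (e : G) * c = c * (e : G) := Subgroup.mem_centralizer_iff.mp hc.2 _ he'
    have h4 : e * (⟨c, hcM⟩ : ↥M) = ⟨c, hcM⟩ * e := Subtype.ext h3
    rw [← map_mul, ← map_mul, h4]
  have h3 : f ⟨c, hcM⟩ ∈ (V ⊓ Subgroup.centralizer (A : Set (↥M ⧸ D.subgroupOf M))) ⊓ ⁅V, A⁆ :=
    ⟨⟨h1, h2⟩, hVle h1⟩
  rw [hkey, Subgroup.mem_bot] at h3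
  have h4 : (⟨c, hcM⟩ : ↥M) ∈ f.ker := MonoidHom.mem_ker.mpr h3
  rw [hker, Subgroup.mem_subgroupOf] at h4
  exact h4

/-- Cauchy: a subgroup of order `p` -/
theorem exists_prime_card_le {K : Subgroup G} {p : ℕ} [hp : Fact p.Prime]
    (h : p ∣ Nat.card K) : ∃ X : Subgroup G, X ≤ K ∧ Nat.card X = p := by
  obtain ⟨x, hx⟩ := exists_prime_orderOf_dvd_card' p h
  refine ⟨Subgroup.zpowers (x : G), Subgroup.zpowers_le.mpr x.2, ?_⟩
  rw [Nat.card_zpowers, Subgroup.orderOf_coe]; exact hx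

/-- S1404(a) applied: `X ≤ M ∩ M^g`, `C_G(X) ≤ M` forces `g ∈ M` -/
theorem mem_of_cj_le (hG : IsMinSimpleOddOrder G) {M : Subgroup G} (hM : IsCoatom M) {p : ℕ}
    [hp : Fact p.Prime] (hpσ : p ∈ sigma M) {X : Subgroup G} (hXp : IsPGroup p X) (hX1 : X ≠ ⊥)
    (hXM : X ≤ M) (hC : Subgroup.centralizer (X : Set G) ≤ M) {g : G} (hXg : X ≤ BG7.cj g M) :
    g ∈ M := by
  have h1 : BG7.cj g⁻¹ X ≤ M := by
    have := BG7.cj_mono (k := g⁻¹) hXg; rwa [BG7.cj_inv_cj] at this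
  obtain ⟨m, hm, c, hc, hgmc⟩ := (BT.sigma_trans hG hM hpσ _ X hXp hX1 hXM rfl).1 g⁻¹ h1
  have h2 : g⁻¹ ∈ M := by rw [hgmc]; exact Subgroup.mul_mem _ hm (hC hc)
  exact (Subgroup.inv_mem_iff M).mp h2

/-- an abelian subgroup without `E_{q^2}`-subgroups is cyclic -/
theorem isCyclic_of_comm_of_no_sq (hG : IsMinSimpleOddOrder G) {D : Subgroup G}
    (hcomm : ∀ a ∈ D, ∀ b ∈ D, a * b = b * a)
    (hsyl : ∀ (q : ℕ) [Fact q.Prime] (V : Subgroup G), V ≤ D → IsElementaryAbelian q V →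
      Nat.card V = q ^ 2 → False) : IsCyclic ↥D := by
  classical
  haveI : IsZGroup ↥D := by
    refine ⟨fun q hq Q => ?_⟩
    haveI : Fact q.Prime := ⟨hq⟩
    by_contra hnc
    obtain ⟨Q₁, hQ₁def⟩ : ∃ Q₁ : Subgroup G, Q₁ = (Q : Subgroup ↥D).map D.subtype := ⟨_, rfl⟩
    have hQ₁p : IsPGroup q Q₁ := hQ₁def ▸ Q.isPGroup'.map _
    have hnc₁ : ¬ IsCyclic ↥Q₁ := by
      intro hc
      apply hnc
      haveI := hc
      have e := (Q : Subgroup ↥D).equivMapOfInjective D.subtype D.subtype_injective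
      rw [← hQ₁def] at e
      exact isCyclic_of_surjective e.symm e.symm.surjective
    have hQ₁1 : Q₁ ≠ ⊥ := by
      intro hb
      apply hnc₁
      haveI : Subsingleton ↥Q₁ := by rw [hb]; infer_instance
      exact isCyclic_of_subsingleton
    have hq2 : q ≠ 2 := by
      obtain ⟨n, hn⟩ := hQ₁p.exists_card_eq
      have hn0 : n ≠ 0 := by
        intro h0
        rw [h0, pow_zero] at hn
        exact hQ₁1 (Subgroup.card_eq_one.mp hn)
      have h1 : q ∣ Nat.card ↥Q₁ := by rw [hn]; exact dvd_pow_self q hn0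
      exact BG9.odd_prime_of_dvd hG (h1.trans (Subgroup.card_subgroup_dvd_card Q₁))
    obtain ⟨V, hVQ, -, hVe, hV2⟩ := BG9.exists_normal_elementary_sq hq2 hQ₁p hnc₁
    exact hsyl q V (hVQ.trans (hQ₁def ▸ Subgroup.map_subtype_le _)) hVe hV2
  haveI : Group.IsNilpotent ↥D := by
    let _ : CommGroup ↥D :=
      { (inferInstance : Group ↥D) with
        mul_comm := fun a b => Subtype.ext (hcomm a a.2 b b.2) }
    exact CommGroup.isNilpotent
  exact inferInstance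

/-- B&G 12.17(c) -/
theorem s1426c (hG : IsMinSimpleOddOrder G) (h1416 : Row1416 G) (h1423 : Row1423 G)
    (M : Subgroup G) (hM : IsCoatom M) (g : G) (hg : g ∉ M) :
    IsCyclic ↥(sigmaCore M ⊓ BG7.cj g M) ∧
      (∀ p : ℕ, p.Prime → p ∣ Nat.card ↥(sigmaCore M ⊓ BG7.cj g M) → p ∉ beta M) ∧
      sigmaCore M ⊓ BG7.cj g M ⊓ ⁅sigmaCore M, sigmaCore M⁆ = ⊥ := by
  classical
  have hSM : sigmaCore M ≤ M := Subgroup.map_subtype_le _
  have key : ∀ (p : ℕ) [Fact p.Prime] (X : Subgroup G), X ≤ sigmaCore M ⊓ BG7.cj g M →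
      Nat.card X = p → (p ∈ beta M ∨ X ≤ ⁅sigmaCore M, sigmaCore M⁆) → False := by
    intro p hp X hXD hX hor
    have hpp := hp.out
    have hXS : X ≤ sigmaCore M := hXD.trans inf_le_left
    have hXg : X ≤ BG7.cj g M := hXD.trans inf_le_right
    have hpσ : p ∈ sigma M := by
      apply (BGA.s1350 hG M hM).1.2.1 p hpp
      rw [← hX]; exact Subgroup.card_dvd_of_le hXS
    obtain ⟨P⟩ : Nonempty (Sylow p ↥(sigmaCore M)) := inferInstance
    have h := h1423 hG M hM p hpσ X (hXS.trans hSM) hX P hor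
    have hXp : IsPGroup p X := IsPGroup.of_card (n := 1) (by rw [hX, pow_one])
    have hX1 : X ≠ ⊥ := by
      intro hb; rw [hb, Subgroup.card_bot] at hX; exact hpp.one_lt.ne hX
    exact hg (mem_of_cj_le hG hM hpσ hXp hX1 (hXS.trans hSM) h.1.1 hXg)
  have hc2 : ∀ p : ℕ, p.Prime → p ∣ Nat.card ↥(sigmaCore M ⊓ BG7.cj g M) → p ∉ beta M := by
    intro p hp hdvd hβ
    haveI : Fact p.Prime := ⟨hp⟩
    obtain ⟨X, hXD, hX⟩ := exists_prime_card_le hdvd
    exact key p X hXD hX (Or.inl hβ)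
  have hc3 : sigmaCore M ⊓ BG7.cj g M ⊓ ⁅sigmaCore M, sigmaCore M⁆ = ⊥ := by
    by_contra hne
    have hcard : Nat.card ↥(sigmaCore M ⊓ BG7.cj g M ⊓ ⁅sigmaCore M, sigmaCore M⁆ : Subgroup G) ≠ 1 :=
      fun h => hne (Subgroup.card_eq_one.mp h)
    obtain ⟨p, hp, hdvd⟩ := Nat.exists_prime_and_dvd hcard
    haveI : Fact p.Prime := ⟨hp⟩
    obtain ⟨X, hXD, hX⟩ := exists_prime_card_le hdvd
    exact key p X (hXD.trans inf_le_left) hX (Or.inr (hXD.trans inf_le_right))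
  refine ⟨?_, hc2, hc3⟩
  apply isCyclic_of_comm_of_no_sq hG
  · intro a ha b hb
    have h1 : ⁅a, b⁆ ∈ sigmaCore M ⊓ BG7.cj g M ⊓ ⁅sigmaCore M, sigmaCore M⁆ := by
      refine ⟨?_, Subgroup.commutator_mem_commutator ha.1 hb.1⟩
      rw [commutatorElement_def]
      exact Subgroup.mul_mem _ (Subgroup.mul_mem _ (Subgroup.mul_mem _ ha hb)
        (Subgroup.inv_mem _ ha)) (Subgroup.inv_mem _ hb)
    rw [hc3, Subgroup.mem_bot] at h1
    exact commutatorElement_eq_one_iff_mul_comm.mp h1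
  · intro q hq V hVD hVe hV2
    have hqq := hq.out
    have hVS : V ≤ sigmaCore M := hVD.trans inf_le_left
    have hVg : V ≤ BG7.cj g M := hVD.trans inf_le_right
    have hVM : V ≤ M := hVS.trans hSM
    have hC := (h1416 hG M hM q V ⟨hVM, hVe, hV2⟩).1
    have hqσ : q ∈ sigma M := by
      apply (BGA.s1350 hG M hM).1.2.1 q hqq
      have h1 : q ∣ Nat.card ↥V := by rw [hV2]; exact dvd_pow_self q (by norm_num)
      exact h1.trans (Subgroup.card_dvd_of_le hVS)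
    have hV1 : V ≠ ⊥ := by
      intro hb
      rw [hb, Subgroup.card_bot] at hV2
      have h2 : 1 < q ^ 2 := Nat.one_lt_pow (by norm_num) hqq.one_lt
      omega
    exact hg (mem_of_cj_le hG hM hqσ (BG9.isPGroup_of_isElementaryAbelian hVe) hV1 hVM hC hVg)

/-- **B&G Lemma 12.17(a)-(c)** (S1426) modulo S1416, S1423. -/
theorem s1426_of (hG : IsMinSimpleOddOrder G) (h1416 : Row1416 G) (h1423 : Row1423 G)
    (M : Subgroup G) (hM : IsCoatom M) (E : Subgroup G) (hE : IsComplIn E (sigmaCore M) M) :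
    sigmaCore M ⊓ Subgroup.centralizer (E : Set G) ≤ ⁅sigmaCore M, sigmaCore M⁆ ∧
      ⁅sigmaCore M, E⁆ = sigmaCore M ∧
      ∀ g : G, g ∉ M → IsCyclic ↥(sigmaCore M ⊓ M.map (MulAut.conj g).toMonoidHom) ∧
        (∀ p : ℕ, p.Prime → p ∣ Nat.card ↥(sigmaCore M ⊓ M.map (MulAut.conj g).toMonoidHom) →
          p ∉ beta M) ∧
        sigmaCore M ⊓ M.map (MulAut.conj g).toMonoidHom ⊓ ⁅sigmaCore M, sigmaCore M⁆ = ⊥ := by
  classical
  have hN : M ≤ Subgroup.normalizer (sigmaCore M : Set G) := BG7.le_normalizer_piCoreOf (sigma M) M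
  haveI hsolv : Group.IsSolvable ↥M := BG7.isSolvable_of_ne_top hG hM.1
  have hb : ⁅sigmaCore M, E⁆ = sigmaCore M :=
    comm_eq_of_le_commutator hE hN hsolv (BGC.sigmaCore_le_commutator hG hM)
  have hcop : (Nat.card E).Coprime (Nat.card (sigmaCore M)) :=
    BGD.coprime_sigmaCore hG hM (BGD.compl_not_sigma hG hM hE)
  refine ⟨centralizer_le_derived hE.1 hE.2.1 hN hcop hb, hb, ?_⟩
  intro g hg
  have h := s1426c hG h1416 h1423 M hM g hg
  unfold BG7.cj at h
  exact h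

end Cfsg.Agent.Lib.Helper2.BGH
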