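import Mathlib
import Cfsg.Agent.Lib.Helper2.BGH6
import Cfsg.Agent.Lib.Lead.BGM1
import Cfsg.Agent.Lib.Helper1.BGG1

set_option autoImplicit false
set_option maxHeartbeats 4000000
set_option linter.unusedVariables false
set_option linter.unusedSectionVars false
set_option linter.style.longLine false
set_option linter.unusedSimpArgs false
set_option linter.style.haveILetI false
set_option linter.deprecated false

/-!
# B&G Lemma 12.14(d),(e) in the form needed + Lemma 12.15/12.16(a) (S1425):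
every `σ(M)`-subgroup of `G` is conjugate into `M_σ`.
-/

open scoped commutatorElement Pointwise
universe u
namespace Cfsg.Agent.Lib.Helper2.BGH

open Cfsg Cfsg.Agent.Lib.Helper1 Cfsg.Agent.Lib.Helper7 Cfsg.Agent.Lib.Helper7.BGRows
open Cfsg.Agent.Lib.Lead

variable {G : Type u} [Group G] [Finite G]

/-- Hall dominance relative to a solvable subgroup `L` -/
theorem exists_cj_le_of_hall {L H K : Subgroup G} [hL : Group.IsSolvable ↥L] (hHL : H ≤ L)
    (hKL : K ≤ L) (hH : (Nat.card H).Coprime (H.relIndex L))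
    (hK : (Nat.card K).Coprime (H.relIndex L)) : ∃ m ∈ L, K ≤ BG7.cj m H := by
  have hcH : (Nat.card (H.subgroupOf L)).Coprime (H.subgroupOf L).index := by
    rw [card_subgroupOf_of_le hHL]; exact hH
  have hcK : (Nat.card (K.subgroupOf L)).Coprime (H.subgroupOf L).index := by
    rw [card_subgroupOf_of_le hKL]; exact hK
  obtain ⟨g, hg⟩ := hall_dominance (H.subgroupOf L) (K.subgroupOf L) hcH hcK
  refine ⟨(g : G), g.2, ?_⟩
  intro k hk
  have h1 : (⟨k, hKL hk⟩ : ↥L) ∈ MulAut.conj g • H.subgroupOf L :=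
    hg (Subgroup.mem_subgroupOf.mpr hk)
  rw [Subgroup.mem_pointwise_smul_iff_inv_smul_mem, MulAut.smul_def, MulAut.conj_inv_apply,
    Subgroup.mem_subgroupOf] at h1
  rw [BG7.mem_cj]
  simpa using h1

/-- a subgroup of `M` all of whose primes are in `σ(M)` lies in `M_σ` -/
theorem le_sigmaCore_of_sigma_group (hG : IsMinSimpleOddOrder G) {M : Subgroup G}
    (hM : IsCoatom M) {Y : Subgroup G} (hYM : Y ≤ M)
    (hY : ∀ p : ℕ, p.Prime → p ∣ Nat.card Y → p ∈ sigma M) : Y ≤ sigmaCore M := by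
  obtain ⟨hHall, -, -⟩ := BGA.s1350 hG M hM
  obtain ⟨N, hN⟩ : ∃ N : Subgroup ↥M, N = piCore (sigma M) ↥M := ⟨_, rfl⟩
  haveI hNn : N.Normal := hN ▸ inferInstance
  have hσ : sigmaCore M = N.map M.subtype := by rw [hN]; rfl
  have hidx : (sigmaCore M).relIndex M = N.index := by
    unfold Subgroup.relIndex
    rw [hσ, BGG.subgroupOf_map_subtype']
  have hcop : (Nat.card Y).Coprime N.index := by
    by_contra hc
    obtain ⟨r, hr, hr1, hr2⟩ := Nat.Prime.not_coprime_iff_dvd.mp hc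
    rw [← hidx] at hr2
    exact hHall.2.2 r hr (hY r hr hr1) hr2
  intro y hy
  have h1 : (⟨y, hYM hy⟩ : ↥M) ^ Nat.card Y = 1 := by
    apply Subtype.ext
    have h2 : (⟨y, hy⟩ : ↥Y) ^ Nat.card ↥Y = 1 := pow_card_eq_one'
    have h3 := congrArg Subtype.val h2
    rw [Subgroup.coe_pow, Subgroup.coe_one] at h3
    rw [Subgroup.coe_pow, Subgroup.coe_one]
    exact h3
  have h4 := BGM.mem_of_coprime_index N h1 hcop
  rw [hσ]
  exact ⟨⟨y, hYM hy⟩, h4, rfl⟩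

/-- `σ(M) ∩ α(H) = ∅` for non-conjugate maximal subgroups -/
theorem sigma_alpha_disjoint (hG : IsMinSimpleOddOrder G) {M H : Subgroup G} (hM : IsCoatom M)
    (hH : IsCoatom H) (hnc : ∀ g : G, H ≠ BG7.cj g M) {s : ℕ} (hsM : s ∈ sigma M)
    (hsH : s ∈ alpha H) : False := by
  obtain ⟨hs, hr⟩ := hsH
  haveI : Fact s.Prime := ⟨hs⟩
  obtain ⟨B, hBH, hBe, hB3⟩ := BG9.exists_elementary_of_not_pRankLE hs hr
  have hBp := BG9.isPGroup_of_isElementaryAbelian hBe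
  obtain ⟨P, hP, -⟩ := BT.exists_isMaxP_ge (p := s) (Y := ⊥) (H := M) IsPGroup.of_bot bot_le
  obtain ⟨-, hPtop, -⟩ := BT.sigma_sylow_le_commutator hG hM hsM hP
  obtain ⟨m, -, hBm⟩ := BT.exists_cj_ge hPtop hBp le_top
  have h1 : BG7.cj m⁻¹ B ≤ M := by
    have := BG7.cj_mono (k := m⁻¹) hBm
    rw [BG7.cj_inv_cj] at this
    exact this.trans hP.1
  have h2 : ¬ PRankLE s 2 ↥(BG7.cj m⁻¹ B) :=
    BG9.not_pRankLE_of_elementary hs le_rfl (BG9.isElementaryAbelian_cj m⁻¹ hBe)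
      (by rw [BG7.card_cj]; exact hB3)
  have hco : IsCoatom (BG7.cj m⁻¹ H) := BG9.isCoatom_cj hH m⁻¹
  have h3 := BT.le_of_rank_three hG hs hM h1 h2 (BG7.cj_mono hBH) hco.1
  have h4 : M = BG7.cj m⁻¹ H := BG8.eq_of_coatom_le hco h3 hM.1
  apply hnc m
  rw [h4, BG9.cj_cj_inv]

/-- in a nilpotent group `K`, the normalizer of `K` normalizes the Sylow subgroups of `K` -/
theorem normalizer_le_of_nilpotent_sylow {q : ℕ} [hq : Fact q.Prime] {K S : Subgroup G}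
    (hS : BG8.IsMaxP q S K) (hnil : Group.IsNilpotent ↥K) :
    Subgroup.normalizer (K : Set G) ≤ Subgroup.normalizer (S : Set G) := by
  classical
  have hall : ∀ r (_ : Fact r.Prime) (P : Sylow r ↥K), (↑P : Subgroup ↥K).Normal :=
    ((Group.isNilpotent_of_finite_tfae (G := ↥K)).out 0 3).mp hnil
  obtain ⟨Q, hQ⟩ := hS.exists_sylow
  haveI hu : Unique (Sylow q ↥K) := Sylow.unique_of_normal Q (hall q inferInstance Q)
  intro g hg
  apply BG9.mem_normalizer_of_cj_le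
  have h1 : BG8.IsMaxP q (BG7.cj g S) (BG7.cj g K) := BT.isMaxP_cj hS g
  rw [BG7.cj_eq_of_mem_normalizer hg] at h1
  obtain ⟨Q', hQ'⟩ := h1.exists_sylow
  have h2 : Q' = Q := Subsingleton.elim _ _
  rw [← hQ', h2, hQ]

/-- Schur-Zassenhaus: a complement to a normal Hall subgroup of `L` -/
theorem exists_compl_of_normal_hall {L : Subgroup G} (N : Subgroup ↥L) [hNn : N.Normal]
    (hcop : (Nat.card N).Coprime N.index) :
    ∃ C : Subgroup G, IsComplIn C (N.map L.subtype) L := by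
  obtain ⟨H, hH⟩ := Subgroup.exists_right_complement'_of_coprime hcop
  refine ⟨H.map L.subtype, Subgroup.map_subtype_le _, Subgroup.map_subtype_le _, ?_, ?_⟩
  · rw [eq_bot_iff]
    rintro x ⟨⟨y, hy, rfl⟩, hx2⟩
    obtain ⟨z, hz, hzy⟩ := hx2
    have hzy' : z = y := Subtype.ext hzy
    have h1 : y ∈ N ⊓ H := ⟨hzy' ▸ hz, hy⟩
    rw [hH.disjoint.eq_bot, Subgroup.mem_bot] at h1
    rw [Subgroup.mem_bot, h1]; rfl
  · intro m hm
    obtain ⟨⟨h, n⟩, hhn⟩ := hH.symm.2 (⟨m, hm⟩ : ↥L)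
    refine ⟨(h : ↥L), ⟨(h : ↥L), h.2, rfl⟩, ((n : ↥L) : G), ⟨(n : ↥L), n.2, rfl⟩, ?_⟩
    have := congrArg (fun t : ↥L => (t : G)) hhn
    simpa using this.symm

/-- main step: `Y` normalizes a nontrivial `q`-subgroup `X ≤ M`, `q ∈ σ(M)` -/
theorem s1425_main (hG : IsMinSimpleOddOrder G) (h1416 : Row1416 G) (h1417 : Row1417 G)
    (h1418 : Row1418 G) (h1424 : Row1424 G) {M : Subgroup G} (hM : IsCoatom M) {q : ℕ}
    [hq : Fact q.Prime] (hqσ : q ∈ sigma M) {X Y : Subgroup G} (hXq : IsPGroup q X)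
    (hX1 : X ≠ ⊥) (hXM : X ≤ M) (hYN : Y ≤ Subgroup.normalizer (X : Set G))
    (hY : ∀ p : ℕ, p.Prime → p ∣ Nat.card Y → p ∈ sigma M) :
    ∃ g : G, BG7.cj g Y ≤ sigmaCore M := by
  classical
  have hqq := hq.out
  have hXtop : X ≠ ⊤ := BG7.pgroup_ne_top hG hXq
  have hNtop := BG7.normalizer_ne_top hG hX1 hXtop
  obtain ⟨Ms, hMs, hNX⟩ :=
    (eq_top_or_exists_le_coatom (Subgroup.normalizer (X : Set G))).resolve_left hNtop
  have hYMs : Y ≤ Ms := hYN.trans hNX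
  have finish : ∀ m : G, BG7.cj m Y ≤ M → ∃ g : G, BG7.cj g Y ≤ sigmaCore M := by
    intro m hm
    refine ⟨m, le_sigmaCore_of_sigma_group hG hM hm ?_⟩
    intro p hp hpd
    rw [BG7.card_cj] at hpd
    exact hY p hp hpd
  by_cases hne : Ms = M
  · apply finish 1
    rw [BG7.cj_one, ← hne]; exact hYMs
  have hXMs : X ≤ Ms := Subgroup.le_normalizer.trans hNX
  obtain ⟨S₀, hS₀⟩ := (hXq.comap_subtype (K := M ⊓ Ms)).exists_le_sylow
  have hXS : X ≤ (S₀ : Subgroup ↥(M ⊓ Ms)).map (M ⊓ Ms).subtype := by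
    intro x hx
    exact ⟨⟨x, ⟨hXM hx, hXMs hx⟩⟩, hS₀ (Subgroup.mem_subgroupOf.mpr hx), rfl⟩
  obtain ⟨hnc, hNS, hqS⟩ := h1424 hG M hM q hqσ X hXq hX1 hXM Ms hMs hne hNX S₀ hXS
  obtain ⟨S, hSdef⟩ : ∃ S : Subgroup G,
      S = (S₀ : Subgroup ↥(M ⊓ Ms)).map (M ⊓ Ms).subtype := ⟨_, rfl⟩
  rw [← hSdef] at hXS hNS hqS
  have hSI : S ≤ M ⊓ Ms := hSdef ▸ Subgroup.map_subtype_le _
  have hSq : IsPGroup q S := hSdef ▸ S₀.isPGroup'.map _
  have hSM : S ≤ M := hSI.trans inf_le_left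
  have hSMs : S ≤ Ms := hSI.trans inf_le_right
  have hSmax : BG8.IsMaxP q S Ms := BGG.isMaxP_of_not_dvd_relIndex hSMs hSq hqS
  have hS1 : S ≠ ⊥ := fun hb => hX1 (le_bot_iff.mp (hb ▸ hXS))
  have hnc' : ∀ g : G, Ms ≠ BG7.cj g M := hnc
  haveI hsolvMs : Group.IsSolvable ↥Ms := BG7.isSolvable_of_ne_top hG hMs.1
  have hq2 : q ≠ 2 :=
    BG9.odd_prime_of_dvd hG ((hqσ.2.1).trans (Subgroup.card_subgroup_dvd_card M))
  by_cases hqMs : q ∈ sigma Ms
  · -- case (d): `q ∈ σ(M*)`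
    have hdisj : ∀ r, r ∈ sigma M → r ∉ beta Ms := fun r hrM hrβ =>
      sigma_alpha_disjoint hG hM hMs hnc' hrM hrβ.1
    have hqβ : q ∉ beta Ms := hdisj q hqσ
    obtain ⟨-, hStop, -⟩ := BT.sigma_sylow_le_commutator hG hMs hqMs hSmax
    have hSSg : S ≤ sigmaCore Ms := pgroup_le_sigmaCore hG hMs hqMs hSq hSMs
    obtain ⟨hNHall, -, -, ⟨H₂, hH₂Hall, hH₂nil⟩, -⟩ := Cfsg.Agent.S1414.result hG Ms hMs
    obtain ⟨N', hN'⟩ : ∃ N' : Subgroup ↥Ms, N' = piCore (beta Ms) ↥Ms := ⟨_, rfl⟩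
    haveI hN'n : N'.Normal := hN' ▸ inferInstance
    obtain ⟨N, hNdef⟩ : ∃ N : Subgroup G, N = N'.map Ms.subtype := ⟨_, rfl⟩
    have hNeq : piCoreOf (beta Ms) Ms = N := by rw [hNdef, hN']; rfl
    rw [hNeq] at hNHall
    have hNidx : N.relIndex Ms = N'.index := by
      unfold Subgroup.relIndex; rw [hNdef, BGG.subgroupOf_map_subtype']
    have hNcard : Nat.card N = Nat.card N' := by
      rw [hNdef]; exact Subgroup.card_map_of_injective Ms.subtype_injective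
    have hcopN : (Nat.card N').Coprime N'.index := by
      by_contra hc
      obtain ⟨r, hr, hr1, hr2⟩ := Nat.Prime.not_coprime_iff_dvd.mp hc
      rw [← hNcard] at hr1
      rw [← hNidx] at hr2
      exact hNHall.2.2 r hr (hNHall.2.1 r hr hr1) hr2
    obtain ⟨C₀, hC₀⟩ := exists_compl_of_normal_hall N' hcopN
    rw [← hNdef] at hC₀
    have hMsN : Ms ≤ Subgroup.normalizer (N : Set G) :=
      hNeq ▸ BG7.le_normalizer_piCoreOf (beta Ms) Ms
    have hcopK : ∀ K : Subgroup G, (∀ r : ℕ, r.Prime → r ∣ Nat.card K → r ∉ beta Ms) →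
        (Nat.card K).Coprime (Nat.card N) := by
      intro K hK
      by_contra hc
      obtain ⟨r, hr, hr1, hr2⟩ := Nat.Prime.not_coprime_iff_dvd.mp hc
      exact hK r hr hr1 (hNHall.2.1 r hr hr2)
    have hC₀card : N.relIndex Ms = Nat.card C₀ := Cfsg.Agent.Lib.Lead.ComplIn.relIndex_right hC₀
    have hC₀β : ∀ r : ℕ, r.Prime → r ∣ Nat.card C₀ → r ∉ beta Ms := by
      intro r hr hrd hrβ
      rw [← hC₀card] at hrd
      exact hNHall.2.2 r hr hrβ hrd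
    have hSβ : ∀ r : ℕ, r.Prime → r ∣ Nat.card S → r ∉ beta Ms := by
      intro r hr hrd
      have h1 : r = q := BGG.prime_eq_of_dvd_card_pgroup hSq hr hrd
      rw [h1]; exact hqβ
    have hcopC₀ : (Nat.card C₀).Coprime (C₀.relIndex Ms) := by
      rw [Cfsg.Agent.Lib.Lead.ComplIn.relIndex_left hC₀]; exact hcopK C₀ hC₀β
    obtain ⟨m₀, hm₀, hSm₀⟩ := exists_cj_le_of_hall hC₀.1 hSMs hcopC₀
      (by rw [Cfsg.Agent.Lib.Lead.ComplIn.relIndex_left hC₀]; exact hcopK S hSβ)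
    obtain ⟨C, hCdef⟩ : ∃ C, C = BG7.cj m₀ C₀ := ⟨_, rfl⟩
    have hC : IsComplIn C N Ms := hCdef ▸ BGD.isComplIn_cj hC₀ hMsN hm₀
    rw [← hCdef] at hSm₀
    have hCβ : ∀ r : ℕ, r.Prime → r ∣ Nat.card C → r ∉ beta Ms := by
      intro r hr hrd
      rw [hCdef, BG7.card_cj] at hrd
      exact hC₀β r hr hrd
    obtain ⟨C₂, hC₂def⟩ : ∃ C₂, C₂ = C ⊓ sigmaCore Ms := ⟨_, rfl⟩
    have hC₂Sg : C₂ ≤ sigmaCore Ms := hC₂def ▸ inf_le_right
    have hC₂C : C₂ ≤ C := hC₂def ▸ inf_le_left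
    have hSC₂ : S ≤ C₂ := hC₂def ▸ le_inf hSm₀ hSSg
    have hSgMs : sigmaCore Ms ≤ Ms := Subgroup.map_subtype_le _
    haveI hsolvSg : Group.IsSolvable ↥(sigmaCore Ms) := isSolvable_of_le hSgMs
    have hidxβ : ∀ r : ℕ, r.Prime → r ∣ H₂.relIndex (sigmaCore Ms) → r ∈ beta Ms := by
      intro r hr hrd
      by_contra hrβ
      exact hH₂Hall.2.2 r hr ⟨hr, hrβ⟩ hrd
    have hcopH₂ : (Nat.card H₂).Coprime (H₂.relIndex (sigmaCore Ms)) := by
      by_contra hc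
      obtain ⟨r, hr, hr1, hr2⟩ := Nat.Prime.not_coprime_iff_dvd.mp hc
      exact (hH₂Hall.2.1 r hr hr1).2 (hidxβ r hr hr2)
    have hcopC₂ : (Nat.card C₂).Coprime (H₂.relIndex (sigmaCore Ms)) := by
      by_contra hc
      obtain ⟨r, hr, hr1, hr2⟩ := Nat.Prime.not_coprime_iff_dvd.mp hc
      exact hCβ r hr (hr1.trans (Subgroup.card_dvd_of_le hC₂C)) (hidxβ r hr hr2)
    obtain ⟨g₂, hg₂, hC₂g⟩ := exists_cj_le_of_hall hH₂Hall.1 hC₂Sg hcopH₂ hcopC₂
    have hnilC₂ : Group.IsNilpotent ↥C₂ := by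
      haveI := hH₂nil
      haveI h1 : Group.IsNilpotent ↥(BG7.cj g₂ H₂) :=
        Group.nilpotent_of_mulEquiv (H₂.equivMapOfInjective (MulAut.conj g₂).toMonoidHom
          (MulAut.conj g₂).injective)
      haveI h2 : Group.IsNilpotent ↥(C₂.subgroupOf (BG7.cj g₂ H₂)) := Subgroup.isNilpotent _
      exact Group.nilpotent_of_mulEquiv (Subgroup.subgroupOfEquivOfLe hC₂g)
    have hSmaxC₂ : BG8.IsMaxP q S C₂ := hStop.mono hSC₂ le_top
    have hCN : C ≤ Subgroup.normalizer (C₂ : Set G) := by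
      rw [hC₂def]
      exact le_normalizer_inf Subgroup.le_normalizer
        (hC.1.trans (BG7.le_normalizer_piCoreOf (sigma Ms) Ms))
    have hCM : C ≤ M :=
      (hCN.trans (normalizer_le_of_nilpotent_sylow hSmaxC₂ hnilC₂)).trans hNS
    have hYβ : ∀ r : ℕ, r.Prime → r ∣ Nat.card Y → r ∉ beta Ms :=
      fun r hr hrd => hdisj r (hY r hr hrd)
    have hcopC : (Nat.card C).Coprime (C.relIndex Ms) := by
      rw [Cfsg.Agent.Lib.Lead.ComplIn.relIndex_left hC]; exact hcopK C hCβ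
    obtain ⟨m, hm, hYm⟩ := exists_cj_le_of_hall hC.1 hYMs hcopC
      (by rw [Cfsg.Agent.Lib.Lead.ComplIn.relIndex_left hC]; exact hcopK Y hYβ)
    apply finish m⁻¹
    have h5 := BG7.cj_mono (k := m⁻¹) hYm
    rw [BG7.cj_inv_cj] at h5
    exact h5.trans hCM
  · -- case (e): `q ∉ σ(M*)`
    have hqdvd : q ∣ Nat.card Ms := by
      obtain ⟨n, hn⟩ := hSq.exists_card_eq
      have hn0 : n ≠ 0 := by
        intro h0
        rw [h0, pow_zero] at hn
        exact hS1 (Subgroup.card_eq_one.mp hn)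
      have h1 : q ∣ Nat.card S := by rw [hn]; exact dvd_pow_self q hn0
      exact h1.trans (Subgroup.card_dvd_of_le hSMs)
    have hSnc : ¬ IsCyclic ↥S := by
      intro hc
      apply hqMs
      obtain ⟨Q, hQ⟩ := hSmax.exists_sylow
      refine ⟨hqq, hqdvd, Q, ?_⟩
      rw [hQ]
      exact (BGG.normalizer_le_of_isCyclic hc hXS).trans hNX
    have hr2 : PRankLE q 2 ↥Ms := by
      by_contra hr
      exact hqMs (BT.alpha_subset_sigma hG hMs ⟨hqq, hr⟩)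
    have hr1 : ¬ PRankLE q 1 ↥Ms :=
      fun hr => hSnc (BGB.isCyclic_of_pRankLE_one hq2 hSMs hSq hr)
    have hqτ : q ∈ tau2 Ms := ⟨hqq, hqMs, hr2, hr1⟩
    obtain ⟨A, hAS, -, hAe, hA2⟩ := BG9.exists_normal_elementary_sq hq2 hSq hSnc
    have hAM : A ≤ M := hAS.trans hSM
    have hAMs : A ≤ Ms := hAS.trans hSMs
    obtain ⟨hnil, -, -, -, -, -⟩ := h1417 hG Ms hMs q hqτ A ⟨hAMs, hAe, hA2⟩
    have hdisj : ∀ r : ℕ, r.Prime → r ∈ sigma M → r ∉ sigma Ms := by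
      intro r hr hrM hrMs
      haveI : Fact r.Prime := ⟨hr⟩
      obtain ⟨g, hg⟩ := BGM.exists_cj_le_of_common_sigma hG hM hMs hrM hrMs hnil
      have hco := BG9.isCoatom_cj hMs g
      have h4 : M = BG7.cj g Ms := BG8.eq_of_coatom_le hco hg hM.1
      apply hnc' g⁻¹
      rw [h4, BG7.cj_inv_cj]
    have hAσ : ∀ r : ℕ, r.Prime → r ∣ Nat.card A → r ∉ sigma Ms := by
      intro r hr hrd
      rw [hA2] at hrd
      have h1 : r = q := (Nat.prime_dvd_prime_iff_eq hr hqq).mp (hr.dvd_of_dvd_pow hrd)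
      rw [h1]; exact hqMs
    obtain ⟨Es, hEs, hAEs⟩ := BGG.exists_compl_ge hG hMs hAMs hAσ
    obtain ⟨⟨hEsN, -⟩, -, -⟩ := h1418 hG Ms hMs Es hEs q hqτ A ⟨hAEs, hAe, hA2⟩
    have hAp := BG9.isPGroup_of_isElementaryAbelian hAe
    have hA1 : A ≠ ⊥ := by
      intro hb
      rw [hb, Subgroup.card_bot] at hA2
      have h2 : 1 < q ^ 2 := Nat.one_lt_pow (by norm_num) hqq.one_lt
      omega
    have hCA := (h1416 hG M hM q A ⟨hAM, hAe, hA2⟩).1
    have hNA : Subgroup.normalizer (A : Set G) ≤ M := by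
      rw [(BT.sigma_trans hG hM hqσ _ A hAp hA1 hAM rfl).2]
      exact sup_le inf_le_left hCA
    have hEsM : Es ≤ M := hEsN.trans hNA
    have hcopY : (Nat.card Y).Coprime (Nat.card (sigmaCore Ms)) :=
      BGD.coprime_sigmaCore hG hMs (fun r hr hrd => hdisj r hr (hY r hr hrd))
    obtain ⟨m, hm, hYm⟩ := BGD.exists_cj_le hG hMs hEs hYMs hcopY
    apply finish m⁻¹
    have h5 := BG7.cj_mono (k := m⁻¹) hYm
    rw [BG7.cj_inv_cj] at h5
    exact h5.trans hEsM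

/-- **B&G 12.15/12.16(a)** (S1425) modulo S1416, S1417, S1418, S1424. -/
theorem s1425_of (hG : IsMinSimpleOddOrder G) (h1416 : Row1416 G) (h1417 : Row1417 G)
    (h1418 : Row1418 G) (h1424 : Row1424 G) (M : Subgroup G) (hM : IsCoatom M) (Y : Subgroup G)
    (hY1 : Y ≠ ⊥) (hY : ∀ p : ℕ, p.Prime → p ∣ Nat.card Y → p ∈ sigma M) :
    ∃ g : G, Y.map (MulAut.conj g).toMonoidHom ≤ sigmaCore M := by
  classical
  have hYtop : Y ≠ ⊤ := by
    intro ht
    obtain ⟨-, hHall, -⟩ := BGA.s1350 hG M hM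
    have hSgtop : sigmaCore M ≠ ⊤ := fun h =>
      hM.1 (top_le_iff.mp (h ▸ (Subgroup.map_subtype_le _ : sigmaCore M ≤ M)))
    have hidx : (sigmaCore M).index ≠ 1 := fun h => hSgtop (Subgroup.index_eq_one.mp h)
    obtain ⟨r, hr, hrd⟩ := Nat.exists_prime_and_dvd hidx
    have hrG : r ∣ Nat.card G := hrd.trans (Subgroup.index_dvd_card _)
    have hrY : r ∣ Nat.card Y := by rw [ht, Subgroup.card_top]; exact hrG
    exact hHall.2 r hr (hY r hr hrY) hrd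
  haveI hsolvY : Group.IsSolvable ↥Y := BG7.isSolvable_of_ne_top hG hYtop
  haveI : Nontrivial ↥Y := (Subgroup.nontrivial_iff_ne_bot Y).mpr hY1
  obtain ⟨A, hAn, hAbot, hAmin⟩ := exists_minimal_normal (G := ↥Y)
  haveI := hAn
  obtain ⟨hAc, q, hq, hAq⟩ := minimal_normal_of_solvable A hAbot hAmin
  haveI : Fact q.Prime := ⟨hq⟩
  obtain ⟨X, hXdef⟩ : ∃ X : Subgroup G, X = A.map Y.subtype := ⟨_, rfl⟩
  have hAp : IsPGroup q ↥A := by
    intro a
    refine ⟨1, ?_⟩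
    rw [pow_one]
    apply Subtype.ext
    rw [Subgroup.coe_pow, Subgroup.coe_one]
    exact hAq a.1 a.2
  have hXq : IsPGroup q X := hXdef ▸ hAp.map _
  have hX1 : X ≠ ⊥ := by
    rw [hXdef]
    exact fun h => hAbot ((Subgroup.map_eq_bot_iff_of_injective A Y.subtype_injective).mp h)
  have hXY : X ≤ Y := hXdef ▸ Subgroup.map_subtype_le _
  have hYN : Y ≤ Subgroup.normalizer (X : Set G) :=
    hXdef ▸ Cfsg.Agent.Lib.Helper3.BG12.le_normalizer_map_of_normal A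
  have hqY : q ∣ Nat.card Y := by
    obtain ⟨n, hn⟩ := hXq.exists_card_eq
    have hn0 : n ≠ 0 := by
      intro h0
      rw [h0, pow_zero] at hn
      exact hX1 (Subgroup.card_eq_one.mp hn)
    have h1 : q ∣ Nat.card X := by rw [hn]; exact dvd_pow_self q hn0
    exact h1.trans (Subgroup.card_dvd_of_le hXY)
  have hqσ : q ∈ sigma M := hY q hq hqY
  obtain ⟨P, hP, -⟩ := BT.exists_isMaxP_ge (p := q) (Y := ⊥) (H := M) IsPGroup.of_bot bot_le
  obtain ⟨-, hPtop, -⟩ := BT.sigma_sylow_le_commutator hG hM hqσ hP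
  obtain ⟨m, -, hXm⟩ := BT.exists_cj_ge hPtop hXq le_top
  have hX₁M : BG7.cj m⁻¹ X ≤ M := by
    have h5 := BG7.cj_mono (k := m⁻¹) hXm
    rw [BG7.cj_inv_cj] at h5
    exact h5.trans hP.1
  have hY₁N : BG7.cj m⁻¹ Y ≤ Subgroup.normalizer (BG7.cj m⁻¹ X : Set G) := by
    rw [← BT.cj_normalizer]; exact BG7.cj_mono hYN
  have hX₁1 : BG7.cj m⁻¹ X ≠ ⊥ := fun h => hX1 (BG7.cj_eq_bot_iff.mp h)
  obtain ⟨g, hg⟩ := s1425_main hG h1416 h1417 h1418 h1424 hM hqσ (hXq.map _) hX₁1 hX₁M hY₁N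
    (by intro p hp hpd; rw [BG7.card_cj] at hpd; exact hY p hp hpd)
  refine ⟨g * m⁻¹, ?_⟩
  show BG7.cj (g * m⁻¹) Y ≤ sigmaCore M
  rw [BG7.cj_mul]; exact hg

end Cfsg.Agent.Lib.Helper2.BGH
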