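import Mathlib
import Cfsg.Agent.Lib.Helper2.BGH7
import Cfsg.Agent.Lib.Helper7.BGD3

set_option autoImplicit false
set_option maxHeartbeats 4000000
set_option linter.unusedVariables false
set_option linter.unusedSectionVars false
set_option linter.style.longLine false

/-!
# Closed forms of the B&G rows S1418, S1422 - S1426 (as `BGRows.RowNNNN G`)
-/

universe u
namespace Cfsg.Agent.Lib.Helper2.BGH

open Cfsg Cfsg.Agent.Lib.Helper1 Cfsg.Agent.Lib.Helper7 Cfsg.Agent.Lib.Helper7.BGRows

variable {G : Type u} [Group G] [Finite G]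

theorem row1418 : Row1418 G := fun hG M hM E hE p _ hp A hA =>
  BGD.s1418_of hG M hM E hE p hp A hA BGD.row1416 BGD.row1417

theorem row1422 : Row1422 G := fun hG p _ P hP hPna =>
  s1422_of hG BGD.row1416 BGD.row1417 p P hP hPna

theorem row1423 : Row1423 G := fun hG M hM p _ hp X hXM hX P h =>
  s1423_of hG BGD.row1416 BGD.row1417 M hM p hp X hXM hX P h

theorem row1424 : Row1424 G := fun hG M hM q _ hq X hXq hX1 hXM Mstar hMs hne hNX S hXS =>
  s1424_of hG BGD.row1416 M hM q hq X hXq hX1 hXM Mstar hMs hne hNX S hXS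

theorem row1425 : Row1425 G := fun hG M hM Y hY1 hY =>
  s1425_of hG BGD.row1416 BGD.row1417 row1418 row1424 M hM Y hY1 hY

theorem row1426 : Row1426 G := fun hG M hM E hE =>
  s1426_of hG BGD.row1416 row1423 M hM E hE

end Cfsg.Agent.Lib.Helper2.BGH
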