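import Mathlib
import Cfsg.Agent.Lib.Helper2.BGHRows
import Cfsg.Agent.Lib.Helper1.Nilpotent
import Cfsg.Agent.Lib.Helper1.CoprimeGenCentralizers
import Cfsg.Agent.Lib.Lead.BGL1

set_option autoImplicit false
set_option maxHeartbeats 4000000
set_option linter.unusedVariables false
set_option linter.unusedSectionVars false
set_option linter.style.longLine false
set_option linter.unusedSimpArgs false
set_option linter.style.haveILetI false
set_option linter.deprecated false

/-!
# Tools for B&G 12.7 / 12.8: lines of an elementary abelian group of order `p ^ 2`,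
singular lines, transvections.
-/

open scoped commutatorElement Pointwise
universe u
namespace Cfsg.Agent.Lib.Helper2.BGH

open Cfsg Cfsg.Agent.Lib.Helper1 Cfsg.Agent.Lib.Helper7 Cfsg.Agent.Lib.Helper7.BGRows
open Cfsg.Agent.Lib.Lead

variable {G : Type u} [Group G] [Finite G]

/-- conjugate of a centralizer -/
theorem cj_centralizer (g : G) (X : Subgroup G) :
    BG7.cj g (Subgroup.centralizer (X : Set G)) =
      Subgroup.centralizer ((BG7.cj g X : Subgroup G) : Set G) := by
  ext x
  rw [BG7.mem_cj, Subgroup.mem_centralizer_iff, Subgroup.mem_centralizer_iff]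
  constructor
  · intro h y hy
    have hy' := BG7.mem_cj.mp hy
    have h1 := h _ hy'
    have e : y * x = g * ((g⁻¹ * y * g) * (g⁻¹ * x * g)) * g⁻¹ := by group
    rw [e, h1]; group
  · intro h y hy
    have hy' : g * y * g⁻¹ ∈ BG7.cj g X := BG7.conj_mem_cj hy
    have h1 := h _ hy'
    have e : y * (g⁻¹ * x * g) = g⁻¹ * ((g * y * g⁻¹) * x) * g := by group
    rw [e, h1]; group

theorem centralizer_zpowers (a : G) :
    Subgroup.centralizer ((Subgroup.zpowers a : Subgroup G) : Set G) = Subgroup.centralizer {a} := by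
  rw [Subgroup.zpowers_eq_closure, Subgroup.centralizer_closure]

/-- an element commuting with two subgroups commutes with their join -/
theorem sup_le_centralizer_singleton {X Z : Subgroup G} {s : G}
    (hX : ∀ x ∈ X, x * s = s * x) (hZ : ∀ z ∈ Z, z * s = s * z) :
    ∀ a ∈ X ⊔ Z, a * s = s * a := by
  have h1 : X ≤ Subgroup.centralizer ({s} : Set G) := by
    intro x hx
    rw [Subgroup.mem_centralizer_iff]
    intro t ht
    rw [Set.mem_singleton_iff] at ht
    rw [ht]; exact (hX x hx).symm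
  have h2 : Z ≤ Subgroup.centralizer ({s} : Set G) := by
    intro x hx
    rw [Subgroup.mem_centralizer_iff]
    intro t ht
    rw [Set.mem_singleton_iff] at ht
    rw [ht]; exact (hZ x hx).symm
  intro a ha
  have h3 := (sup_le h1 h2) ha
  rw [Subgroup.mem_centralizer_iff] at h3
  exact (h3 s (Set.mem_singleton s)).symm

/-- two distinct lines generate -/
theorem line_sup {p : ℕ} [hp : Fact p.Prime] {A X Y : Subgroup G} (hA2 : Nat.card A = p ^ 2)
    (hXA : X ≤ A) (hYA : Y ≤ A) (hX : Nat.card X = p) (hY : Nat.card Y = p) (hne : X ≠ Y) :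
    X ⊔ Y = A := by
  have hle : X ⊔ Y ≤ A := sup_le hXA hYA
  apply Subgroup.eq_of_le_of_card_ge hle
  have hd : Nat.card (X ⊔ Y : Subgroup G) ∣ p ^ 2 := hA2 ▸ Subgroup.card_dvd_of_le hle
  obtain ⟨i, hi, hci⟩ := (Nat.dvd_prime_pow hp.out).mp hd
  rw [hA2, hci]
  have hi2 : i = 2 := by
    by_contra hne2
    have hi1 : i ≤ 1 := by omega
    have hXle : X ≤ X ⊔ Y := le_sup_left
    have hcle : Nat.card (X ⊔ Y : Subgroup G) ≤ Nat.card X := by
      rw [hci, hX]
      calc p ^ i ≤ p ^ 1 := Nat.pow_le_pow_right hp.out.pos hi1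
        _ = p := pow_one p
    have heq : X = X ⊔ Y := Subgroup.eq_of_le_of_card_ge hXle hcle
    have hYX : Y ≤ X := by rw [heq]; exact le_sup_right
    exact hne (Subgroup.eq_of_le_of_card_ge hYX (by rw [hX, hY])).symm
  rw [hi2]

/-- a nonidentity element of a subgroup of prime order -/
theorem exists_gen {p : ℕ} [hp : Fact p.Prime] {X : Subgroup G} (hX : Nat.card X = p) :
    ∃ x ∈ X, x ≠ 1 ∧ Subgroup.zpowers x = X := by
  have hne : X ≠ ⊥ := by
    intro e
    rw [e, Subgroup.card_bot] at hX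
    exact hp.out.one_lt.ne hX
  obtain ⟨⟨x, hx⟩, hx1⟩ := (Subgroup.ne_bot_iff_exists_ne_one).mp hne
  have hx1' : x ≠ 1 := fun e => hx1 (Subtype.ext e)
  exact ⟨x, hx, hx1', BK.zpowers_eq_of_card_prime hX hx hx1'⟩

/-- natural-number power representation in a finite group -/
theorem exists_pow_of_mem_zpowers {x y : G} (h : y ∈ Subgroup.zpowers x) : ∃ n : ℕ, x ^ n = y := by
  have hfin : IsOfFinOrder x := isOfFinOrder_of_finite x
  have := (hfin.mem_powers_iff_mem_zpowers).mpr h
  exact (Submonoid.mem_powers_iff _ _).mp this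

/-- conjugating by an element of `M` preserves singularity of a subgroup -/
theorem sing_cj_of_mem {M X : Subgroup G} {m : G} (hm : m ∈ M)
    (h : sigmaCore M ⊓ Subgroup.centralizer (X : Set G) ≠ ⊥) :
    sigmaCore M ⊓ Subgroup.centralizer ((BG7.cj m X : Subgroup G) : Set G) ≠ ⊥ := by
  have h1 : BG7.cj m (sigmaCore M) = sigmaCore M :=
    BG7.cj_eq_of_mem_normalizer (BG7.le_normalizer_piCoreOf (sigma M) M hm)
  have h2 : BG7.cj m (sigmaCore M ⊓ Subgroup.centralizer (X : Set G)) =
      sigmaCore M ⊓ Subgroup.centralizer ((BG7.cj m X : Subgroup G) : Set G) := by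
    rw [BG7.cj_inf, h1, cj_centralizer]
  rw [← h2]
  intro e
  exact h (BG7.cj_eq_bot_iff.mp e)

/-- the normalizer of a maximal subgroup is itself -/
theorem normalizer_coatom (hG : IsMinSimpleOddOrder G) {M : Subgroup G} (hM : IsCoatom M) :
    Subgroup.normalizer (M : Set G) = M :=
  BG8.eq_of_coatom_le hM Subgroup.le_normalizer
    (BG7.normalizer_ne_top hG (BGE.coatom_ne_bot hG hM) hM.1)

/-- B&G 12.5/12.6: singular lines are moved to regular lines by elements of `N(A)` outside `M` -/
theorem sing_disjoint (hG : IsMinSimpleOddOrder G) {M : Subgroup G} (hM : IsCoatom M) {p : ℕ}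
    {A : Subgroup G}
    (hsing : ∀ X : Subgroup G, X ≤ A → Nat.card X = p →
      sigmaCore M ⊓ Subgroup.centralizer (X : Set G) ≠ ⊥ →
      (Subgroup.centralizer (X : Set G) ≤ M ∧ ∀ L : Subgroup G, IsCoatom L →
        Subgroup.centralizer (X : Set G) ≤ L → L = M))
    {n : G} (hnA : n ∈ Subgroup.normalizer (A : Set G)) (hnM : n ∉ M) {X : Subgroup G}
    (hXA : X ≤ A) (hX : Nat.card X = p)
    (hXs : sigmaCore M ⊓ Subgroup.centralizer (X : Set G) ≠ ⊥) :
    sigmaCore M ⊓ Subgroup.centralizer ((BG7.cj n X : Subgroup G) : Set G) = ⊥ := by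
  by_contra hcon
  have hX'A : BG7.cj n X ≤ A := by
    have := BG7.cj_mono (k := n) hXA
    rwa [BG7.cj_eq_of_mem_normalizer hnA] at this
  have hX' : Nat.card (BG7.cj n X : Subgroup G) = p := by rw [BG7.card_cj, hX]
  obtain ⟨h1, h2⟩ := hsing _ hX'A hX' hcon
  obtain ⟨h3, -⟩ := hsing X hXA hX hXs
  have h4 : Subgroup.centralizer ((BG7.cj n X : Subgroup G) : Set G) ≤ BG7.cj n M := by
    rw [← cj_centralizer]; exact BG7.cj_mono h3
  have h5 : BG7.cj n M = M := h2 _ (BG9.isCoatom_cj hM n) h4
  have h6 : n ∈ Subgroup.normalizer (M : Set G) := BG7.mem_normalizer_of_cj_eq h5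
  rw [normalizer_coatom hG hM] at h6
  exact hnM h6

/-- some line of `A` is singular -/
theorem exists_singular (hG : IsMinSimpleOddOrder G) {M : Subgroup G} (hM : IsCoatom M) {p : ℕ}
    [hp : Fact p.Prime] (hpσ : p ∉ sigma M) {A : Subgroup G} (hAM : A ≤ M)
    (hA : IsElementaryAbelian p A) (hA2 : Nat.card A = p ^ 2) :
    ∃ X : Subgroup G, X ≤ A ∧ Nat.card X = p ∧
      sigmaCore M ⊓ Subgroup.centralizer (X : Set G) ≠ ⊥ := by
  haveI : IsMulCommutative A := hA.1
  have hnc : ¬ IsCyclic A := BG9.not_isCyclic_of_elementary hp.out le_rfl hA (by rw [hA2])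
  have hAK : A ≤ Subgroup.normalizer (sigmaCore M : Set G) :=
    hAM.trans (BG7.le_normalizer_piCoreOf (sigma M) M)
  have hcop : (Nat.card A).Coprime (Nat.card (sigmaCore M)) := by
    apply BGD.coprime_sigmaCore hG hM
    intro q hq hqd
    rw [hA2] at hqd
    have : q = p := (Nat.prime_dvd_prime_iff_eq hq hp.out).mp (hq.dvd_of_dvd_pow hqd)
    rw [this]; exact hpσ
  have hgen := coprime_generated_by_centralizers A (sigmaCore M) hnc hAK hcop
  by_contra hcon
  push Not at hcon
  apply BGE.sigmaCore_ne_bot hG hM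
  rw [← hgen, eq_bot_iff]
  apply iSup₂_le
  intro a ha
  obtain ⟨haA, ha1⟩ := ha
  have hz : Nat.card (Subgroup.zpowers a) = p := by
    rw [Nat.card_zpowers]; exact orderOf_eq_prime (hA.2 a haA) ha1
  have := hcon (Subgroup.zpowers a) (by rw [Subgroup.zpowers_le]; exact haA) hz
  rw [centralizer_zpowers] at this
  rw [this]

/-- if `s ∉ M`, `s ^ p ∈ M` and `s ^ i ∈ M` then `p ∣ i` -/
theorem dvd_of_pow_mem {M : Subgroup G} {s : G} {p : ℕ} [hp : Fact p.Prime] (hs : s ∉ M)
    (hsp : s ^ p ∈ M) {i : ℕ} (hi : s ^ i ∈ M) : p ∣ i := by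
  by_contra hnd
  have hcop : Nat.Coprime i p := (Nat.Coprime.symm ((Nat.Prime.coprime_iff_not_dvd hp.out).mpr hnd))
  have hic : IsCoprime (i : ℤ) (p : ℤ) := Nat.isCoprime_iff_coprime.mpr hcop
  obtain ⟨a, b, hab⟩ := hic
  apply hs
  have e : s = (s ^ i) ^ a * (s ^ p) ^ b := by
    rw [← zpow_natCast s i, ← zpow_natCast s p, ← zpow_mul', ← zpow_mul', ← zpow_add, hab, zpow_one]
  rw [e]
  exact M.mul_mem (M.zpow_mem hi a) (M.zpow_mem hsp b)

/-- **Transvection structure.**  A `p`-group `T` normalizing `A` (elementary abelian of order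
`p ^ 2`, `A ≤ T`) and an element `s ∈ T` not centralizing `A`. -/
theorem tv_struct {p : ℕ} [hp : Fact p.Prime] {T A : Subgroup G} (hT : IsPGroup p T)
    (hAT : A ≤ T) (hTA : T ≤ Subgroup.normalizer (A : Set G)) (hA : IsElementaryAbelian p A)
    (hA2 : Nat.card A = p ^ 2) {s : G} (hsT : s ∈ T)
    (hsA : s ∉ Subgroup.centralizer (A : Set G)) :
    ∃ Z₀ : Subgroup G, Z₀ ≤ A ∧ Nat.card Z₀ = p ∧ Z₀ ≤ Subgroup.centralizer (T : Set G) ∧
      ∀ X : Subgroup G, X ≤ A → Nat.card X = p → X ≠ Z₀ →
        s ^ p ∈ Subgroup.centralizer (A : Set G) ∧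
        ∀ Y : Subgroup G, Y ≤ A → Nat.card Y = p → Y ≠ Z₀ → ∃ i : ℕ, Y = BG7.cj (s ^ i) X := by
  haveI : Finite ↥T := inferInstance
  haveI hnil : Group.IsNilpotent ↥T := hT.isNilpotent
  haveI hn : (A.subgroupOf T).Normal := (Subgroup.normal_subgroupOf_iff_le_normalizer hAT).mpr hTA
  have hne : A.subgroupOf T ≠ ⊥ := by
    intro e
    have h1 : Nat.card (A.subgroupOf T) = p ^ 2 := by rw [card_subgroupOf_of_le hAT, hA2]
    rw [e, Subgroup.card_bot] at h1
    have : 1 < p ^ 2 := Nat.one_lt_pow two_ne_zero hp.out.one_lt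
    omega
  have h0 := normal_inf_center_ne_bot (A.subgroupOf T) hne
  obtain ⟨⟨c, hc⟩, hc1'⟩ := (Subgroup.ne_bot_iff_exists_ne_one).mp h0
  have hc1 : c ≠ 1 := fun e => hc1' (Subtype.ext e)
  obtain ⟨hcA, hcZ⟩ := Subgroup.mem_inf.mp hc
  have ha₁A : (c : G) ∈ A := Subgroup.mem_subgroupOf.mp hcA
  have ha₁1 : (c : G) ≠ 1 := fun e => hc1 (Subtype.ext e)
  have ha₁T : ∀ t ∈ T, t * (c : G) = (c : G) * t := by
    intro t ht
    have := Subgroup.mem_center_iff.mp hcZ ⟨t, ht⟩
    exact congrArg Subtype.val this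
  have hcomA : ∀ a ∈ A, ∀ b ∈ A, a * b = b * a := fun a ha b hb => BGL.comm_of hA.1 ha hb
  refine ⟨Subgroup.zpowers (c : G), ?_, ?_, ?_, ?_⟩
  · rw [Subgroup.zpowers_le]; exact ha₁A
  · rw [Nat.card_zpowers]; exact orderOf_eq_prime (hA.2 _ ha₁A) ha₁1
  · intro g hg
    obtain ⟨k, rfl⟩ := Subgroup.mem_zpowers_iff.mp hg
    rw [Subgroup.mem_centralizer_iff]
    intro t ht
    exact ((show Commute t (c : G) from ha₁T t ht).zpow_right k).eq
  · have hZA : Subgroup.zpowers (c : G) ≤ A := by rw [Subgroup.zpowers_le]; exact ha₁A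
    have hZp : Nat.card (Subgroup.zpowers (c : G)) = p := by
      rw [Nat.card_zpowers]; exact orderOf_eq_prime (hA.2 _ ha₁A) ha₁1
    have hZT : Subgroup.zpowers (c : G) ≤ Subgroup.centralizer (T : Set G) := by
      intro g hg
      obtain ⟨k, rfl⟩ := Subgroup.mem_zpowers_iff.mp hg
      rw [Subgroup.mem_centralizer_iff]
      intro t ht
      exact ((show Commute t (c : G) from ha₁T t ht).zpow_right k).eq
    have hnc : ¬ A ≤ Subgroup.centralizer (T : Set G) := by
      intro hle
      apply hsA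
      rw [Subgroup.mem_centralizer_iff]
      intro a ha
      have := hle ha
      rw [Subgroup.mem_centralizer_iff] at this
      exact (this s hsT).symm
    have tv := BGE.tv_lemma hT hAT hTA hA2 hZA hZp hZT hnc
    intro X hXA hX hXZ
    obtain ⟨x, hxX, hx1, hxgen⟩ := exists_gen hX
    have hxA : x ∈ A := hXA hxX
    -- the commutator element
    obtain ⟨z, hz⟩ : ∃ z : G, z = ⁅x⁻¹, s⁆ := ⟨_, rfl⟩
    have hzZ : z ∈ Subgroup.zpowers (c : G) := by rw [hz]; exact tv _ (A.inv_mem hxA) s hsT
    have hzA : z ∈ A := hZA hzZ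
    have h1 : s * x * s⁻¹ = x * z := by rw [hz, commutatorElement_def]; group
    have h2 : s * z = z * s := by
      have := hZT hzZ
      rw [Subgroup.mem_centralizer_iff] at this
      exact this s hsT
    have hconj := BGE.conj_pow_formula h1 h2
    have hsupA : X ⊔ Subgroup.zpowers (c : G) = A := line_sup hA2 hXA hZA hX hZp hXZ
    have hZs : ∀ g ∈ Subgroup.zpowers (c : G), ∀ t ∈ T, g * t = t * g := by
      intro g hg t ht
      have := hZT hg
      rw [Subgroup.mem_centralizer_iff] at this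
      exact (this t ht).symm
    have hz1 : z ≠ 1 := by
      intro e
      apply hsA
      rw [e, mul_one] at h1
      have hxs : x * s = s * x := by
        calc x * s = (s * x * s⁻¹) * s := by rw [h1]
          _ = s * x := by group
      have hXs : ∀ y ∈ X, y * s = s * y := by
        intro y hy
        rw [← hxgen] at hy
        obtain ⟨k, rfl⟩ := Subgroup.mem_zpowers_iff.mp hy
        exact ((show Commute x s from hxs).zpow_left k).eq
      have := sup_le_centralizer_singleton hXs (fun g hg => hZs g hg s hsT)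
      rw [hsupA] at this
      rw [Subgroup.mem_centralizer_iff]
      exact this
    have hzgen : Subgroup.zpowers z = Subgroup.zpowers (c : G) :=
      BK.zpowers_eq_of_card_prime hZp hzZ hz1
    have hxZ : x ∉ Subgroup.zpowers (c : G) := by
      intro hx
      apply hXZ
      rw [← hxgen]
      exact BK.zpowers_eq_of_card_prime hZp hx hx1
    constructor
    · -- s ^ p centralizes A
      have h3 := hconj p
      rw [hA.2 z hzA, mul_one] at h3
      have hxs : x * s ^ p = s ^ p * x := by
        calc x * s ^ p = (s ^ p * x * (s ^ p)⁻¹) * s ^ p := by rw [h3]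
          _ = s ^ p * x := by group
      have hXs : ∀ y ∈ X, y * s ^ p = s ^ p * y := by
        intro y hy
        rw [← hxgen] at hy
        obtain ⟨k, rfl⟩ := Subgroup.mem_zpowers_iff.mp hy
        exact ((show Commute x (s ^ p) from hxs).zpow_left k).eq
      have := sup_le_centralizer_singleton hXs
        (fun g hg => hZs g hg (s ^ p) (T.pow_mem hsT p))
      rw [hsupA] at this
      rw [Subgroup.mem_centralizer_iff]
      exact this
    · intro Y hYA hY hYZ
      obtain ⟨y, hyY, hy1, hygen⟩ := exists_gen hY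
      have hyA : y ∈ A := hYA hyY
      rw [← hsupA] at hyA
      have hcXZ : ∀ a ∈ X, ∀ b ∈ Subgroup.zpowers (c : G), a * b = b * a :=
        fun a ha b hb => hcomA a (hXA ha) b (hZA hb)
      obtain ⟨a, haX, b, hbZ, hyab⟩ := ComplIn.mem_sup_of_commute hcXZ hyA
      have ha1 : a ≠ 1 := by
        intro e
        apply hYZ
        rw [e, one_mul] at hyab
        rw [← hygen]
        exact BK.zpowers_eq_of_card_prime hZp (hyab ▸ hbZ) hy1
      have hagen : Subgroup.zpowers a = X := BK.zpowers_eq_of_card_prime hX haX ha1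
      have hxa : x ∈ Subgroup.zpowers a := by rw [hagen]; exact hxX
      obtain ⟨m, hm⟩ := exists_pow_of_mem_zpowers hxa
      have hbm : b ^ m ∈ Subgroup.zpowers z := by
        rw [hzgen]; exact Subgroup.pow_mem _ hbZ m
      obtain ⟨i, hi⟩ := exists_pow_of_mem_zpowers hbm
      have hym : y ^ m = x * z ^ i := by
        rw [hyab, (show Commute a b from hcXZ a haX b hbZ).mul_pow, hm, hi]
      refine ⟨i, ?_⟩
      have hymY : y ^ m ∈ Y := Subgroup.pow_mem _ hyY m
      have hym1 : y ^ m ≠ 1 := by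
        intro e
        rw [hym] at e
        apply hxZ
        have : x = (z ^ i)⁻¹ := eq_inv_of_mul_eq_one_left e
        rw [this]
        exact Subgroup.inv_mem _ (Subgroup.pow_mem _ hzZ i)
      have hymC : y ^ m ∈ BG7.cj (s ^ i) X := by
        rw [hym, ← hconj i]
        exact BG7.conj_mem_cj hxX
      have hcC : Nat.card (BG7.cj (s ^ i) X : Subgroup G) = p := by rw [BG7.card_cj, hX]
      rw [← BK.zpowers_eq_of_card_prime hY hymY hym1, BK.zpowers_eq_of_card_prime hcC hymC hym1]

end Cfsg.Agent.Lib.Helper2.BGH
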