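import Mathlib
import Cfsg.Agent.Lib.Helper2.BGH8

set_option autoImplicit false
set_option maxHeartbeats 4000000
set_option linter.unusedVariables false
set_option linter.unusedSectionVars false
set_option linter.style.longLine false
set_option linter.unusedSimpArgs false
set_option linter.style.haveILetI false
set_option linter.deprecated false

/-!
# B&G Theorem 12.8 (S1419), part 1: the Sylow `p`-subgroup of `G` and the element `s`.
-/

open scoped commutatorElement Pointwise
universe u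
namespace Cfsg.Agent.Lib.Helper2.BGH

open Cfsg Cfsg.Agent.Lib.Helper1 Cfsg.Agent.Lib.Helper7 Cfsg.Agent.Lib.Helper7.BGRows
open Cfsg.Agent.Lib.Lead

variable {G : Type u} [Group G] [Finite G]

/-- a normal `p`-subgroup of `M` lies in every Sylow `p`-subgroup of `M` (as subgroups of `G`) -/
theorem normal_pgroup_le_sylow {p : ℕ} [hp : Fact p.Prime] {M Q : Subgroup G} (hQM : Q ≤ M)
    (hMQ : M ≤ Subgroup.normalizer (Q : Set G)) (hQ : IsPGroup p Q) (P : Sylow p M) :
    Q ≤ (P : Subgroup M).map M.subtype := by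
  haveI hn : (Q.subgroupOf M).Normal := (Subgroup.normal_subgroupOf_iff_le_normalizer hQM).mpr hMQ
  have hQ' : IsPGroup p (Q.subgroupOf M) := hQ.comap_subtype
  have hsup : IsPGroup p ((P : Subgroup M) ⊔ Q.subgroupOf M : Subgroup M) :=
    IsPGroup.to_sup_of_normal_right P.2 hQ'
  have := P.is_maximal' hsup le_sup_left
  intro x hx
  have hx' : (⟨x, hQM hx⟩ : ↥M) ∈ (P : Subgroup M) := by
    rw [← this]
    exact (le_sup_right : Q.subgroupOf M ≤ _) (Subgroup.mem_subgroupOf.mpr hx)
  exact ⟨⟨x, hQM hx⟩, hx', rfl⟩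

/-- B&G 12.8, start: a Sylow `p`-subgroup `S` of `G` containing `A` and a `p`-element `s ∈ S`
normalizing `A`, outside `M`. -/
theorem exists_out_elt (hG : IsMinSimpleOddOrder G) {M : Subgroup G} (hM : IsCoatom M) {p : ℕ}
    [hp : Fact p.Prime] (hpτ : p ∈ tau2 M)
    (hS : ∀ S : Sylow p G, ¬ IsMulCommutative (S : Subgroup G)) {A : Subgroup G} (hAM : A ≤ M)
    (hA : IsElementaryAbelian p A) (hA2 : Nat.card A = p ^ 2) :
    ∃ (P : Sylow p M) (S : Sylow p G) (s : G), A ≤ (P : Subgroup M).map M.subtype ∧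
      (P : Subgroup M).map M.subtype ≤ (S : Subgroup G) ∧ s ∈ (S : Subgroup G) ∧
      s ∈ Subgroup.normalizer (A : Set G) ∧ s ∉ M ∧ s ∉ Subgroup.centralizer (A : Set G) := by
  have hAp : IsPGroup p A := BG9.isPGroup_of_isElementaryAbelian hA
  obtain ⟨P, hAP⟩ := BGD.exists_sylow_ge hAp hAM
  obtain ⟨-, h17b, -, -, -, -⟩ := BGD.row1417 hG M hM p hpτ A ⟨hAM, hA, hA2⟩
  obtain ⟨hPab, hPc⟩ := h17b P
  obtain ⟨hΩ, hNP⟩ := hPc hAP
  have hCA : Subgroup.centralizer (A : Set G) ≤ M :=
    (BGD.row1416 hG M hM p A ⟨hAM, hA, hA2⟩).1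
  have hP0p : IsPGroup p ((P : Subgroup M).map M.subtype) := P.2.map _
  obtain ⟨S, hP0S⟩ := hP0p.exists_le_sylow
  have hP0comm : ∀ x ∈ (P : Subgroup M).map M.subtype, ∀ y ∈ (P : Subgroup M).map M.subtype,
      x * y = y * x := by
    rintro x ⟨x', hx', rfl⟩ y ⟨y', hy', rfl⟩
    have := BGL.comm_of hPab hx' hy'
    exact congrArg Subtype.val this
  have hne : ¬ (S : Subgroup G) ≤ (P : Subgroup M).map M.subtype := by
    intro hle
    apply hS S
    refine ⟨⟨fun x y => ?_⟩⟩
    apply Subtype.ext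
    exact hP0comm _ (hle x.2) _ (hle y.2)
  haveI hnil : Group.IsNilpotent ↥(S : Subgroup G) := S.2.isNilpotent
  have hlt : ((P : Subgroup M).map M.subtype).subgroupOf (S : Subgroup G) < ⊤ := by
    rw [lt_top_iff_ne_top]
    intro e
    apply hne
    intro x hx
    have : (⟨x, hx⟩ : ↥(S : Subgroup G)) ∈
        ((P : Subgroup M).map M.subtype).subgroupOf (S : Subgroup G) := by rw [e]; trivial
    exact Subgroup.mem_subgroupOf.mp this
  have hnc := normalizerCondition_of_isNilpotent (G := ↥(S : Subgroup G)) _ hlt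
  obtain ⟨t, htN, htP⟩ := SetLike.exists_of_lt hnc
  have hsP0 : (t : G) ∉ (P : Subgroup M).map M.subtype := fun h =>
    htP (Subgroup.mem_subgroupOf.mpr h)
  have hsN : (t : G) ∈ Subgroup.normalizer (((P : Subgroup M).map M.subtype : Subgroup G) : Set G) := by
    apply BG9.mem_normalizer_of_cj_le
    intro x hx
    have hg := BG7.mem_cj.mp hx
    have hgS : (t : G)⁻¹ * x * (t : G) ∈ (S : Subgroup G) := hP0S hg
    have h1 := (Subgroup.mem_normalizer_iff.mp htN ⟨_, hgS⟩).mp (Subgroup.mem_subgroupOf.mpr hg)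
    have h2 := Subgroup.mem_subgroupOf.mp h1
    have e : ((t * ⟨(t : G)⁻¹ * x * (t : G), hgS⟩ * t⁻¹ : ↥(S : Subgroup G)) : G) = x := by
      simp only [Subgroup.coe_mul, Subgroup.coe_inv]
      group
    rwa [e] at h2
  have hsNA : (t : G) ∈ Subgroup.normalizer (A : Set G) := by
    apply BG9.mem_normalizer_of_cj_le
    intro x hx
    have hg := BG7.mem_cj.mp hx
    have hxP0 : x ∈ (P : Subgroup M).map M.subtype := by
      have h1 : BG7.cj (t : G) ((P : Subgroup M).map M.subtype) = (P : Subgroup M).map M.subtype :=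
        BG7.cj_eq_of_mem_normalizer hsN
      rw [← h1, BG7.mem_cj]
      exact hAP hg
    apply (hΩ x hxP0).mp
    have e : x = (t : G) * ((t : G)⁻¹ * x * (t : G)) * (t : G)⁻¹ := by group
    rw [e, conj_pow, hA.2 _ hg]
    group
  have hsM : (t : G) ∉ M := by
    intro hsM
    apply hsP0
    have hQp : IsPGroup p (((S : Subgroup G) ⊓ M).subgroupOf M) :=
      (S.2.to_le inf_le_left).comap_subtype
    have hle : (P : Subgroup M) ≤ ((S : Subgroup G) ⊓ M).subgroupOf M := by
      intro x hx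
      rw [Subgroup.mem_subgroupOf]
      exact ⟨hP0S ⟨x, hx, rfl⟩, x.2⟩
    have heq := P.is_maximal' hQp hle
    have : (⟨(t : G), hsM⟩ : ↥M) ∈ (P : Subgroup M) := by
      rw [← heq, Subgroup.mem_subgroupOf]
      exact ⟨t.2, hsM⟩
    exact ⟨_, this, rfl⟩
  exact ⟨P, S, (t : G), hAP, hP0S, t.2, hsNA, hsM, fun h => hsM (hCA h)⟩

/-- **B&G 12.8, the key fact on `p`-th powers** (via S1412 / S1453): if `S` is a nonabelian
Sylow `p`-subgroup and `A ≤ S` is elementary abelian of order `p ^ 2`, maximal among elementary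
abelian `p`-subgroups, then every `p`-th power of an element of `S` which lies in `A` is central
in `S`. -/
theorem pow_central (hG : IsMinSimpleOddOrder G) {p : ℕ} [hp : Fact p.Prime] (S : Sylow p G)
    (hSna : ¬ IsMulCommutative (S : Subgroup G)) {A : Subgroup G} (hAS : A ≤ (S : Subgroup G))
    (hA : IsElementaryAbelian p A) (hA2 : Nat.card A = p ^ 2)
    (hmax : ∀ B : Subgroup G, IsElementaryAbelian p B → A ≤ B → B = A) :
    ∀ w ∈ (S : Subgroup G), w ^ p ∈ A → ∀ t ∈ (S : Subgroup G), t * w ^ p = w ^ p * t := by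
  have hp2 : p ≠ 2 := by
    apply BG9.odd_prime_of_dvd hG
    have h1 : p ∣ Nat.card A := by rw [hA2]; exact dvd_pow_self p two_ne_zero
    exact h1.trans (Subgroup.card_subgroup_dvd_card A)
  by_cases hr : PRankLE p 2 (S : Subgroup G)
  · -- rank two: S1412
    rcases Cfsg.Agent.S1412.result hG p S hr with hab | ⟨P₁, P₂, hsup, hcomm, -, -, hexp, hcyc, hcl⟩
    · exact absurd hab hSna
    intro w hw hwA t ht
    rw [← hsup] at hw ht
    obtain ⟨u, hu, v, hv, rfl⟩ := ComplIn.mem_sup_of_commute hcomm hw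
    have hup : u ^ p = 1 := by
      have := Monoid.pow_exponent_eq_one (⟨u, hu⟩ : ↥P₁)
      rw [hexp] at this
      exact congrArg Subtype.val this
    have hwp : (u * v) ^ p = v ^ p := by
      rw [(show Commute u v from hcomm u hu v hv).mul_pow, hup, one_mul]
    rw [hwp] at hwA ⊢
    have hvpP₂ : v ^ p ∈ P₂ := P₂.pow_mem hv p
    have hvpp : (v ^ p) ^ p = 1 := hA.2 _ hwA
    have hmem : v ^ p ∈ P₁ ⊓ Subgroup.centralizer (P₁ : Set G) := by
      rw [← hcl]
      exact Subgroup.subset_closure ⟨hvpP₂, hvpp⟩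
    have hc1 : ∀ a ∈ P₁, a * v ^ p = v ^ p * a := by
      intro a ha
      have := (Subgroup.mem_inf.mp hmem).2
      rw [Subgroup.mem_centralizer_iff] at this
      exact this a ha
    have hc2 : ∀ b ∈ P₂, b * v ^ p = v ^ p * b := by
      intro b hb
      haveI := hcyc
      have := BGE.comm_of_isCyclic (⟨b, hb⟩ : ↥P₂) ⟨v ^ p, hvpP₂⟩
      exact congrArg Subtype.val this
    exact sup_le_centralizer_singleton hc1 hc2 t ht
  · -- rank at least three: S1453 inside `S`
    have hSp : IsPGroup p ↥(S : Subgroup G) := S.2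
    have hE : IsElementaryAbelian p (A.subgroupOf (S : Subgroup G)) := by
      refine ⟨⟨⟨fun x y => ?_⟩⟩, fun x hx => ?_⟩
      · apply Subtype.ext
        apply Subtype.ext
        exact BGL.comm_of hA.1 (Subgroup.mem_subgroupOf.mp x.2) (Subgroup.mem_subgroupOf.mp y.2)
      · apply Subtype.ext
        exact hA.2 _ (Subgroup.mem_subgroupOf.mp hx)
    have hE2 : Nat.card (A.subgroupOf (S : Subgroup G)) = p ^ 2 := by
      rw [card_subgroupOf_of_le hAS, hA2]
    have hEmax : ∀ B : Subgroup ↥(S : Subgroup G), IsElementaryAbelian p B →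
        A.subgroupOf (S : Subgroup G) ≤ B → B = A.subgroupOf (S : Subgroup G) := by
      intro B hB hEB
      have hB' : IsElementaryAbelian p (B.map (S : Subgroup G).subtype) := by
        refine ⟨⟨⟨fun x y => ?_⟩⟩, fun x hx => ?_⟩
        · obtain ⟨x, hx⟩ := x
          obtain ⟨y, hy⟩ := y
          obtain ⟨x', hx', rfl⟩ := hx
          obtain ⟨y', hy', rfl⟩ := hy
          apply Subtype.ext
          have := BGL.comm_of hB.1 hx' hy'
          show (S : Subgroup G).subtype x' * (S : Subgroup G).subtype y' =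
            (S : Subgroup G).subtype y' * (S : Subgroup G).subtype x'
          rw [← map_mul, this, map_mul]
        · obtain ⟨x', hx', rfl⟩ := hx
          rw [← map_pow, hB.2 x' hx', map_one]
      have hAB : A ≤ B.map (S : Subgroup G).subtype := by
        intro a ha
        exact ⟨⟨a, hAS ha⟩, hEB (Subgroup.mem_subgroupOf.mpr ha), rfl⟩
      have h1 := hmax _ hB' hAB
      ext x
      rw [Subgroup.mem_subgroupOf, ← h1]
      constructor
      · intro hx; exact ⟨x, hx, rfl⟩
      · rintro ⟨y, hy, hyx⟩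
        have : y = x := Subtype.ext hyx
        rwa [← this]
    obtain ⟨hET, hZ1, -, hTchar, hTidx⟩ := Rk.s1453 hp2 hSp hr _ hE hE2 hEmax
    have hcenT : Subgroup.center ↥(S : Subgroup G) ≤ Subgroup.centralizer ((Subgroup.closure
      {x : ↥(S : Subgroup G) | x ∈ Subgroup.upperCentralSeries ↥(S : Subgroup G) 2 ∧ x ^ p = 1} :
        Subgroup ↥(S : Subgroup G)) : Set ↥(S : Subgroup G)) := Subgroup.center_le_centralizer _
    generalize Subgroup.centralizer ((Subgroup.closure
      {x : ↥(S : Subgroup G) | x ∈ Subgroup.upperCentralSeries ↥(S : Subgroup G) 2 ∧ x ^ p = 1} :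
        Subgroup ↥(S : Subgroup G)) : Set ↥(S : Subgroup G)) = T at hET hTchar hTidx hcenT
    haveI : T.Characteristic := hTchar
    haveI : T.Normal := Subgroup.normal_of_characteristic T
    obtain ⟨Z₁, hZ₁def⟩ : ∃ Z₁ : Subgroup ↥(S : Subgroup G), Z₁ = Subgroup.closure
      {x : ↥(S : Subgroup G) | x ∈ Subgroup.center ↥(S : Subgroup G) ∧ x ^ p = 1} := ⟨_, rfl⟩
    rw [← hZ₁def] at hZ1
    have hZ₁cen : Z₁ ≤ Subgroup.center ↥(S : Subgroup G) := by
      rw [hZ₁def, Subgroup.closure_le]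
      intro x hx; exact hx.1
    have hZ₁E : Z₁ ≤ A.subgroupOf (S : Subgroup G) := by
      rw [hZ₁def, Subgroup.closure_le]
      intro x hx
      apply BGL.mem_of_max hE hEmax hx.2
      intro a _
      exact (Subgroup.mem_center_iff.mp hx.1 a)
    -- T contains the centre?  `T` is a centralizer, but we generalized; use index instead
    intro w hw hwA t ht
    have hwT : (⟨w, hw⟩ : ↥(S : Subgroup G)) ^ p ∈ T := by
      have := Subgroup.pow_index_mem T (⟨w, hw⟩ : ↥(S : Subgroup G))
      rwa [hTidx] at this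
    have hwE : (⟨w, hw⟩ : ↥(S : Subgroup G)) ^ p ∈ A.subgroupOf (S : Subgroup G) := by
      rw [Subgroup.mem_subgroupOf]; exact hwA
    have hZ₁D : Z₁ ≤ A.subgroupOf (S : Subgroup G) ⊓ T := le_inf hZ₁E (hZ₁cen.trans hcenT)
    have hDd : Nat.card (A.subgroupOf (S : Subgroup G) ⊓ T : Subgroup ↥(S : Subgroup G)) ∣ p ^ 2 := by
      rw [← hE2]; exact Subgroup.card_dvd_of_le inf_le_left
    obtain ⟨i, hi, hci⟩ := (Nat.dvd_prime_pow hp.out).mp hDd
    have hi2 : i ≠ 2 := by
      intro e
      apply hET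
      have : A.subgroupOf (S : Subgroup G) ⊓ T = A.subgroupOf (S : Subgroup G) :=
        Subgroup.eq_of_le_of_card_ge inf_le_left (by rw [hci, hE2, e])
      rw [← this]; exact inf_le_right
    have hi1 : i ≤ 1 := by omega
    have hDZ : Z₁ = A.subgroupOf (S : Subgroup G) ⊓ T := by
      apply Subgroup.eq_of_le_of_card_ge hZ₁D
      rw [hci, hZ1]
      calc p ^ i ≤ p ^ 1 := Nat.pow_le_pow_right hp.out.pos hi1
        _ = p := pow_one p
    have hwZ : (⟨w, hw⟩ : ↥(S : Subgroup G)) ^ p ∈ Z₁ := by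
      rw [hDZ]; exact ⟨hwE, hwT⟩
    have := Subgroup.mem_center_iff.mp (hZ₁cen hwZ) ⟨t, ht⟩
    exact congrArg Subtype.val this

end Cfsg.Agent.Lib.Helper2.BGH
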