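import Mathlib
import Cfsg.Agent.Lib.Helper2.BGH9
import Cfsg.Agent.Lib.Helper7.BGK3
import Cfsg.Agent.Lib.Lead.NilpotentCoprime

set_option autoImplicit false
set_option maxHeartbeats 4000000
set_option linter.unusedVariables false
set_option linter.unusedSectionVars false
set_option linter.style.longLine false
set_option linter.unusedSimpArgs false
set_option linter.style.haveILetI false
set_option linter.deprecated false

/-!
# B&G Theorem 12.8 (S1419), part 2: the unique singular line, `τ₂(M) = {p}`.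
-/

open scoped commutatorElement Pointwise
universe u
namespace Cfsg.Agent.Lib.Helper2.BGH

open Cfsg Cfsg.Agent.Lib.Helper1 Cfsg.Agent.Lib.Helper7 Cfsg.Agent.Lib.Helper7.BGRows
open Cfsg.Agent.Lib.Lead

variable {G : Type u} [Group G] [Finite G]

/-- B&G 12.8: structure around the unique singular line. -/
theorem s1419_struct (hG : IsMinSimpleOddOrder G) {M : Subgroup G} (hM : IsCoatom M)
    {E : Subgroup G} (hE : IsComplIn E (sigmaCore M) M) {p : ℕ} [hp : Fact p.Prime]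
    (hpτ : p ∈ tau2 M) (hS : ∀ S : Sylow p G, ¬ IsMulCommutative (S : Subgroup G))
    {A : Subgroup G} (hAE : A ≤ E) (hA : IsElementaryAbelian p A) (hA2 : Nat.card A = p ^ 2) :
    ∃ (P : Sylow p M) (S : Sylow p G) (s : G) (Z₀ X₁ : Subgroup G),
      A ≤ (P : Subgroup M).map M.subtype ∧ (P : Subgroup M).map M.subtype ≤ (S : Subgroup G) ∧
      s ∈ (S : Subgroup G) ∧ s ∈ Subgroup.normalizer (A : Set G) ∧ s ∉ M ∧
      s ∉ Subgroup.centralizer (A : Set G) ∧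
      Z₀ ≤ A ∧ Nat.card Z₀ = p ∧ (∀ z ∈ Z₀, z * s = s * z) ∧
      X₁ ≤ A ∧ Nat.card X₁ = p ∧ X₁ ≠ Z₀ ∧
      sigmaCore M ≤ Subgroup.centralizer (X₁ : Set G) ∧
      (∀ Y : Subgroup G, Y ≤ A → Nat.card Y = p → Y ≠ X₁ →
        sigmaCore M ⊓ Subgroup.centralizer (Y : Set G) = ⊥ ∧
          ¬ Subgroup.centralizer (Y : Set G) ≤ M) ∧
      (∀ Y : Subgroup G, Y ≤ A → Nat.card Y = p → (∀ y ∈ Y, y * s = s * y) → Y = Z₀) := by
  have hEM : E ≤ M := hE.1
  have hAM : A ≤ M := hAE.trans hEM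
  have hpσ : p ∉ sigma M := hpτ.2.1
  obtain ⟨P, S, s, hAP, hPS, hsS, hsNA, hsM, hsCA⟩ := exists_out_elt hG hM hpτ hS hAM hA hA2
  obtain ⟨-, -, -, hCMA, h17e, -⟩ := BGD.row1417 hG M hM p hpτ A ⟨hAM, hA, hA2⟩
  obtain ⟨-, ⟨hCA, hMNA, hNAM⟩, hsing⟩ := row1418 hG M hM E hE p hpτ A ⟨hAE, hA, hA2⟩
  have hCAM : Subgroup.centralizer (A : Set G) ≤ M := hCA.trans inf_le_left
  obtain ⟨T, hTdef⟩ : ∃ T : Subgroup G, T = (S : Subgroup G) ⊓ Subgroup.normalizer (A : Set G) :=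
    ⟨_, rfl⟩
  have hTp : IsPGroup p T := by rw [hTdef]; exact S.2.to_le inf_le_left
  have hAT : A ≤ T := by rw [hTdef]; exact le_inf (hAP.trans hPS) Subgroup.le_normalizer
  have hTA : T ≤ Subgroup.normalizer (A : Set G) := by rw [hTdef]; exact inf_le_right
  have hsT : s ∈ T := by rw [hTdef]; exact ⟨hsS, hsNA⟩
  obtain ⟨Z₀, hZA, hZp, hZT, hstruct⟩ := tv_struct hTp hAT hTA hA hA2 hsT hsCA
  have hZs : ∀ z ∈ Z₀, z * s = s * z := by
    intro z hz
    have := hZT hz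
    rw [Subgroup.mem_centralizer_iff] at this
    exact (this s hsT).symm
  have hsZ : s ∈ Subgroup.centralizer (Z₀ : Set G) := by
    rw [Subgroup.mem_centralizer_iff]; exact hZs
  have hcjZ : BG7.cj s Z₀ = Z₀ := cj_eq_of_mem_centralizer hsZ
  have hZreg : sigmaCore M ⊓ Subgroup.centralizer (Z₀ : Set G) = ⊥ := by
    by_contra hcon
    have := sing_disjoint hG hM hsing hsNA hsM hZA hZp hcon
    rw [hcjZ] at this
    exact hcon this
  obtain ⟨X₁, hX₁A, hX₁p, hX₁s⟩ := exists_singular hG hM hpσ hAM hA hA2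
  have hX₁Z : X₁ ≠ Z₀ := by
    intro e
    rw [e] at hX₁s
    exact hX₁s hZreg
  obtain ⟨hspC, horb⟩ := hstruct X₁ hX₁A hX₁p hX₁Z
  have hspM : s ^ p ∈ M := hCAM hspC
  have hpowN : ∀ i : ℕ, s ^ i ∈ Subgroup.normalizer (A : Set G) := fun i =>
    Subgroup.pow_mem _ hsNA i
  have hkey : ∀ i : ℕ, s ^ i ∈ M → BG7.cj (s ^ i) X₁ = X₁ := by
    intro i hi
    obtain ⟨k, rfl⟩ := dvd_of_pow_mem hsM hspM hi
    have h1 : s ^ (p * k) ∈ Subgroup.centralizer (A : Set G) := by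
      rw [pow_mul]; exact Subgroup.pow_mem _ hspC k
    apply cj_eq_of_mem_centralizer
    exact (Subgroup.centralizer_le (SetLike.coe_subset_coe.mpr hX₁A)) h1
  have huniq : ∀ Y : Subgroup G, Y ≤ A → Nat.card Y = p →
      sigmaCore M ⊓ Subgroup.centralizer (Y : Set G) ≠ ⊥ → Y = X₁ := by
    intro Y hYA hYp hYs
    have hYZ : Y ≠ Z₀ := by
      intro e
      rw [e] at hYs
      exact hYs hZreg
    obtain ⟨i, hi⟩ := horb Y hYA hYp hYZ
    by_cases hiM : s ^ i ∈ M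
    · rw [hi, hkey i hiM]
    · exfalso
      have := sing_disjoint hG hM hsing (hpowN i) hiM hX₁A hX₁p hX₁s
      rw [← hi] at this
      exact hYs this
  have hle : sigmaCore M ≤ Subgroup.centralizer (X₁ : Set G) := by
    haveI : IsMulCommutative A := hA.1
    have hnc : ¬ IsCyclic A := BG9.not_isCyclic_of_elementary hp.out le_rfl hA (by rw [hA2])
    have hAK : A ≤ Subgroup.normalizer (sigmaCore M : Set G) :=
      hAM.trans (BG7.le_normalizer_piCoreOf (sigma M) M)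
    have hcop : (Nat.card A).Coprime (Nat.card (sigmaCore M)) := by
      apply BGD.coprime_sigmaCore hG hM
      intro q hq hqd
      rw [hA2] at hqd
      have : q = p := (Nat.prime_dvd_prime_iff_eq hq hp.out).mp (hq.dvd_of_dvd_pow hqd)
      rw [this]; exact hpσ
    have hgen := coprime_generated_by_centralizers A (sigmaCore M) hnc hAK hcop
    refine (le_of_eq hgen.symm).trans (iSup₂_le fun a ha => ?_)
    obtain ⟨haA, ha1⟩ := ha
    by_cases hs : sigmaCore M ⊓ Subgroup.centralizer ({a} : Set G) = ⊥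
    · rw [hs]; exact bot_le
    · have hz : Nat.card (Subgroup.zpowers a) = p := by
        rw [Nat.card_zpowers]; exact orderOf_eq_prime (hA.2 a haA) ha1
      have hzA : Subgroup.zpowers a ≤ A := by rw [Subgroup.zpowers_le]; exact haA
      have h1 := huniq (Subgroup.zpowers a) hzA hz (by rw [centralizer_zpowers]; exact hs)
      rw [← h1, centralizer_zpowers]
      exact inf_le_right
  have hpart : ∀ Y : Subgroup G, Y ≤ A → Nat.card Y = p → Y ≠ X₁ →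
      sigmaCore M ⊓ Subgroup.centralizer (Y : Set G) = ⊥ ∧
        ¬ Subgroup.centralizer (Y : Set G) ≤ M := by
    intro Y hYA hYp hYX
    refine ⟨by_contra fun h => hYX (huniq Y hYA hYp h), ?_⟩
    by_cases hYZ : Y = Z₀
    · intro hle'
      apply hsM
      apply hle'
      rw [hYZ]; exact hsZ
    · obtain ⟨i, hi⟩ := horb Y hYA hYp hYZ
      have hiM : s ^ i ∉ M := fun h => hYX (by rw [hi, hkey i h])
      intro hCY
      have h1 : BG7.cj (s ^ i) (sigmaCore M) ≤ Subgroup.centralizer (Y : Set G) := by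
        rw [hi, ← cj_centralizer]; exact BG7.cj_mono hle
      have h2 : sigmaCore M ≤ BG7.cj (s ^ i)⁻¹ M := by
        have := BG7.cj_mono (k := (s ^ i)⁻¹) (h1.trans hCY)
        rwa [BG7.cj_inv_cj] at this
      have hMs : IsCoatom (BG7.cj (s ^ i)⁻¹ M) := BG9.isCoatom_cj hM _
      have hne : BG7.cj (s ^ i)⁻¹ M ≠ M := by
        intro e
        have h3 := BG7.mem_normalizer_of_cj_eq e
        rw [normalizer_coatom hG hM] at h3
        apply hiM
        have := M.inv_mem h3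
        rwa [inv_inv] at this
      have hAle : A ≤ BG7.cj (s ^ i)⁻¹ M := by
        have h3 : BG7.cj (s ^ i)⁻¹ A = A :=
          BG7.cj_eq_of_mem_normalizer (Subgroup.inv_mem _ (hpowN i))
        rw [← h3]; exact BG7.cj_mono hAM
      have h4 := h17e _ hMs hne hAle
      apply BGE.sigmaCore_ne_bot hG hM
      rw [eq_bot_iff, ← h4]
      exact le_inf le_rfl h2
  have hcomm : ∀ Y : Subgroup G, Y ≤ A → Nat.card Y = p → (∀ y ∈ Y, y * s = s * y) → Y = Z₀ := by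
    intro Y hYA hYp hYs
    by_contra hne
    apply hsCA
    have hsup := line_sup hA2 hYA hZA hYp hZp hne
    have := sup_le_centralizer_singleton hYs hZs
    rw [hsup] at this
    rw [Subgroup.mem_centralizer_iff]
    exact this
  exact ⟨P, S, s, Z₀, X₁, hAP, hPS, hsS, hsNA, hsM, hsCA, hZA, hZp, hZs, hX₁A, hX₁p, hX₁Z, hle,
    hpart, hcomm⟩

/-- B&G 12.8(a): `τ₂(M) = {p}` when the Sylow `p`-subgroups of `G` are nonabelian. -/
theorem s1419_tau2 (hG : IsMinSimpleOddOrder G) {M : Subgroup G} (hM : IsCoatom M)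
    {E : Subgroup G} (hE : IsComplIn E (sigmaCore M) M) {p : ℕ} [hp : Fact p.Prime]
    (hpτ : p ∈ tau2 M) (hS : ∀ S : Sylow p G, ¬ IsMulCommutative (S : Subgroup G))
    {A : Subgroup G} (hAE : A ≤ E) (hA : IsElementaryAbelian p A) (hA2 : Nat.card A = p ^ 2) :
    tau2 M = {p} := by
  ext r
  rw [Set.mem_singleton_iff]
  constructor
  swap
  · intro e; rw [e]; exact hpτ
  intro hr
  by_contra hrp
  haveI : Fact r.Prime := ⟨hr.1⟩
  have hEM : E ≤ M := hE.1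
  have hAM : A ≤ M := hAE.trans hEM
  have hAp : IsPGroup p A := BG9.isPGroup_of_isElementaryAbelian hA
  obtain ⟨B₀, hB₀M, hB₀el, hB₀2⟩ := BGD.exists_sq_of_rank hr.2.2.1 hr.2.2.2
  have hcopB : (Nat.card B₀).Coprime (Nat.card (sigmaCore M)) := by
    apply BGD.coprime_sigmaCore hG hM
    intro q hq hqd
    rw [hB₀2] at hqd
    have : q = r := (Nat.prime_dvd_prime_iff_eq hq hr.1).mp (hq.dvd_of_dvd_pow hqd)
    rw [this]; exact hr.2.1
  obtain ⟨m, hmM, hB₀E⟩ := BGD.exists_cj_le hG hM hE hB₀M hcopB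
  obtain ⟨B, hBdef⟩ : ∃ B : Subgroup G, B = BG7.cj m⁻¹ B₀ := ⟨_, rfl⟩
  have hBE : B ≤ E := by
    have := BG7.cj_mono (k := m⁻¹) hB₀E
    rwa [BG7.cj_inv_cj, ← hBdef] at this
  have hBel : IsElementaryAbelian r B := by rw [hBdef]; exact BG9.isElementaryAbelian_cj _ hB₀el
  have hB2 : Nat.card B = r ^ 2 := by rw [hBdef, BG7.card_cj, hB₀2]
  have hBr : IsPGroup r B := BG9.isPGroup_of_isElementaryAbelian hBel
  obtain ⟨⟨hENB, -⟩, ⟨hCB, -, -⟩, -⟩ := row1418 hG M hM E hE r hr B ⟨hBE, hBel, hB2⟩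
  obtain ⟨⟨hENA, -⟩, ⟨hCA, hMNA, hNAM⟩, -⟩ := row1418 hG M hM E hE p hpτ A ⟨hAE, hA, hA2⟩
  obtain ⟨P, S, s, hAP, hPS, hsS, hsNA, hsM, hsCA⟩ := exists_out_elt hG hM hpτ hS hAM hA hA2
  obtain ⟨T, hTdef⟩ : ∃ T : Subgroup G, T = (S : Subgroup G) ⊓ Subgroup.normalizer (A : Set G) :=
    ⟨_, rfl⟩
  have hTp : IsPGroup p T := by rw [hTdef]; exact S.2.to_le inf_le_left
  have hAT : A ≤ T := by rw [hTdef]; exact le_inf (hAP.trans hPS) Subgroup.le_normalizer
  have hTA : T ≤ Subgroup.normalizer (A : Set G) := by rw [hTdef]; exact inf_le_right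
  have hsT : s ∈ T := by rw [hTdef]; exact ⟨hsS, hsNA⟩
  have hA1 : A ≠ ⊥ := by
    intro e
    rw [e, Subgroup.card_bot] at hA2
    have : 1 < p ^ 2 := Nat.one_lt_pow two_ne_zero hp.out.one_lt
    omega
  have hAtop : A ≠ ⊤ := fun e => hM.1 (top_le_iff.mp (e ▸ hAM))
  have hNne : Subgroup.normalizer (A : Set G) ≠ ⊤ := BG7.normalizer_ne_top hG hA1 hAtop
  obtain ⟨L, hL, hNL⟩ := (eq_top_or_exists_le_coatom _).resolve_left hNne
  have hLM : L ≠ M := by
    intro e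
    rw [e] at hNL
    exact hNAM hNL
  have hTL : T ≤ L := hTA.trans hNL
  have hTna : ¬ IsMulCommutative T := by
    intro hc
    apply hsCA
    rw [Subgroup.mem_centralizer_iff]
    intro a ha
    exact BGL.comm_of hc (hAT ha) hsT
  have hpσL : p ∈ sigma L := sigma_of_nonabelian hG BGD.row1417 hL hTp hTL hTna
  have hBL : B ≤ L := (hBE.trans hENA).trans hNL
  have hAL : A ≤ L := Subgroup.le_normalizer.trans hNL
  have hrσL : r ∈ sigma L := by
    by_contra hrσ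
    have hr2 : PRankLE r 2 L := by
      by_contra h
      exact hrσ (BT.alpha_subset_sigma hG hL ⟨hr.1, h⟩)
    have hr1 : ¬ PRankLE r 1 L :=
      BG9.not_pRankLE_of_elementary hr.1 hBL hBel (by rw [hB2])
    have hrτL : r ∈ tau2 L := ⟨hr.1, hrσ, hr2, hr1⟩
    obtain ⟨-, -, -, -, h17eL, -⟩ := BGD.row1417 hG L hL r hrτL B ⟨hBL, hBel, hB2⟩
    have h0 := h17eL M hM (Ne.symm hLM) (hBE.trans hEM)
    have hALσ : A ≤ sigmaCore L := pgroup_le_sigmaCore hG hL hpσL hAp hAL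
    apply hA1
    rw [eq_bot_iff, ← h0]
    exact le_inf hALσ hAM
  obtain ⟨-, -, -, ⟨H, hHall, hHnil⟩, -⟩ := Cfsg.Agent.S1414.result hG L hL
  have hpβ : p ∉ beta L := fun h =>
    (Cfsg.Agent.S1408.result hG M hM p hpτ.2.1 hpτ.2.2.1 hpτ.2.2.2).1 h.2
  have hrβ : r ∉ beta L := fun h =>
    (Cfsg.Agent.S1408.result hG M hM r hr.2.1 hr.2.2.1 hr.2.2.2).1 h.2
  have hTσ : T ≤ sigmaCore L := pgroup_le_sigmaCore hG hL hpσL hTp hTL
  have hBσ : B ≤ sigmaCore L := pgroup_le_sigmaCore hG hL hrσL hBr hBL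
  haveI : Group.IsSolvable ↥(sigmaCore L) :=
    BG7.isSolvable_of_ne_top hG (fun e => hL.1 (top_le_iff.mp (e ▸ BG7.piCoreOf_le (sigma L) L)))
  have hHc : (Nat.card H).Coprime (H.relIndex (sigmaCore L)) :=
    Nat.coprime_of_dvd (fun k hk hk1 hk2 => hHall.2.2 k hk (hHall.2.1 k hk hk1) hk2)
  have hTc : (Nat.card T).Coprime (H.relIndex (sigmaCore L)) := by
    obtain ⟨k, hk⟩ := IsPGroup.iff_card.mp hTp
    rw [hk]
    apply Nat.Coprime.pow_left
    rw [Nat.Prime.coprime_iff_not_dvd hp.out]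
    exact hHall.2.2 p hp.out ⟨hp.out, hpβ⟩
  have hBc : (Nat.card B).Coprime (H.relIndex (sigmaCore L)) := by
    rw [hB2]
    apply Nat.Coprime.pow_left
    rw [Nat.Prime.coprime_iff_not_dvd hr.1]
    exact hHall.2.2 r hr.1 ⟨hr.1, hrβ⟩
  obtain ⟨m₁, hm₁, hTm⟩ := exists_cj_le_of_hall hHall.1 hTσ hHc hTc
  obtain ⟨m₂, hm₂, hBm⟩ := exists_cj_le_of_hall hHall.1 hBσ hHc hBc
  have hT' : BG7.cj m₁⁻¹ T ≤ H := by
    have := BG7.cj_mono (k := m₁⁻¹) hTm
    rwa [BG7.cj_inv_cj] at this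
  have hB' : BG7.cj m₂⁻¹ B ≤ H := by
    have := BG7.cj_mono (k := m₂⁻¹) hBm
    rwa [BG7.cj_inv_cj] at this
  have hprc : Nat.Coprime p r := (Nat.coprime_primes hp.out hr.1).mpr (Ne.symm hrp)
  have hTB : ∀ x ∈ BG7.cj m₁⁻¹ T, ∀ b ∈ BG7.cj m₂⁻¹ B, x * b = b * x := by
    intro x hx b hb
    apply NilpotentCoprime.commute_of_coprime_of_mem H hHnil (hT' hx) (hB' hb)
    obtain ⟨k, hk⟩ := (BGE.isPGroup_cj hTp m₁⁻¹) ⟨x, hx⟩
    obtain ⟨k', hk'⟩ := (BGE.isPGroup_cj hBr m₂⁻¹) ⟨b, hb⟩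
    have hxk : x ^ p ^ k = 1 := by
      have := congrArg Subtype.val hk
      simpa using this
    have hbk : b ^ r ^ k' = 1 := by
      have := congrArg Subtype.val hk'
      simpa using this
    obtain ⟨j, -, hj⟩ := (Nat.dvd_prime_pow hp.out).mp (orderOf_dvd_of_pow_eq_one hxk)
    obtain ⟨j', -, hj'⟩ := (Nat.dvd_prime_pow hr.1).mp (orderOf_dvd_of_pow_eq_one hbk)
    rw [hj, hj']
    exact Nat.Coprime.pow _ _ hprc
  have hQle : BG7.cj m₂ (BG7.cj m₁⁻¹ T) ≤ Subgroup.centralizer (B : Set G) := by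
    have h1 : BG7.cj m₁⁻¹ T ≤
        Subgroup.centralizer ((BG7.cj m₂⁻¹ B : Subgroup G) : Set G) := by
      intro x hx
      rw [Subgroup.mem_centralizer_iff]
      intro b hb
      exact (hTB x hx b hb).symm
    have h2 := BG7.cj_mono (k := m₂) h1
    rwa [cj_centralizer, BG9.cj_cj_inv] at h2
  have hQM : BG7.cj m₂ (BG7.cj m₁⁻¹ T) ≤ M := hQle.trans (hCB.trans inf_le_left)
  have hQp : IsPGroup p (BG7.cj m₂ (BG7.cj m₁⁻¹ T) : Subgroup G) :=
    BGE.isPGroup_cj (BGE.isPGroup_cj hTp _) _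
  have hQab := BGD.comm_of_pgroup hG hM BGD.row1417 hpτ.2.1 hQM hQp
  obtain ⟨a, haA, has⟩ : ∃ a ∈ A, a * s ≠ s * a := by
    by_contra h
    push Not at h
    apply hsCA
    rw [Subgroup.mem_centralizer_iff]
    exact h
  have hga : (m₂ * m₁⁻¹) * a * (m₂ * m₁⁻¹)⁻¹ ∈ BG7.cj m₂ (BG7.cj m₁⁻¹ T) := by
    rw [← BG7.cj_mul]; exact BG7.conj_mem_cj (hAT haA)
  have hgs : (m₂ * m₁⁻¹) * s * (m₂ * m₁⁻¹)⁻¹ ∈ BG7.cj m₂ (BG7.cj m₁⁻¹ T) := by
    rw [← BG7.cj_mul]; exact BG7.conj_mem_cj hsT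
  have h5 := hQab _ hga _ hgs
  apply has
  have e1 : a * s = (m₂ * m₁⁻¹)⁻¹ * (((m₂ * m₁⁻¹) * a * (m₂ * m₁⁻¹)⁻¹) *
      ((m₂ * m₁⁻¹) * s * (m₂ * m₁⁻¹)⁻¹)) * (m₂ * m₁⁻¹) := by group
  rw [e1, h5]; group

end Cfsg.Agent.Lib.Helper2.BGH
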