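import Mathlib
import Cfsg.Agent.Lib.Helper2.BGH10

set_option autoImplicit false
set_option maxHeartbeats 4000000
set_option linter.unusedVariables false
set_option linter.unusedSectionVars false
set_option linter.style.longLine false
set_option linter.unusedSimpArgs false
set_option linter.style.haveILetI false
set_option linter.deprecated false

/-!
# B&G Theorem 12.8 (S1419), part 3: the Fitting subgroup and the final statement.
-/

open scoped commutatorElement Pointwise
universe u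
namespace Cfsg.Agent.Lib.Helper2.BGH

open Cfsg Cfsg.Agent.Lib.Helper1 Cfsg.Agent.Lib.Helper7 Cfsg.Agent.Lib.Helper7.BGRows
open Cfsg.Agent.Lib.Lead

variable {G : Type u} [Group G] [Finite G]

/-- **B&G Theorem 12.8 = S1419.** -/
theorem s1419_of (hG : IsMinSimpleOddOrder G) (M : Subgroup G) (hM : IsCoatom M)
    (E : Subgroup G) (hE : IsComplIn E (sigmaCore M) M) (p : ℕ) [hp : Fact p.Prime]
    (hpτ : p ∈ tau2 M) (hS : ∀ S : Sylow p G, ¬ IsMulCommutative (S : Subgroup G))
    (A : Subgroup G) (hA' : A ≤ E ∧ IsElementaryAbelian p A ∧ Nat.card A = p ^ 2) :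
    tau2 M = {p} ∧
      (Nat.card ↥(A ⊓ Subgroup.centralizer (sigmaCore M : Set G)) = p ∧
        fittingOf M = sigmaCore M ⊔ (A ⊓ Subgroup.centralizer (sigmaCore M : Set G))) ∧
      ∀ X : Subgroup G, X ≤ E → Nat.card X = p →
        X ≠ A ⊓ Subgroup.centralizer (sigmaCore M : Set G) →
        sigmaCore M ⊓ Subgroup.centralizer (X : Set G) = ⊥ ∧
          ¬ Subgroup.centralizer (X : Set G) ≤ M := by
  obtain ⟨hAE, hA, hA2⟩ := hA'
  have hτ := s1419_tau2 hG hM hE hpτ hS hAE hA hA2
  obtain ⟨P, S, s, Z₀, X₁, hAP, hPS, hsS, hsNA, hsM, hsCA, hZA, hZp, hZs, hX₁A, hX₁p, hX₁Z, hle,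
    hpart, hcomm⟩ := s1419_struct hG hM hE hpτ hS hAE hA hA2
  have hEM : E ≤ M := hE.1
  have hAM : A ≤ M := hAE.trans hEM
  have hpσ : p ∉ sigma M := hpτ.2.1
  have hAp : IsPGroup p A := BG9.isPGroup_of_isElementaryAbelian hA
  obtain ⟨hnilσ, -, -, hCMA, -, -⟩ := BGD.row1417 hG M hM p hpτ A ⟨hAM, hA, hA2⟩
  obtain ⟨⟨hENA, hline⟩, -, -⟩ := row1418 hG M hM E hE p hpτ A ⟨hAE, hA, hA2⟩
  have hσM : sigmaCore M ≤ M := BG7.piCoreOf_le _ _
  have hMσ : M ≤ Subgroup.normalizer (sigmaCore M : Set G) := BG7.le_normalizer_piCoreOf _ _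
  obtain ⟨A₀, hA₀def⟩ : ∃ A₀ : Subgroup G,
      A₀ = A ⊓ Subgroup.centralizer (sigmaCore M : Set G) := ⟨_, rfl⟩
  rw [← hA₀def]
  have hA₀A : A₀ ≤ A := by rw [hA₀def]; exact inf_le_left
  have hA₀C : A₀ ≤ Subgroup.centralizer (sigmaCore M : Set G) := by rw [hA₀def]; exact inf_le_right
  have hX₁A₀ : X₁ ≤ A₀ := by
    rw [hA₀def]; exact le_inf hX₁A (Subgroup.le_centralizer_iff.mp hle)
  have hA₀ne : A₀ ≠ A := by
    intro e
    have h1 : A ≤ Subgroup.centralizer (sigmaCore M : Set G) := e ▸ hA₀C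
    have h2 : sigmaCore M ≤ Subgroup.centralizer (A : Set G) := Subgroup.le_centralizer_iff.mp h1
    apply BGE.sigmaCore_ne_bot hG hM
    rw [eq_bot_iff, ← hCMA]
    exact le_inf le_rfl h2
  have hA₀X : X₁ = A₀ := by
    have hd : Nat.card A₀ ∣ p ^ 2 := by rw [← hA2]; exact Subgroup.card_dvd_of_le hA₀A
    obtain ⟨i, hi, hci⟩ := (Nat.dvd_prime_pow hp.out).mp hd
    have hi2 : i ≠ 2 := by
      intro e
      apply hA₀ne
      exact Subgroup.eq_of_le_of_card_ge hA₀A (by rw [hci, hA2, e])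
    have hi1 : i ≤ 1 := by omega
    apply Subgroup.eq_of_le_of_card_ge hX₁A₀
    rw [hci, hX₁p]
    calc p ^ i ≤ p ^ 1 := Nat.pow_le_pow_right hp.out.pos hi1
      _ = p := pow_one p
  have hA₀p : Nat.card A₀ = p := by rw [← hA₀X]; exact hX₁p
  refine ⟨hτ, ⟨hA₀p, ?_⟩, ?_⟩
  swap
  · intro X hXE hXp hXne
    apply hpart X (hline X hXE hXp) hXp
    rw [hA₀X]; exact hXne
  -- the Fitting subgroup
  have hσF : sigmaCore M ≤ fittingOf M :=
    BGK.le_fittingOf_of_le_normalizer hσM hMσ hnilσ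
  have hMsup : M ≤ E ⊔ sigmaCore M := by
    intro m hm
    obtain ⟨e, he, y, hy, rfl⟩ := hE.2.2.2 m hm
    exact Subgroup.mul_mem_sup he hy
  have hA₀N : M ≤ Subgroup.normalizer (A₀ : Set G) := by
    refine hMsup.trans (sup_le ?_ ?_)
    · rw [hA₀def]
      apply le_normalizer_inf hENA
      exact (hEM.trans hMσ).trans (BG7.normalizer_le_normalizer_centralizer_self _)
    · exact (Subgroup.le_centralizer_iff.mp hA₀C).trans (Subgroup.centralizer_le_normalizer _)
  have hA₀F : A₀ ≤ fittingOf M :=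
    BGK.le_fittingOf_of_le_normalizer (hA₀A.trans hAM) hA₀N (hAp.to_le hA₀A).isNilpotent
  have hmax := (Cfsg.Agent.S1408.result hG M hM p hpσ hpτ.2.2.1 hpτ.2.2.2).2 A hAM hA hA2
  have hAS : A ≤ (S : Subgroup G) := hAP.trans hPS
  -- `F ⊓ E ≤ A₀`
  have hFE : ∀ e ∈ fittingOf M, e ∈ E → e ∈ A₀ := by
    intro e heF heE
    apply HallD.mem_of_primePow_mem A₀ (orderOf e) e rfl
    rintro z hz ⟨r, k, hr, hzo⟩
    by_cases hz1 : z = 1
    · rw [hz1]; exact one_mem _
    haveI : Fact r.Prime := ⟨hr⟩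
    have hzF : z ∈ fittingOf M := by
      obtain ⟨j, rfl⟩ := Subgroup.mem_zpowers_iff.mp hz
      exact Subgroup.zpow_mem _ heF j
    have hzE : z ∈ E := by
      obtain ⟨j, rfl⟩ := Subgroup.mem_zpowers_iff.mp hz
      exact Subgroup.zpow_mem _ heE j
    have hk0 : k ≠ 0 := by
      intro e0
      rw [e0, pow_zero, orderOf_eq_one_iff] at hzo
      exact hz1 hzo
    have hzr : IsPGroup r (Subgroup.zpowers z) := by
      apply IsPGroup.of_card (n := k)
      rw [Nat.card_zpowers, hzo]
    have hzQ : Subgroup.zpowers z ≤ piCoreOf {r} M :=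
      BG8.le_Oq_of_le_fittingOf (by rw [Subgroup.zpowers_le]; exact hzF) hzr
    have hzQ' : z ∈ piCoreOf {r} M := hzQ (Subgroup.mem_zpowers z)
    have hQM : piCoreOf {r} M ≤ M := BG7.piCoreOf_le _ _
    have hMQ : M ≤ Subgroup.normalizer (piCoreOf {r} M : Set G) := BG7.le_normalizer_piCoreOf _ _
    have hQr : IsPGroup r (piCoreOf {r} M) := BG8.piCoreOf_singleton_isPGroup r M
    have hrE : r ∣ Nat.card E := by
      have h1 : r ∣ orderOf z := by rw [hzo]; exact dvd_pow_self r hk0
      have h2 : orderOf z ∣ Nat.card E := by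
        have := orderOf_dvd_natCard (⟨z, hzE⟩ : ↥E)
        rwa [Subgroup.orderOf_mk] at this
      exact h1.trans h2
    have hrσ : r ∉ sigma M := BGD.compl_not_sigma hG hM hE r hr hrE
    have hQσ : piCoreOf {r} M ⊓ sigmaCore M = ⊥ := by
      apply Subgroup.inf_eq_bot_of_coprime
      obtain ⟨n, hn⟩ := IsPGroup.iff_card.mp hQr
      apply BGD.coprime_sigmaCore hG hM
      intro q hq hqd
      rw [hn] at hqd
      have : q = r := (Nat.prime_dvd_prime_iff_eq hq hr).mp (hq.dvd_of_dvd_pow hqd)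
      rw [this]; exact hrσ
    have hQC : piCoreOf {r} M ≤ Subgroup.centralizer (sigmaCore M : Set G) := by
      intro u hu
      rw [Subgroup.mem_centralizer_iff]
      intro y hy
      have h1 : ⁅u, y⁆ ∈ piCoreOf {r} M := by
        have hyN := hMQ (hσM hy)
        have : y * u⁻¹ * y⁻¹ ∈ piCoreOf {r} M :=
          (Subgroup.mem_normalizer_iff.mp hyN u⁻¹).mp (Subgroup.inv_mem _ hu)
        have e : ⁅u, y⁆ = u * (y * u⁻¹ * y⁻¹) := by rw [commutatorElement_def]; group
        rw [e]; exact Subgroup.mul_mem _ hu this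
      have h2 : ⁅u, y⁆ ∈ sigmaCore M := by
        have huN := hMσ (hQM hu)
        have : u * y * u⁻¹ ∈ sigmaCore M := (Subgroup.mem_normalizer_iff.mp huN y).mp hy
        have e : ⁅u, y⁆ = (u * y * u⁻¹) * y⁻¹ := by rw [commutatorElement_def]
        rw [e]; exact Subgroup.mul_mem _ this (Subgroup.inv_mem _ hy)
      have h3 : ⁅u, y⁆ ∈ piCoreOf {r} M ⊓ sigmaCore M := ⟨h1, h2⟩
      rw [hQσ, Subgroup.mem_bot] at h3
      exact (commutatorElement_eq_one_iff_mul_comm.mp h3).symm
    by_cases hrp : r = p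
    · subst hrp
      -- `z ^ r = 1`
      have hzS : z ∈ (S : Subgroup G) :=
        hPS (normal_pgroup_le_sylow hQM hMQ hQr P hzQ')
      have hzp : z ^ r = 1 := by
        by_contra hzp
        have hk2 : 2 ≤ k := by
          by_contra hlt
          have hk1 : k = 1 := by omega
          apply hzp
          rw [hk1, pow_one] at hzo
          rw [← hzo]; exact pow_orderOf_eq_one z
        obtain ⟨w, hw⟩ : ∃ w : G, w = z ^ r ^ (k - 2) := ⟨_, rfl⟩
        have hwS : w ∈ (S : Subgroup G) := by rw [hw]; exact Subgroup.pow_mem _ hzS _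
        have hwE : w ∈ E := by rw [hw]; exact Subgroup.pow_mem _ hzE _
        have hwC : w ∈ Subgroup.centralizer (sigmaCore M : Set G) := by
          rw [hw]; exact Subgroup.pow_mem _ (hQC hzQ') _
        have hrk2 : r ^ (k - 2) * (r * r) = r ^ k := by
          rw [← pow_two, ← pow_add]; congr 1; omega
        have hrk1 : r ^ (k - 2) * r = r ^ (k - 1) := by
          rw [← pow_succ]; congr 1; omega
        have hwpp : (w ^ r) ^ r = 1 := by
          rw [hw, ← pow_mul, ← pow_mul, hrk2, ← hzo]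
          exact pow_orderOf_eq_one z
        have hwp1 : w ^ r ≠ 1 := by
          intro e1
          rw [hw, ← pow_mul, hrk1] at e1
          have h1 := orderOf_dvd_of_pow_eq_one e1
          rw [hzo, Nat.pow_dvd_pow_iff_le_right hr.one_lt] at h1
          omega
        have hYp : Nat.card (Subgroup.zpowers (w ^ r)) = r := by
          rw [Nat.card_zpowers]; exact orderOf_eq_prime hwpp hwp1
        have hYE : Subgroup.zpowers (w ^ r) ≤ E := by
          rw [Subgroup.zpowers_le]; exact Subgroup.pow_mem _ hwE _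
        have hYA : Subgroup.zpowers (w ^ r) ≤ A := hline _ hYE hYp
        have hwpA : w ^ r ∈ A := hYA (Subgroup.mem_zpowers _)
        have hcen := pow_central hG S (hS S) hAS hA hA2 hmax w hwS hwpA s hsS
        have hYs : ∀ y ∈ Subgroup.zpowers (w ^ r), y * s = s * y := by
          intro y hy
          obtain ⟨j, rfl⟩ := Subgroup.mem_zpowers_iff.mp hy
          exact ((show Commute s (w ^ r) from hcen).zpow_right j).eq.symm
        have hYZ := hcomm _ hYA hYp hYs
        have hYA₀ : Subgroup.zpowers (w ^ r) ≤ A₀ := by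
          rw [hA₀def, Subgroup.zpowers_le]
          exact ⟨hwpA, Subgroup.pow_mem _ hwC _⟩
        have hYX : Subgroup.zpowers (w ^ r) = A₀ :=
          Subgroup.eq_of_le_of_card_ge hYA₀ (by rw [hA₀p, hYp])
        apply hX₁Z
        rw [hA₀X, ← hYX, hYZ]
      have hzp' : Nat.card (Subgroup.zpowers z) = r := by
        rw [Nat.card_zpowers]; exact orderOf_eq_prime hzp hz1
      have hzA : z ∈ A :=
        hline _ (by rw [Subgroup.zpowers_le]; exact hzE) hzp' (Subgroup.mem_zpowers z)
      rw [hA₀def]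
      exact ⟨hzA, hQC hzQ'⟩
    · exfalso
      have hr2 : PRankLE r 2 M := by
        by_contra h
        exact hrσ (BT.alpha_subset_sigma hG hM ⟨hr, h⟩)
      by_cases hr1 : PRankLE r 1 M
      · have hr2' : r ≠ 2 := by
          apply BG9.odd_prime_of_dvd hG
          exact hrE.trans (Subgroup.card_subgroup_dvd_card E)
        have hcyc : IsCyclic ↥(piCoreOf {r} M) := BGB.isCyclic_of_pRankLE_one hr2' hQM hQr hr1
        have hrQ : r ∣ Nat.card (piCoreOf {r} M) := by
          have h1 : r ∣ orderOf z := by rw [hzo]; exact dvd_pow_self r hk0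
          have h2 : orderOf z ∣ Nat.card (piCoreOf {r} M) := by
            have := orderOf_dvd_natCard (⟨z, hzQ'⟩ : ↥(piCoreOf {r} M))
            rwa [Subgroup.orderOf_mk] at this
          exact h1.trans h2
        obtain ⟨X, hXQ, hXr⟩ := exists_prime_card_le hrQ
        have hNX : M ≤ Subgroup.normalizer (X : Set G) :=
          hMQ.trans (BGG.normalizer_le_of_isCyclic hcyc hXQ)
        have hX1 : X ≠ ⊥ := by
          intro e
          rw [e, Subgroup.card_bot] at hXr
          exact hr.one_lt.ne hXr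
        have hXtop : X ≠ ⊤ := fun e => hM.1 (top_le_iff.mp (e ▸ hXQ.trans hQM))
        have hNeq : Subgroup.normalizer (X : Set G) = M :=
          BG8.eq_of_coatom_le hM hNX (BG7.normalizer_ne_top hG hX1 hXtop)
        exact (Cfsg.Agent.S1409.result hG M hM r hrσ X hXr (le_of_eq hNeq)).1.2 hr1
      · have : r ∈ tau2 M := ⟨hr, hrσ, hr2, hr1⟩
        rw [hτ, Set.mem_singleton_iff] at this
        exact hrp this
  apply le_antisymm
  · intro x hx
    have hxM : x ∈ M := BG8.fittingOf_le M hx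
    obtain ⟨e, he, y, hy, rfl⟩ := hE.2.2.2 x hxM
    have heF : e ∈ fittingOf M := by
      have h1 : e = (e * y) * y⁻¹ := by group
      rw [h1]
      exact Subgroup.mul_mem _ hx (Subgroup.inv_mem _ (hσF hy))
    have := hFE e heF he
    rw [sup_comm]
    exact Subgroup.mul_mem_sup this hy
  · exact sup_le hσF hA₀F

end Cfsg.Agent.Lib.Helper2.BGH
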