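import Mathlib
import Cfsg.Agent.Lib.Helper2.BGH11
import Cfsg.Agent.Lib.Helper2.BGHRows

set_option autoImplicit false
set_option maxHeartbeats 4000000
set_option linter.unusedVariables false
set_option linter.unusedSectionVars false
set_option linter.style.longLine false

/-!
# Closed form of the B&G row S1419 (as `BGRows.Row1419 G`)
-/

universe u
namespace Cfsg.Agent.Lib.Helper2.BGH

open Cfsg Cfsg.Agent.Lib.Helper1 Cfsg.Agent.Lib.Helper7 Cfsg.Agent.Lib.Helper7.BGRows

variable {G : Type u} [Group G] [Finite G]

theorem row1419 : Row1419 G := fun hG M hM E hE p _ hp hS A hA =>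
  s1419_of hG M hM E hE p hp hS A hA

end Cfsg.Agent.Lib.Helper2.BGH
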