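import Mathlib

/-!
# Coprime operator groups on finite abelian `p`-groups

A finite group `X` acts on an abelian group `A` through `ρ : X →* Monoid.End A`.
We prove the averaging lemma (an invariant direct factor has an invariant complement),
Maschke's theorem for elementary abelian groups, and the existence of homocyclic
invariant direct factors.
-/

set_option autoImplicit false

namespace Cfsg.Agent.Lib.Helper2.CoprimeAbelian

variable {A : Type*} [CommGroup A] {X : Type*} [Group X] (ρ : X →* Monoid.End A)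

/-- `B` is invariant under the operator group. -/
def Inv (B : Subgroup A) : Prop := ∀ x : X, ∀ b ∈ B, ρ x b ∈ B

theorem rho_mul_apply (x y : X) (a : A) : ρ (x * y) a = ρ x (ρ y a) := by
  rw [map_mul]; rfl

theorem rho_one_apply (a : A) : ρ 1 a = a := by
  rw [map_one]; rfl

theorem rho_inv_apply (x : X) (a : A) : ρ x (ρ x⁻¹ a) = a := by
  rw [← rho_mul_apply, mul_inv_cancel, rho_one_apply]

theorem rho_inv_apply' (x : X) (a : A) : ρ x⁻¹ (ρ x a) = a := by
  rw [← rho_mul_apply, inv_mul_cancel, rho_one_apply]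

theorem inv_top : Inv ρ ⊤ := fun _ _ _ => Subgroup.mem_top _

theorem inv_bot : Inv ρ ⊥ := fun x b hb => by
  rw [Subgroup.mem_bot] at hb ⊢
  rw [hb, map_one]

theorem Inv.inf {B C : Subgroup A} (hB : Inv ρ B) (hC : Inv ρ C) : Inv ρ (B ⊓ C) :=
  fun x b hb => Subgroup.mem_inf.2 ⟨hB x b (Subgroup.mem_inf.1 hb).1, hC x b (Subgroup.mem_inf.1 hb).2⟩

/-- image of an invariant subgroup under the `n`-th power map -/
theorem Inv.image_pow {B : Subgroup A} (hB : Inv ρ B) (n : ℕ) :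
    Inv ρ (B.map (powMonoidHom n : A →* A)) := by
  rintro x _ ⟨b, hb, rfl⟩
  refine ⟨ρ x b, hB x b hb, ?_⟩
  simp only [powMonoidHom_apply]
  exact (_root_.map_pow (ρ x) b n).symm

/-- preimage of an invariant subgroup under the `n`-th power map -/
theorem Inv.preimage_pow {B : Subgroup A} (hB : Inv ρ B) (n : ℕ) :
    Inv ρ (B.comap (powMonoidHom n : A →* A)) := by
  intro x a ha
  rw [Subgroup.mem_comap, powMonoidHom_apply] at ha ⊢
  have := hB x _ ha
  rwa [_root_.map_pow] at this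

theorem inv_ker_pow (n : ℕ) : Inv ρ (powMonoidHom n : A →* A).ker := by
  intro x a ha
  rw [MonoidHom.mem_ker, powMonoidHom_apply] at ha ⊢
  rw [← _root_.map_pow, ha, map_one]

theorem inv_range_pow (n : ℕ) : Inv ρ (powMonoidHom n : A →* A).range := by
  rintro x _ ⟨a, rfl⟩
  exact ⟨ρ x a, by simp only [powMonoidHom_apply]; exact (_root_.map_pow (ρ x) a n).symm⟩

/-! ### restriction and quotient -/

/-- restriction of the operators to an invariant subgroup -/
def res (B : Subgroup A) (hB : Inv ρ B) : X →* Monoid.End ↥B where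
  toFun x := (((ρ x : A →* A).comp B.subtype).codRestrict B (fun b => hB x b b.2) : ↥B →* ↥B)
  map_one' := by
    ext b
    show ρ 1 (b : A) = b
    rw [rho_one_apply]
  map_mul' x y := by
    ext b
    show ρ (x * y) (b : A) = ρ x (ρ y (b : A))
    rw [rho_mul_apply]

theorem res_apply (B : Subgroup A) (hB : Inv ρ B) (x : X) (b : ↥B) :
    ((res ρ B hB x b : ↥B) : A) = ρ x (b : A) := rfl

theorem inv_map_subtype {B : Subgroup A} (hB : Inv ρ B) {S : Subgroup ↥B}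
    (hS : Inv (res ρ B hB) S) : Inv ρ (S.map B.subtype) := by
  rintro x _ ⟨s, hs, rfl⟩
  exact ⟨res ρ B hB x s, hS x s hs, rfl⟩

/-- the operators induced on a quotient by an invariant subgroup -/
def quo (N : Subgroup A) (hN : Inv ρ N) : X →* Monoid.End (A ⧸ N) where
  toFun x := (QuotientGroup.map N N (ρ x : A →* A) (fun n hn => hN x n hn) : A ⧸ N →* A ⧸ N)
  map_one' := by
    apply MonoidHom.ext
    intro q
    induction q using QuotientGroup.induction_on with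
    | H a =>
      show (QuotientGroup.mk (ρ 1 a) : A ⧸ N) = QuotientGroup.mk a
      rw [rho_one_apply]
  map_mul' x y := by
    apply MonoidHom.ext
    intro q
    induction q using QuotientGroup.induction_on with
    | H a =>
      show (QuotientGroup.mk (ρ (x * y) a) : A ⧸ N) = QuotientGroup.mk (ρ x (ρ y a))
      rw [rho_mul_apply]

theorem quo_mk (N : Subgroup A) (hN : Inv ρ N) (x : X) (a : A) :
    quo ρ N hN x (QuotientGroup.mk a : A ⧸ N) = QuotientGroup.mk (ρ x a) := rfl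

theorem inv_map_mk {N : Subgroup A} (hN : Inv ρ N) {K : Subgroup A} (hK : Inv ρ K) :
    Inv (quo ρ N hN) (K.map (QuotientGroup.mk' N)) := by
  rintro x _ ⟨k, hk, rfl⟩
  exact ⟨ρ x k, hK x k hk, rfl⟩

theorem inv_comap_mk {N : Subgroup A} (hN : Inv ρ N) {S : Subgroup (A ⧸ N)}
    (hS : Inv (quo ρ N hN) S) : Inv ρ (S.comap (QuotientGroup.mk' N)) := by
  intro x a ha
  rw [Subgroup.mem_comap] at ha ⊢
  exact hS x _ ha

/-! ### averaging -/

section Averaging

variable [Fintype X]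

/-- the averaged endomorphism (without the division by `|X|`) -/
noncomputable def avg (π₀ : A →* A) : A →* A where
  toFun a := ∏ x : X, ρ x (π₀ (ρ x⁻¹ a))
  map_one' := by simp
  map_mul' a b := by simp [Finset.prod_mul_distrib]

theorem avg_apply (π₀ : A →* A) (a : A) : avg ρ π₀ a = ∏ x : X, ρ x (π₀ (ρ x⁻¹ a)) := rfl

theorem avg_equivariant (π₀ : A →* A) (y : X) (a : A) : avg ρ π₀ (ρ y a) = ρ y (avg ρ π₀ a) := by
  rw [avg_apply, avg_apply, map_prod]
  symm
  apply Fintype.prod_equiv (Equiv.mulLeft y)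
  intro x
  simp only [Equiv.coe_mulLeft]
  rw [rho_mul_apply, ← rho_mul_apply ρ (y * x)⁻¹ y a]
  congr 3
  group

theorem avg_mem {K : Subgroup A} (hK : Inv ρ K) (π₀ : A →* A) (hπ₀ : ∀ a, π₀ a ∈ K) (a : A) :
    avg ρ π₀ a ∈ K := by
  rw [avg_apply]
  exact Subgroup.prod_mem _ (fun x _ => hK x _ (hπ₀ _))

theorem avg_of_mem {K : Subgroup A} (hK : Inv ρ K) (π₀ : A →* A) (hπ₀' : ∀ k ∈ K, π₀ k = k)
    {k : A} (hk : k ∈ K) : avg ρ π₀ k = k ^ Fintype.card X := by
  rw [avg_apply]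
  have : ∀ x : X, ρ x (π₀ (ρ x⁻¹ k)) = k := by
    intro x
    rw [hπ₀' _ (hK x⁻¹ k hk), rho_inv_apply]
  simp only [this]
  rw [Finset.prod_const, Finset.card_univ]

/-- **Averaging lemma**: an invariant subgroup which is the image of an idempotent endomorphism
has an invariant complement. -/
theorem exists_inv_complement_of_retraction {p m : ℕ} (hp : p.Prime)
    (hcop : (Fintype.card X).Coprime p) {K : Subgroup A} (hK : Inv ρ K)
    (hKp : ∀ k ∈ K, k ^ p ^ m = 1) (π₀ : A →* A) (hπ₀ : ∀ a, π₀ a ∈ K)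
    (hπ₀' : ∀ k ∈ K, π₀ k = k) : ∃ C : Subgroup A, Inv ρ C ∧ K ⊓ C = ⊥ ∧ K ⊔ C = ⊤ := by
  have hM : 1 < p ^ (m + 1) := Nat.one_lt_pow (Nat.succ_ne_zero m) hp.one_lt
  have hcop' : (Fintype.card X).Coprime (p ^ (m + 1)) := Nat.Coprime.pow_right _ hcop
  obtain ⟨n', -, hn'⟩ := Nat.exists_mul_mod_eq_one_of_coprime hcop' hM
  have hKp' : ∀ k ∈ K, k ^ p ^ (m + 1) = 1 := by
    intro k hk
    rw [pow_succ, pow_mul, hKp k hk, one_pow]
  have hpow : ∀ k ∈ K, k ^ (Fintype.card X * n') = k := by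
    intro k hk
    have h1 := Nat.div_add_mod (Fintype.card X * n') (p ^ (m + 1))
    rw [hn'] at h1
    rw [← h1, pow_add, pow_mul, hKp' k hk, one_pow, one_mul, pow_one]
  set θ : A →* A := (powMonoidHom n' : A →* A).comp (avg ρ π₀) with hθ
  have hθ_apply : ∀ a, θ a = (avg ρ π₀ a) ^ n' := fun a => rfl
  have hθ_mem : ∀ a, θ a ∈ K := fun a => by
    rw [hθ_apply]; exact K.pow_mem (avg_mem ρ hK π₀ hπ₀ a) _
  have hθ_fix : ∀ k ∈ K, θ k = k := by
    intro k hk
    rw [hθ_apply, avg_of_mem ρ hK π₀ hπ₀' hk, ← pow_mul, hpow k hk]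
  have hθ_eq : ∀ (y : X) (a : A), θ (ρ y a) = ρ y (θ a) := by
    intro y a
    rw [hθ_apply, hθ_apply, avg_equivariant, map_pow]
  refine ⟨θ.ker, ?_, ?_, ?_⟩
  · intro y a ha
    rw [MonoidHom.mem_ker] at ha ⊢
    rw [hθ_eq, ha, map_one]
  · rw [eq_bot_iff]
    intro k hk
    obtain ⟨hkK, hkC⟩ := Subgroup.mem_inf.1 hk
    rw [MonoidHom.mem_ker, hθ_fix k hkK] at hkC
    rw [Subgroup.mem_bot]; exact hkC
  · rw [eq_top_iff]
    intro a _
    have h1 : a = θ a * ((θ a)⁻¹ * a) := by group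
    rw [h1]
    apply Subgroup.mul_mem_sup (hθ_mem a)
    rw [MonoidHom.mem_ker, map_mul, map_inv, hθ_fix _ (hθ_mem a), inv_mul_cancel]

/-- an invariant subgroup with a complement has an invariant complement -/
theorem exists_inv_complement {p m : ℕ} (hp : p.Prime)
    (hcop : (Fintype.card X).Coprime p) {K : Subgroup A} (hK : Inv ρ K)
    (hKp : ∀ k ∈ K, k ^ p ^ m = 1) (C₀ : Subgroup A) (h1 : K ⊓ C₀ = ⊥) (h2 : K ⊔ C₀ = ⊤) :
    ∃ C : Subgroup A, Inv ρ C ∧ K ⊓ C = ⊥ ∧ K ⊔ C = ⊤ := by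
  have hc : Subgroup.IsComplement' K C₀ := by
    apply Subgroup.isComplement'_of_disjoint_and_mul_eq_univ (disjoint_iff.2 h1)
    rw [← Subgroup.normal_mul, h2, Subgroup.coe_top]
  set π₀ : A →* A := K.subtype.comp (hc.QuotientMulEquiv.toMonoidHom.comp (QuotientGroup.mk' C₀))
    with hπ₀
  refine exists_inv_complement_of_retraction ρ hp hcop hK hKp π₀ (fun a => ?_) (fun k hk => ?_)
  · exact (hc.QuotientMulEquiv (QuotientGroup.mk' C₀ a)).2
  · have h3 : hc.QuotientMulEquiv (QuotientGroup.mk' C₀ k) = ⟨k, hk⟩ := by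
      rw [← MulEquiv.eq_symm_apply]
      rfl
    show ((hc.QuotientMulEquiv (QuotientGroup.mk' C₀ k) : ↥K) : A) = k
    rw [h3]

end Averaging

/-! ### homocyclic subgroups of maximal exponent are direct factors -/

section DirectFactor

variable [Finite A]

/-- If `A` has exponent dividing `p ^ (d+1)` and `B` is "homocyclic of exponent `p ^ (d+1)`"
(elements killed by `p ^ d` are `p`-th powers in `B`), then `B` has a complement. -/
theorem exists_complement_of_homocyclic {p d : ℕ} (hp : p.Prime)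
    (hexp : ∀ a : A, a ^ p ^ (d + 1) = 1) (B : Subgroup A)
    (hB : ∀ b ∈ B, b ^ p ^ d = 1 → ∃ b₁ ∈ B, b₁ ^ p = b) :
    ∃ C : Subgroup A, B ⊓ C = ⊥ ∧ B ⊔ C = ⊤ := by
  obtain ⟨C, -, hC⟩ := (Set.toFinite {C : Subgroup A | B ⊓ C = ⊥}).exists_le_maximal
    (show (⊥ : Subgroup A) ∈ {C : Subgroup A | B ⊓ C = ⊥} from inf_bot_eq B)
  have hBC : B ⊓ C = ⊥ := hC.prop
  refine ⟨C, hBC, ?_⟩
  by_contra hne
  -- an element outside `B ⊔ C` whose `p`-th power is inside
  obtain ⟨a, haBC, hap⟩ : ∃ a : A, a ∉ B ⊔ C ∧ a ^ p ∈ B ⊔ C := by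
    obtain ⟨a₀, ha₀⟩ : ∃ a₀ : A, a₀ ∉ B ⊔ C := by
      by_contra hcon
      push Not at hcon
      exact hne (eq_top_iff.2 fun a _ => hcon a)
    have hex : ∃ j, a₀ ^ p ^ j ∈ B ⊔ C := ⟨d + 1, by rw [hexp]; exact Subgroup.one_mem _⟩
    classical
    have hj0 : Nat.find hex ≠ 0 := by
      intro h0
      have := Nat.find_spec hex
      rw [h0, pow_zero, pow_one] at this
      exact ha₀ this
    obtain ⟨j, hj⟩ := Nat.exists_eq_succ_of_ne_zero hj0
    refine ⟨a₀ ^ p ^ j, Nat.find_min hex (by omega), ?_⟩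
    have := Nat.find_spec hex
    rwa [hj, pow_succ, pow_mul] at this
  obtain ⟨b, hb, c, hc, hbc⟩ := Subgroup.mem_sup.1 hap
  -- `b` is a `p`-th power in `B`
  have hb1 : b ^ p ^ d = 1 := by
    have h1 : (b * c) ^ p ^ d = 1 := by
      rw [hbc, ← pow_mul, ← pow_succ', hexp]
    rw [mul_pow] at h1
    have h2 : b ^ p ^ d ∈ B ⊓ C := by
      refine Subgroup.mem_inf.2 ⟨B.pow_mem hb _, ?_⟩
      have : b ^ p ^ d = (c ^ p ^ d)⁻¹ := eq_inv_of_mul_eq_one_left h1
      rw [this]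
      exact C.inv_mem (C.pow_mem hc _)
    rw [hBC, Subgroup.mem_bot] at h2
    exact h2
  obtain ⟨b₁, hb₁, hb₁p⟩ := hB b hb hb1
  set a' := a * b₁⁻¹ with ha'
  have ha'p : a' ^ p = c := by
    rw [ha', mul_pow, inv_pow, hb₁p, ← hbc, mul_comm b c, mul_inv_cancel_right]
  have ha'BC : a' ∉ B ⊔ C := by
    intro h
    apply haBC
    have : a = a' * b₁ := by rw [ha']; group
    rw [this]
    exact Subgroup.mul_mem _ h (Subgroup.mem_sup_left hb₁)
  -- enlarge `C`
  have hlt : ¬ B ⊓ (C ⊔ Subgroup.zpowers a') = ⊥ := by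
    intro h
    have hle := hC.le_of_ge (show C ⊔ Subgroup.zpowers a' ∈ {C : Subgroup A | B ⊓ C = ⊥} from h)
      le_sup_left
    exact ha'BC (Subgroup.mem_sup_right (hle (Subgroup.mem_sup_right (Subgroup.mem_zpowers a'))))
  obtain ⟨b', hb'mem, hb'ne⟩ : ∃ b' ∈ B ⊓ (C ⊔ Subgroup.zpowers a'), b' ≠ 1 := by
    by_contra hcon
    push Not at hcon
    exact hlt (eq_bot_iff.2 fun x hx => Subgroup.mem_bot.2 (hcon x hx))
  obtain ⟨hb'B, hb'C⟩ := Subgroup.mem_inf.1 hb'mem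
  obtain ⟨c', hc', z, hz, hcz⟩ := Subgroup.mem_sup.1 hb'C
  obtain ⟨j, rfl⟩ := Subgroup.mem_zpowers_iff.1 hz
  have hjp : ¬ (p : ℤ) ∣ j := by
    rintro ⟨t, rfl⟩
    apply hb'ne
    have h1 : a' ^ ((p : ℤ) * t) ∈ C := by
      rw [zpow_mul, zpow_natCast, ha'p]
      exact C.zpow_mem hc t
    have h2 : b' ∈ B ⊓ C := Subgroup.mem_inf.2 ⟨hb'B, hcz ▸ C.mul_mem hc' h1⟩
    rw [hBC, Subgroup.mem_bot] at h2
    exact h2
  -- Bezout
  have hcop : IsCoprime j (p : ℤ) := by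
    rw [Int.isCoprime_iff_gcd_eq_one]
    have hpz : Prime (p : ℤ) := Nat.prime_iff_prime_int.1 hp
    rw [Int.gcd_comm]
    exact Int.isCoprime_iff_gcd_eq_one.1 ((Prime.coprime_iff_not_dvd hpz).2 hjp)
  obtain ⟨u, v, huv⟩ := hcop
  apply ha'BC
  have h3 : a' = (a' ^ j) ^ u * (a' ^ (p : ℤ)) ^ v := by
    rw [← zpow_mul, ← zpow_mul, ← zpow_add]
    have : j * u + (p : ℤ) * v = 1 := by linarith
    rw [this, zpow_one]
  rw [h3]
  apply Subgroup.mul_mem
  · apply Subgroup.zpow_mem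
    have : a' ^ j = b' * c'⁻¹ := by rw [← hcz, mul_comm c', mul_inv_cancel_right]
    rw [this]
    exact Subgroup.mul_mem _ (Subgroup.mem_sup_left hb'B) (Subgroup.mem_sup_right (C.inv_mem hc'))
  · apply Subgroup.zpow_mem
    rw [zpow_natCast, ha'p]
    exact Subgroup.mem_sup_right hc

end DirectFactor

/-! ### Maschke and homocyclic invariant direct factors -/

section Main

variable [Finite A] [Fintype X]

/-- **Maschke** for elementary abelian groups. -/
theorem maschke {p : ℕ} (hp : p.Prime) (hcop : (Fintype.card X).Coprime p)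
    (hexp : ∀ a : A, a ^ p = 1) {K : Subgroup A} (hK : Inv ρ K) :
    ∃ S : Subgroup A, Inv ρ S ∧ K ⊓ S = ⊥ ∧ K ⊔ S = ⊤ := by
  obtain ⟨C₀, h1, h2⟩ := exists_complement_of_homocyclic (p := p) (d := 0) hp
    (fun a => by rw [zero_add, pow_one]; exact hexp a) K
    (fun b hb hb1 => ⟨1, K.one_mem, by rw [pow_zero, pow_one] at hb1; rw [hb1, one_pow]⟩)
  exact exists_inv_complement ρ (m := 1) hp hcop hK (fun k _ => by rw [pow_one]; exact hexp k)
    C₀ h1 h2

/-- If no proper invariant subgroup has the same image under `a ↦ a ^ p ^ d`, then the group is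
homocyclic of exponent `p ^ (d+1)`. -/
theorem homocyclic_of_minimal {p d : ℕ} (hp : p.Prime) (hcop : (Fintype.card X).Coprime p)
    (hmin : ∀ S : Subgroup A, Inv ρ S → (∀ a : A, ∃ s ∈ S, s ^ p ^ d = a ^ p ^ d) → S = ⊤)
    (a : A) (ha : a ^ p ^ d = 1) : ∃ a₁ : A, a₁ ^ p = a := by
  set N : Subgroup A := (powMonoidHom p : A →* A).range with hN
  have hNinv : Inv ρ N := inv_range_pow ρ p
  set K : Subgroup A := (powMonoidHom (p ^ d) : A →* A).ker with hK
  have hKinv : Inv ρ K := inv_ker_pow ρ _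
  have hexpV : ∀ v : A ⧸ N, v ^ p = 1 := by
    intro v
    induction v using QuotientGroup.induction_on with
    | H b =>
      rw [← QuotientGroup.mk_pow, QuotientGroup.eq_one_iff]
      exact ⟨b, rfl⟩
  obtain ⟨S', hS'inv, h1, h2⟩ := maschke (quo ρ N hNinv) hp hcop hexpV
    (inv_map_mk ρ hNinv hKinv)
  set S : Subgroup A := S'.comap (QuotientGroup.mk' N) with hS
  have hSinv : Inv ρ S := inv_comap_mk ρ hNinv hS'inv
  have hStop : S = ⊤ := by
    apply hmin S hSinv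
    intro b
    have hb : (QuotientGroup.mk' N b) ∈ K.map (QuotientGroup.mk' N) ⊔ S' := by
      rw [h2]; exact Subgroup.mem_top _
    obtain ⟨k', ⟨k, hk, rfl⟩, s', hs', hks⟩ := Subgroup.mem_sup.1 hb
    refine ⟨b * k⁻¹, ?_, ?_⟩
    · rw [hS, Subgroup.mem_comap, map_mul, map_inv, ← hks]
      rw [mul_comm, ← mul_assoc, inv_mul_cancel, one_mul]
      exact hs'
    · have hk1 : k ^ p ^ d = 1 := hk
      rw [mul_pow, inv_pow, hk1, inv_one, mul_one]
  have haK : QuotientGroup.mk' N a ∈ K.map (QuotientGroup.mk' N) := ⟨a, ha, rfl⟩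
  have haS : QuotientGroup.mk' N a ∈ S' := by
    have : a ∈ S := by rw [hStop]; exact Subgroup.mem_top _
    exact this
  have h3 : QuotientGroup.mk' N a ∈ K.map (QuotientGroup.mk' N) ⊓ S' := Subgroup.mem_inf.2 ⟨haK, haS⟩
  rw [h1, Subgroup.mem_bot, QuotientGroup.mk'_apply, QuotientGroup.eq_one_iff] at h3
  obtain ⟨a₁, ha₁⟩ := h3
  exact ⟨a₁, ha₁⟩

/-- **Homocyclic direct factor.** Let `A` have exponent dividing `p ^ (d+1)` and let `U₁ ≠ ⊥` be an
invariant subgroup consisting of `p ^ d`-th powers.  Then `A = B × C` with `B, C` invariant,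
`B ≠ ⊥` and `Ω₁(B) ≤ U₁`. -/
theorem exists_homocyclic_factor {p d : ℕ} (hp : p.Prime) (hcop : (Fintype.card X).Coprime p)
    (hexp : ∀ a : A, a ^ p ^ (d + 1) = 1) (U₁ : Subgroup A) (hU₁inv : Inv ρ U₁) (hU₁ne : U₁ ≠ ⊥)
    (hU₁ : ∀ u ∈ U₁, ∃ a : A, a ^ p ^ d = u) :
    ∃ B C : Subgroup A, Inv ρ B ∧ Inv ρ C ∧ B ⊓ C = ⊥ ∧ B ⊔ C = ⊤ ∧ B ≠ ⊥ ∧
      ∀ b ∈ B, b ^ p = 1 → b ∈ U₁ := by
  set φ : A →* A := powMonoidHom (p ^ d) with hφ
  -- a minimal invariant subgroup whose image contains `U₁`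
  obtain ⟨B, -, hBmin⟩ := (Set.toFinite {B : Subgroup A | Inv ρ B ∧ U₁ ≤ B.map φ}).exists_le_minimal
    (show (⊤ : Subgroup A) ∈ {B : Subgroup A | Inv ρ B ∧ U₁ ≤ B.map φ} from
      ⟨inv_top ρ, fun u hu => by
        obtain ⟨a, ha⟩ := hU₁ u hu
        exact ⟨a, Subgroup.mem_top _, ha⟩⟩)
  obtain ⟨hBinv, hBU⟩ := hBmin.prop
  -- `φ(B) ≤ U₁`
  have hφB : ∀ b ∈ B, b ^ p ^ d ∈ U₁ := by
    have hB' : B ⊓ U₁.comap φ ∈ {B : Subgroup A | Inv ρ B ∧ U₁ ≤ B.map φ} := by
      refine ⟨hBinv.inf ρ (hU₁inv.preimage_pow ρ _), ?_⟩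
      intro u hu
      obtain ⟨b, hb, rfl⟩ := hBU hu
      exact ⟨b, Subgroup.mem_inf.2 ⟨hb, hu⟩, rfl⟩
    have hle := hBmin.le_of_le hB' inf_le_left
    intro b hb
    exact (Subgroup.mem_inf.1 (hle hb)).2
  -- `B` is homocyclic
  have hBhom : ∀ b ∈ B, b ^ p ^ d = 1 → ∃ b₁ ∈ B, b₁ ^ p = b := by
    intro b hb hb1
    obtain ⟨b₁, hb₁⟩ := homocyclic_of_minimal (res ρ B hBinv) hp hcop (by
      intro S hSinv hS
      have hS' : S.map B.subtype ∈ {B : Subgroup A | Inv ρ B ∧ U₁ ≤ B.map φ} := by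
        refine ⟨inv_map_subtype ρ hBinv hSinv, ?_⟩
        intro u hu
        obtain ⟨c, hc, rfl⟩ := hBU hu
        obtain ⟨s, hs, hsc⟩ := hS ⟨c, hc⟩
        refine ⟨(s : A), ⟨s, hs, rfl⟩, ?_⟩
        have := congrArg Subtype.val hsc
        rw [Subgroup.coe_pow, Subgroup.coe_pow] at this
        exact this
      have hle := hBmin.le_of_le hS' (by
        rintro _ ⟨s, -, rfl⟩
        exact s.2)
      rw [eq_top_iff]
      intro c _
      obtain ⟨s, hs, hsc⟩ := hle c.2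
      have : s = c := Subtype.ext hsc
      rw [← this]; exact hs) ⟨b, hb⟩ (Subtype.ext (by rw [Subgroup.coe_pow]; exact hb1))
    exact ⟨b₁, b₁.2, by have := congrArg Subtype.val hb₁; simpa using this⟩
  obtain ⟨C₀, h1, h2⟩ := exists_complement_of_homocyclic hp hexp B hBhom
  obtain ⟨C, hCinv, h3, h4⟩ := exists_inv_complement ρ (m := d + 1) hp hcop hBinv
    (fun k _ => hexp k) C₀ h1 h2
  refine ⟨B, C, hBinv, hCinv, h3, h4, ?_, ?_⟩
  · rintro rfl
    apply hU₁ne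
    rw [eq_bot_iff]
    intro u hu
    obtain ⟨b, hb, rfl⟩ := hBU hu
    have hb' : b = 1 := Subgroup.mem_bot.1 hb
    rw [hb', map_one]; exact Subgroup.one_mem _
  · intro b hb hbp
    -- `b` is a `p ^ j`-th power in `B` for all `j ≤ d`
    have key : ∀ j, j ≤ d → ∃ c ∈ B, c ^ p ^ j = b := by
      intro j
      induction j with
      | zero => intro _; exact ⟨b, hb, by rw [pow_zero, pow_one]⟩
      | succ j ih =>
        intro hj
        obtain ⟨c, hc, hcb⟩ := ih (by omega)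
        have hc1 : c ^ p ^ d = 1 := by
          have h5 : c ^ p ^ (j + 1) = 1 := by rw [pow_succ, pow_mul, hcb, hbp]
          have h6 : p ^ (j + 1) ∣ p ^ d := pow_dvd_pow p hj
          obtain ⟨t, ht⟩ := h6
          rw [ht, pow_mul, h5, one_pow]
        obtain ⟨c₁, hc₁, hc₁p⟩ := hBhom c hc hc1
        exact ⟨c₁, hc₁, by rw [pow_succ', pow_mul, hc₁p, hcb]⟩
    obtain ⟨c, hc, hcb⟩ := key d le_rfl
    rw [← hcb]
    exact hφB c hc

end Main

end Cfsg.Agent.Lib.Helper2.CoprimeAbelian
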