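import Mathlib
import Cfsg.Agent.Lib.Helper2.BGH11
import Cfsg.Agent.Lib.Helper2.CoprimeAbelian
import Cfsg.Agent.Lib.Helper7.CoprimeAbelian
import Cfsg.Agent.Lib.Helper1.Coprime
import Cfsg.Agent.Lib.Helper1.TF6

set_option autoImplicit false
set_option maxHeartbeats 4000000
set_option linter.unusedVariables false
set_option linter.unusedSectionVars false
set_option linter.style.longLine false
set_option linter.unusedSimpArgs false
set_option linter.style.haveILetI false
set_option linter.deprecated false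

/-!
# Abstract tools for B&G 12.10(e) (S1421)

* `norm_eq_one`, `frob_prime_fixed`: a Frobenius group with complement of prime order acting
  coprimely with fixed-point-free kernel: the complement has fixed points.
* `no_fpf_rank2`: `Z_r × Z_r` has no fixed-point-free action.
* `comm_acts_trivially`, `comm_centralizes_zgroup`: the derived group of `N` centralizes an
  `N`-invariant Z-group of coprime order.
-/

open scoped commutatorElement Pointwise
universe u
namespace Cfsg.Agent.Lib.Helper2.BGJ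

open Cfsg Cfsg.Agent.Lib.Helper1 Cfsg.Agent.Lib.Helper7 Cfsg.Agent.Lib.Helper7.BGRows
open Cfsg.Agent.Lib.Lead

/-- the norm of a fixed-point-free automorphism of finite order vanishes -/
theorem norm_eq_one {V : Type*} [CommGroup V] (y : MulAut V) {r : ℕ} (hyr : y ^ r = 1)
    (hy : ∀ w : V, y w = w → w = 1) (w : V) : ∏ i ∈ Finset.range r, (y ^ i) w = 1 := by
  apply hy
  rw [map_prod]
  have h1 : ∀ i, y ((y ^ i) w) = (y ^ (i + 1)) w := by
    intro i
    rw [pow_succ', MulAut.mul_apply]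
  simp_rw [h1]
  have h2 := Finset.prod_range_succ (fun i => (y ^ i) w) r
  have h3 := Finset.prod_range_succ' (fun i => (y ^ i) w) r
  rw [h2] at h3
  simp only [hyr, pow_zero] at h3
  exact (mul_right_cancel h3).symm

/-- A group `K ⋊ ⟨e⟩` with `e` of prime order acting fixed point freely on `K` acts on the abelian
group `V` of order prime to `|K|`; if `K` has no fixed points on `V` then `e` has. -/
theorem frob_prime_fixed {F V : Type*} [Group F] [CommGroup V] [Finite V]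
    (ρ : F →* MulAut V) (K : Subgroup F) [Finite K] (e : F) {r : ℕ} (hr : r.Prime)
    (her : e ^ r = 1)
    (heK : ∀ k ∈ K, ∀ i : ℕ, e ^ i * k * (e ^ i)⁻¹ ∈ K)
    (hfpf : ∀ i, 0 < i → i < r → ∀ k ∈ K, e ^ i * k = k * e ^ i → k = 1)
    (hcop : (Nat.card V).Coprime (Nat.card K))
    (hCK : ∀ v : V, (∀ k ∈ K, ρ k v = v) → v = 1)
    (hCe : ∀ v : V, ρ e v = v → v = 1) : ∀ v : V, v = 1 := by
  classical
  intro v
  haveI : Fintype K := Fintype.ofFinite K
  have hρmul : ∀ (a b : F) (w : V), ρ (a * b) w = ρ a (ρ b w) := by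
    intro a b w
    rw [map_mul, MulAut.mul_apply]
  have hρinv : ∀ (a : F) (w : V), ρ a⁻¹ (ρ a w) = w := by
    intro a w
    rw [← hρmul, inv_mul_cancel, map_one, MulAut.one_apply]
  have hρinv' : ∀ (a : F) (w : V), ρ a (ρ a⁻¹ w) = w := by
    intro a w
    rw [← hρmul, mul_inv_cancel, map_one, MulAut.one_apply]
  -- conjugates of `e` have no fixed points
  have hCy : ∀ k : K, ∀ w : V, ρ ((k : F) * e * (k : F)⁻¹) w = w → w = 1 := by
    intro k w hw
    rw [hρmul, hρmul] at hw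
    have h1 : ρ e (ρ (k : F)⁻¹ w) = ρ (k : F)⁻¹ w := by
      have h2 := congrArg (ρ (k : F)⁻¹) hw
      rw [hρinv] at h2
      exact h2
    have h3 := hCe _ h1
    have h4 := congrArg (ρ (k : F)) h3
    rw [hρinv'] at h4
    rw [h4]
    exact map_one (ρ (k : F))
  have hN : ∀ k : K, ∏ i ∈ Finset.range r, ρ ((k : F) * e ^ i * (k : F)⁻¹) v = 1 := by
    intro k
    have h1 := norm_eq_one (ρ ((k : F) * e * (k : F)⁻¹)) (r := r)
      (by rw [← map_pow, conj_pow, her, mul_one, mul_inv_cancel, map_one]) (hCy k) v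
    simp_rw [← map_pow, conj_pow] at h1
    exact h1
  have hprod : ∏ k : K, ∏ i ∈ Finset.range r, ρ ((k : F) * e ^ i * (k : F)⁻¹) v = 1 :=
    Finset.prod_eq_one (fun k _ => hN k)
  rw [Finset.prod_comm] at hprod
  obtain ⟨r', rfl⟩ : ∃ r', r = r' + 1 := ⟨r - 1, by have := hr.pos; omega⟩
  rw [Finset.prod_range_succ'] at hprod
  have h0 : ∏ k : K, ρ ((k : F) * e ^ 0 * (k : F)⁻¹) v = v ^ Nat.card K := by
    simp only [pow_zero, mul_one, mul_inv_cancel, map_one, MulAut.one_apply, Finset.prod_const,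
      Finset.card_univ, Nat.card_eq_fintype_card]
  have hpos : ∀ i ∈ Finset.range r', ∏ k : K, ρ ((k : F) * e ^ (i + 1) * (k : F)⁻¹) v = 1 := by
    intro i hi
    have hi' : i + 1 < r' + 1 := by have := Finset.mem_range.mp hi; omega
    obtain ⟨j, hj⟩ : ∃ j, j = i + 1 := ⟨_, rfl⟩
    rw [← hj]
    rw [← hj] at hi'
    have hj0 : 0 < j := by omega
    have hσmem : ∀ k : K, (k : F) * (e ^ j * (k : F)⁻¹ * (e ^ j)⁻¹) ∈ K := fun k =>
      K.mul_mem k.2 (heK _ (K.inv_mem k.2) j)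
    obtain ⟨σ, hσ⟩ : ∃ σ : K → K, ∀ k : K,
        ((σ k : K) : F) = (k : F) * (e ^ j * (k : F)⁻¹ * (e ^ j)⁻¹) :=
      ⟨fun k => ⟨_, hσmem k⟩, fun k => rfl⟩
    have hσinj : Function.Injective σ := by
      intro k k' h
      have h1 : (k : F) * (e ^ j * (k : F)⁻¹ * (e ^ j)⁻¹) =
          (k' : F) * (e ^ j * (k' : F)⁻¹ * (e ^ j)⁻¹) := by
        rw [← hσ, ← hσ, h]
      have h2 : e ^ j * ((k' : F)⁻¹ * (k : F)) = ((k' : F)⁻¹ * (k : F)) * e ^ j := by
        have h3 : (k' : F)⁻¹ * (k : F) * e ^ j * (k : F)⁻¹ = e ^ j * (k' : F)⁻¹ := by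
          calc (k' : F)⁻¹ * (k : F) * e ^ j * (k : F)⁻¹
              = (k' : F)⁻¹ * ((k : F) * (e ^ j * (k : F)⁻¹ * (e ^ j)⁻¹)) * e ^ j := by group
            _ = (k' : F)⁻¹ * ((k' : F) * (e ^ j * (k' : F)⁻¹ * (e ^ j)⁻¹)) * e ^ j := by rw [h1]
            _ = e ^ j * (k' : F)⁻¹ := by group
        calc e ^ j * ((k' : F)⁻¹ * (k : F)) = (e ^ j * (k' : F)⁻¹) * (k : F) := by group
          _ = ((k' : F)⁻¹ * (k : F) * e ^ j * (k : F)⁻¹) * (k : F) := by rw [h3]
          _ = ((k' : F)⁻¹ * (k : F)) * e ^ j := by group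
      have h3 := hfpf j hj0 hi' _ (K.mul_mem (K.inv_mem k'.2) k.2) h2
      apply Subtype.ext
      have h4 : (k : F) = (k' : F) * ((k' : F)⁻¹ * (k : F)) := by group
      rw [h4, h3, mul_one]
    have hσbij : Function.Bijective σ := Finite.injective_iff_bijective.mp hσinj
    have h1 : ∀ k : K, ρ ((k : F) * e ^ j * (k : F)⁻¹) v = ρ ((σ k : K) : F) (ρ (e ^ j) v) := by
      intro k
      rw [← hρmul, hσ]
      congr 2
      group
    simp_rw [h1]
    rw [Function.Bijective.prod_comp hσbij (fun k : K => ρ ((k : K) : F) (ρ (e ^ j) v))]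
    apply hCK
    intro k₀ hk₀
    rw [map_prod]
    have h2 : ∀ k : K, ρ k₀ (ρ (k : F) (ρ (e ^ j) v)) =
        ρ (((⟨k₀, hk₀⟩ : K) * k : K) : F) (ρ (e ^ j) v) := by
      intro k
      rw [← hρmul]
      rfl
    simp_rw [h2]
    exact Function.Bijective.prod_comp (Group.mulLeft_bijective (⟨k₀, hk₀⟩ : K))
      (fun k : K => ρ ((k : K) : F) (ρ (e ^ j) v))
  rw [Finset.prod_eq_one hpos, one_mul, h0] at hprod
  have h8 : v ^ Nat.card V = 1 := pow_card_eq_one'
  have h9 : v ^ (Nat.gcd (Nat.card V) (Nat.card K)) = 1 := by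
    rw [← orderOf_dvd_iff_pow_eq_one] at hprod h8 ⊢
    exact Nat.dvd_gcd h8 hprod
  rw [hcop, pow_one] at h9
  exact h9

/-- `Z_r × Z_r` has no fixed point free action: two commuting automorphisms of order dividing `r`
all of whose non-trivial combinations are fixed point free. -/
theorem no_fpf_rank2 {V : Type*} [CommGroup V] (ξ β : MulAut V) (hc : ξ * β = β * ξ) {r : ℕ}
    (hr : 1 < r) (hξ : ξ ^ r = 1) (hβ : β ^ r = 1)
    (hfpf : ∀ i l : ℕ, ¬ (r ∣ i ∧ r ∣ l) → ∀ a : V, (ξ ^ i * β ^ l) a = a → a = 1) (a : V) :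
    a ^ r = 1 := by
  have hcomm : Commute ξ β := hc
  have hrow : ∀ l : ℕ, ∏ j ∈ Finset.range r, (ξ ^ j * β ^ (l * j)) a = 1 := by
    intro l
    have hy1 : (ξ * β ^ l) ^ r = 1 := by
      rw [(hcomm.pow_right l).mul_pow, hξ, ← pow_mul, mul_comm l r, pow_mul, hβ, one_pow, one_mul]
    have hy2 : ∀ w : V, (ξ * β ^ l) w = w → w = 1 := by
      intro w hw
      apply hfpf 1 l _ w
      · rw [pow_one]; exact hw
      · intro h
        have := Nat.le_of_dvd one_pos h.1
        omega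
    have h1 := norm_eq_one (ξ * β ^ l) hy1 hy2 a
    simp_rw [(hcomm.pow_right l).mul_pow, ← pow_mul] at h1
    exact h1
  have htot : ∏ l ∈ Finset.range r, ∏ j ∈ Finset.range r, (ξ ^ j * β ^ (l * j)) a = 1 :=
    Finset.prod_eq_one (fun l _ => hrow l)
  rw [Finset.prod_comm] at htot
  obtain ⟨r', rfl⟩ : ∃ r', r = r' + 1 := ⟨r - 1, by omega⟩
  rw [Finset.prod_range_succ'
    (fun j => ∏ l ∈ Finset.range (r' + 1), (ξ ^ j * β ^ (l * j)) a)] at htot
  have h0 : ∏ l ∈ Finset.range (r' + 1), (ξ ^ 0 * β ^ (l * 0)) a = a ^ (r' + 1) := by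
    simp
  have hpos : ∀ j ∈ Finset.range r',
      ∏ l ∈ Finset.range (r' + 1), (ξ ^ (j + 1) * β ^ (l * (j + 1))) a = 1 := by
    intro j hj
    have hj' : j + 1 < r' + 1 := by have := Finset.mem_range.mp hj; omega
    have h1 : ∀ l, (ξ ^ (j + 1) * β ^ (l * (j + 1))) a =
        (ξ ^ (j + 1)) (((β ^ (j + 1)) ^ l) a) := by
      intro l
      rw [MulAut.mul_apply, mul_comm l, pow_mul]
    simp_rw [h1]
    rw [← map_prod]
    have hy1 : (β ^ (j + 1)) ^ (r' + 1) = 1 := by
      rw [← pow_mul, mul_comm, pow_mul, hβ, one_pow]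
    have hy2 : ∀ w : V, (β ^ (j + 1)) w = w → w = 1 := by
      intro w hw
      apply hfpf 0 (j + 1) _ w
      · rw [pow_zero, one_mul]; exact hw
      · intro h
        have := Nat.le_of_dvd (by omega) h.2
        omega
    rw [norm_eq_one (β ^ (j + 1)) hy1 hy2 a, map_one]
  rw [Finset.prod_eq_one hpos, one_mul, h0] at htot
  exact htot

variable {G : Type u} [Group G]

/-- the derived group of `N` acts trivially on the abelianization of an `N`-invariant subgroup
with cyclic abelianization -/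
theorem comm_acts_trivially {Y N : Subgroup G} (hNY : N ≤ Subgroup.normalizer (Y : Set G))
    [hcyc : IsCyclic (Abelianization ↥Y)] :
    ∀ c ∈ ⁅N, N⁆, ∀ y ∈ Y, (c * y * c⁻¹)⁻¹ * y ∈ ⁅Y, Y⁆ := by
  obtain ⟨ζ, hζ⟩ : ∃ ζ : ↥N →* MulAut ↥Y, ∀ (n : ↥N) (y : ↥Y),
      ((ζ n y : ↥Y) : G) = (n : G) * (y : G) * (n : G)⁻¹ :=
    ⟨TF.zeta Y N hNY, fun n y => rfl⟩
  have hcommAut : ∀ f g : MulAut (Abelianization ↥Y), f * g = g * f := by
    intro f g
    apply (IsCyclic.mulAutMulEquiv (Abelianization ↥Y)).injective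
    rw [map_mul, map_mul, mul_comm]
  have hof : ∀ (n : ↥N) (y : ↥Y), (ζ n).abelianizationCongr (Abelianization.of y) =
      Abelianization.of (ζ n y) := fun n y => abelianizationCongr_of _ _
  obtain ⟨ψ, hψ⟩ : ∃ ψ : ↥N →* MulAut (Abelianization ↥Y),
      ∀ n : ↥N, ψ n = (ζ n).abelianizationCongr := by
    refine ⟨{ toFun := fun n => (ζ n).abelianizationCongr, map_one' := ?_, map_mul' := ?_ },
      fun n => rfl⟩
    · apply MulEquiv.ext
      intro x
      obtain ⟨y, rfl⟩ := QuotientGroup.mk_surjective x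
      show (ζ 1).abelianizationCongr (Abelianization.of y) = Abelianization.of y
      rw [hof, map_one, MulAut.one_apply]
    · intro a b
      apply MulEquiv.ext
      intro x
      obtain ⟨y, rfl⟩ := QuotientGroup.mk_surjective x
      show (ζ (a * b)).abelianizationCongr (Abelianization.of y) =
        (ζ a).abelianizationCongr ((ζ b).abelianizationCongr (Abelianization.of y))
      rw [hof, hof, hof, map_mul, MulAut.mul_apply]
  have hker : commutator ↥N ≤ ψ.ker := by
    rw [commutator_def, Subgroup.commutator_le]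
    intro g₁ _ g₂ _
    rw [MonoidHom.mem_ker, map_commutatorElement, commutatorElement_eq_one_iff_mul_comm]
    exact hcommAut _ _
  intro c hc y hy
  rw [← Subgroup.map_subtype_commutator] at hc
  obtain ⟨c', hc', rfl⟩ := hc
  have h1 : ψ c' = 1 := MonoidHom.mem_ker.mp (hker hc')
  have h2 : Abelianization.of (ζ c' ⟨y, hy⟩) = Abelianization.of (⟨y, hy⟩ : ↥Y) := by
    rw [← hof, ← hψ, h1, MulAut.one_apply]
  have h3 : (ζ c' ⟨y, hy⟩)⁻¹ * (⟨y, hy⟩ : ↥Y) ∈ commutator ↥Y := QuotientGroup.eq.mp h2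
  rw [← Subgroup.map_subtype_commutator]
  refine ⟨_, h3, ?_⟩
  rw [Subgroup.coe_subtype, Subgroup.coe_mul, Subgroup.coe_inv, hζ]
  rfl

variable [Finite G]

/-- **Lemma ZS**: a subgroup `S ≤ N'` of order prime to an `N`-invariant Z-group `J` centralizes
`J` -/
theorem comm_centralizes_zgroup {S J N : Subgroup G}
    (hNJ : N ≤ Subgroup.normalizer (J : Set G)) (hNS : N ≤ Subgroup.normalizer (S : Set G))
    (hSN : S ≤ ⁅N, N⁆) (hcop : (Nat.card S).Coprime (Nat.card J))
    (hZ : ∀ Y : Subgroup G, Y ≤ J → IsZGroup ↥Y) (hsolv : Group.IsSolvable ↥J) :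
    ∀ s ∈ S, ∀ j ∈ J, s * j = j * s := by
  have hNN : ⁅N, N⁆ ≤ N := BGB.comm_le_self N
  have hSJ : S ≤ Subgroup.normalizer (J : Set G) := (hSN.trans hNN).trans hNJ
  obtain ⟨Y, hYdef⟩ : ∃ Y : Subgroup G, Y = ⁅J, S⁆ := ⟨_, rfl⟩
  have hYJ : Y ≤ J := by
    rw [hYdef]; exact Subgroup.le_normalizer_iff_commutator_le_left.mp hSJ
  have hYY : ⁅Y, S⁆ = Y := by
    rw [hYdef]; exact coprime_commutator_commutator S J hSJ hcop (Or.inr hsolv)
  have hNY : N ≤ Subgroup.normalizer (Y : Set G) := by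
    intro n hn
    apply BG7.mem_normalizer_of_cj_eq
    rw [hYdef]
    unfold BG7.cj
    rw [Subgroup.map_commutator]
    have h1 := BG7.cj_eq_of_mem_normalizer (hNJ hn)
    have h2 := BG7.cj_eq_of_mem_normalizer (hNS hn)
    unfold BG7.cj at h1 h2
    rw [h1, h2]
  have hYbot : Y = ⊥ := by
    by_contra hne
    haveI : IsZGroup ↥Y := hZ Y hYJ
    haveI : Nontrivial ↥Y := (Subgroup.nontrivial_iff_ne_bot Y).mpr hne
    have hlt : commutator ↥Y < ⊤ := IsZGroup.commutator_lt ↥Y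
    have hle : Y ≤ ⁅Y, Y⁆ := by
      conv_lhs => rw [← hYY]
      rw [Subgroup.commutator_le]
      intro y hy s hs
      have h1 := comm_acts_trivially hNY s (hSN hs) y hy
      have h2 : ⁅y, s⁆ = y * ((s * y * s⁻¹)⁻¹ * y) * y⁻¹ := by
        rw [commutatorElement_def]; group
      rw [h2]
      exact BGB.conj_mem_commutator hy h1
    apply hlt.ne
    rw [eq_top_iff]
    intro y _
    have h1 : (y : G) ∈ ⁅Y, Y⁆ := hle y.2
    rw [← Subgroup.map_subtype_commutator] at h1
    obtain ⟨y', hy', hyy⟩ := h1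
    have : y' = y := Subtype.ext hyy
    rw [← this]; exact hy'
  intro s hs j hj
  have h1 : ⁅j, s⁆ ∈ ⁅J, S⁆ := Subgroup.commutator_mem_commutator hj hs
  rw [← hYdef, hYbot, Subgroup.mem_bot, commutatorElement_eq_one_iff_mul_comm] at h1
  exact h1.symm

end Cfsg.Agent.Lib.Helper2.BGJ
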