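import Mathlib
import Cfsg.Agent.Lib.Helper2.BGJ1

set_option autoImplicit false
set_option maxHeartbeats 4000000
set_option linter.unusedVariables false
set_option linter.unusedSectionVars false
set_option linter.style.longLine false
set_option linter.unusedSimpArgs false
set_option linter.style.haveILetI false
set_option linter.deprecated false

/-!
# Tools for B&G 12.10(e) (S1421), subgroup versions

* `exists_inv_cyclic`: invariant cyclic subgroups of maximal order through a given invariant line.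
* `frattini_elt`: the Frattini argument.
* `frob_fixed_sub`, `no_fpf_sub`: subgroup versions of the fixed point lemmas.
-/

open scoped commutatorElement Pointwise
universe u
namespace Cfsg.Agent.Lib.Helper2.BGJ

open Cfsg Cfsg.Agent.Lib.Helper1 Cfsg.Agent.Lib.Helper7 Cfsg.Agent.Lib.Helper7.BGRows
open Cfsg.Agent.Lib.Lead

variable {G : Type u} [Group G] [Finite G]

/-- An abelian `p`-group `S` of exponent `p ^ (d+1)` acted on by a `p'`-group `H` which normalizes
a subgroup `L₀` of order `p` consisting of `p ^ d`-th powers: there is an `H`-invariant cyclic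
subgroup of order `p ^ (d+1)` containing `L₀`. -/
theorem exists_inv_cyclic {p : ℕ} [hp : Fact p.Prime] (hp2 : p ≠ 2) {S H L₀ : Subgroup G}
    (hSc : IsMulCommutative ↥S) (hSp : IsPGroup p S)
    (hHS : H ≤ Subgroup.normalizer (S : Set G)) (hcop : (Nat.card H).Coprime p)
    (hLS : L₀ ≤ S) (hLp : Nat.card L₀ = p) (hLH : H ≤ Subgroup.normalizer (L₀ : Set G)) (d : ℕ)
    (hexp : ∀ s ∈ S, s ^ p ^ (d + 1) = 1) (s₀ : G) (hs₀ : s₀ ∈ S) (hs₀L : s₀ ^ p ^ d ∈ L₀)
    (hs₀1 : s₀ ^ p ^ d ≠ 1) :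
    ∃ c ∈ S, H ≤ Subgroup.normalizer ((Subgroup.zpowers c : Subgroup G) : Set G) ∧
      orderOf c = p ^ (d + 1) ∧ L₀ ≤ Subgroup.zpowers c := by
  classical
  letI : CommGroup ↥S :=
    { (inferInstance : Group ↥S) with mul_comm := fun a b => mul_comm' a b }
  haveI : Fintype ↥H := Fintype.ofFinite _
  obtain ⟨ρ, hρ⟩ : ∃ ρ : ↥H →* Monoid.End ↥S, ∀ (h : ↥H) (s : ↥S),
      ((ρ h s : ↥S) : G) = (h : G) * s * (h : G)⁻¹ := by
    refine ⟨{ toFun := fun h => conjEnd S (h : G) (hHS h.2), map_one' := ?_, map_mul' := ?_ },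
      fun h s => rfl⟩
    · apply MonoidHom.ext; intro s; apply Subtype.ext
      show ((1 : ↥H) : G) * s * ((1 : ↥H) : G)⁻¹ = s
      simp
    · intro a b
      apply MonoidHom.ext; intro s; apply Subtype.ext
      show ((a * b : ↥H) : G) * s * ((a * b : ↥H) : G)⁻¹ =
        (a : G) * ((b : G) * s * (b : G)⁻¹) * (a : G)⁻¹
      rw [Subgroup.coe_mul]; group
  obtain ⟨U₁, hU₁def⟩ : ∃ U₁ : Subgroup ↥S, U₁ = L₀.subgroupOf S := ⟨_, rfl⟩
  have hU₁inv : CoprimeAbelian.Inv ρ U₁ := by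
    intro h b hb
    rw [hU₁def, Subgroup.mem_subgroupOf] at hb ⊢
    rw [hρ]
    exact (Subgroup.mem_normalizer_iff.mp (hLH h.2) _).mp hb
  obtain ⟨z, hzdef⟩ : ∃ z : G, z = s₀ ^ p ^ d := ⟨_, rfl⟩
  rw [← hzdef] at hs₀L hs₀1
  have hzL : Subgroup.zpowers z = L₀ := BK.zpowers_eq_of_card_prime hLp hs₀L hs₀1
  have hU₁ne : U₁ ≠ ⊥ := by
    intro hbot
    have h1 : (⟨z, hLS hs₀L⟩ : ↥S) ∈ U₁ := by
      rw [hU₁def, Subgroup.mem_subgroupOf]; exact hs₀L
    rw [hbot, Subgroup.mem_bot] at h1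
    exact hs₀1 (congrArg Subtype.val h1)
  have hexp' : ∀ a : ↥S, a ^ p ^ (d + 1) = 1 := by
    intro a
    apply Subtype.ext
    rw [Subgroup.coe_pow]
    exact hexp a a.2
  have hU₁ : ∀ u ∈ U₁, ∃ a : ↥S, a ^ p ^ d = u := by
    intro u hu
    rw [hU₁def, Subgroup.mem_subgroupOf, ← hzL] at hu
    obtain ⟨k, hk⟩ := Subgroup.mem_zpowers_iff.mp hu
    refine ⟨(⟨s₀, hs₀⟩ : ↥S) ^ k, ?_⟩
    apply Subtype.ext
    rw [Subgroup.coe_pow, Subgroup.coe_zpow, ← hk, hzdef]
    show (s₀ ^ k) ^ p ^ d = (s₀ ^ p ^ d) ^ k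
    rw [← zpow_natCast, ← zpow_natCast, ← zpow_mul, ← zpow_mul, mul_comm]
  have hcop' : (Fintype.card ↥H).Coprime p := by
    rw [← Nat.card_eq_fintype_card]; exact hcop
  obtain ⟨B, C, hBinv, hCinv, hBC, hBC', hBne, hBΩ⟩ :=
    CoprimeAbelian.exists_homocyclic_factor ρ hp.out hcop' hexp' U₁ hU₁inv hU₁ne hU₁
  -- back to `G`
  obtain ⟨B', hB'def⟩ : ∃ B' : Subgroup G, B' = B.map S.subtype := ⟨_, rfl⟩
  have hB'S : B' ≤ S := hB'def ▸ Subgroup.map_subtype_le _
  have hB'p : IsPGroup p B' := hSp.to_le hB'S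
  have hmemB' : ∀ x : G, x ∈ B' ↔ ∃ hx : x ∈ S, (⟨x, hx⟩ : ↥S) ∈ B := by
    intro x
    rw [hB'def]
    constructor
    · rintro ⟨y, hy, rfl⟩
      exact ⟨y.2, hy⟩
    · rintro ⟨hx, hy⟩
      exact ⟨⟨x, hx⟩, hy, rfl⟩
  have hB'Ω : ∀ b ∈ B', b ^ p = 1 → b ∈ L₀ := by
    intro b hb hbp
    obtain ⟨hbS, hbB⟩ := (hmemB' b).mp hb
    have h1 := hBΩ ⟨b, hbS⟩ hbB (by apply Subtype.ext; rw [Subgroup.coe_pow]; exact hbp)
    rw [hU₁def, Subgroup.mem_subgroupOf] at h1
    exact h1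
  -- `B'` is cyclic
  have hB'cyc : IsCyclic ↥B' := by
    by_contra hnc
    obtain ⟨V, hVB, -, hVe, hV2⟩ := BG9.exists_normal_elementary_sq hp2 hB'p hnc
    have hVL : V ≤ L₀ := fun v hv => hB'Ω v (hVB hv) (hVe.2 v hv)
    have h1 := Subgroup.card_le_of_le hVL
    rw [hV2, hLp] at h1
    have := hp.out.one_lt
    nlinarith
  -- `L₀ ≤ B'`
  have hB'ne : B' ≠ ⊥ := by
    intro hbot
    apply hBne
    rw [eq_bot_iff]
    intro y hy
    have h1 : (y : G) ∈ B' := (hmemB' y).mpr ⟨y.2, hy⟩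
    rw [hbot, Subgroup.mem_bot] at h1
    rw [Subgroup.mem_bot]; exact Subtype.ext h1
  have hLB' : L₀ ≤ B' := by
    have hpB : p ∣ Nat.card B' := by
      obtain ⟨k, hk⟩ := IsPGroup.iff_card.mp hB'p
      have hk0 : k ≠ 0 := by
        rintro rfl
        rw [pow_zero] at hk
        exact hB'ne (Subgroup.card_eq_one.mp hk)
      rw [hk]; exact dvd_pow_self p hk0
    obtain ⟨X, hXB, hXp⟩ := BGH.exists_prime_card_le hpB
    have hXL : X ≤ L₀ := by
      intro x hx
      apply hB'Ω x (hXB hx)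
      have h1 : (⟨x, hx⟩ : ↥X) ^ p = 1 := by rw [← hXp]; exact pow_card_eq_one'
      have := congrArg Subtype.val h1
      simpa using this
    have hXeq : X = L₀ := Subgroup.eq_of_le_of_card_ge hXL (by rw [hXp, hLp])
    rw [← hXeq]; exact hXB
  -- an element of order `p ^ (d+1)` in `B'`
  have hmemC : ∃ b ∈ B', b ^ p ^ d = z := by
    have htop : (⟨s₀, hs₀⟩ : ↥S) ∈ B ⊔ C := by rw [hBC']; exact Subgroup.mem_top _
    obtain ⟨b, hb, c, hc, hbc⟩ := Subgroup.mem_sup.mp htop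
    have hzB : (⟨z, hLS hs₀L⟩ : ↥S) ∈ B := by
      obtain ⟨hzS, hzB⟩ := (hmemB' z).mp (hLB' hs₀L)
      exact hzB
    have h1 : (⟨z, hLS hs₀L⟩ : ↥S) = b ^ p ^ d * c ^ p ^ d := by
      rw [← mul_pow, hbc]
      apply Subtype.ext
      rw [Subgroup.coe_pow]
      exact hzdef
    have h2 : c ^ p ^ d ∈ B ⊓ C := by
      refine Subgroup.mem_inf.mpr ⟨?_, C.pow_mem hc _⟩
      have h3 : c ^ p ^ d = (b ^ p ^ d)⁻¹ * (⟨z, hLS hs₀L⟩ : ↥S) := by rw [h1]; group
      rw [h3]
      exact B.mul_mem (B.inv_mem (B.pow_mem hb _)) hzB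
    rw [hBC, Subgroup.mem_bot] at h2
    rw [h2, mul_one] at h1
    refine ⟨(b : G), (hmemB' b).mpr ⟨b.2, hb⟩, ?_⟩
    have := congrArg Subtype.val h1
    rw [Subgroup.coe_pow] at this
    exact this.symm
  obtain ⟨b, hbB, hbz⟩ := hmemC
  obtain ⟨g, hg⟩ := hB'cyc.exists_generator
  have hgS : (g : G) ∈ S := hB'S g.2
  have hzpow : Subgroup.zpowers (g : G) = B' := by
    apply le_antisymm
    · rw [Subgroup.zpowers_le]; exact g.2
    · intro x hx
      obtain ⟨k, hk⟩ := Subgroup.mem_zpowers_iff.mp (hg ⟨x, hx⟩)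
      rw [Subgroup.mem_zpowers_iff]
      refine ⟨k, ?_⟩
      have := congrArg Subtype.val hk
      rw [Subgroup.coe_zpow] at this
      exact this
  have hgord : orderOf (g : G) = p ^ (d + 1) := by
    apply Nat.dvd_antisymm
    · exact orderOf_dvd_of_pow_eq_one (hexp _ hgS)
    · -- `b` has order `p ^ (d+1)` and lies in `⟨g⟩`
      have hbord : orderOf b = p ^ (d + 1) := by
        have h1 : b ^ p ^ (d + 1) = 1 := hexp b (hB'S hbB)
        obtain ⟨k, hk, hkk⟩ := (Nat.dvd_prime_pow hp.out).mp (orderOf_dvd_of_pow_eq_one h1)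
        by_contra hne
        have hk' : k ≤ d := by
          by_contra hkd
          have : k = d + 1 := by omega
          rw [this] at hkk
          exact hne hkk
        have h2 : b ^ p ^ d = 1 := by
          obtain ⟨t, rfl⟩ := Nat.exists_eq_add_of_le hk'
          rw [pow_add, pow_mul, ← hkk, pow_orderOf_eq_one, one_pow]
        rw [hbz] at h2
        exact hs₀1 h2
      rw [← hbord]
      have hbg : b ∈ Subgroup.zpowers (g : G) := by rw [hzpow]; exact hbB
      exact orderOf_dvd_of_mem_zpowers hbg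
  refine ⟨(g : G), hgS, ?_, hgord, ?_⟩
  · rw [hzpow]
    intro h hh
    apply BG9.mem_normalizer_of_cj_le
    intro x hx
    rw [BG7.mem_cj] at hx
    obtain ⟨hxS, hxB⟩ := (hmemB' _).mp hx
    have h1 := hBinv ⟨h, hh⟩ _ hxB
    rw [hmemB']
    have hxS' : x ∈ S := by
      have h2 := (Subgroup.mem_normalizer_iff.mp (hHS hh) (h⁻¹ * x * h)).mp hxS
      have h3 : h * (h⁻¹ * x * h) * h⁻¹ = x := by group
      rwa [h3] at h2
    refine ⟨hxS', ?_⟩
    have h4 : (⟨x, hxS'⟩ : ↥S) = ρ ⟨h, hh⟩ ⟨h⁻¹ * x * h, hxS⟩ := by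
      apply Subtype.ext
      rw [hρ]
      show x = h * (h⁻¹ * x * h) * h⁻¹
      group
    rw [h4]; exact h1
  · rw [hzpow]; exact hLB'

/-- the Frattini argument -/
theorem frattini_elt {p : ℕ} [hp : Fact p.Prime] {K N P : Subgroup G}
    (hNK : N ≤ Subgroup.normalizer (K : Set G)) (hP : BG8.IsMaxP p P K) :
    ∀ n ∈ N, ∃ k ∈ K, k⁻¹ * n ∈ Subgroup.normalizer (P : Set G) := by
  intro n hn
  have h1 : BG8.IsMaxP p (BG7.cj n P) (BG7.cj n K) := BT.isMaxP_cj hP n
  rw [BG7.cj_eq_of_mem_normalizer (hNK hn)] at h1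
  obtain ⟨k, hk, hkk⟩ := BT.isMaxP_conj hP h1
  refine ⟨k, hk, ?_⟩
  apply BG7.mem_normalizer_of_cj_eq
  rw [BG7.cj_mul, hkk, BG7.cj_inv_cj]

/-- subgroup version of `frob_prime_fixed` -/
theorem frob_fixed_sub {V K : Subgroup G} {e : G} {r : ℕ} (hr : r.Prime)
    (hVab : IsMulCommutative ↥V) (hV1 : V ≠ ⊥)
    (hKV : K ≤ Subgroup.normalizer (V : Set G)) (heV : e ∈ Subgroup.normalizer (V : Set G))
    (heK : e ∈ Subgroup.normalizer (K : Set G)) (her : e ^ r = 1)
    (hfpf : ∀ k ∈ K, e * k = k * e → k = 1)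
    (hcop : (Nat.card V).Coprime (Nat.card K))
    (hCK : V ⊓ Subgroup.centralizer (K : Set G) = ⊥) :
    V ⊓ Subgroup.centralizer ({e} : Set G) ≠ ⊥ := by
  classical
  intro hCe
  letI : CommGroup ↥V :=
    { (inferInstance : Group ↥V) with mul_comm := fun a b => mul_comm' a b }
  obtain ⟨N, hNdef⟩ : ∃ N : Subgroup G, N = Subgroup.normalizer (V : Set G) := ⟨_, rfl⟩
  have hNV : N ≤ Subgroup.normalizer (V : Set G) := hNdef ▸ le_rfl
  rw [← hNdef] at hKV heV
  obtain ⟨ζ, hζ⟩ : ∃ ζ : ↥N →* MulAut ↥V, ∀ (n : ↥N) (v : ↥V),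
      ((ζ n v : ↥V) : G) = (n : G) * (v : G) * (n : G)⁻¹ :=
    ⟨TF.zeta V N hNV, fun n v => rfl⟩
  have hall : ∀ v : ↥V, v = 1 := by
    apply frob_prime_fixed ζ (K.subgroupOf N) (⟨e, heV⟩ : ↥N) hr
    · apply Subtype.ext
      rw [Subgroup.coe_pow]; exact her
    · intro k hk i
      rw [Subgroup.mem_subgroupOf] at hk ⊢
      rw [Subgroup.coe_mul, Subgroup.coe_mul, Subgroup.coe_inv, Subgroup.coe_pow]
      exact (Subgroup.mem_normalizer_iff.mp (Subgroup.pow_mem _ heK i) _).mp hk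
    · intro i hi0 hir k hk hcomm
      rw [Subgroup.mem_subgroupOf] at hk
      have hc : e ^ i * (k : G) = (k : G) * e ^ i := by
        have := congrArg Subtype.val hcomm
        rw [Subgroup.coe_mul, Subgroup.coe_mul, Subgroup.coe_pow] at this
        exact this
      have hcopir : Nat.Coprime i r := by
        rw [Nat.coprime_comm]
        exact (Nat.Prime.coprime_iff_not_dvd hr).mpr (fun h => by
          have := Nat.le_of_dvd hi0 h; omega)
      obtain ⟨u, -, hu⟩ := Nat.exists_mul_mod_eq_one_of_coprime hcopir hr.one_lt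
      have he : (e ^ i) ^ u = e := by
        rw [← pow_mul]
        have h1 := Nat.div_add_mod (i * u) r
        rw [hu] at h1
        rw [← h1, pow_add, pow_mul, her, one_pow, one_mul, pow_one]
      have hc2 : e * (k : G) = (k : G) * e := by
        have h2 : Commute (e ^ i) (k : G) := hc
        have h3 := h2.pow_left u
        rw [he] at h3
        exact h3
      have := hfpf _ hk hc2
      exact Subtype.ext this
    · rw [card_subgroupOf_of_le hKV]; exact hcop
    · intro v hv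
      have h1 : (v : G) ∈ V ⊓ Subgroup.centralizer (K : Set G) := by
        refine Subgroup.mem_inf.mpr ⟨v.2, ?_⟩
        rw [Subgroup.mem_centralizer_iff]
        intro k hk
        have h2 := hv ⟨k, hKV hk⟩ (Subgroup.mem_subgroupOf.mpr hk)
        have h3 := congrArg Subtype.val h2
        rw [hζ] at h3
        calc k * (v : G) = k * (v : G) * k⁻¹ * k := by group
          _ = (v : G) * k := by rw [h3]
      rw [hCK, Subgroup.mem_bot] at h1
      exact Subtype.ext h1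
    · intro v hv
      have h1 : (v : G) ∈ V ⊓ Subgroup.centralizer ({e} : Set G) := by
        refine Subgroup.mem_inf.mpr ⟨v.2, ?_⟩
        rw [Subgroup.mem_centralizer_iff]
        intro k hk
        rw [Set.mem_singleton_iff] at hk
        subst hk
        have h3 := congrArg Subtype.val hv
        rw [hζ] at h3
        calc k * (v : G) = k * (v : G) * k⁻¹ * k := by group
          _ = (v : G) * k := by rw [h3]
      rw [hCe, Subgroup.mem_bot] at h1
      exact Subtype.ext h1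
  apply hV1
  rw [eq_bot_iff]
  intro v hv
  have := hall ⟨v, hv⟩
  rw [Subgroup.mem_bot]
  exact congrArg Subtype.val this

/-- subgroup version of `no_fpf_rank2` -/
theorem no_fpf_sub {A : Subgroup G} {x b : G} {r : ℕ} (hAc : IsMulCommutative ↥A)
    (hxA : x ∈ Subgroup.normalizer (A : Set G)) (hbA : b ∈ Subgroup.normalizer (A : Set G))
    (hxb : x * b = b * x) (hr : 1 < r)
    (hxr : x ^ r ∈ Subgroup.centralizer (A : Set G))
    (hbr : b ^ r ∈ Subgroup.centralizer (A : Set G))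
    (hfpf : ∀ i l : ℕ, ¬ (r ∣ i ∧ r ∣ l) → ∀ a ∈ A,
      (x ^ i * b ^ l) * a = a * (x ^ i * b ^ l) → a = 1) : ∀ a ∈ A, a ^ r = 1 := by
  classical
  letI : CommGroup ↥A :=
    { (inferInstance : Group ↥A) with mul_comm := fun a b => mul_comm' a b }
  obtain ⟨N, hNdef⟩ : ∃ N : Subgroup G, N = Subgroup.normalizer (A : Set G) := ⟨_, rfl⟩
  have hNA : N ≤ Subgroup.normalizer (A : Set G) := hNdef ▸ le_rfl
  rw [← hNdef] at hxA hbA
  obtain ⟨ζ, hζ⟩ : ∃ ζ : ↥N →* MulAut ↥A, ∀ (n : ↥N) (v : ↥A),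
      ((ζ n v : ↥A) : G) = (n : G) * (v : G) * (n : G)⁻¹ :=
    ⟨TF.zeta A N hNA, fun n v => rfl⟩
  have htriv : ∀ n : ↥N, (n : G) ∈ Subgroup.centralizer (A : Set G) → ζ n = 1 := by
    intro n hn
    apply MulEquiv.ext
    intro v
    apply Subtype.ext
    rw [hζ, MulAut.one_apply]
    have := Subgroup.mem_centralizer_iff.mp hn v v.2
    rw [← this]; group
  intro a ha
  have key := no_fpf_rank2 (ζ ⟨x, hxA⟩) (ζ ⟨b, hbA⟩)
    (by rw [← map_mul, ← map_mul]; congr 1; exact Subtype.ext hxb) hr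
    (by rw [← map_pow]; apply htriv; rw [Subgroup.coe_pow]; exact hxr)
    (by rw [← map_pow]; apply htriv; rw [Subgroup.coe_pow]; exact hbr)
    (by
      intro i l hil v hv
      rw [← map_pow, ← map_pow, ← map_mul] at hv
      have h3 := congrArg Subtype.val hv
      rw [hζ] at h3
      simp only [Subgroup.coe_mul, Subgroup.coe_pow] at h3
      have h4 := hfpf i l hil v v.2 (by
        calc (x ^ i * b ^ l) * (v : G) = (x ^ i * b ^ l) * (v : G) * (x ^ i * b ^ l)⁻¹ * (x ^ i * b ^ l) := by group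
          _ = (v : G) * (x ^ i * b ^ l) := by rw [h3])
      exact Subtype.ext h4) ⟨a, ha⟩
  have := congrArg Subtype.val key
  rw [Subgroup.coe_pow] at this
  exact this

end Cfsg.Agent.Lib.Helper2.BGJ
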