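import Mathlib
import Cfsg.Agent.Lib.Helper2.BGJ2
import Cfsg.Agent.Lib.Helper1.RelativeSZ
import Cfsg.Agent.S1411
import Cfsg.Agent.S1409
import Cfsg.Agent.S1408
import Cfsg.Agent.S1414

set_option autoImplicit false
set_option maxHeartbeats 4000000
set_option linter.unusedVariables false
set_option linter.unusedSectionVars false
set_option linter.style.longLine false
set_option linter.unusedSimpArgs false
set_option linter.style.haveILetI false
set_option linter.deprecated false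

/-!
# B&G 12.10(e) (S1421): an abelian Sylow `p`-subgroup, `p ∈ τ₂(M)`, is normal in `N_G(A)`
-/

open scoped commutatorElement Pointwise
universe u
namespace Cfsg.Agent.Lib.Helper2.BGJ

open Cfsg Cfsg.Agent.Lib.Helper1 Cfsg.Agent.Lib.Helper7 Cfsg.Agent.Lib.Helper7.BGRows
open Cfsg.Agent.Lib.Lead Cfsg.Agent.Lib.Helper2.BGH

variable {G : Type u} [Group G] [Finite G]

/-- basic facts on an abelian Sylow `p`-subgroup `S ≥ A` of `G`, `p ∈ τ₂(M)` -/
theorem tau2_ctx (hG : IsMinSimpleOddOrder G) {M : Subgroup G} (hM : IsCoatom M)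
    {E : Subgroup G} (hE : IsComplIn E (sigmaCore M) M) {p : ℕ} [hp : Fact p.Prime]
    (hpτ : p ∈ tau2 M) {A : Subgroup G} (hAE : A ≤ E) (hA : IsElementaryAbelian p A)
    (hA2 : Nat.card A = p ^ 2) {S : Subgroup G} (hS : BG8.IsMaxP p S ⊤)
    (hSab : IsMulCommutative ↥S) (hAS : A ≤ S) :
    S ≤ Subgroup.centralizer (A : Set G) ∧ Subgroup.centralizer (A : Set G) ≤ E ∧
      (∀ x ∈ S, x ^ p = 1 ↔ x ∈ A) ∧
      Subgroup.normalizer (S : Set G) ≤ Subgroup.normalizer (A : Set G) ∧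
      ¬ Subgroup.normalizer (S : Set G) ≤ M := by
  have hEM : E ≤ M := hE.1
  have hAM : A ≤ M := hAE.trans hEM
  obtain ⟨-, hsyl, -, -, -, -⟩ := BGD.row1417 hG M hM p hpτ A ⟨hAM, hA, hA2⟩
  obtain ⟨-, ⟨hCA, hMNA, -⟩, -⟩ := row1418 hG M hM E hE p hpτ A ⟨hAE, hA, hA2⟩
  have hSC : S ≤ Subgroup.centralizer (A : Set G) := by
    intro s hs
    rw [Subgroup.mem_centralizer_iff]
    intro a ha
    exact BGL.comm_of hSab (hAS ha) hs
  have hCE : Subgroup.centralizer (A : Set G) ≤ E := by rw [← hMNA]; exact hCA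
  have hSM : S ≤ M := (hSC.trans hCE).trans hEM
  obtain ⟨P, hP⟩ := (hS.mono hSM le_top).exists_sylow
  obtain ⟨-, h2⟩ := hsyl P
  rw [hP] at h2
  obtain ⟨hΩ, hNS⟩ := h2 hAS
  refine ⟨hSC, hCE, hΩ, ?_, hNS⟩
  intro n hn
  apply BG9.mem_normalizer_of_cj_le
  intro x hx
  rw [BG7.mem_cj] at hx
  have h1 : x ∈ S := by
    have := (Subgroup.mem_normalizer_iff.mp hn (n⁻¹ * x * n)).mp (hAS hx)
    have e : n * (n⁻¹ * x * n) * n⁻¹ = x := by group
    rwa [e] at this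
  rw [← hΩ x h1]
  have h2 : (n⁻¹ * x * n) ^ p = 1 := hA.2 _ hx
  have e : x = n * (n⁻¹ * x * n) * n⁻¹ := by group
  rw [e, conj_pow, h2]; group

/-- **(P1)**: for `p ∈ τ₂(M)` with abelian Sylow `p`-subgroup `S ≥ A`: `N_G(A) ≤ N_G(S)`. -/
theorem normalizer_le_normalizer_sylow (hG : IsMinSimpleOddOrder G) {M : Subgroup G}
    (hM : IsCoatom M) {E : Subgroup G} (hE : IsComplIn E (sigmaCore M) M) {p : ℕ}
    [hp : Fact p.Prime] (hpτ : p ∈ tau2 M) {A : Subgroup G} (hAE : A ≤ E)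
    (hA : IsElementaryAbelian p A) (hA2 : Nat.card A = p ^ 2) {S : Subgroup G}
    (hS : BG8.IsMaxP p S ⊤) (hSab : IsMulCommutative ↥S) (hAS : A ≤ S) :
    Subgroup.normalizer (A : Set G) ≤ Subgroup.normalizer (S : Set G) := by
  classical
  have hpp := hp.out
  have hEM : E ≤ M := hE.1
  have hAM : A ≤ M := hAE.trans hEM
  obtain ⟨hSC, hCE, hΩ, hNSA, hNSM⟩ := tau2_ctx hG hM hE hpτ hAE hA hA2 hS hSab hAS
  have hSp : IsPGroup p S := hS.2.1
  have hA1 : A ≠ ⊥ := by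
    intro h
    rw [h, Subgroup.card_bot] at hA2
    have := hpp.one_lt
    nlinarith
  have hAtop : A ≠ ⊤ := fun h => hM.1 (top_le_iff.mp (h ▸ hAM))
  obtain ⟨L, hL, hNL⟩ :=
    (eq_top_or_exists_le_coatom (Subgroup.normalizer (A : Set G))).resolve_left
      (BG7.normalizer_ne_top hG hA1 hAtop)
  have hCN : Subgroup.centralizer (A : Set G) ≤ Subgroup.normalizer (A : Set G) :=
    Subgroup.centralizer_le_normalizer _
  have hSL : S ≤ L := (hSC.trans hCN).trans hNL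
  have hAL : A ≤ L := hAS.trans hSL
  have hpσL : p ∈ sigma L := by
    obtain ⟨P, hP⟩ := (hS.mono hSL le_top).exists_sylow
    refine ⟨hpp, ?_, P, ?_⟩
    · have h1 : p ∣ Nat.card A := by rw [hA2]; exact dvd_pow_self p two_ne_zero
      exact h1.trans (Subgroup.card_dvd_of_le hAL)
    · rw [hP]; exact hNSA.trans hNL
  have hnotideal : ¬ IsIdealPrime p G :=
    (Cfsg.Agent.S1408.result hG M hM p hpτ.2.1 hpτ.2.2.1 hpτ.2.2.2).1
  have hpβ : p ∉ beta L := fun h => hnotideal h.2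
  obtain ⟨hβHall, -, -, ⟨H, hHHall, hHnil⟩, -⟩ := Cfsg.Agent.S1414.result hG L hL
  obtain ⟨Lβ, hLβdef⟩ : ∃ Lβ, Lβ = piCoreOf (beta L) L := ⟨_, rfl⟩
  rw [← hLβdef] at hβHall
  obtain ⟨Lσ, hLσdef⟩ : ∃ Lσ, Lσ = sigmaCore L := ⟨_, rfl⟩
  rw [← hLσdef] at hHHall
  have hLβL : Lβ ≤ L := hβHall.1
  have hLLβ : L ≤ Subgroup.normalizer (Lβ : Set G) :=
    hLβdef ▸ BG7.le_normalizer_piCoreOf (beta L) L
  have hLσL : Lσ ≤ L := hLσdef ▸ Subgroup.map_subtype_le _
  have hLLσ : L ≤ Subgroup.normalizer (Lσ : Set G) :=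
    hLσdef ▸ BG7.le_normalizer_piCoreOf (sigma L) L
  have hβprime : ∀ q : ℕ, q.Prime → q ∣ Nat.card Lβ → q ∈ beta L := hβHall.2.1
  have hLβσ : Lβ ≤ Lσ := by
    rw [hLσdef]
    apply le_sigmaCore_of_sigma_group hG hL hLβL
    intro q hq hqd
    exact BT.alpha_subset_sigma hG hL (hβprime q hq hqd).1
  have hSLσ : S ≤ Lσ := hLσdef ▸ pgroup_le_sigmaCore hG hL hpσL hSp hSL
  have hHLσ : H ≤ Lσ := hHHall.1
  have hsup : Lσ ≤ Lβ ⊔ H := by
    rw [← Subgroup.relIndex_eq_one]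
    by_contra hne
    obtain ⟨q, hq, hqd⟩ := Nat.exists_prime_and_dvd hne
    have h1 : q ∣ Lβ.relIndex L := by
      have h2 : (Lβ ⊔ H).relIndex Lσ ∣ Lβ.relIndex Lσ :=
        Subgroup.relIndex_dvd_of_le_left Lσ le_sup_left
      have h3 : Lβ.relIndex Lσ ∣ Lβ.relIndex L :=
        Dvd.intro _ (Subgroup.relIndex_mul_relIndex Lβ Lσ L hLβσ hLσL)
      exact (hqd.trans h2).trans h3
    have h4 : q ∣ H.relIndex Lσ :=
      hqd.trans (Subgroup.relIndex_dvd_of_le_left Lσ le_sup_right)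
    have hqβ : q ∉ beta L := fun h => hβHall.2.2 q hq h h1
    exact hHHall.2.2 q hq ⟨hq, hqβ⟩ h4
  have hLσtop : Lσ ≠ ⊤ := fun h => hL.1 (top_le_iff.mp (h ▸ hLσL))
  haveI hsolvLσ : Group.IsSolvable ↥Lσ := BG7.isSolvable_of_ne_top hG hLσtop
  have hcopH : (Nat.card H).Coprime (H.relIndex Lσ) := by
    by_contra hc
    obtain ⟨q, hq, hq1, hq2⟩ := Nat.Prime.not_coprime_iff_dvd.mp hc
    exact hHHall.2.2 q hq (hHHall.2.1 q hq hq1) hq2
  have hcopS : (Nat.card S).Coprime (H.relIndex Lσ) := by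
    by_contra hc
    obtain ⟨q, hq, hq1, hq2⟩ := Nat.Prime.not_coprime_iff_dvd.mp hc
    have : q = p := BGG.prime_eq_of_dvd_card_pgroup hSp hq hq1
    subst this
    exact hHHall.2.2 q hq ⟨hq, hpβ⟩ hq2
  obtain ⟨m, hm, hSm⟩ := exists_cj_le_of_hall hHLσ hSLσ hcopH hcopS
  obtain ⟨H₁, hH₁def⟩ : ∃ H₁, H₁ = BG7.cj m H := ⟨_, rfl⟩
  rw [← hH₁def] at hSm
  have hH₁nil : Group.IsNilpotent ↥H₁ := by
    rw [hH₁def]
    haveI := hHnil
    exact Group.nilpotent_of_mulEquiv (H.equivMapOfInjective (MulAut.conj m).toMonoidHom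
      (MulAut.conj m).injective)
  have hmL : m ∈ L := hLσL hm
  have hH₁Lσ : H₁ ≤ Lσ := hH₁def ▸ BG9.cj_le_of_mem hm hHLσ
  have hH₁N : H₁ ≤ Subgroup.normalizer (S : Set G) := by
    have h1 : BG8.IsMaxP p S H₁ := hS.mono hSm le_top
    exact Subgroup.le_normalizer.trans (normalizer_le_of_nilpotent_sylow h1 hH₁nil)
  have hsup₁ : Lσ ≤ Lβ ⊔ H₁ := by
    have h1 := BG7.cj_mono (k := m) hsup
    rw [BG7.cj_eq_of_mem_normalizer (hLLσ hmL)] at h1
    refine h1.trans (le_of_eq ?_)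
    have h2 : BG7.cj m (Lβ ⊔ H) = BG7.cj m Lβ ⊔ BG7.cj m H := by
      unfold BG7.cj; exact Subgroup.map_sup _ _ _
    rw [h2, BG7.cj_eq_of_mem_normalizer (hLLβ hmL), ← hH₁def]
  have hALβ : A ⊓ Lβ = ⊥ := by
    apply Subgroup.inf_eq_bot_of_coprime
    by_contra hc
    obtain ⟨q, hq, hq1, hq2⟩ := Nat.Prime.not_coprime_iff_dvd.mp hc
    rw [hA2] at hq1
    have : q = p := (Nat.prime_dvd_prime_iff_eq hq hpp).mp (hq.dvd_of_dvd_pow hq1)
    subst this
    exact hpβ (hβprime q hq hq2)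
  have hH₁Lβ : H₁ ≤ Subgroup.normalizer (Lβ : Set G) := (hH₁Lσ.trans hLσL).trans hLLβ
  have hdecomp : ∀ n ∈ Subgroup.normalizer (A : Set G),
      ∃ u ∈ Lβ ⊓ Subgroup.centralizer (A : Set G), ∃ v ∈ Subgroup.normalizer (S : Set G),
        n = u * v := by
    intro n hn
    have hnL : n ∈ L := hNL hn
    obtain ⟨y, hy, hyn⟩ := frattini_elt hLLσ (hS.mono hSLσ le_top) n hnL
    have hyy : y ∈ ((Lβ ⊔ H₁ : Subgroup G) : Set G) := hsup₁ hy
    rw [Subgroup.coe_mul_of_right_le_normalizer_left Lβ H₁ hH₁Lβ] at hyy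
    obtain ⟨u, hu, h, hh, huh⟩ := Set.mem_mul.mp hyy
    have hu' : u ∈ Lβ := hu
    have hh' : h ∈ H₁ := hh
    have hv : h * (y⁻¹ * n) ∈ Subgroup.normalizer (S : Set G) :=
      Subgroup.mul_mem _ (hH₁N hh') hyn
    have huNA : u ∈ Subgroup.normalizer (A : Set G) := by
      have e : u = n * (h * (y⁻¹ * n))⁻¹ := by rw [← huh]; group
      rw [e]
      exact Subgroup.mul_mem _ hn (Subgroup.inv_mem _ (hNSA hv))
    have huC : u ∈ Subgroup.centralizer (A : Set G) := by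
      rw [Subgroup.mem_centralizer_iff]
      intro a ha
      have h1 : u * a * u⁻¹ * a⁻¹ ∈ A ⊓ Lβ := by
        refine Subgroup.mem_inf.mpr ⟨?_, ?_⟩
        · exact A.mul_mem ((Subgroup.mem_normalizer_iff.mp huNA a).mp ha) (A.inv_mem ha)
        · have h2 : a * u⁻¹ * a⁻¹ ∈ Lβ :=
            (Subgroup.mem_normalizer_iff.mp (hLLβ (hAL ha)) u⁻¹).mp (Lβ.inv_mem hu')
          have e : u * a * u⁻¹ * a⁻¹ = u * (a * u⁻¹ * a⁻¹) := by group
          rw [e]
          exact Lβ.mul_mem hu' h2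
      rw [hALβ, Subgroup.mem_bot] at h1
      calc a * u = (u * a * u⁻¹ * a⁻¹)⁻¹ * (u * a) := by group
        _ = u * a := by rw [h1, inv_one, one_mul]
    refine ⟨u, Subgroup.mem_inf.mpr ⟨hu', huC⟩, h * (y⁻¹ * n), hv, ?_⟩
    rw [← mul_assoc, huh]; group
  -- `J = C_{L_β}(A)` centralizes `S`
  obtain ⟨J, hJdef⟩ : ∃ J, J = Lβ ⊓ Subgroup.centralizer (A : Set G) := ⟨_, rfl⟩
  have hJE : J ≤ E := by rw [hJdef]; exact inf_le_right.trans hCE
  have hJLβ : J ≤ Lβ := by rw [hJdef]; exact inf_le_left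
  have hNSJ : Subgroup.normalizer (S : Set G) ≤ Subgroup.normalizer (J : Set G) := by
    rw [hJdef]
    apply le_normalizer_inf
    · exact (hNSA.trans hNL).trans hLLβ
    · exact hNSA.trans (BG7.normalizer_le_normalizer_centralizer_self A)
  have hSder : S ≤ ⁅Subgroup.normalizer (S : Set G), Subgroup.normalizer (S : Set G)⁆ := by
    obtain ⟨P₀, hP₀⟩ := hS.exists_sylow_top
    have hcop : (Nat.card S).Coprime (S.relIndex (Subgroup.normalizer (S : Set G))) := by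
      by_contra hc
      obtain ⟨q, hq, hq1, hq2⟩ := Nat.Prime.not_coprime_iff_dvd.mp hc
      have : q = p := BGG.prime_eq_of_dvd_card_pgroup hSp hq hq1
      subst this
      apply hS.not_dvd_index
      rw [← Subgroup.relIndex_mul_index (Subgroup.le_normalizer (H := S))]
      exact Dvd.dvd.mul_right hq2 _
    obtain ⟨V, hVN, hVS, hSV, -⟩ := exists_relative_complement S
      (Subgroup.normalizer (S : Set G)) Subgroup.le_normalizer le_rfl hcop
    have hV : IsComplIn (P₀ : Subgroup G) V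
        (Subgroup.normalizer ((P₀ : Subgroup G) : Set G)) := by
      rw [hP₀]
      refine ⟨Subgroup.le_normalizer, hVN, by rw [inf_comm]; exact hVS, ?_⟩
      intro x hx
      have hx' : x ∈ ((S ⊔ V : Subgroup G) : Set G) := by rw [hSV]; exact hx
      rw [Subgroup.coe_mul_of_right_le_normalizer_left S V hVN] at hx'
      obtain ⟨a, ha, b, hb, hab⟩ := Set.mem_mul.mp hx'
      exact ⟨a, ha, b, hb, hab.symm⟩
    have := (Cfsg.Agent.S1411.result hG p P₀ V hV).2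
    rw [hP₀] at this
    exact this
  have hcopSJ : (Nat.card S).Coprime (Nat.card J) := by
    by_contra hc
    obtain ⟨q, hq, hq1, hq2⟩ := Nat.Prime.not_coprime_iff_dvd.mp hc
    have : q = p := BGG.prime_eq_of_dvd_card_pgroup hSp hq hq1
    subst this
    exact hpβ (hβprime q hq (hq2.trans (Subgroup.card_dvd_of_le hJLβ)))
  have hZ : ∀ Y : Subgroup G, Y ≤ J → IsZGroup ↥Y := by
    intro Y hYJ
    apply BGB.isZGroup_of_rank_one hG.1 ((hYJ.trans hJE).trans hEM)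
    intro q hq hqd
    haveI : Fact q.Prime := ⟨hq⟩
    have hqβ : q ∈ beta L :=
      hβprime q hq ((hqd.trans (Subgroup.card_dvd_of_le hYJ)).trans (Subgroup.card_dvd_of_le hJLβ))
    have hqσ : q ∉ sigma M :=
      BGD.compl_not_sigma hG hM hE q hq (hqd.trans (Subgroup.card_dvd_of_le (hYJ.trans hJE)))
    have hr2 : PRankLE q 2 ↥M := by
      by_contra h
      exact hqσ (BT.alpha_subset_sigma hG hM ⟨hq, h⟩)
    by_contra hr1
    exact (Cfsg.Agent.S1408.result hG M hM q hqσ hr2 hr1).1 hqβ.2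
  have hJtop : J ≠ ⊤ := fun h => hM.1 (top_le_iff.mp (h ▸ hJE.trans hEM))
  have hcent := comm_centralizes_zgroup hNSJ le_rfl hSder hcopSJ hZ
    (BG7.isSolvable_of_ne_top hG hJtop)
  intro n hn
  obtain ⟨u, hu, v, hv, rfl⟩ := hdecomp n hn
  rw [← hJdef] at hu
  apply Subgroup.mul_mem _ _ hv
  apply Subgroup.centralizer_le_normalizer
  rw [Subgroup.mem_centralizer_iff]
  intro s hs
  exact hcent s hs u hu

end Cfsg.Agent.Lib.Helper2.BGJ
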