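import Mathlib
import Cfsg.Agent.Lib.Helper2.BGJ3
import Cfsg.Agent.Lib.Helper1.GL4

set_option autoImplicit false
set_option maxHeartbeats 4000000
set_option linter.unusedVariables false
set_option linter.unusedSectionVars false
set_option linter.style.longLine false
set_option linter.unusedSimpArgs false
set_option linter.style.haveILetI false
set_option linter.deprecated false

/-!
# B&G 12.10(e) (S1421): the action of `N_G(A)` and of `E` on `A`

* `comm_mem_centralizer`: `N_G(A)/C_G(A)` is abelian.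
* `normalizer_le_of_eigenline`: a proper eigenline of some element is `N_G(A)`-invariant.
* `regular_of_normalizer_le`: `N_G(A)`-invariant lines are regular.
* `no_irreducible`: no `r`-element of `E` (`r ∈ τ₁ ∪ τ₃`) acts irreducibly on `A`.
-/

open scoped commutatorElement Pointwise
universe u
namespace Cfsg.Agent.Lib.Helper2.BGJ

open Cfsg Cfsg.Agent.Lib.Helper1 Cfsg.Agent.Lib.Helper7 Cfsg.Agent.Lib.Helper7.BGRows
open Cfsg.Agent.Lib.Lead Cfsg.Agent.Lib.Helper2.BGH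

variable {G : Type u} [Group G] [Finite G]

omit [Finite G] in
theorem mem_normalizer_inf_centralizer {A : Subgroup G} {e y₀ : G}
    (heA : e ∈ Subgroup.normalizer (A : Set G)) (hc : e * y₀ = y₀ * e) :
    e ∈ Subgroup.normalizer ((A ⊓ Subgroup.centralizer ({y₀} : Set G) : Subgroup G) : Set G) := by
  have h1 : Subgroup.zpowers e ≤ Subgroup.normalizer (A : Set G) := Subgroup.zpowers_le.mpr heA
  have h2 : Subgroup.zpowers e ≤
      Subgroup.normalizer ((Subgroup.centralizer ({y₀} : Set G) : Subgroup G) : Set G) := by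
    rw [Subgroup.zpowers_le]
    apply Subgroup.le_normalizer
    rw [Subgroup.mem_centralizer_iff]
    intro t ht
    rw [Set.mem_singleton_iff] at ht
    rw [ht]; exact hc.symm
  exact le_normalizer_inf h1 h2 (Subgroup.mem_zpowers e)

/-- **(F3)**: `N_G(A)/C_G(A)` is abelian when `C_G(A)` contains a Sylow `p`-subgroup of `G` -/
theorem comm_mem_centralizer (hG : IsMinSimpleOddOrder G) {p : ℕ} [hp : Fact p.Prime]
    {A S : Subgroup G} (hA : IsElementaryAbelian p A) (hA2 : Nat.card A = p ^ 2)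
    (hS : BG8.IsMaxP p S ⊤) (hSC : S ≤ Subgroup.centralizer (A : Set G)) :
    ∀ n₁ ∈ Subgroup.normalizer (A : Set G), ∀ n₂ ∈ Subgroup.normalizer (A : Set G),
      ⁅n₁, n₂⁆ ∈ Subgroup.centralizer (A : Set G) := by
  classical
  have hpp := hp.out
  have hpA : p ∣ Nat.card A := by rw [hA2]; exact dvd_pow_self p two_ne_zero
  have hp2 : p ≠ 2 := BG9.odd_prime_of_dvd hG (hpA.trans (Subgroup.card_subgroup_dvd_card A))
  have hA1 : A ≠ ⊥ := by
    intro h
    rw [h, Subgroup.card_bot] at hA2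
    have := hpp.one_lt
    nlinarith
  have hAtop : A ≠ ⊤ := BG7.pgroup_ne_top hG (BG9.isPGroup_of_isElementaryAbelian hA)
  obtain ⟨N, hNdef⟩ : ∃ N : Subgroup G, N = Subgroup.normalizer (A : Set G) := ⟨_, rfl⟩
  have hNA : N ≤ Subgroup.normalizer (A : Set G) := hNdef ▸ le_rfl
  have hNtop : N ≠ ⊤ := hNdef ▸ BG7.normalizer_ne_top hG hA1 hAtop
  have hSN : S ≤ N := hNdef ▸ hSC.trans (Subgroup.centralizer_le_normalizer _)
  obtain ⟨ζ, hζ⟩ : ∃ ζ : ↥N →* MulAut ↥A, ∀ (n : ↥N) (v : ↥A),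
      ((ζ n v : ↥A) : G) = (n : G) * (v : G) * (n : G)⁻¹ :=
    ⟨TF.zeta A N hNA, fun n v => rfl⟩
  haveI : IsMulCommutative ↥A := hA.1
  have hpow := GLTwo.commutator_pow_of_action (V := ↥A) (B := ↥N) p hp2
    (fun x y => mul_comm' x y)
    (fun x => Subtype.ext (by rw [Subgroup.coe_pow]; exact hA.2 x x.2)) hA2 ζ
    (Odd.of_dvd_nat hG.1 (Subgroup.card_subgroup_dvd_card N))
    (BG7.isSolvable_of_ne_top hG hNtop)
  intro n₁ hn₁ n₂ hn₂
  rw [← hNdef] at hn₁ hn₂
  obtain ⟨c, hcdef⟩ : ∃ c : ↥N, c = ⁅(⟨n₁, hn₁⟩ : ↥N), ⟨n₂, hn₂⟩⁆ := ⟨_, rfl⟩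
  have hc : c ∈ commutator ↥N := by
    rw [hcdef, commutator_def]
    exact Subgroup.commutator_mem_commutator (Subgroup.mem_top _) (Subgroup.mem_top _)
  have h1 : (ζ c) ^ p = 1 := hpow c hc
  have h2 : orderOf (ζ c) ∣ p := orderOf_dvd_of_pow_eq_one h1
  have h3 : orderOf (ζ c) ∣ S.index := by
    have h4 : orderOf (ζ c) ∣ Nat.card ζ.range := Subgroup.orderOf_dvd_natCard _ ⟨c, rfl⟩
    rw [← Subgroup.index_ker] at h4
    have h5 : S.subgroupOf N ≤ ζ.ker := by
      intro s hs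
      rw [Subgroup.mem_subgroupOf] at hs
      rw [MonoidHom.mem_ker]
      apply MulEquiv.ext
      intro v
      apply Subtype.ext
      rw [hζ, MulAut.one_apply]
      have := Subgroup.mem_centralizer_iff.mp (hSC hs) v v.2
      rw [← this]; group
    have h6 : ζ.ker.index ∣ (S.subgroupOf N).index := Subgroup.index_dvd_of_le h5
    have h7 : (S.subgroupOf N).index ∣ S.index := by
      show S.relIndex N ∣ S.index
      exact Dvd.intro _ (Subgroup.relIndex_mul_index hSN)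
    exact (h4.trans h6).trans h7
  have h8 : orderOf (ζ c) = 1 := by
    have hcop : Nat.Coprime p S.index := (Nat.Prime.coprime_iff_not_dvd hpp).mpr hS.not_dvd_index
    exact Nat.eq_one_of_dvd_coprimes hcop h2 h3
  rw [orderOf_eq_one_iff] at h8
  rw [Subgroup.mem_centralizer_iff]
  intro a ha
  have h9 : ((ζ c ⟨a, ha⟩ : ↥A) : G) = a := by rw [h8]; rfl
  rw [hζ, hcdef] at h9
  have hcG : ((⁅(⟨n₁, hn₁⟩ : ↥N), ⟨n₂, hn₂⟩⁆ : ↥N) : G) = ⁅n₁, n₂⁆ := rfl
  rw [hcG] at h9
  calc a * ⁅n₁, n₂⁆ = (⁅n₁, n₂⁆ * a * ⁅n₁, n₂⁆⁻¹) * ⁅n₁, n₂⁆ := by rw [h9]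
    _ = ⁅n₁, n₂⁆ * a := by group

/-- **(α)**: if `n ∈ N_G(A)` normalizes the line `X` but not every subgroup of `A`, then `X` is
`N_G(A)`-invariant. -/
theorem normalizer_le_of_eigenline {p : ℕ} [hp : Fact p.Prime] {A X Y : Subgroup G}
    (hA : IsElementaryAbelian p A) (hA2 : Nat.card A = p ^ 2)
    (hcomm : ∀ n₁ ∈ Subgroup.normalizer (A : Set G), ∀ n₂ ∈ Subgroup.normalizer (A : Set G),
      ⁅n₁, n₂⁆ ∈ Subgroup.centralizer (A : Set G))
    (hXA : X ≤ A) (hX : Nat.card X = p) {n : G} (hnA : n ∈ Subgroup.normalizer (A : Set G))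
    (hnX : n ∈ Subgroup.normalizer (X : Set G)) (hYA : Y ≤ A)
    (hnY : n ∉ Subgroup.normalizer (Y : Set G)) :
    Subgroup.normalizer (A : Set G) ≤ Subgroup.normalizer (X : Set G) := by
  classical
  have hpp := hp.out
  obtain ⟨x, hxX, hx1, hzx⟩ := exists_gen hX
  have h1 : n * x * n⁻¹ ∈ Subgroup.zpowers x := by
    rw [hzx]; exact (Subgroup.mem_normalizer_iff.mp hnX x).mp hxX
  obtain ⟨l, hl⟩ := exists_pow_of_mem_zpowers h1
  obtain ⟨W, hW⟩ : ∃ W : Subgroup G, ∀ a : G, a ∈ W ↔ a ∈ A ∧ n * a * n⁻¹ = a ^ l := by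
    refine ⟨{ carrier := {a | a ∈ A ∧ n * a * n⁻¹ = a ^ l}
              mul_mem' := ?_
              one_mem' := ?_
              inv_mem' := ?_ }, fun a => Iff.rfl⟩
    · rintro a b ⟨ha, ha'⟩ ⟨hb, hb'⟩
      refine ⟨A.mul_mem ha hb, ?_⟩
      have hab : Commute a b := BGL.comm_of hA.1 ha hb
      rw [hab.mul_pow, ← ha', ← hb']; group
    · exact ⟨A.one_mem, by simp⟩
    · rintro a ⟨ha, ha'⟩
      refine ⟨A.inv_mem ha, ?_⟩
      rw [inv_pow, ← ha']; group
  have hWA : W ≤ A := fun a ha => ((hW a).mp ha).1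
  have hXW : X ≤ W := by
    rw [← hzx, Subgroup.zpowers_le, hW]
    exact ⟨hXA hxX, hl.symm⟩
  have hWne : W ≠ A := by
    intro hWeq
    apply hnY
    apply BG9.mem_normalizer_of_cj_le
    intro y' hy'
    rw [BG7.mem_cj] at hy'
    have h2 : n⁻¹ * y' * n ∈ W := by rw [hWeq]; exact hYA hy'
    have h3 := ((hW _).mp h2).2
    have h4 : y' = (n⁻¹ * y' * n) ^ l := by
      rw [← h3]; group
    rw [h4]; exact Y.pow_mem hy' l
  have hWX : X = W := by
    apply Subgroup.eq_of_le_of_card_ge hXW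
    have hd : Nat.card W ∣ p ^ 2 := hA2 ▸ Subgroup.card_dvd_of_le hWA
    obtain ⟨i, hi, hci⟩ := (Nat.dvd_prime_pow hpp).mp hd
    have hi2 : i ≠ 2 := by
      rintro rfl
      exact hWne (Subgroup.eq_of_le_of_card_ge hWA (by rw [hci, hA2]))
    have hi1 : i ≤ 1 := by omega
    rw [hci, hX]
    calc p ^ i ≤ p ^ 1 := Nat.pow_le_pow_right hpp.pos hi1
      _ = p := pow_one p
  intro m hm
  apply BG9.mem_normalizer_of_cj_le
  rw [hWX]
  intro a' ha'
  rw [BG7.mem_cj] at ha'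
  obtain ⟨haA, haw⟩ := (hW _).mp ha'
  rw [hW]
  have ha'A : a' ∈ A := by
    have := (Subgroup.mem_normalizer_iff.mp hm _).mp haA
    have e1 : m * (m⁻¹ * a' * m) * m⁻¹ = a' := by group
    rwa [e1] at this
  refine ⟨ha'A, ?_⟩
  have hc := hcomm n⁻¹ (Subgroup.inv_mem _ hnA) m⁻¹ (Subgroup.inv_mem _ hm)
  have hca := Subgroup.mem_centralizer_iff.mp hc _ haA
  -- `hca : (m⁻¹ a' m) * ⁅n⁻¹, m⁻¹⁆ = ⁅n⁻¹, m⁻¹⁆ * (m⁻¹ a' m)`
  have e2 : n * a' * n⁻¹ =
      m * (n * (⁅n⁻¹, m⁻¹⁆ * (m⁻¹ * a' * m) * ⁅n⁻¹, m⁻¹⁆⁻¹) * n⁻¹) * m⁻¹ := by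
    rw [commutatorElement_def]; group
  rw [e2, ← hca]
  have e3 : m⁻¹ * a' * m * ⁅n⁻¹, m⁻¹⁆ * ⁅n⁻¹, m⁻¹⁆⁻¹ = m⁻¹ * a' * m := by group
  rw [e3, haw]
  have e4 : a' = m * (m⁻¹ * a' * m) * m⁻¹ := by group
  conv_rhs => rw [e4, conj_pow]

/-- `N_G(A)`-invariant lines are regular -/
theorem regular_of_normalizer_le (hG : IsMinSimpleOddOrder G) {M : Subgroup G} (hM : IsCoatom M)
    {E : Subgroup G} (hE : IsComplIn E (sigmaCore M) M) {p : ℕ} [hp : Fact p.Prime]
    (hpτ : p ∈ tau2 M) {A : Subgroup G} (hAE : A ≤ E) (hA : IsElementaryAbelian p A)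
    (hA2 : Nat.card A = p ^ 2) {X : Subgroup G} (hXA : X ≤ A) (hX : Nat.card X = p)
    (hNX : Subgroup.normalizer (A : Set G) ≤ Subgroup.normalizer (X : Set G)) :
    sigmaCore M ⊓ Subgroup.centralizer (X : Set G) = ⊥ := by
  by_contra hs
  obtain ⟨-, ⟨-, -, hNAM⟩, hsing⟩ := row1418 hG M hM E hE p hpτ A ⟨hAE, hA, hA2⟩
  obtain ⟨hCM, huniq⟩ := hsing X hXA hX hs
  have hX1 : X ≠ ⊥ := by
    intro h
    rw [h, Subgroup.card_bot] at hX
    exact hp.out.one_lt.ne hX
  have hXp : IsPGroup p X := IsPGroup.of_card (n := 1) (by rw [hX, pow_one])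
  have hXtop : X ≠ ⊤ := BG7.pgroup_ne_top hG hXp
  obtain ⟨L, hL, hNL⟩ :=
    (eq_top_or_exists_le_coatom (Subgroup.normalizer (X : Set G))).resolve_left
      (BG7.normalizer_ne_top hG hX1 hXtop)
  have hLM : L = M := huniq L hL ((Subgroup.centralizer_le_normalizer _).trans hNL)
  exact hNAM ((hNX.trans hNL).trans (le_of_eq hLM))

/-- **(F4)**: under the hypothesis of 12.10(e), no `r`-element of `E`, `r ∈ τ₁(M) ∪ τ₃(M)`, acts
irreducibly on `A`. -/
theorem no_irreducible (hG : IsMinSimpleOddOrder G) {M : Subgroup G} (hM : IsCoatom M)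
    {E : Subgroup G} (hE : IsComplIn E (sigmaCore M) M) {p : ℕ} [hp : Fact p.Prime]
    (hpτ : p ∈ tau2 M) {A : Subgroup G} (hAE : A ≤ E) (hA : IsElementaryAbelian p A)
    (hA2 : Nat.card A = p ^ 2) {S : Subgroup G} (hS : BG8.IsMaxP p S ⊤)
    (hSab : IsMulCommutative ↥S) (hAS : A ≤ S)
    (hH : ∀ e ∈ E, e ≠ 1 → (∀ q : ℕ, q.Prime → q ∣ orderOf e → q ∈ tau1 M ∪ tau3 M) →
      sigmaCore M ⊓ Subgroup.centralizer ({e} : Set G) = ⊥)
    {e : G} (heE : e ∈ E) {r k : ℕ} [hr : Fact r.Prime] (hek : orderOf e = r ^ k)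
    (hrτ : r ∈ tau1 M ∪ tau3 M)
    (hirr : ∀ X : Subgroup G, X ≤ A → Nat.card X = p →
      e ∉ Subgroup.normalizer (X : Set G)) : False := by
  classical
  have hpp := hp.out
  have hrr := hr.out
  have hEM : E ≤ M := hE.1
  have hAM : A ≤ M := hAE.trans hEM
  obtain ⟨hSC, hCE, hΩ, hNSA, hNSM⟩ := tau2_ctx hG hM hE hpτ hAE hA hA2 hS hSab hAS
  obtain ⟨hnilσ, -, -, hCMA, -, ⟨A₁, hA₁A, hA₁p, -⟩⟩ :=
    BGD.row1417 hG M hM p hpτ A ⟨hAM, hA, hA2⟩
  obtain ⟨⟨hEA, -⟩, ⟨-, hMNA, hNAM⟩, -⟩ := row1418 hG M hM E hE p hpτ A ⟨hAE, hA, hA2⟩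
  have hrank : PRankLE r 1 ↥M := by
    rcases hrτ with h | h
    · exact h.2.2.2.2
    · exact h.2.2.2
  have hrp : r ≠ p := by
    rintro rfl
    exact hpτ.2.2.2 hrank
  have heNA : e ∈ Subgroup.normalizer (A : Set G) := hEA heE
  have he1 : e ≠ 1 := by
    rintro rfl
    exact hirr A₁ hA₁A hA₁p (Subgroup.one_mem _)
  have hk0 : k ≠ 0 := by
    rintro rfl
    rw [pow_zero, orderOf_eq_one_iff] at hek
    exact he1 hek
  have hr2 : r ≠ 2 := by
    have h1 : r ∣ orderOf e := by rw [hek]; exact dvd_pow_self r hk0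
    exact BG9.odd_prime_of_dvd hG (h1.trans (orderOf_dvd_natCard e))
  have hA1 : A ≠ ⊥ := by
    intro h
    rw [h, Subgroup.card_bot] at hA2
    have := hpp.one_lt
    nlinarith
  have hAp : IsPGroup p A := BG9.isPGroup_of_isElementaryAbelian hA
  have hAtop : A ≠ ⊤ := BG7.pgroup_ne_top hG hAp
  have htri : ∀ D : Subgroup G, D ≤ A → e ∈ Subgroup.normalizer (D : Set G) → D = ⊥ ∨ D = A := by
    intro D hDA heD
    have hd : Nat.card D ∣ p ^ 2 := hA2 ▸ Subgroup.card_dvd_of_le hDA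
    obtain ⟨i, hi, hci⟩ := (Nat.dvd_prime_pow hpp).mp hd
    interval_cases i
    · left
      rw [pow_zero] at hci
      exact Subgroup.card_eq_one.mp hci
    · exfalso
      rw [pow_one] at hci
      exact hirr D hDA hci heD
    · right
      exact Subgroup.eq_of_le_of_card_ge hDA (by rw [hci, hA2])
  have heC : e ∉ Subgroup.centralizer (A : Set G) := by
    intro h
    apply hirr A₁ hA₁A hA₁p
    exact (Subgroup.centralizer_le_normalizer _)
      ((Subgroup.centralizer_le (SetLike.coe_subset_coe.mpr hA₁A)) h)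
  obtain ⟨e₀, he₀def⟩ : ∃ e₀, e₀ = e ^ r ^ (k - 1) := ⟨_, rfl⟩
  have he₀r : e₀ ^ r = 1 := by
    rw [he₀def, ← pow_mul, ← pow_succ, show k - 1 + 1 = k by omega, ← hek]
    exact pow_orderOf_eq_one e
  have he₀1 : e₀ ≠ 1 := by
    intro h
    rw [he₀def] at h
    have := orderOf_dvd_of_pow_eq_one h
    rw [hek, Nat.pow_dvd_pow_iff_le_right hrr.one_lt] at this
    omega
  have he₀ord : orderOf e₀ = r := orderOf_eq_prime he₀r he₀1
  have he₀E : e₀ ∈ E := he₀def ▸ E.pow_mem heE _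
  have hcomm0 : e * e₀ = e₀ * e := by
    rw [he₀def]; exact ((Commute.refl e).pow_right _).eq
  obtain ⟨D₀, hD₀def⟩ : ∃ D₀, D₀ = A ⊓ Subgroup.centralizer ({e₀} : Set G) := ⟨_, rfl⟩
  have heD₀ : e ∈ Subgroup.normalizer (D₀ : Set G) :=
    hD₀def ▸ mem_normalizer_inf_centralizer heNA hcomm0
  have hD₀A : D₀ ≤ A := hD₀def ▸ inf_le_left
  have hτr : ∀ q : ℕ, q.Prime → q ∣ orderOf e₀ → q ∈ tau1 M ∪ tau3 M := by
    intro q hq hqd
    rw [he₀ord] at hqd
    have : q = r := (Nat.prime_dvd_prime_iff_eq hq hrr).mp hqd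
    rw [this]; exact hrτ
  rcases htri D₀ hD₀A heD₀ with hbot | htop
  · -- `e₀` acts fixed point freely on `A`: Frobenius action on `Z(M_σ)`
    obtain ⟨V, hVdef⟩ : ∃ V, V = sigmaCore M ⊓ Subgroup.centralizer (sigmaCore M : Set G) :=
      ⟨_, rfl⟩
    have hVσ : V ≤ sigmaCore M := hVdef ▸ inf_le_left
    have hVab : IsMulCommutative ↥V := by
      refine isMulCommutative_iff.mpr (fun a b => Subtype.ext ?_)
      have ha : (a : G) ∈ sigmaCore M ⊓ Subgroup.centralizer (sigmaCore M : Set G) :=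
        (le_of_eq hVdef) a.2
      have hb : (b : G) ∈ sigmaCore M ⊓ Subgroup.centralizer (sigmaCore M : Set G) :=
        (le_of_eq hVdef) b.2
      exact Subgroup.mem_centralizer_iff.mp (Subgroup.mem_inf.mp hb).2 a (Subgroup.mem_inf.mp ha).1
    have hV1 : V ≠ ⊥ := by
      haveI := hnilσ
      have hne : sigmaCore M ≠ ⊥ := BGE.sigmaCore_ne_bot hG hM
      haveI : Nontrivial ↥(sigmaCore M) := (Subgroup.nontrivial_iff_ne_bot _).mpr hne
      have h1 := normal_inf_center_ne_bot (⊤ : Subgroup ↥(sigmaCore M)) top_ne_bot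
      rw [top_inf_eq] at h1
      obtain ⟨⟨z, hz⟩, hz1⟩ := (Subgroup.ne_bot_iff_exists_ne_one).mp h1
      intro hbot'
      have hzV : (z : G) ∈ V := by
        rw [hVdef]
        refine Subgroup.mem_inf.mpr ⟨z.2, ?_⟩
        rw [Subgroup.mem_centralizer_iff]
        intro t ht
        have := Subgroup.mem_center_iff.mp hz ⟨t, ht⟩
        exact congrArg Subtype.val this
      rw [hbot', Subgroup.mem_bot] at hzV
      exact hz1 (Subtype.ext (Subtype.ext hzV))
    have hMV : M ≤ Subgroup.normalizer (V : Set G) := by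
      rw [hVdef]
      apply le_normalizer_inf
      · exact BG7.le_normalizer_piCoreOf (sigma M) M
      · exact (BG7.le_normalizer_piCoreOf (sigma M) M).trans
          (BG7.normalizer_le_normalizer_centralizer_self _)
    have hcop : (Nat.card V).Coprime (Nat.card A) := by
      have h1 : (Nat.card A).Coprime (Nat.card (sigmaCore M)) := by
        apply BGD.coprime_sigmaCore hG hM
        intro q hq hqd
        rw [hA2] at hqd
        have : q = p := (Nat.prime_dvd_prime_iff_eq hq hpp).mp (hq.dvd_of_dvd_pow hqd)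
        rw [this]; exact hpτ.2.1
      exact (Nat.Coprime.coprime_dvd_right (Subgroup.card_dvd_of_le hVσ) h1).symm
    have hCK : V ⊓ Subgroup.centralizer (A : Set G) = ⊥ := by
      rw [eq_bot_iff, ← hCMA]
      exact inf_le_inf_right _ hVσ
    have hfpf : ∀ a ∈ A, e₀ * a = a * e₀ → a = 1 := by
      intro a ha hc
      have : a ∈ D₀ := by
        rw [hD₀def]
        refine Subgroup.mem_inf.mpr ⟨ha, ?_⟩
        rw [Subgroup.mem_centralizer_iff]
        intro t ht
        rw [Set.mem_singleton_iff] at ht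
        rw [ht]; exact hc
      rw [hbot, Subgroup.mem_bot] at this
      exact this
    have hfix := frob_fixed_sub hrr hVab hV1 (hAM.trans hMV) (hMV (hEM he₀E)) (hEA he₀E) he₀r
      hfpf hcop hCK
    apply hfix
    have h1 := hH e₀ he₀E he₀1 hτr
    rw [eq_bot_iff, ← h1]
    exact inf_le_inf_right _ hVσ
  · -- `e₀` centralizes `A`
    have he₀C : e₀ ∈ Subgroup.centralizer (A : Set G) := by
      rw [Subgroup.mem_centralizer_iff]
      intro a ha
      have : a ∈ D₀ := by rw [htop]; exact ha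
      rw [hD₀def] at this
      exact (Subgroup.mem_centralizer_iff.mp (Subgroup.mem_inf.mp this).2 e₀ rfl).symm
    obtain ⟨R₀, hR₀def⟩ : ∃ R₀, R₀ = Subgroup.zpowers e₀ := ⟨_, rfl⟩
    have hR₀card : Nat.card R₀ = r := by rw [hR₀def, Nat.card_zpowers, he₀ord]
    have hR₀p : IsPGroup r R₀ := IsPGroup.of_card (n := 1) (by rw [hR₀card, pow_one])
    have hR₀1 : R₀ ≠ ⊥ := by
      intro h
      rw [h, Subgroup.card_bot] at hR₀card
      exact hrr.one_lt.ne hR₀card
    have hR₀top : R₀ ≠ ⊤ := BG7.pgroup_ne_top hG hR₀p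
    obtain ⟨L, hL, hNRL⟩ :=
      (eq_top_or_exists_le_coatom (Subgroup.normalizer (R₀ : Set G))).resolve_left
        (BG7.normalizer_ne_top hG hR₀1 hR₀top)
    have hR₀C : R₀ ≤ Subgroup.centralizer (A : Set G) := by
      rw [hR₀def, Subgroup.zpowers_le]; exact he₀C
    have hAL : A ≤ L := by
      refine le_trans ?_ ((Subgroup.centralizer_le_normalizer _).trans hNRL)
      intro a ha
      rw [hR₀def, centralizer_zpowers, Subgroup.mem_centralizer_iff]
      intro t ht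
      rw [Set.mem_singleton_iff] at ht
      rw [ht]
      exact (Subgroup.mem_centralizer_iff.mp he₀C a ha).symm
    have hCAL : Subgroup.centralizer (A : Set G) ≤ L :=
      (BGD.row1416 hG L hL p A ⟨hAL, hA, hA2⟩).1
    have hNAL : Subgroup.normalizer (A : Set G) ≤ L := by
      obtain ⟨T₁, hT₁, hRT₁⟩ := BT.exists_isMaxP_ge hR₀p hR₀C
      have hT₁M : T₁ ≤ M := hT₁.1.trans (hCE.trans hEM)
      have hT₁cyc : IsCyclic ↥T₁ := BGB.isCyclic_of_pRankLE_one hr2 hT₁M hT₁.2.1 hrank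
      have hNT := BGG.normalizer_le_of_isCyclic hT₁cyc hRT₁
      intro n hn
      obtain ⟨c, hc, hcn⟩ :=
        frattini_elt (BG7.normalizer_le_normalizer_centralizer_self A) hT₁ n hn
      have e1 : n = c * (c⁻¹ * n) := by group
      rw [e1]
      exact L.mul_mem (hCAL hc) (hNRL (hNT hcn))
    have hSL : S ≤ L := (hSC.trans (Subgroup.centralizer_le_normalizer _)).trans hNAL
    have heL : e ∈ L := hNAL heNA
    have hpL : p ∣ Nat.card L := by
      have h1 : p ∣ Nat.card A := by rw [hA2]; exact dvd_pow_self p two_ne_zero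
      exact h1.trans (Subgroup.card_dvd_of_le hAL)
    have hpσL : p ∈ sigma L := by
      obtain ⟨P, hP⟩ := (hS.mono hSL le_top).exists_sylow
      refine ⟨hpp, hpL, P, ?_⟩
      rw [hP]; exact hNSA.trans hNAL
    have hnotideal : ¬ IsIdealPrime p G :=
      (Cfsg.Agent.S1408.result hG M hM p hpτ.2.1 hpτ.2.2.1 hpτ.2.2.2).1
    have hpβ : p ∉ beta L := fun h => hnotideal h.2
    have hep : IsPGroup r (Subgroup.zpowers e) :=
      IsPGroup.of_card (n := k) (by rw [Nat.card_zpowers, hek])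
    have hezL : Subgroup.zpowers e ≤ L := Subgroup.zpowers_le.mpr heL
    -- `r ∉ σ(L)`
    have hrσL : r ∉ sigma L := by
      intro hrσ
      have heLσ : Subgroup.zpowers e ≤ sigmaCore L := pgroup_le_sigmaCore hG hL hrσ hep hezL
      have hALσ : A ≤ sigmaCore L := pgroup_le_sigmaCore hG hL hpσL hAp hAL
      obtain ⟨-, -, -, -, h5⟩ := Cfsg.Agent.S1414.result hG L hL
      obtain ⟨-, ⟨P, N, hNn, hNc⟩, -⟩ := h5 p hpp hpL hpβ
      have hpN : ¬ p ∣ Nat.card N := by
        rw [← hNc.index_eq_card]; exact P.not_dvd_index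
      obtain ⟨e', he'def⟩ : ∃ e' : ↥(sigmaCore L), e' = ⟨e, heLσ (Subgroup.mem_zpowers e)⟩ :=
        ⟨_, rfl⟩
      have he'coe : (e' : G) = e := by rw [he'def]
      have he'N : e' ∈ N := by
        have h1 : e' ^ N.index ∈ N := Subgroup.pow_index_mem N e'
        have h2 : N.index = Nat.card (P : Subgroup ↥(sigmaCore L)) := hNc.symm.index_eq_card
        obtain ⟨t, ht⟩ := IsPGroup.iff_card.mp P.2
        have h3 : orderOf e' = r ^ k := by
          rw [← hek, ← he'coe, Subgroup.orderOf_coe]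
        have hcop : (N.index).Coprime (orderOf e') := by
          rw [h2, ht, h3]
          exact Nat.Coprime.pow _ _ ((Nat.coprime_primes hpp hrr).mpr (Ne.symm hrp))
        obtain ⟨u, hu⟩ := exists_pow_eq_self_of_coprime hcop
        rw [← hu]; exact N.pow_mem h1 u
      apply heC
      rw [Subgroup.mem_centralizer_iff]
      intro a ha
      obtain ⟨a', ha'def⟩ : ∃ a' : ↥(sigmaCore L), a' = ⟨a, hALσ ha⟩ := ⟨_, rfl⟩
      have ha'coe : (a' : G) = a := by rw [ha'def]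
      have hw'N : a' * e' * a'⁻¹ * e'⁻¹ ∈ N := N.mul_mem (hNn.conj_mem e' he'N a') (N.inv_mem he'N)
      have hwA : a * e * a⁻¹ * e⁻¹ ∈ A := by
        have h1 : e * a⁻¹ * e⁻¹ ∈ A := (Subgroup.mem_normalizer_iff.mp heNA _).mp (A.inv_mem ha)
        have e1 : a * e * a⁻¹ * e⁻¹ = a * (e * a⁻¹ * e⁻¹) := by group
        rw [e1]; exact A.mul_mem ha h1
      have hw'p : (a' * e' * a'⁻¹ * e'⁻¹) ^ p = 1 := by
        apply Subtype.ext
        rw [Subgroup.coe_pow]
        simp only [Subgroup.coe_mul, Subgroup.coe_inv, ha'coe, he'coe]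
        exact hA.2 _ hwA
      have h1 : orderOf (a' * e' * a'⁻¹ * e'⁻¹) ∣ p := orderOf_dvd_of_pow_eq_one hw'p
      have h2 : orderOf (a' * e' * a'⁻¹ * e'⁻¹) ∣ Nat.card N :=
        Subgroup.orderOf_dvd_natCard N hw'N
      have h3 : orderOf (a' * e' * a'⁻¹ * e'⁻¹) = 1 :=
        Nat.eq_one_of_dvd_coprimes ((Nat.Prime.coprime_iff_not_dvd hpp).mpr hpN) h1 h2
      rw [orderOf_eq_one_iff] at h3
      have h4 := congrArg (fun t : ↥(sigmaCore L) => (t : G)) h3
      simp only [Subgroup.coe_mul, Subgroup.coe_inv, ha'coe, he'coe, Subgroup.coe_one] at h4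
      calc a * e = (a * e * a⁻¹ * e⁻¹) * (e * a) := by group
        _ = e * a := by rw [h4, one_mul]
    obtain ⟨⟨hr2L, hr1L⟩, -, -⟩ := Cfsg.Agent.S1409.result hG L hL r hrσL R₀ hR₀card hNRL
    have hrτ2L : r ∈ tau2 L := ⟨hrr, hrσL, hr2L, hr1L⟩
    obtain ⟨B, hBL, hBe, hB2⟩ := BGD.exists_sq_of_rank hr2L hr1L
    obtain ⟨hLσnil, -, -, -, -, -⟩ := BGD.row1417 hG L hL r hrτ2L B ⟨hBL, hBe, hB2⟩
    have hS1 : S ≠ ⊥ := fun h => hA1 (le_bot_iff.mp (h ▸ hAS))
    have hNSL : Subgroup.normalizer (S : Set G) = L :=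
      normalizer_eq_of_nilpotent hG hL hpσL hS hSL hS1 hLσnil
    have hLNA : L ≤ Subgroup.normalizer (A : Set G) := hNSL ▸ hNSA
    -- an abelian Sylow `r`-subgroup `T` of `L` containing `e`
    obtain ⟨T₀, hT₀⟩ := BGD.exists_sylow_ge hep hezL
    obtain ⟨T, hTdef⟩ : ∃ T : Subgroup G, T = (T₀ : Subgroup ↥L).map L.subtype := ⟨_, rfl⟩
    rw [← hTdef] at hT₀
    have hTmax : BG8.IsMaxP r T L := hTdef ▸ BG8.isMaxP_of_sylow T₀
    have hTL : T ≤ L := hTmax.1
    obtain ⟨m, hmL, hBm⟩ := BT.exists_cj_ge hTmax (BG9.isPGroup_of_isElementaryAbelian hBe) hBL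
    obtain ⟨B₁, hB₁def⟩ : ∃ B₁, B₁ = BG7.cj m⁻¹ B := ⟨_, rfl⟩
    have hB₁T : B₁ ≤ T := by
      have h1 := BG7.cj_mono (k := m⁻¹) hBm
      rw [BG7.cj_inv_cj] at h1
      rw [hB₁def]; exact h1
    have hB₁e : IsElementaryAbelian r B₁ := hB₁def ▸ BG9.isElementaryAbelian_cj m⁻¹ hBe
    have hB₁2 : Nat.card B₁ = r ^ 2 := by rw [hB₁def, BG7.card_cj, hB2]
    have hB₁L : B₁ ≤ L := hB₁T.trans hTL
    obtain ⟨-, hsylL, -, -, -, -⟩ := BGD.row1417 hG L hL r hrτ2L B₁ ⟨hB₁L, hB₁e, hB₁2⟩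
    have hTcomm : ∀ x ∈ T, ∀ y ∈ T, x * y = y * x := by
      intro x hx y hy
      rw [hTdef] at hx hy
      obtain ⟨x', hx', rfl⟩ := hx
      obtain ⟨y', hy', rfl⟩ := hy
      haveI := (hsylL T₀).1
      have h := mul_comm' (⟨x', hx'⟩ : ↥(T₀ : Subgroup ↥L)) ⟨y', hy'⟩
      have h2 := congrArg (fun t : ↥(T₀ : Subgroup ↥L) => ((t : ↥L) : G)) h
      simpa using h2
    have hB₁M : ¬ B₁ ≤ M := by
      intro h
      have h1 : IsCyclic ↥B₁ :=
        BGB.isCyclic_of_pRankLE_one hr2 h (BG9.isPGroup_of_isElementaryAbelian hB₁e) hrank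
      exact BG9.not_isCyclic_of_elementary hrr le_rfl hB₁e (by rw [hB₁2]) h1
    obtain ⟨b, hbB, hbM⟩ := SetLike.not_le_iff_exists.mp hB₁M
    have hbr : b ^ r = 1 := hB₁e.2 b hbB
    have hbT : b ∈ T := hB₁T hbB
    have heT : e ∈ T := hT₀ (Subgroup.mem_zpowers e)
    -- the element `x`
    have hex : ∃ j, e ^ r ^ j ∈ Subgroup.centralizer (A : Set G) :=
      ⟨k, by rw [← hek, pow_orderOf_eq_one]; exact Subgroup.one_mem _⟩
    obtain ⟨j, hjdef⟩ : ∃ j, j = Nat.find hex := ⟨_, rfl⟩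
    have hj : e ^ r ^ j ∈ Subgroup.centralizer (A : Set G) := hjdef ▸ Nat.find_spec hex
    have hj0 : j ≠ 0 := by
      rintro rfl
      rw [pow_zero, pow_one] at hj
      exact heC hj
    obtain ⟨x, hxdef⟩ : ∃ x, x = e ^ r ^ (j - 1) := ⟨_, rfl⟩
    have hxC : x ∉ Subgroup.centralizer (A : Set G) := by
      rw [hxdef]
      have hlt : j - 1 < Nat.find hex := by
        have : j = Nat.find hex := hjdef
        omega
      exact Nat.find_min hex hlt
    have hxr : x ^ r ∈ Subgroup.centralizer (A : Set G) := by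
      have : x ^ r = e ^ r ^ j := by
        rw [hxdef, ← pow_mul, ← pow_succ, show j - 1 + 1 = j by omega]
      rw [this]; exact hj
    have hxT : x ∈ T := hxdef ▸ T.pow_mem heT _
    have hxM : x ∈ M := hxdef ▸ M.pow_mem (hEM heE) _
    have hxA : x ∈ Subgroup.normalizer (A : Set G) := hxdef ▸ Subgroup.pow_mem _ heNA _
    have hbA : b ∈ Subgroup.normalizer (A : Set G) := hLNA (hTL hbT)
    have hfpf : ∀ i l : ℕ, ¬ (r ∣ i ∧ r ∣ l) → ∀ a ∈ A,
        (x ^ i * b ^ l) * a = a * (x ^ i * b ^ l) → a = 1 := by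
      intro i l hil a ha hc
      obtain ⟨y, hydef⟩ : ∃ y, y = x ^ i * b ^ l := ⟨_, rfl⟩
      rw [← hydef] at hc
      have hyT : y ∈ T := hydef ▸ T.mul_mem (T.pow_mem hxT i) (T.pow_mem hbT l)
      have hye : e * y = y * e := hTcomm e heT y hyT
      rcases htri (A ⊓ Subgroup.centralizer ({y} : Set G)) inf_le_left
        (mem_normalizer_inf_centralizer heNA hye) with hbot | htop'
      · have : a ∈ A ⊓ Subgroup.centralizer ({y} : Set G) := by
          refine Subgroup.mem_inf.mpr ⟨ha, ?_⟩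
          rw [Subgroup.mem_centralizer_iff]
          intro t ht
          rw [Set.mem_singleton_iff] at ht
          rw [ht]; exact hc
        rw [hbot, Subgroup.mem_bot] at this
        exact this
      · exfalso
        have hyC : y ∈ Subgroup.centralizer (A : Set G) := by
          rw [Subgroup.mem_centralizer_iff]
          intro a' ha'
          have : a' ∈ A ⊓ Subgroup.centralizer ({y} : Set G) := by rw [htop']; exact ha'
          exact (Subgroup.mem_centralizer_iff.mp (Subgroup.mem_inf.mp this).2 y rfl).symm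
        have hyM : y ∈ M := hEM (hCE hyC)
        have hblM : b ^ l ∈ M := by
          have : b ^ l = (x ^ i)⁻¹ * y := by rw [hydef]; group
          rw [this]
          exact M.mul_mem (M.inv_mem (M.pow_mem hxM i)) hyM
        by_cases hl : r ∣ l
        · have hbl : b ^ l = 1 := by
            obtain ⟨t, rfl⟩ := hl
            rw [pow_mul, hbr, one_pow]
          have hi : ¬ r ∣ i := fun h => hil ⟨h, hl⟩
          rw [hbl, mul_one] at hydef
          apply hxC
          have hcop : Nat.Coprime i r :=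
            Nat.Coprime.symm ((Nat.Prime.coprime_iff_not_dvd hrr).mpr hi)
          obtain ⟨u, -, hu⟩ := Nat.exists_mul_mod_eq_one_of_coprime hcop hrr.one_lt
          have h1 := Nat.div_add_mod (i * u) r
          rw [hu] at h1
          have h2 : x ^ (i * u) = (x ^ r) ^ (i * u / r) * x := by
            conv_lhs => rw [← h1]
            rw [pow_add, pow_mul, pow_one]
          have h3 : x = ((x ^ r) ^ (i * u / r))⁻¹ * (x ^ i) ^ u := by
            rw [← pow_mul x i u, h2, inv_mul_cancel_left]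
          rw [h3]
          exact Subgroup.mul_mem _ (Subgroup.inv_mem _ (Subgroup.pow_mem _ hxr _))
            (Subgroup.pow_mem _ (hydef ▸ hyC) _)
        · apply hbM
          have hcop : Nat.Coprime l (orderOf b) := by
            have : orderOf b ∣ r := orderOf_dvd_of_pow_eq_one hbr
            exact Nat.Coprime.coprime_dvd_right this
              (Nat.Coprime.symm ((Nat.Prime.coprime_iff_not_dvd hrr).mpr hl))
          obtain ⟨u, hu⟩ := exists_pow_eq_self_of_coprime hcop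
          rw [← hu]; exact M.pow_mem hblM u
    have hall := no_fpf_sub hA.1 hxA hbA (hTcomm x hxT b hbT) hrr.one_lt hxr
      (by rw [hbr]; exact Subgroup.one_mem _) hfpf
    obtain ⟨a, haA₁, ha1, -⟩ := exists_gen hA₁p
    have h1 : a ^ r = 1 := hall a (hA₁A haA₁)
    have h2 : a ^ p = 1 := hA.2 a (hA₁A haA₁)
    have h3 : orderOf a ∣ r := orderOf_dvd_of_pow_eq_one h1
    have h4 : orderOf a ∣ p := orderOf_dvd_of_pow_eq_one h2
    have h5 : orderOf a = 1 :=
      Nat.eq_one_of_dvd_coprimes ((Nat.coprime_primes hrr hpp).mpr hrp) h3 h4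
    exact ha1 (orderOf_eq_one_iff.mp h5)

end Cfsg.Agent.Lib.Helper2.BGJ
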