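import Mathlib
import Cfsg.Agent.Lib.Helper2.BGJ4
import Cfsg.Agent.Lib.Helper2.BGHRows2

set_option autoImplicit false
set_option maxHeartbeats 4000000
set_option linter.unusedVariables false
set_option linter.unusedSectionVars false
set_option linter.style.longLine false
set_option linter.unusedSimpArgs false
set_option linter.style.haveILetI false
set_option linter.deprecated false

/-!
# B&G 12.10(e) (S1421): the per-prime package for `p ∈ τ₂(M)` with abelian Sylow `p`-subgroups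

* `tau_cases`: primes dividing `|E|` are in `τ₁ ∪ τ₃` or in `τ₂`.
* `exists_pkg`: `A ≤ S ≤ E`, `S` an abelian Sylow subgroup of `G`, normal in `E`.
* `exists_regular_cyclic`: an `E`-invariant cyclic subgroup of `S` of maximal order whose
  subgroup of order `p` is regular.
-/

open scoped commutatorElement Pointwise
universe u
namespace Cfsg.Agent.Lib.Helper2.BGJ

open Cfsg Cfsg.Agent.Lib.Helper1 Cfsg.Agent.Lib.Helper7 Cfsg.Agent.Lib.Helper7.BGRows
open Cfsg.Agent.Lib.Lead Cfsg.Agent.Lib.Helper2.BGH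

variable {G : Type u} [Group G] [Finite G]

theorem tau_cases (hG : IsMinSimpleOddOrder G) {M : Subgroup G} (hM : IsCoatom M)
    {E : Subgroup G} (hE : IsComplIn E (sigmaCore M) M) {q : ℕ} (hq : q.Prime)
    (hdvd : q ∣ Nat.card E) : q ∈ tau1 M ∪ tau3 M ∨ q ∈ tau2 M := by
  have hσ : q ∉ sigma M := BGD.compl_not_sigma hG hM hE q hq hdvd
  have hr2 : PRankLE q 2 M := by
    by_contra h
    exact hσ (BT.alpha_subset_sigma hG hM ⟨hq, h⟩)
  have hqM : q ∣ Nat.card M := hdvd.trans (Subgroup.card_dvd_of_le hE.1)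
  by_cases hr1 : PRankLE q 1 M
  · left
    by_cases hc : q ∣ Nat.card ↥⁅M, M⁆
    · exact Or.inr ⟨hq, hσ, hc, hr1⟩
    · exact Or.inl ⟨hq, hσ, hqM, hc, hr1⟩
  · right; exact ⟨hq, hσ, hr2, hr1⟩

theorem not_tau2_of_tau13 {M : Subgroup G} {q : ℕ} (h : q ∈ tau1 M ∪ tau3 M) : q ∉ tau2 M := by
  rintro ⟨-, -, -, h1⟩
  rcases h with h | h
  · exact h1 h.2.2.2.2
  · exact h1 h.2.2.2

theorem isMulCommutative_cj {S : Subgroup G} (n : G) (h : IsMulCommutative ↥S) :
    IsMulCommutative ↥(BG7.cj n S) := by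
  refine isMulCommutative_iff.mpr ?_
  rintro ⟨a, ha⟩ ⟨b, hb⟩
  apply Subtype.ext
  have h1 := BGL.comm_of h (BG7.mem_cj.mp ha) (BG7.mem_cj.mp hb)
  show a * b = b * a
  calc a * b = n * ((n⁻¹ * a * n) * (n⁻¹ * b * n)) * n⁻¹ := by group
    _ = n * ((n⁻¹ * b * n) * (n⁻¹ * a * n)) * n⁻¹ := by rw [h1]
    _ = b * a := by group

theorem mem_of_normal_sylow {r : ℕ} [hr : Fact r.Prime] {S E : Subgroup G}
    (hS : BG8.IsMaxP r S E) (hES : E ≤ Subgroup.normalizer (S : Set G)) {e : G} (heE : e ∈ E)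
    {k : ℕ} (hk : orderOf e = r ^ k) : e ∈ S := by
  have hX : IsPGroup r (Subgroup.zpowers e) :=
    IsPGroup.of_card (n := k) (by rw [Nat.card_zpowers, hk])
  have hXE : Subgroup.zpowers e ≤ E := Subgroup.zpowers_le.mpr heE
  obtain ⟨m, hm, hle⟩ := BT.exists_cj_ge hS hX hXE
  rw [BG7.cj_eq_of_mem_normalizer (hES hm)] at hle
  exact hle (Subgroup.mem_zpowers e)

theorem commute_of_normal_coprime {S T E : Subgroup G} (hSE : S ≤ E) (hTE : T ≤ E)
    (hES : E ≤ Subgroup.normalizer (S : Set G)) (hET : E ≤ Subgroup.normalizer (T : Set G))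
    (hcop : (Nat.card S).Coprime (Nat.card T)) : ∀ s ∈ S, ∀ t ∈ T, s * t = t * s := by
  intro s hs t ht
  have h1 : s * t * s⁻¹ * t⁻¹ ∈ S ⊓ T := by
    refine Subgroup.mem_inf.mpr ⟨?_, ?_⟩
    · have h3 : t * s⁻¹ * t⁻¹ ∈ S :=
        (Subgroup.mem_normalizer_iff.mp (hES (hTE ht)) s⁻¹).mp (S.inv_mem hs)
      have h2 : s * t * s⁻¹ * t⁻¹ = s * (t * s⁻¹ * t⁻¹) := by group
      rw [h2]; exact S.mul_mem hs h3
    · have h3 : s * t * s⁻¹ ∈ T := (Subgroup.mem_normalizer_iff.mp (hET (hSE hs)) t).mp ht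
      exact T.mul_mem h3 (T.inv_mem ht)
  rw [Subgroup.inf_eq_bot_of_coprime hcop, Subgroup.mem_bot] at h1
  calc s * t = (s * t * s⁻¹ * t⁻¹) * (t * s) := by group
    _ = t * s := by rw [h1, one_mul]

theorem mem_zpowers_pow_of_pow_eq_one {c x : G} {p d : ℕ} (hp : p.Prime)
    (hc : orderOf c = p ^ (d + 1)) (hx : x ∈ Subgroup.zpowers c) (hxp : x ^ p = 1) :
    x ∈ Subgroup.zpowers (c ^ p ^ d) := by
  obtain ⟨i, rfl⟩ := exists_pow_of_mem_zpowers hx
  rw [← pow_mul] at hxp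
  have h1 : p ^ (d + 1) ∣ i * p := hc ▸ orderOf_dvd_of_pow_eq_one hxp
  rw [pow_succ] at h1
  have h2 : p ^ d ∣ i := Nat.dvd_of_mul_dvd_mul_right hp.pos h1
  obtain ⟨t, rfl⟩ := h2
  rw [pow_mul]
  exact Subgroup.pow_mem _ (Subgroup.mem_zpowers _) t

/-- an elementary abelian subgroup of order `p ^ 2` inside the complement `E` -/
theorem exists_sq_le (hG : IsMinSimpleOddOrder G) {M : Subgroup G} (hM : IsCoatom M)
    {E : Subgroup G} (hE : IsComplIn E (sigmaCore M) M) {p : ℕ} [hp : Fact p.Prime]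
    (hpτ : p ∈ tau2 M) :
    ∃ A : Subgroup G, A ≤ E ∧ IsElementaryAbelian p A ∧ Nat.card A = p ^ 2 := by
  obtain ⟨A₁, hA₁M, hA₁, hA₁2⟩ := BGD.exists_sq_of_rank hpτ.2.2.1 hpτ.2.2.2
  have hcop : (Nat.card A₁).Coprime (Nat.card (sigmaCore M)) := by
    apply BGD.coprime_sigmaCore hG hM
    intro q hq hqd
    rw [hA₁2] at hqd
    have : q = p := (Nat.prime_dvd_prime_iff_eq hq hp.out).mp (hq.dvd_of_dvd_pow hqd)
    rw [this]; exact hpτ.2.1
  obtain ⟨m, hm, hle⟩ := BGD.exists_cj_le hG hM hE hA₁M hcop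
  refine ⟨BG7.cj m⁻¹ A₁, ?_, BG9.isElementaryAbelian_cj m⁻¹ hA₁, by rw [BG7.card_cj, hA₁2]⟩
  have := BG7.cj_mono (k := m⁻¹) hle
  rwa [BG7.cj_inv_cj] at this

/-- the package for `p ∈ τ₂(M)` with abelian Sylow `p`-subgroups -/
theorem exists_pkg (hG : IsMinSimpleOddOrder G) {M : Subgroup G} (hM : IsCoatom M)
    {E : Subgroup G} (hE : IsComplIn E (sigmaCore M) M) {p : ℕ} [hp : Fact p.Prime]
    (hpτ : p ∈ tau2 M) (hab : ∃ S : Sylow p G, IsMulCommutative (S : Subgroup G)) :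
    ∃ A S : Subgroup G, A ≤ E ∧ IsElementaryAbelian p A ∧ Nat.card A = p ^ 2 ∧
      BG8.IsMaxP p S ⊤ ∧ IsMulCommutative ↥S ∧ A ≤ S ∧ S ≤ E ∧
      E ≤ Subgroup.normalizer (S : Set G) ∧ E ≤ Subgroup.normalizer (A : Set G) := by
  have hpp := hp.out
  obtain ⟨A, hAE, hA, hA2⟩ := exists_sq_le hG hM hE hpτ
  obtain ⟨S, hS, hAS⟩ := BT.exists_isMaxP_ge (p := p)
    (BG9.isPGroup_of_isElementaryAbelian hA) (le_top : A ≤ ⊤)
  obtain ⟨S', hS'ab⟩ := hab
  have hS' : BG8.IsMaxP p (S' : Subgroup G) ⊤ :=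
    ⟨le_top, S'.isPGroup', fun T hT hle _ => S'.is_maximal' hT hle⟩
  obtain ⟨n, -, hn⟩ := BT.isMaxP_conj hS' hS
  have hSab : IsMulCommutative ↥S := by
    rw [hn]; exact isMulCommutative_cj n hS'ab
  obtain ⟨hSC, hCE, hΩ, hNSA, hNSM⟩ := tau2_ctx hG hM hE hpτ hAE hA hA2 hS hSab hAS
  have hNAS := normalizer_le_normalizer_sylow hG hM hE hpτ hAE hA hA2 hS hSab hAS
  have h18 := row1418 hG M hM E hE p hpτ A ⟨hAE, hA, hA2⟩
  exact ⟨A, S, hAE, hA, hA2, hS, hSab, hAS, hSC.trans hCE, h18.1.1.trans hNAS, h18.1.1⟩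

/-- **(P2)**: an `E`-invariant cyclic subgroup of `S` of maximal order with regular socle -/
theorem exists_regular_cyclic (hG : IsMinSimpleOddOrder G) {M : Subgroup G} (hM : IsCoatom M)
    {E : Subgroup G} (hE : IsComplIn E (sigmaCore M) M) {p : ℕ} [hp : Fact p.Prime]
    (hpτ : p ∈ tau2 M) {A : Subgroup G} (hAE : A ≤ E) (hA : IsElementaryAbelian p A)
    (hA2 : Nat.card A = p ^ 2) {S : Subgroup G} (hS : BG8.IsMaxP p S ⊤)
    (hSab : IsMulCommutative ↥S) (hAS : A ≤ S)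
    (hH : ∀ e ∈ E, e ≠ 1 → (∀ q : ℕ, q.Prime → q ∣ orderOf e → q ∈ tau1 M ∪ tau3 M) →
      sigmaCore M ⊓ Subgroup.centralizer ({e} : Set G) = ⊥)
    (hτ2 : ∀ e ∈ E, ∀ r k : ℕ, r.Prime → r ∈ tau2 M → orderOf e = r ^ k →
      e ∈ Subgroup.centralizer (A : Set G)) :
    ∃ c ∈ S, E ≤ Subgroup.normalizer ((Subgroup.zpowers c : Subgroup G) : Set G) ∧
      (∀ s ∈ S, s ^ orderOf c = 1) ∧
      ∀ e ∈ Subgroup.zpowers c, orderOf e = p →
        sigmaCore M ⊓ Subgroup.centralizer ({e} : Set G) = ⊥ := by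
  classical
  have hpp := hp.out
  obtain ⟨hSC, hCE, hΩ, hNSA, hNSM⟩ := tau2_ctx hG hM hE hpτ hAE hA hA2 hS hSab hAS
  have hNAS := normalizer_le_normalizer_sylow hG hM hE hpτ hAE hA hA2 hS hSab hAS
  have hSE : S ≤ E := hSC.trans hCE
  have hEM : E ≤ M := hE.1
  have hAM : A ≤ M := hAE.trans hEM
  have h18 := row1418 hG M hM E hE p hpτ A ⟨hAE, hA, hA2⟩
  have hEA : E ≤ Subgroup.normalizer (A : Set G) := h18.1.1
  have hES : E ≤ Subgroup.normalizer (S : Set G) := hEA.trans hNAS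
  have hSp : IsPGroup p S := hS.2.1
  have hpA : p ∣ Nat.card A := by rw [hA2]; exact dvd_pow_self p two_ne_zero
  have hp2 : p ≠ 2 := BG9.odd_prime_of_dvd hG (hpA.trans (Subgroup.card_subgroup_dvd_card A))
  -- an element of maximal order
  haveI : Nonempty ↥S := ⟨1⟩
  obtain ⟨s₀', hmax⟩ := Finite.exists_max (fun s : ↥S => orderOf (s : G))
  obtain ⟨s₀, hs₀S, hs₀def⟩ : ∃ s₀ : G, s₀ ∈ S ∧ s₀ = (s₀' : G) := ⟨_, s₀'.2, rfl⟩
  have hmax' : ∀ s ∈ S, orderOf s ≤ orderOf s₀ := by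
    intro s hs
    rw [hs₀def]
    exact hmax ⟨s, hs⟩
  have hord : ∀ s ∈ S, ∃ j, orderOf s = p ^ j := by
    intro s hs
    obtain ⟨j, hj⟩ := (IsPGroup.iff_orderOf.mp hSp) ⟨s, hs⟩
    exact ⟨j, by rw [← hj, Subgroup.orderOf_mk]⟩
  obtain ⟨k, hk⟩ := hord s₀ hs₀S
  obtain ⟨a₀, ha₀A, ha₀1⟩ : ∃ a₀ ∈ A, a₀ ≠ 1 := by
    obtain ⟨X, hXA, hXp⟩ := exists_prime_card_le (K := A) hpA
    obtain ⟨x, hxX, hx1, -⟩ := exists_gen hXp
    exact ⟨x, hXA hxX, hx1⟩
  have ha₀ord : orderOf a₀ = p := orderOf_eq_prime (hA.2 a₀ ha₀A) ha₀1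
  have hk0 : k ≠ 0 := by
    rintro rfl
    have := hmax' a₀ (hAS ha₀A)
    rw [ha₀ord, hk, pow_zero] at this
    exact absurd hpp.one_lt (not_lt.mpr this)
  obtain ⟨d, rfl⟩ : ∃ d, k = d + 1 := ⟨k - 1, by omega⟩
  have hexp : ∀ s ∈ S, s ^ p ^ (d + 1) = 1 := by
    intro s hs
    obtain ⟨j, hj⟩ := hord s hs
    have h1 := hmax' s hs
    rw [hj, hk] at h1
    have h2 : j ≤ d + 1 := (Nat.pow_le_pow_iff_right hpp.one_lt).mp h1
    apply orderOf_dvd_iff_pow_eq_one.mp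
    rw [hj]; exact pow_dvd_pow p h2
  have hz1 : s₀ ^ p ^ d ≠ 1 := by
    intro h
    have h1 := orderOf_dvd_of_pow_eq_one h
    rw [hk] at h1
    have h2 := (Nat.pow_dvd_pow_iff_le_right hpp.one_lt).mp h1
    omega
  -- the subgroup of `p ^ d`-th powers
  obtain ⟨Pw, hPw⟩ : ∃ Pw : Subgroup G, ∀ x : G, x ∈ Pw ↔ ∃ s ∈ S, s ^ p ^ d = x := by
    refine ⟨{ carrier := {x | ∃ s ∈ S, s ^ p ^ d = x}
              mul_mem' := ?_
              one_mem' := ?_
              inv_mem' := ?_ }, fun x => Iff.rfl⟩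
    · rintro x y ⟨s, hs, rfl⟩ ⟨t, ht, rfl⟩
      refine ⟨s * t, S.mul_mem hs ht, ?_⟩
      have hst : Commute s t := BGL.comm_of hSab hs ht
      exact hst.mul_pow _
    · exact ⟨1, S.one_mem, one_pow _⟩
    · rintro x ⟨s, hs, rfl⟩
      exact ⟨s⁻¹, S.inv_mem hs, inv_pow _ _⟩
  have hPwA : Pw ≤ A := by
    intro x hx
    obtain ⟨s, hs, rfl⟩ := (hPw x).mp hx
    refine (hΩ _ (S.pow_mem hs _)).mp ?_
    rw [← pow_mul, ← pow_succ]; exact hexp s hs
  have hzPw : s₀ ^ p ^ d ∈ Pw := (hPw _).mpr ⟨s₀, hs₀S, rfl⟩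
  have hNSPw : Subgroup.normalizer (S : Set G) ≤ Subgroup.normalizer (Pw : Set G) := by
    intro n hn
    apply BG9.mem_normalizer_of_cj_le
    intro y hy
    rw [BG7.mem_cj] at hy
    obtain ⟨s, hs, hsy⟩ := (hPw _).mp hy
    refine (hPw y).mpr ⟨n * s * n⁻¹, (Subgroup.mem_normalizer_iff.mp hn s).mp hs, ?_⟩
    rw [conj_pow, hsy]; group
  -- the regular `E`-invariant line
  have hline : ∃ L₀ : Subgroup G, L₀ ≤ A ∧ Nat.card L₀ = p ∧
      E ≤ Subgroup.normalizer (L₀ : Set G) ∧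
      sigmaCore M ⊓ Subgroup.centralizer (L₀ : Set G) = ⊥ ∧
      ∃ s₁ ∈ S, s₁ ^ p ^ d ∈ L₀ ∧ s₁ ^ p ^ d ≠ 1 := by
    have hPwcard : Nat.card Pw ∣ p ^ 2 := hA2 ▸ Subgroup.card_dvd_of_le hPwA
    obtain ⟨i, hi2, hi⟩ := (Nat.dvd_prime_pow hpp).mp hPwcard
    have hPw1 : Pw ≠ ⊥ := by
      intro h
      rw [h, Subgroup.mem_bot] at hzPw
      exact hz1 hzPw
    have hi0 : i ≠ 0 := by
      rintro rfl
      rw [pow_zero] at hi
      exact hPw1 (Subgroup.card_eq_one.mp hi)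
    rcases (by omega : i = 1 ∨ i = 2) with rfl | rfl
    · -- `Pw` is a line
      rw [pow_one] at hi
      refine ⟨Pw, hPwA, hi, hES.trans hNSPw, ?_, s₀, hs₀S, hzPw, hz1⟩
      by_contra hsing
      obtain ⟨hCM, huniq⟩ := h18.2.2 Pw hPwA hi hsing
      have hPwtop : Pw ≠ ⊤ :=
        BG7.pgroup_ne_top hG (IsPGroup.of_card (n := 1) (by rw [hi, pow_one]))
      have hNtop := BG7.normalizer_ne_top hG hPw1 hPwtop
      rcases eq_top_or_exists_le_coatom (Subgroup.normalizer (Pw : Set G)) with h | ⟨L, hL, hNL⟩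
      · exact hNtop h
      · have hLM : L = M := huniq L hL ((Subgroup.centralizer_le_normalizer _).trans hNL)
        rw [hLM] at hNL
        exact hNSM (hNSPw.trans hNL)
    · -- `Pw = A`
      have hPwA' : Pw = A := Subgroup.eq_of_le_of_card_ge hPwA (by rw [hi, hA2])
      have hcomm := comm_mem_centralizer hG hA hA2 hS hSC
      have hfin : ∀ L₀ : Subgroup G, L₀ ≤ A → Nat.card L₀ = p →
          E ≤ Subgroup.normalizer (L₀ : Set G) →
          sigmaCore M ⊓ Subgroup.centralizer (L₀ : Set G) = ⊥ →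
          ∃ L₀ : Subgroup G, L₀ ≤ A ∧ Nat.card L₀ = p ∧
            E ≤ Subgroup.normalizer (L₀ : Set G) ∧
            sigmaCore M ⊓ Subgroup.centralizer (L₀ : Set G) = ⊥ ∧
            ∃ s₁ ∈ S, s₁ ^ p ^ d ∈ L₀ ∧ s₁ ^ p ^ d ≠ 1 := by
        intro L₀ hL₀A hL₀p hEL₀ hreg
        obtain ⟨a, haL, ha1, -⟩ := exists_gen hL₀p
        have haPw : a ∈ Pw := by rw [hPwA']; exact hL₀A haL
        obtain ⟨s₁, hs₁, hs₁a⟩ := (hPw a).mp haPw
        refine ⟨L₀, hL₀A, hL₀p, hEL₀, hreg, s₁, hs₁, ?_, ?_⟩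
        · rw [hs₁a]; exact haL
        · rw [hs₁a]; exact ha1
      by_cases hI : ∃ e ∈ E, ∃ X : Subgroup G, X ≤ A ∧ Nat.card X = p ∧
          e ∈ Subgroup.normalizer (X : Set G) ∧
          ∃ Y : Subgroup G, Y ≤ A ∧ e ∉ Subgroup.normalizer (Y : Set G)
      · obtain ⟨e, heE, X, hXA, hXp, heX, Y, hYA, heY⟩ := hI
        have hNX := normalizer_le_of_eigenline hA hA2 hcomm hXA hXp (hEA heE) heX hYA heY
        exact hfin X hXA hXp (hEA.trans hNX)
          (regular_of_normalizer_le hG hM hE hpτ hAE hA hA2 hXA hXp hNX)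
      · have hII : ∀ e ∈ E, ∀ X : Subgroup G, X ≤ A → Nat.card X = p →
            e ∈ Subgroup.normalizer (X : Set G) →
            ∀ Y : Subgroup G, Y ≤ A → e ∈ Subgroup.normalizer (Y : Set G) := by
          intro e heE X hXA hXp heX Y hYA
          by_contra heY
          exact hI ⟨e, heE, X, hXA, hXp, heX, Y, hYA, heY⟩
        by_cases hIIa : ∀ e ∈ E, ∃ X : Subgroup G, X ≤ A ∧ Nat.card X = p ∧
            e ∈ Subgroup.normalizer (X : Set G)
        · obtain ⟨A₁, hA₁A, hA₁p, hreg⟩ :=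
            (BGD.row1417 hG M hM p hpτ A ⟨hAM, hA, hA2⟩).2.2.2.2.2
          refine hfin A₁ hA₁A hA₁p ?_ hreg
          intro e heE
          obtain ⟨X, hXA, hXp, heX⟩ := hIIa e heE
          exact hII e heE X hXA hXp heX A₁ hA₁A
        · exfalso
          have hex : ∃ e ∈ E, ∀ X : Subgroup G, X ≤ A → Nat.card X = p →
              e ∉ Subgroup.normalizer (X : Set G) := by
            by_contra hcon
            apply hIIa
            intro e heE
            by_contra hcon2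
            apply hcon
            exact ⟨e, heE, fun X hXA hXp heX => hcon2 ⟨X, hXA, hXp, heX⟩⟩
          obtain ⟨e, heE, hirr⟩ := hex
          obtain ⟨Es, hEs⟩ : ∃ Es : Subgroup G, ∀ g : G, g ∈ Es ↔
              ∀ Y : Subgroup G, Y ≤ A → g ∈ Subgroup.normalizer (Y : Set G) :=
            ⟨⨅ (Y : Subgroup G) (_ : Y ≤ A), Subgroup.normalizer (Y : Set G), fun g => by
              simp only [Subgroup.mem_iInf]⟩
          obtain ⟨X₀, hX₀A, hX₀p⟩ := exists_prime_card_le (K := A) hpA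
          have heEs : e ∉ Es := fun h => hirr X₀ hX₀A hX₀p ((hEs e).mp h X₀ hX₀A)
          have hexz : ∃ z ∈ Subgroup.zpowers e,
              (∃ r k, Nat.Prime r ∧ orderOf z = r ^ k) ∧ z ∉ Es := by
            by_contra hcon
            apply heEs
            apply HallD.mem_of_primePow_mem Es (orderOf e) e rfl
            intro z hz hrk
            by_contra hzEs
            exact hcon ⟨z, hz, hrk, hzEs⟩
          obtain ⟨z, hzz, ⟨r, k, hr, hzk⟩, hzEs⟩ := hexz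
          have hzE : z ∈ E := (Subgroup.zpowers_le.mpr heE) hzz
          have hzne : z ≠ 1 := by
            rintro rfl
            exact hzEs (Es.one_mem)
          have hzirr : ∀ X : Subgroup G, X ≤ A → Nat.card X = p →
              z ∉ Subgroup.normalizer (X : Set G) := by
            intro X hXA hXp hzX
            apply hzEs
            exact (hEs z).mpr (fun Y hYA => hII z hzE X hXA hXp hzX Y hYA)
          have hkne : k ≠ 0 := by
            rintro rfl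
            rw [pow_zero, orderOf_eq_one_iff] at hzk
            exact hzne hzk
          have hrdvd : r ∣ Nat.card E := by
            have h1 : r ∣ orderOf z := by rw [hzk]; exact dvd_pow_self r hkne
            exact h1.trans (Subgroup.orderOf_dvd_natCard E hzE)
          rcases tau_cases hG hM hE hr hrdvd with hτ | hτ
          · haveI : Fact r.Prime := ⟨hr⟩
            exact no_irreducible hG hM hE hpτ hAE hA hA2 hS hSab hAS hH hzE hzk hτ hzirr
          · have hzC := hτ2 z hzE r k hr hτ hzk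
            exact hzirr X₀ hX₀A hX₀p ((Subgroup.centralizer_le_normalizer _)
              (Subgroup.centralizer_le (SetLike.coe_subset_coe.mpr hX₀A) hzC))
  obtain ⟨L₀, hL₀A, hL₀p, hEL₀, hreg, s₁, hs₁S, hs₁L, hs₁1⟩ := hline
  -- a complement of `S` in `E`
  have hnd : ¬ p ∣ S.relIndex E := by
    intro h
    apply hS.not_dvd_index
    rw [← Subgroup.relIndex_mul_index hSE]
    exact Dvd.dvd.mul_right h _
  have hcop : (Nat.card S).Coprime (S.relIndex E) := by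
    obtain ⟨n, hn⟩ := IsPGroup.iff_card.mp hSp
    rw [hn]
    exact Nat.Coprime.pow_left n ((Nat.Prime.coprime_iff_not_dvd hpp).mpr hnd)
  obtain ⟨H, hHE, hHS, hSH, hHcard⟩ := exists_relative_complement S E hSE hES hcop
  have hHcop : (Nat.card H).Coprime p := by
    rw [hHcard]
    exact Nat.Coprime.symm ((Nat.Prime.coprime_iff_not_dvd hpp).mpr hnd)
  obtain ⟨c, hcS, hHc, hcord, hL₀c⟩ := exists_inv_cyclic hp2 hSab hSp (hHE.trans hES) hHcop
    (hL₀A.trans hAS) hL₀p (hHE.trans hEL₀) d hexp s₁ hs₁S hs₁L hs₁1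
  refine ⟨c, hcS, ?_, ?_, ?_⟩
  · rw [← hSH]
    refine sup_le ?_ hHc
    intro s hs
    apply Subgroup.centralizer_le_normalizer
    rw [centralizer_zpowers, Subgroup.mem_centralizer_iff]
    intro t ht
    rw [Set.mem_singleton_iff] at ht
    rw [ht]; exact BGL.comm_of hSab hcS hs
  · intro s hs
    rw [hcord]; exact hexp s hs
  · intro e hec heord
    have hLz : L₀ = Subgroup.zpowers (c ^ p ^ d) := by
      apply Subgroup.eq_of_le_of_card_ge
      · intro a ha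
        exact mem_zpowers_pow_of_pow_eq_one hpp hcord (hL₀c ha) (hA.2 a (hL₀A ha))
      · have h1 : Nat.card (Subgroup.zpowers (c ^ p ^ d)) = p := by
          rw [Nat.card_zpowers, orderOf_pow_of_dvd (pow_ne_zero d hpp.ne_zero)
            (by rw [hcord]; exact pow_dvd_pow p (Nat.le_succ d)), hcord, pow_succ]
          exact Nat.mul_div_cancel_left _ (pow_pos hpp.pos d)
        exact le_of_eq (h1.trans hL₀p.symm)
    have heL : e ∈ L₀ := by
      rw [hLz]
      refine mem_zpowers_pow_of_pow_eq_one hpp hcord hec ?_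
      rw [← heord]; exact pow_orderOf_eq_one e
    have he1 : e ≠ 1 := by
      rintro rfl
      rw [orderOf_one] at heord
      exact hpp.one_lt.ne heord
    have hze : Subgroup.zpowers e = L₀ := BK.zpowers_eq_of_card_prime hL₀p heL he1
    rw [← centralizer_zpowers, hze]; exact hreg

end Cfsg.Agent.Lib.Helper2.BGJ
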