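import Mathlib
import Cfsg.Agent.Lib.Helper2.BGJ5

set_option autoImplicit false
set_option maxHeartbeats 4000000
set_option linter.unusedVariables false
set_option linter.unusedSectionVars false
set_option linter.style.longLine false
set_option linter.unusedSimpArgs false
set_option linter.style.haveILetI false
set_option linter.deprecated false

/-!
# B&G 12.10(e) (S1421): the case where all `p ∈ τ₂(M)` have abelian Sylow `p`-subgroups

* `pow_eq_one_iff_pow_mem`, `orderOf_eq_of_mul`: orders of elements of a complement.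
* `regular_of_prime`: regularity may be checked on elements of prime order.
* `case2`: the conclusion of S1421 when all Sylow `p`-subgroups (`p ∈ τ₂(M)`) are abelian.
-/

open scoped commutatorElement Pointwise
universe u
namespace Cfsg.Agent.Lib.Helper2.BGJ

open Cfsg Cfsg.Agent.Lib.Helper1 Cfsg.Agent.Lib.Helper7 Cfsg.Agent.Lib.Helper7.BGRows
open Cfsg.Agent.Lib.Lead Cfsg.Agent.Lib.Helper2.BGH

variable {G : Type u} [Group G] [Finite G]

theorem pow_eq_one_iff_pow_mem {N H E : Subgroup G}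
    (hEN : E ≤ Subgroup.normalizer (N : Set G)) (hNH : N ⊓ H = ⊥) (hHE : H ≤ E) {x h e : G}
    (hx : x ∈ N) (hh : h ∈ H) (he : x * h = e) (n : ℕ) : h ^ n = 1 ↔ e ^ n ∈ N := by
  subst he
  have key : ∀ n : ℕ, ∃ y ∈ N, (x * h) ^ n = y * h ^ n := by
    intro n
    induction n with
    | zero => exact ⟨1, N.one_mem, by simp⟩
    | succ n ih =>
      obtain ⟨y, hy, hyn⟩ := ih
      have h1 : h ^ n * x * (h ^ n)⁻¹ ∈ N :=
        (Subgroup.mem_normalizer_iff.mp (hEN (hHE (H.pow_mem hh n))) x).mp hx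
      refine ⟨y * (h ^ n * x * (h ^ n)⁻¹), N.mul_mem hy h1, ?_⟩
      rw [pow_succ (x * h) n, hyn, pow_succ h n]; group
  obtain ⟨y, hy, hyn⟩ := key n
  constructor
  · intro h1
    rw [hyn, h1, mul_one]; exact hy
  · intro h1
    have h2 : h ^ n ∈ N ⊓ H := by
      refine Subgroup.mem_inf.mpr ⟨?_, H.pow_mem hh n⟩
      have h3 : h ^ n = y⁻¹ * (x * h) ^ n := by rw [hyn]; group
      rw [h3]; exact N.mul_mem (N.inv_mem hy) h1
    rw [hNH, Subgroup.mem_bot] at h2
    exact h2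

theorem orderOf_eq_of_mul {N H E : Subgroup G}
    (hEN : E ≤ Subgroup.normalizer (N : Set G)) (hNH : N ⊓ H = ⊥) (hHE : H ≤ E) {x h e : G}
    (hx : x ∈ N) (hh : h ∈ H) (he : x * h = e) (hcop : (Nat.card N).Coprime (orderOf e)) :
    orderOf h = orderOf e := by
  rw [orderOf_eq_orderOf_iff]
  intro n
  rw [pow_eq_one_iff_pow_mem hEN hNH hHE hx hh he n]
  constructor
  · intro h1
    have h2 : e ^ n ∈ N ⊓ Subgroup.zpowers e :=
      Subgroup.mem_inf.mpr ⟨h1, Subgroup.pow_mem _ (Subgroup.mem_zpowers e) n⟩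
    rw [Subgroup.inf_eq_bot_of_coprime (by rw [Nat.card_zpowers]; exact hcop),
      Subgroup.mem_bot] at h2
    exact h2
  · intro h1; rw [h1]; exact N.one_mem

theorem regular_of_prime {K E₀ : Subgroup G}
    (h : ∀ e ∈ E₀, ∀ q : ℕ, q.Prime → orderOf e = q →
      K ⊓ Subgroup.centralizer ({e} : Set G) = ⊥) :
    ∀ e ∈ E₀, e ≠ 1 → K ⊓ Subgroup.centralizer ({e} : Set G) = ⊥ := by
  intro e he he1
  have hord : orderOf e ≠ 1 := fun h1 => he1 (orderOf_eq_one_iff.mp h1)
  obtain ⟨q, hq, hqd⟩ := Nat.exists_prime_and_dvd hord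
  have h0 : orderOf e ≠ 0 := (orderOf_pos e).ne'
  have h1 := orderOf_pow_orderOf_div h0 hqd
  have h2 := h (e ^ (orderOf e / q)) (E₀.pow_mem he _) q hq h1
  rw [eq_bot_iff] at h2 ⊢
  refine le_trans (inf_le_inf_left K ?_) h2
  intro y hy
  rw [Subgroup.mem_centralizer_iff] at hy ⊢
  intro t ht
  rw [Set.mem_singleton_iff] at ht
  rw [ht]
  have h3 : Commute e y := hy e rfl
  exact (h3.pow_left _).eq

/-- S1421 when all Sylow `p`-subgroups of `G`, `p ∈ τ₂(M)`, are abelian -/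
theorem case2 (hG : IsMinSimpleOddOrder G) {M : Subgroup G} (hM : IsCoatom M)
    {E : Subgroup G} (hE : IsComplIn E (sigmaCore M) M)
    (hH : ∀ e ∈ E, e ≠ 1 → (∀ q : ℕ, q.Prime → q ∣ orderOf e → q ∈ tau1 M ∪ tau3 M) →
      sigmaCore M ⊓ Subgroup.centralizer ({e} : Set G) = ⊥)
    (hab : ∀ p : ℕ, p ∈ tau2 M → ∃ S : Sylow p G, IsMulCommutative (S : Subgroup G)) :
    (∃ A₀ : Subgroup G, A₀ ≤ E ∧ E ≤ Subgroup.normalizer (A₀ : Set G) ∧ IsMulCommutative A₀ ∧
        ∀ x ∈ sigmaCore M, x ≠ 1 → E ⊓ Subgroup.centralizer ({x} : Set G) ≤ A₀) ∧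
      ∃ E₀ : Subgroup G, E₀ ≤ E ∧ Monoid.exponent E₀ = Monoid.exponent E ∧
        ∀ e ∈ E₀, e ≠ 1 → sigmaCore M ⊓ Subgroup.centralizer ({e} : Set G) = ⊥ := by
  classical
  have hpk : ∀ p : ℕ, p ∈ tau2 M → ∃ A S : Subgroup G, A ≤ E ∧ IsElementaryAbelian p A ∧
      Nat.card A = p ^ 2 ∧ BG8.IsMaxP p S ⊤ ∧ IsMulCommutative ↥S ∧ A ≤ S ∧ S ≤ E ∧
      E ≤ Subgroup.normalizer (S : Set G) ∧ E ≤ Subgroup.normalizer (A : Set G) := by
    intro p hp
    haveI : Fact p.Prime := ⟨hp.1⟩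
    exact exists_pkg hG hM hE hp (hab p hp)
  choose A S hAE hA hA2 hS hSab hAS hSE hES hEA using hpk
  have hmemS : ∀ (r : ℕ) (hr : r ∈ tau2 M) (e : G), e ∈ E → ∀ k : ℕ, orderOf e = r ^ k →
      e ∈ S r hr := by
    intro r hr e heE k hk
    haveI : Fact r.Prime := ⟨hr.1⟩
    exact mem_of_normal_sylow ((hS r hr).mono (hSE r hr) le_top) (hES r hr) heE hk
  have hScop : ∀ (p : ℕ) (hp : p ∈ tau2 M) (q : ℕ) (hq : q ∈ tau2 M), p ≠ q →
      (Nat.card (S p hp)).Coprime (Nat.card (S q hq)) := by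
    intro p hp q hq hpq
    haveI : Fact p.Prime := ⟨hp.1⟩
    haveI : Fact q.Prime := ⟨hq.1⟩
    obtain ⟨n, hn⟩ := IsPGroup.iff_card.mp (hS p hp).2.1
    obtain ⟨m, hm⟩ := IsPGroup.iff_card.mp (hS q hq).2.1
    rw [hn, hm]
    exact Nat.Coprime.pow n m ((Nat.coprime_primes hp.1 hq.1).mpr hpq)
  have hτ2 : ∀ (p : ℕ) (hp : p ∈ tau2 M), ∀ e ∈ E, ∀ r k : ℕ, r.Prime → r ∈ tau2 M →
      orderOf e = r ^ k → e ∈ Subgroup.centralizer (A p hp : Set G) := by
    intro p hp e heE r k hr hrτ hk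
    have heS := hmemS r hrτ e heE k hk
    rw [Subgroup.mem_centralizer_iff]
    intro a ha
    by_cases hrp : r = p
    · subst hrp
      exact BGL.comm_of (hSab r hrτ) (hAS r hp ha) heS
    · exact (commute_of_normal_coprime (hSE r hrτ) (hSE p hp) (hES r hrτ) (hES p hp)
        (hScop r hrτ p hp hrp) e heS a (hAS p hp ha)).symm
  have hc : ∀ (p : ℕ) (hp : p ∈ tau2 M), ∃ c ∈ S p hp,
      E ≤ Subgroup.normalizer ((Subgroup.zpowers c : Subgroup G) : Set G) ∧
      (∀ s ∈ S p hp, s ^ orderOf c = 1) ∧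
      ∀ e ∈ Subgroup.zpowers c, orderOf e = p →
        sigmaCore M ⊓ Subgroup.centralizer ({e} : Set G) = ⊥ := by
    intro p hp
    haveI : Fact p.Prime := ⟨hp.1⟩
    exact exists_regular_cyclic hG hM hE hp (hAE p hp) (hA p hp) (hA2 p hp) (hS p hp)
      (hSab p hp) (hAS p hp) hH (hτ2 p hp)
  choose c hcS hEc hcexp hcreg using hc
  -- the abelian normal Hall subgroup `E₂`
  obtain ⟨E₂, hE₂def⟩ : ∃ E₂ : Subgroup G, E₂ = ⨆ (p : ℕ) (hp : p ∈ tau2 M), S p hp := ⟨_, rfl⟩
  have hSE₂ : ∀ (p : ℕ) (hp : p ∈ tau2 M), S p hp ≤ E₂ := by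
    intro p hp
    rw [hE₂def]
    exact le_iSup₂ (f := fun (p : ℕ) (hp : p ∈ tau2 M) => S p hp) p hp
  have hE₂le : ∀ K : Subgroup G, (∀ (p : ℕ) (hp : p ∈ tau2 M), S p hp ≤ K) → E₂ ≤ K := by
    intro K h
    rw [hE₂def]
    exact iSup₂_le h
  have hE₂E : E₂ ≤ E := hE₂le E hSE
  have hEE₂ : E ≤ Subgroup.normalizer (E₂ : Set G) := by
    intro e he
    apply BG9.mem_normalizer_of_cj_le
    have h1 : E₂ ≤ BG7.cj e⁻¹ E₂ := by
      apply hE₂le
      intro p hp
      have h2 := BG7.cj_mono (k := e⁻¹) (hSE₂ p hp)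
      rwa [BG7.cj_eq_of_mem_normalizer (Subgroup.inv_mem _ (hES p hp he))] at h2
    have h3 := BG7.cj_mono (k := e) h1
    rwa [BG9.cj_cj_inv] at h3
  have hScomm : ∀ (p : ℕ) (hp : p ∈ tau2 M) (q : ℕ) (hq : q ∈ tau2 M),
      S p hp ≤ Subgroup.centralizer (S q hq : Set G) := by
    intro p hp q hq x hx
    rw [Subgroup.mem_centralizer_iff]
    intro y hy
    by_cases hpq : p = q
    · subst hpq
      exact BGL.comm_of (hSab p hp) hy hx
    · exact (commute_of_normal_coprime (hSE p hp) (hSE q hq) (hES p hp) (hES q hq)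
        (hScop p hp q hq hpq) x hx y hy).symm
  have hE₂cent : E₂ ≤ Subgroup.centralizer (E₂ : Set G) := by
    apply hE₂le
    intro q hq
    rw [Subgroup.le_centralizer_iff]
    apply hE₂le
    intro p hp
    exact hScomm p hp q hq
  have hE₂comm : ∀ x ∈ E₂, ∀ y ∈ E₂, x * y = y * x := by
    intro x hx y hy
    exact Subgroup.mem_centralizer_iff.mp (hE₂cent hy) x hx
  have hE₂ord : ∀ x ∈ E₂, ∀ q : ℕ, q.Prime → q ∣ orderOf x → q ∈ tau2 M := by
    obtain ⟨T, hT⟩ : ∃ T : Subgroup G, ∀ x : G, x ∈ T ↔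
        x ∈ E₂ ∧ ∀ q : ℕ, q.Prime → q ∣ orderOf x → q ∈ tau2 M := by
      refine ⟨{ carrier := {x | x ∈ E₂ ∧ ∀ q : ℕ, q.Prime → q ∣ orderOf x → q ∈ tau2 M}
                mul_mem' := ?_
                one_mem' := ?_
                inv_mem' := ?_ }, fun x => Iff.rfl⟩
      · rintro x y ⟨hx, hx'⟩ ⟨hy, hy'⟩
        refine ⟨E₂.mul_mem hx hy, fun q hq hqd => ?_⟩
        have hxy : Commute x y := hE₂comm x hx y hy
        have h1 := hqd.trans hxy.orderOf_mul_dvd_lcm
        have h2 := h1.trans (Nat.lcm_dvd_mul _ _)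
        rcases (Nat.Prime.dvd_mul hq).mp h2 with h3 | h3
        · exact hx' q hq h3
        · exact hy' q hq h3
      · refine ⟨E₂.one_mem, fun q hq hqd => ?_⟩
        rw [orderOf_one] at hqd
        exact absurd (Nat.dvd_one.mp hqd) hq.one_lt.ne'
      · rintro x ⟨hx, hx'⟩
        refine ⟨E₂.inv_mem hx, fun q hq hqd => ?_⟩
        rw [orderOf_inv] at hqd
        exact hx' q hq hqd
    have hle : E₂ ≤ T := by
      apply hE₂le
      intro p hp x hx
      refine (hT x).mpr ⟨hSE₂ p hp hx, fun q hq hqd => ?_⟩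
      haveI : Fact p.Prime := ⟨hp.1⟩
      obtain ⟨j, hj⟩ := (IsPGroup.iff_orderOf.mp (hS p hp).2.1) ⟨x, hx⟩
      rw [Subgroup.orderOf_mk] at hj
      rw [hj] at hqd
      have : q = p := (Nat.prime_dvd_prime_iff_eq hq hp.1).mp (hq.dvd_of_dvd_pow hqd)
      rw [this]; exact hp
    intro x hx
    exact ((hT x).mp (hle hx)).2
  have hcardE₂ : ∀ q : ℕ, q.Prime → q ∣ Nat.card E₂ → q ∈ tau2 M := by
    intro q hq hqd
    haveI : Fact q.Prime := ⟨hq⟩
    obtain ⟨x, hx⟩ := exists_prime_orderOf_dvd_card' q hqd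
    refine hE₂ord (x : G) x.2 q hq ?_
    rw [Subgroup.orderOf_coe, hx]
  have hcop : (Nat.card E₂).Coprime (E₂.relIndex E) := by
    apply Nat.coprime_of_dvd
    intro q hq hqd hqr
    have hqτ := hcardE₂ q hq hqd
    haveI : Fact q.Prime := ⟨hq⟩
    apply (hS q hqτ).not_dvd_index
    rw [← Subgroup.relIndex_mul_index (hSE q hqτ),
      ← Subgroup.relIndex_mul_relIndex _ _ _ (hSE₂ q hqτ) hE₂E]
    exact Dvd.dvd.mul_right (Dvd.dvd.mul_left hqr _) _
  obtain ⟨H₀, hH₀E, hH₀E₂, hsup, hH₀card⟩ := exists_relative_complement E₂ E hE₂E hEE₂ hcop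
  have hEM : E ≤ M := hE.1
  refine ⟨⟨E₂, hE₂E, hEE₂,
    isMulCommutative_iff.mpr (fun a b => Subtype.ext (hE₂comm a a.2 b b.2)), ?_⟩, ?_⟩
  · intro x hxσ hx1 y hy
    obtain ⟨hyE, hyC⟩ := Subgroup.mem_inf.mp hy
    apply HallD.mem_of_primePow_mem E₂ (orderOf y) y rfl
    rintro z hz ⟨r, k, hr, hzk⟩
    have hzE : z ∈ E := (Subgroup.zpowers_le.mpr hyE) hz
    have hzC : z ∈ Subgroup.centralizer ({x} : Set G) := (Subgroup.zpowers_le.mpr hyC) hz
    by_cases hz1 : z = 1
    · rw [hz1]; exact E₂.one_mem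
    have hk0 : k ≠ 0 := by
      rintro rfl
      rw [pow_zero, orderOf_eq_one_iff] at hzk
      exact hz1 hzk
    have hrdvd : r ∣ Nat.card E := by
      have h1 : r ∣ orderOf z := by rw [hzk]; exact dvd_pow_self r hk0
      exact h1.trans (Subgroup.orderOf_dvd_natCard E hzE)
    rcases tau_cases hG hM hE hr hrdvd with hτ | hτ
    · exfalso
      have h1 := hH z hzE hz1 (fun q hq hqd => by
        rw [hzk] at hqd
        have : q = r := (Nat.prime_dvd_prime_iff_eq hq hr).mp (hq.dvd_of_dvd_pow hqd)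
        rw [this]; exact hτ)
      have h2 : x ∈ sigmaCore M ⊓ Subgroup.centralizer ({z} : Set G) := by
        refine Subgroup.mem_inf.mpr ⟨hxσ, ?_⟩
        rw [Subgroup.mem_centralizer_iff]
        intro t ht
        rw [Set.mem_singleton_iff] at ht
        rw [ht]
        exact (Subgroup.mem_centralizer_iff.mp hzC x rfl).symm
      rw [h1, Subgroup.mem_bot] at h2
      exact hx1 h2
    · exact hSE₂ r hτ (hmemS r hτ z hzE k hzk)
  · -- the subgroup `E₀`
    obtain ⟨C₀, hC₀⟩ : ∃ C₀ : Subgroup G, ∀ x : G, x ∈ C₀ ↔ x ∈ E₂ ∧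
        ∀ (p : ℕ) (hp : p ∈ tau2 M),
          x ^ (S p hp).relIndex E ∈ Subgroup.zpowers (c p hp) := by
      refine ⟨{ carrier := {x | x ∈ E₂ ∧ ∀ (p : ℕ) (hp : p ∈ tau2 M),
                  x ^ (S p hp).relIndex E ∈ Subgroup.zpowers (c p hp)}
                mul_mem' := ?_
                one_mem' := ?_
                inv_mem' := ?_ }, fun x => Iff.rfl⟩
      · rintro x y ⟨hx, hx'⟩ ⟨hy, hy'⟩
        refine ⟨E₂.mul_mem hx hy, fun p hp => ?_⟩
        have hxy : Commute x y := hE₂comm x hx y hy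
        rw [hxy.mul_pow]
        exact Subgroup.mul_mem _ (hx' p hp) (hy' p hp)
      · exact ⟨E₂.one_mem, fun p hp => by rw [one_pow]; exact Subgroup.one_mem _⟩
      · rintro x ⟨hx, hx'⟩
        refine ⟨E₂.inv_mem hx, fun p hp => ?_⟩
        rw [inv_pow]
        exact Subgroup.inv_mem _ (hx' p hp)
    have hC₀E₂ : C₀ ≤ E₂ := fun x hx => ((hC₀ x).mp hx).1
    have hndvd : ∀ (p : ℕ) (hp : p ∈ tau2 M), ¬ p ∣ (S p hp).relIndex E := by
      intro p hp h
      haveI : Fact p.Prime := ⟨hp.1⟩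
      apply (hS p hp).not_dvd_index
      rw [← Subgroup.relIndex_mul_index (hSE p hp)]
      exact Dvd.dvd.mul_right h _
    have hcC₀ : ∀ (p : ℕ) (hp : p ∈ tau2 M), c p hp ∈ C₀ := by
      intro p hp
      refine (hC₀ _).mpr ⟨hSE₂ p hp (hcS p hp), fun q hq => ?_⟩
      by_cases hpq : p = q
      · subst hpq
        exact Subgroup.pow_mem _ (Subgroup.mem_zpowers _) _
      · have h1 : c p hp ^ (S q hq).relIndex E = 1 := by
          apply orderOf_dvd_iff_pow_eq_one.mp
          have h2 : orderOf (c p hp) ∣ Nat.card (S q hq) * (S q hq).relIndex E := by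
            have h3 : Nat.card (S q hq) * (S q hq).relIndex E = Nat.card E := by
              rw [← card_subgroupOf_of_le (hSE q hq)]
              exact Subgroup.card_mul_index ((S q hq).subgroupOf E)
            rw [h3]
            exact Subgroup.orderOf_dvd_natCard E (hSE p hp (hcS p hp))
          have h4 : (orderOf (c p hp)).Coprime (Nat.card (S q hq)) :=
            Nat.Coprime.coprime_dvd_left (Subgroup.orderOf_dvd_natCard _ (hcS p hp))
              (hScop p hp q hq hpq)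
          exact h4.dvd_of_dvd_mul_left h2
        rw [h1]; exact Subgroup.one_mem _
    have hEC₀ : E ≤ Subgroup.normalizer (C₀ : Set G) := by
      intro e he
      apply BG9.mem_normalizer_of_cj_le
      intro y hy
      rw [BG7.mem_cj] at hy
      obtain ⟨hy1, hy2⟩ := (hC₀ _).mp hy
      refine (hC₀ y).mpr ⟨?_, fun p hp => ?_⟩
      · have h1 := (Subgroup.mem_normalizer_iff.mp (hEE₂ he) (e⁻¹ * y * e)).mp hy1
        have h2 : e * (e⁻¹ * y * e) * e⁻¹ = y := by group
        rwa [h2] at h1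
      · have h1 := (Subgroup.mem_normalizer_iff.mp (hEc p hp he) _).mp (hy2 p hp)
        have h2 : e * (e⁻¹ * y * e) ^ (S p hp).relIndex E * e⁻¹ = y ^ (S p hp).relIndex E := by
          rw [← conj_pow]
          congr 1
          group
        rwa [h2] at h1
    have hH₀C₀ : H₀ ≤ Subgroup.normalizer (C₀ : Set G) := hH₀E.trans hEC₀
    obtain ⟨E₀, hE₀def⟩ : ∃ E₀ : Subgroup G, E₀ = C₀ ⊔ H₀ := ⟨_, rfl⟩
    have hC₀E₀ : C₀ ≤ E₀ := by rw [hE₀def]; exact le_sup_left
    have hH₀E₀ : H₀ ≤ E₀ := by rw [hE₀def]; exact le_sup_right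
    have hE₀E : E₀ ≤ E := by rw [hE₀def]; exact sup_le (hC₀E₂.trans hE₂E) hH₀E
    have hdecomp : ∀ e ∈ E₀, ∃ x ∈ C₀, ∃ h ∈ H₀, x * h = e := by
      intro e he
      rw [hE₀def] at he
      have h1 : e ∈ ((C₀ ⊔ H₀ : Subgroup G) : Set G) := he
      rw [Subgroup.coe_mul_of_right_le_normalizer_left C₀ H₀ hH₀C₀] at h1
      exact Set.mem_mul.mp h1
    have hdecompE : ∀ e ∈ E, ∃ x ∈ E₂, ∃ h ∈ H₀, x * h = e := by
      intro e he
      rw [← hsup] at he
      have h1 : e ∈ ((E₂ ⊔ H₀ : Subgroup G) : Set G) := he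
      rw [Subgroup.coe_mul_of_right_le_normalizer_left E₂ H₀ (hH₀E.trans hEE₂)] at h1
      exact Set.mem_mul.mp h1
    have hexpE₀ : ∀ y ∈ E₀, orderOf y ∣ Monoid.exponent ↥E₀ := by
      intro y hy
      have := Monoid.order_dvd_exponent (⟨y, hy⟩ : ↥E₀)
      rwa [Subgroup.orderOf_mk] at this
    refine ⟨E₀, hE₀E, ?_, ?_⟩
    · apply Nat.dvd_antisymm
      · apply Monoid.exponent_dvd_of_forall_pow_eq_one
        intro g
        apply Subtype.ext
        have h1 := Monoid.pow_exponent_eq_one (⟨(g : G), hE₀E g.2⟩ : ↥E)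
        have h2 := congrArg (fun t : ↥E => (t : G)) h1
        simpa using h2
      · apply Monoid.exponent_dvd_of_forall_pow_eq_one
        intro g
        apply Subtype.ext
        rw [Subgroup.coe_pow, Subgroup.coe_one]
        apply orderOf_dvd_iff_pow_eq_one.mp
        rw [Nat.dvd_iff_prime_pow_dvd_dvd]
        intro q k hq hqk
        by_cases hk0 : k = 0
        · rw [hk0, pow_zero]; exact one_dvd _
        have hg0 : orderOf (g : G) ≠ 0 := (orderOf_pos _).ne'
        obtain ⟨e₁, he₁def⟩ : ∃ e₁ : G, e₁ = (g : G) ^ (orderOf (g : G) / q ^ k) := ⟨_, rfl⟩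
        have he₁ord : orderOf e₁ = q ^ k := by
          rw [he₁def]; exact orderOf_pow_orderOf_div hg0 hqk
        have he₁E : e₁ ∈ E := by rw [he₁def]; exact E.pow_mem g.2 _
        have hqdvd : q ∣ Nat.card E := by
          have h1 : q ∣ orderOf e₁ := by rw [he₁ord]; exact dvd_pow_self q hk0
          exact h1.trans (Subgroup.orderOf_dvd_natCard E he₁E)
        rcases tau_cases hG hM hE hq hqdvd with hτ | hτ
        · obtain ⟨x, hx, h, hh, hxh⟩ := hdecompE e₁ he₁E
          have hcop1 : (Nat.card E₂).Coprime (orderOf e₁) := by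
            rw [he₁ord]
            apply Nat.Coprime.pow_right
            apply Nat.Coprime.symm
            rw [Nat.Prime.coprime_iff_not_dvd hq]
            intro hqd
            exact not_tau2_of_tau13 hτ (hcardE₂ q hq hqd)
          have h1 := orderOf_eq_of_mul hEE₂ (by rw [inf_comm]; exact hH₀E₂) hH₀E hx hh hxh hcop1
          rw [← he₁ord, ← h1]
          exact hexpE₀ h (hH₀E₀ hh)
        · have he₁S := hmemS q hτ e₁ he₁E k he₁ord
          have h1 : orderOf e₁ ∣ orderOf (c q hτ) :=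
            orderOf_dvd_iff_pow_eq_one.mpr (hcexp q hτ e₁ he₁S)
          rw [← he₁ord]
          exact h1.trans (hexpE₀ _ (hC₀E₀ (hcC₀ q hτ)))
    · apply regular_of_prime
      intro e he q hq heq
      have heE := hE₀E he
      have he1 : e ≠ 1 := by
        rintro rfl
        rw [orderOf_one] at heq
        exact hq.one_lt.ne heq
      have hqdvd : q ∣ Nat.card E := by
        rw [← heq]; exact Subgroup.orderOf_dvd_natCard E heE
      rcases tau_cases hG hM hE hq hqdvd with hτ | hτ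
      · apply hH e heE he1
        intro q' hq' hq'd
        rw [heq] at hq'd
        have : q' = q := (Nat.prime_dvd_prime_iff_eq hq' hq).mp hq'd
        rw [this]; exact hτ
      · have heS : e ∈ S q hτ := hmemS q hτ e heE 1 (by rw [heq, pow_one])
        obtain ⟨x, hx, h, hh, hxh⟩ := hdecomp e he
        have hhE₂ : h ∈ E₂ := by
          have h3 : h = x⁻¹ * e := by rw [← hxh]; group
          rw [h3]
          exact E₂.mul_mem (E₂.inv_mem (hC₀E₂ hx)) (hSE₂ q hτ heS)
        have hh1 : h = 1 := by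
          have h3 : h ∈ H₀ ⊓ E₂ := Subgroup.mem_inf.mpr ⟨hh, hhE₂⟩
          rw [hH₀E₂, Subgroup.mem_bot] at h3
          exact h3
        rw [hh1, mul_one] at hxh
        rw [hxh] at hx
        have h1 := ((hC₀ e).mp hx).2 q hτ
        have hcop' : ((S q hτ).relIndex E).Coprime (orderOf e) := by
          rw [heq]
          exact Nat.Coprime.symm ((Nat.Prime.coprime_iff_not_dvd hq).mpr (hndvd q hτ))
        obtain ⟨u, hu⟩ := exists_pow_eq_self_of_coprime hcop'
        have hez : e ∈ Subgroup.zpowers (c q hτ) := by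
          rw [← hu]; exact Subgroup.pow_mem _ h1 u
        exact hcreg q hτ e hez heq

end Cfsg.Agent.Lib.Helper2.BGJ
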