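import Mathlib
import Cfsg.Agent.Lib.Helper2.BGJ6
import Cfsg.Agent.Lib.Helper1.Gaschutz2
import Cfsg.Agent.Lib.Helper1.FrattiniP
import Cfsg.Agent.S1420

set_option autoImplicit false
set_option maxHeartbeats 4000000
set_option linter.unusedVariables false
set_option linter.unusedSectionVars false
set_option linter.style.longLine false
set_option linter.unusedSimpArgs false
set_option linter.style.haveILetI false
set_option linter.deprecated false

/-!
# B&G 12.10(e) (S1421): the case of a nonabelian Sylow `p`-subgroup, `p ∈ τ₂(M)`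

* `no_sqrt`: `X₁ = C_A(M_σ)` is normal in `M` and no nontrivial element of `X₁` is a `p`-th power
  of an element of `M`.
* `exists_complement_of_no_sqrt`: then `X₁` has a complement in `E` (Gaschütz).
* `case1`: the conclusion of S1421 in this case.
-/

open scoped commutatorElement Pointwise
universe u
namespace Cfsg.Agent.Lib.Helper2.BGJ

open Cfsg Cfsg.Agent.Lib.Helper1 Cfsg.Agent.Lib.Helper7 Cfsg.Agent.Lib.Helper7.BGRows
open Cfsg.Agent.Lib.Lead Cfsg.Agent.Lib.Helper2.BGH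

variable {G : Type u} [Group G] [Finite G]

theorem no_sqrt (hG : IsMinSimpleOddOrder G) {M : Subgroup G} (hM : IsCoatom M)
    {E : Subgroup G} (hE : IsComplIn E (sigmaCore M) M) {p : ℕ} [hp : Fact p.Prime]
    (hpτ : p ∈ tau2 M) (hSna : ∀ S : Sylow p G, ¬ IsMulCommutative (S : Subgroup G))
    {A : Subgroup G} (hAE : A ≤ E) (hA : IsElementaryAbelian p A) (hA2 : Nat.card A = p ^ 2) :
    M ≤ Subgroup.normalizer
        ((A ⊓ Subgroup.centralizer (sigmaCore M : Set G) : Subgroup G) : Set G) ∧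
      ∀ w ∈ M, w ^ p ∈ A ⊓ Subgroup.centralizer (sigmaCore M : Set G) → w ^ p = 1 := by
  have hpp := hp.out
  have hEM : E ≤ M := hE.1
  have hAM : A ≤ M := hAE.trans hEM
  have hpσ : p ∉ sigma M := hpτ.2.1
  obtain ⟨P, S, s, Z₀, X₁', hAP, hPS, hsS, hsNA, hsM, hsCA, hZA, hZp, hZs, hX₁'A, hX₁'p, hX₁'Z,
    hle, hpart, hcommZ⟩ := s1419_struct hG hM hE hpτ hSna hAE hA hA2
  obtain ⟨hτ, ⟨hX₁p, -⟩, hreg⟩ := s1419_of hG M hM E hE p hpτ hSna A ⟨hAE, hA, hA2⟩
  obtain ⟨⟨hENA, hline⟩, -, -⟩ := row1418 hG M hM E hE p hpτ A ⟨hAE, hA, hA2⟩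
  have hσM : sigmaCore M ≤ M := BG7.piCoreOf_le _ _
  have hMσ : M ≤ Subgroup.normalizer (sigmaCore M : Set G) := BG7.le_normalizer_piCoreOf _ _
  obtain ⟨X₁, hX₁def⟩ : ∃ X₁ : Subgroup G,
      X₁ = A ⊓ Subgroup.centralizer (sigmaCore M : Set G) := ⟨_, rfl⟩
  rw [← hX₁def] at hX₁p ⊢
  have hX₁A : X₁ ≤ A := by rw [hX₁def]; exact inf_le_left
  have hX₁C : X₁ ≤ Subgroup.centralizer (sigmaCore M : Set G) := by
    rw [hX₁def]; exact inf_le_right
  have hMsup : M ≤ E ⊔ sigmaCore M := by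
    intro m hm
    obtain ⟨e, he, y, hy, rfl⟩ := hE.2.2.2 m hm
    exact Subgroup.mul_mem_sup he hy
  have hMX₁ : M ≤ Subgroup.normalizer (X₁ : Set G) := by
    refine hMsup.trans (sup_le ?_ ?_)
    · rw [hX₁def]
      apply le_normalizer_inf hENA
      exact (hEM.trans hMσ).trans (BG7.normalizer_le_normalizer_centralizer_self _)
    · exact (Subgroup.le_centralizer_iff.mp hX₁C).trans (Subgroup.centralizer_le_normalizer _)
  refine ⟨hMX₁, ?_⟩
  have hXX : X₁' = X₁ := by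
    apply Subgroup.eq_of_le_of_card_ge
    · rw [hX₁def]; exact le_inf hX₁'A (Subgroup.le_centralizer_iff.mp hle)
    · rw [hX₁p, hX₁'p]
  intro w hwM hwX
  by_contra hwp1
  have hwpA : w ^ p ∈ A := hX₁A hwX
  have hwpp : w ^ (p * p) = 1 := by rw [pow_mul]; exact hA.2 _ hwpA
  have hWp : IsPGroup p (Subgroup.zpowers w) := by
    have h1 : orderOf w ∣ p ^ 2 := by rw [pow_two]; exact orderOf_dvd_of_pow_eq_one hwpp
    obtain ⟨i, -, hi⟩ := (Nat.dvd_prime_pow hpp).mp h1
    exact IsPGroup.of_card (n := i) (by rw [Nat.card_zpowers, hi])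
  obtain ⟨P', hWP'⟩ := BGD.exists_sylow_ge hWp (Subgroup.zpowers_le.mpr hwM)
  obtain ⟨n, hnM, hn⟩ := BT.isMaxP_conj (BG8.isMaxP_of_sylow P') (BG8.isMaxP_of_sylow P)
  obtain ⟨w', hw'def⟩ : ∃ w' : G, w' = n * w * n⁻¹ := ⟨_, rfl⟩
  have hw'P : w' ∈ (P : Subgroup M).map M.subtype := by
    rw [hn, BG7.mem_cj, hw'def]
    have h1 : n⁻¹ * (n * w * n⁻¹) * n = w := by group
    rw [h1]; exact hWP' (Subgroup.mem_zpowers w)
  have hw'S : w' ∈ (S : Subgroup G) := hPS hw'P
  have hw'p : w' ^ p = n * w ^ p * n⁻¹ := by rw [hw'def, conj_pow]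
  have hw'pX : w' ^ p ∈ X₁ := by
    rw [hw'p]; exact (Subgroup.mem_normalizer_iff.mp (hMX₁ hnM) _).mp hwX
  have hw'p1 : w' ^ p ≠ 1 := by
    rw [hw'p]
    intro h1
    exact hwp1 (conj_eq_one_iff.mp h1)
  have hmax := (Cfsg.Agent.S1408.result hG M hM p hpσ hpτ.2.2.1 hpτ.2.2.2).2 A hAM hA hA2
  have hAS : A ≤ (S : Subgroup G) := hAP.trans hPS
  have hcen := pow_central hG S (hSna S) hAS hA hA2 hmax w' hw'S (hX₁A hw'pX) s hsS
  have hYp : Nat.card (Subgroup.zpowers (w' ^ p)) = p := by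
    rw [Nat.card_zpowers]; exact orderOf_eq_prime (hA.2 _ (hX₁A hw'pX)) hw'p1
  have hYX : Subgroup.zpowers (w' ^ p) ≤ X₁ := Subgroup.zpowers_le.mpr hw'pX
  have hYs : ∀ y ∈ Subgroup.zpowers (w' ^ p), y * s = s * y := by
    intro y hy
    obtain ⟨j, rfl⟩ := Subgroup.mem_zpowers_iff.mp hy
    exact ((show Commute s (w' ^ p) from hcen).zpow_right j).eq.symm
  have hYZ := hcommZ _ (hYX.trans hX₁A) hYp hYs
  have hYX' : Subgroup.zpowers (w' ^ p) = X₁ :=
    Subgroup.eq_of_le_of_card_ge hYX (by rw [hX₁p, hYp])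
  apply hX₁'Z
  rw [hXX, ← hYX', hYZ]

/-- a normal subgroup of order `p`, none of whose nontrivial elements is a `p`-th power in an
abelian Sylow `p`-subgroup, has a complement -/
theorem exists_complement_of_no_sqrt {p : ℕ} [hp : Fact p.Prime] {E X₁ P₀ : Subgroup G}
    (hX₁p : Nat.card X₁ = p) (hX₁P : X₁ ≤ P₀) (hP₀E : P₀ ≤ E) (hP₀p : IsPGroup p P₀)
    (hP₀ab : IsMulCommutative ↥P₀) (hnd : ¬ p ∣ P₀.relIndex E)
    (hEX₁ : E ≤ Subgroup.normalizer (X₁ : Set G))
    (hQ : ∀ w ∈ P₀, w ^ p ∈ X₁ → w ^ p = 1) :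
    ∃ E₀ : Subgroup G, E₀ ≤ E ∧ X₁ ⊓ E₀ = ⊥ ∧ ∀ e ∈ E, ∃ x ∈ X₁, ∃ h ∈ E₀, x * h = e := by
  classical
  have hpp := hp.out
  obtain ⟨x₁, hx₁X, hx₁1, hzx⟩ := exists_gen hX₁p
  have hx₁P : x₁ ∈ P₀ := hX₁P hx₁X
  -- the subgroup of `p`-th powers
  obtain ⟨Fr, hFr⟩ : ∃ Fr : Subgroup G, ∀ x : G, x ∈ Fr ↔ ∃ s ∈ P₀, s ^ p = x := by
    refine ⟨{ carrier := {x | ∃ s ∈ P₀, s ^ p = x}
              mul_mem' := ?_
              one_mem' := ?_
              inv_mem' := ?_ }, fun x => Iff.rfl⟩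
    · rintro x y ⟨s, hs, rfl⟩ ⟨t, ht, rfl⟩
      refine ⟨s * t, P₀.mul_mem hs ht, ?_⟩
      have hst : Commute s t := BGL.comm_of hP₀ab hs ht
      exact hst.mul_pow _
    · exact ⟨1, P₀.one_mem, one_pow _⟩
    · rintro x ⟨s, hs, rfl⟩
      exact ⟨s⁻¹, P₀.inv_mem hs, inv_pow _ _⟩
  have hcomm : commutator ↥P₀ ≤ Fr.subgroupOf P₀ := by
    rw [commutator_def, Subgroup.commutator_le]
    intro a _ b _
    have h1 : ⁅a, b⁆ = 1 := commutatorElement_eq_one_iff_mul_comm.mpr (mul_comm' a b)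
    rw [h1]; exact Subgroup.one_mem _
  have hpow : ∀ x : ↥P₀, x ^ p ∈ Fr.subgroupOf P₀ := by
    intro x
    rw [Subgroup.mem_subgroupOf, Subgroup.coe_pow]
    exact (hFr _).mpr ⟨(x : G), x.2, rfl⟩
  have hxN : (⟨x₁, hx₁P⟩ : ↥P₀) ∉ Fr.subgroupOf P₀ := by
    intro h
    rw [Subgroup.mem_subgroupOf] at h
    obtain ⟨y, hy, hyx⟩ := (hFr _).mp h
    have hyx' : y ^ p = x₁ := hyx
    have h1 := hQ y hy (by rw [hyx']; exact hx₁X)
    rw [hyx'] at h1
    exact hx₁1 h1
  obtain ⟨M', hM'co, hNM', hxM'⟩ :=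
    exists_coatom_not_mem p (Fr.subgroupOf P₀) hcomm hpow ⟨x₁, hx₁P⟩ hxN
  have hM'idx : M'.index = p := index_eq_prime_of_isCoatom p hP₀p M' hM'co
  obtain ⟨C₀, hC₀def⟩ : ∃ C₀ : Subgroup G, C₀ = M'.map P₀.subtype := ⟨_, rfl⟩
  have hC₀P : C₀ ≤ P₀ := by rw [hC₀def]; exact Subgroup.map_subtype_le _
  have hx₁C₀ : x₁ ∉ C₀ := by
    rw [hC₀def]
    rintro ⟨y, hy, hyx⟩
    apply hxM'
    have : y = ⟨x₁, hx₁P⟩ := Subtype.ext hyx
    rw [← this]; exact hy
  have hinf : X₁ ⊓ C₀ = ⊥ := by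
    rw [eq_bot_iff]
    intro y hy
    obtain ⟨hy1, hy2⟩ := Subgroup.mem_inf.mp hy
    rw [Subgroup.mem_bot]
    by_contra hy0
    have h1 : Subgroup.zpowers y = X₁ := BK.zpowers_eq_of_card_prime hX₁p hy1 hy0
    apply hx₁C₀
    have h2 : x₁ ∈ Subgroup.zpowers y := by rw [h1]; exact hx₁X
    exact (Subgroup.zpowers_le.mpr hy2) h2
  have hrel : C₀.relIndex P₀ = p := by
    rw [hC₀def]
    show (Subgroup.comap P₀.subtype (Subgroup.map P₀.subtype M')).index = p
    rw [Subgroup.comap_map_eq_self_of_injective (Subgroup.subtype_injective _)]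
    exact hM'idx
  have hsupP : X₁ ⊔ C₀ = P₀ := by
    apply le_antisymm (sup_le hX₁P hC₀P)
    have h1 := Subgroup.relIndex_mul_relIndex C₀ (X₁ ⊔ C₀) P₀ le_sup_right (sup_le hX₁P hC₀P)
    rw [hrel] at h1
    rcases hpp.eq_one_or_self_of_dvd _ (Dvd.intro _ h1) with h2 | h2
    · exfalso
      apply hx₁C₀
      exact (Subgroup.relIndex_eq_one.mp h2) ((le_sup_left : X₁ ≤ X₁ ⊔ C₀) hx₁X)
    · rw [h2] at h1
      have h3 : (X₁ ⊔ C₀).relIndex P₀ = 1 :=
        Nat.eq_of_mul_eq_mul_left hpp.pos (h1.trans (mul_one p).symm)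
      exact Subgroup.relIndex_eq_one.mp h3
  -- Gaschütz in `E`
  have hX₁E : X₁ ≤ E := hX₁P.trans hP₀E
  haveI hKn : (X₁.subgroupOf E).Normal :=
    (Subgroup.normal_subgroupOf_iff_le_normalizer hX₁E).mpr hEX₁
  haveI hKab : IsMulCommutative ↥(X₁.subgroupOf E) := by
    refine isMulCommutative_iff.mpr (fun a b => Subtype.ext (Subtype.ext ?_))
    exact BGL.comm_of hP₀ab (hX₁P (Subgroup.mem_subgroupOf.mp a.2))
      (hX₁P (Subgroup.mem_subgroupOf.mp b.2))
  have hcopK : (Nat.card (X₁.subgroupOf E)).Coprime (P₀.subgroupOf E).index := by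
    rw [card_subgroupOf_of_le hX₁E, hX₁p]
    exact (Nat.Prime.coprime_iff_not_dvd hpp).mpr hnd
  have hAK : C₀.subgroupOf E ⊓ X₁.subgroupOf E = ⊥ := by
    rw [eq_bot_iff]
    rintro y ⟨hy1, hy2⟩
    have h1 : (y : G) ∈ X₁ ⊓ C₀ :=
      Subgroup.mem_inf.mpr ⟨Subgroup.mem_subgroupOf.mp hy2, Subgroup.mem_subgroupOf.mp hy1⟩
    rw [hinf, Subgroup.mem_bot] at h1
    rw [Subgroup.mem_bot]
    exact Subtype.ext h1
  have hU : X₁.subgroupOf E ⊔ C₀.subgroupOf E = P₀.subgroupOf E := by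
    rw [← Subgroup.subgroupOf_sup hX₁E (hC₀P.trans hP₀E), hsupP]
  obtain ⟨H, hH⟩ := Gaschutz.gaschutz_exists (K := X₁.subgroupOf E) (A := C₀.subgroupOf E)
    (P₀.subgroupOf E) hcopK hAK hU
  refine ⟨H.map E.subtype, Subgroup.map_subtype_le _, ?_, ?_⟩
  · rw [eq_bot_iff]
    rintro y ⟨hy1, ⟨h, hh, hhy⟩⟩
    have hhy' : (h : G) = y := hhy
    have h1 : h ∈ X₁.subgroupOf E ⊓ H := by
      refine Subgroup.mem_inf.mpr ⟨?_, hh⟩
      rw [Subgroup.mem_subgroupOf, hhy']; exact hy1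
    rw [hH.disjoint.eq_bot, Subgroup.mem_bot] at h1
    rw [Subgroup.mem_bot, ← hhy', h1]; rfl
  · intro e he
    obtain ⟨⟨k, h⟩, hkh⟩ := hH.2 (⟨e, he⟩ : ↥E)
    refine ⟨((k : ↥E) : G), Subgroup.mem_subgroupOf.mp k.2, ((h : ↥E) : G),
      ⟨(h : ↥E), h.2, rfl⟩, ?_⟩
    have := congrArg (fun t : ↥E => (t : G)) hkh
    simpa using this

/-- S1421 when some `p ∈ τ₂(M)` has nonabelian Sylow `p`-subgroups -/
theorem case1 (hG : IsMinSimpleOddOrder G) {M : Subgroup G} (hM : IsCoatom M)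
    {E : Subgroup G} (hE : IsComplIn E (sigmaCore M) M)
    (hH : ∀ e ∈ E, e ≠ 1 → (∀ q : ℕ, q.Prime → q ∣ orderOf e → q ∈ tau1 M ∪ tau3 M) →
      sigmaCore M ⊓ Subgroup.centralizer ({e} : Set G) = ⊥)
    {p : ℕ} [hp : Fact p.Prime] (hpτ : p ∈ tau2 M)
    (hSna : ∀ S : Sylow p G, ¬ IsMulCommutative (S : Subgroup G)) :
    (∃ A₀ : Subgroup G, A₀ ≤ E ∧ E ≤ Subgroup.normalizer (A₀ : Set G) ∧ IsMulCommutative A₀ ∧
        ∀ x ∈ sigmaCore M, x ≠ 1 → E ⊓ Subgroup.centralizer ({x} : Set G) ≤ A₀) ∧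
      ∃ E₀ : Subgroup G, E₀ ≤ E ∧ Monoid.exponent E₀ = Monoid.exponent E ∧
        ∀ e ∈ E₀, e ≠ 1 → sigmaCore M ⊓ Subgroup.centralizer ({e} : Set G) = ⊥ := by
  classical
  have hpp := hp.out
  have hEM : E ≤ M := hE.1
  have hpσ : p ∉ sigma M := hpτ.2.1
  obtain ⟨A, hAE, hA, hA2⟩ := exists_sq_le hG hM hE hpτ
  have hAM : A ≤ M := hAE.trans hEM
  obtain ⟨hMX₁, hQ⟩ := no_sqrt hG hM hE hpτ hSna hAE hA hA2
  obtain ⟨hτ, ⟨hX₁p, -⟩, hreg⟩ := s1419_of hG M hM E hE p hpτ hSna A ⟨hAE, hA, hA2⟩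
  obtain ⟨X₁, hX₁def⟩ : ∃ X₁ : Subgroup G,
      X₁ = A ⊓ Subgroup.centralizer (sigmaCore M : Set G) := ⟨_, rfl⟩
  rw [← hX₁def] at hX₁p hMX₁ hQ hreg
  have hX₁A : X₁ ≤ A := by rw [hX₁def]; exact inf_le_left
  have hX₁E : X₁ ≤ E := hX₁A.trans hAE
  have hEX₁ : E ≤ Subgroup.normalizer (X₁ : Set G) := hEM.trans hMX₁
  -- a singular subgroup of order `p` of `E` is `X₁`
  have hsingX : ∀ Y : Subgroup G, Y ≤ E → Nat.card Y = p → ∀ x ∈ sigmaCore M, x ≠ 1 →
      x ∈ Subgroup.centralizer (Y : Set G) → Y = X₁ := by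
    intro Y hYE hYp x hxσ hx1 hxC
    by_contra hne
    have h1 := (hreg Y hYE hYp hne).1
    have h2 : x ∈ sigmaCore M ⊓ Subgroup.centralizer (Y : Set G) := Subgroup.mem_inf.mpr ⟨hxσ, hxC⟩
    rw [h1, Subgroup.mem_bot] at h2
    exact hx1 h2
  have hcentz : ∀ (z x : G), z ∈ Subgroup.centralizer ({x} : Set G) → ∀ m : ℕ,
      x ∈ Subgroup.centralizer ((Subgroup.zpowers (z ^ m) : Subgroup G) : Set G) := by
    intro z x hz m
    rw [centralizer_zpowers, Subgroup.mem_centralizer_iff]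
    intro t ht
    rw [Set.mem_singleton_iff] at ht
    rw [ht]
    have h1 : Commute x z := Subgroup.mem_centralizer_iff.mp hz x rfl
    exact (h1.symm.pow_left m).eq
  refine ⟨⟨X₁, hX₁E, hEX₁, isMulCommutative_iff.mpr (fun a b => Subtype.ext
    (BGL.comm_of hA.1 (hX₁A a.2) (hX₁A b.2))), ?_⟩, ?_⟩
  · intro x hxσ hx1 y hy
    obtain ⟨hyE, hyC⟩ := Subgroup.mem_inf.mp hy
    apply HallD.mem_of_primePow_mem X₁ (orderOf y) y rfl
    rintro z hz ⟨r, k, hr, hzo⟩
    have hzE : z ∈ E := (Subgroup.zpowers_le.mpr hyE) hz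
    have hzC : z ∈ Subgroup.centralizer ({x} : Set G) := (Subgroup.zpowers_le.mpr hyC) hz
    by_cases hz1 : z = 1
    · rw [hz1]; exact X₁.one_mem
    have hk0 : k ≠ 0 := by
      rintro rfl
      rw [pow_zero, orderOf_eq_one_iff] at hzo
      exact hz1 hzo
    have hrdvd : r ∣ Nat.card E := by
      have h1 : r ∣ orderOf z := by rw [hzo]; exact dvd_pow_self r hk0
      exact h1.trans (Subgroup.orderOf_dvd_natCard E hzE)
    rcases tau_cases hG hM hE hr hrdvd with hτ' | hτ'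
    · exfalso
      have h1 := hH z hzE hz1 (fun q hq hqd => by
        rw [hzo] at hqd
        have : q = r := (Nat.prime_dvd_prime_iff_eq hq hr).mp (hq.dvd_of_dvd_pow hqd)
        rw [this]; exact hτ')
      have h2 : x ∈ sigmaCore M ⊓ Subgroup.centralizer ({z} : Set G) := by
        refine Subgroup.mem_inf.mpr ⟨hxσ, ?_⟩
        rw [Subgroup.mem_centralizer_iff]
        intro t ht
        rw [Set.mem_singleton_iff] at ht
        rw [ht]
        exact (Subgroup.mem_centralizer_iff.mp hzC x rfl).symm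
      rw [h1, Subgroup.mem_bot] at h2
      exact hx1 h2
    · rw [hτ, Set.mem_singleton_iff] at hτ'
      subst hτ'
      have hzp : z ^ r = 1 := by
        by_contra hzp
        have hk2 : 2 ≤ k := by
          by_contra hlt
          have hk1 : k = 1 := by omega
          apply hzp
          rw [hk1, pow_one] at hzo
          rw [← hzo]; exact pow_orderOf_eq_one z
        obtain ⟨w, hw⟩ : ∃ w : G, w = z ^ r ^ (k - 2) := ⟨_, rfl⟩
        have hwE : w ∈ E := by rw [hw]; exact Subgroup.pow_mem _ hzE _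
        have hrk2 : r ^ (k - 2) * (r * r) = r ^ k := by
          rw [← pow_two, ← pow_add]; congr 1; omega
        have hrk1 : r ^ (k - 2) * r = r ^ (k - 1) := by
          rw [← pow_succ]; congr 1; omega
        have hwpp : (w ^ r) ^ r = 1 := by
          rw [hw, ← pow_mul, ← pow_mul, hrk2, ← hzo]
          exact pow_orderOf_eq_one z
        have hwp1 : w ^ r ≠ 1 := by
          intro e1
          rw [hw, ← pow_mul, hrk1] at e1
          have h1 := orderOf_dvd_of_pow_eq_one e1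
          rw [hzo, Nat.pow_dvd_pow_iff_le_right hr.one_lt] at h1
          omega
        have hYp : Nat.card (Subgroup.zpowers (w ^ r)) = r := by
          rw [Nat.card_zpowers]; exact orderOf_eq_prime hwpp hwp1
        have hYE : Subgroup.zpowers (w ^ r) ≤ E := by
          rw [Subgroup.zpowers_le]; exact Subgroup.pow_mem _ hwE _
        have hxY : x ∈ Subgroup.centralizer
            ((Subgroup.zpowers (w ^ r) : Subgroup G) : Set G) := by
          have h1 : w ^ r = z ^ (r ^ (k - 2) * r) := by rw [hw, ← pow_mul]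
          rw [h1]; exact hcentz z x hzC _
        have hYX := hsingX _ hYE hYp x hxσ hx1 hxY
        have hwX : w ^ r ∈ X₁ := by rw [← hYX]; exact Subgroup.mem_zpowers _
        exact hwp1 (hQ w (hEM hwE) hwX)
      have hzp' : Nat.card (Subgroup.zpowers z) = r := by
        rw [Nat.card_zpowers]; exact orderOf_eq_prime hzp hz1
      have hxY : x ∈ Subgroup.centralizer ((Subgroup.zpowers z : Subgroup G) : Set G) := by
        have h1 := hcentz z x hzC 1
        rwa [pow_one] at h1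
      have hYX := hsingX _ (Subgroup.zpowers_le.mpr hzE) hzp' x hxσ hx1 hxY
      rw [← hYX]; exact Subgroup.mem_zpowers z
  · -- the complement `E₀`
    obtain ⟨P₀, hP₀max, hAP₀⟩ := BT.exists_isMaxP_ge (p := p)
      (BG9.isPGroup_of_isElementaryAbelian hA) hAE
    have hP₀E : P₀ ≤ E := hP₀max.1
    have hP₀p : IsPGroup p P₀ := hP₀max.2.1
    have hP₀ab : IsMulCommutative ↥P₀ := by
      refine (Cfsg.Agent.S1420.result hG M hM E hE).1 P₀ (hP₀E.trans hEM) hP₀p.isNilpotent ?_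
      intro q hq hqd
      obtain ⟨n, hn⟩ := IsPGroup.iff_card.mp hP₀p
      rw [hn] at hqd
      have : q = p := (Nat.prime_dvd_prime_iff_eq hq hpp).mp (hq.dvd_of_dvd_pow hqd)
      rw [this]; exact hpσ
    have hnd : ¬ p ∣ P₀.relIndex E := by
      obtain ⟨R, hR⟩ := hP₀max.exists_sylow
      have h1 : P₀.subgroupOf E = (R : Subgroup ↥E) := by
        rw [← hR]
        exact Subgroup.comap_map_eq_self_of_injective (Subgroup.subtype_injective _) _
      show ¬ p ∣ (P₀.subgroupOf E).index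
      rw [h1]
      exact R.not_dvd_index
    obtain ⟨E₀, hE₀E, hXE₀, hdec⟩ := exists_complement_of_no_sqrt hX₁p (hX₁A.trans hAP₀) hP₀E
      hP₀p hP₀ab hnd hEX₁ (fun w hw => hQ w (hEM (hP₀E hw)))
    have hexpE₀ : ∀ y ∈ E₀, orderOf y ∣ Monoid.exponent ↥E₀ := by
      intro y hy
      have := Monoid.order_dvd_exponent (⟨y, hy⟩ : ↥E₀)
      rwa [Subgroup.orderOf_mk] at this
    refine ⟨E₀, hE₀E, ?_, ?_⟩
    · apply Nat.dvd_antisymm
      · apply Monoid.exponent_dvd_of_forall_pow_eq_one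
        intro g
        apply Subtype.ext
        have h1 := Monoid.pow_exponent_eq_one (⟨(g : G), hE₀E g.2⟩ : ↥E)
        have h2 := congrArg (fun t : ↥E => (t : G)) h1
        simpa using h2
      · apply Monoid.exponent_dvd_of_forall_pow_eq_one
        intro g
        apply Subtype.ext
        rw [Subgroup.coe_pow, Subgroup.coe_one]
        apply orderOf_dvd_iff_pow_eq_one.mp
        rw [Nat.dvd_iff_prime_pow_dvd_dvd]
        intro q k hq hqk
        by_cases hk0 : k = 0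
        · rw [hk0, pow_zero]; exact one_dvd _
        have hg0 : orderOf (g : G) ≠ 0 := (orderOf_pos _).ne'
        obtain ⟨e₁, he₁def⟩ : ∃ e₁ : G, e₁ = (g : G) ^ (orderOf (g : G) / q ^ k) := ⟨_, rfl⟩
        have he₁ord : orderOf e₁ = q ^ k := by
          rw [he₁def]; exact orderOf_pow_orderOf_div hg0 hqk
        have he₁E : e₁ ∈ E := by rw [he₁def]; exact E.pow_mem g.2 _
        by_cases hqp : q = p
        · subst hqp
          by_cases hk1 : k = 1
          · -- an element of order `q` in `E₀`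
            have hnle : ¬ A ≤ X₁ := by
              intro hle
              have h1 := Subgroup.card_dvd_of_le hle
              rw [hA2, hX₁p] at h1
              have h2 := Nat.le_of_dvd hpp.pos h1
              have h3 := hpp.one_lt
              nlinarith
            obtain ⟨a, haA, haX⟩ := SetLike.not_le_iff_exists.mp hnle
            obtain ⟨x, hx, h, hh, hxh⟩ := hdec a (hAE haA)
            have hhA : h ∈ A := by
              have h3 : h = x⁻¹ * a := by rw [← hxh]; group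
              rw [h3]; exact A.mul_mem (A.inv_mem (hX₁A hx)) haA
            have hh1 : h ≠ 1 := by
              intro h3
              rw [h3, mul_one] at hxh
              exact haX (hxh ▸ hx)
            have hho : orderOf h = q := orderOf_eq_prime (hA.2 h hhA) hh1
            rw [hk1, pow_one, ← hho]
            exact hexpE₀ h hh
          · obtain ⟨j, rfl⟩ : ∃ j, k = j + 1 + 1 := ⟨k - 2, by omega⟩
            obtain ⟨x, hx, h, hh, hxh⟩ := hdec e₁ he₁E
            have hiff := pow_eq_one_iff_pow_mem hEX₁ hXE₀ hE₀E hx hh hxh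
            have h1 : h ^ q ^ (j + 1 + 1) = 1 := by
              rw [hiff, ← he₁ord, pow_orderOf_eq_one]; exact X₁.one_mem
            have h2 : ¬ h ^ q ^ (j + 1) = 1 := by
              intro h3
              have h4 : e₁ ^ q ^ (j + 1) ∈ X₁ := (hiff _).mp h3
              have h5 : (e₁ ^ q ^ j) ^ q = e₁ ^ q ^ (j + 1) := by rw [← pow_mul, ← pow_succ]
              have h6 := hQ (e₁ ^ q ^ j) (hEM (E.pow_mem he₁E _)) (by rw [h5]; exact h4)
              rw [h5] at h6
              have h7 := orderOf_dvd_of_pow_eq_one h6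
              rw [he₁ord, Nat.pow_dvd_pow_iff_le_right hpp.one_lt] at h7
              omega
            have hho : orderOf h = q ^ (j + 1 + 1) := orderOf_eq_prime_pow h2 h1
            rw [← hho]
            exact hexpE₀ h hh
        · obtain ⟨x, hx, h, hh, hxh⟩ := hdec e₁ he₁E
          have hcop1 : (Nat.card X₁).Coprime (orderOf e₁) := by
            rw [hX₁p, he₁ord]
            exact Nat.Coprime.pow_right k ((Nat.coprime_primes hpp hq).mpr (Ne.symm hqp))
          have h1 := orderOf_eq_of_mul hEX₁ hXE₀ hE₀E hx hh hxh hcop1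
          rw [← he₁ord, ← h1]
          exact hexpE₀ h hh
    · apply regular_of_prime
      intro e he q hq heq
      have heE := hE₀E he
      have he1 : e ≠ 1 := by
        rintro rfl
        rw [orderOf_one] at heq
        exact hq.one_lt.ne heq
      have hqdvd : q ∣ Nat.card E := by
        rw [← heq]; exact Subgroup.orderOf_dvd_natCard E heE
      rcases tau_cases hG hM hE hq hqdvd with hτ' | hτ'
      · apply hH e heE he1
        intro q' hq' hq'd
        rw [heq] at hq'd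
        have : q' = q := (Nat.prime_dvd_prime_iff_eq hq' hq).mp hq'd
        rw [this]; exact hτ'
      · rw [hτ, Set.mem_singleton_iff] at hτ'
        subst hτ'
        have hYp : Nat.card (Subgroup.zpowers e) = q := by rw [Nat.card_zpowers]; exact heq
        have hne : Subgroup.zpowers e ≠ X₁ := by
          intro h1
          have h2 : e ∈ X₁ ⊓ E₀ :=
            Subgroup.mem_inf.mpr ⟨h1 ▸ Subgroup.mem_zpowers e, he⟩
          rw [hXE₀, Subgroup.mem_bot] at h2
          exact he1 h2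
        have h3 := (hreg _ (Subgroup.zpowers_le.mpr heE) hYp hne).1
        rwa [centralizer_zpowers] at h3

end Cfsg.Agent.Lib.Helper2.BGJ
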