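import Mathlib
import Cfsg.Agent.Lib.Helper2.BGJ7

set_option autoImplicit false
set_option maxHeartbeats 4000000
set_option linter.unusedVariables false
set_option linter.unusedSectionVars false
set_option linter.style.longLine false
set_option linter.style.haveILetI false

/-!
# B&G 12.10(e) (S1421): assembly
-/

universe u
namespace Cfsg.Agent.Lib.Helper2.BGJ

open Cfsg Cfsg.Agent.Lib.Helper7.BGRows

variable {G : Type u} [Group G] [Finite G]

theorem s1421_of (hG : IsMinSimpleOddOrder G) (M : Subgroup G) (hM : IsCoatom M)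
    (E : Subgroup G) (hE : IsComplIn E (sigmaCore M) M)
    (h : ∀ e ∈ E, e ≠ 1 → (∀ p : ℕ, p.Prime → p ∣ orderOf e → p ∈ tau1 M ∪ tau3 M) →
      sigmaCore M ⊓ Subgroup.centralizer ({e} : Set G) = ⊥) :
    (∃ A₀ : Subgroup G, A₀ ≤ E ∧ E ≤ Subgroup.normalizer (A₀ : Set G) ∧ IsMulCommutative A₀ ∧
        ∀ x ∈ sigmaCore M, x ≠ 1 → E ⊓ Subgroup.centralizer ({x} : Set G) ≤ A₀) ∧
      ∃ E₀ : Subgroup G, E₀ ≤ E ∧ Monoid.exponent E₀ = Monoid.exponent E ∧
        ∀ e ∈ E₀, e ≠ 1 → sigmaCore M ⊓ Subgroup.centralizer ({e} : Set G) = ⊥ := by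
  by_cases hab : ∀ p : ℕ, p ∈ tau2 M → ∃ S : Sylow p G, IsMulCommutative (S : Subgroup G)
  · exact case2 hG hM hE h hab
  · have hex : ∃ p : ℕ, p ∈ tau2 M ∧ ∀ S : Sylow p G, ¬ IsMulCommutative (S : Subgroup G) := by
      by_contra hcon
      apply hab
      intro p hp
      by_contra hcon2
      exact hcon ⟨p, hp, fun S hS => hcon2 ⟨S, hS⟩⟩
    obtain ⟨p, hp, hSna⟩ := hex
    haveI : Fact p.Prime := ⟨hp.1⟩
    exact case1 hG hM hE h hp hSna

theorem row1421 : Row1421 G := fun hG M hM E hE h => s1421_of hG M hM E hE h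

end Cfsg.Agent.Lib.Helper2.BGJ
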