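import Mathlib
import Cfsg.Agent.Lib.Helper1.BGG11
import Cfsg.Agent.Lib.Helper3.BG15f
import Cfsg.Agent.Lib.Helper2.BGJ8
import Cfsg.Agent.Lib.Lead.ComplIn
import Cfsg.Agent.S1415
import Cfsg.Agent.S1418
import Cfsg.Agent.S1420
import Cfsg.Agent.S1428

set_option autoImplicit false
set_option maxHeartbeats 4000000
set_option linter.unusedVariables false
set_option linter.unusedSectionVars false
set_option linter.style.longLine false
set_option linter.unusedSimpArgs false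
set_option linter.deprecated false
set_option linter.style.haveILetI false

/-!
# B&G Theorem 14.2 (S1430), the case `κ(M) ∩ τ₃(M) = ∅`

If no prime of `κ(M)` lies in `τ₃(M)` then `κ(M) ⊆ τ₁(M)`, a Hall `κ(M)`-subgroup `K` is a Hall
`τ₁(M)`-subgroup of a complement `E` of `M_σ`, and `U` is the (normal, abelian) Hall
`τ₁(M)'`-subgroup of `E`.
-/

open scoped commutatorElement Pointwise
universe u
namespace Cfsg.Agent.Lib.Helper2.BGL

open Cfsg Cfsg.Agent.Lib.Helper1 Cfsg.Agent.Lib.Helper7 Cfsg.Agent.Lib.Helper3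
  Cfsg.Agent.Lib.Helper7.BGRows

variable {G : Type u} [Group G] [Finite G]

/-- a factorisation from orders -/
theorem exists_mul_of_card_eq {A B E : Subgroup G} (hA : A ≤ E) (hB : B ≤ E) (hAB : A ⊓ B = ⊥)
    (hc : Nat.card E ≤ Nat.card A * Nat.card B) : ∀ e ∈ E, ∃ a ∈ A, ∃ b ∈ B, e = a * b := by
  intro e he
  let f : A × B → E := fun ab => ⟨(ab.1 : G) * ab.2, E.mul_mem (hA ab.1.2) (hB ab.2.2)⟩
  have hinj : Function.Injective f := by
    rintro ⟨a, b⟩ ⟨a', b'⟩ h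
    have h1 : (a : G) * b = a' * b' := congrArg Subtype.val h
    have h2 : (a' : G)⁻¹ * a = b' * (b : G)⁻¹ := by
      calc (a' : G)⁻¹ * a = (a' : G)⁻¹ * ((a : G) * b) * (b : G)⁻¹ := by group
        _ = (a' : G)⁻¹ * ((a' : G) * b') * (b : G)⁻¹ := by rw [h1]
        _ = b' * (b : G)⁻¹ := by group
    have h3 : (a' : G)⁻¹ * a ∈ A ⊓ B :=
      Subgroup.mem_inf.mpr ⟨A.mul_mem (A.inv_mem a'.2) a.2, h2 ▸ B.mul_mem b'.2 (B.inv_mem b.2)⟩
    rw [hAB, Subgroup.mem_bot] at h3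
    have ha : (a : G) = a' := (inv_mul_eq_one.mp h3).symm
    have hb : (b : G) = b' := by
      rw [ha] at h1; exact mul_left_cancel h1
    exact Prod.ext (Subtype.ext ha) (Subtype.ext hb)
  have hbij : Function.Bijective f :=
    hinj.bijective_of_nat_card_le (by rw [Nat.card_prod]; exact hc)
  obtain ⟨⟨a, b⟩, hab⟩ := hbij.2 ⟨e, he⟩
  exact ⟨a, a.2, b, b.2, (congrArg Subtype.val hab).symm⟩

/-- a subgroup of `E` containing `E'` is normal in `E` -/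
theorem le_normalizer_of_commutator_le {E U : Subgroup G} (hUE : U ≤ E) (h : ⁅E, E⁆ ≤ U) :
    E ≤ Subgroup.normalizer (U : Set G) := by
  intro e he
  apply BG9.mem_normalizer_of_cj_le
  intro x hx
  have hx' : e⁻¹ * x * e ∈ U := BG7.mem_cj.mp hx
  have hv : e⁻¹ * x * e ∈ E := hUE hx'
  have hc : ⁅e, e⁻¹ * x * e⁆ ∈ U := h (Subgroup.commutator_mem_commutator he hv)
  have e1 : x = ⁅e, e⁻¹ * x * e⁆ * (e⁻¹ * x * e) := by rw [commutatorElement_def]; group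
  rw [e1]; exact U.mul_mem hc hx'

/-- a normal `π`-subgroup lies in every Hall `π`-subgroup (solvable case) -/
theorem normal_le_hall {E H Y : Subgroup G} (hEs : Group.IsSolvable ↥E) {π : Set ℕ}
    (hH : IsPiHallOf π H E) (hYE : Y ≤ E) (hn : E ≤ Subgroup.normalizer (Y : Set G))
    (hY : ∀ q : ℕ, q.Prime → q ∣ Nat.card Y → q ∈ π) : Y ≤ H := by
  obtain ⟨m, hm, hle⟩ := BGK.exists_cj_le_of_hall hEs hH hYE hY
  have h1 := BG7.cj_mono (k := m⁻¹) hle
  rw [BG7.cj_inv_cj] at h1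
  rwa [BG7.cj_eq_of_mem_normalizer (hn (E.inv_mem hm))] at h1

theorem isMulCommutative_of_le' {A B : Subgroup G} (hB : IsMulCommutative B) (h : A ≤ B) :
    IsMulCommutative A :=
  ⟨⟨fun a b => Subtype.ext (by
    have h1 := hB.is_comm.comm (⟨a.1, h a.2⟩ : ↥B) ⟨b.1, h b.2⟩
    have h2 : (a.1 : G) * b.1 = b.1 * a.1 := congrArg Subtype.val h1
    exact h2)⟩⟩

/-- a power of prime order -/
theorem exists_pow_prime_order {x : G} (hx : x ≠ 1) :
    ∃ s j : ℕ, s.Prime ∧ orderOf (x ^ j) = s := by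
  have hne : orderOf x ≠ 1 := fun h => hx (orderOf_eq_one_iff.mp h)
  obtain ⟨s, hs, hsd⟩ := Nat.exists_prime_and_dvd hne
  obtain ⟨j, hj⟩ := hsd
  have hpos : 0 < orderOf x := orderOf_pos x
  have hj0 : j ≠ 0 := by
    rintro rfl
    rw [mul_zero] at hj
    exact hpos.ne' hj
  refine ⟨s, j, hs, ?_⟩
  rw [orderOf_pow_of_dvd hj0 ⟨s, by rw [hj, mul_comm]⟩, hj]
  exact Nat.mul_div_cancel _ (Nat.pos_of_ne_zero hj0)

/-- if `a b` normalizes `Y ≤ E` with `a ∈ E`, `b ∈ N`, `E ∩ N = 1`, `E ≤ N(N)`, then `b` centralizes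
`Y` and `a` normalizes `Y` -/
theorem split_normalizer {E N Y : Subgroup G} (hEN : E ⊓ N = ⊥)
    (hn : E ≤ Subgroup.normalizer (N : Set G)) (hYE : Y ≤ E) {a b : G} (ha : a ∈ E) (hb : b ∈ N)
    (hab : a * b ∈ Subgroup.normalizer (Y : Set G)) :
    (∀ y ∈ Y, b * y = y * b) ∧ a ∈ Subgroup.normalizer (Y : Set G) := by
  have key : ∀ y ∈ Y, b * y = y * b ∧ a * y * a⁻¹ ∈ Y := by
    intro y hy
    have h1 : (a * b) * y * (a * b)⁻¹ ∈ Y := (Subgroup.mem_normalizer_iff.mp hab y).mp hy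
    have hyE : y ∈ E := hYE hy
    have hc : b * y * b⁻¹ * y⁻¹ ∈ N := by
      have h2 : y * b⁻¹ * y⁻¹ ∈ N :=
        (Subgroup.mem_normalizer_iff.mp (hn hyE) b⁻¹).mp (N.inv_mem hb)
      have e1 : b * y * b⁻¹ * y⁻¹ = b * (y * b⁻¹ * y⁻¹) := by group
      rw [e1]; exact N.mul_mem hb h2
    have hac : a * (b * y * b⁻¹ * y⁻¹) * a⁻¹ ∈ N :=
      (Subgroup.mem_normalizer_iff.mp (hn ha) _).mp hc
    have hacE : a * (b * y * b⁻¹ * y⁻¹) * a⁻¹ ∈ E := by
      have e1 : a * (b * y * b⁻¹ * y⁻¹) * a⁻¹ =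
          ((a * b) * y * (a * b)⁻¹) * (a * y * a⁻¹)⁻¹ := by group
      rw [e1]
      exact E.mul_mem (hYE h1) (E.inv_mem (E.mul_mem (E.mul_mem ha hyE) (E.inv_mem ha)))
    have h1' : a * (b * y * b⁻¹ * y⁻¹) * a⁻¹ ∈ E ⊓ N := Subgroup.mem_inf.mpr ⟨hacE, hac⟩
    rw [hEN, Subgroup.mem_bot] at h1'
    have hc1 : b * y * b⁻¹ * y⁻¹ = 1 := by
      have e1 : b * y * b⁻¹ * y⁻¹ = a⁻¹ * (a * (b * y * b⁻¹ * y⁻¹) * a⁻¹) * a := by group
      rw [e1, h1']; group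
    have hby : b * y = y * b := by
      have e1 : b * y = (b * y * b⁻¹ * y⁻¹) * (y * b) := by group
      rw [e1, hc1, one_mul]
    refine ⟨hby, ?_⟩
    have h5 : b * y * b⁻¹ = y := by rw [hby]; group
    have e2 : a * y * a⁻¹ = (a * b) * y * (a * b)⁻¹ := by
      calc a * y * a⁻¹ = a * (b * y * b⁻¹) * a⁻¹ := by rw [h5]
        _ = (a * b) * y * (a * b)⁻¹ := by group
    rw [e2]; exact h1
  refine ⟨fun y hy => (key y hy).1, ?_⟩
  apply BG9.mem_normalizer_of_cj_le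
  intro z hz
  have hz' : a⁻¹ * z * a ∈ Y := BG7.mem_cj.mp hz
  have h6 := (key _ hz').2
  have e3 : a * (a⁻¹ * z * a) * a⁻¹ = z := by group
  rwa [e3] at h6

/-- **S1430 in the case `κ(M) ∩ τ₃(M) = ∅`.** -/
theorem s1430_k3 (hG : IsMinSimpleOddOrder G) {M : Subgroup G} (hM : IsCoatom M) {K : Subgroup G}
    (hK : IsPiHallOf (kappa M) K M) (hK1 : K ≠ ⊥) (h3 : ∀ q : ℕ, q ∈ kappa M → q ∉ tau3 M) :
    (∀ k ∈ K, k ≠ 1 → sigmaCore M ⊓ Subgroup.centralizer ({k} : Set G) =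
        (sigmaCore M ⊓ Subgroup.centralizer (K : Set G))) ∧
      (∃ U : Subgroup G, IsMulCommutative U ∧
        IsPiHallOf {q | q.Prime ∧ q ∉ kappa M ∧ q ∉ sigma M} U M ∧
        K ≤ Subgroup.normalizer (U : Set G) ∧
        ∀ k ∈ K, k ≠ 1 → U ⊓ Subgroup.centralizer ({k} : Set G) = ⊥) ∧
      ∀ X : Subgroup G, X ≤ K → (Nat.card X).Prime →
        M ⊓ Subgroup.normalizer (X : Set G) =
            K ⊔ (sigmaCore M ⊓ Subgroup.centralizer (K : Set G)) ∧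
          M ⊓ Subgroup.normalizer (K : Set G) =
            K ⊔ (sigmaCore M ⊓ Subgroup.centralizer (K : Set G)) ∧
          ∀ Mstar : Subgroup G, IsCoatom Mstar → Subgroup.normalizer (X : Set G) ≤ Mstar →
            X ≤ sigmaCore Mstar := by
  classical
  haveI hMs : Group.IsSolvable ↥M := BG7.isSolvable_of_ne_top hG hM.1
  have hMσn := BGE.le_normalizer_sigmaCore M
  -- Step A: `κ(M) ⊆ τ₁(M)`
  have hκτ : ∀ q : ℕ, q ∈ kappa M → q ∈ tau1 M := by
    intro q hq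
    have hr1 := BGK.pRankLE_one_of_kappa hq
    by_cases hd : q ∣ Nat.card ↥⁅M, M⁆
    · exact absurd ⟨hq.1, hq.2.2.1, hd, hr1⟩ (h3 q hq)
    · exact ⟨hq.1, hq.2.2.1, hq.2.1, hd, hr1⟩
  -- Step B: a complement containing `K`
  have hKσ : ∀ q : ℕ, q.Prime → q ∣ Nat.card K → q ∉ sigma M :=
    fun q hq hqd => (hK.2.1 q hq hqd).2.2.1
  obtain ⟨E, hE, hKE⟩ := BGG.exists_compl_ge hG hM hK.1 hKσ
  haveI hEs : Group.IsSolvable ↥E :=
    BG7.isSolvable_of_ne_top hG (ne_top_of_le_ne_top hM.1 hE.1)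
  haveI hKs : Group.IsSolvable ↥K :=
    BG7.isSolvable_of_ne_top hG (ne_top_of_le_ne_top hM.1 hK.1)
  -- Step C: a Hall `τ₁(M)`-subgroup of `E` containing `K`
  obtain ⟨E₁', hE₁'⟩ := BGK.exists_isPiHallOf E hEs (tau1 M)
  obtain ⟨e₀, he₀, hKe₀⟩ := BGK.exists_cj_le_of_hall hEs hE₁' hKE
    (fun q hq hqd => hκτ q (hK.2.1 q hq hqd))
  obtain ⟨E₁, hE₁def⟩ : ∃ E₁, E₁ = BG7.cj e₀ E₁' := ⟨_, rfl⟩
  have hE₁ : IsPiHallOf (tau1 M) E₁ E := by
    rw [hE₁def]; exact BGK.isPiHallOf_cj hE₁' he₀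
  have hKE₁ : K ≤ E₁ := by rw [hE₁def]; exact hKe₀
  -- Step D: `K = E₁`
  obtain ⟨p₀, hp₀, hp₀K⟩ : ∃ p, p.Prime ∧ p ∣ Nat.card K := by
    apply Nat.exists_prime_and_dvd
    intro h; exact hK1 (Subgroup.card_eq_one.mp h)
  haveI : Fact p₀.Prime := ⟨hp₀⟩
  obtain ⟨k₀, hk₀⟩ := exists_prime_orderOf_dvd_card' p₀ hp₀K
  have hk₀o : orderOf (k₀ : G) = p₀ := by rw [Subgroup.orderOf_coe]; exact hk₀
  obtain ⟨hP₀c, hP₀p, hk₀1⟩ := BGK.zpowers_facts hp₀ hk₀o
  have hP₀K : Subgroup.zpowers (k₀ : G) ≤ K := Subgroup.zpowers_le.mpr k₀.2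
  have hp₀κ : p₀ ∈ kappa M := hK.2.1 p₀ hp₀ hp₀K
  have hD₀ : sigmaCore M ⊓
      Subgroup.centralizer ((Subgroup.zpowers (k₀ : G) : Subgroup G) : Set G) ≠ ⊥ :=
    BGG.kappa_centralizer_ne_bot hp₀κ (hP₀K.trans hK.1) hP₀c
  have hP₀1 : Subgroup.zpowers (k₀ : G) ≠ ⊥ := fun h => hk₀1 (Subgroup.zpowers_eq_bot.mp h)
  have hD₁ : sigmaCore M ⊓ Subgroup.centralizer (E₁ : Set G) ≠ ⊥ := by
    rw [← BGG.tau1_centralizer_eq' hG hM hE hE₁ (hP₀K.trans hKE₁) hP₀1]; exact hD₀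
  have hκE₁ : ∀ s : ℕ, s.Prime → s ∣ Nat.card E₁ → s ∈ kappa M := by
    intro s hs hsd
    haveI : Fact s.Prime := ⟨hs⟩
    obtain ⟨y, hy⟩ := exists_prime_orderOf_dvd_card' s hsd
    have hyo : orderOf (y : G) = s := by rw [Subgroup.orderOf_coe]; exact hy
    obtain ⟨hYc, hYp, hy1⟩ := BGK.zpowers_facts hs hyo
    have hYE₁ : Subgroup.zpowers (y : G) ≤ E₁ := Subgroup.zpowers_le.mpr y.2
    have hsτ : s ∈ tau1 M := hE₁.2.1 s hs hsd
    apply BGG.mem_kappa_of_centralizer_ne_bot hG hM hsτ.2.1 hsτ.2.2.2.2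
      (hYE₁.trans (hE₁.1.trans hE.1)) hYc
    rw [BGG.tau1_centralizer_eq' hG hM hE hE₁ hYE₁
      (fun h => hy1 (Subgroup.zpowers_eq_bot.mp h))]
    exact hD₁
  have hKeq : K = E₁ := by
    apply Subgroup.eq_of_le_of_card_ge hKE₁
    have h1 : K.relIndex E₁ = 1 := by
      apply Nat.eq_one_iff_not_exists_prime_dvd.mpr
      intro s hs hsd
      have hsE : s ∣ Nat.card E₁ := hsd.trans (Subgroup.relIndex_dvd_card _ _)
      have h2 : s ∣ K.relIndex M := by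
        rw [← Subgroup.relIndex_mul_relIndex K E₁ M hKE₁ (hE₁.1.trans hE.1)]
        exact Dvd.dvd.mul_right hsd _
      exact hK.2.2 s hs (hκE₁ s hs hsE) h2
    have h2 := BGG.card_mul_relIndex' hKE₁
    rw [h1, mul_one] at h2
    exact h2.symm.le
  have hKH : IsPiHallOf (tau1 M) K E := by rw [hKeq]; exact hE₁
  have hKcyc : IsCyclic ↥K := (Cfsg.Agent.S1415.result hG M hM E hE).2.1 K hKH
  -- clause (1)
  have hc1 : ∀ k ∈ K, k ≠ 1 → sigmaCore M ⊓ Subgroup.centralizer ({k} : Set G) =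
      (sigmaCore M ⊓ Subgroup.centralizer (K : Set G)) :=
    fun k hk hk1 => BGG.tau1_centralizer_eq hG hM hE hKH hk hk1
  -- Step F: the Hall `τ₁(M)'`-subgroup `U` of `E`
  obtain ⟨U, hU⟩ := BGK.exists_isPiHallOf E hEs (tau1 M)ᶜ
  have hUE : U ≤ E := hU.1
  have hE'E : ⁅E, E⁆ ≤ E := by
    rw [Subgroup.commutator_le]
    intro a ha b hb
    rw [commutatorElement_def]
    exact E.mul_mem (E.mul_mem (E.mul_mem ha hb) (E.inv_mem ha)) (E.inv_mem hb)
  have hE'π : ∀ q : ℕ, q.Prime → q ∣ Nat.card ↥⁅E, E⁆ → q ∈ (tau1 M)ᶜ := by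
    intro q hq hqd
    apply Set.mem_compl
    intro hqτ
    exact hqτ.2.2.2.1 (hqd.trans (Subgroup.card_dvd_of_le (Subgroup.commutator_mono hE.1 hE.1)))
  have hE'U : ⁅E, E⁆ ≤ U :=
    normal_le_hall hEs hU hE'E (le_normalizer_of_commutator_le hE'E le_rfl) hE'π
  have hUn : E ≤ Subgroup.normalizer (U : Set G) := le_normalizer_of_commutator_le hUE hE'U
  obtain ⟨m, n, hmn, hm, hn⟩ := Helper2.exists_pi_decomp (tau1 M) (Nat.card E) Nat.card_pos.ne'
  have hKc : Nat.card K = m := ((Helper2.isPiHallOf_iff_card hmn hm hn).mp hKH).2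
  have hUc : Nat.card U = n := by
    have hmn' : Nat.card E = n * m := by rw [hmn, mul_comm]
    have hm' : Helper2.IsPiNum (tau1 M)ᶜᶜ m := by rw [compl_compl]; exact hm
    exact ((Helper2.isPiHallOf_iff_card hmn' hn hm').mp hU).2
  have hcop : (Nat.card K).Coprime (Nat.card U) := by
    rw [hKc, hUc]; exact Helper2.coprime_of_isPiNum hm hn
  have hUK : U ⊓ K = ⊥ := Subgroup.inf_eq_bot_of_coprime hcop.symm
  have hcard : Nat.card U * Nat.card K = Nat.card E := by rw [hUc, hKc, hmn, mul_comm]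
  have hEUK : ∀ e ∈ E, ∃ u ∈ U, ∃ k ∈ K, e = u * k :=
    exists_mul_of_card_eq hUE hKE hUK hcard.ge
  have hn0 : 0 < n := by
    apply Nat.pos_of_ne_zero
    intro h
    rw [h, mul_zero] at hmn
    exact Nat.card_pos.ne' hmn
  have hUrel : U.relIndex E = Nat.card K := by
    have h4 := BGG.card_mul_relIndex' hUE
    rw [hUc, hmn, mul_comm m n] at h4
    rw [hKc]
    exact Nat.eq_of_mul_eq_mul_left hn0 h4
  have hUM : IsPiHallOf {q | q.Prime ∧ q ∉ kappa M ∧ q ∉ sigma M} U M := by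
    refine ⟨hUE.trans hE.1, ?_, ?_⟩
    · intro q hq hqd
      have hqE : q ∣ Nat.card E := hqd.trans (Subgroup.card_dvd_of_le hUE)
      exact ⟨hq, fun hqκ => hU.2.1 q hq hqd (hκτ q hqκ), BGD.compl_not_sigma hG hM hE q hq hqE⟩
    · rintro q hq ⟨-, hqκ, hqσ⟩ hqd
      have h1 : U.relIndex M = U.relIndex E * E.relIndex M :=
        (Subgroup.relIndex_mul_relIndex U E M hUE hE.1).symm
      rw [h1, Cfsg.Agent.Lib.Lead.ComplIn.relIndex_left hE, hUrel] at hqd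
      rcases (Nat.Prime.dvd_mul hq).mp hqd with h | h
      · exact hqκ (hK.2.1 q hq h)
      · exact hqσ ((BGA.s1350 hG M hM).1.2.1 q hq h)
  -- semiregularity, prime orders
  have hsemi0 : ∀ k ∈ K, ∀ u ∈ U, (orderOf k).Prime → (orderOf u).Prime →
      u * k = k * u → False := by
    intro k hk u hu hko huo hcomm
    obtain ⟨p, hpdef⟩ : ∃ p, p = orderOf k := ⟨_, rfl⟩
    obtain ⟨q, hqdef⟩ : ∃ q, q = orderOf u := ⟨_, rfl⟩
    rw [← hpdef] at hko
    rw [← hqdef] at huo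
    haveI : Fact p.Prime := ⟨hko⟩
    haveI : Fact q.Prime := ⟨huo⟩
    obtain ⟨hPc, hPp, hk1⟩ := BGK.zpowers_facts hko hpdef.symm
    obtain ⟨hRc, hRp, hu1⟩ := BGK.zpowers_facts huo hqdef.symm
    have hPK : Subgroup.zpowers k ≤ K := Subgroup.zpowers_le.mpr hk
    have hRU : Subgroup.zpowers u ≤ U := Subgroup.zpowers_le.mpr hu
    have hpκ : p ∈ kappa M := hK.2.1 p hko (hPc ▸ Subgroup.card_dvd_of_le hPK)
    have hpτ : p ∈ tau1 M := hκτ p hpκ
    have hqU : q ∣ Nat.card U := hRc ▸ Subgroup.card_dvd_of_le hRU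
    have hqτ : q ∉ tau1 M := hU.2.1 q huo hqU
    have hqE : q ∣ Nat.card E := hqU.trans (Subgroup.card_dvd_of_le hUE)
    have hqσ : q ∉ sigma M := BGD.compl_not_sigma hG hM hE q huo hqE
    have hDP : sigmaCore M ⊓
        Subgroup.centralizer ((Subgroup.zpowers k : Subgroup G) : Set G) ≠ ⊥ :=
      BGG.kappa_centralizer_ne_bot hpκ (hPK.trans hK.1) hPc
    have huk : u ∈ Subgroup.centralizer ({k} : Set G) :=
      BGE.mem_centralizer_singleton.mpr hcomm.symm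
    have hRC : Subgroup.zpowers u ≤
        Subgroup.centralizer ((Subgroup.zpowers k : Subgroup G) : Set G) := by
      rw [BG14.centralizer_zpowers_eq, Subgroup.zpowers_le]
      exact huk
    by_cases hr1 : PRankLE q 1 ↥M
    · have h28 := Cfsg.Agent.S1428.result hG M hM E hE p hpτ (Subgroup.zpowers k)
        (hPK.trans hKE) hPc (Subgroup.zpowers u) (le_inf (hRU.trans hUE) hRC)
        (by rw [hRc]; exact huo)
      have hDR : sigmaCore M ⊓
          Subgroup.centralizer ((Subgroup.zpowers u : Subgroup G) : Set G) ≠ ⊥ := by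
        intro hbot
        apply hDP
        rw [eq_bot_iff, ← hbot]; exact h28
      have hqκ : q ∈ kappa M := BGG.mem_kappa_of_centralizer_ne_bot hG hM hqσ hr1
        (hRU.trans (hUE.trans hE.1)) hRc hDR
      exact hqτ (hκτ q hqκ)
    · have hr2 : PRankLE q 2 ↥M := by
        by_contra h
        exact hqσ (BT.alpha_subset_sigma hG hM ⟨huo, h⟩)
      have h2 : q ∈ tau2 M := ⟨huo, hqσ, hr2, hr1⟩
      obtain ⟨B₁, hB₁M, hB₁e, hB₁2⟩ := BGD.exists_sq_of_rank hr2 hr1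
      obtain ⟨m', hm', hB₁m⟩ := BGD.exists_cj_le hG hM hE hB₁M
        (BGD.coprime_sigmaCore hG hM (by
          intro t ht htd
          rw [BGG.prime_eq_of_dvd_card_pgroup (BG9.isPGroup_of_isElementaryAbelian hB₁e) ht htd]
          exact hqσ))
      obtain ⟨B, hBdef⟩ : ∃ B, B = BG7.cj m'⁻¹ B₁ := ⟨_, rfl⟩
      have hBE : B ≤ E := by
        rw [hBdef]; have := BG7.cj_mono (k := m'⁻¹) hB₁m; rwa [BG7.cj_inv_cj] at this
      have hBe : IsElementaryAbelian q B := hBdef ▸ BG9.isElementaryAbelian_cj m'⁻¹ hB₁e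
      have hB2 : Nat.card B = q ^ 2 := by rw [hBdef, BG7.card_cj, hB₁2]
      have h18 := Cfsg.Agent.S1418.result hG M hM E hE q h2 B ⟨hBE, hBe, hB2⟩
      have hRB : Subgroup.zpowers u ≤ B := h18.1.2 _ (hRU.trans hUE) hRc
      have hno := BG14.no_omega hG hM hE h2 ⟨hBE, hBe, hB2⟩ hpτ (hKE hk) hpdef.symm (by
        rw [← BG14.centralizer_zpowers_eq]; exact hDP)
      have h7 : u ∈ B ⊓ Subgroup.centralizer ({k} : Set G) :=
        Subgroup.mem_inf.mpr ⟨hRB (Subgroup.mem_zpowers u), huk⟩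
      rw [hno, Subgroup.mem_bot] at h7
      exact hu1 h7
  -- semiregularity
  have hsemi : ∀ k ∈ K, k ≠ 1 → U ⊓ Subgroup.centralizer ({k} : Set G) = ⊥ := by
    intro k hk hk1
    rw [eq_bot_iff]
    intro u hu
    rw [Subgroup.mem_bot]
    by_contra hu1
    obtain ⟨huU, huk⟩ := Subgroup.mem_inf.mp hu
    obtain ⟨p, j, hp, hkj⟩ := exists_pow_prime_order hk1
    obtain ⟨q, i, hq, hui⟩ := exists_pow_prime_order hu1
    have hcomm : k * u = u * k := BGE.mem_centralizer_singleton.mp huk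
    have hc : Commute k u := hcomm
    apply hsemi0 (k ^ j) (K.pow_mem hk j) (u ^ i) (U.pow_mem huU i)
      (by rw [hkj]; exact hp) (by rw [hui]; exact hq)
    exact ((hc.pow_pow j i).eq).symm
  -- `U` is abelian
  have hUcomm : IsMulCommutative U := by
    have h1 : ⁅U, K⁆ = U := BG14.eq_commutator_of_fpf (hKE.trans hUn) hcop (Or.inl hKs) k₀.2
      (hsemi k₀ k₀.2 hk₀1)
    have h2 : U ≤ ⁅E, E⁆ := h1.symm.le.trans (Subgroup.commutator_mono hUE hKE)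
    exact isMulCommutative_of_le' (Cfsg.Agent.S1420.result hG M hM E hE).2.1 h2
  -- normalizers
  have hmain : ∀ Y : Subgroup G, Y ≤ K → K ≤ Subgroup.normalizer (Y : Set G) →
      ∀ y₀ ∈ Y, y₀ ≠ 1 → M ⊓ Subgroup.normalizer (Y : Set G) =
        K ⊔ (sigmaCore M ⊓ Subgroup.centralizer (K : Set G)) := by
    intro Y hYK hKY y₀ hy₀ hy₀1
    have hy₀K : y₀ ∈ K := hYK hy₀
    apply le_antisymm
    · intro g hg
      obtain ⟨hgM, hgN⟩ := Subgroup.mem_inf.mp hg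
      obtain ⟨a, ha, b, hb, rfl⟩ := hE.2.2.2 g hgM
      obtain ⟨hbY, haN⟩ :=
        split_normalizer hE.2.2.1 (hE.1.trans hMσn) (hYK.trans hKE) ha hb hgN
      have hbD : b ∈ sigmaCore M ⊓ Subgroup.centralizer (K : Set G) := by
        rw [← hc1 y₀ hy₀K hy₀1]
        exact Subgroup.mem_inf.mpr ⟨hb, BGE.mem_centralizer_singleton.mpr (hbY y₀ hy₀).symm⟩
      obtain ⟨u, hu, k, hk, rfl⟩ := hEUK a ha
      have huN : u ∈ Subgroup.normalizer (Y : Set G) := by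
        have e1 : u = (u * k) * k⁻¹ := by group
        rw [e1]
        exact Subgroup.mul_mem _ haN (Subgroup.inv_mem _ (hKY hk))
      have hu1 : u = 1 := by
        have h1 : u * y₀ * u⁻¹ ∈ Y := (Subgroup.mem_normalizer_iff.mp huN y₀).mp hy₀
        have h2 : u * y₀ * u⁻¹ * y₀⁻¹ ∈ K := hYK (Y.mul_mem h1 (Y.inv_mem hy₀))
        have h3' : y₀ * u⁻¹ * y₀⁻¹ ∈ U :=
          (Subgroup.mem_normalizer_iff.mp (hUn (hKE hy₀K)) u⁻¹).mp (U.inv_mem hu)
        have h4 : u * y₀ * u⁻¹ * y₀⁻¹ ∈ U := by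
          have e1 : u * y₀ * u⁻¹ * y₀⁻¹ = u * (y₀ * u⁻¹ * y₀⁻¹) := by group
          rw [e1]; exact U.mul_mem hu h3'
        have h5 : u * y₀ * u⁻¹ * y₀⁻¹ ∈ U ⊓ K := Subgroup.mem_inf.mpr ⟨h4, h2⟩
        rw [hUK, Subgroup.mem_bot] at h5
        have h6 : u * y₀ = y₀ * u := by
          have e1 : u * y₀ = (u * y₀ * u⁻¹ * y₀⁻¹) * (y₀ * u) := by group
          rw [e1, h5, one_mul]
        have h7 : u ∈ U ⊓ Subgroup.centralizer ({y₀} : Set G) :=
          Subgroup.mem_inf.mpr ⟨hu, BGE.mem_centralizer_singleton.mpr h6.symm⟩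
        rw [hsemi y₀ hy₀K hy₀1, Subgroup.mem_bot] at h7
        exact h7
      rw [hu1, one_mul]
      exact Subgroup.mul_mem _ (Subgroup.mem_sup_left hk) (Subgroup.mem_sup_right hbD)
    · refine sup_le (le_inf hK.1 hKY) (le_inf (inf_le_left.trans (BGE.sigmaCore_le M)) ?_)
      intro d hd
      apply Subgroup.centralizer_le_normalizer
      exact Subgroup.centralizer_le hYK (Subgroup.mem_inf.mp hd).2
  refine ⟨hc1, ⟨U, hUcomm, hUM, hKE.trans hUn, hsemi⟩, ?_⟩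
  intro X hXK hXc
  obtain ⟨s, hsdef⟩ : ∃ s : ℕ, s = Nat.card X := ⟨_, rfl⟩
  rw [← hsdef] at hXc
  haveI : Fact s.Prime := ⟨hXc⟩
  obtain ⟨x, hxX, hxo, hXx⟩ := BGG.exists_generator_of_card_prime hsdef.symm
  have hx1 : x ≠ 1 := (BGK.zpowers_facts hXc hxo).2.2
  haveI := hKcyc
  have hKX : K ≤ Subgroup.normalizer (X : Set G) := by
    intro z hz
    apply Subgroup.centralizer_le_normalizer
    rw [Subgroup.mem_centralizer_iff]
    intro y hy
    have h1 := BGE.comm_of_isCyclic (⟨y, hXK hy⟩ : ↥K) ⟨z, hz⟩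
    exact congrArg Subtype.val h1
  refine ⟨hmain X hXK hKX x hxX hx1, hmain K le_rfl Subgroup.le_normalizer x (hXK hxX) hx1, ?_⟩
  intro Mstar hMstar hNX
  have hsκ : s ∈ kappa M := hK.2.1 s hXc (hsdef ▸ Subgroup.card_dvd_of_le hXK)
  have hsσ : s ∈ sigma Mstar := BGG.c3 hG hM hMstar hsκ (hXK.trans hK.1) hsdef.symm hNX
  exact BGE.qsub_le_sigmaCore hG hMstar hsσ (BGG.isPGroup_of_card_prime hsdef.symm)
    (Subgroup.le_normalizer.trans hNX)

end Cfsg.Agent.Lib.Helper2.BGL
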