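import Mathlib
import Cfsg.Prelude.Def_Solvable
import Cfsg.Agent.Lib.Helper1.SubnormalFitting
import Cfsg.Agent.Lib.Helper1.SZHelpers
import Cfsg.Agent.Lib.Helper1.FrobeniusBasic

/-!
# Left Engel elements and Baer's theorem

`engel g n x = [x, g, g, …, g]` (with `n` entries `g`).  Baer: in a finite group the left Engel
elements are exactly the elements of the Fitting subgroup.
-/

set_option autoImplicit false

open Pointwise
open scoped commutatorElement

namespace Cfsg.Agent.Lib.Helper2

universe u

section basics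

variable {G : Type*} [Group G]

/-- the iterated commutator `[x, g, …, g]` -/
def engel (g : G) (n : ℕ) (x : G) : G := (fun a => ⁅a, g⁆)^[n] x

theorem engel_zero (g x : G) : engel g 0 x = x := rfl

theorem engel_succ (g : G) (n : ℕ) (x : G) : engel g (n + 1) x = engel g n ⁅x, g⁆ :=
  Function.iterate_succ_apply _ _ _

theorem engel_succ' (g : G) (n : ℕ) (x : G) : engel g (n + 1) x = ⁅engel g n x, g⁆ :=
  Function.iterate_succ_apply' _ _ _

theorem engel_one_right (g : G) (n : ℕ) : engel g n 1 = 1 := by
  induction n with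
  | zero => rfl
  | succ n ih => rw [engel_succ', ih, commutatorElement_one_left]

theorem engel_add (g : G) (m n : ℕ) (x : G) : engel g (m + n) x = engel g m (engel g n x) :=
  Function.iterate_add_apply _ _ _ _

theorem engel_eq_one_of_le (g x : G) {m n : ℕ} (h : engel g m x = 1) (hmn : m ≤ n) :
    engel g n x = 1 := by
  obtain ⟨k, rfl⟩ := Nat.exists_eq_add_of_le hmn
  rw [add_comm, engel_add, h, engel_one_right]

theorem foldl_replicate_eq_engel (g x : G) (n : ℕ) :
    (List.replicate n g).foldl (fun a b => a * b * a⁻¹ * b⁻¹) x = engel g n x := by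
  induction n generalizing x with
  | zero => rfl
  | succ n ih =>
    rw [List.replicate_succ, List.foldl_cons, ih, engel_succ, commutatorElement_def]

theorem map_engel {H : Type*} [Group H] (f : G →* H) (g : G) (n : ℕ) (x : G) :
    f (engel g n x) = engel (f g) n (f x) := by
  induction n generalizing x with
  | zero => rfl
  | succ n ih => rw [engel_succ, ih, engel_succ, map_commutatorElement]

/-- `g` is a left Engel element -/
def IsLeftEngel (g : G) : Prop := ∀ x : G, ∃ n : ℕ, engel g n x = 1

theorem isLeftEngel_iff_foldl (g : G) :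
    IsLeftEngel g ↔
      ∀ x : G, ∃ n : ℕ, (List.replicate n g).foldl (fun a b => a * b * a⁻¹ * b⁻¹) x = 1 := by
  unfold IsLeftEngel
  simp only [foldl_replicate_eq_engel]

theorem IsLeftEngel.map {H : Type*} [Group H] {g : G} (hg : IsLeftEngel g) (f : G →* H)
    (hf : Function.Surjective f) : IsLeftEngel (f g) := by
  intro y
  obtain ⟨x, rfl⟩ := hf y
  obtain ⟨n, hn⟩ := hg x
  exact ⟨n, by rw [← map_engel, hn, map_one]⟩

theorem IsLeftEngel.conj {g : G} (hg : IsLeftEngel g) (c : G) : IsLeftEngel (c * g * c⁻¹) := by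
  have := hg.map (MulAut.conj c).toMonoidHom (MulAut.conj c).surjective
  exact this

theorem IsLeftEngel.subgroup {g : G} (hg : IsLeftEngel g) (H : Subgroup G) (hgH : g ∈ H) :
    IsLeftEngel (⟨g, hgH⟩ : H) := by
  intro x
  obtain ⟨n, hn⟩ := hg x
  refine ⟨n, ?_⟩
  apply H.subtype_injective
  rw [map_engel, map_one]
  exact hn

theorem conj_smul_zpowers (g a : G) :
    MulAut.conj g • Subgroup.zpowers a = Subgroup.zpowers (g * a * g⁻¹) := by
  show Subgroup.map (MulAut.conj g).toMonoidHom (Subgroup.zpowers a) = _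
  rw [MonoidHom.map_zpowers]
  rfl

end basics

open Cfsg.Agent.Lib.Helper1

/-- Baer: a left Engel element of a finite group lies in the Fitting subgroup. -/
theorem leftEngel_mem_fitting_aux : ∀ (n : ℕ) (G : Type u) [Group G] [Finite G], Nat.card G = n →
    ∀ a : G, IsLeftEngel a → a ∈ Cfsg.fittingSubgroup G := by
  intro n
  induction n using Nat.strong_induction_on with
  | _ n ih =>
    intro G _ _ hn a ha
    set A : Subgroup G := Subgroup.zpowers a with hA
    suffices hsub : A.IsSubnormal by
      have hnil : Group.IsNilpotent A := by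
        letI : CommGroup A := IsCyclic.commGroup
        exact CommGroup.isNilpotent
      exact le_fittingSubgroup_of_isSubnormal_of_isNilpotent hsub hnil (Subgroup.mem_zpowers a)
    by_contra hAsn
    -- conjugates of `A` inside a proper subgroup `V` are subnormal in `V`
    have hconjsub : ∀ V : Subgroup G, V ≠ ⊤ → ∀ g : G, MulAut.conj g • A ≤ V →
        ((MulAut.conj g • A).subgroupOf V).IsSubnormal := by
      intro V hV g hgV
      have hlt : Nat.card V < n := hn ▸ card_lt_of_ne_top V hV
      rw [hA, conj_smul_zpowers] at hgV ⊢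
      have hgaV : g * a * g⁻¹ ∈ V := hgV (Subgroup.mem_zpowers _)
      have hE : IsLeftEngel (⟨g * a * g⁻¹, hgaV⟩ : V) := (ha.conj g).subgroup V hgaV
      have hF := ih _ hlt V rfl _ hE
      have hle : (Subgroup.zpowers (g * a * g⁻¹)).subgroupOf V ≤ Cfsg.fittingSubgroup V := by
        intro x hx
        rw [Subgroup.mem_subgroupOf, Subgroup.mem_zpowers_iff] at hx
        obtain ⟨k, hk⟩ := hx
        have : x = (⟨g * a * g⁻¹, hgaV⟩ : V) ^ k := by
          apply Subtype.ext
          rw [Subgroup.coe_zpow]
          exact hk.symm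
        rw [this]
        exact Subgroup.zpow_mem _ hF k
      have hFn : (Cfsg.fittingSubgroup V).Normal := fittingSubgroup_normal
      exact Subgroup.IsSubnormal.trans hle
        (isNilpotent_iff_forall_isSubnormal.1 fittingSubgroup_isNilpotent _) hFn.isSubnormal
    set U : Set (Subgroup G) := {V | A ≤ V ∧ V ≠ ⊤} with hU
    set S : Subgroup G → Set (Subgroup G) := fun V =>
      {B | (∃ g : G, B = MulAut.conj g • A) ∧ B ≤ V ∧ (B.subgroupOf V).IsSubnormal} with hS
    have hAtop : A ≠ ⊤ := by
      intro h'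
      apply hAsn
      rw [h']; exact Subgroup.IsSubnormal.top
    have hUne : U.Nonempty := ⟨A, le_rfl, hAtop⟩
    have hmemS : ∀ V ∈ U, ∀ B : Subgroup G, (∃ g : G, B = MulAut.conj g • A) → B ≤ V →
        B ∈ S V := by
      rintro V ⟨-, hVtop⟩ _ ⟨g, rfl⟩ hBV
      exact ⟨⟨g, rfl⟩, hBV, hconjsub V hVtop g hBV⟩
    have hAS : ∀ V ∈ U, A ∈ S V := by
      intro V hV
      apply hmemS V hV A ⟨1, by simp⟩ hV.1
    have h2 : ∀ V ∈ U, ∀ W ∈ U, ∀ B ∈ S W, B ≤ V → B ∈ S V := by
      intro V hV W _ B hB hBV
      exact hmemS V hV B hB.1 hBV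
    have h3 : ∀ V ∈ U, ∀ W ∈ U, ∃ X ∈ U,
        Subgroup.normalizer ((sSup (S V ∩ S W) : Subgroup G) : Set G) ≤ X := by
      intro V hV W hW
      set D : Subgroup G := sSup (S V ∩ S W) with hD
      have hAD : A ≤ D := le_sSup ⟨hAS V hV, hAS W hW⟩
      have hDV : D ≤ V := sSup_le (fun B hB => hB.1.2.1)
      refine ⟨Subgroup.normalizer (D : Set G), ⟨hAD.trans Subgroup.le_normalizer, ?_⟩, le_rfl⟩
      intro htop
      have hDn : D.Normal := Subgroup.normalizer_eq_top_iff.mp htop
      apply hAsn
      exact Subgroup.IsSubnormal.trans hAD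
        (isSubnormal_subgroupOf_of_le hDV (hAS V hV).2.2) hDn.isSubnormal
    obtain ⟨M, hMU, hMmax⟩ := zipper_unique_maximal A U hUne S (fun V B => Iff.rfl) h2 h3
    have haM : a ∈ M := hMU.1 (Subgroup.mem_zpowers a)
    -- `M` is normal
    have hMn : M.Normal := by
      rw [← Subgroup.normalizer_eq_top_iff]
      by_contra hN
      have hNU : Subgroup.normalizer (M : Set G) ∈ U :=
        ⟨hMU.1.trans Subgroup.le_normalizer, hN⟩
      have hNM : Subgroup.normalizer (M : Set G) ≤ M := hMmax _ hNU
      obtain ⟨x, hx⟩ : ∃ x, x ∉ M := by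
        by_contra hcon
        push Not at hcon
        exact hMU.2 (eq_top_iff.2 (fun x _ => hcon x))
      obtain ⟨m, hm⟩ := ha x
      have hex : ∃ j, engel a j x ∉ M ∧ engel a (j + 1) x ∈ M := by
        by_contra hcon
        push Not at hcon
        have hall : ∀ j, engel a j x ∉ M := by
          intro j
          induction j with
          | zero => exact hx
          | succ j ihj => exact hcon j ihj
        exact hall m (hm ▸ M.one_mem)
      obtain ⟨j, hj1, hj2⟩ := hex
      set y := engel a j x with hy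
      rw [engel_succ'] at hj2
      have hyay : y * a * y⁻¹ ∈ M := by
        have : y * a * y⁻¹ = ⁅y, a⁆ * a := by rw [commutatorElement_def]; group
        rw [this]; exact M.mul_mem hj2 haM
      have hAM' : A ≤ MulAut.conj y⁻¹ • M := by
        rw [hA, Subgroup.zpowers_le, mem_conj_smul_iff]
        simpa using hyay
      have hM'top : MulAut.conj y⁻¹ • M ≠ ⊤ := by
        intro h
        apply hMU.2
        rw [eq_top_iff]
        intro z _
        have hz : y⁻¹ * z * y⁻¹⁻¹ ∈ MulAut.conj y⁻¹ • M := by rw [h]; trivial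
        rw [mem_conj_smul_iff] at hz
        have e : y⁻¹⁻¹ * (y⁻¹ * z * y⁻¹⁻¹) * y⁻¹ = z := by group
        rwa [e] at hz
      have hM'le : MulAut.conj y⁻¹ • M ≤ M := hMmax _ ⟨hAM', hM'top⟩
      have hyn : y⁻¹ ∈ Subgroup.normalizer (M : Set G) := by
        apply Subgroup.mem_normalizer_fintype
        intro z hz
        apply hM'le
        rw [mem_conj_smul_iff]
        have e : y⁻¹⁻¹ * (y⁻¹ * z * y⁻¹⁻¹) * y⁻¹ = z := by group
        rw [e]; exact hz
      have : y ∈ M := by
        have := M.inv_mem (hNM hyn)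
        rwa [inv_inv] at this
      exact hj1 this
    apply hAsn
    exact Subgroup.IsSubnormal.trans hMU.1 (hAS M hMU).2.2 hMn.isSubnormal

theorem leftEngel_mem_fitting {G : Type u} [Group G] [Finite G] {a : G} (ha : IsLeftEngel a) :
    a ∈ Cfsg.fittingSubgroup G :=
  leftEngel_mem_fitting_aux _ G rfl a ha

end Cfsg.Agent.Lib.Helper2
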