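import Mathlib
import Cfsg.Prelude.Def_Solvable
import Cfsg.Agent.Lib.Helper2.Engel
import Cfsg.Agent.Lib.Helper1.Fitting
import Cfsg.Agent.Lib.Helper1.Nilpotent
import Cfsg.Agent.Lib.Helper1.FrattiniAction

/-!
# The hypercentre of a finite group (Baer)

`g` lies in the hypercentre iff `⟨x, g⟩` is nilpotent for every `x`.
-/

set_option autoImplicit false

open Pointwise
open scoped commutatorElement

namespace Cfsg.Agent.Lib.Helper2

universe u

open Cfsg.Agent.Lib.Helper1

section general

variable {G : Type*} [Group G]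

theorem engel_mem_lcs (S : Subgroup G) (g y : G) (hg : g ∈ S) (hy : y ∈ S) (n : ℕ) :
    engel g n y ∈ S.lowerCentralSeries n := by
  induction n with
  | zero => exact hy
  | succ n ih =>
    rw [engel_succ', Subgroup.lowerCentralSeries_succ]
    exact Subgroup.commutator_mem_commutator ih hg

/-- a subgroup of a nilpotent subgroup is nilpotent -/
theorem isNilpotent_of_le {H K : Subgroup G} (hK : Group.IsNilpotent K) (h : H ≤ K) :
    Group.IsNilpotent H := by
  obtain ⟨n, hn⟩ := (Subgroup.isNilpotent_iff_lowerCentralSeries K).1 hK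
  apply Subgroup.isNilpotent_of_lowerCentralSeries_eq_bot (n := n)
  rw [eq_bot_iff, ← hn]
  exact Subgroup.lowerCentralSeries_mono n h

/-- In a finite nilpotent group, elements of coprime orders commute. -/
theorem commute_of_isNilpotent_of_coprime {H : Type*} [Group H] [Finite H]
    [hH : Group.IsNilpotent H] {a b : H} (hab : (orderOf a).Coprime (orderOf b)) :
    Commute a b := by
  obtain ⟨e⟩ := (Group.isNilpotent_of_finite_tfae (G := H)).out 0 4 |>.1 hH
  have hcomm : e.symm a * e.symm b = e.symm b * e.symm a := by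
    funext p
    funext P
    haveI : Fact (p : ℕ).Prime := ⟨Nat.prime_of_mem_primeFactors p.2⟩
    show e.symm a p P * e.symm b p P = e.symm b p P * e.symm a p P
    set u := e.symm a p P with hu
    set v := e.symm b p P with hv
    have hua : orderOf u ∣ orderOf a := by
      apply orderOf_dvd_of_pow_eq_one
      have h1 : (e.symm a) ^ orderOf a = 1 := by rw [← map_pow, pow_orderOf_eq_one, map_one]
      have h2 := congrFun (congrFun h1 p) P
      exact h2
    have hvb : orderOf v ∣ orderOf b := by
      apply orderOf_dvd_of_pow_eq_one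
      have h1 : (e.symm b) ^ orderOf b = 1 := by rw [← map_pow, pow_orderOf_eq_one, map_one]
      have h2 := congrFun (congrFun h1 p) P
      exact h2
    have hPp : IsPGroup (p : ℕ) (P : Subgroup H) := P.isPGroup'
    obtain ⟨i, hi⟩ := hPp u
    obtain ⟨j, hj⟩ := hPp v
    have hcop : (orderOf u).Coprime (orderOf v) :=
      Nat.Coprime.coprime_dvd_left hua (Nat.Coprime.coprime_dvd_right hvb hab)
    obtain ⟨i', hi'⟩ := (Nat.dvd_prime_pow (Nat.prime_of_mem_primeFactors p.2)).1
      (orderOf_dvd_of_pow_eq_one hi)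
    obtain ⟨j', hj'⟩ := (Nat.dvd_prime_pow (Nat.prime_of_mem_primeFactors p.2)).1
      (orderOf_dvd_of_pow_eq_one hj)
    rw [hi'.2, hj'.2] at hcop
    have hp1 : (p : ℕ) ≠ 1 := (Nat.prime_of_mem_primeFactors p.2).one_lt.ne'
    rcases Nat.eq_zero_or_pos i' with h0 | h0
    · have : u = 1 := by
        rw [← orderOf_eq_one_iff, hi'.2, h0, pow_zero]
      rw [this, one_mul, mul_one]
    · rcases Nat.eq_zero_or_pos j' with h0' | h0'
      · have : v = 1 := by
          rw [← orderOf_eq_one_iff, hj'.2, h0', pow_zero]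
        rw [this, one_mul, mul_one]
      · exfalso
        have h1 : (p : ℕ) ∣ Nat.gcd ((p : ℕ) ^ i') ((p : ℕ) ^ j') :=
          Nat.dvd_gcd (dvd_pow_self _ h0.ne') (dvd_pow_self _ h0'.ne')
        rw [hcop] at h1
        exact hp1 (Nat.dvd_one.1 h1)
  have := congrArg e hcomm
  rw [map_mul, map_mul, MulEquiv.apply_symm_apply, MulEquiv.apply_symm_apply] at this
  exact this

/-- a `p`-subgroup lies in a normal Sylow `p`-subgroup -/
theorem le_of_normal_sylow [Finite G] {p : ℕ} [Fact p.Prime] (S : Sylow p G)
    [hS : (S : Subgroup G).Normal] {Q : Subgroup G} (hQ : IsPGroup p Q) : Q ≤ S := by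
  obtain ⟨S', hS'⟩ := hQ.exists_le_sylow
  obtain ⟨g, rfl⟩ := MulAction.exists_smul_eq G S S'
  rwa [Sylow.smul_eq_of_normal] at hS'

/-- a `p`-element of the Fitting subgroup lies in `O_p(G)` -/
theorem mem_pCore_of_mem_fitting_of_pow [Finite G] {p : ℕ} [Fact p.Prime] {g : G}
    (hg : g ∈ Cfsg.fittingSubgroup G) {k : ℕ} (hk : g ^ p ^ k = 1) : g ∈ Cfsg.pCore p G := by
  set F := Cfsg.fittingSubgroup G with hF
  haveI hFn : F.Normal := fittingSubgroup_normal
  haveI hnil : Group.IsNilpotent F := fittingSubgroup_isNilpotent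
  obtain ⟨S⟩ : Nonempty (Sylow p F) := inferInstance
  haveI hSn : (S : Subgroup F).Normal := inferInstance
  haveI hSc : (S : Subgroup F).Characteristic := Sylow.characteristic_of_normal S hSn
  have hgS : (⟨g, hg⟩ : F) ∈ (S : Subgroup F) := by
    have hz : IsPGroup p (Subgroup.zpowers (⟨g, hg⟩ : F)) := by
      rw [IsPGroup.iff_card, Nat.card_zpowers]
      have h1 : orderOf (⟨g, hg⟩ : F) ∣ p ^ k := by
        apply orderOf_dvd_of_pow_eq_one
        apply Subtype.ext
        exact hk
      obtain ⟨i, -, hi⟩ := (Nat.dvd_prime_pow (Fact.out : p.Prime)).1 h1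
      exact ⟨i, hi⟩
    exact le_of_normal_sylow S hz (Subgroup.mem_zpowers _)
  set N : Subgroup G := (S : Subgroup F).map F.subtype with hN
  have hNn : N.Normal := by
    rw [← Subgroup.normalizer_eq_top_iff, eq_top_iff]
    refine le_trans ?_ (normalizer_le_normalizer_map_characteristic F (S : Subgroup F))
    rw [Subgroup.normalizer_eq_top_iff.2 hFn]
  have hNp : IsPGroup p N := S.isPGroup'.map _
  exact le_pCore hNn hNp ⟨⟨g, hg⟩, hgS, rfl⟩

/-- `⟨x, g⟩` is nilpotent for every `x` -/
def NilPair (g : G) : Prop := ∀ x : G, Group.IsNilpotent (Subgroup.closure ({x, g} : Set G))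

theorem NilPair.pow {g : G} (hg : NilPair g) (k : ℕ) : NilPair (g ^ k) := by
  intro x
  have hle : Subgroup.closure ({x, g ^ k} : Set G) ≤ Subgroup.closure ({x, g} : Set G) := by
    rw [Subgroup.closure_le]
    intro y hy
    rcases hy with rfl | hy
    · exact Subgroup.subset_closure (Set.mem_insert _ _)
    · rw [Set.mem_singleton_iff] at hy
      rw [hy, SetLike.mem_coe]
      have hgm : g ∈ Subgroup.closure ({x, g} : Set G) :=
        Subgroup.subset_closure (Set.mem_insert_of_mem _ rfl)
      exact Subgroup.pow_mem _ hgm k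
  exact isNilpotent_of_le (hg x) hle

theorem NilPair.isLeftEngel {g : G} (hg : NilPair g) : IsLeftEngel g := by
  intro x
  obtain ⟨n, hn⟩ := (Subgroup.isNilpotent_iff_lowerCentralSeries _).1 (hg x)
  refine ⟨n, ?_⟩
  have := engel_mem_lcs (Subgroup.closure ({x, g} : Set G)) g x
    (Subgroup.subset_closure (Set.mem_insert_of_mem _ rfl))
    (Subgroup.subset_closure (Set.mem_insert _ _)) n
  rwa [hn, Subgroup.mem_bot] at this

theorem NilPair.commute_of_coprime [Finite G] {g : G} (hg : NilPair g) {x : G}
    (h : (orderOf x).Coprime (orderOf g)) : x * g = g * x := by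
  haveI := hg x
  have hx : x ∈ Subgroup.closure ({x, g} : Set G) :=
    Subgroup.subset_closure (Set.mem_insert _ _)
  have hg' : g ∈ Subgroup.closure ({x, g} : Set G) :=
    Subgroup.subset_closure (Set.mem_insert_of_mem _ rfl)
  have := commute_of_isNilpotent_of_coprime (H := Subgroup.closure ({x, g} : Set G))
    (a := ⟨x, hx⟩) (b := ⟨g, hg'⟩) (by rwa [Subgroup.orderOf_mk, Subgroup.orderOf_mk])
  exact congrArg Subtype.val this.eq

theorem NilPair.center_ne_bot [Finite G] {g : G} (hg : NilPair g) (hg1 : g ≠ 1) :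
    Subgroup.center G ≠ ⊥ := by
  classical
  have ho : orderOf g ≠ 1 := fun h => hg1 (orderOf_eq_one_iff.1 h)
  obtain ⟨p, hp, hpdvd⟩ := Nat.exists_prime_and_dvd ho
  haveI := Fact.mk hp
  have hog' : orderOf (g ^ (orderOf g / p)) = p :=
    orderOf_pow_orderOf_div (orderOf_pos g).ne' hpdvd
  have hN' : NilPair (g ^ (orderOf g / p)) := hg.pow _
  generalize g ^ (orderOf g / p) = g' at hog' hN'
  have hF : g' ∈ Cfsg.fittingSubgroup G := leftEngel_mem_fitting hN'.isLeftEngel
  have hR : g' ∈ Cfsg.pCore p G := mem_pCore_of_mem_fitting_of_pow hF (k := 1) (by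
    rw [pow_one, ← hog']; exact pow_orderOf_eq_one g')
  have hcent : g' ∈ Subgroup.centralizer {x : G | (orderOf x).Coprime p} := by
    rw [Subgroup.mem_centralizer_iff]
    intro x hx
    exact hN'.commute_of_coprime (by rw [hog']; exact hx)
  have hCn : (Subgroup.centralizer {x : G | (orderOf x).Coprime p}).Normal := by
    constructor
    intro c hc y
    rw [Subgroup.mem_centralizer_iff] at hc ⊢
    intro x hx
    have hx' : y⁻¹ * x * y ∈ {x : G | (orderOf x).Coprime p} := by
      show (orderOf (y⁻¹ * x * y)).Coprime p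
      have h1 : y⁻¹ * x * y = MulAut.conj y⁻¹ x := by rw [MulAut.conj_apply, inv_inv]
      rw [h1, MulEquiv.orderOf_eq (MulAut.conj y⁻¹) x]
      exact hx
    have := hc _ hx'
    calc x * (y * c * y⁻¹) = y * ((y⁻¹ * x * y) * c) * y⁻¹ := by group
      _ = y * (c * (y⁻¹ * x * y)) * y⁻¹ := by rw [this]
      _ = y * c * y⁻¹ * x := by group
  haveI hRn : (Cfsg.pCore p G).Normal := pCore_normal p
  set D : Subgroup G := Cfsg.pCore p G ⊓ Subgroup.centralizer {x : G | (orderOf x).Coprime p}
    with hD
  have hDn : D.Normal := inferInstance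
  have hDne : D ≠ ⊥ := by
    intro h
    have : g' ∈ D := ⟨hR, hcent⟩
    rw [h, Subgroup.mem_bot] at this
    rw [this, orderOf_one] at hog'
    exact hp.one_lt.ne hog'
  obtain ⟨P⟩ : Nonempty (Sylow p G) := inferInstance
  have hDP : D ≤ P := inf_le_left.trans (pCore_le_sylow p P)
  haveI : Group.IsNilpotent P := P.isPGroup'.isNilpotent
  haveI : (D.subgroupOf P).Normal := hDn.subgroupOf _
  have hD'ne : D.subgroupOf P ≠ ⊥ := by
    intro h
    apply hDne
    rw [eq_bot_iff]
    intro d hd
    have : (⟨d, hDP hd⟩ : P) ∈ D.subgroupOf P := hd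
    rw [h, Subgroup.mem_bot] at this
    exact congrArg Subtype.val this
  have hne := normal_inf_center_ne_bot (D.subgroupOf (P : Subgroup G)) hD'ne
  obtain ⟨z, hz, hz1⟩ : ∃ z ∈ D.subgroupOf (P : Subgroup G) ⊓ Subgroup.center P, z ≠ 1 := by
    by_contra hcon
    push Not at hcon
    apply hne
    rw [eq_bot_iff]
    intro z hz
    rw [Subgroup.mem_bot]
    exact hcon z hz
  have hzD : (z : G) ∈ D := hz.1
  have hzZ : z ∈ Subgroup.center P := hz.2
  have hC : Subgroup.centralizer {(z : G)} = ⊤ := by
    apply eq_top_of_forall_sylow_le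
    intro q hq
    by_cases hqp : q = p
    · subst hqp
      refine ⟨P, ?_⟩
      intro y hy
      rw [Subgroup.mem_centralizer_singleton_iff]
      have := Subgroup.mem_center_iff.1 hzZ ⟨y, hy⟩
      exact congrArg Subtype.val this
    · obtain ⟨Q⟩ : Nonempty (Sylow q G) := inferInstance
      refine ⟨Q, ?_⟩
      intro y hy
      rw [Subgroup.mem_centralizer_singleton_iff]
      have hyS : y ∈ {x : G | (orderOf x).Coprime p} := by
        show (orderOf y).Coprime p
        obtain ⟨k, hk⟩ := Q.isPGroup' ⟨y, hy⟩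
        have h1 : orderOf y ∣ q ^ k := orderOf_dvd_of_pow_eq_one (by
          have := congrArg Subtype.val hk
          rwa [Subgroup.coe_pow] at this)
        exact Nat.Coprime.coprime_dvd_left h1
          (Nat.Coprime.pow_left k ((Nat.coprime_primes hq.out hp).2 hqp))
      exact (Subgroup.mem_centralizer_iff.1 hzD.2) y hyS
  intro hbot
  apply hz1
  have hzc : (z : G) ∈ Subgroup.center G := by
    rw [Subgroup.mem_center_iff]
    intro y
    have : y ∈ Subgroup.centralizer {(z : G)} := by rw [hC]; trivial
    rw [Subgroup.mem_centralizer_singleton_iff] at this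
    exact this
  rw [hbot, Subgroup.mem_bot] at hzc
  exact Subtype.ext hzc

theorem NilPair.map {H : Type*} [Group H] {g : G} (hg : NilPair g) (f : G →* H)
    (hf : Function.Surjective f) : NilPair (f g) := by
  intro y
  obtain ⟨x, rfl⟩ := hf y
  have h1 : Subgroup.closure ({f x, f g} : Set H) =
      (Subgroup.closure ({x, g} : Set G)).map f := by
    rw [MonoidHom.map_closure, Set.image_pair]
  rw [h1]
  haveI := hg x
  exact Group.nilpotent_of_surjective _ (f.subgroupMap_surjective _)

theorem isCyclic_of_le_zpowers' (H : Subgroup G) (g : G)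
    (h : H ≤ Subgroup.zpowers g) : IsCyclic H := by
  have e := Subgroup.subgroupOfEquivOfLe h
  exact isCyclic_of_surjective e e.surjective

end general

theorem NilPair.mem_hypercenter_aux : ∀ (n : ℕ) (G : Type u) [Group G] [Finite G],
    Nat.card G = n → ∀ g : G, NilPair g → g ∈ ⨆ k : ℕ, Subgroup.upperCentralSeries G k := by
  intro n
  induction n using Nat.strong_induction_on with
  | _ n ih =>
    intro G _ _ hn g hg
    by_cases hg1 : g = 1
    · rw [hg1]; exact Subgroup.one_mem _
    have hZ := hg.center_ne_bot hg1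
    have hlt : Nat.card (G ⧸ Subgroup.center G) < n := hn ▸ card_quotient_lt_of_ne_bot _ hZ
    have h1 := ih _ hlt (G ⧸ Subgroup.center G) rfl _
      (hg.map (QuotientGroup.mk' _) (QuotientGroup.mk'_surjective _))
    obtain ⟨k, hk⟩ := (Subgroup.mem_iSup_of_directed
      (Monotone.directed_le (Subgroup.upperCentralSeries_mono _))).1 h1
    have h2 : g ∈ Subgroup.upperCentralSeries G (k + 1) := by
      rw [← Subgroup.comap_upperCentralSeries_quotient_center]
      exact hk
    exact Subgroup.mem_iSup_of_mem (k + 1) h2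

theorem NilPair.mem_hypercenter {G : Type u} [Group G] [Finite G] {g : G} (hg : NilPair g) :
    g ∈ ⨆ k : ℕ, Subgroup.upperCentralSeries G k :=
  NilPair.mem_hypercenter_aux _ G rfl g hg

theorem nilPair_of_mem_upperCentralSeries : ∀ (k : ℕ) (G : Type u) [Group G] (g : G),
    g ∈ Subgroup.upperCentralSeries G k → NilPair g := by
  intro k
  induction k with
  | zero =>
    intro G _ g hg x
    rw [Subgroup.upperCentralSeries_zero, Subgroup.mem_bot] at hg
    subst hg
    have hle : Subgroup.closure ({x, 1} : Set G) ≤ Subgroup.zpowers x := by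
      rw [Subgroup.closure_le]
      intro y hy
      rcases hy with rfl | hy
      · exact Subgroup.mem_zpowers _
      · rw [Set.mem_singleton_iff] at hy
        rw [hy]
        exact Subgroup.one_mem _
    haveI : IsCyclic (Subgroup.closure ({x, 1} : Set G)) := isCyclic_of_le_zpowers' _ x hle
    letI : CommGroup (Subgroup.closure ({x, 1} : Set G)) := IsCyclic.commGroup
    exact CommGroup.isNilpotent
  | succ k ih =>
    intro G _ g hg x
    have h1 : QuotientGroup.mk' (Subgroup.center G) g ∈
        Subgroup.upperCentralSeries (G ⧸ Subgroup.center G) k := by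
      have : g ∈ Subgroup.comap (QuotientGroup.mk' (Subgroup.center G))
          (Subgroup.upperCentralSeries (G ⧸ Subgroup.center G) k) := by
        rw [Subgroup.comap_upperCentralSeries_quotient_center]; exact hg
      exact this
    have h2 := ih (G ⧸ Subgroup.center G) _ h1 (QuotientGroup.mk' (Subgroup.center G) x)
    have h3 : Subgroup.closure ({QuotientGroup.mk' (Subgroup.center G) x,
        QuotientGroup.mk' (Subgroup.center G) g} : Set (G ⧸ Subgroup.center G)) =
        (Subgroup.closure ({x, g} : Set G)).map (QuotientGroup.mk' (Subgroup.center G)) := by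
      rw [MonoidHom.map_closure, Set.image_pair]
    rw [h3] at h2
    haveI := h2
    refine Subgroup.isNilpotent_of_ker_le_center
      ((QuotientGroup.mk' (Subgroup.center G)).subgroupMap (Subgroup.closure ({x, g} : Set G))) ?_
    intro z hz
    rw [MonoidHom.mem_ker] at hz
    have hz' : QuotientGroup.mk' (Subgroup.center G) (z : G) = 1 := congrArg Subtype.val hz
    have hzc : (z : G) ∈ Subgroup.center G := by
      rwa [QuotientGroup.mk'_apply, QuotientGroup.eq_one_iff] at hz'
    rw [Subgroup.mem_center_iff]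
    intro y
    exact Subtype.ext (Subgroup.mem_center_iff.1 hzc y)

end Cfsg.Agent.Lib.Helper2
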