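import Mathlib
import Cfsg.Agent.Lib.Helper1.ThompsonFPF5
import Cfsg.Agent.Lib.Helper1.Coprime
import Cfsg.Agent.Lib.Helper1.CoprimeSylow
import Cfsg.Agent.Lib.Helper1.GB1
import Cfsg.Agent.Lib.Helper1.BG8b
import Cfsg.Agent.Lib.Helper1.BGG10
import Cfsg.Agent.Lib.Helper1.XS20
import Cfsg.Agent.Lib.Helper2.Hypercenter
import Cfsg.Agent.S1445

set_option autoImplicit false
set_option maxHeartbeats 4000000
set_option linter.unusedVariables false
set_option linter.unusedSectionVars false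
set_option linter.style.longLine false
set_option linter.unusedSimpArgs false
set_option linter.deprecated false
set_option linter.style.haveILetI false

/-!
# Abstract lemmas for B&G Theorem 15.2 (prime action, Thompson on a quotient)
-/

open scoped commutatorElement Pointwise
universe u
namespace Cfsg.Agent.Lib.Helper2.BGL

open Cfsg Cfsg.Agent.Lib.Helper1

variable {X : Type u} [Group X] [Finite X]

omit [Finite X] in
theorem comm_iff_conj_mul_inv_eq_one (u v : X) : v * u = u * v ↔ u * v * u⁻¹ * v⁻¹ = 1 := by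
  constructor
  · intro h
    calc u * v * u⁻¹ * v⁻¹ = (v * u) * u⁻¹ * v⁻¹ := by rw [h]
      _ = 1 := by group
  · intro h
    have e : u * v = (u * v * u⁻¹ * v⁻¹) * (v * u) := by group
    rw [h, one_mul] at e
    exact e.symm

omit [Finite X] in
theorem mem_iff_mk_eq_one (Q : Subgroup X) [Q.Normal] (t : X) :
    t ∈ Q ↔ QuotientGroup.mk' Q t = 1 := by
  rw [← MonoidHom.mem_ker, QuotientGroup.ker_mk']

omit [Finite X] in
theorem le_normalizer_of_normal (B S : Subgroup X) [hS : S.Normal] :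
    B ≤ Subgroup.normalizer (S : Set X) := by
  rw [Subgroup.normalizer_eq_top_iff.mpr hS]; exact le_top

/-- **Thompson on a quotient.** If `a` (of prime order dividing `r`) acts on `S/Q` without fixed
points, then `S/Q` is nilpotent. -/
theorem isNilpotent_map_mk_of_fpf (S Q : Subgroup X) [hS : S.Normal] [hQ : Q.Normal]
    {a : X} {r : ℕ} (hr : r.Prime) (har : a ^ r = 1)
    (hfix : ∀ x ∈ S, a * x * a⁻¹ * x⁻¹ ∈ Q → x ∈ Q) :
    Group.IsNilpotent ↥(S.map (QuotientGroup.mk' Q)) := by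
  haveI hSb : (S.map (QuotientGroup.mk' Q)).Normal :=
    Subgroup.Normal.map hS _ (QuotientGroup.mk'_surjective Q)
  obtain ⟨φ, hφdef⟩ : ∃ φ : ↥(S.map (QuotientGroup.mk' Q)) ≃* ↥(S.map (QuotientGroup.mk' Q)),
      φ = MulAut.conjNormal (H := S.map (QuotientGroup.mk' Q)) (QuotientGroup.mk' Q a) :=
    ⟨_, rfl⟩
  have hφapp : ∀ n : ↥(S.map (QuotientGroup.mk' Q)),
      ((φ n : ↥(S.map (QuotientGroup.mk' Q))) : X ⧸ Q) =
        QuotientGroup.mk' Q a * n * (QuotientGroup.mk' Q a)⁻¹ := by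
    intro n; rw [hφdef]; exact MulAut.conjNormal_apply _ _
  have hpow : φ ^ r = 1 := by
    rw [hφdef, ← map_pow, ← map_pow, har, map_one, map_one]
  have hfpf : MonoidHom.FixedPointFree
      (φ : ↥(S.map (QuotientGroup.mk' Q)) →* ↥(S.map (QuotientGroup.mk' Q))) := by
    intro n hn
    have h1 : ((φ n : ↥(S.map (QuotientGroup.mk' Q))) : X ⧸ Q) = n := congrArg Subtype.val hn
    rw [hφapp] at h1
    obtain ⟨x, hxS, hx⟩ := n.2
    rw [← hx] at h1
    have h2 : QuotientGroup.mk' Q (a * x * a⁻¹ * x⁻¹) = 1 := by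
      rw [map_mul, map_mul, map_mul, map_inv, map_inv, h1, mul_inv_cancel]
    have h3 : a * x * a⁻¹ * x⁻¹ ∈ Q := by
      rw [← QuotientGroup.ker_mk' Q]; exact MonoidHom.mem_ker.mpr h2
    have h4 := hfix x hxS h3
    have h5 : QuotientGroup.mk' Q x = 1 := by
      apply MonoidHom.mem_ker.mp
      rw [QuotientGroup.ker_mk' Q]; exact h4
    apply Subtype.ext
    rw [← hx, h5]
    rfl
  exact ThompsonFPF.isNilpotent_of_fpf hr _ _ rfl φ hfpf hpow

/-- coprime version: if `C_S(a) ≤ Q` then `S/Q` is nilpotent -/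
theorem isNilpotent_map_mk_of_centralizer_le (S Q : Subgroup X) [hS : S.Normal] [hQ : Q.Normal]
    (hQS : Q ≤ S) {a : X} {r : ℕ} (hr : r.Prime) (har : a ^ r = 1)
    (hcop : (Nat.card (Subgroup.zpowers a)).Coprime (Nat.card S))
    (hZ : S ⊓ Subgroup.centralizer ({a} : Set X) ≤ Q) :
    Group.IsNilpotent ↥(S.map (QuotientGroup.mk' Q)) := by
  apply isNilpotent_map_mk_of_fpf S Q hr har
  intro x hxS hx
  obtain ⟨T, hTdef⟩ : ∃ T : Subgroup X, T = (Subgroup.centralizer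
      ({QuotientGroup.mk' Q x} : Set (X ⧸ Q))).comap (QuotientGroup.mk' Q) := ⟨_, rfl⟩
  have hmemT : ∀ g : X, g ∈ T ↔ g * x * g⁻¹ * x⁻¹ ∈ Q := by
    intro g
    rw [hTdef, Subgroup.mem_comap, Subgroup.mem_centralizer_singleton_iff,
      mem_iff_mk_eq_one Q, map_mul, map_mul, map_mul, map_inv, map_inv]
    exact eq_comm.trans (comm_iff_conj_mul_inv_eq_one (X := X ⧸ Q) _ _)
  have haT : a ∈ T := (hmemT a).mpr hx
  have hAT : Subgroup.zpowers a ≤ T := Subgroup.zpowers_le.mpr haT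
  obtain ⟨c, hc, hxc⟩ := coprime_fixed_points_quotient (Subgroup.zpowers a) S
    (le_normalizer_of_normal _ S) hcop (Or.inl (GB.isSolvable_zpowers a)) Q hQS
    (le_normalizer_of_normal _ Q) (le_normalizer_of_normal _ Q) x hxS
    (fun g hg => (hmemT g).mp (hAT hg))
  have hcQ : c ∈ Q := by
    apply hZ
    refine Subgroup.mem_inf.mpr ⟨(Subgroup.mem_inf.mp hc).1, ?_⟩
    refine Subgroup.centralizer_le ?_ (Subgroup.mem_inf.mp hc).2
    intro y hy
    rw [Set.mem_singleton_iff.mp hy]; exact Subgroup.mem_zpowers a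
  have e : x = c * (x⁻¹ * c)⁻¹ := by group
  rw [e]; exact Q.mul_mem hcQ (Q.inv_mem hxc)

/-- prime action with `[S, K] = S` and `S` not nilpotent puts `C_S(K)` (of prime order `q`) into
`O_q(S)` -/
theorem centralizer_le_pCore_of_prime_action [hsolv : Group.IsSolvable X]
    (hodd : Odd (Nat.card X)) (S K : Subgroup X) [hS : S.Normal] (hSK : S ⊔ K = ⊤)
    (hcop : (Nat.card S).Coprime (Nat.card K))
    (hprime : ∀ x ∈ K, x ≠ 1 → S ⊓ Subgroup.centralizer ({x} : Set X) =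
      S ⊓ Subgroup.centralizer (K : Set X))
    (hcomm : ⁅S, K⁆ = S) (hnn : ¬ Group.IsNilpotent ↥S) {q : ℕ} [hq : Fact q.Prime]
    (hZ : Nat.card ↥(S ⊓ Subgroup.centralizer (K : Set X)) = q) :
    S ⊓ Subgroup.centralizer (K : Set X) ≤ (pCore q ↥S).map S.subtype := by
  have h45 := Cfsg.Agent.S1445.result hodd S K hSK hcop hprime
  have hF : fittingOf S ⊓ Subgroup.centralizer (K : Set X) ≠ ⊥ := by
    intro hbot
    have h1 := h45 hbot
    rw [hcomm] at h1
    apply hnn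
    have htop : fittingSubgroup ↥S = ⊤ := by
      rw [eq_top_iff]
      intro s _
      obtain ⟨w, hw, hws⟩ := h1 s.2
      have hw' : w = s := Subtype.ext hws
      rw [← hw']; exact hw
    haveI : Group.IsNilpotent ↥(fittingSubgroup ↥S) := fittingSubgroup_isNilpotent
    exact Group.nilpotent_of_mulEquiv ((MulEquiv.subgroupCongr htop).trans Subgroup.topEquiv)
  obtain ⟨z, hz, hz1⟩ : ∃ z ∈ fittingOf S ⊓ Subgroup.centralizer (K : Set X), z ≠ 1 := by
    by_contra hcon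
    push Not at hcon
    apply hF
    rw [eq_bot_iff]
    intro z hz
    exact Subgroup.mem_bot.mpr (hcon z hz)
  obtain ⟨w, hw, hwz⟩ := (Subgroup.mem_inf.mp hz).1
  have hwz' : (w : X) = z := hwz
  have hzS : z ∈ S := by rw [← hwz']; exact w.2
  have hzZ : z ∈ S ⊓ Subgroup.centralizer (K : Set X) :=
    Subgroup.mem_inf.mpr ⟨hzS, (Subgroup.mem_inf.mp hz).2⟩
  have hZz : Subgroup.zpowers z = S ⊓ Subgroup.centralizer (K : Set X) :=
    BGG.zpowers_eq_of_prime_card (by rw [hZ]; exact hq.out) hzZ hz1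
  have hwq : IsPGroup q (Subgroup.zpowers w) := by
    have h1 : orderOf (w : X) = orderOf w := Subgroup.orderOf_coe w
    have h2 : orderOf z = q := by rw [← Nat.card_zpowers, hZz, hZ]
    exact IsPGroup.of_card (n := 1) (by rw [Nat.card_zpowers, ← h1, hwz', h2, pow_one])
  have hwp := BG8.isPGroup_le_pCore_of_le_fitting (Subgroup.zpowers_le.mpr hw) hwq
  have hzQ : z ∈ (pCore q ↥S).map S.subtype := ⟨w, hwp (Subgroup.mem_zpowers w), hwz⟩
  rw [← hZz]
  exact Subgroup.zpowers_le.mpr hzQ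

/-- if `S/Q` is nilpotent and `Q` contains every normal `q`-subgroup of `S`, then `Q` contains every
`q`-subgroup of `S` -/
theorem isPGroup_le_of_nilpotent_quotient (S Q : Subgroup X) [hS : S.Normal] [hQ : Q.Normal]
    (hQS : Q ≤ S) {q : ℕ} [hq : Fact q.Prime] (hQq : IsPGroup q Q)
    (hnil : Group.IsNilpotent ↥(S.map (QuotientGroup.mk' Q)))
    (hmax : ∀ T : Subgroup X, T ≤ S → IsPGroup q T → S ≤ Subgroup.normalizer (T : Set X) → T ≤ Q)
    {P : Subgroup X} (hPS : P ≤ S) (hP : IsPGroup q P) : P ≤ Q := by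
  obtain ⟨P₀⟩ : Nonempty (Sylow q ↥(S.map (QuotientGroup.mk' Q))) := inferInstance
  haveI hP₀n : (P₀ : Subgroup ↥(S.map (QuotientGroup.mk' Q))).Normal := inferInstance
  obtain ⟨T₀, hT₀def⟩ : ∃ T₀ : Subgroup X, T₀ =
      ((P₀ : Subgroup ↥(S.map (QuotientGroup.mk' Q))).map
        (S.map (QuotientGroup.mk' Q)).subtype).comap (QuotientGroup.mk' Q) := ⟨_, rfl⟩
  have hmemT : ∀ x : X, x ∈ T₀ ↔ ∃ y : ↥(S.map (QuotientGroup.mk' Q)),
      y ∈ (P₀ : Subgroup ↥(S.map (QuotientGroup.mk' Q))) ∧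
        (y : X ⧸ Q) = QuotientGroup.mk' Q x := by
    intro x
    rw [hT₀def, Subgroup.mem_comap, Subgroup.mem_map]
    rfl
  have hT₀S : T₀ ≤ S := by
    intro x hx
    obtain ⟨y, -, hy⟩ := (hmemT x).mp hx
    obtain ⟨s, hsS, hs⟩ := y.2
    rw [hy] at hs
    have h1 : s⁻¹ * x ∈ Q := by
      rw [← QuotientGroup.ker_mk' Q, MonoidHom.mem_ker, map_mul, map_inv, hs, inv_mul_cancel]
    have e : x = s * (s⁻¹ * x) := by group
    rw [e]; exact S.mul_mem hsS (hQS h1)
  have hT₀q : IsPGroup q T₀ := by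
    rw [hT₀def]
    apply IsPGroup.comap_of_ker_isPGroup (P₀.isPGroup'.map _)
    rw [QuotientGroup.ker_mk' Q]; exact hQq
  have hT₀n : S ≤ Subgroup.normalizer (T₀ : Set X) := by
    apply le_normalizer_of_conj_mem
    intro s hs x hx
    obtain ⟨y, hyP, hy⟩ := (hmemT x).mp hx
    obtain ⟨t, htdef⟩ : ∃ t : ↥(S.map (QuotientGroup.mk' Q)),
        t = ⟨QuotientGroup.mk' Q s, Subgroup.mem_map_of_mem _ hs⟩ := ⟨_, rfl⟩
    refine (hmemT _).mpr ⟨t * y * t⁻¹, hP₀n.conj_mem y hyP t, ?_⟩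
    rw [map_mul, map_mul, map_inv, ← hy, htdef]
    rfl
  have hT₀Q : T₀ ≤ Q := hmax T₀ hT₀S hT₀q hT₀n
  intro x hx
  apply hT₀Q
  have hxSb : QuotientGroup.mk' Q x ∈ S.map (QuotientGroup.mk' Q) :=
    Subgroup.mem_map_of_mem _ (hPS hx)
  obtain ⟨Pb, hPbdef⟩ : ∃ Pb : Subgroup ↥(S.map (QuotientGroup.mk' Q)),
      Pb = (P.map (QuotientGroup.mk' Q)).subgroupOf (S.map (QuotientGroup.mk' Q)) := ⟨_, rfl⟩
  have hPb : IsPGroup q Pb := by
    rw [hPbdef]
    exact (hP.map (QuotientGroup.mk' Q)).comap_subtype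
  have hle := Cfsg.Agent.Lib.Helper2.le_of_normal_sylow P₀ hPb
  refine (hmemT x).mpr ⟨⟨QuotientGroup.mk' Q x, hxSb⟩, hle ?_, rfl⟩
  rw [hPbdef, Subgroup.mem_subgroupOf]
  exact Subgroup.mem_map_of_mem _ hx

end Cfsg.Agent.Lib.Helper2.BGL
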