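import Mathlib
import Cfsg.Agent.Lib.Helper2.BGL1
import Cfsg.Agent.Lib.Helper2.BGL2
import Cfsg.Agent.Lib.Helper7.BGK17
import Cfsg.Agent.Lib.Lead.FittingHall
import Cfsg.Agent.S1426

set_option autoImplicit false
set_option maxHeartbeats 4000000
set_option linter.unusedVariables false
set_option linter.unusedSectionVars false
set_option linter.style.longLine false
set_option linter.unusedSimpArgs false
set_option linter.deprecated false
set_option linter.style.haveILetI false

/-!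
# B&G Theorem 15.2: maximal subgroups `M = K M_σ` with `M_σ` not nilpotent (type `P1N`)
-/

open scoped commutatorElement Pointwise
universe u
namespace Cfsg.Agent.Lib.Helper2.BGL

open Cfsg Cfsg.Agent.Lib.Helper1 Cfsg.Agent.Lib.Helper7 Cfsg.Agent.Lib.Helper3
  Cfsg.Agent.Lib.Helper7.BGRows Cfsg.Agent.Lib.Lead

variable {G : Type u} [Group G] [Finite G]

/-! ### bridging between `G` and `↥M` -/

section bridge

variable {M : Subgroup G}

omit [Finite G] in
theorem map_subgroupOf_eq {H : Subgroup G} (h : H ≤ M) :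
    (H.subgroupOf M).map M.subtype = H := by
  rw [Subgroup.subgroupOf_map_subtype, inf_eq_left.mpr h]

omit [Finite G] in
theorem mem_centralizer_subgroupOf_iff {B : Subgroup G} (hBM : B ≤ M) (y : ↥M) :
    y ∈ Subgroup.centralizer ((B.subgroupOf M : Subgroup ↥M) : Set ↥M) ↔
      (y : G) ∈ Subgroup.centralizer (B : Set G) := by
  rw [Subgroup.mem_centralizer_iff, Subgroup.mem_centralizer_iff]
  constructor
  · intro h b hb
    have h1 := h ⟨b, hBM hb⟩ (Subgroup.mem_subgroupOf.mpr hb)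
    have h2 : b * (y : G) = (y : G) * b := congrArg Subtype.val h1
    exact h2
  · intro h b hb
    apply Subtype.ext
    exact h b.1 (Subgroup.mem_subgroupOf.mp hb)

omit [Finite G] in
theorem mem_centralizer_singleton_coe_iff (a y : ↥M) :
    y ∈ Subgroup.centralizer ({a} : Set ↥M) ↔
      (y : G) ∈ Subgroup.centralizer ({(a : G)} : Set G) := by
  rw [Subgroup.mem_centralizer_singleton_iff, Subgroup.mem_centralizer_singleton_iff]
  constructor
  · intro h
    have h2 : (y : G) * (a : G) = (a : G) * (y : G) := congrArg Subtype.val h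
    exact h2
  · intro h; exact Subtype.ext h

omit [Finite G] in
theorem subgroupOf_inf_centralizer {A B : Subgroup G} (hBM : B ≤ M) :
    A.subgroupOf M ⊓ Subgroup.centralizer ((B.subgroupOf M : Subgroup ↥M) : Set ↥M) =
      (A ⊓ Subgroup.centralizer (B : Set G)).subgroupOf M := by
  ext y
  rw [Subgroup.mem_inf, Subgroup.mem_subgroupOf, Subgroup.mem_subgroupOf, Subgroup.mem_inf,
    mem_centralizer_subgroupOf_iff hBM]

omit [Finite G] in
theorem subgroupOf_inf_centralizer_singleton {A : Subgroup G} (a : ↥M) :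
    A.subgroupOf M ⊓ Subgroup.centralizer ({a} : Set ↥M) =
      (A ⊓ Subgroup.centralizer ({(a : G)} : Set G)).subgroupOf M := by
  ext y
  rw [Subgroup.mem_inf, Subgroup.mem_subgroupOf, Subgroup.mem_subgroupOf, Subgroup.mem_inf,
    mem_centralizer_singleton_coe_iff]

omit [Finite G] in
theorem piCore_eq_subgroupOf (M : Subgroup G) :
    piCore (sigma M) ↥M = (sigmaCore M).subgroupOf M := by
  unfold sigmaCore Subgroup.subgroupOf
  rw [Subgroup.comap_map_eq_self_of_injective M.subtype_injective]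

omit [Finite G] in
theorem mem_piCore_iff (y : ↥M) : y ∈ piCore (sigma M) ↥M ↔ (y : G) ∈ sigmaCore M := by
  rw [piCore_eq_subgroupOf, Subgroup.mem_subgroupOf]

omit [Finite G] in
theorem fittingHall_eq_subgroupOf (M : Subgroup G) :
    fittingHall ↥M = (fittingHallOf M).subgroupOf M := by
  unfold fittingHallOf Subgroup.subgroupOf
  rw [Subgroup.comap_map_eq_self_of_injective M.subtype_injective]

omit [Finite G] in
theorem mem_fittingHall_iff (y : ↥M) : y ∈ fittingHall ↥M ↔ (y : G) ∈ fittingHallOf M := by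
  rw [fittingHall_eq_subgroupOf, Subgroup.mem_subgroupOf]

omit [Finite G] in
theorem commutator_eq_subgroupOf (M : Subgroup G) :
    commutator ↥M = (⁅M, M⁆).subgroupOf M := by
  unfold Subgroup.subgroupOf
  rw [← Subgroup.map_subtype_commutator M,
    Subgroup.comap_map_eq_self_of_injective M.subtype_injective]

end bridge

/-! ### the `P1N` situation -/

/-- `M = K M_σ` with `K ≠ 1` and `M_σ` not nilpotent -/
structure P1N (M K : Subgroup G) : Prop where
  hG : IsMinSimpleOddOrder G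
  hM : IsCoatom M
  decomp : IsSigmaDecomposition M K ⊥
  ne : K ≠ ⊥
  nn : ¬ Group.IsNilpotent ↥(sigmaCore M)
  r1430 : Row1430 G
  r1431 : Row1431 G

namespace P1N

variable {M K : Subgroup G}

theorem hall (h : P1N M K) : IsPiHallOf (kappa M) K M := h.decomp.hall

theorem card_eq (h : P1N M K) : Nat.card M = Nat.card (sigmaCore M) * Nat.card K :=
  BGK.card_of_decomp_bot h.hG h.hM h.decomp

theorem coprime (h : P1N M K) : (Nat.card K).Coprime (Nat.card (sigmaCore M)) :=
  BGD.coprime_sigmaCore h.hG h.hM (fun q hq hqK => (h.hall.2.1 q hq hqK).2.2.1)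

theorem compl (h : P1N M K) : IsComplIn K (sigmaCore M) M :=
  BGK.complIn_of_card_le h.hall.1 (BGE.sigmaCore_le M)
    (Subgroup.inf_eq_bot_of_coprime h.coprime) (by rw [h.card_eq, mul_comm])

theorem prime_action (h : P1N M K) : ∀ k ∈ K, k ≠ 1 →
    sigmaCore M ⊓ Subgroup.centralizer ({k} : Set G) =
      sigmaCore M ⊓ Subgroup.centralizer (K : Set G) :=
  (h.r1430 h.hG M h.hM K h.hall h.ne).1

theorem kstar_prime (h : P1N M K) :
    (Nat.card ↥(sigmaCore M ⊓ Subgroup.centralizer (K : Set G))).Prime :=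
  BGK.s1373_of h.r1430 h.r1431 h.hG M h.hM K ⊥ h.decomp h.ne rfl

theorem comm_eq (h : P1N M K) : ⁅sigmaCore M, K⁆ = sigmaCore M :=
  (Cfsg.Agent.S1426.result h.hG M h.hM K h.compl).2.1

theorem sup_eq (h : P1N M K) : sigmaCore M ⊔ K = M := by
  apply le_antisymm (sup_le (BGE.sigmaCore_le M) h.hall.1)
  intro m hm
  obtain ⟨a, ha, b, hb, rfl⟩ := h.compl.2.2.2 m hm
  exact Subgroup.mul_mem _ (Subgroup.mem_sup_right ha) (Subgroup.mem_sup_left hb)

theorem derived_eq (h : P1N M K) : ⁅M, M⁆ = sigmaCore M := by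
  have h1 := (BGK.s1365_of h.r1430 h.hG M h.hM K ⊥ h.decomp h.ne).1
  rw [h1, bot_sup_eq]

/-- `q = |K*| ∈ σ(M)` -/
theorem q_mem_sigma (h : P1N M K) :
    Nat.card ↥(sigmaCore M ⊓ Subgroup.centralizer (K : Set G)) ∈ sigma M :=
  (BGA.s1350 h.hG M h.hM).1.2.1 _ h.kstar_prime (Subgroup.card_dvd_of_le inf_le_left)

/-- the quotient of `M_σ` by a normal subgroup of `M` containing `K*` is nilpotent -/
theorem nilpotent_mod (h : P1N M K) (N : Subgroup ↥M) [hN : N.Normal]
    (hNS : N ≤ piCore (sigma M) ↥M)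
    (hZN : ∀ y : ↥M, (y : G) ∈ sigmaCore M ⊓ Subgroup.centralizer (K : Set G) → y ∈ N) :
    Group.IsNilpotent ↥((piCore (sigma M) ↥M).map (QuotientGroup.mk' N)) := by
  obtain ⟨r, k, hr, hkK, hko⟩ := BGK.exists_prime_order_elt h.ne
  obtain ⟨hXc, hXq, hk1⟩ := BGK.zpowers_facts hr hko
  have hkM : k ∈ M := h.hall.1 hkK
  obtain ⟨a, hadef⟩ : ∃ a : ↥M, a = ⟨k, hkM⟩ := ⟨_, rfl⟩
  have har : a ^ r = 1 := by
    apply Subtype.ext
    rw [hadef, Subgroup.coe_pow, Subgroup.coe_one, ← hko]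
    exact pow_orderOf_eq_one k
  have hcop : (Nat.card (Subgroup.zpowers a)).Coprime (Nat.card (piCore (sigma M) ↥M)) := by
    have h1 : Nat.card (Subgroup.zpowers a) = r := by
      rw [Nat.card_zpowers, hadef, ← hko]
      exact (Subgroup.orderOf_mk k hkM)
    have h2 : Nat.card (piCore (sigma M) ↥M) = Nat.card (sigmaCore M) := by
      rw [piCore_eq_subgroupOf, card_subgroupOf_of_le (BGE.sigmaCore_le M)]
    rw [h1, h2]
    have h3 : r ∣ Nat.card K := by rw [← hko]; exact Subgroup.orderOf_dvd_natCard K hkK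
    exact Nat.Coprime.coprime_dvd_left h3 h.coprime
  apply isNilpotent_map_mk_of_centralizer_le (piCore (sigma M) ↥M) N hNS hr har hcop
  intro y hy
  apply hZN
  rw [piCore_eq_subgroupOf, subgroupOf_inf_centralizer_singleton, Subgroup.mem_subgroupOf,
    hadef] at hy
  rw [← h.prime_action k hkK hk1]
  exact hy

/-- the normal Sylow `q`-subgroup `Q` of `M_σ` -/
theorem exists_Q (h : P1N M K) :
    ∃ Q : Subgroup G, Q ≤ sigmaCore M ∧ M ≤ Subgroup.normalizer (Q : Set G) ∧
      IsPGroup (Nat.card ↥(sigmaCore M ⊓ Subgroup.centralizer (K : Set G))) Q ∧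
      sigmaCore M ⊓ Subgroup.centralizer (K : Set G) ≤ Q ∧
      ∀ P : Subgroup G, P ≤ sigmaCore M →
        IsPGroup (Nat.card ↥(sigmaCore M ⊓ Subgroup.centralizer (K : Set G))) P → P ≤ Q := by
  classical
  obtain ⟨q, hqdef⟩ : ∃ q : ℕ,
      q = Nat.card ↥(sigmaCore M ⊓ Subgroup.centralizer (K : Set G)) := ⟨_, rfl⟩
  rw [← hqdef]
  haveI hq : Fact q.Prime := ⟨hqdef ▸ h.kstar_prime⟩
  haveI hMs : Group.IsSolvable ↥M := BG7.isSolvable_of_ne_top h.hG h.hM.1
  have hodd : Odd (Nat.card ↥M) := Odd.of_dvd_nat h.hG.1 (Subgroup.card_subgroup_dvd_card M)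
  have hKM : K ≤ M := h.hall.1
  have hSM : sigmaCore M ≤ M := BGE.sigmaCore_le M
  obtain ⟨S', hS'def⟩ : ∃ S' : Subgroup ↥M, S' = piCore (sigma M) ↥M := ⟨_, rfl⟩
  haveI hS'n : S'.Normal := hS'def ▸ inferInstance
  have hS' : S' = (sigmaCore M).subgroupOf M := hS'def ▸ piCore_eq_subgroupOf M
  obtain ⟨K', hK'def⟩ : ∃ K' : Subgroup ↥M, K' = K.subgroupOf M := ⟨_, rfl⟩
  have hSK : S' ⊔ K' = ⊤ := by
    apply Subgroup.map_injective M.subtype_injective
    rw [Subgroup.map_sup, hS', hK'def, map_subgroupOf_eq hSM, map_subgroupOf_eq hKM,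
      ← MonoidHom.range_eq_map, Subgroup.range_subtype]
    exact h.sup_eq
  have hcop : (Nat.card S').Coprime (Nat.card K') := by
    rw [hS', hK'def, card_subgroupOf_of_le hSM, card_subgroupOf_of_le hKM]
    exact h.coprime.symm
  have hZ' : S' ⊓ Subgroup.centralizer (K' : Set ↥M) =
      (sigmaCore M ⊓ Subgroup.centralizer (K : Set G)).subgroupOf M := by
    rw [hS', hK'def, subgroupOf_inf_centralizer hKM]
  have hprime : ∀ x ∈ K', x ≠ 1 → S' ⊓ Subgroup.centralizer ({x} : Set ↥M) =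
      S' ⊓ Subgroup.centralizer (K' : Set ↥M) := by
    intro x hx hx1
    rw [hZ', hS', subgroupOf_inf_centralizer_singleton]
    have hxK : (x : G) ∈ K := by rw [hK'def] at hx; exact Subgroup.mem_subgroupOf.mp hx
    have hx1' : (x : G) ≠ 1 := fun hh => hx1 (Subtype.ext hh)
    rw [h.prime_action (x : G) hxK hx1']
  have hcomm : ⁅S', K'⁆ = S' := by
    apply Subgroup.map_injective M.subtype_injective
    rw [Subgroup.map_commutator, hS', hK'def, map_subgroupOf_eq hSM, map_subgroupOf_eq hKM]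
    exact h.comm_eq
  have hnn : ¬ Group.IsNilpotent ↥S' := by
    intro hnil
    apply h.nn
    rw [hS'] at hnil
    exact Group.nilpotent_of_mulEquiv (Subgroup.subgroupOfEquivOfLe hSM)
  have hZc : Nat.card ↥(S' ⊓ Subgroup.centralizer (K' : Set ↥M)) = q := by
    rw [hZ', card_subgroupOf_of_le (inf_le_left.trans hSM), hqdef]
  have hZQ := centralizer_le_pCore_of_prime_action hodd S' K' hSK hcop hprime hcomm hnn hZc
  obtain ⟨Q', hQ'def⟩ : ∃ Q' : Subgroup ↥M, Q' = (pCore q ↥S').map S'.subtype := ⟨_, rfl⟩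
  haveI hQ'n : Q'.Normal := hQ'def ▸ XS.pCoreOf_normal S' q
  have hQ'S : Q' ≤ S' := hQ'def ▸ Subgroup.map_subtype_le _
  have hQ'q : IsPGroup q Q' := hQ'def ▸ (Cfsg.Agent.Lib.Helper1.pCore_isPGroup q).map _
  rw [← hQ'def] at hZQ
  have hnil : Group.IsNilpotent ↥(S'.map (QuotientGroup.mk' Q')) := by
    have := h.nilpotent_mod Q' (hS'def ▸ hQ'S) (by
      intro y hy
      apply hZQ
      rw [hZ', Subgroup.mem_subgroupOf]; exact hy)
    rw [hS'def]; exact this
  have hmax : ∀ T : Subgroup ↥M, T ≤ S' → IsPGroup q T →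
      S' ≤ Subgroup.normalizer (T : Set ↥M) → T ≤ Q' := by
    intro T hTS hTq hTn
    have hn : (T.subgroupOf S').Normal :=
      (Subgroup.normal_subgroupOf_iff_le_normalizer hTS).mpr hTn
    have h1 : T.subgroupOf S' ≤ pCore q ↥S' :=
      Cfsg.Agent.Lib.Helper1.le_pCore hn hTq.comap_subtype
    intro t ht
    rw [hQ'def]
    exact ⟨⟨t, hTS ht⟩, h1 (Subgroup.mem_subgroupOf.mpr ht), rfl⟩
  have hall := fun (P : Subgroup ↥M) (hPS : P ≤ S') (hP : IsPGroup q P) =>
    isPGroup_le_of_nilpotent_quotient S' Q' hQ'S hQ'q hnil hmax hPS hP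
  refine ⟨Q'.map M.subtype, ?_, BGK.le_normalizer_map_of_normal Q', hQ'q.map _, ?_, ?_⟩
  · have := Subgroup.map_mono (f := M.subtype) hQ'S
    rwa [hS', map_subgroupOf_eq hSM] at this
  · intro z hz
    have hzM : z ∈ M := hSM (Subgroup.mem_inf.mp hz).1
    refine ⟨⟨z, hzM⟩, hZQ ?_, rfl⟩
    rw [hZ', Subgroup.mem_subgroupOf]; exact hz
  · intro P hPS hP
    have hPM : P ≤ M := hPS.trans hSM
    have h1 : P.subgroupOf M ≤ S' := by
      rw [hS']
      intro y hy
      exact Subgroup.mem_subgroupOf.mpr (hPS (Subgroup.mem_subgroupOf.mp hy))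
    have h2 := hall (P.subgroupOf M) h1 hP.comap_subtype
    have h3 := Subgroup.map_mono (f := M.subtype) h2
    rwa [map_subgroupOf_eq hPM] at h3

end P1N

end Cfsg.Agent.Lib.Helper2.BGL
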