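import Mathlib
import Cfsg.Agent.Lib.Helper2.BGL3
import Cfsg.Agent.Lib.Helper7.BGC1
import Cfsg.Agent.S1415

set_option autoImplicit false
set_option maxHeartbeats 4000000
set_option linter.unusedVariables false
set_option linter.unusedSectionVars false
set_option linter.style.longLine false
set_option linter.unusedSimpArgs false
set_option linter.deprecated false
set_option linter.style.haveILetI false

/-!
# B&G Theorem 15.2(a) (S1355)
-/

open scoped commutatorElement Pointwise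
universe u
namespace Cfsg.Agent.Lib.Helper2.BGL

open Cfsg Cfsg.Agent.Lib.Helper1 Cfsg.Agent.Lib.Helper7 Cfsg.Agent.Lib.Helper3
  Cfsg.Agent.Lib.Helper7.BGRows Cfsg.Agent.Lib.Lead

variable {G : Type u} [Group G] [Finite G]

namespace P1N

variable {M K : Subgroup G}

/-- a `q`-subgroup `Q ≤ M` containing every `q`-subgroup of `M` is a normal Hall subgroup -/
theorem le_fittingHallOf_of_all {q : ℕ} [hq : Fact q.Prime] {Q : Subgroup G} (hQM : Q ≤ M)
    (hQn : M ≤ Subgroup.normalizer (Q : Set G)) (hQq : IsPGroup q Q)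
    (hall : ∀ P : Subgroup G, P ≤ M → IsPGroup q P → P ≤ Q) : Q ≤ fittingHallOf M := by
  apply FittingHall.le_fittingHallOf hQM hQn hQq.isNilpotent
  obtain ⟨R, hR⟩ := (hQq.comap_subtype (K := M)).exists_le_sylow
  have hRQ : (R : Subgroup ↥M) ≤ Q.subgroupOf M := by
    intro y hy
    rw [Subgroup.mem_subgroupOf]
    have h1 : ((R : Subgroup ↥M).map M.subtype) ≤ Q :=
      hall _ (Subgroup.map_subtype_le _) (R.isPGroup'.map _)
    exact h1 (Subgroup.mem_map_of_mem _ hy)
  have heq : Q.subgroupOf M = (R : Subgroup ↥M) := le_antisymm hR hRQ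
  have hnd : ¬ q ∣ Q.relIndex M := by
    unfold Subgroup.relIndex
    rw [heq]
    exact R.not_dvd_index
  obtain ⟨n, hn⟩ := IsPGroup.iff_card.mp hQq
  rw [hn]
  exact Nat.Coprime.pow_left n ((Nat.Prime.coprime_iff_not_dvd hq.out).mpr hnd)

theorem kstar_le_fittingHallOf (h : P1N M K) :
    sigmaCore M ⊓ Subgroup.centralizer (K : Set G) ≤ fittingHallOf M := by
  obtain ⟨Q, hQS, hQn, hQq, hZQ, hall⟩ := h.exists_Q
  haveI : Fact (Nat.card ↥(sigmaCore M ⊓ Subgroup.centralizer (K : Set G))).Prime :=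
    ⟨h.kstar_prime⟩
  refine hZQ.trans (le_fittingHallOf_of_all (hQS.trans (BGE.sigmaCore_le M)) hQn hQq ?_)
  intro P hPM hP
  exact hall P (BGE.qsub_le_sigmaCore h.hG h.hM h.q_mem_sigma hP hPM) hP

theorem kstar_ne_bot (h : P1N M K) : sigmaCore M ⊓ Subgroup.centralizer (K : Set G) ≠ ⊥ := by
  intro hbot
  have h1 := h.kstar_prime
  rw [hbot, Subgroup.card_bot] at h1
  exact Nat.not_prime_one h1

theorem fittingHallOf_ne_bot (h : P1N M K) : fittingHallOf M ≠ ⊥ := by
  intro hbot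
  apply h.kstar_ne_bot
  rw [eq_bot_iff, ← hbot]
  exact h.kstar_le_fittingHallOf

theorem nilpotent_image (h : P1N M K) :
    Group.IsNilpotent ↥((commutator ↥M).map (QuotientGroup.mk' (fittingHall ↥M))) := by
  have hc : commutator ↥M = piCore (sigma M) ↥M := by
    rw [commutator_eq_subgroupOf, h.derived_eq, piCore_eq_subgroupOf]
  rw [hc]
  apply h.nilpotent_mod (fittingHall ↥M)
  · intro y hy
    rw [mem_piCore_iff]
    exact BGK.fittingHallOf_le_sigmaCore h.hG h.hM ((mem_fittingHall_iff y).mp hy)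
  · intro y hy
    exact (mem_fittingHall_iff y).mpr (h.kstar_le_fittingHallOf hy)

end P1N

/-- `M' < M` -/
theorem derived_lt (hG : IsMinSimpleOddOrder G) {M : Subgroup G} (hM : IsCoatom M) :
    ⁅M, M⁆ < M := by
  haveI hMs : Group.IsSolvable ↥M := BG7.isSolvable_of_ne_top hG hM.1
  haveI : Nontrivial ↥M := (Subgroup.nontrivial_iff_ne_bot M).mpr (BGE.coatom_ne_bot hG hM)
  have h1 := Group.IsSolvable.commutator_lt_top_of_nontrivial ↥M
  have h3 : (commutator ↥M).map M.subtype < (⊤ : Subgroup ↥M).map M.subtype :=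
    (Subgroup.map_lt_map_iff_of_injective M.subtype_injective).mpr h1
  rwa [Subgroup.map_subtype_commutator, ← MonoidHom.range_eq_map, Subgroup.range_subtype] at h3

/-- in a maximal subgroup all of whose `σ'`-primes are in `κ`, `U = 1` -/
theorem decomp_U_eq_bot (hG : IsMinSimpleOddOrder G) {M : Subgroup G} (hM : IsCoatom M)
    (hp1 : ∀ r : ℕ, r.Prime → r ∣ Nat.card M → r ∉ sigma M → r ∈ kappa M) {K U : Subgroup G}
    (hKU : IsSigmaDecomposition M K U) : U = ⊥ := by
  rw [← Subgroup.card_eq_one]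
  by_contra hne
  obtain ⟨r, hr, hrU⟩ := Nat.exists_prime_and_dvd hne
  have hrκ : r ∉ kappa M := BGK.decomp_not_kappa hKU r hr hrU
  have hrM : r ∣ Nat.card M := hrU.trans (Subgroup.card_dvd_of_le hKU.compl.1)
  have hrσ : r ∉ sigma M := by
    intro hσ
    obtain ⟨h1, h2, -⟩ := BGK.decomp_card hG hM hKU
    apply (BGA.s1350 hG M hM).1.2.2 r hr hσ
    have h4 := BGG.card_mul_relIndex' (BGE.sigmaCore_le M)
    rw [h2, h1] at h4
    have h5 : (sigmaCore M).relIndex M = Nat.card K * Nat.card U := by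
      have hpos : 0 < Nat.card (sigmaCore M) := Nat.card_pos
      apply Nat.eq_of_mul_eq_mul_left hpos
      rw [h4]; ring
    rw [h5]; exact Dvd.dvd.mul_left hrU _
  exact hrκ (hp1 r hr hrM hrσ)

/-- a `P1N` structure from a non-nilpotent `M_σ` -/
theorem exists_p1n (h1430 : Row1430 G) (h1431 : Row1431 G) (hG : IsMinSimpleOddOrder G)
    {M : Subgroup G} (hM : IsCoatom M) (hnn : ¬ Group.IsNilpotent ↥(sigmaCore M)) :
    ∃ K : Subgroup G, P1N M K := by
  haveI hMs : Group.IsSolvable ↥M := BG7.isSolvable_of_ne_top hG hM.1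
  have hp1 := BGK.p1_of_not_nilpotent hG hM hnn
  obtain ⟨K, hK⟩ := BGK.exists_isPiHallOf M hMs (kappa M)
  have hK1 := BGK.hall_kappa_ne_bot hG hM hp1 hK
  have hKc := BGK.hall_kappa_isCyclic h1430 h1431 hG hM hK
  obtain ⟨U, hKU⟩ := (BGK.s1352_of h1430 hG M hM K hKc hK).1
  have hU : U = ⊥ := decomp_U_eq_bot hG hM hp1 hKU
  subst hU
  exact ⟨K, ⟨hG, hM, hKU, hK1, hnn, h1430, h1431⟩⟩

/-- **S1355** (B&G Theorem 15.2(a)) from rows S1430, S1431. -/
theorem s1355_of (h1430 : Row1430 G) (h1431 : Row1431 G) (hG : IsMinSimpleOddOrder G)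
    (M : Subgroup G) (hM : IsCoatom M) :
    fittingHallOf M ≠ ⊥ ∧ fittingHallOf M ≤ sigmaCore M ∧ sigmaCore M ≤ ⁅M, M⁆ ∧ ⁅M, M⁆ < M ∧
      Group.IsNilpotent ↥((commutator ↥M).map (QuotientGroup.mk' (fittingHall ↥M))) := by
  have hlt := derived_lt hG hM
  refine ⟨?_, BGK.fittingHallOf_le_sigmaCore hG hM, BGC.sigmaCore_le_commutator hG hM, hlt, ?_⟩
  · by_cases hnil : Group.IsNilpotent ↥(sigmaCore M)
    · rw [← BGK.sigmaCore_eq_fittingHallOf hG hM hnil]
      exact BGE.sigmaCore_ne_bot hG hM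
    · obtain ⟨K, hK⟩ := exists_p1n h1430 h1431 hG hM hnil
      exact hK.fittingHallOf_ne_bot
  · by_cases hnil : Group.IsNilpotent ↥(sigmaCore M)
    · have hF : sigmaCore M = fittingHallOf M := BGK.sigmaCore_eq_fittingHallOf hG hM hnil
      obtain ⟨E, hE⟩ := BGK.exists_compl hG hM
      have h15 := (Cfsg.Agent.S1415.result hG M hM E hE).1
      have hEE : ⁅E, E⁆ ≤ M := (Subgroup.commutator_mono hE.1 hE.1).trans hlt.le
      obtain ⟨E'', hE''def⟩ : ∃ E'' : Subgroup ↥M, E'' = (⁅E, E⁆).subgroupOf M := ⟨_, rfl⟩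
      haveI hE''nil : Group.IsNilpotent ↥E'' := by
        rw [hE''def]
        haveI := h15
        exact Group.nilpotent_of_mulEquiv (Subgroup.subgroupOfEquivOfLe hEE).symm
      have himg : Group.IsNilpotent ↥(E''.map (QuotientGroup.mk' (fittingHall ↥M))) :=
        Group.nilpotent_of_surjective ((QuotientGroup.mk' (fittingHall ↥M)).subgroupMap E'')
          (MonoidHom.subgroupMap_surjective _ _)
      refine FittingHall.isNilpotent_of_le ?_ himg
      rw [Subgroup.map_le_iff_le_comap, commutator_def, Subgroup.commutator_le]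
      intro x _ y _
      rw [Subgroup.mem_comap, map_commutatorElement]
      obtain ⟨e₁, he₁, s₁, hs₁, hx⟩ := hE.2.2.2 x.1 x.2
      obtain ⟨e₂, he₂, s₂, hs₂, hy⟩ := hE.2.2.2 y.1 y.2
      have hker : ∀ s : G, ∀ hs : s ∈ sigmaCore M,
          QuotientGroup.mk' (fittingHall ↥M) ⟨s, BGE.sigmaCore_le M hs⟩ = 1 := by
        intro s hs
        apply (mem_iff_mk_eq_one _ _).mp
        rw [mem_fittingHall_iff, ← hF]
        exact hs
      have hπx : QuotientGroup.mk' (fittingHall ↥M) x =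
          QuotientGroup.mk' (fittingHall ↥M) ⟨e₁, hE.1 he₁⟩ := by
        have hxe : x = ⟨e₁, hE.1 he₁⟩ * ⟨s₁, BGE.sigmaCore_le M hs₁⟩ := Subtype.ext hx
        rw [hxe, map_mul, hker s₁ hs₁, mul_one]
      have hπy : QuotientGroup.mk' (fittingHall ↥M) y =
          QuotientGroup.mk' (fittingHall ↥M) ⟨e₂, hE.1 he₂⟩ := by
        have hye : y = ⟨e₂, hE.1 he₂⟩ * ⟨s₂, BGE.sigmaCore_le M hs₂⟩ := Subtype.ext hy
        rw [hye, map_mul, hker s₂ hs₂, mul_one]
      rw [hπx, hπy, ← map_commutatorElement]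
      apply Subgroup.mem_map_of_mem
      rw [hE''def, Subgroup.mem_subgroupOf]
      have hcoe : ((⁅(⟨e₁, hE.1 he₁⟩ : ↥M), (⟨e₂, hE.1 he₂⟩ : ↥M)⁆ : ↥M) : G) = ⁅e₁, e₂⁆ := by
        simp only [commutatorElement_def, Subgroup.coe_mul, Subgroup.coe_inv]
      rw [hcoe]
      exact Subgroup.commutator_mem_commutator he₁ he₂
    · obtain ⟨K, hK⟩ := exists_p1n h1430 h1431 hG hM hnil
      exact hK.nilpotent_image

end Cfsg.Agent.Lib.Helper2.BGL
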