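import Mathlib

/-!
# Zsigmondy's theorem
-/

set_option autoImplicit false

namespace Cfsg.Agent.Lib.Helper2.Zsig

open Polynomial


/-- the value `Φ_n(a)` -/
noncomputable def Phi (n a : ℕ) : ℤ := (cyclotomic n ℤ).eval (a : ℤ)

theorem Phi_dvd (n a : ℕ) : Phi n a ∣ (a : ℤ) ^ n - 1 := by
  have h := map_dvd (evalRingHom (a : ℤ)) (cyclotomic.dvd_X_pow_sub_one n ℤ)
  simpa [Phi] using h

theorem Phi_mul_dvd {n k : ℕ} (a : ℕ) (hk : k ∈ n.properDivisors) :
    ((a : ℤ) ^ k - 1) * Phi n a ∣ (a : ℤ) ^ n - 1 := by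
  have h := map_dvd (evalRingHom (a : ℤ))
    (X_pow_sub_one_mul_cyclotomic_dvd_X_pow_sub_one_of_dvd ℤ hk)
  simpa [Phi] using h

theorem Phi_zmod (n a r : ℕ) :
    ((Phi n a : ℤ) : ZMod r) = (cyclotomic n (ZMod r)).eval (a : ZMod r) := by
  rw [Phi, ← map_cyclotomic_int n (ZMod r)]
  have := eval_intCast_map (Int.castRingHom (ZMod r)) (cyclotomic n ℤ) (a : ℤ)
  simpa using this.symm

theorem Phi_pos {n : ℕ} (hn : 2 < n) (a : ℕ) : 0 < Phi n a := cyclotomic_pos hn _

/-- `r ∣ a ^ k - 1` in terms of `ZMod r` -/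
theorem dvd_pow_sub_one_iff {a : ℕ} (ha : 1 ≤ a) (r k : ℕ) :
    r ∣ a ^ k - 1 ↔ (a : ZMod r) ^ k = 1 := by
  rw [← ZMod.natCast_eq_zero_iff, Nat.cast_sub (Nat.one_le_pow _ _ ha), Nat.cast_pow, Nat.cast_one,
    sub_eq_zero]

theorem int_dvd_pow_sub_one_iff {a : ℕ} (r k : ℕ) :
    (r : ℤ) ∣ (a : ℤ) ^ k - 1 ↔ (a : ZMod r) ^ k = 1 := by
  rw [← ZMod.intCast_zmod_eq_zero_iff_dvd]
  push_cast
  rw [sub_eq_zero]

/-- A prime divisor of `Φ_n(a)` not dividing `n` is a primitive prime divisor. -/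
theorem isPrimitiveRoot_of_dvd_Phi {n a r : ℕ} [Fact r.Prime] (hr : (r : ℤ) ∣ Phi n a)
    (hrn : ¬ r ∣ n) : IsPrimitiveRoot (a : ZMod r) n := by
  haveI : NeZero ((n : ℕ) : ZMod r) := ⟨by rwa [Ne, ZMod.natCast_eq_zero_iff]⟩
  rw [← isRoot_cyclotomic_iff, IsRoot.def, ← Phi_zmod, ZMod.intCast_zmod_eq_zero_iff_dvd]
  exact hr

theorem pow_eq_one_of_dvd_Phi {n a r : ℕ} (hr : (r : ℤ) ∣ Phi n a) :
    (a : ZMod r) ^ n = 1 :=
  (int_dvd_pow_sub_one_iff r n).mp (hr.trans (Phi_dvd n a))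

/-- `Φ_n(a)` divides the geometric sum `∑_{i < n/k} (a^k)^i` for a proper divisor `k` of `n`. -/
theorem Phi_dvd_geom_sum {n k a : ℕ} (ha : 2 ≤ a) (hk : k ∈ n.properDivisors) :
    Phi n a ∣ ∑ i ∈ Finset.range (n / k), ((a : ℤ) ^ k) ^ i := by
  have h1 := Phi_mul_dvd a hk
  obtain ⟨hkn, hlt⟩ := Nat.mem_properDivisors.mp hk
  have hk0 : 0 < k := Nat.pos_of_dvd_of_pos hkn (by omega)
  have h2 : (a : ℤ) ^ n - 1 = (∑ i ∈ Finset.range (n / k), ((a : ℤ) ^ k) ^ i) * ((a : ℤ) ^ k - 1) := by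
    rw [geom_sum_mul, ← pow_mul, Nat.mul_div_cancel' hkn]
  rw [h2, mul_comm] at h1
  have h3 : (a : ℤ) ^ k - 1 ≠ 0 := by
    have : (1 : ℤ) < (a : ℤ) ^ k := one_lt_pow₀ (by exact_mod_cast ha) hk0.ne'
    omega
  exact (mul_dvd_mul_iff_right h3).mp h1

/-- structure of `n` when a prime divisor `r` of `Φ_n(a)` divides `n` -/
theorem eq_orderOf_mul_pow {n a r : ℕ} [hr' : Fact r.Prime] (hn : 0 < n) (ha : 2 ≤ a)
    (hr : (r : ℤ) ∣ Phi n a) :
    n = orderOf (a : ZMod r) * r ^ (n.factorization r) := by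
  have hrp : r.Prime := hr'.out
  set d := orderOf (a : ZMod r) with hd
  set v := n.factorization r with hv
  have h1 : (a : ZMod r) ^ n = 1 := pow_eq_one_of_dvd_Phi hr
  have ha0 : (a : ZMod r) ≠ 0 := by
    intro h0
    rw [h0, zero_pow hn.ne'] at h1
    exact zero_ne_one h1
  have hdn : d ∣ n := orderOf_dvd_of_pow_eq_one h1
  have hdr : d ∣ r - 1 := ZMod.orderOf_dvd_card_sub_one ha0
  have hd0 : 0 < d := Nat.pos_of_dvd_of_pos hdn hn
  have hcop : Nat.Coprime d r := by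
    have h2 : Nat.Coprime (r - 1) r := by
      have := hrp.one_lt
      rw [Nat.coprime_comm]
      exact (Nat.coprime_self_sub_right (by omega)).mpr (Nat.coprime_one_right r)
    exact Nat.Coprime.coprime_dvd_left hdr h2
  have hrv : r ^ v ∣ n := Nat.ordProj_dvd n r
  have hk : d * r ^ v ∣ n := (hcop.pow_right v).mul_dvd_of_dvd_of_dvd hdn hrv
  by_contra hne
  have hklt : d * r ^ v < n := lt_of_le_of_ne (Nat.le_of_dvd hn hk) (fun h => hne h.symm)
  have hkmem : d * r ^ v ∈ n.properDivisors := Nat.mem_properDivisors.mpr ⟨hk, hklt⟩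
  have h3 := Phi_dvd_geom_sum ha hkmem
  have h4 : (r : ℤ) ∣ ∑ i ∈ Finset.range (n / (d * r ^ v)), ((a : ℤ) ^ (d * r ^ v)) ^ i :=
    hr.trans h3
  rw [← ZMod.intCast_zmod_eq_zero_iff_dvd] at h4
  push_cast at h4
  have h5 : (a : ZMod r) ^ (d * r ^ v) = 1 := by rw [pow_mul, hd, pow_orderOf_eq_one, one_pow]
  simp only [h5, one_pow, Finset.sum_const, Finset.card_range, nsmul_eq_mul, mul_one] at h4
  rw [ZMod.natCast_eq_zero_iff] at h4
  -- `r ∣ n / (d * r ^ v)` contradicts the choice of `v`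
  have h6 : r * (d * r ^ v) ∣ n := by
    obtain ⟨c, hc⟩ := h4
    have := Nat.div_mul_cancel hk
    rw [hc] at this
    exact ⟨c, by rw [← this]; ring⟩
  have h7 : r ^ (v + 1) ∣ n := by
    refine Dvd.dvd.trans ?_ h6
    exact ⟨d, by rw [pow_succ]; ring⟩
  exact Nat.pow_succ_factorization_not_dvd hn.ne' hrp h7

/-- an odd prime divides `Φ_n(a)` at most once if it divides `n` -/
theorem not_sq_dvd_Phi {n a r : ℕ} [hr' : Fact r.Prime] (hn : 0 < n) (ha : 2 ≤ a) (hodd : Odd r)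
    (hr : (r : ℤ) ∣ Phi n a) (hrn : r ∣ n) : ¬ (r : ℤ) ^ 2 ∣ Phi n a := by
  have hrp : r.Prime := hr'.out
  intro hsq
  obtain ⟨m, hm⟩ := hrn
  have hm0 : 0 < m := by
    rcases Nat.eq_zero_or_pos m with rfl | h
    · omega
    · exact h
  have hmmem : m ∈ n.properDivisors := by
    rw [Nat.mem_properDivisors]
    refine ⟨⟨r, by rw [hm, mul_comm]⟩, ?_⟩
    rw [hm]
    have := hrp.one_lt
    nlinarith
  have h3 := Phi_dvd_geom_sum ha hmmem
  have hnm : n / m = r := by rw [hm, Nat.mul_div_cancel _ hm0]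
  rw [hnm] at h3
  -- `r ∣ a^m - 1`
  have h1 : (a : ZMod r) ^ n = 1 := pow_eq_one_of_dvd_Phi hr
  have h2 : (a : ZMod r) ^ m = 1 := by
    have : ((a : ZMod r) ^ m) ^ r = 1 := by rw [← pow_mul, mul_comm, ← hm]; exact h1
    rwa [ZMod.pow_card] at this
  have h4 : (r : ℤ) ∣ (a : ℤ) ^ m - 1 := (int_dvd_pow_sub_one_iff r m).mpr h2
  have h5 : ¬ (r : ℤ) ∣ (a : ℤ) ^ m := by
    intro h
    have := (dvd_sub_right h).mpr h4
    have h6 : (r : ℤ) ∣ 1 := by
      have h7 : (a : ℤ) ^ m - ((a : ℤ) ^ m - 1) = 1 := by ring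
      rw [← h7]
      exact dvd_sub h h4
    have := Int.natCast_dvd_natCast.mp (by exact_mod_cast h6 : ((r : ℕ) : ℤ) ∣ ((1 : ℕ) : ℤ))
    exact hrp.one_lt.ne' (Nat.dvd_one.mp this)
  have h8 := emultiplicity_geom_sum₂_eq_one (R := ℤ) (Nat.prime_iff_prime_int.mp hrp) hodd
    (x := (a : ℤ) ^ m) (y := 1) h4 h5
  simp only [one_pow, mul_one] at h8
  have h9 : (r : ℤ) ^ 2 ∣ ∑ i ∈ Finset.range r, ((a : ℤ) ^ m) ^ i := hsq.trans h3
  have h10 := emultiplicity_eq_coe.mp (h8.trans Nat.cast_one.symm)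
  exact h10.2 h9



theorem eval_cyclotomic_mul_prime_pow {R : Type*} [CommRing R] {r : ℕ} (hr : r.Prime) (m : ℕ)
    (x : R) (j : ℕ) :
    (cyclotomic (m * r ^ (j + 1)) R).eval x = (cyclotomic (m * r) R).eval (x ^ r ^ j) := by
  induction j generalizing x with
  | zero => simp
  | succ j ih =>
    have h1 : r ∣ m * r ^ (j + 1) := Dvd.dvd.mul_left (dvd_pow_self r (by omega)) m
    have h2 : m * r ^ (j + 1 + 1) = m * r ^ (j + 1) * r := by ring
    rw [h2, ← cyclotomic_expand_eq_cyclotomic hr h1, expand_eval, ih, ← pow_mul, ← pow_succ']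

theorem eval_cyclotomic_mul_prime {R : Type*} [CommRing R] {r : ℕ} (hr : r.Prime) {d : ℕ}
    (hd : ¬ r ∣ d) (x : R) :
    (cyclotomic (d * r) R).eval x * (cyclotomic d R).eval x = (cyclotomic d R).eval (x ^ r) := by
  rw [← eval_mul, ← cyclotomic_expand_eq_cyclotomic_mul hr hd, expand_eval]

theorem pow_gt_aux (Y : ℕ) (hY : 2 ≤ Y) : ∀ r : ℕ, 5 ≤ r → r * (Y + 1) + 1 < Y ^ r := by
  intro r hr
  induction r, hr using Nat.le_induction with
  | base =>
    have h4 : 16 ≤ Y ^ 4 := by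
      calc 16 = 2 ^ 4 := by norm_num
        _ ≤ Y ^ 4 := Nat.pow_le_pow_left hY 4
    calc 5 * (Y + 1) + 1 < 16 * Y := by omega
      _ ≤ Y ^ 4 * Y := Nat.mul_le_mul_right Y h4
      _ = Y ^ 5 := by ring
  | succ r hr ih =>
    calc (r + 1) * (Y + 1) + 1 ≤ 2 * (r * (Y + 1) + 1) := by nlinarith
      _ < 2 * Y ^ r := by omega
      _ ≤ Y * Y ^ r := Nat.mul_le_mul_right _ hY
      _ = Y ^ (r + 1) := by ring

/-- the size estimate for `a = 2` -/
theorem two_case {d r v : ℕ} (hr : r.Prime) (hr3 : 3 ≤ r) (hd : ¬ r ∣ d) (hd0 : 0 < d)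
    (hv : 1 ≤ v) (hne : ¬ (r = 3 ∧ v = 1))
    (h : (cyclotomic (d * r ^ v) ℝ).eval 2 = r) : False := by
  obtain ⟨j, rfl⟩ : ∃ j, v = j + 1 := ⟨v - 1, by omega⟩
  set Y : ℕ := 2 ^ r ^ j with hY
  have hY2 : 2 ≤ Y := by
    calc 2 = 2 ^ 1 := by norm_num
      _ ≤ 2 ^ r ^ j := Nat.pow_le_pow_right (by norm_num) (Nat.one_le_pow _ _ hr.pos)
  -- the arithmetic inequality
  have hineq : r * (Y + 1) + 1 < Y ^ r := by
    rcases Nat.lt_or_ge r 5 with h5 | h5
    · have hr3' : r = 3 := by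
        interval_cases r
        · rfl
        · exact absurd hr (by norm_num)
      subst hr3'
      have hj : j ≠ 0 := by
        rintro rfl
        exact hne ⟨rfl, rfl⟩
      have hY8 : 8 ≤ Y := by
        calc 8 = 2 ^ 3 ^ 1 := by norm_num
          _ ≤ 2 ^ 3 ^ j := Nat.pow_le_pow_right (by norm_num)
              (Nat.pow_le_pow_right (by norm_num) (by omega))
      nlinarith [Nat.pow_le_pow_left hY8 2]
    · exact pow_gt_aux Y hY2 r h5
  set y : ℝ := (Y : ℝ) with hy
  have hy1 : (1 : ℝ) < y := by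
    have : (2 : ℝ) ≤ (Y : ℝ) := by exact_mod_cast hY2
    rw [hy]
    linarith
  have hyr1 : (1 : ℝ) < y ^ r := one_lt_pow₀ hy1 hr.ne_zero
  have h1 : (cyclotomic (d * r ^ (j + 1)) ℝ).eval 2 = (cyclotomic (d * r) ℝ).eval y := by
    rw [eval_cyclotomic_mul_prime_pow hr, hy, hY]
    push_cast
    rfl
  have h2 := eval_cyclotomic_mul_prime (R := ℝ) hr hd y
  rw [← h1, h] at h2
  have h3 := cyclotomic_eval_le_add_one_pow_totient hy1 d
  have h4 := sub_one_pow_totient_le_cyclotomic_eval hyr1 d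
  have hφ : 0 < Nat.totient d := Nat.totient_pos.mpr hd0
  have h5 : (0 : ℝ) < (cyclotomic d ℝ).eval y :=
    lt_of_lt_of_le (pow_pos (by linarith) _) (sub_one_pow_totient_le_cyclotomic_eval hy1 d)
  -- `r * (y+1)^φ ≥ r * Φ_d(y) = Φ_d(y^r) ≥ (y^r - 1)^φ > (r (y+1))^φ ≥ r (y+1)^φ`
  have h6 : ((r : ℝ) * (y + 1)) ^ Nat.totient d < (y ^ r - 1) ^ Nat.totient d := by
    apply pow_lt_pow_left₀ _ (by positivity) hφ.ne'
    have : ((r * (Y + 1) + 1 : ℕ) : ℝ) < ((Y ^ r : ℕ) : ℝ) := by exact_mod_cast hineq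
    push_cast at this
    linarith
  have h7 : (r : ℝ) * (y + 1) ^ Nat.totient d ≤ ((r : ℝ) * (y + 1)) ^ Nat.totient d := by
    rw [mul_pow]
    apply mul_le_mul_of_nonneg_right _ (by positivity)
    have hr1 : (1 : ℝ) ≤ r := by exact_mod_cast hr.one_lt.le
    calc (r : ℝ) = (r : ℝ) ^ 1 := (pow_one _).symm
      _ ≤ (r : ℝ) ^ Nat.totient d := pow_le_pow_right₀ hr1 hφ
  have h8 : (r : ℝ) * (cyclotomic d ℝ).eval y ≤ (r : ℝ) * (y + 1) ^ Nat.totient d :=
    mul_le_mul_of_nonneg_left h3 (by positivity)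
  linarith


/-- **Zsigmondy's theorem**. -/
theorem zsigmondy (a n : ℕ) (ha : 1 < a) (hn : 1 < n) (h6 : ¬ (a = 2 ∧ n = 6))
    (h2 : ¬ (n = 2 ∧ ∃ m : ℕ, a + 1 = 2 ^ m)) :
    ∃ r : ℕ, r.Prime ∧ r ∣ a ^ n - 1 ∧ ∀ k : ℕ, 0 < k → k < n → ¬ r ∣ a ^ k - 1 := by
  have ha1 : 1 ≤ a := by omega
  rcases Nat.lt_or_ge n 3 with hn3 | hn3
  · -- `n = 2`
    obtain rfl : n = 2 := by omega
    rcases Nat.eq_two_pow_or_exists_odd_prime_and_dvd (a + 1) with ⟨k, hk⟩ | ⟨p, hp, hpa, hodd⟩
    · exact absurd ⟨rfl, k, hk⟩ h2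
    · refine ⟨p, hp, ?_, ?_⟩
      · have : a ^ 2 - 1 = (a - 1) * (a + 1) := by
          zify [ha1, Nat.one_le_pow 2 a ha1]
          ring
        rw [this]
        exact Dvd.dvd.mul_left hpa _
      · intro k hk0 hk2
        obtain rfl : k = 1 := by omega
        rw [pow_one]
        intro h
        have h3 : p ∣ (a + 1) - (a - 1) := Nat.dvd_sub hpa h
        have h4 : (a + 1) - (a - 1) = 2 := by omega
        rw [h4] at h3
        have := (Nat.prime_dvd_prime_iff_eq hp Nat.prime_two).mp h3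
        subst this
        exact absurd hodd (by decide)
  · -- `n ≥ 3`
    by_contra hno
    push Not at hno
    have hn0 : 0 < n := by omega
    have hPpos : 0 < Phi n a := Phi_pos (by omega) a
    set Φ : ℕ := (Phi n a).natAbs with hΦdef
    have hΦ : (Φ : ℤ) = Phi n a := Int.natAbs_of_nonneg hPpos.le
    have hdvdΦ : ∀ q : ℕ, q ∣ Φ ↔ (q : ℤ) ∣ Phi n a := fun q => Int.natCast_dvd.symm
    -- every prime divisor of `Φ` divides `n`
    have claim1 : ∀ q : ℕ, q.Prime → (q : ℤ) ∣ Phi n a → q ∣ n := by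
      intro q hq hqΦ
      by_contra hqn
      haveI := Fact.mk hq
      have hprim := isPrimitiveRoot_of_dvd_Phi hqΦ hqn
      have h1 : q ∣ a ^ n - 1 := (dvd_pow_sub_one_iff ha1 q n).mpr (pow_eq_one_of_dvd_Phi hqΦ)
      obtain ⟨k, hk0, hkn, hk⟩ := hno q hq h1
      have h3 := hprim.dvd_of_pow_eq_one k ((dvd_pow_sub_one_iff ha1 q k).mp hk)
      have := Nat.le_of_dvd hk0 h3
      omega
    have hΦ2 : 2 ≤ Φ := by
      have := sub_one_lt_natAbs_cyclotomic_eval (n := n) (q := a) hn (by omega)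
      have h1 : a - 1 < Φ := this
      omega
    obtain ⟨r, hr, hrΦ⟩ := Nat.exists_prime_and_dvd (show Φ ≠ 1 by omega)
    haveI := Fact.mk hr
    have hrΦ' : (r : ℤ) ∣ Phi n a := (hdvdΦ r).mp hrΦ
    have hrn : r ∣ n := claim1 r hr hrΦ'
    have hstruct := eq_orderOf_mul_pow hn0 ha hrΦ'
    -- every prime divisor of `Φ` equals `r`
    have claim2 : ∀ {q : ℕ}, q.Prime → q ∣ Φ → q = r := by
      intro q hq hqΦ
      by_contra hqr
      haveI := Fact.mk hq
      have hqΦ' : (q : ℤ) ∣ Phi n a := (hdvdΦ q).mp hqΦ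
      have hqn : q ∣ n := claim1 q hq hqΦ'
      have hstructq := eq_orderOf_mul_pow hn0 ha hqΦ'
      -- `q ∣ orderOf (a : ZMod r)` and `r ∣ orderOf (a : ZMod q)`
      have key : ∀ {s t : ℕ} [Fact s.Prime] [Fact t.Prime], s ≠ t → (s : ℤ) ∣ Phi n a →
          t ∣ n → n = orderOf (a : ZMod s) * s ^ (n.factorization s) → t < s := by
        intro s t hs ht hst hsΦ htn hstr
        have hsp : s.Prime := hs.out
        have htp : t.Prime := ht.out
        have h1 : (a : ZMod s) ^ n = 1 := pow_eq_one_of_dvd_Phi hsΦ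
        have ha0 : (a : ZMod s) ≠ 0 := by
          intro h0
          rw [h0, zero_pow hn0.ne'] at h1
          exact zero_ne_one h1
        have hds : orderOf (a : ZMod s) ∣ s - 1 := ZMod.orderOf_dvd_card_sub_one ha0
        have h3 : t ∣ orderOf (a : ZMod s) := by
          rw [hstr] at htn
          rcases (Nat.Prime.dvd_mul htp).mp htn with h | h
          · exact h
          · exfalso
            have := (Nat.prime_dvd_prime_iff_eq htp hsp).mp (htp.dvd_of_dvd_pow h)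
            exact hst this.symm
        have h4 : t ≤ s - 1 := Nat.le_of_dvd (by have := hsp.one_lt; omega) (h3.trans hds)
        have := hsp.one_lt
        omega
      have h1 := key (s := r) (t := q) (fun h => hqr h.symm) hrΦ' hqn hstruct
      have h2 := key (s := q) (t := r) hqr hqΦ' hrn hstructq
      omega
    have hpow := Nat.eq_prime_pow_of_unique_prime_dvd (show Φ ≠ 0 by omega) claim2
    -- `r ^ 2 ∤ Φ`
    have claim3 : ¬ r ^ 2 ∣ Φ := by
      intro hsq
      have hsq' : (r : ℤ) ^ 2 ∣ Phi n a := by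
        have := (hdvdΦ (r ^ 2)).mp hsq
        exact_mod_cast this
      rcases hr.eq_two_or_odd' with rfl | hodd
      · -- `r = 2`
        have hord : orderOf (a : ZMod 2) = 1 := by
          have h1 : (a : ZMod 2) ^ n = 1 := pow_eq_one_of_dvd_Phi hrΦ'
          have ha0 : (a : ZMod 2) ≠ 0 := by
            intro h0
            rw [h0, zero_pow hn0.ne'] at h1
            exact zero_ne_one h1
          have := ZMod.orderOf_dvd_card_sub_one ha0
          exact Nat.dvd_one.mp this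
        rw [hord, one_mul] at hstruct
        set v := n.factorization 2 with hv
        have hv2 : 2 ≤ v := by
          by_contra hv2
          push Not at hv2
          have : n ≤ 2 := by
            rw [hstruct]
            calc 2 ^ v ≤ 2 ^ 1 := Nat.pow_le_pow_right (by norm_num) (by omega)
              _ = 2 := by norm_num
          omega
        obtain ⟨w, hw⟩ : ∃ w, v = w + 2 := ⟨v - 2, by omega⟩
        have hPhi : Phi n a = 1 + ((a : ℤ) ^ 2 ^ w) ^ 2 := by
          rw [Phi, hstruct, hw, cyclotomic_prime_pow_eq_geom_sum Nat.prime_two]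
          simp [Finset.sum_range_succ, pow_succ, pow_mul]
        have haodd : Odd (a : ℤ) := by
          have h1 : (a : ZMod 2) ^ n = 1 := pow_eq_one_of_dvd_Phi hrΦ'
          rw [← Int.not_even_iff_odd]
          intro heven
          have : ((a : ℤ) : ZMod 2) = 0 := ZMod.intCast_eq_zero_iff_even.mpr heven
          rw [Int.cast_natCast] at this
          rw [this, zero_pow hn0.ne'] at h1
          exact zero_ne_one h1
        have h4 := Int.sq_mod_four_eq_one_of_odd (haodd.pow (n := 2 ^ w))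
        rw [hPhi] at hsq'
        have h5 : (4 : ℤ) ∣ 1 + ((a : ℤ) ^ 2 ^ w) ^ 2 := by
          have : ((2 : ℕ) : ℤ) ^ 2 = 4 := by norm_num
          rwa [this] at hsq'
        omega
      · exact not_sq_dvd_Phi hn0 ha hodd hrΦ' hrn hsq'
    have hΦr : Φ = r := by
      set e := Φ.primeFactorsList.length with he
      have he1 : e ≤ 1 := by
        by_contra h
        push Not at h
        apply claim3
        rw [hpow]
        exact pow_dvd_pow r h
      have he0 : e ≠ 0 := by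
        intro h
        rw [h, pow_zero] at hpow
        omega
      have : e = 1 := by omega
      rw [hpow, this, pow_one]
    -- size estimates
    have hlow := sub_one_pow_totient_lt_natAbs_cyclotomic_eval (n := n) (q := a) hn (by omega)
    have hlow' : (a - 1) ^ Nat.totient n < Φ := hlow
    have hφ : r - 1 ≤ Nat.totient n := by
      have h1 := Nat.totient_dvd_of_dvd hrn
      rw [Nat.totient_prime hr] at h1
      exact Nat.le_of_dvd (Nat.totient_pos.mpr hn0) h1
    rcases Nat.lt_or_ge a 3 with ha3 | ha3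
    · -- `a = 2`
      obtain rfl : a = 2 := by omega
      have hr3 : 3 ≤ r := by
        have h1 : ((2 : ℕ) : ZMod r) ^ n = 1 := pow_eq_one_of_dvd_Phi hrΦ'
        have hr2 : r ≠ 2 := by
          rintro rfl
          have : ((2 : ℕ) : ZMod 2) = 0 := (ZMod.natCast_eq_zero_iff 2 2).mpr dvd_rfl
          rw [this, zero_pow hn0.ne'] at h1
          exact zero_ne_one h1
        have := hr.two_le
        omega
      set d := orderOf ((2 : ℕ) : ZMod r) with hd
      set v := n.factorization r with hv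
      have h1 : ((2 : ℕ) : ZMod r) ^ n = 1 := pow_eq_one_of_dvd_Phi hrΦ'
      have ha0 : ((2 : ℕ) : ZMod r) ≠ 0 := by
        intro h0
        rw [h0, zero_pow hn0.ne'] at h1
        exact zero_ne_one h1
      have hdr : d ∣ r - 1 := ZMod.orderOf_dvd_card_sub_one ha0
      have hd0 : 0 < d := by
        rcases Nat.eq_zero_or_pos d with h | h
        · rw [h, zero_mul] at hstruct; omega
        · exact h
      have hrd : ¬ r ∣ d := by
        intro h
        have h3 := Nat.le_of_dvd (by have := hr.one_lt; omega) (h.trans hdr)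
        have := hr.one_lt
        omega
      have hv1 : 1 ≤ v := by
        by_contra hv0
        push Not at hv0
        have hv0' : v = 0 := by omega
        rw [hv0', pow_zero, mul_one] at hstruct
        rw [hstruct] at hrn
        exact hrd hrn
      have hd2 : 2 ≤ d := by
        by_contra hd1
        have hd1' : d = 1 := by omega
        have h3 : ((2 : ℕ) : ZMod r) = 1 := orderOf_eq_one_iff.mp hd1'
        have h4 : ((1 : ℕ) : ZMod r) = 0 := by
          have : ((2 : ℕ) : ZMod r) - 1 = 0 := by rw [h3, sub_self]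
          have h5 : ((2 : ℕ) : ZMod r) - 1 = ((1 : ℕ) : ZMod r) := by push_cast; ring
          rw [← h5]; exact this
        rw [ZMod.natCast_eq_zero_iff] at h4
        exact hr.one_lt.ne' (Nat.dvd_one.mp h4)
      have hne : ¬ (r = 3 ∧ v = 1) := by
        rintro ⟨rfl, hv1'⟩
        have hd2' : d ∣ 2 := hdr
        have hd2'' : d = 2 := by
          have := Nat.le_of_dvd (by norm_num) hd2'
          omega
        apply h6
        refine ⟨rfl, ?_⟩
        rw [hstruct, hd2'', hv1']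
        norm_num
      apply two_case hr hr3 hrd hd0 hv1 hne
      rw [← hstruct]
      have h7 : (cyclotomic n ℝ).eval ((2 : ℕ) : ℝ) = ((Phi n 2 : ℤ) : ℝ) := by
        rw [Phi]
        have := cyclotomic.eval_apply ((2 : ℕ) : ℤ) n (algebraMap ℤ ℝ)
        simpa using this
      have h8 : (cyclotomic n ℝ).eval (2 : ℝ) = ((Phi n 2 : ℤ) : ℝ) := by
        have : ((2 : ℕ) : ℝ) = 2 := by norm_num
        rw [← this]; exact h7
      rw [h8, ← hΦ, hΦr]
      norm_num
    · -- `a ≥ 3`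
      have h1 : 2 ^ (r - 1) ≤ (a - 1) ^ Nat.totient n := by
        calc 2 ^ (r - 1) ≤ 2 ^ Nat.totient n := Nat.pow_le_pow_right (by norm_num) hφ
          _ ≤ (a - 1) ^ Nat.totient n := Nat.pow_le_pow_left (by omega) _
      have h2 : r - 1 < 2 ^ (r - 1) := Nat.lt_two_pow_self
      have := hr.one_lt
      omega

end Cfsg.Agent.Lib.Helper2.Zsig
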