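import Mathlib
import Cfsg.Agent.Lib.Helper2.MetaOdd4

set_option autoImplicit false
open scoped commutatorElement

namespace Cfsg.Agent.Lib.Helper2.MetaOdd

variable {G : Type*} [Group G]

/-- `(x y)^k = x^k y^(1 + λ + ... + λ^(k-1))` when `x⁻¹ y x = y^λ`. -/
theorem mul_pow_eq_of_conj (N : Subgroup G) (x : G) (l : ℕ)
    (hl : ∀ y ∈ N, x⁻¹ * y * x = y ^ l) (y : G) (hy : y ∈ N) (k : ℕ) :
    (x * y) ^ k = x ^ k * y ^ (∑ j ∈ Finset.range k, l ^ j) := by
  induction k with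
  | zero => simp
  | succ k ih =>
    rw [pow_succ, ih, geom_sum_succ, pow_succ x k]
    have h1 := hl _ (N.pow_mem hy (∑ j ∈ Finset.range k, l ^ j))
    have h2 : y ^ (∑ j ∈ Finset.range k, l ^ j) * x =
        x * (y ^ (∑ j ∈ Finset.range k, l ^ j)) ^ l := by
      rw [← h1]; group
    calc x ^ k * y ^ (∑ j ∈ Finset.range k, l ^ j) * (x * y)
        = x ^ k * (y ^ (∑ j ∈ Finset.range k, l ^ j) * x) * y := by group
      _ = x ^ k * (x * (y ^ (∑ j ∈ Finset.range k, l ^ j)) ^ l) * y := by rw [h2]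
      _ = x ^ k * x * ((y ^ (∑ j ∈ Finset.range k, l ^ j)) ^ l * y) := by group
      _ = _ := by rw [← pow_mul, ← pow_succ y, mul_comm l]

/-- Solving `y^S = w^(p^e)` in a `p`-group when `v_p(S) = e`. -/
theorem exists_pow_eq_pow {p : ℕ} [hp : Fact p.Prime] (hG : IsPGroup p G) (S e : ℕ)
    (hS : emultiplicity p S = e) (w : G) :
    ∃ y ∈ Subgroup.zpowers w, y ^ S = w ^ p ^ e := by
  obtain ⟨h1, h2⟩ := emultiplicity_eq_coe.mp hS
  obtain ⟨u, rfl⟩ := h1
  have hpu : ¬ p ∣ u := by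
    intro h
    apply h2
    rw [pow_succ]
    exact Nat.mul_dvd_mul_left _ h
  obtain ⟨t, ht⟩ := hG w
  obtain ⟨t', -, ht'⟩ := (Nat.dvd_prime_pow hp.out).mp (orderOf_dvd_of_pow_eq_one ht)
  have hcop : u.Coprime (orderOf w) := by
    rw [ht']
    exact Nat.Coprime.pow_right _ ((Nat.Prime.coprime_iff_not_dvd hp.out).mpr hpu).symm
  obtain ⟨m, hm⟩ := exists_pow_eq_self_of_coprime hcop
  refine ⟨w ^ m, Subgroup.pow_mem _ (Subgroup.mem_zpowers w) m, ?_⟩
  rw [mul_comm, pow_mul, ← pow_mul w m u, mul_comm m u, pow_mul w u m, hm]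

section Fact

variable [Finite G] {p : ℕ} [hp : Fact p.Prime] (hodd : p ≠ 2) (hG : IsPGroup p G)
  (N : Subgroup G) [hNn : N.Normal] (hN : IsCyclic N)

include hG in
omit [Finite G] hN in
/-- An element whose order equals its order modulo `N` generates a complement-like subgroup. -/
theorem orderOf_eq_and_inf_eq_bot (x : G) (e : ℕ)
    (h1 : orderOf ((x : G) : G ⧸ N) = p ^ e) (h2 : x ^ p ^ e = 1) :
    orderOf x = p ^ e ∧ Subgroup.zpowers x ⊓ N = ⊥ := by
  constructor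
  · apply Nat.dvd_antisymm (orderOf_dvd_of_pow_eq_one h2)
    rw [← h1]
    exact orderOf_map_dvd (QuotientGroup.mk' N) x
  · rw [eq_bot_iff]
    rintro g ⟨⟨k, rfl⟩, hgN⟩
    rw [Subgroup.mem_bot]
    have h3 : ((x : G) : G ⧸ N) ^ k = 1 := by
      rw [← QuotientGroup.mk_zpow]
      exact (QuotientGroup.eq_one_iff _).mpr hgN
    rw [← orderOf_dvd_iff_zpow_eq_one, h1] at h3
    obtain ⟨k', rfl⟩ := h3
    have : x ^ ((p ^ e : ℕ) : ℤ) = 1 := by rw [zpow_natCast]; exact h2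
    show x ^ (((p ^ e : ℕ) : ℤ) * k') = 1
    rw [zpow_mul, this, one_zpow]

include hodd hG hN

theorem exists_factorization (hQ : IsCyclic (G ⧸ N)) :
    ∃ A B : Subgroup G, IsCyclic ↥A ∧ IsCyclic ↥B ∧ A ⊓ B = ⊥ ∧
      Nat.card ↥A * Nat.card ↥B = Nat.card G := by
  obtain ⟨g0, hg0⟩ := hQ.exists_generator
  obtain ⟨b, rfl⟩ := QuotientGroup.mk_surjective g0
  have hordb : orderOf ((b : G) : G ⧸ N) = Nat.card (G ⧸ N) :=
    orderOf_eq_card_of_forall_mem_zpowers hg0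
  obtain ⟨q, hq⟩ := IsPGroup.iff_card.mp (hG.to_quotient N)
  rw [hq] at hordb
  obtain ⟨m, hm⟩ := IsPGroup.iff_card.mp (hG.to_subgroup N)
  have hcardG : Nat.card G = p ^ m * p ^ q := by
    rw [← hq, ← hm, ← Subgroup.index_eq_card, Subgroup.card_mul_index]
  have hppos : ∀ e, 0 < p ^ e := fun e => pow_pos hp.out.pos e
  have hβ : b ^ p ^ q ∈ N := by
    rw [← QuotientGroup.eq_one_iff, QuotientGroup.mk_pow, ← hordb]
    exact pow_orderOf_eq_one _
  by_cases hcase : ∃ w ∈ N, w ^ p ^ q = b ^ p ^ q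
  · -- split case
    obtain ⟨w, hw, hwβ⟩ := hcase
    obtain ⟨l, hl1, hl⟩ := exists_pow_conj_modEq p hG N hN b⁻¹
    simp only [inv_inv] at hl
    obtain ⟨y, hyw, hy⟩ := exists_pow_eq_pow hG (∑ j ∈ Finset.range (p ^ q), l ^ j) q
      (emultiplicity_geom_pow hp.out hodd l hl1 q) w⁻¹
    have hyN : y ∈ N := (Subgroup.zpowers_le.mpr (N.inv_mem hw)) hyw
    have hpow : (b * y) ^ p ^ q = 1 := by
      rw [mul_pow_eq_of_conj N b l hl y hyN, hy, inv_pow, hwβ, mul_inv_cancel]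
    have hmk : (((b * y : G)) : G ⧸ N) = ((b : G) : G ⧸ N) := by
      rw [QuotientGroup.mk_mul, (QuotientGroup.eq_one_iff y).mpr hyN, mul_one]
    obtain ⟨ho, hinf⟩ := orderOf_eq_and_inf_eq_bot hG N (b * y) q (by rw [hmk]; exact hordb) hpow
    refine ⟨N, Subgroup.zpowers (b * y), hN, inferInstance, ?_, ?_⟩
    · rw [inf_comm]; exact hinf
    · rw [Nat.card_zpowers, ho, hm, hcardG]
  · -- non-split case
    obtain ⟨t, ht⟩ := IsPGroup.iff_card.mp (hG.to_subgroup (Subgroup.zpowers (b ^ p ^ q)))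
    rw [Nat.card_zpowers] at ht
    have htm : t ≤ m := by
      have h1 : orderOf (b ^ p ^ q) ∣ Nat.card N := by
        have := orderOf_dvd_natCard (⟨b ^ p ^ q, hβ⟩ : N)
        rwa [← Subgroup.orderOf_coe] at this
      rw [ht, hm] at h1
      exact (Nat.pow_dvd_pow_iff_le_right hp.out.one_lt).mp h1
    -- `β` is a `p^(m-t)`-th power
    obtain ⟨w', hw'⟩ := exists_pow_eq_of_pow_eq_one hN (p ^ (m - t)) (p ^ t) (hppos t)
      (by rw [hm, ← pow_add, Nat.sub_add_cancel htm]) ⟨b ^ p ^ q, hβ⟩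
      (by apply Subtype.ext; rw [Subgroup.coe_pow, Subgroup.coe_one, ← ht]
          exact pow_orderOf_eq_one _)
    obtain ⟨w, hw⟩ := w'
    have hwβ : w ^ p ^ (m - t) = b ^ p ^ q := by
      have := congrArg Subtype.val hw'
      rwa [Subgroup.coe_pow] at this
    have hrq : m - t < q := by
      by_contra hge
      push Not at hge
      apply hcase
      refine ⟨w ^ p ^ (m - t - q), N.pow_mem hw _, ?_⟩
      rw [← pow_mul, ← pow_add, Nat.sub_add_cancel hge, hwβ]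
    have ht1 : 1 ≤ t := by
      by_contra h0
      have h0' : t = 0 := by omega
      apply hcase
      refine ⟨1, N.one_mem, ?_⟩
      rw [one_pow]
      rw [h0', pow_zero, orderOf_eq_one_iff] at ht
      exact ht.symm
    obtain ⟨r, hr⟩ : ∃ r, r = m - t := ⟨_, rfl⟩
    rw [← hr] at hwβ hrq
    -- the element `c = b^(p^(q-r))`
    obtain ⟨c, hc⟩ : ∃ c, c = b ^ p ^ (q - r) := ⟨_, rfl⟩
    have hcβ : c ^ p ^ r = b ^ p ^ q := by
      rw [hc, ← pow_mul, ← pow_add, Nat.sub_add_cancel hrq.le]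
    obtain ⟨l, hl1, hl⟩ := exists_pow_conj_modEq p hG N hN c⁻¹
    simp only [inv_inv] at hl
    obtain ⟨y, hyw, hy⟩ := exists_pow_eq_pow hG (∑ j ∈ Finset.range (p ^ r), l ^ j) r
      (emultiplicity_geom_pow hp.out hodd l hl1 r) w⁻¹
    have hyN : y ∈ N := (Subgroup.zpowers_le.mpr (N.inv_mem hw)) hyw
    have hpow : (c * y) ^ p ^ r = 1 := by
      rw [mul_pow_eq_of_conj N c l hl y hyN, hy, inv_pow, hwβ, hcβ, mul_inv_cancel]
    have hmk : orderOf (((c * y : G)) : G ⧸ N) = p ^ r := by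
      rw [QuotientGroup.mk_mul, (QuotientGroup.eq_one_iff y).mpr hyN, mul_one, hc,
        QuotientGroup.mk_pow, orderOf_pow_of_dvd (hppos _).ne', hordb]
      · rw [Nat.div_eq_iff_eq_mul_left (hppos _), ← pow_add, Nat.add_sub_cancel' hrq.le]
        exact pow_dvd_pow p (Nat.sub_le q r)
      · rw [hordb]; exact pow_dvd_pow p (Nat.sub_le q r)
    obtain ⟨ho, hinf⟩ := orderOf_eq_and_inf_eq_bot hG N (c * y) r hmk hpow
    -- order of `b`
    have hob : orderOf b = p ^ q * p ^ t := by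
      have h1 : p ^ q ∣ orderOf b := by
        rw [← hordb]; exact orderOf_map_dvd (QuotientGroup.mk' N) b
      have h2 := orderOf_pow_of_dvd (hppos q).ne' h1
      rw [ht] at h2
      rw [h2, Nat.mul_div_cancel' h1]
    -- elements of order `p` in `⟨b⟩` lie in `N`
    have hΩ : ∀ x ∈ Subgroup.zpowers b, x ^ p = 1 → x ∈ N := by
      rintro x ⟨k, rfl⟩ hx
      have h1 : b ^ (k * (p : ℤ)) = 1 := by rw [zpow_mul, zpow_natCast]; exact hx
      rw [← orderOf_dvd_iff_zpow_eq_one, hob] at h1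
      obtain ⟨t', rfl⟩ := Nat.exists_eq_add_of_le ht1
      have h2 : ((p ^ q : ℕ) : ℤ) ∣ k := by
        have h3 : (((p ^ q * p ^ t' : ℕ) : ℤ) * (p : ℤ)) ∣ k * (p : ℤ) := by
          have : ((p ^ q * p ^ (1 + t') : ℕ) : ℤ) = ((p ^ q * p ^ t' : ℕ) : ℤ) * (p : ℤ) := by
            push_cast; ring
          rwa [this] at h1
        have h4 := (mul_dvd_mul_iff_right (by exact_mod_cast hp.out.ne_zero)).mp h3
        exact (Dvd.intro _ (by push_cast; rfl)).trans h4
      obtain ⟨k', rfl⟩ := h2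
      show b ^ (((p ^ q : ℕ) : ℤ) * k') ∈ N
      rw [zpow_mul, zpow_natCast]
      exact N.zpow_mem hβ k'
    refine ⟨Subgroup.zpowers (c * y), Subgroup.zpowers b, inferInstance, inferInstance, ?_, ?_⟩
    · by_contra hne
      have hlt : 1 < Nat.card (Subgroup.zpowers (c * y) ⊓ Subgroup.zpowers b : Subgroup G) :=
        (Subgroup.one_lt_card_iff_ne_bot _).mpr hne
      have hdvd : p ∣ Nat.card (Subgroup.zpowers (c * y) ⊓ Subgroup.zpowers b : Subgroup G) := by
        obtain ⟨s, hs⟩ := IsPGroup.iff_card.mp (hG.to_subgroup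
          (Subgroup.zpowers (c * y) ⊓ Subgroup.zpowers b))
        rw [hs] at hlt ⊢
        have : s ≠ 0 := by rintro rfl; simp at hlt
        exact dvd_pow_self p this
      obtain ⟨x, hx⟩ := exists_prime_orderOf_dvd_card' p hdvd
      have hx1 : (x : G) ^ p = 1 := by
        have := congrArg Subtype.val (hx ▸ pow_orderOf_eq_one x)
        rwa [Subgroup.coe_pow, Subgroup.coe_one] at this
      have hxN : (x : G) ∈ N := hΩ _ x.2.2 hx1
      have hx2 : (x : G) ∈ Subgroup.zpowers (c * y) ⊓ N := ⟨x.2.1, hxN⟩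
      rw [hinf, Subgroup.mem_bot] at hx2
      have hx3 : x = 1 := Subtype.ext hx2
      rw [hx3, orderOf_one] at hx
      exact hp.out.one_lt.ne hx
    · rw [Nat.card_zpowers, Nat.card_zpowers, ho, hob, hcardG, hr]
      have : p ^ m = p ^ (m - t) * p ^ t := by rw [← pow_add, Nat.sub_add_cancel htm]
      rw [this]; ring

end Fact

end Cfsg.Agent.Lib.Helper2.MetaOdd
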