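import Mathlib
import Cfsg.Prelude.Def_Transfer
import Cfsg.Agent.Lib.Helper1.FrattiniP

/-!
# Heisenberg groups

`Heis n R`: triples `(a, b, c)` with `a b : Fin n → R`, `c : R`, and multiplication
`(a,b,c)(a',b',c') = (a+a', b+b', c+c'+a⬝b')`.  Over `ZMod p` with `p` odd and `n ≥ 1` it is
extraspecial of order `p^(1+2n)` and exponent `p`, and it embeds in `GL (Fin (n+2)) (ZMod p)`.
-/

set_option autoImplicit false

namespace Cfsg.Agent.Lib.Helper2.HeisLib

open Matrix
open scoped commutatorElement

@[ext] structure Heis (n : ℕ) (R : Type*) where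
  a : Fin n → R
  b : Fin n → R
  c : R

variable {n : ℕ} {R : Type*} [CommRing R]

instance : Mul (Heis n R) := ⟨fun x y => ⟨x.a + y.a, x.b + y.b, x.c + y.c + x.a ⬝ᵥ y.b⟩⟩
instance : One (Heis n R) := ⟨⟨0, 0, 0⟩⟩
instance : Inv (Heis n R) := ⟨fun x => ⟨-x.a, -x.b, -x.c + x.a ⬝ᵥ x.b⟩⟩

@[simp] theorem mul_a (x y : Heis n R) : (x * y).a = x.a + y.a := rfl
@[simp] theorem mul_b (x y : Heis n R) : (x * y).b = x.b + y.b := rfl
@[simp] theorem mul_c (x y : Heis n R) : (x * y).c = x.c + y.c + x.a ⬝ᵥ y.b := rfl
@[simp] theorem one_a : (1 : Heis n R).a = 0 := rfl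
@[simp] theorem one_b : (1 : Heis n R).b = 0 := rfl
@[simp] theorem one_c : (1 : Heis n R).c = 0 := rfl
@[simp] theorem inv_a (x : Heis n R) : (x⁻¹).a = -x.a := rfl
@[simp] theorem inv_b (x : Heis n R) : (x⁻¹).b = -x.b := rfl
@[simp] theorem inv_c (x : Heis n R) : (x⁻¹).c = -x.c + x.a ⬝ᵥ x.b := rfl

instance : Group (Heis n R) where
  mul_assoc x y z := by
    ext
    · simp [add_assoc]
    · simp [add_assoc]
    · simp only [mul_c, mul_a, mul_b, dotProduct_add, add_dotProduct]; ring
  one_mul x := by ext <;> simp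
  mul_one x := by ext <;> simp
  inv_mul_cancel x := by
    ext
    · simp
    · simp
    · simp only [mul_c, inv_c, inv_a, neg_dotProduct, one_c]; ring

theorem pow_a (x : Heis n R) (k : ℕ) : (x ^ k).a = k • x.a := by
  induction k with
  | zero => simp
  | succ k ih => rw [pow_succ, mul_a, ih, succ_nsmul]

theorem pow_b (x : Heis n R) (k : ℕ) : (x ^ k).b = k • x.b := by
  induction k with
  | zero => simp
  | succ k ih => rw [pow_succ, mul_b, ih, succ_nsmul]

theorem pow_c (x : Heis n R) (k : ℕ) :
    (x ^ k).c = k • x.c + (k.choose 2) • (x.a ⬝ᵥ x.b) := by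
  induction k with
  | zero => simp
  | succ k ih =>
    rw [pow_succ, mul_c, ih, pow_a, smul_dotProduct, Nat.choose_succ_succ' k 1, Nat.choose_one_right,
      succ_nsmul, add_nsmul]
    ring

/-- Exponent `p` in odd characteristic. -/
theorem pow_prime_eq_one {p : ℕ} [hp : Fact p.Prime] (hp2 : p ≠ 2) (x : Heis n (ZMod p)) :
    x ^ p = 1 := by
  have hdvd : p ∣ p.choose 2 := by
    apply hp.out.dvd_choose_self (by norm_num)
    have := hp.out.two_le
    omega
  obtain ⟨m, hm⟩ := hdvd
  apply Heis.ext
  · rw [pow_a]; ext i; simp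
  · rw [pow_b]; ext i; simp
  · rw [pow_c, hm]; simp

section center

theorem mem_center_iff (x : Heis n R) :
    x ∈ Subgroup.center (Heis n R) ↔ x.a = 0 ∧ x.b = 0 := by
  classical
  rw [Subgroup.mem_center_iff]
  constructor
  · intro h
    constructor
    · ext i
      have h1 := congrArg Heis.c (h ⟨0, Pi.single i 1, 0⟩)
      simp only [mul_c, zero_dotProduct, dotProduct_single, mul_one] at h1
      simpa using h1.symm
    · ext i
      have h1 := congrArg Heis.c (h ⟨Pi.single i 1, 0, 0⟩)
      simp only [mul_c, dotProduct_zero, single_dotProduct, one_mul] at h1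
      simpa using h1
  · rintro ⟨ha, hb⟩ g
    ext
    · simp [add_comm]
    · simp [add_comm]
    · simp only [mul_c, ha, hb, zero_dotProduct, dotProduct_zero]; ring

/-- the central element `(0,0,t)` -/
def zc (t : R) : Heis n R := ⟨0, 0, t⟩

theorem zc_mem_center (t : R) : (zc t : Heis n R) ∈ Subgroup.center (Heis n R) :=
  (mem_center_iff _).mpr ⟨rfl, rfl⟩

theorem zc_injective : Function.Injective (zc : R → Heis n R) := by
  intro s t h
  exact congrArg Heis.c h

theorem eq_zc_of_mem_center {x : Heis n R} (hx : x ∈ Subgroup.center (Heis n R)) :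
    x = zc x.c := by
  obtain ⟨ha, hb⟩ := (mem_center_iff x).mp hx
  exact Heis.ext ha hb rfl

/-- the centre is in bijection with `R` -/
noncomputable def centerEquiv : R ≃ Subgroup.center (Heis n R) :=
  Equiv.ofBijective (fun t => ⟨zc t, zc_mem_center t⟩)
    ⟨fun _ _ h => zc_injective (congrArg Subtype.val h),
     fun x => ⟨x.1.c, Subtype.ext (eq_zc_of_mem_center x.2).symm⟩⟩

theorem card_center : Nat.card (Subgroup.center (Heis n R)) = Nat.card R :=
  (Nat.card_congr centerEquiv).symm

theorem commutatorElement_eq (x y : Heis n R) :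
    ⁅x, y⁆ = zc (x.a ⬝ᵥ y.b - y.a ⬝ᵥ x.b) := by
  rw [commutatorElement_def]
  apply Heis.ext
  · simp [zc]
  · simp [zc]
  · simp only [mul_c, mul_a, inv_c, inv_a, inv_b, zc, add_dotProduct, neg_dotProduct,
      dotProduct_neg]
    ring

theorem commutator_le_center : commutator (Heis n R) ≤ Subgroup.center (Heis n R) := by
  rw [commutator_def, Subgroup.commutator_le]
  intro x _ y _
  rw [commutatorElement_eq]
  exact zc_mem_center _

theorem center_le_commutator (hn : 1 ≤ n) :
    Subgroup.center (Heis n R) ≤ commutator (Heis n R) := by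
  classical
  intro x hx
  rw [eq_zc_of_mem_center hx]
  have h : ⁅(⟨Pi.single ⟨0, hn⟩ x.c, 0, 0⟩ : Heis n R), ⟨0, Pi.single ⟨0, hn⟩ 1, 0⟩⁆ = zc x.c := by
    rw [commutatorElement_eq]
    simp
  rw [← h, commutator_def]
  exact Subgroup.commutator_mem_commutator (Subgroup.mem_top _) (Subgroup.mem_top _)

theorem commutator_eq_center (hn : 1 ≤ n) :
    commutator (Heis n R) = Subgroup.center (Heis n R) :=
  le_antisymm commutator_le_center (center_le_commutator hn)

end center

/-- the underlying product type -/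
def equivProd : Heis n R ≃ (Fin n → R) × (Fin n → R) × R where
  toFun x := (x.a, x.b, x.c)
  invFun y := ⟨y.1, y.2.1, y.2.2⟩
  left_inv _ := rfl
  right_inv _ := rfl

instance [Finite R] : Finite (Heis n R) := Finite.of_equiv _ equivProd.symm

theorem card_heis [Finite R] : Nat.card (Heis n R) = Nat.card R ^ (1 + 2 * n) := by
  rw [Nat.card_congr equivProd, Nat.card_prod, Nat.card_prod, Nat.card_fun, Nat.card_fin]
  ring

section zmod

variable {p : ℕ} [hp : Fact p.Prime]

theorem isPGroup : IsPGroup p (Heis n (ZMod p)) := by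
  apply IsPGroup.of_card (n := 1 + 2 * n)
  rw [card_heis, Nat.card_zmod]

theorem isSpecial (hp2 : p ≠ 2) (hn : 1 ≤ n) : Cfsg.IsSpecial p (Heis n (ZMod p)) := by
  refine ⟨isPGroup, ?_, commutator_eq_center hn⟩
  apply le_antisymm
  · apply Cfsg.Agent.Lib.Helper1.frattini_le_of_elementary_quotient p _ commutator_le_center
    intro x
    rw [pow_prime_eq_one hp2]
    exact Subgroup.one_mem _
  · rw [← commutator_eq_center hn]
    exact Cfsg.Agent.Lib.Helper1.commutator_le_frattini_of_isPGroup p isPGroup

theorem isExtraspecial (hp2 : p ≠ 2) (hn : 1 ≤ n) :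
    Cfsg.IsExtraspecial p (Heis n (ZMod p)) :=
  ⟨isSpecial hp2 hn, by rw [card_center, Nat.card_zmod]⟩

end zmod

/-! ### The linear representation on `R × (Fin n → R) × R` -/

/-- the action of `(a,b,c)` on column vectors `(s, v, t)` -/
def T (x : Heis n R) : (R × (Fin n → R) × R) →ₗ[R] (R × (Fin n → R) × R) where
  toFun w := (w.1 + x.a ⬝ᵥ w.2.1 + x.c * w.2.2, w.2.1 + w.2.2 • x.b, w.2.2)
  map_add' u w := by
    ext
    · simp only [Prod.fst_add, Prod.snd_add, dotProduct_add, mul_add]; ring
    · simp only [Prod.fst_add, Prod.snd_add, Pi.add_apply, Pi.smul_apply, smul_eq_mul]; ring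
    · simp
  map_smul' r w := by
    ext
    · simp only [Prod.smul_fst, Prod.smul_snd, dotProduct_smul, smul_eq_mul, RingHom.id_apply,
        mul_add]; ring
    · simp only [Prod.smul_fst, Prod.smul_snd, Pi.add_apply, Pi.smul_apply, smul_eq_mul,
        RingHom.id_apply]; ring
    · simp

theorem T_apply (x : Heis n R) (w : R × (Fin n → R) × R) :
    T x w = (w.1 + x.a ⬝ᵥ w.2.1 + x.c * w.2.2, w.2.1 + w.2.2 • x.b, w.2.2) := rfl

/-- `T` as a monoid homomorphism into the endomorphism ring. -/
def Thom : Heis n R →* Module.End R (R × (Fin n → R) × R) where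
  toFun := T
  map_one' := by
    apply LinearMap.ext
    intro w
    rw [T_apply]
    simp
  map_mul' x y := by
    apply LinearMap.ext
    intro w
    rw [Module.End.mul_apply, T_apply, T_apply, T_apply]
    ext
    · simp only [mul_a, mul_c, add_dotProduct, dotProduct_add, dotProduct_smul, smul_eq_mul]; ring
    · simp only [mul_b, Pi.add_apply, Pi.smul_apply, smul_eq_mul]; ring
    · rfl

theorem Thom_injective : Function.Injective (Thom : Heis n R →* _) := by
  classical
  intro x y h
  have h1 : ∀ w, T x w = T y w := fun w => by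
    have := congrArg (fun f : Module.End R (R × (Fin n → R) × R) => f w) h
    exact this
  apply Heis.ext
  · ext i
    have := congrArg Prod.fst (h1 (0, Pi.single i 1, 0))
    simpa [T_apply] using this
  · have := congrArg (fun w => w.2.1) (h1 (0, 0, 1))
    simpa [T_apply] using this
  · have := congrArg Prod.fst (h1 (0, 0, 1))
    simpa [T_apply] using this

section embed

variable {p : ℕ} [hp : Fact p.Prime]

/-- a linear identification of the representation space with `Fin (n+2) → ZMod p` -/
noncomputable def spaceEquiv (n p : ℕ) [Fact p.Prime] :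
    (ZMod p × (Fin n → ZMod p) × ZMod p) ≃ₗ[ZMod p] (Fin (n + 2) → ZMod p) :=
  LinearEquiv.ofFinrankEq _ _ (by
    simp only [Module.finrank_prod, Module.finrank_self, Module.finrank_fin_fun]
    ring)

/-- the embedding of the Heisenberg group in `GL (Fin (n+2)) (ZMod p)` -/
noncomputable def embed (n p : ℕ) [Fact p.Prime] :
    Heis n (ZMod p) →* Matrix.GeneralLinearGroup (Fin (n + 2)) (ZMod p) :=
  (Matrix.GeneralLinearGroup.toLin.symm.toMonoidHom.comp
    (LinearMap.GeneralLinearGroup.congrLinearEquiv (spaceEquiv n p)).toMonoidHom).comp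
      (Thom (n := n) (R := ZMod p)).toHomUnits

theorem embed_injective : Function.Injective (embed n p) := by
  unfold embed
  intro x y h
  have h1 := Matrix.GeneralLinearGroup.toLin.symm.injective h
  have h2 := (LinearMap.GeneralLinearGroup.congrLinearEquiv (spaceEquiv n p)).injective h1
  apply Thom_injective
  have h3 := congrArg Units.val h2
  exact h3

end embed

/-! ### Transport of extraspeciality -/

theorem isSpecial_of_mulEquiv {A B : Type*} [Group A] [Group B] (e : A ≃* B) {p : ℕ}
    (h : Cfsg.IsSpecial p A) : Cfsg.IsSpecial p B := by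
  obtain ⟨h1, h2, h3⟩ := h
  have hfr : (frattini A).map e.toMonoidHom = frattini B := OrderIso.map_radical e.mapSubgroup
  have hce : (Subgroup.center A).map e.toMonoidHom = Subgroup.center B := by
    ext y
    rw [Subgroup.mem_map, Subgroup.mem_center_iff]
    constructor
    · rintro ⟨x, hx, rfl⟩ g
      obtain ⟨g', rfl⟩ := e.surjective g
      have := Subgroup.mem_center_iff.mp hx g'
      show e g' * e x = e x * e g'
      rw [← map_mul, ← map_mul, this]
    · intro hy
      refine ⟨e.symm y, ?_, by simp⟩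
      rw [Subgroup.mem_center_iff]
      intro g
      apply e.injective
      rw [map_mul, map_mul, e.apply_symm_apply]
      exact hy (e g)
  have hco : (commutator A).map e.toMonoidHom = commutator B := by
    rw [commutator_def, commutator_def, Subgroup.map_commutator]
    have : (⊤ : Subgroup A).map e.toMonoidHom = ⊤ := by
      rw [← MonoidHom.range_eq_map]
      exact MonoidHom.range_eq_top.mpr e.surjective
    rw [this]
  refine ⟨h1.of_equiv e, ?_, ?_⟩
  · rw [← hfr, ← hce, h2]
  · rw [← hco, ← hce, h3]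

theorem isExtraspecial_of_mulEquiv {A B : Type*} [Group A] [Group B] (e : A ≃* B) {p : ℕ}
    (h : Cfsg.IsExtraspecial p A) : Cfsg.IsExtraspecial p B := by
  refine ⟨isSpecial_of_mulEquiv e h.1, ?_⟩
  rw [← h.2]
  apply Nat.card_congr
  exact (Subgroup.centerCongr e).symm.toEquiv

end Cfsg.Agent.Lib.Helper2.HeisLib
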