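import Mathlib
import Cfsg.Prelude.Def_TwoFusion
import Cfsg.Agent.S3864
import Cfsg.Agent.Lib.Helper2.FourGroup

/-! Fusion of involutions in groups with dihedral Sylow 2-subgroups (including the four-group):
no index-two subgroup and no isolated involution iff all involutions are conjugate iff the
four-subgroups have "full" automizers. -/

namespace Cfsg.Agent.Lib.Helper2.DihedralFusion

open Cfsg Cfsg.Agent.S3864 Cfsg.Agent.Lib.Helper1 Cfsg.Agent.Lib.Helper2
open Cfsg.Agent.Lib.Helper2.FourGroup DihedralGroup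

section General

variable {G : Type*} [Group G]

theorem mul_self_of_orderOf_two {g : G} (h : orderOf g = 2) : g * g = 1 := by
  rw [← pow_two, ← h, pow_orderOf_eq_one]

theorem ne_one_of_orderOf_two {g : G} (h : orderOf g = 2) : g ≠ 1 := by
  rintro rfl
  simp at h

theorem orderOf_conj_eq (c u : G) : orderOf (c * u * c⁻¹) = orderOf u := by
  have : c * u * c⁻¹ = MulAut.conj c u := by simp [MulAut.conj_apply]
  rw [this, MulEquiv.orderOf_eq]

theorem mem_zpowers_of_orderOf_two {v x : G} (hv : orderOf v = 2) (hx : x ∈ Subgroup.zpowers v) :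
    x = 1 ∨ x = v := by
  obtain ⟨k, rfl⟩ := Subgroup.mem_zpowers_iff.mp hx
  rw [← zpow_mod_orderOf, hv]
  have h : k % ((2 : ℕ) : ℤ) = 0 ∨ k % ((2 : ℕ) : ℤ) = 1 := by omega
  rcases h with h | h
  · left; rw [h, zpow_zero]
  · right; rw [h, zpow_one]

theorem isolated_conj {u : G} (c : G) (h : IsIsolatedInvolution u) :
    IsIsolatedInvolution (c * u * c⁻¹) := by
  refine ⟨by rw [orderOf_conj_eq]; exact h.1, ?_⟩
  intro g hg
  have hcomm : Commute u ((c⁻¹ * g * c) * u * (c⁻¹ * g * c)⁻¹) := by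
    have h1 : c⁻¹ * ((c * u * c⁻¹) * (g * (c * u * c⁻¹) * g⁻¹)) * c
        = c⁻¹ * ((g * (c * u * c⁻¹) * g⁻¹) * (c * u * c⁻¹)) * c := by rw [hg.eq]
    unfold Commute SemiconjBy
    calc u * ((c⁻¹ * g * c) * u * (c⁻¹ * g * c)⁻¹)
        = c⁻¹ * ((c * u * c⁻¹) * (g * (c * u * c⁻¹) * g⁻¹)) * c := by group
      _ = c⁻¹ * ((g * (c * u * c⁻¹) * g⁻¹) * (c * u * c⁻¹)) * c := h1
      _ = (c⁻¹ * g * c) * u * (c⁻¹ * g * c)⁻¹ * u := by group
  have h2 := h.2 (c⁻¹ * g * c) hcomm
  calc g * (c * u * c⁻¹) * g⁻¹ = c * ((c⁻¹ * g * c) * u * (c⁻¹ * g * c)⁻¹) * c⁻¹ := by group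
    _ = c * u * c⁻¹ := by rw [h2]

/-- If all involutions are conjugate and there are two distinct commuting involutions, then no
involution is isolated. -/
theorem no_isolated_of_allConj {z y : G} (hz : orderOf z = 2) (hy : orderOf y = 2)
    (hc : Commute z y) (hne : y ≠ z)
    (hall : ∀ a b : G, orderOf a = 2 → orderOf b = 2 → IsConj a b) (u : G) :
    ¬ IsIsolatedInvolution u := by
  intro hu
  obtain ⟨c, hcz⟩ := isConj_iff.1 (hall u z hu.1 hz)
  have hz' := isolated_conj c hu
  rw [hcz] at hz'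
  exact not_isolated_aux hc hne (hall z y hz hy) hz'.2

variable [Finite G]

theorem exists_conj_mem_sylow_of_orderOf_two (P : Sylow 2 G) {g : G} (hg : orderOf g = 2) :
    ∃ c : G, c * g * c⁻¹ ∈ (P : Subgroup G) := by
  haveI : Fact (Nat.Prime 2) := ⟨Nat.prime_two⟩
  have hz : IsPGroup 2 ↥(Subgroup.zpowers g) :=
    IsPGroup.of_card (n := 1) (by rw [Nat.card_zpowers, hg, pow_one])
  obtain ⟨h, hh⟩ := exists_conj_le_of_not_dvd_index hz P.not_dvd_index
  refine ⟨h⁻¹, ?_⟩
  have := hh g (Subgroup.mem_zpowers g)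
  rwa [inv_inv]

/-- If the involutions of a Sylow 2-subgroup are all conjugate, so are all involutions. -/
theorem allConj_of_sylow (P : Sylow 2 G)
    (h : ∀ u v : G, u ∈ (P : Subgroup G) → v ∈ (P : Subgroup G) → orderOf u = 2 → orderOf v = 2 →
      IsConj u v) (a b : G) (ha : orderOf a = 2) (hb : orderOf b = 2) : IsConj a b := by
  obtain ⟨c, hc⟩ := exists_conj_mem_sylow_of_orderOf_two P ha
  obtain ⟨d, hd⟩ := exists_conj_mem_sylow_of_orderOf_two P hb
  have h1 : IsConj a (c * a * c⁻¹) := isConj_iff.2 ⟨c, rfl⟩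
  have h2 : IsConj b (d * b * d⁻¹) := isConj_iff.2 ⟨d, rfl⟩
  have h3 := h _ _ hc hd (by rw [orderOf_conj_eq, ha]) (by rw [orderOf_conj_eq, hb])
  exact h1.trans (h3.trans h2.symm)

end General

section Four

variable {G : Type*} [Group G] [Finite G] (P : Sylow 2 G) [hP : IsKleinFour ↥(P : Subgroup G)]

include hP in
theorem four_allConj_of_noIdx2 (h2 : ∀ H : Subgroup G, H.index ≠ 2) (a b : G)
    (ha : orderOf a = 2) (hb : orderOf b = 2) : IsConj a b := by
  apply allConj_of_sylow P _ a b ha hb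
  intro u v hu hv hu2 hv2
  by_contra hnc
  have hQP : Subgroup.zpowers v ≤ (P : Subgroup G) := (Subgroup.zpowers_le).2 hv
  have hQi : (Subgroup.zpowers v).relIndex (P : Subgroup G) = 2 := by
    have h1 := Subgroup.relIndex_mul_relIndex ⊥ (Subgroup.zpowers v) (P : Subgroup G) bot_le hQP
    rw [Subgroup.relIndex_bot_left, Subgroup.relIndex_bot_left, Nat.card_zpowers, hv2,
      IsKleinFour.card_four] at h1
    omega
  obtain ⟨M, -, hM2, -⟩ := thompson_transfer P _ hQP hQi u hu2 (by
    intro g hg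
    rcases mem_zpowers_of_orderOf_two hv2 hg with h | h
    · have : orderOf (g * u * g⁻¹) = 2 := by rw [orderOf_conj_eq, hu2]
      rw [h] at this
      simp at this
    · exact hnc (isConj_iff.2 ⟨g, h⟩))
  exact h2 M hM2

include hP in
theorem four_noIdx2_of_allConj
    (hall : ∀ a b : G, orderOf a = 2 → orderOf b = 2 → IsConj a b) (H : Subgroup G) :
    H.index ≠ 2 := by
  intro hH
  haveI : H.Normal := Subgroup.normal_of_index_eq_two hH
  obtain ⟨a, ha, ha1, -⟩ := exists_third (P : Subgroup G) (Subgroup.one_mem _)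
  obtain ⟨b, hb, hb1, hba⟩ := exists_third (P : Subgroup G) ha
  have hab1 : a * b ≠ 1 := by
    intro h
    have h1 : a⁻¹ = b := inv_eq_of_mul_eq_one_right h
    rw [inv_eq_of_mem (P : Subgroup G) ha] at h1
    exact hba h1.symm
  obtain ⟨w, hwP, hw1, hwH⟩ : ∃ w ∈ (P : Subgroup G), w ≠ 1 ∧ w ∈ H := by
    by_cases haH : a ∈ H
    · exact ⟨a, ha, ha1, haH⟩
    by_cases hbH : b ∈ H
    · exact ⟨b, hb, hb1, hbH⟩
    refine ⟨a * b, Subgroup.mul_mem _ ha hb, hab1, ?_⟩
    rw [Subgroup.mul_mem_iff_of_index_two hH]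
    exact ⟨fun h => absurd h haH, fun h => absurd h hbH⟩
  have hle : (P : Subgroup G) ≤ H := by
    intro g hg
    by_cases hg1 : g = 1
    · rw [hg1]; exact H.one_mem
    obtain ⟨c, hc⟩ := isConj_iff.1 (hall w g (orderOf_of_mem _ hwP hw1) (orderOf_of_mem _ hg hg1))
    rw [← hc]
    exact Subgroup.Normal.conj_mem inferInstance w hwH c
  exact not_le_of_index_even P (by rw [hH]) hle

include hP in
theorem four_main (r : ℕ) (hr1 : r ≠ 1) (hr2 : r ≠ 2) :
    ((∀ H : Subgroup G, H.index ≠ 2) ∧ (∀ z : G, ¬ IsIsolatedInvolution z)) ↔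
    ((∀ a b : G, orderOf a = 2 → orderOf b = 2 → IsConj a b) ∨
      (∀ U : Subgroup G, U ≤ (P : Subgroup G) → IsKleinFour U →
        (Subgroup.centralizer (U : Set G)).relIndex (Subgroup.normalizer (U : Set G)) = r)) := by
  constructor
  · rintro ⟨h2, -⟩
    exact Or.inl (four_allConj_of_noIdx2 P h2)
  · intro h
    have hall : ∀ a b : G, orderOf a = 2 → orderOf b = 2 → IsConj a b := by
      rcases h with h | h
      · exact h
      · apply allConj_of_sylow P
        intro u v hu hv hu2 hv2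
        have hr := h (P : Subgroup G) le_rfl hP
        exact isConj_of_relIndex (P : Subgroup G) (by rw [hr]; exact hr1) (by rw [hr]; exact hr2)
          hu hv (ne_one_of_orderOf_two hu2) (ne_one_of_orderOf_two hv2)
    refine ⟨four_noIdx2_of_allConj P hall, ?_⟩
    obtain ⟨a, ha, ha1, -⟩ := exists_third (P : Subgroup G) (Subgroup.one_mem _)
    obtain ⟨b, hb, hb1, hba⟩ := exists_third (P : Subgroup G) ha
    exact no_isolated_of_allConj (orderOf_of_mem _ ha ha1) (orderOf_of_mem _ hb hb1)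
      (comm_of_mem _ ha hb) hba hall

end Four

section Dih

variable {G : Type*} [Group G] [Finite G] (P : Sylow 2 G) {m k : ℕ}
  (D : DihData (P : Subgroup G) m k)

include D in
theorem k_add_k : (k : ZMod m) + (k : ZMod m) = 0 := by
  have : ((2 * k : ℕ) : ZMod m) = 0 := by rw [← D.hmk]; exact ZMod.natCast_self m
  rw [← this]; push_cast; ring

theorem z_mul_y : D.z * D.y = D.y * D.z := by
  unfold DihData.z DihData.y
  rw [← map_mul, ← map_mul, r_mul_sr, sr_mul_r]
  congr 2
  linear_combination (-1 : ZMod m) * k_add_k P D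

theorem z_mul_y' : D.z * D.y' = D.y' * D.z := by
  unfold DihData.z DihData.y'
  rw [← map_mul, ← map_mul, r_mul_sr, sr_mul_r]
  congr 2
  linear_combination (-1 : ZMod m) * k_add_k P D

theorem y_ne_z : D.y ≠ D.z := by
  intro h
  unfold DihData.z DihData.y at h
  have := D.inj h
  cases this

theorem y'_ne_z : D.y' ≠ D.z := by
  intro h
  unfold DihData.z DihData.y' at h
  have := D.inj h
  cases this

theorem dih_allConj_of_conj (hzy : IsConj D.z D.y) (hzy' : IsConj D.z D.y') (a b : G)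
    (ha : orderOf a = 2) (hb : orderOf b = 2) : IsConj a b := by
  have key : ∀ g : G, orderOf g = 2 → IsConj g D.z := by
    intro g hg
    rcases invol_cases P D hg with h | h | h
    · exact h
    · exact h.trans hzy.symm
    · exact h.trans hzy'.symm
  exact (key a ha).trans (key b hb).symm

theorem dih_conj_of_noIdx2 (h2 : ∀ H : Subgroup G, H.index ≠ 2) :
    IsConj D.z D.y ∧ IsConj D.z D.y' := by
  constructor
  · by_contra ha
    obtain ⟨M, -, hM2, -⟩ := thompson_apply P D chi0 DihData.chi0_surj D.orderOf_y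
      (fun _ h => ha h.symm) (fun h => absurd h (y_not_mem_sub_chi0 P D))
      (fun h => absurd h (y'_not_mem_sub_chi0 P D))
    exact h2 M hM2
  · by_contra hb
    obtain ⟨M, -, hM2, -⟩ := thompson_apply P D chi0 DihData.chi0_surj D.orderOf_y'
      (fun _ h => hb h.symm) (fun h => absurd h (y_not_mem_sub_chi0 P D))
      (fun h => absurd h (y'_not_mem_sub_chi0 P D))
    exact h2 M hM2

/-- the four-group `⟨z, y⟩` -/
def U₁ : Subgroup G :=
  fourSub D.z D.y (mul_self_of_orderOf_two D.orderOf_z) (mul_self_of_orderOf_two D.orderOf_y)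
    (z_mul_y P D)

/-- the four-group `⟨z, y'⟩` -/
def U₂ : Subgroup G :=
  fourSub D.z D.y' (mul_self_of_orderOf_two D.orderOf_z) (mul_self_of_orderOf_two D.orderOf_y')
    (z_mul_y' P D)

theorem U₁_le : U₁ P D ≤ (P : Subgroup G) := fourSub_le D.z_mem D.y_mem

theorem U₂_le : U₂ P D ≤ (P : Subgroup G) := fourSub_le D.z_mem D.y'_mem

theorem isKleinFour_U₁ : IsKleinFour ↥(U₁ P D) :=
  isKleinFour_fourSub (ne_one_of_orderOf_two D.orderOf_z) (ne_one_of_orderOf_two D.orderOf_y)
    (fun h => y_ne_z P D h.symm)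

theorem isKleinFour_U₂ : IsKleinFour ↥(U₂ P D) :=
  isKleinFour_fourSub (ne_one_of_orderOf_two D.orderOf_z) (ne_one_of_orderOf_two D.orderOf_y')
    (fun h => y'_ne_z P D h.symm)

include D in
theorem dih_main (r : ℕ) (hr1 : r ≠ 1) (hr2 : r ≠ 2) :
    ((∀ H : Subgroup G, H.index ≠ 2) ∧ (∀ z : G, ¬ IsIsolatedInvolution z)) ↔
    ((∀ a b : G, orderOf a = 2 → orderOf b = 2 → IsConj a b) ∨
      (∀ U : Subgroup G, U ≤ (P : Subgroup G) → IsKleinFour U →
        (Subgroup.centralizer (U : Set G)).relIndex (Subgroup.normalizer (U : Set G)) = r)) := by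
  constructor
  · rintro ⟨h2, -⟩
    obtain ⟨h1, h1'⟩ := dih_conj_of_noIdx2 P D h2
    exact Or.inl (dih_allConj_of_conj P D h1 h1')
  · intro h
    have hconj : IsConj D.z D.y ∧ IsConj D.z D.y' := by
      rcases h with h | h
      · exact ⟨h _ _ D.orderOf_z D.orderOf_y, h _ _ D.orderOf_z D.orderOf_y'⟩
      · constructor
        · have hr := h (U₁ P D) (U₁_le P D) (isKleinFour_U₁ P D)
          haveI := isKleinFour_U₁ P D
          exact isConj_of_relIndex (U₁ P D) (by rw [hr]; exact hr1) (by rw [hr]; exact hr2)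
            left_mem_fourSub right_mem_fourSub (ne_one_of_orderOf_two D.orderOf_z)
            (ne_one_of_orderOf_two D.orderOf_y)
        · have hr := h (U₂ P D) (U₂_le P D) (isKleinFour_U₂ P D)
          haveI := isKleinFour_U₂ P D
          exact isConj_of_relIndex (U₂ P D) (by rw [hr]; exact hr1) (by rw [hr]; exact hr2)
            left_mem_fourSub right_mem_fourSub (ne_one_of_orderOf_two D.orderOf_z)
            (ne_one_of_orderOf_two D.orderOf_y')
    have hall := dih_allConj_of_conj P D hconj.1 hconj.2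
    refine ⟨fun H hH => no_index_two P D hconj.1 hconj.2 H
      (Subgroup.normal_of_index_eq_two hH) hH, ?_⟩
    exact no_isolated_of_allConj D.orderOf_z D.orderOf_y (z_mul_y P D) (y_ne_z P D) hall

end Dih

end Cfsg.Agent.Lib.Helper2.DihedralFusion
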