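import Mathlib
import Cfsg.Prelude.Def_Transfer
import Cfsg.Agent.Lib.Helper2.MetaOdd4
import Cfsg.Agent.Lib.Helper1.CoprimeAbelian
import Cfsg.Agent.Lib.Helper1.Metacyclic
import Cfsg.Agent.Lib.Helper7.ConjK
import Cfsg.Agent.Lib.Helper7.SylowAux

/-!
# Subgroups of `2`-groups with a cyclic subgroup of index two all of whose outside elements are
involutions (dihedral `2`-groups), and odd-order elements normalizing them
-/

set_option autoImplicit false
open scoped commutatorElement

namespace Cfsg.Agent.Lib.Helper2.DihedralSub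

open Cfsg.Agent.Lib.Helper1 Cfsg.Agent.Lib.Helper2.MetaOdd

variable {G : Type*} [Group G]

/-- In a cyclic subgroup, elements of order dividing a prime `p` are powers of any nontrivial
such element. -/
theorem mem_zpowers_of_pow_prime_eq_one [Finite G] {p : ℕ} [hp : Fact p.Prime] (R : Subgroup G)
    (hR : IsCyclic R) (c d : G) (hc : c ∈ R) (hcp : c ^ p = 1)
    (hd : d ∈ R) (hdp : d ^ p = 1) (hd1 : d ≠ 1) : c ∈ Subgroup.zpowers d := by
  have h1 := card_omegaSub_le R hR (comm_of_cyclic R hR) p hp.out.pos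
  have h2 : Subgroup.zpowers d ≤ omegaSub R (comm_of_cyclic R hR) p :=
    Subgroup.zpowers_le.mpr (mem_omegaSub.mpr ⟨hd, hdp⟩)
  have h3 : Nat.card (Subgroup.zpowers d) = p := by
    rw [Nat.card_zpowers]; exact orderOf_eq_prime hdp hd1
  have h4 := Subgroup.eq_of_le_of_card_ge h2 (by rw [h3]; exact h1)
  rw [h4]
  exact mem_omegaSub.mpr ⟨hc, hcp⟩

/-- In a cyclic subgroup, two elements of the same order generate the same subgroup. -/
theorem zpowers_eq_of_orderOf_eq [Finite G] (R : Subgroup G) (hR : IsCyclic R) (c c' : G)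
    (hc : c ∈ R) (hc' : c' ∈ R) (h : orderOf c = orderOf c') :
    Subgroup.zpowers c = Subgroup.zpowers c' := by
  have ho : 0 < orderOf c := orderOf_pos c
  have h1 := card_omegaSub_le R hR (comm_of_cyclic R hR) (orderOf c) ho
  have h2 : Subgroup.zpowers c ≤ omegaSub R (comm_of_cyclic R hR) (orderOf c) :=
    Subgroup.zpowers_le.mpr (mem_omegaSub.mpr ⟨hc, pow_orderOf_eq_one c⟩)
  have h2' : Subgroup.zpowers c' ≤ omegaSub R (comm_of_cyclic R hR) (orderOf c) :=
    Subgroup.zpowers_le.mpr (mem_omegaSub.mpr ⟨hc', by rw [h]; exact pow_orderOf_eq_one c'⟩)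
  have h4 := Subgroup.eq_of_le_of_card_ge h2 (by rw [Nat.card_zpowers]; exact h1)
  have h4' := Subgroup.eq_of_le_of_card_ge h2' (by rw [Nat.card_zpowers, ← h]; exact h1)
  rw [h4, h4']

/-- An element of odd order normalizing a cyclic `2`-subgroup centralizes it. -/
theorem centralizes_of_isCyclic_two_group [Finite G] (C : Subgroup G) (hC : IsCyclic C)
    (h2 : IsPGroup 2 C) (g : G) (hg : g ∈ Subgroup.normalizer (C : Set G))
    (hodd : Odd (orderOf g)) : g ∈ Subgroup.centralizer (C : Set G) := by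
  haveI : IsMulCommutative C := ⟨⟨fun a b => by
    apply Subtype.ext
    rw [Subgroup.coe_mul, Subgroup.coe_mul]
    exact comm_of_cyclic C hC a a.2 b b.2⟩⟩
  obtain ⟨e, he⟩ := IsPGroup.iff_card.mp h2
  have hcop : (Nat.card (Subgroup.zpowers g)).Coprime (Nat.card C) := by
    rw [Nat.card_zpowers, he]
    exact Nat.Coprime.pow_right e (Nat.coprime_two_right.mpr hodd)
  have hA : Subgroup.zpowers g ≤ Subgroup.normalizer (C : Set G) := Subgroup.zpowers_le.mpr hg
  have key := coprime_abelian_trivial_of_fix_prime_order (Subgroup.zpowers g) C hA hcop ?_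
  · exact key (Subgroup.mem_zpowers g)
  · intro v hv hvp a ha
    have hv2 : orderOf v = 2 := by
      have h3 : orderOf v ∣ 2 ^ e := by
        rw [← he, ← Subgroup.orderOf_mk v hv]
        exact orderOf_dvd_natCard _
      exact ((Nat.prime_dvd_prime_iff_eq hvp Nat.prime_two).mp
        (hvp.dvd_of_dvd_pow h3))
    have hv2' : v ^ 2 = 1 := by rw [← hv2]; exact pow_orderOf_eq_one v
    have hv1 : v ≠ 1 := by
      intro h; rw [h, orderOf_one] at hv2; omega
    have hav : a * v * a⁻¹ ∈ C := (Subgroup.mem_normalizer_iff.mp (hA ha) v).mp hv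
    have hav2 : (a * v * a⁻¹) ^ 2 = 1 := by rw [conj_pow, hv2', mul_one, mul_inv_cancel]
    have h5 := mem_zpowers_of_pow_prime_eq_one (p := 2) C hC (a * v * a⁻¹) v hav hav2 hv hv2' hv1
    rw [Subgroup.mem_zpowers_iff] at h5
    obtain ⟨k, hk⟩ := h5
    have h6 : a * v * a⁻¹ = v := by
      rcases Int.emod_two_eq_zero_or_one k with h | h
      · exfalso
        have hk2 : v ^ k = 1 := by
          obtain ⟨j, hj⟩ : (2 : ℤ) ∣ k := Int.dvd_of_emod_eq_zero h
          rw [hj, zpow_mul, zpow_ofNat, hv2', one_zpow]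
        rw [hk2] at hk
        apply hv1
        have : a * v * a⁻¹ = 1 := hk.symm
        have h7 : v = a⁻¹ * (a * v * a⁻¹) * a := by group
        rw [h7, this]; group
      · have hk2 : v ^ k = v := by
          have hj : k = 2 * (k / 2) + 1 := by omega
          rw [hj, zpow_add, zpow_mul, zpow_ofNat, hv2', one_zpow, one_mul, zpow_one]
        rw [← hk, hk2]
    calc a * v = (a * v * a⁻¹) * a := by group
      _ = v * a := by rw [h6]

theorem pow_conj_eq_of_conj_eq (g x q : G) (h1 : g * x * g⁻¹ = x * q) (h2 : g * q * g⁻¹ = q)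
    (k : ℕ) : g ^ k * x * (g ^ k)⁻¹ = x * q ^ k := by
  induction k with
  | zero => simp
  | succ k ih =>
    have hq : g * q ^ k * g⁻¹ = q ^ k := by rw [← conj_pow, h2]
    calc g ^ (k + 1) * x * (g ^ (k + 1))⁻¹ = g * (g ^ k * x * (g ^ k)⁻¹) * g⁻¹ := by
          rw [pow_succ']; group
      _ = g * (x * q ^ k) * g⁻¹ := by rw [ih]
      _ = (g * x * g⁻¹) * (g * q ^ k * g⁻¹) := by group
      _ = x * q * q ^ k := by rw [h1, hq]
      _ = x * q ^ (k + 1) := by rw [pow_succ', mul_assoc]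

theorem eq_one_of_pow_odd_eq_one {p : ℕ} [Fact p.Prime] (S : Subgroup G) (hS : IsPGroup p S)
    (q : G) (hq : q ∈ S) (k : ℕ) (hk : k.Coprime p) (h : q ^ k = 1) : q = 1 := by
  obtain ⟨j, hj⟩ := hS ⟨q, hq⟩
  have hj' : q ^ p ^ j = 1 := by
    have := congrArg Subtype.val hj
    rwa [Subgroup.coe_pow, Subgroup.coe_one] at this
  have h1 : orderOf q ∣ k := orderOf_dvd_of_pow_eq_one h
  have h2 : orderOf q ∣ p ^ j := orderOf_dvd_of_pow_eq_one hj'
  have h3 : orderOf q ∣ Nat.gcd k (p ^ j) := Nat.dvd_gcd h1 h2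
  rw [Nat.Coprime.pow_right j hk, Nat.dvd_one] at h3
  exact orderOf_eq_one_iff.mp h3

/-- **Odd-order normalizing elements centralize**, for subgroups of a `2`-group `S` with a cyclic
subgroup `R` of index two all of whose outside elements are involutions, granted the statement
for Klein four-subgroups. -/
theorem odd_normalizer_le_centralizer [Finite G] (S R : Subgroup G) (hS : IsPGroup 2 S)
    (hRS : R ≤ S) (hRc : IsCyclic R) (hidx : R.relIndex S = 2)
    (hinv : ∀ x ∈ S, x ∉ R → x ^ 2 = 1)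
    (hprod : ∀ x ∈ S, ∀ y ∈ S, x ∉ R → y ∉ R → x⁻¹ * y ∈ R)
    (hfour : ∀ U : Subgroup G, U ≤ S → IsKleinFour U → ∀ g ∈ Subgroup.normalizer (U : Set G),
      Odd (orderOf g) → g ∈ Subgroup.centralizer (U : Set G))
    (Q : Subgroup G) (hQS : Q ≤ S) (g : G) (hg : g ∈ Subgroup.normalizer (Q : Set G))
    (hodd : Odd (orderOf g)) : g ∈ Subgroup.centralizer (Q : Set G) := by
  have hconj : ∀ x ∈ Q, g * x * g⁻¹ ∈ Q :=
    fun x hx => (Subgroup.mem_normalizer_iff.mp hg x).mp hx
  have hQ2 : IsPGroup 2 Q := hS.to_le hQS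
  have hcop : (orderOf g).Coprime 2 := Nat.coprime_two_right.mpr hodd
  by_cases hA : ∃ c₀ ∈ Q, c₀ ^ 2 ≠ 1
  · obtain ⟨c₀, hc₀Q, hc₀2⟩ := hA
    have hinR : ∀ c ∈ Q, c ^ 2 ≠ 1 → c ∈ R :=
      fun c hc h2 => by_contra fun hn => h2 (hinv c (hQS hc) hn)
    -- A1
    have hA1 : ∀ c ∈ Q, c ^ 2 ≠ 1 → g ∈ Subgroup.centralizer (Subgroup.zpowers c : Set G) := by
      intro c hc h2
      have hcR := hinR c hc h2
      have hc'Q := hconj c hc
      have hc'2 : (g * c * g⁻¹) ^ 2 ≠ 1 := by
        rw [conj_pow]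
        intro h
        apply h2
        have : c ^ 2 = g⁻¹ * (g * c ^ 2 * g⁻¹) * g := by group
        rw [this, h]; group
      have hc'R := hinR _ hc'Q hc'2
      have hord : orderOf (g * c * g⁻¹) = orderOf c := by
        rw [← MulAut.conj_apply]
        exact MulEquiv.orderOf_eq (MulAut.conj g) c
      have heq := zpowers_eq_of_orderOf_eq R hRc _ _ hc'R hcR hord
      have hnorm : g ∈ Subgroup.normalizer ((Subgroup.zpowers c : Subgroup G) : Set G) := by
        apply Cfsg.Agent.Lib.Helper7.mem_normalizer_of_map_conj_le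
        rw [MonoidHom.map_zpowers]
        show Subgroup.zpowers (g * c * g⁻¹) ≤ _
        rw [heq]
      have hz2 : IsPGroup 2 (Subgroup.zpowers c) :=
        hS.to_le ((Subgroup.zpowers_le.mpr hcR).trans hRS)
      exact centralizes_of_isCyclic_two_group _ inferInstance hz2 g hnorm hodd
    have hcent_eq : ∀ (c y : G), g ∈ Subgroup.centralizer (Subgroup.zpowers c : Set G) →
        y ∈ Subgroup.zpowers c → g * y * g⁻¹ = y := by
      intro c y hgc hy
      have := Subgroup.mem_centralizer_iff.mp hgc y hy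
      rw [← this]; group
    -- an involution inside `zpowers c₀`
    have hc₀R := hinR c₀ hc₀Q hc₀2
    obtain ⟨j, hj⟩ := (IsPGroup.iff_orderOf.mp hS) ⟨c₀, hQS hc₀Q⟩
    rw [Subgroup.orderOf_mk] at hj
    have hj2 : 2 ≤ j := by
      by_contra hlt
      push Not at hlt
      apply hc₀2
      have h1 : orderOf c₀ ∣ 2 := by
        rw [hj]
        calc 2 ^ j ∣ 2 ^ 1 := pow_dvd_pow 2 (by omega)
          _ = 2 := by norm_num
      exact orderOf_dvd_iff_pow_eq_one.mp h1
    obtain ⟨d, hd⟩ : ∃ d, d = c₀ ^ 2 ^ (j - 1) := ⟨_, rfl⟩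
    have hdz : d ∈ Subgroup.zpowers c₀ := by rw [hd]; exact Subgroup.pow_mem _ (Subgroup.mem_zpowers c₀) _
    have hd2 : d ^ 2 = 1 := by
      rw [hd, ← pow_mul, ← pow_succ, Nat.sub_add_cancel (by omega), ← hj]
      exact pow_orderOf_eq_one c₀
    have hd1 : d ≠ 1 := by
      rw [hd]
      apply pow_ne_one_of_lt_orderOf (by positivity)
      rw [hj]
      exact Nat.pow_lt_pow_right (by norm_num) (by omega)
    have hdR : d ∈ R := Subgroup.zpowers_le.mpr hc₀R hdz
    have hgc₀ := hA1 c₀ hc₀Q hc₀2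
    -- A2
    have hA2 : ∀ x ∈ Q, x ∈ R → g * x * g⁻¹ = x := by
      intro x hxQ hxR
      by_cases hx2 : x ^ 2 = 1
      · have h1 := mem_zpowers_of_pow_prime_eq_one (p := 2) R hRc x d hxR hx2 hdR hd2 hd1
        exact hcent_eq c₀ x hgc₀ (Subgroup.zpowers_le.mpr hdz h1)
      · exact hcent_eq x x (hA1 x hxQ hx2) (Subgroup.mem_zpowers x)
    -- A3
    have hall : ∀ x ∈ Q, g * x * g⁻¹ = x := by
      intro x hxQ
      by_cases hxR : x ∈ R
      · exact hA2 x hxQ hxR
      · have hx'Q := hconj x hxQ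
        have hx'R : g * x * g⁻¹ ∉ R := by
          intro h
          have h1 := hA2 _ hx'Q h
          apply hxR
          have h2 : g * x * g⁻¹ = x := by
            have e2 : g * ((g * x * g⁻¹) * g⁻¹) = g * (x * g⁻¹) := by
              rw [← mul_assoc, h1, mul_assoc]
            exact mul_right_cancel (mul_left_cancel e2)
          rw [← h2]; exact h
        have hq := hprod x (hQS hxQ) _ (hQS hx'Q) hxR hx'R
        have hqQ : x⁻¹ * (g * x * g⁻¹) ∈ Q := Q.mul_mem (Q.inv_mem hxQ) hx'Q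
        have h2 := hA2 _ hqQ hq
        have h1 : g * x * g⁻¹ = x * (x⁻¹ * (g * x * g⁻¹)) := by group
        have h3 := pow_conj_eq_of_conj_eq g x _ h1 h2 (orderOf g)
        rw [pow_orderOf_eq_one, one_mul, inv_one, mul_one] at h3
        have h4 : (x⁻¹ * (g * x * g⁻¹)) ^ orderOf g = 1 := by
          have : x * (x⁻¹ * (g * x * g⁻¹)) ^ orderOf g = x * 1 := by rw [mul_one]; exact h3.symm
          exact mul_left_cancel this
        have h5 := eq_one_of_pow_odd_eq_one (p := 2) S hS _ (hQS hqQ) _ hcop h4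
        rw [h1, h5, mul_one]
    rw [Subgroup.mem_centralizer_iff]
    intro x hx
    have := hall x hx
    calc x * g = (g * x * g⁻¹) * g := by rw [this]
      _ = g * x := by group
  · push Not at hA
    haveI : IsCyclic R := hRc
    haveI : IsCyclic ↥(R ⊓ Q) := Subgroup.isCyclic_of_le (inf_le_left : R ⊓ Q ≤ R)
    have h1 : Nat.card ↥(R ⊓ Q) ≤ 2 := by
      apply card_le_of_isCyclic_of_pow_eq_one (by norm_num)
      intro c
      apply Subtype.ext
      rw [Subgroup.coe_pow, Subgroup.coe_one]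
      exact hA c c.2.2
    have h2 : (R ⊓ Q).relIndex Q ≤ 2 := by
      rw [Subgroup.inf_relIndex_right, ← hidx]
      exact Subgroup.relIndex_le_of_le_right hQS (by rw [hidx]; norm_num)
    have h3 := Subgroup.relIndex_mul_relIndex ⊥ (R ⊓ Q) Q bot_le inf_le_right
    rw [Subgroup.relIndex_bot_left, Subgroup.relIndex_bot_left] at h3
    have h4 : Nat.card Q ≤ 4 := by
      rw [← h3]
      calc Nat.card ↥(R ⊓ Q) * (R ⊓ Q).relIndex Q ≤ 2 * 2 := Nat.mul_le_mul h1 h2
        _ = 4 := by norm_num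
    obtain ⟨i, hi⟩ := IsPGroup.iff_card.mp hQ2
    have hi2 : i ≤ 2 := by
      by_contra hlt
      push Not at hlt
      have : 2 ^ 3 ≤ 2 ^ i := Nat.pow_le_pow_right (by norm_num) hlt
      omega
    interval_cases i
    · -- trivial
      haveI : Subsingleton Q := by
        rw [← Finite.card_le_one_iff_subsingleton, hi]; norm_num
      exact centralizes_of_isCyclic_two_group Q inferInstance hQ2 g hg hodd
    · have hc : IsCyclic Q := isCyclic_of_prime_card (p := 2) (by rw [hi]; norm_num)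
      exact centralizes_of_isCyclic_two_group Q hc hQ2 g hg hodd
    · have hK : IsKleinFour Q := by
        refine ⟨by rw [hi]; norm_num, ?_⟩
        have hdvd : Monoid.exponent Q ∣ 2 := by
          apply Monoid.exponent_dvd_of_forall_pow_eq_one
          intro c
          apply Subtype.ext
          rw [Subgroup.coe_pow, Subgroup.coe_one]
          exact hA c c.2
        rcases (Nat.dvd_prime Nat.prime_two).mp hdvd with h | h
        · exfalso
          rw [Monoid.exp_eq_one_iff] at h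
          have := Finite.card_le_one_iff_subsingleton.mpr h
          rw [hi] at this
          norm_num at this
        · exact h
      exact hfour Q hQS hK g hg hodd

section Model

open DihedralGroup

variable (S : Subgroup G) {m : ℕ} (eS : ↥S ≃* DihedralGroup m)

/-- The rotation subgroup of a subgroup identified with a dihedral group. -/
def rot : Subgroup G := Subgroup.zpowers ((eS.symm (r 1) : ↥S) : G)

theorem rot_le : rot S eS ≤ S := Subgroup.zpowers_le.mpr (eS.symm (r 1)).2

theorem isCyclic_rot : IsCyclic ↥(rot S eS) := by unfold rot; infer_instance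

theorem mem_rot_iff [NeZero m] (x : ↥S) : (x : G) ∈ rot S eS ↔ ∃ i, eS x = r i := by
  unfold rot
  constructor
  · intro h
    rw [Subgroup.mem_zpowers_iff] at h
    obtain ⟨k, hk⟩ := h
    have h1 : x = (eS.symm (r 1)) ^ k := by
      apply Subtype.ext
      rw [Subgroup.coe_zpow, hk]
    refine ⟨(k : ZMod m), ?_⟩
    rw [h1, map_zpow, MulEquiv.apply_symm_apply, r_one_zpow]
  · rintro ⟨i, hi⟩
    have h1 : x = (eS.symm (r 1)) ^ i.val := by
      apply eS.injective
      rw [map_pow, MulEquiv.apply_symm_apply, hi, r_one_pow, ZMod.natCast_zmod_val]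
    rw [h1, Subgroup.coe_pow]
    exact Subgroup.pow_mem _ (Subgroup.mem_zpowers _) _

theorem sq_eq_one_of_not_mem_rot [NeZero m] (x : G) (hx : x ∈ S) (hxR : x ∉ rot S eS) :
    x ^ 2 = 1 := by
  have h1 : ¬ ∃ i, eS ⟨x, hx⟩ = r i := fun h => hxR ((mem_rot_iff S eS ⟨x, hx⟩).mpr h)
  have h2 : (⟨x, hx⟩ : ↥S) ^ 2 = 1 := by
    apply eS.injective
    rw [map_pow, map_one]
    rcases h : eS ⟨x, hx⟩ with i | i
    · exact absurd ⟨i, h⟩ h1
    · rw [pow_two, sr_mul_self]
  have := congrArg Subtype.val h2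
  rwa [Subgroup.coe_pow, Subgroup.coe_one] at this

theorem inv_mul_mem_rot [NeZero m] (x : G) (hx : x ∈ S) (y : G) (hy : y ∈ S)
    (hxR : x ∉ rot S eS) (hyR : y ∉ rot S eS) : x⁻¹ * y ∈ rot S eS := by
  have h1 : ¬ ∃ i, eS ⟨x, hx⟩ = r i := fun h => hxR ((mem_rot_iff S eS ⟨x, hx⟩).mpr h)
  have h2 : ¬ ∃ i, eS ⟨y, hy⟩ = r i := fun h => hyR ((mem_rot_iff S eS ⟨y, hy⟩).mpr h)
  have h3 : ((⟨x, hx⟩⁻¹ * ⟨y, hy⟩ : ↥S) : G) ∈ rot S eS := by
    rw [mem_rot_iff]
    rw [map_mul, map_inv]
    rcases hxe : eS ⟨x, hx⟩ with i | i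
    · exact absurd ⟨i, hxe⟩ h1
    · rcases hye : eS ⟨y, hy⟩ with j | j
      · exact absurd ⟨j, hye⟩ h2
      · exact ⟨j - i, by rw [inv_sr, sr_mul_sr]⟩
  exact h3

theorem relIndex_rot [NeZero m] : (rot S eS).relIndex S = 2 := by
  have h3 := Subgroup.relIndex_mul_relIndex ⊥ (rot S eS) S bot_le (rot_le S eS)
  rw [Subgroup.relIndex_bot_left, Subgroup.relIndex_bot_left] at h3
  have h4 : Nat.card S = 2 * m := by rw [Nat.card_congr eS.toEquiv, DihedralGroup.nat_card]
  have h5 : Nat.card ↥(rot S eS) = m := by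
    unfold rot
    rw [Nat.card_zpowers, Subgroup.orderOf_coe, MulEquiv.orderOf_eq, orderOf_r_one]
  rw [h4, h5] at h3
  have hm : 0 < m := Nat.pos_of_ne_zero (NeZero.ne m)
  exact Nat.eq_of_mul_eq_mul_left hm (by rw [h3]; ring)

end Model

end Cfsg.Agent.Lib.Helper2.DihedralSub
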