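import Mathlib

set_option autoImplicit false

namespace Cfsg.Agent.Lib.Helper2

variable {K : Type*} [Group K]

/-- A fixed-point-free involutory automorphism of a finite group inverts every element. -/
theorem fpf_involution_inverts [Finite K] (σ : K ≃* K) (hσ2 : ∀ x, σ (σ x) = x)
    (hfpf : ∀ x, σ x = x → x = 1) : ∀ x, σ x = x⁻¹ := by
  have hinj : Function.Injective (fun x : K => x⁻¹ * σ x) := by
    intro x y hxy
    simp only at hxy
    have h1 : σ (y * x⁻¹) = y * x⁻¹ := by
      rw [map_mul, map_inv]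
      have : σ y = y * (x⁻¹ * σ x) := by rw [hxy]; group
      rw [this]; group
    have h2 := hfpf _ h1
    exact (mul_inv_eq_one.1 h2).symm
  have hsurj := Finite.surjective_of_injective hinj
  intro z
  obtain ⟨x, rfl⟩ := hsurj z
  simp only [map_mul, map_inv, hσ2]
  group

theorem fpf_involution_comm [Finite K] (σ : K ≃* K) (hσ2 : ∀ x, σ (σ x) = x)
    (hfpf : ∀ x, σ x = x → x = 1) : ∀ a b : K, a * b = b * a := by
  have hinv := fpf_involution_inverts σ hσ2 hfpf
  intro a b
  have h1 : σ (a * b) = σ a * σ b := map_mul σ a b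
  rw [hinv, hinv, hinv] at h1
  have h2 := congrArg Inv.inv h1
  simpa using h2

theorem fpf_involution_odd [Finite K] (σ : K ≃* K) (hσ2 : ∀ x, σ (σ x) = x)
    (hfpf : ∀ x, σ x = x → x = 1) : ¬ 2 ∣ Nat.card K := by
  have hinv := fpf_involution_inverts σ hσ2 hfpf
  intro hdvd
  obtain ⟨t, ht⟩ := exists_prime_orderOf_dvd_card' 2 hdvd
  have h1 : σ t = t := by
    rw [hinv]
    have : t ^ 2 = 1 := by rw [← ht]; exact pow_orderOf_eq_one t
    rw [pow_two] at this
    exact inv_eq_of_mul_eq_one_left this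
  have := hfpf t h1
  rw [this, orderOf_one] at ht
  omega

end Cfsg.Agent.Lib.Helper2
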