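import Mathlib

set_option autoImplicit false

namespace Cfsg.Agent.Lib.Helper2

variable {G : Type*} [Group G]

/-- Normalizers grow in nilpotent subgroups. -/
theorem exists_mem_normalizer_not_mem {F D : Subgroup G} (hF : Group.IsNilpotent F)
    (hDF : D < F) : ∃ x ∈ F, x ∈ Subgroup.normalizer (D : Set G) ∧ x ∉ D := by
  have hlt : D.subgroupOf F < ⊤ := by
    rw [lt_top_iff_ne_top]
    intro h
    rw [Subgroup.subgroupOf_eq_top] at h
    exact hDF.not_ge h
  have := Group.normalizerCondition_of_isNilpotent (G := F) (D.subgroupOf F) hlt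
  obtain ⟨x, hxn, hxD⟩ := SetLike.exists_of_lt this
  refine ⟨x, x.2, ?_, fun h => hxD (Subgroup.mem_subgroupOf.2 h)⟩
  rw [Subgroup.mem_normalizer_iff]
  rw [Subgroup.mem_normalizer_iff] at hxn
  intro n
  by_cases hn : n ∈ F
  · have := hxn ⟨n, hn⟩
    simpa [Subgroup.mem_subgroupOf] using this
  · constructor
    · intro h; exact absurd (hDF.le h) hn
    · intro h
      exfalso
      apply hn
      have h1 : (x : G) * n * (x : G)⁻¹ ∈ F := hDF.le h
      have h2 : n = (x : G)⁻¹ * ((x : G) * n * (x : G)⁻¹) * (x : G) := by group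
      rw [h2]
      exact F.mul_mem (F.mul_mem (F.inv_mem x.2) h1) x.2

end Cfsg.Agent.Lib.Helper2
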