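import Mathlib
import Cfsg.Agent.Lib.Helper7.SLY5d
import Cfsg.Agent.Lib.Helper9.SLV
import Cfsg.Agent.Lib.Helper8.SLB4
import Cfsg.Agent.Lib.Helper7.SLY7b
import Cfsg.Agent.Lib.Helper1.GGBound
import Cfsg.Agent.Lib.Helper6.IndFunMore
import Cfsg.Agent.Lib.Helper6.CharOps
import Cfsg.Agent.Lib.Helper6.Mult
import Cfsg.Agent.Lib.Helper6.Constituent
import Cfsg.Agent.Lib.Helper7.GC2

set_option autoImplicit false
set_option linter.style.haveILetI false
set_option linter.unusedSectionVars false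
set_option linter.unusedVariables false

namespace Cfsg.Agent.Lib.Helper2.GLU

open Matrix Cfsg Cfsg.Agent.Lib.Helper6 Cfsg.Agent.Lib.Helper6.Flg
open Cfsg.Agent.Lib.Helper7.SLY
open scoped ComplexConjugate

section abstract

variable {G : Type*} [Group G] [Fintype G]

/-- a function vanishing on `H ∖ 1` has inner product `χ 1 / |H|` with every linear character -/
theorem classInner_of_vanish (H : Subgroup G) [Fintype H] (χ : G → ℂ)
    (hv : ∀ h ∈ H, h ≠ 1 → χ h = 0) (ξ : H →* ℂˣ) :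
    classInner (fun h : H => χ h) (fun h : H => ((ξ h : ℂˣ) : ℂ)) =
      (Nat.card H : ℂ)⁻¹ * χ 1 := by
  unfold classInner
  congr 1
  rw [Finset.sum_eq_single (1 : H)]
  · simp
  · intro h _ hne
    have : χ (h : G) = 0 := hv h h.2 (fun h1 => hne (Subtype.ext h1))
    beta_reduce
    rw [this, zero_mul]
  · intro h
    exact absurd (Finset.mem_univ _) h

theorem sum_of_vanish (H : Subgroup G) [Fintype H] (χ : G → ℂ)
    (hv : ∀ h ∈ H, h ≠ 1 → χ h = 0) : ∑ h : H, χ h = χ 1 := by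
  rw [Finset.sum_eq_single (1 : H)]
  · simp
  · intro h _ hne
    exact hv h h.2 (fun h1 => hne (Subtype.ext h1))
  · intro h
    exact absurd (Finset.mem_univ _) h

/-- Frobenius reciprocity, real parts -/
theorem re_classInner_indFun (H : Subgroup G) [Fintype H] (f : H → ℂ) (χ : G → ℂ)
    (hχ : IsClassFunction G χ) :
    (classInner (indFun H f) χ).re = (classInner (fun h : H => χ h) f).re := by
  rw [IndFunMore.classInner_indFun H f χ hχ]
  have : classInner (fun h : H => χ h) f =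
      conj ((Nat.card H : ℂ)⁻¹ * ∑ h : H, f h * conj (χ h)) := by
    unfold classInner
    rw [map_mul, map_inv₀, Complex.conj_natCast, map_sum]
    congr 1
    refine Finset.sum_congr rfl (fun h _ => ?_)
    rw [map_mul, Complex.conj_conj, mul_comm]
  rw [this, Complex.conj_re]

theorem conj_hom_val {H : Type*} [Group H] [Finite H] (lam : H →* ℂˣ) (h : H) :
    conj ((lam h : ℂˣ) : ℂ) = (((lam h)⁻¹ : ℂˣ) : ℂ) := by
  have hpow : ((lam h : ℂˣ) : ℂ) ^ orderOf h = 1 := by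
    rw [← Units.val_pow_eq_pow_val, ← map_pow, pow_orderOf_eq_one, map_one, Units.val_one]
  have h2 : ‖((lam h : ℂˣ) : ℂ)‖ = 1 := norm_eq_one_of_pow_eq_one (orderOf_pos h) hpow
  rw [Units.val_inv_eq_inv_val]
  exact (Complex.inv_eq_conj h2).symm

end abstract

section concrete

variable {n : ℕ} {F : Type*} [Field F] [Fintype F] [Fintype (GL (Fin n) F)]

/-- the twist of `χ` by `α⁻¹ ∘ det` -/
noncomputable def twist (α : Fˣ →* ℂˣ) (χ : GL (Fin n) F → ℂ) : GL (Fin n) F → ℂ :=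
  fun g => ((((α⁻¹).comp Matrix.GeneralLinearGroup.det) g : ℂˣ) : ℂ) * χ g

theorem twist_irr (α : Fˣ →* ℂˣ) (χ : IrrCharacter (GL (Fin n) F)) :
    IsIrrCharacter (GL (Fin n) F) (twist α χ.1) :=
  Cfsg.Agent.Lib.Helper7.GC.isIrr_twist χ.2 ((α⁻¹).comp Matrix.GeneralLinearGroup.det)

/-- the Gelfand-Graev data: a linear character `ψ` of `U` with `⟨Ind_B φ, Ind_U ψ⟩ ≤ 1` -/
structure Inputs (n : ℕ) (F : Type*) [Field F] [Fintype (GL (Fin n) F)] where
  ψ : Uni n F →* ℂˣ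
  yc : ∀ (φ : upperTriangularGL n F →* ℂˣ)
    (hφ : ∀ b : upperTriangularGL n F, (b : GL (Fin n) F) ∈ Uni n F → φ b = 1),
    (classInner (indFun (upperTriangularGL n F) (fun b => ((φ b : ℂˣ) : ℂ)))
      (indFun (Uni n F) (fun u => ((ψ u : ℂˣ) : ℂ)))).re ≤ 1

/-- the data from a `ψ` nontrivial on every simple root subgroup (helper1's `gg_bound`) -/
noncomputable def Inputs.mk' (ψ : Uni n F →* ℂˣ)
    (hψ : ∀ i j : Fin n, (j : ℕ) = i + 1 → ∃ u : Uni n F,
      (∀ k l : Fin n, k ≠ l → ¬ (k = i ∧ l = j) →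
        ((u : GL (Fin n) F) : Matrix (Fin n) (Fin n) F) k l = 0) ∧ ψ u ≠ 1) : Inputs n F where
  ψ := ψ
  yc := by
    intro φ hφ
    obtain ⟨m, hm, hle⟩ := Cfsg.Agent.Lib.Helper1.GGBound.gg_bound (Uni n F)
      (fun u => mem_Uni_iff u) φ hφ ψ hψ
    rw [hm, Complex.natCast_re]
    exact_mod_cast hle

theorem gl_step (I : Inputs n F) (hn : 2 ≤ n)
    (χ : IrrCharacter (GL (Fin n) F)) (hv : ∀ u ∈ Uni n F, u ≠ 1 → χ.1 u = 0) :
    χ.1 1 = (Nat.card (Uni n F) : ℂ) ∧ ∃ α : Fˣ →* ℂˣ,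
      1 ≤ (classInner (indFun (upperTriangularGL n F)
        (fun b => (((1 : upperTriangularGL n F →* ℂˣ) b : ℂˣ) : ℂ))) (twist α χ.1)).re := by
  classical
  haveI : Fintype (upperTriangularGL n F) := Fintype.ofFinite _
  haveI : Fintype (Uni n F) := Fintype.ofFinite _
  have hχc : IsCharacter (GL (Fin n) F) χ.1 := IsIrrCharacter.isCharacter χ.2
  have hχcf : IsClassFunction (GL (Fin n) F) χ.1 := IsIrrCharacter.isClassFunction χ.2
  have h1ne : χ.1 1 ≠ 0 := IsIrrCharacter.apply_one_ne_zero χ.2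
  have hsum : ∑ u : Uni n F, χ.1 u = χ.1 1 := sum_of_vanish (Uni n F) χ.1 hv
  obtain ⟨φ, hφU, hφ1⟩ := Cfsg.Agent.Lib.Helper8.SLB.x4_linear_constituent
    (upperTriangularGL n F) (Uni n F)
    Uni_le_borel (fun b hb u hu => conj_mem_Uni hb hu) (fun x hx y hy => comm_mem_Uni hx hy)
    χ.1 hχc (by rw [hsum]; exact h1ne)
  have hC := I.yc φ hφU
  have hA : IsCharacter (GL (Fin n) F)
      (indFun (upperTriangularGL n F) (fun b => ((φ b : ℂˣ) : ℂ))) :=
    IsCharacter.indFun _ (IsIrrCharacter.isCharacter (isIrrCharacter_of_hom φ))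
  have hCc : IsCharacter (GL (Fin n) F) (indFun (Uni n F) (fun u => ((I.ψ u : ℂˣ) : ℂ))) :=
    IsCharacter.indFun _ (IsIrrCharacter.isCharacter (isIrrCharacter_of_hom I.ψ))
  have hx2 := Cfsg.Agent.Lib.Helper9.SLV.x2_mult_le _ _ hA hCc χ
  have hAχ := re_classInner_indFun (upperTriangularGL n F) (fun b => ((φ b : ℂˣ) : ℂ)) χ.1 hχcf
  have hCχ := re_classInner_indFun (Uni n F) (fun u => ((I.ψ u : ℂˣ) : ℂ)) χ.1 hχcf
  have hm := classInner_of_vanish (Uni n F) χ.1 hv I.ψ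
  obtain ⟨m, hm'⟩ := IsCharacter.classInner_irr_nat (IsCharacter.restrict (Uni n F) hχc)
    (isIrrCharacter_of_hom I.ψ)
  have hUpos : (Nat.card (Uni n F) : ℂ) ≠ 0 := by
    have : 0 < Nat.card (Uni n F) := Nat.card_pos
    exact_mod_cast this.ne'
  have hdegm : χ.1 1 = (Nat.card (Uni n F) : ℂ) * m := by
    rw [← hm', hm, ← mul_assoc, mul_inv_cancel₀ hUpos, one_mul]
  have hm0 : m ≠ 0 := by
    intro h0
    rw [h0, Nat.cast_zero, mul_zero] at hdegm
    exact h1ne hdegm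
  have hm1 : m = 1 := by
    rw [hAχ, hCχ, hm'] at hx2
    simp only [Complex.natCast_re] at hx2
    have h1 : (1 : ℝ) ≤ m := by exact_mod_cast Nat.one_le_iff_ne_zero.mpr hm0
    have h2 : (m : ℝ) ≤ 1 := by nlinarith
    have : m ≤ 1 := by exact_mod_cast h2
    omega
  have hdeg : χ.1 1 = (Nat.card (Uni n F) : ℂ) := by
    rw [hdegm, hm1, Nat.cast_one, mul_one]
  refine ⟨hdeg, ?_⟩
  -- the rank one step
  have hrank : ∀ (i : ℕ) (hi : i + 1 < n) (y : GL (Fin n) F) (hy : y ∈ upperTriangularGL n F)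
      (hsy : sgl i hi * y * (sgl i hi)⁻¹ ∈ upperTriangularGL n F),
      φ ⟨_, hsy⟩ = φ ⟨y, hy⟩ := by
    intro i hi y hy hsy
    haveI : Fintype (UPmin n F i) := Fintype.ofFinite _
    haveI : Fintype (Pmin n F i) := Fintype.ofFinite _
    have hvUP : ∀ u ∈ UPmin n F i, u ≠ 1 → χ.1 u = 0 := fun u hu => hv u (UPmin_le_Uni i hu)
    have hsumUP : ∑ u : UPmin n F i, χ.1 u = χ.1 1 := sum_of_vanish _ χ.1 hvUP
    have hk : (∑ u : UPmin n F i, χ.1 u).re * (Nat.card (upperTriangularGL n F) : ℝ) <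
        (Nat.card (UPmin n F i) : ℝ) * (Nat.card (Pmin n F i) : ℝ) := by
      rw [hsumUP, hdeg, Complex.natCast_re]
      have h6a := card_Uni (n := n) (F := F) i hi
      have h6b := card_borel_lt_card_Pmin (n := n) (F := F) i hi
      have hUPpos : 0 < Nat.card (UPmin n F i) := Nat.card_pos
      have : Nat.card (Uni n F) * Nat.card (upperTriangularGL n F) <
          Nat.card (UPmin n F i) * Nat.card (Pmin n F i) := by
        rw [h6a]
        calc Nat.card F * Nat.card (UPmin n F i) * Nat.card (upperTriangularGL n F)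
            = Nat.card (UPmin n F i) * (Nat.card F * Nat.card (upperTriangularGL n F)) := by ring
          _ < Nat.card (UPmin n F i) * Nat.card (Pmin n F i) :=
              Nat.mul_lt_mul_of_pos_left h6b hUPpos
      exact_mod_cast this
    exact Cfsg.Agent.Lib.Helper9.SLV.r_rank_one (UPmin n F i) (upperTriangularGL n F) (Pmin n F i)
      (UPmin_le_borel i) (borel_le_Pmin i) (fun g hg u hu => conj_mem_UPmin i hg hu) (sgl i hi)
      (sgl_mem_Pmin i hi) (Pmin_cover i hi) φ (fun b hb => hφU b (UPmin_le_Uni i hb)) χ.1 hχc hφ1 hk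
      y hy hsy
  obtain ⟨α, hα⟩ := y7_det φ hφU hrank (by omega)
  refine ⟨α, ?_⟩
  have htw : IsClassFunction (GL (Fin n) F) (twist α χ.1) :=
    IsIrrCharacter.isClassFunction (twist_irr α χ)
  rw [re_classInner_indFun _ _ _ htw]
  have : classInner (fun h : upperTriangularGL n F => twist α χ.1 h)
      (fun b => (((1 : upperTriangularGL n F →* ℂˣ) b : ℂˣ) : ℂ)) =
      classInner (fun b : upperTriangularGL n F => χ.1 b) (fun b => ((φ b : ℂˣ) : ℂ)) := by
    unfold classInner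
    congr 1
    refine Finset.sum_congr rfl (fun b _ => ?_)
    rw [conj_hom_val φ b, hα b]
    simp only [twist, MonoidHom.one_apply, Units.val_one, map_one, mul_one, MonoidHom.comp_apply,
      MonoidHom.inv_apply]
    rw [mul_comm]
  rw [this]
  exact hφ1

theorem twist_gelfand (I : Inputs n F) (α : Fˣ →* ℂˣ) (χ : IrrCharacter (GL (Fin n) F))
    (hv : ∀ u ∈ Uni n F, u ≠ 1 → χ.1 u = 0) (hdeg : χ.1 1 = (Nat.card (Uni n F) : ℂ)) :
    1 ≤ (classInner (indFun (Uni n F) (fun u => ((I.ψ u : ℂˣ) : ℂ))) (twist α χ.1)).re := by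
  classical
  haveI : Fintype (Uni n F) := Fintype.ofFinite _
  have htw : IsClassFunction (GL (Fin n) F) (twist α χ.1) :=
    IsIrrCharacter.isClassFunction (twist_irr α χ)
  rw [re_classInner_indFun _ _ _ htw]
  have hv' : ∀ u ∈ Uni n F, u ≠ 1 → twist α χ.1 u = 0 := by
    intro u hu hne
    simp only [twist, hv u hu hne, mul_zero]
  rw [classInner_of_vanish (Uni n F) (twist α χ.1) hv' I.ψ]
  have h1 : twist α χ.1 1 = (Nat.card (Uni n F) : ℂ) := by
    simp only [twist, map_one, Units.val_one, one_mul, hdeg]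
  rw [h1]
  have hUpos : (Nat.card (Uni n F) : ℂ) ≠ 0 := by
    have : 0 < Nat.card (Uni n F) := Nat.card_pos
    exact_mod_cast this.ne'
  rw [inv_mul_cancel₀ hUpos]
  simp

/-- THEOREM GL: two irreducible characters of `GL_n(F)` vanishing on `U ∖ 1` have degree `|U|`
and differ by a linear character `α ∘ det`. -/
theorem gl_main (I : Inputs n F) (hn : 2 ≤ n) (χ1 χ2 : IrrCharacter (GL (Fin n) F))
    (h1 : ∀ u ∈ Uni n F, u ≠ 1 → χ1.1 u = 0) (h2 : ∀ u ∈ Uni n F, u ≠ 1 → χ2.1 u = 0) :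
    χ1.1 1 = (Nat.card (Uni n F) : ℂ) ∧ χ2.1 1 = (Nat.card (Uni n F) : ℂ) ∧
    ∃ α : Fˣ →* ℂˣ, ∀ g : GL (Fin n) F,
      χ2.1 g = χ1.1 g * ((α (Matrix.GeneralLinearGroup.det g) : ℂˣ) : ℂ) := by
  classical
  obtain ⟨hd1, α1, ha1⟩ := gl_step I hn χ1 h1
  obtain ⟨hd2, α2, ha2⟩ := gl_step I hn χ2 h2
  refine ⟨hd1, hd2, α2 * α1⁻¹, ?_⟩
  have hc1 := twist_gelfand I α1 χ1 h1 hd1
  have hc2 := twist_gelfand I α2 χ2 h2 hd2
  set χ1' : IrrCharacter (GL (Fin n) F) := ⟨twist α1 χ1.1, twist_irr α1 χ1⟩ with hχ1'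
  set χ2' : IrrCharacter (GL (Fin n) F) := ⟨twist α2 χ2.1, twist_irr α2 χ2⟩ with hχ2'
  have heq : χ1' = χ2' := by
    by_contra hne
    have hA : IsCharacter (GL (Fin n) F) (indFun (upperTriangularGL n F)
        (fun b => (((1 : upperTriangularGL n F →* ℂˣ) b : ℂˣ) : ℂ))) :=
      IsCharacter.indFun _ (IsIrrCharacter.isCharacter (isIrrCharacter_of_hom _))
    have hCc : IsCharacter (GL (Fin n) F) (indFun (Uni n F) (fun u => ((I.ψ u : ℂˣ) : ℂ))) :=
      IsCharacter.indFun _ (IsIrrCharacter.isCharacter (isIrrCharacter_of_hom I.ψ))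
    have h2le := Cfsg.Agent.Lib.Helper9.SLV.x2_two _ _ hA hCc χ1' χ2' hne ha1 hc1 ha2 hc2
    have hle := I.yc (1 : upperTriangularGL n F →* ℂˣ) (fun _ _ => rfl)
    linarith
  intro g
  have hg : twist α1 χ1.1 g = twist α2 χ2.1 g := by
    have := congrArg (fun χ : IrrCharacter (GL (Fin n) F) => χ.1 g) heq
    exact this
  simp only [twist, MonoidHom.comp_apply, MonoidHom.inv_apply, MonoidHom.mul_apply,
    Units.val_mul, Units.val_inv_eq_inv_val] at hg ⊢
  have hne1 : ((α1 (Matrix.GeneralLinearGroup.det g) : ℂˣ) : ℂ) ≠ 0 := Units.ne_zero _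
  have hne2 : ((α2 (Matrix.GeneralLinearGroup.det g) : ℂˣ) : ℂ) ≠ 0 := Units.ne_zero _
  field_simp at hg ⊢
  linear_combination (-1 : ℂ) * hg

end concrete

end Cfsg.Agent.Lib.Helper2.GLU
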