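import Mathlib
import Cfsg.Agent.Lib.Helper8.C5Defs
import Cfsg.Agent.Lib.Helper8.C5A5

set_option autoImplicit false
set_option linter.unusedVariables false
set_option linter.unusedSectionVars false
set_option linter.style.longLine false
set_option linter.deprecated false
set_option linter.style.haveILetI false
set_option linter.dupNamespace false

/-!
# S3600: groups critical for the spectrum `{1,2,3,4,5}` — definitions
-/

namespace Cfsg.Agent.Lib.Helper2.Cr5

open Cfsg.Agent.Lib.Helper8.C5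

/-- `u = (0 1)(2 3)`. -/
def pu : A5 := ⟨Equiv.swap 0 1 * Equiv.swap 2 3, Equiv.Perm.mem_alternatingGroup.mpr (by decide)⟩
/-- `d = (0 1 2)`. -/
def pd : A5 := ⟨Equiv.swap 0 1 * Equiv.swap 1 2, Equiv.Perm.mem_alternatingGroup.mpr (by decide)⟩
/-- `w = (0 1)(3 4)`. -/
def pw : A5 := ⟨Equiv.swap 0 1 * Equiv.swap 3 4, Equiv.Perm.mem_alternatingGroup.mpr (by decide)⟩

theorem pu_sq : pu ^ 2 = 1 := by decide +kernel
theorem pw_sq : pw ^ 2 = 1 := by decide +kernel
theorem pd_cube : pd ^ 3 = 1 := by decide +kernel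
theorem pd_ne_one : pd ≠ 1 := by decide +kernel
theorem pu_ne_one : pu ≠ 1 := by decide +kernel
theorem pw_conj_pd : pw * pd * pw⁻¹ = pd⁻¹ := by decide +kernel
theorem puw_cube : (pu * pw) ^ 3 = 1 := by decide +kernel
theorem puw_ne_one : pu * pw ≠ 1 := by decide +kernel
theorem pudw_pow5 : (pu * pd * pw) ^ 5 = 1 := by decide +kernel
theorem pudw_ne_one : pu * pd * pw ≠ 1 := by decide +kernel
/-- the four-group `P = {1, u, u^d, u^(d⁻¹)}` is abelian and normalized by `d`. -/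
theorem pu_comm1 : pu * (pd * pu * pd⁻¹) = (pd * pu * pd⁻¹) * pu := by decide +kernel
theorem pu_comm2 : pu * (pd⁻¹ * pu * pd) = (pd⁻¹ * pu * pd) * pu := by decide +kernel
theorem pu_mul1 : pu * (pd * pu * pd⁻¹) = pd⁻¹ * pu * pd := by decide +kernel


/-- `u, d, w` generate `A₅`. -/
theorem closure_udw : Subgroup.closure ({pu, pd, pw} : Set A5) = ⊤ := by
  set K : Subgroup A5 := Subgroup.closure ({pu, pd, pw} : Set A5) with hK
  have hu : pu ∈ K := Subgroup.subset_closure (by simp)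
  have hd : pd ∈ K := Subgroup.subset_closure (by simp)
  have hw : pw ∈ K := Subgroup.subset_closure (by simp)
  have hc : pu * pd * pw ∈ K := K.mul_mem (K.mul_mem hu hd) hw
  haveI : Fact (Nat.Prime 2) := ⟨Nat.prime_two⟩
  haveI : Fact (Nat.Prime 3) := ⟨Nat.prime_three⟩
  haveI : Fact (Nat.Prime 5) := ⟨by norm_num⟩
  have o2 : orderOf pu = 2 := orderOf_eq_prime pu_sq pu_ne_one
  have o3 : orderOf pd = 3 := orderOf_eq_prime pd_cube pd_ne_one
  have o5 : orderOf (pu * pd * pw) = 5 := orderOf_eq_prime pudw_pow5 pudw_ne_one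
  have d2 : 2 ∣ Nat.card ↥K := by
    have := Subgroup.orderOf_dvd_natCard K hu
    rwa [o2] at this
  have d3 : 3 ∣ Nat.card ↥K := by
    have := Subgroup.orderOf_dvd_natCard K hd
    rwa [o3] at this
  have d5 : 5 ∣ Nat.card ↥K := by
    have := Subgroup.orderOf_dvd_natCard K hc
    rwa [o5] at this
  have hcard : Nat.card A5 = 60 := a5_card (MulEquiv.refl A5)
  have hmul := K.card_mul_index
  rw [hcard] at hmul
  have d30 : 30 ∣ Nat.card ↥K := by
    have h6 : 6 ∣ Nat.card ↥K := Nat.Coprime.mul_dvd_of_dvd_of_dvd (by norm_num) d2 d3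
    exact Nat.Coprime.mul_dvd_of_dvd_of_dvd (by norm_num : Nat.Coprime 6 5) h6 d5
  obtain ⟨k, hk⟩ := d30
  have hidx : K.index = 1 ∨ K.index = 2 := by
    rw [hk] at hmul
    have hk0 : k ≠ 0 := by rintro rfl; omega
    have : k * K.index = 2 := by nlinarith
    have h1 : K.index ∣ 2 := Dvd.intro_left _ this
    have := (Nat.dvd_prime Nat.prime_two).mp h1
    exact this
  rcases hidx with h1 | h2
  · exact Subgroup.index_eq_one.mp h1
  · exfalso
    haveI : K.Normal := Subgroup.normal_of_index_eq_two h2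
    haveI : IsSimpleGroup A5 := a5_simple (MulEquiv.refl A5)
    rcases Subgroup.Normal.eq_bot_or_eq_top (H := K) inferInstance with hb | ht
    · rw [hb, Subgroup.mem_bot] at hu
      exact pu_ne_one hu
    · rw [ht, Subgroup.index_top] at h2
      omega

/-- the data of an action of `A₅` on a normal elementary abelian `2`-subgroup `N` in which the
elements of order `3` act fixed-point-freely. -/
structure ActData {X : Type*} [Group X] (N : Subgroup X) (ε : A5 →* X) : Prop where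
  normal : N.Normal
  sq : ∀ n ∈ N, n ^ 2 = 1
  fpf : ∀ x : A5, x ^ 3 = 1 → x ≠ 1 → ∀ n ∈ N, ε x * n = n * ε x → n = 1

/-- `X = N ⋊ A₅` with `|N| = 16`: every element is `n * ε a`, and `ε(A₅) ∩ N = 1`. -/
structure AffData {X : Type*} [Group X] (N : Subgroup X) (ε : A5 →* X) : Prop
    extends ActData N ε where
  card : Nat.card ↥N = 16
  inj : Function.Injective ε
  top : ∀ x : X, ∃ n ∈ N, ∃ a : A5, x = n * ε a
  disj : ∀ a : A5, ε a ∈ N → a = 1

/-- a "basis" `b 0 = n`, `b 1 = n^d`, `b 2 = n^w`, `b 3 = n^(w d)` of the `A₅`-submodule generated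
by a `P`-fixed vector `n`, with the action of the generators `u, d, w`. -/
structure Basis12 {X : Type*} [Group X] (N : Subgroup X) (ε : A5 →* X) (b : Fin 4 → X) : Prop where
  mem : ∀ i, b i ∈ N
  ne : b 0 ≠ 1
  d0 : ε pd * b 0 * (ε pd)⁻¹ = b 1
  d1 : ε pd * b 1 * (ε pd)⁻¹ = b 0 * b 1
  d2 : ε pd * b 2 * (ε pd)⁻¹ = b 2 * b 3
  d3 : ε pd * b 3 * (ε pd)⁻¹ = b 2
  w0 : ε pw * b 0 * (ε pw)⁻¹ = b 2
  w1 : ε pw * b 1 * (ε pw)⁻¹ = b 3
  w2 : ε pw * b 2 * (ε pw)⁻¹ = b 0
  w3 : ε pw * b 3 * (ε pw)⁻¹ = b 1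
  u0 : ε pu * b 0 * (ε pu)⁻¹ = b 0
  u1 : ε pu * b 1 * (ε pu)⁻¹ = b 1
  u2 : ε pu * b 2 * (ε pu)⁻¹ = b 0 * b 2
  u3 : ε pu * b 3 * (ε pu)⁻¹ = b 1 * b 3

/-- the matrices of `d, w, u` in the basis `b`. -/
def MD (c : Fin 4 → ZMod 2) : Fin 4 → ZMod 2 := ![c 1, c 0 + c 1, c 2 + c 3, c 2]
def MW (c : Fin 4 → ZMod 2) : Fin 4 → ZMod 2 := ![c 2, c 3, c 0, c 1]
def MU (c : Fin 4 → ZMod 2) : Fin 4 → ZMod 2 := ![c 0 + c 2, c 1 + c 3, c 2, c 3]

/-- coordinates on `N` compatible with the action of the generators. -/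
structure Coord {X : Type*} [Group X] (N : Subgroup X) (ε : A5 →* X)
    (θ : Multiplicative (Fin 4 → ZMod 2) →* X) : Prop where
  mem : ∀ v, θ v ∈ N
  inj : Function.Injective θ
  d : ∀ c : Fin 4 → ZMod 2, ε pd * θ (Multiplicative.ofAdd c) * (ε pd)⁻¹ = θ (Multiplicative.ofAdd (MD c))
  w : ∀ c : Fin 4 → ZMod 2, ε pw * θ (Multiplicative.ofAdd c) * (ε pw)⁻¹ = θ (Multiplicative.ofAdd (MW c))
  u : ∀ c : Fin 4 → ZMod 2, ε pu * θ (Multiplicative.ofAdd c) * (ε pu)⁻¹ = θ (Multiplicative.ofAdd (MU c))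

/-- the affine group of the plane over `F`, as in the statement of S3600. -/
abbrev Aff (F : Type) [Field F] : Subgroup (Matrix.SpecialLinearGroup (Fin 3) F) :=
  Subgroup.closure {M : Matrix.SpecialLinearGroup (Fin 3) F |
    (M : Matrix (Fin 3) (Fin 3) F) 2 0 = 0 ∧ (M : Matrix (Fin 3) (Fin 3) F) 2 1 = 0 ∧
      (M : Matrix (Fin 3) (Fin 3) F) 2 2 = 1}

end Cfsg.Agent.Lib.Helper2.Cr5
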