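import Mathlib
import Cfsg.Agent.Lib.Helper2.Cr5Defs

set_option autoImplicit false
set_option linter.unusedVariables false
set_option linter.unusedSectionVars false
set_option linter.style.longLine false
set_option linter.deprecated false
set_option linter.style.haveILetI false
set_option linter.dupNamespace false

/-!
# S3600 piece R6: coordinates on the submodule generated by a `Basis12`
-/

namespace Cfsg.Agent.Lib.Helper2.Cr5

open Cfsg.Agent.Lib.Helper8.C5

universe u

theorem zmod2_val_add (s t : ZMod 2) :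
    (s + t).val = s.val + t.val ∨ (s + t).val + 2 = s.val + t.val := by
  revert s t; decide

theorem pow_val_add {M : Type*} [Monoid M] {x : M} (hx : x ^ 2 = 1) (s t : ZMod 2) :
    x ^ (s + t).val = x ^ s.val * x ^ t.val := by
  rcases zmod2_val_add s t with h | h
  · rw [h, pow_add]
  · rw [← pow_add, ← h, pow_add, hx, mul_one]

theorem zmod2_cases (s : ZMod 2) : s = 0 ∨ s = 1 := by
  revert s; decide

section comm
variable {A : Type*} [CommGroup A]

/-- `a^c0 b^c1 c^c2 d^c3`. -/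
def cF (a b c d : A) (e : Fin 4 → ZMod 2) : A :=
  a ^ (e 0).val * b ^ (e 1).val * c ^ (e 2).val * d ^ (e 3).val

theorem cF_add {a b c d : A} (ha : a ^ 2 = 1) (hb : b ^ 2 = 1) (hc : c ^ 2 = 1) (hd : d ^ 2 = 1)
    (e e' : Fin 4 → ZMod 2) : cF a b c d (e + e') = cF a b c d e * cF a b c d e' := by
  simp only [cF, Pi.add_apply]
  rw [pow_val_add ha, pow_val_add hb, pow_val_add hc, pow_val_add hd]
  generalize a ^ (e 0).val = p1
  generalize a ^ (e' 0).val = p2
  generalize b ^ (e 1).val = p3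
  generalize b ^ (e' 1).val = p4
  generalize c ^ (e 2).val = p5
  generalize c ^ (e' 2).val = p6
  generalize d ^ (e 3).val = p7
  generalize d ^ (e' 3).val = p8
  ac_rfl

theorem cF_MD {a b c d : A} (ha : a ^ 2 = 1) (hb : b ^ 2 = 1) (hc : c ^ 2 = 1) (hd : d ^ 2 = 1)
    (e : Fin 4 → ZMod 2) :
    b ^ (e 0).val * (a * b) ^ (e 1).val * (c * d) ^ (e 2).val * c ^ (e 3).val
      = cF a b c d (MD e) := by
  simp only [cF, MD, mul_pow]
  simp only [Matrix.cons_val_zero, Matrix.cons_val_one, Matrix.cons_val]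
  rw [pow_val_add hb, pow_val_add hc]
  generalize a ^ (e 1).val = p1
  generalize b ^ (e 0).val = p2
  generalize b ^ (e 1).val = p3
  generalize c ^ (e 2).val = p4
  generalize c ^ (e 3).val = p5
  generalize d ^ (e 2).val = p6
  ac_rfl

theorem cF_MW {a b c d : A} (e : Fin 4 → ZMod 2) :
    c ^ (e 0).val * d ^ (e 1).val * a ^ (e 2).val * b ^ (e 3).val = cF a b c d (MW e) := by
  simp only [cF, MW]
  simp only [Matrix.cons_val_zero, Matrix.cons_val_one, Matrix.cons_val]
  generalize a ^ (e 2).val = p1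
  generalize b ^ (e 3).val = p2
  generalize c ^ (e 0).val = p3
  generalize d ^ (e 1).val = p4
  ac_rfl

theorem cF_MU {a b c d : A} (ha : a ^ 2 = 1) (hb : b ^ 2 = 1) (e : Fin 4 → ZMod 2) :
    a ^ (e 0).val * b ^ (e 1).val * (a * c) ^ (e 2).val * (b * d) ^ (e 3).val
      = cF a b c d (MU e) := by
  simp only [cF, MU, mul_pow]
  simp only [Matrix.cons_val_zero, Matrix.cons_val_one, Matrix.cons_val]
  rw [pow_val_add ha, pow_val_add hb]
  generalize a ^ (e 0).val = p1
  generalize a ^ (e 2).val = p2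
  generalize b ^ (e 1).val = p3
  generalize b ^ (e 3).val = p4
  generalize c ^ (e 2).val = p5
  generalize d ^ (e 3).val = p6
  ac_rfl

theorem cF_MU' {a b c d : A} (ha : a ^ 2 = 1) (hb : b ^ 2 = 1) (e : Fin 4 → ZMod 2) :
    cF a b c d (MU e) = (a ^ (e 2).val * b ^ (e 3).val) * cF a b c d e := by
  simp only [cF, MU]
  simp only [Matrix.cons_val_zero, Matrix.cons_val_one, Matrix.cons_val]
  rw [pow_val_add ha, pow_val_add hb]
  generalize a ^ (e 0).val = p1
  generalize a ^ (e 2).val = p2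
  generalize b ^ (e 1).val = p3
  generalize b ^ (e 3).val = p4
  generalize c ^ (e 2).val = p5
  generalize d ^ (e 3).val = p6
  ac_rfl


/-- the abstract form of R6 in a commutative group. -/
theorem exists_coord_comm (a b c d : A)
    (ha : a ^ 2 = 1) (hb : b ^ 2 = 1) (hc : c ^ 2 = 1) (hd : d ^ 2 = 1) (ha1 : a ≠ 1)
    (κd κw κu : A →* A) (hκd : Function.Injective κd)
    (d0 : κd a = b) (d1 : κd b = a * b) (d2 : κd c = c * d) (d3 : κd d = c)
    (w0 : κw a = c) (w1 : κw b = d) (w2 : κw c = a) (w3 : κw d = b)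
    (u0 : κu a = a) (u1 : κu b = b) (u2 : κu c = a * c) (u3 : κu d = b * d) :
    ∃ θ : Multiplicative (Fin 4 → ZMod 2) →* A, Function.Injective θ ∧
      (∀ e, κd (θ (Multiplicative.ofAdd e)) = θ (Multiplicative.ofAdd (MD e))) ∧
      (∀ e, κw (θ (Multiplicative.ofAdd e)) = θ (Multiplicative.ofAdd (MW e))) ∧
      (∀ e, κu (θ (Multiplicative.ofAdd e)) = θ (Multiplicative.ofAdd (MU e))) := by
  let θ : Multiplicative (Fin 4 → ZMod 2) →* A :=
    MonoidHom.mk' (fun v => cF a b c d (Multiplicative.toAdd v)) (fun v v' => by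
      show cF a b c d (Multiplicative.toAdd v + Multiplicative.toAdd v') = _
      exact cF_add ha hb hc hd _ _)
  have hθ : ∀ e : Fin 4 → ZMod 2, θ (Multiplicative.ofAdd e) = cF a b c d e := fun e => rfl
  have hb1 : b ≠ 1 := by
    intro h
    apply ha1
    apply hκd
    rw [d0, h, map_one]
  have hab1 : a * b ≠ 1 := by
    intro h
    apply hb1
    apply hκd
    rw [d1, h, map_one]
  have hA : ∀ i j : ZMod 2, a ^ i.val * b ^ j.val = 1 → i = 0 ∧ j = 0 := by
    intro i j hij
    have hv1 : (1 : ZMod 2).val = 1 := by decide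
    rcases zmod2_cases i with rfl | rfl <;> rcases zmod2_cases j with rfl | rfl
    · exact ⟨rfl, rfl⟩
    · exfalso; apply hb1; simpa [hv1] using hij
    · exfalso; apply ha1; simpa [hv1] using hij
    · exfalso; apply hab1; simpa [hv1] using hij
  have hfu : ∀ e, κu (cF a b c d e) = cF a b c d (MU e) := by
    intro e
    rw [← cF_MU ha hb]
    simp only [cF, map_mul, map_pow, u0, u1, u2, u3]
  have hfinj : ∀ e, cF a b c d e = 1 → e = 0 := by
    intro e he
    have h1 : κu (cF a b c d e) = 1 := by rw [he, map_one]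
    rw [hfu, cF_MU' ha hb, he, mul_one] at h1
    obtain ⟨h3, h4⟩ := hA _ _ h1
    have h5 : a ^ (e 0).val * b ^ (e 1).val = 1 := by
      have := he
      simp only [cF, h3, h4, ZMod.val_zero, pow_zero, mul_one] at this
      exact this
    obtain ⟨h6, h7⟩ := hA _ _ h5
    funext i
    fin_cases i
    · exact h6
    · exact h7
    · exact h3
    · exact h4
  refine ⟨θ, ?_, ?_, ?_, ?_⟩
  · intro v v' hvv'
    have h2 : cF a b c d (Multiplicative.toAdd v - Multiplicative.toAdd v') = 1 := by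
      have h3 := cF_add ha hb hc hd (Multiplicative.toAdd v - Multiplicative.toAdd v')
        (Multiplicative.toAdd v')
      rw [sub_add_cancel] at h3
      have h4 : cF a b c d (Multiplicative.toAdd v) = cF a b c d (Multiplicative.toAdd v') := hvv'
      rw [h4] at h3
      exact mul_eq_right.mp h3.symm
    have h5 := hfinj _ h2
    exact Multiplicative.toAdd.injective (sub_eq_zero.mp h5)
  · intro e
    rw [hθ, hθ, ← cF_MD ha hb hc hd]
    simp only [cF, map_mul, map_pow, d0, d1, d2, d3]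
  · intro e
    rw [hθ, hθ, ← cF_MW]
    simp only [cF, map_mul, map_pow, w0, w1, w2, w3]
  · intro e
    rw [hθ, hθ]
    exact hfu e

end comm

variable {X : Type u} [Group X] {N : Subgroup X} {ε : A5 →* X}

/-- **R6**. -/
theorem exists_coord (hD : ActData N ε) {b : Fin 4 → X} (hb : Basis12 N ε b) :
    ∃ θ : Multiplicative (Fin 4 → ZMod 2) →* X, Coord N ε θ := by
  haveI := hD.normal
  have hNab : ∀ a ∈ N, ∀ b ∈ N, a * b = b * a := by
    intro a ha b hb'
    have h1 := hD.sq a ha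
    have h2 := hD.sq b hb'
    have h3 := hD.sq (a * b) (N.mul_mem ha hb')
    have ea : a⁻¹ = a := by rw [inv_eq_iff_mul_eq_one, ← pow_two]; exact h1
    have eb : b⁻¹ = b := by rw [inv_eq_iff_mul_eq_one, ← pow_two]; exact h2
    have eab : (a * b)⁻¹ = a * b := by rw [inv_eq_iff_mul_eq_one, ← pow_two]; exact h3
    rw [mul_inv_rev, ea, eb] at eab
    exact eab.symm
  letI : CommGroup ↥N :=
    { (inferInstance : Group ↥N) with
      mul_comm := fun a b => Subtype.ext (hNab a a.2 b b.2) }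
  have hsq : ∀ i, (⟨b i, hb.mem i⟩ : ↥N) ^ 2 = 1 := fun i => Subtype.ext (by
    show (b i) ^ 2 = 1
    exact hD.sq _ (hb.mem i))
  have hκ : ∀ (g : X) (n : ↥N), (((MulAut.conjNormal g : ↥N ≃* ↥N).toMonoidHom n : ↥N) : X)
      = g * n * g⁻¹ := fun g n => rfl
  obtain ⟨θN, hinj, hd, hw, hu⟩ := exists_coord_comm (A := ↥N)
    ⟨b 0, hb.mem 0⟩ ⟨b 1, hb.mem 1⟩ ⟨b 2, hb.mem 2⟩ ⟨b 3, hb.mem 3⟩
    (hsq 0) (hsq 1) (hsq 2) (hsq 3) (fun h => hb.ne (congrArg Subtype.val h))
    (MulAut.conjNormal (ε pd) : ↥N ≃* ↥N).toMonoidHom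
    (MulAut.conjNormal (ε pw) : ↥N ≃* ↥N).toMonoidHom
    (MulAut.conjNormal (ε pu) : ↥N ≃* ↥N).toMonoidHom
    (MulAut.conjNormal (ε pd) : ↥N ≃* ↥N).injective
    (Subtype.ext hb.d0) (Subtype.ext hb.d1) (Subtype.ext hb.d2) (Subtype.ext hb.d3)
    (Subtype.ext hb.w0) (Subtype.ext hb.w1) (Subtype.ext hb.w2) (Subtype.ext hb.w3)
    (Subtype.ext hb.u0) (Subtype.ext hb.u1) (Subtype.ext hb.u2) (Subtype.ext hb.u3)
  refine ⟨N.subtype.comp θN, ?_, ?_, ?_, ?_, ?_⟩
  · intro v
    exact (θN v).2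
  · exact Subtype.val_injective.comp hinj
  · intro c
    have := congrArg Subtype.val (hd c)
    rw [hκ] at this
    exact this
  · intro c
    have := congrArg Subtype.val (hw c)
    rw [hκ] at this
    exact this
  · intro c
    have := congrArg Subtype.val (hu c)
    rw [hκ] at this
    exact this

/-- **R6'**: the range of `θ` is normalized by `ε(A₅)`. -/
theorem coord_invariant {θ : Multiplicative (Fin 4 → ZMod 2) →* X} (hθ : Coord N ε θ) (a : A5)
    (v : Multiplicative (Fin 4 → ZMod 2)) :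
    ∃ v' : Multiplicative (Fin 4 → ZMod 2), ε a * θ v * (ε a)⁻¹ = θ v' := by
  let K : Subgroup A5 :=
    { carrier := {a | (∀ v, ∃ v', ε a * θ v * (ε a)⁻¹ = θ v') ∧
        (∀ v, ∃ v', ε a⁻¹ * θ v * (ε a⁻¹)⁻¹ = θ v')}
      one_mem' := by
        constructor <;> intro v <;> exact ⟨v, by simp⟩
      mul_mem' := by
        rintro x y ⟨hx1, hx2⟩ ⟨hy1, hy2⟩
        constructor
        · intro v
          obtain ⟨v1, h1⟩ := hy1 v
          obtain ⟨v2, h2⟩ := hx1 v1
          refine ⟨v2, ?_⟩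
          rw [← h2, ← h1, map_mul]; group
        · intro v
          obtain ⟨v1, h1⟩ := hx2 v
          obtain ⟨v2, h2⟩ := hy2 v1
          refine ⟨v2, ?_⟩
          rw [← h2, ← h1, mul_inv_rev, map_mul]; group
      inv_mem' := by
        rintro x ⟨hx1, hx2⟩
        refine ⟨hx2, ?_⟩
        rw [inv_inv]
        exact hx1 }
  have hmemK : ∀ x : A5, x ∈ K ↔ ((∀ v, ∃ v', ε x * θ v * (ε x)⁻¹ = θ v') ∧
        (∀ v, ∃ v', ε x⁻¹ * θ v * (ε x⁻¹)⁻¹ = θ v')) := fun x => Iff.rfl
  have hu : pu ∈ K := by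
    have h1 : ∀ v, ∃ v', ε pu * θ v * (ε pu)⁻¹ = θ v' := fun v =>
      ⟨_, hθ.u (Multiplicative.toAdd v)⟩
    have hinv : pu⁻¹ = pu := by
      rw [inv_eq_iff_mul_eq_one, ← pow_two]; exact pu_sq
    rw [hmemK, hinv]
    exact ⟨h1, h1⟩
  have hw : pw ∈ K := by
    have h1 : ∀ v, ∃ v', ε pw * θ v * (ε pw)⁻¹ = θ v' := fun v =>
      ⟨_, hθ.w (Multiplicative.toAdd v)⟩
    have hinv : pw⁻¹ = pw := by
      rw [inv_eq_iff_mul_eq_one, ← pow_two]; exact pw_sq
    rw [hmemK, hinv]
    exact ⟨h1, h1⟩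
  have hd : pd ∈ K := by
    have h1 : ∀ v, ∃ v', ε pd * θ v * (ε pd)⁻¹ = θ v' := fun v =>
      ⟨_, hθ.d (Multiplicative.toAdd v)⟩
    have hinv : pd⁻¹ = pd * pd := by
      rw [inv_eq_iff_mul_eq_one]
      have := pd_cube
      simpa [pow_succ, mul_assoc] using this
    rw [hmemK, hinv]
    refine ⟨h1, ?_⟩
    intro v
    obtain ⟨v1, e1⟩ := h1 v
    obtain ⟨v2, e2⟩ := h1 v1
    refine ⟨v2, ?_⟩
    rw [← e2, ← e1, map_mul]; group
  have hK : K = ⊤ := by
    rw [eq_top_iff, ← closure_udw, Subgroup.closure_le]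
    rintro x (rfl | rfl | rfl)
    · exact hu
    · exact hd
    · exact hw
  have : a ∈ K := by rw [hK]; exact Subgroup.mem_top a
  exact this.1 v

end Cfsg.Agent.Lib.Helper2.Cr5
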