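import Mathlib
import Cfsg.Agent.Lib.Helper2.DihedralSub
import Cfsg.Agent.Lib.Helper2.FourGroup
import Cfsg.Agent.Lib.Helper7.AGInduction
import Cfsg.Agent.Lib.Helper7.SylowIn
import Cfsg.Agent.Lib.Helper7.ConjFamily2
import Cfsg.Agent.Lib.Helper7.WeaklyClosed

/-!
# Fusion of four-subgroups in a group with dihedral-like Sylow `2`-subgroup

Via Alperin--Goldschmidt induction: the Sylow `2`-subgroup controls the fusion of its Klein
four-subgroups (as subgroups).
-/

set_option autoImplicit false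

namespace Cfsg.Agent.Lib.Helper2.DihedralFour

open Cfsg Cfsg.Agent.Lib.Helper1 Cfsg.Agent.Lib.Helper2.MetaOdd Cfsg.Agent.Lib.Helper7
open Cfsg.Agent.Lib.Helper2.DihedralSub Cfsg.Agent.Lib.Helper2.FourGroup

variable {G : Type*} [Group G]

/-- Odd-order elements normalizing a subgroup `Q` of exponent `> 2` of a dihedral-like `2`-group
centralize it. -/
theorem odd_normalizer_le_centralizer_of_exists [Finite G] (S R : Subgroup G) (hS : IsPGroup 2 S)
    (hRS : R ≤ S) (hRc : IsCyclic R)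
    (hinv : ∀ x ∈ S, x ∉ R → x ^ 2 = 1)
    (hprod : ∀ x ∈ S, ∀ y ∈ S, x ∉ R → y ∉ R → x⁻¹ * y ∈ R)
    (Q : Subgroup G) (hQS : Q ≤ S) (hA : ∃ c₀ ∈ Q, c₀ ^ 2 ≠ 1)
    (g : G) (hg : g ∈ Subgroup.normalizer (Q : Set G))
    (hodd : Odd (orderOf g)) : g ∈ Subgroup.centralizer (Q : Set G) := by
  have hconj : ∀ x ∈ Q, g * x * g⁻¹ ∈ Q :=
    fun x hx => (Subgroup.mem_normalizer_iff.mp hg x).mp hx
  have hQ2 : IsPGroup 2 Q := hS.to_le hQS
  have hcop : (orderOf g).Coprime 2 := Nat.coprime_two_right.mpr hodd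
  obtain ⟨c₀, hc₀Q, hc₀2⟩ := hA
  have hinR : ∀ c ∈ Q, c ^ 2 ≠ 1 → c ∈ R :=
    fun c hc h2 => by_contra fun hn => h2 (hinv c (hQS hc) hn)
  -- A1
  have hA1 : ∀ c ∈ Q, c ^ 2 ≠ 1 → g ∈ Subgroup.centralizer (Subgroup.zpowers c : Set G) := by
    intro c hc h2
    have hcR := hinR c hc h2
    have hc'Q := hconj c hc
    have hc'2 : (g * c * g⁻¹) ^ 2 ≠ 1 := by
      rw [conj_pow]
      intro h
      apply h2
      have : c ^ 2 = g⁻¹ * (g * c ^ 2 * g⁻¹) * g := by group
      rw [this, h]; group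
    have hc'R := hinR _ hc'Q hc'2
    have hord : orderOf (g * c * g⁻¹) = orderOf c := by
      rw [← MulAut.conj_apply]
      exact MulEquiv.orderOf_eq (MulAut.conj g) c
    have heq := zpowers_eq_of_orderOf_eq R hRc _ _ hc'R hcR hord
    have hnorm : g ∈ Subgroup.normalizer ((Subgroup.zpowers c : Subgroup G) : Set G) := by
      apply Cfsg.Agent.Lib.Helper7.mem_normalizer_of_map_conj_le
      rw [MonoidHom.map_zpowers]
      show Subgroup.zpowers (g * c * g⁻¹) ≤ _
      rw [heq]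
    have hz2 : IsPGroup 2 (Subgroup.zpowers c) :=
      hS.to_le ((Subgroup.zpowers_le.mpr hcR).trans hRS)
    exact centralizes_of_isCyclic_two_group _ inferInstance hz2 g hnorm hodd
  have hcent_eq : ∀ (c y : G), g ∈ Subgroup.centralizer (Subgroup.zpowers c : Set G) →
      y ∈ Subgroup.zpowers c → g * y * g⁻¹ = y := by
    intro c y hgc hy
    have := Subgroup.mem_centralizer_iff.mp hgc y hy
    rw [← this]; group
  -- an involution inside `zpowers c₀`
  have hc₀R := hinR c₀ hc₀Q hc₀2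
  obtain ⟨j, hj⟩ := (IsPGroup.iff_orderOf.mp hS) ⟨c₀, hQS hc₀Q⟩
  rw [Subgroup.orderOf_mk] at hj
  have hj2 : 2 ≤ j := by
    by_contra hlt
    push Not at hlt
    apply hc₀2
    have h1 : orderOf c₀ ∣ 2 := by
      rw [hj]
      calc 2 ^ j ∣ 2 ^ 1 := pow_dvd_pow 2 (by omega)
        _ = 2 := by norm_num
    exact orderOf_dvd_iff_pow_eq_one.mp h1
  obtain ⟨d, hd⟩ : ∃ d, d = c₀ ^ 2 ^ (j - 1) := ⟨_, rfl⟩
  have hdz : d ∈ Subgroup.zpowers c₀ := by rw [hd]; exact Subgroup.pow_mem _ (Subgroup.mem_zpowers c₀) _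
  have hd2 : d ^ 2 = 1 := by
    rw [hd, ← pow_mul, ← pow_succ, Nat.sub_add_cancel (by omega), ← hj]
    exact pow_orderOf_eq_one c₀
  have hd1 : d ≠ 1 := by
    rw [hd]
    apply pow_ne_one_of_lt_orderOf (by positivity)
    rw [hj]
    exact Nat.pow_lt_pow_right (by norm_num) (by omega)
  have hdR : d ∈ R := Subgroup.zpowers_le.mpr hc₀R hdz
  have hgc₀ := hA1 c₀ hc₀Q hc₀2
  -- A2
  have hA2 : ∀ x ∈ Q, x ∈ R → g * x * g⁻¹ = x := by
    intro x hxQ hxR
    by_cases hx2 : x ^ 2 = 1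
    · have h1 := mem_zpowers_of_pow_prime_eq_one (p := 2) R hRc x d hxR hx2 hdR hd2 hd1
      exact hcent_eq c₀ x hgc₀ (Subgroup.zpowers_le.mpr hdz h1)
    · exact hcent_eq x x (hA1 x hxQ hx2) (Subgroup.mem_zpowers x)
  -- A3
  have hall : ∀ x ∈ Q, g * x * g⁻¹ = x := by
    intro x hxQ
    by_cases hxR : x ∈ R
    · exact hA2 x hxQ hxR
    · have hx'Q := hconj x hxQ
      have hx'R : g * x * g⁻¹ ∉ R := by
        intro h
        have h1 := hA2 _ hx'Q h
        apply hxR
        have h2 : g * x * g⁻¹ = x := by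
          have e2 : g * ((g * x * g⁻¹) * g⁻¹) = g * (x * g⁻¹) := by
            rw [← mul_assoc, h1, mul_assoc]
          exact mul_right_cancel (mul_left_cancel e2)
        rw [← h2]; exact h
      have hq := hprod x (hQS hxQ) _ (hQS hx'Q) hxR hx'R
      have hqQ : x⁻¹ * (g * x * g⁻¹) ∈ Q := Q.mul_mem (Q.inv_mem hxQ) hx'Q
      have h2 := hA2 _ hqQ hq
      have h1 : g * x * g⁻¹ = x * (x⁻¹ * (g * x * g⁻¹)) := by group
      have h3 := pow_conj_eq_of_conj_eq g x _ h1 h2 (orderOf g)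
      rw [pow_orderOf_eq_one, one_mul, inv_one, mul_one] at h3
      have h4 : (x⁻¹ * (g * x * g⁻¹)) ^ orderOf g = 1 := by
        have : x * (x⁻¹ * (g * x * g⁻¹)) ^ orderOf g = x * 1 := by rw [mul_one]; exact h3.symm
        exact mul_left_cancel this
      have h5 := eq_one_of_pow_odd_eq_one (p := 2) S hS _ (hQS hqQ) _ hcop h4
      rw [h1, h5, mul_one]
  rw [Subgroup.mem_centralizer_iff]
  intro x hx
  have := hall x hx
  calc x * g = (g * x * g⁻¹) * g := by rw [this]
    _ = g * x := by group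

/-- A subgroup of exponent two of a dihedral-like `2`-group has order at most four. -/
theorem card_le_four_of_sq_eq_one [Finite G] (S R : Subgroup G)
    (_hRS : R ≤ S) (hRc : IsCyclic R) (hidx : R.relIndex S = 2)
    (Q : Subgroup G) (hQS : Q ≤ S) (hA : ∀ c ∈ Q, c ^ 2 = 1) : Nat.card Q ≤ 4 := by
  haveI : IsCyclic R := hRc
  haveI : IsCyclic ↥(R ⊓ Q) := Subgroup.isCyclic_of_le (inf_le_left : R ⊓ Q ≤ R)
  have h1 : Nat.card ↥(R ⊓ Q) ≤ 2 := by
    apply card_le_of_isCyclic_of_pow_eq_one (by norm_num)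
    intro c
    apply Subtype.ext
    rw [Subgroup.coe_pow, Subgroup.coe_one]
    exact hA c c.2.2
  have h2 : (R ⊓ Q).relIndex Q ≤ 2 := by
    rw [Subgroup.inf_relIndex_right, ← hidx]
    exact Subgroup.relIndex_le_of_le_right hQS (by rw [hidx]; norm_num)
  have h3 := Subgroup.relIndex_mul_relIndex ⊥ (R ⊓ Q) Q bot_le inf_le_right
  rw [Subgroup.relIndex_bot_left, Subgroup.relIndex_bot_left] at h3
  have h4 : Nat.card Q ≤ 4 := by
    rw [← h3]
    calc Nat.card ↥(R ⊓ Q) * (R ⊓ Q).relIndex Q ≤ 2 * 2 := Nat.mul_le_mul h1 h2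
      _ = 4 := by norm_num
  exact h4

theorem isKleinFour_map {H : Type*} [Group H] (f : G →* H) (hf : Function.Injective f)
    (U : Subgroup G) [IsKleinFour U] : IsKleinFour (U.map f) where
  card_four := by rw [Subgroup.card_map_of_injective hf]; exact IsKleinFour.card_four
  exponent_two := by
    rw [← Monoid.exponent_eq_of_mulEquiv (U.equivMapOfInjective f hf)]
    exact IsKleinFour.exponent_two

/-- the fusion relation "four-subgroups move as under `S`" -/
def FourRel (S : Subgroup G) (A : Set G) (g : G) : Prop :=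
  ∀ U : Subgroup G, IsKleinFour U → (U : Set G) ⊆ A →
    ∃ s ∈ S, cr g (U : Set G) = cr s (U : Set G)

theorem FourRel.fusionRel (S : Subgroup G) : FusionRel (FourRel S) where
  one := fun A U _ _ => ⟨1, S.one_mem, rfl⟩
  mono := fun h hA U hU hUA => h U hU (hUA.trans hA)
  comp := by
    intro A g h h1 h2 U hU hUA
    obtain ⟨s, hs, hsU⟩ := h1 U hU hUA
    haveI := hU
    have hV : IsKleinFour (U.map (MulAut.conj g⁻¹).toMonoidHom) :=
      isKleinFour_map _ (MulAut.conj g⁻¹).injective U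
    obtain ⟨t, ht, htV⟩ := h2 _ hV (by rw [← cr_coe_eq_map]; exact cr_mono hUA g)
    refine ⟨s * t, S.mul_mem hs ht, ?_⟩
    rw [← cr_coe_eq_map] at htV
    rw [cr_mul, cr_mul, htV, hsU]
  inv := by
    intro A g h V hV hVA
    haveI := hV
    have hU : IsKleinFour (V.map (MulAut.conj g).toMonoidHom) :=
      isKleinFour_map _ (MulAut.conj g).injective V
    have hUset : ((V.map (MulAut.conj g).toMonoidHom : Subgroup G) : Set G) = cr g⁻¹ (V : Set G) := by
      rw [cr_coe_eq_map, inv_inv]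
    have hsub : cr g⁻¹ (V : Set G) ⊆ A := by
      have h1 := cr_mono hVA g⁻¹
      rwa [← cr_mul, mul_inv_cancel, cr_one] at h1
    obtain ⟨s, hs, hsU⟩ := h _ hU (by rw [hUset]; exact hsub)
    rw [hUset] at hsU
    refine ⟨s⁻¹, S.inv_mem hs, ?_⟩
    calc cr g⁻¹ (V : Set G) = cr s⁻¹ (cr s (cr g⁻¹ (V : Set G))) := by
          rw [← cr_mul, mul_inv_cancel, cr_one]
      _ = cr s⁻¹ (cr g (cr g⁻¹ (V : Set G))) := by rw [hsU]
      _ = cr s⁻¹ (V : Set G) := by rw [cr_cr_inv]
  triv := by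
    intro A g hA U hU hUA
    exfalso
    haveI := hU
    obtain ⟨b, hb, hb1, -⟩ := exists_third U (U.one_mem)
    exact hb1 (hA b (hUA hb))

/-- **Control of fusion of four-subgroups** in a group whose Sylow `2`-subgroup has a cyclic
subgroup of index two all of whose outside elements are involutions. -/
theorem fourRel_all [Finite G] (S : Sylow 2 G) (R : Subgroup G) (hRS : R ≤ (S : Subgroup G))
    (hRc : IsCyclic R) (hidx : R.relIndex (S : Subgroup G) = 2)
    (hinv : ∀ x ∈ (S : Subgroup G), x ∉ R → x ^ 2 = 1)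
    (hprod : ∀ x ∈ (S : Subgroup G), ∀ y ∈ (S : Subgroup G), x ∉ R → y ∉ R → x⁻¹ * y ∈ R) :
    ∀ (A : Set G) (g : G), A ⊆ (S : Subgroup G) → cr g A ⊆ (S : Subgroup G) →
      FourRel (S : Subgroup G) A g := by
  haveI : Fact (Nat.Prime 2) := ⟨Nat.prime_two⟩
  apply FusionRel.ag_induction S (FourRel.fusionRel _)
  intro T hTS hfn hbig x hx U hU hUT
  haveI := hU
  have hUT' : U ≤ T := SetLike.coe_subset_coe.mp hUT
  have hSp : IsPGroup 2 ↥(S : Subgroup G) := S.isPGroup'
  by_cases hA : ∃ c₀ ∈ T, c₀ ^ 2 ≠ 1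
  · set N : Subgroup G := Subgroup.normalizer (T : Set G) with hN
    set C : Subgroup G := Subgroup.centralizer (T : Set G) with hC
    have hsyl : IsSylowIn 2 ((S : Subgroup G) ⊓ N) N :=
      ⟨inf_le_right, hSp.to_le inf_le_left, hfn⟩
    have hCN : C ≤ N := Subgroup.centralizer_le_normalizer _
    have hNC : N ≤ Subgroup.normalizer (C : Set G) := normalizer_le_normalizer_centralizer T
    have hpow : ∀ d ∈ N, ∃ k : ℕ, d ^ (2 ^ k) ∈ C := by
      intro d hd
      obtain ⟨a, b, hb, hab⟩ := Nat.exists_eq_two_pow_mul_odd (orderOf_pos d).ne'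
      refine ⟨a, ?_⟩
      apply odd_normalizer_le_centralizer_of_exists (S : Subgroup G) R hSp hRS hRc hinv hprod T hTS
        hA _ (N.pow_mem hd _)
      have h3 : (d ^ 2 ^ a) ^ b = 1 := by
        rw [← pow_mul, ← hab, pow_orderOf_eq_one]
      exact Odd.of_dvd_nat hb (orderOf_dvd_of_pow_eq_one h3)
    have hdec := le_sup_inf_sylowIn hsyl le_rfl Subgroup.le_normalizer hCN hNC hpow hx
    have hdec' : x ∈ ((C ⊔ (N ⊓ ((S : Subgroup G) ⊓ N)) : Subgroup G) : Set G) := hdec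
    rw [Subgroup.coe_mul_of_right_le_normalizer_left C _ (inf_le_left.trans hNC), Set.mem_mul]
      at hdec'
    obtain ⟨c, hc, s, hs, rfl⟩ := hdec'
    have hsS : s ∈ (S : Subgroup G) := (Subgroup.mem_inf.mp (Subgroup.mem_inf.mp hs).2).1
    refine ⟨s, hsS, ?_⟩
    rw [cr_mul]
    congr 1
    ext b
    rw [mem_cr_iff]
    constructor
    · intro hb
      have h1 := Subgroup.mem_centralizer_iff.mp hc _ (hUT' hb)
      have hw : c⁻¹ * (c * b * c⁻¹) * c = c * b * c⁻¹ := by
        rw [mul_assoc c⁻¹, h1]; group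
      have h2 : b = c * b * c⁻¹ := by
        rw [← hw]; group
      rw [h2]; exact hb
    · intro hb
      have h1 := Subgroup.mem_centralizer_iff.mp hc _ (hUT' hb)
      have h2 : c * b * c⁻¹ = b := by
        rw [← h1]; group
      rw [h2]; exact hb
  · push Not at hA
    have h4 : Nat.card T ≤ 4 :=
      card_le_four_of_sq_eq_one (S : Subgroup G) R hRS hRc hidx T hTS hA
    have hTU : U = T :=
      Subgroup.eq_of_le_of_card_ge hUT' (by rw [IsKleinFour.card_four (G := ↥U)]; exact h4)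
    refine ⟨1, (S : Subgroup G).one_mem, ?_⟩
    rw [cr_one, hTU]
    exact (cr_eq_self_iff_mem_normalizer x T).mpr hx

end Cfsg.Agent.Lib.Helper2.DihedralFour
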