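import Mathlib
import Cfsg.Agent.Lib.Helper2.DihedralFusion
import Cfsg.Agent.Lib.Helper2.DihedralFour

/-!
# The two classes of four-subgroups in a group with dihedral Sylow `2`-subgroup of order `≥ 8`
-/

set_option autoImplicit false

namespace Cfsg.Agent.Lib.Helper2.DihedralFour

open Cfsg Cfsg.Agent.S3864 Cfsg.Agent.Lib.Helper1 Cfsg.Agent.Lib.Helper2 Cfsg.Agent.Lib.Helper7
open Cfsg.Agent.Lib.Helper2.FourGroup Cfsg.Agent.Lib.Helper2.DihedralFusion DihedralGroup

section Dih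

variable {G : Type*} [Group G] [Finite G] (P : Sylow 2 G) {m k : ℕ}
  (D : DihData (P : Subgroup G) m k)

/-- the rotation subgroup -/
def rotD : Subgroup G := Subgroup.zpowers D.x

theorem rotD_le : rotD P D ≤ (P : Subgroup G) := Subgroup.zpowers_le.mpr D.x_mem

theorem isCyclic_rotD : IsCyclic ↥(rotD P D) := by unfold rotD; infer_instance

theorem relIndex_rotD : (rotD P D).relIndex (P : Subgroup G) = 2 := by
  haveI := D.neZero
  have h3 := Subgroup.relIndex_mul_relIndex ⊥ (rotD P D) (P : Subgroup G) bot_le (rotD_le P D)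
  rw [Subgroup.relIndex_bot_left, Subgroup.relIndex_bot_left] at h3
  have h5 : Nat.card ↥(rotD P D) = m := by
    unfold rotD DihData.x
    rw [Nat.card_zpowers, D.orderOf_e, orderOf_r_one]
  rw [D.card_P, h5] at h3
  have hm : 0 < m := Nat.pos_of_ne_zero (NeZero.ne m)
  exact Nat.eq_of_mul_eq_mul_left hm (by rw [h3]; ring)

theorem exists_of_not_mem_rotD {g : G} (hg : g ∈ (P : Subgroup G)) (hgR : g ∉ rotD P D) :
    ∃ i : ℕ, g = D.y * D.x ^ i := by
  obtain ⟨i, h | h⟩ := D.mem_cases hg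
  · exfalso; apply hgR; rw [h]
    exact Subgroup.pow_mem _ (Subgroup.mem_zpowers _) _
  · exact ⟨i, h⟩

theorem sq_eq_one_of_not_mem_rotD (g : G) (hg : g ∈ (P : Subgroup G)) (hgR : g ∉ rotD P D) :
    g ^ 2 = 1 := by
  obtain ⟨i, rfl⟩ := exists_of_not_mem_rotD P D hg hgR
  rw [← D.e_sr, ← map_pow, pow_two, sr_mul_self, map_one]

theorem inv_mul_mem_rotD (g : G) (hg : g ∈ (P : Subgroup G)) (h : G) (hh : h ∈ (P : Subgroup G))
    (hgR : g ∉ rotD P D) (hhR : h ∉ rotD P D) : g⁻¹ * h ∈ rotD P D := by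
  obtain ⟨i, rfl⟩ := exists_of_not_mem_rotD P D hg hgR
  obtain ⟨j, rfl⟩ := exists_of_not_mem_rotD P D hh hhR
  have : (D.y * D.x ^ i)⁻¹ * (D.y * D.x ^ j) = (D.x ^ i)⁻¹ * D.x ^ j := by group
  rw [this]
  exact Subgroup.mul_mem _ (Subgroup.inv_mem _ (Subgroup.pow_mem _ (Subgroup.mem_zpowers _) _))
    (Subgroup.pow_mem _ (Subgroup.mem_zpowers _) _)

include D in
/-- `P` controls fusion of its four-subgroups. -/
theorem fourRel_D (A : Set G) (g : G) (hA : A ⊆ (P : Subgroup G))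
    (hAg : cr g A ⊆ (P : Subgroup G)) : FourRel (P : Subgroup G) A g :=
  fourRel_all P (rotD P D) (rotD_le P D) (isCyclic_rotD P D) (relIndex_rotD P D)
    (sq_eq_one_of_not_mem_rotD P D) (inv_mul_mem_rotD P D) A g hA hAg

theorem map_conj_comm {H A : Type*} [Group H] [CommGroup A] (f : H →* A) (d a : H) :
    f (d * a * d⁻¹) = f a := by
  rw [map_mul, map_mul, map_inv, mul_comm, ← mul_assoc, inv_mul_cancel, one_mul]

/-- no `P`-conjugate of `y` lies in `U₂ = ⟨z, y'⟩` -/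
theorem conj_y_not_mem_U₂ {s : G} (hs : s ∈ (P : Subgroup G)) : s * D.y * s⁻¹ ∉ U₂ P D := by
  intro h
  obtain ⟨d, rfl⟩ := D.exists_of_mem hs
  unfold U₂ at h
  rw [mem_fourSub] at h
  unfold DihData.y DihData.y' DihData.z at h
  rw [← map_inv, ← map_mul, ← map_mul, ← map_mul, ← map_one D.e] at h
  rcases h with h | h | h | h
  · have h2 := congrArg chi0 (D.inj h)
    rw [map_conj_comm, chi0_sr, map_one chi0] at h2
    exact ofAdd_one_ne_one h2
  · have h2 := congrArg chi0 (D.inj h)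
    rw [map_conj_comm, chi0_sr, chi0_r] at h2
    exact ofAdd_one_ne_one h2
  · have h2 := congrArg (chi1 D.hm) (D.inj h)
    rw [map_conj_comm, chi1_sr, chi1_sr, map_zero, map_one] at h2
    exact ofAdd_one_ne_one h2.symm
  · have h2 := congrArg (chi1 D.hm) (D.inj h)
    rw [map_conj_comm, map_mul, chi1_sr, chi1_sr, chi1_r, D.par_k, map_zero, map_one] at h2
    exact ofAdd_one_ne_one h2.symm

/-- A four-subgroup of `P` containing a reflection contains the central involution. -/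
theorem z_mem_of_sr_mem (W : Subgroup G) (hWP : W ≤ (P : Subgroup G)) [hW : IsKleinFour W]
    (j : ZMod m) (ht : D.e (sr j) ∈ W) : D.z ∈ W := by
  haveI := D.neZero
  obtain ⟨w, hwW, hw1, hwt⟩ := exists_third W ht
  obtain ⟨d, rfl⟩ := D.exists_of_mem (hWP hwW)
  have hord := orderOf_of_mem W hwW hw1
  rcases d with i | i
  · rw [D.orderOf_e] at hord
    have hi := rot_involution D.hmk D.hk0 hord
    unfold DihData.z
    rw [← hi]; exact hwW
  · have hprod : D.e (sr j) * D.e (sr i) ∈ W := W.mul_mem ht hwW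
    rw [← map_mul, sr_mul_sr] at hprod
    have h1 : D.e (r (i - j)) ≠ 1 := by
      intro h
      rw [← map_one D.e] at h
      have h2 := D.inj h
      rw [one_def] at h2
      have h3 : i - j = 0 := by injection h2
      apply hwt
      rw [sub_eq_zero.mp h3]
    have hord2 := orderOf_of_mem W hprod h1
    rw [D.orderOf_e] at hord2
    have hi := rot_involution D.hmk D.hk0 hord2
    unfold DihData.z
    rw [← hi]; exact hprod

/-- Every four-subgroup of `P` is `P`-conjugate to `U₁` or `U₂`. -/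
theorem four_conj_U (V : Subgroup G) (hVP : V ≤ (P : Subgroup G)) [hV : IsKleinFour V] :
    ∃ s ∈ (P : Subgroup G), V.map (MulAut.conj s).toMonoidHom = U₁ P D ∨
      V.map (MulAut.conj s).toMonoidHom = U₂ P D := by
  obtain ⟨u, huV, hu1, huz⟩ : ∃ u ∈ V, u ≠ 1 ∧ u ≠ D.z := by
    by_cases hz : D.z ∈ V
    · exact exists_third V hz
    · obtain ⟨u, hu, hu1, -⟩ := exists_third V V.one_mem
      exact ⟨u, hu, hu1, fun h => hz (h ▸ hu)⟩
  have hu2 : orderOf u = 2 := orderOf_of_mem V huV hu1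
  have key : ∀ s ∈ (P : Subgroup G), ∀ j : ZMod m, s * u * s⁻¹ = D.e (sr j) →
      V.map (MulAut.conj s).toMonoidHom ≤ (P : Subgroup G) ∧
      D.e (sr j) ∈ V.map (MulAut.conj s).toMonoidHom ∧
      D.z ∈ V.map (MulAut.conj s).toMonoidHom ∧
      Nat.card ↥(V.map (MulAut.conj s).toMonoidHom) = 4 := by
    intro s hs j hj
    haveI hW : IsKleinFour ↥(V.map (MulAut.conj s).toMonoidHom) :=
      isKleinFour_map _ (MulAut.conj s).injective V
    have hWP : V.map (MulAut.conj s).toMonoidHom ≤ (P : Subgroup G) := by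
      rintro _ ⟨v, hv, rfl⟩
      show s * v * s⁻¹ ∈ (P : Subgroup G)
      exact Subgroup.mul_mem _ (Subgroup.mul_mem _ hs (hVP hv)) (Subgroup.inv_mem _ hs)
    have ht : D.e (sr j) ∈ V.map (MulAut.conj s).toMonoidHom := ⟨u, huV, hj⟩
    exact ⟨hWP, ht, z_mem_of_sr_mem P D _ hWP j ht, IsKleinFour.card_four⟩
  rcases D.involution_cases (hVP huV) hu2 with h | ⟨s, hs, h⟩ | ⟨s, hs, h⟩
  · exact absurd h huz
  · refine ⟨s, hs, Or.inl ?_⟩
    obtain ⟨-, ht, hz, hc⟩ := key s hs 0 h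
    symm
    apply Subgroup.eq_of_le_of_card_ge
    · exact fourSub_le hz ht
    · rw [hc]
      haveI := isKleinFour_U₁ P D
      exact (IsKleinFour.card_four (G := ↥(U₁ P D))).ge
  · refine ⟨s, hs, Or.inr ?_⟩
    obtain ⟨-, ht, hz, hc⟩ := key s hs 1 h
    symm
    apply Subgroup.eq_of_le_of_card_ge
    · exact fourSub_le hz ht
    · rw [hc]
      haveI := isKleinFour_U₂ P D
      exact (IsKleinFour.card_four (G := ↥(U₂ P D))).ge

/-- `U₁` and `U₂` are not conjugate in `G`. -/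
theorem not_conj_U₁_U₂ :
    ¬ ∃ x : G, (U₁ P D).map (MulAut.conj x).toMonoidHom = U₂ P D := by
  rintro ⟨x, hx⟩
  have hA : ((U₁ P D : Subgroup G) : Set G) ⊆ (P : Subgroup G) :=
    SetLike.coe_subset_coe.mpr (U₁_le P D)
  have hcr : cr x⁻¹ ((U₁ P D : Subgroup G) : Set G) = ((U₂ P D : Subgroup G) : Set G) := by
    rw [cr_coe_eq_map, inv_inv, hx]
  have hAg : cr x⁻¹ ((U₁ P D : Subgroup G) : Set G) ⊆ (P : Subgroup G) := by
    rw [hcr]; exact SetLike.coe_subset_coe.mpr (U₂_le P D)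
  obtain ⟨s, hs, hsU⟩ := fourRel_D P D _ x⁻¹ hA hAg (U₁ P D) (isKleinFour_U₁ P D) subset_rfl
  rw [hcr] at hsU
  have hy : s⁻¹ * D.y * s ∈ cr s ((U₁ P D : Subgroup G) : Set G) :=
    ⟨D.y, right_mem_fourSub, rfl⟩
  rw [← hsU] at hy
  have := conj_y_not_mem_U₂ P D (Subgroup.inv_mem _ hs)
  rw [inv_inv] at this
  exact this hy

include D in
/-- The two classes of four-subgroups. -/
theorem dih_four_classes :
    ∃ U₁ U₂ : Subgroup G, IsKleinFour U₁ ∧ IsKleinFour U₂ ∧
      ¬ (∃ x : G, U₁.map (MulAut.conj x).toMonoidHom = U₂) ∧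
      ∀ V : Subgroup G, IsKleinFour V →
        (∃ x : G, V.map (MulAut.conj x).toMonoidHom = U₁) ∨
        (∃ x : G, V.map (MulAut.conj x).toMonoidHom = U₂) := by
  haveI : Fact (Nat.Prime 2) := ⟨Nat.prime_two⟩
  refine ⟨U₁ P D, U₂ P D, isKleinFour_U₁ P D, isKleinFour_U₂ P D, not_conj_U₁_U₂ P D, ?_⟩
  intro V hV
  haveI := hV
  have hV2 : IsPGroup 2 ↥V := IsPGroup.of_card (n := 2) (by rw [IsKleinFour.card_four]; norm_num)
  obtain ⟨g, hg⟩ := exists_conj_le_of_not_dvd_index hV2 P.not_dvd_index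
  have hV'P : V.map (MulAut.conj g⁻¹).toMonoidHom ≤ (P : Subgroup G) := by
    rintro _ ⟨v, hv, rfl⟩
    have := hg v hv
    simpa [MulAut.conj_apply] using this
  haveI hV' : IsKleinFour ↥(V.map (MulAut.conj g⁻¹).toMonoidHom) :=
    isKleinFour_map _ (MulAut.conj g⁻¹).injective V
  obtain ⟨s, -, h | h⟩ := four_conj_U P D _ hV'P
  · left
    refine ⟨s * g⁻¹, ?_⟩
    rw [← map_conj_map_conj]; exact h
  · right
    refine ⟨s * g⁻¹, ?_⟩
    rw [← map_conj_map_conj]; exact h

end Dih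

section Small

variable {G : Type*} [Group G] [Finite G]

/-- Subgroups of Sylow order are conjugate. -/
theorem conj_of_card_eq_sylow {p : ℕ} [Fact p.Prime] (S : Sylow p G) (U V : Subgroup G)
    (hU : Nat.card U = Nat.card (S : Subgroup G)) (hV : Nat.card V = Nat.card (S : Subgroup G)) :
    ∃ x : G, U.map (MulAut.conj x).toMonoidHom = V := by
  have key : ∀ W : Subgroup G, Nat.card W = Nat.card (S : Subgroup G) →
      ∃ g : G, (S : Subgroup G).map (MulAut.conj g).toMonoidHom = W := by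
    intro W hW
    obtain ⟨n, hn⟩ := IsPGroup.iff_card.mp S.2
    have hWp : IsPGroup p ↥W := IsPGroup.of_card (n := n) (by rw [hW, hn])
    obtain ⟨g, hg⟩ := exists_conj_le_of_not_dvd_index hWp S.not_dvd_index
    refine ⟨g, ?_⟩
    symm
    apply Subgroup.eq_of_le_of_card_ge
    · intro w hw
      rw [mem_map_conj_iff]
      exact hg w hw
    · rw [Subgroup.card_map_of_injective (MulAut.conj g).injective, hW]
  obtain ⟨g, hg⟩ := key U hU
  obtain ⟨h, hh⟩ := key V hV
  refine ⟨h * g⁻¹, ?_⟩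
  rw [← hg, map_conj_map_conj, mul_assoc, inv_mul_cancel, mul_one, hh]

end Small

end Cfsg.Agent.Lib.Helper2.DihedralFour
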