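import Mathlib
import Cfsg.Agent.Lib.Lead.SylowCount
import Cfsg.Agent.Lib.Lead.SmallSimple2
import Cfsg.Agent.Lib.Helper4.SimpleSmall
import Cfsg.Agent.Lib.Helper7.ProdSet

set_option autoImplicit false

/-!
# Simple groups of order 168, part A: Sylow numbers, centralizers, element orders
-/

namespace Cfsg.Agent.Lib.Helper2.S168

open Cfsg.Agent.Lib.Lead.SylowCount Cfsg.Agent.Lib.Lead.SmallSimple2
open scoped Pointwise

/-- an element of prime order `q` normalizing a subgroup `T` and fixing only `1` in `T`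
forces `|T| ≡ 1 (mod q)`. -/
theorem card_modEq_one_of_fpf {G : Type*} [Group G] [Finite G] {q : ℕ} [Fact q.Prime]
    (T : Subgroup G) (x : G) (hx : x ∈ Subgroup.normalizer (T : Set G)) (hxq : x ^ q = 1)
    (hfix : ∀ t ∈ T, x * t * x⁻¹ = t → t = 1) : Nat.card T ≡ 1 [MOD q] := by
  classical
  haveI : Fintype T := Fintype.ofFinite T
  let f : Function.End T := fun t => ⟨x * t * x⁻¹, (Subgroup.mem_normalizer_iff.mp hx t).mp t.2⟩
  have hfpow : ∀ n : ℕ, ∀ t : T, ((f ^ n) t : G) = x ^ n * t * (x ^ n)⁻¹ := by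
    intro n
    induction n with
    | zero =>
      intro t
      have : (f ^ 0) t = t := rfl
      rw [this]; simp
    | succ n ih =>
      intro t
      rw [pow_succ]
      show ((f ^ n) (f t) : G) = _
      rw [ih]
      show x ^ n * (x * t * x⁻¹) * (x ^ n)⁻¹ = _
      rw [pow_succ]; group
  have hf : f ^ q ^ 1 = 1 := by
    rw [pow_one]
    funext t
    apply Subtype.ext
    show ((f ^ q) t : G) = (t : G)
    rw [hfpow, hxq]
    simp
  have h1 := Equiv.Perm.card_fixedPoints_modEq (f := f) (p := q) (n := 1) hf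
  have h2 : Fintype.card (Function.fixedPoints f) = 1 := by
    rw [Fintype.card_eq_one_iff]
    refine ⟨⟨1, ?_⟩, ?_⟩
    · show f 1 = 1
      apply Subtype.ext
      show x * ((1 : T) : G) * x⁻¹ = ((1 : T) : G)
      simp
    · rintro ⟨t, ht⟩
      apply Subtype.ext
      apply Subtype.ext
      show (t : G) = 1
      apply hfix t t.2
      have : f t = t := ht
      exact congrArg Subtype.val this
  rw [h2, ← Nat.card_eq_fintype_card] at h1
  exact h1

variable {G : Type*} [Group G] [Finite G] [IsSimpleGroup G]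

theorem card_le_of_ne_top (h : Nat.card G = 168) (H : Subgroup G) (hH : H ≠ ⊤) :
    Nat.card H ≤ 24 := by
  have hd := Cfsg.Agent.Lib.Helper4.card_dvd_factorial_index H hH
  have hm := Subgroup.card_mul_index H
  rw [h] at hm hd
  by_contra hlt
  push Not at hlt
  have hidx : H.index ≤ 6 := by
    by_contra h7
    push Not at h7
    have : 25 * 7 ≤ Nat.card H * H.index := Nat.mul_le_mul hlt h7
    omega
  have h720 : (H.index).factorial ∣ Nat.factorial 6 := Nat.factorial_dvd_factorial hidx
  have := hd.trans h720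
  norm_num [Nat.factorial] at this

theorem ne_top_of_card_lt (h : Nat.card G = 168) (H : Subgroup G) (hH : Nat.card H < 168) :
    H ≠ ⊤ := by
  rintro rfl
  rw [Subgroup.card_top, h] at hH
  omega

theorem ne_bot_of_one_lt_card (H : Subgroup G) (hH : 1 < Nat.card H) : H ≠ ⊥ := by
  rintro rfl
  rw [Subgroup.card_bot] at hH
  omega

theorem normalizer_ne_top (H : Subgroup G) (h1 : H ≠ ⊥) (h2 : H ≠ ⊤) :
    Subgroup.normalizer (H : Set G) ≠ ⊤ := by
  intro hN
  have hn : H.Normal := Subgroup.normalizer_eq_top_iff.mp hN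
  rcases hn.eq_bot_or_eq_top with e | e
  · exact h1 e
  · exact h2 e

theorem card_normalizer_le (h : Nat.card G = 168) (H : Subgroup G) (h1 : 1 < Nat.card H)
    (h2 : Nat.card H < 168) : Nat.card (Subgroup.normalizer (H : Set G)) ≤ 24 :=
  card_le_of_ne_top h _ (normalizer_ne_top H (ne_bot_of_one_lt_card H h1) (ne_top_of_card_lt h H h2))

theorem card_sylow7 (h : Nat.card G = 168) (P : Sylow 7 G) : Nat.card P = 7 := by
  haveI : Fact (Nat.Prime 7) := ⟨by norm_num⟩
  exact card_sylow_of_card_eq 7 24 (by rw [h]) (by norm_num) P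

theorem card_sylow3 (h : Nat.card G = 168) (P : Sylow 3 G) : Nat.card P = 3 := by
  haveI : Fact (Nat.Prime 3) := ⟨by norm_num⟩
  exact card_sylow_of_card_eq 3 56 (by rw [h]) (by norm_num) P

theorem card_sylow2 (h : Nat.card G = 168) (P : Sylow 2 G) : Nat.card P = 8 := by
  haveI : Fact (Nat.Prime 2) := ⟨by norm_num⟩
  exact card_sylow_of_card_eq_pow 2 3 21 (by rw [h]; norm_num) (by norm_num) P

theorem card_sylow7_eq (h : Nat.card G = 168) : Nat.card (Sylow 7 G) = 8 := by
  haveI : Fact (Nat.Prime 7) := ⟨by norm_num⟩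
  obtain ⟨P⟩ : Nonempty (Sylow 7 G) := inferInstance
  have hP := card_sylow7 h P
  have hdvd : Nat.card (Sylow 7 G) ∣ 24 := card_sylow_dvd_of_card P hP (by rw [h]) (by norm_num)
  have hmod : Nat.card (Sylow 7 G) ≡ 1 [MOD 7] := card_sylow_modEq_one 7 G
  have hne : Nat.card (Sylow 7 G) ≠ 1 :=
    card_sylow_ne_one_of_card P hP (by norm_num) (by rw [h]; norm_num)
  have hle : Nat.card (Sylow 7 G) ≤ 24 := Nat.le_of_dvd (by norm_num) hdvd
  unfold Nat.ModEq at hmod
  generalize Nat.card (Sylow 7 G) = n at *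
  interval_cases n <;> omega

theorem card_normalizer7 (h : Nat.card G = 168) (P : Sylow 7 G) :
    Nat.card (Subgroup.normalizer ((P : Subgroup G) : Set G)) = 21 := by
  haveI : Fact (Nat.Prime 7) := ⟨by norm_num⟩
  have : Nat.card (Sylow 7 G) * Nat.card (Subgroup.normalizer ((P : Subgroup G) : Set G)) =
      Nat.card G := card_sylow_mul_card_normalizer 7 P
  rw [card_sylow7_eq h, h] at this
  omega


/-- a Sylow subgroup of prime order `p` whose normalizer has order `p * r`, `r` prime, is
self-centralizing (in a simple group not of order `p`). -/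
theorem centralizer_sylow_eq {p r : ℕ} [hp : Fact p.Prime] (hr : r.Prime) (hG : Nat.card G ≠ p)
    (P : Sylow p G) (hP : Nat.card P = p)
    (hN : Nat.card (Subgroup.normalizer ((P : Subgroup G) : Set G)) = p * r) :
    Subgroup.centralizer ((P : Subgroup G) : Set G) = P := by
  have hP' : Nat.card (P : Subgroup G) = p := hP
  have hPC : (P : Subgroup G) ≤ Subgroup.centralizer ((P : Subgroup G) : Set G) := by
    intro x hx
    rw [Subgroup.mem_centralizer_iff]
    intro y hy
    exact commute_of_card_prime (P : Subgroup G) hP hy hx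
  have hCN : Subgroup.centralizer ((P : Subgroup G) : Set G) ≤
      Subgroup.normalizer ((P : Subgroup G) : Set G) := Subgroup.centralizer_le_normalizer _
  have h1 := card_mul_relIndex hPC
  have h2 := card_mul_relIndex hCN
  set a := (P : Subgroup G).relIndex (Subgroup.centralizer ((P : Subgroup G) : Set G)) with ha
  set b := (Subgroup.centralizer ((P : Subgroup G) : Set G)).relIndex
    (Subgroup.normalizer ((P : Subgroup G) : Set G)) with hb
  have hab : a * b = r := by
    have : p * (a * b) = p * r := by rw [← hN, ← h2, ← h1, hP']; ring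
    exact Nat.eq_of_mul_eq_mul_left hp.out.pos this
  rcases (Nat.dvd_prime hr).mp ⟨b, hab.symm⟩ with ha1 | ha1
  · symm
    apply Subgroup.eq_of_le_of_card_ge hPC
    rw [← h1, ha1, mul_one]
  · exfalso
    have hb1 : b = 1 := by
      rw [ha1] at hab
      have : r * b = r * 1 := by rw [hab, mul_one]
      exact Nat.eq_of_mul_eq_mul_left hr.pos this
    have hNC : Subgroup.normalizer ((P : Subgroup G) : Set G) ≤
        Subgroup.centralizer ((P : Subgroup G) : Set G) := Subgroup.relIndex_eq_one.mp hb1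
    rcases burnside_simple P hNC with h3 | h3
    · exact hG (h3.trans hP)
    · rw [hP] at h3; exact hp.out.one_lt.ne' h3

theorem centralizer7 (h : Nat.card G = 168) (P : Sylow 7 G) :
    Subgroup.centralizer ((P : Subgroup G) : Set G) = P := by
  haveI : Fact (Nat.Prime 7) := ⟨by norm_num⟩
  exact centralizer_sylow_eq (r := 3) (by norm_num) (by rw [h]; norm_num) P (card_sylow7 h P)
    (by rw [card_normalizer7 h P])

theorem card_sylow3_eq (h : Nat.card G = 168) : Nat.card (Sylow 3 G) = 28 := by
  classical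
  haveI : Fact (Nat.Prime 3) := ⟨by norm_num⟩
  haveI : Fact (Nat.Prime 7) := ⟨by norm_num⟩
  obtain ⟨P7⟩ : Nonempty (Sylow 7 G) := inferInstance
  set M := Subgroup.normalizer ((P7 : Subgroup G) : Set G) with hM
  have hMcard : Nat.card M = 21 := card_normalizer7 h P7
  obtain ⟨x, hx⟩ := exists_prime_orderOf_dvd_card' (G := M) 3 (by rw [hMcard]; norm_num)
  have hxG : orderOf (x : G) = 3 := by rw [Subgroup.orderOf_coe]; exact hx
  set X := Subgroup.zpowers (x : G) with hX
  have hXcard : Nat.card X = 3 := by rw [Nat.card_zpowers, hxG]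
  have hXM : X ≤ M := Subgroup.zpowers_le.mpr x.2
  have hXp : IsPGroup 3 X := IsPGroup.of_card (n := 1) (by rw [hXcard]; norm_num)
  obtain ⟨Q, hQ⟩ := hXp.exists_le_sylow
  have hQcard := card_sylow3 h Q
  have hXQ : X = (Q : Subgroup G) :=
    Subgroup.eq_of_le_of_card_ge hQ (by rw [hXcard]; exact hQcard.le)
  have hdvd : Nat.card (Sylow 3 G) ∣ 56 :=
    card_sylow_dvd_of_card Q hQcard (by rw [h]) (by norm_num)
  have hmod : Nat.card (Sylow 3 G) ≡ 1 [MOD 3] := card_sylow_modEq_one 3 G
  have hne : Nat.card (Sylow 3 G) ≠ 1 :=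
    card_sylow_ne_one_of_card Q hQcard (by norm_num) (by rw [h]; norm_num)
  have hmul : Nat.card (Sylow 3 G) * Nat.card (Subgroup.normalizer ((Q : Subgroup G) : Set G)) =
      Nat.card G := card_sylow_mul_card_normalizer 3 Q
  have hNle : Nat.card (Subgroup.normalizer ((Q : Subgroup G) : Set G)) ≤ 24 :=
    card_normalizer_le h (Q : Subgroup G) (by rw [show Nat.card (Q : Subgroup G) = 3 from hQcard]; norm_num)
      (by rw [show Nat.card (Q : Subgroup G) = 3 from hQcard]; norm_num)
  set N := Subgroup.normalizer ((Q : Subgroup G) : Set G) with hN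
  have hle : Nat.card (Sylow 3 G) ≤ 56 := Nat.le_of_dvd (by norm_num) hdvd
  rw [h] at hmul
  unfold Nat.ModEq at hmod
  by_contra h28
  have h7 : Nat.card (Sylow 3 G) = 7 ∧ Nat.card N = 24 := by
    generalize Nat.card (Sylow 3 G) = n at *
    generalize Nat.card N = k at *
    interval_cases n <;> omega
  obtain ⟨-, hN24⟩ := h7
  -- the intersection has order 3
  have hXN : X ≤ N := by rw [hXQ]; exact Subgroup.le_normalizer
  have hinf : Nat.card (M ⊓ N : Subgroup G) = 3 := by
    have h1 : Nat.card (M ⊓ N : Subgroup G) ∣ 21 := by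
      rw [← hMcard]; exact Subgroup.card_dvd_of_le inf_le_left
    have h2 : Nat.card (M ⊓ N : Subgroup G) ∣ 24 := by
      rw [← hN24]; exact Subgroup.card_dvd_of_le inf_le_right
    have h3 : 3 ∣ Nat.card (M ⊓ N : Subgroup G) := by
      rw [← hXcard]; exact Subgroup.card_dvd_of_le (le_inf hXM hXN)
    have h4 : Nat.card (M ⊓ N : Subgroup G) ∣ 3 := by
      have := Nat.dvd_gcd h1 h2
      norm_num at this
      exact this
    exact Nat.dvd_antisymm h4 h3
  have hprod := Cfsg.Agent.Lib.Helper7.card_mul_set_mul_card_inf M N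
  rw [hinf, hMcard, hN24] at hprod
  have hcard : Nat.card ((M : Set G) * (N : Set G) : Set G) = 168 := by omega
  have huniv : ((M : Set G) * (N : Set G) : Set G) = Set.univ := by
    apply Set.eq_of_subset_of_ncard_le (Set.subset_univ _) _ (Set.toFinite _)
    rw [Set.ncard_univ, h, ← Nat.card_coe_set_eq, hcard]
  -- x lies in the normal core of M
  have hcore : (x : G) ∈ M.normalCore := by
    intro b
    have hb : b ∈ ((M : Set G) * (N : Set G) : Set G) := by rw [huniv]; trivial
    obtain ⟨m, hm, n, hn, rfl⟩ := Set.mem_mul.mp hb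
    have h1 : n * (x : G) * n⁻¹ ∈ (Q : Subgroup G) := by
      have hxQ : (x : G) ∈ (Q : Subgroup G) := by rw [← hXQ]; exact Subgroup.mem_zpowers _
      exact (Subgroup.mem_normalizer_iff.mp hn _).mp hxQ
    have h2 : n * (x : G) * n⁻¹ ∈ M := hXM (by rw [hXQ]; exact h1)
    have h3 : m * n * (x : G) * (m * n)⁻¹ = m * (n * (x : G) * n⁻¹) * m⁻¹ := by group
    rw [h3]
    exact M.mul_mem (M.mul_mem hm h2) (M.inv_mem hm)
  have hMtop : M ≠ ⊤ := ne_top_of_card_lt h M (by rw [hMcard]; norm_num)
  have hcorebot : M.normalCore = ⊥ := by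
    rcases (M.normalCore_normal).eq_bot_or_eq_top with e | e
    · exact e
    · exfalso
      apply hMtop
      rw [eq_top_iff, ← e]
      exact Subgroup.normalCore_le M
  rw [hcorebot, Subgroup.mem_bot] at hcore
  rw [hcore, orderOf_one] at hxG
  omega

theorem card_normalizer3 (h : Nat.card G = 168) (P : Sylow 3 G) :
    Nat.card (Subgroup.normalizer ((P : Subgroup G) : Set G)) = 6 := by
  haveI : Fact (Nat.Prime 3) := ⟨by norm_num⟩
  have : Nat.card (Sylow 3 G) * Nat.card (Subgroup.normalizer ((P : Subgroup G) : Set G)) =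
      Nat.card G := card_sylow_mul_card_normalizer 3 P
  rw [card_sylow3_eq h, h] at this
  omega

theorem centralizer3 (h : Nat.card G = 168) (P : Sylow 3 G) :
    Subgroup.centralizer ((P : Subgroup G) : Set G) = P := by
  haveI : Fact (Nat.Prime 3) := ⟨by norm_num⟩
  exact centralizer_sylow_eq (r := 2) (by norm_num) (by rw [h]; norm_num) P (card_sylow3 h P)
    (by rw [card_normalizer3 h P])

end Cfsg.Agent.Lib.Helper2.S168
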