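import Mathlib
import Cfsg.Agent.Lib.Helper2.S168A
import Cfsg.Agent.Lib.Helper1.CyclicMaxTwo
import Cfsg.Agent.Lib.Helper1.DihedralRecognition
import Cfsg.Agent.Lib.Lead.QuatRecog
import Cfsg.Agent.Lib.Lead.SmallSimple
import Cfsg.Agent.Lib.Helper2.ZS11
import Cfsg.Agent.Lib.Helper2.DihedralFour2

set_option autoImplicit false

/-!
# Simple groups of order 168, part B: element orders, Sylow 2-subgroups
-/

namespace Cfsg.Agent.Lib.Helper2.S168

open Cfsg.Agent.Lib.Lead.SylowCount Cfsg.Agent.Lib.Lead.SmallSimple2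

variable {G : Type*} [Group G] [Finite G] [IsSimpleGroup G]

omit [IsSimpleGroup G] in
/-- a cyclic subgroup of prime order `p`, when Sylow `p`-subgroups have order `p`, is Sylow. -/
theorem exists_sylow_eq_zpowers {p : ℕ} [Fact p.Prime] (hS : ∀ P : Sylow p G, Nat.card P = p)
    {y : G} (hy : orderOf y = p) : ∃ P : Sylow p G, (P : Subgroup G) = Subgroup.zpowers y := by
  have hcard : Nat.card (Subgroup.zpowers y) = p := by rw [Nat.card_zpowers, hy]
  have hp : IsPGroup p (Subgroup.zpowers y) := IsPGroup.of_card (n := 1) (by rw [hcard, pow_one])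
  obtain ⟨Q, hQ⟩ := hp.exists_le_sylow
  exact ⟨Q, (Subgroup.eq_of_le_of_card_ge hQ (by rw [hcard]; exact (hS Q).le)).symm⟩

omit [Finite G] [IsSimpleGroup G] in
theorem centralizer_singleton_eq (y : G) :
    Subgroup.centralizer ({y} : Set G) =
      Subgroup.centralizer ((Subgroup.zpowers y : Subgroup G) : Set G) := by
  rw [Subgroup.zpowers_eq_closure, Subgroup.centralizer_closure]

theorem centralizer_of_orderOf_seven (h : Nat.card G = 168) {y : G} (hy : orderOf y = 7) :
    Subgroup.centralizer ({y} : Set G) = Subgroup.zpowers y := by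
  haveI : Fact (Nat.Prime 7) := ⟨by norm_num⟩
  obtain ⟨P, hP⟩ := exists_sylow_eq_zpowers (card_sylow7 h) hy
  rw [centralizer_singleton_eq, ← hP, centralizer7 h P]

theorem centralizer_of_orderOf_three (h : Nat.card G = 168) {y : G} (hy : orderOf y = 3) :
    Subgroup.centralizer ({y} : Set G) = Subgroup.zpowers y := by
  haveI : Fact (Nat.Prime 3) := ⟨by norm_num⟩
  obtain ⟨P, hP⟩ := exists_sylow_eq_zpowers (card_sylow3 h) hy
  rw [centralizer_singleton_eq, ← hP, centralizer3 h P]

/-- if `p ∣ orderOf g` and elements of order `p` are self-centralizing then `orderOf g = p` -/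
theorem orderOf_eq_of_dvd {p : ℕ} (hp : p.Prime)
    (hC : ∀ y : G, orderOf y = p → Subgroup.centralizer ({y} : Set G) = Subgroup.zpowers y)
    (g : G) (hg : p ∣ orderOf g) : orderOf g = p := by
  obtain ⟨k, hk⟩ := hg
  have hpos : 0 < orderOf g := orderOf_pos g
  have hk0 : k ≠ 0 := by
    rintro rfl
    rw [mul_zero] at hk
    omega
  have hy : orderOf (g ^ k) = p := by
    rw [orderOf_pow_of_dvd hk0 ⟨p, by rw [hk, mul_comm]⟩, hk, Nat.mul_div_cancel _ (Nat.pos_of_ne_zero hk0)]
  have hmem : g ∈ Subgroup.centralizer ({g ^ k} : Set G) := by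
    rw [Subgroup.mem_centralizer_iff]
    intro y hy'
    rw [Set.mem_singleton_iff] at hy'
    rw [hy']
    exact ((Commute.refl g).pow_left k).eq
  rw [hC _ hy] at hmem
  have := orderOf_dvd_of_mem_zpowers hmem
  rw [hy] at this
  rcases (Nat.dvd_prime hp).mp this with h1 | h1
  · rw [h1] at hk
    have : p * k = 1 := hk.symm
    have := Nat.eq_one_of_mul_eq_one_right this
    exact absurd this hp.one_lt.ne'
  · exact h1

theorem orderOf_cases (h : Nat.card G = 168) (g : G) :
    orderOf g ∣ 8 ∨ orderOf g = 3 ∨ orderOf g = 7 := by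
  by_cases h7 : 7 ∣ orderOf g
  · exact Or.inr (Or.inr (orderOf_eq_of_dvd (by norm_num)
      (fun y hy => centralizer_of_orderOf_seven h hy) g h7))
  by_cases h3 : 3 ∣ orderOf g
  · exact Or.inr (Or.inl (orderOf_eq_of_dvd (by norm_num)
      (fun y hy => centralizer_of_orderOf_three h hy) g h3))
  left
  have hd : orderOf g ∣ 8 * 21 := by
    have := orderOf_dvd_natCard g
    rwa [h] at this
  have hc3 : Nat.Coprime (orderOf g) 3 :=
    ((Nat.Prime.coprime_iff_not_dvd (by norm_num)).mpr h3).symm
  have hc7 : Nat.Coprime (orderOf g) 7 :=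
    ((Nat.Prime.coprime_iff_not_dvd (by norm_num)).mpr h7).symm
  have hc : Nat.Coprime (orderOf g) 21 := by
    have := Nat.Coprime.mul_right hc3 hc7
    norm_num at this
    exact this
  exact hc.dvd_of_dvd_mul_right hd

/-- a `2`-element commuting with an element of order 3 or 7 is trivial -/
theorem eq_one_of_commute (h : Nat.card G = 168) {t x : G} (ht : orderOf t ∣ 8)
    (hx : orderOf x = 3 ∨ orderOf x = 7) (hc : x * t = t * x) : t = 1 := by
  have hmem : t ∈ Subgroup.centralizer ({x} : Set G) := by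
    rw [Subgroup.mem_centralizer_iff]
    intro y hy
    rw [Set.mem_singleton_iff] at hy
    rw [hy]; exact hc
  have hd : orderOf t ∣ orderOf x := by
    rcases hx with hx | hx
    · rw [centralizer_of_orderOf_three h hx] at hmem
      exact orderOf_dvd_of_mem_zpowers hmem
    · rw [centralizer_of_orderOf_seven h hx] at hmem
      exact orderOf_dvd_of_mem_zpowers hmem
  have h1 : orderOf t ∣ Nat.gcd 8 (orderOf x) := Nat.dvd_gcd ht hd
  have h2 : Nat.gcd 8 (orderOf x) = 1 := by
    rcases hx with hx | hx <;> rw [hx] <;> norm_num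
  rw [h2, Nat.dvd_one, orderOf_eq_one_iff] at h1
  exact h1

theorem orderOf_dvd_eight_of_mem (h : Nat.card G = 168) (T : Sylow 2 G) {t : G}
    (ht : t ∈ (T : Subgroup G)) : orderOf t ∣ 8 := by
  have h1 : orderOf (⟨t, ht⟩ : (T : Subgroup G)) ∣ Nat.card (T : Subgroup G) :=
    orderOf_dvd_natCard _
  rw [Subgroup.orderOf_mk] at h1
  rwa [show Nat.card (T : Subgroup G) = 8 from card_sylow2 h T] at h1

theorem card_sylow2_eq (h : Nat.card G = 168) : Nat.card (Sylow 2 G) = 21 := by
  classical
  haveI : Fact (Nat.Prime 2) := ⟨by norm_num⟩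
  haveI : Fact (Nat.Prime 3) := ⟨by norm_num⟩
  obtain ⟨T⟩ : Nonempty (Sylow 2 G) := inferInstance
  have hT := card_sylow2 h T
  have hT' : Nat.card (T : Subgroup G) = 8 := hT
  have hdvd : Nat.card (Sylow 2 G) ∣ 21 :=
    card_sylow_dvd_of_card T hT (by rw [h]) (by norm_num)
  have hmul : Nat.card (Sylow 2 G) * Nat.card (Subgroup.normalizer ((T : Subgroup G) : Set G)) =
      Nat.card G := card_sylow_mul_card_normalizer 2 T
  have hNle : Nat.card (Subgroup.normalizer ((T : Subgroup G) : Set G)) ≤ 24 :=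
    card_normalizer_le h (T : Subgroup G) (by rw [hT']; norm_num) (by rw [hT']; norm_num)
  set N := Subgroup.normalizer ((T : Subgroup G) : Set G) with hN
  have hle : Nat.card (Sylow 2 G) ≤ 21 := Nat.le_of_dvd (by norm_num) hdvd
  rw [h] at hmul
  by_contra h21
  have h7 : Nat.card N = 24 := by
    generalize Nat.card (Sylow 2 G) = n at *
    generalize Nat.card N = k at *
    interval_cases n <;> omega
  obtain ⟨x, hx⟩ := exists_prime_orderOf_dvd_card' (G := N) 3 (by rw [h7]; norm_num)
  have hxG : orderOf (x : G) = 3 := by rw [Subgroup.orderOf_coe]; exact hx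
  have hmod := card_modEq_one_of_fpf (q := 3) (T : Subgroup G) (x : G) x.2
    (by rw [← hxG]; exact pow_orderOf_eq_one _)
    (by
      intro t ht hfix
      apply eq_one_of_commute h (orderOf_dvd_eight_of_mem h T ht) (Or.inl hxG)
      calc (x : G) * t = (x : G) * t * (x : G)⁻¹ * (x : G) := by group
        _ = t * (x : G) := by rw [hfix])
  rw [hT'] at hmod
  unfold Nat.ModEq at hmod
  omega

theorem card_normalizer2 (h : Nat.card G = 168) (T : Sylow 2 G) :
    Nat.card (Subgroup.normalizer ((T : Subgroup G) : Set G)) = 8 := by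
  haveI : Fact (Nat.Prime 2) := ⟨by norm_num⟩
  have : Nat.card (Sylow 2 G) * Nat.card (Subgroup.normalizer ((T : Subgroup G) : Set G)) =
      Nat.card G := card_sylow_mul_card_normalizer 2 T
  rw [card_sylow2_eq h, h] at this
  omega

theorem normalizer2 (h : Nat.card G = 168) (T : Sylow 2 G) :
    Subgroup.normalizer ((T : Subgroup G) : Set G) = T := by
  symm
  apply Subgroup.eq_of_le_of_card_ge Subgroup.le_normalizer
  rw [card_normalizer2 h T, show Nat.card (T : Subgroup G) = 8 from card_sylow2 h T]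

theorem sylow2_not_comm (h : Nat.card G = 168) (T : Sylow 2 G) :
    ¬ ∀ a ∈ (T : Subgroup G), ∀ b ∈ (T : Subgroup G), a * b = b * a := by
  haveI : Fact (Nat.Prime 2) := ⟨by norm_num⟩
  intro hc
  have hle : Subgroup.normalizer ((T : Subgroup G) : Set G) ≤
      Subgroup.centralizer ((T : Subgroup G) : Set G) := by
    rw [normalizer2 h T]
    intro x hx
    rw [Subgroup.mem_centralizer_iff]
    intro y hy
    exact hc y hy x hx
  rcases burnside_simple T hle with h3 | h3
  · rw [card_sylow2 h T, h] at h3; omega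
  · rw [card_sylow2 h T] at h3; omega

theorem orderOf_ne_eight (h : Nat.card G = 168) (g : G) : orderOf g ≠ 8 := by
  haveI : Fact (Nat.Prime 2) := ⟨by norm_num⟩
  intro hg
  have hcard : Nat.card (Subgroup.zpowers g) = 8 := by rw [Nat.card_zpowers, hg]
  have hp : IsPGroup 2 (Subgroup.zpowers g) := IsPGroup.of_card (n := 3) (by rw [hcard]; norm_num)
  obtain ⟨T, hT⟩ := hp.exists_le_sylow
  have hTeq : Subgroup.zpowers g = (T : Subgroup G) :=
    Subgroup.eq_of_le_of_card_ge hT (by rw [hcard]; exact (card_sylow2 h T).le)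
  apply sylow2_not_comm h T
  intro a ha b hb
  rw [← hTeq] at ha hb
  obtain ⟨i, rfl⟩ := Subgroup.mem_zpowers_iff.mp ha
  obtain ⟨j, rfl⟩ := Subgroup.mem_zpowers_iff.mp hb
  exact (Commute.zpow_zpow_self g i j).eq

theorem orderOf_mem (h : Nat.card G = 168) (g : G) :
    orderOf g = 1 ∨ orderOf g = 2 ∨ orderOf g = 3 ∨ orderOf g = 4 ∨ orderOf g = 7 := by
  rcases orderOf_cases h g with h8 | h3 | h7
  · have hne := orderOf_ne_eight h g
    have hle : orderOf g ≤ 8 := Nat.le_of_dvd (by norm_num) h8
    have hpos := orderOf_pos g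
    generalize orderOf g = n at *
    interval_cases n <;> omega
  · exact Or.inr (Or.inr (Or.inl h3))
  · exact Or.inr (Or.inr (Or.inr (Or.inr h7)))


theorem center_eq_bot (h : Nat.card G = 168) : Subgroup.center G = ⊥ := by
  obtain ⟨T⟩ : Nonempty (Sylow 2 G) := inferInstance
  rcases (inferInstance : (Subgroup.center G).Normal).eq_bot_or_eq_top with e | e
  · exact e
  · exfalso
    apply sylow2_not_comm h T
    intro a _ b _
    have hb : b ∈ Subgroup.center G := by rw [e]; trivial
    exact (Subgroup.mem_center_iff.mp hb a)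

theorem exists_equiv_dihedral (h : Nat.card G = 168) (T : Sylow 2 G) :
    Nonempty (↥(T : Subgroup G) ≃* DihedralGroup 4) := by
  classical
  haveI : Fact (Nat.Prime 2) := ⟨by norm_num⟩
  have hcard : Nat.card ↥(T : Subgroup G) = 2 ^ 3 := by
    rw [show Nat.card (T : Subgroup G) = 8 from card_sylow2 h T]; norm_num
  have hna : ∃ u v : ↥(T : Subgroup G), u * v ≠ v * u := by
    by_contra hno
    push Not at hno
    apply sylow2_not_comm h T
    intro a ha b hb
    exact congrArg Subtype.val (hno ⟨a, ha⟩ ⟨b, hb⟩)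
  -- an element of order 4
  obtain ⟨g, hg⟩ : ∃ g : ↥(T : Subgroup G), g * g ≠ 1 := by
    by_contra hno
    push Not at hno
    obtain ⟨u, v, huv⟩ := hna
    apply huv
    have h1 := hno (u * v)
    have hu := hno u
    have hv := hno v
    symm
    calc v * u = (u * u) * (v * u) * (v * v) := by rw [hu, hv, one_mul, mul_one]
      _ = u * (u * v * (u * v)) * v := by group
      _ = u * v := by rw [h1, mul_one]
  have hgo : orderOf g = 4 := by
    have h1 : orderOf (g : G) = orderOf g := Subgroup.orderOf_coe g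
    have h2 := orderOf_dvd_eight_of_mem h T g.2
    have h3 : orderOf (g : G) ≠ 1 := by
      intro h1'
      rw [orderOf_eq_one_iff] at h1'
      apply hg
      apply Subtype.ext
      show (g : G) * (g : G) = 1
      rw [h1', one_mul]
    have h4 : orderOf (g : G) ≠ 2 := by
      intro h2'
      apply hg
      apply Subtype.ext
      show (g : G) * (g : G) = 1
      have hpow := pow_orderOf_eq_one (g : G)
      rw [h2', pow_two] at hpow
      exact hpow
    rw [← h1]
    rcases orderOf_mem h (g : G) with h5 | h5 | h5 | h5 | h5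
    · exact absurd h5 h3
    · exact absurd h5 h4
    · rw [h5] at h2; omega
    · exact h5
    · rw [h5] at h2; omega
  have hidx : (Subgroup.zpowers g).index = 2 := by
    have h1 := Subgroup.card_mul_index (Subgroup.zpowers g)
    rw [Nat.card_zpowers, hgo, hcard] at h1
    omega
  obtain ⟨a, b, hord, hb, hcases⟩ :=
    Cfsg.Agent.Lib.Helper1.two_group_cyclic_index_two_nonabelian 3 le_rfl hcard
      (Subgroup.zpowers g) inferInstance hidx hna
  have hord4 : orderOf a = 4 := by rw [hord]; norm_num
  rcases hcases with ⟨hb2, hba⟩ | ⟨hb2, hba⟩ | ⟨h4n, -, -⟩ | ⟨h4n, -, -⟩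
  · exact Cfsg.Agent.Lib.Helper1.nonempty_mulEquiv_dihedralGroup 4 a b hord4 hb
      (by rw [← pow_two]; exact hb2) hba (by rw [hcard]; norm_num)
  · exfalso
    have hb2' : b * b = a ^ 2 := by
      rw [← pow_two, hb2]; norm_num
    obtain ⟨e⟩ := Cfsg.Agent.Lib.Lead.QuatRecog.nonempty_mulEquiv_quaternionGroup 2 a b
      (by rw [hord4]) hb hb2' hba (by rw [hcard]; norm_num)
    have hO : ∀ N : Subgroup G, N.Normal → Odd (Nat.card N) → N = ⊥ := by
      intro N hN hodd
      rcases hN.eq_bot_or_eq_top with e1 | e1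
      · exact e1
      · exfalso
        rw [e1, Subgroup.card_top, h] at hodd
        revert hodd; decide
    have hbs := Cfsg.Agent.Lib.Helper2.ZS.brauer_suzuki T 0 e hO
    rw [center_eq_bot h, Subgroup.card_bot] at hbs
    omega
  · omega
  · omega

theorem exists_dihData (h : Nat.card G = 168) (T : Sylow 2 G) :
    Nonempty (Cfsg.Agent.S3864.DihData (T : Subgroup G) 4 2) := by
  obtain ⟨e⟩ := exists_equiv_dihedral h T
  refine ⟨{ e := (T : Subgroup G).subtype.comp e.symm.toMonoidHom
            inj := ?_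
            mem_iff := ?_
            hmk := by norm_num
            hk2 := dvd_refl 2
            hk0 := by norm_num }⟩
  · intro a b hab
    have h1 : (e.symm a : G) = (e.symm b : G) := hab
    exact e.symm.injective (Subtype.ext h1)
  · intro g
    constructor
    · intro hg
      exact ⟨e ⟨g, hg⟩, by simp⟩
    · rintro ⟨d, rfl⟩
      exact (e.symm d).2

theorem card_centralizer_dvd_eight (h : Nat.card G = 168) {t : G} (ht1 : t ≠ 1)
    (ht : orderOf t ∣ 8) : Nat.card (Subgroup.centralizer ({t} : Set G)) ∣ 8 := by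
  haveI : Fact (Nat.Prime 3) := ⟨by norm_num⟩
  haveI : Fact (Nat.Prime 7) := ⟨by norm_num⟩
  set C := Subgroup.centralizer ({t} : Set G) with hC
  have hd : Nat.card C ∣ 8 * 21 := by
    have := Subgroup.card_subgroup_dvd_card C
    rwa [h] at this
  have key : ∀ p : ℕ, p.Prime → (p = 3 ∨ p = 7) → ¬ p ∣ Nat.card C := by
    intro p hp hp37 hdvd
    haveI : Fact p.Prime := ⟨hp⟩
    obtain ⟨x, hx⟩ := exists_prime_orderOf_dvd_card' (G := C) p hdvd
    have hxG : orderOf (x : G) = p := by rw [Subgroup.orderOf_coe]; exact hx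
    apply ht1
    apply eq_one_of_commute h ht (x := (x : G))
    · rcases hp37 with rfl | rfl
      · exact Or.inl hxG
      · exact Or.inr hxG
    · have hx2 : (x : G) ∈ Subgroup.centralizer ({t} : Set G) := x.2
      rw [Subgroup.mem_centralizer_iff] at hx2
      exact (hx2 t (Set.mem_singleton t)).symm
  have hc3 : Nat.Coprime (Nat.card C) 3 :=
    ((Nat.Prime.coprime_iff_not_dvd (by norm_num)).mpr (key 3 (by norm_num) (Or.inl rfl))).symm
  have hc7 : Nat.Coprime (Nat.card C) 7 :=
    ((Nat.Prime.coprime_iff_not_dvd (by norm_num)).mpr (key 7 (by norm_num) (Or.inr rfl))).symm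
  have hc : Nat.Coprime (Nat.card C) 21 := by
    have := Nat.Coprime.mul_right hc3 hc7
    norm_num at this
    exact this
  exact hc.dvd_of_dvd_mul_right hd

theorem isConj_invol (h : Nat.card G = 168) {a b : G} (ha : orderOf a = 2) (hb : orderOf b = 2) :
    IsConj a b := by
  obtain ⟨T⟩ : Nonempty (Sylow 2 G) := inferInstance
  obtain ⟨D⟩ := exists_dihData h T
  have hno : ∀ H : Subgroup G, H.index ≠ 2 :=
    fun H => Cfsg.Agent.Lib.Lead.SmallSimple.no_index_two (by rw [h]; norm_num) H
  obtain ⟨h1, h2⟩ := Cfsg.Agent.Lib.Helper2.DihedralFusion.dih_conj_of_noIdx2 T D hno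
  exact Cfsg.Agent.Lib.Helper2.DihedralFusion.dih_allConj_of_conj T D h1 h2 a b ha hb

theorem centralizer_central (h : Nat.card G = 168) (T : Sylow 2 G) {z : G}
    (hzT : z ∈ (T : Subgroup G)) (hz1 : z ≠ 1) (hzc : ∀ t ∈ (T : Subgroup G), t * z = z * t) :
    Subgroup.centralizer ({z} : Set G) = T := by
  symm
  apply Subgroup.eq_of_le_of_card_ge
  · intro t ht
    rw [Subgroup.mem_centralizer_iff]
    intro y hy
    rw [Set.mem_singleton_iff] at hy
    rw [hy]
    exact (hzc t ht).symm
  · rw [show Nat.card (T : Subgroup G) = 8 from card_sylow2 h T]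
    exact Nat.le_of_dvd (by norm_num)
      (card_centralizer_dvd_eight h hz1 (orderOf_dvd_eight_of_mem h T hzT))

end Cfsg.Agent.Lib.Helper2.S168
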