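import Mathlib
import Cfsg.Agent.Lib.Helper2.S168B

set_option autoImplicit false

/-!
# Simple groups of order 168 are all isomorphic

Every simple group of order 168 is isomorphic to one fixed permutation group on the eight
points `Option (ZMod 7)`, generated by `x ↦ x + 1`, `x ↦ 2 x` and an involution `permC`.
-/

namespace Cfsg.Agent.Lib.Helper2.S168

/-! ## The model -/

abbrev X7 : Type := Option (ZMod 7)

def permA : Equiv.Perm X7 where
  toFun := Option.map (fun i => i + 1)
  invFun := Option.map (fun i => i - 1)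
  left_inv := by
    intro x
    cases x with
    | none => rfl
    | some i => simp
  right_inv := by
    intro x
    cases x with
    | none => rfl
    | some i => simp

theorem four_mul_two7 : (4 : ZMod 7) * 2 = 1 := by decide
theorem two_mul_four7 : (2 : ZMod 7) * 4 = 1 := by decide

def permB : Equiv.Perm X7 where
  toFun := Option.map (fun i => 2 * i)
  invFun := Option.map (fun i => 4 * i)
  left_inv := by
    intro x
    cases x with
    | none => rfl
    | some i =>
      show some (4 * (2 * i)) = some i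
      rw [← mul_assoc, four_mul_two7, one_mul]
  right_inv := by
    intro x
    cases x with
    | none => rfl
    | some i =>
      show some (2 * (4 * i)) = some i
      rw [← mul_assoc, two_mul_four7, one_mul]

def funC : X7 → X7
  | none => some 0
  | some i => if i = 0 then none else if i = 1 then some 6 else if i = 2 then some 3
      else if i = 3 then some 2 else if i = 4 then some 5 else if i = 5 then some 4 else some 1

def permC : Equiv.Perm X7 where
  toFun := funC
  invFun := funC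
  left_inv := by intro x; revert x; decide
  right_inv := by intro x; revert x; decide

theorem key7 : ∀ i : ZMod 7, i = 0 ∨ i = 1 ∨ i = 2 ∨ i = 3 ∨ i = 4 ∨ i = 5 ∨ i = 6 := by decide

theorem key7' : ∀ i : ZMod 7, i ≠ 0 → i = 1 ∨ i = 2 ∨ i = 3 ∨ i = 4 ∨ i = 5 ∨ i = 6 := by decide

theorem permB_some (i : ZMod 7) : permB (some i) = some (2 * i) := rfl
theorem permB_symm_some (i : ZMod 7) : permB.symm (some i) = some (4 * i) := rfl

/-- The pure combinatorial step: an involution `τ` of the eight points swapping `∞` and `0`,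
inverting `x ↦ 2x` and without fixed points agrees with `permC` up to a power of `x ↦ 2x`. -/
theorem tau_normal (τ : X7 → X7) (hN : τ none = some 0) (hinv : ∀ x, τ (τ x) = x)
    (hB : ∀ x, τ (permB x) = permB.symm (τ x)) (hfix : ∀ x, τ x ≠ x) :
    (∀ x, τ x = permC x) ∨ (∀ x, τ (permB x) = permC x) ∨ (∀ x, τ (permB (permB x)) = permC x) := by
  have h0 : τ (some 0) = none := by rw [← hN, hinv]
  have hinj : Function.Injective τ := fun x y h => by rw [← hinv x, ← hinv y, h]
  obtain ⟨c, hc⟩ : ∃ c, τ (some 1) = some c := by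
    cases hτ : τ (some 1) with
    | none =>
      exfalso
      have h1 := hinj (hτ.trans h0.symm)
      revert h1; decide
    | some c => exact ⟨c, rfl⟩
  have hc0 : c ≠ 0 := by
    rintro rfl
    have h1 := hinj (hc.trans hN.symm)
    revert h1; decide
  have hA2 : τ (some 2) = some (4 * c) := by
    have h1 := hB (some 1)
    rw [hc, permB_some, permB_symm_some] at h1
    have e : (2 : ZMod 7) * 1 = 2 := by decide
    rw [e] at h1
    exact h1
  have hA4 : τ (some 4) = some (4 * (4 * c)) := by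
    have h1 := hB (some 2)
    rw [hA2, permB_some, permB_symm_some] at h1
    have e : (2 : ZMod 7) * 2 = 4 := by decide
    rw [e] at h1
    exact h1
  have hB1 : τ (some c) = some 1 := by rw [← hc, hinv]
  have hB2 : τ (some (4 * c)) = some 2 := by rw [← hA2, hinv]
  have hB4 : τ (some (4 * (4 * c))) = some 4 := by rw [← hA4, hinv]
  rcases key7' c hc0 with rfl | rfl | rfl | rfl | rfl | rfl
  · exact absurd hc (hfix _)
  · exfalso
    have e : (4 : ZMod 7) * (4 * 2) = 4 := by decide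
    rw [e] at hA4
    exact hfix _ hA4
  · -- c = 3, k = 2
    right; right
    have e1 : (4 : ZMod 7) * 3 = 5 := by decide
    have e2 : (4 : ZMod 7) * 5 = 6 := by decide
    rw [e1] at hA2 hA4 hB2 hB4
    rw [e2] at hA4 hB4
    intro x
    rcases x with _ | i
    · show τ none = permC none
      rw [hN]; rfl
    · rcases key7 i with rfl | rfl | rfl | rfl | rfl | rfl | rfl
      · rw [show permB (permB (some (0 : ZMod 7))) = some 0 from by decide, h0]; rfl
      · rw [show permB (permB (some (1 : ZMod 7))) = some 4 from by decide, hA4]; rfl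
      · rw [show permB (permB (some (2 : ZMod 7))) = some 1 from by decide, hc]; rfl
      · rw [show permB (permB (some (3 : ZMod 7))) = some 5 from by decide, hB2]; rfl
      · rw [show permB (permB (some (4 : ZMod 7))) = some 2 from by decide, hA2]; rfl
      · rw [show permB (permB (some (5 : ZMod 7))) = some 6 from by decide, hB4]; rfl
      · rw [show permB (permB (some (6 : ZMod 7))) = some 3 from by decide, hB1]; rfl
  · exfalso
    have e : (4 : ZMod 7) * 4 = 2 := by decide
    rw [e] at hA2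
    exact hfix _ hA2
  · -- c = 5, k = 1
    right; left
    have e1 : (4 : ZMod 7) * 5 = 6 := by decide
    have e2 : (4 : ZMod 7) * 6 = 3 := by decide
    rw [e1] at hA2 hA4 hB2 hB4
    rw [e2] at hA4 hB4
    intro x
    rcases x with _ | i
    · show τ none = permC none
      rw [hN]; rfl
    · rcases key7 i with rfl | rfl | rfl | rfl | rfl | rfl | rfl
      · rw [show permB (some (0 : ZMod 7)) = some 0 from by decide, h0]; rfl
      · rw [show permB (some (1 : ZMod 7)) = some 2 from by decide, hA2]; rfl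
      · rw [show permB (some (2 : ZMod 7)) = some 4 from by decide, hA4]; rfl
      · rw [show permB (some (3 : ZMod 7)) = some 6 from by decide, hB2]; rfl
      · rw [show permB (some (4 : ZMod 7)) = some 1 from by decide, hc]; rfl
      · rw [show permB (some (5 : ZMod 7)) = some 3 from by decide, hB4]; rfl
      · rw [show permB (some (6 : ZMod 7)) = some 5 from by decide, hB1]; rfl
  · -- c = 6, k = 0
    left
    have e1 : (4 : ZMod 7) * 6 = 3 := by decide
    have e2 : (4 : ZMod 7) * 3 = 5 := by decide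
    rw [e1] at hA2 hA4 hB2 hB4
    rw [e2] at hA4 hB4
    intro x
    rcases x with _ | i
    · rw [hN]; rfl
    · rcases key7 i with rfl | rfl | rfl | rfl | rfl | rfl | rfl
      · rw [h0]; rfl
      · rw [hc]; rfl
      · rw [hA2]; rfl
      · rw [hB2]; rfl
      · rw [hA4]; rfl
      · rw [hB4]; rfl
      · rw [hB1]; rfl


/-! ## The group-theoretic part -/

section grp

variable {G : Type*} [Group G] [Finite G] [IsSimpleGroup G]

theorem fact7 : Fact (Nat.Prime 7) := ⟨by norm_num⟩
attribute [local instance] fact7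

theorem mem_sylow_of_smul_eq {g : G} {Q : Sylow 7 G} (hg : g ^ 7 = 1) (hQ : g • Q = Q) :
    g ∈ (Q : Subgroup G) := by
  have hp : IsPGroup 7 (Subgroup.zpowers g) := by
    rintro ⟨x, hx⟩
    obtain ⟨k, rfl⟩ := Subgroup.mem_zpowers_iff.mp hx
    refine ⟨1, ?_⟩
    apply Subtype.ext
    rw [Subgroup.coe_pow, Subgroup.coe_one, pow_one]
    show (g ^ k) ^ 7 = 1
    rw [← zpow_natCast, ← zpow_mul, mul_comm, zpow_mul, zpow_natCast, hg, one_zpow]
  have hle : Subgroup.zpowers g ≤ MulAction.stabilizer G Q := by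
    rw [Subgroup.zpowers_le]; exact hQ
  have hfix : Q ∈ MulAction.fixedPoints (Subgroup.zpowers g) (Sylow 7 G) := by
    rintro ⟨x, hx⟩
    exact hle hx
  exact (hp.sylow_mem_fixedPoints_iff.mp hfix) (Subgroup.mem_zpowers g)

/-- The labelling of the eight Sylow 7-subgroups. -/
def pt (P P₀ : Sylow 7 G) (u : G) : X7 → Sylow 7 G
  | none => P
  | some i => u ^ i.val • P₀

structure Setup168 (P P₀ : Sylow 7 G) (u : G) : Prop where
  card : Nat.card G = 168
  ne : P ≠ P₀
  hu : orderOf u = 7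
  hP : (P : Subgroup G) = Subgroup.zpowers u

namespace Setup168

variable {P P₀ : Sylow 7 G} {u : G}

theorem pow7 (S : Setup168 P P₀ u) : u ^ 7 = 1 := by
  have := pow_orderOf_eq_one u
  rwa [S.hu] at this

theorem u_mem (S : Setup168 P P₀ u) : u ∈ (P : Subgroup G) := by
  rw [S.hP]; exact Subgroup.mem_zpowers u

theorem pow_smul_P (S : Setup168 P P₀ u) (n : ℕ) : u ^ n • P = P := by
  rw [Sylow.smul_eq_iff_mem_normalizer]
  exact Subgroup.le_normalizer (Subgroup.pow_mem _ S.u_mem n)

theorem pow_eq_of_mod (S : Setup168 P P₀ u) (n : ℕ) : u ^ (n % 7) = u ^ n := by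
  have := pow_mod_orderOf u n
  rwa [S.hu] at this

theorem dvd_of_pow_smul_eq (S : Setup168 P P₀ u) {n : ℕ} (hn : u ^ n • P₀ = P₀) : 7 ∣ n := by
  by_contra h7
  have h1 : (u ^ n) ^ 7 = 1 := by rw [← pow_mul, mul_comm, pow_mul, S.pow7, one_pow]
  have hmem : u ^ n ∈ (P₀ : Subgroup G) := mem_sylow_of_smul_eq h1 hn
  have hcop : Nat.Coprime n 7 := ((Nat.Prime.coprime_iff_not_dvd (by norm_num)).mpr h7).symm
  obtain ⟨m, -, hm⟩ := Nat.exists_mul_mod_eq_one_of_coprime hcop (by norm_num)
  have hu' : u ∈ (P₀ : Subgroup G) := by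
    have h2 : (u ^ n) ^ m = u := by
      rw [← pow_mul, ← S.pow_eq_of_mod, hm, pow_one]
    rw [← h2]; exact Subgroup.pow_mem _ hmem m
  have hle : (P : Subgroup G) ≤ P₀ := by rw [S.hP, Subgroup.zpowers_le]; exact hu'
  have h3 : (P : Subgroup G) = P₀ :=
    Subgroup.eq_of_le_of_card_ge hle (by rw [card_sylow7 S.card P, card_sylow7 S.card P₀])
  exact S.ne (Sylow.ext h3)

theorem pt_natCast (S : Setup168 P P₀ u) (n : ℕ) :
    pt P P₀ u (some (n : ZMod 7)) = u ^ n • P₀ := by
  show u ^ ((n : ZMod 7)).val • P₀ = u ^ n • P₀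
  rw [ZMod.val_natCast, S.pow_eq_of_mod]

theorem pt_injective (S : Setup168 P P₀ u) : Function.Injective (pt P P₀ u) := by
  intro x y hxy
  cases x with
  | none =>
    cases y with
    | none => rfl
    | some j =>
      exfalso
      have h1 : P = u ^ j.val • P₀ := hxy
      exact S.ne ((inv_smul_eq_iff.mpr (S.pow_smul_P j.val).symm).symm.trans
        (inv_smul_eq_iff.mpr h1))
  | some i =>
    cases y with
    | none =>
      exfalso
      have h1 : u ^ i.val • P₀ = P := hxy
      exact S.ne ((inv_smul_eq_iff.mpr (S.pow_smul_P i.val).symm).symm.trans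
        (inv_smul_eq_iff.mpr h1.symm))
    | some j =>
      have h1 : u ^ i.val • P₀ = u ^ j.val • P₀ := hxy
      have hj := ZMod.val_lt j
      have hi := ZMod.val_lt i
      have h3 : u ^ (i.val + (7 - j.val)) • P₀ = P₀ := by
        rw [add_comm, pow_add, mul_smul, h1, ← mul_smul, ← pow_add]
        have e : 7 - j.val + j.val = 7 := by omega
        rw [e, S.pow7, one_smul]
      have h4 := S.dvd_of_pow_smul_eq h3
      have h5 : i.val = j.val := by omega
      exact congrArg some (ZMod.val_injective 7 h5)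

theorem pt_bijective (S : Setup168 P P₀ u) : Function.Bijective (pt P P₀ u) := by
  rw [Nat.bijective_iff_injective_and_card]
  refine ⟨S.pt_injective, ?_⟩
  rw [card_sylow7_eq S.card, Nat.card_eq_fintype_card, Fintype.card_option, ZMod.card]

theorem exists_pt (S : Setup168 P P₀ u) (Q : Sylow 7 G) (hQ : Q ≠ P) :
    ∃ j : ZMod 7, Q = u ^ j.val • P₀ := by
  obtain ⟨x, hx⟩ := S.pt_bijective.2 Q
  cases x with
  | none => exact absurd hx.symm hQ
  | some j => exact ⟨j, hx.symm⟩

theorem exists_d1 (S : Setup168 P P₀ u) : ∃ d : G, orderOf d = 3 ∧ d • P = P ∧ d • P₀ = P₀ := by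
  haveI : Fact (Nat.Prime 3) := ⟨by norm_num⟩
  have hN := card_normalizer7 S.card P
  have h3 : 3 ∣ Nat.card (Subgroup.normalizer ((P : Subgroup G) : Set G)) := by rw [hN]; norm_num
  obtain ⟨x, hx⟩ := exists_prime_orderOf_dvd_card' 3 h3
  obtain ⟨d₀, hd₀N⟩ := x
  have hd₀ : orderOf d₀ = 3 := by rw [← hx, Subgroup.orderOf_mk]
  have hd₀P : d₀ • P = P := Sylow.smul_eq_iff_mem_normalizer.mpr hd₀N
  have hne : d₀ • P₀ ≠ P := by
    intro h
    apply S.ne
    have : d₀ • P₀ = d₀ • P := by rw [h, hd₀P]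
    exact (MulAction.injective d₀ this).symm
  obtain ⟨j, hj⟩ := S.exists_pt _ hne
  have hd₁P : ((u ^ j.val)⁻¹ * d₀) • P = P := by
    rw [mul_smul, hd₀P, inv_smul_eq_iff, S.pow_smul_P]
  have hd₁P₀ : ((u ^ j.val)⁻¹ * d₀) • P₀ = P₀ := by
    rw [mul_smul, hj, inv_smul_smul]
  obtain ⟨d₁, hd₁⟩ : ∃ d₁, d₁ = (u ^ j.val)⁻¹ * d₀ := ⟨_, rfl⟩
  rw [← hd₁] at hd₁P hd₁P₀
  refine ⟨d₁, ?_, hd₁P, hd₁P₀⟩
  have hd₁N : d₁ ∈ Subgroup.normalizer ((P : Subgroup G) : Set G) :=
    Sylow.smul_eq_iff_mem_normalizer.mp hd₁P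
  have hdvd : orderOf d₁ ∣ 21 := by
    rw [← hN]; exact Subgroup.orderOf_dvd_natCard _ hd₁N
  rcases orderOf_mem S.card d₁ with h | h | h | h | h
  · exfalso
    rw [orderOf_eq_one_iff] at h
    have h4 : d₀ = u ^ j.val := by
      have h5 : d₀ = u ^ j.val * d₁ := by rw [hd₁]; group
      rw [h5, h, mul_one]
    have h6 : d₀ ^ 7 = 1 := by rw [h4, ← pow_mul, mul_comm, pow_mul, S.pow7, one_pow]
    have h7 := orderOf_dvd_of_pow_eq_one h6
    rw [hd₀] at h7
    norm_num at h7
  · exfalso; rw [h] at hdvd; norm_num at hdvd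
  · exact h
  · exfalso; rw [h] at hdvd; norm_num at hdvd
  · exfalso
    have h7 : d₁ ^ 7 = 1 := by rw [← h]; exact pow_orderOf_eq_one d₁
    have hmem := mem_sylow_of_smul_eq h7 hd₁P
    rw [S.hP] at hmem
    obtain ⟨m, hm⟩ := (Submonoid.mem_powers_iff _ _).mp (mem_powers_iff_mem_zpowers.mpr hmem)
    rw [← hm] at hd₁P₀
    have h8 := S.dvd_of_pow_smul_eq hd₁P₀
    obtain ⟨q, rfl⟩ := h8
    have h9 : d₁ = 1 := by rw [← hm, pow_mul, S.pow7, one_pow]
    rw [h9, orderOf_one] at h
    norm_num at h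

theorem conj_cases (S : Setup168 P P₀ u) {f : G} (hf : orderOf f = 3) (hfP : f • P = P) :
    f * u * f⁻¹ = u ^ 2 ∨ f * u * f⁻¹ = u ^ 4 := by
  have hfN : f ∈ Subgroup.normalizer ((P : Subgroup G) : Set G) :=
    Sylow.smul_eq_iff_mem_normalizer.mp hfP
  have h1 : f * u * f⁻¹ ∈ (P : Subgroup G) := (Subgroup.mem_normalizer_iff.mp hfN u).mp S.u_mem
  rw [S.hP] at h1
  obtain ⟨k₀, hk₀⟩ := (Submonoid.mem_powers_iff _ _).mp (mem_powers_iff_mem_zpowers.mpr h1)
  obtain ⟨k, hk, hkk⟩ : ∃ k, k < 7 ∧ u ^ k = f * u * f⁻¹ :=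
    ⟨k₀ % 7, Nat.mod_lt _ (by norm_num), by rw [S.pow_eq_of_mod, hk₀]⟩
  have hconj : ∀ a : ℕ, f * u ^ a * f⁻¹ = u ^ (k * a) := by
    intro a
    rw [← conj_pow, ← hkk, ← pow_mul]
  have hf3 : f ^ 3 = 1 := by rw [← hf]; exact pow_orderOf_eq_one f
  have h2 : u ^ (k * (k * k)) = u ^ 1 := by
    rw [← hconj (k * k), ← hconj k, hkk, pow_one]
    have e : f * (f * (f * u * f⁻¹) * f⁻¹) * f⁻¹ = f ^ 3 * u * (f ^ 3)⁻¹ := by
      rw [pow_succ, pow_two]; group
    rw [e, hf3]; group
  rw [pow_eq_pow_iff_modEq, S.hu] at h2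
  have h3 : k * (k * k) % 7 = 1 := h2
  interval_cases k
  · norm_num at h3
  · exfalso
    rw [pow_one] at hkk
    have hc : Commute f u := by
      show f * u = u * f
      calc f * u = (f * u * f⁻¹) * f := by group
        _ = u * f := by rw [← hkk]
    have h21 : orderOf (f * u) = 21 := by
      rw [hc.orderOf_mul_eq_mul_orderOf_of_coprime (by rw [hf, S.hu]; norm_num), hf, S.hu]
    rcases orderOf_mem S.card (f * u) with h | h | h | h | h <;> omega
  · left; exact hkk.symm
  · norm_num at h3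
  · right; exact hkk.symm
  · norm_num at h3
  · norm_num at h3

theorem exists_d (S : Setup168 P P₀ u) :
    ∃ d : G, orderOf d = 3 ∧ d • P = P ∧ d • P₀ = P₀ ∧ d * u * d⁻¹ = u ^ 2 := by
  obtain ⟨d₁, h3, hP1, hP01⟩ := S.exists_d1
  rcases S.conj_cases h3 hP1 with h | h
  · exact ⟨d₁, h3, hP1, hP01, h⟩
  · refine ⟨d₁ ^ 2, ?_, ?_, ?_, ?_⟩
    · rw [Nat.Coprime.orderOf_pow (by rw [h3]; norm_num), h3]
    · rw [pow_two, mul_smul, hP1, hP1]
    · rw [pow_two, mul_smul, hP01, hP01]
    · have e : d₁ ^ 2 * u * (d₁ ^ 2)⁻¹ = d₁ * (d₁ * u * d₁⁻¹) * d₁⁻¹ := by rw [pow_two]; group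
      rw [e, h, ← conj_pow, h, ← pow_mul]
      have h16 := S.pow_eq_of_mod 16
      norm_num at h16 ⊢
      exact h16.symm

theorem mem_zpowers_of_fix (S : Setup168 P P₀ u) {d : G} (hd3 : orderOf d = 3) (hdP : d • P = P)
    (hdP₀ : d • P₀ = P₀) {f : G} (hfP : f • P = P) (hfP₀ : f • P₀ = P₀) :
    f ∈ Subgroup.zpowers d := by
  obtain ⟨F, hF⟩ : ∃ F : Subgroup G, F = MulAction.stabilizer G P ⊓ MulAction.stabilizer G P₀ :=
    ⟨_, rfl⟩
  have hFmem : ∀ g, g ∈ F ↔ g • P = P ∧ g • P₀ = P₀ := by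
    intro g; rw [hF]; exact Iff.rfl
  have hmemN : ∀ p : F × ZMod 7,
      u ^ p.2.val * p.1.1 ∈ Subgroup.normalizer ((P : Subgroup G) : Set G) := by
    intro p
    apply Sylow.smul_eq_iff_mem_normalizer.mp
    rw [mul_smul, ((hFmem _).mp p.1.2).1, S.pow_smul_P]
  have hinj : Function.Injective (fun p : F × ZMod 7 =>
      (⟨u ^ p.2.val * p.1.1, hmemN p⟩ : Subgroup.normalizer ((P : Subgroup G) : Set G))) := by
    intro p q hpq
    have h1 : u ^ p.2.val * p.1.1 = u ^ q.2.val * q.1.1 := congrArg Subtype.val hpq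
    have h2 : pt P P₀ u (some p.2) = pt P P₀ u (some q.2) := by
      show u ^ p.2.val • P₀ = u ^ q.2.val • P₀
      have hp := ((hFmem _).mp p.1.2).2
      have hq := ((hFmem _).mp q.1.2).2
      calc u ^ p.2.val • P₀ = (u ^ p.2.val * p.1.1) • P₀ := by rw [mul_smul, hp]
        _ = (u ^ q.2.val * q.1.1) • P₀ := by rw [h1]
        _ = u ^ q.2.val • P₀ := by rw [mul_smul, hq]
    have h3 : p.2 = q.2 := Option.some.inj (S.pt_injective h2)
    rw [h3] at h1
    have h4 : p.1 = q.1 := Subtype.ext (mul_left_cancel h1)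
    exact Prod.ext h4 h3
  have hcard : Nat.card F * 7 ≤ 21 := by
    have hcardle := Nat.card_le_card_of_injective _ hinj
    have h7 : Nat.card (ZMod 7) = 7 := by rw [Nat.card_eq_fintype_card, ZMod.card]
    rw [Nat.card_prod, card_normalizer7 S.card P, h7] at hcardle
    exact hcardle
  have hle : Subgroup.zpowers d ≤ F := by
    rw [Subgroup.zpowers_le, hFmem]; exact ⟨hdP, hdP₀⟩
  have heq : Subgroup.zpowers d = F := by
    apply Subgroup.eq_of_le_of_card_ge hle
    rw [Nat.card_zpowers, hd3]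
    omega
  rw [heq, hFmem]
  exact ⟨hfP, hfP₀⟩

theorem exists_t (S : Setup168 P P₀ u) {d : G} (hd3 : orderOf d = 3) (hdP : d • P = P)
    (hdP₀ : d • P₀ = P₀) :
    ∃ t : G, orderOf t = 2 ∧ t • P = P₀ ∧ t • P₀ = P ∧ t * d * t⁻¹ = d⁻¹ := by
  obtain ⟨g₀, hg₀⟩ := MulAction.exists_smul_eq G P P₀
  have hne : g₀⁻¹ • P ≠ P := by
    intro h
    apply S.ne
    rw [inv_smul_eq_iff] at h
    rw [← hg₀]; exact h
  obtain ⟨j, hj⟩ := S.exists_pt _ hne
  obtain ⟨g, hg⟩ : ∃ g, g = g₀ * u ^ j.val := ⟨_, rfl⟩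
  have hgP₀ : g • P₀ = P := by rw [hg, mul_smul, ← hj, smul_inv_smul]
  have hgP : g • P = P₀ := by rw [hg, mul_smul, S.pow_smul_P, hg₀]
  have hgg : g * g ∈ Subgroup.zpowers d :=
    S.mem_zpowers_of_fix hd3 hdP hdP₀ (by rw [mul_smul, hgP, hgP₀]) (by rw [mul_smul, hgP₀, hgP])
  have hd3' : d ^ 3 = 1 := by rw [← hd3]; exact pow_orderOf_eq_one d
  have hz3 : ∀ x ∈ Subgroup.zpowers d, x ^ 3 = 1 := by
    intro x hx
    obtain ⟨k, rfl⟩ := Subgroup.mem_zpowers_iff.mp hx
    rw [← zpow_natCast, ← zpow_mul, mul_comm, zpow_mul, zpow_natCast, hd3', one_zpow]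
  have hzfix : ∀ x ∈ Subgroup.zpowers d, x • P = P := by
    intro x hx
    have hle : Subgroup.zpowers d ≤ MulAction.stabilizer G P := by
      rw [Subgroup.zpowers_le]; exact hdP
    exact hle hx
  have hg6 : g ^ 6 = 1 := by
    have h1 := hz3 _ hgg
    rw [← pow_two, ← pow_mul] at h1
    exact h1
  have hdvd : orderOf g ∣ 6 := orderOf_dvd_of_pow_eq_one hg6
  have hg2 : orderOf g = 2 := by
    rcases orderOf_mem S.card g with h | h | h | h | h
    · exfalso
      rw [orderOf_eq_one_iff] at h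
      rw [h, one_smul] at hgP
      exact S.ne hgP
    · exact h
    · exfalso
      have hg3 : g ^ 3 = 1 := by rw [← h]; exact pow_orderOf_eq_one g
      have h1 : g = (g * g)⁻¹ := by
        apply eq_inv_of_mul_eq_one_left
        rw [← pow_two, ← pow_succ']; exact hg3
      have h2 : g ∈ Subgroup.zpowers d := by rw [h1]; exact Subgroup.inv_mem _ hgg
      have h3 := hzfix g h2
      rw [hgP] at h3
      exact S.ne h3.symm
    · exfalso; rw [h] at hdvd; norm_num at hdvd
    · exfalso; rw [h] at hdvd; norm_num at hdvd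
  have hg2' : g * g = 1 := by rw [← pow_two, ← hg2]; exact pow_orderOf_eq_one g
  have hgi : g⁻¹ = g := inv_eq_of_mul_eq_one_left hg2'
  have he : g * d * g⁻¹ ∈ Subgroup.zpowers d := by
    apply S.mem_zpowers_of_fix hd3 hdP hdP₀
    · rw [hgi, mul_smul, mul_smul, hgP, hdP₀, hgP₀]
    · rw [hgi, mul_smul, mul_smul, hgP₀, hdP, hgP]
  obtain ⟨k₀, hk₀⟩ := (Submonoid.mem_powers_iff _ _).mp (mem_powers_iff_mem_zpowers.mpr he)
  have hmod3 : d ^ (k₀ % 3) = d ^ k₀ := by
    have := pow_mod_orderOf d k₀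
    rwa [hd3] at this
  rw [← hmod3] at hk₀
  have hlt : k₀ % 3 < 3 := Nat.mod_lt _ (by norm_num)
  refine ⟨g, hg2, hgP, hgP₀, ?_⟩
  generalize k₀ % 3 = k at hk₀ hlt
  interval_cases k
  · exfalso
    rw [pow_zero] at hk₀
    have h1 : d = 1 := by
      have h5 : d = g⁻¹ * (g * d * g⁻¹) * g := by group
      rw [h5, ← hk₀]; group
    rw [h1, orderOf_one] at hd3; norm_num at hd3
  · exfalso
    rw [pow_one] at hk₀
    have hc : Commute g d := by
      show g * d = d * g
      calc g * d = (g * d * g⁻¹) * g := by group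
        _ = d * g := by rw [← hk₀]
    have h6 : orderOf (g * d) = 6 := by
      rw [hc.orderOf_mul_eq_mul_orderOf_of_coprime (by rw [hg2, hd3]; norm_num), hg2, hd3]
    rcases orderOf_mem S.card (g * d) with h | h | h | h | h <;> omega
  · rw [← hk₀]
    apply eq_inv_of_mul_eq_one_left
    rw [← pow_succ]; exact hd3'

end Setup168

theorem exists_model_hom (h : Nat.card G = 168) :
    ∃ (ψ : G →* Equiv.Perm X7) (u d t : G), Function.Injective ψ ∧ ψ u = permA ∧ ψ d = permB ∧
      ψ t = permC ∧ Subgroup.closure ({u, d, t} : Set G) = ⊤ := by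
  obtain ⟨P⟩ : Nonempty (Sylow 7 G) := inferInstance
  have h8 := card_sylow7_eq h
  haveI : Nontrivial (Sylow 7 G) := Finite.one_lt_card_iff_nontrivial.mp (by rw [h8]; norm_num)
  obtain ⟨P₀, hP₀⟩ := exists_ne P
  have hcP := card_sylow7 h P
  obtain ⟨x, hx⟩ := exists_prime_orderOf_dvd_card' (G := (P : Subgroup G)) 7 (by rw [hcP])
  obtain ⟨u, huP⟩ := x
  have hu : orderOf u = 7 := by rw [← hx, Subgroup.orderOf_mk]
  have hPz : (P : Subgroup G) = Subgroup.zpowers u := by
    symm
    apply Subgroup.eq_of_le_of_card_ge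
    · rw [Subgroup.zpowers_le]; exact huP
    · rw [hcP, Nat.card_zpowers, hu]
  have S : Setup168 P P₀ u := ⟨h, hP₀.symm, hu, hPz⟩
  obtain ⟨d, hd3, hdP, hdP₀, hdu⟩ := S.exists_d
  obtain ⟨t, ht2, htP, htP₀, htd⟩ := S.exists_t hd3 hdP hdP₀
  obtain ⟨e, he⟩ : ∃ e : X7 ≃ Sylow 7 G, ∀ x, e x = pt P P₀ u x :=
    ⟨Equiv.ofBijective _ S.pt_bijective, fun x => rfl⟩
  have hAu : ∀ x, u • e x = e (permA x) := by
    intro x
    rw [he, he]
    cases x with
    | none =>
      show u • P = P
      have h1 := S.pow_smul_P 1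
      rwa [pow_one] at h1
    | some i =>
      show u • (u ^ i.val • P₀) = pt P P₀ u (some (i + 1))
      have h1 : (((i.val + 1 : ℕ)) : ZMod 7) = i + 1 := by
        rw [Nat.cast_add, ZMod.natCast_zmod_val, Nat.cast_one]
      rw [← h1, S.pt_natCast, pow_succ', mul_smul]
  have hAd : ∀ x, d • e x = e (permB x) := by
    intro x
    rw [he, he]
    cases x with
    | none => exact hdP
    | some i =>
      show d • (u ^ i.val • P₀) = pt P P₀ u (some (2 * i))
      have h1 : (((2 * i.val : ℕ)) : ZMod 7) = 2 * i := by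
        rw [Nat.cast_mul, ZMod.natCast_zmod_val, Nat.cast_ofNat]
      have h2 : d * u ^ i.val = u ^ (2 * i.val) * d := by
        have h3 : d * u ^ i.val * d⁻¹ = u ^ (2 * i.val) := by
          rw [← conj_pow, hdu, ← pow_mul]
        calc d * u ^ i.val = (d * u ^ i.val * d⁻¹) * d := by group
          _ = u ^ (2 * i.val) * d := by rw [h3]
      rw [← h1, S.pt_natCast, ← mul_smul, h2, mul_smul, hdP₀]
  have hAdi : ∀ x, d⁻¹ • e x = e (permB.symm x) := by
    intro x
    rw [inv_smul_eq_iff, hAd, Equiv.apply_symm_apply]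
  obtain ⟨τ, hτ⟩ : ∃ τ : X7 → X7, ∀ x, t • e x = e (τ x) :=
    ⟨fun x => e.symm (t • e x), fun x => (e.apply_symm_apply _).symm⟩
  have ht2' : t * t = 1 := by rw [← pow_two, ← ht2]; exact pow_orderOf_eq_one t
  have hN : τ none = some 0 := by
    apply e.injective
    rw [← hτ, he, he]
    show t • P = u ^ (0 : ZMod 7).val • P₀
    rw [ZMod.val_zero, pow_zero, one_smul, htP]
  have hinv : ∀ x, τ (τ x) = x := by
    intro x
    apply e.injective
    rw [← hτ, ← hτ, ← mul_smul, ht2', one_smul]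
  have htd' : t * d = d⁻¹ * t := by
    calc t * d = (t * d * t⁻¹) * t := by group
      _ = d⁻¹ * t := by rw [htd]
  have hB : ∀ x, τ (permB x) = permB.symm (τ x) := by
    intro x
    apply e.injective
    rw [← hτ, ← hAd, ← mul_smul, htd', mul_smul, hτ, hAdi]
  have hfix : ∀ x, τ x ≠ x := by
    intro x hx
    have h1 : t • e x = e x := by rw [hτ, hx]
    have h2 : t ∈ Subgroup.normalizer (((e x : Sylow 7 G) : Subgroup G) : Set G) :=
      Sylow.smul_eq_iff_mem_normalizer.mp h1
    have h3 : orderOf t ∣ 21 := by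
      rw [← card_normalizer7 h (e x)]; exact Subgroup.orderOf_dvd_natCard _ h2
    rw [ht2] at h3; norm_num at h3
  obtain ⟨t', htt, hAt⟩ : ∃ t', t ∈ Subgroup.closure ({u, d, t'} : Set G) ∧
      ∀ x, t' • e x = e (permC x) := by
    rcases tau_normal τ hN hinv hB hfix with h0 | h1 | h2
    · refine ⟨t, Subgroup.subset_closure (by simp), ?_⟩
      intro x; rw [hτ, h0]
    · refine ⟨t * d, ?_, ?_⟩
      · have hdm : d ∈ Subgroup.closure ({u, d, t * d} : Set G) :=
          Subgroup.subset_closure (by simp)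
        have htm : t * d ∈ Subgroup.closure ({u, d, t * d} : Set G) :=
          Subgroup.subset_closure (by simp)
        have h9 := Subgroup.mul_mem _ htm (Subgroup.inv_mem _ hdm)
        rwa [mul_inv_cancel_right] at h9
      · intro x; rw [mul_smul, hAd, hτ, h1]
    · refine ⟨t * d * d, ?_, ?_⟩
      · have hdm : d ∈ Subgroup.closure ({u, d, t * d * d} : Set G) :=
          Subgroup.subset_closure (by simp)
        have htm : t * d * d ∈ Subgroup.closure ({u, d, t * d * d} : Set G) :=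
          Subgroup.subset_closure (by simp)
        have h9 := Subgroup.mul_mem _ (Subgroup.mul_mem _ htm (Subgroup.inv_mem _ hdm))
          (Subgroup.inv_mem _ hdm)
        rwa [mul_inv_cancel_right, mul_inv_cancel_right] at h9
      · intro x; rw [mul_smul, mul_smul, hAd, hAd, hτ, h2]
  obtain ⟨ψ, hψ⟩ : ∃ ψ : G →* Equiv.Perm X7, ∀ g x, ψ g x = e.symm (g • e x) :=
    ⟨(e.symm.permCongrHom.toMonoidHom).comp (MulAction.toPermHom G (Sylow 7 G)), fun g x => rfl⟩
  have hψ_eq : ∀ (g : G) (σ : Equiv.Perm X7), (∀ x, g • e x = e (σ x)) → ψ g = σ := by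
    intro g σ hg
    apply Equiv.ext
    intro x
    rw [hψ, Equiv.symm_apply_eq, hg]
  refine ⟨ψ, u, d, t', ?_, hψ_eq u _ hAu, hψ_eq d _ hAd, hψ_eq t' _ hAt, ?_⟩
  · rw [← MonoidHom.ker_eq_bot_iff]
    rcases (MonoidHom.normal_ker ψ).eq_bot_or_eq_top with h1 | h1
    · exact h1
    · exfalso
      have hu1 : u ∈ ψ.ker := by rw [h1]; exact Subgroup.mem_top u
      rw [MonoidHom.mem_ker, hψ_eq u _ hAu] at hu1
      have h5 : permA (some 0) = some 0 := by rw [hu1]; rfl
      revert h5; decide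
  · obtain ⟨H, hH⟩ : ∃ H, H = Subgroup.closure ({u, d, t'} : Set G) := ⟨_, rfl⟩
    rw [← hH]
    have huH : u ∈ H := by rw [hH]; exact Subgroup.subset_closure (by simp)
    have hdH : d ∈ H := by rw [hH]; exact Subgroup.subset_closure (by simp)
    have htH : t ∈ H := by rw [hH]; exact htt
    have h7 : 7 ∣ Nat.card H := by rw [← hu]; exact Subgroup.orderOf_dvd_natCard H huH
    have h3 : 3 ∣ Nat.card H := by rw [← hd3]; exact Subgroup.orderOf_dvd_natCard H hdH
    have h2 : 2 ∣ Nat.card H := by rw [← ht2]; exact Subgroup.orderOf_dvd_natCard H htH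
    by_contra hne
    have hle := card_le_of_ne_top h H hne
    have hpos : 0 < Nat.card H := Nat.card_pos
    omega

/-- Every simple group of order 168 is isomorphic to the model group. -/
theorem iso_model (h : Nat.card G = 168) :
    Nonempty (G ≃* Subgroup.closure ({permA, permB, permC} : Set (Equiv.Perm X7))) := by
  obtain ⟨ψ, u, d, t, hinj, hu, hd, ht, hgen⟩ := exists_model_hom h
  have hrange : ψ.range = Subgroup.closure ({permA, permB, permC} : Set (Equiv.Perm X7)) := by
    rw [MonoidHom.range_eq_map, ← hgen, MonoidHom.map_closure, Set.image_insert_eq,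
      Set.image_insert_eq, Set.image_singleton, hu, hd, ht]
  exact ⟨(MonoidHom.ofInjective hinj).trans (MulEquiv.subgroupCongr hrange)⟩

end grp

/-- Any two simple groups of order 168 are isomorphic. -/
theorem iso_of_card_168 {G₁ G₂ : Type*} [Group G₁] [Finite G₁] [IsSimpleGroup G₁]
    [Group G₂] [Finite G₂] [IsSimpleGroup G₂] (h₁ : Nat.card G₁ = 168) (h₂ : Nat.card G₂ = 168) :
    Nonempty (G₁ ≃* G₂) := by
  obtain ⟨e₁⟩ := iso_model h₁
  obtain ⟨e₂⟩ := iso_model h₂
  exact ⟨e₁.trans e₂.symm⟩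

end Cfsg.Agent.Lib.Helper2.S168
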