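import Mathlib
import Cfsg.Agent.Lib.Helper2.SylowNormal

/-!
# Generic tools for the quasi-dihedral fusion theorems

* counting conjugacy classes of elements of a given order;
* a normal subgroup of index 2 from a maximal subgroup of a Sylow 2-subgroup which is respected
  by fusion (via the focal subgroup theorem);
* Sylow subgroups of such a normal subgroup;
* conjugating a `p`-subgroup of `L` into a Sylow subgroup contained in `L` by an element of `L`.
-/

set_option autoImplicit false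

namespace Cfsg.Agent.Lib.Helper2.QDFusA

open Cfsg

section Classes

variable {G : Type*} [Group G]

theorem card_classes_eq_one (k : ℕ) (u : G) (hu : orderOf u = k)
    (hall : ∀ t : G, orderOf t = k → IsConj t u) :
    Nat.card {C : ConjClasses G // ∃ t : G, orderOf t = k ∧ ConjClasses.mk t = C} = 1 := by
  rw [Nat.card_eq_one_iff_unique]
  refine ⟨⟨?_⟩, ⟨⟨ConjClasses.mk u, u, hu, rfl⟩⟩⟩
  rintro ⟨C, t, ht, rfl⟩ ⟨C', t', ht', rfl⟩
  apply Subtype.ext
  show ConjClasses.mk t = ConjClasses.mk t'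
  rw [ConjClasses.mk_eq_mk_iff_isConj]
  exact (hall t ht).trans (hall t' ht').symm

theorem card_classes_eq_two (k : ℕ) (u v : G) (hu : orderOf u = k) (hv : orderOf v = k)
    (hne : ¬ IsConj u v) (hall : ∀ t : G, orderOf t = k → IsConj t u ∨ IsConj t v) :
    Nat.card {C : ConjClasses G // ∃ t : G, orderOf t = k ∧ ConjClasses.mk t = C} = 2 := by
  rw [Nat.card_eq_two_iff]
  refine ⟨⟨ConjClasses.mk u, u, hu, rfl⟩, ⟨ConjClasses.mk v, v, hv, rfl⟩, ?_, ?_⟩
  · intro h
    apply hne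
    have := congrArg Subtype.val h
    exact ConjClasses.mk_eq_mk_iff_isConj.mp this
  · ext ⟨C, t, ht, rfl⟩
    simp only [Set.mem_insert_iff, Set.mem_singleton_iff, Set.mem_univ, iff_true]
    rcases hall t ht with h | h
    · left; apply Subtype.ext; exact ConjClasses.mk_eq_mk_iff_isConj.mpr h
    · right; apply Subtype.ext; exact ConjClasses.mk_eq_mk_iff_isConj.mpr h

end Classes

section Focal

variable {G : Type*} [Group G] [Finite G]

/-- If fusion in a Sylow 2-subgroup `P` respects membership in a subgroup `M` of index 2 of `P`,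
then `G` has a normal subgroup `K` of index 2 with `K ∩ P = M`. -/
theorem exists_normal_index_two_of_fusion (P : Sylow 2 G)
    (M : Subgroup ↥(P : Subgroup G)) (hM : M.index = 2)
    (hfus : ∀ (h : G) (hh : h ∈ (P : Subgroup G)) (g : G) (hg : g⁻¹ * h * g ∈ (P : Subgroup G)),
      (⟨h, hh⟩ : ↥(P : Subgroup G)) ∈ M ↔ (⟨g⁻¹ * h * g, hg⟩ : ↥(P : Subgroup G)) ∈ M) :
    ∃ K : Subgroup G, K.Normal ∧ K.index = 2 ∧
      ∀ h : ↥(P : Subgroup G), (h : G) ∈ K ↔ h ∈ M := by
  haveI : M.Normal := Subgroup.normal_of_index_eq_two hM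
  have hle : (P : Subgroup G).focalSubgroupOf ≤ M := by
    rw [Subgroup.focalSubgroupOf_eq_closure, Subgroup.closure_le]
    rintro g ⟨a, ha, u, hgu⟩
    rw [commutatorElement_def] at hgu
    have hconj : u⁻¹⁻¹ * a⁻¹ * u⁻¹ ∈ (P : Subgroup G) := by
      have : u⁻¹⁻¹ * a⁻¹ * u⁻¹ = a⁻¹ * (g : G) := by rw [hgu]; group
      rw [this]
      exact Subgroup.mul_mem _ (Subgroup.inv_mem _ ha) g.2
    have h1 := hfus a⁻¹ (Subgroup.inv_mem _ ha) u⁻¹ hconj
    have h2 : g = (⟨a, ha⟩ : ↥(P : Subgroup G)) * ⟨u⁻¹⁻¹ * a⁻¹ * u⁻¹, hconj⟩ := by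
      apply Subtype.ext
      rw [Subgroup.coe_mul, hgu]
      show a * u * a⁻¹ * u⁻¹ = a * (u⁻¹⁻¹ * a⁻¹ * u⁻¹)
      group
    show g ∈ M
    rw [h2, Subgroup.mul_mem_iff_of_index_two hM, ← h1]
    have h3 : (⟨a⁻¹, Subgroup.inv_mem _ ha⟩ : ↥(P : Subgroup G)) = (⟨a, ha⟩ : ↥(P : Subgroup G))⁻¹ :=
      rfl
    rw [h3, inv_mem_iff]
  have hle' : (P : Subgroup G).focalSubgroupOf ≤ M.comap (MonoidHom.id _) := by
    rw [Subgroup.comap_id]; exact hle
  let φ : G →* ↥(P : Subgroup G) ⧸ M :=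
    (QuotientGroup.map _ M (MonoidHom.id _) hle').comp (Subgroup.transferFocal (P : Subgroup G))
  have hφ : ∀ h : ↥(P : Subgroup G),
      φ h = (QuotientGroup.mk h : ↥(P : Subgroup G) ⧸ M) ^ (P : Subgroup G).index := by
    intro h
    show QuotientGroup.map _ M (MonoidHom.id _) hle'
      (Subgroup.transferFocal (P : Subgroup G) (h : G)) = _
    rw [Subgroup.transferFocal_eq_pow, map_pow]
    rfl
  have hcard : Nat.card (↥(P : Subgroup G) ⧸ M) = 2 := by
    rw [← Subgroup.index_eq_card]; exact hM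
  have hodd : Odd (P : Subgroup G).index := by
    rw [← Nat.not_even_iff_odd, even_iff_two_dvd]
    exact P.not_dvd_index
  have hq2 : ∀ q : ↥(P : Subgroup G) ⧸ M, q ^ 2 = 1 := by
    intro q
    have := pow_card_eq_one' (x := q)
    rwa [hcard] at this
  have hqodd : ∀ q : ↥(P : Subgroup G) ⧸ M, q ^ (P : Subgroup G).index = q := by
    intro q
    obtain ⟨k, hk⟩ := hodd
    rw [hk, pow_succ, pow_mul, hq2, one_pow, one_mul]
  refine ⟨φ.ker, inferInstance, ?_, ?_⟩
  · rw [Subgroup.index_ker]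
    have hsurj : Function.Surjective φ := by
      intro q
      obtain ⟨h, rfl⟩ := QuotientGroup.mk_surjective q
      exact ⟨(h : G), by rw [hφ, hqodd]⟩
    rw [MonoidHom.range_eq_top.mpr hsurj, Subgroup.card_top, hcard]
  · intro h
    rw [MonoidHom.mem_ker, hφ, hqodd, QuotientGroup.eq_one_iff]

/-- The Sylow 2-subgroups of a normal subgroup `K` with `K ∩ P = M` are isomorphic to `M`. -/
theorem sylow_equiv_of_inf {p : ℕ} [Fact p.Prime] (P : Sylow p G) (K : Subgroup G) [K.Normal]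
    (M : Subgroup ↥(P : Subgroup G))
    (hKM : ∀ h : ↥(P : Subgroup G), (h : G) ∈ K ↔ h ∈ M) (P' : Sylow p ↥K) :
    Nonempty (↥(P' : Subgroup ↥K) ≃* ↥M) := by
  obtain ⟨Q₀, hQ₀⟩ := exists_sylow_eq_inf_normal P K
  have e1 : ↥(P' : Subgroup ↥K) ≃* ↥(Q₀ : Subgroup ↥K) := Sylow.equiv P' Q₀
  have e2 : ↥(Q₀ : Subgroup ↥K) ≃* ↥(((P : Subgroup G) ⊓ K).subgroupOf K) :=
    MulEquiv.subgroupCongr hQ₀
  have e3 : ↥(((P : Subgroup G) ⊓ K).subgroupOf K) ≃* ↥((P : Subgroup G) ⊓ K) :=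
    Subgroup.subgroupOfEquivOfLe inf_le_right
  have hmap : M.map (P : Subgroup G).subtype = (P : Subgroup G) ⊓ K := by
    ext g
    constructor
    · rintro ⟨h, hh, rfl⟩
      exact Subgroup.mem_inf.mpr ⟨h.2, (hKM h).2 hh⟩
    · intro hg
      obtain ⟨hgP, hgK⟩ := Subgroup.mem_inf.mp hg
      exact ⟨⟨g, hgP⟩, (hKM ⟨g, hgP⟩).1 hgK, rfl⟩
  have e4 : ↥M ≃* ↥(M.map (P : Subgroup G).subtype) :=
    Subgroup.equivMapOfInjective M _ (Subgroup.subtype_injective _)
  have e5 : ↥(M.map (P : Subgroup G).subtype) ≃* ↥((P : Subgroup G) ⊓ K) :=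
    MulEquiv.subgroupCongr hmap
  exact ⟨((e1.trans e2).trans e3).trans (e4.trans e5).symm⟩

/-- A `p`-subgroup `R` of `L` can be conjugated into a Sylow `p`-subgroup `S ≤ L` of `G` by an
element of `L`. -/
theorem exists_conj_mem_of_le {p : ℕ} [Fact p.Prime] (S : Sylow p G) {L R : Subgroup G}
    (hSL : (S : Subgroup G) ≤ L) (hRL : R ≤ L) (hR : IsPGroup p R) :
    ∃ c ∈ L, ∀ a ∈ R, c * a * c⁻¹ ∈ (S : Subgroup G) := by
  have hR' : IsPGroup p ↥(R.subgroupOf L) := hR.comap_subtype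
  have hM' : ¬ p ∣ ((S : Subgroup G).subgroupOf L).index := by
    intro h
    have h1 : ((S : Subgroup G).subgroupOf L).index = (S : Subgroup G).relIndex L := rfl
    rw [h1] at h
    exact S.not_dvd_index (h.trans (Subgroup.relIndex_dvd_index_of_le hSL))
  obtain ⟨g, hg⟩ := exists_conj_le_of_not_dvd_index hR' hM'
  refine ⟨((g⁻¹ : ↥L) : G), (g⁻¹).2, ?_⟩
  intro a ha
  have h1 := hg ⟨a, hRL ha⟩ (by rw [Subgroup.mem_subgroupOf]; exact ha)
  rw [Subgroup.mem_subgroupOf] at h1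
  simpa using h1

end Focal

end Cfsg.Agent.Lib.Helper2.QDFusA
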