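import Mathlib
import Cfsg.Agent.Lib.Helper2.ZS10
import Cfsg.Agent.Lib.Helper2.QDFusA
import Cfsg.Agent.Lib.Helper1.OddStable4
import Cfsg.Agent.Lib.Helper1.PLengthOne
import Cfsg.Agent.Lib.Helper1.PConstrainedLocal2
import Cfsg.Agent.Lib.Helper1.CoprimeSylow
import Cfsg.Agent.S1181

set_option autoImplicit false
set_option linter.unusedSectionVars false
open Cfsg

universe u

/-!
# Consequences of the `Z*`-theorem

* `gz`: the generalized `Z*`-theorem for subgroups of a Sylow `2`-subgroup all of whose elements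
  are fixed under fusion;
* `centralizer_map_eq_top`: `G = O(G) C_G(z)` for an isolated involution `z`;
* `exists_invariant_psubgroup`: a nontrivial `z`-invariant `p`-subgroup exists when `p ∣ |G|`.
-/

namespace Cfsg.Agent.Lib.Helper2.ZS

open Cfsg.Agent.Lib.Lead

/-- Factoring out a normal subgroup of order `2` from a group with `O(X) = 1` keeps `O = 1`. -/
theorem oddCore_quotient_eq_bot {X : Type*} [Group X] [Finite X]
    (hO : Cfsg.pPrimeCore 2 X = ⊥) (Z : Subgroup X) [Z.Normal] (hZ : Nat.card Z = 2) :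
    Cfsg.pPrimeCore 2 (X ⧸ Z) = ⊥ := by
  have : Fact (Nat.Prime 2) := ⟨Nat.prime_two⟩
  set π := QuotientGroup.mk' Z with hπ
  have hπs : Function.Surjective π := QuotientGroup.mk'_surjective Z
  set Mt := Cfsg.pPrimeCore 2 (X ⧸ Z) with hMt
  haveI : Mt.Normal := Cfsg.Agent.Lib.Helper1.pPrimeCore_normal 2
  set M := Mt.comap π with hM
  have hcardM : Nat.card M = 2 * Nat.card Mt := by
    rw [hM, Cfsg.Agent.Lib.Helper1.card_comap_of_surjective' π hπs Mt, QuotientGroup.ker_mk', hZ]
  have hodd : (Nat.card Mt).Coprime 2 := Cfsg.Agent.Lib.Helper1.pPrimeCore_card_coprime 2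
  have hOM : Cfsg.pPrimeCore 2 ↥M = ⊥ :=
    Cfsg.Agent.Lib.Helper1.OddStable.pPrimeCore_eq_bot_of_normal M hO
  obtain ⟨P⟩ : Nonempty (Sylow 2 ↥M) := inferInstance
  have hPdvd : Nat.card (P : Subgroup ↥M) ∣ 2 := by
    obtain ⟨k, hk⟩ := IsPGroup.iff_card.mp P.2
    have h1 : Nat.card (P : Subgroup ↥M) ∣ Nat.card M := Subgroup.card_subgroup_dvd_card _
    rw [hcardM, hk] at h1
    rw [hk]
    have hc : (2 ^ k).Coprime (Nat.card Mt) := Nat.Coprime.pow_left k hodd.symm
    exact (Nat.Coprime.dvd_mul_right hc).mp h1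
  have hc : IsCyclic ↥(P : Subgroup ↥M) := isCyclic_of_card_dvd_prime hPdvd
  have hcent := Cfsg.Agent.S3864.normalizer_le_centralizer_of_cyclic P hc
  have hnpc := Cfsg.Agent.Lib.Helper1.hasNormalPComplement_of_normalizer_le_centralizer P hcent
  obtain ⟨k, hk⟩ := index_pPrimeCore_of_npc hnpc
  rw [hOM, Subgroup.index_bot] at hk
  have h1 : Nat.card Mt ∣ 2 ^ k := by rw [← hk, hcardM]; exact Dvd.intro_left _ rfl
  have h2 : Nat.card Mt = 1 := Nat.Coprime.eq_one_of_dvd (Nat.Coprime.pow_right k hodd) h1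
  exact Subgroup.card_eq_one.mp h2

/-- The generalized `Z*`-theorem when `O(X) = 1`, by induction on `|D|`. -/
theorem gz_aux (k : ℕ) : ∀ {X : Type u} [Group X] [Finite X] (_ : Cfsg.pPrimeCore 2 X = ⊥)
    (S : Sylow 2 X) (D : Subgroup X), Nat.card D ≤ k → D ≤ (S : Subgroup X) →
    (∀ d ∈ D, ∀ g : X, g * d * g⁻¹ ∈ (S : Subgroup X) → g * d * g⁻¹ = d) →
    D ≤ Subgroup.center X := by
  induction k with
  | zero =>
    intro X _ _ hO S D hk
    have := Nat.card_pos (α := D)
    omega
  | succ k ih =>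
    intro X _ _ hO S D hk hDS hfix
    have : Fact (Nat.Prime 2) := ⟨Nat.prime_two⟩
    by_cases hD : D = ⊥
    · rw [hD]; exact bot_le
    have hDp : IsPGroup 2 D := S.2.to_le hDS
    obtain ⟨z, hzD, hz2⟩ : ∃ z ∈ D, orderOf z = 2 := by
      have hnt : Nontrivial D := (Subgroup.nontrivial_iff_ne_bot D).mpr hD
      obtain ⟨n, hn⟩ := IsPGroup.iff_card.mp hDp
      have h2 : 2 ∣ Nat.card D := by
        rw [hn]
        have hn0 : n ≠ 0 := by
          rintro rfl
          rw [pow_zero] at hn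
          have := Finite.one_lt_card (α := D)
          omega
        exact dvd_pow_self 2 hn0
      obtain ⟨w, hw⟩ := exists_prime_orderOf_dvd_card' 2 h2
      exact ⟨w, w.2, by rw [Subgroup.orderOf_coe]; exact hw⟩
    have hiso : Cfsg.IsIsolatedInvolution z :=
      isolated_of_sylow S z hz2 (hDS hzD) (hfix z hzD)
    have hzc : z ∈ Subgroup.center X := by
      rw [Subgroup.mem_center_iff]
      intro g
      have h := zstar z hiso g
      rw [show Cfsg.oddCore X = Cfsg.pPrimeCore 2 X from rfl, hO, Subgroup.mem_bot] at h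
      have h1 : z * g * z⁻¹ = g := mul_inv_eq_one.mp h
      calc g * z = z * g * z⁻¹ * z := by rw [h1]
        _ = z * g := by group
    set Z := Subgroup.zpowers z with hZ
    have hZc : Z ≤ Subgroup.center X := (Subgroup.zpowers_le).mpr hzc
    haveI hZn : Z.Normal := ⟨fun n hn g => by
      have := Subgroup.mem_center_iff.mp (hZc hn) g
      rw [this, mul_inv_cancel_right]; exact hn⟩
    have hZcard : Nat.card Z = 2 := by rw [hZ, Nat.card_zpowers, hz2]
    have hZD : Z ≤ D := (Subgroup.zpowers_le).mpr hzD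
    have hZS : Z ≤ (S : Subgroup X) := hZD.trans hDS
    have hOq := oddCore_quotient_eq_bot hO Z hZcard
    set π := QuotientGroup.mk' Z with hπ
    have hπs : Function.Surjective π := QuotientGroup.mk'_surjective Z
    have hpre : ∀ y : X, π y ∈ (S : Subgroup X).map π → y ∈ (S : Subgroup X) := by
      rintro y ⟨s, hs, hsy⟩
      have h1 : s⁻¹ * y ∈ Z := by
        rw [← QuotientGroup.eq]
        exact hsy
      have := (S : Subgroup X).mul_mem hs (hZS h1)
      simpa using this
    have hcard : Nat.card (D.map π) ≤ k := by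
      have hlt : Nat.card (D.map π) < Nat.card D := by
        classical
        haveI : Fintype ↥D := Fintype.ofFinite _
        haveI : Fintype ↥(D.map π) := Fintype.ofFinite _
        rw [Nat.card_eq_fintype_card, Nat.card_eq_fintype_card]
        apply Fintype.card_lt_of_surjective_not_injective (π.subgroupMap D)
          (π.subgroupMap_surjective D)
        intro hinj
        have h1 : (π.subgroupMap D) ⟨z, hzD⟩ = (π.subgroupMap D) 1 := by
          apply Subtype.ext
          show π z = π 1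
          rw [map_one]
          exact (QuotientGroup.eq_one_iff z).mpr (Subgroup.mem_zpowers z)
        have h2 := hinj h1
        have h3 : z = 1 := congrArg Subtype.val h2
        rw [h3, orderOf_one] at hz2
        omega
      omega
    have hih := ih hOq (S.mapSurjective hπs) (D.map π) hcard (Subgroup.map_mono hDS) ?_
    · intro d hd
      rw [Subgroup.mem_center_iff]
      intro g
      have h1 : π d ∈ Subgroup.center (X ⧸ Z) := hih (Subgroup.mem_map_of_mem π hd)
      have h2 := Subgroup.mem_center_iff.mp h1 (π g)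
      have h3 : π (g * d * g⁻¹) = π d := by
        rw [map_mul, map_mul, h2, map_inv, mul_inv_cancel_right]
      have h4 : g * d * g⁻¹ ∈ (S : Subgroup X) :=
        hpre _ (by rw [h3]; exact Subgroup.mem_map_of_mem π (hDS hd))
      have h5 := hfix d hd g h4
      calc g * d = g * d * g⁻¹ * g := by group
        _ = d * g := by rw [h5]
    · rintro _ ⟨d, hd, rfl⟩ gq hgq
      obtain ⟨g, rfl⟩ := hπs gq
      have h1 : π (g * d * g⁻¹) ∈ (S : Subgroup X).map π := by
        have : π (g * d * g⁻¹) = π g * π d * (π g)⁻¹ := by simp [map_mul, map_inv]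
        rw [this]; exact hgq
      have h2 := hpre _ h1
      have h3 := hfix d hd g h2
      have : π g * π d * (π g)⁻¹ = π (g * d * g⁻¹) := by simp [map_mul, map_inv]
      rw [this, h3]

/-- A conjugate of a fusion-fixed element `d` of a Sylow subgroup `S` lying in `S N`
(`N` normal) is congruent to `d` modulo `N`. -/
theorem conj_mod_normal {X : Type*} [Group X] [Finite X] {p : ℕ} [Fact p.Prime] (S : Sylow p X)
    (N : Subgroup X) [N.Normal] (d : X) (hdS : d ∈ (S : Subgroup X))
    (hfix : ∀ g : X, g * d * g⁻¹ ∈ (S : Subgroup X) → g * d * g⁻¹ = d)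
    (g : X) (hg : g * d * g⁻¹ ∈ (S : Subgroup X) ⊔ N) : g * d * g⁻¹ * d⁻¹ ∈ N := by
  set y := g * d * g⁻¹ with hy
  have hR : IsPGroup p (Subgroup.zpowers y) := by
    have h1 : Subgroup.zpowers y = (Subgroup.zpowers d).map (MulAut.conj g).toMonoidHom := by
      rw [MonoidHom.map_zpowers]; rfl
    rw [h1]
    exact (S.2.to_le ((Subgroup.zpowers_le).mpr hdS)).map _
  obtain ⟨c, hcL, hc⟩ := Cfsg.Agent.Lib.Helper2.QDFusA.exists_conj_mem_of_le S
    (le_sup_left : (S : Subgroup X) ≤ (S : Subgroup X) ⊔ N) ((Subgroup.zpowers_le).mpr hg) hR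
  have h1 : c * y * c⁻¹ ∈ (S : Subgroup X) := hc y (Subgroup.mem_zpowers y)
  have e1 : (c * g) * d * (c * g)⁻¹ = c * y * c⁻¹ := by rw [hy]; group
  have h2 : (c * g) * d * (c * g)⁻¹ = d := by
    apply hfix
    rw [e1]; exact h1
  have h3 : y = c⁻¹ * d * c := by
    rw [e1] at h2
    rw [← h2]; group
  set π := QuotientGroup.mk' N with hπ
  have hT : (S : Subgroup X) ⊔ N ≤ (Subgroup.centralizer {π d}).comap π := by
    apply sup_le
    · intro s hs
      rw [Subgroup.mem_comap, Subgroup.mem_centralizer_singleton_iff]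
      have h4 := hfix s ((S : Subgroup X).mul_mem ((S : Subgroup X).mul_mem hs hdS)
        ((S : Subgroup X).inv_mem hs))
      have h5 : s * d = d * s := by
        calc s * d = s * d * s⁻¹ * s := by group
          _ = d * s := by rw [h4]
      rw [← map_mul, ← map_mul, h5]
    · intro n hn
      rw [Subgroup.mem_comap]
      have h4 : π n = 1 := (QuotientGroup.eq_one_iff n).mpr hn
      rw [h4]; exact Subgroup.one_mem _
  have hcT := hT hcL
  rw [Subgroup.mem_comap, Subgroup.mem_centralizer_singleton_iff] at hcT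
  rw [← QuotientGroup.eq_one_iff, h3]
  show π (c⁻¹ * d * c * d⁻¹) = 1
  simp only [map_mul, map_inv]
  have h6 : (π c)⁻¹ * π d * π c = π d := by
    rw [mul_assoc, ← hcT, inv_mul_cancel_left]
  rw [h6, mul_inv_cancel]

/-- **Generalized `Z*`-theorem**: a subgroup `D` of a Sylow `2`-subgroup `S` all of whose
elements are fixed by fusion in `S` is central modulo `O(X)`. -/
theorem gz {X : Type u} [Group X] [Finite X] (S : Sylow 2 X) (D : Subgroup X)
    (hDS : D ≤ (S : Subgroup X))
    (hfix : ∀ d ∈ D, ∀ g : X, g * d * g⁻¹ ∈ (S : Subgroup X) → g * d * g⁻¹ = d)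
    (d : X) (hd : d ∈ D) (g : X) : g * d * g⁻¹ * d⁻¹ ∈ Cfsg.oddCore X := by
  have : Fact (Nat.Prime 2) := ⟨Nat.prime_two⟩
  haveI hNn : (Cfsg.pPrimeCore 2 X).Normal := Cfsg.Agent.Lib.Helper1.pPrimeCore_normal 2
  set N := Cfsg.pPrimeCore 2 X with hN
  set π := QuotientGroup.mk' N with hπ
  have hπs : Function.Surjective π := QuotientGroup.mk'_surjective N
  have hO : Cfsg.pPrimeCore 2 (X ⧸ N) = ⊥ := Cfsg.Agent.Lib.Helper1.pPrimeCore_quotient_eq_bot 2
  have hc := gz_aux (Nat.card (D.map π)) hO (S.mapSurjective hπs) (D.map π) le_rfl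
    (Subgroup.map_mono hDS) ?_
  · have h1 := hc (Subgroup.mem_map_of_mem π hd)
    have h2 := Subgroup.mem_center_iff.mp h1 (π g)
    show g * d * g⁻¹ * d⁻¹ ∈ N
    rw [← QuotientGroup.eq_one_iff]
    show π (g * d * g⁻¹ * d⁻¹) = 1
    simp only [map_mul, map_inv]
    rw [h2, mul_inv_cancel_right, mul_inv_cancel]
  · rintro _ ⟨d', hd', rfl⟩ gq hgq
    obtain ⟨g', rfl⟩ := hπs gq
    have h1 : π (g' * d' * g'⁻¹) ∈ (S : Subgroup X).map π := by
      have : π (g' * d' * g'⁻¹) = π g' * π d' * (π g')⁻¹ := by simp [map_mul, map_inv]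
      rw [this]; exact hgq
    obtain ⟨s, hs, hsy⟩ := h1
    have h2 : g' * d' * g'⁻¹ ∈ (S : Subgroup X) ⊔ N := by
      have h3 : s⁻¹ * (g' * d' * g'⁻¹) ∈ N := by
        rw [← QuotientGroup.eq]; exact hsy
      have e : g' * d' * g'⁻¹ = s * (s⁻¹ * (g' * d' * g'⁻¹)) := by group
      rw [e]
      exact Subgroup.mul_mem_sup hs h3
    have h4 := conj_mod_normal S N d' (hDS hd') (hfix d' hd') g' h2
    have h5 : π (g' * d' * g'⁻¹ * d'⁻¹) = 1 := (QuotientGroup.eq_one_iff _).mpr h4
    have e : π g' * π d' * (π g')⁻¹ = π (g' * d' * g'⁻¹ * d'⁻¹) * π d' := by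
      simp [map_mul, map_inv]
    rw [e, h5, one_mul]

/-- an isolated involution does not lie in `O(G)` -/
theorem isolated_not_mem_oddCore {G : Type*} [Group G] [Finite G] (z : G) (hz2 : orderOf z = 2) :
    z ∉ Cfsg.pPrimeCore 2 G := by
  intro h
  have h1 : orderOf (⟨z, h⟩ : Cfsg.pPrimeCore 2 G) ∣ Nat.card (Cfsg.pPrimeCore 2 G) :=
    orderOf_dvd_natCard _
  rw [← Subgroup.orderOf_coe] at h1
  simp only [hz2] at h1
  have h2 := Cfsg.Agent.Lib.Helper1.pPrimeCore_card_coprime (G := G) 2
  have := Nat.Coprime.eq_one_of_dvd h2.symm h1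
  omega

/-- `G = O(G) C_G(z)` for an isolated involution `z`: `C_G(z)` maps onto `G / O(G)`. -/
theorem centralizer_map_eq_top {G : Type u} [Group G] [Finite G] (z : G)
    (hz : Cfsg.IsIsolatedInvolution z) :
    haveI := Cfsg.Agent.Lib.Helper1.pPrimeCore_normal (G := G) 2
    (Subgroup.centralizer ({z} : Set G)).map (QuotientGroup.mk' (Cfsg.pPrimeCore 2 G)) = ⊤ := by
  haveI := Cfsg.Agent.Lib.Helper1.pPrimeCore_normal (G := G) 2
  have hzN : z ∉ Cfsg.pPrimeCore 2 G := isolated_not_mem_oddCore z hz.1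
  have hzi : z⁻¹ = z := invol_inv hz.1
  rw [← (Cfsg.Agent.S1181.result z hz (Cfsg.pPrimeCore 2 G) hzN).1]
  rw [eq_top_iff]
  intro x _
  rw [Subgroup.mem_centralizer_singleton_iff]
  obtain ⟨g, rfl⟩ := QuotientGroup.mk_surjective x
  have h := zstar z hz g⁻¹
  rw [inv_inv] at h
  rw [← QuotientGroup.mk_mul, ← QuotientGroup.mk_mul, QuotientGroup.eq]
  have e : (g * z)⁻¹ * (z * g) = z * g⁻¹ * z⁻¹ * g := by
    calc (g * z)⁻¹ * (z * g) = z⁻¹ * g⁻¹ * z * g := by group
      _ = z * g⁻¹ * z⁻¹ * g := by rw [hzi]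
  rw [e]
  exact h

/-- If `p` is odd and divides `|Y|`, an isolated involution `u` of `Y` normalizes a nontrivial
`p`-subgroup. -/
theorem exists_invariant_psubgroup {Y : Type u} [Group Y] [Finite Y] (u : Y)
    (hu : Cfsg.IsIsolatedInvolution u) {p : ℕ} [hp : Fact p.Prime]
    (hdvd : p ∣ Nat.card Y) :
    ∃ R : Subgroup Y, IsPGroup p R ∧ R ≠ ⊥ ∧ u ∈ Subgroup.normalizer (R : Set Y) := by
  have : Fact (Nat.Prime 2) := ⟨Nat.prime_two⟩
  haveI hNn := Cfsg.Agent.Lib.Helper1.pPrimeCore_normal (G := Y) 2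
  set N := Cfsg.pPrimeCore 2 Y with hN
  by_cases hpN : p ∣ Nat.card N
  · set A := Subgroup.zpowers u with hA'
    have hA : Nat.card A = 2 := by rw [Nat.card_zpowers, hu.1]
    have hAN : A ≤ Subgroup.normalizer (N : Set Y) := by
      rw [Subgroup.normalizer_eq_top_iff.mpr hNn]; exact le_top
    have hcop : (Nat.card A).Coprime (Nat.card N) := by
      rw [hA]; exact (Cfsg.Agent.Lib.Helper1.pPrimeCore_card_coprime 2).symm
    have hsolv : Group.IsSolvable A ∨ Group.IsSolvable N := Or.inl inferInstance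
    obtain ⟨P, hP⟩ := Cfsg.Agent.Lib.Helper1.coprime_exists_invariant_sylow A N hAN hcop hsolv p
    refine ⟨(P : Subgroup N).map N.subtype, P.2.map _, ?_, hP (Subgroup.mem_zpowers u)⟩
    intro h
    have := (Subgroup.map_eq_bot_iff_of_injective _ N.subtype_injective).mp h
    exact P.ne_bot_of_dvd_card hpN this
  · have h1 : p ∣ Nat.card (Y ⧸ N) := by
      have h0 := Subgroup.card_mul_index N
      rw [← h0] at hdvd
      rcases (Nat.Prime.dvd_mul hp.out).mp hdvd with h | h
      · exact absurd h hpN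
      · rwa [Subgroup.index_eq_card] at h
    have h2 := centralizer_map_eq_top u hu
    have h3 : Nat.card (Y ⧸ N) ∣ Nat.card (Subgroup.centralizer ({u} : Set Y)) := by
      have := Subgroup.card_map_dvd (H := Subgroup.centralizer ({u} : Set Y))
        (QuotientGroup.mk' N)
      rw [h2, Subgroup.card_top] at this
      exact this
    obtain ⟨c, hc⟩ := exists_prime_orderOf_dvd_card'
      (G := ↥(Subgroup.centralizer ({u} : Set Y))) p (h1.trans h3)
    have hco : orderOf (c : Y) = p := by rw [Subgroup.orderOf_coe]; exact hc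
    refine ⟨Subgroup.zpowers (c : Y), ?_, ?_, ?_⟩
    · exact IsPGroup.of_card (n := 1) (by rw [Nat.card_zpowers, hco, pow_one])
    · intro h
      rw [Subgroup.zpowers_eq_bot] at h
      rw [h, orderOf_one] at hco
      exact hp.out.one_lt.ne hco
    · have hcomm : (c : Y) * u = u * (c : Y) := Subgroup.mem_centralizer_singleton_iff.mp c.2
      apply Subgroup.centralizer_le_normalizer
      rw [Subgroup.mem_centralizer_iff]
      intro h hh
      obtain ⟨k, rfl⟩ := Subgroup.mem_zpowers_iff.mp hh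
      exact (Commute.zpow_left (show Commute (c : Y) u from hcomm) k).eq

end Cfsg.Agent.Lib.Helper2.ZS
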