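import Mathlib
import Cfsg.Prelude.Def_Characters
import Cfsg.Agent.Lib.Helper6.Multiplicity
import Cfsg.Agent.Lib.Helper6.CharBasic
import Cfsg.Agent.Lib.Helper6.Schur

/-!
# E6M unit NONTRIV, generic half

For a finite perfect group `G` all of whose irreducible complex representations of degree at least
`2` have degree at least `B`: every complex representation on which some element acts
nontrivially has degree at least `B`.
-/

set_option autoImplicit false
set_option linter.style.haveILetI false

namespace Cfsg.Agent.Lib.Helper2.E6MNontriv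

open Cfsg Cfsg.Agent.Lib.Helper6

/-- endomorphisms of a one-dimensional coordinate space commute -/
theorem end_fin_one_comm (a b : Module.End ℂ (Fin 1 → ℂ)) : a * b = b * a := by
  have key : ∀ f : Module.End ℂ (Fin 1 → ℂ),
      f = (f (fun _ => 1) 0) • (1 : Module.End ℂ (Fin 1 → ℂ)) := by
    intro f
    apply LinearMap.ext
    intro v
    have hv : v = v 0 • (fun _ => (1 : ℂ)) := by
      ext i
      fin_cases i
      simp
    ext i
    fin_cases i
    conv_lhs => rw [hv]
    simp only [map_smul, Pi.smul_apply, smul_eq_mul, LinearMap.smul_apply, Module.End.one_apply,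
      Fin.zero_eta, Fin.isValue]
    ring
  rw [key a, key b]
  simp only [smul_mul_smul_comm, mul_one]
  rw [mul_comm]

/-- a one-dimensional representation of a perfect group is trivial -/
theorem eq_one_of_perfect_fin_one {G : Type*} [Group G] (hperf : commutator G = ⊤)
    (σ : Representation ℂ G (Fin 1 → ℂ)) (x : G) : σ x = 1 := by
  have hx : x ∈ commutator G := by rw [hperf]; trivial
  rw [commutator_def, Subgroup.commutator_def] at hx
  induction hx using Subgroup.closure_induction with
  | mem y hy =>
    obtain ⟨a, _, b, _, rfl⟩ := hy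
    rw [commutatorElement_def, map_mul, map_mul, map_mul]
    have h1 : σ a * σ a⁻¹ = 1 := by rw [← map_mul, mul_inv_cancel, map_one]
    have h2 : σ b * σ b⁻¹ = 1 := by rw [← map_mul, mul_inv_cancel, map_one]
    calc σ a * σ b * σ a⁻¹ * σ b⁻¹ = σ a * (σ b * σ a⁻¹) * σ b⁻¹ := by rw [mul_assoc (σ a)]
      _ = σ a * (σ a⁻¹ * σ b) * σ b⁻¹ := by rw [end_fin_one_comm (σ b) (σ a⁻¹)]
      _ = (σ a * σ a⁻¹) * (σ b * σ b⁻¹) := by simp only [mul_assoc]
      _ = 1 := by rw [h1, h2, mul_one]
  | one => exact map_one σ
  | mul y z _ _ hy hz => rw [map_mul, hy, hz, mul_one]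
  | inv y _ hy =>
    have h1 : σ y * σ y⁻¹ = 1 := by rw [← map_mul, mul_inv_cancel, map_one]
    rw [hy, one_mul] at h1
    exact h1

/-- the degree of an irreducible character, as a natural number -/
theorem irr_data {G : Type*} [Group G] (θ : IrrCharacter G) :
    ∃ (k : ℕ) (σ : Representation ℂ G (Fin k → ℂ)), σ.IsIrreducible ∧
      σ.character = (θ : G → ℂ) ∧ (θ : G → ℂ) 1 = (k : ℂ) := by
  obtain ⟨k, σ, hσ, hθ⟩ := θ.2
  refine ⟨k, σ, hσ, hθ, ?_⟩
  rw [← hθ, Representation.char_one]
  simp

/-- Generic half of NONTRIV. -/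
theorem degree_ge_of_acts_nontrivially {G : Type*} [Group G] [Fintype G]
    (hperf : commutator G = ⊤) (B : ℕ)
    (hB : ∀ (k : ℕ) (ρ : Representation ℂ G (Fin k → ℂ)), ρ.IsIrreducible → 2 ≤ k → B ≤ k)
    {n : ℕ} (ρ : Representation ℂ G (Fin n → ℂ)) (g : G) (hg : ρ g ≠ 1) : B ≤ n := by
  classical
  haveI : Fintype (IrrCharacter G) := Fintype.ofFinite _
  obtain ⟨m, hm⟩ := IsCharacter.eq_sum_irr (⟨n, ρ, rfl⟩ : IsCharacter G ρ.character)
  choose deg σ hσ hσθ hdeg using fun θ : IrrCharacter G => irr_data θ
  have hn : n = ∑ θ : IrrCharacter G, m θ * deg θ := by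
    have h1 := congrFun hm 1
    rw [Representation.char_one, Finset.sum_apply] at h1
    have h2 : (n : ℂ) = ((∑ θ : IrrCharacter G, m θ * deg θ : ℕ) : ℂ) := by
      have h3 : (Module.finrank ℂ (Fin n → ℂ) : ℂ) = n := by simp
      rw [← h3, h1]
      push_cast
      exact Finset.sum_congr rfl fun θ _ => by rw [Pi.smul_apply, nsmul_eq_mul, hdeg θ]
    exact_mod_cast h2
  by_cases hbig : ∃ θ : IrrCharacter G, m θ ≠ 0 ∧ 2 ≤ deg θ
  · obtain ⟨θ, hmθ, hk⟩ := hbig
    have h1 : B ≤ deg θ := hB _ (σ θ) (hσ θ) hk
    have h2 : m θ * deg θ ≤ n := by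
      rw [hn]
      exact Finset.single_le_sum (f := fun θ => m θ * deg θ) (fun _ _ => Nat.zero_le _)
        (Finset.mem_univ θ)
    have h3 : deg θ ≤ m θ * deg θ := Nat.le_mul_of_pos_left _ (Nat.pos_of_ne_zero hmθ)
    omega
  · exfalso
    push Not at hbig
    -- every constituent is the principal character
    have hone : ∀ θ : IrrCharacter G, m θ ≠ 0 → ∀ x : G, (θ : G → ℂ) x = 1 := by
      intro θ hmθ x
      have hlt : deg θ < 2 := hbig θ hmθ
      haveI := hσ θ
      have hpos : 0 < deg θ := by
        have := finrank_pos_of_isIrreducible (σ θ)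
        simpa using this
      have h1 : deg θ = 1 := by omega
      have hx : (σ θ) x = 1 := by
        have key : ∀ (k : ℕ) (τ : Representation ℂ G (Fin k → ℂ)), k = 1 → τ x = 1 := by
          intro k τ hk
          subst hk
          exact eq_one_of_perfect_fin_one hperf τ x
        exact key _ (σ θ) h1
      rw [← hσθ θ]
      unfold Representation.character
      rw [hx]
      simp [h1]
    have hconst : ∀ x : G, ρ.character x = ρ.character 1 := by
      intro x
      rw [hm]
      simp only [Finset.sum_apply, Pi.smul_apply]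
      apply Finset.sum_congr rfl
      intro θ _
      by_cases hmθ : m θ = 0
      · rw [hmθ, zero_smul, zero_smul]
      · rw [hone θ hmθ x, hone θ hmθ 1]
    have h1 := hconst g
    rw [Representation.char_one] at h1
    have h2 := (character_eq_finrank_iff ρ g).mp h1
    exact hg h2

end Cfsg.Agent.Lib.Helper2.E6MNontriv
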