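import Mathlib
import Cfsg.Agent.Lib.Helper2.E6MNontrivGen

/-!
# E6M unit NONTRIV, generic half, arbitrary finite-dimensional space
-/

set_option autoImplicit false
set_option linter.style.haveILetI false

namespace Cfsg.Agent.Lib.Helper2.E6MNontriv

open Cfsg

/-- transport a representation to coordinates -/
noncomputable def coordRep {G V : Type*} [Group G] [AddCommGroup V] [Module ℂ V]
    [FiniteDimensional ℂ V] (ρ : Representation ℂ G V) :
    Representation ℂ G (Fin (Module.finrank ℂ V) → ℂ) where
  toFun x := (Module.finBasis ℂ V).equivFun.conj (ρ x)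
  map_one' := by
    rw [map_one]
    exact LinearEquiv.conj_id _
  map_mul' x y := by
    rw [map_mul]
    exact LinearEquiv.conj_comp _ (ρ y) (ρ x)

theorem coordRep_eq_one_iff {G V : Type*} [Group G] [AddCommGroup V] [Module ℂ V]
    [FiniteDimensional ℂ V] (ρ : Representation ℂ G V) (g : G) :
    coordRep ρ g = 1 ↔ ρ g = 1 := by
  have h1 : ((Module.finBasis ℂ V).equivFun.conj (1 : Module.End ℂ V)) = 1 :=
    LinearEquiv.conj_id _
  constructor
  · intro h
    have h2 : (Module.finBasis ℂ V).equivFun.conj (ρ g) =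
        (Module.finBasis ℂ V).equivFun.conj (1 : Module.End ℂ V) := by
      rw [h1]; exact h
    exact (LinearEquiv.injective _) h2
  · intro h
    show (Module.finBasis ℂ V).equivFun.conj (ρ g) = 1
    rw [h, h1]

/-- Generic half of NONTRIV on an arbitrary finite-dimensional space. -/
theorem finrank_ge_of_acts_nontrivially {G : Type*} [Group G] [Fintype G]
    (hperf : commutator G = ⊤) (B : ℕ)
    (hB : ∀ (k : ℕ) (ρ : Representation ℂ G (Fin k → ℂ)), ρ.IsIrreducible → 2 ≤ k → B ≤ k)
    {V : Type*} [AddCommGroup V] [Module ℂ V] [FiniteDimensional ℂ V]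
    (ρ : Representation ℂ G V) (g : G) (hg : ρ g ≠ 1) : B ≤ Module.finrank ℂ V :=
  degree_ge_of_acts_nontrivially hperf B hB (coordRep ρ) g
    (fun h => hg ((coordRep_eq_one_iff ρ g).mp h))

end Cfsg.Agent.Lib.Helper2.E6MNontriv
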