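import Mathlib
import Cfsg.Prelude.Def_Solvable

set_option autoImplicit false
open Cfsg

/-!
# Local balance for an automorphism of prime order: the abstract group-theoretic part

`K` a finite group with trivial centre, `A` a group of automorphisms containing the inner ones,
`x ∈ A` of prime order `p`.  Under the hypotheses `Good p x` on the fixed-point subgroup of `x`,
`O_{p'}(C_A(x)) ≠ 1` iff `p` does not divide the number of fixed points.
-/

namespace Cfsg.Agent.Lib.Helper2.Lbf

variable {K : Type*} [Group K]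

/-- the fixed points of an automorphism -/
abbrev fixS (x : MulAut K) : Subgroup K := MonoidHom.eqLocus x.toMonoidHom (MonoidHom.id K)

theorem mem_fixS (x : MulAut K) (y : K) : y ∈ fixS x ↔ x y = y := Iff.rfl

/-- the derived subgroup of the fixed points -/
abbrev dfixS (x : MulAut K) : Subgroup K := ⁅fixS x, fixS x⁆

theorem dfixS_le (x : MulAut K) : dfixS x ≤ fixS x :=
  Subgroup.commutator_le_self (fixS x)

/-- the hypotheses on the fixed points -/
structure Good (p : ℕ) (x : MulAut K) : Prop where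
  simple : IsSimpleGroup ↥(dfixS x)
  dvd : p ∣ Nat.card ↥(fixS x) → p ∣ Nat.card ↥(dfixS x)
  cent : ∀ β : MulAut K, (∀ y ∈ dfixS x, β y = y) → β ∈ Subgroup.zpowers x

theorem aut_mul_conj (f : MulAut K) (y : K) : f * MulAut.conj y = MulAut.conj (f y) * f := by
  ext k
  simp [MulAut.mul_apply, MulAut.conj_apply]

theorem conj_comm_of_fix (x : MulAut K) (y : K) (hy : x y = y) :
    x * MulAut.conj y = MulAut.conj y * x := by
  rw [aut_mul_conj, hy]

theorem map_fixS_of_comm (x c : MulAut K) (hc : x * c = c * x) (y : K) (hy : y ∈ fixS x) :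
    c y ∈ fixS x := by
  rw [mem_fixS] at hy ⊢
  have h1 : (x * c) y = (c * x) y := by rw [hc]
  rw [MulAut.mul_apply, MulAut.mul_apply, hy] at h1
  exact h1

theorem map_dfixS_of_comm (x c : MulAut K) (hc : x * c = c * x) (y : K) (hy : y ∈ dfixS x) :
    c y ∈ dfixS x := by
  have h1 : (fixS x).map c.toMonoidHom ≤ fixS x := by
    rintro _ ⟨z, hz, rfl⟩
    exact map_fixS_of_comm x c hc z hz
  have h2 : (dfixS x).map c.toMonoidHom ≤ dfixS x := by
    unfold dfixS
    rw [Subgroup.map_commutator]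
    exact Subgroup.commutator_mono h1 h1
  exact h2 ⟨y, hy, rfl⟩

theorem conj_injective_of_center (hZ : Subgroup.center K = ⊥) :
    Function.Injective (MulAut.conj : K → MulAut K) := by
  rw [injective_iff_map_eq_one]
  intro y hy
  have h1 : y ∈ Subgroup.center K := by
    rw [Subgroup.mem_center_iff]
    intro g
    have h2 : MulAut.conj y g = g := by rw [hy]; rfl
    rw [MulAut.conj_apply] at h2
    have : g * y = y * g * y⁻¹ * y := by rw [h2]
    rw [this]; group
  rw [hZ] at h1
  exact Subgroup.mem_bot.mp h1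

section main
variable (A : Subgroup (MulAut K)) (x : MulAut K)

/-- inner automorphisms by elements of a subgroup of the fixed points, inside `C_A(x)` -/
noncomputable def innC (hinn : ∀ k : K, MulAut.conj k ∈ A) (L : Subgroup K) (hL : L ≤ fixS x) :
    ↥L →* ↥(A ⊓ Subgroup.centralizer {x}) :=
  (MulAut.conj.comp L.subtype).codRestrict _ (fun y => by
    refine ⟨hinn _, ?_⟩
    show _ ∈ Subgroup.centralizer {x}
    rw [Subgroup.mem_centralizer_iff]
    intro h hh
    rw [Set.mem_singleton_iff] at hh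
    subst hh
    exact conj_comm_of_fix h y (hL y.2))

theorem innC_coe (hinn : ∀ k : K, MulAut.conj k ∈ A) (L : Subgroup K) (hL : L ≤ fixS x) (y : ↥L) :
    ((innC A x hinn L hL y : ↥(A ⊓ Subgroup.centralizer {x})) : MulAut K) = MulAut.conj (y : K) :=
  rfl

theorem innC_injective (hinn : ∀ k : K, MulAut.conj k ∈ A) (hZ : Subgroup.center K = ⊥)
    (L : Subgroup K) (hL : L ≤ fixS x) :
    Function.Injective (innC A x hinn L hL) := by
  intro a b hab
  have h1 := congrArg (fun c : ↥(A ⊓ Subgroup.centralizer {x}) => (c : MulAut K)) hab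
  simp only [innC_coe] at h1
  exact Subtype.ext (conj_injective_of_center hZ h1)

theorem comm_of_mem (c : ↥(A ⊓ Subgroup.centralizer {x})) :
    x * (c : MulAut K) = (c : MulAut K) * x := by
  have h1 : (c : MulAut K) ∈ Subgroup.centralizer {x} := (Subgroup.mem_inf.mp c.2).2
  rw [Subgroup.mem_centralizer_iff] at h1
  exact h1 x rfl

theorem innC_range_normal (hinn : ∀ k : K, MulAut.conj k ∈ A) (L : Subgroup K) (hL : L ≤ fixS x)
    (hinv : ∀ c : ↥(A ⊓ Subgroup.centralizer {x}), ∀ y ∈ L, (c : MulAut K) y ∈ L) :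
    (innC A x hinn L hL).range.Normal := by
  constructor
  rintro _ ⟨y, rfl⟩ c
  refine ⟨⟨(c : MulAut K) y, hinv c y y.2⟩, ?_⟩
  apply Subtype.ext
  rw [innC_coe]
  show MulAut.conj ((c : MulAut K) (y : K)) = (c : MulAut K) * MulAut.conj (y : K) * (c : MulAut K)⁻¹
  rw [aut_mul_conj, mul_inv_cancel_right]

/-- **(⇐)** if `p` does not divide the number of fixed points, the inner automorphisms by fixed
points form a nontrivial normal `p'`-subgroup of `C_A(x)` -/
theorem core_ne_bot_of_coprime (hinn : ∀ k : K, MulAut.conj k ∈ A)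
    (hZ : Subgroup.center K = ⊥) {p : ℕ}
    (hne : fixS x ≠ ⊥) (hcop : Nat.Coprime p (Nat.card ↥(fixS x))) :
    pPrimeCore p ↥(A ⊓ Subgroup.centralizer {x}) ≠ ⊥ := by
  have hN : (innC A x hinn (fixS x) le_rfl).range.Normal :=
    innC_range_normal A x hinn (fixS x) le_rfl
      (fun c y hy => map_fixS_of_comm x c (comm_of_mem A x c) y hy)
  have hle : (innC A x hinn (fixS x) le_rfl).range ≤ pPrimeCore p ↥(A ⊓ Subgroup.centralizer {x}) := by
    apply le_sSup
    refine ⟨hN, ?_⟩
    exact (Nat.Coprime.coprime_dvd_left (Subgroup.card_range_dvd _) hcop.symm)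
  intro hbot
  rw [hbot, le_bot_iff] at hle
  apply hne
  rw [Subgroup.eq_bot_iff_forall]
  intro y hy
  have h1 : innC A x hinn (fixS x) le_rfl ⟨y, hy⟩ ∈ (innC A x hinn (fixS x) le_rfl).range :=
    ⟨_, rfl⟩
  rw [hle, Subgroup.mem_bot] at h1
  have h2 := innC_injective A x hinn hZ (fixS x) le_rfl (h1.trans (map_one _).symm)
  exact congrArg Subtype.val h2

/-- **(⇒)** if `p` divides the number of fixed points, every normal `p'`-subgroup of `C_A(x)`
is trivial -/
theorem core_eq_bot_of_dvd [Finite K] (hinn : ∀ k : K, MulAut.conj k ∈ A)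
    (hZ : Subgroup.center K = ⊥) {p : ℕ} (hp : p.Prime)
    (hord : orderOf x = p) (hG : Good p x) (hdvd : p ∣ Nat.card ↥(fixS x)) :
    pPrimeCore p ↥(A ⊓ Subgroup.centralizer {x}) = ⊥ := by
  haveI : Finite (MulAut K) := Finite.of_injective (fun e : MulAut K => (e : K → K))
    DFunLike.coe_injective
  unfold pPrimeCore
  rw [sSup_eq_bot]
  rintro R ⟨hRn, hRc⟩
  have := hRn
  have := hG.simple
  set ιD := innC A x hinn (dfixS x) (dfixS_le x) with hιD
  have hιinj : Function.Injective ιD := innC_injective A x hinn hZ _ _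
  have hDn : ιD.range.Normal := innC_range_normal A x hinn _ _
    (fun c y hy => map_dfixS_of_comm x c (comm_of_mem A x c) y hy)
  have hM : (R.comap ιD).Normal := hRn.comap ιD
  have hpD : p ∣ Nat.card ↥(dfixS x) := hG.dvd hdvd
  rcases hM.eq_bot_or_eq_top with hbot | htop
  · -- `R` centralises the inner automorphisms by `D`
    have hfix : ∀ ρ ∈ R, ∀ y ∈ dfixS x, (ρ : MulAut K) y = y := by
      intro ρ hρ y hy
      have hy' : (ρ : MulAut K) y ∈ dfixS x :=
        map_dfixS_of_comm x ρ (comm_of_mem A x ρ) y hy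
      have h1 : (⟨(ρ : MulAut K) y, hy'⟩ * (⟨y, hy⟩ : ↥(dfixS x))⁻¹ : ↥(dfixS x)) ∈ R.comap ιD := by
        rw [Subgroup.mem_comap, map_mul, map_inv]
        have h2 : ιD ⟨(ρ : MulAut K) y, hy'⟩ = ρ * ιD ⟨y, hy⟩ * ρ⁻¹ := by
          apply Subtype.ext
          show MulAut.conj ((ρ : MulAut K) y) = (ρ : MulAut K) * MulAut.conj y * (ρ : MulAut K)⁻¹
          rw [aut_mul_conj, mul_inv_cancel_right]
        rw [h2]
        have h3 : ρ * ιD ⟨y, hy⟩ * ρ⁻¹ * (ιD ⟨y, hy⟩)⁻¹ =
            ρ * (ιD ⟨y, hy⟩ * ρ⁻¹ * (ιD ⟨y, hy⟩)⁻¹) := by group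
        rw [h3]
        exact R.mul_mem hρ (hRn.conj_mem _ (R.inv_mem hρ) _)
      rw [hbot, Subgroup.mem_bot] at h1
      have h4 := congrArg (fun z : ↥(dfixS x) => (z : K)) h1
      simp only [Subgroup.coe_mul, Subgroup.coe_inv, Subgroup.coe_one] at h4
      exact mul_inv_eq_one.mp h4
    have hle : R.map (A ⊓ Subgroup.centralizer {x}).subtype ≤ Subgroup.zpowers x := by
      rintro _ ⟨ρ, hρ, rfl⟩
      exact hG.cent _ (hfix ρ hρ)
    have h5 : Nat.card ↥R ∣ p := by
      have h6 : Nat.card ↥(R.map (A ⊓ Subgroup.centralizer {x}).subtype) = Nat.card ↥R :=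
        Nat.card_congr (R.equivMapOfInjective _ (Subgroup.subtype_injective _)).symm.toEquiv
      rw [← h6, ← hord, ← Nat.card_zpowers]
      exact Subgroup.card_dvd_of_le hle
    have h7 : Nat.card ↥R = 1 := by
      have := Nat.Coprime.eq_one_of_dvd hRc h5
      exact this
    exact Subgroup.card_eq_one.mp h7
  · exfalso
    have hle : ιD.range ≤ R := by
      rintro _ ⟨y, rfl⟩
      have : y ∈ R.comap ιD := by rw [htop]; exact Subgroup.mem_top _
      exact this
    have h1 : Nat.card ↥(dfixS x) ∣ Nat.card ↥R := by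
      have h2 : Nat.card ↥ιD.range = Nat.card ↥(dfixS x) :=
        Nat.card_congr (MonoidHom.ofInjective hιinj).symm.toEquiv
      rw [← h2]
      exact Subgroup.card_dvd_of_le hle
    have h3 : p ∣ Nat.card ↥R := hpD.trans h1
    have h4 : p ∣ Nat.gcd (Nat.card ↥R) p := Nat.dvd_gcd h3 dvd_rfl
    rw [Nat.Coprime] at hRc
    rw [hRc] at h4
    exact hp.one_lt.ne' (Nat.dvd_one.mp h4)

/-- **the abstract local balance criterion** -/
theorem core_ne_bot_iff [Finite K] (hinn : ∀ k : K, MulAut.conj k ∈ A)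
    (hZ : Subgroup.center K = ⊥) {p : ℕ} (hp : p.Prime)
    (hord : orderOf x = p) (hG : Good p x) :
    pPrimeCore p ↥(A ⊓ Subgroup.centralizer {x}) ≠ ⊥ ↔ Nat.Coprime p (Nat.card ↥(fixS x)) := by
  constructor
  · intro h
    by_contra hc
    apply h
    apply core_eq_bot_of_dvd A x hinn hZ hp hord hG
    by_contra hnd
    exact hc ((Nat.Prime.coprime_iff_not_dvd hp).mpr hnd)
  · intro h
    apply core_ne_bot_of_coprime A x hinn hZ _ h
    intro hbot
    have := hG.simple
    have h1 : dfixS x = ⊥ := le_bot_iff.mp (hbot ▸ dfixS_le x)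
    obtain ⟨a, b, hab⟩ := (inferInstance : Nontrivial ↥(dfixS x))
    apply hab
    have ha : (a : K) ∈ (⊥ : Subgroup K) := h1 ▸ a.2
    have hb : (b : K) ∈ (⊥ : Subgroup K) := h1 ▸ b.2
    rw [Subgroup.mem_bot] at ha hb
    exact Subtype.ext (ha.trans hb.symm)

end main

section transport

theorem fixS_conj (κ φ : MulAut K) : fixS (κ * φ * κ⁻¹) = (fixS φ).map κ.toMonoidHom := by
  ext y
  rw [mem_fixS, Subgroup.mem_map]
  constructor
  · intro h
    refine ⟨κ⁻¹ y, ?_, ?_⟩
    · rw [mem_fixS]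
      have h1 := congrArg (fun z => κ⁻¹ z) h
      simp only [MulAut.mul_apply, MulAut.inv_apply_self] at h1
      exact h1
    · show κ (κ⁻¹ y) = y
      exact MulAut.apply_inv_self K κ y
  · rintro ⟨z, hz, rfl⟩
    rw [mem_fixS] at hz
    show (κ * φ * κ⁻¹) (κ z) = κ z
    rw [MulAut.mul_apply, MulAut.mul_apply, MulAut.inv_apply_self, hz]

theorem dfixS_conj (κ φ : MulAut K) : dfixS (κ * φ * κ⁻¹) = (dfixS φ).map κ.toMonoidHom := by
  unfold dfixS
  rw [Subgroup.map_commutator, fixS_conj]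

theorem Good.conj {p : ℕ} {φ : MulAut K} (h : Good p φ) (κ : MulAut K) :
    Good p (κ * φ * κ⁻¹) := by
  have hinj : Function.Injective κ.toMonoidHom := κ.injective
  have e1 : ↥(dfixS φ) ≃* ↥(dfixS (κ * φ * κ⁻¹)) :=
    ((dfixS φ).equivMapOfInjective _ hinj).trans (MulEquiv.subgroupCongr (dfixS_conj κ φ).symm)
  have e2 : ↥(fixS φ) ≃* ↥(fixS (κ * φ * κ⁻¹)) :=
    ((fixS φ).equivMapOfInjective _ hinj).trans (MulEquiv.subgroupCongr (fixS_conj κ φ).symm)
  refine ⟨?_, ?_, ?_⟩
  · have := h.simple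
    exact e1.symm.isSimpleGroup
  · intro hd
    rw [← Nat.card_congr e1.toEquiv]
    apply h.dvd
    rw [Nat.card_congr e2.toEquiv]
    exact hd
  · intro β hβ
    have h1 : κ⁻¹ * β * κ ∈ Subgroup.zpowers φ := by
      apply h.cent
      intro y hy
      have h2 : κ y ∈ dfixS (κ * φ * κ⁻¹) := by
        rw [dfixS_conj]
        exact ⟨y, hy, rfl⟩
      have h3 := hβ _ h2
      show κ⁻¹ (β (κ y)) = y
      rw [h3, MulAut.inv_apply_self]
    obtain ⟨n, hn⟩ := Subgroup.mem_zpowers_iff.mp h1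
    rw [Subgroup.mem_zpowers_iff]
    refine ⟨n, ?_⟩
    rw [conj_zpow, hn]
    group

end transport

end Cfsg.Agent.Lib.Helper2.Lbf
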