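import Mathlib
import Cfsg.Agent.Lib.Helper5.E6MDefs

/-!
# E6M farm (S2340): basic facts about `cellMat` and `pl`
-/

set_option autoImplicit false
set_option linter.style.haveILetI false

namespace Cfsg.Agent.Lib.Helper2.E6MCell

open Matrix Cfsg.Agent.Lib.Helper5.E6M Cfsg.Agent.Lib.Helper5.E6M.T3

variable {F : Type*} [Field F]

theorem emb_mem (I : T3) (k : Fin 3) : I.emb k ∈ I.1 := Finset.orderEmbOfFin_mem I.1 I.2 k

theorem mem_compl_iff (I : T3) (i : Fin 6) : i ∈ I.compl.1 ↔ i ∉ I.1 := by
  simp [T3.compl]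

theorem compl_emb_not_mem (I : T3) (j : Fin 3) : I.compl.emb j ∉ I.1 :=
  (mem_compl_iff I _).mp (emb_mem I.compl j)

theorem exists_emb_of_mem (I : T3) {i : Fin 6} (h : i ∈ I.1) : ∃ k : Fin 3, I.emb k = i := by
  have : i ∈ Set.range (I.1.orderEmbOfFin I.2) := by
    rw [Finset.range_orderEmbOfFin]; exact h
  exact this

theorem exists_compl_emb_of_not_mem (I : T3) {i : Fin 6} (h : i ∉ I.1) :
    ∃ j : Fin 3, I.compl.emb j = i :=
  exists_emb_of_mem I.compl ((mem_compl_iff I i).mpr h)

/-- the rows of `cellMat I A` in `I` are the unit vectors -/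
theorem cellMat_emb (I : T3) (A : Matrix (Fin 3) (Fin 3) F) (k k' : Fin 3) :
    cellMat I A (I.emb k) k' = if k' = k then 1 else 0 := by
  unfold cellMat
  simp only [Matrix.of_apply]
  rw [dif_pos (emb_mem I k)]
  simp only [EmbeddingLike.apply_eq_iff_eq]

/-- the rows of `cellMat I A` outside `I` are the rows of `A` -/
theorem cellMat_compl_emb (I : T3) (A : Matrix (Fin 3) (Fin 3) F) (j k' : Fin 3) :
    cellMat I A (I.compl.emb j) k' = A j k' := by
  unfold cellMat
  simp only [Matrix.of_apply]
  rw [dif_neg (compl_emb_not_mem I j)]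
  congr 1
  exact Function.Embedding.toEquivRange_symm_apply_self _ j

/-- unit CELLCARD, first half -/
theorem cell_coord (I : T3) (A : Matrix (Fin 3) (Fin 3) F) : pl (cellMat I A) I = 1 := by
  unfold pl
  have h : (cellMat I A).submatrix I.emb id = (1 : Matrix (Fin 3) (Fin 3) F) := by
    ext r k
    rw [Matrix.submatrix_apply, id, cellMat_emb, Matrix.one_apply]
    by_cases h : r = k
    · simp [h]
    · rw [if_neg h, if_neg (fun h' => h h'.symm)]
  rw [h, Matrix.det_one]

/-- `I012.emb k = k` -/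
theorem I012_emb (k : Fin 3) : I012.emb k = Fin.castLE (by norm_num) k := by
  have h := Finset.orderEmbOfFin_unique (s := I012.1) I012.2
    (f := fun k : Fin 3 => (Fin.castLE (by norm_num : 3 ≤ 6) k : Fin 6))
    (by intro x; fin_cases x <;> decide)
    (by intro a b hab; exact hab)
  exact (congrFun h k).symm

end Cfsg.Agent.Lib.Helper2.E6MCell
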