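import Mathlib
import Cfsg.Agent.Lib.Helper5.E6MDefs
import Cfsg.Agent.Lib.Helper2.E6MCellBasic

/-!
# E6M farm (S2340): unit CELLORBIT

The elements of the cell `Cell I` are in the `SL₆`-orbit of the multiples of `e_012`: complete
`cellMat I A` by the vectors `± e_j` (`j ∉ I`) to a matrix of determinant `1`.
-/

set_option autoImplicit false
set_option linter.style.haveILetI false

namespace Cfsg.Agent.Lib.Helper2.E6MCell

open Matrix Cfsg.Agent.Lib.Helper5.E6M Cfsg.Agent.Lib.Helper5.E6M.T3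

variable {F : Type*} [Field F]

/-- the enumeration of `Fin 6` by `I` and its complement -/
def sumFun (I : T3) : Fin 3 ⊕ Fin 3 → Fin 6 := Sum.elim I.emb I.compl.emb

theorem sumFun_injective (I : T3) : Function.Injective (sumFun I) := by
  rintro (a | a) (b | b) h
  · exact congrArg Sum.inl (I.emb.injective h)
  · exfalso
    have h1 : I.emb a ∈ I.1 := emb_mem I a
    have h2 : I.compl.emb b ∉ I.1 := compl_emb_not_mem I b
    simp only [sumFun, Sum.elim_inl, Sum.elim_inr] at h
    rw [h] at h1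
    exact h2 h1
  · exfalso
    have h1 : I.emb b ∈ I.1 := emb_mem I b
    have h2 : I.compl.emb a ∉ I.1 := compl_emb_not_mem I a
    simp only [sumFun, Sum.elim_inl, Sum.elim_inr] at h
    rw [← h] at h1
    exact h2 h1
  · exact congrArg Sum.inr (I.compl.emb.injective h)

/-- the enumeration of `Fin 6` by `I` and its complement, as an equivalence -/
noncomputable def sumEquiv (I : T3) : Fin 3 ⊕ Fin 3 ≃ Fin 6 :=
  Equiv.ofBijective (sumFun I)
    ((Fintype.bijective_iff_injective_and_card _).mpr ⟨sumFun_injective I, by simp⟩)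

theorem sumEquiv_inl (I : T3) (k : Fin 3) : sumEquiv I (Sum.inl k) = I.emb k := rfl

theorem sumEquiv_inr (I : T3) (j : Fin 3) : sumEquiv I (Sum.inr j) = I.compl.emb j := rfl

theorem sumEquiv_symm_emb (I : T3) (k : Fin 3) : (sumEquiv I).symm (I.emb k) = Sum.inl k := by
  rw [← sumEquiv_inl, Equiv.symm_apply_apply]

theorem sumEquiv_symm_compl_emb (I : T3) (j : Fin 3) :
    (sumEquiv I).symm (I.compl.emb j) = Sum.inr j := by
  rw [← sumEquiv_inr, Equiv.symm_apply_apply]

/-- the standard enumeration -/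
def fse : Fin 3 ⊕ Fin 3 ≃ Fin 6 := (finSumFinEquiv : Fin 3 ⊕ Fin 3 ≃ Fin (3 + 3))

theorem fse_symm_castLE (k : Fin 3) :
    fse.symm (Fin.castLE (by norm_num : 3 ≤ 6) k) = (Sum.inl k : Fin 3 ⊕ Fin 3) :=
  finSumFinEquiv_symm_apply_castAdd (n := 3) k

/-- the permutation comparing the two enumerations -/
noncomputable def sumPerm (I : T3) : Equiv.Perm (Fin 3 ⊕ Fin 3) :=
  fse.trans (sumEquiv I).symm

/-- the sign of `sumPerm`, in `F` -/
noncomputable def sgnF (I : T3) : F := ((Equiv.Perm.sign (sumPerm I) : ℤˣ) : ℤ)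

theorem sgnF_mul_self (I : T3) : (sgnF I : F) * sgnF I = 1 := by
  unfold sgnF
  rcases Int.units_eq_one_or (Equiv.Perm.sign (sumPerm I)) with h | h <;> rw [h] <;> simp

/-- the diagonal block `diag(± 1, 1, 1)` -/
noncomputable def dBlock (I : T3) : Matrix (Fin 3) (Fin 3) F :=
  Matrix.diagonal fun j => if j = 0 then sgnF I else 1

theorem det_dBlock (I : T3) : (dBlock (F := F) I).det = sgnF I := by
  unfold dBlock
  rw [Matrix.det_diagonal, Fin.prod_univ_three]
  simp

/-- the completed matrix -/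
noncomputable def gMat (I : T3) (A : Matrix (Fin 3) (Fin 3) F) : Matrix (Fin 6) (Fin 6) F :=
  (Matrix.fromBlocks (1 : Matrix (Fin 3) (Fin 3) F) 0 A (dBlock I)).submatrix
    (sumEquiv I).symm fse.symm

theorem det_gMat (I : T3) (A : Matrix (Fin 3) (Fin 3) F) : (gMat I A).det = 1 := by
  have h1 : gMat I A =
      ((Matrix.fromBlocks (1 : Matrix (Fin 3) (Fin 3) F) 0 A (dBlock I)).submatrix
        (sumPerm I) id).submatrix fse.symm fse.symm := by
    unfold gMat
    rw [Matrix.submatrix_submatrix]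
    congr 1
    ext x
    simp [sumPerm]
  rw [h1, Matrix.det_submatrix_equiv_self, Matrix.det_permute, Matrix.det_fromBlocks_zero₁₂,
    Matrix.det_one, one_mul, det_dBlock]
  exact sgnF_mul_self I

/-- the first three columns of `gMat I A` are `cellMat I A` -/
theorem gMat_col (I : T3) (A : Matrix (Fin 3) (Fin 3) F) (i : Fin 6) (k : Fin 3) :
    gMat I A i (I012.emb k) = cellMat I A i k := by
  have hk : fse.symm (I012.emb k) = (Sum.inl k : Fin 3 ⊕ Fin 3) := by
    rw [I012_emb]
    exact fse_symm_castLE k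
  unfold gMat
  rw [Matrix.submatrix_apply, hk]
  by_cases hi : i ∈ I.1
  · obtain ⟨r, rfl⟩ := exists_emb_of_mem I hi
    rw [sumEquiv_symm_emb, Matrix.fromBlocks_apply₁₁, cellMat_emb, Matrix.one_apply]
    by_cases h : r = k
    · simp [h]
    · rw [if_neg h, if_neg (fun h' => h h'.symm)]
  · obtain ⟨j, rfl⟩ := exists_compl_emb_of_not_mem I hi
    rw [sumEquiv_symm_compl_emb, Matrix.fromBlocks_apply₂₁, cellMat_compl_emb]

/-- unit CELLORBIT, verbatim -/
theorem cell_orbit (I : T3) (A : Matrix (Fin 3) (Fin 3) F) (c : F) :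
    ∃ g : SL6 F, c • pl (cellMat I A) = Mm g.1 *ᵥ Pi.single I012 c := by
  classical
  refine ⟨⟨gMat I A, det_gMat I A⟩, ?_⟩
  ext J
  have h1 : (Mm (gMat I A) *ᵥ Pi.single I012 c) J = Mm (gMat I A) J I012 * c := by
    simp [Matrix.mulVec, dotProduct, Pi.single_apply]
  rw [h1]
  have h2 : Mm (gMat I A) J I012 = pl (cellMat I A) J := by
    unfold Mm minor pl
    rw [Matrix.of_apply]
    congr 1
    ext r k
    rw [Matrix.submatrix_apply, Matrix.submatrix_apply, gMat_col, id]
  rw [h2, Pi.smul_apply, smul_eq_mul, mul_comm]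

end Cfsg.Agent.Lib.Helper2.E6MCell
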