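import Mathlib
import Cfsg.Agent.Lib.Helper5.E6MDefs
import Cfsg.Agent.Lib.Helper2.E6MCellBasic
import Cfsg.Agent.Lib.Helper2.E6MCellOrbit

/-!
# E6M farm (S2340): units CELLCARD and CELLORBIT

`neighbour` : the coordinate `J = I - I.emb k + I.compl.emb j` of `pl (cellMat I A)` is `± A j k`.
`cell_card` : `|Cell I| = (q - 1) q^9`.
The namespace `E6MCellV` holds the statements verbatim as in helper5's stubs.
-/

set_option autoImplicit false
set_option linter.style.haveILetI false

namespace Cfsg.Agent.Lib.Helper2.E6MCell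

open Matrix Cfsg.Agent.Lib.Helper5.E6M Cfsg.Agent.Lib.Helper5.E6M.T3

variable {F : Type*} [Field F]

/-- the neighbour `I - I.emb k + I.compl.emb j` of `I` -/
def nbr (I : T3) (j k : Fin 3) : T3 :=
  ⟨insert (I.compl.emb j) (I.1.erase (I.emb k)), by
    rw [Finset.card_insert_of_notMem, Finset.card_erase_of_mem (emb_mem I k), I.2]
    intro h
    exact compl_emb_not_mem I j (Finset.mem_of_mem_erase h)⟩

/-- the enumeration of `nbr I j k`: replace the `k`-th element of `I` -/
def nbrFun (I : T3) (j k : Fin 3) (r : Fin 3) : Fin 6 :=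
  if r = k then I.compl.emb j else I.emb r

theorem nbrFun_mem (I : T3) (j k r : Fin 3) : nbrFun I j k r ∈ (nbr I j k).1 := by
  unfold nbrFun nbr
  by_cases h : r = k
  · rw [if_pos h]
    exact Finset.mem_insert_self _ _
  · rw [if_neg h]
    apply Finset.mem_insert_of_mem
    rw [Finset.mem_erase]
    exact ⟨fun h' => h (I.emb.injective h'), emb_mem I r⟩

theorem nbrFun_injective (I : T3) (j k : Fin 3) : Function.Injective (nbrFun I j k) := by
  intro r s h
  unfold nbrFun at h
  by_cases hr : r = k <;> by_cases hs : s = k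
  · rw [hr, hs]
  · exfalso
    rw [if_pos hr, if_neg hs] at h
    exact compl_emb_not_mem I j (h ▸ emb_mem I s)
  · exfalso
    rw [if_neg hr, if_pos hs] at h
    exact compl_emb_not_mem I j (h ▸ emb_mem I r)
  · rw [if_neg hr, if_neg hs] at h
    exact I.emb.injective h

/-- the position of `nbrFun I j k r` in the increasing enumeration of `nbr I j k` -/
noncomputable def nbrIdx (I : T3) (j k : Fin 3) (r : Fin 3) : Fin 3 :=
  Classical.choose (exists_emb_of_mem (nbr I j k) (nbrFun_mem I j k r))

theorem nbrIdx_spec (I : T3) (j k r : Fin 3) :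
    (nbr I j k).emb (nbrIdx I j k r) = nbrFun I j k r :=
  Classical.choose_spec (exists_emb_of_mem (nbr I j k) (nbrFun_mem I j k r))

theorem nbrIdx_injective (I : T3) (j k : Fin 3) : Function.Injective (nbrIdx I j k) := by
  intro r s h
  apply nbrFun_injective I j k
  rw [← nbrIdx_spec, ← nbrIdx_spec, h]

/-- the permutation comparing the two enumerations of `nbr I j k` -/
noncomputable def nbrPerm (I : T3) (j k : Fin 3) : Equiv.Perm (Fin 3) :=
  Equiv.ofBijective (nbrIdx I j k) (Finite.injective_iff_bijective.mp (nbrIdx_injective I j k))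

/-- its sign, in `F` -/
noncomputable def nbrSgn (I : T3) (j k : Fin 3) : F :=
  ((Equiv.Perm.sign (nbrPerm I j k) : ℤˣ) : ℤ)

theorem nbrSgn_mul_self (I : T3) (j k : Fin 3) : (nbrSgn I j k : F) * nbrSgn I j k = 1 := by
  unfold nbrSgn
  rcases Int.units_eq_one_or (Equiv.Perm.sign (nbrPerm I j k)) with h | h <;> rw [h] <;> simp

theorem nbrSgn_ne_zero (I : T3) (j k : Fin 3) : (nbrSgn I j k : F) ≠ 0 := by
  intro h
  have := nbrSgn_mul_self (F := F) I j k
  rw [h, zero_mul] at this
  exact zero_ne_one this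

/-- the neighbour coordinates of `pl (cellMat I A)` are the entries of `A`, up to sign -/
theorem neighbour (I : T3) (j k : Fin 3) (A : Matrix (Fin 3) (Fin 3) F) :
    pl (cellMat I A) (nbr I j k) = nbrSgn I j k * A j k := by
  have h1 : (cellMat I A).submatrix (nbrFun I j k) id =
      ((cellMat I A).submatrix (nbr I j k).emb id).submatrix (nbrPerm I j k) id := by
    ext r k'
    simp only [Matrix.submatrix_apply, id]
    show _ = cellMat I A ((nbr I j k).emb (nbrIdx I j k r)) k'
    rw [nbrIdx_spec]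
  have h2 : (cellMat I A).submatrix (nbrFun I j k) id =
      Matrix.updateRow (1 : Matrix (Fin 3) (Fin 3) F) k (A j) := by
    ext r k'
    simp only [Matrix.submatrix_apply, id, Matrix.updateRow_apply]
    unfold nbrFun
    by_cases h : r = k
    · rw [if_pos h, if_pos h, cellMat_compl_emb]
    · rw [if_neg h, if_neg h, cellMat_emb, Matrix.one_apply]
      by_cases h' : r = k'
      · simp [h']
      · rw [if_neg h', if_neg (fun h'' => h' h''.symm)]
  have h3 : (Matrix.updateRow (1 : Matrix (Fin 3) (Fin 3) F) k (A j)).det = A j k := by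
    rw [← Matrix.cramer_transpose_apply, Matrix.transpose_one, Matrix.cramer_one]
    rfl
  have h4 := Matrix.det_permute (nbrPerm I j k) ((cellMat I A).submatrix (nbr I j k).emb id)
  rw [← h1, h2, h3] at h4
  -- h4 : A j k = sign * det (…)
  unfold pl
  have h5 : (nbrSgn I j k : F) * A j k =
      nbrSgn I j k * nbrSgn I j k * ((cellMat I A).submatrix (nbr I j k).emb id).det := by
    rw [h4, mul_assoc]
    rfl
  rw [h5, nbrSgn_mul_self, one_mul]

/-- the parametrisation of the cell is injective -/
theorem cell_param_injective (I : T3) (c c' : F) (hc : c ≠ 0)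
    (A A' : Matrix (Fin 3) (Fin 3) F)
    (h : c • pl (cellMat I A) = c' • pl (cellMat I A')) : c = c' ∧ A = A' := by
  have h1 : c = c' := by
    have := congrFun h I
    simpa [cell_coord] using this
  refine ⟨h1, ?_⟩
  subst h1
  ext j k
  have h2 := congrFun h (nbr I j k)
  simp only [Pi.smul_apply, smul_eq_mul, neighbour] at h2
  have h3 := mul_left_cancel₀ hc h2
  exact mul_left_cancel₀ (nbrSgn_ne_zero I j k) h3

/-- unit CELLCARD, second half -/
theorem cell_card [Fintype F] [DecidableEq F] (I : T3) :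
    Nat.card (Cell (F := F) I) = (Fintype.card F - 1) * Fintype.card F ^ 9 := by
  have hbij : Function.Bijective
      (fun p : {c : F // c ≠ 0} × Matrix (Fin 3) (Fin 3) F =>
        (⟨p.1.1 • pl (cellMat I p.2), ⟨p.1.1, p.2, p.1.2, rfl⟩⟩ : Cell (F := F) I)) := by
    constructor
    · rintro ⟨⟨c, hc⟩, A⟩ ⟨⟨c', hc'⟩, A'⟩ h
      have h1 := congrArg Subtype.val h
      obtain ⟨h2, h3⟩ := cell_param_injective I c c' hc A A' h1
      subst h2
      subst h3
      rfl
    · rintro ⟨l, c, A, hc, rfl⟩
      exact ⟨⟨⟨c, hc⟩, A⟩, rfl⟩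
  rw [← Nat.card_congr (Equiv.ofBijective _ hbij), Nat.card_prod]
  congr 1
  · rw [Nat.card_eq_fintype_card, Fintype.card_subtype_compl, Fintype.card_subtype_eq]
  · rw [Nat.card_eq_fintype_card]
    show Fintype.card (Fin 3 → Fin 3 → F) = Fintype.card F ^ 9
    rw [Fintype.card_fun, Fintype.card_fun, Fintype.card_fin, ← pow_mul]

end Cfsg.Agent.Lib.Helper2.E6MCell

namespace Cfsg.Agent.Lib.Helper2.E6MCellV

open Matrix Cfsg.Agent.Lib.Helper5.E6M

variable {F : Type*} [Field F] [Fintype F] [DecidableEq F]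

/-- unit CELLCARD (verbatim) -/
theorem cell_coord (I : T3) (A : Matrix (Fin 3) (Fin 3) F) : pl (cellMat I A) I = 1 :=
  Cfsg.Agent.Lib.Helper2.E6MCell.cell_coord I A

theorem cell_card (I : T3) :
    Nat.card (Cell (F := F) I) = (Fintype.card F - 1) * Fintype.card F ^ 9 :=
  Cfsg.Agent.Lib.Helper2.E6MCell.cell_card I

/-- unit CELLORBIT (verbatim) -/
theorem cell_orbit (I : T3) (A : Matrix (Fin 3) (Fin 3) F) (c : F) :
    ∃ g : SL6 F, c • pl (cellMat I A) = Mm g.1 *ᵥ Pi.single I012 c :=
  Cfsg.Agent.Lib.Helper2.E6MCell.cell_orbit I A c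

end Cfsg.Agent.Lib.Helper2.E6MCellV
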