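import Cfsg.Agent.Lib.Helper2.EssGen

set_option autoImplicit false

namespace Cfsg.Agent.Lib.Helper2.EssGen

open Cfsg Cfsg.FusionSystem Cfsg.Agent.Lib.Helper9

variable {Ω : Type*} [Group Ω] {S : Subgroup Ω}

/-- the subsystem in which the class of `Q` is only reached through larger subgroups -/
theorem exists_sys [Finite S] {p : ℕ} [Fact p.Prime] (hS : IsPGroup p S)
    (F : FusionSystem S) {Q : Subgroup Ω} (hQS : Q < S) (M : Marks F Q) :
    ∃ E : FusionSystem S, ∀ P : Subgroup Ω, E.Hom P = {φ | φ ∈ F.Hom P ∧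
      ∀ P' : Subgroup Ω, φ.range = P' →
        Good F Q M (Subgroup.closure (extGen F Q)) P P' φ} := by
  refine ⟨{ Hom := fun P => {φ | φ ∈ F.Hom P ∧ ∀ P' : Subgroup Ω, φ.range = P' →
              Good F Q M (Subgroup.closure (extGen F Q)) P P' φ}
            le_of_mem := ?_
            injective_of_mem := ?_
            conj_mem := ?_
            comp_mem := ?_
            inv_mem := ?_ }, fun P => rfl⟩
  · intro P φ h
    exact F.le_of_mem h.1
  · intro P φ h
    exact F.injective_of_mem h.1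
  · intro P g hP hg
    refine ⟨F.conj_mem hP hg, ?_⟩
    intro P' hr h h'
    have hPlt : P < S := by
      refine lt_of_le_of_ne hP ?_
      intro hPS'
      have h1 := card_eq_of_isConj F h
      rw [hPS'] at h1
      exact absurd h1 (ne_of_gt (card_lt_of_lt' hQS))
    have e : conjHom P g = (conjHom S g).comp (Subgroup.inclusion hPlt.le) :=
      MonoidHom.ext fun x => rfl
    have hr' : ((conjHom S g).comp (Subgroup.inclusion hPlt.le)).range = P' := by
      rw [← e]; exact hr
    have h2 := Good.of_restrict hS F M (F.conj_mem le_rfl hg) hPlt hr'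
    rw [← e] at h2
    exact h2 h h'
  · intro P R φ ψ hφ hψ hm
    refine ⟨F.comp_mem hφ.1 hψ.1 hm, ?_⟩
    intro P'' hr h h''
    obtain ⟨P', hP'⟩ : ∃ P', φ.range = P' := ⟨_, rfl⟩
    have hm' : ∀ x : P, φ x ∈ P' := fun x => hP'.le ⟨x, rfl⟩
    have hP'R : P' ≤ R := by
      rw [← hP']
      rintro _ ⟨x, rfl⟩
      exact hm x
    have hP'Q : F.IsConj P' Q := isConj_trans F (isConj_symm F ⟨φ, hφ.1, hP'⟩) h
    by_cases hRP' : R = P'
    · subst hRP'
      have hψr : ψ.range = P'' := by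
        apply le_antisymm
        · rintro _ ⟨z, rfl⟩
          obtain ⟨x, hx⟩ := hP'.ge z.2
          rw [← hr]
          refine ⟨x, ?_⟩
          show ψ ⟨φ x, hm x⟩ = ψ z
          congr 1
          exact Subtype.ext hx
        · rw [← hr]
          rintro _ ⟨x, rfl⟩
          exact ⟨_, rfl⟩
      exact Good.comp (hφ.2 R hP') (hψ.2 P'' hψr) hm hP'Q h h''
    · have hlt : P' < R := lt_of_le_of_ne hP'R (Ne.symm hRP')
      have hr2 : (ψ.comp (Subgroup.inclusion hlt.le)).range = P'' := by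
        apply le_antisymm
        · rintro _ ⟨z, rfl⟩
          obtain ⟨x, hx⟩ := hP'.ge z.2
          rw [← hr]
          refine ⟨x, ?_⟩
          show ψ ⟨φ x, hm x⟩ = ψ ⟨z, hlt.le z.2⟩
          congr 1
          exact Subtype.ext hx
        · rw [← hr]
          rintro _ ⟨x, rfl⟩
          exact ⟨⟨φ x, hm' x⟩, rfl⟩
      have hgood2 := Good.of_restrict hS F M hψ.1 hlt hr2
      have h3 := Good.comp (hφ.2 P' hP') hgood2 hm' hP'Q
      have e : (ψ.comp (Subgroup.inclusion hlt.le)).comp (φ.codRestrict P' hm') =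
          ψ.comp (φ.codRestrict R hm) := MonoidHom.ext fun x => rfl
      rw [e] at h3
      exact h3 h h''
  · intro P φ hφ
    obtain ⟨ψ, hψ, hψφ⟩ := F.inv_mem hφ.1
    have hPS : P ≤ S := hom_le F hφ.1
    refine ⟨ψ, ⟨hψ, ?_⟩, hψφ⟩
    intro P₂ hr2
    have hP₂ : P₂ = P := by
      rw [← hr2]
      apply le_antisymm
      · rintro _ ⟨⟨_, x, rfl⟩, rfl⟩
        rw [hψφ x]
        exact x.2
      · intro x hx
        exact ⟨⟨φ ⟨x, hx⟩, ⟨_, rfl⟩⟩, hψφ ⟨x, hx⟩⟩
    subst hP₂
    exact Good.inv hPS (hφ.2 φ.range rfl) rfl (fun x _ => hψφ x)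

theorem essential_lt [Finite S] {p : ℕ} [Fact p.Prime] (hS : IsPGroup p S)
    (F : FusionSystem S) (hF : F.IsSaturated p) {Q : Subgroup Ω} (hQ : F.IsEssential p Q) :
    Q < S := by
  refine lt_of_le_of_ne hQ.1.1 ?_
  intro hQS
  subst hQS
  obtain ⟨-, -, hn, Emb, hEmb⟩ := hQ
  have hfa := fullyAutomized_of_fullyNormalized hS F hF (fullyNormalized_top F)
  obtain ⟨-, R, hR⟩ := hfa
  haveI hfinQ : Finite Q := inferInstance
  have hle : (R : Subgroup (F.autGroup Q)) ≤ (Inn Q).subgroupOf (F.autGroup Q) := by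
    rw [hR]
    apply Subgroup.comap_mono
    intro α hα
    rw [mem_autInducedBy_iff] at hα
    obtain ⟨g, hg, hgα⟩ := hα
    refine ⟨⟨g, hg⟩, ?_⟩
    apply MulEquiv.ext
    intro x
    apply Subtype.ext
    exact (hgα x).symm
  have h1 := R.not_dvd_index
  have h2 : ((Inn Q).subgroupOf (F.autGroup Q)).index ∣ (R : Subgroup (F.autGroup Q)).index :=
    Subgroup.index_dvd_of_le hle
  have h3 : p ∣ Nat.card (F.autGroup Q ⧸ (Inn Q).subgroupOf (F.autGroup Q)) := hEmb.1
  rw [← Subgroup.index_eq_card] at h3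
  exact h1 (h3.trans h2)

/-- S5326: the class of an essential subgroup cannot be omitted -/
theorem main [Finite S] (p : ℕ) [Fact p.Prime] (hS : IsPGroup p S)
    (F : FusionSystem S) (hF : F.IsSaturated p) (Q : Subgroup Ω) (hQ : F.IsEssential p Q) :
    ∃ E : FusionSystem S, (∀ R : Subgroup Ω, R ≤ S → ¬ F.IsConj Q R →
      F.autGroup R ≤ E.autGroup R) ∧ ¬ F ≤ E := by
  have hQS : Q ≤ S := hQ.1.1
  have hQn := hQ.2.1
  have hlt : Q < S := essential_lt hS F hF hQ
  obtain ⟨M⟩ := exists_marks hS F hF hQn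
  obtain ⟨E, hE⟩ := exists_sys hS F hlt M
  refine ⟨E, ?_, ?_⟩
  · intro R hRS hnc
    apply Subgroup.closure_mono
    intro α hα
    show R.subtype.comp α.toMonoidHom ∈ E.Hom R
    rw [hE]
    refine ⟨hα, ?_⟩
    intro P' _ h _
    exact absurd (isConj_symm F h) hnc
  · intro hle
    rcases extendable_dichotomy p hS F hF Q hlt hQn _ rfl with h | ⟨-, hn, hspe⟩
    · exact h.1 hQ
    · have hHA : Subgroup.closure (extGen F Q) ≤ F.autGroup Q :=
        (Subgroup.closure_le _).2 fun α hα => extGen_subset_autGroup F Q hα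
      have hne : ∃ α₀ ∈ F.autGroup Q, α₀ ∉ Subgroup.closure (extGen F Q) := by
        by_contra hcon
        push Not at hcon
        have heq : Subgroup.closure (extGen F Q) = F.autGroup Q := le_antisymm hHA hcon
        apply hspe.2.1
        rw [heq, Subgroup.subgroupOf_self, ← MonoidHom.range_eq_map]
        exact MonoidHom.range_eq_top.2 (QuotientGroup.mk'_surjective _)
      obtain ⟨α₀, hα₀A, hα₀H⟩ := hne
      apply hα₀H
      have hφ₀ := hom_of_mem_autGroup F hQS hα₀A
      have hφ₀E := hle Q hφ₀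
      rw [hE] at hφ₀E
      have hr : (Q.subtype.comp α₀.toMonoidHom).range = Q := by
        apply le_antisymm
        · rintro _ ⟨x, rfl⟩
          exact (α₀ x).2
        · intro y hy
          refine ⟨α₀⁻¹ ⟨y, hy⟩, ?_⟩
          show ((α₀ (α₀⁻¹ ⟨y, hy⟩) : Q) : Ω) = y
          rw [MulAut.apply_inv_self]
      have hQQ := isConj_refl F hQS
      obtain ⟨α, hαH, hα⟩ := hφ₀E.2 Q hr hQQ hQQ
      have hQN : Q ≤ normalizerIn S Q := self_le_normalizerIn' hQS
      have hθ : (M.Θ Q hQQ).comp (Subgroup.inclusion hQN) ∈ F.Hom Q :=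
        restrict_mem F (M.mem Q hQQ) hQN
      have hθr : ((M.Θ Q hQQ).comp (Subgroup.inclusion hQN)).range = Q := by
        rw [range_comp_inclusion]
        exact M.map_eq Q hQQ
      obtain ⟨β, hβA, hβ⟩ := exists_aut_of_hom F hθ hθr
      have hQNlt : Q < normalizerIn S Q := by
        obtain ⟨g, hgN, hgQ⟩ := exists_mem_normalizerIn_not_mem hS hlt
        exact lt_of_le_of_ne hQN (fun h => hgQ (h ▸ hgN))
      have hβH : β ∈ Subgroup.closure (extGen F Q) :=
        Subgroup.subset_closure ⟨normalizerIn S Q, hQNlt, M.Θ Q hQQ, M.mem Q hQQ,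
          fun x => (hβ x).symm⟩
      have hcomm : ∀ x : Q, β (α₀ x) = α (β x) := by
        intro x
        apply Subtype.ext
        rw [hβ (α₀ x)]
        have hx : (x : Ω) ∈ normalizerIn S Q := hQN x.2
        have hy : (Q.subtype.comp α₀.toMonoidHom) x ∈ normalizerIn S Q := hQN (α₀ x).2
        have hq : M.Θ Q hQQ ⟨x, hx⟩ ∈ Q := M.mem_Q hQQ x.2 hx
        have e := hα x hx hy hq
        have e2 : β x = ⟨M.Θ Q hQQ ⟨x, hx⟩, hq⟩ := Subtype.ext (hβ x)
        rw [e2]
        exact e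
      have hα₀ : α₀ = β⁻¹ * α * β := by
        apply MulEquiv.ext
        intro x
        rw [MulAut.mul_apply, MulAut.mul_apply, ← hcomm, MulAut.inv_apply_self]
      rw [hα₀]
      exact Subgroup.mul_mem _ (Subgroup.mul_mem _ (Subgroup.inv_mem _ hβH) hαH) hβH

/-- the subsystem agreeing with `F` on proper subgroups and inner on `S` -/
theorem exists_topSys [Finite S] (F : FusionSystem S) :
    ∃ E : FusionSystem S, ∀ P : Subgroup Ω, E.Hom P =
      {φ | φ ∈ F.Hom P ∧ (P = S → φ ∈ (innerFusionSystem S).Hom P)} := by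
  refine ⟨{ Hom := fun P => {φ | φ ∈ F.Hom P ∧ (P = S → φ ∈ (innerFusionSystem S).Hom P)}
            le_of_mem := ?_
            injective_of_mem := ?_
            conj_mem := ?_
            comp_mem := ?_
            inv_mem := ?_ }, fun P => rfl⟩
  · intro P φ h
    exact F.le_of_mem h.1
  · intro P φ h
    exact F.injective_of_mem h.1
  · intro P g hP hg
    exact ⟨F.conj_mem hP hg, fun _ => (innerFusionSystem S).conj_mem hP hg⟩
  · intro P R φ ψ hφ hψ hm
    refine ⟨F.comp_mem hφ.1 hψ.1 hm, ?_⟩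
    intro hPS
    have hφi := hφ.2 hPS
    have hRS : R = S := by
      apply le_antisymm (hom_le F hψ.1)
      obtain ⟨-, g, hg, hgφ⟩ := hφi
      intro s hs
      have hmem : g⁻¹ * s * g ∈ P := by
        rw [hPS]
        exact S.mul_mem (S.mul_mem (S.inv_mem hg) hs) hg
      have h1 := hm ⟨g⁻¹ * s * g, hmem⟩
      rw [hgφ] at h1
      have e : g * (g⁻¹ * s * g) * g⁻¹ = s := by group
      simpa [e] using h1
    exact (innerFusionSystem S).comp_mem hφi (hψ.2 hRS) hm
  · intro P φ hφ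
    by_cases hPS : P = S
    · obtain ⟨ψ, hψ, hψφ⟩ := (innerFusionSystem S).inv_mem (hφ.2 hPS)
      exact ⟨ψ, ⟨innerFusionSystem_le F _ hψ, fun _ => hψ⟩, hψφ⟩
    · obtain ⟨ψ, hψ, hψφ⟩ := F.inv_mem hφ.1
      refine ⟨ψ, ⟨hψ, ?_⟩, hψφ⟩
      intro hrS
      exfalso
      apply hPS
      have hPle : P ≤ S := hom_le F hφ.1
      haveI : Finite P := finite_of_le hPle
      apply Subgroup.eq_of_le_of_card_ge hPle
      have h1 : Nat.card φ.range = Nat.card P :=
        (Nat.card_congr (MonoidHom.ofInjective (F.injective_of_mem hφ.1)).toEquiv).symm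
      rw [← h1, hrS]

end Cfsg.Agent.Lib.Helper2.EssGen
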