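import Cfsg.Agent.Lib.Helper2.KNorm1
import Cfsg.Agent.Lib.Helper9.AlperinCor
import Cfsg.Agent.Lib.Helper9.Hyperfocal3

set_option autoImplicit false

namespace Cfsg.Agent.Lib.Helper2.AutSys

open Cfsg Cfsg.FusionSystem Cfsg.Agent.Lib.Helper9 Cfsg.Agent.Lib.Helper2.KNorm

variable {Ω : Type*} [Group Ω]

/-- the fusion system over `T` of the restrictions of the automorphisms in `A` -/
def autSys (T : Subgroup Ω) (A : Subgroup (MulAut T)) (hInn : Inn T ≤ A) : FusionSystem T where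
  Hom R := {φ | ∃ hR : R ≤ T, ∃ a ∈ A, ∀ x : R, φ x = ((a ⟨x, hR x.2⟩ : T) : Ω)}
  le_of_mem := by
    rintro R φ ⟨hR, a, ha, he⟩
    refine ⟨hR, fun x => ?_⟩
    rw [he]
    exact (a _).2
  injective_of_mem := by
    rintro R φ ⟨hR, a, ha, he⟩ x y hxy
    rw [he, he] at hxy
    have h1 := a.injective (Subtype.ext hxy)
    exact Subtype.ext (congrArg (fun z : T => (z : Ω)) h1)
  conj_mem := by
    intro R g hR hg
    exact ⟨hR, MulAut.conj ⟨g, hg⟩, hInn ⟨⟨g, hg⟩, rfl⟩, fun x => rfl⟩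
  comp_mem := by
    rintro P Q φ ψ ⟨hP, a, ha, hae⟩ ⟨hQ, b, hb, hbe⟩ h
    refine ⟨hP, b * a, A.mul_mem hb ha, fun x => ?_⟩
    have e : (⟨φ x, hQ (h x)⟩ : T) = a ⟨x, hP x.2⟩ := Subtype.ext (hae x)
    show ψ ⟨φ x, h x⟩ = _
    rw [hbe]
    show ((b ⟨φ x, hQ (h x)⟩ : T) : Ω) = _
    rw [e]
    rfl
  inv_mem := by
    rintro R φ ⟨hR, a, ha, he⟩
    have hrT : φ.range ≤ T := by
      rintro _ ⟨x, rfl⟩
      rw [he]
      exact (a _).2
    refine ⟨(T.subtype.comp (a⁻¹).toMonoidHom).comp (Subgroup.inclusion hrT),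
      ⟨hrT, a⁻¹, A.inv_mem ha, fun y => rfl⟩, fun x => ?_⟩
    show ((a⁻¹ ⟨φ x, hrT ⟨x, rfl⟩⟩ : T) : Ω) = x
    have e : (⟨φ x, hrT ⟨x, rfl⟩⟩ : T) = a ⟨x, hR x.2⟩ := Subtype.ext (he x)
    rw [e, MulAut.inv_apply_self]

theorem mem_autSys_autGroup {T : Subgroup Ω} {A : Subgroup (MulAut T)} {hInn : Inn T ≤ A}
    {R : Subgroup Ω} (hR : R ≤ T) (α : MulAut R) :
    α ∈ (autSys T A hInn).autGroup R ↔
      ∃ a ∈ A, ∀ x : R, ((α x : R) : Ω) = ((a ⟨x, hR x.2⟩ : T) : Ω) := by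
  rw [mem_autGroup_iff _ hR]
  constructor
  · rintro ⟨_, a, ha, he⟩
    exact ⟨a, ha, fun x => he x⟩
  · rintro ⟨a, ha, he⟩
    exact ⟨hR, a, ha, fun x => he x⟩

theorem pow_restrict {T R : Subgroup Ω} (hR : R ≤ T) {α : MulAut R} {a : MulAut T}
    (h : ∀ x : R, ((α x : R) : Ω) = ((a ⟨x, hR x.2⟩ : T) : Ω)) (n : ℕ) :
    ∀ x : R, (((α ^ n) x : R) : Ω) = (((a ^ n) ⟨x, hR x.2⟩ : T) : Ω) := by
  induction n with
  | zero =>
    intro x
    rfl
  | succ n ih =>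
    intro x
    rw [pow_succ, pow_succ, MulAut.mul_apply, MulAut.mul_apply]
    have e : a ⟨x, hR x.2⟩ = ⟨((α x : R) : Ω), hR (α x).2⟩ := Subtype.ext (h x).symm
    rw [e]
    exact ih (α x)

/-- a power congruent to the first power modulo `p ^ f` which is a `p`-element -/
theorem exists_pow_pPart {G : Type*} [Group G] [Finite G] (p : ℕ) [hp : Fact p.Prime] (g : G)
    (f : ℕ) : ∃ k : ℕ, k ≡ 1 [MOD p ^ f] ∧ ∃ e : ℕ, (g ^ k) ^ (p ^ e) = 1 := by
  have hn : orderOf g ≠ 0 := (orderOf_pos g).ne'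
  obtain ⟨e, m, hm, hnm⟩ := Nat.exists_eq_pow_mul_and_not_dvd hn p hp.out.one_lt.ne'
  have hmc : Nat.Coprime m p := ((Nat.Prime.coprime_iff_not_dvd hp.out).mpr hm).symm
  have hcop : Nat.Coprime m (p ^ f) := Nat.Coprime.pow_right f hmc
  by_cases hf : p ^ f = 1
  · refine ⟨m, ?_, e, ?_⟩
    · rw [hf]
      exact Nat.modEq_one
    · rw [← pow_mul, mul_comm, ← hnm, pow_orderOf_eq_one]
  · have h1 : 1 < p ^ f := by
      have : 0 < p ^ f := pow_pos hp.out.pos f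
      omega
    obtain ⟨u, -, hu⟩ := Nat.exists_mul_mod_eq_one_of_coprime hcop h1
    refine ⟨m * u, ?_, e, ?_⟩
    · show m * u % p ^ f = 1 % p ^ f
      rw [hu, Nat.mod_eq_of_lt h1]
    · have : m * u * p ^ e = orderOf g * u := by
        rw [hnm]
        ring
      rw [← pow_mul, this, pow_mul, pow_orderOf_eq_one, one_pow]

theorem autSys_fullyAutomized {p : ℕ} [Fact p.Prime] {T : Subgroup Ω} [Finite T]
    (hT : IsPGroup p T) {A : Subgroup (MulAut T)} (hInn : Inn T ≤ A)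
    (hAp : ∀ a ∈ A, (∃ k : ℕ, a ^ (p ^ k) = 1) → a ∈ Inn T) {R : Subgroup Ω} (hR : R ≤ T) :
    (autSys T A hInn).IsFullyAutomized p R := by
  haveI : Finite R := Finite.of_injective (Subgroup.inclusion hR) (Subgroup.inclusion_injective hR)
  refine ⟨hR, ?_⟩
  have hsyl : IsSyl p (autInducedBy T R) ((autSys T A hInn).autGroup R) := by
    apply IsSyl.of_card_le (autInducedBy_le_autGroup _ hR) (isPGroup_autInducedBy hT R)
    intro U _ hUB hU
    apply Subgroup.card_le_of_le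
    intro α hα
    obtain ⟨f, hf⟩ := hU ⟨α, hα⟩
    have hαf : α ^ (p ^ f) = 1 := by
      have h1 := congrArg Subtype.val hf
      rwa [Subgroup.coe_pow] at h1
    obtain ⟨a, ha, hae⟩ := (mem_autSys_autGroup hR α).mp (hUB hα)
    obtain ⟨k, hk1, e, hke⟩ := exists_pow_pPart p a f
    have hak : a ^ k ∈ Inn T := hAp _ (A.pow_mem ha k) ⟨e, hke⟩
    obtain ⟨t, ht⟩ := hak
    have hαk : α ^ k = α := by
      have h1 : α ^ k = α ^ 1 := by
        rw [pow_eq_pow_iff_modEq]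
        exact Nat.ModEq.of_dvd (orderOf_dvd_of_pow_eq_one hαf) hk1
      rwa [pow_one] at h1
    rw [mem_autInducedBy_iff]
    refine ⟨t, t.2, fun x => ?_⟩
    have h2 := pow_restrict hR hae k x
    rw [hαk, ← ht] at h2
    rw [h2]
    rfl
  exact hsyl.2

theorem autSys_receptive {T : Subgroup Ω} {A : Subgroup (MulAut T)} (hInn : Inn T ≤ A)
    {Q : Subgroup Ω} (hQ : Q ≤ T) : (autSys T A hInn).IsReceptive Q := by
  refine ⟨hQ, ?_⟩
  rintro P φ ⟨hP, a, ha, he⟩ hr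
  have hle : extender T P φ ≤ T := by
    unfold extender
    rw [Subgroup.closure_le]
    rintro g ⟨hg, -⟩
    exact hg
  refine ⟨(T.subtype.comp a.toMonoidHom).comp (Subgroup.inclusion hle),
    ⟨hle, a, ha, fun x => rfl⟩, ?_⟩
  intro x hxP hxN
  rw [he]
  rfl

theorem autSys_saturated {p : ℕ} [Fact p.Prime] {T : Subgroup Ω} [Finite T]
    (hT : IsPGroup p T) {A : Subgroup (MulAut T)} (hInn : Inn T ≤ A)
    (hAp : ∀ a ∈ A, (∃ k : ℕ, a ^ (p ^ k) = 1) → a ∈ Inn T) :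
    (autSys T A hInn).IsSaturated p := by
  intro P hP
  refine ⟨P, ⟨P.subtype, subtype_mem _ hP, ?_⟩, autSys_fullyAutomized hT hInn hAp hP,
    autSys_receptive hInn hP⟩
  ext y
  constructor
  · rintro ⟨x, rfl⟩
    exact x.2
  · intro hy
    exact ⟨⟨y, hy⟩, rfl⟩

theorem autSys_subsystem {S : Subgroup Ω} (F : FusionSystem S) {T : Subgroup Ω} (hTS : T ≤ S)
    {A : Subgroup (MulAut T)} (hInn : Inn T ≤ A) (hAF : A ≤ F.autGroup T) :
    (autSys T A hInn).IsSubsystemOf F := by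
  rintro R φ ⟨hR, a, ha, he⟩
  have h1 := restrict_mem F (hom_of_mem_autGroup F hTS (hAF ha)) hR
  have h2 : φ = (T.subtype.comp a.toMonoidHom).comp (Subgroup.inclusion hR) := by
    ext x
    exact he x
  rw [h2]
  exact h1

theorem le_inn_of_autSys_inner {T : Subgroup Ω} {A : Subgroup (MulAut T)} {hInn : Inn T ≤ A}
    (h : ∀ P, (autSys T A hInn).Hom P = (innerFusionSystem T).Hom P) : A ≤ Inn T := by
  intro a ha
  have h1 : T.subtype.comp a.toMonoidHom ∈ (autSys T A hInn).Hom T :=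
    ⟨le_rfl, a, ha, fun x => rfl⟩
  rw [h T] at h1
  obtain ⟨-, g, hg, hge⟩ := h1
  refine ⟨⟨g, hg⟩, ?_⟩
  apply MulEquiv.ext
  intro x
  apply Subtype.ext
  exact (hge x).symm

theorem pow_eq_one_of_mem_inn {p : ℕ} {T : Subgroup Ω} (hT : IsPGroup p T) {b : MulAut T}
    (hb : b ∈ Inn T) : ∃ k : ℕ, b ^ (p ^ k) = 1 := by
  obtain ⟨t, rfl⟩ := hb
  obtain ⟨k, hk⟩ := hT t
  exact ⟨k, by rw [← map_pow, hk, map_one]⟩

theorem inn_le_autGroup {S : Subgroup Ω} (F : FusionSystem S) {T : Subgroup Ω} (hTS : T ≤ S) :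
    Inn T ≤ F.autGroup T := by
  rintro _ ⟨t, rfl⟩
  rw [mem_autGroup_iff F hTS]
  have h1 : T.subtype.comp (MulAut.conj t).toMonoidHom = conjHom T (t : Ω) := by
    ext x
    rfl
  rw [h1]
  exact F.conj_mem hTS (hTS t.2)

/-- in `Inn G ⟨b⟩` with `b ^ q = 1`, `q`-th powers are inner -/
theorem pow_mem_inn_of_mem_sup {G : Type*} [Group G] {b : MulAut G} {q : ℕ} (hbq : b ^ q = 1)
    {a : MulAut G} (ha : a ∈ Inn G ⊔ Subgroup.zpowers b) : a ^ q ∈ Inn G := by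
  have hmem : a ∈ ((Inn G ⊔ Subgroup.zpowers b : Subgroup (MulAut G)) : Set (MulAut G)) := ha
  rw [Subgroup.normal_mul] at hmem
  obtain ⟨n, hn, h, hh, rfl⟩ := hmem
  obtain ⟨i, rfl⟩ := Subgroup.mem_zpowers_iff.mp hh
  have h1 : ((n * b ^ i : MulAut G) : MulAut G ⧸ Inn G) = ((b ^ i : MulAut G) : MulAut G ⧸ Inn G) := by
    rw [QuotientGroup.mk_mul, (QuotientGroup.eq_one_iff n).mpr hn, one_mul]
  have h2 : (b ^ i) ^ q = 1 := by
    rw [← zpow_natCast, ← zpow_mul, mul_comm, zpow_mul, zpow_natCast, hbq, one_zpow]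
  rw [← QuotientGroup.eq_one_iff, QuotientGroup.mk_pow, h1, ← QuotientGroup.mk_pow, h2]
  rfl

theorem mem_inn_of_pElement {p q : ℕ} [hp : Fact p.Prime] (hqp : Nat.Coprime q p) {G : Type*} [Group G]
    {b : MulAut G} (hbq : b ^ q = 1) {a : MulAut G} (ha : a ∈ Inn G ⊔ Subgroup.zpowers b)
    (hap : ∃ k : ℕ, a ^ (p ^ k) = 1) : a ∈ Inn G := by
  obtain ⟨k, hk⟩ := hap
  have h1 := pow_mem_inn_of_mem_sup hbq ha
  by_cases hk1 : p ^ k = 1
  · rw [hk1, pow_one] at hk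
    rw [hk]
    exact Subgroup.one_mem _
  · have hpos : 0 < p ^ k := pow_pos hp.out.pos k
    have h2 : 1 < p ^ k := by omega
    have hcop : Nat.Coprime q (p ^ k) := Nat.Coprime.pow_right k hqp
    obtain ⟨u, -, hu⟩ := Nat.exists_mul_mod_eq_one_of_coprime hcop h2
    have h3 : a ^ (q * u) = a := by
      have h4 : a ^ (q * u) = a ^ 1 := by
        rw [pow_eq_pow_iff_modEq]
        apply Nat.ModEq.of_dvd (orderOf_dvd_of_pow_eq_one hk)
        show q * u % p ^ k = 1 % p ^ k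
        rw [hu, Nat.mod_eq_of_lt h2]
      rwa [pow_one] at h4
    rw [← h3, pow_mul]
    exact Subgroup.pow_mem _ h1 u

end Cfsg.Agent.Lib.Helper2.AutSys
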