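import Mathlib
import Cfsg.Agent.Lib.Helper5.RankOneHom

set_option autoImplicit false
set_option linter.style.haveILetI false

/-!
Abstract rank-one analysis (for the twisted `Out` farm S2129 / S2130).

Two homomorphisms `ψ : SL₂(k) → S`, `φ' : SL₂(k') → S` with kernels inside `{±1}` such that `ψ`
maps upper (lower) unitriangular matrices into the `φ'`-image of the upper (lower) unitriangular
matrices differ by a field homomorphism `σ : k → k'` and a diagonal twist `c`: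
`ψ(u(t)) = φ'(u(c σ t))`, `ψ(l(t)) = φ'(l(c⁻¹ σ t))`, `ψ(d(t)) = φ'(d(σ t))`.

Also: an abstract criterion for the kernel of `φ : SL₂(k) → S` to lie in `{±1}` (triangular
decomposition in the target).
-/

namespace Cfsg.Agent.Lib.Helper2.RankOneAbs

open Cfsg.Agent.Lib.Helper5.RankOneHom

variable {k : Type*} [Field k] {k' : Type*} [Field k'] {S : Type*} [Group S]

local notation "SL2" => Matrix.SpecialLinearGroup (Fin 2)

/-! ### computations in `SL₂` -/

theorem uu_add (a b : k) : uu (a + b) = uu a * uu b := by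
  apply Subtype.ext
  rw [Matrix.SpecialLinearGroup.coe_mul]
  ext i j
  fin_cases i <;> fin_cases j <;> simp [uu, Matrix.mul_apply, Fin.sum_univ_two, add_comm]

theorem ll_add (a b : k) : ll (a + b) = ll a * ll b := by
  apply Subtype.ext
  rw [Matrix.SpecialLinearGroup.coe_mul]
  ext i j
  fin_cases i <;> fin_cases j <;> simp [ll, Matrix.mul_apply, Fin.sum_univ_two]

theorem uu_zero : uu (0 : k) = 1 := by
  apply Subtype.ext
  ext i j
  fin_cases i <;> fin_cases j <;> simp [uu]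

theorem ll_zero : ll (0 : k) = 1 := by
  apply Subtype.ext
  ext i j
  fin_cases i <;> fin_cases j <;> simp [ll]

theorem uu_neg (a : k) : uu (-a) = (uu a)⁻¹ := by
  rw [eq_inv_iff_mul_eq_one, ← uu_add, neg_add_cancel, uu_zero]

theorem ll_neg (a : k) : ll (-a) = (ll a)⁻¹ := by
  rw [eq_inv_iff_mul_eq_one, ← ll_add, neg_add_cancel, ll_zero]

theorem uu_pm (x : k) (h : uu x = 1 ∨ uu x = -1) : x = 0 := by
  rcases h with h | h
  · have := congrArg (fun X : SL2 k => (X : Matrix (Fin 2) (Fin 2) k) 0 1) h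
    simpa [uu] using this
  · have := congrArg (fun X : SL2 k => (X : Matrix (Fin 2) (Fin 2) k) 0 1) h
    simpa [uu] using this

theorem ll_pm (x : k) (h : ll x = 1 ∨ ll x = -1) : x = 0 := by
  rcases h with h | h
  · have := congrArg (fun X : SL2 k => (X : Matrix (Fin 2) (Fin 2) k) 1 0) h
    simpa [ll] using this
  · have := congrArg (fun X : SL2 k => (X : Matrix (Fin 2) (Fin 2) k) 1 0) h
    simpa [ll] using this

/-- `n(t) u(u) n(t)⁻¹ = l(-t⁻² u)` where `n(t) = u(t) l(-t⁻¹) u(t)` -/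
theorem nE_conj (t u : k) (ht : t ≠ 0) :
    (uu t * ll (-t⁻¹) * uu t) * uu u * (uu t * ll (-t⁻¹) * uu t)⁻¹ = ll (-(t⁻¹ ^ 2 * u)) := by
  rw [← dd_mul_nn t ht, mul_inv_eq_iff_eq_mul]
  apply Subtype.ext
  simp only [Matrix.SpecialLinearGroup.coe_mul]
  ext i j
  fin_cases i <;> fin_cases j <;>
    simp [dd, uu, ll, nn, Matrix.mul_apply, Fin.sum_univ_two]
  field_simp

/-- `d(t) u(u) d(t)⁻¹ = u(t² u)` -/
theorem dd_conj (t u : k) (ht : t ≠ 0) :
    dd t ht * uu u * (dd t ht)⁻¹ = uu (t ^ 2 * u) := by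
  rw [mul_inv_eq_iff_eq_mul]
  apply Subtype.ext
  simp only [Matrix.SpecialLinearGroup.coe_mul]
  ext i j
  fin_cases i <;> fin_cases j <;>
    simp [dd, uu, Matrix.mul_apply, Fin.sum_univ_two]
  field_simp

/-- `d(t) l(u) d(t)⁻¹ = l(t⁻² u)` -/
theorem dd_conj_ll (t u : k) (ht : t ≠ 0) :
    dd t ht * ll u * (dd t ht)⁻¹ = ll (t⁻¹ ^ 2 * u) := by
  rw [mul_inv_eq_iff_eq_mul]
  apply Subtype.ext
  simp only [Matrix.SpecialLinearGroup.coe_mul]
  ext i j
  fin_cases i <;> fin_cases j <;>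
    simp [dd, ll, Matrix.mul_apply, Fin.sum_univ_two]
  field_simp

theorem dd_nn_mul (a e : k) (ha : a ≠ 0) (he : e ≠ 0) :
    (dd a ha * nn) * (dd e he * nn)
      = dd (-(a / e)) (neg_ne_zero.2 (div_ne_zero ha he)) := by
  apply Subtype.ext
  simp only [Matrix.SpecialLinearGroup.coe_mul]
  ext i j
  fin_cases i <;> fin_cases j <;>
    simp [dd, nn, Matrix.mul_apply, Fin.sum_univ_two]
  · field_simp
  · field_simp

/-- `n(a) n(e) = d(-a/e)` -/
theorem nE_mul (a e : k) (ha : a ≠ 0) (he : e ≠ 0) :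
    (uu a * ll (-a⁻¹) * uu a) * (uu e * ll (-e⁻¹) * uu e)
      = dd (-(a / e)) (neg_ne_zero.2 (div_ne_zero ha he)) := by
  rw [← dd_mul_nn a ha, ← dd_mul_nn e he, dd_nn_mul]

/-- `d(t) = n(t) n(-1)` -/
theorem dd_eq (t : k) (ht : t ≠ 0) :
    dd t ht = (uu t * ll (-t⁻¹) * uu t) * (uu (-1) * ll (-(-1 : k)⁻¹) * uu (-1)) := by
  rw [nE_mul t (-1) ht (neg_ne_zero.2 one_ne_zero)]
  congr 1
  rw [div_neg, div_one, neg_neg]

/-! ### homomorphisms with kernel in `{±1}` -/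

/-- `φ ∘ u` is injective when the kernel of `φ` is in `{±1}` -/
theorem hom_uu_inj (φ : SL2 k →* S) (hφ : ∀ X, φ X = 1 → X = 1 ∨ X = -1) (a b : k)
    (h : φ (uu a) = φ (uu b)) : a = b := by
  have h1 : φ (uu (a + -b)) = 1 := by
    rw [uu_add, uu_neg, map_mul, map_inv, h, mul_inv_cancel]
  have := uu_pm _ (hφ _ h1)
  linear_combination this

/-- `φ ∘ l` is injective when the kernel of `φ` is in `{±1}` -/
theorem hom_ll_inj (φ : SL2 k →* S) (hφ : ∀ X, φ X = 1 → X = 1 ∨ X = -1) (a b : k)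
    (h : φ (ll a) = φ (ll b)) : a = b := by
  have h1 : φ (ll (a + -b)) = 1 := by
    rw [ll_add, ll_neg, map_mul, map_inv, h, mul_inv_cancel]
  have := ll_pm _ (hφ _ h1)
  linear_combination this

/-- the key rank-one relation: if `u(a) l(b) u(a)` conjugates `u(u)` into the lower unitriangular
group (modulo the kernel of `φ`) then `a b = -1` -/
theorem key (φ : SL2 k →* S) (hφ : ∀ X, φ X = 1 → X = 1 ∨ X = -1)
    (a b s u : k) (hu : u ≠ 0)
    (h : φ ((uu a * ll b * uu a) * uu u * (uu a * ll b * uu a)⁻¹) = φ (ll s)) :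
    a * b = -1 := by
  set M : SL2 k := uu a * ll b * uu a with hM
  have hφK : φ (M * uu u * M⁻¹ * (ll s)⁻¹) = 1 := by
    rw [map_mul, map_inv, h, mul_inv_cancel]
  have hp : (1 + a * b) * u = 0 ∨ ((1 + a * b) ^ 2) * u = 0 := by
    rcases hφ _ hφK with hK | hK
    · left
      rw [mul_inv_eq_one, mul_inv_eq_iff_eq_mul] at hK
      have e := congrArg (fun X : SL2 k => (X : Matrix (Fin 2) (Fin 2) k)) hK
      simp only [hM, Matrix.SpecialLinearGroup.coe_mul] at e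
      have e01 := congrFun (congrFun e 0) 1
      simp [uu, ll, Matrix.mul_apply, Fin.sum_univ_two] at e01
      rcases e01 with h | h
      · rw [h, zero_mul]
      · rw [h, mul_zero]
    · right
      rw [mul_inv_eq_iff_eq_mul, mul_inv_eq_iff_eq_mul] at hK
      have e := congrArg (fun X : SL2 k => (X : Matrix (Fin 2) (Fin 2) k)) hK
      simp only [hM, Matrix.SpecialLinearGroup.coe_mul, Matrix.SpecialLinearGroup.coe_neg,
        Matrix.SpecialLinearGroup.coe_one] at e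
      have e00 := congrFun (congrFun e 0) 0
      have e01 := congrFun (congrFun e 0) 1
      simp [uu, ll, Matrix.mul_apply, Fin.sum_univ_two] at e00 e01
      linear_combination (1 + a * b) * e01 - ((1 + a * b) * a + a) * e00
  have hp0 : 1 + a * b = 0 := by
    rcases hp with h | h
    · rcases mul_eq_zero.1 h with h | h
      · exact h
      · exact absurd h hu
    · rcases mul_eq_zero.1 h with h | h
      · exact pow_eq_zero_iff (two_ne_zero) |>.1 h
      · exact absurd h hu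
  linear_combination hp0

/-- an additive map between fields, the first finite, with `σ 1 = 1` and
`σ(t² u) = σ(t)² σ(u)` is multiplicative -/
theorem mul_of_sq [Finite k] (σ : k → k') (hadd : ∀ s t, σ (s + t) = σ s + σ t)
    (hone : σ 1 = 1) (hsq : ∀ t u, σ (t ^ 2 * u) = (σ t) ^ 2 * σ u) :
    ∀ s u, σ (s * u) = σ s * σ u := by
  have hzero : σ 0 = 0 := by
    have := hadd 0 0
    rw [add_zero] at this
    linear_combination -this
  have hneg : ∀ x, σ (-x) = -σ x := by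
    intro x
    have := hadd x (-x)
    rw [add_neg_cancel, hzero] at this
    linear_combination -this
  have hsub : ∀ x y, σ (x - y) = σ x - σ y := by
    intro x y
    rw [sub_eq_add_neg, hadd, hneg]
    ring
  have hsq1 : ∀ t, σ (t ^ 2) = (σ t) ^ 2 := by
    intro t
    have := hsq t 1
    rwa [mul_one, hone, mul_one] at this
  have hsqmul : ∀ t u, σ (t ^ 2 * u) = σ (t ^ 2) * σ u := by
    intro t u
    rw [hsq, hsq1]
  intro s u
  by_cases h2 : (2 : k) = 0
  · have hinj : Function.Injective (fun x : k => x ^ 2) := by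
      intro x y hxy
      have hxy' : x ^ 2 = y ^ 2 := hxy
      have : (x - y) ^ 2 = 0 := by
        linear_combination hxy' + (y ^ 2 - x * y) * h2
      exact sub_eq_zero.1 ((pow_eq_zero_iff two_ne_zero).1 this)
    obtain ⟨t, rfl⟩ := (Finite.injective_iff_surjective.1 hinj) s
    exact hsqmul t u
  · have hs : s = ((s + 1) / 2) ^ 2 - ((s - 1) / 2) ^ 2 := by
      field_simp
      ring
    rw [hs, sub_mul, hsub, hsqmul, hsqmul, hsub]
    ring

/-- the parameter function of `ψ` against `φ'` on a pair of one-parameter subgroups -/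
theorem exists_fun (ψ : SL2 k →* S) (φ' : SL2 k' →* S) (X : k → SL2 k) (X' : k' → SL2 k')
    (hXadd : ∀ a b, X (a + b) = X a * X b) (hX'add : ∀ a b, X' (a + b) = X' a * X' b)
    (hXinj : ∀ a b, ψ (X a) = ψ (X b) → a = b) (hX'inj : ∀ a b, φ' (X' a) = φ' (X' b) → a = b)
    (h1 : ∀ t, ∃ t', ψ (X t) = φ' (X' t')) :
    ∃ φ₀ : k → k', (∀ t, ψ (X t) = φ' (X' (φ₀ t))) ∧
      (∀ s t, φ₀ (s + t) = φ₀ s + φ₀ t) ∧ Function.Injective φ₀ := by
  choose φ₀ hφ using h1
  refine ⟨φ₀, hφ, ?_, ?_⟩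
  · intro s t
    apply hX'inj
    rw [← hφ, hXadd, map_mul, hφ, hφ, hX'add, map_mul]
  · intro s t hst
    apply hXinj
    rw [hφ, hφ, hst]

/-- **abstract C1+C2**: `ψ(u(t)) = φ'(u(c σ t))`, `ψ(l(t)) = φ'(l(c⁻¹ σ t))`,
`ψ(d(t)) = φ'(d(σ t))`, `ψ(n) = φ'(d(c) n)` for a field homomorphism `σ`. -/
theorem rank_one_hom [Finite k] (ψ : SL2 k →* S) (φ' : SL2 k' →* S)
    (hψ : ∀ X, ψ X = 1 → X = 1 ∨ X = -1) (hφ' : ∀ X, φ' X = 1 → X = 1 ∨ X = -1)
    (h1 : ∀ t, ∃ t', ψ (uu t) = φ' (uu t')) (h2 : ∀ t, ∃ t', ψ (ll t) = φ' (ll t')) :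
    ∃ (c : k'ˣ) (σ : k →+* k'),
      (∀ t, ψ (uu t) = φ' (uu ((c : k') * σ t))) ∧
      (∀ t, ψ (ll t) = φ' (ll (((c⁻¹ : k'ˣ) : k') * σ t))) ∧
      (∀ t (ht : t ≠ 0) (ht' : σ t ≠ 0), ψ (dd t ht) = φ' (dd (σ t) ht')) ∧
      ψ nn = φ' (dd (c : k') c.ne_zero * nn) := by
  obtain ⟨φ₀, hφ, hφadd, hφinj⟩ := exists_fun ψ φ' uu uu uu_add uu_add
    (hom_uu_inj ψ hψ) (hom_uu_inj φ' hφ') h1
  obtain ⟨ψ₀, hψ₀, hψadd, hψinj⟩ := exists_fun ψ φ' ll ll ll_add ll_add
    (hom_ll_inj ψ hψ) (hom_ll_inj φ' hφ') h2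
  have hφ0 : φ₀ 0 = 0 := by
    have := hφadd 0 0
    rw [add_zero] at this
    linear_combination -this
  have hψ0 : ψ₀ 0 = 0 := by
    have := hψadd 0 0
    rw [add_zero] at this
    linear_combination -this
  have hφne : ∀ t, t ≠ 0 → φ₀ t ≠ 0 := fun t ht h0 => ht (hφinj (h0.trans hφ0.symm))
  obtain ⟨c, hcdef⟩ : ∃ c, c = φ₀ 1 := ⟨_, rfl⟩
  have hc : c ≠ 0 := by
    rw [hcdef]
    exact hφne 1 one_ne_zero
  have hφneg1 : φ₀ (-1) = -c := by
    have := hφadd (-1) 1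
    rw [neg_add_cancel, hφ0, ← hcdef] at this
    linear_combination -this
  -- the key relation
  have hkey : ∀ t, t ≠ 0 → φ₀ t * ψ₀ (-t⁻¹) = -1 := by
    intro t ht
    have hθ := congrArg ψ (nE_conj t 1 ht)
    rw [map_mul, map_mul, map_inv, map_mul, map_mul, hφ, hψ₀, hφ, hψ₀, ← hcdef, ← map_mul,
      ← map_mul, ← map_inv, ← map_mul, ← map_mul] at hθ
    exact key φ' hφ' _ _ _ c hc hθ
  have hψform : ∀ t, t ≠ 0 → ψ₀ (-t⁻¹) = -(φ₀ t)⁻¹ := by
    intro t ht
    have h := hkey t ht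
    have ha := hφne t ht
    have : ψ₀ (-t⁻¹) = -1 / φ₀ t := by
      rw [eq_div_iff ha]
      linear_combination h
    rw [this, neg_div, one_div]
  -- the `d`-elements
  have hH : ∀ t (ht : t ≠ 0), ψ (dd t ht) = φ' (dd (φ₀ t / c) (div_ne_zero (hφne t ht) hc)) := by
    intro t ht
    rw [dd_eq t ht, map_mul, map_mul, map_mul, map_mul, map_mul, hφ, hψ₀, hφ, hψ₀,
      hψform t ht, hψform (-1) (by norm_num), ← map_mul, ← map_mul, ← map_mul, ← map_mul,
      ← map_mul, nE_mul (φ₀ t) (φ₀ (-1)) (hφne t ht) (hφne (-1) (by norm_num))]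
    congr 2
    rw [hφneg1]
    field_simp
  -- the field homomorphism
  have hσadd : ∀ s t, φ₀ (s + t) / c = φ₀ s / c + φ₀ t / c := by
    intro s t
    rw [hφadd, add_div]
  have hσone : φ₀ 1 / c = 1 := by
    rw [← hcdef, div_self hc]
  have hσsq : ∀ t u, φ₀ (t ^ 2 * u) / c = (φ₀ t / c) ^ 2 * (φ₀ u / c) := by
    intro t u
    by_cases ht : t = 0
    · subst ht
      rw [zero_pow two_ne_zero, zero_mul, hφ0, zero_div, zero_pow two_ne_zero, zero_mul]
    · have hσt : φ₀ t / c ≠ 0 := div_ne_zero (hφne t ht) hc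
      have hθ := congrArg ψ (dd_conj t u ht)
      rw [map_mul, map_mul, map_inv, hφ, hφ, hH t ht, ← map_inv, ← map_mul, ← map_mul,
        dd_conj _ _ hσt] at hθ
      have := hom_uu_inj φ' hφ' _ _ hθ
      rw [← this]
      field_simp
  have hσmul := mul_of_sq (fun t => φ₀ t / c) hσadd hσone hσsq
  set σ : k →+* k' :=
    { toFun := fun t => φ₀ t / c
      map_one' := hσone
      map_mul' := hσmul
      map_zero' := by rw [hφ0, zero_div]
      map_add' := hσadd } with hσ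
  have hσapp : ∀ t, σ t = φ₀ t / c := fun t => rfl
  refine ⟨Units.mk0 c hc, σ, ?_, ?_, ?_, ?_⟩
  · intro t
    rw [hφ, hσapp, Units.val_mk0, mul_div_cancel₀ _ hc]
  · intro t
    rw [hψ₀]
    congr 2
    rw [Units.val_inv_eq_inv_val, Units.val_mk0]
    by_cases ht : t = 0
    · subst ht
      rw [hψ0, map_zero, mul_zero]
    · have hs : -t⁻¹ ≠ 0 := neg_ne_zero.2 (inv_ne_zero ht)
      have hts : -(-t⁻¹)⁻¹ = t := by
        field_simp
      have e := hψform (-t⁻¹) hs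
      rw [hts] at e
      have e2 : φ₀ (-t⁻¹) = c * σ (-t⁻¹) := by
        rw [hσapp, mul_div_cancel₀ _ hc]
      have hσt : σ t ≠ 0 := fun h0 => ht ((map_eq_zero σ).1 h0)
      rw [e, e2, map_neg, map_inv₀]
      field_simp
  · intro t ht ht'
    rw [hH t ht]
    rfl
  · rw [nn_eq, map_mul, map_mul, hφ, hψ₀, dd_mul_nn, map_mul, map_mul, Units.val_mk0, ← hcdef]
    have := hψform 1 one_ne_zero
    rw [inv_one] at this
    rw [this, ← hcdef]

/-- **abstract C1+C2**, bijective version: if moreover every `φ'(u(t'))` is a `ψ(u(t))` then `σ`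
is an isomorphism of fields. -/
theorem rank_one_equiv [Finite k] (ψ : SL2 k →* S) (φ' : SL2 k' →* S)
    (hψ : ∀ X, ψ X = 1 → X = 1 ∨ X = -1) (hφ' : ∀ X, φ' X = 1 → X = 1 ∨ X = -1)
    (h1 : ∀ t, ∃ t', ψ (uu t) = φ' (uu t')) (h2 : ∀ t, ∃ t', ψ (ll t) = φ' (ll t'))
    (hsurj : ∀ t', ∃ t, ψ (uu t) = φ' (uu t')) :
    ∃ (c : k'ˣ) (σ : k ≃+* k'),
      (∀ t, ψ (uu t) = φ' (uu ((c : k') * σ t))) ∧
      (∀ t, ψ (ll t) = φ' (ll (((c⁻¹ : k'ˣ) : k') * σ t))) ∧
      (∀ t (ht : t ≠ 0) (ht' : σ t ≠ 0), ψ (dd t ht) = φ' (dd (σ t) ht')) ∧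
      ψ nn = φ' (dd (c : k') c.ne_zero * nn) := by
  obtain ⟨c, σ, hu, hl, hd, hn⟩ := rank_one_hom ψ φ' hψ hφ' h1 h2
  have hbij : Function.Bijective σ := by
    refine ⟨σ.injective, fun t' => ?_⟩
    obtain ⟨t, ht⟩ := hsurj ((c : k') * t')
    refine ⟨t, ?_⟩
    rw [hu] at ht
    have := hom_uu_inj φ' hφ' _ _ ht
    exact mul_left_cancel₀ c.ne_zero this
  exact ⟨c, RingEquiv.ofBijective σ hbij, hu, hl, hd, hn⟩

/-- **abstract C1+C2**, version with an isomorphism `θ : S ≃* S'` between the targets of two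
rank-one homomorphisms `φ`, `φ'` such that `θ` maps `φ(u(k))` ONTO `φ'(u(k'))` and `φ(l(k))` into
`φ'(l(k'))`. -/
theorem rank_one_iso [Finite k] {S' : Type*} [Group S'] (φ : SL2 k →* S) (φ' : SL2 k' →* S')
    (θ : S ≃* S')
    (hφ : ∀ X, φ X = 1 → X = 1 ∨ X = -1) (hφ' : ∀ X, φ' X = 1 → X = 1 ∨ X = -1)
    (h1 : ∀ t, ∃ t', θ (φ (uu t)) = φ' (uu t')) (h2 : ∀ t, ∃ t', θ (φ (ll t)) = φ' (ll t'))
    (hsurj : ∀ t', ∃ t, θ (φ (uu t)) = φ' (uu t')) :
    ∃ (c : k'ˣ) (σ : k ≃+* k'),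
      (∀ t, θ (φ (uu t)) = φ' (uu ((c : k') * σ t))) ∧
      (∀ t, θ (φ (ll t)) = φ' (ll (((c⁻¹ : k'ˣ) : k') * σ t))) ∧
      (∀ t (ht : t ≠ 0) (ht' : σ t ≠ 0), θ (φ (dd t ht)) = φ' (dd (σ t) ht')) ∧
      θ (φ nn) = φ' (dd (c : k') c.ne_zero * nn) := by
  have hψ : ∀ X, (θ.toMonoidHom.comp φ) X = 1 → X = 1 ∨ X = -1 := by
    intro X hX
    apply hφ
    have : θ (φ X) = 1 := hX
    rwa [map_eq_one_iff θ θ.injective] at this
  exact rank_one_equiv (θ.toMonoidHom.comp φ) φ' hψ hφ' h1 h2 hsurj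

/-! ### abstract C0: the kernel of a rank-one homomorphism into a group with a triangular
decomposition -/

theorem dd_one : dd (1 : k) one_ne_zero = 1 := by
  apply Subtype.ext
  ext i j
  fin_cases i <;> fin_cases j <;> simp [dd]

theorem dd_neg_one : dd (-1 : k) (neg_ne_zero.2 one_ne_zero) = -1 := by
  apply Subtype.ext
  ext i j
  fin_cases i <;> fin_cases j <;> simp [dd]

/-- **abstract C0**: let `φ : SL₂(k) → S` map the upper unitriangular matrices into a subgroup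
`U`, the lower ones into `V` and the diagonal ones into `H`, where `H` normalises `U`,
`U ∩ V = 1 = U ∩ H`, and `φ` is injective on the upper unitriangular matrices and `φ(l(1)) ≠ 1`.
Then the kernel of `φ` is contained in `{±1}`. -/
theorem ker_of_triangular (φ : SL2 k →* S) (U H V : Subgroup S)
    (hU : ∀ t, φ (uu t) ∈ U) (hV : ∀ t, φ (ll t) ∈ V) (hH : ∀ t ht, φ (dd t ht) ∈ H)
    (hnorm : ∀ h ∈ H, ∀ u ∈ U, h * u * h⁻¹ ∈ U)
    (hUV : ∀ g, g ∈ U → g ∈ V → g = 1) (hUH : ∀ g, g ∈ U → g ∈ H → g = 1)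
    (hinjU : ∀ t, φ (uu t) = 1 → t = 0) (hV1 : φ (ll 1) ≠ 1) :
    ∀ M, φ M = 1 → M = 1 ∨ M = -1 := by
  intro M hM
  by_cases hc : (M : Matrix (Fin 2) (Fin 2) k) 1 0 = 0
  · obtain ⟨a, b, ha, hdec⟩ : ∃ (a b : k) (ha : a ≠ 0), M = uu (a * b) * dd a ha := by
      obtain ⟨ha, hdec⟩ := decomp_zero M hc
      exact ⟨_, _, ha, hdec⟩
    have hφ : φ (uu (a * b)) * φ (dd a ha) = 1 := by
      rw [← map_mul, ← hdec, hM]
    have hd1 : φ (dd a ha) = 1 := by
      apply hUH _ _ (hH a ha)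
      have : φ (dd a ha) = (φ (uu (a * b)))⁻¹ := eq_inv_of_mul_eq_one_right hφ
      rw [this]
      exact U.inv_mem (hU _)
    have hu1 : φ (uu (a * b)) = 1 := by
      rwa [hd1, mul_one] at hφ
    have hb0 : b = 0 := by
      rcases mul_eq_zero.1 (hinjU _ hu1) with h | h
      · exact absurd h ha
      · exact h
    have hMdd : M = dd a ha := by
      rw [hdec, hb0, mul_zero, uu_zero, one_mul]
    have hx : φ (uu (a ^ 2 * 1 + -1)) = 1 := by
      rw [uu_add, uu_neg, ← dd_conj a 1 ha, map_mul, map_mul, map_mul, map_inv, map_inv, hd1]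
      simp
    have haa : a ^ 2 = 1 := by
      have := hinjU _ hx
      linear_combination this
    have hfac : (a - 1) * (a + 1) = 0 := by linear_combination haa
    rcases mul_eq_zero.1 hfac with h | h
    · left
      have ha1 : a = 1 := by linear_combination h
      subst ha1
      rw [hMdd, dd_one]
    · right
      have ha1 : a = -1 := by linear_combination h
      subst ha1
      rw [hMdd, dd_neg_one]
  · exfalso
    have hdec := decomp_ne M hc
    set x := (M : Matrix (Fin 2) (Fin 2) k) 0 0 / (M : Matrix (Fin 2) (Fin 2) k) 1 0 with hx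
    set y := (M : Matrix (Fin 2) (Fin 2) k) 1 1 / (M : Matrix (Fin 2) (Fin 2) k) 1 0 with hy
    have hs : -((M : Matrix (Fin 2) (Fin 2) k) 1 0)⁻¹ ≠ 0 := by simp [hc]
    set s := -((M : Matrix (Fin 2) (Fin 2) k) 1 0)⁻¹ with hsdef
    have hdec' : M = uu x * dd s hs * nn * uu y := hdec
    have hn : φ nn = (φ (dd s hs))⁻¹ * ((φ (uu x))⁻¹ * (φ (uu y))⁻¹) := by
      have : φ (uu x) * φ (dd s hs) * φ nn * φ (uu y) = 1 := by
        rw [← map_mul, ← map_mul, ← map_mul, ← hdec', hM]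
      have e : φ nn = (φ (dd s hs))⁻¹ * ((φ (uu x))⁻¹ * (φ (uu x) * φ (dd s hs) * φ nn * φ (uu y))
          * (φ (uu y))⁻¹) := by group
      rw [e, this, mul_one]
    have hl : φ (ll 1) ∈ U := by
      rw [Rel.ll_eq, map_mul, map_mul, map_inv, hn]
      set u₁ := (φ (uu x))⁻¹ * (φ (uu y))⁻¹ with hu₁
      have hu₁U : u₁ ∈ U := U.mul_mem (U.inv_mem (hU _)) (U.inv_mem (hU _))
      have e : ((φ (dd s hs))⁻¹ * u₁)⁻¹ * φ (uu (-1)) * ((φ (dd s hs))⁻¹ * u₁)
          = u₁⁻¹ * (φ (dd s hs) * φ (uu (-1)) * (φ (dd s hs))⁻¹) * u₁ := by group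
      rw [e]
      exact U.mul_mem (U.mul_mem (U.inv_mem hu₁U) (hnorm _ (hH s hs) _ (hU _))) hu₁U
    exact hV1 (hUV _ hl (hV 1))

end Cfsg.Agent.Lib.Helper2.RankOneAbs
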