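import Mathlib
import Cfsg.Agent.Lib.Helper5.TwAutDefs
import Cfsg.Agent.Lib.Helper5.ChevRankOne
import Cfsg.Agent.Lib.Helper2.RankOneAbs

set_option autoImplicit false
set_option linter.style.haveILetI false

/-!
Twisted-Out farm (S2129 ³D₄, S2130 ²E₆), unit T3: the rank-one relations for the twisted root
elements of an orbit `J` of pairwise orthogonal fundamental roots.

The homomorphism is built directly as the product of the commuting rank-one homomorphisms
`φ_i ∘ SL₂(g i)`, `i ∈ J` (`psiHom`); the relations follow from those of `SL₂`.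
-/

namespace Cfsg.Agent.Lib.Helper2.TwAut

open Cfsg Cfsg.Lie Cfsg.Agent.Lib.Helper5.ChevStruct Cfsg.Agent.Lib.Helper5.ChevSym
open Cfsg.Agent.Lib.Helper5.TwAut Cfsg.Agent.Lib.Helper5.RankOneHom

local notation "SL2" => Matrix.SpecialLinearGroup (Fin 2)

section sl2

variable {k : Type*} [Field k]

theorem sl2_dd_mul (s s' : k) (hs : s ≠ 0) (hs' : s' ≠ 0) :
    dd s hs * dd s' hs' = dd (s * s') (mul_ne_zero hs hs') := by
  apply Subtype.ext
  simp only [Matrix.SpecialLinearGroup.coe_mul]
  ext i j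
  fin_cases i <;> fin_cases j <;> simp [dd, Matrix.mul_apply, Fin.sum_univ_two, mul_comm]

theorem sl2_dd_uu (s t : k) (hs : s ≠ 0) : dd s hs * uu t = uu (s ^ 2 * t) * dd s hs := by
  apply Subtype.ext
  simp only [Matrix.SpecialLinearGroup.coe_mul]
  ext i j
  fin_cases i <;> fin_cases j <;> simp [dd, uu, Matrix.mul_apply, Fin.sum_univ_two]
  field_simp

theorem sl2_nn_dd (s : k) (hs : s ≠ 0) : nn * dd s hs = dd s⁻¹ (inv_ne_zero hs) * nn := by
  apply Subtype.ext
  simp only [Matrix.SpecialLinearGroup.coe_mul]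
  ext i j
  fin_cases i <;> fin_cases j <;> simp [dd, nn, Matrix.mul_apply, Fin.sum_univ_two]

theorem sl2_nn_sq : (nn : SL2 k) * nn = dd (-1) (neg_ne_zero.2 one_ne_zero) := by
  apply Subtype.ext
  simp only [Matrix.SpecialLinearGroup.coe_mul]
  ext i j
  fin_cases i <;> fin_cases j <;> simp [dd, nn, Matrix.mul_apply, Fin.sum_univ_two]

theorem sl2_nn_uu (t : k) : nn * uu t = ll (-t) * nn := by
  apply Subtype.ext
  simp only [Matrix.SpecialLinearGroup.coe_mul]
  ext i j
  fin_cases i <;> fin_cases j <;> simp [uu, ll, nn, Matrix.mul_apply, Fin.sum_univ_two]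

theorem sl2_nn_ll (t : k) : nn * ll t = uu (-t) * nn := by
  apply Subtype.ext
  simp only [Matrix.SpecialLinearGroup.coe_mul]
  ext i j
  fin_cases i <;> fin_cases j <;> simp [uu, ll, nn, Matrix.mul_apply, Fin.sum_univ_two]

/-- the relations of rank one for the images of the standard elements of `SL₂` -/
theorem rel_of_hom {G : Type*} [Group G] (Φ : SL2 k →* G) (X Y H : k → G) (n : G)
    (hX : ∀ t, Φ (uu t) = X t) (hY : ∀ t, Φ (ll t) = Y t)
    (hH : ∀ s (hs : s ≠ 0), Φ (dd s hs) = H s) (hn : Φ nn = n) : Rel X Y H n := by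
  refine ⟨?_, ?_, ?_, ?_, ?_, ?_, ?_, ?_⟩
  · intro a b
    rw [← hX, ← hX, ← hX, ← map_mul, ← Cfsg.Agent.Lib.Helper2.RankOneAbs.uu_add]
  · intro s s' hs hs'
    rw [← hH s hs, ← hH s' hs', ← hH _ (mul_ne_zero hs hs'), ← map_mul, sl2_dd_mul]
  · intro s t hs
    rw [← hH s hs, ← hX, ← hX, ← map_mul, ← map_mul, sl2_dd_uu]
  · intro s hs
    rw [← hH s hs, ← hH _ (inv_ne_zero hs), ← hn, ← map_mul, ← map_mul, sl2_nn_dd]
  · rw [← hn, ← hH _ (neg_ne_zero.2 one_ne_zero), ← map_mul, sl2_nn_sq]
  · intro t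
    rw [← hn, ← hX, ← hY, ← map_mul, ← map_mul, sl2_nn_uu]
  · intro t
    rw [← hn, ← hX, ← hY, ← map_mul, ← map_mul, sl2_nn_ll]
  · intro t ht
    rw [← hX, ← hY, ← hH t ht, ← hn, ← map_mul, ← map_mul, ← map_mul, dd_mul_nn]

variable {k' : Type*} [Field k']

theorem map_uu (g : k →+* k') (t : k) :
    Matrix.SpecialLinearGroup.map g (uu t) = uu (g t) := by
  apply Subtype.ext
  rw [Matrix.SpecialLinearGroup.map_apply_coe, RingHom.mapMatrix_apply]
  ext i j
  fin_cases i <;> fin_cases j <;> simp [uu]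

theorem map_ll (g : k →+* k') (t : k) :
    Matrix.SpecialLinearGroup.map g (ll t) = ll (g t) := by
  apply Subtype.ext
  rw [Matrix.SpecialLinearGroup.map_apply_coe, RingHom.mapMatrix_apply]
  ext i j
  fin_cases i <;> fin_cases j <;> simp [ll]

theorem map_dd (g : k →+* k') (s : k) (hs : s ≠ 0) :
    Matrix.SpecialLinearGroup.map g (dd s hs) = dd (g s) ((map_ne_zero g).2 hs) := by
  apply Subtype.ext
  rw [Matrix.SpecialLinearGroup.map_apply_coe, RingHom.mapMatrix_apply]
  ext i j
  fin_cases i <;> fin_cases j <;> simp [dd]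

theorem map_nn (g : k →+* k') :
    Matrix.SpecialLinearGroup.map g (nn : SL2 k) = nn := by
  apply Subtype.ext
  rw [Matrix.SpecialLinearGroup.map_apply_coe, RingHom.mapMatrix_apply]
  ext i j
  fin_cases i <;> fin_cases j <;> simp [nn]

end sl2

section chev

variable {K : Type*} [Field K]

/-- elements of two closures commute when the generators do -/
theorem commute_of_mem_closure {G : Type*} [Group G] (A B : Set G)
    (h : ∀ a ∈ A, ∀ b ∈ B, Commute a b) :
    ∀ x ∈ Subgroup.closure A, ∀ y ∈ Subgroup.closure B, Commute x y := by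
  have h1 : Subgroup.closure A ≤ Subgroup.centralizer (Subgroup.closure B : Set G) := by
    rw [Subgroup.closure_le]
    intro a ha
    rw [SetLike.mem_coe, Subgroup.mem_centralizer_iff]
    have h2 : Subgroup.closure B ≤ Subgroup.centralizer ({a} : Set G) := by
      rw [Subgroup.closure_le]
      intro b hb
      rw [SetLike.mem_coe, Subgroup.mem_centralizer_iff]
      intro c hc
      rw [Set.mem_singleton_iff] at hc
      subst hc
      exact (h c ha b hb).eq
    intro y hy
    have := h2 hy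
    rw [Subgroup.mem_centralizer_iff] at this
    exact (this a (Set.mem_singleton a)).symm
  intro x hx y hy
  have := h1 hx
  rw [Subgroup.mem_centralizer_iff] at this
  exact (this y hy).symm

/-- the rank-one homomorphism of the fundamental root `p_i` (trivial for `i ≥ rank`) -/
noncomputable def phiS (D : ChevalleyDatum) (hD : D ∈ Seven) (i : ℕ) : SL2 K →* GL D.Idx K :=
  if h : i < D.rank then (rel_simple D hD i h).hom else 1

theorem phiS_eq (D : ChevalleyDatum) (hD : D ∈ Seven) (i : ℕ) (hi : i < D.rank) :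
    (phiS D hD i : SL2 K →* GL D.Idx K) = (rel_simple D hD i hi).hom := by
  unfold phiS
  rw [dif_pos hi]

theorem phiS_uu (D : ChevalleyDatum) (hD : D ∈ Seven) (i : ℕ) (hi : i < D.rank) (t : K) :
    phiS D hD i (uu t) = xGL D hD (D.simple i) t := by
  rw [phiS_eq D hD i hi]
  exact (rel_simple D hD i hi).hom_uu t

theorem phiS_ll (D : ChevalleyDatum) (hD : D ∈ Seven) (i : ℕ) (hi : i < D.rank) (t : K) :
    phiS D hD i (ll t) = xGL D hD (D.neg (D.simple i)) t := by
  rw [phiS_eq D hD i hi]
  exact (rel_simple D hD i hi).hom_ll t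

theorem phiS_dd (D : ChevalleyDatum) (hD : D ∈ Seven) (i : ℕ) (hi : i < D.rank) (s : K)
    (hs : s ≠ 0) : phiS D hD i (dd s hs) = hGL D hD (D.simple i) s := by
  rw [phiS_eq D hD i hi]
  exact (rel_simple D hD i hi).hom_dd s hs

theorem phiS_nn (D : ChevalleyDatum) (hD : D ∈ Seven) (i : ℕ) (hi : i < D.rank) :
    phiS D hD i (nn : SL2 K) = nGL D hD i := by
  rw [phiS_eq D hD i hi]
  exact (rel_simple D hD i hi).hom_nn

theorem phiS_mem (D : ChevalleyDatum) (hD : D ∈ Seven) (i : ℕ) (hi : i < D.rank) (M : SL2 K) :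
    phiS D hD i M ∈ Subgroup.closure
      (Set.range (fun t : K => xGL D hD (D.simple i) t) ∪
        Set.range (fun t : K => xGL D hD (D.neg (D.simple i)) t)) := by
  rw [phiS_eq D hD i hi]
  exact (rel_simple D hD i hi).hom_mem M

/-- the images of the rank-one homomorphisms of two orthogonal fundamental roots commute -/
theorem phiS_commute (D : ChevalleyDatum) (hD : D ∈ Seven) (i j : ℕ) (hi : i < D.rank)
    (hj : j < D.rank)
    (h : commOK D (D.simple i) (D.simple j) = true ∧
      commOK D (D.simple i) (D.neg (D.simple j)) = true ∧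
      commOK D (D.neg (D.simple i)) (D.simple j) = true ∧
      commOK D (D.neg (D.simple i)) (D.neg (D.simple j)) = true) (M M' : SL2 K) :
    Commute (phiS D hD i M) (phiS D hD j M') := by
  apply commute_of_mem_closure _ _ _ _ (phiS_mem D hD i hi M) _ (phiS_mem D hD j hj M')
  rintro a (⟨s, rfl⟩ | ⟨s, rfl⟩) b (⟨u, rfl⟩ | ⟨u, rfl⟩)
  · exact xGL_commute D hD _ _ h.1 _ _
  · exact xGL_commute D hD _ _ h.2.1 _ _
  · exact xGL_commute D hD _ _ h.2.2.1 _ _
  · exact xGL_commute D hD _ _ h.2.2.2 _ _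

/-- the product of the rank-one homomorphisms over the list `J`, twisted by the field
endomorphisms `g i` -/
noncomputable def psiFun (D : ChevalleyDatum) (hD : D ∈ Seven) (g : ℕ → K →+* K) (J : List ℕ)
    (M : SL2 K) : GL D.Idx K :=
  (J.map fun i => phiS D hD i (Matrix.SpecialLinearGroup.map (g i) M)).prod

theorem psiFun_cons (D : ChevalleyDatum) (hD : D ∈ Seven) (g : ℕ → K →+* K) (i : ℕ) (J : List ℕ)
    (M : SL2 K) : psiFun D hD g (i :: J) M
      = phiS D hD i (Matrix.SpecialLinearGroup.map (g i) M) * psiFun D hD g J M := by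
  unfold psiFun
  rw [List.map_cons, List.prod_cons]

theorem psiFun_one (D : ChevalleyDatum) (hD : D ∈ Seven) (g : ℕ → K →+* K) (J : List ℕ) :
    psiFun D hD g J 1 = 1 := by
  induction J with
  | nil => simp [psiFun]
  | cons i J ih => rw [psiFun_cons, ih, map_one, map_one, one_mul]

theorem psiFun_mul (D : ChevalleyDatum) (hD : D ∈ Seven) (g : ℕ → K →+* K) (J : List ℕ)
    (hwd : ∀ i ∈ J, i < D.rank) (hnd : J.Nodup) (horth : checkOrth D J = true) (M N : SL2 K) :
    psiFun D hD g J (M * N) = psiFun D hD g J M * psiFun D hD g J N := by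
  induction J with
  | nil => simp [psiFun]
  | cons i J ih =>
    have hi := checkOrth_head D i J horth hnd
    have hiw := hwd i (List.mem_cons_self ..)
    have hJw : ∀ j ∈ J, j < D.rank := fun j hj => hwd j (List.mem_cons_of_mem _ hj)
    rw [psiFun_cons, psiFun_cons, psiFun_cons,
      ih hJw (List.nodup_cons.1 hnd).2 (checkOrth_tail D i J horth), map_mul, map_mul]
    set a := phiS D hD i (Matrix.SpecialLinearGroup.map (g i) M)
    set b := phiS D hD i (Matrix.SpecialLinearGroup.map (g i) N)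
    set A := psiFun D hD g J M
    set B := psiFun D hD g J N
    have hbA : Commute b A := by
      apply Commute.list_prod_right
      intro x hx
      rw [List.mem_map] at hx
      obtain ⟨j, hj, rfl⟩ := hx
      exact phiS_commute D hD i j hiw (hJw j hj) (hi j hj) _ _
    calc a * b * (A * B) = a * (b * A) * B := by group
      _ = a * (A * b) * B := by rw [hbA.eq]
      _ = a * A * (b * B) := by group

/-- the rank-one homomorphism of the orbit `J` -/
noncomputable def psiHom (D : ChevalleyDatum) (hD : D ∈ Seven) (g : ℕ → K →+* K) (J : List ℕ)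
    (hwd : ∀ i ∈ J, i < D.rank) (hnd : J.Nodup) (horth : checkOrth D J = true) :
    SL2 K →* GL D.Idx K where
  toFun := psiFun D hD g J
  map_one' := psiFun_one D hD g J
  map_mul' := psiFun_mul D hD g J hwd hnd horth

theorem psiFun_uu (D : ChevalleyDatum) (hD : D ∈ Seven) (g : ℕ → K →+* K) (J : List ℕ)
    (hwd : ∀ i ∈ J, i < D.rank) (t : K) :
    psiFun D hD g J (uu t) = wordGL D hD (J.map fun i => (D.simple i, g i t)) := by
  induction J with
  | nil => simp [psiFun, wordGL]
  | cons i J ih =>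
    rw [psiFun_cons, ih (fun j hj => hwd j (List.mem_cons_of_mem _ hj)), List.map_cons,
      wordGL_cons', map_uu, phiS_uu D hD i (hwd i (List.mem_cons_self ..))]

theorem psiFun_ll (D : ChevalleyDatum) (hD : D ∈ Seven) (g : ℕ → K →+* K) (J : List ℕ)
    (hwd : ∀ i ∈ J, i < D.rank) (t : K) :
    psiFun D hD g J (ll t) = wordGL D hD (J.map fun i => (D.neg (D.simple i), g i t)) := by
  induction J with
  | nil => simp [psiFun, wordGL]
  | cons i J ih =>
    rw [psiFun_cons, ih (fun j hj => hwd j (List.mem_cons_of_mem _ hj)), List.map_cons,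
      wordGL_cons', map_ll, phiS_ll D hD i (hwd i (List.mem_cons_self ..))]

theorem psiFun_dd (D : ChevalleyDatum) (hD : D ∈ Seven) (g : ℕ → K →+* K) (J : List ℕ)
    (hwd : ∀ i ∈ J, i < D.rank) (s : K) (hs : s ≠ 0) :
    psiFun D hD g J (dd s hs) = hProd D hD J (fun i => g i s) := by
  induction J with
  | nil => simp [psiFun, hProd]
  | cons i J ih =>
    rw [psiFun_cons, ih (fun j hj => hwd j (List.mem_cons_of_mem _ hj)), hProd_cons, map_dd,
      phiS_dd D hD i (hwd i (List.mem_cons_self ..))]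
    rfl

theorem psiFun_nn (D : ChevalleyDatum) (hD : D ∈ Seven) (g : ℕ → K →+* K) (J : List ℕ)
    (hwd : ∀ i ∈ J, i < D.rank) :
    psiFun D hD g J (nn : SL2 K) = wGL D hD J := by
  induction J with
  | nil => simp [psiFun, wGL]
  | cons i J ih =>
    rw [psiFun_cons, ih (fun j hj => hwd j (List.mem_cons_of_mem _ hj)), wGL_cons, map_nn,
      phiS_nn D hD i (hwd i (List.mem_cons_self ..))]

/-- the rank-one relations for an orthogonal list `J` of fundamental roots and arbitrary field
endomorphisms `g i` -/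
theorem rel_orth (D : ChevalleyDatum) (hD : D ∈ Seven) (g : ℕ → K →+* K) (J : List ℕ)
    (hwd : ∀ i ∈ J, i < D.rank) (hnd : J.Nodup) (horth : checkOrth D J = true) :
    Rel (fun t : K => wordGL D hD (J.map fun i => (D.simple i, g i t)))
      (fun t : K => wordGL D hD (J.map fun i => (D.neg (D.simple i), g i t)))
      (fun s : K => hProd D hD J (fun i => g i s)) (wGL D hD J) :=
  rel_of_hom (psiHom D hD g J hwd hnd horth) _ _ _ _
    (fun t => psiFun_uu D hD g J hwd t) (fun t => psiFun_ll D hD g J hwd t)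
    (fun s hs => psiFun_dd D hD g J hwd s hs) (psiFun_nn D hD g J hwd)

end chev

section stub

variable {K : Type*} [Field K] [Fintype K] (D : ChevalleyDatum) (hD : D ∈ Seven) (G : GraphData)
  (hp : checkGraphPerm D G = true) (f : K →+* K) (rho : Equiv.Perm (Fin D.rank))
  (orbs : List (List ℕ)) (G1 : Subgroup (GL D.Idx K)) (m : ℕ)
  (hyp : TwAutHyp D hD G hp f rho orbs G1 m)

include hyp in
/-- the parameters `f^j t` of a twisted root element are `ρ`-compatible for `t ∈ K_J` -/
theorem sT_compat (J : List ℕ) (hJ : J ∈ orbs) (t : K) (ht : InK f J t) :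
    ∀ i ∈ J, sT f J t (rhoN D.rank rho i) = f (sT f J t i) := by
  intro i hi
  have hnd := hyp.bn.hO.nodup J hJ
  have hj : J.idxOf i < J.length := List.idxOf_lt_length_iff.2 hi
  have hget : J.getD (J.idxOf i) 0 = i := by
    rw [List.getD_eq_getElem _ _ hj, List.getElem_idxOf]
  have hc := hyp.hcyc J hJ (J.idxOf i) hj
  rw [hget] at hc
  have hpos : 0 < J.length := lt_of_le_of_lt (Nat.zero_le _) hj
  have hlt : (J.idxOf i + 1) % J.length < J.length := Nat.mod_lt _ hpos
  have hidx : J.idxOf (rhoN D.rank rho i) = (J.idxOf i + 1) % J.length := by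
    rw [hc, List.getD_eq_getElem _ _ hlt]
    exact hnd.idxOf_getElem _ hlt
  unfold sT
  rw [hidx]
  by_cases hlast : J.idxOf i + 1 < J.length
  · rw [Nat.mod_eq_of_lt hlast, pow_succ']
    rfl
  · have he : J.idxOf i + 1 = J.length := by omega
    rw [he, Nat.mod_self, pow_zero]
    have : f ((f ^ J.idxOf i) t) = (f ^ (J.idxOf i + 1)) t := by
      rw [pow_succ']
      rfl
    rw [this, he]
    exact ht.symm

include hyp in
/-- T3 : `x_J, x_{-J}, h_J, n_J` satisfy the relations of `SL₂(K)`, hence a homomorphism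
`(relT ..).hom : SL₂(K) →* GL` with `uu t ↦ xT J t`, `ll t ↦ yT J t`, `dd s ↦ hT J s`, `nn ↦ wGL J`. -/
theorem relT (J : List ℕ) (hJ : J ∈ orbs) :
    Rel (fun t : K => xT D hD f J t) (fun t : K => yT D hD f J t)
      (fun s : K => hT D hD f J s) (wGL D hD J) :=
  rel_orth D hD (fun i => f ^ J.idxOf i) J (hyp.bn.hO.wd J hJ) (hyp.bn.hO.nodup J hJ)
    (hyp.horth J hJ)

include hyp in
/-- T3b : `h_J(s) ∈ H ∩ G1` for `s ∈ K_J` nonzero -/
theorem hT_mem (J : List ℕ) (hJ : J ∈ orbs) (s : K) (hs : s ≠ 0) (hsK : InK f J s) :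
    hT D hD f J s ∈ D.diagonalSubgroup K ⊓ G1 := by
  refine Subgroup.mem_inf.2 ⟨?_, ?_⟩
  · unfold hT hProd
    apply Subgroup.list_prod_mem
    intro x hx
    rw [List.mem_map] at hx
    obtain ⟨i, hi, rfl⟩ := hx
    apply Subgroup.subset_closure
    refine ⟨D.simple i, sT f J s i, simple_lt D hD i (hyp.bn.hO.wd J hJ i hi), ?_, wordGL_val D hD _⟩
    unfold sT
    exact (map_ne_zero _).2 hs
  · exact hProd_mem D hD G1 f (rhoN D.rank rho) J (hyp.horth J hJ) (hyp.bn.hO.nodup J hJ)
      (hyp.hgen J hJ) (sT f J s) (sT_compat D hD G hp f rho orbs G1 m hyp J hJ s hsK)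

end stub

end Cfsg.Agent.Lib.Helper2.TwAut
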