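import Mathlib
import Cfsg.Agent.Lib.Helper1.F4Out.Defs
import Cfsg.Agent.Lib.Helper5.F4T.Gen

set_option autoImplicit false
set_option linter.style.haveILetI false

/-!
# F4OUT farm (S2128), unit S1: memberships of `x1 y1 x2 y2 n1 n2 n0`.
-/

namespace Cfsg.Agent.Lib.Helper2.F4Out

open Cfsg Cfsg.Lie Cfsg.Agent.Lib.Helper5.ChevSym Cfsg.Agent.Lib.Helper5.ChevSymP
  Cfsg.Agent.Lib.Helper5.ChevStruct Cfsg.Agent.Lib.Helper5.Ree Cfsg.Agent.Lib.Helper5.TwX
  Cfsg.Agent.Lib.Helper5.MatPow Cfsg.Agent.Lib.Helper5.F4T Cfsg.Agent.Lib.Helper5.TwAut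
  Cfsg.Agent.Lib.Helper1.F4Out

variable {K : Type*} [Field K] [Fintype K] [CharP K 2] (m : ℕ)
  (hq : ∀ x : K, x ^ 2 ^ (2 * m + 1) = x)

include hq in
theorem x1_mem_fix (t : K) : x1 m t ∈ fixG (K := K) m := by
  have h := pair_mem_fixG m hq (33, 24) (by decide) t
  rw [pairWord_eq] at h
  exact h

include hq in
theorem y1_mem_fix (t : K) : y1 m t ∈ fixG (K := K) m := by
  have h := pair_mem_fixG m hq (14, 23) (by decide) t
  rw [pairWord_eq] at h
  exact h

include hq in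
theorem x2_mem_fix (t u : K) : x2 m t u ∈ fixG (K := K) m := by
  have h := class_mem_fixG m hq ⟨27, 25, 28, 30⟩ (by decide) t u
  rw [classWord_eq] at h
  exact h

include hq in
theorem y2_mem_fix (t u : K) : y2 m t u ∈ fixG (K := K) m := by
  have h := class_mem_fixG m hq ⟨20, 22, 19, 17⟩ (by decide) t u
  rw [classWord_eq] at h
  exact h

omit [Fintype K] [CharP K 2] in
theorem h2_word_mem_pos (w : List (ℕ × K)) (h : ∀ p ∈ w, chevF4.IsPosRoot p.1) :
    wordGL chevF4 hF4 w ∈ chevF4.posUnipotent K := by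
  induction w with
  | nil => simp [wordGL]
  | cons p w ih =>
    rw [wordGL_cons']
    exact mul_mem (xGL_mem_pos chevF4 hF4 p.1 (h p (List.mem_cons_self ..)) p.2)
      (ih fun q hq => h q (List.mem_cons_of_mem _ hq))

omit [Fintype K] [CharP K 2] in
theorem h2_word_mem_neg (w : List (ℕ × K)) (h : ∀ p ∈ w, chevF4.IsNegRoot p.1) :
    wordGL chevF4 hF4 w ∈ chevF4.negUnipotent K := by
  induction w with
  | nil => simp [wordGL]
  | cons p w ih =>
    rw [wordGL_cons']
    exact mul_mem (xGL_mem_neg chevF4 hF4 p.1 (h p (List.mem_cons_self ..)) p.2)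
      (ih fun q hq => h q (List.mem_cons_of_mem _ hq))

theorem h2_pos_facts : chevF4.IsPosRoot 33 ∧ chevF4.IsPosRoot 24 ∧ chevF4.IsPosRoot 27 ∧
    chevF4.IsPosRoot 25 ∧ chevF4.IsPosRoot 28 ∧ chevF4.IsPosRoot 30 := by decide

theorem h2_neg_facts : chevF4.IsNegRoot 14 ∧ chevF4.IsNegRoot 23 ∧ chevF4.IsNegRoot 20 ∧
    chevF4.IsNegRoot 22 ∧ chevF4.IsNegRoot 19 ∧ chevF4.IsNegRoot 17 := by decide

theorem x1_mem_pos (t : K) : x1 m t ∈ chevF4.posUnipotent K := by
  obtain ⟨h1, h2, -⟩ := h2_pos_facts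
  unfold x1
  apply h2_word_mem_pos
  intro p hp
  simp only [List.mem_cons, List.not_mem_nil, or_false] at hp
  rcases hp with rfl | rfl
  · exact h1
  · exact h2

theorem y1_mem_neg (t : K) : y1 m t ∈ chevF4.negUnipotent K := by
  obtain ⟨h1, h2, -⟩ := h2_neg_facts
  unfold y1
  apply h2_word_mem_neg
  intro p hp
  simp only [List.mem_cons, List.not_mem_nil, or_false] at hp
  rcases hp with rfl | rfl
  · exact h1
  · exact h2

theorem x2_mem_pos (t u : K) : x2 m t u ∈ chevF4.posUnipotent K := by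
  obtain ⟨-, -, h1, h2, h3, h4⟩ := h2_pos_facts
  unfold x2
  apply h2_word_mem_pos
  intro p hp
  simp only [List.mem_cons, List.not_mem_nil, or_false] at hp
  rcases hp with rfl | rfl | rfl | rfl
  · exact h1
  · exact h2
  · exact h3
  · exact h4

theorem y2_mem_neg (t u : K) : y2 m t u ∈ chevF4.negUnipotent K := by
  obtain ⟨-, -, h1, h2, h3, h4⟩ := h2_neg_facts
  unfold y2
  apply h2_word_mem_neg
  intro p hp
  simp only [List.mem_cons, List.not_mem_nil, or_false] at hp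
  rcases hp with rfl | rfl | rfl | rfl
  · exact h1
  · exact h2
  · exact h3
  · exact h4

include hq in
theorem n1_mem_fix : (n1 : GL chevF4.Idx K) ∈ fixG (K := K) m :=
  orb_mem_fixG m hq [0, 3] (by decide)

include hq in
theorem n2_mem_fix : (n2 : GL chevF4.Idx K) ∈ fixG (K := K) m :=
  orb_mem_fixG m hq [1, 2, 1, 2] (by decide)

include hq in
theorem n0_mem_fix : (n0 : GL chevF4.Idx K) ∈ fixG (K := K) m :=
  twisted_le_fixG m hq (flatten_mem_twisted m w0Js w0Js_mem)

end Cfsg.Agent.Lib.Helper2.F4Out
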