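import Mathlib
import Cfsg.Agent.Lib.Helper1.F4Out.Defs
import Cfsg.Agent.Lib.Helper5.F4T.Gen
import Cfsg.Agent.Lib.Helper5.F4T.QuadLaw
import Cfsg.Agent.Lib.Helper5.ChevTwistPerfOrb

set_option autoImplicit false
set_option linter.style.haveILetI false

/-!
# F4OUT farm (S2128), unit S2: group laws and injectivity of `x1`, `x2`.
-/

namespace Cfsg.Agent.Lib.Helper2.F4Out

open Cfsg Cfsg.Lie Cfsg.Agent.Lib.Helper5.ChevSym Cfsg.Agent.Lib.Helper5.ChevSymP
  Cfsg.Agent.Lib.Helper5.ChevStruct Cfsg.Agent.Lib.Helper5.Ree Cfsg.Agent.Lib.Helper5.TwX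
  Cfsg.Agent.Lib.Helper5.MatPow Cfsg.Agent.Lib.Helper5.F4T Cfsg.Agent.Lib.Helper5.TwAut
  Cfsg.Agent.Lib.Helper1.F4Out

variable {K : Type*} [Field K] [Fintype K] [CharP K 2] (m : ℕ)
  (hq : ∀ x : K, x ^ 2 ^ (2 * m + 1) = x)

omit [Fintype K] in
theorem x1_add (s t : K) : x1 m (s + t) = x1 m s * x1 m t := by
  unfold x1
  rw [wordGL_two, wordGL_two, wordGL_two, map_add, xGL_add, xGL_add]
  have hc : Commute (xGL chevF4 hF4 24 s) (xGL chevF4 hF4 33 (ph m t)) :=
    (xGL_commute (K := K) chevF4 hF4 33 24 (by decide) (ph m t) s).symm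
  calc xGL chevF4 hF4 33 (ph m s) * xGL chevF4 hF4 33 (ph m t) *
        (xGL chevF4 hF4 24 s * xGL chevF4 hF4 24 t)
      = xGL chevF4 hF4 33 (ph m s) * (xGL chevF4 hF4 33 (ph m t) * xGL chevF4 hF4 24 s) *
          xGL chevF4 hF4 24 t := by group
    _ = xGL chevF4 hF4 33 (ph m s) * (xGL chevF4 hF4 24 s * xGL chevF4 hF4 33 (ph m t)) *
          xGL chevF4 hF4 24 t := by rw [hc.eq]
    _ = _ := by group

/-- parameters of `x1 m t` along `Lpos` -/
noncomputable def h2_par1 (t : K) (r : ℕ) : K :=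
  if r = 33 then ph m t else if r = 24 then t else 0

omit [Fintype K] in
theorem h2_x1_eq_prodL (t : K) : x1 m t = prodL chevF4 hF4 Lpos (h2_par1 m t) := by
  rw [prodL_filter Lpos (fun r => r == 33 || r == 24) (h2_par1 m t)]
  · have e : Lpos.filter (fun r => r == 33 || r == 24) = [33, 24] := by decide
    rw [e]
    unfold x1 prodL
    simp [h2_par1]
  · intro r _ hr
    simp only [Bool.or_eq_false_iff, beq_eq_false_iff_ne, ne_eq] at hr
    unfold h2_par1
    rw [if_neg hr.1, if_neg hr.2]

theorem x1_injective : Function.Injective (x1 (K := K) m) := by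
  intro s t h
  rw [h2_x1_eq_prodL, h2_x1_eq_prodL] at h
  have := prodL_unique chevF4 hF4 Lpos Lpos_good Lpos_nodup Lpos_pos Lpos_len _ _ h 24 (by decide)
  simpa [h2_par1] using this

/-- parameters of `x2 m t u` along `Lpos` -/
noncomputable def h2_par2 (t u : K) (r : ℕ) : K :=
  if r = 27 then ph m t else if r = 25 then t else if r = 28 then t * ph m t + u
  else if r = 30 then ps m u else 0

omit [Fintype K] in
theorem h2_x2_eq_prodL (t u : K) : x2 m t u = prodL chevF4 hF4 Lpos (h2_par2 m t u) := by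
  rw [prodL_filter Lpos (fun r => r == 27 || r == 25 || r == 28 || r == 30) (h2_par2 m t u)]
  · have e : Lpos.filter (fun r => r == 27 || r == 25 || r == 28 || r == 30) = [27, 25, 28, 30] := by
      decide
    rw [e]
    unfold x2 prodL
    simp [h2_par2]
  · intro r _ hr
    simp only [Bool.or_eq_false_iff, beq_eq_false_iff_ne, ne_eq] at hr
    unfold h2_par2
    rw [if_neg hr.1.1.1, if_neg hr.1.1.2, if_neg hr.1.2, if_neg hr.2]

theorem x2_injective (t u s v : K) (h : x2 m t u = x2 m s v) : t = s ∧ u = v := by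
  rw [h2_x2_eq_prodL, h2_x2_eq_prodL] at h
  have key := prodL_unique chevF4 hF4 Lpos Lpos_good Lpos_nodup Lpos_pos Lpos_len _ _ h
  have h1 : t = s := by
    have := key 25 (by decide)
    simpa [h2_par2] using this
  have h2 : t * ph m t + u = s * ph m s + v := by
    have := key 28 (by decide)
    simpa [h2_par2] using this
  refine ⟨h1, ?_⟩
  rw [h1] at h2
  exact add_left_cancel h2

include hq in
omit [Fintype K] in
theorem x2_mul (t u s v : K) : x2 m t u * x2 m s v = x2 m (t + s) (u + v + s * ph m t) := by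
  have h2 : ((2 : ℕ) : K) = 0 := by
    have := CharP.cast_eq_zero K 2
    exact_mod_cast this
  have h2' : (2 : K) = 0 := by exact_mod_cast h2
  unfold x2
  apply Units.ext
  rw [Units.val_mul, wordGL_val, wordGL_val, wordGL_val]
  have e := quad_mul (K := K) h2 (ph m t) t (t * ph m t + u) (ps m u) (ph m s) s (s * ph m s + v)
    (ps m v)
  have e' : chevF4.wordMat K [(27, ph m t), (25, t), (28, t * ph m t + u), (30, ps m u)] *
      chevF4.wordMat K [(27, ph m s), (25, s), (28, s * ph m s + v), (30, ps m v)]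
      = chevF4.wordMat K [(27, ph m t), (25, t), (28, t * ph m t + u), (30, ps m u), (27, ph m s),
          (25, s), (28, s * ph m s + v), (30, ps m v)] := by
    simp [ChevalleyDatum.wordMat, mul_assoc]
  rw [e', e]
  have c1 : ph m t + ph m s = ph m (t + s) := (map_add _ _ _).symm
  have c3 : t * ph m t + u + (s * ph m s + v) + t * ph m s
      = (t + s) * ph m (t + s) + (u + v + s * ph m t) := by
    rw [map_add]
    linear_combination (-(s * ph m t)) * h2'
  have c4 : ps m u + ps m v + t * ph m s ^ 2 = ps m (u + v + s * ph m t) := by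
    rw [map_add, map_add, map_mul, ps_ph m hq, ps_eq m s]
    ring
  rw [c1, c3, c4]

end Cfsg.Agent.Lib.Helper2.F4Out
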