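import Mathlib
import Cfsg.Agent.Lib.Helper1.F4Out.Defs
import Cfsg.Agent.Lib.Helper5.F4T.Gen

set_option autoImplicit false
set_option linter.style.haveILetI false

/-!
# F4OUT farm (S2128), unit S4: conjugation of `x1 x2 y1 y2` by `n1 n2 n0`.
-/

namespace Cfsg.Agent.Lib.Helper2.F4Out

open Cfsg Cfsg.Lie Cfsg.Agent.Lib.Helper5.ChevSym Cfsg.Agent.Lib.Helper5.ChevSymP
  Cfsg.Agent.Lib.Helper5.ChevStruct Cfsg.Agent.Lib.Helper5.Ree Cfsg.Agent.Lib.Helper5.TwX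
  Cfsg.Agent.Lib.Helper5.MatPow Cfsg.Agent.Lib.Helper5.F4T Cfsg.Agent.Lib.Helper5.TwAut
  Cfsg.Agent.Lib.Helper1.F4Out

variable {K : Type*} [Field K] [Fintype K] [CharP K 2] (m : ℕ)
  (hq : ∀ x : K, x ^ 2 ^ (2 * m + 1) = x)

theorem h2_wd1 : Wd chevF4 [0, 3] := by
  unfold Wd
  decide

theorem h2_wd2 : Wd chevF4 [1, 2, 1, 2] := by
  unfold Wd
  decide

theorem h2_wd0 : Wd chevF4 w0Js.flatten := by
  unfold Wd
  decide

theorem h2_act1 : wAct chevF4 [0, 3] 33 = 14 ∧ wAct chevF4 [0, 3] 24 = 23 := by decide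

theorem h2_act2 : wAct chevF4 [1, 2, 1, 2] 27 = 20 ∧ wAct chevF4 [1, 2, 1, 2] 25 = 22 ∧
    wAct chevF4 [1, 2, 1, 2] 28 = 19 ∧ wAct chevF4 [1, 2, 1, 2] 30 = 17 := by decide

set_option maxRecDepth 100000 in
theorem h2_act0 : wAct chevF4 w0Js.flatten 33 = 14 ∧ wAct chevF4 w0Js.flatten 24 = 23 ∧
    wAct chevF4 w0Js.flatten 27 = 20 ∧ wAct chevF4 w0Js.flatten 25 = 22 ∧
    wAct chevF4 w0Js.flatten 28 = 19 ∧ wAct chevF4 w0Js.flatten 30 = 17 ∧
    wAct chevF4 w0Js.flatten 14 = 33 ∧ wAct chevF4 w0Js.flatten 23 = 24 ∧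
    wAct chevF4 w0Js.flatten 20 = 27 ∧ wAct chevF4 w0Js.flatten 22 = 25 ∧
    wAct chevF4 w0Js.flatten 19 = 28 ∧ wAct chevF4 w0Js.flatten 17 = 30 := by decide +kernel

omit [Fintype K] in
theorem n1_conj_x1 (t : K) : n1 * x1 m t * (n1 : GL chevF4.Idx K)⁻¹ = y1 m t := by
  unfold n1 x1 y1
  rw [wGL_conj_word [0, 3] h2_wd1 _ (by
    intro p hp
    simp only [List.mem_cons, List.not_mem_nil, or_false] at hp
    rcases hp with rfl | rfl <;> norm_num)]
  simp only [List.map_cons, List.map_nil]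
  rw [h2_act1.1, h2_act1.2]

omit [Fintype K] in
theorem n2_conj_x2 (t u : K) : n2 * x2 m t u * (n2 : GL chevF4.Idx K)⁻¹ = y2 m t u := by
  unfold n2 x2 y2
  rw [wGL_conj_word [1, 2, 1, 2] h2_wd2 _ (by
    intro p hp
    simp only [List.mem_cons, List.not_mem_nil, or_false] at hp
    rcases hp with rfl | rfl | rfl | rfl <;> norm_num)]
  simp only [List.map_cons, List.map_nil]
  rw [h2_act2.1, h2_act2.2.1, h2_act2.2.2.1, h2_act2.2.2.2]

omit [Fintype K] in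
theorem n0_conj_x1 (t : K) : n0 * x1 m t * (n0 : GL chevF4.Idx K)⁻¹ = y1 m t := by
  unfold n0 x1 y1
  rw [wGL_conj_word w0Js.flatten h2_wd0 _ (by
    intro p hp
    simp only [List.mem_cons, List.not_mem_nil, or_false] at hp
    rcases hp with rfl | rfl <;> norm_num)]
  simp only [List.map_cons, List.map_nil]
  obtain ⟨a1, a2, -⟩ := h2_act0
  rw [a1, a2]

omit [Fintype K] in
theorem n0_conj_x2 (t u : K) : n0 * x2 m t u * (n0 : GL chevF4.Idx K)⁻¹ = y2 m t u := by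
  unfold n0 x2 y2
  rw [wGL_conj_word w0Js.flatten h2_wd0 _ (by
    intro p hp
    simp only [List.mem_cons, List.not_mem_nil, or_false] at hp
    rcases hp with rfl | rfl | rfl | rfl <;> norm_num)]
  simp only [List.map_cons, List.map_nil]
  obtain ⟨-, -, a1, a2, a3, a4, -⟩ := h2_act0
  rw [a1, a2, a3, a4]

omit [Fintype K] in
theorem n0_conj_y1 (t : K) : n0 * y1 m t * (n0 : GL chevF4.Idx K)⁻¹ = x1 m t := by
  unfold n0 x1 y1
  rw [wGL_conj_word w0Js.flatten h2_wd0 _ (by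
    intro p hp
    simp only [List.mem_cons, List.not_mem_nil, or_false] at hp
    rcases hp with rfl | rfl <;> norm_num)]
  simp only [List.map_cons, List.map_nil]
  obtain ⟨-, -, -, -, -, -, a1, a2, -⟩ := h2_act0
  rw [a1, a2]

omit [Fintype K] in
theorem n0_conj_y2 (t u : K) : n0 * y2 m t u * (n0 : GL chevF4.Idx K)⁻¹ = x2 m t u := by
  unfold n0 x2 y2
  rw [wGL_conj_word w0Js.flatten h2_wd0 _ (by
    intro p hp
    simp only [List.mem_cons, List.not_mem_nil, or_false] at hp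
    rcases hp with rfl | rfl | rfl | rfl <;> norm_num)]
  simp only [List.map_cons, List.map_nil]
  obtain ⟨-, -, -, -, -, -, -, -, a1, a2, a3, a4⟩ := h2_act0
  rw [a1, a2, a3, a4]

end Cfsg.Agent.Lib.Helper2.F4Out
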