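import Mathlib
import Cfsg.Prelude.Def_Solvable
import Cfsg.Agent.Lib.Lead.UniqueP
import Cfsg.Agent.Lib.Helper1.FrobeniusCenter
import Cfsg.Agent.Lib.Helper1.FpfCyclic
import Cfsg.Agent.Lib.Helper1.FrobeniusTheorem
import Cfsg.Agent.Lib.Helper1.FrobeniusBasic
import Cfsg.Agent.Lib.Helper2.ZS7
set_option autoImplicit false
set_option maxHeartbeats 1000000
set_option linter.unusedVariables false
set_option linter.unusedSectionVars false
set_option linter.style.longLine false
set_option linter.unusedSimpArgs false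
set_option linter.deprecated false
set_option linter.style.haveILetI false
open scoped commutatorElement Pointwise
universe u v

/-! Solvable Frobenius complements, part A: the abstract property `FCP` (abelian subgroups are
cyclic, and an element of prime order normalizing a subgroup of a different prime order
centralizes it) and its first consequences. -/

namespace Cfsg.Agent.Lib.Helper2.FrobComp

open Cfsg Cfsg.Agent.Lib.Lead.UniqueP Cfsg.Agent.Lib.Helper2.ZS

/-- the abstract Frobenius complement property -/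
def FCP (G : Type*) [Group G] : Prop :=
  (∀ A : Subgroup G, IsMulCommutative A → IsCyclic A) ∧
  (∀ (p q : ℕ) (x y : G), p.Prime → q.Prime → p ≠ q → orderOf x = p → orderOf y = q →
      x * y * x⁻¹ ∈ Subgroup.zpowers y → x * y = y * x)

theorem FCP.subgroup {G : Type*} [Group G] (h : FCP G) (K : Subgroup G) : FCP ↥K := by
  refine ⟨?_, ?_⟩
  · intro A hA
    haveI := hA
    haveI : IsMulCommutative ↥(A.map K.subtype) := Subgroup.map_isMulCommutative A K.subtype
    haveI : IsCyclic ↥(A.map K.subtype) := h.1 _ inferInstance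
    exact (Subgroup.equivMapOfInjective A K.subtype K.subtype_injective).isCyclic.mpr inferInstance
  · intro p q x y hp hq hpq hx hy hmem
    have hx' : orderOf (x : G) = p := by rw [Subgroup.orderOf_coe]; exact hx
    have hy' : orderOf (y : G) = q := by rw [Subgroup.orderOf_coe]; exact hy
    have hmem' : (x : G) * (y : G) * (x : G)⁻¹ ∈ Subgroup.zpowers (y : G) := by
      obtain ⟨k, hk⟩ := Subgroup.mem_zpowers_iff.mp hmem
      rw [Subgroup.mem_zpowers_iff]
      refine ⟨k, ?_⟩
      have := congrArg Subtype.val hk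
      simpa using this
    have := h.2 p q (x : G) (y : G) hp hq hpq hx' hy' hmem'
    exact Subtype.ext (by simpa using this)

/-- in a group whose abelian subgroups are cyclic, an element `w` with `w ^ p = 1` commuting with
an element `z` of order `p` is a power of `z` -/
theorem cyc_mem {G : Type*} [Group G] [Finite G]
    (h : ∀ A : Subgroup G, IsMulCommutative A → IsCyclic A) {p : ℕ} [hp : Fact p.Prime]
    {w z : G} (hc : Commute w z) (hz : orderOf z = p) (hw : w ^ p = 1) :
    w ∈ Subgroup.zpowers z := by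
  classical
  obtain ⟨A, hAdef⟩ : ∃ A : Subgroup G, A = Subgroup.closure {w, z} := ⟨_, rfl⟩
  have hAc : IsMulCommutative A := by
    rw [hAdef]
    apply Subgroup.isMulCommutative_closure
    intro a ha b hb
    rcases ha with rfl | ha
    · rcases hb with rfl | hb
      · rfl
      · rw [Set.mem_singleton_iff] at hb; rw [hb]; exact hc.eq
    · rw [Set.mem_singleton_iff] at ha
      rcases hb with rfl | hb
      · rw [ha]; exact hc.eq.symm
      · rw [Set.mem_singleton_iff] at hb; rw [ha, hb]
  haveI : IsCyclic A := h A hAc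
  have hwA : w ∈ A := by rw [hAdef]; exact Subgroup.subset_closure (by simp)
  have hzA : z ∈ A := by rw [hAdef]; exact Subgroup.subset_closure (by simp)
  set w' : A := ⟨w, hwA⟩ with hw'
  set z' : A := ⟨z, hzA⟩ with hz'
  have hz'o : orderOf z' = p := by
    rw [← Subgroup.orderOf_coe]; exact hz
  have hw'p : w' ^ p = 1 := by
    apply Subtype.ext
    rw [Subgroup.coe_pow]; exact hw
  haveI : Fintype A := Fintype.ofFinite A
  have hS : (Finset.univ.filter (fun a : A => a ^ p = 1)).card ≤ p :=
    IsCyclic.card_pow_eq_one_le hp.out.pos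
  set T : Finset A := (Finset.range p).image (fun i => z' ^ i) with hT
  have hTcard : T.card = p := by
    rw [hT, Finset.card_image_of_injOn, Finset.card_range]
    intro i hi j hj hij
    apply pow_injOn_Iio_orderOf (x := z')
    · rw [hz'o]; simpa using hi
    · rw [hz'o]; simpa using hj
    · exact hij
  have hTS : T ⊆ Finset.univ.filter (fun a : A => a ^ p = 1) := by
    intro a ha
    rw [hT, Finset.mem_image] at ha
    obtain ⟨i, -, rfl⟩ := ha
    rw [Finset.mem_filter]
    refine ⟨Finset.mem_univ _, ?_⟩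
    rw [← pow_mul, mul_comm, pow_mul, ← hz'o, pow_orderOf_eq_one, one_pow]
  have hEq := Finset.eq_of_subset_of_card_le hTS (by rw [hTcard]; exact hS)
  have hw'T : w' ∈ T := by
    rw [hEq, Finset.mem_filter]
    exact ⟨Finset.mem_univ _, hw'p⟩
  rw [hT, Finset.mem_image] at hw'T
  obtain ⟨i, -, hi⟩ := hw'T
  have := congrArg Subtype.val hi
  rw [Subgroup.coe_pow] at this
  rw [← show z ^ i = w from this]
  exact Subgroup.pow_mem _ (Subgroup.mem_zpowers z) i

/-- `p`-subgroups of an `FCP`-group have a unique subgroup of order `p` -/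
theorem uop_pgroup {G : Type*} [Group G] [Finite G] (h : FCP G) {p : ℕ} [hp : Fact p.Prime]
    (P : Subgroup G) (hP : IsPGroup p P) : UOP p ↥P := by
  intro x y hx hy hx1
  haveI : Nontrivial ↥P := ⟨⟨x, 1, hx1⟩⟩
  haveI := hP.center_nontrivial
  have hPc : IsPGroup p ↥(Subgroup.center ↥P) := hP.to_subgroup _
  have hdvd : p ∣ Nat.card ↥(Subgroup.center ↥P) := by
    rcases hPc.card_eq_or_dvd with h1 | h1
    · exfalso
      have := Finite.one_lt_card (α := ↥(Subgroup.center ↥P))
      omega
    · exact h1
  obtain ⟨z, hz⟩ := exists_prime_orderOf_dvd_card' p hdvd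
  set zP : ↥P := (z : ↥P) with hzP
  have hzPo : orderOf zP = p := by rw [hzP, Subgroup.orderOf_coe]; exact hz
  have hcen : ∀ g : ↥P, Commute g zP := by
    intro g
    have := Subgroup.mem_center_iff.mp z.2 g
    exact this
  have hP' := (h.subgroup P).1
  have key : ∀ w : ↥P, w ^ p = 1 → w ∈ Subgroup.zpowers zP := fun w hw =>
    cyc_mem hP' (hcen w) hzPo hw
  have hxz := key x hx
  have hyz := key y hy
  have hxo : orderOf x = p := orderOf_eq_prime hx hx1
  have hle : Subgroup.zpowers x ≤ Subgroup.zpowers zP := Subgroup.zpowers_le.mpr hxz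
  have heq : Subgroup.zpowers x = Subgroup.zpowers zP := by
    apply Subgroup.eq_of_le_of_card_ge hle
    rw [Nat.card_zpowers, Nat.card_zpowers, hxo, hzPo]
  rw [heq]; exact hyz

theorem pgroup_cyclic_or_quat {G : Type*} [Group G] [Finite G] (h : FCP G) (p : ℕ)
    [hp : Fact p.Prime] (P : Subgroup G) (hP : IsPGroup p P) :
    IsCyclic ↥P ∨ (p = 2 ∧ ∃ n : ℕ, Nonempty (↥P ≃* QuaternionGroup (2 ^ n))) :=
  cyclic_or_quaternion p hP (uop_pgroup h P hP)

theorem eq_of_mem_zpowers_of_orderOf_two {G : Type*} [Group G] {s t : G} (hs : orderOf s = 2)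
    (ht : t ∈ Subgroup.zpowers s) (ht1 : t ≠ 1) : t = s := by
  obtain ⟨k, hk⟩ := Subgroup.mem_zpowers_iff.mp ht
  rw [← zpow_mod_orderOf, hs] at hk
  have h2 : k % ((2 : ℕ) : ℤ) = 0 ∨ k % ((2 : ℕ) : ℤ) = 1 := by omega
  rcases h2 with h2 | h2
  · rw [h2, zpow_zero] at hk; exact absurd hk.symm ht1
  · rw [h2, zpow_one] at hk; exact hk.symm

/-- an `FCP`-group has at most one involution -/
theorem invol_unique {G : Type*} [Group G] [Finite G] (h : FCP G) {s t : G}
    (hs : orderOf s = 2) (ht : orderOf t = 2) : s = t := by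
  haveI : Fact (Nat.Prime 2) := ⟨Nat.prime_two⟩
  by_contra hne
  have hs2 : s * s = 1 := by rw [← sq, ← hs]; exact pow_orderOf_eq_one s
  have ht2 : t * t = 1 := by rw [← sq, ← ht]; exact pow_orderOf_eq_one t
  have hsi : s⁻¹ = s := inv_eq_of_mul_eq_one_right hs2
  have hti : t⁻¹ = t := inv_eq_of_mul_eq_one_right ht2
  have hs1 : s ≠ 1 := by intro h1; rw [h1, orderOf_one] at hs; omega
  have ht1 : t ≠ 1 := by intro h1; rw [h1, orderOf_one] at ht; omega
  set w := s * t with hw
  have hsw : s * w * s⁻¹ = w⁻¹ := by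
    rw [hw, mul_inv_rev, hsi, hti, ← mul_assoc s s t, hs2, one_mul]
  -- it suffices to show that `s` is a power of `w`
  have hfin : s ∈ Subgroup.zpowers w → False := by
    intro hmem
    have hcom : s * w = w * s := (zpowers_commute hmem (Subgroup.mem_zpowers w)).eq
    have h1 : w = w⁻¹ := by
      rw [← hsw, hcom, mul_inv_cancel_right]
    have h2 : s * t = t * s := by
      have : w⁻¹ = t * s := by rw [hw, mul_inv_rev, hsi, hti]
      rw [← this, ← h1]
    have h3 : t ∈ Subgroup.zpowers s :=
      cyc_mem h.1 (p := 2) (show Commute t s from h2.symm) hs (by rw [sq]; exact ht2)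
    exact hne (eq_of_mem_zpowers_of_orderOf_two hs h3 ht1).symm
  rcases Nat.eq_two_pow_or_exists_odd_prime_and_dvd (orderOf w) with ⟨k, hk⟩ | ⟨p, hp, hpd, hodd⟩
  · -- order of `w` a power of two
    rcases Nat.eq_zero_or_pos k with hk0 | hk0
    · rw [hk0, pow_zero, orderOf_eq_one_iff] at hk
      apply hne
      have : s * t = 1 := hk
      rw [← hti]; exact eq_inv_of_mul_eq_one_left this
    · have h2d : 2 ∣ orderOf w := by rw [hk]; exact dvd_pow_self 2 hk0.ne'
      set v := w ^ (orderOf w / 2) with hv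
      have hvo : orderOf v = 2 := orderOf_pow_orderOf_div (orderOf_pos w).ne' h2d
      have hv2 : v * v = 1 := by rw [← sq, ← hvo]; exact pow_orderOf_eq_one v
      have hvi : v⁻¹ = v := inv_eq_of_mul_eq_one_right hv2
      have hsv : s * v * s⁻¹ = v := by
        rw [hv, ← conj_pow, hsw, inv_pow, ← hv, hvi]
      have hcom : Commute s v := by
        show s * v = v * s
        calc s * v = s * v * s⁻¹ * s := by group
          _ = v * s := by rw [hsv]
      have h3 : s ∈ Subgroup.zpowers v :=
        cyc_mem h.1 (p := 2) hcom hvo (by rw [sq]; exact hs2)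
      apply hfin
      have hle : Subgroup.zpowers v ≤ Subgroup.zpowers w :=
        Subgroup.zpowers_le.mpr (Subgroup.pow_mem _ (Subgroup.mem_zpowers w) _)
      exact hle h3
  · -- an odd prime divides the order of `w`
    set u := w ^ (orderOf w / p) with hu
    have huo : orderOf u = p := orderOf_pow_orderOf_div (orderOf_pos w).ne' hpd
    have hsu : s * u * s⁻¹ = u⁻¹ := by
      rw [hu, ← conj_pow, hsw, inv_pow]
    have hmem : s * u * s⁻¹ ∈ Subgroup.zpowers u := by
      rw [hsu]; exact Subgroup.inv_mem _ (Subgroup.mem_zpowers u)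
    have hp2 : 2 ≠ p := by
      intro h2; rw [← h2] at hodd; exact absurd hodd (by decide)
    have hcom := h.2 2 p s u Nat.prime_two hp hp2 hs huo hmem
    have h1 : u = u⁻¹ := by
      rw [← hsu, hcom, mul_inv_cancel_right]
    have h2 : u ^ 2 = 1 := by
      rw [sq]; nth_rewrite 1 [h1]; exact inv_mul_cancel u
    have h3 : p ∣ 2 := by rw [← huo]; exact orderOf_dvd_of_pow_eq_one h2
    have h4 : p ≤ 2 := Nat.le_of_dvd (by norm_num) h3
    have h5 : 2 ≤ p := hp.two_le
    exact hp2 (le_antisymm h5 h4)

theorem invol_central {G : Type*} [Group G] [Finite G] (h : FCP G) {s : G}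
    (hs : orderOf s = 2) (g : G) : g * s * g⁻¹ = s := by
  apply invol_unique h _ hs
  have : g * s * g⁻¹ = MulAut.conj g s := by simp [MulAut.conj_apply]
  rw [this, MulEquiv.orderOf_eq]; exact hs

/-- a solvable Frobenius complement has property `FCP` -/
theorem fcp_of_frobenius {G : Type*} [Group G] [Finite G] (hsol : Group.IsSolvable G)
    {L : Type u} [Group L] [Finite L] (H : Subgroup L) (hH : Cfsg.IsFrobeniusComplement H)
    (e : G ≃* H) : FCP G := by
  obtain ⟨N, hN, hNn, hc⟩ := Cfsg.Agent.Lib.Helper1.frobenius_theorem H hH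
  haveI := hNn
  have hNne : N ≠ ⊥ := by
    intro hb
    rw [hb] at hc
    exact hH.2.1 (Subgroup.isComplement'_bot_left.mp hc)
  have hfpf := (Cfsg.Agent.Lib.Helper1.frobenius_iff_fpf N H hc hNne hH.1).mp hH
  haveI hHsol : Group.IsSolvable ↥H :=
    solvable_of_solvable_injective (f := e.symm.toMonoidHom) e.symm.injective
  have hHN : H ≤ Subgroup.normalizer (N : Set L) := by
    rw [Subgroup.normalizer_eq_top_iff.mpr hNn]; exact le_top
  refine ⟨?_, ?_⟩
  · intro A hA
    haveI := hA
    set A1 : Subgroup ↥H := A.map e.toMonoidHom with hA1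
    set A' : Subgroup L := A1.map H.subtype with hA'
    haveI : IsMulCommutative ↥A1 := Subgroup.map_isMulCommutative A e.toMonoidHom
    haveI : IsMulCommutative ↥A' := Subgroup.map_isMulCommutative A1 H.subtype
    have hA'H : A' ≤ H := Subgroup.map_subtype_le _
    have hA'N : A' ≤ Subgroup.normalizer (N : Set L) := hA'H.trans hHN
    have hfpf' : ∀ a ∈ A', a ≠ 1 → N ⊓ Subgroup.centralizer {a} = ⊥ :=
      fun a ha ha1 => hfpf a (hA'H ha) ha1
    have hcop := Cfsg.Agent.Lib.Helper1.coprime_of_fpf A' N hA'N hfpf'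
    haveI hA'sol : Group.IsSolvable ↥A' :=
      solvable_of_solvable_injective (f := Subgroup.inclusion hA'H)
        (Subgroup.inclusion_injective hA'H)
    obtain ⟨V, hVne, hVN, hVc, hA'V⟩ :=
      Cfsg.Agent.Lib.Helper1.exists_invariant_abelian_of_coprime A' N hNne hA'N hcop
        (Or.inl hA'sol)
    haveI := hVc
    have hfpfV : ∀ a ∈ A', a ≠ 1 → V ⊓ Subgroup.centralizer {a} = ⊥ := by
      intro a ha ha1
      rw [eq_bot_iff, ← hfpf' a ha ha1]
      exact inf_le_inf_right _ hVN
    haveI : IsCyclic ↥A' :=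
      Cfsg.Agent.Lib.Helper1.fpf_on_abelian_cyclic A' V hVne hA'V hfpfV (Or.inl inferInstance)
    have e1 : ↥A ≃* ↥A1 := Subgroup.equivMapOfInjective A e.toMonoidHom e.injective
    have e2 : ↥A1 ≃* ↥A' := Subgroup.equivMapOfInjective A1 H.subtype H.subtype_injective
    exact (e1.trans e2).isCyclic.mpr inferInstance
  · intro p q x y hp hq hpq hx hy hmem
    set x' : L := ((e x : ↥H) : L) with hx'
    set y' : L := ((e y : ↥H) : L) with hy'
    have hx'o : orderOf x' = p := by
      rw [hx', Subgroup.orderOf_coe, MulEquiv.orderOf_eq]; exact hx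
    have hy'o : orderOf y' = q := by
      rw [hy', Subgroup.orderOf_coe, MulEquiv.orderOf_eq]; exact hy
    have hmem' : x' * y' * x'⁻¹ ∈ Subgroup.zpowers y' := by
      obtain ⟨k, hk⟩ := Subgroup.mem_zpowers_iff.mp hmem
      rw [Subgroup.mem_zpowers_iff]
      refine ⟨k, ?_⟩
      have h1 : e (y ^ k) = e (x * y * x⁻¹) := by rw [hk]
      have h2 := congrArg Subtype.val h1
      simpa [hx', hy'] using h2
    have hcom := Cfsg.Agent.Lib.Helper1.fpf_prime_order_commute H N hNne hHN hfpf hHsol hp hq hpq
      (e y).2 (e x).2 hy'o hx'o hmem'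
    apply e.injective
    apply Subtype.ext
    have : ((e (x * y) : ↥H) : L) = x' * y' := by simp [hx', hy']
    rw [this, hcom]
    simp [hx', hy']

end Cfsg.Agent.Lib.Helper2.FrobComp
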