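import Cfsg.Agent.Lib.Helper2.Tr1

set_option autoImplicit false

/-!
# The biset transfer of a central element
-/

namespace Cfsg.Agent.Lib.Helper2.Tr

open MulAction

section central

variable {T : Type*} [Group T] {X : Type*} [MulAction (T × T) X]

/-- the orbit relation of the subgroup generated by `(z,z)` and `1 × T` -/
def zrel (z : T) (x y : X) : Prop :=
  ∃ (n : ℤ) (s : T), ((z ^ n, z ^ n * s) : T × T) • x = y

theorem zpow_comm' {z : T} (hz : ∀ s : T, z * s = s * z) (n : ℤ) (s : T) :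
    z ^ n * s = s * z ^ n :=
  (Commute.zpow_left (show Commute z s from hz s) n)

theorem zrel_refl (z : T) (x : X) : zrel z x x :=
  ⟨0, 1, by rw [zpow_zero, mul_one]; exact one_smul _ x⟩

theorem zrel_symm {z : T} (hz : ∀ s : T, z * s = s * z) {x y : X} (h : zrel z x y) :
    zrel z y x := by
  obtain ⟨n, s, h⟩ := h
  refine ⟨-n, s⁻¹, ?_⟩
  rw [← h, smul_smul]
  have e : (((z ^ (-n), z ^ (-n) * s⁻¹) : T × T) * (z ^ n, z ^ n * s)) = 1 := by
    rw [Prod.mk_mul_mk]
    have e1 : z ^ (-n) * z ^ n = 1 := by rw [zpow_neg, inv_mul_cancel]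
    have e2 : z ^ (-n) * s⁻¹ * (z ^ n * s) = 1 := by
      have c := zpow_comm' hz n s⁻¹
      calc z ^ (-n) * s⁻¹ * (z ^ n * s) = z ^ (-n) * (s⁻¹ * z ^ n) * s := by
            simp only [mul_assoc]
        _ = z ^ (-n) * (z ^ n * s⁻¹) * s := by rw [c]
        _ = 1 := by rw [zpow_neg, inv_mul_cancel_left, inv_mul_cancel]
    rw [e1, e2]; rfl
  rw [e, one_smul]

theorem zrel_trans {z : T} (hz : ∀ s : T, z * s = s * z) {x y w : X} (h1 : zrel z x y)
    (h2 : zrel z y w) : zrel z x w := by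
  obtain ⟨n, s, h1⟩ := h1
  obtain ⟨m, s', h2⟩ := h2
  refine ⟨m + n, s' * s, ?_⟩
  rw [← h2, ← h1, smul_smul]
  congr 1
  rw [Prod.mk_mul_mk, zpow_add]
  congr 1
  have c := zpow_comm' hz n s'
  calc z ^ m * z ^ n * (s' * s) = z ^ m * (z ^ n * s') * s := by simp only [mul_assoc]
    _ = z ^ m * (s' * z ^ n) * s := by rw [c]
    _ = z ^ m * s' * (z ^ n * s) := by simp only [mul_assoc]

theorem zwd (hf : RFree T X) {z : T} (hz : ∀ s : T, z * s = s * z)
    (hZ : ∀ (x : X) (n : ℤ) (s : T), ((z ^ n, s) : T × T) • x = x → s = z ^ n)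
    {y : X} {n m : ℤ} {s s' : T}
    (h : ((z ^ n, z ^ n * s) : T × T) • y = ((z ^ m, z ^ m * s') : T × T) • y) :
    s = s' ∧ ((z ^ n, z ^ n) : T × T) • y = ((z ^ m, z ^ m) : T × T) • y := by
  have h1 : ((z ^ (-m + n), s'⁻¹ * z ^ (-m + n) * s) : T × T) • y = y := by
    have e : ((z ^ (-m + n), s'⁻¹ * z ^ (-m + n) * s) : T × T)
        = ((z ^ m, z ^ m * s') : T × T)⁻¹ * (z ^ n, z ^ n * s) := by
      rw [Prod.inv_mk, Prod.mk_mul_mk, zpow_add, zpow_neg, mul_inv_rev]
      congr 1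
      simp only [mul_assoc]
    rw [e, mul_smul, h, inv_smul_smul]
  have h2 := hZ y _ _ h1
  have hss : s = s' := by
    have c := zpow_comm' hz (-m + n) s'⁻¹
    rw [← c, mul_assoc] at h2
    have h3 : s'⁻¹ * s = 1 := mul_left_cancel (a := z ^ (-m + n)) (by rw [h2, mul_one])
    exact (inv_mul_eq_one.mp h3).symm
  refine ⟨hss, ?_⟩
  subst hss
  have e1 : ∀ k : ℤ, ((z ^ k, z ^ k * s) : T × T) = (((1 : T), s) : T × T) * (z ^ k, z ^ k) := by
    intro k; rw [Prod.mk_mul_mk, one_mul, zpow_comm' hz k s]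
  rw [e1, e1, mul_smul, mul_smul] at h
  exact smul_left_cancel _ h

theorem exists_equivariant_sec (hf : RFree T X) {z : T} (hz : ∀ s : T, z * s = s * z)
    (hZ : ∀ (x : X) (n : ℤ) (s : T), ((z ^ n, s) : T × T) • x = x → s = z ^ n) :
    ∃ σ : Sec T X, ∀ x, σ.σ (((z, z) : T × T) • x) = ((z, z) : T × T) • σ.σ x := by
  classical
  let st : Setoid X := ⟨zrel z, ⟨zrel_refl z, zrel_symm hz, zrel_trans hz⟩⟩
  let τ : X → X := fun x => (Quotient.mk st x).out
  have hτ1 : ∀ x, zrel z (τ x) x := fun x => Quotient.mk_out (s := st) x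
  have hτ2 : ∀ x y, zrel z x y → τ x = τ y :=
    fun x y h => congrArg Quotient.out (Quotient.sound (s := st) h)
  choose nOf sOf hn using hτ1
  let f : X → X := fun x => ((z ^ nOf x, z ^ nOf x) : T × T) • τ x
  have KL : ∀ (x : X) (n : ℤ) (s : T), ((z ^ n, z ^ n * s) : T × T) • τ x = x →
      f x = ((z ^ n, z ^ n) : T × T) • τ x := by
    intro x n s h
    exact (zwd hf hz hZ ((hn x).trans h.symm)).2
  refine ⟨⟨f, ?_, ?_⟩, ?_⟩
  · intro x
    refine ⟨(sOf x)⁻¹, ?_⟩
    have e1 : (((1 : T), sOf x) : T × T) • f x = x := by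
      show (((1 : T), sOf x) : T × T) • ((z ^ nOf x, z ^ nOf x) : T × T) • τ x = x
      rw [smul_smul, Prod.mk_mul_mk, one_mul, ← zpow_comm' hz]
      exact hn x
    have e2 : (((1 : T), (sOf x)⁻¹) : T × T) = (((1 : T), sOf x) : T × T)⁻¹ := by
      rw [Prod.inv_mk, inv_one]
    rw [e2, inv_smul_eq_iff]
    exact e1.symm
  · intro x u
    have ht : τ ((((1 : T), u) : T × T) • x) = τ x :=
      (hτ2 x _ ⟨0, u, by rw [zpow_zero, one_mul]⟩).symm
    have h : ((z ^ nOf x, z ^ nOf x * (u * sOf x)) : T × T) • τ ((((1 : T), u) : T × T) • x)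
        = (((1 : T), u) : T × T) • x := by
      rw [ht]
      have e : ((z ^ nOf x, z ^ nOf x * (u * sOf x)) : T × T)
          = (((1 : T), u) : T × T) * (z ^ nOf x, z ^ nOf x * sOf x) := by
        rw [Prod.mk_mul_mk, one_mul, ← mul_assoc, zpow_comm' hz (nOf x) u, mul_assoc]
      rw [e, mul_smul, hn x]
    rw [KL _ _ _ h, ht]
  · intro x
    have ht : τ (((z, z) : T × T) • x) = τ x :=
      (hτ2 x _ ⟨1, 1, by rw [zpow_one, mul_one]⟩).symm
    have e : ∀ s : T, ((z ^ (1 + nOf x), z ^ (1 + nOf x) * s) : T × T)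
        = ((z, z) : T × T) * (z ^ nOf x, z ^ nOf x * s) := by
      intro s
      rw [Prod.mk_mul_mk, zpow_one_add, mul_assoc]
    have h : ((z ^ (1 + nOf x), z ^ (1 + nOf x) * sOf x) : T × T) • τ (((z, z) : T × T) • x)
        = ((z, z) : T × T) • x := by
      rw [ht, e, mul_smul, hn x]
    show f (((z, z) : T × T) • x) = ((z, z) : T × T) • f x
    rw [KL _ _ _ h, ht]
    show _ = ((z, z) : T × T) • ((z ^ nOf x, z ^ nOf x) : T × T) • τ x
    rw [smul_smul, Prod.mk_mul_mk, zpow_one_add]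

theorem tr_central [Finite T] [Finite X] (hf : RFree T X) (σ : Sec T X) (z : T)
    (hz : ∀ s : T, z * s = s * z)
    (hZ : ∀ (x : X) (n : ℤ) (s : T), ((z ^ n, s) : T × T) • x = x → s = z ^ n) :
    tr hf σ z = Abelianization.of z ^ Nat.card (Rep σ) := by
  obtain ⟨σ', hσ'⟩ := exists_equivariant_sec hf hz hZ
  have hk : ∀ r : Rep σ', kap σ' z r.1 = z := by
    intro r
    symm
    apply kap_unique hf
    have e : ((z, (1 : T)) : T × T) = (((1 : T), z⁻¹) : T × T) * (z, z) := by simp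
    rw [e, mul_smul, σ'.const, hσ', r.2]
  have hc : Nat.card (Rep σ') = Nat.card (Rep σ) := by
    have h1 := card_rep_mul hf σ
    have h2 := card_rep_mul hf σ'
    have hT : 0 < Nat.card T := Nat.card_pos
    exact Nat.eq_of_mul_eq_mul_right hT (h2.trans h1.symm)
  rw [tr_indep hf σ σ', tr_apply]
  simp only [hk]
  rw [Finset.prod_const, Finset.card_univ, ← hc, Nat.card_eq_fintype_card]

end central

end Cfsg.Agent.Lib.Helper2.Tr
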