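import Cfsg.Agent.Lib.Helper2.Tr6b
import Cfsg.Agent.Lib.Helper2.Tr1b
import Cfsg.Agent.Lib.Helper9.Focal

set_option autoImplicit false

/-!
# The transfer of a characteristic biset: invariance, the focal subgroup and the centre
-/

namespace Cfsg.Agent.Lib.Helper2.Tr

open Cfsg Cfsg.FusionSystem Cfsg.Agent.Lib.Helper9 MulAction

universe u

theorem mark_compHom {H G : Type*} [Group H] [Group G] {X : Type*} [MulAction G X] (ι : H →* G)
    (K : Subgroup H) : @mark H _ X (MulAction.compHom X ι) K = mark X (K.map ι) := by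
  letI : MulAction H X := MulAction.compHom X ι
  rw [mark_eq_card, mark_eq_card]
  apply Nat.card_congr
  apply Equiv.subtypeEquivRight
  intro x
  constructor
  · rintro h _ ⟨k, hk, rfl⟩
    exact h k hk
  · intro h k hk
    exact h (ι k) ⟨k, hk, rfl⟩

theorem exists_sec {T : Type*} [Group T] {X : Type*} [MulAction (T × T) X] (hf : RFree T X) :
    Nonempty (Sec T X) := by
  obtain ⟨σ, -⟩ := exists_equivariant_sec hf (z := (1 : T)) (fun s => by rw [one_mul, mul_one])
    (fun x n s h => by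
      rw [one_zpow] at h ⊢
      exact hf x s h)
  exact ⟨σ⟩

variable {Ω : Type u} [Group Ω] {S : Subgroup Ω}

section assembly

variable [Finite S] {p : ℕ} [Fact p.Prime] {F : FusionSystem S} {X : Type u}
  [MulAction (↥S × ↥S) X]

theorem rfree_of_good (hX : Good p F 0 X) : RFree ↥S X := by
  intro x s hs
  obtain ⟨P, f, hf, hD⟩ := hX.fg x
  have h1 : ((1 : ↥S), s) ∈ stabilizer (↥S × ↥S) x := hs
  obtain ⟨-, h2⟩ := (hD 1 s).mp h1
  apply Subtype.ext
  rw [← h2]
  exact hf.map_one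

/-- the transfer is invariant under the maps of the system -/
theorem tr_invariant [Finite X] (hX : Good p F 0 X) (hf : RFree ↥S X) (σ : Sec ↥S X)
    {P : Subgroup Ω} {φ : P →* Ω} (hφ : φ ∈ F.Hom P) (x : P) :
    tr hf σ ⟨φ x, hom_mem F hφ x⟩ = tr hf σ ⟨x, hom_le F hφ x.2⟩ := by
  have hP := hom_le F hφ
  haveI : Finite ↥P := finite_of_le hP
  have hm : ∀ K : Subgroup (↥P × ↥S),
      @mark _ _ X (MulAction.compHom X
          ((Subgroup.inclusion hP).prodMap (MonoidHom.id ↥S))) K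
        = @mark _ _ X (MulAction.compHom X
          ((φ.codRestrict S (hom_mem F hφ)).prodMap (MonoidHom.id ↥S))) K := by
    intro K
    rw [mark_compHom, mark_compHom]
    obtain ⟨g1, hg1, hg1e⟩ := FRel.ofHom hφ
    apply mark_map_prod hX.fg hg1 (FRel.id F (le_refl S))
    · rintro a b ⟨⟨u, v⟩, -, he⟩
      have h1 : (u : Ω) = a := congrArg (fun z : ↥S × ↥S => (z.1 : Ω)) he
      exact ⟨h1 ▸ u.2, b.2⟩
    · intro a' b'
      constructor
      · rintro ⟨⟨u, v⟩, huv, he⟩
        refine ⟨⟨u, hP u.2⟩, v, ⟨(u, v), huv, rfl⟩, ?_, ?_⟩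
        · rw [hg1e]
          exact congrArg (fun z : ↥S × ↥S => (z.1 : Ω)) he
        · exact congrArg (fun z : ↥S × ↥S => (z.2 : Ω)) he
      · rintro ⟨a, b, ⟨⟨u, v⟩, huv, he⟩, ha, hb⟩
        refine ⟨(u, v), huv, ?_⟩
        have h1 : (u : Ω) = a := congrArg (fun z : ↥S × ↥S => (z.1 : Ω)) he
        have h2 : v = b := congrArg Prod.snd he
        apply Prod.ext
        · apply Subtype.ext
          show φ u = a'
          rw [← ha, ← h1, hg1e]
        · apply Subtype.ext
          show (v : Ω) = b'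
          rw [← hb, h2]
    · intro D E hD hE _ hc
      exact hX.st D E hD hE Nat.card_pos hc
  obtain ⟨θ, hθ⟩ := @exists_equiv_of_mark_eq (↥P × ↥S) _ _ X X
    (MulAction.compHom X ((Subgroup.inclusion hP).prodMap (MonoidHom.id ↥S)))
    (MulAction.compHom X ((φ.codRestrict S (hom_mem F hφ)).prodMap (MonoidHom.id ↥S))) _ _ hm
  symm
  apply tr_eq_of_twist hf σ θ
  · intro y
    exact hθ (x, 1) y
  · intro s y
    have h := hθ (1, s) y
    have e1 : ((Subgroup.inclusion hP).prodMap (MonoidHom.id ↥S)) ((1 : ↥P), s)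
        = ((1 : ↥S), s) := by
      apply Prod.ext
      · show Subgroup.inclusion hP (1 : ↥P) = 1
        exact map_one _
      · rfl
    have e2 : ((φ.codRestrict S (hom_mem F hφ)).prodMap (MonoidHom.id ↥S)) ((1 : ↥P), s)
        = ((1 : ↥S), s) := by
      apply Prod.ext
      · show (φ.codRestrict S (hom_mem F hφ)) (1 : ↥P) = 1
        exact map_one _
      · rfl
    have h' : θ (((Subgroup.inclusion hP).prodMap (MonoidHom.id ↥S)) ((1 : ↥P), s) • y)
        = ((φ.codRestrict S (hom_mem F hφ)).prodMap (MonoidHom.id ↥S)) ((1 : ↥P), s) • θ y := h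
    rw [e1, e2] at h'
    exact h'

/-- the focal subgroup is killed by the transfer -/
theorem focal_le_ker [Finite X] (hX : Good p F 0 X) (hf : RFree ↥S X) (σ : Sec ↥S X) :
    F.focalSubgroup ≤ (tr hf σ).ker.map S.subtype := by
  unfold focalSubgroup
  rw [Subgroup.closure_le]
  rintro y ⟨P, φ, x, hφ, rfl⟩
  refine ⟨(⟨x, hom_le F hφ x.2⟩ : ↥S)⁻¹ * ⟨φ x, hom_mem F hφ x⟩, ?_, rfl⟩
  rw [SetLike.mem_coe, MonoidHom.mem_ker, map_mul, map_inv, tr_invariant hX hf σ hφ x,
    inv_mul_cancel]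

/-- the transfer of an element of the centre of the system -/
theorem tr_center [Finite X] (hX : Good p F 0 X) (hf : RFree ↥S X) (σ : Sec ↥S X) {z : Ω}
    (hz : z ∈ F.center) (hzS : z ∈ S) :
    tr hf σ ⟨z, hzS⟩ = Abelianization.of (⟨z, hzS⟩ : ↥S) ^ Nat.card (Rep σ) := by
  have hZ := isCentral_center F
  apply tr_central hf σ
  · intro s
    have h1 := map_eq_of_isCentral F hZ (F.conj_mem (le_refl S) s.2) ⟨z, hzS⟩ hz
    have h2 : (s : Ω) * z * (s : Ω)⁻¹ = z := h1
    apply Subtype.ext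
    show z * (s : Ω) = s * z
    calc z * s = ((s : Ω) * z * (s : Ω)⁻¹) * s := by rw [h2]
      _ = s * z := by group
  · intro x n s hs
    obtain ⟨P, f, hf', hD⟩ := hX.fg x
    have h1 : ((⟨z, hzS⟩ : ↥S) ^ n, s) ∈ stabilizer (↥S × ↥S) x := hs
    obtain ⟨h2, h3⟩ := (hD _ _).mp h1
    obtain ⟨φ, hφ, hφf⟩ := hf'
    have hmem : (((⟨z, hzS⟩ : ↥S) ^ n : ↥S) : Ω) ∈ F.center := by
      rw [Subgroup.coe_zpow]
      exact Subgroup.zpow_mem _ hz n
    have h4 := map_eq_of_isCentral F hZ hφ ⟨_, h2⟩ hmem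
    apply Subtype.ext
    rw [← h3]
    exact (hφf ⟨_, h2⟩).symm.trans h4

/-- the main consequence: a central element of the focal subgroup lies in the derived subgroup -/
theorem mem_commutator_of_good (hS : IsPGroup p S) (hX : Good p F 0 X) {z : Ω}
    (hzf : z ∈ F.focalSubgroup) (hzc : z ∈ F.center) :
    z ∈ ⁅(S : Subgroup Ω), (S : Subgroup Ω)⁆ := by
  have := hX.fin
  have hfree := rfree_of_good hX
  obtain ⟨σ⟩ := exists_sec hfree
  obtain ⟨w, hw, rfl⟩ := focal_le_ker hX hfree σ hzf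
  have h1 : tr hfree σ w = 1 := hw
  have h2 : tr hfree σ w = Abelianization.of w ^ Nat.card (Rep σ) :=
    tr_center hX hfree σ hzc w.2
  have h3 : Abelianization.of w ^ Nat.card (Rep σ) = 1 := by
    rw [← h2]
    exact h1
  have hk : ¬ p ∣ Nat.card (Rep σ) := by
    obtain ⟨k, hk1, hk2⟩ := hX.cd
    have h4 := card_rep_mul hfree σ
    rw [hk1] at h4
    have hpos : 0 < Nat.card S := Nat.card_pos
    rw [Nat.eq_of_mul_eq_mul_right hpos h4]
    exact hk2
  have hpq : IsPGroup p (Abelianization ↥S) := hS.to_quotient (commutator ↥S)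
  obtain ⟨j, hj⟩ := hpq (Abelianization.of w)
  have hd1 := orderOf_dvd_of_pow_eq_one h3
  have hd2 := orderOf_dvd_of_pow_eq_one hj
  have hcop : Nat.Coprime (Nat.card (Rep σ)) (p ^ j) :=
    (Nat.Coprime.pow_right j
      ((Nat.Prime.coprime_iff_not_dvd (Fact.out : p.Prime)).mpr hk).symm)
  have hone : orderOf (Abelianization.of w) = 1 := by
    have := Nat.dvd_gcd hd1 hd2
    rw [hcop] at this
    exact Nat.dvd_one.mp this
  have hw1 : Abelianization.of w = 1 := orderOf_eq_one_iff.mp hone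
  have hwc : w ∈ commutator ↥S := (QuotientGroup.eq_one_iff w).mp hw1
  rw [commutator_def] at hwc
  have hmap : (⁅(⊤ : Subgroup ↥S), (⊤ : Subgroup ↥S)⁆).map S.subtype
      = ⁅(S : Subgroup Ω), (S : Subgroup Ω)⁆ := by
    rw [Subgroup.map_commutator, ← MonoidHom.range_eq_map, Subgroup.range_subtype]
  rw [← hmap]
  exact ⟨w, hwc, rfl⟩

end assembly

/-- foc(F) ∩ Z(F) = S' ∩ Z(F) for a saturated fusion system -/
theorem focal_inf_center [Finite S] (p : ℕ) [Fact p.Prime] (hS : IsPGroup p S)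
    (F : FusionSystem S) (hF : F.IsSaturated p) :
    F.focalSubgroup ⊓ F.center = ⁅(S : Subgroup Ω), (S : Subgroup Ω)⁆ ⊓ F.center := by
  obtain ⟨X, inst, hX⟩ := exists_good hS hF
  apply le_antisymm
  · rintro z ⟨hzf, hzc⟩
    exact ⟨mem_commutator_of_good hS hX hzf hzc, hzc⟩
  · apply inf_le_inf_right
    rw [focal_eq_hyperfocal_sup_commutator p hS F hF]
    exact le_sup_right

end Cfsg.Agent.Lib.Helper2.Tr
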