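import Mathlib
import Cfsg.Prelude.Def_Local
import Cfsg.Prelude.Def_CaseTheorems
import Cfsg.Agent.Lib.Helper3.A8Emb

set_option autoImplicit false
set_option linter.unusedVariables false
set_option linter.unusedSectionVars false
set_option linter.style.longLine false

/-! # GH5 = S3106: shared definitions

Two levels.
* MODULE level: an abstract `Layer Yb V W` (Yb ≃* A5 acting on two exponent-2 groups `V` (order 16,
  faithful) and `W` (minimal), a squaring map `s : V → W` and a commutator map `c : V → V → W`).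
* GROUP level: `GH5Data Q` for a normal 2-subgroup `Q` of a finite group `G` with `G ⧸ Q ≃* A5`,
  sectional 2-rank ≤ 4, and `G/Q` faithful on `Q / sqSub Q`; `BridgeSpec` relates a `Layer` on the
  types `G ⧸ Q`, `↥Q ⧸ (sqSub Q).subgroupOf Q`, `↥(sqSub Q)` to the group operations. -/

namespace Cfsg.Agent.Lib.Helper2.GH5

open Cfsg.Agent.Lib.Helper3.A8Emb (sqSub)

abbrev A5 := alternatingGroup (Fin 5)

section ModuleLevel

variable {Yb U : Type*} [Group Yb] [Group U]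

/-- stabiliser of `u` under the action `ρ` -/
def stab (ρ : Yb →* MulAut U) (u : U) : Subgroup Yb where
  carrier := {y | ρ y u = u}
  one_mem' := by simp
  mul_mem' := by
    intro a b ha hb
    simp only [Set.mem_setOf_eq] at ha hb ⊢
    rw [map_mul, MulAut.mul_apply, hb, ha]
  inv_mem' := by
    intro a ha
    simp only [Set.mem_setOf_eq] at ha ⊢
    rw [map_inv, MulAut.inv_apply]
    exact (MulEquiv.symm_apply_eq _).mpr ha.symm

theorem mem_stab (ρ : Yb →* MulAut U) (u : U) (y : Yb) : y ∈ stab ρ u ↔ ρ y u = u := Iff.rfl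

/-- fixed points of a subgroup `P` under the action `ρ` -/
def fix (ρ : Yb →* MulAut U) (P : Subgroup Yb) : Subgroup U where
  carrier := {u | ∀ y ∈ P, ρ y u = u}
  one_mem' := by intro y _; simp
  mul_mem' := by
    intro a b ha hb y hy
    rw [map_mul, ha y hy, hb y hy]
  inv_mem' := by
    intro a ha y hy
    rw [map_inv, ha y hy]

theorem mem_fix (ρ : Yb →* MulAut U) (P : Subgroup Yb) (u : U) : u ∈ fix ρ P ↔ ∀ y ∈ P, ρ y u = u := Iff.rfl

/-- faithful module of order 16 and exponent 2 -/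
structure IsMod16 (ρ : Yb →* MulAut U) : Prop where
  exp2 : ∀ u : U, u * u = 1
  card : Nat.card U = 16
  inj : Function.Injective ρ

/-- type N: elements of order 3 fix only the identity -/
def TypeN (ρ : Yb →* MulAut U) : Prop := ∀ y : Yb, orderOf y = 3 → ∀ u : U, ρ y u = u → u = 1

/-- type O: elements of order 3 fix exactly 4 elements -/
def TypeO (ρ : Yb →* MulAut U) : Prop := ∀ y : Yb, orderOf y = 3 → Nat.card {u : U // ρ y u = u} = 4

/-- the explicit model of a type O module: `U = F_2^5 / <all-ones>` (`m S` = sum of the basis vectors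
in `S`), permuted through `φ`. `w i = m {i}`. -/
structure IsModelO (ρ : Yb →* MulAut U) (m : Finset (Fin 5) → U) (φ : Yb ≃* A5) : Prop where
  map_symmDiff : ∀ S T : Finset (Fin 5), m (symmDiff S T) = m S * m T
  surj : Function.Surjective m
  eq_iff : ∀ S T : Finset (Fin 5), m S = m T ↔ (T = S ∨ T = Sᶜ)
  act : ∀ (y : Yb) (S : Finset (Fin 5)),
    ρ y (m S) = m (S.map (Equiv.toEmbedding ((φ y : A5) : Equiv.Perm (Fin 5))))

/-- an invariant quadratic map `q : U → Z` into an exponent-2 commutative group with trivial action: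
its polarisation is bimultiplicative. -/
structure IsInvQuad {Z : Type*} [Group Z] (ρ : Yb →* MulAut U) (q : U → Z) : Prop where
  inv : ∀ y u, q (ρ y u) = q u
  polar_left : ∀ u u' v, q (u * u' * v) * q (u * u') * q v =
      (q (u * v) * q u * q v) * (q (u' * v) * q u' * q v)

end ModuleLevel

section LayerDef

/-- The abstract one-layer situation. `s` = squaring `V = Q/W → W`, `c` = commutator. -/
structure Layer (Yb V W : Type*) [Group Yb] [Group V] [Group W] where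
  ρV : Yb →* MulAut V
  ρW : Yb →* MulAut W
  s : V → W
  c : V → V → W
  V2 : ∀ v : V, v * v = 1
  W2 : ∀ w : W, w * w = 1
  cardV : Nat.card V = 16
  injV : Function.Injective ρV
  finW : Finite W
  s_mul : ∀ u v, s (u * v) = s u * s v * c u v
  c_mul_left : ∀ u u' v, c (u * u') v = c u v * c u' v
  c_mul_right : ∀ u v v', c u (v * v') = c u v * c u v'
  c_self : ∀ v, c v v = 1
  s_equiv : ∀ y v, s (ρV y v) = ρW y (s v)
  c_equiv : ∀ y u v, c (ρV y u) (ρV y v) = ρW y (c u v)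
  gen : Subgroup.closure (Set.range s) = ⊤
  min : ∀ M : Subgroup W, (∀ y, ∀ w ∈ M, ρW y w ∈ M) → M = ⊥ ∨ M = ⊤
  ntW : ∃ w : W, w ≠ 1
  ax1 : ∀ (L : Subgroup V) (M : Subgroup W), (∀ l ∈ L, s l ∈ M) →
    (∀ l ∈ L, ∀ l' ∈ L, c l l' ∈ M) → Nat.card L * Nat.card W ≤ 16 * Nat.card M

variable {Yb V W : Type*} [Group Yb] [Group V] [Group W]

/-- outcome (N,N) -/
def Layer.OutNN (L : Layer Yb V W) : Prop :=
  Nat.card W = 16 ∧ ∃ y : Yb, orderOf y = 3 ∧ (∀ v, L.ρV y v = v → v = 1) ∧ (∀ w, L.ρW y w = w → w = 1)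

/-- outcome (O,O) (module part) -/
def Layer.OutOO (L : Layer Yb V W) : Prop :=
  Nat.card W = 16 ∧ (∀ u v, L.c u v = 1) ∧ Function.Injective L.s ∧
    ∀ t : Yb, orderOf t = 2 → (∀ v, L.ρV t v = v → ∃ a, v = a * L.ρV t a) ∧
      Nat.card {v : V // L.ρV t v = v} = 4 ∧ Nat.card {w : W // L.ρW t w = w} = 4

/-- outcome (O,triv) -/
def Layer.OutOT (L : Layer Yb V W) : Prop :=
  Nat.card W = 2 ∧ ∃ (z : W) (x1 x2 x3 x4 : V), z ≠ 1 ∧
    Subgroup.closure ({x1, x2, x3, x4} : Set V) = ⊤ ∧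
    L.s x1 = 1 ∧ L.s x2 = 1 ∧ L.s x3 = 1 ∧ L.s x4 = 1 ∧
    L.c x1 x2 = z ∧ L.c x1 x3 = z ∧ L.c x1 x4 = z ∧ L.c x2 x3 = z ∧ L.c x2 x4 = z ∧ L.c x3 x4 = z

end LayerDef

section GroupLevel

variable {G : Type*} [Group G]

/-- the group-level standing hypotheses -/
structure GH5Data (Q : Subgroup G) [Q.Normal] : Prop where
  pgroup : IsPGroup 2 Q
  iso : Nonempty (G ⧸ Q ≃* A5)
  rank : Cfsg.SectionalPRankLE 2 4 G
  faithful : ∀ g : G, (∀ a ∈ Q, g * a * g⁻¹ * a⁻¹ ∈ sqSub Q) → g ∈ Q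

/-- the conclusion (second alternative of S3106) for the group `↥Q` -/
def Concl2 (P : Type*) [Group P] : Prop :=
  Nat.card P = 32 ∧ ∃ A B : Subgroup P, Nonempty (↥A ≃* QuaternionGroup 2) ∧
    Nonempty (↥B ≃* DihedralGroup 4) ∧ (∀ a ∈ A, ∀ b ∈ B, a * b = b * a) ∧ A ⊔ B = ⊤ ∧
    A ⊓ B = Subgroup.center P

/-- how a `Layer` on the canonical types is tied to the group `G`. -/
structure BridgeSpec (Q : Subgroup G) [hQn : Q.Normal]
    (L : Layer (G ⧸ Q) (↥Q ⧸ (sqSub Q).subgroupOf Q) ↥(sqSub Q)) : Prop where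
  ρV_mk : ∀ (g : G) (a : ↥Q), L.ρV (g : G ⧸ Q) ((a : ↥Q) : ↥Q ⧸ (sqSub Q).subgroupOf Q) =
    (((⟨g * (a : G) * g⁻¹, hQn.conj_mem a a.2 g⟩ : ↥Q)) : ↥Q ⧸ (sqSub Q).subgroupOf Q)
  ρW_mk : ∀ (g : G) (w : ↥(sqSub Q)), ((L.ρW (g : G ⧸ Q) w : ↥(sqSub Q)) : G) = g * (w : G) * g⁻¹
  s_mk : ∀ a : ↥Q, ((L.s ((a : ↥Q) : ↥Q ⧸ (sqSub Q).subgroupOf Q) : ↥(sqSub Q)) : G) = (a : G) * (a : G)
  c_mk : ∀ a b : ↥Q, ((L.c ((a : ↥Q) : ↥Q ⧸ (sqSub Q).subgroupOf Q)
      ((b : ↥Q) : ↥Q ⧸ (sqSub Q).subgroupOf Q) : ↥(sqSub Q)) : G) = (a : G) * b * (a : G)⁻¹ * (b : G)⁻¹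
  central : ∀ w ∈ sqSub Q, ∀ a ∈ Q, a * w = w * a

end GroupLevel

end Cfsg.Agent.Lib.Helper2.GH5
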