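import Mathlib
import Cfsg.Agent.Lib.Helper2.GH5Defs
import Cfsg.Agent.Lib.Helper6.GH5R

set_option autoImplicit false
set_option linter.unusedVariables false
set_option linter.unusedSectionVars false
set_option linter.style.longLine false
set_option linter.unusedSimpArgs false
set_option maxHeartbeats 1000000

/-! # GH5 = S3106: top-level plumbing (quotient stability, choice of the layers) -/

namespace Cfsg.Agent.Lib.Helper2.GH5

open Cfsg.Agent.Lib.Helper3.A8Emb (sqSub sqSub_le)
open Cfsg.Agent.Lib.Helper6.GH5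

theorem sqSub_map {G H : Type*} [Group G] [Group H] (f : G →* H) (Q : Subgroup G) :
    sqSub (Q.map f) = (sqSub Q).map f := by
  unfold sqSub
  rw [MonoidHom.map_closure]
  congr 1
  ext y
  constructor
  · rintro ⟨b, ⟨a, ha, rfl⟩, rfl⟩
    exact ⟨a ^ 2, ⟨a, ha, rfl⟩, by simp⟩
  · rintro ⟨x, ⟨a, ha, rfl⟩, rfl⟩
    exact ⟨f a, ⟨a, ha, rfl⟩, by simp⟩

theorem sq_mem_sqSub {G : Type*} [Group G] (Q : Subgroup G) {a : G} (ha : a ∈ Q) : a * a ∈ sqSub Q := by
  apply Subgroup.subset_closure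
  exact ⟨a, ha, (pow_two a).symm⟩

instance sqSub_normal' {G : Type*} [Group G] (Q : Subgroup G) [Q.Normal] : (sqSub Q).Normal :=
  Cfsg.Agent.Lib.Helper3.A8Emb.sqSub_normal Q

/-- membership in the image of a subgroup containing the kernel -/
theorem mem_map_mk_iff {G : Type*} [Group G] (N K : Subgroup G) [N.Normal] (hNK : N ≤ K) (x : G) :
    (QuotientGroup.mk' N x) ∈ K.map (QuotientGroup.mk' N) ↔ x ∈ K := by
  constructor
  · rintro ⟨k, hk, hkx⟩
    have h1 : k⁻¹ * x ∈ N := by
      have := QuotientGroup.eq.mp hkx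
      simpa using this
    have : x = k * (k⁻¹ * x) := by group
    rw [this]
    exact K.mul_mem hk (hNK h1)
  · intro hx
    exact Subgroup.mem_map_of_mem _ hx

/-- TQ: quotient stability -/
theorem tq_quotient {G : Type*} [Group G] (Q : Subgroup G) [Q.Normal] (hD : GH5Data Q)
    (N : Subgroup G) [N.Normal] (hN : N ≤ sqSub Q) :
    GH5Data (Q.map (QuotientGroup.mk' N)) := by
  have hNQ : N ≤ Q := hN.trans (sqSub_le Q)
  refine ⟨hD.pgroup.map _, ?_, sectional_quotient6 hD.rank N, ?_⟩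
  · obtain ⟨e⟩ := hD.iso
    exact ⟨(QuotientGroup.quotientQuotientEquivQuotient N Q hNQ).trans e⟩
  · intro gb hgb
    obtain ⟨g, rfl⟩ := QuotientGroup.mk'_surjective N gb
    have hg : g ∈ Q := by
      apply hD.faithful
      intro a ha
      have h1 := hgb (QuotientGroup.mk' N a) (Subgroup.mem_map_of_mem _ ha)
      rw [sqSub_map, ← map_inv, ← map_inv, ← map_mul, ← map_mul, ← map_mul] at h1
      exact (mem_map_mk_iff N (sqSub Q) hN _).mp h1
    exact Subgroup.mem_map_of_mem _ hg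

/-- correspondence: a maximal normal subgroup below `Φ` gives a minimal normal image -/
theorem min_normal_quotient {G : Type*} [Group G] (N Φ : Subgroup G) [N.Normal] (hNΦ : N ≤ Φ)
    (hmax : ∀ M : Subgroup G, M.Normal → N ≤ M → M ≤ Φ → M = N ∨ M = Φ) :
    ∀ M' : Subgroup (G ⧸ N), M'.Normal → M' ≤ Φ.map (QuotientGroup.mk' N) →
      M' = ⊥ ∨ M' = Φ.map (QuotientGroup.mk' N) := by
  intro M' hM' hle
  have hsurj := QuotientGroup.mk'_surjective N
  have hM : (M'.comap (QuotientGroup.mk' N)).Normal := hM'.comap _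
  have h1 : N ≤ M'.comap (QuotientGroup.mk' N) := by
    intro x hx
    rw [Subgroup.mem_comap]
    have : QuotientGroup.mk' N x = 1 := (QuotientGroup.eq_one_iff x).mpr hx
    rw [this]; exact M'.one_mem
  have h2 : M'.comap (QuotientGroup.mk' N) ≤ Φ := by
    intro x hx
    rw [Subgroup.mem_comap] at hx
    exact (mem_map_mk_iff N Φ hNΦ x).mp (hle hx)
  have h3 : (M'.comap (QuotientGroup.mk' N)).map (QuotientGroup.mk' N) = M' :=
    Subgroup.map_comap_eq_self_of_surjective hsurj M'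
  rcases hmax _ hM h1 h2 with h | h
  · left
    rw [← h3, h]
    ext y
    constructor
    · rintro ⟨x, hx, rfl⟩
      rw [Subgroup.mem_bot]
      exact (QuotientGroup.eq_one_iff x).mpr hx
    · intro hy
      rw [Subgroup.mem_bot] at hy
      rw [hy]; exact Subgroup.one_mem _
  · right
    rw [← h3, h]

/-- existence of a maximal normal subgroup strictly below `Φ` -/
theorem exists_max_normal_lt {G : Type*} [Group G] [Finite G] (Φ : Subgroup G) (hΦ : Φ ≠ ⊥) :
    ∃ N : Subgroup G, N.Normal ∧ N ≤ Φ ∧ N ≠ Φ ∧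
      ∀ M : Subgroup G, M.Normal → N ≤ M → M ≤ Φ → M = N ∨ M = Φ := by
  classical
  let S : Set (Subgroup G) := {N | N.Normal ∧ N ≤ Φ ∧ N ≠ Φ}
  have hfin : S.Finite := Set.toFinite S
  have hne : S.Nonempty := ⟨⊥, inferInstance, bot_le, fun h => hΦ h.symm⟩
  obtain ⟨N, hN⟩ := hfin.exists_maximal hne
  obtain ⟨⟨hNn, hNle, hNne⟩, hmax⟩ := hN
  refine ⟨N, hNn, hNle, hNne, ?_⟩
  intro M hM hNM hMΦ
  by_cases h : M = Φ
  · right; exact h
  · left
    have : M ∈ S := ⟨hM, hMΦ, h⟩
    exact le_antisymm (hmax this hNM) hNM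

end Cfsg.Agent.Lib.Helper2.GH5
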