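import Mathlib
import Cfsg.Agent.Lib.Helper2.GH5Top

set_option autoImplicit false
set_option linter.unusedVariables false
set_option linter.unusedSectionVars false
set_option linter.style.longLine false
set_option linter.unusedSimpArgs false
set_option maxHeartbeats 1000000

/-! # GH5 = S3106: the core theorem from the one-layer and second-layer theorems -/

namespace Cfsg.Agent.Lib.Helper2.GH5

open Cfsg.Agent.Lib.Helper3.A8Emb (sqSub sqSub_le)
open Cfsg.Agent.Lib.Helper6.GH5

universe u

/-- statement of the one-layer theorem -/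
def OneLayerStmt : Prop :=
  ∀ (G : Type u) [Group G] [Finite G] (Q : Subgroup G) [Q.Normal], GH5Data Q → sqSub Q ≠ ⊥ →
    (∀ M : Subgroup G, M.Normal → M ≤ sqSub Q → M = ⊥ ∨ M = sqSub Q) →
    Nat.card (sqSub Q) = 2 ∧ IsQ8D8 ↥Q

/-- statement of the second-layer theorem -/
def SecondLayerStmt : Prop :=
  ∀ (G : Type u) [Group G] [Finite G] (Q : Subgroup G) [Q.Normal], GH5Data Q →
    ∀ (W2 : Subgroup G) [W2.Normal], W2 ≤ sqSub Q → W2 ≠ ⊥ →
      (∀ M : Subgroup G, M.Normal → M ≤ W2 → M = ⊥ ∨ M = W2) →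
      Nat.card (sqSub Q) = 2 * Nat.card W2 →
      (∃ a ∈ Q, ∃ b ∈ Q, a * b * a⁻¹ * b⁻¹ ∉ W2) → False

/-- statement of (V): `|Q / sqSub Q| = 16` -/
def CardVStmt : Prop :=
  ∀ (G : Type u) [Group G] [Finite G] (Q : Subgroup G) [Q.Normal], GH5Data Q →
    Nat.card Q = 16 * Nat.card (sqSub Q)

theorem card_map_mk {G : Type*} [Group G] [Finite G] (N K : Subgroup G) [N.Normal] (hNK : N ≤ K) :
    Nat.card K = Nat.card N * Nat.card (K.map (QuotientGroup.mk' N)) := by
  have h1 : (K.map (QuotientGroup.mk' N)).comap (QuotientGroup.mk' N) = K := by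
    apply Subgroup.comap_map_eq_self
    rw [QuotientGroup.ker_mk']; exact hNK
  have h2 : ((K.map (QuotientGroup.mk' N)).comap (QuotientGroup.mk' N)).index =
      (K.map (QuotientGroup.mk' N)).index :=
    Subgroup.index_comap_of_surjective _ (QuotientGroup.mk'_surjective N)
  rw [h1] at h2
  have h3 : Nat.card G = Nat.card (G ⧸ N) * Nat.card N := Subgroup.card_eq_card_quotient_mul_card_subgroup N
  have h4 : Nat.card K * K.index = Nat.card G := Subgroup.card_mul_index K
  have h5 : Nat.card (K.map (QuotientGroup.mk' N)) * (K.map (QuotientGroup.mk' N)).index =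
      Nat.card (G ⧸ N) := Subgroup.card_mul_index _
  have hpos : 0 < K.index := Nat.pos_of_ne_zero (Subgroup.index_ne_zero_of_finite)
  have : Nat.card K * K.index = (Nat.card N * Nat.card (K.map (QuotientGroup.mk' N))) * K.index := by
    rw [h4, h3, ← h5, h2]; ring
  exact Nat.eq_of_mul_eq_mul_right hpos this

theorem not_comm_of_isQ8D8 {P : Type*} [Group P] (h : IsQ8D8 P) : ∃ a b : P, a * b ≠ b * a := by
  obtain ⟨_, A, B, ⟨eA⟩, _, _, _, _⟩ := h
  refine ⟨(eA.symm (QuaternionGroup.a 1) : P), (eA.symm (QuaternionGroup.xa 0) : P), ?_⟩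
  intro hc
  have h1 : eA.symm (QuaternionGroup.a 1) * eA.symm (QuaternionGroup.xa 0) =
      eA.symm (QuaternionGroup.xa 0) * eA.symm (QuaternionGroup.a 1) := Subtype.ext hc
  rw [← map_mul, ← map_mul] at h1
  have h2 := eA.symm.injective h1
  revert h2
  decide

theorem core (h1 : OneLayerStmt.{u}) (h2 : SecondLayerStmt.{u}) (h3 : CardVStmt.{u})
    {G : Type u} [Group G] [Finite G] (Q : Subgroup G) [Q.Normal] (hD : GH5Data Q) :
    IsE16 ↥Q ∨ IsQ8D8 ↥Q := by
  by_cases hΦ : sqSub Q = ⊥
  · left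
    have hsq : ∀ a : ↥Q, a ^ 2 = 1 := by
      intro a
      have := sq_mem_sqSub Q a.2
      rw [hΦ, Subgroup.mem_bot] at this
      apply Subtype.ext
      rw [pow_two]
      exact this
    refine ⟨Cfsg.Agent.Lib.Helper3.A8Emb.comm_of_sq hsq, hsq, ?_⟩
    have := h3 G Q hD
    rw [hΦ] at this
    simpa using this
  · right
    obtain ⟨N, hNn, hNle, hNne, hmax⟩ := exists_max_normal_lt (sqSub Q) hΦ
    by_cases hN : N = ⊥
    · subst hN
      exact (h1 G Q hD hΦ (fun M hM hle => hmax M hM bot_le hle)).2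
    · exfalso
      haveI := hNn
      have hNQ : N ≤ Q := hNle.trans (sqSub_le Q)
      have hD' := tq_quotient Q hD N hNle
      have hΦ' : sqSub (Q.map (QuotientGroup.mk' N)) = (sqSub Q).map (QuotientGroup.mk' N) :=
        sqSub_map _ _
      have hΦ'ne : sqSub (Q.map (QuotientGroup.mk' N)) ≠ ⊥ := by
        rw [hΦ']
        intro hbot
        apply hNne
        apply le_antisymm hNle
        intro x hx
        have : QuotientGroup.mk' N x ∈ (sqSub Q).map (QuotientGroup.mk' N) :=
          Subgroup.mem_map_of_mem _ hx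
        rw [hbot, Subgroup.mem_bot] at this
        exact (QuotientGroup.eq_one_iff x).mp this
      have hmin' := min_normal_quotient N (sqSub Q) hNle hmax
      rw [← hΦ'] at hmin'
      obtain ⟨hc2, hQ8⟩ := h1 (G ⧸ N) (Q.map (QuotientGroup.mk' N)) hD' hΦ'ne hmin'
      -- |Φ| = 2 |N|
      have hcardΦ : Nat.card (sqSub Q) = Nat.card N * 2 := by
        rw [card_map_mk N (sqSub Q) hNle, ← hΦ', hc2]
      -- nonabelian mod N
      obtain ⟨a', b', hab'⟩ := not_comm_of_isQ8D8 hQ8
      obtain ⟨a, haQ, haa⟩ := a'.2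
      obtain ⟨b, hbQ, hbb⟩ := b'.2
      have habN : a * b * a⁻¹ * b⁻¹ ∉ N := by
        intro hmem
        apply hab'
        apply Subtype.ext
        show (a' : G ⧸ N) * (b' : G ⧸ N) = (b' : G ⧸ N) * (a' : G ⧸ N)
        rw [← haa, ← hbb, ← map_mul, ← map_mul]
        have h5 : QuotientGroup.mk' N (a * b * a⁻¹ * b⁻¹) = 1 :=
          (QuotientGroup.eq_one_iff _).mpr hmem
        have h6 : a * b = (a * b * a⁻¹ * b⁻¹) * (b * a) := by group
        rw [h6, map_mul, h5, one_mul]
      -- second layer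
      obtain ⟨N2, hN2n, hN2le, hN2ne, hmax2⟩ := exists_max_normal_lt N hN
      haveI := hN2n
      have hD'' := tq_quotient Q hD N2 (hN2le.trans hNle)
      have hΦ'' : sqSub (Q.map (QuotientGroup.mk' N2)) = (sqSub Q).map (QuotientGroup.mk' N2) :=
        sqSub_map _ _
      have hW2le : N.map (QuotientGroup.mk' N2) ≤ sqSub (Q.map (QuotientGroup.mk' N2)) := by
        rw [hΦ'']; exact Subgroup.map_mono hNle
      have hW2ne : N.map (QuotientGroup.mk' N2) ≠ ⊥ := by
        intro hbot
        apply hN2ne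
        apply le_antisymm hN2le
        intro x hx
        have : QuotientGroup.mk' N2 x ∈ N.map (QuotientGroup.mk' N2) :=
          Subgroup.mem_map_of_mem _ hx
        rw [hbot, Subgroup.mem_bot] at this
        exact (QuotientGroup.eq_one_iff x).mp this
      have hmin2 := min_normal_quotient N2 N hN2le hmax2
      have hcard2 : Nat.card (sqSub (Q.map (QuotientGroup.mk' N2))) =
          2 * Nat.card (N.map (QuotientGroup.mk' N2)) := by
        have e1 := card_map_mk N2 (sqSub Q) (hN2le.trans hNle)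
        have e2 := card_map_mk N2 N hN2le
        rw [hΦ'']
        have hpos : 0 < Nat.card N2 := Nat.card_pos
        have : Nat.card N2 * Nat.card ((sqSub Q).map (QuotientGroup.mk' N2)) =
            Nat.card N2 * (2 * Nat.card (N.map (QuotientGroup.mk' N2))) := by
          rw [← e1, hcardΦ, e2]; ring
        exact Nat.eq_of_mul_eq_mul_left hpos this
      have hnab : ∃ x ∈ Q.map (QuotientGroup.mk' N2), ∃ y ∈ Q.map (QuotientGroup.mk' N2),
          x * y * x⁻¹ * y⁻¹ ∉ N.map (QuotientGroup.mk' N2) := by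
        refine ⟨QuotientGroup.mk' N2 a, Subgroup.mem_map_of_mem _ haQ,
          QuotientGroup.mk' N2 b, Subgroup.mem_map_of_mem _ hbQ, ?_⟩
        intro hmem
        rw [← map_inv, ← map_inv, ← map_mul, ← map_mul, ← map_mul] at hmem
        exact habN ((mem_map_mk_iff N2 N hN2le _).mp hmem)
      exact h2 (G ⧸ N2) (Q.map (QuotientGroup.mk' N2)) hD'' (N.map (QuotientGroup.mk' N2))
        hW2le hW2ne hmin2 hcard2 hnab

end Cfsg.Agent.Lib.Helper2.GH5
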