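import Mathlib
import Cfsg.Prelude.Def_Local
import Cfsg.Prelude.Def_CaseTheorems
import Cfsg.Agent.Lib.Helper3.A8Emb
import Cfsg.Agent.Lib.Helper1.Dv5

set_option autoImplicit false
set_option linter.unusedVariables false
set_option linter.unusedSectionVars false
set_option linter.style.longLine false

/-! # GH7 = S3105: shared definitions

`L = SL(3, ZMod 2)` (order 168, simple: `Cfsg.Agent.Lib.Helper1.Dv5.card_SL32`, `simple_SL32`, `iso_SL32`).
GROUP level frame: a finite group `G`, a normal `2`-subgroup `Q`, a surjection `θ : G →* L` with kernel `Q`,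
sectional `2`-rank of `G` at most 4, and `G/Q` faithful on `Q / sqSub Q` (`sqSub Q` = subgroup generated by the
squares of `Q` = Frattini subgroup of the 2-group `Q`). -/

namespace Cfsg.Agent.Lib.Helper2.GH7

open Cfsg.Agent.Lib.Helper3.A8Emb (sqSub)

abbrev L := Matrix.SpecialLinearGroup (Fin 3) (ZMod 2)

universe u

/-- the standing hypotheses -/
structure Frame {G : Type u} [Group G] (Q : Subgroup G) (θ : G →* L) : Prop where
  surj : Function.Surjective θ
  ker : θ.ker = Q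
  pgroup : IsPGroup 2 Q
  rank : Cfsg.SectionalPRankLE 2 4 G
  faithful : ∀ g : G, (∀ a ∈ Q, g * a * g⁻¹ * a⁻¹ ∈ sqSub Q) → g ∈ Q

/-- the (strengthened) conclusion: `Q = E8, E16`, or `Q = Z4 × E8` with no element of order 4 central in `G` -/
def Good {G : Type u} [Group G] (Q : Subgroup G) : Prop :=
  ((∀ q ∈ Q, q * q = 1) ∧ (Nat.card Q = 8 ∨ Nat.card Q = 16)) ∨
  ((∀ a ∈ Q, ∀ b ∈ Q, a * b = b * a) ∧ Nat.card Q = 32 ∧ Nat.card (sqSub Q) = 2 ∧
    ∀ c ∈ Q, (∀ g : G, g * c = c * g) → c * c = 1)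

/-! ### explicit elements of `L` (acting on column vectors `Fin 3 → ZMod 2` by `mulVec`) -/

/-- `I + E12`: transvection with centre `e1`, axis `x2 = 0` -/
def a12 : L := ⟨!![1, 1, 0; 0, 1, 0; 0, 0, 1], by decide⟩
/-- `I + E23`: transvection with centre `e2`, axis `x3 = 0` -/
def b23 : L := ⟨!![1, 0, 0; 0, 1, 1; 0, 0, 1], by decide⟩
/-- `I + E13`: transvection with centre `e1`, axis `x3 = 0`; `z13 = u4 ^ 2` is the centre of the Sylow `D8 = ⟨a12, b23⟩` -/
def z13 : L := ⟨!![1, 0, 1; 0, 1, 0; 0, 0, 1], by decide⟩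
/-- element of order 4: `u4 = a12 * b23` -/
def u4 : L := ⟨!![1, 1, 1; 0, 1, 1; 0, 0, 1], by decide⟩
/-- element of order 7 (companion matrix of `x^3 + x + 1`) -/
def y7 : L := ⟨!![0, 0, 1; 1, 0, 1; 0, 1, 0], by decide⟩
/-- element of order 3 fixing `e1` and normalising `{I + x E12 + y E13}` -/
def x3 : L := ⟨!![1, 0, 0; 0, 0, 1; 0, 1, 1], by decide⟩

theorem a12_sq : a12 * a12 = 1 := by decide
theorem b23_sq : b23 * b23 = 1 := by decide
theorem z13_sq : z13 * z13 = 1 := by decide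
theorem u4_def : u4 = a12 * b23 := by decide
theorem u4_sq : u4 * u4 = z13 := by decide
theorem u4_pow4 : u4 ^ 4 = 1 := by decide
theorem z13_ne : z13 ≠ 1 := by decide
theorem a12_u4 : a12 * u4 * a12 = u4⁻¹ := by decide
theorem y7_pow : y7 ^ 7 = 1 := by decide
theorem y7_ne : y7 ≠ 1 := by decide
theorem x3_pow : x3 ^ 3 = 1 := by decide
theorem x3_ne : x3 ≠ 1 := by decide

end Cfsg.Agent.Lib.Helper2.GH7
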