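import Mathlib
import Cfsg.Agent.Lib.Helper2.GH7Defs

set_option autoImplicit false
set_option linter.unusedVariables false
set_option linter.style.longLine false

/-! # GH7 = S3105: the common hypotheses `HC` of the H1 sub-units (F1, F3, F4, F5).
`A = Z4^3` normal abelian in `G`, `W = Ω₁(A) = ℧¹(A)`, `ker θ` centralises `A`, `L` faithful on `A/W`. -/

namespace Cfsg.Agent.Lib.Helper2.GH7

universe u

variable {G : Type u} [Group G]

/-- the common hypotheses of the H1 sub-units -/
structure HC (θ : G →* L) (A W : Subgroup G) : Prop where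
  surj : Function.Surjective θ
  nA : A.Normal
  nW : W.Normal
  hWA : W ≤ A
  comm : ∀ a ∈ A, ∀ b ∈ A, a * b = b * a
  cardA : Nat.card A = 64
  cardW : Nat.card W = 8
  sq : ∀ a ∈ A, a * a ∈ W
  omega : ∀ a ∈ A, a * a = 1 → a ∈ W
  cent : ∀ g : G, θ g = 1 → ∀ a ∈ A, g * a = a * g
  faith : ∀ g : G, (∀ a ∈ A, g * a * g⁻¹ * a⁻¹ ∈ W) → θ g = 1


end Cfsg.Agent.Lib.Helper2.GH7
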