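import Mathlib
import Cfsg.Agent.Lib.Helper2.GH7HC
import Cfsg.Agent.Lib.Helper8.GH7Mod
import Cfsg.Agent.Lib.Helper1.GH5U7c

set_option autoImplicit false
set_option linter.unusedVariables false
set_option linter.unusedSectionVars false
set_option linter.style.longLine false
set_option linter.unusedSimpArgs false
set_option linter.style.haveILetI false
set_option maxHeartbeats 1000000

/-! # GH7 = S3105: basic consequences of `HC` (A = Z4^3): exponent of `W`, surjectivity of squaring, twisting by an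
automorphism of `L`, natural coordinates on `A/W`. -/

namespace Cfsg.Agent.Lib.Helper2.GH7

universe u

variable {G : Type u} [Group G] [Finite G] {θ : G →* L} {A W : Subgroup G}

theorem HC.le_ker (h : HC θ A W) : ∀ a ∈ A, θ a = 1 := by
  intro a ha
  apply h.faith
  intro b hb
  have : a * b * a⁻¹ * b⁻¹ = 1 := by
    rw [h.comm a ha b hb]; group
  rw [this]; exact W.one_mem

/-- squaring `A → W` as a homomorphism -/
noncomputable def HC.sqHom (h : HC θ A W) : ↥A →* ↥W where
  toFun a := ⟨(a : G) * a, h.sq a a.2⟩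
  map_one' := by apply Subtype.ext; simp
  map_mul' a b := by
    apply Subtype.ext
    show ((a : G) * b) * ((a : G) * b) = ((a : G) * a) * ((b : G) * b)
    have := h.comm a a.2 b b.2
    calc ((a : G) * b) * ((a : G) * b) = (a : G) * ((b : G) * a) * b := by group
      _ = (a : G) * ((a : G) * b) * b := by rw [this]
      _ = _ := by group

theorem HC.sqHom_surj (h : HC θ A W) : Function.Surjective h.sqHom := by
  classical
  -- kernel ≤ W.subgroupOf A, so |ker| ≤ 8 and |range| ≥ 8 = |W|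
  have hk : h.sqHom.ker ≤ W.subgroupOf A := by
    intro a ha
    rw [Subgroup.mem_subgroupOf]
    apply h.omega a a.2
    have := congrArg Subtype.val (MonoidHom.mem_ker.mp ha)
    exact this
  have hc1 : Nat.card (W.subgroupOf A) = 8 := by
    rw [Nat.card_congr (Subgroup.subgroupOfEquivOfLe h.hWA).toEquiv, h.cardW]
  have hc2 : Nat.card h.sqHom.ker ≤ 8 := by
    rw [← hc1]
    exact Subgroup.card_le_of_le hk
  have hc3 := Subgroup.card_eq_card_quotient_mul_card_subgroup h.sqHom.ker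
  rw [h.cardA] at hc3
  have hc4 : Nat.card (↥A ⧸ h.sqHom.ker) = Nat.card h.sqHom.range :=
    Nat.card_congr (QuotientGroup.quotientKerEquivRange h.sqHom).toEquiv
  have hc5 : Nat.card h.sqHom.range ≤ 8 := by
    rw [← h.cardW]
    exact Finite.card_subtype_le _
  have hc6 : Nat.card h.sqHom.range = 8 := by
    rw [hc4] at hc3
    have : 0 < Nat.card h.sqHom.ker := Nat.card_pos
    nlinarith
  have : h.sqHom.range = ⊤ := by
    apply Subgroup.eq_top_of_card_eq
    rw [hc6, h.cardW]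
  exact MonoidHom.range_eq_top.mp this

theorem HC.exists_sqrt (h : HC θ A W) : ∀ w ∈ W, ∃ a ∈ A, a * a = w := by
  intro w hw
  obtain ⟨a, ha⟩ := h.sqHom_surj ⟨w, hw⟩
  exact ⟨a, a.2, congrArg Subtype.val ha⟩

theorem HC.pow_four (h : HC θ A W) : ∀ a ∈ A, (a * a) * (a * a) = 1 → True := fun _ _ _ => trivial

theorem HC.expW (h : HC θ A W) : ∀ w ∈ W, w * w = 1 := by
  classical
  -- |ker sqHom| = 8 and ker ≤ W.subgroupOf A of order 8, so equal
  have hk : h.sqHom.ker ≤ W.subgroupOf A := by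
    intro a ha
    rw [Subgroup.mem_subgroupOf]
    apply h.omega a a.2
    exact congrArg Subtype.val (MonoidHom.mem_ker.mp ha)
  have hc1 : Nat.card (W.subgroupOf A) = 8 := by
    rw [Nat.card_congr (Subgroup.subgroupOfEquivOfLe h.hWA).toEquiv, h.cardW]
  have hc3 := Subgroup.card_eq_card_quotient_mul_card_subgroup h.sqHom.ker
  rw [h.cardA] at hc3
  have hc4 : Nat.card (↥A ⧸ h.sqHom.ker) = Nat.card ↥W :=
    Nat.card_congr (QuotientGroup.quotientKerEquivOfSurjective h.sqHom h.sqHom_surj).toEquiv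
  rw [hc4, h.cardW] at hc3
  have hc5 : Nat.card h.sqHom.ker = 8 := by omega
  have heq : h.sqHom.ker = W.subgroupOf A := by
    apply Subgroup.eq_of_le_of_card_ge hk
    rw [hc1, hc5]
  intro w hw
  have : (⟨w, h.hWA hw⟩ : ↥A) ∈ h.sqHom.ker := by
    rw [heq, Subgroup.mem_subgroupOf]; exact hw
  exact congrArg Subtype.val (MonoidHom.mem_ker.mp this)

/-- twisting `θ` by an automorphism of `L` -/
theorem HC.twist (h : HC θ A W) (α : L ≃* L) : HC (α.toMonoidHom.comp θ) A W := by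
  refine ⟨α.surjective.comp h.surj, h.nA, h.nW, h.hWA, h.comm, h.cardA, h.cardW, h.sq, h.omega, ?_, ?_⟩
  · intro g hg
    apply h.cent g
    have : α (θ g) = 1 := hg
    exact (map_eq_one_iff α α.injective).mp this
  · intro g hg
    show α (θ g) = 1
    rw [h.faith g hg, map_one]

/-- natural coordinates on `A/W` -/
theorem HC.coords (h : HC θ A W) :
    ∃ (α : L ≃* L) (π : ↥A → (Fin 3 → ZMod 2)), Function.Surjective π ∧
      (∀ a b : ↥A, π (a * b) = π a + π b) ∧ (∀ a : ↥A, π a = 0 ↔ (a : G) ∈ W) ∧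
      ∀ (g : G) (a : ↥A) (hga : g * (a : G) * g⁻¹ ∈ A),
        π ⟨g * (a : G) * g⁻¹, hga⟩ = Matrix.mulVec (α (θ g) : Matrix (Fin 3) (Fin 3) (ZMod 2)) (π a) := by
  haveI := h.nA
  haveI := h.nW
  obtain ⟨V, iV, fV, ρV, πV, hV2, hπs, hπm, hπk, hρ, hcard⟩ :=
    Cfsg.Agent.Lib.Helper1.GH5U7.exists_rhoV A W h.hWA h.sq
  have hcV : Nat.card V = 8 := by
    rw [h.cardA, h.cardW] at hcard
    omega
  let ρ' : G →* AddMonoid.End V := ρV.comp (QuotientGroup.mk' A)
  have hρ' : ∀ (g : G) (a : ↥A) (hga : g * (a : G) * g⁻¹ ∈ A), ρ' g (πV a) = πV ⟨g * (a : G) * g⁻¹, hga⟩ :=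
    fun g a hga => hρ g a hga
  have hk : ∀ g : G, θ g = 1 → ρ' g = 1 := by
    intro g hg
    apply AddMonoidHom.ext
    intro v
    obtain ⟨a, rfl⟩ := hπs v
    have hga : g * (a : G) * g⁻¹ ∈ A := h.nA.conj_mem a a.2 g
    have h1 := hρ' g a hga
    show ρ' g (πV a) = πV a
    rw [h1]
    congr 1
    apply Subtype.ext
    show g * (a : G) * g⁻¹ = a
    rw [h.cent g hg a a.2]; group
  have hf : ∀ g : G, ρ' g = 1 → θ g = 1 := by
    intro g hg
    apply h.faith
    intro a ha
    have hga : g * a * g⁻¹ ∈ A := h.nA.conj_mem a ha g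
    have h1 := hρ' g ⟨a, ha⟩ hga
    rw [hg] at h1
    have h2 : πV (⟨g * a * g⁻¹, hga⟩ * (⟨a, ha⟩ : ↥A)⁻¹) = 0 := by
      rw [hπm, ← h1]
      show πV ⟨a, ha⟩ + πV (⟨a, ha⟩ : ↥A)⁻¹ = 0
      rw [← hπm, mul_inv_cancel]
      exact (hπk 1).mpr W.one_mem
    exact (hπk _).mp h2
  obtain ⟨α, e, he⟩ := Cfsg.Agent.Lib.Helper8.GH7Mod.coords θ h.surj ρ' hk hV2 hcV hf
  refine ⟨α, fun a => e (πV a), ?_, ?_, ?_, ?_⟩
  · exact e.surjective.comp hπs
  · intro a b
    show e (πV (a * b)) = e (πV a) + e (πV b)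
    rw [hπm, map_add]
  · intro a
    show e (πV a) = 0 ↔ _
    rw [← hπk a]
    exact e.map_eq_zero_iff
  · intro g a hga
    show e (πV ⟨g * (a : G) * g⁻¹, hga⟩) = _
    rw [← hρ' g a hga]
    exact he g (πV a)

end Cfsg.Agent.Lib.Helper2.GH7
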