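import Mathlib
import Cfsg.Agent.Lib.Helper2.GH7HC2

set_option autoImplicit false
set_option linter.unusedVariables false
set_option linter.unusedSectionVars false
set_option linter.style.longLine false
set_option linter.unusedSimpArgs false
set_option linter.style.haveILetI false
set_option maxHeartbeats 1000000

/-! # GH7 = S3105, H1 sub-unit F1, part a: the conjugation action on `A`, coordinates on `W`, linear algebra -/

namespace Cfsg.Agent.Lib.Helper2.GH7

universe u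

variable {G : Type u} [Group G] [Finite G] {θ : G →* L} {A W : Subgroup G}

/-- conjugation action of `G` on `↥A` -/
def HC.cj (h : HC θ A W) (g : G) (a : ↥A) : ↥A := ⟨g * (a : G) * g⁻¹, h.nA.conj_mem a a.2 g⟩

theorem HC.cj_coe (h : HC θ A W) (g : G) (a : ↥A) : ((h.cj g a : ↥A) : G) = g * (a : G) * g⁻¹ := rfl

theorem HC.cj_mul (h : HC θ A W) (g : G) (a b : ↥A) : h.cj g (a * b) = h.cj g a * h.cj g b := by
  apply Subtype.ext
  show g * ((a : G) * b) * g⁻¹ = (g * a * g⁻¹) * (g * b * g⁻¹)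
  group

theorem HC.cj_one' (h : HC θ A W) (g : G) : h.cj g 1 = 1 := by
  apply Subtype.ext
  show g * (1 : G) * g⁻¹ = 1
  group

theorem HC.cj_inv (h : HC θ A W) (g : G) (a : ↥A) : h.cj g a⁻¹ = (h.cj g a)⁻¹ := by
  apply Subtype.ext
  show g * ((a : G))⁻¹ * g⁻¹ = (g * a * g⁻¹)⁻¹
  group

theorem HC.cj_cj (h : HC θ A W) (g g' : G) (a : ↥A) : h.cj g (h.cj g' a) = h.cj (g * g') a := by
  apply Subtype.ext
  show g * (g' * (a : G) * g'⁻¹) * g⁻¹ = (g * g') * a * (g * g')⁻¹
  group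

theorem HC.cj_congr (h : HC θ A W) {g g' : G} (hgg' : θ g = θ g') (a : ↥A) : h.cj g a = h.cj g' a := by
  apply Subtype.ext
  show g * (a : G) * g⁻¹ = g' * a * g'⁻¹
  have h1 : θ (g'⁻¹ * g) = 1 := by rw [map_mul, map_inv, hgg', inv_mul_cancel]
  have h2 := h.cent _ h1 a a.2
  calc g * (a : G) * g⁻¹ = g' * ((g'⁻¹ * g) * a) * g⁻¹ := by group
    _ = g' * (a * (g'⁻¹ * g)) * g⁻¹ := by rw [h2]
    _ = g' * a * g'⁻¹ := by group

theorem HC.cj_of_one (h : HC θ A W) {g : G} (hg : θ g = 1) (a : ↥A) : h.cj g a = a := by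
  rw [h.cj_congr (g' := 1) (by rw [hg, map_one])]
  apply Subtype.ext
  show (1 : G) * a * 1⁻¹ = a
  group

theorem HC.mul_comm' (h : HC θ A W) (a b : ↥A) : a * b = b * a := Subtype.ext (h.comm a a.2 b b.2)

section coords

variable (h : HC θ A W) (π : ↥A → (Fin 3 → ZMod 2))
  (hπm : ∀ a b : ↥A, π (a * b) = π a + π b) (hπk : ∀ a : ↥A, π a = 0 ↔ (a : G) ∈ W)

include hπm in
theorem pi_one : π 1 = 0 := by
  have := hπm 1 1
  rw [mul_one] at this
  have h2 : π 1 + π 1 = π 1 + 0 := by rw [← this, add_zero]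
  exact add_left_cancel h2

theorem vec_add_self (v : Fin 3 → ZMod 2) : v + v = 0 := by
  funext i
  have : ∀ c : ZMod 2, c + c = 0 := by decide
  exact this (v i)

include hπm in
theorem pi_inv (a : ↥A) : π a⁻¹ = π a := by
  have h1 := hπm a a⁻¹
  rw [mul_inv_cancel, pi_one π hπm] at h1
  have h2 : π a + π a⁻¹ = π a + π a := by rw [← h1, vec_add_self]
  exact add_left_cancel h2

include hπm hπk in
/-- equal coordinates iff congruent mod `W` -/
theorem pi_eq_iff (a b : ↥A) : π a = π b ↔ ((a * b⁻¹ : ↥A) : G) ∈ W := by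
  rw [← hπk, hπm, pi_inv π hπm]
  constructor
  · intro hab; rw [hab, vec_add_self]
  · intro hab
    have : π a + π b + π b = 0 + π b := by rw [hab]
    rw [add_assoc, vec_add_self, add_zero, zero_add] at this
    exact this

/-- coordinates on `W`: `kap (b^2) = π b` -/
noncomputable def HC.kap (h : HC θ A W) (π : ↥A → (Fin 3 → ZMod 2)) (w : ↥W) : Fin 3 → ZMod 2 :=
  π ⟨Classical.choose (h.exists_sqrt w w.2), (Classical.choose_spec (h.exists_sqrt w w.2)).1⟩

include hπm hπk in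
theorem HC.kap_eq (b : ↥A) (w : ↥W) (hb : (b : G) * b = w) : h.kap π w = π b := by
  unfold HC.kap
  set b0 : ↥A := ⟨Classical.choose (h.exists_sqrt w w.2), (Classical.choose_spec (h.exists_sqrt w w.2)).1⟩ with hb0
  have hb0sq : (b0 : G) * b0 = w := (Classical.choose_spec (h.exists_sqrt w w.2)).2
  rw [pi_eq_iff π hπm hπk]
  apply h.omega _ (b0 * b⁻¹).2
  have hc := h.comm b0 b0.2 (b : G)⁻¹ (inv_mem b.2)
  show ((b0 : G) * (b : G)⁻¹) * ((b0 : G) * (b : G)⁻¹) = 1
  calc ((b0 : G) * (b : G)⁻¹) * ((b0 : G) * (b : G)⁻¹) = (b0 : G) * ((b : G)⁻¹ * b0) * (b : G)⁻¹ := by group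
    _ = (b0 : G) * ((b0 : G) * (b : G)⁻¹) * (b : G)⁻¹ := by rw [hc]
    _ = ((b0 : G) * b0) * ((b : G) * b)⁻¹ := by group
    _ = 1 := by rw [hb0sq, hb, mul_inv_cancel]

include hπm hπk in
theorem HC.kap_eq_zero (w : ↥W) (hw : h.kap π w = 0) : (w : G) = 1 := by
  obtain ⟨b, hbA, hb⟩ := h.exists_sqrt w w.2
  rw [h.kap_eq π hπm hπk ⟨b, hbA⟩ w hb] at hw
  have : b ∈ W := (hπk ⟨b, hbA⟩).mp hw
  rw [← hb]
  exact h.expW b this

end coords

/-- an additive self-map of `F_2^3` is given by a matrix -/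
theorem additive_eq_mulVec (f : (Fin 3 → ZMod 2) → (Fin 3 → ZMod 2)) (hadd : ∀ u v, f (u + v) = f u + f v) :
    ∃ C : Matrix (Fin 3) (Fin 3) (ZMod 2), ∀ v, f v = Matrix.mulVec C v := by
  have h0 : f 0 = 0 := by
    have := hadd 0 0
    rw [add_zero] at this
    have h2 : f 0 + f 0 = f 0 + 0 := by rw [← this, add_zero]
    exact add_left_cancel h2
  have key : ∀ (c : ZMod 2) (w : Fin 3 → ZMod 2), f (c • w) = c • f w := by
    intro c w
    have hc : c = 0 ∨ c = 1 := by revert c; decide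
    rcases hc with rfl | rfl
    · rw [zero_smul, zero_smul, h0]
    · rw [one_smul, one_smul]
  refine ⟨Matrix.of fun i j => f (Pi.single j 1) i, ?_⟩
  intro v
  have hv : v = v 0 • Pi.single 0 1 + v 1 • Pi.single 1 1 + v 2 • Pi.single 2 1 := by
    funext i
    fin_cases i <;> simp
  conv_lhs => rw [hv]
  rw [hadd, hadd, key, key, key]
  funext i
  simp [Matrix.mulVec, dotProduct, Fin.sum_univ_three]
  ring

end Cfsg.Agent.Lib.Helper2.GH7
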