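import Mathlib
import Cfsg.Agent.Lib.Helper2.GH7F1a

set_option autoImplicit false
set_option linter.unusedVariables false
set_option linter.unusedSectionVars false
set_option linter.style.longLine false
set_option linter.unusedSimpArgs false
set_option linter.style.haveILetI false
set_option maxHeartbeats 2000000

/-! # GH7 = S3105, H1 sub-unit F1, part b: the norm of an explicit four-group kills `A` -/

namespace Cfsg.Agent.Lib.Helper2.GH7

universe u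

variable {G : Type u} [Group G] [Finite G] {θ : G →* L} {A W : Subgroup G}

section coords2

variable (h : HC θ A W) (π : ↥A → (Fin 3 → ZMod 2))
  (hπm : ∀ a b : ↥A, π (a * b) = π a + π b) (hπk : ∀ a : ↥A, π a = 0 ↔ (a : G) ∈ W)
  (hπe : ∀ (g : G) (a : ↥A), π (h.cj g a) = Matrix.mulVec (θ g : Matrix (Fin 3) (Fin 3) (ZMod 2)) (π a))

include hπm hπk in
theorem HC.kap_mul (w w' : ↥W) : h.kap π (w * w') = h.kap π w + h.kap π w' := by
  obtain ⟨b, hbA, hb⟩ := h.exists_sqrt w w.2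
  obtain ⟨b', hbA', hb'⟩ := h.exists_sqrt w' w'.2
  rw [h.kap_eq π hπm hπk ⟨b, hbA⟩ w hb, h.kap_eq π hπm hπk ⟨b', hbA'⟩ w' hb', ← hπm]
  apply h.kap_eq π hπm hπk
  show (b * b') * (b * b') = (w : G) * w'
  have hc := h.comm b' hbA' b hbA
  calc (b * b') * (b * b') = b * (b' * b) * b' := by group
    _ = b * (b * b') * b' := by rw [hc]
    _ = (b * b) * (b' * b') := by group
    _ = _ := by rw [hb, hb']

include hπm hπk hπe in
theorem HC.kap_cj (g : G) (w : ↥W) (hgw : g * (w : G) * g⁻¹ ∈ W) :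
    h.kap π ⟨g * (w : G) * g⁻¹, hgw⟩ = Matrix.mulVec (θ g : Matrix (Fin 3) (Fin 3) (ZMod 2)) (h.kap π w) := by
  obtain ⟨b, hbA, hb⟩ := h.exists_sqrt w w.2
  rw [h.kap_eq π hπm hπk ⟨b, hbA⟩ w hb, ← hπe]
  apply h.kap_eq π hπm hπk
  show (g * b * g⁻¹) * (g * b * g⁻¹) = g * (w : G) * g⁻¹
  rw [← hb]; group

end coords2

/-- the norm map of the four-group `{1, θ k1, θ k2, θ k3}` -/
def HC.nu (h : HC θ A W) (k1 k2 k3 : G) (a : ↥A) : ↥A := a * h.cj k1 a * h.cj k2 a * h.cj k3 a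

theorem F1_core (h : HC θ A W) (π : ↥A → (Fin 3 → ZMod 2)) (hπs : Function.Surjective π)
    (hπm : ∀ a b : ↥A, π (a * b) = π a + π b) (hπk : ∀ a : ↥A, π a = 0 ↔ (a : G) ∈ W)
    (hπe : ∀ (g : G) (a : ↥A), π (h.cj g a) = Matrix.mulVec (θ g : Matrix (Fin 3) (Fin 3) (ZMod 2)) (π a))
    (e x : L) (he2 : e * e = 1) (hez : e * z13 = z13 * e)
    (hx1 : x * z13 * x⁻¹ = e) (hx2 : x * e * x⁻¹ = e * z13) (hx3 : x * (e * z13) * x⁻¹ = z13)
    (hsum : ∀ v : Fin 3 → ZMod 2, v + Matrix.mulVec (z13 : Matrix (Fin 3) (Fin 3) (ZMod 2)) v +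
      Matrix.mulVec (e : Matrix (Fin 3) (Fin 3) (ZMod 2)) v +
      Matrix.mulVec ((e * z13 : L) : Matrix (Fin 3) (Fin 3) (ZMod 2)) v = 0)
    (hlin : ∀ C : Matrix (Fin 3) (Fin 3) (ZMod 2),
      (∀ v, Matrix.mulVec C (Matrix.mulVec (z13 : Matrix (Fin 3) (Fin 3) (ZMod 2)) v) = Matrix.mulVec C v) →
      (∀ v, Matrix.mulVec C (Matrix.mulVec (e : Matrix (Fin 3) (Fin 3) (ZMod 2)) v) = Matrix.mulVec C v) →
      (∀ v, Matrix.mulVec (z13 : Matrix (Fin 3) (Fin 3) (ZMod 2)) (Matrix.mulVec C v) = Matrix.mulVec C v) →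
      (∀ v, Matrix.mulVec (e : Matrix (Fin 3) (Fin 3) (ZMod 2)) (Matrix.mulVec C v) = Matrix.mulVec C v) →
      (∀ v, Matrix.mulVec C (Matrix.mulVec (x : Matrix (Fin 3) (Fin 3) (ZMod 2)) v) =
        Matrix.mulVec (x : Matrix (Fin 3) (Fin 3) (ZMod 2)) (Matrix.mulVec C v)) → C = 0)
    (k1 k2 k3 : G) (hk1 : θ k1 = z13) (hk2 : θ k2 = e) (hk3 : θ k3 = e * z13) (a : ↥A) :
    h.nu k1 k2 k3 a = 1 := by
  classical
  letI instC : CommGroup ↥A := { (inferInstance : Group ↥A) with mul_comm := h.mul_comm' }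
  have hz2 : z13 * z13 = 1 := z13_sq
  -- nu is multiplicative
  have hνmul : ∀ a b : ↥A, h.nu k1 k2 k3 (a * b) = h.nu k1 k2 k3 a * h.nu k1 k2 k3 b := by
    intro a b
    unfold HC.nu
    rw [h.cj_mul, h.cj_mul, h.cj_mul]
    simp only [mul_comm, mul_left_comm, mul_assoc]
  -- nu lands in W
  have hνW : ∀ a : ↥A, ((h.nu k1 k2 k3 a : ↥A) : G) ∈ W := by
    intro a
    rw [← hπk]
    unfold HC.nu
    rw [hπm, hπm, hπm, hπe, hπe, hπe, hk1, hk2, hk3]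
    exact hsum (π a)
  have hνsq : ∀ a : ↥A, h.nu k1 k2 k3 a * h.nu k1 k2 k3 a = 1 := by
    intro a
    apply Subtype.ext
    exact h.expW _ (hνW a)
  -- nu kills W
  have hνkill : ∀ a : ↥A, (a : G) ∈ W → h.nu k1 k2 k3 a = 1 := by
    intro a ha
    obtain ⟨b, hbA, hb⟩ := h.exists_sqrt a ha
    have : a = (⟨b, hbA⟩ : ↥A) * ⟨b, hbA⟩ := Subtype.ext hb.symm
    rw [this, hνmul, hνsq]
  have hνdep : ∀ a b : ↥A, π a = π b → h.nu k1 k2 k3 a = h.nu k1 k2 k3 b := by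
    intro a b hab
    have h1 := (pi_eq_iff π hπm hπk a b).mp hab
    have h2 : a = (a * b⁻¹) * b := by group
    rw [h2, hνmul, hνkill _ h1, one_mul]
  -- θ of products
  have e11 : θ (k1 * k1) = 1 := by rw [map_mul, hk1, hz2]
  have e21 : θ (k2 * k1) = θ k3 := by rw [map_mul, hk1, hk2, hk3]
  have e31 : θ (k3 * k1) = θ k2 := by rw [map_mul, hk1, hk2, hk3, mul_assoc, hz2, mul_one]
  have e12 : θ (k1 * k2) = θ k3 := by rw [map_mul, hk1, hk2, hk3, hez]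
  have e22 : θ (k2 * k2) = 1 := by rw [map_mul, hk2, he2]
  have e32 : θ (k3 * k2) = θ k1 := by
    rw [map_mul, hk1, hk2, hk3, hez, mul_assoc, he2, mul_one]
  have e13 : θ (k1 * k3) = θ k2 := by
    rw [map_mul, hk1, hk2, hk3, hez, ← mul_assoc, hz2, one_mul]
  have e23 : θ (k2 * k3) = θ k1 := by
    rw [map_mul, hk1, hk2, hk3, ← mul_assoc, he2, one_mul]
  -- invariance under E
  have hνinv1 : ∀ a : ↥A, h.nu k1 k2 k3 (h.cj k1 a) = h.nu k1 k2 k3 a := by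
    intro a
    unfold HC.nu
    rw [h.cj_cj, h.cj_cj, h.cj_cj, h.cj_of_one e11, h.cj_congr e21, h.cj_congr e31]
    simp only [mul_comm, mul_left_comm, mul_assoc]
  have hνinv2 : ∀ a : ↥A, h.nu k1 k2 k3 (h.cj k2 a) = h.nu k1 k2 k3 a := by
    intro a
    unfold HC.nu
    rw [h.cj_cj, h.cj_cj, h.cj_cj, h.cj_of_one e22, h.cj_congr e12, h.cj_congr e32]
    simp only [mul_comm, mul_left_comm, mul_assoc]
  -- fixed by E
  have hνfix1 : ∀ a : ↥A, h.cj k1 (h.nu k1 k2 k3 a) = h.nu k1 k2 k3 a := by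
    intro a
    have : h.cj k1 (h.nu k1 k2 k3 a) = h.nu k1 k2 k3 (h.cj k1 a) := by
      unfold HC.nu
      simp only [h.cj_mul, h.cj_cj]
      rw [h.cj_congr e12, h.cj_congr e21, h.cj_congr e13, h.cj_congr e31]
    rw [this, hνinv1]
  have hνfix2 : ∀ a : ↥A, h.cj k2 (h.nu k1 k2 k3 a) = h.nu k1 k2 k3 a := by
    intro a
    have : h.cj k2 (h.nu k1 k2 k3 a) = h.nu k1 k2 k3 (h.cj k2 a) := by
      unfold HC.nu
      simp only [h.cj_mul, h.cj_cj]
      rw [h.cj_congr e21, h.cj_congr e12, h.cj_congr e23, h.cj_congr e32]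
    rw [this, hνinv2]
  -- the element of order 3
  obtain ⟨xh, hxh⟩ := h.surj x
  have ex1 : θ (xh * k1) = θ (k2 * xh) := by
    rw [map_mul, map_mul, hxh, hk1, hk2, ← hx1]; group
  have ex2 : θ (xh * k2) = θ (k3 * xh) := by
    rw [map_mul, map_mul, hxh, hk2, hk3, ← hx2]; group
  have ex3 : θ (xh * k3) = θ (k1 * xh) := by
    rw [map_mul, map_mul, hxh, hk3, hk1]
    conv_rhs => rw [← hx3]
    group
  have hνx : ∀ a : ↥A, h.cj xh (h.nu k1 k2 k3 a) = h.nu k1 k2 k3 (h.cj xh a) := by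
    intro a
    unfold HC.nu
    simp only [h.cj_mul, h.cj_cj]
    rw [h.cj_congr ex1, h.cj_congr ex2, h.cj_congr ex3]
    simp only [← h.cj_cj]
    simp only [mul_comm, mul_left_comm, mul_assoc]
  -- the additive map F
  let F : ↥A → (Fin 3 → ZMod 2) := fun a => h.kap π ⟨h.nu k1 k2 k3 a, hνW a⟩
  have hFadd : ∀ a b : ↥A, F (a * b) = F a + F b := by
    intro a b
    show h.kap π ⟨h.nu k1 k2 k3 (a * b), hνW (a * b)⟩ = _
    rw [← h.kap_mul π hπm hπk]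
    congr 1
    apply Subtype.ext
    show ((h.nu k1 k2 k3 (a * b) : ↥A) : G) = ((h.nu k1 k2 k3 a : ↥A) : G) * ((h.nu k1 k2 k3 b : ↥A) : G)
    rw [hνmul]; rfl
  have hFdep : ∀ a b : ↥A, π a = π b → F a = F b := by
    intro a b hab
    show h.kap π ⟨h.nu k1 k2 k3 a, hνW a⟩ = h.kap π ⟨h.nu k1 k2 k3 b, hνW b⟩
    congr 1
    apply Subtype.ext
    exact congrArg (fun t : ↥A => (t : G)) (hνdep a b hab)
  have hFinv : ∀ (k : G) (hk : ∀ a : ↥A, h.nu k1 k2 k3 (h.cj k a) = h.nu k1 k2 k3 a) (a : ↥A),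
      F (h.cj k a) = F a := by
    intro k hk a
    show h.kap π ⟨h.nu k1 k2 k3 (h.cj k a), hνW _⟩ = h.kap π ⟨h.nu k1 k2 k3 a, hνW a⟩
    congr 1
    apply Subtype.ext
    exact congrArg (fun t : ↥A => (t : G)) (hk a)
  have hFfix : ∀ (k : G) (hk : ∀ a : ↥A, h.cj k (h.nu k1 k2 k3 a) = h.nu k1 k2 k3 a) (a : ↥A),
      Matrix.mulVec (θ k : Matrix (Fin 3) (Fin 3) (ZMod 2)) (F a) = F a := by
    intro k hk a
    have hmem : k * ((h.nu k1 k2 k3 a : ↥A) : G) * k⁻¹ ∈ W := h.nW.conj_mem _ (hνW a) k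
    have h1 := h.kap_cj π hπm hπk hπe k ⟨h.nu k1 k2 k3 a, hνW a⟩ hmem
    show Matrix.mulVec _ (h.kap π ⟨h.nu k1 k2 k3 a, hνW a⟩) = h.kap π ⟨h.nu k1 k2 k3 a, hνW a⟩
    rw [← h1]
    congr 1
    apply Subtype.ext
    show k * ((h.nu k1 k2 k3 a : ↥A) : G) * k⁻¹ = _
    have := congrArg (fun t : ↥A => (t : G)) (hk a)
    exact this
  have hFx : ∀ a : ↥A, F (h.cj xh a) = Matrix.mulVec (x : Matrix (Fin 3) (Fin 3) (ZMod 2)) (F a) := by
    intro a
    have hmem : xh * ((h.nu k1 k2 k3 a : ↥A) : G) * xh⁻¹ ∈ W := h.nW.conj_mem _ (hνW a) xh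
    have h1 := h.kap_cj π hπm hπk hπe xh ⟨h.nu k1 k2 k3 a, hνW a⟩ hmem
    rw [hxh] at h1
    show h.kap π ⟨h.nu k1 k2 k3 (h.cj xh a), hνW _⟩ = _
    rw [← h1]
    congr 1
    apply Subtype.ext
    have := congrArg (fun t : ↥A => (t : G)) (hνx a)
    exact this.symm
  -- descend to F_2^3
  let f : (Fin 3 → ZMod 2) → (Fin 3 → ZMod 2) := fun v => F (Function.surjInv hπs v)
  have hfπ : ∀ a : ↥A, f (π a) = F a := by
    intro a
    exact hFdep _ _ (Function.surjInv_eq hπs (π a))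
  have hfadd : ∀ u v, f (u + v) = f u + f v := by
    intro u v
    have h1 : π (Function.surjInv hπs u * Function.surjInv hπs v) = u + v := by
      rw [hπm, Function.surjInv_eq hπs, Function.surjInv_eq hπs]
    rw [← h1, hfπ, hFadd]
  obtain ⟨C, hC⟩ := additive_eq_mulVec f hfadd
  have hC0 : C = 0 := by
    apply hlin C
    · intro v
      obtain ⟨a, rfl⟩ := hπs v
      rw [← hk1, ← hπe, ← hC, ← hC, hfπ, hfπ, hFinv k1 hνinv1]
    · intro v
      obtain ⟨a, rfl⟩ := hπs v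
      rw [← hk2, ← hπe, ← hC, ← hC, hfπ, hfπ, hFinv k2 hνinv2]
    · intro v
      obtain ⟨a, rfl⟩ := hπs v
      rw [← hC, hfπ, ← hk1, hFfix k1 hνfix1]
    · intro v
      obtain ⟨a, rfl⟩ := hπs v
      rw [← hC, hfπ, ← hk2, hFfix k2 hνfix2]
    · intro v
      obtain ⟨a, rfl⟩ := hπs v
      rw [← hC, ← hC, hfπ]
      have := hFx a
      rw [← hfπ, hπe, hxh] at this
      exact this
  have hF0 : F a = 0 := by
    rw [← hfπ, hC, hC0]
    simp
  have := h.kap_eq_zero π hπm hπk _ hF0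
  exact Subtype.ext this

end Cfsg.Agent.Lib.Helper2.GH7
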