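import Mathlib
import Cfsg.Agent.Lib.Helper2.GH7F1b

set_option autoImplicit false
set_option linter.unusedVariables false
set_option linter.unusedSectionVars false
set_option linter.style.longLine false
set_option linter.unusedSimpArgs false
set_option linter.style.haveILetI false
set_option maxHeartbeats 2000000

/-! # GH7 = S3105, H1 sub-unit F1: the norm of every four-group of `L` kills `A = Z4^3` -/

namespace Cfsg.Agent.Lib.Helper2.GH7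

universe u

/-- element of order 3 normalising `{I + x E23 + y E13}` -/
def x3' : L := ⟨!![0, 1, 0; 1, 1, 0; 0, 0, 1], by decide⟩

theorem L_inv_conj : ∀ t : L, t * t = 1 → t ≠ 1 → ∃ g : L, g * t * g⁻¹ = z13 := by decide +kernel

theorem L_inv_cent : ∀ t : L, t * t = 1 → t ≠ 1 → t ≠ z13 → t * z13 = z13 * t →
    (t = a12 ∨ t = a12 * z13 ∨ t = b23 ∨ t = b23 * z13) := by decide +kernel

theorem hsum_a : ∀ v : Fin 3 → ZMod 2, v + Matrix.mulVec (z13 : Matrix (Fin 3) (Fin 3) (ZMod 2)) v +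
    Matrix.mulVec (a12 : Matrix (Fin 3) (Fin 3) (ZMod 2)) v +
    Matrix.mulVec ((a12 * z13 : L) : Matrix (Fin 3) (Fin 3) (ZMod 2)) v = 0 := by decide +kernel

theorem hsum_b : ∀ v : Fin 3 → ZMod 2, v + Matrix.mulVec (z13 : Matrix (Fin 3) (Fin 3) (ZMod 2)) v +
    Matrix.mulVec (b23 : Matrix (Fin 3) (Fin 3) (ZMod 2)) v +
    Matrix.mulVec ((b23 * z13 : L) : Matrix (Fin 3) (Fin 3) (ZMod 2)) v = 0 := by decide +kernel

theorem hlin_a' : ∀ c : Fin 3 → Fin 3 → ZMod 2,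
    (∀ v, Matrix.mulVec (Matrix.of c) (Matrix.mulVec (z13 : Matrix (Fin 3) (Fin 3) (ZMod 2)) v) = Matrix.mulVec (Matrix.of c) v) →
    (∀ v, Matrix.mulVec (Matrix.of c) (Matrix.mulVec (a12 : Matrix (Fin 3) (Fin 3) (ZMod 2)) v) = Matrix.mulVec (Matrix.of c) v) →
    (∀ v, Matrix.mulVec (z13 : Matrix (Fin 3) (Fin 3) (ZMod 2)) (Matrix.mulVec (Matrix.of c) v) = Matrix.mulVec (Matrix.of c) v) →
    (∀ v, Matrix.mulVec (a12 : Matrix (Fin 3) (Fin 3) (ZMod 2)) (Matrix.mulVec (Matrix.of c) v) = Matrix.mulVec (Matrix.of c) v) →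
    (∀ v, Matrix.mulVec (Matrix.of c) (Matrix.mulVec (x3 : Matrix (Fin 3) (Fin 3) (ZMod 2)) v) =
      Matrix.mulVec (x3 : Matrix (Fin 3) (Fin 3) (ZMod 2)) (Matrix.mulVec (Matrix.of c) v)) → c = 0 := by decide +kernel

theorem hlin_b' : ∀ c : Fin 3 → Fin 3 → ZMod 2,
    (∀ v, Matrix.mulVec (Matrix.of c) (Matrix.mulVec (z13 : Matrix (Fin 3) (Fin 3) (ZMod 2)) v) = Matrix.mulVec (Matrix.of c) v) →
    (∀ v, Matrix.mulVec (Matrix.of c) (Matrix.mulVec (b23 : Matrix (Fin 3) (Fin 3) (ZMod 2)) v) = Matrix.mulVec (Matrix.of c) v) →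
    (∀ v, Matrix.mulVec (z13 : Matrix (Fin 3) (Fin 3) (ZMod 2)) (Matrix.mulVec (Matrix.of c) v) = Matrix.mulVec (Matrix.of c) v) →
    (∀ v, Matrix.mulVec (b23 : Matrix (Fin 3) (Fin 3) (ZMod 2)) (Matrix.mulVec (Matrix.of c) v) = Matrix.mulVec (Matrix.of c) v) →
    (∀ v, Matrix.mulVec (Matrix.of c) (Matrix.mulVec (x3' : Matrix (Fin 3) (Fin 3) (ZMod 2)) v) =
      Matrix.mulVec (x3' : Matrix (Fin 3) (Fin 3) (ZMod 2)) (Matrix.mulVec (Matrix.of c) v)) → c = 0 := by decide +kernel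

theorem x3a_1 : x3 * z13 * x3⁻¹ = a12 := by decide
theorem x3a_2 : x3 * a12 * x3⁻¹ = a12 * z13 := by decide
theorem x3a_3 : x3 * (a12 * z13) * x3⁻¹ = z13 := by decide
theorem x3b_1 : x3' * z13 * x3'⁻¹ = b23 := by decide
theorem x3b_2 : x3' * b23 * x3'⁻¹ = b23 * z13 := by decide
theorem x3b_3 : x3' * (b23 * z13) * x3'⁻¹ = z13 := by decide
theorem a12_z13 : a12 * z13 = z13 * a12 := by decide
theorem b23_z13 : b23 * z13 = z13 * b23 := by decide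

section main

variable {G : Type u} [Group G] [Finite G] {θ : G →* L} {A W : Subgroup G}

/-- the explicit four-groups, in natural coordinates -/
theorem F1_explicit (h : HC θ A W) (π : ↥A → (Fin 3 → ZMod 2)) (hπs : Function.Surjective π)
    (hπm : ∀ a b : ↥A, π (a * b) = π a + π b) (hπk : ∀ a : ↥A, π a = 0 ↔ (a : G) ∈ W)
    (hπe : ∀ (g : G) (a : ↥A), π (h.cj g a) = Matrix.mulVec (θ g : Matrix (Fin 3) (Fin 3) (ZMod 2)) (π a))
    (k1 k2 : G) (hk1 : θ k1 = z13)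
    (hk2 : θ k2 = a12 ∨ θ k2 = a12 * z13 ∨ θ k2 = b23 ∨ θ k2 = b23 * z13) (a : ↥A) :
    h.nu k1 k2 (k1 * k2) a = 1 := by
  have hswap : ∀ k k' : G, h.nu k1 k k' a = h.nu k1 k' k a := by
    intro k k'
    unfold HC.nu
    rw [mul_assoc, mul_assoc, h.mul_comm' (h.cj k a) (h.cj k' a)]
    rw [← mul_assoc, ← mul_assoc]
  rcases hk2 with hk2 | hk2 | hk2 | hk2
  · exact F1_core h π hπs hπm hπk hπe a12 x3 a12_sq a12_z13 x3a_1 x3a_2 x3a_3 hsum_a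
      (fun C h1 h2 h3 h4 h5 => hlin_a' C h1 h2 h3 h4 h5) k1 k2 (k1 * k2) hk1 hk2
      (by rw [map_mul, hk1, hk2, a12_z13]) a
  · rw [hswap]
    exact F1_core h π hπs hπm hπk hπe a12 x3 a12_sq a12_z13 x3a_1 x3a_2 x3a_3 hsum_a
      (fun C h1 h2 h3 h4 h5 => hlin_a' C h1 h2 h3 h4 h5) k1 (k1 * k2) k2 hk1
      (by rw [map_mul, hk1, hk2]; decide) hk2 a
  · exact F1_core h π hπs hπm hπk hπe b23 x3' b23_sq b23_z13 x3b_1 x3b_2 x3b_3 hsum_b
      (fun C h1 h2 h3 h4 h5 => hlin_b' C h1 h2 h3 h4 h5) k1 k2 (k1 * k2) hk1 hk2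
      (by rw [map_mul, hk1, hk2, b23_z13]) a
  · rw [hswap]
    exact F1_core h π hπs hπm hπk hπe b23 x3' b23_sq b23_z13 x3b_1 x3b_2 x3b_3 hsum_b
      (fun C h1 h2 h3 h4 h5 => hlin_b' C h1 h2 h3 h4 h5) k1 (k1 * k2) k2 hk1
      (by rw [map_mul, hk1, hk2]; decide) hk2 a

/-- **F1**: the norm of every four-group of `L` kills `A`. -/
theorem homocyclic_F1 (h : HC θ A W) (g1 g2 : G)
    (h1 : θ g1 * θ g1 = 1) (h2 : θ g2 * θ g2 = 1) (h12 : θ g1 * θ g2 = θ g2 * θ g1)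
    (hne1 : θ g1 ≠ 1) (hne2 : θ g2 ≠ 1) (hne : θ g1 ≠ θ g2) (a : G) (ha : a ∈ A) :
    a * (g1 * a * g1⁻¹) * (g2 * a * g2⁻¹) * (g1 * g2 * a * (g1 * g2)⁻¹) = 1 := by
  obtain ⟨α, π, hπs, hπm, hπk, hπe0⟩ := h.coords
  have h' : HC (α.toMonoidHom.comp θ) A W := h.twist α
  have hπe : ∀ (g : G) (b : ↥A), π (h'.cj g b) =
      Matrix.mulVec ((α.toMonoidHom.comp θ) g : Matrix (Fin 3) (Fin 3) (ZMod 2)) (π b) :=
    fun g b => hπe0 g b _
  have hα : ∀ g, (α.toMonoidHom.comp θ) g = α (θ g) := fun g => rfl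
  have t1sq : (α.toMonoidHom.comp θ) g1 * (α.toMonoidHom.comp θ) g1 = 1 := by
    rw [hα, ← map_mul α, h1, map_one]
  have t1ne : (α.toMonoidHom.comp θ) g1 ≠ 1 := by
    rw [hα]; intro hc; exact hne1 ((map_eq_one_iff α α.injective).mp hc)
  obtain ⟨g, hg⟩ := L_inv_conj _ t1sq t1ne
  obtain ⟨γ, hγ⟩ := h'.surj g
  have hk1 : (α.toMonoidHom.comp θ) (γ * g1 * γ⁻¹) = z13 := by
    rw [map_mul, map_mul, map_inv, hγ]; exact hg
  have hk2eq : (α.toMonoidHom.comp θ) (γ * g2 * γ⁻¹) = g * α (θ g2) * g⁻¹ := by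
    rw [map_mul, map_mul, map_inv, hγ]; rfl
  have hz : z13 = g * α (θ g1) * g⁻¹ := by rw [← hg]; rfl
  have hk2 := L_inv_cent ((α.toMonoidHom.comp θ) (γ * g2 * γ⁻¹))
    (by
      rw [hk2eq]
      have : α (θ g2) * α (θ g2) = 1 := by rw [← map_mul α, h2, map_one]
      calc g * α (θ g2) * g⁻¹ * (g * α (θ g2) * g⁻¹) = g * (α (θ g2) * α (θ g2)) * g⁻¹ := by group
        _ = 1 := by rw [this]; group)
    (by
      rw [hk2eq]
      intro hc
      have : α (θ g2) = 1 := by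
        have := congrArg (fun t => g⁻¹ * t * g) hc
        simpa [mul_assoc] using this
      exact hne2 ((map_eq_one_iff α α.injective).mp this))
    (by
      rw [hk2eq, hz]
      intro hc
      have : α (θ g2) = α (θ g1) := by
        have := congrArg (fun t => g⁻¹ * t * g) hc
        simpa [mul_assoc] using this
      exact hne (α.injective this).symm)
    (by
      rw [hk2eq, hz]
      have : α (θ g2) * α (θ g1) = α (θ g1) * α (θ g2) := by rw [← map_mul α, ← map_mul α, h12]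
      calc g * α (θ g2) * g⁻¹ * (g * α (θ g1) * g⁻¹) = g * (α (θ g2) * α (θ g1)) * g⁻¹ := by group
        _ = g * (α (θ g1) * α (θ g2)) * g⁻¹ := by rw [this]
        _ = _ := by group)
  have key := F1_explicit h' π hπs hπm hπk hπe (γ * g1 * γ⁻¹) (γ * g2 * γ⁻¹) hk1 hk2 (h'.cj γ ⟨a, ha⟩)
  have key' : (γ * a * γ⁻¹) * ((γ * g1 * γ⁻¹) * (γ * a * γ⁻¹) * (γ * g1 * γ⁻¹)⁻¹) *
      ((γ * g2 * γ⁻¹) * (γ * a * γ⁻¹) * (γ * g2 * γ⁻¹)⁻¹) *
      (((γ * g1 * γ⁻¹) * (γ * g2 * γ⁻¹)) * (γ * a * γ⁻¹) * ((γ * g1 * γ⁻¹) * (γ * g2 * γ⁻¹))⁻¹) = 1 :=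
    congrArg (fun t : ↥A => (t : G)) key
  have h3 : γ * (a * (g1 * a * g1⁻¹) * (g2 * a * g2⁻¹) * (g1 * g2 * a * (g1 * g2)⁻¹)) * γ⁻¹ = 1 := by
    rw [← key']; group
  have h4 := congrArg (fun t => γ⁻¹ * t * γ) h3
  simpa [mul_assoc] using h4

end main

end Cfsg.Agent.Lib.Helper2.GH7
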