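import Mathlib
import Cfsg.Agent.Lib.Helper2.GH7F1

set_option autoImplicit false
set_option linter.unusedVariables false
set_option linter.unusedSectionVars false
set_option linter.style.longLine false
set_option linter.unusedSimpArgs false
set_option linter.style.haveILetI false
set_option maxHeartbeats 2000000

/-! # GH7 = S3105, H1 sub-unit F3: an element of order 4 fixes `(1+t)A` pointwise -/

namespace Cfsg.Agent.Lib.Helper2.GH7

universe u

theorem L_order4_inverter : ∀ u : L, u ^ 4 = 1 → u ^ 2 ≠ 1 →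
    ∃ r : L, r * r = 1 ∧ r ≠ 1 ∧ r * u * r⁻¹ = u⁻¹ := by decide +kernel

variable {G : Type u} [Group G] [Finite G] {θ : G →* L} {A W : Subgroup G}

/-- `F1` in terms of the conjugation action -/
theorem HC.F1_cj (h : HC θ A W) (g1 g2 : G)
    (h1 : θ g1 * θ g1 = 1) (h2 : θ g2 * θ g2 = 1) (h12 : θ g1 * θ g2 = θ g2 * θ g1)
    (hne1 : θ g1 ≠ 1) (hne2 : θ g2 ≠ 1) (hne : θ g1 ≠ θ g2) (a : ↥A) :
    a * h.cj g1 a * h.cj g2 a * h.cj (g1 * g2) a = 1 := by
  apply Subtype.ext
  exact homocyclic_F1 h g1 g2 h1 h2 h12 hne1 hne2 hne a a.2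

/-- **F3** -/
theorem homocyclic_F3 (h : HC θ A W) (x : G) (hx : orderOf (θ x) = 4) (a : G) (ha : a ∈ A) :
    x * (a * (x ^ 2 * a * (x ^ 2)⁻¹)) * x⁻¹ = a * (x ^ 2 * a * (x ^ 2)⁻¹) := by
  have hu4 : θ x ^ 4 = 1 := by rw [← hx]; exact pow_orderOf_eq_one _
  have hu2 : θ x ^ 2 ≠ 1 := by
    intro hc
    have := orderOf_dvd_of_pow_eq_one hc
    rw [hx] at this
    omega
  obtain ⟨r, hr2, hr1, hru⟩ := L_order4_inverter (θ x) hu4 hu2
  obtain ⟨rh, hrh⟩ := h.surj r
  set u := θ x with hu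
  have hrinv : r⁻¹ = r := by
    have := mul_eq_one_iff_eq_inv.mp hr2
    exact this.symm
  -- r commutes with u^2
  have hru2 : r * u ^ 2 = u ^ 2 * r := by
    have h1 : r * u ^ 2 * r⁻¹ = (u⁻¹) ^ 2 := by
      rw [← hru, pow_two, pow_two]; group
    have h2 : (u⁻¹) ^ 2 = u ^ 2 := by
      have : u ^ 2 * u ^ 2 = 1 := by rw [← pow_add]; exact hu4
      rw [inv_pow]
      exact inv_eq_of_mul_eq_one_left this
    rw [h2] at h1
    have := congrArg (fun t => t * r) h1
    simpa [mul_assoc] using this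
  have hx2 : θ (x ^ 2) = u ^ 2 := by rw [map_pow]
  have hu2sq : u ^ 2 * u ^ 2 = 1 := by rw [← pow_add]; exact hu4
  have hune : u ^ 2 ≠ r := by
    intro hc
    have h1 : r * u * r⁻¹ = u := by
      rw [← hc]; group
    rw [hru] at h1
    have : u ^ 2 = 1 := by
      have := congrArg (fun t => u * t) h1
      simp only [mul_inv_cancel] at this
      rw [pow_two]; exact this.symm
    exact hu2 this
  -- first four-group ⟨u^2, r⟩
  set a' : ↥A := ⟨a, ha⟩ with ha'
  have E1 := h.F1_cj (x ^ 2) rh (by rw [hx2]; exact hu2sq) (by rw [hrh]; exact hr2)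
    (by rw [hx2, hrh]; exact hru2.symm) (by rw [hx2]; exact hu2) (by rw [hrh]; exact hr1)
    (by rw [hx2, hrh]; exact hune) a'
  -- second four-group ⟨u^2, u r⟩
  have hur2 : (u * r) * (u * r) = 1 := by
    have : r * u = u⁻¹ * r := by
      have := congrArg (fun t => t * r) hru
      simpa [mul_assoc] using this
    calc (u * r) * (u * r) = u * (r * u) * r := by group
      _ = u * (u⁻¹ * r) * r := by rw [this]
      _ = r * r := by group
      _ = 1 := hr2
  have hur1 : u * r ≠ 1 := by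
    intro hc
    have : u = r⁻¹ := mul_eq_one_iff_eq_inv.mp hc
    rw [hrinv] at this
    apply hu2
    rw [this, pow_two]; exact hr2
  have hurc : u ^ 2 * (u * r) = (u * r) * u ^ 2 := by
    calc u ^ 2 * (u * r) = u * (u ^ 2 * r) := by group
      _ = u * (r * u ^ 2) := by rw [hru2]
      _ = _ := by group
  have hurne : u ^ 2 ≠ u * r := by
    intro hc
    have : u = r := by
      have := congrArg (fun t => u⁻¹ * t) hc
      simpa [pow_two, mul_assoc] using this
    apply hu2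
    rw [this, pow_two]; exact hr2
  have hxr : θ (x * rh) = u * r := by rw [map_mul, hrh]
  have E2 := h.F1_cj (x ^ 2) (x * rh) (by rw [hx2]; exact hu2sq) (by rw [hxr]; exact hur2)
    (by rw [hx2, hxr]; exact hurc) (by rw [hx2]; exact hu2) (by rw [hxr]; exact hur1)
    (by rw [hx2, hxr]; exact hurne) a'
  -- B = (1+t)a
  set B : ↥A := a' * h.cj (x ^ 2) a' with hB
  have hB1 : B * h.cj rh B = 1 := by
    have : h.cj (rh * x ^ 2) a' = h.cj (x ^ 2 * rh) a' := by
      apply h.cj_congr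
      rw [map_mul θ rh (x ^ 2), map_mul θ (x ^ 2) rh, hx2, hrh]; exact hru2
    have h3 : B * h.cj rh B = a' * h.cj (x ^ 2) a' * (h.cj rh a' * h.cj (x ^ 2 * rh) a') := by
      rw [hB, h.cj_mul, h.cj_cj, this]
    rw [h3, ← mul_assoc]
    exact E1
  have hB2 : B * h.cj (x * rh) B = 1 := by
    have : h.cj (x * rh * x ^ 2) a' = h.cj (x ^ 2 * (x * rh)) a' := by
      apply h.cj_congr
      rw [map_mul θ (x * rh) (x ^ 2), map_mul θ (x ^ 2) (x * rh), hx2, hxr]; exact hurc.symm
    have h3 : B * h.cj (x * rh) B = a' * h.cj (x ^ 2) a' * (h.cj (x * rh) a' * h.cj (x ^ 2 * (x * rh)) a') := by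
      rw [hB, h.cj_mul, h.cj_cj, this]
    rw [h3, ← mul_assoc]
    exact E2
  have hB1' : h.cj rh B = B⁻¹ := by
    exact eq_inv_of_mul_eq_one_right hB1
  have hB2' : h.cj (x * rh) B = B⁻¹ := eq_inv_of_mul_eq_one_right hB2
  have hfin : h.cj x B = B := by
    have h1 : h.cj x B = h.cj (x * rh) (h.cj rh⁻¹ B) := by
      rw [h.cj_cj]
      congr 1
      group
    have h2 : h.cj rh⁻¹ B = h.cj rh B := by
      apply h.cj_congr
      rw [map_inv, hrh, hrinv]
    rw [h1, h2, hB1', h.cj_inv, hB2', inv_inv]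
  exact congrArg (fun t : ↥A => (t : G)) hfin

end Cfsg.Agent.Lib.Helper2.GH7
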