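import Mathlib
import Cfsg.Agent.Lib.Helper2.GH7Defs
import Cfsg.Agent.Lib.Helper2.GH5Top

set_option autoImplicit false
set_option linter.unusedVariables false
set_option linter.unusedSectionVars false
set_option linter.style.longLine false
set_option linter.unusedSimpArgs false
set_option maxHeartbeats 1000000

/-! # GH7 = S3105: frame plumbing (T1 = quotients, minimal normal subgroups, cardinalities) -/

namespace Cfsg.Agent.Lib.Helper2.GH7

open Cfsg.Agent.Lib.Helper3.A8Emb (sqSub sqSub_le)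
open Cfsg.Agent.Lib.Helper2.GH5 (sqSub_map sq_mem_sqSub mem_map_mk_iff)
open Cfsg.Agent.Lib.Helper6.GH5 (sectional_quotient6)

universe u

variable {G : Type u} [Group G] {Q : Subgroup G} [Q.Normal] {θ : G →* L}

theorem Frame.le_ker (hF : Frame Q θ) {N : Subgroup G} (hN : N ≤ Q) : N ≤ θ.ker := by
  rw [hF.ker]; exact hN

/-- **T1**: the frame passes to `G ⧸ N` for a normal `N ≤ Φ(Q)`. -/
theorem frame_quotient (hF : Frame Q θ) (N : Subgroup G) [N.Normal] (hN : N ≤ sqSub Q) :
    ∃ θ' : G ⧸ N →* L, (∀ g : G, θ' (QuotientGroup.mk g) = θ g) ∧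
      Frame (Q.map (QuotientGroup.mk' N)) θ' := by
  have hNQ : N ≤ Q := hN.trans (sqSub_le Q)
  have hNk : N ≤ θ.ker := hF.le_ker hNQ
  refine ⟨QuotientGroup.lift N θ hNk, fun g => rfl, ?_, ?_, hF.pgroup.map _, sectional_quotient6 hF.rank N, ?_⟩
  · intro l
    obtain ⟨g, rfl⟩ := hF.surj l
    exact ⟨QuotientGroup.mk g, rfl⟩
  · ext gb
    obtain ⟨g, rfl⟩ := QuotientGroup.mk'_surjective N gb
    rw [MonoidHom.mem_ker]
    show θ g = 1 ↔ _
    rw [← MonoidHom.mem_ker, hF.ker]
    exact (mem_map_mk_iff N Q hNQ g).symm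
  · intro gb hgb
    obtain ⟨g, rfl⟩ := QuotientGroup.mk'_surjective N gb
    have hg : g ∈ Q := by
      apply hF.faithful
      intro a ha
      have h1 := hgb (QuotientGroup.mk' N a) (Subgroup.mem_map_of_mem _ ha)
      rw [sqSub_map, ← map_inv, ← map_inv, ← map_mul, ← map_mul, ← map_mul] at h1
      exact (mem_map_mk_iff N (sqSub Q) hN _).mp h1
    exact Subgroup.mem_map_of_mem _ hg

/-- cardinality of the image of a subgroup containing the kernel -/
theorem card_map_mk [Finite G] (N K : Subgroup G) [N.Normal] (hNK : N ≤ K) :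
    Nat.card (K.map (QuotientGroup.mk' N)) * Nat.card N = Nat.card K := by
  classical
  have h1 : Nat.card (K.map (QuotientGroup.mk' N)) = Nat.card (↥K ⧸ N.subgroupOf K) := by
    have e := QuotientGroup.quotientKerEquivRange (((QuotientGroup.mk' N).comp K.subtype))
    have hk : ((QuotientGroup.mk' N).comp K.subtype).ker = N.subgroupOf K := by
      ext x
      rw [MonoidHom.mem_ker, Subgroup.mem_subgroupOf]
      show QuotientGroup.mk' N (x : G) = 1 ↔ _
      exact QuotientGroup.eq_one_iff _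
    have hr : ((QuotientGroup.mk' N).comp K.subtype).range = K.map (QuotientGroup.mk' N) := by
      rw [MonoidHom.range_comp, Subgroup.range_subtype]
    rw [← hr, ← Nat.card_congr e.toEquiv, hk]
  rw [h1]
  have h2 : Nat.card (N.subgroupOf K) = Nat.card N :=
    Nat.card_congr (Subgroup.subgroupOfEquivOfLe hNK).toEquiv
  rw [← h2]
  rw [mul_comm]
  exact (Subgroup.card_eq_card_quotient_mul_card_subgroup (N.subgroupOf K)).symm ▸ (mul_comm _ _)

/-- existence of a minimal normal subgroup below a nontrivial normal subgroup -/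
theorem exists_min_normal_le [Finite G] (Φ : Subgroup G) [Φ.Normal] (hΦ : Φ ≠ ⊥) :
    ∃ N : Subgroup G, N.Normal ∧ N ≤ Φ ∧ N ≠ ⊥ ∧
      ∀ K : Subgroup G, K.Normal → K ≤ N → K = ⊥ ∨ K = N := by
  classical
  let S : Set (Subgroup G) := {N | N.Normal ∧ N ≤ Φ ∧ N ≠ ⊥}
  have hfin : S.Finite := Set.toFinite S
  have hne : S.Nonempty := ⟨Φ, inferInstance, le_rfl, hΦ⟩
  obtain ⟨N, hN⟩ := hfin.exists_minimal hne
  obtain ⟨⟨hNn, hNle, hNne⟩, hmin⟩ := hN
  refine ⟨N, hNn, hNle, hNne, ?_⟩
  intro K hK hKN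
  by_cases h : K = ⊥
  · left; exact h
  · right
    have : K ∈ S := ⟨hK, hKN.trans hNle, h⟩
    exact le_antisymm hKN (hmin this hKN)

end Cfsg.Agent.Lib.Helper2.GH7
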