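import Mathlib
import Cfsg.Agent.Lib.Helper2.GH7Top

set_option autoImplicit false
set_option linter.unusedVariables false
set_option linter.unusedSectionVars false
set_option linter.style.longLine false
set_option linter.unusedSimpArgs false
set_option linter.style.haveILetI false
set_option maxHeartbeats 1000000
set_option linter.deprecated false

/-! # GH7 = S3105: generic glue lemmas -/

namespace Cfsg.Agent.Lib.Helper2.GH7

open Cfsg.Agent.Lib.Helper3.A8Emb (sqSub sqSub_le)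
open Cfsg.Agent.Lib.Helper2.GH5 (sqSub_map sq_mem_sqSub mem_map_mk_iff)

universe u

section generic

variable {G : Type u} [Group G]

/-- squares in a normal `N` force commutators in `N` -/
theorem comm_mem_of_sq (Q N : Subgroup G) [N.Normal] (hsq : ∀ q ∈ Q, q * q ∈ N) :
    ∀ a ∈ Q, ∀ b ∈ Q, a * b * a⁻¹ * b⁻¹ ∈ N := by
  intro x hx y hy
  have h1 : x * y * x⁻¹ * y⁻¹ =
      ((x * y) * (x * y)) * (y⁻¹ * (x⁻¹ * x⁻¹) * y⁻¹⁻¹) * (y⁻¹ * y⁻¹) := by group
  rw [h1]
  refine mul_mem (mul_mem (hsq _ (mul_mem hx hy)) ?_) (hsq _ (inv_mem hy))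
  exact Subgroup.Normal.conj_mem inferInstance _ (hsq _ (inv_mem hx)) _

theorem sqSub_le_of_sq (Q N : Subgroup G) (hsq : ∀ q ∈ Q, q * q ∈ N) : sqSub Q ≤ N := by
  unfold sqSub
  rw [Subgroup.closure_le]
  rintro y ⟨b, hb, rfl⟩
  rw [pow_two]
  exact hsq b hb

/-- the centraliser of `B` modulo `N` -/
def centMod (B N : Subgroup G) [hB : B.Normal] [hN : N.Normal] : Subgroup G where
  carrier := {g | ∀ b ∈ B, g * b * g⁻¹ * b⁻¹ ∈ N}
  one_mem' := by
    intro b hb
    simp
  mul_mem' := by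
    intro g h hg hh b hb
    have h1 : g * h * b * (g * h)⁻¹ * b⁻¹ = g * (h * b * h⁻¹ * b⁻¹) * g⁻¹ * (g * b * g⁻¹ * b⁻¹) := by group
    rw [h1]
    exact mul_mem (hN.conj_mem _ (hh b hb) g) (hg b hb)
  inv_mem' := by
    intro g hg b hb
    have hb' : g⁻¹ * b * g ∈ B := by
      have := hB.conj_mem b hb g⁻¹
      simpa using this
    have h1 := hg _ hb'
    have h2 : g⁻¹ * b * g⁻¹⁻¹ * b⁻¹ = (g * (g⁻¹ * b * g) * g⁻¹ * (g⁻¹ * b * g)⁻¹)⁻¹ := by group
    rw [h2]
    exact inv_mem h1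

theorem mem_centMod (B N : Subgroup G) [B.Normal] [N.Normal] (g : G) :
    g ∈ centMod B N ↔ ∀ b ∈ B, g * b * g⁻¹ * b⁻¹ ∈ N := Iff.rfl

instance centMod_normal (B N : Subgroup G) [hB : B.Normal] [hN : N.Normal] : (centMod B N).Normal := by
  constructor
  intro g hg x b hb
  have hb' : x⁻¹ * b * x ∈ B := by
    have := hB.conj_mem b hb x⁻¹
    simpa using this
  have h1 := hg _ hb'
  have h2 : x * g * x⁻¹ * b * (x * g * x⁻¹)⁻¹ * b⁻¹ =
      x * (g * (x⁻¹ * b * x) * g⁻¹ * (x⁻¹ * b * x)⁻¹) * x⁻¹ := by group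
  rw [h2]
  exact hN.conj_mem _ h1 x

end generic

section Lfacts

/-- a homomorphism from `L` to a group of order `< 168` is trivial -/
theorem hom_trivial_of_card_lt {H : Type*} [Group H] [Finite H] (ψ : L →* H) (h : Nat.card H < 168) :
    ∀ l, ψ l = 1 := by
  haveI := Cfsg.Agent.Lib.Helper1.Dv.simple_SL32
  have hk := ψ.normal_ker
  rcases Subgroup.Normal.eq_bot_or_eq_top hk with hb | ht
  · exfalso
    have hinj : Function.Injective ψ := (MonoidHom.ker_eq_bot_iff ψ).mp hb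
    have h1 := Nat.card_le_card_of_injective ψ hinj
    rw [Cfsg.Agent.Lib.Helper1.Dv.card_SL32] at h1
    omega
  · intro l
    have : l ∈ ψ.ker := by rw [ht]; trivial
    exact this

/-- a normal subgroup of `L` is trivial or everything; image version -/
theorem map_eq_bot_or_top {G : Type u} [Group G] (θ : G →* L) (hsurj : Function.Surjective θ)
    (K : Subgroup G) [hK : K.Normal] : K.map θ = ⊥ ∨ K.map θ = ⊤ := by
  haveI := Cfsg.Agent.Lib.Helper1.Dv.simple_SL32
  exact Subgroup.Normal.eq_bot_or_eq_top (hK.map θ hsurj)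

theorem y7_sq_ne : y7 * y7 ≠ 1 := by decide

/-- a normal subgroup of `G` all of whose elements have `θ`-image of square 1 lies in `ker θ` -/
theorem le_ker_of_sq {G : Type u} [Group G] (θ : G →* L) (hsurj : Function.Surjective θ)
    (K : Subgroup G) [hK : K.Normal] (h : ∀ g ∈ K, θ g * θ g = 1) : ∀ g ∈ K, θ g = 1 := by
  rcases map_eq_bot_or_top θ hsurj K with hb | ht
  · intro g hg
    have : θ g ∈ K.map θ := Subgroup.mem_map_of_mem _ hg
    rw [hb, Subgroup.mem_bot] at this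
    exact this
  · exfalso
    have : y7 ∈ K.map θ := by rw [ht]; trivial
    obtain ⟨g, hg, hgy⟩ := this
    have := h g hg
    rw [hgy] at this
    exact y7_sq_ne this

end Lfacts

section more

variable {G : Type u} [Group G]

/-- index 2 inside `Q`: commutators with any `g` land in `Q1` -/
theorem comm_mem_of_index_two [Finite G] (Q Q1 : Subgroup G) [hQ : Q.Normal] [hQ1 : Q1.Normal] (hQ1Q : Q1 ≤ Q)
    (hidx : Nat.card Q = 2 * Nat.card Q1) (g a : G) (ha : a ∈ Q) : g * a * g⁻¹ * a⁻¹ ∈ Q1 := by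
  have hc : Nat.card (Q1.subgroupOf Q) = Nat.card Q1 :=
    Nat.card_congr (Subgroup.subgroupOfEquivOfLe hQ1Q).toEquiv
  have hi : (Q1.subgroupOf Q).index = 2 := by
    have h1 := Subgroup.card_mul_index (Q1.subgroupOf Q)
    rw [hc, hidx] at h1
    have hpos : 0 < Nat.card Q1 := Nat.card_pos
    nlinarith
  have hga : g * a * g⁻¹ ∈ Q := hQ.conj_mem a ha g
  have key := Subgroup.mul_mem_iff_of_index_two hi (a := (⟨g * a * g⁻¹, hga⟩ : ↥Q))
    (b := (⟨a⁻¹, inv_mem ha⟩ : ↥Q))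
  have h2 : ((⟨g * a * g⁻¹, hga⟩ : ↥Q) ∈ Q1.subgroupOf Q) ↔ ((⟨a⁻¹, inv_mem ha⟩ : ↥Q) ∈ Q1.subgroupOf Q) := by
    rw [Subgroup.mem_subgroupOf, Subgroup.mem_subgroupOf]
    show g * a * g⁻¹ ∈ Q1 ↔ a⁻¹ ∈ Q1
    rw [inv_mem_iff]
    constructor
    · intro h
      have := hQ1.conj_mem _ h g⁻¹
      simpa [mul_assoc] using this
    · intro h
      exact hQ1.conj_mem a h g
  have h3 := key.mpr h2
  rw [Subgroup.mem_subgroupOf] at h3
  exact h3

/-- `L` is faithful on an invariant hyperplane `Q1/N1` of `Q/N1 = Q/Φ(Q)` -/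
theorem faithful_hyperplane [Finite G] {Q : Subgroup G} [Q.Normal] {θ : G →* L} (hF : Frame Q θ)
    (N1 Q1 : Subgroup G) [hN1 : N1.Normal] [hQ1 : Q1.Normal] (hNQ1 : N1 ≤ Q1) (hQ1Q : Q1 ≤ Q)
    (hΦ : sqSub Q = N1) (hsq : ∀ q ∈ Q, q * q ∈ N1) (hidx : Nat.card Q = 2 * Nat.card Q1) :
    ∀ g : G, (∀ b ∈ Q1, g * b * g⁻¹ * b⁻¹ ∈ N1) → θ g = 1 := by
  intro g hg
  have hgK : g ∈ centMod Q1 N1 := hg
  refine le_ker_of_sq θ hF.surj (centMod Q1 N1) ?_ g hgK
  intro k hk
  have hkk : k * k ∈ Q := by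
    apply hF.faithful
    intro a ha
    rw [hΦ]
    have hb : k * a * k⁻¹ * a⁻¹ ∈ Q1 := comm_mem_of_index_two Q Q1 hQ1Q hidx k a ha
    have h1 : k * k * a * (k * k)⁻¹ * a⁻¹ =
        (k * (k * a * k⁻¹ * a⁻¹) * k⁻¹ * (k * a * k⁻¹ * a⁻¹)⁻¹) *
          ((k * a * k⁻¹ * a⁻¹) * (k * a * k⁻¹ * a⁻¹)) := by group
    rw [h1]
    exact mul_mem (hk _ hb) (hsq _ (hQ1Q hb))
  have : k * k ∈ θ.ker := by rw [hF.ker]; exact hkk
  rw [MonoidHom.mem_ker, map_mul] at this
  exact this

/-- a normal subgroup of order 4 which is the kernel of a surjection onto `L` is central -/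
theorem ker_central_of_card_four {E : Type u} [Group E] [Finite E] (θ : E →* L)
    (hsurj : Function.Surjective θ) (hcard : Nat.card θ.ker = 4) : θ.ker ≤ Subgroup.center E := by
  classical
  haveI : Fact (Nat.Prime 2) := ⟨Nat.prime_two⟩
  have hcomm : ∀ a b : θ.ker, a * b = b * a :=
    IsPGroup.commutative_of_card_eq_prime_sq (p := 2) (by rw [hcard]; norm_num)
  let φ : E →* MulAut θ.ker := MulAut.conjNormal
  have hφ : ∀ z ∈ θ.ker, φ z = 1 := by
    intro z hz
    ext w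
    show ((MulAut.conjNormal z w : θ.ker) : E) = w
    rw [MulAut.conjNormal_apply]
    have := hcomm ⟨z, hz⟩ w
    have h1 : z * (w : E) = (w : E) * z := congrArg Subtype.val this
    rw [h1]; group
  let e := QuotientGroup.quotientKerEquivOfSurjective θ hsurj
  let ψ : L →* MulAut θ.ker := (QuotientGroup.lift θ.ker φ hφ).comp e.symm.toMonoidHom
  have hcardAut : Nat.card (MulAut θ.ker) < 168 := by
    have hinj : Function.Injective (MulAut.toPerm θ.ker) := by
      intro a b hab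
      ext x
      have := congrArg (fun f : Equiv.Perm θ.ker => f x) hab
      exact congrArg Subtype.val this
    have h1 := Nat.card_le_card_of_injective _ hinj
    have h2 : Nat.card (Equiv.Perm θ.ker) = 24 := by
      rw [Nat.card_perm, hcard]; rfl
    omega
  have htriv := hom_trivial_of_card_lt ψ hcardAut
  intro z hz
  rw [Subgroup.mem_center_iff]
  intro g
  have h1 : ψ (θ g) = φ g := by
    show (QuotientGroup.lift θ.ker φ hφ) (e.symm (θ g)) = φ g
    have : e.symm (θ g) = QuotientGroup.mk g := by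
      rw [MulEquiv.symm_apply_eq]
      rfl
    rw [this]
    rfl
  have h2 : φ g = 1 := by rw [← h1]; exact htriv _
  have h3 : (φ g) ⟨z, hz⟩ = ⟨z, hz⟩ := by rw [h2]; rfl
  have h4 := congrArg Subtype.val h3
  rw [show ((φ g ⟨z, hz⟩ : θ.ker) : E) = g * z * g⁻¹ from MulAut.conjNormal_apply _ _] at h4
  calc g * z = g * z * g⁻¹ * g := by group
    _ = z * g := by rw [h4]

end more

end Cfsg.Agent.Lib.Helper2.GH7
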