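import Mathlib
import Cfsg.Prelude.Def_Characters
import Cfsg.Prelude.Def_ParabolicCharacters
import Cfsg.Agent.Lib.Helper6.Flg3

set_option autoImplicit false
set_option linter.style.haveILetI false
set_option linter.unusedSectionVars false
set_option linter.unusedVariables false

/-! Definitions for the proof that `SL_n(F)` has a unique character of defect zero in the
defining characteristic (S4538, S2440): unitriangular subgroups, minimal parabolics, root elements,
diagonal elements of `GL_n(F)`. -/

namespace Cfsg.Agent.Lib.Helper2.GLU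

open Matrix Cfsg

variable (n : ℕ) (F : Type*) [Field F]

/-- invertible matrices that are block upper triangular for the labelling `lab` -/
def btGL (lab : Fin n → ℕ) : Subgroup (GL (Fin n) F) where
  carrier := {g | (g : Matrix (Fin n) (Fin n) F).BlockTriangular lab}
  mul_mem' := fun {a} {b} ha hb => by
    change ((a : Matrix (Fin n) (Fin n) F) * (b : Matrix (Fin n) (Fin n) F)).BlockTriangular lab
    exact Matrix.BlockTriangular.mul ha hb
  one_mem' := by
    change (1 : Matrix (Fin n) (Fin n) F).BlockTriangular lab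
    exact Matrix.blockTriangular_one
  inv_mem' := fun {a} ha => by
    change ((a⁻¹ : GL (Fin n) F) : Matrix (Fin n) (Fin n) F).BlockTriangular lab
    have : Invertible (a : Matrix (Fin n) (Fin n) F) := a.invertible
    rw [Matrix.coe_units_inv]
    exact Matrix.blockTriangular_inv_of_blockTriangular ha

theorem mem_btGL (lab : Fin n → ℕ) (g : GL (Fin n) F) :
    g ∈ btGL n F lab ↔ (g : Matrix (Fin n) (Fin n) F).BlockTriangular lab := Iff.rfl

/-- block unitriangular matrices: equal to the identity on and below the diagonal blocks of the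
labelling `lab` -/
def ubt (lab : Fin n → ℕ) : Subgroup (GL (Fin n) F) where
  carrier := {g | ∀ a b : Fin n, lab b ≤ lab a →
    (g : Matrix (Fin n) (Fin n) F) a b = (1 : Matrix (Fin n) (Fin n) F) a b}
  mul_mem' := fun {A} {B} hA hB => by
    intro a b hab
    change ((A : Matrix (Fin n) (Fin n) F) * (B : Matrix (Fin n) (Fin n) F)) a b = _
    have h1 : (1 : Matrix (Fin n) (Fin n) F) a b =
        ((1 : Matrix (Fin n) (Fin n) F) * (1 : Matrix (Fin n) (Fin n) F)) a b := by rw [mul_one]
    rw [h1, Matrix.mul_apply, Matrix.mul_apply]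
    refine Finset.sum_congr rfl (fun k _ => ?_)
    by_cases hk : lab k ≤ lab a
    · rw [hA a k hk]
      by_cases hk2 : lab b ≤ lab k
      · rw [hB k b hk2]
      · have hne : a ≠ k := by
          intro h
          subst h
          exact hk2 hab
        rw [Matrix.one_apply_ne hne, zero_mul, zero_mul]
    · have hk' : lab b ≤ lab k := by omega
      have hne : k ≠ b := by
        intro h
        subst h
        exact hk hab
      rw [hB k b hk', Matrix.one_apply_ne hne, mul_zero, mul_zero]
  one_mem' := fun a b _ => rfl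
  inv_mem' := fun {g} hg => by
    intro a b hab
    have hbt : (g : Matrix (Fin n) (Fin n) F).BlockTriangular lab := by
      intro i j hij
      have hne : i ≠ j := by
        intro h
        subst h
        exact lt_irrefl _ hij
      rw [hg i j hij.le, Matrix.one_apply_ne hne]
    have hinv : ((g⁻¹ : GL (Fin n) F) : Matrix (Fin n) (Fin n) F).BlockTriangular lab := by
      have : Invertible (g : Matrix (Fin n) (Fin n) F) := g.invertible
      rw [Matrix.coe_units_inv]
      exact Matrix.blockTriangular_inv_of_blockTriangular hbt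
    have h1 : ((g⁻¹ : GL (Fin n) F) : Matrix (Fin n) (Fin n) F) *
        (g : Matrix (Fin n) (Fin n) F) = 1 := by
      rw [← Units.val_mul, inv_mul_cancel, Units.val_one]
    have h2 : ((((g⁻¹ : GL (Fin n) F) : Matrix (Fin n) (Fin n) F) *
        (g : Matrix (Fin n) (Fin n) F)) : Matrix (Fin n) (Fin n) F) a b =
        ((((g⁻¹ : GL (Fin n) F) : Matrix (Fin n) (Fin n) F) *
          (1 : Matrix (Fin n) (Fin n) F)) : Matrix (Fin n) (Fin n) F) a b := by
      rw [Matrix.mul_apply, Matrix.mul_apply]
      refine Finset.sum_congr rfl (fun k _ => ?_)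
      by_cases hk : lab b ≤ lab k
      · rw [hg k b hk]
      · have hk' : lab k < lab a := by omega
        rw [hinv hk', zero_mul, zero_mul]
    rw [h1, mul_one] at h2
    exact h2.symm

theorem mem_ubt (lab : Fin n → ℕ) (g : GL (Fin n) F) :
    g ∈ ubt n F lab ↔ ∀ a b : Fin n, lab b ≤ lab a →
      (g : Matrix (Fin n) (Fin n) F) a b = (1 : Matrix (Fin n) (Fin n) F) a b := Iff.rfl

/-- the upper unitriangular subgroup `U` of `GL_n(F)` -/
def uni : Subgroup (GL (Fin n) F) := ubt n F (fun k => k.val)

theorem mem_uni (g : GL (Fin n) F) :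
    g ∈ uni n F ↔ ∀ a b : Fin n, b ≤ a →
      (g : Matrix (Fin n) (Fin n) F) a b = (1 : Matrix (Fin n) (Fin n) F) a b := Iff.rfl

/-- the labelling with blocks `{0},…,{i-1},{i,i+1},{i+2},…` -/
def labm (i : ℕ) : Fin n → ℕ := fun k => if k.val ≤ i then k.val else k.val - 1

/-- the minimal parabolic subgroup `P_i = B ∪ B s_i B` -/
def pmin (i : ℕ) : Subgroup (GL (Fin n) F) := btGL n F (labm n i)

/-- the unipotent radical of `P_i`: unitriangular matrices with `(i,i+1)` entry zero -/
def upmin (i : ℕ) : Subgroup (GL (Fin n) F) := ubt n F (labm n i)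

/-- the adjacent transposition `(i, i+1)` -/
def sw (i : ℕ) (hi : i + 1 < n) : Equiv.Perm (Fin n) :=
  Equiv.swap ⟨i, by omega⟩ ⟨i + 1, hi⟩

variable {n}

/-- the root element `1 + c E_{ab}` of `GL_n(F)` (`a ≠ b`) -/
noncomputable def xel (a b : Fin n) (hab : a ≠ b) (c : F) : GL (Fin n) F :=
  Matrix.GeneralLinearGroup.mkOfDetNeZero (Matrix.transvection a b c)
    (by rw [Matrix.det_transvection_of_ne a b hab c]; exact one_ne_zero)

theorem xel_val (a b : Fin n) (hab : a ≠ b) (c : F) :
    ((xel F a b hab c : GL (Fin n) F) : Matrix (Fin n) (Fin n) F) = Matrix.transvection a b c := rfl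

variable (n)

/-- the diagonal matrices of `GL_n(F)` -/
noncomputable def dg : (Fin n → Fˣ) →* GL (Fin n) F :=
  (Units.map (Matrix.diagonalRingHom (Fin n) F).toMonoidHom).comp
    (MulEquiv.piUnits (M := fun _ : Fin n => F)).symm.toMonoidHom

theorem dg_val (d : Fin n → Fˣ) :
    ((dg n F d : GL (Fin n) F) : Matrix (Fin n) (Fin n) F) =
      Matrix.diagonal (fun k => ((d k : Fˣ) : F)) := rfl

variable {n}

/-- the diagonal matrix with entry `a` at position `k` and `1` elsewhere -/
noncomputable def dmat (k : Fin n) (a : Fˣ) : GL (Fin n) F := dg n F (Pi.mulSingle k a)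

theorem fin_adj_ne (i : ℕ) (hi : i + 1 < n) :
    (⟨i, by omega⟩ : Fin n) ≠ ⟨i + 1, hi⟩ := by
  intro h
  have := congrArg Fin.val h
  simp at this

/-- the simple root element `1 + c E_{i,i+1}` -/
noncomputable def xadj (i : ℕ) (hi : i + 1 < n) (c : F) : GL (Fin n) F :=
  xel F ⟨i, by omega⟩ ⟨i + 1, hi⟩ (fin_adj_ne i hi) c

end Cfsg.Agent.Lib.Helper2.GLU
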