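import Mathlib
import Cfsg.Prelude.Def_CaseTheorems
import Cfsg.Prelude.Def_TwoFusion

/-!
# Farm HD (S1235): definitions

`T = D × B` a Sylow 2-subgroup of `C_G(x)`, `D` dihedral or quasidihedral, `B` a four-group all of
whose involutions have `T` as a Sylow 2-subgroup of their centralizer: `G` has sectional 2-rank
at most 4.  Everything happens inside a Sylow 2-subgroup `P` of `G` containing `T`.
-/

set_option autoImplicit false

namespace Cfsg.Agent.Lib.Helper2.HDDefs

/-- every section `R/M` of exponent 2 of `P` has order at most 16 -/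
def SecBound (P : Type*) [Group P] : Prop :=
  ∀ R M : Subgroup P, M ≤ R → (∀ r ∈ R, ∀ m ∈ M, r * m * r⁻¹ ∈ M) → (∀ r ∈ R, r * r ∈ M) →
    Nat.card R ≤ 16 * Nat.card M

/-- the centralizer in `P` of every nonidentity element of `B` lies in `T` -/
def SmallCent {P : Type*} [Group P] (T B : Subgroup P) : Prop :=
  ∀ b ∈ B, b ≠ 1 → ∀ s : P, s * b = b * s → s ∈ T

/-- the conjugate `g T g⁻¹` -/
abbrev cj {P : Type*} [Group P] (g : P) (T : Subgroup P) : Subgroup P :=
  T.map (MulAut.conj g).toMonoidHom

end Cfsg.Agent.Lib.Helper2.HDDefs
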