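import Cfsg.Agent.Lib.Helper6.KInfDefs
import Cfsg.Agent.Lib.Helper1.CriticalExists
import Cfsg.Agent.Lib.Helper1.FrattiniP

set_option autoImplicit false
set_option linter.style.haveILetI false

namespace Cfsg.Agent.Lib.Helper2.KInfK9c

open Cfsg Cfsg.Agent.Lib.Helper7 Cfsg.Agent.Lib.Helper6.KInfDefs

universe u

/-- An automorphism of `p'`-order of a `p`-group fixing pointwise a self-centralising normal
subgroup is trivial. -/
theorem aut_trivial {P : Type*} [Group P] [Finite P] {p : ℕ} [Fact p.Prime] (hP : IsPGroup p P)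
    (H : Subgroup P) [H.Normal] (hcent : Subgroup.centralizer (H : Set P) ≤ H) (φ : MulAut P)
    (hφ : (orderOf φ).Coprime p) (hfix : ∀ a ∈ H, φ a = a) : φ = 1 := by
  have hp : p.Prime := Fact.out
  ext t
  show φ t = t
  set c := t⁻¹ * φ t with hc
  have hcC : c ∈ Subgroup.centralizer (H : Set P) := by
    rw [Subgroup.mem_centralizer_iff]
    intro a ha
    have h1 : t * a * t⁻¹ ∈ H := Subgroup.Normal.conj_mem inferInstance a ha t
    have h2 : φ (t * a * t⁻¹) = t * a * t⁻¹ := hfix _ h1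
    rw [map_mul, map_mul, map_inv, hfix a ha] at h2
    calc a * c = t⁻¹ * (t * a * t⁻¹) * φ t := by rw [hc]; group
      _ = t⁻¹ * (φ t * a * (φ t)⁻¹) * φ t := by rw [h2]
      _ = c * a := by rw [hc]; group
  have hφc : φ c = c := hfix c (hcent hcC)
  have hφt : φ t = t * c := by rw [hc]; group
  have hpow : ∀ n : ℕ, (φ ^ n) t = t * c ^ n := by
    intro n
    induction n with
    | zero => simp
    | succ n ih =>
      rw [pow_succ', MulAut.mul_apply, ih, map_mul, map_pow, hφc, hφt, pow_succ']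
      group
  have h1 := hpow (orderOf φ)
  rw [pow_orderOf_eq_one, MulAut.one_apply] at h1
  have h2 : c ^ orderOf φ = 1 := by
    have := mul_left_cancel (a := t) (b := 1) (c := c ^ orderOf φ) (by rw [mul_one]; exact h1)
    exact this.symm
  have h3 : orderOf c ∣ orderOf φ := orderOf_dvd_of_pow_eq_one h2
  obtain ⟨k, hk⟩ := (IsPGroup.iff_orderOf.mp hP) c
  have hk0 : k = 0 := by
    by_contra hk0
    have h4 : p ∣ orderOf φ := dvd_trans (by rw [hk]; exact dvd_pow_self p hk0) h3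
    have : p = 1 := Nat.Coprime.eq_one_of_dvd hφ.symm h4
    exact hp.one_lt.ne' this
  rw [hk0, pow_zero] at hk
  have hc1 : c = 1 := orderOf_eq_one_iff.mp hk
  rw [hφt, hc1, mul_one]

variable {G : Type u} [Group G]

theorem exists_critical_full [Finite G] {p : ℕ} [Fact p.Prime] :
    ∃ A : Subgroup G, A ≤ pCore p G ∧ (A.subgroupOf (pCore p G)).Characteristic ∧
      (∀ a ∈ A, a ^ p ∈ A ⊓ Subgroup.centralizer ((A : Subgroup G) : Set G)) ∧
      ⁅A, A⁆ ≤ Subgroup.centralizer ((A : Subgroup G) : Set G) ∧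
      ⁅pCore p G, A⁆ ≤ A ⊓ Subgroup.centralizer ((A : Subgroup G) : Set G) ∧
      pCore p G ⊓ Subgroup.centralizer ((A : Subgroup G) : Set G) =
        A ⊓ Subgroup.centralizer ((A : Subgroup G) : Set G) ∧
      (∀ φ : MulAut ↥(pCore p G), (orderOf φ).Coprime p →
        (∀ a : ↥(pCore p G), (a : G) ∈ A → φ a = a) → φ = 1) := by
  set T : Subgroup G := pCore p G with hT
  have hTp : IsPGroup p ↥T := Cfsg.Agent.Lib.Helper7.pCore_isPGroup p G
  obtain ⟨H, hHchar, hH2, hH3, hH4⟩ := Cfsg.Agent.Lib.Helper1.exists_critical_subgroup hTp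
  set A : Subgroup G := H.map T.subtype with hA
  have hAT : A ≤ T := Subgroup.map_subtype_le H
  have hsub : A.subgroupOf T = H := by
    rw [hA, Subgroup.subgroupOf]
    exact Subgroup.comap_map_eq_self_of_injective (Subgroup.subtype_injective T) H
  have hmemA : ∀ a : ↥T, (a : G) ∈ A ↔ a ∈ H := by
    intro a
    rw [hA]
    exact Subgroup.mem_map_iff_mem (Subgroup.subtype_injective T)
  have hcomm : ⁅T, A⁆ ≤ A ⊓ Subgroup.centralizer (A : Set G) := by
    have h1 := Subgroup.map_mono (f := T.subtype) hH3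
    rw [Subgroup.map_commutator, map_inf_centralizer_self T.subtype (Subgroup.subtype_injective T),
      ← MonoidHom.range_eq_map, Subgroup.range_subtype, Subgroup.commutator_comm] at h1
    exact h1
  have hcent : T ⊓ Subgroup.centralizer (A : Set G) ≤ A := by
    intro x hx
    obtain ⟨hxT, hxC⟩ := hx
    have hx' : (⟨x, hxT⟩ : ↥T) ∈ Subgroup.centralizer (H : Set ↥T) := by
      rw [Subgroup.mem_centralizer_iff]
      intro b hb
      apply Subtype.ext
      rw [Subgroup.coe_mul, Subgroup.coe_mul]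
      exact (Subgroup.mem_centralizer_iff.mp hxC) (b : G) (Subgroup.mem_map.mpr ⟨b, hb, rfl⟩)
    exact Subgroup.mem_map.mpr ⟨⟨x, hxT⟩, hH4 hx', rfl⟩
  refine ⟨A, hAT, by rw [hsub]; exact hHchar, ?_, ?_, hcomm, ?_, ?_⟩
  · -- p-th powers
    intro a ha
    refine ⟨A.pow_mem ha p, ?_⟩
    obtain ⟨h, hh, rfl⟩ := Subgroup.mem_map.mp ha
    have hHp : IsPGroup p ↥H := hTp.to_subgroup H
    have h1 : (⟨h, hh⟩ : ↥H) ^ p ∈ frattini ↥H :=
      Cfsg.Agent.Lib.Helper1.pow_prime_mem_frattini_of_isPGroup p hHp ⟨h, hh⟩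
    have h2 : (((⟨h, hh⟩ : ↥H) ^ p : ↥H) : ↥T) ∈ Subgroup.centralizer (H : Set ↥T) :=
      hH2 ⟨_, h1, rfl⟩
    show T.subtype h ^ p ∈ Subgroup.centralizer ((A : Subgroup G) : Set G)
    rw [Subgroup.mem_centralizer_iff]
    intro b hb
    obtain ⟨b', hb', rfl⟩ := Subgroup.mem_map.mp hb
    have h3 := Subgroup.mem_centralizer_iff.mp h2 b' hb'
    have h4 := congrArg (fun x : ↥T => (x : G)) h3
    simpa using h4
  · exact le_trans (Subgroup.commutator_mono hAT le_rfl) (le_trans hcomm inf_le_right)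
  · apply le_antisymm
    · intro x hx
      exact ⟨hcent hx, hx.2⟩
    · intro x hx
      exact ⟨hAT hx.1, hx.2⟩
  · intro φ hφ hfix
    haveI : H.Normal := inferInstance
    exact aut_trivial hTp H hH4 φ hφ (fun a ha => hfix a ((hmemA a).mpr ha))

end Cfsg.Agent.Lib.Helper2.KInfK9c
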