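import Mathlib
import Cfsg.Prelude.Def_PLocal
import Cfsg.Prelude.Def_Transfer

set_option autoImplicit false

/-! Self-centralizing cyclic normal subgroups of p-groups: arithmetic and the action on the cyclic subgroup. -/

namespace Cfsg.Agent.Lib.Helper2.CycSelf

/-! ### number theory -/

theorem fermat_modEq (p : ℕ) [Fact p.Prime] (a k : ℕ) : a ^ (p ^ k) ≡ a [MOD p] := by
  rw [← ZMod.natCast_eq_natCast_iff]
  push_cast
  exact ZMod.pow_card_pow _

theorem odd_lte {p : ℕ} [Fact p.Prime] (hp2 : p ≠ 2) {a n : ℕ} (ha : 0 < a)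
    (h : a ^ p ≡ 1 [MOD p ^ n]) : a ≡ 1 [MOD p ^ (n - 1)] := by
  have hp := (Fact.out : p.Prime)
  rcases Nat.eq_zero_or_pos n with hn | hn
  · subst hn
    simp [Nat.modEq_one]
  have hmodp : a ≡ 1 [MOD p] := by
    have h1 : a ^ p ≡ 1 [MOD p] := h.of_dvd (dvd_pow_self p hn.ne')
    have h2 : a ^ p ≡ a [MOD p] := by simpa using fermat_modEq p a 1
    exact h2.symm.trans h1
  rcases Nat.lt_or_ge 1 a with ha1 | ha1
  · have hdvd : p ∣ a - 1 := (Nat.modEq_iff_dvd' ha1.le).mp hmodp.symm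
    have hnd : ¬ p ∣ a := by
      intro hpa
      have h0 : a ≡ 0 [MOD p] := Nat.modEq_zero_iff_dvd.mpr hpa
      have h01 : (1 : ℕ) ≡ 0 [MOD p] := hmodp.symm.trans h0
      have h3 := Nat.modEq_zero_iff_dvd.mp h01
      exact hp.one_lt.ne' (Nat.dvd_one.mp h3)
    have hodd : Odd p := hp.odd_of_ne_two hp2
    have hlte := padicValNat.pow_sub_pow hodd (x := a) (y := 1) ha1 hdvd hnd (n := p) hp.ne_zero
    rw [one_pow, padicValNat_self] at hlte
    have hap1 : 1 ≤ a ^ p := Nat.one_le_pow _ _ ha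
    have hdvd2 : p ^ n ∣ a ^ p - 1 := (Nat.modEq_iff_dvd' hap1).mp h.symm
    have hne : a ^ p - 1 ≠ 0 := by
      have h4 : 1 < a ^ p := Nat.one_lt_pow hp.ne_zero ha1
      omega
    have hle : n ≤ padicValNat p (a ^ p - 1) := (padicValNat_dvd_iff_le hne).mp hdvd2
    have hle' : n - 1 ≤ padicValNat p (a - 1) := by omega
    have hne1 : a - 1 ≠ 0 := by omega
    have h5 : p ^ (n - 1) ∣ a - 1 := (padicValNat_dvd_iff_le hne1).mpr hle'
    exact ((Nat.modEq_iff_dvd' ha1.le).mpr h5).symm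
  · have h1 : a = 1 := by omega
    subst h1
    exact Nat.ModEq.refl _

theorem two_sq_modEq {a n : ℕ} (h : a * a ≡ 1 [MOD 2 ^ n]) (hn : 1 ≤ n) :
    a ≡ 1 [MOD 2 ^ (n - 1)] ∨ a + 1 ≡ 0 [MOD 2 ^ (n - 1)] := by
  have hodd : a % 2 = 1 := by
    have h1 : a * a ≡ 1 [MOD 2] := h.of_dvd (dvd_pow_self 2 (by omega))
    unfold Nat.ModEq at h1
    rcases Nat.mod_two_eq_zero_or_one a with h0 | h0
    · rw [Nat.mul_mod, h0] at h1
      simp at h1
    · exact h0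
  rcases Nat.lt_or_ge n 2 with hn2 | hn2
  · have h0 : n - 1 = 0 := by omega
    left
    rw [h0, pow_zero]
    exact Nat.modEq_one
  obtain ⟨b, rfl⟩ : ∃ b, a = 2 * b + 1 := ⟨a / 2, by omega⟩
  have hge : 1 ≤ (2 * b + 1) * (2 * b + 1) := by nlinarith
  have hdvd : 2 ^ n ∣ (2 * b + 1) * (2 * b + 1) - 1 := (Nat.modEq_iff_dvd' hge).mp h.symm
  have heq : (2 * b + 1) * (2 * b + 1) - 1 = b * (b + 1) * 4 := by
    have h1 : (2 * b + 1) * (2 * b + 1) = b * (b + 1) * 4 + 1 := by ring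
    omega
  rw [heq] at hdvd
  obtain ⟨m, hm⟩ : ∃ m, n = m + 2 := ⟨n - 2, by omega⟩
  subst hm
  have hdvd' : 2 ^ m ∣ b * (b + 1) := by
    rw [pow_add] at hdvd
    exact Nat.dvd_of_mul_dvd_mul_right (by norm_num) hdvd
  have hsimp : m + 2 - 1 = m + 1 := by omega
  rw [hsimp]
  rcases Nat.mod_two_eq_zero_or_one b with hb | hb
  · have hcop : Nat.Coprime (2 ^ m) (b + 1) := by
      apply Nat.Coprime.pow_left
      rw [Nat.coprime_two_left]
      exact Nat.odd_iff.mpr (by omega)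
    have h1 : 2 ^ m ∣ b := hcop.dvd_of_dvd_mul_right hdvd'
    left
    have h2 : 2 ^ (m + 1) ∣ 2 * b + 1 - 1 := by
      have h3 : 2 * b + 1 - 1 = b * 2 := by omega
      rw [h3, pow_succ]
      exact Nat.mul_dvd_mul_right h1 2
    exact ((Nat.modEq_iff_dvd' (by omega)).mpr h2).symm
  · have hcop : Nat.Coprime (2 ^ m) b := by
      apply Nat.Coprime.pow_left
      rw [Nat.coprime_two_left]
      exact Nat.odd_iff.mpr hb
    have h1 : 2 ^ m ∣ b + 1 := hcop.dvd_of_dvd_mul_left hdvd'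
    right
    have h2 : 2 ^ (m + 1) ∣ 2 * b + 1 + 1 := by
      have h3 : 2 * b + 1 + 1 = (b + 1) * 2 := by ring
      rw [h3, pow_succ]
      exact Nat.mul_dvd_mul_right h1 2
    exact Nat.modEq_zero_iff_dvd.mpr h2

theorem sq_add_one_mod_four (b : ℕ) : ¬ 4 ∣ b ^ 2 + 1 := by
  intro h
  have h1 : (b ^ 2 + 1) % 4 = 0 := Nat.mod_eq_zero_of_dvd h
  have h2 : b % 4 < 4 := Nat.mod_lt _ (by norm_num)
  rw [Nat.add_mod, Nat.pow_mod] at h1
  interval_cases (b % 4) <;> simp at h1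

/-! ### the action on `⟨u⟩` -/

section act

variable {G : Type*} [Group G] {u : G}

theorem comm_of_mem {x y : G} (hx : x ∈ Subgroup.zpowers u) (hy : y ∈ Subgroup.zpowers u) :
    x * y = y * x := by
  obtain ⟨i, rfl⟩ := Subgroup.mem_zpowers_iff.mp hx
  obtain ⟨j, rfl⟩ := Subgroup.mem_zpowers_iff.mp hy
  exact ((Commute.refl u).zpow_zpow i j).eq

theorem conj_pow_of_act {g : G} {a : ℕ} (h : g * u * g⁻¹ = u ^ a) (k : ℕ) :
    g * u ^ k * g⁻¹ = u ^ (a * k) := by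
  rw [← conj_pow, h, ← pow_mul]

theorem act_mul {g h : G} {a b : ℕ} (hg : g * u * g⁻¹ = u ^ a) (hh : h * u * h⁻¹ = u ^ b) :
    (g * h) * u * (g * h)⁻¹ = u ^ (a * b) := by
  have h1 : (g * h) * u * (g * h)⁻¹ = g * (h * u * h⁻¹) * g⁻¹ := by group
  rw [h1, hh, conj_pow_of_act hg]

theorem act_pow {g : G} {a : ℕ} (hg : g * u * g⁻¹ = u ^ a) (k : ℕ) :
    g ^ k * u * (g ^ k)⁻¹ = u ^ (a ^ k) := by
  induction k with
  | zero => simp
  | succ k ih =>
    rw [pow_succ, pow_succ]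
    exact act_mul ih hg

theorem comm_of_conj_eq {g x : G} (h : g * x * g⁻¹ = x) : g * x = x * g := by
  calc g * x = g * x * g⁻¹ * g := by group
    _ = x * g := by rw [h]

theorem conj_eq_of_comm {g x : G} (h : g * x = x * g) : g * x * g⁻¹ = x := by
  rw [h]; group

variable [Finite G]

theorem exists_act (hN : (Subgroup.zpowers u).Normal) (g : G) :
    ∃ a : ℕ, 0 < a ∧ g * u * g⁻¹ = u ^ a := by
  have hmem : g * u * g⁻¹ ∈ Subgroup.zpowers u := hN.conj_mem u (Subgroup.mem_zpowers u) g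
  rw [← mem_powers_iff_mem_zpowers] at hmem
  obtain ⟨a, ha⟩ := (Submonoid.mem_powers_iff _ _).mp hmem
  refine ⟨a + orderOf u, ?_, ?_⟩
  · have := orderOf_pos u
    omega
  · rw [pow_add, pow_orderOf_eq_one, mul_one]
    exact ha.symm

theorem exists_nat_pow {x : G} (hx : x ∈ Subgroup.zpowers u) : ∃ k : ℕ, x = u ^ k := by
  rw [← mem_powers_iff_mem_zpowers] at hx
  obtain ⟨a, ha⟩ := (Submonoid.mem_powers_iff _ _).mp hx
  exact ⟨a, ha.symm⟩

omit [Finite G] in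
theorem mem_iff_modEq {n p : ℕ} (hu : orderOf u = p ^ n)
    (hC : ∀ g : G, g * u = u * g → g ∈ Subgroup.zpowers u) {g : G} {a : ℕ}
    (hg : g * u * g⁻¹ = u ^ a) : g ∈ Subgroup.zpowers u ↔ a ≡ 1 [MOD p ^ n] := by
  constructor
  · intro hmem
    have hcomm : g * u = u * g := comm_of_mem hmem (Subgroup.mem_zpowers u)
    have h1 : u ^ a = u ^ 1 := by
      rw [← hg, pow_one]
      exact conj_eq_of_comm hcomm
    rw [← hu]
    exact pow_eq_pow_iff_modEq.mp h1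
  · intro hmod
    have h1 : u ^ a = u ^ 1 := pow_eq_pow_iff_modEq.mpr (by rw [hu]; exact hmod)
    rw [pow_one] at h1
    exact hC g (comm_of_conj_eq (hg.trans h1))

omit [Finite G] in
theorem act_modEq_one {p n : ℕ} [Fact p.Prime] (hG : IsPGroup p G) (hu : orderOf u = p ^ n)
    (hn : 1 ≤ n) {g : G} {a : ℕ} (hg : g * u * g⁻¹ = u ^ a) : a ≡ 1 [MOD p] := by
  obtain ⟨k, hk⟩ := hG g
  have h1 := act_pow hg (p ^ k)
  rw [hk] at h1
  have h2 : u ^ (a ^ p ^ k) = u ^ 1 := by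
    rw [← h1]; simp
  have h3 : a ^ p ^ k ≡ 1 [MOD p ^ n] := by
    rw [← hu]
    exact pow_eq_pow_iff_modEq.mp h2
  have h4 : a ^ p ^ k ≡ 1 [MOD p] := h3.of_dvd (dvd_pow_self p (by omega))
  exact (fermat_modEq p a k).symm.trans h4

/-- elements of `⟨u⟩` of exponent `p` are powers of `u^(p^(n-1))` -/
theorem mem_zpowers_z {p n : ℕ} [Fact p.Prime] (hu : orderOf u = p ^ n) (hn : 1 ≤ n) {x : G}
    (hx : x ∈ Subgroup.zpowers u) (hxp : x ^ p = 1) :
    ∃ t : ℕ, x = (u ^ (p ^ (n - 1))) ^ t := by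
  obtain ⟨k, rfl⟩ := exists_nat_pow hx
  rw [← pow_mul] at hxp
  have hd : p ^ n ∣ k * p := by
    rw [← hu]
    exact orderOf_dvd_of_pow_eq_one hxp
  obtain ⟨m, rfl⟩ : ∃ m, n = m + 1 := ⟨n - 1, by omega⟩
  rw [pow_succ] at hd
  have hd' : p ^ m ∣ k := Nat.dvd_of_mul_dvd_mul_right (Fact.out : p.Prime).pos hd
  obtain ⟨t, rfl⟩ := hd'
  exact ⟨t, by rw [Nat.add_sub_cancel, ← pow_mul]⟩

omit [Finite G] in
theorem orderOf_z {p n : ℕ} [Fact p.Prime] (hu : orderOf u = p ^ n) (hn : 1 ≤ n) :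
    orderOf (u ^ (p ^ (n - 1))) = p := by
  have hp := (Fact.out : p.Prime)
  have hd : p ^ (n - 1) ∣ orderOf u := by
    rw [hu]; exact pow_dvd_pow p (by omega)
  rw [orderOf_pow_of_dvd (pow_ne_zero _ hp.ne_zero) hd, hu]
  obtain ⟨m, rfl⟩ : ∃ m, n = m + 1 := ⟨n - 1, by omega⟩
  rw [Nat.add_sub_cancel, pow_succ]
  exact Nat.mul_div_cancel_left p (pow_pos hp.pos m)

omit [Finite G] in
theorem exists_pow_mem {p : ℕ} (hG : IsPGroup p G) (U : Subgroup G) {h : G} (hh : h ∉ U) :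
    ∃ g, g ∉ U ∧ g ^ p ∈ U := by
  classical
  have hex : ∃ e, h ^ (p ^ e) ∈ U := by
    obtain ⟨k, hk⟩ := hG h
    exact ⟨k, by rw [hk]; exact U.one_mem⟩
  have hpos : Nat.find hex ≠ 0 := by
    intro h0
    have h1 := Nat.find_spec hex
    rw [h0, pow_zero, pow_one] at h1
    exact hh h1
  obtain ⟨e, he⟩ : ∃ e, Nat.find hex = e + 1 := ⟨Nat.find hex - 1, by omega⟩
  refine ⟨h ^ (p ^ e), ?_, ?_⟩
  · exact Nat.find_min hex (by omega : e < Nat.find hex)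
  · have h1 := Nat.find_spec hex
    rw [he, pow_succ, pow_mul] at h1
    exact h1

/-! ### the centralizer `M` of `℧¹(U)` -/

omit [Finite G] in
theorem mem_M_iff {p : ℕ} (g : G) :
    g ∈ Subgroup.centralizer (Cfsg.powerClosure p 1 (Subgroup.zpowers u) : Set G) ↔
      g * u ^ p = u ^ p * g := by
  unfold Cfsg.powerClosure
  rw [Subgroup.centralizer_closure, Subgroup.mem_centralizer_iff]
  constructor
  · intro h
    have h1 := h (u ^ p) ⟨u, Subgroup.mem_zpowers u, by rw [pow_one]⟩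
    exact h1.symm
  · intro h y hy
    obtain ⟨x, hx, rfl⟩ := hy
    obtain ⟨k, rfl⟩ := Subgroup.mem_zpowers_iff.mp hx
    rw [pow_one]
    have hc : Commute g (u ^ p) := h
    have h1 : (u ^ k) ^ p = (u ^ p) ^ k := by
      rw [← zpow_natCast, ← zpow_natCast, ← zpow_mul, ← zpow_mul, mul_comm]
    rw [h1]
    exact (hc.zpow_right k).eq.symm

/-- for `m` centralizing `u^p`: `m u m⁻¹ = c u` with `c` a power of `u^p` of exponent `p` -/
theorem conj_eq_of_comm_pow {p n : ℕ} [Fact p.Prime] (hu : orderOf u = p ^ n) (hn2 : 2 ≤ n)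
    (hN : (Subgroup.zpowers u).Normal) {m : G} (hm : m * u ^ p = u ^ p * m) :
    ∃ t : ℕ, m * u * m⁻¹ = (u ^ (p ^ (n - 1))) ^ t * u ∧
      ∃ s : ℕ, (u ^ (p ^ (n - 1))) ^ t = (u ^ p) ^ s := by
  have hcU : m * u * m⁻¹ * u⁻¹ ∈ Subgroup.zpowers u :=
    Subgroup.mul_mem _ (hN.conj_mem u (Subgroup.mem_zpowers u) m)
      (Subgroup.inv_mem _ (Subgroup.mem_zpowers u))
  have hcomm : Commute (m * u * m⁻¹) u⁻¹ :=
    comm_of_mem (hN.conj_mem u (Subgroup.mem_zpowers u) m)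
      (Subgroup.inv_mem _ (Subgroup.mem_zpowers u))
  have hcp : (m * u * m⁻¹ * u⁻¹) ^ p = 1 := by
    rw [hcomm.mul_pow, conj_pow, conj_eq_of_comm hm, inv_pow, mul_inv_cancel]
  obtain ⟨t, ht⟩ := mem_zpowers_z hu (by omega) hcU hcp
  refine ⟨t, ?_, ?_⟩
  · rw [← ht]; group
  · obtain ⟨k, rfl⟩ : ∃ k, n = k + 2 := ⟨n - 2, by omega⟩
    refine ⟨p ^ k * t, ?_⟩
    have h1 : k + 2 - 1 = k + 1 := by omega
    rw [h1, ← pow_mul, ← pow_mul, pow_succ]
    congr 1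
    ring

end act

end Cfsg.Agent.Lib.Helper2.CycSelf
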