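import Mathlib
import Cfsg.Agent.Lib.Helper2.CycSelf1
import Cfsg.Agent.Lib.Helper1.OmegaOneCyclicMax

set_option autoImplicit false

/-! Self-centralizing cyclic normal subgroups: the subgroup `M = C(℧¹(U))` and `Ω₁(M)`. -/

namespace Cfsg.Agent.Lib.Helper2.CycSelf

section alt2

variable {G : Type*} [Group G] [Finite G] {u : G} {p n : ℕ} [Fact p.Prime]

/-- the commutator `m u m⁻¹ u⁻¹` -/
def cm (u m : G) : G := m * u * m⁻¹ * u⁻¹

omit [Finite G] in
theorem conj_eq_of_cm_eq_one {m : G} (h : cm u m = 1) : m * u * m⁻¹ = u := by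
  unfold cm at h
  have h1 := mul_eq_one_iff_eq_inv.mp h
  rw [h1, inv_inv]

theorem cm_mul (hu : orderOf u = p ^ n) (hn2 : 2 ≤ n) (hN : (Subgroup.zpowers u).Normal)
    {m₁ m₂ : G} (h₁ : m₁ * u ^ p = u ^ p * m₁) (h₂ : m₂ * u ^ p = u ^ p * m₂) :
    cm u (m₁ * m₂) = cm u m₁ * cm u m₂ := by
  obtain ⟨t₁, ht₁, s₁, hs₁⟩ := conj_eq_of_comm_pow hu hn2 hN h₁
  obtain ⟨t₂, ht₂, s₂, hs₂⟩ := conj_eq_of_comm_pow hu hn2 hN h₂
  rw [hs₁] at ht₁
  rw [hs₂] at ht₂
  have hcomm : (u ^ p) ^ s₂ * (u ^ p) ^ s₁ = (u ^ p) ^ s₁ * (u ^ p) ^ s₂ := by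
    rw [← pow_add, ← pow_add, add_comm]
  have hc : m₁ * (u ^ p) ^ s₂ * m₁⁻¹ = (u ^ p) ^ s₂ := by
    rw [← conj_pow, conj_eq_of_comm h₁]
  generalize (u ^ p) ^ s₁ = c₁ at ht₁ hcomm
  generalize (u ^ p) ^ s₂ = c₂ at ht₂ hcomm hc
  have e1 : cm u (m₁ * m₂) = m₁ * (m₂ * u * m₂⁻¹) * m₁⁻¹ * u⁻¹ := by unfold cm; group
  have e2 : cm u m₁ = c₁ := by unfold cm; rw [ht₁]; group
  have e3 : cm u m₂ = c₂ := by unfold cm; rw [ht₂]; group
  rw [e1, e2, e3, ht₂]
  have e4 : m₁ * (c₂ * u) * m₁⁻¹ * u⁻¹ = (m₁ * c₂ * m₁⁻¹) * (m₁ * u * m₁⁻¹) * u⁻¹ := by group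
  rw [e4, hc, ht₁, ← hcomm]
  group

theorem relIndex_eq (hu : orderOf u = p ^ n) (hn2 : 2 ≤ n) (hN : (Subgroup.zpowers u).Normal)
    (hC : ∀ g : G, g * u = u * g → g ∈ Subgroup.zpowers u)
    {m₀ : G} (hm₀ : m₀ * u ^ p = u ^ p * m₀) (hm₀U : m₀ ∉ Subgroup.zpowers u) :
    (Subgroup.zpowers u).relIndex
      (Subgroup.centralizer (Cfsg.powerClosure p 1 (Subgroup.zpowers u) : Set G)) = p := by
  have hp := (Fact.out : p.Prime)
  obtain ⟨M, hM⟩ : ∃ M, M =
    Subgroup.centralizer (Cfsg.powerClosure p 1 (Subgroup.zpowers u) : Set G) := ⟨_, rfl⟩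
  rw [← hM]
  have hMmem : ∀ g, g ∈ M ↔ g * u ^ p = u ^ p * g := by
    intro g; rw [hM]; exact mem_M_iff g
  let f : ↥M →* G := MonoidHom.mk' (fun m => cm u (m : G)) (fun a b => by
    show cm u ((a : G) * (b : G)) = cm u (a : G) * cm u (b : G)
    exact cm_mul hu hn2 hN ((hMmem _).mp a.2) ((hMmem _).mp b.2))
  have hf : ∀ m : ↥M, f m = cm u (m : G) := fun m => rfl
  have hker : f.ker = (Subgroup.zpowers u).subgroupOf M := by
    ext m
    rw [MonoidHom.mem_ker, Subgroup.mem_subgroupOf, hf]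
    constructor
    · intro h
      exact hC _ (comm_of_conj_eq (conj_eq_of_cm_eq_one h))
    · intro h
      have hcomm : (m : G) * u = u * m := comm_of_mem h (Subgroup.mem_zpowers u)
      unfold cm
      rw [conj_eq_of_comm hcomm, mul_inv_cancel]
  have hrange : f.range ≤ Subgroup.zpowers (u ^ (p ^ (n - 1))) := by
    rintro x ⟨m, rfl⟩
    rw [hf]
    obtain ⟨t, ht, -⟩ := conj_eq_of_comm_pow hu hn2 hN ((hMmem _).mp m.2)
    unfold cm
    rw [ht, mul_assoc, mul_inv_cancel, mul_one]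
    exact Subgroup.pow_mem _ (Subgroup.mem_zpowers _) t
  have hcardz : Nat.card (Subgroup.zpowers (u ^ (p ^ (n - 1)))) = p := by
    rw [Nat.card_zpowers]; exact orderOf_z hu (by omega)
  have hdvd : Nat.card f.range ∣ p := by
    rw [← hcardz]; exact Subgroup.card_dvd_of_le hrange
  have hne1 : Nat.card f.range ≠ 1 := by
    intro h1
    have hbot := Subgroup.card_eq_one.mp h1
    have hm : f ⟨m₀, (hMmem _).mpr hm₀⟩ ∈ f.range := ⟨_, rfl⟩
    rw [hbot, Subgroup.mem_bot, hf] at hm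
    exact hm₀U (hC _ (comm_of_conj_eq (conj_eq_of_cm_eq_one hm)))
  have hcard : Nat.card f.range = p := by
    rcases (Nat.dvd_prime hp).mp hdvd with h | h
    · exact absurd h hne1
    · exact h
  show ((Subgroup.zpowers u).subgroupOf M).index = p
  rw [← hker, Subgroup.index_ker, hcard]

omit [Finite G] in
theorem conj_comm_aux {g m w c : G} (h1 : g⁻¹ * w * g = c) (hc : m * c = c * m) :
    (g * m * g⁻¹) * w = w * (g * m * g⁻¹) := by
  have hw : w = g * c * g⁻¹ := by rw [← h1]; group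
  rw [hw]
  have e1 : g * m * g⁻¹ * (g * c * g⁻¹) = g * (m * c) * g⁻¹ := by group
  have e2 : g * c * g⁻¹ * (g * m * g⁻¹) = g * (c * m) * g⁻¹ := by group
  rw [e1, e2, hc]

omit [Fact (Nat.Prime p)] in
theorem M_conj_mem (hN : (Subgroup.zpowers u).Normal) {m : G} (hm : m * u ^ p = u ^ p * m)
    (g : G) : (g * m * g⁻¹) * u ^ p = u ^ p * (g * m * g⁻¹) := by
  obtain ⟨b, -, hb⟩ := exists_act hN g⁻¹
  have h1 : g⁻¹ * u ^ p * g = (u ^ p) ^ b := by
    have h2 := conj_pow_of_act hb p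
    rw [inv_inv] at h2
    rw [h2, ← pow_mul, mul_comm]
  have hc : Commute m ((u ^ p) ^ b) := (show Commute m (u ^ p) from hm).pow_right b
  exact conj_comm_aux h1 hc.eq

theorem omega_normal (hN : (Subgroup.zpowers u).Normal) :
    ∀ x ∈ Cfsg.omegaOne p
      (Subgroup.centralizer (Cfsg.powerClosure p 1 (Subgroup.zpowers u) : Set G)),
      ∀ g : G, g * x * g⁻¹ ∈ Cfsg.omegaOne p
        (Subgroup.centralizer (Cfsg.powerClosure p 1 (Subgroup.zpowers u) : Set G)) := by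
  intro x hx g
  unfold Cfsg.omegaOne at hx ⊢
  refine Subgroup.closure_induction (p := fun x _ => g * x * g⁻¹ ∈ Subgroup.closure
    {x : G | x ∈ Subgroup.centralizer (Cfsg.powerClosure p 1 (Subgroup.zpowers u) : Set G) ∧
      x ^ p = 1}) ?_ ?_ ?_ ?_ hx
  · intro y hy
    apply Subgroup.subset_closure
    refine ⟨(mem_M_iff _).mpr (M_conj_mem hN ((mem_M_iff _).mp hy.1) g), ?_⟩
    rw [conj_pow, hy.2]
    group
  · simp
  · intro a b _ _ ha hb
    have e : g * (a * b) * g⁻¹ = (g * a * g⁻¹) * (g * b * g⁻¹) := by group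
    rw [e]
    exact Subgroup.mul_mem _ ha hb
  · intro a _ ha
    have e : g * a⁻¹ * g⁻¹ = (g * a * g⁻¹)⁻¹ := by group
    rw [e]
    exact Subgroup.inv_mem _ ha

omit [Finite G] [Fact (Nat.Prime p)] in
theorem le_omega (hN : (Subgroup.zpowers u).Normal) (F : Subgroup G) (hF : F.Normal)
    (hexp : ∀ f ∈ F, f ^ p = 1) :
    F ≤ Cfsg.omegaOne p
      (Subgroup.centralizer (Cfsg.powerClosure p 1 (Subgroup.zpowers u) : Set G)) := by
  intro f hf
  unfold Cfsg.omegaOne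
  apply Subgroup.subset_closure
  refine ⟨(mem_M_iff f).mpr ?_, hexp f hf⟩
  have hcF : f * u * f⁻¹ * u⁻¹ ∈ F := by
    have h1 : u * f⁻¹ * u⁻¹ ∈ F := hF.conj_mem f⁻¹ (F.inv_mem hf) u
    have h2 : f * u * f⁻¹ * u⁻¹ = f * (u * f⁻¹ * u⁻¹) := by group
    rw [h2]
    exact F.mul_mem hf h1
  have hcp := hexp _ hcF
  have hfu : f * u * f⁻¹ ∈ Subgroup.zpowers u := hN.conj_mem u (Subgroup.mem_zpowers u) f
  have hcomm : Commute (f * u * f⁻¹) u⁻¹ :=
    comm_of_mem hfu (Subgroup.inv_mem _ (Subgroup.mem_zpowers u))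
  rw [hcomm.mul_pow, conj_pow, inv_pow] at hcp
  have h3 : f * u ^ p * f⁻¹ = u ^ p := by
    have h4 := mul_eq_one_iff_eq_inv.mp hcp
    rw [h4, inv_inv]
  exact comm_of_conj_eq h3

theorem omega_char (hN : (Subgroup.zpowers u).Normal)
    (hexp : ∀ x ∈ Cfsg.omegaOne p
      (Subgroup.centralizer (Cfsg.powerClosure p 1 (Subgroup.zpowers u) : Set G)), x ^ p = 1) :
    (Cfsg.omegaOne p
      (Subgroup.centralizer (Cfsg.powerClosure p 1 (Subgroup.zpowers u) : Set G))).Characteristic := by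
  have hnorm : (Cfsg.omegaOne p
      (Subgroup.centralizer (Cfsg.powerClosure p 1 (Subgroup.zpowers u) : Set G))).Normal :=
    ⟨fun x hx g => omega_normal hN x hx g⟩
  rw [Subgroup.characteristic_iff_map_le]
  intro φ
  apply le_omega hN _ (hnorm.map φ.toMonoidHom φ.surjective)
  rintro _ ⟨x, hx, rfl⟩
  rw [← map_pow, hexp x hx, map_one]

theorem omega_odd (hp2 : p ≠ 2) (hG : IsPGroup p G) (hu : orderOf u = p ^ n) (hn2 : 2 ≤ n)
    (hN : (Subgroup.zpowers u).Normal)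
    (hC : ∀ g : G, g * u = u * g → g ∈ Subgroup.zpowers u)
    {m₀ : G} (hm₀ : m₀ * u ^ p = u ^ p * m₀) (hm₀U : m₀ ∉ Subgroup.zpowers u) :
    Cfsg.IsElementaryAbelian p (Cfsg.omegaOne p
      (Subgroup.centralizer (Cfsg.powerClosure p 1 (Subgroup.zpowers u) : Set G))) ∧
    Nat.card (Cfsg.omegaOne p
      (Subgroup.centralizer (Cfsg.powerClosure p 1 (Subgroup.zpowers u) : Set G))) = p ^ 2 := by
  have hidx := relIndex_eq hu hn2 hN hC hm₀ hm₀U
  obtain ⟨M, hM⟩ : ∃ M, M =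
    Subgroup.centralizer (Cfsg.powerClosure p 1 (Subgroup.zpowers u) : Set G) := ⟨_, rfl⟩
  rw [← hM] at hidx ⊢
  have hMmem : ∀ g, g ∈ M ↔ g * u ^ p = u ^ p * g := by
    intro g; rw [hM]; exact mem_M_iff g
  have hUM : Subgroup.zpowers u ≤ M := by
    intro x hx
    rw [hMmem]
    exact comm_of_mem hx (Subgroup.pow_mem _ (Subgroup.mem_zpowers u) p)
  have hcyc : IsCyclic ((Subgroup.zpowers u).subgroupOf M) :=
    (Subgroup.subgroupOfEquivOfLe hUM).isCyclic.mpr inferInstance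
  have hm₀M : m₀ ∈ M := (hMmem _).mpr hm₀
  have hnc : ¬ IsCyclic ↥M := by
    intro hcyc'
    haveI := hcyc'
    obtain ⟨g, hg⟩ := IsCyclic.exists_generator (α := ↥M)
    have h1 : (⟨m₀, hm₀M⟩ : ↥M) * ⟨u, hUM (Subgroup.mem_zpowers u)⟩ =
        ⟨u, hUM (Subgroup.mem_zpowers u)⟩ * ⟨m₀, hm₀M⟩ := comm_of_mem (hg _) (hg _)
    have h2 := congrArg Subtype.val h1
    exact hm₀U (hC m₀ h2)
  obtain ⟨hEA, hcard⟩ := Cfsg.Agent.Lib.Helper1.omega_one_of_odd_p_group_with_cyclic_maximal hp2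
    (hG.to_subgroup M) hnc _ hcyc hidx
  have himg : Cfsg.omegaOne p M = (Subgroup.closure {x : ↥M | x ^ p = 1}).map M.subtype := by
    rw [MonoidHom.map_closure]
    unfold Cfsg.omegaOne
    congr 1
    ext x
    constructor
    · rintro ⟨hxM, hxp⟩
      refine ⟨⟨x, hxM⟩, ?_, rfl⟩
      apply Subtype.ext
      rw [Subgroup.coe_pow]
      exact hxp
    · rintro ⟨y, hy, rfl⟩
      refine ⟨y.2, ?_⟩
      have h1 := congrArg Subtype.val (show y ^ p = 1 from hy)
      rwa [Subgroup.coe_pow] at h1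
  rw [himg]
  refine ⟨⟨⟨⟨fun a b => ?_⟩⟩, ?_⟩, ?_⟩
  · obtain ⟨a', ha', haa⟩ := a.2
    obtain ⟨b', hb', hbb⟩ := b.2
    apply Subtype.ext
    show (a : G) * (b : G) = (b : G) * (a : G)
    rw [← haa, ← hbb]
    have h1 := hEA.1.is_comm.comm ⟨a', ha'⟩ ⟨b', hb'⟩
    have h2 := congrArg (fun t : ↥(Subgroup.closure {x : ↥M | x ^ p = 1}) => ((t : ↥M) : G)) h1
    exact h2
  · rintro _ ⟨a', ha', rfl⟩
    have h1 := hEA.2 a' ha'
    rw [← map_pow, h1, map_one]
  · rw [Subgroup.card_map_of_injective M.subtype_injective]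
    exact hcard

end alt2

section alt2two

variable {G : Type*} [Group G] [Finite G] {u : G} {n : ℕ}

omit [Finite G] in
theorem pow_of_sq_one {z : G} (hzz : z * z = 1) (t : ℕ) : z ^ t = 1 ∨ z ^ t = z := by
  have h2 : z ^ 2 = 1 := by rw [pow_two]; exact hzz
  rw [← Nat.mod_add_div t 2, pow_add, pow_mul, h2, one_pow, mul_one]
  rcases Nat.mod_two_eq_zero_or_one t with h | h
  · left; rw [h, pow_zero]
  · right; rw [h, pow_one]

theorem omega_two (hu : orderOf u = 2 ^ n) (hn3 : 3 ≤ n)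
    (hN : (Subgroup.zpowers u).Normal)
    (hC : ∀ g : G, g * u = u * g → g ∈ Subgroup.zpowers u)
    {m₀ : G} (hm₀ : m₀ * u ^ 2 = u ^ 2 * m₀) (hm₀U : m₀ ∉ Subgroup.zpowers u) :
    Cfsg.IsElementaryAbelian 2 (Cfsg.omegaOne 2
      (Subgroup.centralizer (Cfsg.powerClosure 2 1 (Subgroup.zpowers u) : Set G))) ∧
    Nat.card (Cfsg.omegaOne 2
      (Subgroup.centralizer (Cfsg.powerClosure 2 1 (Subgroup.zpowers u) : Set G))) = 2 ^ 2 := by
  classical
  obtain ⟨M, hM⟩ : ∃ M, M =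
    Subgroup.centralizer (Cfsg.powerClosure 2 1 (Subgroup.zpowers u) : Set G) := ⟨_, rfl⟩
  rw [← hM]
  have hMmem : ∀ g, g ∈ M ↔ g * u ^ 2 = u ^ 2 * g := by
    intro g; rw [hM]; exact mem_M_iff g
  have hn2 : 2 ≤ n := by omega
  obtain ⟨z, hz⟩ : ∃ z, z = u ^ (2 ^ (n - 1)) := ⟨_, rfl⟩
  have hzord : orderOf z = 2 := by rw [hz]; exact orderOf_z (p := 2) hu (by omega)
  have hzz : z * z = 1 := by
    rw [← pow_two, ← hzord]; exact pow_orderOf_eq_one z
  have hz1 : z ≠ 1 := by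
    intro h; rw [h, orderOf_one] at hzord; omega
  have hzU : z ∈ Subgroup.zpowers u := by
    rw [hz]; exact Subgroup.pow_mem _ (Subgroup.mem_zpowers u) _
  have hzu : z * u = u * z := comm_of_mem hzU (Subgroup.mem_zpowers u)
  have hzinv : z⁻¹ = z := inv_eq_of_mul_eq_one_left hzz
  -- z is a power of u^2
  have hz_sq : z = (u ^ 2) ^ (2 ^ (n - 2)) := by
    rw [hz, ← pow_mul]
    congr 1
    obtain ⟨k, rfl⟩ : ∃ k, n = k + 2 := ⟨n - 2, by omega⟩
    have h1 : k + 2 - 1 = k + 1 := by omega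
    rw [h1, Nat.add_sub_cancel, pow_succ, mul_comm]
  have hzM : ∀ m, m ∈ M → m * z = z * m := by
    intro m hm
    rw [hz_sq]
    exact ((show Commute m (u ^ 2) from (hMmem m).mp hm).pow_right _).eq
  -- z^(2^(n-2)) = 1
  have hzpow : z ^ (2 ^ (n - 2)) = 1 := by
    obtain ⟨k, rfl⟩ : ∃ k, n = k + 3 := ⟨n - 3, by omega⟩
    have h1 : k + 3 - 2 = k + 1 := by omega
    rw [h1, pow_succ, mul_comm, pow_mul, pow_two, hzz, one_pow]
  -- S1: conjugation by elements of M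
  have hS1 : ∀ m, m ∈ M → m ∉ Subgroup.zpowers u → m * u * m⁻¹ = z * u := by
    intro m hm hmU
    obtain ⟨t, ht, -⟩ := conj_eq_of_comm_pow (p := 2) hu hn2 hN ((hMmem m).mp hm)
    rw [← hz] at ht
    rcases pow_of_sq_one hzz t with h | h
    · exfalso
      rw [h, one_mul] at ht
      exact hmU (hC m (comm_of_conj_eq ht))
    · rw [h] at ht; exact ht
  have hS3 : ∀ m, m ∈ M → m ∉ Subgroup.zpowers u → ∀ k : ℕ, m * u ^ k * m⁻¹ = z ^ k * u ^ k := by
    intro m hm hmU k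
    rw [← conj_pow, hS1 m hm hmU, (show Commute z u from hzu).mul_pow]
  -- S5
  have hS5 : ∀ x y, x ∈ M → x ∉ Subgroup.zpowers u → x * x = 1 → y ∈ M →
      y ∉ Subgroup.zpowers u → y * y = 1 → y = x ∨ y = x * z := by
    intro x y hxM hxU hxx hyM hyU hyy
    have hxinv : x⁻¹ = x := inv_eq_of_mul_eq_one_left hxx
    obtain ⟨w, hw⟩ : ∃ w, w = x⁻¹ * y := ⟨_, rfl⟩
    have hwU : w ∈ Subgroup.zpowers u := by
      apply hC
      apply comm_of_conj_eq
      have h1 := hS1 x hxM hxU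
      have h2 := hS1 y hyM hyU
      have h3 : w * u * w⁻¹ = x⁻¹ * (y * u * y⁻¹) * x := by rw [hw]; group
      rw [h3, h2, ← h1]
      group
    have hy : y = x * w := by rw [hw]; group
    obtain ⟨k, hk⟩ := exists_nat_pow hwU
    have h4 : x * w * x⁻¹ = z ^ k * w := by rw [hk]; exact hS3 x hxM hxU k
    rw [hxinv] at h4
    have h5 : z ^ k * w * w = 1 := by
      rw [← h4]
      have h6 : x * w * x * w = (x * w) * (x * w) := by group
      rw [h6, ← hy, hyy]
    rcases pow_of_sq_one hzz k with h | h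
    · rw [h, one_mul] at h5
      have hw2 : w ^ 2 = 1 := by rw [pow_two]; exact h5
      obtain ⟨t, ht⟩ := mem_zpowers_z (p := 2) hu (by omega) hwU hw2
      rw [← hz] at ht
      rcases pow_of_sq_one hzz t with h' | h'
      · left; rw [hy, ht, h', mul_one]
      · right; rw [hy, ht, h']
    · exfalso
      rw [h] at h5
      -- w*w = z⁻¹ = z, so w^4 = 1
      have hww : w * w = z := by
        have h7 : z * (w * w) = 1 := by rw [← mul_assoc]; exact h5
        have h8 := eq_inv_of_mul_eq_one_right h7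
        rw [h8, hzinv]
      have hw4 : u ^ (k * 4) = 1 := by
        rw [pow_mul, ← hk]
        have h9 : w ^ 4 = (w * w) * (w * w) := by
          rw [show (4 : ℕ) = 2 + 2 from rfl, pow_add, pow_two]
        rw [h9, hww, hzz]
      have hd : 2 ^ n ∣ k * 4 := by
        rw [← hu]; exact orderOf_dvd_of_pow_eq_one hw4
      obtain ⟨j, rfl⟩ : ∃ j, n = j + 3 := ⟨n - 3, by omega⟩
      have hd2 : 2 ^ (j + 1) ∣ k := by
        have h10 : (2 : ℕ) ^ (j + 3) = 2 ^ (j + 1) * 4 := by ring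
        rw [h10] at hd
        exact Nat.dvd_of_mul_dvd_mul_right (by norm_num) hd
      have hk2 : 2 ∣ k := dvd_trans (dvd_pow_self 2 (by omega)) hd2
      obtain ⟨k', rfl⟩ := hk2
      rw [pow_mul, pow_two, hzz, one_pow] at h
      exact hz1 h.symm
  -- S4: an involution outside U
  have hm₀M : m₀ ∈ M := (hMmem _).mpr hm₀
  have hex : ∃ e, e ∈ M ∧ e ∉ Subgroup.zpowers u ∧ e * e = 1 := by
    have hsqU : m₀ * m₀ ∈ Subgroup.zpowers u := by
      apply hC
      apply comm_of_conj_eq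
      have h1 := hS1 m₀ hm₀M hm₀U
      have h2 : m₀ * m₀ * u * (m₀ * m₀)⁻¹ = m₀ * (m₀ * u * m₀⁻¹) * m₀⁻¹ := by group
      rw [h2, h1]
      have h3 : m₀ * (z * u) * m₀⁻¹ = (m₀ * z * m₀⁻¹) * (m₀ * u * m₀⁻¹) := by group
      rw [h3, h1, hzM m₀ hm₀M]
      have h4 : z * m₀ * m₀⁻¹ * (z * u) = (z * z) * u := by group
      rw [h4, hzz, one_mul]
    obtain ⟨j, hj⟩ := exists_nat_pow hsqU
    have hj2 : 2 ∣ j := by
      have h1 : m₀ * (m₀ * m₀) * m₀⁻¹ = m₀ * m₀ := by group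
      rw [hj, hS3 m₀ hm₀M hm₀U j] at h1
      have h2 : z ^ j = 1 := by
        have := mul_eq_right (a := z ^ j) (b := u ^ j)
        exact mul_right_cancel (b := u ^ j) (by rw [one_mul]; exact h1)
      rw [← hzord]
      exact orderOf_dvd_of_pow_eq_one h2
    obtain ⟨j', rfl⟩ := hj2
    obtain ⟨w, hw⟩ : ∃ w, w = (u ^ j')⁻¹ := ⟨_, rfl⟩
    have hwU : w ∈ Subgroup.zpowers u := by
      rw [hw]; exact Subgroup.inv_mem _ (Subgroup.pow_mem _ (Subgroup.mem_zpowers u) _)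
    have hUM : Subgroup.zpowers u ≤ M := by
      intro x hx
      rw [hMmem]
      exact comm_of_mem hx (Subgroup.pow_mem _ (Subgroup.mem_zpowers u) 2)
    obtain ⟨x₀, hx₀⟩ : ∃ x₀, x₀ = w * m₀ := ⟨_, rfl⟩
    have hx₀M : x₀ ∈ M := by rw [hx₀]; exact M.mul_mem (hUM hwU) hm₀M
    have hx₀U : x₀ ∉ Subgroup.zpowers u := by
      intro h
      apply hm₀U
      have h1 : m₀ = w⁻¹ * x₀ := by rw [hx₀]; group
      rw [h1]
      exact Subgroup.mul_mem _ (Subgroup.inv_mem _ hwU) h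
    have hx₀sq : x₀ * x₀ = z ^ j' := by
      have h1 : m₀ * w * m₀⁻¹ = z ^ j' * w := by
        rw [hw]
        have h2 : m₀ * (u ^ j')⁻¹ * m₀⁻¹ = (m₀ * u ^ j' * m₀⁻¹)⁻¹ := by group
        rw [h2, hS3 m₀ hm₀M hm₀U j', mul_inv_rev]
        have h3 : (z ^ j')⁻¹ = z ^ j' := by
          rw [← inv_pow, hzinv]
        rw [h3]
        exact comm_of_mem (Subgroup.inv_mem _ (Subgroup.pow_mem _ (Subgroup.mem_zpowers u) _))
          (Subgroup.pow_mem _ hzU _)
      have h4 : x₀ * x₀ = w * (m₀ * w * m₀⁻¹) * (m₀ * m₀) := by rw [hx₀]; group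
      rw [h4, h1, hj]
      have h5 : u ^ (2 * j') = u ^ j' * u ^ j' := by rw [two_mul, pow_add]
      rw [h5]
      have h6 : w * (z ^ j' * w) = z ^ j' * (w * w) := by
        rw [← mul_assoc, comm_of_mem hwU (Subgroup.pow_mem _ hzU j'), mul_assoc]
      rw [h6, hw]
      group
    rcases pow_of_sq_one hzz j' with h | h
    · exact ⟨x₀, hx₀M, hx₀U, by rw [hx₀sq, h]⟩
    · obtain ⟨v, hv⟩ : ∃ v, v = u ^ (2 ^ (n - 2)) := ⟨_, rfl⟩
      have hvU : v ∈ Subgroup.zpowers u := by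
        rw [hv]; exact Subgroup.pow_mem _ (Subgroup.mem_zpowers u) _
      have hvv : v * v = z := by
        rw [hv, hz, ← pow_add]
        congr 1
        obtain ⟨k, rfl⟩ : ∃ k, n = k + 2 := ⟨n - 2, by omega⟩
        have h1 : k + 2 - 1 = k + 1 := by omega
        rw [h1, Nat.add_sub_cancel, pow_succ]
        ring
      refine ⟨v * x₀, M.mul_mem (hUM hvU) hx₀M, ?_, ?_⟩
      · intro h'
        apply hx₀U
        have h1 : x₀ = v⁻¹ * (v * x₀) := by group
        rw [h1]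
        exact Subgroup.mul_mem _ (Subgroup.inv_mem _ hvU) h'
      · have h1 : x₀ * v * x₀⁻¹ = v := by
          rw [hv, hS3 x₀ hx₀M hx₀U, hzpow, one_mul]
        have h2 : v * x₀ * (v * x₀) = v * (x₀ * v * x₀⁻¹) * (x₀ * x₀) := by group
        rw [h2, h1, hvv, hx₀sq, h, hzz]
  obtain ⟨e, heM, heU, hee⟩ := hex
  have hze : z * e = e * z := (hzM e heM).symm
  have hUM : Subgroup.zpowers u ≤ M := by
    intro x hx
    rw [hMmem]
    exact comm_of_mem hx (Subgroup.pow_mem _ (Subgroup.mem_zpowers u) 2)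
  -- S6 : classification of T
  have hT : ∀ x, x ∈ M → x ^ 2 = 1 → x = 1 ∨ x = z ∨ x = e ∨ x = e * z := by
    intro x hxM hx2
    by_cases hxU : x ∈ Subgroup.zpowers u
    · obtain ⟨t, ht⟩ := mem_zpowers_z (p := 2) hu (by omega) hxU hx2
      rw [← hz] at ht
      rcases pow_of_sq_one hzz t with h | h
      · left; rw [ht, h]
      · right; left; rw [ht, h]
    · have hxx : x * x = 1 := by rw [← pow_two]; exact hx2
      rcases hS5 e x heM heU hee hxM hxU hxx with h | h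
      · right; right; left; exact h
      · right; right; right; exact h
  have hcomm_e : ∀ x, x ∈ M → x ^ 2 = 1 → x * e = e * x := by
    intro x hxM hx2
    rcases hT x hxM hx2 with rfl | rfl | rfl | rfl
    · simp
    · exact hze
    · rfl
    · rw [mul_assoc, hze, ← mul_assoc]
  have hcomm : ∀ x y, x ∈ M → x ^ 2 = 1 → y ∈ M → y ^ 2 = 1 → x * y = y * x := by
    intro x y hxM hx2 hyM hy2
    have hxe := hcomm_e x hxM hx2
    have hxz := hzM x hxM
    rcases hT y hyM hy2 with rfl | rfl | rfl | rfl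
    · simp
    · exact hxz
    · exact hxe
    · rw [← mul_assoc, hxe, mul_assoc, hxz, ← mul_assoc]
  let K₀ : Subgroup G :=
    { carrier := {x : G | x ∈ M ∧ x ^ 2 = 1}
      mul_mem' := by
        rintro a b ⟨haM, ha2⟩ ⟨hbM, hb2⟩
        refine ⟨M.mul_mem haM hbM, ?_⟩
        rw [(show Commute a b from hcomm a b haM ha2 hbM hb2).mul_pow, ha2, hb2, one_mul]
      one_mem' := ⟨M.one_mem, one_pow 2⟩
      inv_mem' := by
        rintro a ⟨haM, ha2⟩
        exact ⟨M.inv_mem haM, by rw [inv_pow, ha2, inv_one]⟩ }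
  have hK : Cfsg.omegaOne 2 M = K₀ := by
    unfold Cfsg.omegaOne
    exact Subgroup.closure_eq K₀
  have hKmem : ∀ x, x ∈ K₀ ↔ x ∈ M ∧ x ^ 2 = 1 := fun x => Iff.rfl
  rw [hK]
  refine ⟨⟨⟨⟨fun a b => ?_⟩⟩, ?_⟩, ?_⟩
  · apply Subtype.ext
    exact hcomm a b ((hKmem _).mp a.2).1 ((hKmem _).mp a.2).2 ((hKmem _).mp b.2).1
      ((hKmem _).mp b.2).2
  · intro a ha
    exact ((hKmem a).mp ha).2
  · have hiff : ∀ x, x ∈ K₀ ↔ x ∈ ({1, z, e, e * z} : Finset G) := by
      intro x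
      rw [hKmem]
      simp only [Finset.mem_insert, Finset.mem_singleton]
      constructor
      · rintro ⟨hxM, hx2⟩
        exact hT x hxM hx2
      · rintro (rfl | rfl | rfl | rfl)
        · exact ⟨M.one_mem, one_pow 2⟩
        · exact ⟨hUM hzU, by rw [pow_two]; exact hzz⟩
        · exact ⟨heM, by rw [pow_two]; exact hee⟩
        · refine ⟨M.mul_mem heM (hUM hzU), ?_⟩
          rw [(show Commute e z from hze.symm).mul_pow, pow_two, pow_two, hee, hzz, one_mul]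
    have hcard : Nat.card K₀ = ({1, z, e, e * z} : Finset G).card := by
      rw [← Nat.card_eq_finsetCard]
      exact Nat.card_congr (Equiv.subtypeEquivRight hiff)
    rw [hcard]
    have he1 : e ≠ 1 := by
      intro h; apply heU; rw [h]; exact Subgroup.one_mem _
    have hez : e ≠ z := by
      intro h; apply heU; rw [h]; exact hzU
    have hez1 : e * z ≠ 1 := by
      intro h
      apply heU
      have h1 : e = z⁻¹ := eq_inv_of_mul_eq_one_left h
      rw [h1]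
      exact Subgroup.inv_mem _ hzU
    have hezz : e * z ≠ z := by
      intro h
      apply he1
      exact mul_eq_right.mp h
    have heez : e * z ≠ e := by
      intro h
      apply hz1
      exact mul_eq_left.mp h
    have h1 : (1 : G) ∉ ({z, e, e * z} : Finset G) := by
      simp only [Finset.mem_insert, Finset.mem_singleton, not_or]
      exact ⟨fun h => hz1 h.symm, fun h => he1 h.symm, fun h => hez1 h.symm⟩
    have h2 : z ∉ ({e, e * z} : Finset G) := by
      simp only [Finset.mem_insert, Finset.mem_singleton, not_or]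
      exact ⟨fun h => hez h.symm, fun h => hezz h.symm⟩
    have h3 : e ∉ ({e * z} : Finset G) := by
      simp only [Finset.mem_singleton]
      exact fun h => heez h.symm
    rw [Finset.card_insert_of_notMem h1, Finset.card_insert_of_notMem h2,
      Finset.card_insert_of_notMem h3, Finset.card_singleton]
    norm_num

end alt2two

end Cfsg.Agent.Lib.Helper2.CycSelf
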