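import Mathlib
import Cfsg.Agent.Lib.Helper2.CycSelf2
import Cfsg.Agent.Lib.Helper1.DihedralRecognition
import Cfsg.Agent.Lib.Helper8.QQ1
import Cfsg.Prelude.Def_CaseTheorems

set_option autoImplicit false

/-! Self-centralizing cyclic normal subgroups of 2-groups: the dihedral / quaternion / semidihedral case. -/

namespace Cfsg.Agent.Lib.Helper2.CycSelf

section two

variable {G : Type*} [Group G] [Finite G] {u : G} {n : ℕ}

theorem two_pow_pred_mul (hn : 1 ≤ n) : 2 ^ (n - 1) * 2 = 2 ^ n := by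
  obtain ⟨k, rfl⟩ : ∃ k, n = k + 1 := ⟨n - 1, by omega⟩
  rw [Nat.add_sub_cancel, pow_succ]

omit [Finite G] in
theorem z_sq (hu : orderOf u = 2 ^ n) (hn : 1 ≤ n) :
    u ^ (2 ^ (n - 1)) * u ^ (2 ^ (n - 1)) = 1 := by
  rw [← pow_add, ← mul_two, two_pow_pred_mul hn, ← hu]
  exact pow_orderOf_eq_one u

theorem act_of_sq_mem (hG : IsPGroup 2 G) (hu : orderOf u = 2 ^ n) (hn2 : 2 ≤ n)
    (hN : (Subgroup.zpowers u).Normal)
    (hC : ∀ g : G, g * u = u * g → g ∈ Subgroup.zpowers u)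
    (hM : 3 ≤ n → ∀ m, m * u ^ 2 = u ^ 2 * m → m ∈ Subgroup.zpowers u)
    {g : G} (hgU : g ∉ Subgroup.zpowers u) (hg2 : g ^ 2 ∈ Subgroup.zpowers u) :
    g * u * g⁻¹ = u⁻¹ ∨ (3 ≤ n ∧ g * u * g⁻¹ = u ^ (2 ^ (n - 1)) * u⁻¹) := by
  obtain ⟨a, ha0, ha⟩ := exists_act hN g
  have h1 : a ^ 2 ≡ 1 [MOD 2 ^ n] := (mem_iff_modEq hu hC (act_pow ha 2)).mp hg2
  rw [pow_two] at h1
  have hnotone : ¬ a ≡ 1 [MOD 2 ^ n] := fun h => hgU ((mem_iff_modEq hu hC ha).mpr h)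
  rcases Nat.lt_or_ge n 3 with hn | hn
  · have hn' : n = 2 := by omega
    subst hn'
    left
    have hodd : a ≡ 1 [MOD 2] := act_modEq_one hG hu (by omega) ha
    have hodd' : a % 2 = 1 := hodd
    have h4 : ¬ a % 4 = 1 := by
      intro h
      apply hnotone
      show a % 2 ^ 2 = 1 % 2 ^ 2
      norm_num
      exact h
    have h3 : a % 4 = 3 := by omega
    have h5 : u ^ (a + 1) = 1 := by
      have h6 : 2 ^ 2 ∣ a + 1 := by
        norm_num
        omega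
      rw [← hu] at h6
      exact orderOf_dvd_iff_pow_eq_one.mp h6
    rw [ha]
    exact eq_inv_of_mul_eq_one_left (by rw [← pow_succ]; exact h5)
  · rcases two_sq_modEq h1 (by omega) with h | h
    · exfalso
      apply hgU
      apply hM hn
      apply comm_of_conj_eq
      rw [conj_pow_of_act ha 2]
      have h2 : a * 2 ≡ 1 * 2 [MOD 2 ^ (n - 1) * 2] := Nat.ModEq.mul_right' 2 h
      rw [two_pow_pred_mul (by omega), one_mul, ← hu] at h2
      exact pow_eq_pow_iff_modEq.mpr h2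
    · obtain ⟨k, hk⟩ := Nat.modEq_zero_iff_dvd.mp h
      have h2 : u ^ a * u = (u ^ (2 ^ (n - 1))) ^ k := by
        rw [← pow_succ, hk, pow_mul]
      have hzz := z_sq hu (by omega : 1 ≤ n)
      rcases pow_of_sq_one hzz k with h3 | h3
      · left
        rw [ha]
        rw [h3] at h2
        exact eq_inv_of_mul_eq_one_left h2
      · right
        refine ⟨hn, ?_⟩
        rw [ha]
        rw [h3] at h2
        exact eq_mul_inv_of_mul_eq h2

omit [Finite G] in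
theorem conj_sq_of_act (hu : orderOf u = 2 ^ n) (hn1 : 1 ≤ n) {g : G}
    (hact : g * u * g⁻¹ = u⁻¹ ∨ (3 ≤ n ∧ g * u * g⁻¹ = u ^ (2 ^ (n - 1)) * u⁻¹)) :
    g * u ^ 2 * g⁻¹ = (u ^ 2)⁻¹ := by
  rw [← conj_pow]
  rcases hact with h | ⟨_, h⟩
  · rw [h, inv_pow]
  · have hc : Commute (u ^ (2 ^ (n - 1))) u⁻¹ :=
      comm_of_mem (Subgroup.pow_mem _ (Subgroup.mem_zpowers u) _)
        (Subgroup.inv_mem _ (Subgroup.mem_zpowers u))
    rw [h, hc.mul_pow, inv_pow, ← pow_mul, two_pow_pred_mul hn1, ← hu, pow_orderOf_eq_one,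
      one_mul]

theorem sq_mem_of_two (hG : IsPGroup 2 G) (hu : orderOf u = 2 ^ n) (hn2 : 2 ≤ n)
    (hN : (Subgroup.zpowers u).Normal)
    (hC : ∀ g : G, g * u = u * g → g ∈ Subgroup.zpowers u)
    (hM : 3 ≤ n → ∀ m, m * u ^ 2 = u ^ 2 * m → m ∈ Subgroup.zpowers u)
    (h : G) : h ^ 2 ∈ Subgroup.zpowers u := by
  by_cases hU : h ∈ Subgroup.zpowers u
  · exact Subgroup.pow_mem _ hU 2
  classical
  have hex : ∃ e, h ^ (2 ^ e) ∈ Subgroup.zpowers u := by
    obtain ⟨k, hk⟩ := hG h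
    exact ⟨k, by rw [hk]; exact Subgroup.one_mem _⟩
  have hpos : Nat.find hex ≠ 0 := by
    intro h0
    have h1 := Nat.find_spec hex
    rw [h0, pow_zero, pow_one] at h1
    exact hU h1
  rcases Nat.lt_or_ge (Nat.find hex) 2 with hlt | hge
  · have h0 : Nat.find hex = 1 := by omega
    have h1 := Nat.find_spec hex
    rw [h0, pow_one] at h1
    exact h1
  · exfalso
    obtain ⟨e, he⟩ : ∃ e, Nat.find hex = e + 2 := ⟨Nat.find hex - 2, by omega⟩
    obtain ⟨h', hh'⟩ : ∃ h', h' = h ^ (2 ^ e) := ⟨_, rfl⟩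
    have h1 : (h' ^ 2) ∉ Subgroup.zpowers u := by
      rw [hh', ← pow_mul, ← pow_succ]
      exact Nat.find_min hex (by omega : e + 1 < Nat.find hex)
    have h2 : (h' ^ 2) ^ 2 ∈ Subgroup.zpowers u := by
      have h3 := Nat.find_spec hex
      rw [he] at h3
      rw [hh', ← pow_mul, ← pow_mul]
      have h4 : 2 ^ e * (2 * 2) = 2 ^ (e + 2) := by ring
      rw [h4]
      exact h3
    obtain ⟨b, hb0, hb⟩ := exists_act hN h'
    rcases Nat.lt_or_ge n 3 with hn | hn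
    · have hn' : n = 2 := by omega
      apply h1
      rw [mem_iff_modEq hu hC (act_pow hb 2)]
      have hodd : b ≡ 1 [MOD 2] := act_modEq_one hG hu (by omega) hb
      have hodd' : b % 2 = 1 := hodd
      subst hn'
      show b ^ 2 % 2 ^ 2 = 1 % 2 ^ 2
      have h5 : b % 4 = 1 ∨ b % 4 = 3 := by omega
      rw [Nat.pow_mod]
      norm_num
      rcases h5 with h | h <;> rw [h]
    · have hact := act_of_sq_mem hG hu hn2 hN hC hM h1 h2
      have hinv := conj_sq_of_act hu (by omega) hact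
      rw [conj_pow_of_act (act_pow hb 2) 2] at hinv
      have h6 : u ^ (b ^ 2 * 2 + 2) = 1 := by
        rw [pow_add, hinv, inv_mul_cancel]
      have hd : 2 ^ n ∣ b ^ 2 * 2 + 2 := by
        rw [← hu]
        exact orderOf_dvd_of_pow_eq_one h6
      have h8 : 2 ^ 3 ∣ b ^ 2 * 2 + 2 := dvd_trans (pow_dvd_pow 2 hn) hd
      have h9 : 4 ∣ b ^ 2 + 1 := by
        norm_num at h8
        omega
      exact sq_add_one_mod_four b h9

theorem mul_mem_of_two (hG : IsPGroup 2 G) (hu : orderOf u = 2 ^ n) (hn2 : 2 ≤ n)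
    (hN : (Subgroup.zpowers u).Normal)
    (hC : ∀ g : G, g * u = u * g → g ∈ Subgroup.zpowers u)
    (hM : 3 ≤ n → ∀ m, m * u ^ 2 = u ^ 2 * m → m ∈ Subgroup.zpowers u)
    {g₁ h : G} (hg₁U : g₁ ∉ Subgroup.zpowers u) (hhU : h ∉ Subgroup.zpowers u) :
    g₁ * h ∈ Subgroup.zpowers u := by
  have a1 := act_of_sq_mem hG hu hn2 hN hC hM hg₁U (sq_mem_of_two hG hu hn2 hN hC hM g₁)
  have a2 := act_of_sq_mem hG hu hn2 hN hC hM hhU (sq_mem_of_two hG hu hn2 hN hC hM h)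
  rcases Nat.lt_or_ge n 3 with hn | hn
  · have i1 : g₁ * u * g₁⁻¹ = u⁻¹ := by
      rcases a1 with h' | ⟨h', _⟩
      · exact h'
      · omega
    have i2 : h * u * h⁻¹ = u⁻¹ := by
      rcases a2 with h' | ⟨h', _⟩
      · exact h'
      · omega
    apply hC
    apply comm_of_conj_eq
    have e1 : g₁ * h * u * (g₁ * h)⁻¹ = g₁ * (h * u * h⁻¹) * g₁⁻¹ := by group
    rw [e1, i2]
    have e2 : g₁ * u⁻¹ * g₁⁻¹ = (g₁ * u * g₁⁻¹)⁻¹ := by group
    rw [e2, i1, inv_inv]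
  · apply hM hn
    apply comm_of_conj_eq
    have s1 := conj_sq_of_act hu (by omega) a1
    have s2 := conj_sq_of_act hu (by omega) a2
    generalize u ^ 2 = w at s1 s2 ⊢
    have e1 : g₁ * h * w * (g₁ * h)⁻¹ = g₁ * (h * w * h⁻¹) * g₁⁻¹ := by group
    rw [e1, s2]
    have e2 : g₁ * w⁻¹ * g₁⁻¹ = (g₁ * w * g₁⁻¹)⁻¹ := by group
    rw [e2, s1, inv_inv]

theorem two_data (hG : IsPGroup 2 G) (hu : orderOf u = 2 ^ n) (hn2 : 2 ≤ n)
    (hN : (Subgroup.zpowers u).Normal)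
    (hC : ∀ g : G, g * u = u * g → g ∈ Subgroup.zpowers u)
    (hM : 3 ≤ n → ∀ m, m * u ^ 2 = u ^ 2 * m → m ∈ Subgroup.zpowers u)
    (hne : ∃ g, g ∉ Subgroup.zpowers u) :
    ∃ g₁, g₁ ∉ Subgroup.zpowers u ∧ g₁ * g₁ ∈ Subgroup.zpowers u ∧
      (∀ h, h ∉ Subgroup.zpowers u → g₁ * h ∈ Subgroup.zpowers u) ∧
      (g₁ * u * g₁⁻¹ = u⁻¹ ∨ (3 ≤ n ∧ g₁ * u * g₁⁻¹ = u ^ (2 ^ (n - 1)) * u⁻¹)) := by
  obtain ⟨g₁, hg₁⟩ := hne
  have hsq := sq_mem_of_two hG hu hn2 hN hC hM g₁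
  exact ⟨g₁, hg₁, by rw [← pow_two]; exact hsq,
    fun h hh => mul_mem_of_two hG hu hn2 hN hC hM hg₁ hh,
    act_of_sq_mem hG hu hn2 hN hC hM hg₁ hsq⟩

theorem alt_one (hG : IsPGroup 2 G) (hna : ¬ IsMulCommutative G) (hu : orderOf u = 2 ^ n)
    (hn2 : 2 ≤ n) (hN : (Subgroup.zpowers u).Normal)
    {g₁ : G} (hg₁U : g₁ ∉ Subgroup.zpowers u) (hsq : g₁ * g₁ ∈ Subgroup.zpowers u)
    (hidx : ∀ h, h ∉ Subgroup.zpowers u → g₁ * h ∈ Subgroup.zpowers u)
    (hact : g₁ * u * g₁⁻¹ = u⁻¹ ∨ (3 ≤ n ∧ g₁ * u * g₁⁻¹ = u ^ (2 ^ (n - 1)) * u⁻¹)) :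
    Nat.card G = 2 ^ (n + 1) ∧ ((∃ m : ℕ, Nonempty (G ≃* DihedralGroup m)) ∨
      (∃ m : ℕ, Nonempty (G ≃* QuaternionGroup m)) ∨ Cfsg.IsQuasiDihedral G) := by
  have hindex : (Subgroup.zpowers u).index = 2 := by
    rw [Subgroup.index_eq_two_iff]
    refine ⟨g₁, fun b => ?_⟩
    by_cases hb : b ∈ Subgroup.zpowers u
    · refine Or.inr ⟨hb, fun h => hg₁U ?_⟩
      have e : g₁ = b⁻¹ * (b * g₁) := by group
      rw [e]
      exact Subgroup.mul_mem _ (Subgroup.inv_mem _ hb) h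
    · refine Or.inl ⟨?_, hb⟩
      have h1 := hidx b hb
      have h2 := hN.conj_mem _ h1 g₁⁻¹
      have e : g₁⁻¹ * (g₁ * b) * g₁⁻¹⁻¹ = b * g₁ := by group
      rw [e] at h2
      exact h2
  have hcard : Nat.card G = 2 ^ (n + 1) := by
    rw [← Subgroup.card_mul_index (Subgroup.zpowers u), hindex, Nat.card_zpowers, hu, pow_succ]
  refine ⟨hcard, ?_⟩
  obtain ⟨z, hz⟩ : ∃ z, z = u ^ (2 ^ (n - 1)) := ⟨_, rfl⟩
  have hzord : orderOf z = 2 := by rw [hz]; exact orderOf_z (p := 2) hu (by omega)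
  have hzz : z * z = 1 := by rw [hz]; exact z_sq hu (by omega)
  have hz1 : z ≠ 1 := by
    intro h; rw [h, orderOf_one] at hzord; omega
  have hzU : z ∈ Subgroup.zpowers u := by
    rw [hz]; exact Subgroup.pow_mem _ (Subgroup.mem_zpowers u) _
  have hzinv : z⁻¹ = z := inv_eq_of_mul_eq_one_left hzz
  rw [← hz] at hact
  -- elements of U of exponent 2
  have hexp2 : ∀ x, x ∈ Subgroup.zpowers u → x * x = 1 → x = 1 ∨ x = z := by
    intro x hxU hxx
    have hx2 : x ^ 2 = 1 := by rw [pow_two]; exact hxx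
    obtain ⟨t, ht⟩ := mem_zpowers_z (p := 2) hu (by omega) hxU hx2
    rw [← hz] at ht
    rcases pow_of_sq_one hzz t with h | h
    · left; rw [ht, h]
    · right; rw [ht, h]
  rcases hact with hD | ⟨hn3, hS⟩
  · -- g₁ inverts U
    have inv_all : ∀ x, x ∈ Subgroup.zpowers u → g₁ * x * g₁⁻¹ = x⁻¹ := by
      intro x hx
      obtain ⟨k, rfl⟩ := Subgroup.mem_zpowers_iff.mp hx
      rw [← conj_zpow, hD, inv_zpow]
    have hs : (g₁ * g₁)⁻¹ = g₁ * g₁ := by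
      have h1 := inv_all _ hsq
      have e : g₁ * (g₁ * g₁) * g₁⁻¹ = g₁ * g₁ := by group
      rw [e] at h1
      exact h1.symm
    have hss : (g₁ * g₁) * (g₁ * g₁) = 1 := mul_eq_one_iff_eq_inv.mpr hs.symm
    rcases hexp2 _ hsq hss with h1 | h1
    · left
      haveI : NeZero (2 ^ n) := ⟨by positivity⟩
      exact ⟨2 ^ n, Cfsg.Agent.Lib.Helper1.nonempty_mulEquiv_dihedralGroup (2 ^ n) u g₁ hu hg₁U h1
        hD (by rw [hcard, pow_succ, mul_comm])⟩
    · right; left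
      obtain ⟨k, hk⟩ := Cfsg.Agent.Lib.Helper8.QQ.exists_quaternion_iso hG hna ⟨z, hzord, by
        intro y hy
        have hy2 : y ^ 2 = 1 := by rw [← hy]; exact pow_orderOf_eq_one y
        have hyy : y * y = 1 := by rw [← pow_two]; exact hy2
        have hy1 : y ≠ 1 := by
          intro h; rw [h, orderOf_one] at hy; omega
        by_cases hyU : y ∈ Subgroup.zpowers u
        · rcases hexp2 y hyU hyy with h | h
          · exact absurd h hy1
          · exact h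
        · exfalso
          obtain ⟨c, hc⟩ : ∃ c, c = g₁ * y := ⟨_, rfl⟩
          have hcU : c ∈ Subgroup.zpowers u := by rw [hc]; exact hidx y hyU
          have hcinv := inv_all c hcU
          have e : y * y = (g₁ * g₁)⁻¹ * ((g₁ * c * g₁⁻¹) * c) := by rw [hc]; group
          rw [hcinv, inv_mul_cancel, mul_one, h1, hzinv] at e
          rw [hyy] at e
          exact hz1 e.symm⟩
      exact ⟨2 ^ k, hk⟩
  · -- semidihedral
    have hzu' : Commute z u⁻¹ := comm_of_mem hzU (Subgroup.inv_mem _ (Subgroup.mem_zpowers u))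
    have hzu : z * u = u * z := comm_of_mem hzU (Subgroup.mem_zpowers u)
    have conj_k : ∀ k : ℕ, g₁ * u ^ k * g₁⁻¹ = z ^ k * (u ^ k)⁻¹ := by
      intro k
      rw [← conj_pow, hS, hzu'.mul_pow, inv_pow]
    have hzpow : z ^ (2 ^ (n - 1)) = 1 := by
      obtain ⟨k, rfl⟩ : ∃ k, n = k + 2 := ⟨n - 2, by omega⟩
      have h1 : k + 2 - 1 = k + 1 := by omega
      rw [h1, pow_succ, mul_comm, pow_mul, pow_two, hzz, one_pow]
    have hzg : g₁ * z * g₁⁻¹ = z := by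
      have h1 := conj_k (2 ^ (n - 1))
      rw [← hz, hzpow, one_mul, hzinv] at h1
      exact h1
    have hs : g₁ * g₁ = 1 ∨ g₁ * g₁ = z := by
      obtain ⟨j, hj⟩ := exists_nat_pow hsq
      have h1 : g₁ * (g₁ * g₁) * g₁⁻¹ = g₁ * g₁ := by group
      rw [hj, conj_k j] at h1
      have h2 : z ^ j = u ^ j * u ^ j := mul_inv_eq_iff_eq_mul.mp h1
      rcases pow_of_sq_one hzz j with h | h
      · apply hexp2 _ hsq
        rw [hj, ← h2, h]
      · exfalso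
        rw [h] at h2
        have h4 : u ^ (j * 4) = 1 := by
          rw [pow_mul]
          have h5 : (u ^ j) ^ 4 = (u ^ j * u ^ j) * (u ^ j * u ^ j) := by
            rw [show (4 : ℕ) = 2 + 2 from rfl, pow_add, pow_two]
          rw [h5, ← h2, hzz]
        have hd : 2 ^ n ∣ j * 4 := by
          rw [← hu]; exact orderOf_dvd_of_pow_eq_one h4
        obtain ⟨i, rfl⟩ : ∃ i, n = i + 3 := ⟨n - 3, by omega⟩
        have hd2 : 2 ^ (i + 1) ∣ j := by
          have h10 : (2 : ℕ) ^ (i + 3) = 2 ^ (i + 1) * 4 := by ring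
          rw [h10] at hd
          exact Nat.dvd_of_mul_dvd_mul_right (by norm_num) hd
        have hj2 : 2 ∣ j := dvd_trans (dvd_pow_self 2 (by omega)) hd2
        obtain ⟨j', rfl⟩ := hj2
        rw [pow_mul, pow_two, hzz, one_pow] at h
        exact hz1 h.symm
    have hex : ∃ g₂, g₂ ∉ Subgroup.zpowers u ∧ g₂ * g₂ = 1 ∧ g₂ * u * g₂⁻¹ = z * u⁻¹ := by
      rcases hs with h | h
      · exact ⟨g₁, hg₁U, h, hS⟩
      · refine ⟨g₁ * u, ?_, ?_, ?_⟩
        · intro h'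
          apply hg₁U
          have e : g₁ = (g₁ * u) * u⁻¹ := by group
          rw [e]
          exact Subgroup.mul_mem _ h' (Subgroup.inv_mem _ (Subgroup.mem_zpowers u))
        · have h1 : g₁⁻¹ * u * g₁ = z * u⁻¹ := by
            have h2 : g₁ * (z * u⁻¹) * g₁⁻¹ = u := by
              have e : g₁ * (z * u⁻¹) * g₁⁻¹ = (g₁ * z * g₁⁻¹) * (g₁ * u * g₁⁻¹)⁻¹ := by group
              rw [e, hzg, hS, mul_inv_rev, inv_inv, ← mul_assoc, hzu, mul_assoc, mul_inv_cancel,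
                mul_one]
            have h3 : g₁⁻¹ * u * g₁ = g₁⁻¹ * (g₁ * (z * u⁻¹) * g₁⁻¹) * g₁ := by rw [h2]
            rw [h3]
            group
          have e : g₁ * u * (g₁ * u) = (g₁ * g₁) * (g₁⁻¹ * u * g₁) * u := by group
          rw [e, h, h1, mul_assoc, mul_assoc, inv_mul_cancel, mul_one, hzz]
        · have e : g₁ * u * u * (g₁ * u)⁻¹ = g₁ * u * g₁⁻¹ := by group
          rw [e, hS]
    obtain ⟨g₂, hg₂U, hg₂sq, hg₂act⟩ := hex
    right; right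
    have hg₂1 : g₂ ≠ 1 := by
      intro h; apply hg₂U; rw [h]; exact Subgroup.one_mem _
    refine ⟨n, hn3, hcard, u, g₂, hu, orderOf_eq_prime (by rw [pow_two]; exact hg₂sq) hg₂1, ?_⟩
    rw [hg₂act, hz]
    have h1 : u ^ (2 ^ (n - 1) - 1) * u = u ^ (2 ^ (n - 1)) := by
      rw [← pow_succ, Nat.sub_add_cancel Nat.one_le_two_pow]
    exact (eq_mul_inv_of_mul_eq h1).symm

end two

end Cfsg.Agent.Lib.Helper2.CycSelf
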