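import Mathlib

set_option autoImplicit false

/-!
# The 2-part of the order of `GL(2, q)`, `q` odd
-/

namespace Cfsg.Agent.Lib.Helper2.GLTwoArith

theorem card_GL_two {F : Type*} [Field F] [Fintype F] :
    Nat.card (GL (Fin 2) F) =
      (Fintype.card F ^ 2 - 1) * (Fintype.card F ^ 2 - Fintype.card F) := by
  rw [Matrix.card_GL_field, Fin.prod_univ_two]
  simp

theorem v2_eq_one {a : ℕ} (h : a % 4 = 2) : a.factorization 2 = 1 := by
  have ha : a ≠ 0 := by rintro rfl; omega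
  apply le_antisymm
  · by_contra hlt
    push Not at hlt
    have h2 : 2 ^ 2 ∣ a := (Nat.prime_two.pow_dvd_iff_le_factorization ha).2 hlt
    omega
  · apply (Nat.prime_two.pow_dvd_iff_le_factorization ha).1
    rw [pow_one]; omega

theorem two_le_v2 {a : ℕ} (ha : a ≠ 0) (h : a % 4 = 0) : 2 ≤ a.factorization 2 := by
  apply (Nat.prime_two.pow_dvd_iff_le_factorization ha).1
  omega

theorem v2_eq_zero {a : ℕ} (h : a % 2 = 1) : a.factorization 2 = 0 := by
  apply Nat.factorization_eq_zero_of_not_dvd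
  omega

theorem sq_sub_one (q : ℕ) (hq : 1 ≤ q) : q ^ 2 - 1 = (q - 1) * (q + 1) := by
  obtain ⟨k, rfl⟩ : ∃ k, q = k + 1 := ⟨q - 1, by omega⟩
  have : (k + 1) ^ 2 = k * (k + 1 + 1) + 1 := by ring
  rw [this]; simp

theorem sq_sub_self (q : ℕ) (hq : 1 ≤ q) : q ^ 2 - q = q * (q - 1) := by
  obtain ⟨k, rfl⟩ : ∃ k, q = k + 1 := ⟨q - 1, by omega⟩
  have : (k + 1) ^ 2 = (k + 1) * k + (k + 1) := by ring
  rw [this]; simp

theorem v2_GL_of_one (q : ℕ) (hq : q % 4 = 1) (hq1 : 1 < q) :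
    ((q ^ 2 - 1) * (q ^ 2 - q)).factorization 2 = 2 * (q - 1).factorization 2 + 1 ∧
      2 ≤ (q - 1).factorization 2 := by
  have h1 : q - 1 ≠ 0 := by omega
  have h2 : q + 1 ≠ 0 := by omega
  have h3 : q ≠ 0 := by omega
  rw [sq_sub_one q (by omega), sq_sub_self q (by omega),
    Nat.factorization_mul (mul_ne_zero h1 h2) (mul_ne_zero h3 h1),
    Nat.factorization_mul h1 h2, Nat.factorization_mul h3 h1]
  simp only [Finsupp.coe_add, Pi.add_apply]
  rw [v2_eq_one (a := q + 1) (by omega), v2_eq_zero (a := q) (by omega)]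
  exact ⟨by ring, two_le_v2 h1 (by omega)⟩

theorem v2_GL_of_three (q : ℕ) (hq : q % 4 = 3) :
    ((q ^ 2 - 1) * (q ^ 2 - q)).factorization 2 = (q + 1).factorization 2 + 2 ∧
      2 ≤ (q + 1).factorization 2 := by
  have h1 : q - 1 ≠ 0 := by omega
  have h2 : q + 1 ≠ 0 := by omega
  have h3 : q ≠ 0 := by omega
  rw [sq_sub_one q (by omega), sq_sub_self q (by omega),
    Nat.factorization_mul (mul_ne_zero h1 h2) (mul_ne_zero h3 h1),
    Nat.factorization_mul h1 h2, Nat.factorization_mul h3 h1]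
  simp only [Finsupp.coe_add, Pi.add_apply]
  rw [v2_eq_one (a := q - 1) (by omega), v2_eq_zero (a := q) (by omega)]
  exact ⟨by ring, two_le_v2 h2 (by omega)⟩

/-- `q ≡ 2^m - 1 (mod 2^(m+1))` when `2^m` exactly divides `q + 1`. -/
theorem modEq_of_v2 (q : ℕ) (m : ℕ) (hm : (q + 1).factorization 2 = m) (hm1 : 1 ≤ m) :
    q ≡ 2 ^ m - 1 [MOD 2 ^ (m + 1)] := by
  have h2 : q + 1 ≠ 0 := by omega
  have hd : 2 ^ m ∣ q + 1 := (Nat.prime_two.pow_dvd_iff_le_factorization h2).2 (by omega)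
  have hnd : ¬ 2 ^ (m + 1) ∣ q + 1 := by
    rw [Nat.prime_two.pow_dvd_iff_le_factorization h2]; omega
  obtain ⟨u, hu⟩ := hd
  have hodd : u % 2 = 1 := by
    by_contra h
    have : u % 2 = 0 := by omega
    obtain ⟨v, hv⟩ := Nat.dvd_of_mod_eq_zero this
    apply hnd
    exact ⟨v, by rw [hu, hv, pow_succ]; ring⟩
  obtain ⟨v, hv⟩ : ∃ v, u = 2 * v + 1 := ⟨u / 2, by omega⟩
  have hpos : 1 ≤ 2 ^ m := Nat.one_le_two_pow
  have hq : q = 2 ^ (m + 1) * v + (2 ^ m - 1) := by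
    have : q + 1 = 2 ^ (m + 1) * v + 2 ^ m := by rw [hu, hv, pow_succ]; ring
    omega
  rw [hq]
  unfold Nat.ModEq
  rw [Nat.mul_add_mod]

end Cfsg.Agent.Lib.Helper2.GLTwoArith
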