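import Mathlib
import Cfsg.Agent.Lib.Lead.QDCore2
import Cfsg.Agent.Lib.Lead.QDSub
import Cfsg.Agent.Lib.Helper2.FourGroup
import Cfsg.Agent.Lib.Helper2.DihedralFour
import Cfsg.Agent.Lib.Helper7.SylowAux

/-!
# Klein four-subgroups of a quasi-dihedral `2`-group
-/

set_option autoImplicit false

namespace Cfsg.Agent.Lib.Helper2.QDFour

open Cfsg Cfsg.Agent.Lib.Lead.QDArith Cfsg.Agent.Lib.Lead.QDCore Cfsg.Agent.Lib.Helper7
open Cfsg.Agent.Lib.Helper2.FourGroup Cfsg.Agent.Lib.Helper2.DihedralFour

section Arith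

variable {n : ℕ}

theorem one_sub_mm : (1 : ZMod (2 ^ n)) - mm n = 2 - hh n := by
  rw [mm_eq]; ring

theorem qq_ne_zero (hn : 2 ≤ n) : qq n ≠ 0 := by
  intro h
  have h1 := two_qq (n := n) hn
  rw [h, mul_zero] at h1
  exact hh_ne_zero (by omega) h1.symm

theorem qq_ne_hh (hn : 2 ≤ n) : qq n ≠ hh n := by
  intro h
  have h1 := two_qq (n := n) hn
  have h2 := two_hh (n := n) (by omega)
  rw [h, h2] at h1
  exact hh_ne_zero (by omega) h1.symm

theorem qq_add_hh_ne_zero (hn : 2 ≤ n) : qq n + hh n ≠ 0 := by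
  intro h
  have h2 := two_hh (n := n) (by omega)
  apply qq_ne_hh hn
  linear_combination h - h2

theorem qq_add_hh_ne_hh (hn : 2 ≤ n) : qq n + hh n ≠ hh n := by
  intro h
  apply qq_ne_zero hn
  linear_combination h

theorem two_mul_eq_hh_iff (hn : 3 ≤ n) (k : ZMod (2 ^ n)) :
    2 * k = hh n ↔ k = qq n ∨ k = qq n + hh n := by
  have h1 := two_qq (n := n) (by omega)
  have h2 := two_hh (n := n) (by omega)
  constructor
  · intro h
    have h3 : 2 * (k - qq n) = 0 := by linear_combination h - h1
    rcases (two_mul_eq_zero_iff (by omega) _).1 h3 with h4 | h4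
    · left; linear_combination h4
    · right; linear_combination h4
  · rintro (rfl | rfl)
    · exact h1
    · linear_combination h1 + h2

theorem shift_eq_zero_iff (hn : 3 ≤ n) (k : ZMod (2 ^ n)) :
    (1 - mm n) * k = 0 ↔ k = 0 ∨ k = hh n := by
  have h2 := two_hh (n := n) (by omega)
  have h3 := hh_sq (n := n) (by omega)
  rw [one_sub_mm]
  constructor
  · intro h
    rcases even_or_odd k with he | ho
    · have h4 := hh_mul_even (n := n) (by omega) he
      apply (two_mul_eq_zero_iff (by omega) k).1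
      linear_combination h + h4
    · exfalso
      have h4 := hh_mul_odd (n := n) (by omega) ho
      have h5 : 2 * k = hh n := by linear_combination h + h4
      rcases (two_mul_eq_hh_iff hn k).1 h5 with h6 | h6
      · exact not_even_and_odd (by omega) k ⟨h6 ▸ even_qq hn, ho⟩
      · refine not_even_and_odd (by omega) k ⟨?_, ho⟩
        rw [h6]
        exact (even_qq hn).add (even_hh (by omega))
  · rintro (rfl | rfl)
    · ring
    · linear_combination h2 - h3

theorem shift_eq_hh_iff (hn : 3 ≤ n) (k : ZMod (2 ^ n)) :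
    (1 - mm n) * k = hh n ↔ k = qq n ∨ k = qq n + hh n := by
  have h1 := two_qq (n := n) (by omega)
  have h2 := two_hh (n := n) (by omega)
  have h3 := hh_sq (n := n) (by omega)
  have h4 := hh_qq hn
  rw [one_sub_mm]
  constructor
  · intro h
    rcases even_or_odd k with he | ho
    · have h5 := hh_mul_even (n := n) (by omega) he
      apply (two_mul_eq_hh_iff hn k).1
      linear_combination h + h5
    · exfalso
      have h5 := hh_mul_odd (n := n) (by omega) ho
      have h6 : 2 * k = 0 := by linear_combination h + h5 + h2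
      rcases (two_mul_eq_zero_iff (by omega) k).1 h6 with h7 | h7
      · exact not_even_and_odd (by omega) k ⟨h7 ▸ (by simp), ho⟩
      · exact not_even_and_odd (by omega) k ⟨h7 ▸ even_hh (by omega), ho⟩
  · rintro (rfl | rfl)
    · linear_combination h1 - h4
    · linear_combination h1 + h2 - h4 - h3

end Arith

section General

variable {X : Type*} [Group X]

/-- Two Klein four-subgroups sharing two distinct involutions are equal. -/
theorem eq_of_two_mem (U V : Subgroup X) [IsKleinFour U] [IsKleinFour V] {a b : X}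
    (ha1 : a ≠ 1) (hb1 : b ≠ 1) (hab : a ≠ b) (haU : a ∈ U) (hbU : b ∈ U) (haV : a ∈ V)
    (hbV : b ∈ V) : U = V := by
  ext g
  constructor
  · intro hg
    rcases mem_cases U haU hbU ha1 hb1 hab hg with rfl | rfl | rfl | rfl
    · exact V.one_mem
    · exact haV
    · exact hbV
    · exact V.mul_mem haV hbV
  · intro hg
    rcases mem_cases V haV hbV ha1 hb1 hab hg with rfl | rfl | rfl | rfl
    · exact U.one_mem
    · exact haU
    · exact hbU
    · exact U.mul_mem haU hbU

end General

section QDsec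

variable {S : Type*} [Group S] [Finite S] {n : ℕ} {x y : S} (hq : QD S n x y)

include hq in
/-- Every Klein four-subgroup contains the central involution and an involution `s i`. -/
theorem four_struct (T : Subgroup S) [IsKleinFour T] :
    r n x (hh n) ∈ T ∧ ∃ i, Even i ∧ s n x y i ∈ T := by
  obtain ⟨a, haT, ha1, -⟩ := exists_third T T.one_mem
  obtain ⟨b, hbT, hb1, hba⟩ := exists_third T haT
  have hao := orderOf_of_mem T haT ha1
  have hbo := orderOf_of_mem T hbT hb1
  rcases hq.involution_cases hao with rfl | ⟨i, hi, rfl⟩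
  · rcases hq.involution_cases hbo with rfl | ⟨j, hj, rfl⟩
    · exact absurd rfl hba
    · exact ⟨haT, j, hj, hbT⟩
  · rcases hq.involution_cases hbo with rfl | ⟨j, hj, rfl⟩
    · exact ⟨hbT, i, hi, haT⟩
    · refine ⟨?_, i, hi, haT⟩
      have hprod : s n x y i * s n x y j ∈ T := T.mul_mem haT hbT
      have hne : s n x y i * s n x y j ≠ 1 := by
        intro h
        apply hba
        have h1 : (s n x y i)⁻¹ = s n x y j := inv_eq_of_mul_eq_one_right h
        rw [inv_eq_of_mem T haT] at h1
        exact h1.symm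
      have ho := orderOf_of_mem T hprod hne
      rw [hq.s_mul_s] at ho hprod
      rcases hq.involution_cases ho with h | ⟨k, -, h⟩
      · rw [← h]; exact hprod
      · exact absurd h.symm (hq.s_ne_r _ _)


include hq in
theorem rh_mul_s (i : ZMod (2 ^ n)) : r n x (hh n) * s n x y i = s n x y (i + hh n) := by
  rw [hq.r_mul_s, add_comm]

include hq in
theorem s_mul_rh (i : ZMod (2 ^ n)) : s n x y i * r n x (hh n) = s n x y (i + hh n) := by
  rw [hq.s_mul_r, hq.mm_hh]

include hq in
theorem rh_conj (g : S) : g * r n x (hh n) * g⁻¹ = r n x (hh n) := by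
  have := Subgroup.mem_center_iff.mp hq.rh_mem_center g
  rw [this, mul_inv_cancel_right]

/-- the standard four-subgroup `{1, z, s i, z s i}` -/
def fourT (i : ZMod (2 ^ n)) (hi : Even i) : Subgroup S :=
  fourSub (r n x (hh n)) (s n x y i) hq.rh_sq (hq.s_sq_even hi)
    (by rw [rh_mul_s hq, s_mul_rh hq])

theorem isKleinFour_fourT (i : ZMod (2 ^ n)) (hi : Even i) : IsKleinFour ↥(fourT hq i hi) :=
  isKleinFour_fourSub hq.rh_ne_one (hq.s_ne_one i) (fun h => hq.s_ne_r i _ h.symm)

theorem rh_mem_fourT (i : ZMod (2 ^ n)) (hi : Even i) : r n x (hh n) ∈ fourT hq i hi :=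
  left_mem_fourSub

theorem s_mem_fourT (i : ZMod (2 ^ n)) (hi : Even i) : s n x y i ∈ fourT hq i hi :=
  right_mem_fourSub

theorem eq_fourT (T : Subgroup S) [IsKleinFour T] : ∃ i hi, T = fourT hq i hi := by
  obtain ⟨hz, i, hi, hsi⟩ := four_struct hq T
  refine ⟨i, hi, ?_⟩
  haveI := isKleinFour_fourT hq i hi
  exact eq_of_two_mem T (fourT hq i hi) hq.rh_ne_one (hq.s_ne_one i)
    (fun h => hq.s_ne_r i _ h.symm) hz hsi (rh_mem_fourT hq i hi) (s_mem_fourT hq i hi)

theorem r_mem_fourT_iff (i : ZMod (2 ^ n)) (hi : Even i) (k : ZMod (2 ^ n)) :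
    r n x k ∈ fourT hq i hi ↔ k = 0 ∨ k = hh n := by
  unfold fourT
  rw [mem_fourSub, rh_mul_s hq]
  constructor
  · rintro (h | h | h | h)
    · exact Or.inl (hq.r_eq_one_iff.mp h)
    · exact Or.inr (hq.r_inj h)
    · exact absurd h.symm (hq.s_ne_r _ _)
    · exact absurd h.symm (hq.s_ne_r _ _)
  · rintro (rfl | rfl)
    · exact Or.inl hq.r_zero
    · exact Or.inr (Or.inl rfl)

theorem s_mem_fourT_iff (i : ZMod (2 ^ n)) (hi : Even i) (k : ZMod (2 ^ n)) :
    s n x y k ∈ fourT hq i hi ↔ k - i = 0 ∨ k - i = hh n := by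
  unfold fourT
  rw [mem_fourSub, rh_mul_s hq]
  constructor
  · rintro (h | h | h | h)
    · exact absurd h (hq.s_ne_one _)
    · exact absurd h (hq.s_ne_r _ _)
    · left; rw [hq.s_inj h]; ring
    · right; rw [hq.s_inj h]; ring
  · rintro (h | h)
    · right; right; left; congr 1; linear_combination h
    · right; right; right; congr 1; linear_combination h

theorem mem_normalizer_fourT_iff (i : ZMod (2 ^ n)) (hi : Even i) (g : S) :
    g ∈ Subgroup.normalizer ((fourT hq i hi : Subgroup S) : Set S) ↔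
      g * s n x y i * g⁻¹ ∈ fourT hq i hi := by
  constructor
  · intro hg
    exact (Subgroup.mem_normalizer_iff.mp hg _).mp (s_mem_fourT hq i hi)
  · intro h
    apply mem_normalizer_of_map_conj_le
    rintro _ ⟨t, ht, rfl⟩
    show g * t * g⁻¹ ∈ fourT hq i hi
    rcases (mem_fourSub.mp ht) with rfl | rfl | rfl | rfl
    · simp
    · rw [rh_conj hq]; exact rh_mem_fourT hq i hi
    · exact h
    · have : g * (r n x (hh n) * s n x y i) * g⁻¹
          = (g * r n x (hh n) * g⁻¹) * (g * s n x y i * g⁻¹) := by group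
      rw [this, rh_conj hq]
      exact Subgroup.mul_mem _ (rh_mem_fourT hq i hi) h

theorem mem_centralizer_fourT_iff (i : ZMod (2 ^ n)) (hi : Even i) (g : S) :
    g ∈ Subgroup.centralizer ((fourT hq i hi : Subgroup S) : Set S) ↔
      g * s n x y i * g⁻¹ = s n x y i := by
  rw [Subgroup.mem_centralizer_iff]
  constructor
  · intro h
    have := h _ (s_mem_fourT hq i hi)
    rw [← this]; group
  · intro h t ht
    have e2 : s n x y i * g = g * s n x y i := by
      calc s n x y i * g = (g * s n x y i * g⁻¹) * g := by rw [h]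
        _ = g * s n x y i := by group
    have e1 : r n x (hh n) * g = g * r n x (hh n) :=
      (Subgroup.mem_center_iff.mp hq.rh_mem_center g).symm
    rcases (mem_fourSub.mp ht) with rfl | rfl | rfl | rfl
    · simp
    · exact e1
    · exact e2
    · rw [mul_assoc, e2, ← mul_assoc, e1, mul_assoc]

include hq in
theorem s_conj_s' (k i : ZMod (2 ^ n)) :
    s n x y k * s n x y i * (s n x y k)⁻¹ = s n x y (i + (1 - mm n) * (k - i)) := by
  rw [hq.s_conj_s]; congr 1; ring

/-- `C_S(T) = T` for the standard four-subgroups. -/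
theorem centralizer_fourT (i : ZMod (2 ^ n)) (hi : Even i) :
    Subgroup.centralizer ((fourT hq i hi : Subgroup S) : Set S) = fourT hq i hi := by
  apply le_antisymm
  · intro g hg
    rw [mem_centralizer_fourT_iff] at hg
    rcases hq.exists_rep g with ⟨k, rfl⟩ | ⟨k, rfl⟩
    · rw [hq.r_conj_s] at hg
      have h1 : (1 - mm n) * k = 0 := by
        have := hq.s_inj hg
        linear_combination this
      rw [r_mem_fourT_iff]
      exact (shift_eq_zero_iff hq.hn k).1 h1
    · rw [s_conj_s' hq] at hg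
      have h1 : (1 - mm n) * (k - i) = 0 := by
        have := hq.s_inj hg
        linear_combination this
      rw [s_mem_fourT_iff]
      exact (shift_eq_zero_iff hq.hn _).1 h1
  · intro g hg
    rw [Subgroup.mem_centralizer_iff]
    intro t ht
    haveI := isKleinFour_fourT hq i hi
    exact comm_of_mem (fourT hq i hi) ht hg

theorem r_mem_normalizer_fourT_iff (i : ZMod (2 ^ n)) (hi : Even i) (k : ZMod (2 ^ n)) :
    r n x k ∈ Subgroup.normalizer ((fourT hq i hi : Subgroup S) : Set S) ↔
      (k = 0 ∨ k = hh n) ∨ (k = qq n ∨ k = qq n + hh n) := by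
  rw [mem_normalizer_fourT_iff, hq.r_conj_s, s_mem_fourT_iff]
  have e : i + (1 - mm n) * k - i = (1 - mm n) * k := by ring
  rw [e, shift_eq_zero_iff hq.hn, shift_eq_hh_iff hq.hn]

theorem s_mem_normalizer_fourT_iff (i : ZMod (2 ^ n)) (hi : Even i) (k : ZMod (2 ^ n)) :
    s n x y k ∈ Subgroup.normalizer ((fourT hq i hi : Subgroup S) : Set S) ↔
      (k - i = 0 ∨ k - i = hh n) ∨ (k - i = qq n ∨ k - i = qq n + hh n) := by
  rw [mem_normalizer_fourT_iff, s_conj_s' hq, s_mem_fourT_iff]
  have e : i + (1 - mm n) * (k - i) - i = (1 - mm n) * (k - i) := by ring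
  rw [e, shift_eq_zero_iff hq.hn, shift_eq_hh_iff hq.hn]

include hq in
theorem J0_not_J1 {k : ZMod (2 ^ n)} (h0 : k = 0 ∨ k = hh n)
    (h1 : k = qq n ∨ k = qq n + hh n) : False := by
  have hn2 : 2 ≤ n := hq.n2
  rcases h0 with rfl | rfl <;> rcases h1 with h | h
  · exact qq_ne_zero hn2 h.symm
  · exact qq_add_hh_ne_zero hn2 h.symm
  · exact qq_ne_hh hn2 h.symm
  · exact qq_add_hh_ne_hh hn2 h.symm

/-- `|N_S(T) : T| = 2` for the standard four-subgroups. -/
theorem relIndex_normalizer_fourT (i : ZMod (2 ^ n)) (hi : Even i) :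
    (fourT hq i hi).relIndex (Subgroup.normalizer ((fourT hq i hi : Subgroup S) : Set S)) = 2 := by
  have h1 := two_qq (n := n) hq.n2
  have h2 := two_hh (n := n) hq.n1
  have haN : r n x (qq n) ∈ Subgroup.normalizer ((fourT hq i hi : Subgroup S) : Set S) := by
    rw [r_mem_normalizer_fourT_iff]; exact Or.inr (Or.inl rfl)
  unfold Subgroup.relIndex
  rw [Subgroup.index_eq_two_iff]
  refine ⟨⟨r n x (qq n), haN⟩, fun b => ?_⟩
  obtain ⟨b, hb⟩ := b
  simp only [Subgroup.mem_subgroupOf, Subgroup.coe_mul]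
  rcases hq.exists_rep b with ⟨k, rfl⟩ | ⟨k, rfl⟩
  · rw [r_mem_normalizer_fourT_iff] at hb
    rw [← hq.r_add, r_mem_fourT_iff, r_mem_fourT_iff]
    rcases hb with h0 | hJ
    · right
      refine ⟨h0, fun h => J0_not_J1 hq h ?_⟩
      rcases h0 with rfl | rfl
      · left; ring
      · right; ring
    · left
      refine ⟨?_, fun h => J0_not_J1 hq h hJ⟩
      rcases hJ with rfl | rfl
      · right; linear_combination h1
      · left; linear_combination h1 + h2
  · rw [s_mem_normalizer_fourT_iff] at hb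
    rw [hq.s_mul_r, hq.mm_qq, s_mem_fourT_iff, s_mem_fourT_iff]
    rcases hb with h0 | hJ
    · right
      refine ⟨h0, fun h => J0_not_J1 hq h ?_⟩
      rcases h0 with h0 | h0
      · right; linear_combination h0
      · left; linear_combination h0 + h2
    · left
      refine ⟨?_, fun h => J0_not_J1 hq h hJ⟩
      rcases hJ with hJ | hJ
      · left; linear_combination hJ + h1 + h2
      · right; linear_combination hJ + h1 + h2

include hq in
/-- Any two Klein four-subgroups of a quasi-dihedral group are conjugate. -/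
theorem four_conj (T₁ T₂ : Subgroup S) [IsKleinFour T₁] [IsKleinFour T₂] :
    ∃ g : S, T₁.map (MulAut.conj g).toMonoidHom = T₂ := by
  obtain ⟨hz1, i, hi, hsi⟩ := four_struct hq T₁
  obtain ⟨hz2, j, hj, hsj⟩ := four_struct hq T₂
  have hd : Even (j - i) := by
    obtain ⟨a, rfl⟩ := hi
    obtain ⟨b, rfl⟩ := hj
    exact ⟨b - a, by ring⟩
  obtain ⟨k, hk⟩ := exists_shift hq.hn hd
  refine ⟨r n x k, ?_⟩
  haveI : IsKleinFour ↥(T₁.map (MulAut.conj (r n x k)).toMonoidHom) :=
    isKleinFour_map _ (MulAut.conj (r n x k)).injective T₁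
  apply eq_of_two_mem _ T₂ hq.rh_ne_one (hq.s_ne_one j) (fun h => hq.s_ne_r j _ h.symm) _ _ hz2 hsj
  · refine ⟨r n x (hh n), hz1, ?_⟩
    show r n x k * r n x (hh n) * (r n x k)⁻¹ = _
    rw [rh_conj hq]
  · refine ⟨s n x y i, hsi, ?_⟩
    show r n x k * s n x y i * (r n x k)⁻¹ = _
    rw [hq.r_conj_s, hk]
    congr 1; ring

end QDsec

end Cfsg.Agent.Lib.Helper2.QDFour
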