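import Mathlib
import Cfsg.Agent.Lib.Helper2.QDFour

/-!
# Quaternion subgroups of order 8 of a quasi-dihedral `2`-group
-/

set_option autoImplicit false

namespace Cfsg.Agent.Lib.Helper2.QDQuat

open Cfsg Cfsg.Agent.Lib.Lead.QDArith Cfsg.Agent.Lib.Lead.QDCore Cfsg.Agent.Lib.Helper7
open Cfsg.Agent.Lib.Helper2.QDFour

section Arith

variable {n : ℕ}

/-- `e = 2^(n-3)` in `ZMod (2^n)` -/
def ee (n : ℕ) : ZMod (2 ^ n) := ((2 ^ (n - 3) : ℕ) : ZMod (2 ^ n))

theorem two_ee (hn : 3 ≤ n) : 2 * ee n = qq n := by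
  unfold ee qq
  have : (2 ^ (n - 2) : ℕ) = 2 * 2 ^ (n - 3) := by
    have : n - 2 = (n - 3) + 1 := by omega
    rw [this, pow_succ]; ring
  rw [this]; push_cast; ring

theorem four_ee (hn : 3 ≤ n) : 4 * ee n = hh n := by
  have h1 := two_ee hn
  have h2 := two_qq (n := n) (by omega)
  linear_combination 2 * h1 + h2

theorem four_hh (hn : 1 ≤ n) : 4 * hh n = 0 := by
  have h2 := two_hh (n := n) hn
  linear_combination 2 * h2

theorem four_qq (hn : 2 ≤ n) : 4 * qq n = 0 := by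
  have h1 := two_qq (n := n) hn
  have h2 := two_hh (n := n) (by omega)
  linear_combination 2 * h1 + h2

theorem four_one_sub_mm (hn : 1 ≤ n) : 4 * (1 - mm n) = 8 := by
  have h2 := two_hh (n := n) hn
  rw [one_sub_mm]
  linear_combination -2 * h2

theorem four_mm (hn : 1 ≤ n) (j : ZMod (2 ^ n)) : 4 * (mm n * j) = 0 ↔ 4 * j = 0 := by
  have h2 := two_hh (n := n) hn
  rw [mm_eq]
  constructor
  · intro h; linear_combination -h + 2 * j * h2
  · intro h; linear_combination -h + 2 * j * h2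

theorem four_mul_eq_zero_iff (hn : 3 ≤ n) (j : ZMod (2 ^ n)) :
    4 * j = 0 ↔ (j = 0 ∨ j = hh n) ∨ (j = qq n ∨ j = qq n + hh n) := by
  have e : 4 * j = 2 * (2 * j) := by ring
  rw [e, two_mul_eq_zero_iff (by omega), two_mul_eq_zero_iff (by omega), two_mul_eq_hh_iff hn]

/-- if `8 c = 0` then `4 c ∈ {0, hh}` -/
theorem four_mul_of_eight (hn : 1 ≤ n) {c : ZMod (2 ^ n)} (h : 8 * c = 0) :
    4 * c = 0 ∨ 4 * c = hh n := by
  apply (two_mul_eq_zero_iff hn _).1
  linear_combination h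

end Arith

section QDsec

variable {S : Type*} [Group S] [Finite S] {n : ℕ} {x y : S} (hq : QD S n x y)

include hq in
theorem r_pow_four (j : ZMod (2 ^ n)) : r n x j ^ 4 = r n x (4 * j) := by
  have : r n x j ^ 4 = (r n x j * r n x j) * (r n x j * r n x j) := by
    rw [show (4 : ℕ) = 2 + 2 from rfl, pow_add, pow_two]
  rw [this, hq.r_sq, hq.r_sq]
  congr 1; ring

include hq in
/-- Structure of a subgroup of order 8 with a unique involution which is not commutative. -/
theorem quat_struct (Q : Subgroup S) (hcard : Nat.card Q = 8)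
    (hinv : ∃ z₀ : S, ∀ g ∈ Q, orderOf g = 2 → g = z₀)
    (hnc : ∃ a ∈ Q, ∃ b ∈ Q, a * b ≠ b * a) :
    ∃ k, Odd k ∧ (∀ j, r n x j ∈ Q ↔ 4 * j = 0) ∧ (∀ l, s n x y l ∈ Q ↔ 4 * (l - k) = 0) := by
  have hn := hq.hn
  set C₀ : Subgroup S := Q ⊓ Subgroup.zpowers x with hC₀
  -- `Q` is not contained in `⟨x⟩`
  have hnot : ¬ Q ≤ Subgroup.zpowers x := by
    intro hle
    obtain ⟨a, ha, b, hb, hab⟩ := hnc
    obtain ⟨i, rfl⟩ := hq.exists_r_of_mem (hle ha)
    obtain ⟨j, rfl⟩ := hq.exists_r_of_mem (hle hb)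
    apply hab
    rw [← hq.r_add, ← hq.r_add, add_comm]
  -- the index of `C₀` in `Q`
  have h2 : C₀.relIndex Q ≤ 2 := by
    rw [hC₀, inf_comm, Subgroup.inf_relIndex_right]
    have h := Subgroup.relIndex_le_of_le_right (H := Subgroup.zpowers x) (le_top : Q ≤ ⊤)
      (by rw [Subgroup.relIndex_top_right, hq.index_zpowers]; norm_num)
    rwa [Subgroup.relIndex_top_right, hq.index_zpowers] at h
  have h3 := Subgroup.relIndex_mul_relIndex ⊥ C₀ Q bot_le inf_le_left
  rw [Subgroup.relIndex_bot_left, Subgroup.relIndex_bot_left, hcard] at h3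
  have h1 : C₀.relIndex Q ≠ 1 := by
    intro h
    rw [Subgroup.relIndex_eq_one] at h
    exact hnot (h.trans inf_le_right)
  have hpos : C₀.relIndex Q ≠ 0 := by
    intro h; rw [h, mul_zero] at h3; omega
  have hrel : C₀.relIndex Q = 2 := by omega
  have hcardC : Nat.card C₀ = 4 := by rw [hrel] at h3; omega
  -- (3)
  have hfour : ∀ j, r n x j ∈ Q → 4 * j = 0 := by
    intro j hj
    have hjC : r n x j ∈ C₀ := Subgroup.mem_inf.mpr ⟨hj, hq.r_mem j⟩
    have h4 : (⟨r n x j, hjC⟩ : C₀) ^ Nat.card C₀ = 1 := pow_card_eq_one'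
    rw [hcardC] at h4
    have h5 := congrArg Subtype.val h4
    rw [Subgroup.coe_pow, Subgroup.coe_one] at h5
    change r n x j ^ 4 = 1 at h5
    rw [r_pow_four hq, hq.r_eq_one_iff] at h5
    exact h5
  -- (4)
  have hrq : r n x (qq n) ∈ Q := by
    haveI : IsCyclic ↥C₀ := Subgroup.isCyclic_of_le (inf_le_right : C₀ ≤ Subgroup.zpowers x)
    obtain ⟨g₀, hg₀⟩ := IsCyclic.exists_generator (α := ↥C₀)
    have ho : orderOf g₀ = 4 := by
      rw [orderOf_eq_card_of_forall_mem_zpowers hg₀, hcardC]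
    rw [← Subgroup.orderOf_coe] at ho
    have hgQ : (g₀ : S) ∈ Q := (Subgroup.mem_inf.mp g₀.2).1
    have hgx : (g₀ : S) ∈ Subgroup.zpowers x := (Subgroup.mem_inf.mp g₀.2).2
    rcases hq.order4_cases ho with h | h | ⟨i, -, h⟩
    · rw [← h]; exact hgQ
    · have h5 : r n x (qq n) = (r n x (qq n + hh n)) ^ 3 := by
        have h6 : (r n x (qq n + hh n)) ^ 3
            = r n x (qq n + hh n) * r n x (qq n + hh n) * r n x (qq n + hh n) := by
          rw [pow_succ, pow_two]
        rw [h6, ← hq.r_add, ← hq.r_add]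
        congr 1
        have e1 := two_qq (n := n) (by omega)
        have e2 := two_hh (n := n) (by omega)
        linear_combination -e1 - 2 * e2
      rw [h5, ← h]
      exact Q.pow_mem hgQ 3
    · exfalso
      rw [h] at hgx
      exact hq.s_not_mem i hgx
  -- (5)
  have hrh : r n x (hh n) ∈ Q := by
    have : r n x (hh n) = r n x (qq n) * r n x (qq n) := by
      rw [hq.r_sq, two_qq (by omega)]
    rw [this]; exact Q.mul_mem hrq hrq
  have hfour' : ∀ j, 4 * j = 0 → r n x j ∈ Q := by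
    intro j hj
    rcases (four_mul_eq_zero_iff hn j).1 hj with (rfl | rfl) | (rfl | rfl)
    · rw [hq.r_zero]; exact Q.one_mem
    · exact hrh
    · exact hrq
    · rw [hq.r_add]; exact Q.mul_mem hrq hrh
  -- (6)
  obtain ⟨k, hk⟩ : ∃ k, s n x y k ∈ Q := by
    by_contra hcon
    push Not at hcon
    apply hnot
    intro g hg
    rcases hq.exists_rep g with ⟨i, rfl⟩ | ⟨i, rfl⟩
    · exact hq.r_mem i
    · exact absurd hg (hcon i)
  have hkodd : Odd k := by
    rcases even_or_odd k with he | ho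
    · exfalso
      obtain ⟨z₀, hz₀⟩ := hinv
      have e1 := hz₀ _ hk (hq.orderOf_s_even he)
      have e2 := hz₀ _ hrh hq.orderOf_rh
      exact hq.s_ne_r k (hh n) (e1.trans e2.symm)
    · exact ho
  refine ⟨k, hkodd, fun j => ⟨hfour j, hfour' j⟩, fun l => ?_⟩
  have hmm := mm_sq (n := n) (by omega)
  constructor
  · intro hl
    have h5 : (s n x y k)⁻¹ * s n x y l ∈ Q := Q.mul_mem (Q.inv_mem hk) hl
    rw [hq.s_inv, hq.s_mul_s] at h5
    have h6 := hfour _ h5
    have e : -(mm n * k) + mm n * l = mm n * (l - k) := by ring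
    rw [e] at h6
    exact (four_mm (by omega) _).1 h6
  · intro hl
    have h5 : r n x (mm n * (l - k)) ∈ Q := hfour' _ ((four_mm (by omega) _).2 hl)
    have h6 : s n x y l = s n x y k * r n x (mm n * (l - k)) := by
      rw [hq.s_mul_r]
      congr 1
      linear_combination (k - l) * hmm
    rw [h6]
    exact Q.mul_mem hk h5


section Coord

variable (Q : Subgroup S) (k : ZMod (2 ^ n)) (hk : Odd k)
  (hr : ∀ j, r n x j ∈ Q ↔ 4 * j = 0) (hs : ∀ l, s n x y l ∈ Q ↔ 4 * (l - k) = 0)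

include hq hr hs in
theorem r_mem_normalizer_iff (c : ZMod (2 ^ n)) :
    r n x c ∈ Subgroup.normalizer (Q : Set S) ↔ 8 * c = 0 := by
  have h4 := four_one_sub_mm (n := n) hq.n1
  constructor
  · intro hc
    have h1 : r n x c * s n x y k * (r n x c)⁻¹ ∈ Q :=
      (Subgroup.mem_normalizer_iff.mp hc _).mp ((hs k).2 (by ring))
    rw [hq.r_conj_s, hs] at h1
    linear_combination h1 - c * h4
  · intro hc
    apply mem_normalizer_of_map_conj_le
    rintro _ ⟨t, ht, rfl⟩
    show r n x c * t * (r n x c)⁻¹ ∈ Q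
    rcases hq.exists_rep t with ⟨j, rfl⟩ | ⟨l, rfl⟩
    · rw [hq.r_conj_r]; exact ht
    · rw [hq.r_conj_s, hs]
      have h1 := (hs l).1 ht
      linear_combination h1 + hc + c * h4

include hq hr hs in
theorem s_mem_normalizer_iff (c : ZMod (2 ^ n)) :
    s n x y c ∈ Subgroup.normalizer (Q : Set S) ↔ 8 * (c - k) = 0 := by
  have h4 := four_one_sub_mm (n := n) hq.n1
  constructor
  · intro hc
    have h1 : s n x y c * s n x y k * (s n x y c)⁻¹ ∈ Q :=
      (Subgroup.mem_normalizer_iff.mp hc _).mp ((hs k).2 (by ring))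
    rw [s_conj_s' hq, hs] at h1
    linear_combination h1 - (c - k) * h4
  · intro hc
    apply mem_normalizer_of_map_conj_le
    rintro _ ⟨t, ht, rfl⟩
    show s n x y c * t * (s n x y c)⁻¹ ∈ Q
    rcases hq.exists_rep t with ⟨j, rfl⟩ | ⟨l, rfl⟩
    · rw [hq.s_conj_r, hr]
      exact (four_mm hq.n1 j).2 ((hr j).1 ht)
    · rw [hq.s_conj_s, hs]
      have h1 := (four_mm hq.n1 _).2 ((hs l).1 ht)
      linear_combination h1 + hc + (c - k) * h4

include hq hr hs in
/-- `|N_S(Q) : Q| = 2`. -/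
theorem quat_relIndex : Q.relIndex (Subgroup.normalizer (Q : Set S)) = 2 := by
  have hn := hq.hn
  have h4e := four_ee (n := n) hn
  have h2h := two_hh (n := n) hq.n1
  have hh0 := hh_ne_zero (n := n) hq.n1
  have haN : r n x (ee n) ∈ Subgroup.normalizer (Q : Set S) := by
    rw [r_mem_normalizer_iff hq Q k hr hs]
    linear_combination 2 * h4e + h2h
  unfold Subgroup.relIndex
  rw [Subgroup.index_eq_two_iff]
  refine ⟨⟨r n x (ee n), haN⟩, fun b => ?_⟩
  obtain ⟨b, hb⟩ := b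
  simp only [Subgroup.mem_subgroupOf, Subgroup.coe_mul]
  rcases hq.exists_rep b with ⟨c, rfl⟩ | ⟨c, rfl⟩
  · rw [r_mem_normalizer_iff hq Q k hr hs] at hb
    rw [← hq.r_add, hr, hr]
    rcases four_mul_of_eight hq.n1 hb with h | h
    · right
      refine ⟨h, fun h' => hh0 ?_⟩
      linear_combination h' - h - h4e
    · left
      refine ⟨?_, fun h' => hh0 (h.symm.trans h')⟩
      linear_combination h + h4e + h2h
  · rw [s_mem_normalizer_iff hq Q k hr hs] at hb
    have hmm : 4 * (mm n * ee n) = hh n := by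
      have := hq.mm_hh
      linear_combination mm n * h4e + this
    rw [hq.s_mul_r, hs, hs]
    rcases four_mul_of_eight hq.n1 hb with h | h
    · right
      refine ⟨h, fun h' => hh0 ?_⟩
      linear_combination h' - h - hmm
    · left
      refine ⟨?_, fun h' => hh0 (h.symm.trans h')⟩
      linear_combination h + hmm + h2h

include hq hk hr hs in
/-- elements of `C_S(Q)` -/
theorem quat_centralizer_cases {g : S} (hg : g ∈ Subgroup.centralizer (Q : Set S)) :
    g = 1 ∨ g = r n x (hh n) := by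
  have hn := hq.hn
  have hsk : s n x y k ∈ Q := (hs k).2 (by ring)
  have hrq : r n x (qq n) ∈ Q := (hr _).2 (four_qq hq.n2)
  have c1 : g * s n x y k * g⁻¹ = s n x y k := by
    have := Subgroup.mem_centralizer_iff.mp hg _ hsk
    rw [← this]; group
  have c2 : g * r n x (qq n) * g⁻¹ = r n x (qq n) := by
    have := Subgroup.mem_centralizer_iff.mp hg _ hrq
    rw [← this]; group
  rcases hq.exists_rep g with ⟨c, rfl⟩ | ⟨c, rfl⟩
  · rw [hq.r_conj_s] at c1
    have h1 : (1 - mm n) * c = 0 := by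
      have := hq.s_inj c1
      linear_combination this
    rcases (shift_eq_zero_iff hn c).1 h1 with rfl | rfl
    · left; exact hq.r_zero
    · right; rfl
  · exfalso
    rw [hq.s_conj_r, hq.mm_qq] at c2
    have h1 := hq.r_inj c2
    apply hh_ne_zero (n := n) hq.n1
    linear_combination h1

include hq hk hr hs in
/-- `C_S(Q) = Z(Q)`. -/
theorem quat_centralizer :
    Subgroup.centralizer (Q : Set S) = (Subgroup.center Q).map Q.subtype := by
  ext g
  constructor
  · intro hg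
    have hgQ : g ∈ Q := by
      rcases quat_centralizer_cases hq Q k hk hr hs hg with rfl | rfl
      · exact Q.one_mem
      · exact (hr _).2 (four_hh hq.n1)
    refine ⟨⟨g, hgQ⟩, ?_, rfl⟩
    rw [SetLike.mem_coe, Subgroup.mem_center_iff]
    intro t
    apply Subtype.ext
    exact Subgroup.mem_centralizer_iff.mp hg t t.2
  · rintro ⟨q, hq', rfl⟩
    rw [SetLike.mem_coe, Subgroup.mem_center_iff] at hq'
    rw [Subgroup.mem_centralizer_iff]
    intro t ht
    exact congrArg Subtype.val (hq' ⟨t, ht⟩)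

end Coord

include hq in
/-- Two quaternion subgroups (in coordinates) are conjugate. -/
theorem quat_conj (Q₁ Q₂ : Subgroup S) (k₁ k₂ : ZMod (2 ^ n)) (hk₁ : Odd k₁) (hk₂ : Odd k₂)
    (hr₁ : ∀ j, r n x j ∈ Q₁ ↔ 4 * j = 0) (hs₁ : ∀ l, s n x y l ∈ Q₁ ↔ 4 * (l - k₁) = 0)
    (hr₂ : ∀ j, r n x j ∈ Q₂ ↔ 4 * j = 0) (hs₂ : ∀ l, s n x y l ∈ Q₂ ↔ 4 * (l - k₂) = 0) :
    ∃ g : S, Q₁.map (MulAut.conj g).toMonoidHom = Q₂ := by
  have hd : Even (k₂ - k₁) := by
    obtain ⟨a, rfl⟩ := hk₁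
    obtain ⟨b, rfl⟩ := hk₂
    exact ⟨b - a, by ring⟩
  obtain ⟨c, hc⟩ := exists_shift hq.hn hd
  refine ⟨r n x c, ?_⟩
  ext g
  rw [mem_map_conj_iff]
  have e : (r n x c)⁻¹ * g * r n x c = r n x (-c) * g * (r n x (-c))⁻¹ := by
    rw [hq.r_neg, inv_inv]
  rw [e]
  rcases hq.exists_rep g with ⟨j, rfl⟩ | ⟨l, rfl⟩
  · rw [hq.r_conj_r, hr₁, hr₂]
  · rw [hq.r_conj_s, hs₁, hs₂]
    have e2 : l + (1 - mm n) * -c - k₁ = l - k₂ := by linear_combination -hc
    rw [e2]

end QDsec

section Iso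

open QuaternionGroup

variable {S : Type*} [Group S]

theorem quat_card (Q : Subgroup S) (e : ↥Q ≃* QuaternionGroup 2) : Nat.card Q = 8 := by
  rw [Nat.card_congr e.toEquiv, Nat.card_eq_fintype_card, QuaternionGroup.card]

theorem quat_unique_invol (Q : Subgroup S) (e : ↥Q ≃* QuaternionGroup 2) :
    ∃ z₀ : S, ∀ g ∈ Q, orderOf g = 2 → g = z₀ := by
  refine ⟨((e.symm (a 2) : ↥Q) : S), ?_⟩
  intro g hg ho
  have key : ∀ q : QuaternionGroup 2, q * q = 1 → q ≠ 1 → q = a 2 := by decide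
  have h1 : (⟨g, hg⟩ : ↥Q) * ⟨g, hg⟩ = 1 := by
    apply Subtype.ext
    show g * g = 1
    rw [← pow_two, ← ho, pow_orderOf_eq_one]
  have h2 : (⟨g, hg⟩ : ↥Q) ≠ 1 := by
    intro h
    have : g = 1 := congrArg Subtype.val h
    rw [this, orderOf_one] at ho
    omega
  have h3 := key (e ⟨g, hg⟩) (by rw [← map_mul, h1, map_one])
    (fun h => h2 (e.injective (by rw [h, map_one])))
  have h4 : (⟨g, hg⟩ : ↥Q) = e.symm (a 2) := by rw [← h3, MulEquiv.symm_apply_apply]
  exact congrArg Subtype.val h4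

theorem quat_noncomm (Q : Subgroup S) (e : ↥Q ≃* QuaternionGroup 2) :
    ∃ a ∈ Q, ∃ b ∈ Q, a * b ≠ b * a := by
  refine ⟨_, (e.symm (a 1)).2, _, (e.symm (xa 0)).2, ?_⟩
  intro h
  have h1 : e.symm (a 1) * e.symm (xa 0) = e.symm (xa 0) * e.symm (a 1) := Subtype.ext h
  rw [← map_mul, ← map_mul] at h1
  have h2 := e.symm.injective h1
  revert h2
  decide

end Iso

end Cfsg.Agent.Lib.Helper2.QDQuat
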