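import Mathlib
import Cfsg.Agent.Lib.Helper2.QDQuat
import Cfsg.Agent.Lib.Helper2.QuatAut
import Cfsg.Agent.Lib.Lead.QDMax

/-!
# Groups with a quasi-dihedral subgroup `S`: transfer between `↥S` and the ambient group, and the
local indices `|N_G(T) : C_G(T)|`, `|N_G(Q) : Q C_G(Q)|`.
-/

set_option autoImplicit false

namespace Cfsg.Agent.Lib.Helper2.QDSylow

open Cfsg Cfsg.Agent.Lib.Lead.QDArith Cfsg.Agent.Lib.Lead.QDCore Cfsg.Agent.Lib.Helper7
open Cfsg.Agent.Lib.Helper2.FourGroup Cfsg.Agent.Lib.Helper2.QDFour Cfsg.Agent.Lib.Helper2.QDQuat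
open Cfsg.Agent.Lib.Helper2.AutIndex Cfsg.Agent.Lib.Helper2.QuatAut

section Transfer

variable {G : Type*} [Group G] {S H : Subgroup G}

theorem isKleinFour_of_mulEquiv {A B : Type*} [Group A] [Group B] (e : A ≃* B) [IsKleinFour B] :
    IsKleinFour A where
  card_four := by rw [Nat.card_congr e.toEquiv]; exact IsKleinFour.card_four
  exponent_two := by rw [Monoid.exponent_eq_of_mulEquiv e]; exact IsKleinFour.exponent_two

theorem isKleinFour_subgroupOf (hHS : H ≤ S) [IsKleinFour ↥H] : IsKleinFour ↥(H.subgroupOf S) :=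
  isKleinFour_of_mulEquiv (Subgroup.subgroupOfEquivOfLe hHS)

theorem coe_mem_normalizer (hHS : H ≤ S) [Finite ↥H] {g : ↥S}
    (hg : g ∈ Subgroup.normalizer ((H.subgroupOf S : Subgroup ↥S) : Set ↥S)) :
    (g : G) ∈ Subgroup.normalizer (H : Set G) := by
  apply mem_normalizer_of_map_conj_le
  rintro _ ⟨u, hu, rfl⟩
  show (g : G) * u * (g : G)⁻¹ ∈ H
  have h1 : (⟨u, hHS hu⟩ : ↥S) ∈ H.subgroupOf S := hu
  have h2 := (Subgroup.mem_normalizer_iff.mp hg _).mp h1
  exact h2

theorem mem_centralizer_subgroupOf_iff (hHS : H ≤ S) {g : ↥S} :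
    g ∈ Subgroup.centralizer ((H.subgroupOf S : Subgroup ↥S) : Set ↥S) ↔
      (g : G) ∈ Subgroup.centralizer (H : Set G) := by
  rw [Subgroup.mem_centralizer_iff, Subgroup.mem_centralizer_iff]
  constructor
  · intro h u hu
    have := h ⟨u, hHS hu⟩ hu
    exact congrArg Subtype.val this
  · intro h u hu
    apply Subtype.ext
    exact h u hu

end Transfer

section Local

variable {G : Type*} [Group G] [Finite G] (S : Subgroup G) {n : ℕ} {x y : ↥S}
  (hq : QD ↥S n x y)

include hq in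
theorem exists_two_pow_of_mem {g : G} (hg : g ∈ S) : ∃ j : ℕ, g ^ (2 ^ j) = 1 := by
  obtain ⟨j, hj⟩ := hq.isPGroup ⟨g, hg⟩
  refine ⟨j, ?_⟩
  have := congrArg Subtype.val hj
  simpa using this

include hq in
/-- `|N_G(T) : C_G(T)| ∈ {2, 6}` for a four-subgroup `T` of a quasi-dihedral subgroup `S`. -/
theorem four_relIndex_cases (T : Subgroup G) [hT : IsKleinFour ↥T] (hTS : T ≤ S) :
    (Subgroup.centralizer (T : Set G)).relIndex (Subgroup.normalizer (T : Set G)) = 2 ∨
    (Subgroup.centralizer (T : Set G)).relIndex (Subgroup.normalizer (T : Set G)) = 6 := by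
  haveI := isKleinFour_subgroupOf hTS
  obtain ⟨i, hi, hTi⟩ := eq_fourT hq (T.subgroupOf S)
  have htN' : r n x (qq n) ∈
      Subgroup.normalizer ((T.subgroupOf S : Subgroup ↥S) : Set ↥S) := by
    rw [hTi, r_mem_normalizer_fourT_iff]; exact Or.inr (Or.inl rfl)
  have htN := coe_mem_normalizer hTS htN'
  have htC : ((r n x (qq n) : ↥S) : G) ∉ Subgroup.centralizer (T : Set G) := by
    intro h
    rw [← mem_centralizer_subgroupOf_iff hTS, hTi, centralizer_fourT, r_mem_fourT_iff] at h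
    rcases h with h | h
    · exact qq_ne_zero hq.n2 h
    · exact qq_ne_hh hq.n2 h
  obtain ⟨j, hj⟩ := exists_two_pow_of_mem S hq (r n x (qq n)).2
  exact relIndex_two_or_six (Subgroup.centralizer_le_normalizer _)
    (normalizer_le_normalizer_centralizer T) (four_relIndex_dvd_six T) _ htN htC j hj

include hq in
/-- `|N_G(Q) : Q C_G(Q)| ∈ {2, 6}` for a quaternion subgroup `Q` of order 8 of a quasi-dihedral
subgroup `S`. -/
theorem quat_relIndex_cases (Q : Subgroup G) (hQS : Q ≤ S) (eQ : ↥Q ≃* QuaternionGroup 2) :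
    (QC Q).relIndex (Subgroup.normalizer (Q : Set G)) = 2 ∨
    (QC Q).relIndex (Subgroup.normalizer (Q : Set G)) = 6 := by
  have e' : ↥(Q.subgroupOf S) ≃* QuaternionGroup 2 :=
    (Subgroup.subgroupOfEquivOfLe hQS).trans eQ
  obtain ⟨k, hk, hr, hs⟩ := quat_struct hq (Q.subgroupOf S) (quat_card _ e')
    (quat_unique_invol _ e') (quat_noncomm _ e')
  have h4e := four_ee (n := n) hq.hn
  have h2h := two_hh (n := n) hq.n1
  have htN' : r n x (ee n) ∈
      Subgroup.normalizer ((Q.subgroupOf S : Subgroup ↥S) : Set ↥S) := by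
    rw [r_mem_normalizer_iff hq _ k hr hs]
    linear_combination 2 * h4e + h2h
  have htN := coe_mem_normalizer hQS htN'
  have htnQ : r n x (ee n) ∉ Q.subgroupOf S := by
    rw [hr, h4e]
    exact hh_ne_zero hq.n1
  have htM : ((r n x (ee n) : ↥S) : G) ∉ QC Q := by
    intro h
    obtain ⟨q, hqQ, c, hc, hqc⟩ := (mem_QC_iff Q _).1 h
    have hcS : c ∈ S := by
      have : c = q⁻¹ * ((r n x (ee n) : ↥S) : G) := by rw [hqc]; group
      rw [this]
      exact S.mul_mem (S.inv_mem (hQS hqQ)) (r n x (ee n)).2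
    have hc' : (⟨c, hcS⟩ : ↥S) ∈
        Subgroup.centralizer ((Q.subgroupOf S : Subgroup ↥S) : Set ↥S) := by
      rw [mem_centralizer_subgroupOf_iff hQS]; exact hc
    have hcQ : c ∈ Q := by
      rcases quat_centralizer_cases hq _ k hk hr hs hc' with h1 | h1
      · have : c = 1 := congrArg Subtype.val h1
        rw [this]; exact Q.one_mem
      · have h2 : r n x (hh n) ∈ Q.subgroupOf S := (hr _).2 (four_hh hq.n1)
        rw [← h1] at h2
        exact h2
    apply htnQ
    show ((r n x (ee n) : ↥S) : G) ∈ Q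
    rw [hqc]
    exact Q.mul_mem hqQ hcQ
  obtain ⟨j, hj⟩ := exists_two_pow_of_mem S hq (r n x (ee n)).2
  exact relIndex_two_or_six (QC_le_normalizer Q) (normalizer_le_normalizer_QC Q)
    (quat_relIndex_dvd_six Q eQ) _ htN htM j hj

end Local

end Cfsg.Agent.Lib.Helper2.QDSylow
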