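import Mathlib
import Cfsg.Agent.Lib.Helper2.QDSylow
import Cfsg.Agent.Lib.Helper2.QDFusA
import Cfsg.Agent.Lib.Helper2.DihedralFour
import Cfsg.Agent.Lib.Helper7.PRedSub
import Cfsg.Agent.Lib.Helper7.SylowAux
import Cfsg.Agent.Lib.Helper7.WeaklyClosed

/-!
# Fusion in groups with a quasi-dihedral Sylow 2-subgroup

`a = |N_G(T) : C_G(T)|` for a four-subgroup `T ≤ S`, `b = |N_G(Q) : Q C_G(Q)|` for a quaternion
subgroup `Q ≤ S` of order 8.

* `a = 6` implies `z ~ y`;  `b = 6` implies `v ~ s 1`;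
* `a = 2` implies no `s i` (`i` even) is conjugate to an element of `⟨x⟩`;
* `b = 2` implies no `s l` (`l` odd) is conjugate to an element of `⟨x⟩`.
-/

set_option autoImplicit false

namespace Cfsg.Agent.Lib.Helper2.QDFusB

open Cfsg Cfsg.Agent.Lib.Lead.QDArith Cfsg.Agent.Lib.Lead.QDCore Cfsg.Agent.Lib.Helper7
open Cfsg.Agent.Lib.Helper2.FourGroup Cfsg.Agent.Lib.Helper2.QDFour Cfsg.Agent.Lib.Helper2.QDQuat
open Cfsg.Agent.Lib.Helper2.AutIndex Cfsg.Agent.Lib.Helper2.QuatAut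
open Cfsg.Agent.Lib.Helper2.QDSylow Cfsg.Agent.Lib.Helper2.QDFusA
open Cfsg.Agent.Lib.Helper2.DihedralFour

local notation:max Q "⋏" g:max => Subgroup.map (MulEquiv.toMonoidHom (MulAut.conj g)) Q

section Conj

variable {G : Type*} [Group G]

/-- `|N_G(T) : C_G(T)|` is invariant under conjugation. -/
theorem relIndex_conj_four (T : Subgroup G) (g : G) :
    (Subgroup.centralizer ((T ⋏ g : Subgroup G) : Set G)).relIndex
      (Subgroup.normalizer ((T ⋏ g : Subgroup G) : Set G)) =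
    (Subgroup.centralizer (T : Set G)).relIndex (Subgroup.normalizer (T : Set G)) := by
  rw [centralizer_map_conj, normalizer_map_conj]
  exact Subgroup.relIndex_map_map_of_injective _ _ (MulAut.conj g).injective

/-- `|N_G(Q) : Q C_G(Q)|` is invariant under conjugation. -/
theorem relIndex_conj_quat (Q : Subgroup G) (g : G) :
    (QC (Q ⋏ g)).relIndex (Subgroup.normalizer ((Q ⋏ g : Subgroup G) : Set G)) =
    (QC Q).relIndex (Subgroup.normalizer (Q : Set G)) := by
  have h : QC (Q ⋏ g) = (QC Q) ⋏ g := by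
    show Q ⋏ g ⊔ Subgroup.centralizer ((Q ⋏ g : Subgroup G) : Set G) = _
    rw [centralizer_map_conj, ← Subgroup.map_sup]
  rw [h, normalizer_map_conj]
  exact Subgroup.relIndex_map_map_of_injective _ _ (MulAut.conj g).injective

/-- Conjugacy inside a subgroup `S` lifts to the ambient group. -/
theorem map_conj_of_subgroupOf {S T T' : Subgroup G} (hT : T ≤ S) (hT' : T' ≤ S) (σ : ↥S)
    (h : (T.subgroupOf S) ⋏ σ = T'.subgroupOf S) : T ⋏ (σ : G) = T' := by
  ext g
  rw [mem_map_conj_iff]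
  constructor
  · intro hg
    have h1 : (⟨(σ : G)⁻¹ * g * σ, hT hg⟩ : ↥S) ∈ T.subgroupOf S := hg
    have h2 : σ * ⟨(σ : G)⁻¹ * g * σ, hT hg⟩ * σ⁻¹ ∈ (T.subgroupOf S) ⋏ σ :=
      ⟨_, h1, rfl⟩
    rw [h, Subgroup.mem_subgroupOf] at h2
    have e : ((σ * ⟨(σ : G)⁻¹ * g * σ, hT hg⟩ * σ⁻¹ : ↥S) : G) = g := by
      show (σ : G) * ((σ : G)⁻¹ * g * σ) * (σ : G)⁻¹ = g
      group
    rwa [e] at h2
  · intro hg
    have h1 : (⟨g, hT' hg⟩ : ↥S) ∈ T'.subgroupOf S := hg
    rw [← h, mem_map_conj_iff] at h1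
    exact h1

theorem subgroupOf_map_subtype_eq {S : Subgroup G} (H : Subgroup ↥S) :
    (H.map S.subtype).subgroupOf S = H :=
  Subgroup.comap_map_eq_self_of_injective (Subgroup.subtype_injective S) H

theorem mem_map_subtype_iff {S : Subgroup G} (H : Subgroup ↥S) (t : ↥S) :
    (t : G) ∈ H.map S.subtype ↔ t ∈ H := by
  constructor
  · rintro ⟨t', ht', h⟩
    have : t' = t := Subtype.ext h
    rwa [← this]
  · intro h
    exact ⟨t, h, rfl⟩

theorem conj_eq_iff (g a b : G) : g * a * g⁻¹ = b ↔ a = g⁻¹ * b * g := by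
  constructor
  · rintro rfl; group
  · rintro rfl; group

end Conj

section QDsec

variable {G : Type*} [Group G] [Finite G] (S : Sylow 2 G) {n : ℕ} {x y : ↥(S : Subgroup G)}
  (hq : QD ↥(S : Subgroup G) n x y)

include hq in
theorem coe_rh_conj {σ : G} (hσ : σ ∈ (S : Subgroup G)) :
    σ * ((r n x (hh n) : ↥(S : Subgroup G)) : G) * σ⁻¹ =
      ((r n x (hh n) : ↥(S : Subgroup G)) : G) :=
  congrArg Subtype.val (rh_conj hq (⟨σ, hσ⟩ : ↥(S : Subgroup G)))

include hq in
theorem coe_s_ne_r (i j : ZMod (2 ^ n)) :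
    ((s n x y i : ↥(S : Subgroup G)) : G) ≠ ((r n x j : ↥(S : Subgroup G)) : G) :=
  fun h => hq.s_ne_r i j (Subtype.ext h)

include hq in
/-- `a = 6` implies that `z` and `y` are conjugate. -/
theorem isConj_z_y_of_six (T : Subgroup G) [hT : IsKleinFour ↥T] (hTS : T ≤ (S : Subgroup G))
    (h₁ : (Subgroup.centralizer (T : Set G)).relIndex (Subgroup.normalizer (T : Set G)) = 6) :
    IsConj ((r n x (hh n) : ↥(S : Subgroup G)) : G) (y : G) := by
  haveI := isKleinFour_subgroupOf hTS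
  obtain ⟨i, hi, hTi⟩ := eq_fourT hq (T.subgroupOf (S : Subgroup G))
  have hz : ((r n x (hh n) : ↥(S : Subgroup G)) : G) ∈ T := by
    have : r n x (hh n) ∈ T.subgroupOf (S : Subgroup G) := by rw [hTi]; exact rh_mem_fourT hq i hi
    exact this
  have hs : ((s n x y i : ↥(S : Subgroup G)) : G) ∈ T := by
    have : s n x y i ∈ T.subgroupOf (S : Subgroup G) := by rw [hTi]; exact s_mem_fourT hq i hi
    exact this
  have hz1 : ((r n x (hh n) : ↥(S : Subgroup G)) : G) ≠ 1 := by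
    intro h; exact hq.rh_ne_one (Subtype.ext h)
  have hs1 : ((s n x y i : ↥(S : Subgroup G)) : G) ≠ 1 := by
    intro h; exact hq.s_ne_one i (Subtype.ext h)
  have h1 := isConj_of_relIndex T (by rw [h₁]; norm_num) (by rw [h₁]; norm_num) hz hs hz1 hs1
  have h2 : IsConj (y : G) ((s n x y i : ↥(S : Subgroup G)) : G) :=
    (S : Subgroup G).subtype.map_isConj (hq.isConj_s_even hi)
  exact h1.trans h2.symm

include hq in
theorem r_mem_zpowers_rq_of_four {j : ZMod (2 ^ n)} (hj : 4 * j = 0) :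
    r n x j ∈ Subgroup.zpowers (r n x (qq n)) := by
  have h2q := two_qq (n := n) hq.n2
  rcases (four_mul_eq_zero_iff hq.hn j).1 hj with (rfl | rfl) | (rfl | rfl)
  · rw [hq.r_zero]; exact Subgroup.one_mem _
  · have : r n x (hh n) = r n x (qq n) ^ 2 := by
      rw [hq.r_pow]; congr 1; rw [← h2q]; push_cast; ring
    rw [this]; exact Subgroup.pow_mem _ (Subgroup.mem_zpowers _) _
  · exact Subgroup.mem_zpowers _
  · have : r n x (qq n + hh n) = r n x (qq n) ^ 3 := by
      rw [hq.r_pow]; congr 1; rw [← h2q]; push_cast; ring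
    rw [this]; exact Subgroup.pow_mem _ (Subgroup.mem_zpowers _) _

include hq in
theorem odd_of_four_sub {k l : ZMod (2 ^ n)} (hk : Odd k) (h : 4 * (l - k) = 0) : Odd l := by
  have he : Even (l - k) := by
    rcases (four_mul_eq_zero_iff hq.hn _).1 h with (h | h) | (h | h)
    · rw [h]; exact ⟨0, by ring⟩
    · rw [h]; exact even_hh hq.n2
    · rw [h]; exact even_qq hq.hn
    · rw [h]; exact (even_qq hq.hn).add (even_hh hq.n2)
  have : l = (l - k) + k := by ring
  rw [this]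
  exact he.add_odd hk

include hq in
/-- `b = 6` implies that `v = x^(2^(n-2))` and `s 1 = x y` are conjugate. -/
theorem isConj_v_s1_of_six (Q : Subgroup G) (hQS : Q ≤ (S : Subgroup G))
    (eQ : ↥Q ≃* QuaternionGroup 2)
    (h₂ : (QC Q).relIndex (Subgroup.normalizer (Q : Set G)) = 6) :
    IsConj ((r n x (qq n) : ↥(S : Subgroup G)) : G) ((s n x y 1 : ↥(S : Subgroup G)) : G) := by
  have e' : ↥(Q.subgroupOf (S : Subgroup G)) ≃* QuaternionGroup 2 :=
    (Subgroup.subgroupOfEquivOfLe hQS).trans eQ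
  obtain ⟨k, hk, hr, hs⟩ := quat_struct hq (Q.subgroupOf (S : Subgroup G)) (quat_card _ e')
    (quat_unique_invol _ e') (quat_noncomm _ e')
  have hvQ : ((r n x (qq n) : ↥(S : Subgroup G)) : G) ∈ Q := by
    have : r n x (qq n) ∈ Q.subgroupOf (S : Subgroup G) := (hr _).2 (four_qq hq.n2)
    exact this
  have hv2 : (⟨_, hvQ⟩ : ↥Q) * ⟨_, hvQ⟩ ≠ 1 := by
    intro h
    have h1 : ((r n x (qq n) : ↥(S : Subgroup G)) : G) * ((r n x (qq n) : ↥(S : Subgroup G)) : G)
        = 1 := congrArg Subtype.val h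
    have h2 : r n x (qq n) * r n x (qq n) = 1 := Subtype.ext h1
    rw [hq.r_sq, two_qq hq.n2] at h2
    exact hq.rh_ne_one h2
  obtain ⟨n₀, hn₀N, hodd, hn₀M⟩ := exists_odd_not_mem (QC_le_normalizer Q)
    (normalizer_le_normalizer_QC Q) (by rw [h₂]; norm_num)
  have hnfix : n₀ * ((r n x (qq n) : ↥(S : Subgroup G)) : G) * n₀⁻¹ ∉
      Subgroup.zpowers ((r n x (qq n) : ↥(S : Subgroup G)) : G) := by
    intro h
    exact hn₀M (mem_QC_of_odd_fix Q eQ hn₀N hodd ⟨_, hvQ⟩ hv2 h)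
  have hwQ : n₀ * ((r n x (qq n) : ↥(S : Subgroup G)) : G) * n₀⁻¹ ∈ Q :=
    (Subgroup.mem_normalizer_iff.mp hn₀N _).mp hvQ
  have hwS := hQS hwQ
  have hwQ' : (⟨_, hwS⟩ : ↥(S : Subgroup G)) ∈ Q.subgroupOf (S : Subgroup G) := hwQ
  rcases hq.exists_rep (⟨_, hwS⟩ : ↥(S : Subgroup G)) with ⟨j, hj⟩ | ⟨l, hl⟩
  · exfalso
    apply hnfix
    rw [hj, hr] at hwQ'
    have h1 := r_mem_zpowers_rq_of_four S hq hwQ'
    have h2 : ((r n x j : ↥(S : Subgroup G)) : G) ∈
        (Subgroup.zpowers (r n x (qq n))).map (S : Subgroup G).subtype := ⟨_, h1, rfl⟩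
    rw [MonoidHom.map_zpowers] at h2
    have h3 : n₀ * ((r n x (qq n) : ↥(S : Subgroup G)) : G) * n₀⁻¹ =
        ((r n x j : ↥(S : Subgroup G)) : G) := congrArg Subtype.val hj
    rw [h3]
    exact h2
  · rw [hl, hs] at hwQ'
    have hlo := odd_of_four_sub S hq hk hwQ'
    have h3 : n₀ * ((r n x (qq n) : ↥(S : Subgroup G)) : G) * n₀⁻¹ =
        ((s n x y l : ↥(S : Subgroup G)) : G) := congrArg Subtype.val hl
    have h1 : IsConj ((r n x (qq n) : ↥(S : Subgroup G)) : G)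
        ((s n x y l : ↥(S : Subgroup G)) : G) := isConj_iff.2 ⟨n₀, h3⟩
    have h2 : IsConj ((s n x y 1 : ↥(S : Subgroup G)) : G)
        ((s n x y l : ↥(S : Subgroup G)) : G) :=
      (S : Subgroup G).subtype.map_isConj (hq.isConj_s_odd hlo)
    exact h1.trans h2.symm

/-- the standard four-subgroup `{1, z, s i, z s i}` as a subgroup of `G` -/
def fourG (i : ZMod (2 ^ n)) (hi : Even i) : Subgroup G :=
  (fourT hq i hi).map (S : Subgroup G).subtype

theorem fourG_le (i : ZMod (2 ^ n)) (hi : Even i) : fourG S hq i hi ≤ (S : Subgroup G) :=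
  Subgroup.map_subtype_le _

theorem isKleinFour_fourG (i : ZMod (2 ^ n)) (hi : Even i) : IsKleinFour ↥(fourG S hq i hi) := by
  haveI := isKleinFour_fourT hq i hi
  exact isKleinFour_map _ (Subgroup.subtype_injective _) (fourT hq i hi)

theorem fourG_subgroupOf (i : ZMod (2 ^ n)) (hi : Even i) :
    (fourG S hq i hi).subgroupOf (S : Subgroup G) = fourT hq i hi :=
  subgroupOf_map_subtype_eq _

theorem z_mem_fourG (i : ZMod (2 ^ n)) (hi : Even i) :
    ((r n x (hh n) : ↥(S : Subgroup G)) : G) ∈ fourG S hq i hi :=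
  ⟨_, rh_mem_fourT hq i hi, rfl⟩

theorem s_mem_fourG (i : ZMod (2 ^ n)) (hi : Even i) :
    ((s n x y i : ↥(S : Subgroup G)) : G) ∈ fourG S hq i hi :=
  ⟨_, s_mem_fourT hq i hi, rfl⟩

/-- all four-subgroups of `S` have the same `|N_G(T) : C_G(T)|` -/
theorem relIndex_fourG_eq (T : Subgroup G) [hT : IsKleinFour ↥T] (hTS : T ≤ (S : Subgroup G))
    (i : ZMod (2 ^ n)) (hi : Even i) :
    (Subgroup.centralizer ((fourG S hq i hi : Subgroup G) : Set G)).relIndex
      (Subgroup.normalizer ((fourG S hq i hi : Subgroup G) : Set G)) =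
    (Subgroup.centralizer (T : Set G)).relIndex (Subgroup.normalizer (T : Set G)) := by
  haveI := isKleinFour_subgroupOf hTS
  haveI := isKleinFour_fourT hq i hi
  obtain ⟨σ, hσ⟩ := four_conj hq (T.subgroupOf (S : Subgroup G)) (fourT hq i hi)
  have h := map_conj_of_subgroupOf hTS (fourG_le S hq i hi) σ
    (by rw [hσ, fourG_subgroupOf])
  rw [← h, relIndex_conj_four]

/-- if `a = 2` then `N_G(T)` fixes `z` -/
theorem normalizer_fix_z (i : ZMod (2 ^ n)) (hi : Even i)
    (ha : (Subgroup.centralizer ((fourG S hq i hi : Subgroup G) : Set G)).relIndex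
      (Subgroup.normalizer ((fourG S hq i hi : Subgroup G) : Set G)) = 2)
    {m : G} (hm : m ∈ Subgroup.normalizer ((fourG S hq i hi : Subgroup G) : Set G)) :
    m * ((r n x (hh n) : ↥(S : Subgroup G)) : G) * m⁻¹ =
      ((r n x (hh n) : ↥(S : Subgroup G)) : G) := by
  haveI := isKleinFour_fourG S hq i hi
  have hle := fourG_le S hq i hi
  have htN' : r n x (qq n) ∈ Subgroup.normalizer
      (((fourG S hq i hi).subgroupOf (S : Subgroup G) : Subgroup ↥(S : Subgroup G)) :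
        Set ↥(S : Subgroup G)) := by
    rw [fourG_subgroupOf, r_mem_normalizer_fourT_iff]; exact Or.inr (Or.inl rfl)
  have htN := coe_mem_normalizer hle htN'
  have htC : ((r n x (qq n) : ↥(S : Subgroup G)) : G) ∉
      Subgroup.centralizer ((fourG S hq i hi : Subgroup G) : Set G) := by
    intro h
    rw [← mem_centralizer_subgroupOf_iff hle, fourG_subgroupOf, centralizer_fourT,
      r_mem_fourT_iff] at h
    rcases h with h | h
    · exact qq_ne_zero hq.n2 h
    · exact qq_ne_hh hq.n2 h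
  have hcent : ∀ c ∈ Subgroup.centralizer ((fourG S hq i hi : Subgroup G) : Set G),
      c * ((r n x (hh n) : ↥(S : Subgroup G)) : G) * c⁻¹ =
        ((r n x (hh n) : ↥(S : Subgroup G)) : G) := by
    intro c hc
    have := Subgroup.mem_centralizer_iff.mp hc _ (z_mem_fourG S hq i hi)
    rw [← this]; group
  by_cases hmC : m ∈ Subgroup.centralizer ((fourG S hq i hi : Subgroup G) : Set G)
  · exact hcent m hmC
  · have h2 := Subgroup.mul_mem_iff_of_index_two ha
      (a := (⟨m, hm⟩ : ↥(Subgroup.normalizer ((fourG S hq i hi : Subgroup G) : Set G))))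
      (b := ⟨_, htN⟩)
    have h3 : m * ((r n x (qq n) : ↥(S : Subgroup G)) : G) ∈
        Subgroup.centralizer ((fourG S hq i hi : Subgroup G) : Set G) := by
      have : (⟨m, hm⟩ : ↥(Subgroup.normalizer ((fourG S hq i hi : Subgroup G) : Set G))) *
          ⟨_, htN⟩ ∈ (Subgroup.centralizer ((fourG S hq i hi : Subgroup G) : Set G)).subgroupOf
            (Subgroup.normalizer ((fourG S hq i hi : Subgroup G) : Set G)) := by
        rw [h2, Subgroup.mem_subgroupOf, Subgroup.mem_subgroupOf]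
        exact ⟨fun h => absurd h hmC, fun h => absurd h htC⟩
      exact this
    have h4 := hcent _ h3
    have h5 := coe_rh_conj S hq (r n x (qq n)).2
    calc m * ((r n x (hh n) : ↥(S : Subgroup G)) : G) * m⁻¹
        = m * (((r n x (qq n) : ↥(S : Subgroup G)) : G) * ((r n x (hh n) : ↥(S : Subgroup G)) : G)
          * ((r n x (qq n) : ↥(S : Subgroup G)) : G)⁻¹) * m⁻¹ := by rw [h5]
      _ = (m * ((r n x (qq n) : ↥(S : Subgroup G)) : G)) * ((r n x (hh n) : ↥(S : Subgroup G)) : G)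
          * (m * ((r n x (qq n) : ↥(S : Subgroup G)) : G))⁻¹ := by group
      _ = _ := h4

include hq in
/-- `a = 2` implies that no `s i` with `i` even is conjugate in `G` to an element of `⟨x⟩`. -/
theorem no_fus_even_of_two (T : Subgroup G) [hT : IsKleinFour ↥T] (hTS : T ≤ (S : Subgroup G))
    (h₁ : (Subgroup.centralizer (T : Set G)).relIndex (Subgroup.normalizer (T : Set G)) = 2)
    (i : ZMod (2 ^ n)) (hi : Even i) (g : G) (j : ZMod (2 ^ n)) :
    g * ((s n x y i : ↥(S : Subgroup G)) : G) * g⁻¹ ≠ ((r n x j : ↥(S : Subgroup G)) : G) := by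
  intro hgj
  have hou : orderOf ((s n x y i : ↥(S : Subgroup G)) : G) = 2 := by
    rw [Subgroup.orderOf_coe]; exact hq.orderOf_s_even hi
  have hoj : orderOf (r n x j) = 2 := by
    rw [← Subgroup.orderOf_coe, ← hgj, orderOf_conj_eq', hou]
  have hjz : r n x j = r n x (hh n) := by
    rcases hq.involution_cases hoj with h | ⟨i', _, h⟩
    · exact h
    · exact absurd h.symm (hq.s_ne_r _ _)
  rw [hjz] at hgj
  haveI := isKleinFour_fourG S hq i hi
  haveI := isKleinFour_fourT hq i hi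
  have hle := fourG_le S hq i hi
  have ha : (Subgroup.centralizer ((fourG S hq i hi : Subgroup G) : Set G)).relIndex
      (Subgroup.normalizer ((fourG S hq i hi : Subgroup G) : Set G)) = 2 := by
    rw [relIndex_fourG_eq S hq T hTS, h₁]
  -- the centralizer of `z`
  have hSL : (S : Subgroup G) ≤
      Subgroup.centralizer ({((r n x (hh n) : ↥(S : Subgroup G)) : G)} : Set G) := by
    intro σ hσ
    rw [Subgroup.mem_centralizer_singleton_iff]
    have := coe_rh_conj S hq hσ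
    calc σ * ((r n x (hh n) : ↥(S : Subgroup G)) : G)
        = (σ * ((r n x (hh n) : ↥(S : Subgroup G)) : G) * σ⁻¹) * σ := by group
      _ = _ := by rw [this]
  have hRL : (fourG S hq i hi) ⋏ g ≤
      Subgroup.centralizer ({((r n x (hh n) : ↥(S : Subgroup G)) : G)} : Set G) := by
    rintro _ ⟨t, ht, rfl⟩
    rw [Subgroup.mem_centralizer_singleton_iff]
    show g * t * g⁻¹ * _ = _ * (g * t * g⁻¹)
    rw [← hgj]
    have := comm_of_mem (fourG S hq i hi) ht (s_mem_fourG S hq i hi)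
    calc g * t * g⁻¹ * (g * ((s n x y i : ↥(S : Subgroup G)) : G) * g⁻¹)
        = g * (t * ((s n x y i : ↥(S : Subgroup G)) : G)) * g⁻¹ := by group
      _ = g * (((s n x y i : ↥(S : Subgroup G)) : G) * t) * g⁻¹ := by rw [this]
      _ = _ := by group
  have hR : IsPGroup 2 ↥((fourG S hq i hi) ⋏ g) := (S.2.to_le hle).map _
  obtain ⟨c, hcL, hc⟩ := exists_conj_mem_of_le S hSL hRL hR
  have hT'S : (fourG S hq i hi) ⋏ (c * g) ≤ (S : Subgroup G) := by
    rw [← map_conj_map_conj]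
    rintro _ ⟨a, ha', rfl⟩
    exact hc a ha'
  haveI : IsKleinFour ↥((fourG S hq i hi) ⋏ (c * g)) :=
    isKleinFour_map _ (MulAut.conj (c * g)).injective (fourG S hq i hi)
  haveI := isKleinFour_subgroupOf hT'S
  obtain ⟨σ, hσ⟩ := four_conj hq (((fourG S hq i hi) ⋏ (c * g)).subgroupOf (S : Subgroup G))
    (fourT hq i hi)
  have h5 := map_conj_of_subgroupOf hT'S hle σ (by rw [hσ, fourG_subgroupOf])
  rw [map_conj_map_conj] at h5
  have hgN := (map_conj_eq_self_iff _ _).1 h5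
  have hfix := normalizer_fix_z S hq i hi ha hgN
  have hcz : c * ((r n x (hh n) : ↥(S : Subgroup G)) : G) * c⁻¹ =
      ((r n x (hh n) : ↥(S : Subgroup G)) : G) := by
    have := Subgroup.mem_centralizer_singleton_iff.mp hcL
    rw [this]; group
  have hgu : (σ : G) * (c * g) * ((s n x y i : ↥(S : Subgroup G)) : G) * ((σ : G) * (c * g))⁻¹ =
      ((r n x (hh n) : ↥(S : Subgroup G)) : G) := by
    calc (σ : G) * (c * g) * ((s n x y i : ↥(S : Subgroup G)) : G) * ((σ : G) * (c * g))⁻¹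
        = (σ : G) * (c * (g * ((s n x y i : ↥(S : Subgroup G)) : G) * g⁻¹) * c⁻¹) * (σ : G)⁻¹ := by
          group
      _ = _ := by rw [hgj, hcz, coe_rh_conj S hq σ.2]
  have : ((s n x y i : ↥(S : Subgroup G)) : G) = ((r n x (hh n) : ↥(S : Subgroup G)) : G) := by
    have h6 := hgu.trans hfix.symm
    exact mul_left_cancel (mul_right_cancel h6)
  exact coe_s_ne_r S hq _ _ this

include hq in
theorem mem_zpowers_v_iff (a : G) :
    a ∈ Subgroup.zpowers ((r n x (qq n) : ↥(S : Subgroup G)) : G) ↔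
      ∃ j, 4 * j = 0 ∧ a = ((r n x j : ↥(S : Subgroup G)) : G) := by
  have hmap : Subgroup.zpowers ((r n x (qq n) : ↥(S : Subgroup G)) : G) =
      (Subgroup.zpowers (r n x (qq n))).map (S : Subgroup G).subtype := by
    rw [MonoidHom.map_zpowers]; rfl
  rw [hmap]
  constructor
  · rintro ⟨t, ht, rfl⟩
    have ht' : t ∈ Subgroup.zpowers x :=
      (Subgroup.zpowers_le.mpr (hq.r_mem (qq n))) ht
    obtain ⟨j, rfl⟩ := hq.exists_r_of_mem ht'
    refine ⟨j, ?_, rfl⟩
    have h4 : orderOf (r n x j) ∣ 4 := by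
      have := orderOf_dvd_of_mem_zpowers ht
      rwa [hq.orderOf_rq] at this
    have h5 : r n x j ^ 4 = 1 := orderOf_dvd_iff_pow_eq_one.mp h4
    rw [r_pow_four hq, hq.r_eq_one_iff] at h5
    exact h5
  · rintro ⟨j, hj, rfl⟩
    exact ⟨_, r_mem_zpowers_rq_of_four S hq hj, rfl⟩

include hq in
/-- `S` normalizes `⟨v⟩`. -/
theorem conj_v_mem {σ : G} (hσ : σ ∈ (S : Subgroup G)) {a : G}
    (ha : a ∈ Subgroup.zpowers ((r n x (qq n) : ↥(S : Subgroup G)) : G)) :
    σ * a * σ⁻¹ ∈ Subgroup.zpowers ((r n x (qq n) : ↥(S : Subgroup G)) : G) := by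
  rw [mem_zpowers_v_iff S hq] at ha ⊢
  obtain ⟨j, hj, rfl⟩ := ha
  rcases hq.exists_rep (⟨σ, hσ⟩ : ↥(S : Subgroup G)) with ⟨k, hk⟩ | ⟨k, hk⟩
  · refine ⟨j, hj, ?_⟩
    have := hq.r_conj_r k j
    rw [← hk] at this
    exact congrArg Subtype.val this
  · refine ⟨mm n * j, (four_mm hq.n1 j).2 hj, ?_⟩
    have := hq.s_conj_r k j
    rw [← hk] at this
    exact congrArg Subtype.val this

include hq in
theorem S_le_normalizer_v : (S : Subgroup G) ≤ Subgroup.normalizer
    ((Subgroup.zpowers ((r n x (qq n) : ↥(S : Subgroup G)) : G) : Subgroup G) : Set G) := by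
  intro σ hσ
  apply mem_normalizer_of_map_conj_le
  rintro _ ⟨a, ha, rfl⟩
  exact conj_v_mem S hq hσ ha

section QuatLocal

variable (Q : Subgroup G) (hQS : Q ≤ (S : Subgroup G)) (k : ZMod (2 ^ n)) (hk : Odd k)
  (hr : ∀ j, r n x j ∈ Q.subgroupOf (S : Subgroup G) ↔ 4 * j = 0)
  (hs : ∀ l, s n x y l ∈ Q.subgroupOf (S : Subgroup G) ↔ 4 * (l - k) = 0)

include hq hQS hr hs in
theorem ree_mem_normalizer :
    ((r n x (ee n) : ↥(S : Subgroup G)) : G) ∈ Subgroup.normalizer (Q : Set G) := by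
  have h4e := four_ee (n := n) hq.hn
  have h2h := two_hh (n := n) hq.n1
  have htN' : r n x (ee n) ∈
      Subgroup.normalizer ((Q.subgroupOf (S : Subgroup G) : Subgroup ↥(S : Subgroup G)) :
        Set ↥(S : Subgroup G)) := by
    rw [r_mem_normalizer_iff hq _ k hr hs]
    linear_combination 2 * h4e + h2h
  exact coe_mem_normalizer hQS htN'

include hq hQS hk hr hs in
theorem ree_not_mem_QC : ((r n x (ee n) : ↥(S : Subgroup G)) : G) ∉ QC Q := by
  have h4e := four_ee (n := n) hq.hn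
  have htnQ : r n x (ee n) ∉ Q.subgroupOf (S : Subgroup G) := by
    rw [hr, h4e]
    exact hh_ne_zero hq.n1
  intro h
  obtain ⟨q, hqQ, c, hc, hqc⟩ := (mem_QC_iff Q _).1 h
  have hcS : c ∈ (S : Subgroup G) := by
    have : c = q⁻¹ * ((r n x (ee n) : ↥(S : Subgroup G)) : G) := by rw [hqc]; group
    rw [this]
    exact (S : Subgroup G).mul_mem ((S : Subgroup G).inv_mem (hQS hqQ)) (r n x (ee n)).2
  have hc' : (⟨c, hcS⟩ : ↥(S : Subgroup G)) ∈
      Subgroup.centralizer ((Q.subgroupOf (S : Subgroup G) : Subgroup ↥(S : Subgroup G)) :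
        Set ↥(S : Subgroup G)) := by
    rw [mem_centralizer_subgroupOf_iff hQS]; exact hc
  have hcQ : c ∈ Q := by
    rcases quat_centralizer_cases hq _ k hk hr hs hc' with h1 | h1
    · have : c = 1 := congrArg Subtype.val h1
      rw [this]; exact Q.one_mem
    · have h2 : r n x (hh n) ∈ Q.subgroupOf (S : Subgroup G) := (hr _).2 (four_hh hq.n1)
      rw [← h1] at h2
      exact h2
  apply htnQ
  show ((r n x (ee n) : ↥(S : Subgroup G)) : G) ∈ Q
  rw [hqc]
  exact Q.mul_mem hqQ hcQ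

include hq hQS hk hr hs in
/-- if `b = 2` then `N_G(Q)` normalizes `⟨v⟩` -/
theorem normalizer_fix_v (eQ : ↥Q ≃* QuaternionGroup 2)
    (h₂ : (QC Q).relIndex (Subgroup.normalizer (Q : Set G)) = 2)
    {m : G} (hm : m ∈ Subgroup.normalizer (Q : Set G)) {a : G}
    (ha : a ∈ Subgroup.zpowers ((r n x (qq n) : ↥(S : Subgroup G)) : G)) :
    m * a * m⁻¹ ∈ Subgroup.zpowers ((r n x (qq n) : ↥(S : Subgroup G)) : G) := by
  have hvQ : ((r n x (qq n) : ↥(S : Subgroup G)) : G) ∈ Q := by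
    have : r n x (qq n) ∈ Q.subgroupOf (S : Subgroup G) := (hr _).2 (four_qq hq.n2)
    exact this
  have hv2 : (⟨_, hvQ⟩ : ↥Q) * ⟨_, hvQ⟩ ≠ 1 := by
    intro h
    have h1 : ((r n x (qq n) : ↥(S : Subgroup G)) : G) * ((r n x (qq n) : ↥(S : Subgroup G)) : G)
        = 1 := congrArg Subtype.val h
    have h2 : r n x (qq n) * r n x (qq n) = 1 := Subtype.ext h1
    rw [hq.r_sq, two_qq hq.n2] at h2
    exact hq.rh_ne_one h2
  have htN := ree_mem_normalizer S hq Q hQS k hr hs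
  have htM := ree_not_mem_QC S hq Q hQS k hk hr hs
  have hM : ∀ m' ∈ QC Q, m' * ((r n x (qq n) : ↥(S : Subgroup G)) : G) * m'⁻¹ ∈
      Subgroup.zpowers ((r n x (qq n) : ↥(S : Subgroup G)) : G) :=
    fun m' hm' => conj_mem_zpowers_of_mem_QC Q eQ hm' ⟨_, hvQ⟩ hv2
  have htv : ((r n x (ee n) : ↥(S : Subgroup G)) : G) * ((r n x (qq n) : ↥(S : Subgroup G)) : G) *
      ((r n x (ee n) : ↥(S : Subgroup G)) : G)⁻¹ = ((r n x (qq n) : ↥(S : Subgroup G)) : G) :=
    congrArg Subtype.val (hq.r_conj_r (ee n) (qq n))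
  have hgen : m * ((r n x (qq n) : ↥(S : Subgroup G)) : G) * m⁻¹ ∈
      Subgroup.zpowers ((r n x (qq n) : ↥(S : Subgroup G)) : G) := by
    by_cases hmM : m ∈ QC Q
    · exact hM m hmM
    · have h2 := Subgroup.mul_mem_iff_of_index_two h₂
        (a := (⟨m, hm⟩ : ↥(Subgroup.normalizer (Q : Set G)))) (b := ⟨_, htN⟩)
      have h3 : m * ((r n x (ee n) : ↥(S : Subgroup G)) : G) ∈ QC Q := by
        have : (⟨m, hm⟩ : ↥(Subgroup.normalizer (Q : Set G))) * ⟨_, htN⟩ ∈
            (QC Q).subgroupOf (Subgroup.normalizer (Q : Set G)) := by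
          rw [h2, Subgroup.mem_subgroupOf, Subgroup.mem_subgroupOf]
          exact ⟨fun h => absurd h hmM, fun h => absurd h htM⟩
        exact this
      have h4 := hM _ h3
      have e : m * ((r n x (ee n) : ↥(S : Subgroup G)) : G) *
          ((r n x (qq n) : ↥(S : Subgroup G)) : G) *
          (m * ((r n x (ee n) : ↥(S : Subgroup G)) : G))⁻¹ =
          m * (((r n x (ee n) : ↥(S : Subgroup G)) : G) * ((r n x (qq n) : ↥(S : Subgroup G)) : G) *
            ((r n x (ee n) : ↥(S : Subgroup G)) : G)⁻¹) * m⁻¹ := by group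
      rw [e, htv] at h4
      exact h4
  have hle : (Subgroup.zpowers ((r n x (qq n) : ↥(S : Subgroup G)) : G)) ⋏ m ≤
      Subgroup.zpowers ((r n x (qq n) : ↥(S : Subgroup G)) : G) := by
    rw [MonoidHom.map_zpowers, Subgroup.zpowers_le]
    exact hgen
  exact hle ⟨a, ha, rfl⟩

end QuatLocal

include hq in
/-- `b = 2` implies that no `s l` with `l` odd is conjugate in `G` to an element of `⟨x⟩`. -/
theorem no_fus_odd_of_two (Q : Subgroup G) (hQS : Q ≤ (S : Subgroup G))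
    (eQ : ↥Q ≃* QuaternionGroup 2)
    (h₂ : (QC Q).relIndex (Subgroup.normalizer (Q : Set G)) = 2)
    (l : ZMod (2 ^ n)) (hl : Odd l) (g : G) (j : ZMod (2 ^ n)) :
    g * ((s n x y l : ↥(S : Subgroup G)) : G) * g⁻¹ ≠ ((r n x j : ↥(S : Subgroup G)) : G) := by
  have e' : ↥(Q.subgroupOf (S : Subgroup G)) ≃* QuaternionGroup 2 :=
    (Subgroup.subgroupOfEquivOfLe hQS).trans eQ
  obtain ⟨k, hk, hr, hs⟩ := quat_struct hq (Q.subgroupOf (S : Subgroup G)) (quat_card _ e')
    (quat_unique_invol _ e') (quat_noncomm _ e')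
  -- reduction to `l = k`
  have hd : Even (l - k) := by
    obtain ⟨a, rfl⟩ := hl
    obtain ⟨b, rfl⟩ := hk
    exact ⟨a - b, by ring⟩
  obtain ⟨c₀, hc₀⟩ := exists_shift hq.hn hd
  have hsl : ((s n x y l : ↥(S : Subgroup G)) : G) = ((r n x c₀ : ↥(S : Subgroup G)) : G) *
      ((s n x y k : ↥(S : Subgroup G)) : G) * ((r n x c₀ : ↥(S : Subgroup G)) : G)⁻¹ := by
    have := hq.r_conj_s c₀ k
    rw [hc₀] at this
    have h2 : s n x y (k + (l - k)) = s n x y l := by congr 1; ring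
    rw [h2] at this
    exact (congrArg Subtype.val this).symm
  suffices hmain : ∀ g : G, g * ((s n x y k : ↥(S : Subgroup G)) : G) * g⁻¹ ≠
      ((r n x j : ↥(S : Subgroup G)) : G) by
    intro hgj
    apply hmain (g * ((r n x c₀ : ↥(S : Subgroup G)) : G))
    rw [← hgj, hsl]; group
  clear hsl hc₀ c₀ hd hl l g
  intro g hgj
  have hskQ' : s n x y k ∈ Q.subgroupOf (S : Subgroup G) := (hs k).2 (by ring)
  have huQ : ((s n x y k : ↥(S : Subgroup G)) : G) ∈ Q := hskQ'
  have hou : orderOf ((s n x y k : ↥(S : Subgroup G)) : G) = 4 := by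
    rw [Subgroup.orderOf_coe]; exact hq.orderOf_s_odd hk
  have hoj : orderOf (r n x j) = 4 := by
    rw [← Subgroup.orderOf_coe, ← hgj, orderOf_conj_eq', hou]
  have h4j : 4 * j = 0 := by
    rcases hq.order4_cases hoj with h | h | ⟨i', _, h⟩
    · rw [hq.r_inj h]; exact four_qq hq.n2
    · rw [hq.r_inj h]
      have h1 := four_qq (n := n) hq.n2
      have h2 := four_hh (n := n) hq.n1
      linear_combination h1 + h2
    · exact absurd h.symm (hq.s_ne_r _ _)
  have hwV : ((r n x j : ↥(S : Subgroup G)) : G) ∈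
      Subgroup.zpowers ((r n x (qq n) : ↥(S : Subgroup G)) : G) :=
    (mem_zpowers_v_iff S hq _).2 ⟨j, h4j, rfl⟩
  have hWV : Subgroup.zpowers ((r n x j : ↥(S : Subgroup G)) : G) =
      Subgroup.zpowers ((r n x (qq n) : ↥(S : Subgroup G)) : G) := by
    apply Subgroup.eq_of_le_of_card_ge (Subgroup.zpowers_le.mpr hwV)
    rw [Nat.card_zpowers, Nat.card_zpowers, Subgroup.orderOf_coe, Subgroup.orderOf_coe, hoj,
      hq.orderOf_rq]
  -- `g Q g⁻¹` normalizes `⟨v⟩`
  have hSL := S_le_normalizer_v S hq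
  have hRL : Q ⋏ g ≤ Subgroup.normalizer
      ((Subgroup.zpowers ((r n x (qq n) : ↥(S : Subgroup G)) : G) : Subgroup G) : Set G) := by
    rintro _ ⟨q, hqQ, rfl⟩
    apply mem_normalizer_of_map_conj_le
    rw [← hWV, MonoidHom.map_zpowers, Subgroup.zpowers_le, ← hgj]
    show g * q * g⁻¹ * (g * ((s n x y k : ↥(S : Subgroup G)) : G) * g⁻¹) * (g * q * g⁻¹)⁻¹ ∈ _
    have hu2 : (⟨_, huQ⟩ : ↥Q) * ⟨_, huQ⟩ ≠ 1 := by
      rw [← k_orderOf_iff eQ, ← Subgroup.orderOf_coe]
      exact hou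
    have e1 : g * q * g⁻¹ * (g * ((s n x y k : ↥(S : Subgroup G)) : G) * g⁻¹) * (g * q * g⁻¹)⁻¹ =
        g * (q * ((s n x y k : ↥(S : Subgroup G)) : G) * q⁻¹) * g⁻¹ := by group
    rw [e1]
    rcases k_conj eQ (q := ⟨q, hqQ⟩) hu2 with h | h
    · have h' : q * ((s n x y k : ↥(S : Subgroup G)) : G) * q⁻¹ =
          ((s n x y k : ↥(S : Subgroup G)) : G) := congrArg Subtype.val h
      rw [h']; exact Subgroup.mem_zpowers _
    · have h' : q * ((s n x y k : ↥(S : Subgroup G)) : G) * q⁻¹ =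
          ((s n x y k : ↥(S : Subgroup G)) : G)⁻¹ := congrArg Subtype.val h
      rw [h']
      have e2 : g * ((s n x y k : ↥(S : Subgroup G)) : G)⁻¹ * g⁻¹ =
          (g * ((s n x y k : ↥(S : Subgroup G)) : G) * g⁻¹)⁻¹ := by group
      rw [e2]
      exact Subgroup.inv_mem _ (Subgroup.mem_zpowers _)
  have hR : IsPGroup 2 ↥(Q ⋏ g) := (S.2.to_le hQS).map _
  obtain ⟨c, hcL, hc⟩ := exists_conj_mem_of_le S hSL hRL hR
  have hQ'S : Q ⋏ (c * g) ≤ (S : Subgroup G) := by
    rw [← map_conj_map_conj]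
    rintro _ ⟨a, ha', rfl⟩
    exact hc a ha'
  have eQ' : ↥(Q ⋏ (c * g)) ≃* QuaternionGroup 2 :=
    (Q.equivMapOfInjective _ (MulAut.conj (c * g)).injective).symm.trans eQ
  have e'' : ↥((Q ⋏ (c * g)).subgroupOf (S : Subgroup G)) ≃* QuaternionGroup 2 :=
    (Subgroup.subgroupOfEquivOfLe hQ'S).trans eQ'
  obtain ⟨k', hk', hr', hs'⟩ := quat_struct hq ((Q ⋏ (c * g)).subgroupOf (S : Subgroup G))
    (quat_card _ e'') (quat_unique_invol _ e'') (quat_noncomm _ e'')
  obtain ⟨σ, hσ⟩ := quat_conj hq _ _ k' k hk' hk hr' hs' hr hs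
  have h5 := map_conj_of_subgroupOf hQ'S hQS σ hσ
  rw [map_conj_map_conj] at h5
  have hgN := (map_conj_eq_self_iff _ _).1 h5
  -- `g'' u g''⁻¹ ∈ ⟨v⟩`
  have h6 : (σ : G) * (c * g) * ((s n x y k : ↥(S : Subgroup G)) : G) * ((σ : G) * (c * g))⁻¹ ∈
      Subgroup.zpowers ((r n x (qq n) : ↥(S : Subgroup G)) : G) := by
    have e1 : (σ : G) * (c * g) * ((s n x y k : ↥(S : Subgroup G)) : G) * ((σ : G) * (c * g))⁻¹ =
        (σ : G) * (c * (g * ((s n x y k : ↥(S : Subgroup G)) : G) * g⁻¹) * c⁻¹) * (σ : G)⁻¹ := by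
      group
    rw [e1, hgj]
    apply conj_v_mem S hq σ.2
    exact (Subgroup.mem_normalizer_iff.mp hcL _).mp hwV
  have h7 := normalizer_fix_v S hq Q hQS k hk hr hs eQ h₂ (Subgroup.inv_mem _ hgN) h6
  have e2 : ((σ : G) * (c * g))⁻¹ * ((σ : G) * (c * g) * ((s n x y k : ↥(S : Subgroup G)) : G) *
      ((σ : G) * (c * g))⁻¹) * ((σ : G) * (c * g))⁻¹⁻¹ = ((s n x y k : ↥(S : Subgroup G)) : G) := by
    group
  rw [e2, mem_zpowers_v_iff S hq] at h7
  obtain ⟨j', _, hj'⟩ := h7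
  exact coe_s_ne_r S hq _ _ hj'

end QDsec

end Cfsg.Agent.Lib.Helper2.QDFusB
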