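import Mathlib
import Cfsg.Agent.Lib.Helper2.QuatAut
import Cfsg.Agent.Lib.Helper2.QDFusB

set_option autoImplicit false

/-!
# Generic lemmas for centralizers of involutions in groups with quasi-dihedral or wreathed
Sylow 2-subgroups
-/

namespace Cfsg.Agent.Lib.Helper2.WRJ

open Cfsg Cfsg.Agent.Lib.Helper7
open Cfsg.Agent.Lib.Helper2.QDFusB Cfsg.Agent.Lib.Helper2.QuatAut
open scoped Pointwise

section Gen

variable {G : Type*} [Group G] [Finite G]

/-- A normal subgroup of index `2^k`, `k ≥ 1`, yields a subgroup of index 2. -/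
theorem exists_index_two_of_normal_two_pow (K : Subgroup G) [K.Normal] (k : ℕ) (hk : 1 ≤ k)
    (hK : K.index = 2 ^ k) : ∃ H : Subgroup G, H.index = 2 := by
  haveI : Fact (Nat.Prime 2) := ⟨Nat.prime_two⟩
  have hcard : Nat.card (G ⧸ K) = 2 ^ k := by rw [← Subgroup.index_eq_card]; exact hK
  obtain ⟨H₀, hH₀⟩ := Sylow.exists_subgroup_card_pow_prime 2
    (show 2 ^ (k - 1) ∣ Nat.card (G ⧸ K) by rw [hcard]; exact pow_dvd_pow 2 (by omega))
  refine ⟨H₀.comap (QuotientGroup.mk' K), ?_⟩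
  rw [Subgroup.index_comap_of_surjective _ (QuotientGroup.mk'_surjective K)]
  have h1 := H₀.card_mul_index
  rw [hH₀, hcard] at h1
  have h2 : 2 ^ k = 2 ^ (k - 1) * 2 := by rw [← pow_succ]; congr 1; omega
  rw [h2] at h1
  exact Nat.eq_of_mul_eq_mul_left (by positivity) h1

/-- A normal 2-complement (to a nontrivial Sylow 2-subgroup) yields a subgroup of index 2. -/
theorem exists_index_two_of_complement (P : Sylow 2 G) (N : Subgroup G) [N.Normal]
    (hc : N.IsComplement' (P : Subgroup G)) (hP : Nat.card ↥(P : Subgroup G) ≠ 1) :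
    ∃ H : Subgroup G, H.index = 2 := by
  have h1 : N.index = Nat.card ↥(P : Subgroup G) := hc.symm.index_eq_card
  obtain ⟨k, hk⟩ := P.2.exists_card_eq
  have hk1 : 1 ≤ k := by
    rcases Nat.eq_zero_or_pos k with h | h
    · exfalso; apply hP; rw [hk, h, pow_zero]
    · exact h
  exact exists_index_two_of_normal_two_pow N k hk1 (by rw [h1, hk])

omit [Finite G] in
/-- Conjugating a Sylow subgroup so that a conjugate of a central element becomes central. -/
theorem exists_sylow_central {p : ℕ} (S : Sylow p G) (t : G) (htS : t ∈ (S : Subgroup G))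
    (htZ : ∀ s ∈ (S : Subgroup G), s * t = t * s) (g : G) :
    ∃ S' : Sylow p G, Nonempty (↥(S : Subgroup G) ≃* ↥(S' : Subgroup G)) ∧
      g * t * g⁻¹ ∈ (S' : Subgroup G) ∧
      ∀ s ∈ (S' : Subgroup G), s * (g * t * g⁻¹) = (g * t * g⁻¹) * s := by
  refine ⟨g • S, ⟨Sylow.equivSMul S g⟩, ?_, ?_⟩
  · rw [Sylow.coe_subgroup_smul, Subgroup.mem_smul_pointwise_iff_exists]
    exact ⟨t, htS, by rw [MulAut.smul_def, MulAut.conj_apply]⟩
  · intro s hs
    rw [Sylow.coe_subgroup_smul, Subgroup.mem_smul_pointwise_iff_exists] at hs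
    obtain ⟨s₀, hs₀, rfl⟩ := hs
    rw [MulAut.smul_def, MulAut.conj_apply]
    have := htZ s₀ hs₀
    calc g * s₀ * g⁻¹ * (g * t * g⁻¹) = g * (s₀ * t) * g⁻¹ := by group
      _ = g * (t * s₀) * g⁻¹ := by rw [this]
      _ = g * t * g⁻¹ * (g * s₀ * g⁻¹) := by group

omit [Finite G] in
theorem mem_centralizer_map_subtype_iff (C : Subgroup G) (X : Subgroup ↥C) (c : ↥C) :
    c ∈ Subgroup.centralizer (X : Set ↥C) ↔
      (c : G) ∈ Subgroup.centralizer ((X.map C.subtype : Subgroup G) : Set G) := by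
  rw [Subgroup.mem_centralizer_iff, Subgroup.mem_centralizer_iff]
  constructor
  · rintro h _ ⟨v, hv, rfl⟩
    exact congrArg Subtype.val (h v hv)
  · intro h v hv
    apply Subtype.ext
    exact h (v : G) ⟨v, hv, rfl⟩

omit [Finite G] in
theorem QC_map_subtype (C : Subgroup G) (X : Subgroup ↥C) :
    QC X = (QC (X.map C.subtype)).subgroupOf C := by
  ext g
  rw [Subgroup.mem_subgroupOf, mem_QC_iff, mem_QC_iff]
  constructor
  · rintro ⟨q, hq, c, hc, rfl⟩
    exact ⟨(q : G), ⟨q, hq, rfl⟩, (c : G), (mem_centralizer_map_subtype_iff C X c).1 hc, rfl⟩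
  · rintro ⟨_, ⟨q, hq, rfl⟩, c, hc, h⟩
    have h : (g : G) = (q : G) * c := h
    have hcC : c ∈ C := by
      have : c = (q : G)⁻¹ * (g : G) := by rw [h]; group
      rw [this]
      exact C.mul_mem (C.inv_mem q.2) g.2
    refine ⟨q, hq, ⟨c, hcC⟩, (mem_centralizer_map_subtype_iff C X ⟨c, hcC⟩).2 hc, ?_⟩
    exact Subtype.ext h

omit [Finite G] in
/-- The index `|N(X) : X C(X)|` computed in a subgroup `C` containing `N_G(X)`. -/
theorem relIndex_QC_map_subtype (C : Subgroup G) (X : Subgroup ↥C)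
    (hN : Subgroup.normalizer ((X.map C.subtype : Subgroup G) : Set G) ≤ C) :
    (QC X).relIndex (Subgroup.normalizer (X : Set ↥C)) =
      (QC (X.map C.subtype)).relIndex
        (Subgroup.normalizer ((X.map C.subtype : Subgroup G) : Set G)) := by
  have h1 : Subgroup.normalizer (X : Set ↥C) =
      (Subgroup.normalizer ((X.map C.subtype : Subgroup G) : Set G)).subgroupOf C := by
    rw [Subgroup.subgroupOf_normalizer_eq (Subgroup.map_subtype_le X), subgroupOf_map_subtype_eq]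
  rw [h1, QC_map_subtype, Subgroup.relIndex_subgroupOf hN]

end Gen

section Transport

variable {A B : Type*} [Group A] [Group B]

theorem isWreathed_of_mulEquiv (e : A ≃* B) (h : Cfsg.IsWreathed A) : Cfsg.IsWreathed B := by
  obtain ⟨n, hn, hc, x, y, z, hx, hxy, hd, hz, hr⟩ := h
  refine ⟨n, hn, by rw [← Nat.card_congr e.toEquiv, hc], e x, e y, e z, ?_, ?_, ?_, ?_, ?_⟩
  · rw [MulEquiv.orderOf_eq, hx]
  · rw [← map_mul, ← map_mul, hxy]
  · have h1 : Subgroup.zpowers (e x) = (Subgroup.zpowers x).map e.toMonoidHom := by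
      rw [MonoidHom.map_zpowers]; rfl
    have h2 : Subgroup.zpowers (e y) = (Subgroup.zpowers y).map e.toMonoidHom := by
      rw [MonoidHom.map_zpowers]; rfl
    rw [h1, h2, ← Subgroup.map_inf _ _ _ e.injective, hd, Subgroup.map_bot]
  · rw [MulEquiv.orderOf_eq, hz]
  · rw [← map_inv, ← map_mul, ← map_mul, hr]

theorem isQuasiDihedral_of_mulEquiv (e : A ≃* B) (h : Cfsg.IsQuasiDihedral A) :
    Cfsg.IsQuasiDihedral B := by
  obtain ⟨n, hn, hc, x, y, hx, hy, hr⟩ := h
  refine ⟨n, hn, by rw [← Nat.card_congr e.toEquiv, hc], e x, e y, ?_, ?_, ?_⟩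
  · rw [MulEquiv.orderOf_eq, hx]
  · rw [MulEquiv.orderOf_eq, hy]
  · rw [← map_inv, ← map_mul, ← map_mul, hr, map_pow]

end Transport

end Cfsg.Agent.Lib.Helper2.WRJ
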