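import Mathlib
import Cfsg.Prelude.Def_CaseTheorems
import Cfsg.Agent.Lib.Helper2.WRJ

set_option autoImplicit false

/-!
# Recognizing quasi-dihedral and wreathed Sylow 2-subgroups from elements of the ambient group
-/

namespace Cfsg.Agent.Lib.Helper2.SylowRecog

open Cfsg Cfsg.Agent.Lib.Helper7 Cfsg.Agent.Lib.Helper2.WRJ

section Gen

variable {G : Type*} [Group G]

theorem isPGroup_zpowers_of_orderOf {g : G} {k : ℕ} (h : orderOf g = 2 ^ k) :
    IsPGroup 2 ↥(Subgroup.zpowers g) :=
  IsPGroup.of_card (n := k) (by rw [Nat.card_zpowers, h])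

theorem map_conj_zpowers (z g : G) :
    (Subgroup.zpowers g).map (MulAut.conj z).toMonoidHom = Subgroup.zpowers (z * g * z⁻¹) := by
  rw [MonoidHom.map_zpowers]
  rfl

/-- In a cyclic group there are elements of every order dividing the order of the group. -/
theorem exists_orderOf_eq_of_dvd [Finite G] [IsCyclic G] (d : ℕ) (hd : d ∣ Nat.card G) :
    ∃ g : G, orderOf g = d := by
  obtain ⟨g, hg⟩ := IsCyclic.exists_ofOrder_eq_natCard (α := G)
  obtain ⟨e, he⟩ := hd
  have hpos : 0 < Nat.card G := Nat.card_pos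
  have he0 : e ≠ 0 := by
    rintro rfl
    rw [mul_zero] at he; omega
  have hd0 : d ≠ 0 := by
    rintro rfl
    rw [zero_mul] at he; omega
  refine ⟨g ^ e, ?_⟩
  rw [orderOf_pow_of_dvd he0 (by rw [hg, he]; exact dvd_mul_left e d), hg, he,
    Nat.mul_div_cancel _ (Nat.pos_of_ne_zero he0)]

variable [Finite G]

/-- Elements generating a wreathed group of the right order force all Sylow 2-subgroups to be
wreathed. -/
theorem isWreathed_sylow_of_elements (n : ℕ) (hn : 2 ≤ n)
    (hcard : (Nat.card G).factorization 2 = 2 * n + 1)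
    (x y z : G) (hx : orderOf x = 2 ^ n) (hxy : x * y = y * x)
    (hd : Subgroup.zpowers x ⊓ Subgroup.zpowers y = ⊥) (hz : orderOf z = 2)
    (hr : z * x * z⁻¹ = y) (P : Sylow 2 G) : Cfsg.IsWreathed ↥(P : Subgroup G) := by
  haveI : Fact (Nat.Prime 2) := ⟨Nat.prime_two⟩
  have hzz : z * z = 1 := by
    have := pow_orderOf_eq_one z
    rwa [hz, pow_two] at this
  have hy : orderOf y = 2 ^ n := by
    rw [← hr, ← hx]
    exact orderOf_injective (MulAut.conj z).toMonoidHom (MulAut.conj z).injective x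
  have hr' : z * y * z⁻¹ = x := by
    rw [← hr]
    have hzi : z⁻¹ = z := inv_eq_of_mul_eq_one_left hzz
    rw [hzi]
    calc z * (z * x * z) * z = (z * z) * x * (z * z) := by group
      _ = x := by rw [hzz, one_mul, mul_one]
  have hpx := isPGroup_zpowers_of_orderOf hx
  have hpy := isPGroup_zpowers_of_orderOf hy
  have hpz := isPGroup_zpowers_of_orderOf (k := 1) (by rw [hz, pow_one])
  have hxN : Subgroup.zpowers x ≤ Subgroup.normalizer (Subgroup.zpowers y : Set G) := by
    refine le_trans ?_ (Subgroup.centralizer_le_normalizer _)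
    rw [Subgroup.zpowers_le, Subgroup.mem_centralizer_iff]
    intro h hh
    obtain ⟨k, rfl⟩ := Subgroup.mem_zpowers_iff.1 hh
    exact ((Commute.zpow_left (show Commute y x from hxy.symm) k)).eq
  have hK := IsPGroup.to_sup_of_normal_right' hpx hpy hxN
  have hzN : Subgroup.zpowers z ≤
      Subgroup.normalizer ((Subgroup.zpowers x ⊔ Subgroup.zpowers y : Subgroup G) : Set G) := by
    rw [Subgroup.zpowers_le, ← map_conj_eq_self_iff, Subgroup.map_sup, map_conj_zpowers,
      map_conj_zpowers, hr, hr', sup_comm]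
  have hH := IsPGroup.to_sup_of_normal_right' hpz hK hzN
  obtain ⟨P', hP'⟩ := hH.exists_le_sylow
  have hxP : x ∈ (P' : Subgroup G) :=
    hP' (le_sup_right (a := Subgroup.zpowers z) (le_sup_left (a := Subgroup.zpowers x)
      (Subgroup.mem_zpowers x)))
  have hyP : y ∈ (P' : Subgroup G) :=
    hP' (le_sup_right (a := Subgroup.zpowers z) (le_sup_right (a := Subgroup.zpowers x)
      (Subgroup.mem_zpowers y)))
  have hzP : z ∈ (P' : Subgroup G) :=
    hP' (le_sup_left (a := Subgroup.zpowers z) (Subgroup.mem_zpowers z))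
  have hcP : Nat.card ↥(P' : Subgroup G) = 2 ^ (2 * n + 1) := by
    rw [Sylow.card_eq_multiplicity, hcard]
  have hW : Cfsg.IsWreathed ↥(P' : Subgroup G) := by
    refine ⟨n, hn, hcP, ⟨x, hxP⟩, ⟨y, hyP⟩, ⟨z, hzP⟩, ?_, ?_, ?_, ?_, ?_⟩
    · rw [Subgroup.orderOf_mk, hx]
    · exact Subtype.ext hxy
    · rw [eq_bot_iff]
      rintro g ⟨hg1, hg2⟩
      obtain ⟨k, hk⟩ := Subgroup.mem_zpowers_iff.1 hg1
      obtain ⟨l, hl⟩ := Subgroup.mem_zpowers_iff.1 hg2
      have h1 : (g : G) ∈ Subgroup.zpowers x ⊓ Subgroup.zpowers y := by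
        constructor
        · refine Subgroup.mem_zpowers_iff.2 ⟨k, ?_⟩
          rw [← hk]; simp
        · refine Subgroup.mem_zpowers_iff.2 ⟨l, ?_⟩
          rw [← hl]; simp
      rw [hd, Subgroup.mem_bot] at h1
      rw [Subgroup.mem_bot]
      exact Subtype.ext h1
    · rw [Subgroup.orderOf_mk, hz]
    · exact Subtype.ext hr
  exact isWreathed_of_mulEquiv (Sylow.equiv P' P) hW

/-- Elements generating a quasi-dihedral group of the right order force all Sylow 2-subgroups
to be quasi-dihedral. -/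
theorem isQuasiDihedral_sylow_of_elements (n : ℕ) (hn : 3 ≤ n)
    (hcard : (Nat.card G).factorization 2 = n + 1)
    (x y : G) (hx : orderOf x = 2 ^ n) (hy : orderOf y = 2)
    (hr : y * x * y⁻¹ = x ^ (2 ^ (n - 1) - 1)) (P : Sylow 2 G) :
    Cfsg.IsQuasiDihedral ↥(P : Subgroup G) := by
  haveI : Fact (Nat.Prime 2) := ⟨Nat.prime_two⟩
  have hpx := isPGroup_zpowers_of_orderOf hx
  have hpy := isPGroup_zpowers_of_orderOf (k := 1) (by rw [hy, pow_one])
  have hyN : Subgroup.zpowers y ≤ Subgroup.normalizer (Subgroup.zpowers x : Set G) := by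
    rw [Subgroup.zpowers_le]
    haveI : Finite ↥(Subgroup.zpowers x) := inferInstance
    apply mem_normalizer_of_map_conj_le
    rw [map_conj_zpowers, hr, Subgroup.zpowers_le]
    exact Subgroup.pow_mem _ (Subgroup.mem_zpowers x) _
  have hH := IsPGroup.to_sup_of_normal_right' hpy hpx hyN
  obtain ⟨P', hP'⟩ := hH.exists_le_sylow
  have hxP : x ∈ (P' : Subgroup G) :=
    hP' (le_sup_right (a := Subgroup.zpowers y) (Subgroup.mem_zpowers x))
  have hyP : y ∈ (P' : Subgroup G) :=
    hP' (le_sup_left (a := Subgroup.zpowers y) (Subgroup.mem_zpowers y))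
  have hcP : Nat.card ↥(P' : Subgroup G) = 2 ^ (n + 1) := by
    rw [Sylow.card_eq_multiplicity, hcard]
  have hW : Cfsg.IsQuasiDihedral ↥(P' : Subgroup G) := by
    refine ⟨n, hn, hcP, ⟨x, hxP⟩, ⟨y, hyP⟩, ?_, ?_, ?_⟩
    · rw [Subgroup.orderOf_mk, hx]
    · rw [Subgroup.orderOf_mk, hy]
    · exact Subtype.ext hr
  exact isQuasiDihedral_of_mulEquiv (Sylow.equiv P' P) hW

end Gen

end Cfsg.Agent.Lib.Helper2.SylowRecog
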