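import Mathlib
import Cfsg.Agent.Lib.Helper2.SylowRecog
import Cfsg.Agent.Lib.Helper2.GLTwoArith

set_option autoImplicit false

/-!
# Sylow 2-subgroups of `GL(2, q)`, `q ≡ 3 (mod 4)`, are quasi-dihedral
-/

namespace Cfsg.Agent.Lib.Helper2.GLTwoQD

open Cfsg Cfsg.Agent.Lib.Helper2.SylowRecog Cfsg.Agent.Lib.Helper2.GLTwoArith

section

variable {F : Type*} [Field F] [Fintype F]

/-- Sylow 2-subgroups of `GL(2, q)`, `q ≡ 3 (mod 4)`, are quasi-dihedral. -/
theorem qd_case (hq : Fintype.card F % 4 = 3) (P : Sylow 2 (GL (Fin 2) F)) :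
    Cfsg.IsQuasiDihedral ↥(P : Subgroup (GL (Fin 2) F)) := by
  classical
  set q := Fintype.card F with hq_def
  obtain ⟨hv, hm⟩ := v2_GL_of_three q hq
  set m := (q + 1).factorization 2 with hm_def
  have hcard : (Nat.card (GL (Fin 2) F)).factorization 2 = (m + 1) + 1 := by
    rw [card_GL_two]; exact hv
  -- the quadratic extension
  set p := ringChar F with hp_def
  haveI : CharP F p := ringChar.charP F
  haveI : Fact p.Prime := ⟨CharP.char_is_prime F p⟩
  let L := FiniteField.Extension F p 2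
  have hfr : Module.finrank F L = 2 := FiniteField.finrank_extension F p 2
  have hcL : Nat.card L = q ^ 2 := by
    rw [FiniteField.natCard_extension F p 2, Nat.card_eq_fintype_card]
  let b : Module.Basis (Fin 2) F L := Module.finBasisOfFinrankEq F L hfr
  let φ : L →ₐ[F] Matrix (Fin 2) (Fin 2) F := Algebra.leftMulMatrix b
  have hφ : Function.Injective φ := Algebra.leftMulMatrix_injective b
  let Φ : Lˣ →* GL (Fin 2) F := Units.map (φ : L →* Matrix (Fin 2) (Fin 2) F)
  have hΦ : Function.Injective Φ := Units.map_injective hφ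
  -- an element of order `2^(m+1)`
  have hdvd : 2 ^ (m + 1) ∣ Nat.card Lˣ := by
    rw [Nat.card_units, hcL, sq_sub_one q (by omega)]
    have h1 : 2 ∣ q - 1 := by omega
    have h2 : 2 ^ m ∣ q + 1 := Nat.ordProj_dvd _ 2
    rw [pow_succ, mul_comm]
    exact Nat.mul_dvd_mul h1 h2
  obtain ⟨ε, hε⟩ := exists_orderOf_eq_of_dvd (G := Lˣ) (2 ^ (m + 1)) hdvd
  have hx : orderOf (Φ ε) = 2 ^ (m + 1) := by
    rw [orderOf_injective Φ hΦ, hε]
  -- the Frobenius automorphism
  let σ : L ≃ₐ[F] L := FiniteField.frobeniusAlgEquivOfAlgebraic F L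
  have hσo : orderOf σ = 2 := by
    rw [FiniteField.orderOf_frobeniusAlgEquivOfAlgebraic, hfr]
  have hσa : ∀ a : L, σ a = a ^ q := fun a => rfl
  have hσσ : σ.toLinearMap ∘ₗ σ.toLinearMap = LinearMap.id := by
    have h1 : σ ^ 2 = 1 := by
      have := pow_orderOf_eq_one σ
      rwa [hσo] at this
    ext a
    have h2 := DFunLike.congr_fun h1 a
    rw [pow_two] at h2
    exact h2
  let My : Matrix (Fin 2) (Fin 2) F := LinearMap.toMatrix b b σ.toLinearMap
  have hMy : My * My = 1 := by
    show LinearMap.toMatrix b b σ.toLinearMap * LinearMap.toMatrix b b σ.toLinearMap = 1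
    rw [← LinearMap.toMatrix_comp, hσσ, LinearMap.toMatrix_id]
  let y : GL (Fin 2) F := ⟨My, My, hMy, hMy⟩
  have hyy : y * y = 1 := Units.ext hMy
  have hy1 : y ≠ 1 := by
    intro h
    have h1 : LinearMap.toMatrix b b σ.toLinearMap = 1 := congrArg Units.val h
    rw [← LinearMap.toMatrix_id b] at h1
    have h2 := (LinearMap.toMatrix b b).injective h1
    have h3 : σ = 1 := by
      ext a
      exact LinearMap.congr_fun h2 a
    rw [h3, orderOf_one] at hσo
    omega
  have hy : orderOf y = 2 := by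
    haveI : Fact (Nat.Prime 2) := ⟨Nat.prime_two⟩
    exact orderOf_eq_prime (by rw [pow_two]; exact hyy) hy1
  -- the relation
  have hrel : y * Φ ε = Φ ε ^ q * y := by
    apply Units.ext
    rw [Units.val_mul, Units.val_mul, Units.val_pow_eq_pow_val]
    show My * φ (ε : L) = φ (ε : L) ^ q * My
    rw [← map_pow]
    show LinearMap.toMatrix b b σ.toLinearMap * Algebra.leftMulMatrix b (ε : L) =
      Algebra.leftMulMatrix b ((ε : L) ^ q) * LinearMap.toMatrix b b σ.toLinearMap
    rw [Algebra.leftMulMatrix_apply, Algebra.leftMulMatrix_apply, ← LinearMap.toMatrix_comp,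
      ← LinearMap.toMatrix_comp]
    congr 1
    ext a
    show σ ((ε : L) * a) = (ε : L) ^ q * σ a
    rw [map_mul, hσa (ε : L)]
  have hr : y * Φ ε * y⁻¹ = Φ ε ^ (2 ^ (m + 1 - 1) - 1) := by
    rw [mul_inv_eq_iff_eq_mul, hrel]
    congr 1
    rw [pow_eq_pow_iff_modEq, hx, Nat.add_sub_cancel]
    exact modEq_of_v2 q m rfl (by omega)
  exact isQuasiDihedral_sylow_of_elements (m + 1) (by omega) hcard (Φ ε) y hx hy hr P

end

end Cfsg.Agent.Lib.Helper2.GLTwoQD
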