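import Mathlib

/-!
# Chevalley–Warning for the squaring map of a 2-group whose squares are central involutions
-/

set_option autoImplicit false

open scoped commutatorElement

namespace Cfsg.Agent.Lib.Helper2

/-- functions on `Fin k → ZMod 2` given by polynomials of total degree `≤ d` -/
def IsPolyFun (k d : ℕ) (F : (Fin k → ZMod 2) → ZMod 2) : Prop :=
  ∃ f : MvPolynomial (Fin k) (ZMod 2), f.totalDegree ≤ d ∧ ∀ a, MvPolynomial.eval a f = F a

namespace IsPolyFun

variable {k d : ℕ}

theorem zero : IsPolyFun k d (fun _ => 0) :=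
  ⟨0, by simp, fun a => by simp⟩

theorem add {F F' : (Fin k → ZMod 2) → ZMod 2} (h : IsPolyFun k d F) (h' : IsPolyFun k d F') :
    IsPolyFun k d (fun a => F a + F' a) := by
  obtain ⟨f, hf, hfe⟩ := h
  obtain ⟨f', hf', hfe'⟩ := h'
  refine ⟨f + f', (MvPolynomial.totalDegree_add f f').trans (max_le hf hf'), fun a => ?_⟩
  rw [map_add, hfe, hfe']

theorem coord_mul (i : Fin k) (c : ZMod 2) : IsPolyFun k 2 (fun a => a i * c) := by
  refine ⟨MvPolynomial.X i * MvPolynomial.C c, ?_, fun a => by simp⟩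
  refine (MvPolynomial.totalDegree_mul _ _).trans ?_
  rw [MvPolynomial.totalDegree_C, MvPolynomial.totalDegree_X]
  omega

theorem coord_mul_coord_mul (i j : Fin k) (c : ZMod 2) :
    IsPolyFun k 2 (fun a => a i * a j * c) := by
  refine ⟨MvPolynomial.X i * MvPolynomial.X j * MvPolynomial.C c, ?_, fun a => by simp⟩
  refine (MvPolynomial.totalDegree_mul _ _).trans ?_
  rw [MvPolynomial.totalDegree_C]
  refine (Nat.add_le_add_right (MvPolynomial.totalDegree_mul _ _) 0).trans ?_
  rw [MvPolynomial.totalDegree_X, MvPolynomial.totalDegree_X]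

theorem congr {F F' : (Fin k → ZMod 2) → ZMod 2} (h : IsPolyFun k d F) (hFF' : ∀ a, F a = F' a) :
    IsPolyFun k d F' := by
  obtain ⟨f, hf, hfe⟩ := h
  exact ⟨f, hf, fun a => (hfe a).trans (hFF' a)⟩

end IsPolyFun

/-- Chevalley–Warning for `m` functions of degree `≤ 2` in `k > 2m` variables over `𝔽₂`. -/
theorem exists_ne_zero_of_isPolyFun {k m : ℕ} (hkm : 2 * m < k)
    (F : Fin m → (Fin k → ZMod 2) → ZMod 2) (hF : ∀ l, IsPolyFun k 2 (F l))
    (h0 : ∀ l, F l 0 = 0) : ∃ a : Fin k → ZMod 2, a ≠ 0 ∧ ∀ l, F l a = 0 := by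
  classical
  choose f hf hfe using hF
  have hsum : (∑ l : Fin m, (f l).totalDegree) < Fintype.card (Fin k) := by
    rw [Fintype.card_fin]
    calc (∑ l : Fin m, (f l).totalDegree) ≤ ∑ _l : Fin m, 2 := Finset.sum_le_sum (fun l _ => hf l)
      _ = 2 * m := by simp [mul_comm]
      _ < k := hkm
  have hdvd := char_dvd_card_solutions_of_fintype_sum_lt 2 hsum
  by_contra hcon
  push Not at hcon
  have huniq : ∀ x : {x : Fin k → ZMod 2 // ∀ l, MvPolynomial.eval x (f l) = 0},
      x = ⟨0, fun l => by rw [hfe, h0]⟩ := by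
    rintro ⟨x, hx⟩
    apply Subtype.ext
    by_contra hx0
    obtain ⟨l, hl⟩ := hcon x hx0
    exact hl (by rw [← hfe, hx])
  have hcard : Nat.card {x : Fin k → ZMod 2 // ∀ l, MvPolynomial.eval x (f l) = 0} = 1 := by
    rw [Nat.card_eq_one_iff_exists]
    exact ⟨_, huniq⟩
  rw [Fintype.card_eq_nat_card, hcard] at hdvd
  omega

theorem zmod2_cases (a : ZMod 2) : a = 0 ∨ a = 1 := by
  revert a; decide

theorem comm_of_sq_eq_one {V : Type*} [Group V] (h2 : ∀ v : V, v ^ 2 = 1) (a b : V) :
    a * b = b * a := by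
  have ha : a⁻¹ = a := by rw [inv_eq_iff_mul_eq_one, ← pow_two, h2]
  have hb : b⁻¹ = b := by rw [inv_eq_iff_mul_eq_one, ← pow_two, h2]
  have hab : (a * b)⁻¹ = a * b := by rw [inv_eq_iff_mul_eq_one, ← pow_two, h2]
  rw [mul_inv_rev, ha, hb] at hab
  exact hab.symm

/-- a basis and a dual basis of a finite group of exponent two -/
theorem exists_basis_data (V : Type*) [Group V] [Finite V] (h2 : ∀ v : V, v ^ 2 = 1) :
    ∃ (m : ℕ) (b : Fin m → V) (lam : Fin m → V → ZMod 2), Nat.card V = 2 ^ m ∧
      (∀ l s t, lam l (s * t) = lam l s + lam l t) ∧ (∀ t, (∀ l, lam l t = 0) → t = 1) ∧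
      (∀ a : Fin m → ZMod 2,
        ((List.finRange m).map (fun i => b i ^ (a i).val)).prod = 1 → a = 0) := by
  classical
  letI inst : CommGroup V :=
    { (inferInstance : Group V) with mul_comm := comm_of_sq_eq_one h2 }
  letI modInst : Module (ZMod 2) (Additive V) := AddCommGroup.zmodModule (n := 2) (by
    intro x
    show Additive.ofMul (Additive.toMul x ^ 2) = 0
    rw [h2]
    rfl)
  haveI : Module.Finite (ZMod 2) (Additive V) := Module.Finite.of_finite
  let B := Module.finBasis (ZMod 2) (Additive V)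
  refine ⟨Module.finrank (ZMod 2) (Additive V), fun i => Additive.toMul (B i),
    fun l t => B.repr (Additive.ofMul t) l, ?_, ?_, ?_, ?_⟩
  · have := Module.natCard_eq_pow_finrank (K := ZMod 2) (V := Additive V)
    rw [Nat.card_zmod] at this
    exact this
  · intro l s t
    show B.repr (Additive.ofMul s + Additive.ofMul t) l = _
    rw [map_add]
    rfl
  · intro t ht
    have : Additive.ofMul t = 0 := by
      apply B.repr.injective
      ext l
      rw [map_zero]
      exact ht l
    exact this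
  · intro a ha
    have h1 : ∑ i, a i • B i = 0 := by
      have h3 := congrArg Additive.ofMul ha
      rw [ofMul_list_prod, List.map_map] at h3
      have h4 : (Additive.ofMul ∘ fun i => Additive.toMul (B i) ^ (a i).val) =
          fun i => a i • B i := by
        funext i
        show Additive.ofMul (Additive.toMul (B i) ^ (a i).val) = a i • B i
        rw [ofMul_pow, ofMul_toMul, ← Nat.cast_smul_eq_nsmul (ZMod 2), ZMod.natCast_zmod_val]
      rw [h4, ← List.ofFn_eq_map, List.sum_ofFn] at h3
      exact h3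
    funext i
    exact Fintype.linearIndependent_iff.1 B.linearIndependent a h1 i

section group

variable {G : Type*} [Group G]

/-- the product of the `x i ^ a i` along a list of indices -/
def listProd {k : ℕ} (x : Fin k → G) (L : List (Fin k)) (a : Fin k → ZMod 2) : G :=
  (L.map (fun i => x i ^ (a i).val)).prod

theorem listProd_nil {k : ℕ} (x : Fin k → G) (a : Fin k → ZMod 2) : listProd x [] a = 1 := rfl

theorem listProd_cons {k : ℕ} (x : Fin k → G) (i : Fin k) (L : List (Fin k))
    (a : Fin k → ZMod 2) : listProd x (i :: L) a = x i ^ (a i).val * listProd x L a := by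
  simp [listProd]

theorem listProd_zero {k : ℕ} (x : Fin k → G) (L : List (Fin k)) : listProd x L 0 = 1 := by
  induction L with
  | nil => rfl
  | cons i L ih => rw [listProd_cons, ih]; simp

variable (T : Subgroup G)

theorem normal_of_le_center' (hTc : T ≤ Subgroup.center G) : T.Normal := by
  constructor
  intro t ht g
  have := Subgroup.mem_center_iff.mp (hTc ht) g
  rw [this, mul_inv_cancel_right]
  exact ht

theorem commutatorElement_mem_of_sq_mem (hTc : T ≤ Subgroup.center G) (hsq : ∀ g : G, g ^ 2 ∈ T)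
    (g h : G) : ⁅g, h⁆ ∈ T := by
  haveI := normal_of_le_center' T hTc
  rw [← QuotientGroup.eq_one_iff]
  show (QuotientGroup.mk' T) ⁅g, h⁆ = 1
  rw [map_commutatorElement, commutatorElement_eq_one_iff_commute]
  apply comm_of_sq_eq_one
  intro v
  induction v using QuotientGroup.induction_on with
  | H z =>
    rw [← QuotientGroup.mk_pow, QuotientGroup.eq_one_iff]
    exact hsq z

variable {T}

theorem commutatorElement_mul_left_of_central (hTc : T ≤ Subgroup.center G)
    (hsq : ∀ g : G, g ^ 2 ∈ T) (u v y : G) : ⁅u * v, y⁆ = ⁅u, y⁆ * ⁅v, y⁆ := by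
  have hc := Subgroup.mem_center_iff.mp (hTc (commutatorElement_mem_of_sq_mem T hTc hsq v y))
  calc ⁅u * v, y⁆ = u * ⁅v, y⁆ * y * u⁻¹ * y⁻¹ := by
        simp only [commutatorElement_def]; group
    _ = ⁅v, y⁆ * u * y * u⁻¹ * y⁻¹ := by rw [hc u]
    _ = ⁅u, y⁆ * ⁅v, y⁆ := by
        rw [hc ⁅u, y⁆]; simp only [commutatorElement_def, mul_assoc]

theorem mul_sq_of_central (hTc : T ≤ Subgroup.center G) (hsq : ∀ g : G, g ^ 2 ∈ T) (y h : G) :
    (y * h) ^ 2 = ⁅h, y⁆ * y ^ 2 * h ^ 2 := by
  have hc := Subgroup.mem_center_iff.mp (hTc (commutatorElement_mem_of_sq_mem T hTc hsq h y))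
  have h0 : h * y = ⁅h, y⁆ * y * h := by simp only [commutatorElement_def]; group
  calc (y * h) ^ 2 = y * (h * y) * h := by simp only [pow_two, mul_assoc]
    _ = y * (⁅h, y⁆ * y * h) * h := by rw [h0]
    _ = (y * ⁅h, y⁆) * y * h * h := by simp only [mul_assoc]
    _ = ⁅h, y⁆ * y ^ 2 * h ^ 2 := by rw [hc y]; simp only [pow_two, mul_assoc]

variable (lam : G → ZMod 2)

theorem lam_one (hlam : ∀ s ∈ T, ∀ t ∈ T, lam (s * t) = lam s + lam t) : lam 1 = 0 := by
  have := hlam 1 T.one_mem 1 T.one_mem
  rw [mul_one] at this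
  have h2 : lam 1 + lam 1 = lam 1 + 0 := by rw [add_zero]; exact this.symm
  exact add_left_cancel h2

theorem isPolyFun_commutator (hTc : T ≤ Subgroup.center G) (hsq : ∀ g : G, g ^ 2 ∈ T)
    (hlam : ∀ s ∈ T, ∀ t ∈ T, lam (s * t) = lam s + lam t) {k : ℕ} (x : Fin k → G) (j : Fin k)
    (L : List (Fin k)) :
    IsPolyFun k 2 (fun a => lam ⁅listProd x L a, x j ^ (a j).val⁆) := by
  have h1 := lam_one lam hlam
  induction L with
  | nil =>
    refine IsPolyFun.zero.congr (fun a => ?_)
    rw [listProd_nil, commutatorElement_one_left, h1]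
  | cons i L ih =>
    refine ((IsPolyFun.coord_mul_coord_mul i j (lam ⁅x i, x j⁆)).add ih).congr (fun a => ?_)
    rw [listProd_cons, commutatorElement_mul_left_of_central hTc hsq,
      hlam _ (commutatorElement_mem_of_sq_mem T hTc hsq _ _) _
        (commutatorElement_mem_of_sq_mem T hTc hsq _ _)]
    congr 1
    rcases zmod2_cases (a i) with hi | hi <;> rcases zmod2_cases (a j) with hj | hj <;>
      simp [hi, hj, h1, ZMod.val_one]

theorem isPolyFun_sq (hTc : T ≤ Subgroup.center G) (hsq : ∀ g : G, g ^ 2 ∈ T)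
    (hlam : ∀ s ∈ T, ∀ t ∈ T, lam (s * t) = lam s + lam t) {k : ℕ} (x : Fin k → G)
    (L : List (Fin k)) :
    IsPolyFun k 2 (fun a => lam ((listProd x L a) ^ 2)) := by
  have h1 := lam_one lam hlam
  induction L with
  | nil =>
    refine IsPolyFun.zero.congr (fun a => ?_)
    rw [listProd_nil, one_pow, h1]
  | cons i L ih =>
    refine (((isPolyFun_commutator lam hTc hsq hlam x i L).add
      (IsPolyFun.coord_mul i (lam (x i ^ 2)))).add ih).congr (fun a => ?_)
    rw [listProd_cons, mul_sq_of_central hTc hsq,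
      hlam _ (T.mul_mem (commutatorElement_mem_of_sq_mem T hTc hsq _ _) (hsq _)) _ (hsq _),
      hlam _ (commutatorElement_mem_of_sq_mem T hTc hsq _ _) _ (hsq _)]
    congr 2
    rcases zmod2_cases (a i) with hi | hi <;> simp [hi, h1, ZMod.val_one]

/-- Chevalley–Warning in a group whose squares lie in a central subgroup of exponent two -/
theorem exists_ne_zero_listProd_sq_eq_one (T : Subgroup G) [Finite T]
    (hTc : T ≤ Subgroup.center G) (hT2 : ∀ t ∈ T, t ^ 2 = 1) (hsq : ∀ g : G, g ^ 2 ∈ T) {k : ℕ}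
    (x : Fin k → G) (hk : Nat.card T ^ 2 < 2 ^ k) :
    ∃ a : Fin k → ZMod 2, a ≠ 0 ∧ (listProd x (List.finRange k) a) ^ 2 = 1 := by
  classical
  obtain ⟨m, -, lam', hcard, hadd, hinj, -⟩ := exists_basis_data ↥T
    (fun t => Subtype.ext (by simpa using hT2 t.1 t.2))
  set lam : Fin m → G → ZMod 2 := fun l g => if h : g ∈ T then lam' l ⟨g, h⟩ else 0 with hlamdef
  have hlam : ∀ l, ∀ s ∈ T, ∀ t ∈ T, lam l (s * t) = lam l s + lam l t := by
    intro l s hs t ht
    simp only [hlamdef, dif_pos hs, dif_pos ht, dif_pos (T.mul_mem hs ht)]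
    exact hadd l ⟨s, hs⟩ ⟨t, ht⟩
  have hkm : 2 * m < k := by
    rw [hcard, ← pow_mul, mul_comm] at hk
    exact (Nat.pow_lt_pow_iff_right (by norm_num)).mp hk
  obtain ⟨a, ha0, ha⟩ := exists_ne_zero_of_isPolyFun hkm
    (fun l a => lam l ((listProd x (List.finRange k) a) ^ 2))
    (fun l => isPolyFun_sq (lam l) hTc hsq (hlam l) x _)
    (fun l => by
      show lam l ((listProd x (List.finRange k) 0) ^ 2) = 0
      rw [listProd_zero, one_pow]
      exact lam_one (lam l) (hlam l))
  refine ⟨a, ha0, ?_⟩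
  have hmem := hsq (listProd x (List.finRange k) a)
  have h1 : (⟨_, hmem⟩ : ↥T) = 1 := by
    apply hinj
    intro l
    have := ha l
    simp only [hlamdef, dif_pos hmem] at this
    exact this
  exact congrArg Subtype.val h1

/-- If all squares of `G` lie in the central subgroup `T` of exponent two and `N` is a subgroup
containing all involutions, then `|G : N| ≤ |T|²`. -/
theorem index_le_card_sq_of_central_sq [Finite G] (T : Subgroup G)
    (hTc : T ≤ Subgroup.center G) (hT2 : ∀ t ∈ T, t ^ 2 = 1) (hsq : ∀ g : G, g ^ 2 ∈ T)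
    (N : Subgroup G) (hN : ∀ x : G, x ^ 2 = 1 → x ∈ N) : N.index ≤ Nat.card T ^ 2 := by
  have hTN : T ≤ N := fun t ht => hN t (hT2 t ht)
  haveI hNn : N.Normal := by
    constructor
    intro n hn g
    have h1 : g * n * g⁻¹ = ⁅g, n⁆ * n := by simp only [commutatorElement_def]; group
    rw [h1]
    exact N.mul_mem (hTN (commutatorElement_mem_of_sq_mem T hTc hsq g n)) hn
  have hV2 : ∀ v : G ⧸ N, v ^ 2 = 1 := by
    intro v
    induction v using QuotientGroup.induction_on with
    | H z =>
      rw [← QuotientGroup.mk_pow, QuotientGroup.eq_one_iff]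
      exact hTN (hsq z)
  obtain ⟨k, b, -, hcard, -, -, hindep⟩ := exists_basis_data (G ⧸ N) hV2
  by_contra hcon
  push Not at hcon
  rw [Subgroup.index_eq_card, hcard] at hcon
  obtain ⟨a, ha0, ha⟩ := exists_ne_zero_listProd_sq_eq_one T hTc hT2 hsq
    (fun i => (b i).out) hcon
  apply ha0
  apply hindep
  have h1 : listProd (fun i => (b i).out) (List.finRange k) a ∈ N := hN _ ha
  rw [← QuotientGroup.eq_one_iff] at h1
  have h2 : ((listProd (fun i => (b i).out) (List.finRange k) a : G) : G ⧸ N) =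
      ((List.finRange k).map (fun i => b i ^ (a i).val)).prod := by
    show (QuotientGroup.mk' N) (listProd (fun i => (b i).out) (List.finRange k) a) = _
    rw [listProd, map_list_prod, List.map_map]
    congr 1
    apply List.map_congr_left
    intro i _
    show (QuotientGroup.mk' N) ((b i).out ^ (a i).val) = _
    rw [map_pow, QuotientGroup.mk'_apply, QuotientGroup.out_eq']
  rw [← h2]
  exact h1

end group

end Cfsg.Agent.Lib.Helper2
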