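import Mathlib
import Cfsg.Agent.Lib.Helper1.LBALAct

/-! Farm LBAL (S1301), unit TCres: the induction hypothesis of Theorem T on a proper invariant
subgroup. -/

set_option autoImplicit false

namespace Cfsg.Agent.Lib.Helper2.LBAL

open Cfsg Cfsg.Agent.Lib.Helper1.LBAL

universe u v

/-- TCres: the induction hypothesis transported to a proper `D`-invariant subgroup `N` in which
`S ∩ N` is a Sylow 2-subgroup (`resAct`). -/
theorem TCres {D : Type v} [Group D] (Q : Subgroup D) {H : Type u} [Group H] [Finite H]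
    (φ : D →* MulAut H) (S : Sylow 2 H) (hfix : ∀ d : D, ∀ s ∈ S, φ d s = s)
    (hIH : TIH.{u, v} D Q (Nat.card H)) (N : Subgroup H) (hN : N ≠ ⊤)
    (hDN : ∀ d : D, ∀ n ∈ N, φ d n ∈ N)
    (hSyl : ¬ 2 ∣ ((S : Subgroup H) ⊓ N).relIndex N) :
    ∀ q ∈ Q, ∀ n ∈ N, n⁻¹ * φ q n ∈ (Cfsg.oddCore ↥N).map N.subtype := by
  haveI : Fact (Nat.Prime 2) := ⟨Nat.prime_two⟩
  have hcard : Nat.card ↥N < Nat.card H := by
    refine lt_of_le_of_ne (Subgroup.card_le_card_group N) ?_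
    intro h
    exact hN ((Subgroup.card_eq_iff_eq_top N).1 h)
  have hp2 : IsPGroup 2 ↥(((S : Subgroup H) ⊓ N).subgroupOf N) := by
    have h1 : IsPGroup 2 ↥((S : Subgroup H) ⊓ N) := S.2.to_le inf_le_left
    exact h1.comap_of_injective N.subtype (Subgroup.subtype_injective N)
  have hidx : ¬ 2 ∣ (((S : Subgroup H) ⊓ N).subgroupOf N).index := hSyl
  set SN : Sylow 2 ↥N := hp2.toSylow hidx with hSN
  have hfix' : ∀ d : D, ∀ s ∈ SN, resAct φ N hDN d s = s := by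
    intro d s hs
    have hs' : s ∈ ((S : Subgroup H) ⊓ N).subgroupOf N := hs
    rw [Subgroup.mem_subgroupOf] at hs'
    apply Subtype.ext
    rw [resAct_coe]
    exact hfix d s hs'.1
  have key := hIH ↥N (resAct φ N hDN) SN hcard hfix'
  intro q hq n hn
  have h1 := key q hq ⟨n, hn⟩
  refine ⟨_, h1, ?_⟩
  show ((⟨n, hn⟩ : ↥N)⁻¹ * resAct φ N hDN q ⟨n, hn⟩ : ↥N).1 = n⁻¹ * φ q n
  rfl

end Cfsg.Agent.Lib.Helper2.LBAL
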