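import Mathlib
import Cfsg.Agent.Lib.Helper1.LBALAct
import Cfsg.Agent.Lib.Helper1.PLengthOne
import Cfsg.Agent.Lib.Helper2.Cores

/-! Farm LBAL (S1301), unit TA: the case `O(H) ≠ 1` of Theorem T. -/

set_option autoImplicit false

namespace Cfsg.Agent.Lib.Helper2.LBAL

open Cfsg Cfsg.Agent.Lib.Helper1.LBAL

universe u v

/-- TA (case `O(H) ≠ 1`): pass to `H / O(H)` (`quotAct`, `O(H/O(H)) = 1`). -/
theorem TA {D : Type v} [Group D] (Q : Subgroup D) {H : Type u} [Group H] [Finite H]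
    (φ : D →* MulAut H) (S : Sylow 2 H) (hfix : ∀ d : D, ∀ s ∈ S, φ d s = s)
    (hIH : TIH.{u, v} D Q (Nat.card H)) (hO : Cfsg.oddCore H ≠ ⊥) : TStmt φ Q := by
  haveI : Fact (Nat.Prime 2) := ⟨Nat.prime_two⟩
  have hchar : (pPrimeCore 2 H).Characteristic :=
    Cfsg.Agent.Lib.Helper2.pPrimeCore_characteristic 2
  have hN : ∀ d : D, ∀ n ∈ pPrimeCore 2 H, φ d n ∈ pPrimeCore 2 H := by
    intro d n hn
    have h1 := (Subgroup.characteristic_iff_map_eq.1 hchar) (φ d)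
    rw [← h1]
    exact ⟨n, hn, rfl⟩
  have hcard : Nat.card (H ⧸ pPrimeCore 2 H) < Nat.card H := by
    have h1 := Subgroup.card_eq_card_quotient_mul_card_subgroup (pPrimeCore 2 H)
    have h2 : 1 < Nat.card ↥(pPrimeCore 2 H) := (Subgroup.one_lt_card_iff_ne_bot _).2 hO
    have h3 : 0 < Nat.card (H ⧸ pPrimeCore 2 H) := Nat.card_pos
    rw [h1]
    nlinarith
  have hsurj : Function.Surjective (QuotientGroup.mk' (pPrimeCore 2 H)) :=
    QuotientGroup.mk'_surjective _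
  have hfix' : ∀ d : D, ∀ s ∈ S.mapSurjective hsurj,
      quotAct φ (pPrimeCore 2 H) hN d s = s := by
    intro d s hs
    have hs' : s ∈ (S : Subgroup H).map (QuotientGroup.mk' (pPrimeCore 2 H)) := hs
    obtain ⟨t, ht, rfl⟩ := hs'
    show quotAct φ (pPrimeCore 2 H) hN d ((t : H) : H ⧸ pPrimeCore 2 H) = _
    rw [quotAct_mk, hfix d t ht]
    rfl
  have key := hIH (H ⧸ pPrimeCore 2 H) (quotAct φ (pPrimeCore 2 H) hN)
    (S.mapSurjective hsurj) hcard hfix'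
  intro q hq h
  have h1 := key q hq ((h : H) : H ⧸ pPrimeCore 2 H)
  have h2 : Cfsg.oddCore (H ⧸ pPrimeCore 2 H) = ⊥ :=
    Cfsg.Agent.Lib.Helper1.pPrimeCore_quotient_eq_bot 2
  rw [h2, Subgroup.mem_bot, quotAct_mk] at h1
  have h3 : (((h⁻¹ * φ q h : H)) : H ⧸ pPrimeCore 2 H) = 1 := by
    rw [QuotientGroup.mk_mul, QuotientGroup.mk_inv]
    exact h1
  exact (QuotientGroup.eq_one_iff _).1 h3

end Cfsg.Agent.Lib.Helper2.LBAL
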