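import Mathlib
import Cfsg.Agent.Lib.Helper1.LBALAct
import Cfsg.Agent.Lib.Helper1.PCore
import Cfsg.Agent.Lib.Lead.HallSylow

/-! Farm LBAL (S1301), unit TB2: second half of case B of Theorem T. -/

set_option autoImplicit false

namespace Cfsg.Agent.Lib.Helper2.LBAL

open Cfsg Cfsg.Agent.Lib.Helper1.LBAL

universe u v

/-- TB2 (second half of case B): if `h⁻¹ q(h) ∈ Z(W)`, `W = O_2(H)`, for all `q ∈ Q`, then `φ(Q)` is
central in `φ(D)`, hence trivial because `Q ≤ [Q, D]`. -/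
theorem TB2 {D : Type v} [Group D] (Q : Subgroup D) (hQD : Q ≤ ⁅Q, (⊤ : Subgroup D)⁆)
    {H : Type u} [Group H] [Finite H]
    (φ : D →* MulAut H) (S : Sylow 2 H) (hfix : ∀ d : D, ∀ s ∈ S, φ d s = s)
    (h1 : ∀ q ∈ Q, ∀ h : H, h⁻¹ * φ q h ∈
      Cfsg.pCore 2 H ⊓ Subgroup.centralizer (Cfsg.pCore 2 H : Set H)) :
    ∀ q ∈ Q, ∀ h : H, φ q h = h := by
  haveI : Fact (Nat.Prime 2) := ⟨Nat.prime_two⟩
  set W := Cfsg.pCore 2 H with hWdef
  haveI hWn : W.Normal := Cfsg.Agent.Lib.Helper1.pCore_normal 2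
  have hWS : W ≤ (S : Subgroup H) := Cfsg.Agent.Lib.Helper1.pCore_le_sylow 2 S
  have hW2 : IsPGroup 2 ↥W := Cfsg.Agent.Lib.Helper1.pCore_isPGroup 2
  set C := Subgroup.centralizer (W : Set H) with hCdef
  haveI hCn : C.Normal := Subgroup.normal_centralizer
  -- (1) `h⁻¹ d(h) ∈ C_H(W)`
  have hc : ∀ d : D, ∀ h : H, h⁻¹ * φ d h ∈ C := by
    intro d h
    rw [hCdef, Subgroup.mem_centralizer_iff]
    intro w hw
    have hw' : h * w * h⁻¹ ∈ W := hWn.conj_mem w hw h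
    have e1 : φ d (h * w * h⁻¹) = h * w * h⁻¹ := hfix d _ (hWS hw')
    have e2 : φ d w = w := hfix d _ (hWS hw)
    rw [map_mul, map_mul, map_inv, e2] at e1
    calc w * (h⁻¹ * φ d h) = h⁻¹ * (h * w * h⁻¹) * φ d h := by group
      _ = h⁻¹ * (φ d h * w * (φ d h)⁻¹) * φ d h := by rw [e1]
      _ = h⁻¹ * φ d h * w := by group
  -- (2) `q` is trivial on `C_H(W)`
  have hqC : ∀ q ∈ Q, ∀ c ∈ C, φ q c = c := by
    intro q hq
    let f : ↥C →* ↥(W ⊓ C) :=
      { toFun := fun c => ⟨(c : H)⁻¹ * φ q c, h1 q hq c⟩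
        map_one' := by
          apply Subtype.ext
          show ((1 : ↥C) : H)⁻¹ * φ q ((1 : ↥C) : H) = 1
          simp
        map_mul' := by
          intro x y
          apply Subtype.ext
          show ((x : H) * y)⁻¹ * φ q ((x : H) * y) = ((x : H)⁻¹ * φ q x) * ((y : H)⁻¹ * φ q y)
          have hz : (x : H)⁻¹ * φ q x ∈ W := (h1 q hq x).1
          have hcomm : (x : H)⁻¹ * φ q x * y = y * ((x : H)⁻¹ * φ q x) :=
            Subgroup.mem_centralizer_iff.1 y.2 _ hz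
          rw [map_mul]
          calc ((x : H) * y)⁻¹ * (φ q x * φ q y)
              = (y : H)⁻¹ * ((x : H)⁻¹ * φ q x * y) * ((y : H)⁻¹ * φ q y) := by group
            _ = (y : H)⁻¹ * (y * ((x : H)⁻¹ * φ q x)) * ((y : H)⁻¹ * φ q y) := by rw [hcomm]
            _ = _ := by group }
    have hker : (((S : Subgroup H) ⊓ C).subgroupOf C) ≤ f.ker := by
      intro s hs
      rw [Subgroup.mem_subgroupOf] at hs
      rw [MonoidHom.mem_ker]
      apply Subtype.ext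
      show (s : H)⁻¹ * φ q s = 1
      rw [hfix q s hs.1]
      group
    have hodd : ¬ 2 ∣ f.ker.index := by
      intro h2
      have h3 : f.ker.index ∣ (((S : Subgroup H) ⊓ C).subgroupOf C).index :=
        Subgroup.index_dvd_of_le hker
      exact Cfsg.Agent.Lib.Lead.HallSylow.not_dvd_relIndex_inf 2 S C (h2.trans h3)
    have hpow : ∃ j : ℕ, f.ker.index = 2 ^ j := by
      have hZ2 : IsPGroup 2 ↥(W ⊓ C) := hW2.to_le inf_le_left
      obtain ⟨k, hk⟩ := IsPGroup.iff_card.1 hZ2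
      have h3 : f.ker.index ∣ 2 ^ k := by
        rw [Subgroup.index_ker, ← hk]
        exact Subgroup.card_subgroup_dvd_card _
      obtain ⟨j, _, hj⟩ := (Nat.dvd_prime_pow Nat.prime_two).1 h3
      exact ⟨j, hj⟩
    obtain ⟨j, hj⟩ := hpow
    have hj0 : j = 0 := by
      by_contra hne
      apply hodd
      rw [hj]
      exact dvd_pow_self 2 hne
    have htop : f.ker = ⊤ := by
      rw [← Subgroup.index_eq_one, hj, hj0, pow_zero]
    intro c hcC
    have h2 : (⟨c, hcC⟩ : ↥C) ∈ f.ker := by rw [htop]; exact Subgroup.mem_top _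
    rw [MonoidHom.mem_ker] at h2
    have h3 : c⁻¹ * φ q c = 1 := congrArg (fun z : ↥(W ⊓ C) => (z : H)) h2
    calc φ q c = c * (c⁻¹ * φ q c) := by group
      _ = c := by rw [h3, mul_one]
  -- (3) `φ(Q)` commutes with `φ(D)`
  have hcomm : ∀ q ∈ Q, ∀ d : D, φ q * φ d = φ d * φ q := by
    intro q hq d
    ext h
    show φ q (φ d h) = φ d (φ q h)
    have hz : h⁻¹ * φ q h ∈ W := (h1 q hq h).1
    have hcC : h⁻¹ * φ d h ∈ C := hc d h
    have e1 : φ q (h⁻¹ * φ d h) = h⁻¹ * φ d h := hqC q hq _ hcC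
    rw [map_mul, map_inv] at e1
    have e2 : φ d (h⁻¹ * φ q h) = h⁻¹ * φ q h := hfix d _ (hWS hz)
    rw [map_mul, map_inv] at e2
    have e3 : (h⁻¹ * φ q h) * (h⁻¹ * φ d h) = (h⁻¹ * φ d h) * (h⁻¹ * φ q h) :=
      Subgroup.mem_centralizer_iff.1 hcC _ hz
    calc φ q (φ d h) = φ q h * ((φ q h)⁻¹ * φ q (φ d h)) := by group
      _ = φ q h * (h⁻¹ * φ d h) := by rw [e1]
      _ = h * ((h⁻¹ * φ q h) * (h⁻¹ * φ d h)) := by group
      _ = h * ((h⁻¹ * φ d h) * (h⁻¹ * φ q h)) := by rw [e3]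
      _ = φ d h * (h⁻¹ * φ q h) := by group
      _ = φ d h * ((φ d h)⁻¹ * φ d (φ q h)) := by rw [e2]
      _ = φ d (φ q h) := by group
  -- (4) `Q ≤ [Q, D] ≤ ker φ`
  have hle : ⁅Q, (⊤ : Subgroup D)⁆ ≤ φ.ker := by
    rw [Subgroup.commutator_le]
    intro q hq d _
    rw [MonoidHom.mem_ker, map_commutatorElement, commutatorElement_def, hcomm q hq d]
    group
  intro q hq h
  have h2 : φ q = 1 := MonoidHom.mem_ker.1 (hle (hQD hq))
  rw [h2]
  rfl

end Cfsg.Agent.Lib.Helper2.LBAL
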