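import Mathlib

/-! S2522 (every non-scalar unimodular matrix is a product of two regular unipotents): core definitions.
Strategy: induction on the dimension by a "Sourour step": choose a vector `e` and a functional `φ` with
`φ e = 1 = φ (g e)`; on `H = ker φ` one gets a Schur complement `g'`, and a factorization of `g'` lifts to one of `g`. -/

set_option autoImplicit false
set_option linter.unusedVariables false
set_option linter.unusedSectionVars false
set_option linter.style.longLine false

namespace Cfsg.Agent.Lib.Helper2.Lev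

open Module

variable {K : Type*} [Field K] {V : Type*} [AddCommGroup V] [Module K V]

/-- regular unipotent: `u - 1` is nilpotent with one-dimensional kernel. -/
def RegUnip (u : Module.End K V) : Prop :=
  IsNilpotent (u - 1) ∧ Module.finrank K (LinearMap.ker (u - 1)) = 1

/-- `g` is not a scalar and `g - 1` has rank at least `2`. -/
def Good (g : Module.End K V) : Prop :=
  (∀ a : K, g ≠ a • (1 : Module.End K V)) ∧
    ∀ (x : V) (α : Module.Dual K V), g ≠ 1 + LinearMap.smulRight α x

/-- the constrained factorization property. -/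
def QQ (g : Module.End K V) (b : V) (c : Module.Dual K V) : Prop :=
  ∃ L U : Module.End K V, RegUnip L ∧ RegUnip U ∧ L * U = g ∧ b ∉ LinearMap.range (L - 1) ∧
    ∃ u ∈ LinearMap.ker (U - 1), c u ≠ 0

/-- the Schur complement of `g` at `(e, φ)` is the scalar `a` on `ker φ` -/
def ScalarAt (g : Module.End K V) (e : V) (φ : Module.Dual K V) (a : K) : Prop :=
  ∀ y : V, φ y = 0 → g (y - φ (g y) • e) = a • y

/-- the Schur complement of `g` at `(e, φ)` minus the identity has rank at most one on `ker φ` -/
def LowRankAt (g : Module.End K V) (e : V) (φ : Module.Dual K V) : Prop :=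
  ∃ (y₀ : V) (η : Module.Dual K V), ∀ y : V, φ y = 0 → g (y - φ (g y) • e) - y = η y • y₀

/-- the data of a Sourour step. -/
structure StepData (g : Module.End K V) where
  e : V
  φ : Module.Dual K V
  hφe : φ e = 1
  hφge : φ (g e) = 1

namespace StepData

variable {g : Module.End K V} (sd : StepData g)

/-- the hyperplane `H = ker φ`. -/
def H : Submodule K V := LinearMap.ker sd.φ

/-- `v ↦ v - φ v • e` as an endomorphism of `V`. -/
def piV : V →ₗ[K] V := LinearMap.id - LinearMap.smulRight sd.φ sd.e

@[simp] theorem piV_apply (v : V) : sd.piV v = v - sd.φ v • sd.e := by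
  simp [piV]

/-- `v ↦ v - φ (g v) • e` as an endomorphism of `V` (the projection onto `g⁻¹ H` along `e`). -/
def tau : V →ₗ[K] V := LinearMap.id - LinearMap.smulRight (sd.φ ∘ₗ g) sd.e

@[simp] theorem tau_apply (v : V) : sd.tau v = v - sd.φ (g v) • sd.e := by
  simp [tau]

/-- the projection onto `H` along `e`. -/
def proj : V →ₗ[K] sd.H :=
  LinearMap.codRestrict sd.H sd.piV (by
    intro v
    show sd.φ (sd.piV v) = 0
    simp [sd.hφe])

@[simp] theorem proj_coe (v : V) : ((sd.proj v : sd.H) : V) = v - sd.φ v • sd.e := by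
  simp [proj]

/-- the Schur complement `g' : H → H`, `y ↦ g (y - φ (g y) e)`. -/
def gP : Module.End K sd.H :=
  LinearMap.codRestrict sd.H ((g ∘ₗ sd.tau) ∘ₗ sd.H.subtype) (by
    intro y
    show sd.φ (g (sd.tau (y : V))) = 0
    simp [sd.hφge])

@[simp] theorem gP_coe (y : sd.H) : ((sd.gP y : sd.H) : V) = g ((y : V) - sd.φ (g (y : V)) • sd.e) := by
  simp [gP]

/-- the new constraint vector `b₁ = (g - 1) e ∈ H`. -/
def b1 : sd.H := ⟨(g - 1) sd.e, by
  show sd.φ ((g - 1) sd.e) = 0
  simp [sd.hφe, sd.hφge]⟩

@[simp] theorem b1_coe : ((sd.b1 : sd.H) : V) = g sd.e - sd.e := by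
  simp [b1]

/-- the new constraint covector `c₁ = φ ∘ (g - 1)` restricted to `H`. -/
def c1 : Module.Dual K sd.H := (sd.φ ∘ₗ (g - 1)) ∘ₗ sd.H.subtype

@[simp] theorem c1_apply (y : sd.H) : sd.c1 y = sd.φ (g (y : V)) - sd.φ (y : V) := by
  simp [c1]

end StepData

end Cfsg.Agent.Lib.Helper2.Lev
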