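import Mathlib
import Cfsg.Agent.Lib.Helper4.M11e
import Cfsg.Agent.Lib.Helper7.M22S1
import Cfsg.Agent.Lib.Helper7.M22S3
import Cfsg.Agent.Lib.Helper6.BlkColumn
import Cfsg.Agent.Lib.Helper6.Orthogonality

/-! S5005, unit S4: a group of order `443520` whose Sylow `5`-, `7`-, `11`-subgroups are
self-centralizing has no irreducible character of degree `160`. -/

set_option autoImplicit false
set_option linter.unusedSectionVars false
set_option linter.unusedVariables false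
set_option linter.style.longLine false
set_option linter.unusedSimpArgs false
set_option linter.unusedDecidableInType false
set_option linter.style.haveILetI false

set_option maxHeartbeats 1600000

namespace Cfsg.Agent.Lib.Helper2.M22S4

open Cfsg Cfsg.Agent.Lib.Helper6
open Cfsg.Agent.Lib.Helper7.CountTools Cfsg.Agent.Lib.Helper7.M22S1
  Cfsg.Agent.Lib.Helper5.BrauerSmall
open scoped ComplexConjugate

variable {G : Type*} [Group G] [Fintype G]

/-- transport of a constant value from `P \ {1}` to all elements of order `p` -/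
theorem val_of_orderOf {p : ℕ} [Fact p.Prime] (hc : ∀ P : Sylow p G, Nat.card P = p)
    (P : Sylow p G) (ψ : G → ℂ) (hψ : Cfsg.IsClassFunction G ψ) (c : ℂ)
    (h : ∀ x ∈ (P : Subgroup G), x ≠ 1 → ψ x = c) (x : G) (hx : orderOf x = p) : ψ x = c := by
  obtain ⟨Q, hQ⟩ := exists_sylow_eq_zpowers hc hx
  obtain ⟨g, hg⟩ := MulAction.exists_smul_eq G Q P
  have hxQ : x ∈ (Q : Subgroup G) := by rw [hQ]; exact Subgroup.mem_zpowers x
  have h1 : g * x * g⁻¹ ∈ (P : Subgroup G) := by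
    rw [← hg, Sylow.coe_subgroup_smul]
    have := Subgroup.smul_mem_pointwise_smul x (MulAut.conj g) (Q : Subgroup G) hxQ
    rwa [MulAut.smul_def, MulAut.conj_apply] at this
  have hne : g * x * g⁻¹ ≠ 1 := by
    intro h0
    have hx1 : x = 1 := by
      have : x = g⁻¹ * (g * x * g⁻¹) * g := by group
      rw [this, h0]; group
    rw [hx1, orderOf_one] at hx
    exact (Fact.out : p.Prime).one_lt.ne hx
  rw [← hψ x g]
  exact h _ h1 hne

open Classical in
/-- splitting a sum over `G` according to the orders `1, 5, 7, 11` and the rest -/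
theorem sum_split {A : Type*} [AddCommMonoid A] (F : G → A) :
    ∑ g, F g = F 1 + ∑ g ∈ Finset.univ.filter (fun g : G => orderOf g = 5), F g
      + ∑ g ∈ Finset.univ.filter (fun g : G => orderOf g = 7), F g
      + ∑ g ∈ Finset.univ.filter (fun g : G => orderOf g = 11), F g
      + ∑ g ∈ Finset.univ.filter
          (fun g : G => g ≠ 1 ∧ orderOf g ≠ 5 ∧ orderOf g ≠ 7 ∧ orderOf g ≠ 11), F g := by
  rw [Finset.sum_filter, Finset.sum_filter, Finset.sum_filter, Finset.sum_filter]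
  have h1 : F 1 = ∑ g, if g = 1 then F g else 0 := by simp
  rw [h1, ← Finset.sum_add_distrib, ← Finset.sum_add_distrib, ← Finset.sum_add_distrib,
    ← Finset.sum_add_distrib]
  apply Finset.sum_congr rfl
  intro g _
  by_cases hg : g = 1
  · subst hg; simp
  · by_cases h5 : orderOf g = 5
    · simp [hg, h5]
    · by_cases h7 : orderOf g = 7
      · simp [hg, h5, h7]
      · by_cases h11 : orderOf g = 11 <;> simp [hg, h5, h7, h11]


/-- the Cauchy-Schwarz contradiction for two characters of degree `160` -/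
theorem kill_160 (hG : Nat.card G = 443520) (f : G → ℂ) (h1 : f 1 = 320)
    (h5 : ∀ x : G, orderOf x = 5 → f x = 0)
    (h7 : ∀ x : G, orderOf x = 7 → f x = -2) (h11 : ∀ x : G, orderOf x = 11 → f x = 1)
    (n5 : Nat.card {x : G // orderOf x = 5} = 88704)
    (n7 : Nat.card {x : G // orderOf x = 7} = 126720)
    (n11 : Nat.card {x : G // orderOf x = 11} = 80640)
    (hsum : ∑ g : G, f g = 0) (hnorm : ∑ g : G, f g * conj (f g) = 887040) : False := by
  classical
  obtain ⟨A5, hA5⟩ : ∃ A : Finset G, A = Finset.univ.filter (fun g : G => orderOf g = 5) := ⟨_, rfl⟩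
  obtain ⟨A7, hA7⟩ : ∃ A : Finset G, A = Finset.univ.filter (fun g : G => orderOf g = 7) := ⟨_, rfl⟩
  obtain ⟨A11, hA11⟩ : ∃ A : Finset G, A = Finset.univ.filter (fun g : G => orderOf g = 11) :=
    ⟨_, rfl⟩
  obtain ⟨T, hT⟩ : ∃ A : Finset G, A = Finset.univ.filter
      (fun g : G => g ≠ 1 ∧ orderOf g ≠ 5 ∧ orderOf g ≠ 7 ∧ orderOf g ≠ 11) := ⟨_, rfl⟩
  have hc5 : A5.card = 88704 := by
    rw [hA5, ← n5, Nat.card_eq_fintype_card, Fintype.card_subtype]
  have hc7 : A7.card = 126720 := by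
    rw [hA7, ← n7, Nat.card_eq_fintype_card, Fintype.card_subtype]
  have hc11 : A11.card = 80640 := by
    rw [hA11, ← n11, Nat.card_eq_fintype_card, Fintype.card_subtype]
  have hdec : ∀ {A : Type} [AddCommMonoid A] (F : G → A), ∑ g : G, F g =
      F 1 + ∑ g ∈ A5, F g + ∑ g ∈ A7, F g + ∑ g ∈ A11, F g + ∑ g ∈ T, F g := by
    intro A _ F
    rw [hA5, hA7, hA11, hT]
    convert sum_split F
  have hTc : T.card = 147455 := by
    have h := hdec (fun _ : G => (1 : ℕ))
    simp only [Finset.sum_const, smul_eq_mul, mul_one, Finset.card_univ] at h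
    rw [← Nat.card_eq_fintype_card, hG, hc5, hc7, hc11] at h
    omega
  have hs5 : ∀ F : G → ℂ, ∀ c : ℂ, (∀ x, orderOf x = 5 → F x = c) →
      ∑ g ∈ A5, F g = 88704 * c := by
    intro F c hF
    rw [Finset.sum_congr rfl (fun g hg => hF g (by rw [hA5] at hg; exact (Finset.mem_filter.mp hg).2)),
      Finset.sum_const, hc5]
    simp
  have hs7 : ∀ F : G → ℂ, ∀ c : ℂ, (∀ x, orderOf x = 7 → F x = c) →
      ∑ g ∈ A7, F g = 126720 * c := by
    intro F c hF
    rw [Finset.sum_congr rfl (fun g hg => hF g (by rw [hA7] at hg; exact (Finset.mem_filter.mp hg).2)),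
      Finset.sum_const, hc7]
    simp
  have hs11 : ∀ F : G → ℂ, ∀ c : ℂ, (∀ x, orderOf x = 11 → F x = c) →
      ∑ g ∈ A11, F g = 80640 * c := by
    intro F c hF
    rw [Finset.sum_congr rfl (fun g hg => hF g (by rw [hA11] at hg; exact (Finset.mem_filter.mp hg).2)),
      Finset.sum_const, hc11]
    simp
  have hT1 : ∑ g ∈ T, f g = 172480 := by
    have h := hdec f
    rw [hsum, h1, hs5 f 0 h5, hs7 f (-2) h7, hs11 f 1 h11] at h
    linear_combination (-1 : ℂ) * h
  have hT2 : ∑ g ∈ T, f g * conj (f g) = 197120 := by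
    have h := hdec (fun g => f g * conj (f g))
    rw [hnorm, h1, hs5 (fun g => f g * conj (f g)) 0 (fun x hx => by simp [h5 x hx]),
      hs7 (fun g => f g * conj (f g)) 4 (fun x hx => by
        rw [h7 x hx, show (-2 : ℂ) = ((-2 : ℝ) : ℂ) by norm_num, Complex.conj_ofReal]; norm_num),
      hs11 (fun g => f g * conj (f g)) 1 (fun x hx => by simp [h11 x hx])] at h
    have h320 : (320 : ℂ) * conj (320 : ℂ) = 102400 := by
      rw [show (320 : ℂ) = ((320 : ℝ) : ℂ) by norm_num, Complex.conj_ofReal]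
      norm_num
    rw [h320] at h
    linear_combination (-1 : ℂ) * h
  have hT2r : ∑ g ∈ T, ‖f g‖ ^ 2 = 197120 := by
    have h : ((∑ g ∈ T, ‖f g‖ ^ 2 : ℝ) : ℂ) = ((197120 : ℝ) : ℂ) := by
      push_cast
      rw [← hT2]
      apply Finset.sum_congr rfl
      intro g _
      rw [Complex.mul_conj']
    exact_mod_cast h
  have hT1r : (172480 : ℝ) ≤ ∑ g ∈ T, ‖f g‖ := by
    have h := norm_sum_le T f
    rw [hT1] at h
    have h2 : ‖(172480 : ℂ)‖ = 172480 := by
      rw [show (172480 : ℂ) = ((172480 : ℝ) : ℂ) by norm_num, Complex.norm_real]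
      norm_num
    rw [h2] at h
    exact h
  have hcs := sq_sum_le_card_mul_sum_sq (s := T) (f := fun g => ‖f g‖)
  rw [hT2r, hTc] at hcs
  have hpos : (0 : ℝ) ≤ ∑ g ∈ T, ‖f g‖ := Finset.sum_nonneg (fun g _ => norm_nonneg _)
  push_cast at hcs
  nlinarith


/-- **S5005, unit S4**: no irreducible character of degree `160`. -/
theorem no_deg_160 (hG : Nat.card G = 443520) [Fact (Nat.Prime 5)] [Fact (Nat.Prime 7)]
    [Fact (Nat.Prime 11)]
    (P5 : Sylow 5 G) (hC5 : Subgroup.centralizer ((P5 : Subgroup G) : Set G) = (P5 : Subgroup G))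
    (P7 : Sylow 7 G) (hC7 : Subgroup.centralizer ((P7 : Subgroup G) : Set G) = (P7 : Subgroup G))
    (P11 : Sylow 11 G)
    (hC11 : Subgroup.centralizer ((P11 : Subgroup G) : Set G) = (P11 : Subgroup G))
    (χ : Cfsg.IrrCharacter G) : Cfsg.charDegree (χ : G → ℂ) ≠ 160 := by
  classical
  intro hχ
  have hc5 : ∀ Q : Sylow 5 G, Nat.card Q = 5 := fun Q =>
    h7_card_sylow 5 88704 (by rw [hG]) (by norm_num) Q
  have hc7 : ∀ Q : Sylow 7 G, Nat.card Q = 7 := fun Q =>
    h7_card_sylow 7 63360 (by rw [hG]) (by norm_num) Q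
  have hc11 : ∀ Q : Sylow 11 G, Nat.card Q = 11 := fun Q =>
    h7_card_sylow 11 40320 (by rw [hG]) (by norm_num) Q
  obtain ⟨-, -, n5⟩ := h7_data5 hG P5 hC5
  obtain ⟨he7, -, n7⟩ := h7_data7 hG P7 hC7
  obtain ⟨he11, -, n11⟩ := h7_data11 hG P11 hC11
  -- the principal `11`-block
  obtain ⟨M, hM⟩ := exists_isPModular 11
  obtain ⟨X, Y, hXY, hdisj, hX, hY, εX, ε, hXprop, hε, hYdeg, hYagree, hYrel⟩ :=
    Cfsg.Agent.S4441.result 11 M hM (by norm_num) P11 (hc11 P11) 5 he11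
  have hχB : χ ∈ Cfsg.principalBlock M G :=
    mem_principalBlock_of_not_dvd P11 (hc11 P11) hC11 hM χ (by rw [hχ]; norm_num)
  rw [hXY] at hχB
  have hχY : χ ∈ Y := by
    rcases hχB with h | h
    · exfalso
      obtain ⟨hs, hmod, -⟩ := hXprop χ h
      rw [hχ] at hmod
      rcases hs with hs | hs <;> rw [hs] at hmod <;> exact absurd hmod (by decide)
    · exact h
  have hε' : ε = -1 := by
    have h := hYdeg χ hχY
    rw [hχ] at h
    rcases hε with h' | h'
    · rw [h'] at h; exact absurd h (by decide)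
    · exact h'
  have hY2 : Y.ncard = 2 := by
    rw [← Nat.card_coe_set_eq, hY]
  obtain ⟨a, b, hab, hYab⟩ := Set.ncard_eq_two.mp hY2
  obtain ⟨θ', hθ'ne, hYeq⟩ : ∃ θ' : Cfsg.IrrCharacter G, θ' ≠ χ ∧ Y = {χ, θ'} := by
    have hmem : χ ∈ ({a, b} : Set (Cfsg.IrrCharacter G)) := hYab ▸ hχY
    rcases hmem with h | h
    · exact ⟨b, by rw [h]; exact hab.symm, by rw [hYab, h]⟩
    · rw [Set.mem_singleton_iff] at h
      exact ⟨a, by rw [h]; exact hab, by rw [hYab, h, Set.pair_comm]⟩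
  have hθ'Y : θ' ∈ Y := by rw [hYeq]; simp
  have hone : ¬ 11 ∣ orderOf (1 : G) := by rw [orderOf_one]; norm_num
  have hθ'1 : (θ' : G → ℂ) 1 = (χ : G → ℂ) 1 := hYagree θ' hθ'Y χ hχY 1 hone
  have hχ1 : (χ : G → ℂ) 1 = 160 := by
    rw [IsCharacter.apply_one_eq_charDegree (IsIrrCharacter.isCharacter χ.2), hχ]; norm_num
  have hθ' : Cfsg.charDegree (θ' : G → ℂ) = 160 := by
    rw [← hχ]; unfold Cfsg.charDegree; rw [hθ'1]
  -- the function `f`
  obtain ⟨f, hf⟩ : ∃ f : G → ℂ, f = fun g => (χ : G → ℂ) g + (θ' : G → ℂ) g := ⟨_, rfl⟩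
  have hfcf : Cfsg.IsClassFunction G f := by
    intro g h
    rw [hf]
    show (χ : G → ℂ) (h * g * h⁻¹) + (θ' : G → ℂ) (h * g * h⁻¹) = _
    rw [IsIrrCharacter.isClassFunction χ.2 g h, IsIrrCharacter.isClassFunction θ'.2 g h]
  -- values at elements of order 11
  have hv11P : ∀ x ∈ (P11 : Subgroup G), x ≠ 1 → f x = 1 := by
    intro x hx hx1
    have hox : orderOf x = 11 := PB.orderOf_eq_of_mem P11 (hc11 P11) hx hx1
    have hcol := principal_column_not_conj 11 M hM x 1 ⟨1, by rw [hox, pow_one]⟩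
      ⟨0, by rw [orderOf_one, pow_zero]⟩ (by
        intro hconj; exact hx1 (isConj_one_left.mp hconj))
    rw [hXY, finsum_mem_union hdisj (Set.toFinite X) (Set.toFinite Y)] at hcol
    have hXsum : ∑ᶠ ζ ∈ X, (ζ : G → ℂ) x * conj ((ζ : G → ℂ) 1)
        = ∑ᶠ ζ ∈ X, (εX ζ : ℂ) * (ζ : G → ℂ) 1 := by
      apply finsum_mem_congr rfl
      intro ζ hζ
      have h1 := (hXprop ζ hζ).2.2 x hx hx1 1 (Subgroup.one_mem _) hone
      rw [mul_one] at h1
      rw [h1, IsIrrCharacter.conj_apply_one ζ.2]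
    rw [hXsum, ← hYrel χ hχY 1 hone, hYeq, finsum_mem_pair hθ'ne.symm,
      IsIrrCharacter.conj_apply_one χ.2, IsIrrCharacter.conj_apply_one θ'.2, hθ'1, hχ1, hε'] at hcol
    push_cast at hcol
    rw [hf]
    show (χ : G → ℂ) x + (θ' : G → ℂ) x = 1
    linear_combination (1 / 160 : ℂ) * hcol
  have hv11 : ∀ x : G, orderOf x = 11 → f x = 1 :=
    val_of_orderOf hc11 P11 f hfcf 1 hv11P
  -- values at elements of order 7
  have key7 : ∀ ψ : Cfsg.IrrCharacter G, Cfsg.charDegree (ψ : G → ℂ) = 160 →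
      ∀ x : G, orderOf x = 7 → (ψ : G → ℂ) x = -1 := by
    intro ψ hψ
    apply Cfsg.Agent.Lib.Helper7.M22S3.h7_value_neg_one 7 (by norm_num) P7 hc7 hC7 3 he7 ψ
    · rw [hψ]; norm_num
    · intro ε hε
      rw [hψ]
      rcases hε with rfl | rfl <;> decide
    · rw [hψ]; decide
  have hv7 : ∀ x : G, orderOf x = 7 → f x = -2 := by
    intro x hx
    rw [hf]
    show (χ : G → ℂ) x + (θ' : G → ℂ) x = -2
    rw [key7 χ hχ x hx, key7 θ' hθ' x hx]; norm_num
  -- values at elements of order 5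
  have key5 : ∀ ψ : Cfsg.IrrCharacter G, Cfsg.charDegree (ψ : G → ℂ) = 160 →
      ∀ x : G, orderOf x = 5 → (ψ : G → ℂ) x = 0 := by
    intro ψ hψ x hx
    exact IsIrrCharacter.eq_zero_of_defect_zero ψ.2 5 1 (by norm_num) (by rw [hG]; norm_num)
      (by rw [hG]; norm_num) (by rw [hψ]; norm_num) x (by rw [hx])
  have hv5 : ∀ x : G, orderOf x = 5 → f x = 0 := by
    intro x hx
    rw [hf]
    show (χ : G → ℂ) x + (θ' : G → ℂ) x = 0
    rw [key5 χ hχ x hx, key5 θ' hθ' x hx]; norm_num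
  have hf1 : f 1 = 320 := by
    rw [hf]
    show (χ : G → ℂ) 1 + (θ' : G → ℂ) 1 = 320
    rw [hθ'1, hχ1]; norm_num
  -- orthogonality
  have hcard : (Nat.card G : ℂ) ≠ 0 := by rw [hG]; norm_num
  have hin : ∀ a b : Cfsg.IrrCharacter G, ∑ g : G, (a : G → ℂ) g * conj ((b : G → ℂ) g)
      = if a = b then (443520 : ℂ) else 0 := by
    intro a b
    have h := classInner_irrCharacter a b
    unfold Cfsg.classInner at h
    have h2 : ∑ g : G, (a : G → ℂ) g * conj ((b : G → ℂ) g)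
        = (Nat.card G : ℂ) * ((Nat.card G : ℂ)⁻¹ * ∑ g : G, (a : G → ℂ) g * conj ((b : G → ℂ) g)) := by
      field_simp
    rw [h2, h, hG]
    split_ifs <;> simp
  have hne1 : ∀ ψ : Cfsg.IrrCharacter G, Cfsg.charDegree (ψ : G → ℂ) = 160 → ψ ≠ oneIrr G := by
    intro ψ hψ h
    have h1 : (ψ : G → ℂ) 1 = 160 := by
      rw [IsCharacter.apply_one_eq_charDegree (IsIrrCharacter.isCharacter ψ.2), hψ]; norm_num
    rw [h] at h1
    have h2 : ((oneIrr G : Cfsg.IrrCharacter G) : G → ℂ) 1 = 1 := rfl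
    rw [h2] at h1
    norm_num at h1
  have hs0 : ∀ ψ : Cfsg.IrrCharacter G, Cfsg.charDegree (ψ : G → ℂ) = 160 →
      ∑ g : G, (ψ : G → ℂ) g = 0 := by
    intro ψ hψ
    have h := hin ψ (oneIrr G)
    rw [if_neg (hne1 ψ hψ)] at h
    rw [← h]
    apply Finset.sum_congr rfl
    intro g _
    have h2 : ((oneIrr G : Cfsg.IrrCharacter G) : G → ℂ) g = 1 := rfl
    rw [h2]
    simp
  have hsum : ∑ g : G, f g = 0 := by
    rw [hf]
    show ∑ g : G, ((χ : G → ℂ) g + (θ' : G → ℂ) g) = 0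
    rw [Finset.sum_add_distrib, hs0 χ hχ, hs0 θ' hθ', add_zero]
  have hnorm : ∑ g : G, f g * conj (f g) = 887040 := by
    rw [hf]
    show ∑ g : G, ((χ : G → ℂ) g + (θ' : G → ℂ) g) * conj ((χ : G → ℂ) g + (θ' : G → ℂ) g) = 887040
    have hexp : ∀ g : G, ((χ : G → ℂ) g + (θ' : G → ℂ) g) * conj ((χ : G → ℂ) g + (θ' : G → ℂ) g)
        = (χ : G → ℂ) g * conj ((χ : G → ℂ) g) + (χ : G → ℂ) g * conj ((θ' : G → ℂ) g)
          + (θ' : G → ℂ) g * conj ((χ : G → ℂ) g) + (θ' : G → ℂ) g * conj ((θ' : G → ℂ) g) := by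
      intro g
      rw [map_add]; ring
    rw [Finset.sum_congr rfl (fun g _ => hexp g), Finset.sum_add_distrib, Finset.sum_add_distrib,
      Finset.sum_add_distrib, hin χ χ, hin χ θ', hin θ' χ, hin θ' θ', if_pos rfl, if_pos rfl,
      if_neg hθ'ne, if_neg hθ'ne.symm]
    norm_num
  exact kill_160 hG f hf1 hv5 hv7 hv11 n5 n7 n11 hsum hnorm

end Cfsg.Agent.Lib.Helper2.M22S4
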