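import Mathlib
import Cfsg.Agent.Lib.Helper1.MNDDefs

set_option autoImplicit false
set_option linter.unusedSectionVars false
set_option linter.unusedVariables false
set_option linter.unusedSimpArgs false
set_option linter.style.haveILetI false

/-!
Farm MND (statement S2332), unit C, part 1: the idempotents `eC c` attached to the characters of the
row group in a complex representation of `SL_(m+1)(F)`.
-/

namespace Cfsg.Agent.Lib.Helper2.MND

open Matrix Cfsg Cfsg.Agent.Lib.Lead.LS1 Cfsg.Agent.Lib.Helper1.MND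

variable {F : Type*} [Field F] [Fintype F] [DecidableEq F] {m k : ℕ}

/-- the projector onto the `λ_c`-isotypic component of the row group -/
noncomputable def eC (ψ : AddChar F ℂ) (ρ : Representation ℂ (GG m F) (Fin k → ℂ))
    (c : Fin m → F) : Module.End ℂ (Fin k → ℂ) :=
  ((Fintype.card F : ℂ) ^ m)⁻¹ • ∑ v : Fin m → F, ψ (-(c ⬝ᵥ v)) • ρ (xm v)

theorem qpow_ne_zero : ((Fintype.card F : ℂ) ^ m) ≠ 0 := by
  apply pow_ne_zero
  exact_mod_cast Fintype.card_ne_zero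

theorem card_fun : (Fintype.card (Fin m → F) : ℂ) = (Fintype.card F : ℂ) ^ m := by
  rw [Fintype.card_fun, Fintype.card_fin]; push_cast; rfl

theorem sum_psi (ψ : AddChar F ℂ) (hψ : ∃ a, ψ a ≠ 1) (u : Fin m → F) :
    ∑ v : Fin m → F, ψ (u ⬝ᵥ v) = if u = 0 then (Fintype.card F : ℂ) ^ m else 0 := by
  by_cases hu : u = 0
  · subst hu
    rw [if_pos rfl]
    simp only [zero_dotProduct, AddChar.map_zero_eq_one, Finset.sum_const, Finset.card_univ,
      nsmul_eq_mul, mul_one]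
    exact card_fun
  · rw [if_neg hu]
    exact orth ψ hψ u hu

theorem rho_xm_mul_sum (ψ : AddChar F ℂ) (ρ : Representation ℂ (GG m F) (Fin k → ℂ))
    (c u : Fin m → F) :
    ρ (xm u) * ∑ v : Fin m → F, ψ (-(c ⬝ᵥ v)) • ρ (xm v) =
      ψ (c ⬝ᵥ u) • ∑ v : Fin m → F, ψ (-(c ⬝ᵥ v)) • ρ (xm v) := by
  rw [Finset.mul_sum, Finset.smul_sum]
  calc ∑ v : Fin m → F, ρ (xm u) * (ψ (-(c ⬝ᵥ v)) • ρ (xm v))
      = ∑ v : Fin m → F, ψ (c ⬝ᵥ u) • (ψ (-(c ⬝ᵥ (u + v))) • ρ (xm (u + v))) := by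
        refine Finset.sum_congr rfl fun v _ => ?_
        rw [mul_smul_comm, ← map_mul, ← xm_add, smul_smul]
        congr 1
        rw [← AddChar.map_add_eq_mul]
        congr 1
        rw [dotProduct_add]; ring
    _ = ∑ v : Fin m → F, ψ (c ⬝ᵥ u) • (ψ (-(c ⬝ᵥ v)) • ρ (xm v)) :=
        Equiv.sum_comp (Equiv.addLeft u) (fun v => ψ (c ⬝ᵥ u) • (ψ (-(c ⬝ᵥ v)) • ρ (xm v)))

theorem rho_xm_mul_eC (ψ : AddChar F ℂ) (ρ : Representation ℂ (GG m F) (Fin k → ℂ))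
    (c u : Fin m → F) : ρ (xm u) * eC ψ ρ c = ψ (c ⬝ᵥ u) • eC ψ ρ c := by
  unfold eC
  rw [mul_smul_comm, rho_xm_mul_sum, smul_comm]

theorem eC_mul_eC (ψ : AddChar F ℂ) (hψ : ∃ a, ψ a ≠ 1)
    (ρ : Representation ℂ (GG m F) (Fin k → ℂ)) (c c' : Fin m → F) :
    eC ψ ρ c * eC ψ ρ c' = if c = c' then eC ψ ρ c' else 0 := by
  have h1 : eC ψ ρ c * eC ψ ρ c' =
      (((Fintype.card F : ℂ) ^ m)⁻¹ * ∑ v : Fin m → F, ψ ((c' - c) ⬝ᵥ v)) • eC ψ ρ c' := by
    conv_lhs => rw [eC]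
    rw [smul_mul_assoc, Finset.sum_mul, mul_smul, Finset.sum_smul]
    congr 1
    refine Finset.sum_congr rfl fun v _ => ?_
    rw [smul_mul_assoc, rho_xm_mul_eC, smul_smul]
    congr 1
    rw [← AddChar.map_add_eq_mul]
    congr 1
    rw [sub_dotProduct]; ring
  rw [h1, sum_psi ψ hψ]
  by_cases hcc : c = c'
  · subst hcc
    rw [if_pos rfl, if_pos (sub_self c), inv_mul_cancel₀ qpow_ne_zero, one_smul]
  · rw [if_neg hcc, if_neg (fun h => hcc (sub_eq_zero.mp h).symm), mul_zero, zero_smul]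

theorem sum_eC (ψ : AddChar F ℂ) (hψ : ∃ a, ψ a ≠ 1)
    (ρ : Representation ℂ (GG m F) (Fin k → ℂ)) : ∑ c : Fin m → F, eC ψ ρ c = 1 := by
  unfold eC
  rw [← Finset.smul_sum, Finset.sum_comm]
  have h1 : ∀ v : Fin m → F, ∑ c : Fin m → F, ψ (-(c ⬝ᵥ v)) • ρ (xm v) =
      (if v = 0 then (Fintype.card F : ℂ) ^ m else 0) • ρ (xm v) := by
    intro v
    rw [← Finset.sum_smul]
    congr 1
    have h2 : ∀ c : Fin m → F, ψ (-(c ⬝ᵥ v)) = ψ ((-v) ⬝ᵥ c) := by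
      intro c
      congr 1
      rw [neg_dotProduct, dotProduct_comm]
    simp_rw [h2]
    rw [sum_psi ψ hψ]
    by_cases hv : v = 0
    · rw [if_pos hv, if_pos (by rw [hv, neg_zero])]
    · rw [if_neg hv, if_neg (fun h => hv (neg_eq_zero.mp h))]
  simp_rw [h1]
  rw [Finset.sum_eq_single (0 : Fin m → F)]
  · rw [if_pos rfl, smul_smul, inv_mul_cancel₀ qpow_ne_zero, one_smul, xm_zero, map_one]
  · intro v _ hv
    rw [if_neg hv, zero_smul]
  · intro h; exact absurd (Finset.mem_univ _) h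

theorem trace_eC (ψ : AddChar F ℂ) (ρ : Representation ℂ (GG m F) (Fin k → ℂ))
    (c : Fin m → F) : LinearMap.trace ℂ (Fin k → ℂ) (eC ψ ρ c) = mV ψ ρ.character c := by
  unfold eC mV
  rw [map_smul, map_sum, smul_eq_mul]
  congr 1
  refine Finset.sum_congr rfl fun v _ => ?_
  rw [map_smul, smul_eq_mul]
  rfl

theorem trace_rho_mul_eC (ψ : AddChar F ℂ) (ρ : Representation ℂ (GG m F) (Fin k → ℂ))
    (g : GG m F) (c : Fin m → F) :
    LinearMap.trace ℂ (Fin k → ℂ) (ρ g * eC ψ ρ c) =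
      ((Fintype.card F : ℂ) ^ m)⁻¹ * ∑ v : Fin m → F, ψ (-(c ⬝ᵥ v)) * ρ.character (g * xm v) := by
  unfold eC
  rw [mul_smul_comm, map_smul, Finset.mul_sum, map_sum, smul_eq_mul]
  congr 1
  refine Finset.sum_congr rfl fun v _ => ?_
  rw [mul_smul_comm, map_smul, smul_eq_mul, ← map_mul]
  rfl

end Cfsg.Agent.Lib.Helper2.MND
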