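import Mathlib
import Cfsg.Agent.Lib.Helper2.MNDC1

set_option autoImplicit false
set_option linter.unusedSectionVars false
set_option linter.unusedVariables false
set_option linter.unusedSimpArgs false
set_option linter.style.haveILetI false

/-!
Farm MND (statement S2332), unit C, part 2: the Levi part and the stabilisers `StabC c` acting on
the idempotents `eC c`; rank one idempotents.
-/

namespace Cfsg.Agent.Lib.Helper2.MND

open Matrix Cfsg Cfsg.Agent.Lib.Lead.LS1 Cfsg.Agent.Lib.Helper1.MND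

variable {F : Type*} [Field F] [Fintype F] [DecidableEq F] {m k : ℕ}

theorem xm_injective : Function.Injective (xm : (Fin m → F) → GG m F) := by
  intro v v' h
  funext j
  rw [← xm_apply v j, ← xm_apply v' j, h]

/-- `u ↦ u ᵥ* A` as a permutation of the row vectors -/
def vecMulEquiv (A : SS m F) : (Fin m → F) ≃ (Fin m → F) where
  toFun u := u ᵥ* A.1
  invFun u := u ᵥ* (A⁻¹).1
  left_inv u := by
    show (u ᵥ* A.1) ᵥ* (A⁻¹).1 = u
    rw [vecMul_vecMul, ← Matrix.SpecialLinearGroup.coe_mul, mul_inv_cancel,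
      Matrix.SpecialLinearGroup.coe_one, vecMul_one]
  right_inv u := by
    show (u ᵥ* (A⁻¹).1) ᵥ* A.1 = u
    rw [vecMul_vecMul, ← Matrix.SpecialLinearGroup.coe_mul, inv_mul_cancel,
      Matrix.SpecialLinearGroup.coe_one, vecMul_one]

theorem rho_gm_mul_eC (ψ : AddChar F ℂ) (ρ : Representation ℂ (GG m F) (Fin k → ℂ))
    (A : SS m F) (c : Fin m → F) :
    ρ (gm A) * eC ψ ρ c = eC ψ ρ (A.1 *ᵥ c) * ρ (gm A) := by
  unfold eC
  rw [mul_smul_comm, smul_mul_assoc, Finset.mul_sum, Finset.sum_mul]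
  congr 1
  calc ∑ v : Fin m → F, ρ (gm A) * (ψ (-(c ⬝ᵥ v)) • ρ (xm v))
      = ∑ u : Fin m → F, ρ (gm A) * (ψ (-(c ⬝ᵥ (vecMulEquiv A u))) • ρ (xm (vecMulEquiv A u))) :=
        (Equiv.sum_comp (vecMulEquiv A)
          (fun v => ρ (gm A) * (ψ (-(c ⬝ᵥ v)) • ρ (xm v)))).symm
    _ = ∑ u : Fin m → F, ψ (-((A.1 *ᵥ c) ⬝ᵥ u)) • ρ (xm u) * ρ (gm A) := by
        refine Finset.sum_congr rfl fun u _ => ?_
        have h1 : c ⬝ᵥ (vecMulEquiv A u) = (A.1 *ᵥ c) ⬝ᵥ u := by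
          show c ⬝ᵥ (u ᵥ* A.1) = (A.1 *ᵥ c) ⬝ᵥ u
          rw [dotProduct_comm, ← dotProduct_mulVec, dotProduct_comm]
        have h2 : ρ (gm A) * ρ (xm (vecMulEquiv A u)) = ρ (xm u) * ρ (gm A) := by
          show ρ (gm A) * ρ (xm (u ᵥ* A.1)) = ρ (xm u) * ρ (gm A)
          rw [← map_mul, ← map_mul, xm_mul_gm]
        rw [mul_smul_comm, h2, h1, smul_mul_assoc]

theorem stab_comm (ψ : AddChar F ℂ) (ρ : Representation ℂ (GG m F) (Fin k → ℂ))
    (c : Fin m → F) (y : GG m F) (hy : y ∈ StabC c) :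
    ρ y * eC ψ ρ c = eC ψ ρ c * ρ y := by
  obtain ⟨L, L', h1, h2, h3, h4⟩ := hy
  have hLL' : ∀ u, L (L' u) = u := by
    intro u
    apply xm_injective
    rw [← h1, ← h2]; group
  have hL'L : ∀ u, L' (L u) = u := by
    intro u
    apply xm_injective
    rw [← h2, ← h1]; group
  let eL : (Fin m → F) ≃ (Fin m → F) := ⟨L, L', hL'L, hLL'⟩
  unfold eC
  rw [mul_smul_comm, smul_mul_assoc, Finset.mul_sum, Finset.sum_mul]
  congr 1
  calc ∑ v : Fin m → F, ρ y * (ψ (-(c ⬝ᵥ v)) • ρ (xm v))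
      = ∑ v : Fin m → F, ψ (-(c ⬝ᵥ (eL v))) • ρ (xm (eL v)) * ρ y := by
        refine Finset.sum_congr rfl fun v _ => ?_
        have e1 : c ⬝ᵥ (eL v) = c ⬝ᵥ v := h3 v
        have e2 : ρ y * ρ (xm v) = ρ (xm (eL v)) * ρ y := by
          show ρ y * ρ (xm v) = ρ (xm (L v)) * ρ y
          rw [← map_mul, ← map_mul, ← h1]
          congr 1; group
        rw [mul_smul_comm, e2, e1, smul_mul_assoc]
    _ = ∑ v : Fin m → F, ψ (-(c ⬝ᵥ v)) • ρ (xm v) * ρ y :=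
        Equiv.sum_comp eL (fun v => ψ (-(c ⬝ᵥ v)) • ρ (xm v) * ρ y)

theorem eC_idem (ψ : AddChar F ℂ) (hψ : ∃ a, ψ a ≠ 1)
    (ρ : Representation ℂ (GG m F) (Fin k → ℂ)) (c : Fin m → F) :
    IsIdempotentElem (eC ψ ρ c) := by
  unfold IsIdempotentElem
  rw [eC_mul_eC ψ hψ, if_pos rfl]

/-- an idempotent of trace one has a one-dimensional range -/
theorem eC_rank_one (ψ : AddChar F ℂ) (hψ : ∃ a, ψ a ≠ 1)
    (ρ : Representation ℂ (GG m F) (Fin k → ℂ)) (c : Fin m → F)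
    (h1 : mV ψ ρ.character c = 1) :
    ∃ x₀ : Fin k → ℂ, x₀ ≠ 0 ∧ eC ψ ρ c x₀ = x₀ ∧ ∀ z, ∃ a : ℂ, eC ψ ρ c z = a • x₀ := by
  have he := eC_idem ψ hψ ρ c
  have hproj := LinearMap.IsIdempotentElem.isProj_range (eC ψ ρ c) he
  have htr := hproj.trace
  rw [trace_eC, h1] at htr
  have hfr : Module.finrank ℂ (LinearMap.range (eC ψ ρ c)) = 1 := by
    exact_mod_cast htr.symm
  obtain ⟨v, hv0, hv⟩ := finrank_eq_one_iff'.mp hfr
  refine ⟨v.1, ?_, ?_, ?_⟩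
  · intro h
    apply hv0
    exact Subtype.ext h
  · exact hproj.map_id v.1 v.2
  · intro z
    obtain ⟨a, ha⟩ := hv ⟨eC ψ ρ c z, LinearMap.mem_range_self _ z⟩
    refine ⟨a, ?_⟩
    have := congrArg Subtype.val ha
    simpa using this.symm

/-- commutators of the stabiliser act trivially on a one-dimensional component -/
theorem comm_fix (ψ : AddChar F ℂ) (hψ : ∃ a, ψ a ≠ 1)
    (ρ : Representation ℂ (GG m F) (Fin k → ℂ)) (c : Fin m → F)
    (h1 : mV ψ ρ.character c = 1) (y : GG m F) (hy : y ∈ ⁅StabC c, StabC c⁆) :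
    ρ y * eC ψ ρ c = eC ψ ρ c := by
  obtain ⟨x₀, hx0, hfix, hspan⟩ := eC_rank_one ψ hψ ρ c h1
  -- elements of the stabiliser act on `x₀` by scalars
  have hsc : ∀ g ∈ StabC c, ∃ μ : ℂ, ρ g x₀ = μ • x₀ := by
    intro g hg
    obtain ⟨a, ha⟩ := hspan (ρ g x₀)
    refine ⟨a, ?_⟩
    have h2 : (ρ g * eC ψ ρ c) x₀ = (eC ψ ρ c * ρ g) x₀ := by rw [stab_comm ψ ρ c g hg]
    rw [Module.End.mul_apply, Module.End.mul_apply, hfix] at h2
    rw [h2, ha]
  -- the stabiliser of `x₀`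
  let Sx : Subgroup (GG m F) :=
    { carrier := {g | ρ g x₀ = x₀}
      one_mem' := by show ρ 1 x₀ = x₀; rw [map_one]; rfl
      mul_mem' := by
        intro a b ha hb
        show ρ (a * b) x₀ = x₀
        rw [map_mul, Module.End.mul_apply, hb, ha]
      inv_mem' := by
        intro a ha
        show ρ a⁻¹ x₀ = x₀
        have h3 : ρ a⁻¹ (ρ a x₀) = x₀ := by
          rw [← Module.End.mul_apply, ← map_mul, inv_mul_cancel, map_one]; rfl
        rw [ha] at h3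
        exact h3 }
  have hle : ⁅StabC c, StabC c⁆ ≤ Sx := by
    rw [Subgroup.commutator_le]
    intro g₁ hg₁ g₂ hg₂
    obtain ⟨μ₁, hμ₁⟩ := hsc g₁ hg₁
    obtain ⟨μ₂, hμ₂⟩ := hsc g₂ hg₂
    obtain ⟨ν₁, hν₁⟩ := hsc g₁⁻¹ (inv_mem hg₁)
    obtain ⟨ν₂, hν₂⟩ := hsc g₂⁻¹ (inv_mem hg₂)
    have e1 : μ₁ * ν₁ = 1 := by
      have h3 : ρ g₁ (ρ g₁⁻¹ x₀) = x₀ := by
        rw [← Module.End.mul_apply, ← map_mul, mul_inv_cancel, map_one]; rfl
      rw [hν₁, map_smul, hμ₁, smul_smul] at h3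
      have h4 : (ν₁ * μ₁ - 1) • x₀ = 0 := by rw [sub_smul, h3, one_smul, sub_self]
      rcases smul_eq_zero.mp h4 with h5 | h5
      · rw [mul_comm]; exact sub_eq_zero.mp h5
      · exact absurd h5 hx0
    have e2 : μ₂ * ν₂ = 1 := by
      have h3 : ρ g₂ (ρ g₂⁻¹ x₀) = x₀ := by
        rw [← Module.End.mul_apply, ← map_mul, mul_inv_cancel, map_one]; rfl
      rw [hν₂, map_smul, hμ₂, smul_smul] at h3
      have h4 : (ν₂ * μ₂ - 1) • x₀ = 0 := by rw [sub_smul, h3, one_smul, sub_self]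
      rcases smul_eq_zero.mp h4 with h5 | h5
      · rw [mul_comm]; exact sub_eq_zero.mp h5
      · exact absurd h5 hx0
    show ρ (g₁ * g₂ * g₁⁻¹ * g₂⁻¹) x₀ = x₀
    simp only [map_mul, Module.End.mul_apply, hν₂, map_smul, hν₁, hμ₂, hμ₁, smul_smul]
    convert one_smul ℂ x₀ using 2
    linear_combination (μ₂ * ν₂) * e1 + e2
  have hyS : ρ y x₀ = x₀ := hle hy
  apply LinearMap.ext
  intro z
  obtain ⟨a, ha⟩ := hspan z
  rw [Module.End.mul_apply, ha, map_smul, hyS]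

theorem trace_gm_eC_zero (ψ : AddChar F ℂ) (hψ : ∃ a, ψ a ≠ 1)
    (ρ : Representation ℂ (GG m F) (Fin k → ℂ)) (A : SS m F) (c : Fin m → F)
    (hne : A.1 *ᵥ c ≠ c) :
    LinearMap.trace ℂ (Fin k → ℂ) (ρ (gm A) * eC ψ ρ c) = 0 := by
  have he := eC_idem ψ hψ ρ c
  have h1 : ρ (gm A) * eC ψ ρ c = (ρ (gm A) * eC ψ ρ c) * eC ψ ρ c := by
    rw [mul_assoc, he.eq]
  rw [h1, LinearMap.trace_mul_comm, rho_gm_mul_eC, ← mul_assoc, eC_mul_eC ψ hψ,
    if_neg (fun h => hne h.symm), zero_mul, map_zero]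

theorem trace_gm_eC_res0 (ψ : AddChar F ℂ) (ρ : Representation ℂ (GG m F) (Fin k → ℂ))
    (A : SS m F) :
    LinearMap.trace ℂ (Fin k → ℂ) (ρ (gm A) * eC ψ ρ 0) = res0 ρ.character A := by
  rw [trace_rho_mul_eC]
  unfold res0
  congr 1
  refine Finset.sum_congr rfl fun v _ => ?_
  rw [zero_dotProduct, neg_zero, AddChar.map_zero_eq_one, one_mul, Representation.char_mul_comm]

theorem character_eq_sum (ψ : AddChar F ℂ) (hψ : ∃ a, ψ a ≠ 1)
    (ρ : Representation ℂ (GG m F) (Fin k → ℂ)) (g : GG m F) :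
    ρ.character g = ∑ c : Fin m → F, LinearMap.trace ℂ (Fin k → ℂ) (ρ g * eC ψ ρ c) := by
  rw [← map_sum, ← Finset.mul_sum, sum_eC ψ hψ, mul_one]
  rfl

end Cfsg.Agent.Lib.Helper2.MND
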