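import Mathlib
import Cfsg.Agent.Lib.Helper2.MNDC2

set_option autoImplicit false
set_option linter.unusedSectionVars false
set_option linter.unusedVariables false
set_option linter.unusedSimpArgs false
set_option linter.style.haveILetI false

/-!
Farm MND (statement S2332), unit C, part 3: the double count (STAR), with the statements of the
units A1 (`hb_conj`, `tvS_mulVec`) and B1 (`avgA`) as hypotheses.
-/

namespace Cfsg.Agent.Lib.Helper2.MND

open Matrix Cfsg Cfsg.Agent.Lib.Lead.LS1 Cfsg.Agent.Lib.Helper1.MND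

variable {F : Type*} [Field F] [Fintype F] [DecidableEq F] {m k : ℕ}

/-- the number of vectors with a given coordinate zero -/
theorem card_coord_zero (n : ℕ) (j : Fin (n + 1)) :
    ((Finset.univ : Finset (Fin (n + 1) → F)).filter (fun c => c j = 0)).card =
      Fintype.card F ^ n := by
  have h1 : (Finset.univ : Finset (Fin (n + 1) → F)).filter (fun c => c j = 0) =
      Fintype.piFinset (fun i => if i = j then ({0} : Finset F) else Finset.univ) := by
    ext c
    rw [Finset.mem_filter, Fintype.mem_piFinset]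
    constructor
    · rintro ⟨_, h⟩ i
      by_cases hi : i = j
      · rw [if_pos hi, Finset.mem_singleton, hi, h]
      · rw [if_neg hi]; exact Finset.mem_univ _
    · intro h
      refine ⟨Finset.mem_univ _, ?_⟩
      have := h j
      rw [if_pos rfl, Finset.mem_singleton] at this
      exact this
  rw [h1, Fintype.card_piFinset,
    Fin.prod_univ_succAbove
      (fun i : Fin (n + 1) => (if i = j then ({0} : Finset F) else Finset.univ).card) j,
    if_pos rfl, Finset.card_singleton, one_mul]
  have h2 : ∀ i : Fin n, (if j.succAbove i = j then ({0} : Finset F) else Finset.univ).card =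
      Fintype.card F := by
    intro i
    rw [if_neg (Fin.succAbove_ne j i), Finset.card_univ]
  simp_rw [h2]
  rw [Finset.prod_const, Finset.card_univ, Fintype.card_fin]

theorem gm_one : (gm (1 : SS m F) : GG m F) = 1 := by
  apply Subtype.ext
  show fromBlocks 1 0 0 (1 : Matrix (Fin m) (Fin m) F) = 1
  exact fromBlocks_one

theorem tvS_zero : (tvS (0 : F) : SS (m + 2) F) = 1 := by
  apply Subtype.ext
  show Matrix.transvection (0 : Fin (m + 2)) 1 (0 : F) = 1
  exact Matrix.transvection_zero (R := F) (0 : Fin (m + 2)) 1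

/-- the contribution of the component `c ≠ 0` to `χ (hb t)` -/
theorem trace_hb_eC (ψ : AddChar F ℂ) (hψ : ∃ a, ψ a ≠ 1)
    (ρ : Representation ℂ (GG (m + 2) F) (Fin k → ℂ)) (hB : BOne ψ ρ.character)
    (hcomm : ∀ c : Fin (m + 2) → F, c ≠ 0 → c 1 = 0 → ∀ t : F,
      (hb t : GG (m + 2) F) ∈ ⁅StabC c, StabC c⁆)
    (htv : ∀ (t : F) (c : Fin (m + 2) → F),
      (tvS t : SS (m + 2) F).1 *ᵥ c = c + (t * c 1) • Pi.single 0 1)
    (t : F) (c : Fin (m + 2) → F) (hc : c ≠ 0) :
    LinearMap.trace ℂ (Fin k → ℂ) (ρ (hb t) * eC ψ ρ c) = if t * c 1 = 0 then 1 else 0 := by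
  by_cases h0 : t * c 1 = 0
  · rw [if_pos h0]
    rcases mul_eq_zero.mp h0 with ht | hc1
    · subst ht
      have : (hb (0 : F) : GG (m + 2) F) = 1 := by
        unfold hb
        rw [tvS_zero, gm_one]
      rw [this, map_one, one_mul, trace_eC, hB c hc]
    · rw [comm_fix ψ hψ ρ c (hB c hc) (hb t) (hcomm c hc hc1 t), trace_eC, hB c hc]
  · rw [if_neg h0]
    apply trace_gm_eC_zero ψ hψ
    rw [htv]
    intro h
    have h2 := congrFun h 0
    rw [Pi.add_apply, Pi.smul_apply, Pi.single_eq_same, smul_eq_mul, mul_one] at h2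
    exact h0 (by simpa using h2)

/-- the number of `c` with `t * c 1 = 0` -/
theorem sum_indicator (t : F) :
    ∑ c : Fin (m + 2) → F, (if t * c 1 = 0 then (1 : ℂ) else 0) =
      if t = 0 then (Fintype.card F : ℂ) ^ (m + 2) else (Fintype.card F : ℂ) ^ (m + 1) := by
  by_cases ht : t = 0
  · subst ht
    rw [if_pos rfl]
    simp only [zero_mul, if_true, Finset.sum_const, Finset.card_univ, nsmul_eq_mul, mul_one]
    exact card_fun
  · rw [if_neg ht]
    have h1 : ∀ c : Fin (m + 2) → F, (t * c 1 = 0) ↔ c 1 = 0 := by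
      intro c
      constructor
      · intro h
        rcases mul_eq_zero.mp h with h | h
        · exact absurd h ht
        · exact h
      · intro h; rw [h, mul_zero]
    simp_rw [h1]
    rw [← Finset.sum_filter, Finset.sum_const, card_coord_zero (F := F) (m + 1) 1]
    simp

/-- unit C with the statements of A1 and B1 as hypotheses -/
theorem star_of (ψ : AddChar F ℂ) (hψ : ∃ a, ψ a ≠ 1)
    (ρ : Representation ℂ (GG (m + 2) F) (Fin k → ℂ)) (hB : BOne ψ ρ.character)
    (hcomm : ∀ c : Fin (m + 2) → F, c ≠ 0 → c 1 = 0 → ∀ t : F,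
      (hb t : GG (m + 2) F) ∈ ⁅StabC c, StabC c⁆)
    (hconj : ∃ w : GG (m + 2) F, ∀ t : F, w * xm (t • Pi.single 0 1) * w⁻¹ = hb t)
    (htv : ∀ (t : F) (c : Fin (m + 2) → F),
      (tvS t : SS (m + 2) F).1 *ᵥ c = c + (t * c 1) • Pi.single 0 1)
    (havgA : (Fintype.card F : ℂ)⁻¹ *
        ∑ t : F, ρ.character (xm (t • Pi.single (0 : Fin (m + 2)) 1)) =
      ∑ c ∈ (Finset.univ : Finset (Fin (m + 2) → F)).filter (fun c => c 0 = 0),
        mV ψ ρ.character c) :
    mV ψ ρ.character 0 - avgB (res0 ρ.character) =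
      (Fintype.card F : ℂ) ^ (m + 1) - (Fintype.card F : ℂ) ^ m := by
  set q : ℂ := (Fintype.card F : ℂ) with hq
  have hq0 : q ≠ 0 := by
    rw [hq]; exact_mod_cast Fintype.card_ne_zero
  set a : ℂ := mV ψ ρ.character 0 with ha
  -- first computation
  have hchi : ∀ t : F, ρ.character (hb t) =
      res0 ρ.character (tvS t) +
        ((if t = 0 then q ^ (m + 2) else q ^ (m + 1)) - 1) := by
    intro t
    rw [character_eq_sum ψ hψ ρ (hb t), ← Finset.add_sum_erase _ _ (Finset.mem_univ (0 : Fin (m + 2) → F))]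
    congr 1
    · exact trace_gm_eC_res0 ψ ρ (tvS t)
    · have h1 : ∀ c ∈ (Finset.univ : Finset (Fin (m + 2) → F)).erase 0,
          LinearMap.trace ℂ (Fin k → ℂ) (ρ (hb t) * eC ψ ρ c) =
            if t * c 1 = 0 then (1 : ℂ) else 0 := by
        intro c hc
        exact trace_hb_eC ψ hψ ρ hB hcomm htv t c (Finset.ne_of_mem_erase hc)
      rw [Finset.sum_congr rfl h1, ← sum_indicator (m := m) t,
        ← Finset.add_sum_erase _ _ (Finset.mem_univ (0 : Fin (m + 2) → F))]
      simp
  have hsum1 : ∑ t : F, ρ.character (hb t) =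
      q * avgB (res0 ρ.character) + (q ^ (m + 2) + (q - 1) * q ^ (m + 1) - q) := by
    simp_rw [hchi]
    rw [Finset.sum_add_distrib, Finset.sum_sub_distrib]
    have e1 : ∑ t : F, res0 ρ.character (tvS t) = q * avgB (res0 ρ.character) := by
      unfold avgB
      rw [← mul_assoc, mul_inv_cancel₀ hq0, one_mul]
    have e2 : ∑ t : F, (if t = 0 then q ^ (m + 2) else q ^ (m + 1)) =
        q ^ (m + 2) + (q - 1) * q ^ (m + 1) := by
      rw [← Finset.add_sum_erase _ _ (Finset.mem_univ (0 : F)), if_pos rfl]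
      congr 1
      have h3 : ∀ t ∈ (Finset.univ : Finset F).erase 0,
          (if t = 0 then q ^ (m + 2) else q ^ (m + 1)) = q ^ (m + 1) := by
        intro t ht
        rw [if_neg (Finset.ne_of_mem_erase ht)]
      rw [Finset.sum_congr rfl h3, Finset.sum_const, Finset.card_erase_of_mem (Finset.mem_univ _),
        Finset.card_univ, nsmul_eq_mul, Nat.cast_sub Fintype.card_pos, Nat.cast_one]
    have e3 : ∑ _t : F, (1 : ℂ) = q := by
      rw [Finset.sum_const, Finset.card_univ, nsmul_eq_mul, mul_one]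
    rw [e1, e2, e3]
  -- second computation
  have hsum2 : ∑ t : F, ρ.character (hb t) = q * (a + (q ^ (m + 1) - 1)) := by
    obtain ⟨w, hw⟩ := hconj
    have e1 : ∀ t : F, ρ.character (hb t) = ρ.character (xm (t • Pi.single (0 : Fin (m + 2)) 1)) := by
      intro t
      rw [← hw t, Representation.char_conj]
    simp_rw [e1]
    have e2 : ∑ t : F, ρ.character (xm (t • Pi.single (0 : Fin (m + 2)) 1)) =
        q * ∑ c ∈ (Finset.univ : Finset (Fin (m + 2) → F)).filter (fun c => c 0 = 0),
          mV ψ ρ.character c := by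
      rw [← havgA, ← mul_assoc, mul_inv_cancel₀ hq0, one_mul]
    rw [e2]
    congr 1
    have hmem : (0 : Fin (m + 2) → F) ∈
        (Finset.univ : Finset (Fin (m + 2) → F)).filter (fun c => c 0 = 0) := by
      rw [Finset.mem_filter]; exact ⟨Finset.mem_univ _, rfl⟩
    rw [← Finset.add_sum_erase _ _ hmem]
    congr 1
    have h3 : ∀ c ∈ ((Finset.univ : Finset (Fin (m + 2) → F)).filter (fun c => c 0 = 0)).erase 0,
        mV ψ ρ.character c = 1 := by
      intro c hc
      exact hB c (Finset.ne_of_mem_erase hc)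
    rw [Finset.sum_congr rfl h3, Finset.sum_const, Finset.card_erase_of_mem hmem,
      card_coord_zero (F := F) (m + 1) 0, nsmul_eq_mul, mul_one,
      Nat.cast_sub (Nat.one_le_pow _ _ Fintype.card_pos)]
    push_cast
    rfl
  -- conclusion
  have hfin : q * (a - avgB (res0 ρ.character)) = q * (q ^ (m + 1) - q ^ m) := by
    have := hsum1.symm.trans hsum2
    linear_combination -this
  exact mul_left_cancel₀ hq0 hfin

end Cfsg.Agent.Lib.Helper2.MND
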