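import Mathlib
import Cfsg.Agent.Lib.Helper6.StSLDefs

set_option autoImplicit false
set_option linter.style.haveILetI false
set_option linter.unusedVariables false
set_option linter.unusedSimpArgs false

/-!
Farm STSL (statement S2401), unit W: the Weyl elements `w_ij(t)` of a group with Steinberg
generators of type `A` (Milnor, Lemma 9.2 / Cor. 9.4).
-/

namespace Cfsg.Agent.Lib.Helper2.StSL

open Matrix Cfsg.Agent.Lib.Helper6.StSL

variable {I : Type*} [DecidableEq I] [Fintype I] {K : Type*} [Field K] {Γ : Type*} [Group Γ]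
  (S : StA I K Γ)

/-! ### generalities -/

theorem exists_third (h3 : 3 ≤ Fintype.card I) (i j : I) : ∃ m : I, m ≠ i ∧ m ≠ j := by
  by_contra hcon
  push Not at hcon
  have h2 : Fintype.card I ≤ 2 := by
    calc Fintype.card I = (Finset.univ : Finset I).card := Finset.card_univ.symm
      _ ≤ ({i, j} : Finset I).card := by
          apply Finset.card_le_card
          intro m _
          by_cases h : m = i
          · simp [h]
          · simp [hcon m h]
      _ ≤ 2 := Finset.card_le_two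
  omega

theorem wc_left (i j : I) (t : K) : wc i j t i = -t⁻¹ := by simp [wc]

theorem wc_right {i j : I} (hij : i ≠ j) (t : K) : wc i j t j = t := by
  simp [wc, hij.symm]

theorem wc_of_ne {i j k : I} (hki : k ≠ i) (hkj : k ≠ j) (t : K) : wc i j t k = 1 := by
  simp [wc, hki, hkj]

theorem cj3 (a b c y : Γ) :
    MulAut.conj (a * b * c) y = MulAut.conj a (MulAut.conj b (MulAut.conj c y)) := by
  rw [map_mul, map_mul]; rfl

theorem cj_comm {i j k l : I} (hij : i ≠ j) (hkl : k ≠ l) (hil : i ≠ l) (hjk : j ≠ k) (t u : K) :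
    MulAut.conj (S.x i j t) (S.x k l u) = S.x k l u := by
  rw [MulAut.conj_apply, S.comm_ne i j k l hij hkl hil hjk, mul_inv_cancel_right]

theorem cj_x1 {i j l : I} (hij : i ≠ j) (hjl : j ≠ l) (hil : i ≠ l) (t u : K) :
    MulAut.conj (S.x i j t) (S.x j l u) = S.x i l (t * u) * S.x j l u := by
  rw [MulAut.conj_apply, S.x_mul_x hij hjl hil, mul_inv_cancel_right]

theorem cj_x2 {i j l : I} (hij : i ≠ j) (hjl : j ≠ l) (hil : i ≠ l) (t u : K) :
    MulAut.conj (S.x j l u) (S.x i j t) = S.x i l (-(t * u)) * S.x i j t := by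
  rw [MulAut.conj_apply, S.x_mul_x' hij hjl hil, mul_inv_cancel_right]

theorem sandwich {a b c d : I} (hab : a ≠ b) (hcd : c ≠ d) (had : a ≠ d) (hbc : b ≠ c)
    (α β γ : K) (h : α + β = 0) :
    S.x a b α * S.x c d γ * S.x a b β = S.x c d γ := by
  rw [S.comm_ne a b c d hab hcd had hbc, mul_assoc, S.x_add a b hab, h, S.x_zero hab, mul_one]

/-! ### the seven cases -/

/-- case (a): disjoint indices -/
theorem cj_w_a {i j k l : I} (hij : i ≠ j) (hkl : k ≠ l) (hki : k ≠ i) (hkj : k ≠ j)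
    (hli : l ≠ i) (hlj : l ≠ j) (t u : K) :
    MulAut.conj (S.w i j t) (S.x k l u) = S.x k l u := by
  have h1 : MulAut.conj (S.x i j t) (S.x k l u) = S.x k l u :=
    cj_comm S hij hkl hli.symm hkj.symm t u
  have h2 : MulAut.conj (S.x j i (-t⁻¹)) (S.x k l u) = S.x k l u :=
    cj_comm S hij.symm hkl hlj.symm hki.symm _ u
  rw [StA.w, cj3, h1, h2, h1]

/-- case (b): `x_il(u) ↦ x_jl(-t⁻¹ u)` -/
theorem cj_w_b {i j l : I} (hij : i ≠ j) (hli : l ≠ i) (hlj : l ≠ j) {t : K} (ht : t ≠ 0)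
    (u : K) :
    MulAut.conj (S.w i j t) (S.x i l u) = S.x j l (-t⁻¹ * u) := by
  have h1 : MulAut.conj (S.x i j t) (S.x i l u) = S.x i l u :=
    cj_comm S hij hli.symm hli.symm hij.symm t u
  have h2 : MulAut.conj (S.x j i (-t⁻¹)) (S.x i l u) = S.x j l (-t⁻¹ * u) * S.x i l u :=
    cj_x1 S hij.symm hli.symm hlj.symm _ _
  have h3 : MulAut.conj (S.x i j t) (S.x j l (-t⁻¹ * u)) =
      S.x i l (t * (-t⁻¹ * u)) * S.x j l (-t⁻¹ * u) :=
    cj_x1 S hij hlj.symm hli.symm _ _
  rw [StA.w, cj3, h1, h2, map_mul, h3, h1]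
  apply sandwich S hli.symm hlj.symm hli.symm hlj
  have : t * t⁻¹ = 1 := mul_inv_cancel₀ ht
  linear_combination (-u) * this

/-- case (c): `x_jl(u) ↦ x_il(t u)` -/
theorem cj_w_c {i j l : I} (hij : i ≠ j) (hli : l ≠ i) (hlj : l ≠ j) {t : K} (ht : t ≠ 0)
    (u : K) :
    MulAut.conj (S.w i j t) (S.x j l u) = S.x i l (t * u) := by
  have h1 : MulAut.conj (S.x i j t) (S.x j l u) = S.x i l (t * u) * S.x j l u :=
    cj_x1 S hij hlj.symm hli.symm _ _
  have h2 : MulAut.conj (S.x j i (-t⁻¹)) (S.x i l (t * u)) =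
      S.x j l (-t⁻¹ * (t * u)) * S.x i l (t * u) :=
    cj_x1 S hij.symm hli.symm hlj.symm _ _
  have h3 : MulAut.conj (S.x j i (-t⁻¹)) (S.x j l u) = S.x j l u :=
    cj_comm S hij.symm hlj.symm hlj.symm hij _ _
  have h4 : MulAut.conj (S.x i j t) (S.x i l (t * u)) = S.x i l (t * u) :=
    cj_comm S hij hli.symm hli.symm hij.symm t _
  have h5 : S.x j l (-t⁻¹ * (t * u)) * S.x i l (t * u) * S.x j l u = S.x i l (t * u) := by
    apply sandwich S hlj.symm hli.symm hlj.symm hli
    have : t⁻¹ * t = 1 := inv_mul_cancel₀ ht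
    linear_combination (-u) * this
  rw [StA.w, cj3, h1, map_mul, h2, h3, h5, h4]

/-- case (d): `x_ki(u) ↦ x_kj(-t u)` -/
theorem cj_w_d {i j k : I} (hij : i ≠ j) (hki : k ≠ i) (hkj : k ≠ j) {t : K} (ht : t ≠ 0)
    (u : K) :
    MulAut.conj (S.w i j t) (S.x k i u) = S.x k j (-t * u) := by
  have h1 : MulAut.conj (S.x i j t) (S.x k i u) = S.x k j (-(u * t)) * S.x k i u :=
    cj_x2 S hki hij hkj _ _
  have h2 : MulAut.conj (S.x j i (-t⁻¹)) (S.x k j (-(u * t))) =
      S.x k i (-(-(u * t) * -t⁻¹)) * S.x k j (-(u * t)) :=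
    cj_x2 S hkj hij.symm hki _ _
  have h3 : MulAut.conj (S.x j i (-t⁻¹)) (S.x k i u) = S.x k i u :=
    cj_comm S hij.symm hki hij.symm hki.symm _ _
  have h4 : MulAut.conj (S.x i j t) (S.x k j (-(u * t))) = S.x k j (-(u * t)) :=
    cj_comm S hij hkj hij hkj.symm t _
  have h5 : S.x k i (-(-(u * t) * -t⁻¹)) * S.x k j (-(u * t)) * S.x k i u =
      S.x k j (-(u * t)) := by
    apply sandwich S hki hkj hkj hki.symm
    have : t * t⁻¹ = 1 := mul_inv_cancel₀ ht
    linear_combination (-u) * this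
  rw [StA.w, cj3, h1, map_mul, h2, h3, h5, h4]
  congr 1; ring

/-- case (e): `x_kj(u) ↦ x_ki(t⁻¹ u)` -/
theorem cj_w_e {i j k : I} (hij : i ≠ j) (hki : k ≠ i) (hkj : k ≠ j) {t : K} (ht : t ≠ 0)
    (u : K) :
    MulAut.conj (S.w i j t) (S.x k j u) = S.x k i (t⁻¹ * u) := by
  have h1 : MulAut.conj (S.x i j t) (S.x k j u) = S.x k j u :=
    cj_comm S hij hkj hij hkj.symm t _
  have h2 : MulAut.conj (S.x j i (-t⁻¹)) (S.x k j u) =
      S.x k i (-(u * -t⁻¹)) * S.x k j u :=
    cj_x2 S hkj hij.symm hki _ _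
  have h3 : MulAut.conj (S.x i j t) (S.x k i (-(u * -t⁻¹))) =
      S.x k j (-(-(u * -t⁻¹) * t)) * S.x k i (-(u * -t⁻¹)) :=
    cj_x2 S hki hij hkj _ _
  have h5 : S.x k j (-(-(u * -t⁻¹) * t)) * S.x k i (-(u * -t⁻¹)) * S.x k j u =
      S.x k i (-(u * -t⁻¹)) := by
    apply sandwich S hkj hki hki hkj.symm
    have : t⁻¹ * t = 1 := inv_mul_cancel₀ ht
    linear_combination (-u) * this
  rw [StA.w, cj3, h1, h2, map_mul, h3, h1, h5]
  congr 1; ring

/-- case (f): `x_ij(u) ↦ x_ji(-t⁻² u)`, via a third index -/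
theorem cj_w_f (h3 : 3 ≤ Fintype.card I) {i j : I} (hij : i ≠ j) {t : K} (ht : t ≠ 0) (u : K) :
    MulAut.conj (S.w i j t) (S.x i j u) = S.x j i (-t⁻¹ * t⁻¹ * u) := by
  obtain ⟨m, hmi, hmj⟩ := exists_third h3 i j
  have e : S.x i j u = S.x i m u * S.x m j 1 * (S.x i m u)⁻¹ * (S.x m j 1)⁻¹ := by
    rw [S.comm_eq i m j hmi.symm hmj hij, mul_one]
  rw [e, map_mul, map_mul, map_mul, map_inv, map_inv, cj_w_b S hij hmi hmj ht,
    cj_w_e S hij hmi hmj ht, S.comm_eq j m i hmj.symm hmi hij.symm]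
  congr 1; ring

/-- case (g): `x_ji(u) ↦ x_ij(-t² u)`, via a third index -/
theorem cj_w_g (h3 : 3 ≤ Fintype.card I) {i j : I} (hij : i ≠ j) {t : K} (ht : t ≠ 0) (u : K) :
    MulAut.conj (S.w i j t) (S.x j i u) = S.x i j (t * -t * u) := by
  obtain ⟨m, hmi, hmj⟩ := exists_third h3 i j
  have e : S.x j i u = S.x j m u * S.x m i 1 * (S.x j m u)⁻¹ * (S.x m i 1)⁻¹ := by
    rw [S.comm_eq j m i hmj.symm hmi hij.symm, mul_one]
  rw [e, map_mul, map_mul, map_mul, map_inv, map_inv, cj_w_c S hij hmi hmj ht,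
    cj_w_d S hij hmi hmj ht, S.comm_eq i m j hmi.symm hmj hij]
  congr 1; ring

/-! ### unit W -/

theorem w_inv {i j : I} (hij : i ≠ j) (t : K) : (S.w i j t)⁻¹ = S.w i j (-t) := by
  unfold StA.w
  rw [_root_.mul_inv_rev, _root_.mul_inv_rev, S.x_inv hij, S.x_inv hij.symm, neg_neg, inv_neg, neg_neg,
    mul_assoc]

/-- all seven cases in one formula; the cases `{k,l} = {i,j}` use a third index -/
theorem w_conj (h3 : 3 ≤ Fintype.card I) {i j : I} (hij : i ≠ j) {t : K} (ht : t ≠ 0)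
    {k l : I} (hkl : k ≠ l) (u : K) :
    S.w i j t * S.x k l u * (S.w i j t)⁻¹ =
      S.x (Equiv.swap i j k) (Equiv.swap i j l) (wc i j t k * (wc i j t l)⁻¹ * u) := by
  rw [← MulAut.conj_apply]
  by_cases hki : k = i
  · subst hki
    by_cases hlj : l = j
    · subst hlj
      rw [Equiv.swap_apply_left, Equiv.swap_apply_right, wc_left, wc_right hij,
        cj_w_f S h3 hij ht]
    · rw [Equiv.swap_apply_left, Equiv.swap_apply_of_ne_of_ne hkl.symm hlj, wc_left,
        wc_of_ne hkl.symm hlj, cj_w_b S hij hkl.symm hlj ht]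
      congr 1; rw [inv_one, mul_one]
  · by_cases hkj : k = j
    · subst hkj
      by_cases hli : l = i
      · subst hli
        rw [Equiv.swap_apply_left, Equiv.swap_apply_right, wc_left, wc_right hij,
          cj_w_g S h3 hij ht]
        congr 1; rw [inv_neg, inv_inv]
      · rw [Equiv.swap_apply_right, Equiv.swap_apply_of_ne_of_ne hli hkl.symm, wc_right hij,
          wc_of_ne hli hkl.symm, cj_w_c S hij hli hkl.symm ht]
        congr 1; rw [inv_one, mul_one]
    · by_cases hli : l = i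
      · subst hli
        rw [Equiv.swap_apply_left, Equiv.swap_apply_of_ne_of_ne hki hkj, wc_left,
          wc_of_ne hki hkj, cj_w_d S hij hki hkj ht]
        congr 1; rw [inv_neg, inv_inv, one_mul]
      · by_cases hlj : l = j
        · subst hlj
          rw [Equiv.swap_apply_right, Equiv.swap_apply_of_ne_of_ne hki hkj, wc_right hij,
            wc_of_ne hki hkj, cj_w_e S hij hki hkj ht]
          congr 1; rw [one_mul]
        · rw [Equiv.swap_apply_of_ne_of_ne hki hkj, Equiv.swap_apply_of_ne_of_ne hli hlj,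
            wc_of_ne hki hkj, wc_of_ne hli hlj, cj_w_a S hij hkl hki hkj hli hlj]
          congr 1; rw [inv_one, mul_one, one_mul]

theorem w_conj_w (h3 : 3 ≤ Fintype.card I) {i j : I} (hij : i ≠ j) {t : K} (ht : t ≠ 0)
    {k l : I} (hkl : k ≠ l) {u : K} (hu : u ≠ 0) :
    S.w i j t * S.w k l u * (S.w i j t)⁻¹ =
      S.w (Equiv.swap i j k) (Equiv.swap i j l) (wc i j t k * (wc i j t l)⁻¹ * u) := by
  have e1 := w_conj S h3 hij ht hkl u
  have e2 := w_conj S h3 hij ht hkl.symm (-u⁻¹)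
  have e3 : wc i j t l * (wc i j t k)⁻¹ * -u⁻¹ = -(wc i j t k * (wc i j t l)⁻¹ * u)⁻¹ := by
    rw [mul_inv, mul_inv, inv_inv]; ring
  rw [← MulAut.conj_apply] at e1 e2 ⊢
  rw [e3] at e2
  have e4 : S.w k l u = S.x k l u * S.x l k (-u⁻¹) * S.x k l u := rfl
  rw [e4, map_mul, map_mul, e1, e2]
  rfl

theorem w_symm (h3 : 3 ≤ Fintype.card I) {i j : I} (hij : i ≠ j) {t : K} (ht : t ≠ 0) :
    S.w j i t = S.w i j (-t⁻¹) := by
  have e := w_conj_w S h3 hij.symm ht hij.symm ht
  rw [mul_inv_cancel_right, Equiv.swap_apply_left, Equiv.swap_apply_right, wc_left,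
    wc_right hij.symm] at e
  rw [e]
  congr 1
  rw [mul_assoc, inv_mul_cancel₀ ht, mul_one]

theorem transvection_mulVec (i j : I) (c : K) (v : I → K) :
    Matrix.transvection i j c *ᵥ v = v + Pi.single i (c * v j) := by
  rw [Matrix.transvection, Matrix.add_mulVec, Matrix.one_mulVec, Matrix.single_mulVec]
  rfl

/-- the matrix of `w_ij(t)`: `e_k ↦ wc i j t k • e_(swap i j k)` -/
theorem π_w {i j : I} (hij : i ≠ j) {t : K} (ht : t ≠ 0) (k : I) :
    ((S.π (S.w i j t) : Matrix.SpecialLinearGroup I K) : Matrix I I K) *ᵥ (Pi.single k 1) =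
      Pi.single (Equiv.swap i j k) (wc i j t k) := by
  have hm : ((S.π (S.w i j t) : Matrix.SpecialLinearGroup I K) : Matrix I I K) =
      Matrix.transvection i j t * Matrix.transvection j i (-t⁻¹) * Matrix.transvection i j t := by
    rw [StA.w, map_mul, map_mul, Matrix.SpecialLinearGroup.coe_mul,
      Matrix.SpecialLinearGroup.coe_mul, S.π_x i j hij, S.π_x j i hij.symm]
  have htt : t * t⁻¹ = 1 := mul_inv_cancel₀ ht
  rw [hm, ← Matrix.mulVec_mulVec, ← Matrix.mulVec_mulVec, transvection_mulVec,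
    transvection_mulVec, transvection_mulVec]
  by_cases hki : k = i
  · subst hki
    rw [Equiv.swap_apply_left, wc_left]
    ext r
    by_cases hrk : r = k
    · subst hrk
      simp [Pi.single_apply, hij, hij.symm]
      linear_combination (-1 : K) * htt
    · by_cases hrj : r = j
      · subst hrj
        simp [Pi.single_apply, hij, hij.symm]
      · simp [Pi.single_apply, hij, hij.symm, hrk, hrj]
  · by_cases hkj : k = j
    · subst hkj
      rw [Equiv.swap_apply_right, wc_right hij]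
      ext r
      by_cases hri : r = i
      · subst hri
        simp [Pi.single_apply, hij, hij.symm]
        right
        linear_combination (-1 : K) * htt
      · by_cases hrk : r = k
        · subst hrk
          simp [Pi.single_apply, hij, hij.symm]
          linear_combination (-1 : K) * htt
        · simp [Pi.single_apply, hij, hij.symm, hrk, hri]
    · rw [Equiv.swap_apply_of_ne_of_ne hki hkj, wc_of_ne hki hkj]
      ext r
      have hik : i ≠ k := fun h => hki h.symm
      have hjk : j ≠ k := fun h => hkj h.symm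
      simp [Pi.single_apply, hij, hij.symm, hki, hkj, hik, hjk]

end Cfsg.Agent.Lib.Helper2.StSL
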