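import Mathlib
import Cfsg.Agent.Lib.Helper1.MNDB1
import Cfsg.Agent.Lib.Helper5.MNDA1
import Cfsg.Agent.Lib.Helper2.MNDC3

set_option autoImplicit false
set_option linter.unusedSectionVars false
set_option linter.unusedVariables false

/-!
Farm MND (statement S2332), unit C: `star`, verbatim (the core `star_of` with the units A1 and B1
plugged in).
-/

namespace Cfsg.Agent.Lib.Helper2.MND

open Matrix Cfsg Cfsg.Agent.Lib.Lead.LS1 Cfsg.Agent.Lib.Helper1.MND

variable {F : Type*} [Field F] [Fintype F] [DecidableEq F] {m k : ℕ}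

/-- `dim C_X(X_β)` computed through the decomposition of `X` under the row group -/
theorem star (ψ : AddChar F ℂ) (hψ : ∃ a, ψ a ≠ 1)
    (ρ : Representation ℂ (GG (m + 2) F) (Fin k → ℂ)) (hB : BOne ψ ρ.character)
    (hcomm : ∀ c : Fin (m + 2) → F, c ≠ 0 → c 1 = 0 → ∀ t : F,
      (hb t : GG (m + 2) F) ∈ ⁅StabC c, StabC c⁆) :
    mV ψ ρ.character 0 - avgB (res0 ρ.character) =
      (Fintype.card F : ℂ) ^ (m + 1) - (Fintype.card F : ℂ) ^ m :=
  star_of ψ hψ ρ hB hcomm Cfsg.Agent.Lib.Helper5.MND.hb_conj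
    Cfsg.Agent.Lib.Helper5.MND.tvS_mulVec
    (Cfsg.Agent.Lib.Helper1.MND.avgA ψ hψ ρ.character 0)

end Cfsg.Agent.Lib.Helper2.MND
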