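import Mathlib
import Cfsg.Agent.Lib.Helper1.MNDB1
import Cfsg.Agent.Lib.Helper2.MNDC3

set_option autoImplicit false
set_option linter.unusedSectionVars false
set_option linter.unusedVariables false
set_option linter.unusedSimpArgs false
set_option linter.style.haveILetI false

/-!
Farm MND (statement S2332), unit D2: `avgB_nat` (the average of a character over the root group
`tvS` is a natural number) and `codim_irr`.
-/

namespace Cfsg.Agent.Lib.Helper2.MND

open Matrix Cfsg Cfsg.Agent.Lib.Lead.LS1 Cfsg.Agent.Lib.Helper1.MND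

variable {F : Type*} [Field F] [Fintype F] [DecidableEq F] {m k : ℕ}

theorem tvS_add_aux (t u : F) : (tvS (t + u) : SS (m + 2) F) = tvS t * tvS u := by
  apply Subtype.ext
  show Matrix.transvection (0 : Fin (m + 2)) 1 (t + u) =
    Matrix.transvection (0 : Fin (m + 2)) 1 t * Matrix.transvection (0 : Fin (m + 2)) 1 u
  rw [Matrix.transvection_mul_transvection_same]
  simp

theorem avgB_nat (φ : SS (m + 2) F → ℂ) (hφ : IsCharacter (SS (m + 2) F) φ) :
    ∃ n : ℕ, avgB φ = n := by
  obtain ⟨n, ρ, rfl⟩ := hφ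
  set q : ℂ := (Fintype.card F : ℂ) with hq
  have hq0 : q ≠ 0 := by
    rw [hq]; exact_mod_cast Fintype.card_ne_zero
  set e : Module.End ℂ (Fin n → ℂ) := q⁻¹ • ∑ t : F, ρ (tvS t) with he
  have hsum : ∀ t : F, ρ (tvS t) * ∑ u : F, ρ (tvS u) = ∑ s : F, ρ (tvS s) := by
    intro t
    rw [Finset.mul_sum]
    have h1 : ∀ u : F, ρ (tvS t) * ρ (tvS u) = ρ (tvS (t + u)) := by
      intro u
      rw [tvS_add_aux, map_mul]
    simp_rw [h1]
    exact Equiv.sum_comp (Equiv.addLeft t) (fun s => ρ (tvS s))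
  have hee : IsIdempotentElem e := by
    unfold IsIdempotentElem
    rw [he, smul_mul_smul_comm, Finset.sum_mul]
    simp_rw [hsum]
    rw [Finset.sum_const, Finset.card_univ, ← Nat.cast_smul_eq_nsmul ℂ, smul_smul]
    congr 1
    rw [← hq]
    field_simp
  have htr : avgB ρ.character = LinearMap.trace ℂ (Fin n → ℂ) e := by
    unfold avgB
    rw [he, map_smul, map_sum, smul_eq_mul]
    rfl
  have hproj := LinearMap.IsIdempotentElem.isProj_range e hee
  refine ⟨Module.finrank ℂ (LinearMap.range e), ?_⟩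
  rw [htr, hproj.trace]

/-- the `X_β`-codimension of an irreducible `SL_(m+2)`-module is `b (q^(m+1) - q^m)` -/
theorem codim_irr (ψ : AddChar F ℂ) (hψ : ∃ a, ψ a ≠ 1)
    (σ : Representation ℂ (GG (m + 1) F) (Fin k → ℂ)) (a b : ℕ)
    (ha : mV ψ σ.character 0 = a) (hb : ∀ c : Fin (m + 1) → F, c ≠ 0 → mV ψ σ.character c = b) :
    (k : ℂ) - (Fintype.card F : ℂ)⁻¹ * ∑ t : F, σ.character (xm (t • Pi.single 0 1)) =
      b * ((Fintype.card F : ℂ) ^ (m + 1) - (Fintype.card F : ℂ) ^ m) := by
  set q : ℂ := (Fintype.card F : ℂ) with hq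
  -- the degree
  have hk : (k : ℂ) = a + b * (q ^ (m + 1) - 1) := by
    have h1 : σ.character (xm (0 : Fin (m + 1) → F)) = (k : ℂ) := by
      rw [xm_zero, Representation.char_one, Module.finrank_fin_fun]
    rw [← h1, fourier ψ hψ σ.character 0,
      ← Finset.add_sum_erase _ _ (Finset.mem_univ (0 : Fin (m + 1) → F))]
    rw [dotProduct_zero, AddChar.map_zero_eq_one, one_mul, ha]
    congr 1
    have h2 : ∀ c ∈ (Finset.univ : Finset (Fin (m + 1) → F)).erase 0,
        ψ (c ⬝ᵥ (0 : Fin (m + 1) → F)) * mV ψ σ.character c = (b : ℂ) := by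
      intro c hc
      rw [dotProduct_zero, AddChar.map_zero_eq_one, one_mul, hb c (Finset.ne_of_mem_erase hc)]
    rw [Finset.sum_congr rfl h2, Finset.sum_const, Finset.card_erase_of_mem (Finset.mem_univ _),
      Finset.card_univ, Fintype.card_fun, Fintype.card_fin, nsmul_eq_mul,
      Nat.cast_sub (Nat.one_le_pow _ _ Fintype.card_pos), Nat.cast_pow, Nat.cast_one, ← hq]
    ring
  -- the average
  have hav : q⁻¹ * ∑ t : F, σ.character (xm (t • Pi.single 0 1)) = a + b * (q ^ m - 1) := by
    rw [hq, avgA ψ hψ σ.character 0]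
    have hmem : (0 : Fin (m + 1) → F) ∈
        (Finset.univ : Finset (Fin (m + 1) → F)).filter (fun c => c 0 = 0) := by
      rw [Finset.mem_filter]
      exact ⟨Finset.mem_univ _, rfl⟩
    rw [← Finset.add_sum_erase _ _ hmem, ha]
    congr 1
    have h2 : ∀ c ∈ ((Finset.univ : Finset (Fin (m + 1) → F)).filter (fun c => c 0 = 0)).erase 0,
        mV ψ σ.character c = (b : ℂ) := by
      intro c hc
      exact hb c (Finset.ne_of_mem_erase hc)
    rw [Finset.sum_congr rfl h2, Finset.sum_const, Finset.card_erase_of_mem hmem,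
      card_coord_zero, nsmul_eq_mul,
      Nat.cast_sub (Nat.one_le_pow _ _ Fintype.card_pos), Nat.cast_pow, Nat.cast_one, ← hq]
    ring
  rw [hk, hav]
  ring

end Cfsg.Agent.Lib.Helper2.MND
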