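import Mathlib
import Cfsg.Prelude.Def_Characters
import Cfsg.Agent.Lib.Helper1.MNDDefs
import Cfsg.Agent.Lib.Helper6.IndFunMore

set_option autoImplicit false
set_option linter.unusedSectionVars false
set_option linter.unusedVariables false
set_option linter.unusedSimpArgs false
set_option linter.style.haveILetI false

/-!
Farm MND (statement S2332), unit F1: `exists_theta` (Frobenius reciprocity and orthogonality on
`Fˣ`).
-/

namespace Cfsg.Agent.Lib.Helper2.MND

open Matrix Cfsg Cfsg.Agent.Lib.Lead.LS1 Cfsg.Agent.Lib.Helper1.MND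
open scoped ComplexConjugate

variable {F : Type*} [Field F] [Fintype F] [DecidableEq F] {m k : ℕ}

theorem mem_PP_iff (g : GG m F) : g ∈ PP m F ↔
    (∀ i, g.1 (Sum.inr i) (Sum.inl ()) = 0) ∧ (∀ i, (g⁻¹).1 (Sum.inr i) (Sum.inl ()) = 0) :=
  Iff.rfl

theorem xm_mul_gm_val (v : Fin m → F) (A : SS m F) :
    (xm v * gm A).1 = fromBlocks 1 (replicateRow Unit (v ᵥ* A.1)) 0 A.1 := by
  show fromBlocks 1 (replicateRow Unit v) 0 1 * fromBlocks 1 0 0 A.1 = _
  rw [fromBlocks_multiply, replicateRow_vecMul]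
  simp

theorem gm_mul_f1 (A B : SS m F) : (gm (A * B) : GG m F) = gm A * gm B := by
  apply Subtype.ext
  show fromBlocks 1 0 0 (A * B).1 = fromBlocks 1 0 0 A.1 * fromBlocks 1 0 0 B.1
  rw [fromBlocks_multiply]
  simp

theorem gm_one_f1 : (gm (1 : SS m F) : GG m F) = 1 := by
  apply Subtype.ext
  show fromBlocks 1 0 0 (1 : Matrix (Fin m) (Fin m) F) = 1
  exact fromBlocks_one

theorem gm_inv_f1 (A : SS m F) : (gm A⁻¹ : GG m F) = (gm A)⁻¹ := by
  rw [eq_inv_iff_mul_eq_one, ← gm_mul_f1, inv_mul_cancel, gm_one_f1]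

theorem xm_neg_f1 (v : Fin m → F) : (xm (-v) : GG m F) = (xm v)⁻¹ := by
  rw [eq_inv_iff_mul_eq_one, ← xm_add, neg_add_cancel, xm_zero]

theorem xm_mem_PP (v : Fin m → F) : xm v ∈ PP m F := by
  have key : ∀ (u : Fin m → F) (i : Fin m), (xm u).1 (Sum.inr i) (Sum.inl ()) = 0 := by
    intro u i
    show fromBlocks 1 (replicateRow Unit u) 0 1 (Sum.inr i) (Sum.inl ()) = 0
    simp
  rw [mem_PP_iff]
  refine ⟨fun i => key v i, fun i => ?_⟩
  rw [← xm_neg_f1]
  exact key _ i

theorem gm_mem_PP (A : SS m F) : gm A ∈ PP m F := by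
  have key : ∀ (B : SS m F) (i : Fin m), (gm B).1 (Sum.inr i) (Sum.inl ()) = 0 := by
    intro B i
    show fromBlocks 1 0 0 B.1 (Sum.inr i) (Sum.inl ()) = 0
    simp
  rw [mem_PP_iff]
  refine ⟨fun i => key A i, fun i => ?_⟩
  rw [← gm_inv_f1]
  exact key _ i

theorem PP_entry_ne_zero (p : PP m F) : p.1.1 (Sum.inl ()) (Sum.inl ()) ≠ 0 := by
  intro h0
  obtain ⟨hp1, hp2⟩ := (mem_PP_iff p.1).mp p.2
  have h1 : (p.1⁻¹ * p.1).1 (Sum.inl ()) (Sum.inl ()) = 1 := by
    rw [inv_mul_cancel]; simp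
  rw [Matrix.SpecialLinearGroup.coe_mul, Matrix.mul_apply, Fintype.sum_sum_type] at h1
  simp [h0, hp1] at h1

/-- the elements of `P` with `(0,0)` entry one are the products `xm v * gm A` -/
theorem sum_PP_one (f : GG m F → ℂ) [Fintype (PP m F)] :
    ∑ p ∈ (Finset.univ : Finset (PP m F)).filter
        (fun p => p.1.1 (Sum.inl ()) (Sum.inl ()) = 1), f p.1 =
      ∑ x : (Fin m → F) × SS m F, f (xm x.1 * gm x.2) := by
  symm
  refine Finset.sum_bij
    (fun x _ => (⟨xm x.1 * gm x.2, mul_mem (xm_mem_PP x.1) (gm_mem_PP x.2)⟩ : PP m F))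
    ?_ ?_ ?_ ?_
  · intro x _
    rw [Finset.mem_filter]
    refine ⟨Finset.mem_univ _, ?_⟩
    show (xm x.1 * gm x.2).1 (Sum.inl ()) (Sum.inl ()) = 1
    rw [xm_mul_gm_val]
    simp
  · rintro ⟨v, A⟩ _ ⟨v', A'⟩ _ hxy
    have h1 : (xm v * gm A).1 = (xm v' * gm A').1 := by
      have := congrArg (fun p : PP m F => p.1.1) hxy
      exact this
    rw [xm_mul_gm_val, xm_mul_gm_val, fromBlocks_inj] at h1
    obtain ⟨_, hrow, _, hA⟩ := h1
    have hAA : A = A' := Subtype.ext hA
    subst hAA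
    have hv : v ᵥ* A.1 = v' ᵥ* A.1 := by
      funext j
      exact congrFun (congrFun hrow ()) j
    have hv2 := congrArg (fun w => w ᵥ* (A⁻¹).1) hv
    simp only [vecMul_vecMul, ← Matrix.SpecialLinearGroup.coe_mul, mul_inv_cancel,
      Matrix.SpecialLinearGroup.coe_one, vecMul_one] at hv2
    rw [hv2]
  · intro p hp
    rw [Finset.mem_filter] at hp
    obtain ⟨hp1, hp2⟩ := (mem_PP_iff p.1).mp p.2
    have h00 := hp.2
    have hfb : p.1.1 = fromBlocks p.1.1.toBlocks₁₁ p.1.1.toBlocks₁₂ 0 p.1.1.toBlocks₂₂ := by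
      conv_lhs => rw [← fromBlocks_toBlocks p.1.1]
      congr 1
      ext i j
      exact hp1 i
    have hdet : (p.1.1.toBlocks₂₂).det = 1 := by
      have h3 := p.1.2
      rw [hfb, det_fromBlocks_zero₂₁, det_unique] at h3
      have h4 : p.1.1.toBlocks₁₁ default default = 1 := h00
      rw [h4, one_mul] at h3
      exact h3
    set A : SS m F := ⟨p.1.1.toBlocks₂₂, hdet⟩ with hA
    set w : Fin m → F := fun j => p.1.1 (Sum.inl ()) (Sum.inr j) with hw
    refine ⟨(w ᵥ* (A⁻¹).1, A), Finset.mem_univ _, ?_⟩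
    apply Subtype.ext
    apply Subtype.ext
    show (xm (w ᵥ* (A⁻¹).1) * gm A).1 = p.1.1
    rw [xm_mul_gm_val, vecMul_vecMul, ← Matrix.SpecialLinearGroup.coe_mul, inv_mul_cancel,
      Matrix.SpecialLinearGroup.coe_one, vecMul_one]
    ext (i | i) (j | j)
    · simp only [fromBlocks_apply₁₁, one_apply_eq]
      exact h00.symm
    · simp only [fromBlocks_apply₁₂, replicateRow_apply]
      rfl
    · simp only [fromBlocks_apply₂₁, Matrix.zero_apply]
      exact (hp1 i).symm
    · simp only [fromBlocks_apply₂₂]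
      rfl
  · intro x _
    rfl

theorem classInner_conj_symm {G : Type*} [Group G] [Fintype G] (φ ψ : G → ℂ) :
    classInner φ ψ = conj (classInner ψ φ) := by
  unfold classInner
  rw [map_mul, map_inv₀, map_natCast, map_sum]
  congr 1
  refine Finset.sum_congr rfl fun g _ => ?_
  rw [map_mul, Complex.conj_conj, mul_comm]

theorem sum_thetaP (p : PP m F) :
    ∑ θ : AddChar (Additive Fˣ) ℂ, thetaP θ p =
      if p.1.1 (Sum.inl ()) (Sum.inl ()) = 1 then (Fintype.card (Additive Fˣ) : ℂ) else 0 := by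
  classical
  have h0 := PP_entry_ne_zero p
  have h1 : ∀ θ : AddChar (Additive Fˣ) ℂ,
      thetaP θ p = θ (Additive.ofMul (Units.mk0 _ h0)) := by
    intro θ
    unfold thetaP
    rw [dif_neg h0]
  simp_rw [h1]
  rw [AddChar.sum_apply_eq_ite]
  have h2 : (Additive.ofMul (Units.mk0 _ h0) = (0 : Additive Fˣ)) ↔
      p.1.1 (Sum.inl ()) (Sum.inl ()) = 1 := by
    constructor
    · intro h
      have h3 : Units.mk0 _ h0 = (1 : Fˣ) := h
      have := congrArg Units.val h3
      simpa using this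
    · intro h
      show Units.mk0 _ h0 = (1 : Fˣ)
      apply Units.ext
      simpa using h
  by_cases h : p.1.1 (Sum.inl ()) (Sum.inl ()) = 1
  · rw [if_pos h, if_pos (h2.mpr h)]
  · rw [if_neg h, if_neg (fun h' => h (h2.mp h'))]

theorem exists_theta (ρ : Representation ℂ (GG m F) (Fin k → ℂ))
    (h : classInner (res0 ρ.character) (fun _ => 1) ≠ 0) :
    ∃ θ : AddChar (Additive Fˣ) ℂ,
      classInner ρ.character (indFun (PP m F) (thetaP θ)) ≠ 0 := by
  classical
  by_contra hcon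
  push Not at hcon
  apply h
  have hcf : IsClassFunction (GG m F) ρ.character := fun g h => Representation.char_conj ρ g h
  have hcard : (Nat.card (PP m F) : ℂ) ≠ 0 := by
    exact_mod_cast Nat.card_pos.ne'
  -- Frobenius reciprocity
  have h1 : ∀ θ : AddChar (Additive Fˣ) ℂ,
      ∑ p : PP m F, thetaP θ p * conj (ρ.character p.1) = 0 := by
    intro θ
    have h2 := Cfsg.Agent.Lib.Helper6.IndFunMore.classInner_indFun (PP m F) (thetaP θ)
      ρ.character hcf
    have h3 : classInner (indFun (PP m F) (thetaP θ)) ρ.character = 0 := by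
      rw [classInner_conj_symm, hcon θ, map_zero]
    rw [h3] at h2
    rcases mul_eq_zero.mp h2.symm with h4 | h4
    · exact absurd (inv_eq_zero.mp h4) hcard
    · exact h4
  -- sum over all `θ`
  have h4 : ∑ p : PP m F, (∑ θ : AddChar (Additive Fˣ) ℂ, thetaP θ p) *
      conj (ρ.character p.1) = 0 := by
    simp_rw [Finset.sum_mul]
    rw [Finset.sum_comm]
    exact Finset.sum_eq_zero (fun θ _ => h1 θ)
  simp_rw [sum_thetaP, ite_mul, zero_mul] at h4
  rw [← Finset.sum_filter, ← Finset.mul_sum] at h4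
  have hN : (Fintype.card (Additive Fˣ) : ℂ) ≠ 0 := by
    exact_mod_cast Fintype.card_ne_zero
  have h5 := (mul_eq_zero.mp h4).resolve_left hN
  rw [sum_PP_one (fun g => conj (ρ.character g))] at h5
  have h6 : ∑ x : (Fin m → F) × SS m F, ρ.character (xm x.1 * gm x.2) = 0 := by
    have := congrArg conj h5
    rw [map_sum, map_zero] at this
    simpa using this
  unfold classInner res0
  rw [Fintype.sum_prod_type, Finset.sum_comm] at h6
  have h7 : ∑ A : SS m F, ((Fintype.card F : ℂ) ^ m)⁻¹ * (∑ v : Fin m → F,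
      ρ.character (xm v * gm A)) * conj ((fun _ => (1 : ℂ)) A) = 0 := by
    simp only [map_one, mul_one]
    rw [← Finset.mul_sum, h6, mul_zero]
  rw [h7, mul_zero]

end Cfsg.Agent.Lib.Helper2.MND
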