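import Mathlib

/-!
# Brauer–Suzuki–Wall, Case II endgame: general counting lemmas
-/

namespace Cfsg.Agent.Lib.Helper2.Bsw2

variable {G : Type*} [Group G]

/-- orbit-stabilizer with `Nat.card`. -/
theorem orbit_mul_stab [Finite G] {α : Type*} [MulAction G α] (a : α) :
    Nat.card (MulAction.orbit G a) * Nat.card (MulAction.stabilizer G a) = Nat.card G := by
  rw [Nat.card_congr (MulAction.orbitEquivQuotientStabilizer G a)]
  exact (Subgroup.card_eq_card_quotient_mul_card_subgroup _).symm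

/-- class size times centralizer order. -/
theorem card_conj_mul_card_centralizer [Finite G] (y : G) :
    Nat.card {x : G // ∃ g : G, g * y * g⁻¹ = x} *
      Nat.card (Subgroup.centralizer ({y} : Set G)) = Nat.card G := by
  haveI : Finite (ConjAct G) := inferInstanceAs (Finite G)
  have h := orbit_mul_stab (G := ConjAct G) y
  have e1 : Nat.card (MulAction.orbit (ConjAct G) y) =
      Nat.card {x : G // ∃ g : G, g * y * g⁻¹ = x} := by
    apply Nat.card_congr
    refine Equiv.subtypeEquivRight ?_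
    intro x
    rw [MulAction.mem_orbit_iff]
    constructor
    · rintro ⟨g, hg⟩
      exact ⟨ConjAct.ofConjAct g, by rw [← hg, ConjAct.smul_def]⟩
    · rintro ⟨g, hg⟩
      exact ⟨ConjAct.toConjAct g, by rw [← hg, ConjAct.smul_def]; simp⟩
  have e2 : Nat.card (MulAction.stabilizer (ConjAct G) y) =
      Nat.card (Subgroup.centralizer ({y} : Set G)) := by
    apply Nat.card_congr
    refine (ConjAct.ofConjAct.toEquiv.subtypeEquiv ?_)
    intro g
    rw [MulAction.mem_stabilizer_iff, ConjAct.smul_def, Subgroup.mem_centralizer_singleton_iff]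
    simp only [MulEquiv.toEquiv_eq_coe, MulEquiv.coe_toEquiv]
    constructor
    · intro h
      have : ConjAct.ofConjAct g * y = y * ConjAct.ofConjAct g := by
        rw [mul_inv_eq_iff_eq_mul] at h; exact h
      exact this
    · intro h
      rw [mul_inv_eq_iff_eq_mul]; exact h
  rw [e1, e2] at h
  exact h

/-- a subgroup acting freely on `G ⧸ H` has order dividing the index. -/
theorem card_dvd_index_of_free [Finite G] (C H : Subgroup G)
    (h : ∀ g : G, ∀ x ∈ C, g⁻¹ * x * g ∈ H → x = 1) : Nat.card C ∣ H.index := by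
  classical
  letI : Fintype G := Fintype.ofFinite G
  letI : Fintype C := Fintype.ofFinite C
  letI : Fintype (G ⧸ H) := Fintype.ofFinite _
  let Ω := MulAction.orbitRel.Quotient C (G ⧸ H)
  letI : Fintype Ω := Fintype.ofFinite _
  have hstab : ∀ b : G ⧸ H, MulAction.stabilizer C b = ⊥ := by
    intro b
    induction b using QuotientGroup.induction_on with
    | H g =>
      rw [eq_bot_iff]
      intro x hx
      rw [MulAction.mem_stabilizer_iff] at hx
      have hx' : ((x : G) * g : G) = (g : G ⧸ H) → True := fun _ => trivial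
      have h1 : (((x : G) * g : G) : G ⧸ H) = (g : G ⧸ H) := hx
      rw [QuotientGroup.eq] at h1
      have h2 : g⁻¹ * (x : G) * g ∈ H := by
        have := H.inv_mem h1
        simpa [mul_assoc] using this
      have h3 := h g x x.2 h2
      rw [Subgroup.mem_bot]
      exact Subtype.ext h3
  have key := MulAction.card_eq_sum_card_group_div_card_stabilizer' C (G ⧸ H)
    (φ := fun ω : Ω => Quotient.out ω) (fun ω => Quotient.out_eq' ω)
  have h2 : ∀ ω : Ω, Fintype.card C / Fintype.card (MulAction.stabilizer C (Quotient.out ω))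
      = Fintype.card C := by
    intro ω
    have : Fintype.card (MulAction.stabilizer C (Quotient.out ω)) = 1 := by
      rw [Fintype.card_eq_one_iff]
      refine ⟨1, fun y => ?_⟩
      obtain ⟨y0, hy0⟩ := y
      have h5 : y0 ∈ (⊥ : Subgroup C) := (hstab (Quotient.out ω)) ▸ hy0
      exact Subtype.ext (Subgroup.mem_bot.1 h5)
    rw [this, Nat.div_one]
  rw [Finset.sum_congr rfl (fun ω _ => h2 ω), Finset.sum_const, Finset.card_univ,
    smul_eq_mul] at key
  rw [Subgroup.index, Nat.card_eq_fintype_card, Nat.card_eq_fintype_card, key]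
  exact Dvd.intro_left _ rfl

/-- counting the nonidentity elements conjugate into a TI subgroup. -/
theorem ti_count [Finite G] (A N : Subgroup G)
    (hnorm : ∀ g ∈ N, ∀ a ∈ A, g * a * g⁻¹ ∈ A)
    (hTI : ∀ g : G, g ∉ N → ∀ a ∈ A, g * a * g⁻¹ ∈ A → a = 1) :
    Nat.card {x : G // x ≠ 1 ∧ ∃ c : G, c * x * c⁻¹ ∈ A} = N.index * (Nat.card A - 1) := by
  classical
  have hA1 : Nat.card {a : A // a ≠ 1} = Nat.card A - 1 := by
    letI : Fintype A := Fintype.ofFinite A
    rw [Nat.card_eq_fintype_card, Nat.card_eq_fintype_card, Fintype.card_subtype_compl,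
      Fintype.card_subtype_eq]
  rw [← hA1, Subgroup.index, ← Nat.card_prod]
  symm
  apply Nat.card_congr
  refine Equiv.ofBijective (fun qa : (G ⧸ N) × {a : A // a ≠ 1} =>
    (⟨qa.1.out * (qa.2.1 : G) * qa.1.out⁻¹, ?_, ?_⟩ :
      {x : G // x ≠ 1 ∧ ∃ c : G, c * x * c⁻¹ ∈ A})) ⟨?_, ?_⟩
  · intro h1
    apply qa.2.2
    have : (qa.2.1 : G) = 1 := by
      have := congrArg (fun z => qa.1.out⁻¹ * z * qa.1.out) h1
      simpa [mul_assoc] using this
    exact Subtype.ext this
  · refine ⟨qa.1.out⁻¹, ?_⟩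
    have : qa.1.out⁻¹ * (qa.1.out * (qa.2.1 : G) * qa.1.out⁻¹) * qa.1.out⁻¹⁻¹ = (qa.2.1 : G) := by
      group
    rw [this]
    exact qa.2.1.2
  · rintro ⟨q1, a1⟩ ⟨q2, a2⟩ h12
    have h12' : q1.out * (a1.1 : G) * q1.out⁻¹ = q2.out * (a2.1 : G) * q2.out⁻¹ :=
      congrArg Subtype.val h12
    have h3 : (q2.out⁻¹ * q1.out) * (a1.1 : G) * (q2.out⁻¹ * q1.out)⁻¹ = (a2.1 : G) := by
      have := congrArg (fun z => q2.out⁻¹ * z * q2.out) h12'
      rw [show q2.out⁻¹ * (q2.out * (a2.1 : G) * q2.out⁻¹) * q2.out = (a2.1 : G) by group] at this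
      rw [← this]; group
    have hmem : q2.out⁻¹ * q1.out ∈ N := by
      by_contra hcon
      have := hTI _ hcon (a1.1 : G) a1.1.2 (h3 ▸ a2.1.2)
      exact a1.2 (Subtype.ext this)
    have hq : q2 = q1 := by
      rw [← QuotientGroup.out_eq' q2, ← QuotientGroup.out_eq' q1, QuotientGroup.eq]
      exact hmem
    subst hq
    have : (a1.1 : G) = (a2.1 : G) := by
      have := h3
      simpa using this
    have ha : a1 = a2 := Subtype.ext (Subtype.ext this)
    rw [ha]
  · rintro ⟨x, hx1, c, hc⟩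
    obtain ⟨n, hn⟩ := QuotientGroup.mk_out_eq_mul N c⁻¹
    have hmem : (n : G)⁻¹ * (c * x * c⁻¹) * ((n : G)⁻¹)⁻¹ ∈ A :=
      hnorm _ (N.inv_mem n.2) _ hc
    refine ⟨⟨(c⁻¹ : G), ⟨⟨(n : G)⁻¹ * (c * x * c⁻¹) * ((n : G)⁻¹)⁻¹, hmem⟩, ?_⟩⟩, ?_⟩
    · intro h1
      apply hx1
      have h2 : (n : G)⁻¹ * (c * x * c⁻¹) * ((n : G)⁻¹)⁻¹ = 1 := congrArg Subtype.val h1
      have := congrArg (fun z => c⁻¹ * (n : G) * z * (n : G)⁻¹ * c) h2
      rw [show c⁻¹ * (n : G) * ((n : G)⁻¹ * (c * x * c⁻¹) * ((n : G)⁻¹)⁻¹) * (n : G)⁻¹ * c = x by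
        group] at this
      rw [this]; group
    · apply Subtype.ext
      show ((c⁻¹ : G) : G ⧸ N).out * ((n : G)⁻¹ * (c * x * c⁻¹) * ((n : G)⁻¹)⁻¹)
        * ((c⁻¹ : G) : G ⧸ N).out⁻¹ = x
      rw [hn]; group

end Cfsg.Agent.Lib.Helper2.Bsw2
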