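import Mathlib
import Cfsg.Agent.Lib.Helper7.BswDefs
import Cfsg.Agent.Lib.Helper2.Bsw2A

/-!
# Brauer–Suzuki–Wall, Case II endgame: the `K`-side facts from `Hyp`
-/

namespace Cfsg.Agent.Lib.Helper2.Bsw2

open Cfsg.Agent.Lib.Helper7.Bsw

variable {G : Type*} [Group G]

theorem orderOf_conj_eq (c x : G) : orderOf (c * x * c⁻¹) = orderOf x := by
  rw [← MulAut.conj_apply]
  exact MulEquiv.orderOf_eq _ _

/-- membership in `A ⊔ ⟨s⟩` for an involution `s` normalizing `A`. -/
theorem mem_sup_zpowers_iff (A : Subgroup G) (s : G) (hs : s * s = 1)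
    (hnorm : ∀ a ∈ A, s * a * s⁻¹ ∈ A) (x : G) :
    x ∈ A ⊔ Subgroup.zpowers s ↔ x ∈ A ∨ x * s ∈ A := by
  have hsinv : s⁻¹ = s := inv_eq_of_mul_eq_one_right hs
  have hnorm' : ∀ a ∈ A, s⁻¹ * a * s ∈ A := by
    intro a ha
    have := hnorm a ha
    rw [hsinv] at this ⊢
    exact this
  let B : Subgroup G :=
    { carrier := {x | x ∈ A ∨ x * s ∈ A}
      mul_mem' := by
        rintro a b (ha | ha) (hb | hb)
        · exact Or.inl (A.mul_mem ha hb)
        · right
          show a * b * s ∈ A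
          rw [mul_assoc]; exact A.mul_mem ha hb
        · right
          show a * b * s ∈ A
          have h1 := hnorm' b hb
          have : a * b * s = (a * s) * (s⁻¹ * b * s) := by group
          rw [this]; exact A.mul_mem ha h1
        · left
          show a * b ∈ A
          have h1 := hnorm (b * s) hb
          have h2 : (a * s) * (s * (b * s) * s⁻¹) = a * (s * s) * b := by group
          have : a * b = (a * s) * (s * (b * s) * s⁻¹) := by rw [h2, hs, mul_one]
          rw [this]; exact A.mul_mem ha h1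
      one_mem' := Or.inl A.one_mem
      inv_mem' := by
        rintro a (ha | ha)
        · exact Or.inl (A.inv_mem ha)
        · right
          show a⁻¹ * s ∈ A
          have h1 := hnorm' _ (A.inv_mem ha)
          have h2 : (s * s) * (s⁻¹ * (a * s)⁻¹ * s) = a⁻¹ * s := by group
          rw [← h2, hs, one_mul]; exact h1 }
  have hB : ∀ y, y ∈ B ↔ y ∈ A ∨ y * s ∈ A := fun y => Iff.rfl
  constructor
  · intro hx
    have hle : A ⊔ Subgroup.zpowers s ≤ B := by
      rw [sup_le_iff]
      refine ⟨fun a ha => Or.inl ha, ?_⟩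
      rw [Subgroup.zpowers_le]
      exact Or.inr (by rw [hs]; exact A.one_mem)
    exact (hB x).1 (hle hx)
  · rintro (hx | hx)
    · exact Subgroup.mem_sup_left hx
    · have : x = (x * s) * s⁻¹ := by group
      rw [this]
      exact Subgroup.mul_mem _ (Subgroup.mem_sup_left hx)
        (Subgroup.mem_sup_right (Subgroup.inv_mem _ (Subgroup.mem_zpowers s)))

/-- order of `A ⊔ ⟨s⟩`. -/
theorem card_sup_zpowers [Finite G] (A : Subgroup G) (s : G) (hs : s * s = 1)
    (hnorm : ∀ a ∈ A, s * a * s⁻¹ ∈ A) (hsA : s ∉ A) :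
    Nat.card ↥(A ⊔ Subgroup.zpowers s) = 2 * Nat.card A := by
  have hset : ((A ⊔ Subgroup.zpowers s : Subgroup G) : Set G) =
      (A : Set G) ∪ (fun a => a * s⁻¹) '' (A : Set G) := by
    ext x
    rw [SetLike.mem_coe, mem_sup_zpowers_iff A s hs hnorm, Set.mem_union, Set.mem_image]
    constructor
    · rintro (hx | hx)
      · exact Or.inl hx
      · exact Or.inr ⟨x * s, hx, by group⟩
    · rintro (hx | ⟨a, ha, rfl⟩)
      · exact Or.inl hx
      · right
        have : a * s⁻¹ * s = a := by group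
        rw [this]; exact ha
  have hdisj : Disjoint (A : Set G) ((fun a => a * s⁻¹) '' (A : Set G)) := by
    rw [Set.disjoint_left]
    rintro x hx ⟨a, ha, rfl⟩
    apply hsA
    have h1 : s = (a * s⁻¹)⁻¹ * a := by group
    rw [h1]
    exact A.mul_mem (A.inv_mem hx) ha
  have hinj : Function.Injective (fun a : G => a * s⁻¹) := fun a b hab => mul_right_cancel hab
  calc Nat.card ↥(A ⊔ Subgroup.zpowers s)
      = ((A ⊔ Subgroup.zpowers s : Subgroup G) : Set G).ncard := by
        rw [← Nat.card_coe_set_eq]; rfl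
    _ = (A : Set G).ncard + ((fun a => a * s⁻¹) '' (A : Set G)).ncard := by
        rw [hset, Set.ncard_union_eq hdisj (Set.toFinite _) (Set.toFinite _)]
    _ = (A : Set G).ncard + (A : Set G).ncard := by
        rw [Set.ncard_image_of_injective _ hinj]
    _ = 2 * Nat.card A := by
        rw [← Nat.card_coe_set_eq]
        have : Nat.card ↥(A : Set G) = Nat.card A := rfl
        rw [this]; ring

theorem real_conj {g : G} (c : G) (hg : IsRealElt (c * g * c⁻¹)) : IsRealElt g := by
  obtain ⟨u, hu, hinv⟩ := hg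
  refine ⟨c⁻¹ * u * c, ?_, ?_⟩
  · have := orderOf_conj_eq c⁻¹ u
    rw [inv_inv] at this
    rw [this, hu]
  · have h1 : c⁻¹ * u * c * g * (c⁻¹ * u * c)⁻¹ = c⁻¹ * (u * (c * g * c⁻¹) * u⁻¹) * c := by group
    rw [h1, hinv]; group

theorem real_conj' {g : G} (c : G) (hg : IsRealElt g) : IsRealElt (c * g * c⁻¹) := by
  apply real_conj c⁻¹
  have : c⁻¹ * (c * g * c⁻¹) * c⁻¹⁻¹ = g := by group
  rw [this]; exact hg

theorem orderOf_two_of_sq {x : G} (hx : x * x = 1) (hx1 : x ≠ 1) : orderOf x = 2 := by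
  apply orderOf_eq_prime
  · rw [pow_two]; exact hx
  · exact hx1

theorem real_of_sq {x : G} (hx : x * x = 1) (hx1 : x ≠ 1) : IsRealElt x := by
  refine ⟨x, orderOf_two_of_sq hx hx1, ?_⟩
  have : x * x * x⁻¹ = x := by group
  rw [this]
  exact (inv_eq_of_mul_eq_one_right hx).symm

section hyp

variable {t s : G} {K : Subgroup G}

theorem s_mul_s (h : Hyp t K s) : s * s = 1 := by
  have := pow_orderOf_eq_one s
  rw [h.hs, pow_two] at this
  exact this

theorem K_comm (h : Hyp t K s) : ∀ x ∈ K, ∀ y ∈ K, x * y = y * x := by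
  intro x hx y hy
  have := h.hKab
  rw [isMulCommutative_iff] at this
  exact congrArg Subtype.val (this ⟨x, hx⟩ ⟨y, hy⟩)

theorem s_norm (h : Hyp t K s) : ∀ a ∈ K, s * a * s⁻¹ ∈ K := by
  intro a ha
  rw [h.hinv a ha]; exact K.inv_mem ha

theorem mem_H_iff (h : Hyp t K s) (x : G) :
    x ∈ Subgroup.centralizer ({t} : Set G) ↔ x ∈ K ∨ x * s ∈ K := by
  rw [← h.hH]
  exact mem_sup_zpowers_iff K s (s_mul_s h) (s_norm h) x

theorem sq_of_mem_H (h : Hyp t K s) {x : G} (hx : x ∈ Subgroup.centralizer ({t} : Set G))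
    (hxK : x ∉ K) : x * x = 1 := by
  rcases (mem_H_iff h x).1 hx with h1 | h1
  · exact absurd h1 hxK
  · have hs := s_mul_s h
    have hsinv : s⁻¹ = s := inv_eq_of_mul_eq_one_right hs
    have h2 := h.hinv _ h1
    -- x = (x s) s⁻¹
    have e1 : x * x = (x * s) * (s⁻¹ * (x * s) * s) * (s * s)⁻¹ := by group
    have e2 : s⁻¹ * (x * s) * s = (x * s)⁻¹ := by
      have := h2
      rw [hsinv] at this ⊢
      exact this
    rw [e1, e2, hs]; group

theorem real_of_mem_H (h : Hyp t K s) {x : G} (hx : x ∈ Subgroup.centralizer ({t} : Set G)) :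
    IsRealElt x := by
  by_cases hxK : x ∈ K
  · exact ⟨s, h.hs, h.hinv x hxK⟩
  · apply real_of_sq (sq_of_mem_H h hx hxK)
    rintro rfl
    exact hxK K.one_mem

theorem card_H [Finite G] (h : Hyp t K s) :
    Nat.card ↥(Subgroup.centralizer ({t} : Set G)) = 2 * Nat.card K := by
  rw [← h.hH]
  exact card_sup_zpowers K s (s_mul_s h) (s_norm h) h.hsK

theorem cent_le_H (h : Hyp t K s) {x : G} (hx : x ∈ K) (hx1 : x ≠ 1) {g : G}
    (hg : g * x = x * g) : g ∈ Subgroup.centralizer ({t} : Set G) := by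
  by_contra hcon
  have h1 := h.hTI g hcon
  have h2 : x ∈ K ⊓ K.map (MulAut.conj g).toMonoidHom := by
    refine Subgroup.mem_inf.2 ⟨hx, Subgroup.mem_map.2 ⟨x, hx, ?_⟩⟩
    show g * x * g⁻¹ = x
    rw [hg]; group
  rw [h1, Subgroup.mem_bot] at h2
  exact hx1 h2

theorem ti_K (h : Hyp t K s) {g : G} (hg : g ∉ Subgroup.centralizer ({t} : Set G)) {a : G}
    (ha : a ∈ K) (hga : g * a * g⁻¹ ∈ K) : a = 1 := by
  have h1 := h.hTI g hg
  have h2 : g * a * g⁻¹ ∈ K ⊓ K.map (MulAut.conj g).toMonoidHom :=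
    Subgroup.mem_inf.2 ⟨hga, Subgroup.mem_map.2 ⟨a, ha, rfl⟩⟩
  rw [h1, Subgroup.mem_bot] at h2
  have := congrArg (fun z => g⁻¹ * z * g) h2
  simpa [mul_assoc] using this

theorem norm_K (h : Hyp t K s) {g : G} (hg : g ∈ Subgroup.centralizer ({t} : Set G)) {a : G}
    (ha : a ∈ K) : g * a * g⁻¹ ∈ K := by
  rcases (mem_H_iff h g).1 hg with h1 | h1
  · have := K_comm h g h1 a ha
    rw [this]
    have : a * g * g⁻¹ = a := by group
    rw [this]; exact ha
  · have hs := s_mul_s h
    have hsinv : s⁻¹ = s := inv_eq_of_mul_eq_one_right hs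
    have h2 := s_norm h a ha
    have h3 : g * a * g⁻¹ = (g * s) * (s⁻¹ * a * s) * (g * s)⁻¹ := by group
    have h4 : s⁻¹ * a * s ∈ K := by
      rw [hsinv] at h2 ⊢; exact h2
    rw [h3]
    exact K.mul_mem (K.mul_mem h1 h4) (K.inv_mem h1)

theorem count_K [Finite G] (h : Hyp t K s) :
    Nat.card {x : G // x ≠ 1 ∧ ConjK K x} =
      (Subgroup.centralizer ({t} : Set G)).index * (Nat.card K - 1) :=
  ti_count K (Subgroup.centralizer ({t} : Set G)) (fun _ hg _ ha => norm_K h hg ha)
    (fun _ hg _ ha hga => ti_K h hg ha hga)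

theorem card_invol [Finite G] (h : Hyp t K s) :
    Nat.card {x : G // orderOf x = 2} * Nat.card ↥(Subgroup.centralizer ({t} : Set G))
      = Nat.card G := by
  rw [← card_conj_mul_card_centralizer t]
  congr 1
  apply Nat.card_congr
  refine Equiv.subtypeEquivRight ?_
  intro x
  constructor
  · intro hx
    have := h.hconj t x h.ht hx
    rw [isConj_iff] at this
    exact this
  · rintro ⟨g, rfl⟩
    rw [orderOf_conj_eq]; exact h.ht

end hyp

end Cfsg.Agent.Lib.Helper2.Bsw2
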