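import Mathlib
import Cfsg.Agent.Lib.Helper7.BswDefs
import Cfsg.Agent.Lib.Helper2.Bsw2B

/-!
# Brauer–Suzuki–Wall, Case II endgame: the non-real elements
-/

namespace Cfsg.Agent.Lib.Helper2.Bsw2

open Cfsg.Agent.Lib.Helper7.Bsw

variable {G : Type*} [Group G]

/-- The data of Case II (`q = 2k - 1`). -/
structure CII (t s : G) (K D : Subgroup G) (k : ℕ) (u : G) : Prop where
  hyp : Hyp t K s
  hk : Nat.card K = k
  hk3 : 3 ≤ k
  hG : Nat.card G = 2 * k * (k - 1) * (2 * k - 1)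
  hD : Nat.card D = k - 1
  hCD : ∀ d ∈ D, d ≠ 1 → Subgroup.centralizer ({d} : Set G) = D
  hu : orderOf u = 2
  huD : ∀ d ∈ D, u * d * u⁻¹ = d⁻¹
  hND : Subgroup.normalizer (D : Set G) = D ⊔ Subgroup.zpowers u
  hreal : ∀ g : G, g ≠ 1 → IsRealElt g → ConjK K g ∨ ∃ a, a * g * a⁻¹ ∈ D

/-- `x s ∈ A`, `s` an involution inverting `A`: then `x² = 1`. -/
theorem sq_of_mul_mem (A : Subgroup G) (s : G) (hs : s * s = 1)
    (hinv : ∀ a ∈ A, s * a * s⁻¹ = a⁻¹) {x : G} (h1 : x * s ∈ A) : x * x = 1 := by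
  have hsinv : s⁻¹ = s := inv_eq_of_mul_eq_one_right hs
  have h2 := hinv _ h1
  have e1 : x * x = (x * s) * (s⁻¹ * (x * s) * s) * (s * s)⁻¹ := by group
  have e2 : s⁻¹ * (x * s) * s = (x * s)⁻¹ := by
    have := h2
    rw [hsinv] at this ⊢
    exact this
  rw [e1, e2, hs]; group

section cii

variable {t s : G} {K D : Subgroup G} {k : ℕ} {u : G}

theorem CII.D_comm (c : CII t s K D k u) : ∀ x ∈ D, ∀ y ∈ D, x * y = y * x := by
  intro x hx y hy
  by_cases hx1 : x = 1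
  · rw [hx1]; simp
  · have h1 : y ∈ Subgroup.centralizer ({x} : Set G) := by rw [c.hCD x hx hx1]; exact hy
    rw [Subgroup.mem_centralizer_singleton_iff] at h1
    exact h1.symm

theorem CII.D_real (c : CII t s K D k u) {x : G} (hx : x ∈ D) : IsRealElt x :=
  ⟨u, c.hu, c.huD x hx⟩

theorem CII.u_mul_u (c : CII t s K D k u) : u * u = 1 := by
  have := pow_orderOf_eq_one u
  rw [c.hu, pow_two] at this
  exact this

theorem CII.u_norm (c : CII t s K D k u) : ∀ a ∈ D, u * a * u⁻¹ ∈ D := by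
  intro a ha
  rw [c.huD a ha]; exact D.inv_mem ha

/-- a conjugate of `K` cannot sit inside `D`. -/
theorem CII.no_embed [Finite G] (c : CII t s K D k u) (e : G)
    (h : ∀ b ∈ K, e * b * e⁻¹ ∈ D) : False := by
  have hinj : Function.Injective (fun b : K => (⟨e * b * e⁻¹, h b b.2⟩ : D)) := by
    intro a b hab
    have : e * (a : G) * e⁻¹ = e * (b : G) * e⁻¹ := congrArg Subtype.val hab
    have h2 : (a : G) = b := by
      have := congrArg (fun z => e⁻¹ * z * e) this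
      simpa [mul_assoc] using this
    exact Subtype.ext h2
  have := Nat.card_le_card_of_injective _ hinj
  rw [c.hk, c.hD] at this
  have := c.hk3
  omega

theorem CII.D_no_invol [Finite G] (c : CII t s K D k u) {x : G} (hx : x ∈ D) :
    orderOf x ≠ 2 := by
  intro h2
  have hconj := c.hyp.hconj x t h2 c.hyp.ht
  rw [isConj_iff] at hconj
  obtain ⟨e, he⟩ := hconj
  have hx1 : x ≠ 1 := by
    rintro rfl
    rw [orderOf_one] at h2; omega
  apply c.no_embed e⁻¹
  intro b hb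
  rw [← c.hCD x hx hx1, Subgroup.mem_centralizer_singleton_iff]
  have h3 := K_comm c.hyp b hb t c.hyp.htK
  rw [← he] at h3
  have h4 : e⁻¹ * (b * (e * x * e⁻¹)) * e = e⁻¹ * (e * x * e⁻¹ * b) * e :=
    congrArg (fun z => e⁻¹ * z * e) h3
  have e1 : e⁻¹ * (b * (e * x * e⁻¹)) * e = e⁻¹ * b * e⁻¹⁻¹ * x := by group
  have e2 : e⁻¹ * (e * x * e⁻¹ * b) * e = x * (e⁻¹ * b * e⁻¹⁻¹) := by group
  rw [e1, e2] at h4
  exact h4

theorem CII.u_not_mem [Finite G] (c : CII t s K D k u) : u ∉ D :=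
  fun h => c.D_no_invol h c.hu

theorem CII.mem_ND_iff (c : CII t s K D k u) (x : G) :
    x ∈ Subgroup.normalizer (D : Set G) ↔ x ∈ D ∨ x * u ∈ D := by
  rw [c.hND]
  exact mem_sup_zpowers_iff D u c.u_mul_u c.u_norm x

theorem CII.card_ND [Finite G] (c : CII t s K D k u) :
    Nat.card ↥(Subgroup.normalizer (D : Set G)) = 2 * (k - 1) := by
  rw [c.hND, card_sup_zpowers D u c.u_mul_u c.u_norm c.u_not_mem, c.hD]

theorem CII.real_of_mem_ND (c : CII t s K D k u) {x : G}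
    (hx : x ∈ Subgroup.normalizer (D : Set G)) : IsRealElt x := by
  by_cases hxD : x ∈ D
  · exact c.D_real hxD
  · rcases (c.mem_ND_iff x).1 hx with h1 | h1
    · exact absurd h1 hxD
    · apply real_of_sq (sq_of_mul_mem D u c.u_mul_u c.huD h1)
      rintro rfl
      exact hxD D.one_mem

theorem CII.ti_D (c : CII t s K D k u) {g : G} (hg : g ∉ Subgroup.normalizer (D : Set G))
    {a : G} (ha : a ∈ D) (hga : g * a * g⁻¹ ∈ D) : a = 1 := by
  by_contra ha1
  apply hg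
  have hga1 : g * a * g⁻¹ ≠ 1 := by
    intro h1
    apply ha1
    have := congrArg (fun z => g⁻¹ * z * g) h1
    simpa [mul_assoc] using this
  rw [Subgroup.mem_normalizer_iff]
  intro x
  have h1 := c.hCD a ha ha1
  have h2 := c.hCD _ hga hga1
  constructor
  · intro hx
    rw [← h2, Subgroup.mem_centralizer_singleton_iff]
    have h3 : x ∈ Subgroup.centralizer ({a} : Set G) := by rw [h1]; exact hx
    rw [Subgroup.mem_centralizer_singleton_iff] at h3
    have e1 : g * x * g⁻¹ * (g * a * g⁻¹) = g * (x * a) * g⁻¹ := by group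
    have e2 : g * a * g⁻¹ * (g * x * g⁻¹) = g * (a * x) * g⁻¹ := by group
    rw [e1, e2, h3]
  · intro hx
    rw [← h1, Subgroup.mem_centralizer_singleton_iff]
    have h3 : g * x * g⁻¹ ∈ Subgroup.centralizer ({g * a * g⁻¹} : Set G) := by rw [h2]; exact hx
    rw [Subgroup.mem_centralizer_singleton_iff] at h3
    have e1 : g * x * g⁻¹ * (g * a * g⁻¹) = g * (x * a) * g⁻¹ := by group
    have e2 : g * a * g⁻¹ * (g * x * g⁻¹) = g * (a * x) * g⁻¹ := by group
    rw [e1, e2] at h3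
    have := congrArg (fun z => g⁻¹ * z * g) h3
    simpa [mul_assoc] using this

theorem CII.norm_D (c : CII t s K D k u) {g : G} (hg : g ∈ Subgroup.normalizer (D : Set G))
    {a : G} (ha : a ∈ D) : g * a * g⁻¹ ∈ D := by
  rw [Subgroup.mem_normalizer_iff] at hg
  exact (hg a).1 ha

theorem CII.count_D [Finite G] (c : CII t s K D k u) :
    Nat.card {x : G // x ≠ 1 ∧ ∃ a : G, a * x * a⁻¹ ∈ D} =
      (Subgroup.normalizer (D : Set G)).index * (k - 1 - 1) := by
  rw [← c.hD]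
  exact ti_count D (Subgroup.normalizer (D : Set G)) (fun _ hg _ ha => c.norm_D hg ha)
    (fun _ hg _ ha hga => c.ti_D hg ha hga)

theorem CII.disjoint_KD [Finite G] (c : CII t s K D k u) {x : G} (hx1 : x ≠ 1)
    (hK : ConjK K x) (hD : ∃ a : G, a * x * a⁻¹ ∈ D) : False := by
  obtain ⟨a, ha⟩ := hK
  obtain ⟨e, he⟩ := hD
  have he1 : e * x * e⁻¹ ≠ 1 := by
    intro h1
    apply hx1
    have := congrArg (fun z => e⁻¹ * z * e) h1
    simpa [mul_assoc] using this
  apply c.no_embed (e * a⁻¹)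
  intro b hb
  rw [← c.hCD _ he he1, Subgroup.mem_centralizer_singleton_iff]
  have h3 := K_comm c.hyp b hb _ ha
  have e1 : e * a⁻¹ * b * (e * a⁻¹)⁻¹ * (e * x * e⁻¹) = (e * a⁻¹) * (b * (a * x * a⁻¹)) * (e * a⁻¹)⁻¹ := by
    group
  have e2 : e * x * e⁻¹ * (e * a⁻¹ * b * (e * a⁻¹)⁻¹) = (e * a⁻¹) * ((a * x * a⁻¹) * b) * (e * a⁻¹)⁻¹ := by
    group
  rw [e1, e2, h3]

theorem CII.real_of_conjK (c : CII t s K D k u) {g : G} (hg : ConjK K g) : IsRealElt g := by
  obtain ⟨a, ha⟩ := hg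
  exact real_conj a (real_of_mem_H c.hyp (c.hyp.hKH ha))

theorem CII.real_of_conjD (c : CII t s K D k u) {g : G} (hg : ∃ a : G, a * g * a⁻¹ ∈ D) :
    IsRealElt g := by
  obtain ⟨a, ha⟩ := hg
  exact real_conj a (c.D_real ha)

theorem CII.real_one (c : CII t s K D k u) : IsRealElt (1 : G) :=
  ⟨t, c.hyp.ht, by group⟩

theorem CII.real_iff (c : CII t s K D k u) (g : G) :
    IsRealElt g ↔ g = 1 ∨ ((g ≠ 1 ∧ ConjK K g) ∨ (g ≠ 1 ∧ ∃ a : G, a * g * a⁻¹ ∈ D)) := by
  constructor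
  · intro hg
    by_cases h1 : g = 1
    · exact Or.inl h1
    · right
      rcases c.hreal g h1 hg with h2 | h2
      · exact Or.inl ⟨h1, h2⟩
      · exact Or.inr ⟨h1, h2⟩
  · rintro (rfl | ⟨-, h2⟩ | ⟨-, h2⟩)
    · exact c.real_one
    · exact c.real_of_conjK h2
    · exact c.real_of_conjD h2

theorem CII.index_H [Finite G] (c : CII t s K D k u) :
    (Subgroup.centralizer ({t} : Set G)).index = (k - 1) * (2 * k - 1) := by
  have h1 := Subgroup.card_mul_index (Subgroup.centralizer ({t} : Set G))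
  rw [card_H c.hyp, c.hk, c.hG] at h1
  have hk := c.hk3
  have : 2 * k * (Subgroup.centralizer ({t} : Set G)).index = 2 * k * ((k - 1) * (2 * k - 1)) := by
    rw [h1]; ring
  exact Nat.eq_of_mul_eq_mul_left (by omega) this

theorem CII.index_ND [Finite G] (c : CII t s K D k u) :
    (Subgroup.normalizer (D : Set G)).index = k * (2 * k - 1) := by
  have h1 := Subgroup.card_mul_index (Subgroup.normalizer (D : Set G))
  rw [c.card_ND, c.hG] at h1
  have hk := c.hk3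
  have : 2 * (k - 1) * (Subgroup.normalizer (D : Set G)).index = 2 * (k - 1) * (k * (2 * k - 1)) := by
    rw [h1]; ring
  exact Nat.eq_of_mul_eq_mul_left (by omega) this

/-- the number of non-real elements. -/
theorem CII.card_nonreal [Finite G] (c : CII t s K D k u) :
    Nat.card {g : G // ¬ IsRealElt g} + 1 = (2 * k - 1) ^ 2 := by
  classical
  letI : Fintype G := Fintype.ofFinite G
  have h1 : Fintype.card {g : G // ¬ IsRealElt g} =
      Fintype.card G - Fintype.card {g : G // IsRealElt g} := Fintype.card_subtype_compl _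
  have h2 : Fintype.card {g : G // IsRealElt g} =
      Fintype.card {g : G // g = 1 ∨ ((g ≠ 1 ∧ ConjK K g) ∨ (g ≠ 1 ∧ ∃ a : G, a * g * a⁻¹ ∈ D))} :=
    Fintype.card_congr (Equiv.subtypeEquivRight (fun g => c.real_iff g))
  have h3 : Fintype.card {g : G // g = 1 ∨ ((g ≠ 1 ∧ ConjK K g) ∨ (g ≠ 1 ∧ ∃ a : G, a * g * a⁻¹ ∈ D))}
      = Fintype.card {g : G // g = 1} +
        Fintype.card {g : G // (g ≠ 1 ∧ ConjK K g) ∨ (g ≠ 1 ∧ ∃ a : G, a * g * a⁻¹ ∈ D)} := by
    apply Fintype.card_subtype_or_disjoint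
    rw [Pi.disjoint_iff] 
    intro g
    rw [Prop.disjoint_iff]
    rintro ⟨h1, (⟨h2, -⟩ | ⟨h2, -⟩)⟩ <;> exact h2 h1
  have h4 : Fintype.card {g : G // (g ≠ 1 ∧ ConjK K g) ∨ (g ≠ 1 ∧ ∃ a : G, a * g * a⁻¹ ∈ D)}
      = Fintype.card {g : G // g ≠ 1 ∧ ConjK K g} +
        Fintype.card {g : G // g ≠ 1 ∧ ∃ a : G, a * g * a⁻¹ ∈ D} := by
    apply Fintype.card_subtype_or_disjoint
    rw [Pi.disjoint_iff] 
    intro g
    rw [Prop.disjoint_iff]
    rintro ⟨⟨h1, h2⟩, ⟨-, h3⟩⟩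
    exact c.disjoint_KD h1 h2 h3
  have h5 : Fintype.card {g : G // g = 1} = 1 := Fintype.card_subtype_eq 1
  have h6 := count_K c.hyp
  have h7 := c.count_D
  rw [c.index_H, c.hk] at h6
  rw [c.index_ND] at h7
  rw [Nat.card_eq_fintype_card] at h6 h7
  have h8 := c.hG
  rw [Nat.card_eq_fintype_card] at h8
  rw [Nat.card_eq_fintype_card, h1, h2, h3, h4, h5, h6, h7, h8]
  obtain ⟨j, rfl⟩ : ∃ j, k = j + 3 := ⟨k - 3, by have := c.hk3; omega⟩
  have e1 : j + 3 - 1 = j + 2 := by omega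
  have e2 : 2 * (j + 3) - 1 = 2 * j + 5 := by omega
  have e3 : j + 2 - 1 = j + 1 := by omega
  rw [e1, e2, e3]
  have e4 : 2 * (j + 3) * (j + 2) * (2 * j + 5) =
      (1 + ((j + 2) * (2 * j + 5) * (j + 2) + (j + 3) * (2 * j + 5) * (j + 1))) + ((2 * j + 5) ^ 2 - 1) := by
    have : (2 * j + 5) ^ 2 - 1 = 4 * j ^ 2 + 20 * j + 24 := by
      have : (2 * j + 5) ^ 2 = 4 * j ^ 2 + 20 * j + 24 + 1 := by ring
      omega
    rw [this]; ring
  rw [e4, Nat.add_sub_cancel_left]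
  have : 1 ≤ (2 * j + 5) ^ 2 := Nat.one_le_pow _ _ (by omega)
  omega

end cii

end Cfsg.Agent.Lib.Helper2.Bsw2
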