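import Mathlib
import Cfsg.Agent.Lib.Helper7.BswDefs
import Cfsg.Agent.Lib.Helper2.Bsw2C

/-!
# Brauer–Suzuki–Wall, Case II endgame: centralizers of non-real elements
-/

namespace Cfsg.Agent.Lib.Helper2.Bsw2

open Cfsg.Agent.Lib.Helper7.Bsw

variable {G : Type*} [Group G]

theorem real_inv {y : G} (hy : IsRealElt y⁻¹) : IsRealElt y := by
  obtain ⟨v, hv, hinv⟩ := hy
  refine ⟨v, hv, ?_⟩
  rw [inv_inv] at hinv
  have : v * y * v⁻¹ = (v * y⁻¹ * v⁻¹)⁻¹ := by group
  rw [this, hinv]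

section cii

variable {t s : G} {K D : Subgroup G} {k : ℕ} {u : G}

theorem CII.nonreal_ne_one (c : CII t s K D k u) {y : G} (hy : ¬ IsRealElt y) : y ≠ 1 := by
  rintro rfl
  exact hy c.real_one

theorem CII.nonreal_of_commute (c : CII t s K D k u) {y x : G} (hy : ¬ IsRealElt y)
    (hxy : x * y = y * x) (hx1 : x ≠ 1) : ¬ IsRealElt x := by
  intro hx
  apply hy
  rcases c.hreal x hx1 hx with ⟨a, ha⟩ | ⟨a, ha⟩
  · have ha1 : a * x * a⁻¹ ≠ 1 := by
      intro h1
      apply hx1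
      have := congrArg (fun z => a⁻¹ * z * a) h1
      simpa [mul_assoc] using this
    apply real_conj a
    apply real_of_mem_H c.hyp
    apply cent_le_H c.hyp ha ha1
    have e1 : a * y * a⁻¹ * (a * x * a⁻¹) = a * (y * x) * a⁻¹ := by group
    have e2 : a * x * a⁻¹ * (a * y * a⁻¹) = a * (x * y) * a⁻¹ := by group
    rw [e1, e2, hxy]
  · have ha1 : a * x * a⁻¹ ≠ 1 := by
      intro h1
      apply hx1
      have := congrArg (fun z => a⁻¹ * z * a) h1
      simpa [mul_assoc] using this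
    apply real_conj a
    apply c.D_real
    rw [← c.hCD _ ha ha1, Subgroup.mem_centralizer_singleton_iff]
    have e1 : a * y * a⁻¹ * (a * x * a⁻¹) = a * (y * x) * a⁻¹ := by group
    have e2 : a * x * a⁻¹ * (a * y * a⁻¹) = a * (x * y) * a⁻¹ := by group
    rw [e1, e2, hxy]

theorem CII.not_conj_inv [Finite G] (c : CII t s K D k u) {y : G} (hy : ¬ IsRealElt y) (g : G) :
    g * y * g⁻¹ ≠ y⁻¹ := by
  intro hg
  have hy1 := c.nonreal_ne_one hy
  have h2 : Commute (g * g) y := by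
    have h1 : g * (g * y * g⁻¹) * g⁻¹ = y := by
      rw [hg]
      have : g * y⁻¹ * g⁻¹ = (g * y * g⁻¹)⁻¹ := by group
      rw [this, hg, inv_inv]
    show g * g * y = y * (g * g)
    calc g * g * y = (g * (g * y * g⁻¹) * g⁻¹) * (g * g) := by group
      _ = y * (g * g) := by rw [h1]
  have heven : ∀ i : ℕ, Commute ((g * g) ^ i) y := fun i => h2.pow_left i
  have hodd : ∀ i : ℕ, ((g * g) ^ i * g) * y * ((g * g) ^ i * g)⁻¹ = y⁻¹ := by
    intro i
    have e1 : ((g * g) ^ i * g) * y * ((g * g) ^ i * g)⁻¹ =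
        (g * g) ^ i * (g * y * g⁻¹) * ((g * g) ^ i)⁻¹ := by group
    rw [e1, hg, ((heven i).inv_right).eq]
    group
  have hpow_even : ∀ i : ℕ, g ^ (2 * i) = (g * g) ^ i := by
    intro i
    rw [pow_mul, pow_two]
  have hpow_odd : ∀ i : ℕ, g ^ (2 * i + 1) = (g * g) ^ i * g := by
    intro i
    rw [pow_succ, hpow_even]
  have hopos : 0 < orderOf g := orderOf_pos g
  rcases Nat.even_or_odd' (orderOf g) with ⟨j, hj | hj⟩
  · -- even order
    have hj0 : j ≠ 0 := by omega
    have hjlt : j < orderOf g := by omega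
    set v := g ^ j with hv
    have hv1 : v ≠ 1 := pow_ne_one_of_lt_orderOf hj0 hjlt
    have hvv : v * v = 1 := by
      rw [hv, ← pow_add, ← two_mul, ← hj, pow_orderOf_eq_one]
    rcases Nat.even_or_odd' j with ⟨i, hi | hi⟩
    · have hvi : v = (g * g) ^ i := by rw [hv, hi, hpow_even]
      have hcom : v * y = y * v := by rw [hvi]; exact (heven i).eq
      exact c.nonreal_of_commute hy hcom hv1 (real_of_sq hvv hv1)
    · have hvi : v = (g * g) ^ i * g := by rw [hv, hi, hpow_odd]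
      apply hy
      refine ⟨v, orderOf_two_of_sq hvv hv1, ?_⟩
      rw [hvi]; exact hodd i
  · -- odd order
    have h1 : (g * g) ^ j * g = 1 := by
      rw [← hpow_odd, ← hj, pow_orderOf_eq_one]
    have h3 := hodd j
    rw [h1] at h3
    have h4 : y = y⁻¹ := by simpa using h3
    have h5 : y * y = 1 := by
      nth_rewrite 2 [h4]
      exact mul_inv_cancel y
    exact hy (real_of_sq h5 hy1)

theorem CII.card_centralizer_dvd [Finite G] (c : CII t s K D k u) {y : G} (hy : ¬ IsRealElt y) :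
    Nat.card ↥(Subgroup.centralizer ({y} : Set G)) ∣ 2 * k - 1 := by
  have hfree : ∀ N : Subgroup G, (∀ x ∈ N, IsRealElt x) →
      Nat.card ↥(Subgroup.centralizer ({y} : Set G)) ∣ N.index := by
    intro N hN
    apply card_dvd_index_of_free
    intro g x hx hgx
    by_contra hx1
    rw [Subgroup.mem_centralizer_singleton_iff] at hx
    apply c.nonreal_of_commute hy hx hx1
    apply real_conj g⁻¹
    rw [inv_inv]
    exact hN _ hgx
  have h1 := hfree _ (fun x hx => real_of_mem_H c.hyp hx)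
  have h2 := hfree _ (fun x hx => c.real_of_mem_ND hx)
  rw [c.index_H] at h1
  rw [c.index_ND] at h2
  have h3 := Nat.dvd_gcd h1 h2
  rw [Nat.gcd_mul_right] at h3
  have hk := c.hk3
  have h4 : Nat.gcd (k - 1) k = 1 := by
    obtain ⟨j, rfl⟩ : ∃ j, k = j + 1 := ⟨k - 1, by omega⟩
    simp
  rw [h4, one_mul] at h3
  exact h3

theorem centralizer_inv (y : G) :
    Subgroup.centralizer ({y⁻¹} : Set G) = Subgroup.centralizer ({y} : Set G) := by
  ext x
  rw [Subgroup.mem_centralizer_singleton_iff, Subgroup.mem_centralizer_singleton_iff]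
  constructor
  · intro h
    have := congrArg (fun z => y * z * y) h
    simpa [mul_assoc] using this.symm
  · intro h
    have := congrArg (fun z => y⁻¹ * z * y⁻¹) h
    simpa [mul_assoc] using this.symm

/-- class facts: the centralizer of a non-real element has order `q`, and the two classes of
`y`, `y⁻¹` exhaust the non-real elements. -/
theorem CII.class_facts [Finite G] (c : CII t s K D k u) {y : G} (hy : ¬ IsRealElt y) :
    Nat.card ↥(Subgroup.centralizer ({y} : Set G)) = 2 * k - 1 ∧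
    ∀ y' : G, ¬ IsRealElt y' → (∃ g : G, g * y * g⁻¹ = y') ∨ (∃ g : G, g * y⁻¹ * g⁻¹ = y') := by
  have hyinv : ¬ IsRealElt y⁻¹ := fun h => hy (real_inv h)
  set c0 := Nat.card ↥(Subgroup.centralizer ({y} : Set G)) with hc0
  obtain ⟨j, hj⟩ := c.card_centralizer_dvd hy
  have ha := card_conj_mul_card_centralizer y
  have hb := card_conj_mul_card_centralizer y⁻¹
  rw [centralizer_inv] at hb
  rw [← hc0] at ha hb hj
  set A : Set G := {x | ∃ g : G, g * y * g⁻¹ = x} with hA
  set B : Set G := {x | ∃ g : G, g * y⁻¹ * g⁻¹ = x} with hB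
  set N : Set G := {x | ¬ IsRealElt x} with hN
  have hAN : A ⊆ N := by
    rintro x ⟨g, rfl⟩ hx
    exact hy (real_conj g hx)
  have hBN : B ⊆ N := by
    rintro x ⟨g, rfl⟩ hx
    exact hyinv (real_conj g hx)
  have hdisj : Disjoint A B := by
    rw [Set.disjoint_left]
    rintro x ⟨g, rfl⟩ ⟨g', hg'⟩
    apply c.not_conj_inv hy (g'⁻¹ * g)
    have := congrArg (fun z => g'⁻¹ * z * g') hg'
    have e1 : g'⁻¹ * (g' * y⁻¹ * g'⁻¹) * g' = y⁻¹ := by group
    rw [e1] at this
    rw [this]; group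
  have hAc : Nat.card {x : G // ∃ g : G, g * y * g⁻¹ = x} = A.ncard := by
    rw [← Nat.card_coe_set_eq]; rfl
  have hBc : Nat.card {x : G // ∃ g : G, g * y⁻¹ * g⁻¹ = x} = B.ncard := by
    rw [← Nat.card_coe_set_eq]; rfl
  have hNc : Nat.card {x : G // ¬ IsRealElt x} = N.ncard := by
    rw [← Nat.card_coe_set_eq]; rfl
  rw [hAc] at ha
  rw [hBc] at hb
  have hU : (A ∪ B).ncard = A.ncard + B.ncard :=
    Set.ncard_union_eq hdisj (Set.toFinite _) (Set.toFinite _)
  have hle : (A ∪ B).ncard ≤ N.ncard :=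
    Set.ncard_le_ncard (Set.union_subset hAN hBN) (Set.toFinite _)
  have hn := c.card_nonreal
  rw [hNc] at hn
  have hG := c.hG
  have hk := c.hk3
  -- arithmetic
  obtain ⟨i, rfl⟩ : ∃ i, k = i + 3 := ⟨k - 3, by omega⟩
  have e1 : i + 3 - 1 = i + 2 := by omega
  have e2 : 2 * (i + 3) - 1 = 2 * i + 5 := by omega
  rw [e1, e2] at hG
  rw [e2] at hn hj ⊢
  have hn' : N.ncard = 4 * (i + 3) * (i + 2) := by
    have : (2 * i + 5) ^ 2 = 4 * (i + 3) * (i + 2) + 1 := by ring
    omega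
  have hc0pos : 0 < c0 := by
    rcases Nat.eq_zero_or_pos c0 with h0 | h0
    · rw [h0, zero_mul] at hj; omega
    · exact h0
  have hsum : (A.ncard + B.ncard) * c0 = (N.ncard * j) * c0 := by
    rw [add_mul, ha, hb, hG, hn']
    have : 2 * i + 5 = c0 * j := hj
    calc 2 * (i + 3) * (i + 2) * (2 * i + 5) + 2 * (i + 3) * (i + 2) * (2 * i + 5)
        = 4 * (i + 3) * (i + 2) * (2 * i + 5) := by ring
      _ = 4 * (i + 3) * (i + 2) * (c0 * j) := by rw [this]
      _ = 4 * (i + 3) * (i + 2) * j * c0 := by ring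
  have hsum' : A.ncard + B.ncard = N.ncard * j := Nat.eq_of_mul_eq_mul_right hc0pos hsum
  have hNpos : 0 < N.ncard := by rw [hn']; positivity
  have hj1 : j = 1 := by
    have h1 : N.ncard * j ≤ N.ncard * 1 := by rw [← hsum', ← hU, mul_one]; exact hle
    have h2 := Nat.le_of_mul_le_mul_left h1 hNpos
    have h3 : j ≠ 0 := by
      rintro rfl
      rw [mul_zero] at hj; omega
    omega
  rw [hj1, mul_one] at hj hsum'
  refine ⟨hj.symm, ?_⟩
  have heq : A ∪ B = N := by
    apply Set.eq_of_subset_of_ncard_le (Set.union_subset hAN hBN) _ (Set.toFinite _)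
    rw [hU, hsum']
  intro y' hy'
  have : y' ∈ A ∪ B := by rw [heq]; exact hy'
  exact this

theorem CII.card_centralizer [Finite G] (c : CII t s K D k u) {y : G} (hy : ¬ IsRealElt y) :
    Nat.card ↥(Subgroup.centralizer ({y} : Set G)) = 2 * k - 1 := (c.class_facts hy).1

theorem CII.orderOf_nonreal [Finite G] (c : CII t s K D k u) {y y' : G} (hy : ¬ IsRealElt y)
    (hy' : ¬ IsRealElt y') : orderOf y' = orderOf y := by
  rcases (c.class_facts hy).2 y' hy' with ⟨g, rfl⟩ | ⟨g, rfl⟩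
  · exact orderOf_conj_eq g y
  · rw [orderOf_conj_eq, orderOf_inv]

theorem CII.nonreal_of_prime_dvd [Finite G] (c : CII t s K D k u) {p : ℕ} (hp : p.Prime)
    (hpq : p ∣ 2 * k - 1) {g : G} (hg : p ∣ orderOf g) : ¬ IsRealElt g := by
  intro hreal
  have hk := c.hk3
  have hg1 : g ≠ 1 := by
    rintro rfl
    rw [orderOf_one] at hg
    exact hp.one_lt.ne' (Nat.dvd_one.1 hg)
  have hp1 : ¬ p ∣ 1 := fun h => hp.one_lt.ne' (Nat.dvd_one.1 h)
  rcases c.hreal g hg1 hreal with ⟨a, ha⟩ | ⟨a, ha⟩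
  · have h1 : orderOf g ∣ k := by
      rw [← orderOf_conj_eq a g, ← c.hk]
      exact Subgroup.orderOf_dvd_natCard K ha
    have h2 : p ∣ 2 * k := dvd_mul_of_dvd_right (hg.trans h1) 2
    have h3 := Nat.dvd_sub h2 hpq
    have : 2 * k - (2 * k - 1) = 1 := by omega
    rw [this] at h3
    exact hp1 h3
  · have h1 : orderOf g ∣ k - 1 := by
      rw [← orderOf_conj_eq a g, ← c.hD]
      exact Subgroup.orderOf_dvd_natCard D ha
    have h2 : p ∣ 2 * (k - 1) := dvd_mul_of_dvd_right (hg.trans h1) 2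
    have h3 := Nat.dvd_sub hpq h2
    have : 2 * k - 1 - 2 * (k - 1) = 1 := by omega
    rw [this] at h3
    exact hp1 h3

/-- the prime `p` of Case II. -/
theorem CII.exists_prime [Finite G] (c : CII t s K D k u) :
    ∃ p : ℕ, p.Prime ∧ p ∣ 2 * k - 1 ∧ (∀ y : G, ¬ IsRealElt y → orderOf y = p) ∧
      ∃ a : ℕ, 2 * k - 1 = p ^ a := by
  have hk := c.hk3
  obtain ⟨p, hp, hpq⟩ := Nat.exists_prime_and_dvd (show 2 * k - 1 ≠ 1 by omega)
  haveI : Fact p.Prime := ⟨hp⟩
  have hpG : p ∣ Nat.card G := by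
    rw [c.hG]; exact dvd_mul_of_dvd_right hpq _
  obtain ⟨x, hx⟩ := exists_prime_orderOf_dvd_card' p hpG
  have hxn : ¬ IsRealElt x := c.nonreal_of_prime_dvd hp hpq (by rw [hx])
  have hord : ∀ y : G, ¬ IsRealElt y → orderOf y = p := by
    intro y hy
    rw [c.orderOf_nonreal hxn hy, hx]
  refine ⟨p, hp, hpq, hord, ?_⟩
  have hP : IsPGroup p ↥(Subgroup.centralizer ({x} : Set G)) := by
    intro z
    refine ⟨1, ?_⟩
    rw [pow_one]
    by_cases hz1 : (z : G) = 1
    · have : z = 1 := Subtype.ext hz1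
      rw [this, one_pow]
    · have hz := z.2
      rw [Subgroup.mem_centralizer_singleton_iff] at hz
      have := hord _ (c.nonreal_of_commute hxn hz hz1)
      apply Subtype.ext
      rw [Subgroup.coe_pow, ← this, pow_orderOf_eq_one]; rfl
  obtain ⟨a, ha⟩ := IsPGroup.iff_card.1 hP
  rw [c.card_centralizer hxn] at ha
  exact ⟨a, ha⟩

end cii

end Cfsg.Agent.Lib.Helper2.Bsw2
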