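import Mathlib
import Cfsg.Agent.Lib.Helper7.BswDefs
import Cfsg.Agent.Lib.Helper2.Bsw2D

/-!
# Brauer–Suzuki–Wall, Case II endgame: the Sylow `p`-subgroups
-/

namespace Cfsg.Agent.Lib.Helper2.Bsw2

open Cfsg.Agent.Lib.Helper7.Bsw

variable {G : Type*} [Group G]

/-- centre of a subgroup, as a subgroup of `G`. -/
def Zc (P : Subgroup G) : Subgroup G := P ⊓ Subgroup.centralizer (P : Set G)

theorem mem_Zc {P : Subgroup G} {z : G} : z ∈ Zc P ↔ z ∈ P ∧ ∀ x ∈ P, x * z = z * x := by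
  rw [Zc, Subgroup.mem_inf, Subgroup.mem_centralizer_iff]
  rfl

theorem Zc_le (P : Subgroup G) : Zc P ≤ P := inf_le_left

/-- Case II data together with the prime `p`. -/
structure CIIp (t s : G) (K D : Subgroup G) (k : ℕ) (u : G) (p : ℕ) : Prop where
  c : CII t s K D k u
  hp : p.Prime
  hpq : p ∣ 2 * k - 1
  hord : ∀ y : G, ¬ IsRealElt y → orderOf y = p
  hpow : ∃ a : ℕ, 2 * k - 1 = p ^ a

theorem CII.exists_CIIp [Finite G] {t s : G} {K D : Subgroup G} {k : ℕ} {u : G}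
    (c : CII t s K D k u) : ∃ p : ℕ, CIIp t s K D k u p := by
  obtain ⟨p, hp, hpq, hord, hpow⟩ := c.exists_prime
  exact ⟨p, ⟨c, hp, hpq, hord, hpow⟩⟩

theorem mem_smul_sylow {p : ℕ} [Fact p.Prime] (g : G) (P : Sylow p G) (x : G) :
    x ∈ (g • P : Sylow p G) ↔ g⁻¹ * x * g ∈ P := by
  have h1 : x ∈ (g • P : Sylow p G) ↔ x ∈ ((g • P : Sylow p G) : Subgroup G) := Iff.rfl
  rw [h1, Sylow.coe_subgroup_smul, Subgroup.mem_pointwise_smul_iff_inv_smul_mem]
  have h2 : (MulAut.conj g)⁻¹ • x = g⁻¹ * x * g := by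
    rw [← map_inv, MulAut.smul_def, MulAut.conj_apply, inv_inv]
  rw [h2]
  rfl

section ciip

variable {t s : G} {K D : Subgroup G} {k : ℕ} {u : G} {p : ℕ} [hpf : Fact p.Prime]

theorem CIIp.not_dvd (d : CIIp t s K D k u p) : ¬ p ∣ 2 * k * (k - 1) := by
  intro h
  have hk := d.c.hk3
  have hp1 : ¬ p ∣ 1 := fun h => d.hp.one_lt.ne' (Nat.dvd_one.1 h)
  have hpq := d.hpq
  rcases (d.hp.dvd_mul).1 h with h1 | h1
  · rcases (d.hp.dvd_mul).1 h1 with h2 | h2
    · have : p = 2 := (Nat.prime_dvd_prime_iff_eq d.hp Nat.prime_two).1 h2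
      rw [this] at hpq
      omega
    · have h3 : p ∣ 2 * k := dvd_mul_of_dvd_right h2 2
      have h4 := Nat.dvd_sub h3 hpq
      have : 2 * k - (2 * k - 1) = 1 := by omega
      rw [this] at h4
      exact hp1 h4
  · have h3 : p ∣ 2 * (k - 1) := dvd_mul_of_dvd_right h1 2
    have h4 := Nat.dvd_sub hpq h3
    have : 2 * k - 1 - 2 * (k - 1) = 1 := by omega
    rw [this] at h4
    exact hp1 h4

theorem CIIp.sylow_card [Finite G] (d : CIIp t s K D k u p) (P : Sylow p G) :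
    Nat.card P = 2 * k - 1 := by
  rw [Sylow.card_eq_multiplicity]
  obtain ⟨a, ha⟩ := d.hpow
  have hk := d.c.hk3
  have hnd := d.not_dvd
  have h1 : 2 * k * (k - 1) ≠ 0 := by
    have : 0 < 2 * k * (k - 1) := by
      apply Nat.mul_pos <;> omega
    omega
  have h2 : p ^ a ≠ 0 := pow_ne_zero _ d.hp.pos.ne'
  rw [d.c.hG, ha, Nat.factorization_mul h1 h2, Finsupp.add_apply,
    Nat.factorization_eq_zero_of_not_dvd hnd, d.hp.factorization_pow, Finsupp.single_eq_same,
    zero_add]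

theorem CIIp.nonreal_of_mem_sylow [Finite G] (d : CIIp t s K D k u p) (P : Sylow p G) {z : G}
    (hz : z ∈ P) (hz1 : z ≠ 1) : ¬ IsRealElt z := by
  apply d.c.nonreal_of_prime_dvd d.hp d.hpq
  obtain ⟨i, hi⟩ := P.isPGroup' ⟨z, hz⟩
  have h1 : z ^ (p ^ i) = 1 := by
    have := congrArg Subtype.val hi
    simpa using this
  have h2 : orderOf z ∣ p ^ i := orderOf_dvd_of_pow_eq_one h1
  obtain ⟨j, -, hj⟩ := (Nat.dvd_prime_pow d.hp).1 h2
  rcases Nat.eq_zero_or_pos j with h0 | h0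
  · rw [h0, pow_zero, orderOf_eq_one_iff] at hj
    exact absurd hj hz1
  · rw [hj]
    exact dvd_pow_self p h0.ne'

theorem CIIp.sylow_eq_centralizer [Finite G] (d : CIIp t s K D k u p) (P : Sylow p G) {z : G}
    (hz : z ∈ Zc (P : Subgroup G)) (hz1 : z ≠ 1) :
    (P : Subgroup G) = Subgroup.centralizer ({z} : Set G) := by
  rw [mem_Zc] at hz
  have hnr := d.nonreal_of_mem_sylow P hz.1 hz1
  apply Subgroup.eq_of_le_of_card_ge
  · intro x hx
    rw [Subgroup.mem_centralizer_singleton_iff]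
    exact hz.2 x hx
  · rw [d.c.card_centralizer hnr]
    exact (d.sylow_card P).ge

theorem CIIp.isPGroup_centralizer [Finite G] (d : CIIp t s K D k u p) {x : G}
    (hx : ¬ IsRealElt x) : IsPGroup p ↥(Subgroup.centralizer ({x} : Set G)) := by
  intro z
  refine ⟨1, ?_⟩
  rw [pow_one]
  by_cases hz1 : (z : G) = 1
  · have : z = 1 := Subtype.ext hz1
    rw [this, one_pow]
  · have hz := z.2
    rw [Subgroup.mem_centralizer_singleton_iff] at hz
    have := d.hord _ (d.c.nonreal_of_commute hx hz hz1)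
    apply Subtype.ext
    rw [Subgroup.coe_pow, ← this, pow_orderOf_eq_one]; rfl

theorem CIIp.exists_sylow_eq [Finite G] (d : CIIp t s K D k u p) {x : G}
    (hx : ¬ IsRealElt x) :
    ∃ P : Sylow p G, (P : Subgroup G) = Subgroup.centralizer ({x} : Set G) := by
  obtain ⟨P, hP⟩ := (d.isPGroup_centralizer hx).exists_le_sylow
  refine ⟨P, (Subgroup.eq_of_le_of_card_ge hP ?_).symm⟩
  rw [d.c.card_centralizer hx]
  exact (d.sylow_card P).le

theorem mem_Zc_centralizer (x : G) : x ∈ Zc (Subgroup.centralizer ({x} : Set G)) := by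
  rw [mem_Zc]
  refine ⟨?_, ?_⟩
  · rw [Subgroup.mem_centralizer_singleton_iff]
  · intro y hy
    rw [Subgroup.mem_centralizer_singleton_iff] at hy
    exact hy

/-- every non-real element lies in the centre of exactly one Sylow `p`-subgroup. -/
theorem CIIp.exists_sylow_Zc [Finite G] (d : CIIp t s K D k u p) {x : G}
    (hx : ¬ IsRealElt x) : ∃ P : Sylow p G, x ∈ Zc (P : Subgroup G) := by
  obtain ⟨P, hP⟩ := d.exists_sylow_eq hx
  exact ⟨P, by rw [hP]; exact mem_Zc_centralizer x⟩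

theorem CIIp.sylow_unique [Finite G] (d : CIIp t s K D k u p) {x : G} (hx1 : x ≠ 1)
    {P P' : Sylow p G} (h : x ∈ Zc (P : Subgroup G)) (h' : x ∈ Zc (P' : Subgroup G)) :
    P = P' := by
  apply Sylow.ext
  rw [d.sylow_eq_centralizer P h hx1, d.sylow_eq_centralizer P' h' hx1]

theorem CIIp.Zc_nontrivial [Finite G] (d : CIIp t s K D k u p) (P : Sylow p G) :
    ∃ z ∈ Zc (P : Subgroup G), z ≠ 1 := by
  have hk := d.c.hk3
  haveI : Nontrivial ↥(P : Subgroup G) := by
    rw [← Finite.one_lt_card_iff_nontrivial]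
    have := d.sylow_card P
    omega
  have := IsPGroup.center_nontrivial P.isPGroup'
  obtain ⟨z, hz⟩ := exists_ne (1 : Subgroup.center ↥(P : Subgroup G))
  refine ⟨((z : ↥(P : Subgroup G)) : G), ?_, ?_⟩
  · rw [mem_Zc]
    refine ⟨(z : ↥(P : Subgroup G)).2, ?_⟩
    intro x hx
    have := Subgroup.mem_center_iff.1 z.2 ⟨x, hx⟩
    exact congrArg Subtype.val this
  · intro h
    apply hz
    apply Subtype.ext
    apply Subtype.ext
    exact h

/-- the relation `Z(P') ≤ P` is symmetric. -/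
theorem CIIp.Zc_symm [Finite G] (d : CIIp t s K D k u p) {P P' : Sylow p G}
    (h : Zc (P' : Subgroup G) ≤ P) : Zc (P : Subgroup G) ≤ P' := by
  obtain ⟨z', hz', hz'1⟩ := d.Zc_nontrivial P'
  intro z hz
  have h1 : z' ∈ (P : Subgroup G) := h hz'
  rw [mem_Zc] at hz
  have h2 := hz.2 z' h1
  show z ∈ (P' : Subgroup G)
  rw [d.sylow_eq_centralizer P' hz' hz'1, Subgroup.mem_centralizer_singleton_iff]
  exact h2.symm

theorem CIIp.Zc_le_of_mem [Finite G] (d : CIIp t s K D k u p) {P P' : Sylow p G} {x : G}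
    (hx : x ∈ P) (hx1 : x ≠ 1) (hx' : x ∈ Zc (P' : Subgroup G)) :
    Zc (P' : Subgroup G) ≤ P := by
  apply d.Zc_symm
  intro z hz
  rw [mem_Zc] at hz
  show z ∈ (P' : Subgroup G)
  rw [d.sylow_eq_centralizer P' hx' hx1, Subgroup.mem_centralizer_singleton_iff]
  exact (hz.2 x hx).symm

theorem mem_Zc_smul (g : G) (P : Sylow p G) (z : G) :
    g * z * g⁻¹ ∈ Zc ((g • P : Sylow p G) : Subgroup G) ↔ z ∈ Zc (P : Subgroup G) := by
  rw [mem_Zc, mem_Zc]
  have hmem : ∀ x : G, x ∈ ((g • P : Sylow p G) : Subgroup G) ↔ g⁻¹ * x * g ∈ (P : Subgroup G) :=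
    fun x => mem_smul_sylow g P x
  constructor
  · rintro ⟨h1, h2⟩
    refine ⟨?_, ?_⟩
    · have := (hmem _).1 h1
      have e : g⁻¹ * (g * z * g⁻¹) * g = z := by group
      rw [e] at this; exact this
    · intro x hx
      have h3 : g * x * g⁻¹ ∈ ((g • P : Sylow p G) : Subgroup G) := by
        rw [hmem]
        have e : g⁻¹ * (g * x * g⁻¹) * g = x := by group
        rw [e]; exact hx
      have h4 := h2 _ h3
      have := congrArg (fun w => g⁻¹ * w * g) h4
      simpa [mul_assoc] using this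
  · rintro ⟨h1, h2⟩
    refine ⟨?_, ?_⟩
    · rw [hmem]
      have e : g⁻¹ * (g * z * g⁻¹) * g = z := by group
      rw [e]; exact h1
    · intro x hx
      have h3 := h2 _ ((hmem x).1 hx)
      have e1 : x * (g * z * g⁻¹) = g * (g⁻¹ * x * g * z) * g⁻¹ := by group
      have e2 : g * z * g⁻¹ * x = g * (z * (g⁻¹ * x * g)) * g⁻¹ := by group
      rw [e1, e2, h3]

theorem card_Zc_smul (g : G) (P : Sylow p G) :
    Nat.card ↥(Zc ((g • P : Sylow p G) : Subgroup G)) = Nat.card ↥(Zc (P : Subgroup G)) := by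
  symm
  apply Nat.card_congr
  refine Equiv.subtypeEquiv (MulAut.conj g).toEquiv ?_
  intro z
  exact (mem_Zc_smul g P z).symm

theorem card_Zc_eq [Finite G] (P P' : Sylow p G) :
    Nat.card ↥(Zc (P' : Subgroup G)) = Nat.card ↥(Zc (P : Subgroup G)) := by
  obtain ⟨g, rfl⟩ := MulAction.exists_smul_eq G P P'
  exact card_Zc_smul g P

end ciip

end Cfsg.Agent.Lib.Helper2.Bsw2
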