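import Mathlib
import Cfsg.Agent.Lib.Helper7.BswDefs
import Cfsg.Agent.Lib.Helper2.Bsw2E

/-!
# Brauer–Suzuki–Wall, Case II endgame: counting centres of Sylow subgroups
-/

namespace Cfsg.Agent.Lib.Helper2.Bsw2

open Cfsg.Agent.Lib.Helper7.Bsw

variable {G : Type*} [Group G]

theorem natCard_subtype {α : Type*} [Fintype α] (P : α → Prop) [DecidablePred P] :
    Nat.card {x // P x} = (Finset.univ.filter P).card := by
  rw [Nat.card_eq_fintype_card, Fintype.card_subtype]

theorem card_filter_mem [Fintype G] (S : Subgroup G) [DecidablePred (· ∈ S)] :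
    (Finset.univ.filter (fun x : G => x ∈ S)).card = Nat.card S := by
  rw [← natCard_subtype]

theorem card_filter_mem_ne [Fintype G] [DecidableEq G] (S : Subgroup G) [DecidablePred (· ∈ S)] :
    (Finset.univ.filter (fun x : G => x ∈ S ∧ x ≠ 1)).card = Nat.card S - 1 := by
  have h1 : Finset.univ.filter (fun x : G => x ∈ S ∧ x ≠ 1) =
      (Finset.univ.filter (fun x : G => x ∈ S)).erase 1 := by
    ext x
    simp only [Finset.mem_filter, Finset.mem_univ, true_and, Finset.mem_erase]
    tauto
  rw [h1, Finset.card_erase_of_mem, card_filter_mem]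
  simp only [Finset.mem_filter, Finset.mem_univ, true_and]
  exact S.one_mem

section ciip

variable {t s : G} {K D : Subgroup G} {k : ℕ} {u : G} {p : ℕ} [hpf : Fact p.Prime]

/-- the number of Sylow subgroups whose centre lies in `Q`. -/
noncomputable def mA (Q : Sylow p G) : ℕ :=
  Nat.card {P : Sylow p G // Zc (P : Subgroup G) ≤ Q}

theorem CIIp.one_lt_card_Zc [Finite G] (d : CIIp t s K D k u p) (P : Sylow p G) :
    1 < Nat.card ↥(Zc (P : Subgroup G)) := by
  obtain ⟨z, hz, hz1⟩ := d.Zc_nontrivial P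
  rw [Finite.one_lt_card_iff_nontrivial]
  exact ⟨⟨⟨z, hz⟩, 1, fun h => hz1 (congrArg Subtype.val h)⟩⟩

theorem CIIp.filter_Zc_card_one [Finite G] [Fintype (Sylow p G)] [DecidableEq (Sylow p G)]
    (d : CIIp t s K D k u p) {x : G} (hx : ¬ IsRealElt x)
    [DecidablePred (fun P : Sylow p G => x ∈ Zc (P : Subgroup G))] :
    (Finset.univ.filter (fun P : Sylow p G => x ∈ Zc (P : Subgroup G))).card = 1 := by
  obtain ⟨P0, hP0⟩ := d.exists_sylow_Zc hx
  rw [Finset.card_eq_one]
  refine ⟨P0, ?_⟩
  ext P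
  simp only [Finset.mem_filter, Finset.mem_univ, true_and, Finset.mem_singleton]
  constructor
  · intro h
    exact d.sylow_unique (d.c.nonreal_ne_one hx) h hP0
  · rintro rfl
    exact hP0

/-- (i): the centres partition the non-real elements. -/
theorem CIIp.count_nonreal [Finite G] (d : CIIp t s K D k u p) (Q : Sylow p G) :
    (2 * k - 1) ^ 2 - 1 = Nat.card (Sylow p G) * (Nat.card ↥(Zc (Q : Subgroup G)) - 1) := by
  classical
  letI : Fintype G := Fintype.ofFinite G
  letI : Fintype (Sylow p G) := Fintype.ofFinite _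
  have h0 := d.c.card_nonreal
  rw [natCard_subtype] at h0
  have hbip := Finset.sum_card_bipartiteAbove_eq_sum_card_bipartiteBelow
    (fun (x : G) (P : Sylow p G) => x ∈ Zc (P : Subgroup G))
    (s := Finset.univ.filter (fun x : G => ¬ IsRealElt x)) (t := (Finset.univ : Finset (Sylow p G)))
  have hL : ∀ a ∈ Finset.univ.filter (fun x : G => ¬ IsRealElt x),
      ((Finset.univ : Finset (Sylow p G)).bipartiteAbove
        (fun (x : G) (P : Sylow p G) => x ∈ Zc (P : Subgroup G)) a).card = 1 := by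
    intro a ha
    rw [Finset.mem_filter] at ha
    exact d.filter_Zc_card_one ha.2
  have hR : ∀ b ∈ (Finset.univ : Finset (Sylow p G)),
      ((Finset.univ.filter (fun x : G => ¬ IsRealElt x)).bipartiteBelow
        (fun (x : G) (P : Sylow p G) => x ∈ Zc (P : Subgroup G)) b).card =
        Nat.card ↥(Zc (Q : Subgroup G)) - 1 := by
    intro b _
    rw [card_Zc_eq b Q, ← card_filter_mem_ne]
    congr 1
    ext x
    simp only [Finset.bipartiteBelow, Finset.mem_filter, Finset.mem_univ, true_and]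
    constructor
    · rintro ⟨h1, h2⟩
      exact ⟨h2, d.c.nonreal_ne_one h1⟩
    · rintro ⟨h1, h2⟩
      exact ⟨d.nonreal_of_mem_sylow b (Zc_le _ h1) h2, h1⟩
  rw [Finset.sum_congr rfl hL, Finset.sum_congr rfl hR, Finset.sum_const, Finset.sum_const,
    smul_eq_mul, smul_eq_mul, mul_one, Finset.card_univ, ← Nat.card_eq_fintype_card] at hbip
  rw [← hbip]
  omega

/-- (ii): the centres lying in `Q` partition `Q \ 1`. -/
theorem CIIp.count_Q [Finite G] (d : CIIp t s K D k u p) (Q Q' : Sylow p G) :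
    2 * k - 1 - 1 = mA Q * (Nat.card ↥(Zc (Q' : Subgroup G)) - 1) := by
  classical
  letI : Fintype G := Fintype.ofFinite G
  letI : Fintype (Sylow p G) := Fintype.ofFinite _
  have hbip := Finset.sum_card_bipartiteAbove_eq_sum_card_bipartiteBelow
    (fun (x : G) (P : Sylow p G) => x ∈ Zc (P : Subgroup G))
    (s := Finset.univ.filter (fun x : G => x ∈ (Q : Subgroup G) ∧ x ≠ 1))
    (t := (Finset.univ : Finset (Sylow p G)))
  have hL : ∀ a ∈ Finset.univ.filter (fun x : G => x ∈ (Q : Subgroup G) ∧ x ≠ 1),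
      ((Finset.univ : Finset (Sylow p G)).bipartiteAbove
        (fun (x : G) (P : Sylow p G) => x ∈ Zc (P : Subgroup G)) a).card = 1 := by
    intro a ha
    rw [Finset.mem_filter] at ha
    exact d.filter_Zc_card_one (d.nonreal_of_mem_sylow Q ha.2.1 ha.2.2)
  have hR : ∀ b ∈ (Finset.univ : Finset (Sylow p G)),
      ((Finset.univ.filter (fun x : G => x ∈ (Q : Subgroup G) ∧ x ≠ 1)).bipartiteBelow
        (fun (x : G) (P : Sylow p G) => x ∈ Zc (P : Subgroup G)) b).card =
        if Zc (b : Subgroup G) ≤ Q then Nat.card ↥(Zc (Q' : Subgroup G)) - 1 else 0 := by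
    intro b _
    split_ifs with hb
    · rw [card_Zc_eq b Q', ← card_filter_mem_ne]
      congr 1
      ext x
      simp only [Finset.bipartiteBelow, Finset.mem_filter, Finset.mem_univ, true_and]
      constructor
      · rintro ⟨⟨_, h2⟩, h3⟩
        exact ⟨h3, h2⟩
      · rintro ⟨h1, h2⟩
        exact ⟨⟨hb h1, h2⟩, h1⟩
    · rw [Finset.card_eq_zero]
      ext x
      simp only [Finset.bipartiteBelow, Finset.mem_filter, Finset.mem_univ, true_and,
        Finset.notMem_empty, iff_false]
      rintro ⟨⟨h1, h2⟩, h3⟩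
      exact hb (d.Zc_le_of_mem h1 h2 h3)
  rw [Finset.sum_congr rfl hL, Finset.sum_congr rfl hR, Finset.sum_const, smul_eq_mul, mul_one,
    Finset.sum_ite, Finset.sum_const, Finset.sum_const_zero, add_zero, smul_eq_mul,
    card_filter_mem_ne, d.sylow_card Q] at hbip
  rw [mA, natCard_subtype (fun P : Sylow p G => Zc (P : Subgroup G) ≤ Q)]
  exact hbip

theorem CIIp.mA_eq [Finite G] (d : CIIp t s K D k u p) (Q Q' : Sylow p G) : mA Q = mA Q' := by
  have h1 := d.count_Q Q Q
  have h2 := d.count_Q Q' Q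
  rw [h1] at h2
  have h3 := d.one_lt_card_Zc Q
  exact Nat.eq_of_mul_eq_mul_right (by omega) h2

/-- (iii): every non-real element lies in exactly `mA Q` Sylow subgroups. -/
theorem CIIp.card_containing [Finite G] (d : CIIp t s K D k u p) (Q : Sylow p G) {x : G}
    (hx : ¬ IsRealElt x) : Nat.card {P : Sylow p G // x ∈ P} = mA Q := by
  obtain ⟨Px, hPx⟩ := d.exists_sylow_Zc hx
  rw [d.mA_eq Q Px, mA]
  apply Nat.card_congr
  refine Equiv.subtypeEquivRight ?_
  intro P
  have hx1 := d.c.nonreal_ne_one hx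
  constructor
  · intro h
    exact d.Zc_symm (d.Zc_le_of_mem h hx1 hPx)
  · intro h
    exact d.Zc_symm h hPx

end ciip

end Cfsg.Agent.Lib.Helper2.Bsw2
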