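import Mathlib
import Cfsg.Agent.Lib.Helper7.BswDefs
import Cfsg.Agent.Lib.Helper2.Bsw2F

/-!
# Brauer–Suzuki–Wall, Case II endgame: the involution count, `Q` abelian
-/

namespace Cfsg.Agent.Lib.Helper2.Bsw2

open Cfsg.Agent.Lib.Helper7.Bsw

variable {G : Type*} [Group G]

section ciip

variable {t s : G} {K D : Subgroup G} {k : ℕ} {u : G} {p : ℕ} [hpf : Fact p.Prime]

theorem CIIp.eq_one_of_real [Finite G] (d : CIIp t s K D k u p) (Q : Sylow p G) {w : G}
    (hw : w ∈ Q) (hr : IsRealElt w) : w = 1 := by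
  by_contra h1
  exact d.nonreal_of_mem_sylow Q hw h1 hr

/-- an involution moves every Sylow `p`-subgroup to one meeting it trivially. -/
theorem CIIp.inf_smul_eq_bot [Finite G] (d : CIIp t s K D k u p) (Q : Sylow p G) {v : G}
    (hv : orderOf v = 2) :
    (Q : Subgroup G) ⊓ ((v • Q : Sylow p G) : Subgroup G) = ⊥ := by
  have hvv : v * v = 1 := by
    have := pow_orderOf_eq_one v
    rw [hv, pow_two] at this
    exact this
  have hvinv : v⁻¹ = v := inv_eq_of_mul_eq_one_right hvv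
  have hv1 : v ≠ 1 := by
    rintro rfl
    rw [orderOf_one] at hv; omega
  rw [eq_bot_iff]
  intro x hx
  rw [Subgroup.mem_inf] at hx
  obtain ⟨hxQ, hxvQ⟩ := hx
  have hx' : v⁻¹ * x * v ∈ (Q : Subgroup G) := (mem_smul_sylow v Q x).1 hxvQ
  have hw : x⁻¹ * (v⁻¹ * x * v) ∈ (Q : Subgroup G) :=
    Subgroup.mul_mem _ (Subgroup.inv_mem _ hxQ) hx'
  have hwr : IsRealElt (x⁻¹ * (v⁻¹ * x * v)) := by
    refine ⟨v, hv, ?_⟩
    have e1 : v * (x⁻¹ * (v⁻¹ * x * v)) * v⁻¹ = (v * x⁻¹ * v⁻¹) * x := by group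
    have e2 : (x⁻¹ * (v⁻¹ * x * v))⁻¹ = (v⁻¹ * x⁻¹ * v) * x := by group
    have e3 : v * x⁻¹ * v⁻¹ = v⁻¹ * x⁻¹ * v := by rw [hvinv]
    rw [e1, e2, e3]
  have hw1 := d.eq_one_of_real Q hw hwr
  have hcomm : v * x = x * v := by
    have : v⁻¹ * x * v = x := by
      have := congrArg (fun z => x * z) hw1
      simpa [mul_assoc] using this
    calc v * x = v * (v⁻¹ * x * v) := by rw [this]
      _ = x * v := by group
  rw [Subgroup.mem_bot]
  by_contra hx1
  have hxn := d.nonreal_of_mem_sylow Q hxQ hx1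
  exact d.c.nonreal_of_commute hxn hcomm hv1 (real_of_sq hvv hv1)

/-- at most `|N(Q) : Q|` involutions move `Q` to a given `P`. -/
theorem CIIp.fiber_bound [Finite G] (d : CIIp t s K D k u p) (Q P : Sylow p G) :
    Nat.card {v : G // orderOf v = 2 ∧ v • Q = P} * (2 * k - 1) ≤
      Nat.card ↥(Subgroup.normalizer ((Q : Subgroup G) : Set G)) := by
  rcases isEmpty_or_nonempty {v : G // orderOf v = 2 ∧ v • Q = P} with hE | ⟨⟨v0, hv0, hv0P⟩⟩
  · rw [Nat.card_of_isEmpty, zero_mul]; exact Nat.zero_le _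
  · rw [← d.sylow_card Q, ← Nat.card_prod]
    have hmem : ∀ (v : {v : G // orderOf v = 2 ∧ v • Q = P}) (x : ↥(Q : Subgroup G)),
        v0⁻¹ * (v : G) * (x : G) ∈ Subgroup.normalizer ((Q : Subgroup G) : Set G) := by
      intro v x
      apply Subgroup.mul_mem
      · have h1 : v0⁻¹ * (v : G) ∈ Subgroup.normalizer (Q : Set G) := by
          rw [← Sylow.smul_eq_iff_mem_normalizer, mul_smul, v.2.2, ← hv0P, inv_smul_smul]
        exact h1
      · exact Subgroup.le_normalizer x.2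
    apply Nat.card_le_card_of_injective
      (fun vx : {v : G // orderOf v = 2 ∧ v • Q = P} × ↥(Q : Subgroup G) =>
        (⟨v0⁻¹ * (vx.1 : G) * (vx.2 : G), hmem vx.1 vx.2⟩ :
          ↥(Subgroup.normalizer ((Q : Subgroup G) : Set G))))
    rintro ⟨⟨v1, hv1, hv1P⟩, ⟨x1, hx1⟩⟩ ⟨⟨v2, hv2, hv2P⟩, ⟨x2, hx2⟩⟩ h12
    have h12' : v0⁻¹ * v1 * x1 = v0⁻¹ * v2 * x2 := congrArg Subtype.val h12
    have h3 : v1 * x1 = v2 * x2 := by
      have := congrArg (fun z => v0 * z) h12'
      simpa [mul_assoc] using this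
    have hv2v2 : v2 * v2 = 1 := by
      have := pow_orderOf_eq_one v2
      rw [hv2, pow_two] at this
      exact this
    have hv1v1 : v1 * v1 = 1 := by
      have := pow_orderOf_eq_one v1
      rw [hv1, pow_two] at this
      exact this
    have hv2inv : v2⁻¹ = v2 := inv_eq_of_mul_eq_one_right hv2v2
    have hv1inv : v1⁻¹ = v1 := inv_eq_of_mul_eq_one_right hv1v1
    have h4 : v2⁻¹ * v1 = x2 * x1⁻¹ := by
      have := congrArg (fun z => v2⁻¹ * z * x1⁻¹) h3
      simpa [mul_assoc] using this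
    have hwQ : v2⁻¹ * v1 ∈ (Q : Subgroup G) := by
      rw [h4]; exact Subgroup.mul_mem _ hx2 (Subgroup.inv_mem _ hx1)
    have hwr : IsRealElt (v2⁻¹ * v1) := by
      refine ⟨v2, hv2, ?_⟩
      have e1 : v2 * (v2⁻¹ * v1) * v2⁻¹ = v1 * v2⁻¹ := by group
      have e2 : (v2⁻¹ * v1)⁻¹ = v1⁻¹ * v2 := by group
      rw [e1, e2, hv2inv, hv1inv]
    have hw1 := d.eq_one_of_real Q hwQ hwr
    have hv : v1 = v2 := by
      have := congrArg (fun z => v2 * z) hw1
      simpa [mul_assoc] using this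
    subst hv
    have hx : x1 = x2 := mul_left_cancel h3
    subst hx
    rfl

/-- the numerical consequences of the involution count. -/
theorem CIIp.count_main [Finite G] (d : CIIp t s K D k u p) (Q : Sylow p G) :
    Nat.card {P : Sylow p G // (Q : Subgroup G) ⊓ P = ⊥} + mA Q = Nat.card (Sylow p G) ∧
    mA Q * Nat.card ↥(Subgroup.normalizer ((Q : Subgroup G) : Set G)) = (k - 1) * (2 * k - 1) := by
  classical
  letI : Fintype G := Fintype.ofFinite G
  letI : Fintype (Sylow p G) := Fintype.ofFinite _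
  set ω := Nat.card (Sylow p G) with hω
  set z := Nat.card ↥(Zc (Q : Subgroup G)) with hz
  set m := mA Q with hm
  set ν := Nat.card ↥(Subgroup.normalizer ((Q : Subgroup G) : Set G)) with hν
  set b := Nat.card {P : Sylow p G // (Q : Subgroup G) ⊓ P = ⊥} with hb
  have ha := d.count_nonreal Q
  have hbq := d.count_Q Q Q
  rw [← hω, ← hz] at ha
  rw [← hm, ← hz] at hbq
  have hc : ν * ω = Nat.card G := by
    rw [hω, Sylow.card_eq_index_normalizer Q]
    exact Subgroup.card_mul_index _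
  have hd := card_invol d.c.hyp
  rw [card_H d.c.hyp, d.c.hk] at hd
  set n := Nat.card {x : G // orderOf x = 2} with hn
  have hz1 := d.one_lt_card_Zc Q
  -- (f) : b + m ≤ ω
  have hf : b + m ≤ ω := by
    rw [hb, hm, mA, hω, natCard_subtype, natCard_subtype, Nat.card_eq_fintype_card,
      ← Finset.card_univ, ← Finset.card_union_of_disjoint]
    · exact Finset.card_le_card (Finset.subset_univ _)
    · rw [Finset.disjoint_left]
      intro P hP1 hP2
      rw [Finset.mem_filter] at hP1 hP2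
      obtain ⟨z0, hz0, hz01⟩ := d.Zc_nontrivial P
      apply hz01
      have : z0 ∈ (Q : Subgroup G) ⊓ P := Subgroup.mem_inf.2 ⟨hP2.2 hz0, Zc_le _ hz0⟩
      rw [hP1.2, Subgroup.mem_bot] at this
      exact this
  -- (e) : n * q ≤ b * ν
  have he : n * (2 * k - 1) ≤ b * ν := by
    have h1 : n = ∑ P ∈ Finset.univ.filter (fun P : Sylow p G => (Q : Subgroup G) ⊓ P = ⊥),
        ((Finset.univ.filter (fun v : G => orderOf v = 2)).filter (fun v => v • Q = P)).card := by
      rw [hn, natCard_subtype]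
      apply Finset.card_eq_sum_card_fiberwise
      intro v hv
      rw [Finset.mem_coe, Finset.mem_filter] at hv
      rw [Finset.mem_coe, Finset.mem_filter]
      exact ⟨Finset.mem_univ _, d.inf_smul_eq_bot Q hv.2⟩
    rw [h1, Finset.sum_mul]
    have h2 : ∀ P ∈ Finset.univ.filter (fun P : Sylow p G => (Q : Subgroup G) ⊓ P = ⊥),
        ((Finset.univ.filter (fun v : G => orderOf v = 2)).filter (fun v => v • Q = P)).card
          * (2 * k - 1) ≤ ν := by
      intro P _
      have := d.fiber_bound Q P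
      rw [natCard_subtype, ← Finset.filter_filter] at this
      exact this
    have h3 := Finset.sum_le_card_nsmul _ _ _ h2
    rw [smul_eq_mul, ← natCard_subtype] at h3
    exact h3
  -- arithmetic
  have hG := d.c.hG
  have hk := d.c.hk3
  obtain ⟨i, rfl⟩ : ∃ i, k = i + 3 := ⟨k - 3, by omega⟩
  have e1 : i + 3 - 1 = i + 2 := by omega
  have e2 : 2 * (i + 3) - 1 = 2 * i + 5 := by omega
  rw [e1, e2] at hG
  rw [e2] at ha hbq he ⊢
  rw [e1] at ⊢
  obtain ⟨z1, hz1'⟩ : ∃ z1, z = z1 + 1 := ⟨z - 1, by omega⟩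
  have hz1pos : 0 < z1 := by omega
  rw [hz1', Nat.add_sub_cancel] at ha hbq
  have ha' : 4 * (i + 3) * (i + 2) = ω * z1 := by
    rw [← ha]
    have : (2 * i + 5) ^ 2 = 4 * (i + 3) * (i + 2) + 1 := by ring
    omega
  have hb' : 2 * (i + 2) = m * z1 := by
    rw [← hbq]; omega
  have hωm : ω = 2 * (i + 3) * m := by
    apply Nat.eq_of_mul_eq_mul_right hz1pos
    rw [← ha']
    calc 4 * (i + 3) * (i + 2) = 2 * (i + 3) * (2 * (i + 2)) := by ring
      _ = 2 * (i + 3) * (m * z1) := by rw [hb']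
      _ = 2 * (i + 3) * m * z1 := by ring
  have hmν : m * ν = (i + 2) * (2 * i + 5) := by
    have h1 : 2 * (i + 3) * (m * ν) = 2 * (i + 3) * ((i + 2) * (2 * i + 5)) := by
      calc 2 * (i + 3) * (m * ν) = ν * (2 * (i + 3) * m) := by ring
        _ = ν * ω := by rw [hωm]
        _ = Nat.card G := hc
        _ = 2 * (i + 3) * (i + 2) * (2 * i + 5) := hG
        _ = 2 * (i + 3) * ((i + 2) * (2 * i + 5)) := by ring
    exact Nat.eq_of_mul_eq_mul_left (by omega) h1
  have hnval : n = (i + 2) * (2 * i + 5) := by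
    have h1 : n * (2 * (i + 3)) = (i + 2) * (2 * i + 5) * (2 * (i + 3)) := by
      rw [hd, hG]; ring
    exact Nat.eq_of_mul_eq_mul_right (by omega) h1
  have hνpos : 0 < ν := by
    rcases Nat.eq_zero_or_pos ν with h0 | h0
    · rw [h0, mul_zero] at hmν
      have : 0 < (i + 2) * (2 * i + 5) := by positivity
      omega
    · exact h0
  have hmq : m * (2 * i + 5) ≤ b := by
    have h1 : m * (2 * i + 5) * ν ≤ b * ν := by
      calc m * (2 * i + 5) * ν = (m * ν) * (2 * i + 5) := by ring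
        _ = n * (2 * i + 5) := by rw [hmν, hnval]
        _ ≤ b * ν := he
    exact Nat.le_of_mul_le_mul_right h1 hνpos
  refine ⟨?_, hmν⟩
  have h5 : 2 * (i + 3) * m = m * (2 * i + 5) + m := by ring
  omega

end ciip

end Cfsg.Agent.Lib.Helper2.Bsw2
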