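import Mathlib
import Cfsg.Agent.Lib.Helper7.BswDefs
import Cfsg.Agent.Lib.Helper2.Bsw2G

/-!
# Brauer–Suzuki–Wall, Case II endgame: `m = 1`, the Sylow `p`-subgroups are abelian and TI
-/

namespace Cfsg.Agent.Lib.Helper2.Bsw2

open Cfsg.Agent.Lib.Helper7.Bsw

variable {G : Type*} [Group G]

section ciip

variable {t s : G} {K D : Subgroup G} {k : ℕ} {u : G} {p : ℕ} [hpf : Fact p.Prime]

theorem CIIp.sylow_ne_bot [Finite G] (d : CIIp t s K D k u p) (Q : Sylow p G) :
    (Q : Subgroup G) ≠ ⊥ := by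
  obtain ⟨z, hz, hz1⟩ := d.Zc_nontrivial Q
  intro h
  have : z ∈ (Q : Subgroup G) := Zc_le _ hz
  rw [h, Subgroup.mem_bot] at this
  exact hz1 this

theorem CIIp.mA_eq_one [Finite G] (d : CIIp t s K D k u p) (Q : Sylow p G) : mA Q = 1 := by
  classical
  letI : Fintype G := Fintype.ofFinite G
  letI : Fintype (Sylow p G) := Fintype.ofFinite _
  have hk := d.c.hk3
  set m := mA Q with hm
  have hcQ := d.count_Q Q Q
  rw [← hm] at hcQ
  have hm1 : 1 ≤ m := by
    rcases Nat.eq_zero_or_pos m with h0 | h0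
    · rw [h0, zero_mul] at hcQ; omega
    · exact h0
  obtain ⟨hcm, -⟩ := d.count_main Q
  rw [← hm] at hcm
  set Qs := Finset.univ.filter (fun x : G => x ∈ (Q : Subgroup G) ∧ x ≠ 1) with hQs
  have hQscard : Qs.card = 2 * k - 1 - 1 := by
    rw [hQs, card_filter_mem_ne, d.sylow_card Q]
  have hbip := Finset.sum_card_bipartiteAbove_eq_sum_card_bipartiteBelow
    (fun (x : G) (P : Sylow p G) => x ∈ P) (s := Qs) (t := (Finset.univ : Finset (Sylow p G)))
  have hL : ∀ a ∈ Qs, ((Finset.univ : Finset (Sylow p G)).bipartiteAbove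
      (fun (x : G) (P : Sylow p G) => x ∈ P) a).card = m := by
    intro a ha
    rw [hQs, Finset.mem_filter] at ha
    have h1 := d.card_containing Q (d.nonreal_of_mem_sylow Q ha.2.1 ha.2.2)
    rw [natCard_subtype] at h1
    exact h1
  rw [Finset.sum_congr rfl hL, Finset.sum_const, smul_eq_mul, hQscard] at hbip
  -- the right hand side
  set g : Sylow p G → ℕ := fun P => (Qs.bipartiteBelow (fun (x : G) (P : Sylow p G) => x ∈ P) P).card
    with hg
  set Bc := Finset.univ.filter (fun P : Sylow p G => ¬ ((Q : Subgroup G) ⊓ P = ⊥)) with hBc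
  have hBccard : Bc.card = m := by
    have h1 := Finset.card_filter_add_card_filter_not
      (s := (Finset.univ : Finset (Sylow p G))) (fun P : Sylow p G => (Q : Subgroup G) ⊓ P = ⊥)
    rw [← natCard_subtype, Finset.card_univ, ← Nat.card_eq_fintype_card] at h1
    rw [hBc]
    omega
  have hQBc : Q ∈ Bc := by
    rw [hBc, Finset.mem_filter]
    refine ⟨Finset.mem_univ _, ?_⟩
    rw [inf_idem]
    exact d.sylow_ne_bot Q
  have hg0 : ∀ P ∈ (Finset.univ : Finset (Sylow p G)), P ∉ Bc → g P = 0 := by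
    intro P _ hP
    rw [hBc, Finset.mem_filter, not_and, not_not] at hP
    have hP' := hP (Finset.mem_univ _)
    rw [hg]
    simp only
    rw [Finset.card_eq_zero]
    ext x
    simp only [Finset.bipartiteBelow, Finset.mem_filter, Finset.notMem_empty, iff_false]
    rintro ⟨hx, hxP⟩
    rw [hQs, Finset.mem_filter] at hx
    have : x ∈ (Q : Subgroup G) ⊓ P := Subgroup.mem_inf.2 ⟨hx.2.1, hxP⟩
    rw [hP', Subgroup.mem_bot] at this
    exact hx.2.2 this
  have hsum1 : ∑ P ∈ Bc, g P = ∑ P ∈ (Finset.univ : Finset (Sylow p G)), g P :=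
    Finset.sum_subset (Finset.subset_univ _) hg0
  have hsum2 := Finset.add_sum_erase Bc g hQBc
  have hgQ : g Q ≤ 2 * k - 1 - 1 := by
    rw [← hQscard, hg]
    exact Finset.card_le_card (Finset.filter_subset _ _)
  have hgP : ∀ P ∈ Bc.erase Q, g P ≤ 2 * k - 1 - 1 - 1 := by
    intro P hP
    rw [Finset.mem_erase] at hP
    have hlt : g P < Qs.card := by
      rw [hg]
      simp only [Finset.bipartiteBelow]
      apply Finset.card_lt_card
      rw [Finset.ssubset_iff_of_subset (Finset.filter_subset _ _)]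
      by_contra hcon
      push_neg at hcon
      apply hP.1
      symm
      apply Sylow.ext
      apply Subgroup.eq_of_le_of_card_ge
      · intro x hx
        by_cases hx1 : x = 1
        · rw [hx1]; exact Subgroup.one_mem _
        · have hxQs : x ∈ Qs := by
            rw [hQs, Finset.mem_filter]
            exact ⟨Finset.mem_univ _, hx, hx1⟩
          have := hcon x hxQs
          simp only [Finset.bipartiteBelow, Finset.mem_filter] at this
          exact this.2
      · rw [d.sylow_card P, d.sylow_card Q]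
    rw [hQscard] at hlt
    omega
  have hsum3 := Finset.sum_le_card_nsmul _ _ _ hgP
  rw [Finset.card_erase_of_mem hQBc, hBccard, smul_eq_mul] at hsum3
  -- arithmetic
  have hfinal : (2 * k - 1 - 1) * m ≤ (2 * k - 1 - 1) + (m - 1) * (2 * k - 1 - 1 - 1) := by
    have h1 : ∑ P ∈ (Finset.univ : Finset (Sylow p G)), g P = (2 * k - 1 - 1) * m := by
      rw [hbip]
    rw [← h1, ← hsum1, ← hsum2]
    exact Nat.add_le_add hgQ hsum3
  obtain ⟨i, rfl⟩ : ∃ i, k = i + 3 := ⟨k - 3, by omega⟩
  have e1 : 2 * (i + 3) - 1 - 1 = 2 * i + 4 := by omega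
  have e2 : 2 * (i + 3) - 1 - 1 - 1 = 2 * i + 3 := by omega
  rw [e2, e1] at hfinal
  by_contra hne
  obtain ⟨m', hm'⟩ : ∃ m', m = m' + 2 := ⟨m - 2, by omega⟩
  rw [hm'] at hfinal
  have e3 : m' + 2 - 1 = m' + 1 := by omega
  rw [e3] at hfinal
  have e4 : (2 * i + 4) * (m' + 2) = (2 * i + 4) + (m' + 1) * (2 * i + 3) + (m' + 1) := by ring
  omega

/-- the main structural result on the Sylow `p`-subgroups. -/
theorem CIIp.main [Finite G] (d : CIIp t s K D k u p) (Q : Sylow p G) :
    (∀ x ∈ (Q : Subgroup G), ∀ y ∈ (Q : Subgroup G), x * y = y * x) ∧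
    (∀ P : Sylow p G, P ≠ Q → (Q : Subgroup G) ⊓ P = ⊥) ∧
    Nat.card ↥(Subgroup.normalizer ((Q : Subgroup G) : Set G)) = (k - 1) * (2 * k - 1) ∧
    Nat.card (Sylow p G) = 2 * k := by
  classical
  letI : Fintype G := Fintype.ofFinite G
  letI : Fintype (Sylow p G) := Fintype.ofFinite _
  have hk := d.c.hk3
  have hm := d.mA_eq_one Q
  have hcQ := d.count_Q Q Q
  obtain ⟨hcm, hν⟩ := d.count_main Q
  have hnr := d.count_nonreal Q
  have hz1 := d.one_lt_card_Zc Q
  rw [hm, one_mul] at hcQ hν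
  rw [hm] at hcm
  have hz : Nat.card ↥(Zc (Q : Subgroup G)) = 2 * k - 1 := by omega
  have hZQ : Zc (Q : Subgroup G) = Q := by
    apply Subgroup.eq_of_le_of_card_ge (Zc_le _)
    rw [hz, d.sylow_card Q]
  have hω : Nat.card (Sylow p G) = 2 * k := by
    rw [hz] at hnr
    obtain ⟨i, rfl⟩ : ∃ i, k = i + 3 := ⟨k - 3, by omega⟩
    have e1 : 2 * (i + 3) - 1 - 1 = 2 * i + 4 := by omega
    have e2 : 2 * (i + 3) - 1 = 2 * i + 5 := by omega
    rw [e2] at hnr
    have e3 : 2 * i + 5 - 1 = 2 * i + 4 := by omega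
    rw [e3] at hnr
    have e4 : (2 * i + 5) ^ 2 - 1 = (2 * (i + 3)) * (2 * i + 4) := by
      have : (2 * i + 5) ^ 2 = (2 * (i + 3)) * (2 * i + 4) + 1 := by ring
      omega
    rw [e4] at hnr
    exact (Nat.eq_of_mul_eq_mul_right (by omega) hnr).symm
  refine ⟨?_, ?_, hν, hω⟩
  · intro x hx y hy
    have hx' : x ∈ Zc (Q : Subgroup G) := by rw [hZQ]; exact hx
    rw [mem_Zc] at hx'
    exact (hx'.2 y hy).symm
  · intro P hPQ
    by_contra hcon
    apply hPQ
    set Bc := Finset.univ.filter (fun P : Sylow p G => ¬ ((Q : Subgroup G) ⊓ P = ⊥)) with hBc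
    have hBccard : Bc.card = 1 := by
      have h1 := Finset.card_filter_add_card_filter_not
        (s := (Finset.univ : Finset (Sylow p G))) (fun P : Sylow p G => (Q : Subgroup G) ⊓ P = ⊥)
      rw [← natCard_subtype, Finset.card_univ, ← Nat.card_eq_fintype_card] at h1
      rw [hBc]
      omega
    have hQBc : Q ∈ Bc := by
      rw [hBc, Finset.mem_filter]
      refine ⟨Finset.mem_univ _, ?_⟩
      rw [inf_idem]
      exact d.sylow_ne_bot Q
    have hPBc : P ∈ Bc := by
      rw [hBc, Finset.mem_filter]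
      exact ⟨Finset.mem_univ _, hcon⟩
    exact Finset.card_le_one.1 hBccard.le P hPBc Q hQBc

end ciip

end Cfsg.Agent.Lib.Helper2.Bsw2
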