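import Mathlib
import Cfsg.Agent.Lib.Helper7.BswDefs
import Cfsg.Agent.Lib.Helper2.Bsw2H

/-!
# Brauer–Suzuki–Wall, Case II endgame: `D` normalizes a Sylow `p`-subgroup; the conclusion
-/

namespace Cfsg.Agent.Lib.Helper2.Bsw2

open Cfsg.Agent.Lib.Helper7.Bsw

variable {G : Type*} [Group G]

section ciip

variable {t s : G} {K D : Subgroup G} {k : ℕ} {u : G} {p : ℕ} [hpf : Fact p.Prime]

theorem CII.even_k [Finite G] (c : CII t s K D k u) : 2 ∣ k := by
  rw [← c.hk, ← c.hyp.ht]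
  exact Subgroup.orderOf_dvd_natCard K c.hyp.htK

theorem mem_normalizer_sylow_iff (g : G) (Q : Sylow p G) :
    g ∈ Subgroup.normalizer ((Q : Subgroup G) : Set G) ↔ g • Q = Q := by
  have h1 : g ∈ Subgroup.normalizer ((Q : Subgroup G) : Set G) ↔
      g ∈ Subgroup.normalizer (Q : Set G) := Iff.rfl
  rw [h1, Sylow.smul_eq_iff_mem_normalizer]

/-- `Q ∩ N(P) = 1` for distinct Sylow subgroups. -/
theorem CIIp.inf_normalizer_eq_bot [Finite G] (d : CIIp t s K D k u p) {Q P : Sylow p G}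
    (hPQ : P ≠ Q) {x : G} (hx : x ∈ (Q : Subgroup G))
    (hxP : x ∈ Subgroup.normalizer ((P : Subgroup G) : Set G)) : x = 1 := by
  have h1 : x ∈ (Q : Subgroup G) ⊓ Subgroup.normalizer (P : Set G) := Subgroup.mem_inf.2 ⟨hx, hxP⟩
  rw [IsPGroup.inf_normalizer_sylow Q.isPGroup' P, (d.main Q).2.1 P hPQ, Subgroup.mem_bot] at h1
  exact h1

/-- `Q` is transitive on the other Sylow subgroups. -/
theorem CIIp.exists_smul_eq [Finite G] (d : CIIp t s K D k u p) {Q P1 P2 : Sylow p G}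
    (h1 : P1 ≠ Q) (h2 : P2 ≠ Q) : ∃ x ∈ (Q : Subgroup G), x • P1 = P2 := by
  have hk := d.c.hk3
  have hmem : ∀ x : ↥(Q : Subgroup G), (x : G) • P1 ≠ Q := by
    intro x hx
    apply h1
    have h3 : (x : G)⁻¹ • Q = Q := by
      rw [← mem_normalizer_sylow_iff]
      exact Subgroup.inv_mem _ (Subgroup.le_normalizer x.2)
    have h4 : (x : G)⁻¹ • ((x : G) • P1) = (x : G)⁻¹ • Q := congrArg (fun R => (x : G)⁻¹ • R) hx
    rw [inv_smul_smul] at h4
    rw [h4]
    exact h3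
  have hinj : Function.Injective (fun x : ↥(Q : Subgroup G) =>
      (⟨(x : G) • P1, hmem x⟩ : {P : Sylow p G // P ≠ Q})) := by
    intro x y hxy
    have h3 : (x : G) • P1 = (y : G) • P1 := congrArg Subtype.val hxy
    have h4 : ((y : G)⁻¹ * (x : G)) • P1 = P1 := by
      rw [mul_smul, h3, inv_smul_smul]
    have h5 : (y : G)⁻¹ * (x : G) ∈ Subgroup.normalizer ((P1 : Subgroup G) : Set G) :=
      (mem_normalizer_sylow_iff _ _).2 h4
    have h6 := d.inf_normalizer_eq_bot h1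
      (Subgroup.mul_mem _ (Subgroup.inv_mem _ y.2) x.2) h5
    apply Subtype.ext
    have := congrArg (fun z => (y : G) * z) h6
    simpa [mul_assoc] using this
  have hcard : Nat.card {P : Sylow p G // P ≠ Q} ≤ Nat.card ↥(Q : Subgroup G) := by
    classical
    letI : Fintype (Sylow p G) := Fintype.ofFinite _
    rw [d.sylow_card Q, Nat.card_eq_fintype_card, Fintype.card_subtype_compl,
      Fintype.card_subtype_eq, ← Nat.card_eq_fintype_card, (d.main Q).2.2.2]
  obtain ⟨x, hx⟩ := (hinj.bijective_of_nat_card_le hcard).2 ⟨P2, h2⟩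
  exact ⟨(x : G), x.2, congrArg Subtype.val hx⟩

/-- an element of `D \ 1` normalizing `Q` fixes at most one further Sylow subgroup. -/
theorem CIIp.fix_unique [Finite G] (d : CIIp t s K D k u p) {Q P1 P2 : Sylow p G} {w : G}
    (hwD : w ∈ D) (hw1 : w ≠ 1) (hwQ : w • Q = Q) (h1 : P1 ≠ Q) (h2 : P2 ≠ Q)
    (hw1' : w • P1 = P1) (hw2 : w • P2 = P2) : P1 = P2 := by
  obtain ⟨x, hxQ, hx⟩ := d.exists_smul_eq h1 h2
  have h3 : (x⁻¹ * w * x) • P1 = P1 := by
    rw [mul_smul, mul_smul, hx, hw2, ← hx, inv_smul_smul]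
  have h4 : (w⁻¹ * (x⁻¹ * w * x)) • P1 = P1 := by
    rw [mul_smul, h3]
    nth_rewrite 1 [← hw1']
    rw [inv_smul_smul]
  have h5 : w⁻¹ * (x⁻¹ * w * x) ∈ (Q : Subgroup G) := by
    have e : w⁻¹ * (x⁻¹ * w * x) = (w⁻¹ * x⁻¹ * w⁻¹⁻¹) * x := by group
    rw [e]
    apply Subgroup.mul_mem _ _ hxQ
    have hwN : w⁻¹ ∈ Subgroup.normalizer ((Q : Subgroup G) : Set G) :=
      Subgroup.inv_mem _ ((mem_normalizer_sylow_iff _ _).2 hwQ)
    rw [Subgroup.mem_normalizer_iff] at hwN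
    exact (hwN _).1 (Subgroup.inv_mem _ hxQ)
  have h6 := d.inf_normalizer_eq_bot h1 h5 ((mem_normalizer_sylow_iff _ _).2 h4)
  have hcomm : x * w = w * x := by
    have := congrArg (fun z => x * w * z) h6
    rw [show x * w * (w⁻¹ * (x⁻¹ * w * x)) = w * x by group, mul_one] at this
    exact this.symm
  have hxD : x ∈ D := by
    rw [← d.c.hCD w hwD hw1, Subgroup.mem_centralizer_singleton_iff]
    exact hcomm
  have hx1 : x = 1 := d.eq_one_of_real Q hxQ (d.c.D_real hxD)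
  rw [hx1, one_smul] at hx
  exact hx

/-- `D` normalizes `Q` as soon as one nontrivial element of `D` does. -/
theorem CIIp.D_le_normalizer [Finite G] (d : CIIp t s K D k u p) {Q : Sylow p G} {w : G}
    (hwD : w ∈ D) (hw1 : w ≠ 1) (hwQ : w • Q = Q) :
    D ≤ Subgroup.normalizer ((Q : Subgroup G) : Set G) := by
  intro e he
  rw [mem_normalizer_sylow_iff]
  by_contra hne
  have hfix : ∀ f ∈ D, w • (f • Q) = f • Q := by
    intro f hf
    have h1 : w * f = f * w := d.c.D_comm w hwD f hf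
    rw [← mul_smul, h1, mul_smul, hwQ]
  have hne' : e⁻¹ • Q ≠ Q := by
    intro h
    apply hne
    nth_rewrite 1 [← h]
    rw [smul_inv_smul]
  have h3 := d.fix_unique hwD hw1 hwQ hne hne' (hfix e he) (hfix e⁻¹ (D.inv_mem he))
  -- e • Q = e⁻¹ • Q, so e² normalizes Q
  have h4 : (e * e) • Q = Q := by
    rw [mul_smul, h3, smul_inv_smul]
  -- e has odd order
  have hodd : ¬ 2 ∣ orderOf e := by
    intro h2
    have h5 : orderOf e ∣ k - 1 := by
      rw [← d.c.hD]; exact Subgroup.orderOf_dvd_natCard D he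
    have h6 := d.c.even_k
    have hk := d.c.hk3
    have h7 : 2 ∣ k - 1 := h2.trans h5
    omega
  obtain ⟨j, hj⟩ : ∃ j, orderOf e + 1 = 2 * j := by
    have : orderOf e % 2 = 1 := by omega
    exact ⟨(orderOf e + 1) / 2, by omega⟩
  have h8 : e = (e * e) ^ j := by
    rw [← pow_two, ← pow_mul, ← hj, pow_succ, pow_orderOf_eq_one, one_mul]
  have h9 : e ∈ Subgroup.normalizer ((Q : Subgroup G) : Set G) := by
    rw [h8]
    exact Subgroup.pow_mem _ ((mem_normalizer_sylow_iff _ _).2 h4) j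
  exact hne ((mem_normalizer_sylow_iff _ _).1 h9)

/-- some Sylow `p`-subgroup is normalized by a nontrivial element of `D`. -/
theorem CIIp.exists_sylow_fixed [Finite G] (d : CIIp t s K D k u p) :
    ∃ Q : Sylow p G, ∃ w ∈ D, w ≠ 1 ∧ w • Q = Q := by
  have hk := d.c.hk3
  obtain ⟨Q0⟩ : Nonempty (Sylow p G) := inferInstance
  obtain ⟨r, hr, hrk⟩ := Nat.exists_prime_and_dvd (show k - 1 ≠ 1 by omega)
  haveI : Fact r.Prime := ⟨hr⟩
  have hcard := (d.main Q0).2.2.1
  have hrN : r ∣ Nat.card ↥(Subgroup.normalizer ((Q0 : Subgroup G) : Set G)) := by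
    rw [hcard]; exact dvd_mul_of_dvd_left hrk _
  obtain ⟨w0, hw0⟩ := exists_prime_orderOf_dvd_card' r hrN
  have hw : orderOf (w0 : G) = r := by rw [Subgroup.orderOf_coe, hw0]
  have hw1 : (w0 : G) ≠ 1 := by
    intro h
    rw [h, orderOf_one] at hw
    exact hr.one_lt.ne hw
  have hreal : IsRealElt (w0 : G) := by
    by_contra hnr
    have h1 := d.hord _ hnr
    rw [hw] at h1
    apply d.not_dvd
    rw [← h1]
    exact dvd_mul_of_dvd_right hrk _
  rcases d.c.hreal _ hw1 hreal with ⟨a, ha⟩ | ⟨a, ha⟩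
  · exfalso
    have h1 : r ∣ k := by
      rw [← hw, ← orderOf_conj_eq a, ← d.c.hk]
      exact Subgroup.orderOf_dvd_natCard K ha
    have h2 := Nat.dvd_sub h1 hrk
    have : k - (k - 1) = 1 := by omega
    rw [this] at h2
    exact hr.one_lt.ne' (Nat.dvd_one.1 h2)
  · refine ⟨a • Q0, a * (w0 : G) * a⁻¹, ha, ?_, ?_⟩
    · intro h
      apply hw1
      have := congrArg (fun z => a⁻¹ * z * a) h
      simpa [mul_assoc] using this
    · have h1 : (w0 : G) • Q0 = Q0 := (mem_normalizer_sylow_iff _ _).1 w0.2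
      rw [← mul_smul]
      have e : a * (w0 : G) * a⁻¹ * a = a * (w0 : G) := by group
      rw [e, mul_smul, h1]

end ciip

end Cfsg.Agent.Lib.Helper2.Bsw2
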