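import Mathlib
import Cfsg.Agent.Lib.Helper7.BswDefs
import Cfsg.Agent.Lib.Helper2.Bsw2I

/-!
# Brauer–Suzuki–Wall, Case II endgame: the final statement `caseII`
-/

namespace Cfsg.Agent.Lib.Helper2.Bsw2

open Cfsg.Agent.Lib.Helper7.Bsw

variable {G : Type*} [Group G]

section ciip

variable {t s : G} {K D : Subgroup G} {k : ℕ} {u : G} {p : ℕ} [hpf : Fact p.Prime]

/-- `N(D)` normalizes every subgroup of `D`. -/
theorem CII.conj_mem_of_le (c : CII t s K D k u) {X : Subgroup G} (hXD : X ≤ D) {g : G}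
    (hg : g ∈ Subgroup.normalizer (D : Set G)) {x : G} (hx : x ∈ X) : g * x * g⁻¹ ∈ X := by
  rcases (c.mem_ND_iff g).1 hg with h1 | h1
  · have h2 := c.D_comm g h1 x (hXD hx)
    rw [h2]
    have : x * g * g⁻¹ = x := by group
    rw [this]; exact hx
  · have hu := c.u_mul_u
    have huinv : u⁻¹ = u := inv_eq_of_mul_eq_one_right hu
    have h2 := c.huD x (hXD hx)
    have h3 : u⁻¹ * x * u = x⁻¹ := by
      rw [huinv] at h2 ⊢; exact h2
    have h4 : g * x * g⁻¹ = (g * u) * (u⁻¹ * x * u) * (g * u)⁻¹ := by group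
    rw [h4, h3]
    have h5 := c.D_comm (g * u) h1 x⁻¹ (D.inv_mem (hXD hx))
    rw [h5]
    have : x⁻¹ * (g * u) * (g * u)⁻¹ = x⁻¹ := by group
    rw [this]; exact X.inv_mem hx

theorem CII.normalizer_eq (c : CII t s K D k u) {X : Subgroup G} (hXD : X ≤ D) (hX : X ≠ ⊥) :
    Subgroup.normalizer (X : Set G) = Subgroup.normalizer (D : Set G) := by
  apply le_antisymm
  · intro g hg
    obtain ⟨x, hx, hx1⟩ : ∃ x ∈ X, x ≠ 1 := by
      by_contra hcon
      push_neg at hcon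
      apply hX
      rw [eq_bot_iff]
      intro x hx
      rw [Subgroup.mem_bot]; exact hcon x hx
    by_contra hgN
    rw [Subgroup.mem_normalizer_iff] at hg
    have h1 : g * x * g⁻¹ ∈ X := (hg x).1 hx
    exact hx1 (c.ti_D hgN (hXD hx) (hXD h1))
  · intro g hg
    rw [Subgroup.mem_normalizer_iff]
    intro x
    constructor
    · intro hx
      exact c.conj_mem_of_le hXD hg hx
    · intro hx
      have h1 := c.conj_mem_of_le hXD (Subgroup.inv_mem _ hg) hx
      have e : g⁻¹ * (g * x * g⁻¹) * g⁻¹⁻¹ = x := by group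
      rw [e] at h1
      exact h1

theorem CIIp.concl [Finite G] (d : CIIp t s K D k u p) : Concl G := by
  have hk := d.c.hk3
  obtain ⟨Q, w, hwD, hw1, hwQ⟩ := d.exists_sylow_fixed
  obtain ⟨hab, hTI, hNcard, hω⟩ := d.main Q
  have hDN := d.D_le_normalizer hwD hw1 hwQ
  have hQcard := d.sylow_card Q
  have hinf : (Q : Subgroup G) ⊓ D = ⊥ := by
    rw [eq_bot_iff]
    intro x hx
    rw [Subgroup.mem_inf] at hx
    rw [Subgroup.mem_bot]
    exact d.eq_one_of_real Q hx.1 (d.c.D_real hx.2)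
  have hsup : Subgroup.normalizer ((Q : Subgroup G) : Set G) = (Q : Subgroup G) ⊔ D := by
    symm
    apply Subgroup.eq_of_le_of_card_ge (sup_le Subgroup.le_normalizer hDN)
    rw [hNcard]
    have h1 : Nat.card ↥(Q : Subgroup G) ∣ Nat.card ↥((Q : Subgroup G) ⊔ D) :=
      Subgroup.card_dvd_of_le le_sup_left
    have h2 : Nat.card ↥D ∣ Nat.card ↥((Q : Subgroup G) ⊔ D) :=
      Subgroup.card_dvd_of_le le_sup_right
    rw [hQcard] at h1
    rw [d.c.hD] at h2
    have hcop : Nat.Coprime (k - 1) (2 * k - 1) := by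
      obtain ⟨j, rfl⟩ : ∃ j, k = j + 1 := ⟨k - 1, by omega⟩
      have e1 : j + 1 - 1 = j := by omega
      have e2 : 2 * (j + 1) - 1 = j * 2 + 1 := by omega
      rw [e1, e2]
      simp
    have h3 := hcop.mul_dvd_of_dvd_of_dvd h2 h1
    exact Nat.le_of_dvd Nat.card_pos h3
  refine ⟨(Q : Subgroup G), D, ?_, ?_, ?_, ?_, hinf, hsup, ?_⟩
  · rw [hQcard, d.c.hG]
    obtain ⟨i, rfl⟩ : ∃ i, k = i + 3 := ⟨k - 3, by omega⟩
    have e1 : i + 3 - 1 = i + 2 := by omega
    have e2 : 2 * (i + 3) - 1 = 2 * i + 5 := by omega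
    rw [e1, e2]
    have e3 : 2 * i + 5 - 1 = 2 * i + 4 := by omega
    rw [e3]
    ring
  · intro x hx hx1
    symm
    apply d.sylow_eq_centralizer Q _ hx1
    rw [mem_Zc]
    exact ⟨hx, fun y hy => hab y hy x hx⟩
  · rw [isMulCommutative_iff]
    intro a b
    exact Subtype.ext (d.c.D_comm a a.2 b b.2)
  · rw [hQcard, d.c.hD]; omega
  · intro X hXD hX
    refine ⟨d.c.normalizer_eq hXD hX, u, d.c.hu, d.c.u_not_mem, d.c.huD, d.c.hND⟩

end ciip

/-- **Case II endgame of the abstract Brauer–Suzuki–Wall theorem.** -/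
theorem caseII {G : Type*} [Group G] [Finite G] {t s : G} {K : Subgroup G} (h : Hyp t K s)
    (k : ℕ) (hk : Nat.card K = k) (hk3 : 3 ≤ k)
    (hG : Nat.card G = 2 * k * (k - 1) * (2 * k - 1))
    (D : Subgroup G) (hD : Nat.card D = k - 1)
    (hCD : ∀ d ∈ D, d ≠ 1 → Subgroup.centralizer ({d} : Set G) = D)
    (u : G) (hu : orderOf u = 2) (huD : ∀ d ∈ D, u * d * u⁻¹ = d⁻¹)
    (hND : Subgroup.normalizer (D : Set G) = D ⊔ Subgroup.zpowers u)
    (hreal : ∀ g : G, g ≠ 1 → IsRealElt g → ConjK K g ∨ ∃ a, a * g * a⁻¹ ∈ D) :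
    Concl G := by
  have c : CII t s K D k u := ⟨h, hk, hk3, hG, hD, hCD, hu, huD, hND, hreal⟩
  obtain ⟨p, d⟩ := c.exists_CIIp
  haveI : Fact p.Prime := ⟨d.hp⟩
  exact d.concl

end Cfsg.Agent.Lib.Helper2.Bsw2
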