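import Mathlib
import Cfsg.Agent.Lib.Helper1.NormalPComplement
import Cfsg.Agent.Lib.Helper2.SylowNormal

set_option autoImplicit false

namespace Cfsg.Agent.Lib.Helper2.ConjCover

variable {G : Type*} [Group G]

/-- the non-identity elements conjugate into `H` -/
def conjSet (H : Subgroup G) : Set G := {x | x ≠ 1 ∧ ∃ g : G, g * x * g⁻¹ ∈ H}

theorem card_ne_one (H : Subgroup G) [Finite H] : Nat.card {h : H // h ≠ 1} + 1 = Nat.card H := by
  classical
  rw [← Finite.card_option]
  exact Nat.card_congr (Equiv.optionSubtypeNe (1 : H))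

theorem ncard_conjSet_le [Finite G] (H : Subgroup G) :
    (conjSet H).ncard ≤ (Subgroup.normalizer (H : Set G)).index * (Nat.card H - 1) := by
  classical
  obtain ⟨N, hN⟩ : ∃ N : Subgroup G, N = Subgroup.normalizer (H : Set G) := ⟨_, rfl⟩
  rw [← hN]
  let r : (G ⧸ N) × {h : H // h ≠ 1} → G := fun z => z.1.out * (z.2.1 : G) * (z.1.out)⁻¹
  have hsub : conjSet H ⊆ Set.range r := by
    rintro x ⟨hx1, g, hg⟩
    obtain ⟨n, hn⟩ := QuotientGroup.mk_out_eq_mul N g⁻¹
    have hm : (n : G)⁻¹ ∈ Subgroup.normalizer (H : Set G) := by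
      rw [← hN]; exact N.inv_mem n.2
    have hmem : (n : G)⁻¹ * (g * x * g⁻¹) * ((n : G)⁻¹)⁻¹ ∈ H :=
      (Subgroup.mem_normalizer_iff.1 hm (g * x * g⁻¹)).1 hg
    have hne : (⟨(n : G)⁻¹ * (g * x * g⁻¹) * ((n : G)⁻¹)⁻¹, hmem⟩ : H) ≠ 1 := by
      intro h
      apply hx1
      have h' : (n : G)⁻¹ * (g * x * g⁻¹) * ((n : G)⁻¹)⁻¹ = 1 := congrArg Subtype.val h
      have h2 : g * x * g⁻¹ = 1 := conj_eq_one_iff.1 h'
      exact conj_eq_one_iff.1 h2
    refine ⟨((QuotientGroup.mk g⁻¹ : G ⧸ N), ⟨⟨_, hmem⟩, hne⟩), ?_⟩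
    show (QuotientGroup.mk g⁻¹ : G ⧸ N).out * ((n : G)⁻¹ * (g * x * g⁻¹) * ((n : G)⁻¹)⁻¹) *
      ((QuotientGroup.mk g⁻¹ : G ⧸ N).out)⁻¹ = x
    rw [hn]; group
  calc (conjSet H).ncard ≤ (Set.range r).ncard := Set.ncard_le_ncard hsub (Set.toFinite _)
    _ ≤ Nat.card ((G ⧸ N) × {h : H // h ≠ 1}) := by
        rw [← Set.image_univ]
        refine (Set.ncard_image_le (Set.toFinite _)).trans ?_
        rw [Set.ncard_univ]
    _ = N.index * (Nat.card H - 1) := by
        rw [Nat.card_prod, ← Subgroup.index_eq_card, ← card_ne_one H]; simp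

theorem two_mul_ncard_conjSet_add_two_le [Finite G] (H : Subgroup G)
    (hne : Subgroup.normalizer (H : Set G) ≠ H) :
    2 * (conjSet H).ncard + 2 ≤ Nat.card G := by
  have h1 := ncard_conjSet_le H
  obtain ⟨N, hN⟩ : ∃ N : Subgroup G, N = Subgroup.normalizer (H : Set G) := ⟨_, rfl⟩
  rw [← hN] at h1 hne
  have hle : H ≤ N := hN ▸ Subgroup.le_normalizer
  have hdvd : Nat.card H ∣ Nat.card N := Subgroup.card_dvd_of_le hle
  have hcard : Nat.card N * N.index = Nat.card G := N.card_mul_index
  have hHpos : 0 < Nat.card H := Nat.card_pos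
  have hNpos : 0 < Nat.card N := Nat.card_pos
  have hipos : 0 < N.index := Nat.pos_of_ne_zero Subgroup.index_ne_zero_of_finite
  have hneq : Nat.card N ≠ Nat.card H := by
    intro h
    apply hne
    exact (Subgroup.eq_of_le_of_card_ge hle (le_of_eq h)).symm
  obtain ⟨k, hk⟩ := hdvd
  have hk2 : 2 ≤ k := by
    rcases k with _ | _ | k
    · simp at hk; omega
    · simp at hk; exact absurd hk hneq
    · omega
  have h3 : 2 * (N.index * Nat.card H) ≤ Nat.card G := by
    rw [← hcard, hk]
    calc 2 * (N.index * Nat.card H) = Nat.card H * 2 * N.index := by ring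
      _ ≤ Nat.card H * k * N.index := by gcongr
  have h2 : N.index * (Nat.card H - 1) + N.index = N.index * Nat.card H := by
    rw [← Nat.mul_succ]; congr 1; omega
  omega

/-- If every non-identity element is conjugate into `A` or into `B`, one of them is self-normalizing. -/
theorem self_normalizing_of_cover [Finite G] (A B : Subgroup G)
    (hcov : ∀ x : G, x ≠ 1 → x ∈ conjSet A ∨ x ∈ conjSet B) :
    Subgroup.normalizer (A : Set G) = A ∨ Subgroup.normalizer (B : Set G) = B := by
  by_contra hcon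
  push Not at hcon
  have hA2 := two_mul_ncard_conjSet_add_two_le A hcon.1
  have hB2 := two_mul_ncard_conjSet_add_two_le B hcon.2
  have huniv : (Set.univ : Set G) ⊆ ({1} ∪ conjSet A) ∪ conjSet B := by
    intro x _
    by_cases hx1 : x = 1
    · left; left; exact hx1
    · rcases hcov x hx1 with h | h
      · left; right; exact h
      · right; exact h
  have hc : Nat.card G ≤ 1 + (conjSet A).ncard + (conjSet B).ncard := by
    calc Nat.card G = (Set.univ : Set G).ncard := (Set.ncard_univ G).symm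
      _ ≤ (({1} ∪ conjSet A) ∪ conjSet B).ncard := Set.ncard_le_ncard huniv (Set.toFinite _)
      _ ≤ ({1} ∪ conjSet A).ncard + (conjSet B).ncard := Set.ncard_union_le _ _
      _ ≤ (({1} : Set G).ncard + (conjSet A).ncard) + (conjSet B).ncard := by
          gcongr; exact Set.ncard_union_le _ _
      _ = 1 + (conjSet A).ncard + (conjSet B).ncard := by rw [Set.ncard_singleton]
  omega

/-- an element whose class size is prime to `p` is conjugate into `C_G(P)` -/
theorem mem_conjSet_centralizer_of_not_dvd [Finite G] {p : ℕ} [Fact p.Prime] (P : Sylow p G)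
    (x : G) (hx1 : x ≠ 1) (h1 : ¬ p ∣ (Subgroup.centralizer ({x} : Set G)).index) :
    x ∈ conjSet (Subgroup.centralizer ((P : Subgroup G) : Set G)) := by
  obtain ⟨g, hg⟩ := Cfsg.Agent.Lib.Helper2.exists_conj_le_of_not_dvd_index P.2 h1
  refine ⟨hx1, g, ?_⟩
  rw [Subgroup.mem_centralizer_iff]
  intro y hy
  have h2 := hg y hy
  rw [Subgroup.mem_centralizer_iff] at h2
  have h3 := h2 x (Set.mem_singleton x)
  calc y * (g * x * g⁻¹) = g * (g⁻¹ * y * g * x) * g⁻¹ := by group
    _ = g * (x * (g⁻¹ * y * g)) * g⁻¹ := by rw [h3]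
    _ = g * x * g⁻¹ * y := by group

/-- `N_G(P)` normalizes `C_G(P)`. -/
theorem conj_mem_centralizer_of_mem_normalizer (P : Subgroup G) {g c : G}
    (hg : g ∈ Subgroup.normalizer (P : Set G)) (hc : c ∈ Subgroup.centralizer (P : Set G)) :
    g * c * g⁻¹ ∈ Subgroup.centralizer (P : Set G) := by
  rw [Subgroup.mem_centralizer_iff] at hc ⊢
  intro y hy
  have hy' : g⁻¹ * y * g ∈ P := by
    have := (Subgroup.mem_normalizer_iff.1 (Subgroup.inv_mem _ hg) y).1 hy
    simpa using this
  have h3 := hc _ hy'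
  calc y * (g * c * g⁻¹) = g * (g⁻¹ * y * g * c) * g⁻¹ := by group
    _ = g * (c * (g⁻¹ * y * g)) * g⁻¹ := by rw [h3]
    _ = g * c * g⁻¹ * y := by group

/-- Burnside: if `C_G(P)` is self-normalizing then `G` has a normal `p`-complement. -/
theorem npc_of_self_normalizing [Finite G] {p : ℕ} [Fact p.Prime] (P : Sylow p G)
    (hk : Subgroup.normalizer ((Subgroup.centralizer ((P : Subgroup G) : Set G) : Subgroup G) : Set G)
      = Subgroup.centralizer ((P : Subgroup G) : Set G)) :
    Cfsg.HasNormalPComplement p G := by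
  apply Cfsg.Agent.Lib.Helper1.hasNormalPComplement_of_normalizer_le_centralizer P
  intro g hg
  have : g ∈ Subgroup.normalizer
      ((Subgroup.centralizer ((P : Subgroup G) : Set G) : Subgroup G) : Set G) := by
    rw [Subgroup.mem_normalizer_iff]
    intro c
    constructor
    · intro hc
      exact conj_mem_centralizer_of_mem_normalizer (P : Subgroup G) hg hc
    · intro hc
      have := conj_mem_centralizer_of_mem_normalizer (P : Subgroup G) (Subgroup.inv_mem _ hg) hc
      simpa [mul_assoc] using this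
  rw [hk] at this
  exact this

end Cfsg.Agent.Lib.Helper2.ConjCover
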