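import Mathlib
import Cfsg.Prelude
import Cfsg.Agent.Lib.Helper1.OMMInst
import Cfsg.Agent.Lib.Helper5.OMMLevi

set_option autoImplicit false
set_option linter.unusedSectionVars false
set_option linter.unusedVariables false
set_option linter.style.haveILetI false
open Cfsg

/-!
Farm OMM (statement S2346), common definitions of the coordinator (helper2).

The tower: `Qc` (the core, on `κ → F`), `W' = hypExt Qc` (pair `e₃, f₃`), `W = hypExt W'` (pair
`e₂, f₂`), `V = hypExt W` (pair `e₁, f₁`), `G = Ω(V)`.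

* `uE H x = eich V e₁ (ext0 x)` (`x ∈ W`): the unipotent radical `U` (helper1, `OMMInst`), data `DD`;
* `uM H x = eich V f₁ (ext0 x)` (`x ∈ W`): the opposite radical `U⁻`, data `DM`;
* `uP H z = eich V e₂ (ext0 (ext0 z))` (`z ∈ W'`): the group `U'`, data `DP`;
* `tE H = uP H e₃ = eich V e₂ e₃`.
-/

namespace Cfsg.Agent.Lib.Helper2.OMM

open Matrix QuadraticMap Cfsg.Agent.Lib.Helper5.CartanDieudonne Cfsg.Agent.Lib.Helper5.Refl
  Cfsg.Agent.Lib.Helper5.OrthCard Cfsg.Agent.Lib.Helper5.Siegel Cfsg.Agent.Lib.Helper5.QuadIsom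
  Cfsg.Agent.Lib.Helper5.ReflGen Cfsg.Agent.Lib.Helper5.Eichler Cfsg.Agent.Lib.Helper5.SingGeom
  Cfsg.Agent.Lib.Helper5.OmegaGen Cfsg.Agent.Lib.Helper5.OmegaSimple Cfsg.Agent.Lib.Helper1.OMMG
  Cfsg.Agent.Lib.Helper1.OMMI

variable {F : Type*} [Field F] [Fintype F] [DecidableEq F]

section general
variable {ι : Type} [Fintype ι] [DecidableEq ι] {Q : QuadraticForm F (ι → F)}

/-- an Eichler transformation as an element of `Ω` -/
noncomputable def eO (H : Hyp Q) (p z : ι → F) (hp : Q p = 0) (hpz : polar ⇑Q p z = 0) :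
    ↥(Omega F ⇑Q) :=
  ⟨eich Q p z hp hpz, eich_mem_Omega H p z hp hpz⟩

theorem eO_coe (H : Hyp Q) (p z : ι → F) (hp : Q p = 0) (hpz : polar ⇑Q p z = 0) :
    (eO H p z hp hpz).1 = eich Q p z hp hpz := rfl

theorem eO_add (H : Hyp Q) (p z z' : ι → F) (hp : Q p = 0) (hpz : polar ⇑Q p z = 0)
    (hpz' : polar ⇑Q p z' = 0) (hs : polar ⇑Q p (z + z') = 0) :
    eO H p (z + z') hp hs = eO H p z hp hpz * eO H p z' hp hpz' := by
  apply Subtype.ext
  rw [Subgroup.coe_mul, eO_coe, eO_coe, eO_coe, eich_mul]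

theorem eO_congr (H : Hyp Q) {p p' z z' : ι → F} (h1 : p = p') (h2 : z = z') (hp : Q p = 0)
    (hpz : polar ⇑Q p z = 0) (hp' : Q p' = 0) (hpz' : polar ⇑Q p' z' = 0) :
    eO H p z hp hpz = eO H p' z' hp' hpz' := by
  subst h1; subst h2; rfl

end general

variable {κ : Type} [Fintype κ] [DecidableEq κ] (Qc : QuadraticForm F (κ → F))

/-- index type of `W'` -/
abbrev K1 (κ : Type) : Type := Fin 2 ⊕ κ
/-- index type of `W` -/
abbrev K2 (κ : Type) : Type := Fin 2 ⊕ (Fin 2 ⊕ κ)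
/-- index type of `V` -/
abbrev K3 (κ : Type) : Type := Fin 2 ⊕ (Fin 2 ⊕ (Fin 2 ⊕ κ))

/-- `W'` -/
noncomputable abbrev Q1 : QuadraticForm F (K1 κ → F) := hypExt Qc
/-- `W` -/
noncomputable abbrev Q2 : QuadraticForm F (K2 κ → F) := hypExt (hypExt Qc)
/-- `V` -/
noncomputable abbrev Q3 : QuadraticForm F (K3 κ → F) := hypExt (hypExt (hypExt Qc))

/-- the group `G = Ω(V)` -/
abbrev GG : Type _ := ↥(Omega F ⇑(Q3 Qc))

theorem nd1 (hnd : (polarBilin Qc).Nondegenerate) : (polarBilin (Q1 Qc)).Nondegenerate :=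
  hypExt_nondegenerate Qc hnd

theorem nd2 (hnd : (polarBilin Qc).Nondegenerate) : (polarBilin (Q2 Qc)).Nondegenerate :=
  hypExt_nondegenerate _ (nd1 Qc hnd)

theorem nd3 (hnd : (polarBilin Qc).Nondegenerate) : (polarBilin (Q3 Qc)).Nondegenerate :=
  hypExt_nondegenerate _ (nd2 Qc hnd)

/-! ### the standard vectors of `V` -/

/-- `e₁ ∈ V` -/
abbrev e1 (F : Type*) [Field F] (κ : Type) [DecidableEq κ] : K3 κ → F := eH F (K2 κ)
/-- `f₁ ∈ V` -/
abbrev f1 (F : Type*) [Field F] (κ : Type) [DecidableEq κ] : K3 κ → F := fH F (K2 κ)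
/-- `e₂ ∈ V` -/
abbrev e2 (F : Type*) [Field F] (κ : Type) [DecidableEq κ] : K3 κ → F := ext0 (eH F (K1 κ))
/-- `f₂ ∈ V` -/
abbrev f2 (F : Type*) [Field F] (κ : Type) [DecidableEq κ] : K3 κ → F := ext0 (fH F (K1 κ))
/-- `e₃ ∈ V` -/
abbrev e3 (F : Type*) [Field F] (κ : Type) [DecidableEq κ] : K3 κ → F := ext0 (ext0 (eH F κ))
/-- `f₃ ∈ V` -/
abbrev f3 (F : Type*) [Field F] (κ : Type) [DecidableEq κ] : K3 κ → F := ext0 (ext0 (fH F κ))
/-- the embedding `W'' → V` -/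
abbrev em3 (b : κ → F) : K3 κ → F := ext0 (ext0 (ext0 b))
/-- the embedding `W' → V` -/
abbrev em2 (z : K1 κ → F) : K3 κ → F := ext0 (ext0 z)

theorem Q3_e2 : Q3 Qc (e2 F κ) = 0 := by
  show hypExt (hypExt (hypExt Qc)) (ext0 (eH F (K1 κ))) = 0
  rw [hypExt_ext0, hypExt_eH]

theorem polar_e2_em2 (z : K1 κ → F) : polar ⇑(Q3 Qc) (e2 F κ) (em2 z) = 0 := by
  show polar ⇑(hypExt (hypExt (hypExt Qc))) (ext0 (eH F (K1 κ))) (ext0 (ext0 z)) = 0
  rw [Cfsg.Agent.Lib.Helper5.OMMLevi.polar_ext0_ext0, Cfsg.Agent.Lib.Helper1.OMMI.polar_eH_ext0]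

theorem polar_f1_ext0 (x : K2 κ → F) : polar ⇑(Q3 Qc) (f1 F κ) (ext0 x) = 0 :=
  Cfsg.Agent.Lib.Helper5.OMMLevi.polar_fH_ext0 _ x

variable {Qc}

/-! ### the three abelian groups -/

/-- the opposite radical `U⁻ = {eich V f₁ (ext0 x)}` -/
noncomputable def uM (H : Hyp (Q3 Qc)) (x : K2 κ → F) : GG Qc :=
  eO H (f1 F κ) (ext0 x) (hypExt_fH _) (polar_f1_ext0 Qc x)

/-- the group `U' = {eich V e₂ (ext0 (ext0 z))}`, `z ∈ W'` -/
noncomputable def uP (H : Hyp (Q3 Qc)) (z : K1 κ → F) : GG Qc :=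
  eO H (e2 F κ) (em2 z) (Q3_e2 Qc) (polar_e2_em2 Qc z)

/-- the long root element `t = eich V e₂ e₃` of the Levi factor -/
noncomputable def tE (H : Hyp (Q3 Qc)) : GG Qc := uP H (eH F κ)

theorem uM_add (H : Hyp (Q3 Qc)) (x y : K2 κ → F) : uM H (x + y) = uM H x * uM H y := by
  unfold uM
  rw [← eO_add H (f1 F κ) (ext0 x) (ext0 y) (hypExt_fH _) (polar_f1_ext0 Qc x) (polar_f1_ext0 Qc y)
    (by rw [polar_add_right, polar_f1_ext0, polar_f1_ext0, add_zero])]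
  exact eO_congr H rfl (Cfsg.Agent.Lib.Helper1.OMMI.ext0_add x y) _ _ _ _

theorem uP_add (H : Hyp (Q3 Qc)) (z z' : K1 κ → F) : uP H (z + z') = uP H z * uP H z' := by
  unfold uP
  rw [← eO_add H (e2 F κ) (em2 z) (em2 z') (Q3_e2 Qc) (polar_e2_em2 Qc z) (polar_e2_em2 Qc z')
    (by rw [polar_add_right, polar_e2_em2, polar_e2_em2, add_zero])]
  refine eO_congr H rfl ?_ _ _ _ _
  show ext0 (ext0 (z + z')) = ext0 (ext0 z) + ext0 (ext0 z')
  rw [Cfsg.Agent.Lib.Helper1.OMMI.ext0_add, Cfsg.Agent.Lib.Helper1.OMMI.ext0_add]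

/-- the Fourier data attached to an additive family `u : (κ' → F) → G` and a nondegenerate form -/
noncomputable def mkD {G : Type*} [Group G] {κ' : Type} [Fintype κ'] [DecidableEq κ']
    (ψ : AddChar F ℂ) (hψ : ∃ c, ψ c ≠ 1) (Q' : QuadraticForm F (κ' → F))
    (hnd : (polarBilin Q').Nondegenerate) (u : (κ' → F) → G)
    (u_add : ∀ a b, u (a + b) = u a * u b) : FData G (κ' → F) (κ' → F) :=
  FData.ofPairing ψ hψ u u_add (fun w a => polar Q' w a)
    (fun w a b => polar_add_right _ _ _ _)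
    (fun w c a => by rw [polar_smul_right, smul_eq_mul])
    (fun w w' a => polar_add_left _ _ _ _)
    (fun c w a => by rw [polar_smul_left, smul_eq_mul])
    (fun w hw => by
      by_contra hcon
      push Not at hcon
      apply hw
      have h1 := hnd.1
      exact h1 w (fun a => by rw [polarBilin_apply_apply]; exact hcon a))
    (fun a ha => by
      by_contra hcon
      push Not at hcon
      apply ha
      have h1 := hnd.1
      exact h1 a (fun w => by rw [polarBilin_apply_apply, polar_comm]; exact hcon w))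

theorem mkD_lam {G : Type*} [Group G] {κ' : Type} [Fintype κ'] [DecidableEq κ']
    (ψ : AddChar F ℂ) (hψ : ∃ c, ψ c ≠ 1) (Q' : QuadraticForm F (κ' → F))
    (hnd : (polarBilin Q').Nondegenerate) (u : (κ' → F) → G)
    (u_add : ∀ a b, u (a + b) = u a * u b) (w a : κ' → F) :
    (mkD ψ hψ Q' hnd u u_add).lam w a = ψ (polar Q' w a) := rfl

theorem mkD_u {G : Type*} [Group G] {κ' : Type} [Fintype κ'] [DecidableEq κ']
    (ψ : AddChar F ℂ) (hψ : ∃ c, ψ c ≠ 1) (Q' : QuadraticForm F (κ' → F))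
    (hnd : (polarBilin Q').Nondegenerate) (u : (κ' → F) → G)
    (u_add : ∀ a b, u (a + b) = u a * u b) (a : κ' → F) :
    (mkD ψ hψ Q' hnd u u_add).u a = u a := rfl

variable (ψ : AddChar F ℂ) (hψ : ∃ c, ψ c ≠ 1) (hnd : (polarBilin Qc).Nondegenerate)
  (H : Hyp (Q3 Qc))

/-- the data of `U` (this is helper1's `DD` for `Qκ = W`) -/
noncomputable def DU : FData (GG Qc) (K2 κ → F) (K2 κ → F) :=
  DD (Qκ := Q2 Qc) ψ hψ (nd2 Qc hnd) H

/-- the data of `U⁻` -/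
noncomputable def DM : FData (GG Qc) (K2 κ → F) (K2 κ → F) :=
  mkD ψ hψ (Q2 Qc) (nd2 Qc hnd) (uM H) (uM_add H)

/-- the data of `U'` -/
noncomputable def DP : FData (GG Qc) (K1 κ → F) (K1 κ → F) :=
  mkD ψ hψ (Q1 Qc) (nd1 Qc hnd) (uP H) (uP_add H)

theorem DU_lam (w a : K2 κ → F) : (DU ψ hψ hnd H).lam w a = ψ (polar (Q2 Qc) w a) := rfl
theorem DU_u (a : K2 κ → F) : (DU ψ hψ hnd H).u a = uE H a := rfl
theorem DM_lam (w a : K2 κ → F) : (DM ψ hψ hnd H).lam w a = ψ (polar (Q2 Qc) w a) := rfl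
theorem DM_u (a : K2 κ → F) : (DM ψ hψ hnd H).u a = uM H a := rfl
theorem DP_lam (w a : K1 κ → F) : (DP ψ hψ hnd H).lam w a = ψ (polar (Q1 Qc) w a) := rfl
theorem DP_u (a : K1 κ → F) : (DP ψ hψ hnd H).u a = uP H a := rfl

variable {V : Type*} [AddCommGroup V] [Module ℂ V]

/-- the multiplicity of the character `w` of `U` -/
noncomputable def mU (ρ : Representation ℂ (GG Qc) V) (w : K2 κ → F) : ℂ :=
  (DU ψ hψ hnd H).mult ρ.character w

/-- the multiplicity of the character `z'` of `U'` in the fixed points `V^U` of `U` -/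
noncomputable def mP (ρ : Representation ℂ (GG Qc) V) (z' : K1 κ → F) : ℂ :=
  LinearMap.trace ℂ V ((DU ψ hψ hnd H).eI ρ 0 * (DP ψ hψ hnd H).eI ρ z')

/-- the multiplicity-one configuration on the level set `{w ≠ 0 | Q w = c}` of `W` -/
def LevelOne (ρ : Representation ℂ (GG Qc) V) (c : F) : Prop :=
  (∀ w : K2 κ → F, w ≠ 0 → Q2 Qc w = c → mU ψ hψ hnd H ρ w = 1) ∧
    ∀ w : K2 κ → F, w ≠ 0 → Q2 Qc w ≠ c → mU ψ hψ hnd H ρ w = 0

end Cfsg.Agent.Lib.Helper2.OMM
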