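import Cfsg.Agent.Lib.Helper2.QBA4

/-! S4125 GT farm piece A5: L3. -/

set_option autoImplicit false
set_option linter.style.haveILetI false

namespace Cfsg.Agent.Lib.Helper1.QB

open Cfsg

variable {G : Type*} [Group G] [Finite G]

theorem map_central_of_ind_coprime {q : ℕ} [Fact q.Prime] (hB : Baer q G) {x : G}
    (hi : (ind x).Coprime q) :
    ∀ z ∈ pCore q (G ⧸ pPrimeCore q G),
      QuotientGroup.mk' (pPrimeCore q G) x * z = z * QuotientGroup.mk' (pPrimeCore q G) x := by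
  intro z hz
  obtain ⟨Q1, hQ1⟩ := sylow_le_centralizer_of_coprime (q := q) (x := x) hi
  rw [← map_sylow_eq hB Q1] at hz
  obtain ⟨w, hw, rfl⟩ := hz
  have hc := hQ1 hw
  rw [Subgroup.mem_centralizer_iff] at hc
  have hxw : x * w = w * x := hc x rfl
  rw [← map_mul, ← map_mul, hxw]

theorem central_of_ind_coprime {q : ℕ} [Fact q.Prime] (hB : Baer q G) (Q : Sylow q G) {x : G}
    (hx : x ∈ Q) (hi : (ind x).Coprime q) : ∀ y ∈ Q, x * y = y * x := by
  intro y hy
  have hyb : QuotientGroup.mk' (pPrimeCore q G) y ∈ pCore q (G ⧸ pPrimeCore q G) :=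
    (h2_qb_mem_Lq_iff y).mp (sylow_le_Lq hB Q hy)
  have h1 := map_central_of_ind_coprime hB hi _ hyb
  rw [← map_mul, ← map_mul] at h1
  have h2 : (x * y)⁻¹ * (y * x) ∈ pPrimeCore q G := by
    have := (QuotientGroup.eq (s := pPrimeCore q G) (a := x * y) (b := y * x)).mp h1
    exact this
  have h3 : (x * y)⁻¹ * (y * x) ∈ (Q : Subgroup G) :=
    Subgroup.mul_mem _ (Subgroup.inv_mem _ (Subgroup.mul_mem _ hx hy)) (Subgroup.mul_mem _ hy hx)
  have h4 : (x * y)⁻¹ * (y * x) ∈ ((Q : Subgroup G) ⊓ pPrimeCore q G : Subgroup G) := ⟨h3, h2⟩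
  rw [sylow_inf_pPrimeCore Q, Subgroup.mem_bot] at h4
  exact (inv_mul_eq_one.mp h4)

end Cfsg.Agent.Lib.Helper1.QB
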