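import Cfsg.Agent.Lib.Helper1.QBA1
import Cfsg.Agent.Lib.Helper4.QBA1b
import Cfsg.Agent.Lib.Helper4.QBA2
import Cfsg.Agent.Lib.Helper2.QBA5
import Cfsg.Agent.Lib.Helper1.PCore

/-! S4125 GT farm piece B1: `exists_conj_commute`. -/

set_option autoImplicit false
set_option linter.style.haveILetI false

namespace Cfsg.Agent.Lib.Helper1.QB

open Cfsg

variable {G : Type*} [Group G] [Finite G]

theorem h2_qb_coprime_pow {p q : ℕ} [Fact p.Prime] [Fact q.Prime] (h : p ≠ q) (b : ℕ) :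
    (p ^ b).Coprime q :=
  Nat.Coprime.pow_left b ((Nat.coprime_primes (Fact.out : p.Prime) (Fact.out : q.Prime)).2 h)

/-- `x` a `q`-element with `ind x` a `q`-power, `ind y` coprime to `q`: `x` commutes with `y`. -/
theorem h2_qb_commute_of_ind_q {q : ℕ} [Fact q.Prime] {x y : G} (hx : QElt q x) {a : ℕ}
    (hix : ind x = q ^ a) (hiy : (ind y).Coprime q) : Commute x y := by
  have hxc : x ∈ pCore q G := mem_pCore_of_ind_q hx hix
  obtain ⟨Q1, hQ1⟩ := sylow_le_centralizer_of_coprime (q := q) (x := y) hiy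
  have hxQ : x ∈ (Q1 : Subgroup G) := Cfsg.Agent.Lib.Helper1.pCore_le_sylow q Q1 hxc
  have := hQ1 hxQ
  rw [Subgroup.mem_centralizer_iff] at this
  exact (this y rfl).symm

theorem exists_conj_commute {q p1 p2 : ℕ} [Fact q.Prime] [Fact p1.Prime] [Fact p2.Prime] (hB : Baer q G)
    (h12 : p1 ≠ p2) {x y : G} (hx : QElt q x) (hy : QElt q y) {a b : ℕ}
    (hix : ind x = p1 ^ a) (hiy : ind y = p2 ^ b) : ∃ g : G, Commute (g * x * g⁻¹) y := by
  by_cases h1 : p1 = q
  · subst h1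
    refine ⟨1, ?_⟩
    have : Commute x y :=
      h2_qb_commute_of_ind_q hx hix (by rw [hiy]; exact h2_qb_coprime_pow (Ne.symm h12) b)
    simpa using this
  by_cases h2 : p2 = q
  · subst h2
    refine ⟨1, ?_⟩
    have : Commute y x :=
      h2_qb_commute_of_ind_q hy hiy (by rw [hix]; exact h2_qb_coprime_pow h12 a)
    simpa using this.symm
  obtain ⟨Qx, hxQ⟩ := qelt_mem_sylow hx
  obtain ⟨Qy, hyQ⟩ := qelt_mem_sylow hy
  obtain ⟨g, hg⟩ := MulAction.exists_smul_eq G Qx Qy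
  refine ⟨g, ?_⟩
  have hgx : g * x * g⁻¹ ∈ (Qy : Subgroup G) := by
    rw [← hg, Sylow.smul_def]
    have h1 : g * x * g⁻¹ = MulAut.conj g • x := by simp [MulAut.smul_def]
    rw [h1]
    exact Subgroup.smul_mem_pointwise_smul x (MulAut.conj g) (Qx : Subgroup G) hxQ
  have hcen := central_of_ind_coprime hB Qy hyQ
    (by rw [hiy]; exact h2_qb_coprime_pow h2 b) (g * x * g⁻¹) hgx
  exact hcen.symm

end Cfsg.Agent.Lib.Helper1.QB
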