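import Cfsg.Agent.Lib.Helper4.QBA1b

/-! S4125 GT farm piece B2: `conj_commute_all`. -/

set_option autoImplicit false
set_option linter.style.haveILetI false

namespace Cfsg.Agent.Lib.Helper1.QB

open Cfsg

variable {G : Type*} [Group G] [Finite G]

theorem h2_qb_commute_conj_left {p1 p2 : ℕ} [Fact p1.Prime] [Fact p2.Prime] (h12 : p1 ≠ p2) {x y : G}
    (hc : Commute x y) {a b : ℕ} (hix : ind x = p1 ^ a) (hiy : ind y = p2 ^ b) (g : G) :
    Commute (g * x * g⁻¹) y := by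
  have hcop : (ind y).Coprime p1 := by
    rw [hiy]
    exact Nat.Coprime.pow_left b ((Nat.coprime_primes (Fact.out : p2.Prime) (Fact.out : p1.Prime)).2
      (Ne.symm h12))
  obtain ⟨P1, hP1⟩ := sylow_le_centralizer_of_coprime (q := p1) (x := y) hcop
  obtain ⟨u, hu, hgu⟩ := conj_by_sylow hix P1 g
  have huy : Commute u y := by
    have := hP1 hu
    rw [Subgroup.mem_centralizer_iff] at this
    exact (this y rfl).symm
  rw [hgu]
  exact (huy.mul_left hc).mul_left huy.inv_left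
  
theorem conj_commute_all {p1 p2 : ℕ} [Fact p1.Prime] [Fact p2.Prime] (h12 : p1 ≠ p2) {x y : G}
    (hc : Commute x y) {a b : ℕ} (hix : ind x = p1 ^ a) (hiy : ind y = p2 ^ b) :
    ∀ g h : G, Commute (g * x * g⁻¹) (h * y * h⁻¹) := by
  intro g h
  have h1 := h2_qb_commute_conj_left h12 hc hix hiy (h⁻¹ * g)
  -- conjugate by h
  have h2 : Commute (h * ((h⁻¹ * g) * x * (h⁻¹ * g)⁻¹) * h⁻¹) (h * y * h⁻¹) := by
    unfold Commute SemiconjBy at h1 ⊢
    calc h * ((h⁻¹ * g) * x * (h⁻¹ * g)⁻¹) * h⁻¹ * (h * y * h⁻¹)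
        = h * (((h⁻¹ * g) * x * (h⁻¹ * g)⁻¹) * y) * h⁻¹ := by group
      _ = h * (y * ((h⁻¹ * g) * x * (h⁻¹ * g)⁻¹)) * h⁻¹ := by rw [h1]
      _ = h * y * h⁻¹ * (h * ((h⁻¹ * g) * x * (h⁻¹ * g)⁻¹) * h⁻¹) := by group
  have e : h * ((h⁻¹ * g) * x * (h⁻¹ * g)⁻¹) * h⁻¹ = g * x * g⁻¹ := by group
  rwa [e] at h2

end Cfsg.Agent.Lib.Helper1.QB
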