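import Cfsg.Agent.Lib.Helper1.QBA1
import Cfsg.Agent.Lib.Helper1.QBA3
import Cfsg.Agent.Lib.Helper4.QBA1b
import Cfsg.Agent.Lib.Helper4.QBA2
import Cfsg.Agent.Lib.Helper2.Cores

/-! S4125 GT farm piece A4: Part I. -/

set_option autoImplicit false
set_option linter.style.haveILetI false

namespace Cfsg.Agent.Lib.Helper1.QB

open Cfsg

variable {G : Type*} [Group G] [Finite G]

theorem h2_qb_mem_Lq_iff {q : ℕ} (x : G) :
    x ∈ Lq q G ↔ QuotientGroup.mk' (pPrimeCore q G) x ∈ pCore q (G ⧸ pPrimeCore q G) := by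
  unfold Lq
  exact Subgroup.mem_comap

theorem pCore_le_Lq {q : ℕ} [Fact q.Prime] : pCore q G ≤ Lq q G := by
  intro x hx
  rw [h2_qb_mem_Lq_iff]
  have hsurj : Function.Surjective (QuotientGroup.mk' (pPrimeCore q G)) :=
    QuotientGroup.mk'_surjective _
  haveI : ((pCore q G).map (QuotientGroup.mk' (pPrimeCore q G))).Normal :=
    Subgroup.Normal.map inferInstance _ hsurj
  have hp : IsPGroup q ((pCore q G).map (QuotientGroup.mk' (pPrimeCore q G))) :=
    (Cfsg.Agent.Lib.Helper2.pCore_isPGroup q).map _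
  exact Cfsg.Agent.Lib.Helper2.le_pCore hp (Subgroup.mem_map_of_mem _ hx)

theorem qelt_mem_Lq {q : ℕ} [Fact q.Prime] (hB : Baer q G) {x : G} (hx : QElt q x) : x ∈ Lq q G := by
  obtain ⟨r, a, hr, hi⟩ := hB x hx
  haveI : Fact r.Prime := ⟨hr⟩
  by_cases hrq : r = q
  · subst hrq
    exact pCore_le_Lq (mem_pCore_of_ind_q hx hi)
  · exact mem_Lq_of_ind_r hrq hx hi

theorem sylow_le_Lq {q : ℕ} [Fact q.Prime] (hB : Baer q G) (Q : Sylow q G) :
    (Q : Subgroup G) ≤ Lq q G := by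
  intro x hx
  exact qelt_mem_Lq hB (qelt_of_mem_pgroup (Q : Subgroup G) Q.isPGroup' hx)

theorem sylow_inf_pPrimeCore {q : ℕ} [Fact q.Prime] (Q : Sylow q G) :
    (Q : Subgroup G) ⊓ pPrimeCore q G = ⊥ := by
  have h1 : Nat.card ((Q : Subgroup G) ⊓ pPrimeCore q G : Subgroup G) ∣ Nat.card (Q : Subgroup G) :=
    Subgroup.card_dvd_of_le inf_le_left
  have h2 : Nat.card ((Q : Subgroup G) ⊓ pPrimeCore q G : Subgroup G) ∣ Nat.card (pPrimeCore q G) :=
    Subgroup.card_dvd_of_le inf_le_right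
  obtain ⟨n, hn⟩ := IsPGroup.iff_card.mp Q.isPGroup'
  have hcop : (Nat.card (Q : Subgroup G)).Coprime (Nat.card (pPrimeCore q G)) := by
    rw [hn]
    exact Nat.Coprime.pow_left n (Cfsg.Agent.Lib.Helper2.pPrimeCore_card_coprime q).symm
  have h3 : Nat.card ((Q : Subgroup G) ⊓ pPrimeCore q G : Subgroup G) = 1 :=
    Nat.eq_one_of_dvd_coprimes hcop h1 h2
  exact Subgroup.card_eq_one.mp h3

theorem map_sylow_eq {q : ℕ} [Fact q.Prime] (hB : Baer q G) (Q : Sylow q G) :
    (Q : Subgroup G).map (QuotientGroup.mk' (pPrimeCore q G)) = pCore q (G ⧸ pPrimeCore q G) := by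
  have hsurj : Function.Surjective (QuotientGroup.mk' (pPrimeCore q G)) :=
    QuotientGroup.mk'_surjective _
  have hle : (Q : Subgroup G).map (QuotientGroup.mk' (pPrimeCore q G)) ≤
      pCore q (G ⧸ pPrimeCore q G) := by
    rintro _ ⟨x, hx, rfl⟩
    exact (h2_qb_mem_Lq_iff x).mp (sylow_le_Lq hB Q hx)
  have hS : ((Q.mapSurjective hsurj : Sylow q (G ⧸ pPrimeCore q G)) : Subgroup (G ⧸ pPrimeCore q G)) =
      (Q : Subgroup G).map (QuotientGroup.mk' (pPrimeCore q G)) := rfl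
  have := (Q.mapSurjective hsurj).is_maximal' (Cfsg.Agent.Lib.Helper2.pCore_isPGroup q)
    (by rw [hS]; exact hle)
  rw [← hS]
  exact this.symm

theorem quot_pCore_index_coprime {q : ℕ} [Fact q.Prime] (hB : Baer q G) :
    (pCore q (G ⧸ pPrimeCore q G)).index.Coprime q := by
  have hsurj : Function.Surjective (QuotientGroup.mk' (pPrimeCore q G)) :=
    QuotientGroup.mk'_surjective _
  obtain Q : Sylow q G := default
  have h := map_sylow_eq hB Q
  have hnd : ¬ q ∣ ((Q.mapSurjective hsurj : Sylow q (G ⧸ pPrimeCore q G)) :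
      Subgroup (G ⧸ pPrimeCore q G)).index := Sylow.not_dvd_index _
  have hS : ((Q.mapSurjective hsurj : Sylow q (G ⧸ pPrimeCore q G)) : Subgroup (G ⧸ pPrimeCore q G)) =
      (Q : Subgroup G).map (QuotientGroup.mk' (pPrimeCore q G)) := rfl
  rw [hS, h] at hnd
  exact ((Nat.Prime.coprime_iff_not_dvd (Fact.out : q.Prime)).2 hnd).symm

theorem h2_qb_relIndex_ker_comap {H : Type*} [Group H] (f : G →* H) (hf : Function.Surjective f)
    (R : Subgroup H) : f.ker.relIndex (R.comap f) = Nat.card R := by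
  have : f.ker = (⊥ : Subgroup H).comap f := (MonoidHom.comap_bot f).symm
  rw [this, Subgroup.relIndex_comap, Subgroup.map_comap_eq_self_of_surjective hf,
    Subgroup.relIndex_bot_left]

theorem partI {q : ℕ} [Fact q.Prime] (hB : Baer q G) :
    (Lq q G).Normal ∧ pPrimeCore q G ≤ Lq q G ∧ (Nat.card (pPrimeCore q G)).Coprime q ∧
    (∃ m : ℕ, (pPrimeCore q G).relIndex (Lq q G) = q ^ m) ∧ (Lq q G).index.Coprime q := by
  have hsurj : Function.Surjective (QuotientGroup.mk' (pPrimeCore q G)) :=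
    QuotientGroup.mk'_surjective _
  refine ⟨?_, ?_, Cfsg.Agent.Lib.Helper2.pPrimeCore_card_coprime q, ?_, ?_⟩
  · unfold Lq
    exact Subgroup.Normal.comap inferInstance _
  · intro x hx
    rw [h2_qb_mem_Lq_iff]
    have : QuotientGroup.mk' (pPrimeCore q G) x = 1 := by
      rw [QuotientGroup.mk'_apply, QuotientGroup.eq_one_iff]
      exact hx
    rw [this]
    exact Subgroup.one_mem _
  · obtain ⟨m, hm⟩ := IsPGroup.iff_card.mp
      (Cfsg.Agent.Lib.Helper2.pCore_isPGroup (G := G ⧸ pPrimeCore q G) q)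
    refine ⟨m, ?_⟩
    have h := h2_qb_relIndex_ker_comap (QuotientGroup.mk' (pPrimeCore q G)) hsurj
      (pCore q (G ⧸ pPrimeCore q G))
    rw [QuotientGroup.ker_mk'] at h
    unfold Lq
    rw [h, hm]
  · unfold Lq
    rw [Subgroup.index_comap_of_surjective _ hsurj]
    exact quot_pCore_index_coprime hB

end Cfsg.Agent.Lib.Helper1.QB
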