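import Cfsg.Agent.Lib.Helper2.R4A1

/-! S3814 farm piece A2: Sylow transfer of `E2`. -/

set_option autoImplicit false
set_option linter.style.haveILetI false

namespace Cfsg.Agent.Lib.Helper2.R4

open scoped Pointwise

variable {G : Type*} [Group G]

/-- An `s`-subgroup is conjugate into any subgroup of index prime to `s`. -/
theorem h2_r4_exists_conj_le [Finite G] {s : ℕ} [hs : Fact s.Prime]
    (X K : Subgroup G) (hX : IsPGroup s X) (hK : ¬ s ∣ K.index) :
    ∃ g : G, X ≤ MulAut.conj g • K := by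
  let Q : Sylow s K := default
  have hQ' : IsPGroup s (Q.map K.subtype : Subgroup G) := Q.2.map K.subtype
  have hidx : ¬ s ∣ ((Q : Subgroup K).map K.subtype).index := by
    rw [Subgroup.index_map_subtype]
    exact Nat.Prime.not_dvd_mul hs.out Q.not_dvd_index hK
  let S₁ : Sylow s G := hQ'.toSylow hidx
  obtain ⟨S, hS⟩ := hX.exists_le_sylow
  obtain ⟨g, hg⟩ := MulAction.exists_smul_eq G S₁ S
  refine ⟨g, hS.trans ?_⟩
  have h1 : (S : Subgroup G) = MulAut.conj g • (S₁ : Subgroup G) := by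
    rw [← hg]; rfl
  rw [h1]
  apply Subgroup.pointwise_smul_le_pointwise_smul_iff.2
  exact Subgroup.map_subtype_le _

theorem E2.of_not_dvd_index [Finite G] {p : ℕ} (hp : p.Prime) {K : Subgroup G}
    (hidx : ¬ p ∣ K.index) (h : E2 p (⊤ : Subgroup G)) : E2 p K := by
  haveI : Fact p.Prime := ⟨hp⟩
  obtain ⟨A, -, hsq⟩ := h
  obtain ⟨g, hg⟩ := h2_r4_exists_conj_le A K (hsq.isPGroup hp) hidx
  refine ⟨MulAut.conj g⁻¹ • A, ?_, hsq.conj g⁻¹⟩
  intro x hx
  obtain ⟨b, hb, rfl⟩ := (Subgroup.mem_smul_pointwise_iff_exists _ _ _).1 hx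
  obtain ⟨k, hk, hkb⟩ := (Subgroup.mem_smul_pointwise_iff_exists _ _ _).1 (hg hb)
  rw [← hkb]
  simp only [MulAut.smul_def, MulAut.conj_apply, inv_inv]
  have : g⁻¹ * (g * k * g⁻¹) * g = k := by group
  rw [this]; exact hk

theorem E2.of_not_dvd_relIndex [Finite G] {p : ℕ} (hp : p.Prime) {K M : Subgroup G} (hKM : K ≤ M)
    (hidx : ¬ p ∣ K.relIndex M) (h : E2 p M) : E2 p K := by
  have h1 : E2 p (⊤ : Subgroup M) := (E2_top_subtype_iff M).2 h
  have h2 : E2 p (K.subgroupOf M) := E2.of_not_dvd_index hp hidx h1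
  have h3 := (E2_map_subtype_iff M (K.subgroupOf M)).2 h2
  rw [Subgroup.subgroupOf_map_subtype, inf_of_le_left hKM] at h3
  exact h3

end Cfsg.Agent.Lib.Helper2.R4
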