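import Cfsg.Agent.Lib.Helper2.R4Defs

/-! S3814 farm piece A4: orders of products. -/

set_option autoImplicit false
set_option linter.style.haveILetI false

namespace Cfsg.Agent.Lib.Helper2.R4

variable {G : Type*} [Group G]

theorem orderOf_mul3 {x y z : G} {p q r : ℕ} (hp : p.Prime) (hq : q.Prime) (hr : r.Prime)
    (hpq : p ≠ q) (hpr : p ≠ r) (hqr : q ≠ r) (hx : orderOf x = p) (hy : orderOf y = q)
    (hz : orderOf z = r) (hxy : x * y = y * x) (hxz : x * z = z * x) (hyz : y * z = z * y) :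
    orderOf (x * y * z) = p * q * r := by
  have hcxy : Commute x y := hxy
  have h1 : orderOf (x * y) = p * q := by
    rw [hcxy.orderOf_mul_eq_mul_orderOf_of_coprime (by rw [hx, hy]; exact (Nat.coprime_primes hp hq).2 hpq),
      hx, hy]
  have hc2 : Commute (x * y) z := Commute.mul_left hxz hyz
  rw [hc2.orderOf_mul_eq_mul_orderOf_of_coprime, h1, hz]
  rw [h1, hz]
  exact Nat.Coprime.mul_left ((Nat.coprime_primes hp hr).2 hpr) ((Nat.coprime_primes hq hr).2 hqr)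

theorem exists_orderOf_eq_of_dvd [Finite G] {g : G} {n : ℕ} (hn : 0 < n) (h : n ∣ orderOf g) :
    ∃ g' : G, orderOf g' = n ∧ g' ∈ Subgroup.zpowers g := by
  have ho : 0 < orderOf g := orderOf_pos g
  obtain ⟨m, hm⟩ := h
  have hm0 : m ≠ 0 := by
    rintro rfl
    rw [mul_zero] at hm
    omega
  refine ⟨g ^ m, ?_, Subgroup.pow_mem _ (Subgroup.mem_zpowers g) m⟩
  rw [orderOf_pow_of_dvd hm0 ⟨n, by rw [hm, mul_comm]⟩, hm]
  exact Nat.mul_div_cancel n (Nat.pos_of_ne_zero hm0)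

theorem exists_dvd_orderOf3 [Finite G] {x y : G} {a p q : ℕ} (ha : a.Prime) (hp : p.Prime) (hq : q.Prime)
    (hap : a ≠ p) (haq : a ≠ q) (hpq : p ≠ q) (hx : orderOf x = a) (hxy : x * y = y * x)
    (hy : p * q ∣ orderOf y) : ∃ g : G, a * p * q ∣ orderOf g := by
  obtain ⟨y', hy', hmem⟩ := exists_orderOf_eq_of_dvd (Nat.mul_pos hp.pos hq.pos) hy
  obtain ⟨k, rfl⟩ := Subgroup.mem_zpowers_iff.1 hmem
  have hc : Commute x (y ^ k) := Commute.zpow_right hxy k
  refine ⟨x * y ^ k, ?_⟩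
  rw [hc.orderOf_mul_eq_mul_orderOf_of_coprime, hx, hy', mul_assoc]
  rw [hx, hy']
  exact Nat.Coprime.mul_right ((Nat.coprime_primes ha hp).2 hap) ((Nat.coprime_primes ha hq).2 haq)

end Cfsg.Agent.Lib.Helper2.R4
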