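import Cfsg.Agent.Lib.Helper2.R4A1
import Cfsg.Agent.Lib.Helper1.FpfCyclic

/-! S3814 farm piece A5: (G3) an `E_{p^2}` acting on a nontrivial group has a nontrivial fixed point. -/

set_option autoImplicit false
set_option linter.style.haveILetI false

namespace Cfsg.Agent.Lib.Helper2.R4

open scoped Pointwise

variable {G : Type*} [Group G]

theorem exists_commute_of_sq [Finite G] {p : ℕ} (hp : p.Prime) {A W : Subgroup G} (hA : IsSq p A)
    (hW : W ≠ ⊥) (hAW : A ≤ Subgroup.normalizer (W : Set G)) :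
    ∃ a ∈ A, a ≠ 1 ∧ ∃ w ∈ W, w ≠ 1 ∧ a * w = w * a := by
  by_contra hcon
  push Not at hcon
  haveI : IsMulCommutative A := ⟨⟨fun a b => Subtype.ext (hA.commute hp a a.2 b b.2)⟩⟩
  apply hA.not_isCyclic hp
  apply Cfsg.Agent.Lib.Helper1.isCyclic_of_fpf_of_abelian A W hW hAW
  intro a ha ha1
  rw [← fpf_iff_inf]
  intro w hw hwa
  by_contra hw1
  exact hcon a ha ha1 w hw hw1 hwa.symm

theorem exists_commute_of_sq' [Finite G] {p q : ℕ} (hp : p.Prime) (hq : q.Prime) {A W : Subgroup G}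
    (hA : IsSq p A) (hW : W ≠ ⊥) (hWq : IsPGroup q W)
    (hAW : A ≤ Subgroup.normalizer (W : Set G)) :
    ∃ a ∈ A, orderOf a = p ∧ ∃ w ∈ W, orderOf w = q ∧ a * w = w * a := by
  obtain ⟨a, ha, ha1, w, hw, hw1, hc⟩ := exists_commute_of_sq hp hA hW hAW
  refine ⟨a, ha, hA.orderOf_eq hp ha ha1, ?_⟩
  obtain ⟨k, hk⟩ := hWq ⟨w, hw⟩
  have hk' : w ^ q ^ k = 1 := by
    have := congrArg Subtype.val hk
    simpa using this
  have hdvd : orderOf w ∣ q ^ k := orderOf_dvd_of_pow_eq_one hk'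
  obtain ⟨m, hm, hmo⟩ := (Nat.dvd_prime_pow hq).1 hdvd
  have hm0 : m ≠ 0 := by
    rintro rfl
    rw [pow_zero] at hmo
    exact hw1 (orderOf_eq_one_iff.1 hmo)
  obtain ⟨m', rfl⟩ := Nat.exists_eq_succ_of_ne_zero hm0
  refine ⟨w ^ q ^ m', Subgroup.pow_mem _ hw _, ?_, ?_⟩
  · rw [orderOf_pow_of_dvd (pow_ne_zero _ hq.ne_zero) (by rw [hmo]; exact pow_dvd_pow q (Nat.le_succ m')),
      hmo, pow_succ]
    exact Nat.mul_div_cancel_left q (pow_pos hq.pos m')
  · have hcc : Commute a w := hc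
    exact (hcc.pow_right _).eq

end Cfsg.Agent.Lib.Helper2.R4
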