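import Cfsg.Agent.Lib.Helper2.R4A2
import Cfsg.Agent.Lib.Helper2.R4A4
import Cfsg.Agent.Lib.Helper2.R4A5
import Cfsg.Agent.Lib.Helper7.PG1

/-! S3814 farm pieces B1a, B1b, B1c: basic consequences of `MinCex`. -/

set_option autoImplicit false
set_option linter.style.haveILetI false

namespace Cfsg.Agent.Lib.Helper2.R4

open scoped Pointwise
open Cfsg.Agent.Lib.Helper7

variable {G : Type*} [Group G]

theorem MinCex.no_commute3 {σ : Finset ℕ} (h : MinCex σ G) {p q r : ℕ} (hp : p ∈ σ) (hq : q ∈ σ)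
    (hr : r ∈ σ) (hpq : p ≠ q) (hpr : p ≠ r) (hqr : q ≠ r) {x y z : G} (hx : orderOf x = p)
    (hy : orderOf y = q) (hz : orderOf z = r) (hxy : x * y = y * x) (hxz : x * z = z * x)
    (hyz : y * z = z * y) : False := by
  apply h.notri (x * y * z)
  refine ⟨p, hp, q, hq, r, hr, hpq, hpr, hqr, ?_⟩
  rw [orderOf_mul3 (h.prime p hp) (h.prime q hq) (h.prime r hr) hpq hpr hqr hx hy hz hxy hxz hyz]

theorem MinCex.no_commute_mixed {σ : Finset ℕ} (h : MinCex σ G) {a p q : ℕ} (ha : a ∈ σ) (hp : p ∈ σ)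
    (hq : q ∈ σ) (hap : a ≠ p) (haq : a ≠ q) (hpq : p ≠ q) {x y : G} (hx : orderOf x = a)
    (hxy : x * y = y * x) (hy : p * q ∣ orderOf y) : False := by
  haveI := h.fin
  obtain ⟨g, hg⟩ := exists_dvd_orderOf3 (h.prime a ha) (h.prime p hp) (h.prime q hq) hap haq hpq hx
    hxy hy
  exact h.notri g ⟨a, ha, p, hp, q, hq, hap, haq, hpq, hg⟩

/-- `card σ = 4`: two further primes -/
theorem MinCex.exists_two_others {σ : Finset ℕ} (h : MinCex σ G) {a b : ℕ} (ha : a ∈ σ) (hb : b ∈ σ)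
    (hab : a ≠ b) : ∃ c ∈ σ, ∃ d ∈ σ, c ≠ d ∧ c ≠ a ∧ c ≠ b ∧ d ≠ a ∧ d ≠ b ∧
      ∀ p ∈ σ, p = a ∨ p = b ∨ p = c ∨ p = d := by
  have h1 : ((σ.erase a).erase b).card = 2 := by
    rw [Finset.card_erase_of_mem (Finset.mem_erase.2 ⟨Ne.symm hab, hb⟩),
      Finset.card_erase_of_mem ha, h.card4]
  obtain ⟨c, d, hcd, hs⟩ := Finset.card_eq_two.1 h1
  have hc : c ∈ (σ.erase a).erase b := by rw [hs]; simp
  have hd : d ∈ (σ.erase a).erase b := by rw [hs]; simp
  rw [Finset.mem_erase, Finset.mem_erase] at hc hd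
  refine ⟨c, hc.2.2, d, hd.2.2, hcd, hc.2.1, hc.1, hd.2.1, hd.1, ?_⟩
  intro p hp
  by_cases hpa : p = a
  · exact Or.inl hpa
  · by_cases hpb : p = b
    · exact Or.inr (Or.inl hpb)
    · have : p ∈ (σ.erase a).erase b := by
        rw [Finset.mem_erase, Finset.mem_erase]; exact ⟨hpb, hpa, hp⟩
      rw [hs] at this
      simp only [Finset.mem_insert, Finset.mem_singleton] at this
      rcases this with h | h
      · exact Or.inr (Or.inr (Or.inl h))
      · exact Or.inr (Or.inr (Or.inr h))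

theorem MinCex.sq_dvd_card {σ : Finset ℕ} (h : MinCex σ G) {p : ℕ} (hp : p ∈ σ) :
    p ^ 2 ∣ Nat.card G := by
  haveI := h.fin
  have := (h.rank p hp).sq_dvd_card
  rwa [Subgroup.card_top] at this

/-- (R1) `G` is a `σ`-group. -/
theorem MinCex.prime_mem {σ : Finset ℕ} (h : MinCex σ G) {p : ℕ} (hp : p.Prime)
    (hpG : p ∣ Nat.card G) : p ∈ σ := by
  haveI := h.fin
  haveI := h.solv
  obtain ⟨K, hK, hKi⟩ := PG.exists_hall (X := G) (↑σ : Set ℕ)
  have hKtop : K = ⊤ := by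
    by_contra hne
    obtain ⟨q, hq, hE⟩ := h.min K hne
    apply hE
    apply E2.of_not_dvd_index (h.prime q hq) _ (h.rank q hq)
    intro hd
    exact hKi q (h.prime q hq) hd (by simpa using hq)
  rw [hKtop, Subgroup.card_top] at hK
  have := hK p hp hpG
  simpa using this

/-- (C) an element `y` of order `p` centralizing an `E_{q^2}` `B` acts fpf on every `a`-group
`W` normalized by `y` and `B`. -/
theorem MinCex.fpf_of_centralizes_sq [Finite G] {σ : Finset ℕ} (h : MinCex σ G) {a p q : ℕ}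
    (ha : a ∈ σ) (hp : p ∈ σ) (hq : q ∈ σ) (hap : a ≠ p) (haq : a ≠ q) (hpq : p ≠ q)
    {W : Subgroup G} (hW : IsPGroup a W) {y : G} (hy : orderOf y = p)
    (hyW : y ∈ Subgroup.normalizer (W : Set G)) {B : Subgroup G} (hB : IsSq q B)
    (hBW : B ≤ Subgroup.normalizer (W : Set G)) (hBy : ∀ b ∈ B, b * y = y * b) : Fpf y W := by
  by_contra hcon
  unfold Fpf at hcon
  push Not at hcon
  obtain ⟨w, hwW, hwy, hw1⟩ := hcon
  set C : Subgroup G := W ⊓ Subgroup.centralizer {y} with hC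
  have hwC : w ∈ C := by
    rw [hC, Subgroup.mem_inf, Subgroup.mem_centralizer_iff]
    refine ⟨hwW, ?_⟩
    intro z hz
    rw [Set.mem_singleton_iff] at hz
    subst hz
    exact hwy.symm
  have hC1 : C ≠ ⊥ := by
    intro hb
    rw [hb, Subgroup.mem_bot] at hwC
    exact hw1 hwC
  have hCa : IsPGroup a C := hW.to_le inf_le_left
  have hfwd : ∀ b ∈ B, ∀ c ∈ C, b * c * b⁻¹ ∈ C := by
    intro b hb c hc
    rw [hC, Subgroup.mem_inf, Subgroup.mem_centralizer_iff] at hc ⊢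
    refine ⟨(Subgroup.mem_normalizer_iff.1 (hBW hb) c).1 hc.1, ?_⟩
    intro z hz
    rw [Set.mem_singleton_iff] at hz
    subst hz
    have h1 := hc.2 z rfl
    have h2 := hBy b hb
    calc z * (b * c * b⁻¹) = b * (b⁻¹ * (z * b)) * c * b⁻¹ := by group
      _ = b * (b⁻¹ * (b * z)) * c * b⁻¹ := by rw [h2]
      _ = b * (z * c) * b⁻¹ := by group
      _ = b * (c * z) * b⁻¹ := by rw [h1]
      _ = b * c * (b⁻¹ * (b * z)) * b⁻¹ := by group
      _ = b * c * (b⁻¹ * (z * b)) * b⁻¹ := by rw [h2]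
      _ = b * c * b⁻¹ * z := by group
  have hBC : B ≤ Subgroup.normalizer (C : Set G) := by
    intro b hb
    rw [Subgroup.mem_normalizer_iff]
    intro c
    constructor
    · exact hfwd b hb c
    · intro hc
      have := hfwd b⁻¹ (Subgroup.inv_mem _ hb) _ hc
      have e : b⁻¹ * (b * c * b⁻¹) * b⁻¹⁻¹ = c := by group
      rwa [e] at this
  obtain ⟨b₀, hb₀, hb₀o, c₀, hc₀, hc₀o, hcomm⟩ :=
    exists_commute_of_sq' (h.prime q hq) (h.prime a ha) hB hC1 hCa hBC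
  have hc₀y : c₀ * y = y * c₀ := by
    rw [hC, Subgroup.mem_inf, Subgroup.mem_centralizer_iff] at hc₀
    exact (hc₀.2 y rfl).symm
  exact h.no_commute3 ha hp hq hap haq hpq hc₀o hy hb₀o hc₀y hcomm.symm (hBy b₀ hb₀).symm

theorem MinCex.no_commuting_squares [Finite G] {σ : Finset ℕ} (h : MinCex σ G) {a p q : ℕ}
    (ha : a ∈ σ) (hp : p ∈ σ) (hq : q ∈ σ) (hap : a ≠ p) (haq : a ≠ q) (hpq : p ≠ q)
    {W : Subgroup G} (hW : IsPGroup a W) (hW1 : W ≠ ⊥) {A B : Subgroup G} (hA : IsSq p A)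
    (hB : IsSq q B) (hAW : A ≤ Subgroup.normalizer (W : Set G))
    (hBW : B ≤ Subgroup.normalizer (W : Set G)) (hAB : ∀ x ∈ A, ∀ b ∈ B, x * b = b * x) :
    False := by
  obtain ⟨x₀, hx₀, hx₀o, w, hw, hwo, hcomm⟩ :=
    exists_commute_of_sq' (h.prime p hp) (h.prime a ha) hA hW1 hW hAW
  have hf : Fpf x₀ W := h.fpf_of_centralizes_sq ha hp hq hap haq hpq hW hx₀o (hAW hx₀) hB hBW
    (fun b hb => (hAB x₀ hx₀ b hb).symm)
  have := hf w hw hcomm.symm
  rw [this, orderOf_one] at hwo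
  exact (h.prime a ha).one_lt.ne hwo

end Cfsg.Agent.Lib.Helper2.R4
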