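import Cfsg.Agent.Lib.Helper2.R4A1
import Cfsg.Agent.Lib.Helper2.PGroupOdd

/-! S3814 farm piece A3: `p`-groups without `E_{p^2}`. -/

set_option autoImplicit false
set_option linter.style.haveILetI false

namespace Cfsg.Agent.Lib.Helper2.R4

open scoped Pointwise

variable {G : Type*} [Group G]

theorem h2_r4_zpowers_eq_of_mem {p : ℕ} (hp : p.Prime) {x z : G} (hx : orderOf x = p)
    (hz : orderOf z = p) (h : x ∈ Subgroup.zpowers z) : Subgroup.zpowers x = Subgroup.zpowers z := by
  have hle : Subgroup.zpowers x ≤ Subgroup.zpowers z := by rwa [Subgroup.zpowers_le]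
  haveI : Finite (Subgroup.zpowers z) :=
    Nat.finite_of_card_ne_zero (by rw [Nat.card_zpowers, hz]; exact hp.ne_zero)
  exact Subgroup.eq_of_le_of_card_ge hle (by rw [Nat.card_zpowers, Nat.card_zpowers, hx, hz])

/-- a nontrivial `p`-subgroup has an element of order `p` commuting with the whole subgroup -/
theorem h2_r4_exists_central [Finite G] {p : ℕ} (hp : p.Prime) {P : Subgroup G} (hP : IsPGroup p P)
    (hP1 : P ≠ ⊥) : ∃ z ∈ P, orderOf z = p ∧ ∀ x ∈ P, z * x = x * z := by
  haveI : Fact p.Prime := ⟨hp⟩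
  haveI : Nontrivial P := (Subgroup.nontrivial_iff_ne_bot P).2 hP1
  haveI := hP.center_nontrivial
  have hdvd : p ∣ Nat.card (Subgroup.center P) := by
    obtain ⟨n, hn⟩ := IsPGroup.iff_card.1 (hP.to_subgroup (Subgroup.center P))
    rw [hn]
    have : n ≠ 0 := by
      rintro rfl
      rw [pow_zero] at hn
      have := (Subgroup.card_eq_one.1 hn)
      exact (Subgroup.nontrivial_iff_ne_bot _).1 inferInstance this
    exact dvd_pow_self p this
  obtain ⟨z, hz⟩ := exists_prime_orderOf_dvd_card' p hdvd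
  refine ⟨((z : P) : G), (z : P).2, ?_, ?_⟩
  · rw [Subgroup.orderOf_coe, Subgroup.orderOf_coe]; exact hz
  · intro x hx
    have := (Subgroup.mem_center_iff.1 z.2) ⟨x, hx⟩
    exact (congrArg Subtype.val this).symm

theorem zpowers_eq_of_not_E2 [Finite G] {p : ℕ} (hp : p.Prime) {P : Subgroup G} (hP : IsPGroup p P)
    (h : ¬ E2 p P) {x y : G} (hx : x ∈ P) (hy : y ∈ P) (hox : orderOf x = p) (hoy : orderOf y = p) :
    Subgroup.zpowers x = Subgroup.zpowers y := by
  have hP1 : P ≠ ⊥ := by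
    intro hb
    rw [hb, Subgroup.mem_bot] at hx
    rw [hx, orderOf_one] at hox
    exact hp.one_lt.ne' hox.symm
  obtain ⟨z, hzP, hzo, hzc⟩ := h2_r4_exists_central hp hP hP1
  have key : ∀ w ∈ P, orderOf w = p → Subgroup.zpowers w = Subgroup.zpowers z := by
    intro w hw hwo
    by_cases hmem : w ∈ Subgroup.zpowers z
    · exact h2_r4_zpowers_eq_of_mem hp hwo hzo hmem
    · exfalso
      apply h
      refine ⟨Subgroup.closure {z, w}, ?_, isSq_closure_pair hp hzo hwo (hzc w hw) hmem⟩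
      rw [Subgroup.closure_le]
      rintro g (rfl | hg)
      · exact hzP
      · rw [Set.mem_singleton_iff] at hg
        rw [hg]; exact hw
  rw [key x hx hox, key y hy hoy]

theorem card_eq_of_not_E2_of_exp [Finite G] {p : ℕ} (hp : p.Prime) {V : Subgroup G} (hV : V ≠ ⊥)
    (hexp : ∀ v ∈ V, v ^ p = 1) (h : ¬ E2 p V) : Nat.card V = p := by
  have hVp : IsPGroup p V := by
    intro v
    refine ⟨1, ?_⟩
    apply Subtype.ext
    rw [pow_one, Subgroup.coe_pow]
    exact hexp _ v.2
  have hord : ∀ v ∈ V, v ≠ 1 → orderOf v = p := by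
    intro v hv hv1
    rcases (Nat.dvd_prime hp).1 (orderOf_dvd_of_pow_eq_one (hexp v hv)) with h1 | h1
    · exact absurd (orderOf_eq_one_iff.1 h1) hv1
    · exact h1
  obtain ⟨x, hx, hx1⟩ : ∃ x ∈ V, x ≠ 1 := by
    by_contra hcon
    push Not at hcon
    apply hV
    rw [eq_bot_iff]
    intro v hv
    rw [Subgroup.mem_bot]
    exact hcon v hv
  have hVeq : V = Subgroup.zpowers x := by
    apply le_antisymm
    · intro v hv
      by_cases hv1 : v = 1
      · rw [hv1]; exact Subgroup.one_mem _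
      · rw [← zpowers_eq_of_not_E2 hp hVp h hv hx (hord v hv hv1) (hord x hx hx1)]
        exact Subgroup.mem_zpowers v
    · rwa [Subgroup.zpowers_le]
  rw [hVeq, Nat.card_zpowers, hord x hx hx1]

theorem isCyclic_of_not_E2 [Finite G] {p : ℕ} (hp : p.Prime) (hp2 : p ≠ 2) {P : Subgroup G}
    (hP : IsPGroup p P) (h : ¬ E2 p P) : IsCyclic P := by
  haveI : Fact p.Prime := ⟨hp⟩
  by_contra hnc
  obtain ⟨E, -, hcard, hexp⟩ := Cfsg.Agent.Lib.Helper2.exists_normal_elementary_sq hp2 hP hnc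
  apply h
  rw [← E2_top_subtype_iff]
  exact ⟨E, le_top, hcard, hexp⟩

end Cfsg.Agent.Lib.Helper2.R4
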