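import Cfsg.Agent.Lib.Helper2.R4A1

/-! S3814 farm piece A9: automorphisms of cyclic groups. -/

set_option autoImplicit false
set_option linter.style.haveILetI false

namespace Cfsg.Agent.Lib.Helper2.R4

variable {G : Type*} [Group G]

theorem h2_r4_conj_zpow_of_normalizes {s x : G}
    (hs : s ∈ Subgroup.normalizer ((Subgroup.zpowers x : Subgroup G) : Set G)) :
    ∃ i : ℤ, s * x * s⁻¹ = x ^ i := by
  have := (Subgroup.mem_normalizer_iff.1 hs x).1 (Subgroup.mem_zpowers x)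
  obtain ⟨i, hi⟩ := Subgroup.mem_zpowers_iff.1 this
  exact ⟨i, hi.symm⟩

theorem h2_r4_comm_aux {s t x : G}
    (hs : s ∈ Subgroup.normalizer ((Subgroup.zpowers x : Subgroup G) : Set G))
    (ht : t ∈ Subgroup.normalizer ((Subgroup.zpowers x : Subgroup G) : Set G)) :
    (s⁻¹ * t⁻¹ * s * t) * x = x * (s⁻¹ * t⁻¹ * s * t) := by
  obtain ⟨i, hi⟩ := h2_r4_conj_zpow_of_normalizes hs
  obtain ⟨j, hj⟩ := h2_r4_conj_zpow_of_normalizes ht
  have h1 : s * t * x * t⁻¹ * s⁻¹ = x ^ (j * i) := by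
    have : s * t * x * t⁻¹ * s⁻¹ = s * (t * x * t⁻¹) * s⁻¹ := by group
    rw [this, hj]
    have h2 : s * x ^ j * s⁻¹ = (s * x * s⁻¹) ^ j := by rw [conj_zpow]
    rw [h2, hi, ← zpow_mul, mul_comm]
  have h2 : t * s * x * s⁻¹ * t⁻¹ = x ^ (j * i) := by
    have : t * s * x * s⁻¹ * t⁻¹ = t * (s * x * s⁻¹) * t⁻¹ := by group
    rw [this, hi]
    have h2 : t * x ^ i * t⁻¹ = (t * x * t⁻¹) ^ i := by rw [conj_zpow]
    rw [h2, hj, ← zpow_mul]
  have h3 : s * t * x * t⁻¹ * s⁻¹ = t * s * x * s⁻¹ * t⁻¹ := by rw [h1, h2]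
  have h4 : (s⁻¹ * t⁻¹ * s * t) * x * (s⁻¹ * t⁻¹ * s * t)⁻¹ = x := by
    have e : (s⁻¹ * t⁻¹ * s * t) * x * (s⁻¹ * t⁻¹ * s * t)⁻¹
        = (t * s)⁻¹ * (s * t * x * t⁻¹ * s⁻¹) * (t * s) := by group
    rw [e, h3]; group
  calc (s⁻¹ * t⁻¹ * s * t) * x
      = ((s⁻¹ * t⁻¹ * s * t) * x * (s⁻¹ * t⁻¹ * s * t)⁻¹) * (s⁻¹ * t⁻¹ * s * t) := by group
    _ = x * (s⁻¹ * t⁻¹ * s * t) := by rw [h4]

/-- conjugation by `s` and by `t` on the cyclic group `⟨x⟩` commute -/
theorem commutator_centralizes_zpowers {s t x : G}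
    (hs : s ∈ Subgroup.normalizer ((Subgroup.zpowers x : Subgroup G) : Set G))
    (ht : t ∈ Subgroup.normalizer ((Subgroup.zpowers x : Subgroup G) : Set G)) :
    (s * t * s⁻¹ * t⁻¹) * x = x * (s * t * s⁻¹ * t⁻¹) := by
  have := h2_r4_comm_aux (Subgroup.inv_mem _ hs) (Subgroup.inv_mem _ ht)
  rw [inv_inv, inv_inv] at this
  exact this

/-- an element normalizing a group of prime order either centralizes it or acts fpf on it -/
theorem fpf_zpowers_of_not_commute {e z : G} (hz : (orderOf z).Prime) (hne : e * z ≠ z * e) :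
    Fpf e (Subgroup.zpowers z) := by
  intro x hx hxe
  by_contra hx1
  apply hne
  -- z is a power of x
  have hxo : orderOf x = orderOf z := by
    have hd : orderOf x ∣ orderOf z := by
      exact orderOf_dvd_of_mem_zpowers hx
    rcases (Nat.dvd_prime hz).1 hd with h1 | h1
    · exact absurd (orderOf_eq_one_iff.1 h1) hx1
    · exact h1
  have hle : Subgroup.zpowers x ≤ Subgroup.zpowers z := by rwa [Subgroup.zpowers_le]
  haveI : Finite (Subgroup.zpowers z) :=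
    Nat.finite_of_card_ne_zero (by rw [Nat.card_zpowers]; exact hz.ne_zero)
  have heq : Subgroup.zpowers x = Subgroup.zpowers z :=
    Subgroup.eq_of_le_of_card_ge hle (by rw [Nat.card_zpowers, Nat.card_zpowers, hxo])
  have hzm : z ∈ Subgroup.zpowers x := by rw [heq]; exact Subgroup.mem_zpowers z
  obtain ⟨k, rfl⟩ := Subgroup.mem_zpowers_iff.1 hzm
  have hc : Commute e x := hxe.symm
  exact (hc.zpow_right k).eq

/-- an element `e` of prime order `w` acting nontrivially on a group of prime order `v`: `w ∣ v - 1` -/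
theorem dvd_pred_of_normalizes {e z : G} {v w : ℕ} (hv : v.Prime) (hw : w.Prime)
    (hz : orderOf z = v) (he : orderOf e = w)
    (hn : e ∈ Subgroup.normalizer ((Subgroup.zpowers z : Subgroup G) : Set G))
    (hne : e * z ≠ z * e) : w ∣ v - 1 := by
  haveI : Fact v.Prime := ⟨hv⟩
  obtain ⟨i, hi⟩ := h2_r4_conj_zpow_of_normalizes hn
  have hpow : ∀ n : ℕ, e ^ n * z * (e ^ n)⁻¹ = z ^ (i ^ n) := by
    intro n
    induction n with
    | zero => simp
    | succ n ih =>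
      have : e ^ (n + 1) * z * (e ^ (n + 1))⁻¹ = e * (e ^ n * z * (e ^ n)⁻¹) * e⁻¹ := by
        rw [pow_succ']; group
      rw [this, ih]
      have h2 : e * z ^ (i ^ n) * e⁻¹ = (e * z * e⁻¹) ^ (i ^ n) := by rw [conj_zpow]
      rw [h2, hi, ← zpow_mul, pow_succ']
  have h1 := hpow w
  rw [← he, pow_orderOf_eq_one] at h1
  simp only [one_mul, inv_one, mul_one] at h1
  -- z ^ 1 = z ^ (i ^ w)
  have h2 : z ^ (1 : ℤ) = z ^ (i ^ orderOf e) := by rw [zpow_one]; exact h1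
  rw [zpow_eq_zpow_iff_modEq, hz] at h2
  have h3 : ((1 : ℤ) : ZMod v) = ((i ^ orderOf e : ℤ) : ZMod v) :=
    (ZMod.intCast_eq_intCast_iff _ _ _).2 h2
  push_cast at h3
  set u : ZMod v := (i : ZMod v) with hu
  have hu1 : u ≠ 1 := by
    intro h
    apply hne
    have h4 : (i : ZMod v) = ((1 : ℤ) : ZMod v) := by rw [← hu, h]; simp
    have h5 := (ZMod.intCast_eq_intCast_iff _ _ _).1 h4
    rw [← hz, ← zpow_eq_zpow_iff_modEq, zpow_one] at h5
    rw [h5] at hi
    calc e * z = (e * z * e⁻¹) * e := by group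
      _ = z * e := by rw [hi]
  have hu0 : u ≠ 0 := by
    intro h
    rw [h, zero_pow (by rw [he]; exact hw.ne_zero)] at h3
    exact one_ne_zero h3
  have ho1 : orderOf u ∣ w := by
    rw [← he]; exact orderOf_dvd_of_pow_eq_one h3.symm
  have ho2 : orderOf u ∣ v - 1 := orderOf_dvd_of_pow_eq_one (ZMod.pow_card_sub_one_eq_one hu0)
  rcases (Nat.dvd_prime hw).1 ho1 with h | h
  · exact absurd (orderOf_eq_one_iff.1 h) hu1
  · rwa [h] at ho2

end Cfsg.Agent.Lib.Helper2.R4
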