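import Cfsg.Agent.Lib.Helper2.R4Defs

/-! S3814 farm piece B3a: minimal normal subgroups exist. -/

set_option autoImplicit false
set_option linter.style.haveILetI false

namespace Cfsg.Agent.Lib.Helper2.R4

variable {G : Type*} [Group G]

/-- every nontrivial normal subgroup of a finite group contains a minimal normal subgroup -/
theorem exists_minNormal_le [Finite G] {N : Subgroup G} (hN : N.Normal) (hN1 : N ≠ ⊥) :
    ∃ V : Subgroup G, V.Normal ∧ V ≠ ⊥ ∧ V ≤ N ∧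
      ∀ M : Subgroup G, M.Normal → M ≤ V → M = ⊥ ∨ M = V := by
  let 𝒮 : Set (Subgroup G) := {V | V.Normal ∧ V ≠ ⊥ ∧ V ≤ N}
  have h𝒮 : 𝒮.Nonempty := ⟨N, hN, hN1, le_rfl⟩
  obtain ⟨V, ⟨hVn, hV1, hVN⟩, hmin⟩ := Set.exists_min_image 𝒮 (fun V => Nat.card V)
    (Set.toFinite _) h𝒮
  refine ⟨V, hVn, hV1, hVN, ?_⟩
  intro M hMn hMV
  by_cases hM : M = ⊥
  · exact Or.inl hM
  · right
    have := hmin M ⟨hMn, hM, hMV.trans hVN⟩
    exact Subgroup.eq_of_le_of_card_ge hMV this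

end Cfsg.Agent.Lib.Helper2.R4
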