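import Mathlib
import Cfsg.Prelude.Def_KGroupFacts
import Cfsg.Agent.Lib.Helper2.Commutator

/-!
# Basic tools for Schur multiplier computations (in the `HasSchurMultiplier` formulation)
-/

set_option autoImplicit false

namespace Cfsg.Agent.Lib.Helper2

open scoped commutatorElement

universe u

/-- If every finite stem extension of the finite group `G` has trivial kernel then the multiplier
is trivial. -/
theorem hasCyclicSchurMultiplier_one_of_forall_ker_eq_bot (G : Type u) [Group G] [Finite G]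
    (h : ∀ (Γ : Type u) [Group Γ] [Finite Γ] (σ : Γ →* G), Cfsg.IsStemExtension σ → σ.ker = ⊥) :
    Cfsg.HasCyclicSchurMultiplier G 1 := by
  refine ⟨⟨G, inferInstance, inferInstance, MonoidHom.id G, ⟨Function.surjective_id, ?_, ?_⟩, ⟨?_⟩⟩,
    ?_⟩
  · rw [MonoidHom.ker_id]; exact bot_le
  · rw [MonoidHom.ker_id]; exact bot_le
  · rw [MonoidHom.ker_id]
    haveI : Subsingleton (Multiplicative (ZMod 1)) := by
      show Subsingleton (ZMod 1)
      infer_instance
    exact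
      { toFun := fun _ => 1
        invFun := fun _ => 1
        left_inv := fun x => Subsingleton.elim _ _
        right_inv := fun x => Subsingleton.elim _ _
        map_mul' := fun _ _ => by simp }
  · intro Γ _ _ σ hσ
    refine ⟨1, ?_⟩
    intro x
    have hx : x = 1 := by
      apply Subtype.ext
      have h1 : (x : Γ) ∈ σ.ker := x.2
      have h2 : (x : Γ) ∈ (⊥ : Subgroup Γ) := (h Γ σ hσ) ▸ h1
      exact Subgroup.mem_bot.1 h2
    exact ⟨1, by rw [hx]; rfl⟩

/-- Conversely a trivial multiplier means that stem extensions have trivial kernel. -/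
theorem ker_eq_bot_of_hasCyclicSchurMultiplier_one {G : Type u} [Group G]
    (h : Cfsg.HasCyclicSchurMultiplier G 1) (Γ : Type u) [Group Γ] [Finite Γ] (σ : Γ →* G)
    (hσ : Cfsg.IsStemExtension σ) : σ.ker = ⊥ := by
  obtain ⟨π, hπ⟩ := h.2 Γ σ hσ
  haveI : Subsingleton (Multiplicative (ZMod 1)) := by
    show Subsingleton (ZMod 1)
    infer_instance
  rw [eq_bot_iff]
  intro x hx
  obtain ⟨y, hy⟩ := hπ ⟨x, hx⟩
  have : y = 1 := Subsingleton.elim _ _
  rw [this, map_one] at hy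
  rw [Subgroup.mem_bot]
  exact (congrArg Subtype.val hy).symm

/-- In a group generated by an abelian subgroup `R` normalized by `t` together with `t`, every
element of the commutator subgroup has the form `a (t a t⁻¹)⁻¹` with `a ∈ R`. -/
theorem exists_eq_mul_conj_inv_of_mem_commutator {Γ : Type*} [Group Γ] (R : Subgroup Γ) (t : Γ)
    (hRc : ∀ a ∈ R, ∀ b ∈ R, a * b = b * a) (hRt : ∀ a ∈ R, t * a * t⁻¹ ∈ R)
    (hRt' : ∀ a ∈ R, t⁻¹ * a * t ∈ R)
    (htop : R ⊔ Subgroup.zpowers t = ⊤) (k : Γ) (hk : k ∈ commutator Γ) :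
    ∃ a ∈ R, k = a * (t * a * t⁻¹)⁻¹ := by
  let T : Subgroup Γ :=
    { carrier := {k | ∃ a ∈ R, k = a * (t * a * t⁻¹)⁻¹}
      one_mem' := ⟨1, R.one_mem, by simp⟩
      mul_mem' := by
        rintro x y ⟨a, ha, rfl⟩ ⟨b, hb, rfl⟩
        refine ⟨a * b, R.mul_mem ha hb, ?_⟩
        have h1 : t * (a * b) * t⁻¹ = (t * a * t⁻¹) * (t * b * t⁻¹) := by group
        rw [h1, mul_inv_rev (t * a * t⁻¹) (t * b * t⁻¹)]
        have hta := R.inv_mem (hRt a ha)
        have htb := R.inv_mem (hRt b hb)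
        calc a * (t * a * t⁻¹)⁻¹ * (b * (t * b * t⁻¹)⁻¹)
            = a * ((t * a * t⁻¹)⁻¹ * b) * (t * b * t⁻¹)⁻¹ := by group
          _ = a * (b * (t * a * t⁻¹)⁻¹) * (t * b * t⁻¹)⁻¹ := by rw [hRc _ hta b hb]
          _ = a * b * ((t * a * t⁻¹)⁻¹ * (t * b * t⁻¹)⁻¹) := by group
          _ = a * b * ((t * b * t⁻¹)⁻¹ * (t * a * t⁻¹)⁻¹) := by rw [hRc _ hta _ htb]
      inv_mem' := by
        rintro x ⟨a, ha, rfl⟩
        refine ⟨a⁻¹, R.inv_mem ha, ?_⟩
        have h1 : t * a⁻¹ * t⁻¹ = (t * a * t⁻¹)⁻¹ := by group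
        rw [h1, inv_inv, mul_inv_rev, inv_inv]
        exact hRc _ (hRt a ha) _ (R.inv_mem ha) }
  have hTR : T ≤ R := by
    rintro x ⟨a, ha, rfl⟩
    exact R.mul_mem ha (R.inv_mem (hRt a ha))
  have hTn : T.Normal := by
    rw [← Subgroup.normalizer_eq_top_iff, eq_top_iff, ← htop, sup_le_iff]
    constructor
    · intro a ha
      rw [Subgroup.mem_normalizer_iff]
      intro x
      have hconj : ∀ y ∈ R, a * y * a⁻¹ = y := by
        intro y hy
        rw [hRc a ha y hy, mul_inv_cancel_right]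
      constructor
      · intro hx
        rw [hconj x (hTR hx)]; exact hx
      · intro hx
        have h2 : a * x * a⁻¹ ∈ R := hTR hx
        have h3 : x ∈ R := by
          have := R.mul_mem (R.mul_mem (R.inv_mem ha) h2) ha
          simpa [mul_assoc] using this
        rw [hconj x h3] at hx; exact hx
    · rw [Subgroup.zpowers_le, Subgroup.mem_normalizer_iff]
      intro x
      constructor
      · rintro ⟨a, ha, rfl⟩
        refine ⟨t * a * t⁻¹, hRt a ha, ?_⟩
        group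
      · rintro ⟨a, ha, hx⟩
        refine ⟨t⁻¹ * a * t, hRt' a ha, ?_⟩
        have : x = t⁻¹ * (t * x * t⁻¹) * t := by group
        rw [this, hx]
        group
  haveI := hTn
  have hZR : ⁅Subgroup.zpowers t, R⁆ ≤ T := by
    rw [commutator_le_iff_le_commStab, Subgroup.zpowers_le, mem_commStab]
    intro a ha
    have : ⁅t, a⁆ = (a * (t * a * t⁻¹)⁻¹)⁻¹ := by
      rw [commutatorElement_def]; group
    rw [this]
    exact T.inv_mem ⟨a, ha, rfl⟩
  have hRZ : ⁅R, Subgroup.zpowers t⁆ ≤ T := by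
    rw [Subgroup.commutator_comm]; exact hZR
  have hRR : ⁅R, R⁆ ≤ T := by
    rw [Subgroup.commutator_le]
    intro a ha b hb
    have : ⁅a, b⁆ = 1 := by
      rw [commutatorElement_eq_one_iff_mul_comm]; exact hRc a ha b hb
    rw [this]; exact T.one_mem
  have hZZ : ⁅Subgroup.zpowers t, Subgroup.zpowers t⁆ ≤ T := by
    rw [Subgroup.commutator_le]
    intro a ha b hb
    have : ⁅a, b⁆ = 1 := by
      rw [commutatorElement_eq_one_iff_mul_comm]
      obtain ⟨i, rfl⟩ := Subgroup.mem_zpowers_iff.1 ha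
      obtain ⟨j, rfl⟩ := Subgroup.mem_zpowers_iff.1 hb
      exact (Commute.refl t).zpow_zpow i j |>.eq
    rw [this]; exact T.one_mem
  have hall : ⁅(⊤ : Subgroup Γ), ⊤⁆ ≤ T := by
    rw [← htop]
    exact commutator_sup_le (commutator_sup_le' hRR hRZ) (commutator_sup_le' hZR hZZ)
  have : k ∈ T := hall hk
  exact this

/-- Stem extensions of a group `G = C ⟨s⟩` with `C = ⟨c⟩` cyclic normal: every element of the
kernel has the form `a (t a t⁻¹)⁻¹` with `σ a ∈ C`, where `t` is any lift of `s`. -/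
theorem stem_cyclic_by_cyclic {Γ G : Type*} [Group Γ] [Group G] (σ : Γ →* G)
    (hσ : Cfsg.IsStemExtension σ) (c s : G) [hC : (Subgroup.zpowers c).Normal]
    (htop : Subgroup.zpowers c ⊔ Subgroup.zpowers s = ⊤) (t : Γ) (ht : σ t = s)
    (k : Γ) (hk : k ∈ σ.ker) :
    ∃ a : Γ, σ a ∈ Subgroup.zpowers c ∧ k = a * (t * a * t⁻¹)⁻¹ := by
  obtain ⟨hsurj, hcen, hcomm⟩ := hσ
  obtain ⟨ρ, hρ⟩ := hsurj c
  set R : Subgroup Γ := (Subgroup.zpowers c).comap σ with hR
  have hRmem : ∀ a, a ∈ R ↔ σ a ∈ Subgroup.zpowers c := fun a => Iff.rfl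
  have hdecomp : ∀ a ∈ R, ∃ i : ℤ, ∃ z ∈ σ.ker, a = z * ρ ^ i := by
    intro a ha
    obtain ⟨i, hi⟩ := Subgroup.mem_zpowers_iff.1 ((hRmem a).1 ha)
    refine ⟨i, a * (ρ ^ i)⁻¹, ?_, by group⟩
    rw [MonoidHom.mem_ker, map_mul, map_inv, map_zpow, hρ, hi, mul_inv_cancel]
  have hRc : ∀ a ∈ R, ∀ b ∈ R, a * b = b * a := by
    intro a ha b hb
    obtain ⟨i, z, hz, rfl⟩ := hdecomp a ha
    obtain ⟨j, w, hw, rfl⟩ := hdecomp b hb
    have hzc := Subgroup.mem_center_iff.1 (hcen hz)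
    have hwc := Subgroup.mem_center_iff.1 (hcen hw)
    have hpow : ρ ^ i * ρ ^ j = ρ ^ j * ρ ^ i := ((Commute.refl ρ).zpow_zpow i j).eq
    calc z * ρ ^ i * (w * ρ ^ j) = z * (ρ ^ i * w) * ρ ^ j := by group
      _ = z * (w * ρ ^ i) * ρ ^ j := by rw [hwc (ρ ^ i)]
      _ = z * w * (ρ ^ i * ρ ^ j) := by group
      _ = w * z * (ρ ^ j * ρ ^ i) := by rw [hpow, hwc z]
      _ = w * (z * ρ ^ j) * ρ ^ i := by group
      _ = w * (ρ ^ j * z) * ρ ^ i := by rw [hzc (ρ ^ j)]
      _ = w * ρ ^ j * (z * ρ ^ i) := by group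
  have hRt : ∀ a ∈ R, t * a * t⁻¹ ∈ R := by
    intro a ha
    rw [hRmem, map_mul, map_mul, map_inv, ht]
    exact hC.conj_mem _ ((hRmem a).1 ha) s
  have hRt' : ∀ a ∈ R, t⁻¹ * a * t ∈ R := by
    intro a ha
    rw [hRmem, map_mul, map_mul, map_inv, ht]
    have := hC.conj_mem _ ((hRmem a).1 ha) s⁻¹
    rwa [inv_inv] at this
  have hRtop : R ⊔ Subgroup.zpowers t = ⊤ := by
    have hker : σ.ker ≤ R ⊔ Subgroup.zpowers t := by
      intro z hz
      apply Subgroup.mem_sup_left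
      rw [hRmem, MonoidHom.mem_ker.1 hz]
      exact Subgroup.one_mem _
    have h1 : (R ⊔ Subgroup.zpowers t).map σ = ⊤ := by
      rw [Subgroup.map_sup, hR, Subgroup.map_comap_eq_self_of_surjective hsurj,
        MonoidHom.map_zpowers, ht, htop]
    have h2 := Subgroup.comap_map_eq_self hker
    rw [h1, Subgroup.comap_top] at h2
    exact h2.symm
  obtain ⟨a, ha, hka⟩ := exists_eq_mul_conj_inv_of_mem_commutator R t hRc hRt hRt' hRtop k
    (hcomm hk)
  exact ⟨a, (hRmem a).1 ha, hka⟩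


/-- A group all of whose elements are powers of `z`, with `z ^ n = 1`, is an image of `ZMod n`. -/
theorem exists_surjective_zmod_of_zpowers {H : Type*} [Group H] (n : ℕ) (z : H) (hz : z ^ n = 1)
    (hall : ∀ h : H, h ∈ Subgroup.zpowers z) :
    ∃ π : Multiplicative (ZMod n) →* H, Function.Surjective π := by
  let f : ℤ →+ Additive H := zmultiplesHom (Additive H) (Additive.ofMul z)
  have hf : f n = 0 := by
    show (n : ℤ) • Additive.ofMul z = 0
    rw [natCast_zsmul, ← ofMul_pow, hz]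
    rfl
  let g : ZMod n →+ Additive H := ZMod.lift n ⟨f, hf⟩
  refine ⟨AddMonoidHom.toMultiplicativeLeft g, ?_⟩
  intro h
  obtain ⟨k, rfl⟩ := Subgroup.mem_zpowers_iff.1 (hall h)
  refine ⟨Multiplicative.ofAdd ((k : ℤ) : ZMod n), ?_⟩
  show (g ((k : ℤ) : ZMod n)).toMul = z ^ k
  rw [ZMod.lift_coe]
  show (k • Additive.ofMul z).toMul = z ^ k
  rfl


end Cfsg.Agent.Lib.Helper2
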