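import Mathlib
import Cfsg.Prelude.Def_GeometricClasses
import Cfsg.Agent.Lib.Helper5.TvGL
import Cfsg.Agent.Lib.Helper5.SLSubspaceMax
set_option autoImplicit false
set_option maxHeartbeats 1000000
set_option linter.unusedVariables false
set_option linter.unusedSectionVars false
set_option linter.style.longLine false
set_option linter.unusedSimpArgs false
set_option linter.deprecated false
set_option linter.style.haveILetI false

/-! Subfield subgroups of `SL_n` are maximal (part A): transvections as elements of `GL`,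
their conjugates and commutators, rational vectors, membership in the subfield group. -/

namespace Cfsg.Agent.Lib.Helper2.Sfm

open Matrix Cfsg.Agent.Lib.Helper5.TvGL Cfsg.Agent.Lib.Helper5.SLSubspaceMax

universe u

section Tv

variable {F : Type u} [Field F] {n : ℕ}

/-- the transvection `x ↦ x + ψ(x) u` as an element of `GL` -/
noncomputable def tvG (u ψ : Fin n → F) (h : ψ ⬝ᵥ u = 0) : GL (Fin n) F :=
  Matrix.GeneralLinearGroup.mk'' (tvMat ψ u) (by rw [det_tvMat ψ u h]; exact isUnit_one)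

theorem tvG_val (u ψ : Fin n → F) (h : ψ ⬝ᵥ u = 0) :
    (tvG u ψ h : Matrix (Fin n) (Fin n) F) = tvMat ψ u := rfl

theorem tvMat_eq (u ψ : Fin n → F) : tvMat ψ u = 1 + vecMulVec u ψ := rfl

theorem ring_comm_aux {R : Type*} [Ring R] (a b : R) (ha : a * a = 0) (hb : b * b = 0)
    (hba : b * a = 0) : (1 + a) * (1 + b) * (1 - a) * (1 - b) = 1 + a * b := by
  have h1 : (1 + b) * (1 - a) = 1 - a + b - b * a := by noncomm_ring
  rw [hba, sub_zero] at h1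
  have h2 : (1 + a) * (1 - a + b) = 1 + b + a * b - a * a := by noncomm_ring
  rw [ha, sub_zero] at h2
  have h3 : (1 + b + a * b) * (1 - b) = 1 + a * b - b * b - a * (b * b) := by noncomm_ring
  rw [hb, mul_zero, sub_zero, sub_zero] at h3
  rw [mul_assoc (1 + a), h1, h2, h3]

theorem tvMat_mul_inv (u ψ : Fin n → F) (h : ψ ⬝ᵥ u = 0) : tvMat ψ u * tvMat (-ψ) u = 1 := by
  have hsq : vecMulVec u ψ * vecMulVec u ψ = 0 := by
    rw [vecMulVec_mul_vecMulVec, h, zero_smul, vecMulVec_zero]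
  rw [tvMat_eq, tvMat_eq, vecMulVec_neg]
  have h1 : (1 + vecMulVec u ψ) * (1 + -vecMulVec u ψ) = 1 - vecMulVec u ψ * vecMulVec u ψ := by
    noncomm_ring
  rw [h1, hsq, sub_zero]

theorem tvG_inv_val (u ψ : Fin n → F) (h : ψ ⬝ᵥ u = 0) :
    ((tvG u ψ h)⁻¹ : GL (Fin n) F).1 = tvMat (-ψ) u := by
  have h1 : (tvG u ψ h)⁻¹ = tvG u (-ψ) (by rw [neg_dotProduct, h, neg_zero]) := by
    rw [inv_eq_iff_mul_eq_one]
    apply Units.ext
    rw [Units.val_mul, tvG_val, tvG_val, Units.val_one]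
    exact tvMat_mul_inv u ψ h
  rw [h1, tvG_val]

theorem tvMat_mul_same (u ψ ψ' : Fin n → F) (h : ψ ⬝ᵥ u = 0) :
    tvMat ψ u * tvMat ψ' u = tvMat (ψ + ψ') u := by
  have hsq : vecMulVec u ψ * vecMulVec u ψ' = 0 := by
    rw [vecMulVec_mul_vecMulVec, h, zero_smul, vecMulVec_zero]
  rw [tvMat_eq, tvMat_eq, tvMat_eq, vecMulVec_add]
  have h1 : (1 + vecMulVec u ψ) * (1 + vecMulVec u ψ') =
      1 + (vecMulVec u ψ + vecMulVec u ψ') + vecMulVec u ψ * vecMulVec u ψ' := by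
    noncomm_ring
  rw [h1, hsq, add_zero]

theorem tvMat_smul_comm (u ψ : Fin n → F) (c : F) : tvMat ψ (c • u) = tvMat (c • ψ) u := by
  rw [tvMat_eq, tvMat_eq, smul_vecMulVec, vecMulVec_smul]

/-- conjugating a transvection -/
theorem conj_tvMat (g : GL (Fin n) F) (u ψ : Fin n → F) :
    g.1 * tvMat ψ u * (g⁻¹ : GL (Fin n) F).1 = tvMat (ψ ᵥ* (g⁻¹ : GL (Fin n) F).1) (g.1 *ᵥ u) := by
  rw [tvMat_eq, tvMat_eq, mul_add, add_mul, mul_one, ← Units.val_mul, mul_inv_cancel, Units.val_one,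
    mul_vecMulVec, vecMulVec_mul]

/-- the commutator of two transvections, when the second axis contains the first centre -/
theorem comm_tvMat (v φ w ξ : Fin n → F) (hφv : φ ⬝ᵥ v = 0) (hξw : ξ ⬝ᵥ w = 0) (hξv : ξ ⬝ᵥ v = 0) :
    tvMat φ v * tvMat ξ w * tvMat (-φ) v * tvMat (-ξ) w = tvMat ξ ((φ ⬝ᵥ w) • v) := by
  have ha : vecMulVec v φ * vecMulVec v φ = 0 := by
    rw [vecMulVec_mul_vecMulVec, hφv, zero_smul, vecMulVec_zero]
  have hb : vecMulVec w ξ * vecMulVec w ξ = 0 := by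
    rw [vecMulVec_mul_vecMulVec, hξw, zero_smul, vecMulVec_zero]
  have hba : vecMulVec w ξ * vecMulVec v φ = 0 := by
    rw [vecMulVec_mul_vecMulVec, hξv, zero_smul, vecMulVec_zero]
  have hab : vecMulVec v φ * vecMulVec w ξ = vecMulVec ((φ ⬝ᵥ w) • v) ξ := by
    rw [vecMulVec_mul_vecMulVec, vecMulVec_smul, smul_vecMulVec]
  rw [tvMat_eq, tvMat_eq, tvMat_eq, tvMat_eq, tvMat_eq, vecMulVec_neg, vecMulVec_neg, ← sub_eq_add_neg,
    ← sub_eq_add_neg, ring_comm_aux _ _ ha hb hba, hab]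

/-- `TvIn H u ψ`: the transvection with centre `u` and axis `ψ` lies in `H` -/
def TvIn (H : Subgroup (GL (Fin n) F)) (u ψ : Fin n → F) : Prop :=
  ∃ g ∈ H, (g : Matrix (Fin n) (Fin n) F) = tvMat ψ u

theorem tvIn_of_tvG (H : Subgroup (GL (Fin n) F)) (u ψ : Fin n → F) (h : ψ ⬝ᵥ u = 0)
    (hm : tvG u ψ h ∈ H) : TvIn H u ψ := ⟨_, hm, rfl⟩

theorem tvG_mem_of_tvIn (H : Subgroup (GL (Fin n) F)) (u ψ : Fin n → F) (h : ψ ⬝ᵥ u = 0)
    (hm : TvIn H u ψ) : tvG u ψ h ∈ H := by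
  obtain ⟨g, hg, hgv⟩ := hm
  have : g = tvG u ψ h := Units.ext (by rw [hgv, tvG_val])
  rw [← this]; exact hg

theorem TvIn.smul_comm {H : Subgroup (GL (Fin n) F)} {u ψ : Fin n → F} {c : F}
    (h : TvIn H (c • u) ψ) : TvIn H u (c • ψ) := by
  obtain ⟨g, hg, hgv⟩ := h
  exact ⟨g, hg, by rw [hgv, tvMat_smul_comm]⟩

theorem TvIn.smul_comm' {H : Subgroup (GL (Fin n) F)} {u ψ : Fin n → F} {c : F}
    (h : TvIn H u (c • ψ)) : TvIn H (c • u) ψ := by
  obtain ⟨g, hg, hgv⟩ := h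
  exact ⟨g, hg, by rw [hgv, tvMat_smul_comm]⟩

theorem TvIn.conj {H : Subgroup (GL (Fin n) F)} {u ψ : Fin n → F} (h : TvIn H u ψ)
    (g : GL (Fin n) F) (hg : g ∈ H) :
    TvIn H (g.1 *ᵥ u) (ψ ᵥ* (g⁻¹ : GL (Fin n) F).1) := by
  obtain ⟨t, ht, htv⟩ := h
  refine ⟨g * t * g⁻¹, H.mul_mem (H.mul_mem hg ht) (H.inv_mem hg), ?_⟩
  rw [Units.val_mul, Units.val_mul, htv, conj_tvMat]

theorem TvIn.comm {H : Subgroup (GL (Fin n) F)} {v φ w ξ : Fin n → F} (h1 : TvIn H v φ)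
    (h2 : TvIn H w ξ) (hφv : φ ⬝ᵥ v = 0) (hξw : ξ ⬝ᵥ w = 0) (hξv : ξ ⬝ᵥ v = 0) :
    TvIn H ((φ ⬝ᵥ w) • v) ξ := by
  have m1 := tvG_mem_of_tvIn H v φ hφv h1
  have m2 := tvG_mem_of_tvIn H w ξ hξw h2
  refine ⟨tvG v φ hφv * tvG w ξ hξw * (tvG v φ hφv)⁻¹ * (tvG w ξ hξw)⁻¹,
    H.mul_mem (H.mul_mem (H.mul_mem m1 m2) (H.inv_mem m1)) (H.inv_mem m2), ?_⟩
  rw [Units.val_mul, Units.val_mul, Units.val_mul, tvG_inv_val, tvG_inv_val, tvG_val, tvG_val,
    comm_tvMat v φ w ξ hφv hξw hξv]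

theorem TvIn.mul_same {H : Subgroup (GL (Fin n) F)} {u ψ ψ' : Fin n → F} (h1 : TvIn H u ψ)
    (h2 : TvIn H u ψ') (h : ψ ⬝ᵥ u = 0) : TvIn H u (ψ + ψ') := by
  obtain ⟨g, hg, hgv⟩ := h1
  obtain ⟨g', hg', hgv'⟩ := h2
  exact ⟨g * g', H.mul_mem hg hg', by rw [Units.val_mul, hgv, hgv', tvMat_mul_same u ψ ψ' h]⟩

theorem TvIn.neg {H : Subgroup (GL (Fin n) F)} {u ψ : Fin n → F} (h1 : TvIn H u ψ)
    (h : ψ ⬝ᵥ u = 0) : TvIn H u (-ψ) := by
  have m1 := tvG_mem_of_tvIn H u ψ h h1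
  exact ⟨_, H.inv_mem m1, tvG_inv_val u ψ h⟩

end Tv

section Rat

variable {F : Type u} [Field F] {n : ℕ} (F₀ : Subfield F)

/-- a vector with all coordinates in the subfield -/
def IsRat (v : Fin n → F) : Prop := ∀ i, v i ∈ F₀

variable {F₀}

theorem IsRat.add {v w : Fin n → F} (hv : IsRat F₀ v) (hw : IsRat F₀ w) : IsRat F₀ (v + w) :=
  fun i => F₀.add_mem (hv i) (hw i)

theorem IsRat.sub {v w : Fin n → F} (hv : IsRat F₀ v) (hw : IsRat F₀ w) : IsRat F₀ (v - w) :=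
  fun i => F₀.sub_mem (hv i) (hw i)

theorem IsRat.neg {v : Fin n → F} (hv : IsRat F₀ v) : IsRat F₀ (-v) :=
  fun i => F₀.neg_mem (hv i)

theorem IsRat.smul {v : Fin n → F} {a : F} (ha : a ∈ F₀) (hv : IsRat F₀ v) : IsRat F₀ (a • v) :=
  fun i => F₀.mul_mem ha (hv i)

theorem isRat_zero : IsRat F₀ (0 : Fin n → F) := fun i => F₀.zero_mem

theorem isRat_single (i : Fin n) {a : F} (ha : a ∈ F₀) : IsRat F₀ (Pi.single i a : Fin n → F) := by
  intro j
  by_cases h : j = i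
  · subst h; rw [Pi.single_eq_same]; exact ha
  · rw [Pi.single_eq_of_ne h]; exact F₀.zero_mem

theorem IsRat.dot {v w : Fin n → F} (hv : IsRat F₀ v) (hw : IsRat F₀ w) : v ⬝ᵥ w ∈ F₀ :=
  F₀.sum_mem fun i _ => F₀.mul_mem (hv i) (hw i)

theorem IsRat.lift {v : Fin n → F} (hv : IsRat F₀ v) :
    ∃ v₀ : Fin n → F₀, ∀ i, (v₀ i : F) = v i := ⟨fun i => ⟨v i, hv i⟩, fun i => rfl⟩

theorem isRat_coe (v₀ : Fin n → F₀) : IsRat F₀ (fun i => (v₀ i : F)) := fun i => (v₀ i).2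

/-- over any field, two linear conditions in dimension at least three have a non-zero solution -/
theorem exists_ker_two {K : Type*} [Field K] (hn : 3 ≤ n) (a b : Fin n → K) :
    ∃ z : Fin n → K, z ≠ 0 ∧ a ⬝ᵥ z = 0 ∧ b ⬝ᵥ z = 0 := by
  let f : (Fin n → K) →ₗ[K] (Fin 2 → K) :=
    { toFun := fun z => ![a ⬝ᵥ z, b ⬝ᵥ z]
      map_add' := fun x y => by
        ext i; fin_cases i <;> simp [dotProduct_add]
      map_smul' := fun c x => by
        ext i; fin_cases i <;> simp [dotProduct_smul] }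
  have hlt : Module.finrank K (Fin 2 → K) < Module.finrank K (Fin n → K) := by
    rw [Module.finrank_fin_fun, Module.finrank_fin_fun]; omega
  have hker := LinearMap.ker_ne_bot_of_finrank_lt (f := f) hlt
  obtain ⟨z, hz, hz0⟩ := (Submodule.ne_bot_iff _).1 hker
  rw [LinearMap.mem_ker] at hz
  refine ⟨z, hz0, ?_, ?_⟩
  · have := congrFun hz 0
    simpa [f] using this
  · have := congrFun hz 1
    simpa [f] using this

/-- a non-zero rational vector orthogonal to two given rational vectors -/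
theorem exists_rat_ker_two (hn : 3 ≤ n) {a b : Fin n → F} (ha : IsRat F₀ a) (hb : IsRat F₀ b) :
    ∃ z : Fin n → F, IsRat F₀ z ∧ z ≠ 0 ∧ a ⬝ᵥ z = 0 ∧ b ⬝ᵥ z = 0 := by
  obtain ⟨a₀, ha₀⟩ := ha.lift
  obtain ⟨b₀, hb₀⟩ := hb.lift
  obtain ⟨z₀, hz0, hza, hzb⟩ := exists_ker_two hn a₀ b₀
  have key : ∀ (c₀ : Fin n → F₀) (c : Fin n → F), (∀ i, (c₀ i : F) = c i) → c₀ ⬝ᵥ z₀ = 0 →
      c ⬝ᵥ (fun i => (z₀ i : F)) = 0 := by
    intro c₀ c hc h0
    have h1 := congrArg (fun x : F₀ => (x : F)) h0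
    simp only [dotProduct, ZeroMemClass.coe_zero] at h1
    rw [← h1]
    simp only [dotProduct]
    push_cast
    exact Finset.sum_congr rfl fun i _ => by rw [hc]
  refine ⟨fun i => (z₀ i : F), isRat_coe z₀, ?_, key a₀ a ha₀ hza, key b₀ b hb₀ hzb⟩
  intro h
  apply hz0
  ext i
  have := congrFun h i
  simpa using this

end Rat

section Mem

variable {F : Type u} [Field F] {n : ℕ} (F₀ : Subfield F)

/-- membership in the subfield group: rational entries up to a scalar -/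
theorem mem_subfield_iff (g : GL (Fin n) F) :
    g ∈ Cfsg.Geo.subfieldSubgroup F₀ 1 ↔ ∃ c : F, c ≠ 0 ∧ ∀ i j, c * g.1 i j ∈ F₀ := by
  classical
  have hconj : ∀ x : GL (Fin n) F, (MulAut.conj (1 : GL (Fin n) F)).toMonoidHom x = x := by
    intro x
    show (MulAut.conj (1 : GL (Fin n) F)) x = x
    rw [MulAut.conj_apply, one_mul, inv_one, mul_one]
  constructor
  · intro hM
    unfold Cfsg.Geo.subfieldSubgroup at hM
    rw [Subgroup.mem_map] at hM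
    obtain ⟨g', hg, hgM⟩ := hM
    rw [hconj] at hgM
    subst hgM
    rw [Subgroup.mem_sup_of_normal_right] at hg
    obtain ⟨a, ⟨A₀, rfl⟩, s, hs, has⟩ := hg
    rw [Cfsg.Geo.mem_scalars_iff] at hs
    obtain ⟨c, hc⟩ := hs
    refine ⟨(c : F)⁻¹, inv_ne_zero c.ne_zero, fun i j => ?_⟩
    rw [← has, Units.val_mul, hc, Matrix.mul_smul, Matrix.mul_one, Matrix.smul_apply,
      Matrix.GeneralLinearGroup.map_apply, smul_eq_mul, ← mul_assoc, inv_mul_cancel₀ c.ne_zero,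
      one_mul]
    exact ((A₀ : Matrix (Fin n) (Fin n) F₀) i j).2
  · rintro ⟨w, hw, h⟩
    obtain ⟨A, hA⟩ : ∃ A : Matrix (Fin n) (Fin n) F₀,
        ∀ i j, (A i j : F) = w * (g : Matrix (Fin n) (Fin n) F) i j :=
      ⟨fun i j => ⟨_, h i j⟩, fun i j => rfl⟩
    have hMA : (g : Matrix (Fin n) (Fin n) F) = w⁻¹ • (F₀.subtype.mapMatrix A) := by
      ext i j
      rw [Matrix.smul_apply, RingHom.mapMatrix_apply, Matrix.map_apply, smul_eq_mul]
      show _ = w⁻¹ * (A i j : F)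
      rw [hA, ← mul_assoc, inv_mul_cancel₀ hw, one_mul]
    have hdet : A.det ≠ 0 := by
      intro h0
      have h1 : IsUnit (g : Matrix (Fin n) (Fin n) F).det :=
        (Matrix.isUnit_iff_isUnit_det _).1 g.isUnit
      rw [hMA, Matrix.det_smul, ← RingHom.map_det, h0, map_zero, mul_zero] at h1
      exact not_isUnit_zero h1
    obtain ⟨A₀, hA₀⟩ : ∃ A₀ : GL (Fin n) F₀, (A₀ : Matrix (Fin n) (Fin n) F₀) = A :=
      ⟨Matrix.GeneralLinearGroup.mkOfDetNeZero A hdet, rfl⟩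
    obtain ⟨s, hs1, hs2⟩ : ∃ s : GL (Fin n) F, s ∈ Cfsg.Geo.scalars (Fin n) F ∧
        (s : Matrix (Fin n) (Fin n) F) = w⁻¹ • 1 := by
      refine ⟨Units.map (Matrix.scalar (Fin n) : F →+* Matrix (Fin n) (Fin n) F).toMonoidHom
        (Units.mk0 w⁻¹ (inv_ne_zero hw)), ⟨_, rfl⟩, ?_⟩
      simp [Matrix.smul_one_eq_diagonal]
    have hprod : g = Matrix.GeneralLinearGroup.map (F₀.subtype : F₀ →+* F) A₀ * s := by
      apply Units.ext
      rw [Units.val_mul, hs2, Matrix.mul_smul, Matrix.mul_one]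
      ext i j
      rw [Matrix.smul_apply, Matrix.GeneralLinearGroup.map_apply, hA₀, smul_eq_mul]
      show (g : Matrix (Fin n) (Fin n) F) i j = w⁻¹ * (A i j : F)
      rw [hA, ← mul_assoc, inv_mul_cancel₀ hw, one_mul]
    unfold Cfsg.Geo.subfieldSubgroup
    rw [Subgroup.mem_map]
    refine ⟨g, ?_, hconj g⟩
    rw [hprod]
    exact Subgroup.mul_mem_sup ⟨A₀, rfl⟩ hs1

/-- rational transvections lie in the subfield group and in `SL` -/
theorem rat_tvIn {u ψ : Fin n → F} (hu : IsRat F₀ u) (hψ : IsRat F₀ ψ) (h : ψ ⬝ᵥ u = 0) :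
    TvIn (Cfsg.Geo.subfieldSubgroup F₀ 1 ⊓ Cfsg.Geo.specialLinear (Fin n) F) u ψ := by
  refine ⟨tvG u ψ h, Subgroup.mem_inf.2 ⟨?_, ?_⟩, rfl⟩
  · rw [mem_subfield_iff]
    refine ⟨1, one_ne_zero, fun i j => ?_⟩
    rw [one_mul, tvG_val, tvMat_eq, Matrix.add_apply, vecMulVec_apply, Matrix.one_apply]
    refine F₀.add_mem ?_ (F₀.mul_mem (hu i) (hψ j))
    split_ifs
    · exact F₀.one_mem
    · exact F₀.zero_mem
  · rw [mem_specialLinear_iff, tvG_val]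
    exact det_tvMat ψ u h

end Mem

end Cfsg.Agent.Lib.Helper2.Sfm
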