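import Mathlib

set_option autoImplicit false
set_option linter.style.haveILetI false

namespace Cfsg.Agent.Lib.Helper2.Sut

/-- a field with a non-identity involutive ring endomorphism has square order -/
theorem card_sq_of_invol {E : Type*} [Field E] [Finite E] (h2 : (2 : E) ≠ 0)
    (τ : E →+* E) (hτ2 : ∀ x, τ (τ x) = x) (hne : ∃ y, τ y ≠ y) :
    ∃ m : ℕ, Nat.card E = m * m := by
  obtain ⟨y, hy⟩ := hne
  set w := y - τ y with hw
  have hw0 : w ≠ 0 := sub_ne_zero.mpr (Ne.symm hy)
  have hτw : τ w = -w := by rw [hw, map_sub, hτ2]; ring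
  have hτ2' : τ 2 = 2 := map_ofNat τ 2
  refine ⟨Nat.card {x : E // τ x = x}, ?_⟩
  rw [← Nat.card_prod]
  apply Nat.card_congr
  exact
    { toFun := fun x =>
        (⟨(x + τ x) / 2, by rw [map_div₀, map_add, hτ2, hτ2', add_comm]⟩,
         ⟨(x - τ x) / (2 * w), by
            rw [map_div₀, map_sub, hτ2, map_mul, hτ2', hτw]
            field_simp
            ring⟩)
      invFun := fun ab => ab.1.1 + ab.2.1 * w
      left_inv := by
        intro x
        simp only
        field_simp
        ring
      right_inv := by
        rintro ⟨⟨a, ha⟩, ⟨b, hb⟩⟩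
        simp only
        have h1 : τ (a + b * w) = a - b * w := by
          rw [map_add, map_mul, ha, hb, hτw]; ring
        apply Prod.ext
        · apply Subtype.ext
          simp only
          rw [h1]
          field_simp
          ring
        · apply Subtype.ext
          simp only
          rw [h1]
          field_simp
          ring }

/-- in a field of order `p ^ f` with `f` odd (`p` odd), an involutive ring endomorphism
is the identity -/
theorem invol_eq_id {E : Type*} [Field E] [Finite E] {p f : ℕ} (hp : p.Prime) (hp2 : p ≠ 2)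
    (hf : Odd f) (hcard : Nat.card E = p ^ f) (τ : E →+* E) (hτ2 : ∀ x, τ (τ x) = x) :
    ∀ y, τ y = y := by
  by_contra hcon
  push Not at hcon
  have h2 : (2 : E) ≠ 0 := by
    intro h20
    -- then every element has additive order dividing 2, so card is a power of 2
    have hall : ∀ x : E, x + x = 0 := fun x => by
      have : x + x = 2 * x := by ring
      rw [this, h20, zero_mul]
    have hd : addOrderOf (1 : E) ∣ Nat.card E := addOrderOf_dvd_natCard _
    have h1 : addOrderOf (1 : E) = 2 := by
      apply addOrderOf_eq_prime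
      · rw [two_nsmul]; exact hall 1
      · exact one_ne_zero
    rw [h1, hcard] at hd
    have := (Nat.Prime.dvd_of_dvd_pow Nat.prime_two hd)
    exact hp2 ((Nat.prime_dvd_prime_iff_eq Nat.prime_two hp).mp this).symm
  obtain ⟨m, hm⟩ := card_sq_of_invol h2 τ hτ2 hcon
  rw [hcard] at hm
  have hmd : m ∣ p ^ f := ⟨m, hm⟩
  obtain ⟨j, -, hj⟩ := (Nat.dvd_prime_pow hp).mp hmd
  rw [hj, ← pow_add] at hm
  have := Nat.pow_right_injective hp.two_le hm
  obtain ⟨k, hk⟩ := hf
  omega

end Cfsg.Agent.Lib.Helper2.Sut
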