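import Mathlib
import Cfsg.Prelude.Def_Perm
import Cfsg.Agent.Lib.Lead.NearField
import Cfsg.Agent.Lib.Helper6.ZpA
import Cfsg.Agent.S3375
import Cfsg.Agent.S0682
import Cfsg.Agent.Lib.Helper2.SutA

set_option autoImplicit false
set_option linter.style.haveILetI false

namespace Cfsg.Agent.Lib.Helper2.Sut

open Cfsg Cfsg.Agent.Lib.Lead.NearFieldLib

universe u

section NF
variable {K : Type u} [NearField K]

theorem unit_ne_zero (u : Kˣ) : (u : K) ≠ 0 := by
  intro h
  have h1 : (u : K) * ((u⁻¹ : Kˣ) : K) = 1 := Units.mul_inv u
  rw [h, nf_zero_mul] at h1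
  exact NearField.zero_ne_one h1

theorem exists_unit (a : K) (ha : a ≠ 0) : ∃ u : Kˣ, (u : K) = a :=
  ⟨⟨a, nfInv a ha, mul_nfInv a ha, nfInv_mul a ha⟩, rfl⟩

theorem card_units_add_one [Finite K] : Nat.card Kˣ + 1 = Nat.card K := by
  classical
  rw [← Finite.card_option]
  apply Nat.card_congr
  refine Equiv.ofBijective (fun o : Option Kˣ => match o with
    | none => (0 : K)
    | some u => (u : K)) ⟨?_, ?_⟩
  · intro o o' h
    cases o with
    | none =>
      cases o' with
      | none => rfl
      | some u' => exact absurd h.symm (unit_ne_zero u')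
    | some u =>
      cases o' with
      | none => exact absurd h (unit_ne_zero u)
      | some u' => exact congrArg some (Units.ext h)
  · intro a
    by_cases ha : a = 0
    · exact ⟨none, ha.symm⟩
    · obtain ⟨u, hu⟩ := exists_unit a ha
      exact ⟨some u, hu⟩

end NF

/-- commutativity of the near-field from an involutory automorphism with two fixed points,
an index two subgroup, and odd degree over the prime field -/
theorem nf_comm {K : Type u} [NearField K] [Finite K] {p f : ℕ} (hp : p.Prime) (hp2 : p ≠ 2)
    (hf : Odd f) (hcard : Nat.card K = p ^ f) (T : Kˣ →* Kˣ) (hT2 : ∀ u, T (T u) = u)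
    (hfix : Nat.card {u : Kˣ // T u = u} = 2) (hM : ∃ M : Subgroup Kˣ, M.index = 2) :
    (∀ a b : K, a * b = b * a) ∧ ∃ A : Subgroup Kˣ, A.index = 2 ∧ ∀ a ∈ A, T a = a⁻¹ := by
  classical
  haveI : Finite Kˣ := Finite.of_injective (fun u : Kˣ => (u : K)) (fun u v h => Units.ext h)
  -- from commutativity of units to commutativity of K
  have of_units : (∀ u v : Kˣ, u * v = v * u) → ∀ a b : K, a * b = b * a := by
    intro hU a b
    by_cases ha : a = 0
    · rw [ha, nf_zero_mul, NearField.mul_zero]
    by_cases hb : b = 0
    · rw [hb, nf_zero_mul, NearField.mul_zero]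
    obtain ⟨u, rfl⟩ := exists_unit a ha
    obtain ⟨v, rfl⟩ := exists_unit b hb
    exact congrArg Units.val (hU u v)
  by_cases hTid : ∀ u, T u = u
  · -- the unit group has order 2
    have hc2 : Nat.card Kˣ = 2 := by
      rw [← hfix]
      exact Nat.card_congr (Equiv.subtypeUnivEquiv hTid).symm
    haveI : Fact (Nat.Prime 2) := ⟨Nat.prime_two⟩
    haveI : IsCyclic Kˣ := isCyclic_of_prime_card hc2
    refine ⟨of_units (fun u v => ?_), ⊥, ?_, ?_⟩
    · letI := IsCyclic.commGroup (α := Kˣ)
      exact mul_comm u v
    · rw [Subgroup.index_bot]; exact hc2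
    · intro a ha
      rw [Subgroup.mem_bot] at ha
      rw [ha, map_one, inv_one]
  · -- T is an automorphism of order 2
    let γ : MulAut Kˣ :=
      { toFun := T, invFun := T, left_inv := hT2, right_inv := hT2, map_mul' := T.map_mul }
    have hγ : orderOf γ = 2 := by
      haveI : Fact (Nat.Prime 2) := ⟨Nat.prime_two⟩
      apply orderOf_eq_prime
      · ext u
        change ((T (T u) : Kˣ) : K) = u
        rw [hT2]
      · intro h1
        apply hTid
        intro u
        have := DFunLike.congr_fun h1 u
        exact this
    obtain ⟨A, hAidx, hAc, -, hAinv⟩ :=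
      (Cfsg.Agent.S3375.result γ hγ).2 ⟨hfix, hM⟩
    have hAinv' : ∀ a ∈ A, T a = a⁻¹ := hAinv
    refine ⟨?_, A, hAidx, hAinv'⟩
    apply of_units
    -- additive commutativity
    obtain ⟨_, _, _, _, _, hadd, _⟩ := Cfsg.Agent.S0682.result (F := K)
    letI acg : AddCommGroup K :=
      { (inferInstance : AddGroup K) with add_comm := hadd }
    haveI hAn : A.Normal := Subgroup.normal_of_index_eq_two hAidx
    have hAcomm : ∀ h h' : A, h * h' = h' * h := fun h h' => hAc.is_comm.comm h h'
    -- the action of A on K by right multiplication
    let ρ : A →* AddMonoid.End K :=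
      { toFun := fun a =>
          { toFun := fun x => x * ((a : Kˣ) : K)
            map_zero' := nf_zero_mul _
            map_add' := fun x y => NearField.right_distrib x y _ }
        map_one' := by
          ext x
          change x * ((1 : Kˣ) : K) = x
          rw [Units.val_one, mul_one]
        map_mul' := by
          intro a b
          ext x
          change x * (((a * b : A) : Kˣ) : K) = (x * ((b : Kˣ) : K)) * ((a : Kˣ) : K)
          rw [hAcomm a b, Subgroup.coe_mul, Units.val_mul, mul_assoc] }
    have hρ : ∀ (a : A) (x : K), ρ a x = x * ((a : Kˣ) : K) := fun a x => rfl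
    have hsemi : ∀ h : A, ∀ v : K, v ≠ 0 → ρ h v = v → h = 1 := by
      intro h v hv hh
      rw [hρ] at hh
      have h1 : v * ((h : Kˣ) : K) = v * 1 := by rw [hh, mul_one]
      have h2 := nf_mul_left_cancel hv h1
      apply Subtype.ext
      apply Units.ext
      rw [h2]; rfl
    have hcU := card_units_add_one (K := K)
    have hcA : Nat.card A * 2 = Nat.card Kˣ := by
      rw [← hAidx]; exact A.card_mul_index
    have hcardA : Nat.card K = 2 * Nat.card A + 1 := by omega
    have h10 : (1 : K) ≠ 0 := fun h => NearField.zero_ne_one h.symm
    obtain ⟨E, fE, ftE, ev, χ, hbij, hev1, hevadd, hχmul, hχ1, hχinj, hact⟩ :=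
      Cfsg.Agent.Lib.Helper6.Zp.exists_field ρ hAcomm hsemi hcardA 1 h10
    have hact' : ∀ (a : A) (x : E), ev (χ a * x) = ev x * ((a : Kˣ) : K) := fun a x => by
      rw [hact, hρ]
    have hev0 : ev 0 = 0 := by
      have := hevadd 0 0
      rw [add_zero] at this
      exact (add_eq_left (a := ev 0) (b := ev 0)).mp this.symm
    have hcardE : Nat.card E = p ^ f := by
      rw [← hcard]; exact Nat.card_congr (Equiv.ofBijective ev hbij)
    have hχne : ∀ a : A, χ a ≠ 0 := by
      intro a h0
      have h1 : χ a * χ a⁻¹ = 1 := by rw [← hχmul, mul_inv_cancel, hχ1]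
      rw [h0, zero_mul] at h1
      exact zero_ne_one h1
    -- every unit acts on E as a multiplication
    have hform : ∀ h : Kˣ, ∃ c : E, ∀ y : E, ev (c * y) = ev y * (h : K) := by
      intro h
      have hh0 : (h : K) ≠ 0 := unit_ne_zero h
      -- the transported map
      obtain ⟨g, hg⟩ : ∃ g : E → E, ∀ y, ev (g y) = ev y * (h : K) := by
        refine ⟨fun y => (Equiv.ofBijective ev hbij).symm (ev y * (h : K)), fun y => ?_⟩
        exact (Equiv.ofBijective ev hbij).apply_symm_apply _
      have hgadd : ∀ x y, g (x + y) = g x + g y := by
        intro x y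
        apply hbij.1
        rw [hg, hevadd, NearField.right_distrib, hevadd, hg, hg]
      have hg0 : g 0 = 0 := by
        have := hgadd 0 0
        rw [add_zero] at this
        exact (add_eq_left (a := g 0) (b := g 0)).mp this.symm
      have hgneg : ∀ x, g (-x) = -g x := by
        intro x
        have := hgadd x (-x)
        rw [add_neg_cancel, hg0] at this
        exact (neg_eq_of_add_eq_zero_right this.symm).symm
      have hginj : Function.Injective g := by
        intro x y hxy
        apply hbij.1
        have h1 : ev x * (h : K) = ev y * (h : K) := by rw [← hg, ← hg, hxy]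
        exact nf_mul_right_cancel hh0 h1
      -- conjugation relation
      have hconj : ∀ a : A, ∃ a' : A, ∀ y, g (χ a * y) = χ a' * g y := by
        intro a
        have hmem : h⁻¹ * (a : Kˣ) * h ∈ A := by
          have := hAn.conj_mem (a : Kˣ) a.2 h⁻¹
          simpa using this
        refine ⟨⟨h⁻¹ * (a : Kˣ) * h, hmem⟩, fun y => ?_⟩
        apply hbij.1
        rw [hg, hact', hact', hg, mul_assoc, mul_assoc]
        congr 1
        have h1 : ((a : Kˣ) : K) * (h : K) = ((a * h : Kˣ) : K) := (Units.val_mul _ _).symm
        have h2 : (h : K) * ((h⁻¹ * (a : Kˣ) * h : Kˣ) : K) = ((h * (h⁻¹ * (a : Kˣ) * h) : Kˣ) : K) :=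
          (Units.val_mul _ _).symm
        rw [h1]
        change _ = (h : K) * ((h⁻¹ * (a : Kˣ) * h : Kˣ) : K)
        rw [h2]
        congr 1
        group
      -- the additive subgroup R
      let R : AddSubgroup E :=
        { carrier := {y | ∃ y', ∀ x, g (y * x) = y' * g x}
          zero_mem' := ⟨0, fun x => by rw [zero_mul, zero_mul, hg0]⟩
          add_mem' := by
            rintro y₁ y₂ ⟨z₁, h₁⟩ ⟨z₂, h₂⟩
            exact ⟨z₁ + z₂, fun x => by rw [add_mul, hgadd, h₁, h₂, add_mul]⟩
          neg_mem' := by
            rintro y ⟨z, hz⟩
            exact ⟨-z, fun x => by rw [neg_mul, hgneg, hz, neg_mul]⟩ }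
      have hχR : ∀ a : A, χ a ∈ R := fun a => by
        obtain ⟨a', ha'⟩ := hconj a
        exact ⟨χ a', ha'⟩
      have hRtop : R = ⊤ := by
        rw [← AddSubgroup.card_eq_iff_eq_top]
        have hdvd : Nat.card R ∣ Nat.card E := AddSubgroup.card_addSubgroup_dvd_card R
        have hle : Nat.card A + 1 ≤ Nat.card R := by
          rw [← Finite.card_option]
          refine Nat.card_le_card_of_injective (fun o : Option A => match o with
            | none => (⟨0, R.zero_mem⟩ : R)
            | some a => ⟨χ a, hχR a⟩) ?_
          intro o o' hoo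
          cases o with
          | none =>
            cases o' with
            | none => rfl
            | some a' =>
              exfalso
              have := congrArg Subtype.val hoo
              exact hχne a' this.symm
          | some a =>
            cases o' with
            | none =>
              exfalso
              have := congrArg Subtype.val hoo
              exact hχne a this
            | some a' =>
              have := congrArg Subtype.val hoo
              exact congrArg some (hχinj this)
        have hcE : Nat.card E = 2 * Nat.card A + 1 := by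
          rw [← hcardA]; exact Nat.card_congr (Equiv.ofBijective ev hbij)
        obtain ⟨m, hm⟩ := hdvd
        rcases m with _ | _ | m
        · omega
        · omega
        · exfalso
          have : Nat.card R * (m + 1 + 1) = Nat.card R * m + 2 * Nat.card R := by ring
          omega
      set c : E := g 1 with hc
      have hc0 : c ≠ 0 := by
        intro h0
        have : g 1 = g 0 := by rw [← hc, h0, hg0]
        exact one_ne_zero (hginj this)
      have hstar : ∀ y x : E, g (y * x) = g y * g x / c := by
        intro y x
        have hy : y ∈ R := by rw [hRtop]; exact AddSubgroup.mem_top y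
        obtain ⟨y', hy'⟩ := hy
        have h1 := hy' 1
        rw [mul_one, ← hc] at h1
        rw [hy' x, h1]
        field_simp
      -- g ∘ g is multiplication by χ(h²)
      have hsq : h * h ∈ A := Subgroup.mul_self_mem_of_index_two hAidx h
      have hgg : ∀ x, g (g x) = χ ⟨h * h, hsq⟩ * x := by
        intro x
        apply hbij.1
        rw [hg, hg, hact', mul_assoc]
        rfl
      -- the ring endomorphism
      let τ : E →+* E :=
        { toFun := fun y => g y / c
          map_one' := div_self hc0
          map_mul' := fun y x => by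
            rw [hstar]
            field_simp
          map_zero' := by rw [hg0, zero_div]
          map_add' := fun y x => by rw [hgadd, add_div] }
      have hτ : ∀ y, τ y = g y / c := fun y => rfl
      have hτ2 : ∀ y, τ (τ y) = y := by
        have hk : ∀ y, τ (τ y) = (χ ⟨h * h, hsq⟩ * g c⁻¹ / (c * c)) * y := by
          intro y
          rw [hτ, hτ, div_eq_mul_inv (g y) c, hstar, hgg]
          field_simp
        intro y
        have h1 := hk 1
        rw [map_one, map_one, mul_one] at h1
        rw [hk, ← h1, one_mul]
      have hτid := invol_eq_id hp hp2 hf hcardE τ hτ2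
      refine ⟨c, fun y => ?_⟩
      have h1 : g y = c * y := by
        have := hτid y
        rw [hτ] at this
        field_simp at this
        rw [this, mul_comm]
      rw [← h1, hg]
    -- commutativity
    intro u v
    obtain ⟨cu, hcu⟩ := hform u
    obtain ⟨cv, hcv⟩ := hform v
    apply Units.ext
    rw [Units.val_mul, Units.val_mul]
    have h1 : ev (cv * (cu * 1)) = (u : K) * (v : K) := by
      rw [hcv, hcu, hev1, one_mul]
    have h2 : ev (cu * (cv * 1)) = (v : K) * (u : K) := by
      rw [hcu, hcv, hev1, one_mul]
    rw [← h1, ← h2]
    congr 1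
    ring

end Cfsg.Agent.Lib.Helper2.Sut
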