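import Mathlib
import Cfsg.Prelude.Def_Perm
import Cfsg.Agent.Lib.Lead.S3A
import Cfsg.Agent.Lib.Helper2.SutB

set_option autoImplicit false
set_option linter.style.haveILetI false

namespace Cfsg.Agent.Lib.Helper2.Sut

open MulAction Cfsg Cfsg.Agent.Lib.Lead Cfsg.Agent.Lib.Lead.NearFieldLib Cfsg.Agent.Lib.Lead.S3

section Setup

variable {α : Type*} [Fintype α] [DecidableEq α] (G : Subgroup (Equiv.Perm α)) (inf : α)

/-- affine description of the point stabiliser (both directions) -/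
theorem aff_desc [NearField (Pt inf)]
    (hdesc : ∀ σ : Equiv.Perm (Pt inf), σ ∈ stabRestrict G inf ↔
      ∃ a b : Pt inf, a ≠ 0 ∧ ∀ x : Pt inf, σ x = x * a + b) :
    (∀ g ∈ G, g inf = inf → ∃ a b : Pt inf, a ≠ 0 ∧
      ∀ x : Pt inf, g (x : α) = ((x * a + b : Pt inf) : α)) ∧
    (∀ a b : Pt inf, a ≠ 0 → ∃ g ∈ G, g inf = inf ∧
      ∀ x : Pt inf, g (x : α) = ((x * a + b : Pt inf) : α)) := by
  constructor
  · intro g hg hgi
    have hmem : restr inf g hgi ∈ stabRestrict G inf := by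
      rw [mem_stabRestrict, ofSubtype_restrict inf hgi]; exact hg
    obtain ⟨a, b, ha, hab⟩ := (hdesc _).mp hmem
    refine ⟨a, b, ha, fun x => ?_⟩
    rw [← hab x, restr_apply]
  · intro a b ha
    have hmem : affPerm a ha b ∈ stabRestrict G inf :=
      (hdesc _).mpr ⟨a, b, ha, fun x => rfl⟩
    refine ⟨Equiv.Perm.ofSubtype (affPerm a ha b), hmem, ?_, fun x => ?_⟩
    · exact Equiv.Perm.ofSubtype_apply_of_not_mem _ (fun h => h rfl)
    · rw [Equiv.Perm.ofSubtype_apply_coe, affPerm_apply]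

/-- the involution `t` swapping `inf` and `0`, fixing `1`, and the induced multiplicative
involution `τ` of the near-field -/
theorem exists_tau [NearField (Pt inf)] (h3 : IsMultiplyPretransitive G α 3)
    (hsharp : ∀ x : Fin 3 ↪ α, stabilizer G x = ⊥)
    (hA : ∀ g ∈ G, g inf = inf → ∃ a b : Pt inf, a ≠ 0 ∧
      ∀ x : Pt inf, g (x : α) = ((x * a + b : Pt inf) : α))
    (hA' : ∀ a b : Pt inf, a ≠ 0 → ∃ g ∈ G, g inf = inf ∧
      ∀ x : Pt inf, g (x : α) = ((x * a + b : Pt inf) : α)) :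
    ∃ tp : Equiv.Perm α, tp ∈ G ∧ tp inf = ((0 : Pt inf) : α) ∧ tp ((0 : Pt inf) : α) = inf ∧
      tp ((1 : Pt inf) : α) = ((1 : Pt inf) : α) ∧ (∀ z : α, tp (tp z) = z) ∧
      ∃ τ : Pt inf → Pt inf, (∀ x : Pt inf, x ≠ 0 → ((τ x : Pt inf) : α) = tp (x : α)) ∧
        (∀ x : Pt inf, x ≠ 0 → τ x ≠ 0) ∧ (∀ x : Pt inf, x ≠ 0 → τ (τ x) = x) ∧ τ 1 = 1 ∧
        (∀ a b : Pt inf, a ≠ 0 → b ≠ 0 → τ (b * a) = τ b * τ a) := by
  have hoi : ((0 : Pt inf) : α) ≠ inf := (0 : Pt inf).2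
  have hei : ((1 : Pt inf) : α) ≠ inf := (1 : Pt inf).2
  have hoe : ((0 : Pt inf) : α) ≠ ((1 : Pt inf) : α) := fun h =>
    NearField.zero_ne_one (Subtype.ext h)
  obtain ⟨t, ht0, hti, hte⟩ := Sharp3.exists_map3 h3 (p := ((0 : Pt inf) : α)) (q := inf)
    (r := ((1 : Pt inf) : α)) (p' := inf) (q' := ((0 : Pt inf) : α)) (r' := ((1 : Pt inf) : α))
    hoi hoe hei.symm hoi.symm hei.symm hoe
  have htt0 : t * t = 1 := by
    apply Sharp3.eq_one_of_fix3 hsharp hoi hoe hei.symm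
    · rw [mul_smul, ht0, hti]
    · rw [mul_smul, hti, ht0]
    · rw [mul_smul, hte, hte]
  obtain ⟨tp, htp⟩ : ∃ tp : Equiv.Perm α, tp = (t : Equiv.Perm α) := ⟨_, rfl⟩
  have htpG : tp ∈ G := htp ▸ t.2
  have ht0' : tp ((0 : Pt inf) : α) = inf := by rw [htp]; exact ht0
  have hti' : tp inf = ((0 : Pt inf) : α) := by rw [htp]; exact hti
  have hte' : tp ((1 : Pt inf) : α) = ((1 : Pt inf) : α) := by rw [htp]; exact hte
  have htt : ∀ x : α, tp (tp x) = x := by
    intro x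
    have h2 : ((t * t : G) : Equiv.Perm α) x = x := by rw [htt0]; rfl
    rw [htp]; exact h2
  have hne_inf : ∀ x : Pt inf, x ≠ 0 → tp (x : α) ≠ inf := by
    intro x hx h
    apply hx
    apply Subtype.ext
    apply tp.injective
    rw [h, ht0']
  have hne_o : ∀ x : Pt inf, tp (x : α) ≠ ((0 : Pt inf) : α) := by
    intro x h
    apply x.2
    apply tp.injective
    rw [h, hti']
  obtain ⟨τ, hτ⟩ : ∃ τ : Pt inf → Pt inf,
      ∀ x : Pt inf, x ≠ 0 → ((τ x : Pt inf) : α) = tp (x : α) := by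
    classical
    refine ⟨fun x => if hx : x = 0 then 0 else ⟨tp (x : α), hne_inf x hx⟩, fun x hx => ?_⟩
    dsimp only
    rw [dif_neg hx]
  have hτ0 : ∀ x : Pt inf, x ≠ 0 → τ x ≠ 0 := by
    intro x hx h
    apply hne_o x
    rw [← hτ x hx, h]
  have hττ : ∀ x : Pt inf, x ≠ 0 → τ (τ x) = x := by
    intro x hx
    apply Subtype.ext
    rw [hτ (τ x) (hτ0 x hx), hτ x hx, htt]
  have hτ1 : τ 1 = 1 := by
    apply Subtype.ext
    rw [hτ 1 (Ne.symm NearField.zero_ne_one)]; exact hte'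
  have hmul : ∀ a b : Pt inf, a ≠ 0 → b ≠ 0 → τ (b * a) = τ b * τ a := by
    intro a b ha hb
    obtain ⟨m, hmG, hmi, hm⟩ := hA' a 0 ha
    have hm' : ∀ x : Pt inf, m (x : α) = ((x * a : Pt inf) : α) := fun x => by
      rw [hm x, add_zero]
    have hcG : tp * m * tp ∈ G := G.mul_mem (G.mul_mem htpG hmG) htpG
    have hc : ∀ z : α, (tp * m * tp) z = tp (m (tp z)) := fun z => rfl
    have hci : (tp * m * tp) inf = inf := by
      rw [hc, hti', hm', nf_zero_mul, ht0']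
    obtain ⟨a', b', ha', hab'⟩ := hA _ hcG hci
    have hb' : b' = 0 := by
      have h1 := hab' 0
      rw [hc, ht0', hmi, hti', nf_zero_mul, zero_add] at h1
      exact (Subtype.ext h1).symm
    have ha'' : a' = τ a := by
      have h1 := hab' 1
      rw [hc, hte', hm', one_mul, ← hτ a ha, one_mul, hb', add_zero] at h1
      exact (Subtype.ext h1).symm
    have h2 := hab' (τ b)
    rw [hc, hτ b hb, htt, hm', ← hτ (b * a) (nf_mul_ne_zero hb ha), hb', add_zero, ha''] at h2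
    exact Subtype.ext h2
  exact ⟨tp, htpG, hti', ht0', hte', htt, τ, hτ, hτ0, hττ, hτ1, hmul⟩

end Setup

end Cfsg.Agent.Lib.Helper2.Sut
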