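import Mathlib

set_option autoImplicit false
set_option linter.style.haveILetI false

namespace Cfsg.Agent.Lib.Helper2.Sut

/-- field level: an involution-like map which inverts an index two subgroup and satisfies the
functional equation is the inversion -/
theorem tau_eq_inv {K : Type*} [Field K] [Finite K] (A : Subgroup Kˣ) (hA : A.index = 2)
    (τ : K → K) (hmul : ∀ a b : K, a ≠ 0 → b ≠ 0 → τ (b * a) = τ b * τ a)
    (hinv : ∀ a ∈ A, τ (a : K) = ((a⁻¹ : Kˣ) : K))
    (hFE : ∀ x : K, x ≠ 0 → x ≠ -1 → τ (τ x + 1) = 1 - τ (x + 1)) :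
    ∀ x : K, x ≠ 0 → τ x = x⁻¹ := by
  classical
  haveI : Fintype K := Fintype.ofFinite K
  -- Step 1: some x ∈ A has x + 1 ≠ 0 and x + 1 ∉ A
  obtain ⟨u₀, hu₀A, hν0, hνA⟩ : ∃ u₀ ∈ A, ∃ h0 : (u₀ : K) + 1 ≠ 0,
      Units.mk0 ((u₀ : K) + 1) h0 ∉ A := by
    by_contra hcon
    push Not at hcon
    -- the set S = {0} ∪ A
    have hS1 : ∀ y : K, (y = 0 ∨ ∃ u ∈ A, (u : K) = y) → (y + 1 = 0 ∨ ∃ u ∈ A, (u : K) = y + 1) := by
      rintro y (rfl | ⟨u, hu, rfl⟩)
      · right; exact ⟨1, A.one_mem, by simp⟩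
      · by_cases h0 : (u : K) + 1 = 0
        · left; exact h0
        · right; exact ⟨_, hcon u hu h0, rfl⟩
    have hSmul : ∀ y z : K, (y = 0 ∨ ∃ u ∈ A, (u : K) = y) → (z = 0 ∨ ∃ u ∈ A, (u : K) = z) →
        (y * z = 0 ∨ ∃ u ∈ A, (u : K) = y * z) := by
      rintro y z (rfl | ⟨u, hu, rfl⟩) (rfl | ⟨v, hv, rfl⟩)
      · left; simp
      · left; simp
      · left; simp
      · right; exact ⟨u * v, A.mul_mem hu hv, by simp⟩
    have hSadd : ∀ y z : K, (y = 0 ∨ ∃ u ∈ A, (u : K) = y) → (z = 0 ∨ ∃ u ∈ A, (u : K) = z) →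
        (y + z = 0 ∨ ∃ u ∈ A, (u : K) = y + z) := by
      rintro y z hy (rfl | ⟨v, hv, rfl⟩)
      · rw [add_zero]; exact hy
      · have h1 : (y * ((v⁻¹ : Kˣ) : K) = 0 ∨ ∃ u ∈ A, (u : K) = y * ((v⁻¹ : Kˣ) : K)) :=
          hSmul _ _ hy (Or.inr ⟨v⁻¹, A.inv_mem hv, rfl⟩)
        have h2 := hS1 _ h1
        have h3 := hSmul _ _ h2 (Or.inr ⟨v, hv, rfl⟩)
        have h4 : (y * ((v⁻¹ : Kˣ) : K) + 1) * (v : K) = y + v := by
          rw [add_mul, mul_assoc, Units.inv_mul, mul_one, one_mul]
        rw [h4] at h3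
        exact h3
    have hSnat : ∀ n : ℕ, ((n : K) = 0 ∨ ∃ u ∈ A, (u : K) = (n : K)) := by
      intro n
      induction n with
      | zero => left; simp
      | succ n ih =>
        have := hS1 _ ih
        rwa [Nat.cast_succ]
    have hSneg1 : ((-1 : K) = 0 ∨ ∃ u ∈ A, (u : K) = (-1 : K)) := by
      have h1 : ((Fintype.card K - 1 : ℕ) : K) = -1 := by
        have hpos : 1 ≤ Fintype.card K := Fintype.card_pos
        have h2 : ((Fintype.card K - 1 : ℕ) : K) + 1 = 0 := by
          have : ((Fintype.card K - 1 + 1 : ℕ) : K) = 0 := by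
            rw [Nat.sub_add_cancel hpos]; exact Nat.cast_card_eq_zero K
          rwa [Nat.cast_succ] at this
        exact eq_neg_of_add_eq_zero_left h2
      rw [← h1]; exact hSnat _
    let S : AddSubgroup K :=
      { carrier := {y | y = 0 ∨ ∃ u ∈ A, (u : K) = y}
        zero_mem' := Or.inl rfl
        add_mem' := fun {y z} hy hz => hSadd y z hy hz
        neg_mem' := fun {y} hy => by
          have := hSmul _ _ hSneg1 hy
          rwa [neg_one_mul] at this }
    have hStop : S = ⊤ := by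
      rw [← AddSubgroup.card_eq_iff_eq_top]
      have hdvd : Nat.card S ∣ Nat.card K := AddSubgroup.card_addSubgroup_dvd_card S
      have hle : Nat.card A + 1 ≤ Nat.card S := by
        rw [← Finite.card_option]
        refine Nat.card_le_card_of_injective (fun o : Option A => match o with
          | none => (⟨0, S.zero_mem⟩ : S)
          | some a => ⟨((a : Kˣ) : K), Or.inr ⟨a, a.2, rfl⟩⟩) ?_
        intro o o' hoo
        cases o with
        | none =>
          cases o' with
          | none => rfl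
          | some a' =>
            exfalso
            have := congrArg Subtype.val hoo
            exact (a' : Kˣ).ne_zero this.symm
        | some a =>
          cases o' with
          | none =>
            exfalso
            have := congrArg Subtype.val hoo
            exact (a : Kˣ).ne_zero this
          | some a' =>
            have := congrArg Subtype.val hoo
            exact congrArg some (Subtype.ext (Units.ext this))
      have hcK : Nat.card K = Nat.card Kˣ + 1 := by
        rw [Nat.card_eq_fintype_card, Nat.card_eq_fintype_card, Fintype.card_units]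
        have hpos : 1 ≤ Fintype.card K := Fintype.card_pos
        omega
      have hcA : Nat.card A * 2 = Nat.card Kˣ := by rw [← hA]; exact A.card_mul_index
      obtain ⟨m, hm⟩ := hdvd
      rcases m with _ | _ | m
      · omega
      · omega
      · exfalso
        have : Nat.card S * (m + 1 + 1) = Nat.card S * m + 2 * Nat.card S := by ring
        omega
    -- then A = ⊤
    have hAtop : A = ⊤ := by
      rw [Subgroup.eq_top_iff']
      intro u
      have hu : (u : K) ∈ S := by rw [hStop]; exact AddSubgroup.mem_top _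
      rcases hu with h0 | ⟨v, hv, hvu⟩
      · exact absurd h0 u.ne_zero
      · have : v = u := Units.ext hvu
        rwa [this] at hv
    rw [hAtop, Subgroup.index_top] at hA
    omega
  set x : K := (u₀ : K) with hx
  set ν : K := x + 1 with hν
  set νu : Kˣ := Units.mk0 ν hν0 with hνu
  have hx0 : x ≠ 0 := u₀.ne_zero
  have hxm1 : x ≠ -1 := by
    intro h
    apply hν0
    rw [hν, h]; ring
  have hτx : τ x = x⁻¹ := by
    rw [hx, hinv u₀ hu₀A]; simp
  -- the unit of τx + 1
  have h1 : τ x + 1 = ν * x⁻¹ := by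
    rw [hτx, hν]
    field_simp
    ring
  have hne1 : ν * x⁻¹ ≠ 0 := mul_ne_zero hν0 (inv_ne_zero hx0)
  -- τ (ν * a) = τ ν * a⁻¹ for a ∈ A
  have hτν : ∀ a ∈ A, τ (ν * (a : K)) = τ ν * ((a⁻¹ : Kˣ) : K) := by
    intro a ha
    rw [hmul (a : K) ν a.ne_zero hν0, hinv a ha]
  -- for m ∉ A: τ m = ν τν / m
  have hnon : ∀ mu : Kˣ, mu ∉ A → τ (mu : K) = ν * τ ν * (mu : K)⁻¹ := by
    intro mu hmu
    have hmem : νu⁻¹ * mu ∈ A := by
      rw [Subgroup.mul_mem_iff_of_index_two hA]
      constructor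
      · intro h; exact absurd (by simpa using A.inv_mem h) hνA
      · intro h; exact absurd h hmu
    have h2 : (mu : K) = ν * ((νu⁻¹ * mu : Kˣ) : K) := by
      rw [Units.val_mul, ← mul_assoc]
      have : ν * ((νu⁻¹ : Kˣ) : K) = 1 := by
        have := Units.mul_inv νu
        simpa [hνu] using this
      rw [this, one_mul]
    have h3 : (((νu⁻¹ * mu)⁻¹ : Kˣ) : K) = ν * (mu : K)⁻¹ := by
      rw [mul_inv_rev, inv_inv, Units.val_mul, Units.val_inv_eq_inv_val, mul_comm]
      rfl
    calc τ (mu : K) = τ (ν * ((νu⁻¹ * mu : Kˣ) : K)) := by rw [← h2]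
      _ = τ ν * (((νu⁻¹ * mu)⁻¹ : Kˣ) : K) := hτν _ hmem
      _ = τ ν * (ν * (mu : K)⁻¹) := by rw [h3]
      _ = ν * τ ν * (mu : K)⁻¹ := by ring
  -- the unit ν x⁻¹ is not in A
  have hnotA : Units.mk0 (ν * x⁻¹) hne1 ∉ A := by
    have heq : Units.mk0 (ν * x⁻¹) hne1 = νu * u₀⁻¹ := by
      apply Units.ext
      simp [hνu, hx]
    rw [heq, Subgroup.mul_mem_iff_of_index_two hA]
    intro h
    exact hνA (h.mpr (A.inv_mem hu₀A))
  -- the functional equation at x
  have hfe := hFE x hx0 hxm1
  rw [h1] at hfe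
  have h5 := hnon (Units.mk0 (ν * x⁻¹) hne1) hnotA
  rw [Units.val_mk0] at h5
  rw [h5] at hfe
  -- hfe : ν * τ ν * (ν * x⁻¹)⁻¹ = 1 - τ ν
  have hκ : ν * τ ν = 1 := by
    have h6 : ν * τ ν * (ν * x⁻¹)⁻¹ = τ ν * x := by
      field_simp
    rw [h6] at hfe
    have : τ ν * (x + 1) = 1 := by linear_combination hfe
    rw [← hν] at this
    rw [mul_comm]; exact this
  intro y hy
  by_cases hyA : Units.mk0 y hy ∈ A
  · have := hinv _ hyA
    simpa using this
  · have := hnon _ hyA
    rw [Units.val_mk0, hκ, one_mul] at this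
    exact this

end Cfsg.Agent.Lib.Helper2.Sut
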