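import Mathlib
import Cfsg.Agent.S0016
import Cfsg.Agent.S0106
import Cfsg.Agent.S2910

set_option autoImplicit false

namespace Cfsg.Agent.Lib.Helper2.Stt

universe u

/-- no `C_p × C_p`, and at most one subgroup of order 3 -/
def P12 (X : Type*) [Group X] : Prop :=
  (∀ p : ℕ, p.Prime → ∀ x y : X, x ^ p = 1 → y ^ p = 1 → x * y = y * x → x ≠ 1 →
      y ∈ Subgroup.zpowers x) ∧
  (∀ A B : Subgroup X, Nat.card A = 3 → Nat.card B = 3 → A = B)

theorem P12.subgroup {X : Type*} [Group X] (h : P12 X) (K : Subgroup X) : P12 K := by
  refine ⟨?_, ?_⟩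
  · intro p hp x y hx hy hxy hx1
    have hx' : (x : X) ^ p = 1 := by rw [← Subgroup.coe_pow, hx, Subgroup.coe_one]
    have hy' : (y : X) ^ p = 1 := by rw [← Subgroup.coe_pow, hy, Subgroup.coe_one]
    have hxy' : (x : X) * (y : X) = (y : X) * (x : X) := by
      rw [← Subgroup.coe_mul, hxy, Subgroup.coe_mul]
    have hx1' : (x : X) ≠ 1 := fun hh => hx1 (Subtype.ext (by simpa using hh))
    obtain ⟨k, hk⟩ := Subgroup.mem_zpowers_iff.mp (h.1 p hp _ _ hx' hy' hxy' hx1')
    exact Subgroup.mem_zpowers_iff.mpr ⟨k, Subtype.ext (by rw [Subgroup.coe_zpow]; exact hk)⟩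
  · intro A B hA hB
    have h1 : Nat.card (A.map K.subtype) = 3 := by
      rw [Subgroup.card_map_of_injective K.subtype_injective]; exact hA
    have h2 : Nat.card (B.map K.subtype) = 3 := by
      rw [Subgroup.card_map_of_injective K.subtype_injective]; exact hB
    exact Subgroup.map_injective K.subtype_injective (h.2 _ _ h1 h2)

theorem P12.sylow_unique {X : Type*} [Group X] [Finite X] (h : P12 X) (p : ℕ)
    [hp : Fact p.Prime] (P : Sylow p X) :
    ∀ A B : Subgroup (P : Subgroup X), Nat.card A = p → Nat.card B = p → A = B := by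
  intro A B hA hB
  have hPnt : Nontrivial (P : Subgroup X) := by
    have h2 : 1 < Nat.card A := by rw [hA]; exact hp.out.one_lt
    haveI : Nontrivial A := Finite.one_lt_card_iff_nontrivial.mp h2
    obtain ⟨a, b, hab⟩ := exists_pair_ne A
    exact ⟨⟨(a : (P : Subgroup X)), (b : (P : Subgroup X)), fun hh => hab (Subtype.ext hh)⟩⟩
  have hPg : IsPGroup p (P : Subgroup X) := P.isPGroup'
  haveI hcn : Nontrivial (Subgroup.center (P : Subgroup X)) := hPg.center_nontrivial
  obtain ⟨z, hz⟩ : ∃ z : Subgroup.center (P : Subgroup X), orderOf z = p := by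
    apply exists_prime_orderOf_dvd_card' p
    have hcg : IsPGroup p (Subgroup.center (P : Subgroup X)) := hPg.to_subgroup _
    rcases hcg.card_eq_or_dvd with h1 | h1
    · exfalso
      have : 1 < Nat.card (Subgroup.center (P : Subgroup X)) := Finite.one_lt_card
      omega
    · exact h1
  have hzP : orderOf (z : (P : Subgroup X)) = p := by rw [Subgroup.orderOf_coe]; exact hz
  have key : ∀ A : Subgroup (P : Subgroup X), Nat.card A = p →
      A = Subgroup.zpowers (z : (P : Subgroup X)) := by
    intro A hA
    haveI : IsCyclic A := isCyclic_of_prime_card hA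
    obtain ⟨y, hy⟩ := IsCyclic.exists_generator (α := A)
    have hyp : y ^ p = 1 := by
      have h0 : y ^ Nat.card A = 1 := pow_card_eq_one'
      rwa [hA] at h0
    have hyX : (((y : A) : (P : Subgroup X)) : X) ^ p = 1 := by
      have : (((y ^ p : A) : (P : Subgroup X)) : X) = 1 := by rw [hyp]; rfl
      simpa using this
    have hzX : (((z : Subgroup.center (P : Subgroup X)) : (P : Subgroup X)) : X) ^ p = 1 := by
      have h1 : (z : (P : Subgroup X)) ^ p = 1 := by
        have h0 := pow_orderOf_eq_one (z : (P : Subgroup X))
        rwa [hzP] at h0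
      have : (((z : (P : Subgroup X)) ^ p : (P : Subgroup X)) : X) = 1 := by rw [h1]; rfl
      simpa using this
    have hz1 : (((z : Subgroup.center (P : Subgroup X)) : (P : Subgroup X)) : X) ≠ 1 := by
      intro hh
      have h1 : (z : (P : Subgroup X)) = 1 := Subtype.ext (by simpa using hh)
      rw [h1, orderOf_one] at hzP
      exact hp.out.one_lt.ne hzP
    have hcomm : (((z : Subgroup.center (P : Subgroup X)) : (P : Subgroup X)) : X) *
        (((y : A) : (P : Subgroup X)) : X) =
        (((y : A) : (P : Subgroup X)) : X) *
        (((z : Subgroup.center (P : Subgroup X)) : (P : Subgroup X)) : X) := by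
      have h1 := Subgroup.mem_center_iff.mp z.2 ((y : A) : (P : Subgroup X))
      have h2 := congrArg (Subtype.val) h1
      simpa using h2.symm
    obtain ⟨k, hk⟩ := Subgroup.mem_zpowers_iff.mp (h.1 p hp.out _ _ hzX hyX hcomm hz1)
    have hk' : (z : (P : Subgroup X)) ^ k = ((y : A) : (P : Subgroup X)) := by
      apply Subtype.ext
      rw [Subgroup.coe_zpow]; exact hk
    have hle : A ≤ Subgroup.zpowers (z : (P : Subgroup X)) := by
      intro a ha
      obtain ⟨m, hm⟩ := Subgroup.mem_zpowers_iff.mp (hy ⟨a, ha⟩)
      have : a = ((y : A) : (P : Subgroup X)) ^ m := by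
        have := congrArg Subtype.val hm
        simpa using this.symm
      rw [this, ← hk', ← zpow_mul]
      exact Subgroup.zpow_mem_zpowers _ _
    apply Subgroup.eq_of_le_of_card_ge hle
    rw [Nat.card_zpowers, hzP, hA]
  rw [key A hA, key B hB]

theorem P12.sylow_struct {X : Type*} [Group X] [Finite X] (h : P12 X) (p : ℕ)
    [hp : Fact p.Prime] (P : Sylow p X) :
    IsCyclic (P : Subgroup X) ∨
      (p = 2 ∧ ∃ n : ℕ, Nonempty ((P : Subgroup X) ≃* QuaternionGroup (2 ^ n))) :=
  Cfsg.Agent.S0016.result p P.isPGroup' (h.sylow_unique p P)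

/-- element of order 3 in `SL(2,3)` -/
def u3 : Matrix.SpecialLinearGroup (Fin 2) (ZMod 3) :=
  ⟨!![1, 1; 0, 1], by decide⟩

theorem u3_pow : u3 ^ 3 = 1 := by decide

theorem u3_ne : u3 ≠ 1 := by decide

theorem orderOf_u3 : orderOf u3 = 3 := by
  haveI : Fact (Nat.Prime 3) := ⟨by norm_num⟩
  exact orderOf_eq_prime u3_pow u3_ne

theorem solvable_aux : ∀ (n : ℕ) (X : Type u) [Group X] [Finite X], Nat.card X = n → P12 X →
    Group.IsSolvable X := by
  intro n
  induction n using Nat.strong_induction_on with
  | _ n ih =>
  intro X _ _ hn h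
  -- helper: proper subgroups are solvable
  have ihK : ∀ K : Subgroup X, Nat.card K < Nat.card X → Group.IsSolvable K := by
    intro K hK
    exact ih (Nat.card K) (hn ▸ hK) K rfl (h.subgroup K)
  -- helper: normal subgroup with p-group quotient
  have quot : ∀ (p : ℕ) [Fact p.Prime] (M : Subgroup X) [M.Normal], Group.IsSolvable M →
      (∃ k, M.index = p ^ k) → Group.IsSolvable X := by
    intro p _ M _ hM ⟨k, hk⟩
    have hq : IsPGroup p (X ⧸ M) := by
      apply IsPGroup.of_card (n := k)
      rw [← Subgroup.index_eq_card]; exact hk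
    haveI : Group.IsNilpotent (X ⧸ M) := hq.isNilpotent
    haveI : Group.IsSolvable (X ⧸ M) := inferInstance
    haveI := hM
    exact Group.isSolvable_of_ker_le_range M.subtype (QuotientGroup.mk' M) (by simp)
  by_cases h3 : 3 ∣ Nat.card X
  · haveI : Fact (Nat.Prime 3) := ⟨by norm_num⟩
    obtain ⟨g, hg⟩ := exists_prime_orderOf_dvd_card' 3 h3
    set R : Subgroup X := Subgroup.zpowers g with hR
    have hRc : Nat.card R = 3 := by rw [hR, Nat.card_zpowers, hg]
    haveI hRn : R.Normal := by
      constructor
      intro r hr x
      have hc : Nat.card (R.map (MulAut.conj x).toMonoidHom) = 3 := by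
        rw [Subgroup.card_map_of_injective (MulAut.conj x).injective]; exact hRc
      have := h.2 _ _ hc hRc
      rw [← this]
      exact ⟨r, hr, by simp⟩
    set C : Subgroup X := Subgroup.centralizer (R : Set X) with hC
    by_cases hCt : C = ⊤
    · -- R is central
      have hRcen : R ≤ Subgroup.center X := by
        intro r hr
        rw [Subgroup.mem_center_iff]
        intro x
        have hx : x ∈ C := by rw [hCt]; exact Subgroup.mem_top x
        exact (Subgroup.mem_centralizer_iff.mp hx r hr).symm
      obtain ⟨P⟩ : Nonempty (Sylow 3 X) := inferInstance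
      have hom : Cfsg.omegaOne 3 (P : Subgroup X) ≤ Subgroup.center X := by
        unfold Cfsg.omegaOne
        rw [Subgroup.closure_le]
        rintro x ⟨-, hx3⟩
        by_cases hx1 : x = 1
        · rw [hx1]; exact one_mem _
        · have ho : orderOf x = 3 := orderOf_eq_prime hx3 hx1
          have hc : Nat.card (Subgroup.zpowers x) = 3 := by rw [Nat.card_zpowers, ho]
          have := h.2 _ _ hc hRc
          apply hRcen
          rw [← this]
          exact Subgroup.mem_zpowers x
      obtain ⟨⟨P', M, hMn, hcompl⟩, -⟩ := Cfsg.Agent.S2910.result (p := 3) (by norm_num) h3 P hom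
      haveI := hMn
      have hidx : M.index = Nat.card (P' : Subgroup X) := by
        have := hcompl.symm.index_eq_card
        exact this
      have hmul : Nat.card M * Nat.card (P' : Subgroup X) = Nat.card X := hcompl.card_mul_card
      have hP'3 : 3 ∣ Nat.card (P' : Subgroup X) := by
        have hnd : ¬ 3 ∣ (P' : Subgroup X).index := P'.not_dvd_index
        have hMi : (P' : Subgroup X).index = Nat.card M := hcompl.index_eq_card
        rw [hMi] at hnd
        rw [← hmul] at h3
        exact (Nat.Prime.dvd_mul (by norm_num)).mp h3 |>.resolve_left hnd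
      have hMlt : Nat.card M < Nat.card X := by
        rw [← hmul]
        have hMpos : 0 < Nat.card M := Nat.card_pos
        have : 3 ≤ Nat.card (P' : Subgroup X) := Nat.le_of_dvd Nat.card_pos hP'3
        nlinarith
      obtain ⟨k, hk⟩ := (P'.isPGroup').exists_card_eq
      exact quot 3 M (ihK M hMlt) ⟨k, by rw [hidx, hk]⟩
    · -- C proper
      have hClt : Nat.card C < Nat.card X := by
        have hi1 : C.index ≠ 1 := fun hh => hCt (Subgroup.index_eq_one.mp hh)
        have hi0 : C.index ≠ 0 := Subgroup.index_ne_zero_of_finite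
        have hm := C.card_mul_index
        have hCpos : 0 < Nat.card C := Nat.card_pos
        have : 2 ≤ C.index := by omega
        nlinarith
      haveI : Group.IsSolvable C := ihK C hClt
      haveI : IsCyclic R := isCyclic_of_prime_card hRc
      letI : CommGroup (MulAut R) :=
        (IsCyclic.mulAutMulEquiv R).toMonoidHom.commGroupOfInjective
          (IsCyclic.mulAutMulEquiv R).injective
      haveI : Group.IsSolvable (MulAut R) := Group.isSolvable_of_comm (fun a b => mul_comm a b)
      apply Group.isSolvable_of_ker_le_range C.subtype (MulAut.conjNormal (H := R))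
      intro x hx
      rw [MonoidHom.mem_ker] at hx
      rw [Subgroup.range_subtype, hC, Subgroup.mem_centralizer_iff]
      intro r hr
      have h1 := DFunLike.congr_fun hx ⟨r, hr⟩
      have h2 := congrArg Subtype.val h1
      simp only [MulAut.conjNormal_apply, MulAut.one_apply] at h2
      -- h2 : x * r * x⁻¹ = r
      calc r * x = (x * r * x⁻¹) * x := by rw [h2]
        _ = x * r := by group
  · -- 3 ∤ |X|
    haveI : Fact (Nat.Prime 2) := ⟨Nat.prime_two⟩
    by_cases hcyc : ∀ P : Sylow 2 X, IsCyclic (P : Subgroup X)
    · haveI : IsZGroup X := by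
        constructor
        intro p hp P
        haveI : Fact p.Prime := ⟨hp⟩
        rcases h.sylow_struct p P with hc | ⟨hp2, -⟩
        · exact hc
        · subst hp2
          exact hcyc P
      exact IsZGroup.instIsSolvableOfFinite
    · push Not at hcyc
      obtain ⟨T, hT⟩ := hcyc
      rcases h.sylow_struct 2 T with hc | ⟨-, n, ⟨e⟩⟩
      · exact absurd hc hT
      · have hn1 : 1 ≤ n := by
          by_contra hn0
          have hn0' : n = 0 := by omega
          subst hn0'
          apply hT
          haveI : IsCyclic (QuaternionGroup (2 ^ 0)) := by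
            rw [pow_zero]; exact QuaternionGroup.quaternionGroup_one_isCyclic
          exact isCyclic_of_surjective e.symm e.symm.surjective
        rcases Cfsg.Agent.S0106.result T n hn1 ⟨e⟩ with ⟨P', N, hNn, hcompl⟩ | ⟨H, K, hK, ⟨f⟩⟩
        · haveI := hNn
          have hidx : N.index = Nat.card (P' : Subgroup X) := hcompl.symm.index_eq_card
          have hmul : Nat.card N * Nat.card (P' : Subgroup X) = Nat.card X :=
            hcompl.card_mul_card
          have hP'2 : 2 ≤ Nat.card (P' : Subgroup X) := by
            -- T is nontrivial, and all Sylow 2-subgroups have the same card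
            have hTc : Nat.card (T : Subgroup X) = Nat.card (P' : Subgroup X) :=
              Nat.card_congr (Sylow.equiv T P').toEquiv
            rw [← hTc]
            by_contra hlt
            have h1 : Nat.card (T : Subgroup X) = 1 := by
              have : 0 < Nat.card (T : Subgroup X) := Nat.card_pos
              omega
            apply hT
            haveI : Subsingleton (T : Subgroup X) := (Nat.card_eq_one_iff_unique.mp h1).1
            exact isCyclic_of_subsingleton
          have hNlt : Nat.card N < Nat.card X := by
            rw [← hmul]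
            have hNpos : 0 < Nat.card N := Nat.card_pos
            nlinarith
          obtain ⟨k, hk⟩ := (P'.isPGroup').exists_card_eq
          exact quot 2 N (ihK N hNlt) ⟨k, by rw [hidx, hk]⟩
        · exfalso
          apply h3
          have ho : orderOf (f.symm u3) = 3 := by
            rw [MulEquiv.orderOf_eq]; exact orderOf_u3
          have h1 : 3 ∣ Nat.card (H ⧸ K.subgroupOf H) := by
            rw [← ho]; exact orderOf_dvd_natCard _
          have h2 : Nat.card (H ⧸ K.subgroupOf H) ∣ Nat.card H :=
            Subgroup.card_quotient_dvd_card _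
          have h3' : Nat.card H ∣ Nat.card X := Subgroup.card_subgroup_dvd_card H
          exact h1.trans (h2.trans h3')

theorem solvable_of_P12 (X : Type u) [Group X] [Finite X] (h : P12 X) : Group.IsSolvable X :=
  solvable_aux _ X rfl h

end Cfsg.Agent.Lib.Helper2.Stt
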