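import Mathlib
import Cfsg.Agent.Lib.Helper1.QS6
set_option autoImplicit false
universe u
namespace Cfsg.Agent.Lib.Helper2.SL2ThreeSub

open QuaternionGroup Matrix Cfsg.Agent.Lib.Helper1.SL2Three Cfsg.Agent.Lib.Helper3
  Cfsg.Agent.Lib.Helper1.QS

variable {G : Type u} [Group G]

theorem card_sl2_three : Nat.card (Matrix.SpecialLinearGroup (Fin 2) (ZMod 3)) = 24 := by
  rw [Nat.card_eq_fintype_card]
  decide

/-- A subgroup `Q ≅ Q₈` with adapted generators and an element `g` of order `3` cycling them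
generate a subgroup isomorphic to `SL(2,3)`. -/
theorem sl2_three_subgroup [Finite G] (Q : Subgroup G) (b c g : G) (hbQ : b ∈ Q) (hcQ : c ∈ Q)
    (hb4 : b ^ 4 = 1) (hb2 : b ^ 2 ≠ 1) (hcc : c * c = b ^ 2) (hcb : c * b * c⁻¹ = b⁻¹)
    (hgb : g * b * g⁻¹ = c) (hgc : g * c * g⁻¹ = b * c)
    (hgen : ∀ q ∈ Q, ∃ i : ℕ, q = b ^ i ∨ q = c * b ^ i)
    (hg : g ∈ Subgroup.normalizer (Q : Set G)) (hg3 : g ^ 3 = 1) :
    ∃ U : Subgroup G, Nat.card U = 24 ∧ (∀ H : Subgroup G, Q ≤ H → g ∈ H → U ≤ H) ∧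
      Nonempty (U ≃* Matrix.SpecialLinearGroup (Fin 2) (ZMod 3)) := by
  obtain ⟨e, hea, hexa⟩ := exists_quat_equiv Q b c hbQ hcQ hb4 hb2 hcc hcb hgen
  have h3dvd : 3 ∣ orderOf g := three_dvd_orderOf b c g hb2 hcc hcb hgb hgc
  have hog : orderOf g = 3 :=
    Nat.dvd_antisymm (orderOf_dvd_of_pow_eq_one hg3) h3dvd
  -- the homomorphism on `Q`
  obtain ⟨fn, hfn⟩ : ∃ fn : Q →* Matrix.SpecialLinearGroup (Fin 2) (ZMod 3),
      fn = (quatLift 2 (wmat (ZMod 3)) Xm sl_r1 sl_r2 sl_r3).comp e.symm.toMonoidHom := ⟨_, rfl⟩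
  have hfnb : fn ⟨b, hbQ⟩ = wmat (ZMod 3) := by
    rw [hfn, MonoidHom.comp_apply, ← hea]
    show quatLift 2 (wmat (ZMod 3)) Xm sl_r1 sl_r2 sl_r3 (e.symm (e (a 1))) = _
    rw [MulEquiv.symm_apply_apply]
    have := quatLift_a_natCast 2 (wmat (ZMod 3)) Xm sl_r1 sl_r2 sl_r3 1
    rwa [Nat.cast_one, pow_one] at this
  have hfnc : fn ⟨c, hcQ⟩ = Xm := by
    rw [hfn, MonoidHom.comp_apply, ← hexa]
    show quatLift 2 (wmat (ZMod 3)) Xm sl_r1 sl_r2 sl_r3 (e.symm (e (xa 0))) = _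
    rw [MulEquiv.symm_apply_apply, quatLift_xa, zmodPw_zero, mul_one]
  -- the homomorphism on `⟨g⟩`
  obtain ⟨γ, hγ⟩ : ∃ γ : Subgroup.zpowers g, γ = ⟨g, Subgroup.mem_zpowers g⟩ := ⟨_, rfl⟩
  have hγgen : ∀ x : Subgroup.zpowers g, x ∈ Subgroup.zpowers γ := by
    intro x
    obtain ⟨j, hj⟩ := Subgroup.mem_zpowers_iff.mp x.2
    rw [Subgroup.mem_zpowers_iff]
    refine ⟨j, Subtype.ext ?_⟩
    rw [Subgroup.coe_zpow, hγ]; exact hj
  have hγord : orderOf (xmat (ZMod 3) 1) ∣ orderOf γ := by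
    rw [sl_orderOf, hγ, Subgroup.orderOf_mk]
    exact h3dvd
  obtain ⟨fg, hfg⟩ : ∃ fg : Subgroup.zpowers g →* Matrix.SpecialLinearGroup (Fin 2) (ZMod 3),
      fg = monoidHomOfForallMemZpowers hγgen hγord := ⟨_, rfl⟩
  have hfgγ : fg γ = xmat (ZMod 3) 1 := by
    rw [hfg]; exact monoidHomOfForallMemZpowers_apply_gen hγgen hγord
  -- the action
  have hle : Subgroup.zpowers g ≤ Subgroup.normalizer (Q : Set G) := by
    rw [Subgroup.zpowers_le]; exact hg
  obtain ⟨θ, hθ⟩ : ∃ θ : Subgroup.zpowers g →* MulAut Q,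
      θ = (Q.normalizerMonoidHom).comp (Subgroup.inclusion hle) := ⟨_, rfl⟩
  have hθapp : ∀ (k : Subgroup.zpowers g) (q : Q), ((θ k q : Q) : G) = (k : G) * q * (k : G)⁻¹ := by
    intro k q; rw [hθ]; rfl
  -- generation of `Q`
  have hclos : Subgroup.closure ({⟨b, hbQ⟩, ⟨c, hcQ⟩} : Set Q) = ⊤ := by
    rw [eq_top_iff]
    intro q _
    have hbm : (⟨b, hbQ⟩ : Q) ∈ Subgroup.closure ({⟨b, hbQ⟩, ⟨c, hcQ⟩} : Set Q) :=
      Subgroup.subset_closure (by simp)
    have hcm : (⟨c, hcQ⟩ : Q) ∈ Subgroup.closure ({⟨b, hbQ⟩, ⟨c, hcQ⟩} : Set Q) :=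
      Subgroup.subset_closure (by simp)
    obtain ⟨i, hi | hi⟩ := hgen q q.2
    · have : q = ⟨b, hbQ⟩ ^ i := Subtype.ext (by rw [Subgroup.coe_pow]; exact hi)
      rw [this]; exact Subgroup.pow_mem _ hbm _
    · have : q = ⟨c, hcQ⟩ * ⟨b, hbQ⟩ ^ i :=
        Subtype.ext (by rw [Subgroup.coe_mul, Subgroup.coe_pow]; exact hi)
      rw [this]; exact Subgroup.mul_mem _ hcm (Subgroup.pow_mem _ hbm _)
  -- compatibility for the generator
  have hcompγ : fn.comp (θ γ).toMonoidHom =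
      (MulAut.conj (fg γ)).toMonoidHom.comp fn := by
    apply MonoidHom.eq_of_eqOn_dense hclos
    intro q hq
    rcases hq with rfl | hq
    · show fn (θ γ ⟨b, hbQ⟩) = fg γ * fn ⟨b, hbQ⟩ * (fg γ)⁻¹
      have : θ γ ⟨b, hbQ⟩ = ⟨c, hcQ⟩ := Subtype.ext (by rw [hθapp, hγ]; exact hgb)
      rw [this, hfnc, hfnb, hfgγ, sl_r4]
    · rw [Set.mem_singleton_iff] at hq
      subst hq
      show fn (θ γ ⟨c, hcQ⟩) = fg γ * fn ⟨c, hcQ⟩ * (fg γ)⁻¹
      have : θ γ ⟨c, hcQ⟩ = ⟨b, hbQ⟩ * ⟨c, hcQ⟩ :=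
        Subtype.ext (by rw [hθapp, hγ, Subgroup.coe_mul]; exact hgc)
      rw [this, map_mul, hfnc, hfnb, hfgγ, sl_r5]
  -- compatibility for all of `⟨g⟩`
  have hcomp : ∀ k : Subgroup.zpowers g, fn.comp (θ k).toMonoidHom =
      (MulAut.conj (fg k)).toMonoidHom.comp fn := by
    let S : Subgroup (Subgroup.zpowers g) :=
      { carrier := {k | fn.comp (θ k).toMonoidHom = (MulAut.conj (fg k)).toMonoidHom.comp fn}
        one_mem' := by
          show fn.comp (θ 1).toMonoidHom = (MulAut.conj (fg 1)).toMonoidHom.comp fn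
          rw [map_one, map_one, map_one]; rfl
        mul_mem' := by
          intro k k' hk hk'
          show fn.comp (θ (k * k')).toMonoidHom = (MulAut.conj (fg (k * k'))).toMonoidHom.comp fn
          apply MonoidHom.ext
          intro q
          have h1 : ∀ q, fn (θ k q) = fg k * fn q * (fg k)⁻¹ := fun q => DFunLike.congr_fun hk q
          have h2 : ∀ q, fn (θ k' q) = fg k' * fn q * (fg k')⁻¹ := fun q => DFunLike.congr_fun hk' q
          show fn (θ (k * k') q) = fg (k * k') * fn q * (fg (k * k'))⁻¹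
          rw [map_mul, map_mul, MulAut.mul_apply, h1, h2]
          group
        inv_mem' := by
          intro k hk
          show fn.comp (θ k⁻¹).toMonoidHom = (MulAut.conj (fg k⁻¹)).toMonoidHom.comp fn
          apply MonoidHom.ext
          intro q
          have h1 : ∀ q, fn (θ k q) = fg k * fn q * (fg k)⁻¹ := fun q => DFunLike.congr_fun hk q
          show fn (θ k⁻¹ q) = fg k⁻¹ * fn q * (fg k⁻¹)⁻¹
          have h2 := h1 (θ k⁻¹ q)
          rw [← MulAut.mul_apply, ← map_mul, mul_inv_cancel, map_one, MulAut.one_apply] at h2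
          have h3 : fn (θ k⁻¹ q) = (fg k)⁻¹ * fn q * fg k := by rw [h2]; group
          rw [map_inv fg, inv_inv]
          exact h3 }
    intro k
    have hγS : γ ∈ S := hcompγ
    have hk : k ∈ S := by
      have h1 : Subgroup.zpowers γ ≤ S := by rw [Subgroup.zpowers_le]; exact hγS
      exact h1 (hγgen k)
    exact hk
  -- the semidirect product
  obtain ⟨φ, hφ⟩ : ∃ φ : Q ⋊[θ] Subgroup.zpowers g →* Matrix.SpecialLinearGroup (Fin 2) (ZMod 3),
      φ = SemidirectProduct.lift fn fg hcomp := ⟨_, rfl⟩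
  have hφsurj : Function.Surjective φ := by
    rw [← MonoidHom.range_eq_top, eq_top_iff, ← closure_wmat_xmat_eq_top 1 (Or.inl rfl),
      Subgroup.closure_le]
    intro m hm
    rcases hm with rfl | hm
    · exact ⟨SemidirectProduct.inl ⟨b, hbQ⟩, by rw [hφ, SemidirectProduct.lift_inl, hfnb]⟩
    · rw [Set.mem_singleton_iff] at hm
      subst hm
      exact ⟨SemidirectProduct.inr γ, by rw [hφ, SemidirectProduct.lift_inr, hfgγ]⟩
  -- the embedding into `G`
  obtain ⟨ι, hι⟩ : ∃ ι : Q ⋊[θ] Subgroup.zpowers g →* G,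
      ι = SemidirectProduct.lift Q.subtype (Subgroup.zpowers g).subtype (by
        intro k
        ext q
        show ((θ k q : Q) : G) = (k : G) * q * (k : G)⁻¹
        exact hθapp k q) := ⟨_, rfl⟩
  have hιapp : ∀ x : Q ⋊[θ] Subgroup.zpowers g, ι x = (x.left : G) * (x.right : G) := by
    intro x; rw [hι]; rfl
  have hcQ8 : Nat.card Q = 8 := by
    rw [← Nat.card_congr e.toEquiv, Nat.card_eq_fintype_card, QuaternionGroup.card]
  have hιinj : Function.Injective ι := by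
    rw [injective_iff_map_eq_one]
    intro x hx
    rw [hιapp] at hx
    have h1 : (x.left : G) = ((x.right : G))⁻¹ := eq_inv_of_mul_eq_one_left hx
    -- orders
    have ho1 : orderOf (x.left : G) ∣ 2 ^ 3 := by
      have : (x.left) ^ 8 = 1 := by rw [← hcQ8]; exact pow_card_eq_one'
      apply orderOf_dvd_of_pow_eq_one
      have := congrArg Subtype.val this
      simpa using this
    have ho2 : orderOf (x.left : G) ∣ 3 := by
      rw [h1, orderOf_inv, ← hog]
      exact orderOf_dvd_of_mem_zpowers x.right.2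
    have ho3 : orderOf (x.left : G) = 1 :=
      Nat.eq_one_of_dvd_coprimes (by norm_num : Nat.Coprime (2 ^ 3) 3) ho1 ho2
    have hl : (x.left : G) = 1 := orderOf_eq_one_iff.mp ho3
    have hr : (x.right : G) = 1 := by rw [hl, one_mul] at hx; exact hx
    ext
    · rw [SemidirectProduct.one_left]; exact hl
    · rw [SemidirectProduct.one_right]; exact hr
  -- cardinalities
  have hcardS : Nat.card (Q ⋊[θ] Subgroup.zpowers g) = 24 := by
    rw [Nat.card_congr SemidirectProduct.equivProd, Nat.card_prod, hcQ8, Nat.card_zpowers, hog]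
  haveI : Finite (Q ⋊[θ] Subgroup.zpowers g) :=
    Finite.of_equiv _ SemidirectProduct.equivProd.symm
  have hφbij : Function.Bijective φ :=
    (Nat.bijective_iff_surjective_and_card φ).mpr ⟨hφsurj, by rw [hcardS, card_sl2_three]⟩
  obtain ⟨e1, -⟩ : ∃ e1 : (Q ⋊[θ] Subgroup.zpowers g) ≃* ι.range, e1 = MonoidHom.ofInjective hιinj :=
    ⟨_, rfl⟩
  refine ⟨ι.range, ?_, ?_, ⟨e1.symm.trans (MulEquiv.ofBijective φ hφbij)⟩⟩
  · rw [← Nat.card_congr e1.toEquiv, hcardS]
  · intro H hQH hgH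
    rintro _ ⟨x, rfl⟩
    rw [hιapp]
    have h1 : (x.right : G) ∈ H := by
      have : Subgroup.zpowers g ≤ H := by rw [Subgroup.zpowers_le]; exact hgH
      exact this x.right.2
    exact H.mul_mem (hQH x.left.2) h1

end Cfsg.Agent.Lib.Helper2.SL2ThreeSub
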