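import Mathlib
import Cfsg.Agent.S3361
import Cfsg.Agent.Lib.Lead.FpfLinear
import Cfsg.Agent.Lib.Helper2.SttB

set_option autoImplicit false

namespace Cfsg.Agent.Lib.Helper2.Stt

open Cfsg.Agent.Lib.Lead.FpfLinear

theorem mem_zpowers_of_cyclic {A : Type*} [Group A] [Finite A] [IsCyclic A] {p : ℕ}
    (hp : p.Prime) (x y : A) (hx : x ^ p = 1) (hy : y ^ p = 1) (hx1 : x ≠ 1) :
    y ∈ Subgroup.zpowers x := by
  classical
  haveI : Fintype A := Fintype.ofFinite A
  haveI : Fact p.Prime := ⟨hp⟩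
  have hS : (Finset.univ.filter (fun a : A => a ^ p = 1)).card ≤ p :=
    IsCyclic.card_pow_eq_one_le hp.pos
  have ho : orderOf x = p := orderOf_eq_prime hx hx1
  set T : Finset A := (Finset.univ.filter (fun a : A => a ∈ Subgroup.zpowers x)) with hT
  have hTS : T ⊆ Finset.univ.filter (fun a : A => a ^ p = 1) := by
    intro a ha
    simp only [hT, Finset.mem_filter, Finset.mem_univ, true_and] at ha ⊢
    obtain ⟨k, rfl⟩ := Subgroup.mem_zpowers_iff.mp ha
    rw [← zpow_natCast, ← zpow_mul, mul_comm, zpow_mul, zpow_natCast, hx, one_zpow]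
  have hTc : T.card = p := by
    have h1 : T.card = Fintype.card (Subgroup.zpowers x) := by
      rw [hT, Fintype.card_subtype]
    rw [h1, Fintype.card_zpowers, ho]
  have hEq : T = Finset.univ.filter (fun a : A => a ^ p = 1) :=
    Finset.eq_of_subset_of_card_le hTS (by rw [hTc]; exact hS)
  have : y ∈ Finset.univ.filter (fun a : A => a ^ p = 1) := by
    simp [hy]
  rw [← hEq, hT] at this
  simpa using this

/-- second element of order 3 in `SL(2,3)` -/
def l3 : Matrix.SpecialLinearGroup (Fin 2) (ZMod 3) :=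
  ⟨!![1, 0; 1, 1], by decide⟩

theorem l3_pow : l3 ^ 3 = 1 := by decide

theorem l3_ne : l3 ≠ 1 := by decide

theorem orderOf_l3 : orderOf l3 = 3 := by
  haveI : Fact (Nat.Prime 3) := ⟨by norm_num⟩
  exact orderOf_eq_prime l3_pow l3_ne

theorem l3_not_mem : l3 ∉ Subgroup.zpowers u3 := by
  intro h
  obtain ⟨k, hk⟩ := Subgroup.mem_zpowers_iff.mp h
  have h1 : u3 ^ (k % 3) = l3 := by
    have := zpow_mod_orderOf u3 k
    rw [orderOf_u3] at this
    rw [← hk]; exact_mod_cast this
  have h2 : 0 ≤ k % 3 := Int.emod_nonneg _ (by norm_num)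
  have h3 : k % 3 < 3 := Int.emod_lt_of_pos _ (by norm_num)
  have h4 : k % 3 = 0 ∨ k % 3 = 1 ∨ k % 3 = 2 := by omega
  rcases h4 with h4 | h4 | h4 <;> rw [h4] at h1
  · have : (1 : Matrix.SpecialLinearGroup (Fin 2) (ZMod 3)) = l3 := by simpa using h1
    exact l3_ne this.symm
  · have : u3 = l3 := by simpa using h1
    revert this; decide
  · have : u3 ^ 2 = l3 := by
      have h5 : u3 ^ (2 : ℤ) = u3 ^ (2 : ℕ) := by norm_cast
      rw [← h5]; exact h1
    revert this; decide

theorem no_sl23 {G : Type*} [Group G]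
    (h3 : ∀ A B : Subgroup G, Nat.card A = 3 → Nat.card B = 3 → A = B)
    (f : Matrix.SpecialLinearGroup (Fin 2) (ZMod 3) →* G) (hf : Function.Injective f) : False := by
  have hu : orderOf (f u3) = 3 := by rw [orderOf_injective f hf]; exact orderOf_u3
  have hl : orderOf (f l3) = 3 := by rw [orderOf_injective f hf]; exact orderOf_l3
  have h1 : Nat.card (Subgroup.zpowers (f u3)) = 3 := by rw [Nat.card_zpowers, hu]
  have h2 : Nat.card (Subgroup.zpowers (f l3)) = 3 := by rw [Nat.card_zpowers, hl]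
  have h := h3 _ _ h1 h2
  have hm : f l3 ∈ Subgroup.zpowers (f u3) := by rw [h]; exact Subgroup.mem_zpowers _
  obtain ⟨k, hk⟩ := Subgroup.mem_zpowers_iff.mp hm
  apply l3_not_mem
  rw [Subgroup.mem_zpowers_iff]
  refine ⟨k, hf ?_⟩
  rw [map_zpow]; exact hk

/-- The core: a regular linear group over an odd prime field with at most one subgroup of
order 3 has a subgroup of index 2. -/
theorem core (q : ℕ) [Fact q.Prime] (hq2 : q ≠ 2) {V : Type*} [AddCommGroup V]
    [Module (ZMod q) V] [Finite V] [Nontrivial V] {G : Type*} [Group G] [Finite G]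
    (ρ : G →* (V ≃ₗ[ZMod q] V)) (hρ : Function.Injective ρ)
    (htrans : ∀ v w : V, v ≠ 0 → w ≠ 0 → ∃ g : G, ρ g v = w)
    (hreg : ∀ v : V, v ≠ 0 → ∀ g : G, ρ g v = v → g = 1)
    (h3 : ∀ A B : Subgroup G, Nat.card A = 3 → Nat.card B = 3 → A = B) :
    ∃ N : Subgroup G, N.index = 2 := by
  classical
  -- regularity for the range
  have hregH : ∀ v w : V, v ≠ 0 → w ≠ 0 →
      ∃! h : ρ.range, (h : V ≃ₗ[ZMod q] V) v = w := by
    intro v w hv hw
    obtain ⟨g, hg⟩ := htrans v w hv hw
    refine ⟨⟨ρ g, g, rfl⟩, hg, ?_⟩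
    rintro ⟨_, g', rfl⟩ hg'
    apply Subtype.ext
    simp only
    have h1 : ρ (g⁻¹ * g') v = v := by
      rw [map_mul, map_inv]
      change (ρ g)⁻¹ (ρ g' v) = v
      rw [hg', ← hg]
      exact (ρ g).symm_apply_apply v
    have h2 := hreg v hv _ h1
    have : g' = g := by
      have : g * (g⁻¹ * g') = g * 1 := by rw [h2]
      simpa using this
    rw [this]
  -- P1
  have hP1 : ∀ p : ℕ, p.Prime → ∀ x y : G, x ^ p = 1 → y ^ p = 1 → x * y = y * x → x ≠ 1 →
      y ∈ Subgroup.zpowers x := by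
    intro p hp x y hx hy hxy hx1
    set x' : ρ.range := ⟨ρ x, x, rfl⟩ with hx'
    set y' : ρ.range := ⟨ρ y, y, rfl⟩ with hy'
    have hcomm' : x' * y' = y' * x' := by
      apply Subtype.ext
      simp only [hx', hy', Subgroup.coe_mul]
      rw [← map_mul, ← map_mul, hxy]
    set A : Subgroup ρ.range := Subgroup.closure {x', y'} with hA
    have hAcomm : IsMulCommutative A := by
      have hc : ∀ a ∈ ({x', y'} : Set ρ.range), ∀ b ∈ ({x', y'} : Set ρ.range), a * b = b * a := by
        intro a ha b hb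
        simp only [Set.mem_insert_iff, Set.mem_singleton_iff] at ha hb
        rcases ha with rfl | rfl <;> rcases hb with rfl | rfl
        · rfl
        · exact hcomm'
        · exact hcomm'.symm
        · rfl
      letI := Subgroup.closureCommGroupOfComm hc
      exact ⟨⟨fun a b => mul_comm a b⟩⟩
    haveI : IsCyclic A := cyclic_of_regular ρ.range hregH A hAcomm
    haveI : Finite ρ.range := Finite.of_surjective ρ.rangeRestrict ρ.rangeRestrict_surjective
    have hxA : x' ∈ A := Subgroup.subset_closure (by simp)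
    have hyA : y' ∈ A := Subgroup.subset_closure (by simp)
    have hxp : (⟨x', hxA⟩ : A) ^ p = 1 := by
      apply Subtype.ext; apply Subtype.ext
      simp only [hx', Subgroup.coe_pow, Subgroup.coe_one]
      rw [← map_pow, hx, map_one]
    have hyp : (⟨y', hyA⟩ : A) ^ p = 1 := by
      apply Subtype.ext; apply Subtype.ext
      simp only [hy', Subgroup.coe_pow, Subgroup.coe_one]
      rw [← map_pow, hy, map_one]
    have hx1' : (⟨x', hxA⟩ : A) ≠ 1 := by
      intro hh
      have h1 : (x' : V ≃ₗ[ZMod q] V) = 1 := by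
        have := congrArg (fun a : A => ((a : ρ.range) : V ≃ₗ[ZMod q] V)) hh
        simpa using this
      apply hx1
      apply hρ
      rw [map_one]; exact h1
    obtain ⟨k, hk⟩ := Subgroup.mem_zpowers_iff.mp
      (mem_zpowers_of_cyclic hp (⟨x', hxA⟩ : A) ⟨y', hyA⟩ hxp hyp hx1')
    rw [Subgroup.mem_zpowers_iff]
    refine ⟨k, hρ ?_⟩
    have := congrArg (fun a : A => ((a : ρ.range) : V ≃ₗ[ZMod q] V)) hk
    simp only [Subgroup.coe_zpow] at this
    rw [map_zpow]; exact this
  have hP : P12 G := ⟨hP1, h3⟩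
  have hsol : Group.IsSolvable G := solvable_of_P12 G hP
  rcases (Cfsg.Agent.S3361.result q hsol ρ hρ htrans hreg).2 hq2 with
    ⟨N, _, hN⟩ | ⟨_, ⟨e⟩⟩ | ⟨_, ⟨e⟩⟩
  · exact ⟨N, hN⟩
  · exact (no_sl23 h3 e.symm.toMonoidHom e.symm.injective).elim
  · exfalso
    refine no_sl23 h3 (e.symm.toMonoidHom.comp
      (MonoidHom.inl (Matrix.SpecialLinearGroup (Fin 2) (ZMod 3)) (Multiplicative (ZMod 5)))) ?_
    intro a b hab
    have := e.symm.injective hab
    simpa using this

end Cfsg.Agent.Lib.Helper2.Stt
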