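import Mathlib
import Cfsg.Agent.Lib.Helper2.SttC

set_option autoImplicit false
set_option linter.style.haveILetI false

namespace Cfsg.Agent.Lib.Helper2.Stt

/-- additive version of `core` -/
theorem core_add (q : ℕ) [Fact q.Prime] (hq2 : q ≠ 2) {V : Type*} [AddCommGroup V]
    [Module (ZMod q) V] [Finite V] [Nontrivial V] {G : Type*} [Group G] [Finite G]
    (a : G → (V ≃+ V)) (a1 : ∀ v, a 1 v = v) (amul : ∀ g h v, a (g * h) v = a g (a h v))
    (htrans : ∀ v w : V, v ≠ 0 → w ≠ 0 → ∃ g : G, a g v = w)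
    (hreg : ∀ v : V, v ≠ 0 → ∀ g : G, a g v = v → g = 1)
    (h3 : ∀ A B : Subgroup G, Nat.card A = 3 → Nat.card B = 3 → A = B) :
    ∃ N : Subgroup G, N.index = 2 := by
  classical
  let ρ : G →* (V ≃ₗ[ZMod q] V) :=
    { toFun := fun g => (a g).toLinearEquiv (fun c x => ZMod.map_smul (a g) c x)
      map_one' := by
        ext x
        exact a1 x
      map_mul' := by
        intro g h
        ext x
        exact amul g h x }
  have hρ : ∀ g v, ρ g v = a g v := fun g v => rfl
  obtain ⟨v0, hv0⟩ := exists_ne (0 : V)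
  have hinj : Function.Injective ρ := by
    rw [injective_iff_map_eq_one]
    intro g hg
    apply hreg v0 hv0 g
    rw [← hρ, hg]; rfl
  exact core q hq2 ρ hinj (fun v w hv hw => by
      obtain ⟨g, hg⟩ := htrans v w hv hw
      exact ⟨g, by rw [hρ]; exact hg⟩)
    (fun v hv g hg => hreg v hv g (by rw [← hρ]; exact hg)) h3

/-- Frobenius-like setting: `K` acts by conjugation (through `φ`) regularly on the nonidentity
elements of the elementary abelian normal subgroup `N`; if `K` has at most one subgroup of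
order 3 then `K` has a subgroup of index 2. -/
theorem geo {B K : Type*} [Group B] [Finite B] [Group K] [Finite K] (N : Subgroup B)
    [hNn : N.Normal] (p : ℕ) [hp : Fact p.Prime] (hp2 : p ≠ 2)
    (hcomm : ∀ a ∈ N, ∀ b ∈ N, a * b = b * a) (hexp : ∀ x ∈ N, x ^ p = 1) (hNnt : N ≠ ⊥)
    (φ : K →* B)
    (htr : ∀ n ∈ N, ∀ m ∈ N, n ≠ 1 → m ≠ 1 → ∃ k : K, φ k * n * (φ k)⁻¹ = m)
    (hrg : ∀ n ∈ N, n ≠ 1 → ∀ k : K, φ k * n * (φ k)⁻¹ = n → k = 1)
    (h3 : ∀ A B : Subgroup K, Nat.card A = 3 → Nat.card B = 3 → A = B) :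
    ∃ M : Subgroup K, M.index = 2 := by
  classical
  letI cg : CommGroup N :=
    { (inferInstance : Group N) with
      mul_comm := fun a b => Subtype.ext (hcomm a a.2 b b.2) }
  have hexpV : ∀ x : Additive N, p • x = 0 := by
    intro x
    have h1 : (Additive.toMul x) ^ p = 1 := by
      apply Subtype.ext
      rw [Subgroup.coe_pow, Subgroup.coe_one]
      exact hexp _ (Additive.toMul x).2
    have h2 : Additive.ofMul ((Additive.toMul x) ^ p) = p • x := by
      rw [ofMul_pow]; rfl
    rw [← h2, h1]; rfl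
  letI md : Module (ZMod p) (Additive N) := AddCommGroup.zmodModule hexpV
  haveI : Finite (Additive N) := Finite.of_equiv N Additive.ofMul
  -- nontrivial
  obtain ⟨n0, hn0N, hn01⟩ : ∃ n0 ∈ N, n0 ≠ 1 := by
    by_contra hcon
    push Not at hcon
    exact hNnt ((Subgroup.eq_bot_iff_forall N).mpr hcon)
  haveI : Nontrivial (Additive N) :=
    ⟨⟨Additive.ofMul ⟨n0, hn0N⟩, 0, fun hh => hn01 (by
      have := congrArg (fun x : Additive N => ((Additive.toMul x : N) : B)) hh
      simpa using this)⟩⟩
  -- the action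
  let a : K → (Additive N ≃+ Additive N) :=
    fun k => MulEquiv.toAdditive (MulAut.conjNormal (φ k))
  have a1 : ∀ v, a 1 v = v := by
    intro v
    change Additive.ofMul (MulAut.conjNormal (φ 1) (Additive.toMul v)) = v
    rw [map_one, map_one]; rfl
  have amul : ∀ g h v, a (g * h) v = a g (a h v) := by
    intro g h v
    change Additive.ofMul (MulAut.conjNormal (φ (g * h)) (Additive.toMul v)) =
      Additive.ofMul (MulAut.conjNormal (φ g) (MulAut.conjNormal (φ h) (Additive.toMul v)))
    rw [map_mul, map_mul]; rfl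
  have ha : ∀ (k : K) (x : Additive N),
      ((Additive.toMul (a k x) : N) : B) = φ k * ((Additive.toMul x : N) : B) * (φ k)⁻¹ := by
    intro k x
    change ((MulAut.conjNormal (φ k) (Additive.toMul x) : N) : B) = _
    rw [MulAut.conjNormal_apply]
  have hne : ∀ v : Additive N, v ≠ 0 → ((Additive.toMul v : N) : B) ≠ 1 := by
    intro v hv hh
    apply hv
    have : (Additive.toMul v : N) = 1 := Subtype.ext (by simpa using hh)
    have h2 : v = Additive.ofMul (Additive.toMul v) := rfl
    rw [h2, this]; rfl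
  -- regularity
  have hreg : ∀ v : Additive N, v ≠ 0 → ∀ g : K, a g v = v → g = 1 := by
    intro v hv g hg
    apply hrg _ (Additive.toMul v).2 (hne v hv) g
    rw [← ha, hg]
  have htrans : ∀ v w : Additive N, v ≠ 0 → w ≠ 0 → ∃ g : K, a g v = w := by
    intro v w hv hw
    obtain ⟨k, hk⟩ := htr _ (Additive.toMul v).2 _ (Additive.toMul w).2 (hne v hv) (hne w hw)
    refine ⟨k, ?_⟩
    have h1 : ((Additive.toMul (a k v) : N) : B) = ((Additive.toMul w : N) : B) := by
      rw [ha, hk]
    have h2 : (Additive.toMul (a k v) : N) = Additive.toMul w := Subtype.ext h1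
    exact Additive.toMul.injective h2
  exact core_add p hp2 a a1 amul htrans hreg h3

end Cfsg.Agent.Lib.Helper2.Stt
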