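import Mathlib
import Cfsg.Agent.S0728
import Cfsg.Agent.Lib.Lead.Sharp2
import Cfsg.Agent.Lib.Lead.Sharp3
import Cfsg.Agent.Lib.Helper2.SttD

set_option autoImplicit false
set_option linter.style.haveILetI false

namespace Cfsg.Agent.Lib.Helper2.Stt

open MulAction Cfsg.Agent.Lib.Lead.Sharp3

theorem exists_index_two {α : Type*} [Fintype α] [DecidableEq α]
    (heven : Even (Fintype.card α)) (h6 : 6 ≤ Fintype.card α)
    (G : Subgroup (Equiv.Perm α)) (h3 : IsMultiplyPretransitive G α 3)
    (hsharp : ∀ x : Fin 3 ↪ α, stabilizer G x = ⊥) {a b : α} (hab : a ≠ b) :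
    ∃ M : Subgroup ↥(stabilizer G a ⊓ stabilizer G b), M.index = 2 := by
  classical
  haveI := h3
  haveI h1 : IsMultiplyPretransitive G α 1 :=
    isMultiplyPretransitive_of_le (n := 3) (by norm_num)
      (by rw [Nat.card_eq_fintype_card]; omega)
  haveI hpre : IsPretransitive G α := is_one_pretransitive_iff.mp h1
  -- the point stabiliser and its action on the other points
  have h2 : IsMultiplyPretransitive (stabilizer G a) (SubMulAction.ofStabilizer G a) 2 :=
    (SubMulAction.ofStabilizer.isMultiplyPretransitive (n := 2)).mp h3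
  haveI : Fintype (SubMulAction.ofStabilizer G a) := Fintype.ofFinite _
  have hcardΩ : Fintype.card (SubMulAction.ofStabilizer G a) = Fintype.card α - 1 := by
    rw [← Nat.card_eq_fintype_card, SubMulAction.nat_card_ofStabilizer_eq,
      Nat.card_eq_fintype_card]
  have hsm : ∀ (g : stabilizer G a) (x : SubMulAction.ofStabilizer G a),
      ((g • x : SubMulAction.ofStabilizer G a) : α) = (g : G) • (x : α) := fun g x => rfl
  have hsharp2 : ∀ x : Fin 2 ↪ SubMulAction.ofStabilizer G a,
      stabilizer (stabilizer G a) x = ⊥ := by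
    intro x
    rw [Subgroup.eq_bot_iff_forall]
    intro g hg
    rw [mem_stabilizer_iff] at hg
    have e0 : g • x 0 = x 0 := by
      have := DFunLike.congr_fun hg 0
      simpa using this
    have e1 : g • x 1 = x 1 := by
      have := DFunLike.congr_fun hg 1
      simpa using this
    have hx01 : ((x 0 : SubMulAction.ofStabilizer G a) : α) ≠ (x 1 : α) := by
      intro hh
      have : x 0 = x 1 := Subtype.ext hh
      have := x.injective this
      exact absurd this (by decide)
    have hx0a : a ≠ ((x 0 : SubMulAction.ofStabilizer G a) : α) :=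
      fun hh => (SubMulAction.neq_of_mem_ofStabilizer G a (x := x 0)) hh.symm
    have hx1a : a ≠ ((x 1 : SubMulAction.ofStabilizer G a) : α) :=
      fun hh => (SubMulAction.neq_of_mem_ofStabilizer G a (x := x 1)) hh.symm
    have hga : (g : G) • a = a := g.2
    have hg0 : (g : G) • ((x 0 : SubMulAction.ofStabilizer G a) : α) = (x 0 : α) := by
      rw [← hsm, e0]
    have hg1 : (g : G) • ((x 1 : SubMulAction.ofStabilizer G a) : α) = (x 1 : α) := by
      rw [← hsm, e1]
    have := eq_one_of_fix3 hsharp hx0a hx1a hx01 (g : G) hga hg0 hg1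
    exact Subtype.ext this
  have hn2 : 2 ≤ Fintype.card (SubMulAction.ofStabilizer G a) := by rw [hcardΩ]; omega
  obtain ⟨N, hNmem, hNn, hNcomm, hNcard, p, hp, hNexp⟩ :=
    Cfsg.Agent.Lib.Lead.Sharp2.exists_kernel h2 hsharp2 hn2
  haveI := hNn
  haveI : Fact p.Prime := ⟨hp⟩
  -- N is nontrivial, of odd order
  have hNcard' : Nat.card N = Fintype.card α - 1 := by rw [hNcard, hcardΩ]
  have hNnt : N ≠ ⊥ := by
    intro hh
    rw [hh, Subgroup.card_bot] at hNcard'
    omega
  have hp2 : p ≠ 2 := by
    intro hh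
    obtain ⟨x, hxN, hx1⟩ : ∃ x ∈ N, x ≠ 1 := by
      by_contra hcon
      push Not at hcon
      exact hNnt ((Subgroup.eq_bot_iff_forall N).mpr hcon)
    have hx2 : x ^ 2 = 1 := hh ▸ hNexp x hxN
    have ho : orderOf x = 2 := orderOf_eq_prime hx2 hx1
    have hd : orderOf (⟨x, hxN⟩ : N) ∣ Nat.card N := orderOf_dvd_natCard _
    have ho' : orderOf (⟨x, hxN⟩ : N) = 2 := by
      rw [← ho]; exact (Subgroup.orderOf_coe (⟨x, hxN⟩ : N)).symm
    rw [ho', hNcard'] at hd
    obtain ⟨r, hr⟩ := heven
    omega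
  -- the base point b
  have hba : b ≠ a := hab.symm
  let bΩ : SubMulAction.ofStabilizer G a := ⟨b, hba⟩
  -- two elements of N agreeing on bΩ coincide
  have hNfree : ∀ n ∈ N, ∀ m ∈ N, n • bΩ = m • bΩ → n = m := by
    intro n hn m hm hnm
    have hmem : m⁻¹ * n ∈ N := N.mul_mem (N.inv_mem hm) hn
    rcases (hNmem _).mp hmem with h | h
    · have : m * (m⁻¹ * n) = m * 1 := by rw [h]
      simpa using this
    · exfalso
      apply h bΩ
      rw [mul_smul, hnm, inv_smul_smul]
  have hNmove : ∀ n ∈ N, n ≠ 1 → ((n • bΩ : SubMulAction.ofStabilizer G a) : α) ≠ b := by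
    intro n hn hn1 hh
    rcases (hNmem _).mp hn with h | h
    · exact hn1 h
    · exact h bΩ (Subtype.ext hh)
  -- the inclusion
  let φ : ↥(stabilizer G a ⊓ stabilizer G b) →* ↥(stabilizer G a) :=
    Subgroup.inclusion inf_le_left
  have hφ : ∀ k : ↥(stabilizer G a ⊓ stabilizer G b), ((φ k : stabilizer G a) : G) = (k : G) :=
    fun k => rfl
  have hkb : ∀ k : ↥(stabilizer G a ⊓ stabilizer G b), φ k • bΩ = bΩ := by
    intro k
    apply Subtype.ext
    rw [hsm, hφ]
    exact (Subgroup.mem_inf.mp k.2).2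
  refine geo N p hp2 hNcomm hNexp hNnt φ ?_ ?_ ?_
  · -- transitivity
    intro n hn m hm hn1 hm1
    have hy_a : a ≠ ((n • bΩ : SubMulAction.ofStabilizer G a) : α) :=
      fun hh => (SubMulAction.neq_of_mem_ofStabilizer G a (x := n • bΩ)) hh.symm
    have hz_a : a ≠ ((m • bΩ : SubMulAction.ofStabilizer G a) : α) :=
      fun hh => (SubMulAction.neq_of_mem_ofStabilizer G a (x := m • bΩ)) hh.symm
    have hy_b : b ≠ ((n • bΩ : SubMulAction.ofStabilizer G a) : α) :=
      fun hh => hNmove n hn hn1 hh.symm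
    have hz_b : b ≠ ((m • bΩ : SubMulAction.ofStabilizer G a) : α) :=
      fun hh => hNmove m hm hm1 hh.symm
    obtain ⟨k, hka, hkb', hky⟩ := exists_map3 (G := G) h3 hab hy_a hy_b hab hz_a hz_b
    have hkmem : k ∈ stabilizer G a ⊓ stabilizer G b := Subgroup.mem_inf.mpr ⟨hka, hkb'⟩
    refine ⟨⟨k, hkmem⟩, ?_⟩
    set kk : ↥(stabilizer G a ⊓ stabilizer G b) := ⟨k, hkmem⟩ with hkk
    have hconjN : φ kk * n * (φ kk)⁻¹ ∈ N := hNn.conj_mem n hn (φ kk)
    apply hNfree _ hconjN m hm
    rw [mul_smul, mul_smul]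
    have h1 : (φ kk)⁻¹ • bΩ = bΩ := by
      rw [inv_smul_eq_iff, hkb]
    rw [h1]
    apply Subtype.ext
    rw [hsm, hφ]
    exact hky
  · -- regularity
    intro n hn hn1 k hk
    have hy_a : a ≠ ((n • bΩ : SubMulAction.ofStabilizer G a) : α) :=
      fun hh => (SubMulAction.neq_of_mem_ofStabilizer G a (x := n • bΩ)) hh.symm
    have hy_b : b ≠ ((n • bΩ : SubMulAction.ofStabilizer G a) : α) :=
      fun hh => hNmove n hn hn1 hh.symm
    have hka : (k : G) • a = a := (Subgroup.mem_inf.mp k.2).1
    have hkb' : (k : G) • b = b := (Subgroup.mem_inf.mp k.2).2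
    have hky : (k : G) • ((n • bΩ : SubMulAction.ofStabilizer G a) : α) = (n • bΩ : _) := by
      have h1 : φ k • (n • bΩ) = n • bΩ := by
        have h2 : φ k * n = n * φ k := by
          have := congrArg (fun t => t * φ k) hk
          simpa [mul_assoc] using this
        rw [← mul_smul, h2, mul_smul, hkb]
      have := congrArg (fun t : SubMulAction.ofStabilizer G a => (t : α)) h1
      simpa [hsm, hφ] using this
    have := eq_one_of_fix3 hsharp hab hy_a hy_b (k : G) hka hkb' hky
    exact Subtype.ext this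
  · -- at most one subgroup of order 3
    intro A B hA hB
    have h1 : Nat.card (A.map (stabilizer G a ⊓ stabilizer G b).subtype) = 3 := by
      rw [Subgroup.card_map_of_injective (Subgroup.subtype_injective _)]; exact hA
    have h2 : Nat.card (B.map (stabilizer G a ⊓ stabilizer G b).subtype) = 3 := by
      rw [Subgroup.card_map_of_injective (Subgroup.subtype_injective _)]; exact hB
    have := Cfsg.Agent.S0728.result heven h6 G h3 hsharp hab _ _
      (Subgroup.map_subtype_le A) (Subgroup.map_subtype_le B) h1 h2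
    exact Subgroup.map_injective (Subgroup.subtype_injective _) this

end Cfsg.Agent.Lib.Helper2.Stt
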