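import Mathlib
import Cfsg.Prelude.Def_Perm
import Cfsg.Agent.Lib.Lead.S3A
import Cfsg.Agent.Lib.Helper2.SutB
import Cfsg.Agent.Lib.Helper2.SutD
import Cfsg.Agent.Lib.Helper2.SttE

set_option autoImplicit false
set_option linter.style.haveILetI false

namespace Cfsg.Agent.Lib.Helper2.Sut

open MulAction Cfsg Cfsg.Agent.Lib.Lead Cfsg.Agent.Lib.Lead.NearFieldLib Cfsg.Agent.Lib.Lead.S3

section Level

variable {α : Type*} [Fintype α] [DecidableEq α] (G : Subgroup (Equiv.Perm α)) (inf : α)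

/-- an involution of a sharply 3-transitive group of even degree with a fixed point and a moved
point has exactly two fixed points -/
theorem invol_fix_two (heven : Even (Fintype.card α))
    (hsharp : ∀ x : Fin 3 ↪ α, stabilizer G x = ⊥) (tp : Equiv.Perm α) (htpG : tp ∈ G)
    (htt : ∀ z : α, tp (tp z) = z) {w c : α} (hw : tp w ≠ w) (hc : tp c = c) :
    ∃ e : α, e ≠ c ∧ tp e = e ∧ ∀ z : α, tp z = z → z = c ∨ z = e := by
  have hsupp : 2 ∣ tp.support.card := Equiv.Perm.two_dvd_card_support (by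
    ext z; simp only [pow_two, Equiv.Perm.mul_apply, htt, Equiv.Perm.one_apply])
  have hS : (tp.supportᶜ).card = Fintype.card α - tp.support.card := Finset.card_compl _
  have hle : tp.support.card ≤ Fintype.card α := Finset.card_le_univ _
  have hmemS : ∀ z : α, z ∈ tp.supportᶜ ↔ tp z = z := fun z => by
    rw [Finset.mem_compl, Equiv.Perm.notMem_support]
  have hcS : c ∈ tp.supportᶜ := (hmemS c).mpr hc
  have hpos : 0 < (tp.supportᶜ).card := Finset.card_pos.mpr ⟨c, hcS⟩
  have hle2 : (tp.supportᶜ).card ≤ 2 := by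
    by_contra hcon
    have h2S : 2 < (tp.supportᶜ).card := by omega
    obtain ⟨a, b, d, ha, hb, hd, hab, had, hbd⟩ := Finset.two_lt_card_iff.mp h2S
    have h1 : (⟨tp, htpG⟩ : G) = 1 := by
      apply Sharp3.eq_one_of_fix3 hsharp hab had hbd
      · exact (hmemS a).mp ha
      · exact (hmemS b).mp hb
      · exact (hmemS d).mp hd
    have h2 : tp = 1 := congrArg Subtype.val h1
    apply hw
    rw [h2]; rfl
  have h2S : (tp.supportᶜ).card = 2 := by
    obtain ⟨k, hk⟩ := heven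
    obtain ⟨j, hj⟩ := hsupp
    omega
  obtain ⟨x, y, hxy, hSxy⟩ := Finset.card_eq_two.mp h2S
  have hmem' : ∀ z : α, tp z = z → z = x ∨ z = y := by
    intro z hz
    have : z ∈ tp.supportᶜ := (hmemS z).mpr hz
    rw [hSxy] at this
    simpa using this
  have hx : tp x = x := (hmemS x).mp (by rw [hSxy]; simp)
  have hy : tp y = y := (hmemS y).mp (by rw [hSxy]; simp)
  rcases hmem' c hc with h | h
  · refine ⟨y, ?_, hy, fun z hz => ?_⟩
    · rw [h]; exact hxy.symm
    · rw [h]; exact hmem' z hz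
  · refine ⟨x, ?_, hx, fun z hz => ?_⟩
    · rw [h]; exact hxy
    · rw [h]; exact (hmem' z hz).symm

/-- an index two subgroup of the multiplicative group of the near-field -/
theorem exists_index_two_units [NearField (Pt inf)] (h3 : IsMultiplyPretransitive G α 3)
    (hsharp : ∀ x : Fin 3 ↪ α, stabilizer G x = ⊥) (heven : Even (Fintype.card α))
    (h4 : 4 ≤ Fintype.card α)
    (hA : ∀ g ∈ G, g inf = inf → ∃ a b : Pt inf, a ≠ 0 ∧
      ∀ x : Pt inf, g (x : α) = ((x * a + b : Pt inf) : α))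
    (hA' : ∀ a b : Pt inf, a ≠ 0 → ∃ g ∈ G, g inf = inf ∧
      ∀ x : Pt inf, g (x : α) = ((x * a + b : Pt inf) : α)) :
    ∃ M : Subgroup (Pt inf)ˣ, M.index = 2 := by
  by_cases hc4 : Fintype.card α = 4
  · refine ⟨⊥, ?_⟩
    rw [Subgroup.index_bot]
    have h1 : Nat.card (Pt inf)ˣ + 1 = Nat.card (Pt inf) := card_units_add_one
    rw [Nat.card_eq_fintype_card (α := Pt inf), card_Pt, hc4] at h1
    omega
  have h6 : 6 ≤ Fintype.card α := by
    obtain ⟨k, hk⟩ := heven
    omega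
  have hoi : ((0 : Pt inf) : α) ≠ inf := (0 : Pt inf).2
  obtain ⟨M₀, hM₀⟩ := Stt.exists_index_two heven h6 G h3 hsharp (a := inf)
    (b := ((0 : Pt inf) : α)) hoi.symm
  have key : ∀ u : (Pt inf)ˣ, ∃ g : ↥(stabilizer G inf ⊓ stabilizer G ((0 : Pt inf) : α)),
      ∀ x : Pt inf, ((g : G) : Equiv.Perm α) (x : α) =
        ((x * ((u⁻¹ : (Pt inf)ˣ) : Pt inf) : Pt inf) : α) := by
    intro u
    obtain ⟨g, hgG, hgi, hg⟩ := hA' ((u⁻¹ : (Pt inf)ˣ) : Pt inf) 0 (unit_ne_zero _)
    have hg' : ∀ x : Pt inf, g (x : α) =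
        ((x * ((u⁻¹ : (Pt inf)ˣ) : Pt inf) : Pt inf) : α) := fun x => by rw [hg x, add_zero]
    refine ⟨⟨⟨g, hgG⟩, ?_⟩, hg'⟩
    rw [Subgroup.mem_inf, mem_stabilizer_iff, mem_stabilizer_iff]
    refine ⟨hgi, ?_⟩
    show g ((0 : Pt inf) : α) = _
    rw [hg', nf_zero_mul]
  have uniq : ∀ g h : ↥(stabilizer G inf ⊓ stabilizer G ((0 : Pt inf) : α)),
      (∀ x : Pt inf, ((g : G) : Equiv.Perm α) (x : α) = ((h : G) : Equiv.Perm α) (x : α)) →
        g = h := by
    intro g h hgh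
    apply Subtype.ext; apply Subtype.ext
    apply Equiv.ext
    intro z
    by_cases hz : z = inf
    · have hg1 : ((g : G) : Equiv.Perm α) inf = inf := (Subgroup.mem_inf.mp g.2).1
      have hh1 : ((h : G) : Equiv.Perm α) inf = inf := (Subgroup.mem_inf.mp h.2).1
      rw [hz, hg1, hh1]
    · exact hgh ⟨z, hz⟩
  choose ψf hψf using key
  let ψ : (Pt inf)ˣ →* ↥(stabilizer G inf ⊓ stabilizer G ((0 : Pt inf) : α)) :=
    { toFun := ψf
      map_one' := uniq _ _ (fun x => by
        rw [hψf 1 x, inv_one, Units.val_one, mul_one]; rfl)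
      map_mul' := fun u v => uniq _ _ (fun x => by
        have h1 : (((ψf u * ψf v : ↥(stabilizer G inf ⊓ stabilizer G ((0 : Pt inf) : α))) : G) :
            Equiv.Perm α) (x : α) = ((ψf u : G) : Equiv.Perm α)
              (((ψf v : G) : Equiv.Perm α) (x : α)) := rfl
        rw [h1, hψf (u * v) x, hψf v x, hψf u _, mul_inv_rev, Units.val_mul, mul_assoc]) }
  have hsurj : Function.Surjective ψ := by
    intro h
    have hh1 : ((h : G) : Equiv.Perm α) inf = inf := (Subgroup.mem_inf.mp h.2).1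
    have hh0 : ((h : G) : Equiv.Perm α) ((0 : Pt inf) : α) = ((0 : Pt inf) : α) :=
      (Subgroup.mem_inf.mp h.2).2
    obtain ⟨a, b, ha, hab⟩ := hA _ (h : G).2 hh1
    have hb : b = 0 := by
      have := hab 0
      rw [hh0, nf_zero_mul, zero_add] at this
      exact (Subtype.ext this).symm
    obtain ⟨u, hu⟩ := exists_unit a ha
    refine ⟨u⁻¹, uniq _ _ (fun x => ?_)⟩
    show ((ψf u⁻¹ : G) : Equiv.Perm α) (x : α) = _
    rw [hψf u⁻¹ x, inv_inv, hu, hab x, hb, add_zero]
  exact ⟨M₀.comap ψ, by rw [Subgroup.index_comap_of_surjective _ hsurj, hM₀]⟩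

/-- the near-field is commutative and `τ` inverts a subgroup of index two -/
theorem nf_level_odd [NearField (Pt inf)] (h3 : IsMultiplyPretransitive G α 3)
    (hsharp : ∀ x : Fin 3 ↪ α, stabilizer G x = ⊥) {p f : ℕ} (hp : p.Prime) (hp2 : p ≠ 2)
    (hfo : Odd f) (hα : Fintype.card α = p ^ f + 1)
    (hA : ∀ g ∈ G, g inf = inf → ∃ a b : Pt inf, a ≠ 0 ∧
      ∀ x : Pt inf, g (x : α) = ((x * a + b : Pt inf) : α))
    (hA' : ∀ a b : Pt inf, a ≠ 0 → ∃ g ∈ G, g inf = inf ∧
      ∀ x : Pt inf, g (x : α) = ((x * a + b : Pt inf) : α))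
    (tp : Equiv.Perm α) (htpG : tp ∈ G) (hti' : tp inf = ((0 : Pt inf) : α))
    (ht0' : tp ((0 : Pt inf) : α) = inf)
    (hte' : tp ((1 : Pt inf) : α) = ((1 : Pt inf) : α)) (htt : ∀ z : α, tp (tp z) = z)
    (τ : Pt inf → Pt inf) (hτ : ∀ x : Pt inf, x ≠ 0 → ((τ x : Pt inf) : α) = tp (x : α))
    (hττ : ∀ x : Pt inf, x ≠ 0 → τ (τ x) = x) (hτ1 : τ 1 = 1)
    (hmul : ∀ a b : Pt inf, a ≠ 0 → b ≠ 0 → τ (b * a) = τ b * τ a) :
    (∀ a b : Pt inf, a * b = b * a) ∧ ∃ A : Subgroup (Pt inf)ˣ, A.index = 2 ∧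
      ∀ a ∈ A, τ (a : Pt inf) = ((a⁻¹ : (Pt inf)ˣ) : Pt inf) := by
  have hoi : ((0 : Pt inf) : α) ≠ inf := (0 : Pt inf).2
  have hpodd : Odd (p ^ f) := (hp.odd_of_ne_two hp2).pow
  have hf0 : f ≠ 0 := by
    rintro rfl
    exact absurd hfo (by decide)
  have h1pf : 1 < p ^ f := Nat.one_lt_pow hf0 hp.one_lt
  have heven : Even (Fintype.card α) := by
    rw [hα]; exact hpodd.add_one
  have h4 : 4 ≤ Fintype.card α := by
    obtain ⟨k, hk⟩ := hpodd
    omega
  let T : (Pt inf)ˣ →* (Pt inf)ˣ :=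
    { toFun := fun u => ⟨τ u, τ (u⁻¹ : (Pt inf)ˣ),
        by rw [← hmul _ _ (unit_ne_zero u⁻¹) (unit_ne_zero u), Units.mul_inv, hτ1],
        by rw [← hmul _ _ (unit_ne_zero u) (unit_ne_zero u⁻¹), Units.inv_mul, hτ1]⟩
      map_one' := Units.ext hτ1
      map_mul' := fun u v => Units.ext (hmul _ _ (unit_ne_zero v) (unit_ne_zero u)) }
  have hTval : ∀ u : (Pt inf)ˣ, ((T u : (Pt inf)ˣ) : Pt inf) = τ (u : Pt inf) := fun u => rfl
  have hT2 : ∀ u, T (T u) = u := fun u => Units.ext (hττ _ (unit_ne_zero u))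
  have hfix : Nat.card {u : (Pt inf)ˣ // T u = u} = 2 := by
    have hw : tp inf ≠ inf := by rw [hti']; exact hoi
    obtain ⟨e, hec, hee, hall⟩ := invol_fix_two G heven hsharp tp htpG htt hw hte'
    have hei : e ≠ inf := by
      rintro rfl
      exact hw hee
    have he0 : (⟨e, hei⟩ : Pt inf) ≠ 0 := by
      intro h
      have h1 : e = ((0 : Pt inf) : α) := congrArg Subtype.val h
      rw [h1, ht0'] at hee
      exact hoi hee.symm
    obtain ⟨ue, hue⟩ := exists_unit (⟨e, hei⟩ : Pt inf) he0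
    have hTue : T ue = ue := by
      apply Units.ext
      rw [hTval, hue]
      apply Subtype.ext
      rw [hτ _ he0]
      exact hee
    have hT1 : T 1 = 1 := map_one T
    rw [Nat.card_eq_two_iff]
    refine ⟨⟨1, hT1⟩, ⟨ue, hTue⟩, ?_, ?_⟩
    · intro h
      have h1 : (1 : (Pt inf)ˣ) = ue := congrArg Subtype.val h
      have h2 : ((1 : Pt inf) : α) = e := by
        have := congrArg (fun v : (Pt inf)ˣ => ((v : Pt inf) : α)) h1
        simp only [Units.val_one, hue] at this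
        exact this
      exact hec h2.symm
    · apply Set.eq_univ_of_forall
      rintro ⟨u, hu⟩
      have hfu : tp ((u : Pt inf) : α) = ((u : Pt inf) : α) := by
        rw [← hτ _ (unit_ne_zero u), ← hTval, hu]
      rcases hall _ hfu with h | h
      · left
        apply Subtype.ext
        apply Units.ext
        apply Subtype.ext
        rw [Units.val_one]
        exact h
      · right
        apply Subtype.ext
        apply Units.ext
        apply Subtype.ext
        show ((u : Pt inf) : α) = ((ue : Pt inf) : α)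
        rw [hue]
        exact h
  have hM := exists_index_two_units G inf h3 hsharp heven h4 hA hA'
  have hcard : Nat.card (Pt inf) = p ^ f := by
    rw [Nat.card_eq_fintype_card, card_Pt, hα]; omega
  obtain ⟨hcomm, A, hAi, hAinv⟩ := nf_comm hp hp2 hfo hcard T hT2 hfix hM
  exact ⟨hcomm, A, hAi, fun a ha => congrArg Units.val (hAinv a ha)⟩

end Level

end Cfsg.Agent.Lib.Helper2.Sut
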