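import Mathlib
import Cfsg.Prelude.Def_Perm
import Cfsg.Agent.Lib.Lead.S3A
import Cfsg.Agent.Lib.Lead.S3B
import Cfsg.Agent.Lib.Helper2.SutC
import Cfsg.Agent.Lib.Helper2.SutE

set_option autoImplicit false
set_option linter.style.haveILetI false

namespace Cfsg.Agent.Lib.Helper2.Sut

open MulAction Cfsg Cfsg.Agent.Lib.Lead Cfsg.Agent.Lib.Lead.NearFieldLib Cfsg.Agent.Lib.Lead.S3

/-- in a finite ring of odd order, `-1 ≠ 1` -/
theorem neg_one_ne_one_of_odd {K : Type*} [Ring K] [Nontrivial K] [Finite K]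
    (hodd : Odd (Nat.card K)) : (-1 : K) ≠ 1 := by
  intro h
  have h2 : (2 : ℕ) • (1 : K) = 0 := by
    rw [two_nsmul]
    nth_rewrite 1 [← h]
    exact neg_add_cancel 1
  have hd2 : addOrderOf (1 : K) ∣ 2 := addOrderOf_dvd_of_nsmul_eq_zero h2
  have hdc : addOrderOf (1 : K) ∣ Nat.card K := addOrderOf_dvd_natCard 1
  have h1 : addOrderOf (1 : K) = 1 := by
    have hle : addOrderOf (1 : K) ≤ 2 := Nat.le_of_dvd (by norm_num) hd2
    have hpos : 0 < addOrderOf (1 : K) := Nat.pos_of_dvd_of_pos hd2 (by norm_num)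
    by_contra hne
    have h2' : addOrderOf (1 : K) = 2 := by omega
    rw [h2'] at hdc
    obtain ⟨k, hk⟩ := hodd
    omega
  rw [AddMonoid.addOrderOf_eq_one_iff] at h1
  exact one_ne_zero h1

section FE

variable {α : Type*} [Fintype α] [DecidableEq α] (G : Subgroup (Equiv.Perm α)) (inf : α)

/-- the functional equation of the involution `τ` -/
theorem fe_of_field [Field (Pt inf)] (hsharp : ∀ x : Fin 3 ↪ α, stabilizer G x = ⊥)
    (hne : (-1 : Pt inf) ≠ 1)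
    (hA' : ∀ a b : Pt inf, a ≠ 0 → ∃ g ∈ G, g inf = inf ∧
      ∀ x : Pt inf, g (x : α) = ((x * a + b : Pt inf) : α))
    (tp : Equiv.Perm α) (htpG : tp ∈ G) (hti' : tp inf = ((0 : Pt inf) : α))
    (ht0' : tp ((0 : Pt inf) : α) = inf)
    (hte' : tp ((1 : Pt inf) : α) = ((1 : Pt inf) : α))
    (τ : Pt inf → Pt inf) (hτ : ∀ x : Pt inf, x ≠ 0 → ((τ x : Pt inf) : α) = tp (x : α))
    (hττ : ∀ x : Pt inf, x ≠ 0 → τ (τ x) = x) (hτ1 : τ 1 = 1)
    (hmul : ∀ a b : Pt inf, a ≠ 0 → b ≠ 0 → τ (b * a) = τ b * τ a) :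
    ∀ x : Pt inf, x ≠ 0 → x ≠ -1 → τ (τ x + 1) = 1 - τ (x + 1) := by
  have hoi : ((0 : Pt inf) : α) ≠ inf := (0 : Pt inf).2
  have hm1 : (-1 : Pt inf) ≠ 0 := neg_ne_zero.mpr one_ne_zero
  have hm1i : ((-1 : Pt inf) : α) ≠ inf := (-1 : Pt inf).2
  have hm10 : ((0 : Pt inf) : α) ≠ ((-1 : Pt inf) : α) := fun h => hm1 (Subtype.ext h).symm
  have hτneg : τ (-1) = -1 := by
    have h1 : τ (-1) * τ (-1) = 1 := by
      rw [← hmul (-1) (-1) hm1 hm1, neg_mul_neg, one_mul, hτ1]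
    rcases mul_self_eq_one_iff.mp h1 with h | h
    · exfalso
      have h2 := hττ (-1) hm1
      rw [h, hτ1] at h2
      exact hne h2.symm
    · exact h
  obtain ⟨s, hsG, hsi, hs⟩ := hA' 1 1 one_ne_zero
  have hs' : ∀ x : Pt inf, s (x : α) = ((x + 1 : Pt inf) : α) := fun x => by
    rw [hs x, mul_one]
  obtain ⟨m, hmG, hmi, hm⟩ := hA' (-1) 0 hm1
  have hm' : ∀ x : Pt inf, m (x : α) = ((-x : Pt inf) : α) := fun x => by
    rw [hm x, add_zero, mul_neg, mul_one]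
  have hLG : tp * s * tp ∈ G := G.mul_mem (G.mul_mem htpG hsG) htpG
  have hRG : s * m * tp * s ∈ G := G.mul_mem (G.mul_mem (G.mul_mem hsG hmG) htpG) hsG
  have hL : ∀ z : α, (tp * s * tp) z = tp (s (tp z)) := fun z => rfl
  have hR : ∀ z : α, (s * m * tp * s) z = s (m (tp (s z))) := fun z => rfl
  have h01 : ((0 : Pt inf) + 1 : Pt inf) = 1 := zero_add 1
  have hn11 : ((-1 : Pt inf) + 1 : Pt inf) = 0 := neg_add_cancel 1
  have hn0 : (-(0 : Pt inf) : Pt inf) = 0 := neg_zero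
  have heq : (⟨tp * s * tp, hLG⟩ : G) = ⟨s * m * tp * s, hRG⟩ := by
    apply Sharp3.eq_of_agree3 hsharp hoi.symm hm1i.symm hm10
    · show (tp * s * tp) inf = (s * m * tp * s) inf
      rw [hL, hR, hti', hs', h01, hte', hsi, hti', hm', hn0, hs', h01]
    · show (tp * s * tp) ((0 : Pt inf) : α) = (s * m * tp * s) ((0 : Pt inf) : α)
      rw [hL, hR, ht0', hsi, hti', hs', h01, hte', hm', hs', hn11]
    · show (tp * s * tp) ((-1 : Pt inf) : α) = (s * m * tp * s) ((-1 : Pt inf) : α)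
      rw [hL, hR, ← hτ (-1) hm1, hτneg, hs', hn11, ht0', hmi, hsi]
  have heq' : tp * s * tp = s * m * tp * s := congrArg Subtype.val heq
  intro x hx hx1
  have hx1' : x + 1 ≠ 0 := fun h => hx1 (eq_neg_of_add_eq_zero_left h)
  have hτx1 : τ x + 1 ≠ 0 := by
    intro h
    have h1 : τ x = -1 := eq_neg_of_add_eq_zero_left h
    have h2 := hττ x hx
    rw [h1, hτneg] at h2
    exact hx1 h2.symm
  have h1 := DFunLike.congr_fun heq' (x : α)
  rw [hL, hR, ← hτ x hx, hs', ← hτ _ hτx1, hs', ← hτ _ hx1', hm', hs'] at h1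
  have h2 : τ (τ x + 1) = -τ (x + 1) + 1 := Subtype.ext h1
  rw [h2]; ring

end FE

section Main

variable {α : Type*} [Fintype α] [DecidableEq α] (G : Subgroup (Equiv.Perm α))

/-- Zassenhaus: a sharply 3-transitive group of degree `p^f + 1`, `p` odd and `f` odd,
is `PGL₂(p^f)` -/
theorem sharp3_pgl_odd {p f : ℕ} (hp : p.Prime) (hp2 : p ≠ 2) (hfo : Odd f)
    (hα : Fintype.card α = p ^ f + 1) (h3 : IsMultiplyPretransitive G α 3)
    (hsharp : ∀ x : Fin 3 ↪ α, stabilizer G x = ⊥) :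
    ∃ (F : Type) (_ : Field F) (_ : Fintype F), Fintype.card F = p ^ f ∧
      Nonempty (G ≃* Matrix.ProjGenLinGroup (Fin 2) F) := by
  have hpodd : Odd (p ^ f) := (hp.odd_of_ne_two hp2).pow
  have hf0 : f ≠ 0 := by
    rintro rfl
    exact absurd hfo (by decide)
  have h1pf : 1 < p ^ f := Nat.one_lt_pow hf0 hp.one_lt
  obtain ⟨inf⟩ : Nonempty α := Fintype.card_pos_iff.mp (by omega)
  haveI h2t := restrict_two_trans G inf h3
  have hsh2 := restrict_sharp G inf hsharp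
  have hcK : 2 ≤ Fintype.card (Pt inf) := by rw [card_Pt]; omega
  obtain ⟨nf, hdesc⟩ := Cfsg.Agent.S0683.result (stabRestrict G inf) hsh2 hcK
  obtain ⟨hA, hA'⟩ := aff_desc G inf hdesc
  obtain ⟨tp, htpG, hti', ht0', hte', htt, τ, hτ, hτ0, hττ, hτ1, hmul⟩ :=
    exists_tau G inf h3 hsharp hA hA'
  obtain ⟨hcomm, A, hAi, hAinv⟩ := nf_level_odd G inf h3 hsharp hp hp2 hfo hα hA hA' tp htpG
    hti' ht0' hte' htt τ hτ hττ hτ1 hmul
  have hcKpf : Fintype.card (Pt inf) = p ^ f := by rw [card_Pt, hα]; omega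
  letI fld : Field (Pt inf) := fieldOfNF (Pt inf) hcomm
  have hne : (-1 : Pt inf) ≠ 1 := by
    apply neg_one_ne_one_of_odd
    rw [Nat.card_eq_fintype_card, hcKpf]
    exact hpodd
  have hFE := fe_of_field G inf hsharp hne hA' tp htpG hti' ht0' hte' τ hτ hττ hτ1 hmul
  have hinv := tau_eq_inv A hAi τ hmul hAinv hFE
  have hT : ∃ t ∈ G, t inf = ((0 : Pt inf) : α) ∧ t ((0 : Pt inf) : α) = inf ∧
      ∀ x : Pt inf, x ≠ 0 → t (x : α) = ((x⁻¹ : Pt inf) : α) :=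
    ⟨tp, htpG, hti', ht0', fun x hx => by rw [← hτ x hx, hinv x hx]⟩
  obtain ⟨e⟩ := pgl_iso G inf h3 hA hA' hT
  haveI : Fact (Nat.Prime p) := ⟨hp⟩
  haveI : Fintype (GaloisField p f) := Fintype.ofFinite _
  have hcF : Fintype.card (GaloisField p f) = p ^ f := by
    rw [← Nat.card_eq_fintype_card]; exact GaloisField.card p f hf0
  let r : Pt inf ≃+* GaloisField p f := FiniteField.ringEquivOfCardEq (hcKpf.trans hcF.symm)
  exact ⟨GaloisField p f, inferInstance, inferInstance, hcF, ⟨e.trans (pglCongr r)⟩⟩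

end Main

end Cfsg.Agent.Lib.Helper2.Sut
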