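import Mathlib
import Cfsg.Agent.Lib.Helper1.SPEDefs
import Cfsg.Agent.Lib.Helper1.SPEA
import Cfsg.Agent.Lib.Helper3.SPEB

set_option autoImplicit false
set_option linter.unusedSectionVars false
set_option linter.unusedVariables false
set_option linter.unusedSimpArgs false
set_option linter.style.haveILetI false

/-!
Farm SPE (statement S2333), unit E: the upper count `card_pairs_le`.
-/

namespace Cfsg.Agent.Lib.Helper2.SPE

open Matrix Cfsg.Agent.Lib.Helper6.Wl Cfsg.Agent.Lib.Helper1.SPE
open Cfsg.Agent.Lib.Helper3.SPE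

variable {F : Type*} [Field F] [Fintype F] [DecidableEq F]

section bil
variable {n : ℕ} (T : Matrix (Fin n) (Fin n) F)

/-- the polar form of `qf T`, as a bilinear expression -/
def pm (x y : Fin n → F) : F := x ⬝ᵥ ((T + Tᵀ) *ᵥ y)

theorem polF_eq_pm (x y : Fin n → F) : polF (qf T) x y = pm T x y := by
  unfold polF qf pm
  have h1 : x ⬝ᵥ (Tᵀ *ᵥ y) = y ⬝ᵥ (T *ᵥ x) := by
    rw [mulVec_transpose, dotProduct_comm, ← dotProduct_mulVec]
  rw [Matrix.add_mulVec, dotProduct_add, h1]
  simp only [mulVec_add, dotProduct_add, add_dotProduct]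
  ring

theorem pm_add_left (x x' y : Fin n → F) : pm T (x + x') y = pm T x y + pm T x' y := by
  unfold pm
  rw [add_dotProduct]

theorem pm_add_right (x y y' : Fin n → F) : pm T x (y + y') = pm T x y + pm T x y' := by
  unfold pm
  rw [mulVec_add, dotProduct_add]

theorem pm_smul_left (s : F) (x y : Fin n → F) : pm T (s • x) y = s * pm T x y := by
  unfold pm
  rw [smul_dotProduct, smul_eq_mul]

theorem pm_smul_right (s : F) (x y : Fin n → F) : pm T x (s • y) = s * pm T x y := by
  unfold pm
  rw [mulVec_smul, dotProduct_smul, smul_eq_mul]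

theorem pm_symm (x y : Fin n → F) : pm T x y = pm T y x := by
  unfold pm
  have hM : (T + Tᵀ)ᵀ = T + Tᵀ := by
    rw [transpose_add, transpose_transpose, add_comm]
  rw [dotProduct_mulVec, ← mulVec_transpose, hM, dotProduct_comm]

theorem qf_zero : qf T (0 : Fin n → F) = 0 := by
  unfold qf
  rw [zero_dotProduct]

theorem pm_self (h2 : (2 : F) = 0) (x : Fin n → F) : pm T x x = 0 := by
  rw [← polF_eq_pm]
  unfold polF
  have hx : x + x = 0 := by
    ext i
    show x i + x i = 0
    rw [← two_mul, h2, zero_mul]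
  rw [hx, qf_zero]
  have : qf T x + qf T x = 0 := by rw [← two_mul, h2, zero_mul]
  linear_combination -this

theorem qf_add (x y : Fin n → F) : qf T (x + y) = qf T x + qf T y + pm T x y := by
  rw [← polF_eq_pm]
  unfold polF
  ring

end bil

section dec
variable {m : ℕ} (T : Matrix (Fin (m + 2)) (Fin (m + 2)) F)

/-- the tail `(0, 0, u)` -/
def tailV (u : Fin m → F) : Fin (m + 2) → F := Fin.cons 0 (Fin.cons 0 u)

theorem tailV_zero (u : Fin m → F) : tailV u 0 = 0 := by
  unfold tailV
  rw [Fin.cons_zero]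

theorem tailV_one (u : Fin m → F) : tailV u 1 = 0 := by
  unfold tailV
  rw [show (1 : Fin (m + 2)) = Fin.succ 0 from rfl, Fin.cons_succ, Fin.cons_zero]

theorem tailV_succ_succ (u : Fin m → F) (j : Fin m) : tailV u j.succ.succ = u j := by
  unfold tailV
  rw [Fin.cons_succ, Fin.cons_succ]

theorem vec_eq (x : Fin (m + 2) → F) :
    x = x 0 • Pi.single 0 1 + x 1 • Pi.single 1 1 + tailV (fun j => x j.succ.succ) := by
  ext i
  simp only [Pi.add_apply, Pi.smul_apply, smul_eq_mul, Pi.single_apply]
  refine Fin.cases ?_ (fun i => ?_) i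
  · rw [tailV_zero]
    simp
  · refine Fin.cases ?_ (fun j => ?_) i
    · rw [show (Fin.succ (0 : Fin (m + 1))) = (1 : Fin (m + 2)) from rfl, tailV_one]
      simp
    · rw [tailV_succ_succ]
      have h0 : (j.succ.succ : Fin (m + 2)) ≠ 0 := Fin.succ_ne_zero _
      have h1 : (j.succ.succ : Fin (m + 2)) ≠ 1 := by
        intro h
        have := congrArg Fin.val h
        simp at this
      simp [h0, h1]

/-- the component of the tail orthogonal to the plane `⟨e₀, e₁⟩` -/
noncomputable def zV (u : Fin m → F) : Fin (m + 2) → F :=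
  tailV u + (pm T (Pi.single 1 1) (tailV u) / pm T (Pi.single 0 1) (Pi.single 1 1)) • Pi.single 0 1 +
    (pm T (Pi.single 0 1) (tailV u) / pm T (Pi.single 0 1) (Pi.single 1 1)) • Pi.single 1 1

theorem pm_e0_zV (h2 : (2 : F) = 0) (hb : pm T (Pi.single 0 1) (Pi.single 1 1) ≠ 0)
    (u : Fin m → F) : pm T (Pi.single 0 1) (zV T u) = 0 := by
  unfold zV
  rw [pm_add_right, pm_add_right, pm_smul_right, pm_smul_right, pm_self T h2, mul_zero, add_zero,
    div_mul_cancel₀ _ hb, ← two_mul, h2, zero_mul]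

theorem pm_e1_zV (h2 : (2 : F) = 0) (hb : pm T (Pi.single 0 1) (Pi.single 1 1) ≠ 0)
    (u : Fin m → F) : pm T (Pi.single 1 1) (zV T u) = 0 := by
  unfold zV
  rw [pm_add_right, pm_add_right, pm_smul_right, pm_smul_right, pm_self T h2, mul_zero, add_zero,
    pm_symm T (Pi.single 1 1) (Pi.single 0 1), div_mul_cancel₀ _ hb, ← two_mul, h2, zero_mul]

/-- the tail of a vector -/
def tlv (x : Fin (m + 2) → F) : Fin m → F := fun j => x j.succ.succ

/-- the correction of the coordinate `0` -/
noncomputable def alV (u : Fin m → F) : F :=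
  pm T (Pi.single 1 1) (tailV u) / pm T (Pi.single 0 1) (Pi.single 1 1)

/-- the correction of the coordinate `1` -/
noncomputable def beV (u : Fin m → F) : F :=
  pm T (Pi.single 0 1) (tailV u) / pm T (Pi.single 0 1) (Pi.single 1 1)

/-- the decomposition `x = s e₀ + r e₁ + z` -/
theorem vec_eq' (h2 : (2 : F) = 0) (x : Fin (m + 2) → F) :
    x = (x 0 + alV T (tlv x)) • Pi.single 0 1 + (x 1 + beV T (tlv x)) • Pi.single 1 1 +
        zV T (tlv x) := by
  have hadd : ∀ v : Fin (m + 2) → F, v + v = 0 := by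
    intro v
    ext i
    show v i + v i = 0
    rw [← two_mul, h2, zero_mul]
  conv_lhs => rw [vec_eq x]
  unfold zV alV beV tlv
  rw [add_smul, add_smul]
  set A := (pm T (Pi.single 1 1) (tailV (fun j => x j.succ.succ)) /
          pm T (Pi.single 0 1) (Pi.single 1 1)) • (Pi.single 0 1 : Fin (m + 2) → F) with hA
  set B := (pm T (Pi.single 0 1) (tailV (fun j => x j.succ.succ)) /
          pm T (Pi.single 0 1) (Pi.single 1 1)) • (Pi.single 1 1 : Fin (m + 2) → F) with hB
  have e : x 0 • (Pi.single 0 1 : Fin (m + 2) → F) + A + (x 1 • Pi.single 1 1 + B) +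
      (tailV (fun j => x j.succ.succ) + A + B) =
      x 0 • Pi.single 0 1 + x 1 • Pi.single 1 1 + tailV (fun j => x j.succ.succ) +
        ((A + A) + (B + B)) := by abel
  rw [e, hadd A, hadd B, add_zero, add_zero]

theorem vec_eq'' (x : Fin (m + 2) → F) :
    x = x 0 • Pi.single 0 1 + x 1 • Pi.single 1 1 + tailV (tlv x) := vec_eq x

/-- values of `Q` and of the polar form in the decomposition -/
theorem qf_dec (h2 : (2 : F) = 0) (s r : F) (z : Fin (m + 2) → F)
    (hz0 : pm T (Pi.single 0 1) z = 0) (hz1 : pm T (Pi.single 1 1) z = 0) :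
    qf T (s • Pi.single 0 1 + r • Pi.single 1 1 + z) =
      bq (qf T (Pi.single 0 1)) (pm T (Pi.single 0 1) (Pi.single 1 1)) (qf T (Pi.single 1 1)) s r +
        qf T z := by
  rw [qf_add, pm_add_left, pm_smul_left, pm_smul_left, hz0, hz1, mul_zero, mul_zero, add_zero,
    add_zero, qf_comb, polF_eq_pm]

theorem pm_dec (h2 : (2 : F) = 0) (s r s' r' : F) (z z' : Fin (m + 2) → F)
    (hz0 : pm T (Pi.single 0 1) z = 0) (hz1 : pm T (Pi.single 1 1) z = 0)
    (hz0' : pm T (Pi.single 0 1) z' = 0) (hz1' : pm T (Pi.single 1 1) z' = 0) :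
    pm T (s • Pi.single 0 1 + r • Pi.single 1 1 + z) (s' • Pi.single 0 1 + r' • Pi.single 1 1 + z') =
      pm T (Pi.single 0 1) (Pi.single 1 1) * (s * r' + r * s') + pm T z z' := by
  have hz0s : pm T z (Pi.single 0 1) = 0 := by rw [pm_symm, hz0]
  have hz1s : pm T z (Pi.single 1 1) = 0 := by rw [pm_symm, hz1]
  simp only [pm_add_left, pm_add_right, pm_smul_left, pm_smul_right, pm_self T h2, hz0', hz1',
    hz0s, hz1s, pm_symm T (Pi.single 1 1) (Pi.single 0 1)]
  ring

end dec

section main
variable {m : ℕ}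

theorem card_pairs_le (h2 : (2 : F) = 0)
    (T : Matrix (Fin (m + 2)) (Fin (m + 2)) F)
    (hb : polF (qf T) (Pi.single 0 1) (Pi.single 1 1) ≠ 0)
    (hcase : Ani (qf T) (Pi.single 0 1) (Pi.single 1 1) ∨
      Hyp (qf T) (Pi.single 0 1) (Pi.single 1 1)) :
    (Finset.univ.filter (fun p : (Fin (m + 2) → F) × (Fin (m + 2) → F) =>
      qf T p.1 = qf T (Pi.single 0 1) ∧ qf T p.2 = qf T (Pi.single 1 1) ∧
        polF (qf T) p.1 p.2 = polF (qf T) (Pi.single 0 1) (Pi.single 1 1))).card
      ≤ 2 * (Fintype.card F + 1) * Fintype.card F ^ (2 * m) := by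
  classical
  rw [polF_eq_pm] at hb
  simp only [polF_eq_pm]
  have hfib : ∀ uu ∈ (Finset.univ.filter (fun p : (Fin (m + 2) → F) × (Fin (m + 2) → F) =>
      qf T p.1 = qf T (Pi.single 0 1) ∧ qf T p.2 = qf T (Pi.single 1 1) ∧
        pm T p.1 p.2 = pm T (Pi.single 0 1) (Pi.single 1 1))).image
        (fun p => (tlv p.1, tlv p.2)),
      ((Finset.univ.filter (fun p : (Fin (m + 2) → F) × (Fin (m + 2) → F) =>
      qf T p.1 = qf T (Pi.single 0 1) ∧ qf T p.2 = qf T (Pi.single 1 1) ∧
        pm T p.1 p.2 = pm T (Pi.single 0 1) (Pi.single 1 1))).filter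
        (fun p => (tlv p.1, tlv p.2) = uu)).card ≤ 2 * (Fintype.card F + 1) := by
    rintro ⟨u, u'⟩ -
    have hz0 := pm_e0_zV T h2 hb u
    have hz1 := pm_e1_zV T h2 hb u
    have hz0' := pm_e0_zV T h2 hb u'
    have hz1' := pm_e1_zV T h2 hb u'
    -- the set of unit B
    have hBs : (Finset.univ.filter (fun p : (F × F) × (F × F) =>
        bq (qf T (Pi.single 0 1)) (pm T (Pi.single 0 1) (Pi.single 1 1)) (qf T (Pi.single 1 1))
          p.1.1 p.1.2 = qf T (Pi.single 0 1) - qf T (zV T u) ∧
        bq (qf T (Pi.single 0 1)) (pm T (Pi.single 0 1) (Pi.single 1 1)) (qf T (Pi.single 1 1))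
          p.2.1 p.2.2 = qf T (Pi.single 1 1) - qf T (zV T u') ∧
        pm T (Pi.single 0 1) (Pi.single 1 1) * (p.1.1 * p.2.2 + p.1.2 * p.2.1) =
          pm T (Pi.single 0 1) (Pi.single 1 1) - pm T (zV T u) (zV T u'))).card ≤
        2 * (Fintype.card F + 1) := by
      rcases hcase with hani | hhyp
      · apply card_bq_pairs_le h2
        intro s t hst
        apply hani s t
        rw [qf_comb, polF_eq_pm]
        exact hst
      · obtain ⟨h0, h1, h3⟩ := hhyp
        have hq : ∀ z : Fin (m + 2) → F, pm T (Pi.single 0 1) z = 0 →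
            pm T (Pi.single 1 1) z = 0 → qf T z = 0 := by
          intro z hz hz'
          apply h3 z
          · rw [polF_eq_pm]; exact hz
          · rw [polF_eq_pm]; exact hz'
        have e1 : qf T (zV T u) = 0 := hq _ hz0 hz1
        have e2 : qf T (zV T u') = 0 := hq _ hz0' hz1'
        have e3 : pm T (zV T u) (zV T u') = 0 := by
          have h4 : qf T (zV T u + zV T u') = 0 := by
            apply hq
            · rw [pm_add_right, hz0, hz0', add_zero]
            · rw [pm_add_right, hz1, hz1', add_zero]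
          have h5 := qf_add T (zV T u) (zV T u')
          rw [h4, e1, e2, zero_add, zero_add] at h5
          exact h5.symm
        rw [h0, h1, e1, e2, e3]
        simp only [sub_zero]
        exact card_hyp_pairs_le _ hb
    refine le_trans (Finset.card_le_card_of_injOn
      (fun p => ((p.1 0 + alV T u, p.1 1 + beV T u), (p.2 0 + alV T u', p.2 1 + beV T u')))
      ?_ ?_) hBs
    · intro p hp
      rw [Finset.mem_coe, Finset.mem_filter, Finset.mem_filter] at hp
      obtain ⟨⟨-, hq1, hq2, hq3⟩, htl⟩ := hp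
      have hu : tlv p.1 = u := congrArg Prod.fst htl
      have hu' : tlv p.2 = u' := congrArg Prod.snd htl
      have e1 := vec_eq' T h2 p.1
      rw [hu] at e1
      have e2 := vec_eq' T h2 p.2
      rw [hu'] at e2
      have d1 := qf_dec T h2 (p.1 0 + alV T u) (p.1 1 + beV T u) (zV T u) hz0 hz1
      rw [← e1, hq1] at d1
      have d2 := qf_dec T h2 (p.2 0 + alV T u') (p.2 1 + beV T u') (zV T u') hz0' hz1'
      rw [← e2, hq2] at d2
      have d3 := pm_dec T h2 (p.1 0 + alV T u) (p.1 1 + beV T u) (p.2 0 + alV T u')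
        (p.2 1 + beV T u') (zV T u) (zV T u') hz0 hz1 hz0' hz1'
      rw [← e1, ← e2, hq3] at d3
      rw [Finset.mem_coe, Finset.mem_filter]
      refine ⟨Finset.mem_univ _, ?_, ?_, ?_⟩
      · show bq _ _ _ (p.1 0 + alV T u) (p.1 1 + beV T u) = _
        linear_combination -d1
      · show bq _ _ _ (p.2 0 + alV T u') (p.2 1 + beV T u') = _
        linear_combination -d2
      · show _ * ((p.1 0 + alV T u) * (p.2 1 + beV T u') + (p.1 1 + beV T u) * (p.2 0 + alV T u'))
          = _
        linear_combination -d3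
    · intro p hp p' hp' heq
      rw [Finset.mem_coe, Finset.mem_filter] at hp hp'
      have htl := hp.2
      have htl' := hp'.2
      have hu : tlv p.1 = tlv p'.1 :=
        (congrArg Prod.fst htl).trans (congrArg Prod.fst htl').symm
      have hu' : tlv p.2 = tlv p'.2 :=
        (congrArg Prod.snd htl).trans (congrArg Prod.snd htl').symm
      have g1 : p.1 0 = p'.1 0 := add_right_cancel (congrArg (fun q : (F × F) × (F × F) => q.1.1) heq)
      have g2 : p.1 1 = p'.1 1 := add_right_cancel (congrArg (fun q : (F × F) × (F × F) => q.1.2) heq)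
      have g3 : p.2 0 = p'.2 0 := add_right_cancel (congrArg (fun q : (F × F) × (F × F) => q.2.1) heq)
      have g4 : p.2 1 = p'.2 1 := add_right_cancel (congrArg (fun q : (F × F) × (F × F) => q.2.2) heq)
      apply Prod.ext
      · rw [vec_eq'' p.1, vec_eq'' p'.1, g1, g2, hu]
      · rw [vec_eq'' p.2, vec_eq'' p'.2, g3, g4, hu']
  have h1 := Finset.card_le_mul_card_image _ _ hfib
  refine le_trans h1 ?_
  apply Nat.mul_le_mul_left
  refine le_trans (Finset.card_le_univ _) ?_
  rw [Fintype.card_prod, Fintype.card_fun, Fintype.card_fin, ← pow_add, two_mul]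

end main

end Cfsg.Agent.Lib.Helper2.SPE
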