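import Mathlib
import Cfsg.Prelude.Def_ChevStructure
import Cfsg.Agent.Lib.Helper5.ChevCoLin
import Cfsg.Agent.Lib.Helper5.ChevWRel
import Cfsg.Agent.Lib.Helper5.ChevWPerm
import Cfsg.Agent.Lib.Helper5.ChevConj
import Cfsg.Agent.Lib.Helper5.ChevW0
import Cfsg.Agent.Lib.Helper5.ChevBnB
import Cfsg.Agent.Lib.Helper5.ChevGen

set_option autoImplicit false
set_option linter.style.haveILetI false

/-!
Weakly closed unipotent subgroups: a weakly closed subgroup `X` of `U` generated by root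
subgroups, not containing the fundamental root subgroup `X_{p_j}`, has its set of roots stable
under the fundamental reflection `s_j`.
-/

namespace Cfsg.Agent.Lib.Helper2.Wc

open Cfsg Cfsg.Lie Cfsg.Agent.Lib.Helper5.ChevSym Cfsg.Agent.Lib.Helper5.ChevStruct

variable {F : Type*} [Field F]

/-- conjugation by `n_j` as an equation in `GL` -/
theorem nGL_conj_xGL (D : ChevalleyDatum) (hD : D ∈ Seven) (j : ℕ) (hj : j < D.rank) (r : ℕ)
    (hr : r < D.nroots) (t : F) :
    nGL D hD j * xGL D hD r t * (nGL D hD j)⁻¹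
      = xGL D hD (D.reflectRoot j r) ((eta D j r : F) * t) := by
  apply Units.ext
  rw [nGL_conj D hD j hj r hr t (xGL D hD r t) (xGL_val D hD r t), xGL_val]

theorem eta_mul_eta (D : ChevalleyDatum) (hD : D ∈ Seven) (j : ℕ) (hj : j < D.rank) (r : ℕ)
    (hr : r < D.nroots) : ((eta D j r : ℤ) : F) * ((eta D j r : ℤ) : F) = 1 := by
  rcases eta_sq D hD j hj r hr with h | h <;> rw [h] <;> simp

/-- **S7**: if the weakly closed subgroup `X` is generated by the root subgroups it contains and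
does not contain `X_{p_j}`, then `X_r ≤ X` implies `X_{s_j r} ≤ X`. -/
theorem refl_stable (D : ChevalleyDatum) (hD : D ∈ Seven) (X : Subgroup (GL D.Idx F))
    (hwc : ∀ g ∈ D.group F, X.map (MulAut.conj g).toMonoidHom ≤ D.posUnipotent F →
      X.map (MulAut.conj g).toMonoidHom = X)
    (hgen : X ≤ Subgroup.closure {g : GL D.Idx F | ∃ (r : ℕ) (t : F), D.IsPosRoot r ∧
      D.rootSubgroup F r ≤ X ∧ g = xGL D hD r t})
    (j : ℕ) (hj : j < D.rank) (hjX : ¬ D.rootSubgroup F (D.simple j) ≤ X)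
    (r : ℕ) (hr : D.IsPosRoot r) (hrX : D.rootSubgroup F r ≤ X) :
    D.rootSubgroup F (D.reflectRoot j r) ≤ X := by
  have hn : (nGL D hD j : GL D.Idx F) ∈ D.group F :=
    monomial_le_group D hD (nGL_mem D hD j hj)
  have h1 : X.map (MulAut.conj (nGL D hD j : GL D.Idx F)).toMonoidHom ≤ D.posUnipotent F := by
    rw [Subgroup.map_le_iff_le_comap]
    refine hgen.trans ?_
    rw [Subgroup.closure_le]
    rintro g ⟨s, t, hs, hsX, rfl⟩
    have hne : s ≠ D.simple j := by
      rintro rfl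
      exact hjX hsX
    have hpos := (checkCoLin_spec D j (chkCoLin_all D hD j hj) s hs.1).2 hs hne
    change (MulAut.conj (nGL D hD j : GL D.Idx F)).toMonoidHom (xGL D hD s t) ∈ D.posUnipotent F
    rw [MulEquiv.coe_toMonoidHom, MulAut.conj_apply, nGL_conj_xGL D hD j hj s hs.1 t]
    exact Subgroup.subset_closure ⟨_, _, hpos, rfl⟩
  have h2 := hwc _ hn h1
  unfold ChevalleyDatum.rootSubgroup
  rw [Subgroup.closure_le]
  rintro g ⟨t, hg⟩
  have hx : xGL D hD r ((eta D j r : F) * t) ∈ X :=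
    hrX (xGL_mem_rootSubgroup D hD r _)
  have hgeq : g = nGL D hD j * xGL D hD r ((eta D j r : F) * t) * (nGL D hD j)⁻¹ := by
    rw [nGL_conj_xGL D hD j hj r hr.1, ← mul_assoc, eta_mul_eta D hD j hj r hr.1, one_mul]
    exact Units.ext hg
  rw [SetLike.mem_coe, ← h2, Subgroup.mem_map]
  refine ⟨_, hx, ?_⟩
  rw [MulEquiv.coe_toMonoidHom, MulAut.conj_apply, hgeq]

/-- the same with the generating set written with matrices -/
theorem refl_stable' (D : ChevalleyDatum) (hD : D ∈ Seven) (X : Subgroup (GL D.Idx F))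
    (hwc : ∀ g ∈ D.group F, X.map (MulAut.conj g).toMonoidHom ≤ D.posUnipotent F →
      X.map (MulAut.conj g).toMonoidHom = X)
    (hgen : X ≤ Subgroup.closure {g : GL D.Idx F | ∃ (r : ℕ) (t : F), D.IsPosRoot r ∧
      D.rootSubgroup F r ≤ X ∧ (g : Matrix D.Idx D.Idx F) = D.x F r t})
    (j : ℕ) (hj : j < D.rank) (hjX : ¬ D.rootSubgroup F (D.simple j) ≤ X)
    (r : ℕ) (hr : D.IsPosRoot r) (hrX : D.rootSubgroup F r ≤ X) :
    D.rootSubgroup F (D.reflectRoot j r) ≤ X := by
  refine refl_stable D hD X hwc (hgen.trans (Subgroup.closure_mono ?_)) j hj hjX r hr hrX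
  rintro g ⟨s, t, hs, hsX, hg⟩
  exact ⟨s, t, hs, hsX, Units.ext hg⟩

end Cfsg.Agent.Lib.Helper2.Wc
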