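import Mathlib
import Cfsg.Agent.Lib.Helper1.TCSDefs

/-!
# S4284 farm piece G7 (helper2): coprime action on an abelian normal subgroup, `C_K(t) ∩ [K,t] = 1`.
-/

set_option autoImplicit false
set_option maxHeartbeats 4000000
set_option linter.unusedVariables false
set_option linter.unusedSectionVars false
set_option linter.style.longLine false

namespace Cfsg.Agent.Lib.Helper1.TCS

open Cfsg.Agent.Lib.Helper8.CSG Cfsg.Agent.Lib.Helper1.PSG

section generic
variable {G : Type*} [Group G] [Finite G]

/-- G7 (coprime action on an abelian group). -/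
theorem comm_fixed_eq_one (K : Subgroup G) [K.Normal] (hKc : ∀ a ∈ K, ∀ b ∈ K, a * b = b * a) {t : G}
    (hco : (orderOf t).Coprime (Nat.card K)) {k : G} (hk : k ∈ K)
    (hfix : t * (k⁻¹ * (t * k * t⁻¹)) = (k⁻¹ * (t * k * t⁻¹)) * t) : k⁻¹ * (t * k * t⁻¹) = 1 := by
  set y := k⁻¹ * (t * k * t⁻¹) with hy
  have hyK : y ∈ K := K.mul_mem (K.inv_mem hk) (Subgroup.Normal.conj_mem inferInstance k hk t)
  have htk : t * k = k * y * t := by rw [hy]; group
  have hty : ∀ i : ℕ, t * y ^ i = y ^ i * t := fun i => (Commute.pow_right (show Commute t y from hfix) i).eq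
  have key : ∀ i : ℕ, t ^ i * k = k * y ^ i * t ^ i := by
    intro i
    induction i with
    | zero => simp
    | succ i ih =>
      calc t ^ (i + 1) * k = t * (t ^ i * k) := by rw [pow_succ']; group
        _ = t * (k * y ^ i * t ^ i) := by rw [ih]
        _ = (t * k) * y ^ i * t ^ i := by group
        _ = k * y * (t * y ^ i) * t ^ i := by rw [htk]; group
        _ = k * y * (y ^ i * t) * t ^ i := by rw [hty]
        _ = k * y ^ (i + 1) * t ^ (i + 1) := by rw [pow_succ' y, pow_succ' t]; group
  have h1 : y ^ orderOf t = 1 := by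
    have := key (orderOf t)
    rw [pow_orderOf_eq_one, one_mul, mul_one] at this
    have h2 : k * 1 = k * y ^ orderOf t := by rw [mul_one]; exact this
    exact (mul_left_cancel h2).symm
  have h2 : y ^ Nat.card K = 1 := by
    have := pow_card_eq_one' (G := K) (x := ⟨y, hyK⟩)
    exact congrArg Subtype.val this
  have h3 : orderOf y ∣ 1 := by
    have := Nat.dvd_gcd (orderOf_dvd_of_pow_eq_one h1) (orderOf_dvd_of_pow_eq_one h2)
    rwa [Nat.Coprime.gcd_eq_one hco] at this
  exact orderOf_eq_one_iff.mp (Nat.dvd_one.mp h3)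

end generic

end Cfsg.Agent.Lib.Helper1.TCS
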