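import Mathlib
import Cfsg.Agent.Lib.Helper1.TCSDefs
import Cfsg.Agent.Lib.Helper1.TCSApi
import Cfsg.Agent.Lib.Helper1.TCSBasic
import Cfsg.Agent.Lib.Helper1.TCSBasicC
import Cfsg.Agent.Lib.Helper1.TCSB1
import Cfsg.Agent.Lib.Helper9.TCSG5
import Cfsg.Agent.Lib.Helper9.TCSG9
import Cfsg.Agent.Lib.Helper2.TCSG7
import Cfsg.Agent.Lib.Helper1.TCSB3

/-!
# S4284 farm piece B4 (helper2): `P / C_P(K)` acts semiregularly on `K ∖ 1`.
-/

set_option autoImplicit false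
set_option maxHeartbeats 4000000
set_option linter.unusedVariables false
set_option linter.unusedSectionVars false
set_option linter.style.longLine false
set_option linter.style.haveILetI false

namespace Cfsg.Agent.Lib.Helper1.TCS

open Cfsg.Agent.Lib.Helper8.CSG Cfsg.Agent.Lib.Helper1.PSG

variable {G : Type*} [Group G] [Finite G] {p a n : ℕ}

theorem h2tcs_relIndex_ne_zero (H Q : Subgroup G) : H.relIndex Q ≠ 0 := by
  have := h9tcs_card_inf_mul_relIndex H Q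
  intro h0
  rw [h0, mul_zero] at this
  exact (Nat.card_pos (α := Q)).ne' this.symm

/-- two subgroups of `Q` (cut out by `H₁`, `H₂`), one inside the other, of the same index in `Q`, are equal -/
theorem h2tcs_inf_le_of_relIndex (Q H₁ H₂ : Subgroup G) (hle : Q ⊓ H₁ ≤ Q ⊓ H₂)
    (hidx : H₁.relIndex Q = H₂.relIndex Q) : Q ⊓ H₂ ≤ Q ⊓ H₁ := by
  have h1 := h9tcs_card_inf_mul_relIndex H₁ Q
  have h2 := h9tcs_card_inf_mul_relIndex H₂ Q
  have hr : H₂.relIndex Q ≠ 0 := h2tcs_relIndex_ne_zero H₂ Q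
  have hc : Nat.card (H₁ ⊓ Q : Subgroup G) = Nat.card (H₂ ⊓ Q : Subgroup G) := by
    rw [hidx, ← h2] at h1
    exact Nat.eq_of_mul_eq_mul_right (Nat.pos_of_ne_zero hr) h1
  rw [inf_comm Q H₁, inf_comm Q H₂] at hle ⊢
  exact (Subgroup.eq_of_le_of_card_ge hle hc.ge).ge

/-- elements of a Sylow `p`-subgroup and of a `p'`-subgroup have coprime orders -/
theorem h2tcs_coprime_orders [Fact p.Prime] (K : Subgroup G) (hK : (Nat.card K).Coprime p) (P : Sylow p G)
    {t k : G} (ht : t ∈ (P : Subgroup G)) (hk : k ∈ K) : (orderOf t).Coprime (orderOf k) := by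
  have hp : p.Prime := Fact.out
  obtain ⟨j, hj⟩ := h1tcs_orderOf_pelt hp (h1tcs_pelt_of_isPGroup P.isPGroup' ht)
  rw [hj]
  have h1 : orderOf k ∣ Nat.card K := Subgroup.orderOf_dvd_natCard K hk
  exact Nat.Coprime.pow_left j (Nat.Coprime.coprime_dvd_right h1 hK.symm)

theorem h2tcs_coprime_order_card [Fact p.Prime] (K : Subgroup G) (hK : (Nat.card K).Coprime p) (P : Sylow p G)
    {t : G} (ht : t ∈ (P : Subgroup G)) : (orderOf t).Coprime (Nat.card K) := by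
  have hp : p.Prime := Fact.out
  obtain ⟨j, hj⟩ := h1tcs_orderOf_pelt hp (h1tcs_pelt_of_isPGroup P.isPGroup' ht)
  rw [hj]
  exact Nat.Coprime.pow_left j hK.symm

/-- B4 Step 1 -/
theorem h2tcs_B4_step1 [Fact p.Prime] {K : Subgroup G} {P : Sylow p G} {x : G} (hs : BSetup G p a n K P x)
    {k : G} (hk : k ∈ K) (hk1 : k ≠ 1) : idx k = p ^ a ∧ (Cz k).relIndex (P : Subgroup G) = p ^ a := by
  have hp : p.Prime := Fact.out
  have h := hs.h
  obtain ⟨ha, hpn⟩ := h1tcs_pow_facts hp h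
  obtain ⟨e, he⟩ := hs.idxK
  have hKle : K ≤ Cz k := by
    intro k' hk'
    rw [mem_Cz]
    exact hs.comm k' hk' k hk
  have hdvd : idx k ∣ p ^ e := by
    rw [← he]; exact Subgroup.index_dvd_of_le hKle
  have hnc : k ∉ Subgroup.center G := by
    intro hc
    have : k ∈ K ⊓ Subgroup.center G := ⟨hk, hc⟩
    rw [hs.triv] at this
    exact hk1 (Subgroup.mem_bot.mp this)
  have hne : idx k ≠ 1 := fun h1 => hnc (h8_mem_center_of_idx_eq_one h1)
  have hidx : idx k = p ^ a := by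
    rcases h.mem k with h1 | h1 | h1
    · exact absurd h1 hne
    · exact h1
    · exfalso
      rw [h1] at hdvd
      have hn : n ∣ p ^ e := Dvd.dvd.trans (dvd_mul_left n (p ^ a)) hdvd
      obtain ⟨i, _, hi⟩ := (Nat.dvd_prime_pow hp).1 hn
      have hn1 := h.hn
      rcases Nat.eq_zero_or_pos i with h0 | h0
      · rw [h0, pow_zero] at hi; omega
      · apply hpn
        rw [hi]; exact dvd_pow_self p (by omega)
  refine ⟨hidx, ?_⟩
  have h1 : p ^ a ∣ (Cz k).relIndex (P : Subgroup G) := pow_dvd_relIndex_sylow P k (by rw [hidx])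
  have h2 : (Cz k).relIndex (P : Subgroup G) ≤ (Cz k).relIndex ⊤ :=
    Subgroup.relIndex_le_of_le_right le_top (h2tcs_relIndex_ne_zero _ _)
  rw [Subgroup.relIndex_top_right] at h2
  have h3 : (Cz k).relIndex (P : Subgroup G) ≠ 0 := h2tcs_relIndex_ne_zero _ _
  have h4 : p ^ a ≤ (Cz k).relIndex (P : Subgroup G) := Nat.le_of_dvd (Nat.pos_of_ne_zero h3) h1
  have h5 : (Cz k).index = p ^ a := hidx
  omega

/-- B4 Step 2 (★) -/
theorem h2tcs_B4_star [Fact p.Prime] {K : Subgroup G} {P : Sylow p G} {x : G} (hs : BSetup G p a n K P x)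
    {t : G} (ht : t ∈ (P : Subgroup G)) (htK : t ∉ Subgroup.centralizer (K : Set G))
    {k : G} (hk : k ∈ K) (hk1 : k ≠ 1) (htk : t * k = k * t) :
    (P : Subgroup G) ⊓ Cz t = (P : Subgroup G) ⊓ Cz k := by
  haveI := hs.normal
  obtain ⟨hti, -, htP⟩ := (partB_out hs.h K hs.cop hs.idxK P).1 t ht htK
  have hle : Cz t ≤ Cz k := cent_le_of_max hs.h htk (h2tcs_coprime_orders K hs.cop P ht hk) hti
  have hle' : (P : Subgroup G) ⊓ Cz t ≤ (P : Subgroup G) ⊓ Cz k := inf_le_inf_left _ hle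
  have h2 := (h2tcs_B4_step1 hs hk hk1).2
  exact le_antisymm hle' (h2tcs_inf_le_of_relIndex _ _ _ hle' (by rw [htP, h2]))

/-- B4 Step 3 -/
theorem h2tcs_B4_step3 [Fact p.Prime] {K : Subgroup G} {P : Sylow p G} {x : G} (hs : BSetup G p a n K P x)
    {k : G} (hk : k ∈ K) (hk1 : k ≠ 1)
    (hex : ∃ t ∈ (P : Subgroup G) ⊓ Cz k, t ∉ Subgroup.centralizer (K : Set G)) :
    (P : Subgroup G) ⊓ Cz k = (P : Subgroup G) ⊓ Cz x := by
  haveI := hs.normal
  obtain ⟨t₀, ht₀D, ht₀K⟩ := hex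
  -- elements of `D` outside the centralizer of `K` are central in `D`
  have hcen : ∀ t ∈ (P : Subgroup G) ⊓ Cz k, t ∉ Subgroup.centralizer (K : Set G) →
      ∀ d ∈ (P : Subgroup G) ⊓ Cz k, d * t = t * d := by
    intro t htD htK d hd
    have htk : t * k = k * t := mem_Cz.mp htD.2
    have := h2tcs_B4_star hs htD.1 htK hk hk1 htk
    rw [← this] at hd
    exact mem_Cz.mp hd.2
  -- `D` is abelian
  have hab : ∀ d₁ ∈ (P : Subgroup G) ⊓ Cz k, ∀ d₂ ∈ (P : Subgroup G) ⊓ Cz k, d₁ * d₂ = d₂ * d₁ := by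
    intro d₁ hd₁ d₂ hd₂
    by_cases h1 : d₁ ∈ Subgroup.centralizer (K : Set G)
    · by_cases h2 : d₂ ∈ Subgroup.centralizer (K : Set G)
      · have h3 : d₁ * t₀ ∉ Subgroup.centralizer (K : Set G) := by
          intro hc
          apply ht₀K
          have : t₀ = d₁⁻¹ * (d₁ * t₀) := by group
          rw [this]
          exact Subgroup.mul_mem _ (Subgroup.inv_mem _ h1) hc
        have h4 := hcen (d₁ * t₀) (Subgroup.mul_mem _ hd₁ ht₀D) h3 d₂ hd₂
        have h5 := hcen t₀ ht₀D ht₀K d₂ hd₂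
        have h6 : d₁ * d₂ * t₀ = d₂ * d₁ * t₀ := by
          calc d₁ * d₂ * t₀ = d₁ * (d₂ * t₀) := by group
            _ = d₁ * (t₀ * d₂) := by rw [h5]
            _ = (d₁ * t₀) * d₂ := by group
            _ = d₂ * (d₁ * t₀) := h4.symm
            _ = d₂ * d₁ * t₀ := by group
        exact mul_right_cancel h6
      · exact hcen d₂ hd₂ h2 d₁ hd₁
    · exact (hcen d₁ hd₁ h1 d₂ hd₂).symm
  -- `x ∈ D`
  have hxK : x ∈ Subgroup.centralizer (K : Set G) := by
    rw [Subgroup.mem_centralizer_iff]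
    intro k' hk'
    exact mem_Cz.mp (hs.Kx hk')
  have hAD : ∀ d ∈ Subgroup.centralizer (K : Set G), d ∈ Cz k := by
    intro d hd
    rw [mem_Cz]
    exact ((Subgroup.mem_centralizer_iff.mp hd) k hk).symm
  have hxD : x ∈ (P : Subgroup G) ⊓ Cz k := ⟨hs.xP, hAD x hxK⟩
  have hle : (P : Subgroup G) ⊓ Cz k ≤ (P : Subgroup G) ⊓ Cz x := by
    intro d hd
    exact ⟨hd.1, mem_Cz.mpr (hab d hd x hxD)⟩
  -- indices
  have hx1 : (Cz x).relIndex K = 1 := Subgroup.relIndex_eq_one.mpr hs.Kx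
  have hx2 : (Cz x).relIndex (P : Subgroup G) = p ^ a := by
    have := idx_semidirect K hs.cop hs.idxK P hs.xP
    rw [hx1, one_mul, hs.xi] at this
    exact this.symm
  have h2 := (h2tcs_B4_step1 hs hk hk1).2
  exact le_antisymm hle (h2tcs_inf_le_of_relIndex _ _ _ hle (by rw [hx2, h2]))

/-- B4. -/
theorem partB_semireg [Fact p.Prime] {K : Subgroup G} {P : Sylow p G} {x : G} (hs : BSetup G p a n K P x) :
    (∀ k ∈ K, k ≠ 1 → ∀ t ∈ (P : Subgroup G), t * k = k * t → t ∈ Subgroup.centralizer (K : Set G)) ∧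
    (∀ k ∈ K, k ≠ 1 → (Cz k).relIndex (P : Subgroup G) = p ^ a) := by
  haveI := hs.normal
  refine ⟨?_, fun k hk hk1 => (h2tcs_B4_step1 hs hk hk1).2⟩
  intro k hk hk1 t ht htk
  by_contra htK
  have htD : t ∈ (P : Subgroup G) ⊓ Cz k := ⟨ht, mem_Cz.mpr htk⟩
  have hD := h2tcs_B4_step3 hs hk hk1 ⟨t, htD, htK⟩
  have htx : t ∈ (P : Subgroup G) ⊓ Cz x := hD ▸ htD
  -- `k₂` not commuting with `t`
  have hex : ∃ k₂ ∈ K, k₂ * t ≠ t * k₂ := by
    by_contra hcon
    push Not at hcon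
    exact htK (Subgroup.mem_centralizer_iff.mpr hcon)
  obtain ⟨k₂, hk₂, hk₂t⟩ := hex
  set y₂ := k₂⁻¹ * (t * k₂ * t⁻¹) with hy₂
  have hy₂K : y₂ ∈ K := K.mul_mem (K.inv_mem hk₂) (Subgroup.Normal.conj_mem inferInstance k₂ hk₂ t)
  have hy₂1 : y₂ ≠ 1 := by
    intro h1
    apply hk₂t
    have : t * k₂ * t⁻¹ = k₂ * y₂ := by rw [hy₂]; group
    rw [h1, mul_one] at this
    calc k₂ * t = (t * k₂ * t⁻¹) * t := by rw [this]
      _ = t * k₂ := by group
  have hty₂ : ¬ t * y₂ = y₂ * t := by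
    intro hc
    exact hy₂1 (comm_fixed_eq_one K hs.comm (h2tcs_coprime_order_card K hs.cop P ht) hk₂ hc)
  -- `C_P(y₂) ≤ centralizer K`
  have hD₂ : ∀ d ∈ (P : Subgroup G) ⊓ Cz y₂, d ∈ Subgroup.centralizer (K : Set G) := by
    intro d hd
    by_contra hdK
    have := h2tcs_B4_step3 hs hy₂K hy₂1 ⟨d, hd, hdK⟩
    rw [← this] at htx
    exact hty₂ (mem_Cz.mp htx.2)
  have hle : (P : Subgroup G) ⊓ Cz y₂ ≤ (P : Subgroup G) ⊓ Cz k := by
    intro d hd
    exact ⟨hd.1, mem_Cz.mpr ((Subgroup.mem_centralizer_iff.mp (hD₂ d hd)) k hk).symm⟩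
  have h1 := (h2tcs_B4_step1 hs hk hk1).2
  have h2 := (h2tcs_B4_step1 hs hy₂K hy₂1).2
  have hge := h2tcs_inf_le_of_relIndex _ _ _ hle (by rw [h1, h2])
  exact htK (hD₂ t (hge htD))

end Cfsg.Agent.Lib.Helper1.TCS
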