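import Mathlib
import Cfsg.Agent.Lib.Helper2.TCSB4

/-!
# S4284 farm piece B5 (helper2): `|P : C_P(K)| = p^a`, `|K| = n`, `p^a ∣ n - 1`.
-/

set_option autoImplicit false
set_option maxHeartbeats 4000000
set_option linter.unusedVariables false
set_option linter.unusedSectionVars false
set_option linter.style.longLine false
set_option linter.style.haveILetI false

namespace Cfsg.Agent.Lib.Helper1.TCS

open Cfsg.Agent.Lib.Helper8.CSG Cfsg.Agent.Lib.Helper1.PSG

/-- if all point stabilizers have index `d`, then `d` divides the size of the set acted on -/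
theorem h2tcs_dvd_card_of_orbits {Q X : Type*} [Group Q] [Finite Q] [Finite X] [MulAction Q X] (d : ℕ)
    (h : ∀ x : X, (MulAction.stabilizer Q x).index = d) : d ∣ Nat.card X := by
  classical
  haveI : Fintype (MulAction.orbitRel.Quotient Q X) := Fintype.ofFinite _
  rw [Nat.card_congr (MulAction.selfEquivSigmaOrbits Q X), Nat.card_sigma]
  apply Finset.dvd_sum
  intro ω _
  have h1 : Nat.card (MulAction.orbit Q (Quotient.out ω)) = d := by
    rw [Nat.card_coe_set_eq, ← MulAction.index_stabilizer, h]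
  rw [h1]

variable {G : Type*} [Group G] [Finite G] {p a n : ℕ}

/-- B5. -/
theorem partB_counts [Fact p.Prime] {K : Subgroup G} {P : Sylow p G} {x : G} (hs : BSetup G p a n K P x) :
    ((P : Subgroup G) ⊓ Subgroup.centralizer (K : Set G)).relIndex (P : Subgroup G) = p ^ a ∧ Nat.card K = n ∧
      p ^ a ∣ n - 1 := by
  classical
  haveI := hs.normal
  obtain ⟨hsr1, hsr2⟩ := partB_semireg hs
  obtain ⟨hout1, t₀, ht₀P, ht₀K⟩ := partB_out hs.h K hs.cop hs.idxK P
  -- `K ≠ 1`
  have hex : ∃ k₀ ∈ K, k₀ ≠ 1 := by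
    by_contra hcon
    push Not at hcon
    apply ht₀K
    rw [Subgroup.mem_centralizer_iff]
    intro k hk
    rw [hcon k hk]; simp
  obtain ⟨k₀, hk₀, hk₀1⟩ := hex
  -- `C_P(k) = A`
  have hCA : ∀ k ∈ K, k ≠ 1 →
      (P : Subgroup G) ⊓ Cz k = (P : Subgroup G) ⊓ Subgroup.centralizer (K : Set G) := by
    intro k hk hk1
    apply le_antisymm
    · intro d hd
      exact ⟨hd.1, hsr1 k hk hk1 d hd.1 (mem_Cz.mp hd.2)⟩
    · intro d hd
      exact ⟨hd.1, mem_Cz.mpr ((Subgroup.mem_centralizer_iff.mp hd.2) k hk).symm⟩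
  have hA : ((P : Subgroup G) ⊓ Subgroup.centralizer (K : Set G)).relIndex (P : Subgroup G) = p ^ a := by
    rw [← hCA k₀ hk₀ hk₀1, Subgroup.inf_relIndex_left]
    exact hsr2 k₀ hk₀ hk₀1
  -- `|K| = n`
  have hKn : Nat.card K = n := by
    obtain ⟨-, h2, -⟩ := hout1 t₀ ht₀P ht₀K
    have hbot : Cz t₀ ⊓ K = ⊥ := by
      rw [eq_bot_iff]
      intro k hk
      rw [Subgroup.mem_bot]
      by_contra hk1
      exact ht₀K (hsr1 k hk.2 hk1 t₀ ht₀P (mem_Cz.mp hk.1).symm)
    rw [← h2, ← Subgroup.inf_relIndex_right, hbot, Subgroup.relIndex_bot_left]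
  refine ⟨hA, hKn, ?_⟩
  -- the action of `P` on `K ∖ 1`
  let X := {k : K // k ≠ 1}
  letI : MulAction (P : Subgroup G) X :=
    { smul := fun g k => ⟨⟨(g : G) * (k.1 : G) * (g : G)⁻¹, Subgroup.Normal.conj_mem inferInstance _ k.1.2 _⟩, by
        intro h
        apply k.2
        have h' : (g : G) * (k.1 : G) * (g : G)⁻¹ = 1 := congrArg Subtype.val h
        apply Subtype.ext
        have : (k.1 : G) = (g : G)⁻¹ * ((g : G) * (k.1 : G) * (g : G)⁻¹) * (g : G) := by group
        rw [this, h']; simp⟩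
      one_smul := fun k => by
        apply Subtype.ext; apply Subtype.ext
        show ((1 : (P : Subgroup G)) : G) * (k.1 : G) * ((1 : (P : Subgroup G)) : G)⁻¹ = (k.1 : G)
        simp
      mul_smul := fun g g' k => by
        apply Subtype.ext; apply Subtype.ext
        show ((g * g' : (P : Subgroup G)) : G) * (k.1 : G) * ((g * g' : (P : Subgroup G)) : G)⁻¹
          = (g : G) * ((g' : G) * (k.1 : G) * (g' : G)⁻¹) * (g : G)⁻¹
        rw [Subgroup.coe_mul]; group }
  have hsmul : ∀ (g : (P : Subgroup G)) (k : X), (((g • k : X).1 : K) : G) = (g : G) * (k.1 : G) * (g : G)⁻¹ :=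
    fun g k => rfl
  have hstab : ∀ k : X, (MulAction.stabilizer (P : Subgroup G) k).index = p ^ a := by
    intro k
    have : MulAction.stabilizer (P : Subgroup G) k = (Cz (k.1 : G)).subgroupOf (P : Subgroup G) := by
      ext g
      rw [MulAction.mem_stabilizer_iff, Subgroup.mem_subgroupOf, mem_Cz]
      constructor
      · intro h
        have h' : (g : G) * (k.1 : G) * (g : G)⁻¹ = (k.1 : G) := by
          rw [← hsmul, h]
        calc (g : G) * (k.1 : G) = ((g : G) * (k.1 : G) * (g : G)⁻¹) * (g : G) := by group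
          _ = (k.1 : G) * (g : G) := by rw [h']
      · intro h
        apply Subtype.ext; apply Subtype.ext
        rw [hsmul, h]; group
    rw [this]
    have hk1 : (k.1 : G) ≠ 1 := fun h => k.2 (Subtype.ext h)
    exact hsr2 (k.1 : G) k.1.2 hk1
  have hdvd := h2tcs_dvd_card_of_orbits (Q := (P : Subgroup G)) (X := X) (p ^ a) hstab
  have hX : Nat.card X = Nat.card K - 1 := by
    haveI : Fintype K := Fintype.ofFinite _
    rw [Nat.card_eq_fintype_card, Nat.card_eq_fintype_card]
    show Fintype.card {k : K // ¬ (k = 1)} = _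
    rw [Fintype.card_subtype_compl, Fintype.card_subtype_eq]
  rw [hX, hKn] at hdvd
  exact hdvd

end Cfsg.Agent.Lib.Helper1.TCS
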