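import Mathlib
import Cfsg.Agent.Lib.Helper2.TCSB5

/-!
# S4284 farm piece B6 (helper2): `A = C_P(K)` is abelian, `C_P(x') = A` for noncentral `x' ∈ A`.
-/

set_option autoImplicit false
set_option maxHeartbeats 4000000
set_option linter.unusedVariables false
set_option linter.unusedSectionVars false
set_option linter.style.longLine false
set_option linter.style.haveILetI false

namespace Cfsg.Agent.Lib.Helper1.TCS

open Cfsg.Agent.Lib.Helper8.CSG Cfsg.Agent.Lib.Helper1.PSG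

variable {G : Type*} [Group G] [Finite G] {p a n : ℕ}

/-- inequality version of `h2tcs_inf_le_of_relIndex` -/
theorem h2tcs_inf_le_of_relIndex_le (Q H₁ H₂ : Subgroup G) (hle : Q ⊓ H₁ ≤ Q ⊓ H₂)
    (hidx : H₁.relIndex Q ≤ H₂.relIndex Q) : Q ⊓ H₂ ≤ Q ⊓ H₁ := by
  have h1 := h9tcs_card_inf_mul_relIndex H₁ Q
  have h2 := h9tcs_card_inf_mul_relIndex H₂ Q
  have hr : H₂.relIndex Q ≠ 0 := h2tcs_relIndex_ne_zero H₂ Q
  have hc : Nat.card (H₂ ⊓ Q : Subgroup G) ≤ Nat.card (H₁ ⊓ Q : Subgroup G) := by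
    by_contra hlt
    push Not at hlt
    have h3 : Nat.card (H₁ ⊓ Q : Subgroup G) * H₁.relIndex Q < Nat.card (H₂ ⊓ Q : Subgroup G) * H₂.relIndex Q :=
      calc Nat.card (H₁ ⊓ Q : Subgroup G) * H₁.relIndex Q
          ≤ Nat.card (H₁ ⊓ Q : Subgroup G) * H₂.relIndex Q := Nat.mul_le_mul_left _ hidx
        _ < Nat.card (H₂ ⊓ Q : Subgroup G) * H₂.relIndex Q :=
            Nat.mul_lt_mul_of_pos_right hlt (Nat.pos_of_ne_zero hr)
    rw [h1, h2] at h3
    exact lt_irrefl _ h3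
  rw [inf_comm Q H₁, inf_comm Q H₂] at hle ⊢
  exact (Subgroup.eq_of_le_of_card_ge hle hc).ge

/-- under `H3 G (p^a) n`, a class size that is a nontrivial `p`-power is `p^a` -/
theorem h2tcs_idx_ppow [Fact p.Prime] (h : H3 G (p ^ a) n) {g : G} {e : ℕ} (hd : idx g ∣ p ^ e) :
    idx g = 1 ∨ idx g = p ^ a := by
  have hp : p.Prime := Fact.out
  obtain ⟨ha, hpn⟩ := h1tcs_pow_facts hp h
  rcases h.mem g with h1 | h1 | h1
  · exact Or.inl h1
  · exact Or.inr h1
  · exfalso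
    rw [h1] at hd
    have hn : n ∣ p ^ e := Dvd.dvd.trans (dvd_mul_left n (p ^ a)) hd
    obtain ⟨i, _, hi⟩ := (Nat.dvd_prime_pow hp).1 hn
    have hn1 := h.hn
    rcases Nat.eq_zero_or_pos i with h0 | h0
    · rw [h0, pow_zero] at hi; omega
    · apply hpn
      rw [hi]; exact dvd_pow_self p (by omega)

/-- B6. -/
theorem partB_A [Fact p.Prime] {K : Subgroup G} {P : Sylow p G} {x : G} (hs : BSetup G p a n K P x) :
    (∀ x' ∈ (P : Subgroup G) ⊓ Subgroup.centralizer (K : Set G),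
      ∀ y' ∈ (P : Subgroup G) ⊓ Subgroup.centralizer (K : Set G), x' * y' = y' * x') ∧
    (∀ x' ∈ (P : Subgroup G) ⊓ Subgroup.centralizer (K : Set G), x' ∉ Subgroup.center G →
      ∀ y ∈ (P : Subgroup G), y * x' = x' * y → y ∈ Subgroup.centralizer (K : Set G)) ∧
    (∀ y ∈ (P : Subgroup G), y ∉ Subgroup.centralizer (K : Set G) →
      ∀ z ∈ (P : Subgroup G) ⊓ Subgroup.centralizer (K : Set G), z * y = y * z → z ∈ Subgroup.center G) := by
  classical
  have hp : p.Prime := Fact.out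
  haveI := hs.normal
  obtain ⟨hsr1, hsr2⟩ := partB_semireg hs
  obtain ⟨hA, hKn, -⟩ := partB_counts hs
  obtain ⟨hout1, t₀, ht₀P, ht₀K⟩ := partB_out hs.h K hs.cop hs.idxK P
  obtain ⟨e, he⟩ := hs.idxK
  have hA' : (Subgroup.centralizer (K : Set G)).relIndex (P : Subgroup G) = p ^ a := by
    rw [← hA, Subgroup.inf_relIndex_left]
  -- `K ≠ 1`
  have hex : ∃ k₀ ∈ K, k₀ ≠ 1 := by
    by_contra hcon
    push Not at hcon
    apply ht₀K
    rw [Subgroup.mem_centralizer_iff]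
    intro k hk
    rw [hcon k hk]; simp
  obtain ⟨k₀, hk₀, hk₀1⟩ := hex
  -- (i)
  have hi : ∀ x' ∈ (P : Subgroup G) ⊓ Subgroup.centralizer (K : Set G),
      ∀ y' ∈ (P : Subgroup G) ⊓ Subgroup.centralizer (K : Set G), x' * y' = y' * x' := by
    intro x' hx' y' hy'
    have hxk : x' * k₀ = k₀ * x' := ((Subgroup.mem_centralizer_iff.mp hx'.2) k₀ hk₀).symm
    have hC : Cz (x' * k₀) = Cz x' ⊓ Cz k₀ := Cz_mul_of_coprime hxk (h2tcs_coprime_orders K hs.cop P hx'.1 hk₀)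
    have hKle : K ≤ Cz (x' * k₀) := by
      rw [hC]
      intro k hk
      exact ⟨mem_Cz.mpr ((Subgroup.mem_centralizer_iff.mp hx'.2) k hk), mem_Cz.mpr (hs.comm k hk k₀ hk₀)⟩
    have hdvd : idx (x' * k₀) ∣ p ^ e := by
      rw [← he]; exact Subgroup.index_dvd_of_le hKle
    have hle_idx : idx (x' * k₀) ≤ p ^ a := by
      rcases h2tcs_idx_ppow hs.h hdvd with h1 | h1
      · rw [h1]; exact Nat.one_le_pow _ _ hp.pos
      · rw [h1]
    have h2 : (Cz (x' * k₀)).relIndex (P : Subgroup G) ≤ (Cz (x' * k₀)).relIndex ⊤ :=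
      Subgroup.relIndex_le_of_le_right le_top (h2tcs_relIndex_ne_zero _ _)
    rw [Subgroup.relIndex_top_right] at h2
    have h3 : (Cz (x' * k₀)).relIndex (P : Subgroup G) ≤ (Subgroup.centralizer (K : Set G)).relIndex (P : Subgroup G) := by
      rw [hA']; exact h2.trans hle_idx
    have hle : (P : Subgroup G) ⊓ Cz (x' * k₀) ≤ (P : Subgroup G) ⊓ Subgroup.centralizer (K : Set G) := by
      intro d hd
      rw [hC] at hd
      exact ⟨hd.1, hsr1 k₀ hk₀ hk₀1 d hd.1 (mem_Cz.mp hd.2.2)⟩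
    have hge := h2tcs_inf_le_of_relIndex_le _ _ _ hle h3
    have := hge hy'
    rw [hC] at this
    exact (mem_Cz.mp this.2.1).symm
  -- (ii)
  have hii : ∀ x' ∈ (P : Subgroup G) ⊓ Subgroup.centralizer (K : Set G), x' ∉ Subgroup.center G →
      ∀ y ∈ (P : Subgroup G), y * x' = x' * y → y ∈ Subgroup.centralizer (K : Set G) := by
    intro x' hx' hx'c y hy hyx
    have hKx' : K ≤ Cz x' := by
      intro k hk
      exact mem_Cz.mpr ((Subgroup.mem_centralizer_iff.mp hx'.2) k hk)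
    have hx1 : (Cz x').relIndex K = 1 := Subgroup.relIndex_eq_one.mpr hKx'
    have hsd := idx_semidirect K hs.cop ⟨e, he⟩ P hx'.1
    rw [hx1, one_mul] at hsd
    have hne : idx x' ≠ 1 := fun h1 => hx'c (h8_mem_center_of_idx_eq_one h1)
    have hdvd : idx x' ∣ p ^ e := by
      rw [← he]; exact Subgroup.index_dvd_of_le hKx'
    have hidx : idx x' = p ^ a := by
      rcases h2tcs_idx_ppow hs.h hdvd with h1 | h1
      · exact absurd h1 hne
      · exact h1
    have hrel : (Cz x').relIndex (P : Subgroup G) = p ^ a := by rw [← hsd, hidx]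
    have hle : (P : Subgroup G) ⊓ Subgroup.centralizer (K : Set G) ≤ (P : Subgroup G) ⊓ Cz x' := by
      intro d hd
      exact ⟨hd.1, mem_Cz.mpr (hi d hd x' hx')⟩
    have hge := h2tcs_inf_le_of_relIndex _ _ _ hle (by rw [hA', hrel])
    exact (hge ⟨hy, mem_Cz.mpr hyx⟩).2
  refine ⟨hi, hii, ?_⟩
  intro y hy hyK z hz hzy
  by_contra hzc
  exact hyK (hii z hz hzc y hy hzy.symm)

end Cfsg.Agent.Lib.Helper1.TCS
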