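import Mathlib
import Cfsg.Agent.Lib.Helper1.TCSDefs

/-!
# S4284 farm piece G1 (helper2): the norm lemma for a `C_r × C_r` action on an abelian `r'`-group.
-/

set_option autoImplicit false
set_option maxHeartbeats 4000000
set_option linter.unusedVariables false
set_option linter.unusedSectionVars false
set_option linter.style.longLine false
set_option linter.style.haveILetI false

namespace Cfsg.Agent.Lib.Helper1.TCS

open Cfsg.Agent.Lib.Helper8.CSG Cfsg.Agent.Lib.Helper1.PSG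

/-- the ring identity behind the norm lemma -/
theorem h2_ring_id {R : Type*} [Ring R] {r : ℕ} [Fact r.Prime] (a b : R) (hab : Commute a b)
    (hb : b ^ r = 1) :
    (∑ c : ZMod r, ∑ i : ZMod r, (a * b ^ c.val) ^ i.val) + ∑ j : ZMod r, b ^ j.val
      = (r : R) + ∑ i : ZMod r, ∑ j : ZMod r, a ^ i.val * b ^ j.val := by
  have h1 : ∀ c i : ZMod r, (a * b ^ c.val) ^ i.val = a ^ i.val * b ^ (c * i).val := by
    intro c i
    rw [(hab.pow_right _).mul_pow, ← pow_mul, ZMod.val_mul, ← pow_eq_pow_mod _ hb]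
  simp_rw [h1]
  rw [Finset.sum_comm]
  have h2 : ∀ i : ZMod r, i ≠ 0 →
      ∑ c : ZMod r, a ^ i.val * b ^ (c * i).val = a ^ i.val * ∑ j : ZMod r, b ^ j.val := by
    intro i hi
    rw [Finset.mul_sum]
    exact Fintype.sum_equiv (Equiv.mulRight₀ i hi) _ _ (fun c => rfl)
  have h3 : ∑ c : ZMod r, a ^ (0 : ZMod r).val * b ^ (c * 0).val = (r : R) := by
    simp [ZMod.val_zero]
  rw [← Finset.add_sum_erase Finset.univ _ (Finset.mem_univ (0 : ZMod r)), h3,
    Finset.sum_congr rfl (fun i hi => h2 i (Finset.ne_of_mem_erase hi))]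
  simp_rw [← Finset.mul_sum]
  rw [← Finset.add_sum_erase Finset.univ (fun i : ZMod r => a ^ i.val * ∑ j : ZMod r, b ^ j.val)
    (Finset.mem_univ (0 : ZMod r))]
  simp only [ZMod.val_zero, pow_zero, one_mul]
  abel

/-- `g * (1 + g + … + g^(r-1)) = 1 + g + … + g^(r-1)` when `g^r = 1` -/
theorem h2_fix_sum {R : Type*} [Ring R] {r : ℕ} [Fact r.Prime] (g : R) (hg : g ^ r = 1) :
    g * ∑ i : ZMod r, g ^ i.val = ∑ i : ZMod r, g ^ i.val := by
  rw [Finset.mul_sum]
  have : ∀ i : ZMod r, g * g ^ i.val = g ^ (i + 1).val := by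
    intro i
    rw [← pow_succ', ZMod.val_add, ZMod.val_one, ← pow_eq_pow_mod _ hg]
  simp_rw [this]
  exact Fintype.sum_equiv (Equiv.addRight 1) _ _ (fun i => rfl)

section generic
variable {G : Type*} [Group G] [Finite G]

/-- G1 (norm lemma). -/
theorem norm_lemma {r : ℕ} (hr : r.Prime) (V F : Subgroup G) (hFV : F ≤ V)
    (hVc : ∀ a ∈ V, ∀ b ∈ V, a * b = b * a) (hVr : (Nat.card V).Coprime r)
    {x y : G} (hxV : ∀ v ∈ V, x * v * x⁻¹ ∈ V) (hyV : ∀ v ∈ V, y * v * y⁻¹ ∈ V)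
    (hxy : ∀ v ∈ V, (x * y * x⁻¹ * y⁻¹) * v = v * (x * y * x⁻¹ * y⁻¹))
    (hxr : ∀ v ∈ V, x ^ r * v = v * x ^ r) (hyr : ∀ v ∈ V, y ^ r * v = v * y ^ r)
    (hfix : ∀ i j : ℕ, ¬ (r ∣ i ∧ r ∣ j) → ∀ v ∈ V, (x ^ i * y ^ j) * v = v * (x ^ i * y ^ j) → v ∈ F) :
    V ≤ F := by
  classical
  haveI : Fact r.Prime := ⟨hr⟩
  letI : CommGroup V :=
    { (inferInstance : Group V) with mul_comm := fun a b => Subtype.ext (hVc a a.2 b b.2) }
  let mkEnd : (g : G) → (∀ v ∈ V, g * v * g⁻¹ ∈ V) → AddMonoid.End (Additive V) := fun g hg =>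
    MonoidHom.toAdditive
      ({ toFun := fun v => ⟨g * v * g⁻¹, hg v v.2⟩
         map_one' := Subtype.ext (by simp)
         map_mul' := fun v w => Subtype.ext (by simp) } : V →* V)
  let α : AddMonoid.End (Additive V) := mkEnd x hxV
  let β : AddMonoid.End (Additive V) := mkEnd y hyV
  -- underlying element
  let u : Additive V → G := fun v => ((Additive.toMul v : V) : G)
  have hu_inj : ∀ v w : Additive V, u v = u w → v = w := by
    intro v w h
    exact Additive.toMul.injective (Subtype.ext h)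
  have huV : ∀ v : Additive V, u v ∈ V := fun v => (Additive.toMul v).2
  have hα : ∀ v, u (α v) = x * u v * x⁻¹ := fun v => rfl
  have hβ : ∀ v, u (β v) = y * u v * y⁻¹ := fun v => rfl
  have hmul : ∀ (f g : AddMonoid.End (Additive V)) (v : Additive V), (f * g) v = f (g v) := fun _ _ _ => rfl
  have hext : ∀ f g : AddMonoid.End (Additive V), (∀ v, f v = g v) → f = g := fun f g h => DFunLike.ext f g h
  have hαpow : ∀ (n : ℕ) v, u ((α ^ n) v) = x ^ n * u v * (x ^ n)⁻¹ := by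
    intro n
    induction n with
    | zero => intro v; simp
    | succ n ih =>
      intro v
      rw [pow_succ', hmul, hα, ih, pow_succ']; group
  have hβpow : ∀ (n : ℕ) v, u ((β ^ n) v) = y ^ n * u v * (y ^ n)⁻¹ := by
    intro n
    induction n with
    | zero => intro v; simp
    | succ n ih =>
      intro v
      rw [pow_succ', hmul, hβ, ih, pow_succ']; group
  have hab : Commute α β := by
    show α * β = β * α
    refine hext _ _ (fun v => ?_)
    apply hu_inj
    rw [hmul, hmul, hα, hβ, hβ, hα]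
    have h := hxy (y * (x * u v * x⁻¹) * y⁻¹) (hyV _ (hxV _ (huV v)))
    calc x * (y * u v * y⁻¹) * x⁻¹
        = (x * y * x⁻¹ * y⁻¹) * (y * (x * u v * x⁻¹) * y⁻¹) * (x * y * x⁻¹ * y⁻¹)⁻¹ := by group
      _ = (y * (x * u v * x⁻¹) * y⁻¹) * (x * y * x⁻¹ * y⁻¹) * (x * y * x⁻¹ * y⁻¹)⁻¹ := by rw [h]
      _ = y * (x * u v * x⁻¹) * y⁻¹ := by group
  have ha : α ^ r = 1 := by
    refine hext _ _ (fun v => ?_)
    apply hu_inj
    rw [hαpow, hxr _ (huV v)]
    simp
  have hb : β ^ r = 1 := by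
    refine hext _ _ (fun v => ?_)
    apply hu_inj
    rw [hβpow, hyr _ (huV v)]
    simp
  let Fa : AddSubgroup (Additive V) := (F.subgroupOf V).toAddSubgroup
  have hFa : ∀ v : Additive V, v ∈ Fa ↔ u v ∈ F := fun v => Iff.rfl
  have hfixmem : ∀ (i j : ℕ), ¬ (r ∣ i ∧ r ∣ j) → ∀ v : Additive V, (α ^ i * β ^ j) v = v → v ∈ Fa := by
    intro i j hnd v hv
    rw [hFa]
    refine hfix i j hnd (u v) (huV v) ?_
    have h1 : u ((α ^ i * β ^ j) v) = u v := by rw [hv]
    rw [hmul, hαpow, hβpow] at h1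
    calc x ^ i * y ^ j * u v = (x ^ i * (y ^ j * u v * (y ^ j)⁻¹) * (x ^ i)⁻¹) * (x ^ i * y ^ j) := by group
      _ = u v * (x ^ i * y ^ j) := by rw [h1]
  have hr1 : ¬ r ∣ 1 := fun h => hr.one_lt.ne' (Nat.dvd_one.mp h)
  let ev : Additive V → (AddMonoid.End (Additive V) →+ Additive V) := fun w =>
    { toFun := fun f => f w
      map_zero' := rfl
      map_add' := fun _ _ => rfl }
  have hev : ∀ w f, ev w f = f w := fun _ _ => rfl
  -- main: `r • w ∈ Fa`
  have hmain : ∀ w : Additive V, r • w ∈ Fa := by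
    intro w
    have hid := congrArg (ev w) (h2_ring_id α β hab hb)
    rw [map_add, map_add, map_sum] at hid
    simp only [hev] at hid
    -- the pieces
    have hSc : ∀ c : ZMod r, (∑ i : ZMod r, (α * β ^ c.val) ^ i.val) w ∈ Fa := by
      intro c
      apply hfixmem 1 c.val (fun h => hr1 h.1)
      rw [pow_one, ← hmul]
      have hg : (α * β ^ c.val) ^ r = 1 := by
        rw [(hab.pow_right _).mul_pow, ha, one_mul, ← pow_mul, mul_comm, pow_mul, hb, one_pow]
      rw [h2_fix_sum _ hg]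
    have hSi : (∑ j : ZMod r, β ^ j.val) w ∈ Fa := by
      apply hfixmem 0 1 (fun h => hr1 h.2)
      rw [pow_zero, one_mul, pow_one, ← hmul, h2_fix_sum _ hb]
    have hN : (∑ i : ZMod r, ∑ j : ZMod r, α ^ i.val * β ^ j.val) w ∈ Fa := by
      apply hfixmem 1 0 (fun h => hr1 h.1)
      rw [pow_one, pow_zero, mul_one, ← hmul]
      have : (∑ i : ZMod r, ∑ j : ZMod r, α ^ i.val * β ^ j.val)
          = (∑ i : ZMod r, α ^ i.val) * ∑ j : ZMod r, β ^ j.val := by
        rw [Finset.sum_mul]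
        simp_rw [Finset.mul_sum]
      rw [this, ← mul_assoc, h2_fix_sum _ ha]
    have hL : (∑ c : ZMod r, (∑ i : ZMod r, (α * β ^ c.val) ^ i.val) w) + (∑ j : ZMod r, β ^ j.val) w ∈ Fa :=
      Fa.add_mem (Fa.sum_mem (fun c _ => hSc c)) hSi
    have hrw : ((r : AddMonoid.End (Additive V))) w = r • w := by
      simp
    have hfin : r • w = (∑ c : ZMod r, (∑ i : ZMod r, (α * β ^ c.val) ^ i.val) w + (∑ j : ZMod r, β ^ j.val) w)
        - (∑ i : ZMod r, ∑ j : ZMod r, α ^ i.val * β ^ j.val) w := by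
      rw [hid, hrw]; abel
    rw [hfin]
    exact Fa.sub_mem hL hN
  intro v hv
  have h1 := hmain (Additive.ofMul ⟨v, hv⟩)
  rw [hFa] at h1
  have h2 : u (r • (Additive.ofMul (⟨v, hv⟩ : V))) = v ^ r := by
    show ((Additive.toMul (r • (Additive.ofMul (⟨v, hv⟩ : V))) : V) : G) = v ^ r
    rw [toMul_nsmul, toMul_ofMul, Subgroup.coe_pow]
  rw [h2] at h1
  -- Bezout
  have hcard : v ^ Nat.card V = 1 := by
    have := pow_card_eq_one' (G := V) (x := ⟨v, hv⟩)
    exact congrArg Subtype.val this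
  have hbez := Nat.gcd_eq_gcd_ab (Nat.card V) r
  rw [Nat.Coprime.gcd_eq_one hVr] at hbez
  have h3 : v = (v ^ Nat.card V) ^ (Nat.gcdA (Nat.card V) r) * (v ^ r) ^ (Nat.gcdB (Nat.card V) r) := by
    rw [← zpow_natCast v (Nat.card V), ← zpow_natCast v r, ← zpow_mul, ← zpow_mul, ← zpow_add, ← hbez]
    simp
  rw [h3, hcard, one_zpow, one_mul]
  exact F.zpow_mem h1 _

end generic

end Cfsg.Agent.Lib.Helper1.TCS
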