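import Mathlib
import Cfsg.Agent.Lib.Helper1.TCSDefs
import Cfsg.Agent.Lib.Helper2.TCSG1

/-!
# S4284 farm piece G2 (helper2): the exponent lemma.
-/

set_option autoImplicit false
set_option maxHeartbeats 4000000
set_option linter.unusedVariables false
set_option linter.unusedSectionVars false
set_option linter.style.longLine false
set_option linter.style.haveILetI false

namespace Cfsg.Agent.Lib.Helper1.TCS

open Cfsg.Agent.Lib.Helper8.CSG Cfsg.Agent.Lib.Helper1.PSG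

section generic
variable {G : Type*} [Group G] [Finite G]

/-- G2 (exponent lemma). -/
theorem exp_lemma {r : ℕ} (hr : r.Prime) (R V F : Subgroup G) (hR : IsPGroup r R)
    {u : G} (huR : u ∈ R) (hcomm : ∀ x ∈ R, u * x * u⁻¹ * x⁻¹ ∈ Subgroup.center G)
    (hur : ∀ x ∈ R, u ^ r * x = x * u ^ r)
    (hFV : F ≤ V) (hVc : ∀ a ∈ V, ∀ b ∈ V, a * b = b * a) (hVr : (Nat.card V).Coprime r)
    (hRV : ∀ x ∈ R, ∀ v ∈ V, x * v * x⁻¹ ∈ V)
    (hK : ∀ x ∈ R, x * u = u * x → ∀ v ∈ V, x * v = v * x)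
    (hfix : ∀ x ∈ R, x * u ≠ u * x → ∀ v ∈ V, x * v = v * x → v ∈ F)
    (hVF : ¬ V ≤ F) : (Cz u).relIndex R ∣ r := by
  classical
  haveI : Fact r.Prime := ⟨hr⟩
  -- the homomorphism `x ↦ [u, x]`
  let ψ : R →* Subgroup.center G := MonoidHom.mk' (fun x => ⟨u * x * u⁻¹ * x⁻¹, hcomm x x.2⟩) (by
    intro x y
    apply Subtype.ext
    show u * ((x : G) * (y : G)) * u⁻¹ * ((x : G) * (y : G))⁻¹
      = (u * (x : G) * u⁻¹ * (x : G)⁻¹) * (u * (y : G) * u⁻¹ * (y : G)⁻¹)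
    have hz := Subgroup.mem_center_iff.mp (hcomm y y.2) (x : G)
    calc u * ((x : G) * (y : G)) * u⁻¹ * ((x : G) * (y : G))⁻¹
        = (u * (x : G) * u⁻¹ * (x : G)⁻¹) * ((x : G) * (u * (y : G) * u⁻¹ * (y : G)⁻¹)) * (x : G)⁻¹ := by group
      _ = (u * (x : G) * u⁻¹ * (x : G)⁻¹) * ((u * (y : G) * u⁻¹ * (y : G)⁻¹) * (x : G)) * (x : G)⁻¹ := by rw [hz]
      _ = _ := by group)
  have hψ : ∀ t : R, ((ψ t : Subgroup.center G) : G) = u * (t : G) * u⁻¹ * (t : G)⁻¹ := fun t => rfl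
  have hψ1 : ∀ t : R, ψ t = 1 ↔ (t : G) * u = u * (t : G) := by
    intro t
    constructor
    · intro h
      have h1 : u * (t : G) * u⁻¹ * (t : G)⁻¹ = 1 := by
        rw [← hψ, h]; rfl
      calc (t : G) * u = (u * (t : G) * u⁻¹ * (t : G)⁻¹)⁻¹ * (u * (t : G)) := by group
        _ = u * (t : G) := by rw [h1]; group
    · intro h
      apply Subtype.ext
      rw [hψ]
      show u * (t : G) * u⁻¹ * (t : G)⁻¹ = 1
      rw [← h]; group
  -- kernel
  have hker : ψ.ker = (Cz u).subgroupOf R := by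
    ext t
    rw [MonoidHom.mem_ker, hψ1, Subgroup.mem_subgroupOf, Subgroup.mem_centralizer_iff]
    constructor
    · intro h g hg
      rw [Set.mem_singleton_iff] at hg
      rw [hg]; exact h.symm
    · intro h
      exact (h u (Set.mem_singleton u)).symm
  have hidx : (Cz u).relIndex R = Nat.card ψ.range := by
    rw [Subgroup.relIndex, ← hker, Subgroup.index_ker]
  have hcc : ∀ a b : Subgroup.center G, a * b = b * a := fun a b =>
    Subtype.ext (Subgroup.mem_center_iff.mp b.2 (a : G))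
  -- exponent `r`
  have hzn : ∀ (n : ℕ) (t : R), u ^ n * (t : G) * (u ^ n)⁻¹ * (t : G)⁻¹ = (u * (t : G) * u⁻¹ * (t : G)⁻¹) ^ n := by
    intro n t
    induction n with
    | zero => simp
    | succ n ih =>
      have hc : Commute (u * (t : G) * u⁻¹ * (t : G)⁻¹) u :=
        (Subgroup.mem_center_iff.mp (hcomm t t.2) u).symm
      have hcn : Commute ((u * (t : G) * u⁻¹ * (t : G)⁻¹) ^ n) u := hc.pow_left n
      calc u ^ (n + 1) * (t : G) * (u ^ (n + 1))⁻¹ * (t : G)⁻¹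
          = u * (u ^ n * (t : G) * (u ^ n)⁻¹ * (t : G)⁻¹) * u⁻¹ * (u * (t : G) * u⁻¹ * (t : G)⁻¹) := by
            rw [pow_succ']; group
        _ = u * ((u * (t : G) * u⁻¹ * (t : G)⁻¹) ^ n) * u⁻¹ * (u * (t : G) * u⁻¹ * (t : G)⁻¹) := by rw [ih]
        _ = ((u * (t : G) * u⁻¹ * (t : G)⁻¹) ^ n * u) * u⁻¹ * (u * (t : G) * u⁻¹ * (t : G)⁻¹) := by rw [hcn.eq]
        _ = (u * (t : G) * u⁻¹ * (t : G)⁻¹) ^ (n + 1) := by rw [pow_succ]; group
  have hexp : ∀ t : R, (ψ t) ^ r = 1 := by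
    intro t
    apply Subtype.ext
    rw [Subgroup.coe_pow, hψ, ← hzn r t, hur t t.2]
    show (t : G) * u ^ r * (u ^ r)⁻¹ * (t : G)⁻¹ = 1
    group
  -- the index is a power of `r`
  obtain ⟨n, hn⟩ := hR.index ψ.ker
  rw [Subgroup.index_ker] at hn
  rw [hidx, hn]
  by_cases hn1 : n ≤ 1
  · interval_cases n
    · simp
    · simp
  exfalso
  push Not at hn1
  -- two independent elements
  have hcard_gt : r < Nat.card ψ.range := by
    rw [hn]
    calc r = r ^ 1 := (pow_one r).symm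
      _ < r ^ n := Nat.pow_lt_pow_right hr.one_lt hn1
  have hex1 : ∃ x : R, ψ x ≠ 1 := by
    by_contra hcon
    push Not at hcon
    have : ψ.range = ⊥ := by
      rw [eq_bot_iff]
      rintro z ⟨t, rfl⟩
      rw [hcon t]; exact Subgroup.one_mem _
    rw [this] at hcard_gt
    simp at hcard_gt
    have := hr.one_lt
    omega
  obtain ⟨x, hx1⟩ := hex1
  have hordx : orderOf (ψ x) = r := by
    have hd : orderOf (ψ x) ∣ r := orderOf_dvd_of_pow_eq_one (hexp x)
    rcases (Nat.dvd_prime hr).mp hd with h | h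
    · exact absurd (orderOf_eq_one_iff.mp h) hx1
    · exact h
  have hex2 : ∃ y : R, ψ y ∉ Subgroup.zpowers (ψ x) := by
    by_contra hcon
    push Not at hcon
    have hle : ψ.range ≤ Subgroup.zpowers (ψ x) := by
      rintro z ⟨t, rfl⟩
      exact hcon t
    have h1 : Nat.card ψ.range ≤ Nat.card (Subgroup.zpowers (ψ x)) :=
      Nat.le_of_dvd Nat.card_pos (Subgroup.card_dvd_of_le hle)
    rw [Nat.card_zpowers, hordx] at h1
    omega
  obtain ⟨y, hy⟩ := hex2
  have hindep : ∀ i j : ℕ, ¬ (r ∣ i ∧ r ∣ j) → ψ x ^ i * ψ y ^ j ≠ 1 := by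
    intro i j hnd h
    by_cases hj : r ∣ j
    · obtain ⟨j', rfl⟩ := hj
      rw [pow_mul, hexp y, one_pow, mul_one] at h
      have : r ∣ i := by
        rw [← hordx]; exact orderOf_dvd_of_pow_eq_one h
      exact hnd ⟨this, dvd_mul_right r j'⟩
    · apply hy
      have hcop : Nat.Coprime j r := (Nat.Coprime.symm ((Nat.Prime.coprime_iff_not_dvd hr).mpr hj))
      have hbez := Nat.gcd_eq_gcd_ab j r
      rw [Nat.Coprime.gcd_eq_one hcop] at hbez
      have h2 : ψ y = (ψ y ^ j) ^ (Nat.gcdA j r) * ((ψ y) ^ r) ^ (Nat.gcdB j r) := by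
        rw [← zpow_natCast (ψ y) j, ← zpow_natCast (ψ y) r, ← zpow_mul, ← zpow_mul, ← zpow_add, ← hbez]
        simp
      have h3 : ψ y ^ j = (ψ x ^ i)⁻¹ := by
        rw [eq_inv_iff_mul_eq_one, hcc]; exact h
      rw [h2, hexp y, one_zpow, mul_one, h3]
      exact Subgroup.zpow_mem _ (Subgroup.inv_mem _ (Subgroup.pow_mem _ (Subgroup.mem_zpowers _) _)) _
  -- apply the norm lemma
  apply hVF
  refine norm_lemma hr V F hFV hVc hVr (x := (x : G)) (y := (y : G)) (hRV x x.2) (hRV y y.2) ?_ ?_ ?_ ?_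
  · -- the commutator
    intro v hv
    have h1 : ψ (x * y * x⁻¹ * y⁻¹) = 1 := by
      rw [map_mul, map_mul, map_mul, map_inv, map_inv]
      rw [hcc (ψ x) (ψ y)]; group
    have h2 := (hψ1 _).mp h1
    exact hK _ (x * y * x⁻¹ * y⁻¹ : R).2 h2 v hv
  · intro v hv
    have h1 : ψ (x ^ r) = 1 := by rw [map_pow, hexp]
    have h2 := (hψ1 _).mp h1
    exact hK _ (x ^ r : R).2 h2 v hv
  · intro v hv
    have h1 : ψ (y ^ r) = 1 := by rw [map_pow, hexp]
    have h2 := (hψ1 _).mp h1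
    exact hK _ (y ^ r : R).2 h2 v hv
  · intro i j hnd v hv hcv
    have h1 : ψ (x ^ i * y ^ j) ≠ 1 := by
      rw [map_mul, map_pow, map_pow]; exact hindep i j hnd
    have h2 : ((x ^ i * y ^ j : R) : G) * u ≠ u * ((x ^ i * y ^ j : R) : G) := fun h => h1 ((hψ1 _).mpr h)
    exact hfix _ (x ^ i * y ^ j : R).2 h2 v hv hcv

end generic

end Cfsg.Agent.Lib.Helper1.TCS
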