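import Mathlib
import Cfsg.Agent.Lib.Helper1.TCSDefs
import Cfsg.Agent.Lib.Helper6.PRA4

/-!
# S4284 farm piece G4 (helper2): a noncentral normal subgroup of a `p`-group contains a noncentral element of the
second centre whose `p`-th power is central.
-/

set_option autoImplicit false
set_option maxHeartbeats 4000000
set_option linter.unusedVariables false
set_option linter.unusedSectionVars false
set_option linter.style.longLine false
set_option linter.style.haveILetI false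

namespace Cfsg.Agent.Lib.Helper1.TCS

open Cfsg.Agent.Lib.Helper8.CSG Cfsg.Agent.Lib.Helper1.PSG

section generic
variable {G : Type*} [Group G] [Finite G]

/-- G4. -/
theorem exists_second_center {p : ℕ} (hp : p.Prime) (P N : Subgroup G) (hP : IsPGroup p P) (hNP : N ≤ P)
    (hNn : ∀ x ∈ P, ∀ a ∈ N, x * a * x⁻¹ ∈ N) (hNZ : ∃ a ∈ N, ∃ x ∈ P, a * x ≠ x * a) :
    ∃ u ∈ N, (∃ x ∈ P, u * x ≠ x * u) ∧
      (∀ x ∈ P, ∀ y ∈ P, (u * x * u⁻¹ * x⁻¹) * y = y * (u * x * u⁻¹ * x⁻¹)) ∧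
      (∀ x ∈ P, u ^ p * x = x * u ^ p) := by
  classical
  -- step 1: `exists_valid` inside the group `P`
  obtain ⟨a₀, ha₀, x₀, hx₀, hax₀⟩ := hNZ
  have hJ : ∃ j ∈ N.subgroupOf P, j ∉ Subgroup.center P := by
    refine ⟨⟨a₀, hNP ha₀⟩, Subgroup.mem_subgroupOf.mpr ha₀, ?_⟩
    intro h
    rw [Subgroup.mem_center_iff] at h
    have := h ⟨x₀, hx₀⟩
    apply hax₀
    exact (congrArg Subtype.val this).symm
  obtain ⟨d, hdJ, hdZ, hdc⟩ := Cfsg.Agent.Lib.Helper8.PR.exists_valid hp (⊤ : Subgroup P) (N.subgroupOf P)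
    (hP.to_subgroup ⊤) le_top
    (fun g _ j hj => Subgroup.mem_subgroupOf.mpr (by
      have := hNn g g.2 j (Subgroup.mem_subgroupOf.mp hj)
      simpa using this)) hJ
  -- translate to `G`
  have hdN : (d : G) ∈ N := Subgroup.mem_subgroupOf.mp hdJ
  have hdP : (d : G) ∈ P := d.2
  have hcen_iff : ∀ v : P, v ∈ Subgroup.center P ↔ ∀ y ∈ P, (v : G) * y = y * (v : G) := by
    intro v
    rw [Subgroup.mem_center_iff]
    constructor
    · intro h y hy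
      exact (congrArg Subtype.val (h ⟨y, hy⟩)).symm
    · intro h y
      exact Subtype.ext (h y y.2).symm
  set d0 : G := (d : G) with hd0
  have hd_nc : ¬ ∀ y ∈ P, d0 * y = y * d0 := fun h => hdZ ((hcen_iff d).mpr h)
  have hw : ∀ x ∈ P, ∀ y ∈ P, (d0⁻¹ * x * d0 * x⁻¹) * y = y * (d0⁻¹ * x * d0 * x⁻¹) := by
    intro x hx y hy
    have h1 := hdc ⟨x⁻¹, P.inv_mem hx⟩ (Subgroup.mem_top _)
    have h2 := (hcen_iff _).mp h1 y hy
    simpa using h2
  -- the commutators `[d0, x]` are central in `P`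
  have hz : ∀ x ∈ P, ∀ y ∈ P, (d0 * x * d0⁻¹ * x⁻¹) * y = y * (d0 * x * d0⁻¹ * x⁻¹) := by
    intro x hx y hy
    have hwd : (d0⁻¹ * x * d0 * x⁻¹) * d0 = d0 * (d0⁻¹ * x * d0 * x⁻¹) := hw x hx d0 hdP
    have h1 : d0 * x * d0⁻¹ * x⁻¹ = (d0⁻¹ * x * d0 * x⁻¹)⁻¹ := by
      have : d0 * x * d0⁻¹ * x⁻¹ = (d0 * (d0⁻¹ * x * d0 * x⁻¹) * d0⁻¹)⁻¹ := by group
      rw [this, ← hwd]; group
    rw [h1]
    have h2 := hw x hx y hy
    have : Commute (d0⁻¹ * x * d0 * x⁻¹) y := h2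
    exact (this.inv_left).eq
  -- powers
  have hzn : ∀ n : ℕ, ∀ x ∈ P, d0 ^ n * x * (d0 ^ n)⁻¹ * x⁻¹ = (d0 * x * d0⁻¹ * x⁻¹) ^ n := by
    intro n x hx
    induction n with
    | zero => simp
    | succ n ih =>
      have hc : Commute (d0 * x * d0⁻¹ * x⁻¹) d0 := hz x hx d0 hdP
      have hcn : Commute ((d0 * x * d0⁻¹ * x⁻¹) ^ n) d0 := hc.pow_left n
      calc d0 ^ (n + 1) * x * (d0 ^ (n + 1))⁻¹ * x⁻¹
          = d0 * (d0 ^ n * x * (d0 ^ n)⁻¹ * x⁻¹) * d0⁻¹ * (d0 * x * d0⁻¹ * x⁻¹) := by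
            rw [pow_succ']; group
        _ = d0 * ((d0 * x * d0⁻¹ * x⁻¹) ^ n) * d0⁻¹ * (d0 * x * d0⁻¹ * x⁻¹) := by rw [ih]
        _ = ((d0 * x * d0⁻¹ * x⁻¹) ^ n * d0) * d0⁻¹ * (d0 * x * d0⁻¹ * x⁻¹) := by rw [hcn.eq]
        _ = (d0 * x * d0⁻¹ * x⁻¹) ^ (n + 1) := by rw [pow_succ]; group
  -- minimal `j` with `d0 ^ p ^ j` central in `P`
  have hex : ∃ j : ℕ, ∀ y ∈ P, d0 ^ p ^ j * y = y * d0 ^ p ^ j := by
    obtain ⟨k, hk⟩ := hP d
    refine ⟨k, fun y hy => ?_⟩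
    have : d0 ^ p ^ k = 1 := by
      have := congrArg Subtype.val hk
      simpa using this
    rw [this]; simp
  have hj0 : Nat.find hex ≠ 0 := by
    intro h0
    have := Nat.find_spec hex
    rw [h0] at this
    apply hd_nc
    simpa using this
  obtain ⟨j, hj⟩ := Nat.exists_eq_succ_of_ne_zero hj0
  refine ⟨d0 ^ p ^ j, N.pow_mem hdN _, ?_, ?_, ?_⟩
  · by_contra hcon
    push Not at hcon
    have : Nat.find hex ≤ j := Nat.find_min' hex hcon
    omega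
  · intro x hx y hy
    rw [hzn (p ^ j) x hx]
    have hc : Commute (d0 * x * d0⁻¹ * x⁻¹) y := hz x hx y hy
    exact (hc.pow_left _).eq
  · intro x hx
    have := Nat.find_spec hex x hx
    rw [hj] at this
    rw [← pow_mul, ← pow_succ]
    exact this

end generic

end Cfsg.Agent.Lib.Helper1.TCS
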