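import Mathlib
import Cfsg.Agent.Lib.Helper2.TCSB6
import Cfsg.Agent.Lib.Helper2.TCSG2
import Cfsg.Agent.Lib.Helper2.TCSG4

/-!
# S4284 farm piece B7 (helper2): `a = 1` in Part B.
-/

set_option autoImplicit false
set_option maxHeartbeats 4000000
set_option linter.unusedVariables false
set_option linter.unusedSectionVars false
set_option linter.style.longLine false
set_option linter.style.haveILetI false

namespace Cfsg.Agent.Lib.Helper1.TCS

open Cfsg.Agent.Lib.Helper8.CSG Cfsg.Agent.Lib.Helper1.PSG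

variable {G : Type*} [Group G] [Finite G] {p a n : ℕ}

/-- B7. -/
theorem partB_a_one [Fact p.Prime] {K : Subgroup G} {P : Sylow p G} {x : G} (hs : BSetup G p a n K P x) : a = 1 := by
  classical
  have hp : p.Prime := Fact.out
  haveI := hs.normal
  obtain ⟨ha, hpn⟩ := h1tcs_pow_facts hp hs.h
  have hpm : p ∣ p ^ a := dvd_pow_self p ha
  obtain ⟨hsr1, hsr2⟩ := partB_semireg hs
  obtain ⟨hA, hKn, -⟩ := partB_counts hs
  obtain ⟨hAab, hAii, -⟩ := partB_A hs
  obtain ⟨hout1, t₀, ht₀P, ht₀K⟩ := partB_out hs.h K hs.cop hs.idxK P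
  -- `K ≠ 1`
  have hKne : ¬ K ≤ ⊥ := by
    intro hle
    apply ht₀K
    rw [Subgroup.mem_centralizer_iff]
    intro k hk
    rw [Subgroup.mem_bot.mp (hle hk)]; simp
  -- `A` is normalized by `P`
  have hNn : ∀ y ∈ (P : Subgroup G), ∀ z ∈ (P : Subgroup G) ⊓ Subgroup.centralizer (K : Set G),
      y * z * y⁻¹ ∈ (P : Subgroup G) ⊓ Subgroup.centralizer (K : Set G) := by
    intro y hy z hz
    refine ⟨Subgroup.mul_mem _ (Subgroup.mul_mem _ hy hz.1) (Subgroup.inv_mem _ hy), ?_⟩
    show y * z * y⁻¹ ∈ Subgroup.centralizer (K : Set G)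
    rw [Subgroup.mem_centralizer_iff]
    intro k hk
    have hk' : y⁻¹ * k * y ∈ K := by
      have := Subgroup.Normal.conj_mem (inferInstance : K.Normal) k hk y⁻¹
      simpa using this
    have h1 := (Subgroup.mem_centralizer_iff.mp hz.2) _ hk'
    calc k * (y * z * y⁻¹) = y * ((y⁻¹ * k * y) * z) * y⁻¹ := by group
      _ = y * (z * (y⁻¹ * k * y)) * y⁻¹ := by rw [h1]
      _ = y * z * y⁻¹ * k := by group
  -- `x ∈ A` is not central in `P`
  have hxK : x ∈ Subgroup.centralizer (K : Set G) := by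
    rw [Subgroup.mem_centralizer_iff]
    intro k' hk'
    exact mem_Cz.mp (hs.Kx hk')
  have hNZ : ∃ z ∈ (P : Subgroup G) ⊓ Subgroup.centralizer (K : Set G), ∃ y ∈ (P : Subgroup G), z * y ≠ y * z := by
    refine ⟨x, ⟨hs.xP, hxK⟩, ?_⟩
    by_contra hcon
    push Not at hcon
    have hxc : x ∈ Subgroup.center G := center_sylow hs.h hpm P hs.xP hcon
    have h1 : idx x = 1 := h8_idx_eq_one_of_mem_center hxc
    rw [hs.xi] at h1
    have : 1 < p ^ a := Nat.one_lt_pow ha hp.one_lt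
    omega
  obtain ⟨v, hvA, ⟨y₀, hy₀P, hvy₀⟩, hvcomm, hvp⟩ :=
    exists_second_center hp (P : Subgroup G) ((P : Subgroup G) ⊓ Subgroup.centralizer (K : Set G))
      P.isPGroup' inf_le_left hNn hNZ
  have hvc : v ∉ Subgroup.center G := by
    intro hc
    exact hvy₀ ((Subgroup.mem_center_iff.mp hc) y₀).symm
  -- `C_P(v) = A`
  have hCv : ∀ y ∈ (P : Subgroup G), y * v = v * y → y ∈ Subgroup.centralizer (K : Set G) :=
    fun y hy hyv => hAii v hvA hvc y hy hyv
  have hdvd : (Cz v).relIndex (P : Subgroup G) ∣ p := by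
    refine exp_lemma hp (P : Subgroup G) K ⊥ P.isPGroup' hvA.1 ?_ hvp bot_le hs.comm hs.cop ?_ ?_ ?_ hKne
    · intro y hy
      apply center_sylow hs.h hpm P
      · exact Subgroup.mul_mem _ (Subgroup.mul_mem _ (Subgroup.mul_mem _ hvA.1 hy) (Subgroup.inv_mem _ hvA.1))
          (Subgroup.inv_mem _ hy)
      · intro z hz
        exact hvcomm y hy z hz
    · intro y hy k hk
      exact Subgroup.Normal.conj_mem inferInstance k hk y
    · intro y hy hyv k hk
      exact ((Subgroup.mem_centralizer_iff.mp (hCv y hy hyv)) k hk).symm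
    · intro y hy hyv k hk hyk
      rw [Subgroup.mem_bot]
      by_contra hk1
      have hyK := hsr1 k hk hk1 y hy hyk
      exact hyv (hAab y ⟨hy, hyK⟩ v hvA)
  have heq : (P : Subgroup G) ⊓ Cz v = (P : Subgroup G) ⊓ Subgroup.centralizer (K : Set G) := by
    apply le_antisymm
    · intro d hd
      exact ⟨hd.1, hCv d hd.1 (mem_Cz.mp hd.2)⟩
    · intro d hd
      exact ⟨hd.1, mem_Cz.mpr (hAab d hd v hvA)⟩
  have hrel : (Cz v).relIndex (P : Subgroup G) = p ^ a := by
    rw [← Subgroup.inf_relIndex_left, heq]; exact hA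
  rw [hrel] at hdvd
  have h1 : p ^ a ∣ p ^ 1 := by rwa [pow_one]
  have h2 : a ≤ 1 := (Nat.pow_dvd_pow_iff_le_right hp.one_lt).mp h1
  omega

end Cfsg.Agent.Lib.Helper1.TCS
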