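import Mathlib
import Cfsg.Agent.Lib.Helper1.TCSDefs

/-!
# S4284 farm piece G3 (helper2): a `p`-element normalizing but not centralizing an abelian `p`-group fixes
a nontrivial commutator.
-/

set_option autoImplicit false
set_option maxHeartbeats 4000000
set_option linter.unusedVariables false
set_option linter.unusedSectionVars false
set_option linter.style.longLine false
set_option linter.style.haveILetI false

namespace Cfsg.Agent.Lib.Helper1.TCS

open Cfsg.Agent.Lib.Helper8.CSG Cfsg.Agent.Lib.Helper1.PSG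

section generic
variable {G : Type*} [Group G] [Finite G]

/-- G3. -/
theorem exists_comm_fixed {p : ℕ} (hp : p.Prime) (A : Subgroup G) (hA : IsPGroup p A)
    (hAc : ∀ a ∈ A, ∀ b ∈ A, a * b = b * a) {x : G} (hx : PElt p x) (hxA : ∀ a ∈ A, x * a * x⁻¹ ∈ A)
    (hnc : ∃ a ∈ A, x * a ≠ a * x) :
    ∃ a ∈ A, x * a * x⁻¹ * a⁻¹ ≠ 1 ∧ x * (x * a * x⁻¹ * a⁻¹) = (x * a * x⁻¹ * a⁻¹) * x := by
  classical
  haveI : Fact p.Prime := ⟨hp⟩
  let B : Subgroup G :=
    { carrier := {c | ∃ a ∈ A, c = x * a * x⁻¹ * a⁻¹}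
      one_mem' := ⟨1, A.one_mem, by group⟩
      mul_mem' := by
        rintro c d ⟨a, ha, rfl⟩ ⟨b, hb, rfl⟩
        refine ⟨a * b, A.mul_mem ha hb, ?_⟩
        have h1 : a⁻¹ * (x * b * x⁻¹ * b⁻¹) = (x * b * x⁻¹ * b⁻¹) * a⁻¹ :=
          hAc _ (A.inv_mem ha) _ (A.mul_mem (hxA b hb) (A.inv_mem hb))
        calc x * a * x⁻¹ * a⁻¹ * (x * b * x⁻¹ * b⁻¹)
            = x * a * x⁻¹ * (a⁻¹ * (x * b * x⁻¹ * b⁻¹)) := by group
          _ = x * a * x⁻¹ * ((x * b * x⁻¹ * b⁻¹) * a⁻¹) := by rw [h1]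
          _ = x * (a * b) * x⁻¹ * (a * b)⁻¹ := by group
      inv_mem' := by
        rintro c ⟨a, ha, rfl⟩
        refine ⟨a⁻¹, A.inv_mem ha, ?_⟩
        have h1 : a * (x * a⁻¹ * x⁻¹) = (x * a⁻¹ * x⁻¹) * a := hAc _ ha _ (hxA _ (A.inv_mem ha))
        calc (x * a * x⁻¹ * a⁻¹)⁻¹ = a * (x * a⁻¹ * x⁻¹) := by group
          _ = (x * a⁻¹ * x⁻¹) * a := h1
          _ = x * a⁻¹ * x⁻¹ * (a⁻¹)⁻¹ := by group }
  have hBmem : ∀ c : G, c ∈ B ↔ ∃ a ∈ A, c = x * a * x⁻¹ * a⁻¹ := fun c => Iff.rfl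
  have hBA : B ≤ A := by
    intro c hc
    obtain ⟨a, ha, rfl⟩ := (hBmem c).mp hc
    exact A.mul_mem (hxA a ha) (A.inv_mem ha)
  have hBx : ∀ c ∈ B, x * c * x⁻¹ ∈ B := by
    intro c hc
    obtain ⟨a, ha, rfl⟩ := (hBmem c).mp hc
    exact (hBmem _).mpr ⟨x * a * x⁻¹, hxA a ha, by group⟩
  have hBx' : ∀ c ∈ B, x⁻¹ * c * x ∈ B := by
    -- conjugation by `x` is an injective self-map of the finite set `B`, hence surjective
    have hinj : Function.Injective (fun b : B => (⟨x * b * x⁻¹, hBx b b.2⟩ : B)) := by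
      intro b b' h
      have h' : x * (b : G) * x⁻¹ = x * (b' : G) * x⁻¹ := congrArg Subtype.val h
      apply Subtype.ext
      have := mul_right_cancel h'
      exact mul_left_cancel this
    have hsurj := Finite.surjective_of_injective hinj
    intro c hc
    obtain ⟨b, hb⟩ := hsurj ⟨c, hc⟩
    have h' : x * (b : G) * x⁻¹ = c := congrArg Subtype.val hb
    have : x⁻¹ * c * x = b := by rw [← h']; group
    rw [this]; exact b.2
  let σ : Equiv.Perm B :=
    { toFun := fun b => ⟨x * b * x⁻¹, hBx b b.2⟩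
      invFun := fun b => ⟨x⁻¹ * b * x, hBx' b b.2⟩
      left_inv := fun b => by apply Subtype.ext; show x⁻¹ * (x * (b : G) * x⁻¹) * x = b; group
      right_inv := fun b => by apply Subtype.ext; show x * (x⁻¹ * (b : G) * x) * x⁻¹ = b; group }
  have hσpow : ∀ n : ℕ, ∀ b : B, ((σ ^ n) b : G) = x ^ n * b * (x ^ n)⁻¹ := by
    intro n
    induction n with
    | zero => intro b; simp
    | succ n ih =>
      intro b
      rw [pow_succ', Equiv.Perm.mul_apply]
      show x * ((σ ^ n) b : G) * x⁻¹ = _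
      rw [ih b, pow_succ']; group
  obtain ⟨k, hk⟩ := hx
  have hσk : σ ^ p ^ k = 1 := by
    ext b
    rw [hσpow, hk]; simp
  haveI : Fintype B := Fintype.ofFinite _
  -- `B` is a nontrivial `p`-group
  obtain ⟨a₀, ha₀, hne₀⟩ := hnc
  have hBne : ∃ c ∈ B, c ≠ 1 := by
    refine ⟨x * a₀ * x⁻¹ * a₀⁻¹, (hBmem _).mpr ⟨a₀, ha₀, rfl⟩, ?_⟩
    intro h
    apply hne₀
    have : x * a₀ = (x * a₀ * x⁻¹ * a₀⁻¹) * (a₀ * x) := by group
    rw [this, h, one_mul]
  have hBp : IsPGroup p B := hA.to_le hBA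
  have hdvd : p ∣ Fintype.card B := by
    obtain ⟨c, hc, hc1⟩ := hBne
    haveI : Nontrivial B := ⟨⟨⟨c, hc⟩, 1, fun h => hc1 (congrArg Subtype.val h)⟩⟩
    obtain ⟨n, hn⟩ := hBp.exists_card_eq
    rw [Fintype.card_eq_nat_card, hn]
    have : n ≠ 0 := by
      intro h0
      rw [h0, pow_zero] at hn
      have := Finite.one_lt_card (α := B)
      omega
    exact dvd_pow_self p this
  have hσ1 : σ 1 = 1 := by
    apply Subtype.ext
    show x * ((1 : B) : G) * x⁻¹ = ((1 : B) : G)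
    simp
  obtain ⟨b, hb1, hb2⟩ := Equiv.Perm.exists_fixed_point_of_prime' hdvd hσk hσ1
  obtain ⟨a, ha, hab⟩ := (hBmem b).mp b.2
  refine ⟨a, ha, ?_, ?_⟩
  · rw [← hab]
    intro h
    exact hb2 (Subtype.ext h)
  · rw [← hab]
    have h' : x * (b : G) * x⁻¹ = b := congrArg Subtype.val hb1
    calc x * (b : G) = (x * (b : G) * x⁻¹) * x := by group
      _ = (b : G) * x := by rw [h']

end generic

end Cfsg.Agent.Lib.Helper1.TCS
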