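import Mathlib
import Cfsg.Prelude.Def_ChevStructure
import Cfsg.Prelude.Def_ChevWords
import Cfsg.Agent.Lib.Helper5.ChevSymPCore
import Cfsg.Agent.Lib.Helper5.ChevSymSound

set_option autoImplicit false
set_option linter.style.haveILetI false

/-!
# RANKGEN: rank bounds for `y - 1`, `y` a product of root elements `x_r(1)`, characteristic 2

Generic in the Chevalley datum `D` (no hypothesis on `D`).  The entries of the matrix of a word
with constant parameters are read off the symbolic columns `wordColP D 2`.

* `rank_le_of_chkUp` : every column of `M = wordMat - 1` is a sum of columns from a list `basis`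
  (Boolean certificate `chkUp`), hence `rank M ≤ basis.length`;
* `rank_ge_of_chkLow` : sums of rows of `M` (lists `rowsL`) restricted to the columns `colA` form a
  unitriangular matrix (Boolean certificate `chkLow`), hence `colA.length ≤ rank M`;
* `rank_conj` : the rank of `y - 1` is a class invariant in `GL`.
-/

namespace Cfsg.Agent.Lib.Helper2.RankGen

open Cfsg Cfsg.Lie Cfsg.Agent.Lib.Helper5.ChevSym Cfsg.Agent.Lib.Helper5.ChevSymP

/-! ### Generic rank criteria -/

section generic

variable {K : Type*} [Field K]

/-- if every column of `M` lies in the span of `m` vectors, `rank M ≤ m` -/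
theorem rank_le_of_span {m : ℕ} {ι κ : Type*} [Fintype ι] [Fintype κ] (M : Matrix ι κ K)
    (g : Fin m → (ι → K))
    (h : ∀ c : κ, M.col c ∈ Submodule.span K (Set.range g)) : M.rank ≤ m := by
  rw [Matrix.rank_eq_finrank_span_cols]
  have hsub : Submodule.span K (Set.range M.col) ≤ Submodule.span K (Set.range g) := by
    apply Submodule.span_le.2
    rintro _ ⟨c, rfl⟩
    exact h c
  calc Module.finrank K (Submodule.span K (Set.range M.col))
      ≤ Module.finrank K (Submodule.span K (Set.range g)) := Submodule.finrank_mono hsub
    _ ≤ Fintype.card (Fin m) := finrank_range_le_card (R := K) g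
    _ = m := Fintype.card_fin m

/-- a unitriangular `n × n` submatrix forces `n ≤ rank M` -/
theorem rank_ge_of_tri' {n : ℕ} {ι κ : Type*} [Fintype ι] [Fintype κ] [DecidableEq κ]
    (M : Matrix ι κ K) (rowA : Fin n → ι) (colA : Fin n → κ)
    (hdiag : ∀ i, M (rowA i) (colA i) = 1)
    (hzero : ∀ i j, i < j → M (rowA i) (colA j) = 0) : n ≤ M.rank := by
  have h1 : (M.submatrix rowA colA).det = 1 := by
    rw [Matrix.det_of_lowerTriangular (M.submatrix rowA colA) (by
      intro i j hij
      exact hzero i j (OrderDual.toDual_lt_toDual.1 hij))]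
    simp [hdiag]
  have h2 : IsUnit (M.submatrix rowA colA) :=
    (Matrix.isUnit_iff_isUnit_det _).2 (by rw [h1]; exact isUnit_one)
  have h3 := Matrix.rank_of_isUnit _ h2
  have h4 := Matrix.rank_submatrix_le M rowA colA
  rw [h3, Fintype.card_fin] at h4
  exact h4

/-- the rank of `y - 1` is a class invariant in `GL` -/
theorem rank_conj {ι : Type*} [Fintype ι] [DecidableEq ι] (h y : GL ι K) :
    (((h * y * h⁻¹ : GL ι K) : Matrix ι ι K) - 1).rank = ((y : Matrix ι ι K) - 1).rank := by
  have key : ∀ a z : GL ι K,
      (((a * z * a⁻¹ : GL ι K) : Matrix ι ι K) - 1).rank ≤ ((z : Matrix ι ι K) - 1).rank := by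
    intro a z
    have e1 : ((a * z * a⁻¹ : GL ι K) : Matrix ι ι K) - 1
        = (a : Matrix ι ι K) * ((z : Matrix ι ι K) - 1) * ((a⁻¹ : GL ι K) : Matrix ι ι K) := by
      rw [Matrix.mul_sub, Matrix.sub_mul, mul_one, ← Units.val_mul, ← Units.val_mul,
        ← Units.val_mul, mul_inv_cancel, Units.val_one]
    rw [e1]
    exact (Matrix.rank_mul_le_left _ _).trans (Matrix.rank_mul_le_right _ _)
  apply le_antisymm (key h y)
  have := key h⁻¹ (h * y * h⁻¹)
  have e : h⁻¹ * (h * y * h⁻¹) * h⁻¹⁻¹ = y := by group
  rw [e] at this
  exact this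

end generic

/-! ### Symbolic columns of `wordMat - 1` -/

/-- the constant polynomial `1` -/
def pOne' : PolyP := [([], 1)]

/-- the symbolic word `x_{r₁}(1) ⋯ x_{r_k}(1)` -/
def sW (ys : List ℕ) : List (ℕ × PolyP) := ys.map fun r => (r, pOne')

/-- the integer entry `r` of a symbolic vector with constant coefficients -/
def entV (v : VecP) (r : ℕ) : ℤ := ((v.filter fun τ => τ.idx = r).map fun τ => τ.c).sum

/-- the column `c` of `wordMat w - 1` -/
def colM (D : ChevalleyDatum) (w : List (ℕ × PolyP)) (c : ℕ) : VecP :=
  subVecP 2 (wordColP D 2 w c) [unitP c]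

/-- `v + acc`, merged modulo 2 -/
def addVec (v acc : VecP) : VecP := v.foldr (fun τ acc => insertTP 2 τ acc) acc

/-- the sum of the columns `k ∈ S` of `wordMat w - 1` -/
def sumCols (D : ChevalleyDatum) (w : List (ℕ × PolyP)) (S : List ℕ) : VecP :=
  S.foldr (fun k acc => addVec (colM D w k) acc) []

/-- certificate for the upper bound: column `c` is the sum of the columns `combo[c] ⊆ basis` -/
def chkUp (D : ChevalleyDatum) (w : List (ℕ × PolyP)) (basis : List ℕ)
    (combo : List (List ℕ)) : Bool :=
  basis.all (fun k => Nat.blt k (D.rank + D.nroots)) &&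
  (List.range (D.rank + D.nroots)).all fun c =>
    (combo.getD c []).all (fun k => basis.contains k) &&
      vecEqP 2 (colM D w c) (sumCols D w (combo.getD c []))

/-- certificate for the lower bound: the matrix with entries
`∑ r ∈ rowsL[i], M r colA[j]` is unitriangular -/
def chkLow (D : ChevalleyDatum) (w : List (ℕ × PolyP)) (rowsL : List (List ℕ))
    (colA : List ℕ) : Bool :=
  rowsL.all (fun L => L.all fun x => Nat.blt x (D.rank + D.nroots)) &&
  colA.all (fun c => Nat.blt c (D.rank + D.nroots)) &&
  (List.range colA.length).all fun j => (List.range (j + 1)).all fun i =>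
    isZp 2 (((rowsL.getD i []).map fun r => entV (colM D w (colA.getD j 0)) r).sum
      - (if i = j then 1 else 0))

section sound

variable {K : Type*} [Field K]

theorem evalVecP_nil_vals' (v : VecP) (n : ℕ) :
    evalVecP ([] : List K) v n = ((entV v n : ℤ) : K) := by
  unfold entV
  induction v with
  | nil => simp
  | cons τ v ih =>
    rw [evalVecP_cons, ih]
    by_cases h : τ.idx = n
    · simp [h, TermP.val, monoVal]
    · simp [h]

theorem evalVecP_addVec (hp : ((2 : ℕ) : K) = 0) (v acc : VecP) (n : ℕ) :
    evalVecP ([] : List K) (addVec v acc) n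
      = evalVecP ([] : List K) v n + evalVecP ([] : List K) acc n := by
  unfold addVec
  rw [evalVecP_foldr_insertTP 2 ([] : List K) hp v (fun τ => τ) acc n]
  rfl

theorem evalVecP_unit (c n : ℕ) :
    evalVecP ([] : List K) [unitP c] n = if c = n then 1 else 0 := by
  rw [evalVecP_cons, evalVecP_nil, add_zero]
  by_cases h : c = n
  · simp [h, unitP, TermP.val, monoVal]
  · simp [h, unitP]

/-- the semantics of `colM` -/
theorem colM_sound (hp : ((2 : ℕ) : K) = 0) (D : ChevalleyDatum) (w : List (ℕ × PolyP))
    (row col : D.Idx) :
    evalVecP ([] : List K) (colM D w (code D col)) (code D row)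
      = (D.wordMat K (evalWP ([] : List K) w) - 1) row col := by
  unfold colM
  rw [evalVecP_subVecP 2 ([] : List K) hp, wordColP_sound D 2 ([] : List K) hp, evalVecP_unit,
    Matrix.sub_apply, Matrix.one_apply]
  by_cases h : row = col
  · subst h; simp
  · have : ¬ code D col = code D row := fun h' => h (code_injective D h').symm
    simp [h, this]

/-- the vector attached to the code `k` of a column of `M` (zero if `k` is out of range) -/
noncomputable def colV (D : ChevalleyDatum) (M : Matrix D.Idx D.Idx K) (k : ℕ) : D.Idx → K :=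
  if h : k < D.rank + D.nroots then M.col (decode D k h) else 0

theorem colV_code (D : ChevalleyDatum) (M : Matrix D.Idx D.Idx K) (col : D.Idx) :
    colV D M (code D col) = M.col col := by
  unfold colV
  rw [dif_pos (code_lt D col)]
  congr 1
  apply code_injective D
  rw [code_decode]

theorem colV_apply (hp : ((2 : ℕ) : K) = 0) (D : ChevalleyDatum) (w : List (ℕ × PolyP)) (k : ℕ)
    (hk : k < D.rank + D.nroots) (row : D.Idx) :
    colV D (D.wordMat K (evalWP ([] : List K) w) - 1) k row
      = evalVecP ([] : List K) (colM D w k) (code D row) := by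
  unfold colV
  rw [dif_pos hk]
  have := colM_sound hp D w row (decode D k hk)
  rw [code_decode] at this
  rw [this]
  rfl

theorem evalVecP_sumCols (hp : ((2 : ℕ) : K) = 0) (D : ChevalleyDatum) (w : List (ℕ × PolyP))
    (S : List ℕ) (n : ℕ) :
    evalVecP ([] : List K) (sumCols D w S) n
      = (S.map fun k => evalVecP ([] : List K) (colM D w k) n).sum := by
  unfold sumCols
  induction S with
  | nil => simp
  | cons k S ih =>
    rw [List.foldr_cons, evalVecP_addVec hp, ih, List.map_cons, List.sum_cons]

/-- **upper bound** from the certificate `chkUp` -/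
theorem rank_le_of_chkUp (hp : ((2 : ℕ) : K) = 0) (D : ChevalleyDatum) (w : List (ℕ × PolyP))
    (basis : List ℕ) (combo : List (List ℕ)) (h : chkUp D w basis combo = true) :
    (D.wordMat K (evalWP ([] : List K) w) - 1).rank ≤ basis.length := by
  unfold chkUp at h
  rw [Bool.and_eq_true, List.all_eq_true, List.all_eq_true] at h
  obtain ⟨hb, hc⟩ := h
  obtain ⟨M, hM⟩ : ∃ M : Matrix D.Idx D.Idx K, M = D.wordMat K (evalWP ([] : List K) w) - 1 :=
    ⟨_, rfl⟩
  rw [← hM]
  have hblt : ∀ k ∈ basis, k < D.rank + D.nroots := by
    intro k hk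
    have := hb k hk
    rwa [Nat.blt_eq] at this
  apply rank_le_of_span M (fun i : Fin basis.length => colV D M (basis.get i))
  intro col
  have hcc := hc (code D col) (List.mem_range.2 (code_lt D col))
  rw [Bool.and_eq_true, List.all_eq_true] at hcc
  obtain ⟨hS, hv⟩ := hcc
  have hcol : M.col col
      = ((combo.getD (code D col) []).map fun k => colV D M k).sum := by
    funext row
    have e1 : M.col col row = evalVecP ([] : List K) (colM D w (code D col)) (code D row) := by
      rw [colM_sound hp, ← hM]
      rfl
    rw [e1, eq_of_vecEqP 2 ([] : List K) hp _ _ hv, evalVecP_sumCols hp]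
    have hS' : ∀ k ∈ combo.getD (code D col) [], k < D.rank + D.nroots := by
      intro k hk
      have := hS k hk
      rw [List.contains_iff_mem] at this
      exact hblt k this
    generalize combo.getD (code D col) [] = S at hS'
    induction S with
    | nil => simp
    | cons k S ih =>
      rw [List.map_cons, List.sum_cons, List.map_cons, List.sum_cons, Pi.add_apply,
        ih (fun x hx => hS' x (List.mem_cons_of_mem _ hx)), hM,
        colV_apply hp D w k (hS' k (List.mem_cons_self ..))]
  rw [hcol]
  apply list_sum_mem
  intro v hv'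
  rw [List.mem_map] at hv'
  obtain ⟨k, hk, rfl⟩ := hv'
  have hkb : k ∈ basis := by
    have := hS k hk
    rwa [List.contains_iff_mem] at this
  obtain ⟨i, hi⟩ := List.get_of_mem hkb
  apply Submodule.subset_span
  exact ⟨i, by show colV D M (basis.get i) = colV D M k; rw [hi]⟩

/-- the matrix of row sums -/
noncomputable def rowSumMat (K : Type*) [Field K] (D : ChevalleyDatum) (rowsL : List (List ℕ))
    (n : ℕ) : Matrix (Fin n) D.Idx K :=
  fun i r => ((rowsL.getD i.val []).map fun x => if x = code D r then (1 : K) else 0).sum

/-- the entry `(x, c)` of `M`, `x` a code (zero if out of range) -/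
noncomputable def rowE (D : ChevalleyDatum) (M : Matrix D.Idx D.Idx K) (x : ℕ) (c : D.Idx) : K :=
  if h : x < D.rank + D.nroots then M (decode D x h) c else 0

theorem rowSumMat_mul (D : ChevalleyDatum) (rowsL : List (List ℕ)) (n : ℕ)
    (M : Matrix D.Idx D.Idx K) (i : Fin n) (c : D.Idx)
    (hL : ∀ x ∈ rowsL.getD i.val [], x < D.rank + D.nroots) :
    (rowSumMat K D rowsL n * M) i c
      = ((rowsL.getD i.val []).map fun x => rowE D M x c).sum := by
  rw [Matrix.mul_apply]
  unfold rowSumMat
  generalize rowsL.getD i.val [] = L at hL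
  induction L with
  | nil => simp
  | cons x L ih =>
    have hx : x < D.rank + D.nroots := hL x (List.mem_cons_self ..)
    simp only [List.map_cons, List.sum_cons, add_mul, Finset.sum_add_distrib]
    rw [ih (fun y hy => hL y (List.mem_cons_of_mem _ hy))]
    congr 1
    have e : ∀ r : D.Idx, (if x = code D r then (1 : K) else 0) * M r c
        = if x = code D r then M r c else 0 := by
      intro r; split_ifs <;> simp
    simp only [e]
    rw [sum_code_single D x hx (fun r => M r c)]
    unfold rowE
    rw [dif_pos hx]

theorem cast_sum_entV (v : VecP) (L : List ℕ) :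
    (((L.map fun r => entV v r).sum : ℤ) : K)
      = (L.map fun r => evalVecP ([] : List K) v r).sum := by
  induction L with
  | nil => simp
  | cons r L ih =>
    rw [List.map_cons, List.sum_cons, List.map_cons, List.sum_cons, Int.cast_add, ih,
      evalVecP_nil_vals']

/-- **lower bound** from the certificate `chkLow` -/
theorem rank_ge_of_chkLow (hp : ((2 : ℕ) : K) = 0) (D : ChevalleyDatum) (w : List (ℕ × PolyP))
    (rowsL : List (List ℕ)) (colA : List ℕ) (h : chkLow D w rowsL colA = true) :
    colA.length ≤ (D.wordMat K (evalWP ([] : List K) w) - 1).rank := by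
  unfold chkLow at h
  rw [Bool.and_eq_true, Bool.and_eq_true, List.all_eq_true, List.all_eq_true,
    List.all_eq_true] at h
  obtain ⟨⟨hr, hc⟩, ht⟩ := h
  obtain ⟨M, hM⟩ : ∃ M : Matrix D.Idx D.Idx K, M = D.wordMat K (evalWP ([] : List K) w) - 1 :=
    ⟨_, rfl⟩
  rw [← hM]
  have hclt : ∀ j : Fin colA.length, colA.get j < D.rank + D.nroots := by
    intro j
    have := hc (colA.get j) (List.get_mem colA j)
    rwa [Nat.blt_eq] at this
  have hrlt : ∀ i : Fin colA.length, ∀ x ∈ rowsL.getD i.val [], x < D.rank + D.nroots := by
    intro i x hx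
    by_cases hi : i.val < rowsL.length
    · have hmem : rowsL.getD i.val [] ∈ rowsL := by
        rw [List.getD_eq_getElem _ _ hi]
        exact List.getElem_mem hi
      have := hr _ hmem
      rw [List.all_eq_true] at this
      have := this x hx
      rwa [Nat.blt_eq] at this
    · rw [List.getD_eq_default _ _ (by omega)] at hx
      exact absurd hx (List.not_mem_nil)
  -- the entries of the product
  have hent : ∀ i j : Fin colA.length,
      (rowSumMat K D rowsL colA.length * M) i (decode D (colA.get j) (hclt j))
        = ((((rowsL.getD i.val []).map fun r =>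
            entV (colM D w (colA.getD j.val 0)) r).sum : ℤ) : K) := by
    intro i j
    rw [rowSumMat_mul D rowsL colA.length M i _ (hrlt i), cast_sum_entV]
    have hj : colA.getD j.val 0 = colA.get j := by
      rw [List.getD_eq_getElem _ _ j.2]
      rfl
    rw [hj]
    have hL := hrlt i
    generalize rowsL.getD i.val [] = L at hL
    induction L with
    | nil => simp
    | cons x L ih =>
      have hx : x < D.rank + D.nroots := hL x (List.mem_cons_self ..)
      rw [List.map_cons, List.sum_cons, List.map_cons, List.sum_cons,
        ih (fun y hy => hL y (List.mem_cons_of_mem _ hy))]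
      congr 1
      have := colM_sound hp D w (decode D x hx) (decode D (colA.get j) (hclt j))
      rw [code_decode, code_decode, ← hM] at this
      rw [this]
      unfold rowE
      rw [dif_pos hx]
  have hchk : ∀ i j : Fin colA.length, i ≤ j →
      ((((rowsL.getD i.val []).map fun r =>
            entV (colM D w (colA.getD j.val 0)) r).sum : ℤ) : K) = if i = j then 1 else 0 := by
    intro i j hij
    have h1 := ht j.val (List.mem_range.2 j.2)
    rw [List.all_eq_true] at h1
    have h2 := h1 i.val (List.mem_range.2 (Nat.lt_succ_of_le hij))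
    have h3 := isZp_cast (F := K) 2 hp h2
    rw [Int.cast_sub] at h3
    have h4 := sub_eq_zero.1 h3
    rw [h4]
    by_cases e : i = j
    · subst e; simp
    · have : ¬ i.val = j.val := fun h' => e (Fin.ext h')
      simp [e, this]
  have hge : colA.length ≤ (rowSumMat K D rowsL colA.length * M).rank := by
    apply rank_ge_of_tri' (rowSumMat K D rowsL colA.length * M) id
      (fun j : Fin colA.length => decode D (colA.get j) (hclt j))
    · intro i
      rw [id, hent i i, hchk i i le_rfl, if_pos rfl]
    · intro i j hij
      rw [id, hent i j, hchk i j hij.le, if_neg hij.ne]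
  exact hge.trans (Matrix.rank_mul_le_right _ _)

/-! ### Products of `x_r(1)` -/

theorem evalWP_sW (ys : List ℕ) :
    evalWP ([] : List K) (sW ys) = ys.map fun r => (r, (1 : K)) := by
  unfold evalWP sW
  rw [List.map_map]
  apply List.map_congr_left
  intro r _
  simp [pOne', evalPolyP, evalMonoP, monoVal]

theorem wordMat_sW (D : ChevalleyDatum) (ys : List ℕ) :
    D.wordMat K (evalWP ([] : List K) (sW ys)) = (ys.map fun r => D.x K r 1).prod := by
  rw [evalWP_sW]
  unfold ChevalleyDatum.wordMat
  rw [List.map_map]
  rfl

/-- upper bound for a product of `x_r(1)` -/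
theorem rank_le_prod (hp : ((2 : ℕ) : K) = 0) (D : ChevalleyDatum) (ys : List ℕ)
    (basis : List ℕ) (combo : List (List ℕ)) (h : chkUp D (sW ys) basis combo = true) :
    ((ys.map fun r => D.x K r 1).prod - 1).rank ≤ basis.length := by
  rw [← wordMat_sW]
  exact rank_le_of_chkUp hp D (sW ys) basis combo h

/-- lower bound for a product of `x_r(1)` -/
theorem rank_ge_prod (hp : ((2 : ℕ) : K) = 0) (D : ChevalleyDatum) (ys : List ℕ)
    (rowsL : List (List ℕ)) (colA : List ℕ) (h : chkLow D (sW ys) rowsL colA = true) :
    colA.length ≤ ((ys.map fun r => D.x K r 1).prod - 1).rank := by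
  rw [← wordMat_sW]
  exact rank_ge_of_chkLow hp D (sW ys) rowsL colA h

end sound

end Cfsg.Agent.Lib.Helper2.RankGen
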