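import Mathlib
import Cfsg.Agent.S3224
import Cfsg.Agent.S0111

/-! A four-group that is a Sylow 2-subgroup of the centralizer of an involution of a simple group
is a Sylow 2-subgroup of the whole group (Part R of S3278). -/
set_option autoImplicit false

namespace Cfsg.Agent.Lib.Helper2.V4R

open Cfsg

theorem card_mul_relIndex_of_le {G : Type*} [Group G] {H K : Subgroup G} (h : H ≤ K) :
    Nat.card H * H.relIndex K = Nat.card K := by
  have h1 := Subgroup.card_mul_index (H.subgroupOf K)
  have h2 : Nat.card (H.subgroupOf K) = Nat.card H :=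
    Nat.card_congr (Subgroup.subgroupOfEquivOfLe h).toEquiv
  rw [h2] at h1
  exact h1

/-- a `2`-subgroup between `S0` and `C`, where `S0` has odd index in `C`, is contained in `S0` -/
theorem le_of_odd_relIndex {G : Type*} [Group G] [Finite G] {S0 P C : Subgroup G}
    (h1 : S0 ≤ P) (h2 : P ≤ C) (hP : IsPGroup 2 P) (hodd : ¬ 2 ∣ S0.relIndex C) : P ≤ S0 := by
  have hmul := Subgroup.relIndex_mul_relIndex S0 P C h1 h2
  have hodd' : ¬ 2 ∣ S0.relIndex P := fun h => hodd (hmul ▸ Dvd.dvd.mul_right h _)
  obtain ⟨k, hk⟩ := IsPGroup.iff_card.mp hP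
  have hdvd : S0.relIndex P ∣ 2 ^ k := hk ▸ Subgroup.relIndex_dvd_card S0 P
  obtain ⟨j, hj, hj2⟩ := (Nat.dvd_prime_pow Nat.prime_two).mp hdvd
  have hj0 : j = 0 := by
    by_contra hne
    apply hodd'
    rw [hj2]
    exact dvd_pow_self 2 hne
  rw [hj0, pow_zero] at hj2
  exact Subgroup.relIndex_eq_one.mp hj2

/-- an involution in a cyclic subgroup of index two is central -/
theorem central_of_cyclic_index_two {S : Type*} [Group S] [Finite S] (q : S)
    (hq : 2 * orderOf q = Nat.card S) (w : S) (hw : w ∈ Subgroup.zpowers q)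
    (hw2 : orderOf w = 2) (s : S) : s * w = w * s := by
  classical
  have hcard : Nat.card (Subgroup.zpowers q) = orderOf q := Nat.card_zpowers q
  have hpos : 0 < orderOf q := orderOf_pos q
  have hidx : (Subgroup.zpowers q).index = 2 := by
    have h := Subgroup.card_mul_index (Subgroup.zpowers q)
    rw [hcard, ← hq, mul_comm] at h
    exact Nat.eq_of_mul_eq_mul_right hpos h
  have hn : (Subgroup.zpowers q).Normal := Subgroup.normal_of_index_eq_two hidx
  have hconj : s * w * s⁻¹ ∈ Subgroup.zpowers q := hn.conj_mem w hw s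
  have key : ∀ a : S, a ∈ Subgroup.zpowers q → orderOf a = 2 →
      2 ∣ orderOf q ∧ a = q ^ (orderOf q / 2) := by
    intro a ha ha2
    rw [mem_zpowers_iff_mem_range_orderOf, Finset.mem_image] at ha
    obtain ⟨i, hi, rfl⟩ := ha
    rw [Finset.mem_range] at hi
    have h1 : (q ^ i) ^ 2 = 1 := by rw [← ha2]; exact pow_orderOf_eq_one _
    rw [← pow_mul] at h1
    have h2 : orderOf q ∣ i * 2 := orderOf_dvd_of_pow_eq_one h1
    have hi0 : i ≠ 0 := by
      rintro rfl
      rw [pow_zero, orderOf_one] at ha2
      omega
    obtain ⟨c, hc⟩ := h2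
    have hc1 : c = 1 := by
      have hc0 : c ≠ 0 := by
        rintro rfl
        omega
      by_contra hne
      have : 2 ≤ c := by omega
      nlinarith
    rw [hc1, mul_one] at hc
    refine ⟨⟨i, by omega⟩, ?_⟩
    have : orderOf q / 2 = i := by omega
    rw [this]
  have hconj2 : orderOf (s * w * s⁻¹) = 2 := by
    have := MulEquiv.orderOf_eq (MulAut.conj s) w
    rw [MulAut.conj_apply] at this
    rw [this, hw2]
  have e1 := (key w hw hw2).2
  have e2 := (key _ hconj hconj2).2
  have e3 : s * w * s⁻¹ = w := by rw [e2, ← e1]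
  calc s * w = s * w * s⁻¹ * s := by group
    _ = w * s := by rw [e3]

theorem v4_sylow_of_centralizer {G : Type*} [Group G] [Finite G] [IsSimpleGroup G] (x : G)
    (hx : orderOf x = 2) (S0 : Subgroup G)
    (hle : S0 ≤ Subgroup.centralizer ({x} : Set G)) (hK : IsKleinFour S0)
    (hodd : ¬ (2 ∣ S0.relIndex (Subgroup.centralizer ({x} : Set G)))) : ¬ (2 ∣ S0.index) := by
  classical
  have hS0card : Nat.card S0 = 4 := IsKleinFour.card_four
  have hS0p : IsPGroup 2 S0 := IsPGroup.of_card (n := 2) (by rw [hS0card]; norm_num)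
  have hCcard : 4 * S0.relIndex (Subgroup.centralizer ({x} : Set G)) =
      Nat.card (Subgroup.centralizer ({x} : Set G)) := by
    rw [← hS0card]; exact card_mul_relIndex_of_le hle
  have hxC : x ∈ Subgroup.centralizer ({x} : Set G) := by
    rw [Subgroup.mem_centralizer_singleton_iff]
  -- `x ∈ S0`
  have hxS0 : x ∈ S0 := by
    have hzp : IsPGroup 2 (Subgroup.zpowers x) := by
      apply IsPGroup.of_card (n := 1)
      rw [Nat.card_zpowers, hx, pow_one]
    have hnorm : Subgroup.zpowers x ≤ Subgroup.normalizer (S0 : Set G) := by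
      rw [Subgroup.zpowers_le, Subgroup.mem_normalizer_iff]
      intro h
      constructor
      · intro hh
        have h1 := hle hh
        rw [Subgroup.mem_centralizer_singleton_iff] at h1
        have : x * h * x⁻¹ = h := by rw [← h1]; group
        rw [this]; exact hh
      · intro hh
        have h1 := hle hh
        rw [Subgroup.mem_centralizer_singleton_iff] at h1
        have : x * h * x⁻¹ = h := by
          have h2 : x * h * x⁻¹ * x = x * (x * h * x⁻¹) := h1
          have h3 : x * h = x * (x * h * x⁻¹) := by rw [← h2]; group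
          exact (mul_left_cancel h3).symm
        rw [← this]; exact hh
    have hP : IsPGroup 2 (S0 ⊔ Subgroup.zpowers x : Subgroup G) :=
      IsPGroup.to_sup_of_normal_left' hS0p hzp hnorm
    have hPle : S0 ⊔ Subgroup.zpowers x ≤ Subgroup.centralizer ({x} : Set G) :=
      sup_le hle (Subgroup.zpowers_le.mpr hxC)
    have := le_of_odd_relIndex le_sup_left hPle hP hodd
    exact this (le_sup_right (a := S0) (Subgroup.mem_zpowers x))
  -- a Sylow subgroup
  obtain ⟨S, hS0S⟩ := hS0p.exists_le_sylow
  have hTp : IsPGroup 2 (S : Subgroup G) := S.isPGroup'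
  have hSC : (S : Subgroup G) ⊓ Subgroup.centralizer ({x} : Set G) ≤ S0 :=
    le_of_odd_relIndex (le_inf hS0S hle) inf_le_right (hTp.to_le inf_le_left) hodd
  have hxS : x ∈ (S : Subgroup G) := hS0S hxS0
  have hxT2 : orderOf (⟨x, hxS⟩ : (S : Subgroup G)) = 2 := by
    rw [Subgroup.orderOf_mk]; exact hx
  have hcent : Nat.card (Subgroup.centralizer
      ({(⟨x, hxS⟩ : (S : Subgroup G))} : Set (S : Subgroup G))) = 4 := by
    have heq : Subgroup.centralizer ({(⟨x, hxS⟩ : (S : Subgroup G))} : Set (S : Subgroup G)) =
        S0.subgroupOf (S : Subgroup G) := by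
      ext s
      rw [Subgroup.mem_centralizer_singleton_iff, Subgroup.mem_subgroupOf]
      constructor
      · intro h
        apply hSC
        refine Subgroup.mem_inf.mpr ⟨s.2, ?_⟩
        rw [Subgroup.mem_centralizer_singleton_iff]
        have := congrArg Subtype.val h
        simpa using this
      · intro h
        have h1 := hle h
        rw [Subgroup.mem_centralizer_singleton_iff] at h1
        exact Subtype.ext (by simpa using h1)
    rw [heq, Nat.card_congr (Subgroup.subgroupOfEquivOfLe hS0S).toEquiv, hS0card]
  have h4dvd : 4 ∣ Nat.card (S : Subgroup G) := by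
    rw [← hS0card]; exact Subgroup.card_dvd_of_le hS0S
  -- the transfer argument
  have key : ∀ q : (S : Subgroup G), 2 * orderOf q = Nat.card (S : Subgroup G) →
      Nat.card (S : Subgroup G) = 4 := by
    intro q hq
    by_cases hxq : (⟨x, hxS⟩ : (S : Subgroup G)) ∈ Subgroup.zpowers q
    · have hcen := central_of_cyclic_index_two q hq _ hxq hxT2
      have htop : Subgroup.centralizer ({(⟨x, hxS⟩ : (S : Subgroup G))} : Set (S : Subgroup G))
          = ⊤ := by
        rw [eq_top_iff]
        intro s _
        rw [Subgroup.mem_centralizer_singleton_iff]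
        exact hcen s
      rw [htop, Subgroup.card_top] at hcent
      exact hcent
    · set Q' : Subgroup G := (Subgroup.zpowers q).map (S : Subgroup G).subtype with hQ'
      have hQ'le : Q' ≤ (S : Subgroup G) := Subgroup.map_subtype_le _
      have hQ'card : Nat.card Q' = orderOf q := by
        rw [hQ', Subgroup.card_map_of_injective (Subgroup.subtype_injective _), Nat.card_zpowers]
      have hrel : Q'.relIndex (S : Subgroup G) = 2 := by
        have h := card_mul_relIndex_of_le hQ'le
        rw [hQ'card, ← hq, mul_comm 2] at h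
        exact Nat.eq_of_mul_eq_mul_left (orderOf_pos q) h
      have hxQ' : x ∉ Q' := by
        intro hmem
        rw [hQ', Subgroup.mem_map] at hmem
        obtain ⟨s, hs, hsx⟩ := hmem
        apply hxq
        have : s = ⟨x, hxS⟩ := Subtype.ext hsx
        rw [← this]; exact hs
      rcases Cfsg.Agent.S0111.result S Q' hQ'le hrel x hx hxS hxQ' with
        ⟨M, hMn, hMi, -⟩ | ⟨g, hg⟩
      · exfalso
        rcases hMn.eq_bot_or_eq_top with h | h
        · rw [h, Subgroup.index_bot] at hMi
          have : 4 ∣ Nat.card G := by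
            rw [← hS0card]; exact Subgroup.card_subgroup_dvd_card S0
          rw [hMi] at this
          omega
        · rw [h, Subgroup.index_top] at hMi
          omega
      · rw [hQ', Subgroup.mem_map] at hg
        obtain ⟨w, hw, hwx⟩ := hg
        have hw2 : orderOf w = 2 := by
          rw [← Subgroup.orderOf_coe]
          have h1 : ((w : (S : Subgroup G)) : G) = g * x * g⁻¹ := hwx
          rw [h1]
          have := MulEquiv.orderOf_eq (MulAut.conj g) x
          rw [MulAut.conj_apply] at this
          rw [this, hx]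
        have hcen := central_of_cyclic_index_two q hq w hw hw2
        -- a conjugate of `S` lies in the centralizer of `x`
        have hmaple : (S : Subgroup G).map (MulAut.conj g⁻¹).toMonoidHom ≤
            Subgroup.centralizer ({x} : Set G) := by
          rintro _ ⟨s, hs, rfl⟩
          rw [Subgroup.mem_centralizer_singleton_iff]
          have h1 := congrArg Subtype.val (hcen ⟨s, hs⟩)
          simp only [Subgroup.coe_mul] at h1
          have h2 : ((w : (S : Subgroup G)) : G) = g * x * g⁻¹ := hwx
          rw [h2] at h1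
          show (MulAut.conj g⁻¹) s * x = x * (MulAut.conj g⁻¹) s
          rw [MulAut.conj_apply, inv_inv]
          have h3 : g⁻¹ * s * g * x = g⁻¹ * (s * (g * x * g⁻¹)) * g := by group
          rw [h3, h1]
          group
        have hcardmap : Nat.card ((S : Subgroup G).map (MulAut.conj g⁻¹).toMonoidHom) =
            Nat.card (S : Subgroup G) :=
          Subgroup.card_map_of_injective (MulAut.conj g⁻¹).injective
        have hdvd : Nat.card (S : Subgroup G) ∣ 4 * S0.relIndex (Subgroup.centralizer ({x} : Set G)) := by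
          rw [hCcard, ← hcardmap]
          exact Subgroup.card_dvd_of_le hmaple
        obtain ⟨k, hk⟩ := IsPGroup.iff_card.mp hTp
        have hcop : Nat.Coprime (Nat.card (S : Subgroup G))
            (S0.relIndex (Subgroup.centralizer ({x} : Set G))) := by
          rw [hk]
          apply Nat.Coprime.pow_left
          exact (Nat.Prime.coprime_iff_not_dvd Nat.prime_two).mpr hodd
        have h4 : Nat.card (S : Subgroup G) ∣ 4 := hcop.dvd_of_dvd_mul_right hdvd
        exact Nat.dvd_antisymm h4 h4dvd
  have hT4 : Nat.card (S : Subgroup G) = 4 := by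
    rcases Cfsg.Agent.S3224.result hTp ⟨x, hxS⟩ hxT2 hcent with ⟨n, ⟨e⟩⟩ | hqd | h4
    · apply key (e.symm (DihedralGroup.r 1))
      rw [MulEquiv.orderOf_eq, DihedralGroup.orderOf_r_one, Nat.card_congr e.toEquiv,
        DihedralGroup.nat_card]
    · obtain ⟨n, -, hcard, x₀, -, hx₀, -, -⟩ := hqd
      apply key x₀
      rw [hx₀, hcard, pow_succ, mul_comm]
    · exact h4
  have hST : S0 = (S : Subgroup G) := by
    apply Subgroup.eq_of_le_of_card_ge hS0S
    rw [hT4, hS0card]
  rw [hST]
  exact S.not_dvd_index

end Cfsg.Agent.Lib.Helper2.V4R
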