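import Mathlib
import Cfsg.Prelude.Def_Transfer
import Cfsg.Agent.Lib.Helper1.PNilpotentLocal
import Cfsg.Agent.Lib.Helper1.ComplementFrattini
import Cfsg.Agent.Lib.Helper3.SZRel

/-!
# Normal `p`-complements and quotients by subgroups of the Frattini subgroup of a Sylow subgroup
-/

set_option autoImplicit false
open Pointwise

namespace Cfsg.Agent.Lib.Helper2

universe u

variable {G : Type u} [Group G]

/-- If `N_G(P)` has a normal `p`-complement, its `p'`-elements centralize `P`. -/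
theorem centralizes_sylow_of_normalizer_pNilpotent [Finite G] {p : ℕ} [Fact p.Prime]
    (P : Sylow p G)
    (hN : Cfsg.HasNormalPComplement p ↥(Subgroup.normalizer ((P : Subgroup G) : Set G)))
    (x : G) (hx : x ∈ Subgroup.normalizer ((P : Subgroup G) : Set G))
    (hxo : (orderOf x).Coprime p) : x ∈ Subgroup.centralizer ((P : Subgroup G) : Set G) := by
  rw [Cfsg.Agent.Lib.Helper1.hasNormalPComplement_iff_frobeniusCondition] at hN
  set N := Subgroup.normalizer ((P : Subgroup G) : Set G) with hNdef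
  have hPN : (P : Subgroup G) ≤ N := Subgroup.le_normalizer
  have hQ : IsPGroup p ((P : Subgroup G).subgroupOf N) :=
    P.2.of_equiv (Subgroup.subgroupOfEquivOfLe hPN).symm
  haveI : ((P : Subgroup G).subgroupOf N).Normal := Subgroup.normal_in_normalizer
  have h1 := hN _ hQ ⟨x, hx⟩ (by
    rw [Subgroup.normalizer_eq_top]; exact Subgroup.mem_top _) (by
    rw [← Subgroup.orderOf_coe]; exact hxo)
  rw [Subgroup.mem_centralizer_iff] at h1 ⊢
  intro y hy
  have := h1 ⟨y, hPN hy⟩ (by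
    show (⟨y, hPN hy⟩ : N) ∈ (P : Subgroup G).subgroupOf N
    rw [Subgroup.mem_subgroupOf]; exact hy)
  exact congrArg Subtype.val this

/-- Every element of a finite group is the product of a `p`-element and a `p'`-element, both
powers of it. -/
theorem exists_p_part_mul_p'_part [Finite G] {p : ℕ} (hp : p.Prime) (x : G) :
    ∃ a ∈ Subgroup.zpowers x, ∃ b ∈ Subgroup.zpowers x, x = a * b ∧
      (∃ k : ℕ, a ^ p ^ k = 1) ∧ (orderOf b).Coprime p := by
  set n := orderOf x with hn
  have hn0 : n ≠ 0 := (orderOf_pos x).ne'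
  have hcop : Nat.Coprime (ordCompl[p] n) (ordProj[p] n) :=
    (Nat.Coprime.pow_right _ (Nat.coprime_ordCompl hp hn0).symm)
  obtain ⟨u, v, huv⟩ := (Nat.isCoprime_iff_coprime.mpr hcop)
  have hprod : ((ordProj[p] n : ℕ) : ℤ) * ((ordCompl[p] n : ℕ) : ℤ) = (n : ℤ) := by
    rw [← Nat.cast_mul, Nat.ordProj_mul_ordCompl_eq_self]
  have key : ∀ e : ℤ, x ^ (e * (n : ℤ)) = 1 := by
    intro e
    rw [mul_comm, zpow_mul, zpow_natCast, pow_orderOf_eq_one, one_zpow]
  refine ⟨(x ^ (ordCompl[p] n)) ^ u, ?_, (x ^ (ordProj[p] n)) ^ v, ?_, ?_, ?_, ?_⟩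
  · exact Subgroup.zpow_mem _ (Subgroup.pow_mem _ (Subgroup.mem_zpowers x) _) _
  · exact Subgroup.zpow_mem _ (Subgroup.pow_mem _ (Subgroup.mem_zpowers x) _) _
  · rw [← zpow_natCast, ← zpow_natCast, ← zpow_mul, ← zpow_mul, ← zpow_add,
      mul_comm _ u, mul_comm _ v, huv, zpow_one]
  · refine ⟨n.factorization p, ?_⟩
    rw [← zpow_natCast, ← zpow_natCast, ← zpow_mul, ← zpow_mul]
    have e : ((ordCompl[p] n : ℕ) : ℤ) * (u * ((p ^ n.factorization p : ℕ) : ℤ)) = u * (n : ℤ) := by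
      rw [← hprod]; ring
    rw [e]; exact key u
  · have h1 : ((x ^ (ordProj[p] n)) ^ v) ^ (ordCompl[p] n) = 1 := by
      rw [← zpow_natCast, ← zpow_natCast, ← zpow_mul, ← zpow_mul]
      have e : ((ordProj[p] n : ℕ) : ℤ) * (v * ((ordCompl[p] n : ℕ) : ℤ)) = v * (n : ℤ) := by
        rw [← hprod]; ring
      rw [e]; exact key v
    exact (Nat.Coprime.coprime_dvd_right (orderOf_dvd_of_pow_eq_one h1)
      (Nat.coprime_ordCompl hp hn0)).symm

/-- If the `p'`-elements of `N_G(P)` centralize `P`, then every element of `N_G(P)` acts on `P`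
like an element of `P`. -/
theorem exists_mem_sylow_conj_eq [Finite G] {p : ℕ} [Fact p.Prime] (P : Sylow p G)
    (hC : ∀ x ∈ Subgroup.normalizer ((P : Subgroup G) : Set G), (orderOf x).Coprime p →
      x ∈ Subgroup.centralizer ((P : Subgroup G) : Set G))
    (x : G) (hx : x ∈ Subgroup.normalizer ((P : Subgroup G) : Set G)) :
    ∃ a ∈ (P : Subgroup G), ∀ y ∈ (P : Subgroup G), x * y * x⁻¹ = a * y * a⁻¹ := by
  have hp : p.Prime := Fact.out
  obtain ⟨a, ha, b, hb, hab, ⟨k, hk⟩, hbo⟩ := exists_p_part_mul_p'_part hp x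
  have hzx : Subgroup.zpowers x ≤ Subgroup.normalizer ((P : Subgroup G) : Set G) := by
    rw [Subgroup.zpowers_le]; exact hx
  have haP : a ∈ (P : Subgroup G) := by
    have h1 : IsPGroup p (Subgroup.zpowers a) := by
      obtain ⟨k', -, hk'⟩ := (Nat.dvd_prime_pow hp).1 (orderOf_dvd_of_pow_eq_one hk)
      exact IsPGroup.of_card (n := k') (by rw [Nat.card_zpowers, hk'])
    have h2 := h1.inf_normalizer_sylow P
    have h3 : a ∈ Subgroup.zpowers a ⊓ Subgroup.normalizer (P : Set G) :=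
      ⟨Subgroup.mem_zpowers a, hzx ha⟩
    rw [h2] at h3
    exact h3.2
  have hbC := hC b (hzx hb) hbo
  rw [Subgroup.mem_centralizer_iff] at hbC
  refine ⟨a, haP, fun y hy => ?_⟩
  have h1 : b * y * b⁻¹ = y := by rw [← hbC y hy, mul_inv_cancel_right]
  rw [hab, mul_inv_rev]
  calc a * b * y * (b⁻¹ * a⁻¹) = a * (b * y * b⁻¹) * a⁻¹ := by group
    _ = a * y * a⁻¹ := by rw [h1]

/-- Burnside's transfer theorem in a quotient: if `Q ⊴ G` lies in a Sylow `p`-subgroup `P` with
`P/Q` abelian and the `p'`-elements of `N_G(P)` centralize `P`, then `G/Q` has a normal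
`p`-complement. -/
theorem hasNormalPComplement_quotient_of_abelian [Finite G] {p : ℕ} [Fact p.Prime] (P : Sylow p G)
    (Q : Subgroup G) [Q.Normal] (hQP : Q ≤ (P : Subgroup G))
    (hcomm : ∀ a ∈ (P : Subgroup G), ∀ y ∈ (P : Subgroup G), a * y * a⁻¹ * y⁻¹ ∈ Q)
    (hC : ∀ x ∈ Subgroup.normalizer ((P : Subgroup G) : Set G), (orderOf x).Coprime p →
      x ∈ Subgroup.centralizer ((P : Subgroup G) : Set G)) :
    Cfsg.HasNormalPComplement p (G ⧸ Q) := by
  have hsurj : Function.Surjective (QuotientGroup.mk' Q) := QuotientGroup.mk'_surjective Q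
  set Pb : Sylow p (G ⧸ Q) := P.mapSurjective hsurj with hPb
  have hPbcoe : (Pb : Subgroup (G ⧸ Q)) = (P : Subgroup G).map (QuotientGroup.mk' Q) :=
    Sylow.coe_mapSurjective hsurj P
  have hmem : ∀ y : G, (QuotientGroup.mk' Q y) ∈ (Pb : Subgroup (G ⧸ Q)) ↔ y ∈ (P : Subgroup G) := by
    intro y
    rw [hPbcoe, ← Subgroup.mem_comap, Subgroup.comap_map_eq, QuotientGroup.ker_mk',
      sup_eq_left.mpr hQP]
  apply Cfsg.Agent.Lib.Helper1.hasNormalPComplement_of_normalizer_le_centralizer Pb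
  intro xb hxb
  obtain ⟨x, rfl⟩ := hsurj xb
  have hx : x ∈ Subgroup.normalizer ((P : Subgroup G) : Set G) := by
    rw [Subgroup.mem_normalizer_iff]
    intro y
    rw [← hmem y, ← hmem (x * y * x⁻¹), map_mul, map_mul, map_inv]
    exact Subgroup.mem_normalizer_iff.mp hxb _
  obtain ⟨a, haP, ha⟩ := exists_mem_sylow_conj_eq P hC x hx
  rw [Subgroup.mem_centralizer_iff]
  intro yb hyb
  obtain ⟨y, rfl⟩ := hsurj yb
  have hy : y ∈ (P : Subgroup G) := (hmem y).mp hyb
  have h1 : x * y * x⁻¹ * y⁻¹ ∈ Q := by rw [ha y hy]; exact hcomm a haP y hy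
  have h2 : (QuotientGroup.mk' Q) (x * y * x⁻¹ * y⁻¹) = 1 := by
    rw [← MonoidHom.mem_ker, QuotientGroup.ker_mk']; exact h1
  rw [map_mul, map_mul, map_mul, map_inv, map_inv] at h2
  have h3 := congrArg (fun t => t * (QuotientGroup.mk' Q y) * (QuotientGroup.mk' Q x)) h2
  simp only [inv_mul_cancel_right, one_mul] at h3
  exact h3.symm

/-- If `Q ⊴ G` consists of non-generators of a Sylow `p`-subgroup `P ≥ Q` and `G/Q` has a normal
`p`-complement, then so does `G`. -/
theorem hasNormalPComplement_of_quotient_nongenerating [Finite G] {p : ℕ} [Fact p.Prime]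
    (P : Sylow p G) (Q : Subgroup G) [Q.Normal] (hQP : Q ≤ (P : Subgroup G))
    (hng : ∀ M : Subgroup G, M ≤ (P : Subgroup G) → (P : Subgroup G) ≤ Q ⊔ M →
      (P : Subgroup G) ≤ M)
    (h : Cfsg.HasNormalPComplement p (G ⧸ Q)) : Cfsg.HasNormalPComplement p G := by
  have hp : p.Prime := Fact.out
  have hsurj : Function.Surjective (QuotientGroup.mk' Q) := QuotientGroup.mk'_surjective Q
  set Pb : Sylow p (G ⧸ Q) := P.mapSurjective hsurj with hPb
  have hPbcoe : (Pb : Subgroup (G ⧸ Q)) = (P : Subgroup G).map (QuotientGroup.mk' Q) :=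
    Sylow.coe_mapSurjective hsurj P
  obtain ⟨Kb, hKbn, hKbc⟩ := (Cfsg.Agent.Lib.Helper1.hasNormalPComplement_iff Pb).mp h
  set K := Kb.comap (QuotientGroup.mk' Q) with hK
  haveI hKn : K.Normal := hKbn.comap _
  have hQK : Q ≤ K := by
    intro q hq
    rw [hK, Subgroup.mem_comap]
    have : QuotientGroup.mk' Q q = 1 := by
      rw [← MonoidHom.mem_ker, QuotientGroup.ker_mk']; exact hq
    rw [this]; exact Subgroup.one_mem _
  have hKP : K ⊔ (P : Subgroup G) = ⊤ := by
    have h2 := congrArg (Subgroup.comap (QuotientGroup.mk' Q)) hKbc.sup_eq_top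
    rw [← Subgroup.comap_sup_eq _ _ _ hsurj, hPbcoe, Subgroup.comap_map_eq, QuotientGroup.ker_mk',
      sup_eq_left.mpr hQP, Subgroup.comap_top] at h2
    exact h2
  have hKbcop : (Nat.card Kb).Coprime p := by
    rw [Nat.coprime_comm, hp.coprime_iff_not_dvd, ← hKbc.index_eq_card]
    exact Pb.not_dvd_index
  haveI : (Q.subgroupOf K).Normal := Subgroup.normal_subgroupOf
  have hrel : Q.relIndex K = Nat.card Kb := by
    have h1 := Subgroup.relIndex_comap (H := (⊥ : Subgroup (G ⧸ Q))) (QuotientGroup.mk' Q) K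
    rw [MonoidHom.comap_bot, QuotientGroup.ker_mk', Subgroup.relIndex_bot_left, hK,
      Subgroup.map_comap_eq_self_of_surjective hsurj] at h1
    exact h1
  have hQpg : IsPGroup p Q := P.2.to_le hQP
  obtain ⟨j, hj⟩ := hQpg.exists_card_eq
  have hcop0 : (Nat.card (Q.subgroupOf K)).Coprime (Q.subgroupOf K).index := by
    have h1 : (Q.subgroupOf K).index = Nat.card Kb := hrel
    have h2 : Nat.card (Q.subgroupOf K) = Nat.card Q :=
      Nat.card_congr (Subgroup.subgroupOfEquivOfLe hQK).toEquiv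
    rw [h1, h2, hj]
    exact hKbcop.symm.pow_left j
  obtain ⟨H₀, hH₀⟩ := Subgroup.exists_right_complement'_of_coprime hcop0
  set H := H₀.map K.subtype with hH
  have hHK : H ≤ K := Subgroup.map_subtype_le H₀
  have hHcard : Nat.card H = Nat.card Kb := by
    rw [hH, Subgroup.card_map_of_injective (Subgroup.subtype_injective K), ← hrel]
    exact hH₀.symm.index_eq_card.symm
  have hHQ : H ⊔ Q = K := by
    have h1 := congrArg (Subgroup.map K.subtype) hH₀.sup_eq_top
    rw [Subgroup.map_sup, Subgroup.subgroupOf_map_subtype, inf_eq_left.mpr hQK,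
      ← MonoidHom.range_eq_map, Subgroup.range_subtype] at h1
    rw [sup_comm]; exact h1
  have hHcop : (Nat.card Q).Coprime (Nat.card H) := by
    rw [hHcard, hj]; exact hKbcop.symm.pow_left j
  have hQsolv : Group.IsSolvable Q := by
    haveI := hQpg.isNilpotent
    infer_instance
  have hfrat : ∀ g : G, ∃ n ∈ Q, n⁻¹ * g ∈ Subgroup.normalizer (H : Set G) := by
    intro g
    have hle : MulAut.conj g • H ≤ H ⊔ Q := by
      rw [hHQ, ← Subgroup.Normal.conj_smul_eq_self g K]
      exact Subgroup.pointwise_smul_le_pointwise_smul_iff.mpr hHK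
    obtain ⟨n, hn, hnH⟩ := Cfsg.Agent.Lib.Helper3.sz_conj_rel Q H (MulAut.conj g • H) hHcop hle
      (Cfsg.Agent.Lib.Helper1.card_conj_smul g H) (Or.inl hQsolv)
    refine ⟨n, hn, ?_⟩
    apply Cfsg.Agent.Lib.Helper1.mem_normalizer_of_conj_smul_eq
    rw [map_mul, mul_smul, ← hnH, ← mul_smul, ← map_mul, inv_mul_cancel, map_one, one_smul]
  have hPle : (P : Subgroup G) ≤ Subgroup.normalizer (H : Set G) := by
    have h1 : (P : Subgroup G) ≤ Q ⊔ ((P : Subgroup G) ⊓ Subgroup.normalizer (H : Set G)) := by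
      intro y hy
      obtain ⟨n, hn, hm⟩ := hfrat y
      have : y = n * (n⁻¹ * y) := by group
      rw [this]
      exact Subgroup.mul_mem_sup hn
        ⟨(P : Subgroup G).mul_mem ((P : Subgroup G).inv_mem (hQP hn)) hy, hm⟩
    exact (hng _ inf_le_left h1).trans inf_le_right
  haveI hHn : H.Normal := by
    rw [← Subgroup.normalizer_eq_top_iff, eq_top_iff]
    intro g _
    obtain ⟨n, hn, hm⟩ := hfrat g
    have : g = n * (n⁻¹ * g) := by group
    rw [this]
    exact Subgroup.mul_mem _ (hPle (hQP hn)) hm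
  have hHPcop : (Nat.card H).Coprime (Nat.card (P : Subgroup G)) := by
    obtain ⟨i, hi⟩ := P.2.exists_card_eq
    rw [hHcard, hi]; exact hKbcop.pow_right i
  have hd : H ⊓ (P : Subgroup G) = ⊥ := (Subgroup.disjoint_of_coprime_natCard hHPcop).eq_bot
  have hs : H ⊔ (P : Subgroup G) = ⊤ := by
    rw [eq_top_iff, ← hKP, ← hHQ, sup_assoc, sup_eq_right.mpr hQP]
  exact ⟨P, H, hHn, Cfsg.Agent.Lib.Helper1.isComplement'_of_normal_disjoint_sup_eq_top hd hs⟩

end Cfsg.Agent.Lib.Helper2
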