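import Mathlib
import Cfsg.Agent.Lib.Helper1.AODefs
import Cfsg.Agent.Lib.Helper9.AOT8

set_option autoImplicit false
set_option linter.unusedVariables false
set_option linter.unusedSectionVars false
set_option linter.style.longLine false
set_option linter.style.haveILetI false

open Cfsg.Agent.Lib.Helper1.AO
open Cfsg.Agent.Lib.Helper9.AO (mem_cent_singleton_iff pCoreCent pCoreCent_isPGroup pCoreCent_le
  pCoreCent_conj le_pCoreCent)

universe u

namespace Cfsg.Agent.Lib.Helper2.AO

variable {G : Type u} [Group G] [Finite G] {p q r : ℕ}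

/-- an element commuting with an element of order `p` has order dividing `p * q` (own copy of the
needed part of O6). -/
theorem odd_orderOf_dvd_of_comm_p (H : OddPQ G p q r) (x : G) (hx : orderOf x = p) (c : G)
    (hc : c * x = x * c) : orderOf c ∣ p * q := by
  rcases H.spec c with h | h | h | h | h
  · rw [h]; exact one_dvd _
  · rw [h]; exact Dvd.intro _ rfl
  · rw [h]; exact Dvd.intro_left _ rfl
  · exfalso
    have hcm : Commute c x := hc
    have hcop : Nat.Coprime (orderOf c) (orderOf x) := by
      rw [h, hx, Nat.coprime_primes H.hr H.hp]; exact fun h' => H.hpr h'.symm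
    have ho := hcm.orderOf_mul_eq_mul_orderOf_of_coprime hcop
    rw [h, hx] at ho
    have hr1 : 1 < r := H.hr.one_lt
    have hp1 : 1 < p := H.hp.one_lt
    have hq1 : 1 < q := H.hq.one_lt
    rcases H.spec (c * x) with h' | h' | h' | h' | h' <;> rw [ho] at h'
    · nlinarith
    · nlinarith
    · -- r * p = q
      have hdvd : p ∣ q := ⟨r, by rw [← h']; ring⟩
      exact H.hpq ((Nat.prime_dvd_prime_iff_eq H.hp H.hq).mp hdvd)
    · nlinarith
    · -- r * p = p * q
      have : r = q := by
        have h2 : p * r = p * q := by rw [← h']; ring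
        exact Nat.eq_of_mul_eq_mul_left H.hp.pos h2
      exact H.hqr this.symm
  · rw [h]

/-- extraction exponents: commuting `x`, `y` with `x ^ p = 1`, `y ^ q = 1`. -/
theorem exists_extract_exponents (hp : p.Prime) (hq : q.Prime) (hpq : p ≠ q) :
    ∃ e₁ e₂ : ℕ, ∀ x y : G, x * y = y * x → x ^ p = 1 → y ^ q = 1 →
      (x * y) ^ e₁ = x ∧ (x * y) ^ e₂ = y := by
  have hcop : Nat.Coprime q p := (Nat.coprime_primes hq hp).mpr (fun h => hpq h.symm)
  obtain ⟨m, -, hm⟩ := Nat.exists_mul_mod_eq_one_of_coprime hcop hp.one_lt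
  obtain ⟨m', -, hm'⟩ := Nat.exists_mul_mod_eq_one_of_coprime hcop.symm hq.one_lt
  refine ⟨q * m, p * m', ?_⟩
  intro x y hxy hxp hyq
  have hc : Commute x y := hxy
  constructor
  · rw [hc.mul_pow, pow_mul y, hyq, one_pow, mul_one]
    have h1 : x ^ (q * m) = x ^ (q * m % p) := by
      conv_lhs => rw [← Nat.div_add_mod (q * m) p, pow_add, pow_mul, hxp, one_pow, one_mul]
    rw [h1, hm, pow_one]
  · rw [hc.mul_pow, pow_mul x, hxp, one_pow, one_mul]
    have h1 : y ^ (p * m') = y ^ (p * m' % q) := by
      conv_lhs => rw [← Nat.div_add_mod (p * m') q, pow_add, pow_mul, hyq, one_pow, one_mul]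
    rw [h1, hm', pow_one]

-- O8
theorem odd_dichotomy (H : OddPQ G p q r) (x : G) (hx : orderOf x = p) :
    Case1 q x ∨ Case2 q x := by
  have hp := H.hp
  have hq := H.hq
  by_cases hbot : pCoreCent q x = ⊥
  · right
    intro N hN hNC hNn
    have := le_pCoreCent q x N hN hNC hNn
    rw [hbot] at this
    exact le_bot_iff.mp this
  · left
    refine ⟨pCoreCent q x, pCoreCent_isPGroup q x, pCoreCent_le q x, pCoreCent_conj q x, ?_⟩
    obtain ⟨⟨y1, hy1mem⟩, hy1ne⟩ := (Subgroup.ne_bot_iff_exists_ne_one).mp hbot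
    have hy1ne' : y1 ≠ 1 := by
      intro h; apply hy1ne; exact Subtype.ext h
    have hy1c : y1 * x = x * y1 :=
      (mem_cent_singleton_iff x y1).mp (pCoreCent_le q x hy1mem)
    haveI hfact : Fact q.Prime := ⟨hq⟩
    obtain ⟨k, hk⟩ := (IsPGroup.iff_orderOf.mp (pCoreCent_isPGroup q x)) ⟨y1, hy1mem⟩
    rw [Subgroup.orderOf_mk] at hk
    have hy1ord : orderOf y1 = q := by
      have hd := odd_orderOf_dvd_of_comm_p H x hx y1 hy1c
      rw [hk] at hd
      rcases k with _ | k
      · exfalso
        rw [pow_zero, orderOf_eq_one_iff] at hk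
        exact hy1ne' hk
      · rcases k with _ | k
        · rw [hk]; simp
        · exfalso
          have h1 : q * q ∣ p * q := by
            refine dvd_trans ?_ hd
            exact ⟨q ^ k, by ring⟩
          have h2 : q ∣ p := Nat.dvd_of_mul_dvd_mul_right hq.pos h1
          exact H.hpq ((Nat.prime_dvd_prime_iff_eq hq hp).mp h2).symm
    intro y hy hyc
    have hcop : (orderOf x).Coprime q := by
      rw [hx]; exact (Nat.coprime_primes hp hq).mpr H.hpq
    have ho1 : orderOf (x * y1) = p * q := by
      have hc : Commute x y1 := hy1c.symm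
      rw [hc.orderOf_mul_eq_mul_orderOf_of_coprime (by rw [hy1ord]; exact hcop), hx, hy1ord]
    have ho2 : orderOf (x * y) = p * q := by
      have hc : Commute x y := hyc.symm
      rw [hc.orderOf_mul_eq_mul_orderOf_of_coprime (by rw [hy]; exact hcop), hx, hy]
    obtain ⟨α, hα⟩ := H.aut (x * y1) (x * y) (by rw [ho1, ho2])
    have hxp : x ^ p = 1 := by rw [← hx]; exact pow_orderOf_eq_one _
    have hy1q : y1 ^ q = 1 := by rw [← hy1ord]; exact pow_orderOf_eq_one _
    have hyq : y ^ q = 1 := by rw [← hy]; exact pow_orderOf_eq_one _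
    obtain ⟨e₁, e₂, hE⟩ := exists_extract_exponents (G := G) hp hq H.hpq
    obtain ⟨a1, a2⟩ := hE x y1 hy1c.symm hxp hy1q
    obtain ⟨b1, b2⟩ := hE x y hyc.symm hxp hyq
    have hαx : α x = x := by
      calc α x = α ((x * y1) ^ e₁) := by rw [a1]
        _ = (α (x * y1)) ^ e₁ := map_pow _ _ _
        _ = (x * y) ^ e₁ := by rw [hα]
        _ = x := b1
    have hαy : α y1 = y := by
      calc α y1 = α ((x * y1) ^ e₂) := by rw [a2]
        _ = (α (x * y1)) ^ e₂ := map_pow _ _ _
        _ = (x * y) ^ e₂ := by rw [hα]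
        _ = y := b2
    have hle : (pCoreCent q x).map α.toMonoidHom ≤ pCoreCent q x := by
      apply le_pCoreCent q x _ ((pCoreCent_isPGroup q x).map _)
      · rintro _ ⟨w, hw, rfl⟩
        rw [mem_cent_singleton_iff]
        have hwc := (mem_cent_singleton_iff x w).mp (pCoreCent_le q x hw)
        show α w * x = x * α w
        rw [← hαx, ← map_mul, hwc, map_mul]
      · rintro c hc _ ⟨w, hw, rfl⟩
        have hcc := (mem_cent_singleton_iff x c).mp hc
        have hc' : α.symm c ∈ Subgroup.centralizer ({x} : Set G) := by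
          rw [mem_cent_singleton_iff]
          have hst : α.symm x = x := by
            rw [MulEquiv.symm_apply_eq, hαx]
          rw [← hst, ← map_mul, hcc, map_mul, hst]
        refine ⟨α.symm c * w * (α.symm c)⁻¹, pCoreCent_conj q x _ hc' w hw, ?_⟩
        show α (α.symm c * w * (α.symm c)⁻¹) = c * α w * c⁻¹
        rw [map_mul, map_mul, map_inv, MulEquiv.apply_symm_apply]
    apply hle
    exact ⟨y1, hy1mem, hαy⟩

-- O8'
theorem odd_case2_transport (H : OddPQ G p q r) {x x' : G} (hx : orderOf x = p)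
    (hx' : orderOf x' = p) (h2 : Case2 q x) : Case2 q x' := by
  obtain ⟨α, hα⟩ := H.aut x' x (by rw [hx, hx'])
  intro N hN hNC hNn
  have hbot : N.map α.toMonoidHom = ⊥ := by
    apply h2 _ (hN.map _)
    · rintro _ ⟨y, hy, rfl⟩
      rw [mem_cent_singleton_iff]
      have hyc := (mem_cent_singleton_iff x' y).mp (hNC hy)
      show α y * x = x * α y
      rw [← hα, ← map_mul, hyc, map_mul]
    · rintro c hc _ ⟨y, hy, rfl⟩
      have hcc := (mem_cent_singleton_iff x c).mp hc
      have hst : α.symm x = x' := by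
        rw [MulEquiv.symm_apply_eq, hα]
      have hc' : α.symm c ∈ Subgroup.centralizer ({x'} : Set G) := by
        rw [mem_cent_singleton_iff]
        rw [← hst, ← map_mul, hcc, map_mul]
      refine ⟨α.symm c * y * (α.symm c)⁻¹, hNn _ hc' y hy, ?_⟩
      show α (α.symm c * y * (α.symm c)⁻¹) = c * α y * c⁻¹
      rw [map_mul, map_mul, map_inv, MulEquiv.apply_symm_apply]
  rw [Subgroup.map_eq_bot_iff_of_injective N α.injective] at hbot
  exact hbot

end Cfsg.Agent.Lib.Helper2.AO
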