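import Mathlib
import Cfsg.Agent.Lib.Helper1.AODefs

set_option autoImplicit false
set_option linter.unusedVariables false
set_option linter.unusedSectionVars false
set_option linter.style.longLine false
set_option linter.style.haveILetI false

open Cfsg.Agent.Lib.Helper1.AO

universe u

namespace Cfsg.Agent.Lib.Helper2.AO

variable {G : Type u} [Group G] [Finite G] {p r : ℕ}

/-- an element of a Sylow 2-subgroup squares to 1 (spectrum `{1,2,p,2p,r}`). -/
theorem sq_eq_one_of_mem_sylow2 (H : TwoP G p r) (S : Sylow 2 G) (s : G)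
    (hs : s ∈ (S : Subgroup G)) : s ^ 2 = 1 := by
  obtain ⟨k, hk⟩ := (IsPGroup.iff_orderOf.mp S.2) ⟨s, hs⟩
  rw [Subgroup.orderOf_mk] at hk
  have hpp := H.hp
  have hrp := H.hr
  have two_of : ∀ q : ℕ, q.Prime → q ∣ 2 ^ k → q = 2 := by
    intro q hq hdvd
    have := hq.dvd_of_dvd_pow hdvd
    exact (Nat.prime_dvd_prime_iff_eq hq Nat.prime_two).mp this
  rcases H.spec s with h | h | h | h | h
  · rw [orderOf_eq_one_iff] at h; rw [h]; simp
  · rw [← h]; exact pow_orderOf_eq_one s
  · exfalso; apply H.hp2; apply two_of p hpp; rw [← hk, h]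
  · exfalso; apply H.hp2; apply two_of p hpp; rw [← hk, h]; exact Dvd.intro_left 2 rfl
  · exfalso; apply H.hr2; apply two_of r hrp; rw [← hk, h]

-- T13
theorem card_le_com_two (H : TwoP G p r) (S : Sylow 2 G) (x : G) :
    Nat.card {s : G // s ∈ (S : Subgroup G) ∧ s * x = x * s} ≤ com 2 x + 1 := by
  classical
  unfold com
  have hfin : Finite (Option {y : G // orderOf y = 2 ∧ y * x = x * y}) := inferInstance
  let f : {s : G // s ∈ (S : Subgroup G) ∧ s * x = x * s} →
      Option {y : G // orderOf y = 2 ∧ y * x = x * y} := fun s =>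
    if h : s.1 = 1 then none else
      some ⟨s.1, by
        refine ⟨?_, s.2.2⟩
        have h2 := sq_eq_one_of_mem_sylow2 H S s.1 s.2.1
        exact orderOf_eq_prime h2 h⟩
  have hf : Function.Injective f := by
    intro a b hab
    by_cases ha : a.1 = 1
    · by_cases hb : b.1 = 1
      · exact Subtype.ext (ha.trans hb.symm)
      · simp only [f, ha, hb, dif_pos, dif_neg, not_false_eq_true] at hab
        exact absurd hab (by simp)
    · by_cases hb : b.1 = 1
      · simp only [f, ha, hb, dif_pos, dif_neg, not_false_eq_true] at hab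
        exact absurd hab (by simp)
      · simp only [f, ha, hb, dif_neg, not_false_eq_true, Option.some.injEq, Subtype.mk.injEq] at hab
        exact Subtype.ext hab
  have h1 := Nat.card_le_card_of_injective f hf
  have h2 : Nat.card (Option {y : G // orderOf y = 2 ∧ y * x = x * y}) =
      Nat.card {y : G // orderOf y = 2 ∧ y * x = x * y} + 1 := Finite.card_option
  omega

end Cfsg.Agent.Lib.Helper2.AO
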