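import Mathlib
import Cfsg.Agent.Lib.Helper1.ET15

set_option autoImplicit false
set_option linter.style.haveILetI false
set_option linter.unusedSectionVars false
set_option linter.unusedVariables false
set_option maxHeartbeats 1000000

/-!
Abelian `p`-groups without repeated invariants: every `p'`-group of automorphisms is abelian of
exponent dividing `p - 1` (characteristic chain with cyclic steps).
-/

namespace Cfsg.Agent.Lib.Helper2.AbInv

section rel
variable {X : Type*} [Group X]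

/-- invariant under all automorphisms -/
def IsChr (U : Subgroup X) : Prop := ∀ α : MulAut X, ∀ x ∈ U, α x ∈ U

/-- `V` is generated by `U` and one element (cyclic step) -/
def CycStep (U V : Subgroup X) : Prop := ∃ y ∈ V, ∀ z ∈ V, ∃ c : ℤ, (y ^ c)⁻¹ * z ∈ U

/-- a characteristic chain with cyclic steps from `U` to `V` -/
def CChain (U V : Subgroup X) : Prop :=
  ∃ (e : ℕ → Subgroup X) (m : ℕ), e 0 = U ∧ e m = V ∧ (∀ j, IsChr (e j)) ∧
    ∀ j, CycStep (e j) (e (j + 1))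

theorem CycStep.rfl' (U : Subgroup X) : CycStep U U :=
  ⟨1, U.one_mem, fun z hz => ⟨0, by simpa using hz⟩⟩

theorem CChain.rfl' {U : Subgroup X} (hU : IsChr U) : CChain U U :=
  ⟨fun _ => U, 0, rfl, rfl, fun _ => hU, fun _ => CycStep.rfl' U⟩

theorem CChain.single {U V : Subgroup X} (hU : IsChr U) (hV : IsChr V) (h : CycStep U V) :
    CChain U V := by
  refine ⟨fun t => if t = 0 then U else V, 1, by simp, by simp, fun j => ?_, fun j => ?_⟩
  · dsimp only
    split_ifs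
    · exact hU
    · exact hV
  · by_cases hj : j = 0
    · subst hj
      simpa using h
    · simp only [hj, if_false, Nat.succ_ne_zero]
      exact CycStep.rfl' V

theorem CChain.trans' {U V W' : Subgroup X} (h1 : CChain U V) (h2 : CChain V W') :
    CChain U W' := by
  obtain ⟨e1, m1, h10, h1m, h1c, h1s⟩ := h1
  obtain ⟨e2, m2, h20, h2m, h2c, h2s⟩ := h2
  have key : ∀ t, m1 ≤ t → (if t ≤ m1 then e1 t else e2 (t - m1)) = e2 (t - m1) := by
    intro t ht
    by_cases h : t ≤ m1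
    · have h' : t = m1 := le_antisymm h ht
      subst h'
      simp [h1m, h20]
    · simp [h]
  refine ⟨fun t => if t ≤ m1 then e1 t else e2 (t - m1), m1 + m2, ?_, ?_, ?_, ?_⟩
  · simp [h10]
  · dsimp only
    rw [key (m1 + m2) (Nat.le_add_right _ _), Nat.add_sub_cancel_left]
    exact h2m
  · intro j
    dsimp only
    split_ifs
    · exact h1c j
    · exact h2c _
  · intro j
    by_cases hj : j + 1 ≤ m1
    · have hj' : j ≤ m1 := by omega
      simp only [hj, hj', if_true]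
      exact h1s j
    · have hj' : m1 ≤ j := by omega
      dsimp only
      rw [key j hj', key (j + 1) (by omega)]
      have e3 : j + 1 - m1 = (j - m1) + 1 := by omega
      rw [e3]
      exact h2s _

end rel

section chain
variable (X : Type*) [CommGroup X] (p : ℕ)

/-- `Ω_n` -/
def Om (n : ℕ) : Subgroup X := (powMonoidHom (p ^ n) : X →* X).ker
/-- `℧^n` -/
def Ag (n : ℕ) : Subgroup X := (powMonoidHom (p ^ n) : X →* X).range
/-- `℧^1 Ω_n` -/
def Wn (n : ℕ) : Subgroup X := Ag X p 1 ⊔ Om X p n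
/-- the two-parameter chain -/
def En (j a : ℕ) : Subgroup X := (Wn X p (j + a)).map (powMonoidHom (p ^ j) : X →* X)

variable {X} {p}

theorem mem_Om {n : ℕ} {x : X} : x ∈ Om X p n ↔ x ^ (p ^ n) = 1 := by
  simp [Om, MonoidHom.mem_ker]

theorem mem_Ag {n : ℕ} {x : X} : x ∈ Ag X p n ↔ ∃ y : X, y ^ (p ^ n) = x := by
  simp [Ag, MonoidHom.mem_range]

theorem mem_Wn {n : ℕ} {x : X} : x ∈ Wn X p n ↔ ∃ u v : X, v ^ (p ^ n) = 1 ∧ u ^ p * v = x := by
  unfold Wn
  rw [Subgroup.mem_sup]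
  constructor
  · rintro ⟨a, ha, v, hv, rfl⟩
    rw [mem_Ag] at ha
    obtain ⟨u, rfl⟩ := ha
    exact ⟨u, v, mem_Om.mp hv, by rw [pow_one]⟩
  · rintro ⟨u, v, hv, rfl⟩
    exact ⟨u ^ p, mem_Ag.mpr ⟨u, by rw [pow_one]⟩, v, mem_Om.mpr hv, rfl⟩

theorem mem_En {j a : ℕ} {x : X} : x ∈ En X p j a ↔ ∃ w ∈ Wn X p (j + a), w ^ (p ^ j) = x := by
  simp [En, Subgroup.mem_map]

theorem map_mem_Wn {Y : Type*} [CommGroup Y] (f : X →* Y) {n : ℕ} {x : X} (hx : x ∈ Wn X p n) :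
    f x ∈ Wn Y p n := by
  obtain ⟨u, v, hv, rfl⟩ := mem_Wn.mp hx
  exact mem_Wn.mpr ⟨f u, f v, by rw [← map_pow, hv, map_one], by rw [map_mul, map_pow]⟩

theorem Ag_le_Wn (n : ℕ) : Ag X p 1 ≤ Wn X p n := le_sup_left
theorem Om_le_Wn (n : ℕ) : Om X p n ≤ Wn X p n := le_sup_right

theorem isChr_En (j a : ℕ) : IsChr (En X p j a) := by
  intro α x hx
  obtain ⟨w, hw, rfl⟩ := mem_En.mp hx
  exact mem_En.mpr ⟨α w, map_mem_Wn α.toMonoidHom hw, by rw [← map_pow]⟩

theorem isChr_Ag (n : ℕ) : IsChr (Ag X p n) := by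
  intro α x hx
  obtain ⟨y, rfl⟩ := mem_Ag.mp hx
  exact mem_Ag.mpr ⟨α y, by rw [← map_pow]⟩

theorem step_En (hW : ∀ n, CycStep (Wn X p n) (Wn X p (n + 1))) (j a : ℕ) :
    CycStep (En X p j a) (En X p j (a + 1)) := by
  obtain ⟨y, hy, hz⟩ := hW (j + a)
  refine ⟨y ^ (p ^ j), mem_En.mpr ⟨y, hy, rfl⟩, fun z' hz' => ?_⟩
  obtain ⟨z, hzW, rfl⟩ := mem_En.mp hz'
  obtain ⟨c, hc⟩ := hz z hzW
  refine ⟨c, mem_En.mpr ⟨(y ^ c)⁻¹ * z, hc, ?_⟩⟩
  rw [mul_pow, inv_pow]
  congr 2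
  rw [← zpow_natCast, ← zpow_natCast, ← zpow_mul, ← zpow_mul, mul_comm]

theorem En_zero (j : ℕ) : En X p j 0 = Ag X p (j + 1) := by
  ext x
  rw [mem_En, mem_Ag]
  constructor
  · rintro ⟨w, hw, rfl⟩
    obtain ⟨u, v, hv, rfl⟩ := mem_Wn.mp hw
    refine ⟨u, ?_⟩
    rw [Nat.add_zero] at hv
    rw [mul_pow, hv, mul_one, ← pow_mul, ← pow_succ']
  · rintro ⟨u, rfl⟩
    refine ⟨u ^ p, mem_Wn.mpr ⟨u, 1, one_pow _, mul_one _⟩, ?_⟩
    rw [← pow_mul, ← pow_succ']

theorem En_top {N : ℕ} (hkill : ∀ x : X, x ^ (p ^ N) = 1) (j : ℕ) : En X p j N = Ag X p j := by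
  have h1 : Wn X p (j + N) = ⊤ := by
    rw [eq_top_iff]
    intro x _
    apply Om_le_Wn
    rw [mem_Om, Nat.add_comm, pow_add, pow_mul, hkill, one_pow]
  unfold En Ag
  rw [h1, MonoidHom.range_eq_map]

theorem cchain_bot_top [Finite X] [hp : Fact p.Prime] (hX : IsPGroup p X)
    (hW : ∀ n, CycStep (Wn X p n) (Wn X p (n + 1))) : CChain (⊥ : Subgroup X) ⊤ := by
  obtain ⟨N, hN⟩ := IsPGroup.iff_card.mp hX
  have hkill : ∀ x : X, x ^ (p ^ N) = 1 := fun x => by rw [← hN]; exact pow_card_eq_one'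
  have hAgN : Ag X p N = ⊥ := by
    rw [eq_bot_iff]
    intro x hx
    obtain ⟨y, rfl⟩ := mem_Ag.mp hx
    rw [hkill]
    exact Subgroup.mem_bot.mpr rfl
  have hAg0 : Ag X p 0 = ⊤ := by
    rw [eq_top_iff]
    intro x _
    exact mem_Ag.mpr ⟨x, by rw [pow_zero, pow_one]⟩
  have h1 : ∀ j a, CChain (En X p j 0) (En X p j a) := by
    intro j a
    induction a with
    | zero => exact CChain.rfl' (isChr_En j 0)
    | succ a ih =>
      exact ih.trans' (CChain.single (isChr_En j a) (isChr_En j (a + 1)) (step_En hW j a))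
  have h2 : ∀ j, CChain (Ag X p (j + 1)) (Ag X p j) := by
    intro j
    have := h1 j N
    rwa [En_zero, En_top hkill] at this
  have h3 : ∀ j, CChain (Ag X p j) ⊤ := by
    intro j
    induction j with
    | zero => rw [hAg0]; exact CChain.rfl' (fun α x _ => Subgroup.mem_top _)
    | succ j ih => exact (h2 j).trans' ih
  have := h3 N
  rwa [hAgN] at this

end chain

section zmod

theorem zmod_kill (m : ℕ) (x : Multiplicative (ZMod m)) : x ^ m = 1 := by
  apply Multiplicative.toAdd.injective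
  rw [toAdd_pow, toAdd_one, nsmul_eq_mul, ZMod.natCast_self, zero_mul]

theorem zmod_kill' (p : ℕ) {K n : ℕ} (h : K ≤ n) (x : Multiplicative (ZMod (p ^ K))) :
    x ^ (p ^ n) = 1 := by
  obtain ⟨d, rfl⟩ := Nat.exists_eq_add_of_le h
  rw [pow_add, pow_mul, zmod_kill, one_pow]

theorem zmod_gen (m : ℕ) [NeZero m] (x : Multiplicative (ZMod m)) :
    (Multiplicative.ofAdd (1 : ZMod m)) ^ (Multiplicative.toAdd x).val = x := by
  apply Multiplicative.toAdd.injective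
  rw [toAdd_pow, toAdd_ofAdd, nsmul_one, ZMod.natCast_zmod_val]

theorem zmod_gpow_ne (m c : ℕ) (h : ¬ m ∣ c) :
    (Multiplicative.ofAdd (1 : ZMod m)) ^ c ≠ 1 := by
  intro h1
  apply h
  have h2 := congrArg Multiplicative.toAdd h1
  rw [toAdd_pow, toAdd_ofAdd, nsmul_one, toAdd_one] at h2
  exact (ZMod.natCast_eq_zero_iff c m).mp h2

theorem zmod_root (p : ℕ) [hp : Fact p.Prime] {K n : ℕ} (h : n + 2 ≤ K)
    (x : Multiplicative (ZMod (p ^ K))) (hx : x ^ (p ^ (n + 1)) = 1) : ∃ w, w ^ p = x := by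
  haveI : NeZero (p ^ K) := ⟨pow_ne_zero _ hp.out.ne_zero⟩
  obtain ⟨a, ha⟩ : ∃ a : ZMod (p ^ K), a = Multiplicative.toAdd x := ⟨_, rfl⟩
  have h1 : ((p ^ (n + 1) * a.val : ℕ) : ZMod (p ^ K)) = 0 := by
    have h0 := congrArg Multiplicative.toAdd hx
    rw [toAdd_pow, toAdd_one, nsmul_eq_mul, ← ha] at h0
    rw [Nat.cast_mul, ZMod.natCast_zmod_val]
    exact h0
  rw [ZMod.natCast_eq_zero_iff] at h1
  have h2 : p ^ (n + 1) * p ∣ p ^ (n + 1) * a.val := by
    refine dvd_trans ⟨p ^ (K - (n + 2)), ?_⟩ h1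
    rw [← pow_succ, ← pow_add]
    congr 1
    omega
  have h3 : p ∣ a.val := (Nat.mul_dvd_mul_iff_left (pow_pos hp.out.pos _)).mp h2
  obtain ⟨c, hc⟩ := h3
  refine ⟨Multiplicative.ofAdd (c : ZMod (p ^ K)), ?_⟩
  apply Multiplicative.toAdd.injective
  rw [toAdd_pow, toAdd_ofAdd, nsmul_eq_mul, ← Nat.cast_mul, ← hc, ZMod.natCast_zmod_val, ha]

theorem zmod_cast {a b : ℕ} (h : a = b) :
    Nonempty (Multiplicative (ZMod a) ≃* Multiplicative (ZMod b)) := by
  subst h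
  exact ⟨MulEquiv.refl _⟩

end zmod

section pi
variable (p : ℕ) [hp : Fact p.Prime] {ι : Type} [Fintype ι] [DecidableEq ι] (k : ι → ℕ)

/-- key sublemma: elements of `Ω_{n+1}` with trivial components at invariants `n+1` lie in `W_n` -/
theorem pi_mem_Wn (n : ℕ) (v : ∀ i, Multiplicative (ZMod (p ^ k i)))
    (hv : v ^ (p ^ (n + 1)) = 1) (h1 : ∀ i, k i = n + 1 → v i = 1) :
    v ∈ Wn (∀ i, Multiplicative (ZMod (p ^ k i))) p n := by
  have hroot : ∀ i, ∃ u : Multiplicative (ZMod (p ^ k i)),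
      u ^ p = (if n + 2 ≤ k i then v i else 1) := by
    intro i
    by_cases h : n + 2 ≤ k i
    · rw [if_pos h]
      have hvi : (v i) ^ (p ^ (n + 1)) = 1 := by
        have := congrFun hv i
        simpa using this
      exact zmod_root p h (v i) hvi
    · rw [if_neg h]
      exact ⟨1, one_pow _⟩
  choose u hu using hroot
  rw [mem_Wn]
  refine ⟨u, fun i => if k i ≤ n then v i else 1, ?_, ?_⟩
  · funext i
    rw [Pi.pow_apply, Pi.one_apply]
    split_ifs with h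
    · exact zmod_kill' p h (v i)
    · exact one_pow _
  · funext i
    rw [Pi.mul_apply, Pi.pow_apply, hu]
    by_cases ha : k i ≤ n
    · rw [if_neg (by omega), if_pos ha, one_mul]
    · by_cases hb : n + 2 ≤ k i
      · rw [if_pos hb, if_neg ha, mul_one]
      · have : k i = n + 1 := by omega
        rw [if_neg hb, if_neg ha, mul_one, h1 i this]

theorem pi_step (hk : Function.Injective k) (n : ℕ) :
    CycStep (Wn (∀ i, Multiplicative (ZMod (p ^ k i))) p n)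
      (Wn (∀ i, Multiplicative (ZMod (p ^ k i))) p (n + 1)) := by
  by_cases h : ∃ i₀, k i₀ = n + 1
  · obtain ⟨i₀, hi₀⟩ := h
    haveI : NeZero (p ^ k i₀) := ⟨pow_ne_zero _ hp.out.ne_zero⟩
    obtain ⟨y, hy⟩ : ∃ y : ∀ i, Multiplicative (ZMod (p ^ k i)),
        y = Pi.mulSingle i₀ (Multiplicative.ofAdd (1 : ZMod (p ^ k i₀))) := ⟨_, rfl⟩
    have hyO : y ∈ Om (∀ i, Multiplicative (ZMod (p ^ k i))) p (n + 1) := by
      rw [mem_Om]
      funext i
      rw [Pi.pow_apply, Pi.one_apply]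
      by_cases hi : i = i₀
      · subst hi
        exact zmod_kill' p (le_of_eq hi₀) _
      · rw [hy, Pi.mulSingle_eq_of_ne hi, one_pow]
    refine ⟨y, Om_le_Wn _ hyO, fun z hz => ?_⟩
    obtain ⟨u, v, hv, rfl⟩ := mem_Wn.mp hz
    refine ⟨((Multiplicative.toAdd (v i₀)).val : ℤ), ?_⟩
    have hvO : v ∈ Om (∀ i, Multiplicative (ZMod (p ^ k i))) p (n + 1) := mem_Om.mpr hv
    have hv' : (y ^ ((Multiplicative.toAdd (v i₀)).val : ℤ))⁻¹ * v ∈
        Om (∀ i, Multiplicative (ZMod (p ^ k i))) p (n + 1) :=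
      Subgroup.mul_mem _ (Subgroup.inv_mem _ (Subgroup.zpow_mem _ hyO _)) hvO
    have h2 : (y ^ ((Multiplicative.toAdd (v i₀)).val : ℤ))⁻¹ * v ∈
        Wn (∀ i, Multiplicative (ZMod (p ^ k i))) p n := by
      apply pi_mem_Wn p k n _ (mem_Om.mp hv')
      intro i hi
      have hii : i = i₀ := hk (hi.trans hi₀.symm)
      subst hii
      rw [Pi.mul_apply, Pi.inv_apply, Pi.pow_apply, hy, Pi.mulSingle_eq_same, zpow_natCast,
        zmod_gen, inv_mul_cancel]
    have h3 : (u ^ p : ∀ i, Multiplicative (ZMod (p ^ k i))) ∈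
        Wn (∀ i, Multiplicative (ZMod (p ^ k i))) p n :=
      Ag_le_Wn n (mem_Ag.mpr ⟨u, by rw [pow_one]⟩)
    have e : (y ^ ((Multiplicative.toAdd (v i₀)).val : ℤ))⁻¹ * (u ^ p * v) =
        u ^ p * ((y ^ ((Multiplicative.toAdd (v i₀)).val : ℤ))⁻¹ * v) := mul_left_comm _ _ _
    rw [e]
    exact Subgroup.mul_mem _ h3 h2
  · refine ⟨1, Subgroup.one_mem _, fun z hz => ⟨0, ?_⟩⟩
    obtain ⟨u, v, hv, rfl⟩ := mem_Wn.mp hz
    have h2 : v ∈ Wn (∀ i, Multiplicative (ZMod (p ^ k i))) p n :=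
      pi_mem_Wn p k n v hv (fun i hi => (h ⟨i, hi⟩).elim)
    have h3 : (u ^ p : ∀ i, Multiplicative (ZMod (p ^ k i))) ∈
        Wn (∀ i, Multiplicative (ZMod (p ^ k i))) p n :=
      Ag_le_Wn n (mem_Ag.mpr ⟨u, by rw [pow_one]⟩)
    rw [zpow_zero, inv_one, one_mul]
    exact Subgroup.mul_mem _ h3 h2

end pi

section split

theorem split2 {ι : Type} [DecidableEq ι] (M : ι → Type) [∀ l, CommGroup (M l)] (i j : ι)
    (hij : i ≠ j) :
    ∃ (H : Type) (_ : CommGroup H), Nonempty ((∀ l, M l) ≃* (M i × M j) × H) := by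
  let e1 : (∀ l, M l) ≃* M i × (∀ l : {l // l ≠ i}, M l) :=
    { Equiv.piSplitAt i M with map_mul' := fun _ _ => rfl }
  let j' : {l // l ≠ i} := ⟨j, hij.symm⟩
  let M' : {l // l ≠ i} → Type := fun l => M l
  let e2 : (∀ l : {l // l ≠ i}, M' l) ≃* M' j' × (∀ l : {l // l ≠ j'}, M' l) :=
    { Equiv.piSplitAt j' M' with map_mul' := fun _ _ => rfl }
  refine ⟨∀ l : {l // l ≠ j'}, M' l, inferInstance, ⟨?_⟩⟩
  exact (e1.trans (MulEquiv.prodCongr (MulEquiv.refl _) e2)).trans MulEquiv.prodAssoc.symm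

end split

section main
variable {X : Type*} [CommGroup X] [Finite X] (p : ℕ) [hp : Fact p.Prime]

theorem step_of_no_rep (hX : IsPGroup p X)
    (hno : ¬ ∃ (n : ℕ) (H : Type) (_ : CommGroup H), 0 < n ∧
      Nonempty (X ≃* (Multiplicative (ZMod (p ^ n)) × Multiplicative (ZMod (p ^ n))) × H)) :
    ∀ n, CycStep (Wn X p n) (Wn X p (n + 1)) := by
  classical
  obtain ⟨ι, hι, n, hn, ⟨ψ⟩⟩ := CommGroup.equiv_prod_multiplicative_zmod_of_finite X
  obtain ⟨N, hN⟩ := IsPGroup.iff_card.mp hX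
  have hcard : Nat.card X = ∏ i, n i := by
    rw [Nat.card_congr ψ.toEquiv, Nat.card_pi]
    refine Finset.prod_congr rfl (fun i _ => ?_)
    exact Nat.card_zmod (n i)
  have hdiv : ∀ i, n i ∣ p ^ N := fun i => by
    rw [← hN, hcard]
    exact Finset.dvd_prod_of_mem n (Finset.mem_univ i)
  have hk : ∀ i, ∃ ki, n i = p ^ ki := fun i => by
    obtain ⟨m, -, hm⟩ := (Nat.dvd_prime_pow hp.out).mp (hdiv i)
    exact ⟨m, hm⟩
  choose k hk using hk
  obtain rfl : n = fun i => p ^ k i := funext hk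
  have hk0 : ∀ i, 0 < k i := by
    intro i
    rcases Nat.eq_zero_or_pos (k i) with h | h
    · have := hn i
      simp only [h, pow_zero, lt_self_iff_false] at this
    · exact h
  have hinj : Function.Injective k := by
    intro i j hij
    by_contra hne
    apply hno
    obtain ⟨H, hH, ⟨e⟩⟩ := split2 (fun l => Multiplicative (ZMod (p ^ k l))) i j hne
    obtain ⟨c⟩ := zmod_cast (show p ^ k j = p ^ k i by rw [hij])
    exact ⟨k i, H, hH, hk0 i,
      ⟨(ψ.trans e).trans (MulEquiv.prodCongr (MulEquiv.prodCongr (MulEquiv.refl _) c)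
        (MulEquiv.refl H))⟩⟩
  intro m
  obtain ⟨y, hy, hz⟩ := pi_step p k hinj m
  refine ⟨ψ.symm y, map_mem_Wn ψ.symm.toMonoidHom hy, fun z hzW => ?_⟩
  obtain ⟨c, hc⟩ := hz (ψ z) (map_mem_Wn ψ.toMonoidHom hzW)
  refine ⟨c, ?_⟩
  have h1 := map_mem_Wn ψ.symm.toMonoidHom hc
  have e : ψ.symm.toMonoidHom ((y ^ c)⁻¹ * ψ z) = (ψ.symm y ^ c)⁻¹ * z := by
    show ψ.symm ((y ^ c)⁻¹ * ψ z) = _
    rw [map_mul, map_inv, map_zpow, MulEquiv.symm_apply_apply]
  rwa [e] at h1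

/-- main theorem for abelian `p`-groups without repeated invariants -/
theorem pprime_of_no_rep (hX : IsPGroup p X)
    (hno : ¬ ∃ (n : ℕ) (H : Type) (_ : CommGroup H), 0 < n ∧
      Nonempty (X ≃* (Multiplicative (ZMod (p ^ n)) × Multiplicative (ZMod (p ^ n))) × H))
    (K : Subgroup (MulAut X)) (hK : (Nat.card K).Coprime p) :
    (∀ α ∈ K, ∀ β ∈ K, α * β = β * α) ∧ ∀ α ∈ K, α ^ (p - 1) = 1 := by
  obtain ⟨e, m, h0, hm, hc, hs⟩ := cchain_bot_top hX (step_of_no_rep p hX hno)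
  exact Cfsg.Agent.Lib.Helper1.ET15.abelian_of_coprime hX K hK e
    (fun α _ j x hx => hc j α x hx) h0 m hm (fun j => inferInstance) hs

end main

end Cfsg.Agent.Lib.Helper2.AbInv
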