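import Mathlib
import Cfsg.Agent.Lib.Helper2.AbInv1
import Cfsg.Agent.Lib.Helper1.ET16

set_option autoImplicit false
set_option linter.style.haveILetI false
set_option linter.unusedSectionVars false
set_option linter.unusedVariables false
set_option maxHeartbeats 1000000

namespace Cfsg.Agent.Lib.Helper2.AbInv

section dihedral

theorem isPGroup_two_of_dihedral {G : Type*} [Group G] (s t : G) (hs : s * s = 1)
    (ht : t * t = 1) (hr : (s * t) ^ 4 = 1) :
    IsPGroup 2 (Subgroup.closure ({s, t} : Set G)) := by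
  have hsinv : s⁻¹ = s := inv_eq_of_mul_eq_one_left hs
  have htinv : t⁻¹ = t := inv_eq_of_mul_eq_one_left ht
  obtain ⟨r, hrdef⟩ : ∃ r : G, r = s * t := ⟨_, rfl⟩
  rw [← hrdef] at hr
  have hR : IsPGroup 2 (Subgroup.zpowers r) := by
    rintro ⟨g, hg⟩
    obtain ⟨i, rfl⟩ := Subgroup.mem_zpowers_iff.mp hg
    refine ⟨2, Subtype.ext ?_⟩
    rw [Subgroup.coe_pow, Subgroup.coe_one]
    show (r ^ i) ^ (2 ^ 2) = 1
    rw [← zpow_natCast, ← zpow_mul, mul_comm, zpow_mul, zpow_natCast]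
    norm_num
    rw [hr, one_zpow]
  have hZ : IsPGroup 2 (Subgroup.zpowers s) := by
    rintro ⟨g, hg⟩
    obtain ⟨i, rfl⟩ := Subgroup.mem_zpowers_iff.mp hg
    refine ⟨1, Subtype.ext ?_⟩
    rw [Subgroup.coe_pow, Subgroup.coe_one]
    show (s ^ i) ^ (2 ^ 1) = 1
    rw [← zpow_natCast, ← zpow_mul, mul_comm, zpow_mul, zpow_natCast]
    norm_num
    rw [pow_two, hs, one_zpow]
  have hconj1 : s * r * s⁻¹ = r⁻¹ := by
    rw [hrdef, mul_inv_rev, hsinv, htinv, ← mul_assoc, hs, one_mul]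
  have hconj : ∀ i : ℤ, s * r ^ i * s⁻¹ = (r ^ i)⁻¹ := by
    intro i
    rw [← conj_zpow, hconj1, inv_zpow]
  have hN : Subgroup.zpowers s ≤ Subgroup.normalizer ((Subgroup.zpowers r : Subgroup G) : Set G) := by
    rw [Subgroup.zpowers_le, Subgroup.mem_normalizer_iff]
    intro x
    constructor
    · intro hx
      obtain ⟨i, rfl⟩ := Subgroup.mem_zpowers_iff.mp hx
      rw [hconj]
      exact (Subgroup.zpowers r).inv_mem (Subgroup.zpow_mem_zpowers r i)
    · intro hx
      obtain ⟨i, hi⟩ := Subgroup.mem_zpowers_iff.mp hx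
      have e : x = s * r ^ i * s⁻¹ := by
        rw [hi, hsinv]
        have : s * (s * x * s) * s = (s * s) * x * (s * s) := by group
        rw [this, hs, one_mul, mul_one]
      rw [e, hconj]
      exact (Subgroup.zpowers r).inv_mem (Subgroup.zpow_mem_zpowers r i)
  have hsup : IsPGroup 2 ↥(Subgroup.zpowers s ⊔ Subgroup.zpowers r) :=
    IsPGroup.to_sup_of_normal_right' hZ hR hN
  refine hsup.to_le ?_
  rw [Subgroup.closure_le]
  intro x hx
  rcases hx with rfl | hx
  · exact Subgroup.mem_sup_left (Subgroup.mem_zpowers _)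
  · rw [Set.mem_singleton_iff] at hx
    subst hx
    have e : x = s⁻¹ * r := by rw [hrdef]; group
    rw [e]
    exact Subgroup.mul_mem _
      (Subgroup.mem_sup_left ((Subgroup.zpowers s).inv_mem (Subgroup.mem_zpowers s)))
      (Subgroup.mem_sup_right (Subgroup.mem_zpowers r))

end dihedral

section auts
variable {C : Type*} [CommGroup C]

/-- swap -/
def sw : MulAut (C × C) := MulEquiv.prodComm
/-- invert the first coordinate -/
def dl : MulAut (C × C) := MulEquiv.prodCongr (MulEquiv.inv C) (MulEquiv.refl C)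
/-- order three -/
def tau : MulAut (C × C) where
  toFun x := (x.2⁻¹, x.1 * x.2⁻¹)
  invFun x := (x.1⁻¹ * x.2, x.1⁻¹)
  left_inv x := by
    apply Prod.ext
    · show (x.2⁻¹)⁻¹ * (x.1 * x.2⁻¹) = x.1
      rw [inv_inv, mul_comm x.1, mul_inv_cancel_left]
    · show (x.2⁻¹)⁻¹ = x.2
      rw [inv_inv]
  right_inv x := by
    apply Prod.ext
    · show (x.1⁻¹)⁻¹ = x.1
      rw [inv_inv]
    · show x.1⁻¹ * x.2 * (x.1⁻¹)⁻¹ = x.2
      rw [inv_inv, mul_comm x.1⁻¹, mul_assoc, mul_comm x.1⁻¹, mul_inv_cancel, mul_one]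
  map_mul' x y := by
    apply Prod.ext
    · show (x.2 * y.2)⁻¹ = x.2⁻¹ * y.2⁻¹
      rw [mul_inv]
    · show x.1 * y.1 * (x.2 * y.2)⁻¹ = x.1 * x.2⁻¹ * (y.1 * y.2⁻¹)
      rw [mul_inv, mul_mul_mul_comm]

theorem sw_apply (a b : C) : (sw : MulAut (C × C)) (a, b) = (b, a) := rfl
theorem dl_apply (a b : C) : (dl : MulAut (C × C)) (a, b) = (a⁻¹, b) := rfl
theorem tau_apply (a b : C) : (tau : MulAut (C × C)) (a, b) = (b⁻¹, a * b⁻¹) := rfl

theorem sw_sq : (sw : MulAut (C × C)) * sw = 1 := by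
  ext ⟨a, b⟩ <;> rfl

theorem dl_sq : (dl : MulAut (C × C)) * dl = 1 := by
  apply MulEquiv.ext
  rintro ⟨a, b⟩
  rw [MulAut.mul_apply, dl_apply, dl_apply, inv_inv, MulAut.one_apply]

theorem swdl_apply (a b : C) :
    (((sw : MulAut (C × C)) * dl : MulAut (C × C))) (a, b) = (b, a⁻¹) := rfl
theorem dlsw_apply (a b : C) :
    (((dl : MulAut (C × C)) * sw : MulAut (C × C))) (a, b) = (b⁻¹, a) := rfl

theorem swdl_pow : ((sw : MulAut (C × C)) * dl) ^ 4 = 1 := by
  apply MulEquiv.ext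
  rintro ⟨a, b⟩
  rw [show (4 : ℕ) = 1 + 1 + 1 + 1 from rfl, pow_succ, pow_succ, pow_succ, pow_one,
    MulAut.mul_apply, MulAut.mul_apply, MulAut.mul_apply, swdl_apply, swdl_apply, swdl_apply,
    swdl_apply, inv_inv, inv_inv, MulAut.one_apply]

theorem tau_pow : (tau : MulAut (C × C)) ^ 3 = 1 := by
  apply MulEquiv.ext
  rintro ⟨a, b⟩
  rw [show (3 : ℕ) = 1 + 1 + 1 from rfl, pow_succ, pow_succ, pow_one,
    MulAut.mul_apply, MulAut.mul_apply, tau_apply, tau_apply, tau_apply, MulAut.one_apply]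
  apply Prod.ext
  · show (b⁻¹ * (a * b⁻¹)⁻¹)⁻¹ = a
    rw [mul_inv_rev, inv_inv, inv_inv, inv_mul_cancel_right]
  · show (a * b⁻¹)⁻¹ * (b⁻¹ * (a * b⁻¹)⁻¹)⁻¹ = b
    rw [mul_inv_rev b⁻¹, inv_inv, inv_inv, inv_mul_cancel_left]

end auts


section phi
variable {X A B : Type*} [Group X] [Group A] [Group B]

/-- automorphisms of a direct factor extended to the whole group -/
def Phi (ψ : X ≃* A × B) : MulAut A →* MulAut X where
  toFun θ := ψ.trans ((MulEquiv.prodCongr θ (MulEquiv.refl B)).trans ψ.symm)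
  map_one' := by
    apply MulEquiv.ext
    intro x
    show ψ.symm (((1 : MulAut A) (ψ x).1), (ψ x).2) = x
    rw [MulAut.one_apply, Prod.mk.eta, MulEquiv.symm_apply_apply]
  map_mul' θ₁ θ₂ := by
    apply MulEquiv.ext
    intro x
    show ψ.symm ((θ₁ * θ₂) (ψ x).1, (ψ x).2) =
      ψ.symm (θ₁ (ψ (ψ.symm (θ₂ (ψ x).1, (ψ x).2))).1, (ψ (ψ.symm (θ₂ (ψ x).1, (ψ x).2))).2)
    rw [MulEquiv.apply_symm_apply]
    rfl

theorem Phi_apply (ψ : X ≃* A × B) (θ : MulAut A) (a : A) (b : B) :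
    Phi ψ θ (ψ.symm (a, b)) = ψ.symm (θ a, b) := by
  show ψ.symm (θ (ψ (ψ.symm (a, b))).1, (ψ (ψ.symm (a, b))).2) = _
  rw [MulEquiv.apply_symm_apply]

end phi

section bad

theorem exists_bad (p : ℕ) [hp : Fact p.Prime] {X : Type*} [Group X] [Finite X] (n : ℕ)
    (hn : 0 < n) (H : Type) [CommGroup H]
    (ψ : X ≃* (Multiplicative (ZMod (p ^ n)) × Multiplicative (ZMod (p ^ n))) × H) :
    ∃ K : Subgroup (MulAut X), (Nat.card K).Coprime p ∧
      ¬ ((∀ α ∈ K, ∀ β ∈ K, α * β = β * α) ∧ ∀ α ∈ K, α ^ (p - 1) = 1) := by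
  obtain ⟨g, hg⟩ : ∃ g : Multiplicative (ZMod (p ^ n)), g = Multiplicative.ofAdd 1 := ⟨_, rfl⟩
  have hpn : 1 < p ^ n := Nat.one_lt_pow hn.ne' hp.out.one_lt
  by_cases hp2 : p = 2
  · have hg1 : g ≠ 1 := by
      have := zmod_gpow_ne (p ^ n) 1 (by
        intro h
        exact absurd (Nat.le_of_dvd one_pos h) (by omega))
      rwa [pow_one, ← hg] at this
    refine ⟨Subgroup.zpowers (Phi ψ tau), ?_, ?_⟩
    · rw [Nat.card_zpowers]
      have h3 : (Phi ψ tau) ^ 3 = 1 := by rw [← map_pow, tau_pow, map_one]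
      have hcop : Nat.Coprime 3 p := by rw [hp2]; norm_num
      exact Nat.Coprime.coprime_dvd_left (orderOf_dvd_of_pow_eq_one h3) hcop
    · rintro ⟨-, h2⟩
      have h3 := h2 _ (Subgroup.mem_zpowers (Phi ψ tau))
      have hp1 : p - 1 = 1 := by omega
      rw [hp1, pow_one] at h3
      have h4 : Phi ψ tau = 1 := h3
      have h5 := Phi_apply ψ tau (g, 1) 1
      rw [h4, MulAut.one_apply, tau_apply] at h5
      have h6 := ψ.symm.injective h5
      have h7 : g = 1⁻¹ := congrArg (fun z => z.1.1) h6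
      exact hg1 (by rw [h7, inv_one])
  · have hg2 : g⁻¹ ≠ g := by
      intro h
      have h1 : g ^ 2 = 1 := by
        rw [pow_two]
        nth_rewrite 1 [← h]
        exact inv_mul_cancel g
      have := zmod_gpow_ne (p ^ n) 2 (by
        intro h2
        have h3 : p ∣ 2 := dvd_trans (dvd_pow_self p hn.ne') h2
        exact hp2 ((Nat.prime_dvd_prime_iff_eq hp.out Nat.prime_two).mp h3))
      rw [← hg] at this
      exact this h1
    refine ⟨Subgroup.closure {Phi ψ sw, Phi ψ dl}, ?_, ?_⟩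
    · have hP : IsPGroup 2 (Subgroup.closure ({Phi ψ sw, Phi ψ dl} : Set (MulAut X))) :=
        isPGroup_two_of_dihedral _ _ (by rw [← map_mul, sw_sq, map_one])
          (by rw [← map_mul, dl_sq, map_one]) (by rw [← map_mul, ← map_pow, swdl_pow, map_one])
      obtain ⟨k, hk⟩ := IsPGroup.iff_card.mp hP
      rw [hk]
      exact Nat.Coprime.pow_left k ((Nat.coprime_primes Nat.prime_two hp.out).mpr (Ne.symm hp2))
    · rintro ⟨h1, -⟩
      have h2 := h1 _ (Subgroup.subset_closure (Set.mem_insert _ _)) _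
        (Subgroup.subset_closure (Set.mem_insert_of_mem _ (Set.mem_singleton _)))
      rw [← map_mul, ← map_mul] at h2
      have h3 := Phi_apply ψ (sw * dl) (g, 1) 1
      rw [h2, Phi_apply, swdl_apply, dlsw_apply] at h3
      have h4 := ψ.symm.injective h3
      have h5 : g = g⁻¹ := congrArg (fun z => z.1.2) h4
      exact hg2 h5.symm

end bad

section resist
open Cfsg Cfsg.FusionSystem Cfsg.Agent.Lib.Helper9
variable {Ω : Type*} [Group Ω] {S : Subgroup Ω}

theorem abelian_resistant [Finite S] (p : ℕ) [Fact p.Prime] (hS : IsPGroup p ↥S)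
    (hab : ∀ a ∈ S, ∀ b ∈ S, a * b = b * a) (F : FusionSystem S) (hF : F.IsSaturated p) :
    F.IsNormal S := by
  rw [normal_iff_essential_invariant p hS F hF S]
  intro P hP
  rcases hP with hP | hP
  · rw [hP]
    refine ⟨le_rfl, fun α hα => ?_⟩
    rw [Subgroup.subgroupOf_self]
    exact Subgroup.map_top_of_surjective _ α.surjective
  · exfalso
    have hPS : P ≤ S := hP.1.1
    have hlt : P < S := Cfsg.Agent.Lib.Helper2.EssGen.essential_lt hS F hF hP
    have hC : centralizerIn S P ≤ P := hP.1.2 P (isConj_refl F hPS)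
    have hle : S ≤ P := fun s hs =>
      hC ⟨hs, Subgroup.mem_centralizer_iff.mpr (fun x hx => hab x (hPS hx) s hs)⟩
    exact lt_irrefl _ (lt_of_lt_of_le hlt hle)

end resist

end Cfsg.Agent.Lib.Helper2.AbInv
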