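import Mathlib
import Cfsg.Agent.Lib.Lead.FixedMod
import Cfsg.Agent.Lib.Helper1.CoprimeAbelian
import Cfsg.Agent.Lib.Helper1.Fitting

/-!
# `p'`-automorphisms of abelian Sylow `p`-subgroups

If `x` is a `q`-element (`q ≠ p`) normalizing but not centralizing an abelian Sylow `p`-subgroup
`P`, then `q ∣ p ^ j - 1` for some `1 ≤ j ≤ rank P`.
-/

set_option autoImplicit false

namespace Cfsg.Agent.Lib.Helper2

open Cfsg.Agent.Lib.Helper1

/-- In a finite abelian group the number of solutions of `x ^ p = 1` divides `p ^ rank`. -/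
theorem card_ker_pow_dvd (A : Type*) [CommGroup A] [Finite A] (p : ℕ) :
    Nat.card ((powMonoidHom p : A →* A).ker) ∣ p ^ Group.rank A := by
  set f : A →* A := powMonoidHom p with hf
  have h1 : Nat.card f.ker = f.range.index := by
    have h2 := f.ker.card_mul_index
    have h3 := f.range.card_mul_index
    rw [Subgroup.index_ker] at h2
    have hpos : 0 < Nat.card f.range := Nat.card_pos
    have : Nat.card f.ker * Nat.card f.range = f.range.index * Nat.card f.range := by
      rw [h2, mul_comm, h3]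
    exact Nat.eq_of_mul_eq_mul_right hpos this
  rw [h1]
  show Nat.card (A ⧸ f.range) ∣ _
  have hexp : ∀ g : A ⧸ f.range, g ^ p = 1 := by
    intro g
    obtain ⟨a, rfl⟩ := QuotientGroup.mk_surjective g
    rw [← QuotientGroup.mk_pow, QuotientGroup.eq_one_iff]
    exact ⟨a, rfl⟩
  refine (card_dvd_exponent_pow_rank' (A ⧸ f.range) hexp).trans ?_
  apply pow_dvd_pow
  exact Group.rank_le_of_surjective (QuotientGroup.mk' f.range) (QuotientGroup.mk'_surjective _)

/-- Orbit counting for the conjugation action of a `q`-element on a subgroup it normalizes. -/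
theorem card_modEq_card_inf_centralizer {G : Type*} [Group G] [Finite G] (W : Subgroup G) (x : G)
    (hx : ∀ w ∈ W, x * w * x⁻¹ ∈ W) {q k : ℕ} [Fact q.Prime] (hxo : orderOf x = q ^ k) :
    Nat.card W ≡ Nat.card (W ⊓ Subgroup.centralizer {x} : Subgroup G) [MOD q] := by
  set A : Subgroup (MulAut G) := Subgroup.zpowers (MulAut.conj x) with hA
  have hAq : IsPGroup q A := by
    rw [IsPGroup.iff_card, Nat.card_zpowers]
    have h1 : orderOf (MulAut.conj x) ∣ q ^ k := by
      rw [← hxo]
      exact orderOf_map_dvd _ x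
    obtain ⟨i, -, hi⟩ := (Nat.dvd_prime_pow (Fact.out : q.Prime)).1 h1
    exact ⟨i, hi⟩
  have hinv : ∀ g : A, ∀ w ∈ (W : Set G), g • w ∈ (W : Set G) := by
    rintro ⟨g, hg⟩ w hw
    obtain ⟨m, rfl⟩ := Subgroup.mem_zpowers_iff.1 hg
    show ((MulAut.conj x) ^ m) w ∈ W
    rw [← map_zpow, MulAut.conj_apply]
    -- x^m normalizes W
    have hxn : x ∈ Subgroup.normalizer (W : Set G) := Subgroup.mem_normalizer_fintype hx
    have hxm : x ^ m ∈ Subgroup.normalizer (W : Set G) := Subgroup.zpow_mem _ hxn m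
    exact (Subgroup.mem_normalizer_iff.1 hxm w).1 hw
  have h1 := Cfsg.Agent.Lib.Lead.FixedMod.card_modEq_inter_fixedPoints hAq (W : Set G) hinv
  have h2 : ((W : Set G) ∩ MulAction.fixedPoints A G) =
      ((W ⊓ Subgroup.centralizer {x} : Subgroup G) : Set G) := by
    ext w
    simp only [Set.mem_inter_iff, SetLike.mem_coe, MulAction.mem_fixedPoints, Subgroup.mem_inf,
      Subgroup.mem_centralizer_singleton_iff]
    constructor
    · rintro ⟨hw, hfix⟩
      refine ⟨hw, ?_⟩
      have := hfix ⟨MulAut.conj x, Subgroup.mem_zpowers _⟩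
      have h3 : x * w * x⁻¹ = w := this
      calc w * x = (x * w * x⁻¹) * x := by rw [h3]
        _ = x * w := by group
    · rintro ⟨hw, hc⟩
      refine ⟨hw, ?_⟩
      rintro ⟨g, hg⟩
      obtain ⟨m, rfl⟩ := Subgroup.mem_zpowers_iff.1 hg
      show ((MulAut.conj x) ^ m) w = w
      rw [← map_zpow, MulAut.conj_apply]
      have hcm : Commute (x ^ m) w := (Commute.zpow_left (show Commute x w from hc.symm) m)
      rw [hcm.eq, mul_assoc, mul_inv_cancel, mul_one]
  rw [h2] at h1
  exact h1

/-- A `q`-element normalizing but not centralizing an abelian Sylow `p`-subgroup `P` (`q ≠ p`)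
forces `q ∣ p ^ j - 1` for some `1 ≤ j ≤ rank P`. -/
theorem exists_dvd_pow_sub_one_of_not_centralizes {G : Type*} [Group G] [Finite G] {p : ℕ}
    [hp : Fact p.Prime] (P : Sylow p G) (hab : IsMulCommutative (P : Subgroup G)) {q k : ℕ}
    [hq : Fact q.Prime] (hqp : q ≠ p) (x : G)
    (hxN : x ∈ Subgroup.normalizer ((P : Subgroup G) : Set G)) (hxo : orderOf x = q ^ k)
    (hxC : x ∉ Subgroup.centralizer ((P : Subgroup G) : Set G)) :
    ∃ j, 1 ≤ j ∧ j ≤ Group.rank (P : Subgroup G) ∧ q ∣ p ^ j - 1 := by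
  classical
  letI : CommGroup (P : Subgroup G) :=
    { (inferInstance : Group (P : Subgroup G)) with mul_comm := fun a b => mul_comm' a b }
  set K : Subgroup (P : Subgroup G) := (powMonoidHom p : (P : Subgroup G) →* (P : Subgroup G)).ker
    with hK
  set W : Subgroup G := K.map (P : Subgroup G).subtype with hW
  have hWP : W ≤ (P : Subgroup G) := Subgroup.map_subtype_le _
  have hmemW : ∀ w : G, w ∈ W ↔ w ∈ (P : Subgroup G) ∧ w ^ p = 1 := by
    intro w
    constructor
    · rintro ⟨y, hy, rfl⟩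
      refine ⟨y.2, ?_⟩
      have : y ^ p = 1 := hy
      have := congrArg Subtype.val this
      rwa [Subgroup.coe_pow] at this
    · rintro ⟨hw, hwp⟩
      refine ⟨⟨w, hw⟩, ?_, rfl⟩
      show (⟨w, hw⟩ : (P : Subgroup G)) ^ p = 1
      apply Subtype.ext
      rw [Subgroup.coe_pow]
      exact hwp
  have hcardW : Nat.card W ∣ p ^ Group.rank (P : Subgroup G) := by
    rw [hW, Subgroup.card_map_of_injective (Subgroup.subtype_injective _)]
    exact card_ker_pow_dvd (P : Subgroup G) p
  have hxW : ∀ w ∈ W, x * w * x⁻¹ ∈ W := by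
    intro w hw
    rw [hmemW] at hw ⊢
    refine ⟨(Subgroup.mem_normalizer_iff.1 hxN w).1 hw.1, ?_⟩
    rw [conj_pow, hw.2, mul_one, mul_inv_cancel]
  have hmod := card_modEq_card_inf_centralizer W x hxW hxo
  set W₀ : Subgroup G := W ⊓ Subgroup.centralizer {x} with hW₀
  have hW₀W : W₀ ≤ W := inf_le_left
  have hne : W₀ ≠ W := by
    intro heq
    apply hxC
    have hAV : Subgroup.zpowers x ≤ Subgroup.normalizer ((P : Subgroup G) : Set G) := by
      rw [Subgroup.zpowers_le]; exact hxN
    have hcop : (Nat.card (Subgroup.zpowers x)).Coprime (Nat.card (P : Subgroup G)) := by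
      rw [Nat.card_zpowers, hxo]
      obtain ⟨n, hn⟩ := IsPGroup.iff_card.1 P.isPGroup'
      rw [hn]
      exact Nat.Coprime.pow _ _ ((Nat.coprime_primes hq.out hp.out).2 hqp)
    have := coprime_abelian_trivial_of_fix_prime_order (Subgroup.zpowers x) (P : Subgroup G)
      hAV hcop (by
        intro v hv hvo a ha
        have hvp : v ^ p = 1 := by
          obtain ⟨n, hn⟩ := IsPGroup.iff_card.1 P.isPGroup'
          have h1 : orderOf v ∣ p ^ n := by
            rw [← hn]
            have := orderOf_dvd_natCard (⟨v, hv⟩ : (P : Subgroup G))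
            rwa [Subgroup.orderOf_mk] at this
          have h2 : orderOf v = p := by
            have := (Nat.prime_dvd_prime_iff_eq hvo hp.out).1 (hvo.dvd_of_dvd_pow h1)
            exact this
          rw [← h2]; exact pow_orderOf_eq_one v
        have hvW : v ∈ W₀ := by rw [heq, hmemW]; exact ⟨hv, hvp⟩
        have hvx : v * x = x * v := Subgroup.mem_centralizer_singleton_iff.1 hvW.2
        obtain ⟨m, rfl⟩ := Subgroup.mem_zpowers_iff.1 ha
        exact ((Commute.zpow_left (show Commute x v from hvx.symm) m)).eq)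
    exact this (Subgroup.mem_zpowers x)
  have hWp : IsPGroup p W := P.isPGroup'.to_le hWP
  have hW₀p : IsPGroup p W₀ := hWp.to_le hW₀W
  obtain ⟨e, he⟩ := IsPGroup.iff_card.1 hWp
  obtain ⟨c, hc⟩ := IsPGroup.iff_card.1 hW₀p
  have hlt : Nat.card W₀ < Nat.card W := by
    by_contra hge
    push Not at hge
    exact hne (Subgroup.eq_of_le_of_card_ge hW₀W hge)
  rw [he, hc] at hlt
  have hce : c < e := (Nat.pow_lt_pow_iff_right hp.out.one_lt).1 hlt
  rw [he, hc] at hmod
  have hdvd : q ∣ p ^ e - p ^ c := (Nat.modEq_iff_dvd' (Nat.pow_le_pow_right hp.out.pos hce.le)).1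
    hmod.symm
  have hfac : p ^ e - p ^ c = p ^ c * (p ^ (e - c) - 1) := by
    rw [Nat.mul_sub, mul_one, ← pow_add]
    congr 2
    omega
  rw [hfac] at hdvd
  have hcopq : Nat.Coprime q (p ^ c) := Nat.Coprime.pow_right _ ((Nat.coprime_primes hq.out hp.out).2 hqp)
  have hdvd' : q ∣ p ^ (e - c) - 1 := hcopq.dvd_of_dvd_mul_left hdvd
  refine ⟨e - c, by omega, ?_, hdvd'⟩
  rw [he] at hcardW
  have hed : e ≤ Group.rank (P : Subgroup G) :=
    (Nat.pow_dvd_pow_iff_le_right hp.out.one_lt).1 hcardW
  omega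

end Cfsg.Agent.Lib.Helper2
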