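import Mathlib

set_option autoImplicit false
set_option maxHeartbeats 1000000
set_option linter.unusedVariables false
set_option linter.unusedSectionVars false
set_option linter.style.longLine false
set_option linter.unusedSimpArgs false
set_option linter.deprecated false

/-!
# Groups generated by 3-cycles (for S2929)

* `closure_three_cycles_eq_alt`: a transitive permutation group generated by 3-cycles is the
  alternating group.
* `closure_three_cycles_eq_map_alt`: version relative to a finset `Δ` of the ambient type.
-/

namespace Cfsg.Agent.Lib.Helper2.AltOver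

open Equiv Equiv.Perm
open scoped Pointwise

section A1

variable {β : Type*} [Fintype β] [DecidableEq β]

/-- A 3-cycle cannot move a block containing two points off itself. -/
theorem three_cycle_block {c : Perm β} (hc : c.IsThreeCycle) {B : Set β} {u w : β}
    (hu : u ∈ B) (hw : w ∈ B) (huw : u ≠ w) (hd : Disjoint (c • B) B) : False := by
  have hcu : c u ∉ B := fun h =>
    Set.disjoint_left.mp hd (Set.smul_mem_smul_set (a := c) hu) h
  have hcw : c w ∉ B := fun h =>
    Set.disjoint_left.mp hd (Set.smul_mem_smul_set (a := c) hw) h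
  have h1 : c u ≠ u := fun h => hcu (by rw [h]; exact hu)
  have h2 : c u ≠ w := fun h => hcu (by rw [h]; exact hw)
  have h3 : c w ≠ w := fun h => hcw (by rw [h]; exact hw)
  have h4 : c w ≠ u := fun h => hcw (by rw [h]; exact hu)
  have hus : u ∈ c.support := mem_support.mpr h1
  have hws : w ∈ c.support := mem_support.mpr h3
  have hcus : c u ∈ c.support := apply_mem_support.mpr hus
  have hcws : c w ∈ c.support := apply_mem_support.mpr hws
  have hcard := hc.card_support
  have hE : ((c.support.erase u).erase w).card ≤ 1 := by
    rw [Finset.card_erase_of_mem (Finset.mem_erase.mpr ⟨huw.symm, hws⟩),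
      Finset.card_erase_of_mem hus, hcard]
  have hm1 : c u ∈ (c.support.erase u).erase w :=
    Finset.mem_erase.mpr ⟨h2, Finset.mem_erase.mpr ⟨h1, hcus⟩⟩
  have hm2 : c w ∈ (c.support.erase u).erase w :=
    Finset.mem_erase.mpr ⟨h3, Finset.mem_erase.mpr ⟨h4, hcws⟩⟩
  have := Finset.card_le_one.mp hE (c u) hm1 (c w) hm2
  exact huw (c.injective this)

/-- A transitive permutation group generated by 3-cycles is the alternating group. -/
theorem closure_three_cycles_eq_alt (T : Set (Perm β)) (hT : ∀ c ∈ T, c.IsThreeCycle)
    (hne : T.Nonempty) (htr : ∀ x y : β, ∃ l ∈ Subgroup.closure T, l x = y) :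
    Subgroup.closure T = alternatingGroup β := by
  have hle : Subgroup.closure T ≤ alternatingGroup β := by
    rw [Subgroup.closure_le]
    intro c hc
    exact (hT c hc).mem_alternatingGroup
  refine le_antisymm hle ?_
  obtain ⟨c0, hc0⟩ := hne
  have htrans : MulAction.IsPretransitive (Subgroup.closure T) β := ⟨fun x y => by
    obtain ⟨l, hl, h⟩ := htr x y
    exact ⟨⟨l, hl⟩, h⟩⟩
  have hprim : MulAction.IsPreprimitive (Subgroup.closure T) β :=
    { toIsPretransitive := htrans
      isTrivialBlock_of_isBlock := fun {B} hB => by
        by_cases hs : B.Subsingleton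
        · exact Or.inl hs
        · right
          rw [Set.not_subsingleton_iff] at hs
          obtain ⟨u, hu, w, hw, huw⟩ := hs
          have hstab : Subgroup.closure T ≤ MulAction.stabilizer (Perm β) B := by
            rw [Subgroup.closure_le]
            intro c hc
            rw [SetLike.mem_coe, MulAction.mem_stabilizer_iff]
            have hcL : c ∈ Subgroup.closure T := Subgroup.subset_closure hc
            rcases hB.smul_eq_or_disjoint ⟨c, hcL⟩ with h | h
            · exact h
            · exact (three_cycle_block (hT c hc) hu hw huw h).elim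
          rw [Set.eq_univ_iff_forall]
          intro y
          obtain ⟨l, hl, h⟩ := htr u y
          have hlB : l • B = B := MulAction.mem_stabilizer_iff.mp (hstab hl)
          rw [← hlB, ← h]
          exact Set.smul_mem_smul_set (a := l) hu }
  exact alternatingGroup_le_of_isPreprimitive_of_isThreeCycle_mem hprim (hT c0 hc0)
    (Subgroup.subset_closure hc0)

end A1

section A2

variable {α : Type*} [Fintype α] [DecidableEq α]

/-- A group generated by 3-cycles supported in `Δ` and transitive on `Δ` is `Alt(Δ)`. -/
theorem closure_three_cycles_eq_map_alt (Δ : Finset α) (T : Set (Perm α))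
    (hT3 : ∀ c ∈ T, c.IsThreeCycle) (hTs : ∀ c ∈ T, c.support ⊆ Δ) (hne : T.Nonempty)
    (htr : ∀ x ∈ Δ, ∀ y ∈ Δ, ∃ l ∈ Subgroup.closure T, l x = y) :
    Subgroup.closure T = (alternatingGroup Δ).map (ofSubtype : Perm Δ →* Perm α) := by
  have hrange : ∀ c ∈ T, c ∈ (ofSubtype : Perm Δ →* Perm α).range := by
    intro c hc
    rw [mem_range_ofSubtype_iff]
    intro x hx
    exact hTs c hc (Finset.mem_coe.mp hx)
  have himg : (ofSubtype : Perm Δ →* Perm α) '' ((ofSubtype : Perm Δ →* Perm α) ⁻¹' T) = T := by
    rw [Set.image_preimage_eq_inter_range]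
    apply Set.inter_eq_left.mpr
    intro c hc
    exact hrange c hc
  have hcl : Subgroup.closure T =
      (Subgroup.closure ((ofSubtype : Perm Δ →* Perm α) ⁻¹' T)).map
        (ofSubtype : Perm Δ →* Perm α) := by
    rw [MonoidHom.map_closure, himg]
  have hA : Subgroup.closure ((ofSubtype : Perm Δ →* Perm α) ⁻¹' T) = alternatingGroup Δ := by
    apply closure_three_cycles_eq_alt
    · intro c' hc'
      have h3 : ((ofSubtype : Perm Δ →* Perm α) c').IsThreeCycle := hT3 _ hc'
      have e : ((ofSubtype : Perm Δ →* Perm α) c').cycleType = c'.cycleType := cycleType_ofSubtype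
      unfold IsThreeCycle at h3 ⊢
      rw [← e]; exact h3
    · obtain ⟨c, hc⟩ := hne
      obtain ⟨c', rfl⟩ := hrange c hc
      exact ⟨c', hc⟩
    · intro x y
      obtain ⟨l, hl, h⟩ := htr x x.2 y y.2
      rw [hcl] at hl
      obtain ⟨l', hl', rfl⟩ := hl
      refine ⟨l', hl', ?_⟩
      apply Subtype.ext
      rw [← h]
      exact (ofSubtype_apply_coe l' x).symm
  rw [hcl, hA]

end A2

end Cfsg.Agent.Lib.Helper2.AltOver
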