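import Mathlib
import Cfsg.Agent.S4337
import Cfsg.Agent.Lib.Helper2.AltOver1

set_option autoImplicit false
set_option maxHeartbeats 1000000
set_option linter.unusedVariables false
set_option linter.unusedSectionVars false
set_option linter.style.longLine false
set_option linter.unusedSimpArgs false
set_option linter.deprecated false
set_option linter.style.haveILetI false

/-!
# A quasisimple, self-centralizing normal subgroup normalized by a 3-cycle is alternating
(for S2929)
-/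

namespace Cfsg.Agent.Lib.Helper2.AltOver

open Equiv Equiv.Perm
open scoped commutatorElement

section abstract

variable {G : Type*} [Group G]

/-- The set of `K`-conjugates of `c`. -/
def conjSet (K : Subgroup G) (c : G) : Set G := {t | ∃ k ∈ K, t = k * c * k⁻¹}

theorem self_mem_conjSet (K : Subgroup G) (c : G) : c ∈ conjSet K c :=
  ⟨1, K.one_mem, by simp⟩

theorem conj_closure_mem (K : Subgroup G) (c : G) :
    ∀ k ∈ K, ∀ x ∈ Subgroup.closure (conjSet K c), k * x * k⁻¹ ∈ Subgroup.closure (conjSet K c) := by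
  intro k hk x hx
  induction hx using Subgroup.closure_induction with
  | mem t ht =>
    obtain ⟨k', hk', rfl⟩ := ht
    apply Subgroup.subset_closure
    exact ⟨k * k', K.mul_mem hk hk', by group⟩
  | one => simpa using (Subgroup.closure (conjSet K c)).one_mem
  | mul x y _ _ hx hy =>
    have : k * (x * y) * k⁻¹ = (k * x * k⁻¹) * (k * y * k⁻¹) := by group
    rw [this]; exact (Subgroup.closure (conjSet K c)).mul_mem hx hy
  | inv x _ hx =>
    have : k * x⁻¹ * k⁻¹ = (k * x * k⁻¹)⁻¹ := by group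
    rw [this]; exact (Subgroup.closure (conjSet K c)).inv_mem hx

/-- If `c` normalizes the perfect "quasisimple" group `K` without centralizing it, then `K` lies
in the group generated by the `K`-conjugates of `c`. -/
theorem le_closure_conjSet {K : Subgroup G} {c : G}
    (hcn : ∀ z ∈ Subgroup.zpowers c, ∀ k ∈ K, z * k * z⁻¹ ∈ K)
    (hKp : ⁅K, K⁆ = K)
    (hKq : ∀ X : Subgroup G, X ≤ K → (∀ k ∈ K, ∀ x ∈ X, k * x * k⁻¹ ∈ X) →
      X = K ∨ ∀ x ∈ X, ∀ k ∈ K, k * x = x * k)
    (hnc : ¬ ∀ k ∈ K, k * c = c * k) :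
    K ≤ Subgroup.closure (conjSet K c) := by
  have hKL := conj_closure_mem K c
  have hXle : K ⊓ Subgroup.closure (conjSet K c) ≤ K := inf_le_left
  have hXn : ∀ k ∈ K, ∀ x ∈ K ⊓ Subgroup.closure (conjSet K c),
      k * x * k⁻¹ ∈ K ⊓ Subgroup.closure (conjSet K c) := by
    intro k hk x hx
    rw [Subgroup.mem_inf] at hx ⊢
    exact ⟨K.mul_mem (K.mul_mem hk hx.1) (K.inv_mem hk), hKL k hk x hx.2⟩
  rcases hKq (K ⊓ Subgroup.closure (conjSet K c)) hXle hXn with h | h
  · exact (le_of_eq h.symm).trans (inf_le_right : K ⊓ Subgroup.closure (conjSet K c) ≤ Subgroup.closure (conjSet K c))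
  · exfalso
    apply hnc
    have hcZ : c ∈ Subgroup.zpowers c := Subgroup.mem_zpowers c
    have hZL : Subgroup.zpowers c ≤ Subgroup.closure (conjSet K c) := by
      rw [Subgroup.zpowers_le]; exact Subgroup.subset_closure (self_mem_conjSet K c)
    have h1 : ⁅K, Subgroup.zpowers c⁆ ≤ K ⊓ Subgroup.closure (conjSet K c) := by
      rw [Subgroup.commutator_le]
      intro k hk z hz
      rw [commutatorElement_def]
      refine Subgroup.mem_inf.mpr ⟨?_, ?_⟩
      · have : k * z * k⁻¹ * z⁻¹ = k * (z * k⁻¹ * z⁻¹) := by group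
        rw [this]
        exact K.mul_mem hk (hcn z hz k⁻¹ (K.inv_mem hk))
      · exact (Subgroup.closure (conjSet K c)).mul_mem (hKL k hk z (hZL hz))
          ((Subgroup.closure (conjSet K c)).inv_mem (hZL hz))
    have h2 : ⁅K ⊓ Subgroup.closure (conjSet K c), K⁆ = ⊥ := by
      rw [Subgroup.commutator_eq_bot_iff_le_centralizer]
      intro x hx
      rw [Subgroup.mem_centralizer_iff]
      intro k hk
      exact h x hx k hk
    have h3 : ⁅⁅K, Subgroup.zpowers c⁆, K⁆ = ⊥ := by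
      rw [eq_bot_iff, ← h2]; exact Subgroup.commutator_mono h1 le_rfl
    have h4 : ⁅⁅Subgroup.zpowers c, K⁆, K⁆ = ⊥ := by
      rw [Subgroup.commutator_comm (Subgroup.zpowers c) K]; exact h3
    have h5 : ⁅⁅K, K⁆, Subgroup.zpowers c⁆ = ⊥ :=
      Subgroup.commutator_commutator_eq_bot_of_rotate h3 h4
    rw [hKp, Subgroup.commutator_eq_bot_iff_le_centralizer] at h5
    intro k hk
    have := Subgroup.mem_centralizer_iff.mp (h5 hk) c hcZ
    exact this.symm

/-- Every `p`-element is conjugate into a given Sylow `p`-subgroup. -/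
theorem exists_conj_mem_sylow [Finite G] {p : ℕ} [Fact p.Prime] (P : Sylow p G)
    (x : G) (hx : IsPGroup p (Subgroup.zpowers x)) : ∃ g : G, g * x * g⁻¹ ∈ (P : Subgroup G) := by
  obtain ⟨Q, hQ⟩ := hx.exists_le_sylow
  obtain ⟨g, hg⟩ := MulAction.exists_smul_eq G Q P
  refine ⟨g, ?_⟩
  rw [← hg, Sylow.coe_subgroup_smul]
  have := Subgroup.smul_mem_pointwise_smul x (MulAut.conj g) (Q : Subgroup G)
    (hQ (Subgroup.mem_zpowers x))
  exact this

end abstract

section perm

variable {α : Type*} [Fintype α] [DecidableEq α]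

theorem act_zpow (k c : Perm α) (hkc : k * c = c * k) (a : α) (i : ℤ) (hi : (c ^ i) a = k a)
    (j : ℤ) : k ((c ^ j) a) = (c ^ (i + j)) a ∧ k⁻¹ ((c ^ j) a) = (c ^ (j - i)) a := by
  have hcomm : ∀ m : ℤ, k * c ^ m = c ^ m * k := fun m =>
    (Commute.zpow_right (show Commute k c from hkc) m).eq
  have h1 : ∀ m : ℤ, k ((c ^ m) a) = (c ^ (i + m)) a := by
    intro m
    have := congrArg (fun f : Perm α => f a) (hcomm m)
    simp only [Perm.mul_apply] at this
    rw [this, ← hi, ← Perm.mul_apply, ← zpow_add, add_comm]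
  refine ⟨h1 j, ?_⟩
  rw [Perm.inv_eq_iff_eq, h1 (j - i)]
  have : i + (j - i) = j := by ring
  rw [this]

/-- A 3-cycle lying in a perfect group cannot be centralized by it. -/
theorem not_centralize {K : Subgroup (Perm α)} (hKp : ⁅K, K⁆ = K) {c : Perm α}
    (hc3 : c.IsThreeCycle) (hcK : c ∈ K) (hcen : ∀ k ∈ K, k * c = c * k) : False := by
  have hcard := hc3.card_support
  obtain ⟨a, ha⟩ : c.support.Nonempty := by
    rw [← Finset.card_pos, hcard]; norm_num
  rw [mem_support] at ha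
  have hstab : K ≤ MulAction.stabilizer (Perm α) a := by
    rw [← hKp, Subgroup.commutator_le]
    intro k1 hk1 k2 hk2
    rw [MulAction.mem_stabilizer_iff]
    have hex : ∀ k ∈ K, ∃ i : ℤ, (c ^ i) a = k a := by
      intro k hk
      apply hc3.isCycle.exists_zpow_eq ha
      intro h
      apply ha
      have := congrArg (fun f : Perm α => f a) (hcen k hk)
      simp only [Perm.mul_apply] at this
      rw [h] at this
      exact k.injective this
    obtain ⟨i1, h1⟩ := hex k1 hk1
    obtain ⟨i2, h2⟩ := hex k2 hk2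
    have A1 := act_zpow k1 c (hcen k1 hk1) a i1 h1
    have A2 := act_zpow k2 c (hcen k2 hk2) a i2 h2
    have s1 : k2⁻¹ a = (c ^ (-i2)) a := by simpa using (A2 0).2
    have s2 : k1⁻¹ ((c ^ (-i2)) a) = (c ^ (-i2 - i1)) a := (A1 (-i2)).2
    have s3 : k2 ((c ^ (-i2 - i1)) a) = (c ^ (i2 + (-i2 - i1))) a := (A2 _).1
    have s4 : k1 ((c ^ (i2 + (-i2 - i1))) a) = (c ^ (i1 + (i2 + (-i2 - i1)))) a := (A1 _).1
    show ⁅k1, k2⁆ a = a
    rw [commutatorElement_def]
    simp only [Perm.mul_apply]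
    rw [s1, s2, s3, s4]
    have : i1 + (i2 + (-i2 - i1)) = 0 := by ring
    rw [this, zpow_zero, Perm.one_apply]
  exact ha (MulAction.mem_stabilizer_iff.mp (hstab hcK))

/-- Main structure theorem. -/
theorem main_of_three_cycle {H K : Subgroup (Perm α)} (hKH : K ≤ H)
    (hKn : ∀ h ∈ H, ∀ k ∈ K, h * k * h⁻¹ ∈ K)
    (hKp : ⁅K, K⁆ = K)
    (hKq : ∀ X : Subgroup (Perm α), X ≤ K → (∀ k ∈ K, ∀ x ∈ X, k * x * k⁻¹ ∈ X) →
      X = K ∨ ∀ x ∈ X, ∀ k ∈ K, k * x = x * k)
    (hKc : ∀ h ∈ H, (∀ k ∈ K, k * h = h * k) → h ∈ K)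
    (hK1 : K ≠ ⊥)
    {c : Perm α} (hc3 : c.IsThreeCycle) (hcH : c ∈ H) :
    c ∈ K ∧ ∃ Δ : Finset α, 5 ≤ Δ.card ∧
      K = (alternatingGroup Δ).map (ofSubtype : Perm Δ →* Perm α) ∧
      (∀ x ∈ Δ, ∃ k ∈ K, k x ≠ x) := by
  have hB1 : ¬ ∀ k ∈ K, k * c = c * k := by
    intro hcen
    have hcK : c ∈ K := hKc c hcH hcen
    exact not_centralize hKp hc3 hcK hcen
  have hcL : c ∈ Subgroup.closure (conjSet K c) := Subgroup.subset_closure (self_mem_conjSet K c)
  have hTH : conjSet K c ⊆ H := by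
    rintro t ⟨k, hk, rfl⟩
    exact H.mul_mem (H.mul_mem (hKH hk) hcH) (H.inv_mem (hKH hk))
  have hLH : Subgroup.closure (conjSet K c) ≤ H := (Subgroup.closure_le H).mpr hTH
  have hKL : K ≤ Subgroup.closure (conjSet K c) :=
    le_closure_conjSet (fun z hz k hk => hKn z ((Subgroup.zpowers_le.mpr hcH) hz) k hk) hKp hKq hB1
  obtain ⟨Δ, hmemΔ⟩ : ∃ Δ : Finset α, ∀ x, x ∈ Δ ↔ ∃ t ∈ conjSet K c, t x ≠ x :=
    ⟨(Set.toFinite {x : α | ∃ t ∈ conjSet K c, t x ≠ x}).toFinset, fun x => by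
      rw [Set.Finite.mem_toFinset]; rfl⟩
  have hT3 : ∀ t ∈ conjSet K c, t.IsThreeCycle := by
    rintro t ⟨k, hk, rfl⟩
    unfold IsThreeCycle
    rw [cycleType_conj]; exact hc3
  have hTs : ∀ t ∈ conjSet K c, t.support ⊆ Δ := by
    intro t ht x hx
    rw [hmemΔ]; exact ⟨t, ht, mem_support.mp hx⟩
  have htr : ∀ x ∈ Δ, ∀ y ∈ Δ, ∃ l ∈ Subgroup.closure (conjSet K c), l x = y := by
    intro x hx y hy
    rw [hmemΔ] at hx hy
    obtain ⟨_, ⟨k, hk, rfl⟩, hx⟩ := hx
    obtain ⟨_, ⟨k', hk', rfl⟩, hy⟩ := hy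
    have ha : c (k⁻¹ x) ≠ k⁻¹ x := by
      intro h; apply hx
      simp only [Perm.mul_apply]; rw [h]; simp
    have hb : c (k'⁻¹ y) ≠ k'⁻¹ y := by
      intro h; apply hy
      simp only [Perm.mul_apply]; rw [h]; simp
    obtain ⟨i, hi⟩ := hc3.isCycle.exists_zpow_eq ha hb
    refine ⟨k' * c ^ i * k⁻¹, ?_, ?_⟩
    · exact (Subgroup.closure (conjSet K c)).mul_mem
        ((Subgroup.closure (conjSet K c)).mul_mem (hKL hk')
          ((Subgroup.closure (conjSet K c)).zpow_mem hcL i))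
        ((Subgroup.closure (conjSet K c)).inv_mem (hKL hk))
    · simp only [Perm.mul_apply]; rw [hi]; simp
  have hLeq : Subgroup.closure (conjSet K c) =
      (alternatingGroup Δ).map (ofSubtype : Perm Δ →* Perm α) :=
    closure_three_cycles_eq_map_alt Δ (conjSet K c) hT3 hTs ⟨c, self_mem_conjSet K c⟩ htr
  have hKsupp : ∀ f ∈ K, f.support ⊆ Δ := by
    intro f hf
    have hfL : f ∈ (alternatingGroup Δ).map (ofSubtype : Perm Δ →* Perm α) := by
      rw [← hLeq]; exact hKL hf
    obtain ⟨g, _, rfl⟩ := hfL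
    intro x hx
    have := (mem_support_ofSubtype x g).mp hx
    obtain ⟨h, _⟩ := this
    exact h
  have h5 : 5 ≤ Δ.card := by
    by_contra hlt
    rw [not_le] at hlt
    have hsolv : Group.IsSolvable K :=
      Cfsg.Agent.S4337.solvable_of_support_subset Δ (by omega) K hKsupp
    haveI : Group.IsPerfect K := Subgroup.isPerfect_iff.mpr hKp
    haveI : Nontrivial K := (Subgroup.nontrivial_iff_ne_bot K).mpr hK1
    exact Group.IsPerfect.not_isSolvable K hsolv
  haveI hsimple : IsSimpleGroup (alternatingGroup Δ) :=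
    alternatingGroup.isSimpleGroup (by
      rw [Nat.card_eq_fintype_card, Fintype.card_coe]; exact h5)
  have hψr : ((ofSubtype : Perm Δ →* Perm α).comp (alternatingGroup Δ).subtype).range =
      Subgroup.closure (conjSet K c) := by
    rw [hLeq, MonoidHom.range_comp, Subgroup.range_subtype]
  have hKψn : (K.comap ((ofSubtype : Perm Δ →* Perm α).comp (alternatingGroup Δ).subtype)).Normal := by
    constructor
    intro n hn g
    rw [Subgroup.mem_comap] at hn ⊢
    rw [map_mul, map_mul, map_inv]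
    apply hKn _ _ _ hn
    apply hLH; rw [← hψr]; exact ⟨g, rfl⟩
  rcases hKψn.eq_bot_or_eq_top with hb | ht
  · exfalso; apply hK1
    have : K = (K.comap ((ofSubtype : Perm Δ →* Perm α).comp (alternatingGroup Δ).subtype)).map
        ((ofSubtype : Perm Δ →* Perm α).comp (alternatingGroup Δ).subtype) := by
      rw [Subgroup.map_comap_eq_self]; rw [hψr]; exact hKL
    rw [this, hb, Subgroup.map_bot]
  · have hLK : Subgroup.closure (conjSet K c) ≤ K := by
      rw [← hψr]; rintro _ ⟨g, rfl⟩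
      have : g ∈ K.comap ((ofSubtype : Perm Δ →* Perm α).comp (alternatingGroup Δ).subtype) := by
        rw [ht]; trivial
      exact this
    have hKeq : K = Subgroup.closure (conjSet K c) := le_antisymm hKL hLK
    refine ⟨hLK hcL, Δ, h5, hKeq.trans hLeq, ?_⟩
    intro x hx
    obtain ⟨t, ht, hne⟩ := (hmemΔ x).mp hx
    exact ⟨t, hLK (Subgroup.subset_closure ht), hne⟩

end perm

end Cfsg.Agent.Lib.Helper2.AltOver
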