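import Mathlib
import Cfsg.Prelude.Def_ChevStructure
import Cfsg.Agent.Lib.Helper5.ChevRankOne
import Cfsg.Agent.Lib.Helper5.RankOneHom
import Cfsg.Agent.Lib.Helper5.ChevXInj
import Cfsg.Agent.Lib.Helper5.ChevChk.HAll
import Cfsg.Agent.Lib.Helper5.StPres.NAct
import Cfsg.Agent.Lib.Helper1.InvolMoves
import Cfsg.Agent.Lib.Helper1.WCU3

set_option autoImplicit false
set_option linter.style.haveILetI false

/-!
S2156 farm, unit C0: the kernel of a rank-one homomorphism `SL₂(F) → GL` attached to a root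
is contained in `{1, -1}`.
-/

namespace Cfsg.Agent.Lib.Helper2.ChevAut

open Cfsg Cfsg.Lie Cfsg.Agent.Lib.Helper5.ChevStruct Cfsg.Agent.Lib.Helper5.ChevSym
  Cfsg.Agent.Lib.Helper5.RankOneHom

variable {F : Type*} [Field F]

/-- `x_{-r}(u) = x_r(v)` forces `u = 0` -/
theorem c0_neg_eq_pos (D : ChevalleyDatum) (hD : D ∈ Seven) (r : ℕ) (hr : r < D.nroots)
    (u v : F) (h : D.x F (D.neg r) u = D.x F r v) : u = 0 := by
  obtain ⟨hnr, hne, hnn⟩ := neg_lt D hD r hr
  obtain ⟨i, hi, hci⟩ := exists_coroot_ne_zero (F := F) D hD (D.neg r) hnr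
  unfold ChevalleyDatum.x at h
  rw [dif_pos hnr, dif_pos hr] at h
  have h1 := xMat_inl_neg (F := F) D ⟨D.neg r, hnr⟩ ⟨r, hr⟩ hnn.symm
    (fun e => hne (congrArg Fin.val e).symm) u ⟨i, hi⟩
  have h2 := xMat_inl_neg_ne (F := F) D ⟨D.neg r, hnr⟩ ⟨r, hr⟩ ⟨r, hr⟩ hnn.symm
    (fun e => hne (by simpa [hnn] using e)) v ⟨i, hi⟩
  rw [h, h2] at h1
  rcases mul_eq_zero.1 h1.symm with h3 | h3
  · exact absurd h3 hci
  · exact h3

/-- a diagonal `x_r(v)` is trivial -/
theorem c0_x_eq_h (D : ChevalleyDatum) (hD : D ∈ Seven) (r : ℕ) (hr : r < D.nroots)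
    (v s : F) (hs : s ≠ 0) (h : D.x F r v = D.hMat F r s) : v = 0 := by
  obtain ⟨hnr, hne, hnn⟩ := neg_lt D hD r hr
  obtain ⟨i, hi, hci⟩ := exists_coroot_ne_zero (F := F) D hD r hr
  rw [hMat_diag D hD r hr s hs] at h
  unfold ChevalleyDatum.x at h
  rw [dif_pos hr] at h
  have h1 := xMat_inl_neg (F := F) D ⟨r, hr⟩ ⟨D.neg r, hnr⟩ rfl
    (fun e => hne (congrArg Fin.val e)) v ⟨i, hi⟩
  rw [h, Matrix.diagonal_apply_ne _ (by simp)] at h1
  rcases mul_eq_zero.1 h1.symm with h3 | h3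
  · exact absurd h3 hci
  · exact h3

/-- **C0** the kernel of a rank-one homomorphism is central. -/
theorem sl2_ker (D : ChevalleyDatum) (hD : D ∈ Seven) (r : ℕ) (hr : r < D.nroots)
    (φ : Matrix.SpecialLinearGroup (Fin 2) F →* GL D.Idx F)
    (h1 : ∀ t, φ (Cfsg.Agent.Lib.Helper5.RankOneHom.uu t) = xGL D hD r t)
    (h2 : ∀ t, φ (Cfsg.Agent.Lib.Helper5.RankOneHom.ll t) = xGL D hD (D.neg r) t)
    (M : Matrix.SpecialLinearGroup (Fin 2) F) (hM : φ M = 1) : M = 1 ∨ M = -1 := by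
  by_cases hc : (M : Matrix (Fin 2) (Fin 2) F) 1 0 = 0
  · -- upper triangular
    obtain ⟨a, b, ha, hdec⟩ : ∃ (a b : F) (ha : a ≠ 0), M = uu (a * b) * dd a ha := by
      obtain ⟨ha, hdec⟩ := decomp_zero M hc
      exact ⟨_, _, ha, hdec⟩
    have hφ : xGL D hD r (a * b) * hGL D hD r a = 1 := by
      rw [← h1, ← Cfsg.Agent.Lib.Helper1.InvolMoves.phi_dd D hD r φ h1 h2 a ha, ← map_mul,
        ← hdec, hM]
    have hh : hGL D hD r a = xGL D hD r (-(a * b)) := by
      rw [← Cfsg.Agent.Lib.Helper1.InvolMoves.xGL_inv_eq D hD r (a * b)]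
      exact eq_inv_of_mul_eq_one_right hφ
    have hab : -(a * b) = 0 := by
      apply c0_x_eq_h D hD r hr (-(a * b)) a ha
      have := congrArg (fun g : GL D.Idx F => (g : Matrix D.Idx D.Idx F)) hh
      simp only [xGL_val, hGL_val] at this
      exact this.symm
    have hb0 : b = 0 := by
      rcases mul_eq_zero.1 (neg_eq_zero.1 hab) with h | h
      · exact absurd h ha
      · exact h
    have huu0 : (uu (0 : F)) = 1 := by
      apply Subtype.ext
      ext i j
      fin_cases i <;> fin_cases j <;> simp [uu]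
    have hMdd : M = dd a ha := by
      rw [hdec, hb0, mul_zero, huu0, one_mul]
    have hconj : dd a ha * uu 1 * (dd a ha)⁻¹ = uu (a * a) := by
      rw [mul_inv_eq_iff_eq_mul]
      apply Subtype.ext
      rw [Matrix.SpecialLinearGroup.coe_mul, Matrix.SpecialLinearGroup.coe_mul]
      ext i j
      fin_cases i <;> fin_cases j <;> simp [uu, dd, Matrix.mul_apply, Fin.sum_univ_two, ha]
    have hx : xGL D hD r (a * a) = xGL D hD r (1 : F) := by
      rw [← h1, ← h1, ← hconj, map_mul, map_mul, map_inv, ← hMdd, hM]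
      simp
    have haa : a * a = 1 := by
      apply Cfsg.Agent.Lib.Helper5.StPres.x_param_inj D hD r hr
      have := congrArg (fun g : GL D.Idx F => (g : Matrix D.Idx D.Idx F)) hx
      simpa only [xGL_val] using this
    have ha1 : a = 1 ∨ a = -1 := mul_self_eq_one_iff.1 haa
    rcases ha1 with h | h
    · left
      rw [hMdd]
      apply Subtype.ext
      ext i j
      fin_cases i <;> fin_cases j <;> simp [dd, h]
    · right
      rw [hMdd]
      apply Subtype.ext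
      ext i j
      fin_cases i <;> fin_cases j <;> simp [dd, h]
  · -- big cell: impossible
    exfalso
    obtain ⟨p, q, s, hs, hdec⟩ : ∃ (p q s : F) (hs : s ≠ 0), M = uu p * dd s hs * nn * uu q :=
      ⟨_, _, _, _, decomp_ne M hc⟩
    have hdec' : M = uu p * (uu s * ll (-s⁻¹) * uu s) * uu q := by
      rw [← dd_mul_nn s hs, hdec]
      group
    have hφ : xGL D hD r p * (xGL D hD r s * xGL D hD (D.neg r) (-s⁻¹) * xGL D hD r s)
        * xGL D hD r q = 1 := by
      rw [← h1, ← h1, ← h1, ← h2, ← map_mul, ← map_mul, ← map_mul, ← map_mul, ← hdec', hM]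
    have hneg : xGL D hD (D.neg r) (-s⁻¹)
        = (xGL D hD r s)⁻¹ * (xGL D hD r p)⁻¹ * (xGL D hD r q)⁻¹ * (xGL D hD r s)⁻¹ := by
      have e : xGL D hD (D.neg r) (-s⁻¹)
          = (xGL D hD r s)⁻¹ * (xGL D hD r p)⁻¹ *
            (xGL D hD r p * (xGL D hD r s * xGL D hD (D.neg r) (-s⁻¹) * xGL D hD r s)
              * xGL D hD r q) * (xGL D hD r q)⁻¹ * (xGL D hD r s)⁻¹ := by group
      rw [e, hφ]
      group
    rw [Cfsg.Agent.Lib.Helper1.InvolMoves.xGL_inv_eq, Cfsg.Agent.Lib.Helper1.InvolMoves.xGL_inv_eq,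
      Cfsg.Agent.Lib.Helper1.InvolMoves.xGL_inv_eq,
      ← Cfsg.Agent.Lib.Helper1.WC.xGL_add', ← Cfsg.Agent.Lib.Helper1.WC.xGL_add',
      ← Cfsg.Agent.Lib.Helper1.WC.xGL_add'] at hneg
    have h0 : -s⁻¹ = 0 := by
      apply c0_neg_eq_pos D hD r hr (-s⁻¹) _
      have := congrArg (fun g : GL D.Idx F => (g : Matrix D.Idx D.Idx F)) hneg
      simpa only [xGL_val] using this
    exact hs (inv_eq_zero.1 (neg_eq_zero.1 h0))

end Cfsg.Agent.Lib.Helper2.ChevAut
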