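import Mathlib
import Cfsg.Prelude.Def_ChevStructure
import Cfsg.Agent.Lib.Helper1.AutDefs
import Cfsg.Agent.Lib.Helper1.InvolMoves
import Cfsg.Agent.Lib.Helper1.WCU3
import Cfsg.Agent.Lib.Helper5.ChevRankOne
import Cfsg.Agent.Lib.Helper5.RankOneHom
import Cfsg.Agent.Lib.Helper5.StPres.NAct
import Cfsg.Agent.Lib.Helper8.AutComm
import Cfsg.Agent.Lib.Helper2.AutC0

set_option autoImplicit false
set_option linter.style.haveILetI false

/-!
S2156 farm, units C1 + C2: the rank-one analysis of an automorphism mapping `X_r → X_{r'}` and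
`X_{-r} → X_{-r'}`.
-/

namespace Cfsg.Agent.Lib.Helper2.ChevAut

open Cfsg Cfsg.Lie Cfsg.Agent.Lib.Helper5.ChevStruct Cfsg.Agent.Lib.Helper5.ChevSym
  Cfsg.Agent.Lib.Helper5.RankOneHom Cfsg.Agent.Lib.Helper1.ChevAut

variable {F : Type*} [Field F]

local notation "SL2" => Matrix.SpecialLinearGroup (Fin 2) F

/-! ### root elements in `G` -/

theorem c12_xG_add (D : ChevalleyDatum) (hD : D ∈ Seven) (r : ℕ) (a b : F) :
    xG D hD r (a + b) = xG D hD r a * xG D hD r b :=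
  Subtype.ext (Cfsg.Agent.Lib.Helper1.WC.xGL_add' D hD r a b)

theorem c12_xG_inj (D : ChevalleyDatum) (hD : D ∈ Seven) (r : ℕ) (hr : r < D.nroots) (a b : F)
    (h : xG D hD r a = xG D hD r b) : a = b := by
  apply Cfsg.Agent.Lib.Helper5.StPres.x_param_inj D hD r hr
  have := congrArg (fun g : ↥(D.group F) => ((g : GL D.Idx F) : Matrix D.Idx D.Idx F)) h
  simpa only [xG_val] using this

theorem c12_xGL_inj (D : ChevalleyDatum) (hD : D ∈ Seven) (r : ℕ) (hr : r < D.nroots) (a b : F)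
    (h : xGL D hD r a = xGL D hD r b) : a = b := by
  apply Cfsg.Agent.Lib.Helper5.StPres.x_param_inj D hD r hr
  have := congrArg (fun g : GL D.Idx F => (g : Matrix D.Idx D.Idx F)) h
  simpa only [xGL_val] using this

/-- the function `φ₀` with `θ(x_r(t)) = x_{r'}(φ₀ t)` -/
theorem c12_exists_fun (D : ChevalleyDatum) (hD : D ∈ Seven) (r r' : ℕ)
    (hr : r < D.nroots) (hr' : r' < D.nroots) (θ : ↥(D.group F) ≃* ↥(D.group F))
    (h1 : Maps D θ (D.rootSubgroup F r) (D.rootSubgroup F r')) :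
    ∃ φ₀ : F → F, (∀ t, θ (xG D hD r t) = xG D hD r' (φ₀ t)) ∧
      (∀ s t, φ₀ (s + t) = φ₀ s + φ₀ t) ∧ Function.Injective φ₀ := by
  have hex : ∀ t : F, ∃ u : F, θ (xG D hD r t) = xG D hD r' u := fun t =>
    Cfsg.Agent.Lib.Helper8.ChevAut.exists_eq_xG D hD r' _
      ((h1 _).2 (Cfsg.Agent.Lib.Helper8.ChevAut.xGL_mem_rootSubgroup D hD r t))
  choose φ₀ hφ using hex
  refine ⟨φ₀, hφ, ?_, ?_⟩
  · intro s t
    apply c12_xG_inj D hD r' hr'
    rw [← hφ, c12_xG_add, map_mul, hφ, hφ, c12_xG_add]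
  · intro s t hst
    apply c12_xG_inj D hD r hr
    apply θ.injective
    rw [hφ, hφ, hst]

/-! ### computations in `SL₂` -/

/-- the element `n(s) = u(s) l(-s⁻¹) u(s)` -/
def c12_nE (D : ChevalleyDatum) (hD : D ∈ Seven) (r : ℕ) (s : F) : GL D.Idx F :=
  xGL D hD r s * xGL D hD (D.neg r) (-s⁻¹) * xGL D hD r s

theorem c12_hGL_eq (D : ChevalleyDatum) (hD : D ∈ Seven) (r : ℕ) (t : F) :
    hGL D hD r t = c12_nE D hD r t * c12_nE D hD r (-1) := by
  unfold hGL ChevalleyDatum.hWord ChevalleyDatum.nWord c12_nE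
  simp [wordGL, mul_assoc]

theorem c12_phi_nE (D : ChevalleyDatum) (hD : D ∈ Seven) (r : ℕ)
    (φ : SL2 →* GL D.Idx F) (h1 : ∀ t, φ (uu t) = xGL D hD r t)
    (h2 : ∀ t, φ (ll t) = xGL D hD (D.neg r) t) (s : F) (hs : s ≠ 0) :
    φ (dd s hs * nn) = c12_nE D hD r s := by
  rw [dd_mul_nn, map_mul, map_mul, h1, h2]
  rfl

theorem c12_dd_nn_mul (a e : F) (ha : a ≠ 0) (he : e ≠ 0) :
    (dd a ha * nn) * (dd e he * nn)
      = dd (-(a / e)) (neg_ne_zero.2 (div_ne_zero ha he)) := by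
  apply Subtype.ext
  simp only [Matrix.SpecialLinearGroup.coe_mul]
  ext i j
  fin_cases i <;> fin_cases j <;>
    simp [dd, nn, Matrix.mul_apply, Fin.sum_univ_two]
  · field_simp
  · field_simp

/-- `n(a) n(e) = h(-a/e)` -/
theorem c12_nE_mul (D : ChevalleyDatum) (hD : D ∈ Seven) (r : ℕ) (hr : r < D.nroots)
    (a e : F) (ha : a ≠ 0) (he : e ≠ 0) :
    c12_nE D hD r a * c12_nE D hD r e = hGL D hD r (-(a / e)) := by
  obtain ⟨-, φ, h1, h2⟩ := exists_sl2_hom (F := F) D hD r hr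
  rw [← c12_phi_nE D hD r φ h1 h2 a ha, ← c12_phi_nE D hD r φ h1 h2 e he, ← map_mul,
    c12_dd_nn_mul a e ha he, Cfsg.Agent.Lib.Helper1.InvolMoves.phi_dd D hD r φ h1 h2]

/-- `h_r(t) x_r(u) h_r(t)⁻¹ = x_r(t² u)` for every root -/
theorem c12_hGL_conj (D : ChevalleyDatum) (hD : D ∈ Seven) (r : ℕ) (hr : r < D.nroots)
    (t u : F) (ht : t ≠ 0) :
    hGL D hD r t * xGL D hD r u * (hGL D hD r t)⁻¹ = xGL D hD r (t ^ 2 * u) := by
  obtain ⟨-, φ, h1, h2⟩ := exists_sl2_hom (F := F) D hD r hr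
  rw [← Cfsg.Agent.Lib.Helper1.InvolMoves.phi_dd D hD r φ h1 h2 t ht, ← h1, ← h1, ← map_inv,
    ← map_mul, ← map_mul]
  congr 1
  rw [mul_inv_eq_iff_eq_mul]
  apply Subtype.ext
  simp only [Matrix.SpecialLinearGroup.coe_mul]
  ext i j
  fin_cases i <;> fin_cases j <;>
    simp [dd, uu, Matrix.mul_apply, Fin.sum_univ_two]
  field_simp

/-- `n(t) x_r(u) n(t)⁻¹ = x_{-r}(-t⁻² u)` -/
theorem c12_nE_conj (D : ChevalleyDatum) (hD : D ∈ Seven) (r : ℕ) (hr : r < D.nroots)
    (t u : F) (ht : t ≠ 0) :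
    c12_nE D hD r t * xGL D hD r u * (c12_nE D hD r t)⁻¹
      = xGL D hD (D.neg r) (-(t⁻¹ ^ 2 * u)) := by
  obtain ⟨-, φ, h1, h2⟩ := exists_sl2_hom (F := F) D hD r hr
  rw [← c12_phi_nE D hD r φ h1 h2 t ht, ← h1, ← h2, ← map_inv, ← map_mul, ← map_mul]
  congr 1
  rw [mul_inv_eq_iff_eq_mul]
  apply Subtype.ext
  simp only [Matrix.SpecialLinearGroup.coe_mul]
  ext i j
  fin_cases i <;> fin_cases j <;>
    simp [dd, uu, ll, nn, Matrix.mul_apply, Fin.sum_univ_two]
  field_simp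

/-- the key rank-one relation: if `u(a) l(b) u(a)` conjugates `x_{r'}(u)` into `X_{-r'}` then
`a b = -1` -/
theorem c12_key (D : ChevalleyDatum) (hD : D ∈ Seven) (r' : ℕ) (hr' : r' < D.nroots)
    (a b s u : F) (hu : u ≠ 0)
    (h : (xGL D hD r' a * xGL D hD (D.neg r') b * xGL D hD r' a) * xGL D hD r' u
        * (xGL D hD r' a * xGL D hD (D.neg r') b * xGL D hD r' a)⁻¹
          = xGL D hD (D.neg r') s) :
    a * b = -1 := by
  obtain ⟨-, φ, h1, h2⟩ := exists_sl2_hom (F := F) D hD r' hr'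
  set M : SL2 := uu a * ll b * uu a with hM
  have hφK : φ (M * uu u * M⁻¹ * (ll s)⁻¹) = 1 := by
    rw [map_mul, map_inv, h2, mul_inv_eq_one, map_mul, map_mul, map_inv, hM, map_mul, map_mul,
      h1, h1, h2]
    exact h
  have hp : (1 + a * b) * u = 0 ∨ ((1 + a * b) ^ 2) * u = 0 := by
    rcases sl2_ker D hD r' hr' φ h1 h2 _ hφK with hK | hK
    · left
      rw [mul_inv_eq_one, mul_inv_eq_iff_eq_mul] at hK
      have e := congrArg (fun X : SL2 => (X : Matrix (Fin 2) (Fin 2) F)) hK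
      simp only [hM, Matrix.SpecialLinearGroup.coe_mul] at e
      have e01 := congrFun (congrFun e 0) 1
      simp [uu, ll, Matrix.mul_apply, Fin.sum_univ_two] at e01
      rcases e01 with h | h
      · rw [h, zero_mul]
      · rw [h, mul_zero]
    · right
      rw [mul_inv_eq_iff_eq_mul, mul_inv_eq_iff_eq_mul] at hK
      have e := congrArg (fun X : SL2 => (X : Matrix (Fin 2) (Fin 2) F)) hK
      simp only [hM, Matrix.SpecialLinearGroup.coe_mul, Matrix.SpecialLinearGroup.coe_neg,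
        Matrix.SpecialLinearGroup.coe_one] at e
      have e00 := congrFun (congrFun e 0) 0
      have e01 := congrFun (congrFun e 0) 1
      simp [uu, ll, Matrix.mul_apply, Fin.sum_univ_two] at e00 e01
      linear_combination (1 + a * b) * e01 - ((1 + a * b) * a + a) * e00
  have hp0 : 1 + a * b = 0 := by
    rcases hp with h | h
    · rcases mul_eq_zero.1 h with h | h
      · exact h
      · exact absurd h hu
    · rcases mul_eq_zero.1 h with h | h
      · exact pow_eq_zero_iff (two_ne_zero) |>.1 h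
      · exact absurd h hu
  linear_combination hp0

/-- an additive map of a finite field with `σ 1 = 1` and `σ(t² u) = σ(t)² σ(u)` is
multiplicative -/
theorem c12_mul_of_sq [Finite F] (σ : F → F) (hadd : ∀ s t, σ (s + t) = σ s + σ t)
    (hone : σ 1 = 1) (hsq : ∀ t u, σ (t ^ 2 * u) = (σ t) ^ 2 * σ u) :
    ∀ s u, σ (s * u) = σ s * σ u := by
  have hzero : σ 0 = 0 := by
    have := hadd 0 0
    rw [add_zero] at this
    linear_combination -this
  have hneg : ∀ x, σ (-x) = -σ x := by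
    intro x
    have := hadd x (-x)
    rw [add_neg_cancel, hzero] at this
    linear_combination -this
  have hsub : ∀ x y, σ (x - y) = σ x - σ y := by
    intro x y
    rw [sub_eq_add_neg, hadd, hneg]
    ring
  have hsq1 : ∀ t, σ (t ^ 2) = (σ t) ^ 2 := by
    intro t
    have := hsq t 1
    rwa [mul_one, hone, mul_one] at this
  have hsqmul : ∀ t u, σ (t ^ 2 * u) = σ (t ^ 2) * σ u := by
    intro t u
    rw [hsq, hsq1]
  intro s u
  by_cases h2 : (2 : F) = 0
  · have hinj : Function.Injective (fun x : F => x ^ 2) := by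
      intro x y hxy
      have hxy' : x ^ 2 = y ^ 2 := hxy
      have : (x - y) ^ 2 = 0 := by
        linear_combination hxy' + (y ^ 2 - x * y) * h2
      exact sub_eq_zero.1 ((pow_eq_zero_iff two_ne_zero).1 this)
    obtain ⟨t, rfl⟩ := (Finite.injective_iff_surjective.1 hinj) s
    exact hsqmul t u
  · have hs : s = ((s + 1) / 2) ^ 2 - ((s - 1) / 2) ^ 2 := by
      field_simp
      ring
    rw [hs, sub_mul, hsub, hsqmul, hsqmul, hsub]
    ring

/-- **C1+C2** rank one: `θ(x_r(t)) = x_{r'}(c σ t)`, `θ(x_{-r}(t)) = x_{-r'}(c⁻¹ σ t)`,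
`θ(h_r(t)) = h_{r'}(σ t)`. -/
theorem rank_one_form [Finite F] (D : ChevalleyDatum) (hD : D ∈ Seven) (r r' : ℕ)
    (hr : r < D.nroots) (hr' : r' < D.nroots) (θ : ↥(D.group F) ≃* ↥(D.group F))
    (h1 : Maps D θ (D.rootSubgroup F r) (D.rootSubgroup F r'))
    (h2 : Maps D θ (D.rootSubgroup F (D.neg r)) (D.rootSubgroup F (D.neg r'))) :
    ∃ (c : Fˣ) (σ : F ≃+* F),
      (∀ t, θ (xG D hD r t) = xG D hD r' ((c : F) * σ t)) ∧
      (∀ t, θ (xG D hD (D.neg r) t) = xG D hD (D.neg r') (((c⁻¹ : Fˣ) : F) * σ t)) ∧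
      (∀ t, t ≠ 0 → ∀ g : ↥(D.group F), (g : GL D.Idx F) = hGL D hD r t →
        (θ g : GL D.Idx F) = hGL D hD r' (σ t)) := by
  obtain ⟨φ₀, hφ, hφadd, hφinj⟩ := c12_exists_fun D hD r r' hr hr' θ h1
  have hnr := (neg_lt D hD r hr).1
  have hnr' := (neg_lt D hD r' hr').1
  obtain ⟨ψ₀, hψ, hψadd, hψinj⟩ := c12_exists_fun D hD (D.neg r) (D.neg r') hnr hnr' θ h2
  have hφ0 : φ₀ 0 = 0 := by
    have := hφadd 0 0
    rw [add_zero] at this
    linear_combination -this
  have hψ0 : ψ₀ 0 = 0 := by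
    have := hψadd 0 0
    rw [add_zero] at this
    linear_combination -this
  have hφne : ∀ t, t ≠ 0 → φ₀ t ≠ 0 := fun t ht h0 => ht (hφinj (h0.trans hφ0.symm))
  obtain ⟨c, hcdef⟩ : ∃ c, c = φ₀ 1 := ⟨_, rfl⟩
  have hc : c ≠ 0 := by
    rw [hcdef]
    exact hφne 1 one_ne_zero
  have hφneg1 : φ₀ (-1) = -c := by
    have := hφadd (-1) 1
    rw [neg_add_cancel, hφ0, ← hcdef] at this
    linear_combination -this
  -- the key relation
  have hkey : ∀ t, t ≠ 0 → φ₀ t * ψ₀ (-t⁻¹) = -1 := by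
    intro t ht
    have hrelG : (xG D hD r t * xG D hD (D.neg r) (-t⁻¹) * xG D hD r t) * xG D hD r 1
        * (xG D hD r t * xG D hD (D.neg r) (-t⁻¹) * xG D hD r t)⁻¹
          = xG D hD (D.neg r) (-(t⁻¹ ^ 2 * 1)) :=
      Subtype.ext (c12_nE_conj D hD r hr t 1 ht)
    have hθ := congrArg θ hrelG
    rw [map_mul, map_mul, map_inv, map_mul, map_mul, hφ, hψ, hφ, hψ] at hθ
    have h' := congrArg (fun g : ↥(D.group F) => (g : GL D.Idx F)) hθ
    simp only [Subgroup.coe_mul, Subgroup.coe_inv, xG_coe] at h'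
    rw [← hcdef] at h'
    exact c12_key D hD r' hr' _ _ _ c hc h'
  have hψform : ∀ t, t ≠ 0 → ψ₀ (-t⁻¹) = -(φ₀ t)⁻¹ := by
    intro t ht
    have h := hkey t ht
    have ha := hφne t ht
    have : ψ₀ (-t⁻¹) = -1 / φ₀ t := by
      rw [eq_div_iff ha]
      linear_combination h
    rw [this, neg_div, one_div]
  -- the `h`-elements
  have hH : ∀ t, t ≠ 0 → ∀ g : ↥(D.group F), (g : GL D.Idx F) = hGL D hD r t →
      (θ g : GL D.Idx F) = hGL D hD r' (φ₀ t / c) := by
    intro t ht g hg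
    have hgG : g = (xG D hD r t * xG D hD (D.neg r) (-t⁻¹) * xG D hD r t)
        * (xG D hD r (-1) * xG D hD (D.neg r) (-(-1 : F)⁻¹) * xG D hD r (-1)) := by
      apply Subtype.ext
      rw [hg, c12_hGL_eq]
      rfl
    rw [hgG, map_mul, map_mul, map_mul, map_mul, map_mul, hφ, hψ, hφ, hψ]
    simp only [Subgroup.coe_mul, xG_coe]
    rw [hψform t ht, hψform (-1) (by norm_num)]
    have hmul := c12_nE_mul D hD r' hr' (φ₀ t) (φ₀ (-1)) (hφne t ht) (hφne (-1) (by norm_num))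
    unfold c12_nE at hmul
    rw [hmul, hφneg1]
    congr 1
    field_simp
  -- the field automorphism
  have hσadd : ∀ s t, φ₀ (s + t) / c = φ₀ s / c + φ₀ t / c := by
    intro s t
    rw [hφadd, add_div]
  have hσone : φ₀ 1 / c = 1 := by
    rw [← hcdef, div_self hc]
  have hσsq : ∀ t u, φ₀ (t ^ 2 * u) / c = (φ₀ t / c) ^ 2 * (φ₀ u / c) := by
    intro t u
    by_cases ht : t = 0
    · subst ht
      rw [zero_pow two_ne_zero, zero_mul, hφ0, zero_div, zero_pow two_ne_zero, zero_mul]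
    · have hσt : φ₀ t / c ≠ 0 := div_ne_zero (hφne t ht) hc
      set gh : ↥(D.group F) := ⟨hGL D hD r t, wordGL_mem_group D hD _⟩ with hgh
      have hrelG : gh * xG D hD r u * gh⁻¹ = xG D hD r (t ^ 2 * u) :=
        Subtype.ext (c12_hGL_conj D hD r hr t u ht)
      have hθ := congrArg θ hrelG
      rw [map_mul, map_mul, map_inv, hφ, hφ] at hθ
      have h' := congrArg (fun g : ↥(D.group F) => (g : GL D.Idx F)) hθ
      simp only [Subgroup.coe_mul, Subgroup.coe_inv, xG_coe] at h'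
      rw [hH t ht gh rfl, c12_hGL_conj D hD r' hr' _ _ hσt] at h'
      have := c12_xGL_inj D hD r' hr' _ _ h'
      rw [← this]
      field_simp
  have hσmul := c12_mul_of_sq (fun t => φ₀ t / c) hσadd hσone hσsq
  have hσinj : Function.Injective (fun t => φ₀ t / c) := by
    intro s t hst
    apply hφinj
    have hst' : φ₀ s / c = φ₀ t / c := hst
    field_simp at hst'
    exact hst'
  have hσbij : Function.Bijective (fun t => φ₀ t / c) :=
    ⟨hσinj, Finite.injective_iff_surjective.1 hσinj⟩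
  set σh : F →+* F :=
    { toFun := fun t => φ₀ t / c
      map_one' := hσone
      map_mul' := hσmul
      map_zero' := by rw [hφ0, zero_div]
      map_add' := hσadd } with hσh
  set σ : F ≃+* F := RingEquiv.ofBijective σh hσbij with hσ
  have hσapp : ∀ t, σ t = φ₀ t / c := fun t => rfl
  refine ⟨Units.mk0 c hc, σ, ?_, ?_, ?_⟩
  · intro t
    rw [hφ, hσapp, Units.val_mk0, mul_div_cancel₀ _ hc]
  · intro t
    rw [hψ]
    congr 1
    rw [Units.val_inv_eq_inv_val, Units.val_mk0]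
    by_cases ht : t = 0
    · subst ht
      rw [hψ0, map_zero, mul_zero]
    · have hs : -t⁻¹ ≠ 0 := neg_ne_zero.2 (inv_ne_zero ht)
      have hts : -(-t⁻¹)⁻¹ = t := by
        field_simp
      have e := hψform (-t⁻¹) hs
      rw [hts] at e
      have e2 : φ₀ (-t⁻¹) = c * σ (-t⁻¹) := by
        rw [hσapp, mul_div_cancel₀ _ hc]
      have hσt : σ t ≠ 0 := fun h0 => ht ((map_eq_zero σ).1 h0)
      rw [e, e2, map_neg, map_inv₀]
      field_simp
  · intro t ht g hg
    rw [hσapp]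
    exact hH t ht g hg

end Cfsg.Agent.Lib.Helper2.ChevAut
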