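import Mathlib
import Cfsg.Prelude.Def_ChevAutomorphisms
import Cfsg.Prelude.Def_LieChev
import Cfsg.Prelude.Def_ChevB2
import Cfsg.Prelude.Def_ChevD4
import Cfsg.Agent.Lib.Helper5.ChevXGL

set_option autoImplicit false
set_option linter.style.haveILetI false

/-!
S2156 farm, unit C4: the field automorphisms attached to the fundamental roots all come from a
single one, up to the exponents of a graph automorphism.
-/

namespace Cfsg.Agent.Lib.Helper2.ChevAut

open Cfsg Cfsg.Lie Cfsg.Agent.Lib.Helper5.ChevStruct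

variable {F : Type*} [Field F]

/-- the basic consequence of one rank-two relation -/
theorem c4_pow (D : ChevalleyDatum) (π : Equiv.Perm (Fin D.rank)) (σ : Fin D.rank → (F ≃+* F))
    (hrel : ∀ i k : Fin D.rank, ∀ t : F, t ≠ 0 →
      (σ i t) ^ (D.cartan (π i) (D.simple (π k))) = (σ k t) ^ (D.cartan i (D.simple k)))
    (i k : Fin D.rank) (m : ℕ) (hm : 0 < m)
    (h1 : D.cartan (π i) (D.simple (π k)) = -1) (h2 : D.cartan i (D.simple k) = -(m : ℤ)) :
    ∀ t, σ i t = (σ k t) ^ m := by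
  intro t
  by_cases ht : t = 0
  · subst ht
    rw [map_zero, map_zero, zero_pow hm.ne']
  · have h := hrel i k t ht
    rw [h1, h2, zpow_neg, zpow_neg, zpow_one, zpow_natCast] at h
    exact inv_injective h

theorem c4_eq (D : ChevalleyDatum) (π : Equiv.Perm (Fin D.rank)) (σ : Fin D.rank → (F ≃+* F))
    (hrel : ∀ i k : Fin D.rank, ∀ t : F, t ≠ 0 →
      (σ i t) ^ (D.cartan (π i) (D.simple (π k))) = (σ k t) ^ (D.cartan i (D.simple k)))
    (i k : Fin D.rank)
    (h1 : D.cartan (π i) (D.simple (π k)) = -1) (h2 : D.cartan i (D.simple k) = -1) :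
    ∀ t, σ i t = σ k t := by
  intro t
  have := c4_pow D π σ hrel i k 1 Nat.one_pos h1 (by rw [h2]; rfl) t
  rwa [pow_one] at this

theorem c4_pow' (D : ChevalleyDatum) (π : Equiv.Perm (Fin D.rank)) (σ : Fin D.rank → (F ≃+* F))
    (hrel : ∀ i k : Fin D.rank, ∀ t : F, t ≠ 0 →
      (σ i t) ^ (D.cartan (π i) (D.simple (π k))) = (σ k t) ^ (D.cartan i (D.simple k)))
    (i k : Fin D.rank) (m : ℕ) (hm : 0 < m) (a b : ℕ) (ha : ((π i : Fin D.rank) : ℕ) = a)
    (hb : ((π k : Fin D.rank) : ℕ) = b)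
    (h1 : D.cartan a (D.simple b) = -1) (h2 : D.cartan i (D.simple k) = -(m : ℤ)) :
    ∀ t, σ i t = (σ k t) ^ m :=
  c4_pow D π σ hrel i k m hm (by rw [ha, hb]; exact h1) h2

theorem c4_eq' (D : ChevalleyDatum) (π : Equiv.Perm (Fin D.rank)) (σ : Fin D.rank → (F ≃+* F))
    (hrel : ∀ i k : Fin D.rank, ∀ t : F, t ≠ 0 →
      (σ i t) ^ (D.cartan (π i) (D.simple (π k))) = (σ k t) ^ (D.cartan i (D.simple k)))
    (i k : Fin D.rank) (a b : ℕ) (ha : ((π i : Fin D.rank) : ℕ) = a)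
    (hb : ((π k : Fin D.rank) : ℕ) = b)
    (h1 : D.cartan a (D.simple b) = -1) (h2 : D.cartan i (D.simple k) = -1) :
    ∀ t, σ i t = σ k t :=
  c4_eq D π σ hrel i k (by rw [ha, hb]; exact h1) h2

/-- squaring additive: characteristic two -/
theorem c4_char_two (f g : F ≃+* F) (h : ∀ t, f t = (g t) ^ 2) :
    ∀ t, f t = (g t) ^ (ringChar F) := by
  have h2 : (2 : F) = 0 := by
    have e := h (g.symm (1 + 1))
    rw [RingEquiv.apply_symm_apply, map_add, map_one, map_add, map_one] at e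
    linear_combination -e
  have hd : ringChar F ∣ 2 := ringChar.dvd (by exact_mod_cast h2)
  rcases (Nat.dvd_prime Nat.prime_two).1 hd with h1 | h1
  · exact absurd h1 CharP.ringChar_ne_one
  · rw [h1]
    exact h

/-- cubing additive: characteristic three, or every element is idempotent -/
theorem c4_char_three (f g : F ≃+* F) (h : ∀ t, f t = (g t) ^ 3) :
    ∀ t, f t = (g t) ^ (ringChar F) := by
  have hadd : ∀ s : F, (s + 1) ^ 3 = s ^ 3 + 1 := by
    intro s
    have e := h (g.symm (s + 1))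
    have e' := h (g.symm s)
    rw [RingEquiv.apply_symm_apply] at e e'
    rw [map_add, map_one, map_add, map_one, e'] at e
    exact e.symm
  have h6 : ((6 : ℕ) : F) = 0 := by
    have e := hadd 1
    push_cast
    linear_combination e
  have hd : ringChar F ∣ 6 := ringChar.dvd h6
  obtain ⟨p, hp⟩ : ∃ p, ringChar F = p := ⟨_, rfl⟩
  have hcp : CharP F p := hp ▸ ringChar.charP F
  rw [hp] at hd ⊢
  have hle : p ≤ 6 := Nat.le_of_dvd (by norm_num) hd
  have hprime := CharP.char_is_prime_or_zero F p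
  interval_cases p
  · norm_num at hd
  · exact absurd hp CharP.ringChar_ne_one
  · -- characteristic two
    have h2 : (2 : F) = 0 := by
      have := CharP.cast_eq_zero F 2
      exact_mod_cast this
    intro t
    rw [h t]
    have e := hadd (g t)
    have hsq : (g t) ^ 2 = g t := by
      linear_combination e - ((g t) ^ 2 + 2 * g t) * h2
    calc (g t) ^ 3 = (g t) ^ 2 * g t := by ring
      _ = g t * g t := by rw [hsq]
      _ = (g t) ^ 2 := by ring
  · exact h
  · norm_num at hd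
  · norm_num at hd
  · rcases hprime with h' | h'
    · norm_num at h'
    · norm_num at h'

theorem c4_graphExp_short (D : ChevalleyDatum) (c i j : ℕ)
    (h : D.isLong (D.simple j) = false) : D.graphExp c i j = 1 := by
  unfold ChevalleyDatum.graphExp
  rw [h, Bool.false_and]
  rfl

theorem c4_graphExp_self (D : ChevalleyDatum) (c i : ℕ) : D.graphExp c i i = 1 := by
  unfold ChevalleyDatum.graphExp
  cases D.isLong (D.simple i) <;> rfl

theorem c4_graphExp_long (D : ChevalleyDatum) (c i j : ℕ)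
    (hj : D.isLong (D.simple j) = true) (hi : D.isLong (D.simple i) = false) :
    D.graphExp c i j = c := by
  unfold ChevalleyDatum.graphExp
  rw [hj, hi]
  rfl

/-- the types with one root length -/
theorem c4_simply (D : ChevalleyDatum)
    (π : Equiv.Perm (Fin D.rank)) (hπ : D.IsDiagramSymmetry π) (σ : Fin D.rank → (F ≃+* F))
    (hrel : ∀ i k : Fin D.rank, ∀ t : F, t ≠ 0 →
      (σ i t) ^ (D.cartan (π i) (D.simple (π k))) = (σ k t) ^ (D.cartan i (D.simple k)))
    (hshort : ∀ i : Fin D.rank, D.isLong (D.simple i) = false)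
    (htab : ∀ i k : Fin D.rank, i ≠ k → D.bonds i k = 1 → D.cartan i (D.simple k) = -1)
    (root : Fin D.rank) (par : Fin D.rank → Fin D.rank) (dep : Fin D.rank → ℕ)
    (hpar : ∀ i, i = root ∨ (i ≠ par i ∧ D.bonds i (par i) = 1 ∧ dep (par i) < dep i)) :
    ∃ τ : F ≃+* F, ∀ (i : Fin D.rank) (t : F),
      σ i t = (τ t) ^ (D.graphExp (ringChar F) i (π i)) := by
  have key : ∀ n : ℕ, ∀ i : Fin D.rank, dep i ≤ n → ∀ t, σ i t = σ root t := by
    intro n
    induction n with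
    | zero =>
      intro i hi t
      rcases hpar i with h | ⟨-, -, h⟩
      · rw [h]
      · omega
    | succ n ih =>
      intro i hi t
      rcases hpar i with h | ⟨hne, hb, hlt⟩
      · rw [h]
      · have h2 := htab i (par i) hne hb
        have hne' : π i ≠ π (par i) := fun e => hne (π.injective e)
        have hb' : D.bonds (π i) (π (par i)) = 1 := by rw [hπ i (par i) hne, hb]
        have h1 := htab (π i) (π (par i)) hne' hb'
        rw [c4_eq D π σ hrel i (par i) h1 h2 t]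
        exact ih (par i) (by omega) t
  refine ⟨σ root, fun i t => ?_⟩
  rw [c4_graphExp_short D _ _ _ (hshort (π i)), pow_one]
  exact key (dep i) i le_rfl t

/-- the types of rank two with two root lengths -/
theorem c4_rank2 (D : ChevalleyDatum) (i0 i1 : Fin D.rank) (hne : i0 ≠ i1)
    (hcov : ∀ i : Fin D.rank, i = i0 ∨ i = i1) (m : ℕ) (hm : m = 2 ∨ m = 3)
    (h01 : D.cartan i0 (D.simple i1) = -(m : ℤ)) (h10 : D.cartan i1 (D.simple i0) = -1)
    (hl0 : D.isLong (D.simple i0) = false) (hl1 : D.isLong (D.simple i1) = true)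
    (π : Equiv.Perm (Fin D.rank)) (σ : Fin D.rank → (F ≃+* F))
    (hrel : ∀ i k : Fin D.rank, ∀ t : F, t ≠ 0 →
      (σ i t) ^ (D.cartan (π i) (D.simple (π k))) = (σ k t) ^ (D.cartan i (D.simple k))) :
    ∃ τ : F ≃+* F, ∀ (i : Fin D.rank) (t : F),
      σ i t = (τ t) ^ (D.graphExp (ringChar F) i (π i)) := by
  refine ⟨σ i1, ?_⟩
  rcases hcov (π i0) with h0 | h0
  · have h1 : π i1 = i1 := by
      rcases hcov (π i1) with h | h
      · exact absurd (π.injective (h.trans h0.symm)) hne.symm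
      · exact h
    have e := c4_eq D π σ hrel i1 i0 (by rw [h1, h0]; exact h10) h10
    intro i t
    rcases hcov i with rfl | rfl
    · rw [h0, c4_graphExp_self, pow_one, e t]
    · rw [h1, c4_graphExp_self, pow_one]
  · have h1 : π i1 = i0 := by
      rcases hcov (π i1) with h | h
      · exact h
      · exact absurd (π.injective (h.trans h0.symm)) hne.symm
    have e := c4_pow D π σ hrel i0 i1 m (by rcases hm with rfl | rfl <;> norm_num)
      (by rw [h1, h0]; exact h10) h01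
    have e' : ∀ t, σ i0 t = (σ i1 t) ^ (ringChar F) := by
      rcases hm with rfl | rfl
      · exact c4_char_two _ _ e
      · exact c4_char_three _ _ e
    intro i t
    rcases hcov i with rfl | rfl
    · rw [h0, c4_graphExp_long D _ _ _ hl1 hl0]
      exact e' t
    · rw [h1, c4_graphExp_short D _ _ _ hl0, pow_one]

/-- the symmetries of the diagram of type `F₄` -/
theorem c4_F4_sym : ∀ a b c d : Fin 4, a ≠ b → a ≠ c → a ≠ d → b ≠ c → b ≠ d → c ≠ d →
    chevF4.bonds a b = chevF4.bonds 0 1 → chevF4.bonds b c = chevF4.bonds 1 2 →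
    chevF4.bonds c d = chevF4.bonds 2 3 →
    (a = 0 ∧ b = 1 ∧ c = 2 ∧ d = 3) ∨ (a = 3 ∧ b = 2 ∧ c = 1 ∧ d = 0) := by
  decide

/-- type `F₄` -/
theorem c4_F4 (π : Equiv.Perm (Fin 4))
    (hπ : ∀ i j : Fin 4, i ≠ j → chevF4.bonds (π i) (π j) = chevF4.bonds i j)
    (σ : Fin 4 → (F ≃+* F))
    (hrel : ∀ i k : Fin 4, ∀ t : F, t ≠ 0 →
      (σ i t) ^ (chevF4.cartan (π i) (chevF4.simple (π k)))
        = (σ k t) ^ (chevF4.cartan i (chevF4.simple k))) :
    ∃ τ : F ≃+* F, ∀ (i : Fin 4) (t : F),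
      σ i t = (τ t) ^ (chevF4.graphExp (ringChar F) i (π i)) := by
  have hinj := π.injective
  have hcl := c4_F4_sym (π 0) (π 1) (π 2) (π 3)
    (fun e => absurd (hinj e) (by decide)) (fun e => absurd (hinj e) (by decide))
    (fun e => absurd (hinj e) (by decide)) (fun e => absurd (hinj e) (by decide))
    (fun e => absurd (hinj e) (by decide)) (fun e => absurd (hinj e) (by decide))
    (hπ 0 1 (by decide)) (hπ 1 2 (by decide)) (hπ 2 3 (by decide))
  refine ⟨σ 2, ?_⟩
  rcases hcl with ⟨h0, h1, h2, h3⟩ | ⟨h0, h1, h2, h3⟩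
  · have e01 := c4_eq' (D := chevF4) π σ hrel (0 : Fin 4) (1 : Fin 4) _ _
      (congrArg Fin.val h0) (congrArg Fin.val h1) (by decide) (by decide)
    have e21 := c4_eq' (D := chevF4) π σ hrel (2 : Fin 4) (1 : Fin 4) _ _
      (congrArg Fin.val h2) (congrArg Fin.val h1) (by decide) (by decide)
    have e32 := c4_eq' (D := chevF4) π σ hrel (3 : Fin 4) (2 : Fin 4) _ _
      (congrArg Fin.val h3) (congrArg Fin.val h2) (by decide) (by decide)
    intro i t
    fin_cases i
    · show σ 0 t = (σ 2 t) ^ (chevF4.graphExp (ringChar F) (0 : Fin 4) (π 0))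
      rw [h0, c4_graphExp_self, pow_one, e01 t, e21 t]
    · show σ 1 t = (σ 2 t) ^ (chevF4.graphExp (ringChar F) (1 : Fin 4) (π 1))
      rw [h1, c4_graphExp_self, pow_one, e21 t]
    · show σ 2 t = (σ 2 t) ^ (chevF4.graphExp (ringChar F) (2 : Fin 4) (π 2))
      rw [h2, c4_graphExp_self, pow_one]
    · show σ 3 t = (σ 2 t) ^ (chevF4.graphExp (ringChar F) (3 : Fin 4) (π 3))
      rw [h3, c4_graphExp_self, pow_one, e32 t]
  · have e01 := c4_eq' (D := chevF4) π σ hrel (0 : Fin 4) (1 : Fin 4) _ _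
      (congrArg Fin.val h0) (congrArg Fin.val h1) (by decide) (by decide)
    have e32 := c4_eq' (D := chevF4) π σ hrel (3 : Fin 4) (2 : Fin 4) _ _
      (congrArg Fin.val h3) (congrArg Fin.val h2) (by decide) (by decide)
    have e12 := c4_pow' (D := chevF4) π σ hrel (1 : Fin 4) (2 : Fin 4) 2 (by norm_num) _ _
      (congrArg Fin.val h1) (congrArg Fin.val h2) (by decide) (by decide)
    have e12' := c4_char_two _ _ e12
    intro i t
    fin_cases i
    · show σ 0 t = (σ 2 t) ^ (chevF4.graphExp (ringChar F) (0 : Fin 4) (π 0))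
      rw [h0, c4_graphExp_long chevF4 _ _ _ (by decide) (by decide), e01 t, e12' t]
    · show σ 1 t = (σ 2 t) ^ (chevF4.graphExp (ringChar F) (1 : Fin 4) (π 1))
      rw [h1, c4_graphExp_long chevF4 _ _ _ (by decide) (by decide), e12' t]
    · show σ 2 t = (σ 2 t) ^ (chevF4.graphExp (ringChar F) (2 : Fin 4) (π 2))
      rw [h2, c4_graphExp_short chevF4 _ _ _ (by decide), pow_one]
    · show σ 3 t = (σ 2 t) ^ (chevF4.graphExp (ringChar F) (3 : Fin 4) (π 3))
      rw [h3, c4_graphExp_short chevF4 _ _ _ (by decide), pow_one, e32 t]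

theorem c4_short_D4 : ∀ i : Fin 4, chevD4.isLong (chevD4.simple i) = false := by decide +kernel
theorem c4_short_E6 : ∀ i : Fin 6, chevE6.isLong (chevE6.simple i) = false := by decide +kernel
theorem c4_short_E7 : ∀ i : Fin 7, chevE7.isLong (chevE7.simple i) = false := by decide +kernel
theorem c4_short_E8 : ∀ i : Fin 8, chevE8.isLong (chevE8.simple i) = false := by decide +kernel

theorem c4_tab_D4 : ∀ i k : Fin 4, i ≠ k → chevD4.bonds i k = 1 →
    chevD4.cartan i (chevD4.simple k) = -1 := by decide +kernel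
theorem c4_tab_E6 : ∀ i k : Fin 6, i ≠ k → chevE6.bonds i k = 1 →
    chevE6.cartan i (chevE6.simple k) = -1 := by decide +kernel
theorem c4_tab_E7 : ∀ i k : Fin 7, i ≠ k → chevE7.bonds i k = 1 →
    chevE7.cartan i (chevE7.simple k) = -1 := by decide +kernel
theorem c4_tab_E8 : ∀ i k : Fin 8, i ≠ k → chevE8.bonds i k = 1 →
    chevE8.cartan i (chevE8.simple k) = -1 := by decide +kernel

theorem c4_par_D4 : ∀ i : Fin 4, i = 1 ∨ (i ≠ (![1, 1, 1, 1] : Fin 4 → Fin 4) i ∧
    chevD4.bonds i ((![1, 1, 1, 1] : Fin 4 → Fin 4) i) = 1 ∧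
    (![1, 0, 1, 1] : Fin 4 → ℕ) ((![1, 1, 1, 1] : Fin 4 → Fin 4) i)
      < (![1, 0, 1, 1] : Fin 4 → ℕ) i) := by decide +kernel
theorem c4_par_E6 : ∀ i : Fin 6, i = 3 ∨ (i ≠ (![2, 3, 3, 3, 3, 4] : Fin 6 → Fin 6) i ∧
    chevE6.bonds i ((![2, 3, 3, 3, 3, 4] : Fin 6 → Fin 6) i) = 1 ∧
    (![2, 1, 1, 0, 1, 2] : Fin 6 → ℕ) ((![2, 3, 3, 3, 3, 4] : Fin 6 → Fin 6) i)
      < (![2, 1, 1, 0, 1, 2] : Fin 6 → ℕ) i) := by decide +kernel
theorem c4_par_E7 : ∀ i : Fin 7, i = 3 ∨ (i ≠ (![2, 3, 3, 3, 3, 4, 5] : Fin 7 → Fin 7) i ∧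
    chevE7.bonds i ((![2, 3, 3, 3, 3, 4, 5] : Fin 7 → Fin 7) i) = 1 ∧
    (![2, 1, 1, 0, 1, 2, 3] : Fin 7 → ℕ) ((![2, 3, 3, 3, 3, 4, 5] : Fin 7 → Fin 7) i)
      < (![2, 1, 1, 0, 1, 2, 3] : Fin 7 → ℕ) i) := by decide +kernel
theorem c4_par_E8 : ∀ i : Fin 8, i = 3 ∨ (i ≠ (![2, 3, 3, 3, 3, 4, 5, 6] : Fin 8 → Fin 8) i ∧
    chevE8.bonds i ((![2, 3, 3, 3, 3, 4, 5, 6] : Fin 8 → Fin 8) i) = 1 ∧
    (![2, 1, 1, 0, 1, 2, 3, 4] : Fin 8 → ℕ) ((![2, 3, 3, 3, 3, 4, 5, 6] : Fin 8 → Fin 8) i)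
      < (![2, 1, 1, 0, 1, 2, 3, 4] : Fin 8 → ℕ) i) := by decide +kernel

theorem c4_ne2 : (0 : Fin 2) ≠ 1 := by decide
theorem c4_cov2 : ∀ i : Fin 2, i = 0 ∨ i = 1 := by decide
theorem c4_G2_facts : chevG2.cartan (0 : Fin 2) (chevG2.simple (1 : Fin 2)) = -((3 : ℕ) : ℤ) ∧
    chevG2.cartan (1 : Fin 2) (chevG2.simple (0 : Fin 2)) = -1 ∧
    chevG2.isLong (chevG2.simple (0 : Fin 2)) = false ∧
    chevG2.isLong (chevG2.simple (1 : Fin 2)) = true := by decide
theorem c4_B2_facts : chevB2.cartan (0 : Fin 2) (chevB2.simple (1 : Fin 2)) = -((2 : ℕ) : ℤ) ∧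
    chevB2.cartan (1 : Fin 2) (chevB2.simple (0 : Fin 2)) = -1 ∧
    chevB2.isLong (chevB2.simple (0 : Fin 2)) = false ∧
    chevB2.isLong (chevB2.simple (1 : Fin 2)) = true := by decide

/-- **C4** all the `σ_i` come from one field automorphism `τ`, up to the exponents of a graph
automorphism. -/
theorem exists_common_sigma [Finite F] (D : ChevalleyDatum) (hD : D ∈ Seven)
    (π : Equiv.Perm (Fin D.rank)) (hπ : D.IsDiagramSymmetry π) (σ : Fin D.rank → (F ≃+* F))
    (hrel : ∀ i k : Fin D.rank, ∀ t : F, t ≠ 0 →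
      (σ i t) ^ (D.cartan (π i) (D.simple (π k))) = (σ k t) ^ (D.cartan i (D.simple k))) :
    ∃ τ : F ≃+* F, ∀ (i : Fin D.rank) (t : F),
      σ i t = (τ t) ^ (D.graphExp (ringChar F) i (π i)) := by
  simp only [Seven, List.mem_cons, List.not_mem_nil, or_false] at hD
  rcases hD with rfl | rfl | rfl | rfl | rfl | rfl | rfl
  · exact c4_rank2 chevG2 (0 : Fin 2) (1 : Fin 2) c4_ne2 c4_cov2 3 (Or.inr rfl)
      c4_G2_facts.1 c4_G2_facts.2.1 c4_G2_facts.2.2.1 c4_G2_facts.2.2.2 π σ hrel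
  · exact c4_rank2 chevB2 (0 : Fin 2) (1 : Fin 2) c4_ne2 c4_cov2 2 (Or.inl rfl)
      c4_B2_facts.1 c4_B2_facts.2.1 c4_B2_facts.2.2.1 c4_B2_facts.2.2.2 π σ hrel
  · exact c4_simply chevD4 π hπ σ hrel c4_short_D4 c4_tab_D4 (1 : Fin 4) _ _ c4_par_D4
  · exact c4_F4 π hπ σ hrel
  · exact c4_simply chevE6 π hπ σ hrel c4_short_E6 c4_tab_E6 (3 : Fin 6) _ _ c4_par_E6
  · exact c4_simply chevE7 π hπ σ hrel c4_short_E7 c4_tab_E7 (3 : Fin 7) _ _ c4_par_E7
  · exact c4_simply chevE8 π hπ σ hrel c4_short_E8 c4_tab_E8 (3 : Fin 8) _ _ c4_par_E8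

end Cfsg.Agent.Lib.Helper2.ChevAut
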