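import Cfsg.Agent.Lib.Helper2.Plane4D

set_option autoImplicit false
set_option linter.unusedSectionVars false
set_option linter.unusedVariables false

/-! Transport of the automorphism group of a set system along an isomorphism. -/

namespace Cfsg.Agent.Lib.Helper2.AutTransport

open Finset

variable {α β : Type*} [DecidableEq α] [DecidableEq β]

open scoped Pointwise in
theorem mem_aut_iff' (B : Set (Finset α)) (g : Equiv.Perm α) :
    g ∈ Cfsg.setSystemAut B ↔ (fun b : Finset α => b.image g) '' B = B := by
  rw [MulAction.mem_stabilizer_iff]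
  rfl

theorem image_permCongr (e : α ≃ β) (g : Equiv.Perm α) (b' : Finset β) :
    b'.image (e.permCongr g) = ((b'.image e.symm).image g).image e := by
  ext y
  simp only [mem_image, Equiv.permCongr_apply]
  constructor
  · rintro ⟨x, hx, rfl⟩
    exact ⟨g (e.symm x), ⟨e.symm x, ⟨x, hx, rfl⟩, rfl⟩, rfl⟩
  · rintro ⟨z, ⟨w, ⟨x, hx, rfl⟩, rfl⟩, rfl⟩
    exact ⟨x, hx, rfl⟩

theorem mem_aut_congr (e : α ≃ β) {B : Set (Finset α)} {B' : Set (Finset β)}
    (h : (fun b : Finset α => b.image e) '' B = B') (g : Equiv.Perm α) :
    g ∈ Cfsg.setSystemAut B ↔ e.permCongr g ∈ Cfsg.setSystemAut B' := by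
  rw [mem_aut_iff', mem_aut_iff']
  have hsymm : (fun b' : Finset β => b'.image e.symm) '' B' = B := by
    rw [← h, Set.image_image]
    have : (fun b : Finset α => (b.image e).image e.symm) = id := by
      funext b
      rw [image_image]
      simp
    rw [this, Set.image_id]
  have hfun : (fun b' : Finset β => b'.image (e.permCongr g))
      = (fun b : Finset α => b.image e) ∘ (fun b : Finset α => b.image g)
        ∘ (fun b' : Finset β => b'.image e.symm) := by
    funext b'
    exact image_permCongr e g b'
  rw [hfun, Set.image_comp, Set.image_comp, hsymm]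
  constructor
  · intro hg
    rw [hg, h]
  · intro hg
    rw [← h] at hg
    exact (Set.image_injective.mpr (image_injective e.injective)) hg

theorem permCongr_symm_cancel (e : α ≃ β) (g' : Equiv.Perm β) :
    e.permCongr (e.symm.permCongr g') = g' := by
  ext z
  simp [Equiv.permCongr_apply]

/-- isomorphic set systems have isomorphic automorphism groups. -/
theorem aut_transport (e : α ≃ β) {B : Set (Finset α)} {B' : Set (Finset β)}
    (h : (fun b : Finset α => b.image e) '' B = B') :
    Nonempty (↥(Cfsg.setSystemAut B) ≃* ↥(Cfsg.setSystemAut B')) :=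
  ⟨{ Equiv.subtypeEquiv e.permCongr (mem_aut_congr e h) with
      map_mul' := fun x y => Subtype.ext (Equiv.permCongr_mul e x y) }⟩

theorem pretransitive_transport (e : α ≃ β) {B : Set (Finset α)} {B' : Set (Finset β)}
    (h : (fun b : Finset α => b.image e) '' B = B') (n : ℕ)
    (ht : MulAction.IsMultiplyPretransitive (Cfsg.setSystemAut B') β n) :
    MulAction.IsMultiplyPretransitive (Cfsg.setSystemAut B) α n := by
  rw [MulAction.isMultiplyPretransitive_iff] at ht ⊢
  intro x y
  obtain ⟨g', hg'⟩ := ht (x.trans e.toEmbedding) (y.trans e.toEmbedding)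
  have hmem : e.symm.permCongr (g' : Equiv.Perm β) ∈ Cfsg.setSystemAut B := by
    rw [mem_aut_congr e h, permCongr_symm_cancel]
    exact g'.2
  refine ⟨⟨_, hmem⟩, ?_⟩
  ext i
  have h1 := DFunLike.congr_fun hg' i
  have h2 : (g' : Equiv.Perm β) (e (x i)) = e (y i) := h1
  show e.symm.permCongr (g' : Equiv.Perm β) (x i) = y i
  rw [Equiv.permCongr_apply]
  simp only [Equiv.symm_symm]
  rw [h2, Equiv.symm_apply_apply]

end Cfsg.Agent.Lib.Helper2.AutTransport
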