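import Cfsg.Agent.Lib.Helper2.SteinerSum3
import Cfsg.Agent.Lib.Helper2.AutTransport

set_option autoImplicit false
set_option linter.unusedSectionVars false
set_option linter.unusedVariables false

/-! An S(5,8,24) is determined by its derived design at a point; hence the automorphism group
of the derived design is the point stabiliser. -/

namespace Cfsg.Agent.Lib.Helper2.AutDerived

open Finset Cfsg.Agent.Lib.Helper2 Cfsg.Agent.Lib.Helper2.AutTransport

variable {γ : Type*} [Fintype γ] [DecidableEq γ]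

theorem optionCongr_removeNone (e : Equiv.Perm (Option γ)) (h : e none = none) :
    (Equiv.removeNone e).optionCongr = e := by
  apply Equiv.ext
  intro x
  cases x with
  | none =>
    rw [h]
    rfl
  | some x =>
    have hx : ∃ x', e (some x) = some x' := by
      rcases hex : e (some x) with _ | x'
      · exact absurd (e.injective (hex.trans h.symm)) (by simp)
      · exact ⟨x', rfl⟩
    rw [Equiv.optionCongr_apply, Option.map_some]
    exact Equiv.removeNone_some e hx

theorem optionCongr_mul (h₁ h₂ : Equiv.Perm γ) :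
    (h₁ * h₂).optionCongr = h₁.optionCongr * h₂.optionCongr := by
  apply Equiv.ext
  intro x
  cases x <;> rfl

theorem lines_image (h : γ ≃ γ) (O : Finset (Finset (Option γ))) :
    S22.lines (O.image (fun b => b.image h.optionCongr))
      = (S22.lines O).image (fun l => l.image h) := by
  ext x
  simp only [S22.lines, mem_image, mem_filter]
  constructor
  · rintro ⟨c, ⟨⟨b, hb, rfl⟩, hnone⟩, rfl⟩
    refine ⟨eraseNone b, ⟨b, ⟨hb, (S22.none_mem_image_optionCongr h b).mp hnone⟩, rfl⟩, ?_⟩
    rw [S22.eraseNone_image_optionCongr]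
  · rintro ⟨l, ⟨b, ⟨hb, hnone⟩, rfl⟩, rfl⟩
    refine ⟨b.image h.optionCongr,
      ⟨⟨b, hb, rfl⟩, (S22.none_mem_image_optionCongr h b).mpr hnone⟩, ?_⟩
    rw [S22.eraseNone_image_optionCongr]

theorem inter_symmDiff' {Ω : Type*} [DecidableEq Ω] (b c : Finset Ω) :
    c ∩ symmDiff b c = c \ b := by
  ext z
  simp only [mem_inter, mem_symmDiff, mem_sdiff]
  tauto

theorem ext_unique (h24 : Fintype.card (Option γ) = 24) {O₁ O₂ : Finset (Finset (Option γ))}
    (h₁ : Cfsg.IsSteinerSystem 5 8 (O₁ : Set (Finset (Option γ))))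
    (h₂ : Cfsg.IsSteinerSystem 5 8 (O₂ : Set (Finset (Option γ))))
    (hl : S22.lines O₁ = S22.lines O₂) : O₁ ⊆ O₂ := by
  have thru : ∀ b ∈ O₁, none ∈ b → b ∈ O₂ := by
    intro b hb hn
    have : eraseNone b ∈ S22.lines O₂ := by
      rw [← hl]
      exact mem_image.mpr ⟨b, mem_filter.mpr ⟨hb, hn⟩, rfl⟩
    obtain ⟨b₂, hb₂, he⟩ := mem_image.mp this
    rw [mem_filter] at hb₂
    rw [← S22.eraseNone_inj_of_mem hb₂.2 hn he]
    exact hb₂.1
  intro b hb
  by_cases hn : none ∈ b
  · exact thru b hb hn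
  · have hb8 := h₁.1 b (mem_coe.mpr hb)
    obtain ⟨Q, hQb, hQ4⟩ := exists_subset_card_eq (by omega : 4 ≤ b.card)
    have hnQ : none ∉ Q := fun h => hn (hQb h)
    have hZ : (insert none Q).card = 5 := by rw [card_insert_of_notMem hnQ, hQ4]
    obtain ⟨c₁, ⟨hc₁, hZc₁⟩, -⟩ := h₁.2 _ hZ
    rw [mem_coe] at hc₁
    have hnc₁ : none ∈ c₁ := hZc₁ (mem_insert_self _ _)
    have hne : b ≠ c₁ := fun h => hn (by rw [h]; exact hnc₁)
    have h4 : (b ∩ c₁).card = 4 := by
      have h1 := card_le_card (subset_inter hQb ((subset_insert _ _).trans hZc₁))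
      rcases Cfsg.Agent.Lib.Helper9.Steiner5.block_inter h24 h₁ (mem_coe.mpr hb)
        (mem_coe.mpr hc₁) hne with h | h | h <;> omega
    have hc₂ := Cfsg.Agent.Lib.Helper9.Steiner9.symm_block h24 h₁ (mem_coe.mpr hb)
      (mem_coe.mpr hc₁) h4
    rw [mem_coe] at hc₂
    have hnc₂ : none ∈ symmDiff b c₁ := mem_symmDiff.mpr (Or.inr ⟨hnc₁, hn⟩)
    have g₁ := thru c₁ hc₁ hnc₁
    have g₂ := thru _ hc₂ hnc₂
    have h4' : (c₁ ∩ symmDiff b c₁).card = 4 := by
      rw [inter_symmDiff']
      have h1 := card_sdiff_add_card_inter c₁ b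
      rw [inter_comm c₁ b, h4, h₁.1 c₁ (mem_coe.mpr hc₁)] at h1
      omega
    have := Cfsg.Agent.Lib.Helper9.Steiner9.symm_block h24 h₂ (mem_coe.mpr g₁)
      (mem_coe.mpr g₂) h4'
    rw [symmDiff_comm b c₁, symmDiff_symmDiff_cancel_left] at this
    exact mem_coe.mp this

theorem ext_eq (h24 : Fintype.card (Option γ) = 24) {O₁ O₂ : Finset (Finset (Option γ))}
    (h₁ : Cfsg.IsSteinerSystem 5 8 (O₁ : Set (Finset (Option γ))))
    (h₂ : Cfsg.IsSteinerSystem 5 8 (O₂ : Set (Finset (Option γ))))
    (hl : S22.lines O₁ = S22.lines O₂) : O₁ = O₂ :=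
  Subset.antisymm (ext_unique h24 h₁ h₂ hl) (ext_unique h24 h₂ h₁ hl.symm)

theorem up_mem (h24 : Fintype.card (Option γ) = 24) {O : Finset (Finset (Option γ))}
    (hO : Cfsg.IsSteinerSystem 5 8 (O : Set (Finset (Option γ)))) (h : Equiv.Perm γ) :
    h ∈ Cfsg.setSystemAut ((S22.lines O : Finset (Finset γ)) : Set (Finset γ)) ↔
      h.optionCongr ∈ Cfsg.setSystemAut (O : Set (Finset (Option γ))) := by
  rw [mem_aut_iff', mem_aut_iff', ← coe_image, ← coe_image, coe_inj, coe_inj]
  constructor
  · intro hh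
    apply ext_eq h24 (S22.steiner_image h.optionCongr 5 8 O hO) hO
    rw [lines_image, hh]
  · intro hh
    rw [← lines_image, hh]

/-- the automorphism group of the derived design is the point stabiliser. -/
theorem stab_equiv (h24 : Fintype.card (Option γ) = 24) {O : Finset (Finset (Option γ))}
    (hO : Cfsg.IsSteinerSystem 5 8 (O : Set (Finset (Option γ))))
    (G : Subgroup (Equiv.Perm (Option γ)))
    (hG : G = Cfsg.setSystemAut (O : Set (Finset (Option γ)))) :
    Nonempty (↥(Cfsg.setSystemAut ((S22.lines O : Finset (Finset γ)) : Set (Finset γ)))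
      ≃* ↥(MulAction.stabilizer ↥G (none : Option γ))) := by
  subst hG
  have hfix : ∀ g : ↥(MulAction.stabilizer
      ↥(Cfsg.setSystemAut (O : Set (Finset (Option γ)))) (none : Option γ)),
      (g.1.1 : Equiv.Perm (Option γ)) none = none := fun g => g.2
  refine ⟨{ toFun := fun h => ⟨⟨h.1.optionCongr, (up_mem h24 hO h.1).mp h.2⟩, ?_⟩
            invFun := fun g => ⟨Equiv.removeNone g.1.1, ?_⟩
            left_inv := ?_
            right_inv := ?_
            map_mul' := ?_ }⟩
  · rw [MulAction.mem_stabilizer_iff]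
    rfl
  · rw [up_mem h24 hO, optionCongr_removeNone _ (hfix g)]
    exact g.1.2
  · intro h
    exact Subtype.ext (Equiv.removeNone_optionCongr h.1)
  · intro g
    exact Subtype.ext (Subtype.ext (optionCongr_removeNone g.1.1 (hfix g)))
  · intro h₁ h₂
    exact Subtype.ext (Subtype.ext (optionCongr_mul h₁.1 h₂.1))

/-! ### transitivity -/

def extFun {n : ℕ} (x : Fin n → γ) : Fin (n + 1) → Option γ :=
  Fin.cases none (fun i => some (x i))

theorem extFun_zero {n : ℕ} (x : Fin n → γ) : extFun x 0 = none := rfl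

theorem extFun_succ {n : ℕ} (x : Fin n → γ) (i : Fin n) : extFun x i.succ = some (x i) := by
  simp [extFun]

theorem extFun_inj {n : ℕ} (x : Fin n → γ) (hx : Function.Injective x) :
    Function.Injective (extFun x) := by
  intro i j
  refine Fin.cases ?_ (fun i' => ?_) i
  · refine Fin.cases ?_ (fun j' => ?_) j
    · intro _
      rfl
    · intro h
      rw [extFun_zero, extFun_succ] at h
      exact absurd h (by simp)
  · refine Fin.cases ?_ (fun j' => ?_) j
    · intro h
      rw [extFun_zero, extFun_succ] at h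
      exact absurd h (by simp)
    · intro h
      rw [extFun_succ, extFun_succ] at h
      rw [hx (Option.some_injective _ h)]

theorem derived_trans (h24 : Fintype.card (Option γ) = 24) {O : Finset (Finset (Option γ))}
    (hO : Cfsg.IsSteinerSystem 5 8 (O : Set (Finset (Option γ))))
    (G : Subgroup (Equiv.Perm (Option γ)))
    (hG : G = Cfsg.setSystemAut (O : Set (Finset (Option γ)))) (n : ℕ)
    (ht : MulAction.IsMultiplyPretransitive ↥G (Option γ) (n + 1)) :
    MulAction.IsMultiplyPretransitive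
      ↥(Cfsg.setSystemAut ((S22.lines O : Finset (Finset γ)) : Set (Finset γ))) γ n := by
  subst hG
  rw [MulAction.isMultiplyPretransitive_iff] at ht ⊢
  intro x y
  obtain ⟨g, hg⟩ := ht ⟨extFun x, extFun_inj x x.injective⟩ ⟨extFun y, extFun_inj y y.injective⟩
  have h0 : (g.1 : Equiv.Perm (Option γ)) none = none := DFunLike.congr_fun hg 0
  have hs : ∀ i, (g.1 : Equiv.Perm (Option γ)) (some (x i)) = some (y i) := by
    intro i
    have := DFunLike.congr_fun hg i.succ
    have h1 : (g.1 : Equiv.Perm (Option γ)) (extFun x i.succ) = extFun y i.succ := this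
    rw [extFun_succ, extFun_succ] at h1
    exact h1
  have hmem : Equiv.removeNone (g.1 : Equiv.Perm (Option γ))
      ∈ Cfsg.setSystemAut ((S22.lines O : Finset (Finset γ)) : Set (Finset γ)) := by
    rw [up_mem h24 hO, optionCongr_removeNone _ h0]
    exact g.2
  refine ⟨⟨_, hmem⟩, ?_⟩
  ext i
  apply Option.some_injective
  show some (Equiv.removeNone (g.1 : Equiv.Perm (Option γ)) (x i)) = some (y i)
  rw [Equiv.removeNone_some _ ⟨y i, hs i⟩, hs i]

end Cfsg.Agent.Lib.Helper2.AutDerived
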