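import Cfsg.Agent.Lib.Helper2.AutDerived

set_option autoImplicit false
set_option linter.unusedSectionVars false
set_option linter.unusedVariables false

/-! An S(3,6,22) has exactly two extensions to an S(4,7,23) on a given extra point; consequences
for the automorphism group of the doubly derived design of an S(5,8,24). -/

namespace Cfsg.Agent.Lib.Helper2.SteinerSum

open Finset Cfsg.Agent.Lib.Helper2.Plane4

variable {δ : Type*} [Fintype δ] [DecidableEq δ]

theorem image_refl (x : Finset δ) : x.image (Equiv.refl δ) = x := by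
  rw [Equiv.coe_refl, image_id]

theorem erase_ne_empty (i : Fin 2) : (univ.erase i : Finset (Fin 2)) ≠ ∅ := by
  intro h
  have := card_erase_univ i
  rw [h, card_empty] at this
  omega

theorem sub_of_fam {X X' : Finset (Finset (δ ⊕ Fin 2))} (hD : IsD 2 X) (hD' : IsD 2 X')
    (h0 : ∀ J : Finset (Fin 2), J ≠ ∅ → fam X J = fam X' J) : X ⊆ X' := by
  intro b hb
  have hx : b.toLeft ∈ fam X b.toRight := mem_fam.mpr ⟨b, hb, rfl, rfl⟩
  suffices h : b.toLeft ∈ fam X' b.toRight by
    obtain ⟨b', hb', h1, h2⟩ := mem_fam.mp h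
    rw [← eq_of_parts h2 h1]
    exact hb'
  by_cases hJ : b.toRight = ∅
  · rw [hJ] at hx ⊢
    have hL : fam X univ = fam X' univ := h0 univ (by decide)
    have hcol : IsCol (fam X univ) (fam X' univ) (Equiv.refl δ) := by
      intro l hl
      rw [image_refl, ← hL]
      exact hl
    have := baer_image hD hD' hcol (fun i H hH hHe => by
      rw [h0 (univ.erase i) (erase_ne_empty i)]
      rw [image_refl] at hHe
      exact hHe) hx
    rw [image_refl] at this
    exact this
  · rw [← h0 _ hJ]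
    exact hx

theorem class_congr {L : Finset (Finset δ)} (hP : IsPlane4 L) {H K : Finset δ}
    (hH : H ∈ arcs L 6) (hK : K ∈ arcs L 6) (h : Even (H ∩ K).card) :
    (arcs L 6).filter (fun N => Even (N ∩ H).card)
      = (arcs L 6).filter (fun N => Even (N ∩ K).card) := by
  ext N
  simp only [mem_filter]
  constructor
  · rintro ⟨hN, hNH⟩
    exact ⟨hN, even_trans hP hH hN hK hNH (by rw [inter_comm]; exact h)⟩
  · rintro ⟨hN, hNK⟩
    exact ⟨hN, even_trans hP hK hN hH hNK h⟩

/-- a design of our kind with given blocks through the first extra point has at most one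
"other" companion. -/
theorem two_ext {X₀ X₁ X₂ : Finset (Finset (δ ⊕ Fin 2))} (hD₀ : IsD 2 X₀) (hD₁ : IsD 2 X₁)
    (hD₂ : IsD 2 X₂)
    (s01 : ∀ J : Finset (Fin 2), (0 : Fin 2) ∈ J → fam X₀ J = fam X₁ J)
    (s02 : ∀ J : Finset (Fin 2), (0 : Fin 2) ∈ J → fam X₀ J = fam X₂ J)
    (h01 : X₀ ≠ X₁) (h02 : X₀ ≠ X₂) : X₁ = X₂ := by
  have hcases : ∀ J : Finset (Fin 2), J ≠ ∅ → (0 : Fin 2) ∈ J ∨ J = univ.erase 0 := by decide
  have key : ∀ Xa Xb : Finset (Finset (δ ⊕ Fin 2)), IsD 2 Xa → IsD 2 Xb →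
      (∀ J : Finset (Fin 2), (0 : Fin 2) ∈ J → fam Xa J = fam Xb J) →
      fam Xa (univ.erase 0) = fam Xb (univ.erase 0) → Xa = Xb := by
    intro Xa Xb hDa hDb hs he
    have hall : ∀ J : Finset (Fin 2), J ≠ ∅ → fam Xa J = fam Xb J := by
      intro J hJ
      rcases hcases J hJ with h | h
      · exact hs J h
      · rw [h]
        exact he
    exact Subset.antisymm (sub_of_fam hDa hDb hall) (sub_of_fam hDb hDa (fun J hJ => (hall J hJ).symm))
  have hP := hD₀.plane
  have hL1 : fam X₀ univ = fam X₁ univ := s01 univ (mem_univ _)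
  have hL2 : fam X₀ univ = fam X₂ univ := s02 univ (mem_univ _)
  have m1 : (0 : Fin 2) ∈ (univ.erase 1 : Finset (Fin 2)) := by decide
  obtain ⟨H, hH⟩ := hD₀.hyp_nonempty 1
  have hH1 : H ∈ fam X₁ (univ.erase 1) := by rw [← s01 _ m1]; exact hH
  have hH2 : H ∈ fam X₂ (univ.erase 1) := by rw [← s02 _ m1]; exact hH
  obtain ⟨K₀, hK₀⟩ := hD₀.hyp_nonempty 0
  obtain ⟨K₁, hK₁⟩ := hD₁.hyp_nonempty 0
  obtain ⟨K₂, hK₂⟩ := hD₂.hyp_nonempty 0
  have a₀ := hD₀.hyp_arcs hK₀
  have a₁ := hD₁.hyp_arcs hK₁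
  have a₂ := hD₂.hyp_arcs hK₂
  rw [← hL1] at a₁
  rw [← hL2] at a₂
  have e₀ := hD₀.hyp_eq hK₀
  have e₁ := hD₁.hyp_eq hK₁
  have e₂ := hD₂.hyp_eq hK₂
  rw [← hL1] at e₁
  rw [← hL2] at e₂
  have h10 : (1 : Fin 2) ≠ 0 := by decide
  have o₀ : ¬ Even (H ∩ K₀).card := hD₀.hyp_odd h10 hH hK₀
  have o₁ : ¬ Even (H ∩ K₁).card := hD₁.hyp_odd h10 hH1 hK₁
  have o₂ : ¬ Even (H ∩ K₂).card := hD₂.hyp_odd h10 hH2 hK₂
  have n01 : ¬ Even (K₀ ∩ K₁).card := by
    intro h
    apply h01
    apply key X₀ X₁ hD₀ hD₁ s01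
    rw [e₀, e₁]
    exact class_congr hP a₀ a₁ h
  have n02 : ¬ Even (K₀ ∩ K₂).card := by
    intro h
    apply h02
    apply key X₀ X₂ hD₀ hD₂ s02
    rw [e₀, e₂]
    exact class_congr hP a₀ a₂ h
  have s12 : ∀ J : Finset (Fin 2), (0 : Fin 2) ∈ J → fam X₁ J = fam X₂ J :=
    fun J hJ => (s01 J hJ).symm.trans (s02 J hJ)
  apply key X₁ X₂ hD₁ hD₂ s12
  rw [e₁, e₂]
  apply class_congr hP a₁ a₂
  rcases three_classes hP (hD₀.hyp_arcs hH) a₀ a₁ a₂ o₀ o₁ n01 with h | h | h
  · exact absurd (by rw [inter_comm]; exact h) o₂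
  · exact absurd (by rw [inter_comm]; exact h) n02
  · rw [inter_comm]
    exact h

end Cfsg.Agent.Lib.Helper2.SteinerSum

namespace Cfsg.Agent.Lib.Helper2.AutDerived

open Finset Cfsg.Agent.Lib.Helper2 Cfsg.Agent.Lib.Helper2.AutTransport

variable {γ : Type*} [Fintype γ] [DecidableEq γ]

/-- `optionCongr` as a monoid hom. -/
def ocHom : Equiv.Perm γ →* Equiv.Perm (Option γ) where
  toFun := Equiv.optionCongr
  map_one' := Equiv.optionCongr_refl
  map_mul' := optionCongr_mul

theorem ocHom_apply (h : Equiv.Perm γ) : ocHom h = h.optionCongr := rfl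

theorem down_mem (X : Finset (Finset (Option γ))) (h : Equiv.Perm γ)
    (hh : h.optionCongr ∈ Cfsg.setSystemAut (X : Set (Finset (Option γ)))) :
    h ∈ Cfsg.setSystemAut ((S22.lines X : Finset (Finset γ)) : Set (Finset γ)) := by
  rw [mem_aut_iff', ← coe_image, coe_inj] at hh ⊢
  rw [← lines_image, hh]

theorem mem_lines_iff (X : Finset (Finset (Option γ))) (x : Finset γ) :
    x ∈ S22.lines X ↔ insertNone x ∈ X := by
  simp only [S22.lines, mem_image, mem_filter]
  constructor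
  · rintro ⟨b, ⟨hb, hn⟩, rfl⟩
    rw [insertNone_eraseNone, insert_eq_of_mem hn]
    exact hb
  · intro h
    exact ⟨insertNone x, ⟨h, none_mem_insertNone⟩, eraseNone_insertNone x⟩

/-- S(4,7,23)'s on `Option γ` with a common derived design: at most two. -/
theorem two_ext' (h23 : Fintype.card (Option γ) = 23) {Y₀ Y₁ Y₂ : Finset (Finset (Option γ))}
    (hY₀ : Cfsg.IsSteinerSystem 4 7 (Y₀ : Set (Finset (Option γ))))
    (hY₁ : Cfsg.IsSteinerSystem 4 7 (Y₁ : Set (Finset (Option γ))))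
    (hY₂ : Cfsg.IsSteinerSystem 4 7 (Y₂ : Set (Finset (Option γ))))
    (l01 : S22.lines Y₀ = S22.lines Y₁) (l02 : S22.lines Y₀ = S22.lines Y₂)
    (h01 : Y₀ ≠ Y₁) (h02 : Y₀ ≠ Y₂) : Y₁ = Y₂ := by
  have hc23 : Fintype.card (Fin 21 ⊕ Fin 2) = 23 := by simp
  obtain ⟨ρ₀, -⟩ : ∃ ρ₀ : Option γ ≃ Fin 21 ⊕ Fin 2, True :=
    ⟨Fintype.equivOfCardEq (by rw [h23, hc23]), trivial⟩
  obtain ⟨ρ, hρ⟩ : ∃ ρ : Option γ ≃ Fin 21 ⊕ Fin 2, ρ none = Sum.inr 0 :=
    ⟨ρ₀.trans (Equiv.swap (ρ₀ none) (Sum.inr 0)), by simp⟩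
  have mkD : ∀ Y : Finset (Finset (Option γ)),
      Cfsg.IsSteinerSystem 4 7 (Y : Set (Finset (Option γ))) →
      SteinerSum.IsD 2 (Y.image (fun b => b.image ρ)) := by
    intro Y hY
    have hS := S22.steiner_image ρ 4 7 Y hY
    exact ⟨by simp, hS, fun b hb c hc hne => by
      rcases Cfsg.Agent.Lib.Helper9.Steiner6.block_inter_4_7_23 hc23 hS (mem_coe.mpr hb)
        (mem_coe.mpr hc) hne with h | h <;> rw [h]⟩
  have hinj : Function.Injective (fun Y : Finset (Finset (Option γ)) =>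
      Y.image (fun b => b.image ρ)) := image_injective (image_injective ρ.injective)
  have same : ∀ Ya Yb : Finset (Finset (Option γ)), S22.lines Ya = S22.lines Yb →
      ∀ J : Finset (Fin 2), (0 : Fin 2) ∈ J →
      SteinerSum.fam (Ya.image (fun b => b.image ρ)) J
        ⊆ SteinerSum.fam (Yb.image (fun b => b.image ρ)) J := by
    intro Ya Yb hl J hJ x hx
    obtain ⟨b, hb, hbJ, hbx⟩ := SteinerSum.mem_fam.mp hx
    obtain ⟨c, hc, rfl⟩ := mem_image.mp hb
    refine SteinerSum.mem_fam.mpr ⟨c.image ρ, mem_image_of_mem _ ?_, hbJ, hbx⟩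
    have h0 : (Sum.inr 0 : Fin 21 ⊕ Fin 2) ∈ c.image ρ := by
      rw [← mem_toRight, hbJ]
      exact hJ
    have hn : none ∈ c := by
      obtain ⟨z, hz, hz0⟩ := mem_image.mp h0
      have : z = none := ρ.injective (hz0.trans hρ.symm)
      rw [← this]
      exact hz
    rw [S22.mem_iff]
    left
    refine ⟨hn, ?_⟩
    rw [← hl]
    exact mem_image.mpr ⟨c, mem_filter.mpr ⟨hc, hn⟩, rfl⟩
  have same' : ∀ Ya Yb : Finset (Finset (Option γ)), S22.lines Ya = S22.lines Yb →
      ∀ J : Finset (Fin 2), (0 : Fin 2) ∈ J →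
      SteinerSum.fam (Ya.image (fun b => b.image ρ)) J
        = SteinerSum.fam (Yb.image (fun b => b.image ρ)) J :=
    fun Ya Yb hl J hJ => Subset.antisymm (same Ya Yb hl J hJ) (same Yb Ya hl.symm J hJ)
  apply hinj
  exact SteinerSum.two_ext (mkD Y₀ hY₀) (mkD Y₁ hY₁) (mkD Y₂ hY₂) (same' Y₀ Y₁ l01)
    (same' Y₀ Y₂ l02) (fun h => h01 (hinj h)) (fun h => h02 (hinj h))

open scoped Pointwise in
theorem smul_coe {Ω : Type*} [DecidableEq Ω] (g : Equiv.Perm Ω) (X : Finset (Finset Ω)) :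
    g • (X : Set (Finset Ω)) = ((X.image (fun b => b.image g) : Finset (Finset Ω)) : Set (Finset Ω)) := by
  rw [coe_image]
  rfl

open scoped Pointwise in
/-- the subgroup of automorphisms of the doubly derived design extending to the derived design
has index at most 2. -/
theorem mul_mem_K (h23 : Fintype.card (Option γ) = 23) {Y : Finset (Finset (Option γ))}
    (hY : Cfsg.IsSteinerSystem 4 7 (Y : Set (Finset (Option γ)))) {h₁ h₂ : Equiv.Perm γ}
    (m₁ : h₁ ∈ Cfsg.setSystemAut ((S22.lines Y : Finset (Finset γ)) : Set (Finset γ)))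
    (m₂ : h₂ ∈ Cfsg.setSystemAut ((S22.lines Y : Finset (Finset γ)) : Set (Finset γ)))
    (n₁ : h₁.optionCongr ∉ Cfsg.setSystemAut (Y : Set (Finset (Option γ))))
    (n₂ : h₂.optionCongr ∉ Cfsg.setSystemAut (Y : Set (Finset (Option γ)))) :
    (h₁⁻¹ * h₂).optionCongr ∈ Cfsg.setSystemAut (Y : Set (Finset (Option γ))) := by
  have hl : ∀ h : Equiv.Perm γ,
      h ∈ Cfsg.setSystemAut ((S22.lines Y : Finset (Finset γ)) : Set (Finset γ)) →
      S22.lines Y = S22.lines (Y.image (fun b => b.image h.optionCongr)) := by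
    intro h hm
    rw [mem_aut_iff', ← coe_image, coe_inj] at hm
    rw [lines_image, hm]
  have hne : ∀ h : Equiv.Perm γ,
      h.optionCongr ∉ Cfsg.setSystemAut (Y : Set (Finset (Option γ))) →
      Y ≠ Y.image (fun b => b.image h.optionCongr) := by
    intro h hn he
    apply hn
    rw [mem_aut_iff', ← coe_image, coe_inj]
    exact he.symm
  have key := two_ext' h23 hY (S22.steiner_image h₁.optionCongr 4 7 Y hY)
    (S22.steiner_image h₂.optionCongr 4 7 Y hY) (hl h₁ m₁) (hl h₂ m₂) (hne h₁ n₁) (hne h₂ n₂)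
  have e1 : (h₁⁻¹ * h₂).optionCongr = (h₁.optionCongr)⁻¹ * h₂.optionCongr := by
    have := map_mul (ocHom (γ := γ)) h₁⁻¹ h₂
    rw [map_inv] at this
    exact this
  rw [e1, MulAction.mem_stabilizer_iff, mul_smul, inv_smul_eq_iff, smul_coe, smul_coe, key]

theorem removeNone_fix (g : Equiv.Perm (Option (Option γ))) (h1 : g (some none) = some none) :
    Equiv.removeNone g none = none := by
  apply Option.some_injective
  rw [Equiv.removeNone_some g ⟨none, h1⟩, h1]

/-- the automorphisms of the doubly derived design which extend: the two-point stabiliser. -/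
theorem K_equiv (h24 : Fintype.card (Option (Option γ)) = 24)
    {O : Finset (Finset (Option (Option γ)))}
    (hO : Cfsg.IsSteinerSystem 5 8 (O : Set (Finset (Option (Option γ)))))
    (G : Subgroup (Equiv.Perm (Option (Option γ))))
    (hG : G = Cfsg.setSystemAut (O : Set (Finset (Option (Option γ))))) :
    Nonempty (↥((Cfsg.setSystemAut ((S22.lines O : Finset (Finset (Option γ))) :
        Set (Finset (Option γ)))).comap (ocHom (γ := γ)))
      ≃* ↥(MulAction.stabilizer ↥G (none : Option (Option γ))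
        ⊓ MulAction.stabilizer ↥G (some none : Option (Option γ)))) := by
  subst hG
  have hfix : ∀ g : ↥(MulAction.stabilizer
      ↥(Cfsg.setSystemAut (O : Set (Finset (Option (Option γ))))) (none : Option (Option γ))
      ⊓ MulAction.stabilizer
      ↥(Cfsg.setSystemAut (O : Set (Finset (Option (Option γ))))) (some none : Option (Option γ))),
      (g.1.1 : Equiv.Perm (Option (Option γ))) none = none ∧
      (g.1.1 : Equiv.Perm (Option (Option γ))) (some none) = some none := by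
    intro g
    obtain ⟨h1, h2⟩ := Subgroup.mem_inf.mp g.2
    exact ⟨h1, h2⟩
  refine ⟨{ toFun := fun h => ⟨⟨h.1.optionCongr.optionCongr,
              (up_mem h24 hO h.1.optionCongr).mp h.2⟩, ?_⟩
            invFun := fun g => ⟨Equiv.removeNone (Equiv.removeNone g.1.1), ?_⟩
            left_inv := ?_
            right_inv := ?_
            map_mul' := ?_ }⟩
  · refine Subgroup.mem_inf.mpr ⟨?_, ?_⟩
    · rw [MulAction.mem_stabilizer_iff]
      rfl
    · rw [MulAction.mem_stabilizer_iff]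
      rfl
  · rw [Subgroup.mem_comap, ocHom_apply,
      optionCongr_removeNone _ (removeNone_fix _ (hfix g).2), up_mem h24 hO,
      optionCongr_removeNone _ (hfix g).1]
    exact g.1.2
  · intro h
    apply Subtype.ext
    show Equiv.removeNone (Equiv.removeNone h.1.optionCongr.optionCongr) = h.1
    rw [Equiv.removeNone_optionCongr, Equiv.removeNone_optionCongr]
  · intro g
    apply Subtype.ext
    apply Subtype.ext
    show (Equiv.removeNone (Equiv.removeNone g.1.1)).optionCongr.optionCongr = g.1.1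
    rw [optionCongr_removeNone _ (removeNone_fix _ (hfix g).2),
      optionCongr_removeNone _ (hfix g).1]
  · intro h₁ h₂
    apply Subtype.ext
    apply Subtype.ext
    show (h₁.1 * h₂.1).optionCongr.optionCongr
      = h₁.1.optionCongr.optionCongr * h₂.1.optionCongr.optionCongr
    rw [optionCongr_mul, optionCongr_mul]

theorem comap_trans (G₁ : Subgroup (Equiv.Perm (Option γ))) (n : ℕ)
    (ht : MulAction.IsMultiplyPretransitive ↥G₁ (Option γ) (n + 1)) :
    MulAction.IsMultiplyPretransitive ↥(G₁.comap (ocHom (γ := γ))) γ n := by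
  rw [MulAction.isMultiplyPretransitive_iff] at ht ⊢
  intro x y
  obtain ⟨g, hg⟩ := ht ⟨extFun x, extFun_inj x x.injective⟩ ⟨extFun y, extFun_inj y y.injective⟩
  have h0 : (g.1 : Equiv.Perm (Option γ)) none = none := DFunLike.congr_fun hg 0
  have hs : ∀ i, (g.1 : Equiv.Perm (Option γ)) (some (x i)) = some (y i) := by
    intro i
    have := DFunLike.congr_fun hg i.succ
    have h1 : (g.1 : Equiv.Perm (Option γ)) (extFun x i.succ) = extFun y i.succ := this
    rw [extFun_succ, extFun_succ] at h1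
    exact h1
  have hmem : Equiv.removeNone (g.1 : Equiv.Perm (Option γ)) ∈ G₁.comap (ocHom (γ := γ)) := by
    rw [Subgroup.mem_comap, ocHom_apply, optionCongr_removeNone _ h0]
    exact g.2
  refine ⟨⟨_, hmem⟩, ?_⟩
  ext i
  apply Option.some_injective
  show some (Equiv.removeNone (g.1 : Equiv.Perm (Option γ)) (x i)) = some (y i)
  rw [Equiv.removeNone_some _ ⟨y i, hs i⟩, hs i]

theorem trans_mono {K A : Subgroup (Equiv.Perm γ)} (hKA : K ≤ A) (n : ℕ)
    (ht : MulAction.IsMultiplyPretransitive ↥K γ n) :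
    MulAction.IsMultiplyPretransitive ↥A γ n := by
  rw [MulAction.isMultiplyPretransitive_iff] at ht ⊢
  intro x y
  obtain ⟨g, hg⟩ := ht x y
  refine ⟨⟨g.1, hKA g.2⟩, ?_⟩
  ext i
  exact DFunLike.congr_fun hg i

end Cfsg.Agent.Lib.Helper2.AutDerived
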