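import Cfsg.Agent.Lib.Helper2.AutDerived2
import Cfsg.Agent.Lib.Helper9.GolayM24c
import Cfsg.Agent.Lib.Helper9.M24T5
import Cfsg.Agent.S0378
import Cfsg.Agent.S0379
import Cfsg.Prelude.Def_Sporadic

set_option autoImplicit false
set_option linter.unusedSectionVars false
set_option linter.unusedVariables false

/-! The automorphism group of an S(3,6,22). -/

namespace Cfsg.Agent.Lib.Helper2.AutDerived

open Finset Cfsg.Agent.Lib.Helper2 Cfsg.Agent.Lib.Helper2.AutTransport

section transport

variable {α β : Type*} [DecidableEq α] [DecidableEq β]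

theorem stab2_transport (e : α ≃ β) {B : Set (Finset α)} {B' : Set (Finset β)}
    (h : (fun b : Finset α => b.image e) '' B = B') (p q : α) :
    Nonempty (↥(MulAction.stabilizer ↥(Cfsg.setSystemAut B) p
        ⊓ MulAction.stabilizer ↥(Cfsg.setSystemAut B) q)
      ≃* ↥(MulAction.stabilizer ↥(Cfsg.setSystemAut B') (e p)
        ⊓ MulAction.stabilizer ↥(Cfsg.setSystemAut B') (e q))) := by
  obtain ⟨φ, hφ⟩ : ∃ φ : ↥(Cfsg.setSystemAut B) ≃* ↥(Cfsg.setSystemAut B'),
      ∀ g, ((φ g : ↥(Cfsg.setSystemAut B')) : Equiv.Perm β) = e.permCongr g.1 :=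
    ⟨{ Equiv.subtypeEquiv e.permCongr (mem_aut_congr e h) with
        map_mul' := fun x y => Subtype.ext (Equiv.permCongr_mul e x y) }, fun g => rfl⟩
  have key : ∀ (g : ↥(Cfsg.setSystemAut B)) (x : α), (φ g) • (e x) = e (g • x) := by
    intro g x
    show ((φ g : ↥(Cfsg.setSystemAut B')) : Equiv.Perm β) (e x) = e (g.1 x)
    rw [hφ, Equiv.permCongr_apply, Equiv.symm_apply_apply]
  refine ⟨{ Equiv.subtypeEquiv φ.toEquiv (fun g => ?_) with
            map_mul' := fun x y => Subtype.ext (map_mul φ x.1 y.1) }⟩
  simp only [Subgroup.mem_inf, MulAction.mem_stabilizer_iff, MulEquiv.toEquiv_eq_coe,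
    MulEquiv.coe_toEquiv]
  rw [key, key, e.injective.eq_iff, e.injective.eq_iff]

theorem concl_transport {γ : Type*} [DecidableEq γ] (e : α ≃ γ) {B : Set (Finset α)}
    {B' : Set (Finset γ)} (h : (fun b : Finset α => b.image e) '' B = B')
    (href : Nat.card ↥(Cfsg.setSystemAut B') = 887040 ∧
      MulAction.IsMultiplyPretransitive ↥(Cfsg.setSystemAut B') γ 3 ∧
      ∃ H : Subgroup ↥(Cfsg.setSystemAut B'), H.index = 2 ∧ Cfsg.IsM22 ↥H) :
    Nat.card ↥(Cfsg.setSystemAut B) = 887040 ∧
      MulAction.IsMultiplyPretransitive ↥(Cfsg.setSystemAut B) α 3 ∧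
      ∃ H : Subgroup ↥(Cfsg.setSystemAut B), H.index = 2 ∧ Cfsg.IsM22 ↥H := by
  obtain ⟨hc, ht, H', hidx, hs, hcard⟩ := href
  obtain ⟨φ⟩ := aut_transport e h
  refine ⟨by rw [Nat.card_congr φ.toEquiv, hc], pretransitive_transport e h 3 ht, ?_⟩
  refine ⟨H'.map (φ.symm : ↥(Cfsg.setSystemAut B') →* ↥(Cfsg.setSystemAut B)), ?_, ?_, ?_⟩
  · rw [Subgroup.index_map_equiv, hidx]
  · haveI := hs
    exact (φ.symm.subgroupMap H').symm.isSimpleGroup
  · rw [← Nat.card_congr (φ.symm.subgroupMap H').toEquiv, hcard]

end transport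

variable {γ : Type*} [Fintype γ] [DecidableEq γ]

theorem image_swap_swap {Ω : Type*} [DecidableEq Ω] (a c : Ω) (s : Finset Ω) :
    (s.image (Equiv.swap a c)).image (Equiv.swap a c) = s := by
  rw [image_image]
  have : ((Equiv.swap a c : Ω → Ω) ∘ (Equiv.swap a c : Ω → Ω)) = id := by
    funext z
    simp
  rw [this, image_id]

theorem image_swap_fix (s : Finset (Option (Option γ))) (h0 : none ∈ s) (h1 : some none ∈ s) :
    s.image (Equiv.swap (none : Option (Option γ)) (some none)) = s := by
  apply eq_of_subset_of_card_le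
  · intro z hz
    obtain ⟨w, hw, rfl⟩ := mem_image.mp hz
    by_cases hw0 : w = none
    · rw [hw0, Equiv.swap_apply_left]
      exact h1
    · by_cases hw1 : w = some none
      · rw [hw1, Equiv.swap_apply_right]
        exact h0
      · rw [Equiv.swap_apply_of_ne_of_ne hw0 hw1]
        exact hw
  · rw [card_image_of_injective _ (Equiv.injective _)]

theorem lines_lines_swap (O : Finset (Finset (Option (Option γ)))) :
    S22.lines (S22.lines (O.image
      (fun b => b.image (Equiv.swap (none : Option (Option γ)) (some none)))))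
      = S22.lines (S22.lines O) := by
  ext x
  rw [mem_lines_iff, mem_lines_iff, mem_lines_iff, mem_lines_iff]
  have hfix := image_swap_fix (insertNone (insertNone x)) none_mem_insertNone
    (some_mem_insertNone.mpr none_mem_insertNone)
  constructor
  · intro h
    obtain ⟨b, hb, hbe⟩ := mem_image.mp h
    have hbe' : b.image (Equiv.swap (none : Option (Option γ)) (some none))
        = insertNone (insertNone x) := hbe
    have : b = insertNone (insertNone x) := by
      rw [← image_swap_swap (none : Option (Option γ)) (some none) b, hbe', hfix]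
    rw [← this]
    exact hb
  · intro h
    exact mem_image.mpr ⟨_, h, hfix⟩

theorem swap_not_mem (h24 : Fintype.card (Option (Option γ)) = 24)
    {O : Finset (Finset (Option (Option γ)))}
    (hO : Cfsg.IsSteinerSystem 5 8 (O : Set (Finset (Option (Option γ))))) :
    Equiv.swap (none : Option (Option γ)) (some none)
      ∉ Cfsg.setSystemAut (O : Set (Finset (Option (Option γ)))) := by
  intro hτ
  rw [mem_aut_iff', ← coe_image, coe_inj] at hτ
  have hne : (none : Option (Option γ)) ≠ some none := by simp
  have c1 := Cfsg.Agent.Lib.Helper9.Steiner1.card_blocks_through 5 8 O hO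
    ({none} : Finset (Option (Option γ))) (by simp)
  have c2 := Cfsg.Agent.Lib.Helper9.Steiner1.card_blocks_through 5 8 O hO
    ({none, some none} : Finset (Option (Option γ))) (by rw [card_pair hne]; norm_num)
  rw [card_singleton, h24] at c1
  rw [card_pair hne, h24] at c2
  have k1 : Nat.choose 7 4 = 35 := by decide
  have k2 : Nat.choose 23 4 = 8855 := by decide
  have k3 : Nat.choose 6 3 = 20 := by decide
  have k4 : Nat.choose 22 3 = 1540 := by decide
  rw [show 8 - 1 = 7 from rfl, show 5 - 1 = 4 from rfl, show 24 - 1 = 23 from rfl, k1, k2] at c1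
  rw [show 8 - 2 = 6 from rfl, show 5 - 2 = 3 from rfl, show 24 - 2 = 22 from rfl, k3, k4] at c2
  obtain ⟨b, hb, hnb⟩ : ∃ b ∈ O.filter (fun b => ({none} : Finset (Option (Option γ))) ⊆ b),
      b ∉ O.filter (fun b => ({none, some none} : Finset (Option (Option γ))) ⊆ b) := by
    by_contra hcon
    push Not at hcon
    have := card_le_card (fun b hb => hcon b hb :
      O.filter (fun b => ({none} : Finset (Option (Option γ))) ⊆ b)
        ⊆ O.filter (fun b => ({none, some none} : Finset (Option (Option γ))) ⊆ b))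
    omega
  rw [mem_filter] at hb
  simp only [mem_filter, not_and] at hnb
  have h0 : none ∈ b := singleton_subset_iff.mp hb.2
  have h1 : some none ∉ b := by
    intro h
    apply hnb hb.1
    intro z hz
    simp only [mem_insert, mem_singleton] at hz
    rcases hz with hz | hz <;> rw [hz]
    · exact h0
    · exact h
  have hb' : b.image (Equiv.swap (none : Option (Option γ)) (some none)) ∈ O := by
    have := mem_image_of_mem
      (fun b : Finset (Option (Option γ)) =>
        b.image (Equiv.swap (none : Option (Option γ)) (some none))) hb.1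
    rw [hτ] at this
    exact this
  have hsub : b.erase none
      ⊆ b ∩ b.image (Equiv.swap (none : Option (Option γ)) (some none)) := by
    intro z hz
    rw [mem_erase] at hz
    refine mem_inter.mpr ⟨hz.2, mem_image.mpr ⟨z, hz.2,
      Equiv.swap_apply_of_ne_of_ne hz.1 (fun h => h1 (by rw [← h]; exact hz.2))⟩⟩
  have h7 : 5 ≤ (b ∩ b.image (Equiv.swap (none : Option (Option γ)) (some none))).card := by
    have := card_le_card hsub
    rw [card_erase_of_mem h0, hO.1 b (mem_coe.mpr hb.1)] at this
    omega
  have heq := Cfsg.Agent.Lib.Helper9.Steiner6.block_eq_of_ge 5 8 O hO b _ hb.1 hb' h7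
  apply h1
  rw [heq]
  exact mem_image.mpr ⟨none, h0, Equiv.swap_apply_left _ _⟩

theorem exists_not_K (h24 : Fintype.card (Option (Option γ)) = 24)
    {O : Finset (Finset (Option (Option γ)))}
    (hO : Cfsg.IsSteinerSystem 5 8 (O : Set (Finset (Option (Option γ)))))
    (G : Subgroup (Equiv.Perm (Option (Option γ))))
    (hG : G = Cfsg.setSystemAut (O : Set (Finset (Option (Option γ)))))
    (ht : MulAction.IsMultiplyPretransitive ↥G (Option (Option γ)) 2) :
    ∃ h : Equiv.Perm γ,
      h ∈ Cfsg.setSystemAut ((S22.lines (S22.lines O) : Finset (Finset γ)) : Set (Finset γ)) ∧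
      h.optionCongr ∉ Cfsg.setSystemAut
        ((S22.lines O : Finset (Finset (Option γ))) : Set (Finset (Option γ))) := by
  subst hG
  rw [MulAction.is_two_pretransitive_iff] at ht
  have hne : (none : Option (Option γ)) ≠ some none := by simp
  obtain ⟨g, hg0, hg1⟩ := ht (a := none) (b := some none) (c := some none) (d := none) hne
    hne.symm
  have e0 : (g.1 : Equiv.Perm (Option (Option γ))) none = some none := hg0
  have e1 : (g.1 : Equiv.Perm (Option (Option γ))) (some none) = none := hg1
  obtain ⟨τ, hτ⟩ : ∃ τ : Equiv.Perm (Option (Option γ)),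
      τ = Equiv.swap (none : Option (Option γ)) (some none) := ⟨_, rfl⟩
  have f0 : (τ * g.1) none = none := by
    rw [Equiv.Perm.mul_apply, e0, hτ, Equiv.swap_apply_right]
  have f1 : (τ * g.1) (some none) = some none := by
    rw [Equiv.Perm.mul_apply, e1, hτ, Equiv.swap_apply_left]
  have hnot : τ * g.1 ∉ Cfsg.setSystemAut (O : Set (Finset (Option (Option γ)))) := by
    intro hm
    have := (Cfsg.setSystemAut (O : Set (Finset (Option (Option γ))))).mul_mem hm
      ((Cfsg.setSystemAut (O : Set (Finset (Option (Option γ))))).inv_mem g.2)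
    rw [mul_inv_cancel_right, hτ] at this
    exact swap_not_mem h24 hO this
  refine ⟨Equiv.removeNone (Equiv.removeNone (τ * g.1)), ?_, ?_⟩
  · have hh : (Equiv.removeNone (Equiv.removeNone (τ * g.1))).optionCongr.optionCongr
        = τ * g.1 := by
      rw [optionCongr_removeNone _ (removeNone_fix _ f1), optionCongr_removeNone _ f0]
    rw [mem_aut_iff', ← coe_image, coe_inj, ← lines_image, ← lines_image, hh]
    have hg : O.image (fun b => b.image g.1) = O := by
      have := g.2
      rw [mem_aut_iff', ← coe_image, coe_inj] at this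
      exact this
    have : O.image (fun b => b.image (τ * g.1))
        = (O.image (fun b => b.image g.1)).image (fun b => b.image τ) := by
      rw [image_image]
      apply image_congr
      intro b _
      simp only [Function.comp_apply]
      rw [image_image]
      rfl
    rw [this, hg, hτ]
    exact lines_lines_swap O
  · rw [optionCongr_removeNone _ (removeNone_fix _ f1)]
    intro hm
    rw [up_mem h24 hO, optionCongr_removeNone _ f0] at hm
    exact hnot hm

/-- the automorphism group of the doubly derived design. -/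
theorem aut_ref (h24 : Fintype.card (Option (Option γ)) = 24)
    {O : Finset (Finset (Option (Option γ)))}
    (hO : Cfsg.IsSteinerSystem 5 8 (O : Set (Finset (Option (Option γ)))))
    (G : Subgroup (Equiv.Perm (Option (Option γ))))
    (hG : G = Cfsg.setSystemAut (O : Set (Finset (Option (Option γ)))))
    (ht : MulAction.IsMultiplyPretransitive ↥G (Option (Option γ)) 5)
    (hcard : Nat.card ↥(MulAction.stabilizer ↥G (none : Option (Option γ))
        ⊓ MulAction.stabilizer ↥G (some none : Option (Option γ))) = 443520)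
    (hsimple : IsSimpleGroup ↥(MulAction.stabilizer ↥G (none : Option (Option γ))
        ⊓ MulAction.stabilizer ↥G (some none : Option (Option γ)))) :
    Nat.card ↥(Cfsg.setSystemAut
        ((S22.lines (S22.lines O) : Finset (Finset γ)) : Set (Finset γ))) = 887040 ∧
      MulAction.IsMultiplyPretransitive ↥(Cfsg.setSystemAut
        ((S22.lines (S22.lines O) : Finset (Finset γ)) : Set (Finset γ))) γ 3 ∧
      ∃ H : Subgroup ↥(Cfsg.setSystemAut
        ((S22.lines (S22.lines O) : Finset (Finset γ)) : Set (Finset γ))),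
        H.index = 2 ∧ Cfsg.IsM22 ↥H := by
  obtain ⟨Θ⟩ := K_equiv h24 hO G hG
  obtain ⟨A, hA⟩ : ∃ A : Subgroup (Equiv.Perm γ), A = Cfsg.setSystemAut
      ((S22.lines (S22.lines O) : Finset (Finset γ)) : Set (Finset γ)) := ⟨_, rfl⟩
  obtain ⟨K, hK⟩ : ∃ K : Subgroup (Equiv.Perm γ), K = (Cfsg.setSystemAut
      ((S22.lines O : Finset (Finset (Option γ))) : Set (Finset (Option γ)))).comap
        (ocHom (γ := γ)) := ⟨_, rfl⟩
  rw [← hA]
  rw [← hK] at Θ
  have hKmem : ∀ h : Equiv.Perm γ, h ∈ K ↔ h.optionCongr ∈ Cfsg.setSystemAut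
      ((S22.lines O : Finset (Finset (Option γ))) : Set (Finset (Option γ))) := by
    intro h
    rw [hK]
    exact Iff.rfl
  have hKA : K ≤ A := by
    intro h hh
    rw [hA]
    exact down_mem (S22.lines O) h ((hKmem h).mp hh)
  have hD₁ : Cfsg.IsSteinerSystem 4 7
      ((S22.lines O : Finset (Finset (Option γ))) : Set (Finset (Option γ))) :=
    Plane4.steiner_derive 4 7 O hO
  have h23 : Fintype.card (Option γ) = 23 := by
    rw [Fintype.card_option] at h24
    omega
  have t4 := derived_trans h24 hO G hG 4 ht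
  have t3K : MulAction.IsMultiplyPretransitive ↥K γ 3 := by
    rw [hK]
    exact comap_trans _ 3 t4
  have t3 : MulAction.IsMultiplyPretransitive ↥A γ 3 := trans_mono hKA 3 t3K
  have t2 : MulAction.IsMultiplyPretransitive ↥G (Option (Option γ)) 2 := by
    haveI := ht
    exact MulAction.isMultiplyPretransitive_of_le (n := 5) (by norm_num)
      (by rw [Nat.card_eq_fintype_card, h24]; norm_num)
  obtain ⟨a, haA, haK⟩ := exists_not_K h24 hO G hG t2
  rw [← hA] at haA
  rw [← hKmem] at haK
  have hidx : (K.subgroupOf A).index = 2 := by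
    rw [Subgroup.index_eq_two_iff]
    refine ⟨⟨a, haA⟩, ?_⟩
    intro b
    simp only [Subgroup.mem_subgroupOf, Subgroup.coe_mul]
    by_cases hb : (b : Equiv.Perm γ) ∈ K
    · right
      refine ⟨hb, fun hba => ?_⟩
      have := K.mul_mem (K.inv_mem hb) hba
      rw [inv_mul_cancel_left] at this
      exact haK this
    · left
      refine ⟨?_, hb⟩
      have hb' : (b : Equiv.Perm γ)⁻¹ ∉ K := fun h => hb (by
        have := K.inv_mem h
        rwa [inv_inv] at this)
      have := mul_mem_K h23 hD₁ (h₁ := (b : Equiv.Perm γ)⁻¹) (h₂ := a)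
        (by rw [← hA]; exact A.inv_mem b.2) (by rw [← hA]; exact haA)
        (fun h => hb' ((hKmem _).mpr h)) (fun h => haK ((hKmem _).mpr h))
      rw [inv_inv] at this
      exact (hKmem _).mpr this
  obtain ⟨Ψ, -⟩ : ∃ Ψ : ↥(K.subgroupOf A) ≃* ↥(MulAction.stabilizer ↥G
      (none : Option (Option γ)) ⊓ MulAction.stabilizer ↥G (some none : Option (Option γ))),
      True := ⟨(Subgroup.subgroupOfEquivOfLe hKA).trans Θ, trivial⟩
  have hcK : Nat.card ↥(K.subgroupOf A) = 443520 := by
    rw [Nat.card_congr Ψ.toEquiv, hcard]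
  refine ⟨?_, t3, K.subgroupOf A, hidx, ?_, hcK⟩
  · have := Subgroup.card_mul_index (K.subgroupOf A)
    rw [hidx, hcK] at this
    omega
  · haveI := hsimple
    exact Ψ.isSimpleGroup

/-- the automorphism group of an S(3,6,22). -/
theorem aut_3_6_22 {α : Type*} [Fintype α] [DecidableEq α] (hα : Fintype.card α = 22)
    {B : Set (Finset α)} (hB : Cfsg.IsSteinerSystem 3 6 B) :
    Nat.card (Cfsg.setSystemAut B) = 887040 ∧
      MulAction.IsMultiplyPretransitive (Cfsg.setSystemAut B) α 3 ∧
      ∃ H : Subgroup (Cfsg.setSystemAut B), H.index = 2 ∧ Cfsg.IsM22 H := by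
  obtain ⟨Of, hOf⟩ := Cfsg.Agent.Lib.Helper9.Steiner5.exists_finset Cfsg.octads
  have hO0 : Cfsg.IsSteinerSystem 5 8 (Of : Set (Finset (Option (ZMod 23)))) := by
    rw [hOf]
    exact Cfsg.Agent.Lib.Helper9.GolayQR5.octads_isSteiner
  obtain ⟨ε, hε⟩ : ∃ ε : Option (ZMod 23) ≃ Option (Option {x : ZMod 23 // x ≠ 0}),
      ε = Equiv.optionCongr (Equiv.optionSubtypeNe (0 : ZMod 23)).symm := ⟨_, rfl⟩
  have hε0 : ε.symm none = none := by rw [hε]; rfl
  have hε1 : ε.symm (some none) = some 0 := by rw [hε]; rfl
  have h24 : Fintype.card (Option (Option {x : ZMod 23 // x ≠ 0})) = 24 := by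
    rw [← Fintype.card_congr ε]
    exact Cfsg.Agent.Lib.Helper9.GolayQR5.card_golayPt
  have hO := S22.steiner_image ε 5 8 Of hO0
  have hM : Cfsg.M24 = Cfsg.setSystemAut (Of : Set (Finset (Option (ZMod 23)))) := by
    rw [hOf]
    exact Cfsg.Agent.Lib.Helper9.GolayM24c.M24_eq_aut_octads
  have hback : (fun b : Finset (Option (Option {x : ZMod 23 // x ≠ 0})) => b.image ε.symm) ''
      ((Of.image (fun b => b.image ε) : Finset (Finset (Option (Option {x : ZMod 23 // x ≠ 0})))) :
        Set (Finset (Option (Option {x : ZMod 23 // x ≠ 0}))))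
      = (Of : Set (Finset (Option (ZMod 23)))) := by
    rw [coe_image, Set.image_image]
    have : (fun b : Finset (Option (ZMod 23)) => (b.image ε).image ε.symm) = id := by
      funext b
      rw [image_image]
      simp
    rw [this, Set.image_id]
  have ht5 : MulAction.IsMultiplyPretransitive
      ↥(Cfsg.setSystemAut (Of : Set (Finset (Option (ZMod 23))))) (Option (ZMod 23)) 5 :=
    hM ▸ Cfsg.Agent.Lib.Helper9.M24T5.five_transitive
  have ht := pretransitive_transport ε.symm hback 5 ht5
  obtain ⟨Φ⟩ := stab2_transport ε.symm hback none (some none)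
  rw [hε0, hε1] at Φ
  have hne : (none : Cfsg.GolayPt) ≠ some 0 := by simp
  have hc0 : Nat.card ↥(MulAction.stabilizer
      ↥(Cfsg.setSystemAut (Of : Set (Finset (Option (ZMod 23))))) (none : Option (ZMod 23))
      ⊓ MulAction.stabilizer
      ↥(Cfsg.setSystemAut (Of : Set (Finset (Option (ZMod 23))))) (some 0 : Option (ZMod 23)))
      = 443520 := hM ▸ Cfsg.Agent.S0378.result none (some 0) hne
  have hs0 : IsSimpleGroup ↥(MulAction.stabilizer
      ↥(Cfsg.setSystemAut (Of : Set (Finset (Option (ZMod 23))))) (none : Option (ZMod 23))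
      ⊓ MulAction.stabilizer
      ↥(Cfsg.setSystemAut (Of : Set (Finset (Option (ZMod 23))))) (some 0 : Option (ZMod 23))) :=
    hM ▸ Cfsg.Agent.S0379.result none (some 0) hne
  have href := aut_ref h24 hO _ rfl ht (by rw [Nat.card_congr Φ.toEquiv, hc0])
    (by haveI := hs0; exact Φ.isSimpleGroup)
  have hD₂ := Plane4.steiner_derive 3 6 _ (Plane4.steiner_derive 4 7 _ hO)
  have h22 : Fintype.card {x : ZMod 23 // x ≠ 0} = 22 := by
    rw [Fintype.card_option, Fintype.card_option] at h24
    omega
  obtain ⟨e, he⟩ := S22.unique_3_6_22 hα h22 hB hD₂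
  exact concl_transport e he href

end Cfsg.Agent.Lib.Helper2.AutDerived
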