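import Cfsg.Agent.Lib.Helper2.AutSys1
import Cfsg.Agent.Lib.Helper9.Hyperfocal2

set_option autoImplicit false

namespace Cfsg.Agent.Lib.Helper2.AutSys

open Cfsg Cfsg.FusionSystem Cfsg.Agent.Lib.Helper9 Cfsg.Agent.Lib.Helper2.KNorm

variable {Ω : Type*} [Group Ω] {S : Subgroup Ω}

/-- the saturated subsystem `T ⋊ ⟨b⟩` for `b ∈ Aut_F(T)` with `b ^ q = 1` -/
theorem cyc_saturated [Finite S] {p : ℕ} [Fact p.Prime] (hS : IsPGroup p S) {T : Subgroup Ω}
    (hTS : T ≤ S) {q : ℕ} (hqp : Nat.Coprime q p) {b : MulAut T} (hbq : b ^ q = 1) :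
    (autSys T (Inn T ⊔ Subgroup.zpowers b) le_sup_left).IsSaturated p := by
  haveI : Finite T := finite_of_le hTS
  exact autSys_saturated (isPGroup_of_le hS hTS) le_sup_left
    (fun a ha hap => mem_inn_of_pElement hqp hbq ha hap)

theorem cyc_subsystem (F : FusionSystem S) {T : Subgroup Ω} (hTS : T ≤ S) {b : MulAut T}
    (hb : b ∈ F.autGroup T) :
    (autSys T (Inn T ⊔ Subgroup.zpowers b) le_sup_left).IsSubsystemOf F :=
  autSys_subsystem F hTS le_sup_left
    (sup_le (inn_le_autGroup F hTS) ((Subgroup.zpowers_le).mpr hb))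

/-- an inner automorphism of a `p`-group of order dividing `q` prime to `p` is trivial -/
theorem eq_one_of_mem_inn {p q : ℕ} (hqp : Nat.Coprime q p) {T : Subgroup Ω} (hT : IsPGroup p T)
    {b : MulAut T} (hb : b ∈ Inn T) (hbq : b ^ q = 1) : b = 1 := by
  obtain ⟨k, hk⟩ := pow_eq_one_of_mem_inn hT hb
  have h1 : orderOf b ∣ q := orderOf_dvd_of_pow_eq_one hbq
  have h2 : orderOf b ∣ p ^ k := orderOf_dvd_of_pow_eq_one hk
  have hcop : Nat.Coprime q (p ^ k) := Nat.Coprime.pow_right k hqp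
  have h3 : orderOf b ∣ Nat.gcd q (p ^ k) := Nat.dvd_gcd h1 h2
  rw [hcop.gcd_eq_one, Nat.dvd_one] at h3
  exact orderOf_eq_one_iff.mp h3

/-- the commutator subgroup `[S, b]` -/
def commSub (S : Subgroup Ω) (b : MulAut S) : Subgroup Ω :=
  Subgroup.closure {y : Ω | ∃ x : S, y = (x : Ω)⁻¹ * ((b x : S) : Ω)}

theorem commSub_le (S : Subgroup Ω) (b : MulAut S) : commSub S b ≤ S := by
  unfold commSub
  rw [Subgroup.closure_le]
  rintro y ⟨x, rfl⟩
  exact S.mul_mem (S.inv_mem x.2) (b x).2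

theorem commSub_invariant (S : Subgroup Ω) (b : MulAut S) :
    ∀ y : Ω, y ∈ commSub S b → ∀ hyS : y ∈ S, ((b ⟨y, hyS⟩ : S) : Ω) ∈ commSub S b := by
  intro y hy
  unfold commSub at hy
  induction hy using Subgroup.closure_induction with
  | mem y hy =>
    intro hyS
    obtain ⟨x, rfl⟩ := hy
    have e : (⟨(x : Ω)⁻¹ * ((b x : S) : Ω), hyS⟩ : S) = x⁻¹ * b x := Subtype.ext rfl
    rw [e, map_mul, map_inv]
    exact Subgroup.subset_closure ⟨b x, rfl⟩
  | one =>
    intro hyS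
    have e : (⟨1, hyS⟩ : S) = 1 := rfl
    rw [e, map_one]
    exact Subgroup.one_mem _
  | mul x y hx hy ihx ihy =>
    intro hyS
    have hxS : x ∈ S := commSub_le S b hx
    have hyS' : y ∈ S := commSub_le S b hy
    have e : (⟨x * y, hyS⟩ : S) = ⟨x, hxS⟩ * ⟨y, hyS'⟩ := rfl
    rw [e, map_mul]
    exact Subgroup.mul_mem _ (ihx hxS) (ihy hyS')
  | inv x hx ihx =>
    intro hyS
    have hxS : x ∈ S := commSub_le S b hx
    have e : (⟨x⁻¹, hyS⟩ : S) = (⟨x, hxS⟩ : S)⁻¹ := rfl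
    rw [e, map_inv]
    exact Subgroup.inv_mem _ (ihx hxS)

/-- an automorphism acting trivially on `[S, b]` has order dividing `|S|` -/
theorem pow_card_eq_one_of_fix [Finite S] (b : MulAut S)
    (hfix : ∀ z : S, (z : Ω) ∈ commSub S b → b z = z) : b ^ Nat.card S = 1 := by
  have key : ∀ (x : S) (n : ℕ), (b ^ n) x = x * (x⁻¹ * b x) ^ n := by
    intro x n
    induction n with
    | zero => simp
    | succ n ih =>
      have ht : b (x⁻¹ * b x) = x⁻¹ * b x :=
        hfix _ (Subgroup.subset_closure ⟨x, rfl⟩)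
      rw [pow_succ', MulAut.mul_apply, ih, map_mul, map_pow, ht]
      rw [pow_succ' (x⁻¹ * b x) n, ← mul_assoc x, mul_inv_cancel_left]
  apply MulEquiv.ext
  intro x
  rw [key x (Nat.card S), pow_card_eq_one', mul_one]
  rfl

theorem sparse_main [Finite S] (p : ℕ) [hp : Fact p.Prime] (hS : IsPGroup p S) (F : FusionSystem S)
    (hF : F.IsSaturated p)
    (hsp : ∀ (T : Subgroup Ω) (E : FusionSystem T), E.IsSaturated p → E.IsSubsystemOf F →
      (T = S ∧ ∀ P : Subgroup Ω, E.Hom P = F.Hom P) ∨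
        (∀ P : Subgroup Ω, E.Hom P = (innerFusionSystem T).Hom P))
    (q : ℕ) (hq : q.Prime) (hqp : q ≠ p) (b : MulAut S) (hbF : b ∈ F.autGroup S)
    (hbo : orderOf b = q)
    (hEF : ∀ R : Subgroup Ω,
      (autSys S (Inn S ⊔ Subgroup.zpowers b) le_sup_left).Hom R = F.Hom R) :
    F.IsNormal S ∧ F.focalSubgroup = S ∧ F.hyperfocalSubgroup p = S ∧
      ∃ (q : ℕ) (β : MulAut ↥S), q.Prime ∧ q ≠ p ∧ β ∈ F.autGroup S ∧ orderOf β = q ∧
        (F.autGroup S : Subgroup (MulAut ↥S)) = Inn ↥S ⊔ Subgroup.zpowers β := by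
  have hcop : Nat.Coprime q p := (Nat.coprime_primes hq hp.out).mpr hqp
  have hbq : b ^ q = 1 := by
    rw [← hbo]
    exact pow_orderOf_eq_one b
  -- (1)
  have hnorm : F.IsNormal S := by
    refine ⟨le_rfl, ?_⟩
    intro P φ hφ
    rw [← hEF P] at hφ
    obtain ⟨hP, a, ha, he⟩ := hφ
    have hle : P ⊔ S ≤ S := sup_le hP le_rfl
    refine ⟨(S.subtype.comp a.toMonoidHom).comp (Subgroup.inclusion hle), ?_, ?_, ?_⟩
    · rw [← hEF (P ⊔ S)]
      exact ⟨hle, a, ha, fun x => rfl⟩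
    · intro x
      rw [he]
      rfl
    · ext y
      constructor
      · rintro ⟨z, -, rfl⟩
        exact (a _).2
      · intro hy
        refine ⟨⟨((a⁻¹ ⟨y, hy⟩ : S) : Ω), Subgroup.mem_sup_right (a⁻¹ ⟨y, hy⟩).2⟩, ?_, ?_⟩
        · exact Subgroup.mem_subgroupOf.mpr (a⁻¹ ⟨y, hy⟩).2
        · show ((a ⟨((a⁻¹ ⟨y, hy⟩ : S) : Ω), _⟩ : S) : Ω) = y
          have e : (⟨((a⁻¹ ⟨y, hy⟩ : S) : Ω), (a⁻¹ ⟨y, hy⟩).2⟩ : S) = a⁻¹ ⟨y, hy⟩ := rfl
          rw [e, MulAut.apply_inv_self]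
  -- (4)
  have hAut : (F.autGroup S : Subgroup (MulAut ↥S)) = Inn ↥S ⊔ Subgroup.zpowers b := by
    ext α
    rw [mem_autGroup_iff F le_rfl, ← hEF S]
    constructor
    · rintro ⟨_, a, ha, he⟩
      have e : α = a := by
        apply MulEquiv.ext
        intro x
        apply Subtype.ext
        exact he x
      rw [e]
      exact ha
    · intro hα
      exact ⟨le_rfl, α, hα, fun x => rfl⟩
  -- (3)
  have hT₁S : commSub S b ≤ S := commSub_le S b
  have hT₁hyp : commSub S b ≤ F.hyperfocalSubgroup p := by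
    unfold commSub
    rw [Subgroup.closure_le]
    rintro y ⟨x, rfl⟩
    have hres : (⟨b, hbF⟩ : F.autGroup S) ∈ pResidual p (F.autGroup S) := by
      apply Subgroup.subset_closure
      show Nat.Coprime (orderOf (⟨b, hbF⟩ : F.autGroup S)) p
      rw [Subgroup.orderOf_mk, hbo]
      exact hcop
    exact Subgroup.subset_closure ⟨S, ⟨b, hbF⟩, x, le_rfl, hres, rfl⟩
  have hT₁eq : commSub S b = S := by
    have hψ : (S.subtype.comp b.toMonoidHom).comp (Subgroup.inclusion hT₁S) ∈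
        F.Hom (commSub S b) := restrict_mem F (hom_of_mem_autGroup F le_rfl hbF) hT₁S
    have hψm : ∀ x : ↥(commSub S b),
        ((S.subtype.comp b.toMonoidHom).comp (Subgroup.inclusion hT₁S)) x ∈ commSub S b :=
      fun x => commSub_invariant S b x x.2 (hT₁S x.2)
    obtain ⟨b₁, hb₁F, hb₁e⟩ := exists_aut_of_hom F hψ (range_eq_of_forall_mem F hψ hψm)
    have hb₁e' : ∀ x : ↥(commSub S b), ((b₁ x : ↥(commSub S b)) : Ω) =
        ((b ⟨x, hT₁S x.2⟩ : S) : Ω) := fun x => hb₁e x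
    have hb₁q : b₁ ^ q = 1 := by
      apply MulEquiv.ext
      intro x
      apply Subtype.ext
      rw [pow_restrict hT₁S hb₁e' q x, hbq]
      rfl
    rcases hsp (commSub S b) _ (cyc_saturated hS hT₁S hcop hb₁q) (cyc_subsystem F hT₁S hb₁F) with
      ⟨h, -⟩ | hinner
    · exact h
    · exfalso
      have hb₁inn : b₁ ∈ Inn ↥(commSub S b) :=
        le_inn_of_autSys_inner hinner (Subgroup.mem_sup_right (Subgroup.mem_zpowers b₁))
      have hb₁one : b₁ = 1 := eq_one_of_mem_inn hcop (isPGroup_of_le hS hT₁S) hb₁inn hb₁q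
      have hfix : ∀ z : S, (z : Ω) ∈ commSub S b → b z = z := by
        intro z hz
        apply Subtype.ext
        have h1 := hb₁e' ⟨z, hz⟩
        rw [hb₁one] at h1
        exact h1.symm
      have h2 := pow_card_eq_one_of_fix b hfix
      obtain ⟨m, hm⟩ := IsPGroup.iff_card.mp hS
      rw [hm] at h2
      have h3 : q ∣ p ^ m := by
        rw [← hbo]
        exact orderOf_dvd_of_pow_eq_one h2
      exact hqp ((Nat.prime_dvd_prime_iff_eq hq hp.out).mp (hq.dvd_of_dvd_pow h3))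
  have hhyp : F.hyperfocalSubgroup p = S := by
    apply le_antisymm (hyperfocal_le F p)
    exact hT₁eq.ge.trans hT₁hyp
  -- (2)
  have hfoc : F.focalSubgroup = S := by
    apply le_antisymm
    · unfold focalSubgroup
      rw [Subgroup.closure_le]
      rintro y ⟨P, φ, x, hφ, rfl⟩
      exact S.mul_mem (S.inv_mem (hom_le F hφ x.2)) (hom_mem F hφ x)
    · have h1 : F.hyperfocalSubgroup p ≤ F.focalSubgroup := by
        unfold hyperfocalSubgroup focalSubgroup
        apply Subgroup.closure_mono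
        rintro y ⟨P, α, x, hPS, -, rfl⟩
        exact ⟨P, P.subtype.comp (α : MulAut P).toMonoidHom, x,
          hom_of_mem_autGroup F hPS α.2, rfl⟩
      rw [hhyp] at h1
      exact h1
  exact ⟨hnorm, hfoc, hhyp, q, b, hq, hqp, hbF, hbo, hAut⟩

end Cfsg.Agent.Lib.Helper2.AutSys
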