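import Mathlib
import Cfsg.Prelude.Def_PLocal
import Cfsg.Agent.Lib.Helper1.PU2770J

/-!
# S2769 / S2768 (rank-one pushing up, Baumann argument): external form of `𝒜(S)`, `J(S)`, `Z(J(S))`,
`C_S(Z(J(S)))` and first facts.
-/

set_option autoImplicit false

namespace Cfsg.Agent.Lib.Helper2.BAU

variable {G : Type*} [Group G]

/-- `A` is an abelian subgroup of `S` of maximal order (as a subgroup of `G`) -/
def IsMaxAb (S A : Subgroup G) : Prop :=
  A ≤ S ∧ (∀ a ∈ A, ∀ b ∈ A, a * b = b * a) ∧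
  ∀ B : Subgroup G, B ≤ S → (∀ a ∈ B, ∀ b ∈ B, a * b = b * a) → Nat.card B ≤ Nat.card A

/-- `J(S)` -/
def JJ (S : Subgroup G) : Subgroup G := sSup {A | IsMaxAb S A}

/-- `Z(J(S))` -/
def ZJ (S : Subgroup G) : Subgroup G := JJ S ⊓ Subgroup.centralizer (JJ S : Set G)

/-- `C_S(Z(J(S)))` -/
def Jt (S : Subgroup G) : Subgroup G := S ⊓ Subgroup.centralizer (ZJ S : Set G)

theorem isMaxAb_iff_exists [Finite G] (S A : Subgroup G) :
    IsMaxAb S A ↔ ∃ A₀ ∈ Cfsg.maxAbelianSubgroups S, A₀.map S.subtype = A := by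
  constructor
  · rintro ⟨hAS, hAc, hmax⟩
    refine ⟨A.subgroupOf S, ⟨?_, ?_⟩, ?_⟩
    · exact Cfsg.Agent.Lib.Helper1.PU2770J.isMulCommutative_of_comm _ (by
        intro a ha b hb
        rw [Subgroup.mem_subgroupOf] at ha hb
        exact Subtype.ext (hAc a.1 ha b.1 hb))
    · intro B₀ hB₀
      have hc := Cfsg.Agent.Lib.Helper1.PU2770J.comm_of_isMulCommutative B₀ hB₀
      have h1 : Nat.card (B₀.map S.subtype) = Nat.card B₀ :=
        Nat.card_congr (B₀.equivMapOfInjective S.subtype S.subtype_injective).symm.toEquiv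
      have h2 : Nat.card (A.subgroupOf S) = Nat.card A :=
        Nat.card_congr (Subgroup.subgroupOfEquivOfLe hAS).toEquiv
      rw [h2, ← h1]
      apply hmax _ (Subgroup.map_subtype_le B₀)
      rintro _ ⟨a, ha, rfl⟩ _ ⟨b, hb, rfl⟩
      rw [← map_mul, ← map_mul, hc a ha b hb]
    · rw [Subgroup.subgroupOf_map_subtype]
      exact inf_of_le_left hAS
  · rintro ⟨A₀, hA₀, rfl⟩
    obtain ⟨-, h⟩ := Cfsg.Agent.Lib.Helper1.PU2770J.maxab_facts S
    obtain ⟨h1, -, h3, h4, -⟩ := h A₀ hA₀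
    exact ⟨h1, h3, h4⟩

theorem exists_isMaxAb [Finite G] (S : Subgroup G) : ∃ A, IsMaxAb S A := by
  obtain ⟨⟨A₀, hA₀⟩, -⟩ := Cfsg.Agent.Lib.Helper1.PU2770J.maxab_facts S
  exact ⟨_, (isMaxAb_iff_exists S _).2 ⟨A₀, hA₀, rfl⟩⟩

/-- bridge: the Prelude's `J(S)` is `JJ S` -/
theorem thompsonAOf_eq [Finite G] (S : Subgroup G) : Cfsg.thompsonSubgroupAOf S = JJ S := by
  rw [Cfsg.Agent.Lib.Helper1.PU2770J.thompsonAOf_eq_iSup]
  unfold JJ
  apply le_antisymm
  · apply iSup_le
    rintro ⟨A₀, hA₀⟩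
    exact le_sSup ((isMaxAb_iff_exists S _).2 ⟨A₀, hA₀, rfl⟩)
  · apply sSup_le
    intro A hA
    obtain ⟨A₀, hA₀, rfl⟩ := (isMaxAb_iff_exists S A).1 hA
    exact le_iSup (fun A₀ : {A₀ : Subgroup S // A₀ ∈ Cfsg.maxAbelianSubgroups S} =>
      (A₀ : Subgroup S).map S.subtype) ⟨A₀, hA₀⟩

theorem centerThompsonAOf_eq [Finite G] (S : Subgroup G) : Cfsg.centerThompsonAOf S = ZJ S := by
  unfold Cfsg.centerThompsonAOf ZJ
  rw [thompsonAOf_eq]

theorem le_JJ {S A : Subgroup G} (hA : IsMaxAb S A) : A ≤ JJ S := le_sSup hA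

theorem JJ_le (S : Subgroup G) : JJ S ≤ S := sSup_le (fun _ hA => hA.1)

theorem ZJ_le_JJ (S : Subgroup G) : ZJ S ≤ JJ S := inf_le_left

theorem ZJ_le (S : Subgroup G) : ZJ S ≤ S := (ZJ_le_JJ S).trans (JJ_le S)

theorem JJ_le_Jt (S : Subgroup G) : JJ S ≤ Jt S := by
  refine le_inf (JJ_le S) ?_
  intro x hx
  rw [Subgroup.mem_centralizer_iff]
  intro z hz
  exact (Subgroup.mem_centralizer_iff.1 hz.2 x hx).symm

theorem Jt_le (S : Subgroup G) : Jt S ≤ S := inf_le_left

/-- a finite subgroup containing another one of at least its order equals it -/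
theorem eq_of_le_of_card_le [Finite G] {H K : Subgroup G} (h : H ≤ K)
    (hc : Nat.card K ≤ Nat.card H) : H = K := by
  have hcs : (H : Set G) = (K : Set G) := by
    apply Set.eq_of_subset_of_ncard_le h _ (Set.toFinite _)
    have e1 : (K : Set G).ncard = Nat.card K := by rw [← Nat.card_coe_set_eq]; rfl
    have e2 : (H : Set G).ncard = Nat.card H := by rw [← Nat.card_coe_set_eq]; rfl
    rw [e1, e2]; exact hc
  exact SetLike.coe_injective hcs

/-- two elementwise commuting abelian subgroups generate an abelian subgroup -/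
theorem comm_sup {H K : Subgroup G} (hH : ∀ a ∈ H, ∀ b ∈ H, a * b = b * a)
    (hK : ∀ a ∈ K, ∀ b ∈ K, a * b = b * a) (hHK : ∀ a ∈ H, ∀ b ∈ K, a * b = b * a) :
    ∀ a ∈ H ⊔ K, ∀ b ∈ H ⊔ K, a * b = b * a := by
  have key : H ⊔ K ≤ Subgroup.centralizer ((H ⊔ K : Subgroup G) : Set G) := by
    rw [sup_le_iff]
    constructor
    · intro a ha
      rw [Subgroup.mem_centralizer_iff]
      intro b hb
      have : (H ⊔ K : Subgroup G) ≤ Subgroup.centralizer ({a} : Set G) := by
        rw [sup_le_iff]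
        constructor
        · intro c hc
          rw [Subgroup.mem_centralizer_iff]
          intro d hd
          rw [Set.mem_singleton_iff] at hd; subst hd
          exact hH d ha c hc
        · intro c hc
          rw [Subgroup.mem_centralizer_iff]
          intro d hd
          rw [Set.mem_singleton_iff] at hd; subst hd
          exact hHK d ha c hc
      exact (Subgroup.mem_centralizer_iff.1 (this hb) a rfl).symm
    · intro a ha
      rw [Subgroup.mem_centralizer_iff]
      intro b hb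
      have : (H ⊔ K : Subgroup G) ≤ Subgroup.centralizer ({a} : Set G) := by
        rw [sup_le_iff]
        constructor
        · intro c hc
          rw [Subgroup.mem_centralizer_iff]
          intro d hd
          rw [Set.mem_singleton_iff] at hd; subst hd
          exact (hHK c hc d ha).symm
        · intro c hc
          rw [Subgroup.mem_centralizer_iff]
          intro d hd
          rw [Set.mem_singleton_iff] at hd; subst hd
          exact hK d ha c hc
      exact (Subgroup.mem_centralizer_iff.1 (this hb) a rfl).symm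
  intro a ha b hb
  exact (Subgroup.mem_centralizer_iff.1 (key ha) b hb).symm

/-- (N3) `Z(J(S))` lies in every member of `𝒜(S)` -/
theorem ZJ_le_of_isMaxAb [Finite G] {S B : Subgroup G} (hB : IsMaxAb S B) : ZJ S ≤ B := by
  have hZc : ∀ a ∈ ZJ S, ∀ b ∈ ZJ S, a * b = b * a := by
    intro a ha b hb
    exact (Subgroup.mem_centralizer_iff.1 hb.2 a ha.1)
  have hBZ : ∀ a ∈ B, ∀ b ∈ ZJ S, a * b = b * a := by
    intro a ha b hb
    exact (Subgroup.mem_centralizer_iff.1 hb.2 a (le_JJ hB ha))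
  have hab := comm_sup hB.2.1 hZc hBZ
  have hle : B ⊔ ZJ S ≤ S := sup_le hB.1 (ZJ_le S)
  have hcard := hB.2.2 _ hle hab
  have := eq_of_le_of_card_le (le_sup_left : B ≤ B ⊔ ZJ S) hcard
  rw [this]
  exact le_sup_right

/-- (N2) `Z(S)` lies in every member of `𝒜(S)`, hence in `Z(J(S))` -/
theorem center_le_of_isMaxAb [Finite G] {S B : Subgroup G} (hB : IsMaxAb S B) :
    S ⊓ Subgroup.centralizer (S : Set G) ≤ B := by
  have hZc : ∀ a ∈ S ⊓ Subgroup.centralizer (S : Set G),
      ∀ b ∈ S ⊓ Subgroup.centralizer (S : Set G), a * b = b * a := by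
    intro a ha b hb
    exact (Subgroup.mem_centralizer_iff.1 hb.2 a ha.1)
  have hBZ : ∀ a ∈ B, ∀ b ∈ S ⊓ Subgroup.centralizer (S : Set G), a * b = b * a := by
    intro a ha b hb
    exact (Subgroup.mem_centralizer_iff.1 hb.2 a (hB.1 ha))
  have hab := comm_sup hB.2.1 hZc hBZ
  have hle : B ⊔ (S ⊓ Subgroup.centralizer (S : Set G)) ≤ S := sup_le hB.1 inf_le_left
  have hcard := hB.2.2 _ hle hab
  have := eq_of_le_of_card_le (le_sup_left : B ≤ B ⊔ (S ⊓ Subgroup.centralizer (S : Set G))) hcard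
  rw [this]
  exact le_sup_right

theorem center_le_ZJ [Finite G] (S : Subgroup G) :
    S ⊓ Subgroup.centralizer (S : Set G) ≤ ZJ S := by
  obtain ⟨A, hA⟩ := exists_isMaxAb S
  refine le_inf ((center_le_of_isMaxAb hA).trans (le_JJ hA)) ?_
  intro x hx
  rw [Subgroup.mem_centralizer_iff]
  intro y hy
  exact (Subgroup.mem_centralizer_iff.1 hx.2 y (JJ_le S hy))

end Cfsg.Agent.Lib.Helper2.BAU
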