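import Mathlib
import Cfsg.Prelude.Def_PLocal
import Cfsg.Agent.Lib.Helper2.BAUDefs

/-!
# S2769 / S2768 : the abstract frame of the Baumann argument

`Frame S Q` is the standing hypothesis (`S` a Sylow `p`-subgroup, `Q = O_p(G)`), in a form free of `p`,
of the maximal subgroup `M` and of `PSL₂`.
-/

set_option autoImplicit false

namespace Cfsg.Agent.Lib.Helper2.BAU

variable {G : Type*} [Group G]

/-- `Z(S)` as a subgroup of `G` -/
def Zc (S : Subgroup G) : Subgroup G := S ⊓ Subgroup.centralizer (S : Set G)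

/-- `W = ⟨Z(S)^G⟩` -/
def WW (S : Subgroup G) : Subgroup G := Subgroup.normalClosure (Zc S : Set G)

/-- `Ŵ = Z(J(S)) W` -/
def What (S : Subgroup G) : Subgroup G := ZJ S ⊔ WW S

/-- `Q₀ = C_S(Ŵ)` -/
def Q0 (S : Subgroup G) : Subgroup G := S ⊓ Subgroup.centralizer (What S : Set G)

/-- `L = ⟨J(S)^G⟩` -/
def LL (S : Subgroup G) : Subgroup G := Subgroup.normalClosure (JJ S : Set G)

/-- `L̃ = ⟨C_S(Z(J(S)))^G⟩` -/
def Lt (S : Subgroup G) : Subgroup G := Subgroup.normalClosure (Jt S : Set G)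

/-- the standing hypothesis of the abstract argument -/
structure Frame (S Q : Subgroup G) : Prop where
  /-- from the uniqueness of the maximal subgroup over `S` -/
  dich : ∀ N : Subgroup G, N.Normal → N ⊔ S = ⊤ ∨ (N ⊓ S).Normal
  normal : Q.Normal
  le : Q ≤ S
  /-- `Q` contains every normal subgroup of `G` inside `S` -/
  max : ∀ N : Subgroup G, N.Normal → N ≤ S → N ≤ Q
  cent : Subgroup.centralizer (Q : Set G) ≤ Q
  /-- `S / Q` is abelian -/
  ab : ∀ a ∈ S, ∀ b ∈ S, a * b * a⁻¹ * b⁻¹ ∈ Q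
  /-- an element of `N_G(S)` acting irreducibly on `S / Q` -/
  irr : ∃ h ∈ Subgroup.normalizer (S : Set G), ∀ B : Subgroup G,
      Q ≤ B → B ≤ S → (∀ b ∈ B, h * b * h⁻¹ ∈ B) → B = Q ∨ B = S
  /-- no over-offenders on normal subgroups of `Z(Q)` not centralised by `O^p(G)` -/
  kp : ∀ V : Subgroup G, V.Normal → V ≤ Q → Q ≤ Subgroup.centralizer (V : Set G) →
      Subgroup.centralizer (V : Set G) ⊔ S ≠ ⊤ → ∀ A : Subgroup G, A ≤ S →
      Nat.card A * Nat.card (V ⊓ Subgroup.centralizer (A : Set G) : Subgroup G) ≤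
        Nat.card (A ⊓ Q : Subgroup G) * Nat.card V

end Cfsg.Agent.Lib.Helper2.BAU
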