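import Mathlib
import Cfsg.Prelude.Def_PLocal
import Cfsg.Agent.Lib.Helper2.BAUFrame

/-!
# S2769 / S2768 : units (CEN), (S4) and small facts
-/

set_option autoImplicit false

namespace Cfsg.Agent.Lib.Helper2.BAU

open scoped commutatorElement

variable {G : Type*} [Group G]

/-- (CEN) a subgroup centralised by `C` and by `S` with `C ⊔ S = ⊤` is central -/
theorem le_center_of_sup (C S Z : Subgroup G) (h : C ⊔ S = ⊤)
    (hS : S ≤ Subgroup.centralizer (Z : Set G)) (hC : C ≤ Subgroup.centralizer (Z : Set G)) :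
    Z ≤ Subgroup.center G := by
  have htop : Subgroup.centralizer (Z : Set G) = ⊤ := by
    apply top_le_iff.1
    rw [← h]
    exact sup_le hC hS
  intro z hz
  rw [Subgroup.mem_center_iff]
  intro g
  have hg : g ∈ Subgroup.centralizer (Z : Set G) := by rw [htop]; trivial
  exact (Subgroup.mem_centralizer_iff.1 hg z hz).symm

theorem normal_of_le_center (X : Subgroup G) (h : X ≤ Subgroup.center G) : X.Normal := by
  constructor
  intro x hx g
  have := Subgroup.mem_center_iff.1 (h hx) g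
  have e : g * x * g⁻¹ = x := by rw [this]; group
  rw [e]; exact hx

/-- `S` centralises `Z(S)` -/
theorem le_centralizer_Zc (S : Subgroup G) : S ≤ Subgroup.centralizer (Zc S : Set G) :=
  fun s hs => Subgroup.mem_centralizer_iff.2 (fun z hz =>
    (Subgroup.mem_centralizer_iff.1 hz.2 s hs).symm)

/-- (S4) -/
theorem s4 (S Q : Subgroup G) (hLS : LL S ⊔ S = ⊤) (hJQ : JJ S ⊔ Q = S) (hQn : Q.Normal)
    (hs3 : ∀ u ∈ What S, ∀ g ∈ Q, ∀ c ∈ LL S,
      c * (u * g * u⁻¹ * g⁻¹) = (u * g * u⁻¹ * g⁻¹) * c) :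
    ⁅ZJ S, S⁆ ⊓ Zc S ≤ Subgroup.center G := by
  have hJL : JJ S ≤ LL S := Subgroup.le_normalClosure
  have hZW : ZJ S ≤ What S := le_sup_left
  have key : ⁅ZJ S, S⁆ ≤ Subgroup.centralizer (LL S : Set G) := by
    rw [Subgroup.commutator_le]
    intro u hu s hs
    rw [← hJQ] at hs
    obtain ⟨j, hj, g, hg, rfl⟩ := (Subgroup.mem_sup_of_normal_right (ht := hQn)).1 hs
    have huj : u * j = j * u := (Subgroup.mem_centralizer_iff.1 hu.2 j hj).symm
    have hujinv : u⁻¹ * j⁻¹ = j⁻¹ * u⁻¹ := by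
      rw [← mul_inv_rev, ← mul_inv_rev, huj]
    have hc := hs3 u (hZW hu) g hg
    have e1 : ⁅u, j * g⁆ = j * (u * g * u⁻¹ * g⁻¹) * j⁻¹ := by
      rw [commutatorElement_def]
      calc u * (j * g) * u⁻¹ * (j * g)⁻¹ = (u * j) * g * u⁻¹ * g⁻¹ * j⁻¹ := by group
        _ = (j * u) * g * u⁻¹ * g⁻¹ * j⁻¹ := by rw [huj]
        _ = j * (u * g * u⁻¹ * g⁻¹) * j⁻¹ := by group
    have e2 : j * (u * g * u⁻¹ * g⁻¹) * j⁻¹ = u * g * u⁻¹ * g⁻¹ := by
      rw [hc j (hJL hj)]; group
    rw [e1, e2]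
    rw [Subgroup.mem_centralizer_iff]
    intro c hc'
    exact hc c hc'
  apply le_center_of_sup (LL S) S _ hLS
  · intro s hs
    rw [Subgroup.mem_centralizer_iff]
    intro x hx
    exact (Subgroup.mem_centralizer_iff.1 hx.2.2 s hs).symm
  · intro c hc
    rw [Subgroup.mem_centralizer_iff]
    intro x hx
    exact (Subgroup.mem_centralizer_iff.1 (key hx.1) c hc).symm

end Cfsg.Agent.Lib.Helper2.BAU
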