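import Mathlib
import Cfsg.Prelude.Def_PLocal
import Cfsg.Agent.Lib.Helper2.BAUFrame
import Cfsg.Agent.Lib.Helper3.BAUa

/-!
# S2769 / S2768 : unit (N5), `Ŵ = Z(J(S)) W` is abelian and normal, `[Ŵ, L] ≤ W`
-/

set_option autoImplicit false

namespace Cfsg.Agent.Lib.Helper2.BAU

variable {G : Type*} [Group G]

/-- the elements `c` with `[Z, c] ⊆ W`, for `W` normal -/
def commInto (Z W : Subgroup G) [hW : W.Normal] : Subgroup G where
  carrier := {c | ∀ z ∈ Z, z * c * z⁻¹ * c⁻¹ ∈ W}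
  one_mem' := by
    intro z _
    have : z * 1 * z⁻¹ * 1⁻¹ = 1 := by group
    rw [this]; exact W.one_mem
  mul_mem' := by
    intro c d hc hd z hz
    have e : z * (c * d) * z⁻¹ * (c * d)⁻¹ =
        (z * c * z⁻¹ * c⁻¹) * (c * (z * d * z⁻¹ * d⁻¹) * c⁻¹) := by group
    rw [e]
    exact W.mul_mem (hc z hz) (hW.conj_mem _ (hd z hz) c)
  inv_mem' := by
    intro c hc z hz
    have e : z * c⁻¹ * z⁻¹ * c⁻¹⁻¹ = c⁻¹ * (z * c * z⁻¹ * c⁻¹)⁻¹ * c⁻¹⁻¹ := by group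
    rw [e]
    exact hW.conj_mem _ (W.inv_mem (hc z hz)) c⁻¹

theorem mem_commInto (Z W : Subgroup G) [W.Normal] (c : G) :
    c ∈ commInto Z W ↔ ∀ z ∈ Z, z * c * z⁻¹ * c⁻¹ ∈ W := Iff.rfl

/-- a subgroup `N` all of whose elements map `H` into itself normalises `H` -/
theorem le_normalizer_of_forall (H N : Subgroup G) (hN : ∀ x ∈ N, ∀ y ∈ H, x * y * x⁻¹ ∈ H) :
    N ≤ Subgroup.normalizer (H : Set G) := by
  intro x hx
  rw [Subgroup.mem_normalizer_iff]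
  intro y
  constructor
  · exact hN x hx y
  · intro h
    have := hN x⁻¹ (N.inv_mem hx) _ h
    have e : x⁻¹ * (x * y * x⁻¹) * x⁻¹⁻¹ = y := by group
    rwa [e] at this

/-- (N5) -/
theorem n5 [Finite G] (S : Subgroup G) (hLS : LL S ⊔ S = ⊤)
    (hWc : ∀ a ∈ WW S, ∀ b ∈ WW S, a * b = b * a)
    (hZW : ∀ z ∈ ZJ S, ∀ w ∈ WW S, z * w = w * z)
    (hf3 : ∀ z ∈ ZJ S, ∀ A : Subgroup G, IsMaxAb S A → ∀ a ∈ A, ∀ g : G,
      z * (g * a * g⁻¹) * z⁻¹ * (g * a * g⁻¹)⁻¹ ∈ WW S) :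
    (What S).Normal ∧ (∀ a ∈ What S, ∀ b ∈ What S, a * b = b * a) ∧
    ∀ u ∈ What S, ∀ c ∈ LL S, u * c * u⁻¹ * c⁻¹ ∈ WW S := by
  haveI hWn : (WW S).Normal := Subgroup.normalClosure_normal
  have hZc : ∀ a ∈ ZJ S, ∀ b ∈ ZJ S, a * b = b * a := fun a ha b hb =>
    (Subgroup.mem_centralizer_iff.1 hb.2 a ha.1)
  -- `L ≤ commInto (ZJ S) W`
  have hL : LL S ≤ commInto (ZJ S) (WW S) := by
    unfold LL Subgroup.normalClosure
    rw [Subgroup.closure_le]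
    intro c hc
    rw [Group.mem_conjugatesOfSet_iff] at hc
    obtain ⟨j, hj, hjc⟩ := hc
    rw [isConj_iff] at hjc
    obtain ⟨g, rfl⟩ := hjc
    -- `j ∈ JJ S`, the join of the members of `𝒜(S)`
    have hJ : JJ S ≤ (commInto (ZJ S) (WW S)).comap (MulAut.conj g).toMonoidHom := by
      unfold JJ
      apply sSup_le
      intro A hA a ha
      rw [Subgroup.mem_comap]
      show g * a * g⁻¹ ∈ commInto (ZJ S) (WW S)
      intro z hz
      exact hf3 z hz A hA a ha g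
    exact hJ hj
  -- extension from `ZJ S` to `What S`
  have hc : ∀ u ∈ What S, ∀ c ∈ LL S, u * c * u⁻¹ * c⁻¹ ∈ WW S := by
    intro u hu c hc
    unfold What at hu
    obtain ⟨z, hz, w, hw, rfl⟩ := (Subgroup.mem_sup_of_normal_right (ht := hWn)).1 hu
    have e : z * w * c * (z * w)⁻¹ * c⁻¹ =
        z * (w * (c * w⁻¹ * c⁻¹)) * z⁻¹ * (z * c * z⁻¹ * c⁻¹) := by group
    rw [e]
    refine (WW S).mul_mem (hWn.conj_mem _ ((WW S).mul_mem hw ?_) z) (hL hc z hz)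
    exact hWn.conj_mem _ ((WW S).inv_mem hw) c
  refine ⟨?_, comm_sup hZc hWc hZW, hc⟩
  -- normality
  rw [← Subgroup.normalizer_eq_top_iff]
  apply top_le_iff.1
  rw [← hLS]
  apply sup_le
  · apply le_normalizer_of_forall
    intro c hcL u hu
    -- `c u c⁻¹ = u * (u⁻¹ c u c⁻¹) `, and `u⁻¹ c u c⁻¹ = [u⁻¹, c] ∈ W`
    have h1 := hc u⁻¹ ((What S).inv_mem hu) c hcL
    have e : c * u * c⁻¹ = u * (u⁻¹ * c * u⁻¹⁻¹ * c⁻¹) := by group
    rw [e]
    exact (What S).mul_mem hu ((le_sup_right : WW S ≤ What S) h1)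
  · apply le_normalizer_of_forall
    intro s hs u hu
    unfold What at hu ⊢
    obtain ⟨z, hz, w, hw, rfl⟩ := (Subgroup.mem_sup_of_normal_right (ht := hWn)).1 hu
    have e : s * (z * w) * s⁻¹ = (s * z * s⁻¹) * (s * w * s⁻¹) := by group
    rw [e]
    have hsn : s ∈ Subgroup.normalizer (S : Set G) := Subgroup.le_normalizer hs
    exact Subgroup.mul_mem_sup
      ((Cfsg.Agent.Lib.Helper3.BAUa.conj_mem S s hsn).2.1 z hz) (hWn.conj_mem _ hw s)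

end Cfsg.Agent.Lib.Helper2.BAU
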