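import Mathlib
import Cfsg.Prelude.Def_PLocal
import Cfsg.Agent.Lib.Helper2.BAUFrame
import Cfsg.Agent.Lib.Helper2.BAUMain1
import Cfsg.Agent.Lib.Helper4.BAU4
import Cfsg.Agent.Lib.Helper3.BAUa
import Cfsg.Agent.Lib.Helper8.BAUw
import Cfsg.Agent.Lib.Helper8.BAUn
import Cfsg.Agent.Lib.Helper2.BAUN5
import Cfsg.Agent.Lib.Helper9.PU2768G
import Cfsg.Agent.Lib.Helper9.SylInfNormal

/-!
# S2769 / S2768 : the abstract theorems `thmA`, `thmB` assembled from the farm units
-/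

set_option autoImplicit false

namespace Cfsg.Agent.Lib.Helper2.BAU

open scoped commutatorElement

variable {G : Type*} [Group G] [Finite G]


open Cfsg.Agent.Lib.Helper4.BAU4 Cfsg.Agent.Lib.Helper3.BAUa Cfsg.Agent.Lib.Helper8.BAUw
  Cfsg.Agent.Lib.Helper8.BAUn

/-- everything of case IIb needed by both statements -/
theorem caseIIb (S Q : Subgroup G) (F : Frame S Q) (hJ : ¬ JJ S ≤ Q)
    (hW : Subgroup.centralizer (WW S : Set G) ⊔ S ≠ ⊤) :
    LL S ⊔ S = ⊤ ∧ JJ S ⊔ Q = S ∧ (Q0 S).Normal ∧ Q0 S = Jt S ⊓ Q ∧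
    (∀ x ∈ Lt S, ∀ g ∈ Q, x * g * x⁻¹ * g⁻¹ ∈ Q0 S) ∧
    ⁅ZJ S, S⁆ ⊓ Zc S ≤ Subgroup.center G := by
  obtain ⟨hWQ, hQW⟩ := WW_le S Q F
  have hWc : ∀ a ∈ WW S, ∀ b ∈ WW S, a * b = b * a := by
    intro a ha b hb
    exact (Subgroup.mem_centralizer_iff.1 (hQW (hWQ hb)) a ha)
  have hn4 := n4 S Q F hW
  obtain ⟨hZW, hf3⟩ := f3 S Q hQW hn4
  have hLS := LL_sup S Q F hJ
  obtain ⟨hWn, hWhc, hWL⟩ := n5 S hLS hWc hZW hf3
  have hJQ := n6 S Q F hJ
  obtain ⟨hQ0n, hQ0⟩ := s1 S Q F hW hWn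
  have hs2 := s2 S Q F hQ0n hQ0
  have hLLt : LL S ≤ Lt S := Subgroup.normalClosure_mono (JJ_le_Jt S)
  have hs3 := s3 S Q hQW hWL (fun x hx => hs2 x (hLLt hx))
  exact ⟨hLS, hJQ, hQ0n, hQ0, hs2, s4 S Q hLS hJQ F.normal hs3⟩

/-- `Z(S) ≤ Z(G)` when `C_G(W) S = G` -/
theorem Zc_le_center_of_top (S : Subgroup G)
    (hW : Subgroup.centralizer (WW S : Set G) ⊔ S = ⊤) : Zc S ≤ Subgroup.center G :=
  le_center_of_sup _ S _ hW (le_centralizer_Zc S)
    (Subgroup.centralizer_le (Subgroup.subset_normalClosure))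

/-- abstract S2769 -/
theorem thmA (S Q : Subgroup G) (F : Frame S Q) :
    (⁅ZJ S, S⁆ ⊓ Zc S).Normal ∨ (Jt S).Normal := by
  have hcen : Zc S ≤ Subgroup.center G → (⁅ZJ S, S⁆ ⊓ Zc S).Normal := fun h =>
    normal_of_le_center _ (inf_le_right.trans h)
  by_cases hJ : JJ S ≤ Q
  · rcases case_one S Q F hJ with h | h
    · exact Or.inr h
    · exact Or.inl (hcen h)
  · by_cases hW : Subgroup.centralizer (WW S : Set G) ⊔ S = ⊤
    · exact Or.inl (hcen (Zc_le_center_of_top S hW))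
    · exact Or.inl (normal_of_le_center _ (caseIIb S Q F hJ hW).2.2.2.2.2)

/-- `x` normalises `H` as soon as `N`, a subgroup containing `x`, maps `H` into itself -/
theorem mem_normalizer_of_forall (H N : Subgroup G) (hN : ∀ x ∈ N, ∀ y ∈ H, x * y * x⁻¹ ∈ H) :
    N ≤ Subgroup.normalizer (H : Set G) := by
  intro x hx
  rw [Subgroup.mem_normalizer_iff]
  intro y
  constructor
  · exact hN x hx y
  · intro h
    have := hN x⁻¹ (N.inv_mem hx) _ h
    have e : x⁻¹ * (x * y * x⁻¹) * x⁻¹⁻¹ = y := by group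
    rwa [e] at this

/-- abstract S2768 -/
theorem thmB {p : ℕ} [Fact p.Prime] (S : Sylow p G) (Q : Subgroup G) (F : Frame (S : Subgroup G) Q)
    (hZ : ¬ (Zc (S : Subgroup G)).Normal) :
    ∃ P : Sylow p ↥(Lt (S : Subgroup G)),
      (P : Subgroup ↥(Lt (S : Subgroup G))) = (Jt (S : Subgroup G)).subgroupOf (Lt (S : Subgroup G)) := by
  have hcen : ¬ Zc (S : Subgroup G) ≤ Subgroup.center G := fun h => hZ (normal_of_le_center _ h)
  by_cases hJ : JJ (S : Subgroup G) ≤ Q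
  · rcases case_one (S : Subgroup G) Q F hJ with h | h
    · have hL : Lt (S : Subgroup G) = Jt (S : Subgroup G) :=
        Subgroup.normalClosure_eq_self (Jt (S : Subgroup G))
      haveI : (Lt (S : Subgroup G)).Normal := Subgroup.normalClosure_normal
      apply Cfsg.Agent.Lib.Helper9.SylInfNormal.exists_sylow_of_eq_inf S
      rw [hL]
      exact (inf_of_le_right (Jt_le (S : Subgroup G))).symm
    · exact absurd h hcen
  · by_cases hW : Subgroup.centralizer (WW (S : Subgroup G) : Set G) ⊔ (S : Subgroup G) = ⊤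
    · exact absurd (Zc_le_center_of_top _ hW) hcen
    · obtain ⟨hLS, hJQ, hQ0n, hQ0, hs2, -⟩ := caseIIb (S : Subgroup G) Q F hJ hW
      have hSn : (S : Subgroup G) ≤ Subgroup.normalizer ((S : Subgroup G) : Set G) :=
        Subgroup.le_normalizer
      have hJn : (S : Subgroup G) ≤ Subgroup.normalizer (Jt (S : Subgroup G) : Set G) :=
        mem_normalizer_of_forall _ _ (fun x hx => (conj_mem (S : Subgroup G) x (hSn hx)).2.2)
      have hLLt : LL (S : Subgroup G) ≤ Lt (S : Subgroup G) :=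
        Subgroup.normalClosure_mono (JJ_le_Jt (S : Subgroup G))
      refine (Cfsg.Agent.Lib.Helper9.PU2768G.s2768_IIb S (Jt (S : Subgroup G)) Q (Q0 (S : Subgroup G))
        F.normal hQ0n (Jt_le _) hJn (hQ0 ▸ inf_le_left) ?_ ?_ ?_ ?_ ?_).2
      · exact hJQ.ge.trans (sup_le_sup_right (JJ_le_Jt _) Q)
      · exact top_le_iff.1 (hLS.ge.trans (sup_le_sup_right hLLt _))
      · rw [Subgroup.commutator_le]
        intro g hg x hx
        have := (Q0 (S : Subgroup G)).inv_mem (hs2 x hx g hg)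
        have e : (x * g * x⁻¹ * g⁻¹)⁻¹ = ⁅g, x⁆ := by
          rw [commutatorElement_def]; group
        rwa [e] at this
      · rw [Subgroup.commutator_le]
        intro a ha b hb
        rw [hQ0]
        refine ⟨?_, F.ab a (Jt_le _ ha) b (Jt_le _ hb)⟩
        rw [commutatorElement_def]
        exact (Jt _).mul_mem ((Jt _).mul_mem ((Jt _).mul_mem ha hb) ((Jt _).inv_mem ha))
          ((Jt _).inv_mem hb)
      · have hT : Jt ((S : Subgroup G) ⊓ Subgroup.normalClosure (Jt (S : Subgroup G) : Set G)) =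
            Jt (S : Subgroup G) :=
          Jt_eq_of_le _ _ inf_le_left (le_inf (Jt_le _) Subgroup.le_normalClosure)
        have := mem_normalizer_of_forall
          (Jt ((S : Subgroup G) ⊓ Subgroup.normalClosure (Jt (S : Subgroup G) : Set G)))
          (Subgroup.normalizer (((S : Subgroup G) ⊓
            Subgroup.normalClosure (Jt (S : Subgroup G) : Set G) : Subgroup G) : Set G))
          (fun x hx => (conj_mem _ x hx).2.2)
        rwa [hT] at this

end Cfsg.Agent.Lib.Helper2.BAU
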