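import Mathlib
import Cfsg.Prelude.Def_PLocal
import Cfsg.Agent.Lib.Helper2.BAUFrame
import Cfsg.Agent.Lib.Helper6.PUKP
import Cfsg.Agent.Lib.Helper6.PUPsl

/-!
# S2769 / S2768 : the frame holds in the situation of the frozen statements
-/

set_option autoImplicit false

namespace Cfsg.Agent.Lib.Helper2.BAU

open Cfsg.Agent.Lib.Helper6.PU

variable {G : Type*} [Group G] [Finite G] {p : ℕ} [Fact p.Prime]

theorem frame_of_setup {n : ℕ} (S : Sylow p G) (M : Subgroup G) {P : Type*} [Group P] (φ : G →* P)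
    (hs : Setup p n S M φ)
    (hE₁ : Subgroup.centralizer (Cfsg.pCore p G : Set G) ≤ Cfsg.pCore p G) :
    Frame (S : Subgroup G) (Cfsg.pCore p G) := by
  obtain ⟨hSn, hKM, hKS, hcard, hab⟩ := Cfsg.Agent.Lib.Helper5.PU2770S.struct S M φ hs
  have hQn := Cfsg.Agent.Lib.Helper1.pCore_normal (G := G) p
  have hQS := Cfsg.Agent.Lib.Helper1.pCore_le_sylow p S
  have hQp := Cfsg.Agent.Lib.Helper1.pCore_isPGroup (G := G) p
  refine ⟨?_, hQn, hQS, ?_, hE₁, hab, ?_, ?_⟩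
  · intro N hN
    rcases Cfsg.Agent.Lib.Helper9.PU2770A.dich S M hs.coatom hs.le hs.uniq N with h | ⟨-, h⟩
    · exact Or.inl h
    · exact Or.inr h
  · intro N hN hNS
    exact Cfsg.Agent.Lib.Helper1.le_pCore hN (S.isPGroup'.to_le hNS)
  · exact Cfsg.Agent.Lib.Helper4.PU2770L.lift_irred_of S M φ hs hKS
  · intro V hVn hVQ hQV hV A hA
    have hVc : ∀ a ∈ V, ∀ b ∈ V, a * b = b * a := fun a ha b hb =>
      (Subgroup.mem_centralizer_iff.1 (hQV (hVQ hb)) a ha)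
    exact kp S M φ hs V (hQp.to_le hVQ) hVc hQV hV A hA

/-- the frame from the hypotheses of the frozen statements S2768 / S2769 -/
theorem frame_of_hyps (S : Sylow p G)
    (hE₁ : Subgroup.centralizer (Cfsg.pCore p G : Set G) ≤ Cfsg.pCore p G)
    (hE₂ : ∃! M : Subgroup G, IsCoatom M ∧ (S : Subgroup G) ≤ M) (K : Subgroup G) [K.Normal]
    (F : Type) [Field F] [Fintype F] (n : ℕ) (hn : 1 ≤ n) (hF : Fintype.card F = p ^ n)
    (hE₃ : Nonempty (G ⧸ K ≃* Matrix.ProjectiveSpecialLinearGroup (Fin 2) F)) :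
    Frame (S : Subgroup G) (Cfsg.pCore p G) := by
  obtain ⟨e⟩ := hE₃
  obtain ⟨M, ⟨hM, hSM⟩, huniq⟩ := hE₂
  exact frame_of_setup S M (e.toMonoidHom.comp (QuotientGroup.mk' K))
    ⟨hM, hSM, fun M' h1 h2 => huniq M' ⟨h1, h2⟩,
      e.surjective.comp (QuotientGroup.mk'_surjective K),
      psl2_like F p n hn hF, hn⟩ hE₁

end Cfsg.Agent.Lib.Helper2.BAU
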