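import Mathlib
import Cfsg.Agent.Lib.Helper2.BGL4
import Cfsg.Agent.Lib.Helper1.FM6
import Cfsg.Agent.Lib.Helper1.FM12
import Cfsg.Agent.Lib.Helper1.PL5
import Cfsg.Agent.S1404
import Cfsg.Agent.S1414
import Cfsg.Agent.S1423

set_option autoImplicit false
set_option maxHeartbeats 4000000
set_option linter.unusedVariables false
set_option linter.unusedSectionVars false
set_option linter.style.longLine false
set_option linter.unusedSimpArgs false
set_option linter.deprecated false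
set_option linter.style.haveILetI false

/-!
# B&G Theorem 15.2(c),(e): `M_F ≠ M_σ` forces `|K|` prime and `F(M)` a TI-subset
-/

open scoped commutatorElement Pointwise
universe u
namespace Cfsg.Agent.Lib.Helper2.BGL

open Cfsg Cfsg.Agent.Lib.Helper1 Cfsg.Agent.Lib.Helper7 Cfsg.Agent.Lib.Helper3
  Cfsg.Agent.Lib.Helper7.BGRows Cfsg.Agent.Lib.Lead

variable {G : Type u} [Group G] [Finite G]

/-! ### general lemmas -/

omit [Finite G] in
theorem le_centralizer_of_normalize {A B : Subgroup G}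
    (hAB : A ≤ Subgroup.normalizer (B : Set G)) (hBA : B ≤ Subgroup.normalizer (A : Set G))
    (hd : A ⊓ B = ⊥) : A ≤ Subgroup.centralizer (B : Set G) := by
  intro a ha
  rw [Subgroup.mem_centralizer_iff]
  intro b hb
  have h1 : a * b * a⁻¹ ∈ B := (Subgroup.mem_normalizer_iff.mp (hAB ha) b).mp hb
  have h2 : b * a⁻¹ * b⁻¹ ∈ A :=
    (Subgroup.mem_normalizer_iff.mp (hBA hb) a⁻¹).mp (A.inv_mem ha)
  have h3 : a * b * a⁻¹ * b⁻¹ ∈ A ⊓ B := by
    refine Subgroup.mem_inf.mpr ⟨?_, B.mul_mem h1 (B.inv_mem hb)⟩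
    have e : a * b * a⁻¹ * b⁻¹ = a * (b * a⁻¹ * b⁻¹) := by group
    rw [e]; exact A.mul_mem ha h2
  rw [hd, Subgroup.mem_bot] at h3
  calc b * a = (a * b * a⁻¹ * b⁻¹)⁻¹ * (a * b) := by group
    _ = a * b := by rw [h3, inv_one, one_mul]

theorem isNilpotent_of_le_fittingOf {S : Subgroup G} (h : S ≤ fittingOf S) :
    Group.IsNilpotent ↥S := by
  have htop : fittingSubgroup ↥S = ⊤ := by
    rw [eq_top_iff]
    intro s _
    obtain ⟨w, hw, hws⟩ := h s.2
    have hw' : w = s := Subtype.ext hws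
    rw [← hw']; exact hw
  haveI : Group.IsNilpotent ↥(fittingSubgroup ↥S) := fittingSubgroup_isNilpotent
  exact Group.nilpotent_of_mulEquiv ((MulEquiv.subgroupCongr htop).trans Subgroup.topEquiv)

theorem isNilpotent_of_compl_centralizes {Q D S : Subgroup G} (hc : IsComplIn Q D S)
    (hQ : Group.IsNilpotent ↥Q) (hD : Group.IsNilpotent ↥D)
    (hcen : Q ≤ Subgroup.centralizer (D : Set G)) : Group.IsNilpotent ↥S := by
  obtain ⟨hQS, hDS, hdisj, hmul⟩ := hc
  have hcomm : ∀ a ∈ Q, ∀ d ∈ D, d * a = a * d := fun a ha d hd =>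
    Subgroup.mem_centralizer_iff.mp (hcen ha) d hd
  have hQn : S ≤ Subgroup.normalizer (Q : Set G) := by
    apply le_normalizer_of_conj_mem
    intro s hs x hx
    obtain ⟨a, ha, b, hb, rfl⟩ := hmul s hs
    have h1 : b * x * b⁻¹ = x := by rw [hcomm x hx b hb]; group
    have e : a * b * x * (a * b)⁻¹ = a * (b * x * b⁻¹) * a⁻¹ := by group
    rw [e, h1]
    exact Q.mul_mem (Q.mul_mem ha hx) (Q.inv_mem ha)
  have hDn : S ≤ Subgroup.normalizer (D : Set G) := by
    apply le_normalizer_of_conj_mem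
    intro s hs y hy
    obtain ⟨a, ha, b, hb, rfl⟩ := hmul s hs
    have hy' : b * y * b⁻¹ ∈ D := D.mul_mem (D.mul_mem hb hy) (D.inv_mem hb)
    have h1 : a * (b * y * b⁻¹) * a⁻¹ = b * y * b⁻¹ := by
      rw [← hcomm a ha _ hy']; group
    have e : a * b * y * (a * b)⁻¹ = a * (b * y * b⁻¹) * a⁻¹ := by group
    rw [e, h1]
    exact hy'
  apply isNilpotent_of_le_fittingOf
  intro s hs
  obtain ⟨a, ha, b, hb, rfl⟩ := hmul s hs
  exact Subgroup.mul_mem _ (BGK.le_fittingOf_of_le_normalizer hQS hQn hQ ha)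
    (BGK.le_fittingOf_of_le_normalizer hDS hDn hD hb)

/-- a `q`-subgroup `Q ≤ M` containing every `q`-subgroup of `M` has index prime to `q` -/
theorem not_dvd_relIndex_of_all {q : ℕ} [hq : Fact q.Prime] {Q M : Subgroup G} (hQM : Q ≤ M)
    (hQq : IsPGroup q Q) (hall : ∀ P : Subgroup G, P ≤ M → IsPGroup q P → P ≤ Q) :
    ¬ q ∣ Q.relIndex M := by
  obtain ⟨R, hR⟩ := (hQq.comap_subtype (K := M)).exists_le_sylow
  have hRQ : (R : Subgroup ↥M) ≤ Q.subgroupOf M := by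
    intro y hy
    rw [Subgroup.mem_subgroupOf]
    have h1 : ((R : Subgroup ↥M).map M.subtype) ≤ Q :=
      hall _ (Subgroup.map_subtype_le _) (R.isPGroup'.map _)
    exact h1 (Subgroup.mem_map_of_mem _ hy)
  have heq : Q.subgroupOf M = (R : Subgroup ↥M) := le_antisymm hR hRQ
  unfold Subgroup.relIndex
  rw [heq]
  exact R.not_dvd_index

/-- an element of prime order `r` of `F(M)` lies in a normal `r`-subgroup of `M` -/
theorem exists_normal_pgroup_of_mem_fittingOf {M : Subgroup G} {r : ℕ} [hr : Fact r.Prime]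
    {x : G} (hx : x ∈ fittingOf M) (hxr : orderOf x = r) :
    ∃ R : Subgroup G, R ≤ M ∧ M ≤ Subgroup.normalizer (R : Set G) ∧ IsPGroup r R ∧ x ∈ R := by
  obtain ⟨w, hw, hwx⟩ := hx
  have hwx' : (w : G) = x := hwx
  have hwo : orderOf w = r := by rw [← Subgroup.orderOf_coe w, hwx', hxr]
  have hwq : IsPGroup r (Subgroup.zpowers w) :=
    IsPGroup.of_card (n := 1) (by rw [Nat.card_zpowers, hwo, pow_one])
  have hwp := BG8.isPGroup_le_pCore_of_le_fitting (Subgroup.zpowers_le.mpr hw) hwq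
  haveI : (pCore r ↥M).Normal := Cfsg.Agent.Lib.Helper1.pCore_normal r
  refine ⟨(pCore r ↥M).map M.subtype, Subgroup.map_subtype_le _,
    BGK.le_normalizer_map_of_normal _, (Cfsg.Agent.Lib.Helper1.pCore_isPGroup r).map _, ?_⟩
  exact ⟨w, hwp (Subgroup.mem_zpowers w), hwx⟩

/-! ### the configuration `M_σ = Q ⋊ D` with `D` a `K`-invariant complement -/

/-- `Q` the normal Sylow `q`-subgroup of `M_σ` (`q = |K*|`), `D` a `K`-invariant complement -/
structure QD (M K Q D : Subgroup G) (q : ℕ) : Prop where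
  p1n : P1N M K
  hq : q = Nat.card ↥(sigmaCore M ⊓ Subgroup.centralizer (K : Set G))
  hQn : M ≤ Subgroup.normalizer (Q : Set G)
  hQq : IsPGroup q Q
  hZQ : sigmaCore M ⊓ Subgroup.centralizer (K : Set G) ≤ Q
  hall : ∀ P : Subgroup G, P ≤ sigmaCore M → IsPGroup q P → P ≤ Q
  compl : IsComplIn Q D (sigmaCore M)
  hKD : K ≤ Subgroup.normalizer (D : Set G)

variable {M K Q D : Subgroup G} {q : ℕ}

theorem P1N.exists_QD (h : P1N M K) : ∃ (Q D : Subgroup G) (q : ℕ), QD M K Q D q := by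
  classical
  obtain ⟨Q, hQS, hQn, hQq, hZQ, hall⟩ := h.exists_Q
  obtain ⟨q, hqdef⟩ : ∃ q : ℕ,
      q = Nat.card ↥(sigmaCore M ⊓ Subgroup.centralizer (K : Set G)) := ⟨_, rfl⟩
  rw [← hqdef] at hQq hall
  haveI hq : Fact q.Prime := ⟨hqdef ▸ h.kstar_prime⟩
  haveI hMs : Group.IsSolvable ↥M := BG7.isSolvable_of_ne_top h.hG h.hM.1
  have hSM : sigmaCore M ≤ M := BGE.sigmaCore_le M
  have hQM : Q ≤ M := hQS.trans hSM
  have hKM : K ≤ M := h.hall.1
  have hqσ : q ∈ sigma M := hqdef ▸ h.q_mem_sigma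
  have hallM : ∀ P : Subgroup G, P ≤ M → IsPGroup q P → P ≤ Q := fun P hPM hP =>
    hall P (BGE.qsub_le_sigmaCore h.hG h.hM hqσ hP hPM) hP
  have hnd : ¬ q ∣ Q.relIndex M := not_dvd_relIndex_of_all hQM hQq hallM
  obtain ⟨n, hn⟩ := IsPGroup.iff_card.mp hQq
  have hcop : (Nat.card Q).Coprime (Q.relIndex M) := by
    rw [hn]
    exact Nat.Coprime.pow_left n ((Nat.Prime.coprime_iff_not_dvd hq.out).mpr hnd)
  obtain ⟨H, hHM, hHQ, hsup, hHc⟩ := exists_relative_complement Q M hQM hQn hcop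
  have hQi : Nat.card Q * Q.relIndex M = Nat.card M := BGG.card_mul_relIndex' hQM
  have hHi : Nat.card H * H.relIndex M = Nat.card M := BGG.card_mul_relIndex' hHM
  have hHr : H.relIndex M = Nat.card Q := by
    have hpos : 0 < Nat.card H := Nat.card_pos
    apply Nat.eq_of_mul_eq_mul_left hpos
    rw [hHi, hHc, mul_comm, hQi]
  have hH : IsPiHallOf {r : ℕ | r ≠ q} H M := by
    refine ⟨hHM, ?_, ?_⟩
    · intro p hp hpH
      show p ≠ q
      intro hpq
      rw [hpq, hHc] at hpH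
      exact hnd hpH
    · intro p hp hpπ hpd
      rw [hHr, hn] at hpd
      exact hpπ ((Nat.prime_dvd_prime_iff_eq hp hq.out).mp (hp.dvd_of_dvd_pow hpd))
  have hqS : q ∣ Nat.card (sigmaCore M) := by
    rw [hqdef]; exact Subgroup.card_dvd_of_le inf_le_left
  have hKπ : ∀ p : ℕ, p.Prime → p ∣ Nat.card K → p ∈ {r : ℕ | r ≠ q} := by
    intro p hp hpK
    show p ≠ q
    intro hpq
    rw [hpq] at hpK
    exact hq.out.one_lt.ne' (Nat.eq_one_of_dvd_coprimes h.coprime hpK hqS)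
  obtain ⟨m, hm, hKH⟩ := BGK.exists_cj_le_of_hall hMs hH hKM hKπ
  obtain ⟨H₁, hH₁def⟩ : ∃ H₁ : Subgroup G, H₁ = BG7.cj m H := ⟨_, rfl⟩
  rw [← hH₁def] at hKH
  have hH₁ : IsPiHallOf {r : ℕ | r ≠ q} H₁ M := hH₁def ▸ BGK.isPiHallOf_cj hH hm
  have hH₁c : Nat.card H₁ = Q.relIndex M := by rw [hH₁def, BG7.card_cj, hHc]
  have hH₁M : H₁ ≤ M := hH₁.1
  have hQH₁ : Q ⊓ H₁ = ⊥ := Subgroup.inf_eq_bot_of_coprime (by rw [hH₁c]; exact hcop)
  have hmul : ∀ e ∈ M, ∃ a ∈ Q, ∃ b ∈ H₁, e = a * b :=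
    exists_mul_of_card_eq hQM hH₁M hQH₁ (le_of_eq (by rw [hH₁c, hQi]))
  refine ⟨Q, H₁ ⊓ sigmaCore M, q, ⟨h, hqdef, hQn, hQq, hZQ, hall, ?_, ?_⟩⟩
  · refine ⟨hQS, inf_le_right, ?_, ?_⟩
    · rw [eq_bot_iff, ← hQH₁]
      exact inf_le_inf_left Q inf_le_left
    · intro s hs
      obtain ⟨a, ha, b, hb, hab⟩ := hmul s (hSM hs)
      refine ⟨a, ha, b, Subgroup.mem_inf.mpr ⟨hb, ?_⟩, hab⟩
      have e : b = a⁻¹ * s := by rw [hab]; group
      rw [e]
      exact Subgroup.mul_mem _ (Subgroup.inv_mem _ (hQS ha)) hs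
  · exact le_normalizer_inf (hKH.trans Subgroup.le_normalizer)
      (hKM.trans (BGE.le_normalizer_sigmaCore M))

namespace QD

theorem prime_q (h : QD M K Q D q) : q.Prime := h.hq ▸ h.p1n.kstar_prime

theorem card_Z (h : QD M K Q D q) :
    Nat.card ↥(sigmaCore M ⊓ Subgroup.centralizer (K : Set G)) = q := h.hq.symm

theorem hQS (h : QD M K Q D q) : Q ≤ sigmaCore M := h.compl.1

theorem hDS (h : QD M K Q D q) : D ≤ sigmaCore M := h.compl.2.1

theorem disj (h : QD M K Q D q) : Q ⊓ D = ⊥ := h.compl.2.2.1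

theorem card_eq (h : QD M K Q D q) : Nat.card (sigmaCore M) = Nat.card Q * Nat.card D :=
  ComplIn.card_eq h.compl

theorem not_dvd (h : QD M K Q D q) : ¬ q ∣ Q.relIndex (sigmaCore M) := by
  haveI : Fact q.Prime := ⟨h.prime_q⟩
  exact not_dvd_relIndex_of_all h.hQS h.hQq h.hall

theorem card_D (h : QD M K Q D q) : Q.relIndex (sigmaCore M) = Nat.card D :=
  ComplIn.relIndex_left h.compl

theorem coprime_QD (h : QD M K Q D q) : (Nat.card Q).Coprime (Nat.card D) := by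
  haveI : Fact q.Prime := ⟨h.prime_q⟩
  obtain ⟨n, hn⟩ := IsPGroup.iff_card.mp h.hQq
  rw [hn, ← h.card_D]
  exact Nat.Coprime.pow_left n ((Nat.Prime.coprime_iff_not_dvd h.prime_q).mpr h.not_dvd)

theorem q_dvd_card_Q (h : QD M K Q D q) : q ∣ Nat.card Q := by
  rw [← h.card_Z]; exact Subgroup.card_dvd_of_le h.hZQ

/-- `K` acts fixed-point-freely on `D` -/
theorem fpf (h : QD M K Q D q) : ∀ k ∈ K, k ≠ 1 → ∀ d ∈ D, k * d = d * k → d = 1 := by
  intro k hk hk1 d hd hkd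
  have h1 : d ∈ sigmaCore M ⊓ Subgroup.centralizer ({k} : Set G) :=
    Subgroup.mem_inf.mpr ⟨h.hDS hd, Subgroup.mem_centralizer_singleton_iff.mpr hkd.symm⟩
  rw [h.p1n.prime_action k hk hk1] at h1
  have h2 : d ∈ Q ⊓ D := Subgroup.mem_inf.mpr ⟨h.hZQ h1, hd⟩
  rw [h.disj, Subgroup.mem_bot] at h2
  exact h2

/-- `D` is nilpotent (Frobenius kernel) -/
theorem nilpotent_D (h : QD M K Q D q) : Group.IsNilpotent ↥D := by
  obtain ⟨Γ, hΓ⟩ : ∃ Γ : Subgroup G, Γ = Subgroup.normalizer (D : Set G) := ⟨_, rfl⟩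
  have hDΓ : D ≤ Γ := hΓ ▸ Subgroup.le_normalizer
  have hKΓ : K ≤ Γ := hΓ ▸ h.hKD
  haveI hn : (D.subgroupOf Γ).Normal := by rw [hΓ]; exact Subgroup.normal_in_normalizer
  have hR : K.subgroupOf Γ ≠ ⊥ := by
    intro hbot
    have h1 := card_subgroupOf_of_le hKΓ
    rw [hbot, Subgroup.card_bot] at h1
    exact h.p1n.ne (Subgroup.card_eq_one.mp h1.symm)
  have hfpf : ∀ r ∈ K.subgroupOf Γ, r ≠ 1 → ∀ k ∈ D.subgroupOf Γ, r * k = k * r → k = 1 := by
    intro r hr hr1 d hd hrd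
    rw [Subgroup.mem_subgroupOf] at hr hd
    have h1 : (r : G) ≠ 1 := fun hh => hr1 (Subtype.ext hh)
    have h2 : (r : G) * d = d * r := congrArg Subtype.val hrd
    exact Subtype.ext (h.fpf r hr h1 d hd h2)
  haveI := FM.kernel_nilpotent (D.subgroupOf Γ) (K.subgroupOf Γ) hR hfpf
  exact Group.nilpotent_of_mulEquiv (Subgroup.subgroupOfEquivOfLe hDΓ)

/-- `Q` does not centralize `D` -/
theorem not_centralizes (h : QD M K Q D q) : ¬ Q ≤ Subgroup.centralizer (D : Set G) := by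
  intro hcen
  haveI : Fact q.Prime := ⟨h.prime_q⟩
  exact h.p1n.nn
    (isNilpotent_of_compl_centralizes h.compl h.hQq.isNilpotent h.nilpotent_D hcen)

theorem inf_centralizer_eq (h : QD M K Q D q) {R : Subgroup G} (hRK : R ≤ K) (hR : R ≠ ⊥) :
    Q ⊓ Subgroup.centralizer (R : Set G) =
      sigmaCore M ⊓ Subgroup.centralizer (K : Set G) := by
  apply le_antisymm
  · intro x hx
    obtain ⟨hxQ, hxR⟩ := Subgroup.mem_inf.mp hx
    obtain ⟨r, hr, hr1⟩ : ∃ r ∈ R, r ≠ 1 := by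
      by_contra hcon
      push Not at hcon
      exact hR ((Subgroup.eq_bot_iff_forall _).mpr hcon)
    rw [← h.p1n.prime_action r (hRK hr) hr1]
    refine Subgroup.mem_inf.mpr ⟨h.hQS hxQ, ?_⟩
    exact Subgroup.centralizer_le (Set.singleton_subset_iff.mpr hr) hxR
  · exact le_inf h.hZQ
      (inf_le_right.trans (Subgroup.centralizer_le (SetLike.coe_subset_coe.mpr hRK)))

/-- the Frobenius formula for the action of `D ⋊ R` on `Q` -/
theorem frob (h : QD M K Q D q) {R : Subgroup G} (hRK : R ≤ K) (hR : R ≠ ⊥) :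
    Nat.card ↥((sigmaCore M ⊓ Subgroup.centralizer (K : Set G)) ⊓
        Subgroup.centralizer (D : Set G)) ^ Nat.card R * Nat.card Q =
      q ^ Nat.card R * Nat.card ↥(Q ⊓ Subgroup.centralizer (D : Set G)) := by
  haveI : Fact q.Prime := ⟨h.prime_q⟩
  haveI hMs : Group.IsSolvable ↥M := BG7.isSolvable_of_ne_top h.p1n.hG h.p1n.hM.1
  have hSM : sigmaCore M ≤ M := BGE.sigmaCore_le M
  have hKM : K ≤ M := h.p1n.hall.1
  have hRD : R ≤ Subgroup.normalizer (D : Set G) := hRK.trans h.hKD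
  have hfpf : ∀ r ∈ R, r ≠ 1 → ∀ k ∈ D, r * k = k * r → k = 1 := fun r hr hr1 k hk hrk =>
    h.fpf r (hRK hr) hr1 k hk hrk
  have hnorm : D ⊔ R ≤ Subgroup.normalizer (Q : Set G) :=
    sup_le ((h.hDS.trans hSM).trans h.hQn) ((hRK.trans hKM).trans h.hQn)
  have hsolv : Group.IsSolvable ↥Q := isSolvable_of_le (h.hQS.trans hSM)
  have hcop : (Nat.card Q).Coprime (Nat.card ↥(D ⊔ R)) := by
    have h1 : Nat.card ↥(R ⊔ D) ∣ Nat.card R * Nat.card D := PL.card_sup_dvd' hRD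
    rw [sup_comm]
    apply Nat.Coprime.coprime_dvd_right h1
    have h2 : Nat.card R ∣ Nat.card K := Subgroup.card_dvd_of_le hRK
    have h3 : Nat.card Q ∣ Nat.card (sigmaCore M) := Subgroup.card_dvd_of_le h.hQS
    exact Nat.Coprime.mul_right
      (Nat.Coprime.coprime_dvd_left h2 (Nat.Coprime.coprime_dvd_right h3 h.p1n.coprime)).symm
      h.coprime_QD
  have hf := FM.frob_formula D R hR hRD hfpf (Nat.card Q) Q rfl hnorm hsolv hcop
  have e : Q ⊓ Subgroup.centralizer ((D ⊔ R : Subgroup G) : Set G) =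
      (sigmaCore M ⊓ Subgroup.centralizer (K : Set G)) ⊓ Subgroup.centralizer (D : Set G) := by
    rw [BGG.centralizer_sup_eq,
      inf_comm (Subgroup.centralizer (D : Set G)) (Subgroup.centralizer (R : Set G)),
      ← inf_assoc, h.inf_centralizer_eq hRK hR]
  rw [e, h.inf_centralizer_eq hRK hR, h.card_Z] at hf
  exact hf

/-- `|K|` is prime -/
theorem prime_K (h : QD M K Q D q) : (Nat.card K).Prime := by
  by_contra hnp
  obtain ⟨p, k, hp, hkK, hko⟩ := BGK.exists_prime_order_elt h.p1n.ne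
  obtain ⟨hXc, hXq, hk1⟩ := BGK.zpowers_facts hp hko
  have hRK : Subgroup.zpowers k ≤ K := Subgroup.zpowers_le.mpr hkK
  have hR1 : Subgroup.zpowers k ≠ ⊥ := by
    intro hbot
    rw [hbot, Subgroup.card_bot] at hXc
    exact hp.one_lt.ne hXc
  have h1 := h.frob (le_refl K) h.p1n.ne
  have h2 := h.frob hRK hR1
  rw [hXc] at h2
  have hpK : p ∣ Nat.card K := by rw [← hko]; exact Subgroup.orderOf_dvd_natCard K hkK
  have hlt : p < Nat.card K := by
    rcases (Nat.le_of_dvd Nat.card_pos hpK).lt_or_eq with h3 | h3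
    · exact h3
    · exact absurd (h3 ▸ hp) hnp
  have h3 := BGK.arith_prime h.prime_q.pos Nat.card_pos h1 h2 hlt
  apply h.not_centralizes
  exact (Subgroup.eq_of_le_of_card_ge inf_le_left h3.le).symm.le.trans inf_le_right

/-- `|Q| = |C_Q(D)| q^{|K|}` -/
theorem card_Q (h : QD M K Q D q) :
    Nat.card Q = Nat.card ↥(Q ⊓ Subgroup.centralizer (D : Set G)) * q ^ Nat.card K := by
  have h1 := h.frob (le_refl K) h.p1n.ne
  have hc : Nat.card ↥((sigmaCore M ⊓ Subgroup.centralizer (K : Set G)) ⊓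
      Subgroup.centralizer (D : Set G)) ∣ q := by
    have h2 : Nat.card ↥((sigmaCore M ⊓ Subgroup.centralizer (K : Set G)) ⊓
        Subgroup.centralizer (D : Set G)) ∣
        Nat.card ↥(sigmaCore M ⊓ Subgroup.centralizer (K : Set G)) :=
      Subgroup.card_dvd_of_le inf_le_left
    rwa [h.card_Z] at h2
  rcases (Nat.dvd_prime h.prime_q).mp hc with hc1 | hcq
  · rw [hc1, one_pow, one_mul] at h1
    rw [h1, mul_comm]
  · exfalso
    rw [hcq] at h1
    have hpos : 0 < q ^ Nat.card K := pow_pos h.prime_q.pos _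
    have h3 : Nat.card Q = Nat.card ↥(Q ⊓ Subgroup.centralizer (D : Set G)) :=
      Nat.eq_of_mul_eq_mul_left hpos h1
    apply h.not_centralizes
    exact (Subgroup.eq_of_le_of_card_ge inf_le_left h3.le).symm.le.trans inf_le_right

/-- `K*` acts nontrivially on `D` -/
theorem kstar_inf_eq_bot (h : QD M K Q D q) :
    (sigmaCore M ⊓ Subgroup.centralizer (K : Set G)) ⊓ Subgroup.centralizer (D : Set G) = ⊥ := by
  have h1 := h.frob (le_refl K) h.p1n.ne
  have hc : Nat.card ↥((sigmaCore M ⊓ Subgroup.centralizer (K : Set G)) ⊓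
      Subgroup.centralizer (D : Set G)) ∣ q := by
    have h2 : Nat.card ↥((sigmaCore M ⊓ Subgroup.centralizer (K : Set G)) ⊓
        Subgroup.centralizer (D : Set G)) ∣
        Nat.card ↥(sigmaCore M ⊓ Subgroup.centralizer (K : Set G)) :=
      Subgroup.card_dvd_of_le inf_le_left
    rwa [h.card_Z] at h2
  rcases (Nat.dvd_prime h.prime_q).mp hc with hc1 | hcq
  · exact Subgroup.card_eq_one.mp hc1
  · exfalso
    rw [hcq] at h1
    have hpos : 0 < q ^ Nat.card K := pow_pos h.prime_q.pos _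
    have h3 : Nat.card Q = Nat.card ↥(Q ⊓ Subgroup.centralizer (D : Set G)) :=
      Nat.eq_of_mul_eq_mul_left hpos h1
    apply h.not_centralizes
    exact (Subgroup.eq_of_le_of_card_ge inf_le_left h3.le).symm.le.trans inf_le_right

/-- `q ∈ β(M)` -/
theorem q_mem_beta (h : QD M K Q D q) : q ∈ beta M := by
  by_contra hqβ
  haveI hq : Fact q.Prime := ⟨h.prime_q⟩
  have hSM : sigmaCore M ≤ M := BGE.sigmaCore_le M
  haveI hMs : Group.IsSolvable ↥M := BG7.isSolvable_of_ne_top h.p1n.hG h.p1n.hM.1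
  haveI hSs : Group.IsSolvable ↥(sigmaCore M) := isSolvable_of_le hSM
  have hqS : q ∣ Nat.card (sigmaCore M) := by
    rw [← h.card_Z]; exact Subgroup.card_dvd_of_le inf_le_left
  have hqM : q ∣ Nat.card M := hqS.trans (Subgroup.card_dvd_of_le hSM)
  obtain ⟨P, N, hNn, hNP⟩ :=
    ((Cfsg.Agent.S1414.result h.p1n.hG M h.p1n.hM).2.2.2.2 q hq.out hqM hqβ).2.1
  haveI := hNn
  obtain ⟨D₀, hD₀def⟩ : ∃ D₀ : Subgroup G, D₀ = N.map (sigmaCore M).subtype := ⟨_, rfl⟩
  have hD₀S : D₀ ≤ sigmaCore M := hD₀def ▸ Subgroup.map_subtype_le _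
  have hD₀n : sigmaCore M ≤ Subgroup.normalizer (D₀ : Set G) :=
    hD₀def ▸ BGK.le_normalizer_map_of_normal N
  have hsub : D₀.subgroupOf (sigmaCore M) = N := by
    unfold Subgroup.subgroupOf
    rw [hD₀def, Subgroup.comap_map_eq_self_of_injective (sigmaCore M).subtype_injective]
  have hcard : Nat.card D₀ = Nat.card N := by
    rw [← hsub, card_subgroupOf_of_le hD₀S]
  have hmul : Nat.card N * Nat.card (P : Subgroup ↥(sigmaCore M)) =
      Nat.card ↥(sigmaCore M) := hNP.card_mul_card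
  have hPi : Nat.card (P : Subgroup ↥(sigmaCore M)) * (P : Subgroup ↥(sigmaCore M)).index =
      Nat.card ↥(sigmaCore M) := Subgroup.card_mul_index _
  have hNi : (P : Subgroup ↥(sigmaCore M)).index = Nat.card N := by
    have hpos : 0 < Nat.card (P : Subgroup ↥(sigmaCore M)) := Nat.card_pos
    apply Nat.eq_of_mul_eq_mul_left hpos
    rw [hPi, mul_comm, hmul]
  have hndN : ¬ q ∣ Nat.card N := by rw [← hNi]; exact P.not_dvd_index
  have hNidx : N.index = Nat.card (P : Subgroup ↥(sigmaCore M)) := by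
    have hpos : 0 < Nat.card N := Nat.card_pos
    apply Nat.eq_of_mul_eq_mul_left hpos
    rw [Subgroup.card_mul_index, hmul]
  obtain ⟨k, hk⟩ := IsPGroup.iff_card.mp P.isPGroup'
  have hHall : IsPiHallOf {r : ℕ | r ≠ q} D₀ (sigmaCore M) := by
    refine ⟨hD₀S, ?_, ?_⟩
    · intro p hp hpd
      show p ≠ q
      intro hpq
      rw [hpq, hcard] at hpd
      exact hndN hpd
    · intro p hp hpπ hpd
      unfold Subgroup.relIndex at hpd
      rw [hsub, hNidx, hk] at hpd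
      exact hpπ ((Nat.prime_dvd_prime_iff_eq hp hq.out).mp (hp.dvd_of_dvd_pow hpd))
  have hDle : D ≤ D₀ := BG15.le_of_normal_hall hSs hHall hD₀n h.hDS (by
    intro p hp hpD
    show p ≠ q
    intro hpq
    rw [hpq] at hpD
    exact hq.out.one_lt.ne' (Nat.eq_one_of_dvd_coprimes h.coprime_QD h.q_dvd_card_Q hpD))
  have hQD₀ : Q ⊓ D₀ = ⊥ := Subgroup.inf_eq_bot_of_coprime (by
    obtain ⟨n, hn⟩ := IsPGroup.iff_card.mp h.hQq
    rw [hn, hcard]
    exact Nat.Coprime.pow_left n ((Nat.Prime.coprime_iff_not_dvd hq.out).mpr hndN))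
  have hQc : Q ≤ Subgroup.centralizer (D₀ : Set G) :=
    le_centralizer_of_normalize (h.hQS.trans hD₀n) (hD₀S.trans (hSM.trans h.hQn)) hQD₀
  exact h.not_centralizes
    (hQc.trans (Subgroup.centralizer_le (SetLike.coe_subset_coe.mpr hDle)))

end QD

/-- every prime dividing `|F(M)|` lies in `σ(M)` -/
theorem P1N.fitting_primes (h : P1N M K) {x : G} (hx : x ∈ fittingOf M) {r : ℕ} (hr : r.Prime)
    (hxr : orderOf x = r) : r ∈ sigma M := by
  by_contra hrσ
  haveI : Fact r.Prime := ⟨hr⟩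
  haveI hMs : Group.IsSolvable ↥M := BG7.isSolvable_of_ne_top h.hG h.hM.1
  obtain ⟨R, hRM, hRn, hRr, hxR⟩ := exists_normal_pgroup_of_mem_fittingOf hx hxr
  have hx1 : x ≠ 1 := by
    intro h1
    rw [h1, orderOf_one] at hxr
    exact hr.one_lt.ne hxr
  have hrM : r ∣ Nat.card M := by
    rw [← hxr]; exact Subgroup.orderOf_dvd_natCard M (hRM hxR)
  have hp1 := BGK.p1_of_not_nilpotent h.hG h.hM h.nn
  have hrκ : r ∈ kappa M := hp1 r hr hrM hrσ
  have hRK : R ≤ K := normal_le_hall hMs h.hall hRM hRn (by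
    intro p hp hpR
    obtain ⟨n, hn⟩ := IsPGroup.iff_card.mp hRr
    rw [hn] at hpR
    rw [(Nat.prime_dvd_prime_iff_eq hp hr).mp (hp.dvd_of_dvd_pow hpR)]
    exact hrκ)
  have hSM : sigmaCore M ≤ M := BGE.sigmaCore_le M
  have hdisj : sigmaCore M ⊓ R = ⊥ := Subgroup.inf_eq_bot_of_coprime
    (Nat.Coprime.coprime_dvd_right (Subgroup.card_dvd_of_le hRK) h.coprime.symm)
  have hcen : sigmaCore M ≤ Subgroup.centralizer (R : Set G) :=
    le_centralizer_of_normalize (hSM.trans hRn) (hRM.trans (BGE.le_normalizer_sigmaCore M)) hdisj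
  obtain ⟨Q, hQS, hQn, hQq, hZQ, hall⟩ := h.exists_Q
  haveI : Fact (Nat.card ↥(sigmaCore M ⊓ Subgroup.centralizer (K : Set G))).Prime :=
    ⟨h.kstar_prime⟩
  apply h.nn
  have hle : sigmaCore M ≤ Q := by
    intro s hs
    apply hZQ
    rw [← h.prime_action x (hRK hxR) hx1]
    refine Subgroup.mem_inf.mpr ⟨hs, ?_⟩
    exact Subgroup.centralizer_le (Set.singleton_subset_iff.mpr hxR) (hcen hs)
  exact (hQq.to_le hle).isNilpotent

namespace QD

/-- `C_G(x) ≤ M` for every `x ∈ F(M)` of prime order -/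
theorem centralizer_le (h : QD M K Q D q) {x : G} (hx : x ∈ fittingOf M) {r : ℕ} (hr : r.Prime)
    (hxr : orderOf x = r) :
    Subgroup.centralizer ((Subgroup.zpowers x : Subgroup G) : Set G) ≤ M := by
  haveI hq : Fact q.Prime := ⟨h.prime_q⟩
  haveI : Fact r.Prime := ⟨hr⟩
  have hSM : sigmaCore M ≤ M := BGE.sigmaCore_le M
  have hqσ : q ∈ sigma M := h.hq ▸ h.p1n.q_mem_sigma
  have hqβ := h.q_mem_beta
  obtain ⟨hXc, hXr, hx1⟩ := BGK.zpowers_facts hr hxr
  obtain ⟨R, hRM, hRn, hRr, hxR⟩ := exists_normal_pgroup_of_mem_fittingOf hx hxr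
  obtain ⟨P⟩ : Nonempty (Sylow q ↥(sigmaCore M)) := inferInstance
  by_cases hrq : r = q
  · have hXM : Subgroup.zpowers x ≤ M := Subgroup.zpowers_le.mpr (hRM hxR)
    exact (Cfsg.Agent.S1423.result h.p1n.hG M h.p1n.hM q hqσ (Subgroup.zpowers x) hXM
      (by rw [hXc, hrq]) P (Or.inl hqβ)).1.1
  · have hZM : sigmaCore M ⊓ Subgroup.centralizer (K : Set G) ≤ M := inf_le_left.trans hSM
    have h23 := Cfsg.Agent.S1423.result h.p1n.hG M h.p1n.hM q hqσ _ hZM h.card_Z P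
      (Or.inl hqβ)
    obtain ⟨L₀, hL₀, huniq⟩ := h23.2.1
    have hPQ : (P : Subgroup ↥(sigmaCore M)).map (sigmaCore M).subtype ≤ Q :=
      h.hall _ (Subgroup.map_subtype_le _) (P.isPGroup'.map _)
    have hdisj : Q ⊓ R = ⊥ := Subgroup.inf_eq_bot_of_coprime (by
      obtain ⟨n, hn⟩ := IsPGroup.iff_card.mp h.hQq
      obtain ⟨n', hn'⟩ := IsPGroup.iff_card.mp hRr
      rw [hn, hn']
      exact Nat.Coprime.pow _ _ ((Nat.coprime_primes hq.out hr).mpr (Ne.symm hrq)))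
    have hQR : Q ≤ Subgroup.centralizer (R : Set G) :=
      le_centralizer_of_normalize ((h.hQS.trans hSM).trans hRn) (hRM.trans h.hQn) hdisj
    have hQX : Q ≤ Subgroup.centralizer ((Subgroup.zpowers x : Subgroup G) : Set G) :=
      hQR.trans (Subgroup.centralizer_le
        (SetLike.coe_subset_coe.mpr (Subgroup.zpowers_le.mpr hxR)))
    have hne : Subgroup.centralizer ((Subgroup.zpowers x : Subgroup G) : Set G) ≠ ⊤ := by
      intro htop
      apply BG7.centralizer_singleton_ne_top h.p1n.hG hx1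
      rw [eq_top_iff, ← htop]
      exact Subgroup.centralizer_le (Set.singleton_subset_iff.mpr (Subgroup.mem_zpowers x))
    obtain ⟨L, hL, hCL⟩ := (eq_top_or_exists_le_coatom _).resolve_left hne
    have hLM : L = M := by
      have h1 := huniq L ⟨hL, hPQ.trans (hQX.trans hCL)⟩
      have h2 := huniq M ⟨h.p1n.hM, h23.2.2⟩
      rw [h1, h2]
    rw [← hLM]; exact hCL

/-- `F(M)` is a TI-subset of `G` -/
theorem ti (h : QD M K Q D q) : IsTISubset ((fittingOf M : Subgroup G) : Set G) := by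
  intro g hg x hx hgx
  have hx' : x ∈ fittingOf M := hx
  have hgx' : g * x * g⁻¹ ∈ fittingOf M := hgx
  by_contra hx1
  apply hg
  have hFM : fittingOf M ≤ M := Subgroup.map_subtype_le _
  have hMn : M ≤ Subgroup.normalizer ((fittingOf M : Subgroup G) : Set G) :=
    BGK.le_normalizer_map_of_normal (fittingSubgroup ↥M)
  apply hMn
  obtain ⟨r, j, hr, hxj⟩ := exists_pow_prime_order hx1
  haveI : Fact r.Prime := ⟨hr⟩
  have hxjF : x ^ j ∈ fittingOf M := Subgroup.pow_mem _ hx' j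
  have hgxj : g * x ^ j * g⁻¹ ∈ fittingOf M := by
    have e : g * x ^ j * g⁻¹ = (g * x * g⁻¹) ^ j := conj_pow.symm
    rw [e]; exact Subgroup.pow_mem _ hgx' j
  have hrσ : r ∈ sigma M := h.p1n.fitting_primes hxjF hr hxj
  obtain ⟨hXc, hXr, hxj1⟩ := BGK.zpowers_facts hr hxj
  have hX1 : Subgroup.zpowers (x ^ j) ≠ ⊥ := by
    intro hbot
    rw [hbot, Subgroup.card_bot] at hXc
    exact hr.one_lt.ne hXc
  have hXM : Subgroup.zpowers (x ^ j) ≤ M := Subgroup.zpowers_le.mpr (hFM hxjF)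
  have hconj : (Subgroup.zpowers (x ^ j)).map (MulAut.conj g).toMonoidHom ≤ M := by
    rw [MonoidHom.map_zpowers]
    apply Subgroup.zpowers_le.mpr
    show g * x ^ j * g⁻¹ ∈ M
    exact hFM hgxj
  obtain ⟨m, hm, c, hc, hgmc⟩ :=
    (Cfsg.Agent.S1404.result h.p1n.hG M h.p1n.hM r hrσ _ hXr hX1 hXM).1 g hconj
  rw [hgmc]
  exact M.mul_mem hm (h.centralizer_le hxjF hr hxj hc)

end QD

/-- **S1357** (B&G Theorem 15.2(c),(e)) from rows S1430, S1431. -/
theorem s1357_of (h1430 : Row1430 G) (h1431 : Row1431 G) (hG : IsMinSimpleOddOrder G)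
    (M : Subgroup G) (hM : IsCoatom M) (K U : Subgroup G) (hKU : IsSigmaDecomposition M K U)
    (hne : fittingHallOf M ≠ sigmaCore M) :
    U = ⊥ ∧ IsTISubset ((fittingOf M : Subgroup G) : Set G) ∧ (Nat.card K).Prime := by
  have hnn : ¬ Group.IsNilpotent ↥(sigmaCore M) := fun hnil =>
    hne (BGK.sigmaCore_eq_fittingHallOf hG hM hnil).symm
  have hp1 := BGK.p1_of_not_nilpotent hG hM hnn
  have hU : U = ⊥ := decomp_U_eq_bot hG hM hp1 hKU
  subst hU
  have hK1 := BGK.hall_kappa_ne_bot hG hM hp1 hKU.hall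
  have hP : P1N M K := ⟨hG, hM, hKU, hK1, hnn, h1430, h1431⟩
  obtain ⟨Q, D, q, hQD⟩ := hP.exists_QD
  exact ⟨rfl, hQD.ti, hQD.prime_K⟩

end Cfsg.Agent.Lib.Helper2.BGL
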