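import Mathlib
import Cfsg.Agent.Lib.Helper2.BGL5
import Cfsg.Agent.Lib.Helper1.BGF3
import Cfsg.Agent.Lib.Helper1.PL1
import Cfsg.Agent.Lib.Helper1.FrattiniP
import Cfsg.Agent.Lib.Helper3.DL2

set_option autoImplicit false
set_option maxHeartbeats 4000000
set_option linter.unusedVariables false
set_option linter.unusedSectionVars false
set_option linter.style.longLine false
set_option linter.unusedSimpArgs false
set_option linter.deprecated false
set_option linter.style.haveILetI false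

/-!
# B&G Corollary 15.6: the structure of `M_σ = Q ⋊ D` when `M_F ≠ M_σ`
-/

open scoped commutatorElement Pointwise
universe u
namespace Cfsg.Agent.Lib.Helper2.BGL

open Cfsg Cfsg.Agent.Lib.Helper1 Cfsg.Agent.Lib.Helper7 Cfsg.Agent.Lib.Helper3
  Cfsg.Agent.Lib.Helper7.BGRows Cfsg.Agent.Lib.Lead

variable {G : Type u} [Group G] [Finite G]

variable {M K Q D : Subgroup G} {q : ℕ}

namespace QD

/-- the Frobenius formula for the action of `D ⋊ R` on a `(D ⋊ R)`-invariant subgroup of `Q` -/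
theorem frob_gen (h : QD M K Q D q) {R N : Subgroup G} (hRK : R ≤ K) (hR : R ≠ ⊥)
    (hNQ : N ≤ Q) (hNn : D ⊔ R ≤ Subgroup.normalizer (N : Set G)) :
    Nat.card ↥(N ⊓ Subgroup.centralizer ((D ⊔ R : Subgroup G) : Set G)) ^ Nat.card R *
        Nat.card N =
      Nat.card ↥(N ⊓ Subgroup.centralizer (R : Set G)) ^ Nat.card R *
        Nat.card ↥(N ⊓ Subgroup.centralizer (D : Set G)) := by
  haveI : Fact q.Prime := ⟨h.prime_q⟩
  haveI hMs : Group.IsSolvable ↥M := BG7.isSolvable_of_ne_top h.p1n.hG h.p1n.hM.1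
  have hSM : sigmaCore M ≤ M := BGE.sigmaCore_le M
  have hRD : R ≤ Subgroup.normalizer (D : Set G) := hRK.trans h.hKD
  have hfpf : ∀ r ∈ R, r ≠ 1 → ∀ k ∈ D, r * k = k * r → k = 1 := fun r hr hr1 k hk hrk =>
    h.fpf r (hRK hr) hr1 k hk hrk
  have hsolv : Group.IsSolvable ↥N := isSolvable_of_le ((hNQ.trans h.hQS).trans hSM)
  have hcop : (Nat.card N).Coprime (Nat.card ↥(D ⊔ R)) := by
    have h1 : Nat.card ↥(R ⊔ D) ∣ Nat.card R * Nat.card D := PL.card_sup_dvd' hRD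
    rw [sup_comm]
    apply Nat.Coprime.coprime_dvd_right h1
    have h2 : Nat.card R ∣ Nat.card K := Subgroup.card_dvd_of_le hRK
    have h3 : Nat.card Q ∣ Nat.card (sigmaCore M) := Subgroup.card_dvd_of_le h.hQS
    have h4 : Nat.card N ∣ Nat.card Q := Subgroup.card_dvd_of_le hNQ
    exact Nat.Coprime.coprime_dvd_left h4 (Nat.Coprime.mul_right
      (Nat.Coprime.coprime_dvd_left h2 (Nat.Coprime.coprime_dvd_right h3 h.p1n.coprime)).symm
      h.coprime_QD)
  exact FM.frob_formula D R hR hRD hfpf (Nat.card N) N rfl hNn hsolv hcop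

/-- a `DK`-invariant subgroup between `C_Q(D)` and `Q` is one of the two -/
theorem dichotomy (h : QD M K Q D q) {N : Subgroup G}
    (hQ₀N : Q ⊓ Subgroup.centralizer (D : Set G) ≤ N) (hNQ : N ≤ Q)
    (hNn : D ⊔ K ≤ Subgroup.normalizer (N : Set G)) :
    N = Q ⊓ Subgroup.centralizer (D : Set G) ∨ N = Q := by
  have hf := h.frob_gen (le_refl K) h.p1n.ne hNQ hNn
  have e1 : N ⊓ Subgroup.centralizer (D : Set G) = Q ⊓ Subgroup.centralizer (D : Set G) :=
    le_antisymm (inf_le_inf_right _ hNQ) (le_inf hQ₀N inf_le_right)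
  have hNK : N ⊓ Subgroup.centralizer (K : Set G) ≤
      sigmaCore M ⊓ Subgroup.centralizer (K : Set G) := by
    rw [← h.inf_centralizer_eq (le_refl K) h.p1n.ne]
    exact inf_le_inf_right _ hNQ
  have e2 : N ⊓ Subgroup.centralizer ((D ⊔ K : Subgroup G) : Set G) = ⊥ := by
    rw [eq_bot_iff, ← h.kstar_inf_eq_bot, BGG.centralizer_sup_eq]
    intro x hx
    obtain ⟨hxN, hxC⟩ := Subgroup.mem_inf.mp hx
    obtain ⟨hxD, hxK⟩ := Subgroup.mem_inf.mp hxC
    exact Subgroup.mem_inf.mpr ⟨hNK (Subgroup.mem_inf.mpr ⟨hxN, hxK⟩), hxD⟩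
  rw [e1, e2, Subgroup.card_bot, one_pow, one_mul] at hf
  have hc : Nat.card ↥(N ⊓ Subgroup.centralizer (K : Set G)) ∣ q := by
    have h2 := Subgroup.card_dvd_of_le hNK
    rwa [h.card_Z] at h2
  rcases (Nat.dvd_prime h.prime_q).mp hc with hc1 | hcq
  · left
    rw [hc1, one_pow, one_mul] at hf
    exact (Subgroup.eq_of_le_of_card_ge hQ₀N hf.le).symm
  · right
    rw [hcq] at hf
    apply Subgroup.eq_of_le_of_card_ge hNQ
    exact le_of_eq (by rw [h.card_Q, hf, mul_comm])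

theorem normalizes_Q₀ (h : QD M K Q D q) :
    D ⊔ K ≤ Subgroup.normalizer
      ((Q ⊓ Subgroup.centralizer (D : Set G) : Subgroup G) : Set G) := by
  have hSM : sigmaCore M ≤ M := BGE.sigmaCore_le M
  have hKM : K ≤ M := h.p1n.hall.1
  exact sup_le
    (le_normalizer_inf ((h.hDS.trans hSM).trans h.hQn)
      (PL.le_normalizer_centralizer Subgroup.le_normalizer))
    (le_normalizer_inf (hKM.trans h.hQn) (PL.le_normalizer_centralizer h.hKD))

/-- `Φ(Q) ≤ C_Q(D)` -/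
theorem frattini_le (h : QD M K Q D q) :
    (frattini ↥Q).map Q.subtype ≤ Q ⊓ Subgroup.centralizer (D : Set G) := by
  have hSM : sigmaCore M ≤ M := BGE.sigmaCore_le M
  have hKM : K ≤ M := h.p1n.hall.1
  have hΦQ : (frattini ↥Q).map Q.subtype ≤ Q := Subgroup.map_subtype_le _
  have hΦn : Subgroup.normalizer (Q : Set G) ≤
      Subgroup.normalizer (((frattini ↥Q).map Q.subtype : Subgroup G) : Set G) := by
    apply le_normalizer_of_conj_mem
    intro g hg t ht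
    exact DL2.conj_mem_map_of_characteristic Q (frattini ↥Q) g
      (Subgroup.mem_normalizer_iff.mp hg) t ht
  have hDKQ : D ⊔ K ≤ Subgroup.normalizer (Q : Set G) :=
    sup_le ((h.hDS.trans hSM).trans h.hQn) (hKM.trans h.hQn)
  have hNn := BGF.le_normalizer_sup h.normalizes_Q₀ (hDKQ.trans hΦn)
  rcases h.dichotomy le_sup_left (sup_le inf_le_left hΦQ) hNn with hN | hN
  · exact le_sup_right.trans hN.le
  · exfalso
    apply h.not_centralizes
    have htop : (Q ⊓ Subgroup.centralizer (D : Set G)).subgroupOf Q ⊔ frattini ↥Q = ⊤ := by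
      apply Subgroup.map_injective Q.subtype_injective
      rw [Subgroup.map_sup, map_subgroupOf_eq inf_le_left, ← MonoidHom.range_eq_map,
        Subgroup.range_subtype]
      exact hN
    have h1 := frattini_nongenerating htop
    rw [Subgroup.subgroupOf_eq_top] at h1
    exact h1.trans inf_le_right

theorem comm_mem (h : QD M K Q D q) {a b : G} (ha : a ∈ Q) (hb : b ∈ Q) :
    a * b * a⁻¹ * b⁻¹ ∈ Q ⊓ Subgroup.centralizer (D : Set G) := by
  haveI : Fact q.Prime := ⟨h.prime_q⟩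
  apply h.frattini_le
  have h1 : ⁅(⟨a, ha⟩ : ↥Q), ⟨b, hb⟩⁆ ∈ commutator ↥Q := by
    rw [commutator_def]
    exact Subgroup.commutator_mem_commutator (Subgroup.mem_top _) (Subgroup.mem_top _)
  have h2 := Cfsg.Agent.Lib.Helper1.commutator_le_frattini_of_isPGroup q h.hQq h1
  refine ⟨_, h2, ?_⟩
  first
    | rfl
    | simp [commutatorElement_def]

theorem pow_mem (h : QD M K Q D q) {a : G} (ha : a ∈ Q) :
    a ^ q ∈ Q ⊓ Subgroup.centralizer (D : Set G) := by
  haveI : Fact q.Prime := ⟨h.prime_q⟩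
  apply h.frattini_le
  have h2 := Cfsg.Agent.Lib.Helper1.pow_prime_mem_frattini_of_isPGroup q h.hQq (⟨a, ha⟩ : ↥Q)
  refine ⟨_, h2, ?_⟩
  first
    | rfl
    | simp

/-- `C_Q(D)` is normal in `M` -/
theorem le_normalizer_Q₀ (h : QD M K Q D q) :
    M ≤ Subgroup.normalizer ((Q ⊓ Subgroup.centralizer (D : Set G) : Subgroup G) : Set G) := by
  have hQn : Q ≤ Subgroup.normalizer
      ((Q ⊓ Subgroup.centralizer (D : Set G) : Subgroup G) : Set G) := by
    apply le_normalizer_of_conj_mem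
    intro a ha x hx
    have h1 := h.comm_mem ha (Subgroup.mem_inf.mp hx).1
    have e : a * x * a⁻¹ = (a * x * a⁻¹ * x⁻¹) * x := by group
    rw [e]
    exact Subgroup.mul_mem _ h1 hx
  have hDK := h.normalizes_Q₀
  intro m hm
  obtain ⟨k, hk, s, hs, rfl⟩ := h.p1n.compl.2.2.2 m hm
  obtain ⟨a, ha, d, hd, rfl⟩ := h.compl.2.2.2 s hs
  exact Subgroup.mul_mem _ (hDK (Subgroup.mem_sup_right hk))
    (Subgroup.mul_mem _ (hQn ha) (hDK (Subgroup.mem_sup_left hd)))

theorem Q₀_lt (h : QD M K Q D q) : Q ⊓ Subgroup.centralizer (D : Set G) < Q :=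
  lt_of_le_of_ne inf_le_left (fun heq => h.not_centralizes (heq.symm.le.trans inf_le_right))

theorem no_between (h : QD M K Q D q) {N : Subgroup G}
    (h1 : Q ⊓ Subgroup.centralizer (D : Set G) < N) (h2 : N < Q) :
    ¬ M ≤ Subgroup.normalizer (N : Set G) := by
  intro hMN
  have hSM : sigmaCore M ≤ M := BGE.sigmaCore_le M
  have hKM : K ≤ M := h.p1n.hall.1
  have hDK : D ⊔ K ≤ M := sup_le (h.hDS.trans hSM) hKM
  rcases h.dichotomy h1.le h2.le (hDK.trans hMN) with hN | hN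
  · exact h1.ne' hN
  · exact h2.ne hN

/-- all complements of `Q` in `M_σ` are conjugate under `M_σ` -/
theorem exists_cj_eq (h : QD M K Q D q) {D' : Subgroup G}
    (hD' : IsComplIn Q D' (sigmaCore M)) : ∃ s ∈ sigmaCore M, D' = BG7.cj s D := by
  haveI hq : Fact q.Prime := ⟨h.prime_q⟩
  have hSM : sigmaCore M ≤ M := BGE.sigmaCore_le M
  haveI hMs : Group.IsSolvable ↥M := BG7.isSolvable_of_ne_top h.p1n.hG h.p1n.hM.1
  haveI hSs : Group.IsSolvable ↥(sigmaCore M) := isSolvable_of_le hSM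
  obtain ⟨n, hn⟩ := IsPGroup.iff_card.mp h.hQq
  have hcard : Nat.card D' = Nat.card D := by
    have h1 := ComplIn.card_eq hD'
    have h2 := h.card_eq
    rw [h1] at h2
    exact Nat.eq_of_mul_eq_mul_left Nat.card_pos h2
  have hπ : ∀ p : ℕ, p.Prime → p ∣ Nat.card D → p ≠ q := by
    intro p hp hpD hpq
    rw [hpq] at hpD
    exact hq.out.one_lt.ne' (Nat.eq_one_of_dvd_coprimes h.coprime_QD h.q_dvd_card_Q hpD)
  have hHall : IsPiHallOf {r : ℕ | r ≠ q} D (sigmaCore M) := by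
    refine ⟨h.hDS, fun p hp hpD => hπ p hp hpD, ?_⟩
    intro p hp hpπ hpd
    rw [ComplIn.relIndex_right h.compl, hn] at hpd
    exact hpπ ((Nat.prime_dvd_prime_iff_eq hp hq.out).mp (hp.dvd_of_dvd_pow hpd))
  obtain ⟨s, hs, hle⟩ := BGK.exists_cj_le_of_hall hSs hHall hD'.2.1
    (fun p hp hpD => hπ p hp (hcard ▸ hpD))
  refine ⟨s, hs, Subgroup.eq_of_le_of_card_ge hle (le_of_eq ?_)⟩
  rw [BG7.card_cj, hcard]

theorem inf_centralizer_cj (h : QD M K Q D q) {s : G} (hs : s ∈ M) :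
    Q ⊓ Subgroup.centralizer ((BG7.cj s D : Subgroup G) : Set G) =
      Q ⊓ Subgroup.centralizer (D : Set G) := by
  have h1 : BG7.cj s (Q ⊓ Subgroup.centralizer (D : Set G)) =
      Q ⊓ Subgroup.centralizer (D : Set G) :=
    BG7.cj_eq_of_mem_normalizer (h.le_normalizer_Q₀ hs)
  rw [BG7.cj_inf, BG7.cj_eq_of_mem_normalizer (h.hQn hs), BGK.cj_centralizer'] at h1
  exact h1

end QD

/-- B&G Corollary 15.6, the part about `Q` -/
theorem P1N.sylow_structure (h : P1N M K) :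
    ∃ Q : Subgroup G, Q ≤ Cfsg.fittingHallOf M ∧ M ≤ Subgroup.normalizer (Q : Set G) ∧ IsPGroup (Nat.card ↥(Cfsg.sigmaCore M ⊓ Subgroup.centralizer (K : Set G))) Q ∧
        ¬ Nat.card ↥(Cfsg.sigmaCore M ⊓ Subgroup.centralizer (K : Set G)) ∣ Q.relIndex (Cfsg.sigmaCore M) ∧
        ∀ D : Subgroup G, Cfsg.IsComplIn Q D (Cfsg.sigmaCore M) →
          Group.IsNilpotent D ∧ M ≤ Subgroup.normalizer ((Q ⊓ Subgroup.centralizer (D : Set G) : Subgroup G) : Set G) ∧
          Q ⊓ Subgroup.centralizer (D : Set G) < Q ∧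
          Nat.card Q = Nat.card ↥(Q ⊓ Subgroup.centralizer (D : Set G)) * Nat.card ↥(Cfsg.sigmaCore M ⊓ Subgroup.centralizer (K : Set G)) ^ Nat.card K ∧
          (∀ a ∈ Q, ∀ b ∈ Q, a ^ Nat.card ↥(Cfsg.sigmaCore M ⊓ Subgroup.centralizer (K : Set G)) ∈ Q ⊓ Subgroup.centralizer (D : Set G) ∧
            a * b * a⁻¹ * b⁻¹ ∈ Q ⊓ Subgroup.centralizer (D : Set G)) ∧
          ∀ N : Subgroup G, Q ⊓ Subgroup.centralizer (D : Set G) < N → N < Q → ¬ M ≤ Subgroup.normalizer (N : Set G) := by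
  obtain ⟨Q, D₁, q, hQD⟩ := h.exists_QD
  have hq := hQD.hq
  subst hq
  haveI : Fact (Nat.card ↥(sigmaCore M ⊓ Subgroup.centralizer (K : Set G))).Prime :=
    ⟨h.kstar_prime⟩
  have hSM := BGE.sigmaCore_le M
  refine ⟨Q, ?_, hQD.hQn, hQD.hQq, hQD.not_dvd, ?_⟩
  · apply P1N.le_fittingHallOf_of_all (hQD.hQS.trans hSM) hQD.hQn hQD.hQq
    intro P hPM hP
    exact hQD.hall P (BGE.qsub_le_sigmaCore h.hG h.hM h.q_mem_sigma hP hPM) hP
  · intro D hD
    obtain ⟨s, hs, rfl⟩ := hQD.exists_cj_eq hD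
    have e := hQD.inf_centralizer_cj (hSM hs)
    rw [e]
    refine ⟨?_, hQD.le_normalizer_Q₀, hQD.Q₀_lt, hQD.card_Q,
      fun a ha b hb => ⟨hQD.pow_mem ha, hQD.comm_mem ha hb⟩,
      fun N h1 h2 => hQD.no_between h1 h2⟩
    haveI := hQD.nilpotent_D
    exact Group.nilpotent_of_mulEquiv (D₁.equivMapOfInjective (MulAut.conj s).toMonoidHom
      (MulAut.conj s).injective)

/-- **S1437** (B&G Corollary 15.6) from rows S1430, S1431. -/
theorem s1437_of (h1430 : Row1430 G) (h1431 : Row1431 G) (hG : IsMinSimpleOddOrder G)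
    (M : Subgroup G) (hM : IsCoatom M) (K U : Subgroup G) (hKU : Cfsg.IsSigmaDecomposition M K U) (hne : Cfsg.fittingHallOf M ≠ Cfsg.sigmaCore M) :
    U = ⊥ ∧ Cfsg.sigmaCore M = ⁅M, M⁆ ∧ (Nat.card K).Prime ∧ (Nat.card ↥(Cfsg.sigmaCore M ⊓ Subgroup.centralizer (K : Set G))).Prime ∧
      Nat.card ↥(Cfsg.sigmaCore M ⊓ Subgroup.centralizer (K : Set G)) ∣ Nat.card (Cfsg.fittingHallOf M) ∧ Nat.card ↥(Cfsg.sigmaCore M ⊓ Subgroup.centralizer (K : Set G)) ∈ Cfsg.beta M ∧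
      ∃ Q : Subgroup G, Q ≤ Cfsg.fittingHallOf M ∧ M ≤ Subgroup.normalizer (Q : Set G) ∧ IsPGroup (Nat.card ↥(Cfsg.sigmaCore M ⊓ Subgroup.centralizer (K : Set G))) Q ∧
        ¬ Nat.card ↥(Cfsg.sigmaCore M ⊓ Subgroup.centralizer (K : Set G)) ∣ Q.relIndex (Cfsg.sigmaCore M) ∧
        ∀ D : Subgroup G, Cfsg.IsComplIn Q D (Cfsg.sigmaCore M) →
          Group.IsNilpotent D ∧ M ≤ Subgroup.normalizer ((Q ⊓ Subgroup.centralizer (D : Set G) : Subgroup G) : Set G) ∧
          Q ⊓ Subgroup.centralizer (D : Set G) < Q ∧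
          Nat.card Q = Nat.card ↥(Q ⊓ Subgroup.centralizer (D : Set G)) * Nat.card ↥(Cfsg.sigmaCore M ⊓ Subgroup.centralizer (K : Set G)) ^ Nat.card K ∧
          (∀ a ∈ Q, ∀ b ∈ Q, a ^ Nat.card ↥(Cfsg.sigmaCore M ⊓ Subgroup.centralizer (K : Set G)) ∈ Q ⊓ Subgroup.centralizer (D : Set G) ∧
            a * b * a⁻¹ * b⁻¹ ∈ Q ⊓ Subgroup.centralizer (D : Set G)) ∧
          ∀ N : Subgroup G, Q ⊓ Subgroup.centralizer (D : Set G) < N → N < Q → ¬ M ≤ Subgroup.normalizer (N : Set G) := by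
  have hnn : ¬ Group.IsNilpotent ↥(sigmaCore M) := fun hnil =>
    hne (BGK.sigmaCore_eq_fittingHallOf hG hM hnil).symm
  have hp1 := BGK.p1_of_not_nilpotent hG hM hnn
  have hU : U = ⊥ := decomp_U_eq_bot hG hM hp1 hKU
  subst hU
  have hK1 := BGK.hall_kappa_ne_bot hG hM hp1 hKU.hall
  have hP : P1N M K := ⟨hG, hM, hKU, hK1, hnn, h1430, h1431⟩
  refine ⟨rfl, hP.derived_eq.symm, ?_, hP.kstar_prime,
    Subgroup.card_dvd_of_le hP.kstar_le_fittingHallOf, ?_, hP.sylow_structure⟩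
  · obtain ⟨Q, D, q, hQD⟩ := hP.exists_QD
    exact hQD.prime_K
  · obtain ⟨Q, D, q, hQD⟩ := hP.exists_QD
    have h1 := hQD.q_mem_beta
    rw [hQD.hq] at h1
    exact h1

end Cfsg.Agent.Lib.Helper2.BGL
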