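import Mathlib
import Cfsg.Agent.Lib.Helper2.BGL6
import Cfsg.Agent.Lib.Helper1.FM13
import Cfsg.Agent.Lib.Helper1.KL0
import Cfsg.Agent.Lib.Helper1.MillerMoreno
import Cfsg.Agent.Lib.Helper2.Cores
import Cfsg.Agent.Lib.Helper3.BG16b
import Cfsg.Agent.Lib.Helper7.BGK18
import Cfsg.Agent.Lib.Lead.NilpotentCoprime
import Cfsg.Agent.S1351
import Cfsg.Agent.S1352
import Cfsg.Agent.S1359
import Cfsg.Agent.S1364
import Cfsg.Agent.S1365
import Cfsg.Agent.S1420
import Cfsg.Agent.S1430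
import Cfsg.Agent.S1431

set_option autoImplicit false
set_option maxHeartbeats 4000000
set_option linter.unusedVariables false
set_option linter.unusedSectionVars false
set_option linter.style.longLine false
set_option linter.unusedSimpArgs false
set_option linter.deprecated false
set_option linter.style.haveILetI false

/-!
# B&G Theorem 15.2(b): `M'' ≤ F(M) = C_M(M_F) M_F`, and `F(M) ≤ M'` when `κ(M) ≠ ∅`
-/

open scoped commutatorElement Pointwise
universe u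
namespace Cfsg.Agent.Lib.Helper2.BGL

open Cfsg Cfsg.Agent.Lib.Helper1 Cfsg.Agent.Lib.Helper7 Cfsg.Agent.Lib.Helper3
  Cfsg.Agent.Lib.Helper7.BGRows Cfsg.Agent.Lib.Lead

variable {G : Type u} [Group G] [Finite G]

/-! ### general lemmas -/

omit [Finite G] in
theorem complIn_swap {A B S₀ : Subgroup G} (hc : IsComplIn A B S₀) :
    ∀ s ∈ S₀, ∃ b ∈ B, ∃ a ∈ A, s = b * a := by
  intro s hs
  obtain ⟨a, ha, b, hb, hab⟩ := hc.2.2.2 s⁻¹ (S₀.inv_mem hs)
  refine ⟨b⁻¹, B.inv_mem hb, a⁻¹, A.inv_mem ha, ?_⟩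
  have e : s = (s⁻¹)⁻¹ := (inv_inv s).symm
  rw [e, hab, mul_inv_rev]

omit [Finite G] in
/-- if `S₀ = A B` with `A` normal in `S₀` then `S₀' ≤ A B'` -/
theorem commutator_le_of_factor {A B S₀ : Subgroup G}
    (hmul : ∀ s ∈ S₀, ∃ a ∈ A, ∃ b ∈ B, s = a * b) (hB : B ≤ S₀)
    (hn : S₀ ≤ Subgroup.normalizer (A : Set G)) : ⁅S₀, S₀⁆ ≤ A ⊔ ⁅B, B⁆ := by
  rw [Subgroup.commutator_le]
  intro s₁ hs₁ s₂ hs₂
  obtain ⟨a₁, ha₁, b₁, hb₁, rfl⟩ := hmul s₁ hs₁
  obtain ⟨a₂, ha₂, b₂, hb₂, rfl⟩ := hmul s₂ hs₂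
  rw [commutatorElement_def]
  have e : a₁ * b₁ * (a₂ * b₂) * (a₁ * b₁)⁻¹ * (a₂ * b₂)⁻¹ =
      a₁ * (b₁ * a₂ * b₁⁻¹) * (b₁ * b₂ * b₁⁻¹ * b₂⁻¹) * (b₂ * a₁⁻¹ * b₂⁻¹) * a₂⁻¹ := by group
  rw [e]
  have h1 : b₁ * a₂ * b₁⁻¹ ∈ A := (Subgroup.mem_normalizer_iff.mp (hn (hB hb₁)) a₂).mp ha₂
  have h2 : b₂ * a₁⁻¹ * b₂⁻¹ ∈ A :=
    (Subgroup.mem_normalizer_iff.mp (hn (hB hb₂)) a₁⁻¹).mp (A.inv_mem ha₁)
  have h3 : b₁ * b₂ * b₁⁻¹ * b₂⁻¹ ∈ ⁅B, B⁆ := by
    rw [← commutatorElement_def]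
    exact Subgroup.commutator_mem_commutator hb₁ hb₂
  exact Subgroup.mul_mem _ (Subgroup.mul_mem _ (Subgroup.mul_mem _ (Subgroup.mul_mem _
    (Subgroup.mem_sup_left ha₁) (Subgroup.mem_sup_left h1)) (Subgroup.mem_sup_right h3))
    (Subgroup.mem_sup_left h2)) (Subgroup.mem_sup_left (A.inv_mem ha₂))

/-- `F(N) ≤ F(M)` for `N` normal in `M` -/
theorem fittingOf_le_of_normal {N M : Subgroup G} (hNM : N ≤ M)
    (hn : M ≤ Subgroup.normalizer (N : Set G)) : fittingOf N ≤ fittingOf M := by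
  haveI : (fittingSubgroup ↥N).Characteristic :=
    Cfsg.Agent.Lib.Helper2.fittingSubgroup_characteristic
  have h1 : fittingOf N ≤ N := Subgroup.map_subtype_le _
  have h2 : M ≤ Subgroup.normalizer ((fittingOf N : Subgroup G) : Set G) := by
    apply le_normalizer_of_conj_mem
    intro g hg t ht
    exact DL2.conj_mem_map_of_characteristic N (fittingSubgroup ↥N) g
      (Subgroup.mem_normalizer_iff.mp (hn hg)) t ht
  have h3 : Group.IsNilpotent ↥(fittingOf N) := by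
    haveI : Group.IsNilpotent ↥(fittingSubgroup ↥N) := fittingSubgroup_isNilpotent
    exact Group.nilpotent_of_mulEquiv
      ((fittingSubgroup ↥N).equivMapOfInjective N.subtype N.subtype_injective)
  exact BGK.le_fittingOf_of_le_normalizer (h1.trans hNM) h2 h3

omit [Finite G] in
theorem fittingHallOf_le_fittingOf (M : Subgroup G) : fittingHallOf M ≤ fittingOf M := by
  show (fittingHall ↥M).map M.subtype ≤ (fittingSubgroup ↥M).map M.subtype
  exact Subgroup.map_mono (FittingHall.fittingHall_le_fittingSubgroup ↥M)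

theorem exists_mem_orderOf_eq {B : Subgroup G} {r : ℕ} (hr : r.Prime) (h : r ∣ Nat.card B) :
    ∃ x ∈ B, orderOf x = r := by
  haveI : Fact r.Prime := ⟨hr⟩
  obtain ⟨x, hx⟩ := exists_prime_orderOf_dvd_card' r h
  exact ⟨x, x.2, by rw [Subgroup.orderOf_coe]; exact hx⟩

/-- a group `C` centralizing `P`, with `C ∩ P` a nilpotent Hall subgroup of `C` all of whose
complements are nilpotent, is nilpotent -/
theorem isNilpotent_of_central_hall {C P : Subgroup G}
    (hCP : C ≤ Subgroup.normalizer (P : Set G)) (hcen : C ≤ Subgroup.centralizer (P : Set G))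
    (hZnil : Group.IsNilpotent ↥(C ⊓ P))
    (hcop : (Nat.card ↥(C ⊓ P)).Coprime ((C ⊓ P).relIndex C))
    (hB : ∀ B : Subgroup G, B ≤ C → B ⊓ P = ⊥ → Group.IsNilpotent ↥B) :
    Group.IsNilpotent ↥C := by
  have hZC : C ⊓ P ≤ C := inf_le_left
  have hCZ : C ≤ Subgroup.normalizer ((C ⊓ P : Subgroup G) : Set G) :=
    le_normalizer_inf Subgroup.le_normalizer hCP
  obtain ⟨B, hBC, hBZ, hsup, hBc⟩ := exists_relative_complement (C ⊓ P) C hZC hCZ hcop
  have hcompl : IsComplIn (C ⊓ P) B C :=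
    BGK.complIn_of_card_le hZC hBC (by rw [inf_comm (C ⊓ P) B]; exact hBZ)
      (le_of_eq (by rw [hBc]; exact (BGG.card_mul_relIndex' hZC).symm))
  have hBP : B ⊓ P = ⊥ := by
    rw [eq_bot_iff, ← hBZ]
    intro x hx
    obtain ⟨hxB, hxP⟩ := Subgroup.mem_inf.mp hx
    exact Subgroup.mem_inf.mpr ⟨hxB, Subgroup.mem_inf.mpr ⟨hBC hxB, hxP⟩⟩
  have hZB : C ⊓ P ≤ Subgroup.centralizer (B : Set G) := by
    intro z hz
    rw [Subgroup.mem_centralizer_iff]
    intro b hb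
    exact (Subgroup.mem_centralizer_iff.mp (hcen (hBC hb)) z (Subgroup.mem_inf.mp hz).2).symm
  exact isNilpotent_of_compl_centralizes hcompl hZnil (hB B hBC hBP) hZB

/-- `F(M) ≤ C_M(M_F) M_F` -/
theorem fittingOf_le_sup (M : Subgroup G) (hMs : Group.IsSolvable ↥M) :
    fittingOf M ≤ (M ⊓ Subgroup.centralizer (fittingHallOf M : Set G)) ⊔ fittingHallOf M := by
  obtain ⟨A, hAdef⟩ : ∃ A : Subgroup G, A = fittingHallOf M := ⟨_, rfl⟩
  rw [← hAdef]
  have hAM : A ≤ M := hAdef ▸ FittingHall.fittingHallOf_le M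
  have hAn : M ≤ Subgroup.normalizer (A : Set G) :=
    hAdef ▸ FittingHall.le_normalizer_fittingHallOf M
  have hcop : (Nat.card A).Coprime (A.relIndex M) :=
    hAdef ▸ FittingHall.fittingHallOf_coprime M
  have hAF : A ≤ fittingOf M := hAdef ▸ fittingHallOf_le_fittingOf M
  have hFM : fittingOf M ≤ M := Subgroup.map_subtype_le _
  have hcard : Nat.card A * A.relIndex M = Nat.card M := BGG.card_mul_relIndex' hAM
  have hHall : IsPiHallOf {r : ℕ | r ∣ Nat.card A} A M := by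
    refine ⟨hAM, fun p hp hpA => hpA, ?_⟩
    intro p hp hpA hpi
    exact hp.one_lt.ne' (Nat.eq_one_of_dvd_coprimes hcop hpA hpi)
  intro x hx
  have hxM : x ∈ M := hFM hx
  have hxpow : x ^ (Nat.card A * A.relIndex M) = 1 := by
    rw [hcard]; exact BGK.pow_card_of_mem hxM
  obtain ⟨y, z, hy, hz, hxyz, hya, hzb⟩ := BGK.coprime_decomp hcop hxpow
  have hyM : y ∈ M := (Subgroup.zpowers_le.mpr hxM) hy
  have hzF : z ∈ fittingOf M := (Subgroup.zpowers_le.mpr hx) hz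
  have hzM : z ∈ M := hFM hzF
  have hyA : y ∈ A := by
    have h1 : Subgroup.zpowers y ≤ A :=
      BG15.le_of_normal_hall hMs hHall hAn (Subgroup.zpowers_le.mpr hyM) (by
        intro p hp hpy
        show p ∣ Nat.card A
        rw [Nat.card_zpowers] at hpy
        exact hpy.trans (orderOf_dvd_of_pow_eq_one hya))
    exact h1 (Subgroup.mem_zpowers y)
  have hzC : z ∈ Subgroup.centralizer (A : Set G) := by
    rw [Subgroup.mem_centralizer_iff]
    intro a ha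
    have haF : a ∈ fittingOf M := hAF ha
    obtain ⟨wz, hwz, hwzz⟩ := hzF
    obtain ⟨wa, hwa, hwaa⟩ := haF
    have hwzz' : (wz : G) = z := hwzz
    have hwaa' : (wa : G) = a := hwaa
    have hoz : orderOf (⟨wz, hwz⟩ : ↥(fittingSubgroup ↥M)) = orderOf z := by
      rw [Subgroup.orderOf_mk, ← Subgroup.orderOf_coe wz, hwzz']
    have hoa : orderOf (⟨wa, hwa⟩ : ↥(fittingSubgroup ↥M)) = orderOf a := by
      rw [Subgroup.orderOf_mk, ← Subgroup.orderOf_coe wa, hwaa']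
    have hcopo : (orderOf (⟨wz, hwz⟩ : ↥(fittingSubgroup ↥M))).Coprime
        (orderOf (⟨wa, hwa⟩ : ↥(fittingSubgroup ↥M))) := by
      rw [hoz, hoa]
      exact Nat.Coprime.coprime_dvd_left (orderOf_dvd_of_pow_eq_one hzb)
        (Nat.Coprime.coprime_dvd_right (Subgroup.orderOf_dvd_natCard A ha) hcop.symm)
    haveI : Group.IsNilpotent ↥(fittingSubgroup ↥M) := fittingSubgroup_isNilpotent
    have hc := NilpotentCoprime.commute_of_coprime ↥(fittingSubgroup ↥M) inferInstance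
      ⟨wz, hwz⟩ ⟨wa, hwa⟩ hcopo
    have hc' : (wz : G) * (wa : G) = (wa : G) * (wz : G) := by
      have := congrArg (fun t : ↥(fittingSubgroup ↥M) => ((t : ↥M) : G)) hc
      exact this
    rw [hwzz', hwaa'] at hc'
    exact hc'.symm
  rw [hxyz]
  exact Subgroup.mul_mem _ (Subgroup.mem_sup_right hyA)
    (Subgroup.mem_sup_left (Subgroup.mem_inf.mpr ⟨hzM, hzC⟩))

/-! ### the case `M_σ` not nilpotent -/

variable {M K Q D : Subgroup G} {q : ℕ}

namespace QD

theorem hall_D (h : QD M K Q D q) : IsPiHallOf {r : ℕ | r ≠ q} D (sigmaCore M) := by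
  haveI hq : Fact q.Prime := ⟨h.prime_q⟩
  obtain ⟨n, hn⟩ := IsPGroup.iff_card.mp h.hQq
  refine ⟨h.hDS, ?_, ?_⟩
  · intro p hp hpD
    show p ≠ q
    intro hpq
    rw [hpq] at hpD
    exact hq.out.one_lt.ne' (Nat.eq_one_of_dvd_coprimes h.coprime_QD h.q_dvd_card_Q hpD)
  · intro p hp hpπ hpd
    rw [ComplIn.relIndex_right h.compl, hn] at hpd
    exact hpπ ((Nat.prime_dvd_prime_iff_eq hp hq.out).mp (hp.dvd_of_dvd_pow hpd))

theorem coprime_sup (h : QD M K Q D q) : (Nat.card Q).Coprime (Nat.card ↥(D ⊔ K)) := by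
  have h1 : Nat.card ↥(K ⊔ D) ∣ Nat.card K * Nat.card D := PL.card_sup_dvd' h.hKD
  rw [sup_comm]
  apply Nat.Coprime.coprime_dvd_right h1
  have h3 : Nat.card Q ∣ Nat.card (sigmaCore M) := Subgroup.card_dvd_of_le h.hQS
  exact Nat.Coprime.mul_right (Nat.Coprime.coprime_dvd_right h3 h.p1n.coprime).symm h.coprime_QD

/-- `D' ≤ C(Q)` -/
theorem derived_le (h : QD M K Q D q) : ⁅D, D⁆ ≤ Subgroup.centralizer (Q : Set G) := by
  haveI : Fact q.Prime := ⟨h.prime_q⟩
  haveI hMs : Group.IsSolvable ↥M := BG7.isSolvable_of_ne_top h.p1n.hG h.p1n.hM.1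
  have hSM : sigmaCore M ≤ M := BGE.sigmaCore_le M
  have hKM : K ≤ M := h.p1n.hall.1
  have hnorm : D ⊔ K ≤ Subgroup.normalizer (Q : Set G) :=
    sup_le ((h.hDS.trans hSM).trans h.hQn) (hKM.trans h.hQn)
  have hsolv : Group.IsSolvable ↥Q := isSolvable_of_le (h.hQS.trans hSM)
  have hcyc : IsCyclic ↥(Q ⊓ Subgroup.centralizer (K : Set G)) := by
    rw [h.inf_centralizer_eq (le_refl K) h.p1n.ne]
    exact isCyclic_of_prime_card h.card_Z
  exact FM.frob_derived D K h.p1n.ne h.hKD h.fpf (Nat.card Q) Q rfl hnorm hsolv h.coprime_sup hcyc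

theorem second_derived_le (h : QD M K Q D q) : ⁅⁅M, M⁆, ⁅M, M⁆⁆ ≤ fittingOf M := by
  haveI : Fact q.Prime := ⟨h.prime_q⟩
  have hSM : sigmaCore M ≤ M := BGE.sigmaCore_le M
  have hSn : M ≤ Subgroup.normalizer (sigmaCore M : Set G) := BGE.le_normalizer_sigmaCore M
  rw [h.p1n.derived_eq]
  have h1 : ⁅sigmaCore M, sigmaCore M⁆ ≤ Q ⊔ ⁅D, D⁆ :=
    commutator_le_of_factor h.compl.2.2.2 h.hDS (hSM.trans h.hQn)
  have hQF : Q ≤ fittingOf (sigmaCore M) :=
    BGK.le_fittingOf_of_le_normalizer h.hQS (hSM.trans h.hQn) h.hQq.isNilpotent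
  have hDD : ⁅D, D⁆ ≤ D := FM.derived_le_self D
  have hTc : ⁅D, D⁆ ≤ Subgroup.centralizer (Q : Set G) := h.derived_le
  have hTn : sigmaCore M ≤ Subgroup.normalizer ((⁅D, D⁆ : Subgroup G) : Set G) := by
    apply le_normalizer_of_conj_mem
    intro s hs x hx
    obtain ⟨a, ha, d, hd, rfl⟩ := h.compl.2.2.2 s hs
    have hy : d * x * d⁻¹ ∈ ⁅D, D⁆ := by
      have h1 : ⁅d, x⁆ ∈ ⁅D, D⁆ := Subgroup.commutator_mem_commutator hd (hDD hx)
      rw [commutatorElement_def] at h1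
      have e : d * x * d⁻¹ = (d * x * d⁻¹ * x⁻¹) * x := by group
      rw [e]
      exact Subgroup.mul_mem _ h1 hx
    have hc : a * (d * x * d⁻¹) = (d * x * d⁻¹) * a :=
      Subgroup.mem_centralizer_iff.mp (hTc hy) a ha
    have e : a * d * x * (a * d)⁻¹ = a * (d * x * d⁻¹) * a⁻¹ := by group
    rw [e, hc]
    have e2 : d * x * d⁻¹ * a * a⁻¹ = d * x * d⁻¹ := by group
    rw [e2]
    exact hy
  have hTnil : Group.IsNilpotent ↥(⁅D, D⁆ : Subgroup G) :=
    FittingHall.isNilpotent_of_le hDD h.nilpotent_D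
  have hTF : ⁅D, D⁆ ≤ fittingOf (sigmaCore M) :=
    BGK.le_fittingOf_of_le_normalizer (hDD.trans h.hDS) hTn hTnil
  exact (h1.trans (sup_le hQF hTF)).trans (fittingOf_le_of_normal hSM hSn)

/-- `C_M(Q) ≤ M_σ` -/
theorem centralizer_Q_le (h : QD M K Q D q) :
    M ⊓ Subgroup.centralizer (Q : Set G) ≤ sigmaCore M := by
  haveI hq : Fact q.Prime := ⟨h.prime_q⟩
  haveI hMs : Group.IsSolvable ↥M := BG7.isSolvable_of_ne_top h.p1n.hG h.p1n.hM.1
  have hSM : sigmaCore M ≤ M := BGE.sigmaCore_le M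
  have hp := h.prime_K
  obtain ⟨p, hpdef⟩ : ∃ p : ℕ, p = Nat.card K := ⟨_, rfl⟩
  rw [← hpdef] at hp
  have hcopp : p.Coprime (Nat.card (sigmaCore M)) := hpdef ▸ h.p1n.coprime
  have hHall : IsPiHallOf {r : ℕ | r ≠ p} (sigmaCore M) M := by
    refine ⟨hSM, ?_, ?_⟩
    · intro r hr hrS
      show r ≠ p
      intro hrp
      rw [hrp] at hrS
      exact hp.one_lt.ne' (Nat.eq_one_of_dvd_coprimes hcopp (dvd_refl p) hrS)
    · intro r hr hrπ hrd
      rw [ComplIn.relIndex_right h.p1n.compl, ← hpdef] at hrd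
      exact hrπ ((Nat.prime_dvd_prime_iff_eq hr hp).mp hrd)
  intro c hc
  obtain ⟨hcM, hcQ⟩ := Subgroup.mem_inf.mp hc
  by_cases hpc : p ∣ orderOf c
  · exfalso
    have hxo : orderOf (c ^ (orderOf c / p)) = p :=
      orderOf_pow_orderOf_div (orderOf_pos c).ne' hpc
    obtain ⟨x, hxdef⟩ : ∃ x : G, x = c ^ (orderOf c / p) := ⟨_, rfl⟩
    rw [← hxdef] at hxo
    have hxM : x ∈ M := hxdef ▸ M.pow_mem hcM _
    have hxQ : x ∈ Subgroup.centralizer (Q : Set G) := hxdef ▸ Subgroup.pow_mem _ hcQ _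
    obtain ⟨hXc, hXp, hx1⟩ := BGK.zpowers_facts hp hxo
    obtain ⟨m, hm, hle⟩ := BGK.exists_cj_le_of_hall hMs h.p1n.hall
      (Subgroup.zpowers_le.mpr hxM) (by
        intro r hr hrX
        rw [hXc] at hrX
        have hrK : r ∣ Nat.card K := hpdef ▸ hrX
        exact h.p1n.hall.2.1 r hr hrK)
    have heq : Subgroup.zpowers x = BG7.cj m K :=
      Subgroup.eq_of_le_of_card_ge hle (le_of_eq (by rw [BG7.card_cj, hXc, hpdef]))
    have hxC : Subgroup.zpowers x ≤ Subgroup.centralizer (Q : Set G) :=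
      Subgroup.zpowers_le.mpr hxQ
    have hKC : K ≤ Subgroup.centralizer (Q : Set G) := by
      have h1 : BG7.cj m⁻¹ (BG7.cj m K) ≤ BG7.cj m⁻¹ (Subgroup.centralizer (Q : Set G)) :=
        BG7.cj_mono (k := m⁻¹) (heq ▸ hxC)
      rw [BG7.cj_inv_cj, BGK.cj_centralizer',
        BG7.cj_eq_of_mem_normalizer (h.hQn (M.inv_mem hm))] at h1
      exact h1
    have hQK : Q ≤ Subgroup.centralizer (K : Set G) := Subgroup.le_centralizer_iff.mp hKC
    have hQeq : Q ⊓ Subgroup.centralizer (K : Set G) = Q := inf_eq_left.mpr hQK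
    have hcardQ : Nat.card Q = q := by
      have h1 := h.inf_centralizer_eq (le_refl K) h.p1n.ne
      rw [hQeq] at h1
      rw [h1, h.card_Z]
    have h2 := h.card_Q
    rw [hcardQ, ← hpdef] at h2
    have h3 : q ^ p ∣ q := Dvd.intro_left _ h2.symm
    have h4 : q ^ p ≤ q := Nat.le_of_dvd hq.out.pos h3
    have h5 : q ^ 1 < q ^ p := Nat.pow_lt_pow_right hq.out.one_lt hp.one_lt
    rw [pow_one] at h5
    omega
  · have h1 : Subgroup.zpowers c ≤ sigmaCore M :=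
      BG15.le_of_normal_hall hMs hHall (BGE.le_normalizer_sigmaCore M)
        (Subgroup.zpowers_le.mpr hcM) (by
          intro r hr hrc
          show r ≠ p
          intro hrp
          rw [Nat.card_zpowers, hrp] at hrc
          exact hpc hrc)
    exact h1 (Subgroup.mem_zpowers c)

/-- `C_{M_σ}(Q)` is nilpotent -/
theorem nilpotent_centralizer (h : QD M K Q D q) :
    Group.IsNilpotent ↥(sigmaCore M ⊓ Subgroup.centralizer (Q : Set G)) := by
  haveI hq : Fact q.Prime := ⟨h.prime_q⟩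
  haveI hMs : Group.IsSolvable ↥M := BG7.isSolvable_of_ne_top h.p1n.hG h.p1n.hM.1
  have hSM : sigmaCore M ≤ M := BGE.sigmaCore_le M
  haveI hSs : Group.IsSolvable ↥(sigmaCore M) := isSolvable_of_le hSM
  have hZq : IsPGroup q ↥((sigmaCore M ⊓ Subgroup.centralizer (Q : Set G)) ⊓ Q) :=
    h.hQq.to_le inf_le_right
  apply isNilpotent_of_central_hall (P := Q) ((inf_le_left.trans hSM).trans h.hQn) inf_le_right
    hZq.isNilpotent
  · have hnd := not_dvd_relIndex_of_all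
      (inf_le_left : (sigmaCore M ⊓ Subgroup.centralizer (Q : Set G)) ⊓ Q ≤
        sigmaCore M ⊓ Subgroup.centralizer (Q : Set G)) hZq (by
        intro P hPC hP
        exact le_inf hPC (h.hall P (hPC.trans inf_le_left) hP))
    obtain ⟨n, hn⟩ := IsPGroup.iff_card.mp hZq
    rw [hn]
    exact Nat.Coprime.pow_left n ((Nat.Prime.coprime_iff_not_dvd hq.out).mpr hnd)
  · intro B hBC hBQ
    have hBS : B ≤ sigmaCore M := hBC.trans inf_le_left
    have hπ : ∀ r : ℕ, r.Prime → r ∣ Nat.card B → r ∈ {r : ℕ | r ≠ q} := by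
      intro r hr hrB
      show r ≠ q
      intro hrq
      obtain ⟨x, hxB, hxo⟩ := exists_mem_orderOf_eq hr hrB
      rw [hrq] at hxo
      obtain ⟨hXc, hXq, hx1⟩ := BGK.zpowers_facts hq.out hxo
      have h1 : Subgroup.zpowers x ≤ Q :=
        h.hall _ (Subgroup.zpowers_le.mpr (hBS hxB)) hXq
      have h2 : x ∈ B ⊓ Q := Subgroup.mem_inf.mpr ⟨hxB, h1 (Subgroup.mem_zpowers x)⟩
      rw [hBQ, Subgroup.mem_bot] at h2
      exact hx1 h2
    obtain ⟨s, hs, hle⟩ := BGK.exists_cj_le_of_hall hSs h.hall_D hBS hπ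
    have hnil : Group.IsNilpotent ↥(BG7.cj s D) := by
      haveI := h.nilpotent_D
      exact Group.nilpotent_of_mulEquiv (D.equivMapOfInjective (MulAut.conj s).toMonoidHom
        (MulAut.conj s).injective)
    exact FittingHall.isNilpotent_of_le hle hnil

theorem fitting_eq (h : QD M K Q D q) :
    fittingOf M = (M ⊓ Subgroup.centralizer (fittingHallOf M : Set G)) ⊔ fittingHallOf M := by
  haveI hq : Fact q.Prime := ⟨h.prime_q⟩
  haveI hMs : Group.IsSolvable ↥M := BG7.isSolvable_of_ne_top h.p1n.hG h.p1n.hM.1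
  have hSM : sigmaCore M ≤ M := BGE.sigmaCore_le M
  have hSn : M ≤ Subgroup.normalizer (sigmaCore M : Set G) := BGE.le_normalizer_sigmaCore M
  have hqσ : q ∈ sigma M := h.hq ▸ h.p1n.q_mem_sigma
  apply le_antisymm (fittingOf_le_sup M hMs)
  refine sup_le ?_ (fittingHallOf_le_fittingOf M)
  have hQA : Q ≤ fittingHallOf M := by
    apply P1N.le_fittingHallOf_of_all (h.hQS.trans hSM) h.hQn h.hQq
    intro P hPM hP
    exact h.hall P (BGE.qsub_le_sigmaCore h.p1n.hG h.p1n.hM hqσ hP hPM) hP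
  have h1 : M ⊓ Subgroup.centralizer (fittingHallOf M : Set G) ≤
      sigmaCore M ⊓ Subgroup.centralizer (Q : Set G) := by
    have h2 : M ⊓ Subgroup.centralizer (fittingHallOf M : Set G) ≤
        M ⊓ Subgroup.centralizer (Q : Set G) :=
      inf_le_inf_left M (Subgroup.centralizer_le (SetLike.coe_subset_coe.mpr hQA))
    exact le_inf (h2.trans h.centralizer_Q_le) (h2.trans inf_le_right)
  exact h1.trans (BGK.le_fittingOf_of_le_normalizer (inf_le_left.trans hSM)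
    (le_normalizer_inf hSn (PL.le_normalizer_centralizer h.hQn)) h.nilpotent_centralizer)

theorem fitting_le_derived (h : QD M K Q D q) : fittingOf M ≤ ⁅M, M⁆ := by
  haveI hMs : Group.IsSolvable ↥M := BG7.isSolvable_of_ne_top h.p1n.hG h.p1n.hM.1
  rw [h.p1n.derived_eq]
  have hHall : IsPiHallOf (sigma M) (sigmaCore M) M := (BGA.s1350 h.p1n.hG M h.p1n.hM).1
  exact BG15.le_of_normal_hall hMs hHall (BGE.le_normalizer_sigmaCore M)
    (Subgroup.map_subtype_le _) (by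
      intro r hr hrF
      obtain ⟨x, hxF, hxo⟩ := exists_mem_orderOf_eq hr hrF
      exact h.p1n.fitting_primes hxF hr hxo)

end QD

/-! ### the case `M_σ` nilpotent -/

section caseA

variable (hG : IsMinSimpleOddOrder G) {M : Subgroup G} (hM : IsCoatom M)
  (hnil : Group.IsNilpotent ↥(sigmaCore M))

include hG hM hnil

theorem caseA_second_derived : ⁅⁅M, M⁆, ⁅M, M⁆⁆ ≤ fittingOf M := by
  have hSM : sigmaCore M ≤ M := BGE.sigmaCore_le M
  have hSn : M ≤ Subgroup.normalizer (sigmaCore M : Set G) := BGE.le_normalizer_sigmaCore M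
  obtain ⟨E, hE⟩ := BGK.exists_compl hG hM
  have hEab := (Cfsg.Agent.S1420.result hG M hM E hE).2.1
  have hEE : ⁅E, E⁆ ≤ E := FM.derived_le_self E
  have h1 : ⁅M, M⁆ ≤ sigmaCore M ⊔ ⁅E, E⁆ :=
    commutator_le_of_factor (complIn_swap hE) hE.1 hSn
  obtain ⟨N₁, hN₁⟩ : ∃ N₁ : Subgroup G, N₁ = sigmaCore M ⊔ ⁅E, E⁆ := ⟨_, rfl⟩
  rw [← hN₁] at h1
  have hN₁M : N₁ ≤ M := hN₁ ▸ sup_le hSM (hEE.trans hE.1)
  have hmul : ∀ x ∈ N₁, ∃ s ∈ sigmaCore M, ∃ c ∈ ⁅E, E⁆, x = s * c := by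
    intro x hx
    have hx' : x⁻¹ ∈ ⁅E, E⁆ ⊔ sigmaCore M := by
      rw [sup_comm, ← hN₁]; exact N₁.inv_mem hx
    obtain ⟨c, hc, s, hs, hcs⟩ := KL.sup_decomp (fun a ha b hb =>
      (Subgroup.mem_normalizer_iff.mp (hSn (hE.1 (hEE ha))) b).mp hb) hx'
    refine ⟨s⁻¹, Subgroup.inv_mem _ hs, c⁻¹, Subgroup.inv_mem _ hc, ?_⟩
    have e : x = (x⁻¹)⁻¹ := (inv_inv x).symm
    rw [e, hcs, mul_inv_rev]
  have h2 : ⁅N₁, N₁⁆ ≤ sigmaCore M ⊔ ⁅⁅E, E⁆, ⁅E, E⁆⁆ :=
    commutator_le_of_factor hmul (hN₁ ▸ le_sup_right) (hN₁M.trans hSn)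
  have h3 : ⁅⁅E, E⁆, ⁅E, E⁆⁆ = ⊥ := by
    rw [Subgroup.commutator_eq_bot_iff_le_centralizer]
    intro a ha
    rw [Subgroup.mem_centralizer_iff]
    intro b hb
    exact congrArg Subtype.val (hEab.is_comm.comm ⟨b, hb⟩ ⟨a, ha⟩)
  rw [h3, sup_bot_eq] at h2
  exact ((Subgroup.commutator_mono h1 h1).trans h2).trans
    (BGK.le_fittingOf_of_le_normalizer hSM hSn hnil)

/-- no element of prime order `r ∈ κ(M)` centralizes `M_σ` -/
theorem caseA_kappa {x : G} (hxM : x ∈ M)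
    (hxC : x ∈ Subgroup.centralizer (sigmaCore M : Set G)) {r : ℕ} (hr : r.Prime)
    (hxo : orderOf x = r) (hrκ : r ∈ kappa M) : False := by
  haveI hMs : Group.IsSolvable ↥M := BG7.isSolvable_of_ne_top hG hM.1
  obtain ⟨⟨K, hK⟩, hcyc⟩ := Cfsg.Agent.S1351.result hG M hM
  have hKc := hcyc K hK
  obtain ⟨hXc, hXr, hx1⟩ := BGK.zpowers_facts hr hxo
  obtain ⟨m, hm, hle⟩ := BGK.exists_cj_le_of_hall hMs hK (Subgroup.zpowers_le.mpr hxM) (by
    intro p hp hpX
    rw [hXc] at hpX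
    rw [(Nat.prime_dvd_prime_iff_eq hp hr).mp hpX]
    exact hrκ)
  have hx'K : m⁻¹ * x * m ∈ K := BG7.mem_cj.mp (hle (Subgroup.mem_zpowers x))
  have hx'1 : m⁻¹ * x * m ≠ 1 := by
    intro h1
    apply hx1
    have e : x = m * (m⁻¹ * x * m) * m⁻¹ := by group
    rw [e, h1]; group
  have hK1 : K ≠ ⊥ := by
    intro hbot
    rw [hbot, Subgroup.mem_bot] at hx'K
    exact hx'1 hx'K
  have hpa := (Cfsg.Agent.S1430.result hG M hM K hK hK1).1 _ hx'K hx'1
  have hSle : sigmaCore M ≤ Subgroup.centralizer ({m⁻¹ * x * m} : Set G) := by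
    intro s hs
    rw [Subgroup.mem_centralizer_singleton_iff]
    have hs' : m * s * m⁻¹ ∈ sigmaCore M :=
      (Subgroup.mem_normalizer_iff.mp (BGE.le_normalizer_sigmaCore M hm) s).mp hs
    have hc : m * s * m⁻¹ * x = x * (m * s * m⁻¹) :=
      Subgroup.mem_centralizer_iff.mp hxC _ hs'
    calc s * (m⁻¹ * x * m) = m⁻¹ * (m * s * m⁻¹ * x) * m := by group
      _ = m⁻¹ * (x * (m * s * m⁻¹)) * m := by rw [hc]
      _ = m⁻¹ * x * m * s := by group
  have heq : sigmaCore M ⊓ Subgroup.centralizer (K : Set G) = sigmaCore M := by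
    rw [← hpa]; exact inf_eq_left.mpr hSle
  obtain ⟨U, hKU⟩ := (Cfsg.Agent.S1352.result hG M hM K hKc hK).1
  have h64 := Cfsg.Agent.S1364.result hG M hM K U hKU hK1
  have hF : sigmaCore M = fittingHallOf M := BGK.sigmaCore_eq_fittingHallOf hG hM hnil
  apply h64.2.2.2
  rw [← hF, ← heq]
  exact h64.1

theorem caseA_nilpotent_centralizer :
    Group.IsNilpotent ↥(M ⊓ Subgroup.centralizer (sigmaCore M : Set G)) := by
  haveI hMs : Group.IsSolvable ↥M := BG7.isSolvable_of_ne_top hG hM.1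
  have hSM : sigmaCore M ≤ M := BGE.sigmaCore_le M
  have hSn : M ≤ Subgroup.normalizer (sigmaCore M : Set G) := BGE.le_normalizer_sigmaCore M
  have h50 := BGA.s1350 hG M hM
  obtain ⟨C, hCdef⟩ : ∃ C : Subgroup G,
      C = M ⊓ Subgroup.centralizer (sigmaCore M : Set G) := ⟨_, rfl⟩
  rw [← hCdef]
  have hCM : C ≤ M := hCdef ▸ inf_le_left
  have hCc : C ≤ Subgroup.centralizer (sigmaCore M : Set G) := hCdef ▸ inf_le_right
  have hCn : M ≤ Subgroup.normalizer (C : Set G) :=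
    hCdef ▸ le_normalizer_inf Subgroup.le_normalizer (PL.le_normalizer_centralizer hSn)
  apply isNilpotent_of_central_hall (P := sigmaCore M) (hCM.trans hSn) hCc
    (FittingHall.isNilpotent_of_le inf_le_right hnil)
  · apply Nat.coprime_of_dvd
    intro p hp hpZ hpi
    have hpσ : p ∈ sigma M :=
      h50.1.2.1 p hp (hpZ.trans (Subgroup.card_dvd_of_le inf_le_right))
    have h1 : ¬ p ∣ (sigmaCore M).relIndex M := h50.1.2.2 p hp hpσ
    have hn : (C.subgroupOf M).Normal :=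
      (Subgroup.normal_subgroupOf_iff_le_normalizer hCM).mpr hCn
    have h2 : ¬ p ∣ (sigmaCore M).relIndex C := BG16.not_dvd_relIndex_of_normal_in hCM hn h1
    rw [Subgroup.inf_relIndex_left] at hpi
    exact h2 hpi
  · intro B hBC hBS
    obtain ⟨⟨K, hK⟩, hcyc⟩ := Cfsg.Agent.S1351.result hG M hM
    have hKc := hcyc K hK
    obtain ⟨U, hKU⟩ := (Cfsg.Agent.S1352.result hG M hM K hKc hK).1
    have hBM : B ≤ M := hBC.trans hCM
    have hBπ : ∀ r : ℕ, r.Prime → r ∣ Nat.card B →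
        r ∈ {q : ℕ | q.Prime ∧ q ∉ kappa M ∧ q ∉ sigma M} := by
      intro r hr hrB
      obtain ⟨x, hxB, hxo⟩ := exists_mem_orderOf_eq hr hrB
      refine ⟨hr, ?_, ?_⟩
      · intro hrκ
        exact caseA_kappa hG hM hnil (hBM hxB) (hCc (hBC hxB)) hr hxo hrκ
      · intro hrσ
        haveI : Fact r.Prime := ⟨hr⟩
        obtain ⟨hXc, hXr, hx1⟩ := BGK.zpowers_facts hr hxo
        have h1 : Subgroup.zpowers x ≤ sigmaCore M :=
          BGE.qsub_le_sigmaCore hG hM hrσ hXr (Subgroup.zpowers_le.mpr (hBM hxB))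
        have h2 : x ∈ B ⊓ sigmaCore M :=
          Subgroup.mem_inf.mpr ⟨hxB, h1 (Subgroup.mem_zpowers x)⟩
        rw [hBS, Subgroup.mem_bot] at h2
        exact hx1 h2
    have hUH : IsPiHallOf {q : ℕ | q.Prime ∧ q ∉ kappa M ∧ q ∉ sigma M} U M := by
      refine ⟨hKU.compl.1, ?_, ?_⟩
      · intro p hp hpU
        exact ⟨hp, BGK.decomp_not_kappa hKU p hp hpU, BGD.decomp_not_sigma hG hM hKU p hp hpU⟩
      · intro p hp hpπ hpd
        rw [ComplIn.relIndex_left hKU.compl] at hpd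
        have h2 := hpd.trans (PL.card_sup_dvd' (hKU.hall.1.trans hSn))
        rcases (Nat.Prime.dvd_mul hp).mp h2 with h3 | h3
        · exact hpπ.2.1 (hKU.hall.2.1 p hp h3)
        · exact hpπ.2.2 (h50.1.2.1 p hp h3)
    obtain ⟨m, hm, hle⟩ := BGK.exists_cj_le_of_hall hMs hUH hBM hBπ
    obtain ⟨y, hyS, hy1⟩ : ∃ y ∈ sigmaCore M, y ≠ 1 := by
      by_contra hcon
      push Not at hcon
      exact BGE.sigmaCore_ne_bot hG hM ((Subgroup.eq_bot_iff_forall _).mpr hcon)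
    have h59 := Cfsg.Agent.S1359.result hG M hM K U hKU
    have hmem : ∀ b ∈ B, m⁻¹ * b * m ∈ Subgroup.closure ((U : Set G) ∩ sigmaHat M) := by
      intro b hb
      apply Subgroup.subset_closure
      refine ⟨BG7.mem_cj.mp (hle hb), ?_, y, hyS, hy1, ?_⟩
      · exact M.mul_mem (M.mul_mem (M.inv_mem hm) (hBM hb)) hm
      · have hy' : m * y * m⁻¹ ∈ sigmaCore M :=
          (Subgroup.mem_normalizer_iff.mp (hSn hm) y).mp hyS
        have hc : m * y * m⁻¹ * b = b * (m * y * m⁻¹) :=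
          Subgroup.mem_centralizer_iff.mp (hCc (hBC hb)) _ hy'
        calc m⁻¹ * b * m * y = m⁻¹ * (b * (m * y * m⁻¹)) * m := by group
          _ = m⁻¹ * (m * y * m⁻¹ * b) * m := by rw [hc]
          _ = y * (m⁻¹ * b * m) := by group
    have hcomm : ∀ a ∈ B, ∀ b ∈ B, a * b = b * a := by
      intro a ha b hb
      have h1 := h59.is_comm.comm ⟨_, hmem a ha⟩ ⟨_, hmem b hb⟩
      exact BGK.comm_of_conj_comm (congrArg Subtype.val h1)
    haveI : IsMulCommutative ↥B := ⟨⟨fun a b => Subtype.ext (hcomm a a.2 b b.2)⟩⟩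
    exact isNilpotent_of_isMulCommutative ↥B

theorem caseA_fitting_eq :
    fittingOf M = (M ⊓ Subgroup.centralizer (fittingHallOf M : Set G)) ⊔ fittingHallOf M := by
  haveI hMs : Group.IsSolvable ↥M := BG7.isSolvable_of_ne_top hG hM.1
  have hF : sigmaCore M = fittingHallOf M := BGK.sigmaCore_eq_fittingHallOf hG hM hnil
  apply le_antisymm (fittingOf_le_sup M hMs)
  refine sup_le ?_ (fittingHallOf_le_fittingOf M)
  rw [← hF]
  exact BGK.le_fittingOf_of_le_normalizer inf_le_left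
    (le_normalizer_inf Subgroup.le_normalizer
      (PL.le_normalizer_centralizer (BGE.le_normalizer_sigmaCore M)))
    (caseA_nilpotent_centralizer hG hM hnil)

theorem caseA_fitting_le_derived (hκ : (kappa M).Nonempty) : fittingOf M ≤ ⁅M, M⁆ := by
  haveI hMs : Group.IsSolvable ↥M := BG7.isSolvable_of_ne_top hG hM.1
  have hSM : sigmaCore M ≤ M := BGE.sigmaCore_le M
  obtain ⟨⟨K, hK⟩, hcyc⟩ := Cfsg.Agent.S1351.result hG M hM
  have hKc := hcyc K hK
  obtain ⟨U, hKU⟩ := (Cfsg.Agent.S1352.result hG M hM K hKc hK).1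
  have hWn := (Cfsg.Agent.S1352.result hG M hM K hKc hK).2 U hKU
  have hK1 : K ≠ ⊥ := by
    intro hbot
    obtain ⟨r, hr⟩ := hκ
    exact BGK.kappa_empty_of_bot hK hbot r hr
  have h65 := (Cfsg.Agent.S1365.result hG M hM K U hKU hK1).1
  rw [h65]
  obtain ⟨hc1, hc2, hc3⟩ := BGK.decomp_card hG hM hKU
  have hWM : U ⊔ sigmaCore M ≤ M := sup_le hKU.compl.1 hSM
  have hWi : (U ⊔ sigmaCore M).relIndex M = Nat.card K := by
    have h1 := BGG.card_mul_relIndex' hWM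
    rw [hc2, mul_comm (Nat.card K)] at h1
    exact Nat.eq_of_mul_eq_mul_left Nat.card_pos h1
  have hHall : IsPiHallOf {r : ℕ | ¬ r ∣ Nat.card K} (U ⊔ sigmaCore M) M := by
    refine ⟨hWM, ?_, ?_⟩
    · intro p hp hpW
      show ¬ p ∣ Nat.card K
      intro hpK
      exact hp.one_lt.ne' (Nat.eq_one_of_dvd_coprimes hc3 hpK hpW)
    · intro p hp hpπ hpd
      rw [hWi] at hpd
      exact hpπ hpd
  rw [caseA_fitting_eq hG hM hnil, ← BGK.sigmaCore_eq_fittingHallOf hG hM hnil]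
  refine sup_le ?_ le_sup_right
  intro c hc
  obtain ⟨hcM, hcC⟩ := Subgroup.mem_inf.mp hc
  have h1 : Subgroup.zpowers c ≤ U ⊔ sigmaCore M :=
    BG15.le_of_normal_hall hMs hHall hWn (Subgroup.zpowers_le.mpr hcM) (by
      intro p hp hpc
      show ¬ p ∣ Nat.card K
      intro hpK
      rw [Nat.card_zpowers] at hpc
      have hpκ : p ∈ kappa M := hK.2.1 p hp hpK
      have hxo : orderOf (c ^ (orderOf c / p)) = p :=
        orderOf_pow_orderOf_div (orderOf_pos c).ne' hpc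
      exact caseA_kappa hG hM hnil (M.pow_mem hcM _) (Subgroup.pow_mem _ hcC _) hp hxo hpκ)
  exact h1 (Subgroup.mem_zpowers c)

end caseA

/-- **S1356** (B&G Theorem 15.2(b)). -/
theorem s1356_main (hG : IsMinSimpleOddOrder G) (M : Subgroup G) (hM : IsCoatom M) :
    ⁅⁅M, M⁆, ⁅M, M⁆⁆ ≤ fittingOf M ∧
      fittingOf M =
        (M ⊓ Subgroup.centralizer (fittingHallOf M : Set G)) ⊔ fittingHallOf M ∧
      ((kappa M).Nonempty → fittingOf M ≤ ⁅M, M⁆) := by
  by_cases hnil : Group.IsNilpotent ↥(sigmaCore M)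
  · exact ⟨caseA_second_derived hG hM hnil, caseA_fitting_eq hG hM hnil,
      caseA_fitting_le_derived hG hM hnil⟩
  · obtain ⟨K, hP⟩ := exists_p1n
      (fun hG M hM K hK hK1 => Cfsg.Agent.S1430.result hG M hM K hK hK1)
      (fun hG M hM K hK hK1 => Cfsg.Agent.S1431.result hG M hM K hK hK1) hG hM hnil
    obtain ⟨Q, D, q, hQD⟩ := hP.exists_QD
    exact ⟨hQD.second_derived_le, hQD.fitting_eq, fun _ => hQD.fitting_le_derived⟩

end Cfsg.Agent.Lib.Helper2.BGL
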