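import Mathlib
import Cfsg.Agent.Lib.Helper2.BGL7
import Cfsg.Agent.Lib.Helper2.BGH7
import Cfsg.Agent.Lib.Helper2.BGH8
import Cfsg.Agent.Lib.Helper3.BG12c
import Cfsg.Agent.S1374

set_option autoImplicit false
set_option maxHeartbeats 4000000
set_option linter.unusedVariables false
set_option linter.unusedSectionVars false
set_option linter.style.longLine false
set_option linter.unusedSimpArgs false
set_option linter.deprecated false
set_option linter.style.haveILetI false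

/-!
# B&G: fusion in a Hall subgroup `H` of `M_σ` is controlled by `N_M(H)` (second half of S1438)
-/

open scoped commutatorElement Pointwise
universe u
namespace Cfsg.Agent.Lib.Helper2.BGL

open Cfsg Cfsg.Agent.Lib.Helper1 Cfsg.Agent.Lib.Helper7 Cfsg.Agent.Lib.Helper3
open Cfsg.Agent.Lib.Helper7.BGRows Cfsg.Agent.Lib.Lead

variable {G : Type u} [Group G] [Finite G]

/-- If `B ⊴ M` is a subgroup of `M_σ` of order coprime to `|H|` with `H B ⊴ M_σ`, then
`M`-fusion in `H` is controlled by `N_M(H)`. -/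
theorem fusion_of_normal_sup (hG : IsMinSimpleOddOrder G) {M : Subgroup G} (hM : IsCoatom M)
    {H B : Subgroup G} (hH : H ≤ sigmaCore M)
    (hHall : (Nat.card H).Coprime (H.relIndex (sigmaCore M))) (hB : B ≤ sigmaCore M)
    (hBn : M ≤ Subgroup.normalizer (B : Set G)) (hcop : (Nat.card H).Coprime (Nat.card B))
    (hL : sigmaCore M ≤ Subgroup.normalizer ((H ⊔ B : Subgroup G) : Set G))
    {m x : G} (hm : m ∈ M) (hx : x ∈ H) (hy : m * x * m⁻¹ ∈ H) :
    ∃ n ∈ M ⊓ Subgroup.normalizer (H : Set G), n * x * n⁻¹ = m * x * m⁻¹ := by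
  classical
  have hSM : sigmaCore M ≤ M := BGE.sigmaCore_le M
  have hSn : M ≤ Subgroup.normalizer (sigmaCore M : Set G) := BGF.le_normalizer_sigmaCore M
  haveI hMs : Group.IsSolvable ↥M := BG7.isSolvable_of_ne_top hG hM.1
  haveI hSs : Group.IsSolvable ↥(sigmaCore M) := isSolvable_of_le hSM
  have hHM : H ≤ M := hH.trans hSM
  have hBM : B ≤ M := hB.trans hSM
  have hKS : BG7.cj m H ≤ sigmaCore M := by
    have h1 : BG7.cj m H ≤ BG7.cj m (sigmaCore M) := BG7.cj_mono hH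
    rwa [BG7.cj_eq_of_mem_normalizer (hSn hm)] at h1
  have hKc : Nat.card ↥(BG7.cj m H) = Nat.card H := BG7.card_cj m H
  obtain ⟨s, hs, hKs⟩ := BGH.exists_cj_le_of_hall (L := sigmaCore M) hH hKS hHall
    (by rw [hKc]; exact hHall)
  have hLS : H ⊔ B ≤ sigmaCore M := sup_le hH hB
  have hKL : BG7.cj m H ≤ H ⊔ B := by
    have h1 : BG7.cj s H ≤ BG7.cj s (H ⊔ B) := BG7.cj_mono le_sup_left
    rw [BG7.cj_eq_of_mem_normalizer (hL hs)] at h1
    exact hKs.trans h1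
  haveI hLs : Group.IsSolvable ↥(H ⊔ B) := isSolvable_of_le (hLS.trans hSM)
  have hHnB : H ≤ Subgroup.normalizer (B : Set G) := hHM.trans hBn
  have hdvd : H.relIndex (H ⊔ B) ∣ Nat.card B := by
    have h1 : Nat.card H * H.relIndex (H ⊔ B) = Nat.card ↥(H ⊔ B) :=
      BGG.card_mul_relIndex' le_sup_left
    have h2 := PL.card_sup_dvd' hHnB
    rw [← h1] at h2
    exact Nat.dvd_of_mul_dvd_mul_left Nat.card_pos h2
  have hcopL : (Nat.card H).Coprime (H.relIndex (H ⊔ B)) :=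
    Nat.Coprime.coprime_dvd_right hdvd hcop
  obtain ⟨l, hl, hKl⟩ := BGH.exists_cj_le_of_hall (L := H ⊔ B) le_sup_left hKL hcopL
    (by rw [hKc]; exact hcopL)
  have hconjB : ∀ a ∈ M, ∀ b ∈ B, a * b * a⁻¹ ∈ B := fun a ha b hb =>
    (Subgroup.mem_normalizer_iff.mp (hBn ha) b).mp hb
  obtain ⟨a, ha, b, hb, hlab⟩ := KL.sup_decomp (A := H) (B := B)
    (fun a ha b hb => hconjB a (hHM ha) b hb) (Subgroup.inv_mem _ hl)
  have hl_eq : l = b⁻¹ * a⁻¹ := by
    have h1 : l = (l⁻¹)⁻¹ := (inv_inv l).symm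
    rw [h1, hlab, mul_inv_rev]
  have hKb : BG7.cj m H ≤ BG7.cj b⁻¹ H := by
    have h1 : BG7.cj l H = BG7.cj b⁻¹ H := by
      rw [hl_eq, BG7.cj_mul,
        BG7.cj_eq_of_mem_normalizer (Subgroup.le_normalizer (Subgroup.inv_mem _ ha))]
    rw [← h1]; exact hKl
  have hKeq : BG7.cj m H = BG7.cj b⁻¹ H :=
    Subgroup.eq_of_le_of_card_ge hKb (by rw [BG7.card_cj, BG7.card_cj])
  have hdisj : H ⊓ B = ⊥ := Subgroup.inf_eq_bot_of_coprime hcop
  have hy_mem : m * x * m⁻¹ ∈ BG7.cj m H := by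
    rw [BG7.mem_cj]
    have h1 : m⁻¹ * (m * x * m⁻¹) * m = x := by group
    rw [h1]; exact hx
  rw [hKeq, BG7.mem_cj, inv_inv] at hy_mem
  have h1 : b * (m * x * m⁻¹) * b⁻¹ * (m * x * m⁻¹)⁻¹ ∈ H :=
    Subgroup.mul_mem _ hy_mem (Subgroup.inv_mem _ hy)
  have h2 : b * (m * x * m⁻¹) * b⁻¹ * (m * x * m⁻¹)⁻¹ ∈ B := by
    have h3 : (m * x * m⁻¹) * b⁻¹ * (m * x * m⁻¹)⁻¹ ∈ B :=
      hconjB _ (hHM hy) _ (Subgroup.inv_mem _ hb)
    have h4 : b * (m * x * m⁻¹) * b⁻¹ * (m * x * m⁻¹)⁻¹ =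
        b * ((m * x * m⁻¹) * b⁻¹ * (m * x * m⁻¹)⁻¹) := by group
    rw [h4]; exact Subgroup.mul_mem _ hb h3
  have h5 : b * (m * x * m⁻¹) * b⁻¹ * (m * x * m⁻¹)⁻¹ = 1 := by
    have h6 : b * (m * x * m⁻¹) * b⁻¹ * (m * x * m⁻¹)⁻¹ ∈ H ⊓ B := ⟨h1, h2⟩
    rw [hdisj] at h6
    exact Subgroup.mem_bot.mp h6
  have h6 : b * (m * x * m⁻¹) * b⁻¹ = m * x * m⁻¹ := mul_inv_eq_one.mp h5
  refine ⟨b * m, ⟨Subgroup.mul_mem _ (hBM hb) hm, ?_⟩, ?_⟩
  · apply BG7.mem_normalizer_of_cj_eq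
    rw [BG7.cj_mul, hKeq]
    have h7 := BG7.cj_inv_cj b⁻¹ H
    rwa [inv_inv] at h7
  · calc b * m * x * (b * m)⁻¹ = b * (m * x * m⁻¹) * b⁻¹ := by group
      _ = m * x * m⁻¹ := h6

/-- Existence of the normal subgroup `B` needed by `fusion_of_normal_sup`. -/
theorem exists_normal_sup (hG : IsMinSimpleOddOrder G) {M : Subgroup G} (hM : IsCoatom M)
    {H : Subgroup G} (hH : H ≤ sigmaCore M)
    (hHall : (Nat.card H).Coprime (H.relIndex (sigmaCore M))) :
    ∃ B : Subgroup G, B ≤ sigmaCore M ∧ M ≤ Subgroup.normalizer (B : Set G) ∧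
      (Nat.card H).Coprime (Nat.card B) ∧
      sigmaCore M ≤ Subgroup.normalizer ((H ⊔ B : Subgroup G) : Set G) := by
  classical
  have hSM : sigmaCore M ≤ M := BGE.sigmaCore_le M
  haveI hMs : Group.IsSolvable ↥M := BG7.isSolvable_of_ne_top hG hM.1
  haveI hSs : Group.IsSolvable ↥(sigmaCore M) := isSolvable_of_le hSM
  have hbot : M ≤ Subgroup.normalizer ((⊥ : Subgroup G) : Set G) := by
    intro m hm
    rw [Subgroup.mem_normalizer_iff]
    intro z
    simp [Subgroup.mem_bot]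
  by_cases hnil : Group.IsNilpotent ↥(sigmaCore M)
  · refine ⟨⊥, bot_le, hbot, ?_, ?_⟩
    · rw [Subgroup.card_bot]; exact Nat.coprime_one_right _
    · rw [sup_bot_eq]
      exact BG12.le_normalizer_of_hall_nilpotent hnil hH Subgroup.le_normalizer hHall
  obtain ⟨K, hP⟩ := exists_p1n
    (fun hG M hM K hK hK1 => Cfsg.Agent.S1430.result hG M hM K hK hK1)
    (fun hG M hM K hK hK1 => Cfsg.Agent.S1431.result hG M hM K hK hK1) hG hM hnil
  obtain ⟨Q, D, q, h⟩ := hP.exists_QD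
  have hq : q.Prime := h.prime_q
  haveI hqf : Fact q.Prime := ⟨hq⟩
  obtain ⟨n, hn⟩ := IsPGroup.iff_card.mp h.hQq
  have hQS : Q ≤ sigmaCore M := h.hQS
  have hDS : D ≤ sigmaCore M := h.hDS
  have hDnQ : D ≤ Subgroup.normalizer (Q : Set G) := hDS.trans (hSM.trans h.hQn)
  have hDnil : Group.IsNilpotent ↥D := h.nilpotent_D
  -- `M_σ = Q D`
  have hgen : ∀ {N : Subgroup G}, Q ≤ N → D ≤ N → sigmaCore M ≤ N := by
    intro N hQN hDN s hs
    obtain ⟨u, hu, d, hd, rfl⟩ := h.compl.2.2.2 s hs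
    exact Subgroup.mul_mem _ (hQN hu) (hDN hd)
  by_cases hqH : q ∣ Nat.card H
  · -- `Q ≤ H`, and `H` is normal in `M_σ`
    refine ⟨⊥, bot_le, hbot, ?_, ?_⟩
    · rw [Subgroup.card_bot]; exact Nat.coprime_one_right _
    rw [sup_bot_eq]
    have hqr : ¬ q ∣ H.relIndex (sigmaCore M) := fun hd =>
      hq.one_lt.ne' (Nat.eq_one_of_dvd_coprimes hHall hqH hd)
    have hQH : Q ≤ H := by
      have hc : (Nat.card Q).Coprime (H.relIndex (sigmaCore M)) := by
        rw [hn]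
        exact Nat.Coprime.pow_left n ((Nat.Prime.coprime_iff_not_dvd hq).mpr hqr)
      obtain ⟨s, hs, hQs⟩ := BGH.exists_cj_le_of_hall (L := sigmaCore M) hH hQS hHall hc
      have h1 : BG7.cj s⁻¹ Q ≤ BG7.cj s⁻¹ (BG7.cj s H) := BG7.cj_mono hQs
      rw [BG7.cj_inv_cj,
        BG7.cj_eq_of_mem_normalizer (h.hQn (hSM (Subgroup.inv_mem _ hs)))] at h1
      exact h1
    -- `H = Q (H ∩ D)`
    have hdec : ∀ z ∈ H, ∃ u ∈ Q, ∃ d ∈ H ⊓ D, z = u * d := by
      intro z hz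
      obtain ⟨u, hu, d, hd, hzud⟩ := h.compl.2.2.2 z (hH hz)
      refine ⟨u, hu, d, ⟨?_, hd⟩, hzud⟩
      have h1 : d = u⁻¹ * z := by rw [hzud, inv_mul_cancel_left]
      rw [h1]
      exact Subgroup.mul_mem _ (Subgroup.inv_mem _ (hQH hu)) hz
    have hcompl : IsComplIn Q (H ⊓ D) H := by
      refine ⟨hQH, inf_le_left, ?_, hdec⟩
      apply le_bot_iff.mp
      calc Q ⊓ (H ⊓ D) ≤ Q ⊓ D := inf_le_inf_left Q inf_le_right
        _ = ⊥ := h.disj
    have hcardH : Nat.card H = Nat.card Q * Nat.card ↥(H ⊓ D) := ComplIn.card_eq hcompl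
    have hri : (H ⊓ D).relIndex D = H.relIndex (sigmaCore M) := by
      have e1 : Nat.card ↥(H ⊓ D) * (H ⊓ D).relIndex D = Nat.card D :=
        BGG.card_mul_relIndex' inf_le_right
      have e2 : Nat.card H * H.relIndex (sigmaCore M) = Nat.card ↥(sigmaCore M) :=
        BGG.card_mul_relIndex' hH
      have e3 : Nat.card ↥(sigmaCore M) = Nat.card Q * Nat.card D := h.card_eq
      have e4 : (Nat.card Q * Nat.card ↥(H ⊓ D)) * (H ⊓ D).relIndex D =
          (Nat.card Q * Nat.card ↥(H ⊓ D)) * H.relIndex (sigmaCore M) := by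
        calc (Nat.card Q * Nat.card ↥(H ⊓ D)) * (H ⊓ D).relIndex D
            = Nat.card Q * (Nat.card ↥(H ⊓ D) * (H ⊓ D).relIndex D) := mul_assoc _ _ _
          _ = Nat.card Q * Nat.card D := by rw [e1]
          _ = Nat.card ↥(sigmaCore M) := e3.symm
          _ = Nat.card H * H.relIndex (sigmaCore M) := e2.symm
          _ = (Nat.card Q * Nat.card ↥(H ⊓ D)) * H.relIndex (sigmaCore M) := by rw [hcardH]
      exact Nat.eq_of_mul_eq_mul_left (Nat.mul_pos Nat.card_pos Nat.card_pos) e4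
    have hcopD : (Nat.card ↥(H ⊓ D)).Coprime ((H ⊓ D).relIndex D) := by
      rw [hri]
      exact Nat.Coprime.coprime_dvd_left (Subgroup.card_dvd_of_le inf_le_left) hHall
    have hDn1 : D ≤ Subgroup.normalizer ((H ⊓ D : Subgroup G) : Set G) :=
      BG12.le_normalizer_of_hall_nilpotent hDnil inf_le_right Subgroup.le_normalizer hcopD
    have hHeq : Q ⊔ (H ⊓ D) = H := by
      apply le_antisymm (sup_le hQH inf_le_left)
      intro z hz
      obtain ⟨u, hu, d, hd, rfl⟩ := hdec z hz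
      exact Subgroup.mul_mem _ (Subgroup.mem_sup_left hu) (Subgroup.mem_sup_right hd)
    have hDnH : D ≤ Subgroup.normalizer (H : Set G) := by
      have h1 := BGF.le_normalizer_sup hDnQ hDn1
      rwa [hHeq] at h1
    exact hgen (hQH.trans Subgroup.le_normalizer) hDnH
  · -- `B = Q`
    have hcHQ : (Nat.card H).Coprime (Nat.card Q) := by
      rw [hn]
      exact Nat.Coprime.pow_right n ((Nat.Prime.coprime_iff_not_dvd hq).mpr hqH).symm
    refine ⟨Q, hQS, h.hQn, hcHQ, ?_⟩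
    have hDr : D.relIndex (sigmaCore M) = Nat.card Q := ComplIn.relIndex_right h.compl
    have hDhall : (Nat.card D).Coprime (D.relIndex (sigmaCore M)) := by
      rw [hDr]; exact h.coprime_QD.symm
    have hHD : (Nat.card H).Coprime (D.relIndex (sigmaCore M)) := by
      rw [hDr]; exact hcHQ
    obtain ⟨t, ht, hHt⟩ := BGH.exists_cj_le_of_hall (L := sigmaCore M) hDS hH hDhall hHD
    have hH'D : BG7.cj t⁻¹ H ≤ D := by
      have h1 : BG7.cj t⁻¹ H ≤ BG7.cj t⁻¹ (BG7.cj t D) := BG7.cj_mono hHt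
      rwa [BG7.cj_inv_cj] at h1
    have hH'c : Nat.card ↥(BG7.cj t⁻¹ H) = Nat.card H := BG7.card_cj _ _
    have hH'S : BG7.cj t⁻¹ H ≤ sigmaCore M := hH'D.trans hDS
    have hri : (BG7.cj t⁻¹ H).relIndex (sigmaCore M) = H.relIndex (sigmaCore M) := by
      have e1 : Nat.card ↥(BG7.cj t⁻¹ H) * (BG7.cj t⁻¹ H).relIndex (sigmaCore M) =
          Nat.card ↥(sigmaCore M) := BGG.card_mul_relIndex' hH'S
      have e2 : Nat.card H * H.relIndex (sigmaCore M) = Nat.card ↥(sigmaCore M) :=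
        BGG.card_mul_relIndex' hH
      rw [hH'c, ← e2] at e1
      exact Nat.eq_of_mul_eq_mul_left Nat.card_pos e1
    have hcopD : (Nat.card ↥(BG7.cj t⁻¹ H)).Coprime ((BG7.cj t⁻¹ H).relIndex D) := by
      have e1 := Subgroup.relIndex_mul_relIndex (BG7.cj t⁻¹ H) D (sigmaCore M) hH'D hDS
      have e2 : (BG7.cj t⁻¹ H).relIndex D ∣ H.relIndex (sigmaCore M) := by
        rw [← hri, ← e1]; exact Dvd.intro _ rfl
      rw [hH'c]
      exact Nat.Coprime.coprime_dvd_right e2 hHall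
    have hDn1 : D ≤ Subgroup.normalizer ((BG7.cj t⁻¹ H : Subgroup G) : Set G) :=
      BG12.le_normalizer_of_hall_nilpotent hDnil hH'D Subgroup.le_normalizer hcopD
    have hDn2 : D ≤ Subgroup.normalizer ((BG7.cj t⁻¹ H ⊔ Q : Subgroup G) : Set G) :=
      BGF.le_normalizer_sup hDn1 hDnQ
    have hN : sigmaCore M ≤ Subgroup.normalizer ((BG7.cj t⁻¹ H ⊔ Q : Subgroup G) : Set G) :=
      hgen (le_sup_right.trans Subgroup.le_normalizer) hDn2
    have hmap : BG7.cj t (BG7.cj t⁻¹ H ⊔ Q) = BG7.cj t (BG7.cj t⁻¹ H) ⊔ BG7.cj t Q :=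
      Subgroup.map_sup _ _ _
    have e1 : BG7.cj t (BG7.cj t⁻¹ H) = H := by
      have h7 := BG7.cj_inv_cj t⁻¹ H
      rwa [inv_inv] at h7
    have e2 : BG7.cj t Q = Q := BG7.cj_eq_of_mem_normalizer (h.hQn (hSM ht))
    have e3 : BG7.cj t (BG7.cj t⁻¹ H ⊔ Q) = BG7.cj t⁻¹ H ⊔ Q :=
      BG7.cj_eq_of_mem_normalizer (hN ht)
    rw [e1, e2, e3] at hmap
    rw [← hmap]
    exact hN

/-- **S1438, second half**: two elements of a Hall subgroup `H` of `M_σ` that are conjugate in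
`G` are conjugate under `N_M(H)`. -/
theorem s1438b (hG : IsMinSimpleOddOrder G) (M : Subgroup G) (hM : IsCoatom M)
    (H : Subgroup G) (hH : H ≤ sigmaCore M)
    (hHall : (Nat.card H).Coprime (H.relIndex (sigmaCore M))) :
    ∀ x ∈ H, ∀ g : G, g * x * g⁻¹ ∈ H →
      ∃ n ∈ M ⊓ Subgroup.normalizer (H : Set G), n * x * n⁻¹ = g * x * g⁻¹ := by
  intro x hx g hy
  by_cases hx1 : x = 1
  · subst hx1
    exact ⟨1, Subgroup.one_mem _, by simp⟩
  have hSM : sigmaCore M ≤ M := BGE.sigmaCore_le M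
  obtain ⟨-, R, hRn, hRc, hR⟩ := Cfsg.Agent.S1374.result hG M hM x (hH hx) hx1
  have hxg : x ∈ BG7.cj g⁻¹ M := by
    rw [BG7.mem_cj, inv_inv]
    exact hSM (hH hy)
  obtain ⟨r, ⟨hrR, hrM⟩, -⟩ := hR g⁻¹ hxg
  have hrC : r ∈ Subgroup.centralizer ({x} : Set G) := hRc.2.1 hrR
  have hrx : r * x = x * r := Subgroup.mem_centralizer_singleton_iff.mp hrC
  have hgr : g * r ∈ M := by
    have hN := BGH.normalizer_coatom hG hM
    have h1 : g * r ∈ Subgroup.normalizer (M : Set G) := by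
      apply BG7.mem_normalizer_of_cj_eq
      rw [BG7.cj_mul]
      have h2 : BG7.cj r M = BG7.cj g⁻¹ M := hrM
      rw [h2]
      have h7 := BG7.cj_inv_cj g⁻¹ M
      rwa [inv_inv] at h7
    rwa [hN] at h1
  have hmx : (g * r) * x * (g * r)⁻¹ = g * x * g⁻¹ := by
    have h1 : r * x * r⁻¹ = x := by rw [hrx, mul_inv_cancel_right]
    calc (g * r) * x * (g * r)⁻¹ = g * (r * x * r⁻¹) * g⁻¹ := by group
      _ = g * x * g⁻¹ := by rw [h1]
  obtain ⟨B, hB, hBn, hcop, hL⟩ := exists_normal_sup hG hM hH hHall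
  obtain ⟨n, hn, hnx⟩ := fusion_of_normal_sup hG hM hH hHall hB hBn hcop hL hgr hx
    (by rw [hmx]; exact hy)
  exact ⟨n, hn, by rw [hnx, hmx]⟩

end Cfsg.Agent.Lib.Helper2.BGL
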