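import Mathlib
import Cfsg.Agent.Lib.Helper2.BGL8
import Cfsg.Agent.Lib.Helper7.BGK22
import Cfsg.Agent.Lib.Helper3.BG18b
import Cfsg.Agent.Lib.Helper1.BGG22
import Cfsg.Agent.Lib.Helper1.FpfCyclic
import Cfsg.Agent.S1351
import Cfsg.Agent.S1353
import Cfsg.Agent.S1360
import Cfsg.Agent.S1365
import Cfsg.Agent.S1372
import Cfsg.Agent.S1375
import Cfsg.Agent.S1418
import Cfsg.Agent.S1419
import Cfsg.Agent.S1439

set_option autoImplicit false
set_option maxHeartbeats 4000000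
set_option linter.unusedVariables false
set_option linter.unusedSectionVars false
set_option linter.style.longLine false
set_option linter.unusedSimpArgs false
set_option linter.deprecated false
set_option linter.style.haveILetI false

/-!
# B&G Corollary 15.9 (S1376): the configuration

`x ∈ M_σ#` with `C_G(x) ≰ M`, `N` the maximal subgroup over `C_G(x)` with `κ(N) ≠ ∅`.
-/

open scoped commutatorElement Pointwise
universe u
namespace Cfsg.Agent.Lib.Helper2.BGL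

open Cfsg Cfsg.Agent.Lib.Helper1 Cfsg.Agent.Lib.Helper7 Cfsg.Agent.Lib.Helper3
open Cfsg.Agent.Lib.Helper7.BGRows Cfsg.Agent.Lib.Lead

variable {G : Type u} [Group G] [Finite G]

/-- the closed row S1360 -/
theorem row1360 : Row1360 G := fun hG M hM K U hKU => Cfsg.Agent.S1360.result hG M hM K U hKU

/-- the closed row S1365 -/
theorem row1365 : Row1365 G := fun hG M hM K U hKU hK1 =>
  Cfsg.Agent.S1365.result hG M hM K U hKU hK1

/-- the closed row S1439 -/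
theorem row1439 : Row1439 G := fun hG M hM => Cfsg.Agent.S1439.result hG M hM

/-- if `M` is the only maximal subgroup over `C_G(Y)` then `N_G(Y) ≤ M` -/
theorem normalizer_le_of_unique (hG : IsMinSimpleOddOrder G) {M Y : Subgroup G} (hM : IsCoatom M)
    (hCM : Subgroup.centralizer (Y : Set G) ≤ M)
    (huniq : ∀ L : Subgroup G, IsCoatom L → Subgroup.centralizer (Y : Set G) ≤ L → L = M) :
    Subgroup.normalizer (Y : Set G) ≤ M := by
  intro g hg
  have h1 : BG7.cj g Y = Y := BG7.cj_eq_of_mem_normalizer hg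
  have h2 : Subgroup.centralizer (Y : Set G) ≤ BG7.cj g M := by
    have h3 := BG7.cj_mono (k := g) hCM
    rwa [BGK.cj_centralizer', h1] at h3
  have h3 : BG7.cj g M = M := huniq _ (BG9.isCoatom_cj hM g) h2
  have h4 := BG7.mem_normalizer_of_cj_eq h3
  rw [BGH.normalizer_coatom hG hM] at h4
  exact h4

/-- the configuration of B&G Corollary 15.9 -/
structure C9 (M N Ns K Ks U E A : Subgroup G) (x' : G) (p r : ℕ) : Prop where
  hG : IsMinSimpleOddOrder G
  ctx : BGK.SigCtx N Ns K Ks U M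
  hp : p.Prime
  hKp : Nat.card K = p
  hE : IsComplIn E (sigmaCore M) M
  hKE : K ≤ E
  td : BGK.Tdata M N (Subgroup.zpowers x') r
  hxo : orderOf x' = r
  hxσ : x' ∈ sigmaCore M
  hxA : x' ∈ A
  hAML : A ≤ M ⊓ N
  hAe : IsElementaryAbelian r A
  hA2 : Nat.card A = r ^ 2

namespace C9

variable {M N Ns K Ks U E A : Subgroup G} {x' : G} {p r : ℕ}

theorem hM (h : C9 M N Ns K Ks U E A x' p r) : IsCoatom M := h.ctx.hH

theorem hN (h : C9 M N Ns K Ks U E A x' p r) : IsCoatom N := h.ctx.hpp.hM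

theorem hNs (h : C9 M N Ns K Ks U E A x' p r) : IsCoatom Ns := h.ctx.hpp.hMs

theorem exists_k (h : C9 M N Ns K Ks U E A x' p r) : ∃ k ∈ K, orderOf k = p ∧ k ≠ 1 := by
  obtain ⟨a, ha⟩ := Subgroup.ne_bot_iff_exists_ne_one.mp h.ctx.hpp.hK1
  have hk1 : (a : G) ≠ 1 := fun h0 => ha (Subtype.ext h0)
  refine ⟨a, a.2, ?_, hk1⟩
  have hd : orderOf (a : G) ∣ p := by rw [← h.hKp]; exact Subgroup.orderOf_dvd_natCard K a.2
  rcases (Nat.dvd_prime h.hp).mp hd with h1 | h1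
  · exact absurd (orderOf_eq_one_iff.mp h1) hk1
  · exact h1

theorem x_ne_one (h : C9 M N Ns K Ks U E A x' p r) : x' ≠ 1 := by
  intro h0
  have h1 := h.hxo
  rw [h0, orderOf_one] at h1
  exact h.td.hqp.one_lt.ne h1

theorem x_mem_U (h : C9 M N Ns K Ks U E A x' p r) : x' ∈ U := by
  rw [← h.ctx.inf_eq BGK.row1430 BGK.row1431 h.hG]
  exact Subgroup.mem_inf.mpr ⟨h.hxσ, h.td.hXL (Subgroup.mem_zpowers x')⟩

/-- `C_M(x') ≤ U` -/
theorem cent_le_U (h : C9 M N Ns K Ks U E A x' p r) {m : G} (hm : m ∈ M)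
    (hc : m * x' = x' * m) : m ∈ U := by
  have hKU := h.ctx.hKU
  have hmN : m ∈ N := by
    apply h.td.hCL
    rw [Subgroup.mem_centralizer_iff]
    intro z hz
    obtain ⟨i, rfl⟩ := Subgroup.mem_zpowers_iff.mp hz
    have hcm : Commute x' m := hc.symm
    exact (hcm.zpow_left i).eq
  obtain ⟨u, hu, b, hb, hmub⟩ := hKU.compl.2.2.2 m hmN
  have hUM : U ≤ M := h.ctx.hUH
  have hbM : b ∈ M := by
    have e : b = u⁻¹ * m := by rw [hmub]; group
    rw [e]; exact M.mul_mem (M.inv_mem (hUM hu)) hm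
  obtain ⟨k', hk', s, hs, hbks⟩ :=
    BG17.mem_sup_left_norm (hKU.hall.1.trans (BGE.le_normalizer_sigmaCore N)) hb
  have hs1 : s = 1 := by
    have hsM : s ∈ M := by
      have e : s = k'⁻¹ * b := by rw [hbks]; group
      rw [e]; exact M.mul_mem (M.inv_mem (h.ctx.hKH hk')) hbM
    have h2 : s ∈ sigmaCore N ⊓ M := Subgroup.mem_inf.mpr ⟨hs, hsM⟩
    rw [h.td.hinf, Subgroup.mem_bot] at h2
    exact h2
  have hmuk : m = u * k' := by rw [hmub, hbks, hs1, mul_one]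
  have hUc := BGK.decomp_comm BGK.row1430 h.hG h.hN hKU h.ctx.hpp.hK1
  have hxU := h.x_mem_U
  have hkx : k' * x' = x' * k' := by
    have h1 : u * k' * x' = x' * (u * k') := by rw [← hmuk]; exact hc
    have h2 : x' * u = u * x' := hUc x' hxU u hu
    have h3 : u * (k' * x') = u * (x' * k') := by
      calc u * (k' * x') = u * k' * x' := by group
        _ = x' * (u * k') := h1
        _ = (x' * u) * k' := by group
        _ = (u * x') * k' := by rw [h2]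
        _ = u * (x' * k') := by group
    exact mul_left_cancel h3
  have hk'1 : k' = 1 := by
    by_contra hne
    have h1 := Cfsg.Agent.S1353.result h.hG N h.hN K U hKU k' hk' hne
    have h2 : x' ∈ U ⊓ Subgroup.centralizer ({k'} : Set G) :=
      Subgroup.mem_inf.mpr ⟨hxU, BGE.mem_centralizer_singleton.mpr hkx⟩
    rw [h1, Subgroup.mem_bot] at h2
    exact h.x_ne_one h2
  rw [hmuk, hk'1, mul_one]; exact hu

/-- `C_E(x') = 1` -/
theorem E_cent (h : C9 M N Ns K Ks U E A x' p r) {e : G} (he : e ∈ E)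
    (hc : e * x' = x' * e) : e = 1 := by
  have h1 : e ∈ U := h.cent_le_U (h.hE.1 he) hc
  have h2 : e ∈ E ⊓ sigmaCore M :=
    Subgroup.mem_inf.mpr ⟨he, h.ctx.U_le BGK.row1430 BGK.row1431 h.hG h1⟩
  rw [h.hE.2.2.1, Subgroup.mem_bot] at h2
  exact h2

end C9

/-- the configuration exists under the hypotheses of S1376 -/
theorem exists_c9 (hG : IsMinSimpleOddOrder G) {M : Subgroup G} (hM : IsCoatom M) {x : G}
    (hx : x ∈ sigmaCore M) (hx1 : x ≠ 1) (hxM : ¬ Subgroup.centralizer ({x} : Set G) ≤ M)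
    {N : Subgroup G} (hN : IsCoatom N) (hxN : Subgroup.centralizer ({x} : Set G) ≤ N)
    (hkN : (kappa N).Nonempty) :
    ∃ (Ns K Ks U E A : Subgroup G) (x' : G) (p r : ℕ), C9 M N Ns K Ks U E A x' p r := by
  classical
  obtain ⟨X, r, hT, hXle, -⟩ :=
    BG18.tdata_of_elt BGK.row1430 BGK.row1431 hG hM hx hx1 hxM hN hxN
  have hrp := hT.hqp
  have hX1 : X ≠ ⊥ := by
    intro h0
    have h1 := hT.hXc
    rw [h0, Subgroup.card_bot] at h1
    exact hrp.one_lt.ne h1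
  obtain ⟨a, ha⟩ := Subgroup.ne_bot_iff_exists_ne_one.mp hX1
  obtain ⟨x', hx'def⟩ : ∃ x' : G, x' = (a : G) := ⟨_, rfl⟩
  have hx'X : x' ∈ X := hx'def ▸ a.2
  have hx'1 : x' ≠ 1 := by rw [hx'def]; exact fun h0 => ha (Subtype.ext h0)
  have hx'o : orderOf x' = r := by
    have hd : orderOf x' ∣ r := by rw [← hT.hXc]; exact Subgroup.orderOf_dvd_natCard X hx'X
    rcases (Nat.dvd_prime hrp).mp hd with h1 | h1
    · exact absurd (orderOf_eq_one_iff.mp h1) hx'1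
    · exact h1
  have hx'σ : x' ∈ sigmaCore M := hXle (sigmaCore M) hx hx'X
  have hXeq : Subgroup.zpowers x' = X := by
    apply Subgroup.eq_of_le_of_card_ge (Subgroup.zpowers_le.mpr hx'X)
    rw [Nat.card_zpowers, hx'o, hT.hXc]
  rw [← hXeq] at hT
  -- `U ≠ ⊥` from S1375
  obtain ⟨N', -, huniq, -, -, -, -, hdec⟩ := Cfsg.Agent.S1375.result hG M hM x hx hx1 hxM
  have hNN' : N = N' := huniq N hN hxN
  have hdec' : ∀ K' U' : Subgroup G, IsSigmaDecomposition N K' U' → U' ≠ ⊥ := by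
    intro K' U' hd
    rw [hNN'] at hd
    exact (hdec K' U' hd).1
  -- a decomposition inside `M ∩ N`
  obtain ⟨K₀, hK₀, hK₀1⟩ := BGK.exists_hall_kappa_ne_bot hG hN hkN
  have hK₀c : IsCyclic ↥K₀ := (Cfsg.Agent.S1351.result hG N hN).2 K₀ hK₀
  obtain ⟨U₀, hKU₀⟩ := (BGK.s1352_of BGK.row1430 hG N hN K₀ hK₀c hK₀).1
  have hcop : (Nat.card ↥(K₀ ⊔ U₀)).Coprime (Nat.card (sigmaCore N)) := by
    apply BGD.coprime_sigmaCore hG hN
    intro q hq hqd
    have h1 : q ∣ Nat.card K₀ * Nat.card U₀ := hqd.trans (PL.card_sup_dvd' hKU₀.normal)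
    rcases (Nat.Prime.dvd_mul hq).mp h1 with h2 | h2
    · exact (hK₀.2.1 q hq h2).2.2.1
    · exact BGD.decomp_not_sigma hG hN hKU₀ q hq h2
  obtain ⟨n, hn, hle⟩ := BGD.exists_cj_le hG hN hT.hcompl
    (sup_le hK₀.1 hKU₀.compl.1) hcop
  have hKU := BG17.decomp_cj hKU₀ (N.inv_mem hn)
  obtain ⟨K, hKdef⟩ : ∃ K : Subgroup G, K = BG7.cj n⁻¹ K₀ := ⟨_, rfl⟩
  obtain ⟨U, hUdef⟩ : ∃ U : Subgroup G, U = BG7.cj n⁻¹ U₀ := ⟨_, rfl⟩
  rw [← hKdef, ← hUdef] at hKU
  have hKMN : K ≤ M ⊓ N := by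
    rw [hKdef]
    have h1 := BG7.cj_mono (k := n⁻¹) ((le_sup_left : K₀ ≤ K₀ ⊔ U₀).trans hle)
    rwa [BG7.cj_inv_cj] at h1
  have hUMN : U ≤ M ⊓ N := by
    rw [hUdef]
    have h1 := BG7.cj_mono (k := n⁻¹) ((le_sup_right : U₀ ≤ K₀ ⊔ U₀).trans hle)
    rwa [BG7.cj_inv_cj] at h1
  have hK1 : K ≠ ⊥ := by
    rw [hKdef]
    intro h0
    apply hK₀1
    have h1 := BG7.card_cj n⁻¹ K₀
    rw [h0, Subgroup.card_bot] at h1
    exact Subgroup.card_eq_one.mp h1.symm
  have hU1 : U ≠ ⊥ := hdec' K U hKU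
  obtain ⟨Ns, hpp⟩ := BGK.exists_ppair BGK.row1430 BGK.row1431 hG hN hKU.hall hK1
  have hncM : ∀ g : G, M ≠ BG7.cj g N := by
    intro g hg
    apply hT.hnc g⁻¹
    rw [hg, BG7.cj_inv_cj]
  have hctx : BGK.SigCtx N Ns K (sigmaCore N ⊓ Subgroup.centralizer (K : Set G)) U M :=
    ⟨hpp, hKU, hU1, hM, hUMN.trans inf_le_left, hKMN.trans inf_le_left, hncM⟩
  have hKprime := (Cfsg.Agent.S1372.result hG N hN K U hKU hK1 hU1).1
  obtain ⟨p, hpdef⟩ : ∃ p : ℕ, p = Nat.card K := ⟨_, rfl⟩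
  have hp : p.Prime := by rw [hpdef]; exact hKprime
  have hKp : Nat.card K = p := hpdef.symm
  obtain ⟨k, hkK, hk1⟩ : ∃ k ∈ K, k ≠ 1 := by
    obtain ⟨b, hb⟩ := Subgroup.ne_bot_iff_exists_ne_one.mp hK1
    exact ⟨b, b.2, fun h0 => hb (Subtype.ext h0)⟩
  have hko : orderOf k = p := by
    have hd : orderOf k ∣ p := by rw [← hKp]; exact Subgroup.orderOf_dvd_natCard K hkK
    rcases (Nat.dvd_prime hp).mp hd with h1 | h1
    · exact absurd (orderOf_eq_one_iff.mp h1) hk1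
    · exact h1
  have hpM := hctx.p_not_sigma BGK.row1430 BGK.row1431 hG hp hkK hko
  obtain ⟨E, hE, hKE⟩ := BGG.exists_compl_ge hG hM (hKMN.trans inf_le_left) (by
    intro q hq hqd
    rw [hKp] at hqd
    rw [(Nat.prime_dvd_prime_iff_eq hq hp).mp hqd]; exact hpM)
  obtain ⟨A, hXA, hAML, hAe, hA2⟩ := hT.hA
  exact ⟨Ns, K, _, U, E, A, x', p, r,
    ⟨hG, hctx, hp, hKp, hE, hKE, hT, hx'o, hx'σ, hXA (Subgroup.mem_zpowers x'), hAML, hAe, hA2⟩⟩

end Cfsg.Agent.Lib.Helper2.BGL
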