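import Mathlib
import Cfsg.Agent.Lib.Helper2.BGL9

set_option autoImplicit false
set_option maxHeartbeats 4000000
set_option linter.unusedVariables false
set_option linter.unusedSectionVars false
set_option linter.style.longLine false
set_option linter.unusedSimpArgs false
set_option linter.deprecated false
set_option linter.style.haveILetI false

/-!
# B&G Corollary 15.9 (S1376): the complement acts fixed-point-freely
-/

open scoped commutatorElement Pointwise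
universe u
namespace Cfsg.Agent.Lib.Helper2.BGL

open Cfsg Cfsg.Agent.Lib.Helper1 Cfsg.Agent.Lib.Helper7 Cfsg.Agent.Lib.Helper3
open Cfsg.Agent.Lib.Helper7.BGRows Cfsg.Agent.Lib.Lead

variable {G : Type u} [Group G] [Finite G]

omit [Finite G] in
/-- conjugations by `d` and `e` commute on `w` when `[d, e]` centralizes `w` -/
theorem conj_swap_aux {d e w c : G} (h5 : d * e = e * d * c) (hcw : c * w = w * c) :
    d * (e * w * e⁻¹) * d⁻¹ = e * (d * w * d⁻¹) * e⁻¹ := by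
  have h1 : c * w * c⁻¹ = w := by rw [hcw]; group
  calc d * (e * w * e⁻¹) * d⁻¹ = (d * e) * w * (d * e)⁻¹ := by group
    _ = (e * d * c) * w * (e * d * c)⁻¹ := by rw [h5]
    _ = e * (d * (c * w * c⁻¹) * d⁻¹) * e⁻¹ := by group
    _ = e * (d * w * d⁻¹) * e⁻¹ := by rw [h1]

omit [Finite G] in
/-- the elements of `Q` on which every element of `Y₂` acts trivially modulo `Q₀` -/
def trivMod (Q Q₀ : Subgroup G) (Y₂ : Set G)
    (hn : ∀ g ∈ Q, ∀ w ∈ Q₀, g * w * g⁻¹ ∈ Q₀) : Subgroup G where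
  carrier := {w | w ∈ Q ∧ ∀ d' ∈ Y₂, d' * w * d'⁻¹ * w⁻¹ ∈ Q₀}
  one_mem' := by
    refine ⟨Q.one_mem, fun d' _ => ?_⟩
    have e : d' * 1 * d'⁻¹ * (1 : G)⁻¹ = 1 := by group
    rw [e]; exact Q₀.one_mem
  mul_mem' := by
    rintro w₁ w₂ ⟨hw₁, h₁⟩ ⟨hw₂, h₂⟩
    refine ⟨Q.mul_mem hw₁ hw₂, fun d' hd' => ?_⟩
    have e : d' * (w₁ * w₂) * d'⁻¹ * (w₁ * w₂)⁻¹ =
        (d' * w₁ * d'⁻¹ * w₁⁻¹) * (w₁ * (d' * w₂ * d'⁻¹ * w₂⁻¹) * w₁⁻¹) := by group
    rw [e]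
    exact Q₀.mul_mem (h₁ d' hd') (hn w₁ hw₁ _ (h₂ d' hd'))
  inv_mem' := by
    rintro w ⟨hw, h₁⟩
    refine ⟨Q.inv_mem hw, fun d' hd' => ?_⟩
    have e : d' * w⁻¹ * d'⁻¹ * (w⁻¹)⁻¹ = w⁻¹ * (d' * w * d'⁻¹ * w⁻¹)⁻¹ * (w⁻¹)⁻¹ := by group
    rw [e]
    exact hn w⁻¹ (Q.inv_mem hw) _ (Q₀.inv_mem (h₁ d' hd'))

omit [Finite G] in
theorem mem_trivMod {Q Q₀ : Subgroup G} {Y₂ : Set G}
    {hn : ∀ g ∈ Q, ∀ w ∈ Q₀, g * w * g⁻¹ ∈ Q₀} {w : G} :
    w ∈ trivMod Q Q₀ Y₂ hn ↔ w ∈ Q ∧ ∀ d' ∈ Y₂, d' * w * d'⁻¹ * w⁻¹ ∈ Q₀ := Iff.rfl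

/-- in the non-nilpotent `P1` configuration `L_σ = Q ⋊ D`, an element `y ∈ L_σ` of prime order
centralizing `K = C_{L_σ}(K*)` lies in `F(L)`; hence `C_G(y) ≤ L` -/
theorem qd_centralizer_le {L Ks Q D K : Subgroup G} {q : ℕ} (hQD : QD L Ks Q D q)
    (hK : K = sigmaCore L ⊓ Subgroup.centralizer (Ks : Set G)) (hK1 : K ≠ ⊥)
    (hKKs : ∀ a ∈ K, ∀ c ∈ Ks, a * c = c * a)
    {y : G} {s : ℕ} (hs : s.Prime) (hyo : orderOf y = s) (hyσ : y ∈ sigmaCore L)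
    (hyK : ∀ a ∈ K, y * a = a * y) :
    Subgroup.centralizer ((Subgroup.zpowers y : Subgroup G) : Set G) ≤ L := by
  classical
  haveI hq : Fact q.Prime := ⟨hQD.prime_q⟩
  have hG := hQD.p1n.hG
  have hL := hQD.p1n.hM
  have hSL : sigmaCore L ≤ L := BGE.sigmaCore_le L
  have hKsL : Ks ≤ L := hQD.p1n.decomp.hall.1
  obtain ⟨Q₀, hQ₀def⟩ : ∃ Q₀ : Subgroup G, Q₀ = Q ⊓ Subgroup.centralizer (D : Set G) := ⟨_, rfl⟩
  have hKQ : K ≤ Q := by rw [hK]; exact hQD.hZQ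
  have hQ₀Q : Q₀ ≤ Q := by rw [hQ₀def]; exact inf_le_left
  have hLQ₀ : L ≤ Subgroup.normalizer (Q₀ : Set G) := by rw [hQ₀def]; exact hQD.le_normalizer_Q₀
  have hcjQ₀ : ∀ g ∈ L, ∀ w ∈ Q₀, g * w * g⁻¹ ∈ Q₀ := fun g hg w hw =>
    (Subgroup.mem_normalizer_iff.mp (hLQ₀ hg) w).mp hw
  have hcjQ : ∀ g ∈ L, ∀ w ∈ Q, g * w * g⁻¹ ∈ Q := fun g hg w hw =>
    (Subgroup.mem_normalizer_iff.mp (hQD.hQn hg) w).mp hw
  have hcomm : ∀ a ∈ Q, ∀ b ∈ Q, a * b * a⁻¹ * b⁻¹ ∈ Q₀ := fun a ha b hb => by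
    rw [hQ₀def]; exact hQD.comm_mem ha hb
  have hDL : D ≤ L := hQD.hDS.trans hSL
  have hQL : Q ≤ L := hQD.hQS.trans hSL
  obtain ⟨u, hu, d, hd, hyud⟩ := hQD.compl.2.2.2 y hyσ
  obtain ⟨Y₂, hY₂def⟩ : ∃ Y₂ : Set G,
      Y₂ = {d' | d' ∈ D ∧ ∀ a ∈ K, d' * a * d'⁻¹ * a⁻¹ ∈ Q₀} := ⟨_, rfl⟩
  have hY₂ : ∀ d' : G, d' ∈ Y₂ ↔ d' ∈ D ∧ ∀ a ∈ K, d' * a * d'⁻¹ * a⁻¹ ∈ Q₀ := by
    intro d'; rw [hY₂def]; exact Iff.rfl
  have hdY : d ∈ Y₂ := by
    rw [hY₂]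
    refine ⟨hd, ?_⟩
    intro a ha
    have h1 : y * a * y⁻¹ = a := by rw [hyK a ha]; group
    have h2 : d * a * d⁻¹ = u⁻¹ * a * u := by
      have e : d = u⁻¹ * y := by rw [hyud]; group
      rw [e]
      calc u⁻¹ * y * a * (u⁻¹ * y)⁻¹ = u⁻¹ * (y * a * y⁻¹) * u := by group
        _ = u⁻¹ * a * u := by rw [h1]
    have h3 : d * a * d⁻¹ * a⁻¹ = u⁻¹ * a * (u⁻¹)⁻¹ * a⁻¹ := by rw [h2, inv_inv]
    rw [h3]
    exact hcomm u⁻¹ (Q.inv_mem hu) a (hKQ ha)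
  have hn : ∀ g ∈ Q, ∀ w ∈ Q₀, g * w * g⁻¹ ∈ Q₀ := fun g hg => hcjQ₀ g (hQL hg)
  obtain ⟨N₂, hN₂def⟩ : ∃ N₂ : Subgroup G, N₂ = trivMod Q Q₀ Y₂ hn := ⟨_, rfl⟩
  have hmem : ∀ w, w ∈ N₂ ↔ w ∈ Q ∧ ∀ d' ∈ Y₂, d' * w * d'⁻¹ * w⁻¹ ∈ Q₀ := by
    intro w; rw [hN₂def]; exact mem_trivMod
  have hQ₀N₂ : Q ⊓ Subgroup.centralizer (D : Set G) ≤ N₂ := by
    intro w hw
    rw [hmem]
    refine ⟨hw.1, fun d' hd' => ?_⟩
    have h1 : d' * w = w * d' := (Subgroup.mem_centralizer_iff.mp hw.2) d' ((hY₂ d').mp hd').1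
    have h2 : d' * w * d'⁻¹ * w⁻¹ = 1 := by rw [h1]; group
    rw [h2]; exact Q₀.one_mem
  have hN₂Q : N₂ ≤ Q := fun w hw => ((hmem w).mp hw).1
  have hKN₂ : K ≤ N₂ := by
    intro a ha
    rw [hmem]
    exact ⟨hKQ ha, fun d' hd' => ((hY₂ d').mp hd').2 a ha⟩
  have hDN₂ : D ≤ Subgroup.normalizer (N₂ : Set G) := by
    apply le_normalizer_of_conj_mem
    intro e he w hw
    obtain ⟨hwQ, hwY⟩ := (hmem w).mp hw
    rw [hmem]
    refine ⟨hcjQ e (hDL he) w hwQ, fun d' hd' => ?_⟩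
    have hd'D : d' ∈ D := ((hY₂ d').mp hd').1
    obtain ⟨c', hc'def⟩ : ∃ c' : G, c' = d'⁻¹ * e⁻¹ * d' * e := ⟨_, rfl⟩
    have hc' : c' ∈ Subgroup.centralizer (Q : Set G) := by
      apply hQD.derived_le
      have h1 := Subgroup.commutator_mem_commutator (Subgroup.inv_mem _ hd'D)
        (Subgroup.inv_mem _ he)
      rw [commutatorElement_def, inv_inv, inv_inv] at h1
      rw [hc'def]; exact h1
    have hcw : c' * w = w * c' := ((Subgroup.mem_centralizer_iff.mp hc') w hwQ).symm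
    have h5 : d' * e = e * d' * c' := by rw [hc'def]; group
    have e1 : d' * (e * w * e⁻¹) * d'⁻¹ * (e * w * e⁻¹)⁻¹ =
        e * (d' * w * d'⁻¹ * w⁻¹) * e⁻¹ := by
      rw [conj_swap_aux h5 hcw]; group
    rw [e1]
    exact hcjQ₀ e (hDL he) _ (hwY d' hd')
  have hKsN₂ : Ks ≤ Subgroup.normalizer (N₂ : Set G) := by
    apply le_normalizer_of_conj_mem
    intro c hc w hw
    obtain ⟨hwQ, hwY⟩ := (hmem w).mp hw
    rw [hmem]
    refine ⟨hcjQ c (hKsL hc) w hwQ, fun d' hd' => ?_⟩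
    obtain ⟨hd'D, hd'K⟩ := (hY₂ d').mp hd'
    have hd'' : c⁻¹ * d' * c ∈ Y₂ := by
      rw [hY₂]
      refine ⟨?_, fun a ha => ?_⟩
      · have h1 := (Subgroup.mem_normalizer_iff.mp (hQD.hKD (Ks.inv_mem hc)) d').mp hd'D
        rwa [inv_inv] at h1
      · have hca : Commute c a := (hKKs a ha c hc).symm
        have h1 : c * a * c⁻¹ = a := by rw [hca.eq]; group
        have h2 : c * a⁻¹ * c⁻¹ = a⁻¹ := by rw [hca.inv_right.eq]; group
        have e2 : c⁻¹ * d' * c * a * (c⁻¹ * d' * c)⁻¹ * a⁻¹ =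
            c⁻¹ * (d' * a * d'⁻¹ * a⁻¹) * (c⁻¹)⁻¹ := by
          calc c⁻¹ * d' * c * a * (c⁻¹ * d' * c)⁻¹ * a⁻¹
              = c⁻¹ * (d' * (c * a * c⁻¹) * d'⁻¹ * (c * a⁻¹ * c⁻¹)) * (c⁻¹)⁻¹ := by group
            _ = c⁻¹ * (d' * a * d'⁻¹ * a⁻¹) * (c⁻¹)⁻¹ := by rw [h1, h2]
        rw [e2]
        exact hcjQ₀ c⁻¹ (L.inv_mem (hKsL hc)) _ (hd'K a ha)
    have e3 : d' * (c * w * c⁻¹) * d'⁻¹ * (c * w * c⁻¹)⁻¹ =
        c * ((c⁻¹ * d' * c) * w * (c⁻¹ * d' * c)⁻¹ * w⁻¹) * c⁻¹ := by group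
    rw [e3]
    exact hcjQ₀ c (hKsL hc) _ (hwY _ hd'')
  have hN₂eq : N₂ = Q := by
    rcases hQD.dichotomy hQ₀N₂ hN₂Q (sup_le hDN₂ hKsN₂) with h0 | h0
    · exfalso
      have hbot := hQD.kstar_inf_eq_bot
      rw [← hK] at hbot
      apply hK1
      rw [eq_bot_iff, ← hbot]
      intro a ha
      have h1 : a ∈ N₂ := hKN₂ ha
      rw [h0] at h1
      exact Subgroup.mem_inf.mpr ⟨ha, h1.2⟩
    · exact h0
  -- `d` centralizes `Q`
  have hdQ : d ∈ Subgroup.centralizer (Q : Set G) := by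
    rw [Subgroup.mem_centralizer_iff]
    intro w hw
    have hwN : w ∈ N₂ := by rw [hN₂eq]; exact hw
    obtain ⟨c, hcdef⟩ : ∃ c : G, c = d * w * d⁻¹ * w⁻¹ := ⟨_, rfl⟩
    have hcQ₀ : c ∈ Q₀ := hcdef ▸ ((hmem w).mp hwN).2 d hdY
    have hcd : Commute d c := by
      have h1 : c ∈ Subgroup.centralizer (D : Set G) := by rw [hQ₀def] at hcQ₀; exact hcQ₀.2
      exact (Subgroup.mem_centralizer_iff.mp h1) d hd
    have hconj : d * w * d⁻¹ = c * w := by rw [hcdef]; group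
    have hpow : ∀ n : ℕ, d ^ n * w * (d ^ n)⁻¹ = c ^ n * w := by
      intro n
      induction n with
      | zero => simp
      | succ n ih =>
        have hcn : d * c ^ n * d⁻¹ = c ^ n := by
          rw [(hcd.pow_right n).eq]; group
        calc d ^ (n + 1) * w * (d ^ (n + 1))⁻¹ = d * (d ^ n * w * (d ^ n)⁻¹) * d⁻¹ := by
              rw [pow_succ']; group
          _ = d * (c ^ n * w) * d⁻¹ := by rw [ih]
          _ = (d * c ^ n * d⁻¹) * (d * w * d⁻¹) := by group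
          _ = c ^ n * (c * w) := by rw [hcn, hconj]
          _ = c ^ (n + 1) * w := by rw [pow_succ]; group
    have h1 : c ^ orderOf d = 1 := by
      have h2 := hpow (orderOf d)
      rw [pow_orderOf_eq_one] at h2
      have h3 : c ^ orderOf d * w = 1 * w := by
        rw [← h2]; group
      exact mul_right_cancel h3
    have h3 : c ^ Nat.card Q = 1 := BGN.pow_card_of_mem (hQ₀Q hcQ₀)
    have hcop : (orderOf d).Coprime (Nat.card Q) :=
      Nat.Coprime.coprime_dvd_left (Subgroup.orderOf_dvd_natCard D hd) hQD.coprime_QD.symm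
    have hc1 : c = 1 := BGN.eq_one_of_pow_coprime h1 h3 hcop
    have h4 : d * w * d⁻¹ = w := by rw [hconj, hc1, one_mul]
    calc w * d = (d * w * d⁻¹) * d := by rw [h4]
      _ = d * w := by group
  have hQF : Q ≤ fittingOf L :=
    BGK.le_fittingOf_of_le_normalizer hQL hQD.hQn hQD.hQq.isNilpotent
  have hCF : sigmaCore L ⊓ Subgroup.centralizer (Q : Set G) ≤ fittingOf L :=
    BGK.le_fittingOf_of_le_normalizer (inf_le_left.trans hSL)
      (le_normalizer_inf (BGE.le_normalizer_sigmaCore L) (PL.le_normalizer_centralizer hQD.hQn))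
      hQD.nilpotent_centralizer
  have hyF : y ∈ fittingOf L := by
    rw [hyud]
    exact (fittingOf L).mul_mem (hQF hu) (hCF (Subgroup.mem_inf.mpr ⟨hQD.hDS hd, hdQ⟩))
  exact hQD.centralizer_le hyF hs hyo

namespace C9

variable {M N Ns K Ks U E A : Subgroup G} {x' : G} {p r : ℕ}

/-- no element of prime order of `E` centralizes a non-identity element of `M_σ` -/
theorem no_sing (h : C9 M N Ns K Ks U E A x' p r) {y z : G} {s : ℕ} (hs : s.Prime)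
    (hyE : y ∈ E) (hyo : orderOf y = s) (hzσ : z ∈ sigmaCore M) (hz1 : z ≠ 1)
    (hyz : y * z = z * y) : False := by
  classical
  haveI : Fact s.Prime := ⟨hs⟩
  haveI : Fact p.Prime := ⟨h.hp⟩
  have hG := h.hG
  have hM := h.hM
  have hN := h.hN
  have hNs := h.hNs
  have hctx := h.ctx
  have hpp := hctx.hpp
  have hE := h.hE
  have hκ := hctx.kappa_empty BGK.row1430 BGK.row1431 hG
  have hJ := hctx.sigma_inf_Ms hG
  obtain ⟨hEMs, T, hKT, hTE, hET, hTp⟩ := hctx.compl_le hG h.hp h.hKp hE h.hKE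
  obtain ⟨k, hkK, hko, hk1⟩ := h.exists_k
  obtain ⟨hYc, hYp, hy1⟩ := BGK.zpowers_facts hs hyo
  obtain ⟨Y, hYdef⟩ : ∃ Y : Subgroup G, Y = Subgroup.zpowers y := ⟨_, rfl⟩
  rw [← hYdef] at hYc hYp
  have hYE : Y ≤ E := by rw [hYdef]; exact Subgroup.zpowers_le.mpr hyE
  have hyY : y ∈ Y := hYdef ▸ Subgroup.mem_zpowers y
  have hzY : z ∈ Subgroup.centralizer (Y : Set G) := by
    rw [hYdef, Subgroup.mem_centralizer_iff]
    intro w hw
    obtain ⟨i, rfl⟩ := Subgroup.mem_zpowers_iff.mp hw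
    have hc : Commute y z := hyz
    exact (hc.zpow_left i).eq
  have hzNs : z ∉ Ns := by
    intro hzNs
    have h1 : z ∈ sigmaCore M ⊓ Ns := Subgroup.mem_inf.mpr ⟨hzσ, hzNs⟩
    rw [hJ, Subgroup.mem_bot] at h1
    exact hz1 h1
  -- `s ∈ τ₂(M)`
  have hsE : s ∣ Nat.card E := by rw [← hyo]; exact Subgroup.orderOf_dvd_natCard E hyE
  have hsτ : s ∈ tau2 M := by
    rcases BGJ.tau_cases hG hM hE hs hsE with h13 | h2
    · exfalso
      have h1 := BGK.regular_of_kappa_empty hG hM hκ hE.1 y hyE hy1 (by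
        intro q hq hqd
        rw [hyo] at hqd
        rw [(Nat.prime_dvd_prime_iff_eq hq hs).mp hqd]; exact h13)
      have h2 : z ∈ sigmaCore M ⊓ Subgroup.centralizer ({y} : Set G) :=
        Subgroup.mem_inf.mpr ⟨hzσ, BGE.mem_centralizer_singleton.mpr hyz⟩
      rw [h1, Subgroup.mem_bot] at h2
      exact hz1 h2
    · exact h2
  -- the `E_{s²}`
  obtain ⟨B, hBE, hBe, hB2⟩ := BGK.exists_sq_in_compl hG hM hE hsτ
  obtain ⟨⟨hEB, hall⟩, -, hlast⟩ :=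
    Cfsg.Agent.S1418.result hG M hM E hE s hsτ B ⟨hBE, hBe, hB2⟩
  have hYB : Y ≤ B := hall Y hYE hYc
  have hfix : sigmaCore M ⊓ Subgroup.centralizer (Y : Set G) ≠ ⊥ := by
    intro h0
    have h1 : z ∈ sigmaCore M ⊓ Subgroup.centralizer (Y : Set G) :=
      Subgroup.mem_inf.mpr ⟨hzσ, hzY⟩
    rw [h0, Subgroup.mem_bot] at h1
    exact hz1 h1
  obtain ⟨hCYM, hYuniq⟩ := hlast Y hYB hYc hfix
  -- `k` commutes with `y`
  have hBs : IsPGroup s B := IsPGroup.of_card (n := 2) hB2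
  have hky : k * y = y * k := by
    by_cases hsp : s = p
    · have hKB : K ≤ B := hall K h.hKE (by rw [h.hKp, hsp])
      have h8 := hBe.1.is_comm.comm (⟨k, hKB hkK⟩ : ↥B) ⟨y, hYB hyY⟩
      exact congrArg Subtype.val h8
    · have hdisj : T ⊓ B = ⊥ :=
        disjoint_iff.mp (IsPGroup.disjoint_of_ne p s (Ne.symm hsp) T B hTp hBs)
      exact BGK.comm_of_normal_disjoint hdisj (hKT hkK) (hYB hyY) (hEB (h.hKE hkK)) (hET hyE)
  -- `s ∈ σ(N*)`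
  have hkσ : k ∈ sigmaCore Ns := hpp.K_le_sigma hkK
  have hyNs : y ∈ Ns := hEMs hyE
  have hyC : y ∈ Ns ⊓ Subgroup.centralizer ({k} : Set G) :=
    Subgroup.mem_inf.mpr ⟨hyNs, BGE.mem_centralizer_singleton.mpr hky⟩
  have hsσ : s ∈ sigma Ns := by
    by_contra hsn
    have hσ : ∀ q : ℕ, q.Prime → q ∣ orderOf y → q ∉ sigma Ns := by
      intro q hq hqd
      rw [hyo] at hqd
      rw [(Nat.prime_dvd_prime_iff_eq hq hs).mp hqd]; exact hsn
    rcases BGK.s1432_of BGK.row1430 BGK.row1431 hG Ns hNs k hkσ hk1 y hyC hy1 hσ with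
      ⟨hκ₁, -⟩ | ⟨-, -, hCy, -⟩
    · have hsκ : s ∈ kappa Ns := hκ₁ s hs (by rw [hyo])
      have hsol := BG7.isSolvable_of_ne_top hG hNs.1
      obtain ⟨m, hm, hYm⟩ := BGK.exists_cj_le_of_hall hsol hpp.hKsH (hYE.trans hEMs) (by
        intro q hq hqd
        rw [hYc] at hqd
        rw [(Nat.prime_dvd_prime_iff_eq hq hs).mp hqd]; exact hsκ)
      have hY' : BG7.cj m⁻¹ Y ≤ Ks := by
        have h1 := BG7.cj_mono (k := m⁻¹) hYm
        rwa [BG7.cj_inv_cj] at h1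
      obtain ⟨-, hun⟩ := hpp.unique_over_Ks hG BGK.row1430 hY'
        (by rw [BG7.card_cj, hYc]; exact hs)
      have h5 : Subgroup.centralizer ((BG7.cj m⁻¹ Y : Subgroup G) : Set G) ≤ BG7.cj m⁻¹ M := by
        rw [← BGK.cj_centralizer']
        exact BG7.cj_mono hCYM
      have h6 : BG7.cj m⁻¹ M = N := hun _ (BG9.isCoatom_cj hM m⁻¹) h5
      apply hctx.hncM m
      rw [← h6]
      have h7 := BG7.cj_inv_cj m⁻¹ M
      rw [inv_inv] at h7
      exact h7.symm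
    · exact hzNs (hCy (BGE.mem_centralizer_singleton.mpr hyz))
  have hYσ : Y ≤ sigmaCore Ns := by
    apply BGH.le_sigmaCore_of_sigma_group hG hNs (hYE.trans hEMs)
    intro q hq hqd
    rw [hYc] at hqd
    rw [(Nat.prime_dvd_prime_iff_eq hq hs).mp hqd]; exact hsσ
  have hCYNs : ¬ Subgroup.centralizer (Y : Set G) ≤ Ns := fun hle => hzNs (hle hzY)
  have hKsc : IsCyclic ↥Ks := hpp.Ks_cyclic hG BGK.row1430 BGK.row1431
  obtain ⟨Us, hKUs⟩ := (BGK.s1352_of BGK.row1430 hG Ns hNs Ks hKsc hpp.hKsH).1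
  by_cases hnil : Group.IsNilpotent ↥(sigmaCore Ns)
  · -- the `NT` configuration for `(N*, M, y)`
    have hNY : Subgroup.normalizer (Y : Set G) ≤ M := normalizer_le_of_unique hG hM hCYM hYuniq
    have htd : BGK.Tdata Ns M Y s :=
      BGK.tdata_of BGK.row1430 BGK.row1431 hG hNs hYσ hYc hCYNs hM hNY
    have hNT : BGG.NT Ns M y s B := by
      refine ⟨hNs, hM, hnil, hYσ hyY, hyo, ?_, hYB hyY,
        le_inf (hBE.trans hEMs) (hBE.trans hE.1), hBe, hB2⟩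
      rw [← hYdef]; exact htd
    have hnc : ¬ ∀ a ∈ BGG.Pc s (sigmaCore Ns), ∀ b ∈ BGG.Pc s (sigmaCore Ns),
        a * b = b * a := by
      intro hc
      exact hpp.Ks_ne_bot hG BGK.row1430
        (hNT.K_bot_of_comm row1360 row1365 BGK.row1430 row1439 hG hKUs hc)
    have hS := hNT.sylow_nonabelian hG hnc
    obtain ⟨-, ⟨hcard, -⟩, -⟩ :=
      Cfsg.Agent.S1419.result hG M hM E hE s hsτ hS B ⟨hBE, hBe, hB2⟩
    have hne : (B ⊓ Subgroup.centralizer (sigmaCore M : Set G)) ≠ ⊥ := by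
      intro h0
      rw [h0, Subgroup.card_bot] at hcard
      exact hs.one_lt.ne hcard
    obtain ⟨a, ha⟩ := Subgroup.ne_bot_iff_exists_ne_one.mp hne
    have haB := (Subgroup.mem_inf.mp a.2).1
    have haC := (Subgroup.mem_inf.mp a.2).2
    have hax : (a : G) * x' = x' * a :=
      ((Subgroup.mem_centralizer_iff.mp haC) x' h.hxσ).symm
    exact ha (Subtype.ext (h.E_cent (hBE haB) hax))
  · -- the non-nilpotent case
    have hp1 := BGK.p1_of_not_nilpotent hG hNs hnil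
    have hUs : Us = ⊥ := decomp_U_eq_bot hG hNs hp1 hKUs
    subst hUs
    have hP1N : P1N Ns Ks :=
      ⟨hG, hNs, hKUs, hpp.Ks_ne_bot hG BGK.row1430, hnil, BGK.row1430, BGK.row1431⟩
    obtain ⟨Q, D, q, hQD⟩ := hP1N.exists_QD
    have hKzp : ∀ a ∈ K, a ∈ Subgroup.zpowers k := fun a ha =>
      BGE.Exc.mem_zpowers_of_card_prime (B := K) h.hKp hkK hk1 ha
    have hyK : ∀ a ∈ K, y * a = a * y := by
      intro a ha
      obtain ⟨i, rfl⟩ := Subgroup.mem_zpowers_iff.mp (hKzp a ha)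
      have hc : Commute y k := hky.symm
      exact (hc.zpow_right i).eq
    have hC := qd_centralizer_le hQD hpp.hKst hpp.hK1 hpp.comm hs hyo (hYσ hyY) hyK
    rw [← hYdef] at hC
    exact hzNs (hC hzY)

/-- **the complement acts fixed-point-freely on `M_σ`** -/
theorem fpf (h : C9 M N Ns K Ks U E A x' p r) :
    ∀ e ∈ E, e ≠ 1 → sigmaCore M ⊓ Subgroup.centralizer ({e} : Set G) = ⊥ := by
  intro e₀ he₀ he₀1
  rw [eq_bot_iff]
  intro z hz
  rw [Subgroup.mem_bot]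
  by_contra hz1
  obtain ⟨hzσ, hzc⟩ := Subgroup.mem_inf.mp hz
  have hze : e₀ * z = z * e₀ := BGE.mem_centralizer_singleton.mp hzc
  have hord : orderOf e₀ ≠ 1 := fun h0 => he₀1 (orderOf_eq_one_iff.mp h0)
  obtain ⟨s, hs, hsd⟩ := Nat.exists_prime_and_dvd hord
  obtain ⟨y, hyo, -, hyle, hycomm, -⟩ := BGK.exists_prime_sub hs hsd
  have hyE : y ∈ E := hyle E he₀ (Subgroup.mem_zpowers y)
  exact h.no_sing hs hyE hyo hzσ hz1 (hycomm z hze)

end C9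

end Cfsg.Agent.Lib.Helper2.BGL
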