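import Mathlib
import Cfsg.Agent.Lib.Helper2.BGL10
import Cfsg.Agent.Lib.Helper1.FrobeniusCount

set_option autoImplicit false
set_option maxHeartbeats 4000000
set_option linter.unusedVariables false
set_option linter.unusedSectionVars false
set_option linter.style.longLine false
set_option linter.unusedSimpArgs false
set_option linter.deprecated false
set_option linter.style.haveILetI false

/-!
# B&G Corollary 15.9 (S1376): the complement is cyclic; the main theorem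
-/

open scoped commutatorElement Pointwise
universe u
namespace Cfsg.Agent.Lib.Helper2.BGL

open Cfsg Cfsg.Agent.Lib.Helper1 Cfsg.Agent.Lib.Helper7 Cfsg.Agent.Lib.Helper3
open Cfsg.Agent.Lib.Helper7.BGRows Cfsg.Agent.Lib.Lead

variable {G : Type u} [Group G] [Finite G]

/-- a complement acting fixed-point-freely on a normal subgroup is malnormal -/
theorem malnormal_of_fpf {M E S : Subgroup G} (hE : IsComplIn E S M)
    (hn : M ≤ Subgroup.normalizer (S : Set G))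
    (hfpf : ∀ e ∈ E, e ≠ 1 → S ⊓ Subgroup.centralizer ({e} : Set G) = ⊥)
    {g y : G} (hg : g ∈ M) (hgE : g ∉ E) (hy : y ∈ E) (hy' : g⁻¹ * y * g ∈ E) : y = 1 := by
  obtain ⟨a, ha, b, hb, hgab⟩ := hE.2.2.2 g hg
  -- `y₁ = a⁻¹ y a ∈ E`, and `g⁻¹ y g = b⁻¹ y₁ b`
  obtain ⟨y₁, hy₁def⟩ : ∃ y₁ : G, y₁ = a⁻¹ * y * a := ⟨_, rfl⟩
  have hy₁E : y₁ ∈ E := by rw [hy₁def]; exact E.mul_mem (E.mul_mem (E.inv_mem ha) hy) ha
  have he : g⁻¹ * y * g = b⁻¹ * y₁ * b := by rw [hgab, hy₁def]; group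
  rw [he] at hy'
  -- `y₁⁻¹ (b⁻¹ y₁ b) ∈ E ∩ S`
  have hy₁M : y₁ ∈ M := hE.1 hy₁E
  have h1 : y₁⁻¹ * b⁻¹ * y₁ ∈ S := by
    have h2 := (Subgroup.mem_normalizer_iff.mp (hn (M.inv_mem hy₁M)) b⁻¹).mp (S.inv_mem hb)
    rwa [inv_inv] at h2
  have h2 : y₁⁻¹ * (b⁻¹ * y₁ * b) ∈ E ⊓ S := by
    refine Subgroup.mem_inf.mpr ⟨E.mul_mem (E.inv_mem hy₁E) hy', ?_⟩
    have e : y₁⁻¹ * (b⁻¹ * y₁ * b) = (y₁⁻¹ * b⁻¹ * y₁) * b := by group
    rw [e]; exact S.mul_mem h1 hb
  rw [hE.2.2.1, Subgroup.mem_bot] at h2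
  -- so `y₁` commutes with `b`
  have h3 : y₁ * b = b * y₁ := by
    have e : y₁ * b = b * (y₁ * (y₁⁻¹ * (b⁻¹ * y₁ * b))) := by group
    rw [e, h2, mul_one]
  by_cases hy₁1 : y₁ = 1
  · have e : y = a * y₁ * a⁻¹ := by rw [hy₁def]; group
    rw [e, hy₁1]; group
  · exfalso
    have h4 : b ∈ S ⊓ Subgroup.centralizer ({y₁} : Set G) :=
      Subgroup.mem_inf.mpr ⟨hb, BGE.mem_centralizer_singleton.mpr h3⟩
    rw [hfpf y₁ hy₁E hy₁1, Subgroup.mem_bot] at h4
    apply hgE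
    rw [hgab, h4, mul_one]; exact ha

namespace C9

variable {M N Ns K Ks U E A : Subgroup G} {x' : G} {p r : ℕ}

/-- the complement is abelian: `M' ≤ F(M)` and `E ∩ F(M) = 1` -/
theorem E_comm (h : C9 M N Ns K Ks U E A x' p r) : ∀ a ∈ E, ∀ b ∈ E, a * b = b * a := by
  have hG := h.hG
  have hM := h.hM
  have hnil := h.ctx.nilpotent BGK.row1430 BGK.row1431 hG
  have hNT : BGG.NT M N x' r A :=
    ⟨hM, h.hN, hnil, h.hxσ, h.hxo, h.td, h.hxA, h.hAML, h.hAe, h.hA2⟩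
  have hder := hNT.derived_le_fitting hG
  intro a ha b hb
  obtain ⟨c, hcdef⟩ : ∃ c : G, c = a * b * a⁻¹ * b⁻¹ := ⟨_, rfl⟩
  have hcE : c ∈ E := by
    rw [hcdef]
    exact E.mul_mem (E.mul_mem (E.mul_mem ha hb) (E.inv_mem ha)) (E.inv_mem hb)
  have hcF : c ∈ fittingOf M := by
    apply hder
    rw [hcdef]
    have h1 := Subgroup.commutator_mem_commutator (h.hE.1 ha) (h.hE.1 hb)
    rwa [commutatorElement_def] at h1
  have hco : (orderOf c).Coprime (Nat.card (sigmaCore M)) := by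
    apply BGD.coprime_sigmaCore hG hM
    intro q hq hqd
    exact BGD.compl_not_sigma hG hM h.hE q hq (hqd.trans (Subgroup.orderOf_dvd_natCard E hcE))
  have hcY := BGG.mem_Y_of_coprime row1439 hG hM hnil hco hcF
  have hcx : c * x' = x' * c := BGG.Y_commute hG hM c hcY x' h.hxσ
  have hc1 : c = 1 := h.E_cent hcE hcx
  calc a * b = (a * b * a⁻¹ * b⁻¹) * (b * a) := by group
    _ = b * a := by rw [← hcdef, hc1, one_mul]

/-- the complement is cyclic -/
theorem E_cyclic (h : C9 M N Ns K Ks U E A x' p r) : IsCyclic ↥E := by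
  haveI : IsMulCommutative ↥E := ⟨⟨fun a b => Subtype.ext (h.E_comm a a.2 b b.2)⟩⟩
  exact isCyclic_of_fpf_of_abelian E (sigmaCore M) (BGE.sigmaCore_ne_bot h.hG h.hM)
    (h.hE.1.trans (BGE.le_normalizer_sigmaCore M)) h.fpf

/-- the complement is a Frobenius complement in `M` -/
theorem frob (h : C9 M N Ns K Ks U E A x' p r) : IsFrobeniusComplement (E.subgroupOf M) := by
  have hE := h.hE
  refine ⟨?_, ?_, ?_⟩
  · intro h0
    obtain ⟨k, hkK, -, hk1⟩ := h.exists_k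
    have hkE := h.hKE hkK
    have h1 : (⟨k, hE.1 hkE⟩ : ↥M) ∈ E.subgroupOf M := Subgroup.mem_subgroupOf.mpr hkE
    rw [h0, Subgroup.mem_bot] at h1
    exact hk1 (congrArg Subtype.val h1)
  · intro h0
    apply BGE.sigmaCore_ne_bot h.hG h.hM
    rw [eq_bot_iff]
    intro s hs
    have h1 : (⟨s, BGE.sigmaCore_le M hs⟩ : ↥M) ∈ E.subgroupOf M := by
      rw [h0]; exact Subgroup.mem_top _
    have hsE : s ∈ E := Subgroup.mem_subgroupOf.mp h1
    rw [← hE.2.2.1]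
    exact Subgroup.mem_inf.mpr ⟨hsE, hs⟩
  · intro g hg
    rw [eq_bot_iff]
    intro y hy
    rw [Subgroup.mem_bot]
    obtain ⟨hy1, hy2⟩ := Subgroup.mem_inf.mp hy
    rw [mem_conj_smul_iff'] at hy2
    have hyE : (y : G) ∈ E := Subgroup.mem_subgroupOf.mp hy1
    have hy'E : (g : G)⁻¹ * (y : G) * (g : G) ∈ E := by
      have h1 := Subgroup.mem_subgroupOf.mp hy2
      simpa using h1
    have hgE : (g : G) ∉ E := fun h1 => hg (Subgroup.mem_subgroupOf.mpr h1)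
    have h2 := malnormal_of_fpf hE (BGE.le_normalizer_sigmaCore M) h.fpf g.2 hgE hyE hy'E
    exact Subtype.ext h2

end C9

/-- **S1376** (B&G Corollary 15.9) -/
theorem s1376_main (hG : IsMinSimpleOddOrder G) (M : Subgroup G) (hM : IsCoatom M) (x : G)
    (hx : x ∈ sigmaCore M) (hx1 : x ≠ 1) (hxM : ¬ Subgroup.centralizer ({x} : Set G) ≤ M)
    (N : Subgroup G) (hN : IsCoatom N) (hxN : Subgroup.centralizer ({x} : Set G) ≤ N)
    (hkN : (kappa N).Nonempty) :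
    kappa M = ∅ ∧ (∃ E : Subgroup ↥M, IsFrobeniusComplement E ∧ IsCyclic E) ∧
      ¬ IsTISubset (fittingHallOf M : Set G) := by
  obtain ⟨Ns, K, Ks, U, E, A, x', p, r, h⟩ := exists_c9 hG hM hx hx1 hxM hN hxN hkN
  refine ⟨?_, ⟨E.subgroupOf M, h.frob, ?_⟩, ?_⟩
  · exact Set.eq_empty_iff_forall_notMem.mpr
      (fun q hq => h.ctx.kappa_empty BGK.row1430 BGK.row1431 hG q hq)
  · haveI := h.E_cyclic
    exact isCyclic_of_surjective (Subgroup.subgroupOfEquivOfLe h.hE.1).symm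
      (Subgroup.subgroupOfEquivOfLe h.hE.1).symm.surjective
  · intro hTI
    have hnil := h.ctx.nilpotent BGK.row1430 BGK.row1431 hG
    have hσF := BGK.sigmaCore_eq_fittingHallOf hG hM hnil
    obtain ⟨c₀, hc₀C, hc₀M⟩ := SetLike.not_le_iff_exists.mp hxM
    have hxc₀ : x * c₀ = c₀ * x := BGE.mem_centralizer_singleton.mp hc₀C
    have hNF : Subgroup.normalizer ((fittingHallOf M : Subgroup G) : Set G) = M := by
      rw [← hσF]
      exact BG8.normalizer_eq_of_coatom hG hM (BGE.sigmaCore_le M)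
        (BGE.sigmaCore_ne_bot hG hM) (BGE.le_normalizer_sigmaCore M)
    have hxF : x ∈ ((fittingHallOf M : Subgroup G) : Set G) := by
      rw [← hσF]; exact hx
    apply hx1
    apply hTI c₀ (by rw [hNF]; exact hc₀M) x hxF
    have e : c₀ * x * c₀⁻¹ = x := by rw [← hxc₀]; group
    rw [e]; exact hxF

end Cfsg.Agent.Lib.Helper2.BGL
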