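import Mathlib
import Cfsg.Agent.Lib.Helper4.ES2F

/-!
# Baby Monster type from Monster type, part a: general group theory

* `exists_nc2`: in an extraspecial 2-group (elementwise data), two independent elements are separated by
  an element commuting with the first and not with the second.
* `exists_quot_lift`: a homomorphism on a subgroup `HK ≤ K` killing `T` descends to the image of `HK`
  in `K ⧸ T`.
* `data_top_of_injective`: pull back of the elementwise data along an injective homomorphism.
* `cube_step`: the coprime-action step for an element of order three.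
-/

set_option autoImplicit false

namespace Cfsg.Agent.Lib.Helper2.BM

open Cfsg.Agent.Lib.Helper4.ES2

section nc2

variable {G : Type*} [Group G] {Q : Subgroup G} {z : G}

/-- inverse of an element of `Q` is the element or its product with `z` -/
theorem inv_cases (h : Data Q z) {x : G} (hx : x ∈ Q) : x⁻¹ = x ∨ x⁻¹ = x * z := by
  rcases h.sq_mem x hx with h1 | h1
  · left; exact inv_eq_of_mul_eq_one_right h1
  · right
    apply inv_eq_of_mul_eq_one_right
    rw [← mul_assoc, h1, h.z_sq]

/-- two elements of `Q`, the second outside the subgroup generated by the first and the centre, are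
separated by an element of `Q` commuting with the first and not with the second -/
theorem exists_nc2 (h : Data Q z) {x y : G} (hx : x ∈ Q) (hy : y ∈ Q)
    (hy1 : y ≠ 1) (hyz : y ≠ z) (hyx : y ≠ x) (hyxz : y ≠ x * z) :
    ∃ q ∈ Q, cm x q = 1 ∧ cm y q = z := by
  obtain ⟨q1, hq1, hc1⟩ := h.exists_nc hy hy1 hyz
  rcases h.comm_mem x hx q1 hq1 with hx1 | hx1
  · exact ⟨q1, hq1, hx1, hc1⟩
  · -- `x * y` is not central
    have hxy1 : x * y ≠ 1 := by
      intro h2
      have h3 : y = x⁻¹ := eq_inv_of_mul_eq_one_right h2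
      rcases inv_cases h hx with h4 | h4
      · exact hyx (h3.trans h4)
      · exact hyxz (h3.trans h4)
    have hxyz : x * y ≠ z := by
      intro h2
      have h3 : y = x⁻¹ * z := by rw [← h2]; group
      rcases inv_cases h hx with h4 | h4
      · rw [h4] at h3; exact hyxz h3
      · rw [h4, mul_assoc, h.z_sq, mul_one] at h3; exact hyx h3
    obtain ⟨q3, hq3, hc3⟩ := h.exists_nc (Q.mul_mem hx hy) hxy1 hxyz
    rw [h.cm_mul_left hx hy hq3] at hc3
    rcases h.comm_mem x hx q3 hq3 with hx3 | hx3
    · rw [hx3, one_mul] at hc3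
      exact ⟨q3, hq3, hx3, hc3⟩
    · have hy3 : cm y q3 = 1 := by
        rw [hx3] at hc3
        exact mul_eq_left.mp hc3
      refine ⟨q1 * q3, Q.mul_mem hq1 hq3, ?_, ?_⟩
      · rw [h.cm_mul_right hx hq1 hq3, hx1, hx3, h.z_sq]
      · rw [h.cm_mul_right hy hq1 hq3, hc1, hy3, mul_one]

end nc2

section lift

variable {K M : Type*} [Group K] [Group M]

/-- a homomorphism on `HK ≤ K` that kills `T` descends to the image of `HK` in `K ⧸ T` -/
theorem exists_quot_lift (T : Subgroup K) [T.Normal] (HK : Subgroup K) (f : ↥HK →* M)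
    (hf : ∀ x : HK, (x : K) ∈ T → f x = 1) :
    ∃ Θ : ↥(HK.map (QuotientGroup.mk' T)) →* M,
      ∀ (x : HK) (hx : QuotientGroup.mk' T (x : K) ∈ HK.map (QuotientGroup.mk' T)),
        Θ ⟨QuotientGroup.mk' T (x : K), hx⟩ = f x := by
  have hsurj := MonoidHom.subgroupMap_surjective (QuotientGroup.mk' T) HK
  have hker : ((QuotientGroup.mk' T).subgroupMap HK).ker ≤ f.ker := by
    intro x hx
    rw [MonoidHom.mem_ker] at hx ⊢
    apply hf
    have h1 := congrArg Subtype.val hx
    simp only [MonoidHom.subgroupMap_apply_coe, Subgroup.coe_one] at h1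
    exact (QuotientGroup.eq_one_iff _).mp h1
  refine ⟨((QuotientGroup.mk' T).subgroupMap HK).liftOfRightInverse (Function.surjInv hsurj)
    (Function.rightInverse_surjInv hsurj) ⟨f, hker⟩, ?_⟩
  intro x hx
  have h1 := MonoidHom.liftOfRightInverse_comp_apply ((QuotientGroup.mk' T).subgroupMap HK)
    (Function.surjInv hsurj) (Function.rightInverse_surjInv hsurj) ⟨f, hker⟩ x
  have h2 : (⟨QuotientGroup.mk' T (x : K), hx⟩ : ↥(HK.map (QuotientGroup.mk' T))) =
      ((QuotientGroup.mk' T).subgroupMap HK) x := Subtype.ext rfl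
  rw [h2]
  exact h1

end lift

section pull

variable {E G : Type*} [Group E] [Group G]

theorem map_cm (ι : E →* G) (a b : E) : ι (cm a b) = cm (ι a) (ι b) := by
  unfold cm
  simp only [map_mul, map_inv]

/-- pull back of the elementwise data along an injective homomorphism onto `P` -/
theorem data_top_of_injective (ι : E →* G) (hι : Function.Injective ι) (P : Subgroup G)
    (hP : ∀ y : G, y ∈ P ↔ ∃ x : E, ι x = y) (z0 : E) (h : Data P (ι z0)) :
    Data (⊤ : Subgroup E) z0 where
  zQ := Subgroup.mem_top _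
  z_ne := by
    intro h1
    apply h.z_ne
    rw [h1, map_one]
  z_sq := by
    apply hι
    rw [map_mul, map_one]
    exact h.z_sq
  z_comm := by
    intro q _
    apply hι
    rw [map_mul, map_mul]
    exact h.z_comm (ι q) ((hP _).mpr ⟨q, rfl⟩)
  center_sub := by
    intro c _ hc
    have h1 : ι c = 1 ∨ ι c = ι z0 := by
      apply h.center_sub (ι c) ((hP _).mpr ⟨c, rfl⟩)
      intro q hq
      obtain ⟨q', rfl⟩ := (hP q).mp hq
      rw [← map_mul, ← map_mul, hc q' (Subgroup.mem_top _)]
    rcases h1 with h1 | h1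
    · left
      apply hι
      rw [h1, map_one]
    · right
      exact hι h1
  comm_mem := by
    intro a _ b _
    rcases h.comm_mem (ι a) ((hP _).mpr ⟨a, rfl⟩) (ι b) ((hP _).mpr ⟨b, rfl⟩) with h1 | h1
    · left
      apply hι
      rw [map_cm, h1, map_one]
    · right
      apply hι
      rw [map_cm, h1]
  sq_mem := by
    intro a _
    rcases h.sq_mem (ι a) ((hP _).mpr ⟨a, rfl⟩) with h1 | h1
    · left
      apply hι
      rw [map_mul, h1, map_one]
    · right
      apply hι
      rw [map_mul, h1]

end pull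

section cube

variable {C : Type*} [Group C]

/-- if `c` has order dividing three, commutes with `y` and `c q c⁻¹ = q y`, then `y ^ 3 = 1` -/
theorem cube_step {c q y : C} (hc : c ^ 3 = 1) (hcy : c * y = y * c) (hq : c * q * c⁻¹ = q * y) :
    y ^ 3 = 1 := by
  have hcy' : c * y * c⁻¹ = y := by rw [hcy, mul_assoc, mul_inv_cancel, mul_one]
  have e2 : c * (q * y) * c⁻¹ = q * y * y := by
    have : c * (q * y) * c⁻¹ = (c * q * c⁻¹) * (c * y * c⁻¹) := by group
    rw [this, hq, hcy']
  have e3 : c * (q * y * y) * c⁻¹ = q * y * y * y := by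
    have : c * (q * y * y) * c⁻¹ = (c * (q * y) * c⁻¹) * (c * y * c⁻¹) := by group
    rw [this, e2, hcy']
  have hc3 : c * c * c = 1 := by
    rw [← hc, pow_succ, pow_two]
  have hci : c⁻¹ * c⁻¹ * c⁻¹ = 1 := by
    have : c⁻¹ * c⁻¹ * c⁻¹ = (c * c * c)⁻¹ := by group
    rw [this, hc3, inv_one]
  have h4 : c * (c * (c * q * c⁻¹) * c⁻¹) * c⁻¹ = q := by
    have : c * (c * (c * q * c⁻¹) * c⁻¹) * c⁻¹ = (c * c * c) * q * (c⁻¹ * c⁻¹ * c⁻¹) := by group
    rw [this, hc3, hci, one_mul, mul_one]
  rw [hq, e2, e3] at h4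
  have h5 : y ^ 3 = y * y * y := by rw [pow_succ, pow_two]
  rw [h5]
  have h6 : q * (y * y * y) = q := by
    rw [← mul_assoc, ← mul_assoc]; exact h4
  exact mul_eq_left.mp h6

/-- an element with `y ^ 3 = 1` and `y ^ 4 = 1` is trivial -/
theorem eq_one_of_pow_three_four {y : C} (h3 : y ^ 3 = 1) (h4 : y ^ 4 = 1) : y = 1 := by
  have : y ^ 4 = y ^ 3 * y := pow_succ y 3
  rw [h4, h3, one_mul] at this
  exact this.symm

end cube

end Cfsg.Agent.Lib.Helper2.BM
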