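import Cfsg.Agent.Lib.Helper9.MTe
import Cfsg.Agent.Lib.Helper2.BMa

/-!
# Baby Monster type from Monster type, part b: twisting the identification; the commutator form

* `twist`: the identification `(e, ψ)` may be composed with a lattice automorphism.
* `MT.comm_iff`: two elements of `Q` over lattice vectors `v, w` commute iff `16 ∣ dotInt v w`.
-/

set_option autoImplicit false

namespace Cfsg.Agent.Lib.Helper2.BM

open Cfsg Cfsg.Agent.Lib.Helper4.ES2 Cfsg.Agent.Lib.Helper9.MTa Cfsg.Agent.Lib.Helper9.MTb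
  Cfsg.Agent.Lib.Helper9.MTc

variable {G : Type*} [Group G] {z : G}
  {Q : Subgroup (Subgroup.centralizer ({z} : Set G))} [Q.Normal]
  {e : (Subgroup.centralizer ({z} : Set G)) ⧸ Q ≃* Spor.Co1}
  {ψ : leechLattice → Q ⧸ Subgroup.center Q}

/-- the twisted identification of `C ⧸ Q` with `Co1` -/
noncomputable def twE (e : (Subgroup.centralizer ({z} : Set G)) ⧸ Q ≃* Spor.Co1) (g0 : Co0) :
    (Subgroup.centralizer ({z} : Set G)) ⧸ Q ≃* Spor.Co1 :=
  e.trans (MulAut.conj (QuotientGroup.mk g0 : Spor.Co1))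

/-- the twisted map from the lattice -/
def twPsi (ψ : leechLattice → Q ⧸ Subgroup.center Q) (g0 : Co0) :
    leechLattice → Q ⧸ Subgroup.center Q := fun x => ψ (g0⁻¹ • x)

theorem twE_apply (g0 : Co0) (x : (Subgroup.centralizer ({z} : Set G)) ⧸ Q) :
    twE e g0 x = (QuotientGroup.mk g0 : Spor.Co1) * e x * (QuotientGroup.mk g0 : Spor.Co1)⁻¹ := rfl

theorem twist (hψ : IsLeechModTwoIso Q e ψ) (g0 : Co0) :
    IsLeechModTwoIso Q (twE e g0) (twPsi ψ g0) := by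
  refine ⟨?_, ?_, ?_, ?_⟩
  · intro v w
    unfold twPsi
    rw [smul_add' g0⁻¹ v w, hψ.1]
  · intro y
    obtain ⟨v, hv⟩ := hψ.2.1 y
    refine ⟨g0 • v, ?_⟩
    unfold twPsi
    rw [inv_smul_smul, hv]
  · intro v
    unfold twPsi
    rw [hψ.2.2.1]
    constructor
    · rintro ⟨w, hw⟩
      refine ⟨g0 • w, ?_⟩
      rw [← smul_add' g0 w w, ← hw, smul_inv_smul]
    · rintro ⟨w, hw⟩
      refine ⟨g0⁻¹ • w, ?_⟩
      rw [hw, smul_add' g0⁻¹ w w]
  · intro h g hg v q hq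
    unfold twPsi at hq ⊢
    have hg' : (QuotientGroup.mk (g0⁻¹ * g * g0) : Spor.Co1) = e (QuotientGroup.mk h) := by
      rw [twE_apply] at hg
      rw [QuotientGroup.mk_mul, QuotientGroup.mk_mul, hg, QuotientGroup.mk_inv]
      group
    have h1 := hψ.2.2.2 h (g0⁻¹ * g * g0) hg' (g0⁻¹ • v) q hq
    rw [← h1]
    congr 1
    rw [mul_smul, mul_smul, smul_inv_smul]

theorem MT.twist (h : MT z Q e ψ) (g0 : Co0) : MT z Q (twE e g0) (twPsi ψ g0) :=
  ⟨h.hz, h.hF, h.hQ, h.hcard, BM.twist h.hψ g0⟩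

variable [Finite G]

/-- norm of a sum -/
theorem sqNorm_add' (a b : GolayPt → ℤ) : sqNorm (a + b) = sqNorm a + sqNorm b + 2 * dotInt a b := by
  unfold sqNorm dotInt
  rw [Finset.mul_sum, ← Finset.sum_add_distrib, ← Finset.sum_add_distrib]
  apply Finset.sum_congr rfl
  intro i _
  simp only [Pi.add_apply]
  ring

/-- two elements of `Q` over the lattice vectors `v`, `w` commute iff `16 ∣ dotInt v w` -/
theorem MT.comm_iff (h : MT z Q e ψ) (v w : leechLattice) (a b : Q)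
    (ha : ψ v = QuotientGroup.mk a) (hb : ψ w = QuotientGroup.mk b) :
    a * b = b * a ↔ (16 : ℤ) ∣ dotInt (v : GolayPt → ℤ) (w : GolayPt → ℤ) := by
  have hD := h.dataQ
  have hab : ψ (v + w) = QuotientGroup.mk (a * b) := by rw [h.hψ.1, ha, hb]; rfl
  have h1 := sqv_mul hD a b
  rw [← Qf_eq hD _ _ hab, ← Qf_eq hD _ _ ha, ← Qf_eq hD _ _ hb,
    Qf_sqNorm h.hQ h.two_lt hD h.hψ, Qf_sqNorm h.hQ h.two_lt hD h.hψ,
    Qf_sqNorm h.hQ h.two_lt hD h.hψ] at h1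
  have hv16 : (16 : ℤ) ∣ sqNorm (v : GolayPt → ℤ) := Cfsg.Agent.S0392.result _ v.2
  have hw16 : (16 : ℤ) ∣ sqNorm (w : GolayPt → ℤ) := Cfsg.Agent.S0392.result _ w.2
  have hvw16 : (16 : ℤ) ∣ sqNorm ((v + w : leechLattice) : GolayPt → ℤ) :=
    Cfsg.Agent.S0392.result _ (v + w).2
  have hadd : sqNorm ((v + w : leechLattice) : GolayPt → ℤ) =
      sqNorm (v : GolayPt → ℤ) + sqNorm (w : GolayPt → ℤ) +
        2 * dotInt (v : GolayPt → ℤ) (w : GolayPt → ℤ) := by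
    rw [AddSubgroup.coe_add]; exact sqNorm_add' _ _
  obtain ⟨kv, hkv⟩ := hv16
  obtain ⟨kw, hkw⟩ := hw16
  obtain ⟨kvw, hkvw⟩ := hvw16
  rw [hkvw, hkv, hkw] at h1
  rw [Int.mul_ediv_cancel_left _ (by norm_num : (16 : ℤ) ≠ 0),
    Int.mul_ediv_cancel_left _ (by norm_num : (16 : ℤ) ≠ 0),
    Int.mul_ediv_cancel_left _ (by norm_num : (16 : ℤ) ≠ 0)] at h1
  rw [hkvw, hkv, hkw] at hadd
  -- `dotInt v w = 8 * (kvw - kv - kw)`
  have hdot : dotInt (v : GolayPt → ℤ) (w : GolayPt → ℤ) = 8 * (kvw - kv - kw) := by linarith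
  have hiv : iv (cm a b) = ((kvw - kv - kw : ℤ) : ZMod 2) := by
    have h2 : iv (cm a b) = (kvw : ZMod 2) - (kv : ZMod 2) - (kw : ZMod 2) := by
      rw [h1]; ring
    rw [h2]; push_cast; ring
  rw [← cm_eq_one_iff, ← iv_eq_zero_iff, hiv, hdot, ZMod.intCast_zmod_eq_zero_iff_dvd]
  constructor
  · rintro ⟨k, hk⟩
    refine ⟨k, ?_⟩
    push_cast at hk
    omega
  · rintro ⟨k, hk⟩
    refine ⟨k, ?_⟩
    push_cast
    omega

end Cfsg.Agent.Lib.Helper2.BM
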