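import Cfsg.Agent.Lib.Helper9.MTh
import Cfsg.Agent.Lib.Helper2.BMb

/-!
# Baby Monster type from Monster type, part c: the centralizer of a type 2 involution inside `C`

Setting `BMS z Q e ψ t`: Monster type data with `ψ leechU = t Z(Q)`.  The centralizer `H = C_C(t)` maps
onto the stabiliser `St` of `leechU` in `Co0` with kernel `C_Q(t)`.
-/

set_option autoImplicit false

namespace Cfsg.Agent.Lib.Helper2.BM

open Cfsg Cfsg.Agent.Lib.Helper4.ES2 Cfsg.Agent.Lib.Helper9.MTa Cfsg.Agent.Lib.Helper9.MTb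
  Cfsg.Agent.Lib.Helper9.MTc

theorem leechU_norm : sqNorm (Spor.leechU : GolayPt → ℤ) = 32 := by decide +kernel

/-- the stabiliser of `leechU` in the automorphism group of the lattice -/
abbrev St : Subgroup Co0 := MulAction.stabilizer Co0 Spor.leechU

/-- the second Conway group of the definitions is that stabiliser -/
def isoSt : ↥Spor.Co2 ≃* ↥St where
  toFun f := ⟨⟨f.1, (Subgroup.mem_inf.mp f.2).1⟩, by
    rw [MulAction.mem_stabilizer_iff]
    exact MulAction.mem_stabilizer_iff.mp (Subgroup.mem_inf.mp f.2).2⟩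
  invFun g := ⟨g.1.1, Subgroup.mem_inf.mpr ⟨g.1.2, by
    rw [MulAction.mem_stabilizer_iff]
    exact MulAction.mem_stabilizer_iff.mp g.2⟩⟩
  left_inv _ := rfl
  right_inv _ := rfl
  map_mul' _ _ := rfl

theorem isoSt_symm_smul (g : ↥St) (x : leechLattice) :
    ((isoSt.symm g : ↥Spor.Co2) : Equiv.Perm leechLattice) • x = (g : Co0) • x := rfl

theorem St_simple : IsSimpleGroup ↥St := (Cfsg.Agent.S0402.result Spor.leechU leechU_norm).1

theorem St_card : Nat.card ↥St = 42305421312000 :=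
  (Cfsg.Agent.S0402.result Spor.leechU leechU_norm).2

theorem leechU_ne_zero : (Spor.leechU : GolayPt → ℤ) ≠ 0 := by
  intro h0
  have h1 := leechU_norm
  rw [h0] at h1
  simp [sqNorm] at h1

/-- the stabiliser embeds into `Co1` -/
noncomputable def mkS : ↥St →* Spor.Co1 :=
  (QuotientGroup.mk' (Subgroup.center Co0)).comp St.subtype

theorem mkS_injective : Function.Injective mkS := by
  rw [← MonoidHom.ker_eq_bot_iff, eq_bot_iff]
  intro g hg
  have h3 : (g : Co0) ∈ MulAction.stabilizer Co0 Spor.leechU ⊓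
      (QuotientGroup.mk' (Subgroup.center Co0)).ker := ⟨g.2, hg⟩
  rw [stab_inf_center Spor.leechU leechU_ne_zero] at h3
  exact Subtype.ext h3

theorem mkS_range : mkS.range = St.map (QuotientGroup.mk' (Subgroup.center Co0)) := by
  unfold mkS
  rw [MonoidHom.range_comp, Subgroup.range_subtype]

/-- the stabiliser is isomorphic to its image in `Co1` -/
noncomputable def kap : ↥St ≃* ↥(St.map (QuotientGroup.mk' (Subgroup.center Co0))) :=
  (MonoidHom.ofInjective mkS_injective).trans (MulEquiv.subgroupCongr mkS_range)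

theorem kap_coe (s : ↥St) : ((kap s : ↥(St.map (QuotientGroup.mk' (Subgroup.center Co0)))) : Spor.Co1) =
    QuotientGroup.mk (s : Co0) := rfl

variable {G : Type*} [Group G] {z : G}
  {Q : Subgroup (Subgroup.centralizer ({z} : Set G))} [Q.Normal]
  {e : (Subgroup.centralizer ({z} : Set G)) ⧸ Q ≃* Spor.Co1}
  {ψ : leechLattice → Q ⧸ Subgroup.center Q} {t : G}

/-- the setting: Monster type data, and `t ∈ Q` lies over the vector `leechU` -/
structure BMS (z : G) (Q : Subgroup (Subgroup.centralizer ({z} : Set G))) [Q.Normal]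
    (e : (Subgroup.centralizer ({z} : Set G)) ⧸ Q ≃* Spor.Co1)
    (ψ : leechLattice → Q ⧸ Subgroup.center Q) (t : G) : Prop where
  mt : MT z Q e ψ
  htC : t ∈ Subgroup.centralizer ({z} : Set G)
  htQ : (⟨t, htC⟩ : Subgroup.centralizer ({z} : Set G)) ∈ Q
  hψt : ψ Spor.leechU = QuotientGroup.mk (⟨⟨t, htC⟩, htQ⟩ : Q)

namespace BMS

/-- `t` as an element of `C` -/
def tC (S : BMS z Q e ψ t) : Subgroup.centralizer ({z} : Set G) := ⟨t, S.htC⟩

/-- `t` as an element of `Q` -/
def tQ (S : BMS z Q e ψ t) : Q := ⟨⟨t, S.htC⟩, S.htQ⟩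

/-- the centralizer of `t` in `C` -/
def H (S : BMS z Q e ψ t) : Subgroup (Subgroup.centralizer ({z} : Set G)) :=
  Subgroup.centralizer ({S.tC} : Set (Subgroup.centralizer ({z} : Set G)))

theorem mem_H (S : BMS z Q e ψ t) (c : Subgroup.centralizer ({z} : Set G)) :
    c ∈ S.H ↔ (c : G) * t = t * (c : G) := by
  unfold H
  rw [Subgroup.mem_centralizer_singleton_iff]
  constructor
  · intro h1
    have h2 := congrArg Subtype.val h1
    simp only [Subgroup.coe_mul] at h2
    exact h2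
  · intro h1
    apply Subtype.ext
    simp only [Subgroup.coe_mul]
    exact h1

variable [Finite G]

theorem t_nc (S : BMS z Q e ψ t) : S.tC ≠ 1 ∧ S.tC ≠ zC z :=
  S.mt.noncentral Spor.leechU S.tQ S.hψt (by rw [leechU_norm]; norm_num) (by rw [leechU_norm]; norm_num)

theorem t_ne_one (S : BMS z Q e ψ t) : t ≠ 1 := by
  intro h1
  apply S.t_nc.1
  apply Subtype.ext
  exact h1

theorem t_ne_z (S : BMS z Q e ψ t) : t ≠ z := by
  intro h1
  apply S.t_nc.2
  apply Subtype.ext
  exact h1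

theorem t_sq (S : BMS z Q e ψ t) : t * t = 1 := by
  have h1 := (S.mt.sq_iff Spor.leechU S.tQ S.hψt).mpr (by rw [leechU_norm]; decide)
  have h2 := congrArg (fun q : Q => ((q : Subgroup.centralizer ({z} : Set G)) : G)) h1
  exact h2

theorem t_inv (S : BMS z Q e ψ t) : t⁻¹ = t := inv_eq_of_mul_eq_one_right S.t_sq

omit [Finite G] in
theorem t_comm_z (S : BMS z Q e ψ t) : t * z = z * t :=
  Subgroup.mem_centralizer_singleton_iff.mp S.htC

theorem t_not_conj (S : BMS z Q e ψ t) : ¬ IsConj z t := by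
  intro hc
  obtain ⟨g0, hg0⟩ := isConj_iff.mp hc
  have hsC : g0 * z * g0⁻¹ ∈ Subgroup.centralizer ({z} : Set G) := by rw [hg0]; exact S.htC
  have hsQ : (⟨g0 * z * g0⁻¹, hsC⟩ : Subgroup.centralizer ({z} : Set G)) ∈ Q := by
    have : (⟨g0 * z * g0⁻¹, hsC⟩ : Subgroup.centralizer ({z} : Set G)) = ⟨t, S.htC⟩ :=
      Subtype.ext hg0
    rw [this]; exact S.htQ
  apply S.mt.not_type2 g0 hsC hsQ (by rw [hg0]; exact S.t_ne_z) Spor.leechU leechU_norm
  rw [S.hψt]
  congr 1
  apply Subtype.ext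
  apply Subtype.ext
  exact hg0.symm

theorem card_H (S : BMS z Q e ψ t) : Nat.card ↥S.H = 2 ^ 24 * 42305421312000 :=
  S.mt.card_centralizer2 Spor.leechU S.tQ S.hψt leechU_norm

theorem map_H (S : BMS z Q e ψ t) :
    S.H.map (Phi e) = St.map (QuotientGroup.mk' (Subgroup.center Co0)) :=
  S.mt.map_centralizer Spor.leechU S.tQ S.hψt (by rw [leechU_norm]; norm_num)
    (by rw [leechU_norm]; norm_num)

/-- the homomorphism of `H` onto the image of the stabiliser in `Co1` -/
noncomputable def rho (S : BMS z Q e ψ t) :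
    ↥S.H →* ↥(St.map (QuotientGroup.mk' (Subgroup.center Co0))) :=
  ((Phi e).comp S.H.subtype).codRestrict _ (by
    intro c
    rw [← S.map_H]
    exact Subgroup.mem_map_of_mem _ c.2)

/-- the homomorphism of `H = C_C(t)` onto the stabiliser of `leechU` -/
noncomputable def fH (S : BMS z Q e ψ t) : ↥S.H →* ↥St :=
  kap.symm.toMonoidHom.comp S.rho

theorem fH_spec (S : BMS z Q e ψ t) (c : ↥S.H) :
    (QuotientGroup.mk ((S.fH c : ↥St) : Co0) : Spor.Co1) = Phi e (c : Subgroup.centralizer ({z} : Set G)) := by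
  have h1 : kap (S.fH c) = S.rho c := by
    unfold fH
    simp
  have h2 := congrArg Subtype.val h1
  rw [kap_coe] at h2
  rw [h2]
  rfl

theorem fH_eq_one_iff (S : BMS z Q e ψ t) (c : ↥S.H) :
    S.fH c = 1 ↔ (c : Subgroup.centralizer ({z} : Set G)) ∈ Q := by
  have hk : ∀ x : Subgroup.centralizer ({z} : Set G), x ∈ Q ↔ Phi e x = 1 := by
    intro x
    rw [← MonoidHom.mem_ker, Phi_ker]
  rw [hk, ← S.fH_spec c]
  constructor
  · intro h1
    rw [h1]
    exact (QuotientGroup.eq_one_iff _).mpr (Subgroup.one_mem _)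
  · intro h1
    apply mkS_injective
    rw [map_one]
    exact h1

theorem fH_surjective (S : BMS z Q e ψ t) : Function.Surjective S.fH := by
  intro s
  have h1 : (QuotientGroup.mk (s : Co0) : Spor.Co1) ∈
      St.map (QuotientGroup.mk' (Subgroup.center Co0)) := ⟨s.1, s.2, rfl⟩
  rw [← S.map_H] at h1
  obtain ⟨c, hc, hcs⟩ := h1
  refine ⟨⟨c, hc⟩, ?_⟩
  apply mkS_injective
  show (QuotientGroup.mk ((S.fH ⟨c, hc⟩ : ↥St) : Co0) : Spor.Co1) = QuotientGroup.mk (s : Co0)
  rw [S.fH_spec, hcs]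

theorem fH_equivariant (S : BMS z Q e ψ t) (c : ↥S.H) (v : leechLattice) (x : Q)
    (hx : ψ v = QuotientGroup.mk x) :
    ψ (((S.fH c : ↥St) : Co0) • v) = QuotientGroup.mk (⟨c * x * (c : Subgroup.centralizer ({z} : Set G))⁻¹,
      (inferInstance : Q.Normal).conj_mem
      (x : Subgroup.centralizer ({z} : Set G)) x.2 c⟩ : Q) :=
  S.mt.equivariant c _ (S.fH_spec c) v x hx

end BMS

end Cfsg.Agent.Lib.Helper2.BM
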