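import Cfsg.Agent.Lib.Helper2.BMc

/-!
# Baby Monster type from Monster type, part d: the quotient `C_G(t) ⧸ ⟨t⟩`

`K = C_G(t)`, `T = ⟨t⟩`, `z' = z T`.  The centralizer of `z'` in `K ⧸ T` is the image of `C ∩ K`
(`centralizer_z'`), and the homomorphism `C ∩ K → Co2` descends to it (`Theta`); `Q'` is its kernel.
-/

set_option autoImplicit false

namespace Cfsg.Agent.Lib.Helper2.BM

open Cfsg Cfsg.Agent.Lib.Helper4.ES2 Cfsg.Agent.Lib.Helper9.MTa Cfsg.Agent.Lib.Helper9.MTb
  Cfsg.Agent.Lib.Helper9.MTc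

variable {G : Type*} [Group G] {z : G}
  {Q : Subgroup (Subgroup.centralizer ({z} : Set G))} [Q.Normal]
  {e : (Subgroup.centralizer ({z} : Set G)) ⧸ Q ≃* Spor.Co1}
  {ψ : leechLattice → Q ⧸ Subgroup.center Q} {t : G}

namespace BMS

variable [Finite G]

/-- `z` as an element of `K = C_G(t)` -/
def zK (S : BMS z Q e ψ t) : Subgroup.centralizer ({t} : Set G) :=
  ⟨z, Subgroup.mem_centralizer_singleton_iff.mpr S.t_comm_z.symm⟩

theorem mem_T (S : BMS z Q e ψ t) (k : Subgroup.centralizer ({t} : Set G)) :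
    k ∈ (Subgroup.zpowers t).subgroupOf (Subgroup.centralizer ({t} : Set G)) ↔
      (k : G) = 1 ∨ (k : G) = t := by
  rw [Subgroup.mem_subgroupOf, mem_zpowers_inv S.t_sq]

/-- the centralizer of `z` in `K` -/
def HK (S : BMS z Q e ψ t) : Subgroup (Subgroup.centralizer ({t} : Set G)) :=
  Subgroup.centralizer ({S.zK} : Set (Subgroup.centralizer ({t} : Set G)))

theorem mem_HK (S : BMS z Q e ψ t) (k : Subgroup.centralizer ({t} : Set G)) :
    k ∈ S.HK ↔ (k : G) * z = z * (k : G) := by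
  unfold HK
  rw [Subgroup.mem_centralizer_singleton_iff]
  constructor
  · intro h1
    have h2 := congrArg Subtype.val h1
    simp only [Subgroup.coe_mul] at h2
    exact h2
  · intro h1
    apply Subtype.ext
    simp only [Subgroup.coe_mul]
    exact h1

omit [Finite G] in
theorem k_comm_t (k : Subgroup.centralizer ({t} : Set G)) : (k : G) * t = t * (k : G) :=
  Subgroup.mem_centralizer_singleton_iff.mp k.2

/-- `C ∩ K` seen inside `K` is isomorphic to `C ∩ K` seen inside `C` -/
def jH (S : BMS z Q e ψ t) : ↥S.HK ≃* ↥S.H where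
  toFun k := ⟨⟨(k : G), Subgroup.mem_centralizer_singleton_iff.mpr ((S.mem_HK k.1).mp k.2)⟩,
    (S.mem_H _).mpr (k_comm_t k.1)⟩
  invFun c := ⟨⟨(c : G), Subgroup.mem_centralizer_singleton_iff.mpr ((S.mem_H c.1).mp c.2)⟩,
    (S.mem_HK _).mpr (Subgroup.mem_centralizer_singleton_iff.mp c.1.2)⟩
  left_inv _ := rfl
  right_inv _ := rfl
  map_mul' _ _ := rfl

theorem jH_coe (S : BMS z Q e ψ t) (k : ↥S.HK) :
    (((S.jH k : ↥S.H) : Subgroup.centralizer ({z} : Set G)) : G) = (k : G) := rfl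

/-- the homomorphism `C ∩ K → Co2` -/
noncomputable def F (S : BMS z Q e ψ t) : ↥S.HK →* ↥Spor.Co2 :=
  isoSt.symm.toMonoidHom.comp (S.fH.comp S.jH.toMonoidHom)

theorem F_apply (S : BMS z Q e ψ t) (k : ↥S.HK) : S.F k = isoSt.symm (S.fH (S.jH k)) := rfl

theorem F_eq_one_iff (S : BMS z Q e ψ t) (k : ↥S.HK) : S.F k = 1 ↔ (k : G) ∈ QG Q := by
  rw [F_apply, MulEquiv.map_eq_one_iff, S.fH_eq_one_iff, mem_QG]
  constructor
  · intro h1
    exact ⟨_, h1⟩
  · rintro ⟨_, h1⟩
    exact h1

theorem F_surjective (S : BMS z Q e ψ t) : Function.Surjective S.F := by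
  intro g
  obtain ⟨c, hc⟩ := S.fH_surjective (isoSt g)
  refine ⟨S.jH.symm c, ?_⟩
  rw [F_apply, MulEquiv.apply_symm_apply, hc, MulEquiv.symm_apply_apply]

omit [Finite G] in
theorem t_mem_QG (S : BMS z Q e ψ t) : t ∈ QG Q := mem_QG.mpr ⟨S.htC, S.htQ⟩

theorem F_kills (S : BMS z Q e ψ t) (k : ↥S.HK)
    (hk : (k : Subgroup.centralizer ({t} : Set G)) ∈
      (Subgroup.zpowers t).subgroupOf (Subgroup.centralizer ({t} : Set G))) : S.F k = 1 := by
  rw [S.F_eq_one_iff]
  rcases (S.mem_T k.1).mp hk with h1 | h1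
  · rw [h1]; exact Subgroup.one_mem _
  · rw [h1]; exact S.t_mem_QG

variable [hn : ((Subgroup.zpowers t).subgroupOf (Subgroup.centralizer ({t} : Set G))).Normal]

/-- the image of `z` in `K ⧸ T` -/
def z' (S : BMS z Q e ψ t) : ↥(Subgroup.centralizer ({t} : Set G)) ⧸
    (Subgroup.zpowers t).subgroupOf (Subgroup.centralizer ({t} : Set G)) :=
  QuotientGroup.mk S.zK

/-- `t z` is conjugate to `t` -/
theorem tz_conj (S : BMS z Q e ψ t) : IsConj t (t * z) := by
  obtain ⟨y, _, hy⟩ := S.mt.swap S.htQ S.t_nc.1 S.t_nc.2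
  rw [isConj_iff]
  refine ⟨(y : G), ?_⟩
  have := congrArg Subtype.val hy
  exact this

/-- Lemma A: the centralizer of `z T` in `K ⧸ T` is the image of `C ∩ K` -/
theorem centralizer_z' (S : BMS z Q e ψ t) :
    Subgroup.centralizer ({S.z'} : Set (↥(Subgroup.centralizer ({t} : Set G)) ⧸
      (Subgroup.zpowers t).subgroupOf (Subgroup.centralizer ({t} : Set G)))) =
      S.HK.map (QuotientGroup.mk' _) := by
  ext x
  constructor
  · intro hx
    obtain ⟨k, rfl⟩ := QuotientGroup.mk_surjective x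
    refine ⟨k, (S.mem_HK k).mpr ?_, rfl⟩
    rw [Subgroup.mem_centralizer_singleton_iff] at hx
    -- `k z k⁻¹ z⁻¹ ∈ T`
    have h1 : (k * S.zK * k⁻¹ * S.zK⁻¹ : Subgroup.centralizer ({t} : Set G)) ∈
        (Subgroup.zpowers t).subgroupOf (Subgroup.centralizer ({t} : Set G)) := by
      rw [← QuotientGroup.eq_one_iff]
      have h2 : ((k * S.zK * k⁻¹ * S.zK⁻¹ : Subgroup.centralizer ({t} : Set G)) :
          ↥(Subgroup.centralizer ({t} : Set G)) ⧸
          (Subgroup.zpowers t).subgroupOf (Subgroup.centralizer ({t} : Set G))) =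
          (QuotientGroup.mk k) * S.z' * (QuotientGroup.mk k)⁻¹ * S.z'⁻¹ := rfl
      rw [h2, hx]
      group
    rcases (S.mem_T _).mp h1 with h3 | h3
    · have h4 : (k : G) * z * (k : G)⁻¹ * z⁻¹ = 1 := h3
      have h5 : (k : G) * z = z * (k : G) := by
        have : (k : G) * z = ((k : G) * z * (k : G)⁻¹ * z⁻¹) * z * (k : G) := by group
        rw [this, h4, one_mul]
      exact h5
    · exfalso
      have h4 : (k : G) * z * (k : G)⁻¹ * z⁻¹ = t := h3
      have h5 : (k : G) * z * (k : G)⁻¹ = t * z := by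
        have : (k : G) * z * (k : G)⁻¹ = ((k : G) * z * (k : G)⁻¹ * z⁻¹) * z := by group
        rw [this, h4]
      apply S.t_not_conj
      have h6 : IsConj z (t * z) := isConj_iff.mpr ⟨(k : G), h5⟩
      exact h6.trans S.tz_conj.symm
  · rintro ⟨k, hk, rfl⟩
    rw [Subgroup.mem_centralizer_singleton_iff]
    have h1 := (S.mem_HK k).mp hk
    show (QuotientGroup.mk k : ↥(Subgroup.centralizer ({t} : Set G)) ⧸
      (Subgroup.zpowers t).subgroupOf (Subgroup.centralizer ({t} : Set G))) * QuotientGroup.mk S.zK =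
      QuotientGroup.mk S.zK * QuotientGroup.mk k
    rw [← QuotientGroup.mk_mul, ← QuotientGroup.mk_mul]
    congr 1
    apply Subtype.ext
    simp only [Subgroup.coe_mul]
    exact h1

/-- the descended homomorphism on the image of `C ∩ K` -/
noncomputable def Theta0 (S : BMS z Q e ψ t) :
    ↥(S.HK.map (QuotientGroup.mk' ((Subgroup.zpowers t).subgroupOf
      (Subgroup.centralizer ({t} : Set G))))) →* ↥Spor.Co2 :=
  Classical.choose (exists_quot_lift _ S.HK S.F S.F_kills)

theorem Theta0_spec (S : BMS z Q e ψ t) (k : ↥S.HK)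
    (hk : QuotientGroup.mk' ((Subgroup.zpowers t).subgroupOf
      (Subgroup.centralizer ({t} : Set G))) (k : Subgroup.centralizer ({t} : Set G)) ∈
      S.HK.map (QuotientGroup.mk' _)) :
    S.Theta0 ⟨_, hk⟩ = S.F k :=
  Classical.choose_spec (exists_quot_lift _ S.HK S.F S.F_kills) k hk

/-- the homomorphism `C_{K/T}(z T) → Co2` -/
noncomputable def Theta (S : BMS z Q e ψ t) :
    ↥(Subgroup.centralizer ({S.z'} : Set (↥(Subgroup.centralizer ({t} : Set G)) ⧸
      (Subgroup.zpowers t).subgroupOf (Subgroup.centralizer ({t} : Set G))))) →* ↥Spor.Co2 :=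
  S.Theta0.comp (MulEquiv.subgroupCongr S.centralizer_z').toMonoidHom

theorem Theta_spec (S : BMS z Q e ψ t) (k : ↥S.HK)
    (hk : (QuotientGroup.mk (k : Subgroup.centralizer ({t} : Set G)) :
      ↥(Subgroup.centralizer ({t} : Set G)) ⧸
      (Subgroup.zpowers t).subgroupOf (Subgroup.centralizer ({t} : Set G))) ∈
      Subgroup.centralizer ({S.z'} : Set (↥(Subgroup.centralizer ({t} : Set G)) ⧸
      (Subgroup.zpowers t).subgroupOf (Subgroup.centralizer ({t} : Set G))))) :
    S.Theta ⟨_, hk⟩ = S.F k := by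
  have hk' : QuotientGroup.mk' ((Subgroup.zpowers t).subgroupOf
      (Subgroup.centralizer ({t} : Set G))) (k : Subgroup.centralizer ({t} : Set G)) ∈
      S.HK.map (QuotientGroup.mk' _) := by
    rw [← S.centralizer_z']; exact hk
  rw [← S.Theta0_spec k hk']
  rfl

/-- every element of the centralizer of `z T` comes from `C ∩ K` -/
theorem exists_rep (S : BMS z Q e ψ t)
    (x : ↥(Subgroup.centralizer ({S.z'} : Set (↥(Subgroup.centralizer ({t} : Set G)) ⧸
      (Subgroup.zpowers t).subgroupOf (Subgroup.centralizer ({t} : Set G)))))) :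
    ∃ (k : ↥S.HK) (hk : (QuotientGroup.mk (k : Subgroup.centralizer ({t} : Set G)) :
      ↥(Subgroup.centralizer ({t} : Set G)) ⧸
      (Subgroup.zpowers t).subgroupOf (Subgroup.centralizer ({t} : Set G))) ∈
      Subgroup.centralizer ({S.z'} : Set (↥(Subgroup.centralizer ({t} : Set G)) ⧸
      (Subgroup.zpowers t).subgroupOf (Subgroup.centralizer ({t} : Set G))))), x = ⟨_, hk⟩ := by
  have h1 : (x : ↥(Subgroup.centralizer ({t} : Set G)) ⧸
      (Subgroup.zpowers t).subgroupOf (Subgroup.centralizer ({t} : Set G))) ∈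
      S.HK.map (QuotientGroup.mk' _) := by
    rw [← S.centralizer_z']; exact x.2
  obtain ⟨k, hk, hkx⟩ := h1
  have hk' : (QuotientGroup.mk (k : Subgroup.centralizer ({t} : Set G)) :
      ↥(Subgroup.centralizer ({t} : Set G)) ⧸
      (Subgroup.zpowers t).subgroupOf (Subgroup.centralizer ({t} : Set G))) ∈
      Subgroup.centralizer ({S.z'} : Set (↥(Subgroup.centralizer ({t} : Set G)) ⧸
      (Subgroup.zpowers t).subgroupOf (Subgroup.centralizer ({t} : Set G)))) := by
    have : (QuotientGroup.mk (k : Subgroup.centralizer ({t} : Set G)) :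
      ↥(Subgroup.centralizer ({t} : Set G)) ⧸
      (Subgroup.zpowers t).subgroupOf (Subgroup.centralizer ({t} : Set G))) = x.1 := hkx
    rw [this]; exact x.2
  exact ⟨⟨k, hk⟩, hk', Subtype.ext hkx.symm⟩

theorem Theta_surjective (S : BMS z Q e ψ t) : Function.Surjective S.Theta := by
  intro g
  obtain ⟨k, hk⟩ := S.F_surjective g
  have hk' : (QuotientGroup.mk (k : Subgroup.centralizer ({t} : Set G)) :
      ↥(Subgroup.centralizer ({t} : Set G)) ⧸
      (Subgroup.zpowers t).subgroupOf (Subgroup.centralizer ({t} : Set G))) ∈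
      Subgroup.centralizer ({S.z'} : Set (↥(Subgroup.centralizer ({t} : Set G)) ⧸
      (Subgroup.zpowers t).subgroupOf (Subgroup.centralizer ({t} : Set G)))) := by
    rw [S.centralizer_z']
    exact ⟨k.1, k.2, rfl⟩
  exact ⟨⟨_, hk'⟩, by rw [S.Theta_spec k hk', hk]⟩

/-- the extraspecial normal subgroup of the centralizer of `z T` -/
noncomputable def Q' (S : BMS z Q e ψ t) :
    Subgroup ↥(Subgroup.centralizer ({S.z'} : Set (↥(Subgroup.centralizer ({t} : Set G)) ⧸
      (Subgroup.zpowers t).subgroupOf (Subgroup.centralizer ({t} : Set G))))) :=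
  S.Theta.ker

instance Q'_normal (S : BMS z Q e ψ t) : S.Q'.Normal := by
  unfold Q'; infer_instance

theorem mem_Q' (S : BMS z Q e ψ t) (k : ↥S.HK)
    (hk : (QuotientGroup.mk (k : Subgroup.centralizer ({t} : Set G)) :
      ↥(Subgroup.centralizer ({t} : Set G)) ⧸
      (Subgroup.zpowers t).subgroupOf (Subgroup.centralizer ({t} : Set G))) ∈
      Subgroup.centralizer ({S.z'} : Set (↥(Subgroup.centralizer ({t} : Set G)) ⧸
      (Subgroup.zpowers t).subgroupOf (Subgroup.centralizer ({t} : Set G))))) :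
    (⟨_, hk⟩ : ↥(Subgroup.centralizer ({S.z'} : Set (↥(Subgroup.centralizer ({t} : Set G)) ⧸
      (Subgroup.zpowers t).subgroupOf (Subgroup.centralizer ({t} : Set G)))))) ∈ S.Q' ↔
      (k : G) ∈ QG Q := by
  unfold Q'
  rw [MonoidHom.mem_ker, S.Theta_spec k hk, S.F_eq_one_iff]

/-- the identification of the quotient with the second Conway group -/
noncomputable def e' (S : BMS z Q e ψ t) :
    ↥(Subgroup.centralizer ({S.z'} : Set (↥(Subgroup.centralizer ({t} : Set G)) ⧸
      (Subgroup.zpowers t).subgroupOf (Subgroup.centralizer ({t} : Set G))))) ⧸ S.Q' ≃* ↥Spor.Co2 :=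
  QuotientGroup.quotientKerEquivOfSurjective S.Theta S.Theta_surjective

theorem e'_mk (S : BMS z Q e ψ t)
    (x : ↥(Subgroup.centralizer ({S.z'} : Set (↥(Subgroup.centralizer ({t} : Set G)) ⧸
      (Subgroup.zpowers t).subgroupOf (Subgroup.centralizer ({t} : Set G)))))) :
    S.e' (QuotientGroup.mk x) = S.Theta x := rfl

end BMS

end Cfsg.Agent.Lib.Helper2.BM
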