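import Cfsg.Agent.Lib.Helper2.BMd

/-!
# Baby Monster type from Monster type, part e: the subgroup `Q'`

`R0 = C_Q(t)` (inside `G`) maps onto `Q'` with kernel `⟨t⟩` (`pQ`); `Q'` has order `2 ^ 23`, is
extraspecial with centre generated by `z T`.
-/

set_option autoImplicit false

namespace Cfsg.Agent.Lib.Helper2.BM

open Cfsg Cfsg.Agent.Lib.Helper4.ES2 Cfsg.Agent.Lib.Helper9.MTa Cfsg.Agent.Lib.Helper9.MTb
  Cfsg.Agent.Lib.Helper9.MTc

variable {G : Type*} [Group G] {z : G}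
  {Q : Subgroup (Subgroup.centralizer ({z} : Set G))} [Q.Normal]
  {e : (Subgroup.centralizer ({z} : Set G)) ⧸ Q ≃* Spor.Co1}
  {ψ : leechLattice → Q ⧸ Subgroup.center Q} {t : G}

namespace BMS

variable [Finite G]

/-- `C_Q(t)` as a subgroup of `G` -/
def R0 (_S : BMS z Q e ψ t) : Subgroup G := QG Q ⊓ Subgroup.centralizer ({t} : Set G)

omit [Finite G] in
theorem mem_R0 (S : BMS z Q e ψ t) (q : G) : q ∈ S.R0 ↔ q ∈ QG Q ∧ q * t = t * q := by
  unfold R0
  rw [Subgroup.mem_inf, Subgroup.mem_centralizer_singleton_iff]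

theorem z_mem_R0 (S : BMS z Q e ψ t) : z ∈ S.R0 :=
  (S.mem_R0 z).mpr ⟨S.mt.dataG.zQ, S.t_comm_z.symm⟩

theorem t_mem_R0 (S : BMS z Q e ψ t) : t ∈ S.R0 := (S.mem_R0 t).mpr ⟨S.t_mem_QG, rfl⟩

/-- double centralizer: the centre of `C_Q(t)` is `⟨z, t⟩` -/
theorem dc (S : BMS z Q e ψ t) (c : G) (hc : c ∈ QG Q)
    (hcomm : ∀ q ∈ S.R0, q * c = c * q) : c = 1 ∨ c = z ∨ c = t ∨ c = t * z := by
  by_contra hcon
  push Not at hcon
  obtain ⟨h1, h2, h3, h4⟩ := hcon
  have hD := S.mt.dataG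
  obtain ⟨q, hq, hq1, hq2⟩ := exists_nc2 hD S.t_mem_QG hc h1 h2 h3 h4
  have hqt : q * t = t * q := (cm_eq_one_iff.mp hq1).symm
  have h5 := hcomm q ((S.mem_R0 q).mpr ⟨hq, hqt⟩)
  have h6 : cm c q = 1 := cm_eq_one_iff.mpr h5.symm
  rw [h6] at hq2
  exact hD.z_ne hq2.symm

/-- `C_Q(t)` has `2 ^ 24` elements -/
theorem card_R0 (S : BMS z Q e ψ t) : Nat.card ↥S.R0 = 2 ^ 24 := by
  have h1 := S.mt.card_centralizer_Q S.htQ S.t_nc.1 S.t_nc.2
  rw [← h1]
  have h2 : S.R0 = (Q ⊓ Subgroup.centralizer ({(⟨t, S.htC⟩ : Subgroup.centralizer ({z} : Set G))} :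
      Set (Subgroup.centralizer ({z} : Set G)))).map (Subgroup.centralizer ({z} : Set G)).subtype := by
    ext q
    rw [S.mem_R0, mem_QG]
    constructor
    · rintro ⟨⟨hqC, hqQ⟩, hqt⟩
      refine ⟨⟨q, hqC⟩, ⟨hqQ, ?_⟩, rfl⟩
      show (⟨q, hqC⟩ : Subgroup.centralizer ({z} : Set G)) ∈
        Subgroup.centralizer ({(⟨t, S.htC⟩ : Subgroup.centralizer ({z} : Set G))} :
          Set (Subgroup.centralizer ({z} : Set G)))
      rw [Subgroup.mem_centralizer_singleton_iff]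
      apply Subtype.ext
      simp only [Subgroup.coe_mul]
      exact hqt
    · rintro ⟨c, ⟨hcQ, hct⟩, rfl⟩
      have hct' : c ∈ Subgroup.centralizer ({(⟨t, S.htC⟩ : Subgroup.centralizer ({z} : Set G))} :
          Set (Subgroup.centralizer ({z} : Set G))) := hct
      rw [Subgroup.mem_centralizer_singleton_iff] at hct'
      refine ⟨⟨c.2, hcQ⟩, ?_⟩
      have := congrArg Subtype.val hct'
      simp only [Subgroup.coe_mul] at this
      exact this
  rw [h2]
  exact Subgroup.card_map_of_injective (Subgroup.subtype_injective _)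

/-- a non-commuting pair in `C_Q(t)` -/
theorem exists_pair_R0 (S : BMS z Q e ψ t) : ∃ a ∈ S.R0, ∃ b ∈ S.R0, cm a b = z := by
  have hD := S.mt.dataG
  -- an element outside `{1, z, t, t z}`
  have hex : ∃ y ∈ S.R0, y ≠ 1 ∧ y ≠ z ∧ y ≠ t ∧ y ≠ t * z := by
    by_contra hcon
    push Not at hcon
    have hsub : (S.R0 : Set G) ⊆ ({1, z, t, t * z} : Set G) := by
      intro y hy
      by_cases h1 : y = 1
      · rw [h1]; simp
      by_cases h2 : y = z
      · rw [h2]; simp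
      by_cases h3 : y = t
      · rw [h3]; simp
      have h4 := hcon y hy h1 h2 h3
      rw [h4]; simp
    have hfin : ({1, z, t, t * z} : Set G).Finite := Set.toFinite _
    have h5 := Set.ncard_le_ncard hsub hfin
    have h6 : ({1, z, t, t * z} : Set G).ncard ≤ 4 := by
      refine (Set.ncard_insert_le _ _).trans ?_
      have : ({z, t, t * z} : Set G).ncard ≤ 3 := by
        refine (Set.ncard_insert_le _ _).trans ?_
        have : ({t, t * z} : Set G).ncard ≤ 2 := by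
          refine (Set.ncard_insert_le _ _).trans ?_
          rw [Set.ncard_singleton]
        omega
      omega
    have h7 : (S.R0 : Set G).ncard = Nat.card ↥S.R0 := (Nat.card_coe_set_eq _).symm
    rw [h7, S.card_R0] at h5
    omega
  obtain ⟨y, hy, h1, h2, h3, h4⟩ := hex
  obtain ⟨q, hq, hq1, hq2⟩ := exists_nc2 hD S.t_mem_QG ((S.mem_R0 y).mp hy).1 h1 h2 h3 h4
  have hqt : q * t = t * q := (cm_eq_one_iff.mp hq1).symm
  exact ⟨y, hy, q, (S.mem_R0 q).mpr ⟨hq, hqt⟩, hq2⟩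

variable [hn : ((Subgroup.zpowers t).subgroupOf (Subgroup.centralizer ({t} : Set G))).Normal]

/-- an element of `C_Q(t)` as an element of `C ∩ K ≤ K` -/
def rHK (S : BMS z Q e ψ t) (r : ↥S.R0) : ↥S.HK :=
  ⟨⟨(r : G), Subgroup.mem_centralizer_singleton_iff.mpr ((S.mem_R0 r).mp r.2).2⟩, by
    rw [S.mem_HK]
    exact Subgroup.mem_centralizer_singleton_iff.mp (QG_le ((S.mem_R0 r).mp r.2).1)⟩

theorem rHK_mem (S : BMS z Q e ψ t) (r : ↥S.R0) :
    (QuotientGroup.mk ((S.rHK r : ↥S.HK) : Subgroup.centralizer ({t} : Set G)) :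
      ↥(Subgroup.centralizer ({t} : Set G)) ⧸
      (Subgroup.zpowers t).subgroupOf (Subgroup.centralizer ({t} : Set G))) ∈
      Subgroup.centralizer ({S.z'} : Set (↥(Subgroup.centralizer ({t} : Set G)) ⧸
      (Subgroup.zpowers t).subgroupOf (Subgroup.centralizer ({t} : Set G)))) := by
  rw [S.centralizer_z']
  exact ⟨_, (S.rHK r).2, rfl⟩

/-- the projection of `C_Q(t)` onto `Q'` -/
noncomputable def pQ (S : BMS z Q e ψ t) : ↥S.R0 →* ↥S.Q' where
  toFun r := ⟨⟨_, S.rHK_mem r⟩, (S.mem_Q' (S.rHK r) (S.rHK_mem r)).mpr ((S.mem_R0 r).mp r.2).1⟩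
  map_one' := rfl
  map_mul' _ _ := rfl

theorem pQ_coe (S : BMS z Q e ψ t) (r : ↥S.R0) :
    (((S.pQ r : ↥S.Q') : ↥(Subgroup.centralizer ({S.z'} : Set (↥(Subgroup.centralizer ({t} : Set G)) ⧸
      (Subgroup.zpowers t).subgroupOf (Subgroup.centralizer ({t} : Set G)))))) :
      ↥(Subgroup.centralizer ({t} : Set G)) ⧸
      (Subgroup.zpowers t).subgroupOf (Subgroup.centralizer ({t} : Set G))) =
      QuotientGroup.mk ((S.rHK r : ↥S.HK) : Subgroup.centralizer ({t} : Set G)) := rfl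

theorem pQ_surjective (S : BMS z Q e ψ t) : Function.Surjective S.pQ := by
  intro x
  obtain ⟨k, hk, hx⟩ := S.exists_rep x.1
  have h1 : (k : G) ∈ QG Q := by
    rw [← S.mem_Q' k hk, ← hx]
    exact x.2
  refine ⟨⟨(k : G), (S.mem_R0 _).mpr ⟨h1, k_comm_t k.1⟩⟩, ?_⟩
  apply Subtype.ext
  rw [hx]
  rfl

theorem pQ_eq_one_iff (S : BMS z Q e ψ t) (r : ↥S.R0) :
    S.pQ r = 1 ↔ (r : G) = 1 ∨ (r : G) = t := by
  constructor
  · intro h1
    have h2 : (QuotientGroup.mk ((S.rHK r : ↥S.HK) : Subgroup.centralizer ({t} : Set G)) :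
        ↥(Subgroup.centralizer ({t} : Set G)) ⧸
        (Subgroup.zpowers t).subgroupOf (Subgroup.centralizer ({t} : Set G))) = 1 := by
      rw [← S.pQ_coe r, h1]; rfl
    rw [QuotientGroup.eq_one_iff, S.mem_T] at h2
    exact h2
  · intro h1
    apply Subtype.ext
    apply Subtype.ext
    rw [S.pQ_coe]
    show (QuotientGroup.mk ((S.rHK r : ↥S.HK) : Subgroup.centralizer ({t} : Set G)) :
        ↥(Subgroup.centralizer ({t} : Set G)) ⧸
        (Subgroup.zpowers t).subgroupOf (Subgroup.centralizer ({t} : Set G))) = 1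
    rw [QuotientGroup.eq_one_iff, S.mem_T]
    exact h1

/-- `z` as an element of `C_Q(t)` -/
def zR (S : BMS z Q e ψ t) : ↥S.R0 := ⟨z, S.z_mem_R0⟩

/-- `t` as an element of `C_Q(t)` -/
def tR (S : BMS z Q e ψ t) : ↥S.R0 := ⟨t, S.t_mem_R0⟩

theorem pQ_eq_iff (S : BMS z Q e ψ t) (r r' : ↥S.R0) :
    S.pQ r = S.pQ r' ↔ r = r' ∨ r = r' * S.tR := by
  have h1 : S.pQ r = S.pQ r' ↔ S.pQ (r'⁻¹ * r) = 1 := by
    rw [map_mul, map_inv, inv_mul_eq_one]
    exact eq_comm
  rw [h1, S.pQ_eq_one_iff]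
  constructor
  · rintro (h2 | h2)
    · left
      have : r'⁻¹ * r = 1 := Subtype.ext h2
      exact (inv_mul_eq_one.mp this).symm
    · right
      have : r'⁻¹ * r = S.tR := Subtype.ext h2
      rw [← this]; group
  · rintro (h2 | h2)
    · left; rw [h2]; simp
    · right; rw [h2]; simp [tR]

/-- the central involution of `Q'` -/
noncomputable def z'' (S : BMS z Q e ψ t) : ↥S.Q' := S.pQ S.zR

theorem z''_coe (S : BMS z Q e ψ t) :
    (((S.z'' : ↥S.Q') : ↥(Subgroup.centralizer ({S.z'} : Set (↥(Subgroup.centralizer ({t} : Set G)) ⧸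
      (Subgroup.zpowers t).subgroupOf (Subgroup.centralizer ({t} : Set G)))))) :
      ↥(Subgroup.centralizer ({t} : Set G)) ⧸
      (Subgroup.zpowers t).subgroupOf (Subgroup.centralizer ({t} : Set G))) = S.z' := rfl

/-- data of `C_Q(t)` as a group -/
theorem cm_R0 (S : BMS z Q e ψ t) (a b : ↥S.R0) : cm a b = 1 ∨ cm a b = S.zR := by
  have hD := S.mt.dataG
  rcases hD.comm_mem a ((S.mem_R0 a).mp a.2).1 b ((S.mem_R0 b).mp b.2).1 with h1 | h1
  · left; apply Subtype.ext; simpa [cm] using h1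
  · right; apply Subtype.ext; simpa [cm, zR] using h1

theorem sq_R0 (S : BMS z Q e ψ t) (a : ↥S.R0) : a * a = 1 ∨ a * a = S.zR := by
  have hD := S.mt.dataG
  rcases hD.sq_mem a ((S.mem_R0 a).mp a.2).1 with h1 | h1
  · left; apply Subtype.ext; simpa using h1
  · right; apply Subtype.ext; simpa [zR] using h1

theorem pQ_zR_ne (S : BMS z Q e ψ t) : S.pQ S.zR ≠ 1 := by
  intro h1
  rcases (S.pQ_eq_one_iff _).mp h1 with h2 | h2
  · exact S.mt.dataG.z_ne h2
  · exact S.t_ne_z h2.symm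

/-- the elementwise data of the group `Q'` -/
theorem dataQ' (S : BMS z Q e ψ t) : Data (⊤ : Subgroup ↥S.Q') S.z'' := by
  have hD := S.mt.dataG
  refine ⟨Subgroup.mem_top _, S.pQ_zR_ne, ?_, ?_, ?_, ?_, ?_⟩
  · unfold z''
    rw [← map_mul]
    have : S.zR * S.zR = 1 := Subtype.ext hD.z_sq
    rw [this, map_one]
  · intro q _
    obtain ⟨r, rfl⟩ := S.pQ_surjective q
    unfold z''
    rw [← map_mul, ← map_mul]
    congr 1
    apply Subtype.ext
    exact hD.z_comm r ((S.mem_R0 r).mp r.2).1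
  · intro c _ hc
    obtain ⟨r, rfl⟩ := S.pQ_surjective c
    -- `r` commutes with all of `C_Q(t)`
    have h1 : ∀ q ∈ S.R0, q * (r : G) = (r : G) * q := by
      intro q hq
      have h2 := hc (S.pQ ⟨q, hq⟩) (Subgroup.mem_top _)
      rw [← map_mul, ← map_mul, S.pQ_eq_iff] at h2
      rcases h2 with h2 | h2
      · exact congrArg Subtype.val h2
      · exfalso
        -- the commutator would be `t`
        have h3 : (q * (r : G)) = (r : G) * q * t := congrArg Subtype.val h2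
        have hqt := ((S.mem_R0 q).mp hq).2
        have hrt := ((S.mem_R0 r).mp r.2).2
        have h3' : q * (r : G) = t * ((r : G) * q) := by
          rw [h3, mul_assoc, hqt, ← mul_assoc, hrt, mul_assoc]
        have h4 : cm q (r : G) = t := by
          unfold cm
          rw [h3']; group
        rcases hD.comm_mem q ((S.mem_R0 q).mp hq).1 r ((S.mem_R0 r).mp r.2).1 with h5 | h5
        · rw [h5] at h4; exact S.t_ne_one h4.symm
        · rw [h5] at h4; exact S.t_ne_z h4.symm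
    rcases S.dc r ((S.mem_R0 r).mp r.2).1 h1 with h2 | h2 | h2 | h2
    · left
      have : r = 1 := Subtype.ext h2
      rw [this, map_one]
    · right
      have : r = S.zR := Subtype.ext h2
      rw [this]; rfl
    · left
      rw [S.pQ_eq_one_iff]
      right; exact h2
    · right
      unfold z''
      rw [S.pQ_eq_iff]
      right
      apply Subtype.ext
      rw [h2]
      exact S.t_comm_z
  · intro a _ b _
    obtain ⟨r, rfl⟩ := S.pQ_surjective a
    obtain ⟨r', rfl⟩ := S.pQ_surjective b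
    rw [← map_cm]
    rcases S.cm_R0 r r' with h1 | h1
    · left; rw [h1, map_one]
    · right; rw [h1]; rfl
  · intro a _
    obtain ⟨r, rfl⟩ := S.pQ_surjective a
    rw [← map_mul]
    rcases S.sq_R0 r with h1 | h1
    · left; rw [h1, map_one]
    · right; rw [h1]; rfl

theorem extraspecial_Q' (S : BMS z Q e ψ t) : IsExtraspecial 2 ↥S.Q' := by
  apply extraspecial_of_data_top S.dataQ'
  obtain ⟨a, ha, b, hb, hab⟩ := S.exists_pair_R0
  refine ⟨S.pQ ⟨a, ha⟩, S.pQ ⟨b, hb⟩, ?_⟩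
  rw [← map_cm]
  unfold z''
  congr 1
  apply Subtype.ext
  simpa [cm, zR] using hab

theorem mem_center_Q' (S : BMS z Q e ψ t) (c : ↥S.Q') :
    c ∈ Subgroup.center ↥S.Q' ↔ c = 1 ∨ c = S.z'' :=
  Cfsg.Agent.Lib.Helper9.MTa.mem_center_iff S.dataQ' c

end BMS

end Cfsg.Agent.Lib.Helper2.BM
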