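import Cfsg.Agent.Lib.Helper2.BMe

/-!
# Baby Monster type from Monster type, part f: the order of `Q'` and the map `ψ'`
-/

set_option autoImplicit false

namespace Cfsg.Agent.Lib.Helper2.BM

open Cfsg Cfsg.Agent.Lib.Helper4.ES2 Cfsg.Agent.Lib.Helper9.MTa Cfsg.Agent.Lib.Helper9.MTb
  Cfsg.Agent.Lib.Helper9.MTc

variable {G : Type*} [Group G] {z : G}
  {Q : Subgroup (Subgroup.centralizer ({z} : Set G))} [Q.Normal]
  {e : (Subgroup.centralizer ({z} : Set G)) ⧸ Q ≃* Spor.Co1}
  {ψ : leechLattice → Q ⧸ Subgroup.center Q} {t : G}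

namespace BMS

variable [Finite G]
  [hn : ((Subgroup.zpowers t).subgroupOf (Subgroup.centralizer ({t} : Set G))).Normal]

omit [Finite G] hn in
theorem hψt' (S : BMS z Q e ψ t) : ψ Spor.leechU = QuotientGroup.mk S.tQ := S.hψt

theorem tR_sq (S : BMS z Q e ψ t) : S.tR * S.tR = 1 := Subtype.ext S.t_sq

theorem tR_ne_one (S : BMS z Q e ψ t) : S.tR ≠ 1 := by
  intro h1
  exact S.t_ne_one (congrArg Subtype.val h1)

theorem ker_pQ (S : BMS z Q e ψ t) : S.pQ.ker = Subgroup.zpowers S.tR := by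
  ext r
  rw [MonoidHom.mem_ker, S.pQ_eq_one_iff, mem_zpowers_inv S.tR_sq]
  constructor
  · rintro (h1 | h1)
    · left; exact Subtype.ext h1
    · right; exact Subtype.ext h1
  · rintro (h1 | h1)
    · left; rw [h1]; rfl
    · right; rw [h1]; rfl

theorem card_Q' (S : BMS z Q e ψ t) : Nat.card ↥S.Q' = 2 ^ 23 := by
  have h1 := Subgroup.card_eq_card_quotient_mul_card_subgroup S.pQ.ker
  have h2 : Nat.card (↥S.R0 ⧸ S.pQ.ker) = Nat.card ↥S.Q' :=
    Nat.card_congr (QuotientGroup.quotientKerEquivOfSurjective S.pQ S.pQ_surjective).toEquiv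
  have h3 : Nat.card ↥S.pQ.ker = 2 := by
    rw [S.ker_pQ, Nat.card_zpowers]
    haveI : Fact (Nat.Prime 2) := ⟨Nat.prime_two⟩
    apply orderOf_eq_prime
    · rw [pow_two]; exact S.tR_sq
    · exact S.tR_ne_one
  rw [h2, h3, S.card_R0] at h1
  omega

theorem isPGroup_Q' (S : BMS z Q e ψ t) : IsPGroup 2 ↥S.Q' := IsPGroup.of_card S.card_Q'

/-! ### the map `ψ'` -/

/-- an element of `Q` commuting with `t`, as an element of `C_Q(t) ≤ G` -/
def liftR (S : BMS z Q e ψ t) (q : Q) (hq : q * S.tQ = S.tQ * q) : ↥S.R0 :=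
  ⟨((q : Subgroup.centralizer ({z} : Set G)) : G), by
    rw [S.mem_R0]
    refine ⟨mem_QG.mpr ⟨q.1.2, q.2⟩, ?_⟩
    have := congrArg (fun x : Q => ((x : Subgroup.centralizer ({z} : Set G)) : G)) hq
    exact this⟩

theorem liftR_coe (S : BMS z Q e ψ t) (q : Q) (hq : q * S.tQ = S.tQ * q) :
    ((S.liftR q hq : ↥S.R0) : G) = ((q : Subgroup.centralizer ({z} : Set G)) : G) := rfl

/-- an element of `Q` over a vector of `leechPerpU` commutes with `t` -/
theorem comm_of_perp (S : BMS z Q e ψ t) (x : leechPerpU) (q : Q)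
    (hq : ψ (x : leechLattice) = QuotientGroup.mk q) : q * S.tQ = S.tQ * q := by
  rw [Cfsg.Agent.Lib.Helper2.BM.MT.comm_iff S.mt (x : leechLattice) Spor.leechU q S.tQ hq S.hψt']
  exact x.2

/-- the vector under an element of `Q` commuting with `t` lies in `leechPerpU` -/
theorem perp_of_comm (S : BMS z Q e ψ t) (v : leechLattice) (q : Q)
    (hq : ψ v = QuotientGroup.mk q) (hqt : q * S.tQ = S.tQ * q) : v ∈ leechPerpU :=
  (Cfsg.Agent.Lib.Helper2.BM.MT.comm_iff S.mt v Spor.leechU q S.tQ hq S.hψt').mp hqt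

open Classical in
/-- auxiliary map on `Q` -/
noncomputable def qmap (S : BMS z Q e ψ t) (q : Q) : ↥S.Q' ⧸ Subgroup.center ↥S.Q' :=
  if hq : q * S.tQ = S.tQ * q then QuotientGroup.mk (S.pQ (S.liftR q hq)) else 1

/-- the module isomorphism `ψ'` -/
noncomputable def psi' (S : BMS z Q e ψ t) (x : leechPerpU) : ↥S.Q' ⧸ Subgroup.center ↥S.Q' :=
  S.qmap (Quotient.out (ψ (x : leechLattice)))

theorem qmap_eq (S : BMS z Q e ψ t) (q : Q) (hq : q * S.tQ = S.tQ * q) :
    S.qmap q = QuotientGroup.mk (S.pQ (S.liftR q hq)) := by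
  unfold qmap
  rw [dif_pos hq]

theorem z''_mem_center (S : BMS z Q e ψ t) : S.z'' ∈ Subgroup.center ↥S.Q' :=
  (S.mem_center_Q' _).mpr (Or.inr rfl)

/-- `qmap` only depends on the class modulo the centre of `Q` -/
theorem qmap_congr (S : BMS z Q e ψ t) (q q' : Q) (hq : q * S.tQ = S.tQ * q)
    (hqq : (QuotientGroup.mk q : Q ⧸ Subgroup.center Q) = QuotientGroup.mk q') :
    S.qmap q = S.qmap q' := by
  have hD := S.mt.dataQ
  have h1 : q⁻¹ * q' ∈ Subgroup.center Q := QuotientGroup.eq.mp hqq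
  rcases (Cfsg.Agent.Lib.Helper9.MTa.mem_center_iff hD _).mp h1 with h2 | h2
  · have : q' = q := by rw [← mul_one q, ← h2]; group
    rw [this]
  · have h3 : q' = q * ⟨zC z, S.mt.zC_mem⟩ := by rw [← h2]; group
    have hq' : q' * S.tQ = S.tQ * q' := by
      rw [h3, mul_assoc, hD.z_comm S.tQ (Subgroup.mem_top _) |>.symm, ← mul_assoc, hq, mul_assoc]
    rw [S.qmap_eq q hq, S.qmap_eq q' hq']
    have h4 : S.liftR q' hq' = S.liftR q hq * S.zR := by
      apply Subtype.ext
      have := congrArg (fun x : Q => ((x : Subgroup.centralizer ({z} : Set G)) : G)) h3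
      exact this
    rw [h4, map_mul]
    apply QuotientGroup.eq.mpr
    have : (S.pQ (S.liftR q hq))⁻¹ * (S.pQ (S.liftR q hq) * S.pQ S.zR) = S.z'' := by
      unfold z''; group
    rw [this]
    exact S.z''_mem_center

/-- `ψ'` is computed by any lift -/
theorem psi'_eq (S : BMS z Q e ψ t) (x : leechPerpU) (q : Q)
    (hq : ψ (x : leechLattice) = QuotientGroup.mk q) :
    S.psi' x = QuotientGroup.mk (S.pQ (S.liftR q (S.comm_of_perp x q hq))) := by
  unfold psi'
  have h1 : (QuotientGroup.mk (Quotient.out (ψ (x : leechLattice))) : Q ⧸ Subgroup.center Q) =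
      ψ (x : leechLattice) := QuotientGroup.out_eq' _
  have h2 := S.comm_of_perp x _ h1.symm
  rw [S.qmap_congr _ q h2 (h1.trans hq), S.qmap_eq q (S.comm_of_perp x q hq)]

theorem psi'_add (S : BMS z Q e ψ t) (x y : leechPerpU) :
    S.psi' (x + y) = S.psi' x * S.psi' y := by
  obtain ⟨a, ha⟩ := QuotientGroup.mk_surjective (ψ (x : leechLattice))
  obtain ⟨b, hb⟩ := QuotientGroup.mk_surjective (ψ (y : leechLattice))
  have hab : ψ ((x + y : leechPerpU) : leechLattice) = QuotientGroup.mk (a * b) := by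
    rw [AddSubgroup.coe_add, S.mt.hψ.1, ← ha, ← hb]; rfl
  rw [S.psi'_eq x a ha.symm, S.psi'_eq y b hb.symm, S.psi'_eq (x + y) (a * b) hab,
    ← QuotientGroup.mk_mul, ← map_mul]
  rfl

theorem psi'_surjective (S : BMS z Q e ψ t) : Function.Surjective S.psi' := by
  intro y
  obtain ⟨y0, rfl⟩ := QuotientGroup.mk_surjective y
  obtain ⟨r, rfl⟩ := S.pQ_surjective y0
  -- `r` as an element of `Q`
  have hr := (S.mem_R0 r).mp r.2
  obtain ⟨hrC, hrQ⟩ := mem_QG.mp hr.1
  set q : Q := ⟨⟨(r : G), hrC⟩, hrQ⟩ with hqdef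
  have hqt : q * S.tQ = S.tQ * q := by
    apply Subtype.ext
    apply Subtype.ext
    exact hr.2
  obtain ⟨v, hv⟩ := S.mt.hψ.2.1 (QuotientGroup.mk q)
  refine ⟨⟨v, S.perp_of_comm v q hv hqt⟩, ?_⟩
  rw [S.psi'_eq ⟨v, S.perp_of_comm v q hv hqt⟩ q hv]
  rfl

theorem psi'_eq_one_iff (S : BMS z Q e ψ t) (x : leechPerpU) :
    S.psi' x = 1 ↔ (∃ w : leechLattice, (x : leechLattice) = w + w) ∨
      ∃ w : leechLattice, (x : leechLattice) = Spor.leechU + (w + w) := by
  obtain ⟨q, hq⟩ := QuotientGroup.mk_surjective (ψ (x : leechLattice))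
  have hqt := S.comm_of_perp x q hq.symm
  rw [S.psi'_eq x q hq.symm, QuotientGroup.eq_one_iff, S.mem_center_Q']
  have hD := S.mt.dataQ
  constructor
  · rintro (h1 | h1)
    · -- `q = 1` or `q = t`
      rcases (S.pQ_eq_one_iff _).mp h1 with h2 | h2
      · left
        rw [← S.mt.hψ.2.2.1, ← hq]
        have : q = 1 := by
          apply Subtype.ext; apply Subtype.ext; exact h2
        rw [this]; rfl
      · right
        have hqt' : q = S.tQ := by
          apply Subtype.ext; apply Subtype.ext; exact h2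
        have h3 : ψ ((x : leechLattice) + -Spor.leechU) = 1 := by
          rw [S.mt.hψ.1, psi_neg S.mt.hψ, ← hq, S.hψt', hqt']
          exact mul_inv_cancel _
        obtain ⟨w, hw⟩ := (S.mt.hψ.2.2.1 _).mp h3
        refine ⟨w, ?_⟩
        rw [← hw]; abel
    · -- `q = z` or `q = z t`
      unfold z'' at h1
      rcases (S.pQ_eq_iff _ _).mp h1 with h2 | h2
      · left
        rw [← S.mt.hψ.2.2.1, ← hq]
        have : q = ⟨zC z, S.mt.zC_mem⟩ := by
          apply Subtype.ext; apply Subtype.ext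
          have h2' := congrArg Subtype.val h2
          exact h2'
        rw [this]
        exact (S.mt.mk_eq_one_iff _).mpr (Or.inr rfl)
      · right
        have hqt' : q = ⟨zC z, S.mt.zC_mem⟩ * S.tQ := by
          apply Subtype.ext; apply Subtype.ext
          have h2' := congrArg Subtype.val h2
          exact h2'
        have h3 : ψ ((x : leechLattice) + -Spor.leechU) = 1 := by
          rw [S.mt.hψ.1, psi_neg S.mt.hψ, ← hq, S.hψt', hqt', QuotientGroup.mk_mul,
            mul_assoc, mul_inv_cancel, mul_one]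
          exact (S.mt.mk_eq_one_iff _).mpr (Or.inr rfl)
        obtain ⟨w, hw⟩ := (S.mt.hψ.2.2.1 _).mp h3
        refine ⟨w, ?_⟩
        rw [← hw]; abel
  · rintro (⟨w, hw⟩ | ⟨w, hw⟩)
    · have h1 : ψ (x : leechLattice) = 1 := (S.mt.hψ.2.2.1 _).mpr ⟨w, hw⟩
      rw [← hq] at h1
      rcases (S.mt.mk_eq_one_iff q).mp h1 with h2 | h2
      · left
        rw [S.pQ_eq_one_iff]
        left
        rw [liftR_coe, h2]; rfl
      · right
        unfold z''
        congr 1
        apply Subtype.ext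
        rw [liftR_coe, h2]; rfl
    · have h1 : ψ (x : leechLattice) = QuotientGroup.mk S.tQ := by
        rw [hw, S.mt.hψ.1, psi_double S.mt.hψ, mul_one, S.hψt']
      rw [← hq] at h1
      have h2 : q⁻¹ * S.tQ ∈ Subgroup.center Q := QuotientGroup.eq.mp h1
      rcases (Cfsg.Agent.Lib.Helper9.MTa.mem_center_iff hD _).mp h2 with h3 | h3
      · left
        rw [S.pQ_eq_one_iff]
        right
        have : q = S.tQ := by
          have := inv_mul_eq_one.mp h3
          exact this
        rw [liftR_coe, this]; rfl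
      · right
        unfold z''
        rw [S.pQ_eq_iff]
        right
        apply Subtype.ext
        have h4 : q = S.tQ * ⟨zC z, S.mt.zC_mem⟩ := by
          have h5 : S.tQ = q * ⟨zC z, S.mt.zC_mem⟩ := by rw [← h3]; group
          rw [h5, mul_assoc]
          have : (⟨zC z, S.mt.zC_mem⟩ : Q) * ⟨zC z, S.mt.zC_mem⟩ = 1 := hD.z_sq
          rw [this, mul_one]
        have h6 := congrArg (fun x : Q => ((x : Subgroup.centralizer ({z} : Set G)) : G)) h4
        rw [liftR_coe]
        show ((q : Subgroup.centralizer ({z} : Set G)) : G) = z * t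
        rw [← S.t_comm_z]
        exact h6

end BMS

end Cfsg.Agent.Lib.Helper2.BM
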