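import Cfsg.Agent.Lib.Helper2.BMf

/-!
# Baby Monster type from Monster type, part g: equivariance of `ψ'` (clause 4)
-/

set_option autoImplicit false

namespace Cfsg.Agent.Lib.Helper2.BM

open Cfsg Cfsg.Agent.Lib.Helper4.ES2 Cfsg.Agent.Lib.Helper9.MTa Cfsg.Agent.Lib.Helper9.MTb
  Cfsg.Agent.Lib.Helper9.MTc

variable {G : Type*} [Group G] {z : G}
  {Q : Subgroup (Subgroup.centralizer ({z} : Set G))} [Q.Normal]
  {e : (Subgroup.centralizer ({z} : Set G)) ⧸ Q ≃* Spor.Co1}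
  {ψ : leechLattice → Q ⧸ Subgroup.center Q} {t : G}

namespace BMS

variable [Finite G]
  [hn : ((Subgroup.zpowers t).subgroupOf (Subgroup.centralizer ({t} : Set G))).Normal]

/-- conjugation of `C_Q(t)` by an element of `C ∩ K` -/
def cj (S : BMS z Q e ψ t) (k : ↥S.HK) (r : ↥S.R0) : ↥S.R0 :=
  ⟨(k : G) * (r : G) * (k : G)⁻¹, by
    rw [S.mem_R0]
    have hr := (S.mem_R0 r).mp r.2
    have hkz : (k : G) ∈ Subgroup.centralizer ({z} : Set G) :=
      Subgroup.mem_centralizer_singleton_iff.mpr ((S.mem_HK k.1).mp k.2)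
    refine ⟨QG_conj_mem hkz hr.1, ?_⟩
    have hkt := k_comm_t k.1
    have hkt' : (k : G)⁻¹ * t = t * (k : G)⁻¹ := by
      have : (k : G)⁻¹ * t = (k : G)⁻¹ * (t * (k : G)) * (k : G)⁻¹ := by group
      rw [this, ← hkt]; group
    calc (k : G) * (r : G) * (k : G)⁻¹ * t = (k : G) * (r : G) * ((k : G)⁻¹ * t) := by group
      _ = (k : G) * ((r : G) * t) * (k : G)⁻¹ := by rw [hkt']; group
      _ = ((k : G) * t) * (r : G) * (k : G)⁻¹ := by rw [hr.2]; group
      _ = t * ((k : G) * (r : G) * (k : G)⁻¹) := by rw [hkt]; group⟩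

theorem cj_coe (S : BMS z Q e ψ t) (k : ↥S.HK) (r : ↥S.R0) :
    ((S.cj k r : ↥S.R0) : G) = (k : G) * (r : G) * (k : G)⁻¹ := rfl

theorem cj_mul (S : BMS z Q e ψ t) (k : ↥S.HK) (r r' : ↥S.R0) :
    S.cj k (r * r') = S.cj k r * S.cj k r' := by
  apply Subtype.ext
  simp only [cj_coe, Subgroup.coe_mul]
  group

/-- conjugation in the quotient is induced by `cj` -/
theorem conj_pQ (S : BMS z Q e ψ t) (k : ↥S.HK)
    (hk : (QuotientGroup.mk (k : Subgroup.centralizer ({t} : Set G)) :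
      ↥(Subgroup.centralizer ({t} : Set G)) ⧸
      (Subgroup.zpowers t).subgroupOf (Subgroup.centralizer ({t} : Set G))) ∈
      Subgroup.centralizer ({S.z'} : Set (↥(Subgroup.centralizer ({t} : Set G)) ⧸
      (Subgroup.zpowers t).subgroupOf (Subgroup.centralizer ({t} : Set G)))))
    (r : ↥S.R0) :
    (⟨_, hk⟩ : ↥(Subgroup.centralizer ({S.z'} : Set (↥(Subgroup.centralizer ({t} : Set G)) ⧸
      (Subgroup.zpowers t).subgroupOf (Subgroup.centralizer ({t} : Set G)))))) *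
      ((S.pQ r : ↥S.Q') : ↥(Subgroup.centralizer ({S.z'} : Set _))) *
      (⟨_, hk⟩ : ↥(Subgroup.centralizer ({S.z'} : Set (↥(Subgroup.centralizer ({t} : Set G)) ⧸
      (Subgroup.zpowers t).subgroupOf (Subgroup.centralizer ({t} : Set G))))))⁻¹ =
      ((S.pQ (S.cj k r) : ↥S.Q') : ↥(Subgroup.centralizer ({S.z'} : Set _))) := by
  apply Subtype.ext
  rfl

/-- `cj` fixes `z` and `t` -/
theorem cj_fix (S : BMS z Q e ψ t) (k : ↥S.HK) (r : ↥S.R0)
    (hr : (r : G) = 1 ∨ (r : G) = t ∨ (r : G) = z ∨ (r : G) = z * t) : S.cj k r = r := by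
  apply Subtype.ext
  rw [cj_coe]
  have hkt := k_comm_t k.1
  have hkz := (S.mem_HK k.1).mp k.2
  rcases hr with h1 | h1 | h1 | h1 <;> rw [h1]
  · group
  · rw [hkt]; group
  · rw [hkz]; group
  · rw [← mul_assoc, hkz, mul_assoc z, hkt]; group

/-- clause 4 of `IsLeechPerpModTwoIso` -/
theorem clause4 (S : BMS z Q e ψ t)
    (h : ↥(Subgroup.centralizer ({S.z'} : Set (↥(Subgroup.centralizer ({t} : Set G)) ⧸
      (Subgroup.zpowers t).subgroupOf (Subgroup.centralizer ({t} : Set G))))))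
    (g : ↥Spor.Co2) (hg : S.e' (QuotientGroup.mk h) = g) (x y : leechPerpU)
    (hxy : g • (x : leechLattice) = (y : leechLattice)) (q : ↥S.Q')
    (hq : S.psi' x = QuotientGroup.mk q) :
    S.psi' y = QuotientGroup.mk ⟨h * q * h⁻¹, (inferInstance : S.Q'.Normal).conj_mem (q : _) q.2 h⟩ := by
  obtain ⟨k, hk, rfl⟩ := S.exists_rep h
  rw [S.e'_mk, S.Theta_spec k hk, S.F_apply] at hg
  subst hg
  have hxy' : ((S.fH (S.jH k) : ↥St) : Co0) • (x : leechLattice) = (y : leechLattice) := hxy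
  obtain ⟨q0, hq0⟩ := QuotientGroup.mk_surjective (ψ (x : leechLattice))
  have hx' := S.psi'_eq x q0 hq0.symm
  have heq := S.fH_equivariant (S.jH k) (x : leechLattice) q0 hq0.symm
  rw [hxy'] at heq
  rw [S.psi'_eq y _ heq]
  obtain ⟨r1, rfl⟩ := S.pQ_surjective q
  set r0 := S.liftR q0 (S.comm_of_perp x q0 hq0.symm) with hr0
  -- the lift over `y` is the conjugate of `r0`
  have hlift : S.liftR _ (S.comm_of_perp y _ heq) = S.cj k r0 := Subtype.ext rfl
  rw [hlift]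
  -- the conjugate of `pQ r1`
  have hconj : (⟨(⟨_, hk⟩ : ↥(Subgroup.centralizer ({S.z'} : Set _))) * (S.pQ r1 : ↥S.Q') *
      (⟨_, hk⟩ : ↥(Subgroup.centralizer ({S.z'} : Set _)))⁻¹,
      (inferInstance : S.Q'.Normal).conj_mem _ (S.pQ r1).2 _⟩ : ↥S.Q') = S.pQ (S.cj k r1) :=
    Subtype.ext (S.conj_pQ k hk r1)
  rw [hconj]
  -- `r0⁻¹ r1` is central modulo `t`
  rw [hx'] at hq
  have hcen : (S.pQ r0)⁻¹ * S.pQ r1 ∈ Subgroup.center ↥S.Q' := QuotientGroup.eq.mp hq
  rw [← map_inv, ← map_mul] at hcen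
  have hfix : S.cj k (r0⁻¹ * r1) = r0⁻¹ * r1 := by
    apply S.cj_fix
    rcases (S.mem_center_Q' _).mp hcen with h1 | h1
    · rcases (S.pQ_eq_one_iff _).mp h1 with h2 | h2
      · left; exact h2
      · right; left; exact h2
    · unfold z'' at h1
      rcases (S.pQ_eq_iff _ _).mp h1 with h2 | h2
      · right; right; left
        rw [h2]; rfl
      · right; right; right
        rw [h2]; rfl
  apply QuotientGroup.eq.mpr
  have h3 : (S.pQ (S.cj k r0))⁻¹ * S.pQ (S.cj k r1) = S.pQ (r0⁻¹ * r1) := by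
    rw [← hfix, S.cj_mul, map_mul]
    congr 1
    rw [← map_inv]
    congr 1
    apply Subtype.ext
    simp only [cj_coe, Subgroup.coe_inv]
    group
  rw [h3]
  exact hcen

end BMS

end Cfsg.Agent.Lib.Helper2.BM
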