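import Mathlib
import Cfsg.Prelude.Def_Local
import Cfsg.Agent.Lib.Helper7.FStarCharP

/-!
# Unit UF (support for S5388, helper9)

If `Q` is a normal `2`-subgroup of the finite group `C`, the quotient `C ⧸ Q` is simple and not a
`2`-group, and some `C`-conjugate of an element `q ∈ Q` is not a `Q`-conjugate of `q`, then
`F*(C) = Q`.
-/

set_option autoImplicit false
set_option linter.style.haveILetI false

namespace Cfsg.Agent.Lib.Helper2.UFUnit

open Cfsg

theorem pCore_eq_of_simple_quot {C : Type*} [Group C] [Finite C] (Q : Subgroup C) [Q.Normal]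
    (hQ : IsPGroup 2 ↥Q) (hs : IsSimpleGroup (C ⧸ Q)) (h3 : ¬ IsPGroup 2 (C ⧸ Q)) :
    pCore 2 C = Q := by
  have hle : Q ≤ pCore 2 C := Cfsg.Agent.Lib.Helper7.le_pCore inferInstance hQ
  have hn : ((pCore 2 C).map (QuotientGroup.mk' Q)).Normal :=
    Subgroup.Normal.map (Cfsg.Agent.Lib.Helper7.pCore_normal 2 C) _
      (QuotientGroup.mk'_surjective Q)
  rcases hs.eq_bot_or_eq_top_of_normal _ hn with h | h
  · apply le_antisymm _ hle
    intro y hy
    have h1 : (QuotientGroup.mk' Q) y ∈ (pCore 2 C).map (QuotientGroup.mk' Q) :=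
      Subgroup.mem_map_of_mem _ hy
    rw [h, Subgroup.mem_bot] at h1
    exact (QuotientGroup.eq_one_iff y).mp h1
  · exfalso
    apply h3
    have hp : IsPGroup 2 ((pCore 2 C).map (QuotientGroup.mk' Q)) :=
      (Cfsg.Agent.Lib.Helper7.pCore_isPGroup 2 C).map _
    rw [h] at hp
    exact hp.of_equiv Subgroup.topEquiv

theorem centralizer_le_of_simple_quot {C : Type*} [Group C] (Q : Subgroup C) [Q.Normal]
    (hs : IsSimpleGroup (C ⧸ Q)) (x q : C)
    (hxq : ∀ q' ∈ Q, x * q * x⁻¹ ≠ q' * q * q'⁻¹) (hq : q ∈ Q) :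
    Subgroup.centralizer (Q : Set C) ≤ Q := by
  set K := Subgroup.centralizer (Q : Set C) with hK
  haveI hKn : K.Normal := by
    rw [hK]; infer_instance
  have hn : ((K ⊔ Q).map (QuotientGroup.mk' Q)).Normal :=
    Subgroup.Normal.map inferInstance _ (QuotientGroup.mk'_surjective Q)
  rcases hs.eq_bot_or_eq_top_of_normal _ hn with h | h
  · intro y hy
    have h1 : (QuotientGroup.mk' Q) y ∈ (K ⊔ Q).map (QuotientGroup.mk' Q) :=
      Subgroup.mem_map_of_mem _ (Subgroup.mem_sup_left hy)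
    rw [h, Subgroup.mem_bot] at h1
    exact (QuotientGroup.eq_one_iff y).mp h1
  · exfalso
    have hx : x ∈ K ⊔ Q := by
      have h1 : (QuotientGroup.mk' Q) x ∈ (K ⊔ Q).map (QuotientGroup.mk' Q) := by
        rw [h]; trivial
      obtain ⟨y, hy, hyx⟩ := h1
      have h2 : y⁻¹ * x ∈ Q := QuotientGroup.eq.mp hyx
      have h3 : x = y * (y⁻¹ * x) := by group
      rw [h3]
      exact mul_mem hy (Subgroup.mem_sup_right h2)
    have hx' : x ∈ ((K ⊔ Q : Subgroup C) : Set C) := hx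
    rw [Subgroup.mul_normal] at hx'
    obtain ⟨c, hc, q', hq', rfl⟩ := Set.mem_mul.mp hx'
    have hc' : c ∈ K := hc
    have hq'' : q' ∈ Q := hq'
    apply hxq q' hq''
    have hmem : q' * q * q'⁻¹ ∈ (Q : Set C) := mul_mem (mul_mem hq'' hq) (inv_mem hq'')
    have hcomm := (Subgroup.mem_centralizer_iff.mp hc') _ hmem
    -- hcomm : (q' * q * q'⁻¹) * c = c * (q' * q * q'⁻¹)
    calc c * q' * q * (c * q')⁻¹ = c * (q' * q * q'⁻¹) * c⁻¹ := by group
      _ = (q' * q * q'⁻¹) * c * c⁻¹ := by rw [hcomm]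
      _ = q' * q * q'⁻¹ := by group

/-- Unit UF, verbatim as requested by helper9 for S5388. -/
theorem UF {C : Type*} [Group C] [Finite C] (Q : Subgroup C) [Q.Normal] (hQ : IsPGroup 2 ↥Q)
    (hs : IsSimpleGroup (C ⧸ Q)) (h3 : ¬ IsPGroup 2 (C ⧸ Q)) (x q : C) (hq : q ∈ Q)
    (hxq : ∀ q' ∈ Q, x * q * x⁻¹ ≠ q' * q * q'⁻¹) :
    Cfsg.generalizedFittingSubgroup C = Q := by
  have hcore := pCore_eq_of_simple_quot Q hQ hs h3
  haveI : Fact (Nat.Prime 2) := ⟨Nat.prime_two⟩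
  have h := (Cfsg.Agent.Lib.Helper7.gfs_eq_pCore_iff (H := C) 2).mpr (by
    rw [hcore]
    exact centralizer_le_of_simple_quot Q hs x q hxq hq)
  rw [h, hcore]

end Cfsg.Agent.Lib.Helper2.UFUnit
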