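import Cfsg.Agent.Lib.Helper2.BMg
import Cfsg.Agent.Lib.Helper2.UF
import Cfsg.Agent.Lib.Helper3.BMTOrd3MT

/-!
# Baby Monster type from Monster type, part h: `F*(C') = Q'`
-/

set_option autoImplicit false

namespace Cfsg.Agent.Lib.Helper2.BM

open Cfsg Cfsg.Agent.Lib.Helper4.ES2 Cfsg.Agent.Lib.Helper9.MTa Cfsg.Agent.Lib.Helper9.MTb
  Cfsg.Agent.Lib.Helper9.MTc

variable {G : Type*} [Group G] {z : G}
  {Q : Subgroup (Subgroup.centralizer ({z} : Set G))} [Q.Normal]
  {e : (Subgroup.centralizer ({z} : Set G)) ⧸ Q ≃* Spor.Co1}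
  {ψ : leechLattice → Q ⧸ Subgroup.center Q} {t : G}

namespace BMS

variable [Finite G]
  [hn : ((Subgroup.zpowers t).subgroupOf (Subgroup.centralizer ({t} : Set G))).Normal]

theorem quot_simple (S : BMS z Q e ψ t) :
    IsSimpleGroup (↥(Subgroup.centralizer ({S.z'} : Set (↥(Subgroup.centralizer ({t} : Set G)) ⧸
      (Subgroup.zpowers t).subgroupOf (Subgroup.centralizer ({t} : Set G))))) ⧸ S.Q') := by
  haveI := St_simple
  exact (S.e'.trans isoSt).isSimpleGroup

theorem quot_card (S : BMS z Q e ψ t) :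
    Nat.card (↥(Subgroup.centralizer ({S.z'} : Set (↥(Subgroup.centralizer ({t} : Set G)) ⧸
      (Subgroup.zpowers t).subgroupOf (Subgroup.centralizer ({t} : Set G))))) ⧸ S.Q') =
      42305421312000 := by
  rw [Nat.card_congr (S.e'.trans isoSt).toEquiv, St_card]

theorem quot_not_pGroup (S : BMS z Q e ψ t) :
    ¬ IsPGroup 2 (↥(Subgroup.centralizer ({S.z'} : Set (↥(Subgroup.centralizer ({t} : Set G)) ⧸
      (Subgroup.zpowers t).subgroupOf (Subgroup.centralizer ({t} : Set G))))) ⧸ S.Q') := by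
  intro hp
  haveI : Finite (↥(Subgroup.centralizer ({S.z'} : Set (↥(Subgroup.centralizer ({t} : Set G)) ⧸
      (Subgroup.zpowers t).subgroupOf (Subgroup.centralizer ({t} : Set G))))) ⧸ S.Q') := by
    apply Nat.finite_of_card_ne_zero
    rw [S.quot_card]
    norm_num
  obtain ⟨n, hn'⟩ := IsPGroup.iff_card.mp hp
  rw [S.quot_card] at hn'
  have h3 : 3 ∣ 2 ^ n := by
    rw [← hn']
    norm_num
  have := Nat.Prime.dvd_of_dvd_pow Nat.prime_three h3
  omega

/-- the generalized Fitting subgroup of the centralizer of `z T` is `Q'` -/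
theorem gfs_eq (S : BMS z Q e ψ t) :
    Cfsg.generalizedFittingSubgroup ↥(Subgroup.centralizer ({S.z'} :
      Set (↥(Subgroup.centralizer ({t} : Set G)) ⧸
      (Subgroup.zpowers t).subgroupOf (Subgroup.centralizer ({t} : Set G))))) = S.Q' := by
  obtain ⟨y, hy, q, hqQ, hqt, h1, h2, h3, h4⟩ :=
    Cfsg.Agent.Lib.Helper3.BMTOrd3MT.exists_moved2 S.mt Spor.leechU S.tQ S.hψt' leechU_norm
  -- `y` as an element of `C ∩ K`
  have hyH : y ∈ S.H := by
    rw [S.mem_H]
    have := congrArg Subtype.val hy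
    simp only [Subgroup.coe_mul] at this
    exact this
  set k : ↥S.HK := S.jH.symm ⟨y, hyH⟩ with hkdef
  have hkcoe : (k : G) = (y : G) := rfl
  have hk : (QuotientGroup.mk (k : Subgroup.centralizer ({t} : Set G)) :
      ↥(Subgroup.centralizer ({t} : Set G)) ⧸
      (Subgroup.zpowers t).subgroupOf (Subgroup.centralizer ({t} : Set G))) ∈
      Subgroup.centralizer ({S.z'} : Set (↥(Subgroup.centralizer ({t} : Set G)) ⧸
      (Subgroup.zpowers t).subgroupOf (Subgroup.centralizer ({t} : Set G)))) := by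
    rw [S.centralizer_z']
    exact ⟨k.1, k.2, rfl⟩
  -- `q` as an element of `C_Q(t)`
  have hqR : (q : G) ∈ S.R0 := by
    rw [S.mem_R0]
    refine ⟨mem_QG.mpr ⟨q.2, hqQ⟩, ?_⟩
    have := congrArg Subtype.val hqt
    simp only [Subgroup.coe_mul] at this
    exact this
  set r : ↥S.R0 := ⟨(q : G), hqR⟩ with hrdef
  apply Cfsg.Agent.Lib.Helper2.UFUnit.UF S.Q' S.isPGroup_Q' S.quot_simple S.quot_not_pGroup
    ⟨_, hk⟩ ((S.pQ r : ↥S.Q') : ↥(Subgroup.centralizer ({S.z'} : Set _))) (S.pQ r).2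
  intro q' hq' hcon
  obtain ⟨r', hr'⟩ := S.pQ_surjective ⟨q', hq'⟩
  have hq'' : q' = ((S.pQ r' : ↥S.Q') : ↥(Subgroup.centralizer ({S.z'} : Set _))) := by
    rw [hr']
  rw [S.conj_pQ k hk r, hq''] at hcon
  have hcon' : S.pQ (S.cj k r) = S.pQ (r' * r * r'⁻¹) := by
    apply Subtype.ext
    rw [hcon, map_mul, map_mul, map_inv]
    rfl
  -- `r' r r'⁻¹` is `r` or `z r`
  have hD := S.mt.dataG
  have hcm : (r' : G) * (r : G) * (r' : G)⁻¹ = (r : G) ∨ (r' : G) * (r : G) * (r' : G)⁻¹ = z * (r : G) := by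
    have h5 : (r' : G) * (r : G) * (r' : G)⁻¹ = cm (r' : G) (r : G) * (r : G) := by
      unfold cm; group
    rcases hD.comm_mem r' ((S.mem_R0 r').mp r'.2).1 r ((S.mem_R0 r).mp r.2).1 with h6 | h6
    · left; rw [h5, h6, one_mul]
    · right; rw [h5, h6]
  have hyq : ((y * q * y⁻¹ : Subgroup.centralizer ({z} : Set G)) : G) = ((S.cj k r : ↥S.R0) : G) := rfl
  have hzq : (q : G) * z = z * (q : G) := Subgroup.mem_centralizer_singleton_iff.mp q.2
  rcases (S.pQ_eq_iff _ _).mp hcon' with h7 | h7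
  · have h8 : ((S.cj k r : ↥S.R0) : G) = (r' : G) * (r : G) * (r' : G)⁻¹ := congrArg Subtype.val h7
    rcases hcm with h9 | h9
    · apply h1
      apply Subtype.ext
      rw [hyq, h8, h9]
    · apply h2
      apply Subtype.ext
      rw [hyq, h8, h9]
      show z * (q : G) = (q : G) * z
      exact hzq.symm
  · have h8 : ((S.cj k r : ↥S.R0) : G) = (r' : G) * (r : G) * (r' : G)⁻¹ * t := congrArg Subtype.val h7
    rcases hcm with h9 | h9
    · apply h3
      apply Subtype.ext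
      rw [hyq, h8, h9]
      rfl
    · apply h4
      apply Subtype.ext
      rw [hyq, h8, h9]
      show z * (q : G) * t = (q : G) * (z * t)
      rw [← hzq, mul_assoc]

end BMS

end Cfsg.Agent.Lib.Helper2.BM
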