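import Mathlib
import Cfsg.Agent.Lib.Helper1.F4Out.PartA
import Cfsg.Agent.Lib.Helper5.F4T.Order
import Cfsg.Agent.S0309

set_option autoImplicit false
set_option linter.unusedVariables false
set_option linter.unusedSectionVars false
set_option linter.style.haveILetI false

/-!
# Farm BT2 (S2369), unit N : the primes dividing the order of a minimal parabolic subgroup of
`²F₄(q)` divide `q (q⁴ - 1)`

`P_s = B ∪ B s B`, counted with helper5's cell map `cellMapF`:
`|P_s| = q¹² (q - 1)² (1 + q^d)`, `d = 1, 2`.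
-/

namespace Cfsg.Agent.Lib.Helper2.BT2

open Cfsg Cfsg.Lie Cfsg.Agent.Lib.Helper5.ChevSym Cfsg.Agent.Lib.Helper5.ChevSymP
  Cfsg.Agent.Lib.Helper5.ChevStruct Cfsg.Agent.Lib.Helper5.Ree Cfsg.Agent.Lib.Helper5.TwX
  Cfsg.Agent.Lib.Helper5.MatPow Cfsg.Agent.Lib.Helper5.F4T Cfsg.Agent.Lib.Helper1.F4Out
  Cfsg.Agent.Lib.Helper4.BNPair Cfsg.Agent.Lib.Helper4.BNAbstract

section abstract

variable {G : Type*} [Group G] (P : BNPair G)

/-- `P_s = B ∪ B s B` -/
theorem mem_parabolic_single (s : G) (hs : s ∈ P.S) (g : G) :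
    g ∈ P.parabolic {s} ↔ g ∈ P.B ∨ g ∈ C P s := by
  rw [mem_parabolic_iff (Set.singleton_subset_iff.2 hs)]
  constructor
  · rintro ⟨n, hn, hg⟩
    obtain ⟨k, rfl⟩ := Subgroup.mem_closure_singleton.1 hn
    have hsq : s * s ∈ P.B := P.sq_mem s hs
    rcases Int.even_or_odd' k with ⟨j, rfl | rfl⟩
    · left
      have h1 : s ^ (2 * j) ∈ P.B := by
        rw [zpow_mul, zpow_two]
        exact zpow_mem hsq j
      rw [C_of_mem_B h1] at hg
      exact hg
    · right
      have h1 : s ^ (2 * j) ∈ P.B := by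
        rw [zpow_mul, zpow_two]
        exact zpow_mem hsq j
      rw [zpow_add, zpow_one, C_mul_left h1] at hg
      exact hg
  · rintro (hg | hg)
    · exact ⟨1, one_mem _, by rw [C_one]; exact hg⟩
    · exact ⟨s, Subgroup.subset_closure rfl, hg⟩

end abstract

variable {K : Type*} [Field K] [Fintype K] [CharP K 2]

/-- the index of the identity in `canon` -/
def i0 : Fin canon.length := ⟨0, by decide⟩

theorem canon_i0 : (canon.get i0).1.flatten = [] := by decide

/-- the cardinality of the minimal parabolic subgroup attached to the `i`-th element of `canon` -/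
theorem card_parabolic_aux (m : ℕ) (hq : ∀ x : K, x ^ 2 ^ (2 * m + 1) = x)
    (s : ↥(fixG (K := K) m)) (hs : s ∈ (bnF m hq).S) (i : Fin canon.length) (hi : i ≠ i0)
    (hsv : (s : GL chevF4.Idx K) = wGL chevF4 hF4 (canon.get i).1.flatten) :
    Nat.card ↥((bnF m hq).parabolic {s})
      = Fintype.card K ^ 12 * (Fintype.card K - 1) ^ 2 *
        (Fintype.card K ^ (longS (canon.get i0).2).length
          + Fintype.card K ^ (longS (canon.get i).2).length) := by
  classical
  have hn := orb_mem_fixG (K := K) m hq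
  set P := bnF m hq with hP
  have hPB : ∀ x : ↥(fixG (K := K) m), x ∈ P.B ↔ (x : GL chevF4.Idx K) ∈ chevF4.borelSubgroup K := by
    intro x
    show x ∈ (chevF4.borelSubgroup K ⊓ fixG m).subgroupOf (fixG m) ↔ _
    rw [Subgroup.mem_subgroupOf, Subgroup.mem_inf]
    exact ⟨fun h => h.1, fun h => ⟨h, x.2⟩⟩
  have hPN : ∀ x : ↥(fixG (K := K) m), x ∈ P.N ↔ (x : GL chevF4.Idx K) ∈ chevF4.monomialSubgroup K := by
    intro x
    show x ∈ (chevF4.monomialSubgroup K ⊓ fixG m).subgroupOf (fixG m) ↔ _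
    rw [Subgroup.mem_subgroupOf, Subgroup.mem_inf]
    exact ⟨fun h => h.1, fun h => ⟨h, x.2⟩⟩
  -- the elements `n_j`
  have hnjG : ∀ j : Fin canon.length, wGL chevF4 hF4 (canon.get j).1.flatten ∈ fixG (K := K) m :=
    fun j => wGL_flatten_mem chevF4 hF4 orbsF4 _ hn _ (canon_get_orbs j)
  have hval : ∀ (j : Fin canon.length) (b : ↥(chevF4.borelSubgroup K ⊓ fixG m))
      (v : ↥(unegSub chevF4 K (canon.get j).1.flatten ⊓ fixG m)),
      ((cellMapF m hn ⟨j, b, v⟩ : ↥(fixG (K := K) m)) : GL chevF4.Idx K)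
        = (b : GL chevF4.Idx K) * wGL chevF4 hF4 (canon.get j).1.flatten * (v : GL chevF4.Idx K) :=
    fun j b v => rfl
  have hcellC : ∀ (j : Fin canon.length) (b : ↥(chevF4.borelSubgroup K ⊓ fixG m))
      (v : ↥(unegSub chevF4 K (canon.get j).1.flatten ⊓ fixG m)),
      cellMapF m hn ⟨j, b, v⟩ ∈ C P (⟨_, hnjG j⟩ : ↥(fixG (K := K) m)) := by
    intro j b v
    rw [mem_C]
    refine ⟨⟨b.1, (Subgroup.mem_inf.1 b.2).2⟩, ?_, ⟨v.1, (Subgroup.mem_inf.1 v.2).2⟩, ?_, ?_⟩
    · rw [hPB]
      exact (Subgroup.mem_inf.1 b.2).1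
    · rw [hPB]
      exact pos_le_borel chevF4
        (unegSub_le_pos _ (canon_get_wd j) (Subgroup.mem_inf.1 v.2).1)
    · apply Subtype.ext
      rfl
  have hs_eq : s = (⟨_, hnjG i⟩ : ↥(fixG (K := K) m)) := Subtype.ext hsv
  have hmem0 : ∀ p : ↥(chevF4.borelSubgroup K ⊓ fixG m) ×
      ↥(unegSub chevF4 K (canon.get i0).1.flatten ⊓ fixG m),
      cellMapF m hn ⟨i0, p⟩ ∈ P.parabolic {s} := by
    intro p
    rw [mem_parabolic_single P s hs]
    left
    have hw1 : (wGL chevF4 hF4 (canon.get i0).1.flatten : GL chevF4.Idx K) = 1 := by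
      rw [canon_i0, wGL_nil]
    rw [hPB, hval i0 p.1 p.2, hw1, mul_one]
    refine mul_mem (Subgroup.mem_inf.1 p.1.2).1 ?_
    exact pos_le_borel chevF4 (unegSub_le_pos _ (canon_get_wd i0) (Subgroup.mem_inf.1 p.2.2).1)
  have hmem1 : ∀ p : ↥(chevF4.borelSubgroup K ⊓ fixG m) ×
      ↥(unegSub chevF4 K (canon.get i).1.flatten ⊓ fixG m),
      cellMapF m hn ⟨i, p⟩ ∈ P.parabolic {s} := by
    intro p
    rw [mem_parabolic_single P s hs]
    right
    rw [hs_eq]
    exact hcellC i p.1 p.2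
  let f : (↥(chevF4.borelSubgroup K ⊓ fixG m) ×
        ↥(unegSub chevF4 K (canon.get i0).1.flatten ⊓ fixG m)) ⊕
      (↥(chevF4.borelSubgroup K ⊓ fixG m) ×
        ↥(unegSub chevF4 K (canon.get i).1.flatten ⊓ fixG m)) → ↥(P.parabolic {s}) :=
    fun x => Sum.rec (fun p => ⟨cellMapF m hn ⟨i0, p⟩, hmem0 p⟩)
      (fun p => ⟨cellMapF m hn ⟨i, p⟩, hmem1 p⟩) x
  have hinj := (cellMapF_bijective (K := K) m hn).1
  have hbij : Function.Bijective f := by
    constructor
    · rintro (p | p) (p' | p') e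
      · have e' : cellMapF m hn ⟨i0, p⟩ = cellMapF m hn ⟨i0, p'⟩ := congrArg Subtype.val e
        have := hinj e'
        rw [Sigma.mk.inj_iff] at this
        rw [eq_of_heq this.2]
      · have e' : cellMapF m hn ⟨i0, p⟩ = cellMapF m hn ⟨i, p'⟩ := congrArg Subtype.val e
        have := hinj e'
        rw [Sigma.mk.inj_iff] at this
        exact absurd this.1.symm hi
      · have e' : cellMapF m hn ⟨i, p⟩ = cellMapF m hn ⟨i0, p'⟩ := congrArg Subtype.val e
        have := hinj e'
        rw [Sigma.mk.inj_iff] at this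
        exact absurd this.1 hi
      · have e' : cellMapF m hn ⟨i, p⟩ = cellMapF m hn ⟨i, p'⟩ := congrArg Subtype.val e
        have := hinj e'
        rw [Sigma.mk.inj_iff] at this
        rw [eq_of_heq this.2]
    · rintro ⟨g, hg⟩
      obtain ⟨⟨j, b, v⟩, rfl⟩ := (cellMapF_bijective (K := K) m hn).2 g
      have hcj := hcellC j b v
      have hnjN : (⟨_, hnjG j⟩ : ↥(fixG (K := K) m)) ∈ P.N := by
        rw [hPN]
        exact wGL_mem chevF4 hF4 _ (canon_get_wd j)
      have hNj := wGL_mem (F := K) chevF4 hF4 _ (canon_get_wd j)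
      rw [mem_parabolic_single P s hs] at hg
      rcases hg with hg | hg
      · -- `j = i0`
        have hg' : cellMapF m hn ⟨j, b, v⟩ ∈ C P (1 : ↥(fixG (K := K) m)) := by
          rw [C_one]; exact hg
        have heq := C_eq_of_inter hcj hg'
        have h3 := (Cfsg.Agent.S0309.result P hnjN (one_mem _)).1 heq
        rw [mul_one, hPB] at h3
        have h4 : (wGL chevF4 hF4 (canon.get j).1.flatten : GL chevF4.Idx K)⁻¹
            ∈ chevF4.diagonalSubgroup K := by
          rw [← borel_inf_monomial chevF4 hF4]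
          exact Subgroup.mem_inf.2 ⟨h3, inv_mem hNj⟩
        have h5 : (wGL chevF4 hF4 (canon.get j).1.flatten : GL chevF4.Idx K)
            ∈ chevF4.diagonalSubgroup K := by
          have := inv_mem h4
          rwa [inv_inv] at this
        have hact := act_of_wGL_mem_diagonal chevF4 hF4 _ (canon_get_wd j) h5
        have hp : canon.get j = canon.get i0 := by
          apply canon_inj _ (List.get_mem canon j) _ (List.get_mem canon i0)
          intro r hr
          rw [hact r hr, canon_i0]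
          rfl
        have hj : j = i0 := (List.Nodup.get_inj_iff canon_nodup).1 hp
        subst hj
        exact ⟨Sum.inl (b, v), rfl⟩
      · -- `j = i`
        have hniN : (⟨_, hnjG i⟩ : ↥(fixG (K := K) m)) ∈ P.N := by
          rw [hPN]
          exact wGL_mem chevF4 hF4 _ (canon_get_wd i)
        have hNi := wGL_mem (F := K) chevF4 hF4 _ (canon_get_wd i)
        rw [hs_eq] at hg
        have heq := C_eq_of_inter hcj hg
        have h3 := (Cfsg.Agent.S0309.result P hnjN hniN).1 heq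
        rw [hPB] at h3
        have h3' : (wGL chevF4 hF4 (canon.get j).1.flatten : GL chevF4.Idx K)⁻¹ *
            wGL chevF4 hF4 (canon.get i).1.flatten ∈ chevF4.borelSubgroup K := h3
        have h4 : (wGL chevF4 hF4 (canon.get j).1.flatten : GL chevF4.Idx K)⁻¹ *
            wGL chevF4 hF4 (canon.get i).1.flatten ∈ chevF4.diagonalSubgroup K := by
          rw [← borel_inf_monomial chevF4 hF4]
          exact Subgroup.mem_inf.2 ⟨h3', mul_mem (inv_mem hNj) hNi⟩
        have hH : (wGL chevF4 hF4 (canon.get j).1.flatten *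
            (wGL chevF4 hF4 (canon.get i).1.flatten)⁻¹ : GL chevF4.Idx K)
            ∈ chevF4.diagonalSubgroup K := by
          have h1 := (conj_monomial_diag_mem chevF4 hF4 _ hNj _ h4).1
          have e1 : (wGL chevF4 hF4 (canon.get j).1.flatten *
              (wGL chevF4 hF4 (canon.get i).1.flatten)⁻¹ : GL chevF4.Idx K)
              = (wGL chevF4 hF4 (canon.get j).1.flatten *
                ((wGL chevF4 hF4 (canon.get j).1.flatten)⁻¹ *
                  wGL chevF4 hF4 (canon.get i).1.flatten)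
                * (wGL chevF4 hF4 (canon.get j).1.flatten)⁻¹)⁻¹ := by group
          rw [e1]
          exact inv_mem h1
        have hact := (hrel_iff_act_eq chevF4 hF4 _ _ (canon_get_wd j) (canon_get_wd i)).1 hH
        have hp : canon.get j = canon.get i :=
          canon_inj _ (List.get_mem canon j) _ (List.get_mem canon i) hact
        have hj : j = i := (List.Nodup.get_inj_iff canon_nodup).1 hp
        subst hj
        exact ⟨Sum.inr (b, v), rfl⟩
  rw [← Nat.card_congr (Equiv.ofBijective f hbij), Nat.card_sum, Nat.card_prod, Nat.card_prod,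
    card_borel_fix m hq, card_uneg_canon m hq _ (List.get_mem canon i0),
    card_uneg_canon m hq _ (List.get_mem canon i), mul_add]

theorem arith_q4 (Q : ℕ) (hQ : 1 ≤ Q) :
    Q ^ 4 - 1 = (Q - 1) * ((Q + 1) * (Q ^ 2 + 1)) := by
  obtain ⟨k, rfl⟩ : ∃ k, Q = k + 1 := ⟨Q - 1, by omega⟩
  have e1 : k + 1 - 1 = k := by omega
  have e2 : (k + 1) ^ 4 - 1 = k ^ 4 + 4 * k ^ 3 + 6 * k ^ 2 + 4 * k := by
    have : (k + 1) ^ 4 = k ^ 4 + 4 * k ^ 3 + 6 * k ^ 2 + 4 * k + 1 := by ring
    omega
  rw [e1, e2]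
  ring

/-- **Unit N of the farm BT2.** -/
theorem N_parabolic_primes (m : ℕ) (hq : ∀ x : K, x ^ 2 ^ (2 * m + 1) = x)
    (hK : Fintype.card K = 2 ^ (2 * m + 1)) (s : ↥(fixG (K := K) m)) (hs : s ∈ (bnF m hq).S)
    (p : ℕ) (hp : p.Prime) (hdvd : p ∣ Nat.card ↥((bnF m hq).parabolic {s})) :
    p ∣ 2 ^ (2 * m + 1) * ((2 ^ (2 * m + 1)) ^ 4 - 1) := by
  rw [← hK]
  set Q := Fintype.card K with hQ
  have hQ1 : 1 ≤ Q := Fintype.card_pos
  obtain ⟨J, hJ, hsv⟩ := hs
  have hJ' : J = [0, 3] ∨ J = [1, 2, 1, 2] := by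
    simpa [orbsF4] using hJ
  have key : ∃ d, (d = 1 ∨ d = 2) ∧ Nat.card ↥((bnF m hq).parabolic {s})
      = Q ^ 12 * (Q - 1) ^ 2 * (1 + Q ^ d) := by
    rcases hJ' with rfl | rfl
    · refine ⟨1, Or.inl rfl, ?_⟩
      have := card_parabolic_aux m hq s ⟨[0, 3], by decide, hsv⟩ ⟨1, by decide⟩ (by decide) hsv
      rw [this]
      have e0 : (longS (canon.get i0).2).length = 0 := by decide
      have e1 : (longS (canon.get (⟨1, by decide⟩ : Fin canon.length)).2).length = 1 := by decide
      rw [e0, e1, pow_zero]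
    · refine ⟨2, Or.inr rfl, ?_⟩
      have := card_parabolic_aux m hq s ⟨[1, 2, 1, 2], by decide, hsv⟩ ⟨2, by decide⟩ (by decide) hsv
      rw [this]
      have e0 : (longS (canon.get i0).2).length = 0 := by decide
      have e1 : (longS (canon.get (⟨2, by decide⟩ : Fin canon.length)).2).length = 2 := by decide
      rw [e0, e1, pow_zero]
  obtain ⟨d, hd, hcard⟩ := key
  rw [hcard] at hdvd
  rw [arith_q4 Q hQ1]
  rcases (Nat.Prime.dvd_mul hp).1 hdvd with h1 | h1
  · rcases (Nat.Prime.dvd_mul hp).1 h1 with h2 | h2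
    · exact Dvd.dvd.mul_right (hp.dvd_of_dvd_pow h2) _
    · have := hp.dvd_of_dvd_pow h2
      exact Dvd.dvd.mul_left (Dvd.dvd.mul_right this _) _
  · rcases hd with rfl | rfl
    · rw [pow_one, add_comm] at h1
      exact Dvd.dvd.mul_left (Dvd.dvd.mul_left (Dvd.dvd.mul_right h1 _) _) _
    · rw [add_comm] at h1
      exact Dvd.dvd.mul_left (Dvd.dvd.mul_left (Dvd.dvd.mul_left h1 _) _) _

end Cfsg.Agent.Lib.Helper2.BT2
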