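import Mathlib
import Cfsg.Agent.Lib.Helper1.F4Out.PartA

set_option autoImplicit false
set_option linter.unusedVariables false
set_option linter.unusedSectionVars false
set_option linter.style.haveILetI false

/-!
# Farm BT2 (S2369), unit S : every involution of `²F₄(q)` is conjugate into the Borel subgroup
(Sylow: `U ∩ G¹` is a Sylow 2-subgroup of `G¹` by helper1's `index_odd`)
-/

namespace Cfsg.Agent.Lib.Helper2.BT2

open Cfsg Cfsg.Lie Cfsg.Agent.Lib.Helper5.ChevSym Cfsg.Agent.Lib.Helper5.ChevStruct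
  Cfsg.Agent.Lib.Helper5.F4T Cfsg.Agent.Lib.Helper5.TwX Cfsg.Agent.Lib.Helper1.F4Out

open scoped Pointwise

/-- abstract Sylow: if `P ∩ G1` is a Sylow `p`-subgroup of the finite group `G1` (given by its
order and index), every `p`-element of `G1` is `G1`-conjugate into `P` -/
theorem conj_mem_of_sylow_card {Γ : Type*} [Group Γ] (G1 : Subgroup Γ) [Finite ↥G1]
    (P : Subgroup Γ) (p : ℕ) (hp : p.Prime) (hP : ∃ a, Nat.card ↥(P ⊓ G1) = p ^ a)
    (hidx : ¬ p ∣ (Nat.card ↥G1 / Nat.card ↥(P ⊓ G1))) (t : ↥G1) (ht : ∃ k, orderOf t = p ^ k) :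
    ∃ g : ↥G1, ((g * t * g⁻¹ : ↥G1) : Γ) ∈ P := by
  classical
  haveI : Fact p.Prime := ⟨hp⟩
  obtain ⟨a, ha⟩ := hP
  have hcard : Nat.card ↥(P.subgroupOf G1) = Nat.card ↥(P ⊓ G1) := by
    rw [← Subgroup.inf_subgroupOf_right P G1]
    exact Nat.card_congr (Subgroup.subgroupOfEquivOfLe (inf_le_right : P ⊓ G1 ≤ G1)).toEquiv
  have hdvd : Nat.card ↥(P.subgroupOf G1) ∣ Nat.card ↥G1 := Subgroup.card_subgroup_dvd_card _
  rw [hcard, ha] at hdvd
  rw [ha] at hidx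
  have hG0 : Nat.card ↥G1 ≠ 0 := Nat.card_pos.ne'
  have hfac : (Nat.card ↥G1).factorization p = a := by
    obtain ⟨c, hc⟩ := hdvd
    have hc0 : c ≠ 0 := by
      rintro rfl
      rw [mul_zero] at hc
      exact hG0 hc
    have hpc : ¬ p ∣ c := by
      rw [hc, Nat.mul_div_cancel_left _ (pow_pos hp.pos a)] at hidx
      exact hidx
    rw [hc, Nat.factorization_mul (pow_ne_zero _ hp.ne_zero) hc0]
    simp [hp.factorization_pow, Nat.factorization_eq_zero_of_not_dvd hpc]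
  have hcardP : Nat.card ↥(P.subgroupOf G1) = p ^ (Nat.card ↥G1).factorization p := by
    rw [hcard, ha, hfac]
  let S : Sylow p ↥G1 := Sylow.ofCard (P.subgroupOf G1) hcardP
  have hS : (S : Subgroup ↥G1) = P.subgroupOf G1 := rfl
  obtain ⟨k, hk⟩ := ht
  have hz : IsPGroup p ↥(Subgroup.zpowers t) := by
    apply IsPGroup.of_card (n := k)
    rw [Nat.card_zpowers, hk]
  obtain ⟨Q, hQ⟩ := hz.exists_le_sylow
  obtain ⟨g, hg⟩ := MulAction.exists_smul_eq ↥G1 Q S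
  refine ⟨g, ?_⟩
  have htQ : t ∈ (Q : Subgroup ↥G1) := hQ (Subgroup.mem_zpowers t)
  have h1 : MulAut.conj g • t ∈ MulAut.conj g • (Q : Subgroup ↥G1) :=
    Subgroup.smul_mem_pointwise_smul _ _ _ htQ
  have h2 : ((g • Q : Sylow p ↥G1) : Subgroup ↥G1) = MulAut.conj g • (Q : Subgroup ↥G1) :=
    Sylow.pointwise_smul_def
  rw [← h2, hg, hS, Subgroup.mem_subgroupOf] at h1
  simpa [MulAut.smul_def, MulAut.conj_apply] using h1

variable {K : Type*} [Field K] [Fintype K] [CharP K 2]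

/-- **Unit S of the farm BT2.** -/
theorem S_conj_mem_B (m : ℕ) (hq : ∀ x : K, x ^ 2 ^ (2 * m + 1) = x)
    (hK : Fintype.card K = 2 ^ (2 * m + 1)) (t : ↥(fixG (K := K) m)) (ht : orderOf t = 2) :
    ∃ g : ↥(fixG (K := K) m), g * t * g⁻¹ ∈ (bnF m hq).B := by
  obtain ⟨g, hg⟩ := conj_mem_of_sylow_card (fixG (K := K) m) (chevF4.posUnipotent K) 2
    Nat.prime_two ⟨(2 * m + 1) * 12, by rw [card_pos_fix m hq, hK, ← pow_mul]⟩
    (index_odd m hq hK) t ⟨1, by rw [ht, pow_one]⟩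
  refine ⟨g, ?_⟩
  show g * t * g⁻¹ ∈ (chevF4.borelSubgroup K ⊓ fixG m).subgroupOf (fixG m)
  rw [Subgroup.mem_subgroupOf]
  exact Subgroup.mem_inf.2 ⟨pos_le_borel chevF4 hg, (g * t * g⁻¹).2⟩

end Cfsg.Agent.Lib.Helper2.BT2
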