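import Mathlib
import Cfsg.Prelude.Def_Local
import Cfsg.Agent.Lib.Helper8.Quasinilpotent
import Cfsg.Agent.Lib.Helper8.FStarEquiv
import Cfsg.Agent.Lib.Helper8.FStar
import Cfsg.Agent.Lib.Helper8.LayerSub
import Cfsg.Agent.Lib.Helper8.AxB
import Cfsg.Agent.Lib.Helper8.DSer
import Cfsg.Agent.Lib.Helper1.SubnormalFitting
import Cfsg.Agent.Lib.Helper1.SubnormalPCore
import Cfsg.Agent.Lib.Helper1.Subnormal
import Cfsg.Agent.Lib.Helper1.Fitting
import Cfsg.Agent.Lib.Helper1.ZJ8
import Cfsg.Agent.Lib.Helper2.Components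
import Cfsg.Agent.Lib.Helper2.Components3
import Cfsg.Agent.Lib.Helper2.Cores
import Cfsg.Agent.Lib.Helper2.Hypercenter
import Cfsg.Agent.Lib.Helper7.PCore

set_option autoImplicit false
open scoped commutatorElement

namespace Cfsg.Agent.Lib.Helper2.BenderSub

open Cfsg

universe u
variable {A : Type u} [Group A] [Finite A]

/-- A `p`-element of the Fitting subgroup lies in `O_p`. -/
theorem mem_pCore_of_mem_fitting (r : ℕ) [hr : Fact r.Prime] (x : A)
    (hx : x ∈ fittingSubgroup A) (k : ℕ) (hxr : x ^ r ^ k = 1) : x ∈ pCore r A := by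
  haveI hFn : (fittingSubgroup A).Normal := fittingSubgroup_normal
  haveI hFnil : Group.IsNilpotent ↥(fittingSubgroup A) := fittingSubgroup_isNilpotent
  have hle : Subgroup.zpowers x ≤ fittingSubgroup A := by
    rw [Subgroup.zpowers_le]; exact hx
  have hsn : (Subgroup.zpowers x).IsSubnormal :=
    Subgroup.IsSubnormal.trans hle
      (Cfsg.Agent.Lib.Helper1.isNilpotent_iff_forall_isSubnormal.mp hFnil _) hFn.isSubnormal
  have hp : IsPGroup r ↥(Subgroup.zpowers x) := by
    obtain ⟨j, -, hj⟩ := (Nat.dvd_prime_pow hr.out).mp (orderOf_dvd_of_pow_eq_one hxr)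
    apply IsPGroup.of_card (n := j)
    rw [Nat.card_zpowers, hj]
  exact Cfsg.Agent.Lib.Helper1.le_pCore_of_isSubnormal_of_isPGroup hsn hp (Subgroup.mem_zpowers x)

section Main

variable (S : Subgroup A) (hSF : S ≤ generalizedFittingSubgroup A)
  (hSsn : (S.subgroupOf (generalizedFittingSubgroup A)).IsSubnormal)
  (hSC : generalizedFittingSubgroup A ⊓ Subgroup.centralizer (S : Set A) ≤ S)

include hSF hSsn

theorem isSubnormal_S : S.IsSubnormal :=
  Subgroup.IsSubnormal.trans hSF hSsn
    (Cfsg.Agent.Lib.Helper8.generalizedFittingSubgroup_normal (G := A)).isSubnormal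

theorem gfs_S_eq_top : generalizedFittingSubgroup ↥S = ⊤ := by
  have h1 : generalizedFittingSubgroup ↥(generalizedFittingSubgroup A) = ⊤ :=
    Cfsg.Agent.Lib.Helper8.gfs_gfs_eq_top
  have h2 := Cfsg.Agent.Lib.Helper8.gfs_eq_top_of_isSubnormal h1 hSsn
  exact Cfsg.Agent.Lib.Helper8.generalizedFittingSubgroup_eq_top_of_equiv
    (Subgroup.subgroupOfEquivOfLe hSF) h2

include hSC

theorem layer_le : layer A ≤ S := by
  unfold layer
  apply sSup_le
  intro L hL
  rcases isComponent_le_or_commutator_eq_bot hL (isSubnormal_S S hSF hSsn) with h | h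
  · exact h
  · refine le_trans (le_inf ?_ ?_) hSC
    · have : L ≤ layer A := le_layer hL
      exact (this.trans le_sup_left : L ≤ generalizedFittingSubgroup A)
    · rw [Subgroup.commutator_comm] at h
      exact Subgroup.commutator_eq_bot_iff_le_centralizer.mp h

/-- An element of `O_r(A)` centralizing `S ∩ O_r(A)` centralizes `S`. -/
theorem comm_of_comm_inf (r : ℕ) [hr : Fact r.Prime] (w : A) (hw : w ∈ pCore r A)
    (hwc : ∀ t ∈ S ⊓ pCore r A, w * t = t * w) (s : A) (hs : s ∈ S) : w * s = s * w := by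
  have htop := gfs_S_eq_top S hSF hSsn
  haveI hFSn : (fittingSubgroup ↥S).Normal := fittingSubgroup_normal
  have hs' : (⟨s, hs⟩ : S) ∈ layer ↥S ⊔ fittingSubgroup ↥S := by
    have : layer ↥S ⊔ fittingSubgroup ↥S = ⊤ := htop
    rw [this]; trivial
  rw [Subgroup.mem_sup_of_normal_right] at hs'
  obtain ⟨e, he, f, hf, hef⟩ := hs'
  have hsn := isSubnormal_S S hSF hSsn
  have heA : (e : A) ∈ layer A := Cfsg.Agent.Lib.Helper8.layer_map_le hsn ⟨e, he, rfl⟩
  have hfA : (f : A) ∈ fittingSubgroup A :=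
    Cfsg.Agent.Lib.Helper1.fittingSubgroup_map_le_of_isSubnormal hsn ⟨f, hf, rfl⟩
  have hwF : w ∈ fittingSubgroup A := pCore_le_fittingSubgroup r hw
  have hs_eq : s = (e : A) * (f : A) := by
    have := congrArg Subtype.val hef
    rw [Subgroup.coe_mul] at this
    exact this.symm
  -- `w` commutes with `e`
  have hwe : w * (e : A) = (e : A) * w := by
    have h1 : layer A ≤ Subgroup.centralizer (fittingSubgroup A : Set A) :=
      Subgroup.commutator_eq_bot_iff_le_centralizer.mp
        Cfsg.Agent.Lib.Helper8.commutator_layer_fitting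
    exact (Subgroup.mem_centralizer_iff.mp (h1 heA) w hwF)
  -- decompose `f`
  obtain ⟨f1, hf1, f2, hf2, hmul, ⟨m, hm, hf1m⟩, ⟨k, hf2k⟩⟩ :=
    Cfsg.Agent.Lib.Helper1.ZJ.exists_p_decomposition (p := r) (f : A)
  have hzle : Subgroup.zpowers (f : A) ≤ S ⊓ fittingSubgroup A := by
    rw [Subgroup.zpowers_le]; exact ⟨f.2, hfA⟩
  have hf2c : w * f2 = f2 * w := by
    apply hwc
    refine ⟨(hzle hf2).1, ?_⟩
    exact mem_pCore_of_mem_fitting r f2 (hzle hf2).2 k hf2k
  have hf1c : w * f1 = f1 * w := by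
    haveI hFnil : Group.IsNilpotent ↥(fittingSubgroup A) := fittingSubgroup_isNilpotent
    have hf1F : f1 ∈ fittingSubgroup A := (hzle hf1).2
    have hcop : (orderOf (⟨w, hwF⟩ : fittingSubgroup A)).Coprime
        (orderOf (⟨f1, hf1F⟩ : fittingSubgroup A)) := by
      rw [Subgroup.orderOf_mk, Subgroup.orderOf_mk]
      obtain ⟨j, hj⟩ := (pCore_isPGroup (G := A) r) ⟨w, hw⟩
      have hwj : w ^ r ^ j = 1 := by
        have := congrArg Subtype.val hj
        rwa [Subgroup.coe_pow, Subgroup.coe_one] at this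
      have h1 : orderOf w ∣ r ^ j := orderOf_dvd_of_pow_eq_one hwj
      have h2 : orderOf f1 ∣ m := orderOf_dvd_of_pow_eq_one hf1m
      have h3 : (r ^ j).Coprime m :=
        Nat.Coprime.pow_left _ ((Nat.Prime.coprime_iff_not_dvd hr.out).mpr hm)
      exact Nat.Coprime.of_dvd h1 h2 h3
    have := commute_of_isNilpotent_of_coprime hcop
    have h4 := congrArg Subtype.val this.eq
    exact h4
  rw [hs_eq, hmul]
  calc w * ((e : A) * (f1 * f2)) = (w * (e : A)) * f1 * f2 := by group
    _ = ((e : A) * w) * f1 * f2 := by rw [hwe]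
    _ = (e : A) * (w * f1) * f2 := by group
    _ = (e : A) * (f1 * w) * f2 := by rw [hf1c]
    _ = (e : A) * f1 * (w * f2) := by group
    _ = (e : A) * f1 * (f2 * w) := by rw [hf2c]
    _ = _ := by group

theorem pCore_inf_centralizer_le (r : ℕ) [hr : Fact r.Prime] :
    pCore r A ⊓ Subgroup.centralizer ((S ⊓ pCore r A : Subgroup A) : Set A) ≤ S := by
  intro w hw'
  obtain ⟨hw, hwc⟩ := Subgroup.mem_inf.mp hw'
  apply hSC
  refine Subgroup.mem_inf.mpr ⟨?_, ?_⟩
  · have : w ∈ fittingSubgroup A := pCore_le_fittingSubgroup r hw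
    exact (le_sup_right : fittingSubgroup A ≤ generalizedFittingSubgroup A) this
  · rw [Subgroup.mem_centralizer_iff]
    intro s hs
    refine (comm_of_comm_inf S hSF hSsn hSC r w hw ?_ s hs).symm
    intro t ht
    exact (Subgroup.mem_centralizer_iff.mp hwc t ht).symm

/-- `Y` (a `p`-subgroup normalized by `S`) centralizes `O_r(A)` for `r ≠ p`. -/
theorem commutator_pCore_eq_bot (p : ℕ) [hp : Fact p.Prime] (Y : Subgroup A)
    (hY : IsPGroup p ↥Y) (hSY : S ≤ Subgroup.normalizer (Y : Set A))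
    (r : ℕ) [hr : Fact r.Prime] (hrp : r ≠ p) : ⁅pCore r A, Y⁆ = ⊥ := by
  have hTp : IsPGroup r ↥(pCore r A) := pCore_isPGroup r
  have hB : IsPGroup r ↥(S ⊓ pCore r A) := hTp.to_le inf_le_right
  have hA : (Nat.card ↥Y).Coprime r := by
    obtain ⟨k, hk⟩ := hY.exists_card_eq
    rw [hk]
    exact Nat.Coprime.pow_left k ((Nat.coprime_primes hp.out hr.out).mpr (Ne.symm hrp))
  have hAB : ⁅Y, S ⊓ pCore r A⁆ = ⊥ := by
    have h1 : ⁅Y, S ⊓ pCore r A⁆ ≤ Y :=
      Subgroup.le_normalizer_iff_commutator_le_left.mp (inf_le_left.trans hSY)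
    have h2 : ⁅Y, S ⊓ pCore r A⁆ ≤ pCore r A :=
      (Subgroup.commutator_mono le_rfl inf_le_right).trans (Subgroup.commutator_le_right _ _)
    have h3 : Disjoint Y (pCore r A) := IsPGroup.disjoint_of_ne p r (Ne.symm hrp) _ _ hY hTp
    rw [eq_bot_iff]
    exact le_trans (le_inf h1 h2) (disjoint_iff.mp h3).le
  have hnorm : ∀ H : Subgroup A, H ≤ Subgroup.normalizer ((pCore r A : Subgroup A) : Set A) := by
    intro H
    rw [Subgroup.normalizer_eq_top]
    exact le_top
  refine Cfsg.Agent.Lib.Helper8.thompson_AxB r Y (S ⊓ pCore r A) hB hA hAB _ (pCore r A) rfl hTp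
    (hnorm _) (hnorm _) ?_
  have h4 := pCore_inf_centralizer_le S hSF hSsn hSC r
  have h5 : pCore r A ⊓ Subgroup.centralizer ((S ⊓ pCore r A : Subgroup A) : Set A)
      ≤ S ⊓ pCore r A := le_inf h4 inf_le_left
  refine h5.trans ?_
  rw [Subgroup.commutator_comm] at hAB
  exact Subgroup.commutator_eq_bot_iff_le_centralizer.mp hAB

/-- `Y` (a `p`-subgroup normalized by `S`) centralizes the layer. -/
theorem commutator_layer_eq_bot (p : ℕ) [hp : Fact p.Prime] (Y : Subgroup A)
    (hY : IsPGroup p ↥Y) (hSY : S ≤ Subgroup.normalizer (Y : Set A)) : ⁅layer A, Y⁆ = ⊥ := by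
  haveI hEn : (layer A).Normal := layer_normal
  have hES : layer A ≤ S := layer_le S hSF hSsn hSC
  have hEY : layer A ≤ Subgroup.normalizer (Y : Set A) := hES.trans hSY
  set H : Subgroup A := Y ⊓ layer A with hH
  have hHp : IsPGroup p ↥H := hY.to_le inf_le_left
  have hHs : Group.IsSolvable ↥H := by
    haveI := hHp.isNilpotent
    infer_instance
  have h1 : ⁅Y, layer A⁆ ≤ H := by
    refine le_inf ?_ (Subgroup.commutator_le_right _ _)
    exact Subgroup.le_normalizer_iff_commutator_le_left.mp hEY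
  have h2 : layer A ≤ Subgroup.centralizer (H : Set A) := by
    unfold layer
    apply sSup_le
    intro L hL
    have hLE : L ≤ layer A := le_layer hL
    have hLH : L ≤ Subgroup.normalizer (H : Set A) := by
      refine le_trans (le_inf (hLE.trans hEY) ?_) Subgroup.inf_normalizer_le_normalizer_inf
      rw [Subgroup.normalizer_eq_top]
      exact le_top
    have := Cfsg.Agent.Lib.Helper8.component_commutator_solvable hL hHs hLH
    exact Subgroup.commutator_eq_bot_iff_le_centralizer.mp this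
  have h3 : ⁅H, layer A⁆ = ⊥ := by
    rw [Subgroup.commutator_comm]
    exact Subgroup.commutator_eq_bot_iff_le_centralizer.mpr h2
  have h4 : ⁅⁅Y, layer A⁆, layer A⁆ = ⊥ := by
    rw [eq_bot_iff, ← h3]
    exact Subgroup.commutator_mono h1 le_rfl
  have h5 : ⁅⁅layer A, Y⁆, layer A⁆ = ⊥ := by
    rw [Subgroup.commutator_comm (layer A) Y]; exact h4
  have h6 : ⁅⁅layer A, layer A⁆, Y⁆ = ⊥ :=
    Subgroup.commutator_commutator_eq_bot_of_rotate h5 h4
  rwa [Cfsg.Agent.Lib.Helper8.layer_perfect] at h6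

/-- The `p'`-part of `F*(A)`. -/
def pPrimePart (p : ℕ) (A : Type u) [Group A] : Subgroup A :=
  layer A ⊔ ⨆ (r : Nat.Primes) (_ : (r : ℕ) ≠ p), pCore (r : ℕ) A

omit hSF hSsn hSC in
theorem gfs_le_pPrimePart_sup (p : ℕ) [hp : Fact p.Prime] :
    generalizedFittingSubgroup A ≤ pPrimePart p A ⊔ pCore p A := by
  unfold generalizedFittingSubgroup pPrimePart
  apply sup_le
  · exact le_sup_left.trans le_sup_left
  · rw [Cfsg.Agent.Lib.Helper1.fittingSubgroup_eq_iSup_pCore]
    apply iSup_le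
    intro q
    by_cases hq : (q : ℕ) = p
    · rw [hq]; exact le_sup_right
    · refine le_trans ?_ le_sup_left
      refine le_trans ?_ le_sup_right
      exact le_iSup₂ (f := fun (r : Nat.Primes) (_ : (r : ℕ) ≠ p) => pCore (r : ℕ) A) q hq

omit hSF hSsn hSC in
theorem pPrimePart_le_centralizer_pCore (p : ℕ) [hp : Fact p.Prime] :
    pPrimePart p A ≤ Subgroup.centralizer ((pCore p A : Subgroup A) : Set A) := by
  unfold pPrimePart
  apply sup_le
  · have h1 : layer A ≤ Subgroup.centralizer (fittingSubgroup A : Set A) :=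
      Subgroup.commutator_eq_bot_iff_le_centralizer.mp
        Cfsg.Agent.Lib.Helper8.commutator_layer_fitting
    exact h1.trans (Subgroup.centralizer_le (pCore_le_fittingSubgroup p))
  · apply iSup₂_le
    intro r hr
    haveI : Fact (r : ℕ).Prime := ⟨r.2⟩
    intro x hx
    rw [Subgroup.mem_centralizer_iff]
    intro y hy
    have hdis : Disjoint (pCore p A) (pCore (r : ℕ) A) :=
      IsPGroup.disjoint_of_ne p (r : ℕ) (Ne.symm hr) _ _ (pCore_isPGroup p) (pCore_isPGroup (r : ℕ))
    exact Subgroup.commute_of_normal_of_disjoint _ _ inferInstance inferInstance hdis y x hy hx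

omit hSF hSsn hSC in
/-- Every `p'`-element of `F*(A)` lies in the `p'`-part. -/
theorem mem_pPrimePart (p : ℕ) [hp : Fact p.Prime] (y : A)
    (hy : y ∈ generalizedFittingSubgroup A) (hyp : (orderOf y).Coprime p) :
    y ∈ pPrimePart p A := by
  haveI hKn : (pPrimePart p A).Normal := by
    haveI hEn : (layer A).Normal := layer_normal
    haveI : ∀ r : Nat.Primes, (⨆ (_ : (r : ℕ) ≠ p), pCore (r : ℕ) A).Normal := by
      intro r
      by_cases h : (r : ℕ) ≠ p
      · simp only [h, ne_eq, not_false_eq_true, iSup_pos]; infer_instance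
      · simp only [h, iSup_false]; infer_instance
    haveI : (⨆ (r : Nat.Primes) (_ : (r : ℕ) ≠ p), pCore (r : ℕ) A).Normal :=
      inferInstance
    unfold pPrimePart
    infer_instance
  have h1 := gfs_le_pPrimePart_sup (A := A) p hy
  rw [Subgroup.mem_sup_of_normal_left] at h1
  obtain ⟨c, hc, f, hf, hcf⟩ := h1
  have hcomm : Commute c f :=
    (Subgroup.mem_centralizer_iff.mp (pPrimePart_le_centralizer_pCore (A := A) p hc) f hf).symm
  obtain ⟨k, hk⟩ := (pCore_isPGroup (G := A) p) ⟨f, hf⟩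
  have hfk : f ^ p ^ k = 1 := by
    have := congrArg Subtype.val hk
    rwa [Subgroup.coe_pow, Subgroup.coe_one] at this
  have hyk : y ^ p ^ k = c ^ p ^ k := by
    rw [← hcf, hcomm.mul_pow, hfk, mul_one]
  obtain ⟨m, hm⟩ := exists_pow_eq_self_of_coprime (x := y) (n := p ^ k)
    (Nat.Coprime.pow_left k hyp.symm)
  rw [← hm, hyk]
  exact Subgroup.pow_mem _ (Subgroup.pow_mem _ hc _) _

/-- **Lemma L**: `Y` centralizes the `p'`-part of `F*(A)`. -/
theorem pPrimePart_le_centralizer (p : ℕ) [hp : Fact p.Prime] (Y : Subgroup A)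
    (hY : IsPGroup p ↥Y) (hSY : S ≤ Subgroup.normalizer (Y : Set A)) :
    pPrimePart p A ≤ Subgroup.centralizer (Y : Set A) := by
  unfold pPrimePart
  apply sup_le
  · exact Subgroup.commutator_eq_bot_iff_le_centralizer.mp
      (commutator_layer_eq_bot S hSF hSsn hSC p Y hY hSY)
  · apply iSup₂_le
    intro r hr
    haveI : Fact (r : ℕ).Prime := ⟨r.2⟩
    exact Subgroup.commutator_eq_bot_iff_le_centralizer.mp
      (commutator_pCore_eq_bot S hSF hSsn hSC p Y hY hSY (r : ℕ) hr)

/-- **Lemma L'**: if `p ∤ |F(A)|` then `Y = 1`. -/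
theorem eq_bot_of_not_dvd (p : ℕ) [hp : Fact p.Prime] (Y : Subgroup A)
    (hY : IsPGroup p ↥Y) (hSY : S ≤ Subgroup.normalizer (Y : Set A))
    (hpF : ¬ p ∣ Nat.card ↥(fittingSubgroup A)) : Y = ⊥ := by
  have hP : pCore p A = ⊥ := by
    by_contra hne
    apply hpF
    have h1 : Nat.card ↥(pCore p A) ∣ Nat.card ↥(fittingSubgroup A) :=
      Subgroup.card_dvd_of_le (pCore_le_fittingSubgroup p)
    refine dvd_trans ?_ h1
    obtain ⟨k, hk⟩ := (pCore_isPGroup (G := A) p).exists_card_eq
    rw [hk]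
    rcases Nat.eq_zero_or_pos k with h0 | h0
    · exfalso
      rw [h0, pow_zero] at hk
      exact hne (Subgroup.card_eq_one.mp hk)
    · exact dvd_pow_self p (Nat.pos_iff_ne_zero.mp h0)
  haveI hFn : (generalizedFittingSubgroup A).Normal :=
    Cfsg.Agent.Lib.Helper8.generalizedFittingSubgroup_normal
  have h1 : generalizedFittingSubgroup A ≤ Subgroup.centralizer (Y : Set A) := by
    have := gfs_le_pPrimePart_sup (A := A) p
    rw [hP, sup_bot_eq] at this
    exact this.trans (pPrimePart_le_centralizer S hSF hSsn hSC p Y hY hSY)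
  have h2 : Y ≤ generalizedFittingSubgroup A := by
    refine le_trans ?_ (Cfsg.Agent.Lib.Helper8.centralizer_generalizedFittingSubgroup_le (G := A))
    rw [← Subgroup.commutator_eq_bot_iff_le_centralizer, Subgroup.commutator_comm]
    exact Subgroup.commutator_eq_bot_iff_le_centralizer.mpr h1
  have h3 : (Y.subgroupOf (generalizedFittingSubgroup A)).Normal := by
    apply Subgroup.normal_subgroupOf_of_le_normalizer
    exact h1.trans (Subgroup.centralizer_le_normalizer _)
  have h4 : Y.IsSubnormal := Subgroup.IsSubnormal.trans h2 h3.isSubnormal hFn.isSubnormal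
  have h5 := Cfsg.Agent.Lib.Helper1.le_pCore_of_isSubnormal_of_isPGroup h4 hY
  rw [hP] at h5
  exact eq_bot_iff.mpr h5

end Main

end Cfsg.Agent.Lib.Helper2.BenderSub
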