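import Mathlib
import Cfsg.Prelude.Def_Local
import Cfsg.Prelude.Def_Transfer
import Cfsg.Agent.Lib.Helper2.BenderSub
import Cfsg.Agent.Lib.Helper8.PerfectP
import Cfsg.Agent.Lib.Helper7.PResidual

set_option autoImplicit false
open scoped commutatorElement

namespace Cfsg.Agent.Lib.Helper2.BenderSub

open Cfsg

universe u

section TypeLevel

variable {A : Type u} [Group A] [Finite A]

theorem normalizer_le_normalizer_centralizer_aux {X : Type u} [Group X] (H : Subgroup X) :
    Subgroup.normalizer (H : Set X) ≤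
      Subgroup.normalizer ((Subgroup.centralizer (H : Set X) : Subgroup X) : Set X) := by
  have key : ∀ g ∈ Subgroup.normalizer (H : Set X), ∀ z ∈ Subgroup.centralizer (H : Set X),
      g * z * g⁻¹ ∈ Subgroup.centralizer (H : Set X) := by
    intro g hg z hz
    rw [Subgroup.mem_centralizer_iff]
    intro h hh
    have h1 : g⁻¹ * h * g⁻¹⁻¹ ∈ H :=
      (Subgroup.mem_normalizer_iff.mp (Subgroup.inv_mem _ hg) h).mp hh
    have h2 := Subgroup.mem_centralizer_iff.mp hz _ h1
    have e1 : h * (g * z * g⁻¹) = g * ((g⁻¹ * h * g⁻¹⁻¹) * z) * g⁻¹ := by group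
    have e2 : g * z * g⁻¹ * h = g * (z * (g⁻¹ * h * g⁻¹⁻¹)) * g⁻¹ := by group
    rw [e1, e2, h2]
  intro g hg
  rw [Subgroup.mem_normalizer_iff]
  intro z
  constructor
  · exact key g hg z
  · intro hz
    have := key g⁻¹ (Subgroup.inv_mem _ hg) _ hz
    have e : g⁻¹ * (g * z * g⁻¹) * g⁻¹⁻¹ = z := by group
    rwa [e] at this

/-- The layer is generated by its `p'`-elements. -/
theorem layer_le_closure_coprime (p : ℕ) [hp : Fact p.Prime] :
    layer A ≤ Subgroup.closure {y : A | y ∈ layer A ∧ (orderOf y).Coprime p} := by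
  haveI hEn : (layer A).Normal := layer_normal
  set D : Subgroup A := Subgroup.closure {y : A | y ∈ layer A ∧ (orderOf y).Coprime p} with hD
  haveI hDn : D.Normal := by
    apply Cfsg.Agent.Lib.Helper7.closure_normal_of_conj_invariant
    intro g x hx
    refine ⟨hEn.conj_mem x hx.1 g, ?_⟩
    have : orderOf (g * x * g⁻¹) = orderOf x := by
      have := orderOf_injective (MulAut.conj g).toMonoidHom (MulAut.conj g).injective x
      simpa [MulAut.conj_apply] using this
    rw [this]; exact hx.2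
  apply Cfsg.Agent.Lib.Helper8.perfect_le_of_sylow_le Cfsg.Agent.Lib.Helper8.layer_perfect p
  · rw [Subgroup.normalizer_eq_top]; exact le_top
  · intro r hr hrp T
    rintro _ ⟨t, ht, rfl⟩
    apply Subgroup.subset_closure
    refine ⟨t.2, ?_⟩
    obtain ⟨k, hk⟩ := T.2 ⟨t, ht⟩
    have htk : (t : A) ^ r ^ k = 1 := by
      have h1 := congrArg Subtype.val hk
      have h2 := congrArg Subtype.val h1
      simpa using h2
    have h1 : orderOf (t : A) ∣ r ^ k := orderOf_dvd_of_pow_eq_one htk
    exact Nat.Coprime.coprime_dvd_left h1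
      (Nat.Coprime.pow_left k ((Nat.coprime_primes hr.out hp.out).mpr hrp))

variable (S : Subgroup A) (hSF : S ≤ generalizedFittingSubgroup A)
  (hSsn : (S.subgroupOf (generalizedFittingSubgroup A)).IsSubnormal)
  (hSC : generalizedFittingSubgroup A ⊓ Subgroup.centralizer (S : Set A) ≤ S)

include hSF hSsn hSC

/-- If `O_r(A) ≠ 1` there is a nontrivial normal subgroup of `A` inside `S ∩ O_r(A)`. -/
theorem exists_normal_le_inf_pCore (r : ℕ) [hr : Fact r.Prime] (hT : pCore r A ≠ ⊥) :
    ∃ Z : Subgroup A, Z.Normal ∧ Z ≠ ⊥ ∧ Z ≤ S ⊓ pCore r A := by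
  refine ⟨pCore r A ⊓ Subgroup.centralizer ((pCore r A : Subgroup A) : Set A), inferInstance,
    ?_, ?_⟩
  · haveI : Nontrivial ↥(pCore r A) := (Subgroup.nontrivial_iff_ne_bot _).mpr hT
    haveI := (pCore_isPGroup (G := A) r).center_nontrivial
    obtain ⟨z, hz⟩ := exists_ne (1 : Subgroup.center ↥(pCore r A))
    intro hbot
    apply hz
    have hmem : ((z : ↥(pCore r A)) : A) ∈
        pCore r A ⊓ Subgroup.centralizer ((pCore r A : Subgroup A) : Set A) := by
      refine Subgroup.mem_inf.mpr ⟨(z : ↥(pCore r A)).2, ?_⟩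
      rw [Subgroup.mem_centralizer_iff]
      intro t ht
      have := Subgroup.mem_center_iff.mp z.2 ⟨t, ht⟩
      exact congrArg Subtype.val this
    rw [hbot, Subgroup.mem_bot] at hmem
    apply Subtype.ext
    apply Subtype.ext
    simpa using hmem
  · have h1 := pCore_inf_centralizer_le S hSF hSsn hSC r
    refine le_inf (le_trans ?_ h1) inf_le_left
    exact inf_le_inf_left _ (Subgroup.centralizer_le inf_le_right)

/-- If the `p'`-part of `F*(A)` is nontrivial there is a nontrivial normal subgroup of `A`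
generated by `p'`-elements of `S`. -/
theorem exists_normal_le_closure (p : ℕ) [hp : Fact p.Prime] (hK : pPrimePart p A ≠ ⊥) :
    ∃ N : Subgroup A, N.Normal ∧ N ≠ ⊥ ∧
      N ≤ Subgroup.closure {y : A | y ∈ S ∧ (orderOf y).Coprime p} := by
  by_cases hE : layer A = ⊥
  · have : ∃ r : Nat.Primes, (r : ℕ) ≠ p ∧ pCore (r : ℕ) A ≠ ⊥ := by
      by_contra hcon
      push Not at hcon
      apply hK
      unfold pPrimePart
      rw [hE, bot_sup_eq, eq_bot_iff]
      apply iSup₂_le
      intro r hr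
      rw [hcon r hr]
    obtain ⟨r, hrp, hT⟩ := this
    haveI : Fact (r : ℕ).Prime := ⟨r.2⟩
    obtain ⟨Z, hZn, hZ1, hZle⟩ := exists_normal_le_inf_pCore S hSF hSsn hSC (r : ℕ) hT
    refine ⟨Z, hZn, hZ1, ?_⟩
    intro z hz
    apply Subgroup.subset_closure
    refine ⟨(hZle hz).1, ?_⟩
    obtain ⟨k, hk⟩ := (pCore_isPGroup (G := A) (r : ℕ)) ⟨z, (hZle hz).2⟩
    have hzk : z ^ (r : ℕ) ^ k = 1 := by
      have := congrArg Subtype.val hk
      rwa [Subgroup.coe_pow, Subgroup.coe_one] at this
    have h1 : orderOf z ∣ (r : ℕ) ^ k := orderOf_dvd_of_pow_eq_one hzk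
    exact Nat.Coprime.coprime_dvd_left h1
      (Nat.Coprime.pow_left k ((Nat.coprime_primes r.2 hp.out).mpr hrp))
  · refine ⟨layer A, layer_normal, hE, ?_⟩
    refine (layer_le_closure_coprime (A := A) p).trans ?_
    apply Subgroup.closure_mono
    intro y hy
    exact ⟨layer_le S hSF hSsn hSC hy.1, hy.2⟩

end TypeLevel

section Ambient

variable {G : Type u} [Group G] [Finite G]

theorem le_normalizer_map_subtype {B : Subgroup G} (N : Subgroup ↥B) [hN : N.Normal] :
    B ≤ Subgroup.normalizer ((N.map B.subtype : Subgroup G) : Set G) := by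
  have h := Subgroup.le_normalizer_map (H := N) B.subtype
  rw [Subgroup.normalizer_eq_top, ← MonoidHom.range_eq_map, Subgroup.range_subtype] at h
  exact h

theorem centralizer_map_le_of_isCoatom [IsSimpleGroup G] {A : Subgroup G} (hA : IsCoatom A)
    (N : Subgroup ↥A) [hN : N.Normal] (hN1 : N ≠ ⊥) :
    Subgroup.centralizer ((N.map A.subtype : Subgroup G) : Set G) ≤ A := by
  have h1 : A ≤ Subgroup.normalizer ((N.map A.subtype : Subgroup G) : Set G) :=
    le_normalizer_map_subtype N
  rcases hA.le_iff.mp h1 with h | h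
  · exfalso
    have hn : (N.map A.subtype).Normal := Subgroup.normalizer_eq_top_iff.mp h
    rcases hn.eq_bot_or_eq_top with h2 | h2
    · exact hN1 ((Subgroup.map_eq_bot_iff_of_injective _ A.subtype_injective).mp h2)
    · apply hA.1
      rw [eq_top_iff, ← h2]
      exact Subgroup.map_subtype_le _
  · exact (Subgroup.centralizer_le_normalizer _).trans h.le

variable (A S : Subgroup G)
  (hSF : S ≤ (generalizedFittingSubgroup ↥A).map A.subtype)
  (hSsn : (S.subgroupOf ((generalizedFittingSubgroup ↥A).map A.subtype)).IsSubnormal)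
  (hSC : (generalizedFittingSubgroup ↥A).map A.subtype ⊓ Subgroup.centralizer (S : Set G) ≤ S)

include hSF

theorem S_le : S ≤ A := hSF.trans (Subgroup.map_subtype_le _)

theorem subgroupOf_le_gfs : S.subgroupOf A ≤ generalizedFittingSubgroup ↥A := by
  intro x hx
  obtain ⟨z, hz, hzx⟩ := hSF (Subgroup.mem_subgroupOf.mp hx)
  have : z = x := Subtype.ext hzx
  rwa [← this]

include hSsn

theorem subgroupOf_isSubnormal :
    ((S.subgroupOf A).subgroupOf (generalizedFittingSubgroup ↥A)).IsSubnormal := by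
  set F := generalizedFittingSubgroup ↥A with hF
  let φ : ↥F →* ↥(F.map A.subtype) :=
    (F.equivMapOfInjective A.subtype A.subtype_injective).toMonoidHom
  have h := hSsn.comap φ
  have e : (S.subgroupOf (F.map A.subtype)).comap φ = (S.subgroupOf A).subgroupOf F := by
    ext x
    simp only [Subgroup.mem_comap, Subgroup.mem_subgroupOf]
    rfl
  rwa [e] at h

include hSC

theorem inf_centralizer_subgroupOf_le :
    generalizedFittingSubgroup ↥A ⊓
      Subgroup.centralizer ((S.subgroupOf A : Subgroup ↥A) : Set ↥A) ≤ S.subgroupOf A := by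
  intro x hx
  obtain ⟨hxF, hxc⟩ := Subgroup.mem_inf.mp hx
  rw [Subgroup.mem_subgroupOf]
  apply hSC
  refine Subgroup.mem_inf.mpr ⟨⟨x, hxF, rfl⟩, ?_⟩
  rw [Subgroup.mem_centralizer_iff]
  intro s hs
  have hsA : s ∈ A := S_le A S hSF hs
  have := Subgroup.mem_centralizer_iff.mp hxc ⟨s, hsA⟩ (Subgroup.mem_subgroupOf.mpr hs)
  exact congrArg Subtype.val this

theorem commute_of_normalized (p : ℕ) [hp : Fact p.Prime] (Y : Subgroup G) (hYA : Y ≤ A)
    (hY : IsPGroup p ↥Y) (hSY : S ≤ Subgroup.normalizer (Y : Set G))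
    (y : ↥A) (hy : y ∈ generalizedFittingSubgroup ↥A) (hyp : (orderOf y).Coprime p)
    (x : G) (hx : x ∈ Y) : x * (y : G) = (y : G) * x := by
  have hY' : IsPGroup p ↥(Y.subgroupOf A) := hY.comap_subtype
  have hSY' : S.subgroupOf A ≤ Subgroup.normalizer ((Y.subgroupOf A : Subgroup ↥A) : Set ↥A) :=
    (Subgroup.comap_mono hSY).trans (Subgroup.le_normalizer_comap A.subtype)
  have h1 := pPrimePart_le_centralizer (S.subgroupOf A) (subgroupOf_le_gfs A S hSF)
    (subgroupOf_isSubnormal A S hSF hSsn) (inf_centralizer_subgroupOf_le A S hSF hSsn hSC) p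
    (Y.subgroupOf A) hY' hSY'
  have h2 := mem_pPrimePart p y hy hyp
  have h3 := Subgroup.mem_centralizer_iff.mp (h1 h2) ⟨x, hYA hx⟩ (Subgroup.mem_subgroupOf.mpr hx)
  exact congrArg Subtype.val h3

theorem eq_bot_of_normalized (p : ℕ) [hp : Fact p.Prime] (Y : Subgroup G) (hYA : Y ≤ A)
    (hY : IsPGroup p ↥Y) (hSY : S ≤ Subgroup.normalizer (Y : Set G))
    (hpF : ¬ p ∣ Nat.card ↥(fittingSubgroup ↥A)) : Y = ⊥ := by
  have hY' : IsPGroup p ↥(Y.subgroupOf A) := hY.comap_subtype
  have hSY' : S.subgroupOf A ≤ Subgroup.normalizer ((Y.subgroupOf A : Subgroup ↥A) : Set ↥A) :=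
    (Subgroup.comap_mono hSY).trans (Subgroup.le_normalizer_comap A.subtype)
  have h1 := eq_bot_of_not_dvd (S.subgroupOf A) (subgroupOf_le_gfs A S hSF)
    (subgroupOf_isSubnormal A S hSF hSsn) (inf_centralizer_subgroupOf_le A S hSF hSsn hSC) p
    (Y.subgroupOf A) hY' hSY' hpF
  rw [Subgroup.subgroupOf_eq_bot] at h1
  exact h1.eq_bot_of_le hYA

theorem part_a (B : Subgroup G) (hSB : S ≤ B) (q : ℕ) (hq : q.Prime)
    (hqF : ¬ q ∣ Nat.card ↥(fittingSubgroup ↥A)) :
    (pCore q ↥B).map B.subtype ⊓ A = ⊥ := by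
  haveI : Fact q.Prime := ⟨hq⟩
  apply eq_bot_of_normalized A S hSF hSsn hSC q _ inf_le_right _ _ hqF
  · exact ((pCore_isPGroup (G := ↥B) q).map B.subtype).to_le inf_le_left
  · refine le_trans (le_inf ?_ ?_) Subgroup.inf_normalizer_le_normalizer_inf
    · exact hSB.trans (le_normalizer_map_subtype _)
    · exact (S_le A S hSF).trans Subgroup.le_normalizer

theorem part_b [IsSimpleGroup G] (hA : IsCoatom A) (B : Subgroup G) (hSB : S ≤ B) (p : ℕ)
    [hp : Fact p.Prime] (hpF : p ∣ Nat.card ↥(fittingSubgroup ↥A))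
    (y : ↥A) (hy : y ∈ generalizedFittingSubgroup ↥A) (hyp : (orderOf y).Coprime p)
    (x : G) (hx : x ∈ (pCore p ↥B).map B.subtype) : x * (y : G) = (y : G) * x := by
  set Yb : Subgroup G := (pCore p ↥B).map B.subtype with hYb
  have hSA := S_le A S hSF
  have hSF' := subgroupOf_le_gfs A S hSF
  have hSsn' := subgroupOf_isSubnormal A S hSF hSsn
  have hSC' := inf_centralizer_subgroupOf_le A S hSF hSsn hSC
  have hYbp : IsPGroup p ↥Yb := (pCore_isPGroup (G := ↥B) p).map B.subtype
  have hBYb : B ≤ Subgroup.normalizer (Yb : Set G) := le_normalizer_map_subtype _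
  have hSYb : S ≤ Subgroup.normalizer (Yb : Set G) := hSB.trans hBYb
  by_cases hK : pPrimePart p ↥A = ⊥
  · have := mem_pPrimePart p y hy hyp
    rw [hK, Subgroup.mem_bot] at this
    rw [this]; simp
  suffices hYbA : Yb ≤ A from
    commute_of_normalized A S hSF hSsn hSC p Yb hYbA hYbp hSYb y hy hyp x hx
  have hP : pCore p ↥A ≠ ⊥ := by
    intro hbot
    obtain ⟨g, hg⟩ := exists_prime_orderOf_dvd_card' p hpF
    have hg1 : (g : ↥A) ^ p ^ 1 = 1 := by
      rw [pow_one, ← Subgroup.coe_pow, ← hg, pow_orderOf_eq_one, Subgroup.coe_one]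
    have := mem_pCore_of_mem_fitting p (g : ↥A) g.2 1 hg1
    rw [hbot, Subgroup.mem_bot] at this
    have hg2 : g = 1 := Subtype.ext this
    rw [hg2, orderOf_one] at hg
    exact hp.out.one_lt.ne hg
  obtain ⟨Z, hZn, hZ1, hZle⟩ :=
    exists_normal_le_inf_pCore (S.subgroupOf A) hSF' hSsn' hSC' p hP
  set P : Subgroup G := (pCore p ↥A).map A.subtype with hPdef
  set R : Subgroup G := S ⊓ P with hRdef
  have hRA : R ≤ A := inf_le_left.trans hSA
  have hRp : IsPGroup p ↥R := ((pCore_isPGroup (G := ↥A) p).map A.subtype).to_le inf_le_right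
  have hSR : S ≤ Subgroup.normalizer (R : Set G) :=
    le_trans (le_inf Subgroup.le_normalizer (hSA.trans (le_normalizer_map_subtype _)))
      Subgroup.inf_normalizer_le_normalizer_inf
  have hZR : Z.map A.subtype ≤ R := by
    refine le_inf ?_ ?_
    · rintro _ ⟨z, hz, rfl⟩
      exact Subgroup.mem_subgroupOf.mp (hZle hz).1
    · exact Subgroup.map_mono (hZle.trans inf_le_right)
  have hCR : Subgroup.centralizer (R : Set G) ≤ A :=
    (Subgroup.centralizer_le hZR).trans (centralizer_map_le_of_isCoatom hA Z hZ1)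
  have hR_comm := commute_of_normalized A S hSF hSsn hSC p R hRA hRp hSR
  set Y1 : Subgroup G := Yb ⊓ Subgroup.centralizer (R : Set G) with hY1def
  have hY1A : Y1 ≤ A := inf_le_right.trans hCR
  have hY1p : IsPGroup p ↥Y1 := hYbp.to_le inf_le_left
  have hSY1 : S ≤ Subgroup.normalizer (Y1 : Set G) :=
    le_trans (le_inf hSYb (hSR.trans (normalizer_le_normalizer_centralizer_aux R)))
      Subgroup.inf_normalizer_le_normalizer_inf
  have hY1_comm := commute_of_normalized A S hSF hSsn hSC p Y1 hY1A hY1p hSY1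
  have hAxB : ∀ s : ↥A, (s : G) ∈ S → (orderOf s).Coprime p →
      (s : G) ∈ Subgroup.centralizer (Yb : Set G) := by
    intro s hsS hsp
    have hsF : s ∈ generalizedFittingSubgroup ↥A := hSF' (Subgroup.mem_subgroupOf.mpr hsS)
    have hord : orderOf (s : G) = orderOf s := Subgroup.orderOf_coe s
    have hcardA : (Nat.card ↥(Subgroup.zpowers (s : G))).Coprime p := by
      rw [Nat.card_zpowers, hord]; exact hsp
    have hAB : ⁅Subgroup.zpowers (s : G), R⁆ = ⊥ := by
      rw [Subgroup.commutator_eq_bot_iff_le_centralizer, Subgroup.zpowers_le,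
        Subgroup.mem_centralizer_iff]
      intro h hh
      exact hR_comm s hsF hsp h hh
    have hC : Yb ⊓ Subgroup.centralizer (R : Set G) ≤
        Subgroup.centralizer ((Subgroup.zpowers (s : G) : Subgroup G) : Set G) := by
      rw [Subgroup.le_centralizer_iff, Subgroup.zpowers_le, Subgroup.mem_centralizer_iff]
      intro h hh
      exact hY1_comm s hsF hsp h hh
    have := Cfsg.Agent.Lib.Helper8.thompson_AxB p (Subgroup.zpowers (s : G)) R hRp hcardA hAB _
      Yb rfl hYbp (Subgroup.zpowers_le.mpr (hSYb hsS)) (inf_le_left.trans hSYb) hC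
    rw [Subgroup.commutator_eq_bot_iff_le_centralizer, Subgroup.le_centralizer_iff,
      Subgroup.zpowers_le] at this
    exact this
  obtain ⟨N, hNn, hN1, hNle⟩ := exists_normal_le_closure (S.subgroupOf A) hSF' hSsn' hSC' p hK
  have hNc : N.map A.subtype ≤ Subgroup.centralizer (Yb : Set G) := by
    refine (Subgroup.map_mono hNle).trans ?_
    rw [MonoidHom.map_closure, Subgroup.closure_le]
    rintro _ ⟨s, ⟨hsS, hsp⟩, rfl⟩
    exact hAxB s (Subgroup.mem_subgroupOf.mp hsS) hsp
  refine le_trans ?_ (centralizer_map_le_of_isCoatom hA N hN1)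
  exact Subgroup.le_centralizer_iff.mp hNc

theorem main [IsSimpleGroup G] (hA : IsCoatom A) (B : Subgroup G) (hSB : S ≤ B) :
    (∀ q : ℕ, q.Prime → ¬ q ∣ Nat.card (fittingSubgroup ↥A) →
      (pCore q ↥B).map B.subtype ⊓ A = ⊥) ∧
    (∀ p : ℕ, p.Prime → p ∣ Nat.card (fittingSubgroup ↥A) →
      ∀ x ∈ (pCore p ↥B).map B.subtype,
      ∀ y ∈ (pResidual p ↥(generalizedFittingSubgroup ↥A)).map
        ((generalizedFittingSubgroup ↥A).subtype), x * (A.subtype y) = (A.subtype y) * x) := by
  refine ⟨fun q hq hqF => part_a A S hSF hSsn hSC B hSB q hq hqF, ?_⟩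
  intro p hp hpF x hx y hy
  haveI : Fact p.Prime := ⟨hp⟩
  have hle : (pResidual p ↥(generalizedFittingSubgroup ↥A)).map
      ((generalizedFittingSubgroup ↥A).subtype) ≤
      (Subgroup.centralizer ({x} : Set G)).comap A.subtype := by
    rw [Subgroup.map_le_iff_le_comap]
    unfold pResidual
    rw [Subgroup.closure_le]
    intro g hg
    rw [SetLike.mem_coe, Subgroup.mem_comap, Subgroup.mem_comap,
      Subgroup.mem_centralizer_singleton_iff]
    have hg' : (orderOf (g : ↥A)).Coprime p := by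
      rw [Subgroup.orderOf_coe]; exact hg
    exact (part_b A S hSF hSsn hSC hA B hSB p hpF (g : ↥A) g.2 hg' x hx).symm
  have h := hle hy
  rw [Subgroup.mem_comap, Subgroup.mem_centralizer_singleton_iff] at h
  exact h.symm

end Ambient

end Cfsg.Agent.Lib.Helper2.BenderSub
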