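import Mathlib
import Cfsg.Prelude.Def_KGroupFacts

/-!
# Central extensions defined by bimultiplicative maps
-/

set_option autoImplicit false

namespace Cfsg.Agent.Lib.Helper2

open scoped commutatorElement

/-- A bimultiplicative map `G × G → A`. -/
structure Bimul (A G : Type*) [CommGroup A] [Group G] where
  toFun : G → G → A
  map_mul_left : ∀ g g' h, toFun (g * g') h = toFun g h * toFun g' h
  map_mul_right : ∀ g h h', toFun g (h * h') = toFun g h * toFun g h'

namespace Bimul

variable {A G : Type*} [CommGroup A] [Group G] (β : Bimul A G)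

theorem map_one_left (h : G) : β.toFun 1 h = 1 := by
  have := β.map_mul_left 1 1 h
  rw [mul_one] at this
  exact (mul_eq_left.1 this.symm)

theorem map_one_right (g : G) : β.toFun g 1 = 1 := by
  have := β.map_mul_right g 1 1
  rw [mul_one] at this
  exact (mul_eq_left.1 this.symm)

theorem map_inv_left (g h : G) : β.toFun g⁻¹ h = (β.toFun g h)⁻¹ := by
  have := β.map_mul_left g⁻¹ g h
  rw [inv_mul_cancel, map_one_left] at this
  exact eq_inv_of_mul_eq_one_left this.symm

theorem map_inv_right (g h : G) : β.toFun g h⁻¹ = (β.toFun g h)⁻¹ := by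
  have := β.map_mul_right g h⁻¹ h
  rw [inv_mul_cancel, map_one_right] at this
  exact eq_inv_of_mul_eq_one_left this.symm

end Bimul

/-- The central extension of `G` by `A` with multiplication
`(a, g) (b, h) = (a b β(g, h), g h)`. -/
@[ext]
structure BilinExt {A G : Type*} [CommGroup A] [Group G] (β : Bimul A G) where
  fst : A
  snd : G

namespace BilinExt

variable {A G : Type*} [CommGroup A] [Group G] {β : Bimul A G}

instance : Mul (BilinExt β) := ⟨fun x y => ⟨x.fst * y.fst * β.toFun x.snd y.snd, x.snd * y.snd⟩⟩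
instance : One (BilinExt β) := ⟨⟨1, 1⟩⟩
instance : Inv (BilinExt β) := ⟨fun x => ⟨x.fst⁻¹ * β.toFun x.snd x.snd, x.snd⁻¹⟩⟩

@[simp] theorem mul_fst (x y : BilinExt β) :
    (x * y).fst = x.fst * y.fst * β.toFun x.snd y.snd := rfl
@[simp] theorem mul_snd (x y : BilinExt β) : (x * y).snd = x.snd * y.snd := rfl
@[simp] theorem one_fst : (1 : BilinExt β).fst = 1 := rfl
@[simp] theorem one_snd : (1 : BilinExt β).snd = 1 := rfl
@[simp] theorem inv_fst (x : BilinExt β) : (x⁻¹).fst = x.fst⁻¹ * β.toFun x.snd x.snd := rfl
@[simp] theorem inv_snd (x : BilinExt β) : (x⁻¹).snd = x.snd⁻¹ := rfl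

instance : Group (BilinExt β) where
  mul_assoc x y z := by
    ext
    · simp only [mul_fst, mul_snd, β.map_mul_left, β.map_mul_right]
      simp only [mul_assoc, mul_left_comm, mul_comm]
    · simp [mul_assoc]
  one_mul x := by
    ext
    · simp [β.map_one_left]
    · simp
  mul_one x := by
    ext
    · simp [β.map_one_right]
    · simp
  inv_mul_cancel x := by
    ext
    · simp only [mul_fst, inv_fst, inv_snd, one_fst, β.map_inv_left]
      rw [mul_comm x.fst⁻¹, mul_assoc, mul_assoc, inv_mul_cancel_left, mul_inv_cancel]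
    · simp

/-- the projection to `G` -/
def proj (β : Bimul A G) : BilinExt β →* G where
  toFun x := x.snd
  map_one' := rfl
  map_mul' _ _ := rfl

@[simp] theorem proj_apply (x : BilinExt β) : proj β x = x.snd := rfl

theorem proj_surjective : Function.Surjective (proj β) := fun g => ⟨⟨1, g⟩, rfl⟩

theorem mem_ker_proj (x : BilinExt β) : x ∈ (proj β).ker ↔ x.snd = 1 := Iff.rfl

theorem ker_proj_le_center : (proj β).ker ≤ Subgroup.center (BilinExt β) := by
  intro x hx
  rw [mem_ker_proj] at hx
  rw [Subgroup.mem_center_iff]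
  intro y
  ext
  · simp only [mul_fst, hx, β.map_one_left, β.map_one_right]
    rw [mul_comm y.fst]
  · simp [hx]

/-- the kernel of the projection is `A` -/
def kerEquiv (β : Bimul A G) : (proj β).ker ≃* A where
  toFun x := x.1.fst
  invFun a := ⟨⟨a, 1⟩, rfl⟩
  left_inv x := by
    apply Subtype.ext
    ext
    · rfl
    · exact ((mem_ker_proj x.1).1 x.2).symm
  right_inv a := rfl
  map_mul' x y := by
    show (x.1 * y.1).fst = x.1.fst * y.1.fst
    rw [mul_fst, (mem_ker_proj x.1).1 x.2, β.map_one_left, mul_one]

/-- commutator of elements over commuting elements of `G` -/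
theorem commutator_eq (x y : BilinExt β) (h : x.snd * y.snd = y.snd * x.snd) :
    ⁅x, y⁆ = ⟨β.toFun x.snd y.snd * (β.toFun y.snd x.snd)⁻¹, 1⟩ := by
  have h1 : x * y = (⟨β.toFun x.snd y.snd * (β.toFun y.snd x.snd)⁻¹, 1⟩ : BilinExt β) * (y * x) := by
    ext
    · simp only [mul_fst, mul_snd, β.map_one_left, mul_one]
      rw [mul_comm y.fst x.fst]
      calc x.fst * y.fst * β.toFun x.snd y.snd
          = β.toFun x.snd y.snd * (β.toFun y.snd x.snd)⁻¹ * β.toFun y.snd x.snd * (x.fst * y.fst) := by
            rw [inv_mul_cancel_right, mul_comm]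
        _ = _ := by
            simp only [mul_assoc, mul_left_comm, mul_comm]
    · simp [h]
  rw [commutatorElement_def, h1]
  group

instance [Finite A] [Finite G] : Finite (BilinExt β) :=
  Finite.of_injective (fun x : BilinExt β => (x.fst, x.snd)) (by
    intro x y h
    ext
    · exact congrArg Prod.fst h
    · exact congrArg Prod.snd h)

end BilinExt

end Cfsg.Agent.Lib.Helper2
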