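import Mathlib

/-! Blichfeldt's sixty-degree lemma, part A: spectral projections of a finite-order
isometry and the basic inequalities. -/

set_option autoImplicit false

namespace Cfsg.Agent.Lib.Helper2.Blich

open scoped ComplexConjugate InnerProductSpace

variable {E : Type*} [NormedAddCommGroup E] [InnerProductSpace ℂ E]

/-- Eigenvectors of an inner-product preserving map for distinct eigenvalues (one of norm 1)
are orthogonal. -/
theorem inner_eq_zero_of_eigen (T : Module.End ℂ E)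
    (hiso : ∀ u v : E, ⟪T u, T v⟫_ℂ = ⟪u, v⟫_ℂ) {a b : ℂ} {u v : E}
    (hu : T u = a • u) (hv : T v = b • v) (ha : ‖a‖ = 1) (hab : a ≠ b) : ⟪u, v⟫_ℂ = 0 := by
  have h1 := hiso u v
  rw [hu, hv, inner_smul_left, inner_smul_right] at h1
  by_contra hne
  have h2 : conj a * b = 1 := by
    have h3 : (conj a * b - 1) * ⟪u, v⟫_ℂ = 0 := by linear_combination h1
    rcases mul_eq_zero.mp h3 with h | h
    · linear_combination h
    · exact absurd h hne
  have h4 : a * conj a = 1 := by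
    rw [Complex.mul_conj, Complex.normSq_eq_norm_sq, ha]; norm_num
  apply hab
  calc a = a * (conj a * b) := by rw [h2, mul_one]
    _ = (a * conj a) * b := by ring
    _ = b := by rw [h4, one_mul]

/-- Pythagoras for a finite pairwise orthogonal family. -/
theorem norm_sq_sum_of_orth {ι : Type*} [DecidableEq ι] (s : Finset ι) (w : ι → E)
    (horth : ∀ i ∈ s, ∀ j ∈ s, i ≠ j → ⟪w i, w j⟫_ℂ = 0) :
    ‖∑ i ∈ s, w i‖ ^ 2 = ∑ i ∈ s, ‖w i‖ ^ 2 := by
  induction s using Finset.induction_on with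
  | empty => simp
  | insert a s ha ih =>
    rw [Finset.sum_insert ha, Finset.sum_insert ha]
    have h0 : ⟪w a, ∑ i ∈ s, w i⟫_ℂ = 0 := by
      rw [inner_sum]
      apply Finset.sum_eq_zero
      intro i hi
      apply horth a (Finset.mem_insert_self a s) i (Finset.mem_insert_of_mem hi)
      rintro rfl
      exact ha hi
    have h1 := norm_add_sq_eq_norm_sq_add_norm_sq_of_inner_eq_zero (𝕜 := ℂ) (w a) (∑ i ∈ s, w i) h0
    have ih' := ih (fun i hi j hj hij =>
      horth i (Finset.mem_insert_of_mem hi) j (Finset.mem_insert_of_mem hj) hij)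
    rw [← ih']
    nlinarith [h1]

/-- The averaging operator `Q z = (1/m) ∑_{k<m} z⁻ᵏ Tᵏ`. -/
noncomputable def Q (T : Module.End ℂ E) (m : ℕ) (z : ℂ) : Module.End ℂ E :=
  ((m : ℂ)⁻¹) • ∑ k ∈ Finset.range m, (z⁻¹) ^ k • T ^ k

theorem T_mul_Q (T : Module.End ℂ E) {m : ℕ} (hTm : T ^ m = 1) {z : ℂ} (hz : z ^ m = 1)
    (hz0 : z ≠ 0) : T * Q T m z = z • Q T m z := by
  have key : T * ∑ k ∈ Finset.range m, (z⁻¹) ^ k • T ^ k
      = z • ∑ k ∈ Finset.range m, (z⁻¹) ^ k • T ^ k := by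
    rw [Finset.mul_sum]
    have h1 : ∀ k ∈ Finset.range m,
        T * ((z⁻¹) ^ k • T ^ k) = z • ((z⁻¹) ^ (k + 1) • T ^ (k + 1)) := by
      intro k _
      rw [mul_smul_comm, smul_smul, pow_succ (z⁻¹) k, ← pow_succ' T k]
      congr 1
      field_simp
    rw [Finset.sum_congr rfl h1, ← Finset.smul_sum]
    congr 1
    have h2 := Finset.sum_range_succ' (fun k => (z⁻¹) ^ k • T ^ k) m
    have h3 := Finset.sum_range_succ (fun k => (z⁻¹) ^ k • T ^ k) m
    have h4 : (z⁻¹) ^ m • T ^ m = (z⁻¹) ^ 0 • T ^ 0 := by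
      rw [hTm, inv_pow, hz]; simp
    rw [h3, h4] at h2
    exact (add_right_cancel h2).symm
  unfold Q
  rw [mul_smul_comm, key, smul_comm]

theorem pow_apply_of_eigen (T : Module.End ℂ E) {z : ℂ} {w : E} (hw : T w = z • w) (k : ℕ) :
    (T ^ k) w = z ^ k • w := by
  induction k with
  | zero => simp
  | succ k ih =>
    rw [pow_succ, Module.End.mul_apply, hw, map_smul, ih, smul_smul, pow_succ, mul_comm]

theorem Q_apply_of_eigen (T : Module.End ℂ E) {m : ℕ} (hm : 0 < m) {z : ℂ} (hz0 : z ≠ 0) {w : E}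
    (hw : T w = z • w) : Q T m z w = w := by
  unfold Q
  rw [LinearMap.smul_apply, LinearMap.sum_apply]
  have h1 : ∀ k ∈ Finset.range m, ((z⁻¹) ^ k • T ^ k) w = w := by
    intro k _
    rw [LinearMap.smul_apply, pow_apply_of_eigen T hw, smul_smul, ← mul_pow, inv_mul_cancel₀ hz0,
      one_pow, one_smul]
  rw [Finset.sum_congr rfl h1, Finset.sum_const, Finset.card_range, ← Nat.cast_smul_eq_nsmul ℂ,
    smul_smul, inv_mul_cancel₀ (by exact_mod_cast hm.ne'), one_smul]

theorem Q_mem_of_invariant (T : Module.End ℂ E) (m : ℕ) (z : ℂ) (U : Submodule ℂ E)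
    (hU : ∀ u ∈ U, T u ∈ U) {u : E} (hu : u ∈ U) : Q T m z u ∈ U := by
  unfold Q
  rw [LinearMap.smul_apply, LinearMap.sum_apply]
  apply U.smul_mem
  apply U.sum_mem
  intro k _
  rw [LinearMap.smul_apply]
  apply U.smul_mem
  have : ∀ k : ℕ, (T ^ k) u ∈ U := by
    intro k
    induction k with
    | zero => simpa using hu
    | succ k ih => rw [pow_succ', Module.End.mul_apply]; exact hU _ ih
  exact this k

/-- The spectral projections sum to the identity. -/
theorem sum_Q (T : Module.End ℂ E) {m : ℕ} (hm : 0 < m) {ζ : ℂ} (hζ : IsPrimitiveRoot ζ m) :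
    ∑ j ∈ Finset.range m, Q T m (ζ ^ j) = 1 := by
  unfold Q
  rw [← Finset.smul_sum, Finset.sum_comm]
  have h1 : ∀ k ∈ Finset.range m, ∑ j ∈ Finset.range m, ((ζ ^ j)⁻¹) ^ k • T ^ k
      = (if k = 0 then (m : ℂ) else 0) • T ^ k := by
    intro k hk
    rw [← Finset.sum_smul]
    congr 1
    have h2 : ∀ j ∈ Finset.range m, ((ζ ^ j)⁻¹) ^ k = ((ζ ^ k)⁻¹) ^ j := by
      intro j _
      rw [inv_pow, inv_pow, ← pow_mul, ← pow_mul, mul_comm]
    rw [Finset.sum_congr rfl h2]
    split_ifs with hk0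
    · subst hk0
      simp
    · have hne : (ζ ^ k)⁻¹ ≠ 1 := by
        intro h
        apply hζ.pow_ne_one_of_pos_of_lt hk0 (Finset.mem_range.mp hk)
        exact inv_eq_one.mp h
      rw [geom_sum_eq hne, inv_pow, ← pow_mul, mul_comm, pow_mul, hζ.pow_eq_one]
      simp
  rw [Finset.sum_congr rfl h1, Finset.sum_eq_single 0]
  · simp only [if_true, pow_zero]
    rw [smul_smul, inv_mul_cancel₀ (by exact_mod_cast hm.ne'), one_smul]
  · intro k _ hk0
    simp [hk0]
  · intro h
    exact absurd (Finset.mem_range.mpr hm) h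

end Cfsg.Agent.Lib.Helper2.Blich
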