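import Mathlib
import Cfsg.Agent.Lib.Helper2.BlichA

/-! Blichfeldt's sixty-degree lemma, part B: operators all of whose eigenvalues are within
sixty degrees of `1`. -/

set_option autoImplicit false

namespace Cfsg.Agent.Lib.Helper2.Blich

open scoped ComplexConjugate InnerProductSpace

variable {E : Type*} [NormedAddCommGroup E] [InnerProductSpace ℂ E]

/-- A finite-order isometry all of whose eigenvalues different from `1` are at distance less
than `1` from `1`. -/
structure Good (T : Module.End ℂ E) (m : ℕ) : Prop where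
  pos : 0 < m
  iso : ∀ u v : E, ⟪T u, T v⟫_ℂ = ⟪u, v⟫_ℂ
  pow : T ^ m = 1
  close : ∀ τ : ℂ, T.HasEigenvalue τ → τ ≠ 1 → ‖τ - 1‖ < 1

/-- The projection onto the fixed space. -/
noncomputable abbrev P (T : Module.End ℂ E) (m : ℕ) : Module.End ℂ E := Q T m 1

theorem Good.T_P {T : Module.End ℂ E} {m : ℕ} (h : Good T m) (u : E) :
    T (P T m u) = P T m u := by
  have h1 := T_mul_Q T h.pow (z := 1) (one_pow m) one_ne_zero
  have h2 := congrArg (fun f : Module.End ℂ E => f u) h1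
  simpa using h2

theorem Good.P_of_fixed {T : Module.End ℂ E} {m : ℕ} (h : Good T m) {w : E} (hw : T w = w) :
    P T m w = w :=
  Q_apply_of_eigen T h.pos one_ne_zero (by simpa using hw)

theorem Good.norm_apply {T : Module.End ℂ E} {m : ℕ} (h : Good T m) (u : E) : ‖T u‖ = ‖u‖ := by
  have h1 := h.iso u u
  rw [inner_self_eq_norm_sq_to_K, inner_self_eq_norm_sq_to_K] at h1
  have h2 : ‖T u‖ ^ 2 = ‖u‖ ^ 2 := by exact_mod_cast h1
  exact (sq_eq_sq₀ (norm_nonneg _) (norm_nonneg _)).mp h2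

/-- Spectral decomposition of a vector with respect to a good operator. -/
theorem Good.decomp {T : Module.End ℂ E} {m : ℕ} (h : Good T m) (u : E) :
    ∃ (z : ℕ → ℂ) (w : ℕ → E), z 0 = 1 ∧ w 0 = P T m u ∧
      (∀ j ∈ Finset.range m, T (w j) = z j • w j) ∧
      (∀ j ∈ Finset.range m, ‖z j‖ = 1) ∧
      (∀ j ∈ Finset.range m, j ≠ 0 → z j ≠ 1) ∧
      (∀ i ∈ Finset.range m, ∀ j ∈ Finset.range m, i ≠ j → ⟪w i, w j⟫_ℂ = 0) ∧
      u = ∑ j ∈ Finset.range m, w j ∧
      (∀ U : Submodule ℂ E, (∀ x ∈ U, T x ∈ U) → u ∈ U → ∀ j, w j ∈ U) := by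
  have hm0 : m ≠ 0 := h.pos.ne'
  set ζ : ℂ := Complex.exp (2 * Real.pi * Complex.I / m) with hζdef
  have hζ : IsPrimitiveRoot ζ m := Complex.isPrimitiveRoot_exp m hm0
  have hzpow : ∀ j : ℕ, (ζ ^ j) ^ m = 1 := by
    intro j
    rw [← pow_mul, mul_comm, pow_mul, hζ.pow_eq_one, one_pow]
  have hz0 : ∀ j : ℕ, ζ ^ j ≠ 0 := fun j => pow_ne_zero j (hζ.ne_zero hm0)
  have heig : ∀ j : ℕ, T (Q T m (ζ ^ j) u) = ζ ^ j • Q T m (ζ ^ j) u := by
    intro j
    have h1 := T_mul_Q T h.pow (hzpow j) (hz0 j)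
    have h2 := congrArg (fun f : Module.End ℂ E => f u) h1
    simpa using h2
  have hnorm : ∀ j : ℕ, ‖ζ ^ j‖ = 1 := fun j => Complex.norm_eq_one_of_pow_eq_one (hzpow j) hm0
  refine ⟨fun j => ζ ^ j, fun j => Q T m (ζ ^ j) u, by simp, by simp [P], fun j _ => heig j,
    fun j _ => hnorm j, ?_, ?_, ?_, ?_⟩
  · intro j hj hj0
    exact hζ.pow_ne_one_of_pos_of_lt hj0 (Finset.mem_range.mp hj)
  · intro i hi j hj hij
    apply inner_eq_zero_of_eigen T h.iso (heig i) (heig j) (hnorm i)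
    intro heq
    exact hij (hζ.pow_inj (Finset.mem_range.mp hi) (Finset.mem_range.mp hj) heq)
  · have h1 := sum_Q T h.pos hζ
    have h2 := congrArg (fun f : Module.End ℂ E => f u) h1
    simp only [LinearMap.sum_apply, Module.End.one_apply] at h2
    exact h2.symm
  · intro U hU hu j
    exact Q_mem_of_invariant T m (ζ ^ j) U hU hu

theorem norm_sq_sum_smul {ι : Type*} [DecidableEq ι] (s : Finset ι) (a : ι → ℂ) (w : ι → E)
    (horth : ∀ i ∈ s, ∀ j ∈ s, i ≠ j → ⟪w i, w j⟫_ℂ = 0) :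
    ‖∑ i ∈ s, a i • w i‖ ^ 2 = ∑ i ∈ s, ‖a i‖ ^ 2 * ‖w i‖ ^ 2 := by
  rw [norm_sq_sum_of_orth s (fun i => a i • w i)]
  · apply Finset.sum_congr rfl
    intro i _
    rw [norm_smul, mul_pow]
  · intro i hi j hj hij
    rw [inner_smul_left, inner_smul_right, horth i hi j hj hij, mul_zero, mul_zero]

/-- The key inequality. -/
theorem Good.key {T : Module.End ℂ E} {m : ℕ} (h : Good T m) (u : E) :
    ‖T u - u‖ ^ 2 ≤ ‖u - P T m u‖ ^ 2 ∧ (T u ≠ u → ‖T u - u‖ ^ 2 < ‖u - P T m u‖ ^ 2) := by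
  classical
  obtain ⟨z, w, hz0, hw0, heig, hnorm, hne1, horth, hsum, -⟩ := h.decomp u
  have hmem0 : 0 ∈ Finset.range m := Finset.mem_range.mpr h.pos
  have e1 : T u - u = ∑ j ∈ Finset.range m, (z j - 1) • w j := by
    have : T u = ∑ j ∈ Finset.range m, z j • w j := by
      conv_lhs => rw [hsum]
      rw [map_sum]
      exact Finset.sum_congr rfl heig
    rw [this]
    conv_lhs => rw [hsum]
    rw [← Finset.sum_sub_distrib]
    apply Finset.sum_congr rfl
    intro j _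
    rw [sub_smul, one_smul]
  have e2 : u - P T m u = ∑ j ∈ Finset.range m, (if j = 0 then (0 : ℂ) else 1) • w j := by
    rw [← hw0]
    conv_lhs => rw [hsum]
    rw [← Finset.add_sum_erase _ _ hmem0, add_sub_cancel_left,
      ← Finset.add_sum_erase (Finset.range m) (fun j => (if j = 0 then (0 : ℂ) else 1) • w j) hmem0]
    simp only [if_true, zero_smul, zero_add]
    apply Finset.sum_congr rfl
    intro j hj
    rw [if_neg (Finset.ne_of_mem_erase hj), one_smul]
  rw [e1, e2, norm_sq_sum_smul _ _ _ horth, norm_sq_sum_smul _ _ _ horth]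
  have hterm : ∀ j ∈ Finset.range m,
      ‖z j - 1‖ ^ 2 * ‖w j‖ ^ 2 ≤ ‖(if j = 0 then (0 : ℂ) else 1)‖ ^ 2 * ‖w j‖ ^ 2 ∧
      (j ≠ 0 → w j ≠ 0 →
        ‖z j - 1‖ ^ 2 * ‖w j‖ ^ 2 < ‖(if j = 0 then (0 : ℂ) else 1)‖ ^ 2 * ‖w j‖ ^ 2) := by
    intro j hj
    by_cases hj0 : j = 0
    · subst hj0
      simp [hz0]
    · rw [if_neg hj0]
      by_cases hwj : w j = 0
      · simp [hwj]
      · have hev : T.HasEigenvalue (z j) :=
          Module.End.hasEigenvalue_of_hasEigenvector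
            (Module.End.hasEigenvector_iff.mpr ⟨Module.End.mem_eigenspace_iff.mpr (heig j hj), hwj⟩)
        have hlt := h.close (z j) hev (hne1 j hj hj0)
        have hpos : 0 < ‖w j‖ ^ 2 := by positivity
        have hlt2 : ‖z j - 1‖ ^ 2 < 1 := by
          have := norm_nonneg (z j - 1)
          nlinarith
        have : ‖z j - 1‖ ^ 2 * ‖w j‖ ^ 2 < ‖(1 : ℂ)‖ ^ 2 * ‖w j‖ ^ 2 := by
          rw [norm_one, one_pow, one_mul]
          nlinarith
        exact ⟨this.le, fun _ _ => this⟩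
  refine ⟨Finset.sum_le_sum (fun j hj => (hterm j hj).1), ?_⟩
  intro hTu
  have hex : ∃ j ∈ Finset.range m, j ≠ 0 ∧ w j ≠ 0 := by
    by_contra hcon
    push Not at hcon
    apply hTu
    have hu0 : u = w 0 := by
      conv_lhs => rw [hsum]
      rw [← Finset.add_sum_erase _ _ hmem0]
      rw [Finset.sum_eq_zero, add_zero]
      intro j hj
      exact hcon j (Finset.mem_of_mem_erase hj) (Finset.ne_of_mem_erase hj)
    rw [hu0, hw0]
    exact h.T_P u
  obtain ⟨j, hj, hj0, hwj⟩ := hex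
  exact Finset.sum_lt_sum (fun i hi => (hterm i hi).1) ⟨j, hj, (hterm j hj).2 hj0 hwj⟩

/-- `P u` is the closest fixed vector to `u`. -/
theorem Good.closest {T : Module.End ℂ E} {m : ℕ} (h : Good T m) (u : E) {f : E} (hf : T f = f) :
    ‖u - P T m u‖ ^ 2 ≤ ‖u - f‖ ^ 2 := by
  classical
  obtain ⟨z, w, hz0, hw0, heig, hnorm, hne1, horth, hsum, -⟩ := h.decomp u
  have hmem0 : 0 ∈ Finset.range m := Finset.mem_range.mpr h.pos
  have e2 : u - P T m u = ∑ j ∈ (Finset.range m).erase 0, w j := by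
    rw [← hw0]
    conv_lhs => rw [hsum]
    rw [← Finset.add_sum_erase _ _ hmem0, add_sub_cancel_left]
  have hfix : T (P T m u - f) = (1 : ℂ) • (P T m u - f) := by
    rw [map_sub, h.T_P, hf, one_smul]
  have horth2 : ⟪u - P T m u, P T m u - f⟫_ℂ = 0 := by
    rw [e2, sum_inner]
    apply Finset.sum_eq_zero
    intro j hj
    have hj' := Finset.mem_of_mem_erase hj
    exact inner_eq_zero_of_eigen T h.iso (heig j hj') hfix (hnorm j hj')
      (hne1 j hj' (Finset.ne_of_mem_erase hj))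
  have h1 := norm_add_sq_eq_norm_sq_add_norm_sq_of_inner_eq_zero (𝕜 := ℂ) _ _ horth2
  have h2 : u - P T m u + (P T m u - f) = u - f := by abel
  rw [h2] at h1
  nlinarith [sq_nonneg ‖P T m u - f‖]

/-- A vector orthogonal to its image under a good operator vanishes. -/
theorem Good.eq_zero_of_inner {T : Module.End ℂ E} {m : ℕ} (h : Good T m) {v : E}
    (hv : ⟪T v, v⟫_ℂ = 0) : v = 0 := by
  have h1 := norm_sub_sq (𝕜 := ℂ) (T v) v
  rw [hv, h.norm_apply] at h1
  simp only [map_zero, mul_zero, sub_zero] at h1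
  have h2 := (h.key v).1
  have h3 := h.closest v (f := 0) (map_zero T)
  rw [sub_zero] at h3
  have h4 : ‖v‖ ^ 2 ≤ 0 := by linarith
  have h5 : ‖v‖ = 0 := by
    have := norm_nonneg v
    nlinarith
  exact norm_eq_zero.mp h5

end Cfsg.Agent.Lib.Helper2.Blich
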