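import Mathlib
import Cfsg.Agent.Lib.Helper2.BlichB

/-! Blichfeldt's sixty-degree lemma, part C: the descent argument for a unitary
representation. -/

set_option autoImplicit false

namespace Cfsg.Agent.Lib.Helper2.Blich

open scoped ComplexConjugate InnerProductSpace

variable {E : Type*} [NormedAddCommGroup E] [InnerProductSpace ℂ E]
variable {G : Type*} [Group G]

/-- The hypotheses of the sixty-degree lemma for a unitary representation. -/
structure Setup (ρ : Representation ℂ G E) (g : G) (ε : ℂ) : Prop where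
  iso : ∀ (h : G) (u v : E), ⟪ρ h u, ρ h v⟫_ℂ = ⟪u, v⟫_ℂ
  eig : Module.End.HasEigenvalue (ρ g) ε
  close : ∀ δ : ℂ, Module.End.HasEigenvalue (ρ g) δ → ‖δ - ε‖ < 1

/-- The conjugate `h g h⁻¹`. -/
def cj (g h : G) : G := h * g * h⁻¹

theorem cj_cj (g h h' : G) : cj g (cj g h * h') = cj g h * cj g h' * (cj g h)⁻¹ := by
  unfold cj; group

theorem cj_pow (g h : G) (k : ℕ) : (cj g h) ^ k = h * g ^ k * h⁻¹ := by
  unfold cj; exact conj_pow

section
variable {ρ : Representation ℂ G E} {g : G} {ε : ℂ}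

theorem Setup.norm_eps (S : Setup ρ g ε) : ‖ε‖ = 1 := by
  obtain ⟨v, hv⟩ := S.eig.exists_hasEigenvector
  obtain ⟨hv1, hv0⟩ := Module.End.hasEigenvector_iff.mp hv
  have h1 := Module.End.mem_eigenspace_iff.mp hv1
  have h2 := S.iso g v v
  rw [h1, inner_smul_left, inner_smul_right, inner_self_eq_norm_sq_to_K] at h2
  have h3 : (‖v‖ : ℂ) ^ 2 ≠ 0 := by
    apply pow_ne_zero
    exact_mod_cast (norm_ne_zero_iff.mpr hv0)
  have h4 : conj ε * ε = 1 := by
    have : (conj ε * ε - 1) * (‖v‖ : ℂ) ^ 2 = 0 := by linear_combination h2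
    rcases mul_eq_zero.mp this with h | h
    · linear_combination h
    · exact absurd h h3
  have h5 : ‖ε‖ ^ 2 = 1 := by
    have h6 : ((‖ε‖ ^ 2 : ℝ) : ℂ) = 1 := by
      rw [← h4, mul_comm, Complex.mul_conj, Complex.normSq_eq_norm_sq]
    exact_mod_cast h6
  have := norm_nonneg ε
  nlinarith

theorem Setup.eps_ne_zero (S : Setup ρ g ε) : ε ≠ 0 := by
  intro h
  have := S.norm_eps
  rw [h, norm_zero] at this
  exact zero_ne_one this

theorem Setup.eps_pow [Finite G] (S : Setup ρ g ε) : ε ^ orderOf g = 1 := by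
  obtain ⟨v, hv⟩ := S.eig.exists_hasEigenvector
  obtain ⟨hv1, hv0⟩ := Module.End.hasEigenvector_iff.mp hv
  have h1 := Module.End.mem_eigenspace_iff.mp hv1
  have h2 := pow_apply_of_eigen (ρ g) h1 (orderOf g)
  rw [← map_pow, pow_orderOf_eq_one, map_one, Module.End.one_apply] at h2
  by_contra hne
  have h3 : (ε ^ orderOf g - 1) • v = 0 := by
    rw [sub_smul, one_smul, ← h2, sub_self]
  rcases smul_eq_zero.mp h3 with h | h
  · exact hne (by linear_combination h)
  · exact hv0 h

theorem Setup.conj_inv_mul (S : Setup ρ g ε) : conj (ε⁻¹) * ε⁻¹ = 1 := by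
  have h1 : conj ε * ε = 1 := by
    rw [mul_comm, Complex.mul_conj, Complex.normSq_eq_norm_sq, S.norm_eps]; norm_num
  rw [map_inv₀, ← mul_inv, h1, inv_one]

/-- The normalised operators are good. -/
theorem Setup.good [Finite G] (S : Setup ρ g ε) (h : G) :
    Good (ε⁻¹ • ρ (cj g h)) (orderOf g) where
  pos := orderOf_pos g
  iso := by
    intro u v
    rw [LinearMap.smul_apply, LinearMap.smul_apply, inner_smul_left, inner_smul_right, S.iso,
      ← mul_assoc, S.conj_inv_mul, one_mul]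
  pow := by
    rw [smul_pow, ← map_pow, cj_pow, pow_orderOf_eq_one, mul_one, mul_inv_cancel, map_one, inv_pow,
      S.eps_pow, inv_one, one_smul]
  close := by
    intro τ hτ hτ1
    obtain ⟨v, hv⟩ := hτ.exists_hasEigenvector
    obtain ⟨hv1, hv0⟩ := Module.End.hasEigenvector_iff.mp hv
    have h1 := Module.End.mem_eigenspace_iff.mp hv1
    rw [LinearMap.smul_apply] at h1
    have h2 : ρ (cj g h) v = (ε * τ) • v := by
      rw [mul_smul, ← h1, smul_smul, mul_inv_cancel₀ S.eps_ne_zero, one_smul]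
    have h3 : ρ g (ρ h⁻¹ v) = (ε * τ) • ρ h⁻¹ v := by
      rw [← map_smul, ← h2, ← Module.End.mul_apply, ← Module.End.mul_apply, ← map_mul, ← map_mul]
      congr 2
      unfold cj; group
    have h4 : ρ h⁻¹ v ≠ 0 := by
      intro h0
      apply hv0
      have : ρ h (ρ h⁻¹ v) = v := by
        rw [← Module.End.mul_apply, ← map_mul, mul_inv_cancel, map_one, Module.End.one_apply]
      rw [← this, h0, map_zero]
    have hev : Module.End.HasEigenvalue (ρ g) (ε * τ) :=
      Module.End.hasEigenvalue_of_hasEigenvector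
        (Module.End.hasEigenvector_iff.mpr ⟨Module.End.mem_eigenspace_iff.mpr h3, h4⟩)
    have h5 := S.close _ hev
    have h6 : ε * τ - ε = ε * (τ - 1) := by ring
    rw [h6, norm_mul, S.norm_eps, one_mul] at h5
    exact h5

theorem Setup.fixed_iff (S : Setup ρ g ε) (c : G) (u : E) :
    (ε⁻¹ • ρ c) u = u ↔ ρ c u = ε • u := by
  rw [LinearMap.smul_apply]
  constructor
  · intro h
    rw [← h, smul_smul, mul_inv_cancel₀ S.eps_ne_zero, one_smul, h]
  · intro h
    rw [h, smul_smul, inv_mul_cancel₀ S.eps_ne_zero, one_smul]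

/-- If `u` is an `ε`-eigenvector of `ρ (cj h')` then `ρ (cj h) u` is an `ε`-eigenvector of
`ρ (cj (cj h * h'))`. -/
theorem Setup.move (h h' : G) {u : E} (hu : ρ (cj g h') u = ε • u) :
    ρ (cj g (cj g h * h')) (ρ (cj g h) u) = ε • ρ (cj g h) u := by
  rw [← map_smul, ← hu, ← Module.End.mul_apply, ← Module.End.mul_apply, ← map_mul, ← map_mul,
    cj_cj]
  congr 2
  group

/-- Step B2. -/
theorem Setup.step [Finite G] (S : Setup ρ g ε) (h h' : G)
    (hinv : ∀ u : E, ρ (cj g h') u = ε • u →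
      ρ (cj g h') (ρ (cj g (cj g h * h')) u) = ε • ρ (cj g (cj g h * h')) u) :
    ∀ u : E, ρ (cj g h') u = ε • u → ρ (cj g h') (ρ (cj g h) u) = ε • ρ (cj g h) u := by
  set h'' := cj g h * h' with hh''
  have G'' := S.good h''
  have Gh := S.good h
  -- the eigenspace U
  set U : Submodule ℂ E := Module.End.eigenspace (ρ (cj g h')) ε with hU
  have hUmem : ∀ u : E, u ∈ U ↔ ρ (cj g h') u = ε • u := fun u => Module.End.mem_eigenspace_iff
  have hUinv : ∀ x ∈ U, (ε⁻¹ • ρ (cj g h'')) x ∈ U := by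
    intro x hx
    rw [LinearMap.smul_apply]
    apply U.smul_mem
    rw [hUmem]
    exact hinv x ((hUmem x).mp hx)
  -- every element of U is fixed by T h''
  have hfix : ∀ u ∈ U, ρ (cj g h'') u = ε • u := by
    intro u hu
    obtain ⟨z, w, hz0, hw0, heig, hnorm, hne1, horth, hsum, hmemU⟩ := G''.decomp u
    have hwU := hmemU U hUinv hu
    have hmem0 : 0 ∈ Finset.range (orderOf g) := Finset.mem_range.mpr G''.pos
    have hzero : ∀ j ∈ Finset.range (orderOf g), j ≠ 0 → w j = 0 := by
      intro j hj hj0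
      apply Gh.eq_zero_of_inner
      have hvU : ρ (cj g h') (w j) = ε • w j := (hUmem _).mp (hwU j)
      have hf : (ε⁻¹ • ρ (cj g h'')) ((ε⁻¹ • ρ (cj g h)) (w j))
          = (1 : ℂ) • (ε⁻¹ • ρ (cj g h)) (w j) := by
        rw [one_smul, S.fixed_iff, LinearMap.smul_apply, map_smul, Setup.move h h' hvU, smul_comm]
      have hz1 : (1 : ℂ) ≠ z j := fun hh => hne1 j hj hj0 hh.symm
      exact inner_eq_zero_of_eigen _ G''.iso hf (heig j hj) norm_one hz1
    have hu0 : u = w 0 := by
      conv_lhs => rw [hsum]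
      rw [← Finset.add_sum_erase _ _ hmem0, Finset.sum_eq_zero, add_zero]
      intro j hj
      exact hzero j (Finset.mem_of_mem_erase hj) (Finset.ne_of_mem_erase hj)
    have h1 : (ε⁻¹ • ρ (cj g h'')) u = u := by
      rw [hu0, hw0]
      exact G''.T_P u
    exact (S.fixed_iff _ _).mp h1
  -- hence the inverse of `cj g h` preserves U
  have hinvU : ∀ u ∈ U, ρ (cj g h)⁻¹ u ∈ U := by
    intro u hu
    rw [hUmem]
    have h1 := hfix u hu
    rw [hh'', cj_cj] at h1
    have h2 : ρ (cj g h') (ρ (cj g h)⁻¹ u) = ρ (cj g h)⁻¹ (ρ (cj g h * cj g h' * (cj g h)⁻¹) u) := by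
      rw [← Module.End.mul_apply, ← Module.End.mul_apply, ← map_mul, ← map_mul]
      congr 2
      group
    rw [h2, h1, map_smul]
  have hpowU : ∀ (k : ℕ), ∀ u ∈ U, ρ (((cj g h)⁻¹) ^ k) u ∈ U := by
    intro k
    induction k with
    | zero => intro u hu; simpa using hu
    | succ k ih =>
      intro u hu
      rw [pow_succ, map_mul, Module.End.mul_apply]
      exact ih _ (hinvU u hu)
  have hc : ((cj g h)⁻¹) ^ (orderOf g - 1) = cj g h := by
    have h1 : ((cj g h)⁻¹) ^ (orderOf g - 1) * (cj g h)⁻¹ = 1 := by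
      rw [← pow_succ, Nat.sub_add_cancel G''.pos, inv_pow, cj_pow, pow_orderOf_eq_one, mul_one,
        mul_inv_cancel, inv_one]
    have h2 := eq_inv_of_mul_eq_one_left h1
    rwa [inv_inv] at h2
  intro u hu
  have := hpowU (orderOf g - 1) u ((hUmem u).mpr hu)
  rw [hc] at this
  exact (hUmem _).mp this

end

end Cfsg.Agent.Lib.Helper2.Blich
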