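import Mathlib
import Cfsg.Agent.Lib.Helper2.BlichC

/-! Blichfeldt's sixty-degree lemma, part D: the minimal bad pair. -/

set_option autoImplicit false

namespace Cfsg.Agent.Lib.Helper2.Blich

open scoped ComplexConjugate InnerProductSpace

variable {E : Type*} [NormedAddCommGroup E] [InnerProductSpace ℂ E]
variable {G : Type*} [Group G]
variable {ρ : Representation ℂ G E} {g : G} {ε : ℂ}

/-- For a unitary representation and an element `g` all of whose eigenvalues are within sixty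
degrees of the eigenvalue `ε`, every conjugate of `g` preserves the `ε`-eigenspace of every
conjugate of `g`. -/
theorem Setup.invariant [Finite G] [FiniteDimensional ℂ E] (S : Setup ρ g ε) :
    ∀ (h' h : G) (u : E), ρ (cj g h') u = ε • u →
      ρ (cj g h') (ρ (cj g h) u) = ε • ρ (cj g h) u := by
  classical
  by_contra hcon
  push Not at hcon
  obtain ⟨h0', h0, u0, hu0, hne0⟩ := hcon
  let Bad : G × G → Prop := fun p =>
    ∃ u : E, ρ (cj g p.1) u = ε • u ∧ ρ (cj g p.1) (ρ (cj g p.2) u) ≠ ε • ρ (cj g p.2) u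
  let b := Module.finBasis ℂ E
  let PP : G → Module.End ℂ E := fun x => P (ε⁻¹ • ρ (cj g x)) (orderOf g)
  let D : G × G → ℝ := fun p => ∑ i, ‖PP p.1 (b i) - PP p.2 (PP p.1 (b i))‖ ^ 2
  haveI : Nonempty {p : G × G // Bad p} := ⟨⟨(h0', h0), u0, hu0, hne0⟩⟩
  obtain ⟨⟨⟨h₁', h₁⟩, hbad⟩, hmin⟩ := Finite.exists_min (fun p : {p : G × G // Bad p} => D p.1)
  set h'' := cj g h₁ * h₁' with hh''
  have G1 := S.good h₁
  have G1' := S.good h₁'
  have G'' := S.good h''
  -- the vectors x i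
  have hx : ∀ i, ρ (cj g h₁') (PP h₁' (b i)) = ε • PP h₁' (b i) := by
    intro i
    exact (S.fixed_iff _ _).mp (G1'.T_P (b i))
  -- (i) some x i is not fixed by T h₁
  have hex : ∃ i, (ε⁻¹ • ρ (cj g h₁)) (PP h₁' (b i)) ≠ PP h₁' (b i) := by
    by_contra hall
    push Not at hall
    obtain ⟨u, hu, hne⟩ := hbad
    apply hne
    have hmem : ∀ i, PP h₁' (b i) ∈ Module.End.eigenspace (ρ (cj g h₁)) ε := by
      intro i
      exact Module.End.mem_eigenspace_iff.mpr ((S.fixed_iff _ _).mp (hall i))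
    have hu1 : PP h₁' u = u := G1'.P_of_fixed ((S.fixed_iff _ _).mpr hu)
    have hu2 : u ∈ Module.End.eigenspace (ρ (cj g h₁)) ε := by
      have hexp : PP h₁' u = ∑ i, b.repr u i • PP h₁' (b i) := by
        conv_lhs => rw [← b.sum_repr u]
        rw [map_sum]
        apply Finset.sum_congr rfl
        intro i _
        rw [map_smul]
      rw [← hu1, hexp]
      apply Submodule.sum_mem
      intro i _
      exact Submodule.smul_mem _ _ (hmem i)
    have hu3 := Module.End.mem_eigenspace_iff.mp hu2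
    show ρ (cj g h₁') (ρ (cj g h₁) u) = ε • ρ (cj g h₁) u
    rw [hu3, map_smul, hu]
  -- (ii) the distance decreases
  have hterm : ∀ i, ‖PP h₁' (b i) - PP h'' (PP h₁' (b i))‖ ^ 2
        ≤ ‖PP h₁' (b i) - PP h₁ (PP h₁' (b i))‖ ^ 2 ∧
      ((ε⁻¹ • ρ (cj g h₁)) (PP h₁' (b i)) ≠ PP h₁' (b i) →
        ‖PP h₁' (b i) - PP h'' (PP h₁' (b i))‖ ^ 2
          < ‖PP h₁' (b i) - PP h₁ (PP h₁' (b i))‖ ^ 2) := by
    intro i
    set x := PP h₁' (b i) with hxdef
    have hf : (ε⁻¹ • ρ (cj g h'')) ((ε⁻¹ • ρ (cj g h₁)) x) = (ε⁻¹ • ρ (cj g h₁)) x := by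
      rw [S.fixed_iff, LinearMap.smul_apply, map_smul, Setup.move h₁ h₁' (hx i), smul_comm]
    have h1 := G''.closest x hf
    have h2 := G1.key x
    rw [norm_sub_rev x ((ε⁻¹ • ρ (cj g h₁)) x)] at h1
    exact ⟨h1.trans h2.1, fun hne => lt_of_le_of_lt h1 (h2.2 hne)⟩
  have hlt : D (h₁', h'') < D (h₁', h₁) := by
    obtain ⟨i, hi⟩ := hex
    exact Finset.sum_lt_sum (fun j _ => (hterm j).1) ⟨i, Finset.mem_univ i, (hterm i).2 hi⟩
  -- (iii) the new pair is not bad
  have hnb : ¬ Bad (h₁', h'') := by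
    intro hb
    have := hmin ⟨(h₁', h''), hb⟩
    exact absurd hlt (not_lt.mpr this)
  have hinv : ∀ u : E, ρ (cj g h₁') u = ε • u →
      ρ (cj g h₁') (ρ (cj g (cj g h₁ * h₁')) u) = ε • ρ (cj g (cj g h₁ * h₁')) u := by
    intro u hu
    by_contra hne
    exact hnb ⟨u, hu, hne⟩
  -- (iv) conclude
  obtain ⟨u, hu, hne⟩ := hbad
  exact hne (S.step h₁ h₁' hinv u hu)

end Cfsg.Agent.Lib.Helper2.Blich
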