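import Mathlib
import Cfsg.Agent.Lib.Helper2.BlichD

/-! Blichfeldt's sixty-degree lemma, part E: unitarisation and the final statement for
finite simple groups. -/

set_option autoImplicit false

namespace Cfsg.Agent.Lib.Helper2.Blich

open scoped ComplexConjugate

variable {G : Type*} [Group G]
variable {V : Type*} [AddCommGroup V] [Module ℂ V] [FiniteDimensional ℂ V]

/-- The averaged Hermitian form. -/
noncomputable def form [Fintype G] (ρ : Representation ℂ G V) (u v : V) : ℂ :=
  ∑ h : G, ∑ i, conj ((Module.finBasis ℂ V).repr (ρ h u) i) * (Module.finBasis ℂ V).repr (ρ h v) i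

theorem form_self [Fintype G] (ρ : Representation ℂ G V) (u : V) :
    form ρ u u = ((∑ h : G, ∑ i, ‖(Module.finBasis ℂ V).repr (ρ h u) i‖ ^ 2 : ℝ) : ℂ) := by
  unfold form
  push_cast
  apply Finset.sum_congr rfl
  intro h _
  apply Finset.sum_congr rfl
  intro i _
  rw [Complex.conj_mul']

theorem form_invariant [Fintype G] (ρ : Representation ℂ G V) (x : G) (u v : V) :
    form ρ (ρ x u) (ρ x v) = form ρ u v := by
  unfold form
  let F : G → ℂ := fun k => ∑ i, conj ((Module.finBasis ℂ V).repr (ρ k u) i) *
      (Module.finBasis ℂ V).repr (ρ k v) i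
  have h1 : ∀ h : G, ∑ i, conj ((Module.finBasis ℂ V).repr (ρ h (ρ x u)) i) *
      (Module.finBasis ℂ V).repr (ρ h (ρ x v)) i = F (h * x) := by
    intro h
    simp only [F, map_mul, Module.End.mul_apply]
  rw [Finset.sum_congr rfl (fun h _ => h1 h)]
  exact Equiv.sum_comp (Equiv.mulRight x) F

/-- The inner product core of the averaged form. -/
noncomputable def core [Fintype G] (ρ : Representation ℂ G V) : InnerProductSpace.Core ℂ V where
  inner := form ρ
  conj_inner_symm := by
    intro x y
    unfold form
    simp only [map_sum, map_mul, Complex.conj_conj]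
    apply Finset.sum_congr rfl
    intro h _
    apply Finset.sum_congr rfl
    intro i _
    ring
  re_inner_nonneg := by
    intro x
    rw [form_self]
    simp only [Complex.ofReal_re, RCLike.re_to_complex]
    positivity
  add_left := by
    intro x y z
    unfold form
    simp only [map_add, Finsupp.coe_add, Pi.add_apply, add_mul, Finset.sum_add_distrib]
  smul_left := by
    intro x y r
    unfold form
    simp only [map_smul, Finsupp.coe_smul, Pi.smul_apply, smul_eq_mul, map_mul, Finset.mul_sum]
    apply Finset.sum_congr rfl
    intro h _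
    apply Finset.sum_congr rfl
    intro i _
    ring
  definite := by
    intro x hx
    rw [form_self] at hx
    have h0 : (∑ h : G, ∑ i, ‖(Module.finBasis ℂ V).repr (ρ h x) i‖ ^ 2 : ℝ) = 0 := by
      exact_mod_cast hx
    have h1 := (Finset.sum_eq_zero_iff_of_nonneg (fun h _ => by positivity)).mp h0 1
      (Finset.mem_univ _)
    have h2 : ∀ i, (Module.finBasis ℂ V).repr x i = 0 := by
      intro i
      have h3 := (Finset.sum_eq_zero_iff_of_nonneg (fun i _ => by positivity)).mp h1 i
        (Finset.mem_univ _)
      simpa using h3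
    have h4 : (Module.finBasis ℂ V).repr x = 0 := by
      ext i
      simpa using h2 i
    exact (LinearEquiv.map_eq_zero_iff _).mp h4

/-- The sixty-degree lemma in invariant form: every conjugate of `g` preserves the
`ε`-eigenspace of every conjugate of `g`. -/
theorem invariant_of_close [Finite G] (ρ : Representation ℂ G V) (g : G) (ε : ℂ)
    (heps : Module.End.HasEigenvalue (ρ g) ε)
    (h60 : ∀ δ, Module.End.HasEigenvalue (ρ g) δ → ‖δ - ε‖ < 1) :
    ∀ (h' h : G) (u : V), ρ (cj g h') u = ε • u →
      ρ (cj g h') (ρ (cj g h) u) = ε • ρ (cj g h) u := by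
  classical
  haveI : Fintype G := Fintype.ofFinite G
  letI cd : InnerProductSpace.Core ℂ V := core ρ
  letI : NormedAddCommGroup V := @InnerProductSpace.Core.toNormedAddCommGroup ℂ V _ _ _ cd
  letI : InnerProductSpace ℂ V := InnerProductSpace.ofCore cd.toCore
  have S : Setup ρ g ε :=
    { iso := fun h u v => form_invariant ρ h u v
      eig := heps
      close := h60 }
  exact S.invariant

end Cfsg.Agent.Lib.Helper2.Blich
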