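import Mathlib
import Cfsg.Agent.Lib.Helper2.BlichE

/-! Blichfeldt's sixty-degree lemma for finite simple groups. -/

set_option autoImplicit false

namespace Cfsg.Agent.Lib.Helper2.Blich

variable {G : Type*} [Group G]
variable {V : Type*} [AddCommGroup V] [Module ℂ V] [FiniteDimensional ℂ V]

/-- The `ε`-eigenspace of `ρ g` is stable under the normal closure of `g`. -/
theorem eigenspace_invariant [Finite G] (ρ : Representation ℂ G V) (g : G) (ε : ℂ)
    (heps : Module.End.HasEigenvalue (ρ g) ε)
    (h60 : ∀ δ, Module.End.HasEigenvalue (ρ g) δ → ‖δ - ε‖ < 1) :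
    ∀ x ∈ Subgroup.normalClosure ({g} : Set G), ∀ u ∈ Module.End.eigenspace (ρ g) ε,
      ρ x u ∈ Module.End.eigenspace (ρ g) ε := by
  classical
  have hinv := invariant_of_close ρ g ε heps h60
  set W := Module.End.eigenspace (ρ g) ε with hW
  have hcj1 : cj g 1 = g := by unfold cj; group
  have hfwd : ∀ h : G, ∀ u ∈ W, ρ (cj g h) u ∈ W := by
    intro h u hu
    have h1 := hinv 1 h u (by rw [hcj1]; exact Module.End.mem_eigenspace_iff.mp hu)
    rw [hcj1] at h1
    exact Module.End.mem_eigenspace_iff.mpr h1
  have hpow : ∀ (h : G) (k : ℕ), ∀ u ∈ W, ρ ((cj g h) ^ k) u ∈ W := by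
    intro h k
    induction k with
    | zero => intro u hu; simpa using hu
    | succ k ih =>
      intro u hu
      rw [pow_succ, map_mul, Module.End.mul_apply]
      exact ih _ (hfwd h u hu)
  let K : Subgroup G :=
    { carrier := {x | ∀ u, u ∈ W ↔ ρ x u ∈ W}
      mul_mem' := by
        intro a b ha hb u
        rw [map_mul, Module.End.mul_apply]
        exact (hb u).trans (ha _)
      one_mem' := by
        intro u
        simp
      inv_mem' := by
        intro a ha u
        have h1 := ha (ρ a⁻¹ u)
        rw [← Module.End.mul_apply, ← map_mul, mul_inv_cancel, map_one, Module.End.one_apply] at h1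
        exact h1.symm }
  have hK : Subgroup.normalClosure ({g} : Set G) ≤ K := by
    unfold Subgroup.normalClosure
    rw [Subgroup.closure_le]
    intro c hc
    rw [Group.mem_conjugatesOfSet_iff] at hc
    obtain ⟨a, ha, hac⟩ := hc
    rw [Set.mem_singleton_iff] at ha
    subst ha
    obtain ⟨h, hh⟩ := isConj_iff.mp hac
    have hc' : c = cj a h := by rw [← hh]; rfl
    subst hc'
    intro u
    constructor
    · exact hfwd h u
    · intro hu
      have h1 := hpow h (orderOf (cj a h) - 1) _ hu
      rw [← Module.End.mul_apply, ← map_mul, ← pow_succ,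
        Nat.sub_add_cancel (orderOf_pos (cj a h)), pow_orderOf_eq_one, map_one,
        Module.End.one_apply] at h1
      exact h1
  intro x hx u hu
  exact ((hK hx) u).mp hu

/-- **Blichfeldt's sixty-degree lemma for simple groups.**  Let `G` be a finite nonabelian
simple group and `ρ` a faithful irreducible complex representation.  If `ρ g` has an eigenvalue
`ε` such that every eigenvalue of `ρ g` is at distance less than `1` from `ε`, then `g = 1`. -/
theorem eq_one [Finite G] [IsSimpleGroup G] (hna : ∃ a b : G, a * b ≠ b * a)
    (ρ : Representation ℂ G V) [ρ.IsIrreducible] (hinj : Function.Injective ρ)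
    (g : G) (ε : ℂ) (heps : Module.End.HasEigenvalue (ρ g) ε)
    (h60 : ∀ δ, Module.End.HasEigenvalue (ρ g) δ → ‖δ - ε‖ < 1) : g = 1 := by
  classical
  by_contra hg1
  have hN : Subgroup.normalClosure ({g} : Set G) = ⊤ := by
    rcases (Subgroup.normalClosure_normal (s := ({g} : Set G))).eq_bot_or_eq_top with h | h
    · exfalso
      apply hg1
      have h1 : g ∈ Subgroup.normalClosure ({g} : Set G) :=
        Subgroup.subset_normalClosure (Set.mem_singleton g)
      rw [h] at h1
      exact Subgroup.mem_bot.mp h1
    · exact h
  have hstab := eigenspace_invariant ρ g ε heps h60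
  let S : Subrepresentation ρ :=
    ⟨Module.End.eigenspace (ρ g) ε, fun x v hv => hstab x (by rw [hN]; trivial) v hv⟩
  have hS : S = ⊥ ∨ S = ⊤ := eq_bot_or_eq_top S
  have hStop : S = ⊤ := by
    rcases hS with h | h
    · exfalso
      have h1 : Module.End.eigenspace (ρ g) ε = ⊥ := by
        have := congrArg Subrepresentation.toSubmodule h
        exact this
      exact heps h1
    · exact h
  have hall : ∀ v : V, ρ g v = ε • v := by
    intro v
    have h1 : v ∈ S.toSubmodule := by
      rw [hStop]
      trivial
    exact Module.End.mem_eigenspace_iff.mp h1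
  -- g is central
  have hcen : g ∈ Subgroup.center G := by
    rw [Subgroup.mem_center_iff]
    intro x
    apply hinj
    apply LinearMap.ext
    intro v
    rw [map_mul, map_mul, Module.End.mul_apply, Module.End.mul_apply, hall, hall, map_smul]
  rcases (inferInstance : (Subgroup.center G).Normal).eq_bot_or_eq_top with h | h
  · rw [h] at hcen
    exact hg1 (Subgroup.mem_bot.mp hcen)
  · obtain ⟨a, b, hab⟩ := hna
    apply hab
    have ha : a ∈ Subgroup.center G := by rw [h]; trivial
    exact (Subgroup.mem_center_iff.mp ha b).symm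

end Cfsg.Agent.Lib.Helper2.Blich
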