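import Mathlib
import Cfsg.Agent.Lib.Helper1.BrandtDefs

set_option autoImplicit false
set_option linter.style.haveILetI false
set_option linter.unusedSectionVars false

namespace Cfsg.Agent.Lib.Helper1.Brandt

universe u v

section corner

variable (K : Type v) {R : Type u} [Field K] [Ring R] [Algebra K R] {e : R}

/-- the `K`-module structure on the corner of an idempotent -/
instance cornerModule (idem : IsIdempotentElem e) : Module K idem.Corner where
  smul c x := ⟨c • x.1, (Subsemigroup.mem_corner_iff idem).mpr
    ⟨by rw [mul_smul_comm, ((Subsemigroup.mem_corner_iff idem).mp x.2).1],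
     by rw [smul_mul_assoc, ((Subsemigroup.mem_corner_iff idem).mp x.2).2]⟩⟩
  one_smul x := Subtype.ext (one_smul K x.1)
  mul_smul c d x := Subtype.ext (mul_smul c d x.1)
  smul_zero c := Subtype.ext (smul_zero c)
  smul_add c x y := Subtype.ext (smul_add c x.1 y.1)
  add_smul c d x := Subtype.ext (add_smul c d x.1)
  zero_smul x := Subtype.ext (zero_smul K x.1)

/-- the `K`-algebra structure on the corner of an idempotent -/
instance cornerAlgebra (idem : IsIdempotentElem e) : Algebra K idem.Corner :=
  Algebra.ofModule (fun c x y => Subtype.ext (smul_mul_assoc c x.1 y.1))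
    (fun c x y => Subtype.ext (mul_smul_comm c x.1 y.1))

/-- the inclusion of the corner -/
def cornerIncl (idem : IsIdempotentElem e) : idem.Corner →ₗ[K] R where
  toFun x := x.1
  map_add' _ _ := rfl
  map_smul' _ _ := rfl

theorem cornerIncl_apply (idem : IsIdempotentElem e) (x : idem.Corner) :
    cornerIncl K idem x = x.1 := rfl

theorem cornerIncl_injective (idem : IsIdempotentElem e) :
    Function.Injective (cornerIncl K idem) := fun _ _ h => Subtype.ext h

end corner

end Cfsg.Agent.Lib.Helper1.Brandt
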