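import Mathlib
import Cfsg.Agent.Lib.Helper1.BrandtDefs
import Cfsg.Agent.Lib.Helper5.BrandtRT2
import Cfsg.Agent.Lib.Helper3.BrandtRT3
import Cfsg.Agent.Lib.Helper8.BrandtRT4
import Cfsg.Agent.Lib.Helper3.BrandtRT5

set_option autoImplicit false
set_option linter.style.haveILetI false
set_option linter.unusedSectionVars false

namespace Cfsg.Agent.Lib.Helper1.Brandt

universe u v

section transfer

variable {K : Type v} {A : Type u} {A₀ : Type u} [Field K] [Ring A] [Algebra K A]
  [Ring A₀] [Algebra K A₀] {n : ℕ}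

/-- transfer of a symmetric nondegenerate form through `A ≃ M_n(A₀)` to `A₀` -/
theorem rt6a_transfer [FiniteDimensional K A] (hn : 0 < n)
    (φ : A ≃ₐ[K] Matrix (Fin n) (Fin n) A₀)
    (lam : A →ₗ[K] K) (hsymm : ∀ a b : A, lam (a * b) = lam (b * a))
    (hnd : ∀ a : A, a ≠ 0 → ∃ b : A, lam (a * b) ≠ 0)
    (hZ : Module.finrank K (Subalgebra.center K A) = 2) :
    FiniteDimensional K A₀ ∧
    (∃ lam₀ : A₀ →ₗ[K] K, (∀ a b : A₀, lam₀ (a * b) = lam₀ (b * a)) ∧
      (∀ a : A₀, a ≠ 0 → ∃ b : A₀, lam₀ (a * b) ≠ 0)) ∧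
    Module.finrank K (Subalgebra.center K A₀) = 2 := by
  classical
  set i0 : Fin n := ⟨0, hn⟩ with hi0
  -- the K-linear map a ↦ single i0 i0 a
  let S : A₀ →ₗ[K] Matrix (Fin n) (Fin n) A₀ :=
    { toFun := fun a => Matrix.single i0 i0 a
      map_add' := fun a b => Matrix.single_add i0 i0 a b
      map_smul' := fun c a => by
        simp only [RingHom.id_apply]
        exact (Matrix.smul_single c i0 i0 a).symm }
  have hS : ∀ a, S a = Matrix.single i0 i0 a := fun a => rfl
  have hSinj : Function.Injective S := by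
    intro a b hab
    have := congrFun (congrFun hab i0) i0
    simpa [hS] using this
  have hSmul : ∀ a b, S (a * b) = S a * S b := by
    intro a b
    rw [hS, hS, hS, Matrix.single_mul_single_same]
  haveI hfdM : FiniteDimensional K (Matrix (Fin n) (Fin n) A₀) :=
    LinearEquiv.finiteDimensional φ.toLinearEquiv
  have hfd : FiniteDimensional K A₀ := FiniteDimensional.of_injective S hSinj
  refine ⟨hfd, ?_, ?_⟩
  · -- the form
    let lam' : Matrix (Fin n) (Fin n) A₀ →ₗ[K] K := lam.comp φ.symm.toLinearMap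
    have hlam' : ∀ M, lam' M = lam (φ.symm M) := fun M => rfl
    have hsymm' : ∀ M N, lam' (M * N) = lam' (N * M) := by
      intro M N
      rw [hlam', hlam', map_mul φ.symm, map_mul φ.symm, hsymm]
    refine ⟨lam'.comp S, ?_, ?_⟩
    · intro a b
      show lam' (S (a * b)) = lam' (S (b * a))
      rw [hSmul, hSmul, hsymm']
    · intro a ha
      have hX : φ.symm (S a) ≠ 0 := by
        intro h
        apply ha
        apply hSinj
        rw [map_zero]
        have := congrArg φ h
        rwa [AlgEquiv.apply_symm_apply, map_zero] at this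
      obtain ⟨B, hB⟩ := hnd _ hX
      refine ⟨φ B i0 i0, ?_⟩
      show lam' (S (a * φ B i0 i0)) ≠ 0
      have h1 : lam (φ.symm (S a) * B) = lam' (S a * φ B) := by
        rw [hlam', map_mul φ.symm, AlgEquiv.symm_apply_apply]
      rw [h1] at hB
      -- S a = S a * S 1, then move
      have h2 : S a * φ B = S a * (S 1 * φ B) := by
        rw [← mul_assoc, ← hSmul, mul_one]
      have h3 : lam' (S a * φ B) = lam' (S 1 * φ B * S a) := by
        rw [h2, hsymm']
      have h4 : S 1 * φ B * S a = S (φ B i0 i0 * a) := by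
        rw [hS, hS, hS, Matrix.single_mul_mul_single, one_mul]
      rw [h3, h4, hSmul, hsymm', ← hSmul] at hB
      exact hB
  · -- the centre
    rw [← hZ]
    -- linear equivalence centre A₀ ≃ centre A
    have hcenM : ∀ M : Matrix (Fin n) (Fin n) A₀, M ∈ Set.center (Matrix (Fin n) (Fin n) A₀) ↔
        ∃ z ∈ Set.center A₀, Matrix.scalar (Fin n) z = M := by
      intro M
      rw [Matrix.center_eq_scalar_image]
      rfl
    let ψ : Subalgebra.center K A₀ →ₗ[K] Subalgebra.center K A :=
      { toFun := fun z => ⟨φ.symm (Matrix.scalar (Fin n) (z : A₀)), by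
          rw [Subalgebra.mem_center_iff]
          intro b
          have hz : (z : A₀) ∈ Set.center A₀ := z.2
          have hM : Matrix.scalar (Fin n) (z : A₀) ∈ Set.center (Matrix (Fin n) (Fin n) A₀) :=
            (hcenM _).mpr ⟨_, hz, rfl⟩
          have := (Semigroup.mem_center_iff.mp hM) (φ b)
          have h2 := congrArg φ.symm this
          rw [map_mul, map_mul, AlgEquiv.symm_apply_apply] at h2
          exact h2⟩
        map_add' := fun a b => by
          apply Subtype.ext
          simp only [Subalgebra.coe_add, map_add]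
        map_smul' := fun c a => by
          apply Subtype.ext
          simp only [Subalgebra.coe_smul, RingHom.id_apply]
          rw [← map_smul φ.symm]
          congr 1
          ext i j
          simp [Matrix.scalar_apply, Matrix.diagonal_apply] }
    have hψ : ∀ z, ((ψ z : Subalgebra.center K A) : A) = φ.symm (Matrix.scalar (Fin n) (z : A₀)) :=
      fun z => rfl
    have hψbij : Function.Bijective ψ := by
      constructor
      · intro a b hab
        have h1 := congrArg (fun x : Subalgebra.center K A => φ (x : A)) hab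
        simp only [hψ, AlgEquiv.apply_symm_apply] at h1
        have h2 := congrFun (congrFun h1 i0) i0
        simp only [Matrix.scalar_apply, Matrix.diagonal_apply_eq] at h2
        exact Subtype.ext h2
      · intro c
        have hc : φ (c : A) ∈ Set.center (Matrix (Fin n) (Fin n) A₀) := by
          rw [Semigroup.mem_center_iff]
          intro M
          have h1 := (Subalgebra.mem_center_iff.mp c.2) (φ.symm M)
          have h2 := congrArg φ h1
          rw [map_mul, map_mul, AlgEquiv.apply_symm_apply] at h2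
          exact h2
        obtain ⟨z, hz, hzM⟩ := (hcenM _).mp hc
        refine ⟨⟨z, hz⟩, ?_⟩
        apply Subtype.ext
        rw [hψ]
        show φ.symm (Matrix.scalar (Fin n) z) = (c : A)
        rw [hzM, AlgEquiv.symm_apply_apply]
    exact (LinearEquiv.ofBijective ψ hψbij).finrank_eq

end transfer

/-- RT6a: assembly for a standalone algebra -/
theorem rt_main_h2 {K : Type v} {A : Type u} [Field K] [IsAlgClosed K] [Ring A] [Algebra K A]
    [FiniteDimensional K A]
    (lam : A →ₗ[K] K) (hsymm : ∀ a b : A, lam (a * b) = lam (b * a))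
    (hnd : ∀ a : A, a ≠ 0 → ∃ b : A, lam (a * b) ≠ 0)
    (hZ : Module.finrank K (Subalgebra.center K A) = 2)
    (hidem : ∀ f ∈ Subalgebra.center K A, f * f = f → f = 0 ∨ f = 1) :
    ∃ n : ℕ, Module.finrank K A = 2 * n ^ 2 ∧
      ∀ I : Submodule K A, IsTwoSided I → I ≠ ⊥ → n ^ 2 ≤ Module.finrank K I := by
  obtain ⟨n, π, hn, hπ, hnil, -⟩ := rt2 lam hsymm hnd hZ hidem
  obtain ⟨A₀, instR, instA, φ, ρ, hρ⟩ := rt3 n hn π hπ hnil
  obtain ⟨hfd, ⟨lam₀, hs₀, hnd₀⟩, hZ₀⟩ := rt6a_transfer hn φ lam hsymm hnd hZ
  haveI := hfd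
  obtain ⟨x, hx0, hxx, hspan⟩ := rt4 ρ hρ lam₀ hs₀ hnd₀ hZ₀
  obtain ⟨h5a, h5b⟩ := rt5 (K := K) n x hx0 hxx hspan
  refine ⟨n, ?_, ?_⟩
  · rw [← h5a]
    exact φ.toLinearEquiv.finrank_eq
  · intro I hI hI0
    have h1 : Module.finrank K (I.map φ.toLinearEquiv.toLinearMap) = Module.finrank K I :=
      LinearEquiv.finrank_map_eq φ.toLinearEquiv I
    rw [← h1]
    apply h5b
    · intro a b hb
      obtain ⟨b', hb', rfl⟩ := Submodule.mem_map.mp hb
      have h2 := hI (φ.symm a) b' hb'
      constructor
      · refine Submodule.mem_map.mpr ⟨φ.symm a * b', h2.1, ?_⟩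
        show φ (φ.symm a * b') = a * φ b'
        rw [map_mul, AlgEquiv.apply_symm_apply]
      · refine Submodule.mem_map.mpr ⟨b' * φ.symm a, h2.2, ?_⟩
        show φ (b' * φ.symm a) = φ b' * a
        rw [map_mul, AlgEquiv.apply_symm_apply]
    · intro h
      apply hI0
      rw [Submodule.eq_bot_iff] at h ⊢
      intro y hy
      have := h (φ y) (Submodule.mem_map.mpr ⟨y, hy, rfl⟩)
      exact (map_eq_zero_iff φ φ.injective).mp this

end Cfsg.Agent.Lib.Helper1.Brandt
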