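import Mathlib
import Cfsg.Agent.Lib.Helper1.BrandtDefs
import Cfsg.Agent.Lib.Helper2.BrandtRT6a
import Cfsg.Agent.Lib.Helper2.BrandtCorner

set_option autoImplicit false
set_option linter.style.haveILetI false
set_option linter.unusedSectionVars false

namespace Cfsg.Agent.Lib.Helper1.Brandt

universe u v



/-- RT6b: relative version (corner `R e`) -/
theorem rt_rel {K : Type v} {R : Type u} [Field K] [IsAlgClosed K] [Ring R] [Algebra K R]
    [FiniteDimensional K R] (lam : R →ₗ[K] K) (hsymm : ∀ a b : R, lam (a * b) = lam (b * a))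
    (hnd : ∀ a : R, a ≠ 0 → ∃ b : R, lam (a * b) ≠ 0)
    (e : R) (he : e * e = e) (hc : ∀ a : R, a * e = e * a)
    (hZ : Module.finrank K (centerPart K e) = 2)
    (hidem : ∀ f ∈ centerPart K e, f * f = f → f = 0 ∨ f = e) :
    ∃ n : ℕ, Module.finrank K (LinearMap.range (LinearMap.mulRight K e)) = 2 * n ^ 2 ∧
      ∀ I : Submodule K R, IsTwoSidedIn e I → I ≠ ⊥ → n ^ 2 ≤ Module.finrank K I := by
  have idem : IsIdempotentElem e := he
  have memA : ∀ r : R, r * e = r → r ∈ Subsemigroup.corner e := fun r h =>
    (Subsemigroup.mem_corner_iff idem).mpr ⟨by rw [← hc, h], h⟩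
  have propA : ∀ x : idem.Corner, x.1 * e = x.1 :=
    fun x => ((Subsemigroup.mem_corner_iff idem).mp x.2).2
  set ι := cornerIncl K idem with hι
  have hιinj : Function.Injective ι := cornerIncl_injective K idem
  haveI : FiniteDimensional K idem.Corner := FiniteDimensional.of_injective ι hιinj
  -- central elements of the corner are central in R
  have hcen : ∀ z : idem.Corner, (∀ y : idem.Corner, y * z = z * y) →
      z.1 ∈ centerPart K e := by
    intro z hz
    refine ⟨fun a => ?_, propA z⟩
    have h1 := congrArg Subtype.val (hz ⟨a * e, memA _ (by rw [mul_assoc, he])⟩)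
    have h2 : a * e * z.1 = z.1 * (a * e) := h1
    calc a * z.1 = a * (z.1 * e) := by rw [propA z]
      _ = a * (e * z.1) := by rw [hc]
      _ = a * e * z.1 := by rw [mul_assoc]
      _ = z.1 * (a * e) := h2
      _ = z.1 * (e * a) := by rw [hc]
      _ = z.1 * e * a := by rw [mul_assoc]
      _ = z.1 * a := by rw [propA z]
  have hcenmem : ∀ z : idem.Corner, z ∈ Subalgebra.center K idem.Corner ↔
      ∀ y : idem.Corner, y * z = z * y := fun z => Subalgebra.mem_center_iff
  obtain ⟨n, hn1, hn2⟩ := rt_main_h2 (K := K) (A := idem.Corner) (lam.comp ι)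
    (by
      intro a b
      show lam (a.1 * b.1) = lam (b.1 * a.1)
      exact hsymm _ _)
    (by
      intro a ha
      have ha' : a.1 ≠ 0 := fun h => ha (Subtype.ext h)
      obtain ⟨b, hb⟩ := hnd _ ha'
      refine ⟨⟨b * e, memA _ (by rw [mul_assoc, he])⟩, ?_⟩
      show lam (a.1 * (b * e)) ≠ 0
      have : a.1 * (b * e) = a.1 * b := by
        rw [hc b, ← mul_assoc, propA a]
      rwa [this])
    (by
      rw [← hZ]
      let ψ : Subalgebra.center K idem.Corner →ₗ[K] centerPart K e :=
        { toFun := fun z => ⟨z.1.1, hcen z.1 ((hcenmem z.1).mp z.2)⟩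
          map_add' := fun _ _ => rfl
          map_smul' := fun _ _ => rfl }
      have hψbij : Function.Bijective ψ := by
        constructor
        · intro a b hab
          have := congrArg Subtype.val hab
          exact Subtype.ext (Subtype.ext this)
        · intro w
          have hw := (mem_centerPart (K := K) e w.1).mp w.2
          have hmem : (⟨w.1, memA _ hw.2⟩ : idem.Corner) ∈ Subalgebra.center K idem.Corner := by
            apply (hcenmem _).mpr
            intro y
            exact Subtype.ext (hw.1 y.1)
          exact ⟨⟨(⟨w.1, memA _ hw.2⟩ : idem.Corner), hmem⟩, Subtype.ext rfl⟩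
      exact (LinearEquiv.ofBijective ψ hψbij).finrank_eq)
    (by
      intro f hf hff
      have hw := hcen f ((hcenmem f).mp hf)
      have hff' : f.1 * f.1 = f.1 := congrArg Subtype.val hff
      rcases hidem _ hw hff' with h | h
      · left; exact Subtype.ext h
      · right; exact Subtype.ext h)
  refine ⟨n, ?_, ?_⟩
  · rw [← hn1]
    have hrange : LinearMap.range ι = LinearMap.range (LinearMap.mulRight K e) := by
      ext r
      constructor
      · rintro ⟨x, rfl⟩
        exact ⟨x.1, propA x⟩
      · rintro ⟨y, rfl⟩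
        refine ⟨⟨y * e, memA _ (by rw [mul_assoc, he])⟩, rfl⟩
    rw [← hrange]
    exact (LinearEquiv.ofInjective ι hιinj).finrank_eq.symm
  · intro I hI hI0
    have hle : I ≤ LinearMap.range ι := by
      intro b hb
      exact ⟨⟨b, memA _ (hI.1 b hb)⟩, rfl⟩
    have hmap : (I.comap ι).map ι = I := Submodule.map_comap_eq_of_le hle
    have hfr : Module.finrank K (I.comap ι) = Module.finrank K I := by
      have := (Submodule.equivMapOfInjective ι hιinj (I.comap ι)).finrank_eq
      rw [hmap] at this
      exact this
    rw [← hfr]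
    apply hn2
    · intro a b hb
      have hb' : b.1 ∈ I := hb
      have := hI.2 a.1 b.1 hb'
      exact ⟨this.1, this.2⟩
    · intro h
      apply hI0
      rw [Submodule.eq_bot_iff] at h ⊢
      intro b hb
      have := h ⟨b, memA _ (hI.1 b hb)⟩ hb
      exact congrArg Subtype.val this

end Cfsg.Agent.Lib.Helper1.Brandt
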