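import Mathlib
import Cfsg.Agent.S0143
import Cfsg.Prelude.Def_Blocks

/-! Burnside vanishing at `2`-central involutions (helper2, lemma F-b for helper8's S0997): an
irreducible character of `2`-power degree `> 1` of a perfect simple group vanishes at every
involution whose class has odd size. From the landed S0142 / S0143. -/

set_option autoImplicit false
set_option linter.style.haveILetI false
open Cfsg

namespace Cfsg.Agent.Lib.Helper2.BurnV

open Cfsg.Agent.Lib.Helper6

theorem vanish_of_two_central {G : Type*} [Group G] [Fintype G] [IsSimpleGroup G]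
    (hperf : commutator G = ⊤) (χ : Cfsg.IrrCharacter G) (k : ℕ) (hk : 1 ≤ k)
    (hdeg : Cfsg.charDegree (χ : G → ℂ) = 2 ^ k) (σ : G) (hσ : orderOf σ = 2)
    (hodd : ¬ 2 ∣ (Subgroup.centralizer ({σ} : Set G)).index) : (χ : G → ℂ) σ = 0 := by
  classical
  obtain ⟨n, ρ, hirr, hchar⟩ := χ.2
  haveI := hirr
  have h1 : (χ : G → ℂ) 1 = (n : ℂ) := by
    rw [← hchar, Representation.char_one]
    simp
  have hn : n = 2 ^ k := by
    have h2 : Cfsg.charDegree (χ : G → ℂ) = n := by
      unfold Cfsg.charDegree
      rw [h1]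
      simp
    rw [← h2, hdeg]
  have hσ1 : σ ≠ 1 := by
    intro h
    rw [h, orderOf_one] at hσ
    norm_num at hσ
  have hcop : Nat.Coprime (Module.finrank ℂ (Fin n → ℂ))
      (Subgroup.centralizer ({σ} : Set G)).index := by
    rw [Module.finrank_fin_fun, hn]
    exact Nat.Coprime.pow_left k ((Nat.Prime.coprime_iff_not_dvd Nat.prime_two).mpr hodd)
  rcases Cfsg.Agent.S0142.result ρ σ hcop with h0 | h0
  · rw [← hchar]; exact h0
  · exfalso
    obtain ⟨ω, hω⟩ := (norm_character_eq_iff ρ σ).mp h0
    have hne : ρ.character ≠ fun _ => (1 : ℂ) := by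
      intro h
      have h2 := congrFun h 1
      rw [hchar, h1, hn] at h2
      have h3 : (2 : ℕ) ^ k = 1 := by exact_mod_cast h2
      have h4 : 2 ≤ 2 ^ k := by
        calc 2 = 2 ^ 1 := by norm_num
          _ ≤ 2 ^ k := Nat.pow_le_pow_right (by norm_num) hk
      omega
    have hcomm := Cfsg.Agent.S0143.comm_of_scalar σ hσ1 ρ hne ω hω
    -- a commutative perfect group is trivial
    have hbot : commutator G = ⊥ := by
      rw [commutator_def, Subgroup.commutator_eq_bot_iff_le_centralizer]
      intro x _
      rw [Subgroup.mem_centralizer_iff]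
      intro y _
      exact hcomm y x
    rw [hperf] at hbot
    have : σ ∈ (⊤ : Subgroup G) := Subgroup.mem_top σ
    rw [hbot, Subgroup.mem_bot] at this
    exact hσ1 this

end Cfsg.Agent.Lib.Helper2.BurnV
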