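import Mathlib
import Cfsg.Agent.Lib.Helper8.C5Defs
import Cfsg.Agent.Lib.Helper8.C5A5

set_option autoImplicit false
set_option linter.unusedVariables false
set_option linter.unusedSectionVars false
set_option linter.style.longLine false
set_option linter.deprecated false
set_option linter.style.haveILetI false
set_option linter.dupNamespace false

/-!
# S3433 piece Hb1: `|C_Q(a)|² = |Q|` for an involution `a` of `N(Q)/Q ≅ A₅`.
-/

namespace Cfsg.Agent.Lib.Helper2.C5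

open Cfsg.Agent.Lib.Helper8.C5

universe u
variable {G : Type u} [Group G] [Finite G]

/-- `C_Q(x)` as a subgroup. -/
def hb1Fix (Q : Subgroup G) (x : G) : Subgroup G := Q ⊓ Subgroup.centralizer ({x} : Set G)

theorem mem_hb1Fix {Q : Subgroup G} {x q : G} : q ∈ hb1Fix Q x ↔ q ∈ Q ∧ x * q = q * x := by
  unfold hb1Fix
  rw [Subgroup.mem_inf, Subgroup.mem_centralizer_singleton_iff]
  constructor
  · rintro ⟨h1, h2⟩; exact ⟨h1, by first | exact h2 | exact h2.symm⟩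
  · rintro ⟨h1, h2⟩; exact ⟨h1, by first | exact h2 | exact h2.symm⟩

theorem hb1Fix_le (Q : Subgroup G) (x : G) : hb1Fix Q x ≤ Q := inf_le_left

theorem card_hb1Fix (Q : Subgroup G) (x : G) :
    Nat.card ↥(hb1Fix Q x) = Nat.card {q : G // q ∈ Q ∧ x * q = q * x} :=
  Nat.card_congr (Equiv.subtypeEquivRight fun q => mem_hb1Fix)

/-- conjugation by a normalizing element injects `C_Q(a)` into `C_Q(g a g⁻¹)`. -/
theorem card_hb1Fix_conj_le (Q : Subgroup G) (a g : G)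
    (hg : g ∈ Subgroup.normalizer (Q : Set G)) :
    Nat.card ↥(hb1Fix Q a) ≤ Nat.card ↥(hb1Fix Q (g * a * g⁻¹)) := by
  refine Nat.card_le_card_of_injective
    (fun q : ↥(hb1Fix Q a) => (⟨g * (q : G) * g⁻¹, ?_⟩ : ↥(hb1Fix Q (g * a * g⁻¹)))) ?_
  · obtain ⟨h1, h2⟩ := mem_hb1Fix.mp q.2
    refine mem_hb1Fix.mpr ⟨(Subgroup.mem_normalizer_iff.mp hg _).mp h1, ?_⟩
    have e1 : g * a * g⁻¹ * (g * (q : G) * g⁻¹) = g * (a * (q : G)) * g⁻¹ := by group
    have e2 : g * (q : G) * g⁻¹ * (g * a * g⁻¹) = g * ((q : G) * a) * g⁻¹ := by group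
    rw [e1, e2, h2]
  · intro q r hqr
    have := congrArg (fun z : ↥(hb1Fix Q (g * a * g⁻¹)) => (z : G)) hqr
    simp only [mul_left_inj, mul_right_inj] at this
    exact Subtype.ext this

/-- disjoint fixed-point subgroups. -/
theorem card_hb1Fix_mul_le (Q : Subgroup G) (x y : G)
    (hd : Disjoint (hb1Fix Q x) (hb1Fix Q y)) :
    Nat.card ↥(hb1Fix Q x) * Nat.card ↥(hb1Fix Q y) ≤ Nat.card ↥Q := by
  rw [← Nat.card_prod]
  refine Nat.card_le_card_of_injective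
    (fun p : ↥(hb1Fix Q x) × ↥(hb1Fix Q y) =>
      (⟨(p.1 : G) * (p.2 : G), Q.mul_mem (hb1Fix_le Q x p.1.2) (hb1Fix_le Q y p.2.2)⟩ : ↥Q)) ?_
  intro p r hpr
  have := congrArg (fun z : ↥Q => (z : G)) hpr
  exact Subgroup.mul_injective_of_disjoint hd this

/-- an involutory automorphism of an elementary abelian 2-group fixes at least `√|Q|` points. -/
theorem card_le_hb1Fix_sq (Q : Subgroup G)
    (hQab : ∀ a ∈ Q, ∀ b ∈ Q, a * b = b * a) (hQe : ∀ a ∈ Q, a ^ 2 = 1)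
    (a : G) (haM : a ∈ Subgroup.normalizer (Q : Set G)) (ha2 : a ^ 2 ∈ Q) :
    Nat.card ↥Q ≤ Nat.card ↥(hb1Fix Q a) * Nat.card ↥(hb1Fix Q a) := by
  have hconj : ∀ q ∈ Q, a * q * a⁻¹ ∈ Q := fun q hq => (Subgroup.mem_normalizer_iff.mp haM q).mp hq
  let φ : ↥Q →* ↥Q :=
    { toFun := fun q => ⟨(q : G) * (a * (q : G) * a⁻¹), Q.mul_mem q.2 (hconj _ q.2)⟩
      map_one' := by
        apply Subtype.ext
        simp
      map_mul' := by
        intro q r
        apply Subtype.ext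
        show ((q * r : ↥Q) : G) * (a * ((q * r : ↥Q) : G) * a⁻¹)
          = ((q : G) * (a * (q : G) * a⁻¹)) * ((r : G) * (a * (r : G) * a⁻¹))
        rw [Subgroup.coe_mul]
        have e1 : a * ((q : G) * (r : G)) * a⁻¹ = (a * (q : G) * a⁻¹) * (a * (r : G) * a⁻¹) := by group
        rw [e1]
        have hc := hQab _ r.2 _ (hconj _ q.2)
        calc (q : G) * (r : G) * ((a * (q : G) * a⁻¹) * (a * (r : G) * a⁻¹))
            = (q : G) * ((r : G) * (a * (q : G) * a⁻¹)) * (a * (r : G) * a⁻¹) := by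
              simp only [mul_assoc]
          _ = (q : G) * ((a * (q : G) * a⁻¹) * (r : G)) * (a * (r : G) * a⁻¹) := by rw [hc]
          _ = _ := by simp only [mul_assoc] }
  have hφ : ∀ q : ↥Q, ((φ q : ↥Q) : G) = (q : G) * (a * (q : G) * a⁻¹) := fun q => rfl
  have hker : φ.ker ≤ (hb1Fix Q a).subgroupOf Q := by
    intro q hq
    rw [MonoidHom.mem_ker] at hq
    have h1 : (q : G) * (a * (q : G) * a⁻¹) = 1 := by
      rw [← hφ, hq]; rfl
    rw [Subgroup.mem_subgroupOf]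
    refine mem_hb1Fix.mpr ⟨q.2, ?_⟩
    have hq2 : (q : G) * (q : G) = 1 := by rw [← pow_two]; exact hQe _ q.2
    have h2 : a * (q : G) * a⁻¹ = (q : G) := by
      have : a * (q : G) * a⁻¹ = (q : G)⁻¹ := (inv_eq_of_mul_eq_one_right h1).symm
      rw [this]
      exact inv_eq_of_mul_eq_one_right hq2
    exact mul_inv_eq_iff_eq_mul.mp h2
  have hrange : φ.range ≤ (hb1Fix Q a).subgroupOf Q := by
    rintro _ ⟨q, rfl⟩
    rw [Subgroup.mem_subgroupOf]
    refine mem_hb1Fix.mpr ⟨(φ q).2, ?_⟩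
    rw [hφ]
    have h1 : a * ((q : G) * (a * (q : G) * a⁻¹)) * a⁻¹
        = (a * (q : G) * a⁻¹) * (a ^ 2 * (q : G) * (a ^ 2)⁻¹) := by
      simp only [pow_succ, pow_zero, one_mul, mul_inv_rev, mul_assoc, inv_mul_cancel_left]
    have h2 : a ^ 2 * (q : G) * (a ^ 2)⁻¹ = (q : G) := by
      rw [hQab _ ha2 _ q.2]; group
    rw [h2, hQab _ (hconj _ q.2) _ q.2] at h1
    exact mul_inv_eq_iff_eq_mul.mp h1
  have hcard : Nat.card ↥((hb1Fix Q a).subgroupOf Q) = Nat.card ↥(hb1Fix Q a) :=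
    Nat.card_congr (Subgroup.subgroupOfEquivOfLe (hb1Fix_le Q a)).toEquiv
  have h1 := Subgroup.card_mul_index φ.ker
  rw [Subgroup.index_ker] at h1
  rw [← h1]
  have h2 := Subgroup.card_le_of_le hker
  have h3 := Subgroup.card_le_of_le hrange
  rw [hcard] at h2 h3
  exact Nat.mul_le_mul h2 h3


/-- dihedral computation: `(xy)² x (xy)⁻² = y` for involutions `x, y` with `(xy)⁵ = 1`. -/
theorem hb1_dihedral {K : Type*} [Group K] (x y : K) (hx : x ^ 2 = 1) (hy : y ^ 2 = 1)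
    (hxy : (x * y) ^ 5 = 1) : (x * y) ^ 2 * x * ((x * y) ^ 2)⁻¹ = y := by
  have hx' : x⁻¹ = x := by rw [inv_eq_iff_mul_eq_one, ← pow_two]; exact hx
  have hy' : y⁻¹ = y := by rw [inv_eq_iff_mul_eq_one, ← pow_two]; exact hy
  have h1 : (x * y * x * y * x) * (y * x * y * x * y) = 1 := by
    rw [← hxy]
    simp only [pow_succ, pow_zero, one_mul, mul_assoc]
  have h2 : x * y * x * y * x = y * x * y * x * y := by
    have := eq_inv_of_mul_eq_one_left h1
    rw [this]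
    simp only [mul_inv_rev, hx', hy', mul_assoc]
  rw [mul_inv_eq_iff_eq_mul]
  calc (x * y) ^ 2 * x = x * y * x * y * x := by
        simp only [pow_succ, pow_zero, one_mul, mul_assoc]
    _ = y * x * y * x * y := h2
    _ = y * (x * y) ^ 2 := by simp only [pow_succ, pow_zero, one_mul, mul_assoc]

/-- **Piece Hb1**. -/
theorem card_fix_sq (h5 : C5 G) (Q : Subgroup G)
    (e : ↥(Subgroup.normalizer (Q : Set G)) ⧸ Q.subgroupOf (Subgroup.normalizer (Q : Set G)) ≃* A5)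
    (hQab : ∀ a ∈ Q, ∀ b ∈ Q, a * b = b * a) (hQe : ∀ a ∈ Q, a ^ 2 = 1)
    (a : G) (haM : a ∈ Subgroup.normalizer (Q : Set G)) (haQ : a ∉ Q) (ha2 : a ^ 2 ∈ Q) :
    Nat.card {q : G // q ∈ Q ∧ a * q = q * a} ^ 2 = Nat.card ↥Q := by
  rw [← card_hb1Fix, pow_two]
  have hup := card_le_hb1Fix_sq Q hQab hQe a haM ha2
  refine le_antisymm ?_ hup
  -- the quotient
  set M : Subgroup G := Subgroup.normalizer (Q : Set G) with hMdef
  set N : Subgroup ↥M := Q.subgroupOf M with hNdef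
  let π : ↥M →* ↥M ⧸ N := QuotientGroup.mk' N
  have hπ1 : ∀ m : ↥M, π m = 1 ↔ (m : G) ∈ Q := by
    intro m
    show (QuotientGroup.mk' N) m = 1 ↔ _
    rw [QuotientGroup.mk'_apply, QuotientGroup.eq_one_iff, hNdef, Subgroup.mem_subgroupOf]
  set aM : ↥M := ⟨a, haM⟩ with haMdef
  have habar2 : (π aM) ^ 2 = 1 := by
    rw [← map_pow, hπ1]
    exact ha2
  have habar1 : π aM ≠ 1 := by
    intro h
    exact haQ ((hπ1 aM).mp h)
  obtain ⟨bbar, hb2, hb1, hc5, hc1⟩ := a5_prod5 e (π aM) habar2 habar1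
  obtain ⟨g, hg⟩ := QuotientGroup.mk'_surjective N ((π aM * bbar) ^ 2)
  have hgπ : π g = (π aM * bbar) ^ 2 := hg
  -- the conjugate a' and d = a a'
  have hbbar : π (g * aM * g⁻¹) = bbar := by
    rw [map_mul, map_mul, map_inv, hgπ]
    exact hb1_dihedral (π aM) bbar habar2 hb2 hc5
  have hdbar : π (aM * (g * aM * g⁻¹)) = π aM * bbar := by
    rw [map_mul, hbbar]
  haveI : Fact (Nat.Prime 5) := ⟨by norm_num⟩
  have hord5 : orderOf (π aM * bbar) = 5 := orderOf_eq_prime hc5 hc1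
  have hdvd : 5 ∣ orderOf (a * ((g : G) * a * (g : G)⁻¹)) := by
    have h1 : orderOf (π (aM * (g * aM * g⁻¹))) ∣ orderOf (aM * (g * aM * g⁻¹)) :=
      orderOf_map_dvd π _
    rw [hdbar, hord5, ← Subgroup.orderOf_coe] at h1
    exact h1
  have hd5 : orderOf (a * ((g : G) * a * (g : G)⁻¹)) = 5 := by
    have h1 := (h5 (a * ((g : G) * a * (g : G)⁻¹))).2
    have h2 := (h5 (a * ((g : G) * a * (g : G)⁻¹))).1
    obtain ⟨k, hk⟩ := hdvd
    omega
  -- disjointness
  have hdisj : Disjoint (hb1Fix Q a) (hb1Fix Q ((g : G) * a * (g : G)⁻¹)) := by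
    rw [Subgroup.disjoint_def]
    intro q hq1 hq2
    obtain ⟨hqQ, hqa⟩ := mem_hb1Fix.mp hq1
    obtain ⟨-, hqa'⟩ := mem_hb1Fix.mp hq2
    by_contra hq
    have hqo : orderOf q = 2 := by
      haveI : Fact (Nat.Prime 2) := ⟨Nat.prime_two⟩
      exact orderOf_eq_prime (hQe q hqQ) hq
    have hcomm : (a * ((g : G) * a * (g : G)⁻¹)) * q = q * (a * ((g : G) * a * (g : G)⁻¹)) := by
      rw [mul_assoc, hqa', ← mul_assoc, hqa, mul_assoc]
    exact h5.false_of_commute hcomm (by rw [hd5, hqo]; norm_num) (by rw [hd5]; norm_num)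
      (by rw [hqo])
  have h1 := card_hb1Fix_mul_le Q a ((g : G) * a * (g : G)⁻¹) hdisj
  have h2 := card_hb1Fix_conj_le Q a (g : G) g.2
  exact le_trans (Nat.mul_le_mul_left _ h2) h1

end Cfsg.Agent.Lib.Helper2.C5
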