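import Mathlib
import Cfsg.Agent.Lib.Helper8.C5Defs
import Cfsg.Agent.Lib.Helper8.C5A5

set_option autoImplicit false
set_option linter.unusedVariables false
set_option linter.unusedSectionVars false
set_option linter.style.longLine false
set_option linter.deprecated false
set_option linter.style.haveILetI false
set_option linter.dupNamespace false

/-!
# S3433 piece Hc: in the `Cfg Q T` configuration, `T` is a Sylow 2-subgroup of `G`.
-/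

namespace Cfsg.Agent.Lib.Helper2.C5

open Cfsg.Agent.Lib.Helper8.C5

universe u
variable {G : Type u} [Group G] [Finite G]

/-- normalizers grow in the 2-group `S`: an element `y ∈ N_S(T) ∖ T` with `y ^ 2 ∈ T`. -/
theorem hc_exists_y {T : Subgroup G} (S : Sylow 2 G) (hTS : T ≤ (S : Subgroup G))
    (hne : (S : Subgroup G) ≠ T) :
    ∃ y : G, y ∈ (S : Subgroup G) ∧ y ∉ T ∧ y ^ 2 ∈ T ∧
      y ∈ Subgroup.normalizer (T : Set G) := by
  haveI : Fact (Nat.Prime 2) := ⟨Nat.prime_two⟩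
  haveI : Group.IsNilpotent ↥(S : Subgroup G) := S.isPGroup'.isNilpotent
  have hnc := normalizerCondition_of_isNilpotent (G := ↥(S : Subgroup G))
  have hlt : T.subgroupOf (S : Subgroup G) < ⊤ := by
    rw [lt_top_iff_ne_top]
    intro h
    rw [Subgroup.subgroupOf_eq_top] at h
    exact hne (le_antisymm h hTS)
  have h2 := hnc _ hlt
  obtain ⟨y', hy'N, hy'T⟩ := SetLike.exists_of_lt h2
  rw [← Subgroup.subgroupOf_normalizer_eq hTS, Subgroup.mem_subgroupOf] at hy'N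
  rw [Subgroup.mem_subgroupOf] at hy'T
  obtain ⟨k, hk⟩ := S.isPGroup' y'
  have hk' : (y' : G) ^ 2 ^ k = 1 := by
    have := congrArg (fun z : ↥(S : Subgroup G) => (z : G)) hk
    simpa using this
  have hex : ∃ j : ℕ, (y' : G) ^ 2 ^ j ∈ T := ⟨k, by rw [hk']; exact T.one_mem⟩
  classical
  have hj0 : Nat.find hex ≠ 0 := by
    intro h0
    have := Nat.find_spec hex
    rw [h0] at this
    simp only [pow_zero, pow_one] at this
    exact hy'T this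
  obtain ⟨i, hi⟩ := Nat.exists_eq_succ_of_ne_zero hj0
  refine ⟨(y' : G) ^ 2 ^ i, ?_, ?_, ?_, ?_⟩
  · exact Subgroup.pow_mem _ y'.2 _
  · exact Nat.find_min hex (by omega)
  · have := Nat.find_spec hex
    rw [hi, Nat.succ_eq_add_one, pow_succ, pow_mul] at this
    exact this
  · exact Subgroup.pow_mem _ hy'N _


theorem hc_conj_inv_mem (u : G) (hu4 : u ^ 4 = 1) (P : G → Prop)
    (hP : ∀ x, P x → P (u * x * u⁻¹)) (x : G) (hx : P (u * x * u⁻¹)) : P x := by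
  have h3 := hP _ (hP _ (hP _ hx))
  have he : u * (u * (u * (u * x * u⁻¹) * u⁻¹) * u⁻¹) * u⁻¹ = u ^ 4 * x * (u ^ 4)⁻¹ := by
    simp only [pow_succ, pow_zero, one_mul, mul_inv_rev, mul_assoc]
  rw [he, hu4] at h3
  simpa using h3

/-- the key claim: an element `u` with `u ^ 4 = 1`, `u ^ 2 ∈ T` swapping `Q` and `Q2` has
`u ^ 2 ∈ Q ∩ Q2`. -/
theorem hc_claim {Q Q2 T : Subgroup G} (hc : Cfg Q T)
    (hQ2T : Q2 ≤ T)
    (hQ2e : ∀ q ∈ Q2, q ^ 2 = 1)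
    (hQ2n : ∀ t ∈ T, ∀ q ∈ Q2, t * q * t⁻¹ ∈ Q2)
    (hZ : ∀ q ∈ Q, (∀ t ∈ T, t * q = q * t) → q ∈ Q2)
    (hI : ∀ q ∈ Q, q ∈ Q2 → ∀ t ∈ T, t * q = q * t)
    (hprod : ∀ t ∈ T, ∃ a ∈ Q, ∃ b ∈ Q2, a * b = t)
    (u : G) (hu4 : u ^ 4 = 1) (hu2 : u ^ 2 ∈ T)
    (hu1 : ∀ q ∈ Q, u * q * u⁻¹ ∈ Q2) (hu2' : ∀ b ∈ Q2, u * b * u⁻¹ ∈ Q) :
    u ^ 2 ∈ Q ∧ u ^ 2 ∈ Q2 := by
  obtain ⟨a, ha, b, hb, hab⟩ := hprod (u ^ 2) hu2
  have ha'' : u * a * u⁻¹ ∈ Q2 := hu1 a ha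
  have hb' : u * b * u⁻¹ ∈ Q := hu2' b hb
  have h1 : (u * a * u⁻¹) * (u * b * u⁻¹) = a * b := by
    have : (u * a * u⁻¹) * (u * b * u⁻¹) = u * (a * b) * u⁻¹ := by group
    rw [this, hab]
    simp only [pow_succ, pow_zero, one_mul, mul_assoc, mul_inv_cancel, mul_one]
  -- z1 := a''⁻¹ * b ∈ Q ∩ Q2
  have hz1Q2 : (u * a * u⁻¹)⁻¹ * b ∈ Q2 := Q2.mul_mem (Q2.inv_mem ha'') hb
  have hz1Q : (u * a * u⁻¹)⁻¹ * b ∈ Q := by
    have he : (u * a * u⁻¹)⁻¹ * b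
        = ((u * a * u⁻¹)⁻¹ * a⁻¹ * ((u * a * u⁻¹)⁻¹)⁻¹) * (u * b * u⁻¹) := by
      have : b = a⁻¹ * ((u * a * u⁻¹) * (u * b * u⁻¹)) := by rw [h1]; group
      calc (u * a * u⁻¹)⁻¹ * b = (u * a * u⁻¹)⁻¹ * (a⁻¹ * ((u * a * u⁻¹) * (u * b * u⁻¹))) := by
            rw [← this]
        _ = _ := by group
    rw [he]
    exact Q.mul_mem (hc.Qn _ (T.inv_mem (hQ2T ha'')) _ (Q.inv_mem ha)) hb'
  have hz1c := hI _ hz1Q hz1Q2
  have hz1sq : ((u * a * u⁻¹)⁻¹ * b) ^ 2 = 1 := hc.Qe _ hz1Q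
  -- v = w * z1, w = a * a''
  have hv : u ^ 2 = (a * (u * a * u⁻¹)) * ((u * a * u⁻¹)⁻¹ * b) := by
    rw [← hab]; group
  have hwT : a * (u * a * u⁻¹) ∈ T := T.mul_mem (hc.QT ha) (hQ2T ha'')
  have hv2 : (u ^ 2) ^ 2 = 1 := by rw [← pow_mul]; exact hu4
  have hw2 : (a * (u * a * u⁻¹)) ^ 2 = 1 := by
    have hcomm := hz1c _ hwT
    have : (u ^ 2) ^ 2 = (a * (u * a * u⁻¹)) ^ 2 * ((u * a * u⁻¹)⁻¹ * b) ^ 2 := by
      rw [hv]
      exact (show Commute (a * (u * a * u⁻¹)) ((u * a * u⁻¹)⁻¹ * b) from hcomm).mul_pow 2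
    rw [hv2, hz1sq, mul_one] at this
    exact this.symm
  have hasq : a ^ 2 = 1 := hc.Qe a ha
  have ha''sq : (u * a * u⁻¹) ^ 2 = 1 := hQ2e _ ha''
  have hcomm : (u * a * u⁻¹) * a = a * (u * a * u⁻¹) := by
    have e1 : a⁻¹ = a := by
      rw [inv_eq_iff_mul_eq_one, ← pow_two]; exact hasq
    have e2 : (u * a * u⁻¹)⁻¹ = u * a * u⁻¹ := by
      rw [inv_eq_iff_mul_eq_one, ← pow_two]; exact ha''sq
    have e3 : (a * (u * a * u⁻¹))⁻¹ = a * (u * a * u⁻¹) := by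
      rw [inv_eq_iff_mul_eq_one, ← pow_two]; exact hw2
    rw [mul_inv_rev, e1, e2] at e3
    exact e3
  -- a is central in T
  have hac : ∀ t ∈ T, t * a = a * t := by
    by_cases haQ : u * a * u⁻¹ ∈ Q
    · have : a ∈ Q ∧ a ∈ Q2 :=
        hc_conj_inv_mem u hu4 (fun x => x ∈ Q ∧ x ∈ Q2)
          (fun x hx => ⟨hu2' x hx.2, hu1 x hx.1⟩) a ⟨haQ, ha''⟩
      exact hI a this.1 this.2
    · exact hc.cen _ (hQ2T ha'') haQ a ha hcomm
  have haQ2 : a ∈ Q2 := hZ a ha hac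
  have ha''Q : u * a * u⁻¹ ∈ Q := hu2' a haQ2
  rw [hv]
  exact ⟨Q.mul_mem (Q.mul_mem ha ha''Q) hz1Q, Q2.mul_mem (Q2.mul_mem haQ2 ha'') hz1Q2⟩


theorem hc_card_mul_relIndex {H K : Subgroup G} (h : H ≤ K) :
    Nat.card ↥H * H.relIndex K = Nat.card ↥K := by
  rw [← Subgroup.relIndex_bot_left, ← Subgroup.relIndex_bot_left]
  exact Subgroup.relIndex_mul_relIndex ⊥ H K bot_le h

/-- **Piece Hc**: in the `Cfg Q T` configuration, `T` is a Sylow 2-subgroup of `G`. -/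
theorem sylow_of_cfg (h5 : C5 G) {Q T : Subgroup G} (hc : Cfg Q T) (S : Sylow 2 G)
    (hTS : T ≤ (S : Subgroup G)) : (S : Subgroup G) = T := by
  by_contra hne
  obtain ⟨y, hyS, hyT, hy2, hyN⟩ := hc_exists_y S hTS hne
  have hS4 : ∀ g ∈ (S : Subgroup G), g ^ 4 = 1 := by
    intro g hg
    obtain ⟨k, hk⟩ := S.isPGroup' ⟨g, hg⟩
    have hk' : g ^ 2 ^ k = 1 := by
      have := congrArg (fun z : ↥(S : Subgroup G) => (z : G)) hk
      simpa using this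
    exact h5.pow_four_of_two_pow g k hk'
  have hyT1 : ∀ t ∈ T, y * t * y⁻¹ ∈ T := fun t ht => (Subgroup.mem_normalizer_iff.mp hyN t).mp ht
  have hyT2 : ∀ t ∈ T, y⁻¹ * t * y ∈ T := fun t ht =>
    (Subgroup.mem_normalizer_iff''.mp hyN t).mp ht
  -- T normalizes Q
  have hQN : T ≤ Subgroup.normalizer (Q : Set G) := by
    intro t ht
    rw [Subgroup.mem_normalizer_iff]
    intro h
    constructor
    · exact hc.Qn t ht h
    · intro hh
      have := hc.Qn t⁻¹ (T.inv_mem ht) _ hh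
      have he : t⁻¹ * (t * h * t⁻¹) * t⁻¹⁻¹ = h := by group
      rwa [he] at this
  -- the conjugate Q2
  set Q2 : Subgroup G := Q.map (MulAut.conj y).toMonoidHom with hQ2def
  have hmem : ∀ x, x ∈ Q2 ↔ ∃ q ∈ Q, y * q * y⁻¹ = x := by
    intro x
    rw [hQ2def, Subgroup.mem_map]
    simp only [MulEquiv.coe_toMonoidHom, MulAut.conj_apply]
  have hu1 : ∀ q ∈ Q, y * q * y⁻¹ ∈ Q2 := fun q hq => (hmem _).mpr ⟨q, hq, rfl⟩
  have hQ2T : Q2 ≤ T := by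
    intro x hx
    obtain ⟨q, hq, rfl⟩ := (hmem x).mp hx
    exact hyT1 q (hc.QT hq)
  have hQ2e : ∀ q ∈ Q2, q ^ 2 = 1 := by
    intro x hx
    obtain ⟨q, hq, rfl⟩ := (hmem x).mp hx
    rw [conj_pow, hc.Qe q hq]; group
  have hQ2ab : ∀ a ∈ Q2, ∀ b ∈ Q2, a * b = b * a := by
    intro a ha b hb
    obtain ⟨q, hq, rfl⟩ := (hmem a).mp ha
    obtain ⟨r, hr, rfl⟩ := (hmem b).mp hb
    have e1 : y * q * y⁻¹ * (y * r * y⁻¹) = y * (q * r) * y⁻¹ := by group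
    have e2 : y * r * y⁻¹ * (y * q * y⁻¹) = y * (r * q) * y⁻¹ := by group
    rw [e1, e2, hc.Qab q hq r hr]
  have hQ2n : ∀ t ∈ T, ∀ q ∈ Q2, t * q * t⁻¹ ∈ Q2 := by
    intro t ht x hx
    obtain ⟨q, hq, rfl⟩ := (hmem x).mp hx
    have h1 := hc.Qn _ (hyT2 t ht) q hq
    have := hu1 _ h1
    have he : y * (y⁻¹ * t * y * q * (y⁻¹ * t * y)⁻¹) * y⁻¹ = t * (y * q * y⁻¹) * t⁻¹ := by group
    rwa [he] at this
  have hQ2c : Nat.card ↥Q2 = 16 := by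
    rw [← hc.Qc]
    exact (Nat.card_congr (Q.equivMapOfInjective _ (MulAut.conj y).injective).toEquiv).symm
  have hu2' : ∀ b ∈ Q2, y * b * y⁻¹ ∈ Q := by
    intro x hx
    obtain ⟨q, hq, rfl⟩ := (hmem x).mp hx
    have := hc.Qn _ hy2 q hq
    have he : y ^ 2 * q * (y ^ 2)⁻¹ = y * (y * q * y⁻¹) * y⁻¹ := by
      simp only [pow_succ, pow_zero, one_mul, mul_inv_rev, mul_assoc]
    rwa [he] at this
  -- Q2 ≠ Q
  have hQ2ne : Q2 ≠ Q := by
    intro heq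
    have hyNQ : y ∈ Subgroup.normalizer (Q : Set G) := by
      rw [Subgroup.mem_normalizer_iff]
      intro h
      constructor
      · intro hh; rw [← heq]; exact hu1 h hh
      · intro hh
        rw [← heq] at hh
        obtain ⟨q, hq, he⟩ := (hmem _).mp hh
        have : q = h := by
          have := congrArg (fun z => y⁻¹ * z * y) he
          simpa [mul_assoc] using this
        rwa [← this]
    have hR := hc.syl (T ⊔ Subgroup.zpowers y) le_sup_left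
      (sup_le hQN ((Subgroup.zpowers_le).mpr hyNQ))
      (S.isPGroup'.to_le (sup_le hTS ((Subgroup.zpowers_le).mpr hyS)))
    apply hyT
    rw [← hR]
    exact (le_sup_right : Subgroup.zpowers y ≤ T ⊔ Subgroup.zpowers y) (Subgroup.mem_zpowers y)
  -- an element of Q2 outside Q
  have hexb : ∃ b ∈ Q2, b ∉ Q := by
    by_contra hcon
    push Not at hcon
    have hle : Q2 ≤ Q := hcon
    exact hQ2ne (Subgroup.eq_of_le_of_card_ge hle (by rw [hc.Qc, hQ2c]))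
  obtain ⟨b, hbQ2, hbQ⟩ := hexb
  have hI : ∀ q ∈ Q, q ∈ Q2 → ∀ t ∈ T, t * q = q * t := fun q hq hq2 =>
    hc.cen b (hQ2T hbQ2) hbQ q hq (hQ2ab b hbQ2 q hq2)
  -- Z0
  set Z0 : Subgroup G := Q ⊓ Subgroup.centralizer (T : Set G) with hZ0def
  have hZ0mem : ∀ q, q ∈ Z0 ↔ q ∈ Q ∧ ∀ t ∈ T, t * q = q * t := by
    intro q
    rw [hZ0def, Subgroup.mem_inf, Subgroup.mem_centralizer_iff]
    rfl
  have hZ0c : Nat.card ↥Z0 = 4 := by
    rw [← hc.Zc]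
    exact Nat.card_congr (Equiv.subtypeEquivRight hZ0mem)
  have hIle : Q ⊓ Q2 ≤ Z0 := by
    intro q hq
    obtain ⟨hq1, hq2⟩ := Subgroup.mem_inf.mp hq
    exact (hZ0mem q).mpr ⟨hq1, hI q hq1 hq2⟩
  -- counting
  have hr : Q.relIndex T = 4 := by
    have := hc_card_mul_relIndex hc.QT
    rw [hc.Qc, hc.Tc] at this
    omega
  have hr2 : Q.relIndex Q2 ≤ 4 := by
    rw [← hr]
    exact Subgroup.relIndex_le_of_le_right hQ2T (by rw [hr]; norm_num)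
  have hIc : Nat.card ↥(Q ⊓ Q2) * Q.relIndex Q2 = 16 := by
    have := hc_card_mul_relIndex (inf_le_right : Q ⊓ Q2 ≤ Q2)
    rw [Subgroup.inf_relIndex_right, hQ2c] at this
    exact this
  have hIle4 : Nat.card ↥(Q ⊓ Q2) ≤ 4 := by
    have := Subgroup.card_dvd_of_le hIle
    rw [hZ0c] at this
    exact Nat.le_of_dvd (by norm_num) this
  have hI4 : Nat.card ↥(Q ⊓ Q2) = 4 ∧ Q.relIndex Q2 = 4 := by
    constructor <;> nlinarith
  have hIeq : Q ⊓ Q2 = Z0 := Subgroup.eq_of_le_of_card_ge hIle (by rw [hZ0c, hI4.1])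
  have hZ : ∀ q ∈ Q, (∀ t ∈ T, t * q = q * t) → q ∈ Q2 := by
    intro q hq hqc
    have : q ∈ Q ⊓ Q2 := by rw [hIeq]; exact (hZ0mem q).mpr ⟨hq, hqc⟩
    exact (Subgroup.mem_inf.mp this).2
  -- T = Q Q2
  have hprod : ∀ t ∈ T, ∃ a ∈ Q, ∃ b ∈ Q2, a * b = t := by
    haveI : (Q.subgroupOf T).Normal := (Subgroup.normal_subgroupOf_iff_le_normalizer hc.QT).mpr hQN
    have h1 : (Q.subgroupOf T).relIndex (Q.subgroupOf T ⊔ Q2.subgroupOf T) = 4 := by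
      rw [Subgroup.relIndex_sup_left, Subgroup.relIndex_subgroupOf hQ2T, hI4.2]
    have h2 := hc_card_mul_relIndex
      (le_sup_left : Q.subgroupOf T ≤ Q.subgroupOf T ⊔ Q2.subgroupOf T)
    have h3 : Nat.card ↥(Q.subgroupOf T) = 16 := by
      rw [← hc.Qc]
      exact Nat.card_congr (Subgroup.subgroupOfEquivOfLe hc.QT).toEquiv
    rw [h1, h3] at h2
    have htop : Q.subgroupOf T ⊔ Q2.subgroupOf T = ⊤ := by
      rw [← Subgroup.card_eq_iff_eq_top, ← h2, hc.Tc]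
    intro t ht
    have hmemt : (⟨t, ht⟩ : ↥T) ∈ Q.subgroupOf T ⊔ Q2.subgroupOf T := by
      rw [htop]; exact Subgroup.mem_top _
    obtain ⟨a, ha, b', hb', hab⟩ := Subgroup.mem_sup_of_normal_left.mp hmemt
    refine ⟨(a : G), Subgroup.mem_subgroupOf.mp ha, (b' : G), Subgroup.mem_subgroupOf.mp hb', ?_⟩
    have := congrArg (fun z : ↥T => (z : G)) hab
    simpa using this
  -- the claim for y
  have hcl1 := hc_claim hc hQ2T hQ2e hQ2n hZ hI hprod y (hS4 y hyS) hy2 hu1 hu2'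
  -- p ∈ Q not central
  have hexp : ∃ p ∈ Q, ¬ ∀ t ∈ T, t * p = p * t := by
    by_contra hcon
    push Not at hcon
    have hle : Q ≤ Z0 := fun q hq => (hZ0mem q).mpr ⟨hq, hcon q hq⟩
    have := Subgroup.card_dvd_of_le hle
    rw [hc.Qc, hZ0c] at this
    omega
  obtain ⟨p, hpQ, hpc⟩ := hexp
  have hpT : p ∈ T := hc.QT hpQ
  have hpyS : p * y ∈ (S : Subgroup G) := Subgroup.mul_mem _ (hTS hpT) hyS
  have hpy2e : (p * y) ^ 2 = p * (y * p * y⁻¹) * y ^ 2 := by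
    simp only [pow_succ, pow_zero, one_mul, mul_assoc, inv_mul_cancel_left]
  have hpy2 : (p * y) ^ 2 ∈ T := by
    rw [hpy2e]
    exact T.mul_mem (T.mul_mem hpT (hyT1 p hpT)) hy2
  have hcl2 := hc_claim hc hQ2T hQ2e hQ2n hZ hI hprod (p * y) (hS4 _ hpyS) hpy2
    (fun q hq => by
      have := hQ2n p hpT _ (hu1 q hq)
      have he : p * (y * q * y⁻¹) * p⁻¹ = p * y * q * (p * y)⁻¹ := by group
      rwa [he] at this)
    (fun b hb => by
      have := hc.Qn p hpT _ (hu2' b hb)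
      have he : p * (y * b * y⁻¹) * p⁻¹ = p * y * b * (p * y)⁻¹ := by group
      rwa [he] at this)
  -- y p y⁻¹ ∈ Q ∩ Q2
  have hx : y * p * y⁻¹ ∈ Q ∧ y * p * y⁻¹ ∈ Q2 := by
    refine ⟨?_, hu1 p hpQ⟩
    have he : y * p * y⁻¹ = p⁻¹ * (p * y) ^ 2 * (y ^ 2)⁻¹ := by
      rw [hpy2e]; group
    rw [he]
    exact Q.mul_mem (Q.mul_mem (Q.inv_mem hpQ) hcl2.1) (Q.inv_mem hcl1.1)
  have hp : p ∈ Q ∧ p ∈ Q2 :=
    hc_conj_inv_mem y (hS4 y hyS) (fun x => x ∈ Q ∧ x ∈ Q2)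
      (fun x hx => ⟨hu2' x hx.2, hu1 x hx.1⟩) p hx
  exact hpc (hI p hp.1 hp.2)

end Cfsg.Agent.Lib.Helper2.C5
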