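import Mathlib
import Cfsg.Agent.Lib.Helper1.Coprime

/-!
# Lifting inverted elements of coprime order through quotients by `p`-groups
-/

set_option autoImplicit false

namespace Cfsg.Agent.Lib.Helper2

open Cfsg.Agent.Lib.Helper1
open Pointwise

variable {G : Type*} [Group G]

/-- `A` normalises `D` with coprime orders; if `x A x⁻¹ ≤ D A` then some `d * x` with `d ∈ D`
normalises `A`. -/
theorem exists_conj_smul_eq_of_conj_le_sup [Finite G] {A D : Subgroup G}
    (hAD : A ≤ Subgroup.normalizer (D : Set G))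
    (hcop : (Nat.card A).Coprime (Nat.card D))
    (hsolv : Group.IsSolvable A ∨ Group.IsSolvable D)
    (x : G) (hx : MulAut.conj x • A ≤ D ⊔ A) :
    ∃ d ∈ D, MulAut.conj (d * x) • A = A := by
  have hdisjA : Disjoint D A := Subgroup.disjoint_of_coprime_natCard hcop.symm
  obtain ⟨hDn, hcA⟩ := isComplement'_subgroupOf_sup hAD hdisjA
  set Γ : Subgroup G := D ⊔ A with hΓ
  have hDΓ : D ≤ Γ := le_sup_left
  have hAΓ : A ≤ Γ := le_sup_right
  set B : Subgroup G := MulAut.conj x • A with hB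
  have hBΓ : B ≤ Γ := hx
  have hBcard : Nat.card B = Nat.card A := card_conj_smul x A
  have hdisjB : Disjoint D B := Subgroup.disjoint_of_coprime_natCard (hBcard ▸ hcop.symm)
  have hcB : Subgroup.IsComplement' (D.subgroupOf Γ) (B.subgroupOf Γ) := by
    apply Subgroup.isComplement'_of_card_mul_and_disjoint _ (disjoint_subgroupOf _ hdisjB)
    rw [card_subgroupOf_of_le hBΓ, hBcard, ← card_subgroupOf_of_le hAΓ]
    exact hcA.card_mul_card
  have hcop' : (Nat.card (D.subgroupOf Γ)).Coprime (Nat.card (B.subgroupOf Γ)) := by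
    rw [card_subgroupOf_of_le hDΓ, card_subgroupOf_of_le hBΓ, hBcard]; exact hcop.symm
  have hsolv' : Group.IsSolvable (D.subgroupOf Γ) ∨ Group.IsSolvable (B.subgroupOf Γ) := by
    rcases hsolv with h | h
    · right
      have : Group.IsSolvable B := isSolvable_conj_smul x A
      exact isSolvable_subgroupOf B Γ
    · exact Or.inl (isSolvable_subgroupOf D Γ)
  obtain ⟨d, hd, hconj⟩ := sz_conj_mem (D.subgroupOf Γ) (B.subgroupOf Γ) (A.subgroupOf Γ)
    hcB hcA hcop' hsolv'
  have h3 := conj_smul_of_subgroupOf hBΓ hAΓ d hconj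
  refine ⟨d, Subgroup.mem_subgroupOf.mp hd, ?_⟩
  rw [map_mul, mul_smul]
  exact h3

/-- Lifting an inverted element of order prime to `p` through the quotient by a normal
`p`-subgroup. -/
theorem exists_inverted_lift [Finite G] {p : ℕ} [Fact p.Prime] (N : Subgroup G) [N.Normal]
    (hN : IsPGroup p N) (xb gb : G ⧸ N) (hxb1 : xb ≠ 1) (hcop : (orderOf xb).Coprime p)
    (hinv : gb * xb * gb⁻¹ = xb⁻¹) :
    ∃ x h : G, x ≠ 1 ∧ orderOf x = orderOf xb ∧ h * x * h⁻¹ = x⁻¹ := by
  set q := QuotientGroup.mk' N with hq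
  have hker : ∀ z : G, q z = 1 ↔ z ∈ N := fun z => QuotientGroup.eq_one_iff z
  set m := orderOf xb with hm
  have hm1 : 1 < m := by
    have h0 : 0 < m := orderOf_pos xb
    have h1 : m ≠ 1 := fun h => hxb1 (orderOf_eq_one_iff.1 h)
    omega
  obtain ⟨y, hy⟩ := QuotientGroup.mk'_surjective N xb
  -- y^m ∈ N has p-power order
  have hymN : y ^ m ∈ N := by
    rw [← hker, map_pow, hy, hm, pow_orderOf_eq_one]
  obtain ⟨a, ha⟩ := hN ⟨y ^ m, hymN⟩
  have ha' : (y ^ m) ^ (p ^ a) = 1 := by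
    have := congrArg Subtype.val ha
    simpa using this
  have hcop2 : (p ^ a).Coprime m := (Nat.Coprime.pow_right a hcop).symm
  obtain ⟨c, -, hc⟩ := Nat.exists_mul_mod_eq_one_of_coprime hcop2 hm1
  set e := p ^ a * c with he
  set x := y ^ e with hx
  have hqx : q x = xb := by
    rw [hx, map_pow, hy]
    have : e = m * (e / m) + 1 := by
      have := Nat.div_add_mod e m
      rw [hc] at this
      omega
    rw [this, pow_succ, pow_mul, hm, pow_orderOf_eq_one, one_pow, one_mul]
  have hxm : x ^ m = 1 := by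
    rw [hx, ← pow_mul, he, mul_comm (p ^ a * c) m, ← mul_assoc, pow_mul, pow_mul, ha', one_pow]
  have hox : orderOf x = m := by
    apply Nat.dvd_antisymm (orderOf_dvd_of_pow_eq_one hxm)
    rw [hm, ← hqx]
    exact orderOf_map_dvd q x
  have hx1 : x ≠ 1 := by
    intro h
    apply hxb1
    rw [← hqx, h, map_one]
  obtain ⟨g, hg⟩ := QuotientGroup.mk'_surjective N gb
  set A := Subgroup.zpowers x with hA
  have hAcard : Nat.card A = m := by rw [hA, Nat.card_zpowers, hox]
  obtain ⟨k, hk⟩ := IsPGroup.iff_card.1 hN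
  have hcopAN : (Nat.card A).Coprime (Nat.card N) := by
    rw [hAcard, hk]; exact Nat.Coprime.pow_right k hcop
  have hAN : A ≤ Subgroup.normalizer (N : Set G) := by
    rw [Subgroup.normalizer_eq_top_iff.2 inferInstance]; exact le_top
  have hsolv : Group.IsSolvable A ∨ Group.IsSolvable N := Or.inl (by rw [hA]; infer_instance)
  have hgx : g * x * g⁻¹ ∈ N ⊔ A := by
    have h1 : q (x * (g * x * g⁻¹)) = 1 := by
      rw [map_mul, map_mul, map_mul, map_inv, hqx, hg, hinv, mul_inv_cancel]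
    rw [hker] at h1
    have h2 : g * x * g⁻¹ = x⁻¹ * (x * (g * x * g⁻¹)) := by group
    rw [h2]
    exact Subgroup.mul_mem _ ((le_sup_right : A ≤ N ⊔ A) (A.inv_mem (Subgroup.mem_zpowers x)))
      ((le_sup_left : N ≤ N ⊔ A) h1)
  have hconj : MulAut.conj g • A ≤ N ⊔ A := by
    rw [conj_smul_eq_map, hA, MonoidHom.map_zpowers, Subgroup.zpowers_le]
    exact hgx
  obtain ⟨d, hd, hdg⟩ := exists_conj_smul_eq_of_conj_le_sup hAN hcopAN hsolv g hconj
  refine ⟨x, d * g, hx1, hox, ?_⟩
  have hmem : (d * g) * x * (d * g)⁻¹ ∈ A := by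
    rw [← hdg]
    exact ⟨x, Subgroup.mem_zpowers x, rfl⟩
  have h3 : q ((d * g) * x * (d * g)⁻¹ * x) = 1 := by
    have hqd : q d = 1 := (hker d).2 hd
    rw [map_mul, map_mul, map_mul, map_inv, map_mul, hqd, one_mul, hqx, hg, hinv, inv_mul_cancel]
  rw [hker] at h3
  have h4 : (d * g) * x * (d * g)⁻¹ * x ∈ A := A.mul_mem hmem (Subgroup.mem_zpowers x)
  have hdisj : Disjoint A N := Subgroup.disjoint_of_coprime_natCard hcopAN
  have h5 := Subgroup.disjoint_def.1 hdisj h4 h3
  exact eq_inv_of_mul_eq_one_left h5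

end Cfsg.Agent.Lib.Helper2
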