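import Mathlib
import Cfsg.Agent.Lib.Helper8.C5Defs
import Cfsg.Agent.Lib.Helper8.C5A5
import Cfsg.Agent.Lib.Helper2.RealLift

set_option autoImplicit false
set_option linter.unusedVariables false
set_option linter.unusedSectionVars false
set_option linter.style.longLine false
set_option linter.style.haveILetI false

/-!
# S3433 piece He: real 3- and 5-elements from an `A₅`-type 2-local
-/

open Cfsg.Agent.Lib.Helper8.C5

namespace Cfsg.Agent.Lib.Helper2.C5

universe u
variable {G : Type u} [Group G] [Finite G]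

/-- auxiliary: lift an inverted element of odd prime order from `M/N` (`N` a normal 2-subgroup) -/
theorem exists_inverted_coe (M : Subgroup G) (N : Subgroup ↥M) [N.Normal] (hN : IsPGroup 2 ↥N)
    (xb gb : ↥M ⧸ N) (p : ℕ) (hp : orderOf xb = p) (hp2 : p.Coprime 2) (hp1 : p ≠ 1)
    (hinv : gb * xb * gb⁻¹ = xb⁻¹) :
    ∃ x t : G, orderOf x = p ∧ t * x * t⁻¹ = x⁻¹ := by
  haveI : Fact (Nat.Prime 2) := ⟨Nat.prime_two⟩
  have hxb1 : xb ≠ 1 := by
    intro h
    rw [h, orderOf_one] at hp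
    exact hp1 hp.symm
  obtain ⟨x, h, hx1, hxo, hxh⟩ :=
    Cfsg.Agent.Lib.Helper2.exists_inverted_lift (G := ↥M) (p := 2) N hN xb gb hxb1
      (by rw [hp]; exact hp2) hinv
  refine ⟨(x : G), (h : G), ?_, ?_⟩
  · rw [Subgroup.orderOf_coe, hxo, hp]
  · have := congrArg Subtype.val hxh
    simpa using this

theorem exists_inverted_of_A5_local (h5 : C5 G) (Q : Subgroup G) (hQ2 : IsPGroup 2 ↥Q)
    (e : ↥(Subgroup.normalizer (Q : Set G)) ⧸ Q.subgroupOf (Subgroup.normalizer (Q : Set G)) ≃* A5)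
    (hQab : ∀ a ∈ Q, ∀ b ∈ Q, a * b = b * a) :
    (∃ x t : G, orderOf x = 3 ∧ t * x * t⁻¹ = x⁻¹) ∧
    (∃ x t : G, orderOf x = 5 ∧ t * x * t⁻¹ = x⁻¹) := by
  have hN : IsPGroup 2 ↥(Q.subgroupOf (Subgroup.normalizer (Q : Set G))) := by
    intro y
    obtain ⟨k, hk⟩ := hQ2 ⟨((y : ↥(Subgroup.normalizer (Q : Set G))) : G), Subgroup.mem_subgroupOf.mp y.2⟩
    refine ⟨k, ?_⟩
    apply Subtype.ext
    apply Subtype.ext
    have := congrArg Subtype.val hk
    simpa using this
  obtain ⟨r1, r2, hr1, hr13, -, -, -, -⟩ := a5_three e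
  obtain ⟨t, ht2, htr⟩ := a5_inv3 e r1 hr1 hr13
  have ho3 : orderOf r1 = 3 := by
    have hd : orderOf r1 ∣ 3 := orderOf_dvd_of_pow_eq_one hr13
    rcases (Nat.dvd_prime Nat.prime_three).mp hd with h | h
    · exact absurd (orderOf_eq_one_iff.mp h) hr1
    · exact h
  have ht1 : t ≠ 1 := by
    intro h
    rw [h] at htr
    simp at htr
    -- r1 = r1⁻¹
    have h2 : r1 ^ 2 = 1 := by
      rw [pow_two]
      nth_rewrite 2 [htr]
      exact mul_inv_cancel r1
    have : r1 = 1 := by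
      have h3 : r1 ^ 3 = r1 ^ 2 * r1 := pow_succ r1 2
      rw [hr13, h2, one_mul] at h3
      exact h3.symm
    exact hr1 this
  refine ⟨?_, ?_⟩
  · exact exists_inverted_coe (Subgroup.normalizer (Q : Set G)) _ hN r1 t 3 ho3 (by norm_num)
      (by norm_num) htr
  · obtain ⟨h, hh2, hh1, hth5, hth1⟩ := a5_prod5 e t ht2 ht1
    have ho5 : orderOf (t * h) = 5 := by
      have hd : orderOf (t * h) ∣ 5 := orderOf_dvd_of_pow_eq_one hth5
      rcases (Nat.dvd_prime (by norm_num : Nat.Prime 5)).mp hd with h' | h'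
      · exact absurd (orderOf_eq_one_iff.mp h') hth1
      · exact h'
    obtain ⟨s, hs2, hsx⟩ := a5_inv5 e (t * h) hth1 hth5
    exact exists_inverted_coe (Subgroup.normalizer (Q : Set G)) _ hN (t * h) s 5 ho5 (by norm_num)
      (by norm_num) hsx

end Cfsg.Agent.Lib.Helper2.C5
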