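import Mathlib
import Cfsg.Agent.Lib.Helper1.BHM3
import Cfsg.Agent.Lib.Helper1.CM1
import Cfsg.Agent.Lib.Helper8.K5a
import Cfsg.Agent.Lib.Helper2.SylowNormal

set_option autoImplicit false

/-! Two largest class sizes coprime (S4138): basic lemmas. -/

namespace Cfsg.Agent.Lib.Helper2.CS

open Subgroup Pointwise
open Cfsg.Agent.Lib.Helper1.BHM

variable {G : Type*} [Group G]

/-- hypotheses of the two-largest-class-sizes theorem -/
structure Hyp (G : Type*) [Group G] (m n : ℕ) : Prop where
  hmn : n < m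
  hn : 1 < n
  hcop : m.Coprime n
  htop : ∀ z : G, idx z ≤ m
  hsec : ∀ z : G, idx z < m → idx z ≤ n

theorem idx_pos [Finite G] (g : G) : 0 < idx g := by
  unfold idx; exact Nat.pos_of_ne_zero index_ne_zero_of_finite

theorem eq_of_le_of_index_eq [Finite G] {H K : Subgroup G} (hle : H ≤ K)
    (h : H.index = K.index) : H = K := by
  apply le_antisymm hle
  have h1 := relIndex_mul_index hle
  rw [h] at h1
  have h2 : H.relIndex K = 1 := by
    have hpos : 0 < K.index := Nat.pos_of_ne_zero index_ne_zero_of_finite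
    exact Nat.eq_of_mul_eq_mul_right hpos (by rw [h1, one_mul])
  exact relIndex_eq_one.mp h2

theorem conj_mem_cent_conj {a h : G} (g : G) :
    g * h * g⁻¹ ∈ centralizer ({g * a * g⁻¹} : Set G) ↔ h ∈ centralizer ({a} : Set G) := by
  rw [mem_centralizer_singleton_iff, mem_centralizer_singleton_iff]
  constructor
  · intro e
    have : g * (h * a) * g⁻¹ = g * (a * h) * g⁻¹ := by
      calc g * (h * a) * g⁻¹ = g * h * g⁻¹ * (g * a * g⁻¹) := by group
        _ = g * a * g⁻¹ * (g * h * g⁻¹) := e
        _ = g * (a * h) * g⁻¹ := by group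
    exact mul_left_cancel (mul_right_cancel this)
  · intro e
    calc g * h * g⁻¹ * (g * a * g⁻¹) = g * (h * a) * g⁻¹ := by group
      _ = g * (a * h) * g⁻¹ := by rw [e]
      _ = _ := by group

theorem conj_mem_center_iff {a : G} (g : G) : g * a * g⁻¹ ∈ center G ↔ a ∈ center G := by
  constructor
  · intro h
    have h1 := (inferInstance : (center G).Normal).conj_mem _ h g⁻¹
    have h2 : g⁻¹ * (g * a * g⁻¹) * g⁻¹⁻¹ = a := by group
    rwa [h2] at h1
  · intro h
    exact (inferInstance : (center G).Normal).conj_mem _ h g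

theorem idx_conj [Finite G] (g a : G) : idx (g * a * g⁻¹) = idx a := by
  rw [← ncard_cls, ← ncard_cls]
  congr 1
  ext z
  constructor
  · rintro ⟨h, rfl⟩
    refine ⟨h * g, ?_⟩
    show h * g * a * (h * g)⁻¹ = h * (g * a * g⁻¹) * h⁻¹
    group
  · rintro ⟨h, rfl⟩
    refine ⟨h * g⁻¹, ?_⟩
    show h * g⁻¹ * (g * a * g⁻¹) * (h * g⁻¹)⁻¹ = h * a * h⁻¹
    group

theorem orderOf_conj' (g a : G) : orderOf (g * a * g⁻¹) = orderOf a := by
  rw [← MulAut.conj_apply, MulEquiv.orderOf_eq]

theorem smul_cls_eq' [Finite G] {c d : G} (hcop : (idx c).Coprime (idx d))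
    (hle : idx (c * d) ≤ idx d) (g : G) :
    (g * c * g⁻¹) • cls d = cls (c * d) := by
  apply Set.eq_of_subset_of_ncard_le
  · rintro _ ⟨y, ⟨h, rfl⟩, rfl⟩
    exact conj_mul_conj_mem_cls hcop g h
  · rw [Set.ncard_smul_set, ncard_cls, ncard_cls]; exact hle
  · exact Set.toFinite _

theorem comm_mem_stab' [Finite G] {c d : G} (hcop : (idx c).Coprime (idx d))
    (hle : idx (c * d) ≤ idx d) (g : G) :
    c⁻¹ * (g * c * g⁻¹) ∈ MulAction.stabilizer G (cls d) := by
  rw [MulAction.mem_stabilizer_iff, mul_smul, smul_cls_eq' hcop hle g]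
  have := smul_cls_eq' hcop hle (1 : G)
  simp only [one_mul, inv_one, mul_one] at this
  rw [← this, inv_smul_smul]

theorem stab_le_cent [Finite G] {c d : G} (hcop : (idx c).Coprime (idx d)) :
    MulAction.stabilizer G (cls d) ≤ centralizer ({c} : Set G) := by
  have := stab_normal d
  have h1 : (centralizer ({c} : Set G)).relIndex (MulAction.stabilizer G (cls d)) ∣ idx c := by
    unfold idx
    rw [← Cfsg.Agent.Lib.Helper2.relIndex_sup_eq_of_normal (centralizer ({c} : Set G))
      (MulAction.stabilizer G (cls d))]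
    exact relIndex_dvd_index_of_le le_sup_left
  have h2 : (centralizer ({c} : Set G)).relIndex (MulAction.stabilizer G (cls d)) ∣ idx d :=
    (relIndex_dvd_card _ _).trans (card_stab_dvd d)
  exact relIndex_eq_one.mp (Nat.eq_one_of_dvd_coprimes hcop h1 h2)

theorem commute_conj [Finite G] {c d : G} (hcop : (idx c).Coprime (idx d))
    (hle : idx (c * d) ≤ idx d) (g : G) : Commute c (g * c * g⁻¹) := by
  have h1 := stab_le_cent hcop (comm_mem_stab' hcop hle g)
  rw [mem_centralizer_singleton_iff] at h1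
  have h2 : c⁻¹ * (g * c * g⁻¹) * c = g * c * g⁻¹ := by rw [h1]; group
  show c * (g * c * g⁻¹) = g * c * g⁻¹ * c
  calc c * (g * c * g⁻¹) = c * (c⁻¹ * (g * c * g⁻¹) * c) := by rw [h2]
    _ = g * c * g⁻¹ * c := by group

theorem pow_comm_eq_one [Finite G] {c d : G} (hcop : (idx c).Coprime (idx d))
    (hle : idx (c * d) ≤ idx d) (g : G) :
    (c⁻¹ * (g * c * g⁻¹)) ^ orderOf c = 1 := by
  have hc : Commute c⁻¹ (g * c * g⁻¹) := (commute_conj hcop hle g).inv_left
  rw [hc.mul_pow, inv_pow, pow_orderOf_eq_one, inv_one, one_mul, conj_pow, pow_orderOf_eq_one]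
  group

theorem central_of_coprime [Finite G] {c d : G} (hcop : (idx c).Coprime (idx d))
    (hle : idx (c * d) ≤ idx d) (hord : (orderOf c).Coprime (idx d)) : c ∈ center G := by
  rw [mem_center_iff]
  intro g
  have h1 := pow_comm_eq_one hcop hle g
  have h2 : orderOf (c⁻¹ * (g * c * g⁻¹)) ∣ orderOf c := orderOf_dvd_of_pow_eq_one h1
  have h3 : orderOf (c⁻¹ * (g * c * g⁻¹)) ∣ idx d :=
    (Subgroup.orderOf_dvd_natCard _ (comm_mem_stab' hcop hle g)).trans (card_stab_dvd d)
  have h4 := Nat.eq_one_of_dvd_coprimes hord h2 h3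
  rw [orderOf_eq_one_iff] at h4
  have h5 : g * c * g⁻¹ = c := by
    calc g * c * g⁻¹ = c * (c⁻¹ * (g * c * g⁻¹)) := by group
      _ = c := by rw [h4, mul_one]
  calc g * c = (g * c * g⁻¹) * g := by group
    _ = c * g := by rw [h5]

theorem T0 [Finite G] {m n : ℕ} (hy : Hyp G m n) {y : G} (hym : idx y = m) {a : G}
    (hi : (idx a).Coprime m) (ho : (orderOf a).Coprime m) : a ∈ center G := by
  apply central_of_coprime (d := y)
  · rw [hym]; exact hi
  · rw [hym]; exact hy.htop _
  · rw [hym]; exact ho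

theorem lemE [Finite G] {m n : ℕ} (hy : Hyp G m n) {x : G} (hx : idx x = n) {g : G}
    (hi : (idx g).Coprime n) (hlt : idx g < m) (ho : (orderOf g).Coprime n) : g ∈ center G := by
  have hdvd : idx (g * x) ∣ idx g * n := by
    have h1 : centralizer ({g} : Set G) ⊓ centralizer ({x} : Set G) ≤
        centralizer ({g * x} : Set G) := by
      intro h hh
      rw [mem_inf, mem_centralizer_singleton_iff, mem_centralizer_singleton_iff] at hh
      rw [mem_centralizer_singleton_iff]
      exact (Commute.mul_right (show Commute h g from hh.1) (show Commute h x from hh.2)).eq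
    have h2 := index_dvd_of_le h1
    have hcop' : (centralizer ({g} : Set G)).index.Coprime (centralizer ({x} : Set G)).index := by
      show (idx g).Coprime (idx x)
      rw [hx]; exact hi
    rw [Cfsg.Agent.Lib.Helper1.index_inf_of_coprime _ _ hcop'] at h2
    show idx (g * x) ∣ idx g * n
    rw [← hx]; exact h2
  have hle : idx (g * x) ≤ idx x := by
    rw [hx]
    by_cases h : idx (g * x) < m
    · exact hy.hsec _ h
    · exfalso
      have h3 : idx (g * x) = m := le_antisymm (hy.htop _) (not_lt.mp h)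
      rw [h3] at hdvd
      have h4 : m ∣ idx g := hy.hcop.dvd_of_dvd_mul_right hdvd
      exact absurd (Nat.le_of_dvd (idx_pos g) h4) (not_le.mpr hlt)
  apply central_of_coprime (d := x)
  · rw [hx]; exact hi
  · exact hle
  · rw [hx]; exact ho

theorem exists_pi_rep [Finite G] {m n : ℕ} (hy : Hyp G m n) {y : G} (hym : idx y = m) {x : G}
    (hx : idx x = n) : ∃ x₁ : G, centralizer ({x₁} : Set G) = centralizer ({x} : Set G) ∧
      ∀ q : ℕ, q.Prime → q ∣ orderOf x₁ → q ∣ m := by
  obtain ⟨u, v, hu, hv, huv, hpu, hpv⟩ :=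
    Cfsg.Agent.Lib.Helper8.KPi.exists_parts {q : ℕ | q ∣ m} x
  have hvz : v ∈ center G := by
    apply T0 hy hym
    · have h1 : idx v ∣ idx x :=
        idx_dvd_of_le (Cfsg.Agent.Lib.Helper1.CM.cent_le_of_mem_zpowers hv)
      rw [hx] at h1
      exact Nat.Coprime.coprime_dvd_left h1 hy.hcop.symm
    · apply Nat.coprime_of_dvd
      intro k hk h1 h2
      exact hpv k hk h1 h2
  refine ⟨u, ?_, fun q hq hd => hpu q hq hd⟩
  apply le_antisymm
  · intro h hh
    rw [mem_centralizer_singleton_iff] at hh ⊢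
    rw [← huv]
    have hvc := mem_center_iff.mp hvz h
    exact (Commute.mul_right (show Commute h u from hh) (show Commute h v from hvc)).eq
  · exact Cfsg.Agent.Lib.Helper1.CM.cent_le_of_mem_zpowers hu

/-- a "good" element: class size `n` and order involving only primes dividing `m` -/
structure Good (m n : ℕ) (a : G) : Prop where
  hidx : idx a = n
  hord : ∀ q : ℕ, q.Prime → q ∣ orderOf a → q ∣ m

theorem Good.conj [Finite G] {m n : ℕ} {a : G} (ha : Good m n a) (g : G) :
    Good m n (g * a * g⁻¹) :=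
  ⟨by rw [idx_conj]; exact ha.hidx, by rw [orderOf_conj']; exact ha.hord⟩

theorem Good.not_central {m n : ℕ} (hn : 1 < n) {a : G} (ha : Good m n a) : a ∉ center G := by
  intro h
  have := idx_eq_one_iff.mpr h
  rw [ha.hidx] at this
  omega

theorem coprime_of_primes_dvd {a m t : ℕ} (h : ∀ q : ℕ, q.Prime → q ∣ a → q ∣ m)
    (ht : t.Coprime m) : a.Coprime t := by
  apply Nat.coprime_of_dvd
  intro k hk h1 h2
  exact hk.ne_one (Nat.eq_one_of_dvd_coprimes ht h2 (h k hk h1))

theorem L4 [Finite G] {m n : ℕ} (hy : Hyp G m n) {y : G} (hym : idx y = m) {a : G}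
    (ha : Good m n a) {w : G} (hw : w ∈ centralizer ({a} : Set G))
    (hwo : (orderOf w).Coprime m) : w ∈ center G := by
  rw [mem_centralizer_singleton_iff] at hw
  have hcomm : Commute a w := hw.symm
  have hcop : (orderOf a).Coprime (orderOf w) := coprime_of_primes_dvd ha.hord hwo
  have hle1 := Data.cent_mul_le hcomm hcop
  have hle2 : centralizer ({a * w} : Set G) ≤ centralizer ({w} : Set G) := by
    rw [hcomm.eq]; exact Data.cent_mul_le hcomm.symm hcop.symm
  have hd1 : idx a ∣ idx (a * w) := idx_dvd_of_le hle1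
  rw [ha.hidx] at hd1
  have hlt : idx (a * w) < m := by
    rcases lt_or_eq_of_le (hy.htop (a * w)) with h | h
    · exact h
    · exfalso
      rw [h] at hd1
      have h1 : n = 1 := Nat.eq_one_of_dvd_coprimes hy.hcop hd1 dvd_rfl
      have := hy.hn
      omega
  have hle : idx (a * w) ≤ n := hy.hsec _ hlt
  have heq : idx (a * w) = n := le_antisymm hle (Nat.le_of_dvd (idx_pos _) hd1)
  have hCeq : centralizer ({a * w} : Set G) = centralizer ({a} : Set G) :=
    eq_of_le_of_index_eq hle1 (by show idx (a * w) = idx a; rw [heq, ha.hidx])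
  have hle3 : centralizer ({a} : Set G) ≤ centralizer ({w} : Set G) := hCeq ▸ hle2
  apply T0 hy hym
  · have h1 := idx_dvd_of_le hle3
    rw [ha.hidx] at h1
    exact Nat.Coprime.coprime_dvd_left h1 hy.hcop.symm
  · exact hwo

theorem mem_of_prime_pow_mem_aux [Finite G] (K : Subgroup G) :
    ∀ (N : ℕ) (g : G), orderOf g = N →
      (∀ w ∈ zpowers g, (∃ q j : ℕ, q.Prime ∧ orderOf w = q ^ j) → w ∈ K) → g ∈ K := by
  intro N
  induction N using Nat.strong_induction_on with
  | _ N ih =>
    intro g hN h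
    by_cases h1 : orderOf g = 1
    · rw [orderOf_eq_one_iff] at h1; rw [h1]; exact K.one_mem
    obtain ⟨q, hq, hqd⟩ := Nat.exists_prime_and_dvd h1
    obtain ⟨a, c, hqc, hoc, hoq, hc0, hord⟩ :=
      Cfsg.Agent.Lib.Helper1.CM.exists_coprime_split hq g
    have h2 : g ^ c ∈ K := h _ (Subgroup.pow_mem _ (mem_zpowers g) c) ⟨q, a, hq, hoq⟩
    have ha : a ≠ 0 := by
      rintro rfl
      rw [pow_zero, one_mul] at hord
      rw [hord] at hqd
      exact hq.ne_one (Nat.eq_one_of_dvd_coprimes hqc dvd_rfl hqd)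
    have hlt : c < N := by
      rw [← hN, hord]
      have h2le : 2 ≤ q ^ a := Nat.one_lt_pow ha hq.one_lt
      have hpos : 0 < c := Nat.pos_of_ne_zero hc0
      nlinarith
    have h3 : g ^ (q ^ a) ∈ K := by
      apply ih c hlt (g ^ q ^ a) hoc
      intro w hw hpp
      apply h w _ hpp
      exact (zpowers_le.mpr (Subgroup.pow_mem _ (mem_zpowers g) _)) hw
    exact Cfsg.Agent.Lib.Helper1.CM.mem_of_pow_mem K (Nat.Coprime.pow_left a hqc) h3 h2

/-- an element all of whose prime-power-order powers lie in `K` lies in `K` -/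
theorem mem_of_prime_pow_mem [Finite G] (K : Subgroup G) (g : G)
    (h : ∀ w ∈ zpowers g, (∃ q j : ℕ, q.Prime ∧ orderOf w = q ^ j) → w ∈ K) : g ∈ K :=
  mem_of_prime_pow_mem_aux K _ g rfl h

/-- orbit counting: an injective map from the cosets of `H₀` in `H` into the nonidentity elements
of a subgroup `K` of a finite group. -/
theorem relIndex_succ_le_of_orbit [Finite G] (H H₀ : Subgroup G) {B : Type*} [Group B] [Finite B]
    (K : Subgroup B) (f : G → B) (hK : ∀ h ∈ H, f h ∈ K) (hne : ∀ h ∈ H, f h ≠ 1)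
    (hf : ∀ h ∈ H, ∀ h' ∈ H, f h = f h' → h⁻¹ * h' ∈ H₀) :
    H₀.relIndex H + 1 ≤ Nat.card K := by
  have hrel : H₀.relIndex H = Nat.card (↥H ⧸ H₀.subgroupOf H) := rfl
  rw [hrel, ← Finite.card_option]
  let F : Option (↥H ⧸ H₀.subgroupOf H) → K := fun o =>
    match o with
    | none => 1
    | some q => ⟨f ((Quotient.out q : ↥H) : G), hK _ (Quotient.out q : ↥H).2⟩
  apply Nat.card_le_card_of_injective F
  intro o o' hoo
  match o, o', hoo with
  | none, none, _ => rfl
  | none, some q, hoo =>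
    exfalso
    have h1 : (1 : B) = f ((Quotient.out q : ↥H) : G) := congrArg Subtype.val hoo
    exact hne _ (Quotient.out q : ↥H).2 h1.symm
  | some q, none, hoo =>
    exfalso
    have h1 : f ((Quotient.out q : ↥H) : G) = (1 : B) := congrArg Subtype.val hoo
    exact hne _ (Quotient.out q : ↥H).2 h1
  | some q, some q', hoo =>
    have h1 : f ((Quotient.out q : ↥H) : G) = f ((Quotient.out q' : ↥H) : G) :=
      congrArg Subtype.val hoo
    have h2 := hf _ (Quotient.out q : ↥H).2 _ (Quotient.out q' : ↥H).2 h1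
    have h3 : (QuotientGroup.mk (Quotient.out q) : ↥H ⧸ H₀.subgroupOf H) =
        QuotientGroup.mk (Quotient.out q') := by
      rw [QuotientGroup.eq, mem_subgroupOf]
      exact h2
    rw [QuotientGroup.out_eq', QuotientGroup.out_eq'] at h3
    rw [h3]

end Cfsg.Agent.Lib.Helper2.CS
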