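import Mathlib
import Cfsg.Agent.Lib.Helper1.CM1

set_option autoImplicit false

/-! Abstract lemmas on automorphisms of finite abelian groups (for S4138): the norm map along the
iterates of an automorphism, and a fixed-point lemma for two commuting automorphisms of order `p`. -/

namespace Cfsg.Agent.Lib.Helper2.CS

section comm

variable {A : Type*} [CommGroup A]

/-- norm along the iterates of an automorphism -/
def nmf (φ : MulAut A) (t : ℕ) (a : A) : A := ∏ i ∈ Finset.range t, (φ ^ i) a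

theorem nmf_mul (φ : MulAut A) (t : ℕ) (a b : A) :
    nmf φ t (a * b) = nmf φ t a * nmf φ t b := by
  unfold nmf
  rw [← Finset.prod_mul_distrib]
  apply Finset.prod_congr rfl
  intro i _
  exact map_mul _ a b

/-- the norm as a homomorphism -/
def nmHom (φ : MulAut A) (t : ℕ) : A →* A := MonoidHom.mk' (nmf φ t) (nmf_mul φ t)

theorem nmf_fixed (φ : MulAut A) (t : ℕ) (hφ : φ ^ t = 1) (a : A) :
    φ (nmf φ t a) = nmf φ t a := by
  unfold nmf
  rw [map_prod]
  have h1 : ∀ i, φ ((φ ^ i) a) = (φ ^ (i + 1)) a := by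
    intro i; rw [pow_succ']; rfl
  simp_rw [h1]
  have h2 := Finset.prod_range_succ (fun i => (φ ^ i) a) t
  have h3 := Finset.prod_range_succ' (fun i => (φ ^ i) a) t
  rw [h2] at h3
  rw [hφ, pow_zero] at h3
  exact (mul_right_cancel h3).symm

theorem nmf_of_fixed (φ : MulAut A) (t : ℕ) {a : A} (h : φ a = a) : nmf φ t a = a ^ t := by
  unfold nmf
  have h1 : ∀ i : ℕ, (φ ^ i) a = a := by
    intro i
    induction i with
    | zero => rfl
    | succ k ih => rw [pow_succ, MulAut.mul_apply, h, ih]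
  simp_rw [h1]
  rw [Finset.prod_const, Finset.card_range]

theorem nmf_comm (φ ψ : MulAut A) (t : ℕ) (hc : Commute ψ φ) (a : A) :
    nmf φ t (ψ a) = ψ (nmf φ t a) := by
  unfold nmf
  rw [map_prod]
  apply Finset.prod_congr rfl
  intro i _
  have e : φ ^ i * ψ = ψ * φ ^ i := ((hc.pow_right i).eq).symm
  calc (φ ^ i) (ψ a) = (φ ^ i * ψ) a := rfl
    _ = (ψ * φ ^ i) a := by rw [e]
    _ = ψ ((φ ^ i) a) := rfl

theorem fpf_abstract [Finite A] {p : ℕ} (hp : p.Prime)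
    (hcop : p.Coprime (Nat.card A)) (α β : MulAut A) (hαβ : Commute α β) (hα : α ^ p = 1)
    (hβ : β ^ p = 1) (Z₀ : Subgroup A) (hZβ : ∀ z ∈ Z₀, β z ∈ Z₀)
    (h1 : ∀ k : ℕ, 0 < k → k < p → ∀ c : A, (α ^ k) c = c → c ∈ Z₀)
    (h2 : ∀ i : ℕ, ∀ c : A, (α ^ i * β) c = c → c ∈ Z₀) : ∀ c : A, c ∈ Z₀ := by
  intro c
  have hP1 : ∀ k : ℕ, 0 < k → k < p → nmf (α ^ k) p c ∈ Z₀ := by
    intro k hk0 hkp
    apply h1 k hk0 hkp
    apply nmf_fixed
    rw [← pow_mul, mul_comm, pow_mul, hα, one_pow]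
  have hP2 : ∀ i : ℕ, nmf (α ^ i * β) p c ∈ Z₀ := by
    intro i
    apply h2 i
    apply nmf_fixed
    rw [(hαβ.pow_left i).mul_pow, ← pow_mul, mul_comm i p, pow_mul, hα, one_pow, hβ, one_mul]
  have hZβk : ∀ k : ℕ, ∀ z ∈ Z₀, (β ^ k) z ∈ Z₀ := by
    intro k
    induction k with
    | zero => intro z hz; exact hz
    | succ k ih => intro z hz; rw [pow_succ, MulAut.mul_apply]; exact ih _ (hZβ z hz)
  have hid : ∏ i ∈ Finset.range p, nmf (α ^ i * β) p c =
      ∏ k ∈ Finset.range p, (β ^ k) (nmf (α ^ k) p c) := by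
    unfold nmf
    rw [Finset.prod_comm]
    apply Finset.prod_congr rfl
    intro k _
    rw [map_prod]
    apply Finset.prod_congr rfl
    intro i _
    have e : (α ^ i * β) ^ k = β ^ k * (α ^ k) ^ i := by
      rw [(hαβ.pow_left i).mul_pow, ← pow_mul, ← pow_mul, mul_comm i k]
      exact ((hαβ.pow_left (k * i)).pow_right k).eq
    rw [e]; rfl
  obtain ⟨q, rfl⟩ : ∃ q, p = q + 1 := Nat.exists_eq_succ_of_ne_zero hp.ne_zero
  rw [Finset.prod_range_succ' (fun k => (β ^ k) (nmf (α ^ k) (q + 1) c)) q] at hid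
  have h0 : (β ^ 0) (nmf (α ^ 0) (q + 1) c) = c ^ (q + 1) := by
    rw [pow_zero, pow_zero]
    exact nmf_of_fixed (1 : MulAut A) _ (rfl : (1 : MulAut A) c = c)
  have hL : ∏ i ∈ Finset.range (q + 1), nmf (α ^ i * β) (q + 1) c ∈ Z₀ :=
    Subgroup.prod_mem _ (fun i _ => hP2 i)
  have hR : ∏ k ∈ Finset.range q, (β ^ (k + 1)) (nmf (α ^ (k + 1)) (q + 1) c) ∈ Z₀ :=
    Subgroup.prod_mem _ (fun k hk => hZβk _ _ (hP1 (k + 1) (Nat.succ_pos k)
      (by have := Finset.mem_range.1 hk; omega)))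
  have hcp : c ^ (q + 1) ∈ Z₀ := by
    rw [h0] at hid
    have e : c ^ (q + 1) =
        (∏ k ∈ Finset.range q, (β ^ (k + 1)) (nmf (α ^ (k + 1)) (q + 1) c))⁻¹ *
          ∏ i ∈ Finset.range (q + 1), nmf (α ^ i * β) (q + 1) c := by
      rw [hid, inv_mul_cancel_left]
    rw [e]
    exact Z₀.mul_mem (Z₀.inv_mem hR) hL
  have hcard : c ^ Nat.card A ∈ Z₀ := by rw [pow_card_eq_one']; exact Z₀.one_mem
  exact Cfsg.Agent.Lib.Helper1.CM.mem_of_pow_mem Z₀ hcop hcp hcard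

end comm

section grp

variable {A : Type*} [Group A]

/-- For a commutative group (given as a group with a commutativity hypothesis): a homomorphism
with the properties of the norm along the iterates of `φ`. -/
theorem exists_norm_hom (hcomm : ∀ a b : A, a * b = b * a) (φ : MulAut A) (t : ℕ)
    (hφ : φ ^ t = 1) :
    ∃ nm : A →* A, (∀ a, φ (nm a) = nm a) ∧ (∀ a, φ a = a → nm a = a ^ t) ∧
      (∀ ψ : MulAut A, Commute ψ φ → ∀ a, nm (ψ a) = ψ (nm a)) := by
  let cg : CommGroup A := { (inferInstance : Group A) with mul_comm := hcomm }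
  exact ⟨@nmHom A cg φ t, @nmf_fixed A cg φ t hφ, fun a h => @nmf_of_fixed A cg φ t a h,
    fun ψ hc a => @nmf_comm A cg φ ψ t hc a⟩

theorem fpf_abstract' [Finite A] (hcomm : ∀ a b : A, a * b = b * a) {p : ℕ} (hp : p.Prime)
    (hcop : p.Coprime (Nat.card A)) (α β : MulAut A) (hαβ : Commute α β) (hα : α ^ p = 1)
    (hβ : β ^ p = 1) (Z₀ : Subgroup A) (hZβ : ∀ z ∈ Z₀, β z ∈ Z₀)
    (h1 : ∀ k : ℕ, 0 < k → k < p → ∀ c : A, (α ^ k) c = c → c ∈ Z₀)
    (h2 : ∀ i : ℕ, ∀ c : A, (α ^ i * β) c = c → c ∈ Z₀) : ∀ c : A, c ∈ Z₀ := by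
  let cg : CommGroup A := { (inferInstance : Group A) with mul_comm := hcomm }
  exact @fpf_abstract A cg _ p hp hcop α β hαβ hα hβ Z₀ hZβ h1 h2

theorem norm_decomp [Finite A] (φ : MulAut A) (t : ℕ) (hcop : (Nat.card A).Coprime t)
    (nm : A →* A) (hfix : ∀ a, φ (nm a) = nm a) (hpow : ∀ a, φ a = a → nm a = a ^ t)
    (hcm : ∀ ψ : MulAut A, Commute ψ φ → ∀ a, nm (ψ a) = ψ (nm a)) (a : A) :
    ∃ a₀ : A, a₀ ^ t = nm a ∧ φ a₀ = a₀ ∧ nm (a * a₀⁻¹) = 1 ∧
      (∀ ψ : MulAut A, Commute ψ φ → ψ a = a → ψ a₀ = a₀) := by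
  have hinj : ∀ b b' : A, b ^ t = b' ^ t → b = b' := by
    intro b b' h
    apply (powCoprime hcop).injective
    rw [powCoprime_apply, powCoprime_apply, h]
  obtain ⟨a₀, ha₀⟩ : ∃ a₀ : A, a₀ ^ t = nm a := by
    obtain ⟨a₀, h⟩ := (powCoprime hcop).surjective (nm a)
    exact ⟨a₀, by rw [← h, powCoprime_apply]⟩
  have hφa₀ : φ a₀ = a₀ := by
    apply hinj
    rw [← map_pow, ha₀, hfix]
  refine ⟨a₀, ha₀, hφa₀, ?_, ?_⟩
  · rw [map_mul, map_inv, hpow a₀ hφa₀, ha₀, mul_inv_cancel]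
  · intro ψ hc hψ
    apply hinj
    rw [← map_pow, ha₀, ← hcm ψ hc, hψ]

theorem card_ker_mul_card_fixed_le [Finite A] (φ : MulAut A) (t : ℕ)
    (hcop : (Nat.card A).Coprime t) (nm : A →* A) (hpow : ∀ a, φ a = a → nm a = a ^ t)
    (F : Subgroup A) (hF : ∀ a ∈ F, φ a = a) :
    Nat.card nm.ker * Nat.card F ≤ Nat.card A := by
  have h1 : Nat.card nm.ker * Nat.card nm.range = Nat.card A := by
    rw [← Subgroup.index_ker]; exact Subgroup.card_mul_index _
  have h2 : Nat.card F ≤ Nat.card nm.range := by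
    apply Nat.card_le_card_of_injective (fun a : F => (⟨nm a, ⟨a, rfl⟩⟩ : nm.range))
    intro a b hab
    have h3 : nm a = nm b := congrArg Subtype.val hab
    rw [hpow a (hF a a.2), hpow b (hF b b.2)] at h3
    apply Subtype.ext
    apply (powCoprime hcop).injective
    rw [powCoprime_apply, powCoprime_apply, h3]
  calc Nat.card nm.ker * Nat.card F ≤ Nat.card nm.ker * Nat.card nm.range :=
        Nat.mul_le_mul_left _ h2
    _ = Nat.card A := h1

end grp

end Cfsg.Agent.Lib.Helper2.CS
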