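import Mathlib
import Cfsg.Agent.Lib.Helper2.CS1
import Cfsg.Agent.Lib.Helper2.CS2

set_option autoImplicit false

/-! Two largest class sizes coprime (S4138): the normal abelian subgroup `X` generated by the
conjugates of a good element, and the norm argument. -/

namespace Cfsg.Agent.Lib.Helper2.CS

open Subgroup Pointwise
open Cfsg.Agent.Lib.Helper1.BHM

variable {G : Type*} [Group G]

/-- the context: `x` a good element of class size `n`, `y` of class size `m` -/
structure Ctx (G : Type*) [Group G] (m n : ℕ) (x y : G) : Prop where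
  hyp : Hyp G m n
  hx : Good m n x
  hy : idx y = m

variable {m n : ℕ} {x y : G}

theorem good_commute_conj [Finite G] (hc : Ctx G m n x y) {a : G} (ha : Good m n a) (g : G) :
    Commute a (g * a * g⁻¹) :=
  commute_conj (d := y) (by rw [ha.hidx, hc.hy]; exact hc.hyp.hcop.symm)
    (by rw [hc.hy]; exact hc.hyp.htop _) g

theorem good_pow_comm [Finite G] (hc : Ctx G m n x y) {a : G} (ha : Good m n a) (g : G) :
    (a⁻¹ * (g * a * g⁻¹)) ^ orderOf a = 1 :=
  pow_comm_eq_one (d := y) (by rw [ha.hidx, hc.hy]; exact hc.hyp.hcop.symm)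
    (by rw [hc.hy]; exact hc.hyp.htop _) g

theorem X_gen_comm [Finite G] (hc : Ctx G m n x y) :
    ∀ c ∈ Group.conjugatesOfSet ({x} : Set G), ∀ d ∈ Group.conjugatesOfSet ({x} : Set G),
      c * d = d * c := by
  intro c hc' d hd
  rw [Group.mem_conjugatesOfSet_iff] at hc' hd
  obtain ⟨a, ha, hca⟩ := hc'
  obtain ⟨b, hb, hdb⟩ := hd
  rw [Set.mem_singleton_iff] at ha hb
  rw [ha] at hca
  rw [hb] at hdb
  obtain ⟨g, rfl⟩ := isConj_iff.mp hca
  obtain ⟨h, rfl⟩ := isConj_iff.mp hdb
  have h1 := good_commute_conj hc (hc.hx.conj g) (h * g⁻¹)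
  have h2 : (h * g⁻¹) * (g * x * g⁻¹) * (h * g⁻¹)⁻¹ = h * x * h⁻¹ := by group
  rw [h2] at h1
  exact h1.eq

theorem X_comm [Finite G] (hc : Ctx G m n x y) :
    ∀ a ∈ normalClosure ({x} : Set G), ∀ b ∈ normalClosure ({x} : Set G), a * b = b * a := by
  intro a ha b hb
  have ha' : a ∈ closure (Group.conjugatesOfSet ({x} : Set G)) := ha
  have hb' : b ∈ closure (Group.conjugatesOfSet ({x} : Set G)) := hb
  have h := (Subgroup.isMulCommutative_closure (X_gen_comm hc)).is_comm.comm ⟨a, ha'⟩ ⟨b, hb'⟩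
  exact congrArg Subtype.val h

theorem X_pow [Finite G] (hc : Ctx G m n x y) :
    ∀ c ∈ normalClosure ({x} : Set G), c ^ orderOf x = 1 := by
  intro c hcX
  have hcX' : c ∈ closure (Group.conjugatesOfSet ({x} : Set G)) := hcX
  refine Subgroup.closure_induction (p := fun c _ => c ^ orderOf x = 1) ?_ ?_ ?_ ?_ hcX'
  · intro c hc'
    rw [Group.mem_conjugatesOfSet_iff] at hc'
    obtain ⟨a, ha, hconj⟩ := hc'
    rw [Set.mem_singleton_iff] at ha
    rw [ha] at hconj
    obtain ⟨g, rfl⟩ := isConj_iff.mp hconj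
    rw [conj_pow, pow_orderOf_eq_one]
    group
  · exact one_pow _
  · intro a b ha hb iha ihb
    have hab : Commute a b := X_comm hc a ha b hb
    rw [hab.mul_pow, iha, ihb, one_mul]
  · intro a _ iha
    rw [inv_pow, iha, inv_one]

theorem X_card_primes [Finite G] (hc : Ctx G m n x y) :
    ∀ q : ℕ, q.Prime → q ∣ Nat.card (normalClosure ({x} : Set G)) → q ∣ m := by
  intro q hq hqd
  have : Fact q.Prime := ⟨hq⟩
  obtain ⟨c, hc'⟩ := exists_prime_orderOf_dvd_card' q hqd
  have h1 : (c : G) ^ orderOf x = 1 := X_pow hc c c.2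
  have h2 : orderOf (c : G) = q := by rw [Subgroup.orderOf_coe]; exact hc'
  have h3 : q ∣ orderOf x := by rw [← h2]; exact orderOf_dvd_of_pow_eq_one h1
  exact hc.hx.hord q hq h3

theorem conjNormal_fix_iff {X : Subgroup G} [X.Normal] (h : G) (c : X) :
    MulAut.conjNormal h c = c ↔ h * (c : G) = (c : G) * h := by
  rw [Subtype.ext_iff, MulAut.conjNormal_apply]
  constructor
  · intro e
    calc h * (c : G) = (h * c * h⁻¹) * h := by group
      _ = c * h := by rw [e]
  · intro e
    calc h * (c : G) * h⁻¹ = (c * h) * h⁻¹ := by rw [e]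
      _ = c := by group

/-- Lemma D: a noncentral element `u` of order prime to `m` has class size `m`, and the norm of
a good element of `X` along `u` is central. -/
theorem lemD [Finite G] (hc : Ctx G m n x y) (X : Subgroup G) [X.Normal]
    (hXc : ∀ a ∈ X, ∀ b ∈ X, a * b = b * a)
    (hXp : ∀ q : ℕ, q.Prime → q ∣ Nat.card X → q ∣ m)
    (u : G) (hu : u ∉ center G) (hut : (orderOf u).Coprime m)
    (nm : X →* X)
    (hfix : ∀ a, (MulAut.conjNormal u : MulAut X) (nm a) = nm a)
    (hpow : ∀ a, (MulAut.conjNormal u : MulAut X) a = a → nm a = a ^ orderOf u)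
    (hcm : ∀ ψ : MulAut X, Commute ψ (MulAut.conjNormal u : MulAut X) → ∀ a, nm (ψ a) = ψ (nm a))
    (a : G) (haX : a ∈ X) (ha : Good m n a) :
    idx u = m ∧ ((nm ⟨a, haX⟩ : X) : G) ∈ center G := by
  have hcardcop : (Nat.card X).Coprime (orderOf u) := coprime_of_primes_dvd hXp hut
  obtain ⟨a₀, ha₀t, ha₀φ, ha₁nm, ha₀ψ⟩ :=
    norm_decomp (MulAut.conjNormal u : MulAut X) (orderOf u) hcardcop nm hfix hpow hcm ⟨a, haX⟩
  have hua₀ : Commute u (a₀ : G) := (conjNormal_fix_iff u a₀).mp ha₀φ
  have hordcop : (orderOf (a₀ : G)).Coprime (orderOf u) :=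
    Nat.Coprime.coprime_dvd_left (Subgroup.orderOf_dvd_natCard X a₀.2) hcardcop
  have hle1 : centralizer ({(a₀ : G) * u} : Set G) ≤ centralizer ({(a₀ : G)} : Set G) :=
    Data.cent_mul_le hua₀.symm hordcop
  have hle2 : centralizer ({(a₀ : G) * u} : Set G) ≤ centralizer ({u} : Set G) := by
    rw [← hua₀.eq]; exact Data.cent_mul_le hua₀ hordcop.symm
  -- `u` does not commute with `a`
  have hnua : ¬ (u * a = a * u) := by
    intro h
    exact hu (L4 hc.hyp hc.hy ha (mem_centralizer_singleton_iff.mpr h) hut)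
  have ha₁ : (⟨a, haX⟩ * a₀⁻¹ : X) ≠ 1 := by
    intro h
    rw [mul_inv_eq_one] at h
    apply hnua
    have h2 : (a₀ : G) = a := by rw [← h]
    rw [← h2]; exact hua₀.eq
  have hX_le : X ≤ centralizer ({a} : Set G) := by
    intro c hcX
    rw [mem_centralizer_singleton_iff]
    exact hXc c hcX a haX
  have hH₀ : centralizer ({a} : Set G) ⊓ centralizer ({u} : Set G) ≤
      centralizer ({(a₀ : G) * u} : Set G) := by
    intro h hh
    rw [mem_inf, mem_centralizer_singleton_iff, mem_centralizer_singleton_iff] at hh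
    have hψ : Commute (MulAut.conjNormal h : MulAut X) (MulAut.conjNormal u) :=
      (show Commute h u from hh.2).map _
    have hfixa : (MulAut.conjNormal h : MulAut X) (⟨a, haX⟩ : X) = ⟨a, haX⟩ :=
      (conjNormal_fix_iff h _).mpr hh.1
    have h3 := ha₀ψ _ hψ hfixa
    rw [conjNormal_fix_iff] at h3
    rw [mem_centralizer_singleton_iff]
    exact (Commute.mul_right (show Commute h (a₀ : G) from h3) (show Commute h u from hh.2)).eq
  -- orbit counting
  have hρ : (centralizer ({a} : Set G) ⊓ centralizer ({u} : Set G)).relIndex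
      (centralizer ({(a₀ : G) * u} : Set G)) + 1 ≤ Nat.card nm.ker := by
    apply relIndex_succ_le_of_orbit _ _ nm.ker
      (fun h => (MulAut.conjNormal h : MulAut X) (⟨a, haX⟩ * a₀⁻¹ : X))
    · intro h hh
      have h2 := hle2 hh
      rw [mem_centralizer_singleton_iff] at h2
      have hψ : Commute (MulAut.conjNormal h : MulAut X) (MulAut.conjNormal u) :=
        (show Commute h u from h2).map _
      rw [MonoidHom.mem_ker, hcm _ hψ, ha₁nm, map_one]
    · intro h _ e
      exact ha₁ (EmbeddingLike.map_eq_one_iff.mp e)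
    · intro h hh h' hh' e
      have e' : h * ((⟨a, haX⟩ * a₀⁻¹ : X) : G) * h⁻¹ = h' * ((⟨a, haX⟩ * a₀⁻¹ : X) : G) * h'⁻¹ := by
        have := congrArg Subtype.val e
        rwa [MulAut.conjNormal_apply, MulAut.conjNormal_apply] at this
      obtain ⟨a₁, ha₁def⟩ : ∃ a₁ : G, a₁ = ((⟨a, haX⟩ * a₀⁻¹ : X) : G) := ⟨_, rfl⟩
      rw [← ha₁def] at e'
      have hk1 : (h⁻¹ * h') * a₁ = a₁ * (h⁻¹ * h') := by
        calc (h⁻¹ * h') * a₁ = h⁻¹ * (h' * a₁ * h'⁻¹) * h' := by group
          _ = h⁻¹ * (h * a₁ * h⁻¹) * h' := by rw [e']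
          _ = a₁ * (h⁻¹ * h') := by group
      have hkH : h⁻¹ * h' ∈ centralizer ({(a₀ : G) * u} : Set G) :=
        mul_mem (inv_mem hh) hh'
      have hk2 := hle1 hkH
      have hk3 := hle2 hkH
      rw [mem_centralizer_singleton_iff] at hk2 hk3
      have haa : a = a₁ * (a₀ : G) := by
        rw [ha₁def]
        show a = a * (a₀ : G)⁻¹ * (a₀ : G)
        group
      rw [mem_inf, mem_centralizer_singleton_iff, mem_centralizer_singleton_iff]
      refine ⟨?_, hk3⟩
      rw [haa]
      exact (Commute.mul_right (show Commute (h⁻¹ * h') a₁ from hk1)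
        (show Commute (h⁻¹ * h') (a₀ : G) from hk2)).eq
  -- the kernel bound
  have hker : Nat.card nm.ker ≤ (centralizer ({u} : Set G)).relIndex X := by
    have hF : ∀ c ∈ (centralizer ({u} : Set G)).subgroupOf X,
        (MulAut.conjNormal u : MulAut X) c = c := by
      intro c hcF
      rw [mem_subgroupOf, mem_centralizer_singleton_iff] at hcF
      exact (conjNormal_fix_iff u c).mpr hcF.symm
    have h1 := card_ker_mul_card_fixed_le (MulAut.conjNormal u : MulAut X) (orderOf u) hcardcop nm
      hpow ((centralizer ({u} : Set G)).subgroupOf X) hF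
    rw [← Subgroup.card_mul_index ((centralizer ({u} : Set G)).subgroupOf X)] at h1
    have hpos : 0 < Nat.card ((centralizer ({u} : Set G)).subgroupOf X) := Nat.card_pos
    have h2 : Nat.card ((centralizer ({u} : Set G)).subgroupOf X) * Nat.card nm.ker ≤
        Nat.card ((centralizer ({u} : Set G)).subgroupOf X) *
          ((centralizer ({u} : Set G)).subgroupOf X).index := by
      rw [mul_comm]; exact h1
    exact Nat.le_of_mul_le_mul_left h2 hpos
  have hinf : (centralizer ({a} : Set G) ⊓ centralizer ({u} : Set G)) ⊓ X =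
      centralizer ({u} : Set G) ⊓ X := by
    ext c
    simp only [mem_inf]
    constructor
    · rintro ⟨⟨_, h2⟩, h3⟩
      exact ⟨h2, h3⟩
    · rintro ⟨h2, h3⟩
      exact ⟨⟨hX_le h3, h2⟩, h3⟩
  have hrel1 : (centralizer ({a} : Set G) ⊓ centralizer ({u} : Set G)).relIndex X =
      (centralizer ({u} : Set G)).relIndex X := by
    rw [← inf_relIndex_right (centralizer ({a} : Set G) ⊓ centralizer ({u} : Set G)) X,
      ← inf_relIndex_right (centralizer ({u} : Set G)) X, hinf]
  have hrel2 : (centralizer ({a} : Set G) ⊓ centralizer ({u} : Set G)).relIndex X ≤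
      (centralizer ({a} : Set G) ⊓ centralizer ({u} : Set G)).relIndex
        (centralizer ({a} : Set G)) := by
    apply relIndex_le_of_le_right hX_le
    show ((centralizer ({a} : Set G) ⊓ centralizer ({u} : Set G)).subgroupOf
      (centralizer ({a} : Set G))).index ≠ 0
    exact index_ne_zero_of_finite
  have hmul1 : (centralizer ({a} : Set G) ⊓ centralizer ({u} : Set G)).relIndex
      (centralizer ({a} : Set G)) * idx a =
      (centralizer ({a} : Set G) ⊓ centralizer ({u} : Set G)).index :=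
    relIndex_mul_index inf_le_left
  have hmul2 : (centralizer ({a} : Set G) ⊓ centralizer ({u} : Set G)).relIndex
      (centralizer ({(a₀ : G) * u} : Set G)) * idx ((a₀ : G) * u) =
      (centralizer ({a} : Set G) ⊓ centralizer ({u} : Set G)).index :=
    relIndex_mul_index hH₀
  have hgn : n < idx ((a₀ : G) * u) := by
    by_contra hle
    push Not at hle
    obtain ⟨ρ, hρdef⟩ : ∃ ρ, ρ = (centralizer ({a} : Set G) ⊓ centralizer ({u} : Set G)).relIndex
      (centralizer ({(a₀ : G) * u} : Set G)) := ⟨_, rfl⟩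
    obtain ⟨R, hRdef⟩ : ∃ R, R = (centralizer ({a} : Set G) ⊓ centralizer ({u} : Set G)).relIndex
      (centralizer ({a} : Set G)) := ⟨_, rfl⟩
    rw [← hρdef] at hρ hmul2
    rw [← hRdef] at hrel2 hmul1
    rw [ha.hidx] at hmul1
    have e1 : R * n = ρ * idx ((a₀ : G) * u) := by rw [hmul1, hmul2]
    have h1 : ρ * idx ((a₀ : G) * u) ≤ ρ * n := Nat.mul_le_mul_left _ hle
    have h2 : ρ + 1 ≤ R := by
      calc ρ + 1 ≤ Nat.card nm.ker := hρ
        _ ≤ (centralizer ({u} : Set G)).relIndex X := hker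
        _ = _ := hrel1.symm
        _ ≤ R := hrel2
    have h3 : (ρ + 1) * n ≤ R * n := Nat.mul_le_mul_right _ h2
    have hn0 : 0 < n := by have := hc.hyp.hn; omega
    nlinarith
  have hgm : idx ((a₀ : G) * u) = m := by
    by_contra hne
    have hlt : idx ((a₀ : G) * u) < m := lt_of_le_of_ne (hc.hyp.htop _) hne
    have := hc.hyp.hsec _ hlt
    omega
  -- `a₀` is central
  have hd0 : idx (a₀ : G) ∣ m := by rw [← hgm]; exact idx_dvd_of_le hle1
  have hne0 : idx (a₀ : G) ≠ m := by
    intro h
    have hCeq : centralizer ({(a₀ : G) * u} : Set G) = centralizer ({(a₀ : G)} : Set G) :=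
      eq_of_le_of_index_eq hle1 (by show idx ((a₀ : G) * u) = idx (a₀ : G); rw [hgm, h])
    have h1 : a ∈ centralizer ({(a₀ : G)} : Set G) := by
      rw [mem_centralizer_singleton_iff]
      exact hXc a haX a₀ a₀.2
    rw [← hCeq] at h1
    have h2 := hle2 h1
    rw [mem_centralizer_singleton_iff] at h2
    exact hnua h2.symm
  have ha₀z : (a₀ : G) ∈ center G := by
    apply lemE hc.hyp hc.hx.hidx
    · exact Nat.Coprime.coprime_dvd_left hd0 hc.hyp.hcop
    · exact lt_of_le_of_ne (hc.hyp.htop _) hne0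
    · exact Nat.Coprime.coprime_dvd_left (Subgroup.orderOf_dvd_natCard X a₀.2)
        (coprime_of_primes_dvd hXp hc.hyp.hcop.symm)
  constructor
  · have hle3 : centralizer ({u} : Set G) ≤ centralizer ({(a₀ : G) * u} : Set G) := by
      intro h hh
      rw [mem_centralizer_singleton_iff] at hh ⊢
      have h1 := mem_center_iff.mp ha₀z h
      exact (Commute.mul_right (show Commute h (a₀ : G) from h1) (show Commute h u from hh)).eq
    have hCeq := le_antisymm hle2 hle3
    show (centralizer ({u} : Set G)).index = m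
    rw [← hCeq]
    exact hgm
  · rw [← ha₀t, Subgroup.coe_pow]
    exact (center G).pow_mem ha₀z _

theorem idx_eq_top [Finite G] (hc : Ctx G m n x y) {u : G} (hu : u ∉ center G)
    (hut : (orderOf u).Coprime m) : idx u = m := by
  have hcomm : ∀ a b : (normalClosure ({x} : Set G)), a * b = b * a := by
    intro a b
    exact Subtype.ext (X_comm hc a a.2 b b.2)
  have hφ : (MulAut.conjNormal u : MulAut (normalClosure ({x} : Set G))) ^ orderOf u = 1 := by
    rw [← map_pow, pow_orderOf_eq_one, map_one]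
  obtain ⟨nm, hfix, hpow, hcm⟩ := exists_norm_hom hcomm _ _ hφ
  exact (lemD hc (normalClosure ({x} : Set G)) (X_comm hc) (X_card_primes hc) u hu hut nm hfix hpow
    hcm x (Subgroup.subset_normalClosure (Set.mem_singleton x)) hc.hx).1

theorem fpf [Finite G] (hc : Ctx G m n x y) {u : G} (hu : u ∉ center G)
    (hut : (orderOf u).Coprime m) {c : G} (hcX : c ∈ normalClosure ({x} : Set G))
    (hcu : Commute u c) : c ∈ center G := by
  have hcomm : ∀ a b : (normalClosure ({x} : Set G)), a * b = b * a := by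
    intro a b
    exact Subtype.ext (X_comm hc a a.2 b b.2)
  have hφ : (MulAut.conjNormal u : MulAut (normalClosure ({x} : Set G))) ^ orderOf u = 1 := by
    rw [← map_pow, pow_orderOf_eq_one, map_one]
  obtain ⟨nm, hfix, hpow, hcm⟩ := exists_norm_hom hcomm _ _ hφ
  -- the subgroup of elements with central norm
  obtain ⟨T, hT⟩ : ∃ T : Subgroup G, T = ((((center G).subgroupOf
    (normalClosure ({x} : Set G))).comap nm).map (normalClosure ({x} : Set G)).subtype) := ⟨_, rfl⟩
  have hgen : Group.conjugatesOfSet ({x} : Set G) ⊆ T := by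
    intro d hd
    have hdX : d ∈ normalClosure ({x} : Set G) := Subgroup.conjugatesOfSet_subset_normalClosure hd
    rw [Group.mem_conjugatesOfSet_iff] at hd
    obtain ⟨a, ha, hconj⟩ := hd
    rw [Set.mem_singleton_iff] at ha
    rw [ha] at hconj
    obtain ⟨g, rfl⟩ := isConj_iff.mp hconj
    have h1 := (lemD hc (normalClosure ({x} : Set G)) (X_comm hc) (X_card_primes hc) u hu hut nm
      hfix hpow hcm (g * x * g⁻¹) hdX (hc.hx.conj g)).2
    rw [hT, SetLike.mem_coe, mem_map]
    refine ⟨⟨g * x * g⁻¹, hdX⟩, ?_, rfl⟩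
    rw [mem_comap, mem_subgroupOf]
    exact h1
  have hXT : normalClosure ({x} : Set G) ≤ T := (Subgroup.closure_le T).mpr hgen
  have hcT := hXT hcX
  rw [hT, mem_map] at hcT
  obtain ⟨c', hc'S, rfl⟩ := hcT
  rw [mem_comap, mem_subgroupOf] at hc'S
  have hfixc : (MulAut.conjNormal u : MulAut (normalClosure ({x} : Set G))) c' = c' :=
    (conjNormal_fix_iff u c').mpr hcu.eq
  rw [hpow c' hfixc, Subgroup.coe_pow] at hc'S
  have h2 : ((normalClosure ({x} : Set G)).subtype c') ^
      Nat.card (normalClosure ({x} : Set G)) ∈ center G := by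
    have h3 : c' ^ Nat.card (normalClosure ({x} : Set G)) = 1 := pow_card_eq_one'
    have h4 : ((normalClosure ({x} : Set G)).subtype c') ^
        Nat.card (normalClosure ({x} : Set G)) = 1 := by
      rw [← map_pow, h3, map_one]
    rw [h4]; exact (center G).one_mem
  exact Cfsg.Agent.Lib.Helper1.CM.mem_of_pow_mem (center G)
    (coprime_of_primes_dvd (X_card_primes hc) hut).symm hc'S h2

end Cfsg.Agent.Lib.Helper2.CS
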