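import Mathlib
import Cfsg.Agent.Lib.Helper2.CS3

set_option autoImplicit false

/-! Two largest class sizes coprime (S4138): the structure of the centralizers of elements of
class size `m`. -/

namespace Cfsg.Agent.Lib.Helper2.CS

open Subgroup Pointwise
open Cfsg.Agent.Lib.Helper1.BHM

variable {G : Type*} [Group G] {m n : ℕ} {x y : G}

theorem L7 [Finite G] (hc : Ctx G m n x y) {u : G} (hu : u ∉ center G)
    (hut : (orderOf u).Coprime m) {r : G} (hr : r ∈ centralizer ({u} : Set G)) {q j : ℕ}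
    (hq : q.Prime) (hqm : q ∣ m) (hro : orderOf r = q ^ j) : r ∈ center G := by
  by_contra hrz
  have hum : idx u = m := idx_eq_top hc hu hut
  rw [mem_centralizer_singleton_iff] at hr
  have hcomm : Commute u r := hr.symm
  have hcop : (orderOf u).Coprime (orderOf r) := by
    rw [hro]; exact Nat.Coprime.pow_right j (Nat.Coprime.coprime_dvd_right hqm hut)
  have hle1 := Data.cent_mul_le hcomm hcop
  have hle2 : centralizer ({u * r} : Set G) ≤ centralizer ({r} : Set G) := by
    rw [hcomm.eq]; exact Data.cent_mul_le hcomm.symm hcop.symm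
  have hd1 : idx u ∣ idx (u * r) := idx_dvd_of_le hle1
  rw [hum] at hd1
  have hurm : idx (u * r) = m := le_antisymm (hc.hyp.htop _) (Nat.le_of_dvd (idx_pos _) hd1)
  have hCeq : centralizer ({u * r} : Set G) = centralizer ({u} : Set G) :=
    eq_of_le_of_index_eq hle1 (by show idx (u * r) = idx u; rw [hurm, hum])
  have hle3 : centralizer ({u} : Set G) ≤ centralizer ({r} : Set G) := hCeq ▸ hle2
  have hd2 : idx r ∣ m := by rw [← hum]; exact idx_dvd_of_le hle3
  have hqn : q.Coprime n := Nat.Coprime.coprime_dvd_left hqm hc.hyp.hcop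
  have hrm : idx r = m := by
    by_contra hne
    apply hrz
    apply lemE hc.hyp hc.hx.hidx
    · exact Nat.Coprime.coprime_dvd_left hd2 hc.hyp.hcop
    · exact lt_of_le_of_ne (hc.hyp.htop _) hne
    · rw [hro]; exact Nat.Coprime.pow_left j hqn
  have hCeq2 : centralizer ({u} : Set G) = centralizer ({r} : Set G) :=
    eq_of_le_of_index_eq hle3 (by show idx u = idx r; rw [hum, hrm])
  have : Fact q.Prime := ⟨hq⟩
  have hR : IsPGroup q (zpowers r) := IsPGroup.of_card (n := j) (by rw [Nat.card_zpowers, hro])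
  have hM : ¬ q ∣ (centralizer ({x} : Set G)).index := by
    intro h
    have h1 : q ∣ n := by
      have h2 : (centralizer ({x} : Set G)).index = n := hc.hx.hidx
      rwa [h2] at h
    exact hq.ne_one (Nat.eq_one_of_dvd_coprimes hc.hyp.hcop hqm h1)
  obtain ⟨g, hg⟩ := Cfsg.Agent.Lib.Helper2.exists_conj_le_of_not_dvd_index hR hM
  have h1 := hg r (mem_zpowers r)
  rw [mem_centralizer_singleton_iff] at h1
  have h2 : (g * x * g⁻¹) * r = r * (g * x * g⁻¹) := by
    calc (g * x * g⁻¹) * r = g * (x * (g⁻¹ * r * g)) * g⁻¹ := by group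
      _ = g * ((g⁻¹ * r * g) * x) * g⁻¹ := by rw [h1]
      _ = r * (g * x * g⁻¹) := by group
  have h3 : g * x * g⁻¹ ∈ centralizer ({u} : Set G) := by
    rw [hCeq2, mem_centralizer_singleton_iff]; exact h2
  rw [mem_centralizer_singleton_iff] at h3
  exact hu (L4 hc.hyp hc.hy (hc.hx.conj g) (mem_centralizer_singleton_iff.mpr h3.symm) hut)

theorem L8 [Finite G] (hc : Ctx G m n x y) {d : G} (hd : idx d = m) :
    ∃ (p : ℕ) (v : G) (j : ℕ), p.Prime ∧ p ∣ n ∧ ¬ p ∣ m ∧ v ∈ centralizer ({d} : Set G) ∧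
      v ∉ center G ∧ orderOf v = p ^ j := by
  have hn1 : n ≠ 1 := by have := hc.hyp.hn; omega
  have hp : n.minFac.Prime := Nat.minFac_prime hn1
  have hpn : n.minFac ∣ n := Nat.minFac_dvd n
  obtain ⟨p, hpdef⟩ : ∃ p, p = n.minFac := ⟨_, rfl⟩
  rw [← hpdef] at hp hpn
  have hpm : ¬ p ∣ m := fun h => hp.ne_one (Nat.eq_one_of_dvd_coprimes hc.hyp.hcop h hpn)
  have : Fact p.Prime := ⟨hp⟩
  obtain ⟨P⟩ : Nonempty (Sylow p G) := inferInstance
  have hex : ∃ v ∈ (P : Subgroup G), v ∉ center G := by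
    by_contra hne
    push Not at hne
    have hle : (P : Subgroup G) ≤ centralizer ({x} : Set G) :=
      fun v hv => Cfsg.Agent.Lib.Helper1.CM.center_le_cent x (hne v hv)
    have h1 : (centralizer ({x} : Set G)).index ∣ (P : Subgroup G).index := index_dvd_of_le hle
    have h2 : (centralizer ({x} : Set G)).index = n := hc.hx.hidx
    rw [h2] at h1
    exact P.not_dvd_index (hpn.trans h1)
  obtain ⟨v, hvP, hvz⟩ := hex
  have hM : ¬ p ∣ (centralizer ({d} : Set G)).index := by
    have h2 : (centralizer ({d} : Set G)).index = m := hd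
    rw [h2]; exact hpm
  obtain ⟨g, hg⟩ := Cfsg.Agent.Lib.Helper2.exists_conj_le_of_not_dvd_index P.isPGroup' hM
  obtain ⟨j, hj⟩ := (IsPGroup.iff_orderOf.mp P.isPGroup') ⟨v, hvP⟩
  have hj' : orderOf v = p ^ j := by
    have h3 := Subgroup.orderOf_coe (⟨v, hvP⟩ : (P : Subgroup G))
    rw [← hj, ← h3]
  have e : g⁻¹ * v * g = g⁻¹ * v * g⁻¹⁻¹ := by rw [inv_inv]
  refine ⟨p, g⁻¹ * v * g, j, hp, hpn, hpm, hg v hvP, ?_, ?_⟩
  · rw [e, conj_mem_center_iff]; exact hvz
  · rw [e, orderOf_conj']; exact hj'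

theorem exists_top {p k : ℕ} {w : G} (hw : w ∉ center G) (hwo : orderOf w = p ^ k) :
    ∃ a ∈ zpowers w, a ∉ center G ∧ a ^ p ∈ center G := by
  classical
  have hex : ∃ e : ℕ, w ^ (p ^ e) ∈ center G :=
    ⟨k, by rw [← hwo, pow_orderOf_eq_one]; exact one_mem _⟩
  have he0 : Nat.find hex ≠ 0 := by
    intro h0
    have h1 := Nat.find_spec hex
    rw [h0, pow_zero, pow_one] at h1
    exact hw h1
  obtain ⟨e, he⟩ := Nat.exists_eq_succ_of_ne_zero he0
  refine ⟨w ^ (p ^ e), Subgroup.pow_mem _ (mem_zpowers w) _, ?_, ?_⟩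
  · exact Nat.find_min hex (by rw [he]; exact Nat.lt_succ_self e)
  · rw [← pow_mul, ← pow_succ]
    have h1 := Nat.find_spec hex
    rwa [he] at h1

/-- the data of a noncentral element of prime power order, for a prime not dividing `m` -/
structure U0 (G : Type*) [Group G] (m p₀ : ℕ) (u₀ : G) : Prop where
  hp : p₀.Prime
  hpm : ¬ p₀ ∣ m
  hnz : u₀ ∉ center G
  hord : ∃ i : ℕ, orderOf u₀ = p₀ ^ i

theorem U0.coprime {p₀ : ℕ} {u₀ : G} (hU : U0 G m p₀ u₀) : (orderOf u₀).Coprime m := by
  obtain ⟨i, hi⟩ := hU.hord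
  rw [hi]
  exact Nat.Coprime.pow_left i ((Nat.Prime.coprime_iff_not_dvd hU.hp).mpr hU.hpm)

theorem conjNormal_eq_one_of_central {X : Subgroup G} [X.Normal] {z : G} (hz : z ∈ center G) :
    (MulAut.conjNormal z : MulAut X) = 1 := by
  apply MulEquiv.ext
  intro c
  apply Subtype.ext
  rw [MulAut.conjNormal_apply]
  show z * (c : G) * z⁻¹ = (c : G)
  have h1 := mem_center_iff.mp hz (c : G)
  calc z * (c : G) * z⁻¹ = ((c : G) * z) * z⁻¹ := by rw [h1]
    _ = c := by group

theorem L9 [Finite G] (hc : Ctx G m n x y) {p₀ : ℕ} {u₀ : G} (hU : U0 G m p₀ u₀) {v : G}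
    (hv : v ∈ centralizer ({u₀} : Set G)) (hvz : v ∉ center G) {q j : ℕ} (hq : q.Prime)
    (hvo : orderOf v = q ^ j) : centralizer ({v} : Set G) = centralizer ({u₀} : Set G) := by
  have hut₀ := hU.coprime
  by_cases hqm : q ∣ m
  · exact absurd (L7 hc hU.hnz hut₀ hv hq hqm hvo) hvz
  have hvt : (orderOf v).Coprime m := by
    rw [hvo]; exact Nat.Coprime.pow_left j ((Nat.Prime.coprime_iff_not_dvd hq).mpr hqm)
  have hvm : idx v = m := idx_eq_top hc hvz hvt
  have hum : idx u₀ = m := idx_eq_top hc hU.hnz hut₀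
  have hv' := hv
  rw [mem_centralizer_singleton_iff] at hv'
  have hcomm : Commute u₀ v := hv'.symm
  obtain ⟨i₀, hi₀⟩ := hU.hord
  by_cases hne : q = p₀
  swap
  · -- different primes
    have hcop : (orderOf u₀).Coprime (orderOf v) := by
      rw [hi₀, hvo]
      exact Nat.Coprime.pow _ _ ((Nat.coprime_primes hU.hp hq).mpr (Ne.symm hne))
    have hle1 := Data.cent_mul_le hcomm hcop
    have hle2 : centralizer ({u₀ * v} : Set G) ≤ centralizer ({v} : Set G) := by
      rw [hcomm.eq]; exact Data.cent_mul_le hcomm.symm hcop.symm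
    have hgz : u₀ * v ∉ center G := by
      intro hz
      apply hU.hnz
      rw [mem_center_iff]
      intro h
      have h1 : h ∈ centralizer ({u₀ * v} : Set G) := by
        rw [mem_centralizer_singleton_iff]; exact mem_center_iff.mp hz h
      have h2 := hle1 h1
      rwa [mem_centralizer_singleton_iff] at h2
    have hgt : (orderOf (u₀ * v)).Coprime m := by
      rw [hcomm.orderOf_mul_eq_mul_orderOf_of_coprime hcop]
      exact Nat.Coprime.mul_left hut₀ hvt
    have hgm : idx (u₀ * v) = m := idx_eq_top hc hgz hgt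
    have e1 : centralizer ({u₀ * v} : Set G) = centralizer ({u₀} : Set G) :=
      eq_of_le_of_index_eq hle1 (by show idx (u₀ * v) = idx u₀; rw [hgm, hum])
    have e2 : centralizer ({u₀ * v} : Set G) = centralizer ({v} : Set G) :=
      eq_of_le_of_index_eq hle2 (by show idx (u₀ * v) = idx v; rw [hgm, hvm])
    rw [← e2, e1]
  · -- same prime
    subst hne
    obtain ⟨a, haz, hanz, hapz⟩ := exists_top hU.hnz hi₀
    obtain ⟨b, hbz, hbnz, hbpz⟩ := exists_top hvz hvo
    have hao : (orderOf a).Coprime m :=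
      Nat.Coprime.coprime_dvd_left (orderOf_dvd_of_mem_zpowers haz) hut₀
    have hbo : (orderOf b).Coprime m :=
      Nat.Coprime.coprime_dvd_left (orderOf_dvd_of_mem_zpowers hbz) hvt
    have ham : idx a = m := idx_eq_top hc hanz hao
    have hbm : idx b = m := idx_eq_top hc hbnz hbo
    have hCa : centralizer ({u₀} : Set G) = centralizer ({a} : Set G) :=
      eq_of_le_of_index_eq (Cfsg.Agent.Lib.Helper1.CM.cent_le_of_mem_zpowers haz)
        (by show idx u₀ = idx a; rw [hum, ham])
    have hCb : centralizer ({v} : Set G) = centralizer ({b} : Set G) :=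
      eq_of_le_of_index_eq (Cfsg.Agent.Lib.Helper1.CM.cent_le_of_mem_zpowers hbz)
        (by show idx v = idx b; rw [hvm, hbm])
    have hab : Commute a b := by
      have h1 : v ∈ centralizer ({a} : Set G) := hCa ▸ hv
      rw [mem_centralizer_singleton_iff] at h1
      have h2 : a ∈ centralizer ({v} : Set G) := mem_centralizer_singleton_iff.mpr h1.symm
      rw [hCb, mem_centralizer_singleton_iff] at h2
      exact h2
    rw [hCa, hCb]
    by_cases hcase : ∃ i : ℕ, a ^ i * b ∈ center G
    · obtain ⟨i, hi⟩ := hcase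
      have hle : centralizer ({a} : Set G) ≤ centralizer ({b} : Set G) := by
        intro h hh
        rw [mem_centralizer_singleton_iff] at hh ⊢
        have h1 : Commute h (a ^ i) := (show Commute h a from hh).pow_right i
        have h2 : Commute h (a ^ i * b) := mem_center_iff.mp hi h
        have h3 : b = (a ^ i)⁻¹ * (a ^ i * b) := by group
        rw [h3]
        exact (h1.inv_right.mul_right h2).eq
      exact (eq_of_le_of_index_eq hle (by show idx a = idx b; rw [ham, hbm])).symm
    · exfalso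
      push Not at hcase
      have hqX : q.Coprime (Nat.card (normalClosure ({x} : Set G))) :=
        (coprime_of_primes_dvd (X_card_primes hc)
          ((Nat.Prime.coprime_iff_not_dvd hq).mpr hqm)).symm
      have hcommX : ∀ c d : (normalClosure ({x} : Set G)), c * d = d * c := fun c d =>
        Subtype.ext (X_comm hc c c.2 d d.2)
      have hα : (MulAut.conjNormal a : MulAut (normalClosure ({x} : Set G))) ^ q = 1 := by
        rw [← map_pow]; exact conjNormal_eq_one_of_central hapz
      have hβ : (MulAut.conjNormal b : MulAut (normalClosure ({x} : Set G))) ^ q = 1 := by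
        rw [← map_pow]; exact conjNormal_eq_one_of_central hbpz
      have hall : ∀ c : (normalClosure ({x} : Set G)),
          c ∈ (center G).subgroupOf (normalClosure ({x} : Set G)) := by
        apply fpf_abstract' hcommX hq hqX (MulAut.conjNormal a) (MulAut.conjNormal b)
          (hab.map _) hα hβ
        · intro z hz
          rw [mem_subgroupOf] at hz ⊢
          rw [MulAut.conjNormal_apply]
          exact (inferInstance : (center G).Normal).conj_mem _ hz b
        · intro k hk0 hkq c hfixc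
          rw [← map_pow, conjNormal_fix_iff] at hfixc
          rw [mem_subgroupOf]
          have haknz : a ^ k ∉ center G := by
            intro h
            apply hanz
            have hcop : k.Coprime q :=
              ((Nat.Prime.coprime_iff_not_dvd hq).mpr (Nat.not_dvd_of_pos_of_lt hk0 hkq)).symm
            exact Cfsg.Agent.Lib.Helper1.CM.mem_of_pow_mem (center G) hcop h hapz
          have hakt : (orderOf (a ^ k)).Coprime m :=
            Nat.Coprime.coprime_dvd_left (orderOf_pow_dvd k) hao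
          exact fpf hc haknz hakt c.2 hfixc
        · intro i c hfixc
          rw [← map_pow, ← map_mul, conjNormal_fix_iff] at hfixc
          rw [mem_subgroupOf]
          have hcomm2 : Commute (a ^ i) b := hab.pow_left i
          have ht : (orderOf (a ^ i * b)).Coprime m := by
            apply Nat.Coprime.coprime_dvd_left hcomm2.orderOf_mul_dvd_mul_orderOf
            exact Nat.Coprime.mul_left
              (Nat.Coprime.coprime_dvd_left (orderOf_pow_dvd i) hao) hbo
          exact fpf hc (hcase i) ht c.2 hfixc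
      have h1 := hall ⟨x, Subgroup.subset_normalClosure (Set.mem_singleton x)⟩
      rw [mem_subgroupOf] at h1
      exact hc.hx.not_central hc.hyp.hn h1

theorem exists_pp_not_mem [Finite G] (K : Subgroup G) {h : G} (hh : h ∉ K) :
    ∃ w ∈ zpowers h, (∃ q j : ℕ, q.Prime ∧ orderOf w = q ^ j) ∧ w ∉ K := by
  by_contra hne
  apply hh
  apply mem_of_prime_pow_mem K h
  intro w hw hpp
  by_contra hwz
  exact hne ⟨w, hw, hpp, hwz⟩

theorem L10_comm [Finite G] (hc : Ctx G m n x y) {p₀ : ℕ} {u₀ : G} (hU : U0 G m p₀ u₀) :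
    ∀ h ∈ centralizer ({u₀} : Set G), ∀ k ∈ centralizer ({u₀} : Set G), h * k = k * h := by
  intro h hh k hk
  have hK : h ∈ centralizer ((centralizer ({u₀} : Set G) : Subgroup G) : Set G) := by
    apply mem_of_prime_pow_mem _ h
    intro w hw hpp
    obtain ⟨q, j, hq, hwo⟩ := hpp
    have hwU : w ∈ centralizer ({u₀} : Set G) := (zpowers_le.mpr hh) hw
    by_cases hwz : w ∈ center G
    · exact Subgroup.center_le_centralizer _ hwz
    · have hCw := L9 hc hU hwU hwz hq hwo
      rw [mem_centralizer_iff]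
      intro k' hk'
      have h1 : k' ∈ centralizer ({w} : Set G) := by rw [hCw]; exact hk'
      exact mem_centralizer_singleton_iff.mp h1
  rw [mem_centralizer_iff] at hK
  exact (hK k hk).symm

theorem L10_cent [Finite G] (hc : Ctx G m n x y) {p₀ : ℕ} {u₀ : G} (hU : U0 G m p₀ u₀) {h : G}
    (hh : h ∈ centralizer ({u₀} : Set G)) (hhz : h ∉ center G) :
    centralizer ({h} : Set G) = centralizer ({u₀} : Set G) := by
  apply le_antisymm
  · obtain ⟨w, hw, ⟨q, j, hq, hwo⟩, hwz⟩ := exists_pp_not_mem (center G) hhz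
    have hwU : w ∈ centralizer ({u₀} : Set G) := (zpowers_le.mpr hh) hw
    rw [← L9 hc hU hwU hwz hq hwo]
    exact Cfsg.Agent.Lib.Helper1.CM.cent_le_of_mem_zpowers hw
  · intro k hk
    rw [mem_centralizer_singleton_iff]
    exact L10_comm hc hU k hk h hh

theorem L10_pi [Finite G] (hc : Ctx G m n x y) {p₀ : ℕ} {u₀ : G} (hU : U0 G m p₀ u₀) {h : G}
    (hh : h ∈ centralizer ({u₀} : Set G))
    (hπ : ∀ q : ℕ, q.Prime → q ∣ orderOf h → q ∣ m) : h ∈ center G := by
  apply mem_of_prime_pow_mem (center G) h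
  intro w hw hpp
  obtain ⟨q, j, hq, hwo⟩ := hpp
  have hwU : w ∈ centralizer ({u₀} : Set G) := (zpowers_le.mpr hh) hw
  rcases Nat.eq_zero_or_pos j with hj | hj
  · rw [hj, pow_zero, orderOf_eq_one_iff] at hwo
    rw [hwo]; exact one_mem _
  · have hqw : q ∣ orderOf w := by rw [hwo]; exact dvd_pow_self q hj.ne'
    have hqm : q ∣ m := hπ q hq (hqw.trans (orderOf_dvd_of_mem_zpowers hw))
    exact L7 hc hU.hnz hU.coprime hwU hq hqm hwo

theorem L11 [Finite G] (hc : Ctx G m n x y) {p₀ : ℕ} {u₀ : G} (hU : U0 G m p₀ u₀) {a : G}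
    (ha : Good m n a) :
    centralizer ({a} : Set G) ⊓ centralizer ({u₀} : Set G) = center G := by
  apply le_antisymm
  · intro h hh
    rw [mem_inf] at hh
    by_contra hhz
    have hCh := L10_cent hc hU hh.2 hhz
    have h1 := hh.1
    rw [mem_centralizer_singleton_iff] at h1
    have h2 : a ∈ centralizer ({h} : Set G) := mem_centralizer_singleton_iff.mpr h1.symm
    rw [hCh] at h2
    exact ha.not_central hc.hyp.hn (L10_pi hc hU h2 ha.hord)
  · exact le_inf (Cfsg.Agent.Lib.Helper1.CM.center_le_cent a)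
      (Cfsg.Agent.Lib.Helper1.CM.center_le_cent u₀)

theorem index_center [Finite G] (hc : Ctx G m n x y) {p₀ : ℕ} {u₀ : G} (hU : U0 G m p₀ u₀) :
    (center G).index = n * m := by
  have hum : idx u₀ = m := idx_eq_top hc hU.hnz hU.coprime
  rw [← L11 hc hU hc.hx]
  have hcop : (centralizer ({x} : Set G)).index.Coprime (centralizer ({u₀} : Set G)).index := by
    show (idx x).Coprime (idx u₀)
    rw [hc.hx.hidx, hum]; exact hc.hyp.hcop.symm
  rw [Cfsg.Agent.Lib.Helper1.index_inf_of_coprime _ _ hcop]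
  show idx x * idx u₀ = n * m
  rw [hc.hx.hidx, hum]

theorem good_of_prime_pow [Finite G] (hc : Ctx G m n x y) {p₀ : ℕ} {u₀ : G}
    (hU : U0 G m p₀ u₀) {r : G} (hrz : r ∉ center G) {q j : ℕ} (hq : q.Prime) (hqm : q ∣ m)
    (hro : orderOf r = q ^ j) : Good m n r := by
  have hord : ∀ q' : ℕ, q'.Prime → q' ∣ orderOf r → q' ∣ m := by
    intro q' hq' hd
    rw [hro] at hd
    have h1 := (Nat.prime_dvd_prime_iff_eq hq' hq).mp (hq'.dvd_of_dvd_pow hd)
    rw [h1]; exact hqm
  refine ⟨?_, hord⟩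
  have hum : idx u₀ = m := idx_eq_top hc hU.hnz hU.coprime
  have hinf : centralizer ({r} : Set G) ⊓ centralizer ({u₀} : Set G) = center G := by
    apply le_antisymm
    · intro h hh
      rw [mem_inf] at hh
      by_contra hhz
      have hCh := L10_cent hc hU hh.2 hhz
      have h1 := hh.1
      rw [mem_centralizer_singleton_iff] at h1
      have h2 : r ∈ centralizer ({h} : Set G) := mem_centralizer_singleton_iff.mpr h1.symm
      rw [hCh] at h2
      exact hrz (L10_pi hc hU h2 hord)
    · exact le_inf (Cfsg.Agent.Lib.Helper1.CM.center_le_cent r)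
        (Cfsg.Agent.Lib.Helper1.CM.center_le_cent u₀)
  have hge : n ≤ idx r := by
    have h1 : (centralizer ({r} : Set G) ⊓ centralizer ({u₀} : Set G)).index ≤
        idx r * idx u₀ := index_inf_le
    rw [hinf, index_center hc hU, hum] at h1
    exact Nat.le_of_mul_le_mul_right h1 (by have := hc.hyp.hmn; omega)
  have hne : idx r ≠ m := by
    intro hrm
    obtain ⟨p, v, j', hp, hpn, hpm, hvr, hvz, hvo⟩ := L8 hc hrm
    have hvt : (orderOf v).Coprime m := by
      rw [hvo]; exact Nat.Coprime.pow_left j' ((Nat.Prime.coprime_iff_not_dvd hp).mpr hpm)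
    rw [mem_centralizer_singleton_iff] at hvr
    exact hrz (L7 hc hvz hvt (mem_centralizer_singleton_iff.mpr hvr.symm) hq hqm hro)
  have hlt : idx r < m := lt_of_le_of_ne (hc.hyp.htop _) hne
  exact le_antisymm (hc.hyp.hsec _ hlt) hge

theorem L13 [Finite G] (hc : Ctx G m n x y) {p₀ : ℕ} {u₀ : G} (hU : U0 G m p₀ u₀) {g h : G}
    (hh : h ∈ centralizer ({u₀} : Set G)) (hhz : h ∉ center G)
    (hgh : g * h * g⁻¹ ∈ centralizer ({u₀} : Set G)) : g ∈ centralizer ({u₀} : Set G) := by
  have hum : idx u₀ = m := idx_eq_top hc hU.hnz hU.coprime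
  have hcop : (centralizer ({u₀} : Set G)).index.Coprime (centralizer ({x} : Set G)).index := by
    show (idx u₀).Coprime (idx x)
    rw [hc.hx.hidx, hum]; exact hc.hyp.hcop
  obtain ⟨c, hcU, r, hrx, hgcr⟩ := Cfsg.Agent.Lib.Helper1.mul_eq_of_coprime_index _ _ hcop g
  have hrh : r * h * r⁻¹ ∈ centralizer ({u₀} : Set G) := by
    have e : r * h * r⁻¹ = c⁻¹ * (g * h * g⁻¹) * c := by rw [hgcr]; group
    rw [e]
    exact mul_mem (mul_mem (inv_mem hcU) hgh) hcU
  suffices hrU : r ∈ centralizer ({u₀} : Set G) by rw [hgcr]; exact mul_mem hcU hrU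
  by_contra hrU
  have hCh := L10_cent hc hU hh hhz
  have hrhz : r * h * r⁻¹ ∉ center G := by rw [conj_mem_center_iff]; exact hhz
  have hCh' := L10_cent hc hU hrh hrhz
  have hrN : r ∈ normalizer ((centralizer ({u₀} : Set G) : Subgroup G) : Set G) := by
    rw [mem_normalizer_iff]
    intro k
    constructor
    · intro hk
      rw [← hCh', conj_mem_cent_conj, hCh]; exact hk
    · intro hk
      rw [← hCh', conj_mem_cent_conj, hCh] at hk; exact hk
  obtain ⟨w, hw, ⟨q, j, hq, hwo⟩, hwU⟩ := exists_pp_not_mem _ hrU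
  have hwx : w ∈ centralizer ({x} : Set G) := (zpowers_le.mpr hrx) hw
  have hwN : w ∈ normalizer ((centralizer ({u₀} : Set G) : Subgroup G) : Set G) :=
    (zpowers_le.mpr hrN) hw
  have hwz : w ∉ center G := fun h' => hwU (Cfsg.Agent.Lib.Helper1.CM.center_le_cent u₀ h')
  have hqm : q ∣ m := by
    by_contra hqm
    have hwt : (orderOf w).Coprime m := by
      rw [hwo]; exact Nat.Coprime.pow_left j ((Nat.Prime.coprime_iff_not_dvd hq).mpr hqm)
    exact hwz (L4 hc.hyp hc.hy hc.hx hwx hwt)
  have hGw : Good m n w := good_of_prime_pow hc hU hwz hq hqm hwo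
  have hu₀U : u₀ ∈ centralizer ({u₀} : Set G) := mem_centralizer_singleton_iff.mpr rfl
  obtain ⟨k, hkdef⟩ : ∃ k, k = w⁻¹ * (u₀ * w * u₀⁻¹) := ⟨_, rfl⟩
  have hk1 : k ^ orderOf w = 1 := by rw [hkdef]; exact good_pow_comm hc hGw u₀
  have hkU : k ∈ centralizer ({u₀} : Set G) := by
    have h1 : w⁻¹ * u₀ * w⁻¹⁻¹ ∈ centralizer ({u₀} : Set G) :=
      (mem_normalizer_iff.mp (inv_mem hwN) u₀).mp hu₀U
    rw [inv_inv] at h1
    have e : k = (w⁻¹ * u₀ * w) * u₀⁻¹ := by rw [hkdef]; group
    rw [e]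
    exact mul_mem h1 (inv_mem hu₀U)
  have hko : ∃ i, orderOf k = q ^ i := by
    have h1 : orderOf k ∣ q ^ j := by rw [← hwo]; exact orderOf_dvd_of_pow_eq_one hk1
    obtain ⟨i, _, hi⟩ := (Nat.dvd_prime_pow hq).mp h1
    exact ⟨i, hi⟩
  obtain ⟨i, hi⟩ := hko
  have hkz : k ∈ center G := L7 hc hU.hnz hU.coprime hkU hq hqm hi
  have hwk : u₀ * w * u₀⁻¹ = w * k := by rw [hkdef]; group
  have hstep : ∀ s : ℕ, u₀ ^ s * w * (u₀ ^ s)⁻¹ = w * k ^ s := by
    intro s
    induction s with
    | zero => simp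
    | succ s ih =>
      have hks : k ^ s ∈ center G := (center G).pow_mem hkz s
      have hc1 : u₀ * k ^ s = k ^ s * u₀ := mem_center_iff.mp hks u₀
      calc u₀ ^ (s + 1) * w * (u₀ ^ (s + 1))⁻¹
          = u₀ * (u₀ ^ s * w * (u₀ ^ s)⁻¹) * u₀⁻¹ := by rw [pow_succ']; group
        _ = u₀ * (w * k ^ s) * u₀⁻¹ := by rw [ih]
        _ = (u₀ * w * u₀⁻¹) * (u₀ * k ^ s * u₀⁻¹) := by group
        _ = (w * k) * k ^ s := by rw [hc1, hwk]; group
        _ = w * k ^ (s + 1) := by rw [pow_succ']; group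
  have hkt : k ^ orderOf u₀ = 1 := by
    have h1 := hstep (orderOf u₀)
    rw [pow_orderOf_eq_one, one_mul, inv_one, mul_one] at h1
    have h2 : w * k ^ orderOf u₀ = w * 1 := by rw [mul_one]; exact h1.symm
    exact mul_left_cancel h2
  have hk_one : k = 1 := by
    have h1 : orderOf k ∣ orderOf w := orderOf_dvd_of_pow_eq_one hk1
    have h2 : orderOf k ∣ orderOf u₀ := orderOf_dvd_of_pow_eq_one hkt
    have h3 := Nat.eq_one_of_dvd_coprimes (coprime_of_primes_dvd hGw.hord hU.coprime) h1 h2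
    exact orderOf_eq_one_iff.mp h3
  apply hwU
  rw [mem_centralizer_singleton_iff]
  rw [hk_one, mul_one] at hwk
  calc w * u₀ = (u₀ * w * u₀⁻¹) * u₀ := by rw [hwk]
    _ = u₀ * w := by group

end Cfsg.Agent.Lib.Helper2.CS
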