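import Mathlib
import Cfsg.Agent.Lib.Helper2.CS4
import Cfsg.Agent.Lib.Helper1.FrobeniusCount

set_option autoImplicit false

/-! Two largest class sizes coprime (S4138): the Frobenius structure of `G / Z(G)`. -/

namespace Cfsg.Agent.Lib.Helper2.CS

open Subgroup Pointwise
open Cfsg.Agent.Lib.Helper1.BHM

variable {G : Type*} [Group G] {m n : ℕ} {x y : G}

theorem mk_mem_map_iff {H : Subgroup G} (hZ : center G ≤ H) (g : G) :
    (QuotientGroup.mk' (center G)) g ∈ H.map (QuotientGroup.mk' (center G)) ↔ g ∈ H := by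
  have h1 : (H.map (QuotientGroup.mk' (center G))).comap (QuotientGroup.mk' (center G)) = H :=
    Subgroup.comap_map_eq_self (by rw [QuotientGroup.ker_mk']; exact hZ)
  rw [← mem_comap, h1]

theorem mk_eq_one_iff (g : G) : (QuotientGroup.mk' (center G)) g = 1 ↔ g ∈ center G :=
  QuotientGroup.eq_one_iff g

theorem frob_compl [Finite G] (hc : Ctx G m n x y) {p₀ : ℕ} {u₀ : G} (hU : U0 G m p₀ u₀) :
    Cfsg.IsFrobeniusComplement
      ((centralizer ({u₀} : Set G)).map (QuotientGroup.mk' (center G))) := by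
  have hZU : center G ≤ centralizer ({u₀} : Set G) := Cfsg.Agent.Lib.Helper1.CM.center_le_cent u₀
  have hu₀U : u₀ ∈ centralizer ({u₀} : Set G) := mem_centralizer_singleton_iff.mpr rfl
  refine ⟨?_, ?_, ?_⟩
  · intro hbot
    have h1 : (QuotientGroup.mk' (center G)) u₀ ∈
        (centralizer ({u₀} : Set G)).map (QuotientGroup.mk' (center G)) :=
      mem_map_of_mem _ hu₀U
    rw [hbot, mem_bot, mk_eq_one_iff] at h1
    exact hU.hnz h1
  · intro htop
    apply hU.hnz
    rw [mem_center_iff]
    intro g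
    have h1 : (QuotientGroup.mk' (center G)) g ∈
        (centralizer ({u₀} : Set G)).map (QuotientGroup.mk' (center G)) := by
      rw [htop]; exact mem_top _
    have h2 := (mk_mem_map_iff hZU g).mp h1
    exact mem_centralizer_singleton_iff.mp h2
  · intro gbar hgbar
    obtain ⟨g, rfl⟩ := QuotientGroup.mk'_surjective (center G) gbar
    rw [eq_bot_iff]
    intro hbar hhbar
    rw [mem_inf] at hhbar
    obtain ⟨hh1, hh2⟩ := hhbar
    obtain ⟨h, rfl⟩ := QuotientGroup.mk'_surjective (center G) hbar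
    rw [Cfsg.Agent.Lib.Helper1.mem_conj_smul_iff', ← map_inv, ← map_mul, ← map_mul,
      mk_mem_map_iff hZU] at hh2
    rw [mk_mem_map_iff hZU] at hh1
    rw [mem_bot, mk_eq_one_iff]
    by_contra hhz
    have e : g⁻¹ * h * g⁻¹⁻¹ = g⁻¹ * h * g := by rw [inv_inv]
    have h3 : g⁻¹ ∈ centralizer ({u₀} : Set G) := L13 hc hU hh1 hhz (by rw [e]; exact hh2)
    have h4 : g ∈ centralizer ({u₀} : Set G) := by
      have := inv_mem h3
      rwa [inv_inv] at this
    exact hgbar (mem_map_of_mem _ h4)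

theorem kernel_sub [Finite G] (hc : Ctx G m n x y) {p₀ : ℕ} {u₀ : G} (hU : U0 G m p₀ u₀)
    {a : G} (ha : Good m n a) :
    (((centralizer ({a} : Set G)).map (QuotientGroup.mk' (center G)) :
      Subgroup (G ⧸ center G)) : Set (G ⧸ center G)) ⊆
    Cfsg.frobeniusKernel ((centralizer ({u₀} : Set G)).map (QuotientGroup.mk' (center G))) := by
  have hZU : center G ≤ centralizer ({u₀} : Set G) := Cfsg.Agent.Lib.Helper1.CM.center_le_cent u₀
  intro cbar hcbar
  obtain ⟨c, hcC, rfl⟩ := mem_map.mp hcbar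
  by_cases hcz : c ∈ center G
  · left
    exact (mk_eq_one_iff c).mpr hcz
  · right
    intro gbar hmem
    obtain ⟨g, rfl⟩ := QuotientGroup.mk'_surjective (center G) gbar
    rw [Cfsg.Agent.Lib.Helper1.mem_conj_smul_iff', ← map_inv, ← map_mul, ← map_mul,
      mk_mem_map_iff hZU] at hmem
    have e1 : g⁻¹ * c * g = g⁻¹ * c * g⁻¹⁻¹ := by rw [inv_inv]
    rw [e1] at hmem
    have h1 : g⁻¹ * c * g⁻¹⁻¹ ∈ centralizer ({g⁻¹ * a * g⁻¹⁻¹} : Set G) :=
      (conj_mem_cent_conj g⁻¹).mpr hcC
    have h2 : g⁻¹ * c * g⁻¹⁻¹ ∈ centralizer ({g⁻¹ * a * g⁻¹⁻¹} : Set G) ⊓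
        centralizer ({u₀} : Set G) := mem_inf.mpr ⟨h1, hmem⟩
    rw [L11 hc hU (ha.conj g⁻¹), conj_mem_center_iff] at h2
    exact hcz h2

theorem card_map_good [Finite G] (hc : Ctx G m n x y) {p₀ : ℕ} {u₀ : G} (hU : U0 G m p₀ u₀)
    {a : G} (ha : Good m n a) :
    Nat.card ((centralizer ({a} : Set G)).map (QuotientGroup.mk' (center G))) = m := by
  have hidx : ((centralizer ({a} : Set G)).map (QuotientGroup.mk' (center G))).index = n := by
    rw [Subgroup.index_map_eq _ (QuotientGroup.mk'_surjective (center G))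
      (by rw [QuotientGroup.ker_mk']; exact Cfsg.Agent.Lib.Helper1.CM.center_le_cent a)]
    exact ha.hidx
  have h1 := Subgroup.card_mul_index
    ((centralizer ({a} : Set G)).map (QuotientGroup.mk' (center G)))
  rw [hidx, ← Subgroup.index_eq_card, index_center hc hU] at h1
  have hn0 : 0 < n := by have := hc.hyp.hn; omega
  have h2 : Nat.card ((centralizer ({a} : Set G)).map (QuotientGroup.mk' (center G))) * n =
      m * n := by rw [h1, mul_comm]
  exact Nat.eq_of_mul_eq_mul_right hn0 h2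

theorem kernel_eq [Finite G] (hc : Ctx G m n x y) {p₀ : ℕ} {u₀ : G} (hU : U0 G m p₀ u₀)
    {a : G} (ha : Good m n a) :
    Cfsg.frobeniusKernel ((centralizer ({u₀} : Set G)).map (QuotientGroup.mk' (center G))) =
    (((centralizer ({a} : Set G)).map (QuotientGroup.mk' (center G)) :
      Subgroup (G ⧸ center G)) : Set (G ⧸ center G)) := by
  symm
  apply Set.eq_of_subset_of_ncard_le (kernel_sub hc hU ha) _ (Set.toFinite _)
  have hum : idx u₀ = m := idx_eq_top hc hU.hnz hU.coprime
  have h1 := Cfsg.Agent.Lib.Helper1.card_frobeniusKernel (frob_compl hc hU)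
  rw [Subgroup.index_map_eq _ (QuotientGroup.mk'_surjective (center G))
    (by rw [QuotientGroup.ker_mk']; exact Cfsg.Agent.Lib.Helper1.CM.center_le_cent u₀)] at h1
  rw [← Nat.card_coe_set_eq, ← Nat.card_coe_set_eq, h1]
  have h2 : (centralizer ({u₀} : Set G)).index = m := hum
  rw [h2]
  exact le_of_eq (card_map_good hc hU ha).symm

theorem cent_eq_of_good [Finite G] (hc : Ctx G m n x y) {p₀ : ℕ} {u₀ : G} (hU : U0 G m p₀ u₀)
    {a b : G} (ha : Good m n a) (hb : Good m n b) :
    centralizer ({a} : Set G) = centralizer ({b} : Set G) := by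
  have h1 : (centralizer ({a} : Set G)).map (QuotientGroup.mk' (center G)) =
      (centralizer ({b} : Set G)).map (QuotientGroup.mk' (center G)) := by
    apply SetLike.coe_injective
    rw [← kernel_eq hc hU ha, ← kernel_eq hc hU hb]
  have ha' : ((centralizer ({a} : Set G)).map (QuotientGroup.mk' (center G))).comap
      (QuotientGroup.mk' (center G)) = centralizer ({a} : Set G) :=
    Subgroup.comap_map_eq_self
      (by rw [QuotientGroup.ker_mk']; exact Cfsg.Agent.Lib.Helper1.CM.center_le_cent a)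
  have hb' : ((centralizer ({b} : Set G)).map (QuotientGroup.mk' (center G))).comap
      (QuotientGroup.mk' (center G)) = centralizer ({b} : Set G) :=
    Subgroup.comap_map_eq_self
      (by rw [QuotientGroup.ker_mk']; exact Cfsg.Agent.Lib.Helper1.CM.center_le_cent b)
  rw [← ha', h1, hb']

theorem cent_good_comm [Finite G] (hc : Ctx G m n x y) {p₀ : ℕ} {u₀ : G} (hU : U0 G m p₀ u₀) :
    ∀ a ∈ centralizer ({x} : Set G), ∀ b ∈ centralizer ({x} : Set G), a * b = b * a := by
  intro a ha b hb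
  have hK : a ∈ centralizer ((centralizer ({x} : Set G) : Subgroup G) : Set G) := by
    apply mem_of_prime_pow_mem _ a
    intro w hw hpp
    obtain ⟨q, j, hq, hwo⟩ := hpp
    have hwx : w ∈ centralizer ({x} : Set G) := (zpowers_le.mpr ha) hw
    by_cases hwz : w ∈ center G
    · exact Subgroup.center_le_centralizer _ hwz
    · have hqm : q ∣ m := by
        by_contra hqm
        have hwt : (orderOf w).Coprime m := by
          rw [hwo]; exact Nat.Coprime.pow_left j ((Nat.Prime.coprime_iff_not_dvd hq).mpr hqm)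
        exact hwz (L4 hc.hyp hc.hy hc.hx hwx hwt)
      have hGw : Good m n w := good_of_prime_pow hc hU hwz hq hqm hwo
      have hCw := cent_eq_of_good hc hU hGw hc.hx
      rw [mem_centralizer_iff]
      intro k' hk'
      have h1 : k' ∈ centralizer ({w} : Set G) := by rw [hCw]; exact hk'
      exact mem_centralizer_singleton_iff.mp h1
  rw [mem_centralizer_iff] at hK
  exact (hK b hb).symm

theorem main [Finite G] (hyp : Hyp G m n) (hx : idx x = n) (hy : idx y = m) :
    (∀ a ∈ centralizer ({x} : Set G), ∀ b ∈ centralizer ({x} : Set G), a * b = b * a) ∧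
    (∀ a ∈ centralizer ({y} : Set G), ∀ b ∈ centralizer ({y} : Set G), a * b = b * a) ∧
    Cfsg.IsFrobeniusComplement
      ((centralizer ({y} : Set G)).map (QuotientGroup.mk' (center G))) ∧
    Cfsg.frobeniusKernel ((centralizer ({y} : Set G)).map (QuotientGroup.mk' (center G))) =
      (((centralizer ({x} : Set G)).map (QuotientGroup.mk' (center G)) :
        Subgroup (G ⧸ center G)) : Set (G ⧸ center G)) := by
  obtain ⟨x₁, hCx₁, hx₁o⟩ := exists_pi_rep hyp hy hx
  have hx₁ : idx x₁ = n := by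
    show (centralizer ({x₁} : Set G)).index = n
    rw [hCx₁]; exact hx
  have hc : Ctx G m n x₁ y := ⟨hyp, ⟨hx₁, hx₁o⟩, hy⟩
  obtain ⟨p, u₀, j, hp, hpn, hpm, hu₀y, hu₀z, hu₀o⟩ := L8 hc hy
  have hU : U0 G m p u₀ := ⟨hp, hpm, hu₀z, ⟨j, hu₀o⟩⟩
  have hyU : y ∈ centralizer ({u₀} : Set G) := by
    rw [mem_centralizer_singleton_iff] at hu₀y ⊢
    exact hu₀y.symm
  have hyz : y ∉ center G := by
    intro h
    have h1 := idx_eq_one_iff.mpr h
    rw [hy] at h1
    have := hyp.hmn
    have := hyp.hn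
    omega
  have hCy : centralizer ({y} : Set G) = centralizer ({u₀} : Set G) := L10_cent hc hU hyU hyz
  rw [hCy, ← hCx₁]
  exact ⟨cent_good_comm hc hU, L10_comm hc hU, frob_compl hc hU, kernel_eq hc hU hc.hx⟩

end Cfsg.Agent.Lib.Helper2.CS
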