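import Mathlib
import Cfsg.Agent.Lib.Helper8.CTTDefs

/-!
# Farm CTT (S3246), unit U2: the abstract hypothesis from alternative (i).
-/

set_option autoImplicit false

namespace Cfsg.Agent.Lib.Helper2.CTTU2

open Cfsg Cfsg.Agent.Lib.Helper7 Cfsg.Agent.Lib.Helper8.CTT

theorem centralizer_le_normalizer_zpowers {G : Type*} [Group G] (e : G) :
    Subgroup.centralizer ({e} : Set G) ≤ Subgroup.normalizer ((Subgroup.zpowers e : Subgroup G) : Set G) := by
  intro g hg
  have hge : e * g = g * e := Subgroup.mem_centralizer_iff.mp hg e (Set.mem_singleton e)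
  have hle : Subgroup.zpowers e ≤ Subgroup.centralizer ({g} : Set G) := by
    rw [Subgroup.zpowers_le, Subgroup.mem_centralizer_iff]
    intro x hx
    rw [Set.mem_singleton_iff] at hx
    rw [hx]
    exact hge.symm
  have hfix : ∀ x ∈ Subgroup.zpowers e, g * x * g⁻¹ = x := by
    intro x hx
    have h1 : g * x = x * g := Subgroup.mem_centralizer_iff.mp (hle hx) g (Set.mem_singleton g)
    rw [h1, mul_inv_cancel_right]
  rw [Subgroup.mem_normalizer_iff]
  intro x
  constructor
  · intro hx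
    rw [hfix x hx]
    exact hx
  · intro hx
    have h2 := hfix _ hx
    have h3 : g * x * g⁻¹ = x := by
      have h4 : g * (g * x * g⁻¹) * g⁻¹ = g * x * g⁻¹ := h2
      exact (MulAut.conj g).injective (by simpa [MulAut.conj_apply] using h4)
    rw [← h3]
    exact hx

/-- UNIT U2. -/
theorem hyp_of_maximal {G : Type*} [Group G] [Finite G]
    (h : ∀ M : Subgroup G, Cfsg.IsMaximalTwoLocal M →
      Cfsg.IsPConstrained 2 ↥M ∧ Cfsg.oddCore ↥M = ⊥) : Hyp G := by
  intro e he
  have he1 : e ≠ 1 := by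
    intro h1
    rw [h1, orderOf_one] at he
    omega
  have hN0 : Cfsg.IsTwoLocal (Subgroup.normalizer ((Subgroup.zpowers e : Subgroup G) : Set G)) := by
    refine ⟨Subgroup.zpowers e, ?_, ?_, rfl⟩
    · apply IsPGroup.of_card (n := 1)
      rw [Nat.card_zpowers, he, pow_one]
    · exact Subgroup.zpowers_ne_bot.mpr he1
  obtain ⟨M, hM0, hMmax⟩ := Finite.exists_le_maximal
    (p := fun N : Subgroup G => Cfsg.IsTwoLocal N ∧
      Subgroup.normalizer ((Subgroup.zpowers e : Subgroup G) : Set G) ≤ N)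
    (a := Subgroup.normalizer ((Subgroup.zpowers e : Subgroup G) : Set G)) ⟨hN0, le_rfl⟩
  obtain ⟨⟨hMloc, hMle⟩, hMmax2⟩ := hMmax
  have hMaxLoc : Cfsg.IsMaximalTwoLocal M := by
    refine ⟨hMloc, ?_⟩
    intro N hN hMN
    exact le_antisymm (hMmax2 ⟨hN, hMle.trans hMN⟩ hMN) hMN
  obtain ⟨hc, hO⟩ := h M hMaxLoc
  exact ⟨M, pCoreIn 2 M, (centralizer_le_normalizer_zpowers e).trans hMle, cons_of_constrained M hc hO⟩

end Cfsg.Agent.Lib.Helper2.CTTU2
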