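import Mathlib
import Cfsg.Agent.Lib.Helper8.CTTDefs
import Cfsg.Agent.Lib.Helper8.AxB

/-!
# Farm CTT (S3246), unit U7b: an odd-order element of `H ∩ C(T)` centralizing `Q ∩ C(T)` is trivial.
-/

set_option autoImplicit false

namespace Cfsg.Agent.Lib.Helper2.CTTU7b

open Cfsg Cfsg.Agent.Lib.Helper7 Cfsg.Agent.Lib.Helper8.CTT

/-- an element of odd order in a 2-group is trivial -/
theorem eq_one_of_mem_two_group {G : Type*} [Group G] (Q : Subgroup G) (hQ : IsPGroup 2 ↥Q)
    (y : G) (hy : y ∈ Q) (hyo : Odd (orderOf y)) : y = 1 := by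
  obtain ⟨k, hk⟩ := hQ ⟨y, hy⟩
  have hk' : y ^ 2 ^ k = 1 := by
    have := congrArg Subtype.val hk
    simpa using this
  have hdvd : orderOf y ∣ 2 ^ k := orderOf_dvd_of_pow_eq_one hk'
  have hcop : Nat.Coprime (orderOf y) (2 ^ k) :=
    Nat.Coprime.pow_right k (Nat.Coprime.symm (Nat.coprime_two_left.mpr hyo))
  have h1 : orderOf y = 1 := Nat.Coprime.eq_one_of_dvd hcop hdvd
  exact orderOf_eq_one_iff.mp h1

/-- UNIT U7b. -/
theorem eq_one_of_odd {G : Type*} [Group G] [Finite G] (T H Q : Subgroup G) (hT : IsPGroup 2 ↥T)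
    (hTH : T ≤ H) (hQ : Cons H Q) (y : G) (hyH : y ∈ H)
    (hyT : y ∈ Subgroup.centralizer (T : Set G)) (hyo : Odd (orderOf y))
    (hyD : ∀ d ∈ Q ⊓ Subgroup.centralizer (T : Set G), d * y = y * d) : y = 1 := by
  have : Fact (Nat.Prime 2) := ⟨Nat.prime_two⟩
  have hA : (Nat.card ↥(Subgroup.zpowers y)).Coprime 2 := by
    rw [Nat.card_zpowers]
    exact Nat.Coprime.symm (Nat.coprime_two_left.mpr hyo)
  have hAB : ⁅Subgroup.zpowers y, T⁆ = ⊥ := by
    rw [Subgroup.commutator_eq_bot_iff_le_centralizer, Subgroup.zpowers_le]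
    exact hyT
  have hAQ : Subgroup.zpowers y ≤ Subgroup.normalizer (Q : Set G) := by
    rw [Subgroup.zpowers_le]
    exact hQ.norm hyH
  have hBQ : T ≤ Subgroup.normalizer (Q : Set G) := hTH.trans hQ.norm
  have hC : Q ⊓ Subgroup.centralizer (T : Set G) ≤
      Subgroup.centralizer ((Subgroup.zpowers y : Subgroup G) : Set G) := by
    intro d hd
    have hyd := hyD d hd
    have hle : Subgroup.zpowers y ≤ Subgroup.centralizer ({d} : Set G) := by
      rw [Subgroup.zpowers_le, Subgroup.mem_centralizer_iff]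
      intro g hg
      rw [Set.mem_singleton_iff] at hg
      rw [hg]
      exact hyd
    rw [Subgroup.mem_centralizer_iff]
    intro h hh
    have := Subgroup.mem_centralizer_iff.mp (hle hh) d (Set.mem_singleton d)
    exact this.symm
  have hcomm := Cfsg.Agent.Lib.Helper8.thompson_AxB 2 (Subgroup.zpowers y) T hT hA hAB
    (Nat.card ↥Q) Q rfl hQ.two hAQ hBQ hC
  rw [Subgroup.commutator_eq_bot_iff_le_centralizer] at hcomm
  have hyCQ : y ∈ Subgroup.centralizer (Q : Set G) := by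
    rw [Subgroup.mem_centralizer_iff]
    intro q hq
    have := Subgroup.mem_centralizer_iff.mp (hcomm hq) y (Subgroup.mem_zpowers y)
    exact this.symm
  have hyQ : y ∈ Q := hQ.cent ⟨hyH, hyCQ⟩
  exact eq_one_of_mem_two_group Q hQ.two y hyQ hyo

end Cfsg.Agent.Lib.Helper2.CTTU7b
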