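import Mathlib
import Cfsg.Agent.Lib.Helper8.CTTDefs
import Cfsg.Agent.Lib.Lead.RVA
import Cfsg.Agent.Lib.Helper2.CTTU7b

/-!
# Farm CTT (S3246), unit U5: `C_X(a) = 1`.
-/

set_option autoImplicit false

namespace Cfsg.Agent.Lib.Helper2.CTTU5

open Cfsg Cfsg.Agent.Lib.Helper7 Cfsg.Agent.Lib.Helper8.CTT

theorem odd_orderOf_of_mem {G : Type*} [Group G] (X : Subgroup G) (hX : Odd (Nat.card ↥X))
    (g : G) (hg : g ∈ X) : Odd (orderOf g) := by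
  have hdvd : orderOf g ∣ Nat.card ↥X := by
    have h := orderOf_dvd_natCard (⟨g, hg⟩ : ↥X)
    rwa [Subgroup.orderOf_mk] at h
  exact Odd.of_dvd_nat hX hdvd

/-- UNIT U5. -/
theorem cent_trivial {G : Type*} [Group G] [Finite G] (S₀ X H Q : Subgroup G) (a : G)
    (hX : Odd (Nat.card ↥X)) (hS₀X : S₀ ≤ Subgroup.normalizer (X : Set G))
    (hS₀a : S₀ ≤ Subgroup.centralizer ({a} : Set G))
    (hH : Subgroup.centralizer ({a} : Set G) ≤ H) (hQ : Cons H Q)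
    (hidx : ∀ q₁ ∈ Q, ∀ q₂ ∈ Q, q₁ ∉ S₀ → q₂ ∉ S₀ → q₁⁻¹ * q₂ ∈ S₀) :
    ∀ x ∈ X, x * a = a * x → x = 1 := by
  intro y hyX hya
  have hyo : Odd (orderOf y) := odd_orderOf_of_mem X hX y hyX
  have hyC : y ∈ Subgroup.centralizer ({a} : Set G) := by
    rw [Subgroup.mem_centralizer_iff]
    intro g hg
    rw [Set.mem_singleton_iff] at hg
    rw [hg]
    exact hya.symm
  have hyH : y ∈ H := hH hyC
  have hyNQ := hQ.norm hyH
  have hφ : ∀ b : G, MulAut.conj y b = y * b * y⁻¹ := fun b => MulAut.conj_apply y b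
  have hconjQ : ∀ q ∈ Q, MulAut.conj y q ∈ Q := by
    intro q hq
    rw [hφ]
    exact (Subgroup.mem_normalizer_iff.mp hyNQ q).mp hq
  have hQX : ∀ g ∈ Q, g ∈ X → g = 1 := by
    intro g hgQ hgX
    exact Cfsg.Agent.Lib.Helper2.CTTU7b.eq_one_of_mem_two_group Q hQ.two g hgQ
      (odd_orderOf_of_mem X hX g hgX)
  have hfix : ∀ c ∈ Q ⊓ S₀, MulAut.conj y c = c := by
    rintro c ⟨hcQ, hcS⟩
    have hg1 : MulAut.conj y c * c⁻¹ ∈ Q := Q.mul_mem (hconjQ c hcQ) (Q.inv_mem hcQ)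
    have hcN := hS₀X hcS
    have h2 : c * y⁻¹ * c⁻¹ ∈ X :=
      (Subgroup.mem_normalizer_iff.mp hcN y⁻¹).mp (X.inv_mem hyX)
    have hg2 : MulAut.conj y c * c⁻¹ ∈ X := by
      have h3 := X.mul_mem hyX h2
      have h4 : MulAut.conj y c * c⁻¹ = y * (c * y⁻¹ * c⁻¹) := by rw [hφ]; group
      rw [h4]
      exact h3
    exact mul_inv_eq_one.mp (hQX _ hg1 hg2)
  have hquot : ∀ b ∈ Q, MulAut.conj y b * b⁻¹ ∈ Q ⊓ S₀ := by
    intro b hbQ
    by_cases hbS : b ∈ S₀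
    · rw [hfix b ⟨hbQ, hbS⟩, mul_inv_cancel]
      exact one_mem _
    · have hb' : MulAut.conj y b ∉ S₀ := by
        intro h
        have h3 := hfix _ ⟨hconjQ b hbQ, h⟩
        have h4 : MulAut.conj y b = b := (MulAut.conj y).injective h3
        exact hbS (h4 ▸ h)
      refine ⟨Q.mul_mem (hconjQ b hbQ) (Q.inv_mem hbQ), ?_⟩
      have h5 := hidx (MulAut.conj y b)⁻¹ (Q.inv_mem (hconjQ b hbQ)) b⁻¹ (Q.inv_mem hbQ)
        (fun h => hb' ((Subgroup.inv_mem_iff S₀).mp h)) (fun h => hbS ((Subgroup.inv_mem_iff S₀).mp h))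
      rwa [inv_inv] at h5
  have hpow : (MulAut.conj y) ^ orderOf y = 1 := by
    rw [← map_pow, pow_orderOf_eq_one, map_one]
  have hN : ∀ c ∈ Q ⊓ S₀, c ^ orderOf y = 1 → c = 1 := by
    rintro c ⟨hcQ, -⟩ hc
    have hdvd : orderOf c ∣ orderOf y := orderOf_dvd_of_pow_eq_one hc
    exact Cfsg.Agent.Lib.Helper2.CTTU7b.eq_one_of_mem_two_group Q hQ.two c hcQ
      (Odd.of_dvd_nat hyo hdvd)
  have hall := Cfsg.Agent.Lib.Lead.RVA.chain_step (MulAut.conj y) (orderOf y) hpow (Q ⊓ S₀) Q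
    hN hfix hquot
  have hyCQ : y ∈ Subgroup.centralizer (Q : Set G) := by
    rw [Subgroup.mem_centralizer_iff]
    intro q hq
    have h6 := hall q hq
    rw [hφ] at h6
    have h7 : y * q = q * y := mul_inv_eq_iff_eq_mul.mp h6
    exact h7.symm
  have hyQ : y ∈ Q := hQ.cent ⟨hyH, hyCQ⟩
  exact Cfsg.Agent.Lib.Helper2.CTTU7b.eq_one_of_mem_two_group Q hQ.two y hyQ hyo

end Cfsg.Agent.Lib.Helper2.CTTU5
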