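import Mathlib

/-! Camina pairs: basic lemmas (helper2). -/

namespace Cfsg.Agent.Lib.Helper2.Cam

/-- The Camina condition for a subgroup `N` of `G`. -/
def IsCam {G : Type*} [Group G] (N : Subgroup G) : Prop :=
  ∀ g : G, g ∉ N → ∀ n ∈ N, ∃ x : G, x * g * x⁻¹ = g * n

theorem relIndex_mul_card_of_le {G : Type*} [Group G] {H K : Subgroup G} (h : H ≤ K) :
    H.relIndex K * Nat.card H = Nat.card K := by
  have h1 := Subgroup.card_mul_index (H.subgroupOf K)
  have h2 : Nat.card (H.subgroupOf K) = Nat.card H :=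
    Nat.card_congr (Subgroup.subgroupOfEquivOfLe h).toEquiv
  rw [h2] at h1
  rw [Subgroup.relIndex, mul_comm]
  exact h1

/-- (T3) A `p`-element outside `N` commutes only with `p`-elements of `N`. -/
theorem prime_dvd_orderOf_of_commute {G : Type*} [Group G] [Finite G] {N : Subgroup G}
    (hcam : IsCam N) {p : ℕ} (hp : p.Prime) {x : G} (hx : x ∉ N) {k : ℕ}
    (hxo : orderOf x = p ^ k) {y : G} (hy : y ∈ N) (hc : Commute x y)
    {s : ℕ} (hs : s.Prime) (hsd : s ∣ orderOf y) : s = p := by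
  by_contra hne
  obtain ⟨m, hm⟩ := hsd
  have hy0 : orderOf y ≠ 0 := (orderOf_pos y).ne'
  have hm0 : m ≠ 0 := by
    rintro rfl
    rw [mul_zero] at hm
    exact hy0 hm
  set y' := y ^ m with hy'
  have hy'o : orderOf y' = s := by
    rw [hy', orderOf_pow_of_dvd hm0 ⟨s, by rw [hm, mul_comm]⟩, hm, Nat.mul_div_cancel _ (Nat.pos_of_ne_zero hm0)]
  have hy'N : y' ∈ N := N.pow_mem hy m
  have hc' : Commute x y' := hc.pow_right m
  obtain ⟨a, ha⟩ := hcam x hx y' hy'N
  have h1 : orderOf (x * y') = orderOf x := by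
    have hsc : SemiconjBy a x (x * y') := by
      show a * x = x * y' * a
      rw [← ha]
      group
    exact (hsc.orderOf_eq a).symm
  have hcop : (orderOf x).Coprime (orderOf y') := by
    rw [hxo, hy'o]
    exact Nat.Coprime.pow_left k ((Nat.coprime_primes hp hs).mpr (Ne.symm hne))
  have h2 := hc'.orderOf_mul_eq_mul_orderOf_of_coprime hcop
  rw [h1, hy'o] at h2
  have hxpos : 0 < orderOf x := orderOf_pos x
  have : s = 1 := by
    have := Nat.eq_of_mul_eq_mul_left hxpos (by rw [mul_one]; exact h2 : orderOf x * 1 = orderOf x * s)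
    exact this.symm
  exact hs.one_lt.ne' this

/-- (T3') consequence: commuting element of `N` of order coprime to `p` is trivial. -/
theorem eq_one_of_commute_of_coprime {G : Type*} [Group G] [Finite G] {N : Subgroup G}
    (hcam : IsCam N) {p : ℕ} (hp : p.Prime) {x : G} (hx : x ∉ N) {k : ℕ}
    (hxo : orderOf x = p ^ k) {y : G} (hy : y ∈ N) (hc : Commute x y)
    (hcop : ¬ p ∣ orderOf y) : y = 1 := by
  by_contra hne
  have h1 : orderOf y ≠ 1 := by
    intro h
    exact hne (orderOf_eq_one_iff.mp h)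
  obtain ⟨s, hs, hsd⟩ := Nat.exists_prime_and_dvd h1
  have := prime_dvd_orderOf_of_commute hcam hp hx hxo hy hc hs hsd
  subst this
  exact hcop hsd

/-- (T3'') commuting elements of `N` have `p`-power order. -/
theorem orderOf_eq_pow_of_commute {G : Type*} [Group G] [Finite G] {N : Subgroup G}
    (hcam : IsCam N) {p : ℕ} (hp : p.Prime) {x : G} (hx : x ∉ N) {k : ℕ}
    (hxo : orderOf x = p ^ k) {y : G} (hy : y ∈ N) (hc : Commute x y) :
    ∃ j, orderOf y = p ^ j := by
  refine ⟨_, Nat.eq_prime_pow_of_unique_prime_dvd (orderOf_pos y).ne' ?_⟩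
  intro s hs hsd
  exact prime_dvd_orderOf_of_commute hcam hp hx hxo hy hc hs hsd

/-- (T4) A `p`-element commutes with a nontrivial element of `N` when `p ∣ |N|`. -/
theorem exists_commute_ne_one {G : Type*} [Group G] [Finite G] (N : Subgroup G) [N.Normal]
    {p : ℕ} [hp : Fact p.Prime] {x : G} {k : ℕ} (hxo : orderOf x = p ^ k)
    (hpN : p ∣ Nat.card N) : ∃ y ∈ N, y ≠ 1 ∧ Commute x y := by
  classical
  let Z : Subgroup G := Subgroup.zpowers x
  have hZ : IsPGroup p Z := by
    rw [IsPGroup.iff_card]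
    exact ⟨k, by rw [Nat.card_zpowers, hxo]⟩
  let _ : MulAction Z N := MulAction.compHom N ((MulAut.conjNormal (H := N)).comp Z.subtype)
  have hsm : ∀ (z : Z) (n : N), ((z • n : N) : G) = (z : G) * n * (z : G)⁻¹ := by
    intro z n
    rfl
  have h1 : (1 : N) ∈ MulAction.fixedPoints Z N := by
    intro z
    apply Subtype.ext
    rw [hsm]
    simp
  obtain ⟨b, hb, hb1⟩ := hZ.exists_fixed_point_of_prime_dvd_card_of_fixed_point N hpN h1
  refine ⟨(b : G), b.2, ?_, ?_⟩
  · intro h
    apply hb1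
    exact (Subtype.ext h).symm
  · have := hb ⟨x, Subgroup.mem_zpowers x⟩
    have h2 := congrArg (Subtype.val) this
    rw [hsm] at h2
    simp only at h2
    show x * (b : G) = (b : G) * x
    calc x * (b : G) = x * b * x⁻¹ * x := by group
      _ = b * x := by rw [h2]

/-- If `p ∣ K.index` there is a `p`-element outside `K`. -/
theorem exists_pelt_not_mem {G : Type*} [Group G] [Finite G] (K : Subgroup G)
    {p : ℕ} [hp : Fact p.Prime] (hpK : p ∣ K.index) :
    ∃ x : G, x ∉ K ∧ ∃ k, orderOf x = p ^ k := by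
  classical
  obtain ⟨P⟩ : Nonempty (Sylow p G) := inferInstance
  by_contra hcon
  push Not at hcon
  have hle : (P : Subgroup G) ≤ K := by
    intro x hx
    by_contra hxK
    obtain ⟨k, hk⟩ := (IsPGroup.iff_orderOf.mp P.isPGroup' (⟨x, hx⟩ : (P : Subgroup G)))
    have : orderOf x = p ^ k := by
      rw [← hk]
      exact (Subgroup.orderOf_mk x hx).symm
    exact hcon x hxK k this
  have h1 : K.index ∣ (P : Subgroup G).index := Subgroup.index_dvd_of_le hle
  exact P.not_dvd_index (dvd_trans hpK h1)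

/-- (L4) If `|N|` and `|G:N|` are coprime, a Camina pair satisfies the Frobenius condition. -/
theorem frobenius_of_coprime {G : Type*} [Group G] [Finite G] (N : Subgroup G) [N.Normal]
    (hcam : IsCam N) (hcop : (Nat.card N).Coprime N.index) :
    ∀ x ∈ N, x ≠ 1 → Subgroup.centralizer ({x} : Set G) ≤ N := by
  intro n hn hn1 g hg
  by_contra hgN
  have hcomm : Commute g n := by
    rw [Subgroup.mem_centralizer_iff] at hg
    exact (hg n rfl).symm
  set q : G ⧸ N := (QuotientGroup.mk g : G ⧸ N) with hq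
  have hq1 : q ≠ 1 := by
    intro h
    exact hgN ((QuotientGroup.eq_one_iff g).mp h)
  have hqo : orderOf q ≠ 1 := fun h => hq1 (orderOf_eq_one_iff.mp h)
  obtain ⟨t, ht, htd⟩ := Nat.exists_prime_and_dvd hqo
  have htidx : t ∣ N.index := by
    rw [Subgroup.index_eq_card]
    exact dvd_trans htd (orderOf_dvd_natCard q)
  have hqg : orderOf q ∣ orderOf g := by
    apply orderOf_dvd_of_pow_eq_one
    rw [hq, ← QuotientGroup.mk_pow, pow_orderOf_eq_one]
    rfl
  obtain ⟨a, b, hb, hab⟩ := Nat.exists_eq_pow_mul_and_not_dvd (orderOf_pos g).ne' t ht.ne_one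
  have hb0 : b ≠ 0 := by
    rintro rfl
    exact hb (dvd_zero t)
  set x := g ^ b with hx
  have hxo : orderOf x = t ^ a := by
    rw [hx, orderOf_pow_of_dvd hb0 ⟨t ^ a, by rw [hab, mul_comm]⟩, hab,
      Nat.mul_div_cancel _ (Nat.pos_of_ne_zero hb0)]
  have hxN : x ∉ N := by
    intro hxN
    have : q ^ b = 1 := by
      rw [hq, ← QuotientGroup.mk_pow]
      exact (QuotientGroup.eq_one_iff _).mpr hxN
    have h1 : orderOf q ∣ b := orderOf_dvd_of_pow_eq_one this
    exact hb (dvd_trans htd h1)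
  have hcx : Commute x n := hcomm.pow_left b
  have hno : orderOf n ≠ 1 := fun h => hn1 (orderOf_eq_one_iff.mp h)
  obtain ⟨s, hs, hsd⟩ := Nat.exists_prime_and_dvd hno
  have hst := prime_dvd_orderOf_of_commute hcam ht hxN hxo hn hcx hs hsd
  subst hst
  have hsN : s ∣ Nat.card N := by
    have := orderOf_dvd_natCard (⟨n, hn⟩ : N)
    rw [Subgroup.orderOf_mk] at this
    exact dvd_trans hsd this
  have h := Nat.dvd_gcd hsN htidx
  rw [Nat.Coprime] at hcop
  rw [hcop] at h
  exact hs.one_lt.ne' (Nat.dvd_one.mp h)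

/-- (T1) The Camina condition passes to quotients by normal subgroups contained in `N`. -/
theorem isCam_map_mk {G : Type*} [Group G] (N : Subgroup G) (K : Subgroup G) [K.Normal]
    (hcam : IsCam N) : IsCam (N.map (QuotientGroup.mk' K)) := by
  intro g hg n hn
  obtain ⟨g0, rfl⟩ := QuotientGroup.mk'_surjective K g
  obtain ⟨n0, hn0, rfl⟩ := hn
  have hg0 : g0 ∉ N := by
    intro h
    exact hg ⟨g0, h, rfl⟩
  obtain ⟨x, hx⟩ := hcam g0 hg0 n0 hn0
  refine ⟨QuotientGroup.mk' K x, ?_⟩
  rw [← map_inv, ← map_mul, ← map_mul, ← map_mul, hx]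

theorem mem_map_mk_iff {G : Type*} [Group G] (N : Subgroup G) (K : Subgroup G) [K.Normal]
    (hKN : K ≤ N) (g : G) : (QuotientGroup.mk' K g) ∈ N.map (QuotientGroup.mk' K) ↔ g ∈ N := by
  constructor
  · rintro ⟨n, hn, hng⟩
    have : n⁻¹ * g ∈ K := by
      rw [← QuotientGroup.eq]
      exact hng
    have h2 : n * (n⁻¹ * g) ∈ N := N.mul_mem hn (hKN this)
    simpa using h2
  · intro h
    exact ⟨g, h, rfl⟩

end Cfsg.Agent.Lib.Helper2.Cam
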