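import Mathlib
import Cfsg.Agent.Lib.Helper2.CamA

/-! Camina pairs: the counting lemma and supplements (helper2). -/

namespace Cfsg.Agent.Lib.Helper2.Cam

open Subgroup

/-- The preimage in `G` of the centralizer of `gN` in `G ⧸ N`. -/
def Dg {G : Type*} [Group G] (N : Subgroup G) [N.Normal] (g : G) : Subgroup G :=
  (Subgroup.centralizer {(QuotientGroup.mk g : G ⧸ N)}).comap (QuotientGroup.mk' N)

theorem mem_Dg {G : Type*} [Group G] {N : Subgroup G} [hN : N.Normal] {g d : G} :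
    d ∈ Dg N g ↔ g⁻¹ * (d * g * d⁻¹) ∈ N := by
  rw [Dg, Subgroup.mem_comap, Subgroup.mem_centralizer_iff]
  simp only [Set.mem_singleton_iff, forall_eq, QuotientGroup.mk'_apply]
  rw [← QuotientGroup.mk_mul, ← QuotientGroup.mk_mul, QuotientGroup.eq]
  have h1 : (g * d)⁻¹ * (d * g) = d⁻¹ * (g⁻¹ * d * g) := by group
  have h2 : g⁻¹ * (d * g * d⁻¹) = (g⁻¹ * d * g) * d⁻¹ := by group
  rw [h1, h2]
  exact hN.mem_comm_iff

theorem le_Dg {G : Type*} [Group G] (N : Subgroup G) [hN : N.Normal] (g : G) : N ≤ Dg N g := by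
  intro n hn
  rw [mem_Dg]
  have h1 : g⁻¹ * (n * g * n⁻¹) = (g⁻¹ * n * g⁻¹⁻¹) * n⁻¹ := by group
  rw [h1]
  exact N.mul_mem (hN.conj_mem n hn g⁻¹) (N.inv_mem hn)

theorem centralizer_le_Dg {G : Type*} [Group G] (N : Subgroup G) [hN : N.Normal] (g : G) :
    Subgroup.centralizer ({g} : Set G) ≤ Dg N g := by
  intro c hc
  rw [mem_Dg]
  rw [Subgroup.mem_centralizer_iff] at hc
  have h := hc g rfl
  have h1 : g⁻¹ * (c * g * c⁻¹) = 1 := by
    rw [← h]
    group
  rw [h1]
  exact N.one_mem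

/-- The relative counting lemma. -/
theorem count_rel {G : Type*} [Group G] [Finite G] (N : Subgroup G) [hN : N.Normal]
    (H : Subgroup G) (g : G) (hg : g ∈ H) :
    ∃ m : ℕ, Nat.card ↥(Dg N g ⊓ H) = m * Nat.card ↥(Subgroup.centralizer ({g} : Set G) ⊓ H) ∧
      m ≤ Nat.card ↥(N ⊓ H) ∧
      (m = Nat.card ↥(N ⊓ H) ↔ ∀ n ∈ N ⊓ H, ∃ x ∈ H, x * g * x⁻¹ = g * n) := by
  classical
  set A : Subgroup G := Dg N g ⊓ H with hA
  set B : Subgroup G := Subgroup.centralizer ({g} : Set G) ⊓ H with hB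
  have hBA : B ≤ A := inf_le_inf_right H (centralizer_le_Dg N g)
  let f : ↥A → ↥(N ⊓ H) := fun a =>
    ⟨g⁻¹ * ((a : G) * g * (a : G)⁻¹), ⟨mem_Dg.mp a.2.1,
      H.mul_mem (H.inv_mem hg) (H.mul_mem (H.mul_mem a.2.2 hg) (H.inv_mem a.2.2))⟩⟩
  have hf : ∀ a b : ↥A, f a = f b ↔ a⁻¹ * b ∈ B.subgroupOf A := by
    intro a b
    have hv : f a = f b ↔ (a : G) * g * (a : G)⁻¹ = (b : G) * g * (b : G)⁻¹ := by
      rw [Subtype.ext_iff]
      show g⁻¹ * ((a : G) * g * (a : G)⁻¹) = g⁻¹ * ((b : G) * g * (b : G)⁻¹) ↔ _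
      exact mul_right_inj _
    rw [hv, Subgroup.mem_subgroupOf, hB, Subgroup.mem_inf, Subgroup.mem_centralizer_iff]
    simp only [Set.mem_singleton_iff, forall_eq, Subgroup.coe_mul, Subgroup.coe_inv]
    constructor
    · intro h
      refine ⟨?_, H.mul_mem (H.inv_mem a.2.2) b.2.2⟩
      have h4 : g = (a : G)⁻¹ * ((b : G) * g * (b : G)⁻¹) * a := by
        rw [← h]
        group
      calc g * ((a : G)⁻¹ * b) = (a : G)⁻¹ * ((b : G) * g * (b : G)⁻¹) * a * ((a : G)⁻¹ * b) := by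
            rw [← h4]
        _ = (a : G)⁻¹ * b * g := by group
    · rintro ⟨h, -⟩
      have h2 : (b : G) * g = a * g * ((a : G)⁻¹ * b) := by
        rw [mul_assoc (a : G) g, h]
        group
      have h3 : (a : G) * g * (a : G)⁻¹ = (a * g * ((a : G)⁻¹ * b)) * (b : G)⁻¹ := by group
      rw [h3, ← h2]
  let j : (↥A ⧸ B.subgroupOf A) → ↥(N ⊓ H) :=
    Quotient.lift f (fun a b hab => (hf a b).mpr (QuotientGroup.leftRel_apply.mp hab))
  have hjmk : ∀ a : ↥A, j (QuotientGroup.mk a) = f a := fun a => rfl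
  have hj : Function.Injective j := by
    intro q1 q2 h
    obtain ⟨a, rfl⟩ := QuotientGroup.mk_surjective q1
    obtain ⟨b, rfl⟩ := QuotientGroup.mk_surjective q2
    rw [hjmk, hjmk] at h
    exact QuotientGroup.eq.mpr ((hf a b).mp h)
  refine ⟨Nat.card (↥A ⧸ B.subgroupOf A), ?_, ?_, ?_⟩
  · rw [Subgroup.card_eq_card_quotient_mul_card_subgroup (B.subgroupOf A),
      Nat.card_congr (Subgroup.subgroupOfEquivOfLe hBA).toEquiv]
  · exact Nat.card_le_card_of_injective j hj
  · constructor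
    · intro hm n hn
      have hbij : Function.Bijective j := (Nat.bijective_iff_injective_and_card j).mpr ⟨hj, hm⟩
      obtain ⟨q, hq⟩ := hbij.2 ⟨n, hn⟩
      obtain ⟨a, rfl⟩ := QuotientGroup.mk_surjective q
      refine ⟨a, a.2.2, ?_⟩
      rw [hjmk] at hq
      have h3 := congrArg Subtype.val hq
      simp only [f] at h3
      rw [← h3]
      group
    · intro hcam
      have hsurj : Function.Surjective j := by
        rintro ⟨n, hn⟩
        obtain ⟨x, hxH, hx⟩ := hcam n hn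
        have hxA : x ∈ A := by
          refine ⟨mem_Dg.mpr ?_, hxH⟩
          rw [hx]
          simpa using hn.1
        refine ⟨QuotientGroup.mk ⟨x, hxA⟩, ?_⟩
        rw [hjmk]
        apply Subtype.ext
        simp only [f]
        rw [hx]
        group
      exact Nat.card_congr (Equiv.ofBijective j ⟨hj, hsurj⟩)

/-- The absolute counting lemma under the Camina condition. -/
theorem card_Dg_of_isCam {G : Type*} [Group G] [Finite G] (N : Subgroup G) [hN : N.Normal]
    (hcam : IsCam N) (g : G) (hg : g ∉ N) :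
    Nat.card ↥(Dg N g) = Nat.card N * Nat.card ↥(Subgroup.centralizer ({g} : Set G)) := by
  obtain ⟨m, h1, -, h3⟩ := count_rel N ⊤ g (Subgroup.mem_top g)
  have hm : m = Nat.card ↥(N ⊓ ⊤) := by
    rw [h3]
    intro n hn
    obtain ⟨x, hx⟩ := hcam g hg n hn.1
    exact ⟨x, Subgroup.mem_top x, hx⟩
  simp only [inf_top_eq] at h1 hm
  rw [h1, hm]

/-- (T2) Supplements of `N` inherit the Camina condition, and contain the centralizers of their
elements outside `N`. -/
theorem supplement {G : Type*} [Group G] [Finite G] (N : Subgroup G) [hN : N.Normal]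
    (hcam : IsCam N) (H : Subgroup G) (hHN : H ⊔ N = ⊤) (h : G) (hh : h ∈ H) (hhN : h ∉ N) :
    (∀ n ∈ N ⊓ H, ∃ x ∈ H, x * h * x⁻¹ = h * n) ∧ Subgroup.centralizer ({h} : Set G) ≤ H := by
  classical
  have hD := card_Dg_of_isCam N hcam h hhN
  obtain ⟨m, h1, h2, h3⟩ := count_rel N H h hh
  set D := Dg N h with hDdef
  set C := Subgroup.centralizer ({h} : Set G) with hCdef
  -- D = (D ⊓ H) ⊔ N
  have hDsup : D = (D ⊓ H) ⊔ N := by
    apply le_antisymm
    · intro d hd
      have hdt : d ∈ ((H ⊔ N : Subgroup G) : Set G) := by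
        rw [hHN]
        exact Set.mem_univ d
      rw [Subgroup.mul_normal] at hdt
      obtain ⟨h', hh', n', hn', rfl⟩ := Set.mem_mul.mp hdt
      have hh'D : h' ∈ D := by
        have : h' = h' * n' * n'⁻¹ := by group
        rw [this]
        exact D.mul_mem hd (D.inv_mem (le_Dg N h hn'))
      exact Subgroup.mul_mem_sup ⟨hh'D, hh'⟩ hn'
    · exact sup_le inf_le_left (le_Dg N h)
  have hrel : N.relIndex D = N.relIndex (D ⊓ H) := by
    have h5 := Subgroup.relIndex_sup_right (H := D ⊓ H) (K := N)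
    rw [← hDsup] at h5
    exact h5
  have e1 : N.relIndex D * Nat.card N = Nat.card D := relIndex_mul_card_of_le (le_Dg N h)
  have hinf : N ⊓ (D ⊓ H) = N ⊓ H := by
    apply le_antisymm
    · exact inf_le_inf_left N inf_le_right
    · exact le_inf inf_le_left (le_inf (le_trans inf_le_left (le_Dg N h)) inf_le_right)
  have e2 : N.relIndex (D ⊓ H) * Nat.card ↥(N ⊓ H) = Nat.card ↥(D ⊓ H) := by
    rw [← hinf, ← Subgroup.inf_relIndex_right]
    exact relIndex_mul_card_of_le inf_le_right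
  have hCH : Nat.card ↥(C ⊓ H) ≤ Nat.card C := Subgroup.card_le_of_le inf_le_left
  have hNpos : 0 < Nat.card N := Nat.card_pos
  have hCpos : 0 < Nat.card C := Nat.card_pos
  have hNHpos : 0 < Nat.card ↥(N ⊓ H) := Nat.card_pos
  have hCHpos : 0 < Nat.card ↥(C ⊓ H) := Nat.card_pos
  -- main equation
  have key : Nat.card C * Nat.card ↥(N ⊓ H) = m * Nat.card ↥(C ⊓ H) := by
    have hr0 : 0 < N.relIndex D := by
      rcases Nat.eq_zero_or_pos (N.relIndex D) with h0 | h0
      · rw [h0, zero_mul] at e1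
        have hp : 0 < Nat.card D := Nat.card_pos
        omega
      · exact h0
    have : N.relIndex D * (Nat.card C * Nat.card ↥(N ⊓ H)) =
        N.relIndex D * (m * Nat.card ↥(C ⊓ H)) := by
      have a1 : N.relIndex D * Nat.card N = Nat.card N * Nat.card C := by rw [e1, hD]
      have a2 : N.relIndex D = Nat.card C := by
        have : Nat.card N * N.relIndex D = Nat.card N * Nat.card C := by rw [mul_comm, a1]
        exact Nat.eq_of_mul_eq_mul_left hNpos this
      have a3 : N.relIndex D * Nat.card ↥(N ⊓ H) = m * Nat.card ↥(C ⊓ H) := by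
        rw [hrel, e2, h1]
      rw [← a3, a2]
    exact Nat.eq_of_mul_eq_mul_left hr0 this
  have hmeq : m = Nat.card ↥(N ⊓ H) := by
    rcases Nat.lt_or_ge m (Nat.card ↥(N ⊓ H)) with hlt | hge
    · exfalso
      have : m * Nat.card ↥(C ⊓ H) < Nat.card C * Nat.card ↥(N ⊓ H) := by
        calc m * Nat.card ↥(C ⊓ H) ≤ m * Nat.card C := Nat.mul_le_mul_left m hCH
          _ < Nat.card ↥(N ⊓ H) * Nat.card C := Nat.mul_lt_mul_of_pos_right hlt hCpos
          _ = Nat.card C * Nat.card ↥(N ⊓ H) := mul_comm _ _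
      rw [key] at this
      exact lt_irrefl _ this
    · exact le_antisymm h2 hge
  refine ⟨h3.mp hmeq, ?_⟩
  rw [hmeq] at key
  have hceq : Nat.card C = Nat.card ↥(C ⊓ H) := by
    have : Nat.card ↥(N ⊓ H) * Nat.card C = Nat.card ↥(N ⊓ H) * Nat.card ↥(C ⊓ H) := by
      rw [mul_comm, key]
    exact Nat.eq_of_mul_eq_mul_left hNHpos this
  have : C ⊓ H = C := Subgroup.eq_of_le_of_card_ge inf_le_left hceq.le
  rw [← this]
  exact inf_le_right

end Cfsg.Agent.Lib.Helper2.Cam
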