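import Mathlib

/-! Camina pairs: norm lemmas for fixed-point-free automorphisms of abelian groups (helper2). -/

namespace Cfsg.Agent.Lib.Helper2.Cam

open Finset

theorem prod_zmod_pow_apply_eq_one {A : Type*} [CommGroup A] {p : ℕ} [hp : Fact p.Prime]
    (γ : MulAut A) (hγ : γ ^ p = 1) (hfpf : ∀ a : A, γ a = a → a = 1) (a : A) :
    ∏ c : ZMod p, (γ ^ c.val) a = 1 := by
  apply hfpf
  rw [map_prod]
  have h1 : ∀ c : ZMod p, γ ((γ ^ c.val) a) = (γ ^ (c + 1).val) a := by
    intro c
    have h2 : γ ^ (c + 1).val = γ ^ (c.val + 1) := by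
      rw [ZMod.val_add, ZMod.val_one, ← pow_eq_pow_mod _ hγ]
    rw [h2, pow_succ']
    rfl
  simp_rw [h1]
  exact Equiv.prod_comp (Equiv.addRight (1 : ZMod p)) (fun c => (γ ^ c.val) a)

/-- (E2) Two commuting automorphisms of order dividing `p` of an abelian `p'`-group, such that
every "line" of the group they generate acts fixed-point-freely, force the group to be trivial. -/
theorem eq_one_of_fpf_pair {A : Type*} [CommGroup A] [Finite A] {p : ℕ} [hp : Fact p.Prime]
    (α β : MulAut A) (hc : Commute α β) (hα : α ^ p = 1) (hβ : β ^ p = 1)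
    (hfα : ∀ a : A, α a = a → a = 1)
    (hf : ∀ c : ℕ, ∀ a : A, (α ^ c * β) a = a → a = 1)
    (hcop : (Nat.card A).Coprime p) (a : A) : a = 1 := by
  classical
  -- each line norm is trivial
  have hline : ∀ c : ZMod p, ∏ k : ZMod p, ((α ^ c.val * β) ^ k.val) a = 1 := by
    intro c
    apply prod_zmod_pow_apply_eq_one (α ^ c.val * β) _ (hf c.val) a
    rw [(hc.pow_left c.val).mul_pow, ← pow_mul, mul_comm c.val p, pow_mul, hα, one_pow, hβ, one_mul]
  have hall : ∏ c : ZMod p, ∏ k : ZMod p, ((α ^ c.val * β) ^ k.val) a = 1 := by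
    apply Finset.prod_eq_one
    intro c _
    exact hline c
  rw [Finset.prod_comm] at hall
  -- the inner products
  have hk : ∀ k : ZMod p, k ≠ 0 → ∏ c : ZMod p, ((α ^ c.val * β) ^ k.val) a = 1 := by
    intro k hk0
    have h1 : ∀ c : ZMod p, ((α ^ c.val * β) ^ k.val) a = (α ^ (c * k).val) ((β ^ k.val) a) := by
      intro c
      rw [(hc.pow_left c.val).mul_pow, ← pow_mul]
      have h2 : α ^ (c * k).val = α ^ (c.val * k.val) := by
        rw [ZMod.val_mul, ← pow_eq_pow_mod _ hα]
      rw [h2]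
      rfl
    simp_rw [h1]
    have h3 := Equiv.prod_comp (Equiv.mulRight₀ k hk0) (fun c => (α ^ c.val) ((β ^ k.val) a))
    have h4 : ∀ c : ZMod p, (Equiv.mulRight₀ k hk0) c = c * k := fun c => rfl
    simp only [h4] at h3
    rw [h3]
    exact prod_zmod_pow_apply_eq_one α hα hfα _
  rw [Fintype.prod_eq_single (0 : ZMod p) hk] at hall
  simp only [ZMod.val_zero, pow_zero, MulAut.one_apply, Finset.prod_const, Finset.card_univ,
    ZMod.card] at hall
  -- a ^ p = 1
  have h1 : orderOf a ∣ p := orderOf_dvd_of_pow_eq_one hall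
  have h2 : orderOf a ∣ Nat.card A := orderOf_dvd_natCard a
  have h3 : orderOf a ∣ 1 := by
    have h4 := Nat.dvd_gcd h2 h1
    rw [Nat.Coprime] at hcop
    rw [hcop] at h4
    exact h4
  exact orderOf_eq_one_iff.mp (Nat.dvd_one.mp h3)

end Cfsg.Agent.Lib.Helper2.Cam
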