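import Mathlib
import Cfsg.Agent.Lib.Helper2.CamA
import Cfsg.Agent.Lib.Helper2.CamB
import Cfsg.Agent.Lib.Helper2.CamC
import Cfsg.Agent.Lib.Helper3.ConjCover

/-! Camina pairs: the final contradiction (helper2). -/

namespace Cfsg.Agent.Lib.Helper2.Cam

open Subgroup

theorem eq_one_of_fpf_pair' {A : Type*} [Group A] [Finite A] (hcomm : ∀ a b : A, a * b = b * a)
    {p : ℕ} [hp : Fact p.Prime]
    (α β : MulAut A) (hc : Commute α β) (hα : α ^ p = 1) (hβ : β ^ p = 1)
    (hfα : ∀ a : A, α a = a → a = 1)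
    (hf : ∀ c : ℕ, ∀ a : A, (α ^ c * β) a = a → a = 1)
    (hcop : (Nat.card A).Coprime p) (a : A) : a = 1 := by
  letI : CommGroup A := { ‹Group A› with mul_comm := hcomm }
  exact eq_one_of_fpf_pair α β hc hα hβ hfα hf hcop a

theorem conjNormal_eq_one_of_centralizes {G : Type*} [Group G] (A : Subgroup G) [A.Normal]
    (n : G) (hn : ∀ a ∈ A, n * a = a * n) : (MulAut.conjNormal n : MulAut A) = 1 := by
  ext a
  rw [MulAut.conjNormal_apply, MulAut.one_apply, hn a a.2]
  group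

/-- Piece 1: the (E2) instantiation. -/
theorem false_of_fpf_pair {G : Type*} [Group G] [Finite G] (N : Subgroup G)
    {p : ℕ} [hp : Fact p.Prime]
    (A : Subgroup G) [A.Normal] (hA1 : A ≠ ⊥) (hAc : ∀ a ∈ A, ∀ b ∈ A, a * b = b * a)
    (hNA : ∀ n ∈ N, ∀ a ∈ A, n * a = a * n) (hcop : (Nat.card A).Coprime p)
    (x y : G) (hxp : x ^ p ∈ N) (hyp : y ^ p ∈ N) (hxy : x⁻¹ * (y * x * y⁻¹) ∈ N)
    (hfy : ∀ a ∈ A, y * a = a * y → a = 1)
    (hf : ∀ c : ℕ, ∀ a ∈ A, (y ^ c * x) * a = a * (y ^ c * x) → a = 1) : False := by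
  apply hA1
  rw [Subgroup.eq_bot_iff_forall]
  intro a ha
  have hfix : ∀ (g : G) (b : A), (MulAut.conjNormal g : MulAut A) b = b → g * (b : G) = b * g := by
    intro g b hb
    have h1 := congrArg Subtype.val hb
    rw [MulAut.conjNormal_apply] at h1
    calc g * (b : G) = g * b * g⁻¹ * g := by group
      _ = b * g := by rw [h1]
  have key := eq_one_of_fpf_pair' (A := A) (p := p) (fun a b => Subtype.ext (hAc a a.2 b b.2))
    (MulAut.conjNormal y) (MulAut.conjNormal x) ?_ ?_ ?_ ?_ ?_ hcop ⟨a, ha⟩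
  · exact congrArg Subtype.val key
  · -- commute
    show (MulAut.conjNormal y : MulAut A) * MulAut.conjNormal x
      = MulAut.conjNormal x * MulAut.conjNormal y
    rw [← map_mul, ← map_mul]
    have h1 : y * x = x * (x⁻¹ * (y * x * y⁻¹)) * y := by group
    rw [h1, map_mul, map_mul,
      conjNormal_eq_one_of_centralizes A _ (hNA _ hxy), mul_one, map_mul]
  · rw [← map_pow, conjNormal_eq_one_of_centralizes A _ (hNA _ hyp)]
  · rw [← map_pow, conjNormal_eq_one_of_centralizes A _ (hNA _ hxp)]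
  · intro b hb
    have := hfy b b.2 (hfix y b hb)
    exact Subtype.ext this
  · intro c b hb
    rw [← map_pow, ← map_mul] at hb
    have := hf c b b.2 (hfix _ b hb)
    exact Subtype.ext this

theorem exists_pow_ne_one_of_pow_prime_pow {Q : Type*} [Group Q] (p : ℕ) :
    ∀ (n : ℕ) (z : Q), z ≠ 1 → z ^ (p ^ n) = 1 → ∃ j : ℕ, z ^ j ≠ 1 ∧ (z ^ j) ^ p = 1 := by
  intro n
  induction n with
  | zero =>
    intro z hz h
    rw [pow_zero, pow_one] at h
    exact absurd h hz
  | succ n ih =>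
    intro z hz h
    by_cases hzp : z ^ p = 1
    · exact ⟨1, by rwa [pow_one], by rwa [pow_one]⟩
    · have h2 : (z ^ p) ^ (p ^ n) = 1 := by
        rw [← pow_mul, ← pow_succ']
        exact h
      obtain ⟨j, hj1, hj2⟩ := ih (z ^ p) hzp h2
      refine ⟨p * j, ?_, ?_⟩
      · rwa [pow_mul]
      · rwa [pow_mul]

/-- Piece 3: an element of `S` central of order `p` modulo `N`. -/
theorem exists_central_mod {G : Type*} [Group G] [Finite G] (N : Subgroup G) [hN : N.Normal]
    {p : ℕ} [hp : Fact p.Prime] (hpi : p ∣ N.index) (S : Sylow p G) :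
    ∃ x ∈ S, x ∉ N ∧ x ^ p ∈ N ∧ (S : Subgroup G) ≤ Dg N x := by
  classical
  set π := QuotientGroup.mk' N with hπ
  set Sb : Subgroup (G ⧸ N) := (S : Subgroup G).map π with hSb
  have hSbp : IsPGroup p Sb := S.isPGroup'.map π
  have hnt : Nontrivial Sb := by
    by_contra hcon
    rw [not_nontrivial_iff_subsingleton] at hcon
    have hle : (S : Subgroup G) ≤ N := by
      intro s hs
      have h1 : (⟨π s, ⟨s, hs, rfl⟩⟩ : Sb) = 1 := Subsingleton.elim _ _
      have h2 : π s = 1 := congrArg Subtype.val h1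
      exact (QuotientGroup.eq_one_iff s).mp h2
    exact S.not_dvd_index (dvd_trans hpi (Subgroup.index_dvd_of_le hle))
  haveI hcn : Nontrivial (Subgroup.center Sb) := hSbp.center_nontrivial
  obtain ⟨z, hz⟩ := exists_ne (1 : Subgroup.center Sb)
  obtain ⟨n, hn⟩ := (hSbp.to_subgroup (Subgroup.center Sb) |> fun h => h z)
  obtain ⟨j, hj1, hj2⟩ := exists_pow_ne_one_of_pow_prime_pow p n z hz hn
  set w : Subgroup.center Sb := z ^ j with hw
  obtain ⟨x, hxS, hxw⟩ : ∃ x ∈ (S : Subgroup G), π x = ((w : Sb) : G ⧸ N) := (w : Sb).2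
  refine ⟨x, hxS, ?_, ?_, ?_⟩
  · intro hxN
    apply hj1
    have h1 : π x = 1 := (QuotientGroup.eq_one_iff x).mpr hxN
    rw [hxw] at h1
    apply Subtype.ext
    apply Subtype.ext
    exact h1
  · apply (QuotientGroup.eq_one_iff _).mp
    show π (x ^ p) = 1
    rw [map_pow, hxw]
    have h1 := congrArg (fun t : Subgroup.center Sb => ((t : Sb) : G ⧸ N)) hj2
    simpa using h1
  · intro s hs
    rw [mem_Dg]
    apply (QuotientGroup.eq_one_iff _).mp
    show π (x⁻¹ * (s * x * s⁻¹)) = 1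
    rw [map_mul, map_mul, map_mul, map_inv, map_inv, hxw]
    have hcen : ∀ t : Sb, t * (w : Sb) = (w : Sb) * t := fun t =>
      (Subgroup.mem_center_iff.mp w.2 t)
    have h1 := congrArg Subtype.val (hcen ⟨π s, ⟨s, hs, rfl⟩⟩)
    simp only [Subgroup.coe_mul] at h1
    rw [h1]
    group

end Cfsg.Agent.Lib.Helper2.Cam
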