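import Mathlib
import Cfsg.Agent.Lib.Helper2.CamD

/-! Camina pairs: the final contradiction, continued (helper2). -/

namespace Cfsg.Agent.Lib.Helper2.Cam

open Subgroup

/-- Piece 2: modulo `N`, the Sylow subgroup has a unique subgroup of order `p`. -/
theorem exists_pow_mul_mem {G : Type*} [Group G] [Finite G] (N : Subgroup G) [hN : N.Normal]
    (hcam : IsCam N) {p : ℕ} [hp : Fact p.Prime]
    (A : Subgroup G) [A.Normal] (hAN : A ≤ N) (hA1 : A ≠ ⊥)
    (hAc : ∀ a ∈ A, ∀ b ∈ A, a * b = b * a)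
    (hNA : ∀ n ∈ N, ∀ a ∈ A, n * a = a * n) (hcop : (Nat.card A).Coprime p)
    (S : Sylow p G) (x : G) (hxS : x ∈ S) (hxp : x ^ p ∈ N)
    (hSD : (S : Subgroup G) ≤ Dg N x) :
    ∀ s ∈ S, s ∉ N → ∃ k : ℕ, s ^ k * x ∈ N := by
  classical
  -- elements of `S` outside `N` act fixed-point-freely on `A`
  have hfpf : ∀ g ∈ S, g ∉ N → ∀ a ∈ A, g * a = a * g → a = 1 := by
    intro g hg hgN a ha hc
    obtain ⟨k, hk⟩ := (IsPGroup.iff_orderOf.mp S.isPGroup' (⟨g, hg⟩ : (S : Subgroup G)))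
    have hgo : orderOf g = p ^ k := by
      rw [← hk]
      exact (Subgroup.orderOf_mk g hg).symm
    apply eq_one_of_commute_of_coprime hcam hp.out hgN hgo (hAN ha) hc
    intro hpd
    have h1 : orderOf a ∣ Nat.card A := by
      have := orderOf_dvd_natCard (⟨a, ha⟩ : A)
      rwa [Subgroup.orderOf_mk] at this
    have h2 := Nat.dvd_gcd (dvd_trans hpd h1) (dvd_refl p)
    rw [Nat.Coprime] at hcop
    rw [hcop] at h2
    exact hp.out.one_lt.ne' (Nat.dvd_one.mp h2)
  -- the case `y ^ p ∈ N`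
  have hbase : ∀ y ∈ S, y ∉ N → y ^ p ∈ N → ∃ k : ℕ, y ^ k * x ∈ N := by
    intro y hy hyN hyp
    by_contra hno
    push Not at hno
    apply false_of_fpf_pair N A hA1 hAc hNA hcop x y hxp hyp (mem_Dg.mp (hSD hy))
      (hfpf y hy hyN)
    intro c a ha hc
    exact hfpf (y ^ c * x) ((S : Subgroup G).mul_mem ((S : Subgroup G).pow_mem hy c) hxS)
      (hno c) a ha hc
  have hind : ∀ (n : ℕ) (s : G), s ∈ S → s ∉ N → s ^ (p ^ n) ∈ N → ∃ k : ℕ, s ^ k * x ∈ N := by
    intro n
    induction n with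
    | zero =>
      intro s _ hsN h
      rw [pow_zero, pow_one] at h
      exact absurd h hsN
    | succ n ih =>
      intro s hs hsN h
      by_cases hsp : s ^ p ∈ N
      · exact hbase s hs hsN hsp
      · have h2 : (s ^ p) ^ (p ^ n) ∈ N := by
          rw [← pow_mul, ← pow_succ']
          exact h
        obtain ⟨k, hk⟩ := ih (s ^ p) ((S : Subgroup G).pow_mem hs p) hsp h2
        exact ⟨p * k, by rwa [pow_mul]⟩
  intro s hs hsN
  obtain ⟨n, hn⟩ := S.isPGroup' (⟨s, hs⟩ : (S : Subgroup G))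
  have h1 : s ^ (p ^ n) = 1 := by
    have := congrArg Subtype.val hn
    simpa using this
  exact hind n s hs hsN (by rw [h1]; exact N.one_mem)

/-- Piece 4: the final contradiction. -/
theorem final_contra {G : Type*} [Group G] [Finite G] (N : Subgroup G) [hN : N.Normal]
    (hcam : IsCam N) {p : ℕ} [hp : Fact p.Prime] (hpN : p ∣ Nat.card N) (S : Sylow p G)
    (x : G) (hxS : x ∈ S) (hxN : x ∉ N) (hSD : (S : Subgroup G) ≤ Dg N x)
    (hU : ∀ s ∈ S, s ∉ N → ∃ k : ℕ, s ^ k * x ∈ N) : False := by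
  classical
  set D := Dg N x with hDdef
  set C := Subgroup.centralizer ({x} : Set G) with hCdef
  set E := C ⊔ N with hEdef
  have hCD : C ≤ D := centralizer_le_Dg N x
  have hND : N ≤ D := le_Dg N x
  have hED : E ≤ D := sup_le hCD hND
  obtain ⟨kx, hkx'⟩ := (IsPGroup.iff_orderOf.mp S.isPGroup' (⟨x, hxS⟩ : (S : Subgroup G)))
  have hkx : orderOf x = p ^ kx := by
    rw [← hkx']
    exact (Subgroup.orderOf_mk x hxS).symm
  -- `N ⊓ C` is a nontrivial `p`-group
  have hNC : ∃ d, d ≠ 0 ∧ Nat.card ↥(N ⊓ C) = p ^ d := by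
    have hpg : IsPGroup p ↥(N ⊓ C) := by
      rw [IsPGroup.iff_orderOf]
      rintro ⟨y, hyN, hyC⟩
      have hc : Commute x y := by
        have hyC' : y ∈ Subgroup.centralizer ({x} : Set G) := hyC
        rw [Subgroup.mem_centralizer_iff] at hyC'
        exact hyC' x rfl
      obtain ⟨j, hj⟩ := orderOf_eq_pow_of_commute hcam hp.out hxN hkx hyN hc
      exact ⟨j, by rw [← hj]; exact Subgroup.orderOf_mk y _⟩
    obtain ⟨d, hd⟩ := IsPGroup.iff_card.mp hpg
    refine ⟨d, ?_, hd⟩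
    rintro rfl
    rw [pow_zero] at hd
    obtain ⟨y, hyN, hy1, hyc⟩ := exists_commute_ne_one N hkx hpN
    have hyC : y ∈ C := by
      rw [hCdef, Subgroup.mem_centralizer_iff]
      intro h hh
      rw [Set.mem_singleton_iff] at hh
      subst hh
      exact hyc
    haveI : Subsingleton ↥(N ⊓ C) := (Nat.card_eq_one_iff_unique.mp hd).1
    have h1 : (⟨y, ⟨hyN, hyC⟩⟩ : ↥(N ⊓ C)) = 1 := Subsingleton.elim _ _
    exact hy1 (congrArg Subtype.val h1)
  obtain ⟨d, hd0, hd⟩ := hNC
  have hD := card_Dg_of_isCam N hcam x hxN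
  have hE : Nat.card E * Nat.card ↥(N ⊓ C) = Nat.card C * Nat.card N := by
    have e1 : N.relIndex E * Nat.card N = Nat.card E := relIndex_mul_card_of_le le_sup_right
    have e2 : N.relIndex E = N.relIndex C := Subgroup.relIndex_sup_right C N
    have e3 : N.relIndex C * Nat.card ↥(N ⊓ C) = Nat.card C := by
      rw [← Subgroup.inf_relIndex_right]
      exact relIndex_mul_card_of_le inf_le_right
    calc Nat.card E * Nat.card ↥(N ⊓ C) = N.relIndex C * Nat.card N * Nat.card ↥(N ⊓ C) := by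
          rw [← e1, e2]
      _ = (N.relIndex C * Nat.card ↥(N ⊓ C)) * Nat.card N := by ring
      _ = Nat.card C * Nat.card N := by rw [e3]
  have hDE : Nat.card D = Nat.card E * p ^ d := by
    rw [hD, ← hd, hE, mul_comm]
  -- every element of `S` is `D`-conjugate into `E`
  have hconj : ∀ s ∈ S, ∃ a ∈ D, a⁻¹ * s * a ∈ E := by
    intro s hs
    by_cases hsN : s ∈ N
    · refine ⟨1, D.one_mem, ?_⟩
      have : s ∈ E := (le_sup_right : N ≤ E) hsN
      simpa using this
    · obtain ⟨k, hk⟩ := hU s hs hsN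
      have hx' : x⁻¹ ∉ N := fun h => hxN (by simpa using N.inv_mem h)
      have hm : x * (s ^ k * x) * x⁻¹ ∈ N := hN.conj_mem _ hk x
      obtain ⟨a, ha⟩ := hcam x⁻¹ hx' (x * (s ^ k * x) * x⁻¹) hm
      have ha' : a * x⁻¹ * a⁻¹ = s ^ k := by
        rw [ha]
        group
      refine ⟨a, ?_, ?_⟩
      · rw [hDdef, mem_Dg]
        have h1 : a * x * a⁻¹ = (a * x⁻¹ * a⁻¹)⁻¹ := by group
        rw [h1, ha]
        have h2 : x⁻¹ * (x⁻¹ * (x * (s ^ k * x) * x⁻¹))⁻¹ =
            x⁻¹ * (x * (s ^ k * x) * x⁻¹)⁻¹ * x⁻¹⁻¹ := by group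
        rw [h2]
        exact hN.conj_mem _ (N.inv_mem hm) _
      · apply (le_sup_left : C ≤ E)
        rw [hCdef, Subgroup.mem_centralizer_iff]
        intro h hh
        rw [Set.mem_singleton_iff] at hh
        subst hh
        have h3 : h⁻¹ = a⁻¹ * s ^ k * a := by
          rw [← ha']
          group
        have h4 : Commute (a⁻¹ * s * a) h⁻¹ := by
          rw [h3]
          show a⁻¹ * s * a * (a⁻¹ * s ^ k * a) = a⁻¹ * s ^ k * a * (a⁻¹ * s * a)
          have e1 : a⁻¹ * s * a * (a⁻¹ * s ^ k * a) = a⁻¹ * (s * s ^ k) * a := by group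
          have e2 : a⁻¹ * s ^ k * a * (a⁻¹ * s * a) = a⁻¹ * (s ^ k * s) * a := by group
          rw [e1, e2, ← pow_succ, ← pow_succ']
        exact (Commute.inv_right_iff.mp h4).symm
  -- transitivity of `S` on `D ⧸ E`
  set S' : Subgroup G := (S : Subgroup G) with hS'
  have hcopS : ¬ p ∣ S'.relIndex D := fun h =>
    S.not_dvd_index (dvd_trans h (Subgroup.relIndex_dvd_index_of_le hSD))
  have hrelED : E.relIndex D = p ^ d := by
    have e1 : E.relIndex D * Nat.card E = Nat.card D := relIndex_mul_card_of_le hED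
    rw [hDE, mul_comm] at e1
    exact Nat.eq_of_mul_eq_mul_left Nat.card_pos e1
  have hdvd : p ^ d ∣ E.relIndex S' := by
    have e1 : E.relIndex S' * Nat.card ↥(E ⊓ S') = Nat.card S' := by
      rw [← Subgroup.inf_relIndex_right]
      exact relIndex_mul_card_of_le inf_le_right
    have e2 : S'.relIndex D * Nat.card S' = Nat.card D := relIndex_mul_card_of_le hSD
    have e3 : (E ⊓ S').relIndex E * Nat.card ↥(E ⊓ S') = Nat.card E :=
      relIndex_mul_card_of_le inf_le_left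
    have e4 : S'.relIndex D * E.relIndex S' * Nat.card ↥(E ⊓ S') =
        (E ⊓ S').relIndex E * p ^ d * Nat.card ↥(E ⊓ S') := by
      calc S'.relIndex D * E.relIndex S' * Nat.card ↥(E ⊓ S')
          = S'.relIndex D * (E.relIndex S' * Nat.card ↥(E ⊓ S')) := by ring
        _ = Nat.card D := by rw [e1, e2]
        _ = Nat.card E * p ^ d := hDE
        _ = (E ⊓ S').relIndex E * p ^ d * Nat.card ↥(E ⊓ S') := by rw [← e3]; ring
    have e5 : S'.relIndex D * E.relIndex S' = (E ⊓ S').relIndex E * p ^ d :=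
      Nat.eq_of_mul_eq_mul_right Nat.card_pos e4
    have e6 : p ^ d ∣ S'.relIndex D * E.relIndex S' := ⟨(E ⊓ S').relIndex E, by rw [e5, mul_comm]⟩
    have hc : (p ^ d).Coprime (S'.relIndex D) :=
      Nat.Coprime.pow_left d ((Nat.Prime.coprime_iff_not_dvd hp.out).mpr hcopS)
    exact hc.dvd_of_dvd_mul_left e6
  have htrans : ∀ a ∈ D, ∃ s ∈ S, s⁻¹ * a ∈ E := by
    intro a ha
    let f := Subgroup.quotientSubgroupOfEmbeddingOfLE E hSD
    have hpos : 0 < E.relIndex S' := by
      rcases Nat.eq_zero_or_pos (E.relIndex S') with h0 | h0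
      · exfalso
        have e1 : E.relIndex S' * Nat.card ↥(E ⊓ S') = Nat.card S' := by
          rw [← Subgroup.inf_relIndex_right]
          exact relIndex_mul_card_of_le inf_le_right
        rw [h0, zero_mul] at e1
        have : 0 < Nat.card S' := Nat.card_pos
        omega
      · exact h0
    have hcard : Nat.card (↥D ⧸ E.subgroupOf D) ≤ Nat.card (↥S' ⧸ E.subgroupOf S') := by
      have h1 : Nat.card (↥D ⧸ E.subgroupOf D) = E.relIndex D := rfl
      have h2 : Nat.card (↥S' ⧸ E.subgroupOf S') = E.relIndex S' := rfl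
      rw [h1, h2, hrelED]
      exact Nat.le_of_dvd hpos hdvd
    have hbij : Function.Bijective f := f.injective.bijective_of_nat_card_le hcard
    obtain ⟨q, hq⟩ := hbij.2 (QuotientGroup.mk ⟨a, ha⟩)
    obtain ⟨s, rfl⟩ := QuotientGroup.mk_surjective q
    rw [Subgroup.quotientSubgroupOfEmbeddingOfLE_apply_mk] at hq
    have h3 := QuotientGroup.eq.mp hq
    rw [Subgroup.mem_subgroupOf] at h3
    exact ⟨s, s.2, by simpa using h3⟩
  -- conjugacy cover inside `S`
  have hcover : E.subgroupOf S' = ⊤ := by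
    apply Cfsg.Agent.Lib.Helper3.eq_top_of_conj_cover
    rintro ⟨s, hs⟩
    obtain ⟨a, haD, hae⟩ := hconj s hs
    obtain ⟨s', hs', hse⟩ := htrans a haD
    refine ⟨⟨s', hs'⟩, ?_⟩
    rw [Subgroup.mem_subgroupOf]
    show s'⁻¹ * s * s' ∈ E
    have h1 : s'⁻¹ * s * s' = (s'⁻¹ * a) * (a⁻¹ * s * a) * (s'⁻¹ * a)⁻¹ := by group
    rw [h1]
    exact E.mul_mem (E.mul_mem hse hae) (E.inv_mem hse)
  have hSE : S' ≤ E := Subgroup.subgroupOf_eq_top.mp hcover
  -- final count
  have h1 : Nat.card S' ∣ Nat.card E := Subgroup.card_dvd_of_le hSE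
  have h2 : Nat.card D ∣ Nat.card G := Subgroup.card_subgroup_dvd_card D
  have h3 : Nat.card S' * p ^ d ∣ Nat.card S' * S'.index := by
    rw [Subgroup.card_mul_index]
    refine dvd_trans ?_ h2
    rw [hDE]
    exact Nat.mul_dvd_mul_right h1 _
  have h4 : p ^ d ∣ S'.index := Nat.dvd_of_mul_dvd_mul_left Nat.card_pos h3
  exact S.not_dvd_index (dvd_trans (dvd_pow_self p hd0) h4)

/-- Step 5: the standalone contradiction. -/
theorem step5 {G : Type*} [Group G] [Finite G] (N : Subgroup G) [hN : N.Normal]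
    (hcam : IsCam N) {p : ℕ} [hp : Fact p.Prime] (hpN : p ∣ Nat.card N) (hpi : p ∣ N.index)
    (A : Subgroup G) [A.Normal] (hAN : A ≤ N) (hA1 : A ≠ ⊥)
    (hAc : ∀ a ∈ A, ∀ b ∈ A, a * b = b * a)
    (hNA : ∀ n ∈ N, ∀ a ∈ A, n * a = a * n) (hcop : (Nat.card A).Coprime p) : False := by
  classical
  obtain ⟨S⟩ : Nonempty (Sylow p G) := inferInstance
  obtain ⟨x, hxS, hxN, hxp, hSD⟩ := exists_central_mod N hpi S
  exact final_contra N hcam hpN S x hxS hxN hSD
    (exists_pow_mul_mem N hcam A hAN hA1 hAc hNA hcop S x hxS hxp hSD)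

end Cfsg.Agent.Lib.Helper2.Cam
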