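import Mathlib
import Cfsg.Agent.Lib.Helper2.CamE

/-! Camina pairs: the inductive steps (helper2). -/

namespace Cfsg.Agent.Lib.Helper2.Cam

open Subgroup

universe u

/-- The induction hypothesis for the main claim. -/
def IHyp (n : ℕ) : Prop :=
  ∀ (G' : Type u) [Group G'] [Finite G'], Nat.card G' < n → ∀ (N' : Subgroup G') [N'.Normal],
    IsCam N' → ∀ p : ℕ, p.Prime → p ∣ Nat.card N' → p ∣ N'.index →
      IsPGroup p N' ∨ ∃ k, N'.index = p ^ k

theorem pow_eq_pow_primes {p t k j : ℕ} (hp : p.Prime) (ht : t.Prime) (hne : t ≠ p)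
    (h : p ^ k = t ^ j) : k = 0 := by
  by_contra hk
  have h1 : p ∣ t ^ j := by
    rw [← h]
    exact dvd_pow_self p hk
  have h2 : p ∣ t := hp.dvd_of_dvd_pow h1
  exact hne ((Nat.prime_dvd_prime_iff_eq hp ht).mp h2).symm

theorem prime_eq_of_eq_pow {s t j : ℕ} (hs : s.Prime) (ht : t.Prime) (h : s = t ^ j) : s = t := by
  have h1 : s ∣ t ^ j := by
    rw [← h]
  exact (Nat.prime_dvd_prime_iff_eq hs ht).mp (hs.dvd_of_dvd_pow h1)

theorem eq_top_of_forall_sylow_le {G : Type*} [Group G] [Finite G] (C : Subgroup G)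
    (h : ∀ (t : ℕ) [Fact t.Prime], ∃ P : Sylow t G, (P : Subgroup G) ≤ C) : C = ⊤ := by
  rw [← Subgroup.index_eq_one]
  by_contra hne
  obtain ⟨t, ht, htd⟩ := Nat.exists_prime_and_dvd hne
  haveI : Fact t.Prime := ⟨ht⟩
  obtain ⟨P, hP⟩ := h t
  exact P.not_dvd_index (dvd_trans htd (Subgroup.index_dvd_of_le hP))

/-- Step 1: proper supplements meet `N` in a `p`-group. -/
theorem step1 {G : Type u} [Group G] [Finite G] (ih : IHyp.{u} (Nat.card G))
    (N : Subgroup G) [hN : N.Normal] (hcam : IsCam N) {p : ℕ} [hp : Fact p.Prime]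
    (hpN : p ∣ Nat.card N) (hpi : p ∣ N.index) (hidx : ¬ ∃ k, N.index = p ^ k)
    (H : Subgroup G) (hH : H ≠ ⊤) (hHN : H ⊔ N = ⊤) :
    ∀ g ∈ N, g ∈ H → ∃ k, orderOf g = p ^ k := by
  classical
  have hcard : Nat.card H < Nat.card G := by
    apply lt_of_le_of_ne (Subgroup.card_le_card_group H)
    intro h
    exact hH (Subgroup.eq_top_of_card_eq H h)
  set N' : Subgroup H := N.subgroupOf H with hN'
  have hidx' : N'.index = N.index := by
    show N.relIndex H = N.index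
    rw [← Subgroup.relIndex_sup_right H N, hHN, Subgroup.relIndex_top_right]
  have hcam' : IsCam N' := by
    intro g hg n hn
    have hgN : (g : G) ∉ N := fun h => hg (Subgroup.mem_subgroupOf.mpr h)
    obtain ⟨h1, -⟩ := supplement N hcam H hHN g g.2 hgN
    obtain ⟨x, hxH, hx⟩ := h1 n ⟨Subgroup.mem_subgroupOf.mp hn, n.2⟩
    exact ⟨⟨x, hxH⟩, Subtype.ext hx⟩
  have hpi' : p ∣ N'.index := by
    rw [hidx']
    exact hpi
  have hpN' : p ∣ Nat.card N' := by
    obtain ⟨h₀, hh₀, k, hk⟩ := exists_pelt_not_mem N' hpi'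
    have hh₀N : (h₀ : G) ∉ N := fun h => hh₀ (Subgroup.mem_subgroupOf.mpr h)
    have hko : orderOf (h₀ : G) = p ^ k := by
      rw [Subgroup.orderOf_coe]
      exact hk
    obtain ⟨-, h2⟩ := supplement N hcam H hHN h₀ h₀.2 hh₀N
    obtain ⟨y, hyN, hy1, hyc⟩ := exists_commute_ne_one N hko hpN
    have hyH : y ∈ H := by
      apply h2
      rw [Subgroup.mem_centralizer_iff]
      intro z hz
      rw [Set.mem_singleton_iff] at hz
      subst hz
      exact hyc
    obtain ⟨j, hj⟩ := orderOf_eq_pow_of_commute hcam hp.out hh₀N hko hyN hyc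
    have hj0 : j ≠ 0 := by
      rintro rfl
      rw [pow_zero, orderOf_eq_one_iff] at hj
      exact hy1 hj
    let y' : N' := ⟨⟨y, hyH⟩, Subgroup.mem_subgroupOf.mpr hyN⟩
    have hy'o : orderOf y' = p ^ j := by
      rw [← hj, ← Subgroup.orderOf_coe y', ← Subgroup.orderOf_coe (y' : H)]
    have h3 := orderOf_dvd_natCard y'
    rw [hy'o] at h3
    exact dvd_trans (dvd_pow_self p hj0) h3
  rcases ih H hcard N' hcam' p hp.out hpN' hpi' with h | ⟨k, hk⟩
  · intro g hgN hgH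
    obtain ⟨k, hk⟩ := IsPGroup.iff_orderOf.mp h
      (⟨⟨g, hgH⟩, Subgroup.mem_subgroupOf.mpr hgN⟩ : N')
    refine ⟨k, ?_⟩
    rw [← hk, ← Subgroup.orderOf_coe, ← Subgroup.orderOf_coe]
  · exact absurd ⟨k, by rw [← hidx']; exact hk⟩ hidx

/-- Step 3a: Sylow `t`-subgroups of `N` are normal in `G` for `t ≠ p`. -/
theorem sylow_normal {G : Type u} [Group G] [Finite G] (ih : IHyp.{u} (Nat.card G))
    (N : Subgroup G) [hN : N.Normal] (hcam : IsCam N) {p : ℕ} [hp : Fact p.Prime]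
    (hpN : p ∣ Nat.card N) (hpi : p ∣ N.index) (hidx : ¬ ∃ k, N.index = p ^ k)
    {t : ℕ} [ht : Fact t.Prime] (htp : t ≠ p) (T : Sylow t N) :
    ((T : Subgroup N).map N.subtype).Normal := by
  classical
  rw [← Subgroup.normalizer_eq_top_iff]
  by_contra hne
  set H := Subgroup.normalizer (((T : Subgroup N).map N.subtype : Subgroup G) : Set G) with hH
  have hHN : H ⊔ N = ⊤ := Sylow.normalizer_sup_eq_top T
  have h1 := step1 ih N hcam hpN hpi hidx H hne hHN
  have hT : ∀ g ∈ (T : Subgroup N), g = 1 := by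
    intro g hg
    have hgmap : (g : G) ∈ (T : Subgroup N).map N.subtype := ⟨g, hg, rfl⟩
    obtain ⟨k, hk⟩ := h1 (g : G) g.2 (Subgroup.le_normalizer hgmap)
    obtain ⟨j, hj⟩ := IsPGroup.iff_orderOf.mp T.isPGroup' ⟨g, hg⟩
    have hj' : orderOf (g : G) = t ^ j := by
      rw [Subgroup.orderOf_coe, ← hj]
      exact (Subgroup.orderOf_mk g hg).symm
    have hk0 := pow_eq_pow_primes hp.out ht.out htp (hk.symm.trans hj')
    rw [hk0, pow_zero, orderOf_eq_one_iff] at hk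
    exact Subtype.ext hk
  apply hne
  have hbot : (T : Subgroup N).map N.subtype = ⊥ := by
    rw [Subgroup.eq_bot_iff_forall]
    rintro _ ⟨g, hg, rfl⟩
    rw [hT g hg]
    rfl
  rw [hH, hbot]
  exact (Subgroup.normalizer_eq_top_iff (H := (⊥ : Subgroup G))).mpr inferInstance

/-- Step 3b: at most one prime other than `p` divides `|N|`. -/
theorem two_primes {G : Type u} [Group G] [Finite G] (ih : IHyp.{u} (Nat.card G))
    (N : Subgroup G) [hN : N.Normal] (hcam : IsCam N) {p : ℕ} [hp : Fact p.Prime]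
    (hpN : p ∣ Nat.card N) (hpi : p ∣ N.index) (hidx : ¬ ∃ k, N.index = p ^ k)
    {t₁ t₂ : ℕ} (ht₁ : t₁.Prime) (ht₂ : t₂.Prime) (h1p : t₁ ≠ p) (h2p : t₂ ≠ p)
    (h12 : t₁ ≠ t₂) (hd1 : t₁ ∣ Nat.card N) (hd2 : t₂ ∣ Nat.card N) : False := by
  classical
  haveI : Fact t₁.Prime := ⟨ht₁⟩
  haveI : Fact t₂.Prime := ⟨ht₂⟩
  obtain ⟨T₁⟩ : Nonempty (Sylow t₁ N) := inferInstance
  set K := (T₁ : Subgroup N).map N.subtype with hK
  haveI hKn : K.Normal := sylow_normal ih N hcam hpN hpi hidx h1p T₁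
  have hKN : K ≤ N := Subgroup.map_subtype_le _
  have hKbot : K ≠ ⊥ := by
    intro h
    rw [hK, Subgroup.map_eq_bot_iff_of_injective _ N.subtype_injective] at h
    exact T₁.ne_bot_of_dvd_card hd1 h
  have hKt : ∀ g ∈ K, ∃ j, orderOf g = t₁ ^ j := by
    rintro _ ⟨g, hg, rfl⟩
    obtain ⟨j, hj⟩ := IsPGroup.iff_orderOf.mp T₁.isPGroup' ⟨g, hg⟩
    refine ⟨j, ?_⟩
    rw [← hj, Subgroup.orderOf_mk]
    exact Subgroup.orderOf_coe g
  have hcard : Nat.card (G ⧸ K) < Nat.card G := by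
    have h1 := Subgroup.card_mul_index K
    rw [Subgroup.index_eq_card] at h1
    have h2 : 1 < Nat.card K := (Subgroup.one_lt_card_iff_ne_bot K).mpr hKbot
    have h3 : 0 < Nat.card (G ⧸ K) := Nat.card_pos
    nlinarith
  set π := QuotientGroup.mk' K with hπ
  set Nb := N.map π with hNb
  haveI : Nb.Normal := hN.map π (QuotientGroup.mk'_surjective K)
  have hcamb : IsCam Nb := isCam_map_mk N K hcam
  have hidxb : Nb.index = N.index :=
    Subgroup.index_map_eq N (QuotientGroup.mk'_surjective K) (by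
      rw [QuotientGroup.ker_mk']
      exact hKN)
  have key : ∀ s : ℕ, s.Prime → s ≠ t₁ → s ∣ Nat.card N → ∃ w ∈ Nb, orderOf w = s := by
    intro s hs hst hsd
    haveI : Fact s.Prime := ⟨hs⟩
    obtain ⟨u, hu⟩ := exists_prime_orderOf_dvd_card' (G := N) s hsd
    refine ⟨π u, ⟨u, u.2, rfl⟩, ?_⟩
    apply orderOf_eq_prime
    · rw [← map_pow]
      have : (u : G) ^ s = 1 := by
        rw [← hu, ← Subgroup.orderOf_coe]
        exact pow_orderOf_eq_one _
      rw [this, map_one]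
    · intro h1
      have huK : (u : G) ∈ K := (QuotientGroup.eq_one_iff _).mp h1
      obtain ⟨j, hj⟩ := hKt _ huK
      rw [Subgroup.orderOf_coe, hu] at hj
      exact hst (prime_eq_of_eq_pow hs ht₁ hj)
  obtain ⟨w, hwN, hwo⟩ := key p hp.out (Ne.symm h1p) hpN
  have hpNb : p ∣ Nat.card Nb := by
    have h3 := orderOf_dvd_natCard (⟨w, hwN⟩ : Nb)
    rwa [Subgroup.orderOf_mk, hwo] at h3
  rcases ih (G ⧸ K) hcard Nb hcamb p hp.out hpNb (by rw [hidxb]; exact hpi) with h | ⟨k, hk⟩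
  · obtain ⟨v, hvN, hvo⟩ := key t₂ ht₂ (Ne.symm h12) hd2
    obtain ⟨k, hk⟩ := IsPGroup.iff_orderOf.mp h ⟨v, hvN⟩
    rw [Subgroup.orderOf_mk, hvo] at hk
    exact h2p (prime_eq_of_eq_pow ht₂ hp.out hk)
  · exact hidx ⟨k, by rw [← hidxb]; exact hk⟩

end Cfsg.Agent.Lib.Helper2.Cam
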