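import Mathlib
import Cfsg.Agent.Lib.Helper2.CamF
import Cfsg.Agent.S0033

/-! Camina pairs: the main claim and the trichotomy (helper2). -/

namespace Cfsg.Agent.Lib.Helper2.Cam

open Subgroup

universe u

theorem main_step {G : Type u} [Group G] [Finite G] (ih : IHyp.{u} (Nat.card G))
    (N : Subgroup G) [hN : N.Normal] (hcam : IsCam N) (p : ℕ) (hp : p.Prime)
    (hpN : p ∣ Nat.card N) (hpi : p ∣ N.index) :
    IsPGroup p N ∨ ∃ k, N.index = p ^ k := by
  classical
  haveI : Fact p.Prime := ⟨hp⟩
  by_contra hcon
  push Not at hcon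
  obtain ⟨hnp, hidx'⟩ := hcon
  have hidx : ¬ ∃ k, N.index = p ^ k := by
    rintro ⟨k, hk⟩
    exact hidx' k hk
  -- the second prime `r`
  obtain ⟨r, hr, hrp, hrN⟩ : ∃ r : ℕ, r.Prime ∧ r ≠ p ∧ r ∣ Nat.card N := by
    by_contra hno
    push Not at hno
    apply hnp
    apply IsPGroup.of_card (n := (Nat.card N).primeFactorsList.length)
    apply Nat.eq_prime_pow_of_unique_prime_dvd Nat.card_pos.ne'
    intro s hs hsd
    by_contra hsp
    exact hno s hs hsp hsd
  haveI : Fact r.Prime := ⟨hr⟩
  have hprimes : ∀ t : ℕ, t.Prime → t ∣ Nat.card N → t = p ∨ t = r := by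
    intro t ht htd
    by_contra hcon
    push Not at hcon
    exact two_primes ih N hcam hpN hpi hidx ht hr hcon.1 hrp hcon.2 htd hrN
  obtain ⟨T⟩ : Nonempty (Sylow r N) := inferInstance
  set R := (T : Subgroup N).map N.subtype with hR
  haveI hRn : R.Normal := sylow_normal ih N hcam hpN hpi hidx hrp T
  have hRN : R ≤ N := Subgroup.map_subtype_le _
  -- Sylow `p`-subgroups of `N` are normal in `N`
  have hP0 : ∀ P0 : Sylow p N, (P0 : Subgroup N).Normal := by
    by_cases hri : r ∣ N.index
    · intro P0
      have hidxr : ¬ ∃ k, N.index = r ^ k := by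
        rintro ⟨k, hk⟩
        rw [hk] at hpi
        exact hrp ((Nat.prime_dvd_prime_iff_eq hp hr).mp (hp.dvd_of_dvd_pow hpi)).symm
      have h1 : ((P0 : Subgroup N).map N.subtype).Normal :=
        sylow_normal ih N hcam hrN hri hidxr (Ne.symm hrp) P0
      have h2 := h1.comap N.subtype
      rwa [Subgroup.comap_map_eq_self_of_injective N.subtype_injective] at h2
    · -- Thompson's theorem
      obtain ⟨q, hq, hqp, hqi⟩ : ∃ q : ℕ, q.Prime ∧ q ≠ p ∧ q ∣ N.index := by
        by_contra hno
        push Not at hno
        apply hidx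
        refine ⟨_, Nat.eq_prime_pow_of_unique_prime_dvd ?_ ?_⟩
        · exact Subgroup.index_ne_zero_of_finite
        · intro s hs hsd
          by_contra hsp
          exact hno s hs hsp hsd
      haveI : Fact q.Prime := ⟨hq⟩
      have hqr : q ≠ r := by
        rintro rfl
        exact hri hqi
      have hqN : ¬ q ∣ Nat.card N := by
        intro h
        rcases hprimes q hq h with h | h
        · exact hqp h
        · exact hqr h
      obtain ⟨y, hy⟩ := exists_prime_orderOf_dvd_card' (G := G) q
        (dvd_trans hqi (Subgroup.index_dvd_card N))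
      have hyN : y ∉ N := by
        intro h
        apply hqN
        have h3 := orderOf_dvd_natCard (⟨y, h⟩ : N)
        rwa [Subgroup.orderOf_mk, hy] at h3
      set φ : MulAut N := MulAut.conjNormal y with hφ
      have hfpf : ∀ n : N, φ n = n → n = 1 := by
        intro n hn
        have h1 := congrArg Subtype.val hn
        rw [hφ, MulAut.conjNormal_apply] at h1
        have hc : Commute y (n : G) := by
          show y * n = n * y
          calc y * (n : G) = y * n * y⁻¹ * y := by group
            _ = n * y := by rw [h1]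
        by_contra hn1
        have hno : orderOf (n : G) ≠ 1 := by
          intro h
          apply hn1
          apply Subtype.ext
          exact orderOf_eq_one_iff.mp h
        obtain ⟨s, hs, hsd⟩ := Nat.exists_prime_and_dvd hno
        have hsq := prime_dvd_orderOf_of_commute hcam hq hyN (k := 1)
          (by rw [pow_one]; exact hy) n.2 hc hs hsd
        subst hsq
        apply hqN
        have h3 := orderOf_dvd_natCard n
        rw [← Subgroup.orderOf_coe] at h3
        exact dvd_trans hsd h3
      have hord : orderOf φ = q := by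
        apply orderOf_eq_prime
        · rw [hφ, ← map_pow, ← hy, pow_orderOf_eq_one, map_one]
        · intro h1
          obtain ⟨u, hu⟩ := exists_prime_orderOf_dvd_card' (G := N) p hpN
          have hu1 : u = 1 := hfpf u (by rw [h1]; rfl)
          rw [hu1, orderOf_one] at hu
          exact hp.one_lt.ne' hu.symm
      have hnil : Group.IsNilpotent N := Cfsg.Agent.S0033.result φ hfpf q hq hord
      intro P0
      have h4 : ∀ (p : ℕ) (_hp : Fact p.Prime) (P : Sylow p N), (P : Subgroup N).Normal :=
        ((Group.isNilpotent_of_finite_tfae (G := N)).out 0 3).mp hnil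
      exact h4 p inferInstance P0
  obtain ⟨P0⟩ : Nonempty (Sylow p N) := inferInstance
  have hP0n := hP0 P0
  have hTn : (T : Subgroup N).Normal := by
    have h2 := hRn.comap N.subtype
    rwa [hR, Subgroup.comap_map_eq_self_of_injective N.subtype_injective] at h2
  have hdisj : Disjoint (P0 : Subgroup N) (T : Subgroup N) :=
    IsPGroup.disjoint_of_ne p r (Ne.symm hrp) _ _ P0.isPGroup' T.isPGroup'
  have hcomm : ∀ u ∈ (P0 : Subgroup N), ∀ v ∈ (T : Subgroup N), Commute u v :=
    fun u hu v hv => Subgroup.commute_of_normal_of_disjoint _ _ hP0n hTn hdisj u v hu hv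
  -- the abelian normal subgroup `A = Z(R)`
  set A : Subgroup G := R ⊓ Subgroup.centralizer (R : Set G) with hA
  haveI hAn : A.Normal := inferInstance
  have hAR : A ≤ R := inf_le_left
  have hAN : A ≤ N := le_trans hAR hRN
  have hRp : IsPGroup r R := T.isPGroup'.map N.subtype
  have hA1 : A ≠ ⊥ := by
    haveI : Nontrivial R := by
      rw [Subgroup.nontrivial_iff_ne_bot]
      intro h
      rw [hR, Subgroup.map_eq_bot_iff_of_injective _ N.subtype_injective] at h
      exact T.ne_bot_of_dvd_card hrN h
    haveI := hRp.center_nontrivial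
    obtain ⟨z, hz⟩ := exists_ne (1 : Subgroup.center R)
    intro hbot
    apply hz
    have hzA : ((z : R) : G) ∈ A := by
      refine ⟨(z : R).2, ?_⟩
      show ((z : R) : G) ∈ Subgroup.centralizer (R : Set G)
      rw [Subgroup.mem_centralizer_iff]
      intro g hg
      have h3 := Subgroup.mem_center_iff.mp z.2 ⟨g, hg⟩
      exact congrArg Subtype.val h3
    rw [hbot, Subgroup.mem_bot] at hzA
    apply Subtype.ext
    apply Subtype.ext
    exact hzA
  have hAc : ∀ a ∈ A, ∀ b ∈ A, a * b = b * a := by
    intro a ha b hb
    exact Subgroup.mem_centralizer_iff.mp hb.2 a ha.1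
  have hcopA : (Nat.card A).Coprime p := by
    obtain ⟨b, hb⟩ := IsPGroup.iff_card.mp hRp
    have h1 : Nat.card A ∣ r ^ b := by
      rw [← hb]
      exact Subgroup.card_dvd_of_le hAR
    exact Nat.Coprime.coprime_dvd_left h1
      (Nat.Coprime.pow_left b ((Nat.coprime_primes hr hp).mpr hrp))
  -- `N` centralizes `A`
  have hNA : ∀ n ∈ N, ∀ a ∈ A, n * a = a * n := by
    set C' : Subgroup N := (Subgroup.centralizer (A : Set G)).subgroupOf N with hC'
    have hC'top : C' = ⊤ := by
      apply eq_top_of_forall_sylow_le
      intro t ht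
      by_cases htp : t = p
      · subst htp
        refine ⟨P0, ?_⟩
        intro u hu
        rw [hC', Subgroup.mem_subgroupOf, Subgroup.mem_centralizer_iff]
        intro a ha
        obtain ⟨a', ha', rfl⟩ := hAR ha
        have h3 := hcomm u hu a' ha'
        exact congrArg Subtype.val h3.symm
      · by_cases htr : t = r
        · subst htr
          refine ⟨T, ?_⟩
          intro v hv
          rw [hC', Subgroup.mem_subgroupOf, Subgroup.mem_centralizer_iff]
          intro a ha
          have hvR : (v : G) ∈ R := ⟨v, hv, rfl⟩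
          have h3 := Subgroup.mem_centralizer_iff.mp ha.2 (v : G) hvR
          exact h3.symm
        · obtain ⟨P⟩ : Nonempty (Sylow t N) := inferInstance
          refine ⟨P, ?_⟩
          intro g hg
          obtain ⟨j, hj⟩ := IsPGroup.iff_orderOf.mp P.isPGroup' ⟨g, hg⟩
          rw [Subgroup.orderOf_mk] at hj
          have hj0 : j = 0 := by
            by_contra hj0
            have h1 : t ∣ Nat.card N := by
              have h3 := orderOf_dvd_natCard g
              rw [hj] at h3
              exact dvd_trans (dvd_pow_self t hj0) h3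
            rcases hprimes t ht.out h1 with h | h
            · exact htp h
            · exact htr h
          rw [hj0, pow_zero, orderOf_eq_one_iff] at hj
          rw [hj]
          exact C'.one_mem
    intro n hn a ha
    have h1 : (⟨n, hn⟩ : N) ∈ C' := by
      rw [hC'top]
      exact Subgroup.mem_top _
    rw [hC', Subgroup.mem_subgroupOf, Subgroup.mem_centralizer_iff] at h1
    exact (h1 a ha).symm
  exact step5 N hcam hpN hpi A hAN hA1 hAc hNA hcopA

theorem main_claim : ∀ (n : ℕ) (G : Type u) [Group G] [Finite G], Nat.card G = n →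
    ∀ (N : Subgroup G) [N.Normal], IsCam N → ∀ p : ℕ, p.Prime → p ∣ Nat.card N → p ∣ N.index →
      IsPGroup p N ∨ ∃ k, N.index = p ^ k := by
  intro n
  induction n using Nat.strong_induction_on with
  | _ n ih =>
    intro G _ _ hn N _ hcam p hp hpN hpi
    apply main_step _ N hcam p hp hpN hpi
    intro G' _ _ hlt N' _ hcam' p' hp' hpN' hpi'
    rw [hn] at hlt
    exact ih (Nat.card G') hlt G' rfl N' hcam' p' hp' hpN' hpi'

/-- Camina's trichotomy. -/
theorem camina_trichotomy {G : Type u} [Group G] [Finite G] (N : Subgroup G) [N.Normal]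
    (hN1 : N ≠ ⊥) (hN2 : N ≠ ⊤) (hcam : IsCam N) :
    (∀ x ∈ N, x ≠ 1 → Subgroup.centralizer ({x} : Set G) ≤ N) ∨ IsPrimePow (Nat.card N) ∨
      IsPrimePow N.index := by
  classical
  by_cases hcop : (Nat.card N).Coprime N.index
  · exact Or.inl (frobenius_of_coprime N hcam hcop)
  · right
    obtain ⟨p, hp, hpN, hpi⟩ := Nat.Prime.not_coprime_iff_dvd.mp hcop
    haveI : Fact p.Prime := ⟨hp⟩
    rcases main_claim (Nat.card G) G rfl N hcam p hp hpN hpi with h | ⟨k, hk⟩
    · left
      obtain ⟨k, hk⟩ := IsPGroup.iff_card.mp h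
      refine ⟨p, k, hp.prime, ?_, hk.symm⟩
      rcases Nat.eq_zero_or_pos k with h0 | h0
      · exfalso
        rw [h0, pow_zero] at hk
        exact hN1 ((Subgroup.card_eq_one).mp hk)
      · exact h0
    · right
      refine ⟨p, k, hp.prime, ?_, hk.symm⟩
      rcases Nat.eq_zero_or_pos k with h0 | h0
      · exfalso
        rw [h0, pow_zero] at hk
        exact hN2 (Subgroup.index_eq_one.mp hk)
      · exact h0

end Cfsg.Agent.Lib.Helper2.Cam
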