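import Mathlib

/-!
# Orbit counting lemmas
-/

set_option autoImplicit false

namespace Cfsg.Agent.Lib.Helper2

open Pointwise

/-- An invariant finite set all of whose orbits have cardinality divisible by `d` has cardinality
divisible by `d`. -/
theorem dvd_card_of_invariant {G α : Type*} [Group G] [MulAction G α] (Y : Finset α)
    (hinv : ∀ g : G, ∀ y ∈ Y, g • y ∈ Y) (d : ℕ)
    (hd : ∀ y ∈ Y, d ∣ Nat.card (MulAction.orbit G y)) : d ∣ Y.card := by
  classical
  rw [Finset.card_eq_sum_card_image (fun y => (Quotient.mk (MulAction.orbitRel G α) y)) Y]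
  apply Finset.dvd_sum
  intro b hb
  obtain ⟨y₀, hy₀, rfl⟩ := Finset.mem_image.1 hb
  have hset : ((Y.filter (fun a => (Quotient.mk (MulAction.orbitRel G α) a) =
      Quotient.mk (MulAction.orbitRel G α) y₀) : Finset α) : Set α) = MulAction.orbit G y₀ := by
    ext a
    simp only [Finset.coe_filter, Set.mem_ofPred_eq]
    constructor
    · rintro ⟨_, h⟩
      exact MulAction.orbitRel_apply.1 (Quotient.exact h)
    · intro h
      obtain ⟨g, rfl⟩ := MulAction.mem_orbit_iff.1 h
      refine ⟨hinv g y₀ hy₀, Quotient.sound ?_⟩
      exact MulAction.orbitRel_apply.2 (MulAction.mem_orbit _ _)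
  have hcard : (Y.filter (fun a => (Quotient.mk (MulAction.orbitRel G α) a) =
      Quotient.mk (MulAction.orbitRel G α) y₀)).card = Nat.card (MulAction.orbit G y₀) := by
    rw [← hset, Nat.card_eq_fintype_card]
    simp
  rw [hcard]
  exact hd y₀ hy₀

/-- The stabilizer of a nonempty finite subset of a group under left multiplication has order
dividing the size of the subset. -/
theorem card_stabilizer_dvd_card {G : Type*} [Group G] [Finite G] [DecidableEq G] (X : Finset G) :
    Nat.card (MulAction.stabilizer G X) ∣ X.card := by
  classical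
  set S := MulAction.stabilizer G X with hS
  -- S acts on G by left multiplication, X is invariant, orbits have size |S|
  apply dvd_card_of_invariant (G := S) X
  · intro g y hy
    have hg : (g : G) • X = X := MulAction.mem_stabilizer_iff.1 g.2
    rw [← hg]
    exact Finset.smul_mem_smul_finset hy
  · intro y _
    have : Nat.card (MulAction.orbit S y) = Nat.card S := by
      apply Nat.card_congr
      refine (Equiv.ofBijective (fun g : S => (⟨g • y, MulAction.mem_orbit y g⟩ :
        MulAction.orbit S y)) ⟨?_, ?_⟩).symm
      · intro g g' h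
        have h' : (g : G) * y = (g' : G) * y := congrArg Subtype.val h
        exact Subtype.ext (mul_right_cancel h')
      · rintro ⟨z, hz⟩
        obtain ⟨g, rfl⟩ := MulAction.mem_orbit_iff.1 hz
        exact ⟨g, rfl⟩
    rw [this]

end Cfsg.Agent.Lib.Helper2
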