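import Mathlib
import Cfsg.Agent.Lib.Helper2.OrbitCount

/-!
# Wielandt's counting argument for subgroups of prime power order
-/

set_option autoImplicit false

namespace Cfsg.Agent.Lib.Helper2

open Pointwise

variable {G : Type*} [Group G]

/-- The finset of elements of a subgroup. -/
noncomputable def subFinset [Fintype G] (H : Subgroup G) : Finset G := by
  classical exact Finset.univ.filter (· ∈ H)

theorem mem_subFinset [Fintype G] {H : Subgroup G} {x : G} : x ∈ subFinset H ↔ x ∈ H := by
  classical
  unfold subFinset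
  simp

theorem card_subFinset [Fintype G] (H : Subgroup G) : (subFinset H).card = Nat.card H := by
  classical
  rw [Nat.card_eq_fintype_card, ← Fintype.card_coe]
  apply Fintype.card_congr
  exact Equiv.subtypeEquivRight (fun x => mem_subFinset)

theorem subFinset_injective [Fintype G] : Function.Injective (subFinset : Subgroup G → Finset G) := by
  intro H K h
  ext x
  rw [← mem_subFinset, h, mem_subFinset]

theorem smul_subFinset_eq_iff [Fintype G] [DecidableEq G] {H : Subgroup G} {g : G} :
    g • subFinset H = subFinset H ↔ g ∈ H := by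
  constructor
  · intro h
    have h1 : g • (1 : G) ∈ g • subFinset H := Finset.smul_mem_smul_finset (mem_subFinset.2 H.one_mem)
    rw [h, mem_subFinset] at h1
    simpa using h1
  · intro hg
    ext x
    rw [Finset.mem_smul_finset, mem_subFinset]
    constructor
    · rintro ⟨y, hy, rfl⟩
      exact H.mul_mem hg (mem_subFinset.1 hy)
    · intro hx
      exact ⟨g⁻¹ * x, mem_subFinset.2 (H.mul_mem (H.inv_mem hg) hx), by simp⟩

theorem stabilizer_subFinset [Fintype G] [DecidableEq G] (H : Subgroup G) :
    MulAction.stabilizer G (subFinset H) = H := by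
  ext g
  rw [MulAction.mem_stabilizer_iff, smul_subFinset_eq_iff]

theorem card_orbit_mul_card_stabilizer [Finite G] {α : Type*} [MulAction G α] (a : α) :
    Nat.card (MulAction.orbit G a) * Nat.card (MulAction.stabilizer G a) = Nat.card G := by
  rw [Nat.card_congr (MulAction.orbitEquivQuotientStabilizer G a)]
  exact (Subgroup.card_eq_card_quotient_mul_card_subgroup _).symm

/-- cosets of distinct subgroups are distinct -/
theorem subgroup_eq_of_smul_subFinset_eq [Fintype G] [DecidableEq G] {H K : Subgroup G} {g g' : G}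
    (h : g • subFinset H = g' • subFinset K) : H = K := by
  have h1 : (g'⁻¹ * g) • subFinset H = subFinset K := by
    rw [← smul_smul, h, inv_smul_smul]
  have h2 : (1 : G) ∈ (g'⁻¹ * g) • subFinset H := by
    rw [h1, mem_subFinset]; exact K.one_mem
  obtain ⟨y, hy, hy1⟩ := Finset.mem_smul_finset.1 h2
  have h3 : g'⁻¹ * g ∈ H := by
    have : g'⁻¹ * g = y⁻¹ := by
      rw [smul_eq_mul] at hy1
      exact eq_inv_of_mul_eq_one_left hy1
    rw [this]
    exact H.inv_mem (mem_subFinset.1 hy)
  rw [smul_subFinset_eq_iff.2 h3] at h1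
  exact subFinset_injective h1

/-- Wielandt's count: the number of `p^β`-subsets of `G`, modulo `p n`, is `n` times the number
of subgroups of order `p^β`, where `|G| = p^β n`. -/
theorem wielandt_count [Finite G] {p β n : ℕ} (hp : p.Prime) (hN : Nat.card G = p ^ β * n) :
    ∃ t : ℕ, (Nat.card G).choose (p ^ β) =
      Nat.card {H : Subgroup G // Nat.card H = p ^ β} * n + p * n * t := by
  classical
  haveI : Fintype G := Fintype.ofFinite G
  set k := p ^ β with hk
  have hkpos : 0 < k := pow_pos hp.pos β
  have hnpos : 0 < n := by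
    rcases Nat.eq_zero_or_pos n with h | h
    · rw [h, mul_zero] at hN
      exact absurd hN Nat.card_pos.ne'
    · exact h
  set Ω : Finset (Finset G) := Finset.powersetCard k Finset.univ with hΩ
  have hΩcard : Ω.card = (Nat.card G).choose k := by
    rw [hΩ, Finset.card_powersetCard, Finset.card_univ, Nat.card_eq_fintype_card]
  let Sub := {H : Subgroup G // Nat.card H = k}
  haveI : Fintype Sub := Fintype.ofFinite Sub
  -- orbit finsets
  let orb : Finset G → Finset (Finset G) := fun X => Finset.univ.image (fun g : G => g • X)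
  have horb_coe : ∀ X : Finset G, ((orb X : Finset (Finset G)) : Set (Finset G)) =
      MulAction.orbit G X := by
    intro X
    ext Y
    simp only [orb, Finset.coe_image, Finset.coe_univ, Set.image_univ, Set.mem_range,
      MulAction.mem_orbit_iff]
  have horb_card : ∀ X : Finset G, (orb X).card = Nat.card (MulAction.orbit G X) := by
    intro X
    rw [← horb_coe, Nat.card_eq_fintype_card]
    simp
  set Ω₁ : Finset (Finset G) := Finset.univ.biUnion (fun H : Sub => orb (subFinset H.1)) with hΩ₁
  -- |Ω₁| = a n
  have hΩ₁card : Ω₁.card = Nat.card Sub * n := by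
    rw [hΩ₁, Finset.card_biUnion]
    · have : ∀ H ∈ (Finset.univ : Finset Sub), (orb (subFinset H.1)).card = n := by
        intro H _
        rw [horb_card]
        have h1 := card_orbit_mul_card_stabilizer (G := G) (subFinset H.1)
        rw [stabilizer_subFinset, H.2, hN, mul_comm] at h1
        exact Nat.eq_of_mul_eq_mul_left hkpos h1
      rw [Finset.sum_congr rfl this, Finset.sum_const, Finset.card_univ, smul_eq_mul,
        Nat.card_eq_fintype_card]
    · intro H _ K _ hHK
      rw [Function.onFun, Finset.disjoint_left]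
      intro Y hY hY'
      obtain ⟨g, -, rfl⟩ := Finset.mem_image.1 hY
      obtain ⟨g', -, hg'⟩ := Finset.mem_image.1 hY'
      apply hHK
      exact Subtype.ext (subgroup_eq_of_smul_subFinset_eq hg'.symm)
  have hΩ₁sub : Ω₁ ⊆ Ω := by
    intro Y hY
    obtain ⟨H, -, hY⟩ := Finset.mem_biUnion.1 hY
    obtain ⟨g, -, rfl⟩ := Finset.mem_image.1 hY
    rw [hΩ, Finset.mem_powersetCard]
    refine ⟨Finset.subset_univ _, ?_⟩
    rw [Finset.card_smul_finset, card_subFinset, H.2]
  have hΩ₁inv : ∀ (g : G) (Y : Finset G), Y ∈ Ω₁ → g • Y ∈ Ω₁ := by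
    intro g Y hY
    obtain ⟨H, -, hY⟩ := Finset.mem_biUnion.1 hY
    obtain ⟨g', -, rfl⟩ := Finset.mem_image.1 hY
    refine Finset.mem_biUnion.2 ⟨H, Finset.mem_univ _, Finset.mem_image.2 ⟨g * g', Finset.mem_univ _, ?_⟩⟩
    rw [smul_smul]
  set Ω₂ : Finset (Finset G) := Ω \ Ω₁ with hΩ₂
  have hsum : Ω₂.card + Ω₁.card = Ω.card := Finset.card_sdiff_add_card_eq_card hΩ₁sub
  have hΩ₂dvd : p * n ∣ Ω₂.card := by
    apply dvd_card_of_invariant (G := G) Ω₂
    · intro g Y hY
      rw [hΩ₂, Finset.mem_sdiff] at hY ⊢
      refine ⟨?_, ?_⟩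
      · rw [hΩ, Finset.mem_powersetCard] at hY ⊢
        exact ⟨Finset.subset_univ _, by rw [Finset.card_smul_finset]; exact hY.1.2⟩
      · intro h
        apply hY.2
        have := hΩ₁inv g⁻¹ _ h
        rwa [inv_smul_smul] at this
    · intro X hX
      rw [hΩ₂, Finset.mem_sdiff, hΩ, Finset.mem_powersetCard] at hX
      obtain ⟨⟨-, hXk⟩, hX₁⟩ := hX
      set S := MulAction.stabilizer G X with hS
      have hSdvd : Nat.card S ∣ k := hXk ▸ card_stabilizer_dvd_card X
      have hos := card_orbit_mul_card_stabilizer (G := G) X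
      rw [← hS] at hos
      -- |S| ≠ k
      have hSne : Nat.card S ≠ k := by
        intro hSk
        apply hX₁
        have hXne : X.Nonempty := by
          rw [← Finset.card_pos, hXk]; exact hkpos
        obtain ⟨x, hx⟩ := hXne
        -- X = S x
        set H : Subgroup G := S.map (MulAut.conj x⁻¹).toMonoidHom with hH
        have hHk : Nat.card H = k := by
          rw [hH, Subgroup.card_map_of_injective (MulAut.conj x⁻¹).injective, hSk]
        have hsub : x • subFinset H ⊆ X := by
          intro y hy
          obtain ⟨z, hz, rfl⟩ := Finset.mem_smul_finset.1 hy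
          obtain ⟨s, hs, rfl⟩ := mem_subFinset.1 hz
          have hsX : s • X = X := MulAction.mem_stabilizer_iff.1 hs
          have : x • (MulAut.conj x⁻¹).toMonoidHom s = s • x := by
            simp [MulAut.conj_apply, mul_assoc]
          rw [this, ← hsX]
          exact Finset.smul_mem_smul_finset hx
        have heq : x • subFinset H = X := by
          apply Finset.eq_of_subset_of_card_le hsub
          rw [Finset.card_smul_finset, card_subFinset, hHk, hXk]
        rw [hΩ₁]
        refine Finset.mem_biUnion.2 ⟨⟨H, hHk⟩, Finset.mem_univ _, Finset.mem_image.2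
          ⟨x, Finset.mem_univ _, heq⟩⟩
      obtain ⟨j, hjβ, hj⟩ := (Nat.dvd_prime_pow hp).1 hSdvd
      have hjlt : j < β := by
        rcases hjβ.lt_or_eq with h | h
        · exact h
        · exfalso; apply hSne; rw [hj, h]
      rw [hj, hN] at hos
      have hk' : k = p ^ j * (p ^ (β - j - 1) * p) := by
        rw [hk, ← pow_succ, ← pow_add]; congr 1; omega
      rw [hk', mul_comm _ (p ^ j)] at hos
      have h2 : Nat.card (MulAction.orbit G X) = p ^ (β - j - 1) * p * n := by
        apply Nat.eq_of_mul_eq_mul_left (pow_pos hp.pos j)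
        rw [hos]; ring
      rw [h2]
      exact ⟨p ^ (β - j - 1), by ring⟩
  obtain ⟨t, ht⟩ := hΩ₂dvd
  refine ⟨t, ?_⟩
  rw [← hΩcard, ← hsum, hΩ₁card, ht]
  ring

end Cfsg.Agent.Lib.Helper2
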