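import Mathlib
import Cfsg.Agent.Lib.Helper2.OrbitCount
import Cfsg.Agent.Lib.Helper2.WielandtCount

/-!
# Frobenius' divisibility theorem: `m ∣ |G|` implies `m ∣ #{x | x ^ m = 1}`
-/

set_option autoImplicit false

namespace Cfsg.Agent.Lib.Helper2

open Pointwise

universe u

/-- weighted orbit counting. -/
theorem dvd_sum_of_invariant {G α : Type*} [Group G] [MulAction G α] (Y : Finset α)
    (hinv : ∀ g : G, ∀ y ∈ Y, g • y ∈ Y) (f : α → ℕ) (hf : ∀ (g : G) (y : α), f (g • y) = f y)
    (d : ℕ)
    (hd : ∀ y ∈ Y, d ∣ Nat.card (MulAction.orbit G y) * f y) : d ∣ ∑ y ∈ Y, f y := by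
  classical
  rw [← Finset.sum_fiberwise_of_maps_to (s := Y)
    (t := Y.image (fun y => (Quotient.mk (MulAction.orbitRel G α) y)))
    (g := fun y => (Quotient.mk (MulAction.orbitRel G α) y))
    (fun x hx => Finset.mem_image_of_mem _ hx) f]
  apply Finset.dvd_sum
  intro b hb
  obtain ⟨y₀, hy₀, rfl⟩ := Finset.mem_image.1 hb
  have hset : ((Y.filter (fun a => (Quotient.mk (MulAction.orbitRel G α) a) =
      Quotient.mk (MulAction.orbitRel G α) y₀) : Finset α) : Set α) = MulAction.orbit G y₀ := by
    ext a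
    simp only [Finset.coe_filter, Set.mem_ofPred_eq]
    constructor
    · rintro ⟨_, h⟩
      exact MulAction.orbitRel_apply.1 (Quotient.exact h)
    · intro h
      obtain ⟨g, rfl⟩ := MulAction.mem_orbit_iff.1 h
      refine ⟨hinv g y₀ hy₀, Quotient.sound ?_⟩
      exact MulAction.orbitRel_apply.2 (MulAction.mem_orbit _ _)
  have hcard : (Y.filter (fun a => (Quotient.mk (MulAction.orbitRel G α) a) =
      Quotient.mk (MulAction.orbitRel G α) y₀)).card = Nat.card (MulAction.orbit G y₀) := by
    rw [← hset, Nat.card_eq_fintype_card]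
    simp
  have hsum : ∑ x ∈ Y.filter (fun a => (Quotient.mk (MulAction.orbitRel G α) a) =
      Quotient.mk (MulAction.orbitRel G α) y₀), f x =
      Nat.card (MulAction.orbit G y₀) * f y₀ := by
    rw [← hcard, ← smul_eq_mul, ← Finset.sum_const]
    apply Finset.sum_congr rfl
    intro x hx
    have hx' : x ∈ MulAction.orbit G y₀ := by
      rw [← hset]; exact hx
    obtain ⟨g, rfl⟩ := MulAction.mem_orbit_iff.1 hx'
    exact hf g y₀
  rw [hsum]
  exact hd y₀ hy₀

/-- `x ^ s = 1` iff `x ^ gcd s |G| = 1`. -/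
theorem pow_eq_one_iff_pow_gcd_card {G : Type*} [Group G] [Finite G] (s : ℕ) (x : G) :
    x ^ s = 1 ↔ x ^ (Nat.gcd s (Nat.card G)) = 1 := by
  rw [← orderOf_dvd_iff_pow_eq_one, ← orderOf_dvd_iff_pow_eq_one, Nat.dvd_gcd_iff]
  exact ⟨fun h => ⟨h, orderOf_dvd_natCard x⟩, fun h => h.1⟩

theorem card_pow_eq_one_gcd {G : Type*} [Group G] [Finite G] (s : ℕ) :
    Nat.card {g : G // g ^ s = 1} = Nat.card {g : G // g ^ (Nat.gcd s (Nat.card G)) = 1} :=
  Nat.card_congr (Equiv.subtypeEquivRight (pow_eq_one_iff_pow_gcd_card s))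

/-- Passing to the quotient by a central subgroup of order coprime to `s` does not change
the number of solutions of `x ^ s = 1`. -/
theorem card_pow_eq_one_quotient_central {H : Type*} [Group H] [Finite H] (Z : Subgroup H)
    [Z.Normal] (hZ : Z ≤ Subgroup.center H) (s : ℕ) (hs : (Nat.card Z).Coprime s) :
    Nat.card {g : H // g ^ s = 1} = Nat.card {g : H ⧸ Z // g ^ s = 1} := by
  apply Nat.card_congr
  refine Equiv.ofBijective (fun g => ⟨QuotientGroup.mk (g : H), by
    rw [← QuotientGroup.mk_pow, g.2]; rfl⟩) ⟨?_, ?_⟩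
  · rintro ⟨x, hx⟩ ⟨x', hx'⟩ h
    have h1 : (QuotientGroup.mk x : H ⧸ Z) = QuotientGroup.mk x' := congrArg Subtype.val h
    have h2 : x⁻¹ * x' ∈ Z := QuotientGroup.eq.1 h1
    set c := x⁻¹ * x' with hc
    have hcc : c ∈ Subgroup.center H := hZ h2
    have hx'eq : x' = x * c := by rw [hc]; group
    have hcomm : Commute x c := ((Subgroup.mem_center_iff.1 hcc) x)
    have hcs : c ^ s = 1 := by
      have := hx'
      rw [hx'eq, hcomm.mul_pow, hx, one_mul] at this
      exact this
    have hord : orderOf c ∣ Nat.card Z := by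
      have : orderOf (⟨c, h2⟩ : Z) ∣ Nat.card Z := orderOf_dvd_natCard _
      rwa [← Subgroup.orderOf_coe] at this
    have hord2 : orderOf c ∣ s := orderOf_dvd_of_pow_eq_one hcs
    have h1' : orderOf c = 1 := Nat.eq_one_of_dvd_coprimes hs hord hord2
    have hc1 : c = 1 := orderOf_eq_one_iff.1 h1'
    apply Subtype.ext
    show x = x'
    rw [hx'eq, hc1, mul_one]
  · rintro ⟨w, hw⟩
    obtain ⟨w, rfl⟩ := QuotientGroup.mk_surjective w
    have hws : w ^ s ∈ Z := by
      rw [← QuotientGroup.eq_one_iff, QuotientGroup.mk_pow]; exact hw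
    -- find c' ∈ Z with c'^s = (w^s)⁻¹
    obtain ⟨c', hc'⟩ : ∃ c' : Z, c' ^ s = (⟨w ^ s, hws⟩ : Z)⁻¹ :=
      (powCoprime hs).surjective _
    have hc'val : (c' : H) ^ s = (w ^ s)⁻¹ := by
      have := congrArg Subtype.val hc'
      simpa using this
    have hcomm : Commute w (c' : H) := ((Subgroup.mem_center_iff.1 (hZ c'.2)) w)
    refine ⟨⟨w * c', ?_⟩, ?_⟩
    · rw [hcomm.mul_pow, hc'val, mul_inv_cancel]
    · apply Subtype.ext
      show (QuotientGroup.mk (w * (c' : H)) : H ⧸ Z) = QuotientGroup.mk w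
      rw [QuotientGroup.mk_mul, (QuotientGroup.eq_one_iff (c' : H)).2 c'.2, mul_one]


theorem zpowers_eq_iff' {G : Type*} [Group G] [Finite G] (x x' : G) :
    Subgroup.zpowers x' = Subgroup.zpowers x ↔ x' ∈ Subgroup.zpowers x ∧ orderOf x' = orderOf x := by
  constructor
  · intro h
    refine ⟨h ▸ Subgroup.mem_zpowers x', ?_⟩
    rw [← Nat.card_zpowers, ← Nat.card_zpowers, h]
  · rintro ⟨h1, h2⟩
    apply Subgroup.eq_of_le_of_card_ge ((Subgroup.zpowers_le).2 h1)
    rw [Nat.card_zpowers, Nat.card_zpowers, h2]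

open Classical in
theorem card_same_zpowers {G : Type*} [Group G] [Fintype G] (x : G) :
    (Finset.univ.filter (fun x' : G => Subgroup.zpowers x' = Subgroup.zpowers x)).card =
      Nat.totient (orderOf x) := by
  have h1 := IsCyclic.card_orderOf_eq_totient (α := Subgroup.zpowers x) (d := orderOf x)
    (by rw [Fintype.card_zpowers])
  rw [← h1]
  symm
  apply Finset.card_bij (fun (a : Subgroup.zpowers x) _ => (a : G))
  · intro a ha
    simp only [Finset.mem_filter, Finset.mem_univ, true_and] at ha ⊢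
    rw [zpowers_eq_iff']
    exact ⟨a.2, by rw [← ha, Subgroup.orderOf_coe]⟩
  · intro a _ b _ h
    exact Subtype.ext h
  · intro b hb
    simp only [Finset.mem_filter, Finset.mem_univ, true_and] at hb
    rw [zpowers_eq_iff'] at hb
    refine ⟨⟨b, hb.1⟩, ?_, rfl⟩
    simp only [Finset.mem_filter, Finset.mem_univ, true_and]
    exact (Subgroup.orderOf_mk b hb.1).trans hb.2

open Classical in
/-- A set of elements closed under taking other generators of the same cyclic subgroup, all of
whose orders are divisible by `p ^ (e+1)`, has cardinality divisible by `p ^ e`. -/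
theorem pow_dvd_card_of_generators_closed {G : Type*} [Group G] [Fintype G] (Y : Finset G)
    (p e : ℕ) (hp : p.Prime)
    (hcl : ∀ x ∈ Y, ∀ x' : G, Subgroup.zpowers x' = Subgroup.zpowers x → x' ∈ Y)
    (hord : ∀ x ∈ Y, p ^ (e + 1) ∣ orderOf x) : p ^ e ∣ Y.card := by
  rw [Finset.card_eq_sum_card_image (fun x => Subgroup.zpowers x) Y]
  apply Finset.dvd_sum
  intro b hb
  obtain ⟨x, hx, rfl⟩ := Finset.mem_image.1 hb
  have : Y.filter (fun x' => Subgroup.zpowers x' = Subgroup.zpowers x) =
      Finset.univ.filter (fun x' : G => Subgroup.zpowers x' = Subgroup.zpowers x) := by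
    ext x'
    simp only [Finset.mem_filter, Finset.mem_univ, true_and, and_iff_right_iff_imp]
    exact hcl x hx x'
  rw [this, card_same_zpowers]
  have h1 : Nat.totient (p ^ (e + 1)) ∣ Nat.totient (orderOf x) :=
    Nat.totient_dvd_of_dvd (hord x hx)
  rw [Nat.totient_prime_pow_succ hp] at h1
  exact (Dvd.intro _ rfl).trans h1




/-- elements with `x ^ (P*s) = 1`: decomposition data. -/
theorem frob_decomp {G : Type*} [Group G] {P s c : ℕ} (hc1 : c ≡ 1 [MOD P]) (hc0 : s ∣ c)
    (x : G) (hx : x ^ (P * s) = 1) :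
    (x ^ c) ^ P = 1 ∧ Commute (x ^ c) ((x ^ c)⁻¹ * x) ∧ ((x ^ c)⁻¹ * x) ^ s = 1 := by
  have hord : orderOf x ∣ P * s := orderOf_dvd_of_pow_eq_one hx
  refine ⟨?_, ?_, ?_⟩
  · rw [← pow_mul]
    apply orderOf_dvd_iff_pow_eq_one.1
    apply hord.trans
    rw [mul_comm c P]
    exact Nat.mul_dvd_mul_left P hc0
  · have h1 : Commute (x ^ c) x := (Commute.refl x).pow_left c
    exact ((Commute.refl (x ^ c)).inv_right).mul_right h1
  · have h1 : Commute (x ^ c)⁻¹ x := ((Commute.refl x).pow_left c).inv_left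
    rw [h1.mul_pow, inv_pow, ← pow_mul]
    have h2 : x ^ (c * s) = x ^ s := by
      rw [pow_eq_pow_iff_modEq]
      have h3 : c * s ≡ 1 * s [MOD P * s] := Nat.ModEq.mul_right' s hc1
      rw [one_mul] at h3
      exact h3.of_dvd hord
    rw [h2, inv_mul_cancel]




/-- `p^(e+1) ∣ o` from `o ∣ p^(e+1) s`, `¬ o ∣ p^e s`. -/
theorem pow_succ_dvd_of_dvd_of_not_dvd {p e s o : ℕ} (hp : p.Prime) (h1 : o ∣ p ^ (e + 1) * s)
    (h2 : ¬ o ∣ p ^ e * s) : p ^ (e + 1) ∣ o := by
  by_cases ho : o = 0
  · subst ho; exact dvd_zero _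
  obtain ⟨j, t, hpt, rfl⟩ := Nat.exists_eq_pow_mul_and_not_dvd ho p hp.ne_one
  have hcop : Nat.Coprime (p ^ (e + 1)) t := (Nat.Prime.coprime_iff_not_dvd hp).2 hpt |>.pow_left _
  have ht : t ∣ s := (hcop.symm.dvd_of_dvd_mul_left ((Dvd.intro_left _ rfl).trans h1))
  by_cases hj : j ≤ e
  · exact absurd (Nat.mul_dvd_mul (pow_dvd_pow p hj) ht) h2
  · push Not at hj
    exact (pow_dvd_pow p hj).trans (Dvd.intro _ rfl)




open Classical in
theorem frobenius_step_s {G : Type u} [Group G] [Fintype G]
    (IH : ∀ (H : Type u) [Group H] [Finite H], Nat.card H < Nat.card G →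
      ∀ s, Nat.gcd s (Nat.card H) ∣ Nat.card {h : H // h ^ s = 1})
    (p e s : ℕ) (hp : p.Prime) (hps : ¬ p ∣ s) (hdvd : p ^ (e + 1) * s ∣ Nat.card G) :
    s ∣ (Finset.univ.filter (fun x : G => x ^ (p ^ (e + 1) * s) = 1 ∧ x ^ (p ^ e * s) ≠ 1)).card := by
  set P := p ^ (e + 1) with hP
  have hcop : Nat.Coprime P s := ((Nat.Prime.coprime_iff_not_dvd hp).2 hps).pow_left _
  obtain ⟨c, hc1, hc0⟩ := Nat.chineseRemainder hcop 1 0
  have hsc : s ∣ c := (Nat.modEq_zero_iff_dvd).1 hc0
  set Y := Finset.univ.filter (fun x : G => x ^ (P * s) = 1 ∧ x ^ (p ^ e * s) ≠ 1) with hY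
  set T := Finset.univ.filter (fun y : G => orderOf y = P) with hT
  let f : G → ℕ := fun y => (Finset.univ.filter (fun z : G => Commute y z ∧ z ^ s = 1)).card
  have hP2 : 2 ≤ P := by
    rw [hP]
    calc 2 ≤ p := hp.two_le
      _ = p ^ 1 := (pow_one p).symm
      _ ≤ p ^ (e + 1) := Nat.pow_le_pow_right hp.pos (by omega)
  -- the map Y → T
  have hmaps : ∀ x ∈ Y, x ^ c ∈ T := by
    intro x hx
    simp only [hY, hT, Finset.mem_filter, Finset.mem_univ, true_and] at hx ⊢
    obtain ⟨h1, h2, h3⟩ := frob_decomp hc1 hsc x hx.1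
    have ho : orderOf (x ^ c) ∣ p ^ (e + 1) := orderOf_dvd_of_pow_eq_one h1
    obtain ⟨j, hj, hoj⟩ := (Nat.dvd_prime_pow hp).1 ho
    by_contra hne
    have hj' : j ≤ e := by
      by_contra hcon
      have : j = e + 1 := by omega
      rw [this] at hoj
      exact hne hoj
    have hy1 : (x ^ c) ^ (p ^ e) = 1 := by
      apply orderOf_dvd_iff_pow_eq_one.1
      rw [hoj]; exact pow_dvd_pow p hj'
    apply hx.2
    have hxeq : x = x ^ c * ((x ^ c)⁻¹ * x) := by group
    rw [hxeq, h2.mul_pow, pow_mul, hy1, one_pow, one_mul, mul_comm (p ^ e) s, pow_mul, h3, one_pow]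
  rw [Finset.card_eq_sum_card_fiberwise hmaps]
  have hfib : ∀ y ∈ T, (Y.filter (fun x => x ^ c = y)).card = f y := by
    intro y hy
    simp only [hT, Finset.mem_filter, Finset.mem_univ, true_and] at hy
    apply Finset.card_nbij' (fun x => y⁻¹ * x) (fun z => y * z)
    · intro x hx
      simp only [hY, Finset.coe_filter, Finset.mem_filter, Finset.mem_univ, true_and,
        Set.mem_ofPred_eq] at hx ⊢
      obtain ⟨h1, h2, h3⟩ := frob_decomp hc1 hsc x hx.1.1
      rw [hx.2] at h2 h3
      exact ⟨h2, h3⟩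
    · intro z hz
      simp only [hY, Finset.coe_filter, Finset.mem_filter, Finset.mem_univ, true_and,
        Set.mem_ofPred_eq] at hz ⊢
      obtain ⟨hz1, hz2⟩ := hz
      have hyP : y ^ P = 1 := by rw [← hy]; exact pow_orderOf_eq_one y
      refine ⟨⟨?_, ?_⟩, ?_⟩
      · rw [hz1.mul_pow, pow_mul, hyP, one_pow, one_mul, mul_comm P s, pow_mul, hz2, one_pow]
      · rw [hz1.mul_pow, mul_comm (p ^ e) s, pow_mul z, hz2, one_pow, mul_one]
        intro hcon
        have h4 : P ∣ s * p ^ e := by
          rw [← hy]; exact orderOf_dvd_of_pow_eq_one hcon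
        have h5 : p * p ^ e ∣ s * p ^ e := by
          rw [hP, pow_succ, mul_comm] at h4; exact h4
        have h6 : p ∣ s := Nat.dvd_of_mul_dvd_mul_right (pow_pos hp.pos e) h5
        exact hps h6
      · rw [hz1.mul_pow]
        have h7 : y ^ c = y ^ 1 := by
          rw [pow_eq_pow_iff_modEq, hy]; exact hc1
        obtain ⟨k, rfl⟩ := hsc
        rw [h7, pow_one, pow_mul, hz2, one_pow, mul_one]
    · intro x _
      group
    · intro z _
      group
  rw [Finset.sum_congr rfl hfib]
  -- now the weighted orbit sum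
  apply dvd_sum_of_invariant (G := ConjAct G) T
  · intro g y hy
    simp only [hT, Finset.mem_filter, Finset.mem_univ, true_and] at hy ⊢
    rw [ConjAct.smul_def, ← hy]
    exact (MulAut.conj (ConjAct.ofConjAct g)).orderOf_eq y
  · intro g y
    show (Finset.univ.filter (fun z : G => Commute (g • y) z ∧ z ^ s = 1)).card =
      (Finset.univ.filter (fun z : G => Commute y z ∧ z ^ s = 1)).card
    apply Finset.card_nbij' (fun z => g⁻¹ • z) (fun z => g • z)
    · intro z hz
      simp only [Finset.coe_filter, Finset.mem_filter, Finset.mem_univ, true_and,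
        Set.mem_ofPred_eq] at hz ⊢
      obtain ⟨hz1, hz2⟩ := hz
      refine ⟨?_, ?_⟩
      · have := hz1.eq
        rw [commute_iff_eq]
        have h8 : g⁻¹ • (g • y * z) = g⁻¹ • (z * g • y) := by rw [this]
        simpa [smul_mul'] using h8
      · rw [← smul_pow', hz2, smul_one]
    · intro z hz
      simp only [Finset.coe_filter, Finset.mem_filter, Finset.mem_univ, true_and,
        Set.mem_ofPred_eq] at hz ⊢
      obtain ⟨hz1, hz2⟩ := hz
      refine ⟨?_, ?_⟩
      · rw [commute_iff_eq, ← smul_mul', hz1.eq, smul_mul']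
      · rw [← smul_pow', hz2, smul_one]
    · intro z _
      simp
    · intro z _
      simp
  · intro y hy
    simp only [hT, Finset.mem_filter, Finset.mem_univ, true_and] at hy
    set C := Subgroup.centralizer ({y} : Set G) with hC
    have hkC : Nat.card (MulAction.orbit (ConjAct G) y) * Nat.card C = Nat.card G := by
      rw [hC, Subgroup.nat_card_centralizer_nat_card_stabilizer]
      exact card_orbit_mul_card_stabilizer y
    -- f y = #solutions in C
    have hfy : f y = Nat.card {z : C // z ^ s = 1} := by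
      show (Finset.univ.filter (fun z : G => Commute y z ∧ z ^ s = 1)).card = _
      rw [Nat.card_eq_fintype_card, Fintype.card_subtype]
      symm
      apply Finset.card_bij (fun (z : C) _ => (z : G))
      · intro z hz
        simp only [Finset.mem_filter, Finset.mem_univ, true_and] at hz ⊢
        refine ⟨?_, ?_⟩
        · have := Subgroup.mem_centralizer_singleton_iff.1 z.2
          exact this.symm
        · have := congrArg Subtype.val hz
          simpa using this
      · intro a _ b _ h
        exact Subtype.ext h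
      · intro z hz
        simp only [Finset.mem_filter, Finset.mem_univ, true_and] at hz
        refine ⟨⟨z, Subgroup.mem_centralizer_singleton_iff.2 hz.1.eq.symm⟩, ?_, rfl⟩
        simp only [Finset.mem_filter, Finset.mem_univ, true_and]
        apply Subtype.ext
        simpa using hz.2
    have hyC : y ∈ C := Subgroup.mem_centralizer_singleton_iff.2 rfl
    set Z : Subgroup C := Subgroup.zpowers (⟨y, hyC⟩ : C) with hZ
    have hZc : Z ≤ Subgroup.center C := by
      rw [hZ, Subgroup.zpowers_le]
      rw [Subgroup.mem_center_iff]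
      intro g
      apply Subtype.ext
      exact Subgroup.mem_centralizer_singleton_iff.1 g.2
    have hZn : Z.Normal := by
      constructor
      intro n hn g
      have : g * n * g⁻¹ = n := by
        have := (Subgroup.mem_center_iff.1 (hZc hn)) g
        rw [this, mul_inv_cancel_right]
      rw [this]; exact hn
    have hZcard : Nat.card Z = P := by
      rw [hZ, Nat.card_zpowers, Subgroup.orderOf_mk, hy]
    have h1 : Nat.card {z : C // z ^ s = 1} = Nat.card {z : C ⧸ Z // z ^ s = 1} :=
      card_pow_eq_one_quotient_central Z hZc s (by rw [hZcard]; exact hcop)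
    have hCcard : Nat.card C = Nat.card (C ⧸ Z) * P := by
      rw [← hZcard]; exact Subgroup.card_eq_card_quotient_mul_card_subgroup Z
    have hlt : Nat.card (C ⧸ Z) < Nat.card G := by
      have h2 : Nat.card C ≤ Nat.card G := Subgroup.card_le_card_group C
      have h3 : 0 < Nat.card (C ⧸ Z) := Nat.card_pos
      nlinarith
    have h4 := IH (C ⧸ Z) hlt s
    show s ∣ Nat.card (MulAction.orbit (ConjAct G) y) * f y
    rw [hfy, h1]
    set k := Nat.card (MulAction.orbit (ConjAct G) y) with hk
    set c' := Nat.card (C ⧸ Z) with hc'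
    have h5 : s ∣ k * c' := by
      have h6 : P * s ∣ P * (k * c') := by
        have : P * (k * c') = Nat.card G := by rw [← hkC, hCcard]; ring
        rw [this]; exact hdvd
      exact Nat.dvd_of_mul_dvd_mul_left (by omega) h6
    have h7 : s ∣ k * Nat.gcd s c' := by
      rw [← Nat.gcd_mul_left]
      exact Nat.dvd_gcd (Dvd.intro_left _ rfl) h5
    exact h7.trans (Nat.mul_dvd_mul_left k h4)




open Classical in
theorem frobenius_step {G : Type u} [Group G] [Fintype G]
    (IH : ∀ (H : Type u) [Group H] [Finite H], Nat.card H < Nat.card G →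
      ∀ s, Nat.gcd s (Nat.card H) ∣ Nat.card {h : H // h ^ s = 1})
    (m p : ℕ) (hp : p.Prime) (hmp : m * p ∣ Nat.card G)
    (hstep : m * p ∣ (Finset.univ.filter (fun x : G => x ^ (m * p) = 1)).card) :
    m ∣ (Finset.univ.filter (fun x : G => x ^ m = 1)).card := by
  have hm0 : m ≠ 0 := by
    rintro rfl
    rw [zero_mul] at hmp
    exact Nat.card_pos.ne' (Nat.eq_zero_of_zero_dvd hmp)
  obtain ⟨e, s, hps, rfl⟩ := Nat.exists_eq_pow_mul_and_not_dvd hm0 p hp.ne_one
  have hmul : p ^ e * s * p = p ^ (e + 1) * s := by ring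
  rw [hmul] at hmp hstep
  set Y := Finset.univ.filter (fun x : G => x ^ (p ^ (e + 1) * s) = 1 ∧ x ^ (p ^ e * s) ≠ 1) with hY
  have hYs : s ∣ Y.card := frobenius_step_s IH p e s hp hps hmp
  have hYp : p ^ e ∣ Y.card := by
    apply pow_dvd_card_of_generators_closed Y p e hp
    · intro x hx x' hx'
      simp only [hY, Finset.mem_filter, Finset.mem_univ, true_and] at hx ⊢
      have ho : orderOf x' = orderOf x := ((zpowers_eq_iff' x x').1 hx').2
      rw [← orderOf_dvd_iff_pow_eq_one, Ne, ← orderOf_dvd_iff_pow_eq_one] at hx ⊢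
      rw [ho]; exact hx
    · intro x hx
      simp only [hY, Finset.mem_filter, Finset.mem_univ, true_and] at hx
      rw [← orderOf_dvd_iff_pow_eq_one, Ne, ← orderOf_dvd_iff_pow_eq_one] at hx
      exact pow_succ_dvd_of_dvd_of_not_dvd hp hx.1 hx.2
  have hcop : Nat.Coprime (p ^ e) s := ((Nat.Prime.coprime_iff_not_dvd hp).2 hps).pow_left _
  have hYm : p ^ e * s ∣ Y.card := hcop.mul_dvd_of_dvd_of_dvd hYp hYs
  have hsplit := Finset.card_filter_add_card_filter_not
    (s := Finset.univ.filter (fun x : G => x ^ (p ^ (e + 1) * s) = 1))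
    (fun x : G => x ^ (p ^ e * s) = 1)
  rw [Finset.filter_filter, Finset.filter_filter] at hsplit
  have h1 : Finset.univ.filter (fun x : G => x ^ (p ^ (e + 1) * s) = 1 ∧ x ^ (p ^ e * s) = 1) =
      Finset.univ.filter (fun x : G => x ^ (p ^ e * s) = 1) := by
    ext x
    simp only [Finset.mem_filter, Finset.mem_univ, true_and, and_iff_right_iff_imp]
    intro hx
    rw [← hmul, pow_mul, hx, one_pow]
  rw [h1] at hsplit
  have h2 : p ^ e * s ∣ (Finset.univ.filter (fun x : G => x ^ (p ^ e * s) = 1)).card + Y.card := by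
    rw [hY, hsplit]
    exact (Dvd.intro _ hmul).trans hstep
  exact (Nat.dvd_add_left hYm).1 h2

/-- **Frobenius' theorem**, gcd form. -/
theorem frobenius_gcd_aux : ∀ (N : ℕ) (G : Type u) [Group G] [Finite G], Nat.card G = N →
    ∀ s, Nat.gcd s (Nat.card G) ∣ Nat.card {g : G // g ^ s = 1} := by
  intro N
  induction N using Nat.strong_induction_on with
  | _ N IHN =>
    intro G _ _ hN
    classical
    haveI : Fintype G := Fintype.ofFinite G
    have IH : ∀ (H : Type u) [Group H] [Finite H], Nat.card H < Nat.card G →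
        ∀ s, Nat.gcd s (Nat.card H) ∣ Nat.card {h : H // h ^ s = 1} := by
      intro H _ _ hlt s
      exact IHN (Nat.card H) (hN ▸ hlt) H rfl s
    -- inner induction
    have inner : ∀ k m : ℕ, m * k = Nat.card G →
        m ∣ (Finset.univ.filter (fun x : G => x ^ m = 1)).card := by
      intro k
      induction k using Nat.strong_induction_on with
      | _ k IHk =>
        intro m hmk
        by_cases hk1 : k = 1
        · subst hk1
          rw [mul_one] at hmk
          have : Finset.univ.filter (fun x : G => x ^ m = 1) = Finset.univ := by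
            ext x
            simp only [Finset.mem_filter, Finset.mem_univ, true_and, iff_true]
            rw [hmk]; exact pow_card_eq_one'
          rw [this, Finset.card_univ, ← Nat.card_eq_fintype_card, hmk]
        · obtain ⟨p, hp, hpk⟩ := Nat.exists_prime_and_dvd hk1
          obtain ⟨k', rfl⟩ := hpk
          have hk0 : p * k' ≠ 0 := by
            intro h0
            rw [h0, mul_zero] at hmk
            exact Nat.card_pos.ne' hmk.symm
          have hk'pos : 0 < k' := Nat.pos_of_ne_zero (fun h => hk0 (by rw [h, mul_zero]))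
          have hlt : k' < p * k' := by
            have := hp.two_le
            nlinarith
          have hstep := IHk k' hlt (m * p) (by rw [← hmk]; ring)
          exact frobenius_step IH m p hp ⟨k', by rw [← hmk]; ring⟩ hstep
    intro s
    rw [card_pow_eq_one_gcd s, Nat.card_eq_fintype_card (α := {g : G // g ^ (Nat.gcd s (Nat.card G)) = 1}),
      Fintype.card_subtype]
    obtain ⟨k, hk⟩ := Nat.gcd_dvd_right s (Nat.card G)
    exact inner k _ hk.symm

theorem frobenius_gcd (G : Type u) [Group G] [Finite G] (s : ℕ) :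
    Nat.gcd s (Nat.card G) ∣ Nat.card {g : G // g ^ s = 1} :=
  frobenius_gcd_aux _ G rfl s

/-- **Frobenius' theorem**: if `m ∣ |G|` then `m` divides the number of solutions of `x ^ m = 1`. -/
theorem frobenius_dvd (G : Type u) [Group G] [Finite G] (m : ℕ) (hm : m ∣ Nat.card G) :
    m ∣ Nat.card {g : G // g ^ m = 1} := by
  have := frobenius_gcd G m
  rwa [Nat.gcd_eq_left hm] at this


end Cfsg.Agent.Lib.Helper2
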