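import Mathlib
import Cfsg.Agent.Lib.Helper5.NSE.M11Cent
import Cfsg.Agent.Lib.Helper5.NSE.M11Simple2
import Cfsg.Agent.Lib.Helper2.M11Fus3

/-! The commuting graph of `M₁₁` determines `M₁₁` (helper2, for S3413): a group `H` with the
commuting graph of `M₁₁` has order `7920`, the centralizer orders of `M₁₁`, hence `144` Sylow
`11`-subgroups, `396` Sylow `5`-subgroups and no elements of order `10` or `20`; helper5's
`isSimpleGroup_of_counts'` makes it simple and S0420 identifies it. -/

set_option autoImplicit false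
set_option maxRecDepth 100000
set_option linter.style.haveILetI false
set_option linter.unusedSectionVars false

namespace Cfsg.Agent.Lib.Helper2.CgM11

open Cfsg Cfsg.Agent.Lib.Helper5.NSE

open scoped Pointwise

section general

variable {H : Type*} [Group H] [Finite H] {M : Type*} [Group M] [Finite M]

/-- a group has one more element than non-identity elements -/
theorem card_eq_succ (K : Type*) [Group K] [Finite K] :
    Nat.card K = Nat.card {k : K // k ≠ 1} + 1 := by
  classical
  rw [← Finite.card_option]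
  exact Nat.card_congr (Equiv.optionSubtypeNe (1 : K)).symm

/-- the order is determined by the commuting graph -/
theorem card_eq (f : {h : H // h ≠ 1} ≃ {g : M // g ≠ 1}) : Nat.card H = Nat.card M := by
  rw [card_eq_succ H, card_eq_succ M, Nat.card_congr f]

/-- the centralizer of a non-identity element, counted in the commuting graph -/
theorem card_centralizer_eq_succ {K : Type*} [Group K] [Finite K] (x : {k : K // k ≠ 1}) :
    Nat.card (Subgroup.centralizer ({(x : K)} : Set K)) =
      Nat.card {y : {k : K // k ≠ 1} // (x : K) * y = y * x} + 1 := by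
  rw [card_eq_succ (Subgroup.centralizer ({(x : K)} : Set K))]
  congr 1
  apply Nat.card_congr
  refine ⟨fun b => ⟨⟨(b : Subgroup.centralizer ({(x : K)} : Set K)), fun h => b.2 (Subtype.ext h)⟩,
      (Subgroup.mem_centralizer_singleton_iff.mp b.1.2).symm⟩,
    fun y => ⟨⟨(y : {k : K // k ≠ 1}), Subgroup.mem_centralizer_singleton_iff.mpr y.2.symm⟩,
      fun h => y.1.2 (congrArg Subtype.val h)⟩, fun b => ?_, fun y => ?_⟩
  · rfl
  · rfl

variable (f : {h : H // h ≠ 1} ≃ {g : M // g ≠ 1})
  (hf : ∀ x y : {h : H // h ≠ 1},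
    (x : H) * y = y * x ↔ ((f x) : M) * (f y) = (f y) * (f x))

include hf in
/-- the centralizer orders are determined by the commuting graph -/
theorem card_centralizer_eq (x : {h : H // h ≠ 1}) :
    Nat.card (Subgroup.centralizer ({(x : H)} : Set H)) =
      Nat.card (Subgroup.centralizer ({((f x) : M)} : Set M)) := by
  rw [card_centralizer_eq_succ x, card_centralizer_eq_succ (f x)]
  congr 1
  exact Nat.card_congr (Equiv.subtypeEquiv f (fun y => hf x y))

include hf in
/-- the centralizer orders, from the side of `M` -/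
theorem card_centralizer_symm (z : {g : M // g ≠ 1}) :
    Nat.card (Subgroup.centralizer ({((f.symm z) : H)} : Set H)) =
      Nat.card (Subgroup.centralizer ({(z : M)} : Set M)) := by
  rw [card_centralizer_eq f hf (f.symm z), Equiv.apply_symm_apply]

end general

section m11

variable {H : Type*} [Group H] [Finite H]
  (f : {h : H // h ≠ 1} ≃ {g : ↥Cfsg.Spor.M11 // g ≠ 1})
  (hf : ∀ x y : {h : H // h ≠ 1},
    (x : H) * y = y * x ↔ ((f x) : ↥Cfsg.Spor.M11) * (f y) = (f y) * (f x))

/-- the centralizer of the identity is everything -/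
theorem centralizer_one (K : Type*) [Group K] :
    Subgroup.centralizer ({(1 : K)} : Set K) = ⊤ := by
  rw [Subgroup.eq_top_iff']
  intro x
  rw [Subgroup.mem_centralizer_singleton_iff, mul_one, one_mul]

include hf in
/-- for a prime `p`, at least as many elements of order `p` in `H` as elements of `M₁₁` with
centralizer of order `p` -/
theorem le_sc (hH : Nat.card H = 7920) {p : ℕ} (hp : p.Prime) (hp' : p ≠ 7920) :
    Nat.card {g : ↥Cfsg.Spor.M11 //
      Nat.card (Subgroup.centralizer ({g} : Set ↥Cfsg.Spor.M11)) = p} ≤ sc H p := by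
  classical
  haveI := Cfsg.Agent.Lib.Helper5.NSE.M11S.finite_M11'
  letI : Fintype H := Fintype.ofFinite H
  have hne : ∀ g : {g : ↥Cfsg.Spor.M11 //
      Nat.card (Subgroup.centralizer ({g} : Set ↥Cfsg.Spor.M11)) = p},
      (g : ↥Cfsg.Spor.M11) ≠ 1 := by
    rintro ⟨g, hg⟩ h1
    simp only at h1
    subst h1
    rw [centralizer_one, Subgroup.card_top, Cfsg.Agent.Lib.Helper9.M24P6.card_M11] at hg
    exact hp' hg.symm
  unfold sc
  refine Nat.card_le_card_of_injective (fun g => ⟨((f.symm ⟨g.1, hne g⟩) : H), ?_⟩) ?_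
  · apply Cfsg.Agent.Lib.Helper5.NSE.M11S.orderOf_eq_of_card_centralizer_prime hH hp hp'
    rw [card_centralizer_symm f hf ⟨g.1, hne g⟩]
    exact g.2
  · intro a b hab
    have h1 : ((f.symm ⟨a.1, hne a⟩) : H) = ((f.symm ⟨b.1, hne b⟩) : H) :=
      Subtype.mk.inj hab
    have h2 := f.symm.injective (Subtype.ext h1)
    exact Subtype.ext (Subtype.mk.inj h2)

include hf in
/-- no element of `H` has order divisible by `10` -/
theorem sc_eq_zero_of_ten_dvd {m : ℕ} (hm : 10 ∣ m) : sc H m = 0 := by
  by_contra hne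
  obtain ⟨g, hg⟩ := sc_pos_iff.mp (Nat.pos_of_ne_zero hne)
  have hg1 : g ≠ 1 := by
    rintro rfl
    rw [orderOf_one] at hg
    rw [← hg] at hm
    omega
  have h1 : orderOf g ∣ Nat.card (Subgroup.centralizer ({g} : Set H)) :=
    Cfsg.Agent.Lib.Helper5.NSE.M11S.orderOf_dvd_card_centralizer rfl
  rw [hg, card_centralizer_eq f hf ⟨g, hg1⟩] at h1
  exact Cfsg.Agent.Lib.Helper5.NSE.M11S.not_ten_dvd_card_centralizer_M11 (f ⟨g, hg1⟩).2
    (hm.trans h1)

include hf in
/-- a group with the commuting graph of `M₁₁` is simple of order `7920` -/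
theorem isM11_of_graph : Cfsg.IsM11 H := by
  classical
  haveI := Cfsg.Agent.Lib.Helper5.NSE.M11S.finite_M11'
  haveI : Fact (Nat.Prime 11) := ⟨by norm_num⟩
  haveI : Fact (Nat.Prime 5) := ⟨by norm_num⟩
  have hH : Nat.card H = 7920 := by
    rw [card_eq f, Cfsg.Agent.Lib.Helper9.M24P6.card_M11]
  have hc11 : ∀ P : Sylow 11 H, Nat.card P = 11 :=
    Cfsg.Agent.Lib.Lead.SylowCount.card_sylow_of_card_eq 11 720 (by omega) (by norm_num)
  have hc5 : ∀ P : Sylow 5 H, Nat.card P = 5 :=
    Cfsg.Agent.Lib.Lead.SylowCount.card_sylow_of_card_eq 5 1584 (by omega) (by norm_num)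
  -- the prime 11
  have h11 : Nat.card (Sylow 11 H) = 144 := by
    have h1 := le_sc f hf hH (p := 11) (by norm_num) (by norm_num)
    rw [Cfsg.Agent.Lib.Helper5.NSE.M11S.card_centralizer_eleven_M11, sc_prime_eq 11 hc11] at h1
    obtain ⟨P⟩ : Nonempty (Sylow 11 H) := inferInstance
    have h2 : Nat.card (Sylow 11 H) ∣ 720 :=
      Cfsg.Agent.Lib.Lead.SylowCount.card_sylow_dvd_of_card P (hc11 P) (by omega) (by norm_num)
    have h3 := card_sylow_modEq_one 11 H
    unfold Nat.ModEq at h3
    have key : ∀ n ∈ Nat.divisors 720, n % 11 = 1 % 11 → 144 ≤ n → n = 144 := by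
      decide +kernel
    exact key _ (Nat.mem_divisors.mpr ⟨h2, by norm_num⟩) h3 (by omega)
  -- the prime 5
  have h5 : Nat.card (Sylow 5 H) = 396 := by
    have h1 := le_sc f hf hH (p := 5) (by norm_num) (by norm_num)
    rw [Cfsg.Agent.Lib.Helper5.NSE.M11S.card_centralizer_five_M11, sc_prime_eq 5 hc5] at h1
    obtain ⟨P⟩ : Nonempty (Sylow 5 H) := inferInstance
    have h2 : Nat.card (Sylow 5 H) ∣ 1584 :=
      Cfsg.Agent.Lib.Lead.SylowCount.card_sylow_dvd_of_card P (hc5 P) (by omega) (by norm_num)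
    have h3 := card_sylow_modEq_one 5 H
    unfold Nat.ModEq at h3
    have key : ∀ n ∈ Nat.divisors 1584, n % 5 = 1 % 5 → 396 ≤ n → n = 396 := by
      decide +kernel
    exact key _ (Nat.mem_divisors.mpr ⟨h2, by norm_num⟩) h3 (by omega)
  have hsc : sc H 5 + sc H 10 + sc H 20 < 6336 := by
    rw [sc_eq_zero_of_ten_dvd f hf (by norm_num : 10 ∣ 10),
      sc_eq_zero_of_ten_dvd f hf (by norm_num : 10 ∣ 20), sc_prime_eq 5 hc5, h5]
    norm_num
  exact ⟨Cfsg.Agent.Lib.Helper5.NSE.M11R.isSimpleGroup_of_counts' hH h11 h5 hsc, hH⟩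

include hf in
/-- S3413 from S0420 (in the instance needed) -/
theorem s3413_of_s0420
    (h0420 : Cfsg.IsM11 H →
      Nonempty (H ≃* ↥(MulAction.stabilizer Cfsg.M24 Cfsg.Spor.squareDodecad ⊓
        MulAction.stabilizer Cfsg.M24 (some 0 : Cfsg.GolayPt)))) :
    Nonempty (H ≃* ↥Cfsg.Spor.M11) := by
  obtain ⟨e⟩ := h0420 (isM11_of_graph f hf)
  exact ⟨e.trans Cfsg.Agent.Lib.Helper2.M11Fus.eM11.symm⟩

end m11

end Cfsg.Agent.Lib.Helper2.CgM11
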