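import Mathlib
import Cfsg.Agent.Lib.Helper5.ChevRankOne
import Cfsg.Agent.Lib.Helper5.ChevTwistPerfOrb

set_option autoImplicit false
set_option linter.style.haveILetI false

/-!
Lemmas for the two-generation of the Chevalley groups over the field with two elements: the element
`y_r = x_r(1) x_{-r}(1)` has order dividing three, conjugation by `y_v` agrees with conjugation by
`x_v(1)` on elements commuting with `x_{-v}(1)`, and the factors of `x_s(1) * y_r` are powers of it.
-/

namespace Cfsg.Agent.Lib.Helper2.Ch2GY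

open Cfsg Cfsg.Lie Cfsg.Agent.Lib.Helper5.ChevStruct Cfsg.Agent.Lib.Helper5.ChevSym

variable {F : Type*} [Field F]

/-- in characteristic two, `(uu 1 * ll 1) ^ 3 = 1` in `SL₂` -/
theorem sl2_y_pow_three [CharP F 2] :
    (Cfsg.Agent.Lib.Helper5.RankOneHom.uu (1 : F) * Cfsg.Agent.Lib.Helper5.RankOneHom.ll (1 : F)) ^ 3
      = 1 := by
  have h2 : (2 : F) = 0 := by
    have := CharP.cast_eq_zero F 2
    simpa using this
  have h11 : (1 : F) + 1 = 0 := by rw [one_add_one_eq_two, h2]
  have e : ((Cfsg.Agent.Lib.Helper5.RankOneHom.uu (1 : F) *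
      Cfsg.Agent.Lib.Helper5.RankOneHom.ll (1 : F) : Matrix.SpecialLinearGroup (Fin 2) F) :
      Matrix (Fin 2) (Fin 2) F) = !![0, 1; 1, 1] := by
    rw [Matrix.SpecialLinearGroup.coe_mul]
    unfold Cfsg.Agent.Lib.Helper5.RankOneHom.uu Cfsg.Agent.Lib.Helper5.RankOneHom.ll
    simp [Matrix.mul_fin_two, h11]
  apply Subtype.ext
  rw [Matrix.SpecialLinearGroup.coe_pow, e, Matrix.SpecialLinearGroup.coe_one]
  rw [pow_succ, pow_succ, pow_one, Matrix.mul_fin_two, Matrix.mul_fin_two]
  simp [h11, Matrix.one_fin_two]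

/-- **U7**: `y_r ^ 3 = 1` over a field of characteristic two -/
theorem y_pow_three (D : ChevalleyDatum) (hD : D ∈ Seven) [CharP F 2] (r : ℕ) (hr : r < D.nroots) :
    (xGL D hD r (1 : F) * xGL D hD (D.neg r) 1) ^ 3 = 1 := by
  obtain ⟨-, φ, h1, h2⟩ := exists_sl2_hom (F := F) D hD r hr
  rw [← h1, ← h2, ← map_mul, ← map_pow, sl2_y_pow_three, map_one]

/-- in characteristic two the root elements are involutions -/
theorem xGL_sq_char_two (D : ChevalleyDatum) (hD : D ∈ Seven) [CharP F 2] (r : ℕ) (t : F) :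
    xGL D hD r t ^ 2 = 1 := by
  have h2 : (2 : F) = 0 := by
    have := CharP.cast_eq_zero F 2
    simpa using this
  have htt : t + t = 0 := by
    have : t + t = 2 * t := by ring
    rw [this, h2, zero_mul]
  rw [pow_two, ← xGL_add, htt]
  apply Units.ext
  rw [xGL_val, Units.val_one]
  exact x_at_zero D r

/-- the virtual root rule: conjugation by `x * x'` agrees with conjugation by `x` on the
centraliser of `x'` -/
theorem conj_y_of_commute {G : Type*} [Group G] (x x' g : G) (h : Commute x' g) :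
    (x * x') * g * (x * x')⁻¹ = x * g * x⁻¹ := by
  have e : x' * g * x'⁻¹ = g := by
    rw [h.eq, mul_assoc, mul_inv_cancel, mul_one]
  calc (x * x') * g * (x * x')⁻¹ = x * (x' * g * x'⁻¹) * x⁻¹ := by group
    _ = x * g * x⁻¹ := by rw [e]

/-- the factors of a commuting product of an involution and an element of order three -/
theorem extract_two_three {G : Type*} [Group G] (x y : G) (hc : Commute x y) (hx : x ^ 2 = 1)
    (hy : y ^ 3 = 1) : (x * y) ^ 3 = x ∧ (x * y) ^ 4 = y := by
  constructor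
  · rw [hc.mul_pow, hy, mul_one]
    calc x ^ 3 = x ^ 2 * x := by rw [pow_succ]
      _ = x := by rw [hx, one_mul]
  · rw [hc.mul_pow]
    have h4 : x ^ 4 = 1 := by
      calc x ^ 4 = (x ^ 2) ^ 2 := by rw [← pow_mul]
        _ = 1 := by rw [hx, one_pow]
    have h4' : y ^ 4 = y := by
      calc y ^ 4 = y ^ 3 * y := by rw [pow_succ]
        _ = y := by rw [hy, one_mul]
    rw [h4, h4', one_mul]

/-- the generator `a = x_s(1) * y_r` of the construction over the field with two elements: both
factors lie in every subgroup containing `a`, provided `x_s(1)` commutes with `x_{±r}(1)` -/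
theorem factors_mem (D : ChevalleyDatum) (hD : D ∈ Seven) [CharP F 2] (K : Subgroup (GL D.Idx F))
    (s r : ℕ) (hr : r < D.nroots)
    (hc1 : Commute (xGL D hD s (1 : F)) (xGL D hD r 1))
    (hc2 : Commute (xGL D hD s (1 : F)) (xGL D hD (D.neg r) 1))
    (ha : xGL D hD s (1 : F) * (xGL D hD r 1 * xGL D hD (D.neg r) 1) ∈ K) :
    xGL D hD s (1 : F) ∈ K ∧ xGL D hD r (1 : F) * xGL D hD (D.neg r) 1 ∈ K := by
  have hc : Commute (xGL D hD s (1 : F)) (xGL D hD r 1 * xGL D hD (D.neg r) 1) := hc1.mul_right hc2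
  obtain ⟨e3, e4⟩ := extract_two_three _ _ hc (xGL_sq_char_two D hD s 1) (y_pow_three D hD r hr)
  exact ⟨e3 ▸ K.pow_mem ha 3, e4 ▸ K.pow_mem ha 4⟩

end Cfsg.Agent.Lib.Helper2.Ch2GY
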