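import Mathlib
import Cfsg.Prelude.Def_ChevStructure
import Cfsg.Prelude.Def_ChevAutomorphisms
import Cfsg.Agent.Lib.Helper5.StUniq0
import Cfsg.Agent.Lib.Helper5.ChevDiag
import Cfsg.Agent.Lib.Helper5.ChevTorusAct
import Cfsg.Agent.Lib.Helper5.ChevCharDiag2

set_option autoImplicit false
set_option linter.style.haveILetI false
set_option linter.unusedSectionVars false
set_option linter.unusedVariables false

/-! S2318 farm, unit C1: structure of `B̂ = B Ĥ` and `Ĝ = G Ĥ`. -/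

namespace Cfsg.Agent.Lib.Helper2.ChC1

open Cfsg Cfsg.Lie Cfsg.Agent.Lib.Helper5.ChevSym Cfsg.Agent.Lib.Helper5.ChevStruct
  Cfsg.Agent.Lib.Helper5.StUniq Cfsg.Agent.Lib.Helper5.UniTri
open scoped Pointwise

section abstract

variable {G : Type*} [Group G]

/-- `N T` with `T` abelian normalising `N`: commutators lie in `N`. -/
theorem comm_mem_of_abelian (N : Subgroup G) (n1 n2 t1 t2 : G) (hn1 : n1 ∈ N) (hn2 : n2 ∈ N)
    (h12 : t1 * n2 * t1⁻¹ ∈ N) (h21 : t2 * n1⁻¹ * t2⁻¹ ∈ N) (hc : t1 * t2 = t2 * t1) :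
    (n1 * t1) * (n2 * t2) * (n1 * t1)⁻¹ * (n2 * t2)⁻¹ ∈ N := by
  have h3 : t2 * t1⁻¹ = t1⁻¹ * t2 := by
    rw [eq_inv_mul_iff_mul_eq, ← mul_assoc, hc, mul_assoc, mul_inv_cancel, mul_one]
  have e1 : (n1 * t1) * (n2 * t2) * (n1 * t1)⁻¹ * (n2 * t2)⁻¹ =
      n1 * t1 * n2 * (t2 * t1⁻¹) * n1⁻¹ * t2⁻¹ * n2⁻¹ := by group
  have e2 : n1 * t1 * n2 * (t1⁻¹ * t2) * n1⁻¹ * t2⁻¹ * n2⁻¹ =
      n1 * (t1 * n2 * t1⁻¹) * (t2 * n1⁻¹ * t2⁻¹) * n2⁻¹ := by group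
  rw [e1, h3, e2]
  exact mul_mem (mul_mem (mul_mem hn1 h12) h21) (inv_mem hn2)

end abstract

variable {F : Type*} [Field F]

/-- diagonal matrices commute -/
theorem diagSub_comm {ι : Type*} [Fintype ι] [DecidableEq ι] (a b : GL ι F)
    (ha : a ∈ diagSub ι F) (hb : b ∈ diagSub ι F) : a * b = b * a := by
  apply Units.ext
  rw [Units.val_mul, Units.val_mul]
  have h1 := (isDiag_iff _).1 ha.1
  have h2 := (isDiag_iff _).1 hb.1
  rw [h1, h2]
  unfold dg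
  rw [Matrix.diagonal_mul_diagonal, Matrix.diagonal_mul_diagonal]
  congr 1
  funext i
  exact mul_comm _ _

theorem Hhat_le_diagSub' (D : ChevalleyDatum) : Hhat D F ≤ diagSub D.Idx F := by
  rintro g ⟨χ, _, hg⟩
  apply mem_diagSub_of_isDiag
  rw [hg]
  unfold ChevalleyDatum.charDiag
  exact isDiag_diagonal _

/-- the torus `T = H Ĥ` -/
theorem torus_le_diagSub (D : ChevalleyDatum) (hD : D ∈ Seven) :
    D.diagonalSubgroup F ⊔ Hhat D F ≤ diagSub D.Idx F :=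
  sup_le (diagonalSubgroup_le_diagSub D hD) (Hhat_le_diagSub' D)

theorem torus_le_normalizer_pos (D : ChevalleyDatum) (hD : D ∈ Seven) :
    D.diagonalSubgroup F ⊔ Hhat D F ≤
      Subgroup.normalizer (D.posUnipotent F : Set (GL D.Idx F)) :=
  sup_le (diagonal_le_normalizer_pos D hD) (Hhat_le_normalizer_pos D hD)

theorem conj_mem_of_mem_normalizer {G : Type*} [Group G] (N : Subgroup G) (t : G)
    (ht : t ∈ Subgroup.normalizer (N : Set G)) (n : G) (hn : n ∈ N) : t * n * t⁻¹ ∈ N :=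
  (Subgroup.mem_normalizer_iff.1 ht n).1 hn

/-- `b ∈ B ↔ b = u t` -/
theorem mem_borel_iff (D : ChevalleyDatum) (hD : D ∈ Seven) (b : GL D.Idx F) :
    b ∈ D.borelSubgroup F ↔ ∃ u ∈ D.posUnipotent F, ∃ t ∈ D.diagonalSubgroup F, b = u * t := by
  have hc : ((D.posUnipotent F ⊔ D.diagonalSubgroup F : Subgroup (GL D.Idx F)) :
      Set (GL D.Idx F)) = (D.posUnipotent F : Set (GL D.Idx F)) *
        (D.diagonalSubgroup F : Set (GL D.Idx F)) :=
    Subgroup.coe_mul_of_right_le_normalizer_left _ _ (diagonal_le_normalizer_pos D hD)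
  constructor
  · intro hb
    have hb' : b ∈ ((D.posUnipotent F ⊔ D.diagonalSubgroup F : Subgroup (GL D.Idx F)) :
        Set (GL D.Idx F)) := hb
    rw [hc] at hb'
    obtain ⟨a, ha, c, hcm, e⟩ := Set.mem_mul.1 hb'
    exact ⟨a, ha, c, hcm, e.symm⟩
  · rintro ⟨a, ha, c, hcm, rfl⟩
    exact mul_mem (Subgroup.mem_sup_left ha) (Subgroup.mem_sup_right hcm)

/-- `Ĥ` normalises `B` -/
theorem Hhat_conj_borel (D : ChevalleyDatum) (hD : D ∈ Seven) (h : GL D.Idx F)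
    (hh : h ∈ Hhat D F) (b : GL D.Idx F) (hb : b ∈ D.borelSubgroup F) :
    h * b * h⁻¹ ∈ D.borelSubgroup F := by
  obtain ⟨u, hu, t, ht, rfl⟩ := (mem_borel_iff D hD b).1 hb
  have e : h * (u * t) * h⁻¹ = (h * u * h⁻¹) * (h * t * h⁻¹) := by group
  rw [e]
  have h1 : h * u * h⁻¹ ∈ D.posUnipotent F := Hhat_conj_pos D hD h hh u hu
  have h2 : h * t * h⁻¹ = t := by
    have := diagSub_comm h t (Hhat_le_diagSub' D hh) (diagonalSubgroup_le_diagSub D hD ht)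
    rw [this, mul_assoc, mul_inv_cancel, mul_one]
  rw [h2]
  exact mul_mem (Subgroup.mem_sup_left h1) (Subgroup.mem_sup_right ht)

theorem Hhat_le_normalizer_borel (D : ChevalleyDatum) (hD : D ∈ Seven) :
    Hhat D F ≤ Subgroup.normalizer (D.borelSubgroup F : Set (GL D.Idx F)) := by
  intro h hh
  rw [Subgroup.mem_normalizer_iff]
  intro g
  refine ⟨fun hg => Hhat_conj_borel D hD h hh g hg, fun hg => ?_⟩
  have := Hhat_conj_borel D hD h⁻¹ (inv_mem hh) _ hg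
  have e : h⁻¹ * (h * g * h⁻¹) * h⁻¹⁻¹ = g := by group
  rwa [e] at this

/-- C1 -/
theorem mem_Bhat_iff (D : ChevalleyDatum) (hD : D ∈ Seven) (g : GL D.Idx F) :
    g ∈ Bhat D F ↔ ∃ b ∈ D.borelSubgroup F, ∃ h ∈ Hhat D F, g = b * h := by
  have hc : ((D.borelSubgroup F ⊔ Hhat D F : Subgroup (GL D.Idx F)) : Set (GL D.Idx F))
      = (D.borelSubgroup F : Set (GL D.Idx F)) * (Hhat D F : Set (GL D.Idx F)) :=
    Subgroup.coe_mul_of_right_le_normalizer_left _ _ (Hhat_le_normalizer_borel D hD)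
  constructor
  · intro hg
    have hg' : g ∈ ((D.borelSubgroup F ⊔ Hhat D F : Subgroup (GL D.Idx F)) :
        Set (GL D.Idx F)) := hg
    rw [hc] at hg'
    obtain ⟨a, ha, b, hb, e⟩ := Set.mem_mul.1 hg'
    exact ⟨a, ha, b, hb, e.symm⟩
  · rintro ⟨a, ha, b, hb, rfl⟩
    exact mul_mem (Subgroup.mem_sup_left ha) (Subgroup.mem_sup_right hb)

/-- every element of `B̂` is `u t` with `u ∈ U`, `t ∈ H Ĥ` -/
theorem Bhat_decomp (D : ChevalleyDatum) (hD : D ∈ Seven) (g : GL D.Idx F) (hg : g ∈ Bhat D F) :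
    ∃ u ∈ D.posUnipotent F, ∃ t ∈ D.diagonalSubgroup F ⊔ Hhat D F, g = u * t := by
  obtain ⟨b, hb, h, hh, rfl⟩ := (mem_Bhat_iff D hD g).1 hg
  obtain ⟨u, hu, t, ht, rfl⟩ := (mem_borel_iff D hD b).1 hb
  exact ⟨u, hu, t * h, mul_mem (Subgroup.mem_sup_left ht) (Subgroup.mem_sup_right hh),
    by rw [mul_assoc]⟩

/-- C1 -/
theorem Bhat_struct (D : ChevalleyDatum) (hD : D ∈ Seven) :
    D.posUnipotent F ≤ Bhat D F ∧
    (∀ b ∈ Bhat D F, ∀ u ∈ D.posUnipotent F, b * u * b⁻¹ ∈ D.posUnipotent F) ∧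
    (∀ x ∈ Bhat D F, ∀ y ∈ Bhat D F, x * y * x⁻¹ * y⁻¹ ∈ D.posUnipotent F) := by
  have hnormT := torus_le_normalizer_pos (F := F) D hD
  refine ⟨(le_sup_left : D.posUnipotent F ≤ D.borelSubgroup F).trans (borel_le_Bhat D), ?_, ?_⟩
  · intro b hb u hu
    obtain ⟨v, hv, t, ht, rfl⟩ := Bhat_decomp D hD b hb
    have e : v * t * u * (v * t)⁻¹ = v * (t * u * t⁻¹) * v⁻¹ := by group
    rw [e]
    have h1 := conj_mem_of_mem_normalizer _ t (hnormT ht) u hu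
    exact mul_mem (mul_mem hv h1) (inv_mem hv)
  · intro x hx y hy
    obtain ⟨n1, hn1, t1, ht1, rfl⟩ := Bhat_decomp D hD x hx
    obtain ⟨n2, hn2, t2, ht2, rfl⟩ := Bhat_decomp D hD y hy
    apply comm_mem_of_abelian _ n1 n2 t1 t2 hn1 hn2
    · exact conj_mem_of_mem_normalizer _ t1 (hnormT ht1) n2 hn2
    · exact conj_mem_of_mem_normalizer _ t2 (hnormT ht2) n1⁻¹ (inv_mem hn1)
    · exact diagSub_comm t1 t2 (torus_le_diagSub D hD ht1) (torus_le_diagSub D hD ht2)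

/-- C1 -/
theorem borel_struct (D : ChevalleyDatum) (hD : D ∈ Seven) :
    (∀ b ∈ D.borelSubgroup F, ∀ u ∈ D.posUnipotent F, b * u * b⁻¹ ∈ D.posUnipotent F) ∧
    (∀ x ∈ D.borelSubgroup F, ∀ y ∈ D.borelSubgroup F,
      x * y * x⁻¹ * y⁻¹ ∈ D.posUnipotent F) := by
  have hB := Bhat_struct (F := F) D hD
  exact ⟨fun b hb u hu => hB.2.1 b (borel_le_Bhat D hb) u hu,
    fun x hx y hy => hB.2.2 x (borel_le_Bhat D hx) y (borel_le_Bhat D hy)⟩

/-- C1 -/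
theorem Ghat_conj_group (D : ChevalleyDatum) (hD : D ∈ Seven) :
    ∀ g ∈ Ghat D F, ∀ x ∈ D.group F, g * x * g⁻¹ ∈ D.group F := by
  intro g hg x hx
  obtain ⟨g0, hg0, h, hh, rfl⟩ := (mem_Ghat_iff D hD g).1 hg
  have e : g0 * h * x * (g0 * h)⁻¹ = g0 * (h * x * h⁻¹) * g0⁻¹ := by group
  rw [e]
  exact mul_mem (mul_mem hg0 (Hhat_conj_group D hD h hh x hx)) (inv_mem hg0)

end Cfsg.Agent.Lib.Helper2.ChC1
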