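import Mathlib
import Cfsg.Prelude.Def_ChevStructure
import Cfsg.Agent.Lib.Helper5.ChevCoLin
import Cfsg.Agent.Lib.Helper5.ChevWRel
import Cfsg.Agent.Lib.Helper5.ChevWPerm
import Cfsg.Agent.Lib.Helper5.ChevBruhat

set_option autoImplicit false
set_option linter.style.haveILetI false

/-!
Root combinatorics for the defect group dichotomy in the Chevalley groups of the seven data:
a word `w` with the property `PW` (every positive root kept positive by the inverse word is fixed
by `w`) cannot separate two adjacent fundamental roots in the way described in `lemma_D`; the two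
extreme cases; connectivity of the Dynkin diagrams.
-/

namespace Cfsg.Agent.Lib.Helper2.ChD

open Cfsg Cfsg.Lie Cfsg.Agent.Lib.Helper5.ChevSym Cfsg.Agent.Lib.Helper5.ChevStruct

/-- every positive root kept positive by the inverse word is fixed by the word -/
def PW (D : ChevalleyDatum) (w : List ℕ) : Prop :=
  ∀ a, D.IsPosRoot a → D.IsPosRoot (wAct D w.reverse a) → wAct D w a = a

theorem not_pos_and_neg (D : ChevalleyDatum) (hD : D ∈ Seven) (r : ℕ) (hp : D.IsPosRoot r)
    (hn : D.IsNegRoot r) : False := by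
  obtain ⟨k, hk, hne⟩ := exists_co_ne_zero D hD r hp.1
  have h1 := ((isPosRoot_iff_co D hD r).1 hp).2 k hk
  have h2 := ((isNegRoot_iff_co D hD r).1 hn).2 k hk
  exact hne (le_antisymm h2 h1)

theorem neg_of_not_pos (D : ChevalleyDatum) (hD : D ∈ Seven) (r : ℕ) (hr : r < D.nroots)
    (h : ¬ D.IsPosRoot r) : D.IsNegRoot r := isNegRoot_of_not_pos D hD r hr h

theorem not_pos_iff_neg (D : ChevalleyDatum) (hD : D ∈ Seven) (r : ℕ) (hr : r < D.nroots) :
    ¬ D.IsPosRoot r ↔ D.IsNegRoot r :=
  ⟨neg_of_not_pos D hD r hr, fun hn hp => not_pos_and_neg D hD r hp hn⟩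

theorem simple_ne (D : ChevalleyDatum) (hD : D ∈ Seven) (i j : ℕ) (hi : i < D.rank)
    (hj : j < D.rank) (hij : i ≠ j) : D.simple i ≠ D.simple j := by
  intro h
  have h1 := co_simple D hD i hi i hi
  have h2 := co_simple D hD j hj i hi
  rw [h] at h1
  rw [h1] at h2
  unfold basisVec at h2
  simp [hij] at h2

/-- the reflection of a fundamental root in another one is a positive root -/
theorem reflect_simple_pos (D : ChevalleyDatum) (hD : D ∈ Seven) (i j : ℕ) (hi : i < D.rank)
    (hj : j < D.rank) (hij : i ≠ j) : D.IsPosRoot (D.reflectRoot j (D.simple i)) :=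
  (checkCoLin_spec D j (chkCoLin_all D hD j hj) (D.simple i) (simple_lt D hD i hi)).2
    (simple_pos D hD i hi) (simple_ne D hD i j hi hj hij)

/-- the coroot coordinates of `s_j(p_i)` -/
theorem co_reflect_simple (D : ChevalleyDatum) (hD : D ∈ Seven) (i j : ℕ) (hi : i < D.rank)
    (hj : j < D.rank) :
    ∃ c : ℤ, ∀ k < D.rank,
      co D (D.reflectRoot j (D.simple i)) k = basisVec i k + c * basisVec j k := by
  refine ⟨- pairVec D j (co D (D.simple i)), fun k hk => ?_⟩
  rw [(checkCoLin_spec D j (chkCoLin_all D hD j hj) (D.simple i) (simple_lt D hD i hi)).1 k hk]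
  unfold reflVec
  rw [co_simple D hD i hi k hk]
  unfold basisVec
  split_ifs <;> ring

/-- linearity on `s_j(p_i) = p_i + c p_j` -/
theorem co_wAct_reflect_simple (D : ChevalleyDatum) (hD : D ∈ Seven) (i j : ℕ) (hi : i < D.rank)
    (hj : j < D.rank) (c : ℤ)
    (hc : ∀ k < D.rank, co D (D.reflectRoot j (D.simple i)) k = basisVec i k + c * basisVec j k)
    (w : List ℕ) (hw : ∀ m ∈ w, m < D.rank) (k : ℕ) (hk : k < D.rank) :
    co D (wAct D w (D.reflectRoot j (D.simple i))) k
      = co D (wAct D w (D.simple i)) k + c * co D (wAct D w (D.simple j)) k := by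
  have hlt := (reflectRoot_invol D hD j hj (D.simple i) (simple_lt D hD i hi)).1
  rw [co_wAct_eq_sum D hD w hw _ hlt k hk]
  have e1 : ∀ m ∈ Finset.range D.rank,
      co D (D.reflectRoot j (D.simple i)) m * co D (wAct D w (D.simple m)) k
        = basisVec i m * co D (wAct D w (D.simple m)) k
          + c * (basisVec j m * co D (wAct D w (D.simple m)) k) := by
    intro m hm
    rw [hc m (Finset.mem_range.1 hm)]
    ring
  rw [Finset.sum_congr rfl e1, Finset.sum_add_distrib, ← Finset.mul_sum]
  have e2 : ∀ (a : ℕ), a < D.rank →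
      ∑ m ∈ Finset.range D.rank, basisVec a m * co D (wAct D w (D.simple m)) k
        = co D (wAct D w (D.simple a)) k := by
    intro a ha
    unfold basisVec
    simp only [ite_mul, one_mul, zero_mul]
    rw [Finset.sum_ite_eq' (Finset.range D.rank) a]
    rw [if_pos (Finset.mem_range.2 ha)]
  rw [e2 i hi, e2 j hj]

theorem wAct_reverse' (D : ChevalleyDatum) (hD : D ∈ Seven) (w : List ℕ)
    (hw : ∀ i ∈ w, i < D.rank) (r : ℕ) (hr : r < D.nroots) :
    wAct D w.reverse (wAct D w r) = r := by
  have hw' : ∀ i ∈ w.reverse, i < D.rank := fun i hi => hw i (List.mem_reverse.1 hi)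
  have := wAct_reverse D hD w.reverse hw' r hr
  rwa [List.reverse_reverse] at this

/-- **Lemma D.** -/
theorem lemma_D (D : ChevalleyDatum) (hD : D ∈ Seven) (w1 : List ℕ)
    (hw1 : ∀ m ∈ w1, m < D.rank) (i j : ℕ) (hi : i < D.rank) (hj : j < D.rank) (hij : i ≠ j)
    (hadj : D.reflectRoot j (D.simple i) ≠ D.simple i) (hP : PW D w1)
    (h1 : ¬ D.IsPosRoot (wAct D w1.reverse (D.simple j)))
    (h2 : D.IsPosRoot (wAct D w1.reverse (D.reflectRoot j (D.simple i)))) : False := by
  have hu : ∀ m ∈ w1.reverse, m < D.rank := fun m hm => hw1 m (List.mem_reverse.1 hm)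
  obtain ⟨c, hc⟩ := co_reflect_simple D hD i j hi hj
  have hsi := simple_lt D hD i hi
  have hsj := simple_lt D hD j hj
  have hrpos := reflect_simple_pos D hD i j hi hj hij
  -- c ≥ 1
  have hc0 : 0 ≤ c := by
    have := ((isPosRoot_iff_co D hD _).1 hrpos).2 j hj
    rw [hc j hj] at this
    unfold basisVec at this
    simpa [hij.symm] using this
  have hcne : c ≠ 0 := by
    intro h0
    apply hadj
    apply co_inj D hD _ _ hrpos.1 hsi
    intro k hk
    rw [hc k hk, h0, co_simple D hD i hi k hk]
    ring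
  have hcpos : 0 < c := lt_of_le_of_ne hc0 (Ne.symm hcne)
  have hB : D.IsNegRoot (wAct D w1.reverse (D.simple j)) :=
    neg_of_not_pos D hD _ (wAct_lt D hD _ hu _ hsj) h1
  by_cases hA : D.IsPosRoot (wAct D w1.reverse (D.simple i))
  · -- case 2
    have f1 : wAct D w1 (D.simple i) = D.simple i := hP _ (simple_pos D hD i hi) hA
    have f2 : wAct D w1 (D.reflectRoot j (D.simple i)) = D.reflectRoot j (D.simple i) :=
      hP _ hrpos h2
    have f3 : wAct D w1 (D.simple j) = D.simple j := by
      apply co_inj D hD _ _ (wAct_lt D hD _ hw1 _ hsj) hsj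
      intro k hk
      have := co_wAct_reflect_simple D hD i j hi hj c hc w1 hw1 k hk
      rw [f1, f2, hc k hk, co_simple D hD i hi k hk] at this
      rw [co_simple D hD j hj k hk]
      have h3 : c * basisVec j k = c * co D (wAct D w1 (D.simple j)) k := by linarith
      exact (mul_left_cancel₀ hcne h3).symm
    apply h1
    have := wAct_reverse' D hD w1 hw1 (D.simple j) hsj
    rw [f3] at this
    rw [this]
    exact simple_pos D hD j hj
  · -- case 1
    have hA' : D.IsNegRoot (wAct D w1.reverse (D.simple i)) :=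
      neg_of_not_pos D hD _ (wAct_lt D hD _ hu _ hsi) hA
    obtain ⟨k, hk, hne⟩ := exists_co_ne_zero D hD _ h2.1
    have e := co_wAct_reflect_simple D hD i j hi hj c hc w1.reverse hu k hk
    have p1 := ((isPosRoot_iff_co D hD _).1 h2).2 k hk
    have p2 := ((isNegRoot_iff_co D hD _).1 hA').2 k hk
    have p3 := ((isNegRoot_iff_co D hD _).1 hB).2 k hk
    have p4 : c * co D (wAct D w1.reverse (D.simple j)) k ≤ 0 :=
      mul_nonpos_of_nonneg_of_nonpos hc0 p3
    apply hne
    linarith

/-- extreme case 1: no fundamental root is kept positive -/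
theorem all_neg_of_simple (D : ChevalleyDatum) (hD : D ∈ Seven) (w : List ℕ)
    (hw : ∀ m ∈ w, m < D.rank)
    (h : ∀ j < D.rank, ¬ D.IsPosRoot (wAct D w.reverse (D.simple j))) :
    (∀ a, D.IsPosRoot a → D.IsNegRoot (wAct D w.reverse a)) ∧
    (∀ a, D.IsPosRoot a → D.IsNegRoot (wAct D w a)) := by
  have hu : ∀ m ∈ w.reverse, m < D.rank := fun m hm => hw m (List.mem_reverse.1 hm)
  have first : ∀ a, D.IsPosRoot a → D.IsNegRoot (wAct D w.reverse a) := by
    intro a ha
    rw [isNegRoot_iff_co D hD]
    refine ⟨wAct_lt D hD _ hu a ha.1, fun k hk => ?_⟩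
    rw [co_wAct_eq_sum D hD _ hu a ha.1 k hk]
    apply Finset.sum_nonpos
    intro m hm
    have hm' := Finset.mem_range.1 hm
    apply mul_nonpos_of_nonneg_of_nonpos
    · exact ((isPosRoot_iff_co D hD a).1 ha).2 m hm'
    · have hneg := neg_of_not_pos D hD _ (wAct_lt D hD _ hu _ (simple_lt D hD m hm')) (h m hm')
      exact ((isNegRoot_iff_co D hD _).1 hneg).2 k hk
  refine ⟨first, fun a ha => ?_⟩
  apply neg_of_not_pos D hD _ (wAct_lt D hD _ hw a ha.1)
  intro hpos
  have := first _ hpos
  rw [wAct_reverse' D hD w hw a ha.1] at this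
  exact not_pos_and_neg D hD a ha this

/-- extreme case 2: all fundamental roots are kept positive -/
theorem all_fixed_of_simple (D : ChevalleyDatum) (hD : D ∈ Seven) (w : List ℕ)
    (hw : ∀ m ∈ w, m < D.rank) (hP : PW D w)
    (h : ∀ j < D.rank, D.IsPosRoot (wAct D w.reverse (D.simple j))) :
    ∀ a < D.nroots, wAct D w a = a ∧ wAct D w.reverse a = a := by
  have fix : ∀ a < D.nroots, wAct D w a = a := by
    intro a ha
    apply co_inj D hD _ _ (wAct_lt D hD _ hw a ha) ha
    intro k hk
    rw [co_wAct_eq_sum D hD _ hw a ha k hk]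
    have e1 : ∀ m ∈ Finset.range D.rank,
        co D a m * co D (wAct D w (D.simple m)) k = co D a m * basisVec m k := by
      intro m hm
      have hm' := Finset.mem_range.1 hm
      rw [hP _ (simple_pos D hD m hm') (h m hm'), co_simple D hD m hm' k hk]
    rw [Finset.sum_congr rfl e1]
    unfold basisVec
    simp only [mul_ite, mul_one, mul_zero]
    rw [Finset.sum_ite_eq (Finset.range D.rank) k]
    rw [if_pos (Finset.mem_range.2 hk)]
  intro a ha
  refine ⟨fix a ha, ?_⟩
  have := wAct_reverse' D hD w hw a ha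
  rwa [fix a ha] at this

end Cfsg.Agent.Lib.Helper2.ChD
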