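import Mathlib
import Cfsg.Prelude.Def_ChevStructure
import Cfsg.Agent.Lib.Helper5.ChevXGL

set_option autoImplicit false
set_option linter.style.haveILetI false

/-!
Connectivity of the Dynkin diagrams of the seven Chevalley data: a non-empty proper set of
fundamental roots contains a fundamental root adjacent to one outside.
-/

namespace Cfsg.Agent.Lib.Helper2.ChD

open Cfsg Cfsg.Lie Cfsg.Agent.Lib.Helper5.ChevSym Cfsg.Agent.Lib.Helper5.ChevStruct

/-- the list of adjacent pairs `(i, j)`: `s_j` moves `p_i` -/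
def adjL (D : ChevalleyDatum) : List (ℕ × ℕ) :=
  ((List.range D.rank).flatMap fun i => (List.range D.rank).map fun j => (i, j)).filter
    fun p => decide (D.reflectRoot p.2 (D.simple p.1) ≠ D.simple p.1)

/-- connectivity, checked on all sublists -/
def ConnOK (D : ChevalleyDatum) (adj : List (ℕ × ℕ)) : Prop :=
  ∀ S ∈ (List.range D.rank).sublists, S ≠ [] → S.length ≠ D.rank →
    ∃ p ∈ adj, p.1 ∈ S ∧ p.2 ∉ S

instance (D : ChevalleyDatum) (adj : List (ℕ × ℕ)) : Decidable (ConnOK D adj) := by
  unfold ConnOK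
  infer_instance

theorem connOK_G2 : ConnOK chevG2 (adjL chevG2) := by decide +kernel

theorem connOK_B2 : ConnOK chevB2 (adjL chevB2) := by decide +kernel

theorem connOK_D4 : ConnOK chevD4 (adjL chevD4) := by decide +kernel

theorem connOK_F4 : ConnOK chevF4 (adjL chevF4) := by decide +kernel

theorem connOK_E6 : ConnOK chevE6 (adjL chevE6) := by decide +kernel

theorem connOK_E7 : ConnOK chevE7 (adjL chevE7) := by decide +kernel

theorem connOK_E8 : ConnOK chevE8 (adjL chevE8) := by decide +kernel

theorem connOK_all (D : ChevalleyDatum) (hD : D ∈ Seven) : ConnOK D (adjL D) := by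
  simp only [List.mem_cons, List.not_mem_nil, or_false] at hD
  rcases hD with rfl | rfl | rfl | rfl | rfl | rfl | rfl
  · exact connOK_G2
  · exact connOK_B2
  · exact connOK_D4
  · exact connOK_F4
  · exact connOK_E6
  · exact connOK_E7
  · exact connOK_E8

theorem mem_adjL (D : ChevalleyDatum) (p : ℕ × ℕ) (hp : p ∈ adjL D) :
    p.1 < D.rank ∧ p.2 < D.rank ∧ D.reflectRoot p.2 (D.simple p.1) ≠ D.simple p.1 := by
  unfold adjL at hp
  rw [List.mem_filter] at hp
  obtain ⟨h1, h2⟩ := hp
  rw [List.mem_flatMap] at h1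
  obtain ⟨i, hi, h3⟩ := h1
  rw [List.mem_map] at h3
  obtain ⟨j, hj, rfl⟩ := h3
  exact ⟨List.mem_range.1 hi, List.mem_range.1 hj, of_decide_eq_true h2⟩

open Classical in
/-- **connectivity of the Dynkin diagram** -/
theorem exists_adjacent (D : ChevalleyDatum) (hD : D ∈ Seven) (S : Set ℕ)
    (h1 : ∃ i < D.rank, i ∈ S) (h2 : ∃ j < D.rank, j ∉ S) :
    ∃ i < D.rank, ∃ j < D.rank, i ∈ S ∧ j ∉ S ∧
      D.reflectRoot j (D.simple i) ≠ D.simple i := by
  obtain ⟨i0, hi0, hi0S⟩ := h1
  obtain ⟨j0, hj0, hj0S⟩ := h2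
  have key := connOK_all D hD ((List.range D.rank).filter fun i => decide (i ∈ S))
    (List.mem_sublists.2 List.filter_sublist)
    (by
      intro h
      have : i0 ∈ (List.range D.rank).filter fun i => decide (i ∈ S) := by
        rw [List.mem_filter]
        exact ⟨List.mem_range.2 hi0, decide_eq_true hi0S⟩
      rw [h] at this
      exact List.not_mem_nil this)
    (by
      intro h
      have hlt : ((List.range D.rank).filter fun i => decide (i ∈ S)).length
          < (List.range D.rank).length := by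
        rw [List.length_filter_lt_length_iff_exists]
        exact ⟨j0, List.mem_range.2 hj0, by simpa using hj0S⟩
      rw [List.length_range] at hlt
      omega)
  obtain ⟨p, hp, hp1, hp2⟩ := key
  obtain ⟨q1, q2, q3⟩ := mem_adjL D p hp
  rw [List.mem_filter] at hp1 hp2
  refine ⟨p.1, q1, p.2, q2, of_decide_eq_true hp1.2, ?_, q3⟩
  intro hS
  exact hp2 ⟨List.mem_range.2 q2, decide_eq_true hS⟩

end Cfsg.Agent.Lib.Helper2.ChD
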