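import Mathlib
import Cfsg.Agent.Lib.Helper6.ChDichDef
import Cfsg.Agent.Lib.Helper5.ChevGroupCard
import Cfsg.Agent.Lib.Helper5.ChevDiag
import Cfsg.Agent.Lib.Helper5.ChevBN
import Cfsg.Agent.Lib.Helper5.ChevTorusAct

set_option autoImplicit false
set_option linter.style.haveILetI false
set_option linter.unusedSectionVars false
set_option linter.unusedVariables false
set_option linter.style.longLine false

/-!
The two extreme cases of the defect group dichotomy for the Chevalley groups of the seven data: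
a standard subgroup `Q0 = U ⊓ nUn⁻¹` is trivial when `w` sends all positive roots to negative
roots, and equals `U` when `w⁻¹` keeps all positive roots positive.
-/

namespace Cfsg.Agent.Lib.Helper2.ChMain

open Cfsg Cfsg.Lie Cfsg.Agent.Lib.Helper5.ChevStruct Cfsg.Agent.Lib.Helper5.ChevSym
  Cfsg.Agent.Lib.Helper6.ChDich

variable {F : Type*} [Field F]

/-- conjugation by `n = h * wGL w` of a positive root element -/
theorem conj_n_gen (D : ChevalleyDatum) (hD : D ∈ Seven) (h : GL D.Idx F)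
    (hh : h ∈ D.diagonalSubgroup F) (w : List ℕ) (hw : ∀ i ∈ w, i < D.rank) (a : ℕ)
    (ha : a < D.nroots) (t : F) (x : GL D.Idx F)
    (hx : (x : Matrix D.Idx D.Idx F) = D.x F a t) :
    ∃ c : F, (((h * wGL D hD w) * x * (h * wGL D hD w)⁻¹ : GL D.Idx F) :
      Matrix D.Idx D.Idx F) = D.x F (wAct D w a) c := by
  obtain ⟨ε, -, hconj⟩ := wGL_conj (F := F) D hD w hw a ha
  obtain ⟨c, hc, hval⟩ := exists_torusMat_of_mem D hD h hh
  refine ⟨chi D c (wAct D w a) * (ε * t), ?_⟩
  have e : (h * wGL D hD w) * x * (h * wGL D hD w)⁻¹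
      = h * (wGL D hD w * x * (wGL D hD w)⁻¹) * h⁻¹ := by group
  rw [e]
  exact torus_conj_x D hD h _ c hc hval (wAct D w a) (ε * t) (hconj t x hx)

/-- if `w` sends all positive roots to negative roots then `nUn⁻¹ ≤ V` -/
theorem conjSub_le_neg (D : ChevalleyDatum) (hD : D ∈ Seven) (h : GL D.Idx F)
    (hh : h ∈ D.diagonalSubgroup F) (w : List ℕ) (hw : ∀ i ∈ w, i < D.rank)
    (hall : ∀ a, D.IsPosRoot a → D.IsNegRoot (wAct D w a)) :
    conjSub (h * wGL D hD w) (D.posUnipotent F) ≤ D.negUnipotent F := by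
  intro y hy
  rw [mem_conjSub] at hy
  have key : ∀ u ∈ D.posUnipotent F,
      (h * wGL D hD w) * u * (h * wGL D hD w)⁻¹ ∈ D.negUnipotent F := by
    intro u hu
    unfold ChevalleyDatum.posUnipotent at hu
    induction hu using Subgroup.closure_induction with
    | mem x hx =>
      obtain ⟨a, t, ha, hx⟩ := hx
      obtain ⟨c, hc⟩ := conj_n_gen D hD h hh w hw a ha.1 t x hx
      apply Subgroup.subset_closure
      exact ⟨wAct D w a, c, hall a ha, hc⟩
    | one =>
      simp only [mul_one, mul_inv_cancel]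
      exact one_mem _
    | mul a b _ _ ha hb =>
      have e : (h * wGL D hD w) * (a * b) * (h * wGL D hD w)⁻¹
          = ((h * wGL D hD w) * a * (h * wGL D hD w)⁻¹)
            * ((h * wGL D hD w) * b * (h * wGL D hD w)⁻¹) := by group
      rw [e]
      exact mul_mem ha hb
    | inv a _ ha =>
      have e : (h * wGL D hD w) * a⁻¹ * (h * wGL D hD w)⁻¹
          = ((h * wGL D hD w) * a * (h * wGL D hD w)⁻¹)⁻¹ := by group
      rw [e]
      exact inv_mem ha
  have := key _ hy
  have e : (h * wGL D hD w) * ((h * wGL D hD w)⁻¹ * y * (h * wGL D hD w)) * (h * wGL D hD w)⁻¹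
      = y := by group
  rwa [e] at this

/-- **E1** (extreme case 1): all positive roots are sent to negative roots by `w` ⟹ `Q0 = ⊥` -/
theorem std_bot (D : ChevalleyDatum) (hD : D ∈ Seven) (Q0 : Subgroup (GL D.Idx F))
    (h : GL D.Idx F) (w : List ℕ) (hs : Std D hD F Q0 h w)
    (hall : ∀ a, D.IsPosRoot a → D.IsNegRoot (wAct D w a)) : Q0 = ⊥ := by
  obtain ⟨hh, hw, hQ0, -⟩ := hs
  rw [eq_bot_iff, hQ0, ← borel_inf_neg (F := F) D hD]
  exact inf_le_inf (pos_le_borel D) (conjSub_le_neg D hD h hh w hw hall)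

/-- a root element `x_a(t)` with `a > 0` and `w⁻¹ a > 0` lies in `U ⊓ nUn⁻¹` -/
theorem xGL_mem_inf (D : ChevalleyDatum) (hD : D ∈ Seven) (h : GL D.Idx F)
    (hh : h ∈ D.diagonalSubgroup F) (w : List ℕ) (hw : ∀ i ∈ w, i < D.rank) (a : ℕ)
    (ha : D.IsPosRoot a) (hwa : D.IsPosRoot (wAct D w.reverse a)) (t : F) :
    xGL D hD a t ∈ D.posUnipotent F ⊓ conjSub (h * wGL D hD w) (D.posUnipotent F) := by
  rw [Subgroup.mem_inf]
  refine ⟨Subgroup.subset_closure ⟨a, t, ha, rfl⟩, ?_⟩
  rw [mem_conjSub]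
  obtain ⟨c, hc, hval⟩ := exists_torusMat_of_mem D hD h⁻¹ (inv_mem hh)
  obtain ⟨c', -, hconj⟩ := wGL_conj_inv (F := F) D hD w hw a ha.1
  have e : (h * wGL D hD w)⁻¹ * xGL D hD a t * (h * wGL D hD w)
      = (wGL D hD w)⁻¹ * (h⁻¹ * xGL D hD a t * h⁻¹⁻¹) * wGL D hD w := by group
  rw [e]
  have h1 := torus_conj_x D hD h⁻¹ (xGL D hD a t) c hc hval a t (xGL_val D hD a t)
  have h2 := hconj (chi D c a * t) _ h1
  apply Subgroup.subset_closure
  exact ⟨wAct D w.reverse a, c' * (chi D c a * t), hwa, h2⟩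

/-- **E2** (extreme case 2): `w⁻¹` keeps all positive roots positive ⟹ `Q0 = U` -/
theorem std_top (D : ChevalleyDatum) (hD : D ∈ Seven) (Q0 : Subgroup (GL D.Idx F))
    (h : GL D.Idx F) (w : List ℕ) (hs : Std D hD F Q0 h w)
    (hall : ∀ a, D.IsPosRoot a → D.IsPosRoot (wAct D w.reverse a)) :
    Q0 = D.posUnipotent F := by
  obtain ⟨hh, hw, hQ0, -⟩ := hs
  apply le_antisymm
  · rw [hQ0]
    exact inf_le_left
  · rw [hQ0]
    conv_lhs => unfold ChevalleyDatum.posUnipotent
    rw [Subgroup.closure_le]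
    rintro g ⟨a, t, ha, hg⟩
    have e : g = xGL D hD a t := Units.ext (by rw [hg, xGL_val])
    rw [e]
    exact xGL_mem_inf D hD h hh w hw a ha (hall a ha) t

end Cfsg.Agent.Lib.Helper2.ChMain
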