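import Mathlib
import Cfsg.Agent.Lib.Helper6.ChDichB
import Cfsg.Agent.Lib.Helper2.ChE12
import Cfsg.Agent.Lib.Helper2.ChD1
import Cfsg.Agent.Lib.Helper2.ChD2
import Cfsg.Agent.Lib.Helper7.ChB1

set_option autoImplicit false
set_option linter.style.haveILetI false
set_option linter.unusedSectionVars false
set_option linter.unusedVariables false
set_option linter.style.longLine false

/-!
The defect group dichotomy for the Chevalley groups of the seven data, group-theoretic form:
a subgroup `Q` of `U` all of whose conjugates inside `U` are of the form `U ⊓ xUx⁻¹` with `x`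
centralising the conjugate, is trivial or equal to `U`.
-/

namespace Cfsg.Agent.Lib.Helper2.ChMain

open Cfsg Cfsg.Lie Cfsg.Agent.Lib.Helper5.ChevStruct Cfsg.Agent.Lib.Helper5.ChevSym
  Cfsg.Agent.Lib.Helper6.ChDich Cfsg.Agent.Lib.Helper8.ChevE Cfsg.Agent.Lib.Helper2.ChD
  Cfsg.Agent.Lib.Helper8.ChevPsi Cfsg.Agent.Lib.Helper7.ChB

variable {F : Type*} [Field F]

theorem conjSub_one' {G : Type*} [Group G] (Q : Subgroup G) : conjSub (1 : G) Q = Q := by
  ext y
  rw [mem_conjSub]
  simp

theorem conjSub_conjSub {G : Type*} [Group G] (a b : G) (Q : Subgroup G) :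
    conjSub a (conjSub b Q) = conjSub (a * b) Q := by
  ext y
  rw [mem_conjSub, mem_conjSub, mem_conjSub]
  have e : b⁻¹ * (a⁻¹ * y * a) * b = (a * b)⁻¹ * y * (a * b) := by group
  rw [e]

theorem conjSub_bot' {G : Type*} [Group G] (a : G) : conjSub a (⊥ : Subgroup G) = ⊥ := by
  ext y
  rw [mem_conjSub, Subgroup.mem_bot, Subgroup.mem_bot]
  constructor
  · intro h
    have : y = a * (a⁻¹ * y * a) * a⁻¹ := by group
    rw [this, h]
    group
  · rintro rfl
    group

theorem conjSub_self_of_mem {G : Type*} [Group G] (U : Subgroup G) (a : G) (ha : a ∈ U) :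
    conjSub a U = U := by
  ext y
  rw [mem_conjSub]
  constructor
  · intro h
    have : y = a * (a⁻¹ * y * a) * a⁻¹ := by group
    rw [this]
    exact U.mul_mem (U.mul_mem ha h) (U.inv_mem ha)
  · intro h
    exact U.mul_mem (U.mul_mem (U.inv_mem ha) h) ha

/-- **MAIN**, in the shape of `hmain` of `dich_of_main`. -/
theorem main_dich (p : ℕ) [Fact p.Prime] [CharP F p] (D : ChevalleyDatum) (hD : D ∈ Seven) :
    ∀ Q : Subgroup (GL D.Idx F), Q ≤ D.posUnipotent F →
      (∀ g : GL D.Idx F, g ∈ D.group F → conjSub g Q ≤ D.posUnipotent F →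
        ∃ x : GL D.Idx F, x ∈ D.group F ∧
          x ∈ Subgroup.centralizer ((conjSub g Q : Subgroup (GL D.Idx F)) : Set (GL D.Idx F)) ∧
          D.posUnipotent F ⊓ conjSub x (D.posUnipotent F) = conjSub g Q) →
      Q = ⊥ ∨ Q = D.posUnipotent F := by
  intro Q hQU hgood
  have hGoodQ : Good D F Q := by
    have := hgood 1 (one_mem _) (by rw [conjSub_one']; exact hQU)
    rw [conjSub_one'] at this
    exact this
  obtain ⟨u, hu, h, w, hs⟩ := good_std D hD Q hGoodQ
  have hw : ∀ m ∈ w, m < D.rank := hs.2.1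
  have hPW : PW D w := std_PW p D hD _ h w hs
  have hQrec : Q = conjSub u (conjSub u⁻¹ Q) := by
    rw [conjSub_conjSub, mul_inv_cancel, conjSub_one']
  by_cases hall : ∀ i < D.rank, D.IsPosRoot (wAct D w.reverse (D.simple i))
  · -- all fundamental roots are kept positive
    right
    have hfix := all_fixed_of_simple D hD w hw hPW hall
    have hQ0 : conjSub u⁻¹ Q = D.posUnipotent F :=
      std_top D hD _ h w hs (fun a ha => by rw [(hfix a ha.1).2]; exact ha)
    rw [hQrec, hQ0]
    exact conjSub_self_of_mem _ u hu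
  · by_cases hnone : ∀ i < D.rank, ¬ D.IsPosRoot (wAct D w.reverse (D.simple i))
    · -- no fundamental root is kept positive
      left
      have hneg := (all_neg_of_simple D hD w hw hnone).2
      have hQ0 : conjSub u⁻¹ Q = ⊥ := std_bot D hD _ h w hs hneg
      rw [hQrec, hQ0]
      exact conjSub_bot' u
    · -- the mixed case
      exfalso
      push Not at hall hnone
      obtain ⟨j0, hj0, hj0S⟩ := hall
      obtain ⟨i0, hi0, hi0S⟩ := hnone
      obtain ⟨i, hi, j, hj, hiS, hjS, hadj⟩ := exists_adjacent D hD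
        {i | D.IsPosRoot (wAct D w.reverse (D.simple i))} ⟨i0, hi0, hi0S⟩ ⟨j0, hj0, hj0S⟩
      have hiS' : D.IsPosRoot (wAct D w.reverse (D.simple i)) := hiS
      have hjS' : ¬ D.IsPosRoot (wAct D w.reverse (D.simple j)) := hjS
      have hij : i ≠ j := by
        rintro rfl
        exact hjS' hiS'
      have hQ0U : conjSub u⁻¹ Q ≤ D.posUnipotent F := by
        rw [hs.2.2.1]
        exact inf_le_left
      have hzero : ∀ y ∈ conjSub u⁻¹ Q, coefEntry D hD j hj y = 0 := by
        intro y hy
        have h0 := std_Eent_simple_zero D hD _ h w hs j hj hjS' y hy j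
        unfold Eent at h0
        rw [dif_pos ⟨hj, neg_simple_lt D hD j hj⟩] at h0
        exact h0
      obtain ⟨-, -, hB3⟩ := lemma_B D hD j hj _ hQ0U hzero
      have hQ1U : conjSub (nGL D hD j) (conjSub u⁻¹ Q) ≤ D.posUnipotent F := by
        intro y hy
        rw [mem_conjSub] at hy
        have h1 := hB3 _ hy
        have e : nGL D hD j * ((nGL D hD j)⁻¹ * y * nGL D hD j) * (nGL D hD j)⁻¹ = y := by group
        rw [e] at h1
        exact upSub_le_pos D _ h1
      have e1 : conjSub (nGL D hD j) (conjSub u⁻¹ Q) = conjSub (nGL D hD j * u⁻¹) Q :=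
        conjSub_conjSub _ _ _
      have hg : nGL D hD j * u⁻¹ ∈ D.group F :=
        mul_mem (monomial_le_group D hD (nGL_mem D hD j hj)) (inv_mem (pos_le_group D hD hu))
      obtain ⟨x1, hx1G, hx1c, hx1e⟩ := hgood _ hg (by rw [← e1]; exact hQ1U)
      have hGood1 : Good D F (conjSub (nGL D hD j) (conjSub u⁻¹ Q)) := by
        rw [e1]
        exact ⟨x1, hx1G, hx1c, hx1e⟩
      obtain ⟨u1, hu1, h1, w1, hs1⟩ := good_std D hD _ hGood1
      have hPW1 : PW D w1 := std_PW p D hD _ h1 w1 hs1
      have c1 := std_C1 p D hD _ hQ0U j hj u1 hu1 h1 w1 hs1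
      have c2 := std_C2 p D hD _ h w hs j hj hjS' u1 hu1 h1 w1 hs1 (D.simple i)
        (simple_pos D hD i hi) hiS'
      exact lemma_D D hD w1 hs1.2.1 i j hi hj hij hadj hPW1 c1 c2

end Cfsg.Agent.Lib.Helper2.ChMain
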