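import Mathlib
import Cfsg.Prelude.Def_ChevStructure
import Cfsg.Agent.Lib.Helper5.ChevLvl
import Cfsg.Agent.Lib.Helper5.ChevXGL
import Cfsg.Agent.Lib.Helper5.ChevNConj

set_option autoImplicit false
set_option linter.unusedVariables false
set_option linter.unusedSectionVars false
set_option linter.style.haveILetI false

/-!
# Linear gradings of the adjoint module and words of root elements

For a grading `gr` of the roots which is additive along root chains (`GrOK`), the matrix
`x_r(t) - 1` raises the grade by a positive multiple of `gr r`.  For a word of root elements all of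
whose letters have grade at least `m ≥ 1` (letters with coefficient `0` are allowed), the entry
(Cartan row `i`, column `e_{-ρ}`), `gr ρ = m`, of the matrix of the word is
`coroot(ρ)_i` times the sum of the coefficients of the letters equal to `ρ` (`word_entry`).
-/

namespace Cfsg.Agent.Lib.Helper2.ChevGrade

open Cfsg Cfsg.Lie Cfsg.Agent.Lib.Helper5.ChevSym Cfsg.Agent.Lib.Helper5.ChevStruct
  Cfsg.Agent.Lib.Helper5.ChevPosUni

variable {F : Type*} [Field F]

/-- a grading of the roots, additive along root chains -/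
structure GrOK (D : ChevalleyDatum) (gr : ℕ → ℤ) : Prop where
  neg : ∀ r < D.nroots, gr (D.neg r) = - gr r
  chain : ∀ r s u : ℕ, r < D.nroots → D.chainCoeff r s u ≠ [] →
    ∃ i : ℕ, 1 ≤ i ∧ gr u = (i : ℤ) * gr r + gr s

/-- the linear grading with coefficients `a` -/
noncomputable def grA (D : ChevalleyDatum) (rl : ℕ → ℤ) (a : ℕ → ℤ) (x : ℕ) : ℤ :=
  ∑ k ∈ Finset.range D.rank, a k * wt D rl x k

theorem grOK_grA (D : ChevalleyDatum) (rl : ℕ → ℤ) (h : LvlOK D rl) (a : ℕ → ℤ) :
    GrOK D (grA D rl a) := by
  constructor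
  · intro r hr
    unfold grA
    rw [← Finset.sum_neg_distrib]
    apply Finset.sum_congr rfl
    intro k _
    unfold wt
    rw [h.co_neg r hr k, h.rl_neg r hr]
    ring
  · intro r s u hr hc
    obtain ⟨i, hi, hw⟩ := chainCoeff_wt D rl h r s u hr hc
    refine ⟨i, hi, ?_⟩
    unfold grA
    rw [Finset.mul_sum, ← Finset.sum_add_distrib]
    apply Finset.sum_congr rfl
    intro k _
    rw [hw k]
    ring

/-- the grade of a basis vector -/
def idxGr (D : ChevalleyDatum) (gr : ℕ → ℤ) : D.Idx → ℤ
  | Sum.inl _ => 0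
  | Sum.inr u => gr u.val

/-- the off-diagonal structure of `x_r(t)` -/
theorem xMat_sub_one_gr (D : ChevalleyDatum) (gr : ℕ → ℤ) (h : GrOK D gr) (r : ℕ)
    (hr : r < D.nroots) (t : F) (row col : D.Idx)
    (hne : (D.xMat F ⟨r, hr⟩ t - 1) row col ≠ 0) :
    ∃ i : ℕ, 1 ≤ i ∧ idxGr D gr row = idxGr D gr col + (i : ℤ) * gr r := by
  rw [Matrix.sub_apply] at hne
  rcases col with i | s
  · rcases row with i' | u
    · exfalso
      apply hne
      simp only [ChevalleyDatum.xMat, Matrix.of_apply, Matrix.one_apply, Sum.inl.injEq]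
      exact sub_self _
    · have hur : u = ⟨r, hr⟩ := by
        by_contra hur
        apply hne
        simp [ChevalleyDatum.xMat, Matrix.of_apply, hur]
      subst hur
      refine ⟨1, le_rfl, ?_⟩
      simp only [idxGr]
      push_cast
      ring
  · by_cases hsr : s = ⟨r, hr⟩
    · exfalso
      apply hne
      subst hsr
      rcases row with i' | u
      · simp [ChevalleyDatum.xMat, Matrix.of_apply]
      · by_cases hu : u = ⟨r, hr⟩
        · subst hu
          simp [ChevalleyDatum.xMat, Matrix.of_apply]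
        · simp [ChevalleyDatum.xMat, Matrix.of_apply, hu, Matrix.one_apply]
    · by_cases hsn : s.val = D.negIdx.getD r 0
      · have hs : gr s.val = - gr r := by
          rw [hsn]
          exact h.neg r hr
        rcases row with i' | u
        · refine ⟨1, le_rfl, ?_⟩
          simp only [idxGr]
          rw [hs]
          push_cast
          ring
        · have hur : u = ⟨r, hr⟩ := by
            by_contra hur
            apply hne
            by_cases hus : u = s
            · subst hus
              simp [ChevalleyDatum.xMat, Matrix.of_apply, hsr, hsn]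
            · simp [ChevalleyDatum.xMat, Matrix.of_apply, hsr, hsn, hus, hur, Matrix.one_apply]
          subst hur
          refine ⟨2, by omega, ?_⟩
          simp only [idxGr]
          rw [hs]
          push_cast
          ring
      · rcases row with i' | u
        · exfalso
          apply hne
          simp only [ChevalleyDatum.xMat, Matrix.of_apply, hsr, hsn, if_false]
          simp
        · have hc : D.chainCoeff r s.val u.val ≠ [] := by
            intro hc
            apply hne
            simp only [ChevalleyDatum.xMat, Matrix.of_apply, hsr, hsn, if_false, hc, List.map_nil,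
              List.sum_nil, add_zero, Matrix.one_apply, Sum.inr.injEq]
            exact sub_self _
          obtain ⟨i, hi, hw⟩ := h.chain r s.val u.val hr hc
          refine ⟨i, hi, ?_⟩
          simp only [idxGr]
          rw [hw]
          ring

/-- `M - 1` raises the grade by at least `m` -/
def GrUp (D : ChevalleyDatum) (gr : ℕ → ℤ) (m : ℤ) (M : Matrix D.Idx D.Idx F) : Prop :=
  ∀ a b, (M - 1) a b ≠ 0 → idxGr D gr b + m ≤ idxGr D gr a

theorem grUp_one (D : ChevalleyDatum) (gr : ℕ → ℤ) (m : ℤ) :
    GrUp D gr m (1 : Matrix D.Idx D.Idx F) := by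
  intro a b hne
  rw [sub_self] at hne
  exact absurd rfl hne

theorem grUp_x (D : ChevalleyDatum) (gr : ℕ → ℤ) (h : GrOK D gr) (m : ℤ) (hm : 0 ≤ m) (r : ℕ)
    (t : F) (hrt : t = 0 ∨ m ≤ gr r) : GrUp D gr m (D.x F r t) := by
  rcases hrt with rfl | hrm
  · rw [x_at_zero]
    exact grUp_one D gr m
  · unfold ChevalleyDatum.x
    by_cases hr : r < D.nroots
    · rw [dif_pos hr]
      intro a b hne
      obtain ⟨i, hi, e⟩ := xMat_sub_one_gr D gr h r hr t a b hne
      rw [e]
      have h1 : (1 : ℤ) ≤ (i : ℤ) := by exact_mod_cast hi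
      have h2 : gr r ≤ (i : ℤ) * gr r := by nlinarith
      linarith
    · rw [dif_neg hr]
      exact grUp_one D gr m

theorem grUp_mul (D : ChevalleyDatum) (gr : ℕ → ℤ) (m : ℤ) (hm : 0 ≤ m)
    (M N : Matrix D.Idx D.Idx F) (hM : GrUp D gr m M) (hN : GrUp D gr m N) :
    GrUp D gr m (M * N) := by
  intro a b hne
  have e : M * N - 1 = (M - 1) * (N - 1) + (M - 1) + (N - 1) := by noncomm_ring
  rw [e, Matrix.add_apply, Matrix.add_apply] at hne
  by_cases h1 : ((M - 1) * (N - 1)) a b = 0
  · by_cases h2 : (M - 1) a b = 0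
    · have h3 : (N - 1) a b ≠ 0 := by
        intro h3
        apply hne
        rw [h1, h2, h3]
        simp
      exact hN a b h3
    · exact hM a b h2
  · rw [Matrix.mul_apply] at h1
    obtain ⟨c, -, hc⟩ := Finset.exists_ne_zero_of_sum_ne_zero h1
    have hc1 : (M - 1) a c ≠ 0 := left_ne_zero_of_mul hc
    have hc2 : (N - 1) c b ≠ 0 := right_ne_zero_of_mul hc
    have := hM a c hc1
    have := hN c b hc2
    linarith

theorem grUp_word (D : ChevalleyDatum) (gr : ℕ → ℤ) (h : GrOK D gr) (m : ℤ) (hm : 0 ≤ m)
    (w : List (ℕ × F)) (hw : ∀ p ∈ w, p.2 = 0 ∨ m ≤ gr p.1) : GrUp D gr m (D.wordMat F w) := by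
  induction w with
  | nil =>
    unfold ChevalleyDatum.wordMat
    rw [List.map_nil, List.prod_nil]
    exact grUp_one D gr m
  | cons p w ih =>
    have e : D.wordMat F (p :: w) = D.x F p.1 p.2 * D.wordMat F w := by
      unfold ChevalleyDatum.wordMat
      rw [List.map_cons, List.prod_cons]
    rw [e]
    exact grUp_mul D gr m hm _ _ (grUp_x D gr h m hm p.1 p.2 (hw p (List.mem_cons_self ..)))
      (ih fun q hq => hw q (List.mem_cons_of_mem _ hq))

theorem grUp_diag (D : ChevalleyDatum) (gr : ℕ → ℤ) (m : ℤ) (hm : 1 ≤ m)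
    (M : Matrix D.Idx D.Idx F) (hM : GrUp D gr m M) (a : D.Idx) : M a a = 1 := by
  by_contra hne
  have : (M - 1) a a ≠ 0 := by
    rw [Matrix.sub_apply, Matrix.one_apply_eq]
    intro h0
    exact hne (sub_eq_zero.1 h0)
  have := hM a a this
  omega

/-- the detector entry of a single letter -/
theorem x_entry (D : ChevalleyDatum) (hD : D ∈ Seven) (r : ℕ) (t : F) (ρ : ℕ) (hρ : ρ < D.nroots)
    (nρ : Fin D.nroots) (hn : nρ.val = D.neg ρ) (i : Fin D.rank) :
    D.x F r t (Sum.inl i) (Sum.inr nρ)
      = if r = ρ then (((D.coroot.getD ρ #[]).getD i.val 0 : ℤ) : F) * t else 0 := by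
  obtain ⟨hn1, hn2, hn3⟩ := neg_lt D hD ρ hρ
  unfold ChevalleyDatum.x
  by_cases hr : r < D.nroots
  · rw [dif_pos hr]
    have hnegdef : ∀ x, D.negIdx.getD x 0 = D.neg x := fun x => rfl
    by_cases hrρ : r = ρ
    · subst hrρ
      rw [if_pos rfl]
      have h1 : nρ ≠ ⟨r, hr⟩ := by
        intro h1
        have := congrArg Fin.val h1
        rw [hn] at this
        exact hn2 this
      have h2 : nρ.val = D.negIdx.getD r 0 := hn
      simp only [ChevalleyDatum.xMat, Matrix.of_apply, h1, if_false, h2, if_true]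
    · rw [if_neg hrρ]
      by_cases h1 : nρ = ⟨r, hr⟩
      · simp only [ChevalleyDatum.xMat, Matrix.of_apply, h1, if_true]
      · have h2 : nρ.val ≠ D.negIdx.getD r 0 := by
          intro h2
          rw [hn, hnegdef] at h2
          apply hrρ
          have := congrArg D.neg h2
          rw [hn3, (neg_lt D hD r hr).2.2] at this
          exact this.symm
        simp only [ChevalleyDatum.xMat, Matrix.of_apply, h1, if_false, h2]
  · rw [dif_neg hr]
    have hrρ : r ≠ ρ := fun h => hr (h ▸ hρ)
    rw [if_neg hrρ, Matrix.one_apply_ne]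
    exact Sum.inl_ne_inr

/-- **the detector entries of a word of root elements of grade at least `m`** -/
theorem word_entry (D : ChevalleyDatum) (hD : D ∈ Seven) (gr : ℕ → ℤ) (h : GrOK D gr) (m : ℤ)
    (hm : 1 ≤ m) (w : List (ℕ × F)) (hw : ∀ p ∈ w, p.2 = 0 ∨ m ≤ gr p.1)
    (ρ : ℕ) (hρ : ρ < D.nroots) (hρm : gr ρ = m) (nρ : Fin D.nroots)
    (hn : nρ.val = D.neg ρ) (i : Fin D.rank) :
    D.wordMat F w (Sum.inl i) (Sum.inr nρ)
      = (((D.coroot.getD ρ #[]).getD i.val 0 : ℤ) : F)
        * ((w.filter fun p => p.1 = ρ).map Prod.snd).sum := by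
  induction w with
  | nil =>
    unfold ChevalleyDatum.wordMat
    rw [List.map_nil, List.prod_nil, Matrix.one_apply_ne Sum.inl_ne_inr]
    simp
  | cons p w ih =>
    have hw' : ∀ q ∈ w, q.2 = 0 ∨ m ≤ gr q.1 := fun q hq => hw q (List.mem_cons_of_mem _ hq)
    have e : D.wordMat F (p :: w) = D.x F p.1 p.2 * D.wordMat F w := by
      unfold ChevalleyDatum.wordMat
      rw [List.map_cons, List.prod_cons]
    have hX := grUp_x D gr h m (by omega) p.1 p.2 (hw p (List.mem_cons_self ..))
    have hM := grUp_word D gr h m (by omega) w hw'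
    have hgn : gr nρ.val = - m := by rw [hn, h.neg ρ hρ, hρm]
    -- `(X M) = M + (X - 1) M`
    have e2 : D.x F p.1 p.2 * D.wordMat F w
        = D.wordMat F w + (D.x F p.1 p.2 - 1) * D.wordMat F w := by noncomm_ring
    rw [e, e2, Matrix.add_apply, ih hw', Matrix.mul_apply]
    have hsum : ∑ c, (D.x F p.1 p.2 - 1) (Sum.inl i) c * D.wordMat F w c (Sum.inr nρ)
        = (D.x F p.1 p.2 - 1) (Sum.inl i) (Sum.inr nρ) := by
      rw [Finset.sum_eq_single (Sum.inr nρ)]
      · rw [grUp_diag D gr m hm _ hM, mul_one]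
      · intro c _ hc
        by_contra hne
        have hc1 : (D.x F p.1 p.2 - 1) (Sum.inl i) c ≠ 0 := left_ne_zero_of_mul hne
        have hc2 : D.wordMat F w c (Sum.inr nρ) ≠ 0 := right_ne_zero_of_mul hne
        have hc2' : (D.wordMat F w - 1) c (Sum.inr nρ) ≠ 0 := by
          rw [Matrix.sub_apply, Matrix.one_apply_ne hc, sub_zero]
          exact hc2
        have h1 := hX _ _ hc1
        have h2 := hM _ _ hc2'
        simp only [idxGr] at h1 h2
        rw [hgn] at h2
        omega
      · intro hnot
        exact absurd (Finset.mem_univ _) hnot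
    rw [hsum, Matrix.sub_apply, Matrix.one_apply_ne Sum.inl_ne_inr, sub_zero,
      x_entry D hD p.1 p.2 ρ hρ nρ hn i]
    by_cases hp : p.1 = ρ
    · rw [if_pos hp, List.filter_cons_of_pos (by simpa using hp), List.map_cons, List.sum_cons]
      ring
    · rw [if_neg hp, List.filter_cons_of_neg (by simpa using hp), add_zero]

end Cfsg.Agent.Lib.Helper2.ChevGrade
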