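import Mathlib
import Cfsg.Agent.Lib.Helper1.Blk13
set_option autoImplicit false
set_option maxHeartbeats 1000000
set_option linter.unusedVariables false
set_option linter.unusedSectionVars false
set_option linter.style.longLine false
set_option linter.unusedSimpArgs false
set_option linter.deprecated false
set_option linter.style.haveILetI false
open scoped commutatorElement Pointwise IsMulCommutative
universe u v

/-! Chief `p`-factors of groups of `p`-rank at most two (`p` odd) have order at most `p²`. -/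

namespace Cfsg.Agent.Lib.Helper2.ChiefRk

open Cfsg Cfsg.Agent.Lib.Helper1

variable {p : ℕ} [hp : Fact p.Prime]

/-- `p`-rank bounds pass to subgroups -/
theorem prankLE_sub {G : Type*} [Group G] {k : ℕ} (hr : PRankLE p k G) (S : Subgroup G) :
    PRankLE p k ↥S := by
  intro A hA hexp
  have h := hr (A.map S.subtype) ?_ ?_
  · rwa [Subgroup.card_map_of_injective S.subtype_injective] at h
  · refine ⟨⟨?_⟩⟩
    rintro ⟨_, a, ha, rfl⟩ ⟨_, b, hb, rfl⟩
    apply Subtype.ext
    have h1 := mul_comm' (⟨a, ha⟩ : ↥A) ⟨b, hb⟩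
    exact congrArg (fun t : ↥A => ((t : ↥S) : G)) h1
  · rintro _ ⟨a, ha, rfl⟩
    have h1 := hexp a ha
    show ((a : G)) ^ p = 1
    rw [← Subgroup.coe_pow, h1]; rfl

/-- a commutative group of exponent `p` generated by two elements has order at most `p²` -/
theorem card_le_of_two_gen {Q : Type*} [Group Q] [Finite Q] (hcomm : ∀ a b : Q, a * b = b * a)
    (hexp : ∀ a : Q, a ^ p = 1) (u v : Q) (S : Set Q) (hS : Subgroup.closure S = ⊤)
    (hSuv : S ⊆ Subgroup.closure {u, v}) : Nat.card Q ≤ p ^ 2 := by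
  haveI : IsMulCommutative Q := ⟨⟨hcomm⟩⟩
  have htop : Subgroup.closure ({u, v} : Set Q) = ⊤ := by
    apply top_le_iff.mp
    rw [← hS]
    exact (Subgroup.closure_le _).mpr hSuv
  have hpz : ∀ a : Q, a ^ (p : ℤ) = 1 := fun a => by rw [zpow_natCast]; exact hexp a
  have hpos : (0 : ℤ) < p := by exact_mod_cast hp.out.pos
  let f : Fin p × Fin p → Q := fun ij => u ^ (ij.1 : ℕ) * v ^ (ij.2 : ℕ)
  have hsurj : Function.Surjective f := by
    intro q
    have hq : q ∈ Subgroup.closure ({u, v} : Set Q) := by rw [htop]; exact Subgroup.mem_top q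
    obtain ⟨m, n, hmn⟩ := Subgroup.mem_closure_pair.mp hq
    have hm0 : 0 ≤ m % (p : ℤ) := Int.emod_nonneg _ hpos.ne'
    have hm1 : m % (p : ℤ) < p := Int.emod_lt_of_pos _ hpos
    have hn0 : 0 ≤ n % (p : ℤ) := Int.emod_nonneg _ hpos.ne'
    have hn1 : n % (p : ℤ) < p := Int.emod_lt_of_pos _ hpos
    have hm2 : (m % (p : ℤ)).toNat < p := by
      have := Int.toNat_of_nonneg hm0
      omega
    have hn2 : (n % (p : ℤ)).toNat < p := by
      have := Int.toNat_of_nonneg hn0
      omega
    refine ⟨(⟨(m % (p : ℤ)).toNat, hm2⟩, ⟨(n % (p : ℤ)).toNat, hn2⟩), ?_⟩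
    show u ^ ((m % (p : ℤ)).toNat) * v ^ ((n % (p : ℤ)).toNat) = q
    rw [← hmn, zpow_eq_zpow_emod m (hpz u), zpow_eq_zpow_emod n (hpz v)]
    rw [← zpow_natCast, ← zpow_natCast, Int.toNat_of_nonneg hm0, Int.toNat_of_nonneg hn0]
  have h := Nat.card_le_card_of_surjective f hsurj
  rw [Nat.card_prod, Nat.card_fin] at h
  rw [pow_two]; exact h

/-- if `G = Z(G) K` and all `p`-th powers lie in `K`, then `|G : K| ≤ p²` in a group of rank two -/
theorem index_le_of_center_sup {P : Type*} [Group P] [Finite P] (hr : PRankLE p 2 P)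
    (K : Subgroup P) [K.Normal] (hpow : ∀ g : P, g ^ p ∈ K)
    (hZK : Subgroup.center P ⊔ K = ⊤) : K.index ≤ p ^ 2 := by
  have h1 : K.index = (K.subgroupOf (Subgroup.center P)).index := by
    rw [← Subgroup.relIndex_top_right, ← hZK, Subgroup.relIndex_sup_right]
    rfl
  have hcomm : ∀ a b : ↥(Subgroup.center P), Commute a b := fun a b => by
    apply Subtype.ext
    have h := Subgroup.mem_center_iff.mp b.2 (a : P)
    simpa using h
  let φ : ↥(Subgroup.center P) →* ↥(Subgroup.center P) :=
    MonoidHom.mk' (fun a => a ^ p) (fun a b => (hcomm a b).mul_pow p)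
  have hφ : ∀ a, φ a = a ^ p := fun a => rfl
  have hrange : φ.range ≤ K.subgroupOf (Subgroup.center P) := by
    rintro _ ⟨a, rfl⟩
    rw [Subgroup.mem_subgroupOf, hφ, Subgroup.coe_pow]
    exact hpow _
  have h2 : (K.subgroupOf (Subgroup.center P)).index ∣ φ.range.index :=
    Subgroup.index_dvd_of_le hrange
  have h3 : φ.range.index = Nat.card φ.ker := by
    have e1 := Subgroup.card_mul_index φ.range
    have e2 := Subgroup.card_mul_index φ.ker
    rw [Subgroup.index_ker] at e2
    have hpos : 0 < Nat.card φ.range := Nat.card_pos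
    have h : Nat.card φ.range * φ.range.index = Nat.card φ.range * Nat.card φ.ker := by
      rw [e1, mul_comm, e2]
    exact Nat.eq_of_mul_eq_mul_left hpos h
  have h4 : Nat.card φ.ker ≤ p ^ 2 := by
    have hc := hr (φ.ker.map (Subgroup.center P).subtype) ?_ ?_
    · rwa [Subgroup.card_map_of_injective (Subgroup.center P).subtype_injective] at hc
    · refine ⟨⟨?_⟩⟩
      rintro ⟨_, a, ha, rfl⟩ ⟨_, b, hb, rfl⟩
      apply Subtype.ext
      show ((a : P)) * (b : P) = (b : P) * (a : P)
      exact congrArg Subtype.val (hcomm a b).eq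
    · rintro _ ⟨a, ha, rfl⟩
      have h : a ^ p = 1 := ha
      show ((a : P)) ^ p = 1
      rw [← Subgroup.coe_pow, h]; rfl
  have hpos : 0 < φ.range.index := Nat.pos_of_ne_zero Subgroup.index_ne_zero_of_finite
  calc K.index = (K.subgroupOf (Subgroup.center P)).index := h1
    _ ≤ φ.range.index := Nat.le_of_dvd hpos h2
    _ = Nat.card φ.ker := h3
    _ ≤ p ^ 2 := h4

/-- in a `p`-group of maximal class the derived subgroup has index at most `p²` -/
theorem index_commutator_le {P : Type u} [Group P] [Finite P] (m : ℕ) (hm : 2 ≤ m)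
    (hcard : Nat.card P = p ^ m)
    (hmax : (⊤ : Subgroup P).lowerCentralSeries (m - 2) ≠ ⊥) : (commutator P).index ≤ p ^ 2 := by
  have hP : IsPGroup p P := IsPGroup.of_card hcard
  have hbot : (⊤ : Subgroup P).lowerCentralSeries (m - 1) = ⊥ :=
    Blk.lcs_eq_bot_of_card_pow m hm P hcard
  have hanti : Antitone (⊤ : Subgroup P).lowerCentralSeries :=
    Subgroup.lowerCentralSeries_antitone ⊤
  have hstrict : ∀ j, (⊤ : Subgroup P).lowerCentralSeries j ≠ ⊥ →
      (⊤ : Subgroup P).lowerCentralSeries (j + 1) ≠ (⊤ : Subgroup P).lowerCentralSeries j := by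
    intro j hj heq
    have hall : ∀ t, (⊤ : Subgroup P).lowerCentralSeries (j + t) =
        (⊤ : Subgroup P).lowerCentralSeries j := by
      intro t
      induction t with
      | zero => rfl
      | succ t ih =>
        show (⊤ : Subgroup P).lowerCentralSeries (j + t + 1) = _
        rw [Subgroup.lowerCentralSeries_succ, ih, ← Subgroup.lowerCentralSeries_succ, heq]
    apply hj
    have h1 := hall (m - 1)
    have h2 : (⊤ : Subgroup P).lowerCentralSeries (j + (m - 1)) ≤
        (⊤ : Subgroup P).lowerCentralSeries (m - 1) := hanti (by omega)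
    rw [hbot] at h2
    rw [← h1]
    exact le_bot_iff.mp h2
  have hcardstep : ∀ j, (⊤ : Subgroup P).lowerCentralSeries j ≠ ⊥ →
      p * Nat.card ((⊤ : Subgroup P).lowerCentralSeries (j + 1)) ≤
        Nat.card ((⊤ : Subgroup P).lowerCentralSeries j) := by
    intro j hj
    have hle : (⊤ : Subgroup P).lowerCentralSeries (j + 1) ≤ (⊤ : Subgroup P).lowerCentralSeries j :=
      hanti (by omega)
    obtain ⟨a, ha⟩ := IsPGroup.iff_card.mp (hP.to_subgroup ((⊤ : Subgroup P).lowerCentralSeries (j + 1)))
    obtain ⟨b, hb⟩ := IsPGroup.iff_card.mp (hP.to_subgroup ((⊤ : Subgroup P).lowerCentralSeries j))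
    have hdvd := Subgroup.card_dvd_of_le hle
    rw [ha, hb] at hdvd
    have hab : a ≤ b := (Nat.pow_dvd_pow_iff_le_right hp.out.one_lt).mp hdvd
    have hne : a ≠ b := by
      intro hab'
      apply hstrict j hj
      apply Subgroup.eq_of_le_of_card_ge hle
      rw [ha, hb, hab']
    rw [ha, hb, ← pow_succ']
    exact Nat.pow_le_pow_right hp.out.pos (by omega)
  have hchain : ∀ k i, (⊤ : Subgroup P).lowerCentralSeries (i + k) ≠ ⊥ →
      p ^ k * Nat.card ((⊤ : Subgroup P).lowerCentralSeries (i + k)) ≤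
        Nat.card ((⊤ : Subgroup P).lowerCentralSeries i) := by
    intro k
    induction k with
    | zero => intro i _; simp
    | succ k ih =>
      intro i hne
      have hne' : (⊤ : Subgroup P).lowerCentralSeries (i + k) ≠ ⊥ := by
        intro h
        apply hne
        have h2 : (⊤ : Subgroup P).lowerCentralSeries (i + (k + 1)) ≤
            (⊤ : Subgroup P).lowerCentralSeries (i + k) := hanti (by omega)
        rw [h] at h2
        exact le_bot_iff.mp h2
      have h1 := ih i hne'
      have h2 := hcardstep (i + k) hne'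
      calc p ^ (k + 1) * Nat.card ((⊤ : Subgroup P).lowerCentralSeries (i + (k + 1)))
          = p ^ k * (p * Nat.card ((⊤ : Subgroup P).lowerCentralSeries (i + k + 1))) := by
            rw [pow_succ, mul_assoc]; rfl
        _ ≤ p ^ k * Nat.card ((⊤ : Subgroup P).lowerCentralSeries (i + k)) :=
            Nat.mul_le_mul_left _ h2
        _ ≤ _ := h1
  rcases Nat.lt_or_ge m 3 with hm3 | hm3
  · have hm2 : m = 2 := by omega
    subst hm2
    rw [← hcard]
    exact Nat.le_of_dvd Nat.card_pos (Subgroup.index_dvd_card _)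
  · have hidx : 1 + (m - 3) = m - 2 := by omega
    have h1 := hchain (m - 3) 1 (by rw [hidx]; exact hmax)
    rw [hidx] at h1
    have h2 : p ≤ Nat.card ((⊤ : Subgroup P).lowerCentralSeries (m - 2)) := by
      obtain ⟨c, hc⟩ := IsPGroup.iff_card.mp (hP.to_subgroup ((⊤ : Subgroup P).lowerCentralSeries (m - 2)))
      have hc1 : c ≠ 0 := by
        intro h0
        rw [h0, pow_zero] at hc
        exact hmax (Subgroup.card_eq_one.mp hc)
      rw [hc]
      calc p = p ^ 1 := (pow_one p).symm
        _ ≤ p ^ c := Nat.pow_le_pow_right hp.out.pos (by omega)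
    have h3 : p ^ (m - 2) ≤ Nat.card ((⊤ : Subgroup P).lowerCentralSeries 1) := by
      calc p ^ (m - 2) = p ^ (m - 3) * p := by rw [← pow_succ]; congr 1; omega
        _ ≤ p ^ (m - 3) * Nat.card ((⊤ : Subgroup P).lowerCentralSeries (m - 2)) :=
            Nat.mul_le_mul_left _ h2
        _ ≤ _ := h1
    rw [Subgroup.top_lowerCentralSeries_one] at h3
    have h4 := Subgroup.card_mul_index (commutator P)
    rw [hcard] at h4
    have h5 : p ^ m = p ^ (m - 2) * p ^ 2 := by rw [← pow_add]; congr 1; omega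
    have h6 : p ^ (m - 2) * (commutator P).index ≤ p ^ (m - 2) * p ^ 2 := by
      rw [← h5, ← h4]
      exact Nat.mul_le_mul_right _ h3
    exact Nat.le_of_mul_le_mul_left h6 (pow_pos hp.out.pos _)

end Cfsg.Agent.Lib.Helper2.ChiefRk
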