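import Mathlib
import Cfsg.Agent.Lib.Helper2.ChiefRk1
set_option autoImplicit false
set_option maxHeartbeats 1000000
set_option linter.unusedVariables false
set_option linter.unusedSectionVars false
set_option linter.style.longLine false
set_option linter.unusedSimpArgs false
set_option linter.deprecated false
set_option linter.style.haveILetI false
open scoped commutatorElement Pointwise
universe u v

namespace Cfsg.Agent.Lib.Helper2.ChiefRk

open Cfsg Cfsg.Agent.Lib.Helper1

variable {p : ℕ} [hp : Fact p.Prime]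

theorem powerClosure_char {P : Type*} [Group P] (n : ℕ) :
    (powerClosure p n (⊤ : Subgroup P)).Characteristic := by
  rw [Subgroup.characteristic_iff_map_le]
  intro φ
  unfold powerClosure
  rw [MonoidHom.map_closure, Subgroup.closure_le]
  rintro _ ⟨_, ⟨x, hx, rfl⟩, rfl⟩
  apply Subgroup.subset_closure
  exact ⟨φ x, Subgroup.mem_top _, by simp⟩

/-- the `p`-group case: a "characteristically irreducible" quotient of a `p`-group of rank two -/
theorem pgroup_case {P : Type u} [Group P] [Finite P] (hp2 : p ≠ 2) (m : ℕ)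
    (hcard : Nat.card P = p ^ m) (hr : PRankLE p 2 P) (K : Subgroup P) [K.Normal] (hK : K ≠ ⊤)
    (hchar : ∀ L : Subgroup P, L.Characteristic → L ≤ K ∨ L ⊔ K = ⊤) : K.index ≤ p ^ 2 := by
  have hP : IsPGroup p P := IsPGroup.of_card hcard
  obtain ⟨M, hKM, hMidx, hMn⟩ := Blk.exists_index_prime_ge hP K hK
  haveI := hMn
  have hMtop : M ≠ ⊤ := by
    intro h
    rw [h, Subgroup.index_top] at hMidx
    exact hp.out.one_lt.ne hMidx
  have hin : ∀ L : Subgroup P, L.Characteristic → L ≤ M → L ≤ K := by
    intro L hL hLM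
    rcases hchar L hL with h | h
    · exact h
    · exact absurd (top_le_iff.mp (h ▸ sup_le hLM hKM)) hMtop
  have hcardQ : Nat.card (P ⧸ M) = p := by rw [← Subgroup.index_eq_card]; exact hMidx
  have hcomm : commutator P ≤ K := by
    apply hin _ (by rw [commutator_def]; infer_instance)
    haveI : IsCyclic (P ⧸ M) := isCyclic_of_prime_card hcardQ
    exact Subgroup.Normal.quotient_commutative_iff_commutator_le.mp IsCyclic.isMulCommutative
  have hpowM : ∀ g : P, g ^ p ∈ M := by
    intro g
    rw [← QuotientGroup.eq_one_iff, QuotientGroup.mk_pow]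
    conv_lhs => rw [← hcardQ]
    exact pow_card_eq_one'
  have hpcle : powerClosure p 1 (⊤ : Subgroup P) ≤ K := by
    apply hin _ (powerClosure_char 1)
    unfold powerClosure
    rw [Subgroup.closure_le]
    rintro _ ⟨x, -, rfl⟩
    simpa using hpowM x
  have hpow : ∀ g : P, g ^ p ∈ K := by
    intro g
    apply hpcle
    exact Subgroup.subset_closure ⟨g, Subgroup.mem_top g, by simp⟩
  -- the quotient is elementary abelian
  have hQcomm : ∀ a b : P ⧸ K, a * b = b * a := by
    haveI : IsMulCommutative (P ⧸ K) :=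
      Subgroup.Normal.quotient_commutative_iff_commutator_le.mpr hcomm
    exact fun a b => mul_comm' a b
  have hQexp : ∀ a : P ⧸ K, a ^ p = 1 := by
    intro a
    obtain ⟨g, rfl⟩ := QuotientGroup.mk_surjective a
    rw [← QuotientGroup.mk_pow, QuotientGroup.eq_one_iff]
    exact hpow g
  have hidx : K.index = Nat.card (P ⧸ K) := Subgroup.index_eq_card K
  have hgenQ : ∀ x y z : P, Subgroup.closure ({x, y, z} : Set P) = ⊤ →
      Subgroup.closure ((QuotientGroup.mk' K) '' ({x, y, z} : Set P)) = ⊤ := by
    intro x y z hgen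
    rw [← MonoidHom.map_closure, hgen,
      Subgroup.map_top_of_surjective _ (QuotientGroup.mk'_surjective K)]
  have hone : ∀ (g : P), g ∈ K → (QuotientGroup.mk' K g) = 1 := by
    intro g hg
    exact (QuotientGroup.eq_one_iff g).mpr hg
  rcases Blk.blackburn hp2 m hcard hr with hmeta |
      ⟨hm3, x, y, z, hgen, hx, hy, hz, hxz, hyz, hrel⟩ |
      ⟨hm4, s, x, y, z, hs, hgen, hx, hy, hz, hyz, hrel1, hrel2⟩ | ⟨hp3, hm2, hmax⟩
  · -- metacyclic
    have h1 := Blk.index_powerClosure_le_of_metacyclic (p := p) hmeta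
    have h2 : K.index ∣ (powerClosure p 1 (⊤ : Subgroup P)).index := Subgroup.index_dvd_of_le hpcle
    exact le_trans (Nat.le_of_dvd (Nat.pos_of_ne_zero Subgroup.index_ne_zero_of_finite) h2) h1
  · -- family (b): z is central
    have hzc : z ∈ Subgroup.center P := by
      rw [Subgroup.mem_center_iff]
      have hle : Subgroup.closure ({x, y, z} : Set P) ≤ Subgroup.centralizer ({z} : Set P) := by
        rw [Subgroup.closure_le]
        rintro w (rfl | rfl | rfl)
        · rw [SetLike.mem_coe, Subgroup.mem_centralizer_iff]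
          rintro h rfl
          exact hxz.symm
        · rw [SetLike.mem_coe, Subgroup.mem_centralizer_iff]
          rintro h rfl
          exact hyz.symm
        · rw [SetLike.mem_coe, Subgroup.mem_centralizer_iff]
          rintro h rfl
          rfl
      intro g
      have hg : g ∈ Subgroup.centralizer ({z} : Set P) := hle (by rw [hgen]; exact Subgroup.mem_top g)
      exact ((Subgroup.mem_centralizer_iff.mp hg) z rfl).symm
    rcases hchar (Subgroup.center P) Subgroup.centerCharacteristic with h | h
    · have hzK : z ∈ K := h hzc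
      rw [hidx]
      apply card_le_of_two_gen hQcomm hQexp (QuotientGroup.mk' K x) (QuotientGroup.mk' K y) _
        (hgenQ x y z hgen)
      rintro _ ⟨w, (rfl | rfl | rfl), rfl⟩
      · exact Subgroup.subset_closure (by simp)
      · exact Subgroup.subset_closure (by simp)
      · rw [hone _ hzK]; exact Subgroup.one_mem _
    · exact index_le_of_center_sup hr K hpow h
  · -- family (c): y is a commutator
    have hyK : y ∈ K := by
      apply hcomm
      have hy' : y = ⁅x⁻¹, z⁆ := by
        rw [commutatorElement_def, inv_inv, hrel2]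
        group
      rw [hy', commutator_def]
      exact Subgroup.commutator_mem_commutator (Subgroup.mem_top _) (Subgroup.mem_top _)
    rw [hidx]
    apply card_le_of_two_gen hQcomm hQexp (QuotientGroup.mk' K x) (QuotientGroup.mk' K z) _
      (hgenQ x y z hgen)
    rintro _ ⟨w, (rfl | rfl | rfl), rfl⟩
    · exact Subgroup.subset_closure (by simp)
    · rw [hone _ hyK]; exact Subgroup.one_mem _
    · exact Subgroup.subset_closure (by simp)
  · -- maximal class
    have h1 := index_commutator_le (p := p) m hm2 hcard hmax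
    have h2 : K.index ∣ (commutator P).index := Subgroup.index_dvd_of_le hcomm
    exact le_trans (Nat.le_of_dvd (Nat.pos_of_ne_zero Subgroup.index_ne_zero_of_finite) h2) h1

/-- conjugation by an element normalizing `S` preserves the image of a characteristic subgroup of `S` -/
theorem conj_mem_of_char {G : Type*} [Group G] (S : Subgroup G) (L : Subgroup ↥S)
    (hL : L.Characteristic) (g : G) (hg : g ∈ Subgroup.normalizer (S : Set G)) (x : G)
    (hx : x ∈ L.map S.subtype) : g * x * g⁻¹ ∈ L.map S.subtype := by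
  have h1 : ∀ s : G, s ∈ S → g * s * g⁻¹ ∈ S := fun s hs =>
    (Subgroup.mem_normalizer_iff.mp hg s).mp hs
  have h2 : ∀ s : G, s ∈ S → g⁻¹ * s * g ∈ S := fun s hs =>
    (Subgroup.mem_normalizer_iff''.mp hg s).mp hs
  let φ : ↥S ≃* ↥S :=
    { toFun := fun s => ⟨g * s * g⁻¹, h1 s s.2⟩
      invFun := fun s => ⟨g⁻¹ * s * g, h2 s s.2⟩
      left_inv := fun s => by apply Subtype.ext; simp [mul_assoc]
      right_inv := fun s => by apply Subtype.ext; simp [mul_assoc]
      map_mul' := fun s t => by apply Subtype.ext; simp [mul_assoc] }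
  obtain ⟨l, hl, rfl⟩ := hx
  have h3 : φ l ∈ L := (Subgroup.characteristic_iff_map_le.mp hL φ) ⟨l, hl, rfl⟩
  exact ⟨φ l, h3, rfl⟩

theorem conj_mem_sup {G : Type*} [Group G] (A B : Subgroup G) (g : G)
    (hA : ∀ a ∈ A, g * a * g⁻¹ ∈ A) (hB : ∀ b ∈ B, g * b * g⁻¹ ∈ B) (x : G) (hx : x ∈ A ⊔ B) :
    g * x * g⁻¹ ∈ A ⊔ B := by
  have h : (A ⊔ B).map (MulAut.conj g).toMonoidHom ≤ A ⊔ B := by
    rw [Subgroup.map_sup]
    apply sup_le_sup
    · rintro _ ⟨a, ha, rfl⟩
      exact hA a ha
    · rintro _ ⟨b, hb, rfl⟩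
      exact hB b hb
  exact h ⟨x, hx, rfl⟩

/-- chief `p`-factors in a group of `p`-rank at most two, `p` odd, have order at most `p²` -/
theorem chief_relIndex_le {G : Type u} [Group G] [Finite G] (hp2 : p ≠ 2) (hr : PRankLE p 2 G)
    (H K : Subgroup G) [hHn : H.Normal] [hKn : K.Normal] (hKH : K < H) (n : ℕ)
    (hpow : K.relIndex H = p ^ n)
    (hchief : ∀ L : Subgroup G, L.Normal → K ≤ L → L ≤ H → L = K ∨ L = H) :
    K.relIndex H ≤ p ^ 2 := by
  classical
  obtain ⟨S₀⟩ : Nonempty (Sylow p ↥H) := inferInstance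
  set S : Subgroup G := (S₀ : Subgroup ↥H).map H.subtype with hS
  have hSH : S ≤ H := Subgroup.map_subtype_le _
  have hSp : IsPGroup p ↥S := S₀.isPGroup'.map H.subtype
  have hfrat : Subgroup.normalizer (S : Set G) ⊔ H = ⊤ := Sylow.normalizer_sup_eq_top S₀
  have hSsub : S.subgroupOf H = (S₀ : Subgroup ↥H) :=
    Subgroup.comap_map_eq_self_of_injective H.subtype_injective _
  have hSidx : ¬ p ∣ S.relIndex H := by
    have h := S₀.not_dvd_index
    rw [← hSsub] at h
    exact h
  have hSK : S ⊔ K = H := by
    apply le_antisymm (sup_le hSH hKH.le)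
    apply Subgroup.relIndex_eq_one.mp
    have h1 : (S ⊔ K).relIndex H ∣ K.relIndex H := Subgroup.relIndex_dvd_of_le_left H le_sup_right
    have h2 : (S ⊔ K).relIndex H ∣ S.relIndex H := Subgroup.relIndex_dvd_of_le_left H le_sup_left
    rw [hpow] at h1
    obtain ⟨j, hj, hd⟩ := (Nat.dvd_prime_pow hp.out).mp h1
    rcases Nat.eq_zero_or_pos j with hj0 | hj0
    · rw [hd, hj0, pow_zero]
    · exfalso
      apply hSidx
      apply dvd_trans _ h2
      rw [hd]
      exact dvd_pow_self p (by omega)
  obtain ⟨m, hm⟩ := IsPGroup.iff_card.mp hSp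
  have hrS : PRankLE p 2 ↥S := prankLE_sub hr S
  have hK' : K.subgroupOf S ≠ ⊤ := by
    intro h
    have hSleK : S ≤ K := Subgroup.subgroupOf_eq_top.mp h
    have : H ≤ K := by rw [← hSK]; exact sup_le hSleK le_rfl
    exact absurd (le_antisymm hKH.le this) hKH.ne
  have hN : Subgroup.normalizer (S : Set G) ⊔ K = ⊤ := by
    apply top_le_iff.mp
    rw [← hfrat, ← hSK]
    apply sup_le le_sup_left
    apply sup_le (le_trans Subgroup.le_normalizer le_sup_left) le_sup_right
  have hchar : ∀ L : Subgroup ↥S, L.Characteristic →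
      L ≤ K.subgroupOf S ∨ L ⊔ K.subgroupOf S = ⊤ := by
    intro L hL
    have hL'S : L.map S.subtype ≤ S := Subgroup.map_subtype_le _
    have hLsub : (L.map S.subtype).subgroupOf S = L :=
      Subgroup.comap_map_eq_self_of_injective S.subtype_injective _
    have hXn : (L.map S.subtype ⊔ K).Normal := by
      rw [← Subgroup.normalizer_eq_top_iff]
      apply top_le_iff.mp
      rw [← hN]
      apply sup_le _ (le_trans le_sup_right Subgroup.le_normalizer)
      intro g hg
      have hginv : g⁻¹ ∈ Subgroup.normalizer (S : Set G) := Subgroup.inv_mem _ hg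
      rw [Subgroup.mem_normalizer_iff]
      intro h
      constructor
      · intro hh
        exact conj_mem_sup _ _ g (fun a ha => conj_mem_of_char S L hL g hg a ha)
          (fun b hb => hKn.conj_mem b hb g) h hh
      · intro hh
        have h1 := conj_mem_sup _ _ g⁻¹ (fun a ha => conj_mem_of_char S L hL g⁻¹ hginv a ha)
          (fun b hb => hKn.conj_mem b hb g⁻¹) _ hh
        have h2 : g⁻¹ * (g * h * g⁻¹) * g⁻¹⁻¹ = h := by group
        rwa [h2] at h1
    rcases hchief _ hXn le_sup_right (sup_le (le_trans hL'S hSH) hKH.le) with hX | hX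
    · left
      intro l hl
      rw [Subgroup.mem_subgroupOf]
      have : (l : G) ∈ L.map S.subtype ⊔ K := Subgroup.mem_sup_left ⟨l, hl, rfl⟩
      rw [hX] at this
      exact this
    · right
      rw [← hLsub, ← Subgroup.inf_subgroupOf_right K S, ← Subgroup.subgroupOf_sup hL'S inf_le_right,
        Subgroup.subgroupOf_eq_top]
      intro t ht
      have htH : t ∈ L.map S.subtype ⊔ K := by rw [hX]; exact hSH ht
      obtain ⟨y, hy, z, hz, hyz⟩ := Subgroup.mem_sup_of_normal_right.mp htH
      have hzS : z ∈ S := by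
        have h3 : z = y⁻¹ * t := by rw [← hyz]; group
        rw [h3]
        exact S.mul_mem (S.inv_mem (hL'S hy)) ht
      rw [← hyz]
      exact Subgroup.mul_mem_sup hy ⟨hz, hzS⟩
  have hmain := pgroup_case (p := p) (P := ↥S) hp2 m hm hrS (K.subgroupOf S) hK' hchar
  have h1 : K.relIndex H = K.relIndex S := by
    rw [← hSK, Subgroup.relIndex_sup_right]
  rw [h1]
  exact hmain

end Cfsg.Agent.Lib.Helper2.ChiefRk
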