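import Mathlib
import Cfsg.Agent.Lib.Helper9.ExtraCl
import Cfsg.Agent.Lib.Helper2.Heisenberg

/-!
# Unit UE (support for S5388, helper9)

A quotient by a central subgroup of order `2` of a group with commutators and squares in `{1, d}` is
extraspecial.
-/

set_option autoImplicit false
set_option linter.style.haveILetI false

namespace Cfsg.Agent.Lib.Helper2.Co1UE

open Cfsg

/-- UE, verbatim as in helper9's stub. -/
theorem extraspecial_of_cover {A B : Type*} [Group A] [Group B] [Finite A] (f : A →* B)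
    (hf : Function.Surjective f) (n d : A)
    (hker : ∀ x : A, f x = 1 ↔ x = 1 ∨ x = n)
    (hd : f d ≠ 1) (hdc : ∀ x : A, x * d = d * x)
    (hcomm : ∀ x y : A, x * y = y * x ∨ x * y = d * (y * x))
    (hsq : ∀ x : A, x * x = 1 ∨ x * x = d)
    (hcen : ∀ x : A, (∀ y : A, x * y = y * x ∨ x * y = n * (y * x)) → f x = 1 ∨ f x = f d)
    (hna : ∃ x y : A, f (x * y) ≠ f (y * x))
    (k : ℕ) (hcard : Nat.card B = 2 ^ k) : IsExtraspecial 2 B := by
  haveI : Finite B := Finite.of_surjective f hf
  let e : ↥(Subgroup.closure (Set.univ : Set B)) ≃* B :=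
    (MulEquiv.subgroupCongr Subgroup.closure_univ).trans Subgroup.topEquiv
  have hc : Nat.card ↥(Subgroup.closure (Set.univ : Set B)) = 2 ^ k := by
    rw [← hcard]
    exact Nat.card_congr e.toEquiv
  have h := Cfsg.Agent.Lib.Helper9.ExtraCl.extraspecial_closure (G := B) (S := Set.univ)
    (z := f d) k hc (Subgroup.subset_closure (Set.mem_univ _)) hd ?_ ?_ ?_ ?_ ?_
  · exact Cfsg.Agent.Lib.Helper2.HeisLib.isExtraspecial_of_mulEquiv e h
  · -- hzc
    intro s _
    obtain ⟨x, rfl⟩ := hf s
    rw [← map_mul, ← map_mul, hdc x]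
  · -- hcomm
    intro s _ t _
    obtain ⟨x, rfl⟩ := hf s
    obtain ⟨y, rfl⟩ := hf t
    rcases hcomm x y with h1 | h1
    · left
      rw [← map_mul, ← map_mul, h1]
    · right
      rw [← map_mul, ← map_mul, ← map_mul, h1]
  · -- hsq
    intro s _
    obtain ⟨x, rfl⟩ := hf s
    rcases hsq x with h1 | h1
    · left
      rw [← map_mul, h1, map_one]
    · right
      rw [← map_mul, h1]
  · -- hcen
    intro x _ hx
    obtain ⟨a, rfl⟩ := hf x
    apply hcen a
    intro y
    have h1 : f y * f a = f a * f y := hx (f y) (Set.mem_univ _)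
    have h2 : f ((a * y) * (y * a)⁻¹) = 1 := by
      rw [map_mul, map_inv, map_mul, map_mul, h1, mul_inv_cancel]
    rcases (hker _).mp h2 with h3 | h3
    · left
      have := congrArg (· * (y * a)) h3
      simpa [mul_assoc] using this
    · right
      have := congrArg (· * (y * a)) h3
      simpa [mul_assoc] using this
  · -- hna
    obtain ⟨x, y, hxy⟩ := hna
    refine ⟨f x, Set.mem_univ _, f y, Set.mem_univ _, ?_⟩
    rw [← map_mul, ← map_mul]
    exact hxy

end Cfsg.Agent.Lib.Helper2.Co1UE
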