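import Mathlib

/-!
# Unit UG (support for S5388, helper9): three generic group lemmas
-/

set_option autoImplicit false
set_option linter.style.haveILetI false

namespace Cfsg.Agent.Lib.Helper2.Co1UG

/-- UG1 -/
theorem central_lift {G : Type*} [Group G] (e n : G)
    (hZ : ∀ c ∈ Subgroup.center G, c = 1 ∨ c = n)
    (hne : ∀ g : G, g * e * g⁻¹ ≠ n * e)
    (y : G ⧸ Subgroup.center G)
    (hy : y ∈ Subgroup.centralizer {(QuotientGroup.mk e : G ⧸ Subgroup.center G)}) :
    ∃ g ∈ Subgroup.centralizer ({e} : Set G), (QuotientGroup.mk g : G ⧸ Subgroup.center G) = y := by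
  obtain ⟨g0, rfl⟩ := QuotientGroup.mk_surjective y
  refine ⟨g0, ?_, rfl⟩
  have h1 := Subgroup.mem_centralizer_iff.mp hy _ (Set.mem_singleton _)
  -- h1 : mk e * mk g0 = mk g0 * mk e
  have h2 : ((g0 * e * g0⁻¹ * e⁻¹ : G) : G ⧸ Subgroup.center G) = 1 := by
    rw [QuotientGroup.mk_mul, QuotientGroup.mk_mul, QuotientGroup.mk_mul, QuotientGroup.mk_inv,
      QuotientGroup.mk_inv, ← h1]
    group
  have h3 : g0 * e * g0⁻¹ * e⁻¹ ∈ Subgroup.center G := (QuotientGroup.eq_one_iff _).mp h2
  rw [Subgroup.mem_centralizer_iff]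
  intro x hx
  rw [Set.mem_singleton_iff] at hx
  subst hx
  rcases hZ _ h3 with h | h
  · -- g0 * x * g0⁻¹ * x⁻¹ = 1
    have h4 : g0 * x * g0⁻¹ = x := by
      have := congrArg (· * x) h
      simpa [mul_assoc] using this
    calc x * g0 = g0 * x * g0⁻¹ * g0 := by rw [h4]
      _ = g0 * x := by group
  · exfalso
    apply hne g0
    have := congrArg (· * x) h
    simpa [mul_assoc] using this

/-- UG2 -/
theorem quot_map_equiv {A B : Type*} [Group A] [Group B] (f : A →* B)
    (hf : Function.Surjective f) (N : Subgroup A) [N.Normal] (hk : f.ker ≤ N)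
    [(N.map f).Normal] : Nonempty ((B ⧸ N.map f) ≃* (A ⧸ N)) := by
  let φ : A →* B ⧸ N.map f := (QuotientGroup.mk' (N.map f)).comp f
  have hφ : Function.Surjective φ :=
    (QuotientGroup.mk'_surjective (N.map f)).comp hf
  have hker : φ.ker = N := by
    ext a
    rw [MonoidHom.mem_ker]
    show (QuotientGroup.mk' (N.map f)) (f a) = 1 ↔ a ∈ N
    rw [QuotientGroup.mk'_apply, QuotientGroup.eq_one_iff]
    constructor
    · rintro ⟨b, hb, hab⟩
      have h1 : b⁻¹ * a ∈ f.ker := by
        rw [MonoidHom.mem_ker, map_mul, map_inv, hab, inv_mul_cancel]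
      have h2 : a = b * (b⁻¹ * a) := by group
      rw [h2]
      exact mul_mem hb (hk h1)
    · intro ha
      exact ⟨a, ha, rfl⟩
  have e1 : A ⧸ φ.ker ≃* B ⧸ N.map f := QuotientGroup.quotientKerEquivOfSurjective φ hφ
  have e2 : A ⧸ φ.ker ≃* A ⧸ N := QuotientGroup.quotientMulEquivOfEq hker
  exact ⟨e1.symm.trans e2⟩

/-- UG3 -/
theorem card_map_of_ker_le {A B : Type*} [Group A] [Group B] [Finite A] (f : A →* B)
    (N : Subgroup A) (hk : f.ker ≤ N) :
    Nat.card N = Nat.card f.ker * Nat.card (N.map f) := by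
  let g : N →* B := f.comp N.subtype
  have hrange : g.range = N.map f := by
    ext b
    constructor
    · rintro ⟨⟨a, ha⟩, rfl⟩
      exact ⟨a, ha, rfl⟩
    · rintro ⟨a, ha, rfl⟩
      exact ⟨⟨a, ha⟩, rfl⟩
  have hkerc : Nat.card g.ker = Nat.card f.ker := by
    apply Nat.card_congr
    refine
      { toFun := fun x => ⟨x.1.1, ?_⟩
        invFun := fun x => ⟨⟨x.1, hk x.2⟩, ?_⟩
        left_inv := fun x => rfl
        right_inv := fun x => rfl }
    · have := x.2
      rw [MonoidHom.mem_ker] at this ⊢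
      exact this
    · have := x.2
      rw [MonoidHom.mem_ker] at this ⊢
      exact this
  have h1 : Nat.card N = Nat.card (N ⧸ g.ker) * Nat.card g.ker :=
    Subgroup.card_eq_card_quotient_mul_card_subgroup g.ker
  have h2 : Nat.card (N ⧸ g.ker) = Nat.card g.range :=
    Nat.card_congr (QuotientGroup.quotientKerEquivRange g).toEquiv
  rw [h1, h2, hkerc, hrange, mul_comm]

end Cfsg.Agent.Lib.Helper2.Co1UG
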