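import Mathlib

set_option autoImplicit false

namespace Cfsg.Agent.Lib.Helper2

open MulAction

/-- Glauberman's lemma for a `p`-group `A` acting on a `p'`-group `N`, both acting compatibly on
`Ω` with `N` transitive: `A` fixes a point, and `C_N(A)` is transitive on the fixed points. -/
theorem glauberman_pgroup {A N Ω : Type*} [Group A] [Group N] [Finite N]
    [MulDistribMulAction A N] [MulAction A Ω] [MulAction N Ω] [Nonempty Ω]
    (hcompat : ∀ (a : A) (n : N) (ω : Ω), a • (n • ω) = (a • n) • (a • ω))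
    [IsPretransitive N Ω] {p : ℕ} [Fact p.Prime] (hA : IsPGroup p A)
    (hN : (Nat.card N).Coprime p) :
    (∃ ω : Ω, ∀ a : A, a • ω = ω) ∧
      ∀ ω₁ ω₂ : Ω, (∀ a : A, a • ω₁ = ω₁) → (∀ a : A, a • ω₂ = ω₂) →
        ∃ n : N, (∀ a : A, a • n = n) ∧ n • ω₁ = ω₂ := by
  have hp : p.Prime := Fact.out
  have hndvd : ∀ m : ℕ, m ∣ Nat.card N → ¬ p ∣ m := by
    intro m hm hpm
    have := Nat.Coprime.eq_one_of_dvd hN.symm (hpm.trans hm)
    exact hp.one_lt.ne' this
  constructor
  · -- |Ω| divides |N|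
    obtain ⟨ω₀⟩ := (inferInstance : Nonempty Ω)
    have hcard : Nat.card Ω ∣ Nat.card N := by
      have h1 : Nat.card (orbit N ω₀) = Nat.card Ω := by
        rw [orbit_eq_univ]
        exact Nat.card_congr (Equiv.Set.univ Ω)
      rw [← h1, Nat.card_congr (orbitEquivQuotientStabilizer N ω₀)]
      exact Subgroup.card_quotient_dvd_card _
    obtain ⟨ω, hω⟩ := hA.nonempty_fixed_point_of_prime_not_dvd_card Ω (hndvd _ hcard)
    exact ⟨ω, hω⟩
  · intro ω₁ ω₂ h1 h2
    -- A acts on T = {n | n • ω₁ = ω₂}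
    let T := {n : N // n • ω₁ = ω₂}
    letI : MulAction A T :=
      { smul := fun a t => ⟨a • t.1, by
          have := hcompat a t.1 ω₁
          rw [t.2, h1 a, h2 a] at this
          exact this.symm⟩
        one_smul := fun t => Subtype.ext (one_smul A t.1)
        mul_smul := fun a b t => Subtype.ext (mul_smul a b t.1) }
    have hsmul : ∀ (a : A) (t : T), ((a • t : T) : N) = a • (t : N) := fun _ _ => rfl
    obtain ⟨n₁, hn₁⟩ := exists_smul_eq N ω₁ ω₂
    -- T is in bijection with the stabilizer of ω₁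
    have e : T ≃ stabilizer N ω₁ :=
      { toFun := fun t => ⟨n₁⁻¹ * t.1, by
          rw [mem_stabilizer_iff, mul_smul, t.2, ← hn₁, inv_smul_smul]⟩
        invFun := fun s => ⟨n₁ * s.1, by
          rw [mul_smul, mem_stabilizer_iff.1 s.2, hn₁]⟩
        left_inv := fun t => Subtype.ext (by simp)
        right_inv := fun s => Subtype.ext (by simp) }
    have hcardT : Nat.card T ∣ Nat.card N := by
      rw [Nat.card_congr e]
      exact Subgroup.card_subgroup_dvd_card _
    obtain ⟨t, ht⟩ := hA.nonempty_fixed_point_of_prime_not_dvd_card T (hndvd _ hcardT)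
    refine ⟨t.1, ?_, t.2⟩
    intro a
    have := ht a
    rw [← hsmul, this]

end Cfsg.Agent.Lib.Helper2
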