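import Mathlib
import Cfsg.Agent.Lib.Helper2.Glauberman

set_option autoImplicit false

namespace Cfsg.Agent.Lib.Helper2

open MulAction
open scoped Pointwise

variable {G : Type*} [Group G]

/-- conjugation action of a subgroup `P` on a normal subgroup `N`. -/
@[reducible] def conjMDMA (P N : Subgroup G) [N.Normal] : MulDistribMulAction P N :=
  MulDistribMulAction.compHom N ((MulAut.conjNormal (H := N)).comp P.subtype)

theorem conjMDMA_smul_coe (P N : Subgroup G) [N.Normal] (x : P) (n : N) :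
    letI := conjMDMA P N
    ((x • n : N) : G) = (x : G) * n * (x : G)⁻¹ := rfl

/-- A Sylow `q`-subgroup `Q` of `N` is `P`-invariant. -/
def SylowInvariant {q : ℕ} (P N : Subgroup G) (Q : Sylow q N) : Prop :=
  P ≤ Subgroup.normalizer (((Q : Subgroup N).map N.subtype : Subgroup G) : Set G)

theorem sylowInvariant_iff {q : ℕ} (P N : Subgroup G) [N.Normal] (Q : Sylow q N) :
    letI := conjMDMA P N
    SylowInvariant P N Q ↔ ∀ x : P, x • Q = Q := by
  let _ := conjMDMA P N
  constructor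
  · intro h x
    apply Sylow.ext
    rw [Sylow.pointwise_smul_def]
    ext n
    rw [Subgroup.mem_pointwise_smul_iff_inv_smul_mem]
    have hx := h x.2
    rw [Subgroup.mem_normalizer_iff''] at hx
    have h1 := hx (n : G)
    constructor
    · intro hn
      have : (n : G) ∈ (Q : Subgroup N).map N.subtype := by
        apply h1.2
        exact ⟨x⁻¹ • n, hn, by simp [conjMDMA_smul_coe]⟩
      obtain ⟨n', hn', hnn⟩ := this
      have : n' = n := Subtype.ext hnn
      rwa [← this]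
    · intro hn
      obtain ⟨n', hn', hnn⟩ := h1.1 ⟨n, hn, rfl⟩
      have hnn' : (n' : G) = (↑x)⁻¹ * ↑n * ↑x := hnn
      have : n' = x⁻¹ • n := Subtype.ext (by rw [hnn']; simp [conjMDMA_smul_coe])
      rwa [← this]
  · intro h x hx
    rw [Subgroup.mem_normalizer_iff]
    intro g
    have hQ := h ⟨x, hx⟩
    constructor
    · rintro ⟨n, hn, rfl⟩
      have h2 : (⟨x, hx⟩ : P) • n ∈ ((⟨x, hx⟩ : P) • Q : Sylow q N) :=
        Subgroup.smul_mem_pointwise_smul n _ _ hn
      rw [hQ] at h2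
      exact ⟨_, h2, rfl⟩
    · rintro ⟨n, hn, hng⟩
      have h2 : (⟨x, hx⟩ : P)⁻¹ • n ∈ (Q : Subgroup N) := by
        have : n ∈ (((⟨x, hx⟩ : P) • Q : Sylow q N) : Subgroup N) := by rw [hQ]; exact hn
        rw [Sylow.pointwise_smul_def,
          Subgroup.mem_pointwise_smul_iff_inv_smul_mem] at this
        exact this
      refine ⟨_, h2, ?_⟩
      have hng' : (n : G) = x * g * x⁻¹ := hng
      simp only [Subgroup.coe_subtype, conjMDMA_smul_coe, InvMemClass.coe_inv, inv_inv]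
      rw [hng']; group

theorem conj_compat {q : ℕ} (P N : Subgroup G) [N.Normal] (x : P) (n : N) (Q : Sylow q N) :
    letI := conjMDMA P N
    x • (n • Q) = (x • n) • (x • Q) := by
  letI := conjMDMA P N
  apply Sylow.ext
  ext m
  simp only [Sylow.pointwise_smul_def, Sylow.coe_subgroup_smul,
    Subgroup.mem_pointwise_smul_iff_inv_smul_mem]
  have : (MulAut.conj n)⁻¹ • x⁻¹ • m = x⁻¹ • (MulAut.conj (x • n))⁻¹ • m := by
    apply Subtype.ext
    simp only [MulAut.smul_def, conjMDMA_smul_coe, MulAut.conj_inv_apply, Subgroup.coe_mul,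
      Subgroup.coe_inv, InvMemClass.coe_inv]
    group
  rw [this]

/-- Existence of a `P`-invariant Sylow `q`-subgroup of `N`, for `P` a `p`-group and `N` a normal
`p'`-subgroup; and conjugacy of invariant ones under `C_N(P)`. -/
theorem exists_sylowInvariant [Finite G] {p q : ℕ} [Fact p.Prime] [Fact q.Prime]
    (P N : Subgroup G) [N.Normal] (hP : IsPGroup p P) (hN : (Nat.card N).Coprime p) :
    (∃ Q : Sylow q N, SylowInvariant P N Q) ∧
      ∀ Q₁ Q₂ : Sylow q N, SylowInvariant P N Q₁ → SylowInvariant P N Q₂ →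
        ∃ n : N, (n : G) ∈ Subgroup.centralizer (P : Set G) ∧ n • Q₁ = Q₂ := by
  letI := conjMDMA P N
  obtain ⟨h1, h2⟩ := glauberman_pgroup (A := P) (N := N) (Ω := Sylow q N)
    (fun a n ω => conj_compat P N a n ω) hP hN
  constructor
  · obtain ⟨Q, hQ⟩ := h1
    exact ⟨Q, (sylowInvariant_iff P N Q).2 hQ⟩
  · intro Q₁ Q₂ hQ₁ hQ₂
    obtain ⟨n, hn, hnQ⟩ := h2 Q₁ Q₂ ((sylowInvariant_iff P N Q₁).1 hQ₁)
      ((sylowInvariant_iff P N Q₂).1 hQ₂)
    refine ⟨n, ?_, hnQ⟩
    rw [Subgroup.mem_centralizer_iff]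
    intro x hx
    have := congrArg Subtype.val (hn ⟨x, hx⟩)
    rw [conjMDMA_smul_coe] at this
    exact (mul_inv_eq_iff_eq_mul.1 this)

theorem map_smul_sylow {q : ℕ} (P N : Subgroup G) [N.Normal] (x : P) (Q : Sylow q N) :
    letI := conjMDMA P N
    ((x • Q : Sylow q N) : Subgroup N).map N.subtype =
      ((Q : Subgroup N).map N.subtype).map (MulAut.conj (x : G)).toMonoidHom := by
  letI := conjMDMA P N
  ext g
  simp only [Subgroup.mem_map, Sylow.pointwise_smul_def, Subgroup.mem_pointwise_smul_iff_inv_smul_mem]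
  constructor
  · rintro ⟨n, hn, rfl⟩
    refine ⟨_, ⟨_, hn, rfl⟩, ?_⟩
    simp [conjMDMA_smul_coe, mul_assoc]
  · rintro ⟨_, ⟨n, hn, rfl⟩, rfl⟩
    refine ⟨x • n, ?_, ?_⟩
    · rw [inv_smul_smul]; exact hn
    · simp [conjMDMA_smul_coe]

theorem sylow_map_injective {q : ℕ} (N : Subgroup G) {Q₁ Q₂ : Sylow q N}
    (h : (Q₁ : Subgroup N).map N.subtype = (Q₂ : Subgroup N).map N.subtype) : Q₁ = Q₂ :=
  Sylow.ext (Subgroup.map_injective N.subtype_injective h)

/-- If `C_N(P) = 1` then the `P`-invariant Sylow `q`-subgroup of `N` is unique. -/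
theorem existsUnique_sylowInvariant [Finite G] {p q : ℕ} [Fact p.Prime] [Fact q.Prime]
    (P N : Subgroup G) [N.Normal] (hP : IsPGroup p P) (hN : (Nat.card N).Coprime p)
    (hC : N ⊓ Subgroup.centralizer (P : Set G) = ⊥) :
    ∃! Q : Sylow q N, SylowInvariant P N Q := by
  obtain ⟨⟨Q, hQ⟩, h2⟩ := exists_sylowInvariant (q := q) P N hP hN
  refine ⟨Q, hQ, ?_⟩
  intro Q' hQ'
  obtain ⟨n, hn, hnQ⟩ := h2 Q' Q hQ' hQ
  have : (n : G) ∈ N ⊓ Subgroup.centralizer (P : Set G) := ⟨n.2, hn⟩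
  rw [hC, Subgroup.mem_bot] at this
  have hn1 : n = 1 := Subtype.ext this
  rw [hn1, one_smul] at hnQ
  exact hnQ

end Cfsg.Agent.Lib.Helper2
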