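import Mathlib
import Cfsg.Agent.Lib.Helper2.Cr5Defs
import Cfsg.Agent.Lib.Helper2.C5Hb1
import Cfsg.Agent.Lib.Helper5.PSL2A5

set_option autoImplicit false
set_option linter.unusedVariables false
set_option linter.unusedSectionVars false
set_option linter.style.longLine false
set_option linter.deprecated false
set_option linter.style.haveILetI false
set_option linter.dupNamespace false

/-!
# S3600 pieces R3 (an involution in every involutory coset) and R4 (a complement `≅ A₅`)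
-/

namespace Cfsg.Agent.Lib.Helper2.Cr5

open Cfsg.Agent.Lib.Helper8.C5 Cfsg.Agent.Lib.Helper2.C5

universe u
variable {G : Type u} [Group G] [Finite G]

/-- the map `m ↦ m * (y m y⁻¹)` is onto `C_N(y)` when `|C_N(y)|² = |N|`. -/
theorem exists_tau_eq (N : Subgroup G)
    (hNab : ∀ a ∈ N, ∀ b ∈ N, a * b = b * a) (hNe : ∀ a ∈ N, a ^ 2 = 1)
    (y : G) (hyM : y ∈ Subgroup.normalizer (N : Set G)) (hy2 : y ^ 2 ∈ N)
    (hcard : Nat.card ↥(hb1Fix N y) * Nat.card ↥(hb1Fix N y) = Nat.card ↥N)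
    (z : G) (hz : z ∈ hb1Fix N y) : ∃ m ∈ N, m * (y * m * y⁻¹) = z := by
  have hconj : ∀ q ∈ N, y * q * y⁻¹ ∈ N := fun q hq => (Subgroup.mem_normalizer_iff.mp hyM q).mp hq
  let φ : ↥N →* ↥N :=
    { toFun := fun q => ⟨(q : G) * (y * (q : G) * y⁻¹), N.mul_mem q.2 (hconj _ q.2)⟩
      map_one' := by
        apply Subtype.ext
        simp
      map_mul' := by
        intro q r
        apply Subtype.ext
        show ((q * r : ↥N) : G) * (y * ((q * r : ↥N) : G) * y⁻¹)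
          = ((q : G) * (y * (q : G) * y⁻¹)) * ((r : G) * (y * (r : G) * y⁻¹))
        rw [Subgroup.coe_mul]
        have e1 : y * ((q : G) * (r : G)) * y⁻¹ = (y * (q : G) * y⁻¹) * (y * (r : G) * y⁻¹) := by group
        rw [e1]
        have hc := hNab _ r.2 _ (hconj _ q.2)
        calc (q : G) * (r : G) * ((y * (q : G) * y⁻¹) * (y * (r : G) * y⁻¹))
            = (q : G) * ((r : G) * (y * (q : G) * y⁻¹)) * (y * (r : G) * y⁻¹) := by
              simp only [mul_assoc]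
          _ = (q : G) * ((y * (q : G) * y⁻¹) * (r : G)) * (y * (r : G) * y⁻¹) := by rw [hc]
          _ = _ := by simp only [mul_assoc] }
  have hφ : ∀ q : ↥N, ((φ q : ↥N) : G) = (q : G) * (y * (q : G) * y⁻¹) := fun q => rfl
  have hker : φ.ker ≤ (hb1Fix N y).subgroupOf N := by
    intro q hq
    rw [MonoidHom.mem_ker] at hq
    have h1 : (q : G) * (y * (q : G) * y⁻¹) = 1 := by
      rw [← hφ, hq]; rfl
    rw [Subgroup.mem_subgroupOf]
    refine mem_hb1Fix.mpr ⟨q.2, ?_⟩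
    have hq2 : (q : G) * (q : G) = 1 := by rw [← pow_two]; exact hNe _ q.2
    have h2 : y * (q : G) * y⁻¹ = (q : G) := by
      have : y * (q : G) * y⁻¹ = (q : G)⁻¹ := (inv_eq_of_mul_eq_one_right h1).symm
      rw [this]
      exact inv_eq_of_mul_eq_one_right hq2
    exact mul_inv_eq_iff_eq_mul.mp h2
  have hrange : φ.range ≤ (hb1Fix N y).subgroupOf N := by
    rintro _ ⟨q, rfl⟩
    rw [Subgroup.mem_subgroupOf]
    refine mem_hb1Fix.mpr ⟨(φ q).2, ?_⟩
    rw [hφ]
    have h1 : y * ((q : G) * (y * (q : G) * y⁻¹)) * y⁻¹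
        = (y * (q : G) * y⁻¹) * (y ^ 2 * (q : G) * (y ^ 2)⁻¹) := by
      simp only [pow_succ, pow_zero, one_mul, mul_inv_rev, mul_assoc, inv_mul_cancel_left]
    have h2 : y ^ 2 * (q : G) * (y ^ 2)⁻¹ = (q : G) := by
      rw [hNab _ hy2 _ q.2]; group
    rw [h2, hNab _ (hconj _ q.2) _ q.2] at h1
    exact mul_inv_eq_iff_eq_mul.mp h1
  have hcard' : Nat.card ↥((hb1Fix N y).subgroupOf N) = Nat.card ↥(hb1Fix N y) :=
    Nat.card_congr (Subgroup.subgroupOfEquivOfLe (hb1Fix_le N y)).toEquiv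
  have h1 := Subgroup.card_mul_index φ.ker
  rw [Subgroup.index_ker] at h1
  have h2 := Subgroup.card_le_of_le hker
  have h3 := Subgroup.card_le_of_le hrange
  rw [hcard'] at h2 h3
  have hpos : 0 < Nat.card ↥(hb1Fix N y) := Nat.card_pos
  have hrc : Nat.card ↥φ.range = Nat.card ↥(hb1Fix N y) := by
    by_contra hne
    have hlt : Nat.card ↥φ.range < Nat.card ↥(hb1Fix N y) := lt_of_le_of_ne h3 hne
    have : Nat.card ↥φ.ker * Nat.card ↥φ.range < Nat.card ↥(hb1Fix N y) * Nat.card ↥(hb1Fix N y) :=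
      lt_of_le_of_lt (Nat.mul_le_mul_right _ h2) (Nat.mul_lt_mul_of_pos_left hlt hpos)
    rw [h1, hcard] at this
    exact lt_irrefl _ this
  have hreq : φ.range = (hb1Fix N y).subgroupOf N :=
    Subgroup.eq_of_le_of_card_ge hrange (by rw [hcard', hrc])
  have hzN : z ∈ N := hb1Fix_le N y hz
  have hzmem : (⟨z, hzN⟩ : ↥N) ∈ φ.range := by
    rw [hreq, Subgroup.mem_subgroupOf]; exact hz
  obtain ⟨m, hm⟩ := hzmem
  refine ⟨(m : G), m.2, ?_⟩
  rw [← hφ, hm]

theorem abelian_of_sq {N : Subgroup G} (hNe : ∀ m ∈ N, m ^ 2 = 1) :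
    ∀ a ∈ N, ∀ b ∈ N, a * b = b * a := by
  intro a ha b hb
  have h1 := hNe a ha
  have h2 := hNe b hb
  have h3 := hNe (a * b) (N.mul_mem ha hb)
  have ea : a⁻¹ = a := by rw [inv_eq_iff_mul_eq_one, ← pow_two]; exact h1
  have eb : b⁻¹ = b := by rw [inv_eq_iff_mul_eq_one, ← pow_two]; exact h2
  have eab : (a * b)⁻¹ = a * b := by rw [inv_eq_iff_mul_eq_one, ← pow_two]; exact h3
  rw [mul_inv_rev, ea, eb] at eab
  exact eab.symm

/-- transport `e : G ⧸ N ≃* A₅` to the normalizer form used by the `C5` pieces. -/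
noncomputable def normalizerQuotEquiv (N : Subgroup G) [N.Normal] (e : G ⧸ N ≃* A5) :
    ↥(Subgroup.normalizer (N : Set G)) ⧸ N.subgroupOf (Subgroup.normalizer (N : Set G)) ≃* A5 :=
  have hM : Subgroup.normalizer (N : Set G) = ⊤ := Subgroup.normalizer_eq_top N
  let e0 : ↥(Subgroup.normalizer (N : Set G)) ≃* G :=
    MulEquiv.ofBijective (Subgroup.normalizer (N : Set G)).subtype
      ⟨Subtype.val_injective, fun g => ⟨⟨g, by rw [hM]; exact Subgroup.mem_top g⟩, rfl⟩⟩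
  (QuotientGroup.congr (N.subgroupOf (Subgroup.normalizer (N : Set G))) N e0 (by
    ext g
    constructor
    · rintro ⟨x, hx, rfl⟩
      exact Subgroup.mem_subgroupOf.mp hx
    · intro hg
      exact ⟨⟨g, by rw [hM]; exact Subgroup.mem_top g⟩, Subgroup.mem_subgroupOf.mpr hg, rfl⟩)).trans e

/-- **R3**: every coset `yN` with `y ∉ N`, `y² ∈ N` contains an involution. -/
theorem exists_sq_eq_one (h5 : C5 G) (N : Subgroup G) [N.Normal]
    (hNe : ∀ m ∈ N, m ^ 2 = 1) (e : G ⧸ N ≃* A5) (y : G) (hy : y ∉ N) (hy2 : y ^ 2 ∈ N) :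
    ∃ m ∈ N, (y * m) ^ 2 = 1 := by
  have hNab := abelian_of_sq hNe
  have hM : Subgroup.normalizer (N : Set G) = ⊤ := Subgroup.normalizer_eq_top N
  have hyM : y ∈ Subgroup.normalizer (N : Set G) := by rw [hM]; exact Subgroup.mem_top y
  have hsq := card_fix_sq h5 N (normalizerQuotEquiv N e) hNab hNe y hyM hy hy2
  rw [← card_hb1Fix, pow_two] at hsq
  have hz : (y ^ 2)⁻¹ ∈ hb1Fix N y := by
    refine (hb1Fix N y).inv_mem (mem_hb1Fix.mpr ⟨hy2, ?_⟩)
    simp only [pow_succ, pow_zero, one_mul, mul_assoc]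
  obtain ⟨m, hm, hmz⟩ := exists_tau_eq N hNab hNe y hyM hy2 hsq _ hz
  refine ⟨m, hm, ?_⟩
  have hconj : y * m * y⁻¹ ∈ N := (Subgroup.mem_normalizer_iff.mp hyM m).mp hm
  have h1 : (y * m) ^ 2 = (y * m * y⁻¹) * (y ^ 2 * m) := by
    simp only [pow_succ, pow_zero, one_mul, mul_assoc, inv_mul_cancel_left]
  rw [h1, hNab _ hy2 _ hm, ← mul_assoc, hNab _ hconj _ hm, hmz]
  group

theorem a5_gens : ∃ a b : A5, a ^ 3 = 1 ∧ b ^ 5 = 1 ∧ (a * b) ^ 2 = 1 ∧ a ≠ 1 ∧ a * b ≠ 1 := by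
  decide +kernel

/-- **R4**: a complement `≅ A₅` to `N`. -/
theorem exists_A5_hom (h5 : C5 G) (N : Subgroup G) [N.Normal]
    (hNe : ∀ m ∈ N, m ^ 2 = 1) (e : G ⧸ N ≃* A5) :
    ∃ ε : A5 →* G, Function.Injective ε ∧ (∀ g : G, ∃ n ∈ N, ∃ a : A5, g = n * ε a) ∧
      ∀ a : A5, ε a ∈ N → a = 1 := by
  obtain ⟨abar, bbar, ha3, hb5, hab2, ha1, hab1⟩ := a5_gens
  let π : G →* A5 := e.toMonoidHom.comp (QuotientGroup.mk' N)
  have hπsurj : Function.Surjective π := e.surjective.comp (QuotientGroup.mk'_surjective N)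
  have hπ1 : ∀ g : G, π g = 1 ↔ g ∈ N := by
    intro g
    show e (QuotientGroup.mk' N g) = 1 ↔ _
    rw [MulEquiv.map_eq_one_iff, QuotientGroup.mk'_apply, QuotientGroup.eq_one_iff]
  have hbbar1 : bbar ≠ 1 := by
    intro h
    rw [h, mul_one] at hab2
    apply ha1
    have : abar = abar ^ 3 * (abar ^ 2)⁻¹ := by group
    rw [this, ha3, hab2]; simp
  obtain ⟨a, ha⟩ := hπsurj abar
  obtain ⟨b0, hb0⟩ := hπsurj bbar
  -- orders of lifts
  have hlift : ∀ (p : ℕ) (hp : p.Prime) (h35 : p = 3 ∨ p = 5) (x : G), (π x) ^ p = 1 → π x ≠ 1 → x ^ p = 1 := by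
    intro p hp h35 x hx hx1
    haveI : Fact p.Prime := ⟨hp⟩
    have ho : orderOf (π x) = p := orderOf_eq_prime hx hx1
    have hd : p ∣ orderOf x := by
      rw [← ho]; exact orderOf_map_dvd π x
    have h1 := (h5 x).1
    have h2 := (h5 x).2
    have : orderOf x = p := by
      obtain ⟨k, hk⟩ := hd
      rcases h35 with rfl | rfl <;> omega
    rw [← this]; exact pow_orderOf_eq_one x
  have ha3' : a ^ 3 = 1 := hlift 3 Nat.prime_three (Or.inl rfl) a (by rw [ha]; exact ha3) (by rw [ha]; exact ha1)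
  -- y = a * b0
  have hy : a * b0 ∉ N := by
    intro h
    rw [← hπ1, map_mul, ha, hb0] at h
    exact hab1 h
  have hy2 : (a * b0) ^ 2 ∈ N := by
    rw [← hπ1, map_pow, map_mul, ha, hb0]; exact hab2
  obtain ⟨m, hm, hym⟩ := exists_sq_eq_one h5 N hNe e (a * b0) hy hy2
  have hπb : π (b0 * m) = bbar := by
    rw [map_mul, hb0, (hπ1 m).mpr hm, mul_one]
  have hb5' : (b0 * m) ^ 5 = 1 :=
    hlift 5 (by norm_num) (Or.inr rfl) (b0 * m) (by rw [hπb]; exact hb5) (by rw [hπb]; exact hbbar1)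
  have hab' : (a * (b0 * m)) ^ 2 = 1 := by rw [← mul_assoc]; exact hym
  have ha1' : a ≠ 1 := by
    intro h; apply ha1; rw [← ha, h, map_one]
  obtain ⟨H, ⟨iso⟩⟩ := Cfsg.Agent.Lib.Helper5.PSL2A5.exists_A5_of_relations a (b0 * m) ha3' hb5' hab' ha1'
  let ε : A5 →* G := H.subtype.comp iso.symm.toMonoidHom
  have hεinj : Function.Injective ε := Subtype.val_injective.comp iso.symm.injective
  -- κ = π ∘ ε is injective, hence bijective
  let κ : A5 →* A5 := π.comp ε
  haveI : IsSimpleGroup A5 := a5_simple (MulEquiv.refl A5)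
  have hκinj : Function.Injective κ := by
    rw [← MonoidHom.ker_eq_bot_iff]
    rcases (MonoidHom.normal_ker κ).eq_bot_or_eq_top with h | h
    · exact h
    · exfalso
      have h1 : ∀ x : A5, ε x ∈ N := by
        intro x
        have : x ∈ κ.ker := by rw [h]; exact Subgroup.mem_top x
        rw [MonoidHom.mem_ker] at this
        exact (hπ1 _).mp this
      have h2 : ε (pd ^ 2) = 1 := by
        rw [map_pow]; exact hNe _ (h1 pd)
      have h3 : pd ^ 2 = 1 := hεinj (h2.trans (map_one ε).symm)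
      apply pd_ne_one
      have : pd = pd ^ 3 * (pd ^ 2)⁻¹ := by group
      rw [this, pd_cube, h3]; simp
  have hκsurj : Function.Surjective κ := Finite.injective_iff_surjective.mp hκinj
  refine ⟨ε, hεinj, ?_, ?_⟩
  · intro g
    obtain ⟨x, hx⟩ := hκsurj (π g)
    refine ⟨g * (ε x)⁻¹, ?_, x, by group⟩
    rw [← hπ1, map_mul, map_inv]
    show π g * (κ x)⁻¹ = 1
    rw [hx, mul_inv_cancel]
  · intro x hx
    have : κ x = 1 := (hπ1 _).mpr hx
    exact hκinj (this.trans (map_one κ).symm)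

end Cfsg.Agent.Lib.Helper2.Cr5
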