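import Mathlib
import Cfsg.Prelude.Def_CaseTheorems
import Cfsg.Agent.Lib.Helper1.OddStable1
import Cfsg.Agent.Lib.Helper1.FrattiniP
import Cfsg.Agent.Lib.Helper1.PCore
import Cfsg.Agent.Lib.Helper1.PLengthOne
import Cfsg.Agent.Lib.Helper3.PSolvable
import Cfsg.Agent.S4218
import Cfsg.Agent.Lib.Helper2.FrattiniSub

set_option autoImplicit false

/-!
# Solvable groups of odd order whose Sylow `p`-subgroups have cyclic derived subgroup have
`p`-length one
-/

namespace Cfsg.Agent.Lib.Helper2.CycDerived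

open Cfsg Cfsg.Agent.Lib.Helper1 Cfsg.Agent.Lib.Helper1.OddStable Cfsg.Agent.Lib.Helper1.QuadSL2
open scoped commutatorElement

universe u

section Pow

variable {G : Type*} [Group G]

/-- A `p`-element normalizing a cyclic `p`-group `⟨w⟩` acts trivially modulo `p`-th powers. -/
theorem conj_mul_inv_eq_pow {p : ℕ} [hp : Fact p.Prime] (w z : G) (a b j : ℕ)
    (hw : orderOf w = p ^ a) (hz : z ^ (p ^ b) = 1) (hj : z * w * z⁻¹ = w ^ j) :
    ∃ m : ℕ, w ^ j = w ^ (1 + p * m) := by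
  rcases Nat.eq_zero_or_pos a with rfl | ha
  · rw [pow_zero, orderOf_eq_one_iff] at hw
    subst hw
    exact ⟨0, by simp⟩
  -- conjugation by powers of `z`
  have hpow : ∀ n : ℕ, z ^ n * w * (z ^ n)⁻¹ = w ^ (j ^ n) := by
    intro n
    induction n with
    | zero => simp
    | succ n ih =>
      have : z ^ (n + 1) * w * (z ^ (n + 1))⁻¹ = z * (z ^ n * w * (z ^ n)⁻¹) * z⁻¹ := by
        rw [pow_succ']; group
      rw [this, ih]
      have h2 : z * w ^ (j ^ n) * z⁻¹ = (z * w * z⁻¹) ^ (j ^ n) := by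
        rw [conj_pow]
      rw [h2, hj, ← pow_mul, pow_succ, mul_comm]
  have h1 := hpow (p ^ b)
  rw [hz, one_mul, inv_one, mul_one] at h1
  -- `w ^ (j ^ (p ^ b)) = w`
  have h2 : w ^ (j ^ (p ^ b)) = w ^ 1 := by rw [pow_one]; exact h1.symm
  rw [pow_eq_pow_iff_modEq, hw] at h2
  have h3 : j ^ (p ^ b) ≡ 1 [MOD p] := h2.of_dvd (dvd_pow_self p (by omega))
  have h4 : ((j : ZMod p)) ^ (p ^ b) = 1 := by
    have := (ZMod.natCast_eq_natCast_iff _ _ p).2 h3
    push_cast at this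
    exact this
  rw [ZMod.pow_card_pow] at h4
  have h5 : j ≡ 1 [MOD p] := by
    rw [← ZMod.natCast_eq_natCast_iff]
    push_cast
    exact h4
  have hj1 : 1 ≤ j := by
    rcases Nat.eq_zero_or_pos j with rfl | h
    · exfalso
      have := h5.symm
      rw [Nat.modEq_zero_iff_dvd] at this
      exact hp.out.one_lt.ne' (Nat.dvd_one.1 this)
    · exact h
  obtain ⟨m, hm⟩ := (Nat.modEq_iff_dvd' hj1).1 h5.symm
  exact ⟨m, by rw [show 1 + p * m = j by omega]⟩

end Pow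

section Core

variable {G : Type u} [Group G] [Finite G] {p : ℕ} [hp : Fact p.Prime]

/-- If `O_{p'}(G) = 1`, `G` is `p`-solvable of odd order and the `p`-subgroup `S ≥ O_p(G)` has cyclic
derived subgroup, then `S ≤ O_p(G)`. -/
theorem le_pCore_of_cyclic_derived (hp2 : p ≠ 2) (hsol : Cfsg.IsPSolvable p G)
    (hodd : Odd (Nat.card G)) (hcore : Cfsg.pPrimeCore p G = ⊥) (S : Subgroup G)
    (hSp : IsPGroup p S) (hPS : Cfsg.pCore p G ≤ S) (c : G)
    (hc : ⁅S, S⁆ ≤ Subgroup.zpowers c) : S ≤ Cfsg.pCore p G := by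
  classical
  obtain ⟨P, hPdef⟩ : ∃ P : Subgroup G, P = Cfsg.pCore p G := ⟨_, rfl⟩
  have hPn : P.Normal := hPdef ▸ Cfsg.Agent.Lib.Helper1.pCore_normal p
  have hPp : IsPGroup p P := hPdef ▸ Cfsg.Agent.Lib.Helper1.pCore_isPGroup p
  rw [← hPdef] at hPS ⊢
  obtain ⟨Φ, hΦdef⟩ : ∃ Φ : Subgroup G, Φ = (frattini ↥P).map P.subtype := ⟨_, rfl⟩
  have hΦn : Φ.Normal := by
    rw [← Subgroup.normalizer_eq_top_iff, eq_top_iff, hΦdef]
    refine le_trans ?_ (Cfsg.Agent.Lib.Helper2.le_normalizer_map_frattini P)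
    rw [Subgroup.normalizer_eq_top_iff.2 hPn]
  have hpowΦ : ∀ y ∈ P, y ^ p ∈ Φ := by
    intro y hy
    rw [hΦdef]
    exact ⟨(⟨y, hy⟩ : P) ^ p, pow_prime_mem_frattini_of_isPGroup p hPp _, rfl⟩
  -- the cyclic group `W = P ∩ S'`
  obtain ⟨W, hWdef⟩ : ∃ W : Subgroup G, W = P ⊓ ⁅S, S⁆ := ⟨_, rfl⟩
  have hWc : W ≤ Subgroup.zpowers c := by rw [hWdef]; exact inf_le_right.trans hc
  have : IsCyclic ↥W := Subgroup.isCyclic_of_le hWc
  obtain ⟨w, hw⟩ := (Subgroup.isCyclic_iff_exists_zpowers_eq_top W).1 inferInstance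
  have hwW : w ∈ W := by rw [← hw]; exact Subgroup.mem_zpowers w
  have hwP : w ∈ P := by rw [hWdef] at hwW; exact hwW.1
  -- `S` normalizes `W`
  have hconjW : ∀ z ∈ S, ∀ v ∈ W, z * v * z⁻¹ ∈ W := by
    intro z hz v hv
    rw [hWdef] at hv ⊢
    refine ⟨hPn.conj_mem v hv.1 z, ?_⟩
    have hvS : v ∈ S := (Subgroup.commutator_le.2 (fun a ha b hb =>
      S.mul_mem (S.mul_mem (S.mul_mem ha hb) (S.inv_mem ha)) (S.inv_mem hb))) hv.2
    have h1 : ⁅z, v⁆ ∈ ⁅S, S⁆ := Subgroup.commutator_mem_commutator hz hvS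
    have h2 : z * v * z⁻¹ = ⁅z, v⁆ * v := by
      rw [commutatorElement_def]; group
    rw [h2]
    exact Subgroup.mul_mem _ h1 hv.2
  -- the action of `S` on `W` is trivial modulo `Φ`
  have hkey : ∀ z ∈ S, ∀ v ∈ W, z * v * z⁻¹ * v⁻¹ ∈ Φ := by
    intro z hz v hv
    obtain ⟨a, ha⟩ := (IsPGroup.iff_orderOf.1 hPp) ⟨w, hwP⟩
    rw [Subgroup.orderOf_mk] at ha
    obtain ⟨b, hb⟩ := hSp ⟨z, hz⟩
    have hb' : z ^ (p ^ b) = 1 := by
      have := congrArg Subtype.val hb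
      simpa using this
    have h1 : z * w * z⁻¹ ∈ Subgroup.zpowers w := by
      rw [hw]; exact hconjW z hz w hwW
    rw [← (isOfFinOrder_of_finite w).mem_powers_iff_mem_zpowers, Submonoid.mem_powers_iff] at h1
    obtain ⟨j, hj⟩ := h1
    obtain ⟨m, hm⟩ := conj_mul_inv_eq_pow w z a b j ha hb' hj.symm
    rw [← hw] at hv
    obtain ⟨k, rfl⟩ := Subgroup.mem_zpowers_iff.1 hv
    have h2 : z * w ^ k * z⁻¹ = (z * w * z⁻¹) ^ k := by rw [conj_zpow]
    have h3 : z * w ^ k * z⁻¹ * (w ^ k)⁻¹ = ((w ^ m) ^ k) ^ p := by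
      rw [h2, ← hj, hm, ← zpow_natCast w (1 + p * m), ← zpow_mul, ← zpow_neg, ← zpow_add,
        ← zpow_natCast w m, ← zpow_mul, ← zpow_natCast _ p, ← zpow_mul]
      congr 1
      push_cast
      ring
    rw [h3]
    exact hpowΦ _ (P.zpow_mem (P.pow_mem hwP m) k)
  -- every element of `S` lies in `P`
  intro x hx
  have hZS : Subgroup.zpowers x ≤ S := by rw [Subgroup.zpowers_le]; exact hx
  have h1 : ⁅P, Subgroup.zpowers x⁆ ≤ W := by
    rw [Subgroup.commutator_le]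
    intro y hy z hz
    rw [hWdef]
    refine ⟨?_, Subgroup.commutator_mem_commutator (hPS hy) (hZS hz)⟩
    rw [commutatorElement_def]
    have : y * z * y⁻¹ * z⁻¹ = y * (z * y⁻¹ * z⁻¹) := by group
    rw [this]
    exact P.mul_mem hy (hPn.conj_mem _ (P.inv_mem hy) z)
  have h2 : ⁅W, Subgroup.zpowers x⁆ ≤ Φ := by
    rw [Subgroup.commutator_le]
    intro v hv z hz
    have h3 := hkey z (hZS hz) v hv
    have h4 : ⁅v, z⁆ = (z * v * z⁻¹ * v⁻¹)⁻¹ := by
      rw [commutatorElement_def]; group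
    rw [h4]
    exact Φ.inv_mem h3
  have hquad : ⁅⁅P, Subgroup.zpowers x⁆, Subgroup.zpowers x⁆ ≤ Φ :=
    (Subgroup.commutator_mono h1 le_rfl).trans h2
  have hel : Cfsg.IsElementaryAbelian p (P.map (QuotientGroup.mk' Φ)) :=
    isElementaryAbelian_map_mk_of_frattini P hPp Φ (by rw [hΦdef])
  obtain ⟨D, hDn, hKD, ⟨k, hk⟩, hxD⟩ := isPStableOnSection_of_odd hp2 P Φ hel hsol hodd x hquad
  -- the kernel of the action on `P / Φ` is `P`
  have hKP : Cfsg.sectionKernel P Φ ≤ P := by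
    intro γ hγ
    unfold Cfsg.sectionKernel at hγ
    rw [Subgroup.mem_comap, Subgroup.mem_centralizer_iff] at hγ
    have h3 : γ ∈ Cfsg.pCore p G := by
      apply Cfsg.Agent.S4218.HH p hsol hcore γ
      intro y hy
      rw [← hPdef] at hy ⊢
      rw [← hΦdef]
      have h4 := hγ (QuotientGroup.mk' Φ y) (Subgroup.mem_map_of_mem _ hy)
      rw [← QuotientGroup.eq_one_iff]
      have h5 : ((γ * y * γ⁻¹ * y⁻¹ : G) : G ⧸ Φ) =
          QuotientGroup.mk' Φ γ * QuotientGroup.mk' Φ y * (QuotientGroup.mk' Φ γ)⁻¹ *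
            (QuotientGroup.mk' Φ y)⁻¹ := by
        simp
      rw [h5, ← h4]
      group
    rw [← hPdef] at h3
    exact h3
  -- hence `D` is a normal `p`-subgroup
  have hDp : IsPGroup p D := by
    have hKp : IsPGroup p (Cfsg.sectionKernel P Φ) := hPp.to_le hKP
    obtain ⟨a, ha⟩ := IsPGroup.iff_card.1 hKp
    apply IsPGroup.of_card (n := a + k)
    have h3 := Subgroup.card_mul_index ((Cfsg.sectionKernel P Φ).subgroupOf D)
    have h4 : Nat.card ((Cfsg.sectionKernel P Φ).subgroupOf D) = Nat.card (Cfsg.sectionKernel P Φ) :=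
      Nat.card_congr (Subgroup.subgroupOfEquivOfLe hKD).toEquiv
    rw [h4, ha] at h3
    have h5 : ((Cfsg.sectionKernel P Φ).subgroupOf D).index = p ^ k := hk
    rw [h5] at h3
    rw [← h3, pow_add]
  have hDP : D ≤ P := by
    rw [hPdef]
    exact Cfsg.Agent.Lib.Helper1.le_pCore hDn hDp
  exact hDP hxD

end Core

end Cfsg.Agent.Lib.Helper2.CycDerived
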