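import Mathlib
import Cfsg.Agent.Lib.Helper2.AbelianCyclic
import Cfsg.Agent.Lib.Helper3.CyclicSub

set_option autoImplicit false

namespace Cfsg.Agent.Lib.Helper2

open Cfsg.Agent.Lib.Helper3
open scoped IsMulCommutative

variable {G : Type*} [Group G]

/-- An abelian subgroup with at most one subgroup of each prime order is cyclic. -/
theorem isCyclic_of_forall_zpowers_eq [Finite G] (A : Subgroup G) [IsMulCommutative ↥A]
    (h : ∀ p : ℕ, p.Prime → ∀ x ∈ A, ∀ y ∈ A, orderOf x = p → orderOf y = p →
      Subgroup.zpowers x = Subgroup.zpowers y) : IsCyclic ↥A := by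
  apply isCyclic_of_card_torsionSub_le
  intro p hp
  by_cases hT : torsionSub ↥A p = ⊥
  · rw [hT, Subgroup.card_bot]; exact hp.pos
  · obtain ⟨x, hx1⟩ := (Subgroup.ne_bot_iff_exists_ne_one).1 hT
    have hx1' : (x : ↥A) ≠ 1 := fun h => hx1 (Subtype.ext h)
    have hxp : (x : ↥A) ^ p = 1 := mem_torsionSub.1 x.2
    have hox : orderOf (x : ↥A) = p := by
      rcases (Nat.dvd_prime hp).1 (orderOf_dvd_of_pow_eq_one hxp) with h2 | h2
      · exact absurd (orderOf_eq_one_iff.1 h2) hx1'
      · exact h2
    have hle : torsionSub ↥A p ≤ Subgroup.zpowers (x : ↥A) := by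
      intro y hy
      by_cases hy1 : y = 1
      · rw [hy1]; exact Subgroup.one_mem _
      · have hyp : y ^ p = 1 := mem_torsionSub.1 hy
        have hoy : orderOf y = p := by
          rcases (Nat.dvd_prime hp).1 (orderOf_dvd_of_pow_eq_one hyp) with h2 | h2
          · exact absurd (orderOf_eq_one_iff.1 h2) hy1
          · exact h2
        have := h p hp (x : ↥A) (x : ↥A).2 y y.2 (by rw [Subgroup.orderOf_coe]; exact hox)
          (by rw [Subgroup.orderOf_coe]; exact hoy)
        have hyz : (y : G) ∈ Subgroup.zpowers ((x : ↥A) : G) := by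
          rw [this]; exact Subgroup.mem_zpowers _
        obtain ⟨i, hi⟩ := Subgroup.mem_zpowers_iff.1 hyz
        rw [Subgroup.mem_zpowers_iff]
        refine ⟨i, Subtype.ext ?_⟩
        rw [← hi]
        simp
    calc Nat.card (torsionSub ↥A p) ≤ Nat.card (Subgroup.zpowers (x : ↥A)) :=
          Subgroup.card_le_of_le hle
      _ = p := by rw [Nat.card_zpowers, hox]

/-- If `x` commutes with `a ^ m` and `a ^ n` with `m`, `n` coprime then `x` commutes with `a`. -/
theorem commute_of_commute_pow_coprime {x a : G} {m n : ℕ} (hmn : m.Coprime n)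
    (h1 : Commute x (a ^ m)) (h2 : Commute x (a ^ n)) : Commute x a := by
  have hb := Nat.gcd_eq_gcd_ab m n
  rw [hmn.gcd_eq_one] at hb
  have : a = (a ^ m) ^ (Nat.gcdA m n) * (a ^ n) ^ (Nat.gcdB m n) := by
    rw [← zpow_natCast, ← zpow_natCast, ← zpow_mul, ← zpow_mul, ← zpow_add, ← hb]
    simp
  rw [this]
  exact (h1.zpow_right _).mul_right (h2.zpow_right _)

/-- Subgroups of a cyclic normal subgroup are normal. -/
theorem normal_of_le_isCyclic_normal [Finite G] {A D : Subgroup G} [IsCyclic ↥A] [hA : A.Normal]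
    (hDA : D ≤ A) : D.Normal := by
  constructor
  intro d hd g
  have h1 : D.map (MulAut.conj g).toMonoidHom ≤ A := by
    rintro _ ⟨y, hy, rfl⟩
    exact hA.conj_mem y (hDA hy) g
  have h2 : Nat.card (D.map (MulAut.conj g).toMonoidHom) = Nat.card D :=
    Subgroup.card_map_of_injective (MulAut.conj g).injective
  have h3 := subgroup_eq_of_card_eq_of_le_isCyclic A _ D h1 hDA h2
  rw [← h3]
  exact ⟨d, hd, rfl⟩

end Cfsg.Agent.Lib.Helper2
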