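import Cfsg.Agent.Lib.Helper2.PUBridge1
import Cfsg.Agent.Lib.Helper9.SylowConj2

set_option autoImplicit false
open Pointwise

/-!
# S4385 : unit `dih_y`
-/

namespace Cfsg.Agent.Lib.Helper2.PU

variable {G : Type*} [Group G] {H P : Subgroup G} {y : G} {n : ℕ}

theorem conj_smul_mem_iff {Q : Subgroup G} {y x : G} :
    x ∈ MulAut.conj y • Q ↔ y⁻¹ * x * y ∈ Q := by
  rw [Subgroup.mem_pointwise_smul_iff_inv_smul_mem]
  simp [MulAut.smul_def, MulAut.conj_inv_apply]

theorem dih_y [Finite G] (c : Ctx H P n y) : SetupY H P y := by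
  have hyP' : ∀ p ∈ P, y⁻¹ * p * y ∈ P := by
    intro p hp
    have h : p ∈ MulAut.conj y • P := by rw [c.hyN]; exact hp
    exact conj_smul_mem_iff.mp h
  have hyP : ∀ p ∈ P, y * p * y⁻¹ ∈ P := by
    intro p hp
    have h : y * p * y⁻¹ ∈ MulAut.conj y • P := by
      rw [conj_smul_mem_iff]
      have e : y⁻¹ * (y * p * y⁻¹) * y = p := by group
      rw [e]; exact hp
    rwa [c.hyN] at h
  refine ⟨hyP, hyP', ?_, ?_⟩
  · -- hy2
    have hPN : P ≤ Subgroup.normalizer ((Subgroup.centralizer (P : Set G) : Subgroup G) : Set G) :=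
      (Subgroup.le_normalizer).trans
        (Cfsg.Agent.Lib.Helper9.normalizer_le_normalizer_centralizer P)
    obtain ⟨p0, hp0, c0, hc0, e⟩ := Cfsg.Agent.Lib.Helper9.exists_mul_of_mem_sup hPN c.hy2
    refine ⟨p0, hp0, fun x hx => ?_⟩
    have hcx : x * c0 = c0 * x := (Subgroup.mem_centralizer_iff.mp hc0) x hx
    have e2 : y * y = p0 * c0 := by rw [← e, pow_two]
    calc y * y * x * y⁻¹ * y⁻¹ = (y * y) * x * (y * y)⁻¹ := by group
      _ = (p0 * c0) * x * (p0 * c0)⁻¹ := by rw [e2]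
      _ = p0 * (c0 * x) * c0⁻¹ * p0⁻¹ := by group
      _ = p0 * (x * c0) * c0⁻¹ * p0⁻¹ := by rw [hcx]
      _ = p0 * x * p0⁻¹ := by group
  · -- hyQ
    intro Q hQP hQn hQy
    apply c.hyQ Q hQP
    · refine ⟨fun m hm g => ?_⟩
      rw [Subgroup.mem_subgroupOf] at hm ⊢
      have := hQn (g : G) g.2 (m : G) hm
      simpa using this
    · have hN := mem_normalizer_of_conj_mem (X := Q) (d := y) hQy
      ext x
      rw [conj_smul_mem_iff]
      have h1 := (Subgroup.mem_normalizer_iff.mp hN) (y⁻¹ * x * y)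
      have e : y * (y⁻¹ * x * y) * y⁻¹ = x := by group
      rw [e] at h1
      exact h1

end Cfsg.Agent.Lib.Helper2.PU
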