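import Cfsg.Agent.Lib.Helper2.D2NIIaT0

set_option autoImplicit false

/-!
# S4385 : unit `iia_N`
-/

namespace Cfsg.Agent.Lib.Helper2.PU

variable {G : Type*} [Group G] {H P T K V Z W T0 : Subgroup G} {y ρ w0 : G} {n : ℕ}

theorem iia_N [Finite G] (s : Setup H P T K y ρ n) (c : C2 H P T V Z w0)
    (hW : IsW H V W w0) (r : RhoW H V Z W ρ w0)
    (hρW : ∀ x ∈ T, ρ * x * ρ⁻¹ * x⁻¹ ∈ W) (t0 : IsT0 H T W T0 ρ) :
    3 ∣ n ∧ (∀ x ∈ T, ρ ^ 3 * x = x * ρ ^ 3) ∧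
    (∀ g ∈ H, ∃ j : ℕ, g * ρ ^ 3 * g⁻¹ = (ρ ^ 3) ^ j) ∧
    (∀ g ∈ H, (∀ x ∈ T, g * x = x * g) → ∃ x ∈ T, ∃ j : ℕ, g = x * (ρ ^ 3) ^ j) := by
  have hρH : ρ ∈ H := s.hKH s.hρK
  obtain ⟨a, ha⟩ : ∃ a, a = ρ * w0 * ρ⁻¹ := ⟨_, rfl⟩
  have hρw0 : ρ * w0 * ρ⁻¹ = a := ha.symm
  have haV : a ∈ V := by rw [ha]; exact c.hVn ρ hρH w0 c.hw0V
  have haW : a ∈ W := by rw [ha]; exact hW.hWn ρ hρH w0 hW.hw0W
  have ha2 : a * a = 1 := c.hV2 _ haV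
  have hcomm : a * w0 = w0 * a := c.toC2a.comm_V haV c.hw0V
  have hρa : ρ * a * ρ⁻¹ = a * w0 := by rw [ha]; exact r.hρa
  have ha1 : a ≠ 1 := by rw [ha]; exact r.ha1
  have haw : a ≠ w0 := by rw [ha]; exact r.haw
  have haZ : a ∉ Z := by rw [ha]; exact r.haZ
  have hlist : ∀ w ∈ W, w = 1 ∨ w = w0 ∨ w = a ∨ w = a * w0 := by rw [ha]; exact r.hlist
  have hw2 := c.w0_sq
  have hρaw : ρ * (a * w0) * ρ⁻¹ = w0 := by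
    have e : ρ * (a * w0) * ρ⁻¹ = (ρ * a * ρ⁻¹) * (ρ * w0 * ρ⁻¹) := by group
    rw [e, hρa, hρw0, hcomm, mul_assoc, ha2, mul_one]
  have c3w0 : ρ ^ 3 * w0 * (ρ ^ 3)⁻¹ = w0 := by
    have e : ρ ^ 3 * w0 * (ρ ^ 3)⁻¹ = ρ * (ρ * (ρ * w0 * ρ⁻¹) * ρ⁻¹) * ρ⁻¹ := by
      rw [pow_three']; group
    rw [e, hρw0, hρa, hρaw]
  have c3a : ρ ^ 3 * a * (ρ ^ 3)⁻¹ = a := by
    have e : ρ ^ 3 * a * (ρ ^ 3)⁻¹ = ρ * (ρ * (ρ * a * ρ⁻¹) * ρ⁻¹) * ρ⁻¹ := by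
      rw [pow_three']; group
    rw [e, hρa, hρaw, hρw0]
  -- ρ³ centralizes W
  have c3W : ∀ w ∈ W, ρ ^ 3 * w * (ρ ^ 3)⁻¹ = w := by
    intro w hw
    rcases hlist w hw with h | h | h | h
    · rw [h]; group
    · rw [h]; exact c3w0
    · rw [h]; exact c3a
    · rw [h]
      have e : ρ ^ 3 * (a * w0) * (ρ ^ 3)⁻¹ = (ρ ^ 3 * a * (ρ ^ 3)⁻¹) * (ρ ^ 3 * w0 * (ρ ^ 3)⁻¹) := by
        group
      rw [e, c3a, c3w0]
  -- ρ³ centralizes T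
  have c3T : ∀ x ∈ T, ρ ^ 3 * x = x * ρ ^ 3 := by
    intro x hx
    obtain ⟨c0, hc0, w, hw, rfl⟩ := t0.hdec x hx
    have h1 : Commute (ρ ^ 3) c0 := Commute.pow_left (t0.hT0ρ c0 hc0) 3
    have h2 : Commute (ρ ^ 3) w := by
      have := c3W w hw
      show ρ ^ 3 * w = w * ρ ^ 3
      have e : ρ ^ 3 * w = (ρ ^ 3 * w * (ρ ^ 3)⁻¹) * ρ ^ 3 := by group
      rw [e, this]
    exact (h1.mul_right h2).eq
  have c3pow : ∀ q : ℕ, ∀ x ∈ T, (ρ ^ 3) ^ q * x = x * (ρ ^ 3) ^ q := by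
    intro q x hx
    exact (Commute.pow_left (c3T x hx) q).eq
  -- f(i) = w0 → 3 ∣ i
  have hf : ∀ i : ℕ, ρ ^ i * w0 * (ρ ^ i)⁻¹ = w0 → 3 ∣ i := by
    intro i hi
    have hdm := Nat.div_add_mod i 3
    have hlt : i % 3 < 3 := Nat.mod_lt _ (by norm_num)
    have hsplit : ρ ^ i = (ρ ^ 3) ^ (i / 3) * ρ ^ (i % 3) := by
      rw [← pow_mul, ← pow_add, hdm]
    have hrW : ρ ^ (i % 3) * w0 * (ρ ^ (i % 3))⁻¹ ∈ W :=
      hW.hWn _ (s.rho_pow_mem_H _) w0 hW.hw0W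
    have hrT := hW.hWV.trans c.hVT hrW
    have e : ρ ^ i * w0 * (ρ ^ i)⁻¹ = ρ ^ (i % 3) * w0 * (ρ ^ (i % 3))⁻¹ := by
      rw [hsplit]
      have := c3pow (i / 3) _ hrT
      calc (ρ ^ 3) ^ (i / 3) * ρ ^ (i % 3) * w0 * ((ρ ^ 3) ^ (i / 3) * ρ ^ (i % 3))⁻¹
          = ((ρ ^ 3) ^ (i / 3) * (ρ ^ (i % 3) * w0 * (ρ ^ (i % 3))⁻¹)) * ((ρ ^ 3) ^ (i / 3))⁻¹ := by
            group
        _ = ((ρ ^ (i % 3) * w0 * (ρ ^ (i % 3))⁻¹) * (ρ ^ 3) ^ (i / 3)) * ((ρ ^ 3) ^ (i / 3))⁻¹ := by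
            rw [this]
        _ = ρ ^ (i % 3) * w0 * (ρ ^ (i % 3))⁻¹ := by group
    rw [e] at hi
    have h3 : i % 3 = 0 ∨ i % 3 = 1 ∨ i % 3 = 2 := by omega
    rcases h3 with h | h | h
    · exact Nat.dvd_of_mod_eq_zero h
    · exfalso
      rw [h, pow_one, hρw0] at hi
      exact haw hi
    · exfalso
      rw [h] at hi
      have e2 : ρ ^ 2 * w0 * (ρ ^ 2)⁻¹ = ρ * (ρ * w0 * ρ⁻¹) * ρ⁻¹ := by
        rw [pow_two]; group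
      rw [e2, hρw0, hρa] at hi
      apply ha1
      have : a * w0 = 1 * w0 := by rw [one_mul]; exact hi
      exact mul_right_cancel this
  have h3n : 3 ∣ n := by
    apply hf n
    rw [← s.hρn, pow_orderOf_eq_one]; group
  have hpow3 : ∀ i : ℕ, 3 ∣ i → ρ ^ i = (ρ ^ 3) ^ (i / 3) := by
    intro i hi
    rw [← pow_mul, Nat.mul_div_cancel' hi]
  refine ⟨h3n, c3T, ?_, ?_⟩
  · -- normality of ⟨ρ³⟩
    intro g hg
    have hkK : g * ρ ^ 3 * g⁻¹ ∈ K := s.hKn g hg _ (K.pow_mem s.hρK 3)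
    obtain ⟨i, x, hx, ek⟩ := s.hKρ _ hkK
    -- k centralizes w0
    have hkw0 : (g * ρ ^ 3 * g⁻¹) * w0 * (g * ρ ^ 3 * g⁻¹)⁻¹ = w0 := by
      have hv : g⁻¹ * w0 * g ∈ T := c.hVT (c.toC2a.inv_conj_V hg c.hw0V)
      have := c3T _ hv
      calc (g * ρ ^ 3 * g⁻¹) * w0 * (g * ρ ^ 3 * g⁻¹)⁻¹
          = g * (ρ ^ 3 * (g⁻¹ * w0 * g)) * (ρ ^ 3)⁻¹ * g⁻¹ := by group
        _ = g * ((g⁻¹ * w0 * g) * ρ ^ 3) * (ρ ^ 3)⁻¹ * g⁻¹ := by rw [this]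
        _ = w0 := by group
    have hfi : ρ ^ i * w0 * (ρ ^ i)⁻¹ = w0 := by
      have hv : ρ ^ i * w0 * (ρ ^ i)⁻¹ ∈ V := c.hVn _ (s.rho_pow_mem_H i) w0 c.hw0V
      have hxc := c.hVc _ hv x hx
      rw [ek] at hkw0
      have e : x * ρ ^ i * w0 * (x * ρ ^ i)⁻¹ = x * (ρ ^ i * w0 * (ρ ^ i)⁻¹) * x⁻¹ := by group
      rw [e, ← hxc] at hkw0
      have e2 : ρ ^ i * w0 * (ρ ^ i)⁻¹ * x * x⁻¹ = ρ ^ i * w0 * (ρ ^ i)⁻¹ := by group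
      rw [e2] at hkw0
      exact hkw0
    have h3i := hf i hfi
    have hρi := hpow3 i h3i
    have hcm : Commute x (ρ ^ i) := by
      rw [hρi]
      exact (c3pow _ x hx).symm
    have hkn : (g * ρ ^ 3 * g⁻¹) ^ n = 1 := by
      rw [conj_pow, ← pow_mul, mul_comm, pow_mul, ← s.hρn, pow_orderOf_eq_one, one_pow]
      group
    have e2 : (x * ρ ^ i) ^ n = x ^ n * (ρ ^ i) ^ n := hcm.mul_pow n
    rw [← ek, hkn, s.rho_pow_n i, mul_one] at e2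
    have hx1 : x = 1 := s.eq_one_of_pow_n hx e2.symm
    refine ⟨i / 3, ?_⟩
    rw [ek, hx1, one_mul, hρi]
  · -- self-centralizing
    intro g hg hcent
    obtain ⟨k, hk, p, hp, rfl⟩ := s.hHK g hg
    obtain ⟨i, x, hx, rfl⟩ := s.hKρ k hk
    have hw0T : w0 ∈ T := c.hVT c.hw0V
    have haT : a ∈ T := c.hVT haV
    have hpw0 : p * w0 * p⁻¹ = w0 := by rw [c.w0_comm_P hp]; group
    have hfi : ρ ^ i * w0 * (ρ ^ i)⁻¹ = w0 := by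
      have h1 := hcent w0 hw0T
      have hv : ρ ^ i * w0 * (ρ ^ i)⁻¹ ∈ V := c.hVn _ (s.rho_pow_mem_H i) w0 c.hw0V
      have hxc := c.hVc _ hv x hx
      have e : x * ρ ^ i * p * w0 * (x * ρ ^ i * p)⁻¹
          = x * (ρ ^ i * (p * w0 * p⁻¹) * (ρ ^ i)⁻¹) * x⁻¹ := by group
      have e0 : x * ρ ^ i * p * w0 * (x * ρ ^ i * p)⁻¹ = w0 := by rw [h1]; group
      rw [e, hpw0, ← hxc] at e0
      have e2 : ρ ^ i * w0 * (ρ ^ i)⁻¹ * x * x⁻¹ = ρ ^ i * w0 * (ρ ^ i)⁻¹ := by group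
      rw [e2] at e0
      exact e0
    have h3i := hf i hfi
    have hρi := hpow3 i h3i
    -- p commutes with a
    have hpa : p * a * p⁻¹ = a := by
      have h1 := hcent a haT
      have hv : p * a * p⁻¹ ∈ V := c.hVn p (s.hPH hp) a haV
      have hvT := c.hVT hv
      have hxc := c.hVc _ hv x hx
      have hρc : ρ ^ i * (p * a * p⁻¹) = (p * a * p⁻¹) * ρ ^ i := by
        rw [hρi]; exact c3pow _ _ hvT
      have e0 : x * ρ ^ i * p * a * (x * ρ ^ i * p)⁻¹ = a := by rw [h1]; group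
      have e : x * ρ ^ i * p * a * (x * ρ ^ i * p)⁻¹
          = x * (ρ ^ i * (p * a * p⁻¹)) * (ρ ^ i)⁻¹ * x⁻¹ := by group
      rw [e, hρc] at e0
      have e3 : x * (p * a * p⁻¹ * ρ ^ i) * (ρ ^ i)⁻¹ * x⁻¹ = (x * (p * a * p⁻¹)) * x⁻¹ := by group
      rw [e3, ← hxc] at e0
      have e5 : p * a * p⁻¹ * x * x⁻¹ = p * a * p⁻¹ := by group
      rw [e5] at e0
      exact e0
    have hpT : p ∈ T := by
      by_contra hpT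
      have := c.comm_eq_w0 s hp hpT haV haZ
      rw [hpa, mul_inv_cancel] at this
      exact c.hw01 this.symm
    refine ⟨x * p, T.mul_mem hx hpT, i / 3, ?_⟩
    rw [← hρi]
    have := c3pow (i / 3) p hpT
    rw [← hρi] at this
    rw [mul_assoc, mul_assoc, this]

end Cfsg.Agent.Lib.Helper2.PU
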