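import Cfsg.Agent.Lib.Helper2.D2NIIaW2

set_option autoImplicit false

/-!
# S4385 : unit `iia_rhoW`
-/

namespace Cfsg.Agent.Lib.Helper2.PU

variable {G : Type*} [Group G] {H P T K V Z W : Subgroup G} {y ρ w0 : G} {n : ℕ}

/-- the subgroup of `H` acting trivially on `V / W` -/
def stabVW (H V W : Subgroup G) (hVn : ∀ a ∈ H, ∀ v ∈ V, a * v * a⁻¹ ∈ V)
    (hWn : ∀ g ∈ H, ∀ w ∈ W, g * w * g⁻¹ ∈ W) : Subgroup G where
  carrier := {g | g ∈ H ∧ ∀ v ∈ V, g * v * g⁻¹ * v⁻¹ ∈ W}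
  one_mem' := ⟨H.one_mem, fun v _ => by simpa using W.one_mem⟩
  mul_mem' := by
    rintro g g' ⟨hg, h1⟩ ⟨hg', h2⟩
    refine ⟨H.mul_mem hg hg', fun v hv => ?_⟩
    have e : g * g' * v * (g * g')⁻¹ * v⁻¹
        = (g * (g' * v * g'⁻¹ * v⁻¹) * g⁻¹) * (g * v * g⁻¹ * v⁻¹) := by group
    rw [e]
    exact W.mul_mem (hWn g hg _ (h2 v hv)) (h1 v hv)
  inv_mem' := by
    rintro g ⟨hg, h1⟩
    refine ⟨H.inv_mem hg, fun v hv => ?_⟩
    have hv' : g⁻¹ * v * g ∈ V := by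
      have := hVn g⁻¹ (H.inv_mem hg) v hv
      simpa using this
    have := W.inv_mem (h1 _ hv')
    have e : (g * (g⁻¹ * v * g) * g⁻¹ * (g⁻¹ * v * g)⁻¹)⁻¹ = g⁻¹ * v * g⁻¹⁻¹ * v⁻¹ := by group
    rw [e] at this
    exact this

theorem iia_rhoW [Finite G] (s : Setup H P T K y ρ n) (c : C2 H P T V Z w0)
    (hW : IsW H V W w0) : RhoW H V Z W ρ w0 := by
  have hρH : ρ ∈ H := s.hKH s.hρK
  have haV : ρ * w0 * ρ⁻¹ ∈ V := c.hVn ρ hρH w0 c.hw0V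
  have haW : ρ * w0 * ρ⁻¹ ∈ W := hW.hWn ρ hρH w0 hW.hw0W
  have ha2 : (ρ * w0 * ρ⁻¹) * (ρ * w0 * ρ⁻¹) = 1 := c.hV2 _ haV
  have hc : (ρ * w0 * ρ⁻¹) * w0 = w0 * (ρ * w0 * ρ⁻¹) := c.toC2a.comm_V haV c.hw0V
  have hρa : ρ * (ρ * w0 * ρ⁻¹) * ρ⁻¹ = (ρ * w0 * ρ⁻¹) * w0 := by
    rcases c.rho_a s with h | h
    · exfalso
      -- ρ² commutes with w0
      have h2 : ρ ^ (1 + 1) ∈ Subgroup.centralizer ({w0} : Set G) := by
        rw [Subgroup.mem_centralizer_iff]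
        intro g hg
        rw [Set.mem_singleton_iff] at hg
        subst hg
        have e : ρ ^ (1 + 1) * g = (ρ * (ρ * g * ρ⁻¹) * ρ⁻¹) * ρ ^ (1 + 1) := by
          rw [pow_succ, pow_one]; group
        rw [e, h]
      have h1 := s.rho_pow_of_sq _ h2
      rw [pow_one, Subgroup.mem_centralizer_iff] at h1
      have h3 := h1 w0 rfl
      apply c.a_ne_w0 s
      rw [← h3]; group
    · exact h
  refine ⟨c.a_ne_one, c.a_ne_w0 s, hρa, ?_, ?_, ?_⟩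
  · -- hlist
    have hle : four w0 (ρ * w0 * ρ⁻¹) c.w0_sq ha2 hc ≤ W := by
      intro g hg
      rcases hg with rfl | rfl | rfl | rfl
      · exact W.one_mem
      · exact hW.hw0W
      · exact haW
      · exact W.mul_mem haW hW.hw0W
    have hcard : Nat.card W ≤ Nat.card (four w0 (ρ * w0 * ρ⁻¹) c.w0_sq ha2 hc) := by
      rw [hW.hW4, card_four c.hw01 c.a_ne_one (c.a_ne_w0 s)]
    have heq := Subgroup.eq_of_le_of_card_ge hle hcard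
    intro w hw
    rw [← heq] at hw
    exact hw
  · -- hVW
    have hP : P ≤ stabVW H V W c.hVn hW.hWn := by
      intro p hp
      refine ⟨s.hPH hp, fun v hv => ?_⟩
      rcases c.hw0 p hp v hv with h | h
      · rw [h]; exact W.one_mem
      · rw [h]; exact hW.hw0W
    have hN : ∀ a ∈ H, ∀ x ∈ stabVW H V W c.hVn hW.hWn, a * x * a⁻¹ ∈ stabVW H V W c.hVn hW.hWn := by
      rintro a ha x ⟨hx, h1⟩
      refine ⟨H.mul_mem (H.mul_mem ha hx) (H.inv_mem ha), fun v hv => ?_⟩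
      have hv' : a⁻¹ * v * a ∈ V := c.toC2a.inv_conj_V ha hv
      have := hW.hWn a ha _ (h1 _ hv')
      have e : a * (x * (a⁻¹ * v * a) * x⁻¹ * (a⁻¹ * v * a)⁻¹) * a⁻¹
          = a * x * a⁻¹ * v * (a * x * a⁻¹)⁻¹ * v⁻¹ := by group
      rw [e] at this
      exact this
    have hH := s.closure_P _ hN hP
    intro g hg v hv
    exact (hH hg).2 v hv
  · -- haZ
    intro haZ
    obtain ⟨t, ht, htT⟩ := s.hPT
    have hx : t * ρ * t⁻¹ * ρ ∈ T := s.hinv t ht htT ρ s.hρK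
    have hb : ρ⁻¹ * w0 * ρ ∈ V := c.toC2a.inv_conj_V hρH c.hw0V
    have hta : t * (ρ * w0 * ρ⁻¹) * t⁻¹ = ρ * w0 * ρ⁻¹ := by
      rw [(c.hZP _ haZ).2.2 t ht]; group
    have htw : t * w0 * t⁻¹ = w0 := by rw [c.w0_comm_P ht]; group
    have e1 : t * (ρ * w0 * ρ⁻¹) * t⁻¹
        = (t * ρ * t⁻¹ * ρ) * (ρ⁻¹ * (t * w0 * t⁻¹) * ρ) * (t * ρ * t⁻¹ * ρ)⁻¹ := by group
    rw [hta, htw] at e1
    have hxb := c.hVc _ hb _ hx
    have e2 : (t * ρ * t⁻¹ * ρ) * (ρ⁻¹ * w0 * ρ) * (t * ρ * t⁻¹ * ρ)⁻¹ = ρ⁻¹ * w0 * ρ := by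
      rw [← hxb]; group
    rw [e2] at e1
    -- a = ρ⁻¹ w0 ρ, so ρ a ρ⁻¹ = w0
    have e3 : ρ * (ρ * w0 * ρ⁻¹) * ρ⁻¹ = w0 := by
      rw [e1]; group
    rw [hρa] at e3
    apply c.a_ne_one (ρ := ρ)
    have : (ρ * w0 * ρ⁻¹) * w0 = 1 * w0 := by rw [one_mul]; exact e3
    exact mul_right_cancel this

end Cfsg.Agent.Lib.Helper2.PU
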