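import Cfsg.Agent.Lib.Helper2.D2NIIaRhoW

set_option autoImplicit false

/-!
# S4385 : unit `iia_T0`
-/

namespace Cfsg.Agent.Lib.Helper2.PU

variable {G : Type*} [Group G] {H P T K V Z W : Subgroup G} {y ρ w0 : G} {n : ℕ}

/-- an element of `T` of order dividing `n` is trivial -/
theorem Setup.eq_one_of_pow_n (s : Setup H P T K y ρ n) {x : G} (hx : x ∈ T) (h : x ^ n = 1) :
    x = 1 := by
  obtain ⟨k, hk⟩ := s.hT2 ⟨x, hx⟩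
  have h1 : x ^ (2 ^ k) = 1 := by
    have := congrArg Subtype.val hk
    simpa using this
  have hcop : Nat.Coprime (2 ^ k) n := (Nat.coprime_two_left.mpr s.hnodd).pow_left k
  have hd1 := orderOf_dvd_of_pow_eq_one h1
  have hd2 := orderOf_dvd_of_pow_eq_one h
  have : orderOf x = 1 := Nat.eq_one_of_dvd_coprimes hcop hd1 hd2
  exact orderOf_eq_one_iff.mp this

/-- powers of `w b` when `b` normalizes `W` -/
theorem pow_mul_normalizing (W : Subgroup G) {b : G} (hb : ∀ w ∈ W, b * w * b⁻¹ ∈ W) {w : G}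
    (hw : w ∈ W) (j : ℕ) : ∃ w' ∈ W, (w * b) ^ j = w' * b ^ j := by
  induction j with
  | zero => exact ⟨1, W.one_mem, by simp⟩
  | succ j ih =>
    obtain ⟨w', hw', e⟩ := ih
    refine ⟨w * (b * w' * b⁻¹), W.mul_mem hw (hb w' hw'), ?_⟩
    rw [pow_succ', e, pow_succ']
    group

theorem Setup.rho_pow_n (s : Setup H P T K y ρ n) (i : ℕ) : (ρ ^ i) ^ n = 1 := by
  rw [← pow_mul, mul_comm, pow_mul, ← s.hρn, pow_orderOf_eq_one, one_pow]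

theorem iia_T0 [Finite G] (s : Setup H P T K y ρ n) (c : C2 H P T V Z w0)
    (hW : IsW H V W w0) (r : RhoW H V Z W ρ w0)
    (hρW : ∀ x ∈ T, ρ * x * ρ⁻¹ * x⁻¹ ∈ W) : ∃ T0 : Subgroup G, IsT0 H T W T0 ρ := by
  have hρH : ρ ∈ H := s.hKH s.hρK
  have haV : ρ * w0 * ρ⁻¹ ∈ V := c.hVn ρ hρH w0 c.hw0V
  have haW : ρ * w0 * ρ⁻¹ ∈ W := hW.hWn ρ hρH w0 hW.hw0W
  have ha2 : (ρ * w0 * ρ⁻¹) * (ρ * w0 * ρ⁻¹) = 1 := c.hV2 _ haV
  have hc : (ρ * w0 * ρ⁻¹) * w0 = w0 * (ρ * w0 * ρ⁻¹) := c.toC2a.comm_V haV c.hw0V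
  have hw2 := c.w0_sq
  have hWT : W ≤ T := hW.hWV.trans c.hVT
  -- membership in T0
  have hmem : ∀ g, g ∈ T ⊓ Subgroup.centralizer ({ρ} : Set G) ↔ g ∈ T ∧ ρ * g = g * ρ := by
    intro g
    rw [Subgroup.mem_inf, Subgroup.mem_centralizer_iff]
    constructor
    · rintro ⟨h1, h2⟩; exact ⟨h1, h2 ρ rfl⟩
    · rintro ⟨h1, h2⟩
      refine ⟨h1, fun h hh => ?_⟩
      rw [Set.mem_singleton_iff] at hh
      rw [hh]; exact h2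
  -- the bijection w ↦ ρ w ρ⁻¹ w⁻¹ of W
  have hsurj : ∀ m ∈ W, ∃ w ∈ W, ρ * w * ρ⁻¹ * w⁻¹ = m := by
    intro m hm
    rcases r.hlist m hm with h | h | h | h
    · exact ⟨1, W.one_mem, by rw [h]; group⟩
    · refine ⟨ρ * w0 * ρ⁻¹, haW, ?_⟩
      rw [h, r.hρa, hc]; group
    · refine ⟨(ρ * w0 * ρ⁻¹) * w0, W.mul_mem haW hW.hw0W, ?_⟩
      have e : ρ * ((ρ * w0 * ρ⁻¹) * w0) * ρ⁻¹ = (ρ * (ρ * w0 * ρ⁻¹) * ρ⁻¹) * (ρ * w0 * ρ⁻¹) := by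
        group
      rw [h, e, r.hρa]
      have e3 : (ρ * w0 * ρ⁻¹) * w0 * (ρ * w0 * ρ⁻¹) = (ρ * w0 * ρ⁻¹) * ((ρ * w0 * ρ⁻¹) * w0) := by
        rw [mul_assoc, ← hc]
      rw [e3]
      group
    · refine ⟨w0, hW.hw0W, ?_⟩
      rw [h, c.w0_inv]
  have hdec : ∀ x ∈ T, ∃ c0 ∈ T ⊓ Subgroup.centralizer ({ρ} : Set G), ∃ w ∈ W, x = c0 * w := by
    intro x hx
    obtain ⟨w, hw, e⟩ := hsurj _ (hρW x hx)
    have hwT : w ∈ T := hWT hw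
    refine ⟨x * w⁻¹, (hmem _).mpr ⟨T.mul_mem hx (T.inv_mem hwT), ?_⟩, w, hw, by group⟩
    -- ρ x w⁻¹ ρ⁻¹ = m x (m w)⁻¹ = x w⁻¹
    have hmV : ρ * x * ρ⁻¹ * x⁻¹ ∈ V := hW.hWV (hρW x hx)
    have hcomm := c.hVc _ hmV (x * w⁻¹) (T.mul_mem hx (T.inv_mem hwT))
    have e1 : ρ * (x * w⁻¹) = (ρ * x * ρ⁻¹ * x⁻¹) * (x * w⁻¹) * (ρ * w * ρ⁻¹ * w⁻¹)⁻¹ * ρ := by group
    rw [e1, e, hcomm]
    group
  have hT0W : ∀ c0 ∈ T ⊓ Subgroup.centralizer ({ρ} : Set G), c0 ∈ W → c0 = 1 := by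
    intro c0 hc0 hc0W
    have hcρ := ((hmem _).mp hc0).2
    rcases r.hlist c0 hc0W with h | h | h | h
    · exact h
    · exfalso
      rw [h] at hcρ
      apply r.haw
      rw [hcρ]; group
    · exfalso
      rw [h] at hcρ
      apply c.hw01
      have e : ρ * (ρ * w0 * ρ⁻¹) * ρ⁻¹ = ρ * w0 * ρ⁻¹ := by rw [hcρ]; group
      rw [r.hρa] at e
      have : (ρ * w0 * ρ⁻¹) * w0 = (ρ * w0 * ρ⁻¹) * 1 := by rw [mul_one]; exact e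
      exact mul_left_cancel this
    · exfalso
      rw [h] at hcρ
      apply r.ha1
      have e : ρ * ((ρ * w0 * ρ⁻¹) * w0) * ρ⁻¹ = (ρ * w0 * ρ⁻¹) * w0 := by rw [hcρ]; group
      have e' : ρ * ((ρ * w0 * ρ⁻¹) * w0) * ρ⁻¹ = (ρ * (ρ * w0 * ρ⁻¹) * ρ⁻¹) * (ρ * w0 * ρ⁻¹) := by
        group
      rw [e', r.hρa, hc, mul_assoc, ha2, mul_one] at e
      have : w0 * 1 = w0 * (ρ * w0 * ρ⁻¹) := by rw [mul_one]; exact e
      exact (mul_left_cancel this).symm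
  refine ⟨T ⊓ Subgroup.centralizer ({ρ} : Set G), inf_le_left, fun c0 hc0 => ((hmem _).mp hc0).2,
    hdec, ?_, hT0W⟩
  -- hT0n
  intro g hg c0 hc0
  obtain ⟨hc0T, hc0ρ⟩ := (hmem _).mp hc0
  rw [hmem]
  refine ⟨s.hTn g hg c0 hc0T, ?_⟩
  have hkK : g⁻¹ * ρ * g ∈ K := s.inv_conj_K hg s.hρK
  obtain ⟨i, x, hx, ek⟩ := s.hKρ _ hkK
  obtain ⟨c1, hc1, w1, hw1, rfl⟩ := hdec x hx
  obtain ⟨hc1T, hc1ρ⟩ := (hmem _).mp hc1
  have hw1V : w1 ∈ V := hW.hWV hw1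
  -- c1 commutes with w1 ρ^i
  have hcm : Commute c1 (w1 * ρ ^ i) := by
    have h1 : Commute c1 w1 := (c.hVc w1 hw1V c1 hc1T).symm
    have h2 : Commute c1 (ρ ^ i) := (Commute.pow_left hc1ρ i).symm
    exact h1.mul_right h2
  have hkn : (g⁻¹ * ρ * g) ^ n = 1 := by
    have : (g⁻¹ * ρ * g) ^ n = g⁻¹ * ρ ^ n * g := by
      have := conj_pow (a := g⁻¹) (b := ρ) (i := n)
      simpa using this
    rw [this, ← s.hρn, pow_orderOf_eq_one]; group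
  have hρiH : ρ ^ i ∈ H := s.rho_pow_mem_H i
  obtain ⟨w', hw', e'⟩ := pow_mul_normalizing W (hW.hWn _ hρiH) hw1 n
  have hc1n : c1 ^ n = w'⁻¹ := by
    have e2 : (c1 * (w1 * ρ ^ i)) ^ n = c1 ^ n * (w1 * ρ ^ i) ^ n := hcm.mul_pow n
    rw [← mul_assoc, ← ek, hkn, e', s.rho_pow_n i, mul_one] at e2
    exact eq_inv_of_mul_eq_one_left e2.symm
  have hc1n1 : c1 ^ n = 1 :=
    hT0W _ (Subgroup.pow_mem _ hc1 n) (by rw [hc1n]; exact W.inv_mem hw')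
  have hc11 : c1 = 1 := s.eq_one_of_pow_n hc1T hc1n1
  rw [hc11, one_mul] at ek
  -- c0 commutes with k = w1 ρ^i
  have hck : c0 * (g⁻¹ * ρ * g) = (g⁻¹ * ρ * g) * c0 := by
    rw [ek]
    have h1 : Commute c0 w1 := (c.hVc w1 hw1V c0 hc0T).symm
    have h2 : Commute c0 (ρ ^ i) := (Commute.pow_left hc0ρ i).symm
    exact (h1.mul_right h2).eq
  calc ρ * (g * c0 * g⁻¹) = g * ((g⁻¹ * ρ * g) * c0) * g⁻¹ := by group
    _ = g * (c0 * (g⁻¹ * ρ * g)) * g⁻¹ := by rw [hck]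
    _ = g * c0 * g⁻¹ * ρ := by group

end Cfsg.Agent.Lib.Helper2.PU
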