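import Cfsg.Agent.Lib.Helper2.PUBasic3

set_option autoImplicit false

/-!
# S4385 : unit `iia_u`
-/

namespace Cfsg.Agent.Lib.Helper2.PU

variable {G : Type*} [Group G] {H P T K V Z : Subgroup G} {y ρ w0 : G} {n : ℕ}

theorem iia_u (s : Setup H P T K y ρ n) (c : C2 H P T V Z w0)
    (hIIa : ∃ v ∈ V, y * v * y⁻¹ ∉ T) :
    y * w0 * y⁻¹ = w0 ∧ ∀ v ∈ V, v ∉ Z → (y * v * y⁻¹ ∈ P ∧ y * v * y⁻¹ ∉ T ∧
      ∀ x ∈ T, (y * v * y⁻¹) * x * (y * v * y⁻¹)⁻¹ * x⁻¹ = 1 ∨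
        (y * v * y⁻¹) * x * (y * v * y⁻¹)⁻¹ * x⁻¹ = w0) := by
  obtain ⟨v1, hv1, hu⟩ := hIIa
  have hv1Z : v1 ∉ Z := fun h => hu (c.toC2a.ZT (c.toC2a.Z_conj_y s h))
  have hv1P : v1 ∈ P := s.hTP (c.hVT hv1)
  have huP : y * v1 * y⁻¹ ∈ P := s.hyP v1 hv1P
  have hu'P : y⁻¹ * v1 * y ∈ P := s.hyP' v1 hv1P
  have hu'T : y⁻¹ * v1 * y ∉ T := by
    intro h
    obtain ⟨p0, hp0, h2⟩ := s.hy2
    have e := h2 _ hu'P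
    have e2 : y * y * (y⁻¹ * v1 * y) * y⁻¹ * y⁻¹ = y * v1 * y⁻¹ := by group
    rw [e2] at e
    apply hu
    rw [e]
    exact s.hTn p0 (s.hPH hp0) _ h
  have h1 := c.comm_eq_w0 s huP hu hv1 hv1Z
  have h2 := c.comm_eq_w0 s hu'P hu'T hv1 hv1Z
  have hyw : y⁻¹ * w0 * y = w0 := by
    have e1 : y⁻¹ * (y * v1 * y⁻¹ * v1 * (y * v1 * y⁻¹)⁻¹ * v1⁻¹) * y
        = (y⁻¹ * v1 * y * v1 * (y⁻¹ * v1 * y)⁻¹ * v1⁻¹)⁻¹ := by group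
    rw [h1, h2, c.w0_inv] at e1
    exact e1
  have hyw0 : y * w0 * y⁻¹ = w0 := by
    have : y * (y⁻¹ * w0 * y) * y⁻¹ = w0 := by group
    rw [hyw] at this
    exact this
  refine ⟨hyw0, ?_⟩
  intro v hv hvZ
  have hvP : v ∈ P := s.hTP (c.hVT hv)
  refine ⟨s.hyP v hvP, ?_, ?_⟩
  · intro hT
    have hz : v * v1 ∈ Z := c.hidx v hv v1 hv1 hvZ hv1Z
    have hzT : y * (v * v1) * y⁻¹ ∈ T := c.toC2a.ZT (c.toC2a.Z_conj_y s hz)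
    apply hu
    have e : y * v1 * y⁻¹ = (y * v * y⁻¹)⁻¹ * (y * (v * v1) * y⁻¹) := by group
    rw [e]
    exact T.mul_mem (T.inv_mem hT) hzT
  · intro x hx
    have hx' : y⁻¹ * x * y ∈ P := s.hyP' x (s.hTP hx)
    have e : (y * v * y⁻¹) * x * (y * v * y⁻¹)⁻¹ * x⁻¹
        = y * ((y⁻¹ * x * y) * v * (y⁻¹ * x * y)⁻¹ * v⁻¹)⁻¹ * y⁻¹ := by group
    rw [e]
    rcases c.hw0 _ hx' v hv with h | h
    · left; rw [h]; group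
    · right
      rw [h, c.w0_inv]
      exact hyw0

end Cfsg.Agent.Lib.Helper2.PU
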