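import Cfsg.Agent.Lib.Helper2.PUBasic3

set_option autoImplicit false

/-!
# S4385 : unit `iia_W` : the four-group `W = {1, w0, a, a w0}`, `a = ρ w0 ρ⁻¹`
-/

namespace Cfsg.Agent.Lib.Helper2.PU

variable {G : Type*} [Group G] {H P T K V Z : Subgroup G} {y ρ w0 : G} {n : ℕ}

/-- the four-group generated by two commuting involutions -/
def four (w a : G) (hw : w * w = 1) (ha : a * a = 1) (hc : a * w = w * a) : Subgroup G where
  carrier := {g | g = 1 ∨ g = w ∨ g = a ∨ g = a * w}
  one_mem' := Or.inl rfl
  mul_mem' := by
    have e1 : w * (a * w) = a := by rw [← mul_assoc, ← hc, mul_assoc, hw, mul_one]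
    have e2 : a * (a * w) = w := by rw [← mul_assoc, ha, one_mul]
    have e3 : a * w * w = a := by rw [mul_assoc, hw, mul_one]
    have e4 : a * w * a = w := by rw [hc, mul_assoc, ha, mul_one]
    have e5 : a * w * (a * w) = 1 := by rw [← mul_assoc, e4, hw]
    rintro x z (rfl | rfl | rfl | rfl) (rfl | rfl | rfl | rfl)
    · left; simp
    · right; left; simp
    · right; right; left; simp
    · right; right; right; simp
    · right; left; simp
    · left; exact hw
    · right; right; right; exact hc.symm
    · right; right; left; exact e1
    · right; right; left; simp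
    · right; right; right; rfl
    · left; exact ha
    · right; left; exact e2
    · right; right; right; simp
    · right; right; left; exact e3
    · right; left; exact e4
    · left; exact e5
  inv_mem' := by
    have e4 : a * w * a = w := by rw [hc, mul_assoc, ha, mul_one]
    have e5 : a * w * (a * w) = 1 := by rw [← mul_assoc, e4, hw]
    rintro x (rfl | rfl | rfl | rfl)
    · left; simp
    · right; left; exact inv_eq_of_mul_eq_one_right hw
    · right; right; left; exact inv_eq_of_mul_eq_one_right ha
    · right; right; right; exact inv_eq_of_mul_eq_one_right e5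

theorem mem_four {w a : G} {hw : w * w = 1} {ha : a * a = 1} {hc : a * w = w * a} {g : G} :
    g ∈ four w a hw ha hc ↔ g = 1 ∨ g = w ∨ g = a ∨ g = a * w := Iff.rfl

theorem card_four [Finite G] {w a : G} {hw : w * w = 1} {ha : a * a = 1} {hc : a * w = w * a}
    (hw1 : w ≠ 1) (ha1 : a ≠ 1) (haw : a ≠ w) : Nat.card (four w a hw ha hc) = 4 := by
  have hset : ((four w a hw ha hc : Subgroup G) : Set G) = {1, w, a, a * w} := by
    ext g
    simp only [SetLike.mem_coe, mem_four, Set.mem_insert_iff, Set.mem_singleton_iff]
  have h : Nat.card (four w a hw ha hc) = ((four w a hw ha hc : Subgroup G) : Set G).ncard :=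
    Nat.card_coe_set_eq _
  rw [h, hset]
  have n1 : a ∉ ({a * w} : Set G) := by
    intro h
    rw [Set.mem_singleton_iff] at h
    apply hw1
    have : a * 1 = a * w := by rw [mul_one]; exact h
    exact (mul_left_cancel this).symm
  have n2 : w ∉ ({a, a * w} : Set G) := by
    intro h
    rcases h with h | h
    · exact haw h.symm
    · rw [Set.mem_singleton_iff] at h
      apply ha1
      have : 1 * w = a * w := by rw [one_mul]; exact h
      exact (mul_right_cancel this).symm
  have n3 : (1 : G) ∉ ({w, a, a * w} : Set G) := by
    intro h
    rcases h with h | h | h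
    · exact hw1 h.symm
    · exact ha1 h.symm
    · rw [Set.mem_singleton_iff] at h
      apply haw
      have h2 : a * w = w * w := by rw [hw]; exact h.symm
      exact mul_right_cancel h2
  rw [Set.ncard_insert_of_notMem n3 (Set.toFinite _), Set.ncard_insert_of_notMem n2 (Set.toFinite _),
    Set.ncard_insert_of_notMem n1 (Set.toFinite _), Set.ncard_singleton]

end Cfsg.Agent.Lib.Helper2.PU
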