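import Cfsg.Agent.Lib.Helper2.D2NIIaW

set_option autoImplicit false

/-!
# S4385 : unit `iia_W`
-/

namespace Cfsg.Agent.Lib.Helper2.PU

variable {G : Type*} [Group G] {H P T K V Z : Subgroup G} {y ρ w0 : G} {n : ℕ}

/-- an element commuting with `T`, `P` and `ρ` is central in `H` -/
theorem Setup.central_of (s : Setup H P T K y ρ n) {w : G} (hT : ∀ x ∈ T, x * w = w * x)
    (hP : ∀ p ∈ P, p * w = w * p) (hρ : ρ * w = w * ρ) : ∀ g ∈ H, g * w = w * g := by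
  intro g hg
  obtain ⟨k, hk, p, hp, rfl⟩ := s.hHK g hg
  obtain ⟨i, x, hx, rfl⟩ := s.hKρ k hk
  have h1 : Commute (ρ ^ i) w := Commute.pow_left hρ i
  calc x * ρ ^ i * p * w = x * ρ ^ i * (p * w) := by group
    _ = x * ρ ^ i * (w * p) := by rw [hP p hp]
    _ = x * (ρ ^ i * w) * p := by group
    _ = x * (w * ρ ^ i) * p := by rw [h1.eq]
    _ = (x * w) * ρ ^ i * p := by group
    _ = (w * x) * ρ ^ i * p := by rw [hT x hx]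
    _ = w * (x * ρ ^ i * p) := by group

/-- invariance under `T`, `P`, `ρ` gives `H`-invariance -/
theorem Setup.inv_of (s : Setup H P T K y ρ n) (W : Subgroup G)
    (hT : ∀ x ∈ T, ∀ w ∈ W, x * w * x⁻¹ ∈ W)
    (hP : ∀ p ∈ P, ∀ w ∈ W, p * w * p⁻¹ ∈ W) (hρ : ∀ w ∈ W, ρ * w * ρ⁻¹ ∈ W) :
    ∀ g ∈ H, ∀ w ∈ W, g * w * g⁻¹ ∈ W := by
  have hpow : ∀ i : ℕ, ∀ w ∈ W, ρ ^ i * w * (ρ ^ i)⁻¹ ∈ W := by
    intro i
    induction i with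
    | zero => intro w hw; simpa using hw
    | succ i ih =>
      intro w hw
      have := ih _ (hρ w hw)
      have e : ρ ^ (i + 1) * w * (ρ ^ (i + 1))⁻¹ = ρ ^ i * (ρ * w * ρ⁻¹) * (ρ ^ i)⁻¹ := by
        rw [pow_succ]; group
      rw [e]; exact this
  intro g hg w hw
  obtain ⟨k, hk, p, hp, rfl⟩ := s.hHK g hg
  obtain ⟨i, x, hx, rfl⟩ := s.hKρ k hk
  have h1 := hT x hx _ (hpow i _ (hP p hp w hw))
  have e : x * ρ ^ i * p * w * (x * ρ ^ i * p)⁻¹ = x * (ρ ^ i * (p * w * p⁻¹) * (ρ ^ i)⁻¹) * x⁻¹ := by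
    group
  rw [e]; exact h1

theorem C2.a_ne_w0 (s : Setup H P T K y ρ n) (c : C2 H P T V Z w0) : ρ * w0 * ρ⁻¹ ≠ w0 := by
  intro h
  apply c.hw0H
  apply s.central_of
  · intro x hx; exact (c.hVc w0 c.hw0V x hx).symm
  · intro p hp; exact c.w0_comm_P hp
  · have : ρ * w0 = (ρ * w0 * ρ⁻¹) * ρ := by group
    rw [this, h]

theorem C2.a_ne_one (c : C2 H P T V Z w0) : ρ * w0 * ρ⁻¹ ≠ 1 := by
  intro h
  apply c.hw01
  have : w0 = ρ⁻¹ * (ρ * w0 * ρ⁻¹) * ρ := by group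
  rw [this, h]; group

/-- `ρ a ρ⁻¹ ∈ {w0, a w0}` -/
theorem C2.rho_a (s : Setup H P T K y ρ n) (c : C2 H P T V Z w0) :
    ρ * (ρ * w0 * ρ⁻¹) * ρ⁻¹ = w0 ∨ ρ * (ρ * w0 * ρ⁻¹) * ρ⁻¹ = (ρ * w0 * ρ⁻¹) * w0 := by
  obtain ⟨t, ht, htT⟩ := s.hPT
  have hρH : ρ ∈ H := s.hKH s.hρK
  have hx : t * ρ * t⁻¹ * ρ ∈ T := s.hinv t ht htT ρ s.hρK
  have hb : ρ⁻¹ * w0 * ρ ∈ V := c.toC2a.inv_conj_V hρH c.hw0V
  -- ρ² w0 ρ⁻² = ρ t (ρ⁻¹ w0 ρ) t⁻¹ ρ⁻¹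
  have hxc := c.hVc w0 c.hw0V _ hx
  have htc := c.w0_comm_P ht
  have key : ρ * (ρ * w0 * ρ⁻¹) * ρ⁻¹ = ρ * (t * (ρ⁻¹ * w0 * ρ) * t⁻¹) * ρ⁻¹ := by
    have e1 : ρ * (ρ * w0 * ρ⁻¹) * ρ⁻¹
        = (ρ * t * ρ⁻¹ * t⁻¹) * ((t * ρ * t⁻¹ * ρ) * w0 * (t * ρ * t⁻¹ * ρ)⁻¹) *
          (ρ * t * ρ⁻¹ * t⁻¹)⁻¹ := by group
    have e2 : (t * ρ * t⁻¹ * ρ) * w0 * (t * ρ * t⁻¹ * ρ)⁻¹ = w0 := by
      rw [← hxc]; group
    rw [e1, e2]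
    have e3 : (ρ * t * ρ⁻¹ * t⁻¹) * w0 * (ρ * t * ρ⁻¹ * t⁻¹)⁻¹
        = ρ * t * ρ⁻¹ * (t⁻¹ * (w0 * t)) * ρ * t⁻¹ * ρ⁻¹ := by group
    rw [e3, ← htc]
    group
  rw [key]
  rcases c.hw0 t ht _ hb with h | h
  · left
    have e : t * (ρ⁻¹ * w0 * ρ) * t⁻¹ = (t * (ρ⁻¹ * w0 * ρ) * t⁻¹ * (ρ⁻¹ * w0 * ρ)⁻¹) * (ρ⁻¹ * w0 * ρ) := by
      group
    rw [e, h]; group
  · right
    have e : t * (ρ⁻¹ * w0 * ρ) * t⁻¹ = (t * (ρ⁻¹ * w0 * ρ) * t⁻¹ * (ρ⁻¹ * w0 * ρ)⁻¹) * (ρ⁻¹ * w0 * ρ) := by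
      group
    rw [e, h]; group

theorem iia_W [Finite G] (s : Setup H P T K y ρ n) (c : C2 H P T V Z w0) :
    ∃ W : Subgroup G, IsW H V W w0 := by
  have hρH : ρ ∈ H := s.hKH s.hρK
  have haV : ρ * w0 * ρ⁻¹ ∈ V := c.hVn ρ hρH w0 c.hw0V
  have ha2 : (ρ * w0 * ρ⁻¹) * (ρ * w0 * ρ⁻¹) = 1 := c.hV2 _ haV
  have hc : (ρ * w0 * ρ⁻¹) * w0 = w0 * (ρ * w0 * ρ⁻¹) := c.toC2a.comm_V haV c.hw0V
  have hmem : ∀ g, g ∈ four w0 (ρ * w0 * ρ⁻¹) c.w0_sq ha2 hc → g ∈ V := by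
    intro g hg
    rcases hg with rfl | rfl | rfl | rfl
    · exact V.one_mem
    · exact c.hw0V
    · exact haV
    · exact V.mul_mem haV c.hw0V
  refine ⟨four w0 (ρ * w0 * ρ⁻¹) c.w0_sq ha2 hc, hmem, ?_, Or.inr (Or.inl rfl),
    card_four c.hw01 c.a_ne_one (c.a_ne_w0 s)⟩
  apply s.inv_of
  · intro x hx w hw
    have := c.hVc w (hmem w hw) x hx
    have e : x * w * x⁻¹ = w := by rw [← this]; group
    rw [e]; exact hw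
  · intro p hp w hw
    have hw0p : p * w0 * p⁻¹ = w0 := by rw [c.w0_comm_P hp]; group
    have hap : p * (ρ * w0 * ρ⁻¹) * p⁻¹ = ρ * w0 * ρ⁻¹ ∨
        p * (ρ * w0 * ρ⁻¹) * p⁻¹ = (ρ * w0 * ρ⁻¹) * w0 := by
      rcases c.hw0 p hp _ haV with h | h
      · left
        have e : p * (ρ * w0 * ρ⁻¹) * p⁻¹
            = (p * (ρ * w0 * ρ⁻¹) * p⁻¹ * (ρ * w0 * ρ⁻¹)⁻¹) * (ρ * w0 * ρ⁻¹) := by group
        rw [e, h, one_mul]
      · right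
        have e : p * (ρ * w0 * ρ⁻¹) * p⁻¹
            = (p * (ρ * w0 * ρ⁻¹) * p⁻¹ * (ρ * w0 * ρ⁻¹)⁻¹) * (ρ * w0 * ρ⁻¹) := by group
        rw [e, h, hc]
    rcases hw with rfl | rfl | rfl | rfl
    · left; group
    · right; left; exact hw0p
    · rcases hap with h | h
      · right; right; left; exact h
      · right; right; right; exact h
    · have e : p * ((ρ * w0 * ρ⁻¹) * w0) * p⁻¹ = (p * (ρ * w0 * ρ⁻¹) * p⁻¹) * (p * w0 * p⁻¹) := by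
        group
      rw [e, hw0p]
      rcases hap with h | h
      · right; right; right; rw [h]
      · right; right; left
        rw [h, mul_assoc, c.w0_sq, mul_one]
  · intro w hw
    have hra := c.rho_a s
    rcases hw with rfl | rfl | rfl | rfl
    · left; group
    · right; right; left; rfl
    · rcases hra with h | h
      · right; left; exact h
      · right; right; right; exact h
    · have e : ρ * ((ρ * w0 * ρ⁻¹) * w0) * ρ⁻¹ = (ρ * (ρ * w0 * ρ⁻¹) * ρ⁻¹) * (ρ * w0 * ρ⁻¹) := by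
        group
      rw [e]
      rcases hra with h | h
      · right; right; right
        rw [h, hc]
      · right; left
        rw [h, hc, mul_assoc, ha2, mul_one]

end Cfsg.Agent.Lib.Helper2.PU
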