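import Mathlib
import Cfsg.Agent.Lib.Helper4.BNPair

set_option autoImplicit false
set_option linter.style.haveILetI false

/-!
# D4INV farm (S2183), abstract part 0: a group generated by two involutions `x`, `y` with `x y` of
order 6 is `DihedralGroup 6`; the word length with respect to `{x, y}`.
-/

namespace Cfsg.Agent.Lib.Helper2.D4Inv

open Cfsg Cfsg.Agent.Lib.Helper4.BNAbstract DihedralGroup

/-- the length function of `DihedralGroup 6` with respect to `sr 0`, `sr 1` -/
def dlen : DihedralGroup 6 → ℕ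
  | r k => min (2 * k.val) (12 - 2 * k.val)
  | sr k => if k.val = 0 ∨ k.val = 1 then 1 else if k.val = 2 ∨ k.val = 5 then 3 else 5

theorem dlen_le : ∀ d : DihedralGroup 6, dlen d ≤ 6 := by decide

theorem dlen_eq_zero : ∀ d : DihedralGroup 6, dlen d = 0 → d = 1 := by decide

theorem dlen_step : ∀ d : DihedralGroup 6, dlen (sr 0 * d) ≤ dlen d + 1 ∧ dlen (sr 1 * d) ≤ dlen d + 1 := by
  decide

theorem dlen_pred : ∀ d : DihedralGroup 6, d ≠ 1 →
    (dlen (sr 0 * d) + 1 = dlen d) ∨ (dlen (sr 1 * d) + 1 = dlen d) := by decide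

theorem dlen_invol : ∀ d : DihedralGroup 6, d * d = 1 →
    d = 1 ∨ d = r 3 ∨ d = sr 0 ∨ d = sr 1 ∨ d = sr 2 ∨ d = sr 3 ∨ d = sr 4 ∨ d = sr 5 := by decide

section iso

variable {W : Type*} [Group W] (x y : W)

/-- `ρ^k` for `k : ZMod 6` -/
def zp (k : ZMod 6) : W := (x * y) ^ k.val

variable {x y}

theorem zp_add (h6 : (x * y) ^ 6 = 1) (i j : ZMod 6) : zp x y (i + j) = zp x y i * zp x y j := by
  unfold zp
  rw [← pow_add, ZMod.val_add]
  have h := Nat.div_add_mod (i.val + j.val) 6
  conv_rhs => rw [← h, pow_add, pow_mul, h6, one_pow, one_mul]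

theorem zp_zero : zp x y 0 = 1 := by
  unfold zp
  simp

theorem zp_neg (h6 : (x * y) ^ 6 = 1) (i : ZMod 6) : zp x y (-i) = (zp x y i)⁻¹ := by
  have h := zp_add h6 (-i) i
  rw [neg_add_cancel, zp_zero] at h
  exact eq_inv_of_mul_eq_one_left h.symm

theorem x_conj_zp (hx : x * x = 1) (hy : y * y = 1) (k : ℕ) :
    x * (x * y) ^ k * x = ((x * y) ^ k)⁻¹ := by
  have hxi : x⁻¹ = x := inv_eq_of_mul_eq_one_right hx
  have hyi : y⁻¹ = y := inv_eq_of_mul_eq_one_right hy
  induction k with
  | zero => simp [hx]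
  | succ k ih =>
    have e1 : x * (x * y) ^ (k + 1) * x = (x * (x * y) ^ k * x) * (x * (x * y) * x) := by
      rw [pow_succ]
      have : x * (x * y) ^ k * x * (x * (x * y) * x) = x * (x * y) ^ k * (x * x) * (x * y) * x := by
        group
      rw [this, hx, mul_one]
      group
    have e2 : x * (x * y) * x = (x * y)⁻¹ := by
      rw [mul_inv_rev, hxi, hyi, ← mul_assoc, hx, one_mul]
    rw [e1, ih, e2, ← mul_inv_rev, ← pow_succ']

theorem zp_x (hx : x * x = 1) (hy : y * y = 1) (h6 : (x * y) ^ 6 = 1) (i : ZMod 6) :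
    zp x y i * x = x * zp x y (-i) := by
  rw [zp_neg h6]
  have h := x_conj_zp hx hy i.val
  unfold zp
  rw [← h]
  have : x * (x * (x * y) ^ i.val * x) = (x * x) * (x * y) ^ i.val * x := by group
  rw [this, hx, one_mul]

/-- the homomorphism `DihedralGroup 6 → W` -/
def dfun (x y : W) : DihedralGroup 6 → W
  | r k => zp x y k
  | sr k => x * zp x y k

theorem dfun_mul (hx : x * x = 1) (hy : y * y = 1) (h6 : (x * y) ^ 6 = 1)
    (d d' : DihedralGroup 6) : dfun x y (d * d') = dfun x y d * dfun x y d' := by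
  rcases d with i | i <;> rcases d' with j | j
  · show zp x y (i + j) = _
    rw [zp_add h6]
    rfl
  · show x * zp x y (j - i) = zp x y i * (x * zp x y j)
    rw [← mul_assoc, zp_x hx hy h6, mul_assoc, ← zp_add h6, neg_add_eq_sub]
  · show x * zp x y (i + j) = x * zp x y i * zp x y j
    rw [zp_add h6, mul_assoc]
  · show zp x y (j - i) = x * zp x y i * (x * zp x y j)
    have : x * zp x y i * (x * zp x y j) = x * (zp x y i * x) * zp x y j := by group
    rw [this, zp_x hx hy h6, ← mul_assoc, hx, one_mul, ← zp_add h6, neg_add_eq_sub]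

/-- the homomorphism `DihedralGroup 6 → W` -/
def dhom (hx : x * x = 1) (hy : y * y = 1) (h6 : (x * y) ^ 6 = 1) : DihedralGroup 6 →* W where
  toFun := dfun x y
  map_one' := by
    show zp x y 0 = 1
    exact zp_zero
  map_mul' := dfun_mul hx hy h6

theorem dhom_sr0 (hx : x * x = 1) (hy : y * y = 1) (h6 : (x * y) ^ 6 = 1) :
    dhom hx hy h6 (sr 0) = x := by
  show x * zp x y 0 = x
  rw [zp_zero, mul_one]

theorem dhom_sr1 (hx : x * x = 1) (hy : y * y = 1) (h6 : (x * y) ^ 6 = 1) :
    dhom hx hy h6 (sr 1) = y := by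
  show x * zp x y 1 = y
  unfold zp
  have : (1 : ZMod 6).val = 1 := rfl
  rw [this, pow_one, ← mul_assoc, hx, one_mul]

theorem dhom_injective (hx : x * x = 1) (hy : y * y = 1) (hord : orderOf (x * y) = 6) :
    Function.Injective (dhom hx hy (hord ▸ pow_orderOf_eq_one (x * y))) := by
  have h6 : (x * y) ^ 6 = 1 := hord ▸ pow_orderOf_eq_one (x * y)
  rw [injective_iff_map_eq_one]
  intro d hd
  rcases d with i | i
  · -- ρ^i = 1
    have h1 : (x * y) ^ i.val = 1 := hd
    have h2 := orderOf_dvd_of_pow_eq_one h1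
    rw [hord] at h2
    have h3 : i.val < 6 := ZMod.val_lt i
    have h4 : i.val = 0 := by
      rcases h2 with ⟨c, hc⟩
      omega
    have : i = 0 := by
      rw [← ZMod.natCast_zmod_val i, h4]
      rfl
    rw [this]
    rfl
  · -- x ρ^i = 1 : impossible
    exfalso
    have h1 : x * (x * y) ^ i.val = 1 := hd
    have h2 : (x * y) ^ i.val = x := by
      have := congrArg (fun z => x * z) h1
      simp only [mul_one] at this
      rw [← mul_assoc, hx, one_mul] at this
      exact this
    -- then x commutes with ρ^i hence ... ρ^(2 i) = 1 and x = ρ^i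
    have h3 := x_conj_zp hx hy i.val
    rw [h2, hx, one_mul] at h3
    -- x = x⁻¹ fine; use instead conjugating ρ
    have hc : Commute x (x * y) := by
      have : Commute ((x * y) ^ i.val) (x * y) := (Commute.refl _).pow_left _
      rwa [h2] at this
    have h4 : x * (x * y) * x = (x * y)⁻¹ := by
      have := x_conj_zp hx hy 1
      rwa [pow_one] at this
    have h5 : x * (x * y) * x = x * y := by
      rw [hc.eq, mul_assoc, hx, mul_one]
    have h6' : (x * y) ^ 2 = 1 := by
      rw [pow_two]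
      have : (x * y)⁻¹ = x * y := by rw [← h4, h5]
      calc (x * y) * (x * y) = (x * y) * (x * y)⁻¹ := by rw [this]
        _ = 1 := mul_inv_cancel _
    have := orderOf_dvd_of_pow_eq_one h6'
    rw [hord] at this
    omega

end iso

end Cfsg.Agent.Lib.Helper2.D4Inv
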