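import Mathlib
import Cfsg.Agent.Lib.Helper4.BNPair
import Cfsg.Agent.Lib.Helper2.D4InvA1

set_option autoImplicit false
set_option linter.style.haveILetI false

/-!
# D4INV farm (S2183), Unit A: in a `(B, N)`-pair of type `G₂` every involution is conjugate
into `N`.
-/

namespace Cfsg.Agent.Lib.Helper2.D4Inv

open Cfsg Cfsg.Agent.Lib.Helper4.BNAbstract Cfsg.Agent.Lib.Helper4.BNPair DihedralGroup

variable {G : Type*} [Group G]

theorem d4_tbl : dlen (sr 0) < dlen (sr 1 * sr 0) ∧ dlen (sr 0 * sr 1) < dlen (sr 1 * (sr 0 * sr 1)) ∧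
    ¬ dlen (sr 1 * (sr 0 * sr 1)) ≤ dlen (sr 0) ∧
    dlen (sr 1) < dlen (sr 0 * sr 1) ∧ dlen (sr 1 * sr 0) < dlen (sr 0 * (sr 1 * sr 0)) ∧
    ¬ dlen (sr 0 * (sr 1 * sr 0)) ≤ dlen (sr 1) ∧
    dlen (sr 5) < dlen (sr 1 * sr 5) ∧ dlen (sr 5 * sr 1) < dlen (sr 1 * (sr 5 * sr 1)) ∧
    ¬ dlen (sr 1 * (sr 5 * sr 1)) ≤ dlen (sr 5) ∧
    dlen (sr 2) < dlen (sr 0 * sr 2) ∧ dlen (sr 2 * sr 0) < dlen (sr 0 * (sr 2 * sr 0)) ∧
    ¬ dlen (sr 0 * (sr 2 * sr 0)) ≤ dlen (sr 2) := by decide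

theorem d4_tbl2 : (sr 0 * sr 1 : DihedralGroup 6) ^ 3 = r 3 ∧
    (sr 1 * (sr 0 * sr 1) ^ 3 : DihedralGroup 6) = sr 4 ∧
    (sr 0 * (sr 0 * sr 1) ^ 3 : DihedralGroup 6) = sr 3 ∧
    (r 3 * r 3 : DihedralGroup 6) = 1 ∧ (sr 4 * sr 4 : DihedralGroup 6) = 1 ∧
    (sr 3 * sr 3 : DihedralGroup 6) = 1 ∧
    (sr 1 * sr 4 * (sr 1)⁻¹ : DihedralGroup 6) = sr 4 ∧
    (sr 0 * sr 3 * (sr 0)⁻¹ : DihedralGroup 6) = sr 3 ∧
    dlen (sr 4) < dlen (sr 1 * sr 4) ∧ ¬ dlen (sr 1 * sr 4) ≤ dlen (sr 4) ∧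
    dlen (sr 3) < dlen (sr 0 * sr 3) ∧ ¬ dlen (sr 0 * sr 3) ≤ dlen (sr 3) := by decide

/-- Unit A: every `t` with `t² = 1` is conjugate into `N`. -/
theorem invol_conj_mem_N (P : BNPair G) (a b : G) (hS : P.S = {a, b})
    (hord : orderOf (π P a * π P b) = 6)
    (hOpp : ∀ c ∈ P.B, (a * b) ^ 3 * c * ((a * b) ^ 3)⁻¹ ∈ P.B → c ∈ P.N)
    (hW1 : ∀ c ∈ P.B, (b * (a * b) ^ 3) * c * (b * (a * b) ^ 3)⁻¹ ∈ P.B → b * c * b⁻¹ ∈ P.B →
      c ∈ P.N)
    (hW2 : ∀ c ∈ P.B, (a * (a * b) ^ 3) * c * (a * (a * b) ^ 3)⁻¹ ∈ P.B → a * c * a⁻¹ ∈ P.B →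
      c ∈ P.N)
    (t : G) (ht : t * t = 1) : ∃ g : G, g * t * g⁻¹ ∈ P.N := by
  classical
  have haS := d4_a_mem P a b hS
  have hbS := d4_b_mem P a b hS
  have haN : a ∈ P.N := S_mem_N haS
  have hbN : b ∈ P.N := S_mem_N hbS
  have hxS : π P a ∈ SW P := π_mem_SW haS
  have hyS : π P b ∈ SW P := π_mem_SW hbS
  have hxx : π P a * π P a = 1 := π_S_sq haS
  have hyy : π P b * π P b = 1 := π_S_sq hbS
  have hxi : (π P a)⁻¹ = π P a := inv_eq_of_mul_eq_one_right hxx
  have hyi : (π P b)⁻¹ = π P b := inv_eq_of_mul_eq_one_right hyy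
  set e := d4_e P a b hS hord with he
  have hex : e (π P a) = sr 0 := d4_e_a P a b hS hord
  have hey : e (π P b) = sr 1 := d4_e_b P a b hS hord
  have hPs := d4_mem_Ps P a b hS hord
  have haC : a ∈ Cw P (π P a) := mem_Cw_π haN
  have hbC : b ∈ Cw P (π P b) := mem_Cw_π hbN
  -- the maximal conjugate
  have hcell : ∀ g : G, ∃ w : W P, g ∈ Cw P w := exists_Cw
  let L : G → ℕ := fun g => dlen (e (Classical.choose (hcell (g * t * g⁻¹))))
  obtain ⟨g0, hg0⟩ : ∃ g0, ∀ g, L g ≤ L g0 := by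
    by_contra hcon
    push Not at hcon
    have hunb : ∀ k : ℕ, ∃ g, k ≤ L g := by
      intro k
      induction k with
      | zero => exact ⟨1, Nat.zero_le _⟩
      | succ k ih =>
        obtain ⟨g, hg⟩ := ih
        obtain ⟨g', hg'⟩ := hcon g
        exact ⟨g', by omega⟩
    obtain ⟨g, hg⟩ := hunb 7
    have := dlen_le (e (Classical.choose (hcell (g * t * g⁻¹))))
    have h2 : L g = dlen (e (Classical.choose (hcell (g * t * g⁻¹)))) := rfl
    omega
  obtain ⟨t', ht'⟩ : ∃ t', t' = g0 * t * g0⁻¹ := ⟨_, rfl⟩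
  obtain ⟨w, hw⟩ : ∃ w, w = Classical.choose (hcell (g0 * t * g0⁻¹)) := ⟨_, rfl⟩
  have hwt : t' ∈ Cw P w := by
    rw [ht', hw]
    exact Classical.choose_spec (hcell _)
  have ht'2 : t' * t' = 1 := by
    rw [ht']
    have : g0 * t * g0⁻¹ * (g0 * t * g0⁻¹) = g0 * (t * t) * g0⁻¹ := by group
    rw [this, ht, mul_one, mul_inv_cancel]
  have ht'i : t'⁻¹ = t' := inv_eq_of_mul_eq_one_right ht'2
  have hmax : ∀ g : G, ∀ w' : W P, g * t' * g⁻¹ ∈ Cw P w' → dlen (e w') ≤ dlen (e w) := by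
    intro g w' hg
    have h1 := hg0 (g * g0)
    have e1 : g * g0 * t * (g * g0)⁻¹ = g * t' * g⁻¹ := by rw [ht']; group
    have h2 : Classical.choose (hcell (g * g0 * t * (g * g0)⁻¹)) = w' := by
      apply Cw_inj (Classical.choose_spec (hcell _))
      rw [e1]
      exact hg
    have h3 : L (g * g0) = dlen (e w') := by
      show dlen (e (Classical.choose (hcell (g * g0 * t * (g * g0)⁻¹)))) = _
      rw [h2]
    have h4 : L g0 = dlen (e w) := by
      show dlen (e (Classical.choose (hcell (g0 * t * g0⁻¹)))) = _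
      rw [← hw]
    omega
  -- it suffices to conjugate `t'` into `N`
  suffices hsuf : ∃ g' : G, g' * t' * g'⁻¹ ∈ P.N by
    obtain ⟨g', hg'⟩ := hsuf
    refine ⟨g' * g0, ?_⟩
    have : g' * g0 * t * (g' * g0)⁻¹ = g' * t' * g'⁻¹ := by rw [ht']; group
    rw [this]
    exact hg'
  -- `w` is an involution
  have hwi : w⁻¹ = w := by
    have := Cw_inv hwt
    rw [ht'i] at this
    exact Cw_inj this hwt
  have hww : w * w = 1 := by
    have := inv_mul_cancel w
    rwa [hwi] at this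
  have hdd : e w * e w = 1 := by rw [← map_mul, hww, map_one]
  -- conjugation by a generator
  have conjcell : ∀ s : W P, s ∈ SW P → ∀ gs : G, gs ∈ Cw P s → w ∈ Ps P s → w * s ∈ Ps P s →
      gs * t' * gs⁻¹ ∈ Cw P (s * (w * s)) := by
    intro s hs gs hgs h1 h2
    have hsi : s⁻¹ = s := inv_eq_of_mul_eq_one_right ((genInv (P := P)).sq s hs)
    have hA : gs * t' ∈ Cw P (s * w) := h1 gs hgs t' hwt
    have hAi : (gs * t')⁻¹ ∈ Cw P (w * s) := by
      have := Cw_inv hA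
      rwa [mul_inv_rev, hwi, hsi] at this
    have := h2 gs hgs _ hAi
    have e1 : gs * (gs * t')⁻¹ = gs * t' * gs⁻¹ := by
      rw [mul_inv_rev, ht'i]
      group
    rwa [e1] at this
  -- the general reduction for `w = π n`
  have key : ∀ n ∈ P.N, π P n = w → ∃ c ∈ P.B, ∃ g' : G, g' * t' * g'⁻¹ = c * n ∧
      n * c * n⁻¹ ∈ P.B := by
    intro n hn hπ
    have h1 : t' ∈ C P n := by
      rw [← Cw_π hn, hπ]
      exact hwt
    obtain ⟨b1, hb1, b2, hb2, e1⟩ := mem_C.1 h1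
    refine ⟨b2 * b1, mul_mem hb2 hb1, b2, ?_, ?_⟩
    · rw [e1]
      group
    · -- (c n)(c n) = 1
      have hnn : n * n ∈ P.B := by
        rw [← π_eq_one_iff (mul_mem hn hn), π_mul hn hn, hπ, hww]
      have e2 : (b2 * b1 * n) * (b2 * b1 * n) = 1 := by
        have : b2 * b1 * n * (b2 * b1 * n) = b2 * (b1 * n * b2 * (b1 * n * b2)) * b2⁻¹ := by group
        rw [this, ← e1, ht'2, mul_one, mul_inv_cancel]
      have e3 : n * (b2 * b1) * n⁻¹ = (b2 * b1)⁻¹ * (n * n)⁻¹ := by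
        have h : (b2 * b1)⁻¹ * (n * n)⁻¹ = (b2 * b1)⁻¹ * (b2 * b1 * n * (b2 * b1 * n)) * n⁻¹ * n⁻¹ := by
          rw [e2]
          group
        rw [h]
        group
      rw [e3]
      exact mul_mem (inv_mem (mul_mem hb2 hb1)) (inv_mem hnn)
  have hn0 : (a * b) ^ 3 ∈ P.N := pow_mem (mul_mem haN hbN) 3
  have hπ0 : e (π P ((a * b) ^ 3)) = r 3 := by
    rw [d4_π_pow P (mul_mem haN hbN), π_mul haN hbN, map_pow, map_mul, hex, hey]
    exact d4_tbl2.1
  obtain ⟨T1, T2, T3, T4, T5, T6, T7, T8, T9, T10, T11, T12⟩ := d4_tbl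
  obtain ⟨-, U2, U3, U4, U5, U6, U7, U8, U9, U10, U11, U12⟩ := d4_tbl2
  rcases dlen_invol (e w) hdd with h | h | h | h | h | h | h | h
  · -- w = 1
    have hw1 : w = 1 := e.injective (h.trans (map_one e).symm)
    have htB : t' ∈ P.B := by
      have := hwt
      rwa [hw1, Cw_one] at this
    refine ⟨1, ?_⟩
    rw [one_mul, inv_one, mul_one]
    apply hOpp t' htB
    obtain ⟨w', hw'⟩ := hcell ((a * b) ^ 3 * t' * ((a * b) ^ 3)⁻¹)
    have h1 := hmax _ w' hw'
    rw [h, dlen_one] at h1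
    have h2 : e w' = 1 := dlen_eq_zero _ (by omega)
    have h3 : w' = 1 := e.injective (h2.trans (map_one e).symm)
    rw [h3, Cw_one] at hw'
    exact hw'
  · -- w = w₀
    have hπ : π P ((a * b) ^ 3) = w := e.injective (hπ0.trans h.symm)
    obtain ⟨c, hc, g', e1, h1⟩ := key _ hn0 hπ
    exact ⟨g', by rw [e1]; exact mul_mem (hOpp c hc h1) hn0⟩
  · -- w = x : conjugate by b
    exfalso
    have p1 : w ∈ Ps P (π P b) := by rw [hPs _ hyS, h, hey]; exact T1
    have p2 : w * π P b ∈ Ps P (π P b) := by rw [hPs _ hyS, map_mul, h, hey]; exact T2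
    have := hmax b _ (conjcell _ hyS b hbC p1 p2)
    rw [map_mul, map_mul, h, hey] at this
    exact T3 this
  · -- w = y : conjugate by a
    exfalso
    have p1 : w ∈ Ps P (π P a) := by rw [hPs _ hxS, h, hex]; exact T4
    have p2 : w * π P a ∈ Ps P (π P a) := by rw [hPs _ hxS, map_mul, h, hex]; exact T5
    have := hmax a _ (conjcell _ hxS a haC p1 p2)
    rw [map_mul, map_mul, h, hex] at this
    exact T6 this
  · -- w = sr 2 : conjugate by a
    exfalso
    have p1 : w ∈ Ps P (π P a) := by rw [hPs _ hxS, h, hex]; exact T10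
    have p2 : w * π P a ∈ Ps P (π P a) := by rw [hPs _ hxS, map_mul, h, hex]; exact T11
    have := hmax a _ (conjcell _ hxS a haC p1 p2)
    rw [map_mul, map_mul, h, hex] at this
    exact T12 this
  · -- w = sr 3 = x w₀
    have hn2 : a * (a * b) ^ 3 ∈ P.N := mul_mem haN hn0
    have hπ2 : π P (a * (a * b) ^ 3) = w := by
      apply e.injective
      rw [π_mul haN hn0, map_mul, hπ0, hex, h]
      decide
    obtain ⟨c, hc, g', e1, h1⟩ := key _ hn2 hπ2
    have h2 : a * c * a⁻¹ ∈ P.B := by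
      by_contra hnot
      have hac : a * c ∈ Cw P (π P a) := Cw_closed_right hc haC
      have hai : a⁻¹ ∈ Cw P (π P a) := by
        have := Cw_inv haC
        rwa [hxi] at this
      have h3 : a * c * a⁻¹ ∈ Cw P (π P a) := by
        rcases T3wr hxS hac hai with h4 | h4
        · rw [hxx, Cw_one] at h4
          exact absurd h4 hnot
        · exact h4
      have h5 : a * (a * (a * b) ^ 3) * a⁻¹ ∈ Cw P w := by
        have hm : a * (a * (a * b) ^ 3) * a⁻¹ ∈ P.N := mul_mem (mul_mem haN hn2) (inv_mem haN)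
        have : π P (a * (a * (a * b) ^ 3) * a⁻¹) = w := by
          apply e.injective
          rw [π_mul (mul_mem haN hn2) (inv_mem haN), π_mul haN hn2, π_inv haN, hπ2, map_mul,
            map_mul, map_inv, hex, h]
          exact U8
        rw [← this]
        exact mem_Cw_π hm
      have p1 : w ∈ Ps P (π P a) := by rw [hPs _ hxS, h, hex]; exact U11
      have h6 := p1 _ h3 _ h5
      have e2 : a * c * a⁻¹ * (a * (a * (a * b) ^ 3) * a⁻¹) = (a * g') * t' * (a * g')⁻¹ := by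
        have : (a * g') * t' * (a * g')⁻¹ = a * (g' * t' * g'⁻¹) * a⁻¹ := by group
        rw [this, e1]
        group
      rw [e2] at h6
      have := hmax _ _ h6
      rw [map_mul, hex, h] at this
      exact U12 this
    exact ⟨g', by rw [e1]; exact mul_mem (hW2 c hc h1 h2) hn2⟩
  · -- w = sr 4 = y w₀
    have hn1 : b * (a * b) ^ 3 ∈ P.N := mul_mem hbN hn0
    have hπ1 : π P (b * (a * b) ^ 3) = w := by
      apply e.injective
      rw [π_mul hbN hn0, map_mul, hπ0, hey, h]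
      decide
    obtain ⟨c, hc, g', e1, h1⟩ := key _ hn1 hπ1
    have h2 : b * c * b⁻¹ ∈ P.B := by
      by_contra hnot
      have hbc : b * c ∈ Cw P (π P b) := Cw_closed_right hc hbC
      have hbi : b⁻¹ ∈ Cw P (π P b) := by
        have := Cw_inv hbC
        rwa [hyi] at this
      have h3 : b * c * b⁻¹ ∈ Cw P (π P b) := by
        rcases T3wr hyS hbc hbi with h4 | h4
        · rw [hyy, Cw_one] at h4
          exact absurd h4 hnot
        · exact h4
      have h5 : b * (b * (a * b) ^ 3) * b⁻¹ ∈ Cw P w := by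
        have hm : b * (b * (a * b) ^ 3) * b⁻¹ ∈ P.N := mul_mem (mul_mem hbN hn1) (inv_mem hbN)
        have : π P (b * (b * (a * b) ^ 3) * b⁻¹) = w := by
          apply e.injective
          rw [π_mul (mul_mem hbN hn1) (inv_mem hbN), π_mul hbN hn1, π_inv hbN, hπ1, map_mul,
            map_mul, map_inv, hey, h]
          exact U7
        rw [← this]
        exact mem_Cw_π hm
      have p1 : w ∈ Ps P (π P b) := by rw [hPs _ hyS, h, hey]; exact U9
      have h6 := p1 _ h3 _ h5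
      have e2 : b * c * b⁻¹ * (b * (b * (a * b) ^ 3) * b⁻¹) = (b * g') * t' * (b * g')⁻¹ := by
        have : (b * g') * t' * (b * g')⁻¹ = b * (g' * t' * g'⁻¹) * b⁻¹ := by group
        rw [this, e1]
        group
      rw [e2] at h6
      have := hmax _ _ h6
      rw [map_mul, hey, h] at this
      exact U10 this
    exact ⟨g', by rw [e1]; exact mul_mem (hW1 c hc h1 h2) hn1⟩
  · -- w = sr 5 : conjugate by b
    exfalso
    have p1 : w ∈ Ps P (π P b) := by rw [hPs _ hyS, h, hey]; exact T7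
    have p2 : w * π P b ∈ Ps P (π P b) := by rw [hPs _ hyS, map_mul, h, hey]; exact T8
    have := hmax b _ (conjcell _ hyS b hbC p1 p2)
    rw [map_mul, map_mul, h, hey] at this
    exact T9 this

end Cfsg.Agent.Lib.Helper2.D4Inv
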