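import Mathlib
import Cfsg.Agent.Lib.Helper5.Tw3D4BN
import Cfsg.Agent.Lib.Helper5.TwAutInst
import Cfsg.Agent.Lib.Helper4.BNPair

set_option autoImplicit false
set_option linter.style.haveILetI false

/-!
# D4INV farm (S2183: `³D₄(q)`, `q` even, has exactly two classes of involutions): definitions

`G1 = twistedD4 K q`; `P4` its `(B, N)`-pair; `a4 = n_{[0,2,3]}`, `b4 = n_{[1]}` the two
distinguished elements of `N ∩ G1`; the twisted root elements `xa ya xb yb` with parameter `1`.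
-/

namespace Cfsg.Agent.Lib.Helper2.D4Inv

open Cfsg Cfsg.Lie Cfsg.Agent.Lib.Helper5 Cfsg.Agent.Lib.Helper5.TwAut Cfsg.Agent.Lib.Helper5.Tw3D4
  Cfsg.Agent.Lib.Helper5.ChevSym Cfsg.Agent.Lib.Helper5.ChevStruct

variable {K : Type*} [Field K] [Fintype K] {q : ℕ} (hq : IsPrimePow q)
  (hK : Fintype.card K = q ^ 3) (f : K →+* K) (hf : ∀ x, f x = x ^ q)
  (hf3 : ∀ x, f (f (f x)) = x)

/-- the `(B, N)`-pair of `³D₄(q)` -/
noncomputable def P4 : BNPair ↥(twistedD4 K q) :=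
  twistedBNPair chevD4 hD4 gD4a chkGraphPerm_gD4a f rho4 orbits (twistedD4 K q)
    (hyp4 hq hK f hf hf3)

/-- `n_a = n_{p₁} n_{p₃} n_{p₄}` (the short node) -/
noncomputable def a4 : ↥(twistedD4 K q) := ⟨wGL chevD4 hD4 [0, 2, 3], nJ_mem f hf [0, 2, 3] (by decide)⟩

/-- `n_b = n_{p₂}` (the long node) -/
noncomputable def b4 : ↥(twistedD4 K q) := ⟨wGL chevD4 hD4 [1], nJ_mem f hf [1] (by decide)⟩

end Cfsg.Agent.Lib.Helper2.D4Inv
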