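import Mathlib
import Cfsg.Agent.Lib.Helper2.D4InvDefs
import Cfsg.Agent.Lib.Helper5.ChevNSimple
import Cfsg.Agent.Lib.Helper5.ChevNConj

set_option autoImplicit false
set_option linter.style.haveILetI false

/-!
# D4INV farm (S2183), Unit C5: `n_a` and `n_b` are not conjugate in `³D₄(q)`, `q` even.

In the adjoint representation (in characteristic 2) `rank (n_a - 1) ≥ 11` (the reflection
`w_a = w_{p₁} w_{p₃} w_{p₄}` has 11 two-cycles on the roots) and `rank (n_b - 1) ≤ 10`
(`w_b = w_{p₂}` has 9 two-cycles, and the Cartan part contributes 1).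
-/

namespace Cfsg.Agent.Lib.Helper2.D4Inv

open Cfsg Cfsg.Lie Cfsg.Agent.Lib.Helper5 Cfsg.Agent.Lib.Helper5.TwAut Cfsg.Agent.Lib.Helper5.Tw3D4
  Cfsg.Agent.Lib.Helper5.ChevSym Cfsg.Agent.Lib.Helper5.ChevStruct

section rank

variable {K : Type*} [Field K] {m n I J : Type*} [Fintype m] [Fintype n] [Fintype I] [Fintype J]
  [DecidableEq n] [DecidableEq J]

/-- upper bound of the rank: every column is a multiple of one of `card I` columns -/
theorem c5_rank_le (M : Matrix m n K) (sel : I → n) (g : n → I) (d : n → K)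
    (h : ∀ row col, M row col = M row (sel (g col)) * d col) : M.rank ≤ Fintype.card I := by
  have e : M = ((M.submatrix id sel).submatrix id g) * Matrix.diagonal d := by
    ext row col
    rw [Matrix.mul_diagonal]
    exact h row col
  rw [e]
  exact (Matrix.rank_mul_le_left _ _).trans ((Matrix.rank_submatrix_le _ _ _).trans
    (Matrix.rank_le_card_width _))

/-- lower bound of the rank: an identity submatrix -/
theorem c5_le_rank (M : Matrix m n K) (r : J → m) (c : J → n)
    (h : M.submatrix r c = 1) : Fintype.card J ≤ M.rank := by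
  have := Matrix.rank_submatrix_le M r c
  rw [h, Matrix.rank_one] at this
  exact this

end rank

section mats

variable {K : Type*} [Field K] [CharP K 2]

/-- the reflection `w_{p_i}` on the indices of the roots -/
def c5_rho (i : ℕ) (s : Fin chevD4.nroots) : Fin chevD4.nroots :=
  if h : chevD4.reflectRoot i s.val < chevD4.nroots then ⟨_, h⟩ else s

theorem c5_rho_val (i : ℕ) (hi : i < chevD4.rank) (s : Fin chevD4.nroots) :
    (c5_rho i s).val = chevD4.reflectRoot i s.val := by
  unfold c5_rho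
  rw [dif_pos (reflectRoot_invol chevD4 hD4 i hi s.val s.2).1]

theorem c5_rho_invol (i : ℕ) (hi : i < chevD4.rank) (s : Fin chevD4.nroots) :
    c5_rho i (c5_rho i s) = s := by
  apply Fin.ext
  rw [c5_rho_val i hi, c5_rho_val i hi]
  exact (reflectRoot_invol chevD4 hD4 i hi s.val s.2).2

/-- the root columns are those of a permutation matrix -/
def C5PC (M : Matrix chevD4.Idx chevD4.Idx K)
    (ρ : Fin chevD4.nroots → Fin chevD4.nroots) : Prop :=
  ∀ (s : Fin chevD4.nroots) (row : chevD4.Idx),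
    M row (Sum.inr s) = if row = Sum.inr (ρ s) then 1 else 0

omit [CharP K 2] in
theorem C5PC.mul {M N : Matrix chevD4.Idx chevD4.Idx K}
    {ρ τ : Fin chevD4.nroots → Fin chevD4.nroots}
    (hM : C5PC M ρ) (hN : C5PC N τ) : C5PC (M * N) (ρ ∘ τ) := by
  intro s row
  rw [Matrix.mul_apply]
  simp only [hN s, mul_ite, mul_one, mul_zero, Finset.sum_ite_eq', Finset.mem_univ, if_true]
  exact hM (τ s) row

omit [CharP K 2] in
theorem c5_one : C5PC (1 : Matrix chevD4.Idx chevD4.Idx K) id := by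
  intro s row
  rw [Matrix.one_apply]
  rfl

theorem c5_nMat (i : ℕ) (hi : i < chevD4.rank) :
    C5PC (chevD4.nMat K (chevD4.simple i) 1) (c5_rho i) := by
  obtain ⟨hη, -, -, -, hM⟩ := nMat_simple (F := K) chevD4 hD4 i hi
  intro s row
  rw [hM]
  have hs : ((eta chevD4 i s.val : ℤ) : K) = 1 := by
    rcases hη s.val s.2 with h | h
    · rw [h, Int.cast_one]
    · rw [h, Int.cast_neg, Int.cast_one, CharTwo.neg_eq]
  rcases row with j | s'
  · simp [monoMat]
  · have hiff : ((s' : ℕ) = chevD4.reflectRoot i s.val) ↔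
        ((Sum.inr s' : chevD4.Idx) = Sum.inr (c5_rho i s)) := by
      rw [Sum.inr.injEq, Fin.ext_iff, c5_rho_val i hi]
    simp only [monoMat, Matrix.of_apply, Sum.elim_inr, hs]
    by_cases h : (s' : ℕ) = chevD4.reflectRoot i s.val
    · rw [if_pos h, if_pos (hiff.1 h)]
    · rw [if_neg h, if_neg (fun h' => h (hiff.2 h'))]

theorem c5_cartan_vals : chevD4.cartan 0 (chevD4.simple 1) = -1 := by decide

/-- the Cartan columns of `n_b - 1` -/
theorem c5_nMat_cartan (row : chevD4.Idx) (j : Fin chevD4.rank) :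
    (chevD4.nMat K (chevD4.simple 1) 1 - 1) row (Sum.inl j)
      = (chevD4.nMat K (chevD4.simple 1) 1 - 1) row (Sum.inl ⟨0, by decide⟩)
        * (-((chevD4.cartan j.val (chevD4.simple 1) : ℤ) : K)) := by
  obtain ⟨-, -, -, -, hM⟩ := nMat_simple (F := K) chevD4 hD4 1 (by decide)
  rw [hM]
  rcases row with j' | s'
  · simp only [Matrix.sub_apply, monoMat, Matrix.of_apply, Sum.elim_inl, Matrix.one_apply,
      Sum.inl.injEq, c5_cartan_vals]
    by_cases h : (j' : ℕ) = 1
    · simp only [if_pos h]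
      push_cast
      ring
    · simp only [if_neg h]
      ring
  · simp [monoMat, Matrix.one_apply]

/-- `w_a = w_{p₁} w_{p₃} w_{p₄}` on the indices of the roots -/
def c5_wa (s : Fin chevD4.nroots) : Fin chevD4.nroots := c5_rho 0 (c5_rho 2 (c5_rho 3 s))

theorem c5_wa_invol : ∀ s : Fin chevD4.nroots, c5_wa (c5_wa s) = s := by decide +kernel

theorem c5_card_A :
    Fintype.card {s : Fin chevD4.nroots // s.val < (c5_wa s).val} = 11 := by decide +kernel

theorem c5_card_B :
    Fintype.card ({s : Fin chevD4.nroots // s.val < (c5_rho 1 s).val} ⊕ Unit) = 10 := by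
  decide +kernel

/-- `rank (n_b - 1) ≤ 10` -/
theorem c5_rank_B : (chevD4.nMat K (chevD4.simple 1) 1 - 1).rank ≤ 10 := by
  have hB := c5_nMat (K := K) 1 (by decide)
  have hinv := c5_rho_invol 1 (by decide)
  have hcol : ∀ (s : Fin chevD4.nroots) (row : chevD4.Idx),
      (chevD4.nMat K (chevD4.simple 1) 1 - 1) row (Sum.inr s)
        = (if row = Sum.inr (c5_rho 1 s) then 1 else 0) - (if row = Sum.inr s then 1 else 0) := by
    intro s row
    rw [Matrix.sub_apply, hB s row, Matrix.one_apply]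
  refine le_of_le_of_eq (c5_rank_le (chevD4.nMat K (chevD4.simple 1) 1 - 1)
    (Sum.elim (fun k => Sum.inr k.1) (fun _ => Sum.inl ⟨0, by decide⟩))
    (Sum.elim (fun _ => Sum.inr ())
      (fun s => if h : s.val < (c5_rho 1 s).val then Sum.inl ⟨s, h⟩
        else if h' : (c5_rho 1 s).val < s.val then
          Sum.inl ⟨c5_rho 1 s, by rw [hinv s]; exact h'⟩
        else Sum.inr ()))
    (Sum.elim (fun j => -((chevD4.cartan j.val (chevD4.simple 1) : ℤ) : K))
      (fun s => if s.val = (c5_rho 1 s).val then 0 else 1)) ?_) c5_card_B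
  intro row col
  rcases col with j | s
  · exact c5_nMat_cartan row j
  · simp only [Sum.elim_inr]
    by_cases h : s.val < (c5_rho 1 s).val
    · rw [dif_pos h, Sum.elim_inl, if_neg (Nat.ne_of_lt h), mul_one]
    · by_cases h' : (c5_rho 1 s).val < s.val
      · have hsw : (chevD4.nMat K (chevD4.simple 1) 1 - 1) row (Sum.inr s)
            = (chevD4.nMat K (chevD4.simple 1) 1 - 1) row (Sum.inr (c5_rho 1 s)) := by
          rw [hcol, hcol, hinv s, CharTwo.sub_eq_add, CharTwo.sub_eq_add, add_comm]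
        rw [dif_neg h, dif_pos h', Sum.elim_inl, if_neg (Nat.ne_of_gt h'), mul_one]
        exact hsw
      · have hE : s.val = (c5_rho 1 s).val := by omega
        rw [if_pos hE, mul_zero, hcol, ← Fin.ext hE, sub_self]

theorem c5_matA : C5PC (chevD4.nMat K (chevD4.simple 0) 1 * (chevD4.nMat K (chevD4.simple 2) 1 *
    (chevD4.nMat K (chevD4.simple 3) 1 * 1))) c5_wa :=
  (c5_nMat 0 (by decide)).mul ((c5_nMat 2 (by decide)).mul ((c5_nMat 3 (by decide)).mul c5_one))

/-- `11 ≤ rank (n_a - 1)` -/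
theorem c5_rank_A : 11 ≤ (chevD4.nMat K (chevD4.simple 0) 1 * (chevD4.nMat K (chevD4.simple 2) 1 *
    (chevD4.nMat K (chevD4.simple 3) 1 * 1)) - 1).rank := by
  have hA := c5_matA (K := K)
  rw [← c5_card_A]
  apply c5_le_rank _ (fun k => Sum.inr (c5_wa k.1)) (fun k => Sum.inr k.1)
  have h1 : ∀ k l : {s : Fin chevD4.nroots // s.val < (c5_wa s).val},
      ((Sum.inr (c5_wa k.1) : chevD4.Idx) = Sum.inr (c5_wa l.1)) ↔ k = l := by
    intro k l
    constructor
    · intro h
      have h1 : c5_wa k.1 = c5_wa l.1 := Sum.inr.inj h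
      apply Subtype.ext
      rw [← c5_wa_invol k.1, h1, c5_wa_invol]
    · intro h
      rw [h]
  have h2 : ∀ k l : {s : Fin chevD4.nroots // s.val < (c5_wa s).val},
      ¬ ((Sum.inr (c5_wa k.1) : chevD4.Idx) = Sum.inr l.1) := by
    intro k l h
    have h1 : c5_wa k.1 = l.1 := Sum.inr.inj h
    have h2 : c5_wa l.1 = k.1 := by rw [← h1, c5_wa_invol]
    have hk := k.2
    have hl := l.2
    rw [h1] at hk
    rw [h2] at hl
    exact lt_asymm hk hl
  ext k l
  rw [Matrix.submatrix_apply, Matrix.sub_apply, hA l.1]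
  simp only [Matrix.one_apply, h1, h2, if_false, sub_zero]

end mats

section main

variable {K : Type*} [Field K] [Fintype K] [CharP K 2] {q : ℕ} (f : K →+* K)
  (hf : ∀ x, f x = x ^ q)

/-- Unit C5: `n_a` and `n_b` are not conjugate -/
theorem not_conj : ¬ IsConj (a4 f hf) (b4 f hf) := by
  intro h
  obtain ⟨c, hc⟩ := isConj_iff.1 h
  have h1 : (wGL chevD4 hD4 [0, 2, 3] : GL chevD4.Idx K)
      = (c.1)⁻¹ * wGL chevD4 hD4 [1] * c.1 := by
    have h0 := congrArg Subtype.val hc
    simp only [Subgroup.coe_mul, Subgroup.coe_inv] at h0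
    have ha : ((a4 f hf : ↥(twistedD4 K q)) : GL chevD4.Idx K) = wGL chevD4 hD4 [0, 2, 3] := rfl
    have hb : ((b4 f hf : ↥(twistedD4 K q)) : GL chevD4.Idx K) = wGL chevD4 hD4 [1] := rfl
    rw [ha, hb] at h0
    rw [← h0]
    group
  have hA : ((wGL chevD4 hD4 [0, 2, 3] : GL chevD4.Idx K) : Matrix chevD4.Idx chevD4.Idx K)
      = chevD4.nMat K (chevD4.simple 0) 1 * (chevD4.nMat K (chevD4.simple 2) 1 *
        (chevD4.nMat K (chevD4.simple 3) 1 * 1)) := by
    rw [wGL_cons, wGL_cons, wGL_cons, wGL_nil]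
    simp only [Units.val_mul, nGL_val, Units.val_one]
  have hB : ((wGL chevD4 hD4 [1] : GL chevD4.Idx K) : Matrix chevD4.Idx chevD4.Idx K)
      = chevD4.nMat K (chevD4.simple 1) 1 := by
    rw [wGL_cons, wGL_nil, mul_one, nGL_val]
  have h2 := congrArg Units.val h1
  rw [Units.val_mul, Units.val_mul, hA, hB] at h2
  have h3 : chevD4.nMat K (chevD4.simple 0) 1 * (chevD4.nMat K (chevD4.simple 2) 1 *
        (chevD4.nMat K (chevD4.simple 3) 1 * 1)) - 1
      = ((c.1)⁻¹ : GL chevD4.Idx K).val * (chevD4.nMat K (chevD4.simple 1) 1 - 1)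
        * (c.1 : GL chevD4.Idx K).val := by
    rw [h2, Matrix.mul_sub, Matrix.sub_mul, mul_one, ← Units.val_mul, inv_mul_cancel,
      Units.val_one]
  have h4 := c5_rank_A (K := K)
  rw [h3] at h4
  have h5 := (Matrix.rank_mul_le_left (((c.1)⁻¹ : GL chevD4.Idx K).val
    * (chevD4.nMat K (chevD4.simple 1) 1 - 1)) (c.1 : GL chevD4.Idx K).val).trans
    (Matrix.rank_mul_le_right _ _)
  have h6 := c5_rank_B (K := K)
  omega

end main

end Cfsg.Agent.Lib.Helper2.D4Inv
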