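import Cfsg.Agent.Lib.Helper2.ExtraSp3
import Cfsg.Agent.Lib.Helper2.ZS10
import Cfsg.Agent.Lib.Helper1.ThompsonTransfer
import Cfsg.Agent.Lib.Helper1.DihedralRecognition
import Cfsg.Agent.Lib.Helper1.FrattiniP
import Cfsg.Agent.Lib.Helper1.FittingCentralizer
import Cfsg.Agent.Lib.Helper1.PLengthOne

set_option autoImplicit false
open Cfsg
open scoped commutatorElement Pointwise

namespace Cfsg.Agent.Lib.Helper2.D8Syl

open Cfsg.Agent.Lib.Helper2.ExtraSp

universe u
variable {L : Type u} [Group L]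

/-- `x` is an involution all of whose centralizer's squares and commutators lie in `{1, x}`, and
which is a square in its centralizer -/
structure SInv (x : L) : Prop where
  ne : x ≠ 1
  sq : x * x = 1
  sq_mem : ∀ a, x * a = a * x → a * a = 1 ∨ a * a = x
  comm_mem : ∀ a b, x * a = a * x → x * b = b * x →
    a * b * a⁻¹ * b⁻¹ = 1 ∨ a * b * a⁻¹ * b⁻¹ = x
  ex_sq : ∃ f, x * f = f * x ∧ f * f = x

theorem comm_conj_iff {g x a : L} (h : (g * x * g⁻¹) * a = a * (g * x * g⁻¹)) :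
    x * (g⁻¹ * a * g) = (g⁻¹ * a * g) * x := by
  calc x * (g⁻¹ * a * g) = g⁻¹ * ((g * x * g⁻¹) * a) * g := by group
    _ = g⁻¹ * (a * (g * x * g⁻¹)) * g := by rw [h]
    _ = (g⁻¹ * a * g) * x := by group

theorem SInv.conj {x : L} (h : SInv x) (g : L) : SInv (g * x * g⁻¹) where
  ne := by
    intro h1
    apply h.ne
    have h2 : x = g⁻¹ * (g * x * g⁻¹) * g := by group
    rw [h2, h1]; group
  sq := by
    calc g * x * g⁻¹ * (g * x * g⁻¹) = g * (x * x) * g⁻¹ := by group
      _ = 1 := by rw [h.sq]; group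
  sq_mem := by
    intro a ha
    have h1 := comm_conj_iff ha
    have h2 : a * a = g * ((g⁻¹ * a * g) * (g⁻¹ * a * g)) * g⁻¹ := by group
    rcases h.sq_mem _ h1 with h3 | h3
    · left; rw [h2, h3]; group
    · right; rw [h2, h3]
  comm_mem := by
    intro a b ha hb
    have h1 := comm_conj_iff ha
    have h1' := comm_conj_iff hb
    have h2 : a * b * a⁻¹ * b⁻¹ =
        g * ((g⁻¹ * a * g) * (g⁻¹ * b * g) * (g⁻¹ * a * g)⁻¹ * (g⁻¹ * b * g)⁻¹) * g⁻¹ := by group
    rcases h.comm_mem _ _ h1 h1' with h3 | h3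
    · left; rw [h2, h3]; group
    · right; rw [h2, h3]
  ex_sq := by
    obtain ⟨f, hf, hff⟩ := h.ex_sq
    refine ⟨g * f * g⁻¹, ?_, ?_⟩
    · calc g * x * g⁻¹ * (g * f * g⁻¹) = g * (x * f) * g⁻¹ := by group
        _ = g * (f * x) * g⁻¹ := by rw [hf]
        _ = g * f * g⁻¹ * (g * x * g⁻¹) := by group
    · calc g * f * g⁻¹ * (g * f * g⁻¹) = g * (f * f) * g⁻¹ := by group
        _ = g * x * g⁻¹ := by rw [hff]

theorem SInv.inv_eq {x : L} (h : SInv x) : x⁻¹ = x := inv_eq_of_mul_eq_one_right h.sq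

theorem SInv.eq_of_cent_le {x y : L} (hx : SInv x) (hy : SInv y)
    (h : ∀ a, x * a = a * x → y * a = a * y) : x = y := by
  obtain ⟨f, hf, hff⟩ := hx.ex_sq
  rcases hy.sq_mem f (h f hf) with h1 | h1
  · exact absurd (hff.symm.trans h1) hx.ne
  · exact hff.symm.trans h1

theorem SInv.exists_not_comm {x y : L} (hx : SInv x) (hy : SInv y) (hne : x ≠ y) :
    ∃ r, x * r = r * x ∧ y * r ≠ r * y := by
  by_contra hcon
  push Not at hcon
  exact hne (hx.eq_of_cent_le hy hcon)

theorem eq_of_comm_one {a b : L} (h : a * b * a⁻¹ * b⁻¹ = 1) : a * b = b * a := by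
  calc a * b = (a * b * a⁻¹ * b⁻¹) * (b * a) := by group
    _ = b * a := by rw [h, one_mul]

theorem SInv.conj_of_not_comm {x y r : L} (hx : SInv x) (hxy : x * y = y * x)
    (hr : x * r = r * x) (hnr : y * r ≠ r * y) : r * y * r⁻¹ = y * x := by
  rcases hx.comm_mem r y hr hxy with h | h
  · exact absurd (eq_of_comm_one h).symm hnr
  · calc r * y * r⁻¹ = (r * y * r⁻¹ * y⁻¹) * y := by group
      _ = x * y := by rw [h]
      _ = y * x := hxy

theorem SInv.sq_one_of_comm {x y d : L} (hx : SInv x) (hy : SInv y) (hne : x ≠ y)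
    (hdx : x * d = d * x) (hdy : y * d = d * y) : d * d = 1 := by
  rcases hx.sq_mem d hdx with h | h
  · exact h
  · rcases hy.sq_mem d hdy with h' | h'
    · exact h'
    · exact absurd (h.symm.trans h') hne

theorem SInv.comm_of_comm {x y a b : L} (hx : SInv x) (hy : SInv y) (hne : x ≠ y)
    (hax : x * a = a * x) (hay : y * a = a * y) (hbx : x * b = b * x) (hby : y * b = b * y) :
    a * b = b * a := by
  rcases hx.comm_mem a b hax hbx with h | h
  · exact eq_of_comm_one h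
  · rcases hy.comm_mem a b hay hby with h' | h'
    · exact eq_of_comm_one h'
    · exact absurd (h.symm.trans h') hne

theorem SInv.mul_comm_of_not_comm {x y r₁ r₂ : L} (hx : SInv x) (hxy : x * y = y * x)
    (h1 : x * r₁ = r₁ * x) (hn1 : y * r₁ ≠ r₁ * y) (h2 : x * r₂ = r₂ * x)
    (hn2 : y * r₂ ≠ r₂ * y) : y * (r₁ * r₂) = (r₁ * r₂) * y := by
  have e1 := hx.conj_of_not_comm hxy h1 hn1
  have e2 := hx.conj_of_not_comm hxy h2 hn2
  have e3 : r₁ * x * r₁⁻¹ = x := by
    calc r₁ * x * r₁⁻¹ = (x * r₁) * r₁⁻¹ := by rw [h1]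
      _ = x := by group
  have e4 : (r₁ * r₂) * y * (r₁ * r₂)⁻¹ = y := by
    calc (r₁ * r₂) * y * (r₁ * r₂)⁻¹ = r₁ * (r₂ * y * r₂⁻¹) * r₁⁻¹ := by group
      _ = r₁ * (y * x) * r₁⁻¹ := by rw [e2]
      _ = (r₁ * y * r₁⁻¹) * (r₁ * x * r₁⁻¹) := by group
      _ = y * x * x := by rw [e1, e3]
      _ = y := by rw [mul_assoc, hx.sq, mul_one]
  calc y * (r₁ * r₂) = ((r₁ * r₂) * y * (r₁ * r₂)⁻¹) * (r₁ * r₂) := by rw [e4]
    _ = (r₁ * r₂) * y := by group

theorem SInv.mul {x y : L} (hx : SInv x) (hy : SInv y) (hne : x ≠ y) (hxy : x * y = y * x) :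
    SInv (y * x) := by
  obtain ⟨r, hr, hnr⟩ := hx.exists_not_comm hy hne
  have h := hx.conj_of_not_comm hxy hr hnr
  rw [← h]
  exact hy.conj r

theorem SInv.comm_trans {z x y a : L} (hz : SInv z) (hx : SInv x) (hy : SInv y)
    (hxz : x ≠ z) (hyz : y ≠ z) (hzx : z * x = x * z) (hzy : z * y = y * z)
    (hxy : x * y = y * x) (haz : z * a = a * z) (hax : x * a = a * x) : y * a = a * y := by
  by_contra hay
  obtain ⟨r, hrz, hrx⟩ := hz.exists_not_comm hx (Ne.symm hxz)
  have hry : y * r ≠ r * y := by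
    intro hry
    exact hrx (hz.comm_of_comm hy (Ne.symm hyz) hzx hxy.symm hrz hry)
  have h1 : y * (a * r) = (a * r) * y := hz.mul_comm_of_not_comm hzy haz hay hrz hry
  have hzar : z * (a * r) = (a * r) * z := by
    calc z * (a * r) = (z * a) * r := by group
      _ = a * (z * r) := by rw [haz]; group
      _ = (a * r) * z := by rw [hrz]; group
  have h2 : x * (a * r) = (a * r) * x :=
    hz.comm_of_comm hy (Ne.symm hyz) hzx hxy.symm hzar h1
  apply hrx
  calc x * r = a⁻¹ * (a * x) * r := by group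
    _ = a⁻¹ * (x * a) * r := by rw [hax]
    _ = a⁻¹ * (x * (a * r)) := by group
    _ = a⁻¹ * ((a * r) * x) := by rw [h2]
    _ = r * x := by group

theorem SInv.triple {z x y : L} (hz : SInv z) (hx : SInv x) (hy : SInv y)
    (hxz : x ≠ z) (hyz : y ≠ z) (hxy' : x ≠ y) (hzx : z * x = x * z) (hzy : z * y = y * z)
    (hxy : x * y = y * x) : y * x = z := by
  by_contra hne
  have hw : SInv (y * x) := hx.mul hy hxy' hxy
  obtain ⟨r, hrz, hrx⟩ := hz.exists_not_comm hx (Ne.symm hxz)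
  have hry : y * r ≠ r * y := by
    intro hry
    exact hrx (hz.comm_trans hy hx hyz hxz hzy hzx hxy.symm hrz hry)
  have e1 := hz.conj_of_not_comm hzx hrz hrx
  have e2 := hz.conj_of_not_comm hzy hrz hry
  have hzw : z * (y * x) = (y * x) * z := by
    calc z * (y * x) = (z * y) * x := by group
      _ = y * (z * x) := by rw [hzy]; group
      _ = (y * x) * z := by rw [hzx]; group
  have hrw : (y * x) * r = r * (y * x) := by
    have e3 : r * (y * x) * r⁻¹ = y * x := by
      calc r * (y * x) * r⁻¹ = (r * y * r⁻¹) * (r * x * r⁻¹) := by group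
        _ = (y * z) * (x * z) := by rw [e1, e2]
        _ = y * (z * x) * z := by group
        _ = y * (x * z) * z := by rw [hzx]
        _ = y * x * (z * z) := by group
        _ = y * x := by rw [hz.sq, mul_one]
    calc (y * x) * r = (r * (y * x) * r⁻¹) * r := by rw [e3]
      _ = r * (y * x) := by group
  have hxw : (y * x) * x = x * (y * x) := by
    symm
    calc x * (y * x) = (x * y) * x := by group
      _ = (y * x) * x := by rw [hxy]
  exact hrx (hz.comm_trans hw hx hne hxz hzw hzx hxw hrz hrw)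

theorem SInv.mem_three {z x y : L} (hz : SInv z) (hx : SInv x) (hy : SInv y) (hxz : x ≠ z)
    (hzx : z * x = x * z) (hzy : z * y = y * z) (hxy : x * y = y * x) :
    y = z ∨ y = x ∨ y = x * z := by
  by_cases h1 : y = z
  · exact Or.inl h1
  by_cases h2 : y = x
  · exact Or.inr (Or.inl h2)
  right; right
  have h3 := hz.triple hx hy hxz h1 (Ne.symm h2) hzx hzy hxy
  calc y = (y * x) * x⁻¹ := by group
    _ = z * x := by rw [h3, hx.inv_eq]
    _ = x * z := hzx

theorem SInv.two_classes {z x' x y : L} (hz : SInv z) (hx' : SInv x') (hx : SInv x)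
    (hy : SInv y) (hyz : y ≠ z) (hzx' : z * x' = x' * z) (hzx : z * x = x * z)
    (hzy : z * y = y * z) (hnc : x' * x ≠ x * x') : x' * y = y * x' ∨ x * y = y * x := by
  by_contra hcon
  push Not at hcon
  obtain ⟨h1, h2⟩ := hcon
  have e1 := hz.conj_of_not_comm hzx' hzy h1
  have e2 := hz.conj_of_not_comm hzx hzy h2
  have e3 := hz.conj_of_not_comm hzx' hzx hnc
  have hw1 : z * (x' * x) = (x' * x) * z := by
    calc z * (x' * x) = (z * x') * x := by group
      _ = x' * (z * x) := by rw [hzx']; group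
      _ = (x' * x) * z := by rw [hzx]; group
  have hw2 : y * (x' * x) = (x' * x) * y := by
    have e4 : y * (x' * x) * y⁻¹ = x' * x := by
      calc y * (x' * x) * y⁻¹ = (y * x' * y⁻¹) * (y * x * y⁻¹) := by group
        _ = (x' * z) * (x * z) := by rw [e1, e2]
        _ = x' * (z * x) * z := by group
        _ = x' * (x * z) * z := by rw [hzx]
        _ = x' * x * (z * z) := by group
        _ = x' * x := by rw [hz.sq, mul_one]
    calc y * (x' * x) = (y * (x' * x) * y⁻¹) * y := by group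
      _ = (x' * x) * y := by rw [e4]
  have hsq := hz.sq_one_of_comm hy (Ne.symm hyz) hw1 hw2
  apply hz.ne
  calc z = x' * (x' * z) * (x * x) := by rw [hx.sq, mul_one, ← mul_assoc, hx'.sq, one_mul]
    _ = x' * (x * x' * x⁻¹) * (x * x) := by rw [e3]
    _ = (x' * x) * (x' * x) := by group
    _ = 1 := hsq

/-! ### adjoining an element modulo a subgroup containing squares and commutators -/

structure Good (R N : Subgroup L) : Prop where
  le : N ≤ R
  sq : ∀ a ∈ R, a * a ∈ N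
  comm : ∀ a ∈ R, ∀ b ∈ R, a * b * a⁻¹ * b⁻¹ ∈ N

def adj {R N : Subgroup L} (h : Good R N) (b : L) (hb : b ∈ R) : Subgroup L where
  carrier := {a | a ∈ N ∨ b * a ∈ N}
  one_mem' := Or.inl N.one_mem
  mul_mem' := by
    rintro a₁ a₂ (h1 | h1) (h2 | h2)
    · exact Or.inl (N.mul_mem h1 h2)
    · refine Or.inr ?_
      have e : b * (a₁ * a₂) = (b * a₁ * b⁻¹ * a₁⁻¹) * a₁ * (b * a₂) := by group
      rw [e]
      exact N.mul_mem (N.mul_mem (h.comm b hb a₁ (h.le h1)) h1) h2
    · refine Or.inr ?_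
      have e : b * (a₁ * a₂) = (b * a₁) * a₂ := by group
      rw [e]
      exact N.mul_mem h1 h2
    · refine Or.inl ?_
      have e : a₁ * a₂ =
          (b * b)⁻¹ * (b * (b * a₁) * b⁻¹ * (b * a₁)⁻¹) * (b * a₁) * (b * a₂) := by group
      rw [e]
      exact N.mul_mem (N.mul_mem (N.mul_mem (N.inv_mem (h.sq b hb))
        (h.comm b hb _ (h.le h1))) h1) h2
  inv_mem' := by
    rintro a (h1 | h1)
    · exact Or.inl (N.inv_mem h1)
    · refine Or.inr ?_
      have e : b * a⁻¹ = (b * (b * a)⁻¹ * b⁻¹ * ((b * a)⁻¹)⁻¹) * (b * a)⁻¹ * (b * b) := by group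
      rw [e]
      exact N.mul_mem (N.mul_mem (h.comm b hb _ (R.inv_mem (h.le h1))) (N.inv_mem h1))
        (h.sq b hb)

theorem mem_adj {R N : Subgroup L} (h : Good R N) (b : L) (hb : b ∈ R) (a : L) :
    a ∈ adj h b hb ↔ a ∈ N ∨ b * a ∈ N := Iff.rfl

theorem good_adj {R N : Subgroup L} (h : Good R N) (b : L) (hb : b ∈ R) :
    Good R (adj h b hb) where
  le := by
    intro a ha
    rcases (mem_adj h b hb a).mp ha with h1 | h1
    · exact h.le h1
    · have e : a = b⁻¹ * (b * a) := by group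
      rw [e]
      exact R.mul_mem (R.inv_mem hb) (h.le h1)
  sq := fun a ha => Or.inl (h.sq a ha)
  comm := fun a ha c hc => Or.inl (h.comm a ha c hc)

theorem exists_relIndex_two [Finite L] {R N : Subgroup L} (hN : Good R N) (u : L) (huR : u ∈ R)
    (hu : u ∉ N) : ∃ M : Subgroup L, N ≤ M ∧ M ≤ R ∧ u ∉ M ∧ M.relIndex R = 2 := by
  obtain ⟨M, hNM, hmax⟩ :=
    Finite.exists_le_maximal (p := fun M : Subgroup L => Good R M ∧ u ∉ M) (a := N) ⟨hN, hu⟩
  have hMg : Good R M := hmax.prop.1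
  have huM : u ∉ M := hmax.prop.2
  refine ⟨M, hNM, hMg.le, huM, ?_⟩
  rw [Subgroup.relIndex_eq_two_iff_exists_notMem_and]
  refine ⟨u, huR, huM, ?_⟩
  intro b hb
  by_cases hbM : b ∈ M
  · exact Or.inr hbM
  · left
    by_contra hbu
    have h1 : u ∉ adj hMg b hb := by
      intro h2
      rcases (mem_adj hMg b hb u).mp h2 with h3 | h3
      · exact huM h3
      · exact hbu h3
    have h2 : adj hMg b hb ≤ M :=
      hmax.le_of_ge ⟨good_adj hMg b hb, h1⟩ (fun a ha => (mem_adj hMg b hb a).mpr (Or.inl ha))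
    exact hbM (h2 ((mem_adj hMg b hb b).mpr (Or.inr (hMg.sq b hb))))

/-! ### Sylow adjustment inside a centralizer -/

theorem mem_smul_sylow {K : Type*} [Group K] {p : ℕ} (S : Sylow p K) (g a : K) :
    a ∈ ((g • S : Sylow p K) : Subgroup K) ↔ g⁻¹ * a * g ∈ (S : Subgroup K) := by
  rw [Sylow.smul_def, Sylow.pointwise_smul_def, Subgroup.mem_pointwise_smul_iff_inv_smul_mem]
  simp [MulAut.smul_def]

theorem sylow_adjust [Finite L] (R : Sylow 2 L) (m g : L)
    (hgm : ∀ r ∈ (R : Subgroup L), m * (g * r * g⁻¹) = (g * r * g⁻¹) * m)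
    (P : Subgroup L) (hP2 : IsPGroup 2 P) (hPm : ∀ p ∈ P, m * p = p * m) :
    ∃ c, m * c = c * m ∧ ∀ p ∈ P, (c * g)⁻¹ * p * (c * g) ∈ (R : Subgroup L) := by
  obtain ⟨H, hH⟩ : ∃ H, H = Subgroup.centralizer ({m} : Set L) := ⟨_, rfl⟩
  have hmemH : ∀ a, a ∈ H ↔ m * a = a * m := by
    intro a; rw [hH]; exact mem_cent_single
  have hQH : ((g • R : Sylow 2 L) : Subgroup L) ≤ H := by
    intro a ha
    rw [mem_smul_sylow] at ha
    rw [hmemH]
    have h1 := hgm _ ha
    have e : g * (g⁻¹ * a * g) * g⁻¹ = a := by group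
    rw [e] at h1
    exact h1
  obtain ⟨Q', hQ'⟩ := (hP2.comap_subtype (K := H)).exists_le_sylow
  obtain ⟨c, hc⟩ := MulAction.exists_smul_eq ↥H ((g • R : Sylow 2 L).subtype hQH) Q'
  refine ⟨(c : L), (hmemH _).mp c.2, ?_⟩
  intro p hp
  have hpH : p ∈ H := (hmemH p).mpr (hPm p hp)
  have h1 : (⟨p, hpH⟩ : ↥H) ∈ (Q' : Subgroup ↥H) := hQ' (by
    show (⟨p, hpH⟩ : ↥H) ∈ P.comap H.subtype
    exact Subgroup.mem_comap.mpr hp)
  rw [← hc, mem_smul_sylow, Sylow.coe_subtype, Subgroup.mem_subgroupOf, mem_smul_sylow] at h1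
  have e : (c * g : L)⁻¹ * p * (c * g) = g⁻¹ * ((c⁻¹ * ⟨p, hpH⟩ * c : ↥H) : L) * g := by
    simp only [Subgroup.coe_mul, Subgroup.coe_inv]
    group
  rw [e]; exact h1

end Cfsg.Agent.Lib.Helper2.D8Syl
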