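import Cfsg.Agent.Lib.Helper2.D8Syl

set_option autoImplicit false
open Cfsg
open scoped commutatorElement Pointwise

namespace Cfsg.Agent.Lib.Helper2.D8Syl

open Cfsg.Agent.Lib.Helper2.ExtraSp

universe u
variable {L : Type u} [Group L]

theorem final_contra [Finite L] [IsSimpleGroup L] {z : L} (R : Sylow 2 L)
    (hmemR : ∀ r, r ∈ (R : Subgroup L) ↔ z * r = r * z) (hz : SInv z)
    (hthree : ∃ a b : L, a ≠ 1 ∧ b ≠ 1 ∧ a ≠ b)
    {u : L} (hu2 : orderOf u = 2) (huc : ∀ r, z * r = r * z → u * r = r * u)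
    {N : Subgroup L} (hN : Good (R : Subgroup L) N)
    (hT : ∀ y, SInv y → z * y = y * z → y ∈ N) (huN : u ∉ N) : False := by
  have huR : u ∈ (R : Subgroup L) := by
    rw [hmemR]; exact (huc z rfl).symm
  obtain ⟨M, hNM, hMR, huM, hidx⟩ := exists_relIndex_two hN u huR huN
  have hex : ∃ g : L, g * u * g⁻¹ ∈ M := by
    by_contra hno
    push Not at hno
    obtain ⟨K, hKn, hKi, -⟩ := Cfsg.Agent.Lib.Helper1.thompson_transfer R M hMR hidx u hu2 hno
    rcases hKn.eq_bot_or_eq_top with h | h
    · rw [h, Subgroup.index_bot] at hKi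
      obtain ⟨a, b, ha, hb, hab⟩ := hthree
      obtain ⟨c, -, hc⟩ := (Nat.card_eq_two_iff' (1 : L)).mp hKi
      exact hab ((hc a ha).trans (hc b hb).symm)
    · rw [h, Subgroup.index_top] at hKi
      omega
  obtain ⟨g, hgM⟩ := hex
  obtain ⟨m, hm⟩ : ∃ m, m = g * u * g⁻¹ := ⟨_, rfl⟩
  rw [← hm] at hgM
  have hmR : m ∈ (R : Subgroup L) := hMR hgM
  have hzm : z * m = m * z := (hmemR m).mp hmR
  have hgm : ∀ r ∈ (R : Subgroup L), m * (g * r * g⁻¹) = (g * r * g⁻¹) * m := by
    intro r hr
    have h1 := huc r ((hmemR r).mp hr)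
    rw [hm]
    calc g * u * g⁻¹ * (g * r * g⁻¹) = g * (u * r) * g⁻¹ := by group
      _ = g * (r * u) * g⁻¹ := by rw [h1]
      _ = g * r * g⁻¹ * (g * u * g⁻¹) := by group
  obtain ⟨c, hcm, hc⟩ := sylow_adjust R m g hgm
    ((R : Subgroup L) ⊓ Subgroup.centralizer ({m} : Set L))
    (R.isPGroup'.to_le inf_le_left) (fun p hp => mem_cent_single.mp (Subgroup.mem_inf.mp hp).2)
  obtain ⟨h, hh⟩ : ∃ h, h = c * g := ⟨_, rfl⟩
  rw [← hh] at hc
  have hmh : m = h * u * h⁻¹ := by
    rw [hh]
    calc m = c * m * c⁻¹ := by rw [← hcm]; group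
      _ = c * g * u * (c * g)⁻¹ := by rw [hm]; group
  obtain ⟨x, hxdef⟩ : ∃ x, x = h * z * h⁻¹ := ⟨_, rfl⟩
  have hx : SInv x := by rw [hxdef]; exact hz.conj h
  have hCx : ∀ p, z * p = p * z → m * p = p * m → x * p = p * x := by
    intro p hpz hpm
    have h1 : h⁻¹ * p * h ∈ (R : Subgroup L) :=
      hc p (Subgroup.mem_inf.mpr ⟨(hmemR p).mpr hpz, mem_cent_single.mpr hpm⟩)
    have h2 := (hmemR _).mp h1
    rw [hxdef]
    calc h * z * h⁻¹ * p = h * (z * (h⁻¹ * p * h)) * h⁻¹ := by group
      _ = h * ((h⁻¹ * p * h) * z) * h⁻¹ := by rw [h2]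
      _ = p * (h * z * h⁻¹) := by group
  have hmc : ∀ a, x * a = a * x → m * a = a * m := by
    intro a ha
    rw [hxdef] at ha
    have h1 := comm_conj_iff ha
    have h2 := huc _ h1
    rw [hmh]
    calc h * u * h⁻¹ * a = h * (u * (h⁻¹ * a * h)) * h⁻¹ := by group
      _ = h * ((h⁻¹ * a * h) * u) * h⁻¹ := by rw [h2]
      _ = a * (h * u * h⁻¹) := by group
  have hzx : x * z = z * x := hCx z rfl hzm.symm
  have hzN : z ∈ N := hT z hz rfl
  have hxN : x ∈ N := hT x hx hzx.symm
  have hzM := hNM hzN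
  have hxM := hNM hxN
  by_cases hxz : x = z
  · have h1 : z * h = h * z := by
      calc z * h = (h * z * h⁻¹) * h := by rw [← hxdef, hxz]
        _ = h * z := by group
    have h2 := huc h h1
    apply huM
    have h3 : m = u := by
      rw [hmh]
      calc h * u * h⁻¹ = (h * u) * h⁻¹ := rfl
        _ = (u * h) * h⁻¹ := by rw [h2]
        _ = u := by group
    rw [← h3]; exact hgM
  · obtain ⟨r, hrz, hrx⟩ := hz.exists_not_comm hx (Ne.symm hxz)
    obtain ⟨s, hsx, hsz⟩ := hx.exists_not_comm hz hxz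
    have e1 := hz.conj_of_not_comm hzx.symm hrz hrx
    have e2 := hx.conj_of_not_comm hzx hsx hsz
    have hms : m * s = s * m := hmc s hsx
    have e3 : (s * r) * x * (s * r)⁻¹ = z := by
      calc (s * r) * x * (s * r)⁻¹ = s * (r * x * r⁻¹) * s⁻¹ := by group
        _ = s * (x * z) * s⁻¹ := by rw [e1]
        _ = (s * x) * s⁻¹ * (s * z * s⁻¹) := by group
        _ = (x * s) * s⁻¹ * (z * x) := by rw [e2, hsx]
        _ = x * (z * x) := by group
        _ = x * (x * z) := by rw [hzx]
        _ = z := by rw [← mul_assoc, hx.sq, one_mul]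
    have e4 : z * (s * r * h) = (s * r * h) * z := by
      have e5 : (s * r * h) * z * (s * r * h)⁻¹ = z := by
        calc (s * r * h) * z * (s * r * h)⁻¹ = (s * r) * (h * z * h⁻¹) * (s * r)⁻¹ := by group
          _ = (s * r) * x * (s * r)⁻¹ := by rw [← hxdef]
          _ = z := e3
      calc z * (s * r * h) = ((s * r * h) * z * (s * r * h)⁻¹) * (s * r * h) := by rw [e5]
        _ = (s * r * h) * z := by group
    have e6 := huc _ e4
    have e7 : u = (s * r) * m * (s * r)⁻¹ := by
      rw [hmh]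
      calc u = (u * (s * r * h)) * (s * r * h)⁻¹ := by group
        _ = ((s * r * h) * u) * (s * r * h)⁻¹ := by rw [e6]
        _ = (s * r) * (h * u * h⁻¹) * (s * r)⁻¹ := by group
    rcases hz.comm_mem r m hrz hzm with e8 | e8
    · have e9 : r * m = m * r := eq_of_comm_one e8
      apply huM
      have h3 : u = m := by
        rw [e7]
        calc (s * r) * m * (s * r)⁻¹ = s * (r * m) * r⁻¹ * s⁻¹ := by group
          _ = s * (m * r) * r⁻¹ * s⁻¹ := by rw [e9]
          _ = (s * m) * s⁻¹ := by group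
          _ = (m * s) * s⁻¹ := by rw [hms]
          _ = m := by group
      rw [h3]; exact hgM
    · apply huM
      have h3 : u = z * x * m := by
        rw [e7]
        calc (s * r) * m * (s * r)⁻¹ = s * ((r * m * r⁻¹ * m⁻¹) * m) * s⁻¹ := by group
          _ = s * (z * m) * s⁻¹ := by rw [e8]
          _ = (s * z * s⁻¹) * ((s * m) * s⁻¹) := by group
          _ = (z * x) * ((m * s) * s⁻¹) := by rw [e2, hms]
          _ = z * x * m := by group
      rw [h3]
      exact M.mul_mem (M.mul_mem hzM hxM) hgM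

theorem center_claim [Finite L] [IsSimpleGroup L] {z : L} (hzo : orderOf z = 2) (R : Sylow 2 L)
    (hmemR : ∀ r, r ∈ (R : Subgroup L) ↔ z * r = r * z) (hz : SInv z)
    {z' : L} (hz' : SInv z') (hne : z' ≠ z) (hc : z * z' = z' * z)
    {u : L} (huc : ∀ r, z * r = r * z → u * r = r * u) : u = 1 ∨ u = z := by
  by_contra hcon
  push Not at hcon
  obtain ⟨hu1, huz⟩ := hcon
  have huz' : z * u = u * z := (huc z rfl).symm
  have huz'' : z' * u = u * z' := (huc z' hc).symm
  have huu : u * u = 1 := hz.sq_one_of_comm hz' (Ne.symm hne) huz' huz''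
  have hu2 : orderOf u = 2 := by
    apply orderOf_eq_prime
    · rw [pow_two]; exact huu
    · exact hu1
  have hZmem : ∀ a, a ∈ Subgroup.zpowers z ↔ a = 1 ∨ a = z := by
    intro a
    constructor
    · exact mem_zpowers_two hzo
    · rintro (h | h)
      · rw [h]; exact Subgroup.one_mem _
      · rw [h]; exact Subgroup.mem_zpowers z
  have hzR : z ∈ (R : Subgroup L) := (hmemR z).mpr rfl
  have hZ : Good (R : Subgroup L) (Subgroup.zpowers z) := by
    refine ⟨?_, ?_, ?_⟩
    · rw [Subgroup.zpowers_le]; exact hzR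
    · intro a ha
      rw [hZmem]
      exact hz.sq_mem a ((hmemR a).mp ha)
    · intro a ha b hb
      rw [hZmem]
      exact hz.comm_mem a b ((hmemR a).mp ha) ((hmemR b).mp hb)
  have hz'R : z' ∈ (R : Subgroup L) := (hmemR z').mpr hc
  obtain ⟨P, hPdef⟩ : ∃ P, P = adj hZ z' hz'R := ⟨_, rfl⟩
  have hPmem : ∀ a, a ∈ P ↔ (a ∈ Subgroup.zpowers z ∨ z' * a ∈ Subgroup.zpowers z) := by
    intro a; rw [hPdef]; exact mem_adj hZ z' hz'R a
  have hP : Good (R : Subgroup L) P := by rw [hPdef]; exact good_adj hZ z' hz'R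
  have hzP : z ∈ P := (hPmem z).mpr (Or.inl (Subgroup.mem_zpowers z))
  have hz'P : z' ∈ P := (hPmem z').mpr (Or.inr (by rw [hz'.sq]; exact Subgroup.one_mem _))
  have hzz'P : z' * z ∈ P := P.mul_mem hz'P hzP
  have hPc : ∀ a ∈ P, z' * a = a * z' := by
    intro a ha
    rcases (hPmem a).mp ha with h | h
    · rcases (hZmem a).mp h with h1 | h1
      · rw [h1, mul_one, one_mul]
      · rw [h1]; exact hc.symm
    · have h2 : z' * (z' * a) = (z' * a) * z' := by
        rcases (hZmem _).mp h with h1 | h1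
        · rw [h1, mul_one, one_mul]
        · rw [h1]; exact hc.symm
      calc z' * a = z'⁻¹ * (z' * (z' * a)) := by group
        _ = z'⁻¹ * ((z' * a) * z') := by rw [h2]
        _ = a * z' := by group
  obtain ⟨r0, hr0z, hr0⟩ := hz.exists_not_comm hz' (Ne.symm hne)
  have huP : u ∉ P := by
    intro h
    rcases (hPmem u).mp h with h1 | h1
    · rcases (hZmem u).mp h1 with h2 | h2
      · exact hu1 h2
      · exact huz h2
    · apply hr0
      have hw : (z' * u) * r0 = r0 * (z' * u) := by
        rcases (hZmem _).mp h1 with h2 | h2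
        · rw [h2, mul_one, one_mul]
        · rw [h2]; exact hr0z
      have hur : u * r0 = r0 * u := huc r0 hr0z
      calc z' * r0 = (z' * u) * (u⁻¹ * r0) := by group
        _ = (z' * u) * (u * r0) := by rw [inv_eq_of_mul_eq_one_right huu]
        _ = (z' * u) * (r0 * u) := by rw [hur]
        _ = ((z' * u) * r0) * u := by group
        _ = (r0 * (z' * u)) * u := by rw [hw]
        _ = r0 * z' * (u * u) := by group
        _ = r0 * z' := by rw [huu, mul_one]
  have hTP : ∀ y, SInv y → z * y = y * z → z' * y = y * z' → y ∈ P := by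
    intro y hy hzy hz'y
    rcases hz.mem_three hz' hy hne hc hzy hz'y with h | h | h
    · rw [h]; exact hzP
    · rw [h]; exact hz'P
    · rw [h]; exact hzz'P
  by_cases hA : ∃ x, SInv x ∧ z * x = x * z ∧ z' * x ≠ x * z'
  · obtain ⟨x, hx, hzx, hnx⟩ := hA
    have hxR : x ∈ (R : Subgroup L) := (hmemR x).mpr hzx
    have hxz : x ≠ z := by
      intro h; apply hnx; rw [h]; exact hc.symm
    refine final_contra R hmemR hz ⟨z, z', hz.ne, hz'.ne, Ne.symm hne⟩ hu2 huc
      (good_adj hP x hxR) ?_ ?_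
    · intro y hy hzy
      rw [mem_adj]
      by_cases hyz : y = z
      · left; rw [hyz]; exact hzP
      rcases hz.two_classes hz' hx hy hyz hc hzx hzy hnx with h | h
      · left; exact hTP y hy hzy h
      · right
        rcases hz.mem_three hx hy hxz hzx hzy h with h1 | h1 | h1
        · exact absurd h1 hyz
        · rw [h1, hx.sq]; exact P.one_mem
        · rw [h1, ← mul_assoc, hx.sq, one_mul]; exact hzP
    · rw [mem_adj]
      rintro (h | h)
      · exact huP h
      · apply hnx
        have h1 := hPc _ h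
        calc z' * x = (z' * (x * u)) * u⁻¹ := by group
          _ = ((x * u) * z') * u⁻¹ := by rw [h1]
          _ = x * (u * z') * u⁻¹ := by group
          _ = x * (z' * u) * u⁻¹ := by rw [huz'']
          _ = x * z' := by group
  · push Not at hA
    refine final_contra R hmemR hz ⟨z, z', hz.ne, hz'.ne, Ne.symm hne⟩ hu2 huc hP ?_ huP
    intro y hy hzy
    exact hTP y hy hzy (hA y hy hzy)

theorem main [Finite L] [IsSimpleGroup L] (hL : ¬ IsMulCommutative L) (z : L)
    (hz : orderOf z = 2) (R : Sylow 2 L)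
    (hR : (R : Subgroup L) = Subgroup.centralizer ({z} : Set L))
    (hΦ : (frattini ↥(R : Subgroup L)).map (R : Subgroup L).subtype = Subgroup.zpowers z) :
    Nonempty (↥(R : Subgroup L) ≃* DihedralGroup 4) := by
  have hmemR : ∀ r, r ∈ (R : Subgroup L) ↔ z * r = r * z := by
    intro r; rw [hR]; exact mem_cent_single
  have hz1 : z ≠ 1 := by
    intro h; rw [h, orderOf_one] at hz; omega
  have hzz : z * z = 1 := by
    have := pow_orderOf_eq_one z
    rw [hz, pow_two] at this; exact this
  have hP2 : IsPGroup 2 ↥(R : Subgroup L) := R.isPGroup'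
  have hfr : ∀ y : ↥(R : Subgroup L), y ∈ frattini ↥(R : Subgroup L) →
      (y : L) = 1 ∨ (y : L) = z := by
    intro y hy
    apply mem_zpowers_two hz
    rw [← hΦ]
    exact Subgroup.mem_map.mpr ⟨y, hy, rfl⟩
  have hsqm : ∀ a, z * a = a * z → a * a = 1 ∨ a * a = z := by
    intro a ha
    have haR := (hmemR a).mpr ha
    have h1 := Cfsg.Agent.Lib.Helper1.pow_prime_mem_frattini_of_isPGroup 2 hP2 ⟨a, haR⟩
    have h2 := hfr _ h1
    simpa [pow_two] using h2
  have hcomm : ∀ a b, z * a = a * z → z * b = b * z →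
      a * b * a⁻¹ * b⁻¹ = 1 ∨ a * b * a⁻¹ * b⁻¹ = z := by
    intro a b ha hb
    have haR := (hmemR a).mpr ha
    have hbR := (hmemR b).mpr hb
    have h1 : ⁅(⟨a, haR⟩ : ↥(R : Subgroup L)), ⟨b, hbR⟩⁆ ∈ frattini ↥(R : Subgroup L) := by
      apply Cfsg.Agent.Lib.Helper1.commutator_le_frattini_of_isPGroup 2 hP2
      rw [commutator_def]
      exact Subgroup.commutator_mem_commutator (Subgroup.mem_top _) (Subgroup.mem_top _)
    have h2 := hfr _ h1
    simpa [commutatorElement_def] using h2
  have hexsq : ∃ f, z * f = f * z ∧ f * f = z := by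
    by_contra hno
    push Not at hno
    have hsq1 : ∀ y : ↥(R : Subgroup L), y * y = 1 := by
      intro y
      have hy := (hmemR y.1).mp y.2
      rcases hsqm y.1 hy with h | h
      · exact Subtype.ext h
      · exact absurd h (hno y.1 hy)
    have hle : frattini ↥(R : Subgroup L) ≤ ⊥ := by
      apply Cfsg.Agent.Lib.Helper1.frattini_le_of_elementary_quotient 2
      · rw [commutator_def, Subgroup.commutator_le]
        intro a _ b _
        rw [Subgroup.mem_bot, commutatorElement_def, inv_eq_of_mul_eq_one_right (hsq1 a),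
          inv_eq_of_mul_eq_one_right (hsq1 b), mul_assoc (a * b) a b]
        exact hsq1 (a * b)
      · intro y
        rw [Subgroup.mem_bot, pow_two]
        exact hsq1 y
    have hzmem : z ∈ (frattini ↥(R : Subgroup L)).map (R : Subgroup L).subtype := by
      rw [hΦ]; exact Subgroup.mem_zpowers z
    obtain ⟨y, hy, hyz⟩ := Subgroup.mem_map.mp hzmem
    have h1 := hle hy
    rw [Subgroup.mem_bot] at h1
    apply hz1
    rw [← hyz, h1]; rfl
  have hzS : SInv z := ⟨hz1, hzz, hsqm, hcomm, hexsq⟩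
  -- z is not isolated
  have hniso : ∃ g : L, z * (g * z * g⁻¹) = (g * z * g⁻¹) * z ∧ g * z * g⁻¹ ≠ z := by
    by_contra hno
    push Not at hno
    have hiso : Cfsg.IsIsolatedInvolution z := ⟨hz, fun g hg => hno g hg.eq⟩
    have hO : Cfsg.oddCore L = ⊥ := by
      have hn : (Cfsg.oddCore L).Normal := Cfsg.Agent.Lib.Helper1.pPrimeCore_normal 2
      rcases hn.eq_bot_or_eq_top with h | h
      · exact h
      · exfalso
        have hcop : (Nat.card ↥(Cfsg.oddCore L)).Coprime 2 :=
          Cfsg.Agent.Lib.Helper1.pPrimeCore_card_coprime 2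
        rw [h, Subgroup.card_top] at hcop
        have h2 : 2 ∣ Nat.card L := by rw [← hz]; exact orderOf_dvd_natCard z
        have h3 := Nat.Coprime.eq_one_of_dvd hcop.symm h2
        omega
    have hzc : z ∈ Subgroup.center L := by
      rw [Subgroup.mem_center_iff]
      intro g
      have h1 := Cfsg.Agent.Lib.Helper2.ZS.zstar z hiso g
      rw [hO, Subgroup.mem_bot] at h1
      exact (eq_of_comm_one h1).symm
    rcases (inferInstance : (Subgroup.center L).Normal).eq_bot_or_eq_top with h | h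
    · rw [h, Subgroup.mem_bot] at hzc; exact hz1 hzc
    · apply hL
      refine ⟨⟨fun a b => ?_⟩⟩
      have hb : b ∈ Subgroup.center L := by rw [h]; exact Subgroup.mem_top b
      exact Subgroup.mem_center_iff.mp hb a
  obtain ⟨g0, hg0c, hg0ne⟩ := hniso
  obtain ⟨z', hz'def⟩ : ∃ z', z' = g0 * z * g0⁻¹ := ⟨_, rfl⟩
  rw [← hz'def] at hg0c hg0ne
  have hz'S : SInv z' := by rw [hz'def]; exact hzS.conj g0
  have hcen : ∀ u, (∀ r, z * r = r * z → u * r = r * u) → u = 1 ∨ u = z :=
    fun u hu => center_claim hz R hmemR hzS hz'S hg0ne hg0c hu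
  obtain ⟨f, hfz, hff⟩ := hexsq
  have hfz' : z' * f ≠ f * z' := by
    intro h
    have h1 := hzS.sq_one_of_comm hz'S (Ne.symm hg0ne) hfz h
    exact hz1 (hff.symm.trans h1)
  have e1 := hzS.conj_of_not_comm hg0c hfz hfz'
  have hcf : ∀ b, z * b = b * z → z' * b = b * z' → f * b = b * f →
      ∀ r, z * r = r * z → b * r = r * b := by
    intro b hbz hbz' hbf r hrz
    by_cases hrz' : z' * r = r * z'
    · exact hzS.comm_of_comm hz'S (Ne.symm hg0ne) hbz hbz' hrz hrz'
    · have h1 : z' * (r * f) = (r * f) * z' :=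
        hzS.mul_comm_of_not_comm hg0c hrz hrz' hfz hfz'
      have h2 : z * (r * f) = (r * f) * z := by
        calc z * (r * f) = (z * r) * f := by group
          _ = r * (z * f) := by rw [hrz]; group
          _ = (r * f) * z := by rw [hfz]; group
      have h3 : b * (r * f) = (r * f) * b :=
        hzS.comm_of_comm hz'S (Ne.symm hg0ne) hbz hbz' h2 h1
      calc b * r = (b * (r * f)) * f⁻¹ := by group
        _ = ((r * f) * b) * f⁻¹ := by rw [h3]
        _ = r * (f * b) * f⁻¹ := by group
        _ = r * (b * f) * f⁻¹ := by rw [hbf]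
        _ = r * b := by group
  obtain ⟨D, hDdef⟩ : ∃ D, D = (R : Subgroup L) ⊓ Subgroup.centralizer ({z'} : Set L) :=
    ⟨_, rfl⟩
  have hDmem : ∀ a, a ∈ D ↔ (z * a = a * z ∧ z' * a = a * z') := by
    intro a
    rw [hDdef, Subgroup.mem_inf, hmemR, mem_cent_single]
  have hZD : Subgroup.zpowers z ≤ D := by
    rw [Subgroup.zpowers_le, hDmem]; exact ⟨rfl, hg0c.symm⟩
  have hDR : D ≤ (R : Subgroup L) := by rw [hDdef]; exact inf_le_left
  have hi1 : D.relIndex (R : Subgroup L) = 2 := by
    rw [Subgroup.relIndex_eq_two_iff_exists_notMem_and]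
    refine ⟨f, (hmemR f).mpr hfz, fun h => hfz' ((hDmem f).mp h).2, ?_⟩
    intro b hb
    have hbz := (hmemR b).mp hb
    by_cases hbz' : z' * b = b * z'
    · exact Or.inr ((hDmem b).mpr ⟨hbz, hbz'⟩)
    · left
      rw [hDmem]
      refine ⟨?_, hzS.mul_comm_of_not_comm hg0c hbz hbz' hfz hfz'⟩
      calc z * (b * f) = (z * b) * f := by group
        _ = b * (z * f) := by rw [hbz]; group
        _ = (b * f) * z := by rw [hfz]; group
  have hi2 : (Subgroup.zpowers z).relIndex D = 2 := by
    rw [Subgroup.relIndex_eq_two_iff_exists_notMem_and]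
    have hz'D : z' ∈ D := (hDmem z').mpr ⟨hg0c, rfl⟩
    refine ⟨z', hz'D, ?_, ?_⟩
    · intro h
      rcases mem_zpowers_two hz h with h1 | h1
      · exact hz'S.ne h1
      · exact hg0ne h1
    · intro b hb
      obtain ⟨hbz, hbz'⟩ := (hDmem b).mp hb
      have hmemZ : ∀ a, (a = 1 ∨ a = z) → a ∈ Subgroup.zpowers z := by
        rintro a (h | h)
        · rw [h]; exact Subgroup.one_mem _
        · rw [h]; exact Subgroup.mem_zpowers z
      by_cases hbf : f * b = b * f
      · right
        exact hmemZ b (hcen b (hcf b hbz hbz' hbf))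
      · left
        apply hmemZ
        apply hcen
        apply hcf (b * z')
        · calc z * (b * z') = (z * b) * z' := by group
            _ = b * (z * z') := by rw [hbz]; group
            _ = (b * z') * z := by rw [hg0c]; group
        · calc z' * (b * z') = (z' * b) * z' := by group
            _ = (b * z') * z' := by rw [hbz']
        · have e2 := hzS.conj_of_not_comm hbz hfz (fun h => hbf h.symm)
          have e3 : f * (b * z') * f⁻¹ = b * z' := by
            calc f * (b * z') * f⁻¹ = (f * b * f⁻¹) * (f * z' * f⁻¹) := by group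
              _ = (b * z) * (z' * z) := by rw [e2, e1]
              _ = b * (z * z') * z := by group
              _ = b * (z' * z) * z := by rw [hg0c]
              _ = b * z' * (z * z) := by group
              _ = b * z' := by rw [hzz, mul_one]
          calc f * (b * z') = (f * (b * z') * f⁻¹) * f := by group
            _ = (b * z') * f := by rw [e3]
  have hcard : Nat.card ↥(R : Subgroup L) = 8 := by
    have h1 := Subgroup.relIndex_mul_relIndex (Subgroup.zpowers z) D (R : Subgroup L) hZD hDR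
    have h2 := Subgroup.relIndex_mul_relIndex ⊥ (Subgroup.zpowers z) (R : Subgroup L) bot_le
      (hZD.trans hDR)
    rw [Subgroup.relIndex_bot_left, Subgroup.relIndex_bot_left, Nat.card_zpowers, hz] at h2
    rw [hi2, hi1] at h1
    omega
  have hfR : f ∈ (R : Subgroup L) := (hmemR f).mpr hfz
  have hz'R : z' ∈ (R : Subgroup L) := (hmemR z').mpr hg0c
  have hfo : orderOf f = 4 := by
    have h1 : ¬ f ^ 2 ^ 1 = 1 := by
      rw [pow_one, pow_two, hff]; exact hz1
    have h2 : f ^ 2 ^ (1 + 1) = 1 := by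
      have h3 : f ^ 2 ^ (1 + 1) = (f * f) * (f * f) := by
        rw [show (2 : ℕ) ^ (1 + 1) = 2 + 2 from rfl, pow_add, pow_two]
      rw [h3, hff, hzz]
    have h4 := orderOf_eq_prime_pow h1 h2
    simpa using h4
  have hinv : z' * f * z'⁻¹ = f⁻¹ := by
    have e4 : f⁻¹ = z * f := by
      apply inv_eq_of_mul_eq_one_left
      calc z * f * f = z * (f * f) := by group
        _ = 1 := by rw [hff, hzz]
    rw [e4, hz'S.inv_eq]
    calc z' * f * z' = z' * (f * z' * f⁻¹) * f := by group
      _ = z' * (z' * z) * f := by rw [e1]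
      _ = (z' * z') * z * f := by group
      _ = z * f := by rw [hz'S.sq, one_mul]
  refine Cfsg.Agent.Lib.Helper1.nonempty_mulEquiv_dihedralGroup 4
    (⟨f, hfR⟩ : ↥(R : Subgroup L)) ⟨z', hz'R⟩ ?_ ?_ ?_ ?_ ?_
  · rw [Subgroup.orderOf_mk]; exact hfo
  · intro h
    obtain ⟨k, hk⟩ := Subgroup.mem_zpowers_iff.mp h
    have hk' : f ^ k = z' := by
      have h1 := congrArg Subtype.val hk
      simpa using h1
    apply hfz'
    rw [← hk']
    exact ((Commute.refl f).zpow_left k).eq
  · exact Subtype.ext hz'S.sq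
  · apply Subtype.ext
    exact hinv
  · exact hcard.trans (by norm_num)

end Cfsg.Agent.Lib.Helper2.D8Syl
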