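import Mathlib
import Cfsg.Prelude.Def_Transfer
import Cfsg.Agent.Lib.Helper2.DihedralSub
import Cfsg.Agent.Lib.Helper2.PNilpotentQuot
import Cfsg.Agent.Lib.Helper1.PNilpotentLocal
import Cfsg.Agent.Lib.Helper1.NormalPComplement
import Cfsg.Agent.Lib.Helper7.CharP

/-!
# Normal `2`-complements for groups with dihedral Sylow `2`-subgroups
-/

set_option autoImplicit false
open scoped commutatorElement Pointwise

namespace Cfsg.Agent.Lib.Helper2.DihedralSub

open Cfsg.Agent.Lib.Helper1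

variable {G : Type*} [Group G]

/-- If `N(U) = C(U) T` with `T` a `2`-group, then odd-order elements of `N(U)` centralize `U`. -/
theorem odd_mem_centralizer_of_normalizer_eq [Finite G] (U T : Subgroup G) (hT : IsPGroup 2 T)
    (hTN : T ≤ Subgroup.normalizer (U : Set G))
    (h : Subgroup.normalizer (U : Set G) = Subgroup.centralizer (U : Set G) ⊔ T) (g : G)
    (hg : g ∈ Subgroup.normalizer (U : Set G)) (hodd : Odd (orderOf g)) :
    g ∈ Subgroup.centralizer (U : Set G) := by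
  obtain ⟨φ, hφ⟩ : ∃ φ : ↥(Subgroup.normalizer (U : Set G)) →* MulAut ↥U,
    φ = Cfsg.Agent.Lib.Helper7.conjKHom U := ⟨_, rfl⟩
  have hCN : Subgroup.centralizer (U : Set G) ≤ Subgroup.normalizer (U : Set G) :=
    Subgroup.centralizer_le_normalizer _
  have hg' : g ∈ ((Subgroup.centralizer (U : Set G) ⊔ T : Subgroup G) : Set G) := by
    rw [← h]; exact hg
  rw [Subgroup.coe_mul_of_right_le_normalizer_left _ T
    (hTN.trans (Cfsg.Agent.Lib.Helper7.normalizer_le_normalizer_centralizer U))] at hg'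
  obtain ⟨c, hc, t, ht, hct⟩ := Set.mem_mul.mp hg'
  have hφc : φ ⟨c, hCN hc⟩ = 1 := by
    rw [hφ]
    ext u
    rw [Cfsg.Agent.Lib.Helper7.conjKHom_apply_coe]
    have := Subgroup.mem_centralizer_iff.mp hc u u.2
    show c * u * c⁻¹ = u
    rw [← this]; group
  have h1 : φ ⟨g, hg⟩ = φ ⟨t, hTN ht⟩ := by
    have : (⟨g, hg⟩ : ↥(Subgroup.normalizer (U : Set G))) = ⟨c, hCN hc⟩ * ⟨t, hTN ht⟩ :=
      Subtype.ext hct.symm
    rw [this, map_mul, hφc, one_mul]
  have h2 : orderOf (φ ⟨g, hg⟩) ∣ orderOf g := by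
    rw [← Subgroup.orderOf_mk g hg]; exact orderOf_map_dvd φ _
  obtain ⟨a, ha⟩ := (IsPGroup.iff_orderOf.mp hT) ⟨t, ht⟩
  rw [Subgroup.orderOf_mk] at ha
  have h3 : orderOf (φ ⟨g, hg⟩) ∣ 2 ^ a := by
    rw [h1, ← ha, ← Subgroup.orderOf_mk t (hTN ht)]; exact orderOf_map_dvd φ _
  have h4 : orderOf (φ ⟨g, hg⟩) = 1 := by
    have h5 := Nat.dvd_gcd h2 h3
    rwa [Nat.Coprime.pow_right a (Nat.coprime_two_right.mpr hodd), Nat.dvd_one] at h5
  rw [orderOf_eq_one_iff, hφ] at h4
  rw [Subgroup.mem_centralizer_iff]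
  intro u hu
  have h5 := congrArg (fun ψ : MulAut ↥U => ((ψ ⟨u, hu⟩ : ↥U) : G)) h4
  simp only [Cfsg.Agent.Lib.Helper7.conjKHom_apply_coe, MulAut.one_apply] at h5
  calc u * g = (g * u * g⁻¹) * g := by rw [h5]
    _ = g * u := by group

/-- Every `p`-subgroup can be conjugated into a given Sylow `p`-subgroup. -/
theorem exists_conj_mem_sylow [Finite G] {p : ℕ} [Fact p.Prime] (S : Sylow p G) (A : Subgroup G)
    (hA : IsPGroup p A) : ∃ g : G, ∀ x ∈ A, g⁻¹ * x * g ∈ (S : Subgroup G) := by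
  obtain ⟨P', hP'⟩ := hA.exists_le_sylow
  obtain ⟨g, hg⟩ := MulAction.exists_smul_eq G S P'
  refine ⟨g, ?_⟩
  intro x hx
  have h1 : x ∈ ((g • S : Sylow p G) : Subgroup G) := by rw [hg]; exact hP' hx
  rw [Sylow.coe_subgroup_smul, Subgroup.mem_pointwise_smul_iff_inv_smul_mem] at h1
  simpa [MulAut.smul_def, MulAut.conj_apply, mul_assoc] using h1

/-- In a group with a normal `p`-complement, `N(U) = C(U) (S ∩ N(U))` for `U ≤ S`. -/
theorem normalizer_eq_of_hasNormalPComplement [Finite G] (S : Sylow 2 G)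
    (h : Cfsg.HasNormalPComplement 2 G) (U : Subgroup G) (hUS : U ≤ S) :
    Subgroup.normalizer (U : Set G) =
      Subgroup.centralizer (U : Set G) ⊔ ((S : Subgroup G) ⊓ Subgroup.normalizer (U : Set G)) := by
  obtain ⟨K, hKn, hKc⟩ := (hasNormalPComplement_iff S).mp h
  have hdisj : K ⊓ (S : Subgroup G) = ⊥ := hKc.disjoint.eq_bot
  have hsup : K ⊔ (S : Subgroup G) = ⊤ := hKc.sup_eq_top
  have hS2 : IsPGroup 2 ↥(S : Subgroup G) := S.isPGroup'
  obtain ⟨e, he⟩ := IsPGroup.iff_card.mp hS2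
  have hKidx : K.index = 2 ^ e := by rw [hKc.symm.index_eq_card, he]
  -- elements of `K ∩ S` are trivial
  have hKS : ∀ x, x ∈ K → x ∈ (S : Subgroup G) → x = 1 := by
    intro x hxK hxS
    have : x ∈ K ⊓ (S : Subgroup G) := ⟨hxK, hxS⟩
    rwa [hdisj, Subgroup.mem_bot] at this
  -- if `k ∈ K` conjugates `u ∈ S` into `S`, it centralizes `u`
  have hfus : ∀ k ∈ K, ∀ u ∈ (S : Subgroup G), k⁻¹ * u * k ∈ (S : Subgroup G) → k⁻¹ * u * k = u := by
    intro k hk u hu hku
    have h1 : k⁻¹ * u * k * u⁻¹ ∈ K := by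
      have : k⁻¹ * u * k * u⁻¹ = k⁻¹ * (u * k * u⁻¹) := by group
      rw [this]
      exact K.mul_mem (K.inv_mem hk) (hKn.conj_mem k hk u)
    have h2 : k⁻¹ * u * k * u⁻¹ ∈ (S : Subgroup G) := Subgroup.mul_mem _ hku (Subgroup.inv_mem _ hu)
    have h3 := hKS _ h1 h2
    calc k⁻¹ * u * k = (k⁻¹ * u * k * u⁻¹) * u := by group
      _ = u := by rw [h3, one_mul]
  apply le_antisymm
  · intro n hn
    obtain ⟨a, haz, b, hbz, hab, ⟨j, haj⟩, hbo⟩ := exists_p_part_mul_p'_part Nat.prime_two n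
    have hzN : Subgroup.zpowers n ≤ Subgroup.normalizer (U : Set G) := Subgroup.zpowers_le.mpr hn
    have haN := hzN haz
    have hbN := hzN hbz
    -- the odd part lies in `K`, hence centralizes `U`
    have hbK : b ∈ K := by
      have h1 : b ^ K.index ∈ K := K.pow_index_mem b
      rw [hKidx] at h1
      obtain ⟨m', hm'⟩ := exists_pow_eq_self_of_coprime
        (Nat.Coprime.pow_left e hbo.symm : (2 ^ e).Coprime (orderOf b))
      rw [← hm']
      exact K.pow_mem h1 _
    have hbC : b ∈ Subgroup.centralizer (U : Set G) := by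
      rw [Subgroup.mem_centralizer_iff]
      intro u hu
      have h1 : b * u * b⁻¹ * u⁻¹ ∈ K := by
        have : b * u * b⁻¹ * u⁻¹ = b * (u * b⁻¹ * u⁻¹) := by group
        rw [this]
        exact K.mul_mem hbK (hKn.conj_mem _ (K.inv_mem hbK) u)
      have h2 : b * u * b⁻¹ * u⁻¹ ∈ (S : Subgroup G) :=
        Subgroup.mul_mem _ (hUS ((Subgroup.mem_normalizer_iff.mp hbN u).mp hu))
          (Subgroup.inv_mem _ (hUS hu))
      have h3 := hKS _ h1 h2
      calc u * b = (b * u * b⁻¹ * u⁻¹)⁻¹ * (b * u) := by group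
        _ = b * u := by rw [h3, inv_one, one_mul]
    -- the `2`-part
    have haP : IsPGroup 2 ↥(Subgroup.zpowers a) := by
      rintro ⟨x, hx⟩
      refine ⟨j, ?_⟩
      obtain ⟨i, rfl⟩ := Subgroup.mem_zpowers_iff.mp hx
      apply Subtype.ext
      rw [Subgroup.coe_pow, Subgroup.coe_one]
      show (a ^ i) ^ 2 ^ j = 1
      rw [← zpow_natCast, ← zpow_mul, mul_comm, zpow_mul, zpow_natCast, haj, one_zpow]
    have hA2 : IsPGroup 2 ↥(Subgroup.zpowers a ⊔ U : Subgroup G) :=
      haP.to_sup_of_normal_right' (hS2.to_le hUS) (Subgroup.zpowers_le.mpr haN)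
    obtain ⟨g', hg'⟩ := exists_conj_mem_sylow S _ hA2
    have hg'top : g' ∈ K ⊔ (S : Subgroup G) := by rw [hsup]; exact Subgroup.mem_top _
    obtain ⟨k, hk, s, hs, hks⟩ := Subgroup.mem_sup_of_normal_left.mp hg'top
    have hkx : ∀ x ∈ (Subgroup.zpowers a ⊔ U : Subgroup G), k⁻¹ * x * k ∈ (S : Subgroup G) := by
      intro x hx
      have h1 := hg' x hx
      rw [← hks] at h1
      have h2 : k⁻¹ * x * k = s * ((k * s)⁻¹ * x * (k * s)) * s⁻¹ := by group
      rw [h2]
      exact Subgroup.mul_mem _ (Subgroup.mul_mem _ hs h1) (Subgroup.inv_mem _ hs)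
    have hkC : k ∈ Subgroup.centralizer (U : Set G) := by
      rw [Subgroup.mem_centralizer_iff]
      intro u hu
      have h1 := hfus k hk u (hUS hu) (hkx u (le_sup_right (a := Subgroup.zpowers a) hu))
      calc u * k = k * (k⁻¹ * u * k) := by group
        _ = k * u := by rw [h1]
    have hkN : k ∈ Subgroup.normalizer (U : Set G) := Subgroup.centralizer_le_normalizer _ hkC
    have ha' : k⁻¹ * a * k ∈ (S : Subgroup G) ⊓ Subgroup.normalizer (U : Set G) :=
      ⟨hkx a (le_sup_left (b := U) (Subgroup.mem_zpowers a)),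
        Subgroup.mul_mem _ (Subgroup.mul_mem _ (Subgroup.inv_mem _ hkN) haN) hkN⟩
    have haS : a ∈ Subgroup.centralizer (U : Set G) ⊔
        ((S : Subgroup G) ⊓ Subgroup.normalizer (U : Set G)) := by
      have : a = k * (k⁻¹ * a * k) * k⁻¹ := by group
      rw [this]
      exact Subgroup.mul_mem _ (Subgroup.mul_mem _ (Subgroup.mem_sup_left hkC)
        (Subgroup.mem_sup_right ha')) (Subgroup.mem_sup_left (Subgroup.inv_mem _ hkC))
    rw [hab]
    exact Subgroup.mul_mem _ haS (Subgroup.mem_sup_left hbC)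
  · exact sup_le (Subgroup.centralizer_le_normalizer _) inf_le_right

/-- A group with dihedral Sylow `2`-subgroup `S` has a normal `2`-complement iff
`N(U) = C(U) N_S(U)` for every four-subgroup `U` of `S`. -/
theorem dihedral_sylow_normal_two_complement_iff [Finite G] (S : Sylow 2 G) (m : ℕ) (hm : 2 ≤ m)
    (eS : (S : Subgroup G) ≃* DihedralGroup m) :
    Cfsg.HasNormalPComplement 2 G ↔ ∀ U : Subgroup G, U ≤ S → IsKleinFour U →
      Subgroup.normalizer (U : Set G) = Subgroup.centralizer (U : Set G) ⊔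
        ((S : Subgroup G) ⊓ Subgroup.normalizer (U : Set G)) := by
  haveI : NeZero m := ⟨by omega⟩
  constructor
  · intro h U hUS _
    exact normalizer_eq_of_hasNormalPComplement S h U hUS
  · intro h
    rw [hasNormalPComplement_iff_frobeniusCondition]
    apply frobeniusCondition_of_sylow S
    intro Q hQS g hg hgo
    have hS2 : IsPGroup 2 ↥(S : Subgroup G) := S.isPGroup'
    apply odd_normalizer_le_centralizer (S : Subgroup G) (rot (S : Subgroup G) eS) hS2
      (rot_le _ eS) (isCyclic_rot _ eS) (relIndex_rot _ eS)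
      (sq_eq_one_of_not_mem_rot _ eS) (inv_mul_mem_rot _ eS) ?_ Q hQS g hg
      (Nat.coprime_two_right.mp hgo)
    intro U hUS hU4 g' hg' hodd'
    exact odd_mem_centralizer_of_normalizer_eq U _ (hS2.to_le inf_le_left) inf_le_right
      (h U hUS hU4) g' hg' hodd'

end Cfsg.Agent.Lib.Helper2.DihedralSub
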