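import Cfsg.Agent.Lib.Helper9.AlperinCor

set_option autoImplicit false

namespace Cfsg.Agent.Lib.Helper2.StrongInv

open Cfsg Cfsg.FusionSystem Cfsg.Agent.Lib.Helper9

variable {Ω : Type*} [Group Ω] {S : Subgroup Ω}

/-- the strong invariance condition -/
def SI (F : FusionSystem S) {T : Subgroup Ω} (E : FusionSystem T) : Prop :=
  ∀ (P Q : Subgroup Ω) (hPQ : P ≤ Q) (_ : Q ≤ T) (φ : P →* Ω) (_ : φ ∈ E.Hom P)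
    (hφQ : ∀ x : P, φ x ∈ Q) (ψ : Q →* Ω) (_ : ψ ∈ F.Hom Q),
    ∃ χ ∈ E.Hom ((P.subgroupOf Q).map ψ),
      ∀ (x : P) (hx : ψ (Subgroup.inclusion hPQ x) ∈ (P.subgroupOf Q).map ψ),
        χ ⟨ψ (Subgroup.inclusion hPQ x), hx⟩ = ψ ⟨φ x, hφQ x⟩

/-- invariance under `Aut_F(T)` with a free target subgroup -/
def Inv (F : FusionSystem S) {T : Subgroup Ω} (E : FusionSystem T) : Prop :=
  ∀ (P P₂ : Subgroup Ω) (hPT : P ≤ T) (φ : P →* Ω), φ ∈ E.Hom P → ∀ α ∈ F.autGroup T,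
    (∀ y : Ω, y ∈ P₂ ↔ ∃ (x : Ω) (hx : x ∈ P), ((α ⟨x, hPT hx⟩ : T) : Ω) = y) →
    ∃ χ ∈ E.Hom P₂, ∀ (x : P) (h2 : ((α ⟨x, hPT x.2⟩ : T) : Ω) ∈ P₂) (hφx : φ x ∈ T),
      χ ⟨((α ⟨x, hPT x.2⟩ : T) : Ω), h2⟩ = ((α ⟨φ x, hφx⟩ : T) : Ω)

/-- the Frattini factorization of a single map -/
def Fr (F : FusionSystem S) {T : Subgroup Ω} (E : FusionSystem T) (P : Subgroup Ω)
    (φ : P →* Ω) : Prop :=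
  ∃ α ∈ F.autGroup T, ∃ φ₀ ∈ E.Hom P, ∀ (x : P) (hx : φ₀ x ∈ T),
    φ x = ((α ⟨φ₀ x, hx⟩ : T) : Ω)

theorem transport_hom {T : Subgroup Ω} (E : FusionSystem T) {P₁ P₂ : Subgroup Ω} (h : P₁ = P₂)
    {χ : P₁ →* Ω} (hχ : χ ∈ E.Hom P₁) :
    ∃ χ' ∈ E.Hom P₂, ∀ (y : Ω) (h1 : y ∈ P₁) (h2 : y ∈ P₂), χ' ⟨y, h2⟩ = χ ⟨y, h1⟩ := by
  subst h
  exact ⟨χ, hχ, fun y h1 h2 => rfl⟩

theorem inv_of_SI {F : FusionSystem S} {T : Subgroup Ω} {E : FusionSystem T} (hTS : T ≤ S)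
    (hSI : SI F E) : Inv F E := by
  intro P P₂ hPT φ hφ α hα hP₂
  have hψ := hom_of_mem_autGroup F hTS hα
  have hφT : ∀ x : P, φ x ∈ T := (E.le_of_mem hφ).2
  obtain ⟨χ, hχ, hχe⟩ := hSI P T hPT le_rfl φ hφ hφT _ hψ
  have heq : P₂ = (P.subgroupOf T).map (T.subtype.comp α.toMonoidHom) := by
    ext y
    rw [hP₂]
    constructor
    · rintro ⟨x, hx, rfl⟩
      exact ⟨⟨x, hPT hx⟩, Subgroup.mem_subgroupOf.mpr hx, rfl⟩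
    · rintro ⟨x, hx, rfl⟩
      exact ⟨x.1, Subgroup.mem_subgroupOf.mp hx, rfl⟩
  subst heq
  exact ⟨χ, hχ, fun x h2 hφx => hχe x h2⟩

theorem inv_of_invariant {F : FusionSystem S} {T : Subgroup Ω} {E : FusionSystem T}
    (h : E.IsInvariantIn F) : Inv F E := by
  obtain ⟨-, -, hI, -⟩ := h
  intro P P₂ hPT φ hφ α hα hP₂
  obtain ⟨χ, hχ, hχe⟩ := hI P hPT φ hφ α hα
  have heq : P₂ = (P.subgroupOf T).map (T.subtype.comp α.toMonoidHom) := by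
    ext y
    rw [hP₂]
    constructor
    · rintro ⟨x, hx, rfl⟩
      exact ⟨⟨x, hPT hx⟩, Subgroup.mem_subgroupOf.mpr hx, rfl⟩
    · rintro ⟨x, hx, rfl⟩
      exact ⟨x.1, Subgroup.mem_subgroupOf.mp hx, rfl⟩
  subst heq
  exact ⟨χ, hχ, fun x h2 hφx => hχe x hφx h2⟩

section FrLemmas

variable {F : FusionSystem S} {T : Subgroup Ω} {E : FusionSystem T}

theorem Fr.of_mem {P : Subgroup Ω} {φ : P →* Ω} (hφ : φ ∈ E.Hom P) : Fr F E P φ :=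
  ⟨1, Subgroup.one_mem _, φ, hφ, fun _ _ => rfl⟩

theorem Fr.restrict {P : Subgroup Ω} {φ : P →* Ω} (h : Fr F E P φ) {P₁ : Subgroup Ω}
    (hle : P₁ ≤ P) : Fr F E P₁ (φ.comp (Subgroup.inclusion hle)) := by
  obtain ⟨α, hα, φ₀, hφ₀, he⟩ := h
  exact ⟨α, hα, φ₀.comp (Subgroup.inclusion hle), restrict_mem E hφ₀ hle,
    fun x hx => he (Subgroup.inclusion hle x) hx⟩

theorem Fr.comp (hInv : Inv F E) {P P' : Subgroup Ω} {φ : P →* Ω} {φ' : P' →* Ω}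
    (h : Fr F E P φ) (h' : Fr F E P' φ') (hm : ∀ x : P, φ x ∈ P') :
    Fr F E P (φ'.comp (φ.codRestrict P' hm)) := by
  obtain ⟨α, hα, φ₀, hφ₀, he⟩ := h
  obtain ⟨α', hα', φ'₀, hφ'₀, he'⟩ := h'
  have hPT : P ≤ T := (E.le_of_mem hφ₀).1
  have hφ₀T : ∀ x, φ₀ x ∈ T := (E.le_of_mem hφ₀).2
  have hP'T : P' ≤ T := (E.le_of_mem hφ'₀).1
  have hφ'₀T : ∀ y, φ'₀ y ∈ T := (E.le_of_mem hφ'₀).2
  obtain ⟨P₁, hP₁⟩ : ∃ P₁, φ₀.range = P₁ := ⟨_, rfl⟩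
  obtain ⟨P'₁, hP'₁⟩ : ∃ P'₁, φ.range = P'₁ := ⟨_, rfl⟩
  have hP'₁P' : P'₁ ≤ P' := by
    rw [← hP'₁]
    rintro _ ⟨x, rfl⟩
    exact hm x
  have hP'₁T : P'₁ ≤ T := hP'₁P'.trans hP'T
  have hφ'₀r : φ'₀.comp (Subgroup.inclusion hP'₁P') ∈ E.Hom P'₁ := restrict_mem E hφ'₀ hP'₁P'
  have hαinv : ∀ (x : P) (h : φ x ∈ T), α⁻¹ ⟨φ x, h⟩ = ⟨φ₀ x, hφ₀T x⟩ := by
    intro x h
    have e := he x (hφ₀T x)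
    have e2 : (⟨φ x, h⟩ : T) = α ⟨φ₀ x, hφ₀T x⟩ := Subtype.ext e
    rw [e2, MulAut.inv_apply_self]
  have hφ₀P₁ : ∀ x : P, φ₀ x ∈ P₁ := fun x => hP₁.le ⟨x, rfl⟩
  have hcond : ∀ y : Ω, y ∈ P₁ ↔
      ∃ (z : Ω) (hz : z ∈ P'₁), ((α⁻¹ ⟨z, hP'₁T hz⟩ : T) : Ω) = y := by
    intro y
    constructor
    · intro hy
      obtain ⟨x, hx⟩ := hP₁.ge hy
      refine ⟨φ x, hP'₁.le ⟨x, rfl⟩, ?_⟩
      rw [hαinv x _]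
      exact hx
    · rintro ⟨z, hz, hzy⟩
      obtain ⟨x, hx⟩ := hP'₁.ge hz
      subst hx
      rw [hαinv x _] at hzy
      rw [← hzy]
      exact hφ₀P₁ x
  obtain ⟨χ, hχ, hχe⟩ := hInv P'₁ P₁ hP'₁T _ hφ'₀r α⁻¹ ((F.autGroup T).inv_mem hα) hcond
  obtain ⟨φ₀'', hφ₀'', hφ₀''e⟩ := comp_hom E hφ₀ hχ hφ₀P₁
  refine ⟨α' * α, (F.autGroup T).mul_mem hα' hα, φ₀'', hφ₀'', ?_⟩
  intro x hx
  show φ' ⟨φ x, hm x⟩ = _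
  rw [he' ⟨φ x, hm x⟩ (hφ'₀T _), MulAut.mul_apply]
  have hz : φ x ∈ P'₁ := hP'₁.le ⟨x, rfl⟩
  have h2 : ((α⁻¹ ⟨φ x, hP'₁T hz⟩ : T) : Ω) ∈ P₁ := by
    rw [hαinv x _]
    exact hφ₀P₁ x
  have e3 := hχe ⟨φ x, hz⟩ h2 (hφ'₀T _)
  have key : (⟨φ₀'' x, hx⟩ : T) = α⁻¹ ⟨φ'₀ ⟨φ x, hm x⟩, hφ'₀T _⟩ := by
    apply Subtype.ext
    show φ₀'' x = ((α⁻¹ ⟨φ'₀ ⟨φ x, hm x⟩, hφ'₀T _⟩ : T) : Ω)
    rw [hφ₀''e x]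
    refine Eq.trans ?_ e3
    congr 1
    apply Subtype.ext
    show φ₀ x = ((α⁻¹ ⟨φ x, hP'₁T hz⟩ : T) : Ω)
    rw [hαinv x _]
  rw [key, MulAut.apply_inv_self]

theorem Fr.inv (hInv : Inv F E) {P P' : Subgroup Ω} {φ : P →* Ω} {ψ : P' →* Ω}
    (h : Fr F E P φ) (hr : φ.range = P')
    (hψφ : ∀ (x : P) (hx : φ x ∈ P'), ψ ⟨φ x, hx⟩ = x) : Fr F E P' ψ := by
  obtain ⟨α, hα, φ₀, hφ₀, he⟩ := h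
  have hPT : P ≤ T := (E.le_of_mem hφ₀).1
  have hφ₀T : ∀ x, φ₀ x ∈ T := (E.le_of_mem hφ₀).2
  obtain ⟨P₁, hP₁⟩ : ∃ P₁, φ₀.range = P₁ := ⟨_, rfl⟩
  obtain ⟨θ₀, hθ₀, hθ₀φ₀, hθ₀r, -⟩ := inv_hom E hφ₀ hP₁
  have hP₁T : P₁ ≤ T := (E.le_of_mem hθ₀).1
  have hcond : ∀ y : Ω, y ∈ P' ↔
      ∃ (z : Ω) (hz : z ∈ P₁), ((α ⟨z, hP₁T hz⟩ : T) : Ω) = y := by
    intro y
    constructor
    · intro hy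
      obtain ⟨x, hx⟩ := hr.ge hy
      refine ⟨φ₀ x, hP₁.le ⟨x, rfl⟩, ?_⟩
      rw [← hx]
      exact (he x (hφ₀T x)).symm
    · rintro ⟨z, hz, hzy⟩
      obtain ⟨x, hx⟩ := hP₁.ge hz
      subst hx
      rw [← hzy, ← he x (hφ₀T x)]
      exact hr.le ⟨x, rfl⟩
  obtain ⟨χ, hχ, hχe⟩ := hInv P₁ P' hP₁T θ₀ hθ₀ α hα hcond
  refine ⟨α⁻¹, (F.autGroup T).inv_mem hα, χ, hχ, ?_⟩
  intro y hy
  obtain ⟨x, hx⟩ := hr.ge y.2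
  have hxy : y = ⟨φ x, hr.le ⟨x, rfl⟩⟩ := Subtype.ext hx.symm
  subst hxy
  rw [hψφ x]
  have e := he x (hφ₀T x)
  have h2 : ((α ⟨φ₀ x, hφ₀T x⟩ : T) : Ω) ∈ P' := by
    rw [← e]
    exact hr.le ⟨x, rfl⟩
  have hθz : θ₀ ⟨φ₀ x, hP₁.le ⟨x, rfl⟩⟩ ∈ T := by
    rw [hθ₀φ₀]
    exact hPT x.2
  have e3 := hχe ⟨φ₀ x, hP₁.le ⟨x, rfl⟩⟩ h2 hθz
  have key : (⟨χ ⟨φ x, hr.le ⟨x, rfl⟩⟩, hy⟩ : T) = α ⟨(x : Ω), hPT x.2⟩ := by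
    apply Subtype.ext
    show χ ⟨φ x, _⟩ = ((α ⟨(x : Ω), hPT x.2⟩ : T) : Ω)
    have e4 : χ ⟨φ x, hr.le ⟨x, rfl⟩⟩ = χ ⟨((α ⟨φ₀ x, hφ₀T x⟩ : T) : Ω), h2⟩ := by
      congr 1
      exact Subtype.ext e
    rw [e4, e3]
    have e5 : (⟨θ₀ ⟨φ₀ x, hP₁.le ⟨x, rfl⟩⟩, hθz⟩ : T) = ⟨(x : Ω), hPT x.2⟩ :=
      Subtype.ext (hθ₀φ₀ x _)
    rw [e5]
  rw [key, MulAut.inv_apply_self]

end FrLemmas

end Cfsg.Agent.Lib.Helper2.StrongInv
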