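import Cfsg.Agent.Lib.Helper2.KNorm1
import Cfsg.Agent.Lib.Helper2.StrongInv1

/-!
# Strongly closed direct factors: basic tools

Extension of maps over a strongly closed centralizing subgroup, strong invariance of a system in
itself, saturation of the full subsystem on a strongly closed subgroup with a centralizing
supplement.
-/

set_option autoImplicit false

namespace Cfsg.Agent.Lib.Helper2.DirFac

open Cfsg Cfsg.FusionSystem Cfsg.Agent.Lib.Helper9 Cfsg.Agent.Lib.Helper2.KNorm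
  Cfsg.Agent.Lib.Helper2.StrongInv

variable {Ω : Type*} [Group Ω] {S : Subgroup Ω}

/-- a homomorphism on a join takes values in `K` if it does on both parts -/
theorem map_sup_mem {A B K : Subgroup Ω} (f : ↥(A ⊔ B) →* Ω)
    (hA : ∀ a : A, f (Subgroup.inclusion le_sup_left a) ∈ K)
    (hB : ∀ b : B, f (Subgroup.inclusion le_sup_right b) ∈ K) (y : ↥(A ⊔ B)) : f y ∈ K := by
  have hle : A ⊔ B ≤ (K.comap f).map (A ⊔ B).subtype := by
    apply sup_le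
    · intro a ha
      exact ⟨Subgroup.inclusion le_sup_left ⟨a, ha⟩, hA ⟨a, ha⟩, rfl⟩
    · intro b hb
      exact ⟨Subgroup.inclusion le_sup_right ⟨b, hb⟩, hB ⟨b, hb⟩, rfl⟩
  obtain ⟨z, hz, hzy⟩ := hle y.2
  have hzy' : z = y := Subtype.ext hzy
  rw [← hzy']
  exact hz

/-- the products `a * b` of two elementwise commuting subgroups -/
def prodSub (A B : Subgroup Ω) (hcomm : ∀ a ∈ A, ∀ b ∈ B, a * b = b * a) : Subgroup Ω where
  carrier := {g | ∃ a ∈ A, ∃ b ∈ B, g = a * b}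
  one_mem' := ⟨1, A.one_mem, 1, B.one_mem, by simp⟩
  mul_mem' := by
    rintro x y ⟨a, ha, b, hb, rfl⟩ ⟨a', ha', b', hb', rfl⟩
    refine ⟨a * a', A.mul_mem ha ha', b * b', B.mul_mem hb hb', ?_⟩
    have h := hcomm a' ha' b hb
    calc a * b * (a' * b') = a * (b * a') * b' := by group
      _ = a * (a' * b) * b' := by rw [h]
      _ = a * a' * (b * b') := by group
  inv_mem' := by
    rintro x ⟨a, ha, b, hb, rfl⟩
    refine ⟨a⁻¹, A.inv_mem ha, b⁻¹, B.inv_mem hb, ?_⟩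
    have h := hcomm a ha b hb
    rw [h]
    group

theorem exists_mul_of_mem_sup {A B : Subgroup Ω} (hcomm : ∀ a ∈ A, ∀ b ∈ B, a * b = b * a) {g : Ω}
    (hg : g ∈ A ⊔ B) : ∃ a ∈ A, ∃ b ∈ B, g = a * b := by
  have hle : A ⊔ B ≤ prodSub A B hcomm :=
    sup_le (fun a ha => ⟨a, ha, 1, B.one_mem, by simp⟩) (fun b hb => ⟨1, A.one_mem, b, hb, by simp⟩)
  exact hle hg

/-- a map of the system defined on a subgroup containing the strongly closed `T` maps `T` onto `T` -/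
theorem exists_preimage_of_stronglyClosed [Finite S] (F : FusionSystem S) {T D : Subgroup Ω}
    (hT : F.StronglyClosed T) (hTD : T ≤ D) {ψ : D →* Ω} (hψ : ψ ∈ F.Hom D) (t : Ω) (ht : t ∈ T) :
    ∃ (t' : Ω) (ht' : t' ∈ T), ψ ⟨t', hTD ht'⟩ = t := by
  have hfin : Finite T := finite_of_le hT.1
  have hres : ψ.comp (Subgroup.inclusion hTD) ∈ F.Hom T := restrict_mem F hψ hTD
  have hmem : ∀ x : T, (ψ.comp (Subgroup.inclusion hTD)) x ∈ T := hT.2 T le_rfl _ hres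
  have hinj : Function.Injective ((ψ.comp (Subgroup.inclusion hTD)).codRestrict T hmem) := by
    intro a b hab
    exact F.injective_of_mem hres (congrArg Subtype.val hab)
  obtain ⟨x, hx⟩ := Finite.surjective_of_injective hinj ⟨t, ht⟩
  exact ⟨x.1, x.2, congrArg Subtype.val hx⟩

theorem range_eq_self [Finite S] (F : FusionSystem S) {P : Subgroup Ω} {φ : P →* Ω}
    (hφ : φ ∈ F.Hom P) (h : ∀ x, φ x ∈ P) : φ.range = P := by
  have hfin : Finite P := finite_of_le (hom_le F hφ)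
  apply le_antisymm
  · rintro _ ⟨x, rfl⟩
    exact h x
  · intro y hy
    have hinj : Function.Injective (φ.codRestrict P h) := by
      intro a b hab
      exact F.injective_of_mem hφ (congrArg Subtype.val hab)
    obtain ⟨x, hx⟩ := Finite.surjective_of_injective hinj ⟨y, hy⟩
    exact ⟨x, congrArg Subtype.val hx⟩

theorem fullyCentralized_of_stronglyClosed [Finite S] (F : FusionSystem S) {T : Subgroup Ω}
    (hT : F.StronglyClosed T) : F.IsFullyCentralized T := by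
  refine ⟨hT.1, ?_⟩
  rintro Q ⟨φ, hφ, hφr⟩
  have hr := range_eq_self F hφ (hT.2 T le_rfl φ hφ)
  have hQT : Q = T := by rw [← hφr, hr]
  rw [hQT]

/-- extension of a map over a strongly closed subgroup centralizing its source and target -/
theorem exists_extension_sup [Finite S] {p : ℕ} [Fact p.Prime] (hS : IsPGroup p S)
    (F : FusionSystem S) (hF : F.IsSaturated p) {T : Subgroup Ω} (hT : F.StronglyClosed T)
    {Q : Subgroup Ω} {ψ : Q →* Ω} (hψ : ψ ∈ F.Hom Q)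
    (hTQ : T ≤ Subgroup.centralizer (Q : Set Ω))
    (hTψ : T ≤ Subgroup.centralizer ((ψ.range : Subgroup Ω) : Set Ω)) :
    ∃ ψ' ∈ F.Hom (Q ⊔ T), ∀ x : Q, ψ' (Subgroup.inclusion le_sup_left x) = ψ x := by
  have hQS : Q ≤ S := hom_le F hψ
  have hTS : T ≤ S := hT.1
  obtain ⟨φg, hφg, hfc, hsyl⟩ := exists_good hS F hF hQS (⊥ : Subgroup (MulAut Q))
  have hrec := receptive_of_fullyCentralized hS F hF hfc
  obtain ⟨χ₁, hχ₁, ψ₁, hψ₁, hψ₁e⟩ := exists_extension hS F hφg hψ hrec hsyl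
  obtain ⟨χ₂, hχ₂, ψ₂, hψ₂, hψ₂e⟩ :=
    exists_extension hS F hφg (subtype_mem F hQS) hrec hsyl
  have hχ₁1 : χ₁ = 1 := Subgroup.mem_bot.mp hχ₁.2
  have hχ₂1 : χ₂ = 1 := Subgroup.mem_bot.mp hχ₂.2
  subst hχ₁1 hχ₂1
  have hT1 : T ≤ NS S ψ (⊥ : Subgroup (MulAut Q)) := by
    intro g hg
    refine ⟨hTS hg, 1, Subgroup.one_mem _, fun x => ?_⟩
    have hc := (Subgroup.mem_centralizer_iff.mp (hTψ hg)) (ψ x) ⟨x, rfl⟩
    rw [MulAut.one_apply, ← hc, mul_inv_cancel_right]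
  have hT2 : T ≤ NS S Q.subtype (⊥ : Subgroup (MulAut Q)) := by
    intro g hg
    refine ⟨hTS hg, 1, Subgroup.one_mem _, fun x => ?_⟩
    have hc := (Subgroup.mem_centralizer_iff.mp (hTQ hg)) (x : Ω) x.2
    rw [MulAut.one_apply]
    show (x : Ω) = g * (x : Ω) * g⁻¹
    rw [← hc, mul_inv_cancel_right]
  have hle₁ : ψ.range ⊔ T ≤ NS S ψ (⊥ : Subgroup (MulAut Q)) ⊔ ψ.range :=
    sup_le le_sup_right (hT1.trans le_sup_left)
  have hle₂ : Q ⊔ T ≤ NS S Q.subtype (⊥ : Subgroup (MulAut Q)) ⊔ Q.subtype.range :=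
    sup_le ((Subgroup.range_subtype Q).ge.trans le_sup_right) (hT2.trans le_sup_left)
  have hl1 : ψ.range ≤ ψ.range ⊔ T := le_sup_left
  have hl2 : Q ≤ Q ⊔ T := le_sup_left
  have hr1 : T ≤ ψ.range ⊔ T := le_sup_right
  have hψ₁' : ψ₁.comp (Subgroup.inclusion hle₁) ∈ F.Hom (ψ.range ⊔ T) := restrict_mem F hψ₁ hle₁
  have hψ₂' : ψ₂.comp (Subgroup.inclusion hle₂) ∈ F.Hom (Q ⊔ T) := restrict_mem F hψ₂ hle₂
  have hkey : ∀ a : Q, (ψ₂.comp (Subgroup.inclusion hle₂)) (Subgroup.inclusion le_sup_left a) =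
      (ψ₁.comp (Subgroup.inclusion hle₁)) ⟨ψ a, hl1 ⟨a, rfl⟩⟩ := by
    intro a
    have e1 := hψ₁e a (hle₁ (hl1 ⟨a, rfl⟩))
    have e2 := hψ₂e a (hle₂ (hl2 a.2))
    exact e2.trans e1.symm
  have hrange : ∀ y : ↥(Q ⊔ T), (ψ₂.comp (Subgroup.inclusion hle₂)) y ∈
      (ψ₁.comp (Subgroup.inclusion hle₁)).range := by
    apply map_sup_mem
    · intro a
      rw [hkey a]
      exact ⟨_, rfl⟩
    · intro b
      have hbT : (ψ₂.comp (Subgroup.inclusion hle₂)) (Subgroup.inclusion le_sup_right b) ∈ T :=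
        hT.2 T le_rfl _ (restrict_mem F hψ₂' le_sup_right) b
      obtain ⟨t', ht', ht'e⟩ := exists_preimage_of_stronglyClosed F hT
        (le_sup_right : T ≤ ψ.range ⊔ T) hψ₁' _ hbT
      exact ⟨⟨t', hr1 ht'⟩, ht'e⟩
  obtain ⟨θ, hθ, hθe, -, -⟩ := inv_hom F hψ₁' rfl
  obtain ⟨χ, hχ, hχe⟩ := comp_hom F hψ₂' hθ hrange
  refine ⟨χ, hχ, fun x => ?_⟩
  have e3 : (⟨(ψ₂.comp (Subgroup.inclusion hle₂)) (Subgroup.inclusion le_sup_left x),
      hrange _⟩ : ↥((ψ₁.comp (Subgroup.inclusion hle₁)).range)) =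
      ⟨(ψ₁.comp (Subgroup.inclusion hle₁)) ⟨ψ x, hl1 ⟨x, rfl⟩⟩, ⟨_, rfl⟩⟩ :=
    Subtype.ext (hkey x)
  rw [hχe, e3]
  exact hθe ⟨ψ x, hl1 ⟨x, rfl⟩⟩ _

/-- a fusion system is strongly invariant in itself -/
theorem si_self (F : FusionSystem S) {P Q : Subgroup Ω} (hPQ : P ≤ Q) {φ : P →* Ω}
    (hφ : φ ∈ F.Hom P) (hφQ : ∀ x : P, φ x ∈ Q) {ψ : Q →* Ω} (hψ : ψ ∈ F.Hom Q) :
    ∃ χ ∈ F.Hom ((P.subgroupOf Q).map ψ),
      ∀ (x : P) (hx : ψ (Subgroup.inclusion hPQ x) ∈ (P.subgroupOf Q).map ψ),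
        χ ⟨ψ (Subgroup.inclusion hPQ x), hx⟩ = ψ ⟨φ x, hφQ x⟩ := by
  have hres : ψ.comp (Subgroup.inclusion hPQ) ∈ F.Hom P := restrict_mem F hψ hPQ
  have hrange : (ψ.comp (Subgroup.inclusion hPQ)).range = (P.subgroupOf Q).map ψ := by
    ext y
    constructor
    · rintro ⟨x, rfl⟩
      exact ⟨Subgroup.inclusion hPQ x, Subgroup.mem_subgroupOf.mpr x.2, rfl⟩
    · rintro ⟨z, hz, rfl⟩
      exact ⟨⟨z.1, Subgroup.mem_subgroupOf.mp hz⟩, rfl⟩
  obtain ⟨θ, hθ, hθe, hθr, -⟩ := inv_hom F hres hrange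
  have h1 : ∀ y, θ y ∈ P := fun y => hθr.le ⟨y, rfl⟩
  obtain ⟨γ₁, hγ₁, hγ₁e⟩ := comp_hom F hθ hφ h1
  have h2 : ∀ y, γ₁ y ∈ Q := fun y => by rw [hγ₁e]; exact hφQ _
  obtain ⟨γ, hγ, hγe⟩ := comp_hom F hγ₁ hψ h2
  refine ⟨γ, hγ, fun x hx => ?_⟩
  have e1 : θ ⟨ψ (Subgroup.inclusion hPQ x), hx⟩ = x := hθe x hx
  have e2 : (⟨θ ⟨ψ (Subgroup.inclusion hPQ x), hx⟩, h1 _⟩ : P) = x := Subtype.ext e1
  have e3 : γ₁ ⟨ψ (Subgroup.inclusion hPQ x), hx⟩ = φ x := by rw [hγ₁e, e2]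
  have e4 : (⟨γ₁ ⟨ψ (Subgroup.inclusion hPQ x), hx⟩, h2 _⟩ : Q) = ⟨φ x, hφQ x⟩ :=
    Subtype.ext e3
  rw [hγe, e4]

/-- the full subsystem on a strongly closed subgroup with a centralizing supplement is saturated -/
theorem full_saturated [Finite S] {p : ℕ} [Fact p.Prime] (F : FusionSystem S)
    (hF : F.IsSaturated p) {S₁ : Subgroup Ω} (h₁ : F.StronglyClosed S₁)
    (hdec : ∀ g ∈ S, ∃ a ∈ S₁, ∃ b ∈ Subgroup.centralizer (S₁ : Set Ω), g = a * b)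
    (R : FusionSystem S₁) (hR : ∀ P : Subgroup Ω, P ≤ S₁ → R.Hom P = F.Hom P) :
    R.IsSaturated p := by
  intro P hP
  obtain ⟨P', hPP', hfa, hrec⟩ := hF P (hP.trans h₁.1)
  obtain ⟨φ, hφ, hφr⟩ := hPP'
  have hP' : P' ≤ S₁ := by
    rw [← hφr]
    rintro _ ⟨x, rfl⟩
    exact h₁.2 P hP φ hφ x
  refine ⟨P', ⟨φ, by rw [hR P hP]; exact hφ, hφr⟩, ?_, ?_⟩
  · obtain ⟨-, R₀, hR₀⟩ := hfa
    have hAut : R.autGroup P' = F.autGroup P' := by
      unfold FusionSystem.autGroup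
      rw [hR P' hP']
    have hInd : autInducedBy S₁ P' = autInducedBy S P' := by
      apply le_antisymm
      · apply Subgroup.closure_mono
        rintro α ⟨g, hg, hα⟩
        exact ⟨g, h₁.1 hg, hα⟩
      · apply (Subgroup.closure_le _).mpr
        rintro α ⟨g, hg, hα⟩
        obtain ⟨a, ha, b, hb, rfl⟩ := hdec g hg
        apply Subgroup.subset_closure
        refine ⟨a, ha, fun x => ?_⟩
        rw [hα x]
        have hbx : (x : Ω) * b = b * x :=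
          (Subgroup.mem_centralizer_iff.mp hb) (x : Ω) (hP' x.2)
        have hbx' : b * (x : Ω) * b⁻¹ = x := by rw [← hbx, mul_inv_cancel_right]
        calc a * b * (x : Ω) * (a * b)⁻¹ = a * (b * x * b⁻¹) * a⁻¹ := by group
          _ = a * x * a⁻¹ := by rw [hbx']
    refine ⟨hP', ?_⟩
    rw [hAut, hInd]
    exact ⟨R₀, hR₀⟩
  · refine ⟨hP', ?_⟩
    intro Q χ hχ hχr
    have hQ : Q ≤ S₁ := (R.le_of_mem hχ).1
    have hχF : χ ∈ F.Hom Q := by rw [← hR Q hQ]; exact hχ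
    obtain ⟨ψ, hψ, hψe⟩ := hrec.2 Q χ hχF hχr
    have hle : extender S₁ Q χ ≤ extender S Q χ := by
      apply Subgroup.closure_mono
      rintro g ⟨hg, hgN, h, hh, hhe⟩
      exact ⟨h₁.1 hg, hgN, h, h₁.1 hh, hhe⟩
    have hle₁ : extender S₁ Q χ ≤ S₁ := by
      apply (Subgroup.closure_le _).mpr
      rintro g ⟨hg, -⟩
      exact hg
    refine ⟨ψ.comp (Subgroup.inclusion hle), ?_, ?_⟩
    · rw [hR _ hle₁]
      exact restrict_mem F hψ hle
    · intro x hxQ hxN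
      exact hψe x hxQ (hle hxN)

theorem aut_centralizer_mem {T : Subgroup Ω} (α : MulAut T) {a : T}
    (ha : (a : Ω) ∈ Subgroup.centralizer (T : Set Ω)) :
    ((α a : T) : Ω) ∈ Subgroup.centralizer (T : Set Ω) := by
  rw [Subgroup.mem_centralizer_iff] at ha ⊢
  intro y hy
  have h1 : (α.symm ⟨y, hy⟩ : T) * a = a * α.symm ⟨y, hy⟩ :=
    Subtype.ext (ha _ (α.symm ⟨y, hy⟩).2)
  have h2 := congrArg (fun z : T => ((α z : T) : Ω)) h1
  simp only [map_mul, MulEquiv.apply_symm_apply, Subgroup.coe_mul] at h2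
  exact h2

end Cfsg.Agent.Lib.Helper2.DirFac
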