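import Cfsg.Agent.Lib.Helper2.DirFac1

/-!
# Strongly closed direct factors: the centralizing part
-/

set_option autoImplicit false

namespace Cfsg.Agent.Lib.Helper2.DirFac

open Cfsg Cfsg.FusionSystem Cfsg.Agent.Lib.Helper9 Cfsg.Agent.Lib.Helper2.KNorm
  Cfsg.Agent.Lib.Helper2.StrongInv

variable {Ω : Type*} [Group Ω] {S : Subgroup Ω}

theorem le_centralizerIn_of_comm {S₁ S₂ : Subgroup Ω} (hS₁S : S₁ ≤ S)
    (hcomm : ∀ a ∈ S₁, ∀ b ∈ S₂, a * b = b * a) : S₁ ≤ centralizerIn S S₂ := by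
  intro a ha
  refine ⟨hS₁S ha, ?_⟩
  show a ∈ Subgroup.centralizer (S₂ : Set Ω)
  rw [Subgroup.mem_centralizer_iff]
  intro b hb
  exact (hcomm a ha b hb).symm

theorem le_centralizerIn_of_comm' {S₁ S₂ : Subgroup Ω} (hS₂S : S₂ ≤ S)
    (hcomm : ∀ a ∈ S₁, ∀ b ∈ S₂, a * b = b * a) : S₂ ≤ centralizerIn S S₁ := by
  intro b hb
  refine ⟨hS₂S hb, ?_⟩
  show b ∈ Subgroup.centralizer (S₁ : Set Ω)
  rw [Subgroup.mem_centralizer_iff]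
  intro a ha
  exact hcomm a ha b hb

/-- strong invariance of the `S₂`-centralizing maps on `S₁` -/
theorem si_cent [Finite S] {p : ℕ} [Fact p.Prime] (hS : IsPGroup p S) (F : FusionSystem S)
    (hF : F.IsSaturated p) {S₁ S₂ : Subgroup Ω} (h₁ : F.StronglyClosed S₁)
    (h₂ : F.StronglyClosed S₂) (hcomm : ∀ a ∈ S₁, ∀ b ∈ S₂, a * b = b * a)
    {P Q : Subgroup Ω} (hPQ : P ≤ Q) (hQ : Q ≤ S₁) {φ : P →* Ω}
    (hφ : φ ∈ F.centralizerHom S₂ P) (hφQ : ∀ x : P, φ x ∈ Q) {ψ : Q →* Ω} (hψ : ψ ∈ F.Hom Q) :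
    ∃ χ ∈ F.centralizerHom S₂ ((P.subgroupOf Q).map ψ),
      ∀ (x : P) (hx : ψ (Subgroup.inclusion hPQ x) ∈ (P.subgroupOf Q).map ψ),
        χ ⟨ψ (Subgroup.inclusion hPQ x), hx⟩ = ψ ⟨φ x, hφQ x⟩ := by
  obtain ⟨hφF, hPc, hφc, φ', hφ', hφ'e, hφ'S₂⟩ := hφ
  have hS₂S : S₂ ≤ S := h₂.1
  have hS₁S : S₁ ≤ S := h₁.1
  have hS₁c : S₁ ≤ centralizerIn S S₂ := le_centralizerIn_of_comm hS₁S hcomm
  have hcQ : S₂ ≤ Subgroup.centralizer (Q : Set Ω) := by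
    intro b hb
    rw [Subgroup.mem_centralizer_iff]
    intro x hx
    exact hcomm x (hQ hx) b hb
  have hψS₁ : ∀ x : Q, ψ x ∈ S₁ := h₁.2 Q hQ ψ hψ
  have hcψ : S₂ ≤ Subgroup.centralizer ((ψ.range : Subgroup Ω) : Set Ω) := by
    intro b hb
    rw [Subgroup.mem_centralizer_iff]
    rintro _ ⟨x, rfl⟩
    exact hcomm _ (hψS₁ x) b hb
  obtain ⟨ψ', hψ', hψ'e⟩ := exists_extension_sup hS F hF h₂ hψ hcQ hcψ
  have hle : P ⊔ S₂ ≤ Q ⊔ S₂ := sup_le_sup_right hPQ S₂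
  have hlQ : Q ≤ Q ⊔ S₂ := le_sup_left
  have hrQ : S₂ ≤ Q ⊔ S₂ := le_sup_right
  have hlP : P ≤ P ⊔ S₂ := le_sup_left
  have hrP : S₂ ≤ P ⊔ S₂ := le_sup_right
  have hφ'Q : ∀ y : ↥(P ⊔ S₂), φ' y ∈ Q ⊔ S₂ := by
    apply map_sup_mem φ'
    · intro a
      rw [hφ'e a]
      exact hlQ (hφQ a)
    · intro b
      rw [hφ'S₂ b]
      exact hrQ b.2
  obtain ⟨χ₀, hχ₀, hχ₀e⟩ := si_self F hle hφ' hφ'Q hψ'
  have hP'S₁ : (P.subgroupOf Q).map ψ ≤ S₁ := by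
    rintro _ ⟨z, -, rfl⟩
    exact hψS₁ z
  have hleD : (P.subgroupOf Q).map ψ ⊔ S₂ ≤ ((P ⊔ S₂).subgroupOf (Q ⊔ S₂)).map ψ' := by
    apply sup_le
    · rintro _ ⟨z, hz, rfl⟩
      have hzP : (z : Ω) ∈ P := Subgroup.mem_subgroupOf.mp hz
      exact ⟨Subgroup.inclusion hlQ z, Subgroup.mem_subgroupOf.mpr (hlP hzP), hψ'e z⟩
    · intro s hs
      obtain ⟨s', hs', hs'e⟩ := exists_preimage_of_stronglyClosed F h₂ hrQ hψ' s hs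
      exact ⟨⟨s', hrQ hs'⟩, Subgroup.mem_subgroupOf.mpr (hrP hs'), hs'e⟩
  have hlD : (P.subgroupOf Q).map ψ ≤ (P.subgroupOf Q).map ψ ⊔ S₂ := le_sup_left
  have hχ' : χ₀.comp (Subgroup.inclusion hleD) ∈ F.Hom ((P.subgroupOf Q).map ψ ⊔ S₂) :=
    restrict_mem F hχ₀ hleD
  have hχ : (χ₀.comp (Subgroup.inclusion hleD)).comp (Subgroup.inclusion hlD) ∈
      F.Hom ((P.subgroupOf Q).map ψ) := restrict_mem F hχ' hlD
  refine ⟨(χ₀.comp (Subgroup.inclusion hleD)).comp (Subgroup.inclusion hlD),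
    ⟨hχ, hP'S₁.trans hS₁c, fun x => hS₁c (h₁.2 _ hP'S₁ _ hχ x),
      χ₀.comp (Subgroup.inclusion hleD), hχ', fun x => rfl, ?_⟩, ?_⟩
  · intro s
    obtain ⟨s', hs', hs'e⟩ := exists_preimage_of_stronglyClosed F h₂ hrQ hψ' s.1 s.2
    have hy : ψ' (Subgroup.inclusion hle (Subgroup.inclusion hrP ⟨s', hs'⟩)) ∈
        ((P ⊔ S₂).subgroupOf (Q ⊔ S₂)).map ψ' :=
      ⟨_, Subgroup.mem_subgroupOf.mpr (hrP hs'), rfl⟩
    have e := hχ₀e (Subgroup.inclusion hrP ⟨s', hs'⟩) hy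
    have e1 : φ' (Subgroup.inclusion hrP ⟨s', hs'⟩) = s' := hφ'S₂ ⟨s', hs'⟩
    have e2 : (⟨φ' (Subgroup.inclusion hrP ⟨s', hs'⟩), hφ'Q _⟩ : ↥(Q ⊔ S₂)) =
        ⟨s', hrQ hs'⟩ := Subtype.ext e1
    rw [e2, hs'e] at e
    rw [← e]
    show χ₀ _ = χ₀ _
    congr 1
    exact Subtype.ext hs'e.symm
  · intro x hx
    have e0 : ψ' (Subgroup.inclusion hle (Subgroup.inclusion hlP x)) =
        ψ (Subgroup.inclusion hPQ x) := hψ'e (Subgroup.inclusion hPQ x)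
    have hy : ψ' (Subgroup.inclusion hle (Subgroup.inclusion hlP x)) ∈
        ((P ⊔ S₂).subgroupOf (Q ⊔ S₂)).map ψ' :=
      ⟨_, Subgroup.mem_subgroupOf.mpr (hlP x.2), rfl⟩
    have e := hχ₀e (Subgroup.inclusion hlP x) hy
    have e1 : φ' (Subgroup.inclusion hlP x) = φ x := hφ'e x
    have e2 : (⟨φ' (Subgroup.inclusion hlP x), hφ'Q _⟩ : ↥(Q ⊔ S₂)) =
        Subgroup.inclusion hlQ ⟨φ x, hφQ x⟩ := Subtype.ext e1
    rw [e2, hψ'e] at e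
    rw [← e]
    show χ₀ _ = χ₀ _
    congr 1
    exact Subtype.ext e0.symm

end Cfsg.Agent.Lib.Helper2.DirFac
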