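import Mathlib
import Cfsg.Agent.Lib.Helper3.Fitting
import Cfsg.Agent.Lib.Helper2.Cores

set_option autoImplicit false

namespace Cfsg.Agent.Lib.Helper2

open Cfsg.Agent.Lib.Helper3

variable {G : Type*} [Group G]

/-- An element whose order is prime to the index of a normal subgroup lies in it. -/
theorem mem_of_normal_of_coprime_index [Finite G] (T : Subgroup G) [T.Normal] (y : G)
    (h : (orderOf y).Coprime T.index) : y ∈ T := by
  rw [← QuotientGroup.eq_one_iff, ← orderOf_eq_one_iff]
  have h1 : orderOf (y : G ⧸ T) ∣ orderOf y := by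
    apply orderOf_dvd_of_pow_eq_one
    rw [← QuotientGroup.mk_pow, pow_orderOf_eq_one]
    rfl
  have h2 : orderOf (y : G ⧸ T) ∣ T.index := by
    rw [Subgroup.index_eq_card]
    exact orderOf_dvd_natCard _
  exact Nat.eq_one_of_dvd_coprimes h h1 h2

/-- The set of elements of prime power order for primes different from `p`. -/
def primePowerElts (G : Type*) [Group G] (p : ℕ) : Set G :=
  {y : G | ∃ q b : ℕ, q.Prime ∧ q ≠ p ∧ orderOf y = q ^ b}

theorem closure_primePowerElts_normal (p : ℕ) :
    (Subgroup.closure (primePowerElts G p)).Normal := by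
  constructor
  intro n hn g
  have hmap : (Subgroup.closure (primePowerElts G p)).map (MulAut.conj g).toMonoidHom ≤
      Subgroup.closure (primePowerElts G p) := by
    rw [MonoidHom.map_closure, Subgroup.closure_le]
    rintro _ ⟨y, ⟨q, b, hq, hqp, hy⟩, rfl⟩
    apply Subgroup.subset_closure
    refine ⟨q, b, hq, hqp, ?_⟩
    rw [← hy]
    exact MulEquiv.orderOf_eq (MulAut.conj g) y
  exact hmap ⟨n, hn, rfl⟩

/-- The index of the subgroup generated by the `p'`-elements of prime power order is a power
of `p`. -/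
theorem index_closure_primePowerElts [Finite G] (p : ℕ) :
    ∃ j : ℕ, (Subgroup.closure (primePowerElts G p)).index = p ^ j := by
  set K := Subgroup.closure (primePowerElts G p) with hK
  have : K.Normal := closure_primePowerElts_normal p
  refine ⟨_, Nat.eq_prime_pow_of_unique_prime_dvd Subgroup.index_ne_zero_of_finite ?_⟩
  intro q hq hqd
  by_contra hqp
  have : Fact q.Prime := ⟨hq⟩
  rw [Subgroup.index_eq_card] at hqd
  obtain ⟨yb, hyb⟩ := exists_prime_orderOf_dvd_card' q hqd
  obtain ⟨y, rfl⟩ := QuotientGroup.mk'_surjective K yb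
  have hmem : pPart y q ∈ K := by
    apply Subgroup.subset_closure
    exact ⟨q, _, hq, hqp, orderOf_pPart y q⟩
  have h1 : (QuotientGroup.mk' K y) ^ (orderOf y / q ^ (orderOf y).factorization q) = 1 := by
    rw [← map_pow]
    exact (QuotientGroup.eq_one_iff _).2 hmem
  have h2 := orderOf_dvd_of_pow_eq_one h1
  rw [hyb] at h2
  exact Nat.not_dvd_ordCompl hq (orderOf_pos y).ne' h2


theorem normal_of_le_center {H : Subgroup G} (h : H ≤ Subgroup.center G) : H.Normal := by
  constructor
  intro n hn g
  have hc := Subgroup.mem_center_iff.1 (h hn) g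
  have : g * n * g⁻¹ = n := by rw [hc, mul_assoc, mul_inv_cancel, mul_one]
  rw [this]; exact hn

/-- If every `p`-element commutes with every `q`-element (`q ≠ p`), the subgroup generated by the
latter has order prime to `p`. -/
theorem not_dvd_card_closure_primePowerElts [Finite G] {p : ℕ} [Fact p.Prime]
    (hcomm : ∀ x y : G, (∃ a : ℕ, orderOf x = p ^ a) → y ∈ primePowerElts G p → x * y = y * x) :
    ¬ p ∣ Nat.card (Subgroup.closure (primePowerElts G p)) := by
  have hp : p.Prime := Fact.out
  set K := Subgroup.closure (primePowerElts G p) with hK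
  let S : Sylow p ↥K := default
  have hSc : (S : Subgroup ↥K) ≤ Subgroup.center ↥K := by
    intro s hs
    obtain ⟨a, ha⟩ := (IsPGroup.iff_orderOf.1 S.isPGroup') ⟨s, hs⟩
    rw [Subgroup.orderOf_mk] at ha
    have ha' : orderOf (s : G) = p ^ a := by rw [Subgroup.orderOf_coe]; exact ha
    have hle : K ≤ Subgroup.centralizer ({(s : G)} : Set G) := by
      refine (Subgroup.closure_le _).2 ?_
      intro y hy
      show y ∈ Subgroup.centralizer ({(s : G)} : Set G)
      rw [Subgroup.mem_centralizer_singleton_iff]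
      exact (hcomm (s : G) y ⟨a, ha'⟩ hy).symm
    rw [Subgroup.mem_center_iff]
    intro k
    apply Subtype.ext
    have := hle k.2
    rw [Subgroup.mem_centralizer_singleton_iff] at this
    exact this
  have hSn : (S : Subgroup ↥K).Normal := normal_of_le_center hSc
  obtain ⟨T, hT⟩ := Subgroup.exists_right_complement'_of_coprime S.card_coprime_index
  have hTn : T.Normal := by
    rw [← Subgroup.normalizer_eq_top_iff, eq_top_iff, ← hT.sup_eq_top]
    apply sup_le _ Subgroup.le_normalizer
    intro s hs
    exact Subgroup.center_le_normalizer _ (hSc hs)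
  have hidx : T.index = Nat.card (S : Subgroup ↥K) := by
    have h1 := hT.card_mul_card
    have h2 := T.card_mul_index
    rw [← h1, mul_comm (Nat.card ↥(S : Subgroup ↥K))] at h2
    exact Nat.eq_of_mul_eq_mul_left Nat.card_pos h2
  obtain ⟨n, hn⟩ := IsPGroup.iff_card.1 S.isPGroup'
  have hXT : ∀ y ∈ primePowerElts G p, ∀ hyK : y ∈ K, (⟨y, hyK⟩ : ↥K) ∈ T := by
    intro y hy hyK
    obtain ⟨q, b, hq, hqp, hyo⟩ := hy
    apply mem_of_normal_of_coprime_index
    rw [hidx, hn, Subgroup.orderOf_mk, hyo]
    apply Nat.Coprime.pow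
    exact (Nat.coprime_primes hq hp).2 hqp
  have hKT : K ≤ T.map K.subtype := by
    refine (Subgroup.closure_le _).2 ?_
    intro y hy
    exact ⟨⟨y, Subgroup.subset_closure hy⟩, hXT y hy _, rfl⟩
  have hTtop : T = ⊤ := by
    rw [eq_top_iff]
    intro k _
    obtain ⟨t, ht, hte⟩ := hKT k.2
    have : t = k := Subtype.ext hte
    rw [← this]; exact ht
  rw [hTtop, Subgroup.index_top] at hidx
  have h3 := (S : Subgroup ↥K).card_mul_index
  rw [← hidx, one_mul] at h3
  rw [← h3]
  exact S.not_dvd_index


/-- If every `p`-element commutes with every element of prime power order for other primes, then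
every Sylow `p`-subgroup is a direct factor. -/
theorem sylow_direct_factor_of_commute [Finite G] {p : ℕ} [Fact p.Prime]
    (hcomm : ∀ x y : G, (∃ a : ℕ, orderOf x = p ^ a) → y ∈ primePowerElts G p → x * y = y * x)
    (P : Sylow p G) :
    (P : Subgroup G).Normal ∧ (Subgroup.closure (primePowerElts G p)).Normal ∧
      (P : Subgroup G) ⊓ Subgroup.closure (primePowerElts G p) = ⊥ ∧
      (P : Subgroup G) ⊔ Subgroup.closure (primePowerElts G p) = ⊤ := by
  have hp : p.Prime := Fact.out
  set K := Subgroup.closure (primePowerElts G p) with hK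
  have hKn : K.Normal := closure_primePowerElts_normal p
  have hKp : ¬ p ∣ Nat.card K := not_dvd_card_closure_primePowerElts hcomm
  obtain ⟨j, hj⟩ := index_closure_primePowerElts (G := G) p
  obtain ⟨n, hn⟩ := IsPGroup.iff_card.1 P.isPGroup'
  have hcop : (Nat.card (P : Subgroup G)).Coprime (Nat.card K) := by
    rw [hn]
    exact Nat.Coprime.pow_left n ((Nat.Prime.coprime_iff_not_dvd hp).2 hKp)
  have hdisj : (P : Subgroup G) ⊓ K = ⊥ := (Subgroup.disjoint_of_coprime_natCard hcop).eq_bot
  -- |P| = [G : K]
  have hcardP : Nat.card (P : Subgroup G) = K.index := by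
    have h1 := K.card_mul_index
    rw [hj] at h1
    rw [hn, hj]
    have h2 := P.card_eq_multiplicity
    rw [hn] at h2
    have h3 : (Nat.card G).factorization p = j := by
      rw [← h1, Nat.factorization_mul Nat.card_pos.ne' (pow_pos hp.pos j).ne',
        Nat.Prime.factorization_pow hp]
      simp [Nat.factorization_eq_zero_of_not_dvd hKp]
    rw [h3] at h2
    exact h2
  have hsup : (P : Subgroup G) ⊔ K = ⊤ := by
    apply Subgroup.eq_top_of_card_eq
    have h1 := card_sup_mul_card_inf (P : Subgroup G) K
    rw [hdisj, Subgroup.card_bot, mul_one] at h1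
    rw [h1, hcardP, mul_comm]
    exact K.card_mul_index
  refine ⟨?_, hKn, hdisj, hsup⟩
  rw [← Subgroup.normalizer_eq_top_iff, eq_top_iff, ← hsup]
  apply sup_le Subgroup.le_normalizer
  -- K centralizes P
  have hKC : K ≤ Subgroup.centralizer ((P : Subgroup G) : Set G) := by
    refine (Subgroup.closure_le _).2 ?_
    intro y hy
    show y ∈ Subgroup.centralizer ((P : Subgroup G) : Set G)
    rw [Subgroup.mem_centralizer_iff]
    intro x hx
    obtain ⟨a, ha⟩ := (IsPGroup.iff_orderOf.1 P.isPGroup') ⟨x, hx⟩
    rw [Subgroup.orderOf_mk] at ha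
    exact hcomm x y ⟨a, ha⟩ hy
  exact hKC.trans (Subgroup.centralizer_le_normalizer _)

/-- In a group with a Sylow `p`-subgroup that is a direct factor, `p`-elements commute with
elements of prime power order for other primes. -/
theorem commute_of_sylow_direct_factor [Finite G] {p : ℕ} [Fact p.Prime] (P : Sylow p G)
    (K : Subgroup G) (hPn : (P : Subgroup G).Normal) (hKn : K.Normal)
    (hdisj : (P : Subgroup G) ⊓ K = ⊥) (hsup : (P : Subgroup G) ⊔ K = ⊤)
    (x y : G) (hx : ∃ a : ℕ, orderOf x = p ^ a) (hy : y ∈ primePowerElts G p) :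
    x * y = y * x := by
  have hp : p.Prime := Fact.out
  obtain ⟨a, ha⟩ := hx
  obtain ⟨q, b, hq, hqp, hyo⟩ := hy
  -- x ∈ P
  have hxP : x ∈ (P : Subgroup G) := by
    have hz : IsPGroup p ↥(Subgroup.zpowers x) :=
      IsPGroup.of_card (n := a) (by rw [Nat.card_zpowers, ha])
    obtain ⟨Q, hQ⟩ := hz.exists_le_sylow
    have : Q = P := by
      let _ := Sylow.unique_of_normal P hPn
      exact Subsingleton.elim Q P
    rw [← this]
    exact hQ (Subgroup.mem_zpowers x)
  -- y ∈ K
  have hyK : y ∈ K := by
    apply mem_of_normal_of_coprime_index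
    have h1 := card_sup_mul_card_inf (P : Subgroup G) K
    rw [hdisj, hsup, Subgroup.card_bot, mul_one, Subgroup.card_top] at h1
    have h2 := K.card_mul_index
    rw [h1, mul_comm] at h2
    have h3 : K.index = Nat.card (P : Subgroup G) := Nat.eq_of_mul_eq_mul_right Nat.card_pos h2
    obtain ⟨n, hn⟩ := IsPGroup.iff_card.1 P.isPGroup'
    rw [h3, hn, hyo]
    apply Nat.Coprime.pow
    exact (Nat.coprime_primes hq hp).2 hqp
  exact (Subgroup.commute_of_normal_of_disjoint _ _ hPn hKn (disjoint_iff.2 hdisj) x y hxP hyK).eq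

end Cfsg.Agent.Lib.Helper2
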