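import Mathlib
import Cfsg.Agent.Lib.Helper6.E6EvDefs
import Cfsg.Agent.Lib.Helper2.E6EvRank

set_option autoImplicit false

/-!
# E6EV farm (S2175), unit R': the three representatives have ranks `22, 32, 38` and are pairwise
not conjugate in `GL`.
-/

namespace Cfsg.Agent.Lib.Helper2.E6Ev

open Cfsg Cfsg.Lie Cfsg.Agent.Lib.Helper5.ChevSym Cfsg.Agent.Lib.Helper5.ChevStruct
  Cfsg.Agent.Lib.Helper6.F4Ev Cfsg.Agent.Lib.Helper6.E6Ev Cfsg.Agent.Lib.Helper2.RankGen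
  Cfsg.Agent.Lib.Helper2.E6EvRank

variable {F : Type*} [Field F]

/-- the exact ranks -/
theorem h2_rank_yGL6 [CharP F 2] :
    ((yGL6 F 0 : Matrix chevE6.Idx chevE6.Idx F) - 1).rank = 22 ∧
    ((yGL6 F 1 : Matrix chevE6.Idx chevE6.Idx F) - 1).rank = 32 ∧
    ((yGL6 F 2 : Matrix chevE6.Idx chevE6.Idx F) - 1).rank = 38 := by
  have hp : ((2 : ℕ) : F) = 0 := CharP.cast_eq_zero F 2
  refine ⟨?_, ?_, ?_⟩
  · have := rank_y0 (K := F) hp
    simpa [yGL6, ys0] using this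
  · have := rank_y1 (K := F) hp
    simpa [yGL6, ys1] using this
  · have := rank_y2 (K := F) hp
    simpa [yGL6, ys2, mul_assoc] using this

theorem h2_R_rank_bounds6 [CharP F 2] :
    ((yGL6 F 0 : Matrix chevE6.Idx chevE6.Idx F) - 1).rank ≤ 22 ∧
    32 ≤ ((yGL6 F 1 : Matrix chevE6.Idx chevE6.Idx F) - 1).rank ∧
    ((yGL6 F 1 : Matrix chevE6.Idx chevE6.Idx F) - 1).rank ≤ 33 ∧
    37 ≤ ((yGL6 F 2 : Matrix chevE6.Idx chevE6.Idx F) - 1).rank := by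
  obtain ⟨h0, h1, h2⟩ := h2_rank_yGL6 (F := F)
  refine ⟨?_, ?_, ?_, ?_⟩ <;> omega

theorem h2_fin3_sep (r : Fin 3 → ℕ) (r0 : r 0 = 22) (r1 : r 1 = 32) (r2 : r 2 = 38)
    (k l : Fin 3) (hkl : r l = r k) : k = l := by
  fin_cases k <;> fin_cases l <;> simp_all

theorem h2_R_not_conj6 [CharP F 2] (k l : Fin 3) (h : GL chevE6.Idx F)
    (e : h * yGL6 F k * h⁻¹ = yGL6 F l) : k = l := by
  obtain ⟨h0, h1, h2⟩ := h2_rank_yGL6 (F := F)
  have hr := rank_conj h (yGL6 F k)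
  rw [e] at hr
  exact h2_fin3_sep (fun k => ((yGL6 F k : Matrix chevE6.Idx chevE6.Idx F) - 1).rank) h0 h1 h2 k l hr

end Cfsg.Agent.Lib.Helper2.E6Ev
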