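import Mathlib

set_option autoImplicit false

/-!
Farm E6M2 (statement S2341, minimal degree of `²E₆(q)`), LAYER B2: the character-theoretic layer,
stated over an ABSTRACT finite `F`-vector space `Lam` (for `²E₆(q)`: `F = F_q`, `Lam = Q^σ / Z^σ`,
the `σ`-fixed points of `Λ³K⁶`, `|Lam| = q^20`).

`G ⊇ Q = {Psi r s}` with `Psi r s * Psi r' s' = Psi (r + r' + beta s s') (s + s')`; a group `L`
(the Levi part, `SU₆(q)`) with `phi : L →* G` acting on `Lam` through `act`; `A ≤ Lam` a subspace on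
which `beta` vanishes (a Lagrangian, `|A| = q^m`), containing the two marked vectors `e1`, `e2`; a
Weyl element `n1` moving `Z = {Psi r 0}` onto the line `F e1` and the root subgroup
`X_δ = {phi (xd t)}` of `L` onto the line `F e2`; torus elements `h c` scaling `Z`.

The characters of `Lam` are `AddChar Lam ℂ` (trivial character `0`); no pairing is fixed here.
-/

namespace Cfsg.Agent.Lib.Helper2.E6M2B

/-- the elements -/
structure Data (F Lam L G : Type*) [Field F] [AddCommGroup Lam] [Module F Lam] [Group L]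
    [Group G] where
  Psi : F → Lam → G
  beta : Lam →ₗ[F] Lam →ₗ[F] F
  phi : L →* G
  act : L →* (Lam ≃ₗ[F] Lam)
  xd : F → L
  n1 : G
  h : Fˣ → G
  A : Submodule F Lam
  e1 : Lam
  e2 : Lam

variable {F Lam L G : Type*} [Field F] [AddCommGroup Lam] [Module F Lam] [Group L] [Group G]

/-- the relations (hypotheses of all units of layer B2); `m = dim A` (`10` for `²E₆`) -/
structure Rel (D : Data F Lam L G) (m : ℕ) : Prop where
  /-- the multiplication of `Q` -/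
  qlaw : ∀ (r : F) (s : Lam) (r' : F) (s' : Lam),
    D.Psi r s * D.Psi r' s' = D.Psi (r + r' + D.beta s s') (s + s')
  /-- the Levi part normalises `Q`, centralises `Z` and acts on `Q/Z = Lam` through `act` -/
  conj : ∀ (g : L) (s : Lam), ∃ c : F, ∀ r : F,
    D.phi g * D.Psi r s * (D.phi g)⁻¹ = D.Psi (r + c) (D.act g s)
  xd_zero : D.xd 0 = 1
  /-- the Weyl element: `Z → F e1`, `X_δ → F e2` -/
  n1_z : ∃ e : F, e ≠ 0 ∧ ∀ r, D.n1 * D.Psi r 0 * D.n1⁻¹ = D.Psi 0 ((e * r) • D.e1)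
  n1_x : ∃ e : F, e ≠ 0 ∧ ∀ t, D.n1 * D.phi (D.xd t) * D.n1⁻¹ = D.Psi 0 ((e * t) • D.e2)
  /-- the torus element -/
  h_z : ∀ (c : Fˣ) (r : F), D.h c * D.Psi r 0 * (D.h c)⁻¹ = D.Psi ((c : F) * r) 0
  /-- `A` is totally isotropic for the cocycle … -/
  lag : ∀ a ∈ D.A, ∀ a' ∈ D.A, D.beta a a' = 0
  /-- … and no non-zero vector of `A` is in the radical of the commutator form -/
  nondeg : ∀ a ∈ D.A, a ≠ 0 → ∃ s : Lam, D.beta s a - D.beta a s ≠ 0
  e1_mem : D.e1 ∈ D.A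
  e2_mem : D.e2 ∈ D.A
  indep : ∀ t u : F, t • D.e1 + u • D.e2 = 0 → t = 0 ∧ u = 0
  card_A : Nat.card D.A = Nat.card F ^ m

/-- the action of `L` on the characters of `Lam`: `(g • l) s = l (g⁻¹ s)` -/
def actC (D : Data F Lam L G) (g : L) (l : AddChar Lam ℂ) : AddChar Lam ℂ :=
  l.compAddMonoidHom ((D.act g⁻¹ : Lam ≃ₗ[F] Lam) : Lam →ₗ[F] Lam).toAddMonoidHom

/-- the characters moved by `X_δ` -/
def moved (D : Data F Lam L G) (l : AddChar Lam ℂ) : Prop := ∃ t : F, actC D (D.xd t) l ≠ l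

section mult

variable [Fintype F] [Fintype Lam]

/-- `dim C_V(Z)` -/
noncomputable def fZ (D : Data F Lam L G) (χ : G → ℂ) : ℂ :=
  (Fintype.card F : ℂ)⁻¹ * ∑ r : F, χ (D.Psi r 0)

/-- `dim C_V(X_{e1})` -/
noncomputable def f1 (D : Data F Lam L G) (χ : G → ℂ) : ℂ :=
  (Fintype.card F : ℂ)⁻¹ * ∑ t : F, χ (D.Psi 0 (t • D.e1))

/-- `dim C_V(X_{e1} X_{e2})` -/
noncomputable def f2 (D : Data F Lam L G) (χ : G → ℂ) : ℂ :=
  ((Fintype.card F : ℂ) * Fintype.card F)⁻¹ *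
    ∑ t : F, ∑ u : F, χ (D.Psi 0 (t • D.e1) * D.Psi 0 (u • D.e2))

/-- `dim C_V(Z X_δ)` -/
noncomputable def f90 (D : Data F Lam L G) (χ : G → ℂ) : ℂ :=
  ((Fintype.card F : ℂ) * Fintype.card F)⁻¹ * ∑ r : F, ∑ t : F, χ (D.Psi r 0 * D.phi (D.xd t))

/-- `dim C_V(Z X_{e1})` -/
noncomputable def ZS1 (D : Data F Lam L G) (χ : G → ℂ) : ℂ :=
  ((Fintype.card F : ℂ) * Fintype.card F)⁻¹ * ∑ r : F, ∑ t : F, χ (D.Psi r (t • D.e1))

/-- `dim C_V(Z X_{e1} X_{e2})` -/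
noncomputable def ZS2 (D : Data F Lam L G) (χ : G → ℂ) : ℂ :=
  ((Fintype.card F : ℂ) * ((Fintype.card F : ℂ) * Fintype.card F))⁻¹ *
    ∑ r : F, ∑ t : F, ∑ u : F, χ (D.Psi r (t • D.e1 + u • D.e2))

/-- the multiplicity of the linear character `l` of `Q` (trivial on `Z`) -/
noncomputable def cM (D : Data F Lam L G) (χ : G → ℂ) (l : AddChar Lam ℂ) : ℂ :=
  ((Fintype.card F : ℂ) * (Fintype.card Lam : ℂ))⁻¹ *
    ∑ r : F, ∑ s : Lam, l (-s) * χ (D.Psi r s)

/-- the projection onto the `l`-isotypic part of `C_V(Z)` under `Q` -/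
noncomputable def eL {V : Type*} [AddCommGroup V] [Module ℂ V] (D : Data F Lam L G)
    (ρ : Representation ℂ G V) (l : AddChar Lam ℂ) : V →ₗ[ℂ] V :=
  ((Fintype.card F : ℂ) * (Fintype.card Lam : ℂ))⁻¹ •
    ∑ r : F, ∑ s : Lam, l (-s) • ρ (D.Psi r s)

end mult

end Cfsg.Agent.Lib.Helper2.E6M2B
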