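import Mathlib
import Cfsg.Agent.Lib.Helper2.E6M2DefsB

set_option autoImplicit false
set_option linter.unusedSectionVars false
set_option linter.unusedVariables false
set_option linter.style.haveILetI false

/-!
Farm E6M2 (S2341), layer B2: the base.

* `GP`: Fourier projections for a multiplicative family `U : B → R` indexed by a finite abelian
  group `B` (`U b * U b' = U (b + b')`): `gE U ν = |B|⁻¹ ∑ ν(-b) U b`;
* `QL2`: consequences of `qlaw`.
-/

namespace Cfsg.Agent.Lib.Helper2.E6M2B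

open scoped BigOperators

/-! ### GP -/

section GP

variable {B : Type*} [AddCommGroup B] [Fintype B] {R : Type*} [Ring R] [Algebra ℂ R]
  (U : B → R)

/-- the Fourier projection -/
noncomputable def gE (ν : AddChar B ℂ) : R := (Fintype.card B : ℂ)⁻¹ • ∑ b : B, ν (-b) • U b

theorem cardB_ne : (Fintype.card B : ℂ) ≠ 0 := Nat.cast_ne_zero.2 Fintype.card_ne_zero

variable (hU : ∀ b b', U b * U b' = U (b + b'))

include hU in
theorem U_mul_gE (c : B) (ν : AddChar B ℂ) : U c * gE U ν = ν c • gE U ν := by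
  have key : U c * ∑ b : B, ν (-b) • U b = ν c • ∑ b : B, ν (-b) • U b := by
    rw [Finset.mul_sum, Finset.smul_sum,
      ← Equiv.sum_comp (Equiv.addLeft c) (fun b => ν c • ν (-b) • U b)]
    apply Finset.sum_congr rfl
    intro b _
    rw [mul_smul_comm, hU, Equiv.coe_addLeft, smul_smul, ← AddChar.map_add_eq_mul]
    have e : c + -(c + b) = -b := by abel
    rw [e]
  unfold gE
  rw [mul_smul_comm, key, smul_comm]

include hU in
theorem gE_mul_U (c : B) (ν : AddChar B ℂ) : gE U ν * U c = ν c • gE U ν := by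
  have key : (∑ b : B, ν (-b) • U b) * U c = ν c • ∑ b : B, ν (-b) • U b := by
    rw [Finset.sum_mul, Finset.smul_sum,
      ← Equiv.sum_comp (Equiv.addRight c) (fun b => ν c • ν (-b) • U b)]
    apply Finset.sum_congr rfl
    intro b _
    rw [smul_mul_assoc, hU, Equiv.coe_addRight, smul_smul, ← AddChar.map_add_eq_mul]
    have e : c + -(b + c) = -b := by abel
    rw [e]
  unfold gE
  rw [smul_mul_assoc, key, smul_comm]

theorem sum_char_mul (ν ν' : AddChar B ℂ) :
    ∑ b : B, ν (-b) * ν' b = if ν = ν' then (Fintype.card B : ℂ) else 0 := by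
  classical
  have h := AddChar.sum_eq_ite (ν' * ν⁻¹)
  have h2 : ∀ b : B, (ν' * ν⁻¹) b = ν (-b) * ν' b := by
    intro b
    rw [AddChar.mul_apply, AddChar.inv_apply, mul_comm]
  simp only [h2] at h
  rw [h]
  have h3 : (ν' * ν⁻¹ = 0) ↔ ν = ν' := by
    rw [← AddChar.one_eq_zero, mul_inv_eq_one]
    exact eq_comm
  by_cases hc : ν = ν'
  · rw [if_pos hc, if_pos (h3.2 hc)]
  · rw [if_neg hc, if_neg (fun hh => hc (h3.1 hh))]

include hU in
theorem gE_mul_gE (ν ν' : AddChar B ℂ) :
    gE U ν * gE U ν' = if ν = ν' then gE U ν else 0 := by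
  have h1 : gE U ν * gE U ν' =
      (Fintype.card B : ℂ)⁻¹ • ∑ b : B, ν (-b) • (U b * gE U ν') := by
    conv_lhs => rw [gE]
    rw [smul_mul_assoc, Finset.sum_mul]
    congr 1
    apply Finset.sum_congr rfl
    intro b _
    rw [smul_mul_assoc]
  rw [h1]
  simp only [U_mul_gE U hU, smul_smul]
  rw [← Finset.sum_smul, sum_char_mul, smul_smul]
  by_cases hc : ν = ν'
  · rw [if_pos hc, if_pos hc, inv_mul_cancel₀ cardB_ne, one_smul, hc]
  · rw [if_neg hc, if_neg hc, mul_zero, zero_smul]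

include hU in
theorem gE_idem (ν : AddChar B ℂ) : gE U ν * gE U ν = gE U ν := by
  rw [gE_mul_gE U hU, if_pos rfl]

theorem sum_gE : ∑ ν : AddChar B ℂ, gE U ν = U 0 := by
  classical
  unfold gE
  rw [← Finset.smul_sum, Finset.sum_comm]
  simp only [← Finset.sum_smul]
  have h : ∀ b : B, ∑ ν : AddChar B ℂ, ν (-b) = if b = 0 then (Fintype.card B : ℂ) else 0 := by
    intro b
    rw [AddChar.sum_apply_eq_ite]
    simp only [neg_eq_zero]
  simp only [h]
  rw [Finset.sum_eq_single 0]
  · rw [if_pos rfl, smul_smul, inv_mul_cancel₀ cardB_ne, one_smul]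
  · intro b _ hb
    rw [if_neg hb, zero_smul]
  · intro h0; exact absurd (Finset.mem_univ _) h0

end GP

/-! ### idempotents and traces -/

section tr

variable {V : Type*} [AddCommGroup V] [Module ℂ V] [FiniteDimensional ℂ V]

theorem trace_idem_nat (E : Module.End ℂ V) (hE : E * E = E) :
    LinearMap.trace ℂ V E = (Module.finrank ℂ (LinearMap.range E) : ℂ) :=
  (LinearMap.IsIdempotentElem.isProj_range E hE).trace

end tr

/-! ### QL2 -/

section QL

variable {F Lam L G : Type*} [Field F] [AddCommGroup Lam] [Module F Lam] [Group L] [Group G]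
  (D : Data F Lam L G) (m : ℕ) (hD : Rel D m)

include hD in
theorem Psi_zero : D.Psi 0 0 = 1 := by
  have h := hD.qlaw 0 0 0 0
  simp only [add_zero, map_zero, LinearMap.zero_apply] at h
  exact mul_eq_left.mp h

include hD in
theorem z_mul_Psi (r r' : F) (s : Lam) : D.Psi r 0 * D.Psi r' s = D.Psi (r + r') s := by
  rw [hD.qlaw]
  simp

include hD in
theorem Psi_mul_z (r r' : F) (s : Lam) : D.Psi r s * D.Psi r' 0 = D.Psi (r + r') s := by
  rw [hD.qlaw]
  simp

include hD in
theorem z_comm (c r : F) (s : Lam) : D.Psi c 0 * D.Psi r s = D.Psi r s * D.Psi c 0 := by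
  rw [z_mul_Psi D m hD, Psi_mul_z D m hD, add_comm]

include hD in
theorem Psi_inv (r : F) (s : Lam) : (D.Psi r s)⁻¹ = D.Psi (-r + D.beta s s) (-s) := by
  apply inv_eq_of_mul_eq_one_right
  rw [hD.qlaw]
  simp only [map_neg, add_neg_cancel]
  rw [← Psi_zero D m hD]
  congr 1
  ring

include hD in
theorem Psi_split (r : F) (s : Lam) : D.Psi r s = D.Psi r 0 * D.Psi 0 s := by
  rw [z_mul_Psi D m hD, add_zero]

include hD in
/-- conjugation inside `Q` -/
theorem Psi_conj (b : Lam) (r : F) (a : Lam) :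
    D.Psi 0 b * D.Psi r a * (D.Psi 0 b)⁻¹ = D.Psi (r + (D.beta b a - D.beta a b)) a := by
  rw [Psi_inv D m hD, hD.qlaw, hD.qlaw]
  simp only [map_neg, map_add, LinearMap.add_apply, LinearMap.neg_apply]
  congr 1
  · ring
  · abel

include hD in
theorem Psi_A_mul (r r' : F) (a a' : Lam) (ha : a ∈ D.A) (ha' : a' ∈ D.A) :
    D.Psi r a * D.Psi r' a' = D.Psi (r + r') (a + a') := by
  rw [hD.qlaw, hD.lag a ha a' ha', add_zero]

include hD in
theorem n1_conj_pair : ∃ e e' : F, e ≠ 0 ∧ e' ≠ 0 ∧ ∀ r t : F,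
    D.n1 * (D.Psi r 0 * D.phi (D.xd t)) * D.n1⁻¹ =
      D.Psi 0 ((e * r) • D.e1) * D.Psi 0 ((e' * t) • D.e2) := by
  obtain ⟨e, he, h1⟩ := hD.n1_z
  obtain ⟨e', he', h2⟩ := hD.n1_x
  refine ⟨e, e', he, he', fun r t => ?_⟩
  rw [← h1 r, ← h2 t]
  group

end QL

end Cfsg.Agent.Lib.Helper2.E6M2B
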