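import Mathlib
import Cfsg.Agent.Lib.Helper2.E6M2DefsB
import Cfsg.Agent.Lib.Helper2.E6M2BaseB

set_option autoImplicit false
set_option linter.unusedSectionVars false
set_option linter.unusedVariables false
set_option linter.style.haveILetI false

/-!
Farm E6M2 (S2341), layer B2, unit H2 (`heis`): the Landazuri–Seitz part.

`PZ μ` = projection onto the `μ`-part of `V` under `Z = {Psi r 0}`.  For `μ ≠ 0` the trace of
`PZ μ * ρ (Psi 0 a)` vanishes for `a ∈ A \ 0` (conjugate by `Psi 0 b` with `ω(b, a) ≠ 0`), so the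
multiplicity of the character `(μ, 0)` of the abelian group `Z × A` is `tr (PZ μ) / |A|`, a natural
number; the torus makes `tr (PZ μ)` independent of `μ ≠ 0`.
-/

namespace Cfsg.Agent.Lib.Helper2.E6M2H

open Cfsg.Agent.Lib.Helper2.E6M2B

section

variable {F Lam L G : Type*} [Field F] [Fintype F] [DecidableEq F] [AddCommGroup Lam]
  [Module F Lam] [Fintype Lam] [DecidableEq Lam] [Group L] [Group G] (D : Data F Lam L G) (m : ℕ)
  (hD : Rel D m)
  {V : Type*} [AddCommGroup V] [Module ℂ V] [FiniteDimensional ℂ V] (ρ : Representation ℂ G V)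

/-- the action of `Z` -/
def UZ (r : F) : Module.End ℂ V := ρ (D.Psi r 0)

include hD in
theorem UZ_mul (r r' : F) : UZ D ρ r * UZ D ρ r' = UZ D ρ (r + r') := by
  unfold UZ
  rw [← map_mul, z_mul_Psi D m hD]

include hD in
theorem UZ_zero : UZ D ρ 0 = 1 := by
  unfold UZ
  rw [Psi_zero D m hD, map_one]

/-- the projection onto the `μ`-part of `V` under `Z` -/
noncomputable def PZ (μ : AddChar F ℂ) : Module.End ℂ V := gE (UZ D ρ) μ

include hD in
theorem PZ_comm (μ : AddChar F ℂ) (r : F) (s : Lam) :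
    PZ D ρ μ * ρ (D.Psi r s) = ρ (D.Psi r s) * PZ D ρ μ := by
  unfold PZ gE UZ
  rw [smul_mul_assoc, mul_smul_comm, Finset.sum_mul, Finset.mul_sum]
  congr 1
  apply Finset.sum_congr rfl
  intro c _
  rw [smul_mul_assoc, mul_smul_comm, ← map_mul, ← map_mul, z_comm D m hD]

include hD in
theorem PZ_idem (μ : AddChar F ℂ) : PZ D ρ μ * PZ D ρ μ = PZ D ρ μ :=
  gE_idem (UZ D ρ) (UZ_mul D m hD ρ) μ

include hD in
theorem sum_PZ : ∑ μ : AddChar F ℂ, PZ D ρ μ = 1 := by
  unfold PZ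
  rw [sum_gE, UZ_zero D m hD]

include hD in
theorem PZ_mul_z (μ : AddChar F ℂ) (c : F) : PZ D ρ μ * ρ (D.Psi c 0) = μ c • PZ D ρ μ :=
  gE_mul_U (UZ D ρ) (UZ_mul D m hD ρ) c μ

theorem qF_ne : (Fintype.card F : ℂ) ≠ 0 := Nat.cast_ne_zero.2 Fintype.card_ne_zero

include hD in
/-- the trace of `PZ μ * ρ g` -/
theorem trace_PZ_mul (μ : AddChar F ℂ) (g : G) :
    LinearMap.trace ℂ V (PZ D ρ μ * ρ g) =
      (Fintype.card F : ℂ)⁻¹ * ∑ r : F, μ (-r) * ρ.character (D.Psi r 0 * g) := by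
  unfold PZ gE UZ
  rw [smul_mul_assoc, map_smul, smul_eq_mul, Finset.sum_mul, map_sum]
  congr 1
  apply Finset.sum_congr rfl
  intro r _
  rw [smul_mul_assoc, map_smul, smul_eq_mul, ← map_mul]
  rfl

include hD in
theorem trace_PZ (μ : AddChar F ℂ) :
    LinearMap.trace ℂ V (PZ D ρ μ) =
      (Fintype.card F : ℂ)⁻¹ * ∑ r : F, μ (-r) * ρ.character (D.Psi r 0) := by
  have h := trace_PZ_mul D m hD ρ μ 1
  rw [map_one, mul_one] at h
  simpa using h

theorem char_conj (x y : G) : ρ.character (x * y * x⁻¹) = ρ.character y := by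
  show LinearMap.trace ℂ V (ρ (x * y * x⁻¹)) = LinearMap.trace ℂ V (ρ y)
  rw [map_mul ρ, map_mul ρ, LinearMap.trace_mul_comm, ← mul_assoc, ← map_mul ρ, inv_mul_cancel,
    map_one ρ, one_mul]

include hD in
/-- the torus: `tr (PZ μ)` depends only on the `Fˣ`-orbit of `μ` -/
theorem trace_PZ_mulShift (μ : AddChar F ℂ) (c : Fˣ) :
    LinearMap.trace ℂ V (PZ D ρ (AddChar.mulShift μ (c : F))) =
      LinearMap.trace ℂ V (PZ D ρ μ) := by
  rw [trace_PZ D m hD, trace_PZ D m hD]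
  congr 1
  rw [← Equiv.sum_comp (Equiv.mulLeft₀ (c : F) c.ne_zero)
    (fun r => μ (-r) * ρ.character (D.Psi r 0))]
  apply Finset.sum_congr rfl
  intro r _
  rw [Equiv.mulLeft₀_apply, AddChar.mulShift_apply, mul_neg, ← hD.h_z c r, char_conj]

include hD in
/-- the key vanishing -/
theorem trace_PZ_A_zero (μ : AddChar F ℂ) (hμ : μ ≠ 0) (a : Lam) (ha : a ∈ D.A) (ha0 : a ≠ 0) :
    LinearMap.trace ℂ V (PZ D ρ μ * ρ (D.Psi 0 a)) = 0 := by
  obtain ⟨s, hs⟩ := hD.nondeg a ha ha0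
  obtain ⟨x, hx⟩ := AddChar.ne_zero_iff.1 hμ
  set w : F := D.beta s a - D.beta a s with hw
  set b : Lam := (x / w) • s with hb
  have hbw : D.beta b a - D.beta a b = x := by
    rw [hb, map_smul, LinearMap.smul_apply, map_smul, smul_eq_mul, smul_eq_mul, ← mul_sub, ← hw,
      div_mul_cancel₀ x hs]
  have hconj : D.Psi 0 b * D.Psi 0 a * (D.Psi 0 b)⁻¹ = D.Psi x 0 * D.Psi 0 a := by
    rw [Psi_conj D m hD, hbw, z_mul_Psi D m hD, add_zero, zero_add]
  set T := LinearMap.trace ℂ V (PZ D ρ μ * ρ (D.Psi 0 a)) with hT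
  have h1 : LinearMap.trace ℂ V (PZ D ρ μ * ρ (D.Psi 0 b * D.Psi 0 a * (D.Psi 0 b)⁻¹)) = T := by
    rw [map_mul ρ, map_mul ρ, ← mul_assoc, ← mul_assoc, PZ_comm D m hD, LinearMap.trace_mul_comm,
      ← mul_assoc, ← mul_assoc, ← map_mul ρ, inv_mul_cancel, map_one ρ, one_mul]
  have h2 : LinearMap.trace ℂ V (PZ D ρ μ * ρ (D.Psi 0 b * D.Psi 0 a * (D.Psi 0 b)⁻¹)) =
      μ x * T := by
    rw [hconj, map_mul ρ, ← mul_assoc, PZ_mul_z D m hD, smul_mul_assoc, map_smul, smul_eq_mul]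
  have h3 : (1 - μ x) * T = 0 := by
    rw [sub_mul, one_mul, ← h2, h1, sub_self]
  rcases mul_eq_zero.1 h3 with h | h
  · exact absurd (sub_eq_zero.1 h).symm hx
  · exact h

/-! ### the multiplicity of `(μ, 0)` on `Z × A` -/

/-- the family `a ↦ PZ μ * ρ (Psi 0 a)` on `A` -/
noncomputable def UA (μ : AddChar F ℂ) (a : D.A) : Module.End ℂ V := PZ D ρ μ * ρ (D.Psi 0 a.1)

include hD in
theorem UA_mul (μ : AddChar F ℂ) (a a' : D.A) :
    UA D ρ μ a * UA D ρ μ a' = UA D ρ μ (a + a') := by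
  unfold UA
  rw [mul_assoc, ← mul_assoc (ρ (D.Psi 0 a.1)), ← PZ_comm D m hD, mul_assoc, ← mul_assoc,
    PZ_idem D m hD, ← map_mul, Psi_A_mul D m hD 0 0 a.1 a'.1 a.2 a'.2, add_zero]
  rfl

include hD in
theorem trace_PZ_eq (μ : AddChar F ℂ) (hμ : μ ≠ 0) :
    ∃ n : ℕ, LinearMap.trace ℂ V (PZ D ρ μ) = (Fintype.card F : ℂ) ^ m * n := by
  classical
  have hidem := gE_idem (UA D ρ μ) (UA_mul D m hD ρ μ) (0 : AddChar D.A ℂ)
  refine ⟨Module.finrank ℂ (LinearMap.range (gE (UA D ρ μ) (0 : AddChar D.A ℂ))), ?_⟩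
  rw [← trace_idem_nat _ hidem]
  have hcard : (Fintype.card D.A : ℂ) = (Fintype.card F : ℂ) ^ m := by
    have := hD.card_A
    rw [Nat.card_eq_fintype_card, Nat.card_eq_fintype_card] at this
    rw [this, Nat.cast_pow]
  unfold gE
  rw [map_smul, smul_eq_mul, map_sum, hcard]
  have hne : ((Fintype.card F : ℂ) ^ m) ≠ 0 := pow_ne_zero _ qF_ne
  rw [Finset.sum_eq_single (0 : D.A)]
  · simp only [neg_zero, AddChar.map_zero_eq_one, one_smul]
    unfold UA
    rw [ZeroMemClass.coe_zero, Psi_zero D m hD, map_one, mul_one]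
    field_simp
  · intro a _ ha
    rw [map_smul]
    unfold UA
    rw [trace_PZ_A_zero D m hD ρ μ hμ a.1 a.2 (fun h => ha (Subtype.ext h)), smul_zero]
  · intro h; exact absurd (Finset.mem_univ _) h

/-- transitivity of `Fˣ` on the non-trivial characters of `F` -/
theorem exists_mulShift (μ μ' : AddChar F ℂ) (hμ : μ ≠ 0) (hμ' : μ' ≠ 0) :
    ∃ c : Fˣ, μ' = AddChar.mulShift μ (c : F) := by
  have hprim : μ.IsPrimitive := AddChar.IsPrimitive.of_ne_one (by rwa [AddChar.one_eq_zero])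
  have hinj : Function.Injective μ.mulShift := AddChar.to_mulShift_inj_of_isPrimitive hprim
  have hbij : Function.Bijective μ.mulShift := by
    rw [Fintype.bijective_iff_injective_and_card]
    exact ⟨hinj, AddChar.card_eq.symm⟩
  obtain ⟨c, hc⟩ := hbij.2 μ'
  have hc0 : c ≠ 0 := by
    rintro rfl
    rw [AddChar.mulShift_zero, AddChar.one_eq_zero] at hc
    exact hμ' hc.symm
  exact ⟨Units.mk0 c hc0, hc.symm⟩

include hD in
/-- all `tr (PZ μ)`, `μ ≠ 0`, are equal to `q^m a` -/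
theorem exists_a : ∃ a : ℕ, ∀ μ : AddChar F ℂ, μ ≠ 0 →
    LinearMap.trace ℂ V (PZ D ρ μ) = (Fintype.card F : ℂ) ^ m * a := by
  have hex : ∃ μ₁ : AddChar F ℂ, μ₁ ≠ 0 := by
    obtain ⟨ψ, hψ⟩ := (AddChar.exists_apply_ne_zero (α := F) (a := 1)).2 one_ne_zero
    exact ⟨ψ, AddChar.ne_zero_iff.2 ⟨1, hψ⟩⟩
  obtain ⟨μ₁, hμ₁⟩ := hex
  obtain ⟨a, ha⟩ := trace_PZ_eq D m hD ρ μ₁ hμ₁
  refine ⟨a, fun μ hμ => ?_⟩
  obtain ⟨c, rfl⟩ := exists_mulShift μ₁ μ hμ₁ hμ
  rw [trace_PZ_mulShift D m hD, ha]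

theorem card_ne_zero_char :
    ((Finset.univ.filter fun μ : AddChar F ℂ => μ ≠ 0).card : ℂ) = (Fintype.card F : ℂ) - 1 := by
  classical
  have h : (Finset.univ.filter fun μ : AddChar F ℂ => μ ≠ 0) = Finset.univ.erase 0 := by
    ext μ
    simp
  rw [h, Finset.card_erase_of_mem (Finset.mem_univ _), Finset.card_univ, AddChar.card_eq,
    Nat.cast_sub Fintype.card_pos, Nat.cast_one]

include hD in
/-- a family of elements of `A` with exactly one zero member -/
theorem sum_family {ι : Type*} [Fintype ι] [DecidableEq ι] (a : ℕ)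
    (ha : ∀ μ : AddChar F ℂ, μ ≠ 0 →
      LinearMap.trace ℂ V (PZ D ρ μ) = (Fintype.card F : ℂ) ^ m * a)
    (s : ι → Lam) (hs : ∀ i, s i ∈ D.A) (i0 : ι) (h0 : ∀ i, s i = 0 ↔ i = i0) :
    ∑ i : ι, ρ.character (D.Psi 0 (s i)) =
      (Fintype.card F : ℂ)⁻¹ * ∑ r : F, ∑ i : ι, ρ.character (D.Psi r (s i)) +
        ((Fintype.card F : ℂ) - 1) * (Fintype.card F : ℂ) ^ m * a := by
  classical
  -- insert `1 = ∑ PZ μ`
  have h1 : ∀ i : ι, ρ.character (D.Psi 0 (s i)) =
      ∑ μ : AddChar F ℂ, LinearMap.trace ℂ V (PZ D ρ μ * ρ (D.Psi 0 (s i))) := by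
    intro i
    rw [← map_sum, ← Finset.sum_mul, sum_PZ D m hD, one_mul]
    rfl
  simp only [h1]
  rw [Finset.sum_comm, ← Finset.sum_filter_add_sum_filter_not Finset.univ (fun μ : AddChar F ℂ => μ = 0)]
  congr 1
  · -- the trivial character
    rw [Finset.filter_eq' Finset.univ (0 : AddChar F ℂ), if_pos (Finset.mem_univ _),
      Finset.sum_singleton]
    simp only [trace_PZ_mul D m hD, AddChar.zero_apply, one_mul]
    rw [← Finset.mul_sum, Finset.sum_comm]
    congr 1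
    apply Finset.sum_congr rfl
    intro r _
    apply Finset.sum_congr rfl
    intro i _
    rw [z_mul_Psi D m hD, add_zero]
  · -- the non-trivial characters
    have h2 : ∀ μ ∈ Finset.univ.filter (fun μ : AddChar F ℂ => ¬ μ = 0),
        ∑ i : ι, LinearMap.trace ℂ V (PZ D ρ μ * ρ (D.Psi 0 (s i))) =
          (Fintype.card F : ℂ) ^ m * a := by
      intro μ hμ
      have hμ0 : μ ≠ 0 := (Finset.mem_filter.1 hμ).2
      rw [Finset.sum_eq_single i0]
      · rw [(h0 i0).2 rfl, Psi_zero D m hD, map_one, mul_one, ha μ hμ0]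
      · intro i _ hi
        exact trace_PZ_A_zero D m hD ρ μ hμ0 (s i) (hs i) (fun h => hi ((h0 i).1 h))
      · intro h; exact absurd (Finset.mem_univ _) h
    rw [Finset.sum_congr rfl h2, Finset.sum_const, nsmul_eq_mul, card_ne_zero_char]
    ring

include hD in
/-- unit H2 -/
theorem heis :
    ∃ a : ℕ, (Module.finrank ℂ V : ℂ) = fZ D ρ.character +
        ((Fintype.card F : ℂ) - 1) * (Fintype.card F : ℂ) ^ m * a ∧
      (Fintype.card F : ℂ) * f1 D ρ.character = (Fintype.card F : ℂ) * ZS1 D ρ.character +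
        ((Fintype.card F : ℂ) - 1) * (Fintype.card F : ℂ) ^ m * a ∧
      (Fintype.card F : ℂ) ^ 2 * f2 D ρ.character = (Fintype.card F : ℂ) ^ 2 * ZS2 D ρ.character +
        ((Fintype.card F : ℂ) - 1) * (Fintype.card F : ℂ) ^ m * a := by
  classical
  obtain ⟨a, ha⟩ := exists_a D m hD ρ
  have hq : (Fintype.card F : ℂ) ≠ 0 := qF_ne
  refine ⟨a, ?_, ?_, ?_⟩
  · -- the family with one member `0`
    have h := sum_family D m hD ρ a ha (ι := Unit) (fun _ => 0) (fun _ => D.A.zero_mem) ()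
      (fun _ => ⟨fun _ => rfl, fun _ => rfl⟩)
    simp only [Finset.univ_unique, Finset.sum_singleton] at h
    rw [Psi_zero D m hD] at h
    have h1 : ρ.character 1 = (Module.finrank ℂ V : ℂ) := by
      show LinearMap.trace ℂ V (ρ 1) = _
      rw [map_one, LinearMap.trace_one]
    rw [h1] at h
    rw [h]
    rfl
  · have h := sum_family D m hD ρ a ha (ι := F) (fun t => t • D.e1)
      (fun t => D.A.smul_mem t hD.e1_mem) 0
      (fun t => ⟨fun h => by
        have := hD.indep t 0 (by rw [zero_smul, add_zero]; exact h)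
        exact this.1, fun h => by rw [h, zero_smul]⟩)
    unfold f1 ZS1
    rw [← mul_assoc, mul_inv_cancel₀ hq, one_mul, h]
    congr 1
    field_simp
  · have h := sum_family D m hD ρ a ha (ι := F × F) (fun p => p.1 • D.e1 + p.2 • D.e2)
      (fun p => D.A.add_mem (D.A.smul_mem _ hD.e1_mem) (D.A.smul_mem _ hD.e2_mem)) (0, 0)
      (fun p => ⟨fun h => by
        have := hD.indep p.1 p.2 h
        exact Prod.ext this.1 this.2, fun h => by rw [h]; simp⟩)
    unfold f2 ZS2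
    have e1 : ∑ t : F, ∑ u : F, ρ.character (D.Psi 0 (t • D.e1) * D.Psi 0 (u • D.e2)) =
        ∑ p : F × F, ρ.character (D.Psi 0 (p.1 • D.e1 + p.2 • D.e2)) := by
      rw [Fintype.sum_prod_type]
      apply Finset.sum_congr rfl
      intro t _
      apply Finset.sum_congr rfl
      intro u _
      rw [Psi_A_mul D m hD 0 0 _ _ (D.A.smul_mem t hD.e1_mem) (D.A.smul_mem u hD.e2_mem),
        add_zero]
    have e2 : ∑ r : F, ∑ t : F, ∑ u : F, ρ.character (D.Psi r (t • D.e1 + u • D.e2)) =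
        ∑ r : F, ∑ p : F × F, ρ.character (D.Psi r (p.1 • D.e1 + p.2 • D.e2)) := by
      apply Finset.sum_congr rfl
      intro r _
      rw [Fintype.sum_prod_type]
    rw [e1, e2, h]
    field_simp

end

end Cfsg.Agent.Lib.Helper2.E6M2H
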