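import Mathlib
import Cfsg.Agent.Lib.Helper2.E6M2DefsB
import Cfsg.Agent.Lib.Helper2.E6M2BaseB
import Cfsg.Agent.Lib.Helper2.E6M2H

set_option autoImplicit false
set_option linter.unusedSectionVars false
set_option linter.unusedVariables false
set_option linter.style.haveILetI false

/-!
Farm E6M2 (S2341), layer B2, unit C12: the multiplicities `cM` are natural numbers, and Fourier
inversion (`sum_cM_vanish`, `sum_cM`, `sum_cM_e1`, `sum_cM_e12`).
-/

namespace Cfsg.Agent.Lib.Helper2.E6M2C12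

open Cfsg.Agent.Lib.Helper2.E6M2B Cfsg.Agent.Lib.Helper2.E6M2H

/-! ### characters trivial on a subgroup -/

section ann

variable {Lam : Type*} [AddCommGroup Lam] [Fintype Lam] [DecidableEq Lam]

theorem sum_sub_char (l : AddChar Lam ℂ) (S : AddSubgroup Lam) [DecidablePred (· ∈ S)] :
    ∑ y ∈ Finset.univ.filter (fun y : Lam => y ∈ S), l y =
      if (∀ s ∈ S, l s = 1) then (Nat.card S : ℂ) else 0 := by
  classical
  have h1 : ∑ y ∈ Finset.univ.filter (fun y : Lam => y ∈ S), l y =
      ∑ y : S, (l.compAddMonoidHom S.subtype) y := by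
    rw [Finset.sum_subtype (Finset.univ.filter (fun y : Lam => y ∈ S)) (p := fun y => y ∈ S)
      (fun y => by simp) (fun y => l y)]
    refine Fintype.sum_equiv (Equiv.refl _) _ _ ?_
    intro y
    rfl
  rw [h1, AddChar.sum_eq_ite, Nat.card_eq_fintype_card]
  have h2 : (l.compAddMonoidHom S.subtype = 0) ↔ ∀ s ∈ S, l s = 1 := by
    constructor
    · intro h s hs
      have := DFunLike.congr_fun h ⟨s, hs⟩
      simpa using this
    · intro h
      ext y
      simpa using h y.1 y.2
  by_cases hc : ∀ s ∈ S, l s = 1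
  · rw [if_pos hc, if_pos (h2.2 hc)]
  · rw [if_neg hc, if_neg (fun hh => hc (h2.1 hh))]

/-- the sum of the characters trivial on `S` -/
theorem sum_ann (S : AddSubgroup Lam) [DecidablePred (· ∈ S)] (x : Lam) :
    (Nat.card S : ℂ) *
      ∑ l ∈ Finset.univ.filter (fun l : AddChar Lam ℂ => ∀ s ∈ S, l s = 1), l x =
      if x ∈ S then (Fintype.card Lam : ℂ) else 0 := by
  classical
  -- double count `∑_l ∑_{y ∈ S} l (x - y)`
  have hA : ∑ l : AddChar Lam ℂ, ∑ y ∈ Finset.univ.filter (fun y : Lam => y ∈ S), l (x - y) =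
      if x ∈ S then (Fintype.card Lam : ℂ) else 0 := by
    rw [Finset.sum_comm]
    simp only [AddChar.sum_apply_eq_ite, sub_eq_zero]
    rw [Finset.sum_ite_eq (Finset.univ.filter (fun y : Lam => y ∈ S)) x]
    simp only [Finset.mem_filter, Finset.mem_univ, true_and]
  have hB : ∑ l : AddChar Lam ℂ, ∑ y ∈ Finset.univ.filter (fun y : Lam => y ∈ S), l (x - y) =
      (Nat.card S : ℂ) *
        ∑ l ∈ Finset.univ.filter (fun l : AddChar Lam ℂ => ∀ s ∈ S, l s = 1), l x := by
    rw [Finset.mul_sum, Finset.sum_filter]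
    apply Finset.sum_congr rfl
    intro l _
    have h1 : ∑ y ∈ Finset.univ.filter (fun y : Lam => y ∈ S), l (x - y) =
        l x * ∑ y ∈ Finset.univ.filter (fun y : Lam => y ∈ S), l y := by
      rw [Finset.mul_sum]
      refine Finset.sum_bij' (fun y _ => -y) (fun y _ => -y) ?_ ?_ ?_ ?_ ?_
      · intro y hy
        simp only [Finset.mem_filter, Finset.mem_univ, true_and] at hy ⊢
        exact S.neg_mem hy
      · intro y hy
        simp only [Finset.mem_filter, Finset.mem_univ, true_and] at hy ⊢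
        exact S.neg_mem hy
      · intro y _; exact neg_neg y
      · intro y _; exact neg_neg y
      · intro y _
        rw [sub_eq_add_neg, AddChar.map_add_eq_mul]
    rw [h1, sum_sub_char]
    by_cases hc : ∀ s ∈ S, l s = 1
    · rw [if_pos hc, if_pos hc]; ring
    · rw [if_neg hc, if_neg hc, mul_zero]
  rw [← hB, hA]

end ann

section B

variable {F Lam L G : Type*} [Field F] [Fintype F] [DecidableEq F] [AddCommGroup Lam]
  [Module F Lam] [Fintype Lam] [DecidableEq Lam] [Group L] [Group G] (D : Data F Lam L G) (m : ℕ)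
  (hD : Rel D m)

/-! ### `eL` as a Fourier projection -/

section proj

variable {V : Type*} [AddCommGroup V] [Module ℂ V] [FiniteDimensional ℂ V]
  (ρ : Representation ℂ G V)

/-- the family `s ↦ PZ 0 * ρ (Psi 0 s)` -/
noncomputable def UL (s : Lam) : Module.End ℂ V := PZ D ρ 0 * ρ (D.Psi 0 s)

include hD in
theorem UL_eq (s : Lam) :
    UL D ρ s = (Fintype.card F : ℂ)⁻¹ • ∑ r : F, ρ (D.Psi r s) := by
  unfold UL PZ gE UZ
  rw [smul_mul_assoc, Finset.sum_mul]
  congr 1
  apply Finset.sum_congr rfl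
  intro r _
  rw [AddChar.zero_apply, one_smul, ← map_mul, z_mul_Psi D m hD, add_zero]

include hD in
theorem UL_mul (s s' : Lam) : UL D ρ s * UL D ρ s' = UL D ρ (s + s') := by
  unfold UL
  have hc : ρ (D.Psi 0 s) * PZ D ρ 0 = PZ D ρ 0 * ρ (D.Psi 0 s) := (PZ_comm D m hD ρ 0 0 s).symm
  have hq : D.Psi 0 s * D.Psi 0 s' = D.Psi (D.beta s s') 0 * D.Psi 0 (s + s') := by
    rw [hD.qlaw, z_mul_Psi D m hD]
    simp
  calc PZ D ρ 0 * ρ (D.Psi 0 s) * (PZ D ρ 0 * ρ (D.Psi 0 s'))
      = PZ D ρ 0 * (ρ (D.Psi 0 s) * PZ D ρ 0) * ρ (D.Psi 0 s') := by simp only [mul_assoc]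
    _ = PZ D ρ 0 * (PZ D ρ 0 * ρ (D.Psi 0 s)) * ρ (D.Psi 0 s') := by rw [hc]
    _ = (PZ D ρ 0 * PZ D ρ 0) * (ρ (D.Psi 0 s) * ρ (D.Psi 0 s')) := by simp only [mul_assoc]
    _ = PZ D ρ 0 * ρ (D.Psi (D.beta s s') 0 * D.Psi 0 (s + s')) := by
        rw [PZ_idem D m hD, ← map_mul ρ, hq]
    _ = (PZ D ρ 0 * ρ (D.Psi (D.beta s s') 0)) * ρ (D.Psi 0 (s + s')) := by
        rw [map_mul ρ, mul_assoc]
    _ = PZ D ρ 0 * ρ (D.Psi 0 (s + s')) := by
        rw [PZ_mul_z D m hD, AddChar.zero_apply, one_smul]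

include hD in
theorem eL_eq_gE (l : AddChar Lam ℂ) : eL D ρ l = gE (UL D ρ) l := by
  unfold eL gE
  have h : ∀ s : Lam, l (-s) • UL D ρ s =
      (Fintype.card F : ℂ)⁻¹ • ∑ r : F, l (-s) • ρ (D.Psi r s) := by
    intro s
    rw [UL_eq D m hD, smul_comm, Finset.smul_sum]
  simp only [h]
  rw [← Finset.smul_sum, smul_smul, Finset.sum_comm, mul_inv, mul_comm]

include hD in
theorem eL_mul_self (l : AddChar Lam ℂ) : eL D ρ l * eL D ρ l = eL D ρ l := by
  rw [eL_eq_gE D m hD]
  exact gE_idem (UL D ρ) (UL_mul D m hD ρ) l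

theorem trace_eL' (l : AddChar Lam ℂ) :
    LinearMap.trace ℂ V (eL D ρ l) = cM D ρ.character l := by
  unfold eL cM
  rw [map_smul, smul_eq_mul, map_sum]
  congr 1
  apply Finset.sum_congr rfl
  intro r _
  rw [map_sum]
  apply Finset.sum_congr rfl
  intro s _
  rw [map_smul, smul_eq_mul]
  rfl

end proj

/-! ### unit C12 -/

include hD in
theorem cM_nat {V : Type*} [AddCommGroup V] [Module ℂ V] [FiniteDimensional ℂ V]
    (ρ : Representation ℂ G V) (l : AddChar Lam ℂ) : ∃ n : ℕ, cM D ρ.character l = n := by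
  refine ⟨Module.finrank ℂ (LinearMap.range (eL D ρ l)), ?_⟩
  rw [← trace_eL' D ρ l]
  exact trace_idem_nat _ (eL_mul_self D m hD ρ l)

theorem qL_ne : (Fintype.card Lam : ℂ) ≠ 0 := Nat.cast_ne_zero.2 Fintype.card_ne_zero

include hD in
/-- Fourier inversion: summing `cM` over the characters trivial on a subgroup `S` of `Lam` -/
theorem sum_cM_vanish (χ : G → ℂ) (S : AddSubgroup Lam) [DecidablePred (· ∈ S)] :
    ∑ l ∈ Finset.univ.filter (fun l : AddChar Lam ℂ => ∀ s ∈ S, l s = 1), cM D χ l =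
      ((Fintype.card F : ℂ) * (Nat.card S : ℂ))⁻¹ *
        ∑ r : F, ∑ s ∈ Finset.univ.filter (fun s : Lam => s ∈ S), χ (D.Psi r s) := by
  classical
  have hS : (Nat.card S : ℂ) ≠ 0 := by
    rw [Nat.card_eq_fintype_card]
    exact Nat.cast_ne_zero.2 Fintype.card_ne_zero
  have hq : (Fintype.card F : ℂ) ≠ 0 := qF_ne
  have hL : (Fintype.card Lam : ℂ) ≠ 0 := qL_ne
  unfold cM
  rw [← Finset.mul_sum]
  have h1 : ∑ l ∈ Finset.univ.filter (fun l : AddChar Lam ℂ => ∀ s ∈ S, l s = 1),
      ∑ r : F, ∑ s : Lam, l (-s) * χ (D.Psi r s) =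
      ∑ r : F, ∑ s : Lam,
        (∑ l ∈ Finset.univ.filter (fun l : AddChar Lam ℂ => ∀ s ∈ S, l s = 1), l (-s)) *
          χ (D.Psi r s) := by
    rw [Finset.sum_comm]
    apply Finset.sum_congr rfl
    intro r _
    rw [Finset.sum_comm]
    apply Finset.sum_congr rfl
    intro s _
    rw [Finset.sum_mul]
  rw [h1]
  have h2 : ∀ s : Lam,
      ∑ l ∈ Finset.univ.filter (fun l : AddChar Lam ℂ => ∀ s ∈ S, l s = 1), l (-s) =
        if s ∈ S then (Fintype.card Lam : ℂ) / (Nat.card S : ℂ) else 0 := by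
    intro s
    have := sum_ann S (-s)
    by_cases hs : s ∈ S
    · rw [if_pos (S.neg_mem hs)] at this
      rw [if_pos hs, eq_div_iff hS, mul_comm]
      exact this
    · rw [if_neg (fun hh => hs (neg_mem_iff.1 hh))] at this
      rw [if_neg hs]
      rcases mul_eq_zero.1 this with h | h
      · exact absurd h hS
      · exact h
  simp only [h2, ite_mul, zero_mul]
  simp only [← Finset.sum_filter, ← Finset.mul_sum]
  field_simp

include hD in
theorem sum_cM (χ : G → ℂ) : ∑ l : AddChar Lam ℂ, cM D χ l = fZ D χ := by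
  classical
  have h := sum_cM_vanish D m hD χ (⊥ : AddSubgroup Lam)
  have h1 : (Finset.univ.filter (fun l : AddChar Lam ℂ => ∀ s ∈ (⊥ : AddSubgroup Lam), l s = 1)) =
      Finset.univ := by
    ext l
    simp only [Finset.mem_filter, Finset.mem_univ, true_and, AddSubgroup.mem_bot, iff_true]
    rintro s rfl
    exact AddChar.map_zero_eq_one l
  have h2 : (Finset.univ.filter (fun s : Lam => s ∈ (⊥ : AddSubgroup Lam))) = {0} := by
    ext s
    simp
  rw [h1] at h
  rw [h]
  unfold fZ
  simp only [h2, Finset.sum_singleton]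
  have h3 : (Nat.card (⊥ : AddSubgroup Lam) : ℂ) = 1 := by
    rw [AddSubgroup.card_bot, Nat.cast_one]
  rw [h3, mul_one]

include hD in
/-- the subgroup given by an injective additive parametrisation -/
theorem sum_cM_param (χ : G → ℂ) {ι : Type*} [AddCommGroup ι] [Fintype ι] (σ : ι →+ Lam)
    (hσ : Function.Injective σ) :
    ∑ l ∈ Finset.univ.filter (fun l : AddChar Lam ℂ => ∀ i : ι, l (σ i) = 1), cM D χ l =
      ((Fintype.card F : ℂ) * (Fintype.card ι : ℂ))⁻¹ *
        ∑ r : F, ∑ i : ι, χ (D.Psi r (σ i)) := by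
  classical
  have h := sum_cM_vanish D m hD χ σ.range
  have h1 : (Finset.univ.filter (fun l : AddChar Lam ℂ => ∀ s ∈ σ.range, l s = 1)) =
      Finset.univ.filter (fun l : AddChar Lam ℂ => ∀ i : ι, l (σ i) = 1) := by
    ext l
    simp only [Finset.mem_filter, Finset.mem_univ, true_and, AddMonoidHom.mem_range]
    constructor
    · intro hh i; exact hh _ ⟨i, rfl⟩
    · rintro hh s ⟨i, rfl⟩; exact hh i
  have h2 : ∀ r : F, ∑ s ∈ Finset.univ.filter (fun s : Lam => s ∈ σ.range), χ (D.Psi r s) =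
      ∑ i : ι, χ (D.Psi r (σ i)) := by
    intro r
    have : (Finset.univ.filter (fun s : Lam => s ∈ σ.range)) = Finset.univ.image σ := by
      ext s
      simp only [Finset.mem_filter, Finset.mem_univ, true_and, AddMonoidHom.mem_range,
        Finset.mem_image]
    rw [this, Finset.sum_image (fun i _ j _ hij => hσ hij)]
  have h3 : Nat.card σ.range = Fintype.card ι := by
    rw [← Nat.card_eq_fintype_card]
    exact (Nat.card_congr (Equiv.ofInjective σ hσ)).symm
  rw [h1] at h
  rw [h, h3]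
  simp only [h2]

include hD in
theorem sum_cM_e1 (χ : G → ℂ) :
    ∑ l ∈ Finset.univ.filter (fun l : AddChar Lam ℂ => ∀ t : F, l (t • D.e1) = 1), cM D χ l =
      ZS1 D χ := by
  classical
  let σ : F →+ Lam :=
    { toFun := fun t => t • D.e1
      map_zero' := zero_smul _ _
      map_add' := fun t u => add_smul t u _ }
  have hσ : Function.Injective σ := by
    rw [injective_iff_map_eq_zero]
    intro t ht
    have := hD.indep t 0 (by rw [zero_smul, add_zero]; exact ht)
    exact this.1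
  have h := sum_cM_param D m hD χ σ hσ
  unfold ZS1
  exact h

include hD in
theorem sum_cM_e12 (χ : G → ℂ) :
    ∑ l ∈ Finset.univ.filter (fun l : AddChar Lam ℂ =>
      (∀ t : F, l (t • D.e1) = 1) ∧ ∀ u : F, l (u • D.e2) = 1), cM D χ l = ZS2 D χ := by
  classical
  let σ : F × F →+ Lam :=
    { toFun := fun p => p.1 • D.e1 + p.2 • D.e2
      map_zero' := by simp
      map_add' := fun p p' => by
        simp only [Prod.fst_add, Prod.snd_add, add_smul]
        abel }
  have hσ : Function.Injective σ := by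
    rw [injective_iff_map_eq_zero]
    intro p hp
    have := hD.indep p.1 p.2 hp
    exact Prod.ext this.1 this.2
  have h := sum_cM_param D m hD χ σ hσ
  have h1 : (Finset.univ.filter (fun l : AddChar Lam ℂ => ∀ i : F × F, l (σ i) = 1)) =
      Finset.univ.filter (fun l : AddChar Lam ℂ =>
        (∀ t : F, l (t • D.e1) = 1) ∧ ∀ u : F, l (u • D.e2) = 1) := by
    ext l
    simp only [Finset.mem_filter, Finset.mem_univ, true_and]
    constructor
    · intro hh
      refine ⟨fun t => ?_, fun u => ?_⟩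
      · have := hh (t, 0)
        simpa [σ] using this
      · have := hh (0, u)
        simpa [σ] using this
    · rintro ⟨h1, h2⟩ p
      show l (p.1 • D.e1 + p.2 • D.e2) = 1
      rw [AddChar.map_add_eq_mul, h1, h2, one_mul]
  rw [h1] at h
  rw [h]
  unfold ZS2
  rw [Fintype.card_prod, Nat.cast_mul]
  congr 1
  apply Finset.sum_congr rfl
  intro r _
  rw [Fintype.sum_prod_type]
  rfl

end B

end Cfsg.Agent.Lib.Helper2.E6M2C12
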