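import Mathlib
import Cfsg.Agent.Lib.Helper5.FrobFix
import Cfsg.Agent.Lib.Helper6.E6M2Frob

set_option autoImplicit false
set_option linter.unusedSectionVars false
set_option linter.unusedVariables false
set_option linter.style.haveILetI false

/-!
Farm E6M2 (S2341), layer C2: counting `3 × 3` matrices over `K` (`|K| = q²`) which are hermitian
with respect to the ANTI-diagonal, `A (2-k) (2-j) = η j k * (A j k) ^ q`, with prescribed zero
entries.  Parameters: the anti-diagonal entries `(0,2), (1,1), (2,0)` in `F_q = {x | x ^ q = x}` and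
the entries `(0,0), (0,1), (1,0)` in `K`.
-/

namespace Cfsg.Agent.Lib.Helper2.E6M2Herm

open Matrix

/-- functions with prescribed values `x0` on `Z` -/
theorem card_fun_const {ι X : Type*} [Fintype ι] [DecidableEq ι] [Fintype X] (x0 : X)
    (Z : Finset ι) :
    Nat.card {f : ι → X // ∀ i ∈ Z, f i = x0} = Fintype.card X ^ (Fintype.card ι - Z.card) := by
  classical
  let e : {f : ι → X // ∀ i ∈ Z, f i = x0} ≃ ({i : ι // i ∉ Z} → X) :=
    { toFun := fun f i => f.1 i.1
      invFun := fun g => ⟨fun i => if h : i ∈ Z then x0 else g ⟨i, h⟩, by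
        intro i hi
        simp [hi]⟩
      left_inv := by
        rintro ⟨f, hf⟩
        apply Subtype.ext
        funext i
        by_cases h : i ∈ Z
        · simp [h, hf i h]
        · simp [h]
      right_inv := by
        intro g
        funext i
        obtain ⟨i, hi⟩ := i
        simp [hi] }
  rw [Nat.card_congr e, Nat.card_eq_fintype_card, Fintype.card_fun, Fintype.card_subtype_compl,
    Fintype.card_coe]

variable {K : Type*} [Field K] (q : ℕ)

/-- hermitian with respect to the anti-diagonal, with the sign table `η` -/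
def Herm (η : Fin 3 → Fin 3 → ℤ) (A : Matrix (Fin 3) (Fin 3) K) : Prop :=
  ∀ j k : Fin 3, A (Fin.rev k) (Fin.rev j) = ((η j k : ℤ) : K) * A j k ^ q

/-- the properties of the sign table -/
structure EtaOK (η : Fin 3 → Fin 3 → ℤ) : Prop where
  sq : ∀ j k, η j k = 1 ∨ η j k = -1
  symm : ∀ j k, η (Fin.rev k) (Fin.rev j) = η j k
  diag : ∀ j, η j (Fin.rev j) = 1

/-- the matrix with the parameters `u` (anti-diagonal) and `v` (above the anti-diagonal) -/
def mk (η : Fin 3 → Fin 3 → ℤ) (u v : Fin 3 → K) : Matrix (Fin 3) (Fin 3) K :=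
  Matrix.of ![![v 0, v 1, u 0],
    ![v 2, u 1, ((η 0 1 : ℤ) : K) * v 1 ^ q],
    ![u 2, ((η 1 0 : ℤ) : K) * v 2 ^ q, ((η 0 0 : ℤ) : K) * v 0 ^ q]]

section

variable [Fintype K] (hq : IsPrimePow q) (hK : Fintype.card K = q ^ 2)

include hq hK in
theorem eta_mul_pow (η : Fin 3 → Fin 3 → ℤ) (hη : EtaOK η) (j k : Fin 3) (x : K) :
    ((η (Fin.rev k) (Fin.rev j) : ℤ) : K) * (((η j k : ℤ) : K) * x ^ q) ^ q = x := by
  rw [mul_pow, Cfsg.Agent.Lib.Helper6.E6M2Frob.intCast_pow_q q hq hK,
    Cfsg.Agent.Lib.Helper6.E6M2Frob.pow_q_pow_q q hK, hη.symm, ← mul_assoc]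
  rcases hη.sq j k with h | h <;> rw [h] <;> simp

include hq hK in
theorem herm_mk (η : Fin 3 → Fin 3 → ℤ) (hη : EtaOK η) (u v : Fin 3 → K)
    (hu : ∀ i, u i ^ q = u i) : Herm q η (mk q η u v) := by
  have d0 := hη.diag 0
  have d1 := hη.diag 1
  have d2 := hη.diag 2
  have s00 := eta_mul_pow q hq hK η hη 0 0 (v 0)
  have s01 := eta_mul_pow q hq hK η hη 0 1 (v 1)
  have s10 := eta_mul_pow q hq hK η hη 1 0 (v 2)
  intro j k
  fin_cases j <;> fin_cases k
  · show mk q η u v 2 2 = _ * (mk q η u v 0 0) ^ q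
    simp [mk]
  · show mk q η u v 1 2 = _ * (mk q η u v 0 1) ^ q
    simp [mk]
  · show mk q η u v 0 2 = ((η 0 2 : ℤ) : K) * (mk q η u v 0 2) ^ q
    have : η 0 2 = 1 := d0
    simp [mk, this, hu 0]
  · show mk q η u v 2 1 = _ * (mk q η u v 1 0) ^ q
    simp [mk]
  · show mk q η u v 1 1 = ((η 1 1 : ℤ) : K) * (mk q η u v 1 1) ^ q
    have : η 1 1 = 1 := d1
    simp [mk, this, hu 1]
  · show mk q η u v 0 1 = ((η 1 2 : ℤ) : K) * (mk q η u v 1 2) ^ q
    have h : (Fin.rev (1 : Fin 3)) = 1 := rfl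
    have h2 : (Fin.rev (0 : Fin 3)) = 2 := rfl
    have := s01
    rw [h, h2] at this
    simpa [mk] using this.symm
  · show mk q η u v 2 0 = ((η 2 0 : ℤ) : K) * (mk q η u v 2 0) ^ q
    have : η 2 0 = 1 := d2
    simp [mk, this, hu 2]
  · show mk q η u v 1 0 = ((η 2 1 : ℤ) : K) * (mk q η u v 2 1) ^ q
    have h : (Fin.rev (1 : Fin 3)) = 1 := rfl
    have h2 : (Fin.rev (0 : Fin 3)) = 2 := rfl
    have := s10
    rw [h, h2] at this
    simpa [mk] using this.symm
  · show mk q η u v 0 0 = ((η 2 2 : ℤ) : K) * (mk q η u v 2 2) ^ q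
    have h2 : (Fin.rev (0 : Fin 3)) = 2 := rfl
    have := s00
    rw [h2] at this
    simpa [mk] using this.symm

theorem mk_eq_of_herm (η : Fin 3 → Fin 3 → ℤ) (A : Matrix (Fin 3) (Fin 3) K) (hA : Herm q η A) :
    A = mk q η ![A 0 2, A 1 1, A 2 0] ![A 0 0, A 0 1, A 1 0] := by
  have h00 := hA 0 0
  have h01 := hA 0 1
  have h10 := hA 1 0
  ext j k
  fin_cases j <;> fin_cases k
  · simp [mk]
  · simp [mk]
  · simp [mk]
  · simp [mk]
  · simp [mk]
  · show A 1 2 = mk q η _ _ 1 2
    simpa [mk] using h01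
  · simp [mk]
  · show A 2 1 = mk q η _ _ 2 1
    simpa [mk] using h10
  · show A 2 2 = mk q η _ _ 2 2
    simpa [mk] using h00

theorem herm_fix (η : Fin 3 → Fin 3 → ℤ) (hη : EtaOK η) (A : Matrix (Fin 3) (Fin 3) K)
    (hA : Herm q η A) (j : Fin 3) : A j (Fin.rev j) ^ q = A j (Fin.rev j) := by
  have h := hA j (Fin.rev j)
  rw [Fin.rev_rev, hη.diag j, Int.cast_one, one_mul] at h
  exact h.symm

/-- the positions above the anti-diagonal -/
def reppos : Fin 3 → Fin 3 × Fin 3 := ![(0, 0), (0, 1), (1, 0)]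

theorem mk_fix (η : Fin 3 → Fin 3 → ℤ) (u v : Fin 3 → K) (i : Fin 3) :
    mk q η u v i (Fin.rev i) = u i := by
  fin_cases i <;> rfl

theorem mk_rep (η : Fin 3 → Fin 3 → ℤ) (u v : Fin 3 → K) (i : Fin 3) :
    mk q η u v (reppos i).1 (reppos i).2 = v i := by
  fin_cases i <;> rfl

variable [DecidableEq K]

include hq hK in
/-- the number of hermitian matrices with prescribed zero parameters -/
theorem card_herm_zero (η : Fin 3 → Fin 3 → ℤ) (hη : EtaOK η) (Zf Zp : Finset (Fin 3)) :
    Nat.card {A : Matrix (Fin 3) (Fin 3) K // Herm q η A ∧ (∀ i ∈ Zf, A i (Fin.rev i) = 0) ∧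
      ∀ i ∈ Zp, A (reppos i).1 (reppos i).2 = 0} =
      q ^ (3 - Zf.card) * (q ^ 2) ^ (3 - Zp.card) := by
  classical
  have hq0 : q ≠ 0 := by
    have := hq.two_le
    omega
  let x0 : {x : K // x ^ q = x} := ⟨0, zero_pow hq0⟩
  let e : {A : Matrix (Fin 3) (Fin 3) K // Herm q η A ∧ (∀ i ∈ Zf, A i (Fin.rev i) = 0) ∧
      ∀ i ∈ Zp, A (reppos i).1 (reppos i).2 = 0} ≃
      {u : Fin 3 → {x : K // x ^ q = x} // ∀ i ∈ Zf, u i = x0} ×
        {v : Fin 3 → K // ∀ i ∈ Zp, v i = 0} :=
    { toFun := fun A =>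
        (⟨fun i => ⟨A.1 i (Fin.rev i), herm_fix q η hη A.1 A.2.1 i⟩, fun i hi =>
            Subtype.ext (A.2.2.1 i hi)⟩,
          ⟨fun i => A.1 (reppos i).1 (reppos i).2, fun i hi => A.2.2.2 i hi⟩)
      invFun := fun p =>
        ⟨mk q η (fun i => (p.1.1 i).1) p.2.1,
          herm_mk q hq hK η hη _ _ (fun i => (p.1.1 i).2),
          fun i hi => by
            rw [mk_fix]
            exact congrArg Subtype.val (p.1.2 i hi),
          fun i hi => by
            rw [mk_rep]
            exact p.2.2 i hi⟩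
      left_inv := by
        rintro ⟨A, hA, h1, h2⟩
        apply Subtype.ext
        show mk q η (fun i => A i (Fin.rev i)) (fun i => A (reppos i).1 (reppos i).2) = A
        have := mk_eq_of_herm q η A hA
        have e1 : (fun i : Fin 3 => A i (Fin.rev i)) = ![A 0 2, A 1 1, A 2 0] := by
          funext i
          fin_cases i <;> rfl
        have e2 : (fun i : Fin 3 => A (reppos i).1 (reppos i).2) = ![A 0 0, A 0 1, A 1 0] := by
          funext i
          fin_cases i <;> rfl
        rw [e1, e2]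
        exact this.symm
      right_inv := by
        rintro ⟨⟨u, hu⟩, ⟨v, hv⟩⟩
        apply Prod.ext
        · apply Subtype.ext
          funext i
          apply Subtype.ext
          show mk q η (fun i => (u i).1) v i (Fin.rev i) = (u i).1
          exact mk_fix q η _ _ i
        · apply Subtype.ext
          funext i
          show mk q η (fun i => (u i).1) v (reppos i).1 (reppos i).2 = v i
          exact mk_rep q η _ _ i }
  rw [Nat.card_congr e, Nat.card_prod, card_fun_const x0 Zf, card_fun_const (0 : K) Zp,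
    Fintype.card_fin, hK, ← Nat.card_eq_fintype_card,
    Cfsg.Agent.Lib.Helper5.FrobFix.card_fixed hq.two_le hK]

end

end Cfsg.Agent.Lib.Helper2.E6M2Herm
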