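import Mathlib
import Cfsg.Agent.Lib.Helper5.E6MDefs

/-!
# E6M farm (S2340): a kernel-computable form of `T3.emb`
-/

set_option autoImplicit false
set_option linter.style.haveILetI false

namespace Cfsg.Agent.Lib.Helper2.E6MCell

open Matrix Cfsg.Agent.Lib.Helper5.E6M Cfsg.Agent.Lib.Helper5.E6M.T3

/-- the elements of `I`, in increasing order -/
def sortedList (I : T3) : List (Fin 6) := (List.finRange 6).filter (fun x => x ∈ I.1)

theorem sortedList_sortedLT (I : T3) : (sortedList I).SortedLT :=
  ((List.sortedLT_finRange 6).pairwise.filter _).sortedLT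

theorem mem_sortedList (I : T3) (x : Fin 6) : x ∈ sortedList I ↔ x ∈ I.1 := by
  simp [sortedList]

theorem sortedList_length (I : T3) : (sortedList I).length = 3 := by
  have h1 : (sortedList I).toFinset = I.1 := by
    ext x
    rw [List.mem_toFinset, mem_sortedList]
  have h2 := List.toFinset_card_of_nodup (sortedList_sortedLT I).nodup
  rw [h1, I.2] at h2
  exact h2.symm

/-- a kernel-computable form of `I.emb` -/
def embC (I : T3) (k : Fin 3) : Fin 6 := (sortedList I).getD k.1 0

theorem embC_eq_get (I : T3) (k : Fin 3) :
    embC I k = (sortedList I).get ⟨k.1, by rw [sortedList_length]; exact k.2⟩ := by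
  unfold embC
  rw [List.getD_eq_getElem _ _ (by rw [sortedList_length]; exact k.2)]
  rfl

theorem emb_eq_embC (I : T3) (k : Fin 3) : I.emb k = embC I k := by
  have h := Finset.orderEmbOfFin_unique (s := I.1) I.2 (f := embC I)
    (by
      intro x
      rw [embC_eq_get, ← mem_sortedList]
      exact List.get_mem _ _)
    (by
      intro a b hab
      rw [embC_eq_get, embC_eq_get]
      exact sortedList_sortedLT I (by exact hab))
  exact (congrFun h k).symm

end Cfsg.Agent.Lib.Helper2.E6MCell
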