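import Mathlib
import Cfsg.Agent.Lib.Helper5.E6MDefs
import Cfsg.Agent.Lib.Helper2.E6MCellBasic
import Cfsg.Agent.Lib.Helper2.E6MEmbC

/-!
# E6M farm (S2340): all coordinates of `pl (cellMat I A)` in computable form

`pl (cellMat I A) J = det3 (rowD (desc I J) A)` where `desc I J : Fin 3 → Bool × Fin 3` is a
kernel-computable descriptor of the rows `J` of `cellMat I A`: `(true, k)` = the unit vector `e_k`,
`(false, j)` = the row `j` of `A`.
-/

set_option autoImplicit false
set_option linter.style.haveILetI false

namespace Cfsg.Agent.Lib.Helper2.E6MCell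

open Matrix Cfsg.Agent.Lib.Helper5.E6M Cfsg.Agent.Lib.Helper5.E6M.T3

variable {F : Type*} [Field F]

/-- the position of `x` in `I` (computable) -/
def posC (I : T3) (x : Fin 6) : Fin 3 :=
  if embC I 0 = x then 0 else if embC I 1 = x then 1 else 2

theorem embC_injective (I : T3) : Function.Injective (embC I) := by
  intro a b h
  rw [← emb_eq_embC, ← emb_eq_embC] at h
  exact I.emb.injective h

theorem posC_embC (I : T3) (k : Fin 3) : posC I (embC I k) = k := by
  unfold posC
  fin_cases k
  · simp
  · have h : embC I 0 ≠ embC I 1 := fun h => by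
      have := embC_injective I h
      simp at this
    simp [h]
  · have h0 : embC I 0 ≠ embC I 2 := fun h => by
      have := embC_injective I h
      simp at this
    have h1 : embC I 1 ≠ embC I 2 := fun h => by
      have := embC_injective I h
      simp at this
    simp [h0, h1]

/-- the descriptor of the row `J.emb r` of `cellMat I A` -/
def desc (I J : T3) (r : Fin 3) : Bool × Fin 3 :=
  if embC J r ∈ I.1 then (true, posC I (embC J r)) else (false, posC I.compl (embC J r))

/-- the row with a given descriptor -/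
def rowD (d : Fin 3 → Bool × Fin 3) (A : Matrix (Fin 3) (Fin 3) F) (r k : Fin 3) : F :=
  if (d r).1 then (if k = (d r).2 then 1 else 0) else A (d r).2 k

theorem cellMat_row (I J : T3) (A : Matrix (Fin 3) (Fin 3) F) (r k : Fin 3) :
    cellMat I A (J.emb r) k = rowD (desc I J) A r k := by
  unfold rowD desc
  by_cases h : embC J r ∈ I.1
  · rw [if_pos h]
    simp only [if_true]
    have h' : J.emb r ∈ I.1 := by rw [emb_eq_embC]; exact h
    obtain ⟨k0, hk0⟩ := exists_emb_of_mem I h'
    rw [← hk0, cellMat_emb]
    have : embC J r = embC I k0 := by rw [← emb_eq_embC, ← emb_eq_embC, hk0]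
    rw [this, posC_embC]
  · rw [if_neg h]
    simp only [Bool.false_eq_true, if_false]
    have h' : J.emb r ∉ I.1 := by rw [emb_eq_embC]; exact h
    obtain ⟨j0, hj0⟩ := exists_compl_emb_of_not_mem I h'
    rw [← hj0, cellMat_compl_emb]
    have : embC J r = embC I.compl j0 := by rw [← emb_eq_embC, ← emb_eq_embC, hj0]
    rw [this, posC_embC]

/-- the explicit `3 × 3` determinant -/
def det3' (m : Fin 3 → Fin 3 → F) : F :=
  m 0 0 * m 1 1 * m 2 2 - m 0 0 * m 1 2 * m 2 1 - m 0 1 * m 1 0 * m 2 2 + m 0 1 * m 1 2 * m 2 0 +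
    m 0 2 * m 1 0 * m 2 1 - m 0 2 * m 1 1 * m 2 0

/-- all coordinates of `pl (cellMat I A)` -/
theorem pl_cellMat (I J : T3) (A : Matrix (Fin 3) (Fin 3) F) :
    pl (cellMat I A) J = det3' (rowD (desc I J) A) := by
  unfold pl
  rw [Matrix.det_fin_three]
  unfold det3'
  simp only [Matrix.submatrix_apply, id, cellMat_row]

end Cfsg.Agent.Lib.Helper2.E6MCell
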