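import Mathlib
import Cfsg.Agent.Lib.Helper5.E6MDefs
import Cfsg.Agent.Lib.Helper3.E6M2DefsC
import Cfsg.Agent.Lib.Helper2.E6MCell
import Cfsg.Agent.Lib.Helper2.E6MCoord
import Cfsg.Agent.Lib.Helper2.E6M2Herm
import Cfsg.Agent.Lib.Helper5.HermCount

set_option autoImplicit false
set_option linter.unusedSectionVars false
set_option linter.unusedVariables false
set_option linter.style.haveILetI false

/-!
Farm E6M2 (S2341), layer C2: one chain step.  For a long `I` with the hermitian parametrisation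
`Param q η I` of `Cell I ∩ Λ_τ`, the elements with prescribed vanishing coordinates `E` are counted
when the vanishing amounts to the vanishing of parameters of the hermitian matrix.
-/

namespace Cfsg.Agent.Lib.Helper2.E6M2Chain

open Matrix Cfsg.Agent.Lib.Helper5.E6M Cfsg.Agent.Lib.Helper5.E6M.T3
  Cfsg.Agent.Lib.Helper3.E6M2C Cfsg.Agent.Lib.Helper2.E6MCell Cfsg.Agent.Lib.Helper2.E6M2Herm

variable {K : Type*} [Field K] [Fintype K] [DecidableEq K] (q : ℕ) (hq : IsPrimePow q)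
  (hK : Fintype.card K = q ^ 2)

/-- the hermitian parametrisation of `Cell I ∩ Λ_τ` (unit CELLCARD2 / `herm_iff`) -/
def Param (η : Fin 3 → Fin 3 → ℤ) (I : T3) : Prop :=
  ∀ l : T3 → K, (l ∈ Cell I ∧ InLam q l) ↔
    ∃ (a : K) (A : Matrix (Fin 3) (Fin 3) K), a ^ q = a ∧ a ≠ 0 ∧ Herm q η A ∧
      l = a • pl (cellMat I A)

include hq hK in
/-- the elements of `Cell I ∩ Λ_τ` with prescribed zero coordinates -/
theorem card_cell_zero2 (η : Fin 3 → Fin 3 → ℤ) (hη : EtaOK η) (I : T3)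
    (hP : Param (K := K) q η I) (E : Finset T3) (Zf Zp : Finset (Fin 3))
    (hZ : ∀ A : Matrix (Fin 3) (Fin 3) K, Herm q η A →
      ((∀ J ∈ E, pl (cellMat I A) J = 0) ↔
        ((∀ i ∈ Zf, A i (Fin.rev i) = 0) ∧ ∀ i ∈ Zp, A (reppos i).1 (reppos i).2 = 0))) :
    Nat.card {l : T3 → K // (l ∈ Cell I ∧ InLam q l) ∧ ∀ J ∈ E, l J = 0} =
      (q - 1) * (q ^ (3 - Zf.card) * (q ^ 2) ^ (3 - Zp.card)) := by
  classical
  have hbij : Function.Bijective
      (fun p : {a : K // a ≠ 0 ∧ a ^ q = a} ×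
          {A : Matrix (Fin 3) (Fin 3) K // Herm q η A ∧ (∀ i ∈ Zf, A i (Fin.rev i) = 0) ∧
            ∀ i ∈ Zp, A (reppos i).1 (reppos i).2 = 0} =>
        (⟨p.1.1 • pl (cellMat I p.2.1), ⟨(hP _).2 ⟨p.1.1, p.2.1, p.1.2.2, p.1.2.1, p.2.2.1, rfl⟩, by
          intro J hJ
          rw [Pi.smul_apply, smul_eq_mul, ((hZ p.2.1 p.2.2.1).mpr p.2.2.2) J hJ, mul_zero]⟩⟩ :
          {l : T3 → K // (l ∈ Cell I ∧ InLam q l) ∧ ∀ J ∈ E, l J = 0})) := by
    constructor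
    · rintro ⟨⟨a, ha⟩, ⟨A, hA⟩⟩ ⟨⟨a', ha'⟩, ⟨A', hA'⟩⟩ h
      have h1 := congrArg Subtype.val h
      obtain ⟨h2, h3⟩ := cell_param_injective I a a' ha.1 A A' h1
      subst h2
      subst h3
      rfl
    · rintro ⟨l, hl, hl0⟩
      obtain ⟨a, A, ha, ha0, hA, rfl⟩ := (hP l).1 hl
      have hA0 := (hZ A hA).mp (by
        intro J hJ
        have := hl0 J hJ
        rw [Pi.smul_apply, smul_eq_mul] at this
        exact (mul_eq_zero.mp this).resolve_left ha0)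
      exact ⟨⟨⟨a, ha0, ha⟩, ⟨A, hA, hA0⟩⟩, rfl⟩
  rw [← Nat.card_congr (Equiv.ofBijective _ hbij), Nat.card_prod,
    card_herm_zero q hq hK η hη Zf Zp, Cfsg.Agent.Lib.Helper5.HermCount.card_fixed hK]

include hq hK in
/-- the contribution of one chain step -/
theorem sum_first2 (c : (T3 → K) → ℕ)
    (hc : ∀ (I : T3), IsLong I → ∀ l : T3 → K, InLam q l → l I ≠ 0 →
      (l ∈ Cell I → c l = 1) ∧ (l ∉ Cell I → c l = 0))
    (η : Fin 3 → Fin 3 → ℤ) (hη : EtaOK η) (I : T3) (hI : IsLong I)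
    (hP : Param (K := K) q η I) (E : Finset T3) (Zf Zp : Finset (Fin 3))
    (hZ : ∀ A : Matrix (Fin 3) (Fin 3) K, Herm q η A →
      ((∀ J ∈ E, pl (cellMat I A) J = 0) ↔
        ((∀ i ∈ Zf, A i (Fin.rev i) = 0) ∧ ∀ i ∈ Zp, A (reppos i).1 (reppos i).2 = 0))) :
    ∑ l ∈ Finset.univ.filter (fun l : T3 → K => InLam q l ∧ l I ≠ 0 ∧ ∀ J ∈ E, l J = 0), c l =
      (q - 1) * (q ^ (3 - Zf.card) * (q ^ 2) ^ (3 - Zp.card)) := by
  classical
  rw [← card_cell_zero2 q hq hK η hη I hP E Zf Zp hZ, Nat.card_eq_fintype_card,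
    Fintype.card_subtype]
  have h1 : ∀ l ∈ Finset.univ.filter
      (fun l : T3 → K => InLam q l ∧ l I ≠ 0 ∧ ∀ J ∈ E, l J = 0),
      c l = if l ∈ Cell I then 1 else 0 := by
    intro l hl
    rw [Finset.mem_filter] at hl
    by_cases h : l ∈ Cell I
    · rw [if_pos h]; exact (hc I hI l hl.2.1 hl.2.2.1).1 h
    · rw [if_neg h]; exact (hc I hI l hl.2.1 hl.2.2.1).2 h
  rw [Finset.sum_congr rfl h1, Finset.sum_boole, Finset.filter_filter]
  simp only [Nat.cast_id]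
  congr 1
  ext l
  simp only [Finset.mem_filter, Finset.mem_univ, true_and]
  constructor
  · rintro ⟨⟨h1, _, h2⟩, h3⟩
    exact ⟨⟨h3, h1⟩, h2⟩
  · rintro ⟨⟨h3, h1⟩, h2⟩
    refine ⟨⟨h1, ?_, h2⟩, h3⟩
    obtain ⟨c0, A, hc0, rfl⟩ := h3
    rw [Pi.smul_apply, smul_eq_mul, Cfsg.Agent.Lib.Helper2.E6MCell.cell_coord, mul_one]
    exact hc0

end Cfsg.Agent.Lib.Helper2.E6M2Chain
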