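import Mathlib

set_option autoImplicit false
set_option linter.unusedSectionVars false
set_option linter.unusedVariables false

/-!
Farm E6M2 (S2341), unit DUAL (bridge between the layers B2 and C2): for a finite field `F`, a
non-trivial additive character `ψ` of `F` and an `F`-bilinear pairing `P : Lam' × Lam → F` which is
non-degenerate on the left, with `|Lam'| = |Lam|`, the map `l ↦ (s ↦ ψ (P l s))` is a bijection
from `Lam'` onto the characters of `Lam`.
-/

namespace Cfsg.Agent.Lib.Helper2.E6M2DUAL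

section dual

variable {F Lam Lam' : Type*} [Field F] [AddCommGroup Lam] [Module F Lam]
  [AddCommGroup Lam'] [Module F Lam']

/-- the character `s ↦ ψ ⟨l, s⟩` -/
noncomputable def pairChar (ψ : AddChar F ℂ) (P : Lam' →ₗ[F] Lam →ₗ[F] F) (l : Lam') :
    AddChar Lam ℂ :=
  ψ.compAddMonoidHom (P l).toAddMonoidHom

@[simp] theorem pairChar_apply (ψ : AddChar F ℂ) (P : Lam' →ₗ[F] Lam →ₗ[F] F) (l : Lam')
    (s : Lam) : pairChar ψ P l s = ψ (P l s) := rfl

theorem pairChar_zero (ψ : AddChar F ℂ) (P : Lam' →ₗ[F] Lam →ₗ[F] F) :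
    pairChar ψ P 0 = 0 := by
  ext s
  simp

theorem pairChar_add (ψ : AddChar F ℂ) (P : Lam' →ₗ[F] Lam →ₗ[F] F) (l l' : Lam') :
    pairChar ψ P (l + l') = pairChar ψ P l * pairChar ψ P l' := by
  ext s
  simp [AddChar.map_add_eq_mul]

theorem pairChar_neg_apply (ψ : AddChar F ℂ) (P : Lam' →ₗ[F] Lam →ₗ[F] F) (l : Lam') (s : Lam) :
    pairChar ψ P l (-s) = pairChar ψ P (-l) s := by
  simp

/-- a linear form whose values are all killed by `ψ ≠ 0` vanishes -/
theorem eq_zero_of_char_trivial (ψ : AddChar F ℂ) (hψ : ψ ≠ 0) (f : Lam →ₗ[F] F)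
    (h : ∀ s : Lam, ψ (f s) = 1) : ∀ s : Lam, f s = 0 := by
  by_contra hne
  push Not at hne
  obtain ⟨s₀, hs₀⟩ := hne
  apply hψ
  ext x
  have := h ((x / f s₀) • s₀)
  rw [map_smul, smul_eq_mul, div_mul_cancel₀ x hs₀] at this
  rw [this]
  rfl

theorem pairChar_injective (ψ : AddChar F ℂ) (hψ : ψ ≠ 0) (P : Lam' →ₗ[F] Lam →ₗ[F] F)
    (hP : ∀ l : Lam', (∀ s : Lam, P l s = 0) → l = 0) :
    Function.Injective (pairChar ψ P) := by
  intro l l' hll
  have h0 : ∀ s : Lam, ψ (P (l - l') s) = 1 := by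
    intro s
    have h1 := DFunLike.congr_fun hll s
    rw [pairChar_apply, pairChar_apply] at h1
    rw [map_sub, LinearMap.sub_apply, sub_eq_add_neg, AddChar.map_add_eq_mul, h1,
      ← AddChar.map_add_eq_mul, add_neg_cancel, AddChar.map_zero_eq_one]
  have h2 := hP (l - l') (eq_zero_of_char_trivial ψ hψ (P (l - l')) h0)
  exact sub_eq_zero.1 h2

theorem pairChar_bijective [Fintype Lam] [Fintype Lam'] (ψ : AddChar F ℂ) (hψ : ψ ≠ 0)
    (P : Lam' →ₗ[F] Lam →ₗ[F] F)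
    (hP : ∀ l : Lam', (∀ s : Lam, P l s = 0) → l = 0)
    (hcard : Fintype.card Lam' = Fintype.card Lam) :
    Function.Bijective (pairChar ψ P) := by
  rw [Fintype.bijective_iff_injective_and_card]
  exact ⟨pairChar_injective ψ hψ P hP, by rw [hcard, AddChar.card_eq]⟩

/-- the bijection as an equivalence -/
noncomputable def pairEquiv [Fintype Lam] [Fintype Lam'] (ψ : AddChar F ℂ) (hψ : ψ ≠ 0)
    (P : Lam' →ₗ[F] Lam →ₗ[F] F)
    (hP : ∀ l : Lam', (∀ s : Lam, P l s = 0) → l = 0)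
    (hcard : Fintype.card Lam' = Fintype.card Lam) : Lam' ≃ AddChar Lam ℂ :=
  Equiv.ofBijective _ (pairChar_bijective ψ hψ P hP hcard)

theorem pairEquiv_apply [Fintype Lam] [Fintype Lam'] (ψ : AddChar F ℂ) (hψ : ψ ≠ 0)
    (P : Lam' →ₗ[F] Lam →ₗ[F] F)
    (hP : ∀ l : Lam', (∀ s : Lam, P l s = 0) → l = 0)
    (hcard : Fintype.card Lam' = Fintype.card Lam) (l : Lam') :
    pairEquiv ψ hψ P hP hcard l = pairChar ψ P l := rfl

/-- `pairChar l = 0 ↔ l = 0` -/
theorem pairChar_eq_zero_iff (ψ : AddChar F ℂ) (hψ : ψ ≠ 0) (P : Lam' →ₗ[F] Lam →ₗ[F] F)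
    (hP : ∀ l : Lam', (∀ s : Lam, P l s = 0) → l = 0) (l : Lam') :
    pairChar ψ P l = 0 ↔ l = 0 := by
  constructor
  · intro h
    apply pairChar_injective ψ hψ P hP
    rw [h, pairChar_zero]
  · rintro rfl
    exact pairChar_zero ψ P

/-- the character `pairChar l` is trivial on the line `F e` iff `P l e = 0` -/
theorem pairChar_line_iff (ψ : AddChar F ℂ) (hψ : ψ ≠ 0) (P : Lam' →ₗ[F] Lam →ₗ[F] F) (l : Lam')
    (e : Lam) : (∀ t : F, pairChar ψ P l (t • e) = 1) ↔ P l e = 0 := by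
  constructor
  · intro h
    by_contra hne
    apply hψ
    ext x
    have := h (x / P l e)
    rw [pairChar_apply, map_smul, smul_eq_mul, div_mul_cancel₀ x hne] at this
    rw [this]
    rfl
  · intro h t
    rw [pairChar_apply, map_smul, h, smul_zero, AddChar.map_zero_eq_one]

/-- equivariance: if `⟨g' l, g s⟩ = ⟨l, s⟩` then `pairChar (g' l) = pairChar l ∘ g⁻¹` -/
theorem pairChar_equivariant (ψ : AddChar F ℂ) (P : Lam' →ₗ[F] Lam →ₗ[F] F)
    (g : Lam ≃ₗ[F] Lam) (g' : Lam' → Lam') (hg : ∀ l s, P (g' l) (g s) = P l s) (l : Lam') :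
    pairChar ψ P (g' l) =
      (pairChar ψ P l).compAddMonoidHom ((g.symm : Lam ≃ₗ[F] Lam) : Lam →ₗ[F] Lam).toAddMonoidHom := by
  ext s
  show ψ (P (g' l) s) = ψ (P l (g.symm s))
  rw [← hg l (g.symm s), LinearEquiv.apply_symm_apply]

end dual

end Cfsg.Agent.Lib.Helper2.E6M2DUAL
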