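import Mathlib
import Cfsg.Agent.Lib.Helper5.E6MDefs
import Cfsg.Agent.Lib.Helper3.E6M2DefsC
import Cfsg.Agent.Lib.Helper2.E6MCoord
import Cfsg.Agent.Lib.Helper2.E6M2Herm

set_option autoImplicit false
set_option linter.unusedSectionVars false
set_option linter.unusedVariables false
set_option linter.style.haveILetI false

/-!
Farm E6M2 (S2341), layer C2: the long coordinates of `pl (cellMat I A)` for the eight long `I` in
the chain order `012, 013, 024, 034, 125, 135, 245, 345` (generated from `E6MCoord.pl_cellMat`).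
-/

namespace Cfsg.Agent.Lib.Helper2.E6M2Ech

open Matrix Cfsg.Agent.Lib.Helper5.E6M Cfsg.Agent.Lib.Helper5.E6M.T3
  Cfsg.Agent.Lib.Helper3.E6M2C Cfsg.Agent.Lib.Helper2.E6MCell

/-- `{0,1,2}` -/
def L0 : T3 := mk' 0 1 2
/-- `{0,1,3}` -/
def L1 : T3 := mk' 0 1 3
/-- `{0,2,4}` -/
def L2 : T3 := mk' 0 2 4
/-- `{0,3,4}` -/
def L3 : T3 := mk' 0 3 4
/-- `{1,2,5}` -/
def L4 : T3 := mk' 1 2 5
/-- `{1,3,5}` -/
def L5 : T3 := mk' 1 3 5
/-- `{2,4,5}` -/
def L6 : T3 := mk' 2 4 5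
/-- `{3,4,5}` -/
def L7 : T3 := mk' 3 4 5

theorem long_all : IsLong L0 ∧ IsLong L1 ∧ IsLong L2 ∧ IsLong L3 ∧ IsLong L4 ∧ IsLong L5 ∧ IsLong L6 ∧
    IsLong L7 := by decide

theorem long_iff : ∀ I : T3, IsLong I ↔
    (I = L0 ∨ I = L1 ∨ I = L2 ∨ I = L3 ∨ I = L4 ∨ I = L5 ∨ I = L6 ∨ I = L7) := by decide

theorem d10 : desc L1 L0 = ![(true, 0), (true, 1), (false, 0)] := by decide
theorem d20 : desc L2 L0 = ![(true, 0), (false, 0), (true, 1)] := by decide
theorem d21 : desc L2 L1 = ![(true, 0), (false, 0), (false, 1)] := by decide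
theorem d30 : desc L3 L0 = ![(true, 0), (false, 0), (false, 1)] := by decide
theorem d31 : desc L3 L1 = ![(true, 0), (false, 0), (true, 1)] := by decide
theorem d32 : desc L3 L2 = ![(true, 0), (false, 1), (true, 2)] := by decide
theorem d40 : desc L4 L0 = ![(false, 0), (true, 0), (true, 1)] := by decide
theorem d41 : desc L4 L1 = ![(false, 0), (true, 0), (false, 1)] := by decide
theorem d42 : desc L4 L2 = ![(false, 0), (true, 1), (false, 2)] := by decide
theorem d43 : desc L4 L3 = ![(false, 0), (false, 1), (false, 2)] := by decide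
theorem d50 : desc L5 L0 = ![(false, 0), (true, 0), (false, 1)] := by decide
theorem d51 : desc L5 L1 = ![(false, 0), (true, 0), (true, 1)] := by decide
theorem d52 : desc L5 L2 = ![(false, 0), (false, 1), (false, 2)] := by decide
theorem d53 : desc L5 L3 = ![(false, 0), (true, 1), (false, 2)] := by decide
theorem d54 : desc L5 L4 = ![(true, 0), (false, 1), (true, 2)] := by decide
theorem d60 : desc L6 L0 = ![(false, 0), (false, 1), (true, 0)] := by decide
theorem d61 : desc L6 L1 = ![(false, 0), (false, 1), (false, 2)] := by decide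
theorem d62 : desc L6 L2 = ![(false, 0), (true, 0), (true, 1)] := by decide
theorem d63 : desc L6 L3 = ![(false, 0), (false, 2), (true, 1)] := by decide
theorem d64 : desc L6 L4 = ![(false, 1), (true, 0), (true, 2)] := by decide
theorem d65 : desc L6 L5 = ![(false, 1), (false, 2), (true, 2)] := by decide
theorem d70 : desc L7 L0 = ![(false, 0), (false, 1), (false, 2)] := by decide
theorem d71 : desc L7 L1 = ![(false, 0), (false, 1), (true, 0)] := by decide
theorem d72 : desc L7 L2 = ![(false, 0), (false, 2), (true, 1)] := by decide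
theorem d73 : desc L7 L3 = ![(false, 0), (true, 0), (true, 1)] := by decide
theorem d74 : desc L7 L4 = ![(false, 1), (false, 2), (true, 2)] := by decide
theorem d75 : desc L7 L5 = ![(false, 1), (true, 0), (true, 2)] := by decide
theorem d76 : desc L7 L6 = ![(false, 2), (true, 1), (true, 2)] := by decide

variable {F : Type*} [Field F]

section coords

variable (A : Matrix (Fin 3) (Fin 3) F)

theorem c10 : pl (cellMat L1 A) L0 = A 0 2 := by
  rw [pl_cellMat, d10]
  simp [det3', rowD]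
  try ring
theorem c20 : pl (cellMat L2 A) L0 = -A 0 2 := by
  rw [pl_cellMat, d20]
  simp [det3', rowD]
  try ring
theorem c21 : pl (cellMat L2 A) L1 = A 0 1 * A 1 2 - A 0 2 * A 1 1 := by
  rw [pl_cellMat, d21]
  simp [det3', rowD]
  try ring
theorem c30 : pl (cellMat L3 A) L0 = A 0 1 * A 1 2 - A 0 2 * A 1 1 := by
  rw [pl_cellMat, d30]
  simp [det3', rowD]
  try ring
theorem c31 : pl (cellMat L3 A) L1 = -A 0 2 := by
  rw [pl_cellMat, d31]
  simp [det3', rowD]
  try ring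
theorem c32 : pl (cellMat L3 A) L2 = A 1 1 := by
  rw [pl_cellMat, d32]
  simp [det3', rowD]
  try ring
theorem c40 : pl (cellMat L4 A) L0 = A 0 2 := by
  rw [pl_cellMat, d40]
  simp [det3', rowD]
  try ring
theorem c41 : pl (cellMat L4 A) L1 = -A 0 1 * A 1 2 + A 0 2 * A 1 1 := by
  rw [pl_cellMat, d41]
  simp [det3', rowD]
  try ring
theorem c42 : pl (cellMat L4 A) L2 = A 0 0 * A 2 2 - A 0 2 * A 2 0 := by
  rw [pl_cellMat, d42]
  simp [det3', rowD]
  try ring
theorem c43 : pl (cellMat L4 A) L3 = A 0 0 * A 1 1 * A 2 2 - A 0 0 * A 1 2 * A 2 1 - A 0 1 * A 1 0 * A 2 2 + A 0 1 * A 1 2 * A 2 0 + A 0 2 * A 1 0 * A 2 1 - A 0 2 * A 1 1 * A 2 0 := by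
  rw [pl_cellMat, d43]
  simp [det3', rowD]
  try ring
theorem c50 : pl (cellMat L5 A) L0 = -A 0 1 * A 1 2 + A 0 2 * A 1 1 := by
  rw [pl_cellMat, d50]
  simp [det3', rowD]
  try ring
theorem c51 : pl (cellMat L5 A) L1 = A 0 2 := by
  rw [pl_cellMat, d51]
  simp [det3', rowD]
  try ring
theorem c52 : pl (cellMat L5 A) L2 = A 0 0 * A 1 1 * A 2 2 - A 0 0 * A 1 2 * A 2 1 - A 0 1 * A 1 0 * A 2 2 + A 0 1 * A 1 2 * A 2 0 + A 0 2 * A 1 0 * A 2 1 - A 0 2 * A 1 1 * A 2 0 := by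
  rw [pl_cellMat, d52]
  simp [det3', rowD]
  try ring
theorem c53 : pl (cellMat L5 A) L3 = A 0 0 * A 2 2 - A 0 2 * A 2 0 := by
  rw [pl_cellMat, d53]
  simp [det3', rowD]
  try ring
theorem c54 : pl (cellMat L5 A) L4 = A 1 1 := by
  rw [pl_cellMat, d54]
  simp [det3', rowD]
  try ring
theorem c60 : pl (cellMat L6 A) L0 = A 0 1 * A 1 2 - A 0 2 * A 1 1 := by
  rw [pl_cellMat, d60]
  simp [det3', rowD]
  try ring
theorem c61 : pl (cellMat L6 A) L1 = A 0 0 * A 1 1 * A 2 2 - A 0 0 * A 1 2 * A 2 1 - A 0 1 * A 1 0 * A 2 2 + A 0 1 * A 1 2 * A 2 0 + A 0 2 * A 1 0 * A 2 1 - A 0 2 * A 1 1 * A 2 0 := by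
  rw [pl_cellMat, d61]
  simp [det3', rowD]
  try ring
theorem c62 : pl (cellMat L6 A) L2 = A 0 2 := by
  rw [pl_cellMat, d62]
  simp [det3', rowD]
  try ring
theorem c63 : pl (cellMat L6 A) L3 = -A 0 0 * A 2 2 + A 0 2 * A 2 0 := by
  rw [pl_cellMat, d63]
  simp [det3', rowD]
  try ring
theorem c64 : pl (cellMat L6 A) L4 = -A 1 1 := by
  rw [pl_cellMat, d64]
  simp [det3', rowD]
  try ring
theorem c65 : pl (cellMat L6 A) L5 = A 1 0 * A 2 1 - A 1 1 * A 2 0 := by
  rw [pl_cellMat, d65]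
  simp [det3', rowD]
  try ring
theorem c70 : pl (cellMat L7 A) L0 = A 0 0 * A 1 1 * A 2 2 - A 0 0 * A 1 2 * A 2 1 - A 0 1 * A 1 0 * A 2 2 + A 0 1 * A 1 2 * A 2 0 + A 0 2 * A 1 0 * A 2 1 - A 0 2 * A 1 1 * A 2 0 := by
  rw [pl_cellMat, d70]
  simp [det3', rowD]
  try ring
theorem c71 : pl (cellMat L7 A) L1 = A 0 1 * A 1 2 - A 0 2 * A 1 1 := by
  rw [pl_cellMat, d71]
  simp [det3', rowD]
  try ring
theorem c72 : pl (cellMat L7 A) L2 = -A 0 0 * A 2 2 + A 0 2 * A 2 0 := by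
  rw [pl_cellMat, d72]
  simp [det3', rowD]
  try ring
theorem c73 : pl (cellMat L7 A) L3 = A 0 2 := by
  rw [pl_cellMat, d73]
  simp [det3', rowD]
  try ring
theorem c74 : pl (cellMat L7 A) L4 = A 1 0 * A 2 1 - A 1 1 * A 2 0 := by
  rw [pl_cellMat, d74]
  simp [det3', rowD]
  try ring
theorem c75 : pl (cellMat L7 A) L5 = -A 1 1 := by
  rw [pl_cellMat, d75]
  simp [det3', rowD]
  try ring
theorem c76 : pl (cellMat L7 A) L6 = A 2 0 := by
  rw [pl_cellMat, d76]
  simp [det3', rowD]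
  try ring

end coords

end Cfsg.Agent.Lib.Helper2.E6M2Ech
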