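import Mathlib
import Cfsg.Agent.Lib.Helper2.E6M2Ech
import Cfsg.Agent.Lib.Helper2.E6M2Herm

set_option autoImplicit false
set_option linter.unusedSectionVars false
set_option linter.unusedVariables false
set_option linter.style.haveILetI false

/-!
Farm E6M2 (S2341), layer C2: the echelon conditions.  For a hermitian `A` (any admissible sign
table) the vanishing of the earlier long coordinates of `pl (cellMat L_n A)` amounts to the
vanishing of parameters of `A`.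
-/

namespace Cfsg.Agent.Lib.Helper2.E6M2Ech

open Matrix Cfsg.Agent.Lib.Helper5.E6M Cfsg.Agent.Lib.Helper5.E6M.T3
  Cfsg.Agent.Lib.Helper3.E6M2C Cfsg.Agent.Lib.Helper2.E6MCell Cfsg.Agent.Lib.Helper2.E6M2Herm

variable {K : Type*} [Field K] (q : ℕ) (hq0 : q ≠ 0) (η : Fin 3 → Fin 3 → ℤ) (hη : EtaOK η)

include hη in
theorem eta_ne (j k : Fin 3) : ((η j k : ℤ) : K) ≠ 0 := by
  rcases hη.sq j k with h | h <;> rw [h] <;> simp

include hq0 hη in
/-- `x * (η x^q) = 0 → x = 0` -/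
theorem norm_zero (j k : Fin 3) (x : K) (h : x * (((η j k : ℤ) : K) * x ^ q) = 0) : x = 0 := by
  rcases mul_eq_zero.1 h with h | h
  · exact h
  · rcases mul_eq_zero.1 h with h | h
    · exact absurd h (eta_ne η hη j k)
    · exact pow_eq_zero_iff hq0 |>.1 h

variable (A : Matrix (Fin 3) (Fin 3) K) (hA : Herm q η A)

include hA in
theorem h12 : A 1 2 = ((η 0 1 : ℤ) : K) * A 0 1 ^ q := hA 0 1
include hA in
theorem h21 : A 2 1 = ((η 1 0 : ℤ) : K) * A 1 0 ^ q := hA 1 0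
include hA in
theorem h22 : A 2 2 = ((η 0 0 : ℤ) : K) * A 0 0 ^ q := hA 0 0

theorem rep0 : reppos 0 = (0, 0) := rfl
theorem rep1 : reppos 1 = (0, 1) := rfl
theorem rep2 : reppos 2 = (1, 0) := rfl
theorem rev0 : Fin.rev (0 : Fin 3) = 2 := rfl
theorem rev1 : Fin.rev (1 : Fin 3) = 1 := rfl
theorem rev2 : Fin.rev (2 : Fin 3) = 0 := rfl

/-! the eight steps -/

theorem hZ0 :
    (∀ J ∈ (∅ : Finset T3), pl (cellMat L0 A) J = 0) ↔
      ((∀ i ∈ (∅ : Finset (Fin 3)), A i (Fin.rev i) = 0) ∧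
        ∀ i ∈ (∅ : Finset (Fin 3)), A (reppos i).1 (reppos i).2 = 0) := by
  simp

theorem hZ1 :
    (∀ J ∈ ({L0} : Finset T3), pl (cellMat L1 A) J = 0) ↔
      ((∀ i ∈ ({0} : Finset (Fin 3)), A i (Fin.rev i) = 0) ∧
        ∀ i ∈ (∅ : Finset (Fin 3)), A (reppos i).1 (reppos i).2 = 0) := by
  simp only [Finset.mem_singleton, forall_eq, c10, rev0, Finset.notMem_empty, false_imp_iff,
    implies_true, and_true]

include hq0 hη hA in
theorem hZ2 :
    (∀ J ∈ ({L0, L1} : Finset T3), pl (cellMat L2 A) J = 0) ↔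
      ((∀ i ∈ ({0} : Finset (Fin 3)), A i (Fin.rev i) = 0) ∧
        ∀ i ∈ ({1} : Finset (Fin 3)), A (reppos i).1 (reppos i).2 = 0) := by
  simp only [Finset.mem_insert, Finset.mem_singleton, forall_eq_or_imp, forall_eq, c20, c21, rev0,
    rep1, neg_eq_zero]
  constructor
  · rintro ⟨h1, h2⟩
    refine ⟨h1, ?_⟩
    rw [h1, zero_mul, sub_zero, h12 q η A hA] at h2
    exact norm_zero q hq0 η hη 0 1 _ h2
  · rintro ⟨h1, h2⟩
    refine ⟨h1, ?_⟩
    rw [h1, h2]; ring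

include hq0 hη hA in
theorem hZ3 :
    (∀ J ∈ ({L0, L1, L2} : Finset T3), pl (cellMat L3 A) J = 0) ↔
      ((∀ i ∈ ({0, 1} : Finset (Fin 3)), A i (Fin.rev i) = 0) ∧
        ∀ i ∈ ({1} : Finset (Fin 3)), A (reppos i).1 (reppos i).2 = 0) := by
  simp only [Finset.mem_insert, Finset.mem_singleton, forall_eq_or_imp, forall_eq, c30, c31, c32,
    rev0, rev1, rep1, neg_eq_zero]
  constructor
  · rintro ⟨h0, h1, h2⟩
    refine ⟨⟨h1, h2⟩, ?_⟩
    rw [h1, zero_mul, sub_zero, h12 q η A hA] at h0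
    exact norm_zero q hq0 η hη 0 1 _ h0
  · rintro ⟨⟨h1, h2⟩, h3⟩
    refine ⟨?_, h1, h2⟩
    rw [h1, h3]; ring

include hq0 hη hA in
theorem hZ4 :
    (∀ J ∈ ({L0, L1, L2, L3} : Finset T3), pl (cellMat L4 A) J = 0) ↔
      ((∀ i ∈ ({0} : Finset (Fin 3)), A i (Fin.rev i) = 0) ∧
        ∀ i ∈ ({0, 1} : Finset (Fin 3)), A (reppos i).1 (reppos i).2 = 0) := by
  simp only [Finset.mem_insert, Finset.mem_singleton, forall_eq_or_imp, forall_eq, c40, c41, c42,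
    c43, rev0, rep0, rep1]
  constructor
  · rintro ⟨h0, h1, h2, _⟩
    have e1 : A 0 1 = 0 := by
      rw [h0, zero_mul, add_zero, neg_mul, neg_eq_zero, h12 q η A hA] at h1
      exact norm_zero q hq0 η hη 0 1 _ h1
    have e0 : A 0 0 = 0 := by
      rw [h0, zero_mul, sub_zero, h22 q η A hA] at h2
      exact norm_zero q hq0 η hη 0 0 _ h2
    exact ⟨h0, e0, e1⟩
  · rintro ⟨h0, e0, e1⟩
    refine ⟨h0, ?_, ?_, ?_⟩
    · rw [h0, e1]; ring
    · rw [h0, e0]; ring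
    · rw [h0, e0, e1]; ring

include hq0 hη hA in
theorem hZ5 :
    (∀ J ∈ ({L0, L1, L2, L3, L4} : Finset T3), pl (cellMat L5 A) J = 0) ↔
      ((∀ i ∈ ({0, 1} : Finset (Fin 3)), A i (Fin.rev i) = 0) ∧
        ∀ i ∈ ({0, 1} : Finset (Fin 3)), A (reppos i).1 (reppos i).2 = 0) := by
  simp only [Finset.mem_insert, Finset.mem_singleton, forall_eq_or_imp, forall_eq, c50, c51, c52,
    c53, c54, rev0, rev1, rep0, rep1]
  constructor
  · rintro ⟨h0, h1, _, h3, h4⟩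
    have e1 : A 0 1 = 0 := by
      rw [h1, zero_mul, add_zero, neg_mul, neg_eq_zero, h12 q η A hA] at h0
      exact norm_zero q hq0 η hη 0 1 _ h0
    have e0 : A 0 0 = 0 := by
      rw [h1, zero_mul, sub_zero, h22 q η A hA] at h3
      exact norm_zero q hq0 η hη 0 0 _ h3
    exact ⟨⟨h1, h4⟩, e0, e1⟩
  · rintro ⟨⟨h1, h4⟩, e0, e1⟩
    refine ⟨?_, h1, ?_, ?_, h4⟩
    · rw [h1, e1]; ring
    · rw [h1, e0, e1]; ring
    · rw [h1, e0]; ring

include hq0 hη hA in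
theorem hZ6 :
    (∀ J ∈ ({L0, L1, L2, L3, L4, L5} : Finset T3), pl (cellMat L6 A) J = 0) ↔
      ((∀ i ∈ ({0, 1} : Finset (Fin 3)), A i (Fin.rev i) = 0) ∧
        ∀ i ∈ ({0, 1, 2} : Finset (Fin 3)), A (reppos i).1 (reppos i).2 = 0) := by
  simp only [Finset.mem_insert, Finset.mem_singleton, forall_eq_or_imp, forall_eq, c60, c61, c62,
    c63, c64, c65, rev0, rev1, rep0, rep1, rep2, neg_eq_zero]
  constructor
  · rintro ⟨h0, _, h2, h3, h4, h5⟩
    have e1 : A 0 1 = 0 := by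
      rw [h2, zero_mul, sub_zero, h12 q η A hA] at h0
      exact norm_zero q hq0 η hη 0 1 _ h0
    have e0 : A 0 0 = 0 := by
      rw [h2, zero_mul, add_zero, neg_mul, neg_eq_zero, h22 q η A hA] at h3
      exact norm_zero q hq0 η hη 0 0 _ h3
    have e2 : A 1 0 = 0 := by
      rw [h4, zero_mul, sub_zero, h21 q η A hA] at h5
      exact norm_zero q hq0 η hη 1 0 _ h5
    exact ⟨⟨h2, h4⟩, e0, e1, e2⟩
  · rintro ⟨⟨h2, h4⟩, e0, e1, e2⟩
    refine ⟨?_, ?_, h2, ?_, h4, ?_⟩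
    · rw [h2, e1]; ring
    · rw [h2, e0, e1]; ring
    · rw [h2, e0]; ring
    · rw [h4, e2]; ring

include hq0 hη hA in
theorem hZ7 :
    (∀ J ∈ ({L0, L1, L2, L3, L4, L5, L6} : Finset T3), pl (cellMat L7 A) J = 0) ↔
      ((∀ i ∈ ({0, 1, 2} : Finset (Fin 3)), A i (Fin.rev i) = 0) ∧
        ∀ i ∈ ({0, 1, 2} : Finset (Fin 3)), A (reppos i).1 (reppos i).2 = 0) := by
  simp only [Finset.mem_insert, Finset.mem_singleton, forall_eq_or_imp, forall_eq, c70, c71, c72,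
    c73, c74, c75, c76, rev0, rev1, rev2, rep0, rep1, rep2, neg_eq_zero]
  constructor
  · rintro ⟨_, h1, h2, h3, h4, h5, h6⟩
    have e1 : A 0 1 = 0 := by
      rw [h3, zero_mul, sub_zero, h12 q η A hA] at h1
      exact norm_zero q hq0 η hη 0 1 _ h1
    have e0 : A 0 0 = 0 := by
      rw [h3, zero_mul, add_zero, neg_mul, neg_eq_zero, h22 q η A hA] at h2
      exact norm_zero q hq0 η hη 0 0 _ h2
    have e2 : A 1 0 = 0 := by
      rw [h5, zero_mul, sub_zero, h21 q η A hA] at h4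
      exact norm_zero q hq0 η hη 1 0 _ h4
    exact ⟨⟨h3, h5, h6⟩, e0, e1, e2⟩
  · rintro ⟨⟨h3, h5, h6⟩, e0, e1, e2⟩
    refine ⟨?_, ?_, ?_, h3, ?_, h5, h6⟩
    · rw [h3, e0, e1]; ring
    · rw [h3, e1]; ring
    · rw [h3, e0]; ring
    · rw [h5, e2]; ring

end Cfsg.Agent.Lib.Helper2.E6M2Ech
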