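import Mathlib
import Cfsg.Agent.Lib.Helper2.E6M2Chain
import Cfsg.Agent.Lib.Helper2.E6M2EchZ
import Cfsg.Agent.Lib.Helper6.E6MCELLS
import Cfsg.Agent.Lib.Helper3.E6M2LONGPIV

set_option autoImplicit false
set_option linter.unusedSectionVars false
set_option linter.unusedVariables false
set_option linter.style.haveILetI false

/-!
Farm E6M2 (S2341), layer C2: units CELLS2 and NMOV2 in `_of` form: the hypothesis `hP` is the
hermitian parametrisation of `Cell I ∩ Λ_τ` for the eight long `I` (unit CELLCARD2 / `herm_iff`,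
helper6), with any admissible sign tables.
-/

namespace Cfsg.Agent.Lib.Helper2.E6M2NMOV

open Matrix Cfsg.Agent.Lib.Helper5.E6M.T3
  Cfsg.Agent.Lib.Helper3.E6M2C Cfsg.Agent.Lib.Helper2.E6MCell Cfsg.Agent.Lib.Helper2.E6M2Herm
  Cfsg.Agent.Lib.Helper2.E6M2Chain Cfsg.Agent.Lib.Helper2.E6M2Ech

open Cfsg.Agent.Lib.Helper5.E6M hiding L0 L1

/-- splitting off the first alternative -/
theorem split1 {X : Type*} [Fintype X] (f : X → ℕ) (P a r : X → Prop) [DecidablePred P]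
    [DecidablePred a] [DecidablePred r] :
    ∑ x ∈ Finset.univ.filter (fun x => P x ∧ (a x ∨ r x)), f x =
      ∑ x ∈ Finset.univ.filter (fun x => P x ∧ a x), f x +
        ∑ x ∈ Finset.univ.filter (fun x => (P x ∧ ¬ a x) ∧ r x), f x := by
  classical
  rw [← Finset.sum_union]
  · apply Finset.sum_congr _ (fun _ _ => rfl)
    ext x
    simp only [Finset.mem_filter, Finset.mem_univ, true_and, Finset.mem_union]
    tauto
  · rw [Finset.disjoint_left]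
    intro x h1 h2
    simp only [Finset.mem_filter, Finset.mem_univ, true_and] at h1 h2
    exact h2.1.2 h1.2

variable {K : Type*} [Field K] [Fintype K] [DecidableEq K] (q : ℕ) (hq : IsPrimePow q)
  (hK : Fintype.card K = q ^ 2)

theorem long_zero_mem : ∀ I : T3, IsLong I → (0 : Fin 6) ∈ I.1 →
    (I = L0 ∨ I = L1 ∨ I = L2 ∨ I = L3) := by decide

theorem first_four_moved : ((0 : Fin 6) ∈ L0.1 ∧ (5 : Fin 6) ∉ L0.1) ∧
    ((0 : Fin 6) ∈ L1.1 ∧ (5 : Fin 6) ∉ L1.1) ∧ ((0 : Fin 6) ∈ L2.1 ∧ (5 : Fin 6) ∉ L2.1) ∧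
    ((0 : Fin 6) ∈ L3.1 ∧ (5 : Fin 6) ∉ L3.1) := by decide

theorem rev_zero_not_mem : ∀ I : T3, (5 : Fin 6) ∉ I.1 → Fin.rev (0 : Fin 6) ∉ I.1 := by
  intro I h
  exact h

section chain

variable (c : (T3 → K) → ℕ)
  (hc : ∀ (I : T3), IsLong I → ∀ l : T3 → K, InLam q l → l I ≠ 0 →
    (l ∈ Cell I → c l = 1) ∧ (l ∉ Cell I → c l = 0))
  (ηs : T3 → Fin 3 → Fin 3 → ℤ) (hηs : ∀ I, IsLong I → EtaOK (ηs I))
  (hP : ∀ I, IsLong I → Param (K := K) q (ηs I) I)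

include hq hK hc hηs hP

theorem s0 : ∑ l ∈ Finset.univ.filter (fun l : T3 → K => InLam q l ∧ l L0 ≠ 0), c l =
    (q - 1) * q ^ 9 := by
  have hq0 : q ≠ 0 := by have := hq.two_le; omega
  have h := sum_first2 q hq hK c hc (ηs L0) (hηs L0 long_all.1) L0 long_all.1 (hP L0 long_all.1)
    ∅ ∅ ∅ (fun A _ => hZ0 A)
  simp only [Finset.notMem_empty, false_imp_iff, implies_true, and_true, Finset.card_empty,
    Nat.sub_zero] at h
  rw [h]
  ring

theorem s1 : ∑ l ∈ Finset.univ.filter (fun l : T3 → K => (InLam q l ∧ ¬ l L0 ≠ 0) ∧ l L1 ≠ 0),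
    c l = (q - 1) * q ^ 8 := by
  have hq0 : q ≠ 0 := by have := hq.two_le; omega
  have h := sum_first2 q hq hK c hc (ηs L1) (hηs L1 long_all.2.1) L1 long_all.2.1
    (hP L1 long_all.2.1) {L0} {0} ∅ (fun A _ => hZ1 A)
  rw [show (3 - ({0} : Finset (Fin 3)).card) = 2 from rfl,
    show (3 - (∅ : Finset (Fin 3)).card) = 3 from rfl] at h
  rw [show (q - 1) * q ^ 8 = (q - 1) * (q ^ 2 * (q ^ 2) ^ 3) by ring, ← h]
  apply Finset.sum_congr _ (fun _ _ => rfl)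
  ext l
  simp only [Finset.mem_filter, Finset.mem_univ, true_and, Finset.mem_singleton, forall_eq,
    not_not]
  tauto

theorem s2 : ∑ l ∈ Finset.univ.filter
    (fun l : T3 → K => ((InLam q l ∧ ¬ l L0 ≠ 0) ∧ ¬ l L1 ≠ 0) ∧ l L2 ≠ 0), c l =
    (q - 1) * q ^ 6 := by
  have hq0 : q ≠ 0 := by have := hq.two_le; omega
  have h := sum_first2 q hq hK c hc (ηs L2) (hηs L2 long_all.2.2.1) L2 long_all.2.2.1
    (hP L2 long_all.2.2.1) {L0, L1} {0} {1}
    (fun A hA => hZ2 q hq0 (ηs L2) (hηs L2 long_all.2.2.1) A hA)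
  rw [show (3 - ({0} : Finset (Fin 3)).card) = 2 from rfl,
    show (3 - ({1} : Finset (Fin 3)).card) = 2 from rfl] at h
  rw [show (q - 1) * q ^ 6 = (q - 1) * (q ^ 2 * (q ^ 2) ^ 2) by ring, ← h]
  apply Finset.sum_congr _ (fun _ _ => rfl)
  ext l
  simp only [Finset.mem_filter, Finset.mem_univ, true_and, Finset.mem_insert,
    Finset.mem_singleton, forall_eq_or_imp, forall_eq, not_not]
  tauto

theorem s3 : ∑ l ∈ Finset.univ.filter
    (fun l : T3 → K => (((InLam q l ∧ ¬ l L0 ≠ 0) ∧ ¬ l L1 ≠ 0) ∧ ¬ l L2 ≠ 0) ∧ l L3 ≠ 0), c l =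
    (q - 1) * q ^ 5 := by
  have hq0 : q ≠ 0 := by have := hq.two_le; omega
  have h := sum_first2 q hq hK c hc (ηs L3) (hηs L3 long_all.2.2.2.1) L3 long_all.2.2.2.1
    (hP L3 long_all.2.2.2.1) {L0, L1, L2} {0, 1} {1}
    (fun A hA => hZ3 q hq0 (ηs L3) (hηs L3 long_all.2.2.2.1) A hA)
  rw [show (3 - ({0, 1} : Finset (Fin 3)).card) = 1 from rfl,
    show (3 - ({1} : Finset (Fin 3)).card) = 2 from rfl] at h
  rw [show (q - 1) * q ^ 5 = (q - 1) * (q ^ 1 * (q ^ 2) ^ 2) by ring, ← h]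
  apply Finset.sum_congr _ (fun _ _ => rfl)
  ext l
  simp only [Finset.mem_filter, Finset.mem_univ, true_and, Finset.mem_insert,
    Finset.mem_singleton, forall_eq_or_imp, forall_eq, not_not]
  tauto

theorem s4 : ∑ l ∈ Finset.univ.filter
    (fun l : T3 → K => ((((InLam q l ∧ ¬ l L0 ≠ 0) ∧ ¬ l L1 ≠ 0) ∧ ¬ l L2 ≠ 0) ∧ ¬ l L3 ≠ 0) ∧
      l L4 ≠ 0), c l = (q - 1) * q ^ 4 := by
  have hq0 : q ≠ 0 := by have := hq.two_le; omega
  have h := sum_first2 q hq hK c hc (ηs L4) (hηs L4 long_all.2.2.2.2.1) L4 long_all.2.2.2.2.1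
    (hP L4 long_all.2.2.2.2.1) {L0, L1, L2, L3} {0} {0, 1}
    (fun A hA => hZ4 q hq0 (ηs L4) (hηs L4 long_all.2.2.2.2.1) A hA)
  rw [show (3 - ({0} : Finset (Fin 3)).card) = 2 from rfl,
    show (3 - ({0, 1} : Finset (Fin 3)).card) = 1 from rfl] at h
  rw [show (q - 1) * q ^ 4 = (q - 1) * (q ^ 2 * (q ^ 2) ^ 1) by ring, ← h]
  apply Finset.sum_congr _ (fun _ _ => rfl)
  ext l
  simp only [Finset.mem_filter, Finset.mem_univ, true_and, Finset.mem_insert,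
    Finset.mem_singleton, forall_eq_or_imp, forall_eq, not_not]
  tauto

theorem s5 : ∑ l ∈ Finset.univ.filter
    (fun l : T3 → K => (((((InLam q l ∧ ¬ l L0 ≠ 0) ∧ ¬ l L1 ≠ 0) ∧ ¬ l L2 ≠ 0) ∧ ¬ l L3 ≠ 0) ∧
      ¬ l L4 ≠ 0) ∧ l L5 ≠ 0), c l = (q - 1) * q ^ 3 := by
  have hq0 : q ≠ 0 := by have := hq.two_le; omega
  have h := sum_first2 q hq hK c hc (ηs L5) (hηs L5 long_all.2.2.2.2.2.1) L5
    long_all.2.2.2.2.2.1 (hP L5 long_all.2.2.2.2.2.1) {L0, L1, L2, L3, L4} {0, 1} {0, 1}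
    (fun A hA => hZ5 q hq0 (ηs L5) (hηs L5 long_all.2.2.2.2.2.1) A hA)
  rw [show (3 - ({0, 1} : Finset (Fin 3)).card) = 1 from rfl] at h
  rw [show (q - 1) * q ^ 3 = (q - 1) * (q ^ 1 * (q ^ 2) ^ 1) by ring, ← h]
  apply Finset.sum_congr _ (fun _ _ => rfl)
  ext l
  simp only [Finset.mem_filter, Finset.mem_univ, true_and, Finset.mem_insert,
    Finset.mem_singleton, forall_eq_or_imp, forall_eq, not_not]
  tauto

theorem s6 : ∑ l ∈ Finset.univ.filter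
    (fun l : T3 → K => ((((((InLam q l ∧ ¬ l L0 ≠ 0) ∧ ¬ l L1 ≠ 0) ∧ ¬ l L2 ≠ 0) ∧ ¬ l L3 ≠ 0) ∧
      ¬ l L4 ≠ 0) ∧ ¬ l L5 ≠ 0) ∧ l L6 ≠ 0), c l = (q - 1) * q := by
  have hq0 : q ≠ 0 := by have := hq.two_le; omega
  have h := sum_first2 q hq hK c hc (ηs L6) (hηs L6 long_all.2.2.2.2.2.2.1) L6
    long_all.2.2.2.2.2.2.1 (hP L6 long_all.2.2.2.2.2.2.1) {L0, L1, L2, L3, L4, L5} {0, 1}
    {0, 1, 2} (fun A hA => hZ6 q hq0 (ηs L6) (hηs L6 long_all.2.2.2.2.2.2.1) A hA)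
  rw [show (3 - ({0, 1} : Finset (Fin 3)).card) = 1 from rfl,
    show (3 - ({0, 1, 2} : Finset (Fin 3)).card) = 0 from rfl] at h
  rw [show (q - 1) * q = (q - 1) * (q ^ 1 * (q ^ 2) ^ 0) by ring, ← h]
  apply Finset.sum_congr _ (fun _ _ => rfl)
  ext l
  simp only [Finset.mem_filter, Finset.mem_univ, true_and, Finset.mem_insert,
    Finset.mem_singleton, forall_eq_or_imp, forall_eq, not_not]
  tauto

theorem s7 : ∑ l ∈ Finset.univ.filter
    (fun l : T3 → K => (((((((InLam q l ∧ ¬ l L0 ≠ 0) ∧ ¬ l L1 ≠ 0) ∧ ¬ l L2 ≠ 0) ∧ ¬ l L3 ≠ 0) ∧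
      ¬ l L4 ≠ 0) ∧ ¬ l L5 ≠ 0) ∧ ¬ l L6 ≠ 0) ∧ l L7 ≠ 0), c l = (q - 1) * 1 := by
  have hq0 : q ≠ 0 := by have := hq.two_le; omega
  have h := sum_first2 q hq hK c hc (ηs L7) (hηs L7 long_all.2.2.2.2.2.2.2) L7
    long_all.2.2.2.2.2.2.2 (hP L7 long_all.2.2.2.2.2.2.2) {L0, L1, L2, L3, L4, L5, L6} {0, 1, 2}
    {0, 1, 2} (fun A hA => hZ7 q hq0 (ηs L7) (hηs L7 long_all.2.2.2.2.2.2.2) A hA)
  rw [show (3 - ({0, 1, 2} : Finset (Fin 3)).card) = 0 from rfl] at h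
  rw [show (q - 1) * 1 = (q - 1) * (q ^ 0 * (q ^ 2) ^ 0) by ring, ← h]
  apply Finset.sum_congr _ (fun _ _ => rfl)
  ext l
  simp only [Finset.mem_filter, Finset.mem_univ, true_and, Finset.mem_insert,
    Finset.mem_singleton, forall_eq_or_imp, forall_eq, not_not]
  tauto


/-- unit CELLS2 with the parametrisation as hypothesis -/
theorem cells2_of :
    (q ^ 2 - 1) * (q ^ 3 + 1) * (q ^ 5 + 1) ≤
      ∑ l ∈ Finset.univ.filter (fun l : T3 → K => InLam q l ∧ l ≠ 0), c l := by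
  classical
  have hsub : ∑ l ∈ Finset.univ.filter (fun l : T3 → K => InLam q l ∧
      (l L0 ≠ 0 ∨ (l L1 ≠ 0 ∨ (l L2 ≠ 0 ∨ (l L3 ≠ 0 ∨ (l L4 ≠ 0 ∨ (l L5 ≠ 0 ∨
        (l L6 ≠ 0 ∨ l L7 ≠ 0)))))))), c l ≤
      ∑ l ∈ Finset.univ.filter (fun l : T3 → K => InLam q l ∧ l ≠ 0), c l := by
    apply Finset.sum_le_sum_of_subset
    intro l hl
    simp only [Finset.mem_filter, Finset.mem_univ, true_and] at hl ⊢
    refine ⟨hl.1, ?_⟩
    rintro rfl
    simp at hl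
  refine le_trans ?_ hsub
  rw [split1, split1, split1, split1, split1, split1, split1,
    s0 q hq hK c hc ηs hηs hP, s1 q hq hK c hc ηs hηs hP, s2 q hq hK c hc ηs hηs hP,
    s3 q hq hK c hc ηs hηs hP, s4 q hq hK c hc ηs hηs hP, s5 q hq hK c hc ηs hηs hP,
    s6 q hq hK c hc ηs hηs hP, s7 q hq hK c hc ηs hηs hP]
  have h2 := hq.two_le
  obtain ⟨r, rfl⟩ : ∃ r, q = r + 1 := ⟨q - 1, by omega⟩
  have e1 : (r + 1) ^ 2 - 1 = r * (r + 2) := by
    have : (r + 1) ^ 2 = r * (r + 2) + 1 := by ring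
    rw [this, Nat.add_sub_cancel]
  rw [e1, Nat.add_sub_cancel]
  apply le_of_eq
  ring

/-- unit NMOV2 with the parametrisation as hypothesis -/
theorem nmov2_of
    (hfull : ∀ l : T3 → K, InLam q l → l ≠ 0 → c l = 0 ∨
      (c l = 1 ∧ ∃ I : T3, IsLong I ∧ l I ≠ 0 ∧ l ∈ Cell I)) :
    ∑ l ∈ Finset.univ.filter (fun l : T3 → K => InLam q l ∧ moved2 l), c l =
      (q ^ 2 - 1) * (q ^ 3 + 1) * q ^ 5 := by
  classical
  have hA : ∑ l ∈ Finset.univ.filter (fun l : T3 → K => InLam q l ∧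
      (l L0 ≠ 0 ∨ (l L1 ≠ 0 ∨ (l L2 ≠ 0 ∨ l L3 ≠ 0)))), c l =
      ∑ l ∈ Finset.univ.filter (fun l : T3 → K => InLam q l ∧ moved2 l), c l := by
    refine Finset.sum_subset ?_ ?_
    · intro l hl
      simp only [Finset.mem_filter, Finset.mem_univ, true_and] at hl ⊢
      refine ⟨hl.1, ?_⟩
      obtain ⟨m0, m1, m2, m3⟩ := first_four_moved
      rcases hl.2 with h | h | h | h
      · exact ⟨L0, m0.1, m0.2, h⟩
      · exact ⟨L1, m1.1, m1.2, h⟩
      · exact ⟨L2, m2.1, m2.2, h⟩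
      · exact ⟨L3, m3.1, m3.2, h⟩
    · intro l hl hnot
      simp only [Finset.mem_filter, Finset.mem_univ, true_and] at hl hnot
      obtain ⟨hlam, I, hI0, hI5, hlI⟩ := hl
      have hl0 : l ≠ 0 := by
        rintro rfl
        exact hlI rfl
      rcases hfull l hlam hl0 with h | ⟨_, I', hI', hlI', hcell⟩
      · exact h
      · exfalso
        apply hnot
        refine ⟨hlam, ?_⟩
        -- a long coordinate containing `0` is non-zero
        have key : ∃ I'' : T3, IsLong I'' ∧ (0 : Fin 6) ∈ I''.1 ∧ l I'' ≠ 0 := by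
          by_cases hIl : IsLong I
          · exact ⟨I, hIl, hI0, hlI⟩
          · -- `l ∈ Cell I`
            obtain ⟨c0, A, hc0, rfl⟩ := hcell
            have hpl : pl (cellMat I' A) I ≠ 0 := by
              intro h0
              apply hlI
              rw [Pi.smul_apply, h0, smul_zero]
            obtain ⟨c1, A1, hc1, h1⟩ :=
              Cfsg.Agent.Lib.Helper6.E6MCELLS.mem_cell_of_pl (cellMat I' A) I hpl
            have hmem : c0 • pl (cellMat I' A) ∈ Cell I :=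
              ⟨c0 * c1, A1, mul_ne_zero hc0 hc1, by rw [h1, smul_smul]⟩
            obtain ⟨I'', hl'', hne'', hall⟩ :=
              Cfsg.Agent.Lib.Helper3.E6M2LONGPIV.longpiv q hq hK I hIl _ hmem hlam
            exact ⟨I'', hl'', hall 0 hI0 (rev_zero_not_mem I hI5), hne''⟩
        obtain ⟨I'', hl'', h0'', hne''⟩ := key
        rcases long_zero_mem I'' hl'' h0'' with rfl | rfl | rfl | rfl
        · exact Or.inl hne''
        · exact Or.inr (Or.inl hne'')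
        · exact Or.inr (Or.inr (Or.inl hne''))
        · exact Or.inr (Or.inr (Or.inr hne''))
  rw [← hA, split1, split1, split1,
    s0 q hq hK c hc ηs hηs hP, s1 q hq hK c hc ηs hηs hP, s2 q hq hK c hc ηs hηs hP,
    s3 q hq hK c hc ηs hηs hP]
  have h2 := hq.two_le
  obtain ⟨r, rfl⟩ : ∃ r, q = r + 1 := ⟨q - 1, by omega⟩
  have e1 : (r + 1) ^ 2 - 1 = r * (r + 2) := by
    have : (r + 1) ^ 2 = r * (r + 2) + 1 := by ring
    rw [this, Nat.add_sub_cancel]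
  rw [e1, Nat.add_sub_cancel]
  ring

end chain

end Cfsg.Agent.Lib.Helper2.E6M2NMOV
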