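import Mathlib
import Cfsg.Agent.Lib.Helper5.E6MDefs
import Cfsg.Agent.Lib.Helper3.E6M2DefsC
import Cfsg.Agent.Lib.Helper2.E6MCell
import Cfsg.Agent.Lib.Helper2.E6M2Herm
import Cfsg.Agent.Lib.Helper2.E6M2Chain
import Cfsg.Agent.Lib.Helper6.E6M2Frob

set_option autoImplicit false
set_option linter.unusedSectionVars false
set_option linter.unusedVariables false
set_option linter.style.haveILetI false

/-!
Farm E6M2 (S2341), layer C2: the hermitian parametrisation `Param q η I` of `Cell I ∩ Λ_τ` for a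
long `I`, from a table of the nine neighbour coordinates (`nb j k`, signs `sg j k`) and the
closure statement `hin` (helper6's `inLam_of_cell`): the generic step.
-/

namespace Cfsg.Agent.Lib.Helper2.E6M2Param

open Matrix Cfsg.Agent.Lib.Helper5.E6M Cfsg.Agent.Lib.Helper5.E6M.T3
  Cfsg.Agent.Lib.Helper3.E6M2C Cfsg.Agent.Lib.Helper2.E6M2Herm Cfsg.Agent.Lib.Helper2.E6M2Chain

/-- the sign table attached to a neighbour table -/
def etaOf (nb : Fin 3 → Fin 3 → T3) (sg : Fin 3 → Fin 3 → ℤ) (j k : Fin 3) : ℤ :=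
  epsI (nb j k) * sg j k * sg (Fin.rev k) (Fin.rev j)

theorem epsI_tauI : ∀ N : T3, epsI (tauI N) = epsI N := by decide

theorem epsI_long : ∀ N : T3, IsLong N → epsI N = 1 := by decide

theorem epsI_sq : ∀ N : T3, epsI N = 1 ∨ epsI N = -1 := by decide

theorem etaOK_of (nb : Fin 3 → Fin 3 → T3) (sg : Fin 3 → Fin 3 → ℤ)
    (hsg : ∀ j k, sg j k = 1 ∨ sg j k = -1)
    (htau : ∀ j k, tauI (nb j k) = nb (Fin.rev k) (Fin.rev j)) : EtaOK (etaOf nb sg) := by
  refine ⟨?_, ?_, ?_⟩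
  · intro j k
    unfold etaOf
    rcases epsI_sq (nb j k) with h1 | h1 <;> rcases hsg j k with h2 | h2 <;>
      rcases hsg (Fin.rev k) (Fin.rev j) with h3 | h3 <;> rw [h1, h2, h3] <;> simp
  · intro j k
    unfold etaOf
    rw [← htau j k, epsI_tauI, Fin.rev_rev, Fin.rev_rev]
    ring
  · intro j
    unfold etaOf
    have hl : IsLong (nb j (Fin.rev j)) := by
      unfold IsLong
      rw [htau, Fin.rev_rev]
    rw [epsI_long _ hl, Fin.rev_rev]
    rcases hsg j (Fin.rev j) with h | h <;> rw [h] <;> simp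

variable {K : Type*} [Field K] [Fintype K] (q : ℕ) (hq : IsPrimePow q)
  (hK : Fintype.card K = q ^ 2)

theorem sgn_cast_mul_self (s : ℤ) (hs : s = 1 ∨ s = -1) : ((s : ℤ) : K) * ((s : ℤ) : K) = 1 := by
  rcases hs with h | h <;> rw [h] <;> simp

include hq hK in
/-- one entry: `InLam` at a neighbour ⟺ the hermitian relation -/
theorem entry_iff (a x x' : K) (s s' e : ℤ) (hs : s = 1 ∨ s = -1) (hs' : s' = 1 ∨ s' = -1)
    (ha : a ^ q = a) (ha0 : a ≠ 0) :
    a * (((s' : ℤ) : K) * x') = ((e : ℤ) : K) * (a * (((s : ℤ) : K) * x)) ^ q ↔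
      x' = (((e * s * s' : ℤ)) : K) * x ^ q := by
  rw [mul_pow, mul_pow, ha, Cfsg.Agent.Lib.Helper6.E6M2Frob.intCast_pow_q q hq hK]
  have h1 := sgn_cast_mul_self (K := K) s' hs'
  push_cast
  constructor
  · intro h
    have h2 : ((s' : ℤ) : K) * x' = ((e : ℤ) : K) * (((s : ℤ) : K) * x ^ q) := by
      apply mul_left_cancel₀ ha0
      rw [h]; ring
    calc x' = ((s' : ℤ) : K) * (((s' : ℤ) : K) * x') := by rw [← mul_assoc, h1, one_mul]
      _ = _ := by rw [h2]; ring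
  · intro h
    rw [h]
    calc a * (((s' : ℤ) : K) * (((e : ℤ) : K) * ((s : ℤ) : K) * ((s' : ℤ) : K) * x ^ q))
        = (((s' : ℤ) : K) * ((s' : ℤ) : K)) * (a * (((e : ℤ) : K) * ((s : ℤ) : K) * x ^ q)) := by
          ring
      _ = _ := by rw [h1]; ring

include hq hK in
/-- the generic step -/
theorem param_of_tab (I : T3) (hI : IsLong I) (nb : Fin 3 → Fin 3 → T3) (sg : Fin 3 → Fin 3 → ℤ)
    (hsg : ∀ j k, sg j k = 1 ∨ sg j k = -1)
    (htau : ∀ j k, tauI (nb j k) = nb (Fin.rev k) (Fin.rev j))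
    (hcoord : ∀ (A : Matrix (Fin 3) (Fin 3) K) (j k : Fin 3),
      pl (cellMat I A) (nb j k) = ((sg j k : ℤ) : K) * A j k)
    (hin : ∀ l : T3 → K, l ∈ Cell I → l I ^ q = l I →
      (∀ j k, l (tauI (nb j k)) = ((epsI (nb j k) : ℤ) : K) * l (nb j k) ^ q) → InLam q l) :
    Param (K := K) q (etaOf nb sg) I := by
  intro l
  constructor
  · rintro ⟨⟨a, A, ha0, rfl⟩, hlam⟩
    have hIcoord : (a • pl (cellMat I A)) I = a := by
      rw [Pi.smul_apply, smul_eq_mul, Cfsg.Agent.Lib.Helper2.E6MCell.cell_coord, mul_one]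
    have ha : a ^ q = a := by
      have h := hlam I
      rw [show tauI I = I from hI, hIcoord, epsI_long I hI, Int.cast_one, one_mul] at h
      exact h.symm
    refine ⟨a, A, ha, ha0, ?_, rfl⟩
    intro j k
    have h := hlam (nb j k)
    rw [htau, Pi.smul_apply, Pi.smul_apply, smul_eq_mul, smul_eq_mul, hcoord, hcoord] at h
    unfold etaOf
    exact (entry_iff q hq hK a (A j k) (A (Fin.rev k) (Fin.rev j)) (sg j k)
      (sg (Fin.rev k) (Fin.rev j)) (epsI (nb j k)) (hsg j k) (hsg _ _) ha ha0).1 h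
  · rintro ⟨a, A, ha, ha0, hA, rfl⟩
    have hcell : a • pl (cellMat I A) ∈ Cell I := ⟨a, A, ha0, rfl⟩
    refine ⟨hcell, hin _ hcell ?_ ?_⟩
    · rw [Pi.smul_apply, smul_eq_mul, Cfsg.Agent.Lib.Helper2.E6MCell.cell_coord, mul_one, ha]
    · intro j k
      rw [htau, Pi.smul_apply, Pi.smul_apply, smul_eq_mul, smul_eq_mul, hcoord, hcoord]
      have := hA j k
      unfold etaOf at this
      exact (entry_iff q hq hK a (A j k) (A (Fin.rev k) (Fin.rev j)) (sg j k)
        (sg (Fin.rev k) (Fin.rev j)) (epsI (nb j k)) (hsg j k) (hsg _ _) ha ha0).2 this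

end Cfsg.Agent.Lib.Helper2.E6M2Param
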