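import Mathlib
import Cfsg.Agent.Lib.Helper2.E6M2Param
import Cfsg.Agent.Lib.Helper2.E6M2Ech
import Cfsg.Agent.Lib.Helper2.E6MCoord

set_option autoImplicit false
set_option linter.unusedSectionVars false
set_option linter.unusedVariables false
set_option linter.style.haveILetI false

/-!
Farm E6M2 (S2341), layer C2: the neighbour tables of the eight long `I` (generated): `nbN j k` is
`L_N` with its `k`-th element replaced by the `j`-th element of the complement, and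
`pl (cellMat L_N A) (nbN j k) = sgN j k * A j k`.
-/

namespace Cfsg.Agent.Lib.Helper2.E6M2Tab

open Matrix Cfsg.Agent.Lib.Helper5.E6M.T3 Cfsg.Agent.Lib.Helper3.E6M2C
  Cfsg.Agent.Lib.Helper2.E6MCell Cfsg.Agent.Lib.Helper2.E6M2Ech Cfsg.Agent.Lib.Helper2.E6M2Param

open Cfsg.Agent.Lib.Helper5.E6M hiding L0 L1

/-! ### `L0` -/

def nb0 : Fin 3 → Fin 3 → T3 := ![![mk' 1 2 3, mk' 0 2 3, mk' 0 1 3],
  ![mk' 1 2 4, mk' 0 2 4, mk' 0 1 4],
  ![mk' 1 2 5, mk' 0 2 5, mk' 0 1 5]]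

def sg0 : Fin 3 → Fin 3 → ℤ := ![![1, -1, 1], ![1, -1, 1], ![1, -1, 1]]

def dt0 : Fin 3 → Fin 3 → Fin 3 → Bool × Fin 3 := ![![![(true, 1), (true, 2), (false, 0)], ![(true, 0), (true, 2), (false, 0)], ![(true, 0), (true, 1), (false, 0)]],
  ![![(true, 1), (true, 2), (false, 1)], ![(true, 0), (true, 2), (false, 1)], ![(true, 0), (true, 1), (false, 1)]],
  ![![(true, 1), (true, 2), (false, 2)], ![(true, 0), (true, 2), (false, 2)], ![(true, 0), (true, 1), (false, 2)]]]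

theorem hsg0 : ∀ j k, sg0 j k = 1 ∨ sg0 j k = -1 := by decide

theorem htau0 : ∀ j k, tauI (nb0 j k) = nb0 (Fin.rev k) (Fin.rev j) := by decide

theorem hdt0 : ∀ j k, desc L0 (nb0 j k) = dt0 j k := by decide

theorem hcoord0 {F : Type*} [Field F] (A : Matrix (Fin 3) (Fin 3) F) (j k : Fin 3) :
    pl (cellMat L0 A) (nb0 j k) = ((sg0 j k : ℤ) : F) * A j k := by
  rw [pl_cellMat, hdt0]
  fin_cases j <;> fin_cases k <;> simp [dt0, sg0, det3', rowD]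

/-! ### `L1` -/

def nb1 : Fin 3 → Fin 3 → T3 := ![![mk' 1 2 3, mk' 0 2 3, mk' 0 1 2],
  ![mk' 1 3 4, mk' 0 3 4, mk' 0 1 4],
  ![mk' 1 3 5, mk' 0 3 5, mk' 0 1 5]]

def sg1 : Fin 3 → Fin 3 → ℤ := ![![-1, 1, 1], ![1, -1, 1], ![1, -1, 1]]

def dt1 : Fin 3 → Fin 3 → Fin 3 → Bool × Fin 3 := ![![![(true, 1), (false, 0), (true, 2)], ![(true, 0), (false, 0), (true, 2)], ![(true, 0), (true, 1), (false, 0)]],
  ![![(true, 1), (true, 2), (false, 1)], ![(true, 0), (true, 2), (false, 1)], ![(true, 0), (true, 1), (false, 1)]],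
  ![![(true, 1), (true, 2), (false, 2)], ![(true, 0), (true, 2), (false, 2)], ![(true, 0), (true, 1), (false, 2)]]]

theorem hsg1 : ∀ j k, sg1 j k = 1 ∨ sg1 j k = -1 := by decide

theorem htau1 : ∀ j k, tauI (nb1 j k) = nb1 (Fin.rev k) (Fin.rev j) := by decide

theorem hdt1 : ∀ j k, desc L1 (nb1 j k) = dt1 j k := by decide

theorem hcoord1 {F : Type*} [Field F] (A : Matrix (Fin 3) (Fin 3) F) (j k : Fin 3) :
    pl (cellMat L1 A) (nb1 j k) = ((sg1 j k : ℤ) : F) * A j k := by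
  rw [pl_cellMat, hdt1]
  fin_cases j <;> fin_cases k <;> simp [dt1, sg1, det3', rowD]

/-! ### `L2` -/

def nb2 : Fin 3 → Fin 3 → T3 := ![![mk' 1 2 4, mk' 0 1 4, mk' 0 1 2],
  ![mk' 2 3 4, mk' 0 3 4, mk' 0 2 3],
  ![mk' 2 4 5, mk' 0 4 5, mk' 0 2 5]]

def sg2 : Fin 3 → Fin 3 → ℤ := ![![1, 1, -1], ![-1, 1, 1], ![1, -1, 1]]

def dt2 : Fin 3 → Fin 3 → Fin 3 → Bool × Fin 3 := ![![![(false, 0), (true, 1), (true, 2)], ![(true, 0), (false, 0), (true, 2)], ![(true, 0), (false, 0), (true, 1)]],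
  ![![(true, 1), (false, 1), (true, 2)], ![(true, 0), (false, 1), (true, 2)], ![(true, 0), (true, 1), (false, 1)]],
  ![![(true, 1), (true, 2), (false, 2)], ![(true, 0), (true, 2), (false, 2)], ![(true, 0), (true, 1), (false, 2)]]]

theorem hsg2 : ∀ j k, sg2 j k = 1 ∨ sg2 j k = -1 := by decide

theorem htau2 : ∀ j k, tauI (nb2 j k) = nb2 (Fin.rev k) (Fin.rev j) := by decide

theorem hdt2 : ∀ j k, desc L2 (nb2 j k) = dt2 j k := by decide

theorem hcoord2 {F : Type*} [Field F] (A : Matrix (Fin 3) (Fin 3) F) (j k : Fin 3) :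
    pl (cellMat L2 A) (nb2 j k) = ((sg2 j k : ℤ) : F) * A j k := by
  rw [pl_cellMat, hdt2]
  fin_cases j <;> fin_cases k <;> simp [dt2, sg2, det3', rowD]

/-! ### `L3` -/

def nb3 : Fin 3 → Fin 3 → T3 := ![![mk' 1 3 4, mk' 0 1 4, mk' 0 1 3],
  ![mk' 2 3 4, mk' 0 2 4, mk' 0 2 3],
  ![mk' 3 4 5, mk' 0 4 5, mk' 0 3 5]]

def sg3 : Fin 3 → Fin 3 → ℤ := ![![1, 1, -1], ![1, 1, -1], ![1, -1, 1]]

def dt3 : Fin 3 → Fin 3 → Fin 3 → Bool × Fin 3 := ![![![(false, 0), (true, 1), (true, 2)], ![(true, 0), (false, 0), (true, 2)], ![(true, 0), (false, 0), (true, 1)]],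
  ![![(false, 1), (true, 1), (true, 2)], ![(true, 0), (false, 1), (true, 2)], ![(true, 0), (false, 1), (true, 1)]],
  ![![(true, 1), (true, 2), (false, 2)], ![(true, 0), (true, 2), (false, 2)], ![(true, 0), (true, 1), (false, 2)]]]

theorem hsg3 : ∀ j k, sg3 j k = 1 ∨ sg3 j k = -1 := by decide

theorem htau3 : ∀ j k, tauI (nb3 j k) = nb3 (Fin.rev k) (Fin.rev j) := by decide

theorem hdt3 : ∀ j k, desc L3 (nb3 j k) = dt3 j k := by decide

theorem hcoord3 {F : Type*} [Field F] (A : Matrix (Fin 3) (Fin 3) F) (j k : Fin 3) :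
    pl (cellMat L3 A) (nb3 j k) = ((sg3 j k : ℤ) : F) * A j k := by
  rw [pl_cellMat, hdt3]
  fin_cases j <;> fin_cases k <;> simp [dt3, sg3, det3', rowD]

/-! ### `L4` -/

def nb4 : Fin 3 → Fin 3 → T3 := ![![mk' 0 2 5, mk' 0 1 5, mk' 0 1 2],
  ![mk' 2 3 5, mk' 1 3 5, mk' 1 2 3],
  ![mk' 2 4 5, mk' 1 4 5, mk' 1 2 4]]

def sg4 : Fin 3 → Fin 3 → ℤ := ![![1, -1, 1], ![-1, 1, 1], ![-1, 1, 1]]

def dt4 : Fin 3 → Fin 3 → Fin 3 → Bool × Fin 3 := ![![![(false, 0), (true, 1), (true, 2)], ![(false, 0), (true, 0), (true, 2)], ![(false, 0), (true, 0), (true, 1)]],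
  ![![(true, 1), (false, 1), (true, 2)], ![(true, 0), (false, 1), (true, 2)], ![(true, 0), (true, 1), (false, 1)]],
  ![![(true, 1), (false, 2), (true, 2)], ![(true, 0), (false, 2), (true, 2)], ![(true, 0), (true, 1), (false, 2)]]]

theorem hsg4 : ∀ j k, sg4 j k = 1 ∨ sg4 j k = -1 := by decide

theorem htau4 : ∀ j k, tauI (nb4 j k) = nb4 (Fin.rev k) (Fin.rev j) := by decide

theorem hdt4 : ∀ j k, desc L4 (nb4 j k) = dt4 j k := by decide

theorem hcoord4 {F : Type*} [Field F] (A : Matrix (Fin 3) (Fin 3) F) (j k : Fin 3) :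
    pl (cellMat L4 A) (nb4 j k) = ((sg4 j k : ℤ) : F) * A j k := by
  rw [pl_cellMat, hdt4]
  fin_cases j <;> fin_cases k <;> simp [dt4, sg4, det3', rowD]

/-! ### `L5` -/

def nb5 : Fin 3 → Fin 3 → T3 := ![![mk' 0 3 5, mk' 0 1 5, mk' 0 1 3],
  ![mk' 2 3 5, mk' 1 2 5, mk' 1 2 3],
  ![mk' 3 4 5, mk' 1 4 5, mk' 1 3 4]]

def sg5 : Fin 3 → Fin 3 → ℤ := ![![1, -1, 1], ![1, 1, -1], ![-1, 1, 1]]

def dt5 : Fin 3 → Fin 3 → Fin 3 → Bool × Fin 3 := ![![![(false, 0), (true, 1), (true, 2)], ![(false, 0), (true, 0), (true, 2)], ![(false, 0), (true, 0), (true, 1)]],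
  ![![(false, 1), (true, 1), (true, 2)], ![(true, 0), (false, 1), (true, 2)], ![(true, 0), (false, 1), (true, 1)]],
  ![![(true, 1), (false, 2), (true, 2)], ![(true, 0), (false, 2), (true, 2)], ![(true, 0), (true, 1), (false, 2)]]]

theorem hsg5 : ∀ j k, sg5 j k = 1 ∨ sg5 j k = -1 := by decide

theorem htau5 : ∀ j k, tauI (nb5 j k) = nb5 (Fin.rev k) (Fin.rev j) := by decide

theorem hdt5 : ∀ j k, desc L5 (nb5 j k) = dt5 j k := by decide

theorem hcoord5 {F : Type*} [Field F] (A : Matrix (Fin 3) (Fin 3) F) (j k : Fin 3) :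
    pl (cellMat L5 A) (nb5 j k) = ((sg5 j k : ℤ) : F) * A j k := by
  rw [pl_cellMat, hdt5]
  fin_cases j <;> fin_cases k <;> simp [dt5, sg5, det3', rowD]

/-! ### `L6` -/

def nb6 : Fin 3 → Fin 3 → T3 := ![![mk' 0 4 5, mk' 0 2 5, mk' 0 2 4],
  ![mk' 1 4 5, mk' 1 2 5, mk' 1 2 4],
  ![mk' 3 4 5, mk' 2 3 5, mk' 2 3 4]]

def sg6 : Fin 3 → Fin 3 → ℤ := ![![1, -1, 1], ![1, -1, 1], ![1, 1, -1]]

def dt6 : Fin 3 → Fin 3 → Fin 3 → Bool × Fin 3 := ![![![(false, 0), (true, 1), (true, 2)], ![(false, 0), (true, 0), (true, 2)], ![(false, 0), (true, 0), (true, 1)]],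
  ![![(false, 1), (true, 1), (true, 2)], ![(false, 1), (true, 0), (true, 2)], ![(false, 1), (true, 0), (true, 1)]],
  ![![(false, 2), (true, 1), (true, 2)], ![(true, 0), (false, 2), (true, 2)], ![(true, 0), (false, 2), (true, 1)]]]

theorem hsg6 : ∀ j k, sg6 j k = 1 ∨ sg6 j k = -1 := by decide

theorem htau6 : ∀ j k, tauI (nb6 j k) = nb6 (Fin.rev k) (Fin.rev j) := by decide

theorem hdt6 : ∀ j k, desc L6 (nb6 j k) = dt6 j k := by decide

theorem hcoord6 {F : Type*} [Field F] (A : Matrix (Fin 3) (Fin 3) F) (j k : Fin 3) :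
    pl (cellMat L6 A) (nb6 j k) = ((sg6 j k : ℤ) : F) * A j k := by
  rw [pl_cellMat, hdt6]
  fin_cases j <;> fin_cases k <;> simp [dt6, sg6, det3', rowD]

/-! ### `L7` -/

def nb7 : Fin 3 → Fin 3 → T3 := ![![mk' 0 4 5, mk' 0 3 5, mk' 0 3 4],
  ![mk' 1 4 5, mk' 1 3 5, mk' 1 3 4],
  ![mk' 2 4 5, mk' 2 3 5, mk' 2 3 4]]

def sg7 : Fin 3 → Fin 3 → ℤ := ![![1, -1, 1], ![1, -1, 1], ![1, -1, 1]]

def dt7 : Fin 3 → Fin 3 → Fin 3 → Bool × Fin 3 := ![![![(false, 0), (true, 1), (true, 2)], ![(false, 0), (true, 0), (true, 2)], ![(false, 0), (true, 0), (true, 1)]],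
  ![![(false, 1), (true, 1), (true, 2)], ![(false, 1), (true, 0), (true, 2)], ![(false, 1), (true, 0), (true, 1)]],
  ![![(false, 2), (true, 1), (true, 2)], ![(false, 2), (true, 0), (true, 2)], ![(false, 2), (true, 0), (true, 1)]]]

theorem hsg7 : ∀ j k, sg7 j k = 1 ∨ sg7 j k = -1 := by decide

theorem htau7 : ∀ j k, tauI (nb7 j k) = nb7 (Fin.rev k) (Fin.rev j) := by decide

theorem hdt7 : ∀ j k, desc L7 (nb7 j k) = dt7 j k := by decide

theorem hcoord7 {F : Type*} [Field F] (A : Matrix (Fin 3) (Fin 3) F) (j k : Fin 3) :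
    pl (cellMat L7 A) (nb7 j k) = ((sg7 j k : ℤ) : F) * A j k := by
  rw [pl_cellMat, hdt7]
  fin_cases j <;> fin_cases k <;> simp [dt7, sg7, det3', rowD]

end Cfsg.Agent.Lib.Helper2.E6M2Tab
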