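import Mathlib
import Cfsg.Agent.Lib.Helper2.E6M2NMOV
import Cfsg.Agent.Lib.Helper2.E6M2Tab

set_option autoImplicit false
set_option linter.unusedSectionVars false
set_option linter.unusedVariables false
set_option linter.style.haveILetI false

/-!
Farm E6M2 (S2341), layer C2: CELLS2 and NMOV2 from the closure statement `hcl` alone (helper6's
`inLam_of_cell`: a vector of `Cell I`, `I` long, whose coordinates at `I` and at the nine neighbours
of `I` satisfy the `Λ_τ`-conditions lies in `Λ_τ`).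
-/

namespace Cfsg.Agent.Lib.Helper2.E6M2NMOVW

open Matrix Cfsg.Agent.Lib.Helper5.E6M.T3 Cfsg.Agent.Lib.Helper3.E6M2C
  Cfsg.Agent.Lib.Helper2.E6MCell Cfsg.Agent.Lib.Helper2.E6M2Herm Cfsg.Agent.Lib.Helper2.E6M2Chain
  Cfsg.Agent.Lib.Helper2.E6M2Ech Cfsg.Agent.Lib.Helper2.E6M2Param Cfsg.Agent.Lib.Helper2.E6M2Tab

open Cfsg.Agent.Lib.Helper5.E6M hiding L0 L1

theorem henum0 : ∀ N : T3, (N.1 ∩ L0.1).card = 2 → ∃ j k, N = nb0 j k := by decide
theorem henum1 : ∀ N : T3, (N.1 ∩ L1.1).card = 2 → ∃ j k, N = nb1 j k := by decide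
theorem henum2 : ∀ N : T3, (N.1 ∩ L2.1).card = 2 → ∃ j k, N = nb2 j k := by decide
theorem henum3 : ∀ N : T3, (N.1 ∩ L3.1).card = 2 → ∃ j k, N = nb3 j k := by decide
theorem henum4 : ∀ N : T3, (N.1 ∩ L4.1).card = 2 → ∃ j k, N = nb4 j k := by decide
theorem henum5 : ∀ N : T3, (N.1 ∩ L5.1).card = 2 → ∃ j k, N = nb5 j k := by decide
theorem henum6 : ∀ N : T3, (N.1 ∩ L6.1).card = 2 → ∃ j k, N = nb6 j k := by decide
theorem henum7 : ∀ N : T3, (N.1 ∩ L7.1).card = 2 → ∃ j k, N = nb7 j k := by decide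

/-- the sign tables of the eight long `I` -/
def etas (I : T3) : Fin 3 → Fin 3 → ℤ :=
  if I = L0 then etaOf nb0 sg0 else if I = L1 then etaOf nb1 sg1 else
  if I = L2 then etaOf nb2 sg2 else if I = L3 then etaOf nb3 sg3 else
  if I = L4 then etaOf nb4 sg4 else if I = L5 then etaOf nb5 sg5 else
  if I = L6 then etaOf nb6 sg6 else etaOf nb7 sg7

theorem etas_ok : ∀ I, IsLong I → EtaOK (etas I) := by
  intro I _
  unfold etas
  split_ifs
  · exact etaOK_of nb0 sg0 hsg0 htau0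
  · exact etaOK_of nb1 sg1 hsg1 htau1
  · exact etaOK_of nb2 sg2 hsg2 htau2
  · exact etaOK_of nb3 sg3 hsg3 htau3
  · exact etaOK_of nb4 sg4 hsg4 htau4
  · exact etaOK_of nb5 sg5 hsg5 htau5
  · exact etaOK_of nb6 sg6 hsg6 htau6
  · exact etaOK_of nb7 sg7 hsg7 htau7

theorem etas0 : etas L0 = etaOf nb0 sg0 := by decide
theorem etas1 : etas L1 = etaOf nb1 sg1 := by decide
theorem etas2 : etas L2 = etaOf nb2 sg2 := by decide
theorem etas3 : etas L3 = etaOf nb3 sg3 := by decide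
theorem etas4 : etas L4 = etaOf nb4 sg4 := by decide
theorem etas5 : etas L5 = etaOf nb5 sg5 := by decide
theorem etas6 : etas L6 = etaOf nb6 sg6 := by decide
theorem etas7 : etas L7 = etaOf nb7 sg7 := by decide

variable {K : Type*} [Field K] [Fintype K] [DecidableEq K] (q : ℕ) (hq : IsPrimePow q)
  (hK : Fintype.card K = q ^ 2)

/-- the closure statement (helper6's `inLam_of_cell`) -/
def Closure : Prop :=
  ∀ I : T3, IsLong I → ∀ l : T3 → K, l ∈ Cell I → l I ^ q = l I →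
    (∀ N : T3, (N.1 ∩ I.1).card = 2 → l (tauI N) = ((epsI N : ℤ) : K) * l N ^ q) → InLam q l

theorem card_nb (I : T3) (nb : Fin 3 → Fin 3 → T3)
    (henum : ∀ N : T3, (N.1 ∩ I.1).card = 2 → ∃ j k, N = nb j k) (l : T3 → K)
    (h : ∀ j k, l (tauI (nb j k)) = ((epsI (nb j k) : ℤ) : K) * l (nb j k) ^ q) :
    ∀ N : T3, (N.1 ∩ I.1).card = 2 → l (tauI N) = ((epsI N : ℤ) : K) * l N ^ q := by
  intro N hN
  obtain ⟨j, k, rfl⟩ := henum N hN
  exact h j k

include hq hK in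
theorem hP_of (hcl : Closure (K := K) q) : ∀ I, IsLong I → Param (K := K) q (etas I) I := by
  intro I hI
  obtain ⟨l0, l1, l2, l3, l4, l5, l6, l7⟩ := long_all
  rcases (long_iff I).1 hI with rfl | rfl | rfl | rfl | rfl | rfl | rfl | rfl
  · rw [etas0]
    exact param_of_tab q hq hK L0 l0 nb0 sg0 hsg0 htau0 hcoord0
      (fun l hl h0 h => hcl L0 l0 l hl h0 (card_nb q L0 nb0 henum0 l h))
  · rw [etas1]
    exact param_of_tab q hq hK L1 l1 nb1 sg1 hsg1 htau1 hcoord1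
      (fun l hl h0 h => hcl L1 l1 l hl h0 (card_nb q L1 nb1 henum1 l h))
  · rw [etas2]
    exact param_of_tab q hq hK L2 l2 nb2 sg2 hsg2 htau2 hcoord2
      (fun l hl h0 h => hcl L2 l2 l hl h0 (card_nb q L2 nb2 henum2 l h))
  · rw [etas3]
    exact param_of_tab q hq hK L3 l3 nb3 sg3 hsg3 htau3 hcoord3
      (fun l hl h0 h => hcl L3 l3 l hl h0 (card_nb q L3 nb3 henum3 l h))
  · rw [etas4]
    exact param_of_tab q hq hK L4 l4 nb4 sg4 hsg4 htau4 hcoord4
      (fun l hl h0 h => hcl L4 l4 l hl h0 (card_nb q L4 nb4 henum4 l h))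
  · rw [etas5]
    exact param_of_tab q hq hK L5 l5 nb5 sg5 hsg5 htau5 hcoord5
      (fun l hl h0 h => hcl L5 l5 l hl h0 (card_nb q L5 nb5 henum5 l h))
  · rw [etas6]
    exact param_of_tab q hq hK L6 l6 nb6 sg6 hsg6 htau6 hcoord6
      (fun l hl h0 h => hcl L6 l6 l hl h0 (card_nb q L6 nb6 henum6 l h))
  · rw [etas7]
    exact param_of_tab q hq hK L7 l7 nb7 sg7 hsg7 htau7 hcoord7
      (fun l hl h0 h => hcl L7 l7 l hl h0 (card_nb q L7 nb7 henum7 l h))

variable (c : (T3 → K) → ℕ)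

include hq hK in
/-- unit CELLS2 from the closure statement -/
theorem cells2_of_closure (hcl : Closure (K := K) q)
    (hc : ∀ (I : T3), IsLong I → ∀ l : T3 → K, InLam q l → l I ≠ 0 →
      (l ∈ Cell I → c l = 1) ∧ (l ∉ Cell I → c l = 0)) :
    (q ^ 2 - 1) * (q ^ 3 + 1) * (q ^ 5 + 1) ≤
      ∑ l ∈ Finset.univ.filter (fun l : T3 → K => InLam q l ∧ l ≠ 0), c l :=
  Cfsg.Agent.Lib.Helper2.E6M2NMOV.cells2_of q hq hK c hc etas etas_ok (hP_of q hq hK hcl)

include hq hK in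
/-- unit NMOV2 from the closure statement -/
theorem nmov2_of_closure (hcl : Closure (K := K) q)
    (hc : ∀ (I : T3), IsLong I → ∀ l : T3 → K, InLam q l → l I ≠ 0 →
      (l ∈ Cell I → c l = 1) ∧ (l ∉ Cell I → c l = 0))
    (hfull : ∀ l : T3 → K, InLam q l → l ≠ 0 → c l = 0 ∨
      (c l = 1 ∧ ∃ I : T3, IsLong I ∧ l I ≠ 0 ∧ l ∈ Cell I)) :
    ∑ l ∈ Finset.univ.filter (fun l : T3 → K => InLam q l ∧ moved2 l), c l =
      (q ^ 2 - 1) * (q ^ 3 + 1) * q ^ 5 :=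
  Cfsg.Agent.Lib.Helper2.E6M2NMOV.nmov2_of q hq hK c hc etas etas_ok (hP_of q hq hK hcl) hfull

end Cfsg.Agent.Lib.Helper2.E6M2NMOVW
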