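import Mathlib
import Cfsg.Agent.Lib.Helper2.E6M2NMOVW
import Cfsg.Agent.Lib.Helper6.E6M2ADJ

set_option autoImplicit false
set_option linter.unusedSectionVars false
set_option linter.unusedVariables false

/-!
Farm E6M2 (S2341), layer C2: units NMOV2 and CELLS2, verbatim (the closure statement is helper6's
`inLam_of_cell`).
-/

namespace Cfsg.Agent.Lib.Helper2.E6M2NMOVV

open Cfsg.Agent.Lib.Helper5.E6M Cfsg.Agent.Lib.Helper3.E6M2C Matrix

variable {K : Type*} [Field K] [Fintype K] [DecidableEq K] (q : ℕ) (hq : IsPrimePow q)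
  (hK : Fintype.card K = q ^ 2)

include hq hK in
theorem closure : Cfsg.Agent.Lib.Helper2.E6M2NMOVW.Closure (K := K) q := by
  intro I hI l hl h0 hN
  apply Cfsg.Agent.Lib.Helper6.E6M2ADJ.inLam_of_cell q hq hK I hI l hl h0
  intro N hdd
  apply hN N
  unfold Cfsg.Agent.Lib.Helper6.E6M2ADJ.ddI at hdd
  rwa [Finset.filter_mem_eq_inter] at hdd

variable (c : (T3 → K) → ℕ)

include hq hK in
/-- unit NMOV2 -/
theorem nmov2
    (hc : ∀ (I : T3), IsLong I → ∀ l : T3 → K, InLam q l → l I ≠ 0 →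
      (l ∈ Cell I → c l = 1) ∧ (l ∉ Cell I → c l = 0))
    (hfull : ∀ l : T3 → K, InLam q l → l ≠ 0 → c l = 0 ∨
      (c l = 1 ∧ ∃ I : T3, IsLong I ∧ l I ≠ 0 ∧ l ∈ Cell I)) :
    ∑ l ∈ Finset.univ.filter (fun l : T3 → K => InLam q l ∧ moved2 l), c l =
      (q ^ 2 - 1) * (q ^ 3 + 1) * q ^ 5 :=
  Cfsg.Agent.Lib.Helper2.E6M2NMOVW.nmov2_of_closure q hq hK c (closure q hq hK) hc hfull

include hq hK in
/-- unit CELLS2 -/
theorem cells2
    (hc : ∀ (I : T3), IsLong I → ∀ l : T3 → K, InLam q l → l I ≠ 0 →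
      (l ∈ Cell I → c l = 1) ∧ (l ∉ Cell I → c l = 0)) :
    (q ^ 2 - 1) * (q ^ 3 + 1) * (q ^ 5 + 1) ≤
      ∑ l ∈ Finset.univ.filter (fun l : T3 → K => InLam q l ∧ l ≠ 0), c l :=
  Cfsg.Agent.Lib.Helper2.E6M2NMOVW.cells2_of_closure q hq hK c (closure q hq hK) hc

include hq hK in
/-- the hermitian parametrisation of `Cell I ∩ Λ_τ` for all long `I` -/
theorem param_all : ∀ I, IsLong I →
    Cfsg.Agent.Lib.Helper2.E6M2Chain.Param (K := K) q (Cfsg.Agent.Lib.Helper2.E6M2NMOVW.etas I) I :=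
  Cfsg.Agent.Lib.Helper2.E6M2NMOVW.hP_of q hq hK (closure q hq hK)

end Cfsg.Agent.Lib.Helper2.E6M2NMOVV
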