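import Mathlib
import Cfsg.Agent.Lib.Helper2.E6M2DefsB

set_option autoImplicit false

/-!
Farm E6M2 (S2341), layer B2: the STUBS (statements with `sorry`; NOT to be imported by final
files - each unit lands its own file with the verbatim statement, `rfl`-checked against this one).
-/

namespace Cfsg.Agent.Lib.Helper2.E6M2StubsB

open Cfsg.Agent.Lib.Helper2.E6M2B

section B

variable {F Lam L G : Type*} [Field F] [Fintype F] [DecidableEq F] [AddCommGroup Lam]
  [Module F Lam] [Fintype Lam] [DecidableEq Lam] [Group L] [Group G] (D : Data F Lam L G) (m : ℕ)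
  (hD : Rel D m)

/-! ### unit H2 (Landazuri–Seitz part) -/

include hD in
theorem heis {V : Type*} [AddCommGroup V] [Module ℂ V] [FiniteDimensional ℂ V]
    (ρ : Representation ℂ G V) :
    ∃ a : ℕ, (Module.finrank ℂ V : ℂ) = fZ D ρ.character +
        ((Fintype.card F : ℂ) - 1) * (Fintype.card F : ℂ) ^ m * a ∧
      (Fintype.card F : ℂ) * f1 D ρ.character = (Fintype.card F : ℂ) * ZS1 D ρ.character +
        ((Fintype.card F : ℂ) - 1) * (Fintype.card F : ℂ) ^ m * a ∧
      (Fintype.card F : ℂ) ^ 2 * f2 D ρ.character = (Fintype.card F : ℂ) ^ 2 * ZS2 D ρ.character +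
        ((Fintype.card F : ℂ) - 1) * (Fintype.card F : ℂ) ^ m * a := by
  sorry

/-! ### unit C12: the multiplicities `cM` -/

include hD in
theorem cM_nat {V : Type*} [AddCommGroup V] [Module ℂ V] [FiniteDimensional ℂ V]
    (ρ : Representation ℂ G V) (l : AddChar Lam ℂ) : ∃ n : ℕ, cM D ρ.character l = n := by
  sorry

include hD in
/-- Fourier inversion: summing `cM` over the characters trivial on a subgroup `S` of `Lam` -/
theorem sum_cM_vanish (χ : G → ℂ) (S : AddSubgroup Lam) [DecidablePred (· ∈ S)] :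
    ∑ l ∈ Finset.univ.filter (fun l : AddChar Lam ℂ => ∀ s ∈ S, l s = 1), cM D χ l =
      ((Fintype.card F : ℂ) * (Nat.card S : ℂ))⁻¹ *
        ∑ r : F, ∑ s ∈ Finset.univ.filter (fun s : Lam => s ∈ S), χ (D.Psi r s) := by
  sorry

include hD in
theorem sum_cM (χ : G → ℂ) : ∑ l : AddChar Lam ℂ, cM D χ l = fZ D χ := by sorry

include hD in
theorem sum_cM_e1 (χ : G → ℂ) :
    ∑ l ∈ Finset.univ.filter (fun l : AddChar Lam ℂ => ∀ t : F, l (t • D.e1) = 1), cM D χ l =
      ZS1 D χ := by sorry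

include hD in
theorem sum_cM_e12 (χ : G → ℂ) :
    ∑ l ∈ Finset.univ.filter (fun l : AddChar Lam ℂ =>
      (∀ t : F, l (t • D.e1) = 1) ∧ ∀ u : F, l (u • D.e2) = 1), cM D χ l = ZS2 D χ := by sorry

/-! ### unit CONJ2: the Weyl element -/

include hD in
theorem fZ_eq_f1 (χ : G → ℂ) (hχ : ∀ x y, χ (x * y * x⁻¹) = χ y) : fZ D χ = f1 D χ := by sorry
include hD in
theorem f90_eq_f2 (χ : G → ℂ) (hχ : ∀ x y, χ (x * y * x⁻¹) = χ y) : f90 D χ = f2 D χ := by sorry

/-! ### unit INV2: `cM` is `L`-invariant -/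

include hD in
theorem cM_inv (χ : G → ℂ) (hχ : ∀ x y, χ (x * y * x⁻¹) = χ y) (g : L) (l : AddChar Lam ℂ) :
    cM D χ (actC D g l) = cM D χ l := by
  sorry

/-! ### unit RR2: the two relations -/

include hD in
theorem char_side {V : Type*} [AddCommGroup V] [Module ℂ V] [FiniteDimensional ℂ V]
    (ρ : Representation ℂ G V) (hm : 2 ≤ m) :
    ∃ a : ℕ, (Module.finrank ℂ V : ℂ) = fZ D ρ.character +
        ((Fintype.card F : ℂ) - 1) * (Fintype.card F : ℂ) ^ m * a ∧
      fZ D ρ.character = ∑ l : AddChar Lam ℂ, cM D ρ.character l ∧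
      ∑ l ∈ Finset.univ.filter (fun l : AddChar Lam ℂ => ¬ ∀ t : F, l (t • D.e1) = 1),
          cM D ρ.character l =
        ((Fintype.card F : ℂ) - 1) * (Fintype.card F : ℂ) ^ (m - 1) * a ∧
      f90 D ρ.character = ((Fintype.card F : ℂ) - 1) * (Fintype.card F : ℂ) ^ (m - 2) * a +
        ∑ l ∈ Finset.univ.filter (fun l : AddChar Lam ℂ =>
          (∀ t : F, l (t • D.e1) = 1) ∧ ∀ u : F, l (u • D.e2) = 1), cM D ρ.character l := by
  sorry

end B

/-! ## the module side -/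

section Dm

variable {F Lam L G : Type*} [Field F] [Fintype F] [DecidableEq F] [AddCommGroup Lam]
  [Module F Lam] [Fintype Lam] [DecidableEq Lam] [Group L] [Group G] (D : Data F Lam L G) (m : ℕ)
  (hD : Rel D m)
  {V : Type*} [AddCommGroup V] [Module ℂ V] [FiniteDimensional ℂ V] (ρ : Representation ℂ G V)

/-! ### unit PROJ2 -/

include hD in
theorem eL_idem (l : AddChar Lam ℂ) : eL D ρ l ∘ₗ eL D ρ l = eL D ρ l := by sorry
include hD in
theorem eL_orth (l l' : AddChar Lam ℂ) (h : l ≠ l') : eL D ρ l ∘ₗ eL D ρ l' = 0 := by sorry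
include hD in
theorem sum_eL : ∑ l : AddChar Lam ℂ, eL D ρ l =
    (Fintype.card F : ℂ)⁻¹ • ∑ r : F, ρ (D.Psi r 0) := by sorry
theorem trace_eL (l : AddChar Lam ℂ) :
    LinearMap.trace ℂ V (eL D ρ l) = cM D ρ.character l := by sorry
include hD in
theorem eL_conj (g : L) (l : AddChar Lam ℂ) :
    ρ (D.phi g) ∘ₗ eL D ρ l = eL D ρ (actC D g l) ∘ₗ ρ (D.phi g) := by sorry

/-! ### unit TRIVLINE2: a perfect stabiliser acts trivially on a multiplicity-one line -/

include hD in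
theorem trivline (H : Subgroup L) (l : AddChar Lam ℂ) (hfix : ∀ g ∈ H, actC D g l = l)
    (h1 : cM D ρ.character l = 1) (g : L) (hg : g ∈ (commutator H).map H.subtype) :
    ρ (D.phi g) ∘ₗ eL D ρ l = eL D ρ l := by sorry

/-! ### unit TRACE2 -/

include hD in
theorem trace_identity
    (hS : ∀ l : AddChar Lam ℂ, l ≠ 0 → cM D ρ.character l = 0 ∨ cM D ρ.character l = 1)
    (htl : ∀ (t : F) (l : AddChar Lam ℂ), l ≠ 0 → cM D ρ.character l = 1 →
      actC D (D.xd t) l = l → ρ (D.phi (D.xd t)) ∘ₗ eL D ρ l = eL D ρ l)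
    (hfree : ∀ (t : F), t ≠ 0 → ∀ l : AddChar Lam ℂ, actC D (D.xd t) l = l → ¬ moved D l)
    (htriv : ∀ t : F, ρ (D.phi (D.xd t)) ∘ₗ eL D ρ 0 = eL D ρ 0) :
    (Fintype.card F : ℂ) * f90 D ρ.character = (Fintype.card F : ℂ) * cM D ρ.character 0 +
      (Fintype.card F : ℂ) * ∑ l ∈ Finset.univ.filter (fun l : AddChar Lam ℂ => l ≠ 0),
        cM D ρ.character l -
      ((Fintype.card F : ℂ) - 1) *
        ∑ l ∈ Finset.univ.filter (fun l : AddChar Lam ℂ => ∃ t : F, actC D (D.xd t) l ≠ l),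
          cM D ρ.character l := by sorry

/-! ### unit WREP2 (the bound `N` for `L` comes from NONTRIV2) -/

include hD in
theorem c0_ge (N : ℕ)
    (hN : ∀ (W : Type) [AddCommGroup W] [Module ℂ W] [FiniteDimensional ℂ W]
      (σ : Representation ℂ L W), (∃ t : F, σ (D.xd t) ≠ 1) → N ≤ Module.finrank ℂ W)
    (hnt : ¬ ∀ t : F, ρ (D.phi (D.xd t)) ∘ₗ eL D ρ 0 = eL D ρ 0) :
    ∃ n : ℕ, cM D ρ.character 0 = n ∧ N ≤ n := by sorry

end Dm

/-! ## unit DUAL (for layer C2): parametrising `AddChar Lam ℂ` by a non-degenerate pairing -/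

section dual

variable {F Lam Lam' : Type*} [Field F] [Fintype F] [AddCommGroup Lam] [Module F Lam]
  [Fintype Lam] [AddCommGroup Lam'] [Module F Lam'] [Fintype Lam']

/-- the character `s ↦ ψ ⟨l, s⟩` -/
noncomputable def pairChar (ψ : AddChar F ℂ) (P : Lam' →ₗ[F] Lam →ₗ[F] F) (l : Lam') :
    AddChar Lam ℂ :=
  ψ.compAddMonoidHom (P l).toAddMonoidHom

theorem pairChar_bijective (ψ : AddChar F ℂ) (hψ : ψ ≠ 0) (P : Lam' →ₗ[F] Lam →ₗ[F] F)
    (hP : ∀ l : Lam', (∀ s : Lam, P l s = 0) → l = 0)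
    (hcard : Fintype.card Lam' = Fintype.card Lam) :
    Function.Bijective (pairChar ψ P) := by sorry

end dual

end Cfsg.Agent.Lib.Helper2.E6M2StubsB
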