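import Mathlib
import Cfsg.Agent.Lib.Helper2.E6M2DefsB
import Cfsg.Agent.Lib.Helper2.E6M2C12
import Cfsg.Agent.Lib.Helper8.E6M2PROJ

set_option autoImplicit false
set_option linter.unusedSectionVars false
set_option linter.unusedVariables false
set_option linter.style.haveILetI false

/-!
Farm E6M2 (S2341), layer B2, unit WREP2: `W = range (eL 0) = C_V(Q)` is stable under `ρ ∘ phi`, has
dimension `cM 0`, and if some `xd t` acts non-trivially on it, any lower bound `N` for the
dimension of such modules of `L` (NONTRIV2) bounds `cM 0`.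

The stub `E6M2StubsB.c0_ge` quantifies `hN` over `W : Type`; here `hN` is stated in the universe
of `V` (`c0_ge`), which is what an application needs (NONTRIV2 is universe polymorphic).
-/

universe v

namespace Cfsg.Agent.Lib.Helper2.E6M2WREP

open Cfsg.Agent.Lib.Helper2.E6M2B

section

variable {F Lam L G : Type*} [Field F] [Fintype F] [DecidableEq F] [AddCommGroup Lam]
  [Module F Lam] [Fintype Lam] [DecidableEq Lam] [Group L] [Group G] (D : Data F Lam L G) (m : ℕ)
  (hD : Rel D m)
  {V : Type v} [AddCommGroup V] [Module ℂ V] [FiniteDimensional ℂ V] (ρ : Representation ℂ G V)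

/-- a representation of `H` restricted to a stable subspace -/
noncomputable def subRep {H : Type*} [Group H] (σ : Representation ℂ H V) (W : Submodule ℂ V)
    (hW : ∀ (g : H), ∀ w ∈ W, σ g w ∈ W) : Representation ℂ H W where
  toFun g := (σ g).restrict (hW g)
  map_one' := by
    apply LinearMap.ext
    intro w
    apply Subtype.ext
    simp [LinearMap.restrict_apply]
  map_mul' g g' := by
    apply LinearMap.ext
    intro w
    apply Subtype.ext
    simp [LinearMap.restrict_apply]

theorem subRep_apply {H : Type*} [Group H] (σ : Representation ℂ H V) (W : Submodule ℂ V)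
    (hW : ∀ (g : H), ∀ w ∈ W, σ g w ∈ W) (g : H) (w : W) :
    ((subRep σ W hW g w : W) : V) = σ g w := rfl

theorem actC_zero (g : L) : actC D g (0 : AddChar Lam ℂ) = 0 := by
  ext s
  rfl

include hD in
/-- unit WREP2 -/
theorem c0_ge (N : ℕ)
    (hN : ∀ (W : Type v) [AddCommGroup W] [Module ℂ W] [FiniteDimensional ℂ W]
      (σ : Representation ℂ L W), (∃ t : F, σ (D.xd t) ≠ 1) → N ≤ Module.finrank ℂ W)
    (hnt : ¬ ∀ t : F, ρ (D.phi (D.xd t)) ∘ₗ eL D ρ 0 = eL D ρ 0) :
    ∃ n : ℕ, cM D ρ.character 0 = n ∧ N ≤ n := by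
  set e0 := eL D ρ 0 with he0
  have hidem : e0 ∘ₗ e0 = e0 := Cfsg.Agent.Lib.Helper8.E6M2B.eL_idem D m hD ρ 0
  have hid : IsIdempotentElem e0 := hidem
  have hconj : ∀ g : L, ρ (D.phi g) ∘ₗ e0 = e0 ∘ₗ ρ (D.phi g) := by
    intro g
    have h := Cfsg.Agent.Lib.Helper8.E6M2B.eL_conj D m hD ρ g 0
    rwa [actC_zero] at h
  have hW : ∀ (g : L), ∀ w ∈ LinearMap.range e0,
      (MonoidHom.comp ρ D.phi : Representation ℂ L V) g w ∈ LinearMap.range e0 := by
    rintro g _ ⟨v, rfl⟩
    refine ⟨ρ (D.phi g) v, ?_⟩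
    have := LinearMap.congr_fun (hconj g) v
    simp only [LinearMap.comp_apply] at this
    rw [← this]
    rfl
  refine ⟨Module.finrank ℂ (LinearMap.range e0), ?_, ?_⟩
  · rw [← Cfsg.Agent.Lib.Helper2.E6M2C12.trace_eL' D ρ 0]
    exact (LinearMap.IsIdempotentElem.isProj_range e0 hid).trace
  · push Not at hnt
    obtain ⟨t, ht⟩ := hnt
    apply hN (LinearMap.range e0)
      (subRep (MonoidHom.comp ρ D.phi : Representation ℂ L V) (LinearMap.range e0) hW)
    refine ⟨t, ?_⟩
    intro h1
    apply ht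
    apply LinearMap.ext
    intro v
    have h2 := LinearMap.congr_fun h1 ⟨e0 v, LinearMap.mem_range_self e0 v⟩
    have h3 := congrArg Subtype.val h2
    rw [subRep_apply] at h3
    exact h3

end

end Cfsg.Agent.Lib.Helper2.E6M2WREP
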