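import Mathlib
import Cfsg.Agent.Lib.Helper5.E6MDefs
import Cfsg.Agent.Lib.Helper5.E6MDefs2
import Cfsg.Agent.Lib.Helper2.E6MEmbC

/-!
# E6M farm (S2340): unit MTV, the minors of an elementary matrix

`Mm (1 + t E_ij) e_I = e_I + (± t) e_{repl I i j}` when `j ∈ I`, `i ∉ I`, and `e_I` otherwise.
The `3 × 3` minors of `1 + t E_ij` are `d0 + t d1 + t² d2 + t³ d3` with integer coefficients, which
are tabulated by `decide +kernel` through the computable enumeration `embC`.
-/

set_option autoImplicit false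
set_option linter.style.haveILetI false

namespace Cfsg.Agent.Lib.Helper2.E6MMTV

open Matrix Cfsg.Agent.Lib.Helper5.E6M Cfsg.Agent.Lib.Helper2.E6MCell

section poly

variable {R : Type*} [CommRing R]

/-- the explicit `3 × 3` determinant -/
def det3 (m : Fin 3 → Fin 3 → R) : R :=
  m 0 0 * m 1 1 * m 2 2 - m 0 0 * m 1 2 * m 2 1 - m 0 1 * m 1 0 * m 2 2 + m 0 1 * m 1 2 * m 2 0 +
    m 0 2 * m 1 0 * m 2 1 - m 0 2 * m 1 1 * m 2 0

theorem det_eq_det3 (M : Matrix (Fin 3) (Fin 3) R) : M.det = det3 M := Matrix.det_fin_three M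

/-- replace the row `k` of `u` by the row `k` of `w` -/
def rowRepl (u w : Fin 3 → Fin 3 → R) (k : Fin 3) : Fin 3 → Fin 3 → R :=
  fun r s => if r = k then w r s else u r s

def d0 (u _w : Fin 3 → Fin 3 → R) : R := det3 u
def d1 (u w : Fin 3 → Fin 3 → R) : R :=
  det3 (rowRepl u w 0) + det3 (rowRepl u w 1) + det3 (rowRepl u w 2)
def d2 (u w : Fin 3 → Fin 3 → R) : R :=
  det3 (rowRepl w u 0) + det3 (rowRepl w u 1) + det3 (rowRepl w u 2)
def d3 (_u w : Fin 3 → Fin 3 → R) : R := det3 w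

theorem det3_add_mul (u w : Fin 3 → Fin 3 → R) (t : R) :
    det3 (fun r s => u r s + t * w r s) =
      d0 u w + t * d1 u w + t ^ 2 * d2 u w + t ^ 3 * d3 u w := by
  simp only [det3, d0, d1, d2, d3, rowRepl, Fin.isValue, if_true, one_ne_zero, if_false,
    zero_ne_one, Fin.reduceEq, reduceIte]
  ring

end poly

/-- the integer table of the minors of the identity -/
def uZ (J I : T3) : Fin 3 → Fin 3 → ℤ := fun r s => if embC J r = embC I s then 1 else 0

/-- the integer table of the minors of `E_ij` -/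
def wZ (p : IJ) (J I : T3) : Fin 3 → Fin 3 → ℤ :=
  fun r s => if p.1.1 = embC J r ∧ p.1.2 = embC I s then 1 else 0

set_option maxRecDepth 1000000 in
theorem table : ∀ (p : IJ) (I J : T3),
    d0 (uZ J I) (wZ p J I) = (if J = I then 1 else 0) ∧
    d1 (uZ J I) (wZ p J I) =
      (if p.1.2 ∈ I.1 ∧ p.1.1 ∉ I.1 ∧ J = repl I p.1.1 p.1.2 then rsgn I p.1.1 p.1.2 else 0) ∧
    d2 (uZ J I) (wZ p J I) = 0 ∧ d3 (uZ J I) (wZ p J I) = 0 := by
  decide +kernel

variable {F : Type*} [Field F]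

theorem d0_cast (u w : Fin 3 → Fin 3 → ℤ) :
    d0 (fun r s => ((u r s : ℤ) : F)) (fun r s => ((w r s : ℤ) : F)) = ((d0 u w : ℤ) : F) := by
  simp only [d0, det3]
  push_cast
  ring

theorem d3_cast (u w : Fin 3 → Fin 3 → ℤ) :
    d3 (fun r s => ((u r s : ℤ) : F)) (fun r s => ((w r s : ℤ) : F)) = ((d3 u w : ℤ) : F) := by
  simp only [d3, det3]
  push_cast
  ring

theorem d1_cast (u w : Fin 3 → Fin 3 → ℤ) :
    d1 (fun r s => ((u r s : ℤ) : F)) (fun r s => ((w r s : ℤ) : F)) = ((d1 u w : ℤ) : F) := by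
  simp only [d1, det3, rowRepl, Fin.isValue, if_true, one_ne_zero, if_false,
    zero_ne_one, Fin.reduceEq, reduceIte]
  push_cast
  ring

theorem d2_cast (u w : Fin 3 → Fin 3 → ℤ) :
    d2 (fun r s => ((u r s : ℤ) : F)) (fun r s => ((w r s : ℤ) : F)) = ((d2 u w : ℤ) : F) := by
  simp only [d2, det3, rowRepl, Fin.isValue, if_true, one_ne_zero, if_false,
    zero_ne_one, Fin.reduceEq, reduceIte]
  push_cast
  ring

/-- the minors of an elementary matrix -/
theorem minor_transvection (p : IJ) (t : F) (J I : T3) :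
    minor (Matrix.transvection p.1.1 p.1.2 t) J I =
      (if J = I then 1 else 0) +
        t * (if p.1.2 ∈ I.1 ∧ p.1.1 ∉ I.1 ∧ J = repl I p.1.1 p.1.2 then
          ((rsgn I p.1.1 p.1.2 : ℤ) : F) else 0) := by
  unfold minor
  rw [det_eq_det3]
  have h1 : (fun r s => ((Matrix.transvection p.1.1 p.1.2 t).submatrix J.emb I.emb) r s) =
      fun r s => ((uZ J I r s : ℤ) : F) + t * ((wZ p J I r s : ℤ) : F) := by
    funext r s
    simp only [Matrix.submatrix_apply, Matrix.transvection, Matrix.add_apply, Matrix.one_apply,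
      Matrix.single_apply, emb_eq_embC, uZ, wZ]
    by_cases h1 : embC J r = embC I s <;> by_cases h2 : p.1.1 = embC J r ∧ p.1.2 = embC I s <;>
      simp [h1, h2]
  have h2 : det3 (fun r s => ((Matrix.transvection p.1.1 p.1.2 t).submatrix J.emb I.emb) r s) =
      det3 ((Matrix.transvection p.1.1 p.1.2 t).submatrix J.emb I.emb) := rfl
  rw [← h2, h1, det3_add_mul, d0_cast, d1_cast, d2_cast, d3_cast]
  obtain ⟨t0, t1, t2, t3⟩ := table p I J
  rw [t0, t1, t2, t3]
  push_cast
  ring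

/-- unit MTV, verbatim as in helper5's `E6MStubs2` -/
theorem Mm_transvection_single (p : IJ) (t : F) (I : T3) (a : F) :
    Mm (Matrix.transvection p.1.1 p.1.2 t) *ᵥ Pi.single I a =
      Pi.single I a + (if p.1.2 ∈ I.1 ∧ p.1.1 ∉ I.1 then
        Pi.single (repl I p.1.1 p.1.2) (((rsgn I p.1.1 p.1.2 : ℤ) : F) * t * a) else 0) := by
  classical
  ext J
  have h1 : (Mm (Matrix.transvection p.1.1 p.1.2 t) *ᵥ Pi.single I a) J =
      minor (Matrix.transvection p.1.1 p.1.2 t) J I * a := by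
    simp [Matrix.mulVec, dotProduct, Pi.single_apply, Mm]
  rw [h1, minor_transvection]
  by_cases hc : p.1.2 ∈ I.1 ∧ p.1.1 ∉ I.1
  · rw [if_pos hc]
    by_cases hJI : J = I
    · subst hJI
      have hne : J ≠ repl J p.1.1 p.1.2 := by
        intro h
        have h2 : p.1.1 ∈ (repl J p.1.1 p.1.2).1 := by
          unfold repl
          rw [dif_pos hc]
          exact Finset.mem_insert_self _ _
        rw [← h] at h2
        exact hc.2 h2
      simp [Pi.single_apply, hne]
    · by_cases hJr : J = repl I p.1.1 p.1.2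
      · subst hJr
        have hne : repl I p.1.1 p.1.2 ≠ I := hJI
        rw [if_neg hne, if_pos ⟨hc.1, hc.2, rfl⟩, Pi.add_apply, Pi.single_eq_of_ne hne,
          Pi.single_eq_same]
        ring
      · simp [Pi.single_apply, hJI, hJr]
  · rw [if_neg hc]
    have h3 : ¬ (p.1.2 ∈ I.1 ∧ p.1.1 ∉ I.1 ∧ J = repl I p.1.1 p.1.2) := fun h => hc ⟨h.1, h.2.1⟩
    rw [if_neg h3]
    by_cases hJI : J = I
    · simp [Pi.single_apply, hJI]
    · simp [Pi.single_apply, hJI]

end Cfsg.Agent.Lib.Helper2.E6MMTV
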