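import Mathlib
import Cfsg.Agent.Lib.Helper5.E6MDefs
import Cfsg.Agent.Lib.Helper2.E6MCell
import Cfsg.Agent.Lib.Helper2.E6MCoord

/-!
# E6M farm (S2340): unit NMOV, generic counting lemmas

`sum_first`: for a function `c` with `c l = [l ∈ Cell I]` whenever `l I ≠ 0`, the sum of `c` over the
`l` with `l I ≠ 0` and `l J = 0` for `J ∈ E` is `(q - 1) q^(9 - |Z|)` when the conditions `l J = 0`
amount to the vanishing of the entries `Z` of the matrix `A`.
-/

set_option autoImplicit false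
set_option linter.style.haveILetI false

namespace Cfsg.Agent.Lib.Helper2.E6MNMOV

open Matrix Cfsg.Agent.Lib.Helper5.E6M Cfsg.Agent.Lib.Helper5.E6M.T3 Cfsg.Agent.Lib.Helper2.E6MCell

variable {F : Type*} [Field F] [Fintype F] [DecidableEq F]

/-- the number of `3 × 3` matrices with prescribed zero entries -/
theorem card_zero_entries (Z : Finset (Fin 3 × Fin 3)) :
    Nat.card {A : Matrix (Fin 3) (Fin 3) F // ∀ z ∈ Z, A z.1 z.2 = 0} =
      Fintype.card F ^ (9 - Z.card) := by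
  classical
  let e : {A : Matrix (Fin 3) (Fin 3) F // ∀ z ∈ Z, A z.1 z.2 = 0} ≃
      ({z : Fin 3 × Fin 3 // z ∉ Z} → F) :=
    { toFun := fun A z => A.1 z.1.1 z.1.2
      invFun := fun f => ⟨fun i j => if h : (i, j) ∈ Z then 0 else f ⟨(i, j), h⟩, by
        intro z hz
        simp [hz]⟩
      left_inv := by
        rintro ⟨A, hA⟩
        apply Subtype.ext
        ext i j
        by_cases h : (i, j) ∈ Z
        · simp [h, hA (i, j) h]
        · simp [h]
      right_inv := by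
        intro f
        funext z
        obtain ⟨⟨i, j⟩, hz⟩ := z
        simp [hz] }
  rw [Nat.card_congr e, Nat.card_eq_fintype_card, Fintype.card_fun, Fintype.card_subtype_compl]
  congr 1
  rw [Fintype.card_prod, Fintype.card_fin, Fintype.card_coe]

/-- the elements of a cell with prescribed zero coordinates -/
theorem card_cell_zero (I : T3) (E : Finset T3) (Z : Finset (Fin 3 × Fin 3))
    (hZ : ∀ A : Matrix (Fin 3) (Fin 3) F,
      (∀ J ∈ E, pl (cellMat I A) J = 0) ↔ (∀ z ∈ Z, A z.1 z.2 = 0)) :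
    Nat.card {l : T3 → F // l ∈ Cell I ∧ ∀ J ∈ E, l J = 0} =
      (Fintype.card F - 1) * Fintype.card F ^ (9 - Z.card) := by
  classical
  have hbij : Function.Bijective
      (fun p : {c : F // c ≠ 0} × {A : Matrix (Fin 3) (Fin 3) F // ∀ z ∈ Z, A z.1 z.2 = 0} =>
        (⟨p.1.1 • pl (cellMat I p.2.1), ⟨⟨p.1.1, p.2.1, p.1.2, rfl⟩, by
          intro J hJ
          rw [Pi.smul_apply, smul_eq_mul, ((hZ p.2.1).mpr p.2.2) J hJ, mul_zero]⟩⟩ :
          {l : T3 → F // l ∈ Cell I ∧ ∀ J ∈ E, l J = 0})) := by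
    constructor
    · rintro ⟨⟨c, hc⟩, ⟨A, hA⟩⟩ ⟨⟨c', hc'⟩, ⟨A', hA'⟩⟩ h
      have h1 := congrArg Subtype.val h
      obtain ⟨h2, h3⟩ := cell_param_injective I c c' hc A A' h1
      subst h2
      subst h3
      rfl
    · rintro ⟨l, ⟨c, A, hc, rfl⟩, hl⟩
      have hA : ∀ z ∈ Z, A z.1 z.2 = 0 := by
        apply (hZ A).mp
        intro J hJ
        have := hl J hJ
        rw [Pi.smul_apply, smul_eq_mul] at this
        exact (mul_eq_zero.mp this).resolve_left hc
      exact ⟨⟨⟨c, hc⟩, ⟨A, hA⟩⟩, rfl⟩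
  rw [← Nat.card_congr (Equiv.ofBijective _ hbij), Nat.card_prod, card_zero_entries]
  congr 1
  rw [Nat.card_eq_fintype_card, Fintype.card_subtype_compl, Fintype.card_subtype_eq]

/-- the contribution of one chain step -/
theorem sum_first (c : (T3 → F) → ℕ)
    (hc : ∀ (I : T3) (l : T3 → F), l I ≠ 0 → (l ∈ Cell I → c l = 1) ∧ (l ∉ Cell I → c l = 0))
    (I : T3) (E : Finset T3) (Z : Finset (Fin 3 × Fin 3))
    (hZ : ∀ A : Matrix (Fin 3) (Fin 3) F,
      (∀ J ∈ E, pl (cellMat I A) J = 0) ↔ (∀ z ∈ Z, A z.1 z.2 = 0)) :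
    ∑ l ∈ Finset.univ.filter (fun l : T3 → F => l I ≠ 0 ∧ ∀ J ∈ E, l J = 0), c l =
      (Fintype.card F - 1) * Fintype.card F ^ (9 - Z.card) := by
  classical
  rw [← card_cell_zero I E Z hZ, Nat.card_eq_fintype_card, Fintype.card_subtype]
  have h1 : ∀ l ∈ Finset.univ.filter (fun l : T3 → F => l I ≠ 0 ∧ ∀ J ∈ E, l J = 0),
      c l = if l ∈ Cell I then 1 else 0 := by
    intro l hl
    rw [Finset.mem_filter] at hl
    by_cases h : l ∈ Cell I
    · rw [if_pos h]; exact (hc I l hl.2.1).1 h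
    · rw [if_neg h]; exact (hc I l hl.2.1).2 h
  rw [Finset.sum_congr rfl h1, Finset.sum_boole, Finset.filter_filter]
  simp only [Nat.cast_id]
  congr 1
  ext l
  simp only [Finset.mem_filter, Finset.mem_univ, true_and]
  constructor
  · rintro ⟨⟨_, h2⟩, h3⟩
    exact ⟨h3, h2⟩
  · rintro ⟨h3, h2⟩
    refine ⟨⟨?_, h2⟩, h3⟩
    obtain ⟨c0, A, hc0, rfl⟩ := h3
    rw [Pi.smul_apply, smul_eq_mul, cell_coord, mul_one]
    exact hc0

end Cfsg.Agent.Lib.Helper2.E6MNMOV
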