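import Mathlib
import Cfsg.Agent.Lib.Helper5.E6MDefs
import Cfsg.Agent.Lib.Helper2.E6MNMOV1

/-!
# E6M farm (S2340): unit NMOV

The characters moved by `X_{03}` are counted along the chain `012, 014, 015, 024, 025, 045`.
-/

set_option autoImplicit false
set_option linter.style.haveILetI false

namespace Cfsg.Agent.Lib.Helper2.E6MNMOV

open Matrix Cfsg.Agent.Lib.Helper5.E6M Cfsg.Agent.Lib.Helper5.E6M.T3 Cfsg.Agent.Lib.Helper2.E6MCell

def K1 : T3 := mk' 0 1 4
def K2 : T3 := mk' 0 1 5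
def K3 : T3 := mk' 0 2 4
def K4 : T3 := mk' 0 2 5

theorem moved_index : ∀ I : T3, ((0 : Fin 6) ∈ I.1 ∧ (3 : Fin 6) ∉ I.1) ↔
    (I = I012 ∨ I = K1 ∨ I = K2 ∨ I = K3 ∨ I = K4 ∨ I = I045) := by decide

theorem d10 : desc K1 I012 = ![(true, 0), (true, 1), (false, 0)] := by decide
theorem d20 : desc K2 I012 = ![(true, 0), (true, 1), (false, 0)] := by decide
theorem d21 : desc K2 K1 = ![(true, 0), (true, 1), (false, 2)] := by decide
theorem d30 : desc K3 I012 = ![(true, 0), (false, 0), (true, 1)] := by decide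
theorem d31 : desc K3 K1 = ![(true, 0), (false, 0), (true, 2)] := by decide
theorem d32 : desc K3 K2 = ![(true, 0), (false, 0), (false, 2)] := by decide
theorem d40 : desc K4 I012 = ![(true, 0), (false, 0), (true, 1)] := by decide
theorem d41 : desc K4 K1 = ![(true, 0), (false, 0), (false, 2)] := by decide
theorem d42 : desc K4 K2 = ![(true, 0), (false, 0), (true, 2)] := by decide
theorem d43 : desc K4 K3 = ![(true, 0), (true, 1), (false, 2)] := by decide
theorem d50 : desc I045 I012 = ![(true, 0), (false, 0), (false, 1)] := by decide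
theorem d51 : desc I045 K1 = ![(true, 0), (false, 0), (true, 1)] := by decide
theorem d52 : desc I045 K2 = ![(true, 0), (false, 0), (true, 2)] := by decide
theorem d53 : desc I045 K3 = ![(true, 0), (false, 1), (true, 1)] := by decide
theorem d54 : desc I045 K4 = ![(true, 0), (false, 1), (true, 2)] := by decide

variable {F : Type*} [Field F]

section coords

variable (A : Matrix (Fin 3) (Fin 3) F)

theorem c10 : pl (cellMat K1 A) I012 = A 0 2 := by
  rw [pl_cellMat, d10]; simp [det3', rowD]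
theorem c20 : pl (cellMat K2 A) I012 = A 0 2 := by
  rw [pl_cellMat, d20]; simp [det3', rowD]
theorem c21 : pl (cellMat K2 A) K1 = A 2 2 := by
  rw [pl_cellMat, d21]; simp [det3', rowD]
theorem c30 : pl (cellMat K3 A) I012 = -A 0 2 := by
  rw [pl_cellMat, d30]; simp [det3', rowD]
theorem c31 : pl (cellMat K3 A) K1 = A 0 1 := by
  rw [pl_cellMat, d31]; simp [det3', rowD]
theorem c32 : pl (cellMat K3 A) K2 = A 0 1 * A 2 2 - A 0 2 * A 2 1 := by
  rw [pl_cellMat, d32]; simp [det3', rowD]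
theorem c40 : pl (cellMat K4 A) I012 = -A 0 2 := by
  rw [pl_cellMat, d40]; simp [det3', rowD]
theorem c41 : pl (cellMat K4 A) K1 = A 0 1 * A 2 2 - A 0 2 * A 2 1 := by
  rw [pl_cellMat, d41]; simp [det3', rowD]
theorem c42 : pl (cellMat K4 A) K2 = A 0 1 := by
  rw [pl_cellMat, d42]; simp [det3', rowD]
theorem c43 : pl (cellMat K4 A) K3 = A 2 2 := by
  rw [pl_cellMat, d43]; simp [det3', rowD]
theorem c50 : pl (cellMat I045 A) I012 = A 0 1 * A 1 2 - A 0 2 * A 1 1 := by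
  rw [pl_cellMat, d50]; simp [det3', rowD]
theorem c51 : pl (cellMat I045 A) K1 = -A 0 2 := by
  rw [pl_cellMat, d51]; simp [det3', rowD]
theorem c52 : pl (cellMat I045 A) K2 = A 0 1 := by
  rw [pl_cellMat, d52]; simp [det3', rowD]
theorem c53 : pl (cellMat I045 A) K3 = -A 1 2 := by
  rw [pl_cellMat, d53]; simp [det3', rowD]
theorem c54 : pl (cellMat I045 A) K4 = A 1 1 := by
  rw [pl_cellMat, d54]; simp [det3', rowD]

end coords

variable [Fintype F] [DecidableEq F]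

theorem hZ0 (A : Matrix (Fin 3) (Fin 3) F) :
    (∀ J ∈ (∅ : Finset T3), pl (cellMat I012 A) J = 0) ↔
      (∀ z ∈ (∅ : Finset (Fin 3 × Fin 3)), A z.1 z.2 = 0) := by simp

theorem hZ1 (A : Matrix (Fin 3) (Fin 3) F) :
    (∀ J ∈ ({I012} : Finset T3), pl (cellMat K1 A) J = 0) ↔
      (∀ z ∈ ({(0, 2)} : Finset (Fin 3 × Fin 3)), A z.1 z.2 = 0) := by
  simp only [Finset.mem_singleton, forall_eq, c10]

theorem hZ2 (A : Matrix (Fin 3) (Fin 3) F) :
    (∀ J ∈ ({I012, K1} : Finset T3), pl (cellMat K2 A) J = 0) ↔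
      (∀ z ∈ ({(0, 2), (2, 2)} : Finset (Fin 3 × Fin 3)), A z.1 z.2 = 0) := by
  simp only [Finset.mem_insert, Finset.mem_singleton, forall_eq_or_imp, forall_eq, c20, c21]

theorem hZ3 (A : Matrix (Fin 3) (Fin 3) F) :
    (∀ J ∈ ({I012, K1, K2} : Finset T3), pl (cellMat K3 A) J = 0) ↔
      (∀ z ∈ ({(0, 2), (0, 1)} : Finset (Fin 3 × Fin 3)), A z.1 z.2 = 0) := by
  simp only [Finset.mem_insert, Finset.mem_singleton, forall_eq_or_imp, forall_eq, c30, c31, c32,
    neg_eq_zero]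
  constructor
  · rintro ⟨h1, h2, _⟩
    exact ⟨h1, h2⟩
  · rintro ⟨h1, h2⟩
    refine ⟨h1, h2, ?_⟩
    rw [h1, h2]; ring

theorem hZ4 (A : Matrix (Fin 3) (Fin 3) F) :
    (∀ J ∈ ({I012, K1, K2, K3} : Finset T3), pl (cellMat K4 A) J = 0) ↔
      (∀ z ∈ ({(0, 2), (0, 1), (2, 2)} : Finset (Fin 3 × Fin 3)), A z.1 z.2 = 0) := by
  simp only [Finset.mem_insert, Finset.mem_singleton, forall_eq_or_imp, forall_eq, c40, c41, c42,
    c43, neg_eq_zero]
  constructor
  · rintro ⟨h1, _, h2, h3⟩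
    exact ⟨h1, h2, h3⟩
  · rintro ⟨h1, h2, h3⟩
    refine ⟨h1, ?_, h2, h3⟩
    rw [h1, h2]; ring

theorem hZ5 (A : Matrix (Fin 3) (Fin 3) F) :
    (∀ J ∈ ({I012, K1, K2, K3, K4} : Finset T3), pl (cellMat I045 A) J = 0) ↔
      (∀ z ∈ ({(0, 2), (0, 1), (1, 2), (1, 1)} : Finset (Fin 3 × Fin 3)), A z.1 z.2 = 0) := by
  simp only [Finset.mem_insert, Finset.mem_singleton, forall_eq_or_imp, forall_eq, c50, c51, c52,
    c53, c54, neg_eq_zero]
  constructor
  · rintro ⟨_, h1, h2, h3, h4⟩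
    exact ⟨h1, h2, h3, h4⟩
  · rintro ⟨h1, h2, h3, h4⟩
    refine ⟨?_, h1, h2, h3, h4⟩
    rw [h1, h2]; ring

theorem moved_iff (l : T3 → F) : moved l ↔
    (l I012 ≠ 0 ∨ l K1 ≠ 0 ∨ l K2 ≠ 0 ∨ l K3 ≠ 0 ∨ l K4 ≠ 0 ∨ l I045 ≠ 0) := by
  unfold moved
  constructor
  · rintro ⟨I, h0, h3, hl⟩
    rcases (moved_index I).mp ⟨h0, h3⟩ with h | h | h | h | h | h <;> subst h <;> simp [hl]
  · rintro (h | h | h | h | h | h)
    · exact ⟨I012, ((moved_index I012).mpr (by simp)).1, ((moved_index I012).mpr (by simp)).2, h⟩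
    · exact ⟨K1, ((moved_index K1).mpr (by simp)).1, ((moved_index K1).mpr (by simp)).2, h⟩
    · exact ⟨K2, ((moved_index K2).mpr (by simp)).1, ((moved_index K2).mpr (by simp)).2, h⟩
    · exact ⟨K3, ((moved_index K3).mpr (by simp)).1, ((moved_index K3).mpr (by simp)).2, h⟩
    · exact ⟨K4, ((moved_index K4).mpr (by simp)).1, ((moved_index K4).mpr (by simp)).2, h⟩
    · exact ⟨I045, ((moved_index I045).mpr (by simp)).1, ((moved_index I045).mpr (by simp)).2, h⟩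

/-- unit NMOV -/
theorem nmov_aux (c : (T3 → F) → ℕ)
    (hc : ∀ (I : T3) (l : T3 → F), l I ≠ 0 → (l ∈ Cell I → c l = 1) ∧ (l ∉ Cell I → c l = 0)) :
    ∑ l ∈ Finset.univ.filter (fun l : T3 → F => moved l), c l =
      (Fintype.card F - 1) * (Fintype.card F ^ 9 + Fintype.card F ^ 8 + 2 * Fintype.card F ^ 7 +
        Fintype.card F ^ 6 + Fintype.card F ^ 5) := by
  have s0 := sum_first c hc I012 ∅ ∅ hZ0
  have s1 := sum_first c hc K1 {I012} {(0, 2)} hZ1
  have s2 := sum_first c hc K2 {I012, K1} {(0, 2), (2, 2)} hZ2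
  have s3 := sum_first c hc K3 {I012, K1, K2} {(0, 2), (0, 1)} hZ3
  have s4 := sum_first c hc K4 {I012, K1, K2, K3} {(0, 2), (0, 1), (2, 2)} hZ4
  have s5 := sum_first c hc I045 {I012, K1, K2, K3, K4} {(0, 2), (0, 1), (1, 2), (1, 1)} hZ5
  have e0 : 9 - (∅ : Finset (Fin 3 × Fin 3)).card = 9 := by decide
  have e1 : 9 - ({(0, 2)} : Finset (Fin 3 × Fin 3)).card = 8 := by decide
  have e2 : 9 - ({(0, 2), (2, 2)} : Finset (Fin 3 × Fin 3)).card = 7 := by decide
  have e3 : 9 - ({(0, 2), (0, 1)} : Finset (Fin 3 × Fin 3)).card = 7 := by decide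
  have e4 : 9 - ({(0, 2), (0, 1), (2, 2)} : Finset (Fin 3 × Fin 3)).card = 6 := by decide
  have e5 : 9 - ({(0, 2), (0, 1), (1, 2), (1, 1)} : Finset (Fin 3 × Fin 3)).card = 5 := by decide
  rw [e0] at s0; rw [e1] at s1; rw [e2] at s2; rw [e3] at s3; rw [e4] at s4; rw [e5] at s5
  have key : ∀ l : T3 → F, (if moved l then c l else 0) =
      (if (l I012 ≠ 0 ∧ ∀ J ∈ (∅ : Finset T3), l J = 0) then c l else 0) +
      (if (l K1 ≠ 0 ∧ ∀ J ∈ ({I012} : Finset T3), l J = 0) then c l else 0) +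
      (if (l K2 ≠ 0 ∧ ∀ J ∈ ({I012, K1} : Finset T3), l J = 0) then c l else 0) +
      (if (l K3 ≠ 0 ∧ ∀ J ∈ ({I012, K1, K2} : Finset T3), l J = 0) then c l else 0) +
      (if (l K4 ≠ 0 ∧ ∀ J ∈ ({I012, K1, K2, K3} : Finset T3), l J = 0) then c l else 0) +
      (if (l I045 ≠ 0 ∧ ∀ J ∈ ({I012, K1, K2, K3, K4} : Finset T3), l J = 0) then c l else 0) := by
    intro l
    simp only [moved_iff, Finset.mem_insert, Finset.mem_singleton, forall_eq_or_imp, forall_eq,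
      Finset.notMem_empty, false_imp_iff, implies_true, and_true]
    by_cases h0 : l I012 = 0 <;> by_cases h1 : l K1 = 0 <;> by_cases h2 : l K2 = 0 <;>
      by_cases h3 : l K3 = 0 <;> by_cases h4 : l K4 = 0 <;> by_cases h5 : l I045 = 0 <;>
      simp [h0, h1, h2, h3, h4, h5]
  rw [Finset.sum_filter, Finset.sum_congr rfl (fun l _ => key l)]
  simp only [Finset.sum_add_distrib]
  rw [← Finset.sum_filter, ← Finset.sum_filter, ← Finset.sum_filter, ← Finset.sum_filter,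
    ← Finset.sum_filter, ← Finset.sum_filter, s0, s1, s2, s3, s4, s5]
  ring

end Cfsg.Agent.Lib.Helper2.E6MNMOV

namespace Cfsg.Agent.Lib.Helper2.E6MNMOVV

open Matrix Cfsg.Agent.Lib.Helper5.E6M

variable {F : Type*} [Field F] [Fintype F] [DecidableEq F]

variable (c : (T3 → F) → ℕ)

/-- unit NMOV (verbatim as in helper5's stubs) -/
theorem nmov
    (hc : ∀ (I : T3) (l : T3 → F), l I ≠ 0 → (l ∈ Cell I → c l = 1) ∧ (l ∉ Cell I → c l = 0)) :
    ∑ l ∈ Finset.univ.filter (fun l : T3 → F => moved l), c l =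
      (Fintype.card F - 1) * (Fintype.card F ^ 9 + Fintype.card F ^ 8 + 2 * Fintype.card F ^ 7 +
        Fintype.card F ^ 6 + Fintype.card F ^ 5) :=
  Cfsg.Agent.Lib.Helper2.E6MNMOV.nmov_aux c hc

end Cfsg.Agent.Lib.Helper2.E6MNMOVV
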