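import Mathlib
import Cfsg.Agent.S2332
import Cfsg.Agent.Lib.Helper4.SLnGen
import Cfsg.Agent.Lib.Helper2.E6MNontrivFD

/-!
# E6M unit NONTRIV (S2340 farm, helper5)

A complex representation of `SL_n(F)` (`n ≥ 3`, `(n, q)` not one of `(3,2), (3,4), (4,2), (4,3)`) on
which some element acts nontrivially has degree at least `(q^n - q)/(q - 1)`.
From S2332 (irreducible representations of degree `≥ 2`), complete reducibility (helper6's
decomposition of characters) and the perfectness of `SL_n(F)` (helper4).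
-/

set_option autoImplicit false

namespace Cfsg.Agent.Lib.Helper2.E6MNontriv

/-- NONTRIV, coordinate form. -/
theorem sl_degree_ge {F : Type*} [Field F] [Fintype F] [DecidableEq F] (n : ℕ) (hn : 3 ≤ n)
    (hex : (n, Fintype.card F) ≠ (3, 2) ∧ (n, Fintype.card F) ≠ (3, 4) ∧
      (n, Fintype.card F) ≠ (4, 2) ∧ (n, Fintype.card F) ≠ (4, 3))
    {k : ℕ} (ρ : Representation ℂ (Matrix.SpecialLinearGroup (Fin n) F) (Fin k → ℂ))
    (g : Matrix.SpecialLinearGroup (Fin n) F) (hg : ρ g ≠ 1) :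
    (Fintype.card F ^ n - Fintype.card F) / (Fintype.card F - 1) ≤ k :=
  degree_ge_of_acts_nontrivially
    (Cfsg.Agent.Lib.Helper4.SL_commutator_eq_top (by rw [Fintype.card_fin]; exact hn)) _
    (Cfsg.Agent.S2332.result n hn hex).1 ρ g hg

/-- NONTRIV, arbitrary finite-dimensional space. -/
theorem sl_finrank_ge {F : Type*} [Field F] [Fintype F] [DecidableEq F] (n : ℕ) (hn : 3 ≤ n)
    (hex : (n, Fintype.card F) ≠ (3, 2) ∧ (n, Fintype.card F) ≠ (3, 4) ∧
      (n, Fintype.card F) ≠ (4, 2) ∧ (n, Fintype.card F) ≠ (4, 3))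
    {V : Type*} [AddCommGroup V] [Module ℂ V] [FiniteDimensional ℂ V]
    (ρ : Representation ℂ (Matrix.SpecialLinearGroup (Fin n) F) V)
    (g : Matrix.SpecialLinearGroup (Fin n) F) (hg : ρ g ≠ 1) :
    (Fintype.card F ^ n - Fintype.card F) / (Fintype.card F - 1) ≤ Module.finrank ℂ V :=
  finrank_ge_of_acts_nontrivially
    (Cfsg.Agent.Lib.Helper4.SL_commutator_eq_top (by rw [Fintype.card_fin]; exact hn)) _
    (Cfsg.Agent.S2332.result n hn hex).1 ρ g hg

/-- NONTRIV, pulled back along a homomorphism `φ : SL_n(F) →* G` (the shape used for a Levi factor):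
if `ρ (φ g) ≠ 1` then the space has dimension at least `(q^n - q)/(q - 1)`. -/
theorem finrank_ge_of_hom {F : Type*} [Field F] [Fintype F] [DecidableEq F] (n : ℕ) (hn : 3 ≤ n)
    (hex : (n, Fintype.card F) ≠ (3, 2) ∧ (n, Fintype.card F) ≠ (3, 4) ∧
      (n, Fintype.card F) ≠ (4, 2) ∧ (n, Fintype.card F) ≠ (4, 3))
    {G : Type*} [Group G] (φ : Matrix.SpecialLinearGroup (Fin n) F →* G)
    {V : Type*} [AddCommGroup V] [Module ℂ V] [FiniteDimensional ℂ V]
    (ρ : Representation ℂ G V)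
    (g : Matrix.SpecialLinearGroup (Fin n) F) (hg : ρ (φ g) ≠ 1) :
    (Fintype.card F ^ n - Fintype.card F) / (Fintype.card F - 1) ≤ Module.finrank ℂ V :=
  sl_finrank_ge n hn hex (MonoidHom.comp ρ φ : Representation ℂ _ V) g hg

end Cfsg.Agent.Lib.Helper2.E6MNontriv
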