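import Mathlib
import Cfsg.Agent.Lib.Helper5.E6MDefs
import Cfsg.Agent.Lib.Helper2.E6MNontriv

/-!
# E6M unit WREP (S2340 farm, helper5), with the PROJ facts as hypotheses

`W = range (eL 0) = C_V(Q)` is stable under `ρ ∘ φ`, has dimension `cM 0`, and some `tv p03 t` acts
non-trivially on it: NONTRIV gives `cM 0 ≥ (q^6 - q)/(q - 1)`.
-/

set_option autoImplicit false
set_option linter.style.haveILetI false

namespace Cfsg.Agent.Lib.Helper2.E6MWREP

open Matrix Cfsg.Agent.Lib.Helper5.E6M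

section

variable {F : Type*} [Field F] [Fintype F] [DecidableEq F] {G : Type*} [Group G] (D : Data F G)
  (ψ : AddChar F ℂ)
  {V : Type*} [AddCommGroup V] [Module ℂ V] [FiniteDimensional ℂ V] (ρ : Representation ℂ G V)
  (φ : SL6 F →* G)

/-- a representation of `H` restricted to a stable subspace -/
noncomputable def subRep {H : Type*} [Group H] (σ : Representation ℂ H V) (W : Submodule ℂ V)
    (hW : ∀ (g : H), ∀ w ∈ W, σ g w ∈ W) : Representation ℂ H W where
  toFun g := (σ g).restrict (hW g)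
  map_one' := by
    apply LinearMap.ext
    intro w
    apply Subtype.ext
    simp [LinearMap.restrict_apply]
  map_mul' g g' := by
    apply LinearMap.ext
    intro w
    apply Subtype.ext
    simp [LinearMap.restrict_apply]

theorem subRep_apply {H : Type*} [Group H] (σ : Representation ℂ H V) (W : Submodule ℂ V)
    (hW : ∀ (g : H), ∀ w ∈ W, σ g w ∈ W) (g : H) (w : W) :
    ((subRep σ W hW g w : W) : V) = σ g w := rfl

theorem c0_ge_of
    (hφ : ∀ (p : IJ) (t : F), φ (tv p t) = D.xij p t)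
    (hidem : eL D ψ ρ 0 ∘ₗ eL D ψ ρ 0 = eL D ψ ρ 0)
    (hconj : ∀ g : SL6 F, ρ (φ g) ∘ₗ eL D ψ ρ 0 = eL D ψ ρ 0 ∘ₗ ρ (φ g))
    (htrace : LinearMap.trace ℂ V (eL D ψ ρ 0) = cM D ψ ρ.character 0)
    (hnt : ¬ ∀ t : F, ρ (D.xij p03 t) ∘ₗ eL D ψ ρ 0 = eL D ψ ρ 0) :
    ∃ n : ℕ, cM D ψ ρ.character 0 = n ∧
      (Fintype.card F ^ 6 - Fintype.card F) / (Fintype.card F - 1) ≤ n := by
  set e0 := eL D ψ ρ 0 with he0
  have hid : IsIdempotentElem e0 := hidem
  have hfix : ∀ w ∈ LinearMap.range e0, e0 w = w := by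
    rintro _ ⟨v, rfl⟩
    exact LinearMap.congr_fun hidem v
  have hW : ∀ (g : SL6 F), ∀ w ∈ LinearMap.range e0,
      (MonoidHom.comp ρ φ : Representation ℂ (SL6 F) V) g w ∈ LinearMap.range e0 := by
    rintro g _ ⟨v, rfl⟩
    refine ⟨ρ (φ g) v, ?_⟩
    have := LinearMap.congr_fun (hconj g) v
    simp only [LinearMap.comp_apply] at this
    rw [← this]
    rfl
  refine ⟨Module.finrank ℂ (LinearMap.range e0), ?_, ?_⟩
  · rw [← htrace]
    exact (LinearMap.IsIdempotentElem.isProj_range e0 hid).trace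
  · push Not at hnt
    obtain ⟨t, ht⟩ := hnt
    have hex : (6, Fintype.card F) ≠ (3, 2) ∧ (6, Fintype.card F) ≠ (3, 4) ∧
        (6, Fintype.card F) ≠ (4, 2) ∧ (6, Fintype.card F) ≠ (4, 3) := by
      refine ⟨?_, ?_, ?_, ?_⟩ <;> intro h <;> simp at h
    apply Cfsg.Agent.Lib.Helper2.E6MNontriv.sl_finrank_ge 6 (by norm_num) hex
      (subRep (MonoidHom.comp ρ φ : Representation ℂ (SL6 F) V) (LinearMap.range e0) hW)
      (tv p03 t)
    intro h1
    apply ht
    apply LinearMap.ext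
    intro v
    have h2 := LinearMap.congr_fun h1 ⟨e0 v, LinearMap.mem_range_self e0 v⟩
    have h3 := congrArg Subtype.val h2
    rw [subRep_apply] at h3
    simp only [MonoidHom.coe_comp, Function.comp_apply, hφ] at h3
    exact h3

end

end Cfsg.Agent.Lib.Helper2.E6MWREP
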