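import Mathlib
import Cfsg.Agent.Lib.Helper5.E6MDefs
import Cfsg.Agent.Lib.Helper2.E6MWREP0
import Cfsg.Agent.Lib.Helper8.E6MPROJ
import Cfsg.Agent.Lib.Helper6.E6MLING
import Cfsg.Agent.Lib.Helper6.E6MMHOM

/-!
# E6M farm (S2340): unit WREP, verbatim

`c0_ge` as in helper5's stubs, from `c0_ge_of` (E6MWREP0), helper8's PROJ (`eL_idem`, `trace_eL`,
`eL_conj_of`), helper6's LING (`phi_conj_Phi`) and MHOM (`Mm_mul`, `Mm_one`, `Mm_transpose`).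
-/

set_option autoImplicit false

namespace Cfsg.Agent.Lib.Helper2.E6MWREPV

open Matrix Cfsg.Agent.Lib.Helper5.E6M

section

variable {F : Type*} [Field F] [Fintype F] [DecidableEq F] {G : Type*} [Group G] (D : Data F G)
  (hD : Rel D) (ψ : AddChar F ℂ) (hψ : ψ ≠ 1)
  {V : Type*} [AddCommGroup V] [Module ℂ V] [FiniteDimensional ℂ V] (ρ : Representation ℂ G V)
  (φ : SL6 F →* G) (hφ : ∀ (p : IJ) (t : F), φ (tv p t) = D.xij p t)

include hD hφ in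
/-- unit WREP (uses NONTRIV) -/
theorem c0_ge
    (hnt : ¬ ∀ t : F, ρ (D.xij p03 t) ∘ₗ eL D ψ ρ 0 = eL D ψ ρ 0) :
    ∃ n : ℕ, cM D ψ ρ.character 0 = n ∧
      (Fintype.card F ^ 6 - Fintype.card F) / (Fintype.card F - 1) ≤ n :=
  Cfsg.Agent.Lib.Helper2.E6MWREP.c0_ge_of D ψ ρ φ hφ
    (Cfsg.Agent.Lib.Helper8.E6M.eL_idem D hD ψ ρ 0)
    (fun g => by
      have h := Cfsg.Agent.Lib.Helper8.E6M.eL_conj_of (D := D) (ψ := ψ) (ρ := ρ) (φ := φ)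
        (fun g s => Cfsg.Agent.Lib.Helper6.E6MLING.phi_conj_Phi D hD φ hφ g s)
        (fun g g' => Cfsg.Agent.Lib.Helper6.E6MMHOM.Mm_mul g g')
        Cfsg.Agent.Lib.Helper6.E6MMHOM.Mm_one Cfsg.Agent.Lib.Helper6.E6MMHOM.Mm_transpose g 0
      rwa [Matrix.mulVec_zero] at h)
    (Cfsg.Agent.Lib.Helper8.E6M.trace_eL D ψ ρ 0) hnt

end

end Cfsg.Agent.Lib.Helper2.E6MWREPV
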