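import Mathlib
import Cfsg.Prelude.Def_ChevE7
import Cfsg.Agent.Lib.Helper2.RankGen

set_option autoImplicit false

/-! rank certificates for products of root elements of `chevE7`, characteristic 2 (generated) -/

namespace Cfsg.Agent.Lib.Helper2.E7EvRank

open Cfsg Cfsg.Lie Cfsg.Agent.Lib.Helper5.ChevSym Cfsg.Agent.Lib.Helper5.ChevSymP
  Cfsg.Agent.Lib.Helper2.RankGen

/-- the roots of the representative `y0` (rank of `y0 - 1` is 34) -/
def ys0 : List ℕ := [125]
def basis0 : List ℕ :=
  [0, 7, 8, 9, 10, 11, 12, 13, 14, 15, 16, 17, 18, 19, 20, 21, 22, 23, 24, 25, 26, 27, 28, 29, 30, 31, 32, 33, 34, 35, 36, 37, 38, 39]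
def combo0 : List (List ℕ) :=
  [[0], [], [], [], [], [], [], [7], [8], [9], [10], [11], [12], [13], [14], [15], [16], [17], [18], [19], [20], [21], [22], [23], [24], [25], [26], [27], [28], [29], [30], [31], [32], [33], [34], [35], [36], [37], [38], [39], [], [], [], [], [], [], [], [], [], [], [], [], [], [], [], [], [], [], [], [], [], [], [], [], [], [], [], [], [], [], [], [], [], [], [], [], [], [], [], [], [], [], [], [], [], [], [], [], [], [], [], [], [], [], [], [], [], [], [], [], [], [], [], [], [], [], [], [], [], [], [], [], [], [], [], [], [], [], [], [], [], [], [], [], [], [], [], [], [], [], [], [], []]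
def rowsL0 : List (List ℕ) :=
  [[2, 132], [131], [130], [129], [128], [127], [126], [125], [124], [123], [122], [121], [120], [119], [118], [117], [116], [115], [114], [113], [112], [111], [110], [109], [108], [107], [106], [105], [104], [103], [102], [101], [100], [2]]
def colA0 : List ℕ :=
  [0, 39, 38, 37, 36, 35, 34, 33, 32, 31, 30, 29, 28, 27, 26, 25, 24, 23, 22, 21, 20, 19, 18, 17, 16, 15, 14, 13, 12, 11, 10, 9, 8, 7]

set_option maxRecDepth 1000000 in
theorem chkUp0 : chkUp chevE7 (sW ys0) basis0 combo0 = true := by decide +kernel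

set_option maxRecDepth 1000000 in
theorem chkLow0 : chkLow chevE7 (sW ys0) rowsL0 colA0 = true := by decide +kernel

theorem basis0_length : basis0.length = 34 := by decide
theorem colA0_length : colA0.length = 34 := by decide

/-- the roots of the representative `y1` (rank of `y1 - 1` is 52) -/
def ys1 : List ℕ := [125, 92]
def basis1 : List ℕ :=
  [0, 5, 7, 8, 9, 10, 11, 12, 13, 14, 15, 16, 17, 18, 19, 20, 21, 22, 23, 24, 25, 26, 27, 28, 29, 30, 31, 32, 33, 34, 35, 36, 37, 38, 39, 40, 41, 42, 43, 44, 46, 47, 50, 51, 55, 56, 60, 61, 64, 65, 67, 68]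
def combo1 : List (List ℕ) :=
  [[0], [], [], [], [], [5], [], [7], [8], [9], [10], [11], [12], [13], [14], [15], [16], [17], [18], [19], [20], [21], [22], [23], [24], [25], [26], [27], [28], [29], [30], [31], [32], [33], [34], [35], [36], [37], [38], [39], [40], [41], [42], [43], [44], [], [46], [47], [], [], [50], [51], [], [], [], [55], [56], [], [], [], [60], [61], [], [], [64], [65], [], [67], [68], [], [], [], [], [], [], [], [], [], [], [], [], [], [], [], [], [], [], [], [], [], [], [], [], [], [], [], [], [], [], [], [23], [29], [32], [33], [], [], [36], [37], [], [], [38], [], [], [], [], [], [39], [], [], [], [], [], [], [], [], [], [], [], [], [], [], [], []]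
def rowsL1 : List (List ℕ) :=
  [[1, 4, 99, 132], [39, 131], [38, 130], [37, 129], [36, 128], [33, 125], [32, 124], [29, 121], [23, 115], [1, 99], [127], [126], [123], [122], [120], [119], [118], [117], [114], [113], [112], [111], [109], [108], [105], [104], [98], [97], [96], [95], [93], [92], [89], [88], [84], [83], [79], [78], [75], [74], [72], [71], [39], [38], [37], [36], [33], [32], [29], [23], [4], [1]]
def colA1 : List ℕ :=
  [5, 39, 38, 37, 36, 33, 32, 29, 23, 0, 35, 34, 31, 30, 28, 27, 26, 25, 22, 21, 20, 19, 17, 16, 13, 12, 68, 67, 65, 64, 61, 60, 56, 55, 51, 50, 47, 46, 44, 43, 42, 41, 24, 18, 15, 14, 11, 10, 9, 8, 7, 40]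

set_option maxRecDepth 1000000 in
theorem chkUp1 : chkUp chevE7 (sW ys1) basis1 combo1 = true := by decide +kernel

set_option maxRecDepth 1000000 in
theorem chkLow1 : chkLow chevE7 (sW ys1) rowsL1 colA1 = true := by decide +kernel

theorem basis1_length : basis1.length = 52 := by decide
theorem colA1_length : colA1.length = 52 := by decide

/-- the roots of the representative `y2` (rank of `y2 - 1` is 53) -/
def ys2 : List ℕ := [125, 92, 63]
def basis2 : List ℕ :=
  [0, 5, 7, 8, 9, 10, 11, 12, 13, 14, 15, 16, 17, 18, 19, 20, 21, 22, 23, 24, 25, 26, 27, 28, 29, 30, 31, 32, 33, 34, 35, 36, 37, 38, 39, 40, 41, 42, 43, 44, 46, 47, 50, 51, 55, 56, 60, 61, 64, 65, 67, 68, 69]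
def combo2 : List (List ℕ) :=
  [[0], [], [], [], [], [5], [], [7], [8], [9], [10], [11], [12], [13], [14], [15], [16], [17], [18], [19], [20], [21], [22], [23], [24], [25], [26], [27], [28], [29], [30], [31], [32], [33], [34], [35], [36], [37], [38], [39], [40], [41], [42], [43], [44], [], [46], [47], [], [], [50], [51], [], [], [], [55], [56], [], [], [], [60], [61], [], [], [64], [65], [], [67], [68], [69], [], [42], [], [], [44], [], [], [], [47], [], [], [], [], [51], [], [], [], [], [56], [], [], [], [61], [], [], [65], [], [68], [], [], [23], [29], [32], [33], [13], [], [36], [37], [17], [], [38], [20], [], [22], [], [], [39], [26], [], [28], [], [], [31], [], [], [], [35], [], [], [], [], [], []]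
def rowsL2 : List (List ℕ) :=
  [[1, 4, 6], [4, 132], [39, 131], [38, 130], [37, 129], [36, 128], [35, 127], [33, 125], [32, 124], [31, 123], [29, 121], [28, 120], [26, 118], [23, 115], [22, 114], [20, 112], [17, 109], [13, 105], [68, 98], [65, 96], [61, 93], [56, 89], [51, 84], [47, 79], [44, 75], [42, 72], [70], [68], [65], [61], [56], [51], [47], [44], [42], [39], [38], [37], [36], [35], [33], [32], [31], [29], [28], [26], [23], [22], [20], [17], [13], [4], [1]]
def colA2 : List ℕ :=
  [69, 0, 39, 38, 37, 36, 35, 33, 32, 31, 29, 28, 26, 23, 22, 20, 17, 13, 68, 65, 61, 56, 51, 47, 44, 42, 5, 67, 64, 60, 55, 50, 46, 43, 41, 24, 18, 15, 14, 34, 11, 10, 30, 9, 27, 25, 8, 21, 19, 16, 12, 7, 40]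

set_option maxRecDepth 1000000 in
theorem chkUp2 : chkUp chevE7 (sW ys2) basis2 combo2 = true := by decide +kernel

set_option maxRecDepth 1000000 in
theorem chkLow2 : chkLow chevE7 (sW ys2) rowsL2 colA2 = true := by decide +kernel

theorem basis2_length : basis2.length = 53 := by decide
theorem colA2_length : colA2.length = 53 := by decide

/-- the roots of the representative `y3` (rank of `y3 - 1` is 62) -/
def ys3 : List ℕ := [125, 92, 87]
def basis3 : List ℕ :=
  [0, 3, 5, 7, 8, 9, 10, 11, 12, 13, 14, 15, 16, 17, 18, 19, 20, 21, 22, 23, 24, 25, 26, 27, 28, 29, 30, 31, 32, 33, 34, 35, 36, 37, 38, 39, 40, 41, 42, 43, 44, 45, 46, 47, 48, 49, 50, 51, 52, 53, 55, 56, 57, 58, 60, 61, 62, 63, 64, 65, 67, 68]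
def combo3 : List (List ℕ) :=
  [[0], [], [], [3], [], [5], [], [7], [8], [9], [10], [11], [12], [13], [14], [15], [16], [17], [18], [19], [20], [21], [22], [23], [24], [25], [26], [27], [28], [29], [30], [31], [32], [33], [34], [35], [36], [37], [38], [39], [40], [41], [42], [43], [44], [45], [46], [47], [48], [49], [50], [51], [52], [53], [], [55], [56], [57], [58], [], [60], [61], [62], [63], [64], [65], [], [67], [68], [], [], [64], [65], [], [67], [68], [], [], [], [], [], [], [], [], [], [], [], [], [], [], [], [], [], [], [], [], [], [], [], [], [18, 23, 38], [24, 29, 39], [32], [33], [30], [31], [36], [37], [34], [35], [38], [], [], [], [], [38], [39], [], [], [], [], [39], [], [], [], [], [], [], [], [], [], [], []]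
def rowsL3 : List (List ℕ) :=
  [[1, 4, 99, 132], [1, 94, 99], [1, 2, 4], [39, 131], [38, 130], [37, 129], [36, 128], [35, 127], [34, 126], [33, 125], [32, 124], [31, 123], [30, 122], [24, 121], [18, 115], [68, 98], [67, 97], [65, 96], [64, 95], [24, 39], [18, 38], [120], [119], [118], [117], [114], [113], [112], [111], [94], [93], [92], [91], [90], [89], [88], [87], [86], [84], [83], [82], [81], [79], [78], [77], [76], [68], [67], [65], [64], [37], [36], [35], [34], [33], [32], [31], [30], [24], [18], [4], [1]]
def colA3 : List ℕ :=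
  [5, 3, 45, 39, 38, 37, 36, 35, 34, 33, 32, 31, 30, 29, 23, 68, 67, 65, 64, 24, 18, 28, 27, 26, 25, 22, 21, 20, 19, 0, 61, 60, 63, 62, 56, 55, 58, 57, 51, 50, 53, 52, 47, 46, 49, 48, 44, 43, 42, 41, 15, 14, 17, 16, 11, 10, 13, 12, 9, 8, 7, 40]

set_option maxRecDepth 1000000 in
theorem chkUp3 : chkUp chevE7 (sW ys3) basis3 combo3 = true := by decide +kernel

set_option maxRecDepth 1000000 in
theorem chkLow3 : chkLow chevE7 (sW ys3) rowsL3 colA3 = true := by decide +kernel

theorem basis3_length : basis3.length = 62 := by decide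
theorem colA3_length : colA3.length = 62 := by decide

/-- the roots of the representative `y4` (rank of `y4 - 1` is 63) -/
def ys4 : List ℕ := [125, 92, 87, 78]
def basis4 : List ℕ :=
  [0, 3, 5, 7, 8, 9, 10, 11, 12, 13, 14, 15, 16, 17, 18, 19, 20, 21, 22, 23, 24, 25, 26, 27, 28, 29, 30, 31, 32, 33, 34, 35, 36, 37, 38, 39, 40, 41, 42, 43, 44, 45, 46, 47, 48, 49, 50, 51, 52, 53, 54, 55, 56, 57, 58, 60, 61, 62, 63, 64, 65, 67, 68]
def combo4 : List (List ℕ) :=
  [[0], [], [], [3], [], [5], [], [7], [8], [9], [10], [11], [12], [13], [14], [15], [16], [17], [18], [19], [20], [21], [22], [23], [24], [25], [26], [27], [28], [29], [30], [31], [32], [33], [34], [35], [36], [37], [38], [39], [40], [41], [42], [43], [44], [45], [46], [47], [48], [49], [50], [51], [52], [53], [54], [55], [56], [57], [58], [], [60], [61], [62], [63], [64], [65], [], [67], [68], [], [], [64], [65], [], [67], [68], [57], [58], [55], [56], [], [62], [63], [60], [61], [], [], [], [], [], [], [], [], [], [], [], [], [], [], [], [18, 23, 38], [24, 29, 39], [14,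 32, 36], [15, 33, 37], [16, 30, 34], [17, 31, 35], [36], [37], [34], [35], [38], [], [], [], [], [38], [39], [], [], [], [], [39], [34], [35], [36], [37], [], [], [], [], [], [], []]
def rowsL4 : List (List ℕ) :=
  [[1, 6, 85, 94, 132], [1, 4, 6], [1, 2, 4], [39, 131], [38, 130], [37, 129], [36, 128], [35, 127], [34, 126], [15, 125], [14, 124], [17, 123], [16, 122], [24, 121], [18, 115], [68, 98], [67, 97], [65, 96], [64, 95], [85, 94], [61, 93], [60, 92], [63, 91], [62, 90], [56, 89], [55, 88], [58, 87], [57, 86], [24, 39], [18, 38], [15, 37], [14, 36], [17, 35], [16, 34], [120], [119], [118], [117], [114], [113], [112], [111], [85], [68], [67], [65], [64], [63], [62], [61], [60], [58], [57], [56], [55], [24], [18], [17], [16], [15], [14], [4], [1]]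
def colA4 : List ℕ :=
  [5, 54, 45, 39, 38, 37, 36, 35, 34, 33, 32, 31, 30, 29, 23, 68, 67, 65, 64, 0, 61, 60, 63, 62, 56, 55, 58, 57, 24, 18, 15, 14, 17, 16, 28, 27, 26, 25, 22, 21, 20, 19, 3, 44, 43, 42, 41, 53, 52, 51, 50, 49, 48, 47, 46, 9, 8, 13, 12, 11, 10, 7, 40]

set_option maxRecDepth 1000000 in
theorem chkUp4 : chkUp chevE7 (sW ys4) basis4 combo4 = true := by decide +kernel

set_option maxRecDepth 1000000 in
theorem chkLow4 : chkLow chevE7 (sW ys4) rowsL4 colA4 = true := by decide +kernel

theorem basis4_length : basis4.length = 63 := by decide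
theorem colA4_length : colA4.length = 63 := by decide

section
variable {K : Type*} [Field K]

/-- `rank (y0 - 1) = 34` -/
theorem rank_y0 (hp : ((2 : ℕ) : K) = 0) :
    ((ys0.map fun r => chevE7.x K r 1).prod - 1).rank = 34 := by
  apply le_antisymm
  · have := rank_le_prod hp chevE7 ys0 basis0 combo0 chkUp0
    rwa [basis0_length] at this
  · have := rank_ge_prod hp chevE7 ys0 rowsL0 colA0 chkLow0
    rwa [colA0_length] at this

/-- `rank (y1 - 1) = 52` -/
theorem rank_y1 (hp : ((2 : ℕ) : K) = 0) :
    ((ys1.map fun r => chevE7.x K r 1).prod - 1).rank = 52 := by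
  apply le_antisymm
  · have := rank_le_prod hp chevE7 ys1 basis1 combo1 chkUp1
    rwa [basis1_length] at this
  · have := rank_ge_prod hp chevE7 ys1 rowsL1 colA1 chkLow1
    rwa [colA1_length] at this

/-- `rank (y2 - 1) = 53` -/
theorem rank_y2 (hp : ((2 : ℕ) : K) = 0) :
    ((ys2.map fun r => chevE7.x K r 1).prod - 1).rank = 53 := by
  apply le_antisymm
  · have := rank_le_prod hp chevE7 ys2 basis2 combo2 chkUp2
    rwa [basis2_length] at this
  · have := rank_ge_prod hp chevE7 ys2 rowsL2 colA2 chkLow2
    rwa [colA2_length] at this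

/-- `rank (y3 - 1) = 62` -/
theorem rank_y3 (hp : ((2 : ℕ) : K) = 0) :
    ((ys3.map fun r => chevE7.x K r 1).prod - 1).rank = 62 := by
  apply le_antisymm
  · have := rank_le_prod hp chevE7 ys3 basis3 combo3 chkUp3
    rwa [basis3_length] at this
  · have := rank_ge_prod hp chevE7 ys3 rowsL3 colA3 chkLow3
    rwa [colA3_length] at this

/-- `rank (y4 - 1) = 63` -/
theorem rank_y4 (hp : ((2 : ℕ) : K) = 0) :
    ((ys4.map fun r => chevE7.x K r 1).prod - 1).rank = 63 := by
  apply le_antisymm
  · have := rank_le_prod hp chevE7 ys4 basis4 combo4 chkUp4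
    rwa [basis4_length] at this
  · have := rank_ge_prod hp chevE7 ys4 rowsL4 colA4 chkLow4
    rwa [colA4_length] at this

end

end Cfsg.Agent.Lib.Helper2.E7EvRank
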