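import Mathlib
import Cfsg.Agent.Lib.Helper9.E7EvDefs
import Cfsg.Agent.Lib.Helper2.E7EvRank

set_option autoImplicit false

/-!
# E7EV farm (S2181), unit R7: the five representatives have ranks `34, 52, 53, 62, 63`; they are
pairwise not conjugate in `GL` and different from `1`.
-/

namespace Cfsg.Agent.Lib.Helper2.E7EvH9

open Cfsg Cfsg.Lie Cfsg.Agent.Lib.Helper5.ChevSym Cfsg.Agent.Lib.Helper5.ChevStruct
  Cfsg.Agent.Lib.Helper9.InvFrame Cfsg.Agent.Lib.Helper9.E7Ev Cfsg.Agent.Lib.Helper2.RankGen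
  Cfsg.Agent.Lib.Helper2.E7EvRank

variable {F : Type*} [Field F]

theorem fprod_val (D : ChevalleyDatum) (hD : D ∈ Seven) (R : List ℕ) :
    ((fprod D hD R : GL D.Idx F) : Matrix D.Idx D.Idx F) = (R.map fun r => D.x F r 1).prod := by
  unfold fprod
  induction R with
  | nil => simp
  | cons r R ih => rw [List.map_cons, List.prod_cons, Units.val_mul, ih, List.map_cons,
      List.prod_cons, xGL_val]

/-- the rank function of the five representatives -/
def rk7 : ℕ → ℕ := fun k => [34, 52, 53, 62, 63].getD k 0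

/-- the exact ranks -/
theorem h2_rank_yGL7 [CharP F 2] (k : ℕ) (hk : k < 5) :
    ((yGL7 F k : Matrix chevE7.Idx chevE7.Idx F) - 1).rank = rk7 k := by
  have hp : ((2 : ℕ) : F) = 0 := CharP.cast_eq_zero F 2
  unfold yGL7
  rw [fprod_val]
  interval_cases k
  · exact rank_y0 (K := F) hp
  · exact rank_y1 (K := F) hp
  · exact rank_y2 (K := F) hp
  · exact rank_y3 (K := F) hp
  · exact rank_y4 (K := F) hp

theorem R_not_conj7 [CharP F 2] (k l : ℕ) (hk : k < 5) (hl : l < 5) (h : GL chevE7.Idx F)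
    (e : h * yGL7 F k * h⁻¹ = yGL7 F l) : k = l := by
  have hr := rank_conj h (yGL7 F k)
  rw [e, h2_rank_yGL7 k hk, h2_rank_yGL7 l hl] at hr
  unfold rk7 at hr
  interval_cases k <;> interval_cases l <;> first | rfl | (exfalso; revert hr; decide)

theorem R_ne_one7 [CharP F 2] (k : ℕ) (hk : k < 5) : yGL7 F k ≠ 1 := by
  intro h1
  have hr := h2_rank_yGL7 (F := F) k hk
  rw [h1, Units.val_one, sub_self, Matrix.rank_zero] at hr
  unfold rk7 at hr
  interval_cases k <;> exact absurd hr (by decide)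

end Cfsg.Agent.Lib.Helper2.E7EvH9
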