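import Mathlib
import Cfsg.Agent.Lib.Helper6.F4EvDefs
import Cfsg.Agent.Lib.Helper7.InvGenHyp
import Cfsg.Agent.Lib.Helper5.ChevWTbl

set_option autoImplicit false

/-!
# The involutive local maxima of a Weyl group from a table: packed variant

Same as helper6's `EvLocMax.locmax_cases_of_table`, but
* each row `(I, L_I, v)` of the table names the word `v` of the list `lm` that `w₀ L_I⁻¹` is
  compared with (no scan of `lm`);
* the reflections and the positivity of roots are read off packed tables (one byte per root, one
  bit per root; arithmetic on binary numerals is fast in the kernel), verified once against the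
  datum by `tabOK`.
This makes the Boolean check cheap enough for `E₇` (128 rows) and `E₈` (256 rows).
-/

namespace Cfsg.Agent.Lib.Helper2.EvLocMaxPk

open Cfsg Cfsg.Lie Cfsg.Agent.Lib.Helper5.ChevSym Cfsg.Agent.Lib.Helper5.ChevStruct
  Cfsg.Agent.Lib.Helper6.F4Ev

/-- the reflection `i` applied to the root `s`, from the packed tables -/
def reflP (T : List ℕ) (i s : ℕ) : ℕ := ((T.getD i 0) >>> (8 * s)) % 256

/-- the action of a word, from the packed tables -/
def wActP (T : List ℕ) (w : List ℕ) (r : ℕ) : ℕ := w.foldr (fun i r => reflP T i r) r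

/-- positivity, from the packed bit table -/
def posP (P : ℕ) (r : ℕ) : Bool := Nat.testBit P r

/-- the packed tables agree with the datum -/
def tabOK (D : ChevalleyDatum) (T : List ℕ) (P : ℕ) : Bool :=
  ((List.range D.rank).all fun i => (List.range D.nroots).all fun s =>
    Nat.beq (reflP T i s) (D.reflectRoot i s)) &&
  (List.range D.nroots).all fun r => posP P r == decide (D.IsPosRoot r)

theorem reflP_eq (D : ChevalleyDatum) (T : List ℕ) (P : ℕ) (h : tabOK D T P = true) (i s : ℕ)
    (hi : i < D.rank) (hs : s < D.nroots) : reflP T i s = D.reflectRoot i s := by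
  unfold tabOK at h
  rw [Bool.and_eq_true, List.all_eq_true] at h
  have := h.1 i (List.mem_range.2 hi)
  rw [List.all_eq_true] at this
  exact Nat.eq_of_beq_eq_true (this s (List.mem_range.2 hs))

theorem posP_iff (D : ChevalleyDatum) (T : List ℕ) (P : ℕ) (h : tabOK D T P = true) (r : ℕ)
    (hr : r < D.nroots) : posP P r = true ↔ D.IsPosRoot r := by
  unfold tabOK at h
  rw [Bool.and_eq_true, List.all_eq_true, List.all_eq_true] at h
  have := h.2 r (List.mem_range.2 hr)
  rw [beq_iff_eq] at this
  rw [this, decide_eq_true_eq]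

theorem wActP_eq (D : ChevalleyDatum) (hD : D ∈ Seven) (T : List ℕ) (P : ℕ)
    (h : tabOK D T P = true) (w : List ℕ) (hw : Wd D w) (r : ℕ) (hr : r < D.nroots) :
    wActP T w r = wAct D w r := by
  induction w with
  | nil => rfl
  | cons i w ih =>
    have hw' : Wd D w := fun j hj => hw j (List.mem_cons_of_mem _ hj)
    have e1 : wActP T (i :: w) r = reflP T i (wActP T w r) := rfl
    have e2 : wAct D (i :: w) r = D.reflectRoot i (wAct D w r) := rfl
    rw [e1, e2, ih hw', reflP_eq D T P h i _ (hw i List.mem_cons_self) (wAct_lt D hD w hw' r hr)]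

/-- the triple `(L_I, v)` attached to the subset `I` in the table -/
def lookupR (tbl : List (List ℕ × List ℕ × List ℕ)) (I : List ℕ) : List ℕ × List ℕ :=
  match tbl.find? (fun p => p.1 == I) with
  | some p => p.2
  | none => ([], [])

/-- the check of the row `I` -/
def chkRowP (D : ChevalleyDatum) (T : List ℕ) (P : ℕ) (w0 : List ℕ)
    (tbl : List (List ℕ × List ℕ × List ℕ)) (lm : List (List ℕ)) (I : List ℕ) : Bool :=
  let L := (lookupR tbl I).1
  let v := (lookupR tbl I).2
  let w' := w0 ++ L.reverse
  L.all (fun i => I.contains i) &&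
  I.all (fun i => !posP P (wActP T L.reverse (D.simple i))) &&
  (!((List.range D.rank).all fun i =>
      let a := wActP T w' (D.simple i)
      ((a == D.simple i) == I.contains i) && (!posP P a || a == D.simple i) &&
        (wActP T w' a == D.simple i)) ||
    (lm.contains v && v.all (fun i => Nat.blt i D.rank) &&
      (List.range D.rank).all fun i => wActP T v (D.simple i) == wActP T w' (D.simple i)))

theorem locmax_cases_of_tableP (D : ChevalleyDatum) (hD : D ∈ Seven) (T : List ℕ) (P : ℕ)
    (hT : tabOK D T P = true) (w0 : List ℕ)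
    (hchk : checkW0 D w0 = true) (tbl : List (List ℕ × List ℕ × List ℕ)) (lm : List (List ℕ))
    (htbl : ∀ I ∈ (List.range D.rank).sublists, chkRowP D T P w0 tbl lm I = true)
    (w : List ℕ) (hw : Wd D w) (hw2 : ∀ r < D.nroots, wAct D (w ++ w) r = r)
    (hl : LocMax D w) :
    ∃ v ∈ lm, Wd D v ∧ ∀ r < D.nroots, wAct D w r = wAct D v r := by
  classical
  set I : List ℕ := (List.range D.rank).filter
    (fun i => decide (wAct D w (D.simple i) = D.simple i)) with hIdef
  have hI : I ∈ (List.range D.rank).sublists := List.mem_sublists.2 List.filter_sublist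
  have hmemI : ∀ i, i ∈ I ↔ i < D.rank ∧ wAct D w (D.simple i) = D.simple i := by
    intro i
    rw [hIdef, List.mem_filter, List.mem_range, decide_eq_true_eq]
  have h := htbl I hI
  unfold chkRowP at h
  set L := (lookupR tbl I).1 with hLdef
  set v := (lookupR tbl I).2 with hvdef
  simp only [Bool.and_eq_true, List.all_eq_true] at h
  obtain ⟨⟨h1, h2⟩, h3⟩ := h
  have hL : ∀ i ∈ L, i < D.rank ∧ wAct D w (D.simple i) = D.simple i := by
    intro i hi
    have := h1 i hi
    rw [List.contains_iff_mem] at this
    exact (hmemI i).1 this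
  have hLwd : Wd D L := fun i hi => (hL i hi).1
  have hdesc : ∀ i < D.rank, wAct D w (D.simple i) = D.simple i →
      ¬ D.IsPosRoot (wAct D L.reverse (D.simple i)) := by
    intro i hi hfix
    have h4 := h2 i ((hmemI i).2 ⟨hi, hfix⟩)
    have hs : D.simple i < D.nroots := simple_lt D hD i hi
    rw [wActP_eq D hD T P hT L.reverse hLwd.reverse _ hs] at h4
    intro hpos
    rw [(posP_iff D T P hT _ (wAct_lt D hD L.reverse hLwd.reverse _ hs)).2 hpos] at h4
    exact Bool.noConfusion h4
  have hE := Cfsg.Agent.Lib.Helper7.InvGen.locmax_eq D hD w0 hchk w hw hw2 hl L hL hdesc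
  have hw0wd : Wd D w0 := (conj_pos_eq_neg' (K := ℚ) D hD w0 hchk).1
  have hw'wd : Wd D (w0 ++ L.reverse) := hw0wd.append hLwd.reverse
  have hW : ∀ r < D.nroots, wAct D w r = wAct D (w0 ++ L.reverse) r := by
    intro r hr
    rw [wAct_append, ← hE _ (wAct_lt D hD L.reverse hLwd.reverse r hr), wAct_append,
      wAct_reverse D hD L hLwd r hr]
  have hprem : ((List.range D.rank).all fun i =>
      let a := wActP T (w0 ++ L.reverse) (D.simple i)
      ((a == D.simple i) == I.contains i) && (!posP P a || a == D.simple i) &&
        (wActP T (w0 ++ L.reverse) a == D.simple i)) = true := by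
    rw [List.all_eq_true]
    intro i hi
    have hi' : i < D.rank := List.mem_range.1 hi
    have hs : D.simple i < D.nroots := simple_lt D hD i hi'
    have ha : wActP T (w0 ++ L.reverse) (D.simple i) = wAct D w (D.simple i) := by
      rw [wActP_eq D hD T P hT _ hw'wd _ hs]
      exact (hW _ hs).symm
    simp only [ha]
    have halt : wAct D w (D.simple i) < D.nroots := wAct_lt D hD w hw _ hs
    have h4 : wActP T (w0 ++ L.reverse) (wAct D w (D.simple i)) = D.simple i := by
      rw [wActP_eq D hD T P hT _ hw'wd _ halt, ← hW _ halt, ← wAct_append]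
      exact hw2 _ hs
    rw [h4]
    by_cases hfix : wAct D w (D.simple i) = D.simple i
    · have hiI : i ∈ I := (hmemI i).2 ⟨hi', hfix⟩
      simp [hfix, hiI]
    · have hiI : i ∉ I := fun hc => hfix ((hmemI i).1 hc).2
      rcases hl i hi' with h5 | h5
      · have h6 : posP P (wAct D w (D.simple i)) = false := by
          rw [Bool.eq_false_iff]
          intro hc
          exact h5 ((posP_iff D T P hT _ halt).1 hc)
        simp [hfix, hiI, h6]
      · exact absurd h5 hfix
  rw [hprem] at h3
  simp only [Bool.not_true, Bool.false_or, Bool.and_eq_true, List.all_eq_true] at h3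
  obtain ⟨⟨hv, hvwd⟩, hvimg⟩ := h3
  rw [List.contains_iff_mem] at hv
  have hvwd' : Wd D v := fun i hi => by
    have := hvwd i hi
    rwa [Nat.blt_eq] at this
  refine ⟨v, hv, hvwd', ?_⟩
  apply wAct_eq_of_simple D hD w v hw hvwd'
  intro j hj
  have hs : D.simple j < D.nroots := simple_lt D hD j hj
  have := hvimg j (List.mem_range.2 hj)
  rw [beq_iff_eq, wActP_eq D hD T P hT v hvwd' _ hs, wActP_eq D hD T P hT _ hw'wd _ hs] at this
  rw [this, hW _ hs]

end Cfsg.Agent.Lib.Helper2.EvLocMaxPk
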