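import Mathlib
import Cfsg.Prelude.Def_ChevE7
import Cfsg.Agent.Lib.Helper2.EvLocMaxPk
import Cfsg.Agent.Lib.Helper5.ChevChk.W0All

set_option autoImplicit false

/-!
# Farm E7EV, unit T : the involutive local maxima of `W(E7)` (table of helper3, generic
theorem `locmax_cases_of_tableP`)
-/

namespace Cfsg.Agent.Lib.Helper2.E7Ev

open Cfsg Cfsg.Lie Cfsg.Agent.Lib.Helper5.ChevSym Cfsg.Agent.Lib.Helper5.ChevStruct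
  Cfsg.Agent.Lib.Helper6.F4Ev Cfsg.Agent.Lib.Helper2.EvLocMaxPk

theorem memE7v : chevE7 ∈ Seven := by simp [Seven]

/-- the longest element of `W(E7)` (the word of `chkW0_E7`) -/
def w0E7 : List ℕ :=
  [0, 1, 2, 0, 3, 1, 2, 0, 3, 2, 4, 3, 1, 2, 0, 3, 2, 4, 3, 1, 5, 4, 3, 1, 2, 0, 3, 2, 4, 3, 1,
  5, 4, 3, 2, 0, 6, 5, 4, 3, 1, 2, 0, 3, 2, 4, 3, 1, 5, 4, 3, 2, 0, 6, 5, 4, 3, 1, 2, 3, 4, 5,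
  6]

theorem chkW0_w0E7 : checkW0 chevE7 w0E7 = true := chkW0_E7

/-- packed reflection tables (one byte per root) -/
def rtE7 : List ℕ :=
  [1333922837158942011638783835004871262489243524474933806757983325204324354148955901128787715251435855896924984706939979518567157242719197682064722754383056752064764745714105188869695029532754693822593611899134007025978423511653352929402726346889239349767349520011297160997758072428838116713298751769411585,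
   1344596064861142540599490890337037530396506312014796134457654209860766914474355053533424106448304668641750238146235616625298608967855065371567541345205591130313893835021149335810105157533873267793712369235831381486269171621811991934200833355141336107082133768387345013012537819798176998924533019780972800,
   1344554375120106414798065960470017614978713755228414151433370668601621092779175356141058506517844188051958962228323355573505999256791464453714183605373019334854214694897010135565448054736646733569358624734534287147711832887250382219472046131816456686545071408428738776743299531196152165404305104465625600,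
   1344595904565267213246157475033494803249157207063324738659324389841659715695283955303815316936280329696179597506512307998177941509827115356010016869474657504041538202575428963476748087995021914745714269311908081227369626699231579603641239181490320192525717933280632587761748264543583905599801831599571200,
   1344596066789662372468730772808347860477161005122219541718508235419833626106302450745862748198090247695116521795627890666608206327119702733434927280617614040672948193304917070539624301444895806139576218160085363566180297830617521222446695171034178763232251478019132116438882014609021606895640681331687680,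
   1344596067423351416207557940869874944091727118574762836469837882638712679846178606418228818601986310217411887451905765776107214182568852020646749836716948362818007050784749838543502259798351210584973756022172436114146241694089563918431059909805690131092344135313086916729119604848859188691072391118455040,
   1344596067425826764034662734529601288506926453046107113143229300984890479501381833876110010911357495579068344096520604677306938752775870105507180309928942299606468867262391627195069014991692130646454801374407591002787052249416073179196764677152311158875352053765052537485552134445183160720605330624610560]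

/-- packed positivity table (one bit per root) -/
def psE7 : ℕ :=
  85070591730234615856620279821087277056

set_option maxRecDepth 1000000 in
theorem tabOK_E7 : tabOK chevE7 rtE7 psE7 = true := by decide +kernel

/-- the subsets `I` of the diagram with a reduced word of the longest element of `W_I` and the
local maximum `w₀ L_I⁻¹` (if it is one) -/
def liE7 : List (List ℕ × List ℕ × List ℕ) :=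
  [([], [], [6, 5, 4, 3, 2, 1, 3, 4, 5, 6, 0, 2, 3, 4, 5, 1, 3, 4, 2, 3, 0, 2, 1, 3, 4, 5, 6, 0,
  2, 3, 4, 5, 1, 3, 4, 2, 3, 0, 2, 1, 3, 4, 5, 1, 3, 4, 2, 3, 0, 2, 1, 3, 4, 2, 3, 0, 2, 1, 3,
  0, 2, 1, 0]), ([0], [0], [6, 5, 4, 3, 2, 1, 3, 4, 5, 6, 0, 2, 3, 4, 5, 1, 3, 4, 2, 3, 0, 2, 1,
  3, 4, 5, 6, 0, 2, 3, 4, 5, 1, 3, 4, 2, 3, 0, 2, 1, 3, 4, 5, 1, 3, 4, 2, 3, 0, 2, 1, 3, 4, 2,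
  3, 0, 2, 1, 3, 0, 2, 1]), ([1], [1], [6, 5, 4, 3, 2, 1, 3, 4, 5, 6, 0, 2, 3, 4, 5, 1, 3, 4, 2,
  3, 0, 2, 1, 3, 4, 5, 6, 0, 2, 3, 4, 5, 1, 3, 4, 2, 3, 0, 2, 1, 3, 4, 5, 1, 3, 4, 2, 3, 0, 2,
  1, 3, 4, 2, 3, 0, 2, 1, 3, 0, 2, 0]), ([2], [2], [6, 5, 4, 3, 2, 1, 3, 4, 5, 6, 0, 2, 3, 4, 5,
  1, 3, 4, 2, 3, 0, 2, 1, 3, 4, 5, 6, 0, 2, 3, 4, 5, 1, 3, 4, 2, 3, 0, 2, 1, 3, 4, 5, 1, 3, 4,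
  2, 3, 0, 2, 1, 3, 4, 2, 3, 0, 2, 1, 3, 2, 1, 0]), ([3], [3], [6, 5, 4, 3, 2, 1, 3, 4, 5, 6, 0,
  2, 3, 4, 5, 1, 3, 4, 2, 3, 0, 2, 1, 3, 4, 5, 6, 0, 2, 3, 4, 5, 1, 3, 4, 2, 3, 0, 2, 1, 3, 4,
  5, 1, 3, 4, 2, 3, 0, 2, 1, 3, 4, 3, 0, 2, 1, 3, 0, 2, 1, 0]), ([4], [4], [6, 5, 4, 3, 2, 1, 3,
  4, 5, 6, 0, 2, 3, 4, 5, 1, 3, 4, 2, 3, 0, 2, 1, 3, 4, 5, 6, 0, 2, 3, 4, 5, 1, 3, 4, 2, 3, 0,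
  2, 1, 3, 4, 5, 3, 4, 2, 3, 0, 2, 1, 3, 4, 2, 3, 0, 2, 1, 3, 0, 2, 1, 0]), ([5], [5], [6, 5, 4,
  3, 2, 1, 3, 4, 5, 6, 0, 2, 3, 4, 5, 1, 3, 4, 2, 3, 0, 2, 1, 3, 4, 5, 6, 2, 3, 4, 5, 1, 3, 4,
  2, 3, 0, 2, 1, 3, 4, 5, 1, 3, 4, 2, 3, 0, 2, 1, 3, 4, 2, 3, 0, 2, 1, 3, 0, 2, 1, 0]), ([6],
  [6], [5, 4, 3, 2, 1, 3, 4, 5, 6, 0, 2, 3, 4, 5, 1, 3, 4, 2, 3, 0, 2, 1, 3, 4, 5, 6, 0, 2, 3,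
  4, 5, 1, 3, 4, 2, 3, 0, 2, 1, 3, 4, 5, 1, 3, 4, 2, 3, 0, 2, 1, 3, 4, 2, 3, 0, 2, 1, 3, 0, 2,
  1, 0]), ([0, 1], [0, 1], [6, 5, 4, 3, 2, 1, 3, 4, 5, 6, 0, 2, 3, 4, 5, 1, 3, 4, 2, 3, 0, 2, 1,
  3, 4, 5, 6, 0, 2, 3, 4, 5, 1, 3, 4, 2, 3, 0, 2, 1, 3, 4, 5, 1, 3, 4, 2, 3, 0, 2, 1, 3, 4, 2,
  3, 0, 2, 1, 3, 0, 2]), ([0, 2], [0, 2, 0], []), ([0, 3], [0, 3], [6, 5, 4, 3, 2, 1, 3, 4, 5,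
  6, 0, 2, 3, 4, 5, 1, 3, 4, 2, 3, 0, 2, 1, 3, 4, 5, 6, 0, 2, 3, 4, 5, 1, 3, 4, 2, 3, 0, 2, 1,
  3, 4, 5, 1, 3, 4, 2, 3, 0, 2, 1, 3, 4, 3, 0, 2, 1, 3, 0, 2, 1]), ([0, 4], [0, 4], [6, 5, 4, 3,
  2, 1, 3, 4, 5, 6, 0, 2, 3, 4, 5, 1, 3, 4, 2, 3, 0, 2, 1, 3, 4, 5, 6, 0, 2, 3, 4, 5, 1, 3, 4,
  2, 3, 0, 2, 1, 3, 4, 5, 3, 4, 2, 3, 0, 2, 1, 3, 4, 2, 3, 0, 2, 1, 3, 0, 2, 1]), ([0, 5], [0,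
  5], [6, 5, 4, 3, 2, 1, 3, 4, 5, 6, 0, 2, 3, 4, 5, 1, 3, 4, 2, 3, 0, 2, 1, 3, 4, 5, 6, 2, 3, 4,
  5, 1, 3, 4, 2, 3, 0, 2, 1, 3, 4, 5, 1, 3, 4, 2, 3, 0, 2, 1, 3, 4, 2, 3, 0, 2, 1, 3, 0, 2, 1]),
  ([0, 6], [0, 6], [5, 4, 3, 2, 1, 3, 4, 5, 6, 0, 2, 3, 4, 5, 1, 3, 4, 2, 3, 0, 2, 1, 3, 4, 5,
  6, 0, 2, 3, 4, 5, 1, 3, 4, 2, 3, 0, 2, 1, 3, 4, 5, 1, 3, 4, 2, 3, 0, 2, 1, 3, 4, 2, 3, 0, 2,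
  1, 3, 0, 2, 1]), ([1, 2], [1, 2], [6, 5, 4, 3, 2, 1, 3, 4, 5, 6, 0, 2, 3, 4, 5, 1, 3, 4, 2, 3,
  0, 2, 1, 3, 4, 5, 6, 0, 2, 3, 4, 5, 1, 3, 4, 2, 3, 0, 2, 1, 3, 4, 5, 1, 3, 4, 2, 3, 0, 2, 1,
  3, 4, 2, 3, 0, 2, 1, 3, 2, 0]), ([1, 3], [1, 3, 1], []), ([1, 4], [1, 4], [6, 5, 4, 3, 2, 1,
  3, 4, 5, 6, 0, 2, 3, 4, 5, 1, 3, 4, 2, 3, 0, 2, 1, 3, 4, 5, 6, 0, 2, 3, 4, 5, 1, 3, 4, 2, 3,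
  0, 2, 1, 3, 4, 5, 3, 4, 2, 3, 0, 2, 1, 3, 4, 2, 3, 0, 2, 1, 3, 0, 2, 0]), ([1, 5], [1, 5], [6,
  5, 4, 3, 2, 1, 3, 4, 5, 6, 0, 2, 3, 4, 5, 1, 3, 4, 2, 3, 0, 2, 1, 3, 4, 5, 6, 2, 3, 4, 5, 1,
  3, 4, 2, 3, 0, 2, 1, 3, 4, 5, 1, 3, 4, 2, 3, 0, 2, 1, 3, 4, 2, 3, 0, 2, 1, 3, 0, 2, 0]), ([1,
  6], [1, 6], [5, 4, 3, 2, 1, 3, 4, 5, 6, 0, 2, 3, 4, 5, 1, 3, 4, 2, 3, 0, 2, 1, 3, 4, 5, 6, 0,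
  2, 3, 4, 5, 1, 3, 4, 2, 3, 0, 2, 1, 3, 4, 5, 1, 3, 4, 2, 3, 0, 2, 1, 3, 4, 2, 3, 0, 2, 1, 3,
  0, 2, 0]), ([2, 3], [2, 3, 2], []), ([2, 4], [2, 4], [6, 5, 4, 3, 2, 1, 3, 4, 5, 6, 0, 2, 3,
  4, 5, 1, 3, 4, 2, 3, 0, 2, 1, 3, 4, 5, 6, 0, 2, 3, 4, 5, 1, 3, 4, 2, 3, 0, 2, 1, 3, 4, 5, 3,
  4, 2, 3, 0, 2, 1, 3, 4, 2, 3, 0, 2, 1, 3, 2, 1, 0]), ([2, 5], [2, 5], [6, 5, 4, 3, 2, 1, 3, 4,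
  5, 6, 0, 2, 3, 4, 5, 1, 3, 4, 2, 3, 0, 2, 1, 3, 4, 5, 6, 2, 3, 4, 5, 1, 3, 4, 2, 3, 0, 2, 1,
  3, 4, 5, 1, 3, 4, 2, 3, 0, 2, 1, 3, 4, 2, 3, 0, 2, 1, 3, 2, 1, 0]), ([2, 6], [2, 6], [5, 4, 3,
  2, 1, 3, 4, 5, 6, 0, 2, 3, 4, 5, 1, 3, 4, 2, 3, 0, 2, 1, 3, 4, 5, 6, 0, 2, 3, 4, 5, 1, 3, 4,
  2, 3, 0, 2, 1, 3, 4, 5, 1, 3, 4, 2, 3, 0, 2, 1, 3, 4, 2, 3, 0, 2, 1, 3, 2, 1, 0]), ([3, 4],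
  [3, 4, 3], []), ([3, 5], [3, 5], [6, 5, 4, 3, 2, 1, 3, 4, 5, 6, 0, 2, 3, 4, 5, 1, 3, 4, 2, 3,
  0, 2, 1, 3, 4, 5, 6, 2, 3, 4, 5, 1, 3, 4, 2, 3, 0, 2, 1, 3, 4, 5, 1, 3, 4, 2, 3, 0, 2, 1, 3,
  4, 3, 0, 2, 1, 3, 0, 2, 1, 0]), ([3, 6], [3, 6], [5, 4, 3, 2, 1, 3, 4, 5, 6, 0, 2, 3, 4, 5, 1,
  3, 4, 2, 3, 0, 2, 1, 3, 4, 5, 6, 0, 2, 3, 4, 5, 1, 3, 4, 2, 3, 0, 2, 1, 3, 4, 5, 1, 3, 4, 2,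
  3, 0, 2, 1, 3, 4, 3, 0, 2, 1, 3, 0, 2, 1, 0]), ([4, 5], [4, 5, 4], []), ([4, 6], [4, 6], [5,
  4, 3, 2, 1, 3, 4, 5, 6, 0, 2, 3, 4, 5, 1, 3, 4, 2, 3, 0, 2, 1, 3, 4, 5, 6, 0, 2, 3, 4, 5, 1,
  3, 4, 2, 3, 0, 2, 1, 3, 4, 5, 3, 4, 2, 3, 0, 2, 1, 3, 4, 2, 3, 0, 2, 1, 3, 0, 2, 1, 0]), ([5,
  6], [5, 6, 5], []), ([0, 1, 2], [0, 1, 2, 0], []), ([0, 1, 3], [0, 1, 3, 1], []), ([0, 1, 4],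
  [0, 1, 4], [6, 5, 4, 3, 2, 1, 3, 4, 5, 6, 0, 2, 3, 4, 5, 1, 3, 4, 2, 3, 0, 2, 1, 3, 4, 5, 6,
  0, 2, 3, 4, 5, 1, 3, 4, 2, 3, 0, 2, 1, 3, 4, 5, 3, 4, 2, 3, 0, 2, 1, 3, 4, 2, 3, 0, 2, 1, 3,
  0, 2]), ([0, 1, 5], [0, 1, 5], [6, 5, 4, 3, 2, 1, 3, 4, 5, 6, 0, 2, 3, 4, 5, 1, 3, 4, 2, 3, 0,
  2, 1, 3, 4, 5, 6, 2, 3, 4, 5, 1, 3, 4, 2, 3, 0, 2, 1, 3, 4, 5, 1, 3, 4, 2, 3, 0, 2, 1, 3, 4,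
  2, 3, 0, 2, 1, 3, 0, 2]), ([0, 1, 6], [0, 1, 6], [5, 4, 3, 2, 1, 3, 4, 5, 6, 0, 2, 3, 4, 5, 1,
  3, 4, 2, 3, 0, 2, 1, 3, 4, 5, 6, 0, 2, 3, 4, 5, 1, 3, 4, 2, 3, 0, 2, 1, 3, 4, 5, 1, 3, 4, 2,
  3, 0, 2, 1, 3, 4, 2, 3, 0, 2, 1, 3, 0, 2]), ([0, 2, 3], [0, 2, 0, 3, 2, 0], []), ([0, 2, 4],
  [0, 2, 0, 4], []), ([0, 2, 5], [0, 2, 0, 5], []), ([0, 2, 6], [0, 2, 0, 6], []), ([0, 3, 4],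
  [0, 3, 4, 3], []), ([0, 3, 5], [0, 3, 5], [6, 5, 4, 3, 2, 1, 3, 4, 5, 6, 0, 2, 3, 4, 5, 1, 3,
  4, 2, 3, 0, 2, 1, 3, 4, 5, 6, 2, 3, 4, 5, 1, 3, 4, 2, 3, 0, 2, 1, 3, 4, 5, 1, 3, 4, 2, 3, 0,
  2, 1, 3, 4, 3, 0, 2, 1, 3, 0, 2, 1]), ([0, 3, 6], [0, 3, 6], [5, 4, 3, 2, 1, 3, 4, 5, 6, 0, 2,
  3, 4, 5, 1, 3, 4, 2, 3, 0, 2, 1, 3, 4, 5, 6, 0, 2, 3, 4, 5, 1, 3, 4, 2, 3, 0, 2, 1, 3, 4, 5,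
  1, 3, 4, 2, 3, 0, 2, 1, 3, 4, 3, 0, 2, 1, 3, 0, 2, 1]), ([0, 4, 5], [0, 4, 5, 4], []), ([0, 4,
  6], [0, 4, 6], [5, 4, 3, 2, 1, 3, 4, 5, 6, 0, 2, 3, 4, 5, 1, 3, 4, 2, 3, 0, 2, 1, 3, 4, 5, 6,
  0, 2, 3, 4, 5, 1, 3, 4, 2, 3, 0, 2, 1, 3, 4, 5, 3, 4, 2, 3, 0, 2, 1, 3, 4, 2, 3, 0, 2, 1, 3,
  0, 2, 1]), ([0, 5, 6], [0, 5, 6, 5], []), ([1, 2, 3], [1, 2, 3, 1, 2, 3], []), ([1, 2, 4], [1,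
  2, 4], [6, 5, 4, 3, 2, 1, 3, 4, 5, 6, 0, 2, 3, 4, 5, 1, 3, 4, 2, 3, 0, 2, 1, 3, 4, 5, 6, 0, 2,
  3, 4, 5, 1, 3, 4, 2, 3, 0, 2, 1, 3, 4, 5, 3, 4, 2, 3, 0, 2, 1, 3, 4, 2, 3, 0, 2, 1, 3, 2, 0]),
  ([1, 2, 5], [1, 2, 5], [6, 5, 4, 3, 2, 1, 3, 4, 5, 6, 0, 2, 3, 4, 5, 1, 3, 4, 2, 3, 0, 2, 1,
  3, 4, 5, 6, 2, 3, 4, 5, 1, 3, 4, 2, 3, 0, 2, 1, 3, 4, 5, 1, 3, 4, 2, 3, 0, 2, 1, 3, 4, 2, 3,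
  0, 2, 1, 3, 2, 0]), ([1, 2, 6], [1, 2, 6], [5, 4, 3, 2, 1, 3, 4, 5, 6, 0, 2, 3, 4, 5, 1, 3, 4,
  2, 3, 0, 2, 1, 3, 4, 5, 6, 0, 2, 3, 4, 5, 1, 3, 4, 2, 3, 0, 2, 1, 3, 4, 5, 1, 3, 4, 2, 3, 0,
  2, 1, 3, 4, 2, 3, 0, 2, 1, 3, 2, 0]), ([1, 3, 4], [1, 3, 1, 4, 3, 1], []), ([1, 3, 5], [1, 3,
  1, 5], []), ([1, 3, 6], [1, 3, 1, 6], []), ([1, 4, 5], [1, 4, 5, 4], []), ([1, 4, 6], [1, 4,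
  6], [5, 4, 3, 2, 1, 3, 4, 5, 6, 0, 2, 3, 4, 5, 1, 3, 4, 2, 3, 0, 2, 1, 3, 4, 5, 6, 0, 2, 3, 4,
  5, 1, 3, 4, 2, 3, 0, 2, 1, 3, 4, 5, 3, 4, 2, 3, 0, 2, 1, 3, 4, 2, 3, 0, 2, 1, 3, 0, 2, 0]),
  ([1, 5, 6], [1, 5, 6, 5], []), ([2, 3, 4], [2, 3, 2, 4, 3, 2], []), ([2, 3, 5], [2, 3, 2, 5],
  []), ([2, 3, 6], [2, 3, 2, 6], []), ([2, 4, 5], [2, 4, 5, 4], []), ([2, 4, 6], [2, 4, 6], [5,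
  4, 3, 2, 1, 3, 4, 5, 6, 0, 2, 3, 4, 5, 1, 3, 4, 2, 3, 0, 2, 1, 3, 4, 5, 6, 0, 2, 3, 4, 5, 1,
  3, 4, 2, 3, 0, 2, 1, 3, 4, 5, 3, 4, 2, 3, 0, 2, 1, 3, 4, 2, 3, 0, 2, 1, 3, 2, 1, 0]), ([2, 5,
  6], [2, 5, 6, 5], []), ([3, 4, 5], [3, 4, 3, 5, 4, 3], []), ([3, 4, 6], [3, 4, 3, 6], []),
  ([3, 5, 6], [3, 5, 6, 5], []), ([4, 5, 6], [4, 5, 4, 6, 5, 4], []), ([0, 1, 2, 3], [0, 1, 2,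
  0, 3, 1, 2, 0, 3, 2], []), ([0, 1, 2, 4], [0, 1, 2, 0, 4], []), ([0, 1, 2, 5], [0, 1, 2, 0,
  5], []), ([0, 1, 2, 6], [0, 1, 2, 0, 6], []), ([0, 1, 3, 4], [0, 1, 3, 1, 4, 3, 1], []), ([0,
  1, 3, 5], [0, 1, 3, 1, 5], []), ([0, 1, 3, 6], [0, 1, 3, 1, 6], []), ([0, 1, 4, 5], [0, 1, 4,
  5, 4], []), ([0, 1, 4, 6], [0, 1, 4, 6], [5, 4, 3, 2, 1, 3, 4, 5, 6, 0, 2, 3, 4, 5, 1, 3, 4,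
  2, 3, 0, 2, 1, 3, 4, 5, 6, 0, 2, 3, 4, 5, 1, 3, 4, 2, 3, 0, 2, 1, 3, 4, 5, 3, 4, 2, 3, 0, 2,
  1, 3, 4, 2, 3, 0, 2, 1, 3, 0, 2]), ([0, 1, 5, 6], [0, 1, 5, 6, 5], []), ([0, 2, 3, 4], [0, 2,
  0, 3, 2, 0, 4, 3, 2, 0], []), ([0, 2, 3, 5], [0, 2, 0, 3, 2, 0, 5], []), ([0, 2, 3, 6], [0, 2,
  0, 3, 2, 0, 6], []), ([0, 2, 4, 5], [0, 2, 0, 4, 5, 4], []), ([0, 2, 4, 6], [0, 2, 0, 4, 6],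
  []), ([0, 2, 5, 6], [0, 2, 0, 5, 6, 5], []), ([0, 3, 4, 5], [0, 3, 4, 3, 5, 4, 3], []), ([0,
  3, 4, 6], [0, 3, 4, 3, 6], []), ([0, 3, 5, 6], [0, 3, 5, 6, 5], []), ([0, 4, 5, 6], [0, 4, 5,
  4, 6, 5, 4], []), ([1, 2, 3, 4], [1, 2, 3, 1, 2, 3, 4, 3, 1, 2, 3, 4], [6, 5, 4, 3, 2, 1, 3,
  4, 5, 6, 0, 2, 3, 4, 5, 1, 3, 4, 2, 3, 0, 2, 1, 3, 4, 5, 6, 0, 2, 3, 4, 5, 1, 3, 4, 2, 3, 0,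
  2, 1, 3, 4, 5, 0, 2, 3, 4, 1, 3, 2, 0]), ([1, 2, 3, 5], [1, 2, 3, 1, 2, 3, 5], []), ([1, 2, 3,
  6], [1, 2, 3, 1, 2, 3, 6], []), ([1, 2, 4, 5], [1, 2, 4, 5, 4], []), ([1, 2, 4, 6], [1, 2, 4,
  6], [5, 4, 3, 2, 1, 3, 4, 5, 6, 0, 2, 3, 4, 5, 1, 3, 4, 2, 3, 0, 2, 1, 3, 4, 5, 6, 0, 2, 3, 4,
  5, 1, 3, 4, 2, 3, 0, 2, 1, 3, 4, 5, 3, 4, 2, 3, 0, 2, 1, 3, 4, 2, 3, 0, 2, 1, 3, 2, 0]), ([1,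
  2, 5, 6], [1, 2, 5, 6, 5], []), ([1, 3, 4, 5], [1, 3, 1, 4, 3, 1, 5, 4, 3, 1], []), ([1, 3, 4,
  6], [1, 3, 1, 4, 3, 1, 6], []), ([1, 3, 5, 6], [1, 3, 1, 5, 6, 5], []), ([1, 4, 5, 6], [1, 4,
  5, 4, 6, 5, 4], []), ([2, 3, 4, 5], [2, 3, 2, 4, 3, 2, 5, 4, 3, 2], []), ([2, 3, 4, 6], [2, 3,
  2, 4, 3, 2, 6], []), ([2, 3, 5, 6], [2, 3, 2, 5, 6, 5], []), ([2, 4, 5, 6], [2, 4, 5, 4, 6, 5,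
  4], []), ([3, 4, 5, 6], [3, 4, 3, 5, 4, 3, 6, 5, 4, 3], []), ([0, 1, 2, 3, 4], [0, 1, 2, 0, 3,
  1, 2, 0, 3, 2, 4, 3, 1, 2, 0, 3, 2, 4, 3, 1], []), ([0, 1, 2, 3, 5], [0, 1, 2, 0, 3, 1, 2, 0,
  3, 2, 5], []), ([0, 1, 2, 3, 6], [0, 1, 2, 0, 3, 1, 2, 0, 3, 2, 6], []), ([0, 1, 2, 4, 5], [0,
  1, 2, 0, 4, 5, 4], []), ([0, 1, 2, 4, 6], [0, 1, 2, 0, 4, 6], []), ([0, 1, 2, 5, 6], [0, 1, 2,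
  0, 5, 6, 5], []), ([0, 1, 3, 4, 5], [0, 1, 3, 1, 4, 3, 1, 5, 4, 3, 1], []), ([0, 1, 3, 4, 6],
  [0, 1, 3, 1, 4, 3, 1, 6], []), ([0, 1, 3, 5, 6], [0, 1, 3, 1, 5, 6, 5], []), ([0, 1, 4, 5, 6],
  [0, 1, 4, 5, 4, 6, 5, 4], []), ([0, 2, 3, 4, 5], [0, 2, 0, 3, 2, 0, 4, 3, 2, 0, 5, 4, 3, 2,
  0], []), ([0, 2, 3, 4, 6], [0, 2, 0, 3, 2, 0, 4, 3, 2, 0, 6], []), ([0, 2, 3, 5, 6], [0, 2, 0,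
  3, 2, 0, 5, 6, 5], []), ([0, 2, 4, 5, 6], [0, 2, 0, 4, 5, 4, 6, 5, 4], []), ([0, 3, 4, 5, 6],
  [0, 3, 4, 3, 5, 4, 3, 6, 5, 4, 3], []), ([1, 2, 3, 4, 5], [1, 2, 3, 1, 2, 3, 4, 3, 1, 2, 3, 4,
  5, 4, 3, 1, 2, 3, 4, 5], []), ([1, 2, 3, 4, 6], [1, 2, 3, 1, 2, 3, 4, 3, 1, 2, 3, 4, 6], [5,
  4, 3, 2, 1, 3, 4, 5, 6, 0, 2, 3, 4, 5, 1, 3, 4, 2, 3, 0, 2, 1, 3, 4, 5, 6, 0, 2, 3, 4, 5, 1,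
  3, 4, 2, 3, 0, 2, 1, 3, 4, 5, 0, 2, 3, 4, 1, 3, 2, 0]), ([1, 2, 3, 5, 6], [1, 2, 3, 1, 2, 3,
  5, 6, 5], []), ([1, 2, 4, 5, 6], [1, 2, 4, 5, 4, 6, 5, 4], []), ([1, 3, 4, 5, 6], [1, 3, 1, 4,
  3, 1, 5, 4, 3, 1, 6, 5, 4, 3, 1], []), ([2, 3, 4, 5, 6], [2, 3, 2, 4, 3, 2, 5, 4, 3, 2, 6, 5,
  4, 3, 2], []), ([0, 1, 2, 3, 4, 5], [0, 1, 2, 0, 3, 1, 2, 0, 3, 2, 4, 3, 1, 2, 0, 3, 2, 4, 3,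
  1, 5, 4, 3, 1, 2, 0, 3, 2, 4, 3, 1, 5, 4, 3, 2, 0], []), ([0, 1, 2, 3, 4, 6], [0, 1, 2, 0, 3,
  1, 2, 0, 3, 2, 4, 3, 1, 2, 0, 3, 2, 4, 3, 1, 6], []), ([0, 1, 2, 3, 5, 6], [0, 1, 2, 0, 3, 1,
  2, 0, 3, 2, 5, 6, 5], []), ([0, 1, 2, 4, 5, 6], [0, 1, 2, 0, 4, 5, 4, 6, 5, 4], []), ([0, 1,
  3, 4, 5, 6], [0, 1, 3, 1, 4, 3, 1, 5, 4, 3, 1, 6, 5, 4, 3, 1], []), ([0, 2, 3, 4, 5, 6], [0,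
  2, 0, 3, 2, 0, 4, 3, 2, 0, 5, 4, 3, 2, 0, 6, 5, 4, 3, 2, 0], []), ([1, 2, 3, 4, 5, 6], [1, 2,
  3, 1, 2, 3, 4, 3, 1, 2, 3, 4, 5, 4, 3, 1, 2, 3, 4, 5, 6, 5, 4, 3, 1, 2, 3, 4, 5, 6], [0, 2, 3,
  4, 5, 1, 3, 4, 2, 3, 0, 2, 1, 3, 4, 5, 6, 5, 4, 3, 2, 1, 3, 4, 5, 0, 2, 3, 4, 1, 3, 2, 0]),
  ([0, 1, 2, 3, 4, 5, 6], [0, 1, 2, 0, 3, 1, 2, 0, 3, 2, 4, 3, 1, 2, 0, 3, 2, 4, 3, 1, 5, 4, 3,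
  1, 2, 0, 3, 2, 4, 3, 1, 5, 4, 3, 2, 0, 6, 5, 4, 3, 1, 2, 0, 3, 2, 4, 3, 1, 5, 4, 3, 2, 0, 6,
  5, 4, 3, 1, 2, 3, 4, 5, 6], [])]

/-- the involutive local maxima (reduced words; the last one is the identity) -/
def lmE7 : List (List ℕ) :=
  [[6, 5, 4, 3, 2, 1, 3, 4, 5, 6, 0, 2, 3, 4, 5, 1, 3, 4, 2, 3, 0, 2, 1, 3, 4, 5, 6, 0, 2, 3, 4,
  5, 1, 3, 4, 2, 3, 0, 2, 1, 3, 4, 5, 1, 3, 4, 2, 3, 0, 2, 1, 3, 4, 2, 3, 0, 2, 1, 3, 0, 2, 1,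
  0], [6, 5, 4, 3, 2, 1, 3, 4, 5, 6, 0, 2, 3, 4, 5, 1, 3, 4, 2, 3, 0, 2, 1, 3, 4, 5, 6, 0, 2, 3,
  4, 5, 1, 3, 4, 2, 3, 0, 2, 1, 3, 4, 5, 1, 3, 4, 2, 3, 0, 2, 1, 3, 4, 2, 3, 0, 2, 1, 3, 0, 2,
  1], [6, 5, 4, 3, 2, 1, 3, 4, 5, 6, 0, 2, 3, 4, 5, 1, 3, 4, 2, 3, 0, 2, 1, 3, 4, 5, 6, 0, 2, 3,
  4, 5, 1, 3, 4, 2, 3, 0, 2, 1, 3, 4, 5, 1, 3, 4, 2, 3, 0, 2, 1, 3, 4, 2, 3, 0, 2, 1, 3, 0, 2,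
  0], [6, 5, 4, 3, 2, 1, 3, 4, 5, 6, 0, 2, 3, 4, 5, 1, 3, 4, 2, 3, 0, 2, 1, 3, 4, 5, 6, 0, 2, 3,
  4, 5, 1, 3, 4, 2, 3, 0, 2, 1, 3, 4, 5, 1, 3, 4, 2, 3, 0, 2, 1, 3, 4, 2, 3, 0, 2, 1, 3, 2, 1,
  0], [6, 5, 4, 3, 2, 1, 3, 4, 5, 6, 0, 2, 3, 4, 5, 1, 3, 4, 2, 3, 0, 2, 1, 3, 4, 5, 6, 0, 2, 3,
  4, 5, 1, 3, 4, 2, 3, 0, 2, 1, 3, 4, 5, 1, 3, 4, 2, 3, 0, 2, 1, 3, 4, 3, 0, 2, 1, 3, 0, 2, 1,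
  0], [6, 5, 4, 3, 2, 1, 3, 4, 5, 6, 0, 2, 3, 4, 5, 1, 3, 4, 2, 3, 0, 2, 1, 3, 4, 5, 6, 0, 2, 3,
  4, 5, 1, 3, 4, 2, 3, 0, 2, 1, 3, 4, 5, 3, 4, 2, 3, 0, 2, 1, 3, 4, 2, 3, 0, 2, 1, 3, 0, 2, 1,
  0], [6, 5, 4, 3, 2, 1, 3, 4, 5, 6, 0, 2, 3, 4, 5, 1, 3, 4, 2, 3, 0, 2, 1, 3, 4, 5, 6, 2, 3, 4,
  5, 1, 3, 4, 2, 3, 0, 2, 1, 3, 4, 5, 1, 3, 4, 2, 3, 0, 2, 1, 3, 4, 2, 3, 0, 2, 1, 3, 0, 2, 1,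
  0], [5, 4, 3, 2, 1, 3, 4, 5, 6, 0, 2, 3, 4, 5, 1, 3, 4, 2, 3, 0, 2, 1, 3, 4, 5, 6, 0, 2, 3, 4,
  5, 1, 3, 4, 2, 3, 0, 2, 1, 3, 4, 5, 1, 3, 4, 2, 3, 0, 2, 1, 3, 4, 2, 3, 0, 2, 1, 3, 0, 2, 1,
  0], [6, 5, 4, 3, 2, 1, 3, 4, 5, 6, 0, 2, 3, 4, 5, 1, 3, 4, 2, 3, 0, 2, 1, 3, 4, 5, 6, 0, 2, 3,
  4, 5, 1, 3, 4, 2, 3, 0, 2, 1, 3, 4, 5, 1, 3, 4, 2, 3, 0, 2, 1, 3, 4, 2, 3, 0, 2, 1, 3, 0, 2],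
  [6, 5, 4, 3, 2, 1, 3, 4, 5, 6, 0, 2, 3, 4, 5, 1, 3, 4, 2, 3, 0, 2, 1, 3, 4, 5, 6, 0, 2, 3, 4,
  5, 1, 3, 4, 2, 3, 0, 2, 1, 3, 4, 5, 1, 3, 4, 2, 3, 0, 2, 1, 3, 4, 3, 0, 2, 1, 3, 0, 2, 1], [6,
  5, 4, 3, 2, 1, 3, 4, 5, 6, 0, 2, 3, 4, 5, 1, 3, 4, 2, 3, 0, 2, 1, 3, 4, 5, 6, 0, 2, 3, 4, 5,
  1, 3, 4, 2, 3, 0, 2, 1, 3, 4, 5, 3, 4, 2, 3, 0, 2, 1, 3, 4, 2, 3, 0, 2, 1, 3, 0, 2, 1], [6, 5,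
  4, 3, 2, 1, 3, 4, 5, 6, 0, 2, 3, 4, 5, 1, 3, 4, 2, 3, 0, 2, 1, 3, 4, 5, 6, 2, 3, 4, 5, 1, 3,
  4, 2, 3, 0, 2, 1, 3, 4, 5, 1, 3, 4, 2, 3, 0, 2, 1, 3, 4, 2, 3, 0, 2, 1, 3, 0, 2, 1], [5, 4, 3,
  2, 1, 3, 4, 5, 6, 0, 2, 3, 4, 5, 1, 3, 4, 2, 3, 0, 2, 1, 3, 4, 5, 6, 0, 2, 3, 4, 5, 1, 3, 4,
  2, 3, 0, 2, 1, 3, 4, 5, 1, 3, 4, 2, 3, 0, 2, 1, 3, 4, 2, 3, 0, 2, 1, 3, 0, 2, 1], [6, 5, 4, 3,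
  2, 1, 3, 4, 5, 6, 0, 2, 3, 4, 5, 1, 3, 4, 2, 3, 0, 2, 1, 3, 4, 5, 6, 0, 2, 3, 4, 5, 1, 3, 4,
  2, 3, 0, 2, 1, 3, 4, 5, 1, 3, 4, 2, 3, 0, 2, 1, 3, 4, 2, 3, 0, 2, 1, 3, 2, 0], [6, 5, 4, 3, 2,
  1, 3, 4, 5, 6, 0, 2, 3, 4, 5, 1, 3, 4, 2, 3, 0, 2, 1, 3, 4, 5, 6, 0, 2, 3, 4, 5, 1, 3, 4, 2,
  3, 0, 2, 1, 3, 4, 5, 3, 4, 2, 3, 0, 2, 1, 3, 4, 2, 3, 0, 2, 1, 3, 0, 2, 0], [6, 5, 4, 3, 2, 1,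
  3, 4, 5, 6, 0, 2, 3, 4, 5, 1, 3, 4, 2, 3, 0, 2, 1, 3, 4, 5, 6, 2, 3, 4, 5, 1, 3, 4, 2, 3, 0,
  2, 1, 3, 4, 5, 1, 3, 4, 2, 3, 0, 2, 1, 3, 4, 2, 3, 0, 2, 1, 3, 0, 2, 0], [5, 4, 3, 2, 1, 3, 4,
  5, 6, 0, 2, 3, 4, 5, 1, 3, 4, 2, 3, 0, 2, 1, 3, 4, 5, 6, 0, 2, 3, 4, 5, 1, 3, 4, 2, 3, 0, 2,
  1, 3, 4, 5, 1, 3, 4, 2, 3, 0, 2, 1, 3, 4, 2, 3, 0, 2, 1, 3, 0, 2, 0], [6, 5, 4, 3, 2, 1, 3, 4,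
  5, 6, 0, 2, 3, 4, 5, 1, 3, 4, 2, 3, 0, 2, 1, 3, 4, 5, 6, 0, 2, 3, 4, 5, 1, 3, 4, 2, 3, 0, 2,
  1, 3, 4, 5, 3, 4, 2, 3, 0, 2, 1, 3, 4, 2, 3, 0, 2, 1, 3, 2, 1, 0], [6, 5, 4, 3, 2, 1, 3, 4, 5,
  6, 0, 2, 3, 4, 5, 1, 3, 4, 2, 3, 0, 2, 1, 3, 4, 5, 6, 2, 3, 4, 5, 1, 3, 4, 2, 3, 0, 2, 1, 3,
  4, 5, 1, 3, 4, 2, 3, 0, 2, 1, 3, 4, 2, 3, 0, 2, 1, 3, 2, 1, 0], [5, 4, 3, 2, 1, 3, 4, 5, 6, 0,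
  2, 3, 4, 5, 1, 3, 4, 2, 3, 0, 2, 1, 3, 4, 5, 6, 0, 2, 3, 4, 5, 1, 3, 4, 2, 3, 0, 2, 1, 3, 4,
  5, 1, 3, 4, 2, 3, 0, 2, 1, 3, 4, 2, 3, 0, 2, 1, 3, 2, 1, 0], [6, 5, 4, 3, 2, 1, 3, 4, 5, 6, 0,
  2, 3, 4, 5, 1, 3, 4, 2, 3, 0, 2, 1, 3, 4, 5, 6, 2, 3, 4, 5, 1, 3, 4, 2, 3, 0, 2, 1, 3, 4, 5,
  1, 3, 4, 2, 3, 0, 2, 1, 3, 4, 3, 0, 2, 1, 3, 0, 2, 1, 0], [5, 4, 3, 2, 1, 3, 4, 5, 6, 0, 2, 3,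
  4, 5, 1, 3, 4, 2, 3, 0, 2, 1, 3, 4, 5, 6, 0, 2, 3, 4, 5, 1, 3, 4, 2, 3, 0, 2, 1, 3, 4, 5, 1,
  3, 4, 2, 3, 0, 2, 1, 3, 4, 3, 0, 2, 1, 3, 0, 2, 1, 0], [5, 4, 3, 2, 1, 3, 4, 5, 6, 0, 2, 3, 4,
  5, 1, 3, 4, 2, 3, 0, 2, 1, 3, 4, 5, 6, 0, 2, 3, 4, 5, 1, 3, 4, 2, 3, 0, 2, 1, 3, 4, 5, 3, 4,
  2, 3, 0, 2, 1, 3, 4, 2, 3, 0, 2, 1, 3, 0, 2, 1, 0], [6, 5, 4, 3, 2, 1, 3, 4, 5, 6, 0, 2, 3, 4,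
  5, 1, 3, 4, 2, 3, 0, 2, 1, 3, 4, 5, 6, 0, 2, 3, 4, 5, 1, 3, 4, 2, 3, 0, 2, 1, 3, 4, 5, 3, 4,
  2, 3, 0, 2, 1, 3, 4, 2, 3, 0, 2, 1, 3, 0, 2], [6, 5, 4, 3, 2, 1, 3, 4, 5, 6, 0, 2, 3, 4, 5, 1,
  3, 4, 2, 3, 0, 2, 1, 3, 4, 5, 6, 2, 3, 4, 5, 1, 3, 4, 2, 3, 0, 2, 1, 3, 4, 5, 1, 3, 4, 2, 3,
  0, 2, 1, 3, 4, 2, 3, 0, 2, 1, 3, 0, 2], [5, 4, 3, 2, 1, 3, 4, 5, 6, 0, 2, 3, 4, 5, 1, 3, 4, 2,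
  3, 0, 2, 1, 3, 4, 5, 6, 0, 2, 3, 4, 5, 1, 3, 4, 2, 3, 0, 2, 1, 3, 4, 5, 1, 3, 4, 2, 3, 0, 2,
  1, 3, 4, 2, 3, 0, 2, 1, 3, 0, 2], [6, 5, 4, 3, 2, 1, 3, 4, 5, 6, 0, 2, 3, 4, 5, 1, 3, 4, 2, 3,
  0, 2, 1, 3, 4, 5, 6, 2, 3, 4, 5, 1, 3, 4, 2, 3, 0, 2, 1, 3, 4, 5, 1, 3, 4, 2, 3, 0, 2, 1, 3,
  4, 3, 0, 2, 1, 3, 0, 2, 1], [5, 4, 3, 2, 1, 3, 4, 5, 6, 0, 2, 3, 4, 5, 1, 3, 4, 2, 3, 0, 2, 1,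
  3, 4, 5, 6, 0, 2, 3, 4, 5, 1, 3, 4, 2, 3, 0, 2, 1, 3, 4, 5, 1, 3, 4, 2, 3, 0, 2, 1, 3, 4, 3,
  0, 2, 1, 3, 0, 2, 1], [5, 4, 3, 2, 1, 3, 4, 5, 6, 0, 2, 3, 4, 5, 1, 3, 4, 2, 3, 0, 2, 1, 3, 4,
  5, 6, 0, 2, 3, 4, 5, 1, 3, 4, 2, 3, 0, 2, 1, 3, 4, 5, 3, 4, 2, 3, 0, 2, 1, 3, 4, 2, 3, 0, 2,
  1, 3, 0, 2, 1], [6, 5, 4, 3, 2, 1, 3, 4, 5, 6, 0, 2, 3, 4, 5, 1, 3, 4, 2, 3, 0, 2, 1, 3, 4, 5,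
  6, 0, 2, 3, 4, 5, 1, 3, 4, 2, 3, 0, 2, 1, 3, 4, 5, 3, 4, 2, 3, 0, 2, 1, 3, 4, 2, 3, 0, 2, 1,
  3, 2, 0], [6, 5, 4, 3, 2, 1, 3, 4, 5, 6, 0, 2, 3, 4, 5, 1, 3, 4, 2, 3, 0, 2, 1, 3, 4, 5, 6, 2,
  3, 4, 5, 1, 3, 4, 2, 3, 0, 2, 1, 3, 4, 5, 1, 3, 4, 2, 3, 0, 2, 1, 3, 4, 2, 3, 0, 2, 1, 3, 2,
  0], [5, 4, 3, 2, 1, 3, 4, 5, 6, 0, 2, 3, 4, 5, 1, 3, 4, 2, 3, 0, 2, 1, 3, 4, 5, 6, 0, 2, 3, 4,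
  5, 1, 3, 4, 2, 3, 0, 2, 1, 3, 4, 5, 1, 3, 4, 2, 3, 0, 2, 1, 3, 4, 2, 3, 0, 2, 1, 3, 2, 0], [5,
  4, 3, 2, 1, 3, 4, 5, 6, 0, 2, 3, 4, 5, 1, 3, 4, 2, 3, 0, 2, 1, 3, 4, 5, 6, 0, 2, 3, 4, 5, 1,
  3, 4, 2, 3, 0, 2, 1, 3, 4, 5, 3, 4, 2, 3, 0, 2, 1, 3, 4, 2, 3, 0, 2, 1, 3, 0, 2, 0], [5, 4, 3,
  2, 1, 3, 4, 5, 6, 0, 2, 3, 4, 5, 1, 3, 4, 2, 3, 0, 2, 1, 3, 4, 5, 6, 0, 2, 3, 4, 5, 1, 3, 4,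
  2, 3, 0, 2, 1, 3, 4, 5, 3, 4, 2, 3, 0, 2, 1, 3, 4, 2, 3, 0, 2, 1, 3, 2, 1, 0], [5, 4, 3, 2, 1,
  3, 4, 5, 6, 0, 2, 3, 4, 5, 1, 3, 4, 2, 3, 0, 2, 1, 3, 4, 5, 6, 0, 2, 3, 4, 5, 1, 3, 4, 2, 3,
  0, 2, 1, 3, 4, 5, 3, 4, 2, 3, 0, 2, 1, 3, 4, 2, 3, 0, 2, 1, 3, 0, 2], [6, 5, 4, 3, 2, 1, 3, 4,
  5, 6, 0, 2, 3, 4, 5, 1, 3, 4, 2, 3, 0, 2, 1, 3, 4, 5, 6, 0, 2, 3, 4, 5, 1, 3, 4, 2, 3, 0, 2,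
  1, 3, 4, 5, 0, 2, 3, 4, 1, 3, 2, 0], [5, 4, 3, 2, 1, 3, 4, 5, 6, 0, 2, 3, 4, 5, 1, 3, 4, 2, 3,
  0, 2, 1, 3, 4, 5, 6, 0, 2, 3, 4, 5, 1, 3, 4, 2, 3, 0, 2, 1, 3, 4, 5, 3, 4, 2, 3, 0, 2, 1, 3,
  4, 2, 3, 0, 2, 1, 3, 2, 0], [5, 4, 3, 2, 1, 3, 4, 5, 6, 0, 2, 3, 4, 5, 1, 3, 4, 2, 3, 0, 2, 1,
  3, 4, 5, 6, 0, 2, 3, 4, 5, 1, 3, 4, 2, 3, 0, 2, 1, 3, 4, 5, 0, 2, 3, 4, 1, 3, 2, 0], [0, 2, 3,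
  4, 5, 1, 3, 4, 2, 3, 0, 2, 1, 3, 4, 5, 6, 5, 4, 3, 2, 1, 3, 4, 5, 0, 2, 3, 4, 1, 3, 2, 0], []]

theorem lmE7_length : lmE7.length = 40 := by decide

def chunk0 : List (List ℕ) :=
  [[], [0], [1], [2], [3], [4], [5], [6], [0, 1], [0, 2], [0, 3], [0, 4], [0, 5], [0, 6], [1,
  2], [1, 3]]

set_option maxRecDepth 1000000 in
theorem chkRow_0 : ∀ I ∈ chunk0, chkRowP chevE7 rtE7 psE7 w0E7 liE7 lmE7 I = true := by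
  decide +kernel

def chunk1 : List (List ℕ) :=
  [[1, 4], [1, 5], [1, 6], [2, 3], [2, 4], [2, 5], [2, 6], [3, 4], [3, 5], [3, 6], [4, 5], [4,
  6], [5, 6], [0, 1, 2], [0, 1, 3], [0, 1, 4]]

set_option maxRecDepth 1000000 in
theorem chkRow_1 : ∀ I ∈ chunk1, chkRowP chevE7 rtE7 psE7 w0E7 liE7 lmE7 I = true := by
  decide +kernel

def chunk2 : List (List ℕ) :=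
  [[0, 1, 5], [0, 1, 6], [0, 2, 3], [0, 2, 4], [0, 2, 5], [0, 2, 6], [0, 3, 4], [0, 3, 5], [0,
  3, 6], [0, 4, 5], [0, 4, 6], [0, 5, 6], [1, 2, 3], [1, 2, 4], [1, 2, 5], [1, 2, 6]]

set_option maxRecDepth 1000000 in
theorem chkRow_2 : ∀ I ∈ chunk2, chkRowP chevE7 rtE7 psE7 w0E7 liE7 lmE7 I = true := by
  decide +kernel

def chunk3 : List (List ℕ) :=
  [[1, 3, 4], [1, 3, 5], [1, 3, 6], [1, 4, 5], [1, 4, 6], [1, 5, 6], [2, 3, 4], [2, 3, 5], [2,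
  3, 6], [2, 4, 5], [2, 4, 6], [2, 5, 6], [3, 4, 5], [3, 4, 6], [3, 5, 6], [4, 5, 6]]

set_option maxRecDepth 1000000 in
theorem chkRow_3 : ∀ I ∈ chunk3, chkRowP chevE7 rtE7 psE7 w0E7 liE7 lmE7 I = true := by
  decide +kernel

def chunk4 : List (List ℕ) :=
  [[0, 1, 2, 3], [0, 1, 2, 4], [0, 1, 2, 5], [0, 1, 2, 6], [0, 1, 3, 4], [0, 1, 3, 5], [0, 1, 3,
  6], [0, 1, 4, 5], [0, 1, 4, 6], [0, 1, 5, 6], [0, 2, 3, 4], [0, 2, 3, 5], [0, 2, 3, 6], [0, 2,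
  4, 5], [0, 2, 4, 6], [0, 2, 5, 6]]

set_option maxRecDepth 1000000 in
theorem chkRow_4 : ∀ I ∈ chunk4, chkRowP chevE7 rtE7 psE7 w0E7 liE7 lmE7 I = true := by
  decide +kernel

def chunk5 : List (List ℕ) :=
  [[0, 3, 4, 5], [0, 3, 4, 6], [0, 3, 5, 6], [0, 4, 5, 6], [1, 2, 3, 4], [1, 2, 3, 5], [1, 2, 3,
  6], [1, 2, 4, 5], [1, 2, 4, 6], [1, 2, 5, 6], [1, 3, 4, 5], [1, 3, 4, 6], [1, 3, 5, 6], [1, 4,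
  5, 6], [2, 3, 4, 5], [2, 3, 4, 6]]

set_option maxRecDepth 1000000 in
theorem chkRow_5 : ∀ I ∈ chunk5, chkRowP chevE7 rtE7 psE7 w0E7 liE7 lmE7 I = true := by
  decide +kernel

def chunk6 : List (List ℕ) :=
  [[2, 3, 5, 6], [2, 4, 5, 6], [3, 4, 5, 6], [0, 1, 2, 3, 4], [0, 1, 2, 3, 5], [0, 1, 2, 3, 6],
  [0, 1, 2, 4, 5], [0, 1, 2, 4, 6], [0, 1, 2, 5, 6], [0, 1, 3, 4, 5], [0, 1, 3, 4, 6], [0, 1, 3,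
  5, 6], [0, 1, 4, 5, 6], [0, 2, 3, 4, 5], [0, 2, 3, 4, 6], [0, 2, 3, 5, 6]]

set_option maxRecDepth 1000000 in
theorem chkRow_6 : ∀ I ∈ chunk6, chkRowP chevE7 rtE7 psE7 w0E7 liE7 lmE7 I = true := by
  decide +kernel

def chunk7 : List (List ℕ) :=
  [[0, 2, 4, 5, 6], [0, 3, 4, 5, 6], [1, 2, 3, 4, 5], [1, 2, 3, 4, 6], [1, 2, 3, 5, 6], [1, 2,
  4, 5, 6], [1, 3, 4, 5, 6], [2, 3, 4, 5, 6], [0, 1, 2, 3, 4, 5], [0, 1, 2, 3, 4, 6], [0, 1, 2,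
  3, 5, 6], [0, 1, 2, 4, 5, 6], [0, 1, 3, 4, 5, 6], [0, 2, 3, 4, 5, 6], [1, 2, 3, 4, 5, 6], [0,
  1, 2, 3, 4, 5, 6]]

set_option maxRecDepth 1000000 in
theorem chkRow_7 : ∀ I ∈ chunk7, chkRowP chevE7 rtE7 psE7 w0E7 liE7 lmE7 I = true := by
  decide +kernel

set_option maxRecDepth 1000000 in
theorem sublists_split : ∀ I ∈ (List.range chevE7.rank).sublists,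
    I ∈ chunk0 ∨ I ∈ chunk1 ∨ I ∈ chunk2 ∨ I ∈ chunk3 ∨ I ∈ chunk4 ∨ I ∈ chunk5 ∨ I ∈ chunk6 ∨ I
    ∈ chunk7 := by
  decide +kernel

theorem chkRow_E7 : ∀ I ∈ (List.range chevE7.rank).sublists,
    chkRowP chevE7 rtE7 psE7 w0E7 liE7 lmE7 I = true := by
  intro I hI
  rcases sublists_split I hI with h | h | h | h | h | h | h | h
  · exact chkRow_0 I h
  · exact chkRow_1 I h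
  · exact chkRow_2 I h
  · exact chkRow_3 I h
  · exact chkRow_4 I h
  · exact chkRow_5 I h
  · exact chkRow_6 I h
  · exact chkRow_7 I h

/-- **Unit T.** an involutive local maximum of `W(E7)` acts like one of the words `lmE7` -/
theorem h2_T_locmax_cases7 (w : List ℕ) (hw : Wd chevE7 w)
    (hw2 : ∀ r < chevE7.nroots, wAct chevE7 (w ++ w) r = r) (hl : LocMax chevE7 w) :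
    ∃ k < 40, Wd chevE7 (lmE7.getD k []) ∧
      ∀ r < chevE7.nroots, wAct chevE7 w r = wAct chevE7 (lmE7.getD k []) r := by
  obtain ⟨v, hv, hvwd, hact⟩ :=
    locmax_cases_of_tableP chevE7 memE7v rtE7 psE7 tabOK_E7 w0E7 chkW0_w0E7 liE7 lmE7
      chkRow_E7 w hw hw2 hl
  rw [List.mem_iff_getElem] at hv
  obtain ⟨k, hk, e⟩ := hv
  have hk6 : k < 40 := by rw [← lmE7_length]; exact hk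
  have e2 : lmE7.getD k [] = v := by
    rw [List.getD_eq_getElem _ _ hk]; exact e
  exact ⟨k, hk6, by rw [e2]; exact hvwd, by rw [e2]; exact hact⟩

end Cfsg.Agent.Lib.Helper2.E7Ev
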