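import Mathlib
import Cfsg.Agent.Lib.Helper8.Wielandt3

set_option autoImplicit false
set_option linter.style.haveILetI false

/-! A Wielandt-type inequality for an abelian `p`-group `A = ⟨x, z⟩`, `z ^ p = 1`, acting coprimely
on `Q`: `∏_{i<p} |C_Q(x z^i)| * |C_Q(z)|` divides `|Q| * |C_Q(A)| ^ p`.
(Adapted from helper8's proof of Wielandt's order formula.) -/

namespace Cfsg.Agent.Lib.Helper2.FixW1

open Cfsg.Agent.Lib.Helper8.Wielandt

variable {G : Type*} [Group G]

theorem coprime_card' [Finite G] {p : ℕ} [hp : Fact p.Prime] {A Q : Subgroup G}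
    (hAp : IsPGroup p ↥A) (hQ : ¬ p ∣ Nat.card ↥Q) :
    (Nat.card ↥A).Coprime (Nat.card ↥Q) := by
  obtain ⟨k, hk⟩ := IsPGroup.iff_card.1 hAp
  rw [hk]
  exact Nat.Coprime.pow_left _ ((Nat.Prime.coprime_iff_not_dvd hp.out).2 hQ)

theorem step_of_le_ker' [Finite G] {p : ℕ} [Fact p.Prime] {A S V : Subgroup G} {q : ℕ}
    [Fact q.Prime] (hAp : IsPGroup p ↥A) (hqp : q ≠ p)
    (hS : IsPGroup q ↥S) (hVS : V ≤ S) (hSV : S ≤ Subgroup.normalizer (V : Set G))
    {B : Subgroup G} (hBA : B ≤ A) (hB : B ≤ ker S V) :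
    S ≤ (S ⊓ Subgroup.centralizer (B : Set G)) ⊔ V := by
  have hp : p.Prime := Fact.out
  have hq : q.Prime := Fact.out
  have hBS : B ≤ Subgroup.normalizer (S : Set G) := fun b hb => (mem_ker.1 (hB hb)).1
  have hBV : B ≤ Subgroup.normalizer (V : Set G) := fun b hb => (mem_ker.1 (hB hb)).2.1
  have hcop : (Nat.card ↥B).Coprime (Nat.card ↥S) := by
    have hBp : IsPGroup p ↥B := hAp.to_le hBA
    obtain ⟨k, hk⟩ := IsPGroup.iff_card.1 hBp
    obtain ⟨l, hl⟩ := IsPGroup.iff_card.1 hS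
    rw [hk, hl]
    exact Nat.Coprime.pow _ _ ((Nat.coprime_primes hp hq).2 (Ne.symm hqp))
  intro k hk
  obtain ⟨c, hc, hkc⟩ := Cfsg.Agent.Lib.Helper1.coprime_fixed_points_quotient B S hBS hcop
    (Or.inr (haveI := hS.isNilpotent; inferInstance)) V hVS hSV hBV k hk
    (fun a ha => (mem_ker.1 (hB ha)).2.2 k hk)
  have e : k = c * (k⁻¹ * c)⁻¹ := by group
  rw [e]
  exact Subgroup.mul_mem_sup hc (V.inv_mem hkc)

theorem cc_sylow' [Finite G] {p : ℕ} [Fact p.Prime] {A Q : Subgroup G} {q : ℕ} [Fact q.Prime]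
    (hAc : IsMulCommutative ↥A) (hAp : IsPGroup p ↥A)
    (hAQ : A ≤ Subgroup.normalizer (Q : Set G)) (hQ : ¬ p ∣ Nat.card ↥Q)
    (S₀ : Sylow q ↥Q) (hS₀ : A ≤ Subgroup.normalizer ((S₀ : Subgroup Q).map Q.subtype : Set G))
    {B : Subgroup G} (hBA : B ≤ A) :
    cc ((S₀ : Subgroup Q).map Q.subtype) B = q ^ (cc Q B).factorization q := by
  have hq : q.Prime := Fact.out
  have hsolvA := isSolvable_of_isMulCommutative hAc
  have hACQ : A ≤ Subgroup.normalizer
      ((Q ⊓ Subgroup.centralizer (B : Set G) : Subgroup G) : Set G) :=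
    Cfsg.Agent.Lib.Helper1.le_normalizer_inf hAQ (le_normalizer_centralizer hAc hBA)
  have hcopQ := coprime_card' hAp hQ
  have hCQ : ¬ p ∣ Nat.card ↥(Q ⊓ Subgroup.centralizer (B : Set G) : Subgroup G) :=
    fun h => hQ (h.trans (Subgroup.card_dvd_of_le inf_le_left))
  have hcopCQ := coprime_card' hAp hCQ
  obtain ⟨T₀, hT₀⟩ := Cfsg.Agent.Lib.Helper1.coprime_exists_invariant_sylow A _ hACQ hcopCQ
    (Or.inl hsolvA) q
  have hTcard : Nat.card ↥((T₀ : Subgroup _).map
      (Q ⊓ Subgroup.centralizer (B : Set G)).subtype) = q ^ (cc Q B).factorization q := by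
    rw [Subgroup.card_map_of_injective (Subgroup.subtype_injective _)]
    exact T₀.card_eq_multiplicity
  have hTle : (T₀ : Subgroup _).map (Q ⊓ Subgroup.centralizer (B : Set G)).subtype ≤
      Q ⊓ Subgroup.centralizer (B : Set G) := Subgroup.map_subtype_le _
  obtain ⟨S₁, hTS₁, hAS₁⟩ := Cfsg.Agent.Lib.Helper1.coprime_invariant_le_sylow A Q hAQ hcopQ
    (Or.inl hsolvA) q _ (hTle.trans inf_le_left) (T₀.isPGroup'.map _) hT₀
  obtain ⟨c, hcA, hc⟩ := Cfsg.Agent.Lib.Helper1.coprime_invariant_sylow_conj A Q hAQ hcopQ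
    (Or.inl hsolvA) q S₁ S₀ hAS₁ hS₀
  have hcS := Cfsg.Agent.Lib.Helper8.SigFun.map_subtype_conj_smul Q c S₁ S₀ hc
  have hcB : (c : G) ∈ Subgroup.centralizer (B : Set G) :=
    Subgroup.centralizer_le (by exact_mod_cast hBA) hcA
  have hle : ((T₀ : Subgroup _).map (Q ⊓ Subgroup.centralizer (B : Set G)).subtype).map
      (MulAut.conj (c : G)).toMonoidHom ≤
      (S₀ : Subgroup Q).map Q.subtype ⊓ Subgroup.centralizer (B : Set G) := by
    rintro _ ⟨t, ht, rfl⟩
    refine ⟨?_, ?_⟩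
    · rw [← hcS]
      exact ⟨t, hTS₁ ht, rfl⟩
    · have htB : t ∈ Subgroup.centralizer (B : Set G) := (hTle ht).2
      simp only [MulEquiv.coe_toMonoidHom, MulAut.conj_apply]
      exact Subgroup.mul_mem _ (Subgroup.mul_mem _ hcB htB) (Subgroup.inv_mem _ hcB)
  have h1 : q ^ (cc Q B).factorization q ≤ cc ((S₀ : Subgroup Q).map Q.subtype) B := by
    rw [← hTcard, ← Subgroup.card_map_of_injective
      (f := (MulAut.conj (c : G)).toMonoidHom) (MulAut.conj (c : G)).injective]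
    exact Subgroup.card_le_of_le hle
  have hSq : IsPGroup q ↥((S₀ : Subgroup Q).map Q.subtype ⊓ Subgroup.centralizer (B : Set G) :
      Subgroup G) := (S₀.isPGroup'.map _).to_le inf_le_left
  obtain ⟨k, hk⟩ := IsPGroup.iff_card.1 hSq
  have hk' : cc ((S₀ : Subgroup Q).map Q.subtype) B = q ^ k := hk
  have hdvd : q ^ k ∣ cc Q B := by
    rw [← hk]
    exact Subgroup.card_dvd_of_le (inf_le_inf_right _ (Subgroup.map_subtype_le _))
  have h2 : k ≤ (cc Q B).factorization q :=
    (hq.pow_dvd_iff_le_factorization (cc_pos Q B).ne').1 hdvd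
  rw [hk'] at h1 ⊢
  have h3 : (cc Q B).factorization q ≤ k := (Nat.pow_le_pow_iff_right hq.one_lt).1 h1
  rw [le_antisymm h2 h3]

/-- The inequality, as a divisibility. -/
def W1 (p : ℕ) (x z : G) (A Q : Subgroup G) : Prop :=
  (∏ i ∈ Finset.range p, cc Q (Subgroup.zpowers (x * z ^ i))) * cc Q (Subgroup.zpowers z) ∣
    Nat.card ↥Q * cc Q A ^ p

theorem mem_of_pow_mem {p : ℕ} [hp : Fact p.Prime] {z : G} (hzp : z ^ p = 1) (T : Subgroup G)
    {d : ℕ} (hd0 : 0 < d) (hdp : d < p) (h : z ^ d ∈ T) : z ∈ T := by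
  have hord : orderOf z ∣ p := orderOf_dvd_of_pow_eq_one hzp
  have hcop : Nat.Coprime d (orderOf z) := by
    have h1 : Nat.Coprime d p := (Nat.coprime_of_lt_prime hd0.ne' hdp hp.out).symm
    exact Nat.Coprime.coprime_dvd_right hord h1
  obtain ⟨m, hm⟩ := exists_pow_eq_self_of_coprime hcop
  rw [← hm]
  exact T.pow_mem h m

theorem z_mem_of_two {p : ℕ} [Fact p.Prime] {x z : G} (hzp : z ^ p = 1) (T : Subgroup G)
    {a b : ℕ} (hab : a < b) (hbp : b < p) (ha : x * z ^ a ∈ T) (hb : x * z ^ b ∈ T) : z ∈ T := by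
  apply mem_of_pow_mem hzp T (d := b - a) (by omega) (by omega)
  have e : z ^ (b - a) = (x * z ^ a)⁻¹ * (x * z ^ b) := by
    have h1 : z ^ b = z ^ a * z ^ (b - a) := by
      rw [← pow_add]; congr 1; omega
    rw [h1]; group
  rw [e]
  exact T.mul_mem (T.inv_mem ha) hb

theorem step_W1 [Finite G] {p : ℕ} [Fact p.Prime] {A S V : Subgroup G} {x z : G} {q : ℕ}
    [Fact q.Prime] (hAc : IsMulCommutative ↥A) (hAp : IsPGroup p ↥A) (hx : x ∈ A)
    (hz : z ∈ A) (hzp : z ^ p = 1) (hgen : ∀ T : Subgroup G, x ∈ T → z ∈ T → A ≤ T)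
    (hqp : q ≠ p)
    (hS : IsPGroup q ↥S) (hAS : A ≤ Subgroup.normalizer (S : Set G))
    (hVS : V < S) (hAV : A ≤ Subgroup.normalizer (V : Set G))
    (hmax : ∀ V' : Subgroup G, V ≤ V' → V' < S → A ≤ Subgroup.normalizer (V' : Set G) → V' ≤ V)
    (hWV : W1 p x z A V) : W1 p x z A S := by
  have hSV := step_normal hS hAS hVS hAV hmax
  have hZi : ∀ i : ℕ, Subgroup.zpowers (x * z ^ i) ≤ A := by
    intro i
    rw [Subgroup.zpowers_le]
    exact A.mul_mem hx (A.pow_mem hz _)
  have hZz : Subgroup.zpowers z ≤ A := by rw [Subgroup.zpowers_le]; exact hz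
  have hnle : ∀ B : Subgroup G, B ≤ A → ¬ B ≤ ker S V →
      S ⊓ Subgroup.centralizer (B : Set G) ≤ V := by
    intro B hBA hB
    rcases step_dichotomy hAc hAS hVS hAV hmax hBA with h | h
    · exact absurd (step_le_ker hVS.le hSV (hBA.trans hAS) (hBA.trans hAV) h) hB
    · exact h
  obtain ⟨r, hr⟩ : ∃ r, Nat.card ↥S = r * Nat.card ↥V := by
    obtain ⟨c, hc⟩ := Subgroup.card_dvd_of_le hVS.le
    exact ⟨c, by rw [hc, mul_comm]⟩
  have hvpos : 0 < Nat.card ↥V := Nat.card_pos
  have hker : ∀ B : Subgroup G, B ≤ A → B ≤ ker S V → cc S B = r * cc V B := by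
    intro B hBA hB
    have h := step_card_of_le hVS.le hSV (step_of_le_ker' hAp hqp hS hVS.le hSV hBA hB)
    rw [hr] at h
    apply Nat.eq_of_mul_eq_mul_right hvpos
    rw [h]
    ring
  have hnker : ∀ B : Subgroup G, B ≤ A → ¬ B ≤ ker S V → cc S B = cc V B := by
    intro B hBA hB
    exact step_card_of_le' hVS.le (hnle B hBA hB)
  have hzle : ∀ y : G, Subgroup.zpowers y ≤ ker S V ↔ y ∈ ker S V := fun y => Subgroup.zpowers_le
  unfold W1 at hWV ⊢
  by_cases hzk : z ∈ ker S V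
  · have hzk' : Subgroup.zpowers z ≤ ker S V := (hzle z).2 hzk
    by_cases hxk : x ∈ ker S V
    · have hAT : A ≤ ker S V := hgen _ hxk hzk
      have h1 : ∀ i ∈ Finset.range p, cc S (Subgroup.zpowers (x * z ^ i)) =
          r * cc V (Subgroup.zpowers (x * z ^ i)) :=
        fun i _ => hker _ (hZi i) ((hZi i).trans hAT)
      rw [Finset.prod_congr rfl h1, hker A le_rfl hAT, hker _ hZz hzk', Finset.prod_mul_distrib,
        Finset.prod_const, Finset.card_range, hr, mul_pow]
      have e1 : r ^ p * (∏ i ∈ Finset.range p, cc V (Subgroup.zpowers (x * z ^ i))) *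
          (r * cc V (Subgroup.zpowers z)) =
          (r ^ p * r) * ((∏ i ∈ Finset.range p, cc V (Subgroup.zpowers (x * z ^ i))) *
            cc V (Subgroup.zpowers z)) := by ring
      have e2 : r * Nat.card ↥V * (r ^ p * cc V A ^ p) =
          (r ^ p * r) * (Nat.card ↥V * cc V A ^ p) := by ring
      rw [e1, e2]
      exact mul_dvd_mul_left _ hWV
    · have hAT : ¬ A ≤ ker S V := fun h => hxk (h hx)
      have h1 : ∀ i ∈ Finset.range p, cc S (Subgroup.zpowers (x * z ^ i)) =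
          cc V (Subgroup.zpowers (x * z ^ i)) := by
        intro i _
        apply hnker _ (hZi i)
        intro h
        apply hxk
        have h2 : x * z ^ i ∈ ker S V := h (Subgroup.mem_zpowers _)
        have e : x = (x * z ^ i) * (z ^ i)⁻¹ := by group
        rw [e]
        exact (ker S V).mul_mem h2 ((ker S V).inv_mem ((ker S V).pow_mem hzk i))
      rw [Finset.prod_congr rfl h1, hnker A le_rfl hAT, hker _ hZz hzk', hr]
      have e1 : (∏ i ∈ Finset.range p, cc V (Subgroup.zpowers (x * z ^ i))) *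
          (r * cc V (Subgroup.zpowers z)) =
          r * ((∏ i ∈ Finset.range p, cc V (Subgroup.zpowers (x * z ^ i))) *
            cc V (Subgroup.zpowers z)) := by ring
      have e2 : r * Nat.card ↥V * cc V A ^ p = r * (Nat.card ↥V * cc V A ^ p) := by ring
      rw [e1, e2]
      exact mul_dvd_mul_left _ hWV
  · have hAT : ¬ A ≤ ker S V := fun h => hzk (h hz)
    have hzk' : ¬ Subgroup.zpowers z ≤ ker S V := fun h => hzk (h (Subgroup.mem_zpowers _))
    rw [hnker A le_rfl hAT, hnker _ hZz hzk', hr]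
    have e2 : r * Nat.card ↥V * cc V A ^ p = r * (Nat.card ↥V * cc V A ^ p) := by ring
    rw [e2]
    by_cases hex : ∃ i ∈ Finset.range p, x * z ^ i ∈ ker S V
    · obtain ⟨i₀, hi₀, hi₀k⟩ := hex
      have huniq : ∀ j ∈ Finset.range p, j ≠ i₀ → ¬ x * z ^ j ∈ ker S V := by
        intro j hj hji hjk
        rw [Finset.mem_range] at hj hi₀
        rcases lt_or_gt_of_ne hji with h | h
        · exact hzk (z_mem_of_two hzp _ h hi₀ hjk hi₀k)
        · exact hzk (z_mem_of_two hzp _ h hj hi₀k hjk)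
      have h1 : ∀ j ∈ Finset.range p, cc S (Subgroup.zpowers (x * z ^ j)) =
          (if j = i₀ then r else 1) * cc V (Subgroup.zpowers (x * z ^ j)) := by
        intro j hj
        by_cases hji : j = i₀
        · subst hji
          rw [if_pos rfl]
          exact hker _ (hZi j) ((hzle _).2 hi₀k)
        · rw [if_neg hji, one_mul]
          exact hnker _ (hZi j) (fun h => huniq j hj hji (h (Subgroup.mem_zpowers _)))
      rw [Finset.prod_congr rfl h1, Finset.prod_mul_distrib, Finset.prod_ite_eq', if_pos hi₀]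
      have e1 : r * (∏ i ∈ Finset.range p, cc V (Subgroup.zpowers (x * z ^ i))) *
          cc V (Subgroup.zpowers z) =
          r * ((∏ i ∈ Finset.range p, cc V (Subgroup.zpowers (x * z ^ i))) *
            cc V (Subgroup.zpowers z)) := by ring
      rw [e1]
      exact mul_dvd_mul_left _ hWV
    · push Not at hex
      have h1 : ∀ i ∈ Finset.range p, cc S (Subgroup.zpowers (x * z ^ i)) =
          cc V (Subgroup.zpowers (x * z ^ i)) :=
        fun i hi => hnker _ (hZi i) (fun h => hex i hi (h (Subgroup.mem_zpowers _)))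
      rw [Finset.prod_congr rfl h1]
      exact Dvd.dvd.mul_left hWV r

theorem W1_of_isPGroup [Finite G] {p : ℕ} [Fact p.Prime] {A : Subgroup G} {x z : G} {q : ℕ}
    [Fact q.Prime] (hAc : IsMulCommutative ↥A) (hAp : IsPGroup p ↥A) (hx : x ∈ A)
    (hz : z ∈ A) (hzp : z ^ p = 1) (hgen : ∀ T : Subgroup G, x ∈ T → z ∈ T → A ≤ T)
    (hqp : q ≠ p) (n : ℕ) :
    ∀ S : Subgroup G, Nat.card ↥S = n → IsPGroup q ↥S → A ≤ Subgroup.normalizer (S : Set G) →
      W1 p x z A S := by
  induction n using Nat.strong_induction_on with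
  | _ n ih =>
    intro S hSn hS hAS
    by_cases hbot : S = ⊥
    · subst hbot
      unfold W1 cc
      simp
    · have hfin : {V : Subgroup G | V < S ∧ A ≤ Subgroup.normalizer (V : Set G)}.Finite :=
        Set.toFinite _
      have hmem : (⊥ : Subgroup G) ∈
          {V : Subgroup G | V < S ∧ A ≤ Subgroup.normalizer (V : Set G)} := by
        refine ⟨bot_lt_iff_ne_bot.2 hbot, ?_⟩
        intro a _
        rw [Subgroup.mem_normalizer_iff]
        intro h
        simp [Subgroup.mem_bot]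
      obtain ⟨V, -, hV⟩ := hfin.exists_le_maximal hmem
      have hVS : V < S := hV.prop.1
      have hAV : A ≤ Subgroup.normalizer (V : Set G) := hV.prop.2
      have hmax : ∀ V' : Subgroup G, V ≤ V' → V' < S →
          A ≤ Subgroup.normalizer (V' : Set G) → V' ≤ V :=
        fun V' h1 h2 h3 => hV.le_of_ge ⟨h2, h3⟩ h1
      have hlt : Nat.card ↥V < n := by
        rw [← hSn]
        by_contra hcon
        push Not at hcon
        exact hVS.ne (Subgroup.eq_of_le_of_card_ge hVS.le hcon)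
      have hFV := ih _ hlt V rfl (hS.to_le hVS.le) hAV
      exact step_W1 hAc hAp hx hz hzp hgen hqp hS hAS hVS hAV hmax hFV

theorem W1_general [Finite G] {p : ℕ} [Fact p.Prime] {A : Subgroup G} {x z : G}
    (hAc : IsMulCommutative ↥A) (hAp : IsPGroup p ↥A) (hx : x ∈ A) (hz : z ∈ A)
    (hzp : z ^ p = 1) (hgen : ∀ T : Subgroup G, x ∈ T → z ∈ T → A ≤ T) (Q : Subgroup G)
    (hAQ : A ≤ Subgroup.normalizer (Q : Set G)) (hQ : ¬ p ∣ Nat.card ↥Q) :
    W1 p x z A Q := by
  have hp : p.Prime := Fact.out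
  have hZi : ∀ i : ℕ, Subgroup.zpowers (x * z ^ i) ≤ A := by
    intro i
    rw [Subgroup.zpowers_le]
    exact A.mul_mem hx (A.pow_mem hz _)
  have hZz : Subgroup.zpowers z ≤ A := by rw [Subgroup.zpowers_le]; exact hz
  have hQ0 : Nat.card ↥Q ≠ 0 := Nat.card_pos.ne'
  have hc0 : ∀ B : Subgroup G, cc Q B ≠ 0 := fun B => (cc_pos Q B).ne'
  have hP1 : ∏ i ∈ Finset.range p, cc Q (Subgroup.zpowers (x * z ^ i)) ≠ 0 :=
    Finset.prod_ne_zero_iff.2 fun _ _ => hc0 _
  unfold W1
  rw [← Nat.factorization_prime_le_iff_dvd (mul_ne_zero hP1 (hc0 _))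
    (mul_ne_zero hQ0 (pow_ne_zero _ (hc0 A)))]
  intro q hqP
  have e1 : ((∏ i ∈ Finset.range p, cc Q (Subgroup.zpowers (x * z ^ i))) *
      cc Q (Subgroup.zpowers z)).factorization q =
      ∑ i ∈ Finset.range p, (cc Q (Subgroup.zpowers (x * z ^ i))).factorization q +
        (cc Q (Subgroup.zpowers z)).factorization q := by
    rw [Nat.factorization_mul hP1 (hc0 _), Nat.factorization_prod (fun i _ => hc0 _)]
    simp [Finsupp.add_apply]
  have e2 : (Nat.card ↥Q * cc Q A ^ p).factorization q =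
      (Nat.card ↥Q).factorization q + p * (cc Q A).factorization q := by
    rw [Nat.factorization_mul hQ0 (pow_ne_zero _ (hc0 A)), Nat.factorization_pow]
    simp [Finsupp.add_apply]
  rw [e1, e2]
  by_cases hqp : q = p
  · subst hqp
    have hz0 : ∀ B : Subgroup G, (cc Q B).factorization q = 0 := by
      intro B
      apply Nat.factorization_eq_zero_of_not_dvd
      exact fun h => hQ (h.trans (Subgroup.card_dvd_of_le inf_le_left))
    simp [hz0]
  · haveI : Fact q.Prime := ⟨hqP⟩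
    have hsolvA := isSolvable_of_isMulCommutative hAc
    obtain ⟨S₀, hS₀⟩ := Cfsg.Agent.Lib.Helper1.coprime_exists_invariant_sylow A Q hAQ
      (coprime_card' hAp hQ) (Or.inl hsolvA) q
    have hF := W1_of_isPGroup hAc hAp hx hz hzp hgen hqp _ _ rfl (S₀.isPGroup'.map _) hS₀
    unfold W1 at hF
    have hcard : Nat.card ↥((S₀ : Subgroup Q).map Q.subtype) =
        q ^ (Nat.card ↥Q).factorization q := by
      rw [Subgroup.card_map_of_injective (Subgroup.subtype_injective _)]
      exact S₀.card_eq_multiplicity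
    rw [hcard, cc_sylow' hAc hAp hAQ hQ S₀ hS₀ le_rfl, cc_sylow' hAc hAp hAQ hQ S₀ hS₀ hZz,
      Finset.prod_congr rfl (fun i _ => cc_sylow' hAc hAp hAQ hQ S₀ hS₀ (hZi i)),
      Finset.prod_pow_eq_pow_sum, ← pow_add, ← pow_mul, ← pow_add] at hF
    have h3 := (Nat.pow_dvd_pow_iff_le_right hqP.one_lt).1 hF
    rw [Nat.mul_comm ((cc Q A).factorization q) p] at h3
    exact h3

end Cfsg.Agent.Lib.Helper2.FixW1
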