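import Mathlib
import Cfsg.Agent.Lib.Helper2.FixW1

set_option autoImplicit false
set_option linter.style.haveILetI false

/-! The inequality of `FixW1` for two commuting automorphisms `x`, `z` (`z ^ p = 1`) of a finite
`p'`-group `F`, lying in a `p`-subgroup of `MulAut F`: transfer through the holomorph. -/

namespace Cfsg.Agent.Lib.Helper2.FixHol

open Cfsg.Agent.Lib.Helper8.Wielandt
open Cfsg.Agent.Lib.Helper2.FixW1

universe u

variable {F : Type u} [Group F]

/-- The holomorph of `F`. -/
abbrev Hol (F : Type u) [Group F] := F ⋊[MonoidHom.id (MulAut F)] MulAut F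

instance instFiniteHol [Finite F] : Finite (Hol F) :=
  Finite.of_equiv _ (SemidirectProduct.equivProd (φ := MonoidHom.id (MulAut F))).symm

def hl : F →* Hol F := SemidirectProduct.inl
def hr : MulAut F →* Hol F := SemidirectProduct.inr

theorem hl_injective : Function.Injective (hl : F → Hol F) := SemidirectProduct.inl_injective

theorem conj_hl (y : MulAut F) (u : F) : (hl (y u) : Hol F) = hr y * hl u * (hr y)⁻¹ := by
  rw [← map_inv]
  exact SemidirectProduct.inl_aut (φ := MonoidHom.id (MulAut F)) y u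

theorem mem_iff (T : Set (MulAut F)) (u : F) :
    (hl u : Hol F) ∈ Subgroup.centralizer ((hr : MulAut F → Hol F) '' T) ↔ ∀ y ∈ T, y u = u := by
  rw [Subgroup.mem_centralizer_iff]
  constructor
  · intro h y hy
    have h1 := h (hr y) ⟨y, hy, rfl⟩
    have h2 : (hl (y u) : Hol F) = hl u := by
      rw [conj_hl, h1]; group
    exact hl_injective h2
  · rintro h _ ⟨y, hy, rfl⟩
    have h2 := conj_hl y u
    rw [h y hy] at h2
    calc hr y * hl u = (hr y * hl u * (hr y)⁻¹) * hr y := by group
      _ = hl u * hr y := by rw [← h2]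

theorem cc_eq (T : Set (MulAut F)) (B : Subgroup (Hol F))
    (hB : Subgroup.centralizer (B : Set (Hol F)) =
      Subgroup.centralizer ((hr : MulAut F → Hol F) '' T)) :
    cc (hl : F →* Hol F).range B = Nat.card {u : F // ∀ y ∈ T, y u = u} := by
  unfold cc
  rw [hB]
  symm
  apply Nat.card_congr
  refine Equiv.ofBijective
    (fun u => ⟨hl u.1, ⟨⟨u.1, rfl⟩, (mem_iff T u.1).2 u.2⟩⟩) ⟨?_, ?_⟩
  · intro u v h
    have h1 : (hl u.1 : Hol F) = hl v.1 := congrArg Subtype.val h
    exact Subtype.ext (hl_injective h1)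
  · rintro ⟨w, ⟨u, rfl⟩, hw⟩
    exact ⟨⟨u, (mem_iff T u).1 hw⟩, rfl⟩

theorem cc_zpowers (y : MulAut F) :
    cc (hl : F →* Hol F).range (Subgroup.zpowers (hr y)) = Nat.card {u : F // y u = u} := by
  rw [cc_eq {y} _ (by rw [centralizer_zpowers, Set.image_singleton])]
  exact Nat.card_congr (Equiv.subtypeEquivRight (fun u => by simp))

theorem cc_closure (x z : MulAut F) :
    cc (hl : F →* Hol F).range (Subgroup.closure {hr x, hr z}) =
      Nat.card {u : F // x u = u ∧ z u = u} := by
  rw [cc_eq {x, z} _ (by rw [Subgroup.centralizer_closure, Set.image_pair])]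
  exact Nat.card_congr (Equiv.subtypeEquivRight (fun u => by simp))

theorem W1_abs [Finite F] {p : ℕ} [Fact p.Prime] (hF : ¬ p ∣ Nat.card F)
    (R : Subgroup (MulAut F)) (hR : IsPGroup p R) {x z : MulAut F} (hx : x ∈ R) (hz : z ∈ R)
    (hxz : x * z = z * x) (hzp : z ^ p = 1) :
    (∏ i ∈ Finset.range p, Nat.card {u : F // (x * z ^ i) u = u}) * Nat.card {u : F // z u = u} ∣
      Nat.card F * (Nat.card {u : F // x u = u ∧ z u = u}) ^ p := by
  have hAc : IsMulCommutative ↥(Subgroup.closure {(hr x : Hol F), hr z}) :=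
    Subgroup.isMulCommutative_closure (by
      intro a ha b hb
      simp only [Set.mem_insert_iff, Set.mem_singleton_iff] at ha hb
      rcases ha with rfl | rfl <;> rcases hb with rfl | rfl
      · rfl
      · rw [← map_mul, ← map_mul, hxz]
      · rw [← map_mul, ← map_mul, hxz]
      · rfl)
  have hAR : Subgroup.closure {(hr x : Hol F), hr z} ≤ R.map hr := by
    rw [Subgroup.closure_le]
    rintro a (rfl | rfl)
    · exact ⟨x, hx, rfl⟩
    · exact ⟨z, hz, rfl⟩
  have hAp : IsPGroup p ↥(Subgroup.closure {(hr x : Hol F), hr z}) := (hR.map _).to_le hAR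
  have hxA : (hr x : Hol F) ∈ Subgroup.closure {(hr x : Hol F), hr z} :=
    Subgroup.subset_closure (by simp)
  have hzA : (hr z : Hol F) ∈ Subgroup.closure {(hr x : Hol F), hr z} :=
    Subgroup.subset_closure (by simp)
  have hzp' : (hr z : Hol F) ^ p = 1 := by rw [← map_pow, hzp, map_one]
  have hgen : ∀ T : Subgroup (Hol F), hr x ∈ T → hr z ∈ T →
      Subgroup.closure {(hr x : Hol F), hr z} ≤ T := by
    intro T h1 h2
    rw [Subgroup.closure_le]
    rintro a (rfl | rfl)
    · exact h1
    · exact h2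
  haveI hQn : ((hl : F →* Hol F).range).Normal := by
    have : (hl : F →* Hol F).range = (SemidirectProduct.rightHom
        (φ := MonoidHom.id (MulAut F))).ker :=
      SemidirectProduct.range_inl_eq_ker_rightHom
    rw [this]; infer_instance
  have hAQ : Subgroup.closure {(hr x : Hol F), hr z} ≤
      Subgroup.normalizer (((hl : F →* Hol F).range : Subgroup (Hol F)) : Set (Hol F)) := by
    rw [Subgroup.normalizer_eq_top]; exact le_top
  have hQcard : Nat.card ↥((hl : F →* Hol F).range) = Nat.card F :=
    Nat.card_congr (Equiv.ofInjective _ hl_injective).symm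
  have hQ : ¬ p ∣ Nat.card ↥((hl : F →* Hol F).range) := by rw [hQcard]; exact hF
  have key := W1_general hAc hAp hxA hzA hzp' hgen _ hAQ hQ
  unfold W1 at key
  have c1 : ∀ i : ℕ, cc (hl : F →* Hol F).range (Subgroup.zpowers ((hr x : Hol F) * hr z ^ i)) =
      Nat.card {u : F // (x * z ^ i) u = u} := by
    intro i
    rw [← map_pow, ← map_mul]
    exact cc_zpowers _
  rw [Finset.prod_congr rfl (fun i _ => c1 i), cc_zpowers, cc_closure, hQcard] at key
  exact key

end Cfsg.Agent.Lib.Helper2.FixHol
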