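import Mathlib
import Cfsg.Agent.Lib.Helper2.FixHol
import Cfsg.Agent.Lib.Helper7.Generation2
import Cfsg.Agent.Lib.Helper2.FixedPointFree

set_option autoImplicit false

/-! Generic lemmas on involutory automorphisms of odd order `p`-groups, used for S4412. -/

namespace Cfsg.Agent.Lib.Helper2.E8Aut

open Cfsg.Agent.Lib.Helper2.FixHol

universe u

variable {P : Type u} [Group P]

/-- A group of odd order acted on by a (possibly degenerate) four-group is generated by the fixed
points of the three involutions. -/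
theorem gen_of_fix [Finite P] (hodd : ¬ 2 ∣ Nat.card P)
    (S₁ S₂ : MulAut P) (h1 : S₁ ^ 2 = 1) (h2 : S₂ ^ 2 = 1) (hc : Commute S₁ S₂)
    (H : Subgroup P) (hH1 : ∀ x, S₁ x = x → x ∈ H) (hH2 : ∀ x, S₂ x = x → x ∈ H)
    (hH3 : ∀ x, (S₁ * S₂) x = x → x ∈ H) : H = ⊤ := by
  haveI : Fact (Nat.Prime 2) := ⟨Nat.prime_two⟩
  set K : Subgroup (Hol P) := (hl : P →* Hol P).range with hK
  haveI hKn : K.Normal := by
    have : K = (SemidirectProduct.rightHom : Hol P →* MulAut P).ker :=
      SemidirectProduct.range_inl_eq_ker_rightHom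
    rw [this]; infer_instance
  have hcard : Nat.card K = Nat.card P :=
    Nat.card_congr (MonoidHom.ofInjective hl_injective).symm.toEquiv
  have hx : hr S₁ ∈ Subgroup.normalizer (K : Set (Hol P)) := by
    rw [Subgroup.normalizer_eq_top]; exact Subgroup.mem_top _
  have hy : hr S₂ ∈ Subgroup.normalizer (K : Set (Hol P)) := by
    rw [Subgroup.normalizer_eq_top]; exact Subgroup.mem_top _
  have key := Cfsg.Agent.Lib.Helper7.le_genC (p := 2) (hr S₁) (hr S₂)
    (by rw [← map_pow, h1, map_one]) (by rw [← map_pow, h2, map_one]) (hc.map hr) K hx hy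
    (by rwa [hcard])
  have hle : Cfsg.Agent.Lib.Helper7.genC 2 (hr S₁) (hr S₂) K ≤ H.map hl := by
    unfold Cfsg.Agent.Lib.Helper7.genC
    refine sup_le ?_ (iSup_le fun c => ?_)
    · intro z hz
      obtain ⟨hzK, hzc⟩ := Subgroup.mem_inf.1 hz
      obtain ⟨v, rfl⟩ := hzK
      refine ⟨v, hH2 v ?_, rfl⟩
      have h3 := (mem_iff {S₂} v).1 (by rwa [Set.image_singleton])
      exact h3 S₂ rfl
    · intro z hz
      obtain ⟨hzK, hzc⟩ := Subgroup.mem_inf.1 hz
      obtain ⟨v, rfl⟩ := hzK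
      refine ⟨v, ?_, rfl⟩
      have hc2 : c.val < 2 := ZMod.val_lt c
      rcases Nat.lt_succ_iff_lt_or_eq.1 hc2 with h0 | h1'
      · have h0' : c.val = 0 := by omega
        rw [h0', pow_zero, mul_one] at hzc
        have h3 := (mem_iff {S₁} v).1 (by rwa [Set.image_singleton])
        exact hH1 v (h3 S₁ rfl)
      · rw [h1', pow_one, ← map_mul] at hzc
        have h3 := (mem_iff {S₁ * S₂} v).1 (by rwa [Set.image_singleton])
        exact hH3 v (h3 (S₁ * S₂) rfl)
  rw [eq_top_iff]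
  intro u _
  have hu : (hl u : Hol P) ∈ K := ⟨u, rfl⟩
  obtain ⟨v, hv, hvu⟩ := hle (key hu)
  rwa [hl_injective hvu] at hv

theorem fix_zpowers (T : MulAut P) (g : P) (h : T g = g) :
    ∀ x ∈ Subgroup.zpowers g, T x = x := by
  rintro x ⟨k, rfl⟩
  simp only
  rw [map_zpow, h]

theorem inv_zpowers (T : MulAut P) (g : P) (h : T g = g⁻¹) :
    ∀ x ∈ Subgroup.zpowers g, T x = x⁻¹ := by
  rintro x ⟨k, rfl⟩
  simp only
  rw [map_zpow, h, inv_zpow]

theorem eq_one_of_eq_inv {p : ℕ} (hp : p.Prime) (hp2 : p ≠ 2) (hP : IsPGroup p P) (x : P)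
    (h : x = x⁻¹) : x = 1 := by
  haveI : Fact p.Prime := ⟨hp⟩
  have h2 : x ^ 2 = 1 := by
    rw [pow_two]
    nth_rewrite 1 [h]
    exact inv_mul_cancel x
  obtain ⟨n, hn⟩ := IsPGroup.iff_orderOf.1 hP x
  have hd : orderOf x ∣ 2 := orderOf_dvd_of_pow_eq_one h2
  rw [hn] at hd
  rcases Nat.eq_zero_or_pos n with rfl | hn0
  · rw [pow_zero] at hn; exact orderOf_eq_one_iff.1 hn
  · exfalso
    have : p ∣ 2 := (dvd_pow_self p hn0.ne').trans hd
    exact hp2 ((Nat.prime_dvd_prime_iff_eq hp Nat.prime_two).1 this)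

/-- An involutory automorphism of an odd `p`-group stabilising a cyclic subgroup `⟨g⟩` either
fixes or inverts `g`. -/
theorem fix_or_inv [Finite P] {p : ℕ} (hp : p.Prime) (hp2 : p ≠ 2) (hP : IsPGroup p P)
    (T : MulAut P) (hT : ∀ x, T (T x) = x) (g : P) (hg : T g ∈ Subgroup.zpowers g) :
    T g = g ∨ T g = g⁻¹ := by
  haveI : Fact p.Prime := ⟨hp⟩
  obtain ⟨m, hm⟩ : ∃ m : ℕ, g ^ m = T g :=
    (Submonoid.mem_powers_iff _ _).1 (mem_powers_iff_mem_zpowers.2 hg)
  have h2 : g ^ (m * m) = g ^ 1 := by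
    rw [pow_mul, hm, ← map_pow, hm, hT, pow_one]
  obtain ⟨n, hn⟩ := IsPGroup.iff_orderOf.1 hP g
  have hmod := pow_eq_pow_iff_modEq.1 h2
  rw [hn] at hmod
  rcases Nat.eq_zero_or_pos m with rfl | hmpos
  · left
    rw [pow_zero] at hm
    have hg1 : g = 1 := by rw [← hT g, ← hm, map_one]
    rw [hg1, map_one]
  have hdvd : p ^ n ∣ (m - 1) * (m + 1) := by
    have h3 := (Nat.modEq_iff_dvd' (by nlinarith : 1 ≤ m * m)).1 hmod.symm
    have e : m * m - 1 = (m - 1) * (m + 1) := by
      obtain ⟨k, rfl⟩ : ∃ k, m = k + 1 := ⟨m - 1, by omega⟩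
      simp only [Nat.add_sub_cancel]
      have : (k + 1) * (k + 1) = k * (k + 1 + 1) + 1 := by ring
      rw [this, Nat.add_sub_cancel]
    rwa [e] at h3
  by_cases hpm : p ∣ m - 1
  · have hnp : ¬ p ∣ m + 1 := by
      intro h
      have h4 : p ∣ (m + 1) - (m - 1) := Nat.dvd_sub h hpm
      have e : (m + 1) - (m - 1) = 2 := by omega
      rw [e] at h4
      exact hp2 ((Nat.prime_dvd_prime_iff_eq hp Nat.prime_two).1 h4)
    have hcop : Nat.Coprime (p ^ n) (m + 1) :=
      Nat.Coprime.pow_left n ((Nat.Prime.coprime_iff_not_dvd hp).2 hnp)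
    have h5 : p ^ n ∣ m - 1 := hcop.dvd_of_dvd_mul_right hdvd
    left
    rw [← hm]
    have h6 : g ^ (m - 1) = 1 := by
      rw [← hn] at h5; exact orderOf_dvd_iff_pow_eq_one.1 h5
    calc g ^ m = g ^ (m - 1 + 1) := by congr 1; omega
      _ = g := by rw [pow_succ, h6, one_mul]
  · have hcop : Nat.Coprime (p ^ n) (m - 1) :=
      Nat.Coprime.pow_left n ((Nat.Prime.coprime_iff_not_dvd hp).2 hpm)
    have h5 : p ^ n ∣ m + 1 := hcop.dvd_of_dvd_mul_left hdvd
    right
    rw [← hm]
    have h6 : g ^ (m + 1) = 1 := by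
      rw [← hn] at h5; exact orderOf_dvd_iff_pow_eq_one.1 h5
    rw [pow_succ] at h6
    exact eq_inv_of_mul_eq_one_left h6

/-- Restriction of an involutory automorphism to an invariant subgroup. -/
def restrictAut (T : MulAut P) (W : Subgroup P) (hW : ∀ x ∈ W, T x ∈ W)
    (hT : ∀ x, T (T x) = x) : ↥W ≃* ↥W where
  toFun x := ⟨T x, hW x x.2⟩
  invFun x := ⟨T x, hW x x.2⟩
  left_inv x := Subtype.ext (hT (x : P))
  right_inv x := Subtype.ext (hT (x : P))
  map_mul' x y := Subtype.ext (map_mul T (x : P) (y : P))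

@[simp] theorem restrictAut_coe (T : MulAut P) (W : Subgroup P) (hW : ∀ x ∈ W, T x ∈ W)
    (hT : ∀ x, T (T x) = x) (x : ↥W) : ((restrictAut T W hW hT x : ↥W) : P) = T (x : P) := rfl

/-- A finite commutative `p`-group with three independent elements of order `p` (independence
being witnessed by automorphisms fixing one and inverting the other two) is not generated by two
elements. -/
theorem not_two_gen {Q : Type u} [CommGroup Q] [Finite Q] {p : ℕ} (hp : p.Prime) (hp2 : p ≠ 2)
    (h : Fin 3 → Q) (ho : ∀ j, orderOf (h j) = p) (S : Fin 3 → MulAut Q)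
    (hSk : ∀ k, S k (h k) = h k) (hSj : ∀ k j, j ≠ k → S k (h j) = (h j)⁻¹) :
    ¬ ∃ a b : Q, Subgroup.closure {a, b} = ⊤ := by
  rintro ⟨a, b, hab⟩
  have hker : p ^ 3 ≤ Nat.card (powMonoidHom p : Q →* Q).ker := by
    let f : (Fin 3 → Fin p) → (powMonoidHom p : Q →* Q).ker := fun e =>
      ⟨∏ j, (h j) ^ (e j : ℕ), by
        rw [MonoidHom.mem_ker, powMonoidHom_apply, ← Finset.prod_pow]
        refine Finset.prod_eq_one fun j _ => ?_
        have hj : (h j) ^ p = 1 := by
          have := pow_orderOf_eq_one (h j); rwa [ho j] at this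
        rw [← pow_mul, mul_comm, pow_mul, hj, one_pow]⟩
    have hf : Function.Injective f := by
      intro e e' hee
      have hval : ∏ j, (h j) ^ (e j : ℕ) = ∏ j, (h j) ^ (e' j : ℕ) :=
        congrArg Subtype.val hee
      funext k
      have key : ∀ e : Fin 3 → Fin p,
          (∏ j, (h j) ^ (e j : ℕ)) * S k (∏ j, (h j) ^ (e j : ℕ)) = (h k) ^ (2 * (e k : ℕ)) := by
        intro e
        rw [map_prod, ← Finset.prod_mul_distrib, Finset.prod_eq_single k]
        · rw [map_pow, hSk, ← pow_add, two_mul]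
        · intro j _ hjk
          rw [map_pow, hSj k j hjk, inv_pow, mul_inv_cancel]
        · intro hk; exact absurd (Finset.mem_univ k) hk
      have h2 : (h k) ^ (2 * (e k : ℕ)) = (h k) ^ (2 * (e' k : ℕ)) := by
        rw [← key e, ← key e', hval]
      have h3 := pow_eq_pow_iff_modEq.1 h2
      rw [ho k] at h3
      have hcop : Nat.gcd p 2 = 1 := (Nat.coprime_primes hp Nat.prime_two).2 hp2
      have h4 : (e k : ℕ) ≡ (e' k : ℕ) [MOD p] := Nat.ModEq.cancel_left_of_coprime hcop h3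
      exact Fin.ext (Nat.ModEq.eq_of_lt_of_lt h4 (e k).2 (e' k).2)
    have h5 := Nat.card_le_card_of_injective f hf
    rwa [Nat.card_fun, Nat.card_fin, Nat.card_fin] at h5
  have hup : Nat.card Q ≤ p * (p * Nat.card (powMonoidHom p : Q →* Q).range) := by
    let F : Fin p × Fin p × (powMonoidHom p : Q →* Q).range → Q :=
      fun t => a ^ (t.1 : ℕ) * b ^ (t.2.1 : ℕ) * t.2.2
    have hF : Function.Surjective F := by
      intro z
      have hz : z ∈ Subgroup.closure {a, b} := by rw [hab]; exact Subgroup.mem_top _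
      obtain ⟨m, n, rfl⟩ := Subgroup.mem_closure_pair.1 hz
      have hp0 : (0 : ℤ) < (p : ℤ) := by exact_mod_cast hp.pos
      have hm0 := Int.emod_nonneg m hp0.ne'
      have hm1 := Int.emod_lt_of_pos m hp0
      have hn0 := Int.emod_nonneg n hp0.ne'
      have hn1 := Int.emod_lt_of_pos n hp0
      refine ⟨(⟨(m % p).toNat, by omega⟩, ⟨(n % p).toNat, by omega⟩,
        ⟨(a ^ (m / p) * b ^ (n / p)) ^ p, ⟨_, powMonoidHom_apply _ _⟩⟩), ?_⟩
      simp only [F]
      have e1 : a ^ ((m % p).toNat) = a ^ (m % (p : ℤ)) := by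
        rw [← zpow_natCast, Int.toNat_of_nonneg hm0]
      have e2 : b ^ ((n % p).toNat) = b ^ (n % (p : ℤ)) := by
        rw [← zpow_natCast, Int.toNat_of_nonneg hn0]
      rw [e1, e2, mul_pow, ← zpow_natCast (a ^ (m / (p : ℤ))), ← zpow_natCast (b ^ (n / (p : ℤ))),
        ← zpow_mul, ← zpow_mul]
      have hm : m = m % p + m / p * p := (Int.emod_add_ediv_mul m p).symm
      have hn : n = n % p + n / p * p := (Int.emod_add_ediv_mul n p).symm
      conv_rhs => rw [hm, hn, zpow_add, zpow_add]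
      rw [mul_mul_mul_comm]
    have h6 := Nat.card_le_card_of_surjective F hF
    rwa [Nat.card_prod, Nat.card_prod, Nat.card_fin] at h6
  have h7 := Subgroup.card_mul_index (powMonoidHom p : Q →* Q).ker
  rw [Subgroup.index_ker] at h7
  have hpos : 0 < Nat.card (powMonoidHom p : Q →* Q).range := Nat.card_pos
  rw [← h7] at hup
  have h8 : Nat.card (powMonoidHom p : Q →* Q).ker ≤ p * p := by
    have : Nat.card (powMonoidHom p : Q →* Q).ker * Nat.card (powMonoidHom p : Q →* Q).range ≤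
        p * p * Nat.card (powMonoidHom p : Q →* Q).range := by rw [mul_assoc]; exact hup
    exact Nat.le_of_mul_le_mul_right this hpos
  have h9 : p ^ 3 ≤ p * p := hker.trans h8
  have hp2' := hp.two_le
  have : p * p * 2 ≤ p * p * p := Nat.mul_le_mul_left _ hp2'
  have hpp : 0 < p * p := Nat.mul_pos hp.pos hp.pos
  have e3 : p ^ 3 = p * p * p := by ring
  omega

end Cfsg.Agent.Lib.Helper2.E8Aut
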