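import Mathlib
import Cfsg.Agent.Lib.Helper2.E8Aut1

set_option autoImplicit false

/-! Structure theory for an `E₈` of automorphisms of an odd `p`-group containing a four-group all
of whose involutions have cyclic fixed points (S4412). -/

namespace Cfsg.Agent.Lib.Helper2.E8Aut

universe u

/-- sign pattern "false exactly at `k`" -/
def tp (k : Fin 3) : Fin 3 → Bool := fun j => !(decide (j = k))
/-- sign pattern "true exactly at `k`" -/
def sp (k : Fin 3) : Fin 3 → Bool := fun j => decide (j = k)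

theorem pat_cases : ∀ f : Fin 3 → Bool, f = (fun _ => true) ∨ (∃ k, f = tp k) ∨ (∃ k, f = sp k) ∨
    f = (fun _ => false) := by decide

theorem third : ∀ i j : Fin 3, i ≠ j → ∃ k : Fin 3, k ≠ i ∧ k ≠ j := by decide

theorem tp_self (k : Fin 3) : tp k k = false := by simp [tp]
theorem tp_ne {k j : Fin 3} (h : j ≠ k) : tp k j = true := by simp [tp, h]
theorem sp_self (k : Fin 3) : sp k k = true := by simp [sp]
theorem sp_ne {k j : Fin 3} (h : j ≠ k) : sp k j = false := by simp [sp, h]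

variable {P : Type u} [Group P]

/-- the fixed points of `T` form a cyclic subgroup -/
def NB (T : MulAut P) : Prop := ∃ g : P, ∀ x : P, (T x = x ↔ x ∈ Subgroup.zpowers g)

open Classical in
/-- the sign pattern of an automorphism relative to `g` -/
noncomputable def pat (g : Fin 3 → P) (T : MulAut P) : Fin 3 → Bool :=
  fun k => decide (T (g k) = g k)

theorem pat_true_iff {g : Fin 3 → P} {T : MulAut P} {k : Fin 3} :
    pat g T k = true ↔ T (g k) = g k := by
  simp [pat]

theorem pat_one (g : Fin 3 → P) : pat g (1 : MulAut P) = fun _ => true := by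
  funext k
  exact pat_true_iff.2 rfl

structure Cfg [Finite P] (p : ℕ) (I : Subgroup (MulAut P)) (S : Fin 3 → MulAut P)
    (g : Fin 3 → P) : Prop where
  hp : p.Prime
  hp2 : p ≠ 2
  hP : IsPGroup p P
  hIc : ∀ a ∈ I, ∀ b ∈ I, a * b = b * a
  hIe : ∀ a ∈ I, a * a = 1
  hI8 : Nat.card ↥I = 8
  hS : ∀ k, S k ∈ I
  hS2 : S 2 = S 0 * S 1
  hg : ∀ k x, S k x = x ↔ x ∈ Subgroup.zpowers (g k)

namespace Cfg

variable [Finite P] {p : ℕ} {I : Subgroup (MulAut P)} {S : Fin 3 → MulAut P} {g : Fin 3 → P}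

theorem invol (c : Cfg p I S g) {T : MulAut P} (hT : T ∈ I) (x : P) : T (T x) = x := by
  have h := c.hIe T hT
  calc T (T x) = (T * T) x := rfl
    _ = x := by rw [h]; rfl

theorem comm_apply (c : Cfg p I S g) {T T' : MulAut P} (hT : T ∈ I) (hT' : T' ∈ I) (x : P) :
    T (T' x) = T' (T x) := by
  have h := c.hIc T hT T' hT'
  calc T (T' x) = (T * T') x := rfl
    _ = (T' * T) x := by rw [h]
    _ = T' (T x) := rfl

theorem S_fix (c : Cfg p I S g) (k : Fin 3) : S k (g k) = g k :=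
  (c.hg k _).2 (Subgroup.mem_zpowers _)

theorem stab (c : Cfg p I S g) {T : MulAut P} (hT : T ∈ I) (k : Fin 3) :
    T (g k) ∈ Subgroup.zpowers (g k) := by
  rw [← c.hg k, c.comm_apply (c.hS k) hT, c.S_fix]

theorem dich (c : Cfg p I S g) {T : MulAut P} (hT : T ∈ I) (k : Fin 3) :
    T (g k) = g k ∨ T (g k) = (g k)⁻¹ :=
  fix_or_inv c.hp c.hp2 c.hP T (c.invol hT) (g k) (c.stab hT k)

theorem odd (c : Cfg p I S g) : ¬ 2 ∣ Nat.card P := by
  have : Fact p.Prime := ⟨c.hp⟩
  obtain ⟨n, hn⟩ := c.hP.exists_card_eq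
  rw [hn]
  intro h
  have h2 := Nat.Prime.dvd_of_dvd_pow Nat.prime_two h
  exact c.hp2 ((Nat.prime_dvd_prime_iff_eq Nat.prime_two c.hp).1 h2).symm

theorem gen (c : Cfg p I S g) : Subgroup.closure (Set.range g) = ⊤ := by
  have hz : ∀ k, Subgroup.zpowers (g k) ≤ Subgroup.closure (Set.range g) := fun k =>
    (Subgroup.zpowers_le).2 (Subgroup.subset_closure ⟨k, rfl⟩)
  refine gen_of_fix c.odd (S 0) (S 1) (by rw [pow_two]; exact c.hIe _ (c.hS 0))
    (by rw [pow_two]; exact c.hIe _ (c.hS 1)) (c.hIc _ (c.hS 0) _ (c.hS 1)) _ ?_ ?_ ?_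
  · intro x hx; exact hz 0 ((c.hg 0 x).1 hx)
  · intro x hx; exact hz 1 ((c.hg 1 x).1 hx)
  · intro x hx
    rw [← c.hS2] at hx
    exact hz 2 ((c.hg 2 x).1 hx)

theorem fix_all (c : Cfg p I S g) {T : MulAut P} (h : ∀ k, T (g k) = g k) (x : P) : T x = x := by
  have hx : x ∈ Subgroup.closure (Set.range g) := by rw [c.gen]; exact Subgroup.mem_top _
  induction hx using Subgroup.closure_induction with
  | mem y hy => obtain ⟨k, rfl⟩ := hy; exact h k
  | one => exact map_one T
  | mul a b _ _ ha hb => rw [map_mul, ha, hb]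
  | inv a _ ha => rw [map_inv, ha]

theorem faithful (c : Cfg p I S g) {T : MulAut P} (h : ∀ k, T (g k) = g k) : T = 1 :=
  MulEquiv.ext (fun x => c.fix_all h x)

theorem pat_inj (c : Cfg p I S g) {T T' : MulAut P} (hT : T ∈ I) (hT' : T' ∈ I)
    (h : pat g T = pat g T') : T = T' := by
  have hfix : ∀ k, (T * T') (g k) = g k := by
    intro k
    have hk := congrFun h k
    rw [MulAut.mul_apply]
    by_cases h1 : T' (g k) = g k
    · have h2 : T (g k) = g k := pat_true_iff.1 (by rw [hk]; exact pat_true_iff.2 h1)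
      rw [h1, h2]
    · have h2 : ¬ T (g k) = g k := fun h2 =>
        h1 (pat_true_iff.1 (by rw [← hk]; exact pat_true_iff.2 h2))
      have h1' := (c.dich hT' k).resolve_left h1
      have h2' := (c.dich hT k).resolve_left h2
      rw [h1', map_inv, h2', inv_inv]
  have h1 : T * T' = 1 := c.faithful hfix
  have h2 : T' * T' = 1 := c.hIe T' hT'
  exact mul_right_cancel (h1.trans h2.symm)

theorem pat_surj (c : Cfg p I S g) (f : Fin 3 → Bool) : ∃ T ∈ I, pat g T = f := by
  have hinj : Function.Injective (fun T : ↥I => pat g (T : MulAut P)) :=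
    fun T T' h => Subtype.ext (c.pat_inj T.2 T'.2 h)
  have hcard : Nat.card (Fin 3 → Bool) ≤ Nat.card ↥I := by
    rw [c.hI8]; simp
  have hbij := hinj.bijective_of_nat_card_le hcard
  obtain ⟨T, hT⟩ := hbij.2 f
  exact ⟨T.1, T.2, hT⟩

theorem g_ne_one (c : Cfg p I S g) (k : Fin 3) : g k ≠ 1 := by
  intro h
  obtain ⟨T, _, hf⟩ := c.pat_surj (fun _ => false)
  have h1 : pat g T k = true := pat_true_iff.2 (by rw [h, map_one])
  rw [hf] at h1
  exact Bool.false_ne_true h1

theorem g_ne_inv (c : Cfg p I S g) (k : Fin 3) : g k ≠ (g k)⁻¹ :=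
  fun h => c.g_ne_one k (eq_one_of_eq_inv c.hp c.hp2 c.hP _ h)

theorem pat_false_iff (c : Cfg p I S g) {T : MulAut P} (hT : T ∈ I) {k : Fin 3} :
    pat g T k = false ↔ T (g k) = (g k)⁻¹ := by
  rw [← Bool.not_eq_true, pat_true_iff]
  constructor
  · intro h; exact (c.dich hT k).resolve_left h
  · intro h h'; exact c.g_ne_inv k (h'.symm.trans h)

theorem S_inv (c : Cfg p I S g) {i j : Fin 3} (hij : i ≠ j) : S i (g j) = (g j)⁻¹ := by
  rcases c.dich (c.hS i) j with h | h
  · exfalso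
    have hmem : g j ∈ Subgroup.zpowers (g i) := (c.hg i _).1 h
    obtain ⟨T, hT, hf⟩ := c.pat_surj (sp j)
    have h1 : T (g j) = g j := pat_true_iff.1 (by rw [hf]; exact sp_self j)
    have h3 : T (g i) = (g i)⁻¹ := (c.pat_false_iff hT).1 (by rw [hf]; exact sp_ne hij)
    have h4 : T (g j) = (g j)⁻¹ := inv_zpowers T (g i) h3 _ hmem
    exact c.g_ne_inv j (h1.symm.trans h4)
  · exact h

theorem pat_S (c : Cfg p I S g) (k : Fin 3) : pat g (S k) = sp k := by
  funext j
  by_cases hjk : j = k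
  · subst hjk
    rw [sp_self]; exact pat_true_iff.2 (c.S_fix j)
  · rw [sp_ne hjk]
    exact (c.pat_false_iff (c.hS k)).2 (c.S_inv (Ne.symm hjk))

theorem pat_mul (c : Cfg p I S g) {T T' : MulAut P} (hT : T ∈ I) (hT' : T' ∈ I) (k : Fin 3) :
    pat g (T * T') k = (pat g T k == pat g T' k) := by
  have hTT' : T * T' ∈ I := mul_mem hT hT'
  cases hb : pat g T k <;> cases hb' : pat g T' k
  · have h1 := (c.pat_false_iff hT).1 hb
    have h2 := (c.pat_false_iff hT').1 hb'
    show pat g (T * T') k = true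
    rw [pat_true_iff, MulAut.mul_apply, h2, map_inv, h1, inv_inv]
  · have h1 := (c.pat_false_iff hT).1 hb
    have h2 := pat_true_iff.1 hb'
    show pat g (T * T') k = false
    rw [c.pat_false_iff hTT', MulAut.mul_apply, h2, h1]
  · have h1 := pat_true_iff.1 hb
    have h2 := (c.pat_false_iff hT').1 hb'
    show pat g (T * T') k = false
    rw [c.pat_false_iff hTT', MulAut.mul_apply, h2, map_inv, h1]
  · have h1 := pat_true_iff.1 hb
    have h2 := pat_true_iff.1 hb'
    show pat g (T * T') k = true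
    rw [pat_true_iff, MulAut.mul_apply, h2, h1]

/-- an element of `I` fixing two of the `g`'s has non-cyclic fixed points -/
theorem not_NB_of_two (c : Cfg p I S g) {X : MulAut P} (hX : X ∈ I) {i j : Fin 3} (hij : i ≠ j)
    (hi : X (g i) = g i) (hj : X (g j) = g j) : ¬ NB X := by
  rintro ⟨g', hg'⟩
  have hi' : g i ∈ Subgroup.zpowers g' := (hg' _).1 hi
  have hj' : g j ∈ Subgroup.zpowers g' := (hg' _).1 hj
  have hXg' : X g' = g' := (hg' _).2 (Subgroup.mem_zpowers g')
  have hst : S j g' ∈ Subgroup.zpowers g' := by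
    rw [← hg', c.comm_apply hX (c.hS j), hXg']
  rcases fix_or_inv c.hp c.hp2 c.hP (S j) (c.invol (c.hS j)) g' hst with h | h
  · have h1 := fix_zpowers (S j) g' h _ hi'
    rw [c.S_inv hij.symm] at h1
    exact c.g_ne_inv i h1.symm
  · have h1 := inv_zpowers (S j) g' h _ hj'
    rw [c.S_fix j] at h1
    exact c.g_ne_inv j h1

theorem comm_gen (c : Cfg p I S g) {i j : Fin 3} (hij : i ≠ j) : g i * g j = g j * g i := by
  obtain ⟨k, hki, hkj⟩ := third i j hij
  obtain ⟨X, hX, hpat⟩ := c.pat_surj (tp k)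
  have hXi : X (g i) = g i := pat_true_iff.1 (by rw [hpat]; exact tp_ne hki.symm)
  have hXj : X (g j) = g j := pat_true_iff.1 (by rw [hpat]; exact tp_ne hkj.symm)
  have hXk : X (g k) = (g k)⁻¹ := (c.pat_false_iff hX).1 (by rw [hpat]; exact tp_self k)
  have hWfix : ∀ x ∈ Subgroup.closure {g i, g j}, X x = x := by
    intro x hx
    induction hx using Subgroup.closure_induction with
    | mem y hy =>
      rcases hy with rfl | rfl
      · exact hXi
      · exact hXj
    | one => exact map_one X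
    | mul a b _ _ ha hb => rw [map_mul, ha, hb]
    | inv a _ ha => rw [map_inv, ha]
  have hWS : ∀ x ∈ Subgroup.closure {g i, g j}, S k x ∈ Subgroup.closure {g i, g j} := by
    intro x hx
    induction hx using Subgroup.closure_induction with
    | mem y hy =>
      rcases hy with rfl | rfl
      · rw [c.S_inv hki]; exact inv_mem (Subgroup.subset_closure (by simp))
      · rw [c.S_inv hkj]; exact inv_mem (Subgroup.subset_closure (by simp))
    | one => rw [map_one]; exact one_mem _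
    | mul a b _ _ ha hb => rw [map_mul]; exact mul_mem ha hb
    | inv a _ ha => rw [map_inv]; exact inv_mem ha
  have hfpf : ∀ x : ↥(Subgroup.closure {g i, g j}),
      restrictAut (S k) _ hWS (c.invol (c.hS k)) x = x → x = 1 := by
    intro x hx
    have h1 : S k (x : P) = x := congrArg Subtype.val hx
    have h2 : (x : P) ∈ Subgroup.zpowers (g k) := (c.hg k _).1 h1
    have h3 : X (x : P) = (x : P)⁻¹ := inv_zpowers X (g k) hXk _ h2
    have h4 : X (x : P) = x := hWfix _ x.2
    exact Subtype.ext (eq_one_of_eq_inv c.hp c.hp2 c.hP _ (h4.symm.trans h3))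
  have hcomm := Cfsg.Agent.Lib.Helper2.fpf_involution_comm
    (restrictAut (S k) _ hWS (c.invol (c.hS k)))
    (fun x => Subtype.ext (c.invol (c.hS k) _)) hfpf
  have h5 := hcomm ⟨g i, Subgroup.subset_closure (by simp)⟩ ⟨g j, Subgroup.subset_closure (by simp)⟩
  exact congrArg Subtype.val h5

theorem comm (c : Cfg p I S g) : ∀ a b : P, a * b = b * a := by
  have hg : ∀ a ∈ Set.range g, ∀ b ∈ Set.range g, a * b = b * a := by
    rintro _ ⟨i, rfl⟩ _ ⟨j, rfl⟩
    by_cases hij : i = j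
    · rw [hij]
    · exact c.comm_gen hij
  have h1 := Subgroup.isMulCommutative_closure hg
  intro a b
  have ha : a ∈ Subgroup.closure (Set.range g) := by rw [c.gen]; exact Subgroup.mem_top _
  have hb : b ∈ Subgroup.closure (Set.range g) := by rw [c.gen]; exact Subgroup.mem_top _
  exact setLike_mul_comm ha hb

/-- the element with all signs negative inverts everything -/
theorem inv_all (c : Cfg p I S g) {U : MulAut P} (hU : U ∈ I) (hpat : pat g U = fun _ => false)
    (x : P) : U x = x⁻¹ := by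
  have hx : x ∈ Subgroup.closure (Set.range g) := by rw [c.gen]; exact Subgroup.mem_top _
  induction hx using Subgroup.closure_induction with
  | mem y hy =>
    obtain ⟨k, rfl⟩ := hy
    exact (c.pat_false_iff hU).1 (by rw [hpat])
  | one => rw [map_one, inv_one]
  | mul a b _ _ ha hb => rw [map_mul, ha, hb, mul_inv_rev, c.comm]
  | inv a _ ha => rw [map_inv, ha]

theorem NB_of_all_false (c : Cfg p I S g) {U : MulAut P} (hU : U ∈ I)
    (hpat : pat g U = fun _ => false) : NB U := by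
  refine ⟨1, fun x => ?_⟩
  rw [Subgroup.zpowers_one_eq_bot, Subgroup.mem_bot, c.inv_all hU hpat]
  constructor
  · intro h; exact eq_one_of_eq_inv c.hp c.hp2 c.hP x h.symm
  · intro h; rw [h, inv_one]

theorem three_gen (c : Cfg p I S g) : ∃ a b d : P, Subgroup.closure {a, b, d} = ⊤ := by
  refine ⟨g 0, g 1, g 2, ?_⟩
  rw [eq_top_iff, ← c.gen]
  apply Subgroup.closure_mono
  rintro _ ⟨k, rfl⟩
  fin_cases k <;> simp

/-- The structure theorem. -/
theorem struct (c : Cfg p I S g) : ∃ T : Fin 3 → MulAut P,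
    (∀ k, T k ∈ I) ∧ (∀ k, T k ≠ 1) ∧ (∀ k, ¬ NB (T k)) ∧ T 0 ≠ T 1 ∧ T 0 ≠ T 2 ∧ T 1 ≠ T 2 ∧
    S 0 = T 1 * T 2 ∧ S 1 = T 0 * T 2 ∧ S 2 = T 0 * T 1 ∧ NB (T 0 * T 1 * T 2) ∧
    T 0 * T 1 * T 2 * S 0 = T 0 ∧
    (∀ X ∈ I, X = 1 ∨ (∃ k, X = T k) ∨ (∃ k, X = S k) ∨ X = T 0 * T 1 * T 2) := by
  have hex : ∀ k : Fin 3, ∃ T ∈ I, pat g T = tp k := fun k => c.pat_surj (tp k)
  choose T hTI hTp using hex
  have hU : T 0 * T 1 * T 2 ∈ I := mul_mem (mul_mem (hTI 0) (hTI 1)) (hTI 2)
  have hUp : pat g (T 0 * T 1 * T 2) = fun _ => false := by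
    funext m
    rw [c.pat_mul (mul_mem (hTI 0) (hTI 1)) (hTI 2), c.pat_mul (hTI 0) (hTI 1), hTp, hTp, hTp]
    fin_cases m <;> rfl
  have hne : ∀ i j : Fin 3, i ≠ j → T i ≠ T j := by
    intro i j hij h
    have h1 : pat g (T i) i = pat g (T j) i := by rw [h]
    rw [hTp, hTp, tp_self, tp_ne hij] at h1
    exact Bool.false_ne_true h1
  refine ⟨T, hTI, ?_, ?_, hne 0 1 (by decide), hne 0 2 (by decide), hne 1 2 (by decide),
    ?_, ?_, ?_, c.NB_of_all_false hU hUp, ?_, ?_⟩
  · intro k h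
    have h1 : pat g (T k) k = pat g 1 k := by rw [h]
    rw [hTp, pat_one, tp_self] at h1
    exact Bool.false_ne_true h1
  · intro k
    obtain ⟨i, j, hij, hik, hjk⟩ : ∃ i j : Fin 3, i ≠ j ∧ i ≠ k ∧ j ≠ k := by
      revert k; decide
    exact c.not_NB_of_two (hTI k) hij
      (pat_true_iff.1 (by rw [hTp]; exact tp_ne hik))
      (pat_true_iff.1 (by rw [hTp]; exact tp_ne hjk))
  · refine c.pat_inj (c.hS 0) (mul_mem (hTI 1) (hTI 2)) ?_
    funext m
    rw [c.pat_S, c.pat_mul (hTI 1) (hTI 2), hTp, hTp]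
    fin_cases m <;> rfl
  · refine c.pat_inj (c.hS 1) (mul_mem (hTI 0) (hTI 2)) ?_
    funext m
    rw [c.pat_S, c.pat_mul (hTI 0) (hTI 2), hTp, hTp]
    fin_cases m <;> rfl
  · refine c.pat_inj (c.hS 2) (mul_mem (hTI 0) (hTI 1)) ?_
    funext m
    rw [c.pat_S, c.pat_mul (hTI 0) (hTI 1), hTp, hTp]
    fin_cases m <;> rfl
  · refine c.pat_inj (mul_mem hU (c.hS 0)) (hTI 0) ?_
    funext m
    rw [c.pat_mul hU (c.hS 0), hUp, c.pat_S, hTp]
    fin_cases m <;> rfl
  · intro X hX
    rcases pat_cases (pat g X) with h | ⟨k, h⟩ | ⟨k, h⟩ | h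
    · left
      exact c.pat_inj hX (one_mem I) (by rw [h, pat_one])
    · right; left
      exact ⟨k, c.pat_inj hX (hTI k) (by rw [h, hTp])⟩
    · right; right; left
      exact ⟨k, c.pat_inj hX (c.hS k) (by rw [h, c.pat_S])⟩
    · right; right; right
      exact c.pat_inj hX hU (by rw [h, hUp])

end Cfg

/-- rank at least three: stated for a commutative group so that the abelian API is available. -/
theorem rank_three {Q : Type u} [CommGroup Q] [Finite Q] {p : ℕ} {I : Subgroup (MulAut Q)}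
    {S : Fin 3 → MulAut Q} {g : Fin 3 → Q} (c : Cfg p I S g) :
    ¬ ∃ a b : Q, Subgroup.closure {a, b} = ⊤ := by
  have : Fact p.Prime := ⟨c.hp⟩
  have hord : ∀ j, ∃ h ∈ Subgroup.zpowers (g j), orderOf h = p := by
    intro j
    obtain ⟨n, hn⟩ := IsPGroup.iff_orderOf.1 c.hP (g j)
    have hn0 : n ≠ 0 := by
      rintro rfl
      rw [pow_zero] at hn
      exact c.g_ne_one j (orderOf_eq_one_iff.1 hn)
    have hdvd : p ∣ orderOf (g j) := by rw [hn]; exact dvd_pow_self p hn0
    exact ⟨(g j) ^ (orderOf (g j) / p), Subgroup.pow_mem _ (Subgroup.mem_zpowers _) _,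
      orderOf_pow_orderOf_div (orderOf_pos (g j)).ne' hdvd⟩
  choose h hmem ho using hord
  exact not_two_gen c.hp c.hp2 h ho S
    (fun k => fix_zpowers (S k) (g k) (c.S_fix k) _ (hmem k))
    (fun k j hjk => inv_zpowers (S k) (g j) (c.S_inv (Ne.symm hjk)) _ (hmem j))

end Cfsg.Agent.Lib.Helper2.E8Aut
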