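import Mathlib
import Cfsg.Agent.Lib.Helper2.E8Aut2

set_option autoImplicit false

/-! Final assembly for S4412. -/

namespace Cfsg.Agent.Lib.Helper2.E8Aut

universe u

variable {P : Type u} [Group P] [Finite P]

omit [Finite P] in
/-- Existence of a four-group in `I` all of whose involutions have cyclic fixed points. -/
theorem claimZ (I : Subgroup (MulAut P))
    (hIe : ∀ a ∈ I, a * a = 1) (hI8 : Nat.card ↥I = 8)
    (I₀ : Subgroup (MulAut P))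
    (hdisj : ∀ T ∈ I₀, T ≠ 1 → NB T)
    (hprod : ∀ T ∈ I, ∀ T' ∈ I, T ≠ 1 → T' ≠ 1 → ¬ NB T → ¬ NB T' → T * T' ∈ I₀) :
    ∃ S₁ ∈ I, ∃ S₂ ∈ I, NB S₁ ∧ NB S₂ ∧ NB (S₁ * S₂) := by
  classical
  have hinv : ∀ a ∈ I, a⁻¹ = a := fun a ha => inv_eq_of_mul_eq_one_left (hIe a ha)
  have hmul1 : ∀ a ∈ I, ∀ b ∈ I, a * b = 1 → a = b := fun a _ b hb h => by
    have h1 := eq_inv_of_mul_eq_one_left h
    rw [h1, hinv b hb]
  have hpick : ∀ L : List (MulAut P), L.length < 8 → ∃ c ∈ I, c ∉ L := by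
    intro L hL
    by_contra hcon
    push Not at hcon
    have hsub : (I : Set (MulAut P)) ⊆ ↑L.toFinset := fun c hc => by
      simpa using hcon c hc
    have h1 := Set.ncard_le_ncard hsub (Finset.finite_toSet _)
    rw [Set.ncard_coe_finset] at h1
    have h2 : (I : Set (MulAut P)).ncard = 8 := by
      rw [← Nat.card_coe_set_eq]; exact hI8
    have h3 := List.toFinset_card_le L
    omega
  by_cases hA : ∃ b b' b'' : MulAut P, (b ∈ I ∧ b ≠ 1 ∧ ¬ NB b) ∧ (b' ∈ I ∧ b' ≠ 1 ∧ ¬ NB b') ∧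
      (b'' ∈ I ∧ b'' ≠ 1 ∧ ¬ NB b'') ∧ b ≠ b' ∧ b ≠ b'' ∧ b' ≠ b''
  · obtain ⟨b, b', b'', ⟨hb, hb1, hbN⟩, ⟨hb', hb'1, hb'N⟩, ⟨hb'', hb''1, hb''N⟩, h12, h13, h23⟩ :=
      hA
    have m1 : b * b' ∈ I₀ := hprod b hb b' hb' hb1 hb'1 hbN hb'N
    have m2 : b * b'' ∈ I₀ := hprod b hb b'' hb'' hb1 hb''1 hbN hb''N
    have n1 : b * b' ≠ 1 := fun h => h12 (hmul1 b hb b' hb' h)
    have n2 : b * b'' ≠ 1 := fun h => h13 (hmul1 b hb b'' hb'' h)
    have n3 : b * b' * (b * b'') ≠ 1 := fun h => by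
      have h4 := hmul1 _ (mul_mem hb hb') _ (mul_mem hb hb'') h
      exact h23 (mul_left_cancel h4)
    exact ⟨b * b', mul_mem hb hb', b * b'', mul_mem hb hb'', hdisj _ m1 n1, hdisj _ m2 n2,
      hdisj _ (mul_mem m1 m2) n3⟩
  · have hB : ∃ b b' : MulAut P, ∀ X, (X ∈ I ∧ X ≠ 1 ∧ ¬ NB X) → X = b ∨ X = b' := by
      by_cases h1 : ∃ b : MulAut P, b ∈ I ∧ b ≠ 1 ∧ ¬ NB b
      · obtain ⟨b, hb⟩ := h1
        by_cases h2 : ∃ b' : MulAut P, (b' ∈ I ∧ b' ≠ 1 ∧ ¬ NB b') ∧ b' ≠ b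
        · obtain ⟨b', hb', hne⟩ := h2
          refine ⟨b, b', fun X hX => ?_⟩
          by_contra hcon
          rw [not_or] at hcon
          exact hA ⟨b, b', X, hb, hb', hX, hne.symm, fun h => hcon.1 h.symm, fun h => hcon.2 h.symm⟩
        · refine ⟨b, b, fun X hX => Or.inl ?_⟩
          by_contra hXb
          exact h2 ⟨X, hX, hXb⟩
      · exact ⟨1, 1, fun X hX => absurd ⟨X, hX⟩ h1⟩
    obtain ⟨b, b', hbb⟩ := hB
    obtain ⟨s, hs, hsL⟩ := hpick [1, b, b'] (by simp)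
    obtain ⟨t, ht, htL⟩ := hpick [1, b, b', s, s * b, s * b'] (by simp)
    simp only [List.mem_cons, List.not_mem_nil, or_false, not_or] at hsL htL
    obtain ⟨hs1, hsb, hsb'⟩ := hsL
    obtain ⟨ht1, htb, htb', hts, htsb, htsb'⟩ := htL
    have hNBs : NB s := by
      by_contra h
      rcases hbb s ⟨hs, hs1, h⟩ with h' | h'
      · exact hsb h'
      · exact hsb' h'
    have hNBt : NB t := by
      by_contra h
      rcases hbb t ⟨ht, ht1, h⟩ with h' | h'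
      · exact htb h'
      · exact htb' h'
    have hst1 : s * t ≠ 1 := fun h => hts (hmul1 s hs t ht h).symm
    have hNBst : NB (s * t) := by
      by_contra h
      rcases hbb (s * t) ⟨mul_mem hs ht, hst1, h⟩ with h' | h'
      · apply htsb
        have h5 : t = s⁻¹ * b := by rw [← h']; group
        rw [h5, hinv s hs]
      · apply htsb'
        have h5 : t = s⁻¹ * b' := by rw [← h']; group
        rw [h5, hinv s hs]
    exact ⟨s, hs, t, ht, hNBs, hNBt, hNBst⟩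

/-- The conclusions of S4412 from a configuration. -/
theorem main_of_cfg {p : ℕ} {I : Subgroup (MulAut P)} {S : Fin 3 → MulAut P} {g : Fin 3 → P}
    (c : Cfg p I S g) (I₀ : Subgroup (MulAut P)) (hI₀ : I₀ ≤ I)
    (hdisj : ∀ T ∈ I₀, T ≠ 1 → NB T)
    (hprod : ∀ T ∈ I, ∀ T' ∈ I, T ≠ 1 → T' ≠ 1 → ¬ NB T → ¬ NB T' → T * T' ∈ I₀) :
    IsMulCommutative P ∧ (∃ a b d : P, Subgroup.closure {a, b, d} = ⊤) ∧
      (¬ ∃ a b : P, Subgroup.closure {a, b} = ⊤) ∧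
      Nat.card {T : MulAut P // T ∈ I ∧ T ≠ 1 ∧ ¬ NB T} = 3 ∧
      Subgroup.closure {T : MulAut P | T ∈ I ∧ T ≠ 1 ∧ ¬ NB T} = I ∧
      (I₀ : Set (MulAut P)) = {X : MulAut P | ∃ T T' : MulAut P, T ∈ I ∧ T' ∈ I ∧ T ≠ 1 ∧ T' ≠ 1 ∧
        ¬ NB T ∧ ¬ NB T' ∧ X = T * T'} := by
  obtain ⟨T, hTI, hT1, hTN, h01, h02, h12, hS0, hS1, hS2, hUN, hUS, henum⟩ := c.struct
  have hcomm := c.comm
  have hNBS : ∀ k, NB (S k) := fun k => ⟨g k, c.hg k⟩
  have hSprod : ∀ k, ∃ i j, S k = T i * T j := by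
    intro k
    fin_cases k
    · exact ⟨1, 2, hS0⟩
    · exact ⟨0, 2, hS1⟩
    · exact ⟨0, 1, hS2⟩
  have hTcases : ∀ k, T k = T 0 ∨ T k = T 1 ∨ T k = T 2 := by
    intro k
    fin_cases k
    · exact Or.inl rfl
    · exact Or.inr (Or.inl rfl)
    · exact Or.inr (Or.inr rfl)
  have h2gen : ¬ ∃ a b : P, Subgroup.closure {a, b} = ⊤ := by
    let cg : CommGroup P := { (inferInstance : Group P) with mul_comm := hcomm }
    exact rank_three (Q := P) c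
  have hBr : {X : MulAut P | X ∈ I ∧ X ≠ 1 ∧ ¬ NB X} = {T 0, T 1, T 2} := by
    ext X
    simp only [Set.mem_ofPred_eq, Set.mem_insert_iff, Set.mem_singleton_iff]
    constructor
    · rintro ⟨hX, hX1, hXN⟩
      rcases henum X hX with h | ⟨k, h⟩ | ⟨k, h⟩ | h
      · exact absurd h hX1
      · rw [h]; exact hTcases k
      · rw [h] at hXN; exact absurd (hNBS k) hXN
      · rw [h] at hXN; exact absurd hUN hXN
    · rintro (h | h | h)
      · rw [h]; exact ⟨hTI 0, hT1 0, hTN 0⟩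
      · rw [h]; exact ⟨hTI 1, hT1 1, hTN 1⟩
      · rw [h]; exact ⟨hTI 2, hT1 2, hTN 2⟩
  have hcard3 : Nat.card {X : MulAut P // X ∈ I ∧ X ≠ 1 ∧ ¬ NB X} = 3 := by
    have h3 : Nat.card ↥{X : MulAut P | X ∈ I ∧ X ≠ 1 ∧ ¬ NB X} = 3 := by
      rw [Nat.card_coe_set_eq, hBr]
      exact Set.ncard_eq_three.2 ⟨T 0, T 1, T 2, h01, h02, h12, rfl⟩
    exact h3
  have hclos : Subgroup.closure {X : MulAut P | X ∈ I ∧ X ≠ 1 ∧ ¬ NB X} = I := by
    rw [hBr]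
    apply le_antisymm
    · rw [Subgroup.closure_le]
      intro X hX
      simp only [Set.mem_insert_iff, Set.mem_singleton_iff] at hX
      rcases hX with h | h | h
      · rw [h]; exact hTI 0
      · rw [h]; exact hTI 1
      · rw [h]; exact hTI 2
    · intro X hX
      have m : ∀ k, T k ∈ Subgroup.closure {T 0, T 1, T 2} := fun k =>
        Subgroup.subset_closure (by
          simp only [Set.mem_insert_iff, Set.mem_singleton_iff]; exact hTcases k)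
      rcases henum X hX with h | ⟨k, h⟩ | ⟨k, h⟩ | h
      · rw [h]; exact one_mem _
      · rw [h]; exact m k
      · obtain ⟨i, j, hij⟩ := hSprod k
        rw [h, hij]; exact mul_mem (m i) (m j)
      · rw [h]; exact mul_mem (mul_mem (m 0) (m 1)) (m 2)
  have hI0 : (I₀ : Set (MulAut P)) = {X : MulAut P | ∃ A B : MulAut P, A ∈ I ∧ B ∈ I ∧ A ≠ 1 ∧
      B ≠ 1 ∧ ¬ NB A ∧ ¬ NB B ∧ X = A * B} := by
    ext X
    simp only [SetLike.mem_coe, Set.mem_ofPred_eq]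
    constructor
    · intro hX0
      have hX : X ∈ I := hI₀ hX0
      have pr : ∀ i j, ∃ A B : MulAut P, A ∈ I ∧ B ∈ I ∧ A ≠ 1 ∧ B ≠ 1 ∧ ¬ NB A ∧ ¬ NB B ∧
          T i * T j = A * B := fun i j =>
        ⟨T i, T j, hTI i, hTI j, hT1 i, hT1 j, hTN i, hTN j, rfl⟩
      have hTnot : ∀ k, T k ∉ I₀ := fun k hk => hTN k (hdisj _ hk (hT1 k))
      rcases henum X hX with h | ⟨k, h⟩ | ⟨k, h⟩ | h
      · rw [h]
        exact ⟨T 0, T 0, hTI 0, hTI 0, hT1 0, hT1 0, hTN 0, hTN 0, (c.hIe (T 0) (hTI 0)).symm⟩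
      · rw [h] at hX0; exact absurd hX0 (hTnot k)
      · obtain ⟨i, j, hij⟩ := hSprod k
        rw [h, hij]; exact pr i j
      · exfalso
        rw [h] at hX0
        have hS00 : S 0 ∈ I₀ := by
          rw [hS0]; exact hprod _ (hTI 1) _ (hTI 2) (hT1 1) (hT1 2) (hTN 1) (hTN 2)
        have h4 := mul_mem hX0 hS00
        rw [hUS] at h4
        exact hTnot 0 h4
    · rintro ⟨A, B, hA, hB, hA1, hB1, hAN, hBN, rfl⟩
      exact hprod A hA B hB hA1 hB1 hAN hBN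
  exact ⟨⟨⟨hcomm⟩⟩, c.three_gen, h2gen, hcard3, hclos, hI0⟩

end Cfsg.Agent.Lib.Helper2.E8Aut
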