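import Mathlib
import Cfsg.Agent.S0319

set_option autoImplicit false
set_option linter.unusedVariables false
set_option linter.unusedSectionVars false
set_option linter.style.haveILetI false

/-!
# Farm E8CORE (S5751), unit UP0, abstract part : Tits' lemma for a subgroup normalised by `B` and
by one reflection

`tits_comm`: `B H = P_K`, `s ∈ K`, `s' ∈ S ∖ J` with `s' h s'⁻¹ ∈ P_J` for all `h ∈ H`; then `s`
and `s'` commute in `W`.  (Copy of `Cfsg.Agent.S0319.comm_of_normal`, where `H` is normal and
`J = K`.)
-/

namespace Cfsg.Agent.Lib.Helper2.E8Core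

open Cfsg Cfsg.Agent.Lib.Helper4.BNPair Cfsg.Agent.Lib.Helper4.BNAbstract Cfsg.Agent.S0319

variable {G : Type*} [Group G] {P : Cfsg.BNPair G}

theorem tits_comm {H : Subgroup G} {J K : Set G} (hJ : J ⊆ P.S) (hK : K ⊆ P.S)
    (hM : P.B ⊔ H = P.parabolic K)
    (hBH : ∀ x ∈ P.B ⊔ H, ∃ b ∈ P.B, ∃ h ∈ H, b * h = x)
    {s s' : G} (hs : s ∈ K) (hs' : s' ∈ P.S) (hs'J : s' ∉ J)
    (hconj : ∀ h ∈ H, s' * h * s'⁻¹ ∈ P.parabolic J) :
    s * s' * s⁻¹ * s'⁻¹ ∈ P.B := by
  have hsS : s ∈ P.S := hK hs
  set x := π P s with hxdef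
  set x' := π P s' with hx'def
  have hx : x ∈ SW P := π_mem_SW hsS
  have hx' : x' ∈ SW P := π_mem_SW hs'
  have hxx : x * x = 1 := genInv.sq x hx
  have hx'x' : x' * x' = 1 := genInv.sq x' hx'
  -- s' is not a letter of any J-word
  have key : ∀ l : List (W P), IsWord (π P '' J) l → x' ∉ l := by
    intro l hl hmem
    obtain ⟨j, hj, hjx⟩ := hl x' hmem
    apply hs'J
    rw [← π_S_inj (hJ hj) hs' hjx]; exact hj
  by_cases hne : x = x'
  · -- then `s = s'` and the commutator is trivial
    have : s = s' := π_S_inj hsS hs' hne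
    subst this
    have : s * s * s⁻¹ * s⁻¹ = 1 := by group
    rw [this]; exact one_mem _
  have hne' : x' ≠ x := fun h => hne h.symm
  -- an element of `H ∩ C(x)`
  have hsM : s ∈ P.B ⊔ H := by
    rw [hM]; exact closure_le_parabolic K (Subgroup.subset_closure hs)
  obtain ⟨b, hb, h, hh, hbh⟩ := hBH s hsM
  have hhC : h ∈ Cw P x := by
    have : h = b⁻¹ * s := by rw [← hbh]; group
    rw [this]
    exact Cw_closed_left (inv_mem hb) (mem_Cw_π (S_mem_N hsS))
  have hyJ : s' * h * s'⁻¹ ∈ P.parabolic J := hconj h hh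
  rw [mem_parabolic_iff hJ] at hyJ
  obtain ⟨m, hm, hym⟩ := hyJ
  have hmN := closure_le_N hJ hm
  have hym' : s' * h * s'⁻¹ ∈ Cw P (π P m) := by rw [Cw_π hmN]; exact hym
  have hvJ : π P m ∈ Subgroup.closure (π P '' J) := π_mem_closure_image hJ hm
  obtain ⟨l, hlJ, hlred, hlp⟩ := exists_red_word_in genInv exchange (image_subset_SW hJ) hvJ
  -- s' h ∈ C(x' x)
  have hlen1 : len (SW P) x = 1 := len_of_mem genInv hx (SW_ne_one hx)
  have hxPs : x ∈ Ps P x' := by
    rw [mem_Ps_iff hx', len_pair hx' hx hne', hlen1]
    norm_num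
  have h1 : s' * h ∈ Cw P (x' * x) := hxPs s' (mem_Cw_π (S_mem_N hs')) h hhC
  have h2 : s'⁻¹ ∈ Cw P x' := by
    have := Cw_inv (mem_Cw_π (S_mem_N hs'))
    rwa [inv_eq_self genInv.sq hx'] at this
  have hcomm : x' * x = x * x' := by
    rcases T3wr hx' h1 h2 with h3 | h3
    · -- y ∈ C(x' x x')
      have hv : π P m = x' * x * x' := Cw_inj hym' h3
      rcases exchange.len_cases genInv hx' (x * x') with h4 | h4
      · -- [x', x, x'] reduced
        exfalso
        have hred3 : IsRed (SW P) [x', x, x'] := by
          apply isRed_of_length_le genInv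
          · intro y hy
            simp only [List.mem_cons, List.not_mem_nil, or_false] at hy
            rcases hy with rfl | rfl | rfl
            · exact hx'
            · exact hx
            · exact hx'
          · have : [x', x, x'].prod = x' * (x * x') := by simp
            rw [this, h4, len_pair hx hx' hne]
            simp
        have hp : [x', x, x'].prod = l.prod := by
          rw [hlp, hv]; simp [mul_assoc]
        exact key l hlJ (letters_eq hred3 hlred hp (by simp))
      · have h5 : len (SW P) (x' * [x, x'].prod) ≤ [x, x'].length := by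
          have : [x, x'].prod = x * x' := by simp
          rw [this]
          have := len_pair hx hx' hne
          simp only [List.length_cons, List.length_nil]
          omega
        obtain ⟨l1, z, l2, hl12, heq⟩ := exchange x' hx' [x, x'] (isRed_pair hx hx' hne) h5
        match l1, hl12, heq with
        | [], hl12, heq =>
          exfalso
          simp only [List.nil_append, List.cons.injEq] at hl12
          simp only [List.prod_nil, mul_one, one_mul] at heq
          exact hne' (heq.trans hl12.1.symm)
        | [a], hl12, heq =>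
          simp only [List.cons_append, List.nil_append, List.cons.injEq] at hl12
          simp only [List.prod_cons, List.prod_nil, mul_one] at heq
          rw [← hl12.1, ← hl12.2.1] at heq
          exact heq
        | a :: c :: l3, hl12, heq =>
          exfalso
          have := congrArg List.length hl12
          simp at this
    · -- y ∈ C(x' x)
      exfalso
      have hv : π P m = x' * x := Cw_inj hym' h3
      have hp : [x', x].prod = l.prod := by
        rw [hlp, hv]; simp
      exact key l hlJ (letters_eq (isRed_pair hx' hx hne') hlred hp (by simp))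
  -- conclusion
  have hN : s * s' * s⁻¹ * s'⁻¹ ∈ P.N :=
    mul_mem (mul_mem (mul_mem (S_mem_N hsS) (S_mem_N hs')) (inv_mem (S_mem_N hsS)))
      (inv_mem (S_mem_N hs'))
  rw [← π_eq_one_iff hN, π_mul (mul_mem (mul_mem (S_mem_N hsS) (S_mem_N hs')) (inv_mem (S_mem_N hsS)))
    (inv_mem (S_mem_N hs')), π_mul (mul_mem (S_mem_N hsS) (S_mem_N hs')) (inv_mem (S_mem_N hsS)),
    π_mul (S_mem_N hsS) (S_mem_N hs'), π_inv (S_mem_N hsS), π_inv (S_mem_N hs')]
  show x * x' * x⁻¹ * x'⁻¹ = 1
  rw [inv_eq_self genInv.sq hx, inv_eq_self genInv.sq hx', ← hcomm, mul_assoc x' x x, hxx, mul_one, hx'x']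

end Cfsg.Agent.Lib.Helper2.E8Core
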