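import Mathlib
import Cfsg.Agent.Lib.Helper8.E8CoreDefs
import Cfsg.Agent.Lib.Helper2.E8CoreTits
import Cfsg.Agent.Lib.Helper6.Char2WGL
import Cfsg.Agent.Lib.Helper5.ChevWKer

set_option autoImplicit false
set_option linter.unusedVariables false
set_option linter.unusedSectionVars false
set_option linter.style.haveILetI false

/-!
# Farm E8CORE (S5751), unit UP0, part A : `A 1 ≤ B = U`

`N := A 1` is normalised by `M₁ = P_J` and contained in `M₁ ⊓ M₂`. `B N = P_K` with `K ⊆ J`;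
Tits' lemma (`tits_comm`) shows that `K` is closed under adjacency in `J` and contains no neighbour
of the branch node; hence `K = ∅` and `N ≤ B`.
-/

namespace Cfsg.Agent.Lib.Helper2.E8Core

open Cfsg Cfsg.Lie Cfsg.Agent.Lib.Helper5.ChevStruct Cfsg.Agent.Lib.Helper5.ChevSym
  Cfsg.Agent.Lib.Helper8.E8Core Cfsg.Agent.Lib.Helper4.BNPair Cfsg.Agent.Lib.Helper4.BNAbstract

/-! ### generalities on `coreIn` -/

theorem coreIn_le_inf (M X Y : Subgroup GE) : coreIn M X Y ≤ X ⊓ Y := by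
  rintro x ⟨x', hx', rfl⟩
  have h1 := Subgroup.normalCore_le _ hx'
  rw [Subgroup.mem_subgroupOf] at h1
  exact h1

theorem coreIn_le (M X Y : Subgroup GE) : coreIn M X Y ≤ M := by
  rintro x ⟨x', hx', rfl⟩
  exact x'.2

theorem coreIn_conj (M X Y : Subgroup GE) (g : GE) (hg : g ∈ M) (x : GE)
    (hx : x ∈ coreIn M X Y) : g * x * g⁻¹ ∈ coreIn M X Y := by
  obtain ⟨x', hx', rfl⟩ := hx
  have hn : (((X ⊓ Y).subgroupOf M).normalCore).Normal := Subgroup.normalCore_normal _
  exact ⟨(⟨g, hg⟩ : ↥M) * x' * (⟨g, hg⟩ : ↥M)⁻¹, hn.conj_mem x' hx' ⟨g, hg⟩, rfl⟩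

theorem A_one_eq : A 1 = coreIn M1 M1 M2 := rfl

/-! ### the fundamental reflections -/

theorem sG_mem_S (i : ℕ) (hi : i < chevE8.rank) : sG i hi ∈ PE.S := by
  have h := chevBNPair_S (F := F2) chevE8 hE8
  have h2 : sG i hi ∈ {n : ↥(chevE8.group F2) | ∃ i < chevE8.rank,
      ((n : GL chevE8.Idx F2) : Matrix chevE8.Idx chevE8.Idx F2)
        = chevE8.nMat F2 (chevE8.simple i) 1} := by
    refine ⟨i, hi, ?_⟩
    exact nGL_val (F := F2) chevE8 hE8 i
  rw [← h] at h2
  exact h2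

theorem sG_val (i : ℕ) (hi : i < chevE8.rank) : (sG i hi).val = nGL chevE8 hE8 i := rfl

theorem JS_subset : JS ⊆ PE.S := by
  rintro n ⟨i, hi, -, rfl⟩
  exact sG_mem_S i hi

theorem s3_mem_S : s3 ∈ PE.S := sG_mem_S node node_lt

theorem sG_inj (i j : ℕ) (hi : i < chevE8.rank) (hj : j < chevE8.rank)
    (h : sG i hi = sG j hj) : i = j := by
  have h1 := congrArg Subtype.val h
  rw [sG_val, sG_val] at h1
  apply nGL_inj (F := F2) chevE8 hE8 i j hi hj
  rw [h1, inv_mul_cancel]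
  exact one_mem _

theorem s3_not_mem_JS : s3 ∉ JS := by
  rintro ⟨i, hi, hne, h⟩
  exact hne (sG_inj node i node_lt hi h).symm

/-- two fundamental reflections whose product does not act like the product in the other order
do not commute modulo `B` -/
theorem not_comm (i j : ℕ) (hi : i < chevE8.rank) (hj : j < chevE8.rank)
    (hadj : ∃ r < chevE8.nroots, wAct chevE8 [i, j] r ≠ wAct chevE8 [j, i] r) :
    sG i hi * sG j hj * (sG i hi)⁻¹ * (sG j hj)⁻¹ ∉ PE.B := by
  intro h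
  have hB : (nGL chevE8 hE8 i * nGL chevE8 hE8 j * (nGL chevE8 hE8 i)⁻¹ *
      (nGL chevE8 hE8 j)⁻¹ : GL chevE8.Idx F2) ∈ chevE8.borelSubgroup F2 := h
  have hNi := nGL_mem (F := F2) chevE8 hE8 i hi
  have hNj := nGL_mem (F := F2) chevE8 hE8 j hj
  have hN : (nGL chevE8 hE8 i * nGL chevE8 hE8 j * (nGL chevE8 hE8 i)⁻¹ *
      (nGL chevE8 hE8 j)⁻¹ : GL chevE8.Idx F2) ∈ chevE8.monomialSubgroup F2 :=
    mul_mem (mul_mem (mul_mem hNi hNj) (inv_mem hNi)) (inv_mem hNj)
  have hH : (nGL chevE8 hE8 i * nGL chevE8 hE8 j * (nGL chevE8 hE8 i)⁻¹ *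
      (nGL chevE8 hE8 j)⁻¹ : GL chevE8.Idx F2) ∈ chevE8.diagonalSubgroup F2 := by
    rw [← borel_inf_monomial chevE8 hE8]
    exact Subgroup.mem_inf.2 ⟨hB, hN⟩
  have e : (nGL chevE8 hE8 i * nGL chevE8 hE8 j * (nGL chevE8 hE8 i)⁻¹ *
      (nGL chevE8 hE8 j)⁻¹ : GL chevE8.Idx F2)
      = wGL chevE8 hE8 [i, j] * (wGL chevE8 hE8 [j, i])⁻¹ := by
    rw [wGL_cons, wGL_cons, wGL_nil, wGL_cons, wGL_cons, wGL_nil]
    group
  rw [e] at hH
  have hwd1 : Wd chevE8 [i, j] := by
    intro k hk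
    simp only [List.mem_cons, List.not_mem_nil, or_false] at hk
    rcases hk with rfl | rfl
    · exact hi
    · exact hj
  have hwd2 : Wd chevE8 [j, i] := by
    intro k hk
    simp only [List.mem_cons, List.not_mem_nil, or_false] at hk
    rcases hk with rfl | rfl
    · exact hj
    · exact hi
  have hact := (hrel_iff_act_eq chevE8 hE8 _ _ hwd1 hwd2).1 hH
  obtain ⟨r, hr, hne⟩ := hadj
  exact hne (hact r hr)

/-- the pairs of adjacent nodes of the diagram `E₈` -/
def adjE8 : List (ℕ × ℕ) := [(0, 2), (2, 3), (1, 3), (4, 3), (5, 4), (6, 5), (7, 6)]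

theorem adjE8_act : ∀ p ∈ adjE8, ∃ r < chevE8.nroots,
    wAct chevE8 [p.1, p.2] r ≠ wAct chevE8 [p.2, p.1] r := by decide +kernel

/-! ### `A 1 ≤ B` -/

theorem A_one_le_M1 : A 1 ≤ M1 := coreIn_le _ _ _

theorem A_one_le_M2 : A 1 ≤ M2 := (coreIn_le_inf _ _ _).trans inf_le_right

theorem A_one_conj (g : GE) (hg : g ∈ M1) (x : GE) (hx : x ∈ A 1) : g * x * g⁻¹ ∈ A 1 :=
  coreIn_conj _ _ _ g hg x hx

theorem B_le_M1 : PE.B ≤ M1 := B_le_parabolic JS

theorem JS_le_M1 (s : GE) (hs : s ∈ JS) : s ∈ M1 :=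
  closure_le_parabolic JS (Subgroup.subset_closure hs)

/-- conjugation by `s3` maps `A 1` into `M₁` -/
theorem s3_conj_A_one (h : GE) (hh : h ∈ A 1) : s3 * h * s3⁻¹ ∈ M1 := by
  obtain ⟨m, hm, e⟩ := A_one_le_M2 hh
  have e' : s3 * m * s3⁻¹ = h := e
  have hsq : s3 * s3 ∈ M1 := B_le_M1 (PE.sq_mem s3 s3_mem_S)
  have : s3 * h * s3⁻¹ = (s3 * s3) * m * (s3 * s3)⁻¹ := by
    rw [← e']; group
  rw [this]
  exact mul_mem (mul_mem hsq hm) (inv_mem hsq)

theorem A_one_le_B : A 1 ≤ PE.B := by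
  set N := A 1 with hN
  -- `B` normalises `N`
  have hBn : PE.B ≤ Subgroup.normalizer (N : Set GE) := by
    intro b hb
    rw [Subgroup.mem_normalizer_iff]
    intro h
    constructor
    · intro hh
      exact A_one_conj b (B_le_M1 hb) h hh
    · intro hh
      have := A_one_conj b⁻¹ (inv_mem (B_le_M1 hb)) _ hh
      have e : b⁻¹ * (b * h * b⁻¹) * b⁻¹⁻¹ = h := by group
      rwa [e] at this
  have hBH : ∀ x ∈ PE.B ⊔ N, ∃ b ∈ PE.B, ∃ h ∈ N, b * h = x := by
    intro x hx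
    have hx' : x ∈ ((PE.B ⊔ N : Subgroup GE) : Set GE) := hx
    rw [Subgroup.coe_mul_of_left_le_normalizer_right PE.B N hBn] at hx'
    obtain ⟨b, hb, h, hh, e⟩ := Set.mem_mul.1 hx'
    exact ⟨b, hb, h, hh, e⟩
  set K : Set GE := {s | s ∈ PE.S ∧ s ∈ PE.B ⊔ N} with hKdef
  have hKS : K ⊆ PE.S := fun s hs => hs.1
  have hM : PE.B ⊔ N = PE.parabolic K := eq_parabolic_of_le le_sup_left
  have hle : PE.B ⊔ N ≤ M1 := sup_le B_le_M1 A_one_le_M1
  have hKJ : K ⊆ JS := by
    intro s hs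
    exact mem_of_mem_parabolic JS_subset hs.1 (hle hs.2)
  -- step along an edge inside `J`
  have step : ∀ i j (hi : i < chevE8.rank) (hj : j < chevE8.rank), j ≠ node →
      (i, j) ∈ adjE8 → sG i hi ∈ K → sG j hj ∈ K := by
    intro i j hi hj hjn hadj hiK
    by_contra hjK
    have hconj : ∀ h ∈ N, sG j hj * h * (sG j hj)⁻¹ ∈ PE.parabolic K := by
      intro h hh
      rw [← hM]
      exact (le_sup_right : N ≤ PE.B ⊔ N)
        (A_one_conj _ (JS_le_M1 _ ⟨j, hj, hjn, rfl⟩) h hh)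
    have := tits_comm hKS hKS hM hBH hiK (sG_mem_S j hj) hjK hconj
    exact not_comm i j hi hj (adjE8_act (i, j) hadj) this
  -- a neighbour of the branch node is not in `K`
  have stop : ∀ i (hi : i < chevE8.rank), (i, node) ∈ adjE8 → sG i hi ∉ K := by
    intro i hi hadj hiK
    have hconj : ∀ h ∈ N, s3 * h * s3⁻¹ ∈ PE.parabolic JS := fun h hh => s3_conj_A_one h hh
    have := tits_comm JS_subset hKS hM hBH hiK s3_mem_S s3_not_mem_JS hconj
    exact not_comm i node hi node_lt (adjE8_act (i, node) hadj) this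
  have hKe : K = ∅ := by
    rw [Set.eq_empty_iff_forall_notMem]
    intro s hs
    obtain ⟨i, hi, hin, rfl⟩ := hKJ hs
    have hi8 : i < 8 := hi
    have hin3 : i ≠ 3 := hin
    interval_cases i
    · exact stop 2 (by decide) (by decide) (step 0 2 (by decide) (by decide) (by decide) (by decide) hs)
    · exact stop 1 (by decide) (by decide) hs
    · exact stop 2 (by decide) (by decide) hs
    · exact hin3 rfl
    · exact stop 4 (by decide) (by decide) hs
    · exact stop 4 (by decide) (by decide)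
        (step 5 4 (by decide) (by decide) (by decide) (by decide) hs)
    · exact stop 4 (by decide) (by decide)
        (step 5 4 (by decide) (by decide) (by decide) (by decide)
          (step 6 5 (by decide) (by decide) (by decide) (by decide) hs))
    · exact stop 4 (by decide) (by decide)
        (step 5 4 (by decide) (by decide) (by decide) (by decide)
          (step 6 5 (by decide) (by decide) (by decide) (by decide)
            (step 7 6 (by decide) (by decide) (by decide) (by decide) hs)))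
  have h1 : PE.B ⊔ N = PE.B := by
    rw [hM, hKe]
    unfold BNPair.parabolic
    rw [Subgroup.closure_empty, sup_bot_eq]
  rw [← h1]
  exact le_sup_right

end Cfsg.Agent.Lib.Helper2.E8Core
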