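import Mathlib
import Cfsg.Agent.Lib.Helper2.E8CoreUP0a
import Cfsg.Agent.Lib.Helper2.ChevGrade
import Cfsg.Agent.Lib.Helper6.E8CoreADD
import Cfsg.Agent.Lib.Helper9.E8CoreDATA
import Cfsg.Agent.Lib.Helper5.ChevWCount
import Cfsg.Agent.Lib.Helper5.ChevUOrd

set_option autoImplicit false
set_option linter.unusedVariables false
set_option linter.unusedSectionVars false
set_option linter.style.haveILetI false

/-!
# Farm E8CORE (S5751), unit UP0 : `A 1 ≤ U_J`

Part A (`E8CoreUP0a`): `A 1 ≤ B = U`.  Part B (here): a subgroup `N ≤ U` normalised by `n_{w_J}`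
(`w_J` the longest element of `W_J`) lies in `U_J`.  For `y ∈ N` with canonical form
`∏ x_r(t_r)` and `r₀ ∈ Φ_J⁺` of minimal height with `t_{r₀} ≠ 0`, the element
`z = n y n⁻¹ = ∏ x_{w_J r}(t_r)` is a word all of whose letters have grade at least `ht r₀` for
the grading `61 lev - ht`; its entry (Cartan row `i`, column `e_{-w_J r₀}`) is
`coroot(w_J r₀)_i t_{r₀}` (`ChevGrade.word_entry`), but `z ∈ U` is upper unitriangular.
-/

namespace Cfsg.Agent.Lib.Helper2.E8Core

open Cfsg Cfsg.Lie Cfsg.Agent.Lib.Helper5.ChevStruct Cfsg.Agent.Lib.Helper5.ChevSym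
  Cfsg.Agent.Lib.Helper5.ChevPosUni
  Cfsg.Agent.Lib.Helper8.E8Core Cfsg.Agent.Lib.Helper4.BNPair Cfsg.Agent.Lib.Helper4.BNAbstract
  Cfsg.Agent.Lib.Helper2.ChevGrade

/-! ### data -/

/-- the longest element of `W_J` -/
def wJ : List ℕ := [0, 2, 0, 1, 4, 5, 4, 6, 5, 4, 7, 6, 5, 4]

theorem wJ_wd : Wd chevE8 wJ := by
  intro i hi
  simp only [wJ, List.mem_cons, List.not_mem_nil, or_false] at hi
  rcases hi with rfl | rfl | rfl | rfl | rfl | rfl | rfl | rfl | rfl | rfl | rfl | rfl | rfl | rfl <;>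
    decide

/-- the height of a root -/
def htC (r : ℕ) : ℤ :=
  co chevE8 r 0 + co chevE8 r 1 + co chevE8 r 2 + co chevE8 r 3 + co chevE8 r 4 + co chevE8 r 5
    + co chevE8 r 6 + co chevE8 r 7

/-- the grading `61 lev - ht` -/
def grC (r : ℕ) : ℤ := 61 * co chevE8 r 3 - htC r

/-- the data check at the root `r` -/
def chkUP (r : ℕ) : Bool :=
  !(decide (chevE8.IsPosRoot r)) || (decide (1 ≤ htC r) && decide (htC r ≤ 29) &&
    (if co chevE8 r 3 = 0 then
      decide (grC (wActC chevE8 wJ r) = htC r) &&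
        decide (chevE8.IsPosRoot (chevE8.neg (wActC chevE8 wJ r)))
     else decide (30 ≤ grC (wActC chevE8 wJ r))))

set_option maxRecDepth 1000000 in
theorem chkUP_all : (List.range 240).all chkUP = true := by decide +kernel

theorem chkUP_spec (r : ℕ) (hr : chevE8.IsPosRoot r) :
    1 ≤ htC r ∧ htC r ≤ 29 ∧
      (co chevE8 r 3 = 0 → grC (wAct chevE8 wJ r) = htC r ∧
        chevE8.IsPosRoot (chevE8.neg (wAct chevE8 wJ r))) ∧
      (co chevE8 r 3 ≠ 0 → 30 ≤ grC (wAct chevE8 wJ r)) := by
  have h := List.all_eq_true.1 chkUP_all r (List.mem_range.2 hr.1)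
  unfold chkUP at h
  simp only [Bool.or_eq_true, Bool.not_eq_true', decide_eq_false_iff_not, Bool.and_eq_true,
    decide_eq_true_eq, wActC_eq] at h
  rcases h with h | ⟨⟨h1, h2⟩, h3⟩
  · exact absurd hr h
  · refine ⟨h1, h2, ?_, ?_⟩
    · intro h0
      rw [if_pos h0] at h3
      simpa using h3
    · intro h0
      rw [if_neg h0] at h3
      simpa using h3

/-! ### the two gradings -/

/-- the coefficients of the grading `61 lev - ht` -/
def aUP (k : ℕ) : ℤ := if k = 3 then 60 else -1

theorem grA_eq_grC (r : ℕ) : grA chevE8 rlOne aUP r = grC r := by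
  unfold grA grC htC wt rlOne aUP
  rw [show chevE8.rank = 8 from rfl]
  simp only [Finset.sum_range_succ, Finset.sum_range_zero]
  norm_num
  ring

theorem grA_eq_htC (r : ℕ) : grA chevE8 rlOne (fun _ => 1) r = htC r := by
  unfold grA htC wt rlOne
  rw [show chevE8.rank = 8 from rfl]
  simp only [Finset.sum_range_succ, Finset.sum_range_zero]
  ring

theorem grOK_grC : GrOK chevE8 grC := by
  have h := grOK_grA chevE8 rlOne Cfsg.Agent.Lib.Helper6.E8Core.lvlOK_E8 aUP
  have e : grA chevE8 rlOne aUP = grC := funext grA_eq_grC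
  rwa [e] at h

theorem grOK_htC : GrOK chevE8 htC := by
  have h := grOK_grA chevE8 rlOne Cfsg.Agent.Lib.Helper6.E8Core.lvlOK_E8 (fun _ => 1)
  have e : grA chevE8 rlOne (fun _ => 1) = htC := funext grA_eq_htC
  rwa [e] at h

attribute [irreducible] htC grC

/-! ### generalities -/

theorem neg_one_F2 : (-1 : F2) = 1 := by decide

theorem mem_posRoots (r : ℕ) : r ∈ chevE8.posRoots ↔ chevE8.IsPosRoot r := by
  unfold ChevalleyDatum.posRoots
  rw [List.mem_filter, List.mem_range, decide_eq_true_eq]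
  exact ⟨fun h => h.2, fun h => ⟨h.1, h⟩⟩

theorem posRoots_nodup : chevE8.posRoots.Nodup := by
  unfold ChevalleyDatum.posRoots
  exact List.Nodup.filter _ List.nodup_range

theorem wordMat_cons (p : ℕ × F2) (w : List (ℕ × F2)) :
    chevE8.wordMat F2 (p :: w) = chevE8.x F2 p.1 p.2 * chevE8.wordMat F2 w := by
  unfold ChevalleyDatum.wordMat
  rw [List.map_cons, List.prod_cons]

/-- conjugating a word of root elements by `n_w` (over `F₂` there are no signs) -/
theorem conj_word (w : List ℕ) (hw : Wd chevE8 w) (word : List (ℕ × F2))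
    (hword : ∀ p ∈ word, p.1 < chevE8.nroots) (g : GL chevE8.Idx F2)
    (hg : (g : Matrix chevE8.Idx chevE8.Idx F2) = chevE8.wordMat F2 word) :
    ((wGL chevE8 hE8 w * g * (wGL chevE8 hE8 w)⁻¹ : GL chevE8.Idx F2) :
        Matrix chevE8.Idx chevE8.Idx F2)
      = chevE8.wordMat F2 (word.map fun p => (wAct chevE8 w p.1, p.2)) := by
  induction word generalizing g with
  | nil =>
    have : g = 1 := by
      apply Units.ext
      rw [hg]
      unfold ChevalleyDatum.wordMat
      simp
    rw [this]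
    unfold ChevalleyDatum.wordMat
    simp
  | cons p word ih =>
    have hp := hword p (List.mem_cons_self ..)
    have hword' : ∀ q ∈ word, q.1 < chevE8.nroots :=
      fun q hq => hword q (List.mem_cons_of_mem _ hq)
    have e : g = xGL chevE8 hE8 p.1 p.2 * wordGL chevE8 hE8 word := by
      apply Units.ext
      rw [hg, Units.val_mul, xGL_val, wordGL_val, wordMat_cons]
    obtain ⟨ε, hε, hconj⟩ := wGL_conj (F := F2) chevE8 hE8 w hw p.1 hp
    have h1 := hconj p.2 (xGL chevE8 hE8 p.1 p.2) (xGL_val chevE8 hE8 p.1 p.2)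
    have hε1 : ε = 1 := by
      rcases hε with h | h
      · exact h
      · rw [h, neg_one_F2]
    rw [hε1, one_mul] at h1
    have h2 := ih hword' (wordGL chevE8 hE8 word) (wordGL_val chevE8 hE8 word)
    have e2 : wGL chevE8 hE8 w * g * (wGL chevE8 hE8 w)⁻¹
        = (wGL chevE8 hE8 w * xGL chevE8 hE8 p.1 p.2 * (wGL chevE8 hE8 w)⁻¹) *
          (wGL chevE8 hE8 w * wordGL chevE8 hE8 word * (wGL chevE8 hE8 w)⁻¹) := by
      rw [e]; group
    rw [e2, Units.val_mul, h1, h2, List.map_cons, wordMat_cons]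

/-- an element of `U` has no entry in a Cartan row and the column of a positive root -/
theorem pos_entry_zero (u : GL chevE8.Idx F2) (hu : u ∈ chevE8.posUnipotent F2)
    (i : Fin chevE8.rank) (s : Fin chevE8.nroots) (hs : chevE8.IsPosRoot s.val) :
    (u : Matrix chevE8.Idx chevE8.Idx F2) (Sum.inl i) (Sum.inr s) = 0 := by
  obtain ⟨t, ⟨ht0, ht⟩, -⟩ := (pos_unique_product (F := F2) chevE8 hE8).1 u hu
  have hup : GrUp chevE8 htC 1 (u : Matrix chevE8.Idx chevE8.Idx F2) := by
    rw [ht]
    apply grUp_word chevE8 htC grOK_htC 1 (by norm_num)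
    intro p hp
    rw [List.mem_map] at hp
    obtain ⟨r, hr, rfl⟩ := hp
    right
    exact (chkUP_spec r ((mem_posRoots r).1 hr)).1
  by_contra hne
  have hne' : ((u : Matrix chevE8.Idx chevE8.Idx F2) - 1) (Sum.inl i) (Sum.inr s) ≠ 0 := by
    rw [Matrix.sub_apply, Matrix.one_apply_ne Sum.inl_ne_inr, sub_zero]
    exact hne
  have h1 := hup _ _ hne'
  simp only [idxGr] at h1
  have := (chkUP_spec s.val hs).1
  omega

theorem borel_F2 : chevE8.borelSubgroup F2 = chevE8.posUnipotent F2 := by
  unfold ChevalleyDatum.borelSubgroup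
  rw [Cfsg.Agent.Lib.Helper6.Char2WGL.h6_diagonal_zmod2 chevE8 hE8, sup_bot_eq]

theorem lev_eq_co3 (r : ℕ) : lev r = co chevE8 r 3 := by
  have := Cfsg.Agent.Lib.Helper9.E8Core.lev_eq_co r
  unfold node at this
  exact this

theorem wordGL_cons2 (p : ℕ × F2) (w : List (ℕ × F2)) :
    wordGL chevE8 hE8 (p :: w) = xGL chevE8 hE8 p.1 p.2 * wordGL chevE8 hE8 w := by
  simp [wordGL]

/-- the sum of the coefficients of the letters with a given root, for an injective labelling -/
theorem filter_sum_single (t : ℕ → F2) (f : ℕ → ℕ) (r₀ : ℕ) (l : List ℕ) (hnd : l.Nodup)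
    (hr₀ : r₀ ∈ l) (hinj : ∀ r ∈ l, f r = f r₀ → r = r₀) :
    (((l.map fun r => (f r, t r)).filter fun p => p.1 = f r₀).map Prod.snd).sum
      = t r₀ := by
  induction l with
  | nil => exact absurd hr₀ List.not_mem_nil
  | cons a l ih =>
    rw [List.map_cons]
    rw [List.nodup_cons] at hnd
    by_cases ha : a = r₀
    · subst ha
      rw [List.filter_cons_of_pos (by simp), List.map_cons, List.sum_cons]
      have : ((l.map fun r => (f r, t r)).filter fun p => p.1 = f a) = [] := by
        rw [List.filter_eq_nil_iff]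
        intro p hp
        rw [List.mem_map] at hp
        obtain ⟨r, hr, rfl⟩ := hp
        simp only [decide_eq_true_eq]
        intro hfr
        have := hinj r (List.mem_cons_of_mem _ hr) hfr
        rw [this] at hr
        exact hnd.1 hr
      rw [this, List.map_nil, List.sum_nil, add_zero]
    · have hfa : f a ≠ f r₀ := fun h => ha (hinj a (List.mem_cons_self ..) h)
      rw [List.filter_cons_of_neg (by simpa using hfa)]
      have hr₀' : r₀ ∈ l := by
        rcases List.mem_cons.1 hr₀ with h | h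
        · exact absurd h.symm ha
        · exact h
      exact ih hnd.2 hr₀' (fun r hr => hinj r (List.mem_cons_of_mem _ hr))

/-! ### Part B -/

/-- a subgroup of `U` normalised by `n_{w_J}` lies in `U_J` (elementwise form) -/
theorem mem_radical_of_conj (y : GL chevE8.Idx F2) (hy : y ∈ chevE8.posUnipotent F2)
    (hz : wGL chevE8 hE8 wJ * y * (wGL chevE8 hE8 wJ)⁻¹ ∈ chevE8.posUnipotent F2) :
    QQ 0 y := by
  obtain ⟨t, ⟨ht0, ht⟩, -⟩ := (pos_unique_product (F := F2) chevE8 hE8).1 y hy
  set z := wGL chevE8 hE8 wJ * y * (wGL chevE8 hE8 wJ)⁻¹ with hzdef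
  have hzw : (z : Matrix chevE8.Idx chevE8.Idx F2)
      = chevE8.wordMat F2 ((chevE8.posRoots.map fun r => (r, t r)).map
          fun p => (wAct chevE8 wJ p.1, p.2)) := by
    apply conj_word wJ wJ_wd _ _ y ht
    intro p hp
    rw [List.mem_map] at hp
    obtain ⟨r, hr, rfl⟩ := hp
    exact ((mem_posRoots r).1 hr).1
  rw [List.map_map] at hzw
  have hzw' : (z : Matrix chevE8.Idx chevE8.Idx F2)
      = chevE8.wordMat F2 (chevE8.posRoots.map fun r => (wAct chevE8 wJ r, t r)) := hzw
  -- induction on the height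
  have key : ∀ h : ℕ, ∀ r, chevE8.IsPosRoot r → co chevE8 r 3 = 0 → htC r ≤ (h : ℤ) → t r = 0 := by
    intro h
    induction h with
    | zero =>
      intro r hr _ hh
      have := (chkUP_spec r hr).1
      simp only [Nat.cast_zero] at hh
      omega
    | succ h ih =>
      intro r₀ hr₀ hl₀ hh₀
      by_cases hlt : htC r₀ ≤ (h : ℤ)
      · exact ih r₀ hr₀ hl₀ hlt
      have hm : htC r₀ = (h : ℤ) + 1 := by
        push_cast at hh₀
        omega
      obtain ⟨hd1, hd2, hd3, -⟩ := chkUP_spec r₀ hr₀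
      obtain ⟨hgr₀, hneg₀⟩ := hd3 hl₀
      set ρ := wAct chevE8 wJ r₀ with hρdef
      have hρ : ρ < chevE8.nroots := wAct_lt chevE8 hE8 wJ wJ_wd r₀ hr₀.1
      have hnρ : chevE8.neg ρ < chevE8.nroots := hneg₀.1
      -- the letters of `z` have grade at least `ht r₀`
      have hletters : ∀ p ∈ (chevE8.posRoots.map fun r => (wAct chevE8 wJ r, t r)),
          p.2 = 0 ∨ htC r₀ ≤ grC p.1 := by
        intro p hp
        rw [List.mem_map] at hp
        obtain ⟨r, hr, rfl⟩ := hp
        have hrp := (mem_posRoots r).1 hr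
        obtain ⟨hr1, hr2, hr3, hr4⟩ := chkUP_spec r hrp
        by_cases hl : co chevE8 r 3 = 0
        · by_cases hrh : htC r ≤ (h : ℤ)
          · left
            exact ih r hrp hl hrh
          · right
            dsimp only
            rw [(hr3 hl).1]
            omega
        · right
          dsimp only
          have := hr4 hl
          omega
      obtain ⟨i, hi⟩ := Cfsg.Agent.Lib.Helper9.E8Core.DATA_coroot_odd ρ hρ
      obtain ⟨nρ, hnρv⟩ : ∃ nρ : Fin chevE8.nroots, nρ.val = chevE8.neg ρ :=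
        ⟨⟨chevE8.neg ρ, hnρ⟩, Fin.val_mk hnρ⟩
      have hentry := word_entry (F := F2) chevE8 hE8 grC grOK_grC (htC r₀) hd1 _ hletters ρ hρ hgr₀
        nρ hnρv i
      rw [← hzw', hi, one_mul] at hentry
      have hnρpos : chevE8.IsPosRoot nρ.val := by rw [hnρv]; exact hneg₀
      have hzero := pos_entry_zero z hz i nρ hnρpos
      rw [hzero] at hentry
      have hsum := filter_sum_single t (fun r => wAct chevE8 wJ r) r₀ chevE8.posRoots
        posRoots_nodup ((mem_posRoots r₀).2 hr₀)
        (fun r hr hfr => wAct_injective chevE8 hE8 wJ wJ_wd r r₀ ((mem_posRoots r).1 hr).1 hr₀.1 hfr)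
      rw [hsum] at hentry
      exact hentry.symm
  refine ⟨t, ht0, ?_, ht⟩
  intro r hr
  by_cases hrp : chevE8.IsPosRoot r
  · have h0 := (Cfsg.Agent.Lib.Helper9.E8Core.DATA_lev_le r hrp).1
    have hl : co chevE8 r 3 = 0 := by
      rw [lev_eq_co3] at hr h0
      omega
    exact key 29 r hrp hl (chkUP_spec r hrp).2.1
  · exact ht0 r hrp

/-- `QQ 0` elements lie in `U_J` -/
theorem mem_radical_of_QQ (y : GL chevE8.Idx F2) (hy : QQ 0 y) :
    y ∈ chevE8.unipotentRadical F2 JN := by
  obtain ⟨t, ht0, htl, ht⟩ := hy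
  have e : y = wordGL chevE8 hE8 (chevE8.posRoots.map fun r => (r, t r)) := by
    apply Units.ext
    rw [ht, wordGL_val]
  rw [e]
  have : ∀ l : List ℕ, wordGL chevE8 hE8 (l.map fun r => (r, t r))
      ∈ chevE8.unipotentRadical F2 JN := by
    intro l
    induction l with
    | nil =>
      have : wordGL chevE8 hE8 (([] : List ℕ).map fun r => (r, t r)) = (1 : GL chevE8.Idx F2) := by
        simp [wordGL]
      rw [this]
      exact one_mem _
    | cons r l ih =>
      rw [List.map_cons, wordGL_cons2]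
      refine mul_mem ?_ ih
      by_cases htr : t r = 0
      · have : xGL chevE8 hE8 r (t r) = (1 : GL chevE8.Idx F2) := by
          apply Units.ext
          rw [xGL_val, htr, x_at_zero]
          rfl
        rw [this]
        exact one_mem _
      · have hrp : chevE8.IsPosRoot r := by
          by_contra hrp
          exact htr (ht0 r hrp)
        have hl : ¬ lev r ≤ 0 := fun hl => htr (htl r hl)
        apply Subgroup.subset_closure
        refine ⟨r, t r, hrp, ?_, xGL_val chevE8 hE8 r (t r)⟩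
        intro hin
        apply hl
        have hnotin : node ∉ JN := by
          intro h
          exact h rfl
        have h3 := hin.2 node node_lt hnotin
        have h4 : lev r = 0 := h3
        exact le_of_eq h4
  exact this _

/-- **Unit UP0** (elementwise): the elements of `A 1` have canonical form without factors of
level `0` -/
theorem UP0_QQ_zero (y : GE) (hy : y ∈ A 1) : QQ 0 (y : GL chevE8.Idx F2) := by
  have hyU : (y : GL chevE8.Idx F2) ∈ chevE8.posUnipotent F2 := by
    have := A_one_le_B hy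
    have h2 : (y : GL chevE8.Idx F2) ∈ chevE8.borelSubgroup F2 := this
    rwa [borel_F2] at h2
  -- `n_{w_J} ∈ M₁`
  have hnG : wGL chevE8 hE8 wJ ∈ chevE8.group F2 :=
    monomial_le_group chevE8 hE8 (wGL_mem chevE8 hE8 wJ wJ_wd)
  have hnM : ∀ w : List ℕ, (∀ i ∈ w, i < chevE8.rank ∧ i ≠ node) →
      ∀ hw : wGL chevE8 hE8 w ∈ chevE8.group F2, (⟨wGL chevE8 hE8 w, hw⟩ : GE) ∈ M1 := by
    intro w
    induction w with
    | nil =>
      intro _ hw
      have : (⟨wGL chevE8 hE8 [], hw⟩ : GE) = 1 := by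
        apply Subtype.ext
        exact wGL_nil chevE8 hE8
      rw [this]
      exact one_mem _
    | cons i w ih =>
      intro hiw hw
      have hi := hiw i (List.mem_cons_self ..)
      have hw' : wGL chevE8 hE8 w ∈ chevE8.group F2 :=
        monomial_le_group chevE8 hE8 (wGL_mem chevE8 hE8 w
          (fun j hj => (hiw j (List.mem_cons_of_mem _ hj)).1))
      have e : (⟨wGL chevE8 hE8 (i :: w), hw⟩ : GE) = sG i hi.1 * ⟨wGL chevE8 hE8 w, hw'⟩ := by
        apply Subtype.ext
        exact wGL_cons chevE8 hE8 i w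
      rw [e]
      exact mul_mem (JS_le_M1 _ ⟨i, hi.1, hi.2, rfl⟩)
        (ih (fun j hj => hiw j (List.mem_cons_of_mem _ hj)) hw')
  have hwJ : ∀ i ∈ wJ, i < chevE8.rank ∧ i ≠ node := by
    intro i hi
    simp only [wJ, List.mem_cons, List.not_mem_nil, or_false] at hi
    rcases hi with rfl | rfl | rfl | rfl | rfl | rfl | rfl | rfl | rfl | rfl | rfl | rfl | rfl | rfl <;>
      decide
  have hz := A_one_conj _ (hnM wJ hwJ hnG) y hy
  have hzU : wGL chevE8 hE8 wJ * (y : GL chevE8.Idx F2) * (wGL chevE8 hE8 wJ)⁻¹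
      ∈ chevE8.posUnipotent F2 := by
    have := A_one_le_B hz
    have h2 : wGL chevE8 hE8 wJ * (y : GL chevE8.Idx F2) * (wGL chevE8 hE8 wJ)⁻¹
        ∈ chevE8.borelSubgroup F2 := this
    rwa [borel_F2] at h2
  exact mem_radical_of_conj _ hyU hzU

/-- **Unit UP0.** -/
theorem UP0_A_one_le :
    A 1 ≤ (chevE8.unipotentRadical F2 JN).subgroupOf (chevE8.group F2) := by
  intro y hy
  rw [Subgroup.mem_subgroupOf]
  exact mem_radical_of_QQ _ (UP0_QQ_zero y hy)

end Cfsg.Agent.Lib.Helper2.E8Core
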