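import Mathlib
import Cfsg.Prelude.Def_ChevE8
import Cfsg.Agent.Lib.Helper2.RankGen

set_option autoImplicit false

/-! rank certificates for products of root elements of `chevE8`, characteristic 2 (generated) -/

namespace Cfsg.Agent.Lib.Helper2.E8EvRank

open Cfsg Cfsg.Lie Cfsg.Agent.Lib.Helper5.ChevSym Cfsg.Agent.Lib.Helper5.ChevSymP
  Cfsg.Agent.Lib.Helper2.RankGen

/-- the roots of the representative `y0` (rank of `y0 - 1` is 58) -/
def ys0 : List ℕ := [239]
def basis0 : List ℕ :=
  [7, 8, 9, 10, 11, 12, 13, 14, 15, 16, 17, 18, 19, 20, 22, 23, 24, 25, 26, 27, 29, 30, 31, 32, 34, 35, 36, 38, 39, 41, 44, 45, 46, 48, 49, 51, 54, 55, 57, 60, 64, 65, 67, 70, 74, 79, 86, 87, 89, 92, 96, 101, 107, 113, 118, 122, 125, 127]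
def combo0 : List (List ℕ) :=
  [[], [], [], [], [], [], [], [7], [8], [9], [10], [11], [12], [13], [14], [15], [16], [17], [18], [19], [20], [], [22], [23], [24], [25], [26], [27], [], [29], [30], [31], [32], [], [34], [35], [36], [], [38], [39], [], [41], [], [], [44], [45], [46], [], [48], [49], [], [51], [], [], [54], [55], [], [57], [], [], [60], [], [], [], [64], [65], [], [67], [], [], [70], [], [], [], [74], [], [], [], [], [79], [], [], [], [], [], [], [86], [87], [], [89], [], [], [92], [], [], [], [96], [], [], [], [], [101], [], [], [], [], [], [107], [], [], [], [], [], [113], [], [], [], [], [118], [], [], [], [122], [], [], [125], [], [127], [], [], [], [], [], [], [], [], [], [], [], [], [], [], [], [], [], [], [], [], [], [], [], [], [], [], [], [], [], [], [], [], [], [], [], [], [], [], [], [], [], [], [], [], [], [], [], [], [], [], [], [], [], [], [], [], [], [], [], [], [], [], [], [], [], [], [], [], [], [], [], [], [], [], [], [], [], [], [], [], [], [], [], [], [], [], [], [], [], [], [], [], [], [], [], [], [], [], [], [], [], [], [], [],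 [], [], [], [], [], [], [], [], [], [], [], [], [], [], [], []]
def rowsL0 : List (List ℕ) :=
  [[1, 247], [246], [245], [244], [243], [242], [241], [240], [239], [238], [237], [236], [235], [233], [232], [231], [230], [229], [228], [226], [225], [224], [223], [221], [220], [219], [217], [216], [214], [211], [210], [209], [207], [206], [204], [201], [200], [198], [195], [191], [190], [188], [185], [181], [176], [169], [168], [166], [163], [159], [154], [148], [142], [137], [133], [130], [128], [1]]
def colA0 : List ℕ :=
  [7, 127, 125, 122, 118, 113, 107, 101, 96, 92, 89, 87, 86, 79, 74, 70, 67, 65, 64, 60, 57, 55, 54, 51, 49, 48, 46, 45, 44, 41, 39, 38, 36, 35, 34, 32, 31, 30, 29, 27, 26, 25, 24, 23, 22, 20, 19, 18, 17, 16, 15, 14, 13, 12, 11, 10, 9, 8]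

set_option maxRecDepth 1000000 in
theorem chkUp0 : chkUp chevE8 (sW ys0) basis0 combo0 = true := by decide +kernel

set_option maxRecDepth 1000000 in
theorem chkLow0 : chkLow chevE8 (sW ys0) rowsL0 colA0 = true := by decide +kernel

theorem basis0_length : basis0.length = 58 := by decide
theorem colA0_length : colA0.length = 58 := by decide

/-- the roots of the representative `y1` (rank of `y1 - 1` is 92) -/
def ys1 : List ℕ := [232, 233]
def basis1 : List ℕ :=
  [0, 1, 8, 9, 10, 11, 12, 13, 14, 15, 16, 17, 18, 19, 20, 21, 22, 23, 24, 25, 26, 27, 28, 29, 30, 31, 32, 33, 34, 35, 36, 37, 38, 39, 40, 41, 42, 43, 44, 45, 46, 47, 48, 49, 50, 51, 52, 53, 54, 55, 56, 57, 58, 59, 60, 61, 62, 63, 64, 65, 66, 67, 68, 69, 70, 71, 72, 73, 74, 75, 76, 77, 78, 79, 80, 81, 82, 83, 84, 85, 101, 102, 103, 104, 105, 106, 143, 144, 145, 146, 147, 148]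
def combo1 : List (List ℕ) :=
  [[0], [1], [1], [], [], [], [], [], [8], [9], [10], [11], [12], [13], [14], [15], [16], [17], [18], [19], [20], [21], [22], [23], [24], [25], [26], [27], [28], [29], [30], [31], [32], [33], [34], [35], [36], [37], [38], [39], [40], [41], [42], [43], [44], [45], [46], [47], [48], [49], [50], [51], [52], [53], [54], [55], [56], [57], [58], [59], [60], [61], [62], [63], [64], [65], [66], [67], [68], [69], [70], [71], [72], [73], [74], [75], [76], [77], [78], [79], [80], [81], [82], [83], [84], [85], [], [], [], [], [], [], [], [], [], [], [], [], [], [], [], [101], [102], [103], [104], [105], [106], [101], [102], [103], [104], [105], [106], [], [], [], [], [], [], [], [], [], [], [], [], [], [], [], [], [], [], [], [], [], [], [], [], [], [], [], [], [], [], [143], [144], [145], [146], [147], [148], [143], [144], [145], [146], [147], [148], [], [], [], [], [], [], [], [], [], [], [], [], [], [], [], [], [], [], [], [], [], [], [], [], [], [], [], [], [], [], [], [], [], [], [], [], [], [], [], [], [], [], [], [], [], [], [], [], [], [],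 [], [], [], [], [], [], [], [], [], [], [], [], [], [], [], [], [], [], [], [], [], [], [], [], [], [], [], [], [], [], [], [], [], [], [], [], [], [], [], [], [], [], []]
def rowsL1 : List (List ℕ) :=
  [[3, 240, 241], [148, 247], [147, 246], [146, 245], [145, 244], [144, 243], [143, 242], [106, 239], [105, 238], [104, 237], [103, 236], [102, 235], [101, 234], [1, 3], [240], [233], [232], [231], [230], [229], [228], [227], [226], [225], [224], [223], [222], [221], [220], [219], [218], [217], [216], [215], [214], [213], [212], [211], [210], [209], [208], [207], [206], [205], [204], [203], [202], [201], [200], [199], [198], [197], [196], [195], [194], [193], [192], [191], [190], [189], [188], [187], [186], [185], [184], [183], [182], [181], [180], [179], [178], [177], [176], [175], [174], [173], [172], [171], [170], [148], [147], [146], [145], [144], [143], [106], [105], [104], [103], [102], [101], [1]]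
def colA1 : List ℕ :=
  [0, 148, 147, 146, 145, 144, 143, 106, 105, 104, 103, 102, 101, 15, 1, 85, 84, 83, 82, 81, 80, 79, 78, 77, 76, 75, 74, 73, 72, 71, 70, 69, 68, 67, 66, 65, 64, 63, 62, 61, 60, 59, 58, 57, 56, 55, 54, 53, 52, 51, 50, 49, 48, 47, 46, 45, 44, 43, 42, 41, 40, 39, 38, 37, 36, 35, 34, 33, 32, 31, 30, 29, 28, 27, 26, 25, 24, 23, 22, 21, 20, 19, 18, 17, 16, 13, 12, 11, 10, 9, 8, 14]

set_option maxRecDepth 1000000 in
theorem chkUp1 : chkUp chevE8 (sW ys1) basis1 combo1 = true := by decide +kernel

set_option maxRecDepth 1000000 in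
theorem chkLow1 : chkLow chevE8 (sW ys1) rowsL1 colA1 = true := by decide +kernel

theorem basis1_length : basis1.length = 92 := by decide
theorem colA1_length : colA1.length = 92 := by decide

/-- the roots of the representative `y2` (rank of `y2 - 1` is 110) -/
def ys2 : List ℕ := [228, 222, 218]
def basis2 : List ℕ :=
  [0, 2, 6, 8, 9, 10, 11, 12, 13, 14, 15, 16, 17, 18, 19, 20, 21, 22, 23, 24, 25, 26, 27, 28, 29, 30, 31, 32, 33, 34, 35, 36, 37, 38, 39, 40, 41, 42, 44, 45, 46, 47, 48, 49, 50, 51, 52, 54, 55, 56, 57, 58, 60, 61, 62, 63, 64, 65, 66, 67, 68, 70, 71, 73, 74, 75, 77, 78, 79, 80, 82, 83, 84, 85, 86, 87, 88, 89, 90, 92, 93, 96, 97, 100, 101, 102, 107, 108, 111, 112, 113, 114, 118, 119, 122, 123, 125, 126, 131, 134, 135, 139, 140, 146, 151, 152, 157, 161, 164, 186]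
def combo2 : List (List ℕ) :=
  [[0], [], [2], [], [2], [0], [6], [], [8], [9], [10], [11], [12], [13], [14], [15], [16], [17], [18], [19], [20], [21], [22], [23], [24], [25], [26], [27], [28], [29], [30], [31], [32], [33], [34], [35], [36], [37], [38], [39], [40], [41], [42], [], [44], [45], [46], [47], [48], [49], [50], [51], [52], [], [54], [55], [56], [57], [58], [], [60], [61], [62], [63], [64], [65], [66], [67], [68], [62], [70], [71], [], [73], [74], [75], [], [77], [78], [79], [80], [], [82], [83], [84], [85], [86], [87], [88], [89], [90], [63], [92], [93], [73], [], [96], [97], [77], [], [100], [101], [102], [78], [100], [], [], [107], [108], [82], [], [111], [112], [113], [114], [83], [111], [], [118], [119], [84], [112], [122], [123], [85], [125], [126], [], [], [], [], [131], [], [], [134], [135], [], [], [], [139], [140], [], [], [134], [139], [], [146], [], [], [], [], [151], [152], [], [], [151], [], [157], [], [], [], [161], [], [], [164], [], [], [60, 67, 87], [61, 68, 88], [], [131], [135], [140], [146], [], [], [], [152], [157], [], [], [], [161],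 [], [], [], [186], [60, 67, 87], [61, 68, 88], [], [], [], [164], [186], [60, 67, 87], [61, 68, 88], [], [], [], [], [], [], [], [], [], [], [], [], [], [], [], [], [], [], [], [], [], [], [], [], [], [], [], [], [], [], [], [], [], [], [], [], [], [], [], [], [], [], [], [], [], [], [], [], [], [], [], []]
def rowsL2 : List (List ℕ) :=
  [[7, 226, 230, 236], [168, 247], [167, 246], [2, 7], [186, 245], [164, 244], [161, 243], [157, 242], [152, 241], [146, 240], [140, 239], [135, 238], [131, 237], [151, 233], [139, 232], [134, 231], [85, 229], [112, 225], [84, 224], [111, 221], [83, 220], [82, 217], [100, 211], [78, 210], [77, 207], [73, 201], [61, 195], [60, 194], [63, 191], [62, 169], [61, 168], [60, 167], [0, 2], [236], [235], [234], [228], [227], [226], [223], [222], [219], [218], [216], [215], [214], [213], [209], [208], [206], [205], [204], [203], [200], [199], [198], [197], [190], [189], [186], [185], [184], [181], [180], [176], [175], [166], [165], [164], [163], [162], [161], [159], [158], [157], [154], [153], [152], [151], [148], [147], [146], [142], [141],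 [140], [139], [137], [136], [135], [134], [133], [132], [131], [130], [129], [112], [111], [100], [85], [84], [83], [82], [78], [77], [73], [63], [62], [61], [60], [0]]
def colA2 : List ℕ :=
  [6, 88, 87, 29, 186, 164, 161, 157, 152, 146, 140, 135, 131, 151, 139, 134, 85, 112, 84, 111, 83, 82, 100, 78, 77, 73, 68, 67, 63, 62, 61, 60, 19, 0, 126, 125, 123, 122, 2, 119, 118, 114, 113, 108, 107, 80, 79, 102, 101, 97, 96, 75, 74, 93, 92, 71, 70, 90, 89, 86, 58, 57, 52, 51, 42, 41, 66, 65, 64, 56, 55, 54, 50, 49, 48, 47, 46, 45, 44, 40, 39, 38, 37, 36, 35, 34, 33, 32, 31, 30, 28, 27, 26, 21, 20, 24, 23, 22, 18, 17, 16, 15, 14, 13, 12, 11, 10, 9, 8, 25]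

set_option maxRecDepth 1000000 in
theorem chkUp2 : chkUp chevE8 (sW ys2) basis2 combo2 = true := by decide +kernel

set_option maxRecDepth 1000000 in
theorem chkLow2 : chkLow chevE8 (sW ys2) rowsL2 colA2 = true := by decide +kernel

theorem basis2_length : basis2.length = 110 := by decide
theorem colA2_length : colA2.length = 110 := by decide

/-- the roots of the representative `y3` (rank of `y3 - 1` is 120) -/
def ys3 : List ℕ := [226, 220, 213, 216]
def basis3 : List ℕ :=
  [0, 1, 2, 3, 8, 9, 10, 11, 12, 13, 14, 15, 16, 17, 18, 19, 20, 21, 22, 23, 24, 25, 26, 27, 28, 29, 30, 31, 32, 33, 34, 35, 36, 37, 38, 39, 40, 41, 42, 43, 44, 45, 46, 47, 48, 49, 50, 51, 52, 53, 54, 55, 56, 57, 58, 59, 60, 61, 62, 63, 64, 65, 66, 67, 68, 69, 70, 71, 72, 73, 74, 75, 76, 77, 78, 80, 81, 82, 83, 84, 85, 86, 87, 88, 89, 90, 91, 92, 93, 94, 95, 96, 97, 98, 99, 100, 101, 102, 103, 104, 105, 106, 109, 110, 111, 112, 116, 117, 128, 129, 130, 131, 132, 133, 135, 136, 137, 141, 142, 148]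
def combo3 : List (List ℕ) :=
  [[0], [1], [2], [3], [], [3], [2], [0], [8], [9], [10], [11], [12], [13], [14], [15], [16], [17], [18], [19], [20], [21], [22], [23], [24], [25], [26], [27], [28], [29], [30], [31], [32], [33], [34], [35], [36], [37], [38], [39], [40], [41], [42], [43], [44], [45], [46], [47], [48], [49], [50], [51], [52], [53], [54], [55], [56], [57], [58], [59], [60], [61], [62], [63], [64], [65], [66], [67], [68], [69], [70], [71], [72], [73], [74], [75], [76], [77], [78], [], [80], [81], [82], [83], [84], [85], [86], [87], [88], [89], [90], [91], [92], [93], [94], [95], [96], [97], [98], [99], [100], [101], [102], [103], [104], [105], [106], [80], [], [109], [110], [111], [112], [81], [109], [], [116], [117], [82], [110], [116], [], [83], [111], [117], [84], [112], [85], [128], [129], [130], [131], [132], [133], [], [135], [136], [137], [131], [135], [], [141], [142], [129], [132], [136], [141], [], [148], [], [], [], [], [51, 55, 64], [52, 56, 86], [], [], [51, 55, 64], [], [53, 66, 87], [51, 55, 64], [], [], [59, 68, 89], [], [], [62, 71, 92],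 [], [63, 75, 96], [73, 76, 101], [128], [130], [133], [137], [142], [148], [], [], [], [52, 56, 86], [53, 66, 87], [], [52, 56, 86], [], [59, 68, 89], [], [], [62, 71, 92], [], [63, 75, 96], [], [95, 98, 102], [53, 66, 87], [59, 68, 89], [], [], [62, 71, 92], [], [], [73, 76, 101], [95, 98, 102], [], [63, 75, 96], [73, 76, 101], [95, 98, 102], [], [], [], [], [], [], [], [], [], [], [], [], [], [], [], [], [], [], [], [], [], [], [], [], [], [], [], [], [], [], [], [], [], [], [], [], [], [], [], [], [], [], []]
def rowsL3 : List (List ℕ) :=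
  [[3, 4, 224, 228, 234], [2, 3, 4], [191, 247], [169, 246], [168, 245], [166, 244], [163, 243], [159, 242], [154, 241], [153, 233], [148, 240], [142, 239], [137, 238], [133, 237], [130, 236], [128, 235], [141, 232], [136, 231], [132, 230], [129, 229], [85, 227], [135, 226], [131, 225], [112, 223], [84, 222], [3, 221], [117, 220], [111, 219], [83, 218], [116, 217], [110, 216], [82, 215], [109, 214], [81, 213], [80, 212], [95, 204], [73, 203], [63, 202], [62, 196], [59, 193], [53, 192], [95, 191], [52, 182], [73, 169], [63, 168], [62, 166], [59, 163], [51, 160], [53, 159], [52, 154], [51, 153], [0, 4], [234], [224], [211], [210], [209], [208], [207], [206], [205], [201], [198], [197], [195], [194], [190], [188], [186], [185], [183], [181], [178], [177], [167], [165], [164], [162], [161], [158], [156], [155], [152], [151], [150], [149], [148], [142], [141], [137], [136], [135], [133], [132], [131], [130], [129], [128], [117], [116], [112], [111], [110], [109], [95], [85], [84], [83], [82], [81], [80], [73], [63], [62], [59], [53], [52], [51], [3], [0]]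
def colA3 : List ℕ :=
  [3, 31, 102, 101, 96, 92, 89, 87, 86, 64, 148, 142, 137, 133, 130, 128, 141, 136, 132, 129, 85, 135, 131, 112, 84, 1, 117, 111, 83, 116, 110, 82, 109, 81, 80, 98, 76, 75, 71, 68, 66, 95, 56, 73, 63, 62, 59, 55, 53, 52, 51, 21, 0, 2, 106, 105, 100, 78, 104, 99, 77, 103, 94, 72, 91, 69, 97, 93, 61, 90, 58, 88, 50, 47, 74, 70, 60, 67, 57, 65, 49, 46, 54, 48, 45, 44, 43, 42, 41, 40, 39, 38, 37, 36, 35, 33, 32, 28, 30, 29, 26, 25, 24, 23, 22, 20, 19, 18, 17, 16, 15, 14, 13, 12, 11, 10, 9, 8, 34, 27]

set_option maxRecDepth 1000000 in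
theorem chkUp3 : chkUp chevE8 (sW ys3) basis3 combo3 = true := by decide +kernel

set_option maxRecDepth 1000000 in
theorem chkLow3 : chkLow chevE8 (sW ys3) rowsL3 colA3 = true := by decide +kernel

theorem basis3_length : basis3.length = 120 := by decide
theorem colA3_length : colA3.length = 120 := by decide

section
variable {K : Type*} [Field K]

/-- `rank (y0 - 1) = 58` -/
theorem rank_y0 (hp : ((2 : ℕ) : K) = 0) :
    ((ys0.map fun r => chevE8.x K r 1).prod - 1).rank = 58 := by
  apply le_antisymm
  · have := rank_le_prod hp chevE8 ys0 basis0 combo0 chkUp0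
    rwa [basis0_length] at this
  · have := rank_ge_prod hp chevE8 ys0 rowsL0 colA0 chkLow0
    rwa [colA0_length] at this

/-- `rank (y1 - 1) = 92` -/
theorem rank_y1 (hp : ((2 : ℕ) : K) = 0) :
    ((ys1.map fun r => chevE8.x K r 1).prod - 1).rank = 92 := by
  apply le_antisymm
  · have := rank_le_prod hp chevE8 ys1 basis1 combo1 chkUp1
    rwa [basis1_length] at this
  · have := rank_ge_prod hp chevE8 ys1 rowsL1 colA1 chkLow1
    rwa [colA1_length] at this

/-- `rank (y2 - 1) = 110` -/
theorem rank_y2 (hp : ((2 : ℕ) : K) = 0) :
    ((ys2.map fun r => chevE8.x K r 1).prod - 1).rank = 110 := by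
  apply le_antisymm
  · have := rank_le_prod hp chevE8 ys2 basis2 combo2 chkUp2
    rwa [basis2_length] at this
  · have := rank_ge_prod hp chevE8 ys2 rowsL2 colA2 chkLow2
    rwa [colA2_length] at this

/-- `rank (y3 - 1) = 120` -/
theorem rank_y3 (hp : ((2 : ℕ) : K) = 0) :
    ((ys3.map fun r => chevE8.x K r 1).prod - 1).rank = 120 := by
  apply le_antisymm
  · have := rank_le_prod hp chevE8 ys3 basis3 combo3 chkUp3
    rwa [basis3_length] at this
  · have := rank_ge_prod hp chevE8 ys3 rowsL3 colA3 chkLow3
    rwa [colA3_length] at this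

end

end Cfsg.Agent.Lib.Helper2.E8EvRank
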