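import Mathlib
import Cfsg.Prelude.Def_ChevE8
import Cfsg.Agent.Lib.Helper2.EvLocMaxPk
import Cfsg.Agent.Lib.Helper5.ChevChk.W0All

set_option autoImplicit false

/-!
# Farm E8EV, unit T : the involutive local maxima of `W(E8)` (table of helper3, generic
theorem `locmax_cases_of_tableP`)
-/

namespace Cfsg.Agent.Lib.Helper2.E8Ev

open Cfsg Cfsg.Lie Cfsg.Agent.Lib.Helper5.ChevSym Cfsg.Agent.Lib.Helper5.ChevStruct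
  Cfsg.Agent.Lib.Helper6.F4Ev Cfsg.Agent.Lib.Helper2.EvLocMaxPk

theorem memE8v : chevE8 ∈ Seven := by simp [Seven]

/-- the longest element of `W(E8)` (the word of `chkW0_E8`) -/
def w0E8 : List ℕ :=
  [0, 1, 2, 0, 3, 1, 2, 0, 3, 2, 4, 3, 1, 2, 0, 3, 2, 4, 3, 1, 5, 4, 3, 1, 2, 0, 3, 2, 4, 3, 1,
  5, 4, 3, 2, 0, 6, 5, 4, 3, 1, 2, 0, 3, 2, 4, 3, 1, 5, 4, 3, 2, 0, 6, 5, 4, 3, 1, 2, 3, 4, 5,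
  6, 7, 6, 5, 4, 3, 1, 2, 0, 3, 2, 4, 3, 1, 5, 4, 3, 2, 0, 6, 5, 4, 3, 1, 2, 3, 4, 5, 6, 7, 6,
  5, 4, 3, 1, 2, 0, 3, 2, 4, 3, 1, 5, 4, 3, 2, 0, 6, 5, 4, 3, 1, 2, 3, 4, 5, 6, 7]

theorem chkW0_w0E8 : checkW0 chevE8 w0E8 = true := chkW0_E8

/-- packed reflection tables (one byte per root) -/
def rtE8 : List ℕ :=
  [89010710832726070714151161094414522261048587326581510595392028524030207563957026801107561780730543875635899695872657540013727267355752929009945983259756149830046491061614462711827468647410691219483793969699872786852253216181086040217948769591709564461412580249235256415527480204464476331546285723345807496788342194623506928674460502856817942549765057009024427281542244180397900240359504473124310118170232911525014401390998667463253019886626284409262937152958555578213187162928665144744945462487135302530904835859273767658661597756841433802992835089440598390061610903988634517760,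
   89010710832725403821992757481139071596698173965191600472753702822147364158672239454480583766054916428145578667561196346286240294973106193453481602022994238457747057000441148872921567985804927830925184562410761361820642221993159403124364699503886667373585590236200204532233412719031984404037316613648740789033672441744072877792284927471549198215319587161646246739142712406116015301396244861203768991281616970164435876457802828834673089209444828885868975419990867550410752616208765434029454275512555058899218984728513362813046938098819618253410658999715481853523381007317721022720,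
   89010710832725745165782235459872475154280622121245305451935284189796891986609553508120115617800247381425903506913793501621740144058856426409726296520870105944088071210077208036158123281336922507974837557012631125147342853176418750825867691433342788636856825459490268921107323757655376441022236038140059219790486132896388440655383746867478063393865412376222232171226315736044435218013124881770230153482484127468225324367815592321859374033917761553313348740424564716417650837788186550135374827969386553419933334973793356178552598849513931315254120302644802431154599699746591473920,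
   89010710832640042910111002570656357653715391413141566596331023776964856083669365258548140478906507872628955595684419254834843229232697776527642939107948214787375489097164882990093468904723498389665687901900427190291264427804358237891932228052664145351264877813819956450891804972988388003365098856358027288215824823748769396133189946047224742087238448032137898031788973343765419247008549016964559503462021292736161599259527505720347129268890925678250880711178934622972084815217513580310228965341853079554683461698062554884656178636540855221896711318667953180723757473301824405760,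
   89010710810700264150582617630331042255881895932910918226714852776874391712560822123306201324846964430844654021744796813142187524010757855487702572916830330127298365693899458709456758086075824036756691770046586241064145029133056116495308293743993175776525086010282095515927038476928213975218102397351640852387061258815504561004829092548212349860608510285292324260881662547262759342960965261517043933646963449207241238405678966067672724730749373320049762418207315511506201541333274614526630211416916896943463791273270459031700074181856090797289197533059447945620264098913323188480,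
   89010705194116901706207898042593272076635715598316080962368373660183275904963211241670112868150747514853452339348300442536856573504108070476071578517515459877170448087740084341605535907786739352171560154020690462814959752126950608726406504555309146021826472933762216957718802688115433395906838355161543700798538259399617365590114206434373053162203444095549298876781670225955956867766795389687715615088611026287293754751444324085777775017164061220134326830106176777561728721517073324255709968496742906099242262077598598897834567242933249561462858944112061751703801260570581336320,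
   89009267348776115946259729773659820922684365030336125747795389469672832738436486560006107076294386215399861108218061426761033223202858027703265974144867968881077088308644070388014335446175521462296218898606490586008687349314690079072884976809321978274044767002146488503282587066531463532201212884356974697146753815329103501718218155712615386612077501918825553327818300954160685785812314943431026242586854979814233718477042248871847137512423246283316098823861341191045350782894843980481615436882682789356038401372194376474142161795991775560137622389820726250948292215778419212800,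
   88641178941534961399528574982133574396814677498906256381400989866246665564627449953229161844680194659074190077933092506923116215135179707304662642718937925229953648022107495859618087372822661764163967864959498616813225990959921021107342227069879379961702186122601970179144962718114610669862116384906490085474227268535270866071537994068712179526991254658483445889533178669162414355083484286780054293952034942920139124176531856893144339475625188267984313062904125435984721199090783521652049076887975122872968631645246134704052914889999252209582043955376412284065663104007717126145]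

/-- packed positivity table (one bit per root) -/
def psE8 : ℕ :=
  1766847064778384329583297500742918514498255901090703085217799141012275200

set_option maxRecDepth 1000000 in
theorem tabOK_E8 : tabOK chevE8 rtE8 psE8 = true := by decide +kernel

/-- the subsets `I` of the diagram with a reduced word of the longest element of `W_I` and the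
local maximum `w₀ L_I⁻¹` (if it is one) -/
def liE8 : List (List ℕ × List ℕ × List ℕ) :=
  [([], [], [7, 6, 5, 4, 3, 2, 1, 3, 4, 5, 6, 0, 2, 3, 4, 5, 1, 3, 4, 2, 3, 0, 2, 1, 3, 4, 5, 6,
  7, 6, 5, 4, 3, 2, 1, 3, 4, 5, 6, 0, 2, 3, 4, 5, 1, 3, 4, 2, 3, 0, 2, 1, 3, 4, 5, 6, 7, 6, 5,
  4, 3, 2, 1, 3, 4, 5, 6, 0, 2, 3, 4, 5, 1, 3, 4, 2, 3, 0, 2, 1, 3, 4, 5, 6, 0, 2, 3, 4, 5, 1,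
  3, 4, 2, 3, 0, 2, 1, 3, 4, 5, 1, 3, 4, 2, 3, 0, 2, 1, 3, 4, 2, 3, 0, 2, 1, 3, 0, 2, 1, 0]),
  ([0], [0], [7, 6, 5, 4, 3, 2, 1, 3, 4, 5, 6, 0, 2, 3, 4, 5, 1, 3, 4, 2, 3, 0, 2, 1, 3, 4, 5,
  6, 7, 6, 5, 4, 3, 2, 1, 3, 4, 5, 6, 0, 2, 3, 4, 5, 1, 3, 4, 2, 3, 0, 2, 1, 3, 4, 5, 6, 7, 6,
  5, 4, 3, 2, 1, 3, 4, 5, 6, 0, 2, 3, 4, 5, 1, 3, 4, 2, 3, 0, 2, 1, 3, 4, 5, 6, 0, 2, 3, 4, 5,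
  1, 3, 4, 2, 3, 0, 2, 1, 3, 4, 5, 1, 3, 4, 2, 3, 0, 2, 1, 3, 4, 2, 3, 0, 2, 1, 3, 0, 2, 1]),
  ([1], [1], [7, 6, 5, 4, 3, 2, 1, 3, 4, 5, 6, 0, 2, 3, 4, 5, 1, 3, 4, 2, 3, 0, 2, 1, 3, 4, 5,
  6, 7, 6, 5, 4, 3, 2, 1, 3, 4, 5, 6, 0, 2, 3, 4, 5, 1, 3, 4, 2, 3, 0, 2, 1, 3, 4, 5, 6, 7, 6,
  5, 4, 3, 2, 1, 3, 4, 5, 6, 0, 2, 3, 4, 5, 1, 3, 4, 2, 3, 0, 2, 1, 3, 4, 5, 6, 0, 2, 3, 4, 5,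
  1, 3, 4, 2, 3, 0, 2, 1, 3, 4, 5, 1, 3, 4, 2, 3, 0, 2, 1, 3, 4, 2, 3, 0, 2, 1, 3, 0, 2, 0]),
  ([2], [2], [7, 6, 5, 4, 3, 2, 1, 3, 4, 5, 6, 0, 2, 3, 4, 5, 1, 3, 4, 2, 3, 0, 2, 1, 3, 4, 5,
  6, 7, 6, 5, 4, 3, 2, 1, 3, 4, 5, 6, 0, 2, 3, 4, 5, 1, 3, 4, 2, 3, 0, 2, 1, 3, 4, 5, 6, 7, 6,
  5, 4, 3, 2, 1, 3, 4, 5, 6, 0, 2, 3, 4, 5, 1, 3, 4, 2, 3, 0, 2, 1, 3, 4, 5, 6, 0, 2, 3, 4, 5,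
  1, 3, 4, 2, 3, 0, 2, 1, 3, 4, 5, 1, 3, 4, 2, 3, 0, 2, 1, 3, 4, 2, 3, 0, 2, 1, 3, 2, 1, 0]),
  ([3], [3], [7, 6, 5, 4, 3, 2, 1, 3, 4, 5, 6, 0, 2, 3, 4, 5, 1, 3, 4, 2, 3, 0, 2, 1, 3, 4, 5,
  6, 7, 6, 5, 4, 3, 2, 1, 3, 4, 5, 6, 0, 2, 3, 4, 5, 1, 3, 4, 2, 3, 0, 2, 1, 3, 4, 5, 6, 7, 6,
  5, 4, 3, 2, 1, 3, 4, 5, 6, 0, 2, 3, 4, 5, 1, 3, 4, 2, 3, 0, 2, 1, 3, 4, 5, 6, 0, 2, 3, 4, 5,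
  1, 3, 4, 2, 3, 0, 2, 1, 3, 4, 5, 1, 3, 4, 2, 3, 0, 2, 1, 3, 4, 3, 0, 2, 1, 3, 0, 2, 1, 0]),
  ([4], [4], [7, 6, 5, 4, 3, 2, 1, 3, 4, 5, 6, 0, 2, 3, 4, 5, 1, 3, 4, 2, 3, 0, 2, 1, 3, 4, 5,
  6, 7, 6, 5, 4, 3, 2, 1, 3, 4, 5, 6, 0, 2, 3, 4, 5, 1, 3, 4, 2, 3, 0, 2, 1, 3, 4, 5, 6, 7, 6,
  5, 4, 3, 2, 1, 3, 4, 5, 6, 0, 2, 3, 4, 5, 1, 3, 4, 2, 3, 0, 2, 1, 3, 4, 5, 6, 0, 2, 3, 4, 5,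
  1, 3, 4, 2, 3, 0, 2, 1, 3, 4, 5, 3, 4, 2, 3, 0, 2, 1, 3, 4, 2, 3, 0, 2, 1, 3, 0, 2, 1, 0]),
  ([5], [5], [7, 6, 5, 4, 3, 2, 1, 3, 4, 5, 6, 0, 2, 3, 4, 5, 1, 3, 4, 2, 3, 0, 2, 1, 3, 4, 5,
  6, 7, 6, 5, 4, 3, 2, 1, 3, 4, 5, 6, 0, 2, 3, 4, 5, 1, 3, 4, 2, 3, 0, 2, 1, 3, 4, 5, 6, 7, 6,
  5, 4, 3, 2, 1, 3, 4, 5, 6, 0, 2, 3, 4, 5, 1, 3, 4, 2, 3, 0, 2, 1, 3, 4, 5, 6, 2, 3, 4, 5, 1,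
  3, 4, 2, 3, 0, 2, 1, 3, 4, 5, 1, 3, 4, 2, 3, 0, 2, 1, 3, 4, 2, 3, 0, 2, 1, 3, 0, 2, 1, 0]),
  ([6], [6], [7, 6, 5, 4, 3, 2, 1, 3, 4, 5, 6, 0, 2, 3, 4, 5, 1, 3, 4, 2, 3, 0, 2, 1, 3, 4, 5,
  6, 7, 6, 5, 4, 3, 2, 1, 3, 4, 5, 6, 0, 2, 3, 4, 5, 1, 3, 4, 2, 3, 0, 2, 1, 3, 4, 5, 6, 7, 5,
  4, 3, 2, 1, 3, 4, 5, 6, 0, 2, 3, 4, 5, 1, 3, 4, 2, 3, 0, 2, 1, 3, 4, 5, 6, 0, 2, 3, 4, 5, 1,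
  3, 4, 2, 3, 0, 2, 1, 3, 4, 5, 1, 3, 4, 2, 3, 0, 2, 1, 3, 4, 2, 3, 0, 2, 1, 3, 0, 2, 1, 0]),
  ([7], [7], [6, 5, 4, 3, 2, 1, 3, 4, 5, 6, 0, 2, 3, 4, 5, 1, 3, 4, 2, 3, 0, 2, 1, 3, 4, 5, 6,
  7, 6, 5, 4, 3, 2, 1, 3, 4, 5, 6, 0, 2, 3, 4, 5, 1, 3, 4, 2, 3, 0, 2, 1, 3, 4, 5, 6, 7, 6, 5,
  4, 3, 2, 1, 3, 4, 5, 6, 0, 2, 3, 4, 5, 1, 3, 4, 2, 3, 0, 2, 1, 3, 4, 5, 6, 0, 2, 3, 4, 5, 1,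
  3, 4, 2, 3, 0, 2, 1, 3, 4, 5, 1, 3, 4, 2, 3, 0, 2, 1, 3, 4, 2, 3, 0, 2, 1, 3, 0, 2, 1, 0]),
  ([0, 1], [0, 1], [7, 6, 5, 4, 3, 2, 1, 3, 4, 5, 6, 0, 2, 3, 4, 5, 1, 3, 4, 2, 3, 0, 2, 1, 3,
  4, 5, 6, 7, 6, 5, 4, 3, 2, 1, 3, 4, 5, 6, 0, 2, 3, 4, 5, 1, 3, 4, 2, 3, 0, 2, 1, 3, 4, 5, 6,
  7, 6, 5, 4, 3, 2, 1, 3, 4, 5, 6, 0, 2, 3, 4, 5, 1, 3, 4, 2, 3, 0, 2, 1, 3, 4, 5, 6, 0, 2, 3,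
  4, 5, 1, 3, 4, 2, 3, 0, 2, 1, 3, 4, 5, 1, 3, 4, 2, 3, 0, 2, 1, 3, 4, 2, 3, 0, 2, 1, 3, 0, 2]),
  ([0, 2], [0, 2, 0], []), ([0, 3], [0, 3], [7, 6, 5, 4, 3, 2, 1, 3, 4, 5, 6, 0, 2, 3, 4, 5, 1,
  3, 4, 2, 3, 0, 2, 1, 3, 4, 5, 6, 7, 6, 5, 4, 3, 2, 1, 3, 4, 5, 6, 0, 2, 3, 4, 5, 1, 3, 4, 2,
  3, 0, 2, 1, 3, 4, 5, 6, 7, 6, 5, 4, 3, 2, 1, 3, 4, 5, 6, 0, 2, 3, 4, 5, 1, 3, 4, 2, 3, 0, 2,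
  1, 3, 4, 5, 6, 0, 2, 3, 4, 5, 1, 3, 4, 2, 3, 0, 2, 1, 3, 4, 5, 1, 3, 4, 2, 3, 0, 2, 1, 3, 4,
  3, 0, 2, 1, 3, 0, 2, 1]), ([0, 4], [0, 4], [7, 6, 5, 4, 3, 2, 1, 3, 4, 5, 6, 0, 2, 3, 4, 5, 1,
  3, 4, 2, 3, 0, 2, 1, 3, 4, 5, 6, 7, 6, 5, 4, 3, 2, 1, 3, 4, 5, 6, 0, 2, 3, 4, 5, 1, 3, 4, 2,
  3, 0, 2, 1, 3, 4, 5, 6, 7, 6, 5, 4, 3, 2, 1, 3, 4, 5, 6, 0, 2, 3, 4, 5, 1, 3, 4, 2, 3, 0, 2,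
  1, 3, 4, 5, 6, 0, 2, 3, 4, 5, 1, 3, 4, 2, 3, 0, 2, 1, 3, 4, 5, 3, 4, 2, 3, 0, 2, 1, 3, 4, 2,
  3, 0, 2, 1, 3, 0, 2, 1]), ([0, 5], [0, 5], [7, 6, 5, 4, 3, 2, 1, 3, 4, 5, 6, 0, 2, 3, 4, 5, 1,
  3, 4, 2, 3, 0, 2, 1, 3, 4, 5, 6, 7, 6, 5, 4, 3, 2, 1, 3, 4, 5, 6, 0, 2, 3, 4, 5, 1, 3, 4, 2,
  3, 0, 2, 1, 3, 4, 5, 6, 7, 6, 5, 4, 3, 2, 1, 3, 4, 5, 6, 0, 2, 3, 4, 5, 1, 3, 4, 2, 3, 0, 2,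
  1, 3, 4, 5, 6, 2, 3, 4, 5, 1, 3, 4, 2, 3, 0, 2, 1, 3, 4, 5, 1, 3, 4, 2, 3, 0, 2, 1, 3, 4, 2,
  3, 0, 2, 1, 3, 0, 2, 1]), ([0, 6], [0, 6], [7, 6, 5, 4, 3, 2, 1, 3, 4, 5, 6, 0, 2, 3, 4, 5, 1,
  3, 4, 2, 3, 0, 2, 1, 3, 4, 5, 6, 7, 6, 5, 4, 3, 2, 1, 3, 4, 5, 6, 0, 2, 3, 4, 5, 1, 3, 4, 2,
  3, 0, 2, 1, 3, 4, 5, 6, 7, 5, 4, 3, 2, 1, 3, 4, 5, 6, 0, 2, 3, 4, 5, 1, 3, 4, 2, 3, 0, 2, 1,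
  3, 4, 5, 6, 0, 2, 3, 4, 5, 1, 3, 4, 2, 3, 0, 2, 1, 3, 4, 5, 1, 3, 4, 2, 3, 0, 2, 1, 3, 4, 2,
  3, 0, 2, 1, 3, 0, 2, 1]), ([0, 7], [0, 7], [6, 5, 4, 3, 2, 1, 3, 4, 5, 6, 0, 2, 3, 4, 5, 1, 3,
  4, 2, 3, 0, 2, 1, 3, 4, 5, 6, 7, 6, 5, 4, 3, 2, 1, 3, 4, 5, 6, 0, 2, 3, 4, 5, 1, 3, 4, 2, 3,
  0, 2, 1, 3, 4, 5, 6, 7, 6, 5, 4, 3, 2, 1, 3, 4, 5, 6, 0, 2, 3, 4, 5, 1, 3, 4, 2, 3, 0, 2, 1,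
  3, 4, 5, 6, 0, 2, 3, 4, 5, 1, 3, 4, 2, 3, 0, 2, 1, 3, 4, 5, 1, 3, 4, 2, 3, 0, 2, 1, 3, 4, 2,
  3, 0, 2, 1, 3, 0, 2, 1]), ([1, 2], [1, 2], [7, 6, 5, 4, 3, 2, 1, 3, 4, 5, 6, 0, 2, 3, 4, 5, 1,
  3, 4, 2, 3, 0, 2, 1, 3, 4, 5, 6, 7, 6, 5, 4, 3, 2, 1, 3, 4, 5, 6, 0, 2, 3, 4, 5, 1, 3, 4, 2,
  3, 0, 2, 1, 3, 4, 5, 6, 7, 6, 5, 4, 3, 2, 1, 3, 4, 5, 6, 0, 2, 3, 4, 5, 1, 3, 4, 2, 3, 0, 2,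
  1, 3, 4, 5, 6, 0, 2, 3, 4, 5, 1, 3, 4, 2, 3, 0, 2, 1, 3, 4, 5, 1, 3, 4, 2, 3, 0, 2, 1, 3, 4,
  2, 3, 0, 2, 1, 3, 2, 0]), ([1, 3], [1, 3, 1], []), ([1, 4], [1, 4], [7, 6, 5, 4, 3, 2, 1, 3,
  4, 5, 6, 0, 2, 3, 4, 5, 1, 3, 4, 2, 3, 0, 2, 1, 3, 4, 5, 6, 7, 6, 5, 4, 3, 2, 1, 3, 4, 5, 6,
  0, 2, 3, 4, 5, 1, 3, 4, 2, 3, 0, 2, 1, 3, 4, 5, 6, 7, 6, 5, 4, 3, 2, 1, 3, 4, 5, 6, 0, 2, 3,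
  4, 5, 1, 3, 4, 2, 3, 0, 2, 1, 3, 4, 5, 6, 0, 2, 3, 4, 5, 1, 3, 4, 2, 3, 0, 2, 1, 3, 4, 5, 3,
  4, 2, 3, 0, 2, 1, 3, 4, 2, 3, 0, 2, 1, 3, 0, 2, 0]), ([1, 5], [1, 5], [7, 6, 5, 4, 3, 2, 1, 3,
  4, 5, 6, 0, 2, 3, 4, 5, 1, 3, 4, 2, 3, 0, 2, 1, 3, 4, 5, 6, 7, 6, 5, 4, 3, 2, 1, 3, 4, 5, 6,
  0, 2, 3, 4, 5, 1, 3, 4, 2, 3, 0, 2, 1, 3, 4, 5, 6, 7, 6, 5, 4, 3, 2, 1, 3, 4, 5, 6, 0, 2, 3,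
  4, 5, 1, 3, 4, 2, 3, 0, 2, 1, 3, 4, 5, 6, 2, 3, 4, 5, 1, 3, 4, 2, 3, 0, 2, 1, 3, 4, 5, 1, 3,
  4, 2, 3, 0, 2, 1, 3, 4, 2, 3, 0, 2, 1, 3, 0, 2, 0]), ([1, 6], [1, 6], [7, 6, 5, 4, 3, 2, 1, 3,
  4, 5, 6, 0, 2, 3, 4, 5, 1, 3, 4, 2, 3, 0, 2, 1, 3, 4, 5, 6, 7, 6, 5, 4, 3, 2, 1, 3, 4, 5, 6,
  0, 2, 3, 4, 5, 1, 3, 4, 2, 3, 0, 2, 1, 3, 4, 5, 6, 7, 5, 4, 3, 2, 1, 3, 4, 5, 6, 0, 2, 3, 4,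
  5, 1, 3, 4, 2, 3, 0, 2, 1, 3, 4, 5, 6, 0, 2, 3, 4, 5, 1, 3, 4, 2, 3, 0, 2, 1, 3, 4, 5, 1, 3,
  4, 2, 3, 0, 2, 1, 3, 4, 2, 3, 0, 2, 1, 3, 0, 2, 0]), ([1, 7], [1, 7], [6, 5, 4, 3, 2, 1, 3, 4,
  5, 6, 0, 2, 3, 4, 5, 1, 3, 4, 2, 3, 0, 2, 1, 3, 4, 5, 6, 7, 6, 5, 4, 3, 2, 1, 3, 4, 5, 6, 0,
  2, 3, 4, 5, 1, 3, 4, 2, 3, 0, 2, 1, 3, 4, 5, 6, 7, 6, 5, 4, 3, 2, 1, 3, 4, 5, 6, 0, 2, 3, 4,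
  5, 1, 3, 4, 2, 3, 0, 2, 1, 3, 4, 5, 6, 0, 2, 3, 4, 5, 1, 3, 4, 2, 3, 0, 2, 1, 3, 4, 5, 1, 3,
  4, 2, 3, 0, 2, 1, 3, 4, 2, 3, 0, 2, 1, 3, 0, 2, 0]), ([2, 3], [2, 3, 2], []), ([2, 4], [2, 4],
  [7, 6, 5, 4, 3, 2, 1, 3, 4, 5, 6, 0, 2, 3, 4, 5, 1, 3, 4, 2, 3, 0, 2, 1, 3, 4, 5, 6, 7, 6, 5,
  4, 3, 2, 1, 3, 4, 5, 6, 0, 2, 3, 4, 5, 1, 3, 4, 2, 3, 0, 2, 1, 3, 4, 5, 6, 7, 6, 5, 4, 3, 2,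
  1, 3, 4, 5, 6, 0, 2, 3, 4, 5, 1, 3, 4, 2, 3, 0, 2, 1, 3, 4, 5, 6, 0, 2, 3, 4, 5, 1, 3, 4, 2,
  3, 0, 2, 1, 3, 4, 5, 3, 4, 2, 3, 0, 2, 1, 3, 4, 2, 3, 0, 2, 1, 3, 2, 1, 0]), ([2, 5], [2, 5],
  [7, 6, 5, 4, 3, 2, 1, 3, 4, 5, 6, 0, 2, 3, 4, 5, 1, 3, 4, 2, 3, 0, 2, 1, 3, 4, 5, 6, 7, 6, 5,
  4, 3, 2, 1, 3, 4, 5, 6, 0, 2, 3, 4, 5, 1, 3, 4, 2, 3, 0, 2, 1, 3, 4, 5, 6, 7, 6, 5, 4, 3, 2,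
  1, 3, 4, 5, 6, 0, 2, 3, 4, 5, 1, 3, 4, 2, 3, 0, 2, 1, 3, 4, 5, 6, 2, 3, 4, 5, 1, 3, 4, 2, 3,
  0, 2, 1, 3, 4, 5, 1, 3, 4, 2, 3, 0, 2, 1, 3, 4, 2, 3, 0, 2, 1, 3, 2, 1, 0]), ([2, 6], [2, 6],
  [7, 6, 5, 4, 3, 2, 1, 3, 4, 5, 6, 0, 2, 3, 4, 5, 1, 3, 4, 2, 3, 0, 2, 1, 3, 4, 5, 6, 7, 6, 5,
  4, 3, 2, 1, 3, 4, 5, 6, 0, 2, 3, 4, 5, 1, 3, 4, 2, 3, 0, 2, 1, 3, 4, 5, 6, 7, 5, 4, 3, 2, 1,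
  3, 4, 5, 6, 0, 2, 3, 4, 5, 1, 3, 4, 2, 3, 0, 2, 1, 3, 4, 5, 6, 0, 2, 3, 4, 5, 1, 3, 4, 2, 3,
  0, 2, 1, 3, 4, 5, 1, 3, 4, 2, 3, 0, 2, 1, 3, 4, 2, 3, 0, 2, 1, 3, 2, 1, 0]), ([2, 7], [2, 7],
  [6, 5, 4, 3, 2, 1, 3, 4, 5, 6, 0, 2, 3, 4, 5, 1, 3, 4, 2, 3, 0, 2, 1, 3, 4, 5, 6, 7, 6, 5, 4,
  3, 2, 1, 3, 4, 5, 6, 0, 2, 3, 4, 5, 1, 3, 4, 2, 3, 0, 2, 1, 3, 4, 5, 6, 7, 6, 5, 4, 3, 2, 1,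
  3, 4, 5, 6, 0, 2, 3, 4, 5, 1, 3, 4, 2, 3, 0, 2, 1, 3, 4, 5, 6, 0, 2, 3, 4, 5, 1, 3, 4, 2, 3,
  0, 2, 1, 3, 4, 5, 1, 3, 4, 2, 3, 0, 2, 1, 3, 4, 2, 3, 0, 2, 1, 3, 2, 1, 0]), ([3, 4], [3, 4,
  3], []), ([3, 5], [3, 5], [7, 6, 5, 4, 3, 2, 1, 3, 4, 5, 6, 0, 2, 3, 4, 5, 1, 3, 4, 2, 3, 0,
  2, 1, 3, 4, 5, 6, 7, 6, 5, 4, 3, 2, 1, 3, 4, 5, 6, 0, 2, 3, 4, 5, 1, 3, 4, 2, 3, 0, 2, 1, 3,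
  4, 5, 6, 7, 6, 5, 4, 3, 2, 1, 3, 4, 5, 6, 0, 2, 3, 4, 5, 1, 3, 4, 2, 3, 0, 2, 1, 3, 4, 5, 6,
  2, 3, 4, 5, 1, 3, 4, 2, 3, 0, 2, 1, 3, 4, 5, 1, 3, 4, 2, 3, 0, 2, 1, 3, 4, 3, 0, 2, 1, 3, 0,
  2, 1, 0]), ([3, 6], [3, 6], [7, 6, 5, 4, 3, 2, 1, 3, 4, 5, 6, 0, 2, 3, 4, 5, 1, 3, 4, 2, 3, 0,
  2, 1, 3, 4, 5, 6, 7, 6, 5, 4, 3, 2, 1, 3, 4, 5, 6, 0, 2, 3, 4, 5, 1, 3, 4, 2, 3, 0, 2, 1, 3,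
  4, 5, 6, 7, 5, 4, 3, 2, 1, 3, 4, 5, 6, 0, 2, 3, 4, 5, 1, 3, 4, 2, 3, 0, 2, 1, 3, 4, 5, 6, 0,
  2, 3, 4, 5, 1, 3, 4, 2, 3, 0, 2, 1, 3, 4, 5, 1, 3, 4, 2, 3, 0, 2, 1, 3, 4, 3, 0, 2, 1, 3, 0,
  2, 1, 0]), ([3, 7], [3, 7], [6, 5, 4, 3, 2, 1, 3, 4, 5, 6, 0, 2, 3, 4, 5, 1, 3, 4, 2, 3, 0, 2,
  1, 3, 4, 5, 6, 7, 6, 5, 4, 3, 2, 1, 3, 4, 5, 6, 0, 2, 3, 4, 5, 1, 3, 4, 2, 3, 0, 2, 1, 3, 4,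
  5, 6, 7, 6, 5, 4, 3, 2, 1, 3, 4, 5, 6, 0, 2, 3, 4, 5, 1, 3, 4, 2, 3, 0, 2, 1, 3, 4, 5, 6, 0,
  2, 3, 4, 5, 1, 3, 4, 2, 3, 0, 2, 1, 3, 4, 5, 1, 3, 4, 2, 3, 0, 2, 1, 3, 4, 3, 0, 2, 1, 3, 0,
  2, 1, 0]), ([4, 5], [4, 5, 4], []), ([4, 6], [4, 6], [7, 6, 5, 4, 3, 2, 1, 3, 4, 5, 6, 0, 2,
  3, 4, 5, 1, 3, 4, 2, 3, 0, 2, 1, 3, 4, 5, 6, 7, 6, 5, 4, 3, 2, 1, 3, 4, 5, 6, 0, 2, 3, 4, 5,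
  1, 3, 4, 2, 3, 0, 2, 1, 3, 4, 5, 6, 7, 5, 4, 3, 2, 1, 3, 4, 5, 6, 0, 2, 3, 4, 5, 1, 3, 4, 2,
  3, 0, 2, 1, 3, 4, 5, 6, 0, 2, 3, 4, 5, 1, 3, 4, 2, 3, 0, 2, 1, 3, 4, 5, 3, 4, 2, 3, 0, 2, 1,
  3, 4, 2, 3, 0, 2, 1, 3, 0, 2, 1, 0]), ([4, 7], [4, 7], [6, 5, 4, 3, 2, 1, 3, 4, 5, 6, 0, 2, 3,
  4, 5, 1, 3, 4, 2, 3, 0, 2, 1, 3, 4, 5, 6, 7, 6, 5, 4, 3, 2, 1, 3, 4, 5, 6, 0, 2, 3, 4, 5, 1,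
  3, 4, 2, 3, 0, 2, 1, 3, 4, 5, 6, 7, 6, 5, 4, 3, 2, 1, 3, 4, 5, 6, 0, 2, 3, 4, 5, 1, 3, 4, 2,
  3, 0, 2, 1, 3, 4, 5, 6, 0, 2, 3, 4, 5, 1, 3, 4, 2, 3, 0, 2, 1, 3, 4, 5, 3, 4, 2, 3, 0, 2, 1,
  3, 4, 2, 3, 0, 2, 1, 3, 0, 2, 1, 0]), ([5, 6], [5, 6, 5], []), ([5, 7], [5, 7], [6, 5, 4, 3,
  2, 1, 3, 4, 5, 6, 0, 2, 3, 4, 5, 1, 3, 4, 2, 3, 0, 2, 1, 3, 4, 5, 6, 7, 6, 5, 4, 3, 2, 1, 3,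
  4, 5, 6, 0, 2, 3, 4, 5, 1, 3, 4, 2, 3, 0, 2, 1, 3, 4, 5, 6, 7, 6, 5, 4, 3, 2, 1, 3, 4, 5, 6,
  0, 2, 3, 4, 5, 1, 3, 4, 2, 3, 0, 2, 1, 3, 4, 5, 6, 2, 3, 4, 5, 1, 3, 4, 2, 3, 0, 2, 1, 3, 4,
  5, 1, 3, 4, 2, 3, 0, 2, 1, 3, 4, 2, 3, 0, 2, 1, 3, 0, 2, 1, 0]), ([6, 7], [6, 7, 6], []), ([0,
  1, 2], [0, 1, 2, 0], []), ([0, 1, 3], [0, 1, 3, 1], []), ([0, 1, 4], [0, 1, 4], [7, 6, 5, 4,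
  3, 2, 1, 3, 4, 5, 6, 0, 2, 3, 4, 5, 1, 3, 4, 2, 3, 0, 2, 1, 3, 4, 5, 6, 7, 6, 5, 4, 3, 2, 1,
  3, 4, 5, 6, 0, 2, 3, 4, 5, 1, 3, 4, 2, 3, 0, 2, 1, 3, 4, 5, 6, 7, 6, 5, 4, 3, 2, 1, 3, 4, 5,
  6, 0, 2, 3, 4, 5, 1, 3, 4, 2, 3, 0, 2, 1, 3, 4, 5, 6, 0, 2, 3, 4, 5, 1, 3, 4, 2, 3, 0, 2, 1,
  3, 4, 5, 3, 4, 2, 3, 0, 2, 1, 3, 4, 2, 3, 0, 2, 1, 3, 0, 2]), ([0, 1, 5], [0, 1, 5], [7, 6, 5,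
  4, 3, 2, 1, 3, 4, 5, 6, 0, 2, 3, 4, 5, 1, 3, 4, 2, 3, 0, 2, 1, 3, 4, 5, 6, 7, 6, 5, 4, 3, 2,
  1, 3, 4, 5, 6, 0, 2, 3, 4, 5, 1, 3, 4, 2, 3, 0, 2, 1, 3, 4, 5, 6, 7, 6, 5, 4, 3, 2, 1, 3, 4,
  5, 6, 0, 2, 3, 4, 5, 1, 3, 4, 2, 3, 0, 2, 1, 3, 4, 5, 6, 2, 3, 4, 5, 1, 3, 4, 2, 3, 0, 2, 1,
  3, 4, 5, 1, 3, 4, 2, 3, 0, 2, 1, 3, 4, 2, 3, 0, 2, 1, 3, 0, 2]), ([0, 1, 6], [0, 1, 6], [7, 6,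
  5, 4, 3, 2, 1, 3, 4, 5, 6, 0, 2, 3, 4, 5, 1, 3, 4, 2, 3, 0, 2, 1, 3, 4, 5, 6, 7, 6, 5, 4, 3,
  2, 1, 3, 4, 5, 6, 0, 2, 3, 4, 5, 1, 3, 4, 2, 3, 0, 2, 1, 3, 4, 5, 6, 7, 5, 4, 3, 2, 1, 3, 4,
  5, 6, 0, 2, 3, 4, 5, 1, 3, 4, 2, 3, 0, 2, 1, 3, 4, 5, 6, 0, 2, 3, 4, 5, 1, 3, 4, 2, 3, 0, 2,
  1, 3, 4, 5, 1, 3, 4, 2, 3, 0, 2, 1, 3, 4, 2, 3, 0, 2, 1, 3, 0, 2]), ([0, 1, 7], [0, 1, 7], [6,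
  5, 4, 3, 2, 1, 3, 4, 5, 6, 0, 2, 3, 4, 5, 1, 3, 4, 2, 3, 0, 2, 1, 3, 4, 5, 6, 7, 6, 5, 4, 3,
  2, 1, 3, 4, 5, 6, 0, 2, 3, 4, 5, 1, 3, 4, 2, 3, 0, 2, 1, 3, 4, 5, 6, 7, 6, 5, 4, 3, 2, 1, 3,
  4, 5, 6, 0, 2, 3, 4, 5, 1, 3, 4, 2, 3, 0, 2, 1, 3, 4, 5, 6, 0, 2, 3, 4, 5, 1, 3, 4, 2, 3, 0,
  2, 1, 3, 4, 5, 1, 3, 4, 2, 3, 0, 2, 1, 3, 4, 2, 3, 0, 2, 1, 3, 0, 2]), ([0, 2, 3], [0, 2, 0,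
  3, 2, 0], []), ([0, 2, 4], [0, 2, 0, 4], []), ([0, 2, 5], [0, 2, 0, 5], []), ([0, 2, 6], [0,
  2, 0, 6], []), ([0, 2, 7], [0, 2, 0, 7], []), ([0, 3, 4], [0, 3, 4, 3], []), ([0, 3, 5], [0,
  3, 5], [7, 6, 5, 4, 3, 2, 1, 3, 4, 5, 6, 0, 2, 3, 4, 5, 1, 3, 4, 2, 3, 0, 2, 1, 3, 4, 5, 6, 7,
  6, 5, 4, 3, 2, 1, 3, 4, 5, 6, 0, 2, 3, 4, 5, 1, 3, 4, 2, 3, 0, 2, 1, 3, 4, 5, 6, 7, 6, 5, 4,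
  3, 2, 1, 3, 4, 5, 6, 0, 2, 3, 4, 5, 1, 3, 4, 2, 3, 0, 2, 1, 3, 4, 5, 6, 2, 3, 4, 5, 1, 3, 4,
  2, 3, 0, 2, 1, 3, 4, 5, 1, 3, 4, 2, 3, 0, 2, 1, 3, 4, 3, 0, 2, 1, 3, 0, 2, 1]), ([0, 3, 6],
  [0, 3, 6], [7, 6, 5, 4, 3, 2, 1, 3, 4, 5, 6, 0, 2, 3, 4, 5, 1, 3, 4, 2, 3, 0, 2, 1, 3, 4, 5,
  6, 7, 6, 5, 4, 3, 2, 1, 3, 4, 5, 6, 0, 2, 3, 4, 5, 1, 3, 4, 2, 3, 0, 2, 1, 3, 4, 5, 6, 7, 5,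
  4, 3, 2, 1, 3, 4, 5, 6, 0, 2, 3, 4, 5, 1, 3, 4, 2, 3, 0, 2, 1, 3, 4, 5, 6, 0, 2, 3, 4, 5, 1,
  3, 4, 2, 3, 0, 2, 1, 3, 4, 5, 1, 3, 4, 2, 3, 0, 2, 1, 3, 4, 3, 0, 2, 1, 3, 0, 2, 1]), ([0, 3,
  7], [0, 3, 7], [6, 5, 4, 3, 2, 1, 3, 4, 5, 6, 0, 2, 3, 4, 5, 1, 3, 4, 2, 3, 0, 2, 1, 3, 4, 5,
  6, 7, 6, 5, 4, 3, 2, 1, 3, 4, 5, 6, 0, 2, 3, 4, 5, 1, 3, 4, 2, 3, 0, 2, 1, 3, 4, 5, 6, 7, 6,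
  5, 4, 3, 2, 1, 3, 4, 5, 6, 0, 2, 3, 4, 5, 1, 3, 4, 2, 3, 0, 2, 1, 3, 4, 5, 6, 0, 2, 3, 4, 5,
  1, 3, 4, 2, 3, 0, 2, 1, 3, 4, 5, 1, 3, 4, 2, 3, 0, 2, 1, 3, 4, 3, 0, 2, 1, 3, 0, 2, 1]), ([0,
  4, 5], [0, 4, 5, 4], []), ([0, 4, 6], [0, 4, 6], [7, 6, 5, 4, 3, 2, 1, 3, 4, 5, 6, 0, 2, 3, 4,
  5, 1, 3, 4, 2, 3, 0, 2, 1, 3, 4, 5, 6, 7, 6, 5, 4, 3, 2, 1, 3, 4, 5, 6, 0, 2, 3, 4, 5, 1, 3,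
  4, 2, 3, 0, 2, 1, 3, 4, 5, 6, 7, 5, 4, 3, 2, 1, 3, 4, 5, 6, 0, 2, 3, 4, 5, 1, 3, 4, 2, 3, 0,
  2, 1, 3, 4, 5, 6, 0, 2, 3, 4, 5, 1, 3, 4, 2, 3, 0, 2, 1, 3, 4, 5, 3, 4, 2, 3, 0, 2, 1, 3, 4,
  2, 3, 0, 2, 1, 3, 0, 2, 1]), ([0, 4, 7], [0, 4, 7], [6, 5, 4, 3, 2, 1, 3, 4, 5, 6, 0, 2, 3, 4,
  5, 1, 3, 4, 2, 3, 0, 2, 1, 3, 4, 5, 6, 7, 6, 5, 4, 3, 2, 1, 3, 4, 5, 6, 0, 2, 3, 4, 5, 1, 3,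
  4, 2, 3, 0, 2, 1, 3, 4, 5, 6, 7, 6, 5, 4, 3, 2, 1, 3, 4, 5, 6, 0, 2, 3, 4, 5, 1, 3, 4, 2, 3,
  0, 2, 1, 3, 4, 5, 6, 0, 2, 3, 4, 5, 1, 3, 4, 2, 3, 0, 2, 1, 3, 4, 5, 3, 4, 2, 3, 0, 2, 1, 3,
  4, 2, 3, 0, 2, 1, 3, 0, 2, 1]), ([0, 5, 6], [0, 5, 6, 5], []), ([0, 5, 7], [0, 5, 7], [6, 5,
  4, 3, 2, 1, 3, 4, 5, 6, 0, 2, 3, 4, 5, 1, 3, 4, 2, 3, 0, 2, 1, 3, 4, 5, 6, 7, 6, 5, 4, 3, 2,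
  1, 3, 4, 5, 6, 0, 2, 3, 4, 5, 1, 3, 4, 2, 3, 0, 2, 1, 3, 4, 5, 6, 7, 6, 5, 4, 3, 2, 1, 3, 4,
  5, 6, 0, 2, 3, 4, 5, 1, 3, 4, 2, 3, 0, 2, 1, 3, 4, 5, 6, 2, 3, 4, 5, 1, 3, 4, 2, 3, 0, 2, 1,
  3, 4, 5, 1, 3, 4, 2, 3, 0, 2, 1, 3, 4, 2, 3, 0, 2, 1, 3, 0, 2, 1]), ([0, 6, 7], [0, 6, 7, 6],
  []), ([1, 2, 3], [1, 2, 3, 1, 2, 3], []), ([1, 2, 4], [1, 2, 4], [7, 6, 5, 4, 3, 2, 1, 3, 4,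
  5, 6, 0, 2, 3, 4, 5, 1, 3, 4, 2, 3, 0, 2, 1, 3, 4, 5, 6, 7, 6, 5, 4, 3, 2, 1, 3, 4, 5, 6, 0,
  2, 3, 4, 5, 1, 3, 4, 2, 3, 0, 2, 1, 3, 4, 5, 6, 7, 6, 5, 4, 3, 2, 1, 3, 4, 5, 6, 0, 2, 3, 4,
  5, 1, 3, 4, 2, 3, 0, 2, 1, 3, 4, 5, 6, 0, 2, 3, 4, 5, 1, 3, 4, 2, 3, 0, 2, 1, 3, 4, 5, 3, 4,
  2, 3, 0, 2, 1, 3, 4, 2, 3, 0, 2, 1, 3, 2, 0]), ([1, 2, 5], [1, 2, 5], [7, 6, 5, 4, 3, 2, 1, 3,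
  4, 5, 6, 0, 2, 3, 4, 5, 1, 3, 4, 2, 3, 0, 2, 1, 3, 4, 5, 6, 7, 6, 5, 4, 3, 2, 1, 3, 4, 5, 6,
  0, 2, 3, 4, 5, 1, 3, 4, 2, 3, 0, 2, 1, 3, 4, 5, 6, 7, 6, 5, 4, 3, 2, 1, 3, 4, 5, 6, 0, 2, 3,
  4, 5, 1, 3, 4, 2, 3, 0, 2, 1, 3, 4, 5, 6, 2, 3, 4, 5, 1, 3, 4, 2, 3, 0, 2, 1, 3, 4, 5, 1, 3,
  4, 2, 3, 0, 2, 1, 3, 4, 2, 3, 0, 2, 1, 3, 2, 0]), ([1, 2, 6], [1, 2, 6], [7, 6, 5, 4, 3, 2, 1,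
  3, 4, 5, 6, 0, 2, 3, 4, 5, 1, 3, 4, 2, 3, 0, 2, 1, 3, 4, 5, 6, 7, 6, 5, 4, 3, 2, 1, 3, 4, 5,
  6, 0, 2, 3, 4, 5, 1, 3, 4, 2, 3, 0, 2, 1, 3, 4, 5, 6, 7, 5, 4, 3, 2, 1, 3, 4, 5, 6, 0, 2, 3,
  4, 5, 1, 3, 4, 2, 3, 0, 2, 1, 3, 4, 5, 6, 0, 2, 3, 4, 5, 1, 3, 4, 2, 3, 0, 2, 1, 3, 4, 5, 1,
  3, 4, 2, 3, 0, 2, 1, 3, 4, 2, 3, 0, 2, 1, 3, 2, 0]), ([1, 2, 7], [1, 2, 7], [6, 5, 4, 3, 2, 1,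
  3, 4, 5, 6, 0, 2, 3, 4, 5, 1, 3, 4, 2, 3, 0, 2, 1, 3, 4, 5, 6, 7, 6, 5, 4, 3, 2, 1, 3, 4, 5,
  6, 0, 2, 3, 4, 5, 1, 3, 4, 2, 3, 0, 2, 1, 3, 4, 5, 6, 7, 6, 5, 4, 3, 2, 1, 3, 4, 5, 6, 0, 2,
  3, 4, 5, 1, 3, 4, 2, 3, 0, 2, 1, 3, 4, 5, 6, 0, 2, 3, 4, 5, 1, 3, 4, 2, 3, 0, 2, 1, 3, 4, 5,
  1, 3, 4, 2, 3, 0, 2, 1, 3, 4, 2, 3, 0, 2, 1, 3, 2, 0]), ([1, 3, 4], [1, 3, 1, 4, 3, 1], []),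
  ([1, 3, 5], [1, 3, 1, 5], []), ([1, 3, 6], [1, 3, 1, 6], []), ([1, 3, 7], [1, 3, 1, 7], []),
  ([1, 4, 5], [1, 4, 5, 4], []), ([1, 4, 6], [1, 4, 6], [7, 6, 5, 4, 3, 2, 1, 3, 4, 5, 6, 0, 2,
  3, 4, 5, 1, 3, 4, 2, 3, 0, 2, 1, 3, 4, 5, 6, 7, 6, 5, 4, 3, 2, 1, 3, 4, 5, 6, 0, 2, 3, 4, 5,
  1, 3, 4, 2, 3, 0, 2, 1, 3, 4, 5, 6, 7, 5, 4, 3, 2, 1, 3, 4, 5, 6, 0, 2, 3, 4, 5, 1, 3, 4, 2,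
  3, 0, 2, 1, 3, 4, 5, 6, 0, 2, 3, 4, 5, 1, 3, 4, 2, 3, 0, 2, 1, 3, 4, 5, 3, 4, 2, 3, 0, 2, 1,
  3, 4, 2, 3, 0, 2, 1, 3, 0, 2, 0]), ([1, 4, 7], [1, 4, 7], [6, 5, 4, 3, 2, 1, 3, 4, 5, 6, 0, 2,
  3, 4, 5, 1, 3, 4, 2, 3, 0, 2, 1, 3, 4, 5, 6, 7, 6, 5, 4, 3, 2, 1, 3, 4, 5, 6, 0, 2, 3, 4, 5,
  1, 3, 4, 2, 3, 0, 2, 1, 3, 4, 5, 6, 7, 6, 5, 4, 3, 2, 1, 3, 4, 5, 6, 0, 2, 3, 4, 5, 1, 3, 4,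
  2, 3, 0, 2, 1, 3, 4, 5, 6, 0, 2, 3, 4, 5, 1, 3, 4, 2, 3, 0, 2, 1, 3, 4, 5, 3, 4, 2, 3, 0, 2,
  1, 3, 4, 2, 3, 0, 2, 1, 3, 0, 2, 0]), ([1, 5, 6], [1, 5, 6, 5], []), ([1, 5, 7], [1, 5, 7],
  [6, 5, 4, 3, 2, 1, 3, 4, 5, 6, 0, 2, 3, 4, 5, 1, 3, 4, 2, 3, 0, 2, 1, 3, 4, 5, 6, 7, 6, 5, 4,
  3, 2, 1, 3, 4, 5, 6, 0, 2, 3, 4, 5, 1, 3, 4, 2, 3, 0, 2, 1, 3, 4, 5, 6, 7, 6, 5, 4, 3, 2, 1,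
  3, 4, 5, 6, 0, 2, 3, 4, 5, 1, 3, 4, 2, 3, 0, 2, 1, 3, 4, 5, 6, 2, 3, 4, 5, 1, 3, 4, 2, 3, 0,
  2, 1, 3, 4, 5, 1, 3, 4, 2, 3, 0, 2, 1, 3, 4, 2, 3, 0, 2, 1, 3, 0, 2, 0]), ([1, 6, 7], [1, 6,
  7, 6], []), ([2, 3, 4], [2, 3, 2, 4, 3, 2], []), ([2, 3, 5], [2, 3, 2, 5], []), ([2, 3, 6],
  [2, 3, 2, 6], []), ([2, 3, 7], [2, 3, 2, 7], []), ([2, 4, 5], [2, 4, 5, 4], []), ([2, 4, 6],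
  [2, 4, 6], [7, 6, 5, 4, 3, 2, 1, 3, 4, 5, 6, 0, 2, 3, 4, 5, 1, 3, 4, 2, 3, 0, 2, 1, 3, 4, 5,
  6, 7, 6, 5, 4, 3, 2, 1, 3, 4, 5, 6, 0, 2, 3, 4, 5, 1, 3, 4, 2, 3, 0, 2, 1, 3, 4, 5, 6, 7, 5,
  4, 3, 2, 1, 3, 4, 5, 6, 0, 2, 3, 4, 5, 1, 3, 4, 2, 3, 0, 2, 1, 3, 4, 5, 6, 0, 2, 3, 4, 5, 1,
  3, 4, 2, 3, 0, 2, 1, 3, 4, 5, 3, 4, 2, 3, 0, 2, 1, 3, 4, 2, 3, 0, 2, 1, 3, 2, 1, 0]), ([2, 4,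
  7], [2, 4, 7], [6, 5, 4, 3, 2, 1, 3, 4, 5, 6, 0, 2, 3, 4, 5, 1, 3, 4, 2, 3, 0, 2, 1, 3, 4, 5,
  6, 7, 6, 5, 4, 3, 2, 1, 3, 4, 5, 6, 0, 2, 3, 4, 5, 1, 3, 4, 2, 3, 0, 2, 1, 3, 4, 5, 6, 7, 6,
  5, 4, 3, 2, 1, 3, 4, 5, 6, 0, 2, 3, 4, 5, 1, 3, 4, 2, 3, 0, 2, 1, 3, 4, 5, 6, 0, 2, 3, 4, 5,
  1, 3, 4, 2, 3, 0, 2, 1, 3, 4, 5, 3, 4, 2, 3, 0, 2, 1, 3, 4, 2, 3, 0, 2, 1, 3, 2, 1, 0]), ([2,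
  5, 6], [2, 5, 6, 5], []), ([2, 5, 7], [2, 5, 7], [6, 5, 4, 3, 2, 1, 3, 4, 5, 6, 0, 2, 3, 4, 5,
  1, 3, 4, 2, 3, 0, 2, 1, 3, 4, 5, 6, 7, 6, 5, 4, 3, 2, 1, 3, 4, 5, 6, 0, 2, 3, 4, 5, 1, 3, 4,
  2, 3, 0, 2, 1, 3, 4, 5, 6, 7, 6, 5, 4, 3, 2, 1, 3, 4, 5, 6, 0, 2, 3, 4, 5, 1, 3, 4, 2, 3, 0,
  2, 1, 3, 4, 5, 6, 2, 3, 4, 5, 1, 3, 4, 2, 3, 0, 2, 1, 3, 4, 5, 1, 3, 4, 2, 3, 0, 2, 1, 3, 4,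
  2, 3, 0, 2, 1, 3, 2, 1, 0]), ([2, 6, 7], [2, 6, 7, 6], []), ([3, 4, 5], [3, 4, 3, 5, 4, 3],
  []), ([3, 4, 6], [3, 4, 3, 6], []), ([3, 4, 7], [3, 4, 3, 7], []), ([3, 5, 6], [3, 5, 6, 5],
  []), ([3, 5, 7], [3, 5, 7], [6, 5, 4, 3, 2, 1, 3, 4, 5, 6, 0, 2, 3, 4, 5, 1, 3, 4, 2, 3, 0, 2,
  1, 3, 4, 5, 6, 7, 6, 5, 4, 3, 2, 1, 3, 4, 5, 6, 0, 2, 3, 4, 5, 1, 3, 4, 2, 3, 0, 2, 1, 3, 4,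
  5, 6, 7, 6, 5, 4, 3, 2, 1, 3, 4, 5, 6, 0, 2, 3, 4, 5, 1, 3, 4, 2, 3, 0, 2, 1, 3, 4, 5, 6, 2,
  3, 4, 5, 1, 3, 4, 2, 3, 0, 2, 1, 3, 4, 5, 1, 3, 4, 2, 3, 0, 2, 1, 3, 4, 3, 0, 2, 1, 3, 0, 2,
  1, 0]), ([3, 6, 7], [3, 6, 7, 6], []), ([4, 5, 6], [4, 5, 4, 6, 5, 4], []), ([4, 5, 7], [4, 5,
  4, 7], []), ([4, 6, 7], [4, 6, 7, 6], []), ([5, 6, 7], [5, 6, 5, 7, 6, 5], []), ([0, 1, 2, 3],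
  [0, 1, 2, 0, 3, 1, 2, 0, 3, 2], []), ([0, 1, 2, 4], [0, 1, 2, 0, 4], []), ([0, 1, 2, 5], [0,
  1, 2, 0, 5], []), ([0, 1, 2, 6], [0, 1, 2, 0, 6], []), ([0, 1, 2, 7], [0, 1, 2, 0, 7], []),
  ([0, 1, 3, 4], [0, 1, 3, 1, 4, 3, 1], []), ([0, 1, 3, 5], [0, 1, 3, 1, 5], []), ([0, 1, 3, 6],
  [0, 1, 3, 1, 6], []), ([0, 1, 3, 7], [0, 1, 3, 1, 7], []), ([0, 1, 4, 5], [0, 1, 4, 5, 4],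
  []), ([0, 1, 4, 6], [0, 1, 4, 6], [7, 6, 5, 4, 3, 2, 1, 3, 4, 5, 6, 0, 2, 3, 4, 5, 1, 3, 4, 2,
  3, 0, 2, 1, 3, 4, 5, 6, 7, 6, 5, 4, 3, 2, 1, 3, 4, 5, 6, 0, 2, 3, 4, 5, 1, 3, 4, 2, 3, 0, 2,
  1, 3, 4, 5, 6, 7, 5, 4, 3, 2, 1, 3, 4, 5, 6, 0, 2, 3, 4, 5, 1, 3, 4, 2, 3, 0, 2, 1, 3, 4, 5,
  6, 0, 2, 3, 4, 5, 1, 3, 4, 2, 3, 0, 2, 1, 3, 4, 5, 3, 4, 2, 3, 0, 2, 1, 3, 4, 2, 3, 0, 2, 1,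
  3, 0, 2]), ([0, 1, 4, 7], [0, 1, 4, 7], [6, 5, 4, 3, 2, 1, 3, 4, 5, 6, 0, 2, 3, 4, 5, 1, 3, 4,
  2, 3, 0, 2, 1, 3, 4, 5, 6, 7, 6, 5, 4, 3, 2, 1, 3, 4, 5, 6, 0, 2, 3, 4, 5, 1, 3, 4, 2, 3, 0,
  2, 1, 3, 4, 5, 6, 7, 6, 5, 4, 3, 2, 1, 3, 4, 5, 6, 0, 2, 3, 4, 5, 1, 3, 4, 2, 3, 0, 2, 1, 3,
  4, 5, 6, 0, 2, 3, 4, 5, 1, 3, 4, 2, 3, 0, 2, 1, 3, 4, 5, 3, 4, 2, 3, 0, 2, 1, 3, 4, 2, 3, 0,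
  2, 1, 3, 0, 2]), ([0, 1, 5, 6], [0, 1, 5, 6, 5], []), ([0, 1, 5, 7], [0, 1, 5, 7], [6, 5, 4,
  3, 2, 1, 3, 4, 5, 6, 0, 2, 3, 4, 5, 1, 3, 4, 2, 3, 0, 2, 1, 3, 4, 5, 6, 7, 6, 5, 4, 3, 2, 1,
  3, 4, 5, 6, 0, 2, 3, 4, 5, 1, 3, 4, 2, 3, 0, 2, 1, 3, 4, 5, 6, 7, 6, 5, 4, 3, 2, 1, 3, 4, 5,
  6, 0, 2, 3, 4, 5, 1, 3, 4, 2, 3, 0, 2, 1, 3, 4, 5, 6, 2, 3, 4, 5, 1, 3, 4, 2, 3, 0, 2, 1, 3,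
  4, 5, 1, 3, 4, 2, 3, 0, 2, 1, 3, 4, 2, 3, 0, 2, 1, 3, 0, 2]), ([0, 1, 6, 7], [0, 1, 6, 7, 6],
  []), ([0, 2, 3, 4], [0, 2, 0, 3, 2, 0, 4, 3, 2, 0], []), ([0, 2, 3, 5], [0, 2, 0, 3, 2, 0, 5],
  []), ([0, 2, 3, 6], [0, 2, 0, 3, 2, 0, 6], []), ([0, 2, 3, 7], [0, 2, 0, 3, 2, 0, 7], []),
  ([0, 2, 4, 5], [0, 2, 0, 4, 5, 4], []), ([0, 2, 4, 6], [0, 2, 0, 4, 6], []), ([0, 2, 4, 7],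
  [0, 2, 0, 4, 7], []), ([0, 2, 5, 6], [0, 2, 0, 5, 6, 5], []), ([0, 2, 5, 7], [0, 2, 0, 5, 7],
  []), ([0, 2, 6, 7], [0, 2, 0, 6, 7, 6], []), ([0, 3, 4, 5], [0, 3, 4, 3, 5, 4, 3], []), ([0,
  3, 4, 6], [0, 3, 4, 3, 6], []), ([0, 3, 4, 7], [0, 3, 4, 3, 7], []), ([0, 3, 5, 6], [0, 3, 5,
  6, 5], []), ([0, 3, 5, 7], [0, 3, 5, 7], [6, 5, 4, 3, 2, 1, 3, 4, 5, 6, 0, 2, 3, 4, 5, 1, 3,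
  4, 2, 3, 0, 2, 1, 3, 4, 5, 6, 7, 6, 5, 4, 3, 2, 1, 3, 4, 5, 6, 0, 2, 3, 4, 5, 1, 3, 4, 2, 3,
  0, 2, 1, 3, 4, 5, 6, 7, 6, 5, 4, 3, 2, 1, 3, 4, 5, 6, 0, 2, 3, 4, 5, 1, 3, 4, 2, 3, 0, 2, 1,
  3, 4, 5, 6, 2, 3, 4, 5, 1, 3, 4, 2, 3, 0, 2, 1, 3, 4, 5, 1, 3, 4, 2, 3, 0, 2, 1, 3, 4, 3, 0,
  2, 1, 3, 0, 2, 1]), ([0, 3, 6, 7], [0, 3, 6, 7, 6], []), ([0, 4, 5, 6], [0, 4, 5, 4, 6, 5, 4],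
  []), ([0, 4, 5, 7], [0, 4, 5, 4, 7], []), ([0, 4, 6, 7], [0, 4, 6, 7, 6], []), ([0, 5, 6, 7],
  [0, 5, 6, 5, 7, 6, 5], []), ([1, 2, 3, 4], [1, 2, 3, 1, 2, 3, 4, 3, 1, 2, 3, 4], [7, 6, 5, 4,
  3, 2, 1, 3, 4, 5, 6, 0, 2, 3, 4, 5, 1, 3, 4, 2, 3, 0, 2, 1, 3, 4, 5, 6, 7, 6, 5, 4, 3, 2, 1,
  3, 4, 5, 6, 0, 2, 3, 4, 5, 1, 3, 4, 2, 3, 0, 2, 1, 3, 4, 5, 6, 7, 6, 5, 4, 3, 2, 1, 3, 4, 5,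
  6, 0, 2, 3, 4, 5, 1, 3, 4, 2, 3, 0, 2, 1, 3, 4, 5, 6, 0, 2, 3, 4, 5, 1, 3, 4, 2, 3, 0, 2, 1,
  3, 4, 5, 0, 2, 3, 4, 1, 3, 2, 0]), ([1, 2, 3, 5], [1, 2, 3, 1, 2, 3, 5], []), ([1, 2, 3, 6],
  [1, 2, 3, 1, 2, 3, 6], []), ([1, 2, 3, 7], [1, 2, 3, 1, 2, 3, 7], []), ([1, 2, 4, 5], [1, 2,
  4, 5, 4], []), ([1, 2, 4, 6], [1, 2, 4, 6], [7, 6, 5, 4, 3, 2, 1, 3, 4, 5, 6, 0, 2, 3, 4, 5,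
  1, 3, 4, 2, 3, 0, 2, 1, 3, 4, 5, 6, 7, 6, 5, 4, 3, 2, 1, 3, 4, 5, 6, 0, 2, 3, 4, 5, 1, 3, 4,
  2, 3, 0, 2, 1, 3, 4, 5, 6, 7, 5, 4, 3, 2, 1, 3, 4, 5, 6, 0, 2, 3, 4, 5, 1, 3, 4, 2, 3, 0, 2,
  1, 3, 4, 5, 6, 0, 2, 3, 4, 5, 1, 3, 4, 2, 3, 0, 2, 1, 3, 4, 5, 3, 4, 2, 3, 0, 2, 1, 3, 4, 2,
  3, 0, 2, 1, 3, 2, 0]), ([1, 2, 4, 7], [1, 2, 4, 7], [6, 5, 4, 3, 2, 1, 3, 4, 5, 6, 0, 2, 3, 4,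
  5, 1, 3, 4, 2, 3, 0, 2, 1, 3, 4, 5, 6, 7, 6, 5, 4, 3, 2, 1, 3, 4, 5, 6, 0, 2, 3, 4, 5, 1, 3,
  4, 2, 3, 0, 2, 1, 3, 4, 5, 6, 7, 6, 5, 4, 3, 2, 1, 3, 4, 5, 6, 0, 2, 3, 4, 5, 1, 3, 4, 2, 3,
  0, 2, 1, 3, 4, 5, 6, 0, 2, 3, 4, 5, 1, 3, 4, 2, 3, 0, 2, 1, 3, 4, 5, 3, 4, 2, 3, 0, 2, 1, 3,
  4, 2, 3, 0, 2, 1, 3, 2, 0]), ([1, 2, 5, 6], [1, 2, 5, 6, 5], []), ([1, 2, 5, 7], [1, 2, 5, 7],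
  [6, 5, 4, 3, 2, 1, 3, 4, 5, 6, 0, 2, 3, 4, 5, 1, 3, 4, 2, 3, 0, 2, 1, 3, 4, 5, 6, 7, 6, 5, 4,
  3, 2, 1, 3, 4, 5, 6, 0, 2, 3, 4, 5, 1, 3, 4, 2, 3, 0, 2, 1, 3, 4, 5, 6, 7, 6, 5, 4, 3, 2, 1,
  3, 4, 5, 6, 0, 2, 3, 4, 5, 1, 3, 4, 2, 3, 0, 2, 1, 3, 4, 5, 6, 2, 3, 4, 5, 1, 3, 4, 2, 3, 0,
  2, 1, 3, 4, 5, 1, 3, 4, 2, 3, 0, 2, 1, 3, 4, 2, 3, 0, 2, 1, 3, 2, 0]), ([1, 2, 6, 7], [1, 2,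
  6, 7, 6], []), ([1, 3, 4, 5], [1, 3, 1, 4, 3, 1, 5, 4, 3, 1], []), ([1, 3, 4, 6], [1, 3, 1, 4,
  3, 1, 6], []), ([1, 3, 4, 7], [1, 3, 1, 4, 3, 1, 7], []), ([1, 3, 5, 6], [1, 3, 1, 5, 6, 5],
  []), ([1, 3, 5, 7], [1, 3, 1, 5, 7], []), ([1, 3, 6, 7], [1, 3, 1, 6, 7, 6], []), ([1, 4, 5,
  6], [1, 4, 5, 4, 6, 5, 4], []), ([1, 4, 5, 7], [1, 4, 5, 4, 7], []), ([1, 4, 6, 7], [1, 4, 6,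
  7, 6], []), ([1, 5, 6, 7], [1, 5, 6, 5, 7, 6, 5], []), ([2, 3, 4, 5], [2, 3, 2, 4, 3, 2, 5, 4,
  3, 2], []), ([2, 3, 4, 6], [2, 3, 2, 4, 3, 2, 6], []), ([2, 3, 4, 7], [2, 3, 2, 4, 3, 2, 7],
  []), ([2, 3, 5, 6], [2, 3, 2, 5, 6, 5], []), ([2, 3, 5, 7], [2, 3, 2, 5, 7], []), ([2, 3, 6,
  7], [2, 3, 2, 6, 7, 6], []), ([2, 4, 5, 6], [2, 4, 5, 4, 6, 5, 4], []), ([2, 4, 5, 7], [2, 4,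
  5, 4, 7], []), ([2, 4, 6, 7], [2, 4, 6, 7, 6], []), ([2, 5, 6, 7], [2, 5, 6, 5, 7, 6, 5], []),
  ([3, 4, 5, 6], [3, 4, 3, 5, 4, 3, 6, 5, 4, 3], []), ([3, 4, 5, 7], [3, 4, 3, 5, 4, 3, 7], []),
  ([3, 4, 6, 7], [3, 4, 3, 6, 7, 6], []), ([3, 5, 6, 7], [3, 5, 6, 5, 7, 6, 5], []), ([4, 5, 6,
  7], [4, 5, 4, 6, 5, 4, 7, 6, 5, 4], []), ([0, 1, 2, 3, 4], [0, 1, 2, 0, 3, 1, 2, 0, 3, 2, 4,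
  3, 1, 2, 0, 3, 2, 4, 3, 1], []), ([0, 1, 2, 3, 5], [0, 1, 2, 0, 3, 1, 2, 0, 3, 2, 5], []),
  ([0, 1, 2, 3, 6], [0, 1, 2, 0, 3, 1, 2, 0, 3, 2, 6], []), ([0, 1, 2, 3, 7], [0, 1, 2, 0, 3, 1,
  2, 0, 3, 2, 7], []), ([0, 1, 2, 4, 5], [0, 1, 2, 0, 4, 5, 4], []), ([0, 1, 2, 4, 6], [0, 1, 2,
  0, 4, 6], []), ([0, 1, 2, 4, 7], [0, 1, 2, 0, 4, 7], []), ([0, 1, 2, 5, 6], [0, 1, 2, 0, 5, 6,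
  5], []), ([0, 1, 2, 5, 7], [0, 1, 2, 0, 5, 7], []), ([0, 1, 2, 6, 7], [0, 1, 2, 0, 6, 7, 6],
  []), ([0, 1, 3, 4, 5], [0, 1, 3, 1, 4, 3, 1, 5, 4, 3, 1], []), ([0, 1, 3, 4, 6], [0, 1, 3, 1,
  4, 3, 1, 6], []), ([0, 1, 3, 4, 7], [0, 1, 3, 1, 4, 3, 1, 7], []), ([0, 1, 3, 5, 6], [0, 1, 3,
  1, 5, 6, 5], []), ([0, 1, 3, 5, 7], [0, 1, 3, 1, 5, 7], []), ([0, 1, 3, 6, 7], [0, 1, 3, 1, 6,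
  7, 6], []), ([0, 1, 4, 5, 6], [0, 1, 4, 5, 4, 6, 5, 4], []), ([0, 1, 4, 5, 7], [0, 1, 4, 5, 4,
  7], []), ([0, 1, 4, 6, 7], [0, 1, 4, 6, 7, 6], []), ([0, 1, 5, 6, 7], [0, 1, 5, 6, 5, 7, 6,
  5], []), ([0, 2, 3, 4, 5], [0, 2, 0, 3, 2, 0, 4, 3, 2, 0, 5, 4, 3, 2, 0], []), ([0, 2, 3, 4,
  6], [0, 2, 0, 3, 2, 0, 4, 3, 2, 0, 6], []), ([0, 2, 3, 4, 7], [0, 2, 0, 3, 2, 0, 4, 3, 2, 0,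
  7], []), ([0, 2, 3, 5, 6], [0, 2, 0, 3, 2, 0, 5, 6, 5], []), ([0, 2, 3, 5, 7], [0, 2, 0, 3, 2,
  0, 5, 7], []), ([0, 2, 3, 6, 7], [0, 2, 0, 3, 2, 0, 6, 7, 6], []), ([0, 2, 4, 5, 6], [0, 2, 0,
  4, 5, 4, 6, 5, 4], []), ([0, 2, 4, 5, 7], [0, 2, 0, 4, 5, 4, 7], []), ([0, 2, 4, 6, 7], [0, 2,
  0, 4, 6, 7, 6], []), ([0, 2, 5, 6, 7], [0, 2, 0, 5, 6, 5, 7, 6, 5], []), ([0, 3, 4, 5, 6], [0,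
  3, 4, 3, 5, 4, 3, 6, 5, 4, 3], []), ([0, 3, 4, 5, 7], [0, 3, 4, 3, 5, 4, 3, 7], []), ([0, 3,
  4, 6, 7], [0, 3, 4, 3, 6, 7, 6], []), ([0, 3, 5, 6, 7], [0, 3, 5, 6, 5, 7, 6, 5], []), ([0, 4,
  5, 6, 7], [0, 4, 5, 4, 6, 5, 4, 7, 6, 5, 4], []), ([1, 2, 3, 4, 5], [1, 2, 3, 1, 2, 3, 4, 3,
  1, 2, 3, 4, 5, 4, 3, 1, 2, 3, 4, 5], []), ([1, 2, 3, 4, 6], [1, 2, 3, 1, 2, 3, 4, 3, 1, 2, 3,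
  4, 6], [7, 6, 5, 4, 3, 2, 1, 3, 4, 5, 6, 0, 2, 3, 4, 5, 1, 3, 4, 2, 3, 0, 2, 1, 3, 4, 5, 6, 7,
  6, 5, 4, 3, 2, 1, 3, 4, 5, 6, 0, 2, 3, 4, 5, 1, 3, 4, 2, 3, 0, 2, 1, 3, 4, 5, 6, 7, 5, 4, 3,
  2, 1, 3, 4, 5, 6, 0, 2, 3, 4, 5, 1, 3, 4, 2, 3, 0, 2, 1, 3, 4, 5, 6, 0, 2, 3, 4, 5, 1, 3, 4,
  2, 3, 0, 2, 1, 3, 4, 5, 0, 2, 3, 4, 1, 3, 2, 0]), ([1, 2, 3, 4, 7], [1, 2, 3, 1, 2, 3, 4, 3,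
  1, 2, 3, 4, 7], [6, 5, 4, 3, 2, 1, 3, 4, 5, 6, 0, 2, 3, 4, 5, 1, 3, 4, 2, 3, 0, 2, 1, 3, 4, 5,
  6, 7, 6, 5, 4, 3, 2, 1, 3, 4, 5, 6, 0, 2, 3, 4, 5, 1, 3, 4, 2, 3, 0, 2, 1, 3, 4, 5, 6, 7, 6,
  5, 4, 3, 2, 1, 3, 4, 5, 6, 0, 2, 3, 4, 5, 1, 3, 4, 2, 3, 0, 2, 1, 3, 4, 5, 6, 0, 2, 3, 4, 5,
  1, 3, 4, 2, 3, 0, 2, 1, 3, 4, 5, 0, 2, 3, 4, 1, 3, 2, 0]), ([1, 2, 3, 5, 6], [1, 2, 3, 1, 2,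
  3, 5, 6, 5], []), ([1, 2, 3, 5, 7], [1, 2, 3, 1, 2, 3, 5, 7], []), ([1, 2, 3, 6, 7], [1, 2, 3,
  1, 2, 3, 6, 7, 6], []), ([1, 2, 4, 5, 6], [1, 2, 4, 5, 4, 6, 5, 4], []), ([1, 2, 4, 5, 7], [1,
  2, 4, 5, 4, 7], []), ([1, 2, 4, 6, 7], [1, 2, 4, 6, 7, 6], []), ([1, 2, 5, 6, 7], [1, 2, 5, 6,
  5, 7, 6, 5], []), ([1, 3, 4, 5, 6], [1, 3, 1, 4, 3, 1, 5, 4, 3, 1, 6, 5, 4, 3, 1], []), ([1,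
  3, 4, 5, 7], [1, 3, 1, 4, 3, 1, 5, 4, 3, 1, 7], []), ([1, 3, 4, 6, 7], [1, 3, 1, 4, 3, 1, 6,
  7, 6], []), ([1, 3, 5, 6, 7], [1, 3, 1, 5, 6, 5, 7, 6, 5], []), ([1, 4, 5, 6, 7], [1, 4, 5, 4,
  6, 5, 4, 7, 6, 5, 4], []), ([2, 3, 4, 5, 6], [2, 3, 2, 4, 3, 2, 5, 4, 3, 2, 6, 5, 4, 3, 2],
  []), ([2, 3, 4, 5, 7], [2, 3, 2, 4, 3, 2, 5, 4, 3, 2, 7], []), ([2, 3, 4, 6, 7], [2, 3, 2, 4,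
  3, 2, 6, 7, 6], []), ([2, 3, 5, 6, 7], [2, 3, 2, 5, 6, 5, 7, 6, 5], []), ([2, 4, 5, 6, 7], [2,
  4, 5, 4, 6, 5, 4, 7, 6, 5, 4], []), ([3, 4, 5, 6, 7], [3, 4, 3, 5, 4, 3, 6, 5, 4, 3, 7, 6, 5,
  4, 3], []), ([0, 1, 2, 3, 4, 5], [0, 1, 2, 0, 3, 1, 2, 0, 3, 2, 4, 3, 1, 2, 0, 3, 2, 4, 3, 1,
  5, 4, 3, 1, 2, 0, 3, 2, 4, 3, 1, 5, 4, 3, 2, 0], []), ([0, 1, 2, 3, 4, 6], [0, 1, 2, 0, 3, 1,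
  2, 0, 3, 2, 4, 3, 1, 2, 0, 3, 2, 4, 3, 1, 6], []), ([0, 1, 2, 3, 4, 7], [0, 1, 2, 0, 3, 1, 2,
  0, 3, 2, 4, 3, 1, 2, 0, 3, 2, 4, 3, 1, 7], []), ([0, 1, 2, 3, 5, 6], [0, 1, 2, 0, 3, 1, 2, 0,
  3, 2, 5, 6, 5], []), ([0, 1, 2, 3, 5, 7], [0, 1, 2, 0, 3, 1, 2, 0, 3, 2, 5, 7], []), ([0, 1,
  2, 3, 6, 7], [0, 1, 2, 0, 3, 1, 2, 0, 3, 2, 6, 7, 6], []), ([0, 1, 2, 4, 5, 6], [0, 1, 2, 0,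
  4, 5, 4, 6, 5, 4], []), ([0, 1, 2, 4, 5, 7], [0, 1, 2, 0, 4, 5, 4, 7], []), ([0, 1, 2, 4, 6,
  7], [0, 1, 2, 0, 4, 6, 7, 6], []), ([0, 1, 2, 5, 6, 7], [0, 1, 2, 0, 5, 6, 5, 7, 6, 5], []),
  ([0, 1, 3, 4, 5, 6], [0, 1, 3, 1, 4, 3, 1, 5, 4, 3, 1, 6, 5, 4, 3, 1], []), ([0, 1, 3, 4, 5,
  7], [0, 1, 3, 1, 4, 3, 1, 5, 4, 3, 1, 7], []), ([0, 1, 3, 4, 6, 7], [0, 1, 3, 1, 4, 3, 1, 6,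
  7, 6], []), ([0, 1, 3, 5, 6, 7], [0, 1, 3, 1, 5, 6, 5, 7, 6, 5], []), ([0, 1, 4, 5, 6, 7], [0,
  1, 4, 5, 4, 6, 5, 4, 7, 6, 5, 4], []), ([0, 2, 3, 4, 5, 6], [0, 2, 0, 3, 2, 0, 4, 3, 2, 0, 5,
  4, 3, 2, 0, 6, 5, 4, 3, 2, 0], []), ([0, 2, 3, 4, 5, 7], [0, 2, 0, 3, 2, 0, 4, 3, 2, 0, 5, 4,
  3, 2, 0, 7], []), ([0, 2, 3, 4, 6, 7], [0, 2, 0, 3, 2, 0, 4, 3, 2, 0, 6, 7, 6], []), ([0, 2,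
  3, 5, 6, 7], [0, 2, 0, 3, 2, 0, 5, 6, 5, 7, 6, 5], []), ([0, 2, 4, 5, 6, 7], [0, 2, 0, 4, 5,
  4, 6, 5, 4, 7, 6, 5, 4], []), ([0, 3, 4, 5, 6, 7], [0, 3, 4, 3, 5, 4, 3, 6, 5, 4, 3, 7, 6, 5,
  4, 3], []), ([1, 2, 3, 4, 5, 6], [1, 2, 3, 1, 2, 3, 4, 3, 1, 2, 3, 4, 5, 4, 3, 1, 2, 3, 4, 5,
  6, 5, 4, 3, 1, 2, 3, 4, 5, 6], [7, 6, 5, 4, 3, 2, 1, 3, 4, 5, 6, 0, 2, 3, 4, 5, 1, 3, 4, 2, 3,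
  0, 2, 1, 3, 4, 5, 6, 7, 6, 5, 4, 3, 2, 1, 3, 4, 5, 6, 0, 2, 3, 4, 5, 1, 3, 4, 2, 3, 0, 2, 1,
  3, 4, 5, 6, 7, 0, 2, 3, 4, 5, 1, 3, 4, 2, 3, 0, 2, 1, 3, 4, 5, 6, 5, 4, 3, 2, 1, 3, 4, 5, 0,
  2, 3, 4, 1, 3, 2, 0]), ([1, 2, 3, 4, 5, 7], [1, 2, 3, 1, 2, 3, 4, 3, 1, 2, 3, 4, 5, 4, 3, 1,
  2, 3, 4, 5, 7], []), ([1, 2, 3, 4, 6, 7], [1, 2, 3, 1, 2, 3, 4, 3, 1, 2, 3, 4, 6, 7, 6], []),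
  ([1, 2, 3, 5, 6, 7], [1, 2, 3, 1, 2, 3, 5, 6, 5, 7, 6, 5], []), ([1, 2, 4, 5, 6, 7], [1, 2, 4,
  5, 4, 6, 5, 4, 7, 6, 5, 4], []), ([1, 3, 4, 5, 6, 7], [1, 3, 1, 4, 3, 1, 5, 4, 3, 1, 6, 5, 4,
  3, 1, 7, 6, 5, 4, 3, 1], []), ([2, 3, 4, 5, 6, 7], [2, 3, 2, 4, 3, 2, 5, 4, 3, 2, 6, 5, 4, 3,
  2, 7, 6, 5, 4, 3, 2], []), ([0, 1, 2, 3, 4, 5, 6], [0, 1, 2, 0, 3, 1, 2, 0, 3, 2, 4, 3, 1, 2,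
  0, 3, 2, 4, 3, 1, 5, 4, 3, 1, 2, 0, 3, 2, 4, 3, 1, 5, 4, 3, 2, 0, 6, 5, 4, 3, 1, 2, 0, 3, 2,
  4, 3, 1, 5, 4, 3, 2, 0, 6, 5, 4, 3, 1, 2, 3, 4, 5, 6], [7, 6, 5, 4, 3, 2, 1, 3, 4, 5, 6, 0, 2,
  3, 4, 5, 1, 3, 4, 2, 3, 0, 2, 1, 3, 4, 5, 6, 7, 6, 5, 4, 3, 2, 1, 3, 4, 5, 6, 0, 2, 3, 4, 5,
  1, 3, 4, 2, 3, 0, 2, 1, 3, 4, 5, 6, 7]), ([0, 1, 2, 3, 4, 5, 7], [0, 1, 2, 0, 3, 1, 2, 0, 3,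
  2, 4, 3, 1, 2, 0, 3, 2, 4, 3, 1, 5, 4, 3, 1, 2, 0, 3, 2, 4, 3, 1, 5, 4, 3, 2, 0, 7], []), ([0,
  1, 2, 3, 4, 6, 7], [0, 1, 2, 0, 3, 1, 2, 0, 3, 2, 4, 3, 1, 2, 0, 3, 2, 4, 3, 1, 6, 7, 6], []),
  ([0, 1, 2, 3, 5, 6, 7], [0, 1, 2, 0, 3, 1, 2, 0, 3, 2, 5, 6, 5, 7, 6, 5], []), ([0, 1, 2, 4,
  5, 6, 7], [0, 1, 2, 0, 4, 5, 4, 6, 5, 4, 7, 6, 5, 4], []), ([0, 1, 3, 4, 5, 6, 7], [0, 1, 3,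
  1, 4, 3, 1, 5, 4, 3, 1, 6, 5, 4, 3, 1, 7, 6, 5, 4, 3, 1], []), ([0, 2, 3, 4, 5, 6, 7], [0, 2,
  0, 3, 2, 0, 4, 3, 2, 0, 5, 4, 3, 2, 0, 6, 5, 4, 3, 2, 0, 7, 6, 5, 4, 3, 2, 0], []), ([1, 2, 3,
  4, 5, 6, 7], [1, 2, 3, 1, 2, 3, 4, 3, 1, 2, 3, 4, 5, 4, 3, 1, 2, 3, 4, 5, 6, 5, 4, 3, 1, 2, 3,
  4, 5, 6, 7, 6, 5, 4, 3, 1, 2, 3, 4, 5, 6, 7], []), ([0, 1, 2, 3, 4, 5, 6, 7], [0, 1, 2, 0, 3,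
  1, 2, 0, 3, 2, 4, 3, 1, 2, 0, 3, 2, 4, 3, 1, 5, 4, 3, 1, 2, 0, 3, 2, 4, 3, 1, 5, 4, 3, 2, 0,
  6, 5, 4, 3, 1, 2, 0, 3, 2, 4, 3, 1, 5, 4, 3, 2, 0, 6, 5, 4, 3, 1, 2, 3, 4, 5, 6, 7, 6, 5, 4,
  3, 1, 2, 0, 3, 2, 4, 3, 1, 5, 4, 3, 2, 0, 6, 5, 4, 3, 1, 2, 3, 4, 5, 6, 7, 6, 5, 4, 3, 1, 2,
  0, 3, 2, 4, 3, 1, 5, 4, 3, 2, 0, 6, 5, 4, 3, 1, 2, 3, 4, 5, 6, 7], [])]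

/-- the involutive local maxima (reduced words; the last one is the identity) -/
def lmE8 : List (List ℕ) :=
  [[7, 6, 5, 4, 3, 2, 1, 3, 4, 5, 6, 0, 2, 3, 4, 5, 1, 3, 4, 2, 3, 0, 2, 1, 3, 4, 5, 6, 7, 6, 5,
  4, 3, 2, 1, 3, 4, 5, 6, 0, 2, 3, 4, 5, 1, 3, 4, 2, 3, 0, 2, 1, 3, 4, 5, 6, 7, 6, 5, 4, 3, 2,
  1, 3, 4, 5, 6, 0, 2, 3, 4, 5, 1, 3, 4, 2, 3, 0, 2, 1, 3, 4, 5, 6, 0, 2, 3, 4, 5, 1, 3, 4, 2,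
  3, 0, 2, 1, 3, 4, 5, 1, 3, 4, 2, 3, 0, 2, 1, 3, 4, 2, 3, 0, 2, 1, 3, 0, 2, 1, 0], [7, 6, 5, 4,
  3, 2, 1, 3, 4, 5, 6, 0, 2, 3, 4, 5, 1, 3, 4, 2, 3, 0, 2, 1, 3, 4, 5, 6, 7, 6, 5, 4, 3, 2, 1,
  3, 4, 5, 6, 0, 2, 3, 4, 5, 1, 3, 4, 2, 3, 0, 2, 1, 3, 4, 5, 6, 7, 6, 5, 4, 3, 2, 1, 3, 4, 5,
  6, 0, 2, 3, 4, 5, 1, 3, 4, 2, 3, 0, 2, 1, 3, 4, 5, 6, 0, 2, 3, 4, 5, 1, 3, 4, 2, 3, 0, 2, 1,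
  3, 4, 5, 1, 3, 4, 2, 3, 0, 2, 1, 3, 4, 2, 3, 0, 2, 1, 3, 0, 2, 1], [7, 6, 5, 4, 3, 2, 1, 3, 4,
  5, 6, 0, 2, 3, 4, 5, 1, 3, 4, 2, 3, 0, 2, 1, 3, 4, 5, 6, 7, 6, 5, 4, 3, 2, 1, 3, 4, 5, 6, 0,
  2, 3, 4, 5, 1, 3, 4, 2, 3, 0, 2, 1, 3, 4, 5, 6, 7, 6, 5, 4, 3, 2, 1, 3, 4, 5, 6, 0, 2, 3, 4,
  5, 1, 3, 4, 2, 3, 0, 2, 1, 3, 4, 5, 6, 0, 2, 3, 4, 5, 1, 3, 4, 2, 3, 0, 2, 1, 3, 4, 5, 1, 3,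
  4, 2, 3, 0, 2, 1, 3, 4, 2, 3, 0, 2, 1, 3, 0, 2, 0], [7, 6, 5, 4, 3, 2, 1, 3, 4, 5, 6, 0, 2, 3,
  4, 5, 1, 3, 4, 2, 3, 0, 2, 1, 3, 4, 5, 6, 7, 6, 5, 4, 3, 2, 1, 3, 4, 5, 6, 0, 2, 3, 4, 5, 1,
  3, 4, 2, 3, 0, 2, 1, 3, 4, 5, 6, 7, 6, 5, 4, 3, 2, 1, 3, 4, 5, 6, 0, 2, 3, 4, 5, 1, 3, 4, 2,
  3, 0, 2, 1, 3, 4, 5, 6, 0, 2, 3, 4, 5, 1, 3, 4, 2, 3, 0, 2, 1, 3, 4, 5, 1, 3, 4, 2, 3, 0, 2,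
  1, 3, 4, 2, 3, 0, 2, 1, 3, 2, 1, 0], [7, 6, 5, 4, 3, 2, 1, 3, 4, 5, 6, 0, 2, 3, 4, 5, 1, 3, 4,
  2, 3, 0, 2, 1, 3, 4, 5, 6, 7, 6, 5, 4, 3, 2, 1, 3, 4, 5, 6, 0, 2, 3, 4, 5, 1, 3, 4, 2, 3, 0,
  2, 1, 3, 4, 5, 6, 7, 6, 5, 4, 3, 2, 1, 3, 4, 5, 6, 0, 2, 3, 4, 5, 1, 3, 4, 2, 3, 0, 2, 1, 3,
  4, 5, 6, 0, 2, 3, 4, 5, 1, 3, 4, 2, 3, 0, 2, 1, 3, 4, 5, 1, 3, 4, 2, 3, 0, 2, 1, 3, 4, 3, 0,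
  2, 1, 3, 0, 2, 1, 0], [7, 6, 5, 4, 3, 2, 1, 3, 4, 5, 6, 0, 2, 3, 4, 5, 1, 3, 4, 2, 3, 0, 2, 1,
  3, 4, 5, 6, 7, 6, 5, 4, 3, 2, 1, 3, 4, 5, 6, 0, 2, 3, 4, 5, 1, 3, 4, 2, 3, 0, 2, 1, 3, 4, 5,
  6, 7, 6, 5, 4, 3, 2, 1, 3, 4, 5, 6, 0, 2, 3, 4, 5, 1, 3, 4, 2, 3, 0, 2, 1, 3, 4, 5, 6, 0, 2,
  3, 4, 5, 1, 3, 4, 2, 3, 0, 2, 1, 3, 4, 5, 3, 4, 2, 3, 0, 2, 1, 3, 4, 2, 3, 0, 2, 1, 3, 0, 2,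
  1, 0], [7, 6, 5, 4, 3, 2, 1, 3, 4, 5, 6, 0, 2, 3, 4, 5, 1, 3, 4, 2, 3, 0, 2, 1, 3, 4, 5, 6, 7,
  6, 5, 4, 3, 2, 1, 3, 4, 5, 6, 0, 2, 3, 4, 5, 1, 3, 4, 2, 3, 0, 2, 1, 3, 4, 5, 6, 7, 6, 5, 4,
  3, 2, 1, 3, 4, 5, 6, 0, 2, 3, 4, 5, 1, 3, 4, 2, 3, 0, 2, 1, 3, 4, 5, 6, 2, 3, 4, 5, 1, 3, 4,
  2, 3, 0, 2, 1, 3, 4, 5, 1, 3, 4, 2, 3, 0, 2, 1, 3, 4, 2, 3, 0, 2, 1, 3, 0, 2, 1, 0], [7, 6, 5,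
  4, 3, 2, 1, 3, 4, 5, 6, 0, 2, 3, 4, 5, 1, 3, 4, 2, 3, 0, 2, 1, 3, 4, 5, 6, 7, 6, 5, 4, 3, 2,
  1, 3, 4, 5, 6, 0, 2, 3, 4, 5, 1, 3, 4, 2, 3, 0, 2, 1, 3, 4, 5, 6, 7, 5, 4, 3, 2, 1, 3, 4, 5,
  6, 0, 2, 3, 4, 5, 1, 3, 4, 2, 3, 0, 2, 1, 3, 4, 5, 6, 0, 2, 3, 4, 5, 1, 3, 4, 2, 3, 0, 2, 1,
  3, 4, 5, 1, 3, 4, 2, 3, 0, 2, 1, 3, 4, 2, 3, 0, 2, 1, 3, 0, 2, 1, 0], [6, 5, 4, 3, 2, 1, 3, 4,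
  5, 6, 0, 2, 3, 4, 5, 1, 3, 4, 2, 3, 0, 2, 1, 3, 4, 5, 6, 7, 6, 5, 4, 3, 2, 1, 3, 4, 5, 6, 0,
  2, 3, 4, 5, 1, 3, 4, 2, 3, 0, 2, 1, 3, 4, 5, 6, 7, 6, 5, 4, 3, 2, 1, 3, 4, 5, 6, 0, 2, 3, 4,
  5, 1, 3, 4, 2, 3, 0, 2, 1, 3, 4, 5, 6, 0, 2, 3, 4, 5, 1, 3, 4, 2, 3, 0, 2, 1, 3, 4, 5, 1, 3,
  4, 2, 3, 0, 2, 1, 3, 4, 2, 3, 0, 2, 1, 3, 0, 2, 1, 0], [7, 6, 5, 4, 3, 2, 1, 3, 4, 5, 6, 0, 2,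
  3, 4, 5, 1, 3, 4, 2, 3, 0, 2, 1, 3, 4, 5, 6, 7, 6, 5, 4, 3, 2, 1, 3, 4, 5, 6, 0, 2, 3, 4, 5,
  1, 3, 4, 2, 3, 0, 2, 1, 3, 4, 5, 6, 7, 6, 5, 4, 3, 2, 1, 3, 4, 5, 6, 0, 2, 3, 4, 5, 1, 3, 4,
  2, 3, 0, 2, 1, 3, 4, 5, 6, 0, 2, 3, 4, 5, 1, 3, 4, 2, 3, 0, 2, 1, 3, 4, 5, 1, 3, 4, 2, 3, 0,
  2, 1, 3, 4, 2, 3, 0, 2, 1, 3, 0, 2], [7, 6, 5, 4, 3, 2, 1, 3, 4, 5, 6, 0, 2, 3, 4, 5, 1, 3, 4,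
  2, 3, 0, 2, 1, 3, 4, 5, 6, 7, 6, 5, 4, 3, 2, 1, 3, 4, 5, 6, 0, 2, 3, 4, 5, 1, 3, 4, 2, 3, 0,
  2, 1, 3, 4, 5, 6, 7, 6, 5, 4, 3, 2, 1, 3, 4, 5, 6, 0, 2, 3, 4, 5, 1, 3, 4, 2, 3, 0, 2, 1, 3,
  4, 5, 6, 0, 2, 3, 4, 5, 1, 3, 4, 2, 3, 0, 2, 1, 3, 4, 5, 1, 3, 4, 2, 3, 0, 2, 1, 3, 4, 3, 0,
  2, 1, 3, 0, 2, 1], [7, 6, 5, 4, 3, 2, 1, 3, 4, 5, 6, 0, 2, 3, 4, 5, 1, 3, 4, 2, 3, 0, 2, 1, 3,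
  4, 5, 6, 7, 6, 5, 4, 3, 2, 1, 3, 4, 5, 6, 0, 2, 3, 4, 5, 1, 3, 4, 2, 3, 0, 2, 1, 3, 4, 5, 6,
  7, 6, 5, 4, 3, 2, 1, 3, 4, 5, 6, 0, 2, 3, 4, 5, 1, 3, 4, 2, 3, 0, 2, 1, 3, 4, 5, 6, 0, 2, 3,
  4, 5, 1, 3, 4, 2, 3, 0, 2, 1, 3, 4, 5, 3, 4, 2, 3, 0, 2, 1, 3, 4, 2, 3, 0, 2, 1, 3, 0, 2, 1],
  [7, 6, 5, 4, 3, 2, 1, 3, 4, 5, 6, 0, 2, 3, 4, 5, 1, 3, 4, 2, 3, 0, 2, 1, 3, 4, 5, 6, 7, 6, 5,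
  4, 3, 2, 1, 3, 4, 5, 6, 0, 2, 3, 4, 5, 1, 3, 4, 2, 3, 0, 2, 1, 3, 4, 5, 6, 7, 6, 5, 4, 3, 2,
  1, 3, 4, 5, 6, 0, 2, 3, 4, 5, 1, 3, 4, 2, 3, 0, 2, 1, 3, 4, 5, 6, 2, 3, 4, 5, 1, 3, 4, 2, 3,
  0, 2, 1, 3, 4, 5, 1, 3, 4, 2, 3, 0, 2, 1, 3, 4, 2, 3, 0, 2, 1, 3, 0, 2, 1], [7, 6, 5, 4, 3, 2,
  1, 3, 4, 5, 6, 0, 2, 3, 4, 5, 1, 3, 4, 2, 3, 0, 2, 1, 3, 4, 5, 6, 7, 6, 5, 4, 3, 2, 1, 3, 4,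
  5, 6, 0, 2, 3, 4, 5, 1, 3, 4, 2, 3, 0, 2, 1, 3, 4, 5, 6, 7, 5, 4, 3, 2, 1, 3, 4, 5, 6, 0, 2,
  3, 4, 5, 1, 3, 4, 2, 3, 0, 2, 1, 3, 4, 5, 6, 0, 2, 3, 4, 5, 1, 3, 4, 2, 3, 0, 2, 1, 3, 4, 5,
  1, 3, 4, 2, 3, 0, 2, 1, 3, 4, 2, 3, 0, 2, 1, 3, 0, 2, 1], [6, 5, 4, 3, 2, 1, 3, 4, 5, 6, 0, 2,
  3, 4, 5, 1, 3, 4, 2, 3, 0, 2, 1, 3, 4, 5, 6, 7, 6, 5, 4, 3, 2, 1, 3, 4, 5, 6, 0, 2, 3, 4, 5,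
  1, 3, 4, 2, 3, 0, 2, 1, 3, 4, 5, 6, 7, 6, 5, 4, 3, 2, 1, 3, 4, 5, 6, 0, 2, 3, 4, 5, 1, 3, 4,
  2, 3, 0, 2, 1, 3, 4, 5, 6, 0, 2, 3, 4, 5, 1, 3, 4, 2, 3, 0, 2, 1, 3, 4, 5, 1, 3, 4, 2, 3, 0,
  2, 1, 3, 4, 2, 3, 0, 2, 1, 3, 0, 2, 1], [7, 6, 5, 4, 3, 2, 1, 3, 4, 5, 6, 0, 2, 3, 4, 5, 1, 3,
  4, 2, 3, 0, 2, 1, 3, 4, 5, 6, 7, 6, 5, 4, 3, 2, 1, 3, 4, 5, 6, 0, 2, 3, 4, 5, 1, 3, 4, 2, 3,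
  0, 2, 1, 3, 4, 5, 6, 7, 6, 5, 4, 3, 2, 1, 3, 4, 5, 6, 0, 2, 3, 4, 5, 1, 3, 4, 2, 3, 0, 2, 1,
  3, 4, 5, 6, 0, 2, 3, 4, 5, 1, 3, 4, 2, 3, 0, 2, 1, 3, 4, 5, 1, 3, 4, 2, 3, 0, 2, 1, 3, 4, 2,
  3, 0, 2, 1, 3, 2, 0], [7, 6, 5, 4, 3, 2, 1, 3, 4, 5, 6, 0, 2, 3, 4, 5, 1, 3, 4, 2, 3, 0, 2, 1,
  3, 4, 5, 6, 7, 6, 5, 4, 3, 2, 1, 3, 4, 5, 6, 0, 2, 3, 4, 5, 1, 3, 4, 2, 3, 0, 2, 1, 3, 4, 5,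
  6, 7, 6, 5, 4, 3, 2, 1, 3, 4, 5, 6, 0, 2, 3, 4, 5, 1, 3, 4, 2, 3, 0, 2, 1, 3, 4, 5, 6, 0, 2,
  3, 4, 5, 1, 3, 4, 2, 3, 0, 2, 1, 3, 4, 5, 3, 4, 2, 3, 0, 2, 1, 3, 4, 2, 3, 0, 2, 1, 3, 0, 2,
  0], [7, 6, 5, 4, 3, 2, 1, 3, 4, 5, 6, 0, 2, 3, 4, 5, 1, 3, 4, 2, 3, 0, 2, 1, 3, 4, 5, 6, 7, 6,
  5, 4, 3, 2, 1, 3, 4, 5, 6, 0, 2, 3, 4, 5, 1, 3, 4, 2, 3, 0, 2, 1, 3, 4, 5, 6, 7, 6, 5, 4, 3,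
  2, 1, 3, 4, 5, 6, 0, 2, 3, 4, 5, 1, 3, 4, 2, 3, 0, 2, 1, 3, 4, 5, 6, 2, 3, 4, 5, 1, 3, 4, 2,
  3, 0, 2, 1, 3, 4, 5, 1, 3, 4, 2, 3, 0, 2, 1, 3, 4, 2, 3, 0, 2, 1, 3, 0, 2, 0], [7, 6, 5, 4, 3,
  2, 1, 3, 4, 5, 6, 0, 2, 3, 4, 5, 1, 3, 4, 2, 3, 0, 2, 1, 3, 4, 5, 6, 7, 6, 5, 4, 3, 2, 1, 3,
  4, 5, 6, 0, 2, 3, 4, 5, 1, 3, 4, 2, 3, 0, 2, 1, 3, 4, 5, 6, 7, 5, 4, 3, 2, 1, 3, 4, 5, 6, 0,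
  2, 3, 4, 5, 1, 3, 4, 2, 3, 0, 2, 1, 3, 4, 5, 6, 0, 2, 3, 4, 5, 1, 3, 4, 2, 3, 0, 2, 1, 3, 4,
  5, 1, 3, 4, 2, 3, 0, 2, 1, 3, 4, 2, 3, 0, 2, 1, 3, 0, 2, 0], [6, 5, 4, 3, 2, 1, 3, 4, 5, 6, 0,
  2, 3, 4, 5, 1, 3, 4, 2, 3, 0, 2, 1, 3, 4, 5, 6, 7, 6, 5, 4, 3, 2, 1, 3, 4, 5, 6, 0, 2, 3, 4,
  5, 1, 3, 4, 2, 3, 0, 2, 1, 3, 4, 5, 6, 7, 6, 5, 4, 3, 2, 1, 3, 4, 5, 6, 0, 2, 3, 4, 5, 1, 3,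
  4, 2, 3, 0, 2, 1, 3, 4, 5, 6, 0, 2, 3, 4, 5, 1, 3, 4, 2, 3, 0, 2, 1, 3, 4, 5, 1, 3, 4, 2, 3,
  0, 2, 1, 3, 4, 2, 3, 0, 2, 1, 3, 0, 2, 0], [7, 6, 5, 4, 3, 2, 1, 3, 4, 5, 6, 0, 2, 3, 4, 5, 1,
  3, 4, 2, 3, 0, 2, 1, 3, 4, 5, 6, 7, 6, 5, 4, 3, 2, 1, 3, 4, 5, 6, 0, 2, 3, 4, 5, 1, 3, 4, 2,
  3, 0, 2, 1, 3, 4, 5, 6, 7, 6, 5, 4, 3, 2, 1, 3, 4, 5, 6, 0, 2, 3, 4, 5, 1, 3, 4, 2, 3, 0, 2,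
  1, 3, 4, 5, 6, 0, 2, 3, 4, 5, 1, 3, 4, 2, 3, 0, 2, 1, 3, 4, 5, 3, 4, 2, 3, 0, 2, 1, 3, 4, 2,
  3, 0, 2, 1, 3, 2, 1, 0], [7, 6, 5, 4, 3, 2, 1, 3, 4, 5, 6, 0, 2, 3, 4, 5, 1, 3, 4, 2, 3, 0, 2,
  1, 3, 4, 5, 6, 7, 6, 5, 4, 3, 2, 1, 3, 4, 5, 6, 0, 2, 3, 4, 5, 1, 3, 4, 2, 3, 0, 2, 1, 3, 4,
  5, 6, 7, 6, 5, 4, 3, 2, 1, 3, 4, 5, 6, 0, 2, 3, 4, 5, 1, 3, 4, 2, 3, 0, 2, 1, 3, 4, 5, 6, 2,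
  3, 4, 5, 1, 3, 4, 2, 3, 0, 2, 1, 3, 4, 5, 1, 3, 4, 2, 3, 0, 2, 1, 3, 4, 2, 3, 0, 2, 1, 3, 2,
  1, 0], [7, 6, 5, 4, 3, 2, 1, 3, 4, 5, 6, 0, 2, 3, 4, 5, 1, 3, 4, 2, 3, 0, 2, 1, 3, 4, 5, 6, 7,
  6, 5, 4, 3, 2, 1, 3, 4, 5, 6, 0, 2, 3, 4, 5, 1, 3, 4, 2, 3, 0, 2, 1, 3, 4, 5, 6, 7, 5, 4, 3,
  2, 1, 3, 4, 5, 6, 0, 2, 3, 4, 5, 1, 3, 4, 2, 3, 0, 2, 1, 3, 4, 5, 6, 0, 2, 3, 4, 5, 1, 3, 4,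
  2, 3, 0, 2, 1, 3, 4, 5, 1, 3, 4, 2, 3, 0, 2, 1, 3, 4, 2, 3, 0, 2, 1, 3, 2, 1, 0], [6, 5, 4, 3,
  2, 1, 3, 4, 5, 6, 0, 2, 3, 4, 5, 1, 3, 4, 2, 3, 0, 2, 1, 3, 4, 5, 6, 7, 6, 5, 4, 3, 2, 1, 3,
  4, 5, 6, 0, 2, 3, 4, 5, 1, 3, 4, 2, 3, 0, 2, 1, 3, 4, 5, 6, 7, 6, 5, 4, 3, 2, 1, 3, 4, 5, 6,
  0, 2, 3, 4, 5, 1, 3, 4, 2, 3, 0, 2, 1, 3, 4, 5, 6, 0, 2, 3, 4, 5, 1, 3, 4, 2, 3, 0, 2, 1, 3,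
  4, 5, 1, 3, 4, 2, 3, 0, 2, 1, 3, 4, 2, 3, 0, 2, 1, 3, 2, 1, 0], [7, 6, 5, 4, 3, 2, 1, 3, 4, 5,
  6, 0, 2, 3, 4, 5, 1, 3, 4, 2, 3, 0, 2, 1, 3, 4, 5, 6, 7, 6, 5, 4, 3, 2, 1, 3, 4, 5, 6, 0, 2,
  3, 4, 5, 1, 3, 4, 2, 3, 0, 2, 1, 3, 4, 5, 6, 7, 6, 5, 4, 3, 2, 1, 3, 4, 5, 6, 0, 2, 3, 4, 5,
  1, 3, 4, 2, 3, 0, 2, 1, 3, 4, 5, 6, 2, 3, 4, 5, 1, 3, 4, 2, 3, 0, 2, 1, 3, 4, 5, 1, 3, 4, 2,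
  3, 0, 2, 1, 3, 4, 3, 0, 2, 1, 3, 0, 2, 1, 0], [7, 6, 5, 4, 3, 2, 1, 3, 4, 5, 6, 0, 2, 3, 4, 5,
  1, 3, 4, 2, 3, 0, 2, 1, 3, 4, 5, 6, 7, 6, 5, 4, 3, 2, 1, 3, 4, 5, 6, 0, 2, 3, 4, 5, 1, 3, 4,
  2, 3, 0, 2, 1, 3, 4, 5, 6, 7, 5, 4, 3, 2, 1, 3, 4, 5, 6, 0, 2, 3, 4, 5, 1, 3, 4, 2, 3, 0, 2,
  1, 3, 4, 5, 6, 0, 2, 3, 4, 5, 1, 3, 4, 2, 3, 0, 2, 1, 3, 4, 5, 1, 3, 4, 2, 3, 0, 2, 1, 3, 4,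
  3, 0, 2, 1, 3, 0, 2, 1, 0], [6, 5, 4, 3, 2, 1, 3, 4, 5, 6, 0, 2, 3, 4, 5, 1, 3, 4, 2, 3, 0, 2,
  1, 3, 4, 5, 6, 7, 6, 5, 4, 3, 2, 1, 3, 4, 5, 6, 0, 2, 3, 4, 5, 1, 3, 4, 2, 3, 0, 2, 1, 3, 4,
  5, 6, 7, 6, 5, 4, 3, 2, 1, 3, 4, 5, 6, 0, 2, 3, 4, 5, 1, 3, 4, 2, 3, 0, 2, 1, 3, 4, 5, 6, 0,
  2, 3, 4, 5, 1, 3, 4, 2, 3, 0, 2, 1, 3, 4, 5, 1, 3, 4, 2, 3, 0, 2, 1, 3, 4, 3, 0, 2, 1, 3, 0,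
  2, 1, 0], [7, 6, 5, 4, 3, 2, 1, 3, 4, 5, 6, 0, 2, 3, 4, 5, 1, 3, 4, 2, 3, 0, 2, 1, 3, 4, 5, 6,
  7, 6, 5, 4, 3, 2, 1, 3, 4, 5, 6, 0, 2, 3, 4, 5, 1, 3, 4, 2, 3, 0, 2, 1, 3, 4, 5, 6, 7, 5, 4,
  3, 2, 1, 3, 4, 5, 6, 0, 2, 3, 4, 5, 1, 3, 4, 2, 3, 0, 2, 1, 3, 4, 5, 6, 0, 2, 3, 4, 5, 1, 3,
  4, 2, 3, 0, 2, 1, 3, 4, 5, 3, 4, 2, 3, 0, 2, 1, 3, 4, 2, 3, 0, 2, 1, 3, 0, 2, 1, 0], [6, 5, 4,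
  3, 2, 1, 3, 4, 5, 6, 0, 2, 3, 4, 5, 1, 3, 4, 2, 3, 0, 2, 1, 3, 4, 5, 6, 7, 6, 5, 4, 3, 2, 1,
  3, 4, 5, 6, 0, 2, 3, 4, 5, 1, 3, 4, 2, 3, 0, 2, 1, 3, 4, 5, 6, 7, 6, 5, 4, 3, 2, 1, 3, 4, 5,
  6, 0, 2, 3, 4, 5, 1, 3, 4, 2, 3, 0, 2, 1, 3, 4, 5, 6, 0, 2, 3, 4, 5, 1, 3, 4, 2, 3, 0, 2, 1,
  3, 4, 5, 3, 4, 2, 3, 0, 2, 1, 3, 4, 2, 3, 0, 2, 1, 3, 0, 2, 1, 0], [6, 5, 4, 3, 2, 1, 3, 4, 5,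
  6, 0, 2, 3, 4, 5, 1, 3, 4, 2, 3, 0, 2, 1, 3, 4, 5, 6, 7, 6, 5, 4, 3, 2, 1, 3, 4, 5, 6, 0, 2,
  3, 4, 5, 1, 3, 4, 2, 3, 0, 2, 1, 3, 4, 5, 6, 7, 6, 5, 4, 3, 2, 1, 3, 4, 5, 6, 0, 2, 3, 4, 5,
  1, 3, 4, 2, 3, 0, 2, 1, 3, 4, 5, 6, 2, 3, 4, 5, 1, 3, 4, 2, 3, 0, 2, 1, 3, 4, 5, 1, 3, 4, 2,
  3, 0, 2, 1, 3, 4, 2, 3, 0, 2, 1, 3, 0, 2, 1, 0], [7, 6, 5, 4, 3, 2, 1, 3, 4, 5, 6, 0, 2, 3, 4,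
  5, 1, 3, 4, 2, 3, 0, 2, 1, 3, 4, 5, 6, 7, 6, 5, 4, 3, 2, 1, 3, 4, 5, 6, 0, 2, 3, 4, 5, 1, 3,
  4, 2, 3, 0, 2, 1, 3, 4, 5, 6, 7, 6, 5, 4, 3, 2, 1, 3, 4, 5, 6, 0, 2, 3, 4, 5, 1, 3, 4, 2, 3,
  0, 2, 1, 3, 4, 5, 6, 0, 2, 3, 4, 5, 1, 3, 4, 2, 3, 0, 2, 1, 3, 4, 5, 3, 4, 2, 3, 0, 2, 1, 3,
  4, 2, 3, 0, 2, 1, 3, 0, 2], [7, 6, 5, 4, 3, 2, 1, 3, 4, 5, 6, 0, 2, 3, 4, 5, 1, 3, 4, 2, 3, 0,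
  2, 1, 3, 4, 5, 6, 7, 6, 5, 4, 3, 2, 1, 3, 4, 5, 6, 0, 2, 3, 4, 5, 1, 3, 4, 2, 3, 0, 2, 1, 3,
  4, 5, 6, 7, 6, 5, 4, 3, 2, 1, 3, 4, 5, 6, 0, 2, 3, 4, 5, 1, 3, 4, 2, 3, 0, 2, 1, 3, 4, 5, 6,
  2, 3, 4, 5, 1, 3, 4, 2, 3, 0, 2, 1, 3, 4, 5, 1, 3, 4, 2, 3, 0, 2, 1, 3, 4, 2, 3, 0, 2, 1, 3,
  0, 2], [7, 6, 5, 4, 3, 2, 1, 3, 4, 5, 6, 0, 2, 3, 4, 5, 1, 3, 4, 2, 3, 0, 2, 1, 3, 4, 5, 6, 7,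
  6, 5, 4, 3, 2, 1, 3, 4, 5, 6, 0, 2, 3, 4, 5, 1, 3, 4, 2, 3, 0, 2, 1, 3, 4, 5, 6, 7, 5, 4, 3,
  2, 1, 3, 4, 5, 6, 0, 2, 3, 4, 5, 1, 3, 4, 2, 3, 0, 2, 1, 3, 4, 5, 6, 0, 2, 3, 4, 5, 1, 3, 4,
  2, 3, 0, 2, 1, 3, 4, 5, 1, 3, 4, 2, 3, 0, 2, 1, 3, 4, 2, 3, 0, 2, 1, 3, 0, 2], [6, 5, 4, 3, 2,
  1, 3, 4, 5, 6, 0, 2, 3, 4, 5, 1, 3, 4, 2, 3, 0, 2, 1, 3, 4, 5, 6, 7, 6, 5, 4, 3, 2, 1, 3, 4,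
  5, 6, 0, 2, 3, 4, 5, 1, 3, 4, 2, 3, 0, 2, 1, 3, 4, 5, 6, 7, 6, 5, 4, 3, 2, 1, 3, 4, 5, 6, 0,
  2, 3, 4, 5, 1, 3, 4, 2, 3, 0, 2, 1, 3, 4, 5, 6, 0, 2, 3, 4, 5, 1, 3, 4, 2, 3, 0, 2, 1, 3, 4,
  5, 1, 3, 4, 2, 3, 0, 2, 1, 3, 4, 2, 3, 0, 2, 1, 3, 0, 2], [7, 6, 5, 4, 3, 2, 1, 3, 4, 5, 6, 0,
  2, 3, 4, 5, 1, 3, 4, 2, 3, 0, 2, 1, 3, 4, 5, 6, 7, 6, 5, 4, 3, 2, 1, 3, 4, 5, 6, 0, 2, 3, 4,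
  5, 1, 3, 4, 2, 3, 0, 2, 1, 3, 4, 5, 6, 7, 6, 5, 4, 3, 2, 1, 3, 4, 5, 6, 0, 2, 3, 4, 5, 1, 3,
  4, 2, 3, 0, 2, 1, 3, 4, 5, 6, 2, 3, 4, 5, 1, 3, 4, 2, 3, 0, 2, 1, 3, 4, 5, 1, 3, 4, 2, 3, 0,
  2, 1, 3, 4, 3, 0, 2, 1, 3, 0, 2, 1], [7, 6, 5, 4, 3, 2, 1, 3, 4, 5, 6, 0, 2, 3, 4, 5, 1, 3, 4,
  2, 3, 0, 2, 1, 3, 4, 5, 6, 7, 6, 5, 4, 3, 2, 1, 3, 4, 5, 6, 0, 2, 3, 4, 5, 1, 3, 4, 2, 3, 0,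
  2, 1, 3, 4, 5, 6, 7, 5, 4, 3, 2, 1, 3, 4, 5, 6, 0, 2, 3, 4, 5, 1, 3, 4, 2, 3, 0, 2, 1, 3, 4,
  5, 6, 0, 2, 3, 4, 5, 1, 3, 4, 2, 3, 0, 2, 1, 3, 4, 5, 1, 3, 4, 2, 3, 0, 2, 1, 3, 4, 3, 0, 2,
  1, 3, 0, 2, 1], [6, 5, 4, 3, 2, 1, 3, 4, 5, 6, 0, 2, 3, 4, 5, 1, 3, 4, 2, 3, 0, 2, 1, 3, 4, 5,
  6, 7, 6, 5, 4, 3, 2, 1, 3, 4, 5, 6, 0, 2, 3, 4, 5, 1, 3, 4, 2, 3, 0, 2, 1, 3, 4, 5, 6, 7, 6,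
  5, 4, 3, 2, 1, 3, 4, 5, 6, 0, 2, 3, 4, 5, 1, 3, 4, 2, 3, 0, 2, 1, 3, 4, 5, 6, 0, 2, 3, 4, 5,
  1, 3, 4, 2, 3, 0, 2, 1, 3, 4, 5, 1, 3, 4, 2, 3, 0, 2, 1, 3, 4, 3, 0, 2, 1, 3, 0, 2, 1], [7, 6,
  5, 4, 3, 2, 1, 3, 4, 5, 6, 0, 2, 3, 4, 5, 1, 3, 4, 2, 3, 0, 2, 1, 3, 4, 5, 6, 7, 6, 5, 4, 3,
  2, 1, 3, 4, 5, 6, 0, 2, 3, 4, 5, 1, 3, 4, 2, 3, 0, 2, 1, 3, 4, 5, 6, 7, 5, 4, 3, 2, 1, 3, 4,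
  5, 6, 0, 2, 3, 4, 5, 1, 3, 4, 2, 3, 0, 2, 1, 3, 4, 5, 6, 0, 2, 3, 4, 5, 1, 3, 4, 2, 3, 0, 2,
  1, 3, 4, 5, 3, 4, 2, 3, 0, 2, 1, 3, 4, 2, 3, 0, 2, 1, 3, 0, 2, 1], [6, 5, 4, 3, 2, 1, 3, 4, 5,
  6, 0, 2, 3, 4, 5, 1, 3, 4, 2, 3, 0, 2, 1, 3, 4, 5, 6, 7, 6, 5, 4, 3, 2, 1, 3, 4, 5, 6, 0, 2,
  3, 4, 5, 1, 3, 4, 2, 3, 0, 2, 1, 3, 4, 5, 6, 7, 6, 5, 4, 3, 2, 1, 3, 4, 5, 6, 0, 2, 3, 4, 5,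
  1, 3, 4, 2, 3, 0, 2, 1, 3, 4, 5, 6, 0, 2, 3, 4, 5, 1, 3, 4, 2, 3, 0, 2, 1, 3, 4, 5, 3, 4, 2,
  3, 0, 2, 1, 3, 4, 2, 3, 0, 2, 1, 3, 0, 2, 1], [6, 5, 4, 3, 2, 1, 3, 4, 5, 6, 0, 2, 3, 4, 5, 1,
  3, 4, 2, 3, 0, 2, 1, 3, 4, 5, 6, 7, 6, 5, 4, 3, 2, 1, 3, 4, 5, 6, 0, 2, 3, 4, 5, 1, 3, 4, 2,
  3, 0, 2, 1, 3, 4, 5, 6, 7, 6, 5, 4, 3, 2, 1, 3, 4, 5, 6, 0, 2, 3, 4, 5, 1, 3, 4, 2, 3, 0, 2,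
  1, 3, 4, 5, 6, 2, 3, 4, 5, 1, 3, 4, 2, 3, 0, 2, 1, 3, 4, 5, 1, 3, 4, 2, 3, 0, 2, 1, 3, 4, 2,
  3, 0, 2, 1, 3, 0, 2, 1], [7, 6, 5, 4, 3, 2, 1, 3, 4, 5, 6, 0, 2, 3, 4, 5, 1, 3, 4, 2, 3, 0, 2,
  1, 3, 4, 5, 6, 7, 6, 5, 4, 3, 2, 1, 3, 4, 5, 6, 0, 2, 3, 4, 5, 1, 3, 4, 2, 3, 0, 2, 1, 3, 4,
  5, 6, 7, 6, 5, 4, 3, 2, 1, 3, 4, 5, 6, 0, 2, 3, 4, 5, 1, 3, 4, 2, 3, 0, 2, 1, 3, 4, 5, 6, 0,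
  2, 3, 4, 5, 1, 3, 4, 2, 3, 0, 2, 1, 3, 4, 5, 3, 4, 2, 3, 0, 2, 1, 3, 4, 2, 3, 0, 2, 1, 3, 2,
  0], [7, 6, 5, 4, 3, 2, 1, 3, 4, 5, 6, 0, 2, 3, 4, 5, 1, 3, 4, 2, 3, 0, 2, 1, 3, 4, 5, 6, 7, 6,
  5, 4, 3, 2, 1, 3, 4, 5, 6, 0, 2, 3, 4, 5, 1, 3, 4, 2, 3, 0, 2, 1, 3, 4, 5, 6, 7, 6, 5, 4, 3,
  2, 1, 3, 4, 5, 6, 0, 2, 3, 4, 5, 1, 3, 4, 2, 3, 0, 2, 1, 3, 4, 5, 6, 2, 3, 4, 5, 1, 3, 4, 2,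
  3, 0, 2, 1, 3, 4, 5, 1, 3, 4, 2, 3, 0, 2, 1, 3, 4, 2, 3, 0, 2, 1, 3, 2, 0], [7, 6, 5, 4, 3, 2,
  1, 3, 4, 5, 6, 0, 2, 3, 4, 5, 1, 3, 4, 2, 3, 0, 2, 1, 3, 4, 5, 6, 7, 6, 5, 4, 3, 2, 1, 3, 4,
  5, 6, 0, 2, 3, 4, 5, 1, 3, 4, 2, 3, 0, 2, 1, 3, 4, 5, 6, 7, 5, 4, 3, 2, 1, 3, 4, 5, 6, 0, 2,
  3, 4, 5, 1, 3, 4, 2, 3, 0, 2, 1, 3, 4, 5, 6, 0, 2, 3, 4, 5, 1, 3, 4, 2, 3, 0, 2, 1, 3, 4, 5,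
  1, 3, 4, 2, 3, 0, 2, 1, 3, 4, 2, 3, 0, 2, 1, 3, 2, 0], [6, 5, 4, 3, 2, 1, 3, 4, 5, 6, 0, 2, 3,
  4, 5, 1, 3, 4, 2, 3, 0, 2, 1, 3, 4, 5, 6, 7, 6, 5, 4, 3, 2, 1, 3, 4, 5, 6, 0, 2, 3, 4, 5, 1,
  3, 4, 2, 3, 0, 2, 1, 3, 4, 5, 6, 7, 6, 5, 4, 3, 2, 1, 3, 4, 5, 6, 0, 2, 3, 4, 5, 1, 3, 4, 2,
  3, 0, 2, 1, 3, 4, 5, 6, 0, 2, 3, 4, 5, 1, 3, 4, 2, 3, 0, 2, 1, 3, 4, 5, 1, 3, 4, 2, 3, 0, 2,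
  1, 3, 4, 2, 3, 0, 2, 1, 3, 2, 0], [7, 6, 5, 4, 3, 2, 1, 3, 4, 5, 6, 0, 2, 3, 4, 5, 1, 3, 4, 2,
  3, 0, 2, 1, 3, 4, 5, 6, 7, 6, 5, 4, 3, 2, 1, 3, 4, 5, 6, 0, 2, 3, 4, 5, 1, 3, 4, 2, 3, 0, 2,
  1, 3, 4, 5, 6, 7, 5, 4, 3, 2, 1, 3, 4, 5, 6, 0, 2, 3, 4, 5, 1, 3, 4, 2, 3, 0, 2, 1, 3, 4, 5,
  6, 0, 2, 3, 4, 5, 1, 3, 4, 2, 3, 0, 2, 1, 3, 4, 5, 3, 4, 2, 3, 0, 2, 1, 3, 4, 2, 3, 0, 2, 1,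
  3, 0, 2, 0], [6, 5, 4, 3, 2, 1, 3, 4, 5, 6, 0, 2, 3, 4, 5, 1, 3, 4, 2, 3, 0, 2, 1, 3, 4, 5, 6,
  7, 6, 5, 4, 3, 2, 1, 3, 4, 5, 6, 0, 2, 3, 4, 5, 1, 3, 4, 2, 3, 0, 2, 1, 3, 4, 5, 6, 7, 6, 5,
  4, 3, 2, 1, 3, 4, 5, 6, 0, 2, 3, 4, 5, 1, 3, 4, 2, 3, 0, 2, 1, 3, 4, 5, 6, 0, 2, 3, 4, 5, 1,
  3, 4, 2, 3, 0, 2, 1, 3, 4, 5, 3, 4, 2, 3, 0, 2, 1, 3, 4, 2, 3, 0, 2, 1, 3, 0, 2, 0], [6, 5, 4,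
  3, 2, 1, 3, 4, 5, 6, 0, 2, 3, 4, 5, 1, 3, 4, 2, 3, 0, 2, 1, 3, 4, 5, 6, 7, 6, 5, 4, 3, 2, 1,
  3, 4, 5, 6, 0, 2, 3, 4, 5, 1, 3, 4, 2, 3, 0, 2, 1, 3, 4, 5, 6, 7, 6, 5, 4, 3, 2, 1, 3, 4, 5,
  6, 0, 2, 3, 4, 5, 1, 3, 4, 2, 3, 0, 2, 1, 3, 4, 5, 6, 2, 3, 4, 5, 1, 3, 4, 2, 3, 0, 2, 1, 3,
  4, 5, 1, 3, 4, 2, 3, 0, 2, 1, 3, 4, 2, 3, 0, 2, 1, 3, 0, 2, 0], [7, 6, 5, 4, 3, 2, 1, 3, 4, 5,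
  6, 0, 2, 3, 4, 5, 1, 3, 4, 2, 3, 0, 2, 1, 3, 4, 5, 6, 7, 6, 5, 4, 3, 2, 1, 3, 4, 5, 6, 0, 2,
  3, 4, 5, 1, 3, 4, 2, 3, 0, 2, 1, 3, 4, 5, 6, 7, 5, 4, 3, 2, 1, 3, 4, 5, 6, 0, 2, 3, 4, 5, 1,
  3, 4, 2, 3, 0, 2, 1, 3, 4, 5, 6, 0, 2, 3, 4, 5, 1, 3, 4, 2, 3, 0, 2, 1, 3, 4, 5, 3, 4, 2, 3,
  0, 2, 1, 3, 4, 2, 3, 0, 2, 1, 3, 2, 1, 0], [6, 5, 4, 3, 2, 1, 3, 4, 5, 6, 0, 2, 3, 4, 5, 1, 3,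
  4, 2, 3, 0, 2, 1, 3, 4, 5, 6, 7, 6, 5, 4, 3, 2, 1, 3, 4, 5, 6, 0, 2, 3, 4, 5, 1, 3, 4, 2, 3,
  0, 2, 1, 3, 4, 5, 6, 7, 6, 5, 4, 3, 2, 1, 3, 4, 5, 6, 0, 2, 3, 4, 5, 1, 3, 4, 2, 3, 0, 2, 1,
  3, 4, 5, 6, 0, 2, 3, 4, 5, 1, 3, 4, 2, 3, 0, 2, 1, 3, 4, 5, 3, 4, 2, 3, 0, 2, 1, 3, 4, 2, 3,
  0, 2, 1, 3, 2, 1, 0], [6, 5, 4, 3, 2, 1, 3, 4, 5, 6, 0, 2, 3, 4, 5, 1, 3, 4, 2, 3, 0, 2, 1, 3,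
  4, 5, 6, 7, 6, 5, 4, 3, 2, 1, 3, 4, 5, 6, 0, 2, 3, 4, 5, 1, 3, 4, 2, 3, 0, 2, 1, 3, 4, 5, 6,
  7, 6, 5, 4, 3, 2, 1, 3, 4, 5, 6, 0, 2, 3, 4, 5, 1, 3, 4, 2, 3, 0, 2, 1, 3, 4, 5, 6, 2, 3, 4,
  5, 1, 3, 4, 2, 3, 0, 2, 1, 3, 4, 5, 1, 3, 4, 2, 3, 0, 2, 1, 3, 4, 2, 3, 0, 2, 1, 3, 2, 1, 0],
  [6, 5, 4, 3, 2, 1, 3, 4, 5, 6, 0, 2, 3, 4, 5, 1, 3, 4, 2, 3, 0, 2, 1, 3, 4, 5, 6, 7, 6, 5, 4,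
  3, 2, 1, 3, 4, 5, 6, 0, 2, 3, 4, 5, 1, 3, 4, 2, 3, 0, 2, 1, 3, 4, 5, 6, 7, 6, 5, 4, 3, 2, 1,
  3, 4, 5, 6, 0, 2, 3, 4, 5, 1, 3, 4, 2, 3, 0, 2, 1, 3, 4, 5, 6, 2, 3, 4, 5, 1, 3, 4, 2, 3, 0,
  2, 1, 3, 4, 5, 1, 3, 4, 2, 3, 0, 2, 1, 3, 4, 3, 0, 2, 1, 3, 0, 2, 1, 0], [7, 6, 5, 4, 3, 2, 1,
  3, 4, 5, 6, 0, 2, 3, 4, 5, 1, 3, 4, 2, 3, 0, 2, 1, 3, 4, 5, 6, 7, 6, 5, 4, 3, 2, 1, 3, 4, 5,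
  6, 0, 2, 3, 4, 5, 1, 3, 4, 2, 3, 0, 2, 1, 3, 4, 5, 6, 7, 5, 4, 3, 2, 1, 3, 4, 5, 6, 0, 2, 3,
  4, 5, 1, 3, 4, 2, 3, 0, 2, 1, 3, 4, 5, 6, 0, 2, 3, 4, 5, 1, 3, 4, 2, 3, 0, 2, 1, 3, 4, 5, 3,
  4, 2, 3, 0, 2, 1, 3, 4, 2, 3, 0, 2, 1, 3, 0, 2], [6, 5, 4, 3, 2, 1, 3, 4, 5, 6, 0, 2, 3, 4, 5,
  1, 3, 4, 2, 3, 0, 2, 1, 3, 4, 5, 6, 7, 6, 5, 4, 3, 2, 1, 3, 4, 5, 6, 0, 2, 3, 4, 5, 1, 3, 4,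
  2, 3, 0, 2, 1, 3, 4, 5, 6, 7, 6, 5, 4, 3, 2, 1, 3, 4, 5, 6, 0, 2, 3, 4, 5, 1, 3, 4, 2, 3, 0,
  2, 1, 3, 4, 5, 6, 0, 2, 3, 4, 5, 1, 3, 4, 2, 3, 0, 2, 1, 3, 4, 5, 3, 4, 2, 3, 0, 2, 1, 3, 4,
  2, 3, 0, 2, 1, 3, 0, 2], [6, 5, 4, 3, 2, 1, 3, 4, 5, 6, 0, 2, 3, 4, 5, 1, 3, 4, 2, 3, 0, 2, 1,
  3, 4, 5, 6, 7, 6, 5, 4, 3, 2, 1, 3, 4, 5, 6, 0, 2, 3, 4, 5, 1, 3, 4, 2, 3, 0, 2, 1, 3, 4, 5,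
  6, 7, 6, 5, 4, 3, 2, 1, 3, 4, 5, 6, 0, 2, 3, 4, 5, 1, 3, 4, 2, 3, 0, 2, 1, 3, 4, 5, 6, 2, 3,
  4, 5, 1, 3, 4, 2, 3, 0, 2, 1, 3, 4, 5, 1, 3, 4, 2, 3, 0, 2, 1, 3, 4, 2, 3, 0, 2, 1, 3, 0, 2],
  [6, 5, 4, 3, 2, 1, 3, 4, 5, 6, 0, 2, 3, 4, 5, 1, 3, 4, 2, 3, 0, 2, 1, 3, 4, 5, 6, 7, 6, 5, 4,
  3, 2, 1, 3, 4, 5, 6, 0, 2, 3, 4, 5, 1, 3, 4, 2, 3, 0, 2, 1, 3, 4, 5, 6, 7, 6, 5, 4, 3, 2, 1,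
  3, 4, 5, 6, 0, 2, 3, 4, 5, 1, 3, 4, 2, 3, 0, 2, 1, 3, 4, 5, 6, 2, 3, 4, 5, 1, 3, 4, 2, 3, 0,
  2, 1, 3, 4, 5, 1, 3, 4, 2, 3, 0, 2, 1, 3, 4, 3, 0, 2, 1, 3, 0, 2, 1], [7, 6, 5, 4, 3, 2, 1, 3,
  4, 5, 6, 0, 2, 3, 4, 5, 1, 3, 4, 2, 3, 0, 2, 1, 3, 4, 5, 6, 7, 6, 5, 4, 3, 2, 1, 3, 4, 5, 6,
  0, 2, 3, 4, 5, 1, 3, 4, 2, 3, 0, 2, 1, 3, 4, 5, 6, 7, 6, 5, 4, 3, 2, 1, 3, 4, 5, 6, 0, 2, 3,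
  4, 5, 1, 3, 4, 2, 3, 0, 2, 1, 3, 4, 5, 6, 0, 2, 3, 4, 5, 1, 3, 4, 2, 3, 0, 2, 1, 3, 4, 5, 0,
  2, 3, 4, 1, 3, 2, 0], [7, 6, 5, 4, 3, 2, 1, 3, 4, 5, 6, 0, 2, 3, 4, 5, 1, 3, 4, 2, 3, 0, 2, 1,
  3, 4, 5, 6, 7, 6, 5, 4, 3, 2, 1, 3, 4, 5, 6, 0, 2, 3, 4, 5, 1, 3, 4, 2, 3, 0, 2, 1, 3, 4, 5,
  6, 7, 5, 4, 3, 2, 1, 3, 4, 5, 6, 0, 2, 3, 4, 5, 1, 3, 4, 2, 3, 0, 2, 1, 3, 4, 5, 6, 0, 2, 3,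
  4, 5, 1, 3, 4, 2, 3, 0, 2, 1, 3, 4, 5, 3, 4, 2, 3, 0, 2, 1, 3, 4, 2, 3, 0, 2, 1, 3, 2, 0], [6,
  5, 4, 3, 2, 1, 3, 4, 5, 6, 0, 2, 3, 4, 5, 1, 3, 4, 2, 3, 0, 2, 1, 3, 4, 5, 6, 7, 6, 5, 4, 3,
  2, 1, 3, 4, 5, 6, 0, 2, 3, 4, 5, 1, 3, 4, 2, 3, 0, 2, 1, 3, 4, 5, 6, 7, 6, 5, 4, 3, 2, 1, 3,
  4, 5, 6, 0, 2, 3, 4, 5, 1, 3, 4, 2, 3, 0, 2, 1, 3, 4, 5, 6, 0, 2, 3, 4, 5, 1, 3, 4, 2, 3, 0,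
  2, 1, 3, 4, 5, 3, 4, 2, 3, 0, 2, 1, 3, 4, 2, 3, 0, 2, 1, 3, 2, 0], [6, 5, 4, 3, 2, 1, 3, 4, 5,
  6, 0, 2, 3, 4, 5, 1, 3, 4, 2, 3, 0, 2, 1, 3, 4, 5, 6, 7, 6, 5, 4, 3, 2, 1, 3, 4, 5, 6, 0, 2,
  3, 4, 5, 1, 3, 4, 2, 3, 0, 2, 1, 3, 4, 5, 6, 7, 6, 5, 4, 3, 2, 1, 3, 4, 5, 6, 0, 2, 3, 4, 5,
  1, 3, 4, 2, 3, 0, 2, 1, 3, 4, 5, 6, 2, 3, 4, 5, 1, 3, 4, 2, 3, 0, 2, 1, 3, 4, 5, 1, 3, 4, 2,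
  3, 0, 2, 1, 3, 4, 2, 3, 0, 2, 1, 3, 2, 0], [7, 6, 5, 4, 3, 2, 1, 3, 4, 5, 6, 0, 2, 3, 4, 5, 1,
  3, 4, 2, 3, 0, 2, 1, 3, 4, 5, 6, 7, 6, 5, 4, 3, 2, 1, 3, 4, 5, 6, 0, 2, 3, 4, 5, 1, 3, 4, 2,
  3, 0, 2, 1, 3, 4, 5, 6, 7, 5, 4, 3, 2, 1, 3, 4, 5, 6, 0, 2, 3, 4, 5, 1, 3, 4, 2, 3, 0, 2, 1,
  3, 4, 5, 6, 0, 2, 3, 4, 5, 1, 3, 4, 2, 3, 0, 2, 1, 3, 4, 5, 0, 2, 3, 4, 1, 3, 2, 0], [6, 5, 4,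
  3, 2, 1, 3, 4, 5, 6, 0, 2, 3, 4, 5, 1, 3, 4, 2, 3, 0, 2, 1, 3, 4, 5, 6, 7, 6, 5, 4, 3, 2, 1,
  3, 4, 5, 6, 0, 2, 3, 4, 5, 1, 3, 4, 2, 3, 0, 2, 1, 3, 4, 5, 6, 7, 6, 5, 4, 3, 2, 1, 3, 4, 5,
  6, 0, 2, 3, 4, 5, 1, 3, 4, 2, 3, 0, 2, 1, 3, 4, 5, 6, 0, 2, 3, 4, 5, 1, 3, 4, 2, 3, 0, 2, 1,
  3, 4, 5, 0, 2, 3, 4, 1, 3, 2, 0], [7, 6, 5, 4, 3, 2, 1, 3, 4, 5, 6, 0, 2, 3, 4, 5, 1, 3, 4, 2,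
  3, 0, 2, 1, 3, 4, 5, 6, 7, 6, 5, 4, 3, 2, 1, 3, 4, 5, 6, 0, 2, 3, 4, 5, 1, 3, 4, 2, 3, 0, 2,
  1, 3, 4, 5, 6, 7, 0, 2, 3, 4, 5, 1, 3, 4, 2, 3, 0, 2, 1, 3, 4, 5, 6, 5, 4, 3, 2, 1, 3, 4, 5,
  0, 2, 3, 4, 1, 3, 2, 0], [7, 6, 5, 4, 3, 2, 1, 3, 4, 5, 6, 0, 2, 3, 4, 5, 1, 3, 4, 2, 3, 0, 2,
  1, 3, 4, 5, 6, 7, 6, 5, 4, 3, 2, 1, 3, 4, 5, 6, 0, 2, 3, 4, 5, 1, 3, 4, 2, 3, 0, 2, 1, 3, 4,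
  5, 6, 7], []]

theorem lmE8_length : lmE8.length = 64 := by decide

def chunk0 : List (List ℕ) :=
  [[], [0], [1], [2], [3], [4], [5], [6], [7], [0, 1], [0, 2], [0, 3], [0, 4], [0, 5], [0, 6],
  [0, 7]]

set_option maxRecDepth 1000000 in
theorem chkRow_0 : ∀ I ∈ chunk0, chkRowP chevE8 rtE8 psE8 w0E8 liE8 lmE8 I = true := by
  decide +kernel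

def chunk1 : List (List ℕ) :=
  [[1, 2], [1, 3], [1, 4], [1, 5], [1, 6], [1, 7], [2, 3], [2, 4], [2, 5], [2, 6], [2, 7], [3,
  4], [3, 5], [3, 6], [3, 7], [4, 5]]

set_option maxRecDepth 1000000 in
theorem chkRow_1 : ∀ I ∈ chunk1, chkRowP chevE8 rtE8 psE8 w0E8 liE8 lmE8 I = true := by
  decide +kernel

def chunk2 : List (List ℕ) :=
  [[4, 6], [4, 7], [5, 6], [5, 7], [6, 7], [0, 1, 2], [0, 1, 3], [0, 1, 4], [0, 1, 5], [0, 1,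
  6], [0, 1, 7], [0, 2, 3], [0, 2, 4], [0, 2, 5], [0, 2, 6], [0, 2, 7]]

set_option maxRecDepth 1000000 in
theorem chkRow_2 : ∀ I ∈ chunk2, chkRowP chevE8 rtE8 psE8 w0E8 liE8 lmE8 I = true := by
  decide +kernel

def chunk3 : List (List ℕ) :=
  [[0, 3, 4], [0, 3, 5], [0, 3, 6], [0, 3, 7], [0, 4, 5], [0, 4, 6], [0, 4, 7], [0, 5, 6], [0,
  5, 7], [0, 6, 7], [1, 2, 3], [1, 2, 4], [1, 2, 5], [1, 2, 6], [1, 2, 7], [1, 3, 4]]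

set_option maxRecDepth 1000000 in
theorem chkRow_3 : ∀ I ∈ chunk3, chkRowP chevE8 rtE8 psE8 w0E8 liE8 lmE8 I = true := by
  decide +kernel

def chunk4 : List (List ℕ) :=
  [[1, 3, 5], [1, 3, 6], [1, 3, 7], [1, 4, 5], [1, 4, 6], [1, 4, 7], [1, 5, 6], [1, 5, 7], [1,
  6, 7], [2, 3, 4], [2, 3, 5], [2, 3, 6], [2, 3, 7], [2, 4, 5], [2, 4, 6], [2, 4, 7]]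

set_option maxRecDepth 1000000 in
theorem chkRow_4 : ∀ I ∈ chunk4, chkRowP chevE8 rtE8 psE8 w0E8 liE8 lmE8 I = true := by
  decide +kernel

def chunk5 : List (List ℕ) :=
  [[2, 5, 6], [2, 5, 7], [2, 6, 7], [3, 4, 5], [3, 4, 6], [3, 4, 7], [3, 5, 6], [3, 5, 7], [3,
  6, 7], [4, 5, 6], [4, 5, 7], [4, 6, 7], [5, 6, 7], [0, 1, 2, 3], [0, 1, 2, 4], [0, 1, 2, 5]]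

set_option maxRecDepth 1000000 in
theorem chkRow_5 : ∀ I ∈ chunk5, chkRowP chevE8 rtE8 psE8 w0E8 liE8 lmE8 I = true := by
  decide +kernel

def chunk6 : List (List ℕ) :=
  [[0, 1, 2, 6], [0, 1, 2, 7], [0, 1, 3, 4], [0, 1, 3, 5], [0, 1, 3, 6], [0, 1, 3, 7], [0, 1, 4,
  5], [0, 1, 4, 6], [0, 1, 4, 7], [0, 1, 5, 6], [0, 1, 5, 7], [0, 1, 6, 7], [0, 2, 3, 4], [0, 2,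
  3, 5], [0, 2, 3, 6], [0, 2, 3, 7]]

set_option maxRecDepth 1000000 in
theorem chkRow_6 : ∀ I ∈ chunk6, chkRowP chevE8 rtE8 psE8 w0E8 liE8 lmE8 I = true := by
  decide +kernel

def chunk7 : List (List ℕ) :=
  [[0, 2, 4, 5], [0, 2, 4, 6], [0, 2, 4, 7], [0, 2, 5, 6], [0, 2, 5, 7], [0, 2, 6, 7], [0, 3, 4,
  5], [0, 3, 4, 6], [0, 3, 4, 7], [0, 3, 5, 6], [0, 3, 5, 7], [0, 3, 6, 7], [0, 4, 5, 6], [0, 4,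
  5, 7], [0, 4, 6, 7], [0, 5, 6, 7]]

set_option maxRecDepth 1000000 in
theorem chkRow_7 : ∀ I ∈ chunk7, chkRowP chevE8 rtE8 psE8 w0E8 liE8 lmE8 I = true := by
  decide +kernel

def chunk8 : List (List ℕ) :=
  [[1, 2, 3, 4], [1, 2, 3, 5], [1, 2, 3, 6], [1, 2, 3, 7], [1, 2, 4, 5], [1, 2, 4, 6], [1, 2, 4,
  7], [1, 2, 5, 6], [1, 2, 5, 7], [1, 2, 6, 7], [1, 3, 4, 5], [1, 3, 4, 6], [1, 3, 4, 7], [1, 3,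
  5, 6], [1, 3, 5, 7], [1, 3, 6, 7]]

set_option maxRecDepth 1000000 in
theorem chkRow_8 : ∀ I ∈ chunk8, chkRowP chevE8 rtE8 psE8 w0E8 liE8 lmE8 I = true := by
  decide +kernel

def chunk9 : List (List ℕ) :=
  [[1, 4, 5, 6], [1, 4, 5, 7], [1, 4, 6, 7], [1, 5, 6, 7], [2, 3, 4, 5], [2, 3, 4, 6], [2, 3, 4,
  7], [2, 3, 5, 6], [2, 3, 5, 7], [2, 3, 6, 7], [2, 4, 5, 6], [2, 4, 5, 7], [2, 4, 6, 7], [2, 5,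
  6, 7], [3, 4, 5, 6], [3, 4, 5, 7]]

set_option maxRecDepth 1000000 in
theorem chkRow_9 : ∀ I ∈ chunk9, chkRowP chevE8 rtE8 psE8 w0E8 liE8 lmE8 I = true := by
  decide +kernel

def chunk10 : List (List ℕ) :=
  [[3, 4, 6, 7], [3, 5, 6, 7], [4, 5, 6, 7], [0, 1, 2, 3, 4], [0, 1, 2, 3, 5], [0, 1, 2, 3, 6],
  [0, 1, 2, 3, 7], [0, 1, 2, 4, 5], [0, 1, 2, 4, 6], [0, 1, 2, 4, 7], [0, 1, 2, 5, 6], [0, 1, 2,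
  5, 7], [0, 1, 2, 6, 7], [0, 1, 3, 4, 5], [0, 1, 3, 4, 6], [0, 1, 3, 4, 7]]

set_option maxRecDepth 1000000 in
theorem chkRow_10 : ∀ I ∈ chunk10, chkRowP chevE8 rtE8 psE8 w0E8 liE8 lmE8 I = true := by
  decide +kernel

def chunk11 : List (List ℕ) :=
  [[0, 1, 3, 5, 6], [0, 1, 3, 5, 7], [0, 1, 3, 6, 7], [0, 1, 4, 5, 6], [0, 1, 4, 5, 7], [0, 1,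
  4, 6, 7], [0, 1, 5, 6, 7], [0, 2, 3, 4, 5], [0, 2, 3, 4, 6], [0, 2, 3, 4, 7], [0, 2, 3, 5, 6],
  [0, 2, 3, 5, 7], [0, 2, 3, 6, 7], [0, 2, 4, 5, 6], [0, 2, 4, 5, 7], [0, 2, 4, 6, 7]]

set_option maxRecDepth 1000000 in
theorem chkRow_11 : ∀ I ∈ chunk11, chkRowP chevE8 rtE8 psE8 w0E8 liE8 lmE8 I = true := by
  decide +kernel

def chunk12 : List (List ℕ) :=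
  [[0, 2, 5, 6, 7], [0, 3, 4, 5, 6], [0, 3, 4, 5, 7], [0, 3, 4, 6, 7], [0, 3, 5, 6, 7], [0, 4,
  5, 6, 7], [1, 2, 3, 4, 5], [1, 2, 3, 4, 6], [1, 2, 3, 4, 7], [1, 2, 3, 5, 6], [1, 2, 3, 5, 7],
  [1, 2, 3, 6, 7], [1, 2, 4, 5, 6], [1, 2, 4, 5, 7], [1, 2, 4, 6, 7], [1, 2, 5, 6, 7]]

set_option maxRecDepth 1000000 in
theorem chkRow_12 : ∀ I ∈ chunk12, chkRowP chevE8 rtE8 psE8 w0E8 liE8 lmE8 I = true := by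
  decide +kernel

def chunk13 : List (List ℕ) :=
  [[1, 3, 4, 5, 6], [1, 3, 4, 5, 7], [1, 3, 4, 6, 7], [1, 3, 5, 6, 7], [1, 4, 5, 6, 7], [2, 3,
  4, 5, 6], [2, 3, 4, 5, 7], [2, 3, 4, 6, 7], [2, 3, 5, 6, 7], [2, 4, 5, 6, 7], [3, 4, 5, 6, 7],
  [0, 1, 2, 3, 4, 5], [0, 1, 2, 3, 4, 6], [0, 1, 2, 3, 4, 7], [0, 1, 2, 3, 5, 6], [0, 1, 2, 3,
  5, 7]]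

set_option maxRecDepth 1000000 in
theorem chkRow_13 : ∀ I ∈ chunk13, chkRowP chevE8 rtE8 psE8 w0E8 liE8 lmE8 I = true := by
  decide +kernel

def chunk14 : List (List ℕ) :=
  [[0, 1, 2, 3, 6, 7], [0, 1, 2, 4, 5, 6], [0, 1, 2, 4, 5, 7], [0, 1, 2, 4, 6, 7], [0, 1, 2, 5,
  6, 7], [0, 1, 3, 4, 5, 6], [0, 1, 3, 4, 5, 7], [0, 1, 3, 4, 6, 7], [0, 1, 3, 5, 6, 7], [0, 1,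
  4, 5, 6, 7], [0, 2, 3, 4, 5, 6], [0, 2, 3, 4, 5, 7], [0, 2, 3, 4, 6, 7], [0, 2, 3, 5, 6, 7],
  [0, 2, 4, 5, 6, 7], [0, 3, 4, 5, 6, 7]]

set_option maxRecDepth 1000000 in
theorem chkRow_14 : ∀ I ∈ chunk14, chkRowP chevE8 rtE8 psE8 w0E8 liE8 lmE8 I = true := by
  decide +kernel

def chunk15 : List (List ℕ) :=
  [[1, 2, 3, 4, 5, 6], [1, 2, 3, 4, 5, 7], [1, 2, 3, 4, 6, 7], [1, 2, 3, 5, 6, 7], [1, 2, 4, 5,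
  6, 7], [1, 3, 4, 5, 6, 7], [2, 3, 4, 5, 6, 7], [0, 1, 2, 3, 4, 5, 6], [0, 1, 2, 3, 4, 5, 7],
  [0, 1, 2, 3, 4, 6, 7], [0, 1, 2, 3, 5, 6, 7], [0, 1, 2, 4, 5, 6, 7], [0, 1, 3, 4, 5, 6, 7],
  [0, 2, 3, 4, 5, 6, 7], [1, 2, 3, 4, 5, 6, 7], [0, 1, 2, 3, 4, 5, 6, 7]]

set_option maxRecDepth 1000000 in
theorem chkRow_15 : ∀ I ∈ chunk15, chkRowP chevE8 rtE8 psE8 w0E8 liE8 lmE8 I = true := by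
  decide +kernel

set_option maxRecDepth 1000000 in
theorem sublists_split : ∀ I ∈ (List.range chevE8.rank).sublists,
    I ∈ chunk0 ∨ I ∈ chunk1 ∨ I ∈ chunk2 ∨ I ∈ chunk3 ∨ I ∈ chunk4 ∨ I ∈ chunk5 ∨ I ∈ chunk6 ∨ I
    ∈ chunk7 ∨ I ∈ chunk8 ∨ I ∈ chunk9 ∨ I ∈ chunk10 ∨ I ∈ chunk11 ∨ I ∈ chunk12 ∨ I ∈ chunk13 ∨
    I ∈ chunk14 ∨ I ∈ chunk15 := by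
  decide +kernel

theorem chkRow_E8 : ∀ I ∈ (List.range chevE8.rank).sublists,
    chkRowP chevE8 rtE8 psE8 w0E8 liE8 lmE8 I = true := by
  intro I hI
  rcases sublists_split I hI with h | h | h | h | h | h | h | h | h | h | h | h | h | h | h | h
  · exact chkRow_0 I h
  · exact chkRow_1 I h
  · exact chkRow_2 I h
  · exact chkRow_3 I h
  · exact chkRow_4 I h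
  · exact chkRow_5 I h
  · exact chkRow_6 I h
  · exact chkRow_7 I h
  · exact chkRow_8 I h
  · exact chkRow_9 I h
  · exact chkRow_10 I h
  · exact chkRow_11 I h
  · exact chkRow_12 I h
  · exact chkRow_13 I h
  · exact chkRow_14 I h
  · exact chkRow_15 I h

/-- **Unit T.** an involutive local maximum of `W(E8)` acts like one of the words `lmE8` -/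
theorem h2_T_locmax_cases8 (w : List ℕ) (hw : Wd chevE8 w)
    (hw2 : ∀ r < chevE8.nroots, wAct chevE8 (w ++ w) r = r) (hl : LocMax chevE8 w) :
    ∃ k < 64, Wd chevE8 (lmE8.getD k []) ∧
      ∀ r < chevE8.nroots, wAct chevE8 w r = wAct chevE8 (lmE8.getD k []) r := by
  obtain ⟨v, hv, hvwd, hact⟩ :=
    locmax_cases_of_tableP chevE8 memE8v rtE8 psE8 tabOK_E8 w0E8 chkW0_w0E8 liE8 lmE8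
      chkRow_E8 w hw hw2 hl
  rw [List.mem_iff_getElem] at hv
  obtain ⟨k, hk, e⟩ := hv
  have hk6 : k < 64 := by rw [← lmE8_length]; exact hk
  have e2 : lmE8.getD k [] = v := by
    rw [List.getD_eq_getElem _ _ hk]; exact e
  exact ⟨k, hk6, by rw [e2]; exact hvwd, by rw [e2]; exact hact⟩

end Cfsg.Agent.Lib.Helper2.E8Ev
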