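import Mathlib
import Cfsg.Agent.S0183

set_option autoImplicit false
set_option linter.style.haveILetI false
set_option linter.unusedSectionVars false

namespace Cfsg.Agent.Lib.Helper2.EPCNK

/-- A compatible labelling of the points of an orbit on which the group is primitive is
injective at the base point or constant. -/
theorem blk {Γ Ω X : Type*} [Group Γ] [MulAction Γ Ω] (ω : Ω)
    (hprim : MulAction.IsPreprimitive Γ (MulAction.orbit Γ ω)) (f : Ω → X)
    (hf : ∀ (g : Γ), ∀ x ∈ MulAction.orbit Γ ω, ∀ y ∈ MulAction.orbit Γ ω,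
      f x = f y → f (g • x) = f (g • y)) :
    (∀ x ∈ MulAction.orbit Γ ω, f x = f ω → x = ω) ∨
      (∀ x ∈ MulAction.orbit Γ ω, f x = f ω) := by
  classical
  let B : Set (MulAction.orbit Γ ω) := {x | f x.1 = f ω}
  have hblock : MulAction.IsBlock Γ B := by
    rw [MulAction.isBlock_iff_smul_eq_of_mem]
    intro g a ha hga
    have ha' : f a.1 = f ω := ha
    have hga' : f (g • a.1) = f ω := hga
    ext y
    constructor
    · rintro ⟨z, hz, rfl⟩
      have hz' : f z.1 = f ω := hz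
      show f (g • z.1) = f ω
      exact (hf g z.1 z.2 a.1 a.2 (hz'.trans ha'.symm)).trans hga'
    · intro hy
      have hy' : f y.1 = f ω := hy
      refine ⟨g⁻¹ • y, ?_, by simp⟩
      show f (g⁻¹ • y.1) = f ω
      have h1 := hf g⁻¹ y.1 y.2 (g • a.1) (MulAction.mem_orbit_of_mem_orbit g a.2)
        (hy'.trans hga'.symm)
      rw [inv_smul_smul] at h1
      exact h1.trans ha'
  rcases hprim.isTrivialBlock_of_isBlock hblock with h | h
  · left
    intro x hx hfx
    have h1 : (⟨x, hx⟩ : MulAction.orbit Γ ω) ∈ B := hfx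
    have h2 : (⟨ω, MulAction.mem_orbit_self ω⟩ : MulAction.orbit Γ ω) ∈ B := rfl
    exact congrArg Subtype.val (h h1 h2)
  · right
    intro x hx
    have h1 : (⟨x, hx⟩ : MulAction.orbit Γ ω) ∈ B := by rw [h]; trivial
    exact h1

section
variable {T : Type*} [Group T] [Finite T] [IsSimpleGroup T]

theorem center_eq_bot (hna : ¬ ∀ a b : T, a * b = b * a) : Subgroup.center T = ⊥ := by
  rcases IsSimpleGroup.eq_bot_or_eq_top_of_normal (Subgroup.center T) inferInstance with h | h
  · exact h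
  · exfalso
    apply hna
    intro a b
    have hb : b ∈ Subgroup.center T := by rw [h]; trivial
    exact Subgroup.mem_center_iff.mp hb a

variable {Γ : Type*} [Group Γ] {Ω : Type*} [MulAction Γ Ω]

theorem cnk_P (hna : ¬ ∀ a b : T, a * b = b * a) (φ : Ω → T) (hφ : Function.Surjective φ)
    (hact : ∀ g : Γ, ∃ s : T →* T, (∀ ω : Ω, φ (g • ω) = s (φ ω)) ∨
      (∀ ω : Ω, φ (g • ω) = (s (φ ω))⁻¹))
    (hinn : ∀ a : T, ∃ g : Γ, ∀ ω : Ω, φ (g • ω) = a * φ ω * a⁻¹)
    (hprim : ∀ ω : Ω, MulAction.IsPreprimitive Γ (MulAction.orbit Γ ω))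
    (x : T) (j : ℕ) (hxj : x ^ j ≠ 1) (a : T) (ha : a * x ^ j = x ^ j * a) :
    a * x = x * a := by
  obtain ⟨ω, rfl⟩ := hφ x
  have hf : ∀ (g : Γ), ∀ x ∈ MulAction.orbit Γ ω, ∀ y ∈ MulAction.orbit Γ ω,
      (fun w => (φ w) ^ j) x = (fun w => (φ w) ^ j) y →
      (fun w => (φ w) ^ j) (g • x) = (fun w => (φ w) ^ j) (g • y) := by
    intro g x _ y _ hxy
    obtain ⟨s, hs | hs⟩ := hact g
    · simp only [hs, ← map_pow]
      exact congrArg s hxy
    · simp only [hs, inv_pow, ← map_pow]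
      exact congrArg (fun t => (s t)⁻¹) hxy
  rcases blk ω (hprim ω) (fun w => (φ w) ^ j) hf with h | h
  · obtain ⟨g, hg⟩ := hinn a
    have h1 := h (g • ω) (MulAction.mem_orbit ω g) (by
      show (φ (g • ω)) ^ j = (φ ω) ^ j
      rw [hg, conj_pow, ha]; group)
    have h2 : a * φ ω * a⁻¹ = φ ω := by rw [← hg, h1]
    calc a * φ ω = a * φ ω * a⁻¹ * a := by group
      _ = φ ω * a := by rw [h2]
  · exfalso
    apply hxj
    have hc : (φ ω) ^ j ∈ Subgroup.center T := by
      rw [Subgroup.mem_center_iff]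
      intro b
      obtain ⟨g, hg⟩ := hinn b
      have h1 : (φ (g • ω)) ^ j = (φ ω) ^ j := h (g • ω) (MulAction.mem_orbit ω g)
      rw [hg, conj_pow] at h1
      calc b * φ ω ^ j = b * φ ω ^ j * b⁻¹ * b := by group
        _ = φ ω ^ j * b := by rw [h1]
    rw [center_eq_bot hna] at hc
    exact hc

theorem cnk_R (hna : ¬ ∀ a b : T, a * b = b * a) (φ : Ω → T) (hφ : Function.Surjective φ)
    (hact : ∀ g : Γ, ∃ s : T →* T, (∀ ω : Ω, φ (g • ω) = s (φ ω)) ∨
      (∀ ω : Ω, φ (g • ω) = (s (φ ω))⁻¹))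
    (hinn : ∀ a : T, ∃ g : Γ, ∀ ω : Ω, φ (g • ω) = a * φ ω * a⁻¹)
    (hprim : ∀ ω : Ω, MulAction.IsPreprimitive Γ (MulAction.orbit Γ ω))
    (u a : T) (hua : a * u * a⁻¹ = u⁻¹) : u = u⁻¹ := by
  obtain ⟨ω, rfl⟩ := hφ u
  have hf : ∀ (g : Γ), ∀ x ∈ MulAction.orbit Γ ω, ∀ y ∈ MulAction.orbit Γ ω,
      (fun w => Subgroup.zpowers (φ w)) x = (fun w => Subgroup.zpowers (φ w)) y →
      (fun w => Subgroup.zpowers (φ w)) (g • x) = (fun w => Subgroup.zpowers (φ w)) (g • y) := by
    intro g x _ y _ hxy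
    obtain ⟨s, hs | hs⟩ := hact g
    · simp only [hs, ← MonoidHom.map_zpowers]
      exact congrArg (fun K => Subgroup.map s K) hxy
    · simp only [hs, Subgroup.zpowers_inv, ← MonoidHom.map_zpowers]
      exact congrArg (fun K => Subgroup.map s K) hxy
  rcases blk ω (hprim ω) (fun w => Subgroup.zpowers (φ w)) hf with h | h
  · obtain ⟨g, hg⟩ := hinn a
    have h1 := h (g • ω) (MulAction.mem_orbit ω g) (by
      show Subgroup.zpowers (φ (g • ω)) = Subgroup.zpowers (φ ω)
      rw [hg, hua, Subgroup.zpowers_inv])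
    rw [← hua, ← hg, h1]
  · by_cases hu1 : φ ω = 1
    · rw [hu1]; simp
    exfalso
    have hnorm : (Subgroup.zpowers (φ ω)).Normal := by
      constructor
      intro n hn b
      obtain ⟨g, hg⟩ := hinn b
      have h1 : Subgroup.zpowers (φ (g • ω)) = Subgroup.zpowers (φ ω) :=
        h (g • ω) (MulAction.mem_orbit ω g)
      rw [hg] at h1
      obtain ⟨k, rfl⟩ := Subgroup.mem_zpowers_iff.mp hn
      rw [← h1, ← conj_zpow]
      exact Subgroup.zpow_mem_zpowers _ k
    rcases IsSimpleGroup.eq_bot_or_eq_top_of_normal _ hnorm with h2 | h2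
    · exact hu1 (Subgroup.zpowers_eq_bot.mp h2)
    · apply hna
      intro a b
      have ha : a ∈ Subgroup.zpowers (φ ω) := by rw [h2]; trivial
      have hb : b ∈ Subgroup.zpowers (φ ω) := by rw [h2]; trivial
      obtain ⟨m, rfl⟩ := Subgroup.mem_zpowers_iff.mp ha
      obtain ⟨n, rfl⟩ := Subgroup.mem_zpowers_iff.mp hb
      rw [← zpow_add, ← zpow_add, add_comm]

end

section pure
variable {T : Type*} [Group T] [Finite T]

/-- centraliser of an element of prime order `p`: the `p'`-elements are central. -/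
theorem central_of_P
    (hP : ∀ (x : T) (j : ℕ), x ^ j ≠ 1 → ∀ a : T, a * x ^ j = x ^ j * a → a * x = x * a)
    (t : T) (p : ℕ) (hp : p.Prime) (ht : orderOf t = p) (y : T) (hy : t * y = y * t)
    (hyp : (orderOf y).Coprime p) (c : T) (hc : c * t = t * c) : c * y = y * c := by
  by_cases hy1 : y = 1
  · rw [hy1]; simp
  have hcomm : Commute t y := hy
  set m := orderOf y with hm
  have hyp1 : y ^ p ≠ 1 := by
    intro h
    have h1 : m ∣ p := orderOf_dvd_of_pow_eq_one h
    have h2 : m ∣ Nat.gcd m p := Nat.dvd_gcd dvd_rfl h1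
    rw [Nat.Coprime] at hyp
    rw [hyp] at h2
    have h3 : m = 1 := Nat.dvd_one.mp h2
    exact hy1 (orderOf_eq_one_iff.mp h3)
  have htm : t ^ m ≠ 1 := by
    intro h
    have h1 : p ∣ m := by rw [← ht]; exact orderOf_dvd_of_pow_eq_one h
    have h2 : p ∣ Nat.gcd m p := Nat.dvd_gcd h1 dvd_rfl
    rw [Nat.Coprime] at hyp
    rw [hyp] at h2
    exact hp.one_lt.ne' (Nat.dvd_one.mp h2)
  have hxp : (t * y) ^ p = y ^ p := by
    rw [hcomm.mul_pow, ← ht, pow_orderOf_eq_one, one_mul]
  have hxm : (t * y) ^ m = t ^ m := by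
    rw [hcomm.mul_pow, hm, pow_orderOf_eq_one, mul_one]
  -- c commutes with t ^ m = x ^ m
  have h1 : c * (t * y) ^ m = (t * y) ^ m * c := by
    rw [hxm]
    exact ((Commute.pow_right (show Commute c t from hc) m)).eq
  have h2 : c * (t * y) = (t * y) * c := hP (t * y) m (by rw [hxm]; exact htm) c h1
  have h3 : c * y ^ p = y ^ p * c := by
    rw [← hxp]
    exact ((Commute.pow_right (show Commute c (t * y) from h2) p)).eq
  exact hP y p hyp1 c h3

theorem nilpotent_centralizer_of_prime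
    (hP : ∀ (x : T) (j : ℕ), x ^ j ≠ 1 → ∀ a : T, a * x ^ j = x ^ j * a → a * x = x * a)
    (t : T) (p : ℕ) (hp : p.Prime) (ht : orderOf t = p) :
    Group.IsNilpotent (Subgroup.centralizer ({t} : Set T)) := by
  haveI : Fact p.Prime := ⟨hp⟩
  set C := Subgroup.centralizer ({t} : Set T) with hC
  have hmemC : ∀ c : T, c ∈ C ↔ t * c = c * t := by
    intro c
    rw [hC, Subgroup.mem_centralizer_iff]
    simp
  have hpg : IsPGroup p (C ⧸ Subgroup.center C) := by
    intro g
    induction g using QuotientGroup.induction_on with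
    | H c =>
      set n := orderOf (c : T) with hn
      have hn0 : n ≠ 0 := (orderOf_pos (c : T)).ne'
      refine ⟨n.factorization p, ?_⟩
      rw [← QuotientGroup.mk_pow, QuotientGroup.eq_one_iff, Subgroup.mem_center_iff]
      intro d
      apply Subtype.ext
      push_cast
      have hdvd : p ^ n.factorization p ∣ n := Nat.ordProj_dvd n p
      have hord : orderOf ((c : T) ^ (p ^ n.factorization p)) = n / p ^ n.factorization p :=
        orderOf_pow_of_dvd (pow_ne_zero _ hp.ne_zero) hdvd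
      have hcop : (orderOf ((c : T) ^ (p ^ n.factorization p))).Coprime p := by
        rw [hord]
        exact (Nat.coprime_ordCompl hp hn0).symm
      have hcc : t * (c : T) = (c : T) * t := (hmemC _).mp c.2
      have hcy : t * (c : T) ^ (p ^ n.factorization p) = (c : T) ^ (p ^ n.factorization p) * t :=
        (Commute.pow_right (show Commute t (c : T) from hcc) _).eq
      exact central_of_P hP t p hp ht _ hcy hcop (d : T) ((hmemC _).mp d.2).symm
  haveI hnil : Group.IsNilpotent (C ⧸ Subgroup.center C) := hpg.isNilpotent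
  exact Subgroup.isNilpotent_of_ker_le_center (QuotientGroup.mk' (Subgroup.center C))
    (by rw [QuotientGroup.ker_mk'])

theorem cn_of_P
    (hP : ∀ (x : T) (j : ℕ), x ^ j ≠ 1 → ∀ a : T, a * x ^ j = x ^ j * a → a * x = x * a) :
    Cfsg.IsCNGroup T := by
  intro z hz
  set n := orderOf z with hn
  have hn0 : n ≠ 0 := (orderOf_pos z).ne'
  have hn1 : n ≠ 1 := fun h => hz (orderOf_eq_one_iff.mp h)
  set p := n.minFac with hpdef
  have hp : p.Prime := Nat.minFac_prime hn1
  have hpn : p ∣ n := Nat.minFac_dvd n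
  have ht : orderOf (z ^ (n / p)) = p := orderOf_pow_orderOf_div hn0 hpn
  have ht1 : z ^ (n / p) ≠ 1 := by
    intro h
    rw [h, orderOf_one] at ht
    exact hp.one_lt.ne ht
  have heq : Subgroup.centralizer ({z} : Set T) = Subgroup.centralizer ({z ^ (n / p)} : Set T) := by
    ext a
    simp only [Subgroup.mem_centralizer_iff, Set.mem_singleton_iff, forall_eq]
    constructor
    · intro h
      exact (Commute.pow_left (show Commute z a from h) _).eq
    · intro h
      exact (hP z (n / p) ht1 a h.symm).symm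
  rw [heq]
  exact nilpotent_centralizer_of_prime hP _ p hp ht

variable [IsSimpleGroup T]

theorem comm_of_R (hna : ¬ ∀ a b : T, a * b = b * a)
    (hR : ∀ u a : T, a * u * a⁻¹ = u⁻¹ → u = u⁻¹) (w : T) (hw : orderOf w = 2) : False := by
  have hw2 : w * w = 1 := by
    have := pow_orderOf_eq_one w
    rwa [hw, pow_two] at this
  have hw1 : w ≠ 1 := by
    intro h
    rw [h, orderOf_one] at hw
    omega
  have hconj2 : ∀ a : T, (a * w * a⁻¹) * (a * w * a⁻¹) = 1 := by
    intro a
    calc (a * w * a⁻¹) * (a * w * a⁻¹) = a * (w * w) * a⁻¹ := by group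
      _ = 1 := by rw [hw2]; group
  have hcc : ∀ a b : T, (a * w * a⁻¹) * (b * w * b⁻¹) = (b * w * b⁻¹) * (a * w * a⁻¹) := by
    intro a b
    set w1 := a * w * a⁻¹ with hw1def
    set w2 := b * w * b⁻¹ with hw2def
    have e1 : w1⁻¹ = w1 := inv_eq_of_mul_eq_one_left (hconj2 a)
    have e2 : w2⁻¹ = w2 := inv_eq_of_mul_eq_one_left (hconj2 b)
    have hinv : (w1 * w2)⁻¹ = w2 * w1 := by rw [mul_inv_rev, e1, e2]
    have h := hR (w1 * w2) w1 (by
      rw [hinv]
      calc w1 * (w1 * w2) * w1⁻¹ = w1 * (w1 * w2) * w1 := by rw [e1]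
        _ = (w1 * w1) * w2 * w1 := by group
        _ = w2 * w1 := by rw [hconj2 a, one_mul])
    rw [hinv] at h
    exact h
  let A : Subgroup T := Subgroup.centralizer (Set.range fun b : T => b * w * b⁻¹)
  have hA : ∀ x : T, x ∈ A ↔ ∀ b : T, (b * w * b⁻¹) * x = x * (b * w * b⁻¹) := by
    intro x
    show x ∈ Subgroup.centralizer (Set.range fun b : T => b * w * b⁻¹) ↔ _
    rw [Subgroup.mem_centralizer_iff]
    constructor
    · intro h b
      exact h _ ⟨b, rfl⟩
    · rintro h _ ⟨b, rfl⟩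
      exact h b
  have hAn : A.Normal := by
    constructor
    intro x hx c
    rw [hA] at hx ⊢
    intro b
    have h1 := hx (c⁻¹ * b)
    calc b * w * b⁻¹ * (c * x * c⁻¹)
        = c * ((c⁻¹ * b) * w * (c⁻¹ * b)⁻¹ * x) * c⁻¹ := by group
      _ = c * (x * ((c⁻¹ * b) * w * (c⁻¹ * b)⁻¹)) * c⁻¹ := by rw [h1]
      _ = c * x * c⁻¹ * (b * w * b⁻¹) := by group
  have hwA : w ∈ A := by
    rw [hA]
    intro b
    have := hcc b 1
    simpa using this
  rcases IsSimpleGroup.eq_bot_or_eq_top_of_normal A hAn with h | h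
  · rw [h, Subgroup.mem_bot] at hwA
    exact hw1 hwA
  · have hwc : w ∈ Subgroup.center T := by
      rw [Subgroup.mem_center_iff]
      intro x
      have hx : x ∈ A := by rw [h]; trivial
      rw [hA] at hx
      have := hx 1
      simpa using this.symm
    rw [center_eq_bot hna, Subgroup.mem_bot] at hwc
    exact hw1 hwc

/-- LEMMA CNK. -/
theorem cnk (hna : ¬ ∀ a b : T, a * b = b * a)
    {Γ : Type*} [Group Γ] {Ω : Type*} [MulAction Γ Ω] (φ : Ω → T) (hφ : Function.Surjective φ)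
    (hact : ∀ g : Γ, ∃ s : T →* T, (∀ ω : Ω, φ (g • ω) = s (φ ω)) ∨
      (∀ ω : Ω, φ (g • ω) = (s (φ ω))⁻¹))
    (hinn : ∀ a : T, ∃ g : Γ, ∀ ω : Ω, φ (g • ω) = a * φ ω * a⁻¹)
    (hprim : ∀ ω : Ω, MulAction.IsPreprimitive Γ (MulAction.orbit Γ ω)) : False := by
  have hP := cnk_P hna φ hφ hact hinn hprim
  have hR := cnk_R hna φ hφ hact hinn hprim
  rcases Nat.even_or_odd (Nat.card T) with he | ho
  · haveI : Fact (Nat.Prime 2) := ⟨Nat.prime_two⟩
    obtain ⟨w, hw⟩ := exists_prime_orderOf_dvd_card' (G := T) 2 he.two_dvd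
    exact comm_of_R hna hR w hw
  · have hs := Cfsg.Agent.S0183.result ho (cn_of_P hP)
    exact hna (IsSimpleGroup.comm_iff_isSolvable.mpr hs)

end pure

end Cfsg.Agent.Lib.Helper2.EPCNK
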