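import Mathlib
import Cfsg.Agent.Lib.Helper7.EPAbs

set_option autoImplicit false
set_option linter.style.haveILetI false
set_option linter.unusedVariables false

namespace Cfsg.Agent.Lib.Helper7.EPAbs

/-- P-B : diagonal form with at least two blocks is impossible -/
theorem diag_blocks_false {T₀ : Type*} [Group T₀] [Finite T₀] [IsSimpleGroup T₀]
    (hna : ¬ ∀ a b : T₀, a * b = b * a)
    {ι : Type*} [Fintype ι] [DecidableEq ι] {A : Type*} [Group A]
    (ρ : A →* MulAut (ι → T₀)) (π : A →* Equiv.Perm ι) (α : A → ι → MulAut T₀)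
    (D : Subgroup (ι → T₀))
    (hcoord : ∀ a f i, ρ a f (π a i) = α a i (f i))
    (htrans : ∀ i j, ∃ a, π a i = j)
    (hinn : ∀ d ∈ D, ∃ a, ∀ f, ρ a f = d * f * d⁻¹)
    (hcrit : ∀ (f : ι → T₀) (L : Subgroup A), (∀ a, f⁻¹ * ρ a f ∈ D → a ∈ L) →
      (∀ a ∈ L, f⁻¹ * ρ a f ∈ D) ∨ L = ⊤)
    (hDinv : ∀ a, ∀ f ∈ D, ρ a f ∈ D)
    (c : ι → ι) (hDc : ∀ f, f ∈ D ↔ ∀ i j, c i = c j → f i = f j)
    (hk2 : ∀ i, ∃ j, j ≠ i ∧ c j = c i) (hblocks : ∃ i j, c i ≠ c j) : False := by
  obtain ⟨t0, ht0⟩ := exists_ne (1 : T₀)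
  -- block functions lie in D
  have hblockD : ∀ (i0 : ι) (s : T₀), (fun x => if c x = c i0 then s else 1) ∈ D := by
    intro i0 s
    rw [hDc]
    intro i j hij
    simp only [hij]
  -- π a preserves blocks
  have hpres : ∀ (a : A) (i j : ι), c i = c j → c (π a i) = c (π a j) := by
    intro a i j hij
    by_contra hne
    set g : ι → T₀ := fun x => if c x = c (π a i) then t0 else 1 with hg
    have hgD : g ∈ D := hblockD (π a i) t0
    have hhD : ρ a⁻¹ g ∈ D := hDinv a⁻¹ g hgD
    set h := ρ a⁻¹ g with hh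
    have hah : ρ a h = g := by
      rw [hh, ← MulAut.mul_apply, ← map_mul, mul_inv_cancel, map_one, MulAut.one_apply]
    have hij' := (hDc h).mp hhD i j hij
    have e1 := hcoord a h i
    have e2 := hcoord a h j
    rw [hah] at e1 e2
    have g1 : g (π a i) = t0 := by simp [hg]
    have g2 : g (π a j) = 1 := by
      simp only [hg]
      rw [if_neg (Ne.symm hne)]
    rw [g1] at e1
    rw [g2] at e2
    have hj1 : h j = 1 := by
      have : α a j (h j) = α a j 1 := by rw [← e2, map_one]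
      exact (α a j).injective this
    rw [hij', hj1, map_one] at e1
    exact ht0 e1
  obtain ⟨i1, i2, hi12⟩ := hblocks
  let L : Subgroup A :=
    { carrier := {a | c (π a i1) = c i1}
      mul_mem' := by
        intro a b ha hb
        show c (π (a * b) i1) = c i1
        rw [map_mul, Equiv.Perm.mul_apply]
        have hb' : c (π b i1) = c i1 := hb
        have ha' : c (π a i1) = c i1 := ha
        rw [hpres a _ _ hb', ha']
      one_mem' := by
        show c (π 1 i1) = c i1
        rw [map_one]; rfl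
      inv_mem' := by
        intro a ha
        show c (π a⁻¹ i1) = c i1
        have ha' : c (π a i1) = c i1 := ha
        have := hpres a⁻¹ _ _ ha'
        rw [← Equiv.Perm.mul_apply, ← map_mul, inv_mul_cancel, map_one] at this
        exact this.symm }
  have hL : ∀ a, a ∈ L ↔ c (π a i1) = c i1 := fun a => Iff.rfl
  have hLtop : L ≠ ⊤ := by
    intro h
    obtain ⟨a, ha⟩ := htrans i1 i2
    have haL : a ∈ L := by rw [h]; trivial
    rw [hL, ha] at haL
    exact hi12 haL.symm
  obtain ⟨j1, hj1, hcj1⟩ := hk2 i1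
  apply hna
  intro s t
  by_cases ht : t = 1
  · rw [ht]; simp
  have hcr := hcrit (Pi.mulSingle i1 t) L (by
    intro a ha
    rw [hL]
    by_contra hne
    have hπ : π a i1 ≠ i1 := fun h => hne (by rw [h])
    have hπj : j1 ≠ π a i1 := fun h => hne (by rw [← h, hcj1])
    have h1 := (hDc _).mp ha i1 j1 hcj1.symm
    rw [rho_mulSingle ρ π α hcoord, Pi.mul_apply, Pi.mul_apply, Pi.inv_apply, Pi.inv_apply,
      Pi.mulSingle_eq_same, Pi.mulSingle_eq_of_ne (Ne.symm hπ), Pi.mulSingle_eq_of_ne hj1,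
      Pi.mulSingle_eq_of_ne hπj, mul_one, mul_one, inv_one] at h1
    exact ht (inv_eq_one.mp h1))
  rcases hcr with hcr | hcr
  swap
  · exact absurd hcr hLtop
  obtain ⟨a, ha⟩ := hinn _ (hblockD i1 s)
  have hπ : π a i1 = i1 := inn_perm ρ π α hcoord a _ ha i1
  have hα : α a i1 t = s * t * s⁻¹ := by
    rw [inn_alpha ρ π α hcoord a _ ha i1 t]
    simp
  have haL : a ∈ L := by rw [hL, hπ]
  have h1 := (hDc _).mp (hcr a haL) i1 j1 hcj1.symm
  rw [rho_mulSingle ρ π α hcoord, hπ, Pi.mul_apply, Pi.mul_apply, Pi.inv_apply, Pi.inv_apply,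
    Pi.mulSingle_eq_same, Pi.mulSingle_eq_same, Pi.mulSingle_eq_of_ne hj1,
    Pi.mulSingle_eq_of_ne hj1, hα, inv_one, mul_one] at h1
  -- h1 : t⁻¹ * (s * t * s⁻¹) = 1
  have h2 : s * t * s⁻¹ = t := by
    have := congrArg (fun x => t * x) h1
    simpa [mul_assoc] using this
  calc s * t = s * t * s⁻¹ * s := by group
    _ = t * s := by rw [h2]

end Cfsg.Agent.Lib.Helper7.EPAbs
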