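import Mathlib
import Cfsg.Agent.Lib.Helper2.EPCNK

set_option autoImplicit false
set_option linter.style.haveILetI false
set_option linter.unusedVariables false

namespace Cfsg.Agent.Lib.Helper7.EPAbs

/-- P-D : full diagonal with exactly two coordinates is impossible (via `cnk`) -/
theorem diag_two_false {T₀ : Type*} [Group T₀] [Finite T₀] [IsSimpleGroup T₀]
    (hna : ¬ ∀ a b : T₀, a * b = b * a)
    {ι : Type*} [Fintype ι] [DecidableEq ι] {A : Type*} [Group A]
    (ρ : A →* MulAut (ι → T₀)) (π : A →* Equiv.Perm ι) (α : A → ι → MulAut T₀)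
    (D : Subgroup (ι → T₀))
    (hcoord : ∀ a f i, ρ a f (π a i) = α a i (f i))
    (hinn : ∀ d ∈ D, ∃ a, ∀ f, ρ a f = d * f * d⁻¹)
    (hDinv : ∀ a, ∀ f ∈ D, ρ a f ∈ D)
    {Ω' : Type*} [MulAction A Ω'] (pt : (ι → T₀) → Ω') (hpt_surj : Function.Surjective pt)
    (hpt_eq : ∀ f g, pt f = pt g ↔ f⁻¹ * g ∈ D)
    (hpt_act : ∀ a f, a • pt f = pt (ρ a f))
    (hprim : ∀ ω : Ω', MulAction.IsPreprimitive A (MulAction.orbit A ω))
    (hDc : ∀ f, f ∈ D ↔ ∀ i j, f i = f j) (h2 : Fintype.card ι = 2) : False := by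
  rw [← Nat.card_eq_fintype_card, Nat.card_eq_two_iff] at h2
  obtain ⟨i0, i1, hne, huniv⟩ := h2
  have hall : ∀ i : ι, i = i0 ∨ i = i1 := by
    intro i
    have : i ∈ ({i0, i1} : Set ι) := by rw [huniv]; trivial
    simpa using this
  have hD2 : ∀ f : ι → T₀, f ∈ D ↔ f i0 = f i1 := by
    intro f
    rw [hDc]
    constructor
    · intro h; exact h i0 i1
    · intro h i j
      rcases hall i with rfl | rfl <;> rcases hall j with rfl | rfl
      · rfl
      · exact h
      · exact h.symm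
      · rfl
  let φ : Ω' → T₀ := fun ω =>
    (Function.surjInv hpt_surj ω) i0 * ((Function.surjInv hpt_surj ω) i1)⁻¹
  have hwd : ∀ f g : ι → T₀, pt f = pt g → f i0 * (f i1)⁻¹ = g i0 * (g i1)⁻¹ := by
    intro f g hfg
    have h := (hD2 _).mp ((hpt_eq f g).mp hfg)
    simp only [Pi.mul_apply, Pi.inv_apply] at h
    -- h : (f i0)⁻¹ * g i0 = (f i1)⁻¹ * g i1
    have h3 : g i0 = f i0 * ((f i1)⁻¹ * g i1) := by rw [← h]; group
    rw [h3]; group
  have hφ : ∀ f, φ (pt f) = f i0 * (f i1)⁻¹ := by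
    intro f
    exact hwd _ _ (Function.surjInv_eq hpt_surj (pt f))
  -- the two coordinate automorphisms agree
  have hαeq : ∀ a t, α a i0 t = α a i1 t := by
    intro a t
    have hc : (fun _ : ι => t) ∈ D := by rw [hDc]; intro i j; rfl
    have h := (hDc _).mp (hDinv a _ hc) (π a i0) (π a i1)
    rw [hcoord, hcoord] at h
    exact h
  apply Cfsg.Agent.Lib.Helper2.EPCNK.cnk hna (Γ := A) (Ω := Ω') φ
  · intro t
    refine ⟨pt (fun i => if i = i0 then t else 1), ?_⟩
    rw [hφ]
    simp [hne.symm]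
  · intro a
    refine ⟨(α a i0).toMonoidHom, ?_⟩
    have hinjπ : π a i0 ≠ π a i1 := fun h => hne ((π a).injective h)
    rcases hall (π a i0) with h0 | h0
    · left
      have h1 : π a i1 = i1 := by
        rcases hall (π a i1) with h | h
        · exact absurd (h0.trans h.symm) hinjπ
        · exact h
      intro ω
      obtain ⟨f, rfl⟩ := hpt_surj ω
      rw [hpt_act, hφ, hφ]
      have e0 := hcoord a f i0
      have e1 := hcoord a f i1
      rw [h0] at e0
      rw [h1] at e1
      rw [e0, e1, ← hαeq a (f i1)]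
      show _ = (α a i0) (f i0 * (f i1)⁻¹)
      rw [map_mul, map_inv]
    · right
      have h1 : π a i1 = i0 := by
        rcases hall (π a i1) with h | h
        · exact h
        · exact absurd (h0.trans h.symm) hinjπ
      intro ω
      obtain ⟨f, rfl⟩ := hpt_surj ω
      rw [hpt_act, hφ, hφ]
      have e0 := hcoord a f i0
      have e1 := hcoord a f i1
      rw [h0] at e0
      rw [h1] at e1
      rw [e0, e1, ← hαeq a (f i1)]
      show _ = ((α a i0) (f i0 * (f i1)⁻¹))⁻¹
      rw [map_mul, map_inv, mul_inv_rev, inv_inv]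
  · intro t
    have hc : (fun _ : ι => t) ∈ D := by rw [hDc]; intro i j; rfl
    obtain ⟨a, ha⟩ := hinn _ hc
    refine ⟨a, ?_⟩
    intro ω
    obtain ⟨f, rfl⟩ := hpt_surj ω
    rw [hpt_act, hφ, hφ, ha]
    simp only [Pi.mul_apply, Pi.inv_apply]
    group
  · exact hprim

end Cfsg.Agent.Lib.Helper7.EPAbs
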