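import Mathlib
import Cfsg.Agent.Lib.Helper7.EPAbs

set_option autoImplicit false
set_option linter.style.haveILetI false
set_option linter.unusedVariables false

namespace Cfsg.Agent.Lib.Helper7.EPAbs

/-- P-A1 : product form with at least two coordinates: all `K i` are trivial -/
theorem prodK_bot {T₀ : Type*} [Group T₀] [Finite T₀] [IsSimpleGroup T₀]
    {ι : Type*} [Fintype ι] [DecidableEq ι] {A : Type*} [Group A]
    (ρ : A →* MulAut (ι → T₀)) (π : A →* Equiv.Perm ι) (α : A → ι → MulAut T₀)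
    (D : Subgroup (ι → T₀))
    (hcoord : ∀ a f i, ρ a f (π a i) = α a i (f i))
    (htrans : ∀ i j, ∃ a, π a i = j)
    (hinn : ∀ d ∈ D, ∃ a, ∀ f, ρ a f = d * f * d⁻¹)
    (hcrit : ∀ (f : ι → T₀) (L : Subgroup A), (∀ a, f⁻¹ * ρ a f ∈ D → a ∈ L) →
      (∀ a ∈ L, f⁻¹ * ρ a f ∈ D) ∨ L = ⊤)
    (K : ι → Subgroup T₀) (hK : ∀ i, K i ≠ ⊤) (hDK : ∀ f, f ∈ D ↔ ∀ i, f i ∈ K i)
    (h2 : 2 ≤ Fintype.card ι) : ∀ i, K i = ⊥ := by
  intro i1
  let L : Subgroup A := (MulAction.stabilizer (Equiv.Perm ι) i1).comap π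
  have hL : ∀ a, a ∈ L ↔ π a i1 = i1 := by
    intro a
    show π a ∈ MulAction.stabilizer (Equiv.Perm ι) i1 ↔ _
    rw [MulAction.mem_stabilizer_iff]
    rfl
  have hLtop : L ≠ ⊤ := by
    intro h
    have : ∃ j : ι, j ≠ i1 := by
      by_contra hcon
      push Not at hcon
      have : Fintype.card ι ≤ 1 := Fintype.card_le_one_iff.mpr (fun x y => by rw [hcon x, hcon y])
      omega
    obtain ⟨j, hj⟩ := this
    obtain ⟨a, ha⟩ := htrans i1 j
    have haL : a ∈ L := by rw [h]; trivial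
    rw [hL, ha] at haL
    exact hj haL
  -- key: conjugation by elements outside K i1 preserves K i1
  have key : ∀ t : T₀, t ∉ K i1 → ∀ k ∈ K i1, t⁻¹ * k * t ∈ K i1 := by
    intro t ht k hk
    have hcr := hcrit (Pi.mulSingle i1 t) L (by
      intro a ha
      rw [hL]
      by_contra hne
      have h1 := (hDK _).mp ha i1
      rw [rho_mulSingle ρ π α hcoord, Pi.mul_apply, Pi.inv_apply, Pi.mulSingle_eq_same,
        Pi.mulSingle_eq_of_ne (Ne.symm hne), mul_one] at h1
      exact ht (by simpa using (K i1).inv_mem h1))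
    rcases hcr with hcr | hcr
    swap
    · exact absurd hcr hLtop
    have hd : Pi.mulSingle i1 k ∈ D := by
      rw [hDK]
      intro i
      by_cases hi : i = i1
      · subst hi; rw [Pi.mulSingle_eq_same]; exact hk
      · rw [Pi.mulSingle_eq_of_ne hi]; exact (K i).one_mem
    obtain ⟨a, ha⟩ := hinn _ hd
    have hπ : π a i1 = i1 := inn_perm ρ π α hcoord a _ ha i1
    have hα : α a i1 t = k * t * k⁻¹ := by
      rw [inn_alpha ρ π α hcoord a _ ha i1 t, Pi.mulSingle_eq_same]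
    have h1 := (hDK _).mp (hcr a ((hL a).mpr hπ)) i1
    rw [rho_mulSingle ρ π α hcoord, hπ, Pi.mul_apply, Pi.inv_apply, Pi.mulSingle_eq_same,
      Pi.mulSingle_eq_same, hα] at h1
    have h2 := (K i1).mul_mem h1 hk
    have h3 : t⁻¹ * (k * t * k⁻¹) * k = t⁻¹ * k * t := by group
    rw [h3] at h2
    exact h2
  have hnorm : (K i1).Normal := by
    constructor
    intro k hk t
    by_cases ht : t ∈ K i1
    · exact (K i1).mul_mem ((K i1).mul_mem ht hk) ((K i1).inv_mem ht)
    · have ht' : t⁻¹ ∉ K i1 := fun h => ht (by simpa using (K i1).inv_mem h)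
      have := key t⁻¹ ht' k hk
      rwa [inv_inv] at this
  rcases IsSimpleGroup.eq_bot_or_eq_top_of_normal (K i1) hnorm with h | h
  · exact h
  · exact absurd h (hK i1)

end Cfsg.Agent.Lib.Helper7.EPAbs
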