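import Mathlib
import Cfsg.Agent.Lib.Helper2.EPCNK

set_option autoImplicit false
set_option linter.style.haveILetI false
set_option linter.unusedVariables false

namespace Cfsg.Agent.Lib.Helper7.EPAbs

/-- P-E : one coordinate, regular, all inner automorphisms induced: impossible (via `cnk`) -/
theorem regular_one_false {T₀ : Type*} [Group T₀] [Finite T₀] [IsSimpleGroup T₀]
    (hna : ¬ ∀ a b : T₀, a * b = b * a)
    {ι : Type*} [Fintype ι] [DecidableEq ι] {A : Type*} [Group A]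
    (ρ : A →* MulAut (ι → T₀)) (π : A →* Equiv.Perm ι) (α : A → ι → MulAut T₀)
    (D : Subgroup (ι → T₀))
    (hcoord : ∀ a f i, ρ a f (π a i) = α a i (f i))
    {Ω' : Type*} [MulAction A Ω'] (pt : (ι → T₀) → Ω') (hpt_surj : Function.Surjective pt)
    (hpt_eq : ∀ f g, pt f = pt g ↔ f⁻¹ * g ∈ D)
    (hpt_act : ∀ a f, a • pt f = pt (ρ a f))
    (hprim : ∀ ω : Ω', MulAction.IsPreprimitive A (MulAction.orbit A ω))
    (hD : D = ⊥) (h1 : Fintype.card ι = 1)
    (hinn' : ∀ d : ι → T₀, ∃ a, ∀ f, ρ a f = d * f * d⁻¹) : False := by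
  obtain ⟨i0, hi0⟩ := Fintype.card_eq_one_iff.mp h1
  have hinj : Function.Injective pt := by
    intro f g hfg
    have := (hpt_eq f g).mp hfg
    rw [hD, Subgroup.mem_bot] at this
    exact (inv_mul_eq_one.mp this)
  let φ : Ω' → T₀ := fun ω => (Function.surjInv hpt_surj ω) i0
  have hφ : ∀ f, φ (pt f) = f i0 := by
    intro f
    have : Function.surjInv hpt_surj (pt f) = f := hinj (Function.surjInv_eq hpt_surj (pt f))
    show (Function.surjInv hpt_surj (pt f)) i0 = f i0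
    rw [this]
  apply Cfsg.Agent.Lib.Helper2.EPCNK.cnk hna (Γ := A) (Ω := Ω') φ
  · intro t
    exact ⟨pt (fun _ => t), by rw [hφ]⟩
  · intro a
    refine ⟨(α a i0).toMonoidHom, Or.inl ?_⟩
    intro ω
    obtain ⟨f, rfl⟩ := hpt_surj ω
    rw [hpt_act, hφ, hφ]
    have h2 : π a i0 = i0 := hi0 _
    have h3 := hcoord a f i0
    rw [h2] at h3
    exact h3
  · intro t
    obtain ⟨a, ha⟩ := hinn' (fun _ => t)
    refine ⟨a, ?_⟩
    intro ω
    obtain ⟨f, rfl⟩ := hpt_surj ω
    rw [hpt_act, hφ, hφ, ha]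
    rfl
  · exact hprim

end Cfsg.Agent.Lib.Helper7.EPAbs
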