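import Mathlib
import Cfsg.Agent.Lib.Helper4.ES2A

/-!
# Double centralizers in extraspecial 2-groups (elementwise `Data Q z` of helper4)
and the commutator structure of an involution acting on `Q`.
-/

set_option autoImplicit false

namespace Cfsg.Agent.Lib.Helper2.ESDC

open Cfsg.Agent.Lib.Helper4.ES2

variable {G : Type*} [Group G]

/-- the centralizer in `Q` of `X` -/
def cx (Q X : Subgroup G) : Subgroup G := Q ⊓ Subgroup.centralizer (X : Set G)

theorem mem_cx {Q X : Subgroup G} {c : G} : c ∈ cx Q X ↔ c ∈ Q ∧ ∀ x ∈ X, x * c = c * x := by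
  unfold cx
  rw [Subgroup.mem_inf, Subgroup.mem_centralizer_iff]
  rfl

theorem cx_le {Q X : Subgroup G} : cx Q X ≤ Q := inf_le_left

variable [Finite G] {Q : Subgroup G} {z : G}

theorem card_lt_of_not_mem {X : Subgroup G} {y : G} (hyX : y ∉ X) :
    2 * Nat.card X ≤ Nat.card ↥(X ⊔ Subgroup.zpowers y) := by
  have hle : X ≤ X ⊔ Subgroup.zpowers y := le_sup_left
  obtain ⟨k, hk⟩ := Subgroup.card_dvd_of_le hle
  have hpos : 0 < Nat.card ↥(X ⊔ Subgroup.zpowers y) := Nat.card_pos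
  have hposX : 0 < Nat.card X := Nat.card_pos
  have hk1 : k ≠ 1 := by
    intro h1
    rw [h1, mul_one] at hk
    have := Subgroup.eq_of_le_of_card_ge hle hk.le
    apply hyX
    rw [this]
    exact (le_sup_right : Subgroup.zpowers y ≤ X ⊔ Subgroup.zpowers y) (Subgroup.mem_zpowers y)
  have hk0 : k ≠ 0 := by
    intro h0
    rw [h0, mul_zero] at hk
    omega
  have hk2 : 2 ≤ k := by omega
  rw [hk, mul_comm]
  exact Nat.mul_le_mul_left _ hk2

theorem step (h : Data Q z) {X : Subgroup G} {y : G} (hy : y ∈ Q) (hyX : y ∉ X) :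
    Nat.card (cx Q X) * Nat.card X ≤
      Nat.card (cx Q (X ⊔ Subgroup.zpowers y)) * Nat.card ↥(X ⊔ Subgroup.zpowers y) := by
  have e : cx Q (X ⊔ Subgroup.zpowers y) = cx Q X ⊓ Subgroup.centralizer {y} := by
    ext c
    rw [Subgroup.mem_inf, mem_cx, mem_cx, Subgroup.mem_centralizer_singleton_iff]
    constructor
    · rintro ⟨hc, hcomm⟩
      refine ⟨⟨hc, fun x hx => hcomm x ((le_sup_left : X ≤ X ⊔ Subgroup.zpowers y) hx)⟩, ?_⟩
      exact (hcomm y ((le_sup_right : Subgroup.zpowers y ≤ X ⊔ Subgroup.zpowers y)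
        (Subgroup.mem_zpowers y))).symm
    · rintro ⟨⟨hc, hcomm⟩, hyc⟩
      refine ⟨hc, ?_⟩
      have hle : X ⊔ Subgroup.zpowers y ≤ Subgroup.centralizer {c} := by
        apply sup_le
        · intro x hx
          rw [Subgroup.mem_centralizer_singleton_iff]
          exact hcomm x hx
        · rw [Subgroup.zpowers_le, Subgroup.mem_centralizer_singleton_iff]
          exact hyc.symm
      intro x hx
      have := hle hx
      rw [Subgroup.mem_centralizer_singleton_iff] at this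
      exact this
  have h1 : Nat.card (cx Q X) ≤ 2 * Nat.card ↥(cx Q X ⊓ Subgroup.centralizer {y}) :=
    h.card_le_centralizer (M := cx Q X) cx_le hy
  have h2 := card_lt_of_not_mem hyX
  rw [e]
  calc Nat.card (cx Q X) * Nat.card X
      ≤ (2 * Nat.card ↥(cx Q X ⊓ Subgroup.centralizer {y})) * Nat.card X :=
        Nat.mul_le_mul_right _ h1
    _ = Nat.card ↥(cx Q X ⊓ Subgroup.centralizer {y}) * (2 * Nat.card X) := by ring
    _ ≤ Nat.card ↥(cx Q X ⊓ Subgroup.centralizer {y}) * Nat.card ↥(X ⊔ Subgroup.zpowers y) :=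
        Nat.mul_le_mul_left _ h2

theorem mono (h : Data Q z) : ∀ (d : ℕ) (X Y : Subgroup G), X ≤ Y → Y ≤ Q →
    Nat.card Y - Nat.card X = d →
    Nat.card (cx Q X) * Nat.card X ≤ Nat.card (cx Q Y) * Nat.card Y := by
  intro d
  induction d using Nat.strong_induction_on with
  | _ d ih =>
    intro X Y hXY hYQ hd
    by_cases hEq : X = Y
    · subst hEq; exact le_rfl
    · obtain ⟨y, hyY, hyX⟩ : ∃ y ∈ Y, y ∉ X := by
        by_contra hcon
        push Not at hcon
        exact hEq (le_antisymm hXY hcon)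
      have hX'Y : X ⊔ Subgroup.zpowers y ≤ Y :=
        sup_le hXY (by rw [Subgroup.zpowers_le]; exact hyY)
      have h1 := step h (hYQ hyY) hyX
      have h2 := card_lt_of_not_mem hyX
      have hposX : 0 < Nat.card X := Nat.card_pos
      have hle : Nat.card ↥(X ⊔ Subgroup.zpowers y) ≤ Nat.card Y :=
        Nat.le_of_dvd Nat.card_pos (Subgroup.card_dvd_of_le hX'Y)
      have h3 := ih (Nat.card Y - Nat.card ↥(X ⊔ Subgroup.zpowers y)) (by omega) _ _ hX'Y hYQ rfl
      exact h1.trans h3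

omit [Finite G] in
theorem orderOf_z (h : Data Q z) : orderOf z = 2 :=
  orderOf_eq_prime (by rw [pow_two]; exact h.z_sq) h.z_ne

theorem card_cx_mul (h : Data Q z) {X : Subgroup G} (hXQ : X ≤ Q) (hzX : z ∈ X) :
    Nat.card (cx Q X) * Nat.card X = 2 * Nat.card Q := by
  apply le_antisymm
  · -- upper bound: compare with `Q`
    have h1 := mono h _ X Q hXQ le_rfl rfl
    have e : cx Q Q = Subgroup.zpowers z := by
      ext c
      rw [mem_cx]
      constructor
      · rintro ⟨hc, hcomm⟩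
        rcases h.center_sub c hc hcomm with rfl | rfl
        · exact Subgroup.one_mem _
        · exact Subgroup.mem_zpowers _
      · intro hc
        have hzc : Subgroup.zpowers z ≤ Q := by rw [Subgroup.zpowers_le]; exact h.zQ
        refine ⟨hzc hc, ?_⟩
        intro x hx
        obtain ⟨k, rfl⟩ := Subgroup.mem_zpowers_iff.mp hc
        have hcm : Commute x z := h.z_comm x hx
        exact (hcm.zpow_right k).eq
    rw [e, Nat.card_zpowers, orderOf_z h] at h1
    exact h1
  · -- lower bound: compare with `⟨z⟩`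
    have hzle : Subgroup.zpowers z ≤ X := by rw [Subgroup.zpowers_le]; exact hzX
    have h1 := mono h _ (Subgroup.zpowers z) X hzle hXQ rfl
    have e : cx Q (Subgroup.zpowers z) = Q := by
      ext c
      rw [mem_cx]
      constructor
      · exact fun hc => hc.1
      · intro hc
        refine ⟨hc, ?_⟩
        intro x hx
        obtain ⟨k, rfl⟩ := Subgroup.mem_zpowers_iff.mp hx
        have hcm : Commute c z := h.z_comm c hc
        exact (hcm.zpow_right k).eq.symm
    rw [e, Nat.card_zpowers, orderOf_z h, mul_comm] at h1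
    exact h1

/-- the double centralizer property -/
theorem cx_cx (h : Data Q z) {X : Subgroup G} (hXQ : X ≤ Q) (hzX : z ∈ X) :
    cx Q (cx Q X) = X := by
  have hle : X ≤ cx Q (cx Q X) := by
    intro x hx
    rw [mem_cx]
    refine ⟨hXQ hx, ?_⟩
    intro c hc
    exact ((mem_cx.mp hc).2 x hx).symm
  have hz2 : z ∈ cx Q X := by
    rw [mem_cx]
    exact ⟨h.zQ, fun x hx => h.z_comm x (hXQ hx)⟩
  have h1 := card_cx_mul h hXQ hzX
  have h2 := card_cx_mul h (cx_le : cx Q X ≤ Q) hz2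
  have hpos : 0 < Nat.card (cx Q X) := Nat.card_pos
  have h3 : Nat.card (cx Q (cx Q X)) = Nat.card X := by
    have : Nat.card (cx Q X) * Nat.card (cx Q (cx Q X)) = Nat.card (cx Q X) * Nat.card X := by
      rw [h1, mul_comm, h2]
    exact Nat.eq_of_mul_eq_mul_left hpos this
  exact (Subgroup.eq_of_le_of_card_ge hle h3.le).symm

/-- the commutators of an involution `α` acting on `Q` generate the centre of
`Q₀ = {q : [α, q] ∈ ⟨z⟩}` -/
theorem invol_comm_structure (h : Data Q z)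
    (α : G) (hα2 : α * α = 1) (hαz : α * z = z * α) (hαQ : ∀ q ∈ Q, α * q * α⁻¹ ∈ Q)
    (hnc : ∃ q ∈ Q, cm α q ≠ 1)
    (Q₀ : Subgroup G) (hQ₀ : ∀ q : G, q ∈ Q₀ ↔ (q ∈ Q ∧ (cm α q = 1 ∨ cm α q = z))) :
    Subgroup.closure ((fun q : G => cm α q) '' (Q : Set G)) =
      (Subgroup.center ↥Q₀).map Q₀.subtype := by
  have hαinv : α⁻¹ = α := inv_eq_of_mul_eq_one_right hα2
  have hγQ : ∀ q ∈ Q, cm α q ∈ Q := by
    intro q hq
    show α * q * α⁻¹ * q⁻¹ ∈ Q
    exact Q.mul_mem (hαQ q hq) (Q.inv_mem hq)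
  have hτfix : ∀ c : G, (c = 1 ∨ c = z) → α * c * α⁻¹ = c := by
    rintro c (rfl | rfl)
    · group
    · rw [hαz, mul_inv_cancel_right]
  have hinv : ∀ u ∈ Q, ∀ q ∈ Q, cm (α * u * α⁻¹) (α * q * α⁻¹) = cm u q := by
    intro u hu q hq
    have e : cm (α * u * α⁻¹) (α * q * α⁻¹) = α * cm u q * α⁻¹ := by unfold cm; group
    rw [e]
    exact hτfix _ (h.comm_mem u hu q hq)
  have hττ : ∀ u : G, α * (α * u * α⁻¹) * α⁻¹ = u := by
    intro u
    rw [hαinv]
    calc α * (α * u * α) * α = (α * α) * u * (α * α) := by group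
      _ = u := by rw [hα2, one_mul, mul_one]
  have hadj : ∀ u ∈ Q, ∀ q ∈ Q, cm (cm α u) q = cm u (cm α q) := by
    intro u hu q hq
    have hτu := hαQ u hu
    have hτq := hαQ q hq
    have e1 : cm (cm α u) q = cm (α * u * α⁻¹) q * cm u q := by
      show cm (α * u * α⁻¹ * u⁻¹) q = _
      rw [h.cm_mul_left hτu (Q.inv_mem hu) hq, h.cm_inv_left hu hq]
    have e2 : cm u (cm α q) = cm u (α * q * α⁻¹) * cm u q := by
      show cm u (α * q * α⁻¹ * q⁻¹) = _
      rw [h.cm_mul_right hu hτq (Q.inv_mem hq), h.cm_symm hu (Q.inv_mem hq),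
        h.cm_inv_left hq hu, h.cm_symm hq hu]
    have e3 : cm (α * u * α⁻¹) q = cm u (α * q * α⁻¹) := by
      have := hinv (α * u * α⁻¹) hτu q hq
      rw [hττ u] at this
      exact this.symm
    rw [e1, e2, e3]
  have hinvert : ∀ q : G, α * cm α q * α⁻¹ = (cm α q)⁻¹ := by
    intro q
    apply eq_inv_of_mul_eq_one_left
    unfold cm
    rw [hαinv]
    calc α * (α * q * α * q⁻¹) * α * (α * q * α * q⁻¹)
        = (α * α) * q * α * q⁻¹ * (α * α) * q * α * q⁻¹ := by group
      _ = q * α * q⁻¹ * q * α * q⁻¹ := by rw [hα2, one_mul, mul_one]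
      _ = q * (α * α) * q⁻¹ := by group
      _ = 1 := by rw [hα2]; group
  have hγγ : ∀ q ∈ Q, cm α (cm α q) = 1 ∨ cm α (cm α q) = z := by
    intro q hq
    have e : cm α (cm α q) = ((cm α q) * (cm α q))⁻¹ := by
      show α * cm α q * α⁻¹ * (cm α q)⁻¹ = _
      rw [hinvert q, mul_inv_rev]
    rw [e]
    rcases h.sq_mem _ (hγQ q hq) with h1 | h1 <;> rw [h1]
    · left; exact inv_one
    · right; exact h.z_inv
  obtain ⟨K, hK⟩ : ∃ K : Subgroup G,
      K = Subgroup.closure ((fun q : G => cm α q) '' (Q : Set G)) := ⟨_, rfl⟩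
  rw [← hK]
  have hgen : ∀ q ∈ Q, cm α q ∈ K := by
    intro q hq
    rw [hK]
    exact Subgroup.subset_closure ⟨q, hq, rfl⟩
  have hKQ : K ≤ Q := by
    rw [hK, Subgroup.closure_le]
    rintro _ ⟨q, hq, rfl⟩
    exact hγQ q hq
  have hKQ₀ : K ≤ Q₀ := by
    rw [hK, Subgroup.closure_le]
    rintro _ ⟨q, hq, rfl⟩
    exact (hQ₀ _).mpr ⟨hγQ q hq, hγγ q hq⟩
  have hconj : ∀ u ∈ Q, ∀ q ∈ Q, u * cm α q * u⁻¹ ∈ K := by
    intro u hu q hq
    have e : u * cm α q * u⁻¹ = (cm α u)⁻¹ * cm α (u * q) := by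
      rw [cm_mul_right_gen]; group
    rw [e]
    exact K.mul_mem (K.inv_mem (hgen u hu)) (hgen _ (Q.mul_mem hu hq))
  have hzK : z ∈ K := by
    obtain ⟨q₀, hq₀, hne⟩ := hnc
    by_cases hkz : cm α q₀ = z
    · rw [← hkz]; exact hgen q₀ hq₀
    · obtain ⟨y, hy, hyz⟩ := h.exists_nc (hγQ q₀ hq₀) hne hkz
      have hyz' : cm y (cm α q₀) = z := by
        rw [h.cm_symm hy (hγQ q₀ hq₀)]; exact hyz
      rw [← hyz']
      show y * cm α q₀ * y⁻¹ * (cm α q₀)⁻¹ ∈ K
      exact K.mul_mem (hconj y hy q₀ hq₀) (K.inv_mem (hgen q₀ hq₀))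
  have hQ₀eq : Q₀ = cx Q K := by
    ext q
    rw [hQ₀, mem_cx]
    constructor
    · rintro ⟨hq, hγ⟩
      refine ⟨hq, ?_⟩
      have hle : K ≤ Subgroup.centralizer {q} := by
        rw [hK, Subgroup.closure_le]
        rintro _ ⟨u, hu, rfl⟩
        rw [SetLike.mem_coe, Subgroup.mem_centralizer_singleton_iff]
        have h1 : cm (cm α u) q = 1 := by
          rw [hadj u hu q hq]
          rcases hγ with h2 | h2 <;> rw [h2]
          · exact cm_one_right u
          · exact h.cm_z_right hu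
        show cm α u * q = q * cm α u
        exact cm_eq_one_iff.mp h1
      intro x hx
      have := hle hx
      rw [Subgroup.mem_centralizer_singleton_iff] at this
      exact this
    · rintro ⟨hq, hcomm⟩
      refine ⟨hq, ?_⟩
      apply h.center_sub (cm α q) (hγQ q hq)
      intro u hu
      have h1 : cm (cm α u) q = 1 := cm_eq_one_iff.mpr (hcomm _ (hgen u hu))
      rw [hadj u hu q hq] at h1
      exact cm_eq_one_iff.mp h1
  have hcc := cx_cx h hKQ hzK
  ext c
  rw [Subgroup.mem_map]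
  constructor
  · intro hc
    have hcQ₀ := hKQ₀ hc
    refine ⟨⟨c, hcQ₀⟩, ?_, rfl⟩
    rw [Subgroup.mem_center_iff]
    intro q
    apply Subtype.ext
    show (q : G) * c = c * q
    have hq : (q : G) ∈ cx Q K := by rw [← hQ₀eq]; exact q.2
    exact ((mem_cx.mp hq).2 c hc).symm
  · rintro ⟨c, hc, rfl⟩
    rw [← hcc, mem_cx]
    refine ⟨((hQ₀ _).mp c.2).1, ?_⟩
    intro x hx
    have hxQ₀ : x ∈ Q₀ := by rw [hQ₀eq]; exact hx
    have := Subgroup.mem_center_iff.mp hc ⟨x, hxQ₀⟩
    exact congrArg Subtype.val this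

end Cfsg.Agent.Lib.Helper2.ESDC
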