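import Mathlib
set_option autoImplicit false
set_option maxHeartbeats 1000000
set_option linter.unusedVariables false
set_option linter.unusedSectionVars false
set_option linter.style.longLine false
set_option linter.unusedSimpArgs false
set_option linter.deprecated false
set_option linter.style.haveILetI false

/-! Elements of prime order `r ≠ p` of linear groups over a finite field and their invariant
subspaces, part A: the fixed point congruence, minimal invariant subspaces have dimension the order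
of `q` modulo `r`, chains of invariant subspaces. -/

namespace Cfsg.Agent.Lib.Helper2.Elus

open Module Polynomial

universe u v

section General

variable {F : Type u} [Field F] [Fintype F] {V : Type v} [AddCommGroup V] [Module F V]
  [FiniteDimensional F V]

/-- invariance predicate -/
def Inv (f : Module.End F V) (W : Submodule F V) : Prop := ∀ x ∈ W, f x ∈ W

omit [Fintype F] in
theorem Inv.sup {f : Module.End F V} {A B : Submodule F V} (hA : Inv f A) (hB : Inv f B) :
    Inv f (A ⊔ B) := by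
  intro x hx
  obtain ⟨a, ha, b, hb, rfl⟩ := Submodule.mem_sup.mp hx
  rw [map_add]
  exact Submodule.add_mem _ (Submodule.mem_sup_left (hA a ha)) (Submodule.mem_sup_right (hB b hb))

omit [Fintype F] in
theorem inv_bot (f : Module.End F V) : Inv f ⊥ := by
  intro x hx
  rw [Submodule.mem_bot] at hx
  rw [hx, map_zero]
  exact zero_mem _

omit [Fintype F] in
theorem inv_iff_map_le {f : Module.End F V} {W : Submodule F V} : Inv f W ↔ W.map f ≤ W := by
  constructor
  · rintro h _ ⟨x, hx, rfl⟩
    exact h x hx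
  · intro h x hx
    exact h ⟨x, hx, rfl⟩

omit [Fintype F] in
theorem mem_ker_sub_one {f : Module.End F V} {x : V} : x ∈ LinearMap.ker (f - 1) ↔ f x = x := by
  rw [LinearMap.mem_ker, LinearMap.sub_apply, Module.End.one_apply, sub_eq_zero]

omit [Fintype F] in
theorem inv_of_le_ker {f : Module.End F V} {A : Submodule F V} (hA : A ≤ LinearMap.ker (f - 1)) :
    Inv f A := by
  intro x hx
  rw [mem_ker_sub_one.mp (hA hx)]
  exact hx

theorem card_modEq_card_ker (g : Module.End F V) (r : ℕ) [hr : Fact r.Prime] (hg : g ^ r = 1) :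
    Nat.card V ≡ Nat.card (LinearMap.ker (g - 1)) [MOD r] := by
  classical
  have hr0 : r ≠ 0 := hr.out.ne_zero
  let u : (Module.End F V)ˣ := Units.ofPowEqOne g r hg hr0
  have hu : (u : Module.End F V) = g := rfl
  have hur : u ^ r = 1 := Units.pow_ofPowEqOne hg hr0
  have hG : IsPGroup r (Subgroup.zpowers u) := by
    rintro ⟨x, hx⟩
    obtain ⟨z, rfl⟩ := Subgroup.mem_zpowers_iff.mp hx
    refine ⟨1, Subtype.ext ?_⟩
    show (u ^ z) ^ (r ^ 1) = 1
    rw [pow_one, ← zpow_natCast, ← zpow_mul, mul_comm, zpow_mul, zpow_natCast, hur, one_zpow]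
  haveI : Finite V := Module.finite_of_finite F
  have h := hG.card_modEq_card_fixedPoints V
  have hfix : MulAction.fixedPoints (Subgroup.zpowers u) V = (LinearMap.ker (g - 1) : Set V) := by
    ext v
    rw [MulAction.mem_fixedPoints, SetLike.mem_coe, mem_ker_sub_one]
    constructor
    · intro h
      exact h ⟨u, Subgroup.mem_zpowers u⟩
    · intro h x
      obtain ⟨x, hx⟩ := x
      have : x ∈ MulAction.stabilizer (Module.End F V)ˣ v := by
        obtain ⟨z, rfl⟩ := Subgroup.mem_zpowers_iff.mp hx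
        apply Subgroup.zpow_mem
        rw [MulAction.mem_stabilizer_iff]
        exact h
      exact this
  rw [hfix] at h
  exact h

theorem orderOf_dvd_sub (g : Module.End F V) (r : ℕ) [hr : Fact r.Prime] (hg : g ^ r = 1)
    (hrq : ¬ r ∣ Fintype.card F) :
    orderOf ((Fintype.card F : ℕ) : ZMod r) ∣
      finrank F V - finrank F (LinearMap.ker (g - 1)) := by
  haveI : Finite V := Module.finite_of_finite F
  have h := card_modEq_card_ker g r hg
  rw [Module.natCard_eq_pow_finrank (K := F),
    Module.natCard_eq_pow_finrank (K := F) (V := LinearMap.ker (g - 1)),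
    Nat.card_eq_fintype_card] at h
  have h2 := (ZMod.natCast_eq_natCast_iff _ _ _).mpr h
  push_cast at h2
  have hle : finrank F (LinearMap.ker (g - 1)) ≤ finrank F V := Submodule.finrank_le _
  have hunit : IsUnit ((Fintype.card F : ℕ) : ZMod r) := by
    rw [ZMod.isUnit_iff_coprime]
    exact ((Nat.Prime.coprime_iff_not_dvd hr.out).mpr hrq).symm
  apply orderOf_dvd_of_pow_eq_one
  have h3 : ((Fintype.card F : ℕ) : ZMod r) ^ finrank F (LinearMap.ker (g - 1)) *
      ((Fintype.card F : ℕ) : ZMod r) ^ (finrank F V - finrank F (LinearMap.ker (g - 1))) =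
      ((Fintype.card F : ℕ) : ZMod r) ^ finrank F (LinearMap.ker (g - 1)) * 1 := by
    rw [← pow_add, Nat.add_sub_cancel' hle, mul_one]
    exact h2
  exact (hunit.pow _).mul_left_cancel h3

theorem ord_pos (r : ℕ) [hr : Fact r.Prime] (q : ℕ) (hrq : ¬ r ∣ q) :
    0 < orderOf ((q : ℕ) : ZMod r) := by
  have hcop : q.Coprime r := ((Nat.Prime.coprime_iff_not_dvd hr.out).mpr hrq).symm
  have : ((ZMod.unitOfCoprime q hcop : (ZMod r)ˣ) : ZMod r) = (q : ZMod r) :=
    ZMod.coe_unitOfCoprime q hcop
  rw [← this, orderOf_units]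
  exact orderOf_pos _

omit [Fintype F] in
theorem isSemisimple_of_pow_eq_one (y : Module.End F V) (r : ℕ) (hr : (r : F) ≠ 0)
    (hy : y ^ r = 1) : y.IsSemisimple := by
  apply Module.End.isSemisimple_of_squarefree_aeval_eq_zero (p := X ^ r - 1)
  · exact (X_pow_sub_one_separable_iff.mpr hr).squarefree
  · simp [hy]

theorem finrank_of_simple {p f₀ : ℕ} [hp : Fact p.Prime] (hq : Fintype.card F = p ^ f₀)
    {U : Type v} [AddCommGroup U] [Module F U] [FiniteDimensional F U] [Nontrivial U]
    (g : Module.End F U) (r : ℕ) [hr : Fact r.Prime] (hrp : r ≠ p) (hg : g ^ r = 1)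
    (hsimple : ∀ W : Submodule F U, (∀ x ∈ W, g x ∈ W) → W = ⊥ ∨ W = ⊤)
    (hfix : LinearMap.ker (g - 1) = ⊥) :
    finrank F U = orderOf ((Fintype.card F : ℕ) : ZMod r) := by
  have hint : IsIntegral F g := LinearMap.isIntegral g
  have hmon : (minpoly F g).Monic := minpoly.monic hint
  have hμ0 : minpoly F g ≠ 0 := minpoly.ne_zero hint
  have hcomm : ∀ P : F[X], aeval g P * g = g * aeval g P := by
    intro P
    have : aeval g (P * X) = aeval g (X * P) := by rw [mul_comm]
    simpa [map_mul, aeval_X] using this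
  have K1 : ∀ P : F[X], LinearMap.ker (aeval g P) = ⊥ ∨ aeval g P = 0 := by
    intro P
    have hinv : ∀ x ∈ LinearMap.ker (aeval g P), g x ∈ LinearMap.ker (aeval g P) := by
      intro x hx
      rw [LinearMap.mem_ker] at hx ⊢
      have := congrArg (fun T : Module.End F U => T x) (hcomm P)
      simp only [Module.End.mul_apply] at this
      rw [this, hx, map_zero]
    rcases hsimple (LinearMap.ker (aeval g P)) hinv with h | h
    · exact Or.inl h
    · exact Or.inr (LinearMap.ker_eq_top.mp h)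
  have hirr : Irreducible (minpoly F g) := by
    rw [irreducible_iff]
    refine ⟨minpoly.not_isUnit F g, fun a b hab => ?_⟩
    have hab0 : aeval g a * aeval g b = 0 := by
      rw [← map_mul, ← hab]
      exact minpoly.aeval F g
    rcases K1 a with h | h
    · have hb0 : aeval g b = 0 := by
        apply LinearMap.ext
        intro v
        have h1 : aeval g a (aeval g b v) = 0 := by
          have := congrArg (fun T : Module.End F U => T v) hab0
          simpa [Module.End.mul_apply] using this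
        have h2 : aeval g b v ∈ LinearMap.ker (aeval g a) := h1
        rw [h] at h2
        simpa using h2
      obtain ⟨c, hc⟩ := minpoly.dvd F g hb0
      left
      have h3 : minpoly F g * 1 = minpoly F g * (a * c) := by
        rw [mul_one]
        conv_lhs => rw [hab, hc]
        ring
      have h4 := mul_left_cancel₀ hμ0 h3
      exact IsUnit.of_mul_eq_one c h4.symm
    · obtain ⟨c, hc⟩ := minpoly.dvd F g h
      right
      have h3 : minpoly F g * 1 = minpoly F g * (b * c) := by
        rw [mul_one]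
        conv_lhs => rw [hab, hc]
        ring
      have h4 := mul_left_cancel₀ hμ0 h3
      exact IsUnit.of_mul_eq_one c h4.symm
  have hdvd : minpoly F g ∣ X ^ r - 1 := by
    apply minpoly.dvd F g
    simp [hg]
  rw [← cyclotomic_prime_mul_X_sub_one F r] at hdvd
  have hcyc : minpoly F g ∣ cyclotomic r F := by
    rcases hirr.prime.dvd_or_dvd hdvd with h | h
    · exact h
    · exfalso
      obtain ⟨c, hc⟩ := h
      have h0 : aeval g (X - 1 : F[X]) = 0 := by
        rw [hc, map_mul, minpoly.aeval, zero_mul]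
      have h1 : g - 1 = 0 := by simpa using h0
      have h2 : LinearMap.ker (g - 1) = ⊤ := by
        rw [h1]
        exact LinearMap.ker_zero
      rw [hfix] at h2
      exact bot_ne_top h2
  have hcop : p.Coprime r := (Nat.coprime_primes hp.out hr.out).mpr (Ne.symm hrp)
  have hdeg := natDegree_of_dvd_cyclotomic_of_irreducible hq hcop hcyc hirr
  have hord : orderOf (ZMod.unitOfCoprime (p ^ f₀) (hcop.pow_left f₀)) =
      orderOf ((Fintype.card F : ℕ) : ZMod r) := by
    rw [← orderOf_units, ZMod.coe_unitOfCoprime, hq]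
  rw [hord] at hdeg
  obtain ⟨u, hu⟩ := exists_ne (0 : U)
  let φ : F[X] →ₗ[F] U := (LinearMap.applyₗ u).comp (aeval g).toLinearMap
  have hφ : ∀ P, φ P = aeval g P u := fun P => rfl
  have hrange : LinearMap.range φ = ⊤ := by
    have hinv : ∀ x ∈ LinearMap.range φ, g x ∈ LinearMap.range φ := by
      rintro _ ⟨P, rfl⟩
      refine ⟨X * P, ?_⟩
      simp [hφ, map_mul, aeval_X, Module.End.mul_apply]
    rcases hsimple (LinearMap.range φ) hinv with h | h
    · exfalso
      have h1 : u ∈ LinearMap.range φ := ⟨1, by simp [hφ]⟩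
      rw [h] at h1
      exact hu (by simpa using h1)
    · exact h
  have hle : finrank F U ≤ (minpoly F g).natDegree := by
    have h1 : (⊤ : Submodule F U) ≤ (degreeLT F (minpoly F g).natDegree).map φ := by
      rw [← hrange]
      rintro _ ⟨P, rfl⟩
      refine ⟨P %ₘ minpoly F g, ?_, ?_⟩
      · rw [SetLike.mem_coe, mem_degreeLT]
        calc (P %ₘ minpoly F g).degree < (minpoly F g).degree := degree_modByMonic_lt _ hmon
          _ = (minpoly F g).natDegree := degree_eq_natDegree hμ0
      · have h2 := modByMonic_add_div P (minpoly F g)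
        conv_rhs => rw [← h2]
        simp [hφ, map_add, map_mul, minpoly.aeval]
    haveI : Module.Finite F (degreeLT F (minpoly F g).natDegree) :=
      Module.Finite.equiv (degreeLTEquiv F (minpoly F g).natDegree).symm
    calc finrank F U = finrank F (⊤ : Submodule F U) := (finrank_top F U).symm
      _ ≤ finrank F ((degreeLT F (minpoly F g).natDegree).map φ) := Submodule.finrank_mono h1
      _ ≤ finrank F (degreeLT F (minpoly F g).natDegree) := Submodule.finrank_map_le _ _
      _ = (minpoly F g).natDegree := by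
        rw [LinearEquiv.finrank_eq (degreeLTEquiv F (minpoly F g).natDegree),
          Module.finrank_fin_fun]
  have hq' : ¬ r ∣ Fintype.card F := by
    rw [hq]
    intro h
    exact hrp ((Nat.prime_dvd_prime_iff_eq hr.out hp.out).mp (hr.out.dvd_of_dvd_pow h))
  have hdv := orderOf_dvd_sub g r hg hq'
  rw [hfix, finrank_bot, Nat.sub_zero] at hdv
  have hpos : 0 < finrank F U := Module.finrank_pos
  rw [hdeg] at hle
  exact Nat.le_antisymm hle (Nat.le_of_dvd hpos hdv)

omit [Fintype F] in
theorem exists_minimal_inv (f : Module.End F V) : ∀ (k : ℕ) (W : Submodule F V),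
    finrank F W = k → W ≠ ⊥ → Inv f W →
    ∃ U : Submodule F V, U ≤ W ∧ U ≠ ⊥ ∧ Inv f U ∧
      ∀ X : Submodule F V, X ≤ U → Inv f X → X = ⊥ ∨ X = U := by
  intro k
  induction k using Nat.strong_induction_on with
  | _ k ih =>
    intro W hk hW0 hW
    by_cases hmin : ∀ X : Submodule F V, X ≤ W → Inv f X → X = ⊥ ∨ X = W
    · exact ⟨W, le_rfl, hW0, hW, hmin⟩
    · push Not at hmin
      obtain ⟨X, hXW, hX, hX0, hXne⟩ := hmin
      have hlt : X < W := lt_of_le_of_ne hXW hXne
      have h1 := Submodule.finrank_lt_finrank_of_lt hlt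
      obtain ⟨U, hUX, hU0, hU, hUmin⟩ := ih (finrank F X) (hk ▸ h1) X rfl hX0 hX
      exact ⟨U, hUX.trans hXW, hU0, hU, hUmin⟩

theorem finrank_of_minimal {p f₀ : ℕ} [hp : Fact p.Prime] (hq : Fintype.card F = p ^ f₀)
    (y : Module.End F V) (r : ℕ) [hr : Fact r.Prime] (hrp : r ≠ p) (hy : y ^ r = 1)
    (U : Submodule F V) (hU : Inv y U) (hU0 : U ≠ ⊥)
    (hmin : ∀ X : Submodule F V, X ≤ U → Inv y X → X = ⊥ ∨ X = U)
    (hUC : Disjoint U (LinearMap.ker (y - 1))) :
    finrank F U = orderOf ((Fintype.card F : ℕ) : ZMod r) := by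
  haveI : Nontrivial U := (Submodule.nontrivial_iff_ne_bot).mpr hU0
  have hg : (y.restrict hU) ^ r = 1 := by
    rw [Module.End.pow_restrict r hU]
    refine LinearMap.ext fun x => Subtype.ext ?_
    rw [LinearMap.restrict_coe_apply, hy]
    rfl
  apply finrank_of_simple hq (y.restrict hU) r hrp hg
  · intro W' hW'
    have h1 : W'.map U.subtype ≤ U := Submodule.map_subtype_le U W'
    have h2 : Inv y (W'.map U.subtype) := by
      rintro x ⟨w, hw, rfl⟩
      exact ⟨y.restrict hU w, hW' w hw, rfl⟩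
    rcases hmin _ h1 h2 with h | h
    · left
      rw [Submodule.eq_bot_iff]
      intro w hw
      have h3 : (U.subtype w) ∈ W'.map U.subtype := ⟨w, hw, rfl⟩
      rw [h] at h3
      exact Subtype.ext ((Submodule.mem_bot F).mp h3)
    · right
      rw [Submodule.eq_top_iff']
      intro w
      have h3 : (w : V) ∈ W'.map U.subtype := by rw [h]; exact w.2
      obtain ⟨w', hw', e⟩ := h3
      have h4 : w' = w := Subtype.ext e
      exact h4 ▸ hw'
  · rw [Submodule.eq_bot_iff]
    intro w hw
    rw [mem_ker_sub_one] at hw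
    have h1 : (w : V) ∈ LinearMap.ker (y - 1) := by
      rw [mem_ker_sub_one]
      have h5 : ((y.restrict hU w : U) : V) = (w : V) := congrArg Subtype.val hw
      exact h5
    have := (Submodule.disjoint_def.mp hUC) (w : V) w.2 h1
    exact Subtype.ext this

omit [Fintype F] in
theorem finrank_sup_of_disjoint {A B : Submodule F V} (h : Disjoint A B) :
    finrank F (A ⊔ B : Submodule F V) = finrank F A + finrank F B := by
  have := Submodule.finrank_sup_add_finrank_inf_eq A B
  rw [h.eq_bot, finrank_bot, add_zero] at this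
  exact this

theorem exists_step {p f₀ : ℕ} [hp : Fact p.Prime] (hq : Fintype.card F = p ^ f₀)
    (y : Module.End F V) (r : ℕ) [hr : Fact r.Prime] (hrp : r ≠ p) (hrF : (r : F) ≠ 0)
    (hy : y ^ r = 1)
    (B : Submodule F V) (hB : Inv y B) (hBC : Disjoint B (LinearMap.ker (y - 1)))
    (hlt : finrank F B + finrank F (LinearMap.ker (y - 1)) < finrank F V) :
    ∃ B' : Submodule F V, B ≤ B' ∧ Inv y B' ∧ Disjoint B' (LinearMap.ker (y - 1)) ∧
      finrank F B' = finrank F B + orderOf ((Fintype.card F : ℕ) : ZMod r) := by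
  have hCinv : Inv y (LinearMap.ker (y - 1)) := inv_of_le_ker le_rfl
  have hXinv : Inv y (B ⊔ LinearMap.ker (y - 1)) := hB.sup hCinv
  have hss : y.IsSemisimple := isSemisimple_of_pow_eq_one y r hrF hy
  obtain ⟨W', hW'inv, hcompl⟩ := (Module.End.isSemisimple_iff.mp hss) (B ⊔ LinearMap.ker (y - 1))
    (by rw [Module.End.mem_invtSubmodule]; exact fun x hx => hXinv x hx)
  rw [Module.End.mem_invtSubmodule] at hW'inv
  have hW'inv' : Inv y W' := fun x hx => hW'inv hx
  have hXfin := finrank_sup_of_disjoint hBC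
  have hW'0 : W' ≠ ⊥ := by
    intro h
    rw [h] at hcompl
    have h1 : B ⊔ LinearMap.ker (y - 1) = ⊤ := by simpa using hcompl.sup_eq_top
    have h2 : finrank F (B ⊔ LinearMap.ker (y - 1) : Submodule F V) = finrank F V := by
      rw [h1, finrank_top]
    omega
  obtain ⟨U, hUW, hU0, hUinv, hUmin⟩ := exists_minimal_inv y _ W' rfl hW'0 hW'inv'
  have hdisjXU : Disjoint (B ⊔ LinearMap.ker (y - 1)) U := hcompl.disjoint.mono_right hUW
  have hUC : Disjoint U (LinearMap.ker (y - 1)) := (hdisjXU.mono_left le_sup_right).symm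
  have hUfin := finrank_of_minimal hq y r hrp hy U hUinv hU0 hUmin hUC
  refine ⟨B ⊔ U, le_sup_left, hB.sup hUinv, ?_, ?_⟩
  · have h1 : Disjoint (LinearMap.ker (y - 1)) B := hBC.symm
    have h2 : Disjoint (LinearMap.ker (y - 1) ⊔ B) U := by
      rw [sup_comm]
      exact hdisjXU
    exact (h1.disjoint_sup_right_of_disjoint_sup_left h2).symm
  · have hBU : Disjoint B U := hdisjXU.mono_left le_sup_left
    rw [finrank_sup_of_disjoint hBU, hUfin]

theorem exists_chain {p f₀ : ℕ} [hp : Fact p.Prime] (hq : Fintype.card F = p ^ f₀)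
    (y : Module.End F V) (r : ℕ) [hr : Fact r.Prime] (hrp : r ≠ p) (hrF : (r : F) ≠ 0)
    (hy : y ^ r = 1)
    (B : Submodule F V) (hB : Inv y B) (hBC : Disjoint B (LinearMap.ker (y - 1)))
    (b₁ b₂ : ℕ) (hfin : finrank F B = orderOf ((Fintype.card F : ℕ) : ZMod r) * b₁)
    (h12 : b₁ ≤ b₂)
    (hle : orderOf ((Fintype.card F : ℕ) : ZMod r) * b₂ + finrank F (LinearMap.ker (y - 1)) ≤
      finrank F V) :
    ∃ B' : Submodule F V, B ≤ B' ∧ Inv y B' ∧ Disjoint B' (LinearMap.ker (y - 1)) ∧
      finrank F B' = orderOf ((Fintype.card F : ℕ) : ZMod r) * b₂ := by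
  have hq' : ¬ r ∣ Fintype.card F := by
    rw [hq]
    intro h
    exact hrp ((Nat.prime_dvd_prime_iff_eq hr.out hp.out).mp (hr.out.dvd_of_dvd_pow h))
  have hipos := ord_pos r (Fintype.card F) hq'
  induction b₂, h12 using Nat.le_induction with
  | base => exact ⟨B, le_rfl, hB, hBC, hfin⟩
  | succ b hb ih =>
    rw [Nat.mul_succ] at hle
    obtain ⟨B1, h1, h2, h3, h4⟩ := ih (by omega)
    obtain ⟨B2, k1, k2, k3, k4⟩ := exists_step hq y r hrp hrF hy B1 h2 h3 (by rw [h4]; omega)
    exact ⟨B2, h1.trans k1, k2, k3, by rw [k4, h4, Nat.mul_succ]⟩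

omit [Fintype F] in
theorem exists_between (A C : Submodule F V) (hAC : A ≤ C) (a : ℕ) (h1 : finrank F A ≤ a)
    (h2 : a ≤ finrank F C) :
    ∃ A' : Submodule F V, A ≤ A' ∧ A' ≤ C ∧ finrank F A' = a := by
  induction a, h1 using Nat.le_induction with
  | base => exact ⟨A, le_rfl, hAC, rfl⟩
  | succ k hk ih =>
    obtain ⟨A1, hA1, hA1C, hf⟩ := ih (by omega)
    have hne : A1 ≠ C := by
      intro h
      rw [h] at hf
      omega
    have hlt : A1 < C := lt_of_le_of_ne hA1C hne
    obtain ⟨v, hvC, hvA⟩ := SetLike.exists_of_lt hlt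
    have hv0 : v ≠ 0 := by
      rintro rfl
      exact hvA (zero_mem _)
    have hdisj : Disjoint A1 (Submodule.span F {v}) := by
      rw [Submodule.disjoint_span_singleton' hv0]
      exact hvA
    refine ⟨A1 ⊔ Submodule.span F {v}, le_sup_of_le_left hA1,
      sup_le hA1C ((Submodule.span_singleton_le_iff_mem v C).mpr hvC), ?_⟩
    have h3 := Submodule.finrank_sup_add_finrank_inf_eq A1 (Submodule.span F {v})
    rw [hdisj.eq_bot, finrank_bot, add_zero, finrank_span_singleton hv0] at h3
    rw [h3, hf]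

theorem exists_flag {p f₀ : ℕ} [hp : Fact p.Prime] (hq : Fintype.card F = p ^ f₀)
    (y : Module.End F V) (r : ℕ) [hr : Fact r.Prime] (hrp : r ≠ p) (hrF : (r : F) ≠ 0)
    (hy : y ^ r = 1) (a₁ a₂ b₁ b₂ : ℕ) (ha : a₁ ≤ a₂)
    (ha2 : a₂ ≤ finrank F (LinearMap.ker (y - 1))) (hb : b₁ ≤ b₂)
    (hle : orderOf ((Fintype.card F : ℕ) : ZMod r) * b₂ + finrank F (LinearMap.ker (y - 1)) ≤
      finrank F V) :
    ∃ U W : Submodule F V, U ≤ W ∧ Inv y U ∧ Inv y W ∧
      finrank F U = a₁ + orderOf ((Fintype.card F : ℕ) : ZMod r) * b₁ ∧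
      finrank F W = a₂ + orderOf ((Fintype.card F : ℕ) : ZMod r) * b₂ := by
  obtain ⟨A1, -, hA1C, hA1f⟩ := exists_between (⊥ : Submodule F V) (LinearMap.ker (y - 1)) bot_le a₁
    (by simp) (ha.trans ha2)
  obtain ⟨A2, hA12, hA2C, hA2f⟩ := exists_between A1 (LinearMap.ker (y - 1)) hA1C a₂
    (by rw [hA1f]; exact ha) ha2
  obtain ⟨B1, -, hB1inv, hB1C, hB1f⟩ := exists_chain hq y r hrp hrF hy ⊥ (inv_bot y)
    disjoint_bot_left 0 b₁ (by simp) (Nat.zero_le _)
    (le_trans (Nat.add_le_add_right (Nat.mul_le_mul_left _ hb) _) hle)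
  obtain ⟨B2, hB12, hB2inv, hB2C, hB2f⟩ := exists_chain hq y r hrp hrF hy B1 hB1inv hB1C b₁ b₂
    hB1f hb hle
  refine ⟨A1 ⊔ B1, A2 ⊔ B2, sup_le_sup hA12 hB12, (inv_of_le_ker hA1C).sup hB1inv,
    (inv_of_le_ker hA2C).sup hB2inv, ?_, ?_⟩
  · have hd : Disjoint A1 B1 := (hB1C.mono_right hA1C).symm
    rw [finrank_sup_of_disjoint hd, hA1f, hB1f]
  · have hd : Disjoint A2 B2 := (hB2C.mono_right hA2C).symm
    rw [finrank_sup_of_disjoint hd, hA2f, hB2f]

theorem exists_inv_finrank {p f₀ : ℕ} [hp : Fact p.Prime] (hq : Fintype.card F = p ^ f₀)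
    (y : Module.End F V) (r : ℕ) [hr : Fact r.Prime] (hrp : r ≠ p) (hrF : (r : F) ≠ 0)
    (hy : y ^ r = 1) (m : ℕ) (hmn : m ≤ finrank F V)
    (hmod : m % orderOf ((Fintype.card F : ℕ) : ZMod r) ≤ finrank F (LinearMap.ker (y - 1))) :
    ∃ W : Submodule F V, finrank F W = m ∧ Inv y W := by
  have hq' : ¬ r ∣ Fintype.card F := by
    rw [hq]
    intro h
    exact hrp ((Nat.prime_dvd_prime_iff_eq hr.out hp.out).mp (hr.out.dvd_of_dvd_pow h))
  obtain ⟨s, hs⟩ := orderOf_dvd_sub y r hy hq'
  have hle : finrank F (LinearMap.ker (y - 1)) ≤ finrank F V := Submodule.finrank_le _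
  have hm := Nat.mod_add_div m (orderOf ((Fintype.card F : ℕ) : ZMod r))
  by_cases hts : m / orderOf ((Fintype.card F : ℕ) : ZMod r) ≤ s
  · have h1 := Nat.mul_le_mul_left (orderOf ((Fintype.card F : ℕ) : ZMod r)) hts
    obtain ⟨U, W, -, hU, -, hUf, -⟩ := exists_flag hq y r hrp hrF hy
      (m % orderOf ((Fintype.card F : ℕ) : ZMod r)) (m % orderOf ((Fintype.card F : ℕ) : ZMod r))
      (m / orderOf ((Fintype.card F : ℕ) : ZMod r)) (m / orderOf ((Fintype.card F : ℕ) : ZMod r))
      le_rfl hmod le_rfl (by omega)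
    exact ⟨U, by rw [hUf]; exact hm, hU⟩
  · push Not at hts
    have h1 := Nat.mul_le_mul_left (orderOf ((Fintype.card F : ℕ) : ZMod r)) hts.le
    obtain ⟨U, W, -, hU, -, hUf, -⟩ := exists_flag hq y r hrp hrF hy
      (m - orderOf ((Fintype.card F : ℕ) : ZMod r) * s)
      (m - orderOf ((Fintype.card F : ℕ) : ZMod r) * s) s s
      le_rfl (by omega) le_rfl (by omega)
    exact ⟨U, by rw [hUf]; omega, hU⟩

end General

end Cfsg.Agent.Lib.Helper2.Elus
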