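import Mathlib
import Cfsg.Agent.Lib.Helper2.ElusA
set_option autoImplicit false
set_option maxHeartbeats 1000000
set_option linter.unusedVariables false
set_option linter.unusedSectionVars false
set_option linter.style.longLine false
set_option linter.unusedSimpArgs false
set_option linter.deprecated false
set_option linter.style.haveILetI false

/-! Part B: linear maps `f` with `f ^ r = c • 1` where `c` is not an `r`-th power: every invariant
subspace has dimension divisible by `r`, there are chains of invariant subspaces of all such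
dimensions, and the determinant is `((-1)^(r+1) c)^(n/r)`. -/

namespace Cfsg.Agent.Lib.Helper2.Elus

open Module Polynomial

universe u v

section CaseB

variable {F : Type u} [Field F] {V : Type v} [AddCommGroup V] [Module F V]
  [FiniteDimensional F V]

theorem restrict_pow_smul {f : Module.End F V} {r : ℕ} {c : F} (hf : f ^ r = c • 1)
    {W : Submodule F V} (hW : Inv f W) : (f.restrict hW) ^ r = c • 1 := by
  rw [Module.End.pow_restrict r hW]
  refine LinearMap.ext fun x => Subtype.ext ?_
  show (f ^ r) (x : V) = ((c • (1 : Module.End F W)) x : W)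
  rw [hf]
  rfl

theorem dvd_finrank_of_inv (f : Module.End F V) (r : ℕ) [hr : Fact r.Prime] (c : F)
    (hf : f ^ r = c • 1) (hc : ∀ b : F, b ^ r ≠ c) (W : Submodule F V) (hW : Inv f W) :
    r ∣ finrank F W := by
  by_contra hnd
  have hr0 : r ≠ 0 := hr.out.ne_zero
  have hc0 : c ≠ 0 := by
    rintro rfl
    exact hc 0 (zero_pow hr0)
  have hg := restrict_pow_smul hf hW
  have hdet : (LinearMap.det (f.restrict hW)) ^ r = c ^ finrank F W := by
    rw [← map_pow, hg, LinearMap.det_smul, map_one, mul_one]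
  have hcop : Nat.Coprime (finrank F W) r := ((Nat.Prime.coprime_iff_not_dvd hr.out).mpr hnd).symm
  have hbez := Nat.gcd_eq_gcd_ab (finrank F W) r
  rw [hcop.gcd_eq_one] at hbez
  have hδ0 : LinearMap.det (f.restrict hW) ≠ 0 := by
    intro h
    rw [h, zero_pow hr0] at hdet
    exact (pow_ne_zero _ hc0) hdet.symm
  apply hc (LinearMap.det (f.restrict hW) ^ (Nat.gcdA (finrank F W) r) *
    c ^ (Nat.gcdB (finrank F W) r))
  rw [mul_pow, ← zpow_natCast (LinearMap.det (f.restrict hW) ^ (Nat.gcdA (finrank F W) r)) r,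
    ← zpow_mul, mul_comm (Nat.gcdA (finrank F W) r) (r : ℤ), zpow_mul, zpow_natCast, hdet,
    ← zpow_natCast (c ^ Nat.gcdB (finrank F W) r) r, ← zpow_mul, ← zpow_natCast c (finrank F W),
    ← zpow_mul, ← zpow_add₀ hc0]
  have h1 : ((finrank F W : ℕ) : ℤ) * Nat.gcdA (finrank F W) r +
      Nat.gcdB (finrank F W) r * (r : ℤ) = 1 := by
    push_cast at hbez
    linarith
  rw [h1, zpow_one]

/-- the cyclic subspace spanned by `u, f u, …, f^(r-1) u` -/
def cyc (f : Module.End F V) (r : ℕ) (u : V) : Submodule F V :=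
  Submodule.span F (Set.range (fun k : Fin r => (f ^ (k : ℕ)) u))

theorem mem_cyc (f : Module.End F V) (r : ℕ) (hr : 0 < r) (u : V) : u ∈ cyc f r u :=
  Submodule.subset_span ⟨⟨0, hr⟩, by simp⟩

theorem cyc_inv {f : Module.End F V} {r : ℕ} {c : F} (hf : f ^ r = c • 1) (hr : 0 < r) (u : V) :
    Inv f (cyc f r u) := by
  have h0 : cyc f r u ≤ (cyc f r u).comap f := by
    apply Submodule.span_le.mpr
    rintro _ ⟨k, rfl⟩
    show f ((f ^ (k : ℕ)) u) ∈ cyc f r u
    have h1 : f ((f ^ (k : ℕ)) u) = (f ^ ((k : ℕ) + 1)) u := by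
      rw [pow_succ', Module.End.mul_apply]
    rw [h1]
    by_cases hk : (k : ℕ) + 1 < r
    · exact Submodule.subset_span ⟨⟨(k : ℕ) + 1, hk⟩, rfl⟩
    · have h2 : (k : ℕ) + 1 = r := by
        have := k.2
        omega
      rw [h2, hf, LinearMap.smul_apply, Module.End.one_apply]
      exact Submodule.smul_mem _ _ (mem_cyc f r hr u)
  exact fun x hx => h0 hx

theorem finrank_cyc_le (f : Module.End F V) (r : ℕ) (u : V) : finrank F (cyc f r u) ≤ r := by
  show Set.finrank F (Set.range fun k : Fin r => (f ^ (k : ℕ)) u) ≤ r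
  exact (finrank_range_le_card _).trans (by simp)

theorem exists_stepB (f : Module.End F V) (r : ℕ) [hr : Fact r.Prime] (c : F)
    (hf : f ^ r = c • 1) (hc : ∀ b : F, b ^ r ≠ c) (B : Submodule F V) (hB : Inv f B)
    (hlt : finrank F B < finrank F V) :
    ∃ B' : Submodule F V, B ≤ B' ∧ Inv f B' ∧ finrank F B' = finrank F B + r := by
  have hrpos : 0 < r := hr.out.pos
  have hne : B ≠ ⊤ := by
    rintro rfl
    rw [finrank_top] at hlt
    exact lt_irrefl _ hlt
  obtain ⟨u, -, hu⟩ := SetLike.exists_of_lt (lt_top_iff_ne_top.mpr hne)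
  have hB' : Inv f (B ⊔ cyc f r u) := hB.sup (cyc_inv hf hrpos u)
  have hlt' : B < B ⊔ cyc f r u := by
    apply lt_of_le_of_ne le_sup_left
    intro h
    apply hu
    rw [h]
    exact Submodule.mem_sup_right (mem_cyc f r hrpos u)
  have h1 := Submodule.finrank_lt_finrank_of_lt hlt'
  have h2 := Submodule.finrank_add_le_finrank_add_finrank B (cyc f r u)
  have h3 := finrank_cyc_le f r u
  obtain ⟨a, ha⟩ := dvd_finrank_of_inv f r c hf hc B hB
  obtain ⟨b, hb⟩ := dvd_finrank_of_inv f r c hf hc _ hB'
  refine ⟨B ⊔ cyc f r u, le_sup_left, hB', ?_⟩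
  have h1' : r * a < r * b := by
    rw [← ha, ← hb]
    exact h1
  have h2' : r * b ≤ r * (a + 1) := by
    rw [Nat.mul_succ, ← ha, ← hb]
    omega
  have hab : a < b := Nat.lt_of_mul_lt_mul_left h1'
  have hba : b ≤ a + 1 := Nat.le_of_mul_le_mul_left h2' hrpos
  have hb1 : b = a + 1 := by omega
  rw [hb, ha, hb1, Nat.mul_succ]

theorem exists_chainB (f : Module.End F V) (r : ℕ) [hr : Fact r.Prime] (c : F)
    (hf : f ^ r = c • 1) (hc : ∀ b : F, b ^ r ≠ c) (B : Submodule F V) (hB : Inv f B)
    (b₁ b₂ : ℕ) (hfin : finrank F B = r * b₁) (h12 : b₁ ≤ b₂) (hle : r * b₂ ≤ finrank F V) :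
    ∃ B' : Submodule F V, B ≤ B' ∧ Inv f B' ∧ finrank F B' = r * b₂ := by
  have hrpos : 0 < r := hr.out.pos
  induction b₂, h12 using Nat.le_induction with
  | base => exact ⟨B, le_rfl, hB, hfin⟩
  | succ b hb ih =>
    rw [Nat.mul_succ] at hle
    obtain ⟨B1, h1, h2, h4⟩ := ih (by omega)
    obtain ⟨B2, k1, k2, k4⟩ := exists_stepB f r c hf hc B1 h2 (by rw [h4]; omega)
    exact ⟨B2, h1.trans k1, k2, by rw [k4, h4, Nat.mul_succ]⟩

theorem exists_flagB (f : Module.End F V) (r : ℕ) [hr : Fact r.Prime] (c : F)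
    (hf : f ^ r = c • 1) (hc : ∀ b : F, b ^ r ≠ c) (b₁ b₂ : ℕ) (h12 : b₁ ≤ b₂)
    (hle : r * b₂ ≤ finrank F V) :
    ∃ U W : Submodule F V, U ≤ W ∧ Inv f U ∧ Inv f W ∧ finrank F U = r * b₁ ∧
      finrank F W = r * b₂ := by
  obtain ⟨B1, -, hB1, hB1f⟩ := exists_chainB f r c hf hc ⊥ (fun x hx => by
    rw [Submodule.mem_bot] at hx
    rw [hx, map_zero]
    exact zero_mem _) 0 b₁ (by simp) (Nat.zero_le _)
    (le_trans (Nat.mul_le_mul_left _ h12) hle)
  obtain ⟨B2, hB12, hB2, hB2f⟩ := exists_chainB f r c hf hc B1 hB1 b₁ b₂ hB1f h12 hle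
  exact ⟨B1, B2, hB12, hB1, hB2, hB1f, hB2f⟩

end CaseB

section Det

variable {F : Type u} [Field F]

theorem det_of_pow_eq_smul (r : ℕ) [hr : Fact r.Prime] (c : F) (hc : ∀ b : F, b ^ r ≠ c) :
    ∀ (k : ℕ) (V : Type v) [AddCommGroup V] [Module F V] [FiniteDimensional F V]
      (f : Module.End F V),
      f ^ r = c • 1 → finrank F V = r * k → LinearMap.det f = ((-1) ^ (r + 1) * c) ^ k := by
  intro k
  induction k with
  | zero =>
    intro V _ _ _ f hf hfin
    rw [pow_zero]
    exact LinearMap.det_eq_one_of_finrank_eq_zero (by rw [hfin, mul_zero]) f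
  | succ k ih =>
    intro V _ _ _ f hf hfin
    have hrpos : 0 < r := hr.out.pos
    have hr0 : r ≠ 0 := hr.out.ne_zero
    haveI : Nontrivial V := Module.nontrivial_of_finrank_pos (R := F) (by
      rw [hfin]
      positivity)
    obtain ⟨u, hu⟩ := exists_ne (0 : V)
    have hZ : Inv f (cyc f r u) := cyc_inv hf hrpos u
    have hZ' : cyc f r u ≤ (cyc f r u).comap f := fun x hx => hZ x hx
    have hZfin : finrank F (cyc f r u) = r := by
      have h1 := dvd_finrank_of_inv f r c hf hc (cyc f r u) hZ
      have h2 := finrank_cyc_le f r u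
      have h3 : 1 ≤ finrank F (cyc f r u) := by
        rw [Submodule.one_le_finrank_iff]
        intro h
        have h4 := mem_cyc f r hrpos u
        rw [h] at h4
        exact hu ((Submodule.mem_bot F).mp h4)
      exact Nat.le_antisymm h2 (Nat.le_of_dvd h3 h1)
    have hdet := LinearMap.det_eq_det_mul_det (cyc f r u) f hZ'
    have hq : ((cyc f r u).mapQ (cyc f r u) f hZ') ^ r = c • 1 := by
      have h1 : cyc f r u ≤ (cyc f r u).comap (f ^ r) := by
        rw [hf]
        intro x hx
        exact Submodule.smul_mem _ _ hx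
      rw [← Submodule.mapQ_pow (cyc f r u) hZ' r h1]
      apply LinearMap.ext
      intro x
      induction x using Submodule.Quotient.induction_on with
      | H v =>
        rw [Submodule.mapQ_apply, hf]
        rfl
    have hqfin : finrank F (V ⧸ cyc f r u) = r * k := by
      have := Submodule.finrank_quotient_add_finrank (cyc f r u)
      rw [hZfin, hfin, Nat.mul_succ] at this
      omega
    have h1 := ih (V ⧸ cyc f r u) ((cyc f r u).mapQ (cyc f r u) f hZ') hq hqfin
    have hg := restrict_pow_smul hf hZ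
    have h2 : LinearMap.det (f.restrict hZ) = (-1) ^ (r + 1) * c := by
      have hirr : Irreducible (X ^ r - C c : F[X]) :=
        (X_pow_sub_C_irreducible_iff_of_prime hr.out).mpr hc
      haveI : Nontrivial (cyc f r u) := Module.nontrivial_of_finrank_pos (R := F) (by
        rw [hZfin]
        exact hrpos)
      have hint : IsIntegral F (f.restrict hZ) := LinearMap.isIntegral _
      have hdvd : minpoly F (f.restrict hZ) ∣ X ^ r - C c := by
        apply minpoly.dvd F (f.restrict hZ)
        rw [map_sub, map_pow, aeval_X, aeval_C, hg, Algebra.algebraMap_eq_smul_one, sub_self]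
      have hassoc : Associated (X ^ r - C c) (minpoly F (f.restrict hZ)) := by
        rcases (hirr.dvd_iff).mp hdvd with h | h
        · exact absurd h (minpoly.not_isUnit F (f.restrict hZ))
        · exact h
      have heq : X ^ r - C c = minpoly F (f.restrict hZ) :=
        eq_of_monic_of_associated (monic_X_pow_sub_C c hr0) (minpoly.monic hint) hassoc
      have hchar : (f.restrict hZ).charpoly = minpoly F (f.restrict hZ) := by
        apply eq_of_monic_of_dvd_of_natDegree_le (minpoly.monic hint)
          (LinearMap.charpoly_monic _) (LinearMap.minpoly_dvd_charpoly _)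
        rw [LinearMap.charpoly_natDegree, hZfin, ← heq, natDegree_X_pow_sub_C]
      rw [LinearMap.det_eq_sign_charpoly_coeff, hchar, ← heq, hZfin]
      simp [coeff_X_pow, hr0.symm]
      ring
    calc LinearMap.det f = LinearMap.det (f.restrict hZ) *
          LinearMap.det ((cyc f r u).mapQ (cyc f r u) f hZ') := hdet
      _ = ((-1) ^ (r + 1) * c) ^ (k + 1) := by
        rw [h1, h2, pow_succ]
        ring

end Det

end Cfsg.Agent.Lib.Helper2.Elus
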