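import Mathlib
import Cfsg.Agent.Lib.Helper2.ElusB
set_option autoImplicit false
set_option maxHeartbeats 1000000
set_option linter.unusedVariables false
set_option linter.unusedSectionVars false
set_option linter.style.longLine false
set_option linter.unusedSimpArgs false
set_option linter.deprecated false
set_option linter.style.haveILetI false

/-! Part C: counting subspaces, arithmetic of `r`-th powers in a finite field, construction of
elements of order `r`, conversion between matrices and linear maps. -/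

namespace Cfsg.Agent.Lib.Helper2.Elus

open Module Polynomial

universe u v

section Count

variable {F : Type u} [Field F] [Fintype F] {V : Type v} [AddCommGroup V] [Module F V]
  [FiniteDimensional F V]

theorem card_subspaces_mul (m : ℕ) (hm : m ≤ finrank F V) :
    Nat.card {W : Submodule F V // finrank F W = m} *
      ∏ i : Fin m, (Fintype.card F ^ m - Fintype.card F ^ (i : ℕ)) =
      ∏ i : Fin m, (Fintype.card F ^ finrank F V - Fintype.card F ^ (i : ℕ)) := by
  classical
  haveI : Finite V := Module.finite_of_finite F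
  haveI : Fintype {W : Submodule F V // finrank F W = m} := Fintype.ofFinite _
  rw [← card_linearIndependent (K := F) (V := V) hm]
  let Φ : {s : Fin m → V // LinearIndependent F s} → {W : Submodule F V // finrank F W = m} :=
    fun s => ⟨Submodule.span F (Set.range s.1), by
      rw [finrank_span_eq_card s.2, Fintype.card_fin]⟩
  rw [← Nat.card_congr (Equiv.sigmaFiberEquiv Φ), Nat.card_sigma]
  have hfib : ∀ W : {W : Submodule F V // finrank F W = m}, Nat.card {s // Φ s = W} =
      ∏ i : Fin m, (Fintype.card F ^ m - Fintype.card F ^ (i : ℕ)) := by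
    intro W
    have h1 := card_linearIndependent (K := F) (V := W.1) (k := m) (le_of_eq W.2.symm)
    rw [W.2] at h1
    rw [← h1]
    apply Nat.card_congr
    exact {
      toFun := fun s => ⟨fun j => ⟨s.1.1 j, by
          have h2 : Submodule.span F (Set.range s.1.1) = W.1 := congrArg Subtype.val s.2
          rw [← h2]
          exact Submodule.subset_span ⟨j, rfl⟩⟩,
        LinearIndependent.of_comp W.1.subtype s.1.2⟩
      invFun := fun t => ⟨⟨fun j => (t.1 j : V),
          t.2.map' W.1.subtype (Submodule.ker_subtype _)⟩, by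
          apply Subtype.ext
          show Submodule.span F (Set.range fun j => (t.1 j : V)) = W.1
          apply Submodule.eq_of_le_of_finrank_eq
          · rw [Submodule.span_le]
            rintro _ ⟨j, rfl⟩
            exact (t.1 j).2
          · rw [finrank_span_eq_card (b := fun j => (t.1 j : V))
              (t.2.map' W.1.subtype (Submodule.ker_subtype _)), Fintype.card_fin, W.2]⟩
      left_inv := fun s => by
        apply Subtype.ext
        apply Subtype.ext
        rfl
      right_inv := fun t => by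
        apply Subtype.ext
        funext j
        rfl }
  simp_rw [hfib]
  rw [Finset.sum_const, Finset.card_univ, smul_eq_mul, Nat.card_eq_fintype_card]

theorem prod_pow_sub (q a m : ℕ) (hma : m ≤ a) :
    ∏ i : Fin m, (q ^ a - q ^ (i : ℕ)) =
      (∏ i : Fin m, q ^ (i : ℕ)) * ∏ i : Fin m, (q ^ (a - (i : ℕ)) - 1) := by
  rw [← Finset.prod_mul_distrib]
  apply Finset.prod_congr rfl
  intro i _
  have hi : (i : ℕ) ≤ a := le_trans (le_of_lt i.2) hma
  rw [Nat.mul_sub, mul_one, ← pow_add, Nat.add_sub_cancel' hi]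

theorem card_subspaces_mul' (m : ℕ) (hm : m ≤ finrank F V) :
    Nat.card {W : Submodule F V // finrank F W = m} *
      ∏ i : Fin m, (Fintype.card F ^ (m - (i : ℕ)) - 1) =
      ∏ i : Fin m, (Fintype.card F ^ (finrank F V - (i : ℕ)) - 1) := by
  have h := card_subspaces_mul (F := F) (V := V) m hm
  rw [prod_pow_sub _ m m le_rfl, prod_pow_sub _ _ m hm] at h
  have hpos : 0 < ∏ i : Fin m, Fintype.card F ^ (i : ℕ) := by
    apply Finset.prod_pos
    intro i _
    exact pow_pos Fintype.card_pos _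
  apply Nat.eq_of_mul_eq_mul_left hpos
  rw [← h]
  ring

theorem exists_dvd_of_dvd_card (m : ℕ) (hm : m ≤ finrank F V) (r : ℕ) [hr : Fact r.Prime]
    (hrN : r ∣ Nat.card {W : Submodule F V // finrank F W = m}) :
    ∃ j < m, r ∣ Fintype.card F ^ (finrank F V - j) - 1 := by
  have h := card_subspaces_mul' (F := F) (V := V) m hm
  have h1 : r ∣ ∏ i : Fin m, (Fintype.card F ^ (finrank F V - (i : ℕ)) - 1) := by
    rw [← h]
    exact Dvd.dvd.mul_right hrN _
  obtain ⟨i, -, hi⟩ := (Prime.dvd_finset_prod_iff (Nat.Prime.prime hr.out) _).mp h1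
  exact ⟨i, i.2, hi⟩

theorem not_dvd_card_of_ne {p : ℕ} [hp : Fact p.Prime] [CharP F p] (r : ℕ) [hr : Fact r.Prime]
    (hrp : r ≠ p) : ¬ r ∣ Fintype.card F := by
  obtain ⟨k, -, hk⟩ := FiniteField.card F p
  rw [hk]
  intro h
  exact hrp ((Nat.prime_dvd_prime_iff_eq hr.out hp.out).mp (hr.out.dvd_of_dvd_pow h))

theorem ne_char_of_dvd_sub_one {p : ℕ} [hp : Fact p.Prime] [CharP F p] (r : ℕ) (e : ℕ)
    (he : 0 < e) (h : r ∣ Fintype.card F ^ e - 1) : r ≠ p := by
  rintro rfl
  obtain ⟨k, -, hk⟩ := FiniteField.card F r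
  have h1 : r ∣ Fintype.card F ^ e := by
    rw [hk, ← pow_mul]
    exact dvd_pow_self r (Nat.mul_ne_zero k.pos.ne' he.ne')
  have hpos : 1 ≤ Fintype.card F ^ e := Nat.one_le_pow _ _ Fintype.card_pos
  have h2 : r ∣ Fintype.card F ^ e - (Fintype.card F ^ e - 1) := Nat.dvd_sub h1 h
  have h3 : Fintype.card F ^ e - (Fintype.card F ^ e - 1) = 1 := by omega
  rw [h3] at h2
  exact hp.out.one_lt.ne' (Nat.dvd_one.mp h2)

theorem ord_dvd_of_dvd_sub_one (r : ℕ) [hr : Fact r.Prime] (q e : ℕ) (hq : 0 < q)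
    (h : r ∣ q ^ e - 1) : orderOf ((q : ℕ) : ZMod r) ∣ e := by
  apply orderOf_dvd_of_pow_eq_one
  have h1 := (ZMod.natCast_eq_zero_iff _ r).mpr h
  rw [Nat.cast_sub (Nat.one_le_pow _ _ hq)] at h1
  push_cast at h1
  exact sub_eq_zero.mp h1

theorem ord_eq_one_iff (r : ℕ) [hr : Fact r.Prime] (q : ℕ) (hq : 0 < q) :
    orderOf ((q : ℕ) : ZMod r) = 1 ↔ r ∣ q - 1 := by
  rw [orderOf_eq_one_iff, ← ZMod.natCast_eq_zero_iff, Nat.cast_sub hq, Nat.cast_one, sub_eq_zero]

end Count

section Arith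

variable {F : Type u} [Field F] [Fintype F]

theorem exists_gen : ∃ g : Fˣ, orderOf g = Fintype.card F - 1 ∧ ∀ x : Fˣ, ∃ t : ℕ, g ^ t = x := by
  classical
  obtain ⟨g, hg⟩ := IsCyclic.exists_monoid_generator (α := Fˣ)
  refine ⟨g, ?_, fun x => ?_⟩
  · rw [orderOf_eq_card_of_forall_mem_zpowers, Nat.card_eq_fintype_card, Fintype.card_units]
    intro x
    obtain ⟨k, hk⟩ := hg x
    exact ⟨(k : ℤ), by simpa using hk⟩
  · obtain ⟨k, hk⟩ := hg x
    exact ⟨k, hk⟩

theorem exists_nonpow (r : ℕ) [hr : Fact r.Prime] (hrq : r ∣ Fintype.card F - 1) :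
    ∃ c : F, orderOf c = r ^ padicValNat r (Fintype.card F - 1) ∧ ∀ b : F, b ^ r ≠ c := by
  classical
  have hq1 : Fintype.card F - 1 ≠ 0 := by
    have := Fintype.one_lt_card (α := F)
    omega
  obtain ⟨g, hg, -⟩ := exists_gen (F := F)
  have hdv : r ^ padicValNat r (Fintype.card F - 1) ∣ Fintype.card F - 1 := pow_padicValNat_dvd
  have hn0 : (Fintype.card F - 1) / r ^ padicValNat r (Fintype.card F - 1) ≠ 0 := by
    have := Nat.div_pos (Nat.le_of_dvd (Nat.pos_of_ne_zero hq1) hdv)
      (pow_pos hr.out.pos _)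
    omega
  have hord : orderOf (g ^ ((Fintype.card F - 1) / r ^ padicValNat r (Fintype.card F - 1))) =
      r ^ padicValNat r (Fintype.card F - 1) := by
    rw [orderOf_pow_of_dvd hn0 (by rw [hg]; exact Nat.div_dvd_of_dvd hdv), hg,
      Nat.div_div_self hdv hq1]
  refine ⟨((g ^ ((Fintype.card F - 1) / r ^ padicValNat r (Fintype.card F - 1)) : Fˣ) : F), ?_, ?_⟩
  · rw [orderOf_units, hord]
  · intro b hb
    have hb0 : b ≠ 0 := by
      rintro rfl
      rw [zero_pow hr.out.ne_zero] at hb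
      exact (Units.ne_zero _) hb.symm
    have h1 : ((g ^ ((Fintype.card F - 1) / r ^ padicValNat r (Fintype.card F - 1)) : Fˣ) : F) ^
        ((Fintype.card F - 1) / r) = 1 := by
      rw [← hb, ← pow_mul, Nat.mul_div_cancel' hrq]
      exact FiniteField.pow_card_sub_one_eq_one b hb0
    have h2 := orderOf_dvd_of_pow_eq_one h1
    rw [orderOf_units, hord] at h2
    have h3 : r ^ (padicValNat r (Fintype.card F - 1) + 1) ∣ Fintype.card F - 1 := by
      rw [pow_succ]
      calc r ^ padicValNat r (Fintype.card F - 1) * r ∣ (Fintype.card F - 1) / r * r :=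
            Nat.mul_dvd_mul_right h2 r
        _ = Fintype.card F - 1 := Nat.div_mul_cancel hrq
    exact pow_succ_padicValNat_not_dvd hq1 h3

theorem pow_dvd_of_nonpow (r : ℕ) [hr : Fact r.Prime] (d : F) (hd : ∀ b : F, b ^ r ≠ d) (N : ℕ)
    (hN : d ^ N = 1) : r ^ padicValNat r (Fintype.card F - 1) ∣ N := by
  classical
  have hd0 : d ≠ 0 := by
    rintro rfl
    exact hd 0 (zero_pow hr.out.ne_zero)
  obtain ⟨g, hg, hgen⟩ := exists_gen (F := F)
  obtain ⟨t, ht⟩ := hgen (Units.mk0 d hd0)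
  have hrt : ¬ r ∣ t := by
    rintro ⟨t', rfl⟩
    apply hd ((g ^ t' : Fˣ) : F)
    have h1 : ((g ^ t' : Fˣ) : F) ^ r = ((g ^ (r * t') : Fˣ) : F) := by
      rw [← Units.val_pow_eq_pow_val, ← pow_mul, mul_comm]
    rw [h1, ht]
    rfl
  have h2 : g ^ (t * N) = 1 := by
    rw [pow_mul, ht]
    apply Units.ext
    rw [Units.val_pow_eq_pow_val]
    exact hN
  have h3 := orderOf_dvd_of_pow_eq_one h2
  rw [hg] at h3
  have hdv : r ^ padicValNat r (Fintype.card F - 1) ∣ Fintype.card F - 1 := pow_padicValNat_dvd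
  have hcop : Nat.Coprime (r ^ padicValNat r (Fintype.card F - 1)) t :=
    Nat.Coprime.pow_left _ ((Nat.Prime.coprime_iff_not_dvd hr.out).mpr hrt)
  exact hcop.dvd_of_dvd_mul_left (hdv.trans h3)

theorem nonsq_neg (hq4 : Fintype.card F % 4 = 1) (c : F) (hc : ∀ b : F, b ^ 2 ≠ c) :
    ∀ b : F, b ^ 2 ≠ -c := by
  have h1 : IsSquare (-1 : F) := FiniteField.isSquare_neg_one_iff.mpr (by omega)
  obtain ⟨j, hj⟩ := h1
  intro b hb
  apply hc (b * j)
  rw [mul_pow, hb, sq j, ← hj]
  ring

theorem nonsq_neg_one (hq4 : Fintype.card F % 4 = 3) : ∀ b : F, b ^ 2 ≠ -1 := by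
  intro b hb
  have h1 : IsSquare (-1 : F) := ⟨b, by rw [← hb, sq]⟩
  exact FiniteField.isSquare_neg_one_iff.mp h1 hq4

theorem exists_root (r : ℕ) [hr : Fact r.Prime] (hrq : ¬ r ∣ Fintype.card F - 1) (c : F)
    (hc0 : c ≠ 0) : ∃ l : F, l ^ r = c := by
  classical
  have h1 : orderOf (Units.mk0 c hc0) ∣ Fintype.card F - 1 := by
    rw [← Fintype.card_units]
    exact orderOf_dvd_card
  have hcop : Nat.Coprime r (orderOf (Units.mk0 c hc0)) := by
    rw [Nat.Prime.coprime_iff_not_dvd hr.out]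
    intro h
    exact hrq (h.trans h1)
  obtain ⟨m, hm⟩ := exists_pow_eq_self_of_coprime hcop
  refine ⟨((Units.mk0 c hc0 ^ m : Fˣ) : F), ?_⟩
  rw [← Units.val_pow_eq_pow_val, ← pow_mul, mul_comm, pow_mul, hm]
  rfl

theorem eq_one_of_pow (r : ℕ) [hr : Fact r.Prime] (hrq : ¬ r ∣ Fintype.card F - 1) (d : F)
    (hd : d ^ r = 1) : d = 1 := by
  have hd0 : d ≠ 0 := by
    rintro rfl
    rw [zero_pow hr.out.ne_zero] at hd
    exact zero_ne_one hd
  have h1 := orderOf_dvd_of_pow_eq_one hd
  have h2 := orderOf_dvd_of_pow_eq_one (FiniteField.pow_card_sub_one_eq_one d hd0)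
  have h3 : orderOf d ∣ Nat.gcd r (Fintype.card F - 1) := Nat.dvd_gcd h1 h2
  rw [(Nat.Prime.coprime_iff_not_dvd hr.out).mpr hrq] at h3
  exact orderOf_eq_one_iff.mp (Nat.dvd_one.mp h3)

end Arith

section Constr

variable {F : Type u} [Field F]

theorem conj_pow {V₁ : Type v} {V₂ : Type*} [AddCommGroup V₁] [Module F V₁] [AddCommGroup V₂]
    [Module F V₂] (e : V₁ ≃ₗ[F] V₂) (f₀ : Module.End F V₁) (k : ℕ) (v : V₂) :
    ((e.toLinearMap ∘ₗ f₀ ∘ₗ e.symm.toLinearMap : Module.End F V₂) ^ k) v =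
      e ((f₀ ^ k) (e.symm v)) := by
  induction k generalizing v with
  | zero => simp
  | succ k ih =>
    rw [pow_succ', Module.End.mul_apply, ih, pow_succ', Module.End.mul_apply]
    simp

theorem exists_caseB_map (r : ℕ) [hr : Fact r.Prime] (c : F) (n' : ℕ) :
    ∃ f : Module.End F (Fin (r * n') → F), f ^ r = c • 1 := by
  classical
  have hr0 : r ≠ 0 := hr.out.ne_zero
  have hmon : (X ^ r - C c : F[X]).Monic := monic_X_pow_sub_C c hr0
  haveI : Module.Finite F (AdjoinRoot (X ^ r - C c : F[X])) :=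
    (AdjoinRoot.powerBasis' hmon).finite
  have hfinA : finrank F (AdjoinRoot (X ^ r - C c : F[X])) = r := by
    rw [(AdjoinRoot.powerBasis' hmon).finrank, AdjoinRoot.powerBasis'_dim, natDegree_X_pow_sub_C]
  have hfin : finrank F (Fin n' → AdjoinRoot (X ^ r - C c : F[X])) =
      finrank F (Fin (r * n') → F) := by
    rw [Module.finrank_pi_fintype, Finset.sum_const, Finset.card_univ, Fintype.card_fin,
      smul_eq_mul, hfinA, Module.finrank_fin_fun, mul_comm]
  let e : (Fin n' → AdjoinRoot (X ^ r - C c : F[X])) ≃ₗ[F] (Fin (r * n') → F) :=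
    LinearEquiv.ofFinrankEq _ _ hfin
  have hθ : (AdjoinRoot.root (X ^ r - C c : F[X])) ^ r =
      algebraMap F (AdjoinRoot (X ^ r - C c : F[X])) c := by
    have h1 := AdjoinRoot.eval₂_root (X ^ r - C c : F[X])
    simp only [eval₂_sub, eval₂_pow, eval₂_X, eval₂_C] at h1
    exact sub_eq_zero.mp h1
  let f₀ : Module.End F (Fin n' → AdjoinRoot (X ^ r - C c : F[X])) :=
    DistribMulAction.toLinearMap F (Fin n' → AdjoinRoot (X ^ r - C c : F[X]))
      (AdjoinRoot.root (X ^ r - C c : F[X]))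
  have hf₀ : ∀ (k : ℕ) (v : Fin n' → AdjoinRoot (X ^ r - C c : F[X])),
      (f₀ ^ k) v = (AdjoinRoot.root (X ^ r - C c : F[X])) ^ k • v := by
    intro k
    induction k with
    | zero =>
      intro v
      simp
    | succ k ih =>
      intro v
      rw [pow_succ', Module.End.mul_apply, ih, pow_succ', mul_smul]
      rfl
  refine ⟨e.toLinearMap ∘ₗ f₀ ∘ₗ e.symm.toLinearMap, ?_⟩
  apply LinearMap.ext
  intro v
  rw [conj_pow, hf₀, hθ, algebraMap_smul, map_smul, LinearEquiv.apply_symm_apply]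
  rfl

end Constr

section Constr2

variable {F : Type u} [Field F] [Fintype F]

theorem exists_ss_map {p f₀ : ℕ} [hp : Fact p.Prime] (hq : Fintype.card F = p ^ f₀) (r : ℕ)
    [hr : Fact r.Prime] (hrp : r ≠ p) (n : ℕ)
    (hi2 : 2 ≤ orderOf ((Fintype.card F : ℕ) : ZMod r)) :
    ∃ y : Module.End F (Fin n → F), y ^ r = 1 ∧
      finrank F (LinearMap.ker (y - 1)) = n % orderOf ((Fintype.card F : ℕ) : ZMod r) := by
  classical
  have hcop : p.Coprime r := (Nat.coprime_primes hp.out hr.out).mpr (Ne.symm hrp)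
  have hnu : ¬ IsUnit (cyclotomic r F) := by
    intro h
    have h1 := natDegree_eq_zero_of_isUnit h
    rw [natDegree_cyclotomic, Nat.totient_prime hr.out] at h1
    have := hr.out.two_le
    omega
  obtain ⟨h, hirr, hdvd⟩ := WfDvdMonoid.exists_irreducible_factor hnu (cyclotomic_ne_zero r F)
  have hdeg : h.natDegree = orderOf ((Fintype.card F : ℕ) : ZMod r) := by
    rw [natDegree_of_dvd_cyclotomic_of_irreducible hq hcop hdvd hirr, ← orderOf_units,
      ZMod.coe_unitOfCoprime, hq]
  haveI : Fact (Irreducible h) := ⟨hirr⟩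
  have hh0 : h ≠ 0 := hirr.ne_zero
  haveI : Module.Finite F (AdjoinRoot h) := (AdjoinRoot.powerBasis hh0).finite
  have hfinE : finrank F (AdjoinRoot h) = orderOf ((Fintype.card F : ℕ) : ZMod r) := by
    rw [(AdjoinRoot.powerBasis hh0).finrank, AdjoinRoot.powerBasis_dim, hdeg]
  have hζr : (AdjoinRoot.root h) ^ r = 1 := by
    have h1 : h ∣ X ^ r - 1 := by
      rw [← cyclotomic_prime_mul_X_sub_one F r]
      exact Dvd.dvd.mul_right hdvd _
    have h2 := AdjoinRoot.mk_eq_zero.mpr h1
    rw [← AdjoinRoot.aeval_eq] at h2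
    simpa [sub_eq_zero] using h2
  have hζ1 : AdjoinRoot.root h ≠ 1 := by
    intro h1
    have h2 : AdjoinRoot.mk h (X - C 1) = 0 := by
      rw [← AdjoinRoot.aeval_eq]
      simp [h1]
    have h3 := AdjoinRoot.mk_eq_zero.mp h2
    have h4 := natDegree_le_of_dvd h3 (X_sub_C_ne_zero 1)
    rw [natDegree_X_sub_C, hdeg] at h4
    omega
  set i := orderOf ((Fintype.card F : ℕ) : ZMod r) with hi
  let y₀ : Module.End F ((Fin (n % i) → F) × (Fin (n / i) → AdjoinRoot h)) :=
    LinearMap.prodMap LinearMap.id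
      (DistribMulAction.toLinearMap F (Fin (n / i) → AdjoinRoot h) (AdjoinRoot.root h))
  have hy₀ : ∀ (k : ℕ) (v : (Fin (n % i) → F) × (Fin (n / i) → AdjoinRoot h)),
      (y₀ ^ k) v = (v.1, (AdjoinRoot.root h) ^ k • v.2) := by
    intro k
    induction k with
    | zero =>
      intro v
      simp
    | succ k ih =>
      intro v
      rw [pow_succ', Module.End.mul_apply, ih, pow_succ', mul_smul]
      rfl
  have hker : ∀ v : (Fin (n % i) → F) × (Fin (n / i) → AdjoinRoot h),
      v ∈ LinearMap.ker (y₀ - 1) ↔ v.2 = 0 := by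
    intro v
    rw [mem_ker_sub_one]
    constructor
    · intro hv
      have h1 : (AdjoinRoot.root h) • v.2 = v.2 := congrArg Prod.snd hv
      have h2 : (AdjoinRoot.root h - 1) • v.2 = 0 := by
        rw [sub_smul, one_smul, h1, sub_self]
      funext j
      have h3 := congrFun h2 j
      simp only [Pi.smul_apply, smul_eq_mul, Pi.zero_apply] at h3
      rcases mul_eq_zero.mp h3 with h4 | h4
      · exact absurd (sub_eq_zero.mp h4) hζ1
      · exact h4
    · intro hv
      apply Prod.ext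
      · rfl
      · show (AdjoinRoot.root h) • v.2 = v.2
        rw [hv, smul_zero]
  let eK : LinearMap.ker (y₀ - 1) ≃ₗ[F] (Fin (n % i) → F) :=
    { toFun := fun v => v.1.1
      map_add' := fun a b => rfl
      map_smul' := fun a b => rfl
      invFun := fun a => ⟨(a, 0), (hker _).mpr rfl⟩
      left_inv := fun v => by
        apply Subtype.ext
        apply Prod.ext
        · rfl
        · exact ((hker _).mp v.2).symm
      right_inv := fun a => rfl }
  have hkfin : finrank F (LinearMap.ker (y₀ - 1)) = n % i := by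
    rw [LinearEquiv.finrank_eq eK, Module.finrank_fin_fun]
  have hfin : finrank F ((Fin (n % i) → F) × (Fin (n / i) → AdjoinRoot h)) =
      finrank F (Fin n → F) := by
    rw [Module.finrank_prod, Module.finrank_fin_fun, Module.finrank_pi_fintype, Finset.sum_const,
      Finset.card_univ, Fintype.card_fin, smul_eq_mul, hfinE, Module.finrank_fin_fun, mul_comm]
    exact Nat.mod_add_div n i
  let e : ((Fin (n % i) → F) × (Fin (n / i) → AdjoinRoot h)) ≃ₗ[F] (Fin n → F) :=
    LinearEquiv.ofFinrankEq _ _ hfin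
  refine ⟨e.toLinearMap ∘ₗ y₀ ∘ₗ e.symm.toLinearMap, ?_, ?_⟩
  · apply LinearMap.ext
    intro v
    rw [conj_pow, hy₀, hζr, one_smul]
    simp
  · have hkery : LinearMap.ker ((e.toLinearMap ∘ₗ y₀ ∘ₗ e.symm.toLinearMap : Module.End F _) - 1) =
        (LinearMap.ker (y₀ - 1)).map (e : _ →ₗ[F] _) := by
      ext v
      rw [Submodule.mem_map_equiv, mem_ker_sub_one, mem_ker_sub_one]
      show e (y₀ (e.symm v)) = v ↔ y₀ (e.symm v) = e.symm v
      rw [LinearEquiv.eq_symm_apply]
    rw [hkery, LinearEquiv.finrank_map_eq, hkfin]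

end Constr2

section Mat

variable {F : Type u} [Field F]

theorem toLin'_pow {n : ℕ} (M : Matrix (Fin n) (Fin n) F) (k : ℕ) :
    Matrix.toLin' (M ^ k) = (Matrix.toLin' M : Module.End F (Fin n → F)) ^ k := by
  induction k with
  | zero =>
    rw [pow_zero, pow_zero, Matrix.toLin'_one]
    rfl
  | succ k ih =>
    rw [pow_succ, pow_succ, Matrix.toLin'_mul, ih]
    rfl

theorem toLin'_smul_one {n : ℕ} (c : F) :
    Matrix.toLin' (c • (1 : Matrix (Fin n) (Fin n) F)) = c • (1 : Module.End F (Fin n → F)) := by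
  rw [map_smul, Matrix.toLin'_one]
  rfl

theorem smul_one_inj {n : ℕ} (hn : 0 < n) {a b : F}
    (h : a • (1 : Module.End F (Fin n → F)) = b • 1) : a = b := by
  have h1 := congrFun (congrArg (fun T : Module.End F (Fin n → F) => T (fun _ => 1)) h) ⟨0, hn⟩
  simpa using h1

/-- from a linear map of determinant one to an element of `SL` -/
def toSL {n : ℕ} (f : Module.End F (Fin n → F)) (hf : LinearMap.det f = 1) :
    Matrix.SpecialLinearGroup (Fin n) F :=
  ⟨LinearMap.toMatrix' f, by rw [LinearMap.det_toMatrix']; exact hf⟩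

theorem toLin'_toSL {n : ℕ} (f : Module.End F (Fin n → F)) (hf : LinearMap.det f = 1) :
    Matrix.toLin' ((toSL f hf : Matrix.SpecialLinearGroup (Fin n) F) :
      Matrix (Fin n) (Fin n) F) = f :=
  Matrix.toLin'_toMatrix' f

theorem toSL_pow {n : ℕ} (f : Module.End F (Fin n → F)) (hf : LinearMap.det f = 1) (r : ℕ)
    (c : F) (hfr : f ^ r = c • 1) :
    (((toSL f hf) ^ r : Matrix.SpecialLinearGroup (Fin n) F) : Matrix (Fin n) (Fin n) F) =
      c • (1 : Matrix (Fin n) (Fin n) F) := by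
  rw [Matrix.SpecialLinearGroup.coe_pow]
  apply Matrix.toLin'.injective
  rw [toLin'_pow, toLin'_toSL, hfr, toLin'_smul_one]

theorem pow_of_SL {n : ℕ} (x : Matrix.SpecialLinearGroup (Fin n) F) (r : ℕ) (c : F)
    (hx : ((x ^ r : Matrix.SpecialLinearGroup (Fin n) F) : Matrix (Fin n) (Fin n) F) =
      c • (1 : Matrix (Fin n) (Fin n) F)) :
    (Matrix.toLin' (x : Matrix (Fin n) (Fin n) F) : Module.End F (Fin n → F)) ^ r = c • 1 := by
  rw [Matrix.SpecialLinearGroup.coe_pow] at hx
  rw [← toLin'_pow, hx, toLin'_smul_one]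

end Mat

end Cfsg.Agent.Lib.Helper2.Elus
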