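import Mathlib
import Cfsg.Agent.Lib.Helper2.ElusC
set_option autoImplicit false
set_option maxHeartbeats 1000000
set_option linter.unusedVariables false
set_option linter.unusedSectionVars false
set_option linter.style.longLine false
set_option linter.unusedSimpArgs false
set_option linter.deprecated false
set_option linter.style.haveILetI false

/-! Part D: the elements of prime order `r` of `SL_n(q)` used to decide `r`-elusivity of the
actions on subspaces and flags. -/

namespace Cfsg.Agent.Lib.Helper2.Elus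

open Module Polynomial

universe u v

section Main

variable {F : Type u} [Field F] [Fintype F]

theorem exists_derangement_one (n : ℕ) (hn : 2 ≤ n) (r : ℕ) [hr : Fact r.Prime]
    (hr1 : r ∣ Fintype.card F - 1)
    (hcon : ¬ (padicValNat r n ≤ padicValNat r (Fintype.card F - 1) ∧
      (r = 2 → Even n → Fintype.card F % 4 = 1))) :
    ∃ (f : Module.End F (Fin n → F)) (c : F), LinearMap.det f = 1 ∧ f ^ r = c • 1 ∧
      (∀ c' : F, f ≠ c' • 1) ∧ ∀ W : Submodule F (Fin n → F), Inv f W → r ∣ finrank F W := by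
  classical
  have hr0 : r ≠ 0 := hr.out.ne_zero
  have hq1 : Fintype.card F - 1 ≠ 0 := by
    have := Fintype.one_lt_card (α := F)
    omega
  obtain ⟨c, n', hnn', hc, hdv⟩ : ∃ (c : F) (n' : ℕ), n = r * n' ∧ (∀ b : F, b ^ r ≠ c) ∧
      ((-1) ^ (r + 1) * c) ^ n' = 1 := by
    by_cases hA : padicValNat r n ≤ padicValNat r (Fintype.card F - 1)
    · have h1 : ¬ (r = 2 → Even n → Fintype.card F % 4 = 1) := fun h => hcon ⟨hA, h⟩
      push Not at h1
      obtain ⟨hr2, hev, hq4⟩ := h1
      have hq3 : Fintype.card F % 4 = 3 := by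
        rw [hr2] at hr1
        obtain ⟨t, ht⟩ := hr1
        have := Fintype.one_lt_card (α := F)
        omega
      obtain ⟨n', hn'⟩ := even_iff_two_dvd.mp hev
      refine ⟨-1, n', by rw [hr2]; exact hn', by rw [hr2]; exact nonsq_neg_one hq3, ?_⟩
      rw [hr2]
      norm_num
    · push Not at hA
      have hn0 : n ≠ 0 := by omega
      have h1 : r ^ (padicValNat r (Fintype.card F - 1) + 1) ∣ n :=
        (padicValNat_dvd_iff_le hn0).mpr hA
      obtain ⟨w, hw⟩ := h1
      obtain ⟨c, hcord, hc⟩ := exists_nonpow (F := F) r hr1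
      refine ⟨c, r ^ padicValNat r (Fintype.card F - 1) * w, by rw [hw, pow_succ]; ring, hc, ?_⟩
      have hcw : c ^ (r ^ padicValNat r (Fintype.card F - 1) * w) = 1 := by
        rw [pow_mul, ← hcord, pow_orderOf_eq_one, one_pow]
      rw [mul_pow, hcw, mul_one, ← pow_mul]
      apply Even.neg_one_pow
      rcases hr.out.eq_two_or_odd' with h2 | h2
      · have he1 : 1 ≤ padicValNat r (Fintype.card F - 1) := one_le_padicValNat_of_dvd hq1 hr1
        apply Even.mul_left
        apply Even.mul_right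
        rw [Nat.even_pow]
        exact ⟨by rw [h2]; exact even_two, by omega⟩
      · exact (h2.add_one).mul_right _
  subst hnn'
  obtain ⟨f, hf⟩ := exists_caseB_map (F := F) r c n'
  have hfin : finrank F (Fin (r * n') → F) = r * n' := Module.finrank_fin_fun F
  have hdet : LinearMap.det f = 1 := by
    rw [det_of_pow_eq_smul r c hc n' _ f hf hfin, hdv]
  refine ⟨f, c, hdet, hf, ?_, fun W hW => dvd_finrank_of_inv f r c hf hc W hW⟩
  intro c' hc'
  rw [hc', _root_.smul_pow, one_pow] at hf
  exact hc c' (smul_one_inj (by omega) hf)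

theorem exists_ss_elt {p : ℕ} [hp : Fact p.Prime] [CharP F p] (n : ℕ) (r : ℕ) [hr : Fact r.Prime]
    (hrp : r ≠ p) (hi2 : 2 ≤ orderOf ((Fintype.card F : ℕ) : ZMod r))
    (hin : orderOf ((Fintype.card F : ℕ) : ZMod r) ≤ n) :
    ∃ y : Module.End F (Fin n → F), LinearMap.det y = 1 ∧ y ^ r = 1 ∧ (∀ c' : F, y ≠ c' • 1) ∧
      finrank F (LinearMap.ker (y - 1)) = n % orderOf ((Fintype.card F : ℕ) : ZMod r) := by
  obtain ⟨k, -, hk⟩ := FiniteField.card F p
  obtain ⟨y, hy, hker⟩ := exists_ss_map hk r hrp n hi2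
  have hr1 : ¬ r ∣ Fintype.card F - 1 := by
    intro h
    rw [← ord_eq_one_iff r _ Fintype.card_pos] at h
    omega
  have hn0 : 0 < n := by omega
  refine ⟨y, ?_, hy, ?_, hker⟩
  · apply eq_one_of_pow r hr1
    rw [← map_pow, hy, map_one]
  · intro c' hc'
    have h1 : c' ^ r • (1 : Module.End F (Fin n → F)) = (1 : F) • 1 := by
      have h0 : (c' • (1 : Module.End F (Fin n → F))) ^ r = 1 := by
        rw [← hc']
        exact hy
      rw [_root_.smul_pow, one_pow] at h0
      rw [h0, one_smul]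
    have h2 : c' = 1 := eq_one_of_pow r hr1 c' (smul_one_inj hn0 h1)
    rw [h2, one_smul] at hc'
    rw [hc', sub_self, LinearMap.ker_zero, finrank_top, Module.finrank_fin_fun] at hker
    have h3 := Nat.mod_lt n (show 0 < orderOf ((Fintype.card F : ℕ) : ZMod r) by omega)
    omega

theorem mod_le_of_inv {V : Type v} [AddCommGroup V] [Module F V] [FiniteDimensional F V]
    (y : Module.End F V) (r : ℕ) [hr : Fact r.Prime] (hy : y ^ r = 1)
    (hrq : ¬ r ∣ Fintype.card F) (W : Submodule F V) (hW : Inv y W) :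
    ∃ a, a ≤ finrank F (LinearMap.ker (y - 1)) ∧ a ≤ finrank F W ∧
      orderOf ((Fintype.card F : ℕ) : ZMod r) ∣ finrank F W - a := by
  have hg : (y.restrict hW) ^ r = 1 := by
    have h1 : y ^ r = (1 : F) • 1 := by rw [hy, one_smul]
    rw [restrict_pow_smul h1 hW, one_smul]
  refine ⟨finrank F (LinearMap.ker (y.restrict hW - 1)), ?_, Submodule.finrank_le _,
    orderOf_dvd_sub (y.restrict hW) r hg hrq⟩
  rw [← Submodule.finrank_map_subtype_eq W (LinearMap.ker (y.restrict hW - 1))]
  apply Submodule.finrank_mono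
  rintro _ ⟨w, hw, rfl⟩
  have hw' : (y.restrict hW) w = w := mem_ker_sub_one.mp hw
  have h5 : ((y.restrict hW w : W) : V) = (w : V) := congrArg Subtype.val hw'
  exact mem_ker_sub_one.mpr h5

omit [Fintype F] in
theorem scale_pow {V : Type v} [AddCommGroup V] [Module F V] (f : Module.End F V) (r : ℕ)
    (l : F) (hl : l ≠ 0) (hf : f ^ r = l ^ r • 1) : (l⁻¹ • f) ^ r = 1 := by
  rw [_root_.smul_pow, hf, smul_smul, inv_pow, inv_mul_cancel₀ (pow_ne_zero _ hl), one_smul]

omit [Fintype F] in
theorem scale_inv {V : Type v} [AddCommGroup V] [Module F V] (f : Module.End F V)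
    (l : F) (hl : l ≠ 0) (W : Submodule F V) (hW : Inv (l⁻¹ • f) W) : Inv f W := by
  intro x hx
  have h1 := hW x hx
  rw [LinearMap.smul_apply] at h1
  have h2 := Submodule.smul_mem W l h1
  rwa [smul_smul, mul_inv_cancel₀ hl, one_smul] at h2

theorem caseB_arith (n : ℕ) (r : ℕ) [hr : Fact r.Prime] (f : Module.End F (Fin n → F)) (c : F)
    (hdet : LinearMap.det f = 1) (hf : f ^ r = c • 1) (hc : ∀ b : F, b ^ r ≠ c)
    (hA : padicValNat r n ≤ padicValNat r (Fintype.card F - 1))
    (hB : r = 2 → Even n → Fintype.card F % 4 = 1) (hn : 0 < n) : False := by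
  have hfin : finrank F (Fin n → F) = n := Module.finrank_fin_fun F
  have h1 := dvd_finrank_of_inv f r c hf hc ⊤ (fun x _ => Submodule.mem_top)
  rw [finrank_top, hfin] at h1
  obtain ⟨n', rfl⟩ := h1
  have hd1 := det_of_pow_eq_smul r c hc n' _ f hf hfin
  rw [hdet] at hd1
  have hd : ∀ b : F, b ^ r ≠ (-1) ^ (r + 1) * c := by
    rcases hr.out.eq_two_or_odd' with h2 | h2
    · have hq4 := hB h2 (by rw [h2]; exact even_two_mul n')
      have h3 := nonsq_neg hq4 c (by rw [← h2]; exact hc)
      rw [h2]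
      intro b hb
      apply h3 b
      rw [hb]
      ring
    · rw [Even.neg_one_pow h2.add_one, one_mul]
      exact hc
  have h3 := pow_dvd_of_nonpow r _ hd n' hd1.symm
  have h4 : r ^ (padicValNat r (Fintype.card F - 1) + 1) ∣ r * n' := by
    rw [pow_succ, mul_comm]
    exact Nat.mul_dvd_mul_left r h3
  have h5 := (padicValNat_dvd_iff_le (by omega)).mp h4
  omega

end Main

end Cfsg.Agent.Lib.Helper2.Elus
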