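import Mathlib
import Cfsg.Agent.Lib.Helper2.ElusD
set_option autoImplicit false
set_option maxHeartbeats 1000000
set_option linter.unusedVariables false
set_option linter.unusedSectionVars false
set_option linter.style.longLine false
set_option linter.unusedSimpArgs false
set_option linter.deprecated false
set_option linter.style.haveILetI false

/-! Part E: counting flags `U ≤ W`, and invariant flags of elements of prime order. -/

namespace Cfsg.Agent.Lib.Helper2.Elus

open Module Polynomial

universe u v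

/-- `∏_{e = 1}^{a} (q^e - 1)` -/
def gfac (q a : ℕ) : ℕ := ∏ j ∈ Finset.range a, (q ^ (j + 1) - 1)

theorem gfac_pos (q a : ℕ) (hq : 2 ≤ q) : 0 < gfac q a := by
  apply Finset.prod_pos
  intro j _
  have h1 : 2 ^ (j + 1) ≤ q ^ (j + 1) := Nat.pow_le_pow_left hq _
  have h2 : 2 ^ 1 ≤ 2 ^ (j + 1) := Nat.pow_le_pow_right (by norm_num) (by omega)
  omega

theorem prod_fin_eq_gfac (q k : ℕ) : ∏ i : Fin k, (q ^ (k - (i : ℕ)) - 1) = gfac q k := by
  rw [Fin.prod_univ_eq_prod_range (fun i => q ^ (k - i) - 1) k]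
  unfold gfac
  rw [← Finset.prod_range_reflect (fun j => q ^ (j + 1) - 1) k]
  apply Finset.prod_congr rfl
  intro i hi
  rw [Finset.mem_range] at hi
  have h1 : k - 1 - i + 1 = k - i := by omega
  rw [h1]

theorem gfac_add (q e k : ℕ) :
    gfac q (e + k) = gfac q e * ∏ x ∈ Finset.range k, (q ^ (k + e - x) - 1) := by
  unfold gfac
  rw [Finset.prod_range_add]
  congr 1
  rw [← Finset.prod_range_reflect (fun x => q ^ (e + x + 1) - 1) k]
  apply Finset.prod_congr rfl
  intro x hx
  rw [Finset.mem_range] at hx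
  have h1 : e + (k - 1 - x) + 1 = k + e - x := by omega
  rw [h1]

section Flag

variable {F : Type u} [Field F] [Fintype F] {V : Type v} [AddCommGroup V] [Module F V]
  [FiniteDimensional F V]

theorem card_subspaces_gfac (k : ℕ) (hk : k ≤ finrank F V) :
    Nat.card {W : Submodule F V // finrank F W = k} * gfac (Fintype.card F) k *
      gfac (Fintype.card F) (finrank F V - k) = gfac (Fintype.card F) (finrank F V) := by
  have h := card_subspaces_mul' (F := F) (V := V) k hk
  rw [prod_fin_eq_gfac,
    Fin.prod_univ_eq_prod_range (fun i => Fintype.card F ^ (finrank F V - i) - 1) k] at h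
  have h2 := gfac_add (Fintype.card F) (finrank F V - k) k
  have h3 : finrank F V - k + k = finrank F V := by omega
  have h4 : k + (finrank F V - k) = finrank F V := by omega
  rw [h3, h4] at h2
  rw [h, h2, mul_comm]

omit [Fintype F] in
theorem finrank_map_mkQ (U W : Submodule F V) (h : U ≤ W) :
    finrank F (W.map U.mkQ) + finrank F U = finrank F W := by
  have h1 := LinearMap.finrank_range_add_finrank_ker (U.mkQ.comp W.subtype)
  rw [LinearMap.range_comp, Submodule.range_subtype, LinearMap.ker_comp, Submodule.ker_mkQ,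
    LinearEquiv.finrank_eq (Submodule.comapSubtypeEquivOfLe h)] at h1
  exact h1

omit [Fintype F] in
/-- subspaces above `U` correspond to subspaces of the quotient -/
noncomputable def flagFiberEquiv (U : Submodule F V) (d : ℕ) :
    {W : Submodule F V // U ≤ W ∧ finrank F W = d + finrank F U} ≃
      {W' : Submodule F (V ⧸ U) // finrank F W' = d} where
  toFun W := ⟨W.1.map U.mkQ, by
    have h1 := finrank_map_mkQ U W.1 W.2.1
    have h2 := W.2.2
    omega⟩
  invFun W' := ⟨W'.1.comap U.mkQ, Submodule.le_comap_mkQ U W'.1, by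
    have h1 := finrank_map_mkQ U (W'.1.comap U.mkQ) (Submodule.le_comap_mkQ U W'.1)
    rw [Submodule.map_comap_eq_of_surjective (Submodule.mkQ_surjective U) W'.1, W'.2] at h1
    omega⟩
  left_inv W := by
    apply Subtype.ext
    show (W.1.map U.mkQ).comap U.mkQ = W.1
    rw [Submodule.comap_map_mkQ]
    exact sup_eq_right.mpr W.2.1
  right_inv W' := by
    apply Subtype.ext
    exact Submodule.map_comap_eq_of_surjective (Submodule.mkQ_surjective U) W'.1

theorem card_flags_mul (n m : ℕ) (hn : finrank F V = n) (hm : 2 * m ≤ n) :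
    Nat.card {P : Submodule F V × Submodule F V //
        P.1 ≤ P.2 ∧ finrank F P.1 = m ∧ finrank F P.2 = n - m} *
      (gfac (Fintype.card F) m * gfac (Fintype.card F) m) =
      ∏ j ∈ Finset.range (2 * m), (Fintype.card F ^ (n - j) - 1) := by
  classical
  haveI : Finite V := Module.finite_of_finite F
  haveI : Fintype {U : Submodule F V // finrank F U = m} := Fintype.ofFinite _
  have hq2 : 2 ≤ Fintype.card F := Fintype.one_lt_card
  let E : {P : Submodule F V × Submodule F V //
        P.1 ≤ P.2 ∧ finrank F P.1 = m ∧ finrank F P.2 = n - m} ≃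
      Σ U : {U : Submodule F V // finrank F U = m},
        {W : Submodule F V // U.1 ≤ W ∧ finrank F W = (n - 2 * m) + finrank F U.1} :=
    { toFun := fun P => ⟨⟨P.1.1, P.2.2.1⟩, ⟨P.1.2, P.2.1, by
        have h1 := P.2.2.1
        have h2 := P.2.2.2
        show finrank F P.1.2 = (n - 2 * m) + finrank F P.1.1
        omega⟩⟩
      invFun := fun s => ⟨(s.1.1, s.2.1), s.2.2.1, s.1.2, by
        have h1 := s.1.2
        have h2 := s.2.2.2
        show finrank F s.2.1 = n - m
        omega⟩
      left_inv := fun P => rfl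
      right_inv := fun s => rfl }
  have hfib : ∀ U : {U : Submodule F V // finrank F U = m},
      Nat.card {W : Submodule F V // U.1 ≤ W ∧ finrank F W = (n - 2 * m) + finrank F U.1} *
        (gfac (Fintype.card F) (n - 2 * m) * gfac (Fintype.card F) m) =
        gfac (Fintype.card F) (n - m) := by
    intro U
    rw [Nat.card_congr (flagFiberEquiv U.1 (n - 2 * m))]
    have hquot : finrank F (V ⧸ U.1) = n - m := by
      have h1 := Submodule.finrank_quotient_add_finrank U.1
      rw [U.2, hn] at h1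
      omega
    have h2 := card_subspaces_gfac (F := F) (V := V ⧸ U.1) (n - 2 * m) (by rw [hquot]; omega)
    rw [hquot] at h2
    have h3 : n - m - (n - 2 * m) = m := by omega
    rw [h3] at h2
    rw [← h2]
    ring
  have hsum : Nat.card {P : Submodule F V × Submodule F V //
        P.1 ≤ P.2 ∧ finrank F P.1 = m ∧ finrank F P.2 = n - m} *
      (gfac (Fintype.card F) (n - 2 * m) * gfac (Fintype.card F) m) =
      Nat.card {U : Submodule F V // finrank F U = m} * gfac (Fintype.card F) (n - m) := by
    rw [Nat.card_congr E, Nat.card_sigma, Finset.sum_mul]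
    simp_rw [hfib]
    rw [Finset.sum_const, Finset.card_univ, smul_eq_mul, Nat.card_eq_fintype_card]
  have h5 := card_subspaces_gfac (F := F) (V := V) m (by rw [hn]; omega)
  rw [hn] at h5
  have h6 := gfac_add (Fintype.card F) (n - 2 * m) (2 * m)
  have h7 : n - 2 * m + 2 * m = n := by omega
  have h8 : 2 * m + (n - 2 * m) = n := by omega
  rw [h7, h8] at h6
  have hpos := gfac_pos (Fintype.card F) (n - 2 * m) hq2
  apply Nat.eq_of_mul_eq_mul_left hpos
  rw [← h6, ← h5]
  calc gfac (Fintype.card F) (n - 2 * m) * (Nat.card {P : Submodule F V × Submodule F V //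
        P.1 ≤ P.2 ∧ finrank F P.1 = m ∧ finrank F P.2 = n - m} *
        (gfac (Fintype.card F) m * gfac (Fintype.card F) m))
      = (Nat.card {P : Submodule F V × Submodule F V //
        P.1 ≤ P.2 ∧ finrank F P.1 = m ∧ finrank F P.2 = n - m} *
        (gfac (Fintype.card F) (n - 2 * m) * gfac (Fintype.card F) m)) *
          gfac (Fintype.card F) m := by ring
    _ = Nat.card {U : Submodule F V // finrank F U = m} * gfac (Fintype.card F) (n - m) *
          gfac (Fintype.card F) m := by rw [hsum]
    _ = Nat.card {U : Submodule F V // finrank F U = m} * gfac (Fintype.card F) m *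
          gfac (Fintype.card F) (n - m) := by ring

theorem exists_dvd_of_dvd_card_flags (n m : ℕ) (hn : finrank F V = n) (hm : 2 * m ≤ n) (r : ℕ)
    [hr : Fact r.Prime]
    (hrN : r ∣ Nat.card {P : Submodule F V × Submodule F V //
        P.1 ≤ P.2 ∧ finrank F P.1 = m ∧ finrank F P.2 = n - m}) :
    ∃ j < 2 * m, r ∣ Fintype.card F ^ (n - j) - 1 := by
  have h := card_flags_mul (F := F) (V := V) n m hn hm
  have h1 : r ∣ ∏ j ∈ Finset.range (2 * m), (Fintype.card F ^ (n - j) - 1) := by
    rw [← h]
    exact Dvd.dvd.mul_right hrN _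
  obtain ⟨j, hj, hj2⟩ := (Prime.dvd_finset_prod_iff (Nat.Prime.prime hr.out) _).mp h1
  exact ⟨j, Finset.mem_range.mp hj, hj2⟩

theorem mod_inf_of_inv (y : Module.End F V) (r : ℕ) [hr : Fact r.Prime] (hy : y ^ r = 1)
    (hrq : ¬ r ∣ Fintype.card F) (W : Submodule F V) (hW : Inv y W) :
    orderOf ((Fintype.card F : ℕ) : ZMod r) ∣
      finrank F W - finrank F (W ⊓ LinearMap.ker (y - 1) : Submodule F V) := by
  have hg : (y.restrict hW) ^ r = 1 := by
    have h1 : y ^ r = (1 : F) • 1 := by rw [hy, one_smul]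
    rw [restrict_pow_smul h1 hW, one_smul]
  have h := orderOf_dvd_sub (y.restrict hW) r hg hrq
  have h2 : (LinearMap.ker (y.restrict hW - 1)).map W.subtype = W ⊓ LinearMap.ker (y - 1) := by
    ext v
    constructor
    · rintro ⟨w, hw, rfl⟩
      have hw' : (y.restrict hW) w = w := mem_ker_sub_one.mp hw
      have h5 : ((y.restrict hW w : W) : V) = (w : V) := congrArg Subtype.val hw'
      exact ⟨w.2, mem_ker_sub_one.mpr h5⟩
    · rintro ⟨hvW, hvC⟩
      refine ⟨⟨v, hvW⟩, ?_, rfl⟩
      have h6 : (y.restrict hW) ⟨v, hvW⟩ = ⟨v, hvW⟩ := Subtype.ext (mem_ker_sub_one.mp hvC)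
      exact mem_ker_sub_one.mpr h6
  rw [← h2, Submodule.finrank_map_subtype_eq]
  exact h

theorem exists_flag_of_mod {p f₀ : ℕ} [hp : Fact p.Prime] (hq : Fintype.card F = p ^ f₀)
    (y : Module.End F V) (r : ℕ) [hr : Fact r.Prime] (hrp : r ≠ p) (hrF : (r : F) ≠ 0)
    (hy : y ^ r = 1) (m M : ℕ) (hmM : m ≤ M) (hMn : M ≤ finrank F V)
    (h1 : m % orderOf ((Fintype.card F : ℕ) : ZMod r) ≤
      M % orderOf ((Fintype.card F : ℕ) : ZMod r))
    (h2 : M % orderOf ((Fintype.card F : ℕ) : ZMod r) ≤ finrank F (LinearMap.ker (y - 1))) :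
    ∃ U W : Submodule F V, U ≤ W ∧ Inv y U ∧ Inv y W ∧ finrank F U = m ∧ finrank F W = M := by
  have hq' : ¬ r ∣ Fintype.card F := by
    rw [hq]
    intro h
    exact hrp ((Nat.prime_dvd_prime_iff_eq hr.out hp.out).mp (hr.out.dvd_of_dvd_pow h))
  obtain ⟨s, hs⟩ := orderOf_dvd_sub y r hy hq'
  have hle : finrank F (LinearMap.ker (y - 1)) ≤ finrank F V := Submodule.finrank_le _
  have hm := Nat.mod_add_div m (orderOf ((Fintype.card F : ℕ) : ZMod r))
  have hM := Nat.mod_add_div M (orderOf ((Fintype.card F : ℕ) : ZMod r))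
  have htT : m / orderOf ((Fintype.card F : ℕ) : ZMod r) ≤
      M / orderOf ((Fintype.card F : ℕ) : ZMod r) := Nat.div_le_div_right hmM
  have k1 := Nat.mul_le_mul_left (orderOf ((Fintype.card F : ℕ) : ZMod r)) htT
  by_cases hts : m / orderOf ((Fintype.card F : ℕ) : ZMod r) ≤ s
  · have k2 := Nat.mul_le_mul_left (orderOf ((Fintype.card F : ℕ) : ZMod r)) hts
    by_cases hTs : M / orderOf ((Fintype.card F : ℕ) : ZMod r) ≤ s
    · have k3 := Nat.mul_le_mul_left (orderOf ((Fintype.card F : ℕ) : ZMod r)) hTs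
      obtain ⟨U, W, hUW, hU, hW, hUf, hWf⟩ := exists_flag hq y r hrp hrF hy
        (m % orderOf ((Fintype.card F : ℕ) : ZMod r)) (M % orderOf ((Fintype.card F : ℕ) : ZMod r))
        (m / orderOf ((Fintype.card F : ℕ) : ZMod r)) (M / orderOf ((Fintype.card F : ℕ) : ZMod r))
        h1 h2 htT (by omega)
      exact ⟨U, W, hUW, hU, hW, by rw [hUf]; exact hm, by rw [hWf]; exact hM⟩
    · push Not at hTs
      have k3 := Nat.mul_le_mul_left (orderOf ((Fintype.card F : ℕ) : ZMod r)) hTs.le
      obtain ⟨U, W, hUW, hU, hW, hUf, hWf⟩ := exists_flag hq y r hrp hrF hy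
        (m % orderOf ((Fintype.card F : ℕ) : ZMod r))
        (M - orderOf ((Fintype.card F : ℕ) : ZMod r) * s)
        (m / orderOf ((Fintype.card F : ℕ) : ZMod r)) s
        (by omega) (by omega) hts (by omega)
      exact ⟨U, W, hUW, hU, hW, by rw [hUf]; exact hm, by rw [hWf]; omega⟩
  · push Not at hts
    have k2 := Nat.mul_le_mul_left (orderOf ((Fintype.card F : ℕ) : ZMod r)) hts.le
    obtain ⟨U, W, hUW, hU, hW, hUf, hWf⟩ := exists_flag hq y r hrp hrF hy
      (m - orderOf ((Fintype.card F : ℕ) : ZMod r) * s)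
      (M - orderOf ((Fintype.card F : ℕ) : ZMod r) * s) s s
      (by omega) (by omega) le_rfl (by omega)
    exact ⟨U, W, hUW, hU, hW, by rw [hUf]; omega, by rw [hWf]; omega⟩

end Flag

end Cfsg.Agent.Lib.Helper2.Elus
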