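import Mathlib
import Cfsg.Agent.Lib.Helper6.TvA

/-! # A strongly `3`-embedded subgroup `3^3 : 2^2`: the local structure

`V = F_3^3`, the four sign changes `sg m` of determinant one, the parametrisation
`phi a₁ a₂ a₃ : V → G` of the Sylow `3`-subgroup and the structure `Loc`. -/

set_option autoImplicit false
set_option linter.style.haveILetI false
open Cfsg

namespace Cfsg.Agent.Lib.Helper2.Emb3

/-- the model `F_3^3` of the Sylow `3`-subgroup -/
abbrev V := ZMod 3 × ZMod 3 × ZMod 3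

/-- the four sign changes of determinant one on `V` -/
def sg (m : Fin 4) (v : V) : V :=
  if m = 0 then v
  else if m = 1 then (v.1, -v.2.1, -v.2.2)
  else if m = 2 then (-v.1, v.2.1, -v.2.2)
  else (-v.1, -v.2.1, v.2.2)

section defs

variable {G : Type*} [Group G]

/-- the parametrisation `v ↦ a₁^v₁ a₂^v₂ a₃^v₃` -/
def phi (a₁ a₂ a₃ : G) (v : V) : G :=
  a₁ ^ v.1.val * a₂ ^ v.2.1.val * a₃ ^ v.2.2.val

/-- the four coset representatives `1, e₁, e₂, e₃` of `P` in its normalizer -/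
def eps (e₁ e₂ e₃ : G) (m : Fin 4) : G :=
  if m = 0 then 1 else if m = 1 then e₁ else if m = 2 then e₂ else e₃

/-- The local data of a strongly `3`-embedded subgroup `3^3 : 2^2`: `P` is a Sylow
`3`-subgroup, elementary abelian of order `27` with basis `a₁, a₂, a₃`; its normalizer is
`P · {1, e₁, e₂, e₃}` where `e_i` centralizes `a_i` and inverts the other two basis
elements; centralizers of nonidentity elements of `P` lie in the normalizer of `P`. -/
structure Loc (P : Sylow 3 G) (a₁ a₂ a₃ e₁ e₂ e₃ : G) : Prop where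
  card_P : Nat.card (P : Subgroup G) = 27
  mem : ∀ v : V, phi a₁ a₂ a₃ v ∈ (P : Subgroup G)
  inj : Function.Injective (phi a₁ a₂ a₃)
  mul : ∀ u v : V, phi a₁ a₂ a₃ (u + v) = phi a₁ a₂ a₃ u * phi a₁ a₂ a₃ v
  conj : ∀ (m : Fin 4) (v : V),
    eps e₁ e₂ e₃ m * phi a₁ a₂ a₃ v * (eps e₁ e₂ e₃ m)⁻¹ = phi a₁ a₂ a₃ (sg m v)
  eps_mem : ∀ m : Fin 4, eps e₁ e₂ e₃ m ∈ (P : Subgroup G) → m = 0
  norm : ∀ n ∈ Subgroup.normalizer ((P : Subgroup G) : Set G),
    ∃ (m : Fin 4) (v : V), n = phi a₁ a₂ a₃ v * eps e₁ e₂ e₃ m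
  loc : ∀ s ∈ (P : Subgroup G), s ≠ 1 →
    Subgroup.centralizer ({s} : Set G) ≤ Subgroup.normalizer ((P : Subgroup G) : Set G)

end defs

end Cfsg.Agent.Lib.Helper2.Emb3
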