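import Mathlib
import Cfsg.Agent.Lib.Helper2.Emb3A

/-! # Consequences of `Loc`: fusion, centralizers, normalizer, local class constants -/

set_option autoImplicit false
set_option linter.style.haveILetI false
set_option linter.unusedSectionVars false
open Cfsg

namespace Cfsg.Agent.Lib.Helper2.Emb3

open Cfsg.Agent.Lib.Helper6

theorem sg_inj : ∀ m m' : Fin 4, (∀ u : V, sg m u = sg m' u) → m = m' := by decide

theorem sg_add : ∀ (m : Fin 4) (u v : V), sg m (u + v) = sg m u + sg m v := by decide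

theorem sg_sg : ∀ (m : Fin 4) (u : V), sg m (sg m u) = u := by decide

theorem three_nsmul : ∀ v : V, v + v + v = 0 := by decide

section loc

variable {G : Type*} [Group G] [Finite G] {P : Sylow 3 G} {a₁ a₂ a₃ e₁ e₂ e₃ : G}

theorem phi_zero : phi a₁ a₂ a₃ 0 = 1 := by
  simp [phi]

variable (L : Loc P a₁ a₂ a₃ e₁ e₂ e₃)
include L

theorem Loc.range {t : G} (ht : t ∈ (P : Subgroup G)) : ∃ v : V, t = phi a₁ a₂ a₃ v := by
  classical
  let f : V → (P : Subgroup G) := fun v => ⟨phi a₁ a₂ a₃ v, L.mem v⟩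
  have hf : Function.Injective f := by
    intro u v h
    exact L.inj (congrArg Subtype.val h)
  have hcard : Nat.card V = Nat.card (P : Subgroup G) := by
    rw [L.card_P, Nat.card_eq_fintype_card]; decide
  have hb : Function.Bijective f := by
    haveI : Finite (P : Subgroup G) := inferInstance
    exact (Nat.bijective_iff_injective_and_card f).mpr ⟨hf, hcard⟩
  obtain ⟨v, hv⟩ := hb.2 ⟨t, ht⟩
  exact ⟨v, (congrArg Subtype.val hv).symm⟩

theorem Loc.comm : ∀ x ∈ (P : Subgroup G), ∀ y ∈ (P : Subgroup G), x * y = y * x := by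
  intro x hx y hy
  obtain ⟨u, rfl⟩ := L.range hx
  obtain ⟨v, rfl⟩ := L.range hy
  rw [← L.mul, ← L.mul, add_comm]

theorem Loc.exp : ∀ x ∈ (P : Subgroup G), x ^ 3 = 1 := by
  intro x hx
  obtain ⟨u, rfl⟩ := L.range hx
  rw [pow_succ, pow_two, ← L.mul, ← L.mul, three_nsmul, phi_zero]

theorem Loc.phi_ne_one {v : V} (hv : v ≠ 0) : phi a₁ a₂ a₃ v ≠ 1 := by
  intro h
  apply hv
  apply L.inj
  rw [h, phi_zero]

theorem Loc.phi_inv (v : V) : (phi a₁ a₂ a₃ v)⁻¹ = phi a₁ a₂ a₃ (-v) := by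
  rw [inv_eq_iff_mul_eq_one, ← L.mul, add_neg_cancel, phi_zero]

theorem Loc.eps_normalizer (m : Fin 4) :
    eps e₁ e₂ e₃ m ∈ Subgroup.normalizer ((P : Subgroup G) : Set G) := by
  rw [Subgroup.mem_normalizer_iff]
  intro h
  constructor
  · intro hh
    obtain ⟨v, rfl⟩ := L.range hh
    rw [L.conj]
    exact L.mem _
  · intro hh
    obtain ⟨w, hw⟩ := L.range hh
    have h1 := L.conj m (sg m w)
    rw [sg_sg, ← hw] at h1
    have h2 : phi a₁ a₂ a₃ (sg m w) = h := by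
      have h3 := mul_left_cancel (mul_right_cancel h1)
      exact h3
    rw [← h2]
    exact L.mem _

/-- conjugation by an element of the normalizer, in normal form -/
theorem Loc.conj_nf (m : Fin 4) (w v : V) :
    (phi a₁ a₂ a₃ w * eps e₁ e₂ e₃ m) * phi a₁ a₂ a₃ v * (phi a₁ a₂ a₃ w * eps e₁ e₂ e₃ m)⁻¹
      = phi a₁ a₂ a₃ (sg m v) := by
  have h1 : (phi a₁ a₂ a₃ w * eps e₁ e₂ e₃ m) * phi a₁ a₂ a₃ v
      * (phi a₁ a₂ a₃ w * eps e₁ e₂ e₃ m)⁻¹
      = phi a₁ a₂ a₃ w * (eps e₁ e₂ e₃ m * phi a₁ a₂ a₃ v * (eps e₁ e₂ e₃ m)⁻¹)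
        * (phi a₁ a₂ a₃ w)⁻¹ := by group
  rw [h1, L.conj, L.comm _ (L.mem w) _ (L.mem _), mul_inv_cancel_right]

/-- fusion in `P` is controlled by the four sign changes -/
theorem Loc.isConj_iff {u v : V} (hu : u ≠ 0) :
    IsConj (phi a₁ a₂ a₃ u) (phi a₁ a₂ a₃ v) ↔ ∃ m : Fin 4, v = sg m u := by
  constructor
  · intro h
    obtain ⟨g, hg⟩ := _root_.isConj_iff.mp h
    have hgN : g ∈ Subgroup.normalizer ((P : Subgroup G) : Set G) := by
      apply Tv.mem_normalizer_of_conj P L.loc L.comm L.exp (L.mem u) (L.phi_ne_one hu)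
      rw [hg]; exact L.mem v
    obtain ⟨m, w, rfl⟩ := L.norm g hgN
    rw [L.conj_nf] at hg
    exact ⟨m, (L.inj hg).symm⟩
  · rintro ⟨m, rfl⟩
    rw [_root_.isConj_iff]
    exact ⟨eps e₁ e₂ e₃ m, L.conj m u⟩

theorem Loc.nf_inj {m m' : Fin 4} {w w' : V}
    (h : phi a₁ a₂ a₃ w * eps e₁ e₂ e₃ m = phi a₁ a₂ a₃ w' * eps e₁ e₂ e₃ m') :
    m = m' ∧ w = w' := by
  have hm : m = m' := by
    apply sg_inj
    intro u
    apply L.inj
    rw [← L.conj_nf m w u, ← L.conj_nf m' w' u, h]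
  subst hm
  exact ⟨rfl, L.inj (mul_right_cancel h)⟩

/-- the normalizer of `P` has order `108` -/
theorem Loc.card_normalizer :
    Nat.card (Subgroup.normalizer ((P : Subgroup G) : Set G)) = 108 := by
  classical
  let f : V × Fin 4 → Subgroup.normalizer ((P : Subgroup G) : Set G) := fun q =>
    ⟨phi a₁ a₂ a₃ q.1 * eps e₁ e₂ e₃ q.2,
      Subgroup.mul_mem _ (Subgroup.le_normalizer (L.mem q.1)) (L.eps_normalizer q.2)⟩
  have hf : Function.Bijective f := by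
    constructor
    · intro q q' h
      obtain ⟨h1, h2⟩ := L.nf_inj (congrArg Subtype.val h)
      exact Prod.ext h2 h1
    · intro n
      obtain ⟨m, v, hv⟩ := L.norm n.1 n.2
      exact ⟨(v, m), Subtype.ext hv.symm⟩
  rw [← Nat.card_congr (Equiv.ofBijective f hf), Nat.card_eq_fintype_card]
  decide

/-- the order of the centralizer of a nonidentity element of `P` -/
theorem Loc.card_centralizer {v : V} (hv : v ≠ 0) :
    Nat.card (Subgroup.centralizer ({phi a₁ a₂ a₃ v} : Set G))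
      = 27 * Fintype.card {m : Fin 4 // sg m v = v} := by
  classical
  have hmem : ∀ (w : V) (m : Fin 4), sg m v = v →
      phi a₁ a₂ a₃ w * eps e₁ e₂ e₃ m ∈ Subgroup.centralizer ({phi a₁ a₂ a₃ v} : Set G) := by
    intro w m hm
    rw [Subgroup.mem_centralizer_singleton_iff]
    have h1 := L.conj_nf m w v
    rw [hm] at h1
    exact mul_inv_eq_iff_eq_mul.mp h1
  let f : V × {m : Fin 4 // sg m v = v} → Subgroup.centralizer ({phi a₁ a₂ a₃ v} : Set G) :=
    fun q => ⟨phi a₁ a₂ a₃ q.1 * eps e₁ e₂ e₃ q.2.1, hmem q.1 q.2.1 q.2.2⟩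
  have hf : Function.Bijective f := by
    constructor
    · intro q q' h
      obtain ⟨h1, h2⟩ := L.nf_inj (congrArg Subtype.val h)
      exact Prod.ext h2 (Subtype.ext h1)
    · intro c
      have hcN := L.loc _ (L.mem v) (L.phi_ne_one hv) c.2
      obtain ⟨m, w, hw⟩ := L.norm c.1 hcN
      have hc := Subgroup.mem_centralizer_singleton_iff.mp c.2
      have h1 := L.conj_nf m w v
      rw [← hw] at h1
      have h2 : (c : G) * phi a₁ a₂ a₃ v * (c : G)⁻¹ = phi a₁ a₂ a₃ v := by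
        rw [hc]; group
      rw [h2] at h1
      exact ⟨(w, ⟨m, (L.inj h1).symm⟩), Subtype.ext hw.symm⟩
  rw [← Nat.card_congr (Equiv.ofBijective f hf), Nat.card_eq_fintype_card, Fintype.card_prod]
  congr 1

theorem Loc.cube_of_isConj {v : V} {p : G} (h : IsConj (phi a₁ a₂ a₃ v) p) : p ^ 3 = 1 := by
  obtain ⟨g, hg⟩ := _root_.isConj_iff.mp h
  rw [← hg, conj_pow, L.exp _ (L.mem v)]
  group

/-- the `(3,3,3)`-triangle lemma in symmetric form: if `p q = phi w ≠ 1` with `p, q` conjugate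
to elements of `P` and not both conjugate to `(phi w)⁻¹`, then `p, q ∈ P` -/
theorem Loc.mem_of_mul {v₁ v₂ w : V} (hw : w ≠ 0)
    (hnc : (¬ ∃ m : Fin 4, -w = sg m v₁) ∨ (¬ ∃ m : Fin 4, -w = sg m v₂)) {p q : G}
    (hv₁ : v₁ ≠ 0) (hv₂ : v₂ ≠ 0)
    (hp : IsConj (phi a₁ a₂ a₃ v₁) p) (hq : IsConj (phi a₁ a₂ a₃ v₂) q)
    (hpq : p * q = phi a₁ a₂ a₃ w) : p ∈ (P : Subgroup G) ∧ q ∈ (P : Subgroup G) := by
  have hp3 := L.cube_of_isConj hp
  have hq3 := L.cube_of_isConj hq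
  have hw1 : p * q ≠ 1 := by rw [hpq]; exact L.phi_ne_one hw
  have hwP : p * q ∈ (P : Subgroup G) := by rw [hpq]; exact L.mem w
  rcases hnc with hnc | hnc
  · apply Tv.mem_of_mul P L.loc L.comm L.exp p q hp3 hq3 hwP hw1
    intro hc
    apply hnc
    rw [hpq, L.phi_inv] at hc
    exact (L.isConj_iff hv₁).mp (hp.trans hc)
  · have hb3 : (q⁻¹ * p * q) ^ 3 = 1 := by
      have : q⁻¹ * p * q = q⁻¹ * p * q⁻¹⁻¹ := by rw [inv_inv]
      rw [this, conj_pow, hp3]; group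
    have hab : q * (q⁻¹ * p * q) = p * q := by group
    have h1 := Tv.mem_of_mul P L.loc L.comm L.exp q (q⁻¹ * p * q) hq3 hb3
      (by rw [hab]; exact hwP) (by rw [hab]; exact hw1) (by
        intro hc
        apply hnc
        rw [hab, hpq, L.phi_inv] at hc
        exact (L.isConj_iff hv₂).mp (hq.trans hc))
    refine ⟨?_, h1.1⟩
    have : p = (p * q) * q⁻¹ := by group
    rw [this]
    exact Subgroup.mul_mem _ hwP (Subgroup.inv_mem _ h1.1)

/-- class multiplication constants of `3`-classes are computed inside `P` -/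
theorem Loc.card_pairs (v₁ v₂ w : V) (hv₁ : v₁ ≠ 0) (hv₂ : v₂ ≠ 0) (hw : w ≠ 0)
    (hnc : (¬ ∃ m : Fin 4, -w = sg m v₁) ∨ (¬ ∃ m : Fin 4, -w = sg m v₂)) :
    Nat.card {p : G × G // IsConj (phi a₁ a₂ a₃ v₁) p.1 ∧ IsConj (phi a₁ a₂ a₃ v₂) p.2
        ∧ p.1 * p.2 = phi a₁ a₂ a₃ w}
      = Fintype.card {q : V × V // (∃ m : Fin 4, q.1 = sg m v₁) ∧ (∃ m : Fin 4, q.2 = sg m v₂)
        ∧ q.1 + q.2 = w} := by
  classical
  let f : {q : V × V // (∃ m : Fin 4, q.1 = sg m v₁) ∧ (∃ m : Fin 4, q.2 = sg m v₂)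
        ∧ q.1 + q.2 = w} →
      {p : G × G // IsConj (phi a₁ a₂ a₃ v₁) p.1 ∧ IsConj (phi a₁ a₂ a₃ v₂) p.2
        ∧ p.1 * p.2 = phi a₁ a₂ a₃ w} := fun q =>
    ⟨(phi a₁ a₂ a₃ q.1.1, phi a₁ a₂ a₃ q.1.2),
      (L.isConj_iff hv₁).mpr q.2.1, (L.isConj_iff hv₂).mpr q.2.2.1, by
        rw [← L.mul, q.2.2.2]⟩
  have hf : Function.Bijective f := by
    constructor
    · intro q q' h
      have h1 := congrArg (fun z => z.1.1) h
      have h2 := congrArg (fun z => z.1.2) h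
      exact Subtype.ext (Prod.ext (L.inj h1) (L.inj h2))
    · rintro ⟨⟨p, q⟩, hp, hq, hpq⟩
      obtain ⟨hpP, hqP⟩ := L.mem_of_mul hw hnc hv₁ hv₂ hp hq hpq
      obtain ⟨u, rfl⟩ := L.range hpP
      obtain ⟨u', rfl⟩ := L.range hqP
      refine ⟨⟨(u, u'), (L.isConj_iff hv₁).mp hp, (L.isConj_iff hv₂).mp hq, ?_⟩, rfl⟩
      apply L.inj
      rw [L.mul]
      exact hpq
  rw [← Nat.card_congr (Equiv.ofBijective f hf), Nat.card_eq_fintype_card]

end loc

end Cfsg.Agent.Lib.Helper2.Emb3
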