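import Mathlib
import Cfsg.Agent.Lib.Helper2.Emb3B
import Cfsg.Agent.Lib.Helper6.Mult
import Cfsg.Agent.Lib.Helper6.CharOps

/-! # Restriction of characters to the Sylow `3`-subgroup `P ≅ F_3^3`: multiplicities -/

set_option autoImplicit false
set_option linter.style.haveILetI false
set_option linter.unusedSectionVars false
open Cfsg

namespace Cfsg.Agent.Lib.Helper2.Emb3

open scoped ComplexConjugate
open Cfsg.Agent.Lib.Helper6

/-- a primitive cube root of unity -/
noncomputable def om : ℂ := ⟨-1 / 2, Real.sqrt 3 / 2⟩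

theorem om_rel : om ^ 2 + om + 1 = 0 := by
  have h3 : Real.sqrt 3 * Real.sqrt 3 = 3 := Real.mul_self_sqrt (by norm_num)
  apply Complex.ext
  · simp only [om, pow_two, Complex.add_re, Complex.mul_re, Complex.one_re, Complex.zero_re]
    nlinarith
  · simp only [om, pow_two, Complex.add_im, Complex.mul_im, Complex.one_im, Complex.zero_im]
    ring

theorem om_cube : om ^ 3 = 1 := by
  linear_combination (om - 1) * om_rel

theorem conj_om : conj om = om ^ 2 := by
  have h3 : Real.sqrt 3 * Real.sqrt 3 = 3 := Real.mul_self_sqrt (by norm_num)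
  apply Complex.ext
  · simp only [om, pow_two, Complex.conj_re, Complex.mul_re]
    nlinarith
  · simp only [om, pow_two, Complex.conj_im, Complex.mul_im]
    ring

/-- `om` as a unit -/
noncomputable def omU : ℂˣ := ⟨om, om ^ 2, by linear_combination om_cube, by linear_combination om_cube⟩

theorem omU_cube : omU ^ 3 = 1 := by
  apply Units.ext
  rw [Units.val_pow_eq_pow_val]
  exact om_cube

/-- the standard pairing on `V` -/
def dot (l v : V) : ZMod 3 := l.1 * v.1 + l.2.1 * v.2.1 + l.2.2 * v.2.2

theorem dot_add (l u v : V) : dot l (u + v) = dot l u + dot l v := by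
  simp only [dot, Prod.fst_add, Prod.snd_add]; ring

/-- the conjugate of the standard character of `ZMod 3` -/
noncomputable def chi3 (k : ZMod 3) : ℂ := if k = 0 then 1 else if k = 1 then om ^ 2 else om

theorem chi3_zero : chi3 0 = 1 := by simp [chi3]

theorem chi3_one : chi3 1 = om ^ 2 := by
  have : (1 : ZMod 3) ≠ 0 := by decide
  simp [chi3, this]

theorem chi3_two : chi3 2 = om := by
  have h1 : (2 : ZMod 3) ≠ 0 := by decide
  have h2 : (2 : ZMod 3) ≠ 1 := by decide
  simp [chi3, h1, h2]

theorem conj_om_pow (k : ZMod 3) : conj (om ^ k.val) = chi3 k := by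
  rw [map_pow, conj_om]
  fin_cases k
  · show (om ^ 2) ^ (0 : ZMod 3).val = chi3 0
    rw [chi3_zero, ZMod.val_zero, pow_zero]
  · show (om ^ 2) ^ (1 : ZMod 3).val = chi3 1
    rw [chi3_one]; simp [ZMod.val_one]
  · show (om ^ 2) ^ (2 : ZMod 3).val = chi3 2
    rw [chi3_two]
    have : (2 : ZMod 3).val = 2 := rfl
    rw [this]
    linear_combination om * om_cube

theorem pow_val_add {M : Type*} [Monoid M] (x : M) (hx : x ^ 3 = 1) (a b : ZMod 3) :
    x ^ (a + b).val = x ^ a.val * x ^ b.val := by
  rw [ZMod.val_add, ← pow_add, ← pow_eq_pow_mod _ hx]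

/-- the linear character of `V` attached to `l` -/
noncomputable def lamHom (l : V) : Multiplicative V →* ℂˣ where
  toFun g := omU ^ (dot l (Multiplicative.toAdd g)).val
  map_one' := by simp [dot]
  map_mul' g h := by
    rw [toAdd_mul, dot_add, pow_val_add _ omU_cube]

section loc

variable {G : Type*} [Group G] [Finite G] {P : Sylow 3 G} {a₁ a₂ a₃ e₁ e₂ e₃ : G}
variable (L : Loc P a₁ a₂ a₃ e₁ e₂ e₃)
include L

/-- the parametrisation of `P` as a homomorphism -/
def Loc.phiHom : Multiplicative V →* G where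
  toFun g := phi a₁ a₂ a₃ (Multiplicative.toAdd g)
  map_one' := by simp [phi_zero]
  map_mul' g h := by rw [toAdd_mul, L.mul]

/-- the multiplicity of the linear character `l` of `P` in a character of `G` -/
theorem Loc.mult_exists {χ : G → ℂ} (hχ : Cfsg.IsCharacter G χ) (l : V) :
    ∃ n : ℕ, ∑ v : V, χ (phi a₁ a₂ a₃ v) * chi3 (dot l v) = 27 * (n : ℂ) := by
  classical
  have h1 : Cfsg.IsCharacter (Multiplicative V) (fun g => χ (L.phiHom g)) :=
    IsCharacter.comp L.phiHom hχ
  have h2 : Cfsg.IsCharacter (Multiplicative V) (fun g => ((lamHom l g : ℂˣ) : ℂ)) :=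
    IsIrrCharacter.isCharacter (isIrrCharacter_of_hom (lamHom l))
  obtain ⟨n, hn⟩ := IsCharacter.classInner_nat h1 h2
  refine ⟨n, ?_⟩
  rw [Cfsg.classInner] at hn
  have hc : (Nat.card (Multiplicative V) : ℂ) = 27 := by
    rw [Nat.card_eq_fintype_card]
    have : Fintype.card (Multiplicative V) = 27 := by decide
    rw [this]; norm_num
  rw [hc] at hn
  have h3 : ∑ g : Multiplicative V, χ (L.phiHom g) * conj ((lamHom l g : ℂˣ) : ℂ)
      = ∑ v : V, χ (phi a₁ a₂ a₃ v) * chi3 (dot l v) := by
    apply Fintype.sum_equiv Multiplicative.toAdd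
    intro g
    have : ((lamHom l g : ℂˣ) : ℂ) = om ^ (dot l (Multiplicative.toAdd g)).val := by
      show ((omU ^ (dot l (Multiplicative.toAdd g)).val : ℂˣ) : ℂ) = _
      rw [Units.val_pow_eq_pow_val]; rfl
    rw [this, conj_om_pow]
    rfl
  rw [h3] at hn
  rw [← hn]
  field_simp

end loc

end Cfsg.Agent.Lib.Helper2.Emb3
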