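import Mathlib
import Cfsg.Agent.Lib.Helper2.Emb3C

/-! # Fourier sums over `V = F_3^3` of functions invariant under the four sign changes -/

set_option autoImplicit false
set_option linter.style.haveILetI false
set_option linter.unusedSectionVars false
set_option linter.unusedVariables false
open Cfsg

namespace Cfsg.Agent.Lib.Helper2.Emb3

theorem sum3 (g : ZMod 3 → ℂ) : ∑ i : ZMod 3, g i = g 0 + g 1 + g 2 :=
  Fin.sum_univ_three g

theorem sumV (f : V → ℂ) : ∑ v : V, f v = f (0, 0, 0) + f (0, 0, 1) + f (0, 0, 2) + f (0, 1, 0) + f (0, 1, 1) + f (0, 1, 2) + f (0, 2, 0) + f (0, 2, 1) + f (0, 2, 2) + f (1, 0, 0) + f (1, 0, 1) + f (1, 0, 2) + f (1, 1, 0) + f (1, 1, 1) + f (1, 1, 2) + f (1, 2, 0) + f (1, 2, 1) + f (1, 2, 2) + f (2, 0, 0) + f (2, 0, 1) + f (2, 0, 2) + f (2, 1, 0) + f (2, 1, 1) + f (2, 1, 2) + f (2, 2, 0) + f (2, 2, 1) + f (2, 2, 2) := by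
  simp only [Fintype.sum_prod_type, sum3]
  ring

theorem fourier_110 (F : V → ℂ) (hF : ∀ (m : Fin 4) (v : V), F (sg m v) = F v) :
    ∑ v : V, F v * chi3 (dot (1, 1, 0) v) = (1 : ℂ) * F (0, 0, 0) + (-1 : ℂ) * F (1, 0, 0) + (-1 : ℂ) * F (0, 1, 0) + (2 : ℂ) * F (0, 0, 1) + (-2 : ℂ) * F (0, 1, 1) + (-2 : ℂ) * F (1, 0, 1) + (1 : ℂ) * F (1, 1, 0) + (1 : ℂ) * F (1, 1, 1) + (1 : ℂ) * F (2, 2, 2) := by
  have f002 : F (0, 0, 2) = F (0, 0, 1) := by
    rw [show ((0, 0, 2) : V) = sg 1 (0, 0, 1) by decide]; exact hF _ _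
  have f012 : F (0, 1, 2) = F (0, 1, 1) := by
    rw [show ((0, 1, 2) : V) = sg 2 (0, 1, 1) by decide]; exact hF _ _
  have f020 : F (0, 2, 0) = F (0, 1, 0) := by
    rw [show ((0, 2, 0) : V) = sg 1 (0, 1, 0) by decide]; exact hF _ _
  have f021 : F (0, 2, 1) = F (0, 1, 1) := by
    rw [show ((0, 2, 1) : V) = sg 3 (0, 1, 1) by decide]; exact hF _ _
  have f022 : F (0, 2, 2) = F (0, 1, 1) := by
    rw [show ((0, 2, 2) : V) = sg 1 (0, 1, 1) by decide]; exact hF _ _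
  have f102 : F (1, 0, 2) = F (1, 0, 1) := by
    rw [show ((1, 0, 2) : V) = sg 1 (1, 0, 1) by decide]; exact hF _ _
  have f112 : F (1, 1, 2) = F (2, 2, 2) := by
    rw [show ((1, 1, 2) : V) = sg 3 (2, 2, 2) by decide]; exact hF _ _
  have f120 : F (1, 2, 0) = F (1, 1, 0) := by
    rw [show ((1, 2, 0) : V) = sg 1 (1, 1, 0) by decide]; exact hF _ _
  have f121 : F (1, 2, 1) = F (2, 2, 2) := by
    rw [show ((1, 2, 1) : V) = sg 2 (2, 2, 2) by decide]; exact hF _ _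
  have f122 : F (1, 2, 2) = F (1, 1, 1) := by
    rw [show ((1, 2, 2) : V) = sg 1 (1, 1, 1) by decide]; exact hF _ _
  have f200 : F (2, 0, 0) = F (1, 0, 0) := by
    rw [show ((2, 0, 0) : V) = sg 2 (1, 0, 0) by decide]; exact hF _ _
  have f201 : F (2, 0, 1) = F (1, 0, 1) := by
    rw [show ((2, 0, 1) : V) = sg 3 (1, 0, 1) by decide]; exact hF _ _
  have f202 : F (2, 0, 2) = F (1, 0, 1) := by
    rw [show ((2, 0, 2) : V) = sg 2 (1, 0, 1) by decide]; exact hF _ _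
  have f210 : F (2, 1, 0) = F (1, 1, 0) := by
    rw [show ((2, 1, 0) : V) = sg 2 (1, 1, 0) by decide]; exact hF _ _
  have f211 : F (2, 1, 1) = F (2, 2, 2) := by
    rw [show ((2, 1, 1) : V) = sg 1 (2, 2, 2) by decide]; exact hF _ _
  have f212 : F (2, 1, 2) = F (1, 1, 1) := by
    rw [show ((2, 1, 2) : V) = sg 2 (1, 1, 1) by decide]; exact hF _ _
  have f220 : F (2, 2, 0) = F (1, 1, 0) := by
    rw [show ((2, 2, 0) : V) = sg 3 (1, 1, 0) by decide]; exact hF _ _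
  have f221 : F (2, 2, 1) = F (1, 1, 1) := by
    rw [show ((2, 2, 1) : V) = sg 3 (1, 1, 1) by decide]; exact hF _ _
  have d000 : dot (1, 1, 0) (0, 0, 0) = 0 := by decide
  have d001 : dot (1, 1, 0) (0, 0, 1) = 0 := by decide
  have d002 : dot (1, 1, 0) (0, 0, 2) = 0 := by decide
  have d010 : dot (1, 1, 0) (0, 1, 0) = 1 := by decide
  have d011 : dot (1, 1, 0) (0, 1, 1) = 1 := by decide
  have d012 : dot (1, 1, 0) (0, 1, 2) = 1 := by decide
  have d020 : dot (1, 1, 0) (0, 2, 0) = 2 := by decide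
  have d021 : dot (1, 1, 0) (0, 2, 1) = 2 := by decide
  have d022 : dot (1, 1, 0) (0, 2, 2) = 2 := by decide
  have d100 : dot (1, 1, 0) (1, 0, 0) = 1 := by decide
  have d101 : dot (1, 1, 0) (1, 0, 1) = 1 := by decide
  have d102 : dot (1, 1, 0) (1, 0, 2) = 1 := by decide
  have d110 : dot (1, 1, 0) (1, 1, 0) = 2 := by decide
  have d111 : dot (1, 1, 0) (1, 1, 1) = 2 := by decide
  have d112 : dot (1, 1, 0) (1, 1, 2) = 2 := by decide
  have d120 : dot (1, 1, 0) (1, 2, 0) = 0 := by decide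
  have d121 : dot (1, 1, 0) (1, 2, 1) = 0 := by decide
  have d122 : dot (1, 1, 0) (1, 2, 2) = 0 := by decide
  have d200 : dot (1, 1, 0) (2, 0, 0) = 2 := by decide
  have d201 : dot (1, 1, 0) (2, 0, 1) = 2 := by decide
  have d202 : dot (1, 1, 0) (2, 0, 2) = 2 := by decide
  have d210 : dot (1, 1, 0) (2, 1, 0) = 0 := by decide
  have d211 : dot (1, 1, 0) (2, 1, 1) = 0 := by decide
  have d212 : dot (1, 1, 0) (2, 1, 2) = 0 := by decide
  have d220 : dot (1, 1, 0) (2, 2, 0) = 1 := by decide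
  have d221 : dot (1, 1, 0) (2, 2, 1) = 1 := by decide
  have d222 : dot (1, 1, 0) (2, 2, 2) = 1 := by decide
  rw [sumV]
  simp only [d000, d001, d002, d010, d011, d012, d020, d021, d022, d100, d101, d102, d110, d111, d112, d120, d121, d122, d200, d201, d202, d210, d211, d212, d220, d221, d222]
  simp only [f002, f012, f020, f021, f022, f102, f112, f120, f121, f122, f200, f201, f202, f210, f211, f212, f220, f221, chi3_zero, chi3_one, chi3_two]
  linear_combination ((0 : ℂ) * F (0, 0, 0) + (1 : ℂ) * F (1, 0, 0) + (1 : ℂ) * F (0, 1, 0) + (0 : ℂ) * F (0, 0, 1) + (2 : ℂ) * F (0, 1, 1) + (2 : ℂ) * F (1, 0, 1) + (1 : ℂ) * F (1, 1, 0) + (1 : ℂ) * F (1, 1, 1) + (1 : ℂ) * F (2, 2, 2)) * om_rel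

theorem fourier_011 (F : V → ℂ) (hF : ∀ (m : Fin 4) (v : V), F (sg m v) = F v) :
    ∑ v : V, F v * chi3 (dot (0, 1, 1) v) = (1 : ℂ) * F (0, 0, 0) + (2 : ℂ) * F (1, 0, 0) + (-1 : ℂ) * F (0, 1, 0) + (-1 : ℂ) * F (0, 0, 1) + (1 : ℂ) * F (0, 1, 1) + (-2 : ℂ) * F (1, 0, 1) + (-2 : ℂ) * F (1, 1, 0) + (1 : ℂ) * F (1, 1, 1) + (1 : ℂ) * F (2, 2, 2) := by
  have f002 : F (0, 0, 2) = F (0, 0, 1) := by
    rw [show ((0, 0, 2) : V) = sg 1 (0, 0, 1) by decide]; exact hF _ _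
  have f012 : F (0, 1, 2) = F (0, 1, 1) := by
    rw [show ((0, 1, 2) : V) = sg 2 (0, 1, 1) by decide]; exact hF _ _
  have f020 : F (0, 2, 0) = F (0, 1, 0) := by
    rw [show ((0, 2, 0) : V) = sg 1 (0, 1, 0) by decide]; exact hF _ _
  have f021 : F (0, 2, 1) = F (0, 1, 1) := by
    rw [show ((0, 2, 1) : V) = sg 3 (0, 1, 1) by decide]; exact hF _ _
  have f022 : F (0, 2, 2) = F (0, 1, 1) := by
    rw [show ((0, 2, 2) : V) = sg 1 (0, 1, 1) by decide]; exact hF _ _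
  have f102 : F (1, 0, 2) = F (1, 0, 1) := by
    rw [show ((1, 0, 2) : V) = sg 1 (1, 0, 1) by decide]; exact hF _ _
  have f112 : F (1, 1, 2) = F (2, 2, 2) := by
    rw [show ((1, 1, 2) : V) = sg 3 (2, 2, 2) by decide]; exact hF _ _
  have f120 : F (1, 2, 0) = F (1, 1, 0) := by
    rw [show ((1, 2, 0) : V) = sg 1 (1, 1, 0) by decide]; exact hF _ _
  have f121 : F (1, 2, 1) = F (2, 2, 2) := by
    rw [show ((1, 2, 1) : V) = sg 2 (2, 2, 2) by decide]; exact hF _ _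
  have f122 : F (1, 2, 2) = F (1, 1, 1) := by
    rw [show ((1, 2, 2) : V) = sg 1 (1, 1, 1) by decide]; exact hF _ _
  have f200 : F (2, 0, 0) = F (1, 0, 0) := by
    rw [show ((2, 0, 0) : V) = sg 2 (1, 0, 0) by decide]; exact hF _ _
  have f201 : F (2, 0, 1) = F (1, 0, 1) := by
    rw [show ((2, 0, 1) : V) = sg 3 (1, 0, 1) by decide]; exact hF _ _
  have f202 : F (2, 0, 2) = F (1, 0, 1) := by
    rw [show ((2, 0, 2) : V) = sg 2 (1, 0, 1) by decide]; exact hF _ _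
  have f210 : F (2, 1, 0) = F (1, 1, 0) := by
    rw [show ((2, 1, 0) : V) = sg 2 (1, 1, 0) by decide]; exact hF _ _
  have f211 : F (2, 1, 1) = F (2, 2, 2) := by
    rw [show ((2, 1, 1) : V) = sg 1 (2, 2, 2) by decide]; exact hF _ _
  have f212 : F (2, 1, 2) = F (1, 1, 1) := by
    rw [show ((2, 1, 2) : V) = sg 2 (1, 1, 1) by decide]; exact hF _ _
  have f220 : F (2, 2, 0) = F (1, 1, 0) := by
    rw [show ((2, 2, 0) : V) = sg 3 (1, 1, 0) by decide]; exact hF _ _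
  have f221 : F (2, 2, 1) = F (1, 1, 1) := by
    rw [show ((2, 2, 1) : V) = sg 3 (1, 1, 1) by decide]; exact hF _ _
  have d000 : dot (0, 1, 1) (0, 0, 0) = 0 := by decide
  have d001 : dot (0, 1, 1) (0, 0, 1) = 1 := by decide
  have d002 : dot (0, 1, 1) (0, 0, 2) = 2 := by decide
  have d010 : dot (0, 1, 1) (0, 1, 0) = 1 := by decide
  have d011 : dot (0, 1, 1) (0, 1, 1) = 2 := by decide
  have d012 : dot (0, 1, 1) (0, 1, 2) = 0 := by decide
  have d020 : dot (0, 1, 1) (0, 2, 0) = 2 := by decide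
  have d021 : dot (0, 1, 1) (0, 2, 1) = 0 := by decide
  have d022 : dot (0, 1, 1) (0, 2, 2) = 1 := by decide
  have d100 : dot (0, 1, 1) (1, 0, 0) = 0 := by decide
  have d101 : dot (0, 1, 1) (1, 0, 1) = 1 := by decide
  have d102 : dot (0, 1, 1) (1, 0, 2) = 2 := by decide
  have d110 : dot (0, 1, 1) (1, 1, 0) = 1 := by decide
  have d111 : dot (0, 1, 1) (1, 1, 1) = 2 := by decide
  have d112 : dot (0, 1, 1) (1, 1, 2) = 0 := by decide
  have d120 : dot (0, 1, 1) (1, 2, 0) = 2 := by decide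
  have d121 : dot (0, 1, 1) (1, 2, 1) = 0 := by decide
  have d122 : dot (0, 1, 1) (1, 2, 2) = 1 := by decide
  have d200 : dot (0, 1, 1) (2, 0, 0) = 0 := by decide
  have d201 : dot (0, 1, 1) (2, 0, 1) = 1 := by decide
  have d202 : dot (0, 1, 1) (2, 0, 2) = 2 := by decide
  have d210 : dot (0, 1, 1) (2, 1, 0) = 1 := by decide
  have d211 : dot (0, 1, 1) (2, 1, 1) = 2 := by decide
  have d212 : dot (0, 1, 1) (2, 1, 2) = 0 := by decide
  have d220 : dot (0, 1, 1) (2, 2, 0) = 2 := by decide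
  have d221 : dot (0, 1, 1) (2, 2, 1) = 0 := by decide
  have d222 : dot (0, 1, 1) (2, 2, 2) = 1 := by decide
  rw [sumV]
  simp only [d000, d001, d002, d010, d011, d012, d020, d021, d022, d100, d101, d102, d110, d111, d112, d120, d121, d122, d200, d201, d202, d210, d211, d212, d220, d221, d222]
  simp only [f002, f012, f020, f021, f022, f102, f112, f120, f121, f122, f200, f201, f202, f210, f211, f212, f220, f221, chi3_zero, chi3_one, chi3_two]
  linear_combination ((0 : ℂ) * F (0, 0, 0) + (0 : ℂ) * F (1, 0, 0) + (1 : ℂ) * F (0, 1, 0) + (1 : ℂ) * F (0, 0, 1) + (1 : ℂ) * F (0, 1, 1) + (2 : ℂ) * F (1, 0, 1) + (2 : ℂ) * F (1, 1, 0) + (1 : ℂ) * F (1, 1, 1) + (1 : ℂ) * F (2, 2, 2)) * om_rel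

theorem fourier_101 (F : V → ℂ) (hF : ∀ (m : Fin 4) (v : V), F (sg m v) = F v) :
    ∑ v : V, F v * chi3 (dot (1, 0, 1) v) = (1 : ℂ) * F (0, 0, 0) + (-1 : ℂ) * F (1, 0, 0) + (2 : ℂ) * F (0, 1, 0) + (-1 : ℂ) * F (0, 0, 1) + (-2 : ℂ) * F (0, 1, 1) + (1 : ℂ) * F (1, 0, 1) + (-2 : ℂ) * F (1, 1, 0) + (1 : ℂ) * F (1, 1, 1) + (1 : ℂ) * F (2, 2, 2) := by
  have f002 : F (0, 0, 2) = F (0, 0, 1) := by
    rw [show ((0, 0, 2) : V) = sg 1 (0, 0, 1) by decide]; exact hF _ _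
  have f012 : F (0, 1, 2) = F (0, 1, 1) := by
    rw [show ((0, 1, 2) : V) = sg 2 (0, 1, 1) by decide]; exact hF _ _
  have f020 : F (0, 2, 0) = F (0, 1, 0) := by
    rw [show ((0, 2, 0) : V) = sg 1 (0, 1, 0) by decide]; exact hF _ _
  have f021 : F (0, 2, 1) = F (0, 1, 1) := by
    rw [show ((0, 2, 1) : V) = sg 3 (0, 1, 1) by decide]; exact hF _ _
  have f022 : F (0, 2, 2) = F (0, 1, 1) := by
    rw [show ((0, 2, 2) : V) = sg 1 (0, 1, 1) by decide]; exact hF _ _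
  have f102 : F (1, 0, 2) = F (1, 0, 1) := by
    rw [show ((1, 0, 2) : V) = sg 1 (1, 0, 1) by decide]; exact hF _ _
  have f112 : F (1, 1, 2) = F (2, 2, 2) := by
    rw [show ((1, 1, 2) : V) = sg 3 (2, 2, 2) by decide]; exact hF _ _
  have f120 : F (1, 2, 0) = F (1, 1, 0) := by
    rw [show ((1, 2, 0) : V) = sg 1 (1, 1, 0) by decide]; exact hF _ _
  have f121 : F (1, 2, 1) = F (2, 2, 2) := by
    rw [show ((1, 2, 1) : V) = sg 2 (2, 2, 2) by decide]; exact hF _ _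
  have f122 : F (1, 2, 2) = F (1, 1, 1) := by
    rw [show ((1, 2, 2) : V) = sg 1 (1, 1, 1) by decide]; exact hF _ _
  have f200 : F (2, 0, 0) = F (1, 0, 0) := by
    rw [show ((2, 0, 0) : V) = sg 2 (1, 0, 0) by decide]; exact hF _ _
  have f201 : F (2, 0, 1) = F (1, 0, 1) := by
    rw [show ((2, 0, 1) : V) = sg 3 (1, 0, 1) by decide]; exact hF _ _
  have f202 : F (2, 0, 2) = F (1, 0, 1) := by
    rw [show ((2, 0, 2) : V) = sg 2 (1, 0, 1) by decide]; exact hF _ _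
  have f210 : F (2, 1, 0) = F (1, 1, 0) := by
    rw [show ((2, 1, 0) : V) = sg 2 (1, 1, 0) by decide]; exact hF _ _
  have f211 : F (2, 1, 1) = F (2, 2, 2) := by
    rw [show ((2, 1, 1) : V) = sg 1 (2, 2, 2) by decide]; exact hF _ _
  have f212 : F (2, 1, 2) = F (1, 1, 1) := by
    rw [show ((2, 1, 2) : V) = sg 2 (1, 1, 1) by decide]; exact hF _ _
  have f220 : F (2, 2, 0) = F (1, 1, 0) := by
    rw [show ((2, 2, 0) : V) = sg 3 (1, 1, 0) by decide]; exact hF _ _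
  have f221 : F (2, 2, 1) = F (1, 1, 1) := by
    rw [show ((2, 2, 1) : V) = sg 3 (1, 1, 1) by decide]; exact hF _ _
  have d000 : dot (1, 0, 1) (0, 0, 0) = 0 := by decide
  have d001 : dot (1, 0, 1) (0, 0, 1) = 1 := by decide
  have d002 : dot (1, 0, 1) (0, 0, 2) = 2 := by decide
  have d010 : dot (1, 0, 1) (0, 1, 0) = 0 := by decide
  have d011 : dot (1, 0, 1) (0, 1, 1) = 1 := by decide
  have d012 : dot (1, 0, 1) (0, 1, 2) = 2 := by decide
  have d020 : dot (1, 0, 1) (0, 2, 0) = 0 := by decide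
  have d021 : dot (1, 0, 1) (0, 2, 1) = 1 := by decide
  have d022 : dot (1, 0, 1) (0, 2, 2) = 2 := by decide
  have d100 : dot (1, 0, 1) (1, 0, 0) = 1 := by decide
  have d101 : dot (1, 0, 1) (1, 0, 1) = 2 := by decide
  have d102 : dot (1, 0, 1) (1, 0, 2) = 0 := by decide
  have d110 : dot (1, 0, 1) (1, 1, 0) = 1 := by decide
  have d111 : dot (1, 0, 1) (1, 1, 1) = 2 := by decide
  have d112 : dot (1, 0, 1) (1, 1, 2) = 0 := by decide
  have d120 : dot (1, 0, 1) (1, 2, 0) = 1 := by decide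
  have d121 : dot (1, 0, 1) (1, 2, 1) = 2 := by decide
  have d122 : dot (1, 0, 1) (1, 2, 2) = 0 := by decide
  have d200 : dot (1, 0, 1) (2, 0, 0) = 2 := by decide
  have d201 : dot (1, 0, 1) (2, 0, 1) = 0 := by decide
  have d202 : dot (1, 0, 1) (2, 0, 2) = 1 := by decide
  have d210 : dot (1, 0, 1) (2, 1, 0) = 2 := by decide
  have d211 : dot (1, 0, 1) (2, 1, 1) = 0 := by decide
  have d212 : dot (1, 0, 1) (2, 1, 2) = 1 := by decide
  have d220 : dot (1, 0, 1) (2, 2, 0) = 2 := by decide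
  have d221 : dot (1, 0, 1) (2, 2, 1) = 0 := by decide
  have d222 : dot (1, 0, 1) (2, 2, 2) = 1 := by decide
  rw [sumV]
  simp only [d000, d001, d002, d010, d011, d012, d020, d021, d022, d100, d101, d102, d110, d111, d112, d120, d121, d122, d200, d201, d202, d210, d211, d212, d220, d221, d222]
  simp only [f002, f012, f020, f021, f022, f102, f112, f120, f121, f122, f200, f201, f202, f210, f211, f212, f220, f221, chi3_zero, chi3_one, chi3_two]
  linear_combination ((0 : ℂ) * F (0, 0, 0) + (1 : ℂ) * F (1, 0, 0) + (0 : ℂ) * F (0, 1, 0) + (1 : ℂ) * F (0, 0, 1) + (2 : ℂ) * F (0, 1, 1) + (1 : ℂ) * F (1, 0, 1) + (2 : ℂ) * F (1, 1, 0) + (1 : ℂ) * F (1, 1, 1) + (1 : ℂ) * F (2, 2, 2)) * om_rel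

end Cfsg.Agent.Lib.Helper2.Emb3
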