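import Mathlib
import Cfsg.Agent.Lib.Helper2.Emb3D
import Cfsg.Agent.Lib.Helper6.TvH
import Cfsg.Agent.Lib.Helper6.BLCoh

/-! # Integer columns at the real `3`-classes and the two integral lattice vectors -/

set_option autoImplicit false
set_option linter.style.haveILetI false
set_option linter.unusedSectionVars false
open Cfsg

namespace Cfsg.Agent.Lib.Helper2.Emb3

open scoped ComplexConjugate
open Cfsg.Agent.Lib.Helper6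

section loc

variable {G : Type*} [Group G] [Fintype G] {P : Sylow 3 G} {a₁ a₂ a₃ e₁ e₂ e₃ : G}
variable (L : Loc P a₁ a₂ a₃ e₁ e₂ e₃)
include L

/-- characters are invariant under the four sign changes -/
theorem Loc.char_sg {χ : G → ℂ} (hχ : Cfsg.IsCharacter G χ) (m : Fin 4) (v : V) :
    χ (phi a₁ a₂ a₃ (sg m v)) = χ (phi a₁ a₂ a₃ v) := by
  rw [← L.conj m v]
  exact IsCharacter.isClassFunction hχ _ _

/-- the value of a character at a real element of `P` is an integer -/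
theorem Loc.exists_int {χ : G → ℂ} (hχ : Cfsg.IsCharacter G χ) {v : V} (hv : v ≠ 0)
    (hreal : ∃ m : Fin 4, -v = sg m v) : ∃ n : ℤ, χ (phi a₁ a₂ a₃ v) = (n : ℂ) := by
  have hx3 : phi a₁ a₂ a₃ v ^ 3 = 1 := L.exp _ (L.mem v)
  have hx1 : phi a₁ a₂ a₃ v ≠ 1 := L.phi_ne_one hv
  have hord : orderOf (phi a₁ a₂ a₃ v) = 3 := by
    haveI : Fact (Nat.Prime 3) := ⟨Nat.prime_three⟩
    exact orderOf_eq_prime hx3 hx1
  have hre : IsConj (phi a₁ a₂ a₃ v) (phi a₁ a₂ a₃ v)⁻¹ := by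
    rw [L.phi_inv]
    exact (L.isConj_iff hv).mpr hreal
  obtain ⟨m₀, hm₀⟩ := Tv.cyclic_mult hχ (phi a₁ a₂ a₃ v) 3 hord (by norm_num) 1 (by norm_num)
  obtain ⟨m₁, hm₁⟩ := Tv.cyclic_mult hχ (phi a₁ a₂ a₃ v) 3 hord (by norm_num) om om_cube
  have hx2 : phi a₁ a₂ a₃ v ^ 2 = (phi a₁ a₂ a₃ v)⁻¹ := by
    rw [eq_inv_iff_mul_eq_one, ← pow_succ]; exact hx3
  have hinv : χ (phi a₁ a₂ a₃ v)⁻¹ = χ (phi a₁ a₂ a₃ v) := Tv.apply_inv_of_isConj_inv hχ hre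
  rw [Tv.sum_range_three, pow_zero, pow_zero, pow_one, pow_one, hx2, hinv, map_one, mul_one,
    map_pow] at hm₀ hm₁
  rw [conj_om] at hm₁
  simp only [map_one, mul_one, one_pow] at hm₀
  refine ⟨(m₀ : ℤ) - m₁, ?_⟩
  push_cast
  have h1 : (3 : ℂ) ≠ 0 := by norm_num
  apply mul_left_cancel₀ h1
  have e : χ (phi a₁ a₂ a₃ v) * om ^ 2 + χ (phi a₁ a₂ a₃ v) * (om ^ 2) ^ 2
      = - χ (phi a₁ a₂ a₃ v) := by
    linear_combination χ (phi a₁ a₂ a₃ v) * (1 + om * (om - 1)) * om_rel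
  push_cast at hm₀ hm₁
  linear_combination hm₀ - hm₁ + e

/-- integrality of the lattice vector `N₃ - N₁` -/
theorem Loc.exists_v3 {χ : G → ℂ} (hχ : Cfsg.IsCharacter G χ) :
    ∃ n : ℤ, 9 * (n : ℂ) = χ (phi a₁ a₂ a₃ (1, 1, 0)) - χ (phi a₁ a₂ a₃ (1, 0, 0))
      + χ (phi a₁ a₂ a₃ (0, 0, 1)) - χ (phi a₁ a₂ a₃ (0, 1, 1)) := by
  obtain ⟨n₁, h₁⟩ := L.mult_exists hχ (1, 1, 0)
  obtain ⟨n₂, h₂⟩ := L.mult_exists hχ (0, 1, 1)
  rw [fourier_110 (fun v => χ (phi a₁ a₂ a₃ v)) (fun m v => L.char_sg hχ m v)] at h₁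
  rw [fourier_011 (fun v => χ (phi a₁ a₂ a₃ v)) (fun m v => L.char_sg hχ m v)] at h₂
  refine ⟨(n₁ : ℤ) - n₂, ?_⟩
  push_cast
  linear_combination (-1 / 3 : ℂ) * h₁ + (1 / 3 : ℂ) * h₂

/-- integrality of the lattice vector `N₂ - N₁` -/
theorem Loc.exists_v2 {χ : G → ℂ} (hχ : Cfsg.IsCharacter G χ) :
    ∃ n : ℤ, 9 * (n : ℂ) = χ (phi a₁ a₂ a₃ (1, 0, 1)) - χ (phi a₁ a₂ a₃ (1, 0, 0))
      + χ (phi a₁ a₂ a₃ (0, 1, 0)) - χ (phi a₁ a₂ a₃ (0, 1, 1)) := by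
  obtain ⟨n₁, h₁⟩ := L.mult_exists hχ (1, 0, 1)
  obtain ⟨n₂, h₂⟩ := L.mult_exists hχ (0, 1, 1)
  rw [fourier_101 (fun v => χ (phi a₁ a₂ a₃ v)) (fun m v => L.char_sg hχ m v)] at h₁
  rw [fourier_011 (fun v => χ (phi a₁ a₂ a₃ v)) (fun m v => L.char_sg hχ m v)] at h₂
  refine ⟨(n₁ : ℤ) - n₂, ?_⟩
  push_cast
  linear_combination (-1 / 3 : ℂ) * h₁ + (1 / 3 : ℂ) * h₂

end loc

end Cfsg.Agent.Lib.Helper2.Emb3
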