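import Mathlib
import Cfsg.Agent.Lib.Helper2.Emb3E

/-! # Gram relations and class multiplication constants for the real `3`-classes -/

set_option autoImplicit false
set_option linter.style.haveILetI false
set_option linter.unusedSectionVars false
open Cfsg

namespace Cfsg.Agent.Lib.Helper2.Emb3

open scoped ComplexConjugate
open Cfsg.Agent.Lib.Helper6

/-- the order of the stabilizer of `v` among the four sign changes -/
def stab (v : V) : ℕ := Fintype.card {m : Fin 4 // sg m v = v}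

/-- the local class multiplication constant -/
def kap (v₁ v₂ w : V) : ℕ :=
  Fintype.card {q : V × V // (∃ m : Fin 4, q.1 = sg m v₁) ∧ (∃ m : Fin 4, q.2 = sg m v₂)
    ∧ q.1 + q.2 = w}

theorem stab_100 : stab (1, 0, 0) = 2 := by decide
theorem stab_010 : stab (0, 1, 0) = 2 := by decide
theorem stab_001 : stab (0, 0, 1) = 2 := by decide
theorem stab_011 : stab (0, 1, 1) = 1 := by decide
theorem stab_101 : stab (1, 0, 1) = 1 := by decide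
theorem stab_110 : stab (1, 1, 0) = 1 := by decide

set_option maxRecDepth 100000 in
theorem kap_100_010_110 : kap (1, 0, 0) (0, 1, 0) (1, 1, 0) = 1 := by decide +kernel
theorem hnc_100_010_110 : (¬ ∃ m : Fin 4, -((1, 1, 0) : V) = sg m (1, 0, 0)) ∨ (¬ ∃ m : Fin 4, -((1, 1, 0) : V) = sg m (0, 1, 0)) := by decide
set_option maxRecDepth 100000 in
theorem kap_100_010_100 : kap (1, 0, 0) (0, 1, 0) (1, 0, 0) = 0 := by decide +kernel
theorem hnc_100_010_100 : (¬ ∃ m : Fin 4, -((1, 0, 0) : V) = sg m (1, 0, 0)) ∨ (¬ ∃ m : Fin 4, -((1, 0, 0) : V) = sg m (0, 1, 0)) := by decide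
set_option maxRecDepth 100000 in
theorem kap_100_010_001 : kap (1, 0, 0) (0, 1, 0) (0, 0, 1) = 0 := by decide +kernel
theorem hnc_100_010_001 : (¬ ∃ m : Fin 4, -((0, 0, 1) : V) = sg m (1, 0, 0)) ∨ (¬ ∃ m : Fin 4, -((0, 0, 1) : V) = sg m (0, 1, 0)) := by decide
set_option maxRecDepth 100000 in
theorem kap_100_010_011 : kap (1, 0, 0) (0, 1, 0) (0, 1, 1) = 0 := by decide +kernel
theorem hnc_100_010_011 : (¬ ∃ m : Fin 4, -((0, 1, 1) : V) = sg m (1, 0, 0)) ∨ (¬ ∃ m : Fin 4, -((0, 1, 1) : V) = sg m (0, 1, 0)) := by decide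
set_option maxRecDepth 100000 in
theorem kap_100_010_101 : kap (1, 0, 0) (0, 1, 0) (1, 0, 1) = 0 := by decide +kernel
theorem hnc_100_010_101 : (¬ ∃ m : Fin 4, -((1, 0, 1) : V) = sg m (1, 0, 0)) ∨ (¬ ∃ m : Fin 4, -((1, 0, 1) : V) = sg m (0, 1, 0)) := by decide
set_option maxRecDepth 100000 in
theorem kap_100_010_010 : kap (1, 0, 0) (0, 1, 0) (0, 1, 0) = 0 := by decide +kernel
theorem hnc_100_010_010 : (¬ ∃ m : Fin 4, -((0, 1, 0) : V) = sg m (1, 0, 0)) ∨ (¬ ∃ m : Fin 4, -((0, 1, 0) : V) = sg m (0, 1, 0)) := by decide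
set_option maxRecDepth 100000 in
theorem kap_100_001_110 : kap (1, 0, 0) (0, 0, 1) (1, 1, 0) = 0 := by decide +kernel
theorem hnc_100_001_110 : (¬ ∃ m : Fin 4, -((1, 1, 0) : V) = sg m (1, 0, 0)) ∨ (¬ ∃ m : Fin 4, -((1, 1, 0) : V) = sg m (0, 0, 1)) := by decide
set_option maxRecDepth 100000 in
theorem kap_100_001_100 : kap (1, 0, 0) (0, 0, 1) (1, 0, 0) = 0 := by decide +kernel
theorem hnc_100_001_100 : (¬ ∃ m : Fin 4, -((1, 0, 0) : V) = sg m (1, 0, 0)) ∨ (¬ ∃ m : Fin 4, -((1, 0, 0) : V) = sg m (0, 0, 1)) := by decide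
set_option maxRecDepth 100000 in
theorem kap_100_001_001 : kap (1, 0, 0) (0, 0, 1) (0, 0, 1) = 0 := by decide +kernel
theorem hnc_100_001_001 : (¬ ∃ m : Fin 4, -((0, 0, 1) : V) = sg m (1, 0, 0)) ∨ (¬ ∃ m : Fin 4, -((0, 0, 1) : V) = sg m (0, 0, 1)) := by decide
set_option maxRecDepth 100000 in
theorem kap_100_001_011 : kap (1, 0, 0) (0, 0, 1) (0, 1, 1) = 0 := by decide +kernel
theorem hnc_100_001_011 : (¬ ∃ m : Fin 4, -((0, 1, 1) : V) = sg m (1, 0, 0)) ∨ (¬ ∃ m : Fin 4, -((0, 1, 1) : V) = sg m (0, 0, 1)) := by decide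
set_option maxRecDepth 100000 in
theorem kap_001_110_110 : kap (0, 0, 1) (1, 1, 0) (1, 1, 0) = 0 := by decide +kernel
theorem hnc_001_110_110 : (¬ ∃ m : Fin 4, -((1, 1, 0) : V) = sg m (0, 0, 1)) ∨ (¬ ∃ m : Fin 4, -((1, 1, 0) : V) = sg m (1, 1, 0)) := by decide
set_option maxRecDepth 100000 in
theorem kap_001_110_100 : kap (0, 0, 1) (1, 1, 0) (1, 0, 0) = 0 := by decide +kernel
theorem hnc_001_110_100 : (¬ ∃ m : Fin 4, -((1, 0, 0) : V) = sg m (0, 0, 1)) ∨ (¬ ∃ m : Fin 4, -((1, 0, 0) : V) = sg m (1, 1, 0)) := by decide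
set_option maxRecDepth 100000 in
theorem kap_001_110_001 : kap (0, 0, 1) (1, 1, 0) (0, 0, 1) = 0 := by decide +kernel
theorem hnc_001_110_001 : (¬ ∃ m : Fin 4, -((0, 0, 1) : V) = sg m (0, 0, 1)) ∨ (¬ ∃ m : Fin 4, -((0, 0, 1) : V) = sg m (1, 1, 0)) := by decide
set_option maxRecDepth 100000 in
theorem kap_001_110_011 : kap (0, 0, 1) (1, 1, 0) (0, 1, 1) = 0 := by decide +kernel
theorem hnc_001_110_011 : (¬ ∃ m : Fin 4, -((0, 1, 1) : V) = sg m (0, 0, 1)) ∨ (¬ ∃ m : Fin 4, -((0, 1, 1) : V) = sg m (1, 1, 0)) := by decide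
set_option maxRecDepth 100000 in
theorem kap_100_110_110 : kap (1, 0, 0) (1, 1, 0) (1, 1, 0) = 1 := by decide +kernel
theorem hnc_100_110_110 : (¬ ∃ m : Fin 4, -((1, 1, 0) : V) = sg m (1, 0, 0)) ∨ (¬ ∃ m : Fin 4, -((1, 1, 0) : V) = sg m (1, 1, 0)) := by decide
set_option maxRecDepth 100000 in
theorem kap_100_110_100 : kap (1, 0, 0) (1, 1, 0) (1, 0, 0) = 0 := by decide +kernel
theorem hnc_100_110_100 : (¬ ∃ m : Fin 4, -((1, 0, 0) : V) = sg m (1, 0, 0)) ∨ (¬ ∃ m : Fin 4, -((1, 0, 0) : V) = sg m (1, 1, 0)) := by decide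
set_option maxRecDepth 100000 in
theorem kap_100_110_001 : kap (1, 0, 0) (1, 1, 0) (0, 0, 1) = 0 := by decide +kernel
theorem hnc_100_110_001 : (¬ ∃ m : Fin 4, -((0, 0, 1) : V) = sg m (1, 0, 0)) ∨ (¬ ∃ m : Fin 4, -((0, 0, 1) : V) = sg m (1, 1, 0)) := by decide
set_option maxRecDepth 100000 in
theorem kap_100_110_011 : kap (1, 0, 0) (1, 1, 0) (0, 1, 1) = 0 := by decide +kernel
theorem hnc_100_110_011 : (¬ ∃ m : Fin 4, -((0, 1, 1) : V) = sg m (1, 0, 0)) ∨ (¬ ∃ m : Fin 4, -((0, 1, 1) : V) = sg m (1, 1, 0)) := by decide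

theorem sum_eVec_sub_mul' {B : Type*} [Fintype B] [DecidableEq B] (X Y : B) (w f : B → ℤ)
    (hw : ∀ b, w b = eVec X b - eVec Y b) : ∑ b, w b * f b = f X - f Y := by
  have : ∀ b, w b * f b = eVec X b * f b - eVec Y b * f b := by
    intro b; rw [hw b]; ring
  rw [Finset.sum_congr rfl (fun b _ => this b), Finset.sum_sub_distrib, sum_eVec_mul, sum_eVec_mul]

theorem sum_mul_eVec_rat {B : Type*} [Fintype B] [DecidableEq B] (X : B) (g : B → ℚ) :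
    ∑ b, g b * ((eVec X b : ℤ) : ℚ) = g X := by
  unfold eVec
  simp

theorem sum_eVec_div {B : Type*} [Fintype B] [DecidableEq B] (X Y : B) (w f : B → ℤ)
    (hw : ∀ b, w b = eVec X b - eVec Y b) (d : B → ℚ) :
    ∑ b, ((f b * (9 * w b) : ℤ) : ℚ) / d b = 9 * ((f X : ℚ) / d X - (f Y : ℚ) / d Y) := by
  have : ∀ b, ((f b * (9 * w b) : ℤ) : ℚ) / d b
      = (9 * ((f b : ℚ) / d b)) * ((eVec X b : ℤ) : ℚ)
        - (9 * ((f b : ℚ) / d b)) * ((eVec Y b : ℤ) : ℚ) := by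
    intro b
    rw [hw b]
    push_cast
    ring
  rw [Finset.sum_congr rfl (fun b _ => this b), Finset.sum_sub_distrib, sum_mul_eVec_rat,
    sum_mul_eVec_rat]
  ring

section loc

variable {G : Type*} [Group G] [Fintype G] [DecidableEq G] [Fintype (Cfsg.IrrCharacter G)]
variable {P : Sylow 3 G} {a₁ a₂ a₃ e₁ e₂ e₃ : G} (L : Loc P a₁ a₂ a₃ e₁ e₂ e₃)
include L

/-- second orthogonality for two integer-valued columns at elements of `P` -/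
theorem Loc.gram {u v : V} (hu : u ≠ 0) (f f' : Cfsg.IrrCharacter G → ℤ)
    (hf : ∀ χ : Cfsg.IrrCharacter G, (χ : G → ℂ) (phi a₁ a₂ a₃ u) = (f χ : ℂ))
    (hf' : ∀ χ : Cfsg.IrrCharacter G, (χ : G → ℂ) (phi a₁ a₂ a₃ v) = (f' χ : ℂ)) :
    ∑ χ, f χ * f' χ = if (∃ m : Fin 4, v = sg m u) then ((27 * stab u : ℕ) : ℤ) else 0 := by
  obtain ⟨h1, h2⟩ := Tv.gram_int (phi a₁ a₂ a₃ u) (phi a₁ a₂ a₃ v) f f' hf hf'
  split_ifs with h
  · rw [h1 ((L.isConj_iff hu).mpr h), L.card_centralizer hu]; rfl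
  · exact h2 (fun hc => h ((L.isConj_iff hu).mp hc))

/-- class multiplication constants of `3`-classes, computed in `V` -/
theorem Loc.class_sum (v₁ v₂ w : V) (hv₁ : v₁ ≠ 0) (hv₂ : v₂ ≠ 0) (hw : w ≠ 0)
    (hnc : (¬ ∃ m : Fin 4, -w = sg m v₁) ∨ (¬ ∃ m : Fin 4, -w = sg m v₂))
    (f₁ f₂ f₃ : Cfsg.IrrCharacter G → ℤ)
    (hf₁ : ∀ χ : Cfsg.IrrCharacter G, (χ : G → ℂ) (phi a₁ a₂ a₃ v₁) = (f₁ χ : ℂ))
    (hf₂ : ∀ χ : Cfsg.IrrCharacter G, (χ : G → ℂ) (phi a₁ a₂ a₃ v₂) = (f₂ χ : ℂ))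
    (hf₃ : ∀ χ : Cfsg.IrrCharacter G, (χ : G → ℂ) (phi a₁ a₂ a₃ w) = (f₃ χ : ℂ)) :
    (Nat.card G : ℚ) * ∑ χ : Cfsg.IrrCharacter G,
        ((f₁ χ * f₂ χ * f₃ χ : ℤ) : ℚ) / (Cfsg.charDegree (χ : G → ℂ) : ℚ)
      = ((27 * stab v₁ * (27 * stab v₂) * kap v₁ v₂ w : ℕ) : ℚ) := by
  rw [Tv.class_sum _ _ _ f₁ f₂ f₃ hf₁ hf₂ hf₃, L.card_centralizer hv₁, L.card_centralizer hv₂,
    L.card_pairs v₁ v₂ w hv₁ hv₂ hw hnc]
  rfl

end loc

end Cfsg.Agent.Lib.Helper2.Emb3
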