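import Mathlib
import Cfsg.Agent.Lib.Helper2.Emb3F
import Cfsg.Agent.Lib.Helper6.Regular

/-! # The order of a group with a strongly `3`-embedded subgroup `3^3 : 2^2` is `108` -/

set_option autoImplicit false
set_option linter.style.haveILetI false
set_option linter.unusedSectionVars false
set_option linter.unusedVariables false
open Cfsg

namespace Cfsg.Agent.Lib.Helper2.Emb3

open scoped ComplexConjugate
open Cfsg.Agent.Lib.Helper6

section loc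

variable {G : Type*} [Group G] [Fintype G] [DecidableEq G] [Fintype (Cfsg.IrrCharacter G)]
variable {P : Sylow 3 G} {a₁ a₂ a₃ e₁ e₂ e₃ : G} (L : Loc P a₁ a₂ a₃ e₁ e₂ e₃)
include L

set_option maxHeartbeats 1600000 in
theorem Loc.card_eq : Nat.card G = 108 := by
  classical
  have hint : ∀ (v : V), v ≠ 0 → (∃ m : Fin 4, -v = sg m v) → ∀ χ : Cfsg.IrrCharacter G,
      ∃ n : ℤ, (χ : G → ℂ) (phi a₁ a₂ a₃ v) = (n : ℂ) := fun v hv hr χ =>
    L.exists_int (IsIrrCharacter.isCharacter χ.2) hv hr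
  choose x1 hx1 using hint (1, 0, 0) (by decide) (by decide)
  choose x2 hx2 using hint (0, 1, 0) (by decide) (by decide)
  choose x3 hx3 using hint (0, 0, 1) (by decide) (by decide)
  choose y1 hy1 using hint (0, 1, 1) (by decide) (by decide)
  choose y2 hy2 using hint (1, 0, 1) (by decide) (by decide)
  choose y3 hy3 using hint (1, 1, 0) (by decide) (by decide)
  choose v3 hv3c using fun χ : Cfsg.IrrCharacter G =>
    L.exists_v3 (IsIrrCharacter.isCharacter χ.2)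
  choose v2 hv2c using fun χ : Cfsg.IrrCharacter G =>
    L.exists_v2 (IsIrrCharacter.isCharacter χ.2)
  have hv3 : ∀ χ, 9 * v3 χ = y3 χ - x1 χ + x3 χ - y1 χ := by
    intro χ
    have := hv3c χ
    rw [hx1, hx3, hy1, hy3] at this
    exact_mod_cast this
  have hv2 : ∀ χ, 9 * v2 χ = y2 χ - x1 χ + x2 χ - y1 χ := by
    intro χ
    have := hv2c χ
    rw [hx1, hx2, hy1, hy2] at this
    exact_mod_cast this
  -- degrees
  obtain ⟨d, hd⟩ : ∃ d : Cfsg.IrrCharacter G → ℤ, ∀ χ, d χ = (Cfsg.charDegree (χ : G → ℂ) : ℤ) :=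
    ⟨_, fun _ => rfl⟩
  have hdpos : ∀ χ, 0 < d χ := by
    intro χ; rw [hd]; exact_mod_cast IsIrrCharacter.charDegree_pos χ.2
  have dx1 : ∑ χ, x1 χ * d χ = 0 := by
    simp only [hd]; exact Tv.deg_int _ (L.phi_ne_one (by decide)) x1 hx1
  have dx2 : ∑ χ, x2 χ * d χ = 0 := by
    simp only [hd]; exact Tv.deg_int _ (L.phi_ne_one (by decide)) x2 hx2
  have dx3 : ∑ χ, x3 χ * d χ = 0 := by
    simp only [hd]; exact Tv.deg_int _ (L.phi_ne_one (by decide)) x3 hx3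
  have dy1 : ∑ χ, y1 χ * d χ = 0 := by
    simp only [hd]; exact Tv.deg_int _ (L.phi_ne_one (by decide)) y1 hy1
  have dy2 : ∑ χ, y2 χ * d χ = 0 := by
    simp only [hd]; exact Tv.deg_int _ (L.phi_ne_one (by decide)) y2 hy2
  have dy3 : ∑ χ, y3 χ * d χ = 0 := by
    simp only [hd]; exact Tv.deg_int _ (L.phi_ne_one (by decide)) y3 hy3
  -- Gram relations
  have g_x1_x1 : ∑ χ, x1 χ * x1 χ = 54 := by
    rw [L.gram (by decide) x1 x1 hx1 hx1, if_pos (by decide), stab_100]; rfl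
  have g_x1_x2 : ∑ χ, x1 χ * x2 χ = 0 := by
    rw [L.gram (by decide) x1 x2 hx1 hx2, if_neg (by decide)]
  have g_x1_x3 : ∑ χ, x1 χ * x3 χ = 0 := by
    rw [L.gram (by decide) x1 x3 hx1 hx3, if_neg (by decide)]
  have g_x1_y1 : ∑ χ, x1 χ * y1 χ = 0 := by
    rw [L.gram (by decide) x1 y1 hx1 hy1, if_neg (by decide)]
  have g_x1_y2 : ∑ χ, x1 χ * y2 χ = 0 := by
    rw [L.gram (by decide) x1 y2 hx1 hy2, if_neg (by decide)]
  have g_x1_y3 : ∑ χ, x1 χ * y3 χ = 0 := by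
    rw [L.gram (by decide) x1 y3 hx1 hy3, if_neg (by decide)]
  have g_x2_x1 : ∑ χ, x2 χ * x1 χ = 0 := by
    rw [L.gram (by decide) x2 x1 hx2 hx1, if_neg (by decide)]
  have g_x2_x2 : ∑ χ, x2 χ * x2 χ = 54 := by
    rw [L.gram (by decide) x2 x2 hx2 hx2, if_pos (by decide), stab_010]; rfl
  have g_x2_x3 : ∑ χ, x2 χ * x3 χ = 0 := by
    rw [L.gram (by decide) x2 x3 hx2 hx3, if_neg (by decide)]
  have g_x2_y1 : ∑ χ, x2 χ * y1 χ = 0 := by
    rw [L.gram (by decide) x2 y1 hx2 hy1, if_neg (by decide)]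
  have g_x2_y2 : ∑ χ, x2 χ * y2 χ = 0 := by
    rw [L.gram (by decide) x2 y2 hx2 hy2, if_neg (by decide)]
  have g_x2_y3 : ∑ χ, x2 χ * y3 χ = 0 := by
    rw [L.gram (by decide) x2 y3 hx2 hy3, if_neg (by decide)]
  have g_x3_x1 : ∑ χ, x3 χ * x1 χ = 0 := by
    rw [L.gram (by decide) x3 x1 hx3 hx1, if_neg (by decide)]
  have g_x3_x2 : ∑ χ, x3 χ * x2 χ = 0 := by
    rw [L.gram (by decide) x3 x2 hx3 hx2, if_neg (by decide)]
  have g_x3_x3 : ∑ χ, x3 χ * x3 χ = 54 := by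
    rw [L.gram (by decide) x3 x3 hx3 hx3, if_pos (by decide), stab_001]; rfl
  have g_x3_y1 : ∑ χ, x3 χ * y1 χ = 0 := by
    rw [L.gram (by decide) x3 y1 hx3 hy1, if_neg (by decide)]
  have g_x3_y2 : ∑ χ, x3 χ * y2 χ = 0 := by
    rw [L.gram (by decide) x3 y2 hx3 hy2, if_neg (by decide)]
  have g_x3_y3 : ∑ χ, x3 χ * y3 χ = 0 := by
    rw [L.gram (by decide) x3 y3 hx3 hy3, if_neg (by decide)]
  have g_y1_x1 : ∑ χ, y1 χ * x1 χ = 0 := by
    rw [L.gram (by decide) y1 x1 hy1 hx1, if_neg (by decide)]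
  have g_y1_x2 : ∑ χ, y1 χ * x2 χ = 0 := by
    rw [L.gram (by decide) y1 x2 hy1 hx2, if_neg (by decide)]
  have g_y1_x3 : ∑ χ, y1 χ * x3 χ = 0 := by
    rw [L.gram (by decide) y1 x3 hy1 hx3, if_neg (by decide)]
  have g_y1_y1 : ∑ χ, y1 χ * y1 χ = 27 := by
    rw [L.gram (by decide) y1 y1 hy1 hy1, if_pos (by decide), stab_011]; rfl
  have g_y1_y2 : ∑ χ, y1 χ * y2 χ = 0 := by
    rw [L.gram (by decide) y1 y2 hy1 hy2, if_neg (by decide)]
  have g_y1_y3 : ∑ χ, y1 χ * y3 χ = 0 := by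
    rw [L.gram (by decide) y1 y3 hy1 hy3, if_neg (by decide)]
  have g_y2_x1 : ∑ χ, y2 χ * x1 χ = 0 := by
    rw [L.gram (by decide) y2 x1 hy2 hx1, if_neg (by decide)]
  have g_y2_x2 : ∑ χ, y2 χ * x2 χ = 0 := by
    rw [L.gram (by decide) y2 x2 hy2 hx2, if_neg (by decide)]
  have g_y2_x3 : ∑ χ, y2 χ * x3 χ = 0 := by
    rw [L.gram (by decide) y2 x3 hy2 hx3, if_neg (by decide)]
  have g_y2_y1 : ∑ χ, y2 χ * y1 χ = 0 := by
    rw [L.gram (by decide) y2 y1 hy2 hy1, if_neg (by decide)]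
  have g_y2_y2 : ∑ χ, y2 χ * y2 χ = 27 := by
    rw [L.gram (by decide) y2 y2 hy2 hy2, if_pos (by decide), stab_101]; rfl
  have g_y2_y3 : ∑ χ, y2 χ * y3 χ = 0 := by
    rw [L.gram (by decide) y2 y3 hy2 hy3, if_neg (by decide)]
  have g_y3_x1 : ∑ χ, y3 χ * x1 χ = 0 := by
    rw [L.gram (by decide) y3 x1 hy3 hx1, if_neg (by decide)]
  have g_y3_x2 : ∑ χ, y3 χ * x2 χ = 0 := by
    rw [L.gram (by decide) y3 x2 hy3 hx2, if_neg (by decide)]
  have g_y3_x3 : ∑ χ, y3 χ * x3 χ = 0 := by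
    rw [L.gram (by decide) y3 x3 hy3 hx3, if_neg (by decide)]
  have g_y3_y1 : ∑ χ, y3 χ * y1 χ = 0 := by
    rw [L.gram (by decide) y3 y1 hy3 hy1, if_neg (by decide)]
  have g_y3_y2 : ∑ χ, y3 χ * y2 χ = 0 := by
    rw [L.gram (by decide) y3 y2 hy3 hy2, if_neg (by decide)]
  have g_y3_y3 : ∑ χ, y3 χ * y3 χ = 27 := by
    rw [L.gram (by decide) y3 y3 hy3 hy3, if_pos (by decide), stab_110]; rfl
  -- the lattice vectors
  have n33 : ∑ χ, v3 χ * v3 χ = 2 := by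
    have e : ∀ χ, 81 * (v3 χ * v3 χ) = y3 χ * y3 χ + x1 χ * x1 χ + x3 χ * x3 χ + y1 χ * y1 χ
        + 2 * (x3 χ * y3 χ) - 2 * (x1 χ * y3 χ) - 2 * (y1 χ * y3 χ) - 2 * (x1 χ * x3 χ)
        + 2 * (x1 χ * y1 χ) - 2 * (x3 χ * y1 χ) := by
      intro χ
      have : 81 * (v3 χ * v3 χ) = (9 * v3 χ) * (9 * v3 χ) := by ring
      rw [this, hv3 χ]; ring
    have h := Finset.sum_congr (s₁ := (Finset.univ : Finset (Cfsg.IrrCharacter G))) rfl
      (fun χ _ => e χ)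
    simp only [Finset.sum_add_distrib, Finset.sum_sub_distrib, ← Finset.mul_sum] at h
    rw [g_y3_y3, g_x1_x1, g_x3_x3, g_y1_y1, g_x3_y3, g_x1_y3, g_y1_y3, g_x1_x3, g_x1_y1,
      g_x3_y1] at h
    linarith
  have n22 : ∑ χ, v2 χ * v2 χ = 2 := by
    have e : ∀ χ, 81 * (v2 χ * v2 χ) = y2 χ * y2 χ + x1 χ * x1 χ + x2 χ * x2 χ + y1 χ * y1 χ
        + 2 * (x2 χ * y2 χ) - 2 * (x1 χ * y2 χ) - 2 * (y1 χ * y2 χ) - 2 * (x1 χ * x2 χ)
        + 2 * (x1 χ * y1 χ) - 2 * (x2 χ * y1 χ) := by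
      intro χ
      have : 81 * (v2 χ * v2 χ) = (9 * v2 χ) * (9 * v2 χ) := by ring
      rw [this, hv2 χ]; ring
    have h := Finset.sum_congr (s₁ := (Finset.univ : Finset (Cfsg.IrrCharacter G))) rfl
      (fun χ _ => e χ)
    simp only [Finset.sum_add_distrib, Finset.sum_sub_distrib, ← Finset.mul_sum] at h
    rw [g_y2_y2, g_x1_x1, g_x2_x2, g_y1_y1, g_x2_y2, g_x1_y2, g_y1_y2, g_x1_x2, g_x1_y1,
      g_x2_y1] at h
    linarith
  have n23 : ∑ χ, v2 χ * v3 χ = 1 := by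
    have e : ∀ χ, 81 * (v2 χ * v3 χ) = y2 χ * y3 χ - y2 χ * x1 χ + y2 χ * x3 χ - y2 χ * y1 χ
        - x1 χ * y3 χ + x1 χ * x1 χ - x1 χ * x3 χ + x1 χ * y1 χ
        + x2 χ * y3 χ - x2 χ * x1 χ + x2 χ * x3 χ - x2 χ * y1 χ
        - y1 χ * y3 χ + y1 χ * x1 χ - y1 χ * x3 χ + y1 χ * y1 χ := by
      intro χ
      have : 81 * (v2 χ * v3 χ) = (9 * v2 χ) * (9 * v3 χ) := by ring
      rw [this, hv2 χ, hv3 χ]; ring
    have h := Finset.sum_congr (s₁ := (Finset.univ : Finset (Cfsg.IrrCharacter G))) rfl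
      (fun χ _ => e χ)
    simp only [Finset.sum_add_distrib, Finset.sum_sub_distrib, ← Finset.mul_sum] at h
    rw [g_y2_y3, g_y2_x1, g_y2_x3, g_y2_y1, g_x1_y3, g_x1_x1, g_x1_x3, g_x1_y1, g_x2_y3,
      g_x2_x1, g_x2_x3, g_x2_y1, g_y1_y3, g_y1_x1, g_y1_x3, g_y1_y1] at h
    linarith
  -- inner products of `v3`, `v2` with a column `f`
  have ip3 : ∀ f : Cfsg.IrrCharacter G → ℤ, 9 * ∑ χ, v3 χ * f χ
      = ∑ χ, y3 χ * f χ - ∑ χ, x1 χ * f χ + ∑ χ, x3 χ * f χ - ∑ χ, y1 χ * f χ := by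
    intro f
    have e : ∀ χ, 9 * (v3 χ * f χ) = y3 χ * f χ - x1 χ * f χ + x3 χ * f χ - y1 χ * f χ := by
      intro χ
      have : 9 * (v3 χ * f χ) = (9 * v3 χ) * f χ := by ring
      rw [this, hv3 χ]; ring
    have h := Finset.sum_congr (s₁ := (Finset.univ : Finset (Cfsg.IrrCharacter G))) rfl
      (fun χ _ => e χ)
    simp only [Finset.sum_add_distrib, Finset.sum_sub_distrib, ← Finset.mul_sum] at h
    exact h
  have ip2 : ∀ f : Cfsg.IrrCharacter G → ℤ, 9 * ∑ χ, v2 χ * f χ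
      = ∑ χ, y2 χ * f χ - ∑ χ, x1 χ * f χ + ∑ χ, x2 χ * f χ - ∑ χ, y1 χ * f χ := by
    intro f
    have e : ∀ χ, 9 * (v2 χ * f χ) = y2 χ * f χ - x1 χ * f χ + x2 χ * f χ - y1 χ * f χ := by
      intro χ
      have : 9 * (v2 χ * f χ) = (9 * v2 χ) * f χ := by ring
      rw [this, hv2 χ]; ring
    have h := Finset.sum_congr (s₁ := (Finset.univ : Finset (Cfsg.IrrCharacter G))) rfl
      (fun χ _ => e χ)
    simp only [Finset.sum_add_distrib, Finset.sum_sub_distrib, ← Finset.mul_sum] at h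
    exact h
  have d3 : ∑ χ, v3 χ * d χ = 0 := by
    have := ip3 d
    rw [dy3, dx1, dx3, dy1] at this
    linarith
  have d2 : ∑ χ, v2 χ * d χ = 0 := by
    have := ip2 d
    rw [dy2, dx1, dx2, dy1] at this
    linarith
  have i3x1 : ∑ χ, v3 χ * x1 χ = -6 := by
    have := ip3 x1
    rw [g_y3_x1, g_x1_x1, g_x3_x1, g_y1_x1] at this
    linarith
  have i3x2 : ∑ χ, v3 χ * x2 χ = 0 := by
    have := ip3 x2
    rw [g_y3_x2, g_x1_x2, g_x3_x2, g_y1_x2] at this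
    linarith
  have i3x3 : ∑ χ, v3 χ * x3 χ = 6 := by
    have := ip3 x3
    rw [g_y3_x3, g_x1_x3, g_x3_x3, g_y1_x3] at this
    linarith
  have i3y3 : ∑ χ, v3 χ * y3 χ = 3 := by
    have := ip3 y3
    rw [g_y3_y3, g_x1_y3, g_x3_y3, g_y1_y3] at this
    linarith
  have i2x1 : ∑ χ, v2 χ * x1 χ = -6 := by
    have := ip2 x1
    rw [g_y2_x1, g_x1_x1, g_x2_x1, g_y1_x1] at this
    linarith
  have i2x2 : ∑ χ, v2 χ * x2 χ = 6 := by
    have := ip2 x2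
    rw [g_y2_x2, g_x1_x2, g_x2_x2, g_y1_x2] at this
    linarith
  -- the two norm-two vectors
  obtain ⟨X, Y, hXY, hX⟩ := exists_eVec_sub_of_norm_two d hdpos v3 n33 d3
  obtain ⟨X', Y', hXY', hX'⟩ := exists_eVec_sub_of_norm_two d hdpos v2 n22 d2
  have hdXY : d X = d Y := by
    have := sum_eVec_sub_mul' X Y v3 d hX
    rw [d3] at this; linarith
  have e1 : x1 X - x1 Y = -6 := by rw [← sum_eVec_sub_mul' X Y v3 x1 hX]; exact i3x1
  have e2 : x2 X - x2 Y = 0 := by rw [← sum_eVec_sub_mul' X Y v3 x2 hX]; exact i3x2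
  have e3 : x3 X - x3 Y = 6 := by rw [← sum_eVec_sub_mul' X Y v3 x3 hX]; exact i3x3
  have e4 : y3 X - y3 Y = 3 := by rw [← sum_eVec_sub_mul' X Y v3 y3 hX]; exact i3y3
  have e5 : x1 X' - x1 Y' = -6 := by rw [← sum_eVec_sub_mul' X' Y' v2 x1 hX']; exact i2x1
  have e6 : x2 X' - x2 Y' = 6 := by rw [← sum_eVec_sub_mul' X' Y' v2 x2 hX']; exact i2x2
  have hcase : (X' = X ∧ Y' ≠ Y) ∨ (Y' = Y ∧ X' ≠ X) := by
    have h := sum_eVec_sub_mul' X' Y' v2 v3 hX'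
    rw [n23, hX X', hX Y', eVec_apply, eVec_apply, eVec_apply, eVec_apply] at h
    by_cases h1 : X' = X
    · left
      refine ⟨h1, ?_⟩
      intro h2
      subst h1; subst h2
      simp [hXY', hXY'.symm] at h
    · right
      by_cases h2 : Y' = Y
      · exact ⟨h2, h1⟩
      · exfalso
        by_cases h3 : X' = Y <;> by_cases h4 : Y' = X <;>
          simp [h1, h2, h3, h4, hXY, hXY.symm] at h <;> omega
  -- class multiplication constants
  obtain ⟨dq, hdq⟩ : ∃ dq : Cfsg.IrrCharacter G → ℚ,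
      ∀ χ, dq χ = (Cfsg.charDegree (χ : G → ℂ) : ℚ) := ⟨_, fun _ => rfl⟩
  have hdq' : ∀ χ, dq χ = (d χ : ℚ) := by
    intro χ; rw [hdq, hd]; push_cast; rfl
  have br3 : ∀ (f₁ f₂ : Cfsg.IrrCharacter G → ℤ) (c₁ c₂ c₃ c₄ : ℚ),
      (Nat.card G : ℚ) * ∑ χ, ((f₁ χ * f₂ χ * y3 χ : ℤ) : ℚ) / dq χ = c₁ →
      (Nat.card G : ℚ) * ∑ χ, ((f₁ χ * f₂ χ * x1 χ : ℤ) : ℚ) / dq χ = c₂ →
      (Nat.card G : ℚ) * ∑ χ, ((f₁ χ * f₂ χ * x3 χ : ℤ) : ℚ) / dq χ = c₃ →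
      (Nat.card G : ℚ) * ∑ χ, ((f₁ χ * f₂ χ * y1 χ : ℤ) : ℚ) / dq χ = c₄ →
      (Nat.card G : ℚ) * (9 * (((f₁ X * f₂ X : ℤ) : ℚ) / dq X - ((f₁ Y * f₂ Y : ℤ) : ℚ) / dq Y))
        = c₁ - c₂ + c₃ - c₄ := by
    intro f₁ f₂ c₁ c₂ c₃ c₄ h₁ h₂ h₃ h₄
    rw [← sum_eVec_div X Y v3 (fun χ => f₁ χ * f₂ χ) hX dq, ← h₁, ← h₂, ← h₃, ← h₄,
      ← mul_sub, ← mul_add, ← mul_sub, ← Finset.sum_sub_distrib, ← Finset.sum_add_distrib,
      ← Finset.sum_sub_distrib]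
    congr 1
    apply Finset.sum_congr rfl
    intro χ _
    rw [hv3 χ]
    push_cast
    ring
  have br2 : ∀ (f₁ f₂ : Cfsg.IrrCharacter G → ℤ) (c₁ c₂ c₃ c₄ : ℚ),
      (Nat.card G : ℚ) * ∑ χ, ((f₁ χ * f₂ χ * y2 χ : ℤ) : ℚ) / dq χ = c₁ →
      (Nat.card G : ℚ) * ∑ χ, ((f₁ χ * f₂ χ * x1 χ : ℤ) : ℚ) / dq χ = c₂ →
      (Nat.card G : ℚ) * ∑ χ, ((f₁ χ * f₂ χ * x2 χ : ℤ) : ℚ) / dq χ = c₃ →
      (Nat.card G : ℚ) * ∑ χ, ((f₁ χ * f₂ χ * y1 χ : ℤ) : ℚ) / dq χ = c₄ →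
      (Nat.card G : ℚ) * (9 * (((f₁ X' * f₂ X' : ℤ) : ℚ) / dq X'
          - ((f₁ Y' * f₂ Y' : ℤ) : ℚ) / dq Y'))
        = c₁ - c₂ + c₃ - c₄ := by
    intro f₁ f₂ c₁ c₂ c₃ c₄ h₁ h₂ h₃ h₄
    rw [← sum_eVec_div X' Y' v2 (fun χ => f₁ χ * f₂ χ) hX' dq, ← h₁, ← h₂, ← h₃, ← h₄,
      ← mul_sub, ← mul_add, ← mul_sub, ← Finset.sum_sub_distrib, ← Finset.sum_add_distrib,
      ← Finset.sum_sub_distrib]
    congr 1
    apply Finset.sum_congr rfl
    intro χ _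
    rw [hv2 χ]
    push_cast
    ring
  have cs := fun (v₁ v₂ w : V) (hv₁ : v₁ ≠ 0) (hv₂ : v₂ ≠ 0) (hw : w ≠ 0) hnc
      (f₁ f₂ f₃ : Cfsg.IrrCharacter G → ℤ) hf₁ hf₂ hf₃ =>
    L.class_sum v₁ v₂ w hv₁ hv₂ hw hnc f₁ f₂ f₃ hf₁ hf₂ hf₃
  simp only [← hdq] at cs
  -- family (A₁, A₂), v3-bracket
  have F1 := br3 x1 x2 _ _ _ _
    (cs (1, 0, 0) (0, 1, 0) (1, 1, 0) (by decide) (by decide) (by decide) hnc_100_010_110
      x1 x2 y3 hx1 hx2 hy3)
    (cs (1, 0, 0) (0, 1, 0) (1, 0, 0) (by decide) (by decide) (by decide) hnc_100_010_100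
      x1 x2 x1 hx1 hx2 hx1)
    (cs (1, 0, 0) (0, 1, 0) (0, 0, 1) (by decide) (by decide) (by decide) hnc_100_010_001
      x1 x2 x3 hx1 hx2 hx3)
    (cs (1, 0, 0) (0, 1, 0) (0, 1, 1) (by decide) (by decide) (by decide) hnc_100_010_011
      x1 x2 y1 hx1 hx2 hy1)
  rw [kap_100_010_110, kap_100_010_100, kap_100_010_001, kap_100_010_011, stab_100,
    stab_010] at F1
  -- family (A₁, A₃), v3-bracket
  have F2 := br3 x1 x3 _ _ _ _
    (cs (1, 0, 0) (0, 0, 1) (1, 1, 0) (by decide) (by decide) (by decide) hnc_100_001_110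
      x1 x3 y3 hx1 hx3 hy3)
    (cs (1, 0, 0) (0, 0, 1) (1, 0, 0) (by decide) (by decide) (by decide) hnc_100_001_100
      x1 x3 x1 hx1 hx3 hx1)
    (cs (1, 0, 0) (0, 0, 1) (0, 0, 1) (by decide) (by decide) (by decide) hnc_100_001_001
      x1 x3 x3 hx1 hx3 hx3)
    (cs (1, 0, 0) (0, 0, 1) (0, 1, 1) (by decide) (by decide) (by decide) hnc_100_001_011
      x1 x3 y1 hx1 hx3 hy1)
  rw [kap_100_001_110, kap_100_001_100, kap_100_001_001, kap_100_001_011] at F2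
  -- family (A₃, B₃), v3-bracket
  have F4 := br3 x3 y3 _ _ _ _
    (cs (0, 0, 1) (1, 1, 0) (1, 1, 0) (by decide) (by decide) (by decide) hnc_001_110_110
      x3 y3 y3 hx3 hy3 hy3)
    (cs (0, 0, 1) (1, 1, 0) (1, 0, 0) (by decide) (by decide) (by decide) hnc_001_110_100
      x3 y3 x1 hx3 hy3 hx1)
    (cs (0, 0, 1) (1, 1, 0) (0, 0, 1) (by decide) (by decide) (by decide) hnc_001_110_001
      x3 y3 x3 hx3 hy3 hx3)
    (cs (0, 0, 1) (1, 1, 0) (0, 1, 1) (by decide) (by decide) (by decide) hnc_001_110_011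
      x3 y3 y1 hx3 hy3 hy1)
  rw [kap_001_110_110, kap_001_110_100, kap_001_110_001, kap_001_110_011] at F4
  -- family (A₁, B₃), v3-bracket
  have F3 := br3 x1 y3 _ _ _ _
    (cs (1, 0, 0) (1, 1, 0) (1, 1, 0) (by decide) (by decide) (by decide) hnc_100_110_110
      x1 y3 y3 hx1 hy3 hy3)
    (cs (1, 0, 0) (1, 1, 0) (1, 0, 0) (by decide) (by decide) (by decide) hnc_100_110_100
      x1 y3 x1 hx1 hy3 hx1)
    (cs (1, 0, 0) (1, 1, 0) (0, 0, 1) (by decide) (by decide) (by decide) hnc_100_110_001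
      x1 y3 x3 hx1 hy3 hx3)
    (cs (1, 0, 0) (1, 1, 0) (0, 1, 1) (by decide) (by decide) (by decide) hnc_100_110_011
      x1 y3 y1 hx1 hy3 hy1)
  rw [kap_100_110_110, kap_100_110_100, kap_100_110_001, kap_100_110_011, stab_100,
    stab_110] at F3
  -- family (A₁, A₂), v2-bracket
  have F5 := br2 x1 x2 _ _ _ _
    (cs (1, 0, 0) (0, 1, 0) (1, 0, 1) (by decide) (by decide) (by decide) hnc_100_010_101
      x1 x2 y2 hx1 hx2 hy2)
    (cs (1, 0, 0) (0, 1, 0) (1, 0, 0) (by decide) (by decide) (by decide) hnc_100_010_100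
      x1 x2 x1 hx1 hx2 hx1)
    (cs (1, 0, 0) (0, 1, 0) (0, 1, 0) (by decide) (by decide) (by decide) hnc_100_010_010
      x1 x2 x2 hx1 hx2 hx2)
    (cs (1, 0, 0) (0, 1, 0) (0, 1, 1) (by decide) (by decide) (by decide) hnc_100_010_011
      x1 x2 y1 hx1 hx2 hy1)
  rw [kap_100_010_101, kap_100_010_100, kap_100_010_010, kap_100_010_011] at F5
  -- clearing denominators
  have hx0 : (d X : ℚ) ≠ 0 := by
    have := hdpos X
    exact_mod_cast this.ne'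
  have hx0' : (d X' : ℚ) ≠ 0 := by
    have := hdpos X'
    exact_mod_cast this.ne'
  have hdXY' : d X' = d Y' := by
    have := sum_eVec_sub_mul' X' Y' v2 d hX'
    rw [d2] at this; linarith
  have hyq : dq Y = (d X : ℚ) := by rw [hdq' Y, hdXY]
  have hyq' : dq Y' = (d X' : ℚ) := by rw [hdq' Y', hdXY']
  rw [hdq' X, hyq] at F1 F2 F3 F4
  rw [hdq' X', hyq'] at F5
  have clear : ∀ (N x : ℚ) (A B : ℤ) (C : ℚ), x ≠ 0 →
      N * (9 * ((A : ℚ) / x - (B : ℚ) / x)) = C → N * 9 * ((A : ℚ) - B) = C * x := by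
    intro N x A B C hx h
    rw [← h]
    field_simp
  have hNpos : (0 : ℤ) < (Nat.card G : ℤ) := by exact_mod_cast Nat.card_pos
  have hN9 : ((Nat.card G : ℤ) * 9) ≠ 0 := by positivity
  have F1z : (Nat.card G : ℤ) * 9 * (x1 X * x2 X - x1 Y * x2 Y) = 2916 * d X := by
    have h := clear _ _ _ _ _ hx0 F1
    have : (((Nat.card G : ℤ) * 9 * (x1 X * x2 X - x1 Y * x2 Y) : ℤ) : ℚ)
        = ((2916 * d X : ℤ) : ℚ) := by
      push_cast; push_cast at h; linarith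
    exact_mod_cast this
  have F2z : (Nat.card G : ℤ) * 9 * (x1 X * x3 X - x1 Y * x3 Y) = 0 := by
    have h := clear _ _ _ _ _ hx0 F2
    have : (((Nat.card G : ℤ) * 9 * (x1 X * x3 X - x1 Y * x3 Y) : ℤ) : ℚ) = ((0 : ℤ) : ℚ) := by
      push_cast; push_cast at h; linarith
    exact_mod_cast this
  have F4z : (Nat.card G : ℤ) * 9 * (x3 X * y3 X - x3 Y * y3 Y) = 0 := by
    have h := clear _ _ _ _ _ hx0 F4
    have : (((Nat.card G : ℤ) * 9 * (x3 X * y3 X - x3 Y * y3 Y) : ℤ) : ℚ) = ((0 : ℤ) : ℚ) := by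
      push_cast; push_cast at h; linarith
    exact_mod_cast this
  have F3z : (Nat.card G : ℤ) * 9 * (x1 X * y3 X - x1 Y * y3 Y) = 1458 * d X := by
    have h := clear _ _ _ _ _ hx0 F3
    have : (((Nat.card G : ℤ) * 9 * (x1 X * y3 X - x1 Y * y3 Y) : ℤ) : ℚ)
        = ((1458 * d X : ℤ) : ℚ) := by
      push_cast; push_cast at h; linarith
    exact_mod_cast this
  have F5z : (Nat.card G : ℤ) * 9 * (x1 X' * x2 X' - x1 Y' * x2 Y') = 0 := by
    have h := clear _ _ _ _ _ hx0' F5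
    have : (((Nat.card G : ℤ) * 9 * (x1 X' * x2 X' - x1 Y' * x2 Y') : ℤ) : ℚ)
        = ((0 : ℤ) : ℚ) := by
      push_cast; push_cast at h; linarith
    exact_mod_cast this
  -- the values at `Y`, `Y'`
  have hY1 : x1 Y = x1 X + 6 := by linarith
  have hY2 : x2 Y = x2 X := by linarith
  have hY3 : x3 Y = x3 X - 6 := by linarith
  have hY4 : y3 Y = y3 X - 3 := by linarith
  have hY5 : x1 Y' = x1 X' + 6 := by linarith
  have hY6 : x2 Y' = x2 X' - 6 := by linarith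
  rw [hY1, hY2] at F1z
  rw [hY1, hY3] at F2z
  rw [hY3, hY4] at F4z
  rw [hY1, hY4] at F3z
  rw [hY5, hY6] at F5z
  have k2 := (mul_eq_zero.mp F2z).resolve_left hN9
  have k4 := (mul_eq_zero.mp F4z).resolve_left hN9
  have k5 := (mul_eq_zero.mp F5z).resolve_left hN9
  have r2 : x3 X = x1 X + 6 := by linarith
  have r4 : 3 * x3 X + 6 * y3 X = 18 := by linarith
  have r5 : x2 X' = x1 X' + 6 := by linarith
  have r1 : (Nat.card G : ℤ) * x2 X = -54 * d X := by linarith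
  have k3 : (Nat.card G : ℤ) * (3 * x1 X - 6 * y3 X + 18 + 3 * x2 X) = 0 := by linarith
  have r3 := (mul_eq_zero.mp k3).resolve_left hNpos.ne'
  have hdX := hdpos X
  -- the two cases
  have hGx : (Nat.card G : ℤ) = 27 * d X := by
    rcases hcase with ⟨h1, -⟩ | ⟨h1, -⟩
    · exfalso
      rw [h1] at r5
      have p1 : x1 X = -4 := by linarith
      have p2 : x2 X = 2 := by linarith
      rw [p2] at r1
      linarith
    · rw [h1] at hY5 hY6
      have p1 : x1 X = -2 := by linarith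
      have p2 : x2 X = -2 := by linarith
      rw [p2] at r1
      linarith
  -- the trivial character
  obtain ⟨o, ho⟩ : ∃ o : Cfsg.IrrCharacter G, (o : G → ℂ) = fun _ => 1 :=
    ⟨⟨fun _ => 1, isIrrCharacter_one⟩, rfl⟩
  have ho1 : ∀ (f : Cfsg.IrrCharacter G → ℤ) (g : G),
      (∀ χ : Cfsg.IrrCharacter G, (χ : G → ℂ) g = (f χ : ℂ)) → f o = 1 := by
    intro f g hf
    have h1 := hf o
    rw [ho] at h1
    have h2 : (1 : ℂ) = (f o : ℂ) := h1
    exact_mod_cast h2.symm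
  have hv3o : v3 o = 0 := by
    have := hv3 o
    rw [ho1 x1 _ hx1, ho1 x3 _ hx3, ho1 y1 _ hy1, ho1 y3 _ hy3] at this
    linarith
  have hoX : o ≠ X := by
    intro h
    have := hX o
    rw [hv3o, h, eVec_apply, eVec_apply, if_pos rfl, if_neg hXY] at this
    omega
  have hoY : o ≠ Y := by
    intro h
    have := hX o
    rw [hv3o, h, eVec_apply, eVec_apply, if_pos rfl, if_neg hXY.symm] at this
    omega
  have hdo : d o = 1 := by
    have h1 := IsCharacter.apply_one_eq_charDegree (IsIrrCharacter.isCharacter o.2)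
    have h2 : (o : G → ℂ) 1 = 1 := by rw [ho]
    rw [h2] at h1
    rw [hd]
    have : ((Cfsg.charDegree (o : G → ℂ) : ℕ) : ℂ) = 1 := h1.symm
    exact_mod_cast this
  -- sum of squares of the degrees
  have hsq : ∑ χ : Cfsg.IrrCharacter G, d χ ^ 2 = (Nat.card G : ℤ) := by
    have h := sum_sq_degree (G := G)
    have : ((∑ χ : Cfsg.IrrCharacter G, d χ ^ 2 : ℤ) : ℂ) = ((Nat.card G : ℤ) : ℂ) := by
      push_cast
      rw [← h]
      apply Finset.sum_congr rfl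
      intro χ _
      rw [IsCharacter.apply_one_eq_charDegree (IsIrrCharacter.isCharacter χ.2), hd]
      push_cast
      rfl
    exact_mod_cast this
  have hle : d o ^ 2 + d X ^ 2 + d Y ^ 2 ≤ (Nat.card G : ℤ) := by
    rw [← hsq]
    have hs : ({o, X, Y} : Finset (Cfsg.IrrCharacter G)) ⊆ Finset.univ := Finset.subset_univ _
    have := Finset.sum_le_sum_of_subset_of_nonneg hs
      (f := fun χ : Cfsg.IrrCharacter G => d χ ^ 2) (fun χ _ _ => sq_nonneg (d χ))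
    rw [Finset.sum_insert (by simp [hoX, hoY]), Finset.sum_insert (by simp [hXY]),
      Finset.sum_singleton] at this
    linarith
  -- Sylow's theorem
  haveI : Fact (Nat.Prime 3) := ⟨Nat.prime_three⟩
  have hsyl : Nat.card (Sylow 3 G) ≡ 1 [MOD 3] := card_sylow_modEq_one 3 G
  have hidx : Nat.card (Sylow 3 G)
      = (Subgroup.normalizer ((P : Subgroup G) : Set G)).index := Sylow.card_eq_index_normalizer P
  have hmul := Subgroup.card_mul_index (Subgroup.normalizer ((P : Subgroup G) : Set G))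
  rw [L.card_normalizer, ← hidx] at hmul
  obtain ⟨n, hn⟩ : ∃ n : ℕ, n = Nat.card (Sylow 3 G) := ⟨_, rfl⟩
  rw [← hn] at hmul hsyl
  have hnmod : n % 3 = 1 := hsyl
  rw [hdo, ← hdXY] at hle
  have hGn : (Nat.card G : ℤ) = 108 * n := by exact_mod_cast hmul.symm
  have hx4 : d X = 4 * n := by linarith
  rw [hx4, hGn] at hle
  have hn3 : (n : ℤ) ≤ 3 := by nlinarith
  have hn3' : n ≤ 3 := by exact_mod_cast hn3
  have hn1 : n = 1 := by omega
  rw [← hmul, hn1]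

end loc

end Cfsg.Agent.Lib.Helper2.Emb3
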