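import Mathlib
import Cfsg.Agent.Lib.Helper2.Emb3A

/-! # A subgroup `3^3 : S_4` (the normalizer of `3^3` in `Alt(9)`) with strongly closed `3^3`:
the local structure (S3702)

`V = F_3^3`, the `24` rotations of the cube acting on `V` as signed permutation matrices
(`act`), their multiplication table (`mt`), and the structure `Loc4`. -/

set_option autoImplicit false
set_option linter.style.haveILetI false
open Cfsg

namespace Cfsg.Agent.Lib.Helper2.Emb4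

open Cfsg.Agent.Lib.Helper2.Emb3 (V phi)

/-- the `24` signed permutation matrices of determinant one acting on `V = F_3^3`;
`0` is the identity, `1, 2, 3` the diagonal ones, `9` the rotation `r` of order `4` fixing the
third basis vector (`3 = r²`, `10 = r³`), `6` the involution `t`, `12` the `3`-cycle `c`
(`16 = c²`) -/
def actN (k : ℕ) (v : V) : V :=
  match k with
  | 0 => (v.1, v.2.1, v.2.2)
  | 1 => (v.1, -v.2.1, -v.2.2)
  | 2 => (-v.1, v.2.1, -v.2.2)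
  | 3 => (-v.1, -v.2.1, v.2.2)
  | 4 => (v.1, v.2.2, -v.2.1)
  | 5 => (v.1, -v.2.2, v.2.1)
  | 6 => (-v.1, v.2.2, v.2.1)
  | 7 => (-v.1, -v.2.2, -v.2.1)
  | 8 => (v.2.1, v.1, -v.2.2)
  | 9 => (v.2.1, -v.1, v.2.2)
  | 10 => (-v.2.1, v.1, v.2.2)
  | 11 => (-v.2.1, -v.1, -v.2.2)
  | 12 => (v.2.1, v.2.2, v.1)
  | 13 => (v.2.1, -v.2.2, -v.1)
  | 14 => (-v.2.1, v.2.2, -v.1)
  | 15 => (-v.2.1, -v.2.2, v.1)
  | 16 => (v.2.2, v.1, v.2.1)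
  | 17 => (v.2.2, -v.1, -v.2.1)
  | 18 => (-v.2.2, v.1, -v.2.1)
  | 19 => (-v.2.2, -v.1, v.2.1)
  | 20 => (v.2.2, v.2.1, -v.1)
  | 21 => (v.2.2, -v.2.1, v.1)
  | 22 => (-v.2.2, v.2.1, v.1)
  | _ => (-v.2.2, -v.2.1, -v.1)

/-- the action of the `k`-th rotation on `V` -/
def act (k : Fin 24) (v : V) : V := actN k.val v

/-- multiplication table of the `24` rotations: `act (mt k l) = act k ∘ act l` -/
def mtTab : List (List ℕ) :=
  [[0, 1, 2, 3, 4, 5, 6, 7, 8, 9, 10, 11, 12, 13, 14, 15, 16, 17, 18, 19, 20, 21, 22, 23],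
   [1, 0, 3, 2, 5, 4, 7, 6, 9, 8, 11, 10, 13, 12, 15, 14, 17, 16, 19, 18, 21, 20, 23, 22],
   [2, 3, 0, 1, 6, 7, 4, 5, 10, 11, 8, 9, 14, 15, 12, 13, 18, 19, 16, 17, 22, 23, 20, 21],
   [3, 2, 1, 0, 7, 6, 5, 4, 11, 10, 9, 8, 15, 14, 13, 12, 19, 18, 17, 16, 23, 22, 21, 20],
   [4, 5, 7, 6, 1, 0, 2, 3, 13, 12, 14, 15, 8, 9, 11, 10, 20, 21, 23, 22, 17, 16, 18, 19],
   [5, 4, 6, 7, 0, 1, 3, 2, 12, 13, 15, 14, 9, 8, 10, 11, 21, 20, 22, 23, 16, 17, 19, 18],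
   [6, 7, 5, 4, 3, 2, 0, 1, 15, 14, 12, 13, 10, 11, 9, 8, 22, 23, 21, 20, 19, 18, 16, 17],
   [7, 6, 4, 5, 2, 3, 1, 0, 14, 15, 13, 12, 11, 10, 8, 9, 23, 22, 20, 21, 18, 19, 17, 16],
   [8, 10, 9, 11, 16, 18, 17, 19, 0, 2, 1, 3, 20, 22, 21, 23, 4, 6, 5, 7, 12, 14, 13, 15],
   [9, 11, 8, 10, 17, 19, 16, 18, 1, 3, 0, 2, 21, 23, 20, 22, 5, 7, 4, 6, 13, 15, 12, 14],
   [10, 8, 11, 9, 18, 16, 19, 17, 2, 0, 3, 1, 22, 20, 23, 21, 6, 4, 7, 5, 14, 12, 15, 13],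
   [11, 9, 10, 8, 19, 17, 18, 16, 3, 1, 2, 0, 23, 21, 22, 20, 7, 5, 6, 4, 15, 13, 14, 12],
   [12, 15, 13, 14, 21, 22, 20, 23, 5, 6, 4, 7, 16, 19, 17, 18, 0, 3, 1, 2, 9, 10, 8, 11],
   [13, 14, 12, 15, 20, 23, 21, 22, 4, 7, 5, 6, 17, 18, 16, 19, 1, 2, 0, 3, 8, 11, 9, 10],
   [14, 13, 15, 12, 23, 20, 22, 21, 7, 4, 6, 5, 18, 17, 19, 16, 2, 1, 3, 0, 11, 8, 10, 9],
   [15, 12, 14, 13, 22, 21, 23, 20, 6, 5, 7, 4, 19, 16, 18, 17, 3, 0, 2, 1, 10, 9, 11, 8],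
   [16, 18, 19, 17, 10, 8, 9, 11, 22, 20, 21, 23, 0, 2, 3, 1, 12, 14, 15, 13, 6, 4, 5, 7],
   [17, 19, 18, 16, 11, 9, 8, 10, 23, 21, 20, 22, 1, 3, 2, 0, 13, 15, 14, 12, 7, 5, 4, 6],
   [18, 16, 17, 19, 8, 10, 11, 9, 20, 22, 23, 21, 2, 0, 1, 3, 14, 12, 13, 15, 4, 6, 7, 5],
   [19, 17, 16, 18, 9, 11, 10, 8, 21, 23, 22, 20, 3, 1, 0, 2, 15, 13, 12, 14, 5, 7, 6, 4],
   [20, 23, 22, 21, 14, 13, 12, 15, 18, 17, 16, 19, 4, 7, 6, 5, 8, 11, 10, 9, 2, 1, 0, 3],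
   [21, 22, 23, 20, 15, 12, 13, 14, 19, 16, 17, 18, 5, 6, 7, 4, 9, 10, 11, 8, 3, 0, 1, 2],
   [22, 21, 20, 23, 12, 15, 14, 13, 16, 19, 18, 17, 6, 5, 4, 7, 10, 9, 8, 11, 0, 3, 2, 1],
   [23, 20, 21, 22, 13, 14, 15, 12, 17, 18, 19, 16, 7, 4, 5, 6, 11, 8, 9, 10, 1, 2, 3, 0]]

/-- the product of two rotations -/
def mt (k l : Fin 24) : Fin 24 :=
  ⟨((mtTab.getD k.val []).getD l.val 0) % 24, Nat.mod_lt _ (by norm_num)⟩

section defs

variable {G : Type*} [Group G]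

/-- The local data of S3702: `J ≤ H ≤ G`, `J` elementary abelian of order `27` with basis
`a₁, a₂, a₃` (parametrised by `phi a₁ a₂ a₃ : V → G`), `H = J · σ(Fin 24)` where the `σ k`
multiply like the rotations of the cube and act on `J` through `act`; centralizers of
nonidentity elements of `J` lie in `H`, and `J` is strongly closed in `H` with respect to `G`. -/
structure Loc4 (J H : Subgroup G) (a₁ a₂ a₃ : G) (σ : Fin 24 → G) : Prop where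
  card_J : Nat.card J = 27
  card_H : Nat.card H = 648
  mem : ∀ v : V, phi a₁ a₂ a₃ v ∈ J
  inj : Function.Injective (phi a₁ a₂ a₃)
  mul : ∀ u v : V, phi a₁ a₂ a₃ (u + v) = phi a₁ a₂ a₃ u * phi a₁ a₂ a₃ v
  conj : ∀ (k : Fin 24) (v : V), σ k * phi a₁ a₂ a₃ v * (σ k)⁻¹ = phi a₁ a₂ a₃ (act k v)
  sig_mul : ∀ k l : Fin 24, σ k * σ l = σ (mt k l)
  sig_mem : ∀ k : Fin 24, σ k ∈ J → k = 0
  memH : ∀ h : G, h ∈ H ↔ ∃ (k : Fin 24) (v : V), h = phi a₁ a₂ a₃ v * σ k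
  loc : ∀ s ∈ J, s ≠ 1 → Subgroup.centralizer ({s} : Set G) ≤ H
  sc : ∀ s ∈ J, ∀ g : G, g * s * g⁻¹ ∈ H → g * s * g⁻¹ ∈ J

end defs

theorem act_zero : ∀ v : V, act 0 v = v := by decide

set_option maxRecDepth 100000 in
theorem act_mt : ∀ (k l : Fin 24) (v : V), act (mt k l) v = act k (act l v) := by decide +kernel

set_option maxRecDepth 100000 in
theorem act_add : ∀ (k : Fin 24) (u v : V), act k (u + v) = act k u + act k v := by decide +kernel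

set_option maxRecDepth 100000 in
theorem act_inj : ∀ k l : Fin 24, (∀ v : V, act k v = act l v) → k = l := by decide +kernel

theorem mt_zero_left : ∀ k : Fin 24, mt 0 k = k := by decide

theorem mt_zero_right : ∀ k : Fin 24, mt k 0 = k := by decide

set_option maxRecDepth 100000 in
theorem mt_assoc : ∀ k l m : Fin 24, mt (mt k l) m = mt k (mt l m) := by decide +kernel

end Cfsg.Agent.Lib.Helper2.Emb4
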