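import Mathlib
import Cfsg.Agent.Lib.Helper2.Emb4A
import Cfsg.Agent.Lib.Helper2.Emb3B

/-! # Consequences of `Loc4`: the model `V × Fin 24`, normal forms, fusion control -/

set_option autoImplicit false
set_option linter.style.haveILetI false
set_option linter.unusedSectionVars false
open Cfsg

namespace Cfsg.Agent.Lib.Helper2.Emb4

open Cfsg.Agent.Lib.Helper2.Emb3 (V phi phi_zero three_nsmul)

/-- the model of `H`: pairs `(v, k)` standing for `phi v * σ k` -/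
abbrev Md := V × Fin 24

/-- multiplication in the model -/
def mmul (p q : Md) : Md := (p.1 + act p.2 q.1, mt p.2 q.2)

/-- inverse of a rotation -/
def minv (k : Fin 24) : Fin 24 :=
  ((List.finRange 24).find? (fun l => mt k l = 0)).getD 0

/-- inverse in the model -/
def mminv (p : Md) : Md := (act (minv p.2) (-p.1), minv p.2)

/-- powers in the model -/
def mpow (p : Md) : ℕ → Md
  | 0 => (0, 0)
  | n + 1 => mmul (mpow p n) p

set_option maxRecDepth 100000 in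
theorem mt_minv : ∀ k : Fin 24, mt k (minv k) = 0 := by decide +kernel

set_option maxRecDepth 100000 in
theorem minv_mt : ∀ k : Fin 24, mt (minv k) k = 0 := by decide +kernel

set_option maxRecDepth 100000 in
theorem act_neg : ∀ (k : Fin 24) (v : V), act k (-v) = -act k v := by decide +kernel

/-- number of rotations fixing `v` -/
def stabN (v : V) : ℕ := Fintype.card {k : Fin 24 // act k v = v}

set_option maxRecDepth 100000 in
theorem orbit_of_stabN : ∀ u v : V, u ≠ 0 → v ≠ 0 → stabN u = stabN v →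
    ∃ k : Fin 24, act k u = v := by decide +kernel

section loc

variable {G : Type*} [Group G] [Finite G] {J H : Subgroup G} {a₁ a₂ a₃ : G} {σ : Fin 24 → G}

/-- the normal form `phi v * σ k` -/
def nf (a₁ a₂ a₃ : G) (σ : Fin 24 → G) (p : Md) : G := phi a₁ a₂ a₃ p.1 * σ p.2

variable (L : Loc4 J H a₁ a₂ a₃ σ)
include L

theorem Loc4.range {t : G} (ht : t ∈ J) : ∃ v : V, t = phi a₁ a₂ a₃ v := by
  classical
  let f : V → J := fun v => ⟨phi a₁ a₂ a₃ v, L.mem v⟩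
  have hf : Function.Injective f := by
    intro u v h
    exact L.inj (congrArg Subtype.val h)
  have hcard : Nat.card V = Nat.card J := by
    rw [L.card_J, Nat.card_eq_fintype_card]; decide
  have hb : Function.Bijective f := by
    haveI : Finite J := inferInstance
    exact (Nat.bijective_iff_injective_and_card f).mpr ⟨hf, hcard⟩
  obtain ⟨v, hv⟩ := hb.2 ⟨t, ht⟩
  exact ⟨v, (congrArg Subtype.val hv).symm⟩

theorem Loc4.comm : ∀ x ∈ J, ∀ y ∈ J, x * y = y * x := by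
  intro x hx y hy
  obtain ⟨u, rfl⟩ := L.range hx
  obtain ⟨v, rfl⟩ := L.range hy
  rw [← L.mul, ← L.mul, add_comm]

theorem Loc4.exp : ∀ x ∈ J, x ^ 3 = 1 := by
  intro x hx
  obtain ⟨u, rfl⟩ := L.range hx
  rw [pow_succ, pow_two, ← L.mul, ← L.mul, three_nsmul, phi_zero]

theorem Loc4.phi_ne_one {v : V} (hv : v ≠ 0) : phi a₁ a₂ a₃ v ≠ 1 := by
  intro h
  apply hv
  apply L.inj
  rw [h, phi_zero]

theorem Loc4.phi_inv (v : V) : (phi a₁ a₂ a₃ v)⁻¹ = phi a₁ a₂ a₃ (-v) := by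
  rw [inv_eq_iff_mul_eq_one, ← L.mul, add_neg_cancel, phi_zero]

theorem Loc4.sig_zero : σ 0 = 1 := by
  have h := L.sig_mul 0 0
  rw [mt_zero_left] at h
  exact mul_left_cancel (h.trans (mul_one _).symm)

theorem Loc4.sig_inv (k : Fin 24) : (σ k)⁻¹ = σ (minv k) := by
  rw [inv_eq_iff_mul_eq_one, L.sig_mul, mt_minv, L.sig_zero]

/-- commuting a rotation past an element of `J` -/
theorem Loc4.sig_phi (k : Fin 24) (v : V) :
    σ k * phi a₁ a₂ a₃ v = phi a₁ a₂ a₃ (act k v) * σ k := by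
  rw [← L.conj k v]; group

theorem Loc4.nf_mul (p q : Md) :
    nf a₁ a₂ a₃ σ p * nf a₁ a₂ a₃ σ q = nf a₁ a₂ a₃ σ (mmul p q) := by
  unfold nf mmul
  simp only
  rw [L.mul, ← L.sig_mul]
  calc phi a₁ a₂ a₃ p.1 * σ p.2 * (phi a₁ a₂ a₃ q.1 * σ q.2)
      = phi a₁ a₂ a₃ p.1 * (σ p.2 * phi a₁ a₂ a₃ q.1) * σ q.2 := by group
    _ = phi a₁ a₂ a₃ p.1 * (phi a₁ a₂ a₃ (act p.2 q.1) * σ p.2) * σ q.2 := by rw [L.sig_phi]
    _ = phi a₁ a₂ a₃ p.1 * phi a₁ a₂ a₃ (act p.2 q.1) * (σ p.2 * σ q.2) := by group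

theorem Loc4.nf_one : nf a₁ a₂ a₃ σ (0, 0) = 1 := by
  unfold nf
  simp only
  rw [phi_zero, L.sig_zero, mul_one]

theorem Loc4.nf_inj : Function.Injective (nf a₁ a₂ a₃ σ) := by
  intro p q h
  unfold nf at h
  have h1 : σ (mt (minv q.2) p.2) = phi a₁ a₂ a₃ (act (minv q.2) (q.1 - p.1)) := by
    have e1 : σ p.2 = (phi a₁ a₂ a₃ p.1)⁻¹ * phi a₁ a₂ a₃ q.1 * σ q.2 := by
      rw [mul_assoc, ← h]; group
    rw [← L.sig_mul, e1, L.phi_inv, ← L.mul, ← mul_assoc, L.sig_phi, mul_assoc, L.sig_mul,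
      minv_mt, L.sig_zero, mul_one, neg_add_eq_sub]
  have h2 : mt (minv q.2) p.2 = 0 := L.sig_mem _ (by rw [h1]; exact L.mem _)
  have h3 : p.2 = q.2 := by
    have e2 : mt q.2 (mt (minv q.2) p.2) = mt q.2 0 := by rw [h2]
    rw [← mt_assoc, mt_minv, mt_zero_left, mt_zero_right] at e2
    exact e2
  have h4 : phi a₁ a₂ a₃ p.1 = phi a₁ a₂ a₃ q.1 := by
    rw [h3] at h
    exact mul_right_cancel h
  exact Prod.ext (L.inj h4) h3

theorem Loc4.nf_mem (p : Md) : nf a₁ a₂ a₃ σ p ∈ H :=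
  (L.memH _).mpr ⟨p.2, p.1, rfl⟩

theorem Loc4.exists_nf {h : G} (hh : h ∈ H) : ∃ p : Md, h = nf a₁ a₂ a₃ σ p := by
  obtain ⟨k, v, hkv⟩ := (L.memH h).mp hh
  exact ⟨(v, k), hkv⟩

theorem Loc4.phi_eq_nf (v : V) : phi a₁ a₂ a₃ v = nf a₁ a₂ a₃ σ (v, 0) := by
  unfold nf
  simp only
  rw [L.sig_zero, mul_one]

theorem Loc4.J_le_H : J ≤ H := by
  intro x hx
  obtain ⟨v, rfl⟩ := L.range hx
  rw [L.phi_eq_nf]
  exact L.nf_mem _

theorem Loc4.nf_mem_J {p : Md} (h : nf a₁ a₂ a₃ σ p ∈ J) : p.2 = 0 := by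
  obtain ⟨v, hv⟩ := L.range h
  rw [L.phi_eq_nf] at hv
  have := L.nf_inj hv
  rw [this]

theorem Loc4.nf_inv (p : Md) : (nf a₁ a₂ a₃ σ p)⁻¹ = nf a₁ a₂ a₃ σ (mminv p) := by
  rw [inv_eq_iff_mul_eq_one, L.nf_mul]
  have : mmul p (mminv p) = (0, 0) := by
    unfold mmul mminv
    simp only
    rw [← act_mt, mt_minv, act_zero, add_neg_cancel]
  rw [this, L.nf_one]

theorem Loc4.nf_pow (p : Md) (n : ℕ) : (nf a₁ a₂ a₃ σ p) ^ n = nf a₁ a₂ a₃ σ (mpow p n) := by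
  induction n with
  | zero => rw [pow_zero]; exact L.nf_one.symm
  | succ n ih => rw [pow_succ, ih, L.nf_mul]; rfl

/-- conjugation in normal form -/
theorem Loc4.nf_conj (p q : Md) :
    nf a₁ a₂ a₃ σ p * nf a₁ a₂ a₃ σ q * (nf a₁ a₂ a₃ σ p)⁻¹
      = nf a₁ a₂ a₃ σ (mmul (mmul p q) (mminv p)) := by
  rw [L.nf_inv, L.nf_mul, L.nf_mul]

/-- conjugation of an element of `J` by an element of `H` -/
theorem Loc4.conj_nf (p : Md) (v : V) :
    nf a₁ a₂ a₃ σ p * phi a₁ a₂ a₃ v * (nf a₁ a₂ a₃ σ p)⁻¹ = phi a₁ a₂ a₃ (act p.2 v) := by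
  unfold nf
  have h1 : phi a₁ a₂ a₃ p.1 * σ p.2 * phi a₁ a₂ a₃ v * (phi a₁ a₂ a₃ p.1 * σ p.2)⁻¹
      = phi a₁ a₂ a₃ p.1 * (σ p.2 * phi a₁ a₂ a₃ v * (σ p.2)⁻¹) * (phi a₁ a₂ a₃ p.1)⁻¹ := by
    group
  rw [h1, L.conj, L.comm _ (L.mem p.1) _ (L.mem _), mul_inv_cancel_right]

/-- the order of the centralizer of a nonidentity element of `J` -/
theorem Loc4.card_centralizer {v : V} (hv : v ≠ 0) :
    Nat.card (Subgroup.centralizer ({phi a₁ a₂ a₃ v} : Set G)) = 27 * stabN v := by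
  classical
  have hmem : ∀ (w : V) (k : Fin 24), act k v = v →
      nf a₁ a₂ a₃ σ (w, k) ∈ Subgroup.centralizer ({phi a₁ a₂ a₃ v} : Set G) := by
    intro w k hk
    rw [Subgroup.mem_centralizer_singleton_iff]
    have h1 := L.conj_nf (w, k) v
    simp only at h1
    rw [hk] at h1
    exact mul_inv_eq_iff_eq_mul.mp h1
  let f : V × {k : Fin 24 // act k v = v} → Subgroup.centralizer ({phi a₁ a₂ a₃ v} : Set G) :=
    fun q => ⟨nf a₁ a₂ a₃ σ (q.1, q.2.1), hmem q.1 q.2.1 q.2.2⟩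
  have hf : Function.Bijective f := by
    constructor
    · intro q q' h
      have h1 := L.nf_inj (congrArg Subtype.val h)
      have h2 : q.1 = q'.1 := (Prod.ext_iff.mp h1).1
      have h3 : q.2.1 = q'.2.1 := (Prod.ext_iff.mp h1).2
      exact Prod.ext h2 (Subtype.ext h3)
    · intro c
      have hcH := L.loc _ (L.mem v) (L.phi_ne_one hv) c.2
      obtain ⟨p, hp⟩ := L.exists_nf hcH
      have hc := Subgroup.mem_centralizer_singleton_iff.mp c.2
      have h1 := L.conj_nf p v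
      rw [← hp] at h1
      have h2 : (c : G) * phi a₁ a₂ a₃ v * (c : G)⁻¹ = phi a₁ a₂ a₃ v := by
        rw [hc]; group
      rw [h2] at h1
      exact ⟨(p.1, ⟨p.2, (L.inj h1).symm⟩), Subtype.ext hp.symm⟩
  rw [← Nat.card_congr (Equiv.ofBijective f hf), Nat.card_eq_fintype_card, Fintype.card_prod]
  unfold stabN
  congr 1

/-- fusion control: a conjugate of a nonidentity element of `J` lying in `J` is an
`H`-conjugate, and the conjugating element lies in `H` -/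
theorem Loc4.mem_H_of_conj {g : G} {u v : V} (hu : u ≠ 0)
    (hg : g * phi a₁ a₂ a₃ u * g⁻¹ = phi a₁ a₂ a₃ v) : g ∈ H ∧ ∃ k : Fin 24, act k u = v := by
  have hv : v ≠ 0 := by
    rintro rfl
    rw [phi_zero] at hg
    apply L.phi_ne_one hu
    have : phi a₁ a₂ a₃ u = g⁻¹ * (g * phi a₁ a₂ a₃ u * g⁻¹) * g := by group
    rw [this, hg]; group
  have hcard : Nat.card (Subgroup.centralizer ({phi a₁ a₂ a₃ u} : Set G))
      = Nat.card (Subgroup.centralizer ({phi a₁ a₂ a₃ v} : Set G)) := by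
    apply Nat.card_congr
    refine ⟨fun c => ⟨g * c.1 * g⁻¹, ?_⟩, fun c => ⟨g⁻¹ * c.1 * g, ?_⟩, ?_, ?_⟩
    · rw [Subgroup.mem_centralizer_singleton_iff, ← hg]
      have hc := Subgroup.mem_centralizer_singleton_iff.mp c.2
      calc g * c.1 * g⁻¹ * (g * phi a₁ a₂ a₃ u * g⁻¹) = g * (c.1 * phi a₁ a₂ a₃ u) * g⁻¹ := by
            group
        _ = g * (phi a₁ a₂ a₃ u * c.1) * g⁻¹ := by rw [hc]
        _ = g * phi a₁ a₂ a₃ u * g⁻¹ * (g * c.1 * g⁻¹) := by group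
    · obtain ⟨c, hc'⟩ := c
      rw [Subgroup.mem_centralizer_singleton_iff]
      have hc : c * phi a₁ a₂ a₃ v = phi a₁ a₂ a₃ v * c :=
        Subgroup.mem_centralizer_singleton_iff.mp hc'
      rw [← hg] at hc
      show g⁻¹ * c * g * phi a₁ a₂ a₃ u = phi a₁ a₂ a₃ u * (g⁻¹ * c * g)
      calc g⁻¹ * c * g * phi a₁ a₂ a₃ u
          = g⁻¹ * (c * (g * phi a₁ a₂ a₃ u * g⁻¹)) * g := by group
        _ = g⁻¹ * ((g * phi a₁ a₂ a₃ u * g⁻¹) * c) * g := by rw [hc]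
        _ = phi a₁ a₂ a₃ u * (g⁻¹ * c * g) := by group
    · intro c; apply Subtype.ext; simp only; group
    · intro c; apply Subtype.ext; simp only; group
  rw [L.card_centralizer hu, L.card_centralizer hv] at hcard
  have hst : stabN u = stabN v := by omega
  obtain ⟨k, hk⟩ := orbit_of_stabN u v hu hv hst
  refine ⟨?_, k, hk⟩
  have h1 := L.conj k u
  rw [hk, ← hg] at h1
  have h2 : (σ k)⁻¹ * g ∈ Subgroup.centralizer ({phi a₁ a₂ a₃ u} : Set G) := by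
    rw [Subgroup.mem_centralizer_singleton_iff]
    have e1 : phi a₁ a₂ a₃ u = (σ k)⁻¹ * (σ k * phi a₁ a₂ a₃ u * (σ k)⁻¹) * σ k := by group
    calc (σ k)⁻¹ * g * phi a₁ a₂ a₃ u
        = (σ k)⁻¹ * (g * phi a₁ a₂ a₃ u * g⁻¹) * g := by group
      _ = (σ k)⁻¹ * (σ k * phi a₁ a₂ a₃ u * (σ k)⁻¹) * g := by rw [h1]
      _ = phi a₁ a₂ a₃ u * ((σ k)⁻¹ * g) := by group
  have h3 := L.loc _ (L.mem u) (L.phi_ne_one hu) h2
  have h4 : σ k ∈ H := by
    have := L.nf_mem (0, k)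
    unfold nf at this
    simpa [phi_zero] using this
  have : g = σ k * ((σ k)⁻¹ * g) := by group
  rw [this]
  exact Subgroup.mul_mem _ h4 h3

/-- fusion in `J` -/
theorem Loc4.isConj_phi_iff {u v : V} (hu : u ≠ 0) :
    IsConj (phi a₁ a₂ a₃ u) (phi a₁ a₂ a₃ v) ↔ ∃ k : Fin 24, act k u = v := by
  constructor
  · intro h
    obtain ⟨g, hg⟩ := _root_.isConj_iff.mp h
    exact (L.mem_H_of_conj hu hg).2
  · rintro ⟨k, rfl⟩
    rw [_root_.isConj_iff]
    exact ⟨σ k, L.conj k u⟩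

/-- elements of `H` with a power in `J ∖ 1`: centralizers and fusion are controlled by `H` -/
theorem Loc4.centralizer_le {d : Md} {m : ℕ} (hm2 : (mpow d m).2 = 0) (hm1 : (mpow d m).1 ≠ 0) :
    Subgroup.centralizer ({nf a₁ a₂ a₃ σ d} : Set G) ≤ H := by
  intro c hc
  have h1 : (nf a₁ a₂ a₃ σ d) ^ m = phi a₁ a₂ a₃ (mpow d m).1 := by
    rw [L.nf_pow, L.phi_eq_nf]
    congr 1
    exact Prod.ext rfl hm2
  apply L.loc _ (L.mem (mpow d m).1) (L.phi_ne_one hm1)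
  rw [Subgroup.mem_centralizer_singleton_iff] at hc ⊢
  rw [← h1]
  exact ((Commute.pow_right (show Commute c (nf a₁ a₂ a₃ σ d) from hc) m)).eq

theorem Loc4.mem_H_of_conj_nf {g : G} {d d' : Md} {m : ℕ} (hm2 : (mpow d m).2 = 0)
    (hm1 : (mpow d m).1 ≠ 0) (hm2' : (mpow d' m).2 = 0)
    (hg : g * nf a₁ a₂ a₃ σ d * g⁻¹ = nf a₁ a₂ a₃ σ d') : g ∈ H := by
  have h1 : (nf a₁ a₂ a₃ σ d) ^ m = phi a₁ a₂ a₃ (mpow d m).1 := by
    rw [L.nf_pow, L.phi_eq_nf]
    congr 1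
    exact Prod.ext rfl hm2
  have h1' : (nf a₁ a₂ a₃ σ d') ^ m = phi a₁ a₂ a₃ (mpow d' m).1 := by
    rw [L.nf_pow, L.phi_eq_nf]
    congr 1
    exact Prod.ext rfl hm2'
  have h2 : g * phi a₁ a₂ a₃ (mpow d m).1 * g⁻¹ = phi a₁ a₂ a₃ (mpow d' m).1 := by
    rw [← h1, ← h1', ← hg, conj_pow]
  exact (L.mem_H_of_conj hm1 h2).1

/-- conjugacy of such elements is decided in the model -/
theorem Loc4.isConj_nf_iff {d d' : Md} {m : ℕ} (hm2 : (mpow d m).2 = 0)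
    (hm1 : (mpow d m).1 ≠ 0) (hm2' : (mpow d' m).2 = 0) :
    IsConj (nf a₁ a₂ a₃ σ d) (nf a₁ a₂ a₃ σ d') ↔ ∃ p : Md, mmul (mmul p d) (mminv p) = d' := by
  constructor
  · intro h
    obtain ⟨g, hg⟩ := _root_.isConj_iff.mp h
    have hgH := L.mem_H_of_conj_nf hm2 hm1 hm2' hg
    obtain ⟨p, rfl⟩ := L.exists_nf hgH
    rw [L.nf_conj] at hg
    exact ⟨p, L.nf_inj hg⟩
  · rintro ⟨p, rfl⟩
    rw [_root_.isConj_iff]
    exact ⟨nf a₁ a₂ a₃ σ p, L.nf_conj p d⟩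

/-- centralizer orders of such elements are computed in the model -/
theorem Loc4.card_centralizer_nf {d : Md} {m : ℕ} (hm2 : (mpow d m).2 = 0)
    (hm1 : (mpow d m).1 ≠ 0) :
    Nat.card (Subgroup.centralizer ({nf a₁ a₂ a₃ σ d} : Set G))
      = Fintype.card {p : Md // mmul p d = mmul d p} := by
  classical
  let f : {p : Md // mmul p d = mmul d p} → Subgroup.centralizer ({nf a₁ a₂ a₃ σ d} : Set G) :=
    fun p => ⟨nf a₁ a₂ a₃ σ p.1, by
      rw [Subgroup.mem_centralizer_singleton_iff, L.nf_mul, L.nf_mul, p.2]⟩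
  have hf : Function.Bijective f := by
    constructor
    · intro p q h
      exact Subtype.ext (L.nf_inj (congrArg Subtype.val h))
    · intro c
      have hcH := L.centralizer_le hm2 hm1 c.2
      obtain ⟨p, hp⟩ := L.exists_nf hcH
      have hc := Subgroup.mem_centralizer_singleton_iff.mp c.2
      rw [hp, L.nf_mul, L.nf_mul] at hc
      exact ⟨⟨p, L.nf_inj hc⟩, Subtype.ext hp.symm⟩
  rw [← Nat.card_congr (Equiv.ofBijective f hf), Nat.card_eq_fintype_card]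

end loc

end Cfsg.Agent.Lib.Helper2.Emb4
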