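import Mathlib
import Cfsg.Agent.Lib.Helper2.Emb4B

/-! # The nine classes of the TI-set `D` of `H = 3^3 : S_4`: representatives, powers,
centralizer orders, (non-)conjugacy (all decided in the model `V × Fin 24`) -/

set_option autoImplicit false
set_option linter.style.haveILetI false
set_option linter.unusedSectionVars false
open Cfsg

namespace Cfsg.Agent.Lib.Helper2.Emb4

open Cfsg.Agent.Lib.Helper2.Emb3 (V phi phi_zero three_nsmul)

/-- class representative -/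
def dw1 : Md := ((0, 0, 1), 0)

/-- class representative -/
def d6a : Md := ((0, 0, 1), 3)

/-- class representative -/
def d6b : Md := ((0, 1, 1), 6)

/-- class representative -/
def d12a : Md := ((0, 0, 1), 9)

/-- class representative -/
def d12b : Md := ((0, 0, 1), 10)

/-- class representative -/
def d9a : Md := ((0, 0, 1), 12)

/-- class representative -/
def d9b : Md := ((0, 0, 2), 12)

/-- class representative -/
def dw2 : Md := ((0, 1, 1), 0)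

/-- class representative -/
def dw3 : Md := ((1, 1, 1), 0)


/-- conjugation in the model -/
def mconj (p d : Md) : Md := mmul (mmul p d) (mminv p)

section loc

variable {G : Type*} [Group G] [Finite G] {J H : Subgroup G} {a₁ a₂ a₃ : G} {σ : Fin 24 → G}
variable (L : Loc4 J H a₁ a₂ a₃ σ)
include L

theorem Loc4.isConj_of_model {d d' : Md} (p : Md) (h : mconj p d = d') :
    IsConj (nf a₁ a₂ a₃ σ d) (nf a₁ a₂ a₃ σ d') := by
  rw [_root_.isConj_iff]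
  refine ⟨nf a₁ a₂ a₃ σ p, ?_⟩
  rw [L.nf_conj]
  exact congrArg _ h

theorem Loc4.isConj_pow_of_model {d d' : Md} (k : ℕ) (p : Md) (h : mconj p (mpow d k) = d') :
    IsConj ((nf a₁ a₂ a₃ σ d) ^ k) (nf a₁ a₂ a₃ σ d') := by
  rw [L.nf_pow]
  exact L.isConj_of_model p h

theorem Loc4.not_isConj_of_model {d d' : Md} (m : ℕ) (hm2 : (mpow d m).2 = 0)
    (hm1 : (mpow d m).1 ≠ 0) (hm2' : (mpow d' m).2 = 0) (h : ∀ p : Md, mconj p d ≠ d') :
    ¬ IsConj (nf a₁ a₂ a₃ σ d) (nf a₁ a₂ a₃ σ d') := by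
  intro hc
  obtain ⟨p, hp⟩ := (L.isConj_nf_iff hm2 hm1 hm2').mp hc
  exact h p hp

theorem Loc4.orderOf_nf {d : Md} (n : ℕ) (hn : 0 < n) (h1 : mpow d n = (0, 0))
    (h2 : ∀ m : ℕ, m < n → 0 < m → mpow d m ≠ (0, 0)) : orderOf (nf a₁ a₂ a₃ σ d) = n := by
  rw [orderOf_eq_iff hn]
  constructor
  · rw [L.nf_pow, h1, L.nf_one]
  · intro m hm hm0 h
    rw [L.nf_pow, ← L.nf_one] at h
    exact h2 m hm hm0 (L.nf_inj h)

theorem Loc4.orderOf_dw1 : orderOf (nf a₁ a₂ a₃ σ dw1) = 3 :=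
  L.orderOf_nf 3 (by norm_num) (by decide) (by decide)

theorem Loc4.orderOf_d6a : orderOf (nf a₁ a₂ a₃ σ d6a) = 6 :=
  L.orderOf_nf 6 (by norm_num) (by decide) (by decide)

theorem Loc4.orderOf_d6b : orderOf (nf a₁ a₂ a₃ σ d6b) = 6 :=
  L.orderOf_nf 6 (by norm_num) (by decide) (by decide)

theorem Loc4.orderOf_d12a : orderOf (nf a₁ a₂ a₃ σ d12a) = 12 :=
  L.orderOf_nf 12 (by norm_num) (by decide) (by decide)

theorem Loc4.orderOf_d12b : orderOf (nf a₁ a₂ a₃ σ d12b) = 12 :=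
  L.orderOf_nf 12 (by norm_num) (by decide) (by decide)

theorem Loc4.orderOf_d9a : orderOf (nf a₁ a₂ a₃ σ d9a) = 9 :=
  L.orderOf_nf 9 (by norm_num) (by decide) (by decide)

theorem Loc4.orderOf_d9b : orderOf (nf a₁ a₂ a₃ σ d9b) = 9 :=
  L.orderOf_nf 9 (by norm_num) (by decide) (by decide)

theorem Loc4.orderOf_dw2 : orderOf (nf a₁ a₂ a₃ σ dw2) = 3 :=
  L.orderOf_nf 3 (by norm_num) (by decide) (by decide)

theorem Loc4.orderOf_dw3 : orderOf (nf a₁ a₂ a₃ σ dw3) = 3 :=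
  L.orderOf_nf 3 (by norm_num) (by decide) (by decide)

set_option maxRecDepth 100000 in
theorem Loc4.card_centralizer_dw1 :
    Nat.card (Subgroup.centralizer ({nf a₁ a₂ a₃ σ dw1} : Set G)) = 108 := by
  rw [L.card_centralizer_nf (d := dw1) (m := 1) (by decide) (by decide)]
  decide +kernel

set_option maxRecDepth 100000 in
theorem Loc4.card_centralizer_d6a :
    Nat.card (Subgroup.centralizer ({nf a₁ a₂ a₃ σ d6a} : Set G)) = 12 := by
  rw [L.card_centralizer_nf (d := d6a) (m := 4) (by decide) (by decide)]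
  decide +kernel

set_option maxRecDepth 100000 in
theorem Loc4.card_centralizer_d6b :
    Nat.card (Subgroup.centralizer ({nf a₁ a₂ a₃ σ d6b} : Set G)) = 6 := by
  rw [L.card_centralizer_nf (d := d6b) (m := 4) (by decide) (by decide)]
  decide +kernel

set_option maxRecDepth 100000 in
theorem Loc4.card_centralizer_d12a :
    Nat.card (Subgroup.centralizer ({nf a₁ a₂ a₃ σ d12a} : Set G)) = 12 := by
  rw [L.card_centralizer_nf (d := d12a) (m := 4) (by decide) (by decide)]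
  decide +kernel

set_option maxRecDepth 100000 in
theorem Loc4.card_centralizer_d12b :
    Nat.card (Subgroup.centralizer ({nf a₁ a₂ a₃ σ d12b} : Set G)) = 12 := by
  rw [L.card_centralizer_nf (d := d12b) (m := 4) (by decide) (by decide)]
  decide +kernel

set_option maxRecDepth 100000 in
theorem Loc4.card_centralizer_d9a :
    Nat.card (Subgroup.centralizer ({nf a₁ a₂ a₃ σ d9a} : Set G)) = 9 := by
  rw [L.card_centralizer_nf (d := d9a) (m := 3) (by decide) (by decide)]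
  decide +kernel

set_option maxRecDepth 100000 in
theorem Loc4.card_centralizer_d9b :
    Nat.card (Subgroup.centralizer ({nf a₁ a₂ a₃ σ d9b} : Set G)) = 9 := by
  rw [L.card_centralizer_nf (d := d9b) (m := 3) (by decide) (by decide)]
  decide +kernel

set_option maxRecDepth 100000 in
theorem Loc4.card_centralizer_dw2 :
    Nat.card (Subgroup.centralizer ({nf a₁ a₂ a₃ σ dw2} : Set G)) = 54 := by
  rw [L.card_centralizer_nf (d := dw2) (m := 1) (by decide) (by decide)]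
  decide +kernel

set_option maxRecDepth 100000 in
theorem Loc4.card_centralizer_dw3 :
    Nat.card (Subgroup.centralizer ({nf a₁ a₂ a₃ σ dw3} : Set G)) = 81 := by
  rw [L.card_centralizer_nf (d := dw3) (m := 1) (by decide) (by decide)]
  decide +kernel

theorem Loc4.conj_d12a_pow2 : IsConj ((nf a₁ a₂ a₃ σ d12a) ^ 2) (nf a₁ a₂ a₃ σ d6a) :=
  L.isConj_pow_of_model 2 ((0, 0, 0), 1) (by decide)

theorem Loc4.conj_d12a_pow4 : IsConj ((nf a₁ a₂ a₃ σ d12a) ^ 4) (nf a₁ a₂ a₃ σ dw1) :=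
  L.isConj_pow_of_model 4 ((0, 0, 0), 0) (by decide)

theorem Loc4.conj_d12a_pow5 : IsConj ((nf a₁ a₂ a₃ σ d12a) ^ 5) (nf a₁ a₂ a₃ σ d12b) :=
  L.isConj_pow_of_model 5 ((0, 0, 0), 1) (by decide)

theorem Loc4.conj_d12a_pow7 : IsConj ((nf a₁ a₂ a₃ σ d12a) ^ 7) (nf a₁ a₂ a₃ σ d12b) :=
  L.isConj_pow_of_model 7 ((0, 0, 0), 0) (by decide)

theorem Loc4.conj_d12a_pow8 : IsConj ((nf a₁ a₂ a₃ σ d12a) ^ 8) (nf a₁ a₂ a₃ σ dw1) :=
  L.isConj_pow_of_model 8 ((0, 0, 0), 1) (by decide)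

theorem Loc4.conj_d12a_pow10 : IsConj ((nf a₁ a₂ a₃ σ d12a) ^ 10) (nf a₁ a₂ a₃ σ d6a) :=
  L.isConj_pow_of_model 10 ((0, 0, 0), 0) (by decide)

theorem Loc4.conj_d12a_pow11 : IsConj ((nf a₁ a₂ a₃ σ d12a) ^ 11) (nf a₁ a₂ a₃ σ d12a) :=
  L.isConj_pow_of_model 11 ((0, 0, 0), 1) (by decide)

theorem Loc4.conj_d6b_pow2 : IsConj ((nf a₁ a₂ a₃ σ d6b) ^ 2) (nf a₁ a₂ a₃ σ dw2) :=
  L.isConj_pow_of_model 2 ((0, 0, 0), 1) (by decide)

theorem Loc4.conj_d6b_pow4 : IsConj ((nf a₁ a₂ a₃ σ d6b) ^ 4) (nf a₁ a₂ a₃ σ dw2) :=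
  L.isConj_pow_of_model 4 ((0, 0, 0), 0) (by decide)

theorem Loc4.conj_d6b_pow5 : IsConj ((nf a₁ a₂ a₃ σ d6b) ^ 5) (nf a₁ a₂ a₃ σ d6b) :=
  L.isConj_pow_of_model 5 ((0, 0, 0), 1) (by decide)

theorem Loc4.conj_d9a_pow2 : IsConj ((nf a₁ a₂ a₃ σ d9a) ^ 2) (nf a₁ a₂ a₃ σ d9a) :=
  L.isConj_pow_of_model 2 ((0, 0, 2), 7) (by decide)

theorem Loc4.conj_d9a_pow3 : IsConj ((nf a₁ a₂ a₃ σ d9a) ^ 3) (nf a₁ a₂ a₃ σ dw3) :=
  L.isConj_pow_of_model 3 ((0, 0, 0), 0) (by decide)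

theorem Loc4.conj_d9a_pow4 : IsConj ((nf a₁ a₂ a₃ σ d9a) ^ 4) (nf a₁ a₂ a₃ σ d9a) :=
  L.isConj_pow_of_model 4 ((0, 1, 0), 12) (by decide)

theorem Loc4.conj_d9a_pow5 : IsConj ((nf a₁ a₂ a₃ σ d9a) ^ 5) (nf a₁ a₂ a₃ σ d9a) :=
  L.isConj_pow_of_model 5 ((0, 1, 0), 11) (by decide)

theorem Loc4.conj_d9a_pow6 : IsConj ((nf a₁ a₂ a₃ σ d9a) ^ 6) (nf a₁ a₂ a₃ σ dw3) :=
  L.isConj_pow_of_model 6 ((0, 0, 0), 7) (by decide)

theorem Loc4.conj_d9a_pow7 : IsConj ((nf a₁ a₂ a₃ σ d9a) ^ 7) (nf a₁ a₂ a₃ σ d9a) :=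
  L.isConj_pow_of_model 7 ((0, 0, 2), 16) (by decide)

theorem Loc4.conj_d9a_pow8 : IsConj ((nf a₁ a₂ a₃ σ d9a) ^ 8) (nf a₁ a₂ a₃ σ d9a) :=
  L.isConj_pow_of_model 8 ((0, 0, 0), 23) (by decide)

theorem Loc4.conj_d9b_pow2 : IsConj ((nf a₁ a₂ a₃ σ d9b) ^ 2) (nf a₁ a₂ a₃ σ d9b) :=
  L.isConj_pow_of_model 2 ((0, 0, 1), 7) (by decide)

theorem Loc4.conj_d9b_pow3 : IsConj ((nf a₁ a₂ a₃ σ d9b) ^ 3) (nf a₁ a₂ a₃ σ dw3) :=
  L.isConj_pow_of_model 3 ((0, 0, 0), 7) (by decide)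

theorem Loc4.conj_d9b_pow4 : IsConj ((nf a₁ a₂ a₃ σ d9b) ^ 4) (nf a₁ a₂ a₃ σ d9b) :=
  L.isConj_pow_of_model 4 ((0, 1, 0), 16) (by decide)

theorem Loc4.conj_d9b_pow5 : IsConj ((nf a₁ a₂ a₃ σ d9b) ^ 5) (nf a₁ a₂ a₃ σ d9b) :=
  L.isConj_pow_of_model 5 ((0, 1, 0), 7) (by decide)

theorem Loc4.conj_d9b_pow6 : IsConj ((nf a₁ a₂ a₃ σ d9b) ^ 6) (nf a₁ a₂ a₃ σ dw3) :=
  L.isConj_pow_of_model 6 ((0, 0, 0), 0) (by decide)

theorem Loc4.conj_d9b_pow7 : IsConj ((nf a₁ a₂ a₃ σ d9b) ^ 7) (nf a₁ a₂ a₃ σ d9b) :=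
  L.isConj_pow_of_model 7 ((0, 0, 1), 16) (by decide)

theorem Loc4.conj_d9b_pow8 : IsConj ((nf a₁ a₂ a₃ σ d9b) ^ 8) (nf a₁ a₂ a₃ σ d9b) :=
  L.isConj_pow_of_model 8 ((0, 0, 0), 23) (by decide)

set_option maxRecDepth 100000 in
theorem Loc4.not_conj_dw1_d6a : ¬ IsConj (nf a₁ a₂ a₃ σ dw1) (nf a₁ a₂ a₃ σ d6a) :=
  L.not_isConj_of_model 4 (by decide) (by decide) (by decide) (by decide +kernel)

set_option maxRecDepth 100000 in
theorem Loc4.not_conj_dw1_d6b : ¬ IsConj (nf a₁ a₂ a₃ σ dw1) (nf a₁ a₂ a₃ σ d6b) :=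
  L.not_isConj_of_model 4 (by decide) (by decide) (by decide) (by decide +kernel)

set_option maxRecDepth 100000 in
theorem Loc4.not_conj_dw1_d12a : ¬ IsConj (nf a₁ a₂ a₃ σ dw1) (nf a₁ a₂ a₃ σ d12a) :=
  L.not_isConj_of_model 4 (by decide) (by decide) (by decide) (by decide +kernel)

set_option maxRecDepth 100000 in
theorem Loc4.not_conj_dw1_d12b : ¬ IsConj (nf a₁ a₂ a₃ σ dw1) (nf a₁ a₂ a₃ σ d12b) :=
  L.not_isConj_of_model 4 (by decide) (by decide) (by decide) (by decide +kernel)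

set_option maxRecDepth 100000 in
theorem Loc4.not_conj_d9a_dw1 : ¬ IsConj (nf a₁ a₂ a₃ σ d9a) (nf a₁ a₂ a₃ σ dw1) :=
  L.not_isConj_of_model 12 (by decide) (by decide) (by decide) (by decide +kernel)

set_option maxRecDepth 100000 in
theorem Loc4.not_conj_d9b_dw1 : ¬ IsConj (nf a₁ a₂ a₃ σ d9b) (nf a₁ a₂ a₃ σ dw1) :=
  L.not_isConj_of_model 12 (by decide) (by decide) (by decide) (by decide +kernel)

set_option maxRecDepth 100000 in
theorem Loc4.not_conj_dw1_dw2 : ¬ IsConj (nf a₁ a₂ a₃ σ dw1) (nf a₁ a₂ a₃ σ dw2) :=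
  L.not_isConj_of_model 4 (by decide) (by decide) (by decide) (by decide +kernel)

set_option maxRecDepth 100000 in
theorem Loc4.not_conj_dw1_dw3 : ¬ IsConj (nf a₁ a₂ a₃ σ dw1) (nf a₁ a₂ a₃ σ dw3) :=
  L.not_isConj_of_model 4 (by decide) (by decide) (by decide) (by decide +kernel)

set_option maxRecDepth 100000 in
theorem Loc4.not_conj_d6a_d6b : ¬ IsConj (nf a₁ a₂ a₃ σ d6a) (nf a₁ a₂ a₃ σ d6b) :=
  L.not_isConj_of_model 4 (by decide) (by decide) (by decide) (by decide +kernel)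

set_option maxRecDepth 100000 in
theorem Loc4.not_conj_d6a_d12a : ¬ IsConj (nf a₁ a₂ a₃ σ d6a) (nf a₁ a₂ a₃ σ d12a) :=
  L.not_isConj_of_model 4 (by decide) (by decide) (by decide) (by decide +kernel)

set_option maxRecDepth 100000 in
theorem Loc4.not_conj_d6a_d12b : ¬ IsConj (nf a₁ a₂ a₃ σ d6a) (nf a₁ a₂ a₃ σ d12b) :=
  L.not_isConj_of_model 4 (by decide) (by decide) (by decide) (by decide +kernel)

set_option maxRecDepth 100000 in
theorem Loc4.not_conj_d9a_d6a : ¬ IsConj (nf a₁ a₂ a₃ σ d9a) (nf a₁ a₂ a₃ σ d6a) :=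
  L.not_isConj_of_model 12 (by decide) (by decide) (by decide) (by decide +kernel)

set_option maxRecDepth 100000 in
theorem Loc4.not_conj_d9b_d6a : ¬ IsConj (nf a₁ a₂ a₃ σ d9b) (nf a₁ a₂ a₃ σ d6a) :=
  L.not_isConj_of_model 12 (by decide) (by decide) (by decide) (by decide +kernel)

set_option maxRecDepth 100000 in
theorem Loc4.not_conj_d6a_dw2 : ¬ IsConj (nf a₁ a₂ a₃ σ d6a) (nf a₁ a₂ a₃ σ dw2) :=
  L.not_isConj_of_model 4 (by decide) (by decide) (by decide) (by decide +kernel)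

set_option maxRecDepth 100000 in
theorem Loc4.not_conj_d6a_dw3 : ¬ IsConj (nf a₁ a₂ a₃ σ d6a) (nf a₁ a₂ a₃ σ dw3) :=
  L.not_isConj_of_model 4 (by decide) (by decide) (by decide) (by decide +kernel)

set_option maxRecDepth 100000 in
theorem Loc4.not_conj_d6b_d12a : ¬ IsConj (nf a₁ a₂ a₃ σ d6b) (nf a₁ a₂ a₃ σ d12a) :=
  L.not_isConj_of_model 4 (by decide) (by decide) (by decide) (by decide +kernel)

set_option maxRecDepth 100000 in
theorem Loc4.not_conj_d6b_d12b : ¬ IsConj (nf a₁ a₂ a₃ σ d6b) (nf a₁ a₂ a₃ σ d12b) :=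
  L.not_isConj_of_model 4 (by decide) (by decide) (by decide) (by decide +kernel)

set_option maxRecDepth 100000 in
theorem Loc4.not_conj_d9a_d6b : ¬ IsConj (nf a₁ a₂ a₃ σ d9a) (nf a₁ a₂ a₃ σ d6b) :=
  L.not_isConj_of_model 12 (by decide) (by decide) (by decide) (by decide +kernel)

set_option maxRecDepth 100000 in
theorem Loc4.not_conj_d9b_d6b : ¬ IsConj (nf a₁ a₂ a₃ σ d9b) (nf a₁ a₂ a₃ σ d6b) :=
  L.not_isConj_of_model 12 (by decide) (by decide) (by decide) (by decide +kernel)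

set_option maxRecDepth 100000 in
theorem Loc4.not_conj_d6b_dw2 : ¬ IsConj (nf a₁ a₂ a₃ σ d6b) (nf a₁ a₂ a₃ σ dw2) :=
  L.not_isConj_of_model 4 (by decide) (by decide) (by decide) (by decide +kernel)

set_option maxRecDepth 100000 in
theorem Loc4.not_conj_d6b_dw3 : ¬ IsConj (nf a₁ a₂ a₃ σ d6b) (nf a₁ a₂ a₃ σ dw3) :=
  L.not_isConj_of_model 4 (by decide) (by decide) (by decide) (by decide +kernel)

set_option maxRecDepth 100000 in
theorem Loc4.not_conj_d12a_d12b : ¬ IsConj (nf a₁ a₂ a₃ σ d12a) (nf a₁ a₂ a₃ σ d12b) :=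
  L.not_isConj_of_model 4 (by decide) (by decide) (by decide) (by decide +kernel)

set_option maxRecDepth 100000 in
theorem Loc4.not_conj_d9a_d12a : ¬ IsConj (nf a₁ a₂ a₃ σ d9a) (nf a₁ a₂ a₃ σ d12a) :=
  L.not_isConj_of_model 12 (by decide) (by decide) (by decide) (by decide +kernel)

set_option maxRecDepth 100000 in
theorem Loc4.not_conj_d9b_d12a : ¬ IsConj (nf a₁ a₂ a₃ σ d9b) (nf a₁ a₂ a₃ σ d12a) :=
  L.not_isConj_of_model 12 (by decide) (by decide) (by decide) (by decide +kernel)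

set_option maxRecDepth 100000 in
theorem Loc4.not_conj_d12a_dw2 : ¬ IsConj (nf a₁ a₂ a₃ σ d12a) (nf a₁ a₂ a₃ σ dw2) :=
  L.not_isConj_of_model 4 (by decide) (by decide) (by decide) (by decide +kernel)

set_option maxRecDepth 100000 in
theorem Loc4.not_conj_d12a_dw3 : ¬ IsConj (nf a₁ a₂ a₃ σ d12a) (nf a₁ a₂ a₃ σ dw3) :=
  L.not_isConj_of_model 4 (by decide) (by decide) (by decide) (by decide +kernel)

set_option maxRecDepth 100000 in
theorem Loc4.not_conj_d9a_d12b : ¬ IsConj (nf a₁ a₂ a₃ σ d9a) (nf a₁ a₂ a₃ σ d12b) :=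
  L.not_isConj_of_model 12 (by decide) (by decide) (by decide) (by decide +kernel)

set_option maxRecDepth 100000 in
theorem Loc4.not_conj_d9b_d12b : ¬ IsConj (nf a₁ a₂ a₃ σ d9b) (nf a₁ a₂ a₃ σ d12b) :=
  L.not_isConj_of_model 12 (by decide) (by decide) (by decide) (by decide +kernel)

set_option maxRecDepth 100000 in
theorem Loc4.not_conj_d12b_dw2 : ¬ IsConj (nf a₁ a₂ a₃ σ d12b) (nf a₁ a₂ a₃ σ dw2) :=
  L.not_isConj_of_model 4 (by decide) (by decide) (by decide) (by decide +kernel)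

set_option maxRecDepth 100000 in
theorem Loc4.not_conj_d12b_dw3 : ¬ IsConj (nf a₁ a₂ a₃ σ d12b) (nf a₁ a₂ a₃ σ dw3) :=
  L.not_isConj_of_model 4 (by decide) (by decide) (by decide) (by decide +kernel)

set_option maxRecDepth 100000 in
theorem Loc4.not_conj_d9a_d9b : ¬ IsConj (nf a₁ a₂ a₃ σ d9a) (nf a₁ a₂ a₃ σ d9b) :=
  L.not_isConj_of_model 3 (by decide) (by decide) (by decide) (by decide +kernel)

set_option maxRecDepth 100000 in
theorem Loc4.not_conj_d9a_dw2 : ¬ IsConj (nf a₁ a₂ a₃ σ d9a) (nf a₁ a₂ a₃ σ dw2) :=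
  L.not_isConj_of_model 12 (by decide) (by decide) (by decide) (by decide +kernel)

set_option maxRecDepth 100000 in
theorem Loc4.not_conj_d9a_dw3 : ¬ IsConj (nf a₁ a₂ a₃ σ d9a) (nf a₁ a₂ a₃ σ dw3) :=
  L.not_isConj_of_model 12 (by decide) (by decide) (by decide) (by decide +kernel)

set_option maxRecDepth 100000 in
theorem Loc4.not_conj_d9b_dw2 : ¬ IsConj (nf a₁ a₂ a₃ σ d9b) (nf a₁ a₂ a₃ σ dw2) :=
  L.not_isConj_of_model 12 (by decide) (by decide) (by decide) (by decide +kernel)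

set_option maxRecDepth 100000 in
theorem Loc4.not_conj_d9b_dw3 : ¬ IsConj (nf a₁ a₂ a₃ σ d9b) (nf a₁ a₂ a₃ σ dw3) :=
  L.not_isConj_of_model 12 (by decide) (by decide) (by decide) (by decide +kernel)

set_option maxRecDepth 100000 in
theorem Loc4.not_conj_dw2_dw3 : ¬ IsConj (nf a₁ a₂ a₃ σ dw2) (nf a₁ a₂ a₃ σ dw3) :=
  L.not_isConj_of_model 4 (by decide) (by decide) (by decide) (by decide +kernel)


end loc

end Cfsg.Agent.Lib.Helper2.Emb4
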