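import Mathlib
import Cfsg.Agent.Lib.Helper2.Emb4C
import Cfsg.Agent.Lib.Helper2.Emb3E

/-! # Restriction of characters of `G` to `J ≅ F_3^3` in the `3^3 : S_4` configuration -/

set_option autoImplicit false
set_option linter.style.haveILetI false
set_option linter.unusedSectionVars false
open Cfsg

namespace Cfsg.Agent.Lib.Helper2.Emb4

open scoped ComplexConjugate
open Cfsg.Agent.Lib.Helper6
open Cfsg.Agent.Lib.Helper2.Emb3 (V phi phi_zero three_nsmul om om_rel om_cube conj_om chi3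
  chi3_zero chi3_one chi3_two dot sumV lamHom omU conj_om_pow)

/-- class functions are constant on conjugacy classes -/
theorem chi_of_isConj {G : Type*} [Group G] [Fintype G] {χ : G → ℂ} (hχ : Cfsg.IsCharacter G χ)
    {x y : G} (h : IsConj x y) : χ x = χ y := by
  obtain ⟨c, hc⟩ := isConj_iff.mp h
  rw [← hc]
  exact (IsCharacter.isClassFunction hχ x c).symm

theorem fourier4_000 (F : V → ℂ) (hF : ∀ (k : Fin 24) (v : V), F (act k v) = F v) :
    ∑ v : V, F v * chi3 (dot (0, 0, 0) v) = (1 : ℂ) * F (0, 0, 0) + (6 : ℂ) * F (0, 0, 1) + (12 : ℂ) * F (0, 1, 1) + (8 : ℂ) * F (1, 1, 1) := by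
  have f002 : F (0, 0, 2) = F (0, 0, 1) := by
    rw [show ((0, 0, 2) : V) = act 1 (0, 0, 1) by decide]; exact hF _ _
  have f010 : F (0, 1, 0) = F (0, 0, 1) := by
    rw [show ((0, 1, 0) : V) = act 4 (0, 0, 1) by decide]; exact hF _ _
  have f012 : F (0, 1, 2) = F (0, 1, 1) := by
    rw [show ((0, 1, 2) : V) = act 2 (0, 1, 1) by decide]; exact hF _ _
  have f020 : F (0, 2, 0) = F (0, 0, 1) := by
    rw [show ((0, 2, 0) : V) = act 5 (0, 0, 1) by decide]; exact hF _ _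
  have f021 : F (0, 2, 1) = F (0, 1, 1) := by
    rw [show ((0, 2, 1) : V) = act 3 (0, 1, 1) by decide]; exact hF _ _
  have f022 : F (0, 2, 2) = F (0, 1, 1) := by
    rw [show ((0, 2, 2) : V) = act 1 (0, 1, 1) by decide]; exact hF _ _
  have f100 : F (1, 0, 0) = F (0, 0, 1) := by
    rw [show ((1, 0, 0) : V) = act 16 (0, 0, 1) by decide]; exact hF _ _
  have f101 : F (1, 0, 1) = F (0, 1, 1) := by
    rw [show ((1, 0, 1) : V) = act 9 (0, 1, 1) by decide]; exact hF _ _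
  have f102 : F (1, 0, 2) = F (0, 1, 1) := by
    rw [show ((1, 0, 2) : V) = act 8 (0, 1, 1) by decide]; exact hF _ _
  have f110 : F (1, 1, 0) = F (0, 1, 1) := by
    rw [show ((1, 1, 0) : V) = act 12 (0, 1, 1) by decide]; exact hF _ _
  have f112 : F (1, 1, 2) = F (1, 1, 1) := by
    rw [show ((1, 1, 2) : V) = act 4 (1, 1, 1) by decide]; exact hF _ _
  have f120 : F (1, 2, 0) = F (0, 1, 1) := by
    rw [show ((1, 2, 0) : V) = act 13 (0, 1, 1) by decide]; exact hF _ _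
  have f121 : F (1, 2, 1) = F (1, 1, 1) := by
    rw [show ((1, 2, 1) : V) = act 5 (1, 1, 1) by decide]; exact hF _ _
  have f122 : F (1, 2, 2) = F (1, 1, 1) := by
    rw [show ((1, 2, 2) : V) = act 1 (1, 1, 1) by decide]; exact hF _ _
  have f200 : F (2, 0, 0) = F (0, 0, 1) := by
    rw [show ((2, 0, 0) : V) = act 18 (0, 0, 1) by decide]; exact hF _ _
  have f201 : F (2, 0, 1) = F (0, 1, 1) := by
    rw [show ((2, 0, 1) : V) = act 10 (0, 1, 1) by decide]; exact hF _ _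
  have f202 : F (2, 0, 2) = F (0, 1, 1) := by
    rw [show ((2, 0, 2) : V) = act 11 (0, 1, 1) by decide]; exact hF _ _
  have f210 : F (2, 1, 0) = F (0, 1, 1) := by
    rw [show ((2, 1, 0) : V) = act 14 (0, 1, 1) by decide]; exact hF _ _
  have f211 : F (2, 1, 1) = F (1, 1, 1) := by
    rw [show ((2, 1, 1) : V) = act 6 (1, 1, 1) by decide]; exact hF _ _
  have f212 : F (2, 1, 2) = F (1, 1, 1) := by
    rw [show ((2, 1, 2) : V) = act 2 (1, 1, 1) by decide]; exact hF _ _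
  have f220 : F (2, 2, 0) = F (0, 1, 1) := by
    rw [show ((2, 2, 0) : V) = act 15 (0, 1, 1) by decide]; exact hF _ _
  have f221 : F (2, 2, 1) = F (1, 1, 1) := by
    rw [show ((2, 2, 1) : V) = act 3 (1, 1, 1) by decide]; exact hF _ _
  have f222 : F (2, 2, 2) = F (1, 1, 1) := by
    rw [show ((2, 2, 2) : V) = act 7 (1, 1, 1) by decide]; exact hF _ _
  have d000 : dot (0, 0, 0) (0, 0, 0) = 0 := by decide
  have d001 : dot (0, 0, 0) (0, 0, 1) = 0 := by decide
  have d002 : dot (0, 0, 0) (0, 0, 2) = 0 := by decide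
  have d010 : dot (0, 0, 0) (0, 1, 0) = 0 := by decide
  have d011 : dot (0, 0, 0) (0, 1, 1) = 0 := by decide
  have d012 : dot (0, 0, 0) (0, 1, 2) = 0 := by decide
  have d020 : dot (0, 0, 0) (0, 2, 0) = 0 := by decide
  have d021 : dot (0, 0, 0) (0, 2, 1) = 0 := by decide
  have d022 : dot (0, 0, 0) (0, 2, 2) = 0 := by decide
  have d100 : dot (0, 0, 0) (1, 0, 0) = 0 := by decide
  have d101 : dot (0, 0, 0) (1, 0, 1) = 0 := by decide
  have d102 : dot (0, 0, 0) (1, 0, 2) = 0 := by decide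
  have d110 : dot (0, 0, 0) (1, 1, 0) = 0 := by decide
  have d111 : dot (0, 0, 0) (1, 1, 1) = 0 := by decide
  have d112 : dot (0, 0, 0) (1, 1, 2) = 0 := by decide
  have d120 : dot (0, 0, 0) (1, 2, 0) = 0 := by decide
  have d121 : dot (0, 0, 0) (1, 2, 1) = 0 := by decide
  have d122 : dot (0, 0, 0) (1, 2, 2) = 0 := by decide
  have d200 : dot (0, 0, 0) (2, 0, 0) = 0 := by decide
  have d201 : dot (0, 0, 0) (2, 0, 1) = 0 := by decide
  have d202 : dot (0, 0, 0) (2, 0, 2) = 0 := by decide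
  have d210 : dot (0, 0, 0) (2, 1, 0) = 0 := by decide
  have d211 : dot (0, 0, 0) (2, 1, 1) = 0 := by decide
  have d212 : dot (0, 0, 0) (2, 1, 2) = 0 := by decide
  have d220 : dot (0, 0, 0) (2, 2, 0) = 0 := by decide
  have d221 : dot (0, 0, 0) (2, 2, 1) = 0 := by decide
  have d222 : dot (0, 0, 0) (2, 2, 2) = 0 := by decide
  rw [sumV]
  simp only [d000, d001, d002, d010, d011, d012, d020, d021, d022, d100, d101, d102, d110, d111, d112, d120, d121, d122, d200, d201, d202, d210, d211, d212, d220, d221, d222]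
  simp only [f002, f010, f012, f020, f021, f022, f100, f101, f102, f110, f112, f120, f121, f122, f200, f201, f202, f210, f211, f212, f220, f221, f222, chi3_zero, chi3_one, chi3_two]
  linear_combination ((0 : ℂ) * F (0, 0, 0) + (0 : ℂ) * F (0, 0, 1) + (0 : ℂ) * F (0, 1, 1) + (0 : ℂ) * F (1, 1, 1)) * om_rel

theorem fourier4_100 (F : V → ℂ) (hF : ∀ (k : Fin 24) (v : V), F (act k v) = F v) :
    ∑ v : V, F v * chi3 (dot (1, 0, 0) v) = (1 : ℂ) * F (0, 0, 0) + (3 : ℂ) * F (0, 0, 1) + (0 : ℂ) * F (0, 1, 1) + (-4 : ℂ) * F (1, 1, 1) := by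
  have f002 : F (0, 0, 2) = F (0, 0, 1) := by
    rw [show ((0, 0, 2) : V) = act 1 (0, 0, 1) by decide]; exact hF _ _
  have f010 : F (0, 1, 0) = F (0, 0, 1) := by
    rw [show ((0, 1, 0) : V) = act 4 (0, 0, 1) by decide]; exact hF _ _
  have f012 : F (0, 1, 2) = F (0, 1, 1) := by
    rw [show ((0, 1, 2) : V) = act 2 (0, 1, 1) by decide]; exact hF _ _
  have f020 : F (0, 2, 0) = F (0, 0, 1) := by
    rw [show ((0, 2, 0) : V) = act 5 (0, 0, 1) by decide]; exact hF _ _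
  have f021 : F (0, 2, 1) = F (0, 1, 1) := by
    rw [show ((0, 2, 1) : V) = act 3 (0, 1, 1) by decide]; exact hF _ _
  have f022 : F (0, 2, 2) = F (0, 1, 1) := by
    rw [show ((0, 2, 2) : V) = act 1 (0, 1, 1) by decide]; exact hF _ _
  have f100 : F (1, 0, 0) = F (0, 0, 1) := by
    rw [show ((1, 0, 0) : V) = act 16 (0, 0, 1) by decide]; exact hF _ _
  have f101 : F (1, 0, 1) = F (0, 1, 1) := by
    rw [show ((1, 0, 1) : V) = act 9 (0, 1, 1) by decide]; exact hF _ _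
  have f102 : F (1, 0, 2) = F (0, 1, 1) := by
    rw [show ((1, 0, 2) : V) = act 8 (0, 1, 1) by decide]; exact hF _ _
  have f110 : F (1, 1, 0) = F (0, 1, 1) := by
    rw [show ((1, 1, 0) : V) = act 12 (0, 1, 1) by decide]; exact hF _ _
  have f112 : F (1, 1, 2) = F (1, 1, 1) := by
    rw [show ((1, 1, 2) : V) = act 4 (1, 1, 1) by decide]; exact hF _ _
  have f120 : F (1, 2, 0) = F (0, 1, 1) := by
    rw [show ((1, 2, 0) : V) = act 13 (0, 1, 1) by decide]; exact hF _ _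
  have f121 : F (1, 2, 1) = F (1, 1, 1) := by
    rw [show ((1, 2, 1) : V) = act 5 (1, 1, 1) by decide]; exact hF _ _
  have f122 : F (1, 2, 2) = F (1, 1, 1) := by
    rw [show ((1, 2, 2) : V) = act 1 (1, 1, 1) by decide]; exact hF _ _
  have f200 : F (2, 0, 0) = F (0, 0, 1) := by
    rw [show ((2, 0, 0) : V) = act 18 (0, 0, 1) by decide]; exact hF _ _
  have f201 : F (2, 0, 1) = F (0, 1, 1) := by
    rw [show ((2, 0, 1) : V) = act 10 (0, 1, 1) by decide]; exact hF _ _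
  have f202 : F (2, 0, 2) = F (0, 1, 1) := by
    rw [show ((2, 0, 2) : V) = act 11 (0, 1, 1) by decide]; exact hF _ _
  have f210 : F (2, 1, 0) = F (0, 1, 1) := by
    rw [show ((2, 1, 0) : V) = act 14 (0, 1, 1) by decide]; exact hF _ _
  have f211 : F (2, 1, 1) = F (1, 1, 1) := by
    rw [show ((2, 1, 1) : V) = act 6 (1, 1, 1) by decide]; exact hF _ _
  have f212 : F (2, 1, 2) = F (1, 1, 1) := by
    rw [show ((2, 1, 2) : V) = act 2 (1, 1, 1) by decide]; exact hF _ _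
  have f220 : F (2, 2, 0) = F (0, 1, 1) := by
    rw [show ((2, 2, 0) : V) = act 15 (0, 1, 1) by decide]; exact hF _ _
  have f221 : F (2, 2, 1) = F (1, 1, 1) := by
    rw [show ((2, 2, 1) : V) = act 3 (1, 1, 1) by decide]; exact hF _ _
  have f222 : F (2, 2, 2) = F (1, 1, 1) := by
    rw [show ((2, 2, 2) : V) = act 7 (1, 1, 1) by decide]; exact hF _ _
  have d000 : dot (1, 0, 0) (0, 0, 0) = 0 := by decide
  have d001 : dot (1, 0, 0) (0, 0, 1) = 0 := by decide
  have d002 : dot (1, 0, 0) (0, 0, 2) = 0 := by decide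
  have d010 : dot (1, 0, 0) (0, 1, 0) = 0 := by decide
  have d011 : dot (1, 0, 0) (0, 1, 1) = 0 := by decide
  have d012 : dot (1, 0, 0) (0, 1, 2) = 0 := by decide
  have d020 : dot (1, 0, 0) (0, 2, 0) = 0 := by decide
  have d021 : dot (1, 0, 0) (0, 2, 1) = 0 := by decide
  have d022 : dot (1, 0, 0) (0, 2, 2) = 0 := by decide
  have d100 : dot (1, 0, 0) (1, 0, 0) = 1 := by decide
  have d101 : dot (1, 0, 0) (1, 0, 1) = 1 := by decide
  have d102 : dot (1, 0, 0) (1, 0, 2) = 1 := by decide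
  have d110 : dot (1, 0, 0) (1, 1, 0) = 1 := by decide
  have d111 : dot (1, 0, 0) (1, 1, 1) = 1 := by decide
  have d112 : dot (1, 0, 0) (1, 1, 2) = 1 := by decide
  have d120 : dot (1, 0, 0) (1, 2, 0) = 1 := by decide
  have d121 : dot (1, 0, 0) (1, 2, 1) = 1 := by decide
  have d122 : dot (1, 0, 0) (1, 2, 2) = 1 := by decide
  have d200 : dot (1, 0, 0) (2, 0, 0) = 2 := by decide
  have d201 : dot (1, 0, 0) (2, 0, 1) = 2 := by decide
  have d202 : dot (1, 0, 0) (2, 0, 2) = 2 := by decide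
  have d210 : dot (1, 0, 0) (2, 1, 0) = 2 := by decide
  have d211 : dot (1, 0, 0) (2, 1, 1) = 2 := by decide
  have d212 : dot (1, 0, 0) (2, 1, 2) = 2 := by decide
  have d220 : dot (1, 0, 0) (2, 2, 0) = 2 := by decide
  have d221 : dot (1, 0, 0) (2, 2, 1) = 2 := by decide
  have d222 : dot (1, 0, 0) (2, 2, 2) = 2 := by decide
  rw [sumV]
  simp only [d000, d001, d002, d010, d011, d012, d020, d021, d022, d100, d101, d102, d110, d111, d112, d120, d121, d122, d200, d201, d202, d210, d211, d212, d220, d221, d222]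
  simp only [f002, f010, f012, f020, f021, f022, f100, f101, f102, f110, f112, f120, f121, f122, f200, f201, f202, f210, f211, f212, f220, f221, f222, chi3_zero, chi3_one, chi3_two]
  linear_combination ((0 : ℂ) * F (0, 0, 0) + (1 : ℂ) * F (0, 0, 1) + (4 : ℂ) * F (0, 1, 1) + (4 : ℂ) * F (1, 1, 1)) * om_rel

theorem fourier4_110 (F : V → ℂ) (hF : ∀ (k : Fin 24) (v : V), F (act k v) = F v) :
    ∑ v : V, F v * chi3 (dot (1, 1, 0) v) = (1 : ℂ) * F (0, 0, 0) + (0 : ℂ) * F (0, 0, 1) + (-3 : ℂ) * F (0, 1, 1) + (2 : ℂ) * F (1, 1, 1) := by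
  have f002 : F (0, 0, 2) = F (0, 0, 1) := by
    rw [show ((0, 0, 2) : V) = act 1 (0, 0, 1) by decide]; exact hF _ _
  have f010 : F (0, 1, 0) = F (0, 0, 1) := by
    rw [show ((0, 1, 0) : V) = act 4 (0, 0, 1) by decide]; exact hF _ _
  have f012 : F (0, 1, 2) = F (0, 1, 1) := by
    rw [show ((0, 1, 2) : V) = act 2 (0, 1, 1) by decide]; exact hF _ _
  have f020 : F (0, 2, 0) = F (0, 0, 1) := by
    rw [show ((0, 2, 0) : V) = act 5 (0, 0, 1) by decide]; exact hF _ _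
  have f021 : F (0, 2, 1) = F (0, 1, 1) := by
    rw [show ((0, 2, 1) : V) = act 3 (0, 1, 1) by decide]; exact hF _ _
  have f022 : F (0, 2, 2) = F (0, 1, 1) := by
    rw [show ((0, 2, 2) : V) = act 1 (0, 1, 1) by decide]; exact hF _ _
  have f100 : F (1, 0, 0) = F (0, 0, 1) := by
    rw [show ((1, 0, 0) : V) = act 16 (0, 0, 1) by decide]; exact hF _ _
  have f101 : F (1, 0, 1) = F (0, 1, 1) := by
    rw [show ((1, 0, 1) : V) = act 9 (0, 1, 1) by decide]; exact hF _ _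
  have f102 : F (1, 0, 2) = F (0, 1, 1) := by
    rw [show ((1, 0, 2) : V) = act 8 (0, 1, 1) by decide]; exact hF _ _
  have f110 : F (1, 1, 0) = F (0, 1, 1) := by
    rw [show ((1, 1, 0) : V) = act 12 (0, 1, 1) by decide]; exact hF _ _
  have f112 : F (1, 1, 2) = F (1, 1, 1) := by
    rw [show ((1, 1, 2) : V) = act 4 (1, 1, 1) by decide]; exact hF _ _
  have f120 : F (1, 2, 0) = F (0, 1, 1) := by
    rw [show ((1, 2, 0) : V) = act 13 (0, 1, 1) by decide]; exact hF _ _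
  have f121 : F (1, 2, 1) = F (1, 1, 1) := by
    rw [show ((1, 2, 1) : V) = act 5 (1, 1, 1) by decide]; exact hF _ _
  have f122 : F (1, 2, 2) = F (1, 1, 1) := by
    rw [show ((1, 2, 2) : V) = act 1 (1, 1, 1) by decide]; exact hF _ _
  have f200 : F (2, 0, 0) = F (0, 0, 1) := by
    rw [show ((2, 0, 0) : V) = act 18 (0, 0, 1) by decide]; exact hF _ _
  have f201 : F (2, 0, 1) = F (0, 1, 1) := by
    rw [show ((2, 0, 1) : V) = act 10 (0, 1, 1) by decide]; exact hF _ _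
  have f202 : F (2, 0, 2) = F (0, 1, 1) := by
    rw [show ((2, 0, 2) : V) = act 11 (0, 1, 1) by decide]; exact hF _ _
  have f210 : F (2, 1, 0) = F (0, 1, 1) := by
    rw [show ((2, 1, 0) : V) = act 14 (0, 1, 1) by decide]; exact hF _ _
  have f211 : F (2, 1, 1) = F (1, 1, 1) := by
    rw [show ((2, 1, 1) : V) = act 6 (1, 1, 1) by decide]; exact hF _ _
  have f212 : F (2, 1, 2) = F (1, 1, 1) := by
    rw [show ((2, 1, 2) : V) = act 2 (1, 1, 1) by decide]; exact hF _ _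
  have f220 : F (2, 2, 0) = F (0, 1, 1) := by
    rw [show ((2, 2, 0) : V) = act 15 (0, 1, 1) by decide]; exact hF _ _
  have f221 : F (2, 2, 1) = F (1, 1, 1) := by
    rw [show ((2, 2, 1) : V) = act 3 (1, 1, 1) by decide]; exact hF _ _
  have f222 : F (2, 2, 2) = F (1, 1, 1) := by
    rw [show ((2, 2, 2) : V) = act 7 (1, 1, 1) by decide]; exact hF _ _
  have d000 : dot (1, 1, 0) (0, 0, 0) = 0 := by decide
  have d001 : dot (1, 1, 0) (0, 0, 1) = 0 := by decide
  have d002 : dot (1, 1, 0) (0, 0, 2) = 0 := by decide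
  have d010 : dot (1, 1, 0) (0, 1, 0) = 1 := by decide
  have d011 : dot (1, 1, 0) (0, 1, 1) = 1 := by decide
  have d012 : dot (1, 1, 0) (0, 1, 2) = 1 := by decide
  have d020 : dot (1, 1, 0) (0, 2, 0) = 2 := by decide
  have d021 : dot (1, 1, 0) (0, 2, 1) = 2 := by decide
  have d022 : dot (1, 1, 0) (0, 2, 2) = 2 := by decide
  have d100 : dot (1, 1, 0) (1, 0, 0) = 1 := by decide
  have d101 : dot (1, 1, 0) (1, 0, 1) = 1 := by decide
  have d102 : dot (1, 1, 0) (1, 0, 2) = 1 := by decide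
  have d110 : dot (1, 1, 0) (1, 1, 0) = 2 := by decide
  have d111 : dot (1, 1, 0) (1, 1, 1) = 2 := by decide
  have d112 : dot (1, 1, 0) (1, 1, 2) = 2 := by decide
  have d120 : dot (1, 1, 0) (1, 2, 0) = 0 := by decide
  have d121 : dot (1, 1, 0) (1, 2, 1) = 0 := by decide
  have d122 : dot (1, 1, 0) (1, 2, 2) = 0 := by decide
  have d200 : dot (1, 1, 0) (2, 0, 0) = 2 := by decide
  have d201 : dot (1, 1, 0) (2, 0, 1) = 2 := by decide
  have d202 : dot (1, 1, 0) (2, 0, 2) = 2 := by decide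
  have d210 : dot (1, 1, 0) (2, 1, 0) = 0 := by decide
  have d211 : dot (1, 1, 0) (2, 1, 1) = 0 := by decide
  have d212 : dot (1, 1, 0) (2, 1, 2) = 0 := by decide
  have d220 : dot (1, 1, 0) (2, 2, 0) = 1 := by decide
  have d221 : dot (1, 1, 0) (2, 2, 1) = 1 := by decide
  have d222 : dot (1, 1, 0) (2, 2, 2) = 1 := by decide
  rw [sumV]
  simp only [d000, d001, d002, d010, d011, d012, d020, d021, d022, d100, d101, d102, d110, d111, d112, d120, d121, d122, d200, d201, d202, d210, d211, d212, d220, d221, d222]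
  simp only [f002, f010, f012, f020, f021, f022, f100, f101, f102, f110, f112, f120, f121, f122, f200, f201, f202, f210, f211, f212, f220, f221, f222, chi3_zero, chi3_one, chi3_two]
  linear_combination ((0 : ℂ) * F (0, 0, 0) + (2 : ℂ) * F (0, 0, 1) + (5 : ℂ) * F (0, 1, 1) + (2 : ℂ) * F (1, 1, 1)) * om_rel

theorem fourier4_111 (F : V → ℂ) (hF : ∀ (k : Fin 24) (v : V), F (act k v) = F v) :
    ∑ v : V, F v * chi3 (dot (1, 1, 1) v) = (1 : ℂ) * F (0, 0, 0) + (-3 : ℂ) * F (0, 0, 1) + (3 : ℂ) * F (0, 1, 1) + (-1 : ℂ) * F (1, 1, 1) := by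
  have f002 : F (0, 0, 2) = F (0, 0, 1) := by
    rw [show ((0, 0, 2) : V) = act 1 (0, 0, 1) by decide]; exact hF _ _
  have f010 : F (0, 1, 0) = F (0, 0, 1) := by
    rw [show ((0, 1, 0) : V) = act 4 (0, 0, 1) by decide]; exact hF _ _
  have f012 : F (0, 1, 2) = F (0, 1, 1) := by
    rw [show ((0, 1, 2) : V) = act 2 (0, 1, 1) by decide]; exact hF _ _
  have f020 : F (0, 2, 0) = F (0, 0, 1) := by
    rw [show ((0, 2, 0) : V) = act 5 (0, 0, 1) by decide]; exact hF _ _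
  have f021 : F (0, 2, 1) = F (0, 1, 1) := by
    rw [show ((0, 2, 1) : V) = act 3 (0, 1, 1) by decide]; exact hF _ _
  have f022 : F (0, 2, 2) = F (0, 1, 1) := by
    rw [show ((0, 2, 2) : V) = act 1 (0, 1, 1) by decide]; exact hF _ _
  have f100 : F (1, 0, 0) = F (0, 0, 1) := by
    rw [show ((1, 0, 0) : V) = act 16 (0, 0, 1) by decide]; exact hF _ _
  have f101 : F (1, 0, 1) = F (0, 1, 1) := by
    rw [show ((1, 0, 1) : V) = act 9 (0, 1, 1) by decide]; exact hF _ _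
  have f102 : F (1, 0, 2) = F (0, 1, 1) := by
    rw [show ((1, 0, 2) : V) = act 8 (0, 1, 1) by decide]; exact hF _ _
  have f110 : F (1, 1, 0) = F (0, 1, 1) := by
    rw [show ((1, 1, 0) : V) = act 12 (0, 1, 1) by decide]; exact hF _ _
  have f112 : F (1, 1, 2) = F (1, 1, 1) := by
    rw [show ((1, 1, 2) : V) = act 4 (1, 1, 1) by decide]; exact hF _ _
  have f120 : F (1, 2, 0) = F (0, 1, 1) := by
    rw [show ((1, 2, 0) : V) = act 13 (0, 1, 1) by decide]; exact hF _ _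
  have f121 : F (1, 2, 1) = F (1, 1, 1) := by
    rw [show ((1, 2, 1) : V) = act 5 (1, 1, 1) by decide]; exact hF _ _
  have f122 : F (1, 2, 2) = F (1, 1, 1) := by
    rw [show ((1, 2, 2) : V) = act 1 (1, 1, 1) by decide]; exact hF _ _
  have f200 : F (2, 0, 0) = F (0, 0, 1) := by
    rw [show ((2, 0, 0) : V) = act 18 (0, 0, 1) by decide]; exact hF _ _
  have f201 : F (2, 0, 1) = F (0, 1, 1) := by
    rw [show ((2, 0, 1) : V) = act 10 (0, 1, 1) by decide]; exact hF _ _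
  have f202 : F (2, 0, 2) = F (0, 1, 1) := by
    rw [show ((2, 0, 2) : V) = act 11 (0, 1, 1) by decide]; exact hF _ _
  have f210 : F (2, 1, 0) = F (0, 1, 1) := by
    rw [show ((2, 1, 0) : V) = act 14 (0, 1, 1) by decide]; exact hF _ _
  have f211 : F (2, 1, 1) = F (1, 1, 1) := by
    rw [show ((2, 1, 1) : V) = act 6 (1, 1, 1) by decide]; exact hF _ _
  have f212 : F (2, 1, 2) = F (1, 1, 1) := by
    rw [show ((2, 1, 2) : V) = act 2 (1, 1, 1) by decide]; exact hF _ _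
  have f220 : F (2, 2, 0) = F (0, 1, 1) := by
    rw [show ((2, 2, 0) : V) = act 15 (0, 1, 1) by decide]; exact hF _ _
  have f221 : F (2, 2, 1) = F (1, 1, 1) := by
    rw [show ((2, 2, 1) : V) = act 3 (1, 1, 1) by decide]; exact hF _ _
  have f222 : F (2, 2, 2) = F (1, 1, 1) := by
    rw [show ((2, 2, 2) : V) = act 7 (1, 1, 1) by decide]; exact hF _ _
  have d000 : dot (1, 1, 1) (0, 0, 0) = 0 := by decide
  have d001 : dot (1, 1, 1) (0, 0, 1) = 1 := by decide
  have d002 : dot (1, 1, 1) (0, 0, 2) = 2 := by decide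
  have d010 : dot (1, 1, 1) (0, 1, 0) = 1 := by decide
  have d011 : dot (1, 1, 1) (0, 1, 1) = 2 := by decide
  have d012 : dot (1, 1, 1) (0, 1, 2) = 0 := by decide
  have d020 : dot (1, 1, 1) (0, 2, 0) = 2 := by decide
  have d021 : dot (1, 1, 1) (0, 2, 1) = 0 := by decide
  have d022 : dot (1, 1, 1) (0, 2, 2) = 1 := by decide
  have d100 : dot (1, 1, 1) (1, 0, 0) = 1 := by decide
  have d101 : dot (1, 1, 1) (1, 0, 1) = 2 := by decide
  have d102 : dot (1, 1, 1) (1, 0, 2) = 0 := by decide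
  have d110 : dot (1, 1, 1) (1, 1, 0) = 2 := by decide
  have d111 : dot (1, 1, 1) (1, 1, 1) = 0 := by decide
  have d112 : dot (1, 1, 1) (1, 1, 2) = 1 := by decide
  have d120 : dot (1, 1, 1) (1, 2, 0) = 0 := by decide
  have d121 : dot (1, 1, 1) (1, 2, 1) = 1 := by decide
  have d122 : dot (1, 1, 1) (1, 2, 2) = 2 := by decide
  have d200 : dot (1, 1, 1) (2, 0, 0) = 2 := by decide
  have d201 : dot (1, 1, 1) (2, 0, 1) = 0 := by decide
  have d202 : dot (1, 1, 1) (2, 0, 2) = 1 := by decide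
  have d210 : dot (1, 1, 1) (2, 1, 0) = 0 := by decide
  have d211 : dot (1, 1, 1) (2, 1, 1) = 1 := by decide
  have d212 : dot (1, 1, 1) (2, 1, 2) = 2 := by decide
  have d220 : dot (1, 1, 1) (2, 2, 0) = 1 := by decide
  have d221 : dot (1, 1, 1) (2, 2, 1) = 2 := by decide
  have d222 : dot (1, 1, 1) (2, 2, 2) = 0 := by decide
  rw [sumV]
  simp only [d000, d001, d002, d010, d011, d012, d020, d021, d022, d100, d101, d102, d110, d111, d112, d120, d121, d122, d200, d201, d202, d210, d211, d212, d220, d221, d222]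
  simp only [f002, f010, f012, f020, f021, f022, f100, f101, f102, f110, f112, f120, f121, f122, f200, f201, f202, f210, f211, f212, f220, f221, f222, chi3_zero, chi3_one, chi3_two]
  linear_combination ((0 : ℂ) * F (0, 0, 0) + (3 : ℂ) * F (0, 0, 1) + (3 : ℂ) * F (0, 1, 1) + (3 : ℂ) * F (1, 1, 1)) * om_rel

section loc

variable {G : Type*} [Group G] [Fintype G] {J H : Subgroup G} {a₁ a₂ a₃ : G} {σ : Fin 24 → G}
variable (L : Loc4 J H a₁ a₂ a₃ σ)
include L

/-- characters are invariant under the rotations -/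
theorem Loc4.char_act {χ : G → ℂ} (hχ : Cfsg.IsCharacter G χ) (k : Fin 24) (v : V) :
    χ (phi a₁ a₂ a₃ (act k v)) = χ (phi a₁ a₂ a₃ v) := by
  rw [← L.conj k v]
  exact IsCharacter.isClassFunction hχ _ _

/-- the parametrisation of `J` as a homomorphism -/
def Loc4.phiHom : Multiplicative V →* G where
  toFun g := phi a₁ a₂ a₃ (Multiplicative.toAdd g)
  map_one' := by simp [phi_zero]
  map_mul' g h := by rw [toAdd_mul, L.mul]

/-- the multiplicity of the linear character `l` of `J` in a character of `G` -/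
theorem Loc4.mult_exists {χ : G → ℂ} (hχ : Cfsg.IsCharacter G χ) (l : V) :
    ∃ n : ℕ, ∑ v : V, χ (phi a₁ a₂ a₃ v) * chi3 (dot l v) = 27 * (n : ℂ) := by
  classical
  have h1 : Cfsg.IsCharacter (Multiplicative V) (fun g => χ (L.phiHom g)) :=
    IsCharacter.comp L.phiHom hχ
  have h2 : Cfsg.IsCharacter (Multiplicative V) (fun g => ((lamHom l g : ℂˣ) : ℂ)) :=
    IsIrrCharacter.isCharacter (isIrrCharacter_of_hom (lamHom l))
  obtain ⟨n, hn⟩ := IsCharacter.classInner_nat h1 h2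
  refine ⟨n, ?_⟩
  rw [Cfsg.classInner] at hn
  have hc : (Nat.card (Multiplicative V) : ℂ) = 27 := by
    rw [Nat.card_eq_fintype_card]
    have : Fintype.card (Multiplicative V) = 27 := by decide
    rw [this]; norm_num
  rw [hc] at hn
  have h3 : ∑ g : Multiplicative V, χ (L.phiHom g) * conj ((lamHom l g : ℂˣ) : ℂ)
      = ∑ v : V, χ (phi a₁ a₂ a₃ v) * chi3 (dot l v) := by
    apply Fintype.sum_equiv Multiplicative.toAdd
    intro g
    have : ((lamHom l g : ℂˣ) : ℂ) = om ^ (dot l (Multiplicative.toAdd g)).val := by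
      show ((omU ^ (dot l (Multiplicative.toAdd g)).val : ℂˣ) : ℂ) = _
      rw [Units.val_pow_eq_pow_val]; rfl
    rw [this, conj_om_pow]
    rfl
  rw [h3] at hn
  rw [← hn]
  field_simp

theorem Loc4.phi_w1 : phi a₁ a₂ a₃ (0, 0, 1) = nf a₁ a₂ a₃ σ dw1 := L.phi_eq_nf _

theorem Loc4.phi_w2 : phi a₁ a₂ a₃ (0, 1, 1) = nf a₁ a₂ a₃ σ dw2 := L.phi_eq_nf _

theorem Loc4.phi_w3 : phi a₁ a₂ a₃ (1, 1, 1) = nf a₁ a₂ a₃ σ dw3 := L.phi_eq_nf _

/-- the multiplicity of the linear character `000` of `J` -/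
theorem Loc4.mult_000 {χ : G → ℂ} (hχ : Cfsg.IsCharacter G χ) :
    ∃ n : ℕ, χ 1 + (6 : ℂ) * χ (nf a₁ a₂ a₃ σ dw1) + (12 : ℂ) * χ (nf a₁ a₂ a₃ σ dw2)
      + (8 : ℂ) * χ (nf a₁ a₂ a₃ σ dw3) = 27 * (n : ℂ) := by
  obtain ⟨n, hn⟩ := L.mult_exists hχ (0, 0, 0)
  rw [fourier4_000 (fun v => χ (phi a₁ a₂ a₃ v)) (fun k v => L.char_act hχ k v)] at hn
  refine ⟨n, ?_⟩
  have h0 : phi a₁ a₂ a₃ ((0, 0, 0) : V) = 1 := phi_zero
  rw [← L.phi_w1, ← L.phi_w2, ← L.phi_w3]
  rw [h0] at hn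
  linear_combination hn

/-- the multiplicity of the linear character `100` of `J` -/
theorem Loc4.mult_100 {χ : G → ℂ} (hχ : Cfsg.IsCharacter G χ) :
    ∃ n : ℕ, χ 1 + (3 : ℂ) * χ (nf a₁ a₂ a₃ σ dw1) + (0 : ℂ) * χ (nf a₁ a₂ a₃ σ dw2)
      + (-4 : ℂ) * χ (nf a₁ a₂ a₃ σ dw3) = 27 * (n : ℂ) := by
  obtain ⟨n, hn⟩ := L.mult_exists hχ (1, 0, 0)
  rw [fourier4_100 (fun v => χ (phi a₁ a₂ a₃ v)) (fun k v => L.char_act hχ k v)] at hn
  refine ⟨n, ?_⟩
  have h0 : phi a₁ a₂ a₃ ((0, 0, 0) : V) = 1 := phi_zero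
  rw [← L.phi_w1, ← L.phi_w2, ← L.phi_w3]
  rw [h0] at hn
  linear_combination hn

/-- the multiplicity of the linear character `110` of `J` -/
theorem Loc4.mult_110 {χ : G → ℂ} (hχ : Cfsg.IsCharacter G χ) :
    ∃ n : ℕ, χ 1 + (0 : ℂ) * χ (nf a₁ a₂ a₃ σ dw1) + (-3 : ℂ) * χ (nf a₁ a₂ a₃ σ dw2)
      + (2 : ℂ) * χ (nf a₁ a₂ a₃ σ dw3) = 27 * (n : ℂ) := by
  obtain ⟨n, hn⟩ := L.mult_exists hχ (1, 1, 0)
  rw [fourier4_110 (fun v => χ (phi a₁ a₂ a₃ v)) (fun k v => L.char_act hχ k v)] at hn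
  refine ⟨n, ?_⟩
  have h0 : phi a₁ a₂ a₃ ((0, 0, 0) : V) = 1 := phi_zero
  rw [← L.phi_w1, ← L.phi_w2, ← L.phi_w3]
  rw [h0] at hn
  linear_combination hn

/-- the multiplicity of the linear character `111` of `J` -/
theorem Loc4.mult_111 {χ : G → ℂ} (hχ : Cfsg.IsCharacter G χ) :
    ∃ n : ℕ, χ 1 + (-3 : ℂ) * χ (nf a₁ a₂ a₃ σ dw1) + (3 : ℂ) * χ (nf a₁ a₂ a₃ σ dw2)
      + (-1 : ℂ) * χ (nf a₁ a₂ a₃ σ dw3) = 27 * (n : ℂ) := by
  obtain ⟨n, hn⟩ := L.mult_exists hχ (1, 1, 1)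
  rw [fourier4_111 (fun v => χ (phi a₁ a₂ a₃ v)) (fun k v => L.char_act hχ k v)] at hn
  refine ⟨n, ?_⟩
  have h0 : phi a₁ a₂ a₃ ((0, 0, 0) : V) = 1 := phi_zero
  rw [← L.phi_w1, ← L.phi_w2, ← L.phi_w3]
  rw [h0] at hn
  linear_combination hn

end loc

end Cfsg.Agent.Lib.Helper2.Emb4
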