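import Mathlib
import Cfsg.Agent.Lib.Helper2.Emb4D

/-! # Cyclic subgroups of `H = 3^3 : S_4` meeting `D`, and the nine integral linear forms -/

set_option autoImplicit false
set_option linter.style.haveILetI false
set_option linter.unusedSectionVars false
set_option linter.unusedSimpArgs false
set_option maxHeartbeats 1000000
open Cfsg

namespace Cfsg.Agent.Lib.Helper2.Emb4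

open scoped ComplexConjugate
open Cfsg.Agent.Lib.Helper6
open Cfsg.Agent.Lib.Helper2.Emb3 (V phi phi_zero three_nsmul om om_rel om_cube conj_om)

/-- a square root of `3` -/
noncomputable def s3 : ℂ := -Complex.I * (2 * om + 1)

theorem s3_sq : s3 ^ 2 = 3 := by
  unfold s3
  linear_combination ((-4 : ℂ)) * om_rel + ((1 : ℂ) + (4 : ℂ) * om ^ 1 + (4 : ℂ) * om ^ 2) * Complex.I_sq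

theorem conj_s3 : conj s3 = s3 := by
  unfold s3
  rw [map_mul, map_neg, Complex.conj_I, map_add, map_mul, map_one, conj_om, Complex.conj_ofNat]
  linear_combination ((2 : ℂ) * Complex.I ^ 1) * om_rel

theorem sum_range_12 (f : ℕ → ℂ) : ∑ k ∈ Finset.range 12, f k
    = f 0 + f 1 + f 2 + f 3 + f 4 + f 5 + f 6 + f 7 + f 8 + f 9 + f 10 + f 11 := by
  simp [Finset.sum_range_succ]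

theorem sum_range_9 (f : ℕ → ℂ) : ∑ k ∈ Finset.range 9, f k
    = f 0 + f 1 + f 2 + f 3 + f 4 + f 5 + f 6 + f 7 + f 8 := by
  simp [Finset.sum_range_succ]

theorem z0_pow : (1 : ℂ) ^ 12 = 1 := by norm_num

theorem conj_z0 : conj (1 : ℂ) = 1 := map_one _

theorem z1_pow : (-Complex.I * om) ^ 12 = 1 := by
  linear_combination ((-1 : ℂ) + (1 : ℂ) * om ^ 1 + (-1 : ℂ) * om ^ 3 + (1 : ℂ) * om ^ 4 + (-1 : ℂ) * om ^ 6 + (1 : ℂ) * om ^ 7 + (-1 : ℂ) * om ^ 9 + (1 : ℂ) * om ^ 10) * om_rel + ((-1 : ℂ) * om ^ 12 + (1 : ℂ) * om ^ 12 * Complex.I ^ 2 + (-1 : ℂ) * om ^ 12 * Complex.I ^ 4 + (1 : ℂ) * om ^ 12 * Complex.I ^ 6 + (-1 : ℂ) * om ^ 12 * Complex.I ^ 8 + (1 : ℂ) * om ^ 12 * Complex.I ^ 10) * Complex.I_sq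

theorem conj_z1 : conj (-Complex.I * om) = (Complex.I * om ^ 2) := by
  simp only [map_mul, map_neg, map_pow, Complex.conj_I, conj_om]
  ring

theorem z5_pow : (-Complex.I * om ^ 2) ^ 12 = 1 := by
  linear_combination ((-1 : ℂ) + (1 : ℂ) * om ^ 1 + (-1 : ℂ) * om ^ 3 + (1 : ℂ) * om ^ 4 + (-1 : ℂ) * om ^ 6 + (1 : ℂ) * om ^ 7 + (-1 : ℂ) * om ^ 9 + (1 : ℂ) * om ^ 10 + (-1 : ℂ) * om ^ 12 + (1 : ℂ) * om ^ 13 + (-1 : ℂ) * om ^ 15 + (1 : ℂ) * om ^ 16 + (-1 : ℂ) * om ^ 18 + (1 : ℂ) * om ^ 19 + (-1 : ℂ) * om ^ 21 + (1 : ℂ) * om ^ 22) * om_rel + ((-1 : ℂ) * om ^ 24 + (1 : ℂ) * om ^ 24 * Complex.I ^ 2 + (-1 : ℂ) * om ^ 24 * Complex.I ^ 4 + (1 : ℂ) * om ^ 24 * Complex.I ^ 6 + (-1 : ℂ) * om ^ 24 * Complex.I ^ 8 + (1 : ℂ) * om ^ 24 * Complex.I ^ 10) * Complex.I_sq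

theorem conj_z5 : conj (-Complex.I * om ^ 2) = (Complex.I * om) := by
  simp only [map_mul, map_neg, map_pow, Complex.conj_I, conj_om]
  linear_combination (Complex.I * om) * om_cube

theorem z3_pow : Complex.I ^ 12 = 1 := by
  linear_combination ((-1 : ℂ) + (1 : ℂ) * Complex.I ^ 2 + (-1 : ℂ) * Complex.I ^ 4 + (1 : ℂ) * Complex.I ^ 6 + (-1 : ℂ) * Complex.I ^ 8 + (1 : ℂ) * Complex.I ^ 10) * Complex.I_sq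

theorem conj_z3 : conj Complex.I = (-Complex.I) := by
  simp only [map_mul, map_neg, map_pow, Complex.conj_I, conj_om]
  skip

theorem z7_pow : (Complex.I * om) ^ 12 = 1 := by
  linear_combination ((-1 : ℂ) + (1 : ℂ) * om ^ 1 + (-1 : ℂ) * om ^ 3 + (1 : ℂ) * om ^ 4 + (-1 : ℂ) * om ^ 6 + (1 : ℂ) * om ^ 7 + (-1 : ℂ) * om ^ 9 + (1 : ℂ) * om ^ 10) * om_rel + ((-1 : ℂ) * om ^ 12 + (1 : ℂ) * om ^ 12 * Complex.I ^ 2 + (-1 : ℂ) * om ^ 12 * Complex.I ^ 4 + (1 : ℂ) * om ^ 12 * Complex.I ^ 6 + (-1 : ℂ) * om ^ 12 * Complex.I ^ 8 + (1 : ℂ) * om ^ 12 * Complex.I ^ 10) * Complex.I_sq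

theorem conj_z7 : conj (Complex.I * om) = (-Complex.I * om ^ 2) := by
  simp only [map_mul, map_neg, map_pow, Complex.conj_I, conj_om]
  skip

theorem z4_pow : om ^ 12 = 1 := by
  linear_combination ((-1 : ℂ) + (1 : ℂ) * om ^ 1 + (-1 : ℂ) * om ^ 3 + (1 : ℂ) * om ^ 4 + (-1 : ℂ) * om ^ 6 + (1 : ℂ) * om ^ 7 + (-1 : ℂ) * om ^ 9 + (1 : ℂ) * om ^ 10) * om_rel

theorem conj_z4 : conj om = (om ^ 2) := by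
  simp only [map_mul, map_neg, map_pow, Complex.conj_I, conj_om]
  skip

theorem z2_pow : (-om ^ 2) ^ 12 = 1 := by
  linear_combination ((-1 : ℂ) + (1 : ℂ) * om ^ 1 + (-1 : ℂ) * om ^ 3 + (1 : ℂ) * om ^ 4 + (-1 : ℂ) * om ^ 6 + (1 : ℂ) * om ^ 7 + (-1 : ℂ) * om ^ 9 + (1 : ℂ) * om ^ 10 + (-1 : ℂ) * om ^ 12 + (1 : ℂ) * om ^ 13 + (-1 : ℂ) * om ^ 15 + (1 : ℂ) * om ^ 16 + (-1 : ℂ) * om ^ 18 + (1 : ℂ) * om ^ 19 + (-1 : ℂ) * om ^ 21 + (1 : ℂ) * om ^ 22) * om_rel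

theorem conj_z2 : conj (-om ^ 2) = (-om) := by
  simp only [map_mul, map_neg, map_pow, Complex.conj_I, conj_om]
  linear_combination (-om) * om_cube

theorem z6_pow : (-1 : ℂ) ^ 12 = 1 := by norm_num

theorem conj_z6 : conj (-1 : ℂ) = -1 := by rw [map_neg, map_one]

theorem alg12_15 (x0 xa xb x6 xw y3 y6 y9 n n' : ℂ)
    (h : x0 + xa * (Complex.I * om ^ 2) + x6 * (Complex.I * om ^ 2) ^ 2 + y3 * (Complex.I * om ^ 2) ^ 3 + xw * (Complex.I * om ^ 2) ^ 4 + xb * (Complex.I * om ^ 2) ^ 5 + y6 * (Complex.I * om ^ 2) ^ 6 + xb * (Complex.I * om ^ 2) ^ 7 + xw * (Complex.I * om ^ 2) ^ 8 + y9 * (Complex.I * om ^ 2) ^ 9 + x6 * (Complex.I * om ^ 2) ^ 10 + xa * (Complex.I * om ^ 2) ^ 11 = 12 * n)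
    (h' : x0 + xa * (Complex.I * om) + x6 * (Complex.I * om) ^ 2 + y3 * (Complex.I * om) ^ 3 + xw * (Complex.I * om) ^ 4 + xb * (Complex.I * om) ^ 5 + y6 * (Complex.I * om) ^ 6 + xb * (Complex.I * om) ^ 7 + xw * (Complex.I * om) ^ 8 + y9 * (Complex.I * om) ^ 9 + x6 * (Complex.I * om) ^ 10 + xa * (Complex.I * om) ^ 11 = 12 * n') :
    6 * (n - n') = s3 * (xa - xb) := by
  unfold s3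
  linear_combination ((-1 / 2 : ℂ)) * h + ((1 / 2 : ℂ)) * h' + ((1 : ℂ) * Complex.I ^ 1 * xa + (-1 : ℂ) * Complex.I ^ 1 * xb + (1 / 2 : ℂ) * om ^ 1 * Complex.I ^ 1 * xa + (-1 : ℂ) * om ^ 1 * Complex.I ^ 1 * xb + (1 / 2 : ℂ) * om ^ 2 * x6 + (-1 : ℂ) * om ^ 2 * Complex.I ^ 1 * xa + (2 : ℂ) * om ^ 2 * Complex.I ^ 1 * xb + (-1 / 2 : ℂ) * om ^ 3 * x6 + (1 / 2 : ℂ) * om ^ 3 * Complex.I ^ 1 * xa + (-1 : ℂ) * om ^ 3 * Complex.I ^ 1 * xb + (1 / 2 : ℂ) * om ^ 3 * Complex.I ^ 1 * y3 + (-1 / 2 : ℂ) * om ^ 4 * x6 + (-1 / 2 : ℂ) * om ^ 4 * xw + (1 / 2 : ℂ) * om ^ 4 * Complex.I ^ 1 * xa + (-1 : ℂ) * om ^ 4 * Complex.I ^ 1 * xb + (-1 / 2 : ℂ) * om ^ 4 * Complex.I ^ 1 * y3 + (1 : ℂ) * om ^ 5 * x6 + (1 / 2 : ℂ) * om ^ 5 * xw + (-1 : ℂ) * om ^ 5 * Complex.I ^ 1 *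 xa + (3 / 2 : ℂ) * om ^ 5 * Complex.I ^ 1 * xb + (-1 / 2 : ℂ) * om ^ 6 * x6 + (1 / 2 : ℂ) * om ^ 6 * y6 + (1 / 2 : ℂ) * om ^ 6 * Complex.I ^ 1 * xa + (-1 / 2 : ℂ) * om ^ 6 * Complex.I ^ 1 * xb + (-1 / 2 : ℂ) * om ^ 7 * x6 + (-1 / 2 : ℂ) * om ^ 7 * xw + (-1 / 2 : ℂ) * om ^ 7 * y6 + (1 / 2 : ℂ) * om ^ 7 * Complex.I ^ 1 * xa + (-1 / 2 : ℂ) * om ^ 7 * Complex.I ^ 1 * xb + (1 : ℂ) * om ^ 8 * x6 + (1 / 2 : ℂ) * om ^ 8 * xw + (-1 : ℂ) * om ^ 8 * Complex.I ^ 1 * xa + (1 : ℂ) * om ^ 8 * Complex.I ^ 1 * xb + (-1 / 2 : ℂ) * om ^ 9 * x6 + (1 / 2 : ℂ) * om ^ 9 * y6 + (1 / 2 : ℂ) * om ^ 9 * Complex.I ^ 1 * xa + (-1 / 2 : ℂ) * om ^ 9 * Complex.I ^ 1 * xb + (-1 / 2 : ℂ) * om ^ 9 * Complex.I ^ 1 * y9 + (-1 / 2 : ℂ) * om ^ 10 * xw + (-1 / 2 : ℂ) * om ^ 10 * y6 +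 (1 / 2 : ℂ) * om ^ 10 * Complex.I ^ 1 * xa + (1 / 2 : ℂ) * om ^ 10 * Complex.I ^ 1 * y9 + (1 / 2 : ℂ) * om ^ 11 * x6 + (1 / 2 : ℂ) * om ^ 11 * xw + (-1 / 2 : ℂ) * om ^ 11 * Complex.I ^ 1 * xa + (1 / 2 : ℂ) * om ^ 11 * Complex.I ^ 1 * xb + (-1 / 2 : ℂ) * om ^ 12 * x6 + (-1 / 2 : ℂ) * om ^ 12 * Complex.I ^ 1 * xb + (-1 / 2 : ℂ) * om ^ 12 * Complex.I ^ 1 * y9 + (-1 / 2 : ℂ) * om ^ 13 * xw + (1 / 2 : ℂ) * om ^ 13 * Complex.I ^ 1 * xa + (1 / 2 : ℂ) * om ^ 13 * Complex.I ^ 1 * y9 + (1 / 2 : ℂ) * om ^ 14 * x6 + (1 / 2 : ℂ) * om ^ 14 * xw + (-1 / 2 : ℂ) * om ^ 14 * Complex.I ^ 1 * xa + (-1 / 2 : ℂ) * om ^ 15 * x6 + (-1 / 2 : ℂ) * om ^ 15 * Complex.I ^ 1 * y9 + (1 / 2 : ℂ) * om ^ 16 * Complex.I ^ 1 * xa + (1 / 2 : ℂ) * om ^ 16 * Complex.I ^ 1 * y9 + (1 /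 2 : ℂ) * om ^ 17 * x6 + (-1 / 2 : ℂ) * om ^ 17 * Complex.I ^ 1 * xa + (-1 / 2 : ℂ) * om ^ 18 * x6 + (1 / 2 : ℂ) * om ^ 19 * Complex.I ^ 1 * xa + (-1 / 2 : ℂ) * om ^ 20 * Complex.I ^ 1 * xa) * om_rel + ((-1 / 2 : ℂ) * om ^ 2 * x6 + (-1 / 2 : ℂ) * om ^ 3 * Complex.I ^ 1 * y3 + (1 / 2 : ℂ) * om ^ 4 * x6 + (1 / 2 : ℂ) * om ^ 4 * xw + (-1 / 2 : ℂ) * om ^ 4 * Complex.I ^ 2 * xw + (1 / 2 : ℂ) * om ^ 5 * Complex.I ^ 1 * xb + (-1 / 2 : ℂ) * om ^ 5 * Complex.I ^ 3 * xb + (-1 / 2 : ℂ) * om ^ 6 * y6 + (1 / 2 : ℂ) * om ^ 6 * Complex.I ^ 1 * y3 + (1 / 2 : ℂ) * om ^ 6 * Complex.I ^ 2 * y6 + (-1 / 2 : ℂ) * om ^ 6 * Complex.I ^ 4 * y6 + (-1 / 2 : ℂ) * om ^ 7 * Complex.I ^ 1 * xb + (1 / 2 : ℂ) * om ^ 7 * Complex.I ^ 3 * xb + (-1 / 2 : ℂ) * om ^ 7 * Complex.I ^ 5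 * xb + (1 / 2 : ℂ) * om ^ 8 * Complex.I ^ 4 * xw + (-1 / 2 : ℂ) * om ^ 8 * Complex.I ^ 6 * xw + (1 / 2 : ℂ) * om ^ 9 * Complex.I ^ 1 * y9 + (-1 / 2 : ℂ) * om ^ 9 * Complex.I ^ 3 * y9 + (1 / 2 : ℂ) * om ^ 9 * Complex.I ^ 5 * y9 + (-1 / 2 : ℂ) * om ^ 9 * Complex.I ^ 7 * y9 + (-1 / 2 : ℂ) * om ^ 10 * x6 + (-1 / 2 : ℂ) * om ^ 10 * Complex.I ^ 1 * xb + (1 / 2 : ℂ) * om ^ 10 * Complex.I ^ 2 * x6 + (1 / 2 : ℂ) * om ^ 10 * Complex.I ^ 3 * xb + (-1 / 2 : ℂ) * om ^ 10 * Complex.I ^ 4 * x6 + (1 / 2 : ℂ) * om ^ 10 * Complex.I ^ 6 * x6 + (-1 / 2 : ℂ) * om ^ 10 * Complex.I ^ 8 * x6 + (-1 / 2 : ℂ) * om ^ 11 * Complex.I ^ 1 * xa + (1 / 2 : ℂ) * om ^ 11 * Complex.I ^ 3 * xa + (-1 / 2 : ℂ) * om ^ 11 * Complex.I ^ 5 * xa + (1 / 2 : ℂ) * om ^ 11 * Complex.I ^ 7 * xa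 + (-1 / 2 : ℂ) * om ^ 11 * Complex.I ^ 9 * xa + (1 / 2 : ℂ) * om ^ 12 * y6 + (-1 / 2 : ℂ) * om ^ 12 * Complex.I ^ 2 * y6 + (1 / 2 : ℂ) * om ^ 12 * Complex.I ^ 4 * y6 + (1 / 2 : ℂ) * om ^ 14 * Complex.I ^ 1 * xb + (-1 / 2 : ℂ) * om ^ 14 * Complex.I ^ 3 * xb + (1 / 2 : ℂ) * om ^ 14 * Complex.I ^ 5 * xb + (-1 / 2 : ℂ) * om ^ 16 * xw + (1 / 2 : ℂ) * om ^ 16 * Complex.I ^ 2 * xw + (-1 / 2 : ℂ) * om ^ 16 * Complex.I ^ 4 * xw + (1 / 2 : ℂ) * om ^ 16 * Complex.I ^ 6 * xw + (-1 / 2 : ℂ) * om ^ 18 * Complex.I ^ 1 * y9 + (1 / 2 : ℂ) * om ^ 18 * Complex.I ^ 3 * y9 + (-1 / 2 : ℂ) * om ^ 18 * Complex.I ^ 5 * y9 + (1 / 2 : ℂ) * om ^ 18 * Complex.I ^ 7 * y9 + (1 / 2 : ℂ) * om ^ 20 * x6 + (-1 / 2 : ℂ) * om ^ 20 * Complex.I ^ 2 * x6 + (1 / 2 : ℂ) * om ^ 20 * Complex.I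 ^ 4 * x6 + (-1 / 2 : ℂ) * om ^ 20 * Complex.I ^ 6 * x6 + (1 / 2 : ℂ) * om ^ 20 * Complex.I ^ 8 * x6 + (1 / 2 : ℂ) * om ^ 22 * Complex.I ^ 1 * xa + (-1 / 2 : ℂ) * om ^ 22 * Complex.I ^ 3 * xa + (1 / 2 : ℂ) * om ^ 22 * Complex.I ^ 5 * xa + (-1 / 2 : ℂ) * om ^ 22 * Complex.I ^ 7 * xa + (1 / 2 : ℂ) * om ^ 22 * Complex.I ^ 9 * xa) * Complex.I_sq

theorem alg12_37 (x0 xa xb x6 xw y3 y6 y9 n n' : ℂ)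
    (h : x0 + xa * (-Complex.I) + x6 * (-Complex.I) ^ 2 + y3 * (-Complex.I) ^ 3 + xw * (-Complex.I) ^ 4 + xb * (-Complex.I) ^ 5 + y6 * (-Complex.I) ^ 6 + xb * (-Complex.I) ^ 7 + xw * (-Complex.I) ^ 8 + y9 * (-Complex.I) ^ 9 + x6 * (-Complex.I) ^ 10 + xa * (-Complex.I) ^ 11 = 12 * n)
    (h' : x0 + xa * (-Complex.I * om ^ 2) + x6 * (-Complex.I * om ^ 2) ^ 2 + y3 * (-Complex.I * om ^ 2) ^ 3 + xw * (-Complex.I * om ^ 2) ^ 4 + xb * (-Complex.I * om ^ 2) ^ 5 + y6 * (-Complex.I * om ^ 2) ^ 6 + xb * (-Complex.I * om ^ 2) ^ 7 + xw * (-Complex.I * om ^ 2) ^ 8 + y9 * (-Complex.I * om ^ 2) ^ 9 + x6 * (-Complex.I * om ^ 2) ^ 10 + xa * (-Complex.I * om ^ 2) ^ 11 = 12 * n') :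
    12 * (n - n') = s3 * (xa - xb) - 3 * x6 + 3 * xw := by
  unfold s3
  linear_combination ((-1 : ℂ)) * h + ((1 : ℂ)) * h' + ((1 : ℂ) * x6 + (-1 : ℂ) * xw + (-1 : ℂ) * y6 + (1 : ℂ) * Complex.I ^ 1 * xa + (-1 : ℂ) * Complex.I ^ 1 * xb + (1 : ℂ) * Complex.I ^ 1 * y3 + (-1 : ℂ) * Complex.I ^ 1 * y9 + (-1 : ℂ) * om ^ 1 * x6 + (1 : ℂ) * om ^ 1 * xw + (1 : ℂ) * om ^ 1 * y6 + (1 : ℂ) * om ^ 1 * Complex.I ^ 1 * xa + (-1 : ℂ) * om ^ 1 * Complex.I ^ 1 * xb + (-1 : ℂ) * om ^ 1 * Complex.I ^ 1 * y3 + (1 : ℂ) * om ^ 1 * Complex.I ^ 1 * y9 + (-1 : ℂ) * om ^ 2 * Complex.I ^ 1 * xa + (2 : ℂ) * om ^ 2 * Complex.I ^ 1 * xb + (1 : ℂ) * om ^ 3 * x6 + (-1 : ℂ) * om ^ 3 * xw + (-1 : ℂ) * om ^ 3 * y6 + (-1 : ℂ) * om ^ 3 * Complex.I ^ 1 * xb + (1 : ℂ) * om ^ 3 * Complex.I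 ^ 1 * y3 + (-1 : ℂ) * om ^ 3 * Complex.I ^ 1 * y9 + (1 : ℂ) * om ^ 4 * xw + (1 : ℂ) * om ^ 4 * y6 + (1 : ℂ) * om ^ 4 * Complex.I ^ 1 * xa + (-1 : ℂ) * om ^ 4 * Complex.I ^ 1 * xb + (-1 : ℂ) * om ^ 4 * Complex.I ^ 1 * y3 + (1 : ℂ) * om ^ 4 * Complex.I ^ 1 * y9 + (-1 : ℂ) * om ^ 5 * x6 + (-1 : ℂ) * om ^ 5 * Complex.I ^ 1 * xa + (2 : ℂ) * om ^ 5 * Complex.I ^ 1 * xb + (1 : ℂ) * om ^ 6 * x6 + (-1 : ℂ) * om ^ 6 * xw + (-1 : ℂ) * om ^ 6 * y6 + (-1 : ℂ) * om ^ 6 * Complex.I ^ 1 * xb + (-1 : ℂ) * om ^ 6 * Complex.I ^ 1 * y9 + (1 : ℂ) * om ^ 7 * xw + (1 : ℂ) * om ^ 7 * y6 + (1 : ℂ) * om ^ 7 * Complex.I ^ 1 * xa + (-1 : ℂ) * om ^ 7 * Complex.I ^ 1 * xb + (1 : ℂ) * om ^ 7 * Complex.I ^ 1 * y9 + (-1 : ℂ) * om ^ 8 * x6 + (-1 : ℂ) * om ^ 8 * xw + (-1 : ℂ) * om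 ^ 8 * Complex.I ^ 1 * xa + (2 : ℂ) * om ^ 8 * Complex.I ^ 1 * xb + (1 : ℂ) * om ^ 9 * x6 + (-1 : ℂ) * om ^ 9 * y6 + (-1 : ℂ) * om ^ 9 * Complex.I ^ 1 * xb + (-1 : ℂ) * om ^ 9 * Complex.I ^ 1 * y9 + (1 : ℂ) * om ^ 10 * xw + (1 : ℂ) * om ^ 10 * y6 + (1 : ℂ) * om ^ 10 * Complex.I ^ 1 * xa + (1 : ℂ) * om ^ 10 * Complex.I ^ 1 * y9 + (-1 : ℂ) * om ^ 11 * x6 + (-1 : ℂ) * om ^ 11 * xw + (-1 : ℂ) * om ^ 11 * Complex.I ^ 1 * xa + (1 : ℂ) * om ^ 11 * Complex.I ^ 1 * xb + (1 : ℂ) * om ^ 12 * x6 + (-1 : ℂ) * om ^ 12 * Complex.I ^ 1 * xb + (-1 : ℂ) * om ^ 12 * Complex.I ^ 1 * y9 + (1 : ℂ) * om ^ 13 * xw + (1 : ℂ) * om ^ 13 * Complex.I ^ 1 * xa + (1 : ℂ) * om ^ 13 * Complex.I ^ 1 * y9 + (-1 : ℂ) * om ^ 14 * x6 + (-1 : ℂ) * om ^ 14 * xw + (-1 : ℂ) * om ^ 14 * Complex.I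 ^ 1 * xa + (1 : ℂ) * om ^ 15 * x6 + (-1 : ℂ) * om ^ 15 * Complex.I ^ 1 * y9 + (1 : ℂ) * om ^ 16 * Complex.I ^ 1 * xa + (1 : ℂ) * om ^ 16 * Complex.I ^ 1 * y9 + (-1 : ℂ) * om ^ 17 * x6 + (-1 : ℂ) * om ^ 17 * Complex.I ^ 1 * xa + (1 : ℂ) * om ^ 18 * x6 + (1 : ℂ) * om ^ 19 * Complex.I ^ 1 * xa + (-1 : ℂ) * om ^ 20 * Complex.I ^ 1 * xa) * om_rel + ((2 : ℂ) * x6 + (-2 : ℂ) * xw + (1 : ℂ) * y6 + (-1 : ℂ) * Complex.I ^ 1 * xa + (-1 : ℂ) * Complex.I ^ 1 * y3 + (1 : ℂ) * Complex.I ^ 1 * y9 + (-1 : ℂ) * Complex.I ^ 2 * x6 + (2 : ℂ) * Complex.I ^ 2 * xw + (-1 : ℂ) * Complex.I ^ 2 * y6 + (1 : ℂ) * Complex.I ^ 3 * xa + (-1 : ℂ) * Complex.I ^ 3 * y9 + (1 : ℂ) * Complex.I ^ 4 * x6 + (-1 : ℂ) * Complex.I ^ 4 * xw + (1 : ℂ) * Complex.I ^ 4 * y6 + (-1 : ℂ) * Complex.I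 ^ 5 * xa + (-1 : ℂ) * Complex.I ^ 5 * xb + (1 : ℂ) * Complex.I ^ 5 * y9 + (-1 : ℂ) * Complex.I ^ 6 * x6 + (1 : ℂ) * Complex.I ^ 6 * xw + (1 : ℂ) * Complex.I ^ 7 * xa + (-1 : ℂ) * Complex.I ^ 7 * y9 + (1 : ℂ) * Complex.I ^ 8 * x6 + (-1 : ℂ) * Complex.I ^ 9 * xa + (-1 : ℂ) * om ^ 4 * x6 + (1 : ℂ) * om ^ 6 * Complex.I ^ 1 * y3 + (1 : ℂ) * om ^ 8 * xw + (-1 : ℂ) * om ^ 8 * Complex.I ^ 2 * xw + (-1 : ℂ) * om ^ 10 * Complex.I ^ 1 * xb + (1 : ℂ) * om ^ 10 * Complex.I ^ 3 * xb + (-1 : ℂ) * om ^ 12 * y6 + (1 : ℂ) * om ^ 12 * Complex.I ^ 2 * y6 + (-1 : ℂ) * om ^ 12 * Complex.I ^ 4 * y6 + (1 : ℂ) * om ^ 14 * Complex.I ^ 1 * xb + (-1 : ℂ) * om ^ 14 * Complex.I ^ 3 * xb + (1 : ℂ) * om ^ 14 * Complex.I ^ 5 * xb + (1 : ℂ) * om ^ 16 * xw + (-1 : ℂ) * om ^ 16 *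 Complex.I ^ 2 * xw + (1 : ℂ) * om ^ 16 * Complex.I ^ 4 * xw + (-1 : ℂ) * om ^ 16 * Complex.I ^ 6 * xw + (-1 : ℂ) * om ^ 18 * Complex.I ^ 1 * y9 + (1 : ℂ) * om ^ 18 * Complex.I ^ 3 * y9 + (-1 : ℂ) * om ^ 18 * Complex.I ^ 5 * y9 + (1 : ℂ) * om ^ 18 * Complex.I ^ 7 * y9 + (-1 : ℂ) * om ^ 20 * x6 + (1 : ℂ) * om ^ 20 * Complex.I ^ 2 * x6 + (-1 : ℂ) * om ^ 20 * Complex.I ^ 4 * x6 + (1 : ℂ) * om ^ 20 * Complex.I ^ 6 * x6 + (-1 : ℂ) * om ^ 20 * Complex.I ^ 8 * x6 + (1 : ℂ) * om ^ 22 * Complex.I ^ 1 * xa + (-1 : ℂ) * om ^ 22 * Complex.I ^ 3 * xa + (1 : ℂ) * om ^ 22 * Complex.I ^ 5 * xa + (-1 : ℂ) * om ^ 22 * Complex.I ^ 7 * xa + (1 : ℂ) * om ^ 22 * Complex.I ^ 9 * xa) * Complex.I_sq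

theorem alg12_04 (x0 xa xb x6 xw y3 y6 y9 n n' : ℂ)
    (h : x0 + xa * (1 : ℂ) + x6 * (1 : ℂ) ^ 2 + y3 * (1 : ℂ) ^ 3 + xw * (1 : ℂ) ^ 4 + xb * (1 : ℂ) ^ 5 + y6 * (1 : ℂ) ^ 6 + xb * (1 : ℂ) ^ 7 + xw * (1 : ℂ) ^ 8 + y9 * (1 : ℂ) ^ 9 + x6 * (1 : ℂ) ^ 10 + xa * (1 : ℂ) ^ 11 = 12 * n)
    (h' : x0 + xa * (om ^ 2) + x6 * (om ^ 2) ^ 2 + y3 * (om ^ 2) ^ 3 + xw * (om ^ 2) ^ 4 + xb * (om ^ 2) ^ 5 + y6 * (om ^ 2) ^ 6 + xb * (om ^ 2) ^ 7 + xw * (om ^ 2) ^ 8 + y9 * (om ^ 2) ^ 9 + x6 * (om ^ 2) ^ 10 + xa * (om ^ 2) ^ 11 = 12 * n') :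
    4 * (n - n') = xa + xb + x6 + xw := by
  skip
  linear_combination ((-1 / 3 : ℂ)) * h + ((1 / 3 : ℂ)) * h' + ((-1 / 3 : ℂ) * x6 + (-1 / 3 : ℂ) * xa + (-1 / 3 : ℂ) * xb + (-1 / 3 : ℂ) * xw + (1 / 3 : ℂ) * y3 + (1 / 3 : ℂ) * y6 + (1 / 3 : ℂ) * y9 + (1 / 3 : ℂ) * om ^ 1 * x6 + (1 / 3 : ℂ) * om ^ 1 * xa + (1 / 3 : ℂ) * om ^ 1 * xb + (1 / 3 : ℂ) * om ^ 1 * xw + (-1 / 3 : ℂ) * om ^ 1 * y3 + (-1 / 3 : ℂ) * om ^ 1 * y6 + (-1 / 3 : ℂ) * om ^ 1 * y9 + (-1 / 3 : ℂ) * om ^ 2 * xa + (-1 / 3 : ℂ) * om ^ 3 * x6 + (-1 / 3 : ℂ) * om ^ 3 * xb + (-1 / 3 : ℂ) * om ^ 3 * xw + (1 / 3 : ℂ) * om ^ 3 * y3 + (1 / 3 : ℂ) * om ^ 3 * y6 + (1 / 3 : ℂ) * om ^ 3 * y9 + (1 / 3 : ℂ) * om ^ 4 * xa + (1 / 3 : ℂ) * om ^ 4 * xb + (1 / 3 : ℂ) * om ^ 4 * xw + (-1 / 3 : ℂ) * om ^ 4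 * y3 + (-1 / 3 : ℂ) * om ^ 4 * y6 + (-1 / 3 : ℂ) * om ^ 4 * y9 + (1 / 3 : ℂ) * om ^ 5 * x6 + (-1 / 3 : ℂ) * om ^ 5 * xa + (-1 / 3 : ℂ) * om ^ 6 * x6 + (-1 / 3 : ℂ) * om ^ 6 * xb + (-1 / 3 : ℂ) * om ^ 6 * xw + (1 / 3 : ℂ) * om ^ 6 * y6 + (1 / 3 : ℂ) * om ^ 6 * y9 + (1 / 3 : ℂ) * om ^ 7 * xa + (1 / 3 : ℂ) * om ^ 7 * xb + (1 / 3 : ℂ) * om ^ 7 * xw + (-1 / 3 : ℂ) * om ^ 7 * y6 + (-1 / 3 : ℂ) * om ^ 7 * y9 + (1 / 3 : ℂ) * om ^ 8 * x6 + (-1 / 3 : ℂ) * om ^ 8 * xa + (-1 / 3 : ℂ) * om ^ 8 * xw + (-1 / 3 : ℂ) * om ^ 9 * x6 + (-1 / 3 : ℂ) * om ^ 9 * xb + (1 / 3 : ℂ) * om ^ 9 * y6 + (1 / 3 : ℂ) * om ^ 9 * y9 + (1 / 3 : ℂ) * om ^ 10 * xa + (1 / 3 : ℂ) * om ^ 10 * xw + (-1 / 3 : ℂ) * om ^ 10 * y6 + (-1 / 3 : ℂ) * om ^ 10 * y9 + (1 / 3 : ℂ) * om ^ 11 * x6 + (-1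 / 3 : ℂ) * om ^ 11 * xa + (1 / 3 : ℂ) * om ^ 11 * xb + (-1 / 3 : ℂ) * om ^ 11 * xw + (-1 / 3 : ℂ) * om ^ 12 * x6 + (-1 / 3 : ℂ) * om ^ 12 * xb + (1 / 3 : ℂ) * om ^ 12 * y9 + (1 / 3 : ℂ) * om ^ 13 * xa + (1 / 3 : ℂ) * om ^ 13 * xw + (-1 / 3 : ℂ) * om ^ 13 * y9 + (1 / 3 : ℂ) * om ^ 14 * x6 + (-1 / 3 : ℂ) * om ^ 14 * xa + (-1 / 3 : ℂ) * om ^ 14 * xw + (-1 / 3 : ℂ) * om ^ 15 * x6 + (1 / 3 : ℂ) * om ^ 15 * y9 + (1 / 3 : ℂ) * om ^ 16 * xa + (-1 / 3 : ℂ) * om ^ 16 * y9 + (1 / 3 : ℂ) * om ^ 17 * x6 + (-1 / 3 : ℂ) * om ^ 17 * xa + (-1 / 3 : ℂ) * om ^ 18 * x6 + (1 / 3 : ℂ) * om ^ 19 * xa + (-1 / 3 : ℂ) * om ^ 20 * xa) * om_rel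

theorem alg12_26 (x0 xa xb x6 xw y3 y6 y9 n n' : ℂ)
    (h : x0 + xa * (-om) + x6 * (-om) ^ 2 + y3 * (-om) ^ 3 + xw * (-om) ^ 4 + xb * (-om) ^ 5 + y6 * (-om) ^ 6 + xb * (-om) ^ 7 + xw * (-om) ^ 8 + y9 * (-om) ^ 9 + x6 * (-om) ^ 10 + xa * (-om) ^ 11 = 12 * n)
    (h' : x0 + xa * (-1 : ℂ) + x6 * (-1 : ℂ) ^ 2 + y3 * (-1 : ℂ) ^ 3 + xw * (-1 : ℂ) ^ 4 + xb * (-1 : ℂ) ^ 5 + y6 * (-1 : ℂ) ^ 6 + xb * (-1 : ℂ) ^ 7 + xw * (-1 : ℂ) ^ 8 + y9 * (-1 : ℂ) ^ 9 + x6 * (-1 : ℂ) ^ 10 + xa * (-1 : ℂ) ^ 11 = 12 * n') :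
    4 * (n - n') = xa + xb - x6 - xw := by
  skip
  linear_combination ((-1 / 3 : ℂ)) * h + ((1 / 3 : ℂ)) * h' + ((1 / 3 : ℂ) * x6 + (-1 / 3 : ℂ) * xa + (-1 / 3 : ℂ) * xb + (1 / 3 : ℂ) * xw + (1 / 3 : ℂ) * y3 + (-1 / 3 : ℂ) * y6 + (1 / 3 : ℂ) * y9 + (-1 / 3 : ℂ) * om ^ 1 * x6 + (1 / 3 : ℂ) * om ^ 1 * xb + (-1 / 3 : ℂ) * om ^ 1 * xw + (-1 / 3 : ℂ) * om ^ 1 * y3 + (1 / 3 : ℂ) * om ^ 1 * y6 + (-1 / 3 : ℂ) * om ^ 1 * y9 + (1 / 3 : ℂ) * om ^ 2 * x6 + (1 / 3 : ℂ) * om ^ 2 * xa + (-1 / 3 : ℂ) * om ^ 3 * xa + (-1 / 3 : ℂ) * om ^ 3 * xb + (1 / 3 : ℂ) * om ^ 3 * xw + (-1 / 3 : ℂ) * om ^ 3 * y6 + (1 / 3 : ℂ) * om ^ 3 * y9 + (-1 / 3 : ℂ) * om ^ 4 * x6 + (1 / 3 : ℂ) * om ^ 4 * xb + (1 / 3 : ℂ) * om ^ 4 * y6 + (-1 / 3 : ℂ) * om ^ 4 * y9 + (1 / 3 : ℂ) * om ^ 5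 * x6 + (1 / 3 : ℂ) * om ^ 5 * xa + (-1 / 3 : ℂ) * om ^ 5 * xb + (-1 / 3 : ℂ) * om ^ 5 * xw + (-1 / 3 : ℂ) * om ^ 6 * xa + (1 / 3 : ℂ) * om ^ 6 * xw + (1 / 3 : ℂ) * om ^ 6 * y9 + (-1 / 3 : ℂ) * om ^ 7 * x6 + (-1 / 3 : ℂ) * om ^ 7 * y9 + (1 / 3 : ℂ) * om ^ 8 * x6 + (1 / 3 : ℂ) * om ^ 8 * xa + (-1 / 3 : ℂ) * om ^ 9 * xa) * om_rel

theorem alg6_02 (x0 xs xv y3 n n' : ℂ)
    (h : x0 + xs * (1 : ℂ) + xv * (1 : ℂ) ^ 2 + y3 * (1 : ℂ) ^ 3 + xv * (1 : ℂ) ^ 4 + xs * (1 : ℂ) ^ 5 = 6 * n)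
    (h' : x0 + xs * (om ^ 2) + xv * (om ^ 2) ^ 2 + y3 * (om ^ 2) ^ 3 + xv * (om ^ 2) ^ 4 + xs * (om ^ 2) ^ 5 = 6 * n') :
    2 * (n - n') = xs + xv := by
  linear_combination ((-1 / 3 : ℂ)) * h + ((1 / 3 : ℂ)) * h' + ((-1 / 3 : ℂ) * xs + (-1 / 3 : ℂ) * xv + (1 / 3 : ℂ) * y3 + (1 / 3 : ℂ) * om ^ 1 * xs + (1 / 3 : ℂ) * om ^ 1 * xv + (-1 / 3 : ℂ) * om ^ 1 * y3 + (-1 / 3 : ℂ) * om ^ 2 * xs + (-1 / 3 : ℂ) * om ^ 3 * xv + (1 / 3 : ℂ) * om ^ 3 * y3 + (1 / 3 : ℂ) * om ^ 4 * xs + (-1 / 3 : ℂ) * om ^ 4 * y3 + (-1 / 3 : ℂ) * om ^ 5 * xs + (1 / 3 : ℂ) * om ^ 5 * xv + (-1 / 3 : ℂ) * om ^ 6 * xv + (1 / 3 : ℂ) * om ^ 7 * xs + (-1 / 3 : ℂ) * om ^ 8 * xs) * om_rel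

theorem alg9_13 (w x0 x9 xv n n' : ℂ) (hw : w ^ 3 = om ^ 2)
    (h : x0 + x9 * w + x9 * w ^ 2 + xv * w ^ 3 + x9 * w ^ 4 + x9 * w ^ 5 + xv * w ^ 6 + x9 * w ^ 7 + x9 * w ^ 8 = 9 * n)
    (h' : x0 + x9 * (om ^ 2) + x9 * (om ^ 2) ^ 2 + xv * (om ^ 2) ^ 3 + x9 * (om ^ 2) ^ 4 + x9 * (om ^ 2) ^ 5 + xv * (om ^ 2) ^ 6 + x9 * (om ^ 2) ^ 7 + x9 * (om ^ 2) ^ 8 = 9 * n') :
    3 * (n - n') = x9 - xv := by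
  linear_combination ((-1 / 3 : ℂ)) * h + ((1 / 3 : ℂ)) * h' + ((-1 : ℂ) * x9 + (1 : ℂ) * xv + (1 / 3 : ℂ) * w ^ 1 * x9 + (1 / 3 : ℂ) * w ^ 2 * x9 + (1 : ℂ) * om ^ 1 * x9 + (-1 : ℂ) * om ^ 1 * xv + (-1 / 3 : ℂ) * om ^ 1 * w ^ 1 * x9 + (-1 / 3 : ℂ) * om ^ 1 * w ^ 2 * x9 + (-1 / 3 : ℂ) * om ^ 2 * x9 + (1 / 3 : ℂ) * om ^ 2 * xv + (1 / 3 : ℂ) * om ^ 2 * w ^ 1 * x9 + (1 / 3 : ℂ) * om ^ 2 * w ^ 2 * x9 + (-2 / 3 : ℂ) * om ^ 3 * x9 + (2 / 3 : ℂ) * om ^ 3 * xv + (2 / 3 : ℂ) * om ^ 4 * x9 + (-2 / 3 : ℂ) * om ^ 4 * xv + (-2 / 3 : ℂ) * om ^ 6 * x9 + (1 / 3 : ℂ) * om ^ 6 * xv + (2 / 3 : ℂ) * om ^ 7 * x9 + (-1 / 3 : ℂ) * om ^ 7 * xv + (-1 / 3 : ℂ) * om ^ 8 * x9 + (-1 / 3 : ℂ) * om ^ 9 * x9 + (1 / 3 : ℂ) * om ^ 9 * xv + (1 / 3 : ℂ) * om ^ 10 * x9 + (-1 / 3 : ℂ)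 * om ^ 10 * xv + (-1 / 3 : ℂ) * om ^ 12 * x9 + (1 / 3 : ℂ) * om ^ 13 * x9 + (-1 / 3 : ℂ) * om ^ 14 * x9) * om_rel + ((1 / 3 : ℂ) * xv + (1 / 3 : ℂ) * w ^ 1 * x9 + (1 / 3 : ℂ) * w ^ 2 * x9 + (1 / 3 : ℂ) * w ^ 3 * xv + (1 / 3 : ℂ) * w ^ 4 * x9 + (1 / 3 : ℂ) * w ^ 5 * x9 + (1 / 3 : ℂ) * om ^ 2 * xv + (1 / 3 : ℂ) * om ^ 2 * w ^ 1 * x9 + (1 / 3 : ℂ) * om ^ 2 * w ^ 2 * x9) * hw

theorem om_pow6 : om ^ 6 = 1 := by linear_combination (om ^ 3 + 1) * om_cube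

theorem om_pow9 : om ^ 9 = 1 := by linear_combination (om ^ 6 + om ^ 3 + 1) * om_cube

theorem sum_range_6' (f : ℕ → ℂ) : ∑ k ∈ Finset.range 6, f k
    = f 0 + f 1 + f 2 + f 3 + f 4 + f 5 := by
  simp [Finset.sum_range_succ]

section loc

variable {G : Type*} [Group G] [Fintype G] {J H : Subgroup G} {a₁ a₂ a₃ : G} {σ : Fin 24 → G}
variable (L : Loc4 J H a₁ a₂ a₃ σ)
include L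

/-- the cyclic subgroup of order `12` -/
theorem Loc4.cyc12 {χ : G → ℂ} (hχ : Cfsg.IsCharacter G χ) (z : ℂ) (hz : z ^ 12 = 1) :
    ∃ m : ℕ, χ 1
      + χ (nf a₁ a₂ a₃ σ d12a) * conj z
      + χ (nf a₁ a₂ a₃ σ d6a) * conj z ^ 2
      + χ (nf a₁ a₂ a₃ σ d12a ^ 3) * conj z ^ 3
      + χ (nf a₁ a₂ a₃ σ dw1) * conj z ^ 4
      + χ (nf a₁ a₂ a₃ σ d12b) * conj z ^ 5
      + χ (nf a₁ a₂ a₃ σ d12a ^ 6) * conj z ^ 6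
      + χ (nf a₁ a₂ a₃ σ d12b) * conj z ^ 7
      + χ (nf a₁ a₂ a₃ σ dw1) * conj z ^ 8
      + χ (nf a₁ a₂ a₃ σ d12a ^ 9) * conj z ^ 9
      + χ (nf a₁ a₂ a₃ σ d6a) * conj z ^ 10
      + χ (nf a₁ a₂ a₃ σ d12a) * conj z ^ 11 = 12 * (m : ℂ) := by
  obtain ⟨m, hm⟩ := Tv.cyclic_mult hχ (nf a₁ a₂ a₃ σ d12a) 12 L.orderOf_d12a (by norm_num) z hz
  refine ⟨m, ?_⟩
  rw [sum_range_12] at hm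
  simp only [map_pow] at hm
  rw [chi_of_isConj hχ L.conj_d12a_pow2, chi_of_isConj hχ L.conj_d12a_pow4,
    chi_of_isConj hχ L.conj_d12a_pow5, chi_of_isConj hχ L.conj_d12a_pow7,
    chi_of_isConj hχ L.conj_d12a_pow8, chi_of_isConj hχ L.conj_d12a_pow10,
    chi_of_isConj hχ L.conj_d12a_pow11] at hm
  simp only [pow_zero, pow_one, mul_one] at hm
  push_cast at hm
  linear_combination hm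

/-- the cyclic subgroup of order `6` generated by `d6b` -/
theorem Loc4.cyc6 {χ : G → ℂ} (hχ : Cfsg.IsCharacter G χ) (z : ℂ) (hz : z ^ 6 = 1) :
    ∃ m : ℕ, χ 1
      + χ (nf a₁ a₂ a₃ σ d6b) * conj z
      + χ (nf a₁ a₂ a₃ σ dw2) * conj z ^ 2
      + χ (nf a₁ a₂ a₃ σ d6b ^ 3) * conj z ^ 3
      + χ (nf a₁ a₂ a₃ σ dw2) * conj z ^ 4
      + χ (nf a₁ a₂ a₃ σ d6b) * conj z ^ 5 = 6 * (m : ℂ) := by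
  obtain ⟨m, hm⟩ := Tv.cyclic_mult hχ (nf a₁ a₂ a₃ σ d6b) 6 L.orderOf_d6b (by norm_num) z hz
  refine ⟨m, ?_⟩
  rw [sum_range_6'] at hm
  simp only [map_pow] at hm
  rw [chi_of_isConj hχ L.conj_d6b_pow2, chi_of_isConj hχ L.conj_d6b_pow4,
    chi_of_isConj hχ L.conj_d6b_pow5] at hm
  simp only [pow_zero, pow_one, mul_one] at hm
  push_cast at hm
  linear_combination hm

/-- the cyclic subgroup of order `9` generated by `d9a` -/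
theorem Loc4.cyc_d9a {χ : G → ℂ} (hχ : Cfsg.IsCharacter G χ) (z : ℂ) (hz : z ^ 9 = 1) :
    ∃ m : ℕ, χ 1
      + χ (nf a₁ a₂ a₃ σ d9a) * conj z
      + χ (nf a₁ a₂ a₃ σ d9a) * conj z ^ 2
      + χ (nf a₁ a₂ a₃ σ dw3) * conj z ^ 3
      + χ (nf a₁ a₂ a₃ σ d9a) * conj z ^ 4
      + χ (nf a₁ a₂ a₃ σ d9a) * conj z ^ 5
      + χ (nf a₁ a₂ a₃ σ dw3) * conj z ^ 6
      + χ (nf a₁ a₂ a₃ σ d9a) * conj z ^ 7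
      + χ (nf a₁ a₂ a₃ σ d9a) * conj z ^ 8 = 9 * (m : ℂ) := by
  obtain ⟨m, hm⟩ := Tv.cyclic_mult hχ (nf a₁ a₂ a₃ σ d9a) 9 L.orderOf_d9a (by norm_num) z hz
  refine ⟨m, ?_⟩
  rw [sum_range_9] at hm
  simp only [map_pow] at hm
  rw [chi_of_isConj hχ L.conj_d9a_pow2, chi_of_isConj hχ L.conj_d9a_pow3,
    chi_of_isConj hχ L.conj_d9a_pow4, chi_of_isConj hχ L.conj_d9a_pow5,
    chi_of_isConj hχ L.conj_d9a_pow6, chi_of_isConj hχ L.conj_d9a_pow7,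
    chi_of_isConj hχ L.conj_d9a_pow8] at hm
  simp only [pow_zero, pow_one, mul_one] at hm
  push_cast at hm
  linear_combination hm

/-- the cyclic subgroup of order `9` generated by `d9b` -/
theorem Loc4.cyc_d9b {χ : G → ℂ} (hχ : Cfsg.IsCharacter G χ) (z : ℂ) (hz : z ^ 9 = 1) :
    ∃ m : ℕ, χ 1
      + χ (nf a₁ a₂ a₃ σ d9b) * conj z
      + χ (nf a₁ a₂ a₃ σ d9b) * conj z ^ 2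
      + χ (nf a₁ a₂ a₃ σ dw3) * conj z ^ 3
      + χ (nf a₁ a₂ a₃ σ d9b) * conj z ^ 4
      + χ (nf a₁ a₂ a₃ σ d9b) * conj z ^ 5
      + χ (nf a₁ a₂ a₃ σ dw3) * conj z ^ 6
      + χ (nf a₁ a₂ a₃ σ d9b) * conj z ^ 7
      + χ (nf a₁ a₂ a₃ σ d9b) * conj z ^ 8 = 9 * (m : ℂ) := by
  obtain ⟨m, hm⟩ := Tv.cyclic_mult hχ (nf a₁ a₂ a₃ σ d9b) 9 L.orderOf_d9b (by norm_num) z hz
  refine ⟨m, ?_⟩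
  rw [sum_range_9] at hm
  simp only [map_pow] at hm
  rw [chi_of_isConj hχ L.conj_d9b_pow2, chi_of_isConj hχ L.conj_d9b_pow3,
    chi_of_isConj hχ L.conj_d9b_pow4, chi_of_isConj hχ L.conj_d9b_pow5,
    chi_of_isConj hχ L.conj_d9b_pow6, chi_of_isConj hχ L.conj_d9b_pow7,
    chi_of_isConj hχ L.conj_d9b_pow8] at hm
  simp only [pow_zero, pow_one, mul_one] at hm
  push_cast at hm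
  linear_combination hm

theorem Loc4.exists_e1 {χ : G → ℂ} (hχ : Cfsg.IsCharacter G χ) :
    ∃ n : ℤ, 6 * (n : ℂ) = s3 * (χ (nf a₁ a₂ a₃ σ d12a) - χ (nf a₁ a₂ a₃ σ d12b)) := by
  obtain ⟨m, hm⟩ := L.cyc12 hχ (-Complex.I * om) z1_pow
  obtain ⟨m', hm'⟩ := L.cyc12 hχ (-Complex.I * om ^ 2) z5_pow
  rw [conj_z1] at hm
  rw [conj_z5] at hm'
  refine ⟨(m : ℤ) - m', ?_⟩
  push_cast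
  exact alg12_15 _ _ _ _ _ _ _ _ _ _ hm hm'

theorem Loc4.exists_e2 {χ : G → ℂ} (hχ : Cfsg.IsCharacter G χ) :
    ∃ n : ℤ, 12 * (n : ℂ) = s3 * (χ (nf a₁ a₂ a₃ σ d12a) - χ (nf a₁ a₂ a₃ σ d12b)) - 3 * χ (nf a₁ a₂ a₃ σ d6a) + 3 * χ (nf a₁ a₂ a₃ σ dw1) := by
  obtain ⟨m, hm⟩ := L.cyc12 hχ Complex.I z3_pow
  obtain ⟨m', hm'⟩ := L.cyc12 hχ (Complex.I * om) z7_pow
  rw [conj_z3] at hm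
  rw [conj_z7] at hm'
  refine ⟨(m : ℤ) - m', ?_⟩
  push_cast
  exact alg12_37 _ _ _ _ _ _ _ _ _ _ hm hm'

theorem Loc4.exists_e3 {χ : G → ℂ} (hχ : Cfsg.IsCharacter G χ) :
    ∃ n : ℤ, 4 * (n : ℂ) = χ (nf a₁ a₂ a₃ σ d12a) + χ (nf a₁ a₂ a₃ σ d12b) + χ (nf a₁ a₂ a₃ σ d6a) + χ (nf a₁ a₂ a₃ σ dw1) := by
  obtain ⟨m, hm⟩ := L.cyc12 hχ (1 : ℂ) z0_pow
  obtain ⟨m', hm'⟩ := L.cyc12 hχ om z4_pow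
  rw [conj_z0] at hm
  rw [conj_z4] at hm'
  refine ⟨(m : ℤ) - m', ?_⟩
  push_cast
  exact alg12_04 _ _ _ _ _ _ _ _ _ _ hm hm'

theorem Loc4.exists_e4 {χ : G → ℂ} (hχ : Cfsg.IsCharacter G χ) :
    ∃ n : ℤ, 4 * (n : ℂ) = χ (nf a₁ a₂ a₃ σ d12a) + χ (nf a₁ a₂ a₃ σ d12b) - χ (nf a₁ a₂ a₃ σ d6a) - χ (nf a₁ a₂ a₃ σ dw1) := by
  obtain ⟨m, hm⟩ := L.cyc12 hχ (-om ^ 2) z2_pow
  obtain ⟨m', hm'⟩ := L.cyc12 hχ (-1 : ℂ) z6_pow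
  rw [conj_z2] at hm
  rw [conj_z6] at hm'
  refine ⟨(m : ℤ) - m', ?_⟩
  push_cast
  exact alg12_26 _ _ _ _ _ _ _ _ _ _ hm hm'

theorem Loc4.exists_e5 {χ : G → ℂ} (hχ : Cfsg.IsCharacter G χ) :
    ∃ n : ℤ, 2 * (n : ℂ) = χ (nf a₁ a₂ a₃ σ d6b) + χ (nf a₁ a₂ a₃ σ dw2) := by
  obtain ⟨m, hm⟩ := L.cyc6 hχ 1 (one_pow 6)
  obtain ⟨m', hm'⟩ := L.cyc6 hχ om om_pow6
  rw [map_one] at hm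
  rw [conj_om] at hm'
  refine ⟨(m : ℤ) - m', ?_⟩
  push_cast
  exact alg6_02 _ _ _ _ _ _ hm hm'

theorem Loc4.exists_e6 {χ : G → ℂ} (hχ : Cfsg.IsCharacter G χ) :
    ∃ n : ℤ, 3 * (n : ℂ) = χ (nf a₁ a₂ a₃ σ d9a) - χ (nf a₁ a₂ a₃ σ dw3) := by
  obtain ⟨z, hz⟩ := IsAlgClosed.exists_pow_nat_eq om (n := 3) (by norm_num)
  have hz9 : z ^ 9 = 1 := by
    have : z ^ 9 = (z ^ 3) ^ 3 := by ring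
    rw [this, hz, om_cube]
  obtain ⟨m, hm⟩ := L.cyc_d9a hχ z hz9
  obtain ⟨m', hm'⟩ := L.cyc_d9a hχ om om_pow9
  rw [conj_om] at hm'
  have hw : conj z ^ 3 = om ^ 2 := by rw [← map_pow, hz, conj_om]
  refine ⟨(m : ℤ) - m', ?_⟩
  push_cast
  exact alg9_13 _ _ _ _ _ _ hw hm hm'

theorem Loc4.exists_e7 {χ : G → ℂ} (hχ : Cfsg.IsCharacter G χ) :
    ∃ n : ℤ, 3 * (n : ℂ) = χ (nf a₁ a₂ a₃ σ d9b) - χ (nf a₁ a₂ a₃ σ dw3) := by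
  obtain ⟨z, hz⟩ := IsAlgClosed.exists_pow_nat_eq om (n := 3) (by norm_num)
  have hz9 : z ^ 9 = 1 := by
    have : z ^ 9 = (z ^ 3) ^ 3 := by ring
    rw [this, hz, om_cube]
  obtain ⟨m, hm⟩ := L.cyc_d9b hχ z hz9
  obtain ⟨m', hm'⟩ := L.cyc_d9b hχ om om_pow9
  rw [conj_om] at hm'
  have hw : conj z ^ 3 = om ^ 2 := by rw [← map_pow, hz, conj_om]
  refine ⟨(m : ℤ) - m', ?_⟩
  push_cast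
  exact alg9_13 _ _ _ _ _ _ hw hm hm'

theorem Loc4.exists_j1 {χ : G → ℂ} (hχ : Cfsg.IsCharacter G χ) :
    ∃ n : ℤ, 9 * (n : ℂ) = (2 : ℂ) * χ (nf a₁ a₂ a₃ σ dw1) + (-1 : ℂ) * χ (nf a₁ a₂ a₃ σ dw2) + (-1 : ℂ) * χ (nf a₁ a₂ a₃ σ dw3) := by
  obtain ⟨m, hm⟩ := L.mult_100 hχ
  obtain ⟨m', hm'⟩ := L.mult_111 hχ
  refine ⟨(m : ℤ) - m', ?_⟩
  push_cast
  linear_combination (-1 / 3 : ℂ) * hm + (1 / 3 : ℂ) * hm'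

theorem Loc4.exists_j2 {χ : G → ℂ} (hχ : Cfsg.IsCharacter G χ) :
    ∃ n : ℤ, 9 * (n : ℂ) = (1 : ℂ) * χ (nf a₁ a₂ a₃ σ dw1) + (1 : ℂ) * χ (nf a₁ a₂ a₃ σ dw2) + (-2 : ℂ) * χ (nf a₁ a₂ a₃ σ dw3) := by
  obtain ⟨m, hm⟩ := L.mult_100 hχ
  obtain ⟨m', hm'⟩ := L.mult_110 hχ
  refine ⟨(m : ℤ) - m', ?_⟩
  push_cast
  linear_combination (-1 / 3 : ℂ) * hm + (1 / 3 : ℂ) * hm'

theorem Loc4.exists_j3 {χ : G → ℂ} (hχ : Cfsg.IsCharacter G χ) :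
    ∃ n : ℤ, 9 * (n : ℂ) = (1 : ℂ) * χ (nf a₁ a₂ a₃ σ dw1) + (4 : ℂ) * χ (nf a₁ a₂ a₃ σ dw2) + (4 : ℂ) * χ (nf a₁ a₂ a₃ σ dw3) := by
  obtain ⟨m, hm⟩ := L.mult_000 hχ
  obtain ⟨m', hm'⟩ := L.mult_100 hχ
  refine ⟨(m : ℤ) - m', ?_⟩
  push_cast
  linear_combination (-1 / 3 : ℂ) * hm + (1 / 3 : ℂ) * hm'

theorem Loc4.exists_j4 {χ : G → ℂ} (hχ : Cfsg.IsCharacter G χ) :
    ∃ n : ℤ, 9 * (n : ℂ) = (1 : ℂ) * χ (nf a₁ a₂ a₃ σ dw1) + (-2 : ℂ) * χ (nf a₁ a₂ a₃ σ dw2) + (1 : ℂ) * χ (nf a₁ a₂ a₃ σ dw3) := by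
  obtain ⟨m, hm⟩ := L.mult_110 hχ
  obtain ⟨m', hm'⟩ := L.mult_111 hχ
  refine ⟨(m : ℤ) - m', ?_⟩
  push_cast
  linear_combination (-1 / 3 : ℂ) * hm + (1 / 3 : ℂ) * hm'

end loc

/-- rational parts of the values of the basis `b₁ … b₉` of the lattice on the nine classes -/
def ANm : Fin 9 → Fin 9 → ℤ :=
  ![![0, 0, 0, 0, 0, 0, 0, 0, 0],
    ![-3, 3, 0, 0, 0, 0, 0, -6, -9],
    ![-9, -3, 0, 0, 0, 0, 3, 0, 0],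
    ![0, 0, 0, 0, 0, 3, -3, 0, 0],
    ![-3, -3, 0, -3, -3, 0, 0, -6, -9],
    ![-3, -3, 0, 3, 3, 0, 0, -6, -9],
    ![0, 0, -3, 0, 0, 0, -3, -9, 0],
    ![0, 0, 3, 0, 0, 0, -3, -9, 0],
    ![-9, -3, 0, 0, 0, -3, -3, 0, 0]]

/-- `√3`-parts of the values of the basis `b₁ … b₉` of the lattice on the nine classes -/
def BNm : Fin 9 → Fin 9 → ℤ :=
  ![![0, 0, 0, 2, -2, 0, 0, 0, 0],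
    ![0, 0, 0, -1, 1, 0, 0, 0, 0],
    ![0, 0, 0, 1, -1, 0, 0, 0, 0],
    ![0, 0, 0, 0, 0, 0, 0, 0, 0],
    ![0, 0, 0, 0, 0, 0, 0, 0, 0],
    ![0, 0, 0, 0, 0, 0, 0, 0, 0],
    ![0, 0, 0, 0, 0, 0, 0, 0, 0],
    ![0, 0, 0, 0, 0, 0, 0, 0, 0],
    ![0, 0, 0, 1, -1, 0, 0, 0, 0]]

/-- centralizer orders of the nine classes -/
def cNm : Fin 9 → ℤ := ![108, 12, 6, 12, 12, 9, 9, 54, 81]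

/-- `324 / cNm` -/
def mNm : Fin 9 → ℤ := ![3, 27, 54, 27, 27, 36, 36, 6, 4]

/-- the coefficients `b_i(d_k) / |C(d_k)|` -/
noncomputable def Kc (i k : Fin 9) : ℂ := ((ANm i k : ℂ) + (BNm i k : ℂ) * s3) / (cNm k : ℂ)

/-- representatives of the nine classes -/
def dD : Fin 9 → Md := ![dw1, d6a, d6b, d12a, d12b, d9a, d9b, dw2, dw3]

theorem sum_fin9 (f : Fin 9 → ℂ) : ∑ k, f k = f 0 + f 1 + f 2 + f 3 + f 4 + f 5 + f 6 + f 7 + f 8 := by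
  simp [Fin.sum_univ_succ]
  ring

section loc2

variable {G : Type*} [Group G] [Fintype G] {J H : Subgroup G} {a₁ a₂ a₃ : G} {σ : Fin 24 → G}
variable (L : Loc4 J H a₁ a₂ a₃ σ)
include L

/-- the nine integral linear forms -/
theorem Loc4.exists_V {χ : G → ℂ} (hχ : Cfsg.IsCharacter G χ) (i : Fin 9) :
    ∃ n : ℤ, (n : ℂ) = ∑ k : Fin 9, Kc i k * χ (nf a₁ a₂ a₃ σ (dD k)) := by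
  obtain ⟨e1, he1⟩ := L.exists_e1 hχ
  obtain ⟨e2, he2⟩ := L.exists_e2 hχ
  obtain ⟨e3, he3⟩ := L.exists_e3 hχ
  obtain ⟨e4, he4⟩ := L.exists_e4 hχ
  obtain ⟨e5, he5⟩ := L.exists_e5 hχ
  obtain ⟨e6, he6⟩ := L.exists_e6 hχ
  obtain ⟨e7, he7⟩ := L.exists_e7 hχ
  obtain ⟨j1, hj1⟩ := L.exists_j1 hχ
  obtain ⟨j2, hj2⟩ := L.exists_j2 hχ
  obtain ⟨j3, hj3⟩ := L.exists_j3 hχ
  obtain ⟨j4, hj4⟩ := L.exists_j4 hχ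
  rw [sum_fin9]
  fin_cases i
  · refine ⟨(1) * e1, ?_⟩
    simp [Kc, ANm, BNm, cNm, dD]
    linear_combination (1 / 6 : ℂ) * he1
  · refine ⟨(-1) * e2 + (1) * j1, ?_⟩
    simp [Kc, ANm, BNm, cNm, dD]
    linear_combination (-1 / 12 : ℂ) * he2 + (1 / 9 : ℂ) * hj1
  · refine ⟨(1) * e2 + (1) * e7 + (-1) * j2 + (-1) * j1, ?_⟩
    simp [Kc, ANm, BNm, cNm, dD]
    linear_combination (1 / 12 : ℂ) * he2 + (1 / 3 : ℂ) * he7 + (-1 / 9 : ℂ) * hj2 + (-1 / 9 : ℂ) * hj1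
  · refine ⟨(1) * e6 + (-1) * e7, ?_⟩
    simp [Kc, ANm, BNm, cNm, dD]
    linear_combination (1 / 3 : ℂ) * he6 + (-1 / 3 : ℂ) * he7
  · refine ⟨(-1) * e3 + (1) * j1, ?_⟩
    simp [Kc, ANm, BNm, cNm, dD]
    linear_combination (-1 / 4 : ℂ) * he3 + (1 / 9 : ℂ) * hj1
  · refine ⟨(1) * e4 + (1) * j1, ?_⟩
    simp [Kc, ANm, BNm, cNm, dD]
    linear_combination (1 / 4 : ℂ) * he4 + (1 / 9 : ℂ) * hj1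
  · refine ⟨(-1) * e5 + (-1) * e7 + (2) * j2 + (-1) * j1, ?_⟩
    simp [Kc, ANm, BNm, cNm, dD]
    linear_combination (-1 / 2 : ℂ) * he5 + (-1 / 3 : ℂ) * he7 + (2 / 9 : ℂ) * hj2 + (-1 / 9 : ℂ) * hj1
  · refine ⟨(1) * e5 + (-1) * e7 + (-1) * j3 + (1) * j4, ?_⟩
    simp [Kc, ANm, BNm, cNm, dD]
    linear_combination (1 / 2 : ℂ) * he5 + (-1 / 3 : ℂ) * he7 + (-1 / 9 : ℂ) * hj3 + (1 / 9 : ℂ) * hj4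
  · refine ⟨(1) * e2 + (-1) * e6 + (-1) * e7 + (-1) * j3 + (-2) * j4, ?_⟩
    simp [Kc, ANm, BNm, cNm, dD]
    linear_combination (1 / 12 : ℂ) * he2 + (-1 / 3 : ℂ) * he6 + (-1 / 3 : ℂ) * he7 + (-1 / 9 : ℂ) * hj3 + (-2 / 9 : ℂ) * hj4

end loc2

end Cfsg.Agent.Lib.Helper2.Emb4
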