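import Mathlib

/-! # The rank-`9` lattice of S3702: Gram matrix, the two admissible embeddings

`gramL` is the Gram matrix of a basis `b₁ … b₉` of the lattice of generalized characters of
`H = 3^3 : S_4` vanishing off the `3`-singular classes other than the class of `3`-cycles of
`S_4`; `M0` expresses `b_i` through the `14` irreducible characters of `H` (columns
`1, sgn, χ₂, χ₃, χ₃', a₀, a₁, a₂, a₃, e₀, e₁, t₀, t₁, t₂`), `M1` is the only other embedding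
compatible with the trivial character and the degree equations. -/

set_option autoImplicit false

namespace Cfsg.Agent.Lib.Helper2.Emb4

/-- Gram matrix of `b₁ … b₉` -/
def gramL : Fin 9 → Fin 9 → ℤ :=
  ![![2, -1, 1, 0, 0, 0, 0, 0, 1],
    ![-1, 3, -1, 0, 1, 1, 1, 1, -1],
    ![1, -1, 3, -1, 1, 1, -1, -1, 1],
    ![0, 0, -1, 2, 0, 0, 1, 1, 0],
    ![0, 1, 1, 0, 4, 1, 1, 1, 1],
    ![0, 1, 1, 0, 1, 4, 1, 1, 1],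
    ![0, 1, -1, 1, 1, 1, 4, 1, 1],
    ![0, 1, -1, 1, 1, 1, 1, 4, 1],
    ![1, -1, 1, 0, 1, 1, 1, 1, 4]]

/-- the coefficients of the trivial character in `b₁ … b₉` -/
def trivL : Fin 9 → ℤ := ![0, 0, 0, 0, -1, 0, -1, 0, -1]

/-- the coherent embedding -/
def M0 : Fin 9 → Fin 14 → ℤ :=
  ![![0, 0, 0, 0, 0, 0, -1, 0, 1, 0, 0, 0, 0, 0],
    ![0, 0, 0, -1, -1, 0, 1, 0, 0, 0, 0, 0, 0, 0],
    ![0, 0, -1, 0, 0, 0, -1, 0, 0, 0, 0, 0, 1, 0],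
    ![0, 0, 0, 0, 0, 0, 0, 0, 0, 0, 0, 0, -1, 1],
    ![-1, 0, -1, -1, 0, 1, 0, 0, 0, 0, 0, 0, 0, 0],
    ![0, -1, -1, 0, -1, 0, 0, 1, 0, 0, 0, 0, 0, 0],
    ![-1, 0, 0, 0, -1, 0, 0, 0, 0, 1, 0, 0, -1, 0],
    ![0, -1, 0, -1, 0, 0, 0, 0, 0, 0, 1, 0, -1, 0],
    ![-1, -1, 0, 0, 0, 0, -1, 0, 0, 0, 0, 1, 0, 0]]

/-- the second embedding -/
def M1 : Fin 9 → Fin 13 → ℤ :=
  ![![0, 1, 1, 0, 0, 0, 0, 0, 0, 0, 0, 0, 0],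
    ![0, 0, -1, 1, 1, 0, 0, 0, 0, 0, 0, 0, 0],
    ![0, 0, 1, 0, 0, 1, 1, 0, 0, 0, 0, 0, 0],
    ![0, 0, 0, 0, 0, 0, -1, 1, 0, 0, 0, 0, 0],
    ![-1, 0, 0, 0, 1, 1, 0, 0, 0, 0, 1, 0, 0],
    ![0, 0, 0, 1, 0, 1, 0, 0, 0, 1, 0, 1, 0],
    ![-1, 0, 0, 1, 0, 0, -1, 0, 0, 0, 0, 0, 1],
    ![0, 0, 0, 0, 1, 0, -1, 0, 1, 0, 0, 1, 0],
    ![-1, 0, 1, 0, 0, 0, 0, 0, 1, 1, 0, 0, 0]]

theorem M0_gram : ∀ i j : Fin 9, ∑ c : Fin 14, M0 i c * M0 j c = gramL i j := by decide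

theorem M1_gram : ∀ i j : Fin 9, ∑ c : Fin 13, M1 i c * M1 j c = gramL i j := by decide

theorem M0_triv : ∀ i : Fin 9, M0 i 0 = trivL i := by decide

theorem M1_triv : ∀ i : Fin 9, M1 i 0 = trivL i := by decide

end Cfsg.Agent.Lib.Helper2.Emb4
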