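import Mathlib
import Cfsg.Agent.Lib.Helper2.Emb4E
import Cfsg.Agent.Lib.Helper2.Emb4L
import Cfsg.Agent.Lib.Helper6.TvG
import Cfsg.Agent.Lib.Helper6.Regular

/-! # The nine integral linear forms: Gram matrix, degrees, trivial character, values on `J` -/

set_option autoImplicit false
set_option linter.style.haveILetI false
set_option linter.unusedSectionVars false
set_option linter.unusedSimpArgs false
open Cfsg

namespace Cfsg.Agent.Lib.Helper2.Emb4

open scoped ComplexConjugate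
open Cfsg.Agent.Lib.Helper6

theorem gram_num : ∀ i j : Fin 9,
    ∑ k, (ANm i k * ANm j k + 3 * (BNm i k * BNm j k)) * mNm k = 324 * gramL i j := by decide

theorem gram_num' : ∀ i j : Fin 9,
    ∑ k, (ANm i k * BNm j k + BNm i k * ANm j k) * mNm k = 0 := by decide

theorem triv_num : ∀ i : Fin 9, ∑ k, ANm i k * mNm k = 324 * trivL i := by decide

theorem triv_num' : ∀ i : Fin 9, ∑ k, BNm i k * mNm k = 0 := by decide

theorem mNm_mul : ∀ k : Fin 9, mNm k * cNm k = 324 := by decide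

/-- the coefficients of `χ(w_a)` in the nine forms -/
def Um : Fin 3 → Fin 9 → ℤ :=
  ![![3, -6, -8, -4, 3, 3, 0, 0, -4], ![0, 0, -2, 2, 0, 0, -3, -3, 2],
    ![-3, -3, 4, -1, -3, -3, 3, 3, -1]]

/-- the positions of `w₁, w₂, w₃` among the nine classes -/
def wIdx : Fin 3 → Fin 9 := ![0, 7, 8]

theorem U_num : ∀ (a : Fin 3) (k : Fin 9),
    ∑ i, Um a i * ANm i k = if k = wIdx a then cNm k else 0 := by decide

theorem U_num' : ∀ (a : Fin 3) (k : Fin 9), ∑ i, Um a i * BNm i k = 0 := by decide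

theorem cNm_ne (k : Fin 9) : (cNm k : ℂ) ≠ 0 := by
  have h2 : (mNm k : ℂ) * (cNm k : ℂ) = 324 := by exact_mod_cast mNm_mul k
  intro h; rw [h, mul_zero] at h2; norm_num at h2

theorem Kc_eq (i k : Fin 9) :
    Kc i k = ((ANm i k : ℂ) + (BNm i k : ℂ) * s3) * (mNm k : ℂ) / 324 := by
  have h2 : (mNm k : ℂ) * (cNm k : ℂ) = 324 := by exact_mod_cast mNm_mul k
  unfold Kc
  rw [div_eq_div_iff (cNm_ne k) (by norm_num)]
  linear_combination (-((ANm i k : ℂ) + (BNm i k : ℂ) * s3)) * h2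

theorem Kc_conj (i k : Fin 9) : conj (Kc i k) = Kc i k := by
  unfold Kc
  simp only [map_div₀, map_add, map_mul, map_intCast, conj_s3]

theorem gram_generic {ι : Type*} [Fintype ι] (x : Fin 9 → ι → ℂ) (v : Fin 9 → ι → ℤ)
    (horth : ∀ k l, ∑ χ, x k χ * conj (x l χ) = if k = l then (cNm k : ℂ) else 0)
    (hv : ∀ i χ, (v i χ : ℂ) = ∑ k, Kc i k * x k χ) (i j : Fin 9) :
    ∑ χ, v i χ * v j χ = gramL i j := by
  have h0 : ((∑ χ, v i χ * v j χ : ℤ) : ℂ) = ∑ k, Kc i k * Kc j k * (cNm k : ℂ) := by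
    push_cast
    calc ∑ χ, (v i χ : ℂ) * (v j χ : ℂ)
        = ∑ χ, (∑ k, Kc i k * x k χ) * conj (∑ l, Kc j l * x l χ) := by
          apply Finset.sum_congr rfl; intro χ _
          rw [← hv i χ, ← hv j χ, map_intCast]
      _ = ∑ χ, ∑ k, ∑ l, Kc i k * Kc j l * (x k χ * conj (x l χ)) := by
          apply Finset.sum_congr rfl; intro χ _
          rw [map_sum, Finset.sum_mul_sum]
          apply Finset.sum_congr rfl; intro k _
          apply Finset.sum_congr rfl; intro l _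
          rw [map_mul, Kc_conj]; ring
      _ = ∑ k, ∑ l, Kc i k * Kc j l * ∑ χ, x k χ * conj (x l χ) := by
          rw [Finset.sum_comm]
          apply Finset.sum_congr rfl; intro k _
          rw [Finset.sum_comm]
          apply Finset.sum_congr rfl; intro l _
          rw [Finset.mul_sum]
      _ = ∑ k, Kc i k * Kc j k * (cNm k : ℂ) := by
          apply Finset.sum_congr rfl; intro k _
          simp only [horth]
          rw [Finset.sum_eq_single k]
          · rw [if_pos rfl]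
          · intro l _ hl; rw [if_neg (Ne.symm hl), mul_zero]
          · intro h; exact absurd (Finset.mem_univ k) h
  have h1 : ∑ k, Kc i k * Kc j k * (cNm k : ℂ) = (gramL i j : ℂ) := by
    have e : ∀ k, Kc i k * Kc j k * (cNm k : ℂ)
        = (((ANm i k * ANm j k + 3 * (BNm i k * BNm j k)) * mNm k : ℤ) : ℂ) / 324
          + (((ANm i k * BNm j k + BNm i k * ANm j k) * mNm k : ℤ) : ℂ) / 324 * s3 := by
      intro k
      have h2 : (mNm k : ℂ) * (cNm k : ℂ) = 324 := by exact_mod_cast mNm_mul k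
      rw [Kc_eq, Kc_eq]
      push_cast
      linear_combination (((ANm i k : ℂ) + (BNm i k : ℂ) * s3) * ((ANm j k : ℂ) + (BNm j k : ℂ) * s3)
        * (mNm k : ℂ) / 324 ^ 2) * h2 + ((BNm i k : ℂ) * (BNm j k : ℂ) * (mNm k : ℂ) / 324) * s3_sq
    rw [Finset.sum_congr rfl (fun k _ => e k), Finset.sum_add_distrib, ← Finset.sum_mul,
      ← Finset.sum_div, ← Finset.sum_div, ← Int.cast_sum, ← Int.cast_sum, gram_num, gram_num']
    push_cast
    ring
  rw [h1] at h0
  exact_mod_cast h0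

theorem deg_generic {ι : Type*} [Fintype ι] (x : Fin 9 → ι → ℂ) (v : Fin 9 → ι → ℤ) (d : ι → ℤ)
    (hD : ∀ k, ∑ χ, x k χ * (d χ : ℂ) = 0)
    (hv : ∀ i χ, (v i χ : ℂ) = ∑ k, Kc i k * x k χ) (i : Fin 9) :
    ∑ χ, v i χ * d χ = 0 := by
  have : ((∑ χ, v i χ * d χ : ℤ) : ℂ) = 0 := by
    push_cast
    calc ∑ χ, (v i χ : ℂ) * (d χ : ℂ) = ∑ χ, ∑ k, Kc i k * (x k χ * (d χ : ℂ)) := by
          apply Finset.sum_congr rfl; intro χ _
          rw [hv, Finset.sum_mul]
          apply Finset.sum_congr rfl; intro k _; ring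
      _ = ∑ k, Kc i k * ∑ χ, x k χ * (d χ : ℂ) := by
          rw [Finset.sum_comm]
          apply Finset.sum_congr rfl; intro k _
          rw [Finset.mul_sum]
      _ = 0 := by simp [hD]
  exact_mod_cast this

theorem triv_generic {ι : Type*} (x : Fin 9 → ι → ℂ) (v : Fin 9 → ι → ℤ) (t0 : ι)
    (hT : ∀ k, x k t0 = 1)
    (hv : ∀ i χ, (v i χ : ℂ) = ∑ k, Kc i k * x k χ) (i : Fin 9) :
    v i t0 = trivL i := by
  have : (v i t0 : ℂ) = (trivL i : ℂ) := by
    rw [hv]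
    simp only [hT, mul_one]
    have e : ∀ k, Kc i k = ((ANm i k * mNm k : ℤ) : ℂ) / 324
        + ((BNm i k * mNm k : ℤ) : ℂ) / 324 * s3 := by
      intro k; rw [Kc_eq]; push_cast; ring
    rw [Finset.sum_congr rfl (fun k _ => e k), Finset.sum_add_distrib, ← Finset.sum_mul,
      ← Finset.sum_div, ← Finset.sum_div, ← Int.cast_sum, ← Int.cast_sum, triv_num, triv_num']
    push_cast
    ring
  exact_mod_cast this

theorem wval_generic {ι : Type*} (x : Fin 9 → ι → ℂ) (v : Fin 9 → ι → ℤ)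
    (hv : ∀ i χ, (v i χ : ℂ) = ∑ k, Kc i k * x k χ) (a : Fin 3) (χ : ι) :
    x (wIdx a) χ = ((∑ i, Um a i * v i χ : ℤ) : ℂ) := by
  push_cast
  have e : ∀ k, ∑ i, (Um a i : ℂ) * Kc i k = if k = wIdx a then 1 else 0 := by
    intro k
    have h1 := cNm_ne k
    have : ∑ i, (Um a i : ℂ) * Kc i k
        = (((∑ i, Um a i * ANm i k : ℤ) : ℂ) + ((∑ i, Um a i * BNm i k : ℤ) : ℂ) * s3)
          / (cNm k : ℂ) := by
      unfold Kc
      push_cast
      rw [Finset.sum_mul, ← Finset.sum_add_distrib, Finset.sum_div]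
      apply Finset.sum_congr rfl; intro i _; ring
    rw [this, U_num, U_num']
    split_ifs with h
    · push_cast; field_simp; ring
    · push_cast; simp
  calc x (wIdx a) χ = ∑ k, (if k = wIdx a then (1 : ℂ) else 0) * x k χ := by simp
    _ = ∑ k, (∑ i, (Um a i : ℂ) * Kc i k) * x k χ := by simp only [e]
    _ = ∑ i, (Um a i : ℂ) * ∑ k, Kc i k * x k χ := by
        simp only [Finset.sum_mul, Finset.mul_sum]
        rw [Finset.sum_comm]
        apply Finset.sum_congr rfl; intro i _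
        apply Finset.sum_congr rfl; intro k _; ring
    _ = ∑ i, (Um a i : ℂ) * (v i χ : ℂ) := by simp only [hv]

section loc

variable {G : Type*} [Group G] [Fintype G] {J H : Subgroup G} {a₁ a₂ a₃ : G} {σ : Fin 24 → G}
variable (L : Loc4 J H a₁ a₂ a₃ σ)
include L

theorem Loc4.not_conj_dD {k l : Fin 9} (hkl : k ≠ l) :
    ¬ IsConj (nf a₁ a₂ a₃ σ (dD k)) (nf a₁ a₂ a₃ σ (dD l)) := by
  intro h
  fin_cases k <;> fin_cases l
  · exact absurd rfl hkl
  · exact L.not_conj_dw1_d6a h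
  · exact L.not_conj_dw1_d6b h
  · exact L.not_conj_dw1_d12a h
  · exact L.not_conj_dw1_d12b h
  · exact L.not_conj_d9a_dw1 h.symm
  · exact L.not_conj_d9b_dw1 h.symm
  · exact L.not_conj_dw1_dw2 h
  · exact L.not_conj_dw1_dw3 h
  · exact L.not_conj_dw1_d6a h.symm
  · exact absurd rfl hkl
  · exact L.not_conj_d6a_d6b h
  · exact L.not_conj_d6a_d12a h
  · exact L.not_conj_d6a_d12b h
  · exact L.not_conj_d9a_d6a h.symm
  · exact L.not_conj_d9b_d6a h.symm
  · exact L.not_conj_d6a_dw2 h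
  · exact L.not_conj_d6a_dw3 h
  · exact L.not_conj_dw1_d6b h.symm
  · exact L.not_conj_d6a_d6b h.symm
  · exact absurd rfl hkl
  · exact L.not_conj_d6b_d12a h
  · exact L.not_conj_d6b_d12b h
  · exact L.not_conj_d9a_d6b h.symm
  · exact L.not_conj_d9b_d6b h.symm
  · exact L.not_conj_d6b_dw2 h
  · exact L.not_conj_d6b_dw3 h
  · exact L.not_conj_dw1_d12a h.symm
  · exact L.not_conj_d6a_d12a h.symm
  · exact L.not_conj_d6b_d12a h.symm
  · exact absurd rfl hkl
  · exact L.not_conj_d12a_d12b h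
  · exact L.not_conj_d9a_d12a h.symm
  · exact L.not_conj_d9b_d12a h.symm
  · exact L.not_conj_d12a_dw2 h
  · exact L.not_conj_d12a_dw3 h
  · exact L.not_conj_dw1_d12b h.symm
  · exact L.not_conj_d6a_d12b h.symm
  · exact L.not_conj_d6b_d12b h.symm
  · exact L.not_conj_d12a_d12b h.symm
  · exact absurd rfl hkl
  · exact L.not_conj_d9a_d12b h.symm
  · exact L.not_conj_d9b_d12b h.symm
  · exact L.not_conj_d12b_dw2 h
  · exact L.not_conj_d12b_dw3 h
  · exact L.not_conj_d9a_dw1 h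
  · exact L.not_conj_d9a_d6a h
  · exact L.not_conj_d9a_d6b h
  · exact L.not_conj_d9a_d12a h
  · exact L.not_conj_d9a_d12b h
  · exact absurd rfl hkl
  · exact L.not_conj_d9a_d9b h
  · exact L.not_conj_d9a_dw2 h
  · exact L.not_conj_d9a_dw3 h
  · exact L.not_conj_d9b_dw1 h
  · exact L.not_conj_d9b_d6a h
  · exact L.not_conj_d9b_d6b h
  · exact L.not_conj_d9b_d12a h
  · exact L.not_conj_d9b_d12b h
  · exact L.not_conj_d9a_d9b h.symm
  · exact absurd rfl hkl
  · exact L.not_conj_d9b_dw2 h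
  · exact L.not_conj_d9b_dw3 h
  · exact L.not_conj_dw1_dw2 h.symm
  · exact L.not_conj_d6a_dw2 h.symm
  · exact L.not_conj_d6b_dw2 h.symm
  · exact L.not_conj_d12a_dw2 h.symm
  · exact L.not_conj_d12b_dw2 h.symm
  · exact L.not_conj_d9a_dw2 h.symm
  · exact L.not_conj_d9b_dw2 h.symm
  · exact absurd rfl hkl
  · exact L.not_conj_dw2_dw3 h
  · exact L.not_conj_dw1_dw3 h.symm
  · exact L.not_conj_d6a_dw3 h.symm
  · exact L.not_conj_d6b_dw3 h.symm
  · exact L.not_conj_d12a_dw3 h.symm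
  · exact L.not_conj_d12b_dw3 h.symm
  · exact L.not_conj_d9a_dw3 h.symm
  · exact L.not_conj_d9b_dw3 h.symm
  · exact L.not_conj_dw2_dw3 h.symm
  · exact absurd rfl hkl

theorem Loc4.card_cent_dD (k : Fin 9) :
    (Nat.card (Subgroup.centralizer ({nf a₁ a₂ a₃ σ (dD k)} : Set G)) : ℂ) = (cNm k : ℂ) := by
  fin_cases k
  · rw [show dD _ = dw1 from rfl, L.card_centralizer_dw1]; norm_num [cNm]
  · rw [show dD _ = d6a from rfl, L.card_centralizer_d6a]; norm_num [cNm]
  · rw [show dD _ = d6b from rfl, L.card_centralizer_d6b]; norm_num [cNm]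
  · rw [show dD _ = d12a from rfl, L.card_centralizer_d12a]; norm_num [cNm]
  · rw [show dD _ = d12b from rfl, L.card_centralizer_d12b]; norm_num [cNm]
  · rw [show dD _ = d9a from rfl, L.card_centralizer_d9a]; norm_num [cNm]
  · rw [show dD _ = d9b from rfl, L.card_centralizer_d9b]; norm_num [cNm]
  · rw [show dD _ = dw2 from rfl, L.card_centralizer_dw2]; norm_num [cNm]
  · rw [show dD _ = dw3 from rfl, L.card_centralizer_dw3]; norm_num [cNm]

theorem Loc4.dD_ne_one (k : Fin 9) : nf a₁ a₂ a₃ σ (dD k) ≠ 1 := by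
  have key : ∀ k : Fin 9, dD k ≠ (0, 0) := by decide
  rw [← L.nf_one]
  intro h
  exact key k (L.nf_inj h)

variable [Fintype (Cfsg.IrrCharacter G)]

theorem Loc4.orth (k l : Fin 9) :
    ∑ χ : Cfsg.IrrCharacter G, (χ : G → ℂ) (nf a₁ a₂ a₃ σ (dD k))
      * conj ((χ : G → ℂ) (nf a₁ a₂ a₃ σ (dD l))) = if k = l then (cNm k : ℂ) else 0 := by
  obtain ⟨h1, h2⟩ := sum_irr_mul_conj (nf a₁ a₂ a₃ σ (dD k)) (nf a₁ a₂ a₃ σ (dD l))
  by_cases hkl : k = l
  · subst hkl
    rw [if_pos rfl, h1 (IsConj.refl _), L.card_cent_dD]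
  · rw [if_neg hkl, h2 (L.not_conj_dD hkl)]

theorem Loc4.degsum [DecidableEq G] (k : Fin 9) :
    ∑ χ : Cfsg.IrrCharacter G, (χ : G → ℂ) (nf a₁ a₂ a₃ σ (dD k))
      * ((Cfsg.charDegree (χ : G → ℂ) : ℤ) : ℂ) = 0 := by
  have := sum_irr_apply_mul_apply_one (nf a₁ a₂ a₃ σ (dD k))
  rw [if_neg (L.dD_ne_one k)] at this
  rw [← this]
  apply Finset.sum_congr rfl; intro χ _
  rw [IsCharacter.apply_one_eq_charDegree (IsIrrCharacter.isCharacter χ.2)]
  push_cast
  rfl

theorem Loc4.exists_vfun : ∃ v : Fin 9 → Cfsg.IrrCharacter G → ℤ,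
    ∀ (i : Fin 9) (χ : Cfsg.IrrCharacter G),
      (v i χ : ℂ) = ∑ k, Kc i k * (χ : G → ℂ) (nf a₁ a₂ a₃ σ (dD k)) := by
  choose v hv using fun (p : Fin 9 × Cfsg.IrrCharacter G) =>
    L.exists_V (IsIrrCharacter.isCharacter p.2.2) p.1
  exact ⟨fun i χ => v (i, χ), fun i χ => hv (i, χ)⟩

end loc

end Cfsg.Agent.Lib.Helper2.Emb4
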