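import Mathlib
import Cfsg.Agent.Lib.Helper2.Emb4C
import Cfsg.Agent.Lib.Helper6.TvA
import Cfsg.Agent.Lib.Helper6.TvH

/-! # The `(3,3,3)`-triangle lemma for the `3^3 : S_4` configuration and local class
multiplication constants -/

set_option autoImplicit false
set_option linter.style.haveILetI false
set_option linter.unusedSectionVars false
open Cfsg

namespace Cfsg.Agent.Lib.Helper2.Emb4

open Cfsg.Agent.Lib.Helper6
open Cfsg.Agent.Lib.Helper2.Emb3 (V phi phi_zero three_nsmul)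

section tri

variable {G : Type*} [Group G] [Finite G]

/-- the `(3,3,3)` triangle group: an abelian subgroup `A` normalized by `a`, containing
`a b⁻¹`, and either `A` has an element of order `3` or `a` is conjugate to `(a b)⁻¹` -/
theorem tri_main (a b : G) (ha3 : a ^ 3 = 1) (hb3 : b ^ 3 = 1) (hab3 : (a * b) ^ 3 = 1) :
    ∃ A : Subgroup G, (∀ x ∈ A, ∀ z ∈ A, x * z = z * x) ∧ (∀ x ∈ A, a⁻¹ * x * a ∈ A) ∧
      a * b⁻¹ ∈ A ∧ ((∃ x ∈ A, x ≠ 1 ∧ x ^ 3 = 1) ∨ IsConj a (a * b)⁻¹) := by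
  classical
  haveI : Fintype G := Fintype.ofFinite G
  haveI : Fact (Nat.Prime 3) := ⟨Nat.prime_three⟩
  obtain ⟨u, hu⟩ : ∃ u : G, u = a * b⁻¹ := ⟨_, rfl⟩
  obtain ⟨u', hu'⟩ : ∃ u' : G, u' = b⁻¹ * a := ⟨_, rfl⟩
  have huu' : u * u' = u' * u := by rw [hu, hu']; exact Tn.comm_of_cube a b ha3 hb3 hab3
  obtain ⟨A, hA⟩ : ∃ A : Subgroup G, A = Subgroup.closure ({u, u'} : Set G) := ⟨_, rfl⟩
  have huA : u ∈ A := by rw [hA]; exact Subgroup.subset_closure (by simp)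
  have hu'A : u' ∈ A := by rw [hA]; exact Subgroup.subset_closure (by simp)
  have hAcomm : ∀ x ∈ A, ∀ z ∈ A, x * z = z * x := by
    rw [hA]; exact Tn.closure_pair_comm u u' huu'
  -- conjugation by `a⁻¹` maps `A` into itself
  have hκ : ∀ x ∈ A, a⁻¹ * x * a ∈ A := by
    intro x hx
    rw [hA] at hx
    induction hx using Subgroup.closure_induction with
    | mem w hw =>
      rcases hw with rfl | hw
      · have : a⁻¹ * w * a = u' := by rw [hu', hu]; group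
        rw [this]; exact hu'A
      · rw [Set.mem_singleton_iff] at hw
        have h1 : u * u' = a * b * a := by
          rw [hu, hu']
          calc a * b⁻¹ * (b⁻¹ * a) = a * (b⁻¹ * b⁻¹) * a := by group
            _ = a * b * a := by rw [Tn.inv_mul_inv_of_cube hb3]
        have : a⁻¹ * w * a = (u * u')⁻¹ := by
          rw [h1, hw, hu']
          calc a⁻¹ * (b⁻¹ * a) * a = a⁻¹ * b⁻¹ * (a * a) := by group
            _ = a⁻¹ * b⁻¹ * a⁻¹ := by rw [Tn.mul_self_of_cube ha3]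
            _ = (a * b * a)⁻¹ := by group
        rw [this]
        exact Subgroup.inv_mem _ (Subgroup.mul_mem _ huA hu'A)
    | one => simp
    | mul x z _ _ hx hz =>
      have : a⁻¹ * (x * z) * a = (a⁻¹ * x * a) * (a⁻¹ * z * a) := by group
      rw [this]; exact Subgroup.mul_mem _ hx hz
    | inv x _ hx =>
      have : a⁻¹ * x⁻¹ * a = (a⁻¹ * x * a)⁻¹ := by group
      rw [this]; exact Subgroup.inv_mem _ hx
  obtain ⟨v', hv'⟩ : ∃ v' : G, v' = a⁻¹ * u⁻¹ * a := ⟨_, rfl⟩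
  have hv'A : v' ∈ A := by rw [hv']; exact hκ _ (Subgroup.inv_mem _ huA)
  have hab' : a * b = a⁻¹ * v' := by
    rw [hv', hu]
    have e6 : a = a⁻¹ * a⁻¹ := (Tn.inv_mul_inv_of_cube ha3).symm
    calc a * b = (a⁻¹ * a⁻¹) * b := by rw [← e6]
      _ = a⁻¹ * (a⁻¹ * (a * b⁻¹)⁻¹ * a) := by group
  refine ⟨A, hAcomm, hκ, by rw [← hu]; exact huA, ?_⟩
  by_cases h3 : ∃ x ∈ A, x ≠ 1 ∧ x ^ 3 = 1
  · exact Or.inl h3
  · right
    have h3' : ∀ x ∈ A, x ^ 3 = 1 → x = 1 := by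
      intro x hx hx3
      by_contra hx1
      exact h3 ⟨x, hx, hx1, hx3⟩
    -- cubing is a bijection of `A`
    let cube : A → A := fun x => x ^ 3
    have hcinj : Function.Injective cube := by
      intro x z hxz
      have h4 : (x : G) ^ 3 = (z : G) ^ 3 := by
        have := congrArg Subtype.val hxz
        simpa [cube] using this
      have hxz' : (x : G) * (z : G)⁻¹ ∈ A := Subgroup.mul_mem _ x.2 (Subgroup.inv_mem _ z.2)
      have hc : Commute (x : G) (z : G)⁻¹ := hAcomm _ x.2 _ (Subgroup.inv_mem _ z.2)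
      have h5 : ((x : G) * (z : G)⁻¹) ^ 3 = 1 := by
        rw [hc.mul_pow, inv_pow, h4, mul_inv_cancel]
      exact Subtype.ext (mul_inv_eq_one.mp (h3' _ hxz' h5))
    have hcsurj : Function.Surjective cube := Finite.injective_iff_surjective.mp hcinj
    obtain ⟨v₀', hv₀'⟩ := hcsurj ⟨v'⁻¹, Subgroup.inv_mem _ hv'A⟩
    obtain ⟨v₀, hv₀A, hv₀⟩ : ∃ v₀ : G, v₀ ∈ A ∧ v₀ * v₀ * v₀ = v'⁻¹ := by
      refine ⟨(v₀' : G), v₀'.2, ?_⟩
      have := congrArg Subtype.val hv₀'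
      simp only [cube, Subgroup.coe_pow] at this
      rw [← this, pow_succ, pow_two]
    obtain ⟨k1, hk1⟩ : ∃ k1 : G, k1 = a⁻¹ * v₀ * a := ⟨_, rfl⟩
    obtain ⟨k2, hk2⟩ : ∃ k2 : G, k2 = a⁻¹ * k1 * a := ⟨_, rfl⟩
    have hk1A : k1 ∈ A := by rw [hk1]; exact hκ _ hv₀A
    have hk2A : k2 ∈ A := by rw [hk2]; exact hκ _ hk1A
    have hk3 : a⁻¹ * k2 * a = v₀ := by
      rw [hk2, hk1]
      have e1 : a⁻¹ * (a⁻¹ * (a⁻¹ * v₀ * a) * a) * a = (a ^ 3)⁻¹ * v₀ * a ^ 3 := by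
        rw [pow_succ, pow_two]; group
      rw [e1, ha3]; group
    obtain ⟨f, hf⟩ : ∃ f : G, f = v₀ * k1 * k2 := ⟨_, rfl⟩
    have hfA : f ∈ A := by
      rw [hf]; exact Subgroup.mul_mem _ (Subgroup.mul_mem _ hv₀A hk1A) hk2A
    have h01 : v₀ * k1 = k1 * v₀ := hAcomm _ hv₀A _ hk1A
    have h02 : v₀ * k2 = k2 * v₀ := hAcomm _ hv₀A _ hk2A
    have h12 : k1 * k2 = k2 * k1 := hAcomm _ hk1A _ hk2A
    have hfa : a⁻¹ * f * a = f := by
      have e1 : a⁻¹ * f * a = (a⁻¹ * v₀ * a) * (a⁻¹ * k1 * a) * (a⁻¹ * k2 * a) := by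
        rw [hf]; group
      rw [e1, ← hk1, ← hk2, hk3, hf]
      calc k1 * k2 * v₀ = k1 * (k2 * v₀) := by group
        _ = k1 * (v₀ * k2) := by rw [h02]
        _ = (k1 * v₀) * k2 := by group
        _ = v₀ * k1 * k2 := by rw [h01]
    have hfcomm : Commute a⁻¹ f⁻¹ := by
      have e1 : f * a = a * f := by
        calc f * a = a * (a⁻¹ * f * a) := by group
          _ = a * f := by rw [hfa]
      have e2 : Commute f a := e1
      exact (e2.inv_inv).symm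
    obtain ⟨z, hz⟩ : ∃ z : G, z = (v₀ * v₀ * k1)⁻¹ := ⟨_, rfl⟩
    have hzA : z ∈ A := by
      rw [hz]
      exact Subgroup.inv_mem _ (Subgroup.mul_mem _ (Subgroup.mul_mem _ hv₀A hv₀A) hk1A)
    have hκz : a⁻¹ * z * a = (k1 * k1 * k2)⁻¹ := by
      rw [hz, hk2, hk1]; group
    -- `a b` is conjugate to `a⁻¹ f⁻¹`
    have hconj : (a⁻¹ * z * a) * (a⁻¹ * f⁻¹) * (a⁻¹ * z * a)⁻¹ = a * b := by
      rw [hab']
      have e1 : (a⁻¹ * z * a) * (a⁻¹ * f⁻¹) * (a⁻¹ * z * a)⁻¹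
          = a⁻¹ * (z * f⁻¹ * (a⁻¹ * z * a)⁻¹) := by group
      rw [e1, hκz, hz, hf, inv_inv]
      have e2 := Tv.comm_id3 v₀ k1 k2 h01 h02 h12
      have e3 : v' = (v₀ * v₀ * v₀)⁻¹ := by rw [hv₀, inv_inv]
      rw [e3, ← e2]
    have hf1 : f = 1 := by
      apply h3' f hfA
      have e1 : ((a⁻¹ * z * a) * (a⁻¹ * f⁻¹) * (a⁻¹ * z * a)⁻¹) ^ 3 = 1 := by
        rw [hconj]; exact hab3
      rw [conj_pow] at e1
      have e2 : (a⁻¹ * f⁻¹) ^ 3 = 1 := by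
        have : (a⁻¹ * f⁻¹) ^ 3 = (a⁻¹ * z * a)⁻¹
            * ((a⁻¹ * z * a) * (a⁻¹ * f⁻¹) ^ 3 * (a⁻¹ * z * a)⁻¹) * (a⁻¹ * z * a) := by group
        rw [this, e1]; group
      rw [hfcomm.mul_pow, inv_pow, ha3, inv_one, one_mul, inv_pow, inv_eq_one] at e2
      exact e2
    rw [isConj_comm, isConj_iff]
    refine ⟨(a⁻¹ * z * a)⁻¹, ?_⟩
    rw [← hconj, hf1]
    group

end tri

set_option maxRecDepth 100000 in
theorem stab3_of_fix : ∀ (v : V) (k : Fin 24), v ≠ 0 → k ≠ 0 → mt (mt k k) k = 0 →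
    act k v = v → stabN v = 3 := by decide +kernel

theorem stab3_of_commute (v : V) (p : Md) (hv : v ≠ 0) (hp2 : p.2 ≠ 0)
    (hp3 : mpow p 3 = (0, 0)) (hc : mmul (v, 0) p = mmul p (v, 0)) : stabN v = 3 := by
  apply stab3_of_fix v p.2 hv hp2
  · have h := congrArg Prod.snd hp3
    simp only [mpow, mmul] at h
    rw [mt_zero_left] at h
    exact h
  · have h := congrArg Prod.fst hc
    simp only [mmul] at h
    rw [act_zero] at h
    have h' : v + p.1 = act p.2 v + p.1 := by rw [h]; exact add_comm _ _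
    exact (add_right_cancel h').symm

set_option maxRecDepth 100000 in
theorem stabN_act : ∀ (k : Fin 24) (v : V), stabN (act k v) = stabN v := by decide +kernel

set_option maxRecDepth 100000 in
theorem stabN_neg : ∀ v : V, stabN (-v) = stabN v := by decide +kernel

theorem isPGroup_zpowers_of_cube {G : Type*} [Group G] {g : G} (h3 : g ^ 3 = 1) :
    IsPGroup 3 (Subgroup.zpowers g) := by
  intro w
  obtain ⟨k, hk⟩ := Subgroup.mem_zpowers_iff.mp w.2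
  refine ⟨1, Subtype.ext ?_⟩
  rw [pow_one]
  simp only [Subgroup.coe_pow, Subgroup.coe_one]
  rw [← hk, ← zpow_natCast, ← zpow_mul, mul_comm, zpow_mul, zpow_natCast, h3, one_zpow]

theorem isPGroup_of_cube {G : Type*} [Group G] (T : Subgroup G) (hT3 : ∀ x ∈ T, x ^ 3 = 1) :
    IsPGroup 3 T := by
  intro x
  refine ⟨1, Subtype.ext ?_⟩
  rw [pow_one]
  simpa using hT3 x x.2

/-- the elements of order dividing `3` in an abelian subgroup -/
def cubeSub {G : Type*} [Group G] (A : Subgroup G) (hA : ∀ x ∈ A, ∀ z ∈ A, x * z = z * x) :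
    Subgroup G where
  carrier := {x | x ∈ A ∧ x ^ 3 = 1}
  mul_mem' := by
    rintro x y ⟨hx, hx3⟩ ⟨hy, hy3⟩
    refine ⟨A.mul_mem hx hy, ?_⟩
    have hc : Commute x y := hA x hx y hy
    rw [hc.mul_pow, hx3, hy3, one_mul]
  one_mem' := ⟨A.one_mem, one_pow 3⟩
  inv_mem' := by
    rintro x ⟨hx, hx3⟩
    exact ⟨A.inv_mem hx, by rw [inv_pow, hx3, inv_one]⟩

section loc

variable {G : Type*} [Group G] [Finite G] {J H : Subgroup G} {a₁ a₂ a₃ : G} {σ : Fin 24 → G}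
variable (L : Loc4 J H a₁ a₂ a₃ σ)
include L

theorem Loc4.cube_of_isConj {v : V} {p : G} (h : IsConj (phi a₁ a₂ a₃ v) p) : p ^ 3 = 1 := by
  obtain ⟨g, hg⟩ := _root_.isConj_iff.mp h
  rw [← hg, conj_pow, L.exp _ (L.mem v)]
  group

theorem Loc4.conj_mem_J {h s : G} (hh : h ∈ H) (hs : s ∈ J) : h * s * h⁻¹ ∈ J :=
  L.sc s hs h (H.mul_mem (H.mul_mem hh (L.J_le_H hs)) (H.inv_mem hh))

theorem Loc4.mem_H_of_conj_J {g s : G} (hs : s ∈ J) (hs1 : s ≠ 1) (hg : g * s * g⁻¹ ∈ J) :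
    g ∈ H := by
  obtain ⟨u, hu⟩ := L.range hs
  obtain ⟨v, hv⟩ := L.range hg
  have hu0 : u ≠ 0 := by
    rintro rfl
    exact hs1 (by rw [hu, phi_zero])
  exact (L.mem_H_of_conj (v := v) hu0 (by rw [← hu, ← hv])).1

/-- a `3`-subgroup of `G` meeting `J` nontrivially lies in `H` -/
theorem Loc4.le_H_of_pgroup (Q : Subgroup G) (hQ : IsPGroup 3 Q) {z : G} (hzQ : z ∈ Q)
    (hzJ : z ∈ J) (hz1 : z ≠ 1) : Q ≤ H := by
  classical
  haveI : Fact (Nat.Prime 3) := ⟨Nat.prime_three⟩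
  by_contra hle
  have hQ0 : H.subgroupOf Q ≠ ⊤ := by
    intro h
    apply hle
    intro x hx
    have : (⟨x, hx⟩ : Q) ∈ H.subgroupOf Q := by rw [h]; exact Subgroup.mem_top _
    exact Subgroup.mem_subgroupOf.mp this
  haveI : Group.IsNilpotent Q := hQ.isNilpotent
  have hlt := Group.normalizerCondition_of_isNilpotent (G := Q) (H.subgroupOf Q)
    (lt_top_iff_ne_top.mpr hQ0)
  obtain ⟨g, hgN, hgQ0⟩ := SetLike.exists_of_lt hlt
  have hz' : (⟨z, hzQ⟩ : Q) ∈ H.subgroupOf Q := Subgroup.mem_subgroupOf.mpr (L.J_le_H hzJ)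
  have h1 : g * ⟨z, hzQ⟩ * g⁻¹ ∈ H.subgroupOf Q :=
    (Subgroup.mem_normalizer_iff.mp hgN _).mp hz'
  have h2 : (g : G) * z * (g : G)⁻¹ ∈ H := by
    have := Subgroup.mem_subgroupOf.mp h1
    simpa using this
  have h3 : (g : G) * z * (g : G)⁻¹ ∈ J := L.sc z hzJ g h2
  exact hgQ0 (Subgroup.mem_subgroupOf.mpr (L.mem_H_of_conj_J hzJ hz1 h3))

/-- if a conjugate `a` of `phi v` normalizes a nontrivial subgroup `T` of exponent `3` none
of whose nonidentity elements is conjugate into `J`, then `v` has weight `3` -/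
theorem Loc4.stab_three {v : V} (hv : v ≠ 0) {g a : G} (ha : a = g * phi a₁ a₂ a₃ v * g⁻¹)
    (T : Subgroup G) (hT3 : ∀ x ∈ T, x ^ 3 = 1) (haT : ∀ x, x ∈ T ↔ a * x * a⁻¹ ∈ T)
    (hTJ : ∀ x ∈ T, ∀ c : G, c * x * c⁻¹ ∈ J → x = 1) {x0 : G} (hx0 : x0 ∈ T)
    (hx01 : x0 ≠ 1) : stabN v = 3 := by
  classical
  haveI : Fact (Nat.Prime 3) := ⟨Nat.prime_three⟩
  obtain ⟨s, hs⟩ : ∃ s : G, s = phi a₁ a₂ a₃ v := ⟨_, rfl⟩
  have hsJ : s ∈ J := by rw [hs]; exact L.mem v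
  have hs1 : s ≠ 1 := by rw [hs]; exact L.phi_ne_one hv
  have hs3 : s ^ 3 = 1 := L.exp s hsJ
  obtain ⟨T', hT'⟩ : ∃ T' : Subgroup G, T' = T.comap (MulAut.conj g).toMonoidHom := ⟨_, rfl⟩
  have hmem : ∀ x, x ∈ T' ↔ g * x * g⁻¹ ∈ T := by
    intro x
    rw [hT']
    simp [Subgroup.mem_comap, MulAut.conj_apply]
  have hT'3 : ∀ x ∈ T', x ^ 3 = 1 := by
    intro x hx
    have h := hT3 _ ((hmem x).mp hx)
    rw [conj_pow] at h
    have : x ^ 3 = g⁻¹ * (g * x ^ 3 * g⁻¹) * g := by group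
    rw [this, h]; group
  have hsN : ∀ x, x ∈ T' ↔ s * x * s⁻¹ ∈ T' := by
    intro x
    rw [hmem, hmem, haT (g * x * g⁻¹)]
    have : a * (g * x * g⁻¹) * a⁻¹ = g * (s * x * s⁻¹) * g⁻¹ := by rw [ha, ← hs]; group
    rw [this]
  have hpT' : IsPGroup 3 T' := isPGroup_of_cube T' hT'3
  have hpS : IsPGroup 3 (Subgroup.zpowers s) := isPGroup_zpowers_of_cube hs3
  have hle : Subgroup.zpowers s ≤ Subgroup.normalizer (T' : Set G) := by
    rw [Subgroup.zpowers_le, Subgroup.mem_normalizer_iff]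
    exact hsN
  have hQ : IsPGroup 3 (Subgroup.zpowers s ⊔ T' : Subgroup G) :=
    hpS.to_sup_of_normal_right' hpT' hle
  have hQH := L.le_H_of_pgroup _ hQ (z := s)
    (Subgroup.mem_sup_left (Subgroup.mem_zpowers s)) hsJ hs1
  obtain ⟨y, hy⟩ : ∃ y : G, y = g⁻¹ * x0 * g := ⟨_, rfl⟩
  have hyT' : y ∈ T' := by
    rw [hmem, hy]
    have : g * (g⁻¹ * x0 * g) * g⁻¹ = x0 := by group
    rw [this]; exact hx0
  have hyH : y ∈ H := hQH (Subgroup.mem_sup_right hyT')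
  have hyJ : y ∉ J := by
    intro h
    apply hx01
    apply hTJ x0 hx0 g⁻¹
    rw [inv_inv, ← hy]; exact h
  have hc1 : s * y * s⁻¹ * y⁻¹ ∈ T' := T'.mul_mem ((hsN y).mp hyT') (T'.inv_mem hyT')
  have hc2 : s * y * s⁻¹ * y⁻¹ ∈ J := by
    have : s * y * s⁻¹ * y⁻¹ = s * (y * s⁻¹ * y⁻¹) := by group
    rw [this]
    exact J.mul_mem hsJ (L.conj_mem_J hyH (J.inv_mem hsJ))
  have hc : s * y * s⁻¹ * y⁻¹ = 1 := by
    have h1 := (hmem _).mp hc1
    have h2 := hTJ _ h1 g⁻¹ (by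
      have : g⁻¹ * (g * (s * y * s⁻¹ * y⁻¹) * g⁻¹) * g⁻¹⁻¹ = s * y * s⁻¹ * y⁻¹ := by group
      rw [this]; exact hc2)
    have : s * y * s⁻¹ * y⁻¹ = g⁻¹ * (g * (s * y * s⁻¹ * y⁻¹) * g⁻¹) * g := by group
    rw [this, h2]; group
  have hcomm : s * y = y * s := by
    have : s * y = (s * y * s⁻¹ * y⁻¹) * (y * s) := by group
    rw [this, hc, one_mul]
  obtain ⟨p, hp⟩ := L.exists_nf hyH
  have hp2 : p.2 ≠ 0 := by
    intro h
    apply hyJ
    rw [hp]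
    have : p = (p.1, 0) := Prod.ext rfl h
    rw [this, ← L.phi_eq_nf]; exact L.mem _
  have hp3 : mpow p 3 = (0, 0) := by
    apply L.nf_inj
    rw [← L.nf_pow, ← hp, L.nf_one]; exact hT'3 y hyT'
  have hpc : mmul (v, 0) p = mmul p (v, 0) := by
    apply L.nf_inj
    rw [← L.nf_mul, ← L.nf_mul, ← hp, ← L.phi_eq_nf, ← hs]; exact hcomm
  exact stab3_of_commute v p hv hp2 hp3 hpc

/-- the triangle lemma, one-sided form -/
theorem Loc4.mem_of_mul' {v₁ w : V} (hv₁ : v₁ ≠ 0) (hw : w ≠ 0) (hnc : stabN v₁ ≠ stabN w)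
    {a b : G} (ha : IsConj (phi a₁ a₂ a₃ v₁) a) (hb3 : b ^ 3 = 1)
    (hab : a * b = phi a₁ a₂ a₃ w) : a ∈ J := by
  classical
  haveI : Fact (Nat.Prime 3) := ⟨Nat.prime_three⟩
  have ha3 : a ^ 3 = 1 := L.cube_of_isConj ha
  have hab3 : (a * b) ^ 3 = 1 := by rw [hab]; exact L.exp _ (L.mem w)
  obtain ⟨g, hg⟩ := _root_.isConj_iff.mp ha
  obtain ⟨A, hAc, hκ, huA, hcase⟩ := tri_main a b ha3 hb3 hab3
  rcases hcase with ⟨x1, hx1A, hx11, hx13⟩ | hconj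
  · obtain ⟨T, hT⟩ : ∃ T : Subgroup G, ∀ x, x ∈ T ↔ x ∈ A ∧ x ^ 3 = 1 :=
      ⟨cubeSub A hAc, fun x => Iff.rfl⟩
    have hx1T : x1 ∈ T := (hT x1).mpr ⟨hx1A, hx13⟩
    have hT3 : ∀ x ∈ T, x ^ 3 = 1 := fun x hx => ((hT x).mp hx).2
    have hκT : ∀ x ∈ T, a⁻¹ * x * a ∈ T := by
      intro x hx
      obtain ⟨hxA, hx3⟩ := (hT x).mp hx
      refine (hT _).mpr ⟨hκ x hxA, ?_⟩
      have : a⁻¹ * x * a = a⁻¹ * x * a⁻¹⁻¹ := by rw [inv_inv]
      rw [this, conj_pow, hx3]; group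
    have hbκ : ∀ x ∈ A, b⁻¹ * x * b = a⁻¹ * x * a := by
      intro x hx
      have hux : (a * b⁻¹) * x = x * (a * b⁻¹) := hAc _ huA _ hx
      calc b⁻¹ * x * b = a⁻¹ * ((a * b⁻¹) * x) * (a * b⁻¹)⁻¹ * a := by group
        _ = a⁻¹ * (x * (a * b⁻¹)) * (a * b⁻¹)⁻¹ * a := by rw [hux]
        _ = a⁻¹ * x * a := by group
    have hκb : ∀ x ∈ T, b⁻¹ * x * b ∈ T := by
      intro x hx
      rw [hbκ x ((hT x).mp hx).1]; exact hκT x hx
    have hnorm : ∀ (c : G), c ^ 3 = 1 → (∀ x ∈ T, c⁻¹ * x * c ∈ T) →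
        ∀ x, x ∈ T ↔ c * x * c⁻¹ ∈ T := by
      intro c hc3 hcT x
      constructor
      · intro hx
        have h2 := hcT _ (hcT x hx)
        have e : c⁻¹ * (c⁻¹ * x * c) * c = c * x * c⁻¹ := by
          have e1 : c⁻¹ * c⁻¹ = c := Tn.inv_mul_inv_of_cube hc3
          have e2 : c * c = c⁻¹ := Tn.mul_self_of_cube hc3
          calc c⁻¹ * (c⁻¹ * x * c) * c = (c⁻¹ * c⁻¹) * x * (c * c) := by group
            _ = c * x * c⁻¹ := by rw [e1, e2]
        rwa [e] at h2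
      · intro hx
        have h2 := hcT _ hx
        have e : c⁻¹ * (c * x * c⁻¹) * c = x := by group
        rwa [e] at h2
    have haN := hnorm a ha3 hκT
    have hbN := hnorm b hb3 hκb
    have hzN : ∀ x, x ∈ T ↔ (a * b) * x * (a * b)⁻¹ ∈ T := by
      intro x
      rw [hbN x, haN (b * x * b⁻¹)]
      have : a * (b * x * b⁻¹) * a⁻¹ = (a * b) * x * (a * b)⁻¹ := by group
      rw [this]
    have hTH : T ≤ H := by
      have hpT : IsPGroup 3 T := isPGroup_of_cube T hT3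
      have hpZ : IsPGroup 3 (Subgroup.zpowers (a * b)) := isPGroup_zpowers_of_cube hab3
      have hle : Subgroup.zpowers (a * b) ≤ Subgroup.normalizer (T : Set G) := by
        rw [Subgroup.zpowers_le, Subgroup.mem_normalizer_iff]
        exact hzN
      have hQ := hpZ.to_sup_of_normal_right' hpT hle
      have hz1 : a * b ≠ 1 := by rw [hab]; exact L.phi_ne_one hw
      have hzJ : a * b ∈ J := by rw [hab]; exact L.mem w
      exact le_trans le_sup_right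
        (L.le_H_of_pgroup _ hQ (Subgroup.mem_sup_left (Subgroup.mem_zpowers _)) hzJ hz1)
    by_cases hTJ : ∃ s ∈ T, s ∈ J ∧ s ≠ 1
    · obtain ⟨s, hsT, hsJ, hs1⟩ := hTJ
      have h1 : a⁻¹ * s * a ∈ H := hTH (hκT s hsT)
      have h2 : a⁻¹ * s * a⁻¹⁻¹ ∈ J := L.sc s hsJ a⁻¹ (by rw [inv_inv]; exact h1)
      have h3 : a⁻¹ ∈ H := L.mem_H_of_conj_J hsJ hs1 h2
      have h4 : a ∈ H := by
        have := H.inv_mem h3
        rwa [inv_inv] at this
      rw [← hg]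
      apply L.sc _ (L.mem v₁) g
      rw [hg]; exact h4
    · exfalso
      push Not at hTJ
      have hTJ' : ∀ x ∈ T, ∀ c : G, c * x * c⁻¹ ∈ J → x = 1 := by
        intro x hx c hc
        apply hTJ x hx
        have : x = c⁻¹ * (c * x * c⁻¹) * c⁻¹⁻¹ := by group
        rw [this]
        apply L.sc _ hc c⁻¹
        rw [← this]; exact hTH hx
      have k1 : stabN w = 3 := L.stab_three hw (g := 1) (a := a * b) (by rw [hab]; group)
        T hT3 hzN hTJ' hx1T hx11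
      have k2 : stabN v₁ = 3 := L.stab_three hv₁ (g := g) (a := a) hg.symm T hT3 haN hTJ'
        hx1T hx11
      exact hnc (k2.trans k1.symm)
  · exfalso
    rw [hab, L.phi_inv] at hconj
    obtain ⟨k, hk⟩ := (L.isConj_phi_iff hv₁).mp (ha.trans hconj)
    apply hnc
    rw [← stabN_act k v₁, hk, stabN_neg]

/-- the triangle lemma -/
theorem Loc4.mem_of_mul {v₁ v₂ w : V} (hv₁ : v₁ ≠ 0) (hv₂ : v₂ ≠ 0) (hw : w ≠ 0)
    (hnc : ¬ (stabN v₁ = stabN w ∧ stabN v₂ = stabN w)) {p q : G}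
    (hp : IsConj (phi a₁ a₂ a₃ v₁) p) (hq : IsConj (phi a₁ a₂ a₃ v₂) q)
    (hpq : p * q = phi a₁ a₂ a₃ w) : p ∈ J ∧ q ∈ J := by
  have hp3 := L.cube_of_isConj hp
  have hq3 := L.cube_of_isConj hq
  have hwJ : p * q ∈ J := by rw [hpq]; exact L.mem w
  by_cases h1 : stabN v₁ = stabN w
  · have h2 : stabN v₂ ≠ stabN w := fun h => hnc ⟨h1, h⟩
    have hb3 : (q⁻¹ * p * q) ^ 3 = 1 := by
      have : q⁻¹ * p * q = q⁻¹ * p * q⁻¹⁻¹ := by rw [inv_inv]
      rw [this, conj_pow, hp3]; group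
    have hab : q * (q⁻¹ * p * q) = phi a₁ a₂ a₃ w := by rw [← hpq]; group
    have hqJ := L.mem_of_mul' hv₂ hw h2 hq hb3 hab
    refine ⟨?_, hqJ⟩
    have : p = (p * q) * q⁻¹ := by group
    rw [this]; exact J.mul_mem hwJ (J.inv_mem hqJ)
  · have hpJ := L.mem_of_mul' hv₁ hw h1 hp hq3 hpq
    refine ⟨hpJ, ?_⟩
    have : q = p⁻¹ * (p * q) := by group
    rw [this]; exact J.mul_mem (J.inv_mem hpJ) hwJ

/-- class multiplication constants of `3`-classes are computed inside `J` -/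
theorem Loc4.card_pairs (v₁ v₂ w : V) (hv₁ : v₁ ≠ 0) (hv₂ : v₂ ≠ 0) (hw : w ≠ 0)
    (hnc : ¬ (stabN v₁ = stabN w ∧ stabN v₂ = stabN w)) :
    Nat.card {p : G × G // IsConj (phi a₁ a₂ a₃ v₁) p.1 ∧ IsConj (phi a₁ a₂ a₃ v₂) p.2
        ∧ p.1 * p.2 = phi a₁ a₂ a₃ w}
      = Fintype.card {q : V × V // (∃ k : Fin 24, act k v₁ = q.1) ∧ (∃ k : Fin 24, act k v₂ = q.2)
        ∧ q.1 + q.2 = w} := by
  classical
  let f : {q : V × V // (∃ k : Fin 24, act k v₁ = q.1) ∧ (∃ k : Fin 24, act k v₂ = q.2)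
        ∧ q.1 + q.2 = w} →
      {p : G × G // IsConj (phi a₁ a₂ a₃ v₁) p.1 ∧ IsConj (phi a₁ a₂ a₃ v₂) p.2
        ∧ p.1 * p.2 = phi a₁ a₂ a₃ w} := fun q =>
    ⟨(phi a₁ a₂ a₃ q.1.1, phi a₁ a₂ a₃ q.1.2),
      (L.isConj_phi_iff hv₁).mpr q.2.1, (L.isConj_phi_iff hv₂).mpr q.2.2.1, by
        rw [← L.mul, q.2.2.2]⟩
  have hf : Function.Bijective f := by
    constructor
    · intro q q' h
      have h1 := congrArg (fun z => z.1.1) h
      have h2 := congrArg (fun z => z.1.2) h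
      exact Subtype.ext (Prod.ext (L.inj h1) (L.inj h2))
    · rintro ⟨⟨p, q⟩, hp, hq, hpq⟩
      obtain ⟨hpP, hqP⟩ := L.mem_of_mul hv₁ hv₂ hw hnc hp hq hpq
      obtain ⟨u, rfl⟩ := L.range hpP
      obtain ⟨u', rfl⟩ := L.range hqP
      refine ⟨⟨(u, u'), (L.isConj_phi_iff hv₁).mp hp, (L.isConj_phi_iff hv₂).mp hq, ?_⟩, rfl⟩
      apply L.inj
      rw [L.mul]
      exact hpq
  rw [← Nat.card_congr (Equiv.ofBijective f hf), Nat.card_eq_fintype_card]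

end loc

end Cfsg.Agent.Lib.Helper2.Emb4
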