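import Mathlib
import Cfsg.Agent.Lib.Helper2.Emb4T

/-! # Local class multiplication constants of the `3^3 : S_4` configuration -/

set_option autoImplicit false
set_option linter.style.haveILetI false
set_option linter.unusedSectionVars false
open Cfsg

namespace Cfsg.Agent.Lib.Helper2.Emb4

open Cfsg.Agent.Lib.Helper6
open Cfsg.Agent.Lib.Helper2.Emb3 (V phi phi_zero three_nsmul)

/-- the number of pairs in the orbits of `v₁`, `v₂` with sum `w` -/
def kap4 (v₁ v₂ w : V) : ℕ :=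
  Fintype.card {q : V × V // (∃ k : Fin 24, act k v₁ = q.1) ∧ (∃ k : Fin 24, act k v₂ = q.2)
    ∧ q.1 + q.2 = w}

set_option maxRecDepth 100000 in
theorem stabN_w1 : stabN (0, 0, 1) = 4 := by decide +kernel

set_option maxRecDepth 100000 in
theorem stabN_w2 : stabN (0, 1, 1) = 2 := by decide +kernel

set_option maxRecDepth 100000 in
theorem stabN_w3 : stabN (1, 1, 1) = 3 := by decide +kernel

set_option maxRecDepth 100000 in
theorem kap4_112 : kap4 (0, 0, 1) (0, 0, 1) (0, 1, 1) = 2 := by decide +kernel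

set_option maxRecDepth 100000 in
theorem kap4_113 : kap4 (0, 0, 1) (0, 0, 1) (1, 1, 1) = 0 := by decide +kernel

set_option maxRecDepth 100000 in
theorem kap4_122 : kap4 (0, 0, 1) (0, 1, 1) (0, 1, 1) = 2 := by decide +kernel

set_option maxRecDepth 100000 in
theorem kap4_123 : kap4 (0, 0, 1) (0, 1, 1) (1, 1, 1) = 3 := by decide +kernel

set_option maxRecDepth 100000 in
theorem kap4_133 : kap4 (0, 0, 1) (1, 1, 1) (1, 1, 1) = 3 := by decide +kernel

set_option maxRecDepth 100000 in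
theorem kap4_223 : kap4 (0, 1, 1) (0, 1, 1) (1, 1, 1) = 6 := by decide +kernel

set_option maxRecDepth 100000 in
theorem kap4_233 : kap4 (0, 1, 1) (1, 1, 1) (1, 1, 1) = 3 := by decide +kernel

section loc

variable {G : Type*} [Group G] [Fintype G] [DecidableEq G] [Fintype (Cfsg.IrrCharacter G)]
variable {J H : Subgroup G} {a₁ a₂ a₃ : G} {σ : Fin 24 → G} (L : Loc4 J H a₁ a₂ a₃ σ)
include L

/-- class multiplication constants of `3`-classes, computed in `V` -/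
theorem Loc4.class_sum (v₁ v₂ w : V) (hv₁ : v₁ ≠ 0) (hv₂ : v₂ ≠ 0) (hw : w ≠ 0)
    (hnc : ¬ (stabN v₁ = stabN w ∧ stabN v₂ = stabN w))
    (f₁ f₂ f₃ : Cfsg.IrrCharacter G → ℤ)
    (hf₁ : ∀ χ : Cfsg.IrrCharacter G, (χ : G → ℂ) (phi a₁ a₂ a₃ v₁) = (f₁ χ : ℂ))
    (hf₂ : ∀ χ : Cfsg.IrrCharacter G, (χ : G → ℂ) (phi a₁ a₂ a₃ v₂) = (f₂ χ : ℂ))
    (hf₃ : ∀ χ : Cfsg.IrrCharacter G, (χ : G → ℂ) (phi a₁ a₂ a₃ w) = (f₃ χ : ℂ)) :
    (Nat.card G : ℚ) * ∑ χ : Cfsg.IrrCharacter G,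
        ((f₁ χ * f₂ χ * f₃ χ : ℤ) : ℚ) / (Cfsg.charDegree (χ : G → ℂ) : ℚ)
      = ((27 * stabN v₁ * (27 * stabN v₂) * kap4 v₁ v₂ w : ℕ) : ℚ) := by
  rw [Tv.class_sum _ _ _ f₁ f₂ f₃ hf₁ hf₂ hf₃, L.card_centralizer hv₁, L.card_centralizer hv₂,
    L.card_pairs v₁ v₂ w hv₁ hv₂ hw hnc]
  rfl

end loc

end Cfsg.Agent.Lib.Helper2.Emb4
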