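import Mathlib
import Cfsg.Agent.Lib.Helper2.Emb4F
import Cfsg.Agent.Lib.Helper2.Emb4U

/-! # Consequences of an explicit embedding of the lattice `I₀(D)` -/

set_option autoImplicit false
set_option linter.style.haveILetI false
set_option linter.unusedSectionVars false
set_option linter.unusedSimpArgs false
open Cfsg

namespace Cfsg.Agent.Lib.Helper2.Emb4

open scoped ComplexConjugate
open Cfsg.Agent.Lib.Helper6
open Cfsg.Agent.Lib.Helper2.Emb3 (V phi phi_zero three_nsmul)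

theorem sum_supp {ι κ : Type*} [Fintype ι] [Fintype κ] [DecidableEq ι] {M : Type*}
    [AddCommMonoid M] (X : κ → ι) (hX : Function.Injective X) (F : ι → M)
    (hF : ∀ χ, (∀ c, χ ≠ X c) → F χ = 0) : ∑ χ, F χ = ∑ c, F (X c) := by
  rw [← Finset.sum_image (s := Finset.univ) (g := X) (f := F) (fun a _ b _ h => hX h)]
  symm
  apply Finset.sum_subset (Finset.subset_univ _)
  intro χ _ hχ
  apply hF
  intro c hc
  apply hχ
  rw [hc]; exact Finset.mem_image_of_mem X (Finset.mem_univ c)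

/-- representatives of the three classes of `J` -/
def wv : Fin 3 → V := ![(0, 0, 1), (0, 1, 1), (1, 1, 1)]

theorem wv_ne : ∀ a : Fin 3, wv a ≠ 0 := by decide

theorem cube_pm {s : ℤ} (hs : s = 1 ∨ s = -1) (z d : ℚ) :
    z * (s : ℚ) ^ 3 / d = z / ((s : ℚ) * d) := by
  rcases hs with rfl | rfl
  · simp
  · push_cast
    rw [show ((-1 : ℚ)) ^ 3 = -1 by norm_num, neg_one_mul, mul_neg_one, div_neg, neg_div]

section loc

variable {G : Type*} [Group G] [Fintype G] [DecidableEq G] [Fintype (Cfsg.IrrCharacter G)]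
variable [DecidableEq (Cfsg.IrrCharacter G)]
variable {J H : Subgroup G} {a₁ a₂ a₃ : G} {σ : Fin 24 → G} (L : Loc4 J H a₁ a₂ a₃ σ)
include L

theorem Loc4.nf_wIdx (a : Fin 3) :
    nf a₁ a₂ a₃ σ (dD (wIdx a)) = phi a₁ a₂ a₃ (wv a) := by
  fin_cases a
  · exact L.phi_w1.symm
  · exact L.phi_w2.symm
  · exact L.phi_w3.symm

/-- the consequences of an explicit embedding `(M, X, s)` of the nine integral forms `v` -/
theorem Loc4.emb_facts {m : ℕ} (v : Fin 9 → Cfsg.IrrCharacter G → ℤ)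
    (hv : ∀ (i : Fin 9) (χ : Cfsg.IrrCharacter G),
      (v i χ : ℂ) = ∑ k, Kc i k * (χ : G → ℂ) (nf a₁ a₂ a₃ σ (dD k)))
    (d : Cfsg.IrrCharacter G → ℤ) (hd : ∀ χ, d χ = (Cfsg.charDegree (χ : G → ℂ) : ℤ))
    (M : Fin 9 → Fin m → ℤ) (Z : Fin 3 → Fin m → ℤ)
    (hZ : ∀ a c, ∑ i, Um a i * M i c = Z a c)
    (X : Fin m → Cfsg.IrrCharacter G) (s : Fin m → ℤ) (hX : Function.Injective X)
    (hs : ∀ c, s c = 1 ∨ s c = -1)
    (hvM : ∀ (i : Fin 9) (χ : Cfsg.IrrCharacter G),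
      v i χ = ∑ c : Fin m, if χ = X c then M i c * s c else 0) :
    (∀ i, ∑ c, M i c * (s c * d (X c)) = 0) ∧
    (∀ c, ∃ n : ℕ, d (X c) + (6 * Z 0 c + 12 * Z 1 c + 8 * Z 2 c) * s c = 27 * (n : ℤ)) ∧
    (∑ c, (s c * d (X c)) ^ 2 ≤ (Nat.card G : ℤ)) ∧
    (∀ c, 0 < d (X c)) ∧
    (∀ a b c' : Fin 3, ¬ (stabN (wv a) = stabN (wv c') ∧ stabN (wv b) = stabN (wv c')) →
      (Nat.card G : ℚ) * ∑ c, ((Z a c * Z b c * Z c' c : ℤ) : ℚ) / ((s c * d (X c) : ℤ) : ℚ)
        = ((27 * stabN (wv a) * (27 * stabN (wv b)) * kap4 (wv a) (wv b) (wv c') : ℕ) : ℚ)) := by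
  classical
  have hdpos : ∀ χ, 0 < d χ := by
    intro χ; rw [hd]; exact_mod_cast IsIrrCharacter.charDegree_pos χ.2
  -- the values of `v`
  have hva : ∀ i c₀, v i (X c₀) = M i c₀ * s c₀ := by
    intro i c₀
    rw [hvM, Finset.sum_eq_single c₀]
    · rw [if_pos rfl]
    · intro c _ hc
      rw [if_neg]
      intro h
      exact hc (hX h).symm
    · intro h; exact absurd (Finset.mem_univ _) h
  have hvb : ∀ i χ, (∀ c, χ ≠ X c) → v i χ = 0 := by
    intro i χ hχ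
    rw [hvM]
    apply Finset.sum_eq_zero
    intro c _
    rw [if_neg (hχ c)]
  -- the values on `J`
  obtain ⟨xw, hxw⟩ : ∃ xw : Fin 3 → Cfsg.IrrCharacter G → ℤ,
      ∀ a χ, xw a χ = ∑ i, Um a i * v i χ := ⟨_, fun _ _ => rfl⟩
  have hxwc : ∀ (a : Fin 3) (χ : Cfsg.IrrCharacter G),
      (χ : G → ℂ) (phi a₁ a₂ a₃ (wv a)) = (xw a χ : ℂ) := by
    intro a χ
    rw [← L.nf_wIdx a, hxw]
    exact wval_generic (fun k (χ : Cfsg.IrrCharacter G) => (χ : G → ℂ) (nf a₁ a₂ a₃ σ (dD k)))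
      v hv a χ
  have hxa : ∀ a c, xw a (X c) = Z a c * s c := by
    intro a c
    rw [hxw, ← hZ a c, Finset.sum_mul]
    apply Finset.sum_congr rfl
    intro i _
    rw [hva]; ring
  have hxb : ∀ a χ, (∀ c, χ ≠ X c) → xw a χ = 0 := by
    intro a χ hχ
    rw [hxw]
    apply Finset.sum_eq_zero
    intro i _
    rw [hvb i χ hχ, mul_zero]
  refine ⟨?_, ?_, ?_, fun c => hdpos _, ?_⟩
  · -- degrees
    intro i
    have h := deg_generic (fun k (χ : Cfsg.IrrCharacter G) => (χ : G → ℂ) (nf a₁ a₂ a₃ σ (dD k)))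
      v d (fun k => by simp only [hd]; exact L.degsum k) hv i
    rw [sum_supp X hX (fun χ => v i χ * d χ) (fun χ hχ => by
      show v i χ * d χ = 0
      rw [hvb i χ hχ, zero_mul])] at h
    rw [← h]
    apply Finset.sum_congr rfl
    intro c _
    show M i c * (s c * d (X c)) = v i (X c) * d (X c)
    rw [hva]; ring
  · -- admissibility
    intro c
    obtain ⟨n, hn⟩ := L.mult_000 (IsIrrCharacter.isCharacter (X c).2)
    refine ⟨n, ?_⟩
    have e1 : ((X c : Cfsg.IrrCharacter G) : G → ℂ) (nf a₁ a₂ a₃ σ dw1) = ((Z 0 c * s c : ℤ) : ℂ) := by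
      have := hxwc 0 (X c)
      rw [hxa] at this
      rw [← this, ← L.nf_wIdx 0]; rfl
    have e2 : ((X c : Cfsg.IrrCharacter G) : G → ℂ) (nf a₁ a₂ a₃ σ dw2) = ((Z 1 c * s c : ℤ) : ℂ) := by
      have := hxwc 1 (X c)
      rw [hxa] at this
      rw [← this, ← L.nf_wIdx 1]; rfl
    have e3 : ((X c : Cfsg.IrrCharacter G) : G → ℂ) (nf a₁ a₂ a₃ σ dw3) = ((Z 2 c * s c : ℤ) : ℂ) := by
      have := hxwc 2 (X c)
      rw [hxa] at this
      rw [← this, ← L.nf_wIdx 2]; rfl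
    rw [e1, e2, e3, IsCharacter.apply_one_eq_charDegree (IsIrrCharacter.isCharacter (X c).2)] at hn
    have hn' : ((d (X c) + (6 * Z 0 c + 12 * Z 1 c + 8 * Z 2 c) * s c : ℤ) : ℂ)
        = ((27 * (n : ℤ) : ℤ) : ℂ) := by
      rw [hd]
      push_cast
      push_cast at hn
      linear_combination hn
    exact_mod_cast hn'
  · -- sum of squares
    have hsq : ∑ χ : Cfsg.IrrCharacter G, d χ ^ 2 = (Nat.card G : ℤ) := by
      have h := sum_sq_degree (G := G)
      have : ((∑ χ : Cfsg.IrrCharacter G, d χ ^ 2 : ℤ) : ℂ) = ((Nat.card G : ℤ) : ℂ) := by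
        push_cast
        rw [← h]
        apply Finset.sum_congr rfl
        intro χ _
        rw [IsCharacter.apply_one_eq_charDegree (IsIrrCharacter.isCharacter χ.2), hd]
        push_cast
        rfl
      exact_mod_cast this
    rw [← hsq]
    have h1 : ∑ c, (s c * d (X c)) ^ 2 = ∑ c, d (X c) ^ 2 := by
      apply Finset.sum_congr rfl
      intro c _
      rcases hs c with h | h <;> rw [h] <;> ring
    rw [h1, ← Finset.sum_image (s := Finset.univ) (g := X) (f := fun χ => d χ ^ 2)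
      (fun a _ b _ h => hX h)]
    exact Finset.sum_le_sum_of_subset_of_nonneg (Finset.subset_univ _)
      (fun χ _ _ => sq_nonneg (d χ))
  · -- class equations
    intro a b c' hnc
    have h := L.class_sum (wv a) (wv b) (wv c') (wv_ne a) (wv_ne b) (wv_ne c') hnc
      (xw a) (xw b) (xw c') (hxwc a) (hxwc b) (hxwc c')
    rw [← h]
    congr 1
    rw [sum_supp X hX (fun χ => ((xw a χ * xw b χ * xw c' χ : ℤ) : ℚ)
      / (Cfsg.charDegree (χ : G → ℂ) : ℚ)) (fun χ hχ => by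
        show ((xw a χ * xw b χ * xw c' χ : ℤ) : ℚ) / (Cfsg.charDegree (χ : G → ℂ) : ℚ) = 0
        rw [hxb a χ hχ]; simp)]
    apply Finset.sum_congr rfl
    intro c _
    show ((Z a c * Z b c * Z c' c : ℤ) : ℚ) / ((s c * d (X c) : ℤ) : ℚ)
      = ((xw a (X c) * xw b (X c) * xw c' (X c) : ℤ) : ℚ) / (Cfsg.charDegree ((X c) : G → ℂ) : ℚ)
    rw [hxa, hxa, hxa]
    have hdc : ((Cfsg.charDegree ((X c) : G → ℂ) : ℕ) : ℚ) = ((d (X c) : ℤ) : ℚ) := by
      rw [hd]; push_cast; rfl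
    rw [hdc]
    push_cast
    rw [← cube_pm (hs c)]
    ring

end loc

end Cfsg.Agent.Lib.Helper2.Emb4
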