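import Mathlib
import Cfsg.Agent.Lib.Helper2.Emb4G
import Cfsg.Agent.Lib.Helper7.Arith0

/-! # The two embeddings of the lattice `I₀(D)`: the coherent one forces `G = H`, the other
one is impossible -/

set_option autoImplicit false
set_option linter.style.haveILetI false
set_option linter.unusedSectionVars false
set_option linter.unusedSimpArgs false
open Cfsg

namespace Cfsg.Agent.Lib.Helper2.Emb4

open scoped ComplexConjugate
open Cfsg.Agent.Lib.Helper6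
open Cfsg.Agent.Lib.Helper7.Arith0 (Adm arith0)
open Cfsg.Agent.Lib.Helper2.Emb3 (V phi phi_zero three_nsmul)

/-- the values of the fourteen characters of the coherent embedding on `w₁, w₂, w₃` -/
def Z0 : Fin 3 → Fin 14 → ℤ :=
  ![![1, 1, 2, 3, 3, 3, 3, 3, 3, 0, 0, -4, -4, -4],
    ![1, 1, 2, 3, 3, 0, 0, 0, 0, -3, -3, 2, 2, 2],
    ![1, 1, 2, 3, 3, -3, -3, -3, -3, 3, 3, -1, -1, -1]]

/-- the values of the thirteen characters of the second embedding on `w₁, w₂, w₃` -/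
def Z1 : Fin 3 → Fin 13 → ℤ :=
  ![![1, 3, -3, -3, -3, -2, -4, -4, -4, -1, 3, 3, 0],
    ![1, 0, 0, -3, -3, -2, 2, 2, -1, 2, 0, -3, -3],
    ![1, -3, 3, -3, -3, -2, -1, -1, 2, -4, -3, 0, 3]]

theorem hZ0 : ∀ a c, ∑ i, Um a i * M0 i c = Z0 a c := by decide

theorem hZ1 : ∀ a c, ∑ i, Um a i * M1 i c = Z1 a c := by decide

theorem sum_fin14Q (f : Fin 14 → ℚ) : ∑ c, f c = f 0 + f 1 + f 2 + f 3 + f 4 + f 5 + f 6 + f 7
    + f 8 + f 9 + f 10 + f 11 + f 12 + f 13 := by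
  simp [Fin.sum_univ_succ]
  ring

theorem sum_fin14Z (f : Fin 14 → ℤ) : ∑ c, f c = f 0 + f 1 + f 2 + f 3 + f 4 + f 5 + f 6 + f 7
    + f 8 + f 9 + f 10 + f 11 + f 12 + f 13 := by
  simp [Fin.sum_univ_succ]
  ring

theorem sum_fin13Q (f : Fin 13 → ℚ) : ∑ c, f c = f 0 + f 1 + f 2 + f 3 + f 4 + f 5 + f 6 + f 7
    + f 8 + f 9 + f 10 + f 11 + f 12 := by
  simp [Fin.sum_univ_succ]
  ring

set_option maxRecDepth 100000 in
theorem hnc_abc : ∀ a b c' : Fin 3, ¬ (a = c' ∧ b = c') →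
    ¬ (stabN (wv a) = stabN (wv c') ∧ stabN (wv b) = stabN (wv c')) := by decide +kernel

set_option maxRecDepth 100000 in
theorem k112 : 27 * stabN (wv 0) * (27 * stabN (wv 0)) * kap4 (wv 0) (wv 0) (wv 1) = 23328 := by
  decide +kernel

set_option maxRecDepth 100000 in
theorem k113 : 27 * stabN (wv 0) * (27 * stabN (wv 0)) * kap4 (wv 0) (wv 0) (wv 2) = 0 := by
  decide +kernel

set_option maxRecDepth 100000 in
theorem k122 : 27 * stabN (wv 0) * (27 * stabN (wv 1)) * kap4 (wv 0) (wv 1) (wv 1) = 11664 := by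
  decide +kernel

set_option maxRecDepth 100000 in
theorem k123 : 27 * stabN (wv 0) * (27 * stabN (wv 1)) * kap4 (wv 0) (wv 1) (wv 2) = 17496 := by
  decide +kernel

set_option maxRecDepth 100000 in
theorem k133 : 27 * stabN (wv 0) * (27 * stabN (wv 2)) * kap4 (wv 0) (wv 2) (wv 2) = 26244 := by
  decide +kernel

set_option maxRecDepth 100000 in
theorem k223 : 27 * stabN (wv 1) * (27 * stabN (wv 1)) * kap4 (wv 1) (wv 1) (wv 2) = 17496 := by
  decide +kernel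

set_option maxRecDepth 100000 in
theorem k233 : 27 * stabN (wv 1) * (27 * stabN (wv 2)) * kap4 (wv 1) (wv 2) (wv 2) = 13122 := by
  decide +kernel

theorem adm_of {κ κ' s d : ℤ} (hκ : κ' = κ) (hs : s = 1 ∨ s = -1) (hd : 0 < d)
    (h : ∃ n : ℕ, d + κ' * s = 27 * (n : ℤ)) : Adm κ (s * d) := by
  obtain ⟨n, hn⟩ := h
  rw [hκ] at hn
  refine ⟨n, ?_⟩
  rcases hs with rfl | rfl
  · left
    constructor <;> linarith
  · right
    constructor <;> linarith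

section loc

variable {G : Type*} [Group G] [Fintype G] [DecidableEq G] [Fintype (Cfsg.IrrCharacter G)]
variable [DecidableEq (Cfsg.IrrCharacter G)]
variable {J H : Subgroup G} {a₁ a₂ a₃ : G} {σ : Fin 24 → G} (L : Loc4 J H a₁ a₂ a₃ σ)
include L

/-- the second embedding is impossible -/
theorem Loc4.m1_false (v : Fin 9 → Cfsg.IrrCharacter G → ℤ)
    (hv : ∀ (i : Fin 9) (χ : Cfsg.IrrCharacter G),
      (v i χ : ℂ) = ∑ k, Kc i k * (χ : G → ℂ) (nf a₁ a₂ a₃ σ (dD k)))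
    (X : Fin 13 → Cfsg.IrrCharacter G) (s : Fin 13 → ℤ) (hX : Function.Injective X)
    (hs : ∀ c, s c = 1 ∨ s c = -1)
    (hvM : ∀ (i : Fin 9) (χ : Cfsg.IrrCharacter G),
      v i χ = ∑ c : Fin 13, if χ = X c then M1 i c * s c else 0) : False := by
  classical
  obtain ⟨d, hd⟩ : ∃ d : Cfsg.IrrCharacter G → ℤ,
      ∀ χ, d χ = (Cfsg.charDegree (χ : G → ℂ) : ℤ) := ⟨_, fun _ => rfl⟩
  obtain ⟨-, -, -, F6, F5⟩ := L.emb_facts v hv d hd M1 Z1 hZ1 X s hX hs hvM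
  obtain ⟨δ, hδ⟩ : ∃ δ : Fin 13 → ℤ, ∀ c, δ c = s c * d (X c) := ⟨_, fun _ => rfl⟩
  simp only [← hδ] at F5
  have hG : (0 : ℚ) < (Nat.card G : ℚ) := by exact_mod_cast Nat.card_pos
  obtain ⟨N, hN⟩ : ∃ N : ℚ, N = (Nat.card G : ℚ) := ⟨_, rfl⟩
  rw [← hN] at F5 hG
  have e112 := F5 0 0 1 (hnc_abc 0 0 1 (by decide))
  have e113 := F5 0 0 2 (hnc_abc 0 0 2 (by decide))
  have e122 := F5 0 1 1 (hnc_abc 0 1 1 (by decide))
  have e123 := F5 0 1 2 (hnc_abc 0 1 2 (by decide))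
  have e133 := F5 0 2 2 (hnc_abc 0 2 2 (by decide))
  have e223 := F5 1 1 2 (hnc_abc 1 1 2 (by decide))
  have e233 := F5 1 2 2 (hnc_abc 1 2 2 (by decide))
  rw [k112, sum_fin13Q] at e112
  rw [k113, sum_fin13Q] at e113
  rw [k122, sum_fin13Q] at e122
  rw [k123, sum_fin13Q] at e123
  rw [k133, sum_fin13Q] at e133
  rw [k223, sum_fin13Q] at e223
  rw [k233, sum_fin13Q] at e233
  simp [Z1] at e112 e113 e122 e123 e133 e223 e233
  rcases e113 with h0 | e113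
  · exact hG.ne' h0
  have hδ8 : (δ 8 : ℚ) ≠ 0 := by
    have h1 := F6 8
    rw [hδ]
    rcases hs 8 with h | h <;> rw [h] <;> push_cast <;> intro h0
    · have : (d (X 8) : ℚ) = 0 := by linarith
      have : d (X 8) = 0 := by exact_mod_cast this
      omega
    · have : (d (X 8) : ℚ) = 0 := by linarith
      have : d (X 8) = 0 := by exact_mod_cast this
      omega
  have key : N * (-108 / (δ 8 : ℚ)) = 0 := by
    linear_combination 2 * e112 - N * e113 + 2 * e122 - 6 * e123 - e133 + 2 * e223 + 2 * e233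
  rcases mul_eq_zero.mp key with h | h
  · exact hG.ne' h
  · rw [div_eq_zero_iff] at h
    rcases h with h | h
    · norm_num at h
    · exact hδ8 h

set_option maxHeartbeats 1000000 in
/-- the coherent embedding forces `|G| = 648` -/
theorem Loc4.card_of_m0 (v : Fin 9 → Cfsg.IrrCharacter G → ℤ)
    (hv : ∀ (i : Fin 9) (χ : Cfsg.IrrCharacter G),
      (v i χ : ℂ) = ∑ k, Kc i k * (χ : G → ℂ) (nf a₁ a₂ a₃ σ (dD k)))
    (t0 : Cfsg.IrrCharacter G) (ht0 : (t0 : G → ℂ) = fun _ => 1)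
    (X : Fin 14 → Cfsg.IrrCharacter G) (s : Fin 14 → ℤ) (hX : Function.Injective X)
    (hs : ∀ c, s c = 1 ∨ s c = -1) (hX0 : X 0 = t0) (hs0 : s 0 = 1)
    (hvM : ∀ (i : Fin 9) (χ : Cfsg.IrrCharacter G),
      v i χ = ∑ c : Fin 14, if χ = X c then M0 i c * s c else 0) : Nat.card G = 648 := by
  classical
  obtain ⟨d, hd⟩ : ∃ d : Cfsg.IrrCharacter G → ℤ,
      ∀ χ, d χ = (Cfsg.charDegree (χ : G → ℂ) : ℤ) := ⟨_, fun _ => rfl⟩
  obtain ⟨F2, F3, F4, F6, F5⟩ := L.emb_facts v hv d hd M0 Z0 hZ0 X s hX hs hvM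
  obtain ⟨δ, hδ⟩ : ∃ δ : Fin 14 → ℤ, ∀ c, δ c = s c * d (X c) := ⟨_, fun _ => rfl⟩
  simp only [← hδ] at F2 F4 F5
  have hd0 : d t0 = 1 := by
    have h1 := IsCharacter.apply_one_eq_charDegree (IsIrrCharacter.isCharacter t0.2)
    have h2 : (t0 : G → ℂ) 1 = 1 := by rw [ht0]
    rw [h2] at h1
    rw [hd]
    have : ((Cfsg.charDegree (t0 : G → ℂ) : ℕ) : ℂ) = 1 := h1.symm
    exact_mod_cast this
  have hδ0 : δ 0 = 1 := by rw [hδ, hs0, hX0, hd0]; norm_num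
  obtain ⟨n, hn⟩ : ∃ n : ℕ, n = H.index := ⟨_, rfl⟩
  have hmul := Subgroup.card_mul_index H
  rw [L.card_H, ← hn] at hmul
  have hnpos : 0 < n := by rw [hn]; exact Nat.pos_of_ne_zero Subgroup.index_ne_zero_of_finite
  by_contra hne
  have hn2 : 2 ≤ n := by
    by_contra h
    have : n = 1 := by omega
    apply hne; rw [← hmul, this]
  have hGz : (Nat.card G : ℤ) = 648 * (n : ℤ) := by exact_mod_cast hmul.symm
  have hnq : (0 : ℚ) < (n : ℚ) := by exact_mod_cast hnpos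
  obtain ⟨N, hN⟩ : ∃ N : ℚ, N = (Nat.card G : ℚ) := ⟨_, rfl⟩
  have hNn : N = 648 * (n : ℚ) := by rw [hN]; exact_mod_cast hmul.symm
  have hNpos : (0 : ℚ) < N := by rw [hNn]; positivity
  rw [← hN] at F5
  -- the degree relations
  have h1 := F2 0
  have h2 := F2 1
  have h3 := F2 2
  have h4 := F2 3
  have h5 := F2 4
  have h6 := F2 5
  have h7 := F2 6
  have h8 := F2 7
  have h9 := F2 8
  rw [sum_fin14Z] at h1 h2 h3 h4 h5 h6 h7 h8 h9
  simp [M0, hδ0] at h1 h2 h3 h4 h5 h6 h7 h8 h9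
  -- the sum of squares
  rw [sum_fin14Z, hδ0, hGz] at F4
  -- the class equations
  have e112 := F5 0 0 1 (hnc_abc 0 0 1 (by decide))
  have e113 := F5 0 0 2 (hnc_abc 0 0 2 (by decide))
  have e122 := F5 0 1 1 (hnc_abc 0 1 1 (by decide))
  have e223 := F5 1 1 2 (hnc_abc 1 1 2 (by decide))
  rw [k112, sum_fin14Q] at e112
  rw [k113, sum_fin14Q] at e113
  rw [k122, sum_fin14Q] at e122
  rw [k223, sum_fin14Q] at e223
  simp [Z0, hδ0] at e112 e113 e122 e223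
  rcases e113 with h0 | e113
  · exact hNpos.ne' h0
  subst hNn
  have hT : ((1 : ℚ) / (δ 11 : ℚ) + 1 / (δ 12 : ℚ) + 1 / (δ 13 : ℚ)) * (8 * (n : ℚ)) = 3 := by
    linear_combination (1 / 3888 : ℚ) * e112 - (1 / 3888 : ℚ) * e122
  have hS : ((1 : ℚ) + 1 / (δ 1 : ℚ) + 8 / (δ 2 : ℚ) + 27 / (δ 3 : ℚ) + 27 / (δ 4 : ℚ)) * (n : ℚ)
      = 24 := by
    linear_combination (1 / 1944 : ℚ) * e112 + (2 / 1944 : ℚ) * e122
  have hA : ((1 : ℚ) / (δ 5 : ℚ) + 1 / (δ 6 : ℚ) + 1 / (δ 7 : ℚ) + 1 / (δ 8 : ℚ)) * (3 * (n : ℚ))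
      = 2 := by
    linear_combination (-(n : ℚ) / 9) * e113 + (1 / 9 : ℚ) * hS - (2 / 9 : ℚ) * hT
  have hE : ((1 : ℚ) / (δ 9 : ℚ) + 1 / (δ 10 : ℚ)) * (6 * (n : ℚ)) = 1 := by
    linear_combination (2 / 9 * (1 / 648) : ℚ) * e223 - (2 / 9 : ℚ) * hS + (1 / 9 : ℚ) * hT
  have E1 : (1 : ℚ) / (δ 5 : ℚ) + 1 / (δ 6 : ℚ) + 1 / (δ 7 : ℚ) + 1 / (δ 8 : ℚ)
      = 2 / (3 * ((n : ℤ) : ℚ)) := by
    push_cast
    rw [eq_div_iff (by positivity)]; exact hA
  have E2 : (1 : ℚ) / (δ 9 : ℚ) + 1 / (δ 10 : ℚ) = 1 / (6 * ((n : ℤ) : ℚ)) := by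
    push_cast
    rw [eq_div_iff (by positivity)]; exact hE
  have E3 : (1 : ℚ) / (δ 11 : ℚ) + 1 / (δ 12 : ℚ) + 1 / (δ 13 : ℚ) = 3 / (8 * ((n : ℤ) : ℚ)) := by
    push_cast
    rw [eq_div_iff (by positivity)]; exact hT
  have ES : (1 : ℚ) + 1 / (δ 1 : ℚ) + 8 / (δ 2 : ℚ) + 27 / (δ 3 : ℚ) + 27 / (δ 4 : ℚ)
      = 24 / ((n : ℤ) : ℚ) := by
    push_cast
    rw [eq_div_iff (by positivity)]; exact hS
  have adm : ∀ (c : Fin 14) (κ : ℤ), 6 * Z0 0 c + 12 * Z0 1 c + 8 * Z0 2 c = κ → Adm κ (δ c) := by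
    intro c κ hκ
    rw [hδ]
    exact adm_of hκ (hs c) (F6 c) (F3 c)
  exact arith0 (n : ℤ) (δ 1) (δ 2) (δ 3) (δ 4) (δ 5) (δ 6) (δ 7) (δ 8) (δ 9) (δ 10) (δ 11) (δ 12)
    (δ 13) (by exact_mod_cast hn2) (by linarith) (by linarith) (by linarith) (by linarith)
    (by linarith) (by linarith) (by linarith) (by linarith) (by linarith)
    (adm 1 26 (by decide)) (adm 2 52 (by decide)) (adm 3 78 (by decide)) (adm 4 78 (by decide))
    (adm 5 (-6) (by decide)) (adm 6 (-6) (by decide)) (adm 7 (-6) (by decide))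
    (adm 8 (-6) (by decide)) (adm 9 (-12) (by decide)) (adm 10 (-12) (by decide))
    (adm 11 (-8) (by decide)) (adm 12 (-8) (by decide)) (adm 13 (-8) (by decide))
    (by linarith) E1 E2 E3 ES

end loc

end Cfsg.Agent.Lib.Helper2.Emb4
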