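import Mathlib
import Cfsg.Agent.Lib.Helper2.Emb4H
import Cfsg.Agent.Lib.Helper9.Lc9G

/-! # The `3^3 : S_4` configuration: `|G| = 648` -/

set_option autoImplicit false
set_option linter.style.haveILetI false
set_option linter.unusedSectionVars false
open Cfsg

namespace Cfsg.Agent.Lib.Helper2.Emb4

open scoped ComplexConjugate
open Cfsg.Agent.Lib.Helper6
open Cfsg.Agent.Lib.Helper2.Emb3 (V phi phi_zero three_nsmul)

section loc

variable {G : Type*} [Group G] [Fintype G] [DecidableEq G] [Fintype (Cfsg.IrrCharacter G)]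
variable [DecidableEq (Cfsg.IrrCharacter G)]
variable {J H : Subgroup G} {a₁ a₂ a₃ : G} {σ : Fin 24 → G} (L : Loc4 J H a₁ a₂ a₃ σ)
include L

theorem Loc4.card_eq : Nat.card G = 648 := by
  classical
  obtain ⟨v, hv⟩ := L.exists_vfun
  obtain ⟨d, hd⟩ : ∃ d : Cfsg.IrrCharacter G → ℤ,
      ∀ χ, d χ = (Cfsg.charDegree (χ : G → ℂ) : ℤ) := ⟨_, fun _ => rfl⟩
  have hdpos : ∀ χ, 0 < d χ := by
    intro χ; rw [hd]; exact_mod_cast IsIrrCharacter.charDegree_pos χ.2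
  obtain ⟨t0, ht0⟩ : ∃ o : Cfsg.IrrCharacter G, (o : G → ℂ) = fun _ => 1 :=
    ⟨⟨fun _ => 1, isIrrCharacter_one⟩, rfl⟩
  have hgram := gram_generic
    (fun k (χ : Cfsg.IrrCharacter G) => (χ : G → ℂ) (nf a₁ a₂ a₃ σ (dD k))) v L.orth hv
  have hdeg := deg_generic
    (fun k (χ : Cfsg.IrrCharacter G) => (χ : G → ℂ) (nf a₁ a₂ a₃ σ (dD k))) v d
    (fun k => by simp only [hd]; exact L.degsum k) hv
  have htriv := triv_generic
    (fun k (χ : Cfsg.IrrCharacter G) => (χ : G → ℂ) (nf a₁ a₂ a₃ σ (dD k))) v t0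
    (fun k => by simp only [ht0]) hv
  rcases Cfsg.Agent.Lib.Helper9.Lc9.lattice_classify t0 v d hdpos hgram htriv hdeg with
    ⟨X, s, hX, hs, hX0, hs0, hvM⟩ | ⟨X, s, hX, hs, -, -, hvM⟩
  · exact L.card_of_m0 v hv t0 ht0 X s hX hs hX0 hs0 hvM
  · exact (L.m1_false v hv X s hX hs hvM).elim

end loc

end Cfsg.Agent.Lib.Helper2.Emb4
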