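import Mathlib
import Cfsg.Prelude.Def_HallClasses
import Cfsg.Agent.Lib.Helper2.SylowNormal

set_option autoImplicit false

/-! Pronormality of overgroups of Sylow subgroups in extensions (S4270, S4271): basics and the
core lemma. -/

namespace Cfsg.Agent.Lib.Helper2.Pronorm

open scoped Pointwise

universe u v

variable {G : Type u} [Group G]

/-- pronormality, phrased with the pointwise conjugation action -/
def Prn (H : Subgroup G) : Prop :=
  ∀ g : G, ∃ x ∈ H ⊔ MulAut.conj g • H, MulAut.conj g • H = MulAut.conj x • H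

theorem isPronormal_iff (H : Subgroup G) : Cfsg.IsPronormal H ↔ Prn H := Iff.rfl

theorem mem_conj_smul {g x : G} {H : Subgroup G} :
    x ∈ MulAut.conj g • H ↔ g⁻¹ * x * g ∈ H := by
  rw [Subgroup.mem_pointwise_smul_iff_inv_smul_mem, ← map_inv, MulAut.smul_def,
    MulAut.conj_apply, inv_inv]

theorem conj_mem_conj_smul {g x : G} {H : Subgroup G} (hx : x ∈ H) :
    g * x * g⁻¹ ∈ MulAut.conj g • H := by
  rw [mem_conj_smul]
  have e : g⁻¹ * (g * x * g⁻¹) * g = x := by group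
  rw [e]; exact hx

theorem conj_smul_le_of_mem {x : G} {K J : Subgroup G} (hx : x ∈ J) (hK : K ≤ J) :
    MulAut.conj x • K ≤ J := by
  intro y hy
  rw [mem_conj_smul] at hy
  have h1 := hK hy
  have e : y = x * (x⁻¹ * y * x) * x⁻¹ := by group
  rw [e]; exact J.mul_mem (J.mul_mem hx h1) (J.inv_mem hx)

theorem conj_smul_self_of_mem {x : G} {J : Subgroup G} (hx : x ∈ J) : MulAut.conj x • J = J := by
  apply le_antisymm (conj_smul_le_of_mem hx le_rfl)
  intro y hy
  rw [mem_conj_smul]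
  exact J.mul_mem (J.mul_mem (J.inv_mem hx) hy) hx

theorem conj_mul_smul (a b : G) (H : Subgroup G) :
    MulAut.conj (a * b) • H = MulAut.conj a • (MulAut.conj b • H) := by
  rw [map_mul, mul_smul]

theorem conj_inv_smul_smul (a : G) (H : Subgroup G) :
    MulAut.conj a⁻¹ • (MulAut.conj a • H) = H := by
  rw [map_inv, inv_smul_smul]

theorem conj_smul_inv_smul (a : G) (H : Subgroup G) :
    MulAut.conj a • (MulAut.conj a⁻¹ • H) = H := by
  rw [map_inv, smul_inv_smul]

theorem conj_smul_normal (g : G) (A : Subgroup G) [hA : A.Normal] : MulAut.conj g • A = A := by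
  ext y
  rw [mem_conj_smul]
  constructor
  · intro h
    have h1 := hA.conj_mem _ h g
    have e : g * (g⁻¹ * y * g) * g⁻¹ = y := by group
    rwa [e] at h1
  · intro h
    have h1 := hA.conj_mem _ h g⁻¹
    rwa [inv_inv] at h1

theorem conj_smul_mono (g : G) {H K : Subgroup G} (h : H ≤ K) :
    MulAut.conj g • H ≤ MulAut.conj g • K :=
  Subgroup.pointwise_smul_le_pointwise_smul_iff.2 h

theorem mem_normalizer_iff_smul {g : G} {H : Subgroup G} :
    g ∈ Subgroup.normalizer (H : Set G) ↔ MulAut.conj g • H = H := by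
  rw [Subgroup.mem_normalizer_iff]
  constructor
  · intro h
    ext y
    rw [mem_conj_smul, h (g⁻¹ * y * g)]
    have e : g * (g⁻¹ * y * g) * g⁻¹ = y := by group
    rw [e]
  · intro h x
    constructor
    · intro hx
      have h1 := conj_mem_conj_smul (g := g) hx
      rwa [h] at h1
    · intro hx
      have h1 : g * x * g⁻¹ ∈ MulAut.conj g • H := by rw [h]; exact hx
      rw [mem_conj_smul] at h1
      have e : g⁻¹ * (g * x * g⁻¹) * g = x := by group
      rwa [e] at h1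

theorem map_conj_smul {G' : Type v} [Group G'] (f : G →* G') (g : G) (H : Subgroup G) :
    (MulAut.conj g • H).map f = MulAut.conj (f g) • H.map f := by
  ext y
  constructor
  · rintro ⟨x, hx, rfl⟩
    have hx' : x ∈ MulAut.conj g • H := hx
    rw [mem_conj_smul] at hx' ⊢
    exact ⟨g⁻¹ * x * g, hx', by simp⟩
  · intro hy
    rw [mem_conj_smul] at hy
    obtain ⟨x, hx, hxy⟩ := hy
    refine ⟨g * x * g⁻¹, conj_mem_conj_smul hx, ?_⟩
    rw [map_mul, map_mul, hxy, map_inv]; group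

theorem Prn.map_apply {G' : Type v} [Group G'] (f : G →* G') {H : Subgroup G} (hH : Prn H)
    (g : G) : ∃ x ∈ H.map f ⊔ MulAut.conj (f g) • H.map f,
      MulAut.conj (f g) • H.map f = MulAut.conj x • H.map f := by
  obtain ⟨x, hx, hgx⟩ := hH g
  refine ⟨f x, ?_, ?_⟩
  · rw [← map_conj_smul, ← Subgroup.map_sup]; exact Subgroup.mem_map_of_mem f hx
  · rw [← map_conj_smul, ← map_conj_smul, hgx]

theorem Prn.map_surj {G' : Type v} [Group G'] (f : G →* G') (hf : Function.Surjective f)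
    {H : Subgroup G} (hH : Prn H) : Prn (H.map f) := by
  intro g'
  obtain ⟨g, rfl⟩ := hf g'
  exact hH.map_apply f g

theorem Prn.of_map {G' : Type v} [Group G'] (f : G →* G') {H : Subgroup G} (hker : f.ker ≤ H)
    (hH : Prn (H.map f)) : Prn H := by
  intro g
  obtain ⟨x', hx', hgx⟩ := hH (f g)
  rw [← map_conj_smul, ← Subgroup.map_sup] at hx'
  obtain ⟨x, hx, rfl⟩ := hx'
  refine ⟨x, hx, ?_⟩
  rw [← map_conj_smul, ← map_conj_smul] at hgx
  have h1 := congrArg (Subgroup.comap f) hgx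
  rw [Subgroup.comap_map_eq, Subgroup.comap_map_eq] at h1
  have hk : ∀ u : G, f.ker ≤ MulAut.conj u • H := by
    intro u
    have h2 := conj_smul_mono u hker
    rwa [conj_smul_normal] at h2
  rwa [sup_eq_left.2 (hk g), sup_eq_left.2 (hk x)] at h1

theorem Prn.conj {H : Subgroup G} (hH : Prn H) (u : G) : Prn (MulAut.conj u • H) :=
  hH.map_surj (MulAut.conj u).toMonoidHom (MulAut.conj u).surjective

section Syl

variable (p : ℕ)

/-- `T` is a Sylow `p`-subgroup of `J` (both subgroups of `G`). -/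
def SylIn (T J : Subgroup G) : Prop := T ≤ J ∧ IsPGroup p T ∧ ¬ p ∣ T.relIndex J

variable {p}

theorem SylIn.smul {T J : Subgroup G} (h : SylIn p T J) (g : G) :
    SylIn p (MulAut.conj g • T) (MulAut.conj g • J) :=
  ⟨conj_smul_mono g h.1, h.2.1.map _, by
    rw [Subgroup.relIndex_pointwise_smul]; exact h.2.2⟩

theorem SylIn.mono {T J A : Subgroup G} (h : SylIn p T A) (hTJ : T ≤ J) (hJA : J ≤ A) :
    SylIn p T J :=
  ⟨hTJ, h.2.1, fun hd => h.2.2 (by
    rw [← Subgroup.relIndex_mul_relIndex T J A hTJ hJA]; exact hd.mul_right _)⟩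

/-- the Sylow subgroup of `↥J` attached to `T` -/
noncomputable def SylIn.toSylow [Fact p.Prime] {T J : Subgroup G} (h : SylIn p T J) :
    Sylow p ↥J :=
  IsPGroup.toSylow (P := T.subgroupOf J) h.2.1.comap_subtype h.2.2

theorem SylIn.coe_toSylow [Fact p.Prime] {T J : Subgroup G} (h : SylIn p T J) :
    (h.toSylow : Subgroup ↥J) = T.subgroupOf J := IsPGroup.toSylow_coe _ _

theorem SylIn.of_sylow [Fact p.Prime] [Finite G] {J : Subgroup G} (Q : Sylow p ↥J) :
    SylIn p ((Q : Subgroup ↥J).map J.subtype) J := by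
  refine ⟨Subgroup.map_subtype_le _, Q.2.map _, ?_⟩
  have h1 : ((Q : Subgroup ↥J).map J.subtype).relIndex J = (Q : Subgroup ↥J).index := by
    unfold Subgroup.relIndex
    rw [Subgroup.subgroupOf, Subgroup.comap_map_eq_self_of_injective J.subtype_injective]
  rw [h1]; exact Q.not_dvd_index

theorem SylIn.of_sylow_top [Fact p.Prime] [Finite G] (P : Sylow p G) :
    SylIn p (P : Subgroup G) ⊤ :=
  ⟨le_top, P.2, by rw [Subgroup.relIndex_top_right]; exact P.not_dvd_index⟩

/-- the Sylow subgroup of `G` attached to `S` -/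
noncomputable def SylIn.toSylowTop [Fact p.Prime] {S : Subgroup G} (h : SylIn p S ⊤) :
    Sylow p G :=
  IsPGroup.toSylow h.2.1 (by rw [← Subgroup.relIndex_top_right]; exact h.2.2)

theorem SylIn.coe_toSylowTop [Fact p.Prime] {S : Subgroup G} (h : SylIn p S ⊤) :
    (h.toSylowTop : Subgroup G) = S := IsPGroup.toSylow_coe _ _

theorem SylIn.exists_conj [Fact p.Prime] [Finite G] {T₁ T₂ J : Subgroup G} (h₁ : SylIn p T₁ J)
    (h₂ : SylIn p T₂ J) : ∃ j ∈ J, MulAut.conj j • T₁ = T₂ := by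
  obtain ⟨j, hj⟩ := MulAction.exists_smul_eq ↥J h₁.toSylow h₂.toSylow
  refine ⟨j, j.2, ?_⟩
  have h3 : ((j • h₁.toSylow : Sylow p ↥J) : Subgroup ↥J) = (h₂.toSylow : Subgroup ↥J) := by
    rw [hj]
  rw [Sylow.coe_subgroup_smul, h₁.coe_toSylow, h₂.coe_toSylow] at h3
  have h4 := congrArg (Subgroup.map J.subtype) h3
  rw [map_conj_smul, Subgroup.map_subgroupOf_eq_of_le h₁.1,
    Subgroup.map_subgroupOf_eq_of_le h₂.1] at h4
  exact h4

theorem SylIn.eq_of_le [Fact p.Prime] {T T' A : Subgroup G} (h : SylIn p T A) (hTT' : T ≤ T')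
    (hT'A : T' ≤ A) (hT' : IsPGroup p T') : T' = T := by
  have h1 := h.toSylow.is_maximal' (Q := T'.subgroupOf A) hT'.comap_subtype
    (by rw [h.coe_toSylow]; exact Subgroup.comap_mono hTT')
  rw [h.coe_toSylow, Subgroup.subgroupOf_inj, inf_of_le_left hT'A, inf_of_le_left h.1] at h1
  exact h1

theorem SylIn.inf_normal [Fact p.Prime] [Finite G] {S A : Subgroup G} [A.Normal]
    (h : SylIn p S ⊤) : SylIn p (S ⊓ A) A := by
  refine ⟨inf_le_right, h.2.1.to_le inf_le_left, ?_⟩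
  rw [Subgroup.inf_relIndex_right, ← Cfsg.Agent.Lib.Helper2.relIndex_sup_eq_of_normal]
  intro hd
  apply h.2.2
  rw [Subgroup.relIndex_top_right]
  exact hd.trans (Subgroup.relIndex_dvd_index_of_le le_sup_left)

theorem frattini_elt [Fact p.Prime] [Finite G] {T B : Subgroup G} (hT : SylIn p T B) {h : G}
    (hB : MulAut.conj h • B = B) : ∃ b ∈ B, MulAut.conj (b⁻¹ * h) • T = T := by
  have h1 : SylIn p (MulAut.conj h • T) B := by
    have h2 := hT.smul h
    rwa [hB] at h2
  obtain ⟨b, hb, hbT⟩ := hT.exists_conj h1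
  refine ⟨b, hb, ?_⟩
  rw [conj_mul_smul, ← hbT, conj_inv_smul_smul]

/-- **Core lemma**: conjugation by elements of `A`. -/
theorem core [Fact p.Prime] [Finite G] (A : Subgroup G) [A.Normal] (T : Subgroup G)
    (hT : SylIn p T A)
    (hA' : ∀ B : Subgroup G, B ≤ A → T ≤ B → ∀ a ∈ A,
      ∃ y ∈ B ⊔ MulAut.conj a • B, MulAut.conj a • B = MulAut.conj y • B)
    (hN' : ∀ K : Subgroup G, T ≤ K → K ≤ Subgroup.normalizer (T : Set G) →
      (∃ S', SylIn p S' (Subgroup.normalizer (T : Set G)) ∧ S' ≤ K) →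
      ∀ n ∈ Subgroup.normalizer (T : Set G),
        ∃ x ∈ K ⊔ MulAut.conj n • K, MulAut.conj n • K = MulAut.conj x • K)
    (H S : Subgroup G) (hS : SylIn p S ⊤) (hSH : S ≤ H) (hSA : S ⊓ A = T) (a : G) (ha : a ∈ A) :
    ∃ z ∈ H ⊔ MulAut.conj a • H, MulAut.conj a • H = MulAut.conj z • H := by
  have hTS : T ≤ S := hSA ▸ inf_le_left
  have hTH : T ≤ H := hTS.trans hSH
  have hTB : T ≤ H ⊓ A := le_inf hTH hT.1
  have hBA : H ⊓ A ≤ A := inf_le_right
  -- Step 1
  obtain ⟨y, hy, hay⟩ := hA' (H ⊓ A) hBA hTB a ha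
  have hTB' : SylIn p T (H ⊓ A) := hT.mono hTB hBA
  have s1 : SylIn p (MulAut.conj a • T) (MulAut.conj a • (H ⊓ A)) := hTB'.smul a
  have s2 : SylIn p (MulAut.conj y • T) (MulAut.conj a • (H ⊓ A)) := by
    have h2 := hTB'.smul y
    rwa [← hay] at h2
  obtain ⟨w, hw, hwT⟩ := s2.exists_conj s1
  have hy'T : MulAut.conj (w * y) • T = MulAut.conj a • T := by rw [conj_mul_smul, hwT]
  have hy'B : MulAut.conj (w * y) • (H ⊓ A) = MulAut.conj a • (H ⊓ A) := by
    rw [conj_mul_smul, ← hay, conj_smul_self_of_mem hw]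
  have hBL : (H ⊓ A) ⊔ MulAut.conj a • (H ⊓ A) ≤ H ⊔ MulAut.conj a • H :=
    sup_le_sup inf_le_left (conj_smul_mono a inf_le_left)
  have hy'L : w * y ∈ H ⊔ MulAut.conj a • H :=
    Subgroup.mul_mem _ (hBL (Subgroup.mem_sup_right hw)) (hBL hy)
  have haB_A : MulAut.conj a • (H ⊓ A) ≤ A := by
    have h2 := conj_smul_mono a hBA
    rwa [conj_smul_normal a A] at h2
  have hy'A : w * y ∈ A := A.mul_mem (haB_A hw) ((sup_le hBA haB_A) hy)
  have hbT : MulAut.conj ((w * y)⁻¹ * a) • T = T := by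
    rw [conj_mul_smul, ← hy'T, conj_inv_smul_smul]
  have hbB : MulAut.conj ((w * y)⁻¹ * a) • (H ⊓ A) = H ⊓ A := by
    rw [conj_mul_smul, ← hy'B, conj_inv_smul_smul]
  have hbN : (w * y)⁻¹ * a ∈ Subgroup.normalizer (T : Set G) := mem_normalizer_iff_smul.2 hbT
  have hab : a = (w * y) * ((w * y)⁻¹ * a) := by group
  generalize hbdef : (w * y)⁻¹ * a = b at hbT hbB hbN hab
  generalize hy'def : w * y = y' at hy'T hy'B hy'L hy'A hab hbdef
  -- Step 2
  have hSN : S ≤ Subgroup.normalizer (T : Set G) := by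
    intro s hs
    rw [mem_normalizer_iff_smul, ← hSA, Subgroup.smul_inf, conj_smul_self_of_mem hs,
      conj_smul_normal]
  have hTN : T ≤ Subgroup.normalizer (T : Set G) := hTS.trans hSN
  have hTK : T ≤ H ⊓ Subgroup.normalizer (T : Set G) := le_inf hTH hTN
  have hSK : S ≤ H ⊓ Subgroup.normalizer (T : Set G) := le_inf hSH hSN
  have hSylN : SylIn p S (Subgroup.normalizer (T : Set G)) := hS.mono hSN le_top
  obtain ⟨x, hx, hbx⟩ := hN' (H ⊓ Subgroup.normalizer (T : Set G)) hTK inf_le_right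
    ⟨S, hSylN, hSK⟩ b hbN
  have hHB : ∀ h ∈ H, MulAut.conj h • (H ⊓ A) = H ⊓ A := by
    intro h hh
    rw [Subgroup.smul_inf, conj_smul_self_of_mem hh, conj_smul_normal]
  have hb'B : MulAut.conj b⁻¹ • (H ⊓ A) = H ⊓ A := by
    conv_lhs => rw [← hbB]
    exact conj_inv_smul_smul b _
  have hKB : (H ⊓ Subgroup.normalizer (T : Set G)) ⊔
      MulAut.conj b • (H ⊓ Subgroup.normalizer (T : Set G)) ≤
      Subgroup.normalizer ((H ⊓ A : Subgroup G) : Set G) := by
    refine sup_le ?_ ?_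
    · intro k hk
      exact mem_normalizer_iff_smul.2 (hHB k (Subgroup.mem_inf.1 hk).1)
    · intro k hk
      rw [mem_conj_smul] at hk
      rw [mem_normalizer_iff_smul]
      have e : k = b * (b⁻¹ * k * b) * b⁻¹ := by group
      rw [e, conj_mul_smul, conj_mul_smul, hb'B, hHB _ (Subgroup.mem_inf.1 hk).1, hbB]
  have hxB : MulAut.conj x • (H ⊓ A) = H ⊓ A := mem_normalizer_iff_smul.1 (hKB hx)
  have hHBK : H = (H ⊓ A) ⊔ (H ⊓ Subgroup.normalizer (T : Set G)) := by
    apply le_antisymm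
    · intro h hh
      obtain ⟨b₀, hb₀, hb₀T⟩ := frattini_elt hTB' (hHB h hh)
      have h1 : b₀⁻¹ * h ∈ H ⊓ Subgroup.normalizer (T : Set G) :=
        Subgroup.mem_inf.2 ⟨H.mul_mem (H.inv_mem (Subgroup.mem_inf.1 hb₀).1) hh,
          mem_normalizer_iff_smul.2 hb₀T⟩
      have e : h = b₀ * (b₀⁻¹ * h) := by group
      rw [e]
      exact Subgroup.mul_mem _ (Subgroup.mem_sup_left hb₀) (Subgroup.mem_sup_right h1)
    · exact sup_le inf_le_left inf_le_left
  have hxH : MulAut.conj x • H = MulAut.conj b • H := by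
    conv_lhs => rw [hHBK]
    conv_rhs => rw [hHBK]
    rw [Subgroup.smul_sup, Subgroup.smul_sup, hxB, hbB, hbx]
  refine ⟨y' * x, ?_, ?_⟩
  · apply Subgroup.mul_mem _ hy'L
    have h1 : MulAut.conj b • H ≤ H ⊔ MulAut.conj a • H := by
      rw [← hbdef, conj_mul_smul]
      exact conj_smul_le_of_mem (Subgroup.inv_mem _ hy'L) le_sup_right
    have h2 : (H ⊓ Subgroup.normalizer (T : Set G)) ⊔
        MulAut.conj b • (H ⊓ Subgroup.normalizer (T : Set G)) ≤ H ⊔ MulAut.conj a • H :=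
      sup_le (inf_le_left.trans le_sup_left) ((conj_smul_mono b inf_le_left).trans h1)
    exact h2 hx
  · rw [conj_mul_smul, hxH, ← conj_mul_smul, ← hab]

end Syl

end Cfsg.Agent.Lib.Helper2.Pronorm
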