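import Mathlib
import Cfsg.Prelude.Def_Local
import Cfsg.Agent.Lib.Lead.UniqueP
import Cfsg.Agent.Lib.Helper3.CyclicSub
import Cfsg.Agent.Lib.Helper2.Pronormal1

set_option autoImplicit false

/-! Groups in which `p`-subgroups of equal order are conjugate, with a normal `p`-solvable
subgroup of order divisible by `p` (S4024). -/

namespace Cfsg.Agent.Lib.Helper2.EqOrd

open scoped Pointwise
open Cfsg.Agent.Lib.Helper2.Pronorm

variable {G : Type*} [Group G]

/-- the conjugacy hypothesis -/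
def CP (p : ℕ) (G : Type*) [Group G] : Prop :=
  ∀ H K : Subgroup G, IsPGroup p H → IsPGroup p K → Nat.card H = Nat.card K →
      ∃ g : G, K = H.map (MulAut.conj g).toMonoidHom

theorem exists_le_card [Finite G] {p : ℕ} [hp : Fact p.Prime] {Z : Subgroup G}
    (hZ : IsPGroup p Z) {k : ℕ} (hk : p ^ k ≤ Nat.card Z) :
    ∃ Y : Subgroup G, Y ≤ Z ∧ Nat.card Y = p ^ k := by
  obtain ⟨Y', hY'⟩ := Sylow.exists_subgroup_card_pow_prime_of_le_card hp.out hZ hk
  exact ⟨Y'.map Z.subtype, Subgroup.map_subtype_le Y', by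
    rw [Subgroup.card_map_of_injective Z.subtype_injective, hY']⟩

theorem eq_one_of_mem_of_mem [Finite G] {p : ℕ} [hp : Fact p.Prime] {P N : Subgroup G}
    (hP : IsPGroup p P) (hN : ¬ p ∣ Nat.card N) {z : G} (hzP : z ∈ P) (hzN : z ∈ N) : z = 1 := by
  obtain ⟨k, hk⟩ := hP ⟨z, hzP⟩
  have hk' : z ^ (p ^ k) = 1 := by
    have := congrArg Subtype.val hk
    simpa using this
  have h1 : orderOf z ∣ p ^ k := orderOf_dvd_of_pow_eq_one hk'
  have h2 : orderOf z ∣ Nat.card N := Subgroup.orderOf_dvd_natCard N hzN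
  have hcop : Nat.Coprime (p ^ k) (Nat.card N) :=
    Nat.Coprime.pow_left k ((Nat.Prime.coprime_iff_not_dvd hp.out).2 hN)
  have : orderOf z = 1 := Nat.eq_one_of_dvd_coprimes hcop h1 h2
  exact orderOf_eq_one_iff.1 this

/-- A subgroup `Q` of an odd-order `p`-group `P` absorbing all subgroups of order at most `|Q|`
is everything, or `P` is cyclic. -/
theorem eq_or_cyclic [Finite G] {p : ℕ} [hp : Fact p.Prime] (hp2 : p ≠ 2) {P Q : Subgroup G}
    (hP : IsPGroup p P) (hQP : Q ≤ P) (hQ1 : Q ≠ ⊥)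
    (hall : ∀ X : Subgroup G, X ≤ P → Nat.card X ≤ Nat.card Q → X ≤ Q) :
    Q = P ∨ IsCyclic P := by
  by_cases hQe : Q = P
  · exact Or.inl hQe
  right
  have hlt : Q < P := lt_of_le_of_ne hQP hQe
  obtain ⟨x, hxP, hxQ⟩ := SetLike.exists_of_lt hlt
  have hCP : Subgroup.zpowers x ≤ P := by rw [Subgroup.zpowers_le]; exact hxP
  have hQp : IsPGroup p Q := hP.to_le hQP
  have hCp : IsPGroup p (Subgroup.zpowers x) := hP.to_le hCP
  obtain ⟨b, hb⟩ := IsPGroup.iff_card.1 hQp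
  have hb1 : b ≠ 0 := by
    rintro rfl
    rw [pow_zero] at hb
    exact hQ1 (Subgroup.card_eq_one.1 hb)
  have hcard : Nat.card Q < Nat.card (Subgroup.zpowers x) := by
    by_contra hcon
    push Not at hcon
    exact hxQ (hall _ hCP hcon (Subgroup.mem_zpowers x))
  obtain ⟨Y, hYC, hYc⟩ := exists_le_card hCp (k := b) (by rw [← hb]; exact hcard.le)
  have hYcard : Nat.card Y = Nat.card Q := by rw [hYc, hb]
  have hYQ : Y ≤ Q := hall Y (hYC.trans hCP) hYcard.le
  have hYeq : Y = Q := Subgroup.eq_of_le_of_card_ge hYQ hYcard.ge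
  have hQC : Q ≤ Subgroup.zpowers x := hYeq ▸ hYC
  have hinQ : ∀ z : G, z ∈ P → z ^ p = 1 → z ∈ Q := by
    intro z hz hzp
    by_cases hz1 : z = 1
    · rw [hz1]; exact Q.one_mem
    have hoz : orderOf z = p := orderOf_eq_prime hzp hz1
    have : Subgroup.zpowers z ≤ Q := by
      apply hall _ (by rw [Subgroup.zpowers_le]; exact hz)
      rw [Nat.card_zpowers, hoz, hb]
      exact Nat.le_self_pow hb1 p
    exact this (Subgroup.mem_zpowers z)
  have huop : Cfsg.Agent.Lib.Lead.UniqueP.UOP p ↥P := by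
    intro x' y' hx' hy' hx1
    have hx'p : (x' : G) ^ p = 1 := by rw [← Subgroup.coe_pow, hx']; rfl
    have hy'p : (y' : G) ^ p = 1 := by rw [← Subgroup.coe_pow, hy']; rfl
    have hx1' : (x' : G) ≠ 1 := fun e => hx1 (Subtype.ext e)
    have hxC : (x' : G) ∈ Subgroup.zpowers x := hQC (hinQ _ x'.2 hx'p)
    have hyC : (y' : G) ∈ Subgroup.zpowers x := hQC (hinQ _ y'.2 hy'p)
    have hmem : (y' : G) ∈ Subgroup.zpowers (x' : G) := by
      by_cases hy1 : (y' : G) = 1
      · rw [hy1]; exact Subgroup.one_mem _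
      have : Subgroup.zpowers (x' : G) = Subgroup.zpowers (y' : G) := by
        apply Cfsg.Agent.Lib.Helper3.subgroup_eq_of_card_eq_of_le_isCyclic (Subgroup.zpowers x)
        · rw [Subgroup.zpowers_le]; exact hxC
        · rw [Subgroup.zpowers_le]; exact hyC
        · rw [Nat.card_zpowers, Nat.card_zpowers, orderOf_eq_prime hx'p hx1',
            orderOf_eq_prime hy'p hy1]
      rw [this]; exact Subgroup.mem_zpowers _
    obtain ⟨k, hk⟩ := Subgroup.mem_zpowers_iff.1 hmem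
    rw [Subgroup.mem_zpowers_iff]
    exact ⟨k, Subtype.ext (by rw [Subgroup.coe_zpow]; exact hk)⟩
  rcases Cfsg.Agent.Lib.Lead.UniqueP.cyclic_or_quaternion p hP huop with h | ⟨h, _⟩
  · exact h
  · exact absurd h hp2

/-- From a `p`-solvable normal subgroup of order divisible by `p`: a normal `p'`-subgroup `N` and a
normal subgroup `M ≤ H` of order divisible by `p` with `M` of `p`-power exponent modulo `N`. -/
theorem exists_normal_pair [Finite G] {p : ℕ} [hp : Fact p.Prime] (H : Subgroup G) [hH : H.Normal]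
    (hsolv : Cfsg.IsPSolvable p H) (hdiv : p ∣ Nat.card H) :
    ∃ (N M : Subgroup G) (m : ℕ), N.Normal ∧ M.Normal ∧ M ≤ H ∧ ¬ p ∣ Nat.card N ∧
      p ∣ Nat.card M ∧ ∀ x ∈ M, x ^ (p ^ m) ∈ N := by
  obtain ⟨n, Hc, h0, hlast, -, hnorm, hfac⟩ := hsolv
  obtain ⟨D, hD⟩ : ∃ D : Fin (n + 1) → Subgroup G,
      D = fun i => ((Hc i).map H.subtype).normalCore := ⟨_, rfl⟩
  have hDn : ∀ i, (D i).Normal := by
    intro i; rw [hD]; exact Subgroup.normalCore_normal _
  have hDH : ∀ i, D i ≤ H := by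
    intro i; rw [hD]
    exact (Subgroup.normalCore_le _).trans (Subgroup.map_subtype_le _)
  have hD0 : D 0 = ⊥ := by
    rw [hD, eq_bot_iff]
    refine (Subgroup.normalCore_le _).trans ?_
    rw [h0, Subgroup.map_bot]
  have hDlast : D (Fin.last n) = H := by
    have : (Hc (Fin.last n)).map H.subtype = H := by
      rw [hlast, ← MonoidHom.range_eq_map, Subgroup.range_subtype]
    rw [hD]
    show ((Hc (Fin.last n)).map H.subtype).normalCore = H
    rw [this]
    exact Subgroup.normalCore_eq_self H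
  have hDpow : ∀ i : Fin n, ∀ x ∈ D i.succ,
      x ^ ((Hc i.castSucc).relIndex (Hc i.succ)) ∈ D i.castSucc := by
    intro i x hx
    rw [hD] at hx ⊢
    intro b
    have hb : b * x * b⁻¹ ∈ (Hc i.succ).map H.subtype := hx b
    obtain ⟨y', hy', hyb⟩ := hb
    haveI := hnorm i.castSucc
    have h1 := Subgroup.pow_index_mem ((Hc i.castSucc).subgroupOf (Hc i.succ)) ⟨y', hy'⟩
    rw [Subgroup.mem_subgroupOf, Subgroup.coe_pow] at h1
    have h2 : y' ^ ((Hc i.castSucc).relIndex (Hc i.succ)) ∈ Hc i.castSucc := h1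
    rw [← conj_pow, ← hyb, ← map_pow]
    exact Subgroup.mem_map_of_mem _ h2
  have hex : ∃ i : Fin n, ¬ p ∣ Nat.card (D i.castSucc) ∧ p ∣ Nat.card (D i.succ) := by
    by_contra hno
    have hallD : ∀ i : Fin (n + 1), ¬ p ∣ Nat.card (D i) := by
      intro i
      induction i using Fin.induction with
      | zero =>
        intro h
        rw [hD0, Subgroup.card_bot] at h
        exact hp.out.one_lt.ne' (Nat.dvd_one.1 h)
      | succ i ih => exact fun h => hno ⟨i, ih, h⟩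
    exact hallD (Fin.last n) (by rw [hDlast]; exact hdiv)
  obtain ⟨i, hi1, hi2⟩ := hex
  rcases hfac i with ⟨m, hm⟩ | hcop
  · refine ⟨D i.castSucc, D i.succ, m, hDn _, hDn _, hDH _, hi1, hi2, ?_⟩
    intro x hx
    rw [← hm]; exact hDpow i x hx
  · exfalso
    obtain ⟨x, hx⟩ := exists_prime_orderOf_dvd_card' p hi2
    have hox : orderOf (x : G) = p := by rw [Subgroup.orderOf_coe]; exact hx
    have h1 := hDpow i (x : G) x.2
    have h2 : orderOf ((x : G) ^ ((Hc i.castSucc).relIndex (Hc i.succ))) = p := by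
      rw [Nat.Coprime.orderOf_pow, hox]
      rw [hox]; exact hcop.symm
    apply hi1
    rw [← h2]
    exact Subgroup.orderOf_dvd_natCard _ h1

theorem main_aux [Finite G] {p : ℕ} [hp : Fact p.Prime] (hp2 : p ≠ 2) (hC : CP p G)
    (P : Sylow p G) (N M : Subgroup G) [hN : N.Normal] [hM : M.Normal] (hNM : N ≤ M) (m : ℕ)
    (hNp : ¬ p ∣ Nat.card N) (hMp : p ∣ Nat.card M) (hpow : ∀ x ∈ M, x ^ (p ^ m) ∈ N) :
    IsMulCommutative ↥(P : Subgroup G) ∧ ((P : Subgroup G) ≤ M ∨ IsCyclic ↥(P : Subgroup G)) := by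
  have hPp : IsPGroup p ↥(P : Subgroup G) := P.2
  have hcyc_comm : IsCyclic ↥(P : Subgroup G) → IsMulCommutative ↥(P : Subgroup G) := by
    intro h
    exact ⟨⟨fun a b => Cfsg.Agent.Lib.Lead.UniqueP.comm_of_isCyclic a b⟩⟩
  have hpG : p ∣ Nat.card G := hMp.trans (Subgroup.card_subgroup_dvd_card M)
  have hconj : ∀ X Y : Subgroup G, IsPGroup p X → IsPGroup p Y → Nat.card X = Nat.card Y →
      Y ≤ M → X ≤ M := by
    intro X Y hX hY hc hYM
    obtain ⟨g, hg⟩ := hC Y X hY hX hc.symm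
    rw [hg]
    rintro _ ⟨y, hy, rfl⟩
    exact hM.conj_mem y (hYM hy) g
  have hQp : IsPGroup p ↥((P : Subgroup G) ⊓ M) := hPp.to_le inf_le_left
  have hF2 : ∀ X : Subgroup G, IsPGroup p X →
      Nat.card X ≤ Nat.card ↥((P : Subgroup G) ⊓ M) → X ≤ M := by
    intro X hX hXc
    obtain ⟨k, hk⟩ := IsPGroup.iff_card.1 hX
    obtain ⟨Y, hYQ, hYc⟩ := exists_le_card hQp (k := k) (by rw [← hk]; exact hXc)
    exact hconj X Y hX (hQp.to_le hYQ) (by rw [hk, hYc]) (hYQ.trans inf_le_right)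
  have hQ1 : (P : Subgroup G) ⊓ M ≠ ⊥ := by
    obtain ⟨x, hx⟩ := exists_prime_orderOf_dvd_card' p hMp
    obtain ⟨y, hy⟩ := exists_prime_orderOf_dvd_card' p (P.dvd_card_of_dvd_card hpG)
    have hox : orderOf (x : G) = p := by rw [Subgroup.orderOf_coe]; exact hx
    have hoy : orderOf (y : G) = p := by rw [Subgroup.orderOf_coe]; exact hy
    have hXp : IsPGroup p (Subgroup.zpowers (x : G)) :=
      IsPGroup.of_card (n := 1) (by rw [Nat.card_zpowers, hox, pow_one])
    have hYp : IsPGroup p (Subgroup.zpowers (y : G)) :=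
      IsPGroup.of_card (n := 1) (by rw [Nat.card_zpowers, hoy, pow_one])
    have hle : Subgroup.zpowers (y : G) ≤ M :=
      hconj _ _ hYp hXp (by rw [Nat.card_zpowers, Nat.card_zpowers, hox, hoy])
        (by rw [Subgroup.zpowers_le]; exact x.2)
    intro hbot
    have hyQ : (y : G) ∈ (P : Subgroup G) ⊓ M := ⟨y.2, hle (Subgroup.mem_zpowers _)⟩
    rw [hbot, Subgroup.mem_bot] at hyQ
    rw [hyQ, orderOf_one] at hoy
    exact hp.out.one_lt.ne hoy
  rcases eq_or_cyclic hp2 hPp inf_le_left hQ1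
    (fun X hXP hXc => le_inf hXP (hF2 X (hPp.to_le hXP) hXc)) with hQP | hcyc
  swap
  · exact ⟨hcyc_comm hcyc, Or.inr hcyc⟩
  have hPM : (P : Subgroup G) ≤ M := inf_eq_left.1 hQP
  refine ⟨?_, Or.inl hPM⟩
  have hSyl : SylIn p (P : Subgroup G) M := (SylIn.of_sylow_top P).mono hPM le_top
  have hMle : M ≤ N ⊔ (P : Subgroup G) := by
    rw [← Subgroup.relIndex_eq_one]
    have h1 : (N ⊔ (P : Subgroup G)).relIndex M ∣ N.relIndex M :=
      Subgroup.relIndex_dvd_of_le_left M le_sup_left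
    have h2 : (N ⊔ (P : Subgroup G)).relIndex M ∣ (P : Subgroup G).relIndex M :=
      Subgroup.relIndex_dvd_of_le_left M le_sup_right
    have h3 : ∃ j, N.relIndex M = p ^ j := by
      have hq : IsPGroup p (↥M ⧸ N.subgroupOf M) := by
        intro q
        obtain ⟨x, rfl⟩ := QuotientGroup.mk_surjective q
        refine ⟨m, ?_⟩
        rw [← QuotientGroup.mk_pow, QuotientGroup.eq_one_iff, Subgroup.mem_subgroupOf,
          Subgroup.coe_pow]
        exact hpow x x.2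
      obtain ⟨j, hj⟩ := IsPGroup.iff_card.1 hq
      exact ⟨j, by rw [← hj]; rfl⟩
    obtain ⟨j, hj⟩ := h3
    rw [hj] at h1
    have hcop : Nat.Coprime ((N ⊔ (P : Subgroup G)).relIndex M) p := by
      rw [Nat.coprime_comm, Nat.Prime.coprime_iff_not_dvd hp.out]
      exact fun h => hSyl.2.2 (h.trans h2)
    exact Nat.Coprime.eq_one_of_dvd (Nat.Coprime.pow_right j hcop) h1
  obtain ⟨Z, hZdef⟩ : ∃ Z : Subgroup G,
      Z = (P : Subgroup G) ⊓ Subgroup.centralizer ((P : Subgroup G) : Set G) := ⟨_, rfl⟩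
  have hZmem : ∀ z : G, z ∈ Z ↔
      z ∈ (P : Subgroup G) ∧ z ∈ Subgroup.centralizer ((P : Subgroup G) : Set G) := by
    intro z; rw [hZdef]; exact Subgroup.mem_inf
  have hZP : Z ≤ P := by rw [hZdef]; exact inf_le_left
  have hZp : IsPGroup p Z := hPp.to_le hZP
  have hZ1 : Z ≠ ⊥ := by
    haveI : Nontrivial ↥(P : Subgroup G) := by
      have := P.dvd_card_of_dvd_card hpG
      rw [← Finite.one_lt_card_iff_nontrivial]
      exact lt_of_lt_of_le hp.out.one_lt (Nat.le_of_dvd Nat.card_pos this)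
    haveI := hPp.center_nontrivial
    obtain ⟨z, hz1⟩ := exists_ne (1 : ↥(Subgroup.center ↥(P : Subgroup G)))
    intro hbot
    have hzZ : ((z : ↥(P : Subgroup G)) : G) ∈ Z := by
      rw [hZmem]
      refine ⟨(z : ↥(P : Subgroup G)).2, ?_⟩
      rw [Subgroup.mem_centralizer_iff]
      intro h hh
      have := (Subgroup.mem_center_iff.1 z.2) ⟨h, hh⟩
      exact congrArg Subtype.val this
    rw [hbot, Subgroup.mem_bot] at hzZ
    exact hz1 (Subtype.ext (Subtype.ext hzZ))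
  have hZall : ∀ X : Subgroup G, X ≤ P → Nat.card X ≤ Nat.card Z → X ≤ Z := by
    intro X hXP hXc
    have hXp := hPp.to_le hXP
    obtain ⟨k, hk⟩ := IsPGroup.iff_card.1 hXp
    obtain ⟨Y, hYZ, hYc⟩ := exists_le_card hZp (k := k) (by rw [← hk]; exact hXc)
    obtain ⟨g, hg⟩ := hC Y X (hZp.to_le hYZ) hXp (by rw [hk, hYc])
    obtain ⟨b, hbM, hbP⟩ := frattini_elt hSyl (h := g) (conj_smul_normal g M)
    obtain ⟨n, hnN, u, huP, hnu⟩ := Subgroup.mem_sup_of_normal_left.1 (hMle hbM)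
    obtain ⟨h, hh⟩ : ∃ h : G, h = b⁻¹ * g := ⟨_, rfl⟩
    rw [← hh] at hbP
    intro x hxX
    have hxX' := hxX
    rw [hg] at hxX'
    obtain ⟨y, hyY, hyx⟩ := hxX'
    have hyZ := (hZmem y).1 (hYZ hyY)
    have hyP : y ∈ (P : Subgroup G) := hyZ.1
    have hyc : y ∈ Subgroup.centralizer ((P : Subgroup G) : Set G) := hyZ.2
    have hy₁P : h * y * h⁻¹ ∈ (P : Subgroup G) := by
      have := conj_mem_conj_smul (g := h) hyP
      rwa [hbP] at this
    have hy₁c : h * y * h⁻¹ ∈ Subgroup.centralizer ((P : Subgroup G) : Set G) := by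
      rw [Subgroup.mem_centralizer_iff]
      intro w hw
      have hw' : h⁻¹ * w * h ∈ (P : Subgroup G) := by
        have : w ∈ MulAut.conj h • (P : Subgroup G) := by rw [hbP]; exact hw
        exact mem_conj_smul.1 this
      have hcm := (Subgroup.mem_centralizer_iff.1 hyc) _ hw'
      calc w * (h * y * h⁻¹) = h * ((h⁻¹ * w * h) * y) * h⁻¹ := by group
        _ = h * (y * (h⁻¹ * w * h)) * h⁻¹ := by rw [hcm]
        _ = h * y * h⁻¹ * w := by group
    obtain ⟨y₁, hy₁⟩ : ∃ y₁ : G, y₁ = h * y * h⁻¹ := ⟨_, rfl⟩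
    rw [← hy₁] at hy₁P hy₁c
    have hu : u * y₁ * u⁻¹ = y₁ := by
      have hcm := (Subgroup.mem_centralizer_iff.1 hy₁c) u huP
      rw [hcm]; group
    have hxe : x = n * y₁ * n⁻¹ := by
      have hgb : g = n * u * h := by rw [hh, hnu]; group
      rw [← hyx]
      show g * y * g⁻¹ = _
      rw [hgb]
      calc n * u * h * y * (n * u * h)⁻¹ = n * (u * (h * y * h⁻¹) * u⁻¹) * n⁻¹ := by group
        _ = n * y₁ * n⁻¹ := by rw [← hy₁, hu]
    have hxP : n * y₁ * n⁻¹ ∈ (P : Subgroup G) := by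
      rw [← hxe]; exact hXP hxX
    have hcomm : n * y₁ * n⁻¹ * y₁⁻¹ = 1 := by
      apply eq_one_of_mem_of_mem hPp hNp
      · exact (P : Subgroup G).mul_mem hxP ((P : Subgroup G).inv_mem hy₁P)
      · have e : n * y₁ * n⁻¹ * y₁⁻¹ = n * (y₁ * n⁻¹ * y₁⁻¹) := by group
        rw [e]
        exact N.mul_mem hnN (hN.conj_mem _ (N.inv_mem hnN) y₁)
    have hfin : n * y₁ * n⁻¹ = y₁ := mul_inv_eq_one.1 hcomm
    rw [hxe, hfin, hZmem]
    exact ⟨hy₁P, hy₁c⟩
  rcases eq_or_cyclic hp2 hPp hZP hZ1 hZall with hZe | hcyc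
  · refine ⟨⟨fun a b => ?_⟩⟩
    have ha : (a : G) ∈ Z := by rw [hZe]; exact a.2
    have hcm := (Subgroup.mem_centralizer_iff.1 ((hZmem _).1 ha).2) b b.2
    exact Subtype.ext hcm.symm
  · exact hcyc_comm hcyc

theorem main [Finite G] {p : ℕ} [hp : Fact p.Prime] (hp2 : p ≠ 2) (hC : CP p G)
    (P : Sylow p G) (H : Subgroup G) [hH : H.Normal] (hsolv : Cfsg.IsPSolvable p H)
    (hdiv : p ∣ Nat.card H) :
    IsMulCommutative ↥(P : Subgroup G) ∧ ((P : Subgroup G) ≤ H ∨ IsCyclic ↥(P : Subgroup G)) := by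
  obtain ⟨N₀, M, m, hN₀n, hMn, hMH, hN₀p, hMp, hpow₀⟩ := exists_normal_pair H hsolv hdiv
  haveI := hN₀n
  haveI := hMn
  have hNp : ¬ p ∣ Nat.card ↥(N₀ ⊓ M) := fun h =>
    hN₀p (h.trans (Subgroup.card_dvd_of_le inf_le_left))
  have hpow : ∀ x ∈ M, x ^ (p ^ m) ∈ N₀ ⊓ M := fun x hx =>
    ⟨hpow₀ x hx, M.pow_mem hx _⟩
  obtain ⟨h1, h2⟩ := main_aux hp2 hC P (N₀ ⊓ M) M inf_le_right m hNp hMp hpow
  refine ⟨h1, ?_⟩
  rcases h2 with h2 | h2
  · exact Or.inl (h2.trans hMH)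
  · exact Or.inr h2

end Cfsg.Agent.Lib.Helper2.EqOrd
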