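import Cfsg.Agent.Lib.Helper9.AlperinCor

set_option autoImplicit false

namespace Cfsg.Agent.Lib.Helper2.EssGen

open Cfsg Cfsg.FusionSystem Cfsg.Agent.Lib.Helper9

variable {Ω : Type*} [Group Ω] {S : Subgroup Ω}

/-- chosen maps `N_S(P) → S` of the system carrying `P` onto `Q`, for all `P` conjugate to `Q` -/
structure Marks (F : FusionSystem S) (Q : Subgroup Ω) where
  Θ : ∀ P : Subgroup Ω, F.IsConj P Q → (↥(normalizerIn S P) →* Ω)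
  mem : ∀ (P : Subgroup Ω) (h : F.IsConj P Q), Θ P h ∈ F.Hom (normalizerIn S P)
  map_eq : ∀ (P : Subgroup Ω) (h : F.IsConj P Q),
    (P.subgroupOf (normalizerIn S P)).map (Θ P h) = Q

theorem Marks.mem_Q {F : FusionSystem S} {Q : Subgroup Ω} (M : Marks F Q) {P : Subgroup Ω}
    (h : F.IsConj P Q) {x : Ω} (hx : x ∈ P) (hx' : x ∈ normalizerIn S P) :
    M.Θ P h ⟨x, hx'⟩ ∈ Q := by
  have h1 : M.Θ P h ⟨x, hx'⟩ ∈ (P.subgroupOf (normalizerIn S P)).map (M.Θ P h) :=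
    ⟨⟨x, hx'⟩, Subgroup.mem_subgroupOf.mpr hx, rfl⟩
  rw [M.map_eq P h] at h1
  exact h1

theorem Marks.surj {F : FusionSystem S} {Q : Subgroup Ω} (M : Marks F Q) {P : Subgroup Ω}
    (h : F.IsConj P Q) {q : Ω} (hq : q ∈ Q) :
    ∃ (x : Ω) (_ : x ∈ P) (hx' : x ∈ normalizerIn S P), M.Θ P h ⟨x, hx'⟩ = q := by
  have h1 : q ∈ (P.subgroupOf (normalizerIn S P)).map (M.Θ P h) := by
    rw [M.map_eq P h]; exact hq
  obtain ⟨y, hy, hyq⟩ := h1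
  exact ⟨y.1, Subgroup.mem_subgroupOf.mp hy, y.2, hyq⟩

theorem exists_marks [Finite S] {p : ℕ} [Fact p.Prime] (hS : IsPGroup p S)
    (F : FusionSystem S) (hF : F.IsSaturated p) {Q : Subgroup Ω} (hQn : F.IsFullyNormalized Q) :
    Nonempty (Marks F Q) := by
  have hfa := fullyAutomized_of_fullyNormalized hS F hF hQn
  have hfc := fullyCentralized_of_fullyNormalized hS F hF hQn
  have hrec := receptive_of_fullyCentralized hS F hF hfc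
  have h : ∀ P : Subgroup Ω, F.IsConj P Q → ∃ φ : ↥(normalizerIn S P) →* Ω,
      φ ∈ F.Hom (normalizerIn S P) ∧ (P.subgroupOf (normalizerIn S P)).map φ = Q := by
    intro P hP
    obtain ⟨φ, hφ, -, hφm⟩ := exists_normalizer_hom hS F Q P hfa hrec hP
    exact ⟨φ, hφ, hφm⟩
  choose Θ h1 h2 using h
  exact ⟨⟨Θ, h1, h2⟩⟩

/-- the compatibility condition defining the subsystem -/
def Good (F : FusionSystem S) (Q : Subgroup Ω) (M : Marks F Q) (H : Subgroup (MulAut Q))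
    (P P' : Subgroup Ω) (φ : P →* Ω) : Prop :=
  ∀ (h : F.IsConj P Q) (h' : F.IsConj P' Q), ∃ α ∈ H,
    ∀ (x : P) (hx : (x : Ω) ∈ normalizerIn S P) (hy : φ x ∈ normalizerIn S P')
      (hq : M.Θ P h ⟨x, hx⟩ ∈ Q),
      M.Θ P' h' ⟨φ x, hy⟩ = ((α ⟨M.Θ P h ⟨x, hx⟩, hq⟩ : Q) : Ω)

theorem Good.comp {F : FusionSystem S} {Q : Subgroup Ω} {M : Marks F Q} {H : Subgroup (MulAut Q)}
    {P P' P'' : Subgroup Ω} {φ : P →* Ω} {ψ : P' →* Ω}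
    (hφ : Good F Q M H P P' φ) (hψ : Good F Q M H P' P'' ψ) (hm : ∀ x : P, φ x ∈ P')
    (hP'Q : F.IsConj P' Q) : Good F Q M H P P'' (ψ.comp (φ.codRestrict P' hm)) := by
  intro h h''
  have hP'S : P' ≤ S := isConj_le_left F hP'Q
  obtain ⟨α₁, hα₁, h1⟩ := hφ h hP'Q
  obtain ⟨α₂, hα₂, h2⟩ := hψ hP'Q h''
  refine ⟨α₂ * α₁, H.mul_mem hα₂ hα₁, ?_⟩
  intro x hx hy hq
  have hy1 : φ x ∈ normalizerIn S P' := self_le_normalizerIn' hP'S (hm x)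
  have e1 := h1 x hx hy1 hq
  have hq1 : M.Θ P' hP'Q ⟨φ x, hy1⟩ ∈ Q := by rw [e1]; exact (α₁ _).2
  have e2 := h2 ⟨φ x, hm x⟩ hy1 hy hq1
  have e3 : (⟨M.Θ P' hP'Q ⟨φ x, hy1⟩, hq1⟩ : Q) = α₁ ⟨M.Θ P h ⟨x, hx⟩, hq⟩ := Subtype.ext e1
  rw [MulAut.mul_apply, ← e3]
  exact e2

theorem Good.inv {F : FusionSystem S} {Q : Subgroup Ω} {M : Marks F Q} {H : Subgroup (MulAut Q)}
    {P P' : Subgroup Ω} {φ : P →* Ω} {ψ : P' →* Ω} (hPS : P ≤ S)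
    (hφ : Good F Q M H P P' φ) (hφr : φ.range = P')
    (hψφ : ∀ (x : P) (hx : φ x ∈ P'), ψ ⟨φ x, hx⟩ = x) : Good F Q M H P' P ψ := by
  intro h' h
  obtain ⟨α, hα, h1⟩ := hφ h h'
  refine ⟨α⁻¹, H.inv_mem hα, ?_⟩
  intro y hy hz hq
  obtain ⟨x, hx⟩ := hφr.ge y.2
  have hxy : y = ⟨φ x, hφr.le ⟨x, rfl⟩⟩ := Subtype.ext hx.symm
  subst hxy
  have hxN : (x : Ω) ∈ normalizerIn S P := self_le_normalizerIn' hPS x.2
  have hqx : M.Θ P h ⟨x, hxN⟩ ∈ Q := M.mem_Q h x.2 hxN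
  have e1 := h1 x hxN hy hqx
  have e2 : (⟨M.Θ P' h' ⟨φ x, hy⟩, hq⟩ : Q) = α ⟨M.Θ P h ⟨x, hxN⟩, hqx⟩ := Subtype.ext e1
  rw [e2, MulAut.inv_apply_self]
  show M.Θ P h ⟨ψ ⟨φ x, _⟩, hz⟩ = M.Θ P h ⟨x, hxN⟩
  congr 1
  exact Subtype.ext (hψφ x _)

theorem map_mem_normalizer_range {R P : Subgroup Ω} (ψ : R →* Ω) (hPR : P ≤ R) {n : Ω}
    (hnR : n ∈ R) (hn : n ∈ Subgroup.normalizer (P : Set Ω)) :
    ψ ⟨n, hnR⟩ ∈ Subgroup.normalizer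
      (((ψ.comp (Subgroup.inclusion hPR)).range : Subgroup Ω) : Set Ω) := by
  have hconj : ∀ (m : Ω) (hmR : m ∈ R), m ∈ Subgroup.normalizer (P : Set Ω) →
      ∀ y ∈ (ψ.comp (Subgroup.inclusion hPR)).range,
        ψ ⟨m, hmR⟩ * y * (ψ ⟨m, hmR⟩)⁻¹ ∈ (ψ.comp (Subgroup.inclusion hPR)).range := by
    rintro m hmR hm _ ⟨x, rfl⟩
    have hx' : m * (x : Ω) * m⁻¹ ∈ P := (Subgroup.mem_normalizer_iff.mp hm _).mp x.2
    refine ⟨⟨m * x * m⁻¹, hx'⟩, ?_⟩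
    show ψ ⟨m * x * m⁻¹, hPR hx'⟩ = ψ ⟨m, hmR⟩ * ψ ⟨x, hPR x.2⟩ * (ψ ⟨m, hmR⟩)⁻¹
    rw [← map_inv, ← map_mul, ← map_mul]
    rfl
  rw [Subgroup.mem_normalizer_iff]
  intro y
  constructor
  · intro hy
    exact hconj n hnR hn y hy
  · intro hy
    have hn' : n⁻¹ ∈ Subgroup.normalizer (P : Set Ω) := Subgroup.inv_mem _ hn
    have h1 := hconj n⁻¹ (R.inv_mem hnR) hn' _ hy
    have e : ψ ⟨n⁻¹, R.inv_mem hnR⟩ = (ψ ⟨n, hnR⟩)⁻¹ := by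
      rw [← map_inv]; rfl
    rw [e] at h1
    have e2 : (ψ ⟨n, hnR⟩)⁻¹ * (ψ ⟨n, hnR⟩ * y * (ψ ⟨n, hnR⟩)⁻¹) * ((ψ ⟨n, hnR⟩)⁻¹)⁻¹ = y := by
      group
    rwa [e2] at h1

/-- the restriction of a map of the system defined on a strictly larger subgroup is good -/
theorem Good.of_restrict [Finite S] {p : ℕ} [Fact p.Prime] (hS : IsPGroup p S)
    (F : FusionSystem S) {Q : Subgroup Ω} (M : Marks F Q) {P R P' : Subgroup Ω} {ψ : R →* Ω}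
    (hψ : ψ ∈ F.Hom R) (hlt : P < R)
    (hr : (ψ.comp (Subgroup.inclusion hlt.le)).range = P') :
    Good F Q M (Subgroup.closure (extGen F Q)) P P' (ψ.comp (Subgroup.inclusion hlt.le)) := by
  intro h h'
  have hRS : R ≤ S := hom_le F hψ
  have hPS : P ≤ S := hlt.le.trans hRS
  have hP'S : P' ≤ S := isConj_le_left F h'
  haveI : Finite R := finite_of_le hRS
  obtain ⟨g, hgN, hgP⟩ := exists_mem_normalizerIn_not_mem (S := R) (isPGroup_of_le hS hRS) hlt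
  have hNN : normalizerIn R P ≤ normalizerIn S P := inf_le_inf_right _ hRS
  have hNR : normalizerIn R P ≤ R := inf_le_left
  have hPN : P ≤ normalizerIn R P := le_inf hlt.le Subgroup.le_normalizer
  have hμ : (M.Θ P h).comp (Subgroup.inclusion hNN) ∈ F.Hom (normalizerIn R P) :=
    restrict_mem F (M.mem P h) hNN
  obtain ⟨Q₁, hQ₁⟩ : ∃ Q₁, ((M.Θ P h).comp (Subgroup.inclusion hNN)).range = Q₁ := ⟨_, rfl⟩
  obtain ⟨ν, hν, hνμ, hνr, -⟩ := inv_hom F hμ hQ₁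
  have hνN : ∀ y : Q₁, ν y ∈ normalizerIn R P := fun y => hνr.le ⟨y, rfl⟩
  have hψ1 : ψ.comp (Subgroup.inclusion hNR) ∈ F.Hom (normalizerIn R P) := restrict_mem F hψ hNR
  obtain ⟨ω₁, hω₁, hω₁e⟩ := comp_hom F hν hψ1 hνN
  have hω₁N : ∀ y : Q₁, ω₁ y ∈ normalizerIn S P' := by
    intro y
    rw [hω₁e]
    refine ⟨hom_mem F hψ1 _, ?_⟩
    have h3 := map_mem_normalizer_range ψ hlt.le (hNR (hνN y)) (hνN y).2
    rw [hr] at h3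
    exact h3
  obtain ⟨ω, hω, hωe⟩ := comp_hom F hω₁ (M.mem P' h') hω₁N
  have hQQ₁ : Q ≤ Q₁ := by
    intro q hq
    obtain ⟨x, hxP, hxN, hxq⟩ := M.surj h hq
    rw [← hQ₁, ← hxq]
    exact ⟨⟨x, hPN hxP⟩, rfl⟩
  have hμinj := F.injective_of_mem hμ
  have hgQ : (M.Θ P h) ⟨g, hNN hgN⟩ ∉ Q := by
    intro hq
    obtain ⟨x, hxP, hxN, hx⟩ := M.surj h hq
    have h4 : (⟨x, hPN hxP⟩ : ↥(normalizerIn R P)) = ⟨g, hgN⟩ :=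
      @hμinj ⟨x, hPN hxP⟩ ⟨g, hgN⟩ hx
    apply hgP
    have h5 : x = g := congrArg Subtype.val h4
    rw [← h5]
    exact hxP
  have hlt' : Q < Q₁ := by
    refine lt_of_le_of_ne hQQ₁ ?_
    intro heq
    apply hgQ
    exact heq.ge (hQ₁.le ⟨⟨g, hgN⟩, rfl⟩)
  have hkey : ∀ (x : Ω) (hxP : x ∈ P) (hxN : x ∈ normalizerIn S P)
      (hq1 : M.Θ P h ⟨x, hxN⟩ ∈ Q₁) (hy' : ψ ⟨x, hlt.le hxP⟩ ∈ normalizerIn S P'),
      ω ⟨M.Θ P h ⟨x, hxN⟩, hq1⟩ = M.Θ P' h' ⟨ψ ⟨x, hlt.le hxP⟩, hy'⟩ := by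
    intro x hxP hxN hq1 hy'
    rw [hωe]
    congr 1
    apply Subtype.ext
    show ω₁ ⟨M.Θ P h ⟨x, hxN⟩, hq1⟩ = ψ ⟨x, hlt.le hxP⟩
    rw [hω₁e]
    show ψ ⟨ν ⟨M.Θ P h ⟨x, hxN⟩, hq1⟩, _⟩ = ψ ⟨x, hlt.le hxP⟩
    congr 1
    apply Subtype.ext
    exact hνμ ⟨x, hPN hxP⟩ hq1
  have hωQ : ω.comp (Subgroup.inclusion hQQ₁) ∈ F.Hom Q := restrict_mem F hω hQQ₁
  have hP'eq : ∀ (x : Ω) (hxP : x ∈ P), ψ ⟨x, hlt.le hxP⟩ ∈ P' :=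
    fun x hxP => hr.le ⟨⟨x, hxP⟩, rfl⟩
  have hωQr : (ω.comp (Subgroup.inclusion hQQ₁)).range = Q := by
    apply le_antisymm
    · rintro _ ⟨q, rfl⟩
      obtain ⟨x, hxP, hxN, hx⟩ := M.surj h q.2
      have hy' : ψ ⟨x, hlt.le hxP⟩ ∈ normalizerIn S P' :=
        self_le_normalizerIn' hP'S (hP'eq x hxP)
      have hq1 : M.Θ P h ⟨x, hxN⟩ ∈ Q₁ := by rw [hx]; exact hQQ₁ q.2
      have e : (ω.comp (Subgroup.inclusion hQQ₁)) q = M.Θ P' h' ⟨ψ ⟨x, hlt.le hxP⟩, hy'⟩ := by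
        rw [← hkey x hxP hxN hq1 hy']
        show ω ⟨(q : Ω), _⟩ = _
        congr 1
        exact Subtype.ext hx.symm
      rw [e]
      exact M.mem_Q h' (hP'eq x hxP) hy'
    · intro q hq
      obtain ⟨y, hyP', hyN, hyq⟩ := M.surj h' hq
      obtain ⟨x, hx⟩ := hr.ge hyP'
      have hxN : (x : Ω) ∈ normalizerIn S P := self_le_normalizerIn' hPS x.2
      have hq0 : M.Θ P h ⟨x, hxN⟩ ∈ Q := M.mem_Q h x.2 hxN
      refine ⟨⟨M.Θ P h ⟨x, hxN⟩, hq0⟩, ?_⟩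
      show ω ⟨M.Θ P h ⟨x, hxN⟩, hQQ₁ hq0⟩ = q
      have hxy : ψ ⟨x, hlt.le x.2⟩ = y := hx
      have hy' : ψ ⟨x, hlt.le x.2⟩ ∈ normalizerIn S P' := by
        rw [hxy]; exact hyN
      rw [hkey x x.2 hxN (hQQ₁ hq0) hy', ← hyq]
      congr 1
      exact Subtype.ext hxy
  obtain ⟨α, hα, hαe⟩ := exists_aut_of_hom F hωQ hωQr
  have hαext : α ∈ extGen F Q := ⟨Q₁, hlt', ω, hω, fun z => (hαe z).symm⟩
  refine ⟨α, Subgroup.subset_closure hαext, ?_⟩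
  intro x hx hy hq
  rw [hαe]
  show M.Θ P' h' ⟨ψ ⟨x, hlt.le x.2⟩, hy⟩ = ω ⟨M.Θ P h ⟨x, hx⟩, hQQ₁ hq⟩
  exact (hkey x x.2 hx (hQQ₁ hq) hy).symm

end Cfsg.Agent.Lib.Helper2.EssGen
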