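import Mathlib

set_option autoImplicit false

/-! Transvection-like automorphisms of an abelian group: the subgroups `TY Y`, transvection
data `TV`, and the element acting as `-1` produced by two non-commuting transvection groups. -/

namespace Cfsg.Agent.Lib.Helper2.Ex

section basic

variable {E : Type*} [Group E]

/-- automorphisms fixing `Y` pointwise and acting trivially modulo `Y` -/
def TY (Y : Subgroup E) : Subgroup (MulAut E) where
  carrier := {α | (∀ y ∈ Y, α y = y) ∧ ∀ e, e⁻¹ * α e ∈ Y}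
  one_mem' := ⟨fun y _ => rfl, fun e => by
    show e⁻¹ * (1 : MulAut E) e ∈ Y
    rw [MulAut.one_apply, inv_mul_cancel]; exact Y.one_mem⟩
  mul_mem' := by
    rintro α β ⟨ha1, ha2⟩ ⟨hb1, hb2⟩
    refine ⟨fun y hy => ?_, fun e => ?_⟩
    · rw [MulAut.mul_apply, hb1 y hy, ha1 y hy]
    · have : e⁻¹ * (α * β) e = (e⁻¹ * β e) * ((β e)⁻¹ * α (β e)) := by
        rw [MulAut.mul_apply]; group
      rw [this]
      exact Y.mul_mem (hb2 e) (ha2 (β e))
  inv_mem' := by
    rintro α ⟨ha1, ha2⟩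
    refine ⟨fun y hy => ?_, fun e => ?_⟩
    · calc α⁻¹ y = α⁻¹ (α y) := by rw [ha1 y hy]
        _ = y := MulAut.inv_apply_self _ _ _
    · have h := ha2 (α⁻¹ e)
      rw [MulAut.apply_inv_self] at h
      have : e⁻¹ * α⁻¹ e = ((α⁻¹ e)⁻¹ * e)⁻¹ := by group
      rw [this]
      exact Y.inv_mem h

theorem mem_TY {Y : Subgroup E} {α : MulAut E} :
    α ∈ TY Y ↔ (∀ y ∈ Y, α y = y) ∧ ∀ e, e⁻¹ * α e ∈ Y := Iff.rfl

theorem TY_pow_apply {Y : Subgroup E} {α : MulAut E} (hα : α ∈ TY Y) (n : ℕ) (e : E) :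
    (α ^ n) e = e * (e⁻¹ * α e) ^ n := by
  induction n with
  | zero => simp
  | succ n ih =>
    rw [pow_succ', MulAut.mul_apply, ih, map_mul, map_pow, hα.1 _ (hα.2 e), pow_succ',
      ← mul_assoc, mul_inv_cancel_left]

theorem TY_pow {p : ℕ} {Y : Subgroup E} (hY : ∀ y ∈ Y, y ^ p = 1) {α : MulAut E}
    (hα : α ∈ TY Y) : α ^ p = 1 := by
  apply MulEquiv.ext
  intro e
  rw [TY_pow_apply hα, hY _ (hα.2 e), mul_one, MulAut.one_apply]

theorem isPGroup_TY {p : ℕ} {Y : Subgroup E} (hY : ∀ y ∈ Y, y ^ p = 1) : IsPGroup p ↥(TY Y) := by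
  intro g
  refine ⟨1, Subtype.ext ?_⟩
  rw [pow_one, Subgroup.coe_pow, Subgroup.coe_one]
  exact TY_pow hY g.2

theorem pow_eq_one_of_mem_zpowers {p : ℕ} {z : E} (hz : z ^ p = 1) {y : E}
    (hy : y ∈ Subgroup.zpowers z) : y ^ p = 1 := by
  obtain ⟨k, rfl⟩ := Subgroup.mem_zpowers_iff.mp hy
  rw [← zpow_natCast, ← zpow_mul, mul_comm, zpow_mul, zpow_natCast, hz, one_zpow]

/-- transvection data: `u ∈ G` acts as `e ↦ e * z ^ k(e)` with `z` of order `p` fixed by `u` -/
structure TV (p : ℕ) (G : Subgroup (MulAut E)) (u : MulAut E) (z : E) : Prop where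
  mem : u ∈ G
  ne : z ≠ 1
  pow : z ^ p = 1
  fix : u z = z
  act : ∀ e, ∃ k : ℕ, u e = e * z ^ k
  ne1 : u ≠ 1

variable {p : ℕ} {G : Subgroup (MulAut E)} {u u' : MulAut E} {z z' : E}

theorem TV.mem_TY (h : TV p G u z) : u ∈ TY (Subgroup.zpowers z) := by
  refine ⟨fun y hy => ?_, fun e => ?_⟩
  · obtain ⟨k, rfl⟩ := Subgroup.mem_zpowers_iff.mp hy
    rw [map_zpow, h.fix]
  · obtain ⟨k, hk⟩ := h.act e
    rw [hk, inv_mul_cancel_left]
    exact Subgroup.pow_mem _ (Subgroup.mem_zpowers z) k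

theorem TV.pow_eq_one (h : TV p G u z) : u ^ p = 1 :=
  TY_pow (fun _ hy => pow_eq_one_of_mem_zpowers h.pow hy) h.mem_TY

theorem TV.fix_zpowers (h : TV p G u z) {y : E} (hy : y ∈ Subgroup.zpowers z) : u y = y :=
  h.mem_TY.1 y hy

theorem TV.conj (h : TV p G u z) {g : MulAut E} (hg : g ∈ G) :
    TV p G (g * u * g⁻¹) (g z) where
  mem := G.mul_mem (G.mul_mem hg h.mem) (G.inv_mem hg)
  ne := by
    intro h1
    apply h.ne
    have h2 := congrArg (g⁻¹ : MulAut E) h1
    rwa [MulAut.inv_apply_self, map_one] at h2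
  pow := by rw [← map_pow, h.pow, map_one]
  fix := by rw [MulAut.mul_apply, MulAut.mul_apply, MulAut.inv_apply_self, h.fix]
  act := by
    intro e
    obtain ⟨k, hk⟩ := h.act (g⁻¹ e)
    refine ⟨k, ?_⟩
    rw [MulAut.mul_apply, MulAut.mul_apply, hk, map_mul, MulAut.apply_inv_self, map_pow]
  ne1 := by
    intro h1
    apply h.ne1
    have h2 : u = g⁻¹ * (g * u * g⁻¹) * g := by group
    rw [h2, h1]; group

theorem aut_pow_fix {t : MulAut E} {c : E} (hc : t c = c) (n : ℕ) : (t ^ n) c = c := by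
  induction n with
  | zero => simp
  | succ n ih => rw [pow_succ', MulAut.mul_apply, ih, hc]

theorem aut_pow_apply' {t : MulAut E} {x c : E} {k : ℕ} (hc : t c = c) (hx : t x = x * c ^ k)
    (n : ℕ) : (t ^ n) x = x * c ^ (n * k) := by
  induction n with
  | zero => simp
  | succ n ih =>
    rw [pow_succ', MulAut.mul_apply, ih, map_mul, map_pow, hc, hx, mul_assoc, ← pow_add,
      show (n + 1) * k = k + n * k by ring]

section prime

variable [Fact p.Prime]

theorem TV.order_eq (h : TV p G u z) : orderOf u = p := orderOf_eq_prime h.pow_eq_one h.ne1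

theorem TV.order_center (h : TV p G u z) : orderOf z = p := orderOf_eq_prime h.pow h.ne

theorem TV.card_zpowers (h : TV p G u z) : Nat.card (Subgroup.zpowers u) = p := by
  rw [Nat.card_zpowers, h.order_eq]

theorem TV.isPGroup_zpowers (h : TV p G u z) : IsPGroup p ↥(Subgroup.zpowers u) :=
  IsPGroup.of_card (n := 1) (by rw [h.card_zpowers, pow_one])

theorem TV.pow_center_eq_one_iff (h : TV p G u z) (n : ℕ) : z ^ n = 1 ↔ p ∣ n := by
  rw [← h.order_center]
  exact (orderOf_dvd_iff_pow_eq_one).symm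

variable [Finite E]

/-- an element of `G` acting like a transvection with centre in `⟨z⟩` lies in `⟨u⟩` -/
theorem mem_zpowers_of_mem_TY
    (hG : ∀ K : Subgroup (MulAut E), K ≤ G → IsPGroup p K → Nat.card K ≤ p)
    (h : TV p G u z) {α : MulAut E} (hα : α ∈ G) (hαT : α ∈ TY (Subgroup.zpowers z)) :
    α ∈ Subgroup.zpowers u := by
  have hK : IsPGroup p ↥(TY (Subgroup.zpowers z) ⊓ G) :=
    (isPGroup_TY (fun _ hy => pow_eq_one_of_mem_zpowers h.pow hy)).to_le inf_le_left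
  have hc := hG _ inf_le_right hK
  have hle : Subgroup.zpowers u ≤ TY (Subgroup.zpowers z) ⊓ G := by
    rw [Subgroup.zpowers_le]; exact ⟨h.mem_TY, h.mem⟩
  have heq := Subgroup.eq_of_le_of_card_ge hle (by rw [h.card_zpowers]; exact hc)
  rw [heq]; exact ⟨hαT, hα⟩

theorem TV.not_mem_symm (h : TV p G u z) (h' : TV p G u' z')
    (hne : u' ∉ Subgroup.zpowers u) : u ∉ Subgroup.zpowers u' := by
  intro hu
  have hle : Subgroup.zpowers u ≤ Subgroup.zpowers u' := Subgroup.zpowers_le.mpr hu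
  have heq := Subgroup.eq_of_le_of_card_ge hle (by rw [h.card_zpowers, h'.card_zpowers])
  apply hne; rw [heq]; exact Subgroup.mem_zpowers u'

theorem TV.center_not_mem
    (hG : ∀ K : Subgroup (MulAut E), K ≤ G → IsPGroup p K → Nat.card K ≤ p)
    (h : TV p G u z) (h' : TV p G u' z') (hne : u' ∉ Subgroup.zpowers u) :
    z' ∉ Subgroup.zpowers z := by
  intro hz
  have hle : Subgroup.zpowers z' ≤ Subgroup.zpowers z := Subgroup.zpowers_le.mpr hz
  have heq : Subgroup.zpowers z' = Subgroup.zpowers z :=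
    Subgroup.eq_of_le_of_card_ge hle
      (by rw [Nat.card_zpowers, Nat.card_zpowers, h.order_center, h'.order_center])
  apply hne
  apply mem_zpowers_of_mem_TY hG h h'.mem
  rw [← heq]; exact h'.mem_TY

theorem TV.not_fix
    (hG : ∀ K : Subgroup (MulAut E), K ≤ G → IsPGroup p K → Nat.card K ≤ p)
    (h : TV p G u z) (h' : TV p G u' z') (hne : u' ∉ Subgroup.zpowers u) : u z' ≠ z' := by
  intro hfix
  have hfixpow : ∀ y ∈ Subgroup.zpowers z', u y = y := by
    intro y hy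
    obtain ⟨k, rfl⟩ := Subgroup.mem_zpowers_iff.mp hy
    rw [map_zpow, hfix]
  have hfixinv : ∀ y ∈ Subgroup.zpowers z', u⁻¹ y = y := by
    intro y hy
    calc u⁻¹ y = u⁻¹ (u y) := by rw [hfixpow y hy]
      _ = y := MulAut.inv_apply_self _ _ _
  have hv : u * u' * u⁻¹ ∈ TY (Subgroup.zpowers z') := by
    refine ⟨fun y hy => ?_, fun e => ?_⟩
    · rw [MulAut.mul_apply, MulAut.mul_apply, hfixinv y hy, h'.fix_zpowers hy, hfixpow y hy]
    · obtain ⟨k, hk⟩ := h'.act (u⁻¹ e)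
      rw [MulAut.mul_apply, MulAut.mul_apply, hk, map_mul, MulAut.apply_inv_self, map_pow, hfix,
        inv_mul_cancel_left]
      exact Subgroup.pow_mem _ (Subgroup.mem_zpowers z') k
  have hvG : u * u' * u⁻¹ ∈ G := G.mul_mem (G.mul_mem h.mem h'.mem) (G.inv_mem h.mem)
  have hvz := mem_zpowers_of_mem_TY hG h' hvG hv
  have hnorm : Subgroup.zpowers u ≤ Subgroup.normalizer (Subgroup.zpowers u' : Set (MulAut E)) := by
    rw [Subgroup.zpowers_le]
    apply Subgroup.mem_normalizer_fintype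
    intro n hn
    obtain ⟨k, rfl⟩ := Subgroup.mem_zpowers_iff.mp hn
    have h1 : u * u' ^ k * u⁻¹ = (u * u' * u⁻¹) ^ k := by rw [conj_zpow]
    rw [h1]
    exact Subgroup.zpow_mem _ hvz k
  have hP : IsPGroup p ↥(Subgroup.zpowers u ⊔ Subgroup.zpowers u') :=
    IsPGroup.to_sup_of_normal_right' h.isPGroup_zpowers h'.isPGroup_zpowers hnorm
  have hc := hG _ (sup_le (Subgroup.zpowers_le.mpr h.mem) (Subgroup.zpowers_le.mpr h'.mem)) hP
  have heq := Subgroup.eq_of_le_of_card_ge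
    (le_sup_left : Subgroup.zpowers u ≤ Subgroup.zpowers u ⊔ Subgroup.zpowers u')
    (by rw [h.card_zpowers]; exact hc)
  apply hne
  rw [heq]
  exact (le_sup_right : Subgroup.zpowers u' ≤ _) (Subgroup.mem_zpowers u')

theorem TV.exists_exp
    (hG : ∀ K : Subgroup (MulAut E), K ≤ G → IsPGroup p K → Nat.card K ≤ p)
    (h : TV p G u z) (h' : TV p G u' z') (hne : u' ∉ Subgroup.zpowers u) :
    ∃ a : ℕ, u z' = z' * z ^ a ∧ ¬ p ∣ a := by
  obtain ⟨a, ha⟩ := h.act z'
  refine ⟨a, ha, fun hdvd => ?_⟩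
  apply h.not_fix hG h' hne
  obtain ⟨c, rfl⟩ := hdvd
  rw [ha, pow_mul, h.pow, one_pow, mul_one]

end prime

end basic

end Cfsg.Agent.Lib.Helper2.Ex
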