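import Cfsg.Agent.Lib.Helper2.Ex1

set_option autoImplicit false

/-! The element `κ` acting as `-1` on the span of two transvection centres (odd `p`). -/

namespace Cfsg.Agent.Lib.Helper2.Ex

open scoped IsMulCommutative

variable {E : Type*} [Group E] [IsMulCommutative E] [Finite E] {p : ℕ} [Fact p.Prime]
  {G : Subgroup (MulAut E)} {u u' : MulAut E} {z z' : E}

theorem exists_inv_mod {a b : ℕ} (ha : ¬ p ∣ a) (hb : ¬ p ∣ b) :
    ∃ j : ℕ, p ∣ a * b * j + 1 := by
  have hp : p.Prime := Fact.out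
  have hab : ¬ p ∣ a * b := fun h => (hp.dvd_mul.mp h).elim ha hb
  have h0 : ((a * b : ℕ) : ZMod p) ≠ 0 := by
    rw [Ne, ZMod.natCast_eq_zero_iff]; exact hab
  refine ⟨(-(((a * b : ℕ) : ZMod p))⁻¹).val, ?_⟩
  rw [← ZMod.natCast_eq_zero_iff]
  have h1 := mul_inv_cancel₀ h0
  rw [Nat.cast_add, Nat.cast_mul, ZMod.natCast_zmod_val, mul_neg, h1, Nat.cast_one,
    neg_add_cancel]

theorem exists_kappa (hp2 : p ≠ 2)
    (hG : ∀ K : Subgroup (MulAut E), K ≤ G → IsPGroup p K → Nat.card K ≤ p)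
    (h : TV p G u z) (h' : TV p G u' z') (hne : u' ∉ Subgroup.zpowers u) :
    ∃ κ ∈ G, κ z = z⁻¹ ∧ κ * u * κ⁻¹ ∈ Subgroup.zpowers u ∧
      ∀ e, u e = e → (e⁻¹ * κ e ∈ Subgroup.zpowers z ∧ (κ e = e ↔ u' e = e)) := by
  have hp : p.Prime := Fact.out
  obtain ⟨a, ha, hpa⟩ := h.exists_exp hG h' hne
  obtain ⟨b, hb, hpb⟩ := h'.exists_exp hG h (h.not_mem_symm h' hne)
  obtain ⟨j, c, hc⟩ := exists_inv_mod (p := p) hpa hpb
  have hpj : ¬ p ∣ j := by
    intro hj
    have h1 : p ∣ a * b * j := Dvd.dvd.mul_left hj _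
    have h2 : p ∣ a * b * j + 1 := ⟨c, hc⟩
    have h3 : p ∣ 1 := (Nat.dvd_add_right h1).mp h2
    exact hp.one_lt.ne' (Nat.dvd_one.mp h3)
  have hz1 : ∀ n : ℕ, z ^ ((a * b * j + 1) * n) = 1 := by
    intro n; rw [hc, mul_assoc, pow_mul, h.pow, one_pow]
  have hz'1 : ∀ n : ℕ, z' ^ ((a * b * j + 1) * n) = 1 := by
    intro n; rw [hc, mul_assoc, pow_mul, h'.pow, one_pow]
  obtain ⟨w, hw⟩ : ∃ w : MulAut E, w = u * u' ^ j * u := ⟨_, rfl⟩
  have hwG : w ∈ G := by
    rw [hw]; exact G.mul_mem (G.mul_mem h.mem (G.pow_mem h'.mem j)) h.mem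
  have hu'j_z : (u' ^ j) z = z * z' ^ (j * b) := aut_pow_apply' h'.fix hb j
  have hu'j_z' : (u' ^ j) z' = z' := aut_pow_fix h'.fix j
  have hA : u ((u' ^ j) z) = z' ^ (j * b) := by
    rw [hu'j_z, map_mul, map_pow, h.fix, ha, mul_pow, ← pow_mul, mul_left_comm, ← pow_succ',
      show a * (j * b) + 1 = (a * b * j + 1) * 1 by ring, hz1, mul_one]
  have hwz : w z = z' ^ (j * b) := by
    rw [hw, MulAut.mul_apply, MulAut.mul_apply, h.fix]; exact hA
  have hwz' : w z' = z ^ a := by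
    rw [hw, MulAut.mul_apply, MulAut.mul_apply, ha, map_mul, map_pow, hu'j_z', map_mul, map_pow,
      hA, ha, ← pow_mul, mul_right_comm, ← pow_succ',
      show j * b * a + 1 = (a * b * j + 1) * 1 by ring, hz'1, one_mul]
  have hκz : (w * w) z = z⁻¹ := by
    rw [MulAut.mul_apply, hwz, map_pow, hwz', ← pow_mul]
    apply eq_inv_of_mul_eq_one_left
    rw [← pow_succ, show a * (j * b) + 1 = (a * b * j + 1) * 1 by ring, hz1]
  have hκG : w * w ∈ G := G.mul_mem hwG hwG
  have hκy : ∀ y ∈ Subgroup.zpowers z, (w * w) y = y⁻¹ := by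
    intro y hy
    obtain ⟨k, rfl⟩ := Subgroup.mem_zpowers_iff.mp hy
    rw [map_zpow, hκz, inv_zpow]
  have hκinvy : ∀ y ∈ Subgroup.zpowers z, (w * w)⁻¹ y = y⁻¹ := by
    intro y hy
    have h1 := hκy y⁻¹ (Subgroup.inv_mem _ hy)
    rw [inv_inv] at h1
    calc (w * w)⁻¹ y = (w * w)⁻¹ ((w * w) y⁻¹) := by rw [h1]
      _ = y⁻¹ := MulAut.inv_apply_self _ _ _
  refine ⟨w * w, hκG, hκz, ?_, ?_⟩
  · apply mem_zpowers_of_mem_TY hG h (G.mul_mem (G.mul_mem hκG h.mem) (G.inv_mem hκG))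
    refine ⟨fun y hy => ?_, fun e => ?_⟩
    · rw [MulAut.mul_apply, MulAut.mul_apply, hκinvy y hy,
        h.fix_zpowers (Subgroup.inv_mem _ hy), hκy _ (Subgroup.inv_mem _ hy), inv_inv]
    · obtain ⟨k, hk⟩ := h.act ((w * w)⁻¹ e)
      rw [MulAut.mul_apply, MulAut.mul_apply, hk, map_mul, MulAut.apply_inv_self, map_pow, hκz,
        inv_mul_cancel_left]
      exact Subgroup.pow_mem _ (Subgroup.inv_mem _ (Subgroup.mem_zpowers z)) k
  · intro e hue
    obtain ⟨m, hm⟩ := h'.act e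
    have hu'j_e : (u' ^ j) e = e * z' ^ (j * m) := aut_pow_apply' h'.fix hm j
    have hwe : w e = e * (z' ^ (j * m) * z ^ (a * (j * m))) := by
      rw [hw, MulAut.mul_apply, MulAut.mul_apply, hue, hu'j_e, map_mul, map_pow, hue, ha, mul_pow,
        ← pow_mul]
    have h1 : z' ^ (j * m) * z' ^ (j * b * (a * (j * m))) = 1 := by
      rw [← pow_add, show j * m + j * b * (a * (j * m)) = (a * b * j + 1) * (j * m) by ring, hz'1]
    have hκe : (w * w) e = e * z ^ (a * (j * m) + a * (j * m)) := by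
      rw [MulAut.mul_apply, hwe, map_mul, map_mul, map_pow, map_pow, hwe, hwz', hwz, ← pow_mul,
        ← pow_mul]
      calc e * (z' ^ (j * m) * z ^ (a * (j * m))) *
            (z ^ (a * (j * m)) * z' ^ (j * b * (a * (j * m))))
          = e * ((z' ^ (j * m) * z' ^ (j * b * (a * (j * m)))) *
              (z ^ (a * (j * m)) * z ^ (a * (j * m)))) := by
            rw [mul_assoc, mul_comm (z ^ (a * (j * m))) (z' ^ (j * b * (a * (j * m)))),
              mul_mul_mul_comm]
        _ = e * z ^ (a * (j * m) + a * (j * m)) := by rw [h1, one_mul, ← pow_add]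
    have hiff : p ∣ a * (j * m) + a * (j * m) ↔ p ∣ m := by
      constructor
      · intro hd
        rw [← two_mul] at hd
        rcases hp.dvd_mul.mp hd with h2 | h2
        · exfalso
          apply hp2
          exact ((Nat.prime_dvd_prime_iff_eq hp Nat.prime_two).mp h2)
        · rcases hp.dvd_mul.mp h2 with h3 | h3
          · exact absurd h3 hpa
          · rcases hp.dvd_mul.mp h3 with h4 | h4
            · exact absurd h4 hpj
            · exact h4
      · intro hd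
        exact Dvd.dvd.mul_left (Dvd.dvd.mul_left (Dvd.dvd.mul_left hd j) a) 2 |> fun h5 => by
          rw [two_mul] at h5; exact h5
    refine ⟨?_, ?_⟩
    · rw [hκe, inv_mul_cancel_left]
      exact Subgroup.pow_mem _ (Subgroup.mem_zpowers z) _
    · constructor
      · intro hfix
        rw [hκe] at hfix
        have h2 : z ^ (a * (j * m) + a * (j * m)) = 1 := by
          apply mul_left_cancel (a := e)
          rw [hfix, mul_one]
        have h3 := hiff.mp ((h.pow_center_eq_one_iff _).mp h2)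
        rw [hm, (h'.pow_center_eq_one_iff m).mpr h3, mul_one]
      · intro hfix
        rw [hm] at hfix
        have h2 : z' ^ m = 1 := by
          apply mul_left_cancel (a := e)
          rw [hfix, mul_one]
        have h3 := hiff.mpr ((h'.pow_center_eq_one_iff m).mp h2)
        rw [hκe, (h.pow_center_eq_one_iff _).mpr h3, mul_one]

end Cfsg.Agent.Lib.Helper2.Ex
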