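import Cfsg.Agent.Lib.Helper2.Ex1

set_option autoImplicit false

/-! Transvection data for `p = 2`: two non-commuting transvections generate `S₃` and there is no
third one. -/

namespace Cfsg.Agent.Lib.Helper2.Ex

open scoped IsMulCommutative

variable {E : Type*} [Group E] [IsMulCommutative E] [Finite E]
  {G : Subgroup (MulAut E)} {u u' u'' : MulAut E} {z z' z'' : E}

theorem pow_two_cases {M : Type*} [Monoid M] {x : M} (hx : x ^ 2 = 1) (k : ℕ) :
    x ^ k = 1 ∨ x ^ k = x := by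
  rcases Nat.even_or_odd' k with ⟨i, rfl | rfl⟩
  · left; rw [pow_mul, hx, one_pow]
  · right; rw [pow_succ, pow_mul, hx, one_pow, one_mul]

theorem mem_zpowers_two {M : Type*} [Group M] {t x : M} (hx : x ^ 2 = 1)
    (ht : t ∈ Subgroup.zpowers x) : t = 1 ∨ t = x := by
  obtain ⟨k, rfl⟩ := Subgroup.mem_zpowers_iff.mp ht
  have hx2 : x ^ (2 : ℤ) = 1 := by
    rw [← hx]; exact zpow_natCast x 2
  rcases Int.even_or_odd' k with ⟨i, rfl | rfl⟩
  · left; rw [zpow_mul, hx2, one_zpow]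
  · right; rw [zpow_add_one, zpow_mul, hx2, one_zpow, one_mul]

theorem TV.act2 (h : TV 2 G u z) (e : E) : u e = e ∨ u e = e * z := by
  obtain ⟨k, hk⟩ := h.act e
  rcases pow_two_cases h.pow k with h1 | h1
  · left; rw [hk, h1, mul_one]
  · right; rw [hk, h1]

theorem TV.inv_eq2 (h : TV 2 G u z) : u⁻¹ = u := by
  rw [inv_eq_iff_mul_eq_one, ← pow_two]; exact h.pow_eq_one

theorem TV.swap2
    (hG : ∀ K : Subgroup (MulAut E), K ≤ G → IsPGroup 2 K → Nat.card K ≤ 2)
    (h : TV 2 G u z) (h' : TV 2 G u' z') (hne : u' ∉ Subgroup.zpowers u) :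
    u z' = z' * z := by
  rcases h.act2 z' with h1 | h1
  · exact absurd h1 (h.not_fix hG h' hne)
  · exact h1

theorem center_unique {c : E} (h1 : TV 2 G u z) (h2 : TV 2 G u c) : c = z := by
  obtain ⟨e, he⟩ : ∃ e, u e ≠ e := by
    by_contra hcon
    push Not at hcon
    apply h1.ne1
    apply MulEquiv.ext
    intro e
    rw [hcon e, MulAut.one_apply]
  rcases h1.act2 e with h3 | h3
  · exact absurd h3 he
  · rcases h2.act2 e with h4 | h4
    · exact absurd h4 he
    · rw [h3] at h4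
      exact (mul_left_cancel h4).symm

theorem third_tv
    (hG : ∀ K : Subgroup (MulAut E), K ≤ G → IsPGroup 2 K → Nat.card K ≤ 2)
    (h : TV 2 G u z) (h' : TV 2 G u' z') (h'' : TV 2 G u'' z'')
    (hne : u' ∉ Subgroup.zpowers u) (hne1 : u'' ∉ Subgroup.zpowers u)
    (hne2 : u'' ∉ Subgroup.zpowers u') : u'' = u' * u * u' := by
  have e1 : u z'' = z'' * z := h.swap2 hG h'' hne1
  have e2 : u z' = z' * z := h.swap2 hG h' hne
  have e3 : u' z'' = z'' * z' := h'.swap2 hG h'' hne2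
  have ht := h''.conj h'.mem
  have hfix : u (u' z'') = u' z'' := by
    rw [e3, map_mul, e1, e2, mul_mul_mul_comm, ← pow_two, h.pow, mul_one]
  have hmem : u' * u'' * u'⁻¹ ∈ Subgroup.zpowers u := by
    by_contra hcon
    exact h.not_fix hG ht hcon hfix
  rcases mem_zpowers_two h.pow_eq_one hmem with h1 | h1
  · exact absurd h1 ht.ne1
  · calc u'' = u'⁻¹ * (u' * u'' * u'⁻¹) * u' := by group
      _ = u' * u * u' := by rw [h1, h'.inv_eq2]

theorem braid2
    (hG : ∀ K : Subgroup (MulAut E), K ≤ G → IsPGroup 2 K → Nat.card K ≤ 2)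
    (h : TV 2 G u z) (h' : TV 2 G u' z') (hne : u' ∉ Subgroup.zpowers u) :
    u * u' * u = u' * u * u' := by
  have hc := h'.conj h.mem
  have hne1 : u * u' * u⁻¹ ∉ Subgroup.zpowers u := by
    intro hm
    apply hne
    have h1 : u' = u⁻¹ * (u * u' * u⁻¹) * u := by group
    rw [h1]
    exact Subgroup.mul_mem _ (Subgroup.mul_mem _ (Subgroup.inv_mem _ (Subgroup.mem_zpowers u)) hm)
      (Subgroup.mem_zpowers u)
  have hne2 : u * u' * u⁻¹ ∉ Subgroup.zpowers u' := by
    intro hm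
    rcases mem_zpowers_two h'.pow_eq_one hm with h1 | h1
    · exact hc.ne1 h1
    · rw [h1] at hc
      exact h.not_fix hG h' hne (center_unique h' hc)
  have h3 := third_tv hG h h' hc hne hne1 hne2
  rw [h.inv_eq2] at h3
  exact h3

theorem tv2_cases
    (hG : ∀ K : Subgroup (MulAut E), K ≤ G → IsPGroup 2 K → Nat.card K ≤ 2)
    (h : TV 2 G u z) (h' : TV 2 G u' z') (hne : u' ∉ Subgroup.zpowers u)
    {g : MulAut E} (hg : g ∈ G) :
    (g * u * g⁻¹ = u ∧ g z = z) ∨ (g * u * g⁻¹ = u' ∧ g z = z') ∨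
      (g * u * g⁻¹ = u' * u * u' ∧ g z = z * z') := by
  have hv := h.conj hg
  by_cases h1 : g * u * g⁻¹ ∈ Subgroup.zpowers u
  · rcases mem_zpowers_two h.pow_eq_one h1 with h2 | h2
    · exact absurd h2 hv.ne1
    · left
      refine ⟨h2, ?_⟩
      rw [h2] at hv
      exact center_unique h hv
  · by_cases h2 : g * u * g⁻¹ ∈ Subgroup.zpowers u'
    · rcases mem_zpowers_two h'.pow_eq_one h2 with h3 | h3
      · exact absurd h3 hv.ne1
      · right; left
        refine ⟨h3, ?_⟩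
        rw [h3] at hv
        exact center_unique h' hv
    · right; right
      have h3 := third_tv hG h h' hv hne h1 h2
      refine ⟨h3, ?_⟩
      have h4 := h.conj h'.mem
      rw [h'.inv_eq2] at h4
      rw [h3] at hv
      rw [center_unique h4 hv]
      exact h'.swap2 hG h (h.not_mem_symm h' hne)

theorem tv2_fix
    (hG : ∀ K : Subgroup (MulAut E), K ≤ G → IsPGroup 2 K → Nat.card K ≤ 2)
    (h : TV 2 G u z) (h' : TV 2 G u' z') (hne : u' ∉ Subgroup.zpowers u)
    {e : E} (hu : u e = e) (hu' : u' e = e) {g : MulAut E} (hg : g ∈ G) :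
    (g * u * g⁻¹) e = e := by
  rcases tv2_cases hG h h' hne hg with ⟨h1, -⟩ | ⟨h1, -⟩ | ⟨h1, -⟩
  · rw [h1, hu]
  · rw [h1, hu']
  · rw [h1, MulAut.mul_apply, MulAut.mul_apply, hu', hu, hu']

theorem tv2_frattini
    (hG : ∀ K : Subgroup (MulAut E), K ≤ G → IsPGroup 2 K → Nat.card K ≤ 2)
    (h : TV 2 G u z) (h' : TV 2 G u' z') (hne : u' ∉ Subgroup.zpowers u)
    {g : MulAut E} (hg : g ∈ G) :
    ∃ k ∈ G, (∀ e, u e = e → u' e = e → k e = e) ∧ (k⁻¹ * g) * u * (k⁻¹ * g)⁻¹ = u := by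
  have huu : u * u = 1 := by rw [← pow_two]; exact h.pow_eq_one
  have hu'u' : u' * u' = 1 := by rw [← pow_two]; exact h'.pow_eq_one
  rcases tv2_cases hG h h' hne hg with ⟨h1, -⟩ | ⟨h1, -⟩ | ⟨h1, -⟩
  · refine ⟨1, G.one_mem, fun e _ _ => rfl, ?_⟩
    rw [inv_one, one_mul]; exact h1
  · refine ⟨u * u', G.mul_mem h.mem h'.mem, fun e hu hu' => ?_, ?_⟩
    · rw [MulAut.mul_apply, hu', hu]
    · have key : u * u' * u * (u * u')⁻¹ = u' := by
        calc u * u' * u * (u * u')⁻¹ = u * (u' * u * u') * u := by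
              rw [mul_inv_rev, h'.inv_eq2, h.inv_eq2]; group
          _ = u * (u * u' * u) * u := by rw [← braid2 hG h h' hne]
          _ = (u * u) * u' * (u * u) := by group
          _ = u' := by rw [huu, one_mul, mul_one]
      calc (u * u')⁻¹ * g * u * ((u * u')⁻¹ * g)⁻¹
          = (u * u')⁻¹ * (g * u * g⁻¹) * (u * u') := by group
        _ = (u * u')⁻¹ * (u * u' * u * (u * u')⁻¹) * (u * u') := by rw [h1, key]
        _ = u := by group
  · refine ⟨u', h'.mem, fun e _ hu' => hu', ?_⟩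
    calc u'⁻¹ * g * u * (u'⁻¹ * g)⁻¹ = u'⁻¹ * (g * u * g⁻¹) * u' := by group
      _ = u'⁻¹ * (u' * u * u') * u' := by rw [h1]
      _ = u * (u' * u') := by group
      _ = u := by rw [hu'u', mul_one]

theorem tv2_center
    (hG : ∀ K : Subgroup (MulAut E), K ≤ G → IsPGroup 2 K → Nat.card K ≤ 2)
    (h : TV 2 G u z) (h' : TV 2 G u' z') (hne : u' ∉ Subgroup.zpowers u)
    {g : MulAut E} (hg : g ∈ G) : g z = z ∨ g z = z' ∨ g z = z * z' := by
  rcases tv2_cases hG h h' hne hg with ⟨-, h1⟩ | ⟨-, h1⟩ | ⟨-, h1⟩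
  · exact Or.inl h1
  · exact Or.inr (Or.inl h1)
  · exact Or.inr (Or.inr h1)

theorem tv2_nonsquare
    (hG : ∀ K : Subgroup (MulAut E), K ≤ G → IsPGroup 2 K → Nat.card K ≤ 2)
    (h : TV 2 G u z) (h' : TV 2 G u' z') (hne : u' ∉ Subgroup.zpowers u)
    {t : E} (_ht : u t = t) : t * t ≠ z := by
  intro hsq
  have h1 : u' z = z * z' := h'.swap2 hG h (h.not_mem_symm h' hne)
  have h2 : u' (t * t) = t * t := by
    rcases h'.act2 t with h3 | h3
    · rw [map_mul, h3]
    · rw [map_mul, h3, mul_mul_mul_comm, ← pow_two z', h'.pow, mul_one]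
  rw [hsq, h1] at h2
  apply h'.ne
  apply mul_left_cancel (a := z)
  rw [h2, mul_one]

end Cfsg.Agent.Lib.Helper2.Ex
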