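import Mathlib
import Cfsg.Prelude.Def_FusionSystem

set_option autoImplicit false

/-! Structure of a nonabelian `p`-group `S` with `|S : Z(S)| = p²`, inside an ambient group. -/

namespace Cfsg.Agent.Lib.Helper2.Ex

open Cfsg Cfsg.FusionSystem

variable {Ω : Type*} [Group Ω] {S : Subgroup Ω}

/-- the centre of `S` as a subgroup of the ambient group -/
def Zc (S : Subgroup Ω) : Subgroup Ω := (Subgroup.center ↥S).map S.subtype

theorem mem_Zc {x : Ω} : x ∈ Zc S ↔ x ∈ S ∧ ∀ y ∈ S, y * x = x * y := by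
  constructor
  · rintro ⟨a, ha, rfl⟩
    refine ⟨a.2, fun y hy => ?_⟩
    have h1 := Subgroup.mem_center_iff.mp ha ⟨y, hy⟩
    exact congrArg Subtype.val h1
  · rintro ⟨hx, h⟩
    refine ⟨⟨x, hx⟩, ?_, rfl⟩
    show (⟨x, hx⟩ : ↥S) ∈ Subgroup.center ↥S
    rw [Subgroup.mem_center_iff]
    intro g
    exact Subtype.ext (h g g.2)

theorem Zc_le : Zc S ≤ S := fun _ hx => (mem_Zc.mp hx).1

theorem Zc_subgroupOf (S : Subgroup Ω) : (Zc S).subgroupOf S = Subgroup.center ↥S := by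
  unfold Zc Subgroup.subgroupOf
  exact Subgroup.comap_map_eq_self_of_injective (Subgroup.subtype_injective S) _

theorem Zc_relIndex (S : Subgroup Ω) : (Zc S).relIndex S = (Subgroup.center ↥S).index := by
  unfold Subgroup.relIndex; rw [Zc_subgroupOf]

theorem relIndex_Zc_eq [Finite S] {p : ℕ} [Fact p.Prime] (hS : IsPGroup p S)
    (hna : ¬ ∀ a ∈ S, ∀ b ∈ S, a * b = b * a) (hZ : (Subgroup.center ↥S).index ≤ p ^ 2) :
    (Zc S).relIndex S = p ^ 2 := by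
  have hp : p.Prime := Fact.out
  rw [Zc_relIndex]
  obtain ⟨n, hn⟩ := hS.index (Subgroup.center ↥S)
  rw [hn] at hZ ⊢
  have hn2 : n ≤ 2 := (Nat.pow_le_pow_iff_right hp.one_lt).mp hZ
  have hcomm_of : (∀ a b : ↥S, a * b = b * a) → False := by
    intro h; apply hna; intro a ha b hb; exact congrArg Subtype.val (h ⟨a, ha⟩ ⟨b, hb⟩)
  interval_cases n
  · exfalso; apply hcomm_of
    rw [pow_zero, Subgroup.index_eq_one] at hn
    intro a b
    have hb : b ∈ Subgroup.center ↥S := by rw [hn]; trivial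
    exact (Subgroup.mem_center_iff.mp hb a)
  · exfalso; apply hcomm_of
    rw [pow_one] at hn
    haveI : IsCyclic (↥S ⧸ Subgroup.center ↥S) :=
      isCyclic_of_prime_card (p := p) (by rw [← Subgroup.index_eq_card, hn])
    intro a b
    exact commutative_of_cyclic_center_quotient (QuotientGroup.mk' (Subgroup.center ↥S))
      (by rw [QuotientGroup.ker_mk']) a b
  · rfl

theorem comm_mem_Zc [Finite S] {p : ℕ} [Fact p.Prime] (hidx : (Zc S).relIndex S = p ^ 2) :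
    ∀ g ∈ S, ∀ h ∈ S, g * h * g⁻¹ * h⁻¹ ∈ Zc S := by
  intro g hg h hh
  rw [Zc_relIndex, Subgroup.index_eq_card] at hidx
  have hc := IsPGroup.commutative_of_card_eq_prime_sq hidx
  obtain ⟨a, ha⟩ : ∃ a : ↥S, a = ⟨g, hg⟩ := ⟨_, rfl⟩
  obtain ⟨b, hb⟩ : ∃ b : ↥S, b = ⟨h, hh⟩ := ⟨_, rfl⟩
  have h2 : ((a * b * a⁻¹ * b⁻¹ : ↥S) : ↥S ⧸ Subgroup.center ↥S) = 1 := by
    have h3 : ((a * b * a⁻¹ * b⁻¹ : ↥S) : ↥S ⧸ Subgroup.center ↥S) =
        (a : ↥S ⧸ Subgroup.center ↥S) * b * (a : ↥S ⧸ Subgroup.center ↥S)⁻¹ *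
          (b : ↥S ⧸ Subgroup.center ↥S)⁻¹ := rfl
    rw [h3, hc (a : ↥S ⧸ Subgroup.center ↥S) b, mul_inv_cancel_right, mul_inv_cancel]
  have h1 := (QuotientGroup.eq_one_iff _).mp h2
  refine ⟨a * b * a⁻¹ * b⁻¹, h1, ?_⟩
  rw [ha, hb]; rfl

theorem le_sup_zpowers {p : ℕ} [Fact p.Prime] {A B : Subgroup Ω} (hAB : A ≤ B)
    (hidx : A.relIndex B = p) {x : Ω} (hx : x ∈ B) (hxA : x ∉ A) :
    B ≤ A ⊔ Subgroup.zpowers x := by
  have hp : p.Prime := Fact.out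
  have h1 : A ≤ A ⊔ Subgroup.zpowers x := le_sup_left
  have h2 : A ⊔ Subgroup.zpowers x ≤ B := sup_le hAB (Subgroup.zpowers_le.mpr hx)
  have h3 := Subgroup.relIndex_mul_relIndex _ _ _ h1 h2
  rw [hidx] at h3
  have h4 : A.relIndex (A ⊔ Subgroup.zpowers x) ≠ 1 := by
    rw [Ne, Subgroup.relIndex_eq_one]
    intro h; exact hxA (h (le_sup_right (a := A) (Subgroup.mem_zpowers x)))
  have h5 : A.relIndex (A ⊔ Subgroup.zpowers x) ∣ p := Dvd.intro _ h3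
  rcases (Nat.dvd_prime hp).mp h5 with h6 | h6
  · exact absurd h6 h4
  · rw [h6] at h3
    have h7 : (A ⊔ Subgroup.zpowers x).relIndex B = 1 :=
      Nat.eq_of_mul_eq_mul_left hp.pos (h3.trans (mul_one p).symm)
    exact Subgroup.relIndex_eq_one.mp h7

theorem abelian_of_centric {p : ℕ} [Fact p.Prime] (hidx : (Zc S).relIndex S = p ^ 2)
    {E : Subgroup Ω} (hES : E ≤ S) (hZE : Zc S ≤ E) (hC : centralizerIn S E ≤ E) (hne : E ≠ S) :
    (∀ a ∈ E, ∀ b ∈ E, a * b = b * a) ∧ E.relIndex S = p ∧ (Zc S).relIndex E = p := by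
  have hp : p.Prime := Fact.out
  have h1 := Subgroup.relIndex_mul_relIndex _ _ _ hZE hES
  rw [hidx] at h1
  have h2 : E.relIndex S ≠ 1 := by
    rw [Ne, Subgroup.relIndex_eq_one]; intro h; exact hne (le_antisymm hES h)
  have h3 : (Zc S).relIndex E ≠ 1 := by
    rw [Ne, Subgroup.relIndex_eq_one]
    intro h
    apply hne
    apply le_antisymm hES
    intro x hx
    apply hC
    refine ⟨hx, ?_⟩
    show x ∈ Subgroup.centralizer (E : Set Ω)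
    rw [Subgroup.mem_centralizer_iff]
    intro e he
    exact ((mem_Zc.mp (h he)).2 x hx).symm
  obtain ⟨h4, h5⟩ := (Nat.Prime.mul_eq_prime_sq_iff hp h3 h2).mp h1
  refine ⟨?_, h5, h4⟩
  intro a ha b hb
  by_cases haZ : a ∈ Zc S
  · exact ((mem_Zc.mp haZ).2 b (hES hb)).symm
  · have h6 := le_sup_zpowers (p := p) hZE h4 ha haZ
    have h7 : Zc S ⊔ Subgroup.zpowers a ≤ Subgroup.centralizer {a} := by
      apply sup_le
      · intro t ht
        rw [Subgroup.mem_centralizer_iff]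
        intro y hy
        rw [Set.mem_singleton_iff] at hy
        rw [hy]
        exact (mem_Zc.mp ht).2 a (hES ha)
      · rw [Subgroup.zpowers_le, Subgroup.mem_centralizer_iff]
        intro y hy
        rw [Set.mem_singleton_iff] at hy
        rw [hy]
    have h8 := h7 (h6 hb)
    rw [Subgroup.mem_centralizer_iff] at h8
    exact h8 a rfl

theorem conj_mem_of_Zc_le [Finite S] {p : ℕ} [Fact p.Prime] (hidx : (Zc S).relIndex S = p ^ 2)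
    {E : Subgroup Ω} (hES : E ≤ S) (hZE : Zc S ≤ E) : ∀ g ∈ S, ∀ e ∈ E, g * e * g⁻¹ ∈ E := by
  intro g hg e he
  have h1 := comm_mem_Zc hidx g hg e (hES he)
  have h2 : g * e * g⁻¹ = (g * e * g⁻¹ * e⁻¹) * e := by group
  rw [h2]; exact E.mul_mem (hZE h1) he

theorem exists_decomp {B E : Subgroup Ω} {s : Ω}
    (hnorm : ∀ k : ℤ, ∀ e ∈ E, (s ^ k)⁻¹ * e * s ^ k ∈ E ∧ s ^ k * e * (s ^ k)⁻¹ ∈ E)
    (hle : B ≤ E ⊔ Subgroup.zpowers s) : ∀ g ∈ B, ∃ k : ℤ, ∃ e ∈ E, g = s ^ k * e := by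
  let T : Subgroup Ω :=
    { carrier := {g | ∃ k : ℤ, ∃ e ∈ E, g = s ^ k * e}
      one_mem' := ⟨0, 1, E.one_mem, by simp⟩
      mul_mem' := by
        rintro _ _ ⟨k, e, he, rfl⟩ ⟨l, e', he', rfl⟩
        refine ⟨k + l, (s ^ l)⁻¹ * e * s ^ l * e', E.mul_mem (hnorm l e he).1 he', ?_⟩
        rw [zpow_add]; group
      inv_mem' := by
        rintro _ ⟨k, e, he, rfl⟩
        refine ⟨-k, s ^ k * e⁻¹ * (s ^ k)⁻¹, (hnorm k e⁻¹ (E.inv_mem he)).2, ?_⟩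
        rw [zpow_neg]; group }
  intro g hg
  have h1 : E ⊔ Subgroup.zpowers s ≤ T := by
    apply sup_le
    · intro e he; exact ⟨0, e, he, by simp⟩
    · rw [Subgroup.zpowers_le]; exact ⟨1, 1, E.one_mem, by simp⟩
  exact h1 (hle hg)

theorem fix_mem_Zc {E : Subgroup Ω} {s : Ω} (hES : E ≤ S)
    (hcomm : ∀ a ∈ E, ∀ b ∈ E, a * b = b * a) (hle : S ≤ E ⊔ Subgroup.zpowers s) :
    ∀ t ∈ E, s * t * s⁻¹ = t → t ∈ Zc S := by
  intro t ht hfix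
  rw [mem_Zc]
  refine ⟨hES ht, fun y hy => ?_⟩
  have h1 : E ⊔ Subgroup.zpowers s ≤ Subgroup.centralizer {t} := by
    apply sup_le
    · intro e he
      rw [Subgroup.mem_centralizer_iff]
      intro x hx
      rw [Set.mem_singleton_iff] at hx
      rw [hx]
      exact hcomm t ht e he
    · rw [Subgroup.zpowers_le, Subgroup.mem_centralizer_iff]
      intro x hx
      rw [Set.mem_singleton_iff] at hx
      rw [hx]
      calc t * s = (s * t * s⁻¹) * s := by rw [hfix]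
        _ = s * t := by group
  have h2 := h1 (hle hy)
  rw [Subgroup.mem_centralizer_iff] at h2
  exact (h2 t rfl).symm

/-- elements of `S` whose commutator with `x` lies in the central subgroup `N` -/
def CS (S N : Subgroup Ω) (hN : ∀ n ∈ N, ∀ g ∈ S, g * n = n * g) (x : Ω) : Subgroup Ω where
  carrier := {h | h ∈ S ∧ x * h * x⁻¹ * h⁻¹ ∈ N}
  one_mem' := ⟨S.one_mem, by simp [N.one_mem]⟩
  mul_mem' := by
    rintro a b ⟨ha, ha'⟩ ⟨hb, hb'⟩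
    refine ⟨S.mul_mem ha hb, ?_⟩
    have h1 : x * (a * b) * x⁻¹ * (a * b)⁻¹ =
        (x * a * x⁻¹ * a⁻¹) * (a * (x * b * x⁻¹ * b⁻¹) * a⁻¹) := by group
    have h2 : a * (x * b * x⁻¹ * b⁻¹) * a⁻¹ = x * b * x⁻¹ * b⁻¹ := by
      rw [hN _ hb' a ha, mul_inv_cancel_right]
    rw [h1, h2]; exact N.mul_mem ha' hb'
  inv_mem' := by
    rintro a ⟨ha, ha'⟩
    refine ⟨S.inv_mem ha, ?_⟩
    have h1 : x * a⁻¹ * x⁻¹ * a⁻¹⁻¹ = a⁻¹ * (x * a * x⁻¹ * a⁻¹)⁻¹ * a := by group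
    have h2 : a⁻¹ * (x * a * x⁻¹ * a⁻¹)⁻¹ * a = (x * a * x⁻¹ * a⁻¹)⁻¹ := by
      rw [hN _ (N.inv_mem ha') a⁻¹ (S.inv_mem ha), inv_mul_cancel_right]
    rw [h1, h2]; exact N.inv_mem ha'

theorem CS_symm {N : Subgroup Ω} (hN : ∀ n ∈ N, ∀ g ∈ S, g * n = n * g) {x h : Ω} (hx : x ∈ S)
    (hh : h ∈ CS S N hN x) : x ∈ CS S N hN h := by
  refine ⟨hx, ?_⟩
  have h1 : h * x * h⁻¹ * x⁻¹ = (x * h * x⁻¹ * h⁻¹)⁻¹ := by group
  rw [h1]; exact N.inv_mem hh.2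

theorem exists_comm_gen [Finite S] {p : ℕ} [Fact p.Prime] (hidx : (Zc S).relIndex S = p ^ 2)
    {E : Subgroup Ω} (hES : E ≤ S) (hZE : Zc S ≤ E)
    (hcomm : ∀ a ∈ E, ∀ b ∈ E, a * b = b * a) (hE : E.relIndex S = p)
    (hZEidx : (Zc S).relIndex E = p) {s : Ω} (hs : s ∈ S) (hsE : s ∉ E) :
    ∃ z ∈ Zc S, z ≠ 1 ∧ z ^ p = 1 ∧
      (∀ g ∈ S, ∀ h ∈ S, g * h * g⁻¹ * h⁻¹ ∈ Subgroup.zpowers z) ∧
      ∃ g ∈ S, ∃ h ∈ S, z = g * h * g⁻¹ * h⁻¹ := by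
  have hp : p.Prime := Fact.out
  have hleS : S ≤ E ⊔ Subgroup.zpowers s := le_sup_zpowers (p := p) hES hE hs hsE
  have hγZ : ∀ e ∈ E, e⁻¹ * (s * e * s⁻¹) ∈ Zc S := by
    intro e he
    have h1 := comm_mem_Zc hidx e⁻¹ (S.inv_mem (hES he)) s hs
    have h2 : e⁻¹ * (s * e * s⁻¹) = e⁻¹ * s * e⁻¹⁻¹ * s⁻¹ := by group
    rw [h2]; exact h1
  have hγmul : ∀ a ∈ E, ∀ b ∈ E, (a * b)⁻¹ * (s * (a * b) * s⁻¹) =
      (a⁻¹ * (s * a * s⁻¹)) * (b⁻¹ * (s * b * s⁻¹)) := by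
    intro a ha b hb
    have h1 : (a * b)⁻¹ * (s * (a * b) * s⁻¹) =
        b⁻¹ * (a⁻¹ * (s * a * s⁻¹)) * (s * b * s⁻¹) := by group
    have h2 := (mem_Zc.mp (hγZ a ha)).2 b⁻¹ (S.inv_mem (hES hb))
    rw [h1, h2, mul_assoc]
  let γ : ↥E →* Ω := MonoidHom.mk' (fun e => (e : Ω)⁻¹ * (s * e * s⁻¹))
    (fun a b => hγmul a a.2 b b.2)
  have hγ : ∀ e : ↥E, γ e = (e : Ω)⁻¹ * (s * e * s⁻¹) := fun e => rfl
  obtain ⟨e₀, he₀E, he₀Z⟩ : ∃ e₀ ∈ E, e₀ ∉ Zc S := by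
    by_contra hcon
    push Not at hcon
    have h1 : (Zc S).relIndex E = 1 := Subgroup.relIndex_eq_one.mpr hcon
    rw [hZEidx] at h1
    exact hp.one_lt.ne' h1
  have hfix : ∀ t ∈ E, s * t * s⁻¹ = t → t ∈ Zc S := fix_mem_Zc hES hcomm hleS
  obtain ⟨z, hz⟩ : ∃ z : Ω, z = γ ⟨e₀, he₀E⟩ := ⟨_, rfl⟩
  have hzZ : z ∈ Zc S := by rw [hz]; exact hγZ e₀ he₀E
  have hz1 : z ≠ 1 := by
    intro h1
    apply he₀Z
    apply hfix e₀ he₀E
    have h2 : e₀⁻¹ * (s * e₀ * s⁻¹) = 1 := by rw [← h1, hz]; rfl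
    exact (inv_mul_eq_one.mp h2).symm
  have hγt : ∀ t (ht : t ∈ Zc S), γ ⟨t, hZE ht⟩ = 1 := by
    intro t ht
    rw [hγ]
    show t⁻¹ * (s * t * s⁻¹) = 1
    rw [(mem_Zc.mp ht).2 s hs, mul_inv_cancel_right, inv_mul_cancel]
  have hzp : z ^ p = 1 := by
    rw [hz, ← map_pow]
    have h1 : (⟨e₀, he₀E⟩ : ↥E) ^ p ∈ (Zc S).subgroupOf E := by
      have : ((Zc S).subgroupOf E).Normal := by
        refine ⟨fun n hn g => ?_⟩
        have h2 : g * n * g⁻¹ = n := by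
          apply Subtype.ext
          show (g : Ω) * n * (g : Ω)⁻¹ = n
          rw [hcomm g g.2 n n.2, mul_inv_cancel_right]
        rw [h2]; exact hn
      have h3 := Subgroup.pow_index_mem ((Zc S).subgroupOf E) (⟨e₀, he₀E⟩ : ↥E)
      rwa [show ((Zc S).subgroupOf E).index = p from hZEidx] at h3
    exact hγt _ h1
  have hleE : E ≤ Zc S ⊔ Subgroup.zpowers e₀ := le_sup_zpowers (p := p) hZE hZEidx he₀E he₀Z
  have hnormZ : ∀ k : ℤ, ∀ t ∈ Zc S,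
      (e₀ ^ k)⁻¹ * t * e₀ ^ k ∈ Zc S ∧ e₀ ^ k * t * (e₀ ^ k)⁻¹ ∈ Zc S := by
    intro k t ht
    have h1 := (mem_Zc.mp ht).2 (e₀ ^ k) (S.zpow_mem (hES he₀E) k)
    have h2 := (mem_Zc.mp ht).2 (e₀ ^ k)⁻¹ (S.inv_mem (S.zpow_mem (hES he₀E) k))
    constructor
    · rw [h2, inv_mul_cancel_right]; exact ht
    · rw [h1, mul_inv_cancel_right]; exact ht
  have hγE : ∀ e (he : e ∈ E), γ ⟨e, he⟩ ∈ Subgroup.zpowers z := by
    intro e he
    obtain ⟨k, t, ht, hkt⟩ := exists_decomp hnormZ hleE e he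
    have h1 : (⟨e, he⟩ : ↥E) = ⟨e₀, he₀E⟩ ^ k * ⟨t, hZE ht⟩ := by
      apply Subtype.ext
      rw [Subgroup.coe_mul, Subgroup.coe_zpow]
      exact hkt
    rw [h1, map_mul, map_zpow, hγt t ht, mul_one, ← hz]
    exact Subgroup.zpow_mem _ (Subgroup.mem_zpowers z) k
  have hN : ∀ n ∈ Subgroup.zpowers z, ∀ g ∈ S, g * n = n * g := by
    intro n hn g hg
    have h1 : n ∈ Zc S := (Subgroup.zpowers_le.mpr hzZ) hn
    exact (mem_Zc.mp h1).2 g hg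
  have ha : ∀ e ∈ E, s ∈ CS S (Subgroup.zpowers z) hN e := by
    intro e he
    refine ⟨hs, ?_⟩
    have h1 := hγE e⁻¹ (E.inv_mem he)
    rw [hγ] at h1
    have h2 : e * s * e⁻¹ * s⁻¹ = (e⁻¹ : Ω)⁻¹ * (s * e⁻¹ * s⁻¹) := by group
    rw [h2]; exact h1
  have hb : ∀ e ∈ E, S ≤ CS S (Subgroup.zpowers z) hN e := by
    intro e he
    apply le_trans hleS
    apply sup_le
    · intro e' he'
      refine ⟨hES he', ?_⟩
      rw [hcomm e he e' he', mul_inv_cancel_right, mul_inv_cancel]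
      exact Subgroup.one_mem _
    · rw [Subgroup.zpowers_le]; exact ha e he
  have hc : S ≤ CS S (Subgroup.zpowers z) hN s := by
    apply le_trans hleS
    apply sup_le
    · intro e he
      exact CS_symm hN (hES he) (ha e he)
    · rw [Subgroup.zpowers_le]
      refine ⟨hs, ?_⟩
      rw [mul_inv_cancel_right, mul_inv_cancel]
      exact Subgroup.one_mem _
  have hd : ∀ h ∈ S, S ≤ CS S (Subgroup.zpowers z) hN h := by
    intro h hh
    apply le_trans hleS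
    apply sup_le
    · intro e he
      exact CS_symm hN (hES he) (hb e he hh)
    · rw [Subgroup.zpowers_le]
      exact CS_symm hN hs (hc hh)
  refine ⟨z, hzZ, hz1, hzp, fun g hg h hh => (hd g hg hh).2, e₀⁻¹, S.inv_mem (hES he₀E), s, hs, ?_⟩
  rw [hz]
  show e₀⁻¹ * (s * e₀ * s⁻¹) = e₀⁻¹ * s * e₀⁻¹⁻¹ * s⁻¹
  group

end Cfsg.Agent.Lib.Helper2.Ex
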