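import Cfsg.Agent.Lib.Helper2.Ex1
import Cfsg.Agent.Lib.Helper2.Ex3
import Cfsg.Agent.Lib.Helper2.EssGen2
import Cfsg.Agent.Lib.Helper9.NormalCrit
import Cfsg.Agent.Lib.Helper9.GroupFusionAut
import Cfsg.Agent.Lib.Helper9.FusionSat3
import Cfsg.Agent.Lib.Helper9.FusionIso
import Cfsg.Agent.Lib.Helper9.StronglyEmbedded
import Cfsg.Agent.Lib.Helper9.ExtenderIff

set_option autoImplicit false

/-! The data attached to an essential subgroup when `|S : Z(S)| = p²`. -/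

namespace Cfsg.Agent.Lib.Helper2.Ex

open Cfsg Cfsg.FusionSystem Cfsg.Agent.Lib.Helper9

variable {Ω : Type*} [Group Ω] {S : Subgroup Ω}

theorem aut_of_hom_top [Finite S] (F : FusionSystem S) {E : Subgroup Ω} (hES : E ≤ S)
    (φ : E →* Ω) :
    ∀ D : Subgroup Ω, S = D → ∀ ψ ∈ F.Hom D,
      (∀ (x : Ω) (hP : x ∈ E) (hN : x ∈ D), ψ ⟨x, hN⟩ = φ ⟨x, hP⟩) →
      ∃ α ∈ F.autGroup S, ∀ x : ↥E, ((α ⟨x, hES x.2⟩ : ↥S) : Ω) = φ x := by
  rintro D rfl ψ hψ hψφ
  have hrange : ψ.range = S := by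
    apply Subgroup.eq_of_le_of_card_ge (range_le F hψ)
    exact le_of_eq (Nat.card_congr (MonoidHom.ofInjective (F.injective_of_mem hψ)).toEquiv)
  obtain ⟨α, hα, hαψ⟩ := exists_aut_of_hom F hψ hrange
  exact ⟨α, hα, fun x => by rw [hαψ]; exact hψφ x x.2 (hES x.2)⟩

/-- basic facts on an essential subgroup -/
theorem ess_basic [Finite S] (p : ℕ) [Fact p.Prime] (hS : IsPGroup p S) (F : FusionSystem S)
    (hF : F.IsSaturated p) (hidx : (Zc S).relIndex S = p ^ 2) {E : Subgroup Ω}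
    (hE : F.IsEssential p E) :
    E ≤ S ∧ Zc S ≤ E ∧ (∀ a ∈ E, ∀ b ∈ E, a * b = b * a) ∧ E.relIndex S = p ∧
      (Zc S).relIndex E = p ∧ centralizerIn S E ≤ E := by
  have hES : E ≤ S := hE.1.1
  have hcen : centralizerIn S E ≤ E := hE.1.2 E (isConj_refl F hES)
  have hZE : Zc S ≤ E := by
    intro x hx
    apply hcen
    refine ⟨(mem_Zc.mp hx).1, ?_⟩
    show x ∈ Subgroup.centralizer (E : Set Ω)
    rw [Subgroup.mem_centralizer_iff]
    intro e he
    exact (mem_Zc.mp hx).2 e (hES he)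
  have hne : E ≠ S := (EssGen.essential_lt hS F hF hE).ne
  obtain ⟨h1, h2, h3⟩ := abelian_of_centric hidx hES hZE hcen hne
  exact ⟨hES, hZE, h1, h2, h3, hcen⟩

theorem conjAut_zpow {E : Subgroup Ω} {s : Ω} (hsN : s ∈ Subgroup.normalizer (E : Set Ω))
    (k : ℤ) (x : ↥E) :
    (((conjAut E ⟨s, hsN⟩) ^ k) x : Ω) = s ^ k * x * (s ^ k)⁻¹ := by
  rw [← map_zpow, conjAut_apply, Subgroup.coe_zpow]

theorem autInducedBy_eq_zpowers {E : Subgroup Ω} {s : Ω}
    (hcomm : ∀ a ∈ E, ∀ b ∈ E, a * b = b * a) (hs : s ∈ S)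
    (hsN : s ∈ Subgroup.normalizer (E : Set Ω))
    (hdec : ∀ g ∈ S, ∃ k : ℤ, ∃ e ∈ E, g = s ^ k * e) :
    autInducedBy S E = Subgroup.zpowers (conjAut E ⟨s, hsN⟩) := by
  apply le_antisymm
  · intro α hα
    obtain ⟨g, hg, hgα⟩ := (mem_autInducedBy_iff S E α).mp hα
    obtain ⟨k, e, he, rfl⟩ := hdec g hg
    rw [Subgroup.mem_zpowers_iff]
    refine ⟨k, ?_⟩
    apply MulEquiv.ext
    intro x
    apply Subtype.ext
    rw [conjAut_zpow, hgα]
    have h1 : s ^ k * e * ↑x * (s ^ k * e)⁻¹ = s ^ k * (e * x * e⁻¹) * (s ^ k)⁻¹ := by group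
    rw [h1, hcomm e he x x.2, mul_inv_cancel_right]
  · rw [Subgroup.zpowers_le, mem_autInducedBy_iff]
    exact ⟨s, hs, fun x => conjAut_apply E ⟨s, hsN⟩ x⟩

/-- the data attached to an essential subgroup in the situation `|S : Z(S)| = p²` -/
structure EssData (p : ℕ) (F : FusionSystem S) (z : Ω) (E : Subgroup Ω) (s : Ω)
    (u : MulAut ↥E) : Prop where
  le : E ≤ S
  zle : Zc S ≤ E
  comm : ∀ a ∈ E, ∀ b ∈ E, a * b = b * a
  s_mem : s ∈ S
  s_not : s ∉ E
  u_apply : ∀ x : ↥E, ((u x : ↥E) : Ω) = s * x * s⁻¹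
  decomp : ∀ g ∈ S, ∃ k : ℤ, ∃ e ∈ E, g = s ^ k * e
  norm : ∀ g ∈ S, ∀ e ∈ E, g * e * g⁻¹ ∈ E
  z_mem : z ∈ Zc S
  tv : TV p (F.autGroup E) u ⟨z, zle z_mem⟩
  sylow : ∀ K : Subgroup (MulAut ↥E), K ≤ F.autGroup E → IsPGroup p K → Nat.card K ≤ p
  notnormal : ∃ g ∈ F.autGroup E, g * u * g⁻¹ ∉ Subgroup.zpowers u
  ext : ∀ g ∈ F.autGroup E, g * u * g⁻¹ ∈ Subgroup.zpowers u →
    ∃ α ∈ F.autGroup S, ∀ x : ↥E, ((α ⟨x, le x.2⟩ : ↥S) : Ω) = g x
  fixZ : ∀ x : ↥E, u x = x → (x : Ω) ∈ Zc S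
  relE : E.relIndex S = p
  relZ : (Zc S).relIndex E = p

theorem essData_of_essential [Finite S] (p : ℕ) [Fact p.Prime] (hS : IsPGroup p S)
    (F : FusionSystem S) (hF : F.IsSaturated p) (hidx : (Zc S).relIndex S = p ^ 2)
    {z : Ω} (hzZ : z ∈ Zc S) (hz1 : z ≠ 1) (hzp : z ^ p = 1)
    (hzc : ∀ g ∈ S, ∀ h ∈ S, g * h * g⁻¹ * h⁻¹ ∈ Subgroup.zpowers z)
    {E : Subgroup Ω} (hE : F.IsEssential p E) :
    ∃ (s : Ω) (u : MulAut ↥E), EssData p F z E s u := by
  classical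
  have hp : p.Prime := Fact.out
  obtain ⟨hES, hZE, hcomm, hrelE, hrelZ, hcen⟩ := ess_basic p hS F hF hidx hE
  haveI hfinE : Finite ↥E := finite_of_le hES
  have hlt : E < S := EssGen.essential_lt hS F hF hE
  obtain ⟨s, hs, hsE⟩ := SetLike.exists_of_lt hlt
  have hnorm := conj_mem_of_Zc_le hidx hES hZE
  have hN_of : ∀ t ∈ S, t ∈ Subgroup.normalizer (E : Set Ω) := by
    intro t ht
    rw [Subgroup.mem_normalizer_iff]
    intro h
    constructor
    · intro hh; exact hnorm t ht h hh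
    · intro hh
      have h1 := hnorm t⁻¹ (S.inv_mem ht) _ hh
      have h2 : t⁻¹ * (t * h * t⁻¹) * t⁻¹⁻¹ = h := by group
      rwa [h2] at h1
  have hsN := hN_of s hs
  have hleS : S ≤ E ⊔ Subgroup.zpowers s := le_sup_zpowers (p := p) hES hrelE hs hsE
  have hnorm' : ∀ k : ℤ, ∀ e ∈ E,
      (s ^ k)⁻¹ * e * s ^ k ∈ E ∧ s ^ k * e * (s ^ k)⁻¹ ∈ E := by
    intro k e he
    constructor
    · have h1 := hnorm (s ^ k)⁻¹ (S.inv_mem (S.zpow_mem hs k)) e he
      rwa [inv_inv] at h1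
    · exact hnorm (s ^ k) (S.zpow_mem hs k) e he
  have hdec := exists_decomp hnorm' hleS
  obtain ⟨u, hu⟩ : ∃ u : MulAut ↥E, u = conjAut E ⟨s, hsN⟩ := ⟨_, rfl⟩
  have hu_apply : ∀ x : ↥E, ((u x : ↥E) : Ω) = s * x * s⁻¹ := by
    intro x; rw [hu]; exact conjAut_apply E ⟨s, hsN⟩ x
  have hAutS : autInducedBy S E = Subgroup.zpowers u := by
    rw [hu]; exact autInducedBy_eq_zpowers hcomm hs hsN hdec
  have huG : u ∈ F.autGroup E := by
    apply autInducedBy_le_autGroup F hES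
    rw [hAutS]; exact Subgroup.mem_zpowers u
  have hfixZ : ∀ x : ↥E, u x = x → (x : Ω) ∈ Zc S := by
    intro x hx
    apply fix_mem_Zc hES hcomm hleS x x.2
    rw [← hu_apply, hx]
  have hzE : z ∈ E := hZE hzZ
  have htv : TV p (F.autGroup E) u ⟨z, hzE⟩ := by
    refine ⟨huG, ?_, ?_, ?_, ?_, ?_⟩
    · intro h; exact hz1 (congrArg Subtype.val h)
    · apply Subtype.ext; rw [Subgroup.coe_pow]; exact hzp
    · apply Subtype.ext
      rw [hu_apply]
      show s * z * s⁻¹ = z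
      rw [(mem_Zc.mp hzZ).2 s hs, mul_inv_cancel_right]
    · intro e
      have h1 := hzc (e : Ω)⁻¹ (S.inv_mem (hES e.2)) s hs
      have hfo : IsOfFinOrder z := isOfFinOrder_iff_pow_eq_one.mpr ⟨p, hp.pos, hzp⟩
      rw [← hfo.mem_powers_iff_mem_zpowers, Submonoid.mem_powers_iff] at h1
      obtain ⟨k, hk⟩ := h1
      refine ⟨k, ?_⟩
      apply Subtype.ext
      rw [hu_apply, Subgroup.coe_mul, Subgroup.coe_pow]
      show s * (e : Ω) * s⁻¹ = e * z ^ k
      rw [hk]; group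
    · intro h1
      apply hsE
      apply hcen
      refine ⟨hs, ?_⟩
      show s ∈ Subgroup.centralizer (E : Set Ω)
      rw [Subgroup.mem_centralizer_iff]
      intro e he
      have h2 := hu_apply ⟨e, he⟩
      rw [h1, MulAut.one_apply] at h2
      have h3 : e = s * e * s⁻¹ := h2
      calc e * s = (s * e * s⁻¹) * s := by rw [← h3]
        _ = s * e := by group
  have hfn : F.IsFullyNormalized E := hE.2.1
  obtain ⟨-, R, hR⟩ := fullyAutomized_of_fullyNormalized hS F hF hfn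
  have hle_aut : autInducedBy S E ≤ F.autGroup E := autInducedBy_le_autGroup F hES
  have hcardR : Nat.card (R : Subgroup ↥(F.autGroup E)) = p := by
    rw [hR, Nat.card_congr (Subgroup.subgroupOfEquivOfLe hle_aut).toEquiv, hAutS,
      htv.card_zpowers]
  have hsyl : ∀ K : Subgroup (MulAut ↥E), K ≤ F.autGroup E → IsPGroup p K →
      Nat.card K ≤ p := by
    intro K hKG hK
    have hK' : IsPGroup p ↥(K.subgroupOf (F.autGroup E)) := hK.comap_subtype
    obtain ⟨Q, hQ⟩ := hK'.exists_le_sylow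
    have h1 : Nat.card (Q : Subgroup ↥(F.autGroup E)) = p :=
      (Q.card_eq_multiplicity).trans ((R.card_eq_multiplicity).symm.trans hcardR)
    have h2 := Subgroup.card_le_of_le hQ
    rw [h1, Nat.card_congr (Subgroup.subgroupOfEquivOfLe hKG).toEquiv] at h2
    exact h2
  have hnn : ∃ g ∈ F.autGroup E, g * u * g⁻¹ ∉ Subgroup.zpowers u := by
    by_contra hcon
    push Not at hcon
    have hrad := Cfsg.Agent.S5080.result p hS F hF E hE
    have hcommE : ∀ a b : ↥E, a * b = b * a := fun a b => Subtype.ext (hcomm a a.2 b b.2)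
    have hInn : Inn ↥E = ⊥ := by
      rw [MonoidHom.range_eq_bot_iff]
      ext h x
      simp [MulAut.conj_apply, hcommE h x]
    have hcore : pCore p ↥(F.autGroup E) = ⊥ := by
      have h1 := hrad.2
      rw [hInn] at h1
      exact (Subgroup.map_eq_bot_iff_of_injective _ (Subgroup.subtype_injective _)).mp h1
    have hRn : (R : Subgroup ↥(F.autGroup E)).Normal := by
      refine ⟨fun n hn g => ?_⟩
      rw [hR, Subgroup.mem_subgroupOf, hAutS] at hn ⊢
      obtain ⟨k, hk⟩ := Subgroup.mem_zpowers_iff.mp hn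
      have h1 : ((g * n * g⁻¹ : ↥(F.autGroup E)) : MulAut ↥E) =
          ((g : MulAut ↥E) * u * (g : MulAut ↥E)⁻¹) ^ k := by
        rw [conj_zpow, hk]; rfl
      rw [h1]
      exact Subgroup.zpow_mem _ (hcon g g.2) k
    have hRle := le_pCore' hRn R.isPGroup'
    rw [hcore, le_bot_iff] at hRle
    have h2 := hcardR
    rw [hRle, Subgroup.card_bot] at h2
    exact hp.one_lt.ne h2
  have hext : ∀ g ∈ F.autGroup E, g * u * g⁻¹ ∈ Subgroup.zpowers u →
      ∃ α ∈ F.autGroup S, ∀ x : ↥E, ((α ⟨x, hES x.2⟩ : ↥S) : Ω) = g x := by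
    intro g hg hgu
    have hφ := hom_of_mem_autGroup F hES hg
    have hrange : (E.subtype.comp g.toMonoidHom).range = E := by
      ext y
      constructor
      · rintro ⟨x, rfl⟩; exact (g x).2
      · intro hy
        refine ⟨g⁻¹ ⟨y, hy⟩, ?_⟩
        show ((g (g⁻¹ ⟨y, hy⟩) : ↥E) : Ω) = y
        rw [MulAut.apply_inv_self]
    have hrec := receptive_of_fullyCentralized hS F hF
      (fullyCentralized_of_fullyNormalized hS F hF hfn)
    obtain ⟨ψ, hψ, hψφ⟩ := hrec.2 E _ hφ hrange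
    have hextS : S = extender S E (E.subtype.comp g.toMonoidHom) := by
      apply le_antisymm
      · intro t ht
        rw [mem_extender_iff]
        have htN := hN_of t ht
        refine ⟨ht, htN, ?_⟩
        have hv : conjAut E ⟨t, htN⟩ ∈ Subgroup.zpowers u := by
          rw [← hAutS, mem_autInducedBy_iff]
          exact ⟨t, ht, fun x => conjAut_apply E ⟨t, htN⟩ x⟩
        obtain ⟨k, hk⟩ := Subgroup.mem_zpowers_iff.mp hv
        have h1 : g * conjAut E ⟨t, htN⟩ * g⁻¹ ∈ autInducedBy S E := by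
          rw [hAutS, ← hk, ← conj_zpow]
          exact Subgroup.zpow_mem _ hgu k
        obtain ⟨h, hh, hhα⟩ := (mem_autInducedBy_iff S E _).mp h1
        refine ⟨h, hh, fun x hx => ?_⟩
        have h2 := hhα (g x)
        rw [MulAut.mul_apply, MulAut.mul_apply, MulAut.inv_apply_self] at h2
        have h3 : (conjAut E ⟨t, htN⟩ x) = ⟨t * x * t⁻¹, hx⟩ :=
          Subtype.ext (conjAut_apply E ⟨t, htN⟩ x)
        rw [h3] at h2
        exact h2
      · intro t ht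
        exact ((mem_extender_iff _ t).mp ht).1
    exact aut_of_hom_top F hES _ _ hextS ψ hψ hψφ
  exact ⟨s, u, ⟨hES, hZE, hcomm, hs, hsE, hu_apply, hdec, hnorm, hzZ, htv, hsyl, hnn, hext,
    hfixZ, hrelE, hrelZ⟩⟩

end Cfsg.Agent.Lib.Helper2.Ex
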