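import Cfsg.Agent.Lib.Helper2.Ex1

set_option autoImplicit false

/-! Automorphisms acting on the centre as a reflection with centre `zs`: uniqueness when the
group of automorphisms acts on the centre through a `p'`-group. -/

namespace Cfsg.Agent.Lib.Helper2.Ex

variable {G : Type*} [Group G] {p : ℕ} [Fact p.Prime]

/-- `κ` inverts `zs` and acts trivially on the centre modulo `⟨zs⟩` -/
def IsRefl (zs : G) (κ : MulAut G) : Prop :=
  κ zs = zs⁻¹ ∧ ∀ t ∈ Subgroup.center G, t⁻¹ * κ t ∈ Subgroup.zpowers zs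

theorem aut_center (α : MulAut G) {t : G} (ht : t ∈ Subgroup.center G) :
    α t ∈ Subgroup.center G := by
  rw [Subgroup.mem_center_iff] at ht ⊢
  intro g
  have h1 := ht (α⁻¹ g)
  have h2 := congrArg α h1
  rwa [map_mul, map_mul, MulAut.apply_inv_self] at h2

theorem aut_zpow_fix {X : Type*} [Group X] {α : MulAut X} {x : X} (h : α x = x) (k : ℤ) :
    (α ^ k) x = x := by
  have h1 : α ∈ MulAction.stabilizer (MulAut X) x := by
    rw [MulAction.mem_stabilizer_iff, MulAut.smul_def]; exact h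
  have h2 := Subgroup.zpow_mem _ h1 k
  rw [MulAction.mem_stabilizer_iff, MulAut.smul_def] at h2
  exact h2

theorem fix_center_of_trivial_mod (Δ : Subgroup (MulAut G)) {zs : G} (hzp : zs ^ p = 1)
    (hinn : ∀ α ∈ Δ, ∃ m : ℕ, ¬ p ∣ m ∧ ∀ t ∈ Subgroup.center G, (α ^ m) t = t)
    {α : MulAut G} (hα : α ∈ Δ) (hαz : α zs = zs)
    (hmod : ∀ t ∈ Subgroup.center G, t⁻¹ * α t ∈ Subgroup.zpowers zs) :
    ∀ t ∈ Subgroup.center G, α t = t := by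
  have hp : p.Prime := Fact.out
  intro t ht
  obtain ⟨m, hm, hinn'⟩ := hinn α hα
  obtain ⟨y, hy⟩ : ∃ y, y = t⁻¹ * α t := ⟨_, rfl⟩
  have hyN : y ∈ Subgroup.zpowers zs := by rw [hy]; exact hmod t ht
  have hαy : α y = y := by
    obtain ⟨k, rfl⟩ := Subgroup.mem_zpowers_iff.mp hyN
    rw [map_zpow, hαz]
  have hty : t * y = α t := by rw [hy, mul_inv_cancel_left]
  have hpow : ∀ n : ℕ, (α ^ n) t = t * y ^ n := by
    intro n
    induction n with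
    | zero => simp
    | succ n ih =>
      rw [pow_succ', MulAut.mul_apply, ih, map_mul, map_pow, hαy, pow_succ', ← mul_assoc, hty]
  have h1 := hinn' t ht
  rw [hpow] at h1
  have hym : y ^ m = 1 := by
    apply mul_left_cancel (a := t); rw [h1, mul_one]
  have hyp : y ^ p = 1 := pow_eq_one_of_mem_zpowers hzp hyN
  have hy1 : y = 1 := by
    have hcop : Nat.Coprime m p := ((Nat.Prime.coprime_iff_not_dvd hp).mpr hm).symm
    have h2 : orderOf y ∣ Nat.gcd m p :=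
      Nat.dvd_gcd (orderOf_dvd_of_pow_eq_one hym) (orderOf_dvd_of_pow_eq_one hyp)
    rw [hcop.gcd_eq_one, Nat.dvd_one] at h2
    exact orderOf_eq_one_iff.mp h2
  rw [← hty, hy1, mul_one]

theorem IsRefl.inv_zpowers {zs : G} {κ : MulAut G} (hκ : IsRefl zs κ) {y : G}
    (hy : y ∈ Subgroup.zpowers zs) : κ y = y⁻¹ := by
  obtain ⟨k, rfl⟩ := Subgroup.mem_zpowers_iff.mp hy
  rw [map_zpow, hκ.1, inv_zpow]

theorem IsRefl.inv_apply_zpowers {zs : G} {κ : MulAut G} (hκ : IsRefl zs κ) {y : G}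
    (hy : y ∈ Subgroup.zpowers zs) : κ⁻¹ y = y⁻¹ := by
  have h1 := hκ.inv_zpowers (Subgroup.inv_mem _ hy)
  rw [inv_inv] at h1
  calc κ⁻¹ y = κ⁻¹ (κ y⁻¹) := by rw [h1]
    _ = y⁻¹ := MulAut.inv_apply_self _ _ _

theorem IsRefl.unique (Δ : Subgroup (MulAut G)) {zs : G} (hzp : zs ^ p = 1)
    (hinn : ∀ α ∈ Δ, ∃ m : ℕ, ¬ p ∣ m ∧ ∀ t ∈ Subgroup.center G, (α ^ m) t = t)
    {κ₁ κ₂ : MulAut G} (h₁ : κ₁ ∈ Δ) (h₂ : κ₂ ∈ Δ) (r₁ : IsRefl zs κ₁) (r₂ : IsRefl zs κ₂) :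
    ∀ t ∈ Subgroup.center G, κ₁ t = κ₂ t := by
  have hα : κ₁⁻¹ * κ₂ ∈ Δ := Δ.mul_mem (Δ.inv_mem h₁) h₂
  have hαz : (κ₁⁻¹ * κ₂) zs = zs := by
    rw [MulAut.mul_apply, r₂.1,
      r₁.inv_apply_zpowers (Subgroup.inv_mem _ (Subgroup.mem_zpowers zs)), inv_inv]
  have hmod : ∀ t ∈ Subgroup.center G, t⁻¹ * (κ₁⁻¹ * κ₂) t ∈ Subgroup.zpowers zs := by
    intro t ht
    have hy₂ := r₂.2 t ht
    have ht' : κ₁⁻¹ t ∈ Subgroup.center G := aut_center κ₁⁻¹ ht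
    have hy₁ := r₁.2 (κ₁⁻¹ t) ht'
    rw [MulAut.apply_inv_self] at hy₁
    have h3 : (κ₁⁻¹ * κ₂) t = κ₁⁻¹ t * (t⁻¹ * κ₂ t)⁻¹ := by
      have h4 : κ₂ t = t * (t⁻¹ * κ₂ t) := by rw [mul_inv_cancel_left]
      rw [MulAut.mul_apply]
      conv_lhs => rw [h4]
      rw [map_mul, r₁.inv_apply_zpowers hy₂]
    rw [h3]
    have h5 : t⁻¹ * (κ₁⁻¹ t * (t⁻¹ * κ₂ t)⁻¹) =
        ((κ₁⁻¹ t)⁻¹ * t)⁻¹ * (t⁻¹ * κ₂ t)⁻¹ := by group
    rw [h5]
    exact Subgroup.mul_mem _ (Subgroup.inv_mem _ hy₁) (Subgroup.inv_mem _ hy₂)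
  intro t ht
  have h6 := fix_center_of_trivial_mod Δ hzp hinn hα hαz hmod t ht
  rw [MulAut.mul_apply] at h6
  have h7 := congrArg κ₁ h6
  rw [MulAut.apply_inv_self] at h7
  exact h7.symm

theorem IsRefl.conj {Δ : Subgroup (MulAut G)} {zs : G}
    (hΔN : ∀ α ∈ Δ, α zs ∈ Subgroup.zpowers zs) {κ α : MulAut G} (hα : α ∈ Δ)
    (r : IsRefl zs κ) : IsRefl zs (α * κ * α⁻¹) := by
  have hN : ∀ β ∈ Δ, ∀ y ∈ Subgroup.zpowers zs, β y ∈ Subgroup.zpowers zs := by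
    intro β hβ y hy
    obtain ⟨k, rfl⟩ := Subgroup.mem_zpowers_iff.mp hy
    rw [map_zpow]; exact Subgroup.zpow_mem _ (hΔN β hβ) k
  constructor
  · rw [MulAut.mul_apply, MulAut.mul_apply, r.inv_zpowers (hΔN α⁻¹ (Δ.inv_mem hα)), map_inv,
      MulAut.apply_inv_self]
  · intro t ht
    have ht' := aut_center α⁻¹ ht
    have hy := r.2 (α⁻¹ t) ht'
    have h1 : t⁻¹ * (α * κ * α⁻¹) t = α ((α⁻¹ t)⁻¹ * κ (α⁻¹ t)) := by
      rw [MulAut.mul_apply, MulAut.mul_apply, map_mul, map_inv, MulAut.apply_inv_self]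
    rw [h1]
    exact hN α hα _ hy

theorem refl_fix_invariant (Δ : Subgroup (MulAut G)) {zs : G} (hzp : zs ^ p = 1)
    (hinn : ∀ α ∈ Δ, ∃ m : ℕ, ¬ p ∣ m ∧ ∀ t ∈ Subgroup.center G, (α ^ m) t = t)
    (hΔN : ∀ α ∈ Δ, α zs ∈ Subgroup.zpowers zs) {κ₀ : MulAut G} (h₀ : κ₀ ∈ Δ)
    (r₀ : IsRefl zs κ₀) {α : MulAut G} (hα : α ∈ Δ) {t : G} (ht : t ∈ Subgroup.center G)
    (hfix : κ₀ t = t) : κ₀ (α t) = α t := by
  have r := r₀.conj hΔN hα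
  have hmem : α * κ₀ * α⁻¹ ∈ Δ := Δ.mul_mem (Δ.mul_mem hα h₀) (Δ.inv_mem hα)
  have h1 := IsRefl.unique Δ hzp hinn h₀ hmem r₀ r (α t) (aut_center α ht)
  rw [h1, MulAut.mul_apply, MulAut.mul_apply, MulAut.inv_apply_self, hfix]

theorem center_le_of_refl_fix_trivial (hp2 : p ≠ 2) {zs : G} (hzp : zs ^ p = 1)
    (hzc : zs ∈ Subgroup.center G) {κ₀ : MulAut G} (r₀ : IsRefl zs κ₀)
    (htriv : ∀ t ∈ Subgroup.center G, κ₀ t = t → t = 1) :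
    ∀ t ∈ Subgroup.center G, t ∈ Subgroup.zpowers zs := by
  have hp : p.Prime := Fact.out
  intro t ht
  have hy := r₀.2 t ht
  have hfo : IsOfFinOrder zs := isOfFinOrder_iff_pow_eq_one.mpr ⟨p, hp.pos, hzp⟩
  rw [← hfo.mem_powers_iff_mem_zpowers, Submonoid.mem_powers_iff] at hy
  obtain ⟨k, hk⟩ := hy
  obtain ⟨q, hq⟩ : ∃ q, p = 2 * q + 1 := by
    rcases Nat.Prime.eq_two_or_odd' hp with h | h
    · exact absurd h hp2
    · obtain ⟨q, hq⟩ := h; exact ⟨q, hq⟩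
  obtain ⟨j, hj⟩ : ∃ j, j = k * (q + 1) := ⟨_, rfl⟩
  have hfix : κ₀ (t * zs ^ j) = t * zs ^ j := by
    have h1 : κ₀ t = t * zs ^ k := by rw [hk, mul_inv_cancel_left]
    rw [map_mul, map_pow, r₀.1, inv_pow, h1, mul_assoc]
    congr 1
    rw [mul_inv_eq_iff_eq_mul, ← pow_add]
    have h2 : j + j = k * p + k := by rw [hj, hq]; ring
    rw [h2, pow_add, pow_mul', hzp, one_pow, one_mul]
  have hmem : t * zs ^ j ∈ Subgroup.center G :=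
    Subgroup.mul_mem _ ht (Subgroup.pow_mem _ hzc j)
  have h2 := htriv _ hmem hfix
  have h3 : t = (zs ^ j)⁻¹ := eq_inv_of_mul_eq_one_left h2
  rw [h3]
  exact Subgroup.inv_mem _ (Subgroup.pow_mem _ (Subgroup.mem_zpowers zs) j)

end Cfsg.Agent.Lib.Helper2.Ex
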