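import Cfsg.Agent.Lib.Helper2.Ex1b
import Cfsg.Agent.Lib.Helper2.Ex4
import Cfsg.Agent.Lib.Helper2.Ex5a

set_option autoImplicit false

/-! The case of odd `p`: the centre of `S` has order `p`. -/

namespace Cfsg.Agent.Lib.Helper2.Ex

open Cfsg Cfsg.FusionSystem Cfsg.Agent.Lib.Helper9

variable {Ω : Type*} [Group Ω] {S : Subgroup Ω}

theorem mem_zpowers_coe {H : Subgroup Ω} {z : Ω} (hz : z ∈ H) (x : ↥H) :
    x ∈ Subgroup.zpowers (⟨z, hz⟩ : ↥H) ↔ (x : Ω) ∈ Subgroup.zpowers z := by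
  rw [Subgroup.mem_zpowers_iff, Subgroup.mem_zpowers_iff]
  constructor
  · rintro ⟨k, rfl⟩; exact ⟨k, by rw [Subgroup.coe_zpow]⟩
  · rintro ⟨k, hk⟩; exact ⟨k, Subtype.ext (by rw [Subgroup.coe_zpow]; exact hk)⟩

theorem mem_center_iff_coe {x : ↥S} : x ∈ Subgroup.center ↥S ↔ (x : Ω) ∈ Zc S := by
  constructor
  · intro h; exact ⟨x, h, rfl⟩
  · rintro ⟨y, hy, hyx⟩
    have h1 : y = x := Subtype.ext hyx
    rw [← h1]; exact hy

theorem delta_inner [Finite S] (p : ℕ) [Fact p.Prime] (hS : IsPGroup p S) (F : FusionSystem S)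
    (hF : F.IsSaturated p) :
    ∀ α ∈ F.autGroup S, ∃ m : ℕ, ¬ p ∣ m ∧ ∀ t ∈ Subgroup.center ↥S, (α ^ m) t = t := by
  obtain ⟨-, R, hR⟩ := fullyAutomized_of_fullyNormalized hS F hF (fullyNormalized_top F)
  have hRn : (R : Subgroup ↥(F.autGroup S)).Normal := by
    refine ⟨fun n hn δ => ?_⟩
    rw [hR, Subgroup.mem_subgroupOf, mem_autInducedBy_iff] at hn ⊢
    obtain ⟨g, hg, hgn⟩ := hn
    refine ⟨((δ : MulAut ↥S) ⟨g, hg⟩ : ↥S), ((δ : MulAut ↥S) ⟨g, hg⟩).2, fun x => ?_⟩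
    have h1 : (n : MulAut ↥S) ((δ : MulAut ↥S)⁻¹ x) =
        ⟨g, hg⟩ * (δ : MulAut ↥S)⁻¹ x * ⟨g, hg⟩⁻¹ := by
      apply Subtype.ext
      rw [hgn]; rfl
    show (((δ : MulAut ↥S) ((n : MulAut ↥S) ((δ : MulAut ↥S)⁻¹ x)) : ↥S) : Ω) = _
    rw [h1, map_mul, map_mul, map_inv, MulAut.apply_inv_self]
    rfl
  intro α hα
  refine ⟨(R : Subgroup ↥(F.autGroup S)).index, R.not_dvd_index, fun t ht => ?_⟩
  have h1 := Subgroup.pow_index_mem (R : Subgroup ↥(F.autGroup S)) (⟨α, hα⟩ : ↥(F.autGroup S))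
  have h1' : ((⟨α, hα⟩ : ↥(F.autGroup S)) ^ (R : Subgroup ↥(F.autGroup S)).index) ∈
      (autInducedBy S S).subgroupOf (F.autGroup S) := by
    rw [← hR]; exact h1
  rw [Subgroup.mem_subgroupOf, mem_autInducedBy_iff] at h1'
  obtain ⟨g, hg, hgα⟩ := h1'
  apply Subtype.ext
  have h2 : (((α ^ (R : Subgroup ↥(F.autGroup S)).index) t : ↥S) : Ω) = g * t * g⁻¹ := hgα t
  rw [h2]
  have h3 := Subgroup.mem_center_iff.mp ht ⟨g, hg⟩
  have h4 : g * (t : Ω) = t * g := congrArg Subtype.val h3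
  rw [h4, mul_inv_cancel_right]

theorem delta_comm {z : Ω} (hzS : z ∈ S)
    (hzc : ∀ g ∈ S, ∀ h ∈ S, g * h * g⁻¹ * h⁻¹ ∈ Subgroup.zpowers z)
    (hzcomm : ∃ g ∈ S, ∃ h ∈ S, z = g * h * g⁻¹ * h⁻¹) :
    ∀ α : MulAut ↥S, α (⟨z, hzS⟩ : ↥S) ∈ Subgroup.zpowers (⟨z, hzS⟩ : ↥S) := by
  intro α
  obtain ⟨g, hg, h, hh, hz⟩ := hzcomm
  rw [mem_zpowers_coe]
  have h1 : (⟨z, hzS⟩ : ↥S) = ⟨g, hg⟩ * ⟨h, hh⟩ * ⟨g, hg⟩⁻¹ * ⟨h, hh⟩⁻¹ := Subtype.ext hz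
  rw [h1, map_mul, map_mul, map_mul, map_inv, map_inv]
  exact hzc _ (α ⟨g, hg⟩).2 _ (α ⟨h, hh⟩).2

theorem EssData.u_fix {p : ℕ} {F : FusionSystem S} {z : Ω} {E : Subgroup Ω} {s : Ω}
    {u : MulAut ↥E} (hD : EssData p F z E s u) (t : Ω) (ht : t ∈ Zc S) :
    u ⟨t, hD.zle ht⟩ = ⟨t, hD.zle ht⟩ := by
  apply Subtype.ext
  rw [hD.u_apply]
  show s * t * s⁻¹ = t
  rw [(mem_Zc.mp ht).2 s hD.s_mem, mul_inv_cancel_right]

theorem exists_refl_ext [Finite S] (p : ℕ) [Fact p.Prime] (hp2 : p ≠ 2) (F : FusionSystem S)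
    {z : Ω} {E : Subgroup Ω} {s : Ω} {u : MulAut ↥E} (hD : EssData p F z E s u)
    {g : MulAut ↥E} (hg : g ∈ F.autGroup E) (hgu : g * u * g⁻¹ ∉ Subgroup.zpowers u) :
    ∃ κ ∈ F.autGroup S, IsRefl (⟨z, Zc_le hD.z_mem⟩ : ↥S) κ ∧
      ∀ (t : Ω) (ht : t ∈ Zc S), (κ ⟨t, Zc_le ht⟩ = ⟨t, Zc_le ht⟩ ↔
        (g * u * g⁻¹) ⟨t, hD.zle ht⟩ = ⟨t, hD.zle ht⟩) := by
  haveI : Finite ↥E := finite_of_le hD.le
  haveI : IsMulCommutative ↥E := ⟨⟨fun a b => Subtype.ext (hD.comm a a.2 b b.2)⟩⟩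
  obtain ⟨κ, hκG, hκz, hκn, hκe⟩ := exists_kappa hp2 hD.sylow hD.tv (hD.tv.conj hg) hgu
  obtain ⟨κ', hκ'Δ, hκ'⟩ := hD.ext κ hκG hκn
  refine ⟨κ', hκ'Δ, ⟨?_, ?_⟩, ?_⟩
  · apply Subtype.ext
    have h1 := hκ' ⟨z, hD.zle hD.z_mem⟩
    rw [hκz] at h1
    exact h1
  · intro t ht
    have htZ : (t : Ω) ∈ Zc S := mem_center_iff_coe.mp ht
    rw [mem_zpowers_coe]
    have h1 := (hκe ⟨t, hD.zle htZ⟩ (hD.u_fix t htZ)).1
    rw [mem_zpowers_coe] at h1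
    have h2 : ((κ' t : ↥S) : Ω) = ((κ ⟨t, hD.zle htZ⟩ : ↥E) : Ω) := hκ' ⟨t, hD.zle htZ⟩
    have h3 : ((t⁻¹ * κ' t : ↥S) : Ω) =
        ((⟨t, hD.zle htZ⟩⁻¹ * κ ⟨t, hD.zle htZ⟩ : ↥E) : Ω) := by
      show (t : Ω)⁻¹ * (κ' t : Ω) = (t : Ω)⁻¹ * (κ ⟨t, hD.zle htZ⟩ : Ω)
      rw [h2]
    rw [h3]; exact h1
  · intro t ht
    rw [← (hκe ⟨t, hD.zle ht⟩ (hD.u_fix t ht)).2]
    have h2 : ((κ' ⟨t, Zc_le ht⟩ : ↥S) : Ω) = ((κ ⟨t, hD.zle ht⟩ : ↥E) : Ω) :=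
      hκ' ⟨t, hD.zle ht⟩
    constructor
    · intro h
      apply Subtype.ext
      exact h2.symm.trans (congrArg Subtype.val h)
    · intro h
      apply Subtype.ext
      exact h2.trans (congrArg Subtype.val h)

theorem Zc_le_zpowers_of_odd [Finite S] (p : ℕ) [Fact p.Prime] (hp2 : p ≠ 2)
    (hS : IsPGroup p S) (F : FusionSystem S) (hF : F.IsSaturated p) (hcore : F.core = ⊥)
    (hidx : (Zc S).relIndex S = p ^ 2) {z : Ω} (hzZ : z ∈ Zc S) (hz1 : z ≠ 1)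
    (hzp : z ^ p = 1)
    (hzc : ∀ g ∈ S, ∀ h ∈ S, g * h * g⁻¹ * h⁻¹ ∈ Subgroup.zpowers z)
    (hzcomm : ∃ g ∈ S, ∃ h ∈ S, z = g * h * g⁻¹ * h⁻¹)
    {E₀ : Subgroup Ω} (hE₀ : F.IsEssential p E₀) : Zc S ≤ Subgroup.zpowers z := by
  classical
  obtain ⟨s₀, u₀, D₀⟩ := essData_of_essential p hS F hF hidx hzZ hz1 hzp hzc hE₀
  obtain ⟨g₀, hg₀, hg₀u⟩ := D₀.notnormal
  obtain ⟨κ₀, hκ₀Δ, r₀, -⟩ := exists_refl_ext p hp2 F D₀ hg₀ hg₀u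
  obtain ⟨zs, hzs⟩ : ∃ zs : ↥S, zs = ⟨z, Zc_le hzZ⟩ := ⟨_, rfl⟩
  have r₀' : IsRefl zs κ₀ := by rw [hzs]; exact r₀
  have hzsp : zs ^ p = 1 := by
    rw [hzs]; exact Subtype.ext (by rw [Subgroup.coe_pow]; exact hzp)
  have hzsc : zs ∈ Subgroup.center ↥S := by rw [hzs]; exact mem_center_iff_coe.mpr hzZ
  have hinn := delta_inner p hS F hF
  have hΔN : ∀ α ∈ F.autGroup S, α zs ∈ Subgroup.zpowers zs := by
    intro α _; rw [hzs]; exact delta_comm (Zc_le hzZ) hzc hzcomm α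
  let Cs : Subgroup ↥S :=
    { carrier := {t | t ∈ Subgroup.center ↥S ∧ κ₀ t = t}
      one_mem' := ⟨Subgroup.one_mem _, map_one _⟩
      mul_mem' := by
        rintro a b ⟨ha, ha'⟩ ⟨hb, hb'⟩
        exact ⟨Subgroup.mul_mem _ ha hb, by rw [map_mul, ha', hb']⟩
      inv_mem' := by
        rintro a ⟨ha, ha'⟩
        exact ⟨Subgroup.inv_mem _ ha, by rw [map_inv, ha']⟩ }
  have hCmem : ∀ (t : Ω) (ht : t ∈ Zc S),
      t ∈ Cs.map S.subtype ↔ κ₀ ⟨t, Zc_le ht⟩ = ⟨t, Zc_le ht⟩ := by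
    intro t ht
    constructor
    · rintro ⟨y, hy, hyt⟩
      have h1 : y = ⟨t, Zc_le ht⟩ := Subtype.ext hyt
      rw [← h1]; exact hy.2
    · intro h
      exact ⟨⟨t, Zc_le ht⟩, ⟨mem_center_iff_coe.mpr ht, h⟩, rfl⟩
  have hCZ : Cs.map S.subtype ≤ Zc S := by
    rintro _ ⟨y, hy, rfl⟩
    exact mem_center_iff_coe.mp hy.1
  have hCnormal : F.IsNormal (Cs.map S.subtype) := by
    rw [normal_iff_essential_invariant p hS F hF]
    intro P hP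
    rcases hP with hPS | hP
    · obtain rfl := hPS.symm
      refine ⟨Subgroup.map_subtype_le _, fun α hα => ?_⟩
      apply map_eq_of_forall_map_le (A := F.autGroup S) _ hα
      intro β hβ
      rintro _ ⟨x, hx, rfl⟩
      have hx' : (x : Ω) ∈ Cs.map S.subtype := hx
      show ((β x : ↥S) : Ω) ∈ Cs.map S.subtype
      obtain ⟨y, hy, hyx⟩ := hx'
      have hxy : y = x := Subtype.ext hyx
      rw [hxy] at hy
      refine ⟨β x, ⟨aut_center β hy.1, ?_⟩, rfl⟩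
      exact refl_fix_invariant (F.autGroup S) hzsp hinn hΔN hκ₀Δ r₀' hβ hy.1 hy.2
    · obtain ⟨s, u, D⟩ := essData_of_essential p hS F hF hidx hzZ hz1 hzp hzc hP
      refine ⟨le_trans hCZ D.zle, fun α hα => ?_⟩
      apply map_eq_of_forall_map_le (A := F.autGroup P) _ hα
      intro g hg
      rintro _ ⟨x, hx0, rfl⟩
      have hx : (x : Ω) ∈ Cs.map S.subtype := hx0
      show ((g x : ↥P) : Ω) ∈ Cs.map S.subtype
      have hxZ : (x : Ω) ∈ Zc S := hCZ hx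
      have claimA : ∀ h ∈ F.autGroup P, ∀ (t : Ω) (ht : t ∈ Zc S), t ∈ Cs.map S.subtype →
          (h * u * h⁻¹) ⟨t, D.zle ht⟩ = ⟨t, D.zle ht⟩ := by
        intro h hh t ht htC
        by_cases hn : h * u * h⁻¹ ∈ Subgroup.zpowers u
        · obtain ⟨k, hk⟩ := Subgroup.mem_zpowers_iff.mp hn
          rw [← hk]
          exact aut_zpow_fix (D.u_fix t ht) k
        · obtain ⟨κ, hκΔ, rκ, hκiff⟩ := exists_refl_ext p hp2 F D hh hn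
          have rκ' : IsRefl zs κ := by rw [hzs]; exact rκ
          have h1 := IsRefl.unique (F.autGroup S) hzsp hinn hκ₀Δ hκΔ r₀' rκ' ⟨t, Zc_le ht⟩
            (mem_center_iff_coe.mpr ht)
          have h2 := (hCmem t ht).mp htC
          rw [h1] at h2
          exact (hκiff t ht).mp h2
      have claimB : ∀ g₁ ∈ F.autGroup P, g₁ * u * g₁⁻¹ ∉ Subgroup.zpowers u →
          ∀ (t : Ω) (ht : t ∈ Zc S), (g₁ * u * g₁⁻¹) ⟨t, D.zle ht⟩ = ⟨t, D.zle ht⟩ →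
          t ∈ Cs.map S.subtype := by
        intro g₁ hg₁ hn t ht hfix
        obtain ⟨κ, hκΔ, rκ, hκiff⟩ := exists_refl_ext p hp2 F D hg₁ hn
        have rκ' : IsRefl zs κ := by rw [hzs]; exact rκ
        have h1 := IsRefl.unique (F.autGroup S) hzsp hinn hκ₀Δ hκΔ r₀' rκ' ⟨t, Zc_le ht⟩
          (mem_center_iff_coe.mpr ht)
        rw [hCmem t ht, h1]
        exact (hκiff t ht).mpr hfix
      obtain ⟨g₁, hg₁, hg₁n⟩ := D.notnormal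
      have hA1 := claimA g⁻¹ (Subgroup.inv_mem _ hg) x hxZ hx
      have huy : u (g x) = g x := by
        have h1 : (g⁻¹ * u * g⁻¹⁻¹) x = x := hA1
        rw [inv_inv, MulAut.mul_apply, MulAut.mul_apply] at h1
        have h2 := congrArg g h1
        rwa [MulAut.apply_inv_self] at h2
      have hyZ : ((g x : ↥P) : Ω) ∈ Zc S := D.fixZ (g x) huy
      have hA2 := claimA (g⁻¹ * g₁) (Subgroup.mul_mem _ (Subgroup.inv_mem _ hg) hg₁) x hxZ hx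
      have hfix2 : (g₁ * u * g₁⁻¹) (g x) = g x := by
        have h1 : ((g⁻¹ * g₁) * u * (g⁻¹ * g₁)⁻¹) x = x := hA2
        have h3 : (g⁻¹ * g₁) * u * (g⁻¹ * g₁)⁻¹ = g⁻¹ * (g₁ * u * g₁⁻¹) * g := by group
        rw [h3, MulAut.mul_apply, MulAut.mul_apply] at h1
        have h2 := congrArg g h1
        rwa [MulAut.apply_inv_self] at h2
      exact claimB g₁ hg₁ hg₁n _ hyZ hfix2
  have hCbot : Cs.map S.subtype = ⊥ := by
    have h1 : Cs.map S.subtype ≤ F.core :=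
      le_sSup (show Cs.map S.subtype ∈ {Q | F.IsNormal Q} from hCnormal)
    rw [hcore] at h1; exact le_bot_iff.mp h1
  have htriv : ∀ t ∈ Subgroup.center ↥S, κ₀ t = t → t = 1 := by
    intro t ht hfix
    have h1 : (t : Ω) ∈ Cs.map S.subtype := ⟨t, ⟨ht, hfix⟩, rfl⟩
    rw [hCbot, Subgroup.mem_bot] at h1
    exact Subtype.ext h1
  have hall := center_le_of_refl_fix_trivial hp2 hzsp hzsc r₀' htriv
  intro t ht
  have h1 := hall ⟨t, Zc_le ht⟩ (mem_center_iff_coe.mpr ht)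
  rw [hzs, mem_zpowers_coe] at h1
  exact h1

end Cfsg.Agent.Lib.Helper2.Ex
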