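import Cfsg.Agent.Lib.Helper2.Ex2
import Cfsg.Agent.Lib.Helper2.Ex5b
import Cfsg.Agent.Lib.Helper9.Focal

set_option autoImplicit false

/-! The case `p = 2`: basic facts on essential subgroups and their involutions. -/

namespace Cfsg.Agent.Lib.Helper2.Ex

open Cfsg Cfsg.FusionSystem Cfsg.Agent.Lib.Helper9

section abstract

open scoped IsMulCommutative

variable {E : Type*} [Group E] [IsMulCommutative E] [Finite E]
  {G : Subgroup (MulAut E)} {u u' : MulAut E} {z z' : E}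

theorem tv2_frattini'
    (hG : ∀ K : Subgroup (MulAut E), K ≤ G → IsPGroup 2 K → Nat.card K ≤ 2)
    (h : TV 2 G u z) (h' : TV 2 G u' z') (hne : u' ∉ Subgroup.zpowers u)
    {g : MulAut E} (hg : g ∈ G) :
    ∃ k : MulAut E, (k = 1 ∨ k = u * u' ∨ k = u') ∧ (k⁻¹ * g) * u * (k⁻¹ * g)⁻¹ = u := by
  have huu : u * u = 1 := by rw [← pow_two]; exact h.pow_eq_one
  have hu'u' : u' * u' = 1 := by rw [← pow_two]; exact h'.pow_eq_one
  rcases tv2_cases hG h h' hne hg with ⟨h1, -⟩ | ⟨h1, -⟩ | ⟨h1, -⟩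
  · refine ⟨1, Or.inl rfl, ?_⟩
    rw [inv_one, one_mul]; exact h1
  · refine ⟨u * u', Or.inr (Or.inl rfl), ?_⟩
    have key : u * u' * u * (u * u')⁻¹ = u' := by
      calc u * u' * u * (u * u')⁻¹ = u * (u' * u * u') * u := by
            rw [mul_inv_rev, h'.inv_eq2, h.inv_eq2]; group
        _ = u * (u * u' * u) * u := by rw [← braid2 hG h h' hne]
        _ = (u * u) * u' * (u * u) := by group
        _ = u' := by rw [huu, one_mul, mul_one]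
    calc (u * u')⁻¹ * g * u * ((u * u')⁻¹ * g)⁻¹
        = (u * u')⁻¹ * (g * u * g⁻¹) * (u * u') := by group
      _ = (u * u')⁻¹ * (u * u' * u * (u * u')⁻¹) * (u * u') := by rw [h1, key]
      _ = u := by group
  · refine ⟨u', Or.inr (Or.inr rfl), ?_⟩
    calc u'⁻¹ * g * u * (u'⁻¹ * g)⁻¹ = u'⁻¹ * (g * u * g⁻¹) * u' := by group
      _ = u'⁻¹ * (u' * u * u') * u' := by rw [h1]
      _ = u * (u' * u') := by group
      _ = u := by rw [hu'u', mul_one]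

theorem conj_fix_iff {X : Type*} [Group X] (g u : MulAut X) (e : X) :
    (g * u * g⁻¹) e = e ↔ u (g⁻¹ e) = g⁻¹ e := by
  rw [MulAut.mul_apply, MulAut.mul_apply]
  constructor
  · intro h1
    have h2 : g⁻¹ (g (u (g⁻¹ e))) = g⁻¹ e := by rw [h1]
    rwa [MulAut.inv_apply_self] at h2
  · intro h1
    rw [h1, MulAut.apply_inv_self]

theorem sq_third_aux {M : Type*} [Group M] {x y t : M} (htx : t * x = x * t)
    (hty : t * y = y * t) :
    (y * (x * t)) * (y * (x * t)) = (y * x * y * x) * (t * t) := by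
  calc (y * (x * t)) * (y * (x * t)) = y * x * (t * y) * x * t := by group
    _ = y * x * (y * t) * x * t := by rw [hty]
    _ = y * x * y * (t * x) * t := by group
    _ = y * x * y * (x * t) * t := by rw [htx]
    _ = (y * x * y * x) * (t * t) := by group

end abstract

variable {Ω : Type*} [Group Ω] {S : Subgroup Ω}

theorem restrict_aut [Finite S] (F : FusionSystem S) {P : Subgroup Ω} (hPS : P ≤ S)
    {α : MulAut ↥S} (hα : α ∈ F.autGroup S)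
    (hP : ∀ (x : Ω) (hx : x ∈ P), ((α ⟨x, hPS hx⟩ : ↥S) : Ω) ∈ P) :
    ∃ β ∈ F.autGroup P, ∀ x : ↥P, ((β x : ↥P) : Ω) = ((α ⟨x, hPS x.2⟩ : ↥S) : Ω) := by
  haveI : Finite ↥P := finite_of_le hPS
  have hφ := hom_of_mem_autGroup F le_rfl hα
  have hψ := restrict_mem F hφ hPS
  have hval : ∀ x : ↥P, ((S.subtype.comp α.toMonoidHom).comp (Subgroup.inclusion hPS)) x =
      ((α ⟨x, hPS x.2⟩ : ↥S) : Ω) := fun x => rfl
  have hrange : ((S.subtype.comp α.toMonoidHom).comp (Subgroup.inclusion hPS)).range = P := by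
    apply Subgroup.eq_of_le_of_card_ge
    · rintro _ ⟨x, rfl⟩
      rw [hval]; exact hP x x.2
    · exact le_of_eq (Nat.card_congr (MonoidHom.ofInjective (F.injective_of_mem hψ)).toEquiv)
  obtain ⟨β, hβ, hβψ⟩ := exists_aut_of_hom F hψ hrange
  exact ⟨β, hβ, fun x => by rw [hβψ]; rfl⟩

theorem delta_inner' [Finite S] (p : ℕ) [Fact p.Prime] (hS : IsPGroup p S) (F : FusionSystem S)
    (hF : F.IsSaturated p) :
    ∀ α ∈ F.autGroup S, ∃ m : ℕ, ¬ p ∣ m ∧ ∃ c ∈ S, ∀ t : ↥S,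
      (((α ^ m) t : ↥S) : Ω) = c * t * c⁻¹ := by
  obtain ⟨-, R, hR⟩ := fullyAutomized_of_fullyNormalized hS F hF (fullyNormalized_top F)
  have hRn : (R : Subgroup ↥(F.autGroup S)).Normal := by
    refine ⟨fun n hn δ => ?_⟩
    rw [hR, Subgroup.mem_subgroupOf, mem_autInducedBy_iff] at hn ⊢
    obtain ⟨g, hg, hgn⟩ := hn
    refine ⟨((δ : MulAut ↥S) ⟨g, hg⟩ : ↥S), ((δ : MulAut ↥S) ⟨g, hg⟩).2, fun x => ?_⟩
    have h1 : (n : MulAut ↥S) ((δ : MulAut ↥S)⁻¹ x) =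
        ⟨g, hg⟩ * (δ : MulAut ↥S)⁻¹ x * ⟨g, hg⟩⁻¹ := by
      apply Subtype.ext
      rw [hgn]; rfl
    show (((δ : MulAut ↥S) ((n : MulAut ↥S) ((δ : MulAut ↥S)⁻¹ x)) : ↥S) : Ω) = _
    rw [h1, map_mul, map_mul, map_inv, MulAut.apply_inv_self]
    rfl
  intro α hα
  have h1 := Subgroup.pow_index_mem (R : Subgroup ↥(F.autGroup S)) (⟨α, hα⟩ : ↥(F.autGroup S))
  have h1' : ((⟨α, hα⟩ : ↥(F.autGroup S)) ^ (R : Subgroup ↥(F.autGroup S)).index) ∈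
      (autInducedBy S S).subgroupOf (F.autGroup S) := by
    rw [← hR]; exact h1
  rw [Subgroup.mem_subgroupOf, mem_autInducedBy_iff] at h1'
  obtain ⟨g, hg, hgα⟩ := h1'
  exact ⟨(R : Subgroup ↥(F.autGroup S)).index, R.not_dvd_index, g, hg, fun t => hgα t⟩

theorem aut_Zc (α : MulAut ↥S) {t : Ω} (ht : t ∈ Zc S) :
    ((α ⟨t, Zc_le ht⟩ : ↥S) : Ω) ∈ Zc S :=
  mem_center_iff_coe.mp (aut_center α (mem_center_iff_coe (x := ⟨t, Zc_le ht⟩).mpr ht))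

theorem aut_fix_z {z : Ω} (hzS : z ∈ S) (hz1 : z ≠ 1) (hz2 : z ^ 2 = 1)
    (hzc : ∀ g ∈ S, ∀ h ∈ S, g * h * g⁻¹ * h⁻¹ ∈ Subgroup.zpowers z)
    (hzcomm : ∃ g ∈ S, ∃ h ∈ S, z = g * h * g⁻¹ * h⁻¹) (α : MulAut ↥S) :
    α ⟨z, hzS⟩ = ⟨z, hzS⟩ := by
  have h1 := delta_comm hzS hzc hzcomm α
  have h2 : (⟨z, hzS⟩ : ↥S) ^ 2 = 1 := Subtype.ext (by rw [Subgroup.coe_pow]; exact hz2)
  rcases mem_zpowers_two h2 h1 with h3 | h3
  · exfalso; apply hz1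
    have h4 : α ⟨z, hzS⟩ = α 1 := by rw [h3, map_one]
    exact congrArg Subtype.val (α.injective h4)
  · exact h3

theorem central_conj_zpow {N : Subgroup Ω} (hN : N ≤ Zc S) {x : Ω} (hx : x ∈ S) :
    ∀ k : ℤ, ∀ t ∈ N, (x ^ k)⁻¹ * t * x ^ k ∈ N ∧ x ^ k * t * (x ^ k)⁻¹ ∈ N := by
  intro k t ht
  have h1 := (mem_Zc.mp (hN ht)).2 (x ^ k) (S.zpow_mem hx k)
  constructor
  · have h2 : (x ^ k)⁻¹ * t * x ^ k = t := by
      rw [mul_assoc, ← h1, inv_mul_cancel_left]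
    rw [h2]; exact ht
  · have h2 : x ^ k * t * (x ^ k)⁻¹ = t := by
      rw [h1, mul_inv_cancel_right]
    rw [h2]; exact ht

theorem conj_zpow_mem {W : Subgroup Ω} (hnorm : ∀ g ∈ S, ∀ e ∈ W, g * e * g⁻¹ ∈ W) {y : Ω}
    (hy : y ∈ S) :
    ∀ k : ℤ, ∀ e ∈ W, (y ^ k)⁻¹ * e * y ^ k ∈ W ∧ y ^ k * e * (y ^ k)⁻¹ ∈ W := by
  intro k e he
  constructor
  · have h1 := hnorm (y ^ k)⁻¹ (S.inv_mem (S.zpow_mem hy k)) e he
    rwa [inv_inv] at h1
  · exact hnorm (y ^ k) (S.zpow_mem hy k) e he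

theorem four_cosets {P : Subgroup Ω} (hPS : P ≤ S) (hZP : Zc S ≤ P)
    (hrelP : P.relIndex S = 2) (hrelZ : (Zc S).relIndex P = 2)
    (hnorm : ∀ g ∈ S, ∀ e ∈ P, g * e * g⁻¹ ∈ P)
    {x y : Ω} (hxP : x ∈ P) (hxZ : x ∉ Zc S) (hx2 : x ^ 2 = 1)
    (hyS : y ∈ S) (hyP : y ∉ P) (hy2 : y ^ 2 = 1) :
    ∀ g ∈ S, ∃ t ∈ Zc S, g = t ∨ g = x * t ∨ g = y * t ∨ g = y * (x * t) := by
  have hle1 : S ≤ P ⊔ Subgroup.zpowers y := le_sup_zpowers (p := 2) hPS hrelP hyS hyP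
  have hle2 : P ≤ Zc S ⊔ Subgroup.zpowers x := le_sup_zpowers (p := 2) hZP hrelZ hxP hxZ
  have hn1 := conj_zpow_mem hnorm hyS
  have hn2 := central_conj_zpow (le_refl (Zc S)) (hPS hxP)
  intro g hg
  obtain ⟨k, e, he, rfl⟩ := exists_decomp hn1 hle1 g hg
  obtain ⟨j, t, ht, rfl⟩ := exists_decomp hn2 hle2 e he
  refine ⟨t, ht, ?_⟩
  rcases mem_zpowers_two hy2 (Subgroup.zpow_mem_zpowers y k) with h1 | h1 <;>
  rcases mem_zpowers_two hx2 (Subgroup.zpow_mem_zpowers x j) with h2 | h2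
  · left; rw [h1, h2, one_mul, one_mul]
  · right; left; rw [h1, h2, one_mul]
  · right; right; left; rw [h1, h2, one_mul]
  · right; right; right; rw [h1, h2]

theorem not_comm_of_not_mem {P : Subgroup Ω} (hPS : P ≤ S)
    (hcomm : ∀ a ∈ P, ∀ b ∈ P, a * b = b * a) (hrelP : P.relIndex S = 2)
    {x y : Ω} (hxP : x ∈ P) (hxZ : x ∉ Zc S) (hyS : y ∈ S) (hyP : y ∉ P) : x * y ≠ y * x := by
  intro h
  apply hxZ
  have hle1 : S ≤ P ⊔ Subgroup.zpowers y := le_sup_zpowers (p := 2) hPS hrelP hyS hyP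
  apply fix_mem_Zc hPS hcomm hle1 x hxP
  rw [← h, mul_inv_cancel_right]

/-- an essential subgroup together with a conjugate of its transvection not in `⟨u⟩` -/
structure Ess2 (F : FusionSystem S) (z : Ω) (P : Subgroup Ω) (s : Ω) (u g : MulAut ↥P)
    (x : Ω) : Prop where
  data : EssData 2 F z P s u
  g_mem : g ∈ F.autGroup P
  g_not : g * u * g⁻¹ ∉ Subgroup.zpowers u
  x_eq : x = ((g ⟨z, data.zle data.z_mem⟩ : ↥P) : Ω)

theorem exists_ess2 [Finite S] (hS : IsPGroup 2 S) (F : FusionSystem S) (hF : F.IsSaturated 2)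
    (hidx : (Zc S).relIndex S = 2 ^ 2) {z : Ω} (hzZ : z ∈ Zc S) (hz1 : z ≠ 1) (hz2 : z ^ 2 = 1)
    (hzc : ∀ g ∈ S, ∀ h ∈ S, g * h * g⁻¹ * h⁻¹ ∈ Subgroup.zpowers z)
    {P : Subgroup Ω} (hP : F.IsEssential 2 P) :
    ∃ (s : Ω) (u g : MulAut ↥P) (x : Ω), Ess2 F z P s u g x := by
  obtain ⟨s, u, D⟩ := essData_of_essential 2 hS F hF hidx hzZ hz1 hz2 hzc hP
  obtain ⟨g, hg, hgu⟩ := D.notnormal
  exact ⟨s, u, g, _, ⟨D, hg, hgu, rfl⟩⟩

variable {F : FusionSystem S} {z : Ω} {P : Subgroup Ω} {s : Ω} {u g : MulAut ↥P} {x : Ω}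

theorem Ess2.x_mem (h : Ess2 F z P s u g x) : x ∈ P := by
  rw [h.x_eq]; exact (g _).2

theorem Ess2.gz (h : Ess2 F z P s u g x) :
    g ⟨z, h.data.zle h.data.z_mem⟩ = ⟨x, h.x_mem⟩ := Subtype.ext h.x_eq.symm

theorem Ess2.tv' (h : Ess2 F z P s u g x) :
    TV 2 (F.autGroup P) (g * u * g⁻¹) ⟨x, h.x_mem⟩ := by
  rw [← h.gz]; exact h.data.tv.conj h.g_mem

theorem Ess2.x_sq (h : Ess2 F z P s u g x) : x ^ 2 = 1 := by
  have h1 := h.tv'.pow
  have h2 := congrArg Subtype.val h1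
  rw [Subgroup.coe_pow] at h2
  exact h2

theorem Ess2.x_not [Finite S] (h : Ess2 F z P s u g x) : x ∉ Zc S := by
  haveI : Finite ↥P := finite_of_le h.data.le
  intro hx
  exact h.data.tv.not_fix h.data.sylow h.tv' h.g_not (h.data.u_fix x hx)

theorem Ess2.nonsq [Finite S] (h : Ess2 F z P s u g x) {t : Ω} (ht : t ∈ Zc S) : t * t ≠ z := by
  haveI : Finite ↥P := finite_of_le h.data.le
  haveI : IsMulCommutative ↥P := ⟨⟨fun a b => Subtype.ext (h.data.comm a a.2 b b.2)⟩⟩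
  intro hsq
  have h1 := tv2_nonsquare h.data.sylow h.data.tv h.tv' h.g_not (h.data.u_fix t ht)
  exact h1 (Subtype.ext hsq)

theorem Ess2.no_third [Finite S] (hz2 : z ^ 2 = 1)
    (hzc : ∀ g ∈ S, ∀ h ∈ S, g * h * g⁻¹ * h⁻¹ ∈ Subgroup.zpowers z)
    (h : Ess2 F z P s u g x) {y t : Ω} (hyS : y ∈ S) (hy2 : y ^ 2 = 1)
    (hne : x * y ≠ y * x) (ht : t ∈ Zc S) : (y * (x * t)) * (y * (x * t)) ≠ 1 := by
  intro hsq
  have hxS : x ∈ S := h.data.le h.x_mem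
  have hty : t * y = y * t := ((mem_Zc.mp ht).2 y hyS).symm
  have htx : t * x = x * t := ((mem_Zc.mp ht).2 x hxS).symm
  have h2 := sq_third_aux htx hty
  rw [hsq] at h2
  have hxinv : x⁻¹ = x := inv_eq_of_mul_eq_one_right (by rw [← pow_two]; exact h.x_sq)
  have hyinv : y⁻¹ = y := inv_eq_of_mul_eq_one_right (by rw [← pow_two]; exact hy2)
  have h3 := hzc y hyS x hxS
  rw [hxinv, hyinv] at h3
  rcases mem_zpowers_two hz2 h3 with h4 | h4
  · apply hne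
    have h5 : (y * x)⁻¹ = y * x := inv_eq_of_mul_eq_one_right (by rw [← mul_assoc]; exact h4)
    rw [mul_inv_rev, hxinv, hyinv] at h5
    exact h5
  · rw [h4] at h2
    have hzinv : z⁻¹ = z := inv_eq_of_mul_eq_one_right (by rw [← pow_two]; exact hz2)
    have h6 : z⁻¹ = t * t := inv_eq_of_mul_eq_one_right h2.symm
    exact h.nonsq ht (by rw [← h6, hzinv])

theorem Ess2.move [Finite S] (h : Ess2 F z P s u g x) {γ : MulAut ↥P} (hγ : γ ∈ F.autGroup P)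
    {t : ↥P} (ht : u t = t) (ht' : (g * u * g⁻¹) t = t) :
    ∃ α ∈ F.autGroup S, ((γ t : ↥P) : Ω) = ((α ⟨t, h.data.le t.2⟩ : ↥S) : Ω) := by
  haveI : Finite ↥P := finite_of_le h.data.le
  haveI : IsMulCommutative ↥P := ⟨⟨fun a b => Subtype.ext (h.data.comm a a.2 b b.2)⟩⟩
  obtain ⟨k, hk, hkfix, hkn⟩ := tv2_frattini h.data.sylow h.data.tv h.tv' h.g_not hγ
  obtain ⟨n, hn⟩ : ∃ n : MulAut ↥P, n = k⁻¹ * γ := ⟨_, rfl⟩
  rw [← hn] at hkn
  have hnG : n ∈ F.autGroup P := by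
    rw [hn]; exact Subgroup.mul_mem _ (Subgroup.inv_mem _ hk) hγ
  have hγ' : γ = k * n := by rw [hn, mul_inv_cancel_left]
  obtain ⟨α, hα, hαn⟩ := h.data.ext n hnG (by rw [hkn]; exact Subgroup.mem_zpowers u)
  refine ⟨α, hα, ?_⟩
  rw [hαn t]
  have hfix_u : u (n t) = n t := by
    have h1 : u (n t) = (n * u * n⁻¹) (n t) := by rw [hkn]
    rw [h1, MulAut.mul_apply, MulAut.mul_apply, MulAut.inv_apply_self, ht]
  have hfix_u' : (g * u * g⁻¹) (n t) = n t := by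
    have h2 := tv2_fix h.data.sylow h.data.tv h.tv' h.g_not ht ht'
      (Subgroup.mul_mem _ (Subgroup.inv_mem _ hnG) h.g_mem)
    have h3 : n⁻¹ * g * u * (n⁻¹ * g)⁻¹ = n⁻¹ * (g * u * g⁻¹) * n := by group
    rw [h3, MulAut.mul_apply, MulAut.mul_apply] at h2
    have h4 := congrArg n h2
    rwa [MulAut.apply_inv_self] at h4
  have h5 := hkfix _ hfix_u hfix_u'
  rw [hγ', MulAut.mul_apply, h5]

theorem Ess2.eq_of_x_mem [Finite S] (h : Ess2 F z P s u g x) {P' : Subgroup Ω} {s' : Ω}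
    {u' g' : MulAut ↥P'} {x' : Ω} (h' : Ess2 F z P' s' u' g' x') (hx' : x' ∈ P) : P' = P := by
  have hle : P' ≤ P := by
    refine le_trans (le_sup_zpowers (p := 2) h'.data.zle h'.data.relZ h'.x_mem h'.x_not) ?_
    exact sup_le h.data.zle (Subgroup.zpowers_le.mpr hx')
  apply le_antisymm hle
  have h1 := Subgroup.relIndex_mul_relIndex _ _ _ hle h.data.le
  rw [h.data.relE, h'.data.relE] at h1
  have h2 : P'.relIndex P = 1 := by omega
  exact Subgroup.relIndex_eq_one.mp h2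

end Cfsg.Agent.Lib.Helper2.Ex
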