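import Cfsg.Agent.Lib.Helper2.Ex6a

set_option autoImplicit false

/-! The case `p = 2`: `Aut_F(S)` fixes the essential subgroups; the normal subgroup `Q`. -/

namespace Cfsg.Agent.Lib.Helper2.Ex

open Cfsg Cfsg.FusionSystem Cfsg.Agent.Lib.Helper9

variable {Ω : Type*} [Group Ω] {S : Subgroup Ω}
variable {F : FusionSystem S} {z : Ω} {P : Subgroup Ω} {s : Ω} {u g : MulAut ↥P} {x : Ω}

theorem Ess2.delta_fix_x [Finite S] (hS : IsPGroup 2 S) (hF : F.IsSaturated 2)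
    (hz2 : z ^ 2 = 1)
    (hzc : ∀ a ∈ S, ∀ b ∈ S, a * b * a⁻¹ * b⁻¹ ∈ Subgroup.zpowers z)
    (h : Ess2 F z P s u g x) {α : MulAut ↥S} (hα : α ∈ F.autGroup S) :
    ((α ⟨x, h.data.le h.x_mem⟩ : ↥S) : Ω) ∈ P := by
  by_contra hyP
  have D := h.data
  obtain ⟨xs, hxs⟩ : ∃ xs : ↥S, xs = ⟨x, D.le h.x_mem⟩ := ⟨_, rfl⟩
  rw [← hxs] at hyP
  have hxsv : (xs : Ω) = x := by rw [hxs]
  have hx2 : x ^ 2 = 1 := h.x_sq
  have hxs2 : xs ^ 2 = 1 := Subtype.ext (by rw [Subgroup.coe_pow, hxsv]; exact hx2)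
  have hsq : ∀ a : ↥S, a ^ 2 = 1 → ((α a : ↥S) : Ω) ^ 2 = 1 := by
    intro a ha
    have h1 : (α a) ^ 2 = 1 := by rw [← map_pow, ha, map_one]
    have h2 := congrArg Subtype.val h1
    rw [Subgroup.coe_pow] at h2
    exact h2
  have hαx2 : (α xs) ^ 2 = 1 := by rw [← map_pow, hxs2, map_one]
  have hy2 : ((α xs : ↥S) : Ω) ^ 2 = 1 := hsq xs hxs2
  have hw2 : ((α (α xs) : ↥S) : Ω) ^ 2 = 1 := hsq _ hαx2
  have hne : x * ((α xs : ↥S) : Ω) ≠ ((α xs : ↥S) : Ω) * x :=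
    not_comm_of_not_mem D.le D.comm D.relE h.x_mem h.x_not (α xs).2 hyP
  obtain ⟨t, ht, hcase⟩ := four_cosets D.le D.zle D.relE D.relZ D.norm h.x_mem h.x_not hx2
    (α xs).2 hyP hy2 _ (α (α xs)).2
  have hts : (⟨t, Zc_le ht⟩ : ↥S) ∈ Subgroup.center ↥S := mem_center_iff_coe.mpr ht
  rcases hcase with hc | hc | hc | hc
  · apply hyP
    apply D.zle
    have h1 : α (α xs) ∈ Subgroup.center ↥S := by
      have h2 : α (α xs) = ⟨t, Zc_le ht⟩ := Subtype.ext hc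
      rw [h2]; exact hts
    have h3 := aut_center α⁻¹ h1
    rw [MulAut.inv_apply_self] at h3
    exact mem_center_iff_coe.mp h3
  · obtain ⟨m, hm, c, hcS, hcα⟩ := delta_inner' 2 hS F hF α hα
    have hodd : Odd m := Nat.not_even_iff_odd.mp (fun he => hm (even_iff_two_dvd.mp he))
    obtain ⟨i, hi⟩ := hodd
    have h2 : α (α xs) = xs * ⟨t, Zc_le ht⟩ :=
      Subtype.ext (by rw [hc, Subgroup.coe_mul, hxsv])
    have hind : ∀ j : ℕ, ∃ t' ∈ Subgroup.center ↥S, (α ^ (2 * j)) xs = xs * t' := by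
      intro j
      induction j with
      | zero => exact ⟨1, Subgroup.one_mem _, by simp⟩
      | succ j ih =>
        obtain ⟨t', ht', hj⟩ := ih
        refine ⟨t' * (α ^ (2 * j)) ⟨t, Zc_le ht⟩,
          Subgroup.mul_mem _ ht' (aut_center _ hts), ?_⟩
        have h3 : 2 * (j + 1) = 2 * j + 2 := by ring
        rw [h3, pow_add, MulAut.mul_apply, pow_two, MulAut.mul_apply, h2, map_mul, hj,
          mul_assoc]
    obtain ⟨t', ht', hj⟩ := hind i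
    have h4 : (α ^ m) xs = α xs * α t' := by
      rw [hi, pow_succ', MulAut.mul_apply, hj, map_mul]
    have h5 := hcα xs
    rw [h4, Subgroup.coe_mul, hxsv] at h5
    apply hyP
    have h6 : ((α xs : ↥S) : Ω) = (c * x * c⁻¹) * ((α t' : ↥S) : Ω)⁻¹ := by
      rw [← h5, mul_inv_cancel_right]
    rw [h6]
    exact P.mul_mem (D.norm c hcS x h.x_mem)
      (P.inv_mem (D.zle (mem_center_iff_coe.mp (aut_center α ht'))))
  · apply hyP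
    obtain ⟨t', ht'⟩ : ∃ t' : ↥S, t' = α⁻¹ ⟨t, Zc_le ht⟩ := ⟨_, rfl⟩
    have ht'c : t' ∈ Subgroup.center ↥S := by rw [ht']; exact aut_center _ hts
    have h2 : α (α xs) = α (xs * t') := by
      apply Subtype.ext
      rw [hc, map_mul, ht', MulAut.apply_inv_self]
      rfl
    have h3 : α xs = xs * t' := α.injective h2
    rw [h3, Subgroup.coe_mul, hxsv]
    exact P.mul_mem h.x_mem (D.zle (mem_center_iff_coe.mp ht'c))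
  · have h3 := h.no_third hz2 hzc (α xs).2 hy2 hne ht
    apply h3
    rw [← hc, ← pow_two]; exact hw2

theorem Ess2.delta_fix [Finite S] (hS : IsPGroup 2 S) (hF : F.IsSaturated 2)
    (hz2 : z ^ 2 = 1)
    (hzc : ∀ a ∈ S, ∀ b ∈ S, a * b * a⁻¹ * b⁻¹ ∈ Subgroup.zpowers z)
    (h : Ess2 F z P s u g x) {α : MulAut ↥S} (hα : α ∈ F.autGroup S) :
    ∀ (e : Ω) (he : e ∈ P), ((α ⟨e, h.data.le he⟩ : ↥S) : Ω) ∈ P := by
  intro e he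
  have D := h.data
  have hle2 : P ≤ Zc S ⊔ Subgroup.zpowers x :=
    le_sup_zpowers (p := 2) D.zle D.relZ h.x_mem h.x_not
  have hn2 := central_conj_zpow (le_refl (Zc S)) (D.le h.x_mem)
  obtain ⟨j, t, ht, hjt⟩ := exists_decomp hn2 hle2 e he
  have h1 : (⟨e, D.le he⟩ : ↥S) = (⟨x, D.le h.x_mem⟩ : ↥S) ^ j * ⟨t, Zc_le ht⟩ := by
    apply Subtype.ext
    rw [Subgroup.coe_mul, Subgroup.coe_zpow]
    exact hjt
  rw [h1, map_mul, map_zpow, Subgroup.coe_mul, Subgroup.coe_zpow]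
  exact P.mul_mem (P.zpow_mem (h.delta_fix_x hS hF hz2 hzc hα) j) (D.zle (aut_Zc α ht))

theorem Ess2.C_gamma [Finite S] (h : Ess2 F z P s u g x) {t : Ω} (ht : t ∈ Zc S)
    (hfix : (g * u * g⁻¹) ⟨t, h.data.zle ht⟩ = ⟨t, h.data.zle ht⟩)
    {γ : MulAut ↥P} (hγ : γ ∈ F.autGroup P) :
    ∃ α ∈ F.autGroup S,
      ((γ ⟨t, h.data.zle ht⟩ : ↥P) : Ω) = ((α ⟨t, Zc_le ht⟩ : ↥S) : Ω) :=
  h.move hγ (h.data.u_fix t ht) hfix

theorem Ess2.C_gamma_Zc [Finite S] (h : Ess2 F z P s u g x) {t : Ω} (ht : t ∈ Zc S)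
    (hfix : (g * u * g⁻¹) ⟨t, h.data.zle ht⟩ = ⟨t, h.data.zle ht⟩)
    {γ : MulAut ↥P} (hγ : γ ∈ F.autGroup P) :
    ((γ ⟨t, h.data.zle ht⟩ : ↥P) : Ω) ∈ Zc S := by
  obtain ⟨α, -, h1⟩ := h.C_gamma ht hfix hγ
  rw [h1]; exact aut_Zc α ht

/-- the elements of the centre fixed by the second transvection -/
def Ess2.Cfix (h : Ess2 F z P s u g x) : Subgroup Ω where
  carrier := {t | ∃ ht : t ∈ Zc S, (g * u * g⁻¹) ⟨t, h.data.zle ht⟩ = ⟨t, h.data.zle ht⟩}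
  one_mem' := ⟨(Zc S).one_mem, by
    have h1 : (⟨1, h.data.zle (Zc S).one_mem⟩ : ↥P) = 1 := rfl
    rw [h1, map_one]⟩
  mul_mem' := by
    rintro a b ⟨ha, ha'⟩ ⟨hb, hb'⟩
    refine ⟨(Zc S).mul_mem ha hb, ?_⟩
    have h1 : (⟨a * b, h.data.zle ((Zc S).mul_mem ha hb)⟩ : ↥P) =
        ⟨a, h.data.zle ha⟩ * ⟨b, h.data.zle hb⟩ := rfl
    rw [h1, map_mul, ha', hb']
  inv_mem' := by
    rintro a ⟨ha, ha'⟩
    refine ⟨(Zc S).inv_mem ha, ?_⟩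
    have h1 : (⟨a⁻¹, h.data.zle ((Zc S).inv_mem ha)⟩ : ↥P) =
        (⟨a, h.data.zle ha⟩ : ↥P)⁻¹ := rfl
    rw [h1, map_inv, ha']

theorem Ess2.mem_Cfix (h : Ess2 F z P s u g x) {t : Ω} :
    t ∈ h.Cfix ↔
      ∃ ht : t ∈ Zc S, (g * u * g⁻¹) ⟨t, h.data.zle ht⟩ = ⟨t, h.data.zle ht⟩ := Iff.rfl

theorem Ess2.C_or [Finite S] (h : Ess2 F z P s u g x) {t : Ω} (ht : t ∈ Zc S) :
    t ∈ h.Cfix ∨ t * z ∈ h.Cfix := by
  haveI : Finite ↥P := finite_of_le h.data.le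
  haveI : IsMulCommutative ↥P := ⟨⟨fun a b => Subtype.ext (h.data.comm a a.2 b b.2)⟩⟩
  rcases h.tv'.act2 ⟨t, h.data.zle ht⟩ with h1 | h1
  · exact Or.inl (h.mem_Cfix.mpr ⟨ht, h1⟩)
  · right
    refine h.mem_Cfix.mpr ⟨(Zc S).mul_mem ht h.data.z_mem, ?_⟩
    have h2 : (g * u * g⁻¹) ⟨z, h.data.zle h.data.z_mem⟩ =
        ⟨z, h.data.zle h.data.z_mem⟩ * ⟨x, h.x_mem⟩ :=
      h.tv'.swap2 h.data.sylow h.data.tv (h.data.tv.not_mem_symm h.tv' h.g_not)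
    have h3 : (⟨t * z, h.data.zle ((Zc S).mul_mem ht h.data.z_mem)⟩ : ↥P) =
        ⟨t, h.data.zle ht⟩ * ⟨z, h.data.zle h.data.z_mem⟩ := rfl
    rw [h3, map_mul, h1, h2]
    apply Subtype.ext
    show t * x * (z * x) = t * z
    have hzx : z * x = x * z := ((mem_Zc.mp h.data.z_mem).2 x (h.data.le h.x_mem)).symm
    have hxx : x * x = 1 := by rw [← pow_two]; exact h.x_sq
    rw [hzx, ← mul_assoc, mul_assoc t x x, hxx, mul_one]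

theorem Ess2.C_delta [Finite S] (hS : IsPGroup 2 S) (hF : F.IsSaturated 2)
    (hz2 : z ^ 2 = 1)
    (hzc : ∀ a ∈ S, ∀ b ∈ S, a * b * a⁻¹ * b⁻¹ ∈ Subgroup.zpowers z)
    (h : Ess2 F z P s u g x) {α : MulAut ↥S} (hα : α ∈ F.autGroup S) {t : Ω}
    (htZ : t ∈ Zc S) (ht : t ∈ h.Cfix) :
    ((α ⟨t, Zc_le htZ⟩ : ↥S) : Ω) ∈ h.Cfix := by
  obtain ⟨_, hfix⟩ := h.mem_Cfix.mp ht
  refine h.mem_Cfix.mpr ⟨aut_Zc α htZ, ?_⟩
  obtain ⟨β, hβ, hβα⟩ := restrict_aut F h.data.le hα (h.delta_fix hS hF hz2 hzc hα)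
  have h1 : (⟨((α ⟨t, Zc_le htZ⟩ : ↥S) : Ω), h.data.zle (aut_Zc α htZ)⟩ : ↥P) =
      β ⟨t, h.data.zle htZ⟩ := Subtype.ext (hβα ⟨t, h.data.zle htZ⟩).symm
  rw [h1, conj_fix_iff]
  have h2 := h.C_gamma_Zc htZ hfix (Subgroup.mul_mem _ (Subgroup.inv_mem _ h.g_mem) hβ)
  exact h.data.u_fix _ h2

/-- the candidate normal subgroup -/
def Qs (F : FusionSystem S) (hZle : ∀ P : Subgroup Ω, F.IsEssential 2 P → Zc S ≤ P) :
    Subgroup Ω where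
  carrier := {t | t ∈ Zc S ∧ ∀ (ht : t ∈ Zc S) (P : Subgroup Ω) (hP : F.IsEssential 2 P),
    ∀ γ ∈ F.autGroup P, ((γ ⟨t, hZle P hP ht⟩ : ↥P) : Ω) ∈ Zc S}
  one_mem' := ⟨(Zc S).one_mem, fun ht P hP γ _ => by
    have h1 : (⟨1, hZle P hP ht⟩ : ↥P) = 1 := rfl
    rw [h1, map_one]; exact (Zc S).one_mem⟩
  mul_mem' := by
    rintro a b ⟨ha, ha'⟩ ⟨hb, hb'⟩
    refine ⟨(Zc S).mul_mem ha hb, fun ht P hP γ hγ => ?_⟩
    have h1 : (⟨a * b, hZle P hP ht⟩ : ↥P) =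
        ⟨a, hZle P hP ha⟩ * ⟨b, hZle P hP hb⟩ := rfl
    rw [h1, map_mul]
    exact (Zc S).mul_mem (ha' ha P hP γ hγ) (hb' hb P hP γ hγ)
  inv_mem' := by
    rintro a ⟨ha, ha'⟩
    refine ⟨(Zc S).inv_mem ha, fun ht P hP γ hγ => ?_⟩
    have h1 : (⟨a⁻¹, hZle P hP ht⟩ : ↥P) = (⟨a, hZle P hP ha⟩ : ↥P)⁻¹ := rfl
    rw [h1, map_inv]
    exact (Zc S).inv_mem (ha' ha P hP γ hγ)

theorem mem_Qs {F : FusionSystem S}
    {hZle : ∀ P : Subgroup Ω, F.IsEssential 2 P → Zc S ≤ P} {t : Ω} :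
    t ∈ Qs F hZle ↔ t ∈ Zc S ∧ ∀ (ht : t ∈ Zc S) (P : Subgroup Ω) (hP : F.IsEssential 2 P),
      ∀ γ ∈ F.autGroup P, ((γ ⟨t, hZle P hP ht⟩ : ↥P) : Ω) ∈ Zc S := Iff.rfl

theorem Qs_eq_bot [Finite S] (hS : IsPGroup 2 S) (F : FusionSystem S) (hF : F.IsSaturated 2)
    (hcore : F.core = ⊥) (hidx : (Zc S).relIndex S = 2 ^ 2) {z : Ω} (hzZ : z ∈ Zc S)
    (hz1 : z ≠ 1) (hz2 : z ^ 2 = 1)
    (hzc : ∀ a ∈ S, ∀ b ∈ S, a * b * a⁻¹ * b⁻¹ ∈ Subgroup.zpowers z)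
    (hZle : ∀ P : Subgroup Ω, F.IsEssential 2 P → Zc S ≤ P) : Qs F hZle = ⊥ := by
  have hΔ : ∀ α ∈ F.autGroup S, ∀ (t : Ω) (htZ : t ∈ Zc S), t ∈ Qs F hZle →
      ((α ⟨t, Zc_le htZ⟩ : ↥S) : Ω) ∈ Qs F hZle := by
    intro α hα t htZ ht
    obtain ⟨-, ht'⟩ := mem_Qs.mp ht
    refine mem_Qs.mpr ⟨aut_Zc α htZ, fun hh P hP γ hγ => ?_⟩
    obtain ⟨s, u, g, x, h⟩ := exists_ess2 hS F hF hidx hzZ hz1 hz2 hzc hP
    obtain ⟨β, hβ, hβα⟩ := restrict_aut F h.data.le hα (h.delta_fix hS hF hz2 hzc hα)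
    have h1 : (⟨((α ⟨t, Zc_le htZ⟩ : ↥S) : Ω), hZle P hP hh⟩ : ↥P) =
        β ⟨t, hZle P hP htZ⟩ := Subtype.ext (hβα ⟨t, hZle P hP htZ⟩).symm
    rw [h1]
    exact ht' htZ P hP (γ * β) (Subgroup.mul_mem _ hγ hβ)
  have hnormal : F.IsNormal (Qs F hZle) := by
    rw [normal_iff_essential_invariant 2 hS F hF]
    intro P hP
    rcases hP with hPS | hP
    · obtain rfl := hPS.symm
      refine ⟨fun t ht => Zc_le (mem_Qs.mp ht).1, fun α hα => ?_⟩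
      apply map_eq_of_forall_map_le (A := F.autGroup S) _ hα
      intro β hβ
      rintro _ ⟨y, hy, rfl⟩
      have hy' : (y : Ω) ∈ Qs F hZle := hy
      show ((β y : ↥S) : Ω) ∈ Qs F hZle
      exact hΔ β hβ y (mem_Qs.mp hy').1 hy'
    · obtain ⟨s, u, g, x, h⟩ := exists_ess2 hS F hF hidx hzZ hz1 hz2 hzc hP
      refine ⟨fun t ht => hZle P hP (mem_Qs.mp ht).1, fun α hα => ?_⟩
      apply map_eq_of_forall_map_le (A := F.autGroup P) _ hα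
      intro γ hγ
      rintro _ ⟨y, hy, rfl⟩
      have hy' : (y : Ω) ∈ Qs F hZle := hy
      show ((γ y : ↥P) : Ω) ∈ Qs F hZle
      obtain ⟨hyZ, hyQ⟩ := mem_Qs.mp hy'
      have hfix : (g * u * g⁻¹) ⟨(y : Ω), h.data.zle hyZ⟩ = ⟨(y : Ω), h.data.zle hyZ⟩ := by
        rw [conj_fix_iff]
        exact h.data.u_fix _ (hyQ hyZ P hP g⁻¹ (Subgroup.inv_mem _ h.g_mem))
      obtain ⟨α', hα', hmove⟩ := h.C_gamma hyZ hfix hγ
      have h2 : ((γ y : ↥P) : Ω) = ((α' ⟨(y : Ω), Zc_le hyZ⟩ : ↥S) : Ω) := hmove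
      rw [h2]
      exact hΔ α' hα' _ hyZ hy'
  have h1 : Qs F hZle ≤ F.core := le_sSup (show Qs F hZle ∈ {Q | F.IsNormal Q} from hnormal)
  rw [hcore] at h1
  exact le_bot_iff.mp h1

theorem Ess2.delta_x [Finite S] (hS : IsPGroup 2 S) (hF : F.IsSaturated 2)
    (hz1 : z ≠ 1) (hz2 : z ^ 2 = 1)
    (hzc : ∀ a ∈ S, ∀ b ∈ S, a * b * a⁻¹ * b⁻¹ ∈ Subgroup.zpowers z)
    (hzcomm : ∃ a ∈ S, ∃ b ∈ S, z = a * b * a⁻¹ * b⁻¹)
    (h : Ess2 F z P s u g x) {α : MulAut ↥S} (hα : α ∈ F.autGroup S) :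
    ((α ⟨x, h.data.le h.x_mem⟩ : ↥S) : Ω) = x ∨
      ((α ⟨x, h.data.le h.x_mem⟩ : ↥S) : Ω) = x * z := by
  haveI : Finite ↥P := finite_of_le h.data.le
  haveI : IsMulCommutative ↥P := ⟨⟨fun a b => Subtype.ext (h.data.comm a a.2 b b.2)⟩⟩
  obtain ⟨β, hβ, hβα⟩ := restrict_aut F h.data.le hα (h.delta_fix hS hF hz2 hzc hα)
  have h1 : ((β ⟨x, h.x_mem⟩ : ↥P) : Ω) = ((α ⟨x, h.data.le h.x_mem⟩ : ↥S) : Ω) :=
    hβα ⟨x, h.x_mem⟩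
  have h2 : β ⟨x, h.x_mem⟩ = (β * g) ⟨z, h.data.zle h.data.z_mem⟩ := by
    rw [MulAut.mul_apply, h.gz]
  rcases tv2_center h.data.sylow h.data.tv h.tv' h.g_not (Subgroup.mul_mem _ hβ h.g_mem)
    with h3 | h3 | h3
  · exfalso
    apply h.x_not
    have hαz := aut_fix_z (Zc_le h.data.z_mem) hz1 hz2 hzc hzcomm α
    have h4 : α ⟨x, h.data.le h.x_mem⟩ = α ⟨z, Zc_le h.data.z_mem⟩ := by
      apply Subtype.ext
      rw [hαz, ← h1, h2, h3]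
    have h5 := congrArg Subtype.val (α.injective h4)
    have h6 : x = z := h5
    rw [h6]; exact h.data.z_mem
  · left
    rw [← h1, h2, h3]
  · right
    rw [← h1, h2, h3]
    show z * x = x * z
    exact ((mem_Zc.mp h.data.z_mem).2 x (h.data.le h.x_mem)).symm

/-- the elements `s` of `S` with `s⁻¹ α(s) ∈ N`, for a central subgroup `N` -/
def focSet (N : Subgroup Ω) (hN : ∀ n ∈ N, ∀ a ∈ S, a * n = n * a) (α : MulAut ↥S) :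
    Subgroup Ω where
  carrier := {a | ∃ ha : a ∈ S, a⁻¹ * ((α ⟨a, ha⟩ : ↥S) : Ω) ∈ N}
  one_mem' := ⟨S.one_mem, by
    have h1 : (⟨1, S.one_mem⟩ : ↥S) = 1 := rfl
    rw [h1, map_one, inv_one, one_mul]
    exact N.one_mem⟩
  mul_mem' := by
    rintro a b ⟨ha, ha'⟩ ⟨hb, hb'⟩
    refine ⟨S.mul_mem ha hb, ?_⟩
    have h1 : (⟨a * b, S.mul_mem ha hb⟩ : ↥S) = ⟨a, ha⟩ * ⟨b, hb⟩ := rfl
    rw [h1, map_mul, Subgroup.coe_mul]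
    have h2 := hN _ ha' b⁻¹ (S.inv_mem hb)
    have h3 : (a * b)⁻¹ * (((α ⟨a, ha⟩ : ↥S) : Ω) * ((α ⟨b, hb⟩ : ↥S) : Ω)) =
        (b⁻¹ * (a⁻¹ * ((α ⟨a, ha⟩ : ↥S) : Ω))) * ((α ⟨b, hb⟩ : ↥S) : Ω) := by group
    rw [h3, h2, mul_assoc]
    exact N.mul_mem ha' hb'
  inv_mem' := by
    rintro a ⟨ha, ha'⟩
    refine ⟨S.inv_mem ha, ?_⟩
    have h1 : (⟨a⁻¹, S.inv_mem ha⟩ : ↥S) = (⟨a, ha⟩ : ↥S)⁻¹ := rfl
    rw [h1, map_inv, Subgroup.coe_inv, inv_inv]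
    have h2 := hN _ (N.inv_mem ha') a ha
    have h3 : a * (((α ⟨a, ha⟩ : ↥S) : Ω))⁻¹ =
        a * (a⁻¹ * ((α ⟨a, ha⟩ : ↥S) : Ω))⁻¹ * a⁻¹ := by group
    rw [h3, h2, mul_inv_cancel_right]
    exact N.inv_mem ha'

theorem mem_focSet {N : Subgroup Ω} {hN : ∀ n ∈ N, ∀ a ∈ S, a * n = n * a} {α : MulAut ↥S}
    {a : Ω} : a ∈ focSet N hN α ↔ ∃ ha : a ∈ S, a⁻¹ * ((α ⟨a, ha⟩ : ↥S) : Ω) ∈ N := Iff.rfl

theorem Ess2.foc [Finite S] (h : Ess2 F z P s u g x) {T : Subgroup Ω} (hzT : z ∈ T)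
    (hxT : x ∈ T)
    (hΔ : ∀ α ∈ F.autGroup S, ∀ a : ↥S, (a : Ω)⁻¹ * ((α a : ↥S) : Ω) ∈ T)
    {γ : MulAut ↥P} (hγ : γ ∈ F.autGroup P) (e : ↥P) :
    (e : Ω)⁻¹ * ((γ e : ↥P) : Ω) ∈ T := by
  haveI : Finite ↥P := finite_of_le h.data.le
  haveI : IsMulCommutative ↥P := ⟨⟨fun a b => Subtype.ext (h.data.comm a a.2 b b.2)⟩⟩
  obtain ⟨k, hk, hkn⟩ := tv2_frattini' h.data.sylow h.data.tv h.tv' h.g_not hγ
  obtain ⟨n, hn⟩ : ∃ n : MulAut ↥P, n = k⁻¹ * γ := ⟨_, rfl⟩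
  rw [← hn] at hkn
  have hkG : k ∈ F.autGroup P := by
    rcases hk with rfl | rfl | rfl
    · exact Subgroup.one_mem _
    · exact Subgroup.mul_mem _ h.data.tv.mem h.tv'.mem
    · exact h.tv'.mem
  have hnG : n ∈ F.autGroup P := by
    rw [hn]; exact Subgroup.mul_mem _ (Subgroup.inv_mem _ hkG) hγ
  have hγ' : γ = k * n := by rw [hn, mul_inv_cancel_left]
  obtain ⟨α, hα, hαn⟩ := h.data.ext n hnG (by rw [hkn]; exact Subgroup.mem_zpowers u)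
  have h1 : (e : Ω)⁻¹ * ((n e : ↥P) : Ω) ∈ T := by
    rw [← hαn e]; exact hΔ α hα ⟨e, h.data.le e.2⟩
  have hu : ∀ e' : ↥P, (e' : Ω)⁻¹ * ((u e' : ↥P) : Ω) ∈ T := by
    intro e'
    rcases h.data.tv.act2 e' with h2 | h2
    · rw [h2, inv_mul_cancel]; exact T.one_mem
    · rw [h2, Subgroup.coe_mul, inv_mul_cancel_left]; exact hzT
  have hu' : ∀ e' : ↥P, (e' : Ω)⁻¹ * (((g * u * g⁻¹) e' : ↥P) : Ω) ∈ T := by
    intro e'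
    rcases h.tv'.act2 e' with h2 | h2
    · rw [h2, inv_mul_cancel]; exact T.one_mem
    · rw [h2, Subgroup.coe_mul, inv_mul_cancel_left]; exact hxT
  have hk' : ∀ e' : ↥P, (e' : Ω)⁻¹ * ((k e' : ↥P) : Ω) ∈ T := by
    intro e'
    rcases hk with rfl | rfl | rfl
    · rw [MulAut.one_apply, inv_mul_cancel]; exact T.one_mem
    · rw [MulAut.mul_apply]
      have h3 : (e' : Ω)⁻¹ * ((u ((g * u * g⁻¹) e') : ↥P) : Ω) =
          ((e' : Ω)⁻¹ * (((g * u * g⁻¹) e' : ↥P) : Ω)) *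
          ((((g * u * g⁻¹) e' : ↥P) : Ω)⁻¹ * ((u ((g * u * g⁻¹) e') : ↥P) : Ω)) := by group
      rw [h3]; exact T.mul_mem (hu' e') (hu _)
    · exact hu' e'
  have h4 : (e : Ω)⁻¹ * ((γ e : ↥P) : Ω) =
      ((e : Ω)⁻¹ * ((n e : ↥P) : Ω)) * (((n e : ↥P) : Ω)⁻¹ * ((k (n e) : ↥P) : Ω)) := by
    rw [hγ', MulAut.mul_apply]; group
  rw [h4]; exact T.mul_mem h1 (hk' (n e))

end Cfsg.Agent.Lib.Helper2.Ex
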