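import Cfsg.Agent.Lib.Helper2.Ex6b

set_option autoImplicit false

/-! The case `p = 2`: the centre of `S` has order `2`. -/

namespace Cfsg.Agent.Lib.Helper2.Ex

open Cfsg Cfsg.FusionSystem Cfsg.Agent.Lib.Helper9
open scoped commutatorElement

variable {Ω : Type*} [Group Ω] {S : Subgroup Ω}

theorem Zc_le_zpowers_of_two [Finite S] (hS : IsPGroup 2 S) (F : FusionSystem S)
    (hF : F.IsSaturated 2) (hcore : F.core = ⊥) (hhyp : F.hyperfocalSubgroup 2 = S)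
    (hidx : (Zc S).relIndex S = 2 ^ 2) {z : Ω} (hzZ : z ∈ Zc S) (hz1 : z ≠ 1)
    (hz2 : z ^ 2 = 1)
    (hzc : ∀ a ∈ S, ∀ b ∈ S, a * b * a⁻¹ * b⁻¹ ∈ Subgroup.zpowers z)
    (hzcomm : ∃ a ∈ S, ∃ b ∈ S, z = a * b * a⁻¹ * b⁻¹)
    {E₁ : Subgroup Ω} (hE₁ : F.IsEssential 2 E₁) : Zc S ≤ Subgroup.zpowers z := by
  classical
  have hZle : ∀ P : Subgroup Ω, F.IsEssential 2 P → Zc S ≤ P :=
    fun P hP => (ess_basic 2 hS F hF hidx hP).2.1
  have hQ := Qs_eq_bot hS F hF hcore hidx hzZ hz1 hz2 hzc hZle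
  obtain ⟨s₁, u₁, g₁, x₁, h₁⟩ := exists_ess2 hS F hF hidx hzZ hz1 hz2 hzc hE₁
  have hQmem : ∀ (t : Ω) (_ : t ∈ Zc S),
      (∀ (P : Subgroup Ω) (_ : F.IsEssential 2 P), ∃ (s : Ω) (u g : MulAut ↥P) (x : Ω)
        (h : Ess2 F z P s u g x), t ∈ h.Cfix) → t = 1 := by
    intro t ht hall
    have h1 : t ∈ Qs F hZle := by
      refine mem_Qs.mpr ⟨ht, fun hh P hP γ hγ => ?_⟩
      obtain ⟨s, u, g, x, h, hC⟩ := hall P hP
      obtain ⟨hh', hfix⟩ := h.mem_Cfix.mp hC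
      exact h.C_gamma_Zc hh' hfix hγ
    rw [hQ, Subgroup.mem_bot] at h1
    exact h1
  by_cases hB : ∃ E₂ : Subgroup Ω, F.IsEssential 2 E₂ ∧ E₂ ≠ E₁
  swap
  · push Not at hB
    intro t ht
    rcases h₁.C_or ht with h1 | h1
    · have h2 : t = 1 := hQmem t ht (fun P hP => by
        obtain rfl := hB P hP
        exact ⟨s₁, u₁, g₁, x₁, h₁, h1⟩)
      rw [h2]; exact Subgroup.one_mem _
    · have h2 : t * z = 1 := hQmem (t * z) ((Zc S).mul_mem ht hzZ) (fun P hP => by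
        obtain rfl := hB P hP
        exact ⟨s₁, u₁, g₁, x₁, h₁, h1⟩)
      have h3 : t = z⁻¹ := eq_inv_of_mul_eq_one_left h2
      rw [h3]; exact Subgroup.inv_mem _ (Subgroup.mem_zpowers z)
  · obtain ⟨E₂, hE₂, hE₂ne⟩ := hB
    obtain ⟨s₂, u₂, g₂, x₂, h₂⟩ := exists_ess2 hS F hF hidx hzZ hz1 hz2 hzc hE₂
    have hx₂E₁ : x₂ ∉ E₁ := fun hmem => hE₂ne (h₁.eq_of_x_mem h₂ hmem)
    have hx₁S : x₁ ∈ S := h₁.data.le h₁.x_mem
    have hx₂S : x₂ ∈ S := h₂.data.le h₂.x_mem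
    have hne12 : x₁ * x₂ ≠ x₂ * x₁ :=
      not_comm_of_not_mem h₁.data.le h₁.data.comm h₁.data.relE h₁.x_mem h₁.x_not hx₂S hx₂E₁
    have honly : ∀ P : Subgroup Ω, F.IsEssential 2 P → P = E₁ ∨ P = E₂ := by
      intro P hP
      obtain ⟨s, u, g, x, h⟩ := exists_ess2 hS F hF hidx hzZ hz1 hz2 hzc hP
      by_contra hcon
      push Not at hcon
      have hx1 : x ∉ E₁ := fun hmem => hcon.1 (h₁.eq_of_x_mem h hmem)
      have hx2 : x ∉ E₂ := fun hmem => hcon.2 (h₂.eq_of_x_mem h hmem)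
      obtain ⟨t, ht, hc⟩ := four_cosets h₁.data.le h₁.data.zle h₁.data.relE h₁.data.relZ
        h₁.data.norm h₁.x_mem h₁.x_not h₁.x_sq hx₂S hx₂E₁ h₂.x_sq x (h.data.le h.x_mem)
      rcases hc with hc | hc | hc | hc
      · exact h.x_not (by rw [hc]; exact ht)
      · exact hx1 (by rw [hc]; exact E₁.mul_mem h₁.x_mem (h₁.data.zle ht))
      · exact hx2 (by rw [hc]; exact E₂.mul_mem h₂.x_mem (h₂.data.zle ht))
      · have h3 := h₁.no_third hz2 hzc hx₂S h₂.x_sq hne12 ht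
        apply h3
        rw [← hc, ← pow_two]; exact h.x_sq
    have hA : ∀ α ∈ F.autGroup S, ∀ (t : Ω) (ht : t ∈ Zc S),
        ((α ⟨t, Zc_le ht⟩ : ↥S) : Ω) = t := by
      intro α hα t ht
      have hαz : α ⟨z, Zc_le hzZ⟩ = ⟨z, Zc_le hzZ⟩ :=
        aut_fix_z (Zc_le hzZ) hz1 hz2 hzc hzcomm α
      have hrZ : t⁻¹ * ((α ⟨t, Zc_le ht⟩ : ↥S) : Ω) ∈ Zc S :=
        (Zc S).mul_mem ((Zc S).inv_mem ht) (aut_Zc α ht)
      have key : ∀ {P : Subgroup Ω} {s : Ω} {u g : MulAut ↥P} {x : Ω}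
          (h : Ess2 F z P s u g x), t⁻¹ * ((α ⟨t, Zc_le ht⟩ : ↥S) : Ω) ∈ h.Cfix := by
        intro P s u g x h
        rcases h.C_or ht with h1 | h1
        · exact Subgroup.mul_mem _ (Subgroup.inv_mem _ h1)
            (h.C_delta hS hF hz2 hzc hα ht h1)
        · have htz : t * z ∈ Zc S := (Zc S).mul_mem ht hzZ
          have h2 := h.C_delta hS hF hz2 hzc hα htz h1
          have h4 : ((α ⟨t * z, Zc_le htz⟩ : ↥S) : Ω) =
              ((α ⟨t, Zc_le ht⟩ : ↥S) : Ω) * z := by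
            have h5 : (⟨t * z, Zc_le htz⟩ : ↥S) = ⟨t, Zc_le ht⟩ * ⟨z, Zc_le hzZ⟩ := rfl
            rw [h5, map_mul, hαz]; rfl
          have h6 : t⁻¹ * ((α ⟨t, Zc_le ht⟩ : ↥S) : Ω) =
              (t * z)⁻¹ * (((α ⟨t, Zc_le ht⟩ : ↥S) : Ω) * z) := by
            have hc := (mem_Zc.mp hzZ).2 _ (Zc_le hrZ)
            calc t⁻¹ * ((α ⟨t, Zc_le ht⟩ : ↥S) : Ω)
                = z⁻¹ * (z * (t⁻¹ * ((α ⟨t, Zc_le ht⟩ : ↥S) : Ω))) := by
                  rw [inv_mul_cancel_left]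
              _ = z⁻¹ * ((t⁻¹ * ((α ⟨t, Zc_le ht⟩ : ↥S) : Ω)) * z) := by rw [← hc]
              _ = (t * z)⁻¹ * (((α ⟨t, Zc_le ht⟩ : ↥S) : Ω) * z) := by group
          rw [h6, ← h4]
          exact Subgroup.mul_mem _ (Subgroup.inv_mem _ h1) h2
      have hrQ : t⁻¹ * ((α ⟨t, Zc_le ht⟩ : ↥S) : Ω) ∈ Qs F hZle := by
        refine mem_Qs.mpr ⟨hrZ, fun hh P hP γ hγ => ?_⟩
        obtain ⟨s, u, g, x, h⟩ := exists_ess2 hS F hF hidx hzZ hz1 hz2 hzc hP
        obtain ⟨hh', hfix⟩ := h.mem_Cfix.mp (key h)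
        exact h.C_gamma_Zc hh' hfix hγ
      rw [hQ, Subgroup.mem_bot] at hrQ
      exact (inv_mul_eq_one.mp hrQ).symm
    have hN : ∀ n ∈ Subgroup.zpowers z, ∀ a ∈ S, a * n = n * a := by
      intro n hn a ha
      exact (mem_Zc.mp ((Subgroup.zpowers_le.mpr hzZ) hn)).2 a ha
    have hΔz : ∀ α ∈ F.autGroup S, ∀ a : ↥S,
        (a : Ω)⁻¹ * ((α a : ↥S) : Ω) ∈ Subgroup.zpowers z := by
      intro α hα
      have hZK : Zc S ≤ focSet (Subgroup.zpowers z) hN α := by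
        intro t ht
        refine mem_focSet.mpr ⟨Zc_le ht, ?_⟩
        rw [hA α hα t ht, inv_mul_cancel]; exact Subgroup.one_mem _
      have hxK : ∀ {P : Subgroup Ω} {s : Ω} {u g : MulAut ↥P} {x : Ω}
          (h : Ess2 F z P s u g x), x ∈ focSet (Subgroup.zpowers z) hN α := by
        intro P s u g x h
        refine mem_focSet.mpr ⟨h.data.le h.x_mem, ?_⟩
        rcases h.delta_x hS hF hz1 hz2 hzc hzcomm hα with h1 | h1
        · rw [h1, inv_mul_cancel]; exact Subgroup.one_mem _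
        · rw [h1, inv_mul_cancel_left]; exact Subgroup.mem_zpowers z
      have hle1 : S ≤ E₁ ⊔ Subgroup.zpowers x₂ :=
        le_sup_zpowers (p := 2) h₁.data.le h₁.data.relE hx₂S hx₂E₁
      have hle2 : E₁ ≤ Zc S ⊔ Subgroup.zpowers x₁ :=
        le_sup_zpowers (p := 2) h₁.data.zle h₁.data.relZ h₁.x_mem h₁.x_not
      have hK : S ≤ focSet (Subgroup.zpowers z) hN α := by
        refine le_trans hle1 (sup_le (le_trans hle2 (sup_le hZK ?_)) ?_)
        · exact Subgroup.zpowers_le.mpr (hxK h₁)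
        · exact Subgroup.zpowers_le.mpr (hxK h₂)
      intro a
      obtain ⟨ha', hmem⟩ := mem_focSet.mp (hK a.2)
      exact hmem
    obtain ⟨T, hTdef⟩ : ∃ T : Subgroup Ω,
        T = (Subgroup.zpowers z ⊔ Subgroup.zpowers x₁) ⊔ Subgroup.zpowers x₂ := ⟨_, rfl⟩
    have hzT : Subgroup.zpowers z ≤ T := by
      rw [hTdef]; exact le_trans le_sup_left le_sup_left
    have hx₁T : x₁ ∈ T := by
      rw [hTdef]
      exact Subgroup.mem_sup_left (Subgroup.mem_sup_right (Subgroup.mem_zpowers x₁))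
    have hx₂T : x₂ ∈ T := by
      rw [hTdef]; exact Subgroup.mem_sup_right (Subgroup.mem_zpowers x₂)
    have hT : ⁅S, S⁆ ≤ T := by
      rw [Subgroup.commutator_le]
      intro a ha b hb
      apply hzT
      rw [commutatorElement_def]
      exact hzc a ha b hb
    have hΔT : ∀ α ∈ F.autGroup S, ∀ a : ↥S, (a : Ω)⁻¹ * ((α a : ↥S) : Ω) ∈ T :=
      fun α hα a => hzT (hΔz α hα a)
    have hle : F ≤ focalSubsystem F T hT := by
      apply alperin 2 hS F hF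
      intro P hP α hα
      have hPS : P ≤ S := hP.elim (fun h => h.le) (fun h => h.1.1)
      rw [mem_autGroup_iff _ hPS]
      refine ⟨hom_of_mem_autGroup F hPS hα, fun e => ?_⟩
      show (e : Ω)⁻¹ * ((α e : ↥P) : Ω) ∈ T
      rcases hP with hPS' | hP
      · obtain rfl := hPS'.symm
        exact hΔT α hα e
      · rcases honly P hP with hP1 | hP2
        · subst hP1
          exact h₁.foc (hzT (Subgroup.mem_zpowers z)) hx₁T hΔT hα e
        · subst hP2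
          exact h₂.foc (hzT (Subgroup.mem_zpowers z)) hx₂T hΔT hα e
    have hST : S ≤ T := by
      have h1 : F.hyperfocalSubgroup 2 ≤ T := by
        unfold hyperfocalSubgroup
        rw [Subgroup.closure_le]
        rintro y ⟨P, α, e, hPS, -, rfl⟩
        exact (hle P (hom_of_mem_autGroup F hPS α.2)).2 e
      exact le_trans (le_of_eq hhyp.symm) h1
    intro t ht
    have htT : t ∈ T := hST (Zc_le ht)
    rw [hTdef] at htT
    have hzS : Subgroup.zpowers z ≤ Zc S := Subgroup.zpowers_le.mpr hzZ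
    have hWS : Subgroup.zpowers z ⊔ Subgroup.zpowers x₁ ≤ S :=
      sup_le (le_trans hzS Zc_le) (Subgroup.zpowers_le.mpr hx₁S)
    have hWnorm : ∀ a ∈ S, ∀ e ∈ Subgroup.zpowers z ⊔ Subgroup.zpowers x₁,
        a * e * a⁻¹ ∈ Subgroup.zpowers z ⊔ Subgroup.zpowers x₁ := by
      intro a ha e he
      have h1 : a * e * a⁻¹ = (a * e * a⁻¹ * e⁻¹) * e := by group
      rw [h1]
      exact Subgroup.mul_mem _ (Subgroup.mem_sup_left (hzc a ha e (hWS he))) he
    have hn1 := conj_zpow_mem hWnorm hx₂S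
    have hn2 := central_conj_zpow hzS hx₁S
    obtain ⟨k, e, he, hte⟩ := exists_decomp hn1 (le_refl _) t htT
    obtain ⟨j, c, hc, hec⟩ := exists_decomp hn2 (le_refl _) e he
    have hcZ : c ∈ Zc S := hzS hc
    rcases mem_zpowers_two h₂.x_sq (Subgroup.zpow_mem_zpowers x₂ k) with h1 | h1 <;>
    rcases mem_zpowers_two h₁.x_sq (Subgroup.zpow_mem_zpowers x₁ j) with h2 | h2
    · have h3 : t = c := by rw [hte, hec, h1, h2, one_mul, one_mul]
      rw [h3]; exact hc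
    · exfalso
      have h3 : x₁ = t * c⁻¹ := by rw [hte, hec, h1, h2, one_mul, mul_inv_cancel_right]
      exact h₁.x_not (by rw [h3]; exact (Zc S).mul_mem ht ((Zc S).inv_mem hcZ))
    · exfalso
      have h3 : x₂ = t * c⁻¹ := by rw [hte, hec, h1, h2, one_mul, mul_inv_cancel_right]
      exact h₂.x_not (by rw [h3]; exact (Zc S).mul_mem ht ((Zc S).inv_mem hcZ))
    · exfalso
      have h3 : x₂ * x₁ = t * c⁻¹ := by rw [hte, hec, h1, h2]; group
      have h4 : x₂ * x₁ ∈ Zc S := by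
        rw [h3]; exact (Zc S).mul_mem ht ((Zc S).inv_mem hcZ)
      have h5 := (mem_Zc.mp h4).2 x₁ hx₁S
      apply hne12
      apply mul_right_cancel (b := x₁)
      rw [mul_assoc]
      exact h5

end Cfsg.Agent.Lib.Helper2.Ex
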