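import Cfsg.Agent.Lib.Helper2.Ex6c
import Cfsg.Agent.Lib.Lead.Fus13
import Cfsg.Agent.Lib.Helper1.DihedralRecognition

set_option autoImplicit false

/-! `|S : Z(S)| ≤ p²`, `O_p(F) = 1`, `hyp(F) = S`: `S` is extraspecial of order `p³`. -/

namespace Cfsg.Agent.Lib.Helper2.Ex

open Cfsg Cfsg.FusionSystem Cfsg.Agent.Lib.Helper9

variable {Ω : Type*} [Group Ω] {S : Subgroup Ω}

theorem exists_essential [Finite S] (p : ℕ) [Fact p.Prime] (hS : IsPGroup p S)
    (F : FusionSystem S) (hF : F.IsSaturated p) (hS1 : S ≠ ⊥) (hcore : F.core = ⊥) :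
    ∃ E : Subgroup Ω, F.IsEssential p E := by
  by_contra hcon
  push Not at hcon
  have hnormal : F.IsNormal S := by
    rw [normal_iff_essential_invariant p hS F hF]
    intro P hP
    rcases hP with hPS | hP
    · obtain rfl := hPS.symm
      refine ⟨le_rfl, fun α hα => ?_⟩
      apply map_eq_of_forall_map_le (A := F.autGroup S) _ hα
      intro β _
      rintro _ ⟨y, _, rfl⟩
      show ((β y : ↥S) : Ω) ∈ S
      exact (β y).2
    · exact absurd hP (hcon P)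
  have h1 : S ≤ F.core := le_sSup (show S ∈ {Q | F.IsNormal Q} from hnormal)
  rw [hcore] at h1
  exact hS1 (le_bot_iff.mp h1)

theorem nonabelian_of_essential [Finite S] (p : ℕ) [Fact p.Prime] (hS : IsPGroup p S)
    (F : FusionSystem S) (hF : F.IsSaturated p) {E : Subgroup Ω} (hE : F.IsEssential p E) :
    ¬ ∀ a ∈ S, ∀ b ∈ S, a * b = b * a := by
  intro hab
  have hES : E ≤ S := hE.1.1
  have hcen : centralizerIn S E ≤ E := hE.1.2 E (isConj_refl F hES)
  obtain ⟨s, hs, hsE⟩ := SetLike.exists_of_lt (EssGen.essential_lt hS F hF hE)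
  apply hsE
  apply hcen
  refine ⟨hs, ?_⟩
  show s ∈ Subgroup.centralizer (E : Set Ω)
  rw [Subgroup.mem_centralizer_iff]
  intro e he
  exact hab e (hES he) s hs

theorem card_of_Zc_le [Finite S] {p : ℕ} [Fact p.Prime] (hidx : (Zc S).relIndex S = p ^ 2)
    {z : Ω} (hzZ : z ∈ Zc S) (hz1 : z ≠ 1) (hzp : z ^ p = 1)
    (hle : Zc S ≤ Subgroup.zpowers z) : Nat.card ↥S = p ^ 3 := by
  have h1 : Zc S = Subgroup.zpowers z := le_antisymm hle (Subgroup.zpowers_le.mpr hzZ)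
  have h2 : Nat.card ↥(Zc S) = p := by
    rw [h1, Nat.card_zpowers, orderOf_eq_prime hzp hz1]
  have h3 : Nat.card ↥(Subgroup.center ↥S) = Nat.card ↥(Zc S) :=
    (Subgroup.card_map_of_injective (Subgroup.subtype_injective S)).symm
  have h4 := Subgroup.card_mul_index (Subgroup.center ↥S)
  rw [h3, h2, ← Zc_relIndex, hidx] at h4
  rw [← h4]; ring

theorem EssData.exists_x [Finite S] {p : ℕ} [Fact p.Prime] {F : FusionSystem S} {z : Ω}
    {E : Subgroup Ω} {s : Ω} {u : MulAut ↥E} (hD : EssData p F z E s u) :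
    ∃ x ∈ E, x ∉ Zc S ∧ x ^ p = 1 := by
  haveI : Finite ↥E := finite_of_le hD.le
  obtain ⟨g, hg, hgu⟩ := hD.notnormal
  have tv' := hD.tv.conj hg
  refine ⟨((g ⟨z, hD.zle hD.z_mem⟩ : ↥E) : Ω), (g _).2, ?_, ?_⟩
  · intro hx
    exact hD.tv.not_fix hD.sylow tv' hgu (hD.u_fix _ hx)
  · have h1 := tv'.pow
    have h2 := congrArg Subtype.val h1
    rw [Subgroup.coe_pow] at h2
    exact h2

theorem pow_mul_of_odd {p : ℕ} [Fact p.Prime] (hp2 : p ≠ 2) {z : Ω} (hzZ : z ∈ Zc S)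
    (hzp : z ^ p = 1)
    (hzc : ∀ g ∈ S, ∀ h ∈ S, g * h * g⁻¹ * h⁻¹ ∈ Subgroup.zpowers z) {a b : Ω} (ha : a ∈ S)
    (hb : b ∈ S) : (a * b) ^ p = a ^ p * b ^ p := by
  have hp : p.Prime := Fact.out
  obtain ⟨as, has⟩ : ∃ as : ↥S, as = ⟨a, ha⟩ := ⟨_, rfl⟩
  obtain ⟨bs, hbs⟩ : ∃ bs : ↥S, bs = ⟨b, hb⟩ := ⟨_, rfl⟩
  have hcz : ((bs⁻¹ * as⁻¹ * bs * as : ↥S) : Ω) ∈ Subgroup.zpowers z := by
    have h1 := hzc b⁻¹ (S.inv_mem hb) a⁻¹ (S.inv_mem ha)
    rw [inv_inv, inv_inv] at h1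
    rw [has, hbs]
    exact h1
  have hcc : ∀ g : ↥S, g * (bs⁻¹ * as⁻¹ * bs * as) = (bs⁻¹ * as⁻¹ * bs * as) * g := by
    intro g
    apply Subtype.ext
    have h1 := (mem_Zc.mp ((Subgroup.zpowers_le.mpr hzZ) hcz)).2 g g.2
    exact h1
  have h2 := Cfsg.Agent.Lib.Lead.Fus.mul_pow_class_two as bs hcc p
  have h3 : (bs⁻¹ * as⁻¹ * bs * as) ^ (p.choose 2) = 1 := by
    have hdvd : p ∣ p.choose 2 :=
      hp.dvd_choose_self (by norm_num) (lt_of_le_of_ne hp.two_le (Ne.symm hp2))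
    obtain ⟨m, hm⟩ := hdvd
    have h4 : (bs⁻¹ * as⁻¹ * bs * as) ^ p = 1 := by
      apply Subtype.ext
      rw [Subgroup.coe_pow]
      exact pow_eq_one_of_mem_zpowers hzp hcz
    rw [hm, pow_mul, h4, one_pow]
  rw [h3, mul_one] at h2
  have h5 := congrArg Subtype.val h2
  rw [Subgroup.coe_pow, Subgroup.coe_mul, Subgroup.coe_mul, Subgroup.coe_pow, Subgroup.coe_pow,
    has, hbs] at h5
  exact h5

theorem pow_eq_one_of_odd [Finite S] (p : ℕ) [Fact p.Prime] (hp2 : p ≠ 2) (hS : IsPGroup p S)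
    (F : FusionSystem S) (hF : F.IsSaturated p) (hcore : F.core = ⊥)
    (hidx : (Zc S).relIndex S = p ^ 2) {z : Ω} (hzZ : z ∈ Zc S) (hz1 : z ≠ 1)
    (hzp : z ^ p = 1)
    (hzc : ∀ g ∈ S, ∀ h ∈ S, g * h * g⁻¹ * h⁻¹ ∈ Subgroup.zpowers z)
    (hZz : Zc S ≤ Subgroup.zpowers z)
    {E₀ : Subgroup Ω} (hE₀ : F.IsEssential p E₀) : ∀ a ∈ S, a ^ p = 1 := by
  classical
  have hp : p.Prime := Fact.out
  by_contra hcon
  push Not at hcon
  obtain ⟨y, hyS, hyp⟩ := hcon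
  let K : Subgroup Ω :=
    { carrier := {a | a ∈ S ∧ a ^ p = 1}
      one_mem' := ⟨S.one_mem, one_pow p⟩
      mul_mem' := by
        rintro a b ⟨ha, ha'⟩ ⟨hb, hb'⟩
        exact ⟨S.mul_mem ha hb, by rw [pow_mul_of_odd hp2 hzZ hzp hzc ha hb, ha', hb', one_mul]⟩
      inv_mem' := by
        rintro a ⟨ha, ha'⟩
        exact ⟨S.inv_mem ha, by rw [inv_pow, ha', inv_one]⟩ }
  have hKmem : ∀ a, a ∈ K ↔ a ∈ S ∧ a ^ p = 1 := fun a => Iff.rfl
  have hKS : K ≤ S := fun a ha => ((hKmem a).mp ha).1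
  have hessK : ∀ P : Subgroup Ω, F.IsEssential p P → P ≤ K := by
    intro P hP
    obtain ⟨s, u, D⟩ := essData_of_essential p hS F hF hidx hzZ hz1 hzp hzc hP
    obtain ⟨x, hxP, hxZ, hxp⟩ := D.exists_x
    have hle2 : P ≤ Zc S ⊔ Subgroup.zpowers x :=
      le_sup_zpowers (p := p) D.zle D.relZ hxP hxZ
    have hn2 := central_conj_zpow (le_refl (Zc S)) (D.le hxP)
    intro e he
    obtain ⟨j, t, ht, hjt⟩ := exists_decomp hn2 hle2 e he
    refine (hKmem _).mpr ⟨D.le he, ?_⟩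
    have hcomm : Commute (x ^ j) t := D.comm _ (P.zpow_mem hxP j) t (D.zle ht)
    rw [hjt, hcomm.mul_pow, pow_eq_one_of_mem_zpowers hxp (Subgroup.zpow_mem_zpowers x j),
      pow_eq_one_of_mem_zpowers hzp (hZz ht), one_mul]
  obtain ⟨s₀, u₀, D₀⟩ := essData_of_essential p hS F hF hidx hzZ hz1 hzp hzc hE₀
  have hE₀K : E₀ ≤ K := hessK E₀ hE₀
  have hKE₀ : K ≤ E₀ := by
    have h1 := Subgroup.relIndex_mul_relIndex _ _ _ hE₀K hKS
    rw [D₀.relE] at h1
    have h2 : E₀.relIndex K ∣ p := Dvd.intro _ h1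
    rcases (Nat.dvd_prime hp).mp h2 with h3 | h3
    · exact Subgroup.relIndex_eq_one.mp h3
    · exfalso
      rw [h3] at h1
      have h4 : K.relIndex S = 1 :=
        Nat.eq_of_mul_eq_mul_left hp.pos (by rw [h1, mul_one])
      have h5 : S ≤ K := Subgroup.relIndex_eq_one.mp h4
      exact hyp ((hKmem y).mp (h5 hyS)).2
  have hnormal : F.IsNormal E₀ := by
    rw [normal_iff_essential_invariant p hS F hF]
    intro P hP
    rcases hP with hPS | hP
    · obtain rfl := hPS.symm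
      refine ⟨D₀.le, fun α hα => ?_⟩
      apply map_eq_of_forall_map_le (A := F.autGroup S) _ hα
      intro β _
      rintro _ ⟨a, ha, rfl⟩
      have ha' : (a : Ω) ∈ E₀ := ha
      show ((β a : ↥S) : Ω) ∈ E₀
      apply hKE₀
      refine (hKmem _).mpr ⟨(β a).2, ?_⟩
      have h1 : (a : Ω) ^ p = 1 := ((hKmem _).mp (hE₀K ha')).2
      have h2 : a ^ p = 1 := Subtype.ext (by rw [Subgroup.coe_pow]; exact h1)
      have h3 : (β a) ^ p = 1 := by rw [← map_pow, h2, map_one]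
      have h4 := congrArg Subtype.val h3
      rw [Subgroup.coe_pow] at h4
      exact h4
    · have hPE₀ : P ≤ E₀ := le_trans (hessK P hP) hKE₀
      obtain ⟨s, u, D⟩ := essData_of_essential p hS F hF hidx hzZ hz1 hzp hzc hP
      have hE₀P : E₀ ≤ P := by
        have h1 := Subgroup.relIndex_mul_relIndex _ _ _ hPE₀ D₀.le
        rw [D₀.relE, D.relE] at h1
        have h2 : P.relIndex E₀ = 1 :=
          Nat.eq_of_mul_eq_mul_right hp.pos (by rw [h1, one_mul])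
        exact Subgroup.relIndex_eq_one.mp h2
      refine ⟨hE₀P, fun α hα => ?_⟩
      apply map_eq_of_forall_map_le (A := F.autGroup P) _ hα
      intro β _
      rintro _ ⟨a, _, rfl⟩
      show ((β a : ↥P) : Ω) ∈ E₀
      exact hPE₀ (β a).2
  have h1 : E₀ ≤ F.core := le_sSup (show E₀ ∈ {Q | F.IsNormal Q} from hnormal)
  rw [hcore] at h1
  have h2 : z ∈ (⊥ : Subgroup Ω) := h1 (D₀.zle hzZ)
  exact hz1 (Subgroup.mem_bot.mp h2)

theorem d8_of_elements [Finite S] (hcard : Nat.card ↥S = 8) {a b : Ω} (ha : a ∈ S)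
    (hb : b ∈ S) (ha2 : a * a ≠ 1) (ha4 : a * a * (a * a) = 1) (hb2 : b * b = 1)
    (hconj : b * a * b⁻¹ = a⁻¹) : Nonempty (↥S ≃* DihedralGroup 4) := by
  have hord : orderOf (⟨a, ha⟩ : ↥S) = 4 := by
    have h1 : orderOf (⟨a, ha⟩ : ↥S) = 2 ^ (1 + 1) := by
      apply orderOf_eq_prime_pow
      · intro h
        apply ha2
        have h3 : (2 : ℕ) ^ 1 = 2 := by norm_num
        rw [h3, pow_two] at h
        exact congrArg Subtype.val h
      · have h3 : (2 : ℕ) ^ (1 + 1) = 2 + 2 := by norm_num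
        rw [h3, pow_add, pow_two]
        exact Subtype.ext ha4
    exact h1.trans (by norm_num)
  apply Cfsg.Agent.Lib.Helper1.nonempty_mulEquiv_dihedralGroup 4 (⟨a, ha⟩ : ↥S) ⟨b, hb⟩ hord
  · intro hmem
    obtain ⟨k, hk⟩ := Subgroup.mem_zpowers_iff.mp hmem
    apply ha2
    have h1 := ((Commute.refl (⟨a, ha⟩ : ↥S)).zpow_left k).eq
    rw [hk] at h1
    have h2 : b * a = a * b := congrArg Subtype.val h1
    have h3 : a = a⁻¹ := by
      rw [← hconj, h2, mul_inv_cancel_right]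
    calc a * a = a * a⁻¹ := by rw [← h3]
      _ = 1 := mul_inv_cancel a
  · exact Subtype.ext hb2
  · apply Subtype.ext
    show b * a * b⁻¹ = a⁻¹
    exact hconj
  · exact hcard.trans (by norm_num)

theorem d8_of_ess2 [Finite S] {F : FusionSystem S} {z : Ω} {P : Subgroup Ω} {s : Ω}
    {u g : MulAut ↥P} {x : Ω} (h : Ess2 F z P s u g x) (hcard : Nat.card ↥S = 8)
    (hz1 : z ≠ 1) (hz2 : z ^ 2 = 1)
    (hzc : ∀ a ∈ S, ∀ b ∈ S, a * b * a⁻¹ * b⁻¹ ∈ Subgroup.zpowers z)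
    (hZz : Zc S ≤ Subgroup.zpowers z) : Nonempty (↥S ≃* DihedralGroup 4) := by
  have D := h.data
  have hsS : s ∈ S := D.s_mem
  have hxS : x ∈ S := D.le h.x_mem
  have hxx : x * x = 1 := by rw [← pow_two]; exact h.x_sq
  have hxinv : x⁻¹ = x := inv_eq_of_mul_eq_one_right hxx
  have hzz : z * z = 1 := by rw [← pow_two]; exact hz2
  have hne : x * s ≠ s * x :=
    not_comm_of_not_mem D.le D.comm D.relE h.x_mem h.x_not hsS D.s_not
  have hc1 : x * s * x⁻¹ * s⁻¹ = z := by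
    rcases mem_zpowers_two hz2 (hzc x hxS s hsS) with h1 | h1
    · exfalso; apply hne
      calc x * s = (x * s * x⁻¹ * s⁻¹) * s * x := by group
        _ = s * x := by rw [h1, one_mul]
    · exact h1
  have hss : s * s = 1 ∨ s * s = z := by
    have h1 : (P.subgroupOf S).index = 2 := D.relE
    have h2 := Subgroup.mul_self_mem_of_index_two h1 (⟨s, hsS⟩ : ↥S)
    have h3 : s * s ∈ P := h2
    have h4 : u ⟨s * s, h3⟩ = ⟨s * s, h3⟩ := by
      apply Subtype.ext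
      rw [D.u_apply]
      show s * (s * s) * s⁻¹ = s * s
      group
    have h5 : s * s ∈ Zc S := D.fixZ _ h4
    exact mem_zpowers_two hz2 (hZz h5)
  have hzs : s * z = z * s := (mem_Zc.mp D.z_mem).2 s hsS
  rcases hss with hs1 | hsz
  · have hsinv : s⁻¹ = s := inv_eq_of_mul_eq_one_right hs1
    have hc1' : x * s * x * s = z := by rw [hxinv, hsinv] at hc1; exact hc1
    have haa : (s * x) * (s * x) = z := by
      calc (s * x) * (s * x) = s * (x * s * x * s) * s⁻¹ := by group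
        _ = s * z * s⁻¹ := by rw [hc1']
        _ = z := by rw [hzs, mul_inv_cancel_right]
    apply d8_of_elements hcard (S.mul_mem hsS hxS) hxS
    · rw [haa]; exact hz1
    · rw [haa]; exact hzz
    · exact hxx
    · calc x * (s * x) * x⁻¹ = x * s := by group
        _ = x⁻¹ * s⁻¹ := by rw [hxinv, hsinv]
        _ = (s * x)⁻¹ := by rw [mul_inv_rev]
  · apply d8_of_elements hcard hsS hxS
    · rw [hsz]; exact hz1
    · rw [hsz]; exact hzz
    · exact hxx
    · have h1 : x * s * x⁻¹ = z * s := by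
        calc x * s * x⁻¹ = (x * s * x⁻¹ * s⁻¹) * s := by group
          _ = z * s := by rw [hc1]
      rw [h1, ← hsz]
      have h2 : s * s * (s * s) = 1 := by rw [hsz]; exact hzz
      have h3 : s * (s * s * s) = 1 := by
        have h4 : s * (s * s * s) = s * s * (s * s) := by group
        rw [h4]; exact h2
      exact (inv_eq_of_mul_eq_one_right h3).symm

theorem ex_main [Finite S] (p : ℕ) [Fact p.Prime] (hS : IsPGroup p S) (F : FusionSystem S)
    (hF : F.IsSaturated p) (hS1 : S ≠ ⊥) (hcore : F.core = ⊥)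
    (hhyp : F.hyperfocalSubgroup p = S) (hZ : (Subgroup.center ↥S).index ≤ p ^ 2) :
    IsExtraspecial p ↥S ∧ Nat.card S = p ^ 3 ∧ (p ≠ 2 → Monoid.exponent ↥S = p) ∧
      (p = 2 → Nonempty (↥S ≃* DihedralGroup 4)) := by
  have hp : p.Prime := Fact.out
  obtain ⟨E, hE⟩ := exists_essential p hS F hF hS1 hcore
  have hna := nonabelian_of_essential p hS F hF hE
  have hidx := relIndex_Zc_eq hS hna hZ
  obtain ⟨hES, hZE, hcomm, hrelE, hrelZ, hcen⟩ := ess_basic p hS F hF hidx hE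
  obtain ⟨s, hs, hsE⟩ := SetLike.exists_of_lt (EssGen.essential_lt hS F hF hE)
  obtain ⟨z, hzZ, hz1, hzp, hzc, hzcomm⟩ :=
    exists_comm_gen hidx hES hZE hcomm hrelE hrelZ hs hsE
  have hZz : Zc S ≤ Subgroup.zpowers z := by
    by_cases hp2 : p = 2
    · subst hp2
      exact Zc_le_zpowers_of_two hS F hF hcore hhyp hidx hzZ hz1 hzp hzc hzcomm hE
    · exact Zc_le_zpowers_of_odd p hp2 hS F hF hcore hidx hzZ hz1 hzp hzc hzcomm hE
  have hcard : Nat.card ↥S = p ^ 3 := card_of_Zc_le hidx hzZ hz1 hzp hZz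
  have hna' : ¬ ∀ a b : ↥S, a * b = b * a := by
    intro h
    apply hna
    intro a ha b hb
    exact congrArg Subtype.val (h ⟨a, ha⟩ ⟨b, hb⟩)
  obtain ⟨h1, h2, h3, -⟩ := Cfsg.Agent.Lib.Lead.Fus.extraspecial_of_card_cube hcard hna'
  refine ⟨⟨⟨hS, h3, h2⟩, h1⟩, hcard, ?_, ?_⟩
  · intro hp2
    haveI : Nontrivial ↥S := (Subgroup.nontrivial_iff_ne_bot S).mpr hS1
    rw [Monoid.exponent_eq_prime_iff hp]
    intro a ha1
    apply orderOf_eq_prime _ ha1
    have h4 := pow_eq_one_of_odd p hp2 hS F hF hcore hidx hzZ hz1 hzp hzc hZz hE a a.2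
    exact Subtype.ext (by rw [Subgroup.coe_pow]; exact h4)
  · intro hp2
    subst hp2
    obtain ⟨s', u', g', x', h'⟩ := exists_ess2 hS F hF hidx hzZ hz1 hzp hzc hE
    exact d8_of_ess2 h' (hcard.trans (by norm_num)) hz1 hzp hzc hZz

end Cfsg.Agent.Lib.Helper2.Ex
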