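import Mathlib
import Cfsg.Prelude.Def_Transfer
import Cfsg.Prelude.Def_Solvable
import Cfsg.Agent.Lib.Helper1.FrattiniP
import Cfsg.Agent.Lib.Helper2.Cores

set_option autoImplicit false
open Cfsg
open scoped commutatorElement

namespace Cfsg.Agent.Lib.Helper2.ExtraSp

variable {G : Type*} [Group G]

theorem mem_cent_single {g x : G} : g ∈ Subgroup.centralizer ({x} : Set G) ↔ x * g = g * x := by
  simp [Subgroup.mem_centralizer_iff]

/-- normalizers grow in a finite `p`-group (subgroup form) -/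
theorem exists_normalizing_not_mem {p : ℕ} [Fact p.Prime] {T1 T : Subgroup G} [Finite T1]
    (h1 : IsPGroup p T1) (hlt : T < T1) :
    ∃ s ∈ T1, s ∉ T ∧ s ∈ Subgroup.normalizer (T : Set G) := by
  have hnil : Group.IsNilpotent T1 := h1.isNilpotent
  have hnc : NormalizerCondition T1 := Group.normalizerCondition_of_isNilpotent
  have hlt' : T.subgroupOf T1 < ⊤ := by
    rw [lt_top_iff_ne_top]
    intro h
    rw [Subgroup.subgroupOf_eq_top] at h
    exact absurd h (not_le_of_gt hlt)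
  have h1' := hnc _ hlt'
  obtain ⟨s, hsN, hsT⟩ := SetLike.exists_of_lt h1'
  rw [← Subgroup.subgroupOf_normalizer_eq hlt.le] at hsN
  exact ⟨s.1, s.2, fun h => hsT (Subgroup.mem_subgroupOf.mpr h), Subgroup.mem_subgroupOf.mp hsN⟩

/-- an involution normalizing a finite subgroup without nontrivial fixed points inverts it -/
theorem inverts_of_fpf (K : Subgroup G) [Finite K] (t : G) (ht2 : t * t = 1)
    (hN : ∀ k ∈ K, t * k * t⁻¹ ∈ K) (hfpf : ∀ k ∈ K, t * k * t⁻¹ = k → k = 1) :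
    ∀ k ∈ K, t * k * t⁻¹ = k⁻¹ := by
  let f : K → K := fun k => ⟨(k : G)⁻¹ * (t * k * t⁻¹), K.mul_mem (K.inv_mem k.2) (hN k k.2)⟩
  have hinj : Function.Injective f := by
    intro a b hab
    have h1 : (a : G)⁻¹ * (t * a * t⁻¹) = (b : G)⁻¹ * (t * b * t⁻¹) := congrArg Subtype.val hab
    have h3 : t * a * t⁻¹ = (a : G) * ((b : G)⁻¹ * (t * b * t⁻¹)) := by
      rw [← h1]; group
    have h2 : t * ((b : G) * (a : G)⁻¹) * t⁻¹ = (b : G) * (a : G)⁻¹ := by
      calc t * ((b : G) * (a : G)⁻¹) * t⁻¹ = (t * b * t⁻¹) * (t * a * t⁻¹)⁻¹ := by group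
        _ = (t * b * t⁻¹) * ((a : G) * ((b : G)⁻¹ * (t * b * t⁻¹)))⁻¹ := by rw [h3]
        _ = (b : G) * (a : G)⁻¹ := by group
    have h4 := hfpf _ (K.mul_mem b.2 (K.inv_mem a.2)) h2
    apply Subtype.ext
    exact (mul_inv_eq_one.mp h4).symm
  have hsurj : Function.Surjective f := Finite.injective_iff_surjective.mp hinj
  intro k hk
  obtain ⟨l, hl⟩ := hsurj ⟨k, hk⟩
  have hl' : (l : G)⁻¹ * (t * l * t⁻¹) = k := congrArg Subtype.val hl
  rw [← hl']
  calc t * ((l : G)⁻¹ * (t * l * t⁻¹)) * t⁻¹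
      = (t * (l:G)⁻¹ * t⁻¹) * ((t * t) * l * (t * t)⁻¹) := by group
    _ = (t * (l:G)⁻¹ * t⁻¹) * l := by rw [ht2]; simp
    _ = ((l : G)⁻¹ * (t * l * t⁻¹))⁻¹ := by group

/-- an element of odd order with `k ^ 2` in a 2-group... : elements of a subgroup of odd order
whose square is trivial are trivial -/
theorem eq_one_of_sq_of_odd {K : Subgroup G} (hK : Odd (Nat.card K)) {k : G} (hk : k ∈ K)
    (h2 : k * k = 1) : k = 1 := by
  have hfin : Finite K := Nat.finite_of_card_ne_zero (by rintro h; rw [h] at hK; exact (by decide : ¬ Odd 0) hK)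
  have h1 : orderOf (⟨k, hk⟩ : K) ∣ Nat.card K := orderOf_dvd_natCard _
  have h3 : orderOf (⟨k, hk⟩ : K) ∣ 2 := by
    apply orderOf_dvd_of_pow_eq_one
    apply Subtype.ext
    simp [pow_two, h2]
  have h4 : orderOf (⟨k, hk⟩ : K) = 1 := by
    rcases (Nat.dvd_prime Nat.prime_two).mp h3 with h | h
    · exact h
    · exfalso
      rw [h] at h1
      exact (Nat.not_even_iff_odd.mpr hK) (even_iff_two_dvd.mpr h1)
  have := orderOf_eq_one_iff.mp h4
  exact congrArg Subtype.val this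

/-- a subgroup of odd order meets a 2-subgroup trivially -/
theorem eq_one_of_mem_odd_of_mem_two {K R : Subgroup G} (hK : Odd (Nat.card K))
    (hR : IsPGroup 2 R) {k : G} (hk : k ∈ K) (hkR : k ∈ R) : k = 1 := by
  have hfin : Finite K := Nat.finite_of_card_ne_zero (by rintro h; rw [h] at hK; exact (by decide : ¬ Odd 0) hK)
  obtain ⟨n, hn⟩ := hR ⟨k, hkR⟩
  have hn' : k ^ (2 ^ n) = 1 := by
    have := congrArg Subtype.val hn
    simpa using this
  have h1 : orderOf k ∣ 2 ^ n := orderOf_dvd_of_pow_eq_one hn'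
  have h2 : orderOf k ∣ Nat.card K := by
    have : orderOf (⟨k, hk⟩ : K) ∣ Nat.card K := orderOf_dvd_natCard _
    rwa [Subgroup.orderOf_mk] at this
  have hcop : Nat.Coprime (2 ^ n) (Nat.card K) := Nat.Coprime.pow_left n hK.coprime_two_left
  have h3 : orderOf k ∣ Nat.gcd (2 ^ n) (Nat.card K) := Nat.dvd_gcd h1 h2
  rw [hcop.gcd_eq_one] at h3
  exact orderOf_eq_one_iff.mp (Nat.dvd_one.mp h3)


theorem cj_of_comm {a b : G} (h : a * b = b * a) : a * b * a⁻¹ = b := by rw [h]; group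

theorem icj_of_comm {a b : G} (h : a * b = b * a) : a⁻¹ * b * a = b := by
  calc a⁻¹ * b * a = a⁻¹ * (b * a) := by group
    _ = a⁻¹ * (a * b) := by rw [h]
    _ = b := by group

theorem comm_of_cj {a b : G} (h : a * b * a⁻¹ = b) : a * b = b * a := by
  calc a * b = a * b * a⁻¹ * a := by group
    _ = b * a := by rw [h]

theorem mem_map_conj_iff {Q : Subgroup G} {g p : G} :
    p ∈ Q.map (MulAut.conj g).toMonoidHom ↔ g⁻¹ * p * g ∈ Q := by
  constructor
  · rintro ⟨q, hq, rfl⟩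
    simp only [MulEquiv.coe_toMonoidHom, MulAut.conj_apply]
    have : g⁻¹ * (g * q * g⁻¹) * g = q := by group
    rw [this]; exact hq
  · intro h
    refine ⟨g⁻¹ * p * g, h, ?_⟩
    simp only [MulEquiv.coe_toMonoidHom, MulAut.conj_apply]
    group

/-- elementwise data of an extraspecial 2-subgroup `Q` with centre `{1, z}` -/
structure ESData (Q : Subgroup G) (z : G) : Prop where
  two : IsPGroup 2 Q
  zQ : z ∈ Q
  z_ne : z ≠ 1
  z_sq : z * z = 1
  z_comm : ∀ q ∈ Q, q * z = z * q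
  center_sub : ∀ c ∈ Q, (∀ q ∈ Q, q * c = c * q) → c = 1 ∨ c = z
  comm_mem : ∀ a ∈ Q, ∀ b ∈ Q, a * b * a⁻¹ * b⁻¹ = 1 ∨ a * b * a⁻¹ * b⁻¹ = z
  sq_mem : ∀ a ∈ Q, a * a = 1 ∨ a * a = z

theorem esdata_of_extraspecial [Finite G] {Q : Subgroup G} (h : IsExtraspecial 2 ↥Q) :
    ∃ z, ESData Q z ∧ ∀ c : G, c ∈ (Subgroup.center ↥Q).map Q.subtype ↔ (c = 1 ∨ c = z) := by
  obtain ⟨⟨h2, hfr, hcomm⟩, hcard⟩ := h
  obtain ⟨z0, hz0, huniq⟩ := (Nat.card_eq_two_iff' (1 : Subgroup.center ↥Q)).mp hcard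
  have hall : ∀ c : Subgroup.center ↥Q, c = 1 ∨ c = z0 := by
    intro c
    by_cases hc : c = 1
    · exact Or.inl hc
    · exact Or.inr (huniq c hc)
  have hallQ : ∀ c : ↥Q, c ∈ Subgroup.center ↥Q → c = 1 ∨ c = (z0 : ↥Q) := by
    intro c hc
    rcases hall ⟨c, hc⟩ with h | h
    · left; exact congrArg Subtype.val h
    · right; exact congrArg Subtype.val h
  refine ⟨((z0 : ↥Q) : G), ⟨h2, (z0 : ↥Q).2, ?_, ?_, ?_, ?_, ?_, ?_⟩, ?_⟩
  · intro h
    apply hz0
    apply Subtype.ext; apply Subtype.ext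
    simpa using h
  · rcases hall (z0 * z0) with h | h
    · have := congrArg (fun c : Subgroup.center ↥Q => ((c : ↥Q) : G)) h
      simpa using this
    · exfalso; apply hz0
      have : z0 * z0 = z0 * 1 := by rw [mul_one]; exact h
      exact mul_left_cancel this
  · intro q hq
    have := Subgroup.mem_center_iff.mp z0.2 ⟨q, hq⟩
    exact congrArg Subtype.val this
  · intro c hc hcc
    have hmem : (⟨c, hc⟩ : ↥Q) ∈ Subgroup.center ↥Q := by
      rw [Subgroup.mem_center_iff]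
      intro q
      apply Subtype.ext
      exact hcc q.1 q.2
    rcases hallQ _ hmem with h | h
    · left; exact congrArg Subtype.val h
    · right; exact congrArg Subtype.val h
  · intro a ha b hb
    have hmem : ⁅(⟨a, ha⟩ : ↥Q), ⟨b, hb⟩⁆ ∈ Subgroup.center ↥Q := by
      rw [← hcomm, commutator_def]
      exact Subgroup.commutator_mem_commutator (Subgroup.mem_top _) (Subgroup.mem_top _)
    rcases hallQ _ hmem with h | h
    · left
      have := congrArg Subtype.val h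
      simpa [commutatorElement_def] using this
    · right
      have := congrArg Subtype.val h
      simpa [commutatorElement_def] using this
  · intro a ha
    have hmem : (⟨a, ha⟩ : ↥Q) ^ 2 ∈ Subgroup.center ↥Q := by
      rw [← hfr]
      exact Cfsg.Agent.Lib.Helper1.pow_prime_mem_frattini_of_isPGroup 2 h2 _
    rcases hallQ _ hmem with h | h
    · left
      have := congrArg Subtype.val h
      simpa [pow_two] using this
    · right
      have := congrArg Subtype.val h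
      simpa [pow_two] using this
  · intro c
    rw [Subgroup.mem_map]
    constructor
    · rintro ⟨c', hc', rfl⟩
      rcases hallQ c' hc' with h | h
      · left; rw [h]; rfl
      · right; rw [h]; rfl
    · rintro (rfl | rfl)
      · exact ⟨1, Subgroup.one_mem _, rfl⟩
      · exact ⟨(z0 : ↥Q), z0.2, rfl⟩

/-- `O_2(C_G(x))` as a subgroup of `G` -/
def QQ (x : G) : Subgroup G :=
  (Cfsg.pCore 2 ↥(Subgroup.centralizer ({x} : Set G))).map (Subgroup.centralizer ({x} : Set G)).subtype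

theorem QQ_le (x : G) : QQ x ≤ Subgroup.centralizer ({x} : Set G) := by
  intro q hq
  obtain ⟨q', _, rfl⟩ := Subgroup.mem_map.mp hq
  exact q'.2

theorem QQ_two [Finite G] (x : G) : IsPGroup 2 (QQ x) := by
  unfold QQ
  exact (pCore_isPGroup 2).map _

theorem QQ_conj_mem [Finite G] (x : G) {c q : G} (hc : c ∈ Subgroup.centralizer ({x} : Set G))
    (hq : q ∈ QQ x) : c * q * c⁻¹ ∈ QQ x := by
  obtain ⟨q', hq', rfl⟩ := Subgroup.mem_map.mp hq
  have hn : (pCore 2 ↥(Subgroup.centralizer ({x} : Set G))).Normal := (pCore_mem 2).1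
  have := hn.conj_mem q' hq' ⟨c, hc⟩
  exact Subgroup.mem_map.mpr ⟨_, this, rfl⟩

theorem le_QQ [Finite G] {x : G} {N : Subgroup G} (hN : N ≤ Subgroup.centralizer ({x} : Set G))
    (h2 : IsPGroup 2 N)
    (hn : ∀ c ∈ Subgroup.centralizer ({x} : Set G), ∀ n ∈ N, c * n * c⁻¹ ∈ N) : N ≤ QQ x := by
  have hnorm : (N.subgroupOf (Subgroup.centralizer ({x} : Set G))).Normal := by
    constructor
    intro n hn' c
    rw [Subgroup.mem_subgroupOf] at hn' ⊢
    exact hn c.1 c.2 n.1 hn'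
  have hp : IsPGroup 2 (N.subgroupOf (Subgroup.centralizer ({x} : Set G))) :=
    h2.of_equiv (Subgroup.subgroupOfEquivOfLe hN).symm
  have hle := le_pCore (p := 2) hp
  intro n hnN
  exact Subgroup.mem_map.mpr ⟨⟨n, hN hnN⟩, hle (Subgroup.mem_subgroupOf.mpr hnN), rfl⟩

theorem QQ_conj [Finite G] (x g : G) {q : G} (hq : q ∈ QQ x) :
    g * q * g⁻¹ ∈ QQ (g * x * g⁻¹) := by
  have key : (QQ x).map (MulAut.conj g).toMonoidHom ≤ QQ (g * x * g⁻¹) := by
    apply le_QQ
    · rintro _ ⟨q, hq, rfl⟩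
      have := QQ_le x hq
      rw [mem_cent_single] at this ⊢
      simp only [MulEquiv.coe_toMonoidHom, MulAut.conj_apply]
      calc g * x * g⁻¹ * (g * q * g⁻¹) = g * (x * q) * g⁻¹ := by group
        _ = g * (q * x) * g⁻¹ := by rw [this]
        _ = g * q * g⁻¹ * (g * x * g⁻¹) := by group
    · exact (QQ_two x).map _
    · rintro c hc _ ⟨q, hq, rfl⟩
      simp only [MulEquiv.coe_toMonoidHom, MulAut.conj_apply]
      have hc' : g⁻¹ * c * g ∈ Subgroup.centralizer ({x} : Set G) := by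
        rw [mem_cent_single] at hc ⊢
        calc x * (g⁻¹ * c * g) = g⁻¹ * (g * x * g⁻¹ * c) * g := by group
          _ = g⁻¹ * (c * (g * x * g⁻¹)) * g := by rw [hc]
          _ = g⁻¹ * c * g * x := by group
      have := QQ_conj_mem x hc' hq
      refine Subgroup.mem_map.mpr ⟨_, this, ?_⟩
      simp only [MulEquiv.coe_toMonoidHom, MulAut.conj_apply]
      group
  exact key (Subgroup.mem_map.mpr ⟨q, hq, by simp [MulAut.conj_apply]⟩)

theorem exists_swap {Q : Subgroup G} {z : G} (hES : ESData Q z) {x : G} (hxQ : x ∈ Q)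
    (hx1 : x ≠ 1) (hxz : x ≠ z) : ∃ q ∈ Q, q * x * q⁻¹ = x * z := by
  by_contra hcon
  push Not at hcon
  have : ∀ q ∈ Q, q * x = x * q := by
    intro q hq
    rcases hES.comm_mem q hq x hxQ with h | h
    · have h' : q * x * q⁻¹ = x := by
        calc q * x * q⁻¹ = (q * x * q⁻¹ * x⁻¹) * x := by group
          _ = x := by rw [h, one_mul]
      exact comm_of_cj h'
    · exfalso
      apply hcon q hq
      calc q * x * q⁻¹ = (q * x * q⁻¹ * x⁻¹) * x := by group
        _ = z * x := by rw [h]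
        _ = x * z := (hES.z_comm x hxQ).symm
  rcases hES.center_sub x hxQ this with h | h
  · exact hx1 h
  · exact hxz h


/-- an element of `C(z)` centralizing `C_Q(x)` lies in `{1, z, x, xz}` -/
theorem central_lemma {Q : Subgroup G} {z : G} (hES : ESData Q z)
    (hC : Subgroup.centralizer (Q : Set G) ≤ Q)
    (hN : Subgroup.centralizer ({z} : Set G) ≤ Subgroup.normalizer (Q : Set G))
    {x : G} (hxQ : x ∈ Q) (hx1 : x ≠ 1) (hxz : x ≠ z) (hx2 : x * x = 1)
    {c : G} (hcz : c * z = z * c) (hcE : ∀ e ∈ Q, e * x = x * e → c * e = e * c) :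
    c = 1 ∨ c = z ∨ c = x ∨ c = x * z := by
  have z2 := hES.z_sq
  have hxzc : x * z = z * x := hES.z_comm x hxQ
  have hxinv : x⁻¹ = x := inv_eq_of_mul_eq_one_left hx2
  obtain ⟨q0, hq0Q, hq0⟩ := exists_swap hES hxQ hx1 hxz
  have hq0z : q0 * z = z * q0 := hES.z_comm q0 hq0Q
  have hq0zc : q0 * z * q0⁻¹ = z := cj_of_comm hq0z
  have hq0zi : q0⁻¹ * z * q0 = z := icj_of_comm hq0z
  have hq0' : q0⁻¹ * x * q0 = x * z := by
    have e1 : q0⁻¹ * (x * z) * q0 = x := by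
      rw [← hq0]; group
    calc q0⁻¹ * x * q0 = q0⁻¹ * (x * z * z) * q0 := by rw [mul_assoc x z z, z2, mul_one]
      _ = (q0⁻¹ * (x * z) * q0) * (q0⁻¹ * z * q0) := by group
      _ = x * z := by rw [e1, hq0zi]
  have hxq0 : x * q0 * x⁻¹ = q0 * z := by
    have e1 : x * q0 = q0 * (x * z) := by
      rw [← hq0']; group
    calc x * q0 * x⁻¹ = q0 * (x * z) * x⁻¹ := by rw [e1]
      _ = q0 * (z * x) * x⁻¹ := by rw [hxzc]
      _ = q0 * z := by group
  have hxz2 : (x * z) * (x * z) = 1 := by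
    calc (x * z) * (x * z) = x * (z * x) * z := by group
      _ = x * (x * z) * z := by rw [hxzc]
      _ = (x * x) * (z * z) := by group
      _ = 1 := by rw [hx2, z2, one_mul]
  have hcoset : ∀ q ∈ Q, q * x = x * q ∨ (q * q0⁻¹) * x = x * (q * q0⁻¹) := by
    intro q hq
    rcases hES.comm_mem q hq x hxQ with h | h
    · left
      have h' : q * x * q⁻¹ = x := by
        calc q * x * q⁻¹ = (q * x * q⁻¹ * x⁻¹) * x := by group
          _ = x := by rw [h, one_mul]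
      exact comm_of_cj h'
    · right
      have h' : q * x * q⁻¹ = z * x := by
        calc q * x * q⁻¹ = (q * x * q⁻¹ * x⁻¹) * x := by group
          _ = z * x := by rw [h]
      have hqz : q * z * q⁻¹ = z := cj_of_comm (hES.z_comm q hq)
      apply comm_of_cj
      calc (q * q0⁻¹) * x * (q * q0⁻¹)⁻¹ = q * (q0⁻¹ * x * q0) * q⁻¹ := by group
        _ = q * (x * z) * q⁻¹ := by rw [hq0']
        _ = (q * x * q⁻¹) * (q * z * q⁻¹) := by group
        _ = z * x * z := by rw [h', hqz]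
        _ = x := by rw [← hxzc, mul_assoc, z2, mul_one]
  have hcrit : ∀ y : G, (∀ e ∈ Q, e * x = x * e → y * e = e * y) → y * q0 = q0 * y →
      ∀ q ∈ Q, q * y = y * q := by
    intro y hyE hyq q hq
    rcases hcoset q hq with h | h
    · exact (hyE q hq h).symm
    · have h1 := hyE (q * q0⁻¹) (Q.mul_mem hq (Q.inv_mem hq0Q)) h
      calc q * y = (q * q0⁻¹) * (q0 * y) := by group
        _ = (q * q0⁻¹) * (y * q0) := by rw [hyq]
        _ = ((q * q0⁻¹) * y) * q0 := by group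
        _ = (y * (q * q0⁻¹)) * q0 := by rw [h1]
        _ = y * q := by group
  -- elements commuting with `E` and mapping `q0` to `z q0`
  have htwist : ∀ y : G, y * z = z * y → (∀ e ∈ Q, e * x = x * e → y * e = e * y) →
      y * q0 * y⁻¹ = z * q0 → ∀ q ∈ Q, q * (y * x) = (y * x) * q := by
    intro y hyz hyE h'
    have hy'E : ∀ e ∈ Q, e * x = x * e → (y * x) * e = e * (y * x) := by
      intro e he hex
      calc (y * x) * e = y * (x * e) := by group
        _ = y * (e * x) := by rw [hex]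
        _ = (y * e) * x := by group
        _ = (e * y) * x := by rw [hyE e he hex]
        _ = e * (y * x) := by group
    have hy'q : (y * x) * q0 = q0 * (y * x) := by
      apply comm_of_cj
      have hyzc : y * z * y⁻¹ = z := cj_of_comm hyz
      calc (y * x) * q0 * (y * x)⁻¹ = y * (x * q0 * x⁻¹) * y⁻¹ := by group
        _ = y * (q0 * z) * y⁻¹ := by rw [hxq0]
        _ = (y * q0 * y⁻¹) * (y * z * y⁻¹) := by group
        _ = z * q0 * z := by rw [h', hyzc]
        _ = q0 := by rw [← hq0z, mul_assoc, z2, mul_one]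
    exact hcrit (y * x) hy'E hy'q
  have hCQE : ∀ y ∈ Q, (∀ e ∈ Q, e * x = x * e → y * e = e * y) →
      y = 1 ∨ y = z ∨ y = x ∨ y = x * z := by
    intro y hyQ hyE
    rcases hES.comm_mem y hyQ q0 hq0Q with h | h
    · have h' : y * q0 = q0 * y := by
        apply comm_of_cj
        calc y * q0 * y⁻¹ = (y * q0 * y⁻¹ * q0⁻¹) * q0 := by group
          _ = q0 := by rw [h, one_mul]
      rcases hES.center_sub y hyQ (hcrit y hyE h') with h1 | h1
      · exact Or.inl h1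
      · exact Or.inr (Or.inl h1)
    · have h' : y * q0 * y⁻¹ = z * q0 := by
        calc y * q0 * y⁻¹ = (y * q0 * y⁻¹ * q0⁻¹) * q0 := by group
          _ = z * q0 := by rw [h]
      rcases hES.center_sub (y * x) (Q.mul_mem hyQ hxQ)
        (htwist y (hES.z_comm y hyQ) hyE h') with h1 | h1
      · right; right; left
        have : y = x⁻¹ := eq_inv_of_mul_eq_one_left h1
        rw [this, hxinv]
      · right; right; right
        have : y = z * x⁻¹ := eq_mul_inv_of_mul_eq h1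
        rw [this, hxinv, hxzc]
  have hcN : c ∈ Subgroup.normalizer (Q : Set G) := hN (mem_cent_single.mpr hcz.symm)
  have hq1Q : c * q0 * c⁻¹ ∈ Q := (Subgroup.mem_normalizer_iff.mp hcN q0).mp hq0Q
  obtain ⟨q1, hq1⟩ : ∃ q1, q1 = c * q0 * c⁻¹ := ⟨_, rfl⟩
  rw [← hq1] at hq1Q
  have heQ : q1 * q0⁻¹ ∈ Q := Q.mul_mem hq1Q (Q.inv_mem hq0Q)
  have hczc : c * z * c⁻¹ = z := cj_of_comm hcz
  have heE : ∀ e' ∈ Q, e' * x = x * e' → (q1 * q0⁻¹) * e' = e' * (q1 * q0⁻¹) := by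
    intro e' he' he'x
    have he'xc : e' * x * e'⁻¹ = x := cj_of_comm he'x
    have he'zc : e' * z * e'⁻¹ = z := cj_of_comm (hES.z_comm e' he')
    have hfQ : q0⁻¹ * e' * q0 ∈ Q := Q.mul_mem (Q.mul_mem (Q.inv_mem hq0Q) he') hq0Q
    have hfx : (q0⁻¹ * e' * q0) * x = x * (q0⁻¹ * e' * q0) := by
      apply comm_of_cj
      calc (q0⁻¹ * e' * q0) * x * (q0⁻¹ * e' * q0)⁻¹
          = q0⁻¹ * (e' * (q0 * x * q0⁻¹) * e'⁻¹) * q0 := by group
        _ = q0⁻¹ * (e' * (x * z) * e'⁻¹) * q0 := by rw [hq0]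
        _ = q0⁻¹ * ((e' * x * e'⁻¹) * (e' * z * e'⁻¹)) * q0 := by group
        _ = q0⁻¹ * (x * z) * q0 := by rw [he'xc, he'zc]
        _ = (q0⁻¹ * x * q0) * (q0⁻¹ * z * q0) := by group
        _ = x * z * z := by rw [hq0', hq0zi]
        _ = x := by rw [mul_assoc, z2, mul_one]
    have hcf := hcE _ hfQ hfx
    have hce' := hcE e' he' he'x
    have hce'c : c * e' * c⁻¹ = e' := cj_of_comm hce'
    have hcfc : c * (q0⁻¹ * e' * q0) * c⁻¹ = q0⁻¹ * e' * q0 := cj_of_comm hcf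
    have h2 : q1⁻¹ * e' * q1 = q0⁻¹ * e' * q0 := by
      calc q1⁻¹ * e' * q1 = (c * q0 * c⁻¹)⁻¹ * (c * e' * c⁻¹) * (c * q0 * c⁻¹) := by
            rw [hq1, hce'c]
        _ = c * (q0⁻¹ * e' * q0) * c⁻¹ := by group
        _ = q0⁻¹ * e' * q0 := hcfc
    apply comm_of_cj
    calc (q1 * q0⁻¹) * e' * (q1 * q0⁻¹)⁻¹ = q1 * (q0⁻¹ * e' * q0) * q1⁻¹ := by group
      _ = q1 * (q1⁻¹ * e' * q1) * q1⁻¹ := by rw [h2]
      _ = e' := by group
  have hq0sq : c * (q0 * q0) * c⁻¹ = q0 * q0 := by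
    rcases hES.sq_mem q0 hq0Q with h | h
    · rw [h]; group
    · rw [h]; exact hczc
  have hq1sq : q1 * q1 = q0 * q0 := by
    rw [hq1]
    calc c * q0 * c⁻¹ * (c * q0 * c⁻¹) = c * (q0 * q0) * c⁻¹ := by group
      _ = q0 * q0 := hq0sq
  rcases hCQE (q1 * q0⁻¹) heQ heE with he | he | he | he
  · -- q1 = q0
    have h1 : q1 = q0 := mul_inv_eq_one.mp he
    have h2 : c * q0 = q0 * c := by
      apply comm_of_cj
      rw [← hq1]; exact h1
    have h3 := hcrit c hcE h2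
    have h4 : c ∈ Q := hC (Subgroup.mem_centralizer_iff.mpr h3)
    rcases hES.center_sub c h4 h3 with h5 | h5
    · exact Or.inl h5
    · exact Or.inr (Or.inl h5)
  · -- q1 = z q0
    have h1 : c * q0 * c⁻¹ = z * q0 := by
      rw [← hq1]; exact eq_mul_of_mul_inv_eq he
    have h3 := htwist c hcz hcE h1
    have h4 : c * x ∈ Q := hC (Subgroup.mem_centralizer_iff.mpr h3)
    rcases hES.center_sub (c * x) h4 h3 with h5 | h5
    · right; right; left
      have : c = x⁻¹ := eq_inv_of_mul_eq_one_left h5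
      rw [this, hxinv]
    · right; right; right
      have : c = z * x⁻¹ := eq_mul_inv_of_mul_eq h5
      rw [this, hxinv, hxzc]
  · -- q1 = x q0 : impossible
    exfalso
    have h1 : q1 = x * q0 := eq_mul_of_mul_inv_eq he
    have h2 : q1 * q1 = z * (q0 * q0) := by
      rw [h1]
      calc x * q0 * (x * q0) = x * (q0 * x * q0⁻¹) * (q0 * q0) := by group
        _ = x * (x * z) * (q0 * q0) := by rw [hq0]
        _ = z * (q0 * q0) := by rw [← mul_assoc x x z, hx2, one_mul]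
    rw [hq1sq] at h2
    have h3 : (1 : G) * (q0 * q0) = z * (q0 * q0) := by rw [one_mul]; exact h2
    exact hES.z_ne (mul_right_cancel h3).symm
  · exfalso
    have h1 : q1 = x * z * q0 := eq_mul_of_mul_inv_eq he
    have h2 : q1 * q1 = z * (q0 * q0) := by
      rw [h1]
      calc x * z * q0 * (x * z * q0)
          = (x * z) * (q0 * x * q0⁻¹) * (q0 * z * q0⁻¹) * (q0 * q0) := by group
        _ = (x * z) * (x * z) * z * (q0 * q0) := by rw [hq0, hq0zc]
        _ = z * (q0 * q0) := by rw [hxz2, one_mul]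
    rw [hq1sq] at h2
    have h3 : (1 : G) * (q0 * q0) = z * (q0 * q0) := by rw [one_mul]; exact h2
    exact hES.z_ne (mul_right_cancel h3).symm


/-- the fusion lemma: if `x = g z g⁻¹ ∈ Q ∖ {z}` then some `q0 ∈ Q` swaps `x, xz` and some
`s ∈ C(x)` maps `z` to `xz` -/
theorem key_fusion [Finite G] {Q : Subgroup G} {z : G} (hES : ESData Q z)
    (hC : Subgroup.centralizer (Q : Set G) ≤ Q)
    (hN : Subgroup.centralizer ({z} : Set G) ≤ Subgroup.normalizer (Q : Set G))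
    (g : G) (hxQ : g * z * g⁻¹ ∈ Q) (hxz : g * z * g⁻¹ ≠ z) :
    ∃ q0 s : G, q0 ∈ Q ∧ q0 * (g * z * g⁻¹) * q0⁻¹ = g * z * g⁻¹ * z ∧
      s * (g * z * g⁻¹) = (g * z * g⁻¹) * s ∧ s * z * s⁻¹ = g * z * g⁻¹ * z := by
  obtain ⟨x, hxdef⟩ : ∃ x, x = g * z * g⁻¹ := ⟨_, rfl⟩
  rw [← hxdef] at hxQ hxz ⊢
  have z2 := hES.z_sq
  have hx2 : x * x = 1 := by
    rw [hxdef]
    calc g * z * g⁻¹ * (g * z * g⁻¹) = g * (z * z) * g⁻¹ := by group
      _ = 1 := by rw [z2]; group
  have hx1 : x ≠ 1 := by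
    intro h
    apply hES.z_ne
    have h' : g * z * g⁻¹ = 1 := by rw [← hxdef]; exact h
    calc z = g⁻¹ * (g * z * g⁻¹) * g := by group
      _ = 1 := by rw [h']; group
  have hxzc : x * z = z * x := hES.z_comm x hxQ
  obtain ⟨q0, hq0Q, hq0⟩ := exists_swap hES hxQ hx1 hxz
  obtain ⟨P, hP⟩ : ∃ P : Subgroup G, P = Q.map (MulAut.conj g).toMonoidHom := ⟨_, rfl⟩
  have hP2 : IsPGroup 2 P := by rw [hP]; exact hES.two.map _
  have hPmem : ∀ p, p ∈ P ↔ g⁻¹ * p * g ∈ Q := fun p => by rw [hP]; exact mem_map_conj_iff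
  have hPx : ∀ p ∈ P, p * x = x * p := by
    intro p hp
    have h1 := hES.z_comm _ ((hPmem p).mp hp)
    rw [hxdef]
    calc p * (g * z * g⁻¹) = g * ((g⁻¹ * p * g) * z) * g⁻¹ := by group
      _ = g * (z * (g⁻¹ * p * g)) * g⁻¹ := by rw [h1]
      _ = g * z * g⁻¹ * p := by group
  have hCP : ∀ c : G, (∀ p ∈ P, p * c = c * p) → c = 1 ∨ c = x := by
    intro c hc
    have h1 : g⁻¹ * c * g ∈ Subgroup.centralizer (Q : Set G) := by
      rw [Subgroup.mem_centralizer_iff]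
      intro q hq
      have hq' : g * q * g⁻¹ ∈ P := by
        rw [hPmem]
        have : g⁻¹ * (g * q * g⁻¹) * g = q := by group
        rw [this]; exact hq
      have h2 := hc _ hq'
      calc q * (g⁻¹ * c * g) = g⁻¹ * ((g * q * g⁻¹) * c) * g := by group
        _ = g⁻¹ * (c * (g * q * g⁻¹)) * g := by rw [h2]
        _ = g⁻¹ * c * g * q := by group
    have h3 : g⁻¹ * c * g ∈ Q := hC h1
    have h4 : ∀ q ∈ Q, q * (g⁻¹ * c * g) = (g⁻¹ * c * g) * q :=
      Subgroup.mem_centralizer_iff.mp h1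
    rcases hES.center_sub _ h3 h4 with h | h
    · left
      calc c = g * (g⁻¹ * c * g) * g⁻¹ := by group
        _ = 1 := by rw [h]; group
    · right
      calc c = g * (g⁻¹ * c * g) * g⁻¹ := by group
        _ = x := by rw [h, hxdef]
  have hNP : ∀ c : G, c * x = x * c → ∀ p, p ∈ P → c * p * c⁻¹ ∈ P := by
    intro c hc p hp
    have h1 : g⁻¹ * c * g ∈ Subgroup.centralizer ({z} : Set G) := by
      rw [mem_cent_single]
      rw [hxdef] at hc
      calc z * (g⁻¹ * c * g) = g⁻¹ * ((g * z * g⁻¹) * c) * g := by group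
        _ = g⁻¹ * (c * (g * z * g⁻¹)) * g := by rw [hc]
        _ = g⁻¹ * c * g * z := by group
    have h2 := hN h1
    have h3 := (Subgroup.mem_normalizer_iff.mp h2 (g⁻¹ * p * g)).mp ((hPmem p).mp hp)
    rw [hPmem]
    have : g⁻¹ * (c * p * c⁻¹) * g = g⁻¹ * c * g * (g⁻¹ * p * g) * (g⁻¹ * c * g)⁻¹ := by group
    rw [this]; exact h3
  obtain ⟨E, hE⟩ : ∃ E : Subgroup G, E = Q ⊓ Subgroup.centralizer ({x} : Set G) := ⟨_, rfl⟩
  have hEmem : ∀ e, e ∈ E ↔ e ∈ Q ∧ x * e = e * x := by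
    intro e; rw [hE, Subgroup.mem_inf, mem_cent_single]
  have hE2 : IsPGroup 2 E := by rw [hE]; exact hES.two.to_le inf_le_left
  have hEN : E ≤ Subgroup.normalizer (P : Set G) := by
    intro e he
    rw [Subgroup.mem_normalizer_iff]
    intro p
    have hex : e * x = x * e := ((hEmem e).mp he).2.symm
    constructor
    · exact hNP e hex p
    · intro h
      have hex' : e⁻¹ * x = x * e⁻¹ := by
        calc e⁻¹ * x = e⁻¹ * (x * e) * e⁻¹ := by group
          _ = e⁻¹ * (e * x) * e⁻¹ := by rw [hex]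
          _ = x * e⁻¹ := by group
      have h4 := hNP e⁻¹ hex' _ h
      have h5 : e⁻¹ * (e * p * e⁻¹) * e⁻¹⁻¹ = p := by group
      rwa [h5] at h4
  obtain ⟨T1, hT1⟩ : ∃ T1 : Subgroup G, T1 = E ⊔ P := ⟨_, rfl⟩
  have hT12 : IsPGroup 2 T1 := by rw [hT1]; exact hE2.to_sup_of_normal_right' hP2 hEN
  have hET1 : E ≤ T1 := by rw [hT1]; exact le_sup_left
  have hPT1 : P ≤ T1 := by rw [hT1]; exact le_sup_right
  have hT1x : ∀ t ∈ T1, t * x = x * t := by
    intro t ht
    have hle : T1 ≤ Subgroup.centralizer ({x} : Set G) := by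
      rw [hT1]
      apply sup_le
      · rw [hE]; exact inf_le_right
      · intro p hp; rw [mem_cent_single]; exact (hPx p hp).symm
    exact (mem_cent_single.mp (hle ht)).symm
  obtain ⟨T, hT⟩ : ∃ T : Subgroup G, T = T1 ⊓ Subgroup.centralizer ({z} : Set G) := ⟨_, rfl⟩
  have hTmem : ∀ t, t ∈ T ↔ t ∈ T1 ∧ z * t = t * z := by
    intro t; rw [hT, Subgroup.mem_inf, mem_cent_single]
  have hET : E ≤ T := by
    intro e he
    rw [hTmem]
    exact ⟨hET1 he, (hES.z_comm e ((hEmem e).mp he).1).symm⟩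
  have hzE : z ∈ E := (hEmem z).mpr ⟨hES.zQ, hxzc⟩
  have hTlt : T < T1 := by
    refine lt_of_le_of_ne (by rw [hT]; exact inf_le_left) ?_
    intro hTeq
    have hPz : ∀ p ∈ P, p * z = z * p := by
      intro p hp
      have : p ∈ T := by rw [hTeq]; exact hPT1 hp
      exact ((hTmem p).mp this).2.symm
    rcases hCP z hPz with h | h
    · exact hES.z_ne h
    · exact hxz h.symm
  obtain ⟨s, hsT1, hsT, hsN⟩ := exists_normalizing_not_mem hT12 hTlt
  have hsx : s * x = x * s := hT1x s hsT1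
  have hsz : ¬ (z * s = s * z) := fun h => hsT ((hTmem s).mpr ⟨hsT1, h⟩)
  have hz'T : s * z * s⁻¹ ∈ T := (Subgroup.mem_normalizer_iff.mp hsN z).mp (hET hzE)
  have hz'z : (s * z * s⁻¹) * z = z * (s * z * s⁻¹) := ((hTmem _).mp hz'T).2.symm
  have hz'E : ∀ e ∈ Q, e * x = x * e → (s * z * s⁻¹) * e = e * (s * z * s⁻¹) := by
    intro e heQ hex
    have heE : e ∈ E := (hEmem e).mpr ⟨heQ, hex.symm⟩
    have heT : e ∈ T := hET heE
    have h1 : s⁻¹ * e * s ∈ T := by
      apply (Subgroup.mem_normalizer_iff.mp hsN (s⁻¹ * e * s)).mpr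
      have h5 : s * (s⁻¹ * e * s) * s⁻¹ = e := by group
      rw [h5]; exact heT
    have h2 : z * (s⁻¹ * e * s) = (s⁻¹ * e * s) * z := ((hTmem _).mp h1).2
    calc (s * z * s⁻¹) * e = s * (z * (s⁻¹ * e * s)) * s⁻¹ := by group
      _ = s * ((s⁻¹ * e * s) * z) * s⁻¹ := by rw [h2]
      _ = e * (s * z * s⁻¹) := by group
  have hcases := central_lemma hES hC hN hxQ hx1 hxz hx2 hz'z hz'E
  refine ⟨q0, s, hq0Q, hq0, hsx, ?_⟩
  rcases hcases with h | h | h | h
  · exfalso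
    apply hES.z_ne
    calc z = s⁻¹ * (s * z * s⁻¹) * s := by group
      _ = 1 := by rw [h]; group
  · exfalso
    apply hsz
    exact (comm_of_cj h).symm
  · exfalso
    apply hxz
    have h1 : s⁻¹ * x * s = x := icj_of_comm hsx
    calc x = s⁻¹ * x * s := h1.symm
      _ = s⁻¹ * (s * z * s⁻¹) * s := by rw [h]
      _ = z := by group
  · exact h

theorem key_rho [Finite G] {Q : Subgroup G} {z : G} (hES : ESData Q z)
    (hC : Subgroup.centralizer (Q : Set G) ≤ Q)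
    (hN : Subgroup.centralizer ({z} : Set G) ≤ Subgroup.normalizer (Q : Set G))
    (g : G) (hxQ : g * z * g⁻¹ ∈ Q) (hxz : g * z * g⁻¹ ≠ z) :
    ∃ ρ : G, ρ * z * ρ⁻¹ = g * z * g⁻¹ ∧ ρ * (g * z * g⁻¹) * ρ⁻¹ = g * z * g⁻¹ * z := by
  obtain ⟨q0, s, hq0Q, hq0, hsx, hsz⟩ := key_fusion hES hC hN g hxQ hxz
  refine ⟨q0 * s, ?_, ?_⟩
  · have hq0z : q0 * z * q0⁻¹ = z := cj_of_comm (hES.z_comm q0 hq0Q)
    calc q0 * s * z * (q0 * s)⁻¹ = q0 * (s * z * s⁻¹) * q0⁻¹ := by group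
      _ = q0 * (g * z * g⁻¹ * z) * q0⁻¹ := by rw [hsz]
      _ = (q0 * (g * z * g⁻¹) * q0⁻¹) * (q0 * z * q0⁻¹) := by group
      _ = g * z * g⁻¹ * z * z := by rw [hq0, hq0z]
      _ = g * z * g⁻¹ := by rw [mul_assoc (g * z * g⁻¹) z z, hES.z_sq, mul_one]
  · have hsxc : s * (g * z * g⁻¹) * s⁻¹ = g * z * g⁻¹ := cj_of_comm hsx
    calc q0 * s * (g * z * g⁻¹) * (q0 * s)⁻¹
        = q0 * (s * (g * z * g⁻¹) * s⁻¹) * q0⁻¹ := by group
      _ = q0 * (g * z * g⁻¹) * q0⁻¹ := by rw [hsxc]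
      _ = g * z * g⁻¹ * z := hq0

/-- `Q` normalizes no nontrivial subgroup of odd order, given a noncentral involution `b ∈ Q`
such that `z` lies in a 2-subgroup `R` normal in `C(b)` -/
theorem large_of_normal2 [Finite G] {Q : Subgroup G} {z : G} (hES : ESData Q z)
    (hC : Subgroup.centralizer (Q : Set G) ≤ Q)
    (hN : Subgroup.centralizer ({z} : Set G) ≤ Subgroup.normalizer (Q : Set G))
    {b : G} (hbQ : b ∈ Q) (hb1 : b ≠ 1) (hbz : b ≠ z) (hb2 : b * b = 1)
    {R : Subgroup G} (hR2 : IsPGroup 2 R)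
    (hRn : ∀ c : G, c * b = b * c → ∀ r ∈ R, c * r * c⁻¹ ∈ R) (hzR : z ∈ R)
    {K : Subgroup G} (hK : Odd (Nat.card K)) (hQK : Q ≤ Subgroup.normalizer (K : Set G)) :
    K = ⊥ := by
  have z2 := hES.z_sq
  have hKn : ∀ q ∈ Q, ∀ k ∈ K, q * k * q⁻¹ ∈ K := fun q hq k hk =>
    (Subgroup.mem_normalizer_iff.mp (hQK hq) k).mp hk
  have hKQ : ∀ k ∈ K, k ∈ Q → k = 1 := fun k hk hkQ =>
    eq_one_of_mem_odd_of_mem_two hK hES.two hk hkQ
  have step1 : ∀ k ∈ K, z * k * z⁻¹ = k → k = 1 := by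
    intro k hk hzk
    have hzk' : z * k = k * z := comm_of_cj hzk
    have hkN : k ∈ Subgroup.normalizer (Q : Set G) := hN (mem_cent_single.mpr hzk')
    have hcent : ∀ q ∈ Q, q * k = k * q := by
      intro q hq
      have h1 : q * k * q⁻¹ * k⁻¹ ∈ K := K.mul_mem (hKn q hq k hk) (K.inv_mem hk)
      have h2 : q * k * q⁻¹ * k⁻¹ ∈ Q := by
        have h3 : k * q⁻¹ * k⁻¹ ∈ Q := (Subgroup.mem_normalizer_iff.mp hkN q⁻¹).mp (Q.inv_mem hq)
        have h4 : q * k * q⁻¹ * k⁻¹ = q * (k * q⁻¹ * k⁻¹) := by group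
        rw [h4]; exact Q.mul_mem hq h3
      have h5 := hKQ _ h1 h2
      apply comm_of_cj
      calc q * k * q⁻¹ = (q * k * q⁻¹ * k⁻¹) * k := by group
        _ = k := by rw [h5, one_mul]
    exact hKQ k hk (hC (Subgroup.mem_centralizer_iff.mpr hcent))
  have hzinv := inverts_of_fpf K z z2 (hKn z hES.zQ) step1
  have step3 : ∀ k ∈ K, b * k * b⁻¹ = k → k = 1 := by
    intro k hk hbk
    have hkb : k * b = b * k := (comm_of_cj hbk).symm
    have h1 : k * z⁻¹ * k⁻¹ ∈ R := hRn k hkb z⁻¹ (R.inv_mem hzR)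
    have h2 : z * (k * z⁻¹ * k⁻¹) ∈ R := R.mul_mem hzR h1
    have h3 : z * (k * z⁻¹ * k⁻¹) = k⁻¹ * k⁻¹ := by
      calc z * (k * z⁻¹ * k⁻¹) = (z * k * z⁻¹) * k⁻¹ := by group
        _ = k⁻¹ * k⁻¹ := by rw [hzinv k hk]
    rw [h3] at h2
    have h4 : k⁻¹ * k⁻¹ = 1 :=
      eq_one_of_mem_odd_of_mem_two hK hR2 (K.mul_mem (K.inv_mem hk) (K.inv_mem hk)) h2
    have h5 : k⁻¹ = 1 := eq_one_of_sq_of_odd hK (K.inv_mem hk) h4
    exact inv_eq_one.mp h5
  have hbinv := inverts_of_fpf K b hb2 (hKn b hbQ) step3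
  obtain ⟨q, hqQ, hq⟩ := exists_swap hES hbQ hb1 hbz
  rw [Subgroup.eq_bot_iff_forall]
  intro k hk
  have hbzk : ∀ k ∈ K, (b * z) * k * (b * z)⁻¹ = k := by
    intro k hk
    calc (b * z) * k * (b * z)⁻¹ = b * (z * k * z⁻¹) * b⁻¹ := by group
      _ = b * k⁻¹ * b⁻¹ := by rw [hzinv k hk]
      _ = (k⁻¹)⁻¹ := hbinv k⁻¹ (K.inv_mem hk)
      _ = k := inv_inv k
  have hk' : q⁻¹ * k * q ∈ K := by
    have := hKn q⁻¹ (Q.inv_mem hqQ) k hk
    rwa [inv_inv] at this
  have h1 : b * (q⁻¹ * k * q) * b⁻¹ = q⁻¹ * k * q := by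
    calc b * (q⁻¹ * k * q) * b⁻¹ = q⁻¹ * ((q * b * q⁻¹) * k * (q * b * q⁻¹)⁻¹) * q := by group
      _ = q⁻¹ * ((b * z) * k * (b * z)⁻¹) * q := by rw [hq]
      _ = q⁻¹ * k * q := by rw [hbzk k hk]
  have h2 := step3 _ hk' h1
  calc k = q * (q⁻¹ * k * q) * q⁻¹ := by group
    _ = 1 := by rw [h2]; group

end Cfsg.Agent.Lib.Helper2.ExtraSp
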