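import Cfsg.Agent.Lib.Helper2.ExtraSp

set_option autoImplicit false
open Cfsg
open scoped commutatorElement

namespace Cfsg.Agent.Lib.Helper2.ExtraSp

variable {G : Type*} [Group G]

/-- `C(g z g⁻¹)` normalizes `g Q g⁻¹` when `C(z)` normalizes `Q` -/
theorem conj_normalizes {Q : Subgroup G} {z : G}
    (hN : Subgroup.centralizer ({z} : Set G) ≤ Subgroup.normalizer (Q : Set G)) (g : G)
    {c : G} (hc : c * (g * z * g⁻¹) = (g * z * g⁻¹) * c) {p : G}
    (hp : p ∈ Q.map (MulAut.conj g).toMonoidHom) :
    c * p * c⁻¹ ∈ Q.map (MulAut.conj g).toMonoidHom := by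
  have h1 : g⁻¹ * c * g ∈ Subgroup.centralizer ({z} : Set G) := by
    rw [mem_cent_single]
    calc z * (g⁻¹ * c * g) = g⁻¹ * ((g * z * g⁻¹) * c) * g := by group
      _ = g⁻¹ * (c * (g * z * g⁻¹)) * g := by rw [hc]
      _ = g⁻¹ * c * g * z := by group
  have h2 := hN h1
  have h3 := (Subgroup.mem_normalizer_iff.mp h2 (g⁻¹ * p * g)).mp (mem_map_conj_iff.mp hp)
  rw [mem_map_conj_iff]
  have : g⁻¹ * (c * p * c⁻¹) * g = g⁻¹ * c * g * (g⁻¹ * p * g) * (g⁻¹ * c * g)⁻¹ := by group
  rw [this]; exact h3

/-- the four-group `{1, z, x, xz}` -/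
def fourSub (z x : G) (hz2 : z * z = 1) (hx2 : x * x = 1) (hc : x * z = z * x) : Subgroup G where
  carrier := {v | v = 1 ∨ v = z ∨ v = x ∨ v = x * z}
  one_mem' := Or.inl rfl
  mul_mem' := by
    have e1 : z * (x * z) = x := by rw [← mul_assoc, ← hc, mul_assoc, hz2, mul_one]
    have e2 : x * (x * z) = z := by rw [← mul_assoc, hx2, one_mul]
    have e3 : x * z * z = x := by rw [mul_assoc, hz2, mul_one]
    have e4 : x * z * x = z := by rw [mul_assoc, ← hc, ← mul_assoc, hx2, one_mul]
    have e5 : x * z * (x * z) = 1 := by rw [← mul_assoc, e4, hz2]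
    rintro a b (rfl | rfl | rfl | rfl) (rfl | rfl | rfl | rfl)
    · left; rw [one_mul]
    · right; left; rw [one_mul]
    · right; right; left; rw [one_mul]
    · right; right; right; rw [one_mul]
    · right; left; rw [mul_one]
    · left; exact hz2
    · right; right; right; exact hc.symm
    · right; right; left; exact e1
    · right; right; left; rw [mul_one]
    · right; right; right; rfl
    · left; exact hx2
    · right; left; exact e2
    · right; right; right; rw [mul_one]
    · right; right; left; exact e3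
    · right; left; exact e4
    · left; exact e5
  inv_mem' := by
    rintro a (rfl | rfl | rfl | rfl)
    · left; exact inv_one
    · right; left; exact inv_eq_of_mul_eq_one_left hz2
    · right; right; left; exact inv_eq_of_mul_eq_one_left hx2
    · right; right; right
      apply inv_eq_of_mul_eq_one_left
      rw [← mul_assoc, mul_assoc x z x, ← hc, ← mul_assoc, hx2, one_mul, hz2]

theorem mem_fourSub {z x : G} (hz2 : z * z = 1) (hx2 : x * x = 1) (hc : x * z = z * x) (v : G) :
    v ∈ fourSub z x hz2 hx2 hc ↔ v = 1 ∨ v = z ∨ v = x ∨ v = x * z := Iff.rfl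

/-- one-sided invariance suffices for a finite subgroup -/
theorem mem_normalizer_of_conj_le {V : Subgroup G} [Finite V] {n : G}
    (h : ∀ v ∈ V, n * v * n⁻¹ ∈ V) : n ∈ Subgroup.normalizer (V : Set G) := by
  rw [Subgroup.mem_normalizer_iff]
  intro v
  refine ⟨h v, fun hv => ?_⟩
  let f : V → V := fun w => ⟨n * w * n⁻¹, h w w.2⟩
  have hinj : Function.Injective f := by
    intro a b hab
    have h1 : n * (a : G) * n⁻¹ = n * b * n⁻¹ := congrArg Subtype.val hab
    apply Subtype.ext
    calc (a : G) = n⁻¹ * (n * a * n⁻¹) * n := by group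
      _ = n⁻¹ * (n * b * n⁻¹) * n := by rw [h1]
      _ = b := by group
  obtain ⟨w, hw⟩ := (Finite.injective_iff_surjective.mp hinj) ⟨_, hv⟩
  have h1 : n * (w : G) * n⁻¹ = n * v * n⁻¹ := congrArg Subtype.val hw
  have h2 : (w : G) = v := by
    calc (w : G) = n⁻¹ * (n * w * n⁻¹) * n := by group
      _ = n⁻¹ * (n * v * n⁻¹) * n := by rw [h1]
      _ = v := by group
  rw [← h2]; exact w.2

/-- `|N(V) : C(V)| = 6` for a four-group `V = {1, z, x, xz}` whose three involutions are permuted
as `S₃` by the given elements -/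
theorem relIndex_six [Finite G] {V : Subgroup G} {z x : G}
    (hV : ∀ v, v ∈ V ↔ v = 1 ∨ v = z ∨ v = x ∨ v = x * z)
    (hz1 : z ≠ 1) (hx1 : x ≠ 1) (hxz : x ≠ z) (z2 : z * z = 1) (x2 : x * x = 1)
    (hc : x * z = z * x)
    (q0 s : G) (hq0z : q0 * z = z * q0) (hq0x : q0 * x * q0⁻¹ = x * z)
    (hsx : s * x = x * s) (hsz : s * z * s⁻¹ = x * z) :
    (Subgroup.centralizer (V : Set G)).relIndex (Subgroup.normalizer (V : Set G)) = 6 := by
  have hzV : z ∈ V := (hV z).mpr (Or.inr (Or.inl rfl))
  have hxV : x ∈ V := (hV x).mpr (Or.inr (Or.inr (Or.inl rfl)))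
  have hxzV : x * z ∈ V := (hV _).mpr (Or.inr (Or.inr (Or.inr rfl)))
  have hxz1 : x * z ≠ 1 := by
    intro h
    apply hxz
    have : x = z⁻¹ := eq_inv_of_mul_eq_one_left h
    rw [this]; exact inv_eq_of_mul_eq_one_left z2
  have hxzz : x * z ≠ z := by
    intro h
    apply hx1
    have h' : x * z = 1 * z := by rw [one_mul]; exact h
    exact mul_right_cancel h'
  have hxzx : x * z ≠ x := by
    intro h
    apply hz1
    have h' : x * z = x * 1 := by rw [mul_one]; exact h
    exact mul_left_cancel h'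
  have hq0zc : q0 * z * q0⁻¹ = z := cj_of_comm hq0z
  have hsxc : s * x * s⁻¹ = x := cj_of_comm hsx
  have hq0N : q0 ∈ Subgroup.normalizer (V : Set G) := by
    apply mem_normalizer_of_conj_le
    intro v hv
    rcases (hV v).mp hv with rfl | rfl | rfl | rfl
    · have : q0 * 1 * q0⁻¹ = 1 := by group
      rw [this]; exact V.one_mem
    · rw [hq0zc]; exact hzV
    · rw [hq0x]; exact hxzV
    · have : q0 * (x * z) * q0⁻¹ = (q0 * x * q0⁻¹) * (q0 * z * q0⁻¹) := by group
      rw [this, hq0x, hq0zc, mul_assoc, z2, mul_one]; exact hxV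
  have hsN : s ∈ Subgroup.normalizer (V : Set G) := by
    apply mem_normalizer_of_conj_le
    intro v hv
    rcases (hV v).mp hv with rfl | rfl | rfl | rfl
    · have : s * 1 * s⁻¹ = 1 := by group
      rw [this]; exact V.one_mem
    · rw [hsz]; exact hxzV
    · rw [hsxc]; exact hxV
    · have : s * (x * z) * s⁻¹ = (s * x * s⁻¹) * (s * z * s⁻¹) := by group
      rw [this, hsxc, hsz, ← mul_assoc, x2, one_mul]; exact hzV
  -- centralizer of V
  have hCmem : ∀ c : G, c ∈ Subgroup.centralizer (V : Set G) ↔ (c * z = z * c ∧ c * x = x * c) := by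
    intro c
    rw [Subgroup.mem_centralizer_iff]
    constructor
    · intro h
      exact ⟨(h z hzV).symm, (h x hxV).symm⟩
    · rintro ⟨h1, h2⟩ v hv
      rcases (hV v).mp hv with rfl | rfl | rfl | rfl
      · simp
      · exact h1.symm
      · exact h2.symm
      · calc x * z * c = x * (z * c) := by group
          _ = x * (c * z) := by rw [h1]
          _ = (x * c) * z := by group
          _ = (c * x) * z := by rw [h2]
          _ = c * (x * z) := by group
  obtain ⟨N, hNdef⟩ : ∃ N : Subgroup G, N = Subgroup.normalizer (V : Set G) := ⟨_, rfl⟩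
  obtain ⟨Cz, hCz⟩ : ∃ Cz : Subgroup G, Cz = Subgroup.normalizer (V : Set G) ⊓
      Subgroup.centralizer ({z} : Set G) := ⟨_, rfl⟩
  have hCzmem : ∀ c, c ∈ Cz ↔ c ∈ Subgroup.normalizer (V : Set G) ∧ z * c = c * z := by
    intro c; rw [hCz, Subgroup.mem_inf, mem_cent_single]
  have hCCz : Subgroup.centralizer (V : Set G) ≤ Cz := by
    intro c hc
    rw [hCzmem]
    exact ⟨Subgroup.centralizer_le_normalizer _ hc, ((hCmem c).mp hc).1.symm⟩
  have hCzN : Cz ≤ Subgroup.normalizer (V : Set G) := by rw [hCz]; exact inf_le_left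
  have h1 : (Subgroup.centralizer (V : Set G)).relIndex Cz = 2 := by
    rw [Subgroup.relIndex_eq_two_iff_exists_notMem_and]
    refine ⟨q0, (hCzmem q0).mpr ⟨hq0N, hq0z.symm⟩, ?_, ?_⟩
    · intro h
      have h2 := ((hCmem q0).mp h).2
      have h3 : q0 * x * q0⁻¹ = x := cj_of_comm h2
      rw [hq0x] at h3
      exact hxzx h3
    · intro b hb
      obtain ⟨hbN, hbz⟩ := (hCzmem b).mp hb
      have hbzc : b * z * b⁻¹ = z := cj_of_comm hbz.symm
      have hbx : b * x * b⁻¹ ∈ V := (Subgroup.mem_normalizer_iff.mp hbN x).mp hxV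
      rcases (hV _).mp hbx with h | h | h | h
      · exfalso
        apply hx1
        calc x = b⁻¹ * (b * x * b⁻¹) * b := by group
          _ = 1 := by rw [h]; group
      · exfalso
        apply hxz
        calc x = b⁻¹ * (b * x * b⁻¹) * b := by group
          _ = b⁻¹ * z * b := by rw [h]
          _ = z := icj_of_comm hbz.symm
      · right
        rw [hCmem]
        exact ⟨hbz.symm, comm_of_cj h⟩
      · left
        rw [hCmem]
        constructor
        · calc b * q0 * z = b * (q0 * z) := by group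
            _ = b * (z * q0) := by rw [hq0z]
            _ = (b * z) * q0 := by group
            _ = (z * b) * q0 := by rw [hbz]
            _ = z * (b * q0) := by group
        · apply comm_of_cj
          calc b * q0 * x * (b * q0)⁻¹ = b * (q0 * x * q0⁻¹) * b⁻¹ := by group
            _ = b * (x * z) * b⁻¹ := by rw [hq0x]
            _ = (b * x * b⁻¹) * (b * z * b⁻¹) := by group
            _ = x * z * z := by rw [h, hbzc]
            _ = x := by rw [mul_assoc, z2, mul_one]
  have h2 : Cz.relIndex (Subgroup.normalizer (V : Set G)) = 3 := by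
    have hst : Cz.subgroupOf (Subgroup.normalizer (V : Set G)) =
        MulAction.stabilizer ↥(Subgroup.normalizer (V : Set G)) (⟨z, hzV⟩ : ↥V) := by
      ext n
      rw [Subgroup.mem_subgroupOf, MulAction.mem_stabilizer_iff, hCzmem]
      constructor
      · rintro ⟨_, h⟩
        apply Subtype.ext
        show (n : G) * z * (n : G)⁻¹ = z
        exact cj_of_comm h.symm
      · intro h
        refine ⟨n.2, ?_⟩
        have h' : (n : G) * z * (n : G)⁻¹ = z := congrArg Subtype.val h
        exact (comm_of_cj h').symm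
    rw [Subgroup.relIndex, hst, MulAction.index_stabilizer, Set.ncard_eq_three]
    refine ⟨⟨z, hzV⟩, ⟨x, hxV⟩, ⟨x * z, hxzV⟩, ?_, ?_, ?_, ?_⟩
    · intro h; exact hxz (congrArg Subtype.val h).symm
    · intro h; exact hxzz (congrArg Subtype.val h).symm
    · intro h; exact hxzx (congrArg Subtype.val h).symm
    · ext v
      constructor
      · rintro ⟨n, rfl⟩
        have hval : ((n • (⟨z, hzV⟩ : ↥V) : ↥V) : G) = (n : G) * z * (n : G)⁻¹ := rfl
        have hmem := (n • (⟨z, hzV⟩ : ↥V) : ↥V).2
        rcases (hV _).mp hmem with h | h | h | h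
        · exfalso
          rw [hval] at h
          apply hz1
          calc z = (n : G)⁻¹ * ((n : G) * z * (n : G)⁻¹) * (n : G) := by group
            _ = 1 := by rw [h]; group
        · left; exact Subtype.ext h
        · right; left; exact Subtype.ext h
        · right; right; exact Subtype.ext h
      · rintro (rfl | rfl | rfl)
        · exact ⟨1, one_smul _ _⟩
        · refine ⟨⟨q0 * s, Subgroup.mul_mem _ hq0N hsN⟩, Subtype.ext ?_⟩
          show q0 * s * z * (q0 * s)⁻¹ = x
          calc q0 * s * z * (q0 * s)⁻¹ = q0 * (s * z * s⁻¹) * q0⁻¹ := by group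
            _ = q0 * (x * z) * q0⁻¹ := by rw [hsz]
            _ = (q0 * x * q0⁻¹) * (q0 * z * q0⁻¹) := by group
            _ = x * z * z := by rw [hq0x, hq0zc]
            _ = x := by rw [mul_assoc, z2, mul_one]
        · exact ⟨⟨s, hsN⟩, Subtype.ext hsz⟩
  have h3 := Subgroup.relIndex_mul_relIndex _ _ _ hCCz hCzN
  rw [h1, h2] at h3
  exact h3.symm

end Cfsg.Agent.Lib.Helper2.ExtraSp
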