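import Cfsg.Agent.Lib.Helper2.ExtraSp2

set_option autoImplicit false
open Cfsg
open scoped commutatorElement

namespace Cfsg.Agent.Lib.Helper2.ExtraSp

variable {G : Type*} [Group G]

/-- if `x = g z g⁻¹ ∈ Q ∖ {z}` then `z ∈ g Q g⁻¹` -/
theorem z_mem_conj [Finite G] {Q : Subgroup G} {z : G} (hES : ESData Q z)
    (hC : Subgroup.centralizer (Q : Set G) ≤ Q)
    (hN : Subgroup.centralizer ({z} : Set G) ≤ Subgroup.normalizer (Q : Set G))
    (g : G) (hxQ : g * z * g⁻¹ ∈ Q) (hxz : g * z * g⁻¹ ≠ z) :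
    z ∈ Q.map (MulAut.conj g).toMonoidHom := by
  obtain ⟨ρ, hρz, hρx⟩ := key_rho hES hC hN g hxQ hxz
  have hxP : g * z * g⁻¹ ∈ Q.map (MulAut.conj g).toMonoidHom := by
    rw [mem_map_conj_iff]
    have : g⁻¹ * (g * z * g⁻¹) * g = z := by group
    rw [this]; exact hES.zQ
  have hcz : (g⁻¹ * ρ) * z = z * (g⁻¹ * ρ) := by
    apply comm_of_cj
    calc g⁻¹ * ρ * z * (g⁻¹ * ρ)⁻¹ = g⁻¹ * (ρ * z * ρ⁻¹) * g := by group
      _ = g⁻¹ * (g * z * g⁻¹) * g := by rw [hρz]
      _ = z := by group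
  have hcN : g⁻¹ * ρ ∈ Subgroup.normalizer (Q : Set G) := hN (mem_cent_single.mpr hcz.symm)
  have hxzP : g * z * g⁻¹ * z ∈ Q.map (MulAut.conj g).toMonoidHom := by
    rw [mem_map_conj_iff, ← hρx]
    have h1 := (Subgroup.mem_normalizer_iff.mp hcN (g * z * g⁻¹)).mp hxQ
    have h2 : g⁻¹ * (ρ * (g * z * g⁻¹) * ρ⁻¹) * g
        = g⁻¹ * ρ * (g * z * g⁻¹) * (g⁻¹ * ρ)⁻¹ := by group
    rw [h2]; exact h1
  have h1 := Subgroup.mul_mem _ (Subgroup.inv_mem _ hxP) hxzP
  have h2 : (g * z * g⁻¹)⁻¹ * (g * z * g⁻¹ * z) = z := by group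
  rwa [h2] at h1

/-- `Q` normalizes no nontrivial subgroup of odd order when `z` is not weakly closed in `Q` -/
theorem large_of_conj [Finite G] {Q : Subgroup G} {z : G} (hES : ESData Q z)
    (hC : Subgroup.centralizer (Q : Set G) ≤ Q)
    (hN : Subgroup.centralizer ({z} : Set G) ≤ Subgroup.normalizer (Q : Set G))
    (g : G) (hxQ : g * z * g⁻¹ ∈ Q) (hxz : g * z * g⁻¹ ≠ z)
    {K : Subgroup G} (hK : Odd (Nat.card K)) (hQK : Q ≤ Subgroup.normalizer (K : Set G)) :
    K = ⊥ := by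
  have z2 := hES.z_sq
  have hx2 : (g * z * g⁻¹) * (g * z * g⁻¹) = 1 := by
    calc g * z * g⁻¹ * (g * z * g⁻¹) = g * (z * z) * g⁻¹ := by group
      _ = 1 := by rw [z2]; group
  have hx1 : g * z * g⁻¹ ≠ 1 := by
    intro h
    apply hES.z_ne
    calc z = g⁻¹ * (g * z * g⁻¹) * g := by group
      _ = 1 := by rw [h]; group
  exact large_of_normal2 hES hC hN hxQ hx1 hxz hx2 (hES.two.map _)
    (fun c hc r hr => conj_normalizes hN g hc hr) (z_mem_conj hES hC hN g hxQ hxz) hK hQK

theorem mem_zpowers_two {z v : G} (hz : orderOf z = 2) (hv : v ∈ Subgroup.zpowers z) :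
    v = 1 ∨ v = z := by
  obtain ⟨k, rfl⟩ := Subgroup.mem_zpowers_iff.mp hv
  rw [← zpow_mod_orderOf, hz]
  rcases Int.emod_two_eq_zero_or_one k with h | h
  · left
    have h' : k % ((2 : ℕ) : ℤ) = 0 := by simpa using h
    rw [h']; simp
  · right
    have : k % ((2 : ℕ) : ℤ) = 1 := by simpa using h
    rw [this]; simp

/-- a subgroup inverted by an involution acting without fixed points has odd order -/
theorem odd_of_inverts [Finite G] {K : Subgroup G} {t : G}
    (hinv : ∀ k ∈ K, t * k * t⁻¹ = k⁻¹) (hfpf : ∀ k ∈ K, t * k * t⁻¹ = k → k = 1) :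
    Odd (Nat.card K) := by
  rw [← Nat.not_even_iff_odd, even_iff_two_dvd]
  intro h2
  obtain ⟨k, hk⟩ := exists_prime_orderOf_dvd_card' 2 h2
  have hk2 : (k : G) * k = 1 := by
    have : k ^ 2 = 1 := by rw [← hk]; exact pow_orderOf_eq_one k
    have := congrArg Subtype.val this
    simpa [pow_two] using this
  have hkinv : (k : G)⁻¹ = k := inv_eq_of_mul_eq_one_left hk2
  have h1 := hinv k k.2
  rw [hkinv] at h1
  have h3 := hfpf k k.2 h1
  have : k = 1 := Subtype.ext h3
  rw [this, orderOf_one] at hk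
  norm_num at hk

/-- transfer of the extraspecial data from a subgroup `H` to the ambient group -/
theorem ESData.map_subtype {H : Subgroup G} {Q : Subgroup H} {z : H} (h : ESData Q z) :
    ESData (Q.map H.subtype) (z : G) where
  two := h.two.map _
  zQ := Subgroup.mem_map.mpr ⟨z, h.zQ, rfl⟩
  z_ne := fun hz => h.z_ne (Subtype.ext hz)
  z_sq := by
    have := congrArg Subtype.val h.z_sq
    simpa using this
  z_comm := by
    rintro _ ⟨q, hq, rfl⟩
    have := congrArg Subtype.val (h.z_comm q hq)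
    simpa using this
  center_sub := by
    rintro _ ⟨c, hc, rfl⟩ hcc
    have h1 : ∀ q ∈ Q, q * c = c * q := by
      intro q hq
      apply Subtype.ext
      have := hcc (q : G) (Subgroup.mem_map.mpr ⟨q, hq, rfl⟩)
      simpa using this
    rcases h.center_sub c hc h1 with h2 | h2
    · left; rw [h2]; rfl
    · right; rw [h2]; rfl
  comm_mem := by
    rintro _ ⟨a, ha, rfl⟩ _ ⟨b, hb, rfl⟩
    rcases h.comm_mem a ha b hb with h2 | h2
    · left
      have := congrArg Subtype.val h2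
      simpa using this
    · right
      have := congrArg Subtype.val h2
      simpa using this
  sq_mem := by
    rintro _ ⟨a, ha, rfl⟩
    rcases h.sq_mem a ha with h2 | h2
    · left
      have := congrArg Subtype.val h2
      simpa using this
    · right
      have := congrArg Subtype.val h2
      simpa using this

/-- a normal subgroup containing `C_G(z)` is everything -/
theorem eq_top_of_centralizer_le [Finite G] {Q : Subgroup G} {z : G} (hES : ESData Q z)
    (hC : Subgroup.centralizer (Q : Set G) ≤ Q)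
    {N : Subgroup G} [N.Normal] (hHN : Subgroup.centralizer ({z} : Set G) ≤ N) : N = ⊤ := by
  obtain ⟨H, hH⟩ : ∃ H : Subgroup G, H = Subgroup.centralizer ({z} : Set G) := ⟨_, rfl⟩
  rw [← hH] at hHN
  have hHmem : ∀ c, c ∈ H ↔ z * c = c * z := fun c => by rw [hH, mem_cent_single]
  have hQH : Q ≤ H := fun q hq => (hHmem q).mpr (hES.z_comm q hq).symm
  -- a maximal 2-subgroup of `H` containing `Q`
  have hQ2 : IsPGroup 2 (Q.subgroupOf H) := hES.two.of_equiv (Subgroup.subgroupOfEquivOfLe hQH).symm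
  obtain ⟨T', hT'⟩ := hQ2.exists_le_sylow
  obtain ⟨T, hT⟩ : ∃ T : Subgroup G, T = (T' : Subgroup H).map H.subtype := ⟨_, rfl⟩
  have hTH : T ≤ H := by rw [hT]; exact Subgroup.map_subtype_le _
  have hT2 : IsPGroup 2 T := by rw [hT]; exact T'.isPGroup'.map _
  have hQT : Q ≤ T := by
    intro q hq
    rw [hT]
    exact Subgroup.mem_map.mpr ⟨⟨q, hQH hq⟩, hT' (Subgroup.mem_subgroupOf.mpr hq), rfl⟩
  have hzT : z ∈ T := hQT hES.zQ
  have hTz : ∀ t ∈ T, t * z = z * t := fun t ht => ((hHmem t).mp (hTH ht)).symm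
  have hZT : ∀ c ∈ T, (∀ t ∈ T, t * c = c * t) → c = 1 ∨ c = z := by
    intro c hc hcc
    have h1 : c ∈ Subgroup.centralizer (Q : Set G) :=
      Subgroup.mem_centralizer_iff.mpr (fun q hq => hcc q (hQT hq))
    exact hES.center_sub c (hC h1) (fun q hq => hcc q (hQT hq))
  have hNT : Subgroup.normalizer (T : Set G) ≤ H := by
    intro n hn
    rw [hHmem]
    have h1 : n * z * n⁻¹ ∈ T := (Subgroup.mem_normalizer_iff.mp hn z).mp hzT
    have h2 : ∀ t ∈ T, t * (n * z * n⁻¹) = (n * z * n⁻¹) * t := by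
      intro t ht
      have h3 : n⁻¹ * t * n ∈ T := by
        apply (Subgroup.mem_normalizer_iff.mp hn _).mpr
        have : n * (n⁻¹ * t * n) * n⁻¹ = t := by group
        rw [this]; exact ht
      have h4 := hTz _ h3
      calc t * (n * z * n⁻¹) = n * ((n⁻¹ * t * n) * z) * n⁻¹ := by group
        _ = n * (z * (n⁻¹ * t * n)) * n⁻¹ := by rw [h4]
        _ = (n * z * n⁻¹) * t := by group
    rcases hZT _ h1 h2 with h | h
    · exfalso
      apply hES.z_ne
      calc z = n⁻¹ * (n * z * n⁻¹) * n := by group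
        _ = 1 := by rw [h]; group
    · exact (comm_of_cj h).symm
  -- `T` is a maximal 2-subgroup of `G`
  have hmax : ∀ {S : Subgroup G}, IsPGroup 2 S → T ≤ S → S = T := by
    intro S hS hTS
    by_contra hne
    have hlt : T < S := lt_of_le_of_ne hTS (Ne.symm hne)
    obtain ⟨s, hsS, hsT, hsN⟩ := exists_normalizing_not_mem hS hlt
    have hsH : s ∈ H := hNT hsN
    have hzs : IsPGroup 2 (Subgroup.zpowers s) :=
      hS.to_le (by rw [Subgroup.zpowers_le]; exact hsS)
    have hT2' : IsPGroup 2 (T ⊔ Subgroup.zpowers s : Subgroup G) :=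
      hT2.to_sup_of_normal_left' hzs (by rw [Subgroup.zpowers_le]; exact hsN)
    have hle : T ⊔ Subgroup.zpowers s ≤ H :=
      sup_le hTH (by rw [Subgroup.zpowers_le]; exact hsH)
    have hp : IsPGroup 2 ((T ⊔ Subgroup.zpowers s).subgroupOf H) :=
      hT2'.of_equiv (Subgroup.subgroupOfEquivOfLe hle).symm
    have hT'le : (T' : Subgroup H) ≤ (T ⊔ Subgroup.zpowers s).subgroupOf H := by
      intro t ht
      rw [Subgroup.mem_subgroupOf]
      apply Subgroup.mem_sup_left
      rw [hT]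
      exact Subgroup.mem_map.mpr ⟨t, ht, rfl⟩
    have heq := T'.is_maximal' hp hT'le
    have hs' : (⟨s, hsH⟩ : H) ∈ (T ⊔ Subgroup.zpowers s).subgroupOf H := by
      rw [Subgroup.mem_subgroupOf]
      exact Subgroup.mem_sup_right (Subgroup.mem_zpowers s)
    rw [heq] at hs'
    apply hsT
    rw [hT]
    exact Subgroup.mem_map.mpr ⟨⟨s, hsH⟩, hs', rfl⟩
  let P : Sylow 2 G := ⟨T, hT2, fun hS hTS => hmax hS hTS⟩
  have hPN : (P : Subgroup G) ≤ N := hTH.trans hHN
  have h1 : Subgroup.normalizer (T : Set G) ⊔ N = ⊤ := Sylow.normalizer_sup_eq_top' P hPN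
  have h2 : Subgroup.normalizer (T : Set G) ≤ N := hNT.trans hHN
  rw [sup_eq_right.mpr h2] at h1
  exact h1

end Cfsg.Agent.Lib.Helper2.ExtraSp
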