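import Cfsg.Agent.Lib.Helper2.ExtraSp3

set_option autoImplicit false
open Cfsg
open scoped commutatorElement

namespace Cfsg.Agent.Lib.Helper2.ExtraSp

variable {G : Type*} [Group G]

/-- converse of `esdata_of_extraspecial`: the elementwise data plus non-commutativity give an
extraspecial group -/
theorem extraspecial_of_esdata [Finite G] {D : Subgroup G} {z : G} (h : ESData D z)
    (hna : ∃ a ∈ D, ∃ b ∈ D, a * b * a⁻¹ * b⁻¹ = z) : IsExtraspecial 2 ↥D := by
  obtain ⟨a, ha, b, hb, hab⟩ := hna
  obtain ⟨zD, hzD⟩ : ∃ zD : ↥D, zD = ⟨z, h.zQ⟩ := ⟨_, rfl⟩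
  have hzDval : (zD : G) = z := by rw [hzD]
  have hzc : zD ∈ Subgroup.center ↥D := by
    rw [Subgroup.mem_center_iff]
    intro d
    apply Subtype.ext
    rw [Subgroup.coe_mul, Subgroup.coe_mul, hzDval]
    exact h.z_comm d.1 d.2
  have hcen : ∀ c : ↥D, c ∈ Subgroup.center ↥D ↔ (c = 1 ∨ c = zD) := by
    intro c
    constructor
    · intro hc
      have h1 : ∀ q ∈ D, q * (c : G) = (c : G) * q := fun q hq =>
        congrArg Subtype.val (Subgroup.mem_center_iff.mp hc ⟨q, hq⟩)
      rcases h.center_sub c.1 c.2 h1 with h2 | h2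
      · left; exact Subtype.ext h2
      · right; apply Subtype.ext; rw [hzDval]; exact h2
    · rintro (h2 | h2)
      · rw [h2]; exact Subgroup.one_mem _
      · rw [h2]; exact hzc
  have hcomm : commutator ↥D = Subgroup.center ↥D := by
    apply le_antisymm
    · rw [commutator_def, Subgroup.commutator_le]
      intro x _ y _
      rw [hcen]
      rcases h.comm_mem x.1 x.2 y.1 y.2 with h2 | h2
      · left; apply Subtype.ext; simpa [commutatorElement_def] using h2
      · right; apply Subtype.ext; rw [hzDval]; simpa [commutatorElement_def] using h2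
    · intro c hc
      rcases (hcen c).mp hc with h2 | h2
      · rw [h2]; exact Subgroup.one_mem _
      · have h3 : zD = ⁅(⟨a, ha⟩ : ↥D), ⟨b, hb⟩⁆ := by
          apply Subtype.ext
          rw [hzDval]
          simp [commutatorElement_def, hab]
        rw [h2, h3, commutator_def]
        exact Subgroup.commutator_mem_commutator (Subgroup.mem_top _) (Subgroup.mem_top _)
  have hfr : frattini ↥D = Subgroup.center ↥D := by
    apply le_antisymm
    · apply Cfsg.Agent.Lib.Helper1.frattini_le_of_elementary_quotient 2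
      · rw [hcomm]
      · intro x
        rw [hcen]
        rcases h.sq_mem x.1 x.2 with h2 | h2
        · left; apply Subtype.ext; simpa [pow_two] using h2
        · right; apply Subtype.ext; rw [hzDval]; simpa [pow_two] using h2
    · rw [← hcomm]
      exact Cfsg.Agent.Lib.Helper1.commutator_le_frattini_of_isPGroup 2 h.two
  refine ⟨⟨h.two, hfr, hcomm⟩, ?_⟩
  rw [Nat.card_eq_two_iff]
  refine ⟨⟨1, Subgroup.one_mem _⟩, ⟨zD, hzc⟩, ?_, ?_⟩
  · intro h2
    apply h.z_ne
    have h3 := congrArg (fun c : Subgroup.center ↥D => ((c : ↥D) : G)) h2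
    simp only [hzDval] at h3
    exact h3.symm
  · ext c
    simp only [Set.mem_insert_iff, Set.mem_singleton_iff, Set.mem_univ, iff_true]
    rcases (hcen c.1).mp c.2 with h2 | h2
    · left; exact Subtype.ext h2
    · right; exact Subtype.ext h2

end Cfsg.Agent.Lib.Helper2.ExtraSp
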