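import Cfsg.Agent.Lib.Helper2.ExtraSp

set_option autoImplicit false
set_option maxHeartbeats 4000000
set_option linter.unusedVariables false
set_option linter.style.longLine false
set_option linter.unusedSimpArgs false

/-! Two elementwise facts on an extraspecial 2-group `Q` of order at least 32 (data `ESData Q z`):
(A) outside a "subgroup of index 2" there is an involution; (B) the centralizer in `Q` of a noncentral
element is nonabelian. -/

namespace Cfsg.Agent.Lib.Helper2.ExtraSp

variable {G : Type*} [Group G]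

theorem exists_mem_not_mem_list [Finite G] {Q : Subgroup G} (l : List G)
    (h : l.length < Nat.card Q) : ∃ x ∈ Q, x ∉ l := by
  classical
  by_contra hcon
  push Not at hcon
  have hinj : Function.Injective (fun x : Q => (⟨x.1, List.mem_toFinset.mpr (hcon x.1 x.2)⟩ : l.toFinset)) := by
    intro a b hab
    exact Subtype.ext (congrArg (fun t : l.toFinset => (t : G)) hab)
  have h1 : Nat.card Q ≤ Nat.card l.toFinset := Nat.card_le_card_of_injective _ hinj
  have h2 : Nat.card l.toFinset = l.toFinset.card := by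
    rw [Nat.card_eq_fintype_card, Fintype.card_coe]
  have h3 := List.toFinset_card_le l
  omega

/-- conjugation by `c` of a product, when `c` moves both factors by `z` -/
theorem cj_mul_of_moves {Q : Subgroup G} {z : G} (hES : ESData Q z) {a b c : G}
    (ha : c * a * c⁻¹ = a * z) (hb : c * b * c⁻¹ = b * z) (hbQ : b ∈ Q) :
    c * (a * b) * c⁻¹ = a * b := by
  have hzb : b * z = z * b := hES.z_comm b hbQ
  calc c * (a * b) * c⁻¹ = (c * a * c⁻¹) * (c * b * c⁻¹) := by group
    _ = a * z * (b * z) := by rw [ha, hb]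
    _ = a * (z * b) * z := by group
    _ = a * (b * z) * z := by rw [hzb]
    _ = a * b * (z * z) := by group
    _ = a * b := by rw [hES.z_sq, mul_one]

/-- either `c` commutes with `a`, or it moves `a` to `a z` -/
theorem cj_cases {Q : Subgroup G} {z : G} (hES : ESData Q z) {a c : G} (haQ : a ∈ Q) (hcQ : c ∈ Q) :
    c * a * c⁻¹ = a ∨ c * a * c⁻¹ = a * z := by
  rcases hES.comm_mem c hcQ a haQ with h | h
  · left
    calc c * a * c⁻¹ = (c * a * c⁻¹ * a⁻¹) * a := by group
      _ = a := by rw [h, one_mul]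
  · right
    calc c * a * c⁻¹ = (c * a * c⁻¹ * a⁻¹) * a := by group
      _ = z * a := by rw [h]
      _ = a * z := (hES.z_comm a haQ).symm

/-- (B) the centralizer in `Q` of a noncentral element `z0` contains `x, y` with `[x, y] = z` -/
theorem exists_noncomm_in_centralizer [Finite G] {Q : Subgroup G} {z : G} (hES : ESData Q z)
    (hcard : 8 < Nat.card Q) {z0 : G} (hz0Q : z0 ∈ Q) (hz01 : z0 ≠ 1) (hz0z : z0 ≠ z) :
    ∃ x ∈ Q, ∃ y ∈ Q, x * z0 = z0 * x ∧ y * z0 = z0 * y ∧ x * y * x⁻¹ * y⁻¹ = z := by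
  classical
  have z2 := hES.z_sq
  obtain ⟨e, heQ, he⟩ := exists_swap hES hz0Q hz01 hz0z
  have heinv : e⁻¹ * z0 * e = z0 * z := by
    have hez : e⁻¹ * z * e = z := icj_of_comm (hES.z_comm e heQ)
    have h1 : e⁻¹ * (z0 * z) * e = z0 := by rw [← he]; group
    calc e⁻¹ * z0 * e = e⁻¹ * (z0 * z * z) * e := by rw [mul_assoc z0 z z, z2, mul_one]
      _ = (e⁻¹ * (z0 * z) * e) * (e⁻¹ * z * e) := by group
      _ = z0 * z := by rw [h1, hez]
  -- an element c2 of C_Q(z0) outside {1, z, z0, z0 z}
  obtain ⟨x, hxQ, hxl⟩ := exists_mem_not_mem_list (Q := Q)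
    [1, z, z0, z0 * z, e⁻¹, z * e⁻¹, z0 * e⁻¹, z0 * z * e⁻¹] (by simpa using hcard)
  simp only [List.mem_cons, List.not_mem_nil, or_false, not_or] at hxl
  obtain ⟨hx1, hx2, hx3, hx4, hx5, hx6, hx7, hx8⟩ := hxl
  obtain ⟨c2, hc2Q, hc2c, hc21, hc2z, hc2z0, hc2z0z⟩ : ∃ c2 ∈ Q, c2 * z0 * c2⁻¹ = z0 ∧ c2 ≠ 1 ∧
      c2 ≠ z ∧ c2 ≠ z0 ∧ c2 ≠ z0 * z := by
    rcases cj_cases hES hz0Q hxQ with h | h
    · exact ⟨x, hxQ, h, hx1, hx2, hx3, hx4⟩
    · refine ⟨x * e, Q.mul_mem hxQ heQ, ?_, ?_, ?_, ?_, ?_⟩
      · have hxz : x * z * x⁻¹ = z := cj_of_comm (hES.z_comm x hxQ)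
        calc x * e * z0 * (x * e)⁻¹ = x * (e * z0 * e⁻¹) * x⁻¹ := by group
          _ = x * (z0 * z) * x⁻¹ := by rw [he]
          _ = (x * z0 * x⁻¹) * (x * z * x⁻¹) := by group
          _ = z0 * z * z := by rw [h, hxz]
          _ = z0 := by rw [mul_assoc z0 z z, z2, mul_one]
      · intro h1
        apply hx5
        calc x = x * e * e⁻¹ := by group
          _ = e⁻¹ := by rw [h1, one_mul]
      · intro h1
        apply hx6
        calc x = x * e * e⁻¹ := by group
          _ = z * e⁻¹ := by rw [h1]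
      · intro h1
        apply hx7
        calc x = x * e * e⁻¹ := by group
          _ = z0 * e⁻¹ := by rw [h1]
      · intro h1
        apply hx8
        calc x = x * e * e⁻¹ := by group
          _ = z0 * z * e⁻¹ := by rw [h1]
  by_contra hcon
  push Not at hcon
  -- all pairs in C_Q(z0) commute
  have hab : ∀ a ∈ Q, ∀ b ∈ Q, a * z0 = z0 * a → b * z0 = z0 * b → a * b = b * a := by
    intro a ha b hb haz hbz
    rcases hES.comm_mem a ha b hb with h | h
    · have : a * b * a⁻¹ = b := by
        calc a * b * a⁻¹ = (a * b * a⁻¹ * b⁻¹) * b := by group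
          _ = b := by rw [h, one_mul]
      exact comm_of_cj this
    · exact absurd h (hcon a ha b hb haz hbz)
  -- an element of C_Q(z0) commuting with e is central
  have hcentral : ∀ w ∈ Q, w * z0 = z0 * w → w * e = e * w → w = 1 ∨ w = z := by
    intro w hw hwz hwe
    apply hES.center_sub w hw
    intro q hq
    rcases cj_cases hES hz0Q hq with h | h
    · exact hab q hq w hw (comm_of_cj h) hwz
    · have hqe : (q * e⁻¹) * z0 = z0 * (q * e⁻¹) := by
        apply comm_of_cj
        have hqz : q * z * q⁻¹ = z := cj_of_comm (hES.z_comm q hq)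
        calc q * e⁻¹ * z0 * (q * e⁻¹)⁻¹ = q * (e⁻¹ * z0 * e) * q⁻¹ := by group
          _ = q * (z0 * z) * q⁻¹ := by rw [heinv]
          _ = (q * z0 * q⁻¹) * (q * z * q⁻¹) := by group
          _ = z0 * z * z := by rw [h, hqz]
          _ = z0 := by rw [mul_assoc z0 z z, z2, mul_one]
      have h1 : (q * e⁻¹) * w = w * (q * e⁻¹) :=
        hab _ (Q.mul_mem hq (Q.inv_mem heQ)) w hw hqe hwz
      calc q * w = (q * e⁻¹) * (e * w) := by group
        _ = (q * e⁻¹) * (w * e) := by rw [hwe]
        _ = ((q * e⁻¹) * w) * e := by group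
        _ = (w * (q * e⁻¹)) * e := by rw [h1]
        _ = w * q := by group
  have hc2z0comm : c2 * z0 = z0 * c2 := comm_of_cj hc2c
  -- e moves c2
  have hec2 : e * c2 * e⁻¹ = c2 * z := by
    rcases cj_cases hES hc2Q heQ with h | h
    · rcases hcentral c2 hc2Q hc2z0comm (comm_of_cj h).symm with h1 | h1
      · exact absurd h1 hc21
      · exact absurd h1 hc2z
    · exact h
  have hw' : e * (z0 * c2) * e⁻¹ = z0 * c2 := cj_mul_of_moves hES he hec2 hc2Q
  have hw'z0 : (z0 * c2) * z0 = z0 * (z0 * c2) := by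
    calc z0 * c2 * z0 = z0 * (c2 * z0) := by group
      _ = z0 * (z0 * c2) := by rw [hc2z0comm]
  rcases hcentral (z0 * c2) (Q.mul_mem hz0Q hc2Q) hw'z0 (comm_of_cj hw').symm with h | h
  · -- c2 = z0⁻¹
    rcases hES.sq_mem z0 hz0Q with hs | hs
    · apply hc2z0
      calc c2 = z0 * z0 * c2 := by rw [hs, one_mul]
        _ = z0 * (z0 * c2) := by group
        _ = z0 := by rw [h, mul_one]
    · apply hc2z0z
      calc c2 = z * z * c2 := by rw [z2, one_mul]
        _ = z * (z0 * z0) * c2 := by rw [hs]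
        _ = z * z0 * (z0 * c2) := by group
        _ = z * z0 := by rw [h, mul_one]
        _ = z0 * z := (hES.z_comm z0 hz0Q).symm
  · rcases hES.sq_mem z0 hz0Q with hs | hs
    · apply hc2z0z
      calc c2 = z0 * z0 * c2 := by rw [hs, one_mul]
        _ = z0 * (z0 * c2) := by group
        _ = z0 * z := by rw [h]
    · apply hc2z0
      calc c2 = z * z * c2 := by rw [z2, one_mul]
        _ = z * (z0 * z0) * c2 := by rw [hs]
        _ = z * z0 * (z0 * c2) := by group
        _ = z * z0 * z := by rw [h]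
        _ = z0 * z * z := by rw [(hES.z_comm z0 hz0Q).symm]
        _ = z0 := by rw [mul_assoc z0 z z, z2, mul_one]

/-- (A) outside a subgroup `K` meeting `Q` in "index 2" there is an involution of `Q` -/
theorem exists_involution_not_mem [Finite G] {Q : Subgroup G} {z : G} (hES : ESData Q z)
    (hcard : 8 < Nat.card Q) (K : Subgroup G)
    (hmul : ∀ a ∈ Q, ∀ b ∈ Q, (a * b ∈ K ↔ (a ∈ K ↔ b ∈ K)))
    (hne : ∃ e ∈ Q, e ∉ K) : ∃ u ∈ Q, u ∉ K ∧ u * u = 1 := by
  classical
  have z2 := hES.z_sq
  have hz1 := hES.z_ne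
  by_contra hcon
  push Not at hcon
  have hno : ∀ u ∈ Q, u ∉ K → u * u = z := by
    intro u hu huK
    rcases hES.sq_mem u hu with h | h
    · exact absurd h (hcon u hu huK)
    · exact h
  obtain ⟨e0, he0Q, he0K⟩ := hne
  -- step 1
  have step1 : ∀ m ∈ Q, m ∈ K → m * m = 1 → m = 1 ∨ m = z := by
    intro m hm hmK hm2
    have hout : ∀ e ∈ Q, e ∉ K → e * m = m * e := by
      intro e he heK
      have hemK : e * m ∉ K := by
        rw [hmul e he m hm]
        intro h
        exact heK (h.mpr hmK)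
      have h1 := hno (e * m) (Q.mul_mem he hm) hemK
      rcases cj_cases hES he hm with h | h
      · exact (comm_of_cj h).symm
      · exfalso
        have h2 : e * m * (e * m) = e * (m * e * m⁻¹) * (m * m) := by group
        rw [h2, h, hm2, mul_one] at h1
        have h3 := hno e he heK
        have h4 : e * (e * z) = z * z := by
          calc e * (e * z) = (e * e) * z := by group
            _ = z * z := by rw [h3]
        rw [h4, z2] at h1
        exact hz1 h1.symm
    apply hES.center_sub m hm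
    intro q hq
    by_cases hqK : q ∈ K
    · have he0q : e0 * q ∉ K := by
        rw [hmul e0 he0Q q hq]
        intro h
        exact he0K (h.mpr hqK)
      have h1 := hout e0 he0Q he0K
      have h2 := hout (e0 * q) (Q.mul_mem he0Q hq) he0q
      calc q * m = e0⁻¹ * ((e0 * q) * m) := by group
        _ = e0⁻¹ * (m * (e0 * q)) := by rw [h2]
        _ = e0⁻¹ * (m * e0) * q := by group
        _ = e0⁻¹ * (e0 * m) * q := by rw [h1]
        _ = m * q := by group
    · exact hout q hq hqK
  -- step 2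
  have step2 : ∀ x ∈ Q, x ≠ 1 → x ≠ z → x * x = z := by
    intro x hx hx1 hxz
    by_cases hxK : x ∈ K
    · rcases hES.sq_mem x hx with h | h
      · rcases step1 x hx hxK h with h' | h'
        · exact absurd h' hx1
        · exact absurd h' hxz
      · exact h
    · exact hno x hx hxK
  -- claim N
  have claimN : ∀ x ∈ Q, ∀ y ∈ Q, x ≠ 1 → x ≠ z → y ≠ 1 → y ≠ z → y ≠ x → y ≠ x * z →
      x * y ≠ y * x := by
    intro x hx y hy hx1 hxz hy1 hyz hyx hyxz hcomm
    have hxx := step2 x hx hx1 hxz
    have hyy := step2 y hy hy1 hyz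
    have hxy1 : x * y ≠ 1 := by
      intro h
      apply hyxz
      calc y = x⁻¹ * (x * y) := by group
        _ = x⁻¹ := by rw [h, mul_one]
        _ = x⁻¹ * (z * z) := by rw [z2, mul_one]
        _ = x⁻¹ * (x * x) * z := by rw [hxx]; group
        _ = x * z := by group
    have hxyz : x * y ≠ z := by
      intro h
      apply hyx
      calc y = x⁻¹ * (x * y) := by group
        _ = x⁻¹ * z := by rw [h]
        _ = x⁻¹ * (x * x) := by rw [hxx]
        _ = x := by group
    have h1 := step2 (x * y) (Q.mul_mem hx hy) hxy1 hxyz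
    have h2 : x * y * (x * y) = (x * x) * (y * y) := by
      calc x * y * (x * y) = x * (y * x) * y := by group
        _ = x * (x * y) * y := by rw [hcomm]
        _ = (x * x) * (y * y) := by group
    rw [h2, hxx, hyy, z2] at h1
    exact hz1 h1.symm
  -- step 3
  obtain ⟨a, haQ, hal⟩ := exists_mem_not_mem_list (Q := Q) [1, z] (by simp; omega)
  simp only [List.mem_cons, List.not_mem_nil, or_false, not_or] at hal
  obtain ⟨ha1, haz⟩ := hal
  obtain ⟨b, hbQ, hbl⟩ := exists_mem_not_mem_list (Q := Q) [1, z, a, a * z] (by simp; omega)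
  simp only [List.mem_cons, List.not_mem_nil, or_false, not_or] at hbl
  obtain ⟨hb1, hbz, hba, hbaz⟩ := hbl
  obtain ⟨c, hcQ, hcl⟩ := exists_mem_not_mem_list (Q := Q)
    [1, z, a, a * z, b, b * z, a * b, a * b * z] (by simpa using hcard)
  simp only [List.mem_cons, List.not_mem_nil, or_false, not_or] at hcl
  obtain ⟨hc1, hcz, hca, hcaz, hcb, hcbz, hcab, hcabz⟩ := hcl
  have haa := step2 a haQ ha1 haz
  have hab1 : a * b ≠ 1 := by
    intro h
    apply hbaz
    calc b = a⁻¹ * (a * b) := by group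
      _ = a⁻¹ := by rw [h, mul_one]
      _ = a⁻¹ * (z * z) := by rw [z2, mul_one]
      _ = a⁻¹ * (a * a) * z := by rw [haa]; group
      _ = a * z := by group
  have habz : a * b ≠ z := by
    intro h
    apply hba
    calc b = a⁻¹ * (a * b) := by group
      _ = a⁻¹ * z := by rw [h]
      _ = a⁻¹ * (a * a) := by rw [haa]
      _ = a := by group
  have hca' : c * a * c⁻¹ = a * z := by
    rcases cj_cases hES haQ hcQ with h | h
    · exact absurd (comm_of_cj h).symm (claimN a haQ c hcQ ha1 haz hc1 hcz hca hcaz)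
    · exact h
  have hcb' : c * b * c⁻¹ = b * z := by
    rcases cj_cases hES hbQ hcQ with h | h
    · exact absurd (comm_of_cj h).symm (claimN b hbQ c hcQ hb1 hbz hc1 hcz hcb hcbz)
    · exact h
  have hcab' : c * (a * b) * c⁻¹ = a * b := cj_mul_of_moves hES hca' hcb' hbQ
  exact claimN (a * b) (Q.mul_mem haQ hbQ) c hcQ hab1 habz hc1 hcz hcab hcabz
    (comm_of_cj hcab').symm

end Cfsg.Agent.Lib.Helper2.ExtraSp
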