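import Mathlib
import Cfsg.Prelude.Def_Transfer
import Cfsg.Agent.Lib.Helper6.Extraspecial
import Cfsg.Agent.Lib.Helper6.Regular

/-!
# The order of an extraspecial group is an odd power of `p` (via character theory)
-/

set_option autoImplicit false

namespace Cfsg.Agent.Lib.Helper2

open Cfsg.Agent.Lib.Helper6

/-- a non-abelian finite group has a non-linear irreducible character -/
theorem exists_nonlinear_irrCharacter {G : Type*} [Group G] [Finite G]
    (h : ¬ IsMulCommutative G) : ∃ χ : G → ℂ, Cfsg.IsIrrCharacter G χ ∧ χ 1 ≠ 1 := by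
  classical
  haveI := Fintype.ofFinite G
  haveI : Fintype (Cfsg.IrrCharacter G) := Fintype.ofFinite _
  by_contra hcon
  push Not at hcon
  have h1 := sum_sq_degree (G := G)
  have h2 : ∑ χ : Cfsg.IrrCharacter G, (χ : G → ℂ) 1 ^ 2 = (Nat.card (Cfsg.IrrCharacter G) : ℂ) := by
    rw [Finset.sum_congr rfl (fun χ _ => by rw [hcon χ.1 χ.2, one_pow]), Finset.sum_const,
      Finset.card_univ, Nat.card_eq_fintype_card, nsmul_eq_mul, mul_one]
  rw [h2, card_irrCharacter] at h1
  have h3 : Nat.card (ConjClasses G) = Nat.card G := by exact_mod_cast h1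
  apply h
  rw [← commProb_eq_one_iff, commProb_def', h3]
  have : (Nat.card G : ℚ) ≠ 0 := by exact_mod_cast Nat.card_pos.ne'
  exact div_self this

/-- The order of an extraspecial `p`-group is `p ^ (2 * n + 1)` with `n ≥ 1`. -/
theorem card_extraspecial {P : Type*} [Group P] [Finite P] {p : ℕ} [Fact p.Prime]
    (h : Cfsg.IsExtraspecial p P) : ∃ n : ℕ, 1 ≤ n ∧ Nat.card P = p ^ (2 * n + 1) := by
  classical
  haveI := Fintype.ofFinite P
  have hp : p.Prime := Fact.out
  have hnc : ¬ IsMulCommutative P := by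
    intro hc
    have h1 : commutator P = ⊥ := by
      rw [commutator_def, Subgroup.commutator_eq_bot_iff_le_centralizer]
      intro x _
      rw [Subgroup.mem_centralizer_iff]
      intro y _
      exact (hc.is_comm.comm y x)
    have h2 := h.2
    rw [← h.1.2.2, h1, Subgroup.card_bot] at h2
    exact hp.one_lt.ne h2
  obtain ⟨χ, hχ, hχ1⟩ := exists_nonlinear_irrCharacter hnc
  obtain ⟨d, hd⟩ := IsCharacter.apply_one_eq_natCast (IsIrrCharacter.isCharacter hχ)
  obtain ⟨_, h2⟩ := extraspecial_nonlinear p h hχ hχ1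
  obtain ⟨m, hm⟩ := h.1.1.exists_card_eq
  rw [hd] at h2
  have h3 : p * d ^ 2 = Nat.card P := by exact_mod_cast h2
  rw [hm] at h3
  have hd1 : d ≠ 1 := by
    rintro rfl
    apply hχ1
    rw [hd]; simp
  have hdvd : d ∣ p ^ m := ⟨p * d, by rw [← h3]; ring⟩
  obtain ⟨n, -, rfl⟩ := (Nat.dvd_prime_pow hp).1 hdvd
  have hn : 1 ≤ n := by
    rcases Nat.eq_zero_or_pos n with rfl | hn
    · exact absurd (pow_zero p) hd1
    · exact hn
  refine ⟨n, hn, ?_⟩
  rw [hm, ← h3]
  ring

end Cfsg.Agent.Lib.Helper2
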