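import Mathlib
import Cfsg.Prelude.Def_ChevStructure
import Cfsg.Agent.Lib.Helper6.F4InvDefs
import Cfsg.Agent.Lib.Helper5.ChevTorusKer
import Cfsg.Agent.Lib.Helper5.ChevNConj

set_option autoImplicit false
set_option linter.style.haveILetI false

/-!
S4280 unit P2: the involutions of the split torus `H` of `F₄(F)` fall into the two `N`-classes of
`tA = h_{α_1}(-1)` and `tB = h_{α_3}(-1)`.
-/

namespace Cfsg.Agent.Lib.Helper2.F4Inv

open Cfsg Cfsg.Lie Cfsg.Agent.Lib.Helper5.ChevStruct Cfsg.Agent.Lib.Helper5.ChevSym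
  Cfsg.Agent.Lib.Helper5.MatPow Cfsg.Agent.Lib.Helper7.Ch2G Cfsg.Agent.Lib.Helper6.F4Inv

variable {F : Type*} [Field F]

/-- the inverse of the Cartan matrix of `F₄` -/
def cartInvF4 : Matrix (Fin chevF4.rank) (Fin chevF4.rank) ℤ :=
  fmat (lfun [[2, 3, 4, 2], [3, 6, 8, 4], [2, 4, 6, 3], [1, 2, 3, 2]]) chevF4.rank

theorem cart_mul_inv : fmat (cartanFn chevF4) chevF4.rank * cartInvF4 = 1 := by
  unfold cartInvF4
  rw [fmat_mul]
  exact fmat_eq_one _ _ (by decide +kernel)

/-- the torus parametrisation of `F₄` is injective (any field) -/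
theorem torHom_F4_injective : Function.Injective (torHom chevF4 F) := by
  rw [← MonoidHom.ker_eq_bot_iff, Subgroup.eq_bot_iff_forall]
  intro c hc
  rw [mem_ker_torHom_iff chevF4 memF4, MonoidHom.mem_ker] at hc
  have h := mpow_mpow (fmat (cartanFn chevF4) chevF4.rank) cartInvF4 c
  rw [hc, map_one, cart_mul_inv, mpow_one] at h
  exact h.symm

/-- an involution of `H` is `h_λ(-1)` with `λ ∈ {0,1}⁴` -/
theorem invol_diag_eq_F4 (h : GL chevF4.Idx F) (hh : h ∈ chevF4.diagonalSubgroup F)
    (h2 : h * h = 1) :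
    ∃ lam : Fin chevF4.rank → ℤ, (∀ j, lam j = 0 ∨ lam j = 1) ∧ h = hLam chevF4 F (-1) lam := by
  classical
  rw [← torHom_range chevF4 memF4] at hh
  obtain ⟨c, rfl⟩ := hh
  rw [← map_mul] at h2
  have hc : c * c = 1 := torHom_F4_injective (by rw [h2, map_one])
  have hcj : ∀ j, c j = 1 ∨ c j = -1 := by
    intro j
    have h1 : c j * c j = 1 := by
      have := congrFun hc j
      simpa using this
    have h2 : ((c j : Fˣ) : F) * ((c j : Fˣ) : F) = 1 := by
      rw [← Units.val_mul, h1, Units.val_one]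
    rcases mul_self_eq_one_iff.1 h2 with h3 | h3
    · left; exact Units.ext h3
    · right; apply Units.ext; rw [h3]; simp
  refine ⟨fun j => if c j = 1 then 0 else 1, fun j => by by_cases hj : c j = 1 <;> simp [hj], ?_⟩
  unfold hLam
  congr 1
  funext j
  by_cases hj : c j = 1
  · simp [hj]
  · rcases hcj j with h1 | h1
    · exact absurd h1 hj
    · simp [h1]

/-- `h_λ(-1)` depends only on `λ` modulo 2 -/
theorem hLam_neg_one_congr (D : ChevalleyDatum) (lam mu : Fin D.rank → ℤ)
    (h : ∀ j, Even (lam j - mu j)) : hLam D F (-1) lam = hLam D F (-1) mu := by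
  unfold hLam
  congr 1
  funext j
  obtain ⟨k, hk⟩ := h j
  have : lam j = mu j + (k + k) := by omega
  rw [this, zpow_add, ← two_mul, zpow_mul]
  simp

/-- a word of moves is valid from `λ` -/
def Valid (lam : Fin chevF4.rank → ℤ) : List (Fin chevF4.rank) → Prop
  | [] => True
  | i :: w => Odd (pairLam chevF4 lam (chevF4.simple i.val)) ∧ Valid (lam + Pi.single i 1) w

instance (lam : Fin chevF4.rank → ℤ) (w : List (Fin chevF4.rank)) : Decidable (Valid lam w) := by
  induction w generalizing lam with
  | nil => exact isTrue trivial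
  | cons i w ih =>
    unfold Valid
    exact inferInstanceAs (Decidable (_ ∧ _))

/-- the end point of a word of moves -/
def run (lam : Fin chevF4.rank → ℤ) : List (Fin chevF4.rank) → (Fin chevF4.rank → ℤ)
  | [] => lam
  | i :: w => run (lam + Pi.single i 1) w

theorem reach_of_valid (lam : Fin chevF4.rank → ℤ) (w : List (Fin chevF4.rank))
    (hv : Valid lam w) :
    ∃ n ∈ chevF4.monomialSubgroup F,
      n * hLam chevF4 F (-1) lam * n⁻¹ = hLam chevF4 F (-1) (run lam w) := by
  induction w generalizing lam with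
  | nil =>
    exact ⟨1, one_mem _, by rw [one_mul, inv_one, mul_one]; rfl⟩
  | cons i w ih =>
    obtain ⟨hodd, hv'⟩ := hv
    obtain ⟨n, hn, e⟩ := ih (lam + Pi.single i 1) hv'
    have hni : (nGL chevF4 memF4 i.val : GL chevF4.Idx F) ∈ chevF4.monomialSubgroup F :=
      nGL_mem chevF4 memF4 i.val i.isLt
    refine ⟨n * nGL chevF4 memF4 i.val, mul_mem hn hni, ?_⟩
    have e1 := Cfsg.Agent.Lib.Helper7.ChG2.nGL_conj_hLam_odd (F := F) chevF4 memF4 i lam hodd
    have e2 : n * nGL chevF4 memF4 i.val * hLam chevF4 F (-1) lam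
          * (n * nGL chevF4 memF4 i.val)⁻¹
        = n * (nGL chevF4 memF4 i.val * hLam chevF4 F (-1) lam * (nGL chevF4 memF4 i.val)⁻¹)
          * n⁻¹ := by group
    rw [e2, e1, e]
    rfl

/-- the vector with entries `0`, `1` of a Boolean vector -/
def vec (b : Fin chevF4.rank → Bool) : Fin chevF4.rank → ℤ := fun j => if b j then 1 else 0

/-- the certificate: a word of moves to `e_1` or to `e_3` -/
def cert (b : Fin chevF4.rank → Bool) : List ℕ :=
  match b ⟨0, by decide⟩, b ⟨1, by decide⟩, b ⟨2, by decide⟩, b ⟨3, by decide⟩ with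
  | false, false, false, true => []
  | false, false, true, false => [3, 2]
  | false, false, true, true => [2]
  | false, true, false, false => []
  | false, true, false, true => [2, 1, 2]
  | false, true, true, false => [1, 3, 2]
  | false, true, true, true => [1, 2]
  | true, false, false, false => [1, 0]
  | true, false, false, true => [1, 0, 2, 1, 2]
  | true, false, true, false => [3, 2, 1, 0, 2, 1, 2]
  | true, false, true, true => [2, 1, 0, 2, 1, 2]
  | true, true, false, false => [0]
  | true, true, false, true => [0, 2, 1, 2]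
  | true, true, true, false => [0, 1, 3, 2]
  | true, true, true, true => [0, 1, 2]
  | false, false, false, false => []

/-- words of natural numbers as words in `Fin 4` -/
def toFin (w : List ℕ) : List (Fin chevF4.rank) := w.map fun i => ⟨i % 4, Nat.mod_lt _ (by decide)⟩

theorem cert_ok : ∀ b : Fin chevF4.rank → Bool, (∃ j, b j = true) →
    Valid (vec b) (toFin (cert b)) ∧
      ((∀ j, Even (run (vec b) (toFin (cert b)) j - (Pi.single j1 1 : Fin chevF4.rank → ℤ) j)) ∨
       (∀ j, Even (run (vec b) (toFin (cert b)) j - (Pi.single j3 1 : Fin chevF4.rank → ℤ) j))) := by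
  decide +kernel

/-- **P2** -/
theorem diag_invol_F4 (h : GL chevF4.Idx F) (hh : h ∈ chevF4.diagonalSubgroup F)
    (h2 : h * h = 1) (h1 : h ≠ 1) :
    ∃ n ∈ chevF4.monomialSubgroup F, n * h * n⁻¹ = tA F ∨ n * h * n⁻¹ = tB F := by
  obtain ⟨lam, hlam, rfl⟩ := invol_diag_eq_F4 h hh h2
  let b : Fin chevF4.rank → Bool := fun j => decide (lam j = 1)
  have hvec : lam = vec b := by
    funext j
    unfold vec
    rcases hlam j with h0 | h0
    · simp [b, h0]
    · simp [b, h0]
  have hne : ∃ j, b j = true := by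
    by_contra hcon
    push Not at hcon
    apply h1
    have : lam = 0 := by
      funext j
      rcases hlam j with h0 | h0
      · exact h0
      · have := hcon j
        simp [b, h0] at this
    rw [this]
    exact Cfsg.Agent.Lib.Helper7.ChG2.hLam_zero chevF4 _
  obtain ⟨hv, hend⟩ := cert_ok b hne
  obtain ⟨n, hn, e⟩ := reach_of_valid (F := F) (vec b) (toFin (cert b)) hv
  refine ⟨n, hn, ?_⟩
  rw [hvec, e]
  rcases hend with hA | hB
  · left
    exact hLam_neg_one_congr chevF4 _ _ hA
  · right
    exact hLam_neg_one_congr chevF4 _ _ hB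

end Cfsg.Agent.Lib.Helper2.F4Inv
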