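import Mathlib
import Cfsg.Agent.Lib.Helper6.F4EvA1

set_option autoImplicit false
set_option linter.style.haveILetI false

/-!
# Farm F4EV (S2174), unit C: the eleven non-trivial local maxima of `W(F₄)` are conjugate to the
seven representatives (conjugation inside `N`, characteristic two).
-/

namespace Cfsg.Agent.Lib.Helper2.F4Ev

open Cfsg Cfsg.Lie Cfsg.Agent.Lib.Helper5.ChevSym Cfsg.Agent.Lib.Helper5.ChevStruct
  Cfsg.Agent.Lib.Helper5.F4T Cfsg.Agent.Lib.Helper6.F4Ev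

/-- for the `k`-th local maximum: the index `j` of the representative and the conjugating word -/
def h2_cData : List (ℕ × List ℕ) :=
  [(0, []),
   (0, [1, 2, 3, 1, 2, 1, 0]), (1, [2, 1, 2, 0, 1, 2, 3]), (3, [3, 2, 0, 1, 2, 3, 1, 0]),
   (2, [2, 1, 2, 3, 1, 2, 0, 1, 2, 0]), (2, [2, 1, 2, 3, 1, 2, 0, 1, 2, 1]),
   (2, [2, 1, 2, 0, 1, 2, 3, 2, 0, 1]), (4, [3, 2, 1, 2, 0, 1, 2]), (4, [3, 2, 1, 2, 3, 0, 1]),
   (5, [0, 1, 2, 3, 1, 2, 0]), (5, [0, 1, 2, 3, 1, 2, 1]), (6, [])]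

theorem h2_cData_chk : ∀ k < 12, 1 ≤ k →
    (∀ i ∈ (h2_cData.getD k (0, [])).2, i < chevF4.rank) ∧ (h2_cData.getD k (0, [])).1 < 7 ∧
    (∀ i ∈ lmF.getD k [], i < chevF4.rank) ∧
    (∀ i ∈ repF.getD (h2_cData.getD k (0, [])).1 [], i < chevF4.rank) ∧
    ∀ r < chevF4.nroots,
      wAct chevF4 ((h2_cData.getD k (0, [])).2 ++ lmF.getD k []
        ++ (h2_cData.getD k (0, [])).2.reverse) r
      = wAct chevF4 (repF.getD (h2_cData.getD k (0, [])).1 []) r := by decide +kernel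

variable {F : Type*} [Field F]

/-- Unit C -/
theorem h2_C_lm_conj_rep [CharP F 2] (k : ℕ) (hk1 : 1 ≤ k) (hk : k < 12) :
    ∃ u : List ℕ, Wd chevF4 u ∧ ∃ j < 7,
      (wGL chevF4 hF4 u * wGL chevF4 hF4 (lmF.getD k []) * (wGL chevF4 hF4 u)⁻¹ :
        GL chevF4.Idx F) = wGL chevF4 hF4 (repF.getD j []) := by
  obtain ⟨hu, hj, hl, hr, hact⟩ := h2_cData_chk k hk hk1
  refine ⟨(h2_cData.getD k (0, [])).2, hu, (h2_cData.getD k (0, [])).1, hj, ?_⟩
  rw [wGL_reverse_char2 chevF4 hF4 _ hu, ← wGL_append, ← wGL_append]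
  apply A1h_wGL_congr chevF4 hF4 _ _ _ hr hact
  intro i hi
  rw [List.mem_append, List.mem_append, List.mem_reverse] at hi
  rcases hi with (hi | hi) | hi
  · exact hu i hi
  · exact hl i hi
  · exact hu i hi

end Cfsg.Agent.Lib.Helper2.F4Ev
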