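import Mathlib
import Cfsg.Agent.Lib.Helper6.F4EvDefs
import Cfsg.Agent.Lib.Helper7.F4InvRank
import Cfsg.Agent.Lib.Helper5.ChevTwistN
import Cfsg.Agent.Lib.Helper5.ChevTwistPerfOrb

set_option autoImplicit false
set_option linter.style.haveILetI false

/-!
# Farm F4EV (S2174), unit P: the four representatives have order two.
-/

namespace Cfsg.Agent.Lib.Helper2.F4Ev

open Cfsg Cfsg.Lie Cfsg.Agent.Lib.Helper5.ChevSym Cfsg.Agent.Lib.Helper5.ChevSymP
  Cfsg.Agent.Lib.Helper5.ChevStruct Cfsg.Agent.Lib.Helper5.F4T Cfsg.Agent.Lib.Helper6.F4Ev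
  Cfsg.Agent.Lib.Helper7.F4Inv

theorem h2_comm_chk : commOK chevF4 47 44 = true ∧ commOK chevF4 39 45 = true := by decide

theorem h2_ent_chk :
    (entZ [(47, pOne)] 51 4 - 1) % 2 = 0 ∧ (entZ [(44, pOne)] 48 7 - 1) % 2 = 0 ∧
    (entZ [(47, pOne), (44, pOne)] 51 4 - 1) % 2 = 0 ∧
    (entZ [(39, pOne), (45, pOne)] 49 6 - 1) % 2 = 0 := by decide +kernel

variable {F : Type*} [Field F]

theorem h2_word_ne_one (hp : ((2 : ℕ) : F) = 0) (w : List (ℕ × PolyP)) (row col : chevF4.Idx)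
    (hrc : row ≠ col)
    (hodd : (entZ w (code chevF4 row) (code chevF4 col) - 1) % 2 = 0) :
    chevF4.wordMat F (evalWP ([] : List F) w) ≠ 1 := by
  intro h
  have h1 := entry_eq hp w row col
  rw [h, Matrix.one_apply_ne hrc, cast_eq_of_mod2 hp _ 1 hodd, Int.cast_one] at h1
  exact zero_ne_one h1

theorem h2_xGL_sq [CharP F 2] (r : ℕ) :
    (xGL chevF4 hF4 r (1 : F)) * xGL chevF4 hF4 r 1 = 1 := by
  rw [← xGL_add, CharTwo.add_self_eq_zero]
  apply Units.ext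
  rw [xGL_val, x_at_zero, Units.val_one]

theorem h2_pair_sq [CharP F 2] (a b : ℕ) (h : commOK chevF4 a b = true) :
    (xGL chevF4 hF4 a (1 : F) * xGL chevF4 hF4 b 1) * (xGL chevF4 hF4 a 1 * xGL chevF4 hF4 b 1)
      = 1 := by
  have hc := (xGL_commute chevF4 hF4 a b h (1 : F) 1).eq
  calc (xGL chevF4 hF4 a (1 : F) * xGL chevF4 hF4 b 1)
        * (xGL chevF4 hF4 a 1 * xGL chevF4 hF4 b 1)
      = xGL chevF4 hF4 a 1 * (xGL chevF4 hF4 b 1 * xGL chevF4 hF4 a 1) * xGL chevF4 hF4 b 1 := by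
        group
    _ = xGL chevF4 hF4 a 1 * (xGL chevF4 hF4 a 1 * xGL chevF4 hF4 b 1) * xGL chevF4 hF4 b 1 := by
        rw [hc]
    _ = (xGL chevF4 hF4 a 1 * xGL chevF4 hF4 a 1) * (xGL chevF4 hF4 b 1 * xGL chevF4 hF4 b 1) := by
        group
    _ = 1 := by rw [h2_xGL_sq, h2_xGL_sq, mul_one]

theorem h2_single_ne_one (hp : ((2 : ℕ) : F) = 0) (r : ℕ) (row col : chevF4.Idx) (hrc : row ≠ col)
    (hodd : (entZ [(r, pOne)] (code chevF4 row) (code chevF4 col) - 1) % 2 = 0) :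
    xGL chevF4 hF4 r (1 : F) ≠ 1 := by
  intro h
  apply h2_word_ne_one hp [(r, pOne)] row col hrc hodd
  have e : evalWP ([] : List F) [(r, pOne)] = [(r, 1)] := by
    simp [evalWP, pOne, evalPolyP, evalMonoP, monoVal]
  rw [e]
  have := congrArg Units.val h
  rw [xGL_val, Units.val_one] at this
  simp [ChevalleyDatum.wordMat, this]

theorem h2_pair_ne_one (hp : ((2 : ℕ) : F) = 0) (a b : ℕ) (row col : chevF4.Idx) (hrc : row ≠ col)
    (hodd : (entZ [(a, pOne), (b, pOne)] (code chevF4 row) (code chevF4 col) - 1) % 2 = 0) :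
    xGL chevF4 hF4 a (1 : F) * xGL chevF4 hF4 b 1 ≠ 1 := by
  intro h
  apply h2_word_ne_one hp [(a, pOne), (b, pOne)] row col hrc hodd
  have e : evalWP ([] : List F) [(a, pOne), (b, pOne)] = [(a, 1), (b, 1)] := by
    simp [evalWP, pOne, evalPolyP, evalMonoP, monoVal]
  rw [e]
  have := congrArg Units.val h
  rw [Units.val_mul, xGL_val, xGL_val, Units.val_one] at this
  simp [ChevalleyDatum.wordMat, this]

/-- Unit P -/
theorem h2_P_yGL_order [CharP F 2] (k : Fin 4) : orderOf (yGL F k) = 2 := by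
  have hp : ((2 : ℕ) : F) = 0 := CharP.cast_eq_zero F 2
  obtain ⟨c1, c2⟩ := h2_comm_chk
  obtain ⟨e0, e1, e2, e3⟩ := h2_ent_chk
  fin_cases k
  · show orderOf (xGL chevF4 hF4 47 (1 : F)) = 2
    refine orderOf_eq_prime (by rw [sq]; exact h2_xGL_sq 47) ?_
    exact h2_single_ne_one hp 47 (Sum.inr ⟨47, by decide⟩) (Sum.inr ⟨0, by decide⟩)
      (by decide) e0
  · show orderOf (xGL chevF4 hF4 44 (1 : F)) = 2
    refine orderOf_eq_prime (by rw [sq]; exact h2_xGL_sq 44) ?_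
    exact h2_single_ne_one hp 44 (Sum.inr ⟨44, by decide⟩) (Sum.inr ⟨3, by decide⟩)
      (by decide) e1
  · show orderOf (xGL chevF4 hF4 47 (1 : F) * xGL chevF4 hF4 44 1) = 2
    refine orderOf_eq_prime (by rw [sq]; exact h2_pair_sq 47 44 c1) ?_
    exact h2_pair_ne_one hp 47 44 (Sum.inr ⟨47, by decide⟩) (Sum.inr ⟨0, by decide⟩)
      (by decide) e2
  · show orderOf (xGL chevF4 hF4 39 (1 : F) * xGL chevF4 hF4 45 1) = 2
    refine orderOf_eq_prime (by rw [sq]; exact h2_pair_sq 39 45 c2) ?_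
    exact h2_pair_ne_one hp 39 45 (Sum.inr ⟨45, by decide⟩) (Sum.inr ⟨2, by decide⟩)
      (by decide) e3

end Cfsg.Agent.Lib.Helper2.F4Ev
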