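import Mathlib
import Cfsg.Agent.Lib.Helper6.F4EvDefs
import Cfsg.Agent.Lib.Helper5.F4T.Block

set_option autoImplicit false
set_option linter.style.haveILetI false

/-!
# Farm F4EV (S2174), unit R1: in characteristic two the short ideal is invariant under `F₄(q)`,
and the rank of the restriction of `y - 1` to it is a class invariant.
-/

namespace Cfsg.Agent.Lib.Helper2.F4Ev

open Cfsg Cfsg.Lie Cfsg.Agent.Lib.Helper5.ChevSym Cfsg.Agent.Lib.Helper5.ChevStruct
  Cfsg.Agent.Lib.Helper5.F4T Cfsg.Agent.Lib.Helper6.F4Ev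

open Cfsg.Agent.Lib.Helper5.Ree (BInv bInv_one)

variable {F : Type*} [Field F]

theorem h2_ish_eq : ishCode = iCodes := rfl

theorem h2_disj : ∀ n ∈ iCodes, memNat n qCodes = false := by decide

theorem h2_isQ_of_not_mem (i : chevF4.Idx) (hi : code chevF4 i ∉ ishCode) : isQ i := by
  by_contra h
  exact hi (h2_ish_eq ▸ not_isQ_mem i h)

theorem h2_not_isQ_of_mem (j : chevF4.Idx) (hj : code chevF4 j ∈ ishCode) : ¬ isQ j := by
  intro h
  have h1 := h2_disj _ (h2_ish_eq ▸ hj)
  unfold isQ at h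
  rw [h1] at h
  exact Bool.false_ne_true h

theorem h2_isQ_iff (i : chevF4.Idx) : isQ i ↔ code chevF4 i ∉ ishCode :=
  ⟨fun h hm => h2_not_isQ_of_mem i hm h, h2_isQ_of_not_mem i⟩

/-- every element of the group leaves the short ideal invariant -/
theorem h2_group_bInv [CharP F 2] (g : GL chevF4.Idx F) (hg : g ∈ chevF4.group F) :
    BInv isQ (g : Matrix chevF4.Idx chevF4.Idx F) := by
  have hp : ((2 : ℕ) : F) = 0 := CharP.cast_eq_zero F 2
  unfold ChevalleyDatum.group at hg
  induction hg using Subgroup.closure_induction'' with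
  | mem x hx =>
    obtain ⟨r, t, hx⟩ := hx
    rw [hx]
    have h := x_bInv hp r.val t
    unfold ChevalleyDatum.x at h
    rw [dif_pos r.2] at h
    exact h
  | inv_mem x hx =>
    obtain ⟨r, t, hx⟩ := hx
    have e : x = xGL chevF4 hF4 r.val t := by
      apply Units.ext
      rw [hx, xGL_val]
      unfold ChevalleyDatum.x
      rw [dif_pos r.2]
    rw [e]
    show BInv isQ (chevF4.x F r.val (-t))
    exact x_bInv hp r.val (-t)
  | one => exact bInv_one _
  | mul x y _ _ hx hy =>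
    rw [Units.val_mul]
    exact hx.mul _ hy

/-- Unit R1 (first part) -/
theorem h2_R1_group_block [CharP F 2] (g : GL chevF4.Idx F) (hg : g ∈ chevF4.group F)
    (i j : chevF4.Idx) (hi : code chevF4 i ∉ ishCode) (hj : code chevF4 j ∈ ishCode) :
    (g : Matrix chevF4.Idx chevF4.Idx F) i j = 0 :=
  h2_group_bInv g hg i j (h2_isQ_of_not_mem i hi) (h2_not_isQ_of_mem j hj)

/-- the restriction to the short ideal is multiplicative when the right factor leaves it
invariant -/
theorem h2_resI_mul (A B : Matrix chevF4.Idx chevF4.Idx F) (hB : BInv isQ B) :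
    resI F (A * B) = resI F A * resI F B := by
  classical
  ext i j
  simp only [resI, Matrix.submatrix_apply, Matrix.mul_apply]
  have hj : ¬ isQ j.1 := h2_not_isQ_of_mem j.1 j.2
  rw [← Fintype.sum_subtype_add_sum_subtype (fun k : chevF4.Idx => code chevF4 k ∈ ishCode)
    (fun k => A i.1 k * B k j.1)]
  have h0 : ∑ k : {k : chevF4.Idx // ¬ code chevF4 k ∈ ishCode}, A i.1 k.1 * B k.1 j.1 = 0 := by
    apply Finset.sum_eq_zero
    intro k _
    rw [hB k.1 j.1 (h2_isQ_of_not_mem k.1 k.2) hj, mul_zero]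
  rw [h0, add_zero]

theorem h2_bInv_sub_one {M : Matrix chevF4.Idx chevF4.Idx F} (hM : BInv isQ M) :
    BInv isQ (M - 1) := by
  intro i j hi hj
  rw [Matrix.sub_apply, hM i j hi hj, bInv_one isQ i j hi hj, sub_zero]

/-- one inequality of the rank invariance -/
theorem h2_rank_resI_conj_le [CharP F 2] (h : GL chevF4.Idx F) (hh : h ∈ chevF4.group F)
    (M : Matrix chevF4.Idx chevF4.Idx F) (hM : BInv isQ M) :
    (resI F ((h : Matrix chevF4.Idx chevF4.Idx F) * M
      * ((h⁻¹ : GL chevF4.Idx F) : Matrix chevF4.Idx chevF4.Idx F))).rank ≤ (resI F M).rank := by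
  have h1 := h2_group_bInv h⁻¹ (inv_mem hh)
  rw [h2_resI_mul _ _ h1, h2_resI_mul _ _ hM]
  exact (Matrix.rank_mul_le_left _ _).trans (Matrix.rank_mul_le_right _ _)

/-- Unit R1 (second part; `y` in the group) -/
theorem h2_R1_rank_resI_conj [CharP F 2] (h : GL chevF4.Idx F) (hh : h ∈ chevF4.group F)
    (y : GL chevF4.Idx F) (hy : y ∈ chevF4.group F) :
    (resI F (((h * y * h⁻¹ : GL chevF4.Idx F) : Matrix chevF4.Idx chevF4.Idx F) - 1)).rank =
      (resI F ((y : Matrix chevF4.Idx chevF4.Idx F) - 1)).rank := by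
  have hM := h2_bInv_sub_one (h2_group_bInv y hy)
  have e1 : ((h * y * h⁻¹ : GL chevF4.Idx F) : Matrix chevF4.Idx chevF4.Idx F) - 1
      = (h : Matrix chevF4.Idx chevF4.Idx F) * ((y : Matrix chevF4.Idx chevF4.Idx F) - 1)
        * ((h⁻¹ : GL chevF4.Idx F) : Matrix chevF4.Idx chevF4.Idx F) := by
    rw [Matrix.mul_sub, Matrix.sub_mul, mul_one, ← Units.val_mul, ← Units.val_mul,
      ← Units.val_mul, mul_inv_cancel, Units.val_one]
  have hM' : BInv isQ ((h : Matrix chevF4.Idx chevF4.Idx F)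
      * ((y : Matrix chevF4.Idx chevF4.Idx F) - 1)
      * ((h⁻¹ : GL chevF4.Idx F) : Matrix chevF4.Idx chevF4.Idx F)) :=
    ((h2_group_bInv h hh).mul _ hM).mul _ (h2_group_bInv h⁻¹ (inv_mem hh))
  have e2 : (y : Matrix chevF4.Idx chevF4.Idx F) - 1
      = ((h⁻¹ : GL chevF4.Idx F) : Matrix chevF4.Idx chevF4.Idx F)
        * ((h : Matrix chevF4.Idx chevF4.Idx F) * ((y : Matrix chevF4.Idx chevF4.Idx F) - 1)
          * ((h⁻¹ : GL chevF4.Idx F) : Matrix chevF4.Idx chevF4.Idx F))
        * (((h⁻¹)⁻¹ : GL chevF4.Idx F) : Matrix chevF4.Idx chevF4.Idx F) := by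
    rw [inv_inv]
    have a1 : ((h⁻¹ : GL chevF4.Idx F) : Matrix chevF4.Idx chevF4.Idx F)
        * (h : Matrix chevF4.Idx chevF4.Idx F) = 1 := by
      rw [← Units.val_mul, inv_mul_cancel, Units.val_one]
    calc (y : Matrix chevF4.Idx chevF4.Idx F) - 1
        = (((h⁻¹ : GL chevF4.Idx F) : Matrix chevF4.Idx chevF4.Idx F)
            * (h : Matrix chevF4.Idx chevF4.Idx F)) * ((y : Matrix chevF4.Idx chevF4.Idx F) - 1)
          * (((h⁻¹ : GL chevF4.Idx F) : Matrix chevF4.Idx chevF4.Idx F)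
            * (h : Matrix chevF4.Idx chevF4.Idx F)) := by rw [a1, one_mul, mul_one]
      _ = _ := by simp only [mul_assoc]
  rw [e1]
  apply le_antisymm
  · exact h2_rank_resI_conj_le h hh _ hM
  · have := h2_rank_resI_conj_le h⁻¹ (inv_mem hh) _ hM'
    rw [← e2] at this
    exact this

end Cfsg.Agent.Lib.Helper2.F4Ev
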