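import Mathlib
import Cfsg.Agent.Lib.Helper2.F4EvR1

set_option autoImplicit false
set_option linter.style.haveILetI false

/-!
# Farm F4EV (S2174), unit R3: the four representatives are pairwise not conjugate
(from the rank bounds of unit R2, taken here as a hypothesis).
-/

namespace Cfsg.Agent.Lib.Helper2.F4Ev

open Cfsg Cfsg.Lie Cfsg.Agent.Lib.Helper5.ChevSym Cfsg.Agent.Lib.Helper5.ChevStruct
  Cfsg.Agent.Lib.Helper5.F4T Cfsg.Agent.Lib.Helper6.F4Ev

variable {F : Type*} [Field F]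

/-- the rank of `y - 1` is a class invariant in `GL` -/
theorem h2_rank_conj {ι : Type*} [Fintype ι] [DecidableEq ι] (h y : GL ι F) :
    (((h * y * h⁻¹ : GL ι F) : Matrix ι ι F) - 1).rank = ((y : Matrix ι ι F) - 1).rank := by
  have key : ∀ a z : GL ι F,
      (((a * z * a⁻¹ : GL ι F) : Matrix ι ι F) - 1).rank ≤ ((z : Matrix ι ι F) - 1).rank := by
    intro a z
    have e1 : ((a * z * a⁻¹ : GL ι F) : Matrix ι ι F) - 1
        = (a : Matrix ι ι F) * ((z : Matrix ι ι F) - 1) * ((a⁻¹ : GL ι F) : Matrix ι ι F) := by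
      rw [Matrix.mul_sub, Matrix.sub_mul, mul_one, ← Units.val_mul, ← Units.val_mul,
        ← Units.val_mul, mul_inv_cancel, Units.val_one]
    rw [e1]
    exact (Matrix.rank_mul_le_left _ _).trans (Matrix.rank_mul_le_right _ _)
  apply le_antisymm (key h y)
  have := key h⁻¹ (h * y * h⁻¹)
  have e : h⁻¹ * (h * y * h⁻¹) * h⁻¹⁻¹ = y := by group
  rw [e] at this
  exact this

/-- the statement of unit R2 -/
def h2_R2Stmt (F : Type*) [Field F] : Prop :=
    ((yGL F 0 : Matrix chevF4.Idx chevF4.Idx F) - 1).rank ≤ 16 ∧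
    ((yGL F 1 : Matrix chevF4.Idx chevF4.Idx F) - 1).rank ≤ 16 ∧
    17 ≤ ((yGL F 2 : Matrix chevF4.Idx chevF4.Idx F) - 1).rank ∧
    ((yGL F 2 : Matrix chevF4.Idx chevF4.Idx F) - 1).rank ≤ 21 ∧
    22 ≤ ((yGL F 3 : Matrix chevF4.Idx chevF4.Idx F) - 1).rank ∧
    (resI F ((yGL F 0 : Matrix chevF4.Idx chevF4.Idx F) - 1)).rank ≤ 6 ∧
    7 ≤ (resI F ((yGL F 1 : Matrix chevF4.Idx chevF4.Idx F) - 1)).rank

theorem h2_sep {a b m n : ℕ} (ha : a ≤ m) (hb : n ≤ b) (hmn : m < n) (e : a = b) : False := by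
  omega

theorem h2_fin4_sep (r ρ : Fin 4 → ℕ) (r0 : r 0 ≤ 16) (r1 : r 1 ≤ 16) (r2l : 17 ≤ r 2)
    (r2u : r 2 ≤ 21) (r3 : 22 ≤ r 3) (s0 : ρ 0 ≤ 6) (s1 : 7 ≤ ρ 1) (k l : Fin 4)
    (hr : r l = r k) (hs : ρ l = ρ k) : k = l := by
  fin_cases k <;> fin_cases l <;>
  first
  | rfl
  | exact (h2_sep s0 s1 (by norm_num) hs).elim
  | exact (h2_sep s0 s1 (by norm_num) hs.symm).elim
  | exact (h2_sep r0 r2l (by norm_num) hr).elim
  | exact (h2_sep r0 r2l (by norm_num) hr.symm).elim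
  | exact (h2_sep r0 r3 (by norm_num) hr).elim
  | exact (h2_sep r0 r3 (by norm_num) hr.symm).elim
  | exact (h2_sep r1 r2l (by norm_num) hr).elim
  | exact (h2_sep r1 r2l (by norm_num) hr.symm).elim
  | exact (h2_sep r1 r3 (by norm_num) hr).elim
  | exact (h2_sep r1 r3 (by norm_num) hr.symm).elim
  | exact (h2_sep r2u r3 (by norm_num) hr).elim
  | exact (h2_sep r2u r3 (by norm_num) hr.symm).elim

/-- Unit R3, from the rank bounds -/
theorem h2_R_not_conj_of [CharP F 2] (hR2 : h2_R2Stmt F) (k l : Fin 4) (h : GL chevF4.Idx F)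
    (hh : h ∈ chevF4.group F) (e : h * yGL F k * h⁻¹ = yGL F l) : k = l := by
  obtain ⟨r0, r1, r2l, r2u, r3, s0, s1⟩ := hR2
  have hr : ((yGL F l : Matrix chevF4.Idx chevF4.Idx F) - 1).rank
      = ((yGL F k : Matrix chevF4.Idx chevF4.Idx F) - 1).rank := by
    rw [← e]
    exact h2_rank_conj h (yGL F k)
  have hs : (resI F ((yGL F l : Matrix chevF4.Idx chevF4.Idx F) - 1)).rank
      = (resI F ((yGL F k : Matrix chevF4.Idx chevF4.Idx F) - 1)).rank := by
    rw [← e]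
    exact h2_R1_rank_resI_conj h hh (yGL F k) (yGL_mem_group F k)
  exact h2_fin4_sep (fun k => ((yGL F k : Matrix chevF4.Idx chevF4.Idx F) - 1).rank)
    (fun k => (resI F ((yGL F k : Matrix chevF4.Idx chevF4.Idx F) - 1)).rank)
    r0 r1 r2l r2u r3 s0 s1 k l hr hs

end Cfsg.Agent.Lib.Helper2.F4Ev
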