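import Mathlib
import Cfsg.Prelude.Def_Local
import Cfsg.Prelude.Def_PLocal
import Cfsg.Prelude.Def_LocalEven
import Cfsg.Prelude.Def_Transfer
import Cfsg.Agent.S2800
import Cfsg.Agent.S0071
import Cfsg.Agent.Lib.Helper7.FG19Defs

set_option autoImplicit false
set_option linter.unusedSectionVars false
set_option linter.unusedVariables false
set_option linter.style.haveILetI false

/-!
Farm FG19 (statement S4411), unit V: a group without a normal `p`-complement has a local `p'`-element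
(Glauberman–Thompson `S2800` and Frobenius `S0071`).
-/

universe u

namespace Cfsg.Agent.Lib.Helper2.FG19

open Cfsg Cfsg.Agent.Lib.Helper7.FG19

variable {p q : ℕ} [Fact p.Prime] [Fact q.Prime]

/-- a subgroup `M` without a normal `p`-complement contains a `p`-subgroup `Q` and a `p'`-element `g`
normalising but not centralising `Q` (everything seen in the big group) -/
theorem exists_local_in_subgroup {W : Type u} [Group W] [Finite W] (M : Subgroup W)
    (hM : ¬ Cfsg.HasNormalPComplement p ↥M) :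
    ∃ (Q : Subgroup W) (g : W), IsPGroup p Q ∧ Q ≤ M ∧ g ∈ M ∧
      g ∈ Subgroup.normalizer (Q : Set W) ∧ g ∉ Subgroup.centralizer (Q : Set W) ∧
      (orderOf g).Coprime p := by
  obtain ⟨PM⟩ : Nonempty (Sylow p ↥M) := inferInstance
  have h1 : ¬ ∃ N : Subgroup ↥M, N.Normal ∧ N.IsComplement' (PM : Subgroup ↥M) := by
    rintro ⟨N, hN1, hN2⟩
    exact hM ⟨PM, N, hN1, hN2⟩
  rw [Cfsg.Agent.S0071.result PM] at h1
  push Not at h1
  obtain ⟨Q0, hQ0, g0, hg0N, hg0c, hg0C⟩ := h1
  refine ⟨Q0.map M.subtype, (g0 : W), ?_, ?_, g0.2, ?_, ?_, ?_⟩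
  · have hQp : IsPGroup p Q0 := PM.2.to_le hQ0
    exact hQp.map M.subtype
  · rintro x ⟨y, _, rfl⟩
    exact y.2
  · rw [Subgroup.mem_normalizer_iff] at hg0N ⊢
    intro x
    constructor
    · rintro ⟨y, hy, rfl⟩
      exact ⟨g0 * y * g0⁻¹, (hg0N y).mp hy, rfl⟩
    · rintro ⟨y, hy, hyx⟩
      have hx : x = ((g0⁻¹ * y * g0 : ↥M) : W) := by
        have h2 : ((g0⁻¹ * y * g0 : ↥M) : W) = (g0 : W)⁻¹ * (y : W) * (g0 : W) := rfl
        rw [h2]
        have h3 : (y : W) = (g0 : W) * x * (g0 : W)⁻¹ := hyx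
        rw [h3]
        group
      rw [hx]
      refine ⟨g0⁻¹ * y * g0, ?_, rfl⟩
      have h4 := (hg0N (g0⁻¹ * y * g0)).mpr
      apply h4
      have : g0 * (g0⁻¹ * y * g0) * g0⁻¹ = y := by group
      rw [this]
      exact hy
  · intro hc
    apply hg0C
    rw [Subgroup.mem_centralizer_iff] at hc ⊢
    intro y hy
    apply Subtype.ext
    exact hc (y : W) ⟨y, hy, rfl⟩
  · rw [Subgroup.orderOf_coe]
    exact hg0c

theorem exists_local_of_not_npc {W : Type u} [Group W] [Finite W] (P : Sylow p W)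
    (h : p ≠ 2 ∨ ¬ Cfsg.Involves (Equiv.Perm (Fin 4)) W)
    (hnpc : ¬ Cfsg.HasNormalPComplement p W) :
    ∃ (K Q : Subgroup W) (g : W),
      (K = (P : Subgroup W) ⊓ Subgroup.centralizer ((P : Subgroup W) : Set W) ∨
        K = thompsonSubgroupAOf (P : Subgroup W)) ∧
      IsPGroup p Q ∧ Q ≤ Subgroup.normalizer (K : Set W) ∧ g ∈ Subgroup.normalizer (K : Set W) ∧
      g ∈ Subgroup.normalizer (Q : Set W) ∧ g ∉ Subgroup.centralizer (Q : Set W) ∧
      (orderOf g).Coprime p := by
  by_cases hC : Cfsg.HasNormalPComplement p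
      ↥(Subgroup.centralizer ((((P : Subgroup W) ⊓
        Subgroup.centralizer ((P : Subgroup W) : Set W) : Subgroup W)) : Set W))
  · by_cases hN : Cfsg.HasNormalPComplement p
        ↥(Subgroup.normalizer ((Cfsg.thompsonSubgroupAOf (P : Subgroup W)) : Set W))
    · exact absurd (Cfsg.Agent.S2800.result P h hC hN) hnpc
    · obtain ⟨Q, g, hQp, hQM, hgM, hgN, hgC, hgo⟩ := exists_local_in_subgroup _ hN
      exact ⟨thompsonSubgroupAOf (P : Subgroup W), Q, g, Or.inr rfl, hQp, hQM, hgM, hgN, hgC, hgo⟩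
  · obtain ⟨Q, g, hQp, hQM, hgM, hgN, hgC, hgo⟩ := exists_local_in_subgroup _ hC
    have hle : Subgroup.centralizer ((((P : Subgroup W) ⊓
        Subgroup.centralizer ((P : Subgroup W) : Set W) : Subgroup W)) : Set W) ≤
        Subgroup.normalizer ((((P : Subgroup W) ⊓
        Subgroup.centralizer ((P : Subgroup W) : Set W) : Subgroup W)) : Set W) :=
      Subgroup.centralizer_le_normalizer _
    exact ⟨(P : Subgroup W) ⊓ Subgroup.centralizer ((P : Subgroup W) : Set W), Q, g, Or.inl rfl,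
      hQp, hQM.trans hle, hle hgM, hgN, hgC, hgo⟩

end Cfsg.Agent.Lib.Helper2.FG19
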