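import Mathlib
import Cfsg.Agent.Lib.Helper2.ElusE
set_option autoImplicit false
set_option maxHeartbeats 1000000
set_option linter.unusedVariables false
set_option linter.unusedSectionVars false
set_option linter.style.longLine false
set_option linter.unusedSimpArgs false
set_option linter.deprecated false
set_option linter.style.haveILetI false

/-! Imprimitive decompositions (part A): elements of prime order permuting the summands of a direct
decomposition; general linear algebra. -/

namespace Cfsg.Agent.Lib.Helper2.Imp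

open Module Cfsg.Agent.Lib.Helper2

universe u v

section General

variable {F : Type u} [Field F] {V : Type v} [AddCommGroup V] [Module F V] [FiniteDimensional F V]

/-- `f` stabilises a decomposition of `V` into `t` subspaces of dimension `a`. -/
def Stab (a t : ℕ) (f : Module.End F V) : Prop :=
  ∃ D : Fin t → Submodule F V, (∀ j, finrank F (D j) = a) ∧ iSupIndep D ∧ iSup D = ⊤ ∧
    ∃ σ : Equiv.Perm (Fin t), ∀ j, (D j).map f = D (σ j)

theorem Stab.smul {a t : ℕ} {f : Module.End F V} (h : Stab a t f) (w : F) (hw : w ≠ 0) :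
    Stab a t (w • f) := by
  obtain ⟨D, h1, h2, h3, σ, h4⟩ := h
  refine ⟨D, h1, h2, h3, σ, fun j => ?_⟩
  rw [Submodule.map_smul f (D j) w hw]
  exact h4 j

theorem inv_pow' {f : Module.End F V} {W : Submodule F V} (hW : Elus.Inv f W) (i : ℕ) :
    Elus.Inv (f ^ i) W := by
  induction i with
  | zero =>
    intro x hx
    rw [pow_zero, Module.End.one_apply]
    exact hx
  | succ i ih =>
    intro x hx
    rw [pow_succ', Module.End.mul_apply]
    exact hW _ (ih x hx)

theorem map_eq_of_inv {y : Module.End F V} {r : ℕ} (hr : 0 < r) (hy : y ^ r = 1)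
    {W : Submodule F V} (hW : Elus.Inv y W) : W.map y = W := by
  apply le_antisymm (Elus.inv_iff_map_le.mp hW)
  intro w hw
  refine ⟨(y ^ (r - 1)) w, inv_pow' hW (r - 1) w hw, ?_⟩
  rw [← Module.End.mul_apply, ← pow_succ', Nat.sub_add_cancel hr, hy, Module.End.one_apply]

theorem map_pow_perm' {ι : Type*} (f : Module.End F V) (D : ι → Submodule F V) (σ : Equiv.Perm ι)
    (hσ : ∀ j, (D j).map f = D (σ j)) (i : ℕ) : ∀ j, (D j).map (f ^ i) = D ((σ ^ i) j) := by
  induction i with
  | zero =>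
    intro j
    rw [pow_zero, pow_zero, Module.End.one_eq_id, Submodule.map_id]
    rfl
  | succ i ih =>
    intro j
    rw [pow_succ', Module.End.mul_eq_comp, Submodule.map_comp, ih, hσ, pow_succ',
      Equiv.Perm.mul_apply]

theorem moved_pow' {ι : Type*} (r : ℕ) [hr : Fact r.Prime] (σ : Equiv.Perm ι) (j0 : ι)
    (hp0 : (σ ^ r) j0 = j0) (hj0 : σ j0 ≠ j0) (i : ℕ) (hi0 : 0 < i) (hip : i < r) :
    (σ ^ i) j0 ≠ j0 := by
  intro hfix
  apply hj0
  have hcop : Nat.Coprime i r := by
    apply Nat.Coprime.symm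
    rw [Nat.Prime.coprime_iff_not_dvd hr.out]
    intro hdvd
    have := Nat.le_of_dvd hi0 hdvd
    omega
  have hb := Nat.gcd_eq_gcd_ab i r
  rw [hcop] at hb
  have h1 : σ = (σ ^ i) ^ (Nat.gcdA i r) * (σ ^ r) ^ (Nat.gcdB i r) := by
    rw [← zpow_natCast σ i, ← zpow_natCast σ r, ← zpow_mul, ← zpow_mul, ← zpow_add, ← hb]
    simp
  rw [h1, Equiv.Perm.mul_apply,
    Equiv.Perm.zpow_apply_eq_self_of_apply_eq_self hp0,
    Equiv.Perm.zpow_apply_eq_self_of_apply_eq_self hfix]

theorem indep_finset {ι κ : Type*} [DecidableEq κ] {D : ι → Submodule F V} (hind : iSupIndep D)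
    (s : Finset κ) (g : κ → ι) (hg : Set.InjOn g (s : Set κ)) (w : κ → V)
    (hw : ∀ i ∈ s, w i ∈ D (g i)) (h0 : ∑ i ∈ s, w i = 0) : ∀ i ∈ s, w i = 0 := by
  intro i0 hi0
  have h1 : w i0 + ∑ i ∈ s.erase i0, w i = 0 := by
    rw [Finset.add_sum_erase s w hi0]
    exact h0
  have hmem : ∑ i ∈ s.erase i0, w i ∈ ⨆ j, ⨆ (_ : j ≠ g i0), D j := by
    apply Submodule.sum_mem
    intro i hi
    rw [Finset.mem_erase] at hi
    have h2 : g i ≠ g i0 := fun h =>
      hi.1 (hg (Finset.mem_coe.mpr hi.2) (Finset.mem_coe.mpr hi0) h)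
    exact (le_iSup₂_of_le (f := fun j (_ : j ≠ g i0) => D j) _ h2 le_rfl) (hw i hi.2)
  have h3 : w i0 ∈ ⨆ j, ⨆ (_ : j ≠ g i0), D j := by
    have : w i0 = -(∑ i ∈ s.erase i0, w i) := eq_neg_of_add_eq_zero_left h1
    rw [this]
    exact Submodule.neg_mem _ hmem
  exact (Submodule.disjoint_def.mp (hind (g i0))) _ (hw i0 hi0) h3

theorem sigma_pow_fix {ι : Type*} {D : ι → Submodule F V} (hind : iSupIndep D)
    (hne : ∀ j, D j ≠ ⊥) (y : Module.End F V) (r : ℕ) (hy : y ^ r = 1) (σ : Equiv.Perm ι)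
    (hσ : ∀ j, (D j).map y = D (σ j)) (j : ι) : (σ ^ r) j = j := by
  apply hind.injective hne
  rw [← map_pow_perm' y D σ hσ r j, hy, Module.End.one_eq_id, Submodule.map_id]

theorem injOn_orbit {ι : Type*} (r : ℕ) [hr : Fact r.Prime] (σ : Equiv.Perm ι) (j0 : ι)
    (hp0 : (σ ^ r) j0 = j0) (hj0 : σ j0 ≠ j0) :
    Set.InjOn (fun i : ℕ => (σ ^ i) j0) (Finset.range r : Set ℕ) := by
  have key : ∀ i i', i < i' → i' < r → (σ ^ i) j0 ≠ (σ ^ i') j0 := by
    intro i i' hii' hi' h
    have h1 : (σ ^ i') j0 = (σ ^ i) ((σ ^ (i' - i)) j0) := by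
      rw [← Equiv.Perm.mul_apply, ← pow_add, Nat.add_sub_cancel' hii'.le]
    rw [h1] at h
    have h2 := (σ ^ i).injective h
    exact moved_pow' r σ j0 hp0 hj0 (i' - i) (by omega) (by omega) h2.symm
  intro i hi i' hi' h
  rw [Finset.coe_range, Set.mem_Iio] at hi hi'
  by_contra hne
  rcases Nat.lt_or_gt_of_ne hne with h1 | h1
  · exact key i i' h1 hi' h
  · exact key i' i h1 hi h.symm

theorem orbit_sum_zero {ι : Type*} {D : ι → Submodule F V} (hind : iSupIndep D)
    (y : Module.End F V) (σ : Equiv.Perm ι) (hσ : ∀ j, (D j).map y = D (σ j)) (j0 : ι) (m : ℕ)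
    (hinj : Set.InjOn (fun i : ℕ => (σ ^ i) j0) (Finset.range m : Set ℕ)) (u : ℕ → V)
    (hu : ∀ i, i < m → u i ∈ D j0) (h0 : ∑ i ∈ Finset.range m, (y ^ i) (u i) = 0) :
    ∀ i, i < m → (y ^ i) (u i) = 0 := by
  intro i hi
  refine indep_finset hind (Finset.range m) (fun i => (σ ^ i) j0) hinj (fun i => (y ^ i) (u i))
    ?_ h0 i (Finset.mem_range.mpr hi)
  intro i hi
  rw [Finset.mem_range] at hi
  rw [← map_pow_perm' y D σ hσ i j0]
  exact Submodule.mem_map_of_mem (hu i hi)

theorem pow_apply_eq_zero {y : Module.End F V} {r : ℕ} (hr : 0 < r) (hy : y ^ r = 1) (i : ℕ)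
    (v : V) (h : (y ^ i) v = 0) : v = 0 := by
  have h1 : (y ^ i) ^ r = 1 := by rw [← pow_mul, mul_comm, pow_mul, hy, one_pow]
  have h2 : v = ((y ^ i) ^ (r - 1)) ((y ^ i) v) := by
    rw [← Module.End.mul_apply, ← pow_succ, Nat.sub_add_cancel hr, h1, Module.End.one_apply]
  rw [h2, h, map_zero]

theorem geom_ker {y : Module.End F V} {r : ℕ} (hy : y ^ r = 1) (v : V) :
    (∑ i ∈ Finset.range r, y ^ i) v ∈ LinearMap.ker (y - 1) := by
  have hT0 : (y - 1) * ∑ i ∈ Finset.range r, y ^ i = 0 := by rw [mul_geom_sum, hy, sub_self]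
  rw [LinearMap.mem_ker, ← Module.End.mul_apply, hT0, LinearMap.zero_apply]

/-- a moved summand embeds into the fixed space -/
theorem finrank_le_ker_of_moved {ι : Type*} {D : ι → Submodule F V} (hind : iSupIndep D)
    (hne : ∀ j, D j ≠ ⊥) (y : Module.End F V) (r : ℕ) [hr : Fact r.Prime] (hy : y ^ r = 1)
    (σ : Equiv.Perm ι) (hσ : ∀ j, (D j).map y = D (σ j)) (j0 : ι) (hj0 : σ j0 ≠ j0) :
    finrank F (D j0) ≤ finrank F (LinearMap.ker (y - 1)) := by
  have hp0 := sigma_pow_fix hind hne y r hy σ hσ j0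
  have hinj := injOn_orbit r σ j0 hp0 hj0
  have hker : ∀ d ∈ D j0, (∑ i ∈ Finset.range r, y ^ i) d = 0 → d = 0 := by
    intro d hd h0
    rw [LinearMap.sum_apply] at h0
    have := orbit_sum_zero hind y σ hσ j0 r hinj (fun _ => d) (fun _ _ => hd) h0 0 hr.out.pos
    simpa using this
  have h1 : finrank F (D j0) = finrank F ((D j0).map (∑ i ∈ Finset.range r, y ^ i)) := by
    rw [← LinearMap.range_domRestrict, LinearMap.finrank_range_of_inj]
    rw [injective_iff_map_eq_zero]
    intro d hd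
    apply Subtype.ext
    exact hker d.1 d.2 hd
  rw [h1]
  apply Submodule.finrank_mono
  rintro _ ⟨d, hd, rfl⟩
  exact geom_ker hy d

/-- a moved summand forces a large commutator space -/
theorem rank_ge_of_moved' {ι : Type*} {D : ι → Submodule F V} (hind : iSupIndep D)
    (hne : ∀ j, D j ≠ ⊥) (y : Module.End F V) (r : ℕ) [hr : Fact r.Prime] (hy : y ^ r = 1)
    (σ : Equiv.Perm ι) (hσ : ∀ j, (D j).map y = D (σ j)) (j0 : ι) (hj0 : σ j0 ≠ j0) :
    (r - 1) * finrank F (D j0) ≤ finrank F (LinearMap.range (y - 1)) := by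
  have hrpos : 0 < r := hr.out.pos
  have hp0 := sigma_pow_fix hind hne y r hy σ hσ j0
  have hinj := injOn_orbit r σ j0 hp0 hj0
  let Ψ : (Fin (r - 1) → D j0) →ₗ[F] V :=
    ∑ i : Fin (r - 1), (((y - 1) * y ^ (i : ℕ)).comp ((D j0).subtype.comp (LinearMap.proj i)))
  have hΨ : ∀ u, Ψ u = ∑ i : Fin (r - 1), ((y - 1) * y ^ (i : ℕ)) ((u i : D j0) : V) := by
    intro u
    simp only [Ψ, LinearMap.sum_apply, LinearMap.comp_apply, LinearMap.proj_apply,
      Submodule.subtype_apply]
  have hΨinj : Function.Injective Ψ := by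
    rw [injective_iff_map_eq_zero]
    intro u hu0
    let ũ : ℕ → V := fun i => if h : i < r - 1 then ((u ⟨i, h⟩ : D j0) : V) else 0
    have hũE : ∀ i, ũ i ∈ D j0 := by
      intro i
      by_cases h : i < r - 1
      · simp only [ũ, dif_pos h]
        exact (u ⟨i, h⟩).2
      · simp only [ũ, dif_neg h]
        exact zero_mem _
    have e1 : ∀ i : Fin (r - 1), ũ (i : ℕ) = ((u i : D j0) : V) := by
      intro i
      simp only [ũ, dif_pos i.2]
    have hsum1 : ∑ i ∈ Finset.range (r - 1), ((y - 1) * y ^ i) (ũ i) = 0 := by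
      rw [← Fin.sum_univ_eq_sum_range (fun i => ((y - 1) * y ^ i) (ũ i)) (r - 1)]
      rw [← hu0, hΨ]
      apply Finset.sum_congr rfl
      intro i _
      rw [e1]
    let w : ℕ → V := fun i => (if i = 0 then 0 else ũ (i - 1)) - ũ i
    have hwE : ∀ i, w i ∈ D j0 := by
      intro i
      apply Submodule.sub_mem
      · by_cases h : i = 0
        · simp only [if_pos h]
          exact zero_mem _
        · simp only [if_neg h]
          exact hũE _
      · exact hũE i
    have hrange : Finset.range r = Finset.range (r - 1 + 1) := by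
      rw [Nat.sub_add_cancel hrpos]
    have hsum2 : ∑ i ∈ Finset.range r, (y ^ i) (w i) = 0 := by
      have hA : ∑ i ∈ Finset.range r, (y ^ i) (if i = 0 then (0 : V) else ũ (i - 1)) =
          ∑ i ∈ Finset.range (r - 1), (y ^ (i + 1)) (ũ i) := by
        rw [hrange, Finset.sum_range_succ']
        simp
      have hB : ∑ i ∈ Finset.range r, (y ^ i) (ũ i) =
          ∑ i ∈ Finset.range (r - 1), (y ^ i) (ũ i) := by
        rw [hrange, Finset.sum_range_succ]
        have : ũ (r - 1) = 0 := by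
          simp only [ũ, dif_neg (lt_irrefl _)]
        rw [this, map_zero, add_zero]
      have hC : ∀ i, (y ^ i) (w i) =
          (y ^ i) (if i = 0 then (0 : V) else ũ (i - 1)) - (y ^ i) (ũ i) := by
        intro i
        simp only [w, map_sub]
      simp only [hC]
      rw [Finset.sum_sub_distrib, hA, hB, ← Finset.sum_sub_distrib, ← hsum1]
      apply Finset.sum_congr rfl
      intro i _
      rw [Module.End.mul_apply, LinearMap.sub_apply, Module.End.one_apply, pow_succ',
        Module.End.mul_apply]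
    have hw0 : ∀ i, i < r → w i = 0 := by
      intro i hi
      exact pow_apply_eq_zero hrpos hy i _
        (orbit_sum_zero hind y σ hσ j0 r hinj w (fun i _ => hwE i) hsum2 i hi)
    have hũ0 : ∀ i, i < r → ũ i = 0 := by
      intro i
      induction i with
      | zero =>
        intro hi
        have h := hw0 0 hi
        have h' : w 0 = -ũ 0 := by simp [w]
        rw [h'] at h
        exact neg_eq_zero.mp h
      | succ i ih =>
        intro hi
        have h := hw0 (i + 1) hi
        have h' : w (i + 1) = ũ i - ũ (i + 1) := by simp [w]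
        rw [h', sub_eq_zero] at h
        rw [← h]
        exact ih (by omega)
    funext i
    apply Subtype.ext
    show ((u i : D j0) : V) = 0
    rw [← e1 i]
    exact hũ0 _ (by have := i.2; omega)
  have hrange : LinearMap.range Ψ ≤ LinearMap.range (y - 1) := by
    rintro _ ⟨u, rfl⟩
    rw [hΨ]
    apply Submodule.sum_mem
    intro i _
    exact ⟨(y ^ (i : ℕ)) (u i : V), by rw [Module.End.mul_apply]⟩
  calc (r - 1) * finrank F (D j0) = finrank F (Fin (r - 1) → D j0) := by
        rw [Module.finrank_pi_fintype, Finset.sum_const, Finset.card_univ, Fintype.card_fin,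
          smul_eq_mul]
    _ = finrank F (LinearMap.range Ψ) := (LinearMap.finrank_range_of_inj hΨinj).symm
    _ ≤ _ := Submodule.finrank_mono hrange

theorem finrank_biSup_of_indep {ι : Type*} [DecidableEq ι] {D : ι → Submodule F V}
    (hind : iSupIndep D) (s : Finset ι) :
    finrank F (⨆ j ∈ s, D j : Submodule F V) = ∑ j ∈ s, finrank F (D j) := by
  refine Finset.induction_on s ?_ ?_
  · simp
  · intro j s hj ih
    rw [Finset.iSup_insert, Finset.sum_insert hj, ← ih]
    apply Elus.finrank_sup_of_disjoint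
    apply (hind j).mono_right
    apply iSup₂_le
    intro i hi
    exact le_iSup₂_of_le (f := fun i (_ : i ≠ j) => D i) i (fun h => hj (h ▸ hi)) le_rfl

theorem sum_inf_le {ι : Type*} [Fintype ι] [DecidableEq ι] {D : ι → Submodule F V}
    (hind : iSupIndep D) (C : Submodule F V) :
    ∑ j, finrank F (D j ⊓ C : Submodule F V) ≤ finrank F C := by
  have hind' : iSupIndep (fun j => D j ⊓ C) := hind.mono (fun j => inf_le_left)
  rw [← finrank_biSup_of_indep hind' Finset.univ]
  apply Submodule.finrank_mono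
  apply iSup₂_le
  intro j _
  exact inf_le_right

theorem fix_add (y : Module.End F V) {P Q : Submodule F V} (hP : Elus.Inv y P)
    (hQ : Elus.Inv y Q) (hd : Disjoint P Q) :
    finrank F ((P ⊔ Q) ⊓ LinearMap.ker (y - 1) : Submodule F V) =
      finrank F (P ⊓ LinearMap.ker (y - 1) : Submodule F V) +
        finrank F (Q ⊓ LinearMap.ker (y - 1) : Submodule F V) := by
  have h1 : (P ⊔ Q) ⊓ LinearMap.ker (y - 1) =
      (P ⊓ LinearMap.ker (y - 1)) ⊔ (Q ⊓ LinearMap.ker (y - 1)) := by
    apply le_antisymm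
    · rintro v ⟨hv1, hv2⟩
      obtain ⟨p, hp, q, hq, rfl⟩ := Submodule.mem_sup.mp hv1
      have hfix : y (p + q) = p + q := Elus.mem_ker_sub_one.mp hv2
      rw [map_add] at hfix
      have h2 : y p - p = q - y q := by
        rw [sub_eq_sub_iff_add_eq_add, hfix, add_comm]
      have h3 : y p - p ∈ P ⊓ Q :=
        ⟨P.sub_mem (hP p hp) hp, by rw [h2]; exact Q.sub_mem hq (hQ q hq)⟩
      rw [hd.eq_bot, Submodule.mem_bot] at h3
      have h4 : y p = p := sub_eq_zero.mp h3
      have h5 : y q = q := by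
        rw [h3] at h2
        exact (sub_eq_zero.mp h2.symm).symm
      exact Submodule.mem_sup.mpr ⟨p, ⟨hp, Elus.mem_ker_sub_one.mpr h4⟩, q,
        ⟨hq, Elus.mem_ker_sub_one.mpr h5⟩, rfl⟩
    · exact sup_le (inf_le_inf_right _ le_sup_left) (inf_le_inf_right _ le_sup_right)
  rw [h1]
  apply Elus.finrank_sup_of_disjoint
  exact hd.mono inf_le_left inf_le_left

end General

end Cfsg.Agent.Lib.Helper2.Imp
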