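import Mathlib
import Cfsg.Agent.Lib.Helper2.ImpA
set_option autoImplicit false
set_option maxHeartbeats 1000000
set_option linter.unusedVariables false
set_option linter.unusedSectionVars false
set_option linter.style.longLine false
set_option linter.unusedSimpArgs false
set_option linter.deprecated false
set_option linter.style.haveILetI false

/-! Imprimitive decompositions (part B): peeling off invariant summands; invariant decompositions
of semisimple elements of prime order. -/

namespace Cfsg.Agent.Lib.Helper2.Imp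

open Module Cfsg.Agent.Lib.Helper2

universe u v

section Peel

variable {F : Type u} [Field F] {V : Type v} [AddCommGroup V] [Module F V] [FiniteDimensional F V]

theorem exists_rel_compl {y : Module.End F V} (hss : Module.End.IsSemisimple y)
    {D W : Submodule F V} (hD : Elus.Inv y D) (hW : Elus.Inv y W) (hDW : D ≤ W) :
    ∃ W' : Submodule F V, Elus.Inv y W' ∧ W' ≤ W ∧ Disjoint D W' ∧ D ⊔ W' = W := by
  obtain ⟨Q, hQ, hc⟩ := (Module.End.isSemisimple_iff.mp hss) D
    ((Module.End.mem_invtSubmodule y).mpr (fun x hx => hD x hx))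
  have hQ' : Elus.Inv y Q := fun x hx => (Module.End.mem_invtSubmodule y).mp hQ hx
  refine ⟨W ⊓ Q, ?_, inf_le_left, ?_, ?_⟩
  · intro x hx
    exact ⟨hW x hx.1, hQ' x hx.2⟩
  · exact hc.disjoint.mono_right inf_le_right
  · apply le_antisymm (sup_le hDW inf_le_left)
    intro w hw
    have h1 : w ∈ D ⊔ Q := by
      rw [hc.sup_eq_top]
      trivial
    obtain ⟨d, hd, q, hq, rfl⟩ := Submodule.mem_sup.mp h1
    refine Submodule.mem_sup.mpr ⟨d, hd, q, ⟨?_, hq⟩, rfl⟩
    have h2 := W.sub_mem hw (hDW hd)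
    rwa [add_sub_cancel_left] at h2

theorem iSup_cons {t : ℕ} (D0 : Submodule F V) (D' : Fin t → Submodule F V) :
    ⨆ j, (Fin.cons D0 D' : Fin (t + 1) → Submodule F V) j = D0 ⊔ ⨆ j, D' j := by
  apply le_antisymm
  · apply iSup_le
    intro j
    induction j using Fin.cases with
    | zero =>
      rw [Fin.cons_zero]
      exact le_sup_left
    | succ j =>
      rw [Fin.cons_succ]
      exact le_sup_of_le_right (le_iSup D' j)
  · apply sup_le
    · have := le_iSup (Fin.cons D0 D' : Fin (t + 1) → Submodule F V) 0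
      rwa [Fin.cons_zero] at this
    · apply iSup_le
      intro j
      have := le_iSup (Fin.cons D0 D' : Fin (t + 1) → Submodule F V) j.succ
      rwa [Fin.cons_succ] at this

theorem indep_cons {t : ℕ} (D0 : Submodule F V) (D' : Fin t → Submodule F V)
    (hind : iSupIndep D') (hdisj : Disjoint D0 (⨆ j, D' j)) :
    iSupIndep (Fin.cons D0 D' : Fin (t + 1) → Submodule F V) := by
  classical
  rw [iSupIndep_iff_finsetSum_eq_zero_imp_eq_zero]
  intro s v hv h0
  let v' : Fin (t + 1) → V := fun j => if j ∈ s then v j else 0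
  have hv' : ∀ j, v' j ∈ (Fin.cons D0 D' : Fin (t + 1) → Submodule F V) j := by
    intro j
    by_cases hj : j ∈ s
    · simp only [v', if_pos hj]
      exact hv j hj
    · simp only [v', if_neg hj]
      exact zero_mem _
  have hsum : ∑ j, v' j = 0 := by
    rw [← h0]
    simp only [v']
    rw [Finset.sum_ite_mem, Finset.univ_inter]
  rw [Fin.sum_univ_succ] at hsum
  have h0mem : v' 0 ∈ D0 := by
    have := hv' 0
    rwa [Fin.cons_zero] at this
  have hsucc : ∀ j : Fin t, v' j.succ ∈ D' j := by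
    intro j
    have := hv' j.succ
    rwa [Fin.cons_succ] at this
  have hrest : ∑ j : Fin t, v' j.succ ∈ ⨆ j, D' j := by
    apply Submodule.sum_mem
    intro j _
    exact (le_iSup D' j) (hsucc j)
  have hv0 : v' 0 = 0 := by
    have h1 : v' 0 = -(∑ j : Fin t, v' j.succ) := eq_neg_of_add_eq_zero_left hsum
    apply (Submodule.disjoint_def.mp hdisj) _ h0mem
    rw [h1]
    exact Submodule.neg_mem _ hrest
  rw [hv0, zero_add] at hsum
  have hall := (iSupIndep_iff_finsetSum_eq_zero_imp_eq_zero D').mp hind Finset.univ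
    (fun j => v' j.succ) (fun j _ => hsucc j) hsum
  have hallj : ∀ j, v' j = 0 := by
    intro j
    induction j using Fin.cases with
    | zero => exact hv0
    | succ j => exact hall j (Finset.mem_univ _)
  intro j hj
  have hvj : v' j = v j := by simp only [v', if_pos hj]
  rw [← hvj]
  exact hallj j

theorem peel {f : Module.End F V}
    (hss : ∀ D W : Submodule F V, Elus.Inv f D → Elus.Inv f W → D ≤ W →
      ∃ W' : Submodule F V, Elus.Inv f W' ∧ W' ≤ W ∧ Disjoint D W' ∧ D ⊔ W' = W)
    (a : ℕ) (Q : ℕ → Submodule F V → Prop)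
    (hstep : ∀ (t' : ℕ) (W : Submodule F V), Elus.Inv f W → finrank F W = a * (t' + 1) →
      Q (t' + 1) W →
      ∃ D : Submodule F V, Elus.Inv f D ∧ D ≤ W ∧ finrank F D = a ∧
        ∀ W' : Submodule F V, Elus.Inv f W' → W' ≤ W → Disjoint D W' → D ⊔ W' = W → Q t' W') :
    ∀ (t : ℕ) (W : Submodule F V), Elus.Inv f W → finrank F W = a * t → Q t W →
      ∃ D : Fin t → Submodule F V, (∀ j, Elus.Inv f (D j)) ∧ (∀ j, finrank F (D j) = a) ∧
        iSupIndep D ∧ iSup D = W := by
  intro t
  induction t with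
  | zero =>
    intro W hW hfin _
    refine ⟨fun _ => ⊥, fun j => j.elim0, fun j => j.elim0, fun j => j.elim0, ?_⟩
    rw [mul_zero] at hfin
    rw [iSup_of_empty]
    exact (Submodule.finrank_eq_zero.mp hfin).symm
  | succ t ih =>
    intro W hW hfin hQ
    obtain ⟨D0, hD0, hD0W, hD0f, hnext⟩ := hstep t W hW hfin hQ
    obtain ⟨W', hW', hW'W, hdisj, hsup⟩ := hss D0 W hD0 hW hD0W
    have hfin' : finrank F W' = a * t := by
      have := Elus.finrank_sup_of_disjoint hdisj
      rw [hsup, hfin, hD0f, Nat.mul_succ] at this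
      omega
    obtain ⟨D', hD'inv, hD'f, hD'ind, hD'sup⟩ :=
      ih W' hW' hfin' (hnext W' hW' hW'W hdisj hsup)
    refine ⟨Fin.cons D0 D', ?_, ?_, ?_, ?_⟩
    · intro j
      induction j using Fin.cases with
      | zero =>
        rw [Fin.cons_zero]
        exact hD0
      | succ j =>
        rw [Fin.cons_succ]
        exact hD'inv j
    · intro j
      induction j using Fin.cases with
      | zero =>
        rw [Fin.cons_zero]
        exact hD0f
      | succ j =>
        rw [Fin.cons_succ]
        exact hD'f j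
    · apply indep_cons D0 D' hD'ind
      rw [hD'sup]
      exact hdisj
    · rw [iSup_cons, hD'sup, hsup]

end Peel

section Split

variable {F : Type u} [Field F] [Fintype F] {V : Type v} [AddCommGroup V] [Module F V]
  [FiniteDimensional F V]

theorem exists_rel_free {p f₀ : ℕ} [hp : Fact p.Prime] (hq : Fintype.card F = p ^ f₀)
    (y : Module.End F V) (r : ℕ) [hr : Fact r.Prime] (hrp : r ≠ p) (hrF : (r : F) ≠ 0)
    (hy : y ^ r = 1) (W : Submodule F V) (hW : Elus.Inv y W) (b : ℕ)
    (hle : orderOf ((Fintype.card F : ℕ) : ZMod r) * b +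
      finrank F (W ⊓ LinearMap.ker (y - 1) : Submodule F V) ≤ finrank F W) :
    ∃ B : Submodule F V, B ≤ W ∧ Elus.Inv y B ∧ Disjoint B (LinearMap.ker (y - 1)) ∧
      finrank F B = orderOf ((Fintype.card F : ℕ) : ZMod r) * b := by
  have hg : (y.restrict hW) ^ r = 1 := by
    have h1 : y ^ r = (1 : F) • 1 := by rw [hy, one_smul]
    rw [Elus.restrict_pow_smul h1 hW, one_smul]
  have h2 : (LinearMap.ker (y.restrict hW - 1)).map W.subtype = W ⊓ LinearMap.ker (y - 1) := by
    ext v
    constructor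
    · rintro ⟨w, hw, rfl⟩
      have hw' : (y.restrict hW) w = w := Elus.mem_ker_sub_one.mp hw
      have h5 : ((y.restrict hW w : W) : V) = (w : V) := congrArg Subtype.val hw'
      exact ⟨w.2, Elus.mem_ker_sub_one.mpr h5⟩
    · rintro ⟨hvW, hvC⟩
      refine ⟨⟨v, hvW⟩, ?_, rfl⟩
      have h6 : (y.restrict hW) ⟨v, hvW⟩ = ⟨v, hvW⟩ :=
        Subtype.ext (Elus.mem_ker_sub_one.mp hvC)
      exact Elus.mem_ker_sub_one.mpr h6
  have hk : finrank F (LinearMap.ker (y.restrict hW - 1)) =
      finrank F (W ⊓ LinearMap.ker (y - 1) : Submodule F V) := by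
    rw [← h2, Submodule.finrank_map_subtype_eq]
  obtain ⟨B', -, hB'inv, hB'disj, hB'fin⟩ := Elus.exists_chain hq (y.restrict hW) r hrp hrF hg ⊥
    (Elus.inv_bot _) disjoint_bot_left 0 b (by simp) (Nat.zero_le _) (by rw [hk]; exact hle)
  refine ⟨B'.map W.subtype, ?_, ?_, ?_, ?_⟩
  · rintro _ ⟨w, -, rfl⟩
    exact w.2
  · rintro _ ⟨w, hw, rfl⟩
    exact ⟨y.restrict hW w, hB'inv w hw, rfl⟩
  · rw [Submodule.disjoint_def]
    rintro _ ⟨w, hw, rfl⟩ hfix
    have h3 : w ∈ LinearMap.ker (y.restrict hW - 1) := by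
      rw [Elus.mem_ker_sub_one]
      apply Subtype.ext
      exact Elus.mem_ker_sub_one.mp hfix
    have h4 : w = 0 := (Submodule.disjoint_def.mp hB'disj) w hw h3
    rw [h4, map_zero]
  · rw [Submodule.finrank_map_subtype_eq, hB'fin]

theorem exists_split {p f₀ : ℕ} [hp : Fact p.Prime] (hq : Fintype.card F = p ^ f₀)
    (y : Module.End F V) (r : ℕ) [hr : Fact r.Prime] (hrp : r ≠ p) (hrF : (r : F) ≠ 0)
    (hy : y ^ r = 1) (a t : ℕ) (hn : finrank F V = a * t)
    (hfix : (a % orderOf ((Fintype.card F : ℕ) : ZMod r)) * t ≤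
      finrank F (LinearMap.ker (y - 1))) :
    ∃ D : Fin t → Submodule F V, (∀ j, Elus.Inv y (D j)) ∧ (∀ j, finrank F (D j) = a) ∧
      iSupIndep D ∧ iSup D = ⊤ := by
  have hrq : ¬ r ∣ Fintype.card F := by
    rw [hq]
    intro h
    exact hrp ((Nat.prime_dvd_prime_iff_eq hr.out hp.out).mp (hr.out.dvd_of_dvd_pow h))
  have hcpos := Elus.ord_pos r (Fintype.card F) hrq
  have hss := Elus.isSemisimple_of_pow_eq_one y r hrF hy
  set c := orderOf ((Fintype.card F : ℕ) : ZMod r) with hc
  refine peel (f := y) (fun D W hD hW hDW => exists_rel_compl hss hD hW hDW) a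
    (fun t W => (a % c) * t ≤ finrank F (W ⊓ LinearMap.ker (y - 1) : Submodule F V)) ?_ t ⊤
    (fun x _ => Submodule.mem_top) (by rw [finrank_top]; exact hn) (by rw [top_inf_eq]; exact hfix)
  intro t' W hW hfin hQ
  obtain ⟨l, hl⟩ := Elus.mod_inf_of_inv y r hy hrq W hW
  rw [← hc] at hl
  have hkle : finrank F (W ⊓ LinearMap.ker (y - 1) : Submodule F V) ≤ finrank F W :=
    Submodule.finrank_mono inf_le_left
  have hW' : finrank F W = finrank F (W ⊓ LinearMap.ker (y - 1) : Submodule F V) + c * l := by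
    omega
  have hb1 : min l (a / c) ≤ l := min_le_left _ _
  have hb2 : min l (a / c) ≤ a / c := min_le_right _ _
  have hcb : c * min l (a / c) ≤ a :=
    le_trans (Nat.mul_le_mul_left c hb2) (Nat.mul_div_le a c)
  have hdm := Nat.div_add_mod a c
  have hcl : c * min l (a / c) ≤ c * l := Nat.mul_le_mul_left c hb1
  have hAk : a - c * min l (a / c) ≤
      finrank F (W ⊓ LinearMap.ker (y - 1) : Submodule F V) := by
    rcases le_total l (a / c) with h | h
    · rw [min_eq_left h]
      have h5 : a ≤ a * (t' + 1) := Nat.le_mul_of_pos_right a (Nat.succ_pos t')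
      omega
    · rw [min_eq_right h]
      have h5 : a % c ≤ a % c * (t' + 1) := Nat.le_mul_of_pos_right _ (Nat.succ_pos t')
      omega
  obtain ⟨B, hBW, hBinv, hBdisj, hBfin⟩ := exists_rel_free hq y r hrp hrF hy W hW
    (min l (a / c)) (by rw [← hc]; omega)
  rw [← hc] at hBfin
  obtain ⟨A, -, hAle, hAfin⟩ := Elus.exists_between ⊥ (W ⊓ LinearMap.ker (y - 1)) bot_le
    (a - c * min l (a / c)) (by simp) hAk
  have hAC : A ≤ LinearMap.ker (y - 1) := hAle.trans inf_le_right
  have hAinv : Elus.Inv y A := Elus.inv_of_le_ker hAC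
  have hAB : Disjoint A B := hBdisj.symm.mono_left hAC
  have hDinv : Elus.Inv y (A ⊔ B) := hAinv.sup hBinv
  have hDfix : finrank F ((A ⊔ B) ⊓ LinearMap.ker (y - 1) : Submodule F V) =
      a - c * min l (a / c) := by
    rw [fix_add y hAinv hBinv hAB, inf_eq_left.mpr hAC, hBdisj.eq_bot, finrank_bot, add_zero, hAfin]
  refine ⟨A ⊔ B, hDinv, sup_le (hAle.trans inf_le_left) hBW, ?_, ?_⟩
  · rw [Elus.finrank_sup_of_disjoint hAB, hAfin, hBfin]
    omega
  · intro W' hW'inv hW'W hdisj hsup
    have h1 := fix_add y hDinv hW'inv hdisj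
    rw [hsup, hDfix] at h1
    show a % c * t' ≤ finrank F (W' ⊓ LinearMap.ker (y - 1) : Submodule F V)
    rw [Nat.mul_succ] at hfin
    rcases le_total l (a / c) with h | h
    · rw [min_eq_left h] at h1 hcb
      have h5 : a % c * t' ≤ a * t' := Nat.mul_le_mul_right t' (Nat.mod_le a c)
      omega
    · rw [min_eq_right h] at h1 hcb
      have h5 : a % c * (t' + 1) = a % c * t' + a % c := Nat.mul_succ _ _
      have h6 : a % c * (t' + 1) ≤ finrank F (W ⊓ LinearMap.ker (y - 1) : Submodule F V) := hQ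
      omega

/-- a semisimple element of prime order with enough fixed vectors stabilises a decomposition -/
theorem stab_of_split {p f₀ : ℕ} [hp : Fact p.Prime] (hq : Fintype.card F = p ^ f₀)
    (y : Module.End F V) (r : ℕ) [hr : Fact r.Prime] (hrp : r ≠ p) (hrF : (r : F) ≠ 0)
    (hy : y ^ r = 1) (a t : ℕ) (hn : finrank F V = a * t)
    (hfix : (a % orderOf ((Fintype.card F : ℕ) : ZMod r)) * t ≤
      finrank F (LinearMap.ker (y - 1))) : Stab a t y := by
  obtain ⟨D, h1, h2, h3, h4⟩ := exists_split hq y r hrp hrF hy a t hn hfix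
  exact ⟨D, h2, h3, h4, 1, fun j => map_eq_of_inv hr.out.pos hy (h1 j)⟩

end Split

end Cfsg.Agent.Lib.Helper2.Imp
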