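import Mathlib
import Cfsg.Agent.Lib.Helper2.ImpB
import Cfsg.Agent.Lib.Helper5.AltWitt
import Cfsg.Agent.Lib.Helper5.AltForm
set_option autoImplicit false
set_option maxHeartbeats 1000000
set_option linter.unusedVariables false
set_option linter.unusedSectionVars false
set_option linter.style.longLine false
set_option linter.unusedSimpArgs false
set_option linter.deprecated false
set_option linter.style.haveILetI false

/-! Imprimitive decompositions in symplectic spaces (part A): nondegenerate subspaces of an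
alternating space, hyperbolic bases, and Witt-type transitivity (using helper5's `AltWitt`). -/

namespace Cfsg.Agent.Lib.Helper2.SpImp

open Module Cfsg.Agent.Lib.Helper2

universe u v

section Alt

variable {F : Type u} [Field F] {V : Type v} [AddCommGroup V] [Module F V] [FiniteDimensional F V]
variable (B : LinearMap.BilinForm F V)

/-- nondegenerate subspace -/
def ND (W : Submodule F V) : Prop := Disjoint W (B.orthogonal W)

/-- mutually orthogonal subspaces -/
def Orth (X Y : Submodule F V) : Prop := ∀ u ∈ X, ∀ v ∈ Y, B u v = 0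

theorem swap_zero (hA : B.IsAlt) {u v : V} (h : B u v = 0) : B v u = 0 := by
  rw [← hA.neg_eq u v, h, neg_zero]

theorem mem_perp {W : Submodule F V} {v : V} : v ∈ B.orthogonal W ↔ ∀ w ∈ W, B w v = 0 :=
  LinearMap.BilinForm.mem_orthogonal_iff

theorem Orth.symm {B : LinearMap.BilinForm F V} (hA : B.IsAlt) {X Y : Submodule F V}
    (h : Orth B X Y) : Orth B Y X :=
  fun u hu v hv => swap_zero B hA (h v hv u hu)

theorem orth_iff_le_perp {X Y : Submodule F V} : Orth B X Y ↔ Y ≤ B.orthogonal X :=
  ⟨fun h v hv => (mem_perp B).mpr (fun w hw => h w hw v hv),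
    fun h u hu v hv => (mem_perp B).mp (h hv) u hu⟩

theorem nd_iff (hA : B.IsAlt) {W : Submodule F V} :
    ND B W ↔ ∀ u ∈ W, (∀ v ∈ W, B u v = 0) → u = 0 := by
  unfold ND
  rw [Submodule.disjoint_def]
  constructor
  · intro h u hu huv
    exact h u hu ((mem_perp B).mpr (fun w hw => swap_zero B hA (huv w hw)))
  · intro h u hu hu2
    exact h u hu (fun v hv => swap_zero B hA ((mem_perp B).mp hu2 v hv))

theorem nd_iff' (hA : B.IsAlt) {W : Submodule F V} :
    ND B W ↔ ∀ u ∈ W, u ≠ 0 → ∃ v ∈ W, B u v ≠ 0 := by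
  rw [nd_iff B hA]
  constructor
  · intro h u hu hu0
    by_contra hcon
    push Not at hcon
    exact hu0 (h u hu hcon)
  · intro h u hu huv
    by_contra hu0
    obtain ⟨v, hv, hne⟩ := h u hu hu0
    exact hne (huv v hv)

theorem nd_isCompl (hA : B.IsAlt) {W : Submodule F V} (h : ND B W) :
    IsCompl W (B.orthogonal W) :=
  LinearMap.BilinForm.isCompl_orthogonal_of_restrict_nondegenerate hA.isRefl
    (LinearMap.BilinForm.nondegenerate_restrict_of_disjoint_orthogonal B hA.isRefl h)

theorem nd_top (hA : B.IsAlt) (hB : B.Nondegenerate) : ND B (⊤ : Submodule F V) := by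
  unfold ND
  rw [LinearMap.BilinForm.orthogonal_top_eq_bot hB]
  exact disjoint_bot_right

theorem nd_bot : ND B (⊥ : Submodule F V) := disjoint_bot_left

theorem nd_rel (hA : B.IsAlt) {D W : Submodule F V} (hD : ND B D) (hDW : D ≤ W) :
    Disjoint D (W ⊓ B.orthogonal D) ∧ D ⊔ (W ⊓ B.orthogonal D) = W := by
  have hc := nd_isCompl B hA hD
  refine ⟨hc.disjoint.mono_right inf_le_right, ?_⟩
  apply le_antisymm (sup_le hDW inf_le_left)
  intro w hw
  have h1 : w ∈ D ⊔ B.orthogonal D := by
    rw [hc.sup_eq_top]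
    trivial
  obtain ⟨d, hd, q, hq, rfl⟩ := Submodule.mem_sup.mp h1
  refine Submodule.mem_sup.mpr ⟨d, hd, q, ⟨?_, hq⟩, rfl⟩
  have h2 := W.sub_mem hw (hDW hd)
  rwa [add_sub_cancel_left] at h2

theorem nd_perp_in (hA : B.IsAlt) {D W : Submodule F V} (hW : ND B W) (hD : ND B D)
    (hDW : D ≤ W) : ND B (W ⊓ B.orthogonal D) := by
  rw [nd_iff B hA]
  intro x hx hx2
  apply (nd_iff B hA).mp hW x hx.1
  intro v hv
  obtain ⟨-, hsup⟩ := nd_rel B hA hD hDW
  rw [← hsup] at hv
  obtain ⟨d, hd, q, hq, rfl⟩ := Submodule.mem_sup.mp hv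
  rw [map_add, hx2 q hq, add_zero]
  exact swap_zero B hA ((mem_perp B).mp hx.2 d hd)

theorem nd_sup (hA : B.IsAlt) {X Y : Submodule F V} (hX : ND B X) (hY : ND B Y)
    (hXY : Orth B X Y) : ND B (X ⊔ Y) := by
  rw [nd_iff B hA]
  intro w hw hw2
  obtain ⟨x, hx, y, hy, rfl⟩ := Submodule.mem_sup.mp hw
  have hx0 : x = 0 := by
    apply (nd_iff B hA).mp hX x hx
    intro v hv
    have h1 := hw2 v (Submodule.mem_sup_left hv)
    rw [map_add, LinearMap.add_apply, swap_zero B hA (hXY v hv y hy), add_zero] at h1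
    exact h1
  have hy0 : y = 0 := by
    apply (nd_iff B hA).mp hY y hy
    intro v hv
    have h1 := hw2 v (Submodule.mem_sup_right hv)
    rw [map_add, LinearMap.add_apply, hXY x hx v hv, zero_add] at h1
    exact h1
  rw [hx0, hy0, add_zero]

theorem finrank_perp_in (hA : B.IsAlt) (hB : B.Nondegenerate) {N U : Submodule F V}
    (hN : ND B N) (hUN : U ≤ N) :
    finrank F (N ⊓ B.orthogonal U : Submodule F V) = finrank F N - finrank F U := by
  have hc := nd_isCompl B hA hN
  have h1 : B.orthogonal N ≤ B.orthogonal U := LinearMap.BilinForm.orthogonal_le hUN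
  have h2 : (N ⊓ B.orthogonal U) ⊔ B.orthogonal N = B.orthogonal U := by
    apply le_antisymm (sup_le inf_le_right h1)
    intro v hv
    have h3 : v ∈ N ⊔ B.orthogonal N := by
      rw [hc.sup_eq_top]
      trivial
    obtain ⟨n, hn, n', hn', rfl⟩ := Submodule.mem_sup.mp h3
    refine Submodule.mem_sup.mpr ⟨n, ⟨hn, ?_⟩, n', hn', rfl⟩
    have h4 := (B.orthogonal U).sub_mem hv (h1 hn')
    rwa [add_sub_cancel_right] at h4
  have h3 : Disjoint (N ⊓ B.orthogonal U) (B.orthogonal N) := hc.disjoint.mono_left inf_le_left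
  have h4 := Elus.finrank_sup_of_disjoint h3
  rw [h2, LinearMap.BilinForm.finrank_orthogonal hB, LinearMap.BilinForm.finrank_orthogonal hB]
    at h4
  have h5 := Submodule.finrank_le N
  have h6 := Submodule.finrank_mono hUN
  omega

/-- hyperbolic pairs in nonzero nondegenerate subspaces -/
theorem exists_plane (hA : B.IsAlt) {Z : Submodule F V} (hZ : ND B Z) (hZ0 : Z ≠ ⊥) :
    ∃ u v : V, u ∈ Z ∧ v ∈ Z ∧ B u v = 1 := by
  obtain ⟨u, hu, hu0⟩ := Submodule.exists_mem_ne_zero_of_ne_bot hZ0
  obtain ⟨v, hv, huv⟩ := (nd_iff' B hA).mp hZ u hu hu0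
  refine ⟨u, (B u v)⁻¹ • v, hu, Z.smul_mem _ hv, ?_⟩
  rw [map_smul, smul_eq_mul, inv_mul_cancel₀ huv]

theorem plane_props (hA : B.IsAlt) {u v : V} (huv : B u v = 1) :
    ND B (Submodule.span F (Set.range ![u, v])) ∧
      finrank F (Submodule.span F (Set.range ![u, v])) = 2 := by
  have hvu : B v u = -1 := by rw [← hA.neg_eq u v, huv]
  constructor
  · rw [nd_iff B hA]
    intro x hx hx2
    obtain ⟨cf, rfl⟩ := (Submodule.mem_span_range_iff_exists_fun F).mp hx
    rw [Fin.sum_univ_two] at hx2 ⊢
    simp only [Matrix.cons_val_zero, Matrix.cons_val_one] at hx2 ⊢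
    have hu : u ∈ Submodule.span F (Set.range ![u, v]) := Submodule.subset_span ⟨0, rfl⟩
    have hv : v ∈ Submodule.span F (Set.range ![u, v]) := Submodule.subset_span ⟨1, rfl⟩
    have h1 := hx2 v hv
    have h2 := hx2 u hu
    rw [map_add, LinearMap.add_apply, map_smul, map_smul, LinearMap.smul_apply,
      LinearMap.smul_apply, huv, hA v, smul_eq_mul, smul_eq_mul, mul_one, mul_zero, add_zero] at h1
    rw [map_add, LinearMap.add_apply, map_smul, map_smul, LinearMap.smul_apply,
      LinearMap.smul_apply, hvu, hA u, smul_eq_mul, smul_eq_mul, mul_zero, zero_add, mul_neg,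
      mul_one, neg_eq_zero] at h2
    rw [h1, h2, zero_smul, zero_smul, add_zero]
  · have hli : LinearIndependent F ![u, v] := by
      rw [LinearIndependent.pair_iff]
      intro s t hst
      have h1 := congrArg (fun x => B x v) hst
      have h2 := congrArg (fun x => B x u) hst
      simp only [map_add, LinearMap.add_apply, map_smul, LinearMap.smul_apply, huv, hvu, hA v,
        hA u, smul_eq_mul, mul_one, mul_zero, add_zero, zero_add, map_zero, LinearMap.zero_apply,
        mul_neg, neg_eq_zero] at h1 h2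
      exact ⟨h1, h2⟩
    rw [finrank_span_eq_card hli, Fintype.card_fin]

theorem even_of_nd (hA : B.IsAlt) (hB : B.Nondegenerate) :
    ∀ (k : ℕ) (W : Submodule F V), finrank F W = k → ND B W → Even k := by
  intro k
  induction k using Nat.strong_induction_on with
  | _ k ih =>
    intro W hk hW
    by_cases hW0 : W = ⊥
    · rw [hW0, finrank_bot] at hk
      rw [← hk]
      exact Even.zero
    · obtain ⟨u, v, hu, hv, huv⟩ := exists_plane B hA hW hW0
      obtain ⟨hH, hHfin⟩ := plane_props B hA huv
      have hHW : Submodule.span F (Set.range ![u, v]) ≤ W := by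
        rw [Submodule.span_le]
        rintro _ ⟨j, rfl⟩
        fin_cases j
        · exact hu
        · exact hv
      have h1 := finrank_perp_in B hA hB hW hHW
      have h2 := nd_perp_in B hA hW hH hHW
      have hk2 := Submodule.finrank_mono hHW
      rw [hHfin, hk] at hk2
      rw [hk, hHfin] at h1
      obtain ⟨m, hm⟩ := ih (k - 2) (by omega) _ h1 h2
      exact ⟨m + 1, by omega⟩

/-- hyperbolic bases of nondegenerate subspaces -/
theorem exists_hyp_basis (hA : B.IsAlt) (hB : B.Nondegenerate) :
    ∀ (m : ℕ) (Z : Submodule F V), ND B Z → finrank F Z = 2 * m →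
      ∃ e f : Fin m → V, (∀ i, e i ∈ Z) ∧ (∀ i, f i ∈ Z) ∧
        (∀ i j, B (e i) (f j) = if i = j then 1 else 0) ∧
        (∀ i j, B (e i) (e j) = 0) ∧ (∀ i j, B (f i) (f j) = 0) := by
  intro m
  induction m with
  | zero =>
    intro Z _ _
    exact ⟨fun i => i.elim0, fun i => i.elim0, fun i => i.elim0, fun i => i.elim0,
      fun i => i.elim0, fun i => i.elim0, fun i => i.elim0⟩
  | succ m ih =>
    intro Z hZ hfin
    have hZ0 : Z ≠ ⊥ := by
      intro h
      rw [h, finrank_bot] at hfin
      omega
    obtain ⟨u, v, hu, hv, huv⟩ := exists_plane B hA hZ hZ0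
    obtain ⟨hH, hHfin⟩ := plane_props B hA huv
    have huH : u ∈ Submodule.span F (Set.range ![u, v]) := Submodule.subset_span ⟨0, rfl⟩
    have hvH : v ∈ Submodule.span F (Set.range ![u, v]) := Submodule.subset_span ⟨1, rfl⟩
    have hHZ : Submodule.span F (Set.range ![u, v]) ≤ Z := by
      rw [Submodule.span_le]
      rintro _ ⟨j, rfl⟩
      fin_cases j
      · exact hu
      · exact hv
    have h1 := finrank_perp_in B hA hB hZ hHZ
    have h2 := nd_perp_in B hA hZ hH hHZ
    rw [hfin, hHfin] at h1
    obtain ⟨e', f', he', hf', k1, k2, k3⟩ := ih _ h2 (by rw [h1]; omega)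
    have hue : ∀ i, B u (e' i) = 0 := fun i => (mem_perp B).mp (he' i).2 u huH
    have hve : ∀ i, B v (e' i) = 0 := fun i => (mem_perp B).mp (he' i).2 v hvH
    have huf : ∀ i, B u (f' i) = 0 := fun i => (mem_perp B).mp (hf' i).2 u huH
    have hvf : ∀ i, B v (f' i) = 0 := fun i => (mem_perp B).mp (hf' i).2 v hvH
    refine ⟨Fin.cons u e', Fin.cons v f', ?_, ?_, ?_, ?_, ?_⟩
    · intro i
      induction i using Fin.cases with
      | zero => exact hu
      | succ i => exact (he' i).1
    · intro i
      induction i using Fin.cases with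
      | zero => exact hv
      | succ i => exact (hf' i).1
    · intro i j
      induction i using Fin.cases with
      | zero =>
        induction j using Fin.cases with
        | zero =>
          rw [Fin.cons_zero, Fin.cons_zero, if_pos rfl]
          exact huv
        | succ j =>
          rw [Fin.cons_zero, Fin.cons_succ, if_neg (Fin.succ_ne_zero j).symm]
          exact huf j
      | succ i =>
        induction j using Fin.cases with
        | zero =>
          rw [Fin.cons_succ, Fin.cons_zero, if_neg (Fin.succ_ne_zero i)]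
          exact swap_zero B hA (hve i)
        | succ j =>
          rw [Fin.cons_succ, Fin.cons_succ, k1 i j]
          by_cases h : i = j
          · rw [if_pos h, if_pos (by rw [h])]
          · rw [if_neg h, if_neg (fun h' => h (Fin.succ_injective _ h'))]
    · intro i j
      induction i using Fin.cases with
      | zero =>
        induction j using Fin.cases with
        | zero =>
          rw [Fin.cons_zero]
          exact hA u
        | succ j =>
          rw [Fin.cons_zero, Fin.cons_succ]
          exact hue j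
      | succ i =>
        induction j using Fin.cases with
        | zero =>
          rw [Fin.cons_succ, Fin.cons_zero]
          exact swap_zero B hA (hue i)
        | succ j =>
          rw [Fin.cons_succ, Fin.cons_succ]
          exact k2 i j
    · intro i j
      induction i using Fin.cases with
      | zero =>
        induction j using Fin.cases with
        | zero =>
          rw [Fin.cons_zero]
          exact hA v
        | succ j =>
          rw [Fin.cons_zero, Fin.cons_succ]
          exact hvf j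
      | succ i =>
        induction j using Fin.cases with
        | zero =>
          rw [Fin.cons_succ, Fin.cons_zero]
          exact swap_zero B hA (hvf i)
        | succ j =>
          rw [Fin.cons_succ, Fin.cons_succ]
          exact k3 i j

/-- a hyperbolic family is linearly independent -/
theorem hyp_li (hA : B.IsAlt) {ι : Type} [Fintype ι] [DecidableEq ι] (e f : ι → V)
    (h1 : ∀ i j, B (e i) (f j) = if i = j then 1 else 0) (h2 : ∀ i j, B (e i) (e j) = 0)
    (h3 : ∀ i j, B (f i) (f j) = 0) : LinearIndependent F (Sum.elim e f) := by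
  rw [Fintype.linearIndependent_iff]
  intro cf hcf
  rw [Fintype.sum_sum_type] at hcf
  simp only [Sum.elim_inl, Sum.elim_inr] at hcf
  have hfe : ∀ i j, B (f i) (e j) = if i = j then -1 else 0 := by
    intro i j
    rw [← hA.neg_eq, h1]
    by_cases h : i = j
    · subst h
      simp
    · have : ¬ j = i := fun h' => h h'.symm
      simp [h, this]
  have hpair : ∀ z : V, (∑ i, cf (Sum.inl i) * B (e i) z + ∑ i, cf (Sum.inr i) * B (f i) z) = 0 := by
    intro z
    have := congrArg (fun x => B x z) hcf
    simp only [map_add, map_sum, map_smul, LinearMap.add_apply, LinearMap.sum_apply,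
      LinearMap.smul_apply, smul_eq_mul, map_zero, LinearMap.zero_apply] at this
    exact this
  have he0 : ∀ j, cf (Sum.inl j) = 0 := by
    intro j
    have := hpair (f j)
    simp only [h1, h3, mul_zero, Finset.sum_const_zero, add_zero, mul_ite, mul_one,
      Finset.sum_ite_eq', Finset.mem_univ, if_true] at this
    exact this
  have hf0 : ∀ j, cf (Sum.inr j) = 0 := by
    intro j
    have := hpair (e j)
    simp only [h2, hfe, mul_zero, Finset.sum_const_zero, zero_add, mul_ite, mul_neg, mul_one,
      Finset.sum_ite_eq', Finset.mem_univ, if_true, neg_eq_zero] at this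
    exact this
  rintro (i | i)
  · exact he0 i
  · exact hf0 i

/-- Witt: two hyperbolic families with the same index set are related by an isometry -/
theorem witt_hyp (hA : B.IsAlt) (hB : B.Nondegenerate) {ι : Type} [Fintype ι] [DecidableEq ι]
    (e f e' f' : ι → V)
    (h1 : ∀ i j, B (e i) (f j) = if i = j then 1 else 0) (h2 : ∀ i j, B (e i) (e j) = 0)
    (h3 : ∀ i j, B (f i) (f j) = 0)
    (h1' : ∀ i j, B (e' i) (f' j) = if i = j then 1 else 0) (h2' : ∀ i j, B (e' i) (e' j) = 0)
    (h3' : ∀ i j, B (f' i) (f' j) = 0) :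
    ∃ g : V ≃ₗ[F] V, (∀ u v, B (g u) (g v) = B u v) ∧ (∀ i, g (e i) = e' i) ∧
      (∀ i, g (f i) = f' i) := by
  let ε : Fin (Fintype.card (ι ⊕ ι)) ≃ ι ⊕ ι := (Fintype.equivFin (ι ⊕ ι)).symm
  have hli : LinearIndependent F (Sum.elim e f ∘ ε) :=
    (hyp_li B hA e f h1 h2 h3).comp _ ε.injective
  have hli' : LinearIndependent F (Sum.elim e' f' ∘ ε) :=
    (hyp_li B hA e' f' h1' h2' h3').comp _ ε.injective
  have hgram : ∀ p q : ι ⊕ ι, B (Sum.elim e f p) (Sum.elim e f q) =
      B (Sum.elim e' f' p) (Sum.elim e' f' q) := by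
    rintro (i | i) (j | j)
    · simp only [Sum.elim_inl, h2, h2']
    · simp only [Sum.elim_inl, Sum.elim_inr, h1, h1']
    · simp only [Sum.elim_inl, Sum.elim_inr]
      rw [← hA.neg_eq, ← hA.neg_eq (e' j), h1, h1']
    · simp only [Sum.elim_inr, h3, h3']
  obtain ⟨g, hg, hgx⟩ := Cfsg.Agent.Lib.Helper5.AltWitt.witt_family B hB hA _
    (Sum.elim e f ∘ ε) (Sum.elim e' f' ∘ ε) hli hli' (fun i j => hgram (ε i) (ε j))
  refine ⟨g, hg, fun i => ?_, fun i => ?_⟩
  · have := hgx (ε.symm (Sum.inl i))
    simpa using this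
  · have := hgx (ε.symm (Sum.inr i))
    simpa using this

/-- Witt: two families of pairwise orthogonal nondegenerate subspaces of the same dimension are
related by an isometry -/
theorem exists_iso_of_decomp (hA : B.IsAlt) (hB : B.Nondegenerate) {t m : ℕ}
    (D D' : Fin t → Submodule F V) (hD : ∀ j, ND B (D j)) (hDf : ∀ j, finrank F (D j) = 2 * m)
    (hDo : ∀ j j', j ≠ j' → Orth B (D j) (D j')) (hD' : ∀ j, ND B (D' j))
    (hDf' : ∀ j, finrank F (D' j) = 2 * m) (hDo' : ∀ j j', j ≠ j' → Orth B (D' j) (D' j')) :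
    ∃ g : V ≃ₗ[F] V, (∀ u v, B (g u) (g v) = B u v) ∧
      ∀ j, (D j).map (g : V →ₗ[F] V) = D' j := by
  classical
  have hex := fun j => exists_hyp_basis B hA hB m (D j) (hD j) (hDf j)
  choose e f he hf k1 k2 k3 using hex
  have hex' := fun j => exists_hyp_basis B hA hB m (D' j) (hD' j) (hDf' j)
  choose e' f' he' hf' k1' k2' k3' using hex'
  have key : ∀ (D : Fin t → Submodule F V) (hDo : ∀ j j', j ≠ j' → Orth B (D j) (D j'))
      (e f : Fin t → Fin m → V) (he : ∀ j i, e j i ∈ D j) (hf : ∀ j i, f j i ∈ D j)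
      (k1 : ∀ j i i', B (e j i) (f j i') = if i = i' then 1 else 0)
      (k2 : ∀ j i i', B (e j i) (e j i') = 0) (k3 : ∀ j i i', B (f j i) (f j i') = 0),
      (∀ p q : Fin t × Fin m, B (e p.1 p.2) (f q.1 q.2) = if p = q then 1 else 0) ∧
      (∀ p q : Fin t × Fin m, B (e p.1 p.2) (e q.1 q.2) = 0) ∧
      (∀ p q : Fin t × Fin m, B (f p.1 p.2) (f q.1 q.2) = 0) := by
    intro D hDo e f he hf k1 k2 k3
    refine ⟨?_, ?_, ?_⟩
    · rintro ⟨j, i⟩ ⟨j', i'⟩
      by_cases hj : j = j'
      · subst hj
        rw [k1]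
        by_cases hi : i = i'
        · rw [if_pos hi, if_pos (by rw [hi])]
        · rw [if_neg hi, if_neg (fun h => hi (Prod.mk.inj h).2)]
      · rw [if_neg (fun h => hj (Prod.mk.inj h).1)]
        exact hDo j j' hj _ (he j i) _ (hf j' i')
    · rintro ⟨j, i⟩ ⟨j', i'⟩
      by_cases hj : j = j'
      · subst hj
        exact k2 j i i'
      · exact hDo j j' hj _ (he j i) _ (he j' i')
    · rintro ⟨j, i⟩ ⟨j', i'⟩
      by_cases hj : j = j'
      · subst hj
        exact k3 j i i'
      · exact hDo j j' hj _ (hf j i) _ (hf j' i')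
  obtain ⟨g1, g2, g3⟩ := key D hDo e f he hf k1 k2 k3
  obtain ⟨g1', g2', g3'⟩ := key D' hDo' e' f' he' hf' k1' k2' k3'
  obtain ⟨g, hg, hge, hgf⟩ := witt_hyp B hA hB (fun p : Fin t × Fin m => e p.1 p.2)
    (fun p => f p.1 p.2) (fun p => e' p.1 p.2) (fun p => f' p.1 p.2) g1 g2 g3 g1' g2' g3'
  have hspan : ∀ (D : Fin t → Submodule F V) (hDf : ∀ j, finrank F (D j) = 2 * m)
      (e f : Fin t → Fin m → V) (he : ∀ j i, e j i ∈ D j) (hf : ∀ j i, f j i ∈ D j)
      (k1 : ∀ j i i', B (e j i) (f j i') = if i = i' then 1 else 0)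
      (k2 : ∀ j i i', B (e j i) (e j i') = 0) (k3 : ∀ j i i', B (f j i) (f j i') = 0) (j : Fin t),
      Submodule.span F (Set.range (Sum.elim (e j) (f j))) = D j := by
    intro D hDf e f he hf k1 k2 k3 j
    apply Submodule.eq_of_le_of_finrank_eq
    · rw [Submodule.span_le]
      rintro _ ⟨(i | i), rfl⟩
      · exact he j i
      · exact hf j i
    · rw [finrank_span_eq_card (hyp_li B hA (e j) (f j) (k1 j) (k2 j) (k3 j)), hDf j,
        Fintype.card_sum, Fintype.card_fin]
      omega
  refine ⟨g, hg, fun j => ?_⟩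
  rw [← hspan D hDf e f he hf k1 k2 k3 j, ← hspan D' hDf' e' f' he' hf' k1' k2' k3' j,
    Submodule.map_span, ← Set.range_comp]
  congr 2
  funext p
  rcases p with i | i
  · exact hge (j, i)
  · exact hgf (j, i)

end Alt

end Cfsg.Agent.Lib.Helper2.SpImp
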