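import Mathlib
import Cfsg.Agent.Lib.Helper2.SpImpA
set_option autoImplicit false
set_option maxHeartbeats 1000000
set_option linter.unusedVariables false
set_option linter.unusedSectionVars false
set_option linter.style.longLine false
set_option linter.unusedSimpArgs false
set_option linter.deprecated false
set_option linter.style.haveILetI false

/-! Field-extension subgroups of symplectic groups (part A): an extension field `E` of `F`
acting on an alternating `F`-space by self-adjoint operators; invariant subspaces, hyperbolic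
pairs over `E` and the normal form. -/

namespace Cfsg.Agent.Lib.Helper2.Fex

open Module Cfsg.Agent.Lib.Helper2

universe u v w

section Abs

variable {F : Type u} [Field F] {E : Type w} [Field E] [Algebra F E] [FiniteDimensional F E]
  {V : Type v} [AddCommGroup V] [Module F V] [FiniteDimensional F V]
variable (B : LinearMap.BilinForm F V) (ι : E →ₐ[F] Module.End F V)

/-- `E` acts by self-adjoint operators `a` with `B (a v) v = 0` -/
def IsSA : Prop := (∀ a u v, B (ι a u) v = B u (ι a v)) ∧ ∀ a v, B (ι a v) v = 0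

/-- invariance under `E` -/
def EInv (W : Submodule F V) : Prop := ∀ a, ∀ x ∈ W, ι a x ∈ W

theorem iota_mul_apply (a b : E) (v : V) : ι (a * b) v = ι a (ι b v) := by
  rw [map_mul]
  rfl

theorem iota_one_apply (v : V) : ι 1 v = v := by
  rw [map_one]
  rfl

theorem iota_apply_eq_zero {a : E} {u : V} (hu : u ≠ 0) (h : ι a u = 0) : a = 0 := by
  by_contra ha
  apply hu
  have h1 := congrArg (ι a⁻¹) h
  rw [← iota_mul_apply, inv_mul_cancel₀ ha, iota_one_apply, map_zero] at h1
  exact h1

/-- the orbit map `a ↦ a u` -/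
noncomputable def orb (u : V) : E →ₗ[F] V :=
  (LinearMap.applyₗ u : Module.End F V →ₗ[F] V) ∘ₗ ι.toLinearMap

theorem orb_apply (u : V) (a : E) : orb ι u a = ι a u := rfl

theorem orb_injective {u : V} (hu : u ≠ 0) : Function.Injective (orb ι u) := by
  rw [← LinearMap.ker_eq_bot, LinearMap.ker_eq_bot']
  intro a ha
  exact iota_apply_eq_zero ι hu ha

theorem finrank_range_orb {u : V} (hu : u ≠ 0) :
    finrank F (LinearMap.range (orb ι u)) = finrank F E :=
  LinearMap.finrank_range_of_inj (orb_injective ι hu)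

theorem einv_range_orb (u : V) : EInv ι (LinearMap.range (orb ι u)) := by
  rintro b _ ⟨a, rfl⟩
  exact ⟨b * a, by rw [orb_apply, orb_apply, iota_mul_apply]⟩

theorem self_mem_range_orb (u : V) : u ∈ LinearMap.range (orb ι u) :=
  ⟨1, by rw [orb_apply, iota_one_apply]⟩

theorem range_orb_le {u : V} {W : Submodule F V} (hW : EInv ι W) (hu : u ∈ W) :
    LinearMap.range (orb ι u) ≤ W := by
  rintro _ ⟨a, rfl⟩
  exact hW a u hu

theorem EInv.sup {ι : E →ₐ[F] Module.End F V} {X Y : Submodule F V} (hX : EInv ι X)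
    (hY : EInv ι Y) : EInv ι (X ⊔ Y) := by
  intro a x hx
  obtain ⟨x1, hx1, x2, hx2, rfl⟩ := Submodule.mem_sup.mp hx
  rw [map_add]
  exact Submodule.add_mem _ (Submodule.mem_sup_left (hX a x1 hx1))
    (Submodule.mem_sup_right (hY a x2 hx2))

theorem EInv.inf {ι : E →ₐ[F] Module.End F V} {X Y : Submodule F V} (hX : EInv ι X)
    (hY : EInv ι Y) : EInv ι (X ⊓ Y) :=
  fun a x hx => ⟨hX a x hx.1, hY a x hx.2⟩

variable {B ι}

theorem IsSA.perp (h : IsSA B ι) {W : Submodule F V} (hW : EInv ι W) :
    EInv ι (B.orthogonal W) := by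
  intro a x hx
  rw [SpImp.mem_perp] at hx ⊢
  intro y hy
  rw [← h.1]
  exact hx _ (hW a y hy)

theorem IsSA.orb_orb (h : IsSA B ι) (u : V) (a b : E) : B (ι a u) (ι b u) = 0 := by
  rw [← h.1, ← iota_mul_apply]
  exact h.2 _ u

/-- moving the scalars to one side -/
theorem IsSA.move (h : IsSA B ι) (u w : V) (a b : E) : B (ι a u) (ι b w) = B (ι (a * b) u) w := by
  rw [← h.1, ← iota_mul_apply, mul_comm]

/-- a hyperbolic partner over `E` -/
theorem exists_pair (hA : B.IsAlt) (h : IsSA B ι) (lam : E →ₗ[F] F) {W : Submodule F V}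
    (hW : SpImp.ND B W) (hWi : EInv ι W) {u : V} (hu : u ∈ W) (hu0 : u ≠ 0) :
    ∃ w ∈ W, ∀ a, B (ι a u) w = lam a := by
  have hnd := LinearMap.BilinForm.nondegenerate_restrict_of_disjoint_orthogonal B hA.isRefl hW
  obtain ⟨orbW, horbW⟩ : ∃ orbW : E →ₗ[F] W, ∀ a, ((orbW a : W) : V) = ι a u :=
    ⟨LinearMap.codRestrict W (orb ι u) (fun a => hWi a u hu), fun a => rfl⟩
  have hker : LinearMap.ker orbW = ⊥ := by
    rw [LinearMap.ker_eq_bot']
    intro a ha
    have h1 := congrArg Subtype.val ha
    rw [horbW] at h1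
    exact iota_apply_eq_zero ι hu0 h1
  obtain ⟨g', hg'⟩ := LinearMap.exists_leftInverse_of_injective orbW hker
  obtain ⟨w', hw'⟩ : ∃ w' : W, ∀ x : W, (B.restrict W) w' x = (lam ∘ₗ g') x :=
    ⟨((B.restrict W).toDual hnd).symm (lam ∘ₗ g'),
      fun x => LinearMap.BilinForm.apply_toDual_symm_apply _ x⟩
  refine ⟨-(w' : V), W.neg_mem w'.2, ?_⟩
  intro a
  have h1 := hw' (orbW a)
  have h2 : g' (orbW a) = a := by
    have h3 := congrArg (fun f : E →ₗ[F] E => f a) hg'
    exact h3
  rw [LinearMap.comp_apply, h2] at h1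
  have h4 : (B.restrict W) w' (orbW a) = B (w' : V) (ι a u) := by
    rw [← horbW]
    rfl
  rw [h4] at h1
  rw [map_neg, ← hA.neg_eq, neg_neg, h1]

end Abs

section Normal

variable {F : Type u} [Field F] {E : Type w} [Field E] [Algebra F E] [FiniteDimensional F E]
  {V : Type v} [AddCommGroup V] [Module F V] [FiniteDimensional F V]
variable {B : LinearMap.BilinForm F V} {ι : E →ₐ[F] Module.End F V}

theorem lam_mul_eq_zero {lam : E →ₗ[F] F} (hlam : lam ≠ 0) {b : E}
    (h : ∀ c, lam (b * c) = 0) : b = 0 := by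
  by_contra hb
  apply hlam
  apply LinearMap.ext
  intro x
  have h1 := h (b⁻¹ * x)
  rw [← mul_assoc, mul_inv_cancel₀ hb, one_mul] at h1
  rw [h1, LinearMap.zero_apply]

/-- the hyperbolic plane over `E` spanned by a pair -/
theorem pair_props (hA : B.IsAlt) (h : IsSA B ι) {lam : E →ₗ[F] F} (hlam : lam ≠ 0) {u w : V}
    (hp : ∀ a, B (ι a u) w = lam a) :
    SpImp.ND B (LinearMap.range (orb ι u) ⊔ LinearMap.range (orb ι w)) ∧
      (u ≠ 0 → finrank F (LinearMap.range (orb ι u) ⊔ LinearMap.range (orb ι w) :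
        Submodule F V) = 2 * finrank F E) := by
  have r1 : ∀ a b, B (ι a u) (ι b w) = lam (a * b) := by
    intro a b
    rw [h.move, hp]
  have r2 : ∀ a b, B (ι b w) (ι a u) = -lam (a * b) := by
    intro a b
    rw [← hA.neg_eq, r1]
  have hw0 : w ≠ 0 := by
    rintro rfl
    apply hlam
    apply LinearMap.ext
    intro a
    rw [← hp a, map_zero, LinearMap.zero_apply]
  constructor
  · rw [SpImp.nd_iff B hA]
    intro x hx hx2
    obtain ⟨_, ⟨a, rfl⟩, _, ⟨b, rfl⟩, rfl⟩ := Submodule.mem_sup.mp hx
    rw [orb_apply, orb_apply] at hx2 ⊢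
    have ha : a = 0 := by
      apply lam_mul_eq_zero hlam
      intro c
      have h1 := hx2 (ι c w) (Submodule.mem_sup_right ⟨c, rfl⟩)
      rw [map_add, LinearMap.add_apply, r1, h.orb_orb, add_zero] at h1
      exact h1
    have hb : b = 0 := by
      apply lam_mul_eq_zero hlam
      intro c
      have h1 := hx2 (ι c u) (Submodule.mem_sup_left ⟨c, rfl⟩)
      rw [map_add, LinearMap.add_apply, r2, h.orb_orb, zero_add, neg_eq_zero, mul_comm] at h1
      exact h1
    rw [ha, hb, map_zero, LinearMap.zero_apply, LinearMap.zero_apply, add_zero]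
  · intro hu0
    have hdisj : Disjoint (LinearMap.range (orb ι u)) (LinearMap.range (orb ι w)) := by
      rw [Submodule.disjoint_def]
      rintro x ⟨a, rfl⟩ ⟨b, hb⟩
      rw [orb_apply] at hb ⊢
      have hb0 : b = 0 := by
        apply lam_mul_eq_zero hlam
        intro c
        have h1 : B (ι c u) (ι b w) = 0 := by
          rw [hb]
          exact h.orb_orb u c a
        rw [r1, mul_comm] at h1
        exact h1
      rw [orb_apply, hb0, map_zero, LinearMap.zero_apply] at hb
      exact hb.symm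
    have h3 := Submodule.finrank_sup_add_finrank_inf_eq (LinearMap.range (orb ι u))
      (LinearMap.range (orb ι w))
    rw [hdisj.eq_bot, finrank_bot, add_zero, finrank_range_orb ι hu0, finrank_range_orb ι hw0]
      at h3
    omega

/-- normal form: a nondegenerate `E`-invariant subspace is an orthogonal sum of hyperbolic planes
over `E` -/
theorem exists_family (hA : B.IsAlt) (hB : B.Nondegenerate) (h : IsSA B ι) {lam : E →ₗ[F] F}
    (hlam : lam ≠ 0) :
    ∀ (n : ℕ) (W : Submodule F V), finrank F W = n → SpImp.ND B W → EInv ι W →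
      ∃ (t : ℕ) (u w : Fin t → V), n = 2 * finrank F E * t ∧ (∀ j, u j ∈ W) ∧ (∀ j, w j ∈ W) ∧
        (∀ j l a a', B (ι a (u j)) (ι a' (w l)) = if j = l then lam (a * a') else 0) ∧
        (∀ j l a a', B (ι a (u j)) (ι a' (u l)) = 0) ∧
        (∀ j l a a', B (ι a (w j)) (ι a' (w l)) = 0) := by
  intro n
  induction n using Nat.strong_induction_on with
  | _ n ih =>
    intro W hn hW hWi
    by_cases hW0 : W = ⊥
    · refine ⟨0, fun j => j.elim0, fun j => j.elim0, ?_, fun j => j.elim0, fun j => j.elim0,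
        fun j => j.elim0, fun j => j.elim0, fun j => j.elim0⟩
      rw [hW0, finrank_bot] at hn
      rw [← hn, mul_zero]
    · obtain ⟨u₀, hu₀, hu₀0⟩ := Submodule.exists_mem_ne_zero_of_ne_bot hW0
      obtain ⟨w₀, hw₀, hp⟩ := exists_pair hA h lam hW hWi hu₀ hu₀0
      obtain ⟨hPnd, hPfin⟩ := pair_props hA h hlam hp
      have hPfin' := hPfin hu₀0
      obtain ⟨P, hPdef⟩ : ∃ P : Submodule F V,
          P = LinearMap.range (orb ι u₀) ⊔ LinearMap.range (orb ι w₀) := ⟨_, rfl⟩
      rw [← hPdef] at hPnd hPfin'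
      have hPW : P ≤ W := by
        rw [hPdef]
        exact sup_le (range_orb_le ι hWi hu₀) (range_orb_le ι hWi hw₀)
      have hPi : EInv ι P := by
        rw [hPdef]
        exact (einv_range_orb ι u₀).sup (einv_range_orb ι w₀)
      have hu₀P : ∀ a, ι a u₀ ∈ P := by
        intro a
        rw [hPdef]
        exact Submodule.mem_sup_left ⟨a, rfl⟩
      have hw₀P : ∀ a, ι a w₀ ∈ P := by
        intro a
        rw [hPdef]
        exact Submodule.mem_sup_right ⟨a, rfl⟩
      have hW₁nd : SpImp.ND B (W ⊓ B.orthogonal P) := SpImp.nd_perp_in B hA hW hPnd hPW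
      have hW₁i : EInv ι (W ⊓ B.orthogonal P) := hWi.inf (h.perp hPi)
      have hW₁fin : finrank F (W ⊓ B.orthogonal P : Submodule F V) = n - 2 * finrank F E := by
        rw [SpImp.finrank_perp_in B hA hB hW hPW, hn, hPfin']
      have hPle : 2 * finrank F E ≤ n := by
        rw [← hn, ← hPfin']
        exact Submodule.finrank_mono hPW
      have hkpos : 0 < finrank F E := Module.finrank_pos
      obtain ⟨t, u₁, w₁, ht, hu₁, hw₁, q1, q2, q3⟩ := ih (n - 2 * finrank F E) (by omega) _
        hW₁fin hW₁nd hW₁i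
      have o1 : ∀ x ∈ P, ∀ y ∈ W ⊓ B.orthogonal P, B x y = 0 := by
        intro x hx y hy
        exact (SpImp.mem_perp B).mp hy.2 x hx
      have o2 : ∀ x ∈ P, ∀ y ∈ W ⊓ B.orthogonal P, B y x = 0 := by
        intro x hx y hy
        rw [← hA.neg_eq, o1 x hx y hy, neg_zero]
      refine ⟨t + 1, Fin.cons u₀ u₁, Fin.cons w₀ w₁, ?_, ?_, ?_, ?_, ?_, ?_⟩
      · rw [mul_add, ← ht]
        omega
      · intro j
        refine Fin.cases ?_ (fun j' => ?_) j
        · rw [Fin.cons_zero]
          exact hu₀
        · rw [Fin.cons_succ]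
          exact (hu₁ j').1
      · intro j
        refine Fin.cases ?_ (fun j' => ?_) j
        · rw [Fin.cons_zero]
          exact hw₀
        · rw [Fin.cons_succ]
          exact (hw₁ j').1
      · intro j l a a'
        refine Fin.cases ?_ (fun j' => ?_) j
        · refine Fin.cases ?_ (fun l' => ?_) l
          · rw [Fin.cons_zero, Fin.cons_zero, if_pos rfl, h.move, hp]
          · rw [Fin.cons_zero, Fin.cons_succ, if_neg (Fin.succ_ne_zero l').symm]
            exact o1 _ (hu₀P a) _ (hW₁i a' _ (hw₁ l'))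
        · refine Fin.cases ?_ (fun l' => ?_) l
          · rw [Fin.cons_zero, Fin.cons_succ, if_neg (Fin.succ_ne_zero j')]
            exact o2 _ (hw₀P a') _ (hW₁i a _ (hu₁ j'))
          · rw [Fin.cons_succ, Fin.cons_succ, q1]
            by_cases hjl : j' = l'
            · rw [if_pos hjl, if_pos (by rw [hjl])]
            · rw [if_neg hjl, if_neg (fun hc => hjl (Fin.succ_inj.mp hc))]
      · intro j l a a'
        refine Fin.cases ?_ (fun j' => ?_) j
        · refine Fin.cases ?_ (fun l' => ?_) l
          · rw [Fin.cons_zero]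
            exact h.orb_orb u₀ a a'
          · rw [Fin.cons_zero, Fin.cons_succ]
            exact o1 _ (hu₀P a) _ (hW₁i a' _ (hu₁ l'))
        · refine Fin.cases ?_ (fun l' => ?_) l
          · rw [Fin.cons_zero, Fin.cons_succ]
            exact o2 _ (hu₀P a') _ (hW₁i a _ (hu₁ j'))
          · rw [Fin.cons_succ, Fin.cons_succ]
            exact q2 j' l' a a'
      · intro j l a a'
        refine Fin.cases ?_ (fun j' => ?_) j
        · refine Fin.cases ?_ (fun l' => ?_) l
          · rw [Fin.cons_zero]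
            exact h.orb_orb w₀ a a'
          · rw [Fin.cons_zero, Fin.cons_succ]
            exact o1 _ (hw₀P a) _ (hW₁i a' _ (hw₁ l'))
        · refine Fin.cases ?_ (fun l' => ?_) l
          · rw [Fin.cons_zero, Fin.cons_succ]
            exact o2 _ (hw₀P a') _ (hW₁i a _ (hw₁ j'))
          · rw [Fin.cons_succ, Fin.cons_succ]
            exact q3 j' l' a a'

theorem exists_functional_ne_zero : ∃ lam : E →ₗ[F] F, lam ≠ 0 := by
  have hker : LinearMap.ker (Algebra.linearMap F E) = ⊥ := by
    rw [LinearMap.ker_eq_bot]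
    exact (algebraMap F E).injective
  obtain ⟨g, hg⟩ := LinearMap.exists_leftInverse_of_injective (Algebra.linearMap F E) hker
  refine ⟨g, ?_⟩
  intro h0
  have h1 := congrArg (fun f : F →ₗ[F] F => f 1) hg
  simp only [LinearMap.comp_apply, LinearMap.id_apply] at h1
  rw [h0, LinearMap.zero_apply] at h1
  exact zero_ne_one h1

/-- a nondegenerate `E`-invariant subspace has dimension divisible by `2 [E : F]` -/
theorem two_mul_finrank_dvd (hA : B.IsAlt) (hB : B.Nondegenerate) (h : IsSA B ι)
    {W : Submodule F V} (hW : SpImp.ND B W) (hWi : EInv ι W) :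
    2 * finrank F E ∣ finrank F W := by
  have hk : 0 < finrank F E := Module.finrank_pos
  obtain ⟨lam, hlam⟩ := exists_functional_ne_zero (F := F) (E := E)
  obtain ⟨t, -, -, ht, -⟩ := exists_family hA hB h hlam _ W rfl hW hWi
  exact ⟨t, ht⟩

end Normal

end Cfsg.Agent.Lib.Helper2.Fex
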