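import Mathlib
import Cfsg.Agent.Lib.Helper2.FexA
set_option autoImplicit false
set_option maxHeartbeats 1000000
set_option linter.unusedVariables false
set_option linter.unusedSectionVars false
set_option linter.style.longLine false
set_option linter.unusedSimpArgs false
set_option linter.deprecated false
set_option linter.style.haveILetI false

/-! Field-extension subgroups of symplectic groups (part B): an operator normalizing the action
of a finite extension field `E` of prime degree `k`, with an `r`-th power centralizing it for a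
prime `r ≠ k`, centralizes it (Galois theory of finite fields). -/

namespace Cfsg.Agent.Lib.Helper2.Fex

open Module Cfsg.Agent.Lib.Helper2

universe u v w

section Gal

variable {F : Type u} [Field F] {E : Type w} [Field E] [Finite E] [Algebra F E]
  [FiniteDimensional F E]
  {V : Type v} [AddCommGroup V] [Module F V] [FiniteDimensional F V]
variable (ι : E →ₐ[F] Module.End F V)

theorem iota_injective [Nontrivial V] : Function.Injective ι := by
  obtain ⟨u, hu⟩ := exists_ne (0 : V)
  intro a b hab
  have h1 : ι (a - b) u = 0 := by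
    rw [map_sub, hab, sub_self, LinearMap.zero_apply]
  exact sub_eq_zero.mp (iota_apply_eq_zero ι hu h1)

theorem comm_of_normalize [Nontrivial V] (x : V ≃ₗ[F] V)
    (hx : ∀ a, ∃ a', ∀ v, x (ι a v) = ι a' (x v)) (r : ℕ) (hr : r.Prime)
    (hk : (finrank F E).Prime) (hrk : r ≠ finrank F E)
    (hxr : ∀ a v, (x ^ r) (ι a v) = ι a ((x ^ r) v)) : ∀ a v, x (ι a v) = ι a (x v) := by
  classical
  have hinj := iota_injective ι
  obtain ⟨τ, hτ⟩ : ∃ τ : E → E, ∀ a v, x (ι a v) = ι (τ a) (x v) :=
    ⟨fun a => (hx a).choose, fun a => (hx a).choose_spec⟩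
  have huniq : ∀ a b, (∀ v, x (ι a v) = ι b (x v)) → b = τ a := by
    intro a b hb
    apply hinj
    apply LinearMap.ext
    intro v'
    obtain ⟨v, rfl⟩ := x.surjective v'
    rw [← hb, hτ]
  have hmul : ∀ a b, τ (a * b) = τ a * τ b := by
    intro a b
    symm
    apply huniq
    intro v
    rw [iota_mul_apply, hτ, hτ, ← iota_mul_apply]
  have hadd : ∀ a b, τ (a + b) = τ a + τ b := by
    intro a b
    symm
    apply huniq
    intro v
    rw [map_add, LinearMap.add_apply, map_add, hτ, hτ, map_add, LinearMap.add_apply]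
  have halg : ∀ c : F, τ (algebraMap F E c) = algebraMap F E c := by
    intro c
    symm
    apply huniq
    intro v
    rw [AlgHom.commutes, Module.algebraMap_end_apply, Module.algebraMap_end_apply, map_smul]
  have hone : τ 1 = 1 := by
    have h1 := halg 1
    rw [map_one] at h1
    exact h1
  have hzero : τ 0 = 0 := by
    have h1 := halg 0
    rw [map_zero] at h1
    exact h1
  obtain ⟨τA, hτA⟩ : ∃ τA : E →ₐ[F] E, ∀ a, τA a = τ a :=
    ⟨{ toFun := τ, map_one' := hone, map_mul' := hmul, map_zero' := hzero, map_add' := hadd,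
       commutes' := halg }, fun a => rfl⟩
  obtain ⟨σ, hσ⟩ : ∃ σ : E ≃ₐ[F] E, ∀ a, σ a = τ a :=
    ⟨AlgEquiv.ofBijective τA (Algebra.IsAlgebraic.algHom_bijective τA), fun a => hτA a⟩
  have hpow : ∀ n : ℕ, ∀ a v, (x ^ n) (ι a v) = ι ((σ ^ n) a) ((x ^ n) v) := by
    intro n
    induction n with
    | zero =>
      intro a v
      rw [pow_zero, pow_zero]
      rfl
    | succ n ih =>
      intro a v
      rw [pow_succ, pow_succ, LinearEquiv.mul_apply, LinearEquiv.mul_apply, hτ, ih, AlgEquiv.mul_apply,
        hσ]
  have hσr : σ ^ r = 1 := by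
    apply AlgEquiv.ext
    intro a
    apply hinj
    apply LinearMap.ext
    intro v'
    obtain ⟨v, rfl⟩ := (x ^ r).surjective v'
    rw [← hpow, hxr]
    rfl
  have hcard : Nat.card (E ≃ₐ[F] E) = finrank F E := IsGalois.card_aut_eq_finrank F E
  have h1 : orderOf σ ∣ r := orderOf_dvd_of_pow_eq_one hσr
  have h2 : orderOf σ ∣ finrank F E := by
    rw [← hcard]
    exact orderOf_dvd_natCard σ
  have h3 : orderOf σ = 1 := by
    rcases (Nat.dvd_prime hr).mp h1 with h | h
    · exact h
    · exfalso
      rw [h] at h2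
      exact hrk ((Nat.prime_dvd_prime_iff_eq hr hk).mp h2)
  have h4 : σ = 1 := orderOf_eq_one_iff.mp h3
  intro a v
  rw [hτ, ← hσ, h4]
  rfl

end Gal

end Cfsg.Agent.Lib.Helper2.Fex
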