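import Mathlib

set_option autoImplicit false

/-! Upper unitriangular matrices in `SL_n(K)`: transvections, the `p`-group property, and the two
abelian normal subgroups given by the first row and the last column. -/

namespace Cfsg.Agent.Lib.Helper2.UniTri

open Matrix

variable {K : Type*} [Field K] {n : ℕ}

local notation "SLn" => Matrix.SpecialLinearGroup (Fin n) K
local notation "Mn" => Matrix (Fin n) (Fin n) K

/-! ### General matrix lemmas -/

theorem mul_apply_of_row {M N : Mn} {a : Fin n} (h : ∀ k, M a k = (1 : Mn) a k) (b : Fin n) :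
    (M * N) a b = N a b := by
  rw [Matrix.mul_apply, Finset.sum_congr rfl (fun k _ => by rw [h k]), ← Matrix.mul_apply,
    one_mul]

theorem mul_apply_of_col {M N : Mn} {b : Fin n} (h : ∀ k, N k b = (1 : Mn) k b) (a : Fin n) :
    (M * N) a b = M a b := by
  rw [Matrix.mul_apply, Finset.sum_congr rfl (fun k _ => by rw [h k]), ← Matrix.mul_apply,
    mul_one]

/-- a submonoid of a finite group is a subgroup -/
def ofSubmonoid {L : Type*} [Group L] [Finite L] (M : Submonoid L) : Subgroup L :=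
  { M with
    inv_mem' := by
      intro x hx
      have h1 : x⁻¹ = x ^ (orderOf x - 1) := by
        apply inv_eq_of_mul_eq_one_right
        rw [← pow_succ', Nat.sub_add_cancel (orderOf_pos x), pow_orderOf_eq_one]
      rw [h1]
      exact M.pow_mem hx _ }

theorem mem_ofSubmonoid {L : Type*} [Group L] [Finite L] (M : Submonoid L) (x : L) :
    x ∈ ofSubmonoid M ↔ x ∈ M := Iff.rfl

/-! ### Transvections -/

/-- the transvection as an element of the special linear group -/
def tv (i j : Fin n) (h : i ≠ j) (c : K) : SLn :=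
  ⟨Matrix.transvection i j c, Matrix.det_transvection_of_ne i j h c⟩

theorem tv_val (i j : Fin n) (h : i ≠ j) (c : K) :
    (tv i j h c).1 = Matrix.transvection i j c := rfl

theorem tv_mul_tv (i j : Fin n) (h : i ≠ j) (c d : K) :
    tv i j h c * tv i j h d = tv i j h (c + d) := by
  apply Subtype.ext
  rw [Matrix.SpecialLinearGroup.coe_mul]
  exact Matrix.transvection_mul_transvection_same i j h c d

theorem tv_zero (i j : Fin n) (h : i ≠ j) : tv i j h (0 : K) = 1 := by
  apply Subtype.ext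
  rw [Matrix.SpecialLinearGroup.coe_one]
  exact Matrix.transvection_zero i j

theorem tv_inv (i j : Fin n) (h : i ≠ j) (c : K) : (tv i j h c)⁻¹ = tv i j h (-c) := by
  apply inv_eq_of_mul_eq_one_right
  rw [tv_mul_tv, add_neg_cancel, tv_zero]

theorem tv_apply (i j : Fin n) (h : i ≠ j) (c : K) (a b : Fin n) :
    (tv i j h c).1 a b = (1 : Mn) a b + if i = a ∧ j = b then c else 0 := by
  rw [tv_val, Matrix.transvection, Matrix.add_apply, Matrix.single_apply]

theorem tv_mul_apply (i j : Fin n) (h : i ≠ j) (c : K) (x : SLn) (a b : Fin n) :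
    (tv i j h c * x).1 a b = x.1 a b + if a = i then c * x.1 j b else 0 := by
  rw [Matrix.SpecialLinearGroup.coe_mul, tv_val]
  split_ifs with hai
  · rw [hai]
    exact Matrix.transvection_mul_apply_same i j b c x.1
  · rw [Matrix.transvection_mul_apply_of_ne i j a b hai c x.1, add_zero]

theorem mul_tv_apply (i j : Fin n) (h : i ≠ j) (c : K) (x : SLn) (a b : Fin n) :
    (x * tv i j h c).1 a b = x.1 a b + if b = j then c * x.1 a i else 0 := by
  rw [Matrix.SpecialLinearGroup.coe_mul, tv_val]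
  split_ifs with hbj
  · rw [hbj]
    exact Matrix.mul_transvection_apply_same i j a c x.1
  · rw [Matrix.mul_transvection_apply_of_ne i j a b hbj c x.1, add_zero]

theorem tv_pow_char (p : ℕ) [CharP K p] (i j : Fin n) (h : i ≠ j) (c : K) :
    tv i j h c ^ p = 1 := by
  have key : ∀ m : ℕ, tv i j h c ^ m = tv i j h (m * c) := by
    intro m
    induction m with
    | zero => rw [pow_zero, Nat.cast_zero, zero_mul, tv_zero]
    | succ m ih => rw [pow_succ, ih, tv_mul_tv, Nat.cast_succ, add_mul, one_mul]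
  rw [key, CharP.cast_eq_zero K p, zero_mul, tv_zero]

theorem commute_single_of_commute_tv {i j : Fin n} (h : i ≠ j) {u : SLn}
    (hc : tv i j h 1 * u = u * tv i j h 1) : Commute (Matrix.single i j (1 : K)) u.1 := by
  have h1 := congrArg Subtype.val hc
  rw [Matrix.SpecialLinearGroup.coe_mul, Matrix.SpecialLinearGroup.coe_mul, tv_val,
    Matrix.transvection, add_mul, mul_add, one_mul, mul_one] at h1
  exact add_left_cancel h1

/-! ### The unitriangular group -/

/-- upper unitriangular -/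
def IsUT (x : SLn) : Prop := (∀ a b : Fin n, b < a → x.1 a b = 0) ∧ ∀ a : Fin n, x.1 a a = 1

theorem isUT_one : IsUT (1 : SLn) := by
  constructor
  · intro a b hab
    rw [Matrix.SpecialLinearGroup.coe_one, Matrix.one_apply_ne (ne_of_gt hab)]
  · intro a
    rw [Matrix.SpecialLinearGroup.coe_one, Matrix.one_apply_eq]

theorem isUT_mul {x y : SLn} (hx : IsUT x) (hy : IsUT y) : IsUT (x * y) := by
  constructor
  · intro a b hab
    rw [Matrix.SpecialLinearGroup.coe_mul, Matrix.mul_apply]
    apply Finset.sum_eq_zero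
    intro k _
    by_cases hk : k < a
    · rw [hx.1 a k hk, zero_mul]
    · rw [hy.1 k b (lt_of_lt_of_le hab (not_lt.mp hk)), mul_zero]
  · intro a
    rw [Matrix.SpecialLinearGroup.coe_mul, Matrix.mul_apply, Finset.sum_eq_single a]
    · rw [hx.2 a, hy.2 a, one_mul]
    · intro k _ hka
      rcases lt_or_gt_of_ne hka with h | h
      · rw [hx.1 a k h, zero_mul]
      · rw [hy.1 k a h, mul_zero]
    · intro h
      exact absurd (Finset.mem_univ a) h

variable [Fintype K]

/-- the group of upper unitriangular matrices -/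
def UT : Subgroup SLn := ofSubmonoid
  { carrier := {x | IsUT x}
    mul_mem' := fun hx hy => isUT_mul hx hy
    one_mem' := isUT_one }

theorem mem_UT {x : SLn} : x ∈ (UT : Subgroup SLn) ↔ IsUT x := Iff.rfl

theorem tv_mem_UT {i j : Fin n} (hij : i < j) (c : K) :
    tv i j (ne_of_lt hij) c ∈ (UT : Subgroup SLn) := by
  rw [mem_UT]
  constructor
  · intro a b hab
    rw [tv_apply, Matrix.one_apply_ne (ne_of_gt hab), zero_add, if_neg]
    intro h
    rw [← h.1, ← h.2] at hab
    exact lt_asymm hab hij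
  · intro a
    rw [tv_apply, Matrix.one_apply_eq, if_neg, add_zero]
    intro h
    exact (ne_of_lt hij) (h.1.trans h.2.symm)

theorem strictUpper_pow (N : Mn) (hN : ∀ a b : Fin n, b ≤ a → N a b = 0) (k : ℕ) :
    ∀ a b : Fin n, (b : ℕ) < (a : ℕ) + k → (N ^ k) a b = 0 := by
  induction k with
  | zero =>
    intro a b hab
    rw [pow_zero, Matrix.one_apply_ne]
    intro h
    rw [h] at hab
    omega
  | succ k ih =>
    intro a b hab
    rw [pow_succ, Matrix.mul_apply]
    apply Finset.sum_eq_zero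
    intro m _
    by_cases hm : (m : ℕ) < (a : ℕ) + k
    · rw [ih a m hm, zero_mul]
    · rw [hN m b (by rw [Fin.le_def]; omega), mul_zero]

theorem UT_pow (p : ℕ) [Fact p.Prime] [CharP K p] [NeZero n] {x : SLn}
    (hx : x ∈ (UT : Subgroup SLn)) : x ^ p ^ n = 1 := by
  obtain ⟨h1, h2⟩ := mem_UT.mp hx
  apply Subtype.ext
  rw [Matrix.SpecialLinearGroup.coe_pow, Matrix.SpecialLinearGroup.coe_one]
  obtain ⟨N, hNdef⟩ : ∃ N : Mn, N = x.1 - 1 := ⟨_, rfl⟩
  have hN : ∀ a b : Fin n, b ≤ a → N a b = 0 := by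
    intro a b hab
    rw [hNdef, Matrix.sub_apply]
    rcases lt_or_eq_of_le hab with h | h
    · rw [h1 a b h, Matrix.one_apply_ne (ne_of_gt h), sub_zero]
    · rw [h, h2 a, Matrix.one_apply_eq, sub_self]
  have hx1 : x.1 = N + 1 := by rw [hNdef, sub_add_cancel]
  have hNn : N ^ n = 0 := by
    ext a b
    rw [strictUpper_pow N hN n a b (by have := b.2; omega)]
    rfl
  have hpn : n ≤ p ^ n := (Nat.lt_pow_self (Fact.out : p.Prime).one_lt).le
  rw [hx1, add_pow_char_pow_of_commute p n (Commute.one_right N), one_pow,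
    pow_eq_zero_of_le hpn hNn, zero_add]

theorem UT_isPGroup (p : ℕ) [Fact p.Prime] [CharP K p] [NeZero n] :
    IsPGroup p (UT : Subgroup SLn) := by
  intro x
  refine ⟨n, ?_⟩
  apply Subtype.ext
  rw [Subgroup.coe_pow, Subgroup.coe_one]
  exact UT_pow p x.2

/-! ### The first-row and last-column subgroups -/

/-- only the row `z` differs from the identity -/
def IsA1 (z : Fin n) (x : SLn) : Prop :=
  (∀ a b : Fin n, a ≠ z → x.1 a b = (1 : Mn) a b) ∧ x.1 z z = 1

/-- only the column `l` differs from the identity -/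
def IsAl (l : Fin n) (x : SLn) : Prop :=
  (∀ a b : Fin n, b ≠ l → x.1 a b = (1 : Mn) a b) ∧ x.1 l l = 1

omit [Fintype K] in
theorem IsA1.col {z : Fin n} {x : SLn} (hx : IsA1 z x) (k : Fin n) : x.1 k z = (1 : Mn) k z := by
  by_cases hk : k = z
  · rw [hk, hx.2, Matrix.one_apply_eq]
  · exact hx.1 k z hk

omit [Fintype K] in
theorem IsAl.row {l : Fin n} {x : SLn} (hx : IsAl l x) (k : Fin n) : x.1 l k = (1 : Mn) l k := by
  by_cases hk : k = l
  · rw [hk, hx.2, Matrix.one_apply_eq]
  · exact hx.1 l k hk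

omit [Fintype K] in
theorem conj_isA1 {z : Fin n} {g v r : SLn} (hgv : g * v = 1)
    (hg : ∀ a, a ≠ z → g.1 a z = 0) (hg0 : g.1 z z = 1)
    (hv : ∀ m, v.1 m z = (1 : Mn) m z) (hr : IsA1 z r) : IsA1 z (g * r * v) := by
  have hgr : ∀ a, a ≠ z → ∀ m, (g.1 * r.1) a m = g.1 a m := by
    intro a ha m
    rw [Matrix.mul_apply]
    have h1 : ∀ k ∈ Finset.univ, g.1 a k * r.1 k m = g.1 a k * (1 : Mn) k m := by
      intro k _
      by_cases hk : k = z
      · rw [hk, hg a ha, zero_mul, zero_mul]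
      · rw [hr.1 k m hk]
    rw [Finset.sum_congr rfl h1, ← Matrix.mul_apply, mul_one]
  constructor
  · intro a b ha
    rw [Matrix.SpecialLinearGroup.coe_mul, Matrix.SpecialLinearGroup.coe_mul, Matrix.mul_apply,
      Finset.sum_congr rfl (fun m _ => by rw [hgr a ha m]), ← Matrix.mul_apply,
      ← Matrix.SpecialLinearGroup.coe_mul, hgv, Matrix.SpecialLinearGroup.coe_one]
  · rw [Matrix.SpecialLinearGroup.coe_mul, Matrix.SpecialLinearGroup.coe_mul,
      mul_apply_of_col hv z, mul_apply_of_col hr.col z, hg0]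

omit [Fintype K] in
theorem conj_isAl {l : Fin n} {g v r : SLn} (hgv : g * v = 1)
    (hv : ∀ b, b ≠ l → v.1 l b = 0) (hv0 : v.1 l l = 1)
    (hg : ∀ m, g.1 l m = (1 : Mn) l m) (hr : IsAl l r) : IsAl l (g * r * v) := by
  have hrv : ∀ b, b ≠ l → ∀ m, (r.1 * v.1) m b = v.1 m b := by
    intro b hb m
    rw [Matrix.mul_apply]
    have h1 : ∀ k ∈ Finset.univ, r.1 m k * v.1 k b = (1 : Mn) m k * v.1 k b := by
      intro k _
      by_cases hk : k = l
      · rw [hk, hv b hb, mul_zero, mul_zero]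
      · rw [hr.1 m k hk]
    rw [Finset.sum_congr rfl h1, ← Matrix.mul_apply, one_mul]
  constructor
  · intro a b hb
    rw [mul_assoc, Matrix.SpecialLinearGroup.coe_mul, Matrix.SpecialLinearGroup.coe_mul,
      Matrix.mul_apply,
      Finset.sum_congr rfl (fun m _ => by rw [hrv b hb m]), ← Matrix.mul_apply,
      ← Matrix.SpecialLinearGroup.coe_mul, hgv, Matrix.SpecialLinearGroup.coe_one]
  · rw [mul_assoc, Matrix.SpecialLinearGroup.coe_mul, Matrix.SpecialLinearGroup.coe_mul,
      mul_apply_of_row hg l, mul_apply_of_row hr.row l, hv0]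

/-- the first-row subgroup -/
def A1 (z : Fin n) : Subgroup SLn := ofSubmonoid
  { carrier := {x | IsA1 z x}
    mul_mem' := by
      intro x y hx hy
      constructor
      · intro a b ha
        rw [Matrix.SpecialLinearGroup.coe_mul, mul_apply_of_row (fun k => hx.1 a k ha) b]
        exact hy.1 a b ha
      · rw [Matrix.SpecialLinearGroup.coe_mul, mul_apply_of_col hy.col z]
        exact hx.2
    one_mem' := ⟨fun a b _ => by rw [Matrix.SpecialLinearGroup.coe_one],
      by rw [Matrix.SpecialLinearGroup.coe_one, Matrix.one_apply_eq]⟩ }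

/-- the last-column subgroup -/
def Al (l : Fin n) : Subgroup SLn := ofSubmonoid
  { carrier := {x | IsAl l x}
    mul_mem' := by
      intro x y hx hy
      constructor
      · intro a b hb
        rw [Matrix.SpecialLinearGroup.coe_mul, mul_apply_of_col (fun k => hy.1 k b hb) a]
        exact hx.1 a b hb
      · rw [Matrix.SpecialLinearGroup.coe_mul, mul_apply_of_row hx.row l]
        exact hy.2
    one_mem' := ⟨fun a b _ => by rw [Matrix.SpecialLinearGroup.coe_one],
      by rw [Matrix.SpecialLinearGroup.coe_one, Matrix.one_apply_eq]⟩ }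

theorem mem_A1 {z : Fin n} {x : SLn} : x ∈ (A1 z : Subgroup SLn) ↔ IsA1 z x := Iff.rfl

theorem mem_Al {l : Fin n} {x : SLn} : x ∈ (Al l : Subgroup SLn) ↔ IsAl l x := Iff.rfl

theorem A1_le_UT {z : Fin n} (hz : ∀ a, z ≤ a) : (A1 z : Subgroup SLn) ≤ UT := by
  intro x hx
  rw [mem_A1] at hx
  rw [mem_UT]
  constructor
  · intro a b hab
    have ha : a ≠ z := ne_of_gt (lt_of_le_of_lt (hz b) hab)
    rw [hx.1 a b ha, Matrix.one_apply_ne (ne_of_gt hab)]
  · intro a
    by_cases ha : a = z
    · rw [ha, hx.2]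
    · rw [hx.1 a a ha, Matrix.one_apply_eq]

theorem Al_le_UT {l : Fin n} (hl : ∀ a, a ≤ l) : (Al l : Subgroup SLn) ≤ UT := by
  intro x hx
  rw [mem_Al] at hx
  rw [mem_UT]
  constructor
  · intro a b hab
    have hb : b ≠ l := ne_of_lt (lt_of_lt_of_le hab (hl a))
    rw [hx.1 a b hb, Matrix.one_apply_ne (ne_of_gt hab)]
  · intro a
    by_cases ha : a = l
    · rw [ha, hx.2]
    · rw [hx.1 a a ha, Matrix.one_apply_eq]

/-- `UT` normalizes the first-row subgroup -/
theorem A1_conj_UT {z : Fin n} (hz : ∀ a, z ≤ a) {u r : SLn} (hu : u ∈ (UT : Subgroup SLn))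
    (hr : r ∈ (A1 z : Subgroup SLn)) : u * r * u⁻¹ ∈ (A1 z : Subgroup SLn) := by
  rw [mem_A1] at hr ⊢
  obtain ⟨h1, h2⟩ := mem_UT.mp hu
  obtain ⟨h3, h4⟩ := mem_UT.mp (UT.inv_mem hu)
  apply conj_isA1 (mul_inv_cancel u) _ (h2 z) _ hr
  · intro a ha
    exact h1 a z (lt_of_le_of_ne (hz a) (Ne.symm ha))
  · intro m
    by_cases hm : m = z
    · rw [hm, h4 z, Matrix.one_apply_eq]
    · rw [h3 m z (lt_of_le_of_ne (hz m) (Ne.symm hm)), Matrix.one_apply_ne hm]

/-- `UT` normalizes the last-column subgroup -/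
theorem Al_conj_UT {l : Fin n} (hl : ∀ a, a ≤ l) {u r : SLn} (hu : u ∈ (UT : Subgroup SLn))
    (hr : r ∈ (Al l : Subgroup SLn)) : u * r * u⁻¹ ∈ (Al l : Subgroup SLn) := by
  rw [mem_Al] at hr ⊢
  obtain ⟨h1, h2⟩ := mem_UT.mp hu
  obtain ⟨h3, h4⟩ := mem_UT.mp (UT.inv_mem hu)
  apply conj_isAl (mul_inv_cancel u) _ (h4 l) _ hr
  · intro b hb
    exact h3 l b (lt_of_le_of_ne (hl b) hb)
  · intro m
    by_cases hm : m = l
    · rw [hm, h2 l, Matrix.one_apply_eq]
    · rw [h1 l m (lt_of_le_of_ne (hl m) hm), Matrix.one_apply_ne (Ne.symm hm)]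

/-- transvections away from the index `z` normalize the first-row subgroup -/
theorem A1_conj_tv {z i j : Fin n} (hij : i ≠ j) (hi : i ≠ z) (hj : j ≠ z) (c : K) {r : SLn}
    (hr : r ∈ (A1 z : Subgroup SLn)) :
    tv i j hij c * r * (tv i j hij c)⁻¹ ∈ (A1 z : Subgroup SLn) := by
  rw [mem_A1] at hr ⊢
  apply conj_isA1 (mul_inv_cancel _) _ _ _ hr
  · intro a ha
    rw [tv_apply, Matrix.one_apply_ne ha, zero_add, if_neg]
    intro h
    exact hj h.2
  · rw [tv_apply, Matrix.one_apply_eq, if_neg, add_zero]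
    intro h
    exact hj h.2
  · intro m
    rw [tv_inv, tv_apply, if_neg, add_zero]
    intro h
    exact hj h.2

/-- transvections away from the index `l` normalize the last-column subgroup -/
theorem Al_conj_tv {l i j : Fin n} (hij : i ≠ j) (hi : i ≠ l) (hj : j ≠ l) (c : K) {r : SLn}
    (hr : r ∈ (Al l : Subgroup SLn)) :
    tv i j hij c * r * (tv i j hij c)⁻¹ ∈ (Al l : Subgroup SLn) := by
  rw [mem_Al] at hr ⊢
  apply conj_isAl (mul_inv_cancel _) _ _ _ hr
  · intro b hb
    rw [tv_inv, tv_apply, Matrix.one_apply_ne (Ne.symm hb), zero_add, if_neg]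
    intro h
    exact hi h.1
  · rw [tv_inv, tv_apply, Matrix.one_apply_eq, if_neg, add_zero]
    intro h
    exact hi h.1
  · intro m
    rw [tv_apply, if_neg, add_zero]
    intro h
    exact hi h.1

theorem tv_mem_A1 {z k : Fin n} (hzk : z ≠ k) (c : K) : tv z k hzk c ∈ (A1 z : Subgroup SLn) := by
  rw [mem_A1]
  constructor
  · intro a b ha
    rw [tv_apply, if_neg, add_zero]
    intro h
    exact ha h.1.symm
  · rw [tv_apply, Matrix.one_apply_eq, if_neg, add_zero]
    intro h
    exact hzk h.2.symm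

theorem tv_mem_Al {l k : Fin n} (hkl : k ≠ l) (c : K) : tv k l hkl c ∈ (Al l : Subgroup SLn) := by
  rw [mem_Al]
  constructor
  · intro a b hb
    rw [tv_apply, if_neg, add_zero]
    intro h
    exact hb h.2.symm
  · rw [tv_apply, Matrix.one_apply_eq, if_neg, add_zero]
    intro h
    exact hkl h.1

/-- the first-row subgroup is self-centralizing in `UT` -/
theorem A1_selfCentralizing {z : Fin n} {u : SLn} (hu : u ∈ (UT : Subgroup SLn))
    (hc : ∀ r ∈ (A1 z : Subgroup SLn), u * r = r * u) : u ∈ (A1 z : Subgroup SLn) := by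
  obtain ⟨h1, h2⟩ := mem_UT.mp hu
  rw [mem_A1]
  refine ⟨?_, h2 z⟩
  intro a b ha
  by_cases hab : a = b
  · rw [← hab, h2 a, Matrix.one_apply_eq]
  · rw [Matrix.one_apply_ne hab]
    have hza : z ≠ a := Ne.symm ha
    have hcm := (hc _ (tv_mem_A1 hza 1)).symm
    exact Matrix.row_eq_zero_of_commute_single (commute_single_of_commute_tv hza hcm)
      (Ne.symm hab)

/-- the last-column subgroup is self-centralizing in `UT` -/
theorem Al_selfCentralizing {l : Fin n} {u : SLn} (hu : u ∈ (UT : Subgroup SLn))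
    (hc : ∀ r ∈ (Al l : Subgroup SLn), u * r = r * u) : u ∈ (Al l : Subgroup SLn) := by
  obtain ⟨h1, h2⟩ := mem_UT.mp hu
  rw [mem_Al]
  refine ⟨?_, h2 l⟩
  intro a b hb
  by_cases hab : a = b
  · rw [← hab, h2 a, Matrix.one_apply_eq]
  · rw [Matrix.one_apply_ne hab]
    have hcm := (hc _ (tv_mem_Al hb 1)).symm
    exact Matrix.col_eq_zero_of_commute_single (commute_single_of_commute_tv hb hcm) hab

end Cfsg.Agent.Lib.Helper2.UniTri
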