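import Mathlib
import Cfsg.Agent.Lib.Helper2.UniTri1
import Cfsg.Agent.Lib.Helper1.Nilpotent

set_option autoImplicit false

/-! Strongly closed subgroups of the unitriangular group of `SL_n(K)`, `n ≥ 3`. -/

namespace Cfsg.Agent.Lib.Helper2.UniTri

open Matrix

variable {K : Type*} [Field K] {n : ℕ}

local notation "SLn" => Matrix.SpecialLinearGroup (Fin n) K
local notation "Mn" => Matrix (Fin n) (Fin n) K

theorem conj1 {i j k : Fin n} (hij : i ≠ j) (hjk : j ≠ k) (hik : i ≠ k) (c d : K) :
    tv i j hij c * tv j k hjk d * (tv i j hij c)⁻¹ = tv i k hik (c * d) * tv j k hjk d := by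
  rw [tv_inv]
  apply Subtype.ext
  simp only [Matrix.SpecialLinearGroup.coe_mul, tv_val, Matrix.transvection]
  rw [show Matrix.single i j (-c) = -Matrix.single i j c from (Matrix.single_neg i j c).symm]
  simp [add_mul, mul_add, hij.symm, hjk.symm, hik.symm]
  abel

theorem conj2 {i j k : Fin n} (hij : i ≠ j) (hki : k ≠ i) (hkj : k ≠ j) (c d : K) :
    tv i j hij c * tv k i hki d * (tv i j hij c)⁻¹ = tv k i hki d * tv k j hkj (-(d * c)) := by
  rw [tv_inv]
  apply Subtype.ext
  simp only [Matrix.SpecialLinearGroup.coe_mul, tv_val, Matrix.transvection]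
  rw [show Matrix.single i j (-c) = -Matrix.single i j c from (Matrix.single_neg i j c).symm,
    show Matrix.single k j (-(d * c)) = -Matrix.single k j (d * c) from
      (Matrix.single_neg k j (d * c)).symm]
  simp [add_mul, mul_add, hij.symm, hki.symm, hkj.symm]
  abel

variable [Fintype K]

/-- the root elements of the unitriangular group -/
def rootGen : Set SLn :=
  {y | ∃ (i j : Fin n) (h : i < j) (c : K), y = tv i j (ne_of_lt h) c}

/-- the unitriangular group is generated by its root elements -/
theorem UT_le_closure (hn : 1 ≤ n) :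
    (UT : Subgroup SLn) ≤ Subgroup.closure (rootGen : Set SLn) := by
  have main : ∀ d k : ℕ, 1 ≤ k → k + d = n → ∀ x ∈ (UT : Subgroup SLn),
      (∀ a b : Fin n, a < b → (b : ℕ) < (a : ℕ) + k → x.1 a b = 0) →
      x ∈ Subgroup.closure (rootGen : Set SLn) := by
    intro d
    induction d with
    | zero =>
      intro k hk hkn x hx hZ
      have hx1 : x = 1 := by
        apply Subtype.ext
        ext a b
        rw [Matrix.SpecialLinearGroup.coe_one]
        obtain ⟨h1, h2⟩ := mem_UT.mp hx
        rcases lt_trichotomy a b with h | h | h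
        · rw [hZ a b h (by have := b.2; omega), Matrix.one_apply_ne (ne_of_lt h)]
        · rw [h, h2, Matrix.one_apply_eq]
        · rw [h1 a b h, Matrix.one_apply_ne (ne_of_gt h)]
      rw [hx1]
      exact Subgroup.one_mem _
    | succ d ih =>
      intro k hk hkn x hx hZ
      have inner : ∀ m : ℕ, m ≤ n → ∃ v ∈ Subgroup.closure (rootGen : Set SLn),
          (x * v) ∈ (UT : Subgroup SLn) ∧
          (∀ a b : Fin n, a < b → (b : ℕ) < (a : ℕ) + k → (x * v).1 a b = 0) ∧
          ∀ a b : Fin n, (b : ℕ) = (a : ℕ) + k → (a : ℕ) < m → (x * v).1 a b = 0 := by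
        intro m
        induction m with
        | zero =>
          intro _
          refine ⟨1, Subgroup.one_mem _, ?_, ?_, ?_⟩
          · rw [mul_one]; exact hx
          · rw [mul_one]; exact hZ
          · intro a b _ h
            omega
        | succ m ihm =>
          intro hm
          obtain ⟨v, hv, hxv, hZ', hL⟩ := ihm (by omega)
          by_cases hmk : m + k < n
          · obtain ⟨a₀, ha₀⟩ : ∃ a₀ : Fin n, (a₀ : ℕ) = m := ⟨⟨m, by omega⟩, rfl⟩
            obtain ⟨b₀, hb₀⟩ : ∃ b₀ : Fin n, (b₀ : ℕ) = m + k := ⟨⟨m + k, hmk⟩, rfl⟩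
            have hab₀ : a₀ < b₀ := by rw [Fin.lt_def]; omega
            obtain ⟨c, hc⟩ : ∃ c : K, c = (x * v).1 a₀ b₀ := ⟨_, rfl⟩
            refine ⟨v * tv a₀ b₀ (ne_of_lt hab₀) (-c), ?_, ?_, ?_, ?_⟩
            · exact Subgroup.mul_mem _ hv (Subgroup.subset_closure ⟨a₀, b₀, hab₀, -c, rfl⟩)
            · rw [← mul_assoc]
              exact Subgroup.mul_mem _ hxv (tv_mem_UT hab₀ _)
            · intro a b hab hbk
              rw [← mul_assoc, mul_tv_apply]
              split_ifs with hb
              · have h2 : (x * v).1 a a₀ = 0 := by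
                  apply (mem_UT.mp hxv).1 a a₀
                  rw [Fin.lt_def]
                  rw [hb] at hbk
                  omega
                rw [hZ' a b hab hbk, h2, mul_zero, add_zero]
              · rw [add_zero]
                exact hZ' a b hab hbk
            · intro a b hbk ham
              rw [← mul_assoc, mul_tv_apply]
              split_ifs with hb
              · have haa : a = a₀ := by
                  apply Fin.ext
                  rw [hb] at hbk
                  omega
                rw [hb, haa, (mem_UT.mp hxv).2 a₀, ← hc]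
                ring
              · rw [add_zero]
                apply hL a b hbk
                by_contra hh
                apply hb
                apply Fin.ext
                omega
          · refine ⟨v, hv, hxv, hZ', ?_⟩
            intro a b hbk ham
            by_cases h : (a : ℕ) < m
            · exact hL a b hbk h
            · exfalso
              have := b.2
              omega
      obtain ⟨v, hv, hxv, hZ', hL⟩ := inner n le_rfl
      have hw : x * v ∈ Subgroup.closure (rootGen : Set SLn) := by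
        apply ih (k + 1) (by omega) (by omega) (x * v) hxv
        intro a b hab hbk
        by_cases h : (b : ℕ) < (a : ℕ) + k
        · exact hZ' a b hab h
        · exact hL a b (by omega) a.2
      have hxe : x = x * v * v⁻¹ := by group
      rw [hxe]
      exact Subgroup.mul_mem _ hw (Subgroup.inv_mem _ hv)
  intro x hx
  refine main (n - 1) 1 le_rfl (by omega) x hx ?_
  intro a b hab h
  rw [Fin.lt_def] at hab
  omega

/-- a nontrivial subgroup of `UT` closed under `SL_n`-conjugation inside `UT` is all of `UT` -/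
theorem UT_closed_eq (p : ℕ) [Fact p.Prime] [CharP K p] (z m l : Fin n)
    (hz : ∀ a, z ≤ a) (hl : ∀ a, a ≤ l) (hzm : z < m) (hml : m < l)
    (T : Subgroup SLn) (hTU : T ≤ UT) (hT1 : T ≠ ⊥)
    (hcl : ∀ t ∈ T, ∀ x : SLn, x * t * x⁻¹ ∈ (UT : Subgroup SLn) → x * t * x⁻¹ ∈ T) :
    T = UT := by
  have hn : 1 ≤ n := by have := z.2; omega
  haveI : NeZero n := ⟨by omega⟩
  have hzl : z < l := hzm.trans hml
  haveI : Group.IsNilpotent ↥(UT : Subgroup SLn) := (UT_isPGroup p).isNilpotent
  haveI hnorm : (T.subgroupOf (UT : Subgroup SLn)).Normal := by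
    constructor
    intro t ht u
    rw [Subgroup.mem_subgroupOf] at ht ⊢
    exact hcl t.1 ht u.1 (Subgroup.mul_mem _ (Subgroup.mul_mem _ u.2 t.2) (Subgroup.inv_mem _ u.2))
  have hne : T.subgroupOf (UT : Subgroup SLn) ≠ ⊥ := by
    intro h0
    apply hT1
    rw [Subgroup.eq_bot_iff_forall]
    intro t ht
    have h2 : (⟨t, hTU ht⟩ : ↥(UT : Subgroup SLn)) ∈ T.subgroupOf (UT : Subgroup SLn) := by
      rw [Subgroup.mem_subgroupOf]
      exact ht
    rw [h0, Subgroup.mem_bot] at h2
    exact congrArg Subtype.val h2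
  have h1 := Cfsg.Agent.Lib.Helper1.normal_inf_center_ne_bot
    (T.subgroupOf (UT : Subgroup SLn)) hne
  have hex : ∃ t ∈ T, t ≠ 1 ∧ ∀ u ∈ (UT : Subgroup SLn), u * t = t * u := by
    by_contra hno
    apply h1
    rw [Subgroup.eq_bot_iff_forall]
    intro w hw
    obtain ⟨hwT, hwZ⟩ := Subgroup.mem_inf.mp hw
    by_contra hw1
    apply hno
    refine ⟨w.1, Subgroup.mem_subgroupOf.mp hwT, fun h => hw1 (Subtype.ext h), ?_⟩
    intro u hu
    have h2 := Subgroup.mem_center_iff.mp hwZ ⟨u, hu⟩
    exact congrArg Subtype.val h2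
  obtain ⟨t₀, ht₀T, ht₀1, hcen⟩ := hex
  have hrow : ∀ b s : Fin n, b ≠ z → s ≠ b → t₀.1 b s = 0 := by
    intro b s hb hs
    have hzb : z < b := lt_of_le_of_ne (hz b) (Ne.symm hb)
    have hc := hcen _ (tv_mem_UT hzb 1)
    exact Matrix.row_eq_zero_of_commute_single (commute_single_of_commute_tv _ hc) hs
  have hcol : ∀ a' s : Fin n, a' ≠ l → s ≠ a' → t₀.1 s a' = 0 := by
    intro a' s ha hs
    have hal : a' < l := lt_of_le_of_ne (hl a') ha
    have hc := hcen _ (tv_mem_UT hal 1)
    exact Matrix.col_eq_zero_of_commute_single (commute_single_of_commute_tv _ hc) hs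
  have ht0 : t₀ = tv z l (ne_of_lt hzl) (t₀.1 z l) := by
    apply Subtype.ext
    ext r s
    rw [tv_apply]
    by_cases hrs : r = s
    · rw [hrs, (mem_UT.mp (hTU ht₀T)).2 s, Matrix.one_apply_eq, if_neg, add_zero]
      intro h
      exact (ne_of_lt hzl) (h.1.trans h.2.symm)
    · rw [Matrix.one_apply_ne hrs, zero_add]
      by_cases h1 : z = r ∧ l = s
      · rw [if_pos h1, ← h1.1, ← h1.2]
      · rw [if_neg h1]
        by_cases hr : r = z
        · have hsl : s ≠ l := fun h => h1 ⟨hr.symm, h.symm⟩
          exact hcol s r hsl hrs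
        · exact hrow r s hr (Ne.symm hrs)
  obtain ⟨a, hadef⟩ : ∃ a : K, a = t₀.1 z l := ⟨_, rfl⟩
  rw [← hadef] at ht0
  have ha0 : a ≠ 0 := by
    intro h
    apply ht₀1
    rw [ht0, h, tv_zero]
  -- names for the inequalities
  have hmz : m ≠ z := ne_of_gt hzm
  have hzm' : z ≠ m := ne_of_lt hzm
  have hml' : m ≠ l := ne_of_lt hml
  have hzl' : z ≠ l := ne_of_lt hzl
  have hzlT : tv z l hzl' a ∈ T := by rw [← ht0]; exact ht₀T
  -- step 1: the root element in position (m, l)
  have hmlT : tv m l hml' a ∈ T := by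
    have h2 := hcl _ hzlT (tv m z hmz 1)
    rw [conj1 hmz hzl' hml' 1 a, one_mul] at h2
    have h3 := h2 (Subgroup.mul_mem _ (tv_mem_UT hml a) (tv_mem_UT hzl a))
    have h4 := Subgroup.mul_mem _ h3 (Subgroup.inv_mem _ hzlT)
    rwa [mul_inv_cancel_right] at h4
  -- step 2: the whole root group in position (z, l)
  have hzlall : ∀ d : K, tv z l hzl' d ∈ T := by
    intro d
    have h2 := hcl _ hmlT (tv z m hzm' (d / a))
    rw [conj1 hzm' hml' hzl' (d / a) a, div_mul_cancel₀ d ha0] at h2
    have h3 := h2 (Subgroup.mul_mem _ (tv_mem_UT hzl d) (tv_mem_UT hml a))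
    have h4 := Subgroup.mul_mem _ h3 (Subgroup.inv_mem _ hmlT)
    rwa [mul_inv_cancel_right] at h4
  -- step 3: all root groups in the last column
  have hcolall : ∀ (i : Fin n) (hil : i < l) (d : K), tv i l (ne_of_lt hil) d ∈ T := by
    intro i hil d
    by_cases hiz : i = z
    · subst hiz
      exact hzlall d
    · have h2 := hcl _ (hzlall d) (tv i z hiz 1)
      rw [conj1 hiz hzl' (ne_of_lt hil) 1 d, one_mul] at h2
      have h3 := h2 (Subgroup.mul_mem _ (tv_mem_UT hil d) (tv_mem_UT hzl d))
      have h4 := Subgroup.mul_mem _ h3 (Subgroup.inv_mem _ (hzlall d))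
      rwa [mul_inv_cancel_right] at h4
  -- step 4: all root groups
  have hall : ∀ (i j : Fin n) (hij : i < j) (d : K), tv i j (ne_of_lt hij) d ∈ T := by
    intro i j hij d
    by_cases hjl : j = l
    · subst hjl
      exact hcolall i hij d
    · have hjl' : j < l := lt_of_le_of_ne (hl j) hjl
      have hil : i < l := hij.trans hjl'
      have h2 := hcl _ (hcolall i hil (-d)) (tv l j (Ne.symm hjl) 1)
      rw [conj2 (Ne.symm hjl) (ne_of_lt hil) (ne_of_lt hij) 1 (-d), mul_one, neg_neg] at h2
      have h3 := h2 (Subgroup.mul_mem _ (tv_mem_UT hil (-d)) (tv_mem_UT hij d))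
      have h4 := Subgroup.mul_mem _ (Subgroup.inv_mem _ (hcolall i hil (-d))) h3
      rwa [inv_mul_cancel_left] at h4
  apply le_antisymm hTU
  refine (UT_le_closure hn).trans ?_
  rw [Subgroup.closure_le]
  rintro y ⟨i, j, hij, d, rfl⟩
  exact hall i j hij d

end Cfsg.Agent.Lib.Helper2.UniTri
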