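import Mathlib
import Cfsg.Agent.Lib.Helper2.UniTri2

set_option autoImplicit false
set_option linter.unusedSimpArgs false

/-! The normalizer of the unitriangular group of `SL_n(K)` and the torus. -/

namespace Cfsg.Agent.Lib.Helper2.UniTri

open Matrix

variable {K : Type*} [Field K] {n : ℕ}

local notation "SLn" => Matrix.SpecialLinearGroup (Fin n) K
local notation "Mn" => Matrix (Fin n) (Fin n) K

/-- a diagonal element as a product of four transvections -/
def hh (i j : Fin n) (hij : i ≠ j) (s : K) : SLn :=
  tv i j hij (s - 1) * tv j i hij.symm 1 * tv i j hij (s⁻¹ - 1) * tv j i hij.symm (-s)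

theorem hh_val (i j : Fin n) (hij : i ≠ j) (s : K) (hs : s ≠ 0) :
    (hh i j hij s).1 =
      Matrix.diagonal (fun a => if a = i then s else if a = j then s⁻¹ else 1) := by
  have hji : j ≠ i := hij.symm
  ext a b
  unfold hh
  rw [mul_assoc, mul_assoc]
  simp only [tv_mul_apply, tv_apply, Matrix.diagonal_apply, Matrix.one_apply]
  by_cases hai : a = i
  · subst hai
    by_cases hbi : b = a
    · subst hbi
      simp [hij, hji]
      try (field_simp; ring)
    · by_cases hbj : b = j
      · subst hbj
        simp [hij, hji]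
        try (field_simp; ring)
      · simp [hij, hji, hbi, hbj, Ne.symm hbi, Ne.symm hbj]
  · by_cases haj : a = j
    · subst haj
      by_cases hbi : b = i
      · subst hbi
        simp [hij, hji]
        try (field_simp; ring)
      · by_cases hbj : b = a
        · subst hbj
          simp [hij, hji, hai]
        · simp [hij, hji, hbi, hbj, Ne.symm hbi, Ne.symm hbj]
    · by_cases hbi : b = i
      · subst hbi
        simp [hij, hji, hai, haj, Ne.symm hai, Ne.symm haj]
      · by_cases hbj : b = j
        · subst hbj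
          simp [hij, hji, hai, haj, Ne.symm hai, Ne.symm haj]
        · simp [hij, hji, hai, haj, hbi, hbj, Ne.symm hai, Ne.symm haj, Ne.symm hbi,
            Ne.symm hbj]

theorem hh_apply (i j : Fin n) (hij : i ≠ j) (s : K) (hs : s ≠ 0) (a b : Fin n) :
    (hh i j hij s).1 a b =
      if a = b then (if a = i then s else if a = j then s⁻¹ else 1) else 0 := by
  rw [hh_val i j hij s hs, Matrix.diagonal_apply]

/-- diagonal -/
def IsDiag (x : SLn) : Prop := ∀ a b : Fin n, a ≠ b → x.1 a b = 0

theorem IsDiag.mul_apply {x : SLn} (hx : IsDiag x) (y : SLn) (a b : Fin n) :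
    (x * y).1 a b = x.1 a a * y.1 a b := by
  rw [Matrix.SpecialLinearGroup.coe_mul, Matrix.mul_apply, Finset.sum_eq_single a]
  · intro k _ hka
    rw [hx a k (Ne.symm hka), zero_mul]
  · intro h
    exact absurd (Finset.mem_univ a) h

theorem IsDiag.apply_mul {y : SLn} (hy : IsDiag y) (x : SLn) (a b : Fin n) :
    (x * y).1 a b = x.1 a b * y.1 b b := by
  rw [Matrix.SpecialLinearGroup.coe_mul, Matrix.mul_apply, Finset.sum_eq_single b]
  · intro k _ hkb
    rw [hy k b hkb, mul_zero]
  · intro h
    exact absurd (Finset.mem_univ b) h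

theorem IsDiag.val_eq {x : SLn} (hx : IsDiag x) :
    x.1 = Matrix.diagonal (fun a => x.1 a a) := by
  ext a b
  rw [Matrix.diagonal_apply]
  split_ifs with h
  · rw [h]
  · exact hx a b h

theorem IsDiag.prod_eq_one {x : SLn} (hx : IsDiag x) : ∏ a, x.1 a a = 1 := by
  have h1 := x.2
  rw [hx.val_eq, Matrix.det_diagonal] at h1
  exact h1

theorem IsDiag.ne_zero {x : SLn} (hx : IsDiag x) (a : Fin n) : x.1 a a ≠ 0 := by
  intro h
  have h1 := hx.prod_eq_one
  rw [Finset.prod_eq_zero (f := fun b => x.1 b b) (Finset.mem_univ a) h] at h1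
  exact zero_ne_one h1

variable [Fintype K]

/-- the diagonal subgroup -/
def DD : Subgroup SLn := ofSubmonoid
  { carrier := {x | IsDiag x}
    mul_mem' := by
      intro x y hx hy a b hab
      rw [hx.mul_apply, hy a b hab, mul_zero]
    one_mem' := by
      intro a b hab
      rw [Matrix.SpecialLinearGroup.coe_one, Matrix.one_apply_ne hab] }

theorem mem_DD {x : SLn} : x ∈ (DD : Subgroup SLn) ↔ IsDiag x := Iff.rfl

theorem hh_mem_DD (i j : Fin n) (hij : i ≠ j) (s : K) (hs : s ≠ 0) :
    hh i j hij s ∈ (DD : Subgroup SLn) := by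
  rw [mem_DD]
  intro a b hab
  rw [hh_apply i j hij s hs, if_neg hab]

/-- the generators of the torus relative to the pivot index `m` -/
def torusGen (m : Fin n) : Set SLn :=
  {y | ∃ (i : Fin n) (hi : i ≠ m) (s : K) (_ : s ≠ 0), y = hh i m hi s}

theorem DD_le_closure (m : Fin n) :
    (DD : Subgroup SLn) ≤ Subgroup.closure (torusGen m : Set SLn) := by
  have main : ∀ s : Finset (Fin n), ∀ d ∈ (DD : Subgroup SLn),
      (∀ a, a ≠ m → a ∉ s → d.1 a a = 1) → d ∈ Subgroup.closure (torusGen m : Set SLn) := by
    intro s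
    induction s using Finset.induction_on with
    | empty =>
      intro d hd h
      have hdm : d.1 m m = 1 := by
        have h1 := (mem_DD.mp hd).prod_eq_one
        rw [Finset.prod_eq_single m] at h1
        · exact h1
        · intro b _ hb
          exact h b hb (Finset.notMem_empty b)
        · intro h2
          exact absurd (Finset.mem_univ m) h2
      have hd1 : d = 1 := by
        apply Subtype.ext
        ext a b
        rw [Matrix.SpecialLinearGroup.coe_one]
        by_cases hab : a = b
        · rw [← hab, Matrix.one_apply_eq]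
          by_cases ham : a = m
          · rw [ham]; exact hdm
          · exact h a ham (Finset.notMem_empty a)
        · rw [Matrix.one_apply_ne hab]
          exact mem_DD.mp hd a b hab
      rw [hd1]
      exact Subgroup.one_mem _
    | insert i s' hi ih =>
      intro d hd h
      by_cases him : i = m
      · apply ih d hd
        intro a ham has'
        apply h a ham
        rw [Finset.mem_insert]
        rintro (h2 | h2)
        · exact ham (h2.trans him)
        · exact has' h2
      · have hs0 : d.1 i i ≠ 0 := (mem_DD.mp hd).ne_zero i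
        have hs0' : (d.1 i i)⁻¹ ≠ 0 := inv_ne_zero hs0
        have hy : hh i m him (d.1 i i)⁻¹ ∈ Subgroup.closure (torusGen m : Set SLn) :=
          Subgroup.subset_closure ⟨i, him, _, hs0', rfl⟩
        have hd' : d * hh i m him (d.1 i i)⁻¹ ∈ Subgroup.closure (torusGen m : Set SLn) := by
          apply ih _ (Subgroup.mul_mem _ hd (hh_mem_DD i m him _ hs0'))
          intro a ham has'
          rw [(mem_DD.mp hd).mul_apply, hh_apply i m him _ hs0', if_pos rfl]
          by_cases hai : a = i
          · rw [if_pos hai, hai, mul_inv_cancel₀ hs0]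
          · rw [if_neg hai, if_neg ham, mul_one]
            apply h a ham
            rw [Finset.mem_insert]
            rintro (h2 | h2)
            · exact hai h2
            · exact has' h2
        have he : d = d * hh i m him (d.1 i i)⁻¹ * (hh i m him (d.1 i i)⁻¹)⁻¹ := by group
        rw [he]
        exact Subgroup.mul_mem _ hd' (Subgroup.inv_mem _ hy)
  intro d hd
  exact main Finset.univ d hd (fun a _ ha => absurd (Finset.mem_univ a) ha)

/-- the diagonal subgroup normalizes the unitriangular group -/
theorem DD_le_normalizer :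
    (DD : Subgroup SLn) ≤ Subgroup.normalizer ((UT : Subgroup SLn) : Set SLn) := by
  have key : ∀ d e : SLn, d ∈ (DD : Subgroup SLn) → e ∈ (DD : Subgroup SLn) → d * e = 1 →
      ∀ u ∈ (UT : Subgroup SLn), d * u * e ∈ (UT : Subgroup SLn) := by
    intro d e hd he hde u hu
    obtain ⟨h1, h2⟩ := mem_UT.mp hu
    rw [mem_UT]
    constructor
    · intro a b hab
      rw [(mem_DD.mp he).apply_mul, (mem_DD.mp hd).mul_apply, h1 a b hab, mul_zero, zero_mul]
    · intro a
      rw [(mem_DD.mp he).apply_mul, (mem_DD.mp hd).mul_apply, h2 a, mul_one,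
        ← (mem_DD.mp hd).mul_apply, hde, Matrix.SpecialLinearGroup.coe_one, Matrix.one_apply_eq]
  intro d hd
  rw [Subgroup.mem_normalizer_iff]
  intro u
  constructor
  · intro hu
    exact key d d⁻¹ hd (Subgroup.inv_mem _ hd) (mul_inv_cancel d) u hu
  · intro hu
    have h3 := key d⁻¹ d (Subgroup.inv_mem _ hd) hd (inv_mul_cancel d) _ hu
    have h4 : d⁻¹ * (d * u * d⁻¹) * d = u := by group
    rwa [h4] at h3

/-- elements of the normalizer of the unitriangular group are upper triangular -/
theorem upper_of_normalizer {x : SLn}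
    (hx : x ∈ Subgroup.normalizer ((UT : Subgroup SLn) : Set SLn)) :
    ∀ a b : Fin n, b < a → x.1 a b = 0 := by
  have key : ∀ k : ℕ, ∀ a b : Fin n, (b : ℕ) = k → b < a → x.1 a b = 0 := by
    intro k
    induction k using Nat.strong_induction_on with
    | _ k ih =>
      intro a b hbk hba
      have hu' : tv b a (ne_of_lt hba) 1 ∈ (UT : Subgroup SLn) := tv_mem_UT hba 1
      have hu : x⁻¹ * tv b a (ne_of_lt hba) 1 * x ∈ (UT : Subgroup SLn) := by
        have h1 := (Subgroup.mem_normalizer_iff.mp (Subgroup.inv_mem _ hx) _).mp hu'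
        rwa [inv_inv] at h1
      obtain ⟨u, hudef⟩ : ∃ u : SLn, u = x⁻¹ * tv b a (ne_of_lt hba) 1 * x := ⟨_, rfl⟩
      rw [← hudef] at hu
      have he : x * u = tv b a (ne_of_lt hba) 1 * x := by rw [hudef]; group
      have hsum : (x * u).1 b b = x.1 b b := by
        rw [Matrix.SpecialLinearGroup.coe_mul, Matrix.mul_apply, Finset.sum_eq_single b]
        · rw [(mem_UT.mp hu).2 b, mul_one]
        · intro m _ hmb
          rcases lt_or_gt_of_ne hmb with h | h
          · rw [ih (m : ℕ) (by rw [← hbk]; exact h) b m rfl h, zero_mul]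
          · rw [(mem_UT.mp hu).1 m b h, mul_zero]
        · intro h
          exact absurd (Finset.mem_univ b) h
      have h2 : (tv b a (ne_of_lt hba) 1 * x).1 b b = x.1 b b + x.1 a b := by
        rw [tv_mul_apply, if_pos rfl, one_mul]
      rw [he, h2] at hsum
      linear_combination hsum
  intro a b hba
  exact key _ a b rfl hba

/-- elements of the normalizer are products of a diagonal and a unitriangular element -/
theorem normalizer_decomp {x : SLn}
    (hx : x ∈ Subgroup.normalizer ((UT : Subgroup SLn) : Set SLn)) :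
    ∃ d ∈ (DD : Subgroup SLn), ∃ u ∈ (UT : Subgroup SLn), x = d * u := by
  have hup := upper_of_normalizer hx
  have hdet : ∏ a, x.1 a a = 1 := by
    have h1 := x.2
    rw [Matrix.det_of_isUpperTriangular] at h1
    · exact h1
    · intro a b hab
      exact hup a b hab
  have hne : ∀ a, x.1 a a ≠ 0 := by
    intro a h
    rw [Finset.prod_eq_zero (f := fun b => x.1 b b) (Finset.mem_univ a) h] at hdet
    exact zero_ne_one hdet
  obtain ⟨e, hedef⟩ : ∃ e : SLn, e = ⟨Matrix.diagonal (fun a => (x.1 a a)⁻¹), by
      rw [Matrix.det_diagonal, Finset.prod_inv_distrib, hdet, inv_one]⟩ := ⟨_, rfl⟩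
  have heval : e.1 = Matrix.diagonal (fun a => (x.1 a a)⁻¹) := by rw [hedef]
  have heD : e ∈ (DD : Subgroup SLn) := by
    rw [mem_DD]
    intro a b hab
    rw [heval, Matrix.diagonal_apply_ne _ hab]
  have heu : e * x ∈ (UT : Subgroup SLn) := by
    rw [mem_UT]
    constructor
    · intro a b hab
      rw [(mem_DD.mp heD).mul_apply, hup a b hab, mul_zero]
    · intro a
      rw [(mem_DD.mp heD).mul_apply, heval, Matrix.diagonal_apply_eq, inv_mul_cancel₀ (hne a)]
  refine ⟨e⁻¹, Subgroup.inv_mem _ heD, e * x, heu, ?_⟩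
  group

/-- the normalizer of the unitriangular group is generated by it and the torus generators -/
theorem normalizer_le (m : Fin n) :
    Subgroup.normalizer ((UT : Subgroup SLn) : Set SLn) ≤
      Subgroup.closure (torusGen m ∪ ((UT : Subgroup SLn) : Set SLn)) := by
  intro x hx
  obtain ⟨d, hd, u, hu, rfl⟩ := normalizer_decomp hx
  apply Subgroup.mul_mem
  · exact (Subgroup.closure_mono Set.subset_union_left) (DD_le_closure m hd)
  · exact Subgroup.subset_closure (Set.mem_union_right _ hu)

/-- diagonal elements have order dividing `q - 1` -/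
theorem DD_pow {d : SLn} (hd : d ∈ (DD : Subgroup SLn)) : d ^ (Fintype.card K - 1) = 1 := by
  apply Subtype.ext
  rw [Matrix.SpecialLinearGroup.coe_pow, Matrix.SpecialLinearGroup.coe_one,
    (mem_DD.mp hd).val_eq, Matrix.diagonal_pow, ← Matrix.diagonal_one]
  congr 1
  ext a
  rw [Pi.pow_apply]
  exact FiniteField.pow_card_sub_one_eq_one _ ((mem_DD.mp hd).ne_zero a)

omit [Fintype K] in
/-- the torus generators lie in the subgroup generated by `p`-elements normalizing a suitable
self-centralizing normal subgroup -/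
theorem hh_mem_closure (p : ℕ) [CharP K p] (R : Subgroup SLn) (i j : Fin n) (hij : i ≠ j)
    (hR : ∀ c : K, (∀ r ∈ R, tv i j hij c * r * (tv i j hij c)⁻¹ ∈ R) ∧
      ∀ r ∈ R, tv j i hij.symm c * r * (tv j i hij.symm c)⁻¹ ∈ R) (s : K) :
    hh i j hij s ∈ Subgroup.closure {z : SLn | z ∈ Subgroup.normalizer (R : Set SLn) ∧
      ∃ k : ℕ, z ^ p ^ k = 1} := by
  have h1 : ∀ c : K, tv i j hij c ∈ Subgroup.closure {z : SLn |
      z ∈ Subgroup.normalizer (R : Set SLn) ∧ ∃ k : ℕ, z ^ p ^ k = 1} := by
    intro c
    apply Subgroup.subset_closure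
    refine ⟨?_, 1, by rw [pow_one]; exact tv_pow_char p i j hij c⟩
    rw [Subgroup.mem_normalizer_iff]
    intro r
    constructor
    · exact (hR c).1 r
    · intro hr
      have h2 := (hR (-c)).1 _ hr
      rw [← tv_inv] at h2
      have h3 : (tv i j hij c)⁻¹ * (tv i j hij c * r * (tv i j hij c)⁻¹) *
          ((tv i j hij c)⁻¹)⁻¹ = r := by group
      rwa [h3] at h2
  have h2 : ∀ c : K, tv j i hij.symm c ∈ Subgroup.closure {z : SLn |
      z ∈ Subgroup.normalizer (R : Set SLn) ∧ ∃ k : ℕ, z ^ p ^ k = 1} := by
    intro c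
    apply Subgroup.subset_closure
    refine ⟨?_, 1, by rw [pow_one]; exact tv_pow_char p j i hij.symm c⟩
    rw [Subgroup.mem_normalizer_iff]
    intro r
    constructor
    · exact (hR c).2 r
    · intro hr
      have h2 := (hR (-c)).2 _ hr
      rw [← tv_inv] at h2
      have h3 : (tv j i hij.symm c)⁻¹ * (tv j i hij.symm c * r * (tv j i hij.symm c)⁻¹) *
          ((tv j i hij.symm c)⁻¹)⁻¹ = r := by group
      rwa [h3] at h2
  unfold hh
  exact Subgroup.mul_mem _ (Subgroup.mul_mem _ (Subgroup.mul_mem _ (h1 _) (h2 _)) (h1 _)) (h2 _)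

end Cfsg.Agent.Lib.Helper2.UniTri
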