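import Mathlib
import Cfsg.Agent.Lib.Helper2.UniTri3

set_option autoImplicit false

/-! The symplectic group inside `SL_{2m}(K)` for the antidiagonal form: root elements and
conjugation identities. -/

namespace Cfsg.Agent.Lib.Helper2.SpFus

open Matrix Cfsg.Agent.Lib.Helper2.UniTri

variable {K : Type*} [Field K] {m : ℕ}

local notation "SLn" => Matrix.SpecialLinearGroup (Fin (2 * m)) K
local notation "Mn" => Matrix (Fin (2 * m)) (Fin (2 * m)) K

/-! ### indices -/

theorem rev_ne (i : Fin (2 * m)) : i.rev ≠ i := by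
  intro h
  have h1 := congrArg Fin.val h
  rw [Fin.val_rev] at h1
  have := i.2
  omega

theorem ne_rev (i : Fin (2 * m)) : i ≠ i.rev := fun h => rev_ne i h.symm

theorem rev_lt_iff (i : Fin (2 * m)) : ((i.rev : Fin (2 * m)) : ℕ) < m ↔ m ≤ (i : ℕ) := by
  rw [Fin.val_rev]
  have := i.2
  omega

theorem lt_rev_of_lt {i j : Fin (2 * m)} (hi : (i : ℕ) < m) (hj : (j : ℕ) < m) : i < j.rev := by
  rw [Fin.lt_def, Fin.val_rev]
  omega

theorem ne_rev_of_lt {i j : Fin (2 * m)} (hi : (i : ℕ) < m) (hj : (j : ℕ) < m) : i ≠ j.rev :=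
  ne_of_lt (lt_rev_of_lt hi hj)

theorem rev_ne_rev {i j : Fin (2 * m)} (hij : i ≠ j) : i.rev ≠ j.rev :=
  fun h => hij (Fin.rev_inj.mp h)

/-! ### matrix units -/

/-- matrix unit -/
def E (a b : Fin (2 * m)) : Mn := Matrix.single a b 1

theorem E_mul_E (a b c d : Fin (2 * m)) : (E a b : Mn) * E c d = if b = c then E a d else 0 := by
  unfold E
  split_ifs with h
  · subst h
    rw [Matrix.single_mul_single_same, mul_one]
  · exact Matrix.single_mul_single_of_ne _ _ _ _ h _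

theorem E_apply (a b r s : Fin (2 * m)) : (E a b : Mn) r s = if a = r ∧ b = s then 1 else 0 :=
  Matrix.single_apply a b 1 r s

theorem E_transpose (a b : Fin (2 * m)) : (E a b : Mn)ᵀ = E b a := Matrix.transpose_single a b 1

theorem tv_val' (i j : Fin (2 * m)) (h : i ≠ j) (c : K) :
    (tv i j h c : SLn).1 = 1 + c • E i j := by
  rw [tv_val, Matrix.transvection]
  congr 1
  unfold E
  rw [Matrix.smul_single, smul_eq_mul, mul_one]

/-! ### the form -/

/-- sign -/
def sg (i : Fin (2 * m)) : K := if (i : ℕ) < m then 1 else -1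

theorem sg_of_lt {i : Fin (2 * m)} (h : (i : ℕ) < m) : (sg i : K) = 1 := if_pos h

theorem sg_rev (i : Fin (2 * m)) : (sg i.rev : K) = - sg i := by
  unfold sg
  rw [Fin.val_rev]
  have := i.2
  by_cases h : (i : ℕ) < m
  · have h2 : ¬ (2 * m - ((i : ℕ) + 1) < m) := by omega
    rw [if_pos h, if_neg h2]
  · have h2 : 2 * m - ((i : ℕ) + 1) < m := by omega
    rw [if_neg h, if_pos h2, neg_neg]

theorem sg_mul_self (i : Fin (2 * m)) : (sg i : K) * sg i = 1 := by
  unfold sg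
  split_ifs <;> ring

/-- the Gram matrix -/
def Om : Mn := fun i j => if j = i.rev then sg i else 0

theorem Om_apply (i j : Fin (2 * m)) : (Om : Mn) i j = if j = i.rev then sg i else 0 := rfl

theorem mul_Om_apply (X : Mn) (a k : Fin (2 * m)) :
    (X * Om : Mn) a k = X a k.rev * sg k.rev := by
  rw [Matrix.mul_apply, Finset.sum_eq_single k.rev]
  · rw [Om_apply, if_pos (Fin.rev_rev k).symm]
  · intro l _ hl
    rw [Om_apply, if_neg, mul_zero]
    intro h
    apply hl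
    rw [h, Fin.rev_rev]
  · intro h
    exact absurd (Finset.mem_univ _) h

theorem form_apply (X Y : Mn) (a b : Fin (2 * m)) :
    (X * Om * Yᵀ : Mn) a b = ∑ k, X a k.rev * sg k.rev * Y b k := by
  rw [Matrix.mul_apply]
  apply Finset.sum_congr rfl
  intro k _
  rw [mul_Om_apply, Matrix.transpose_apply]

theorem E_mul_Om (i j : Fin (2 * m)) : (E i j : Mn) * Om = (sg j : K) • E i j.rev := by
  ext a b
  rw [mul_Om_apply, Matrix.smul_apply, E_apply, E_apply, smul_eq_mul]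
  by_cases h : i = a ∧ j = b.rev
  · have h' : i = a ∧ j.rev = b := ⟨h.1, by rw [h.2, Fin.rev_rev]⟩
    rw [if_pos h, if_pos h', h.2, one_mul, mul_one]
  · have h' : ¬ (i = a ∧ j.rev = b) := fun h2 => h ⟨h2.1, by rw [← h2.2, Fin.rev_rev]⟩
    rw [if_neg h, if_neg h', zero_mul, mul_zero]

theorem Om_mul_E (i j : Fin (2 * m)) : (Om : Mn) * E i j = (sg i.rev : K) • E i.rev j := by
  ext a b
  rw [Matrix.mul_apply, Finset.sum_eq_single a.rev]
  · rw [Om_apply, if_pos rfl, Matrix.smul_apply, E_apply, E_apply, smul_eq_mul]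
    by_cases h : i = a.rev ∧ j = b
    · have h' : i.rev = a ∧ j = b := ⟨by rw [h.1, Fin.rev_rev], h.2⟩
      rw [if_pos h, if_pos h', h.1, Fin.rev_rev]
    · have h' : ¬ (i.rev = a ∧ j = b) := fun h2 => h ⟨by rw [← h2.1, Fin.rev_rev], h2.2⟩
      rw [if_neg h, if_neg h', mul_zero, mul_zero]
  · intro k _ hk
    rw [Om_apply, if_neg hk, zero_mul]
  · intro h
    exact absurd (Finset.mem_univ _) h

/-- symplectic -/
def IsSp (x : SLn) : Prop := x.1 * Om * x.1ᵀ = Om

theorem isSp_of_nil (x : SLn) (N : Mn) (hx : x.1 = 1 + N) (h1 : N * Om + Om * Nᵀ = 0)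
    (h2 : N * Om * Nᵀ = 0) : IsSp x := by
  unfold IsSp
  rw [hx, Matrix.transpose_add, Matrix.transpose_one]
  have h : (1 + N) * Om * (1 + Nᵀ) = Om + (N * Om + Om * Nᵀ) + N * Om * Nᵀ := by
    simp only [Matrix.add_mul, Matrix.mul_add, Matrix.one_mul, Matrix.mul_one]
    abel
  rw [h, h1, h2, add_zero, add_zero]

/-! ### root elements -/

/-- long root element -/
def Zl (i : Fin (2 * m)) (c : K) : SLn := tv i i.rev (ne_rev i) c

/-- opposite long root element -/
def Zn (j : Fin (2 * m)) (c : K) : SLn := tv j.rev j (rev_ne j) c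

/-- short root element of Levi type -/
def Ym (i j : Fin (2 * m)) (hij : i ≠ j) (c : K) : SLn :=
  tv i j hij c * tv j.rev i.rev (fun h => hij (Fin.rev_inj.mp h).symm) (-c)

/-- short root element in the Siegel radical -/
def Yp (i j : Fin (2 * m)) (h : i ≠ j.rev) (c : K) : SLn :=
  tv i j.rev h c * tv j i.rev (fun h2 => h (by rw [h2, Fin.rev_rev])) c

theorem Zl_val (i : Fin (2 * m)) (c : K) : (Zl i c : SLn).1 = 1 + c • E i i.rev := tv_val' _ _ _ _

theorem Zn_val (j : Fin (2 * m)) (c : K) : (Zn j c : SLn).1 = 1 + c • E j.rev j := tv_val' _ _ _ _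

theorem Ym_val (i j : Fin (2 * m)) (hij : i ≠ j) (c : K) :
    (Ym i j hij c : SLn).1 = 1 + (c • E i j + (-c) • E j.rev i.rev) := by
  unfold Ym
  rw [Matrix.SpecialLinearGroup.coe_mul, tv_val', tv_val']
  simp only [Matrix.add_mul, Matrix.mul_add, Matrix.smul_mul, Matrix.mul_smul, E_mul_E,
    ne_rev j, if_false, smul_zero, add_zero, Matrix.one_mul, Matrix.mul_one]
  abel

theorem Yp_val (i j : Fin (2 * m)) (h : i ≠ j.rev) (c : K) :
    (Yp i j h c : SLn).1 = 1 + (c • E i j.rev + c • E j i.rev) := by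
  unfold Yp
  rw [Matrix.SpecialLinearGroup.coe_mul, tv_val', tv_val']
  simp only [Matrix.add_mul, Matrix.mul_add, Matrix.smul_mul, Matrix.mul_smul, E_mul_E,
    rev_ne j, if_false, smul_zero, add_zero, Matrix.one_mul, Matrix.mul_one]
  abel

theorem Zl_isSp (i : Fin (2 * m)) (c : K) : IsSp (Zl i c : SLn) := by
  apply isSp_of_nil _ _ (Zl_val i c)
  · simp only [Matrix.transpose_smul, E_transpose, Matrix.smul_mul, Matrix.mul_smul, E_mul_Om,
      Om_mul_E, Fin.rev_rev, sg_rev]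
    module
  · simp only [Matrix.transpose_smul, E_transpose, Matrix.smul_mul, Matrix.mul_smul, E_mul_Om,
      E_mul_E, Fin.rev_rev, ne_rev i, if_false, smul_zero]

theorem Zn_isSp (j : Fin (2 * m)) (c : K) : IsSp (Zn j c : SLn) := by
  apply isSp_of_nil _ _ (Zn_val j c)
  · simp only [Matrix.transpose_smul, E_transpose, Matrix.smul_mul, Matrix.mul_smul, E_mul_Om,
      Om_mul_E, Fin.rev_rev, sg_rev]
    module
  · simp only [Matrix.transpose_smul, E_transpose, Matrix.smul_mul, Matrix.mul_smul, E_mul_Om,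
      E_mul_E, Fin.rev_rev, rev_ne j, if_false, smul_zero]

theorem Ym_isSp (i j : Fin (2 * m)) (hij : i ≠ j) (hs : (sg i : K) = sg j) (c : K) :
    IsSp (Ym i j hij c : SLn) := by
  apply isSp_of_nil _ _ (Ym_val i j hij c)
  · simp only [Matrix.transpose_smul, Matrix.transpose_add, E_transpose, Matrix.smul_mul,
      Matrix.mul_smul, Matrix.add_mul, Matrix.mul_add, E_mul_Om, Om_mul_E, Fin.rev_rev, sg_rev, hs]
    module
  · simp only [Matrix.transpose_smul, Matrix.transpose_add, E_transpose, Matrix.smul_mul,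
      Matrix.mul_smul, Matrix.add_mul, Matrix.mul_add, E_mul_Om, E_mul_E, Fin.rev_rev,
      rev_ne j, rev_ne_rev hij.symm, hij, ne_rev i, if_false, smul_zero, add_zero]

theorem Yp_isSp (i j : Fin (2 * m)) (h : i ≠ j.rev) (hs : (sg i : K) = sg j) (c : K) :
    IsSp (Yp i j h c : SLn) := by
  have h' : j ≠ i.rev := fun h2 => h (by rw [h2, Fin.rev_rev])
  apply isSp_of_nil _ _ (Yp_val i j h c)
  · simp only [Matrix.transpose_smul, Matrix.transpose_add, E_transpose, Matrix.smul_mul,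
      Matrix.mul_smul, Matrix.add_mul, Matrix.mul_add, E_mul_Om, Om_mul_E, Fin.rev_rev, sg_rev, hs]
    module
  · simp only [Matrix.transpose_smul, Matrix.transpose_add, E_transpose, Matrix.smul_mul,
      Matrix.mul_smul, Matrix.add_mul, Matrix.mul_add, E_mul_Om, E_mul_E, Fin.rev_rev,
      ne_rev j, h', h, ne_rev i, if_false, smul_zero, add_zero]

/-! ### conjugation -/

theorem conj_nil (N M : Mn) (hN : N * N = 0) :
    (1 + N) * (1 + M) * (1 - N) = 1 + (M + N * M - M * N - N * M * N) := by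
  have h : (1 + N) * (1 + M) * (1 - N) = 1 + (M + N * M - M * N - N * M * N) - N * N := by
    noncomm_ring
  rw [h, hN, sub_zero]

theorem inv_val_of_nil (x : SLn) (N : Mn) (hx : x.1 = 1 + N) (hN : N * N = 0) :
    (x⁻¹).1 = 1 - N := by
  have h : x.1 * (1 - N) = 1 := by
    rw [hx]
    have h0 : (1 + N) * (1 - N) = 1 - N * N := by noncomm_ring
    rw [h0, hN, sub_zero]
  have h2 : (x⁻¹).1 * (x.1 * (1 - N)) = (x⁻¹).1 := by rw [h, Matrix.mul_one]
  rw [← Matrix.mul_assoc, ← Matrix.SpecialLinearGroup.coe_mul, inv_mul_cancel,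
    Matrix.SpecialLinearGroup.coe_one, Matrix.one_mul] at h2
  exact h2.symm

theorem conj_val (x y : SLn) (N M : Mn) (hx : x.1 = 1 + N) (hN : N * N = 0)
    (hy : y.1 = 1 + M) : (x * y * x⁻¹).1 = 1 + (M + N * M - M * N - N * M * N) := by
  rw [Matrix.SpecialLinearGroup.coe_mul, Matrix.SpecialLinearGroup.coe_mul,
    inv_val_of_nil x N hx hN, hx, hy, conj_nil N M hN]

theorem mul_val (a b : SLn) {A B : Mn} (ha : a.1 = 1 + A) (hb : b.1 = 1 + B) :
    (a * b).1 = 1 + (A + B + A * B) := by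
  rw [Matrix.SpecialLinearGroup.coe_mul, ha, hb]
  noncomm_ring

theorem tv_comm {i j k l : Fin (2 * m)} (hij : i ≠ j) (hkl : k ≠ l) (hjk : j ≠ k) (hli : l ≠ i)
    (c d : K) : tv i j hij c * tv k l hkl d = (tv k l hkl d * tv i j hij c : SLn) := by
  apply Subtype.ext
  rw [mul_val _ _ (tv_val' i j hij c) (tv_val' k l hkl d),
    mul_val _ _ (tv_val' k l hkl d) (tv_val' i j hij c)]
  simp only [Matrix.smul_mul, Matrix.mul_smul, E_mul_E, hjk, hli, if_false, smul_zero, add_zero]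
  abel

/-- the first conjugation identity -/
theorem J2 {i j : Fin (2 * m)} (hij : i ≠ j) (hi : (i : ℕ) < m) (hj : (j : ℕ) < m) (c d : K) :
    Ym i j hij c * Zl j d * (Ym i j hij c)⁻¹ =
      (Zl j d * Yp i j (ne_rev_of_lt hi hj) (c * d) * Zl i (c * c * d) : SLn) := by
  have hN : (c • E i j + (-c) • E j.rev i.rev : Mn) * (c • E i j + (-c) • E j.rev i.rev) = 0 := by
    simp only [Matrix.add_mul, Matrix.mul_add, Matrix.smul_mul, Matrix.mul_smul, E_mul_E,
      hij.symm, ne_rev j, rev_ne i, rev_ne_rev hij, if_false, smul_zero, add_zero]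
  apply Subtype.ext
  rw [conj_val _ _ _ _ (Ym_val i j hij c) hN (Zl_val j d),
    mul_val _ _ (mul_val _ _ (Zl_val j d) (Yp_val i j _ (c * d))) (Zl_val i (c * c * d))]
  simp only [Matrix.add_mul, Matrix.mul_add, Matrix.smul_mul, Matrix.mul_smul, E_mul_E,
    hij, hij.symm, ne_rev i, rev_ne i, ne_rev j, rev_ne j, ne_rev_of_lt hi hj,
    (ne_rev_of_lt hi hj).symm, ne_rev_of_lt hj hi, (ne_rev_of_lt hj hi).symm,
    rev_ne_rev hij, rev_ne_rev hij.symm, if_false, if_true, eq_self_iff_true, smul_zero, add_zero,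
    zero_add, sub_zero]
  module

/-- the second conjugation identity -/
theorem J3 {i j : Fin (2 * m)} (hij : i ≠ j) (hi : (i : ℕ) < m) (hj : (j : ℕ) < m) (c d : K) :
    Zn j c * Yp i j (ne_rev_of_lt hi hj) d * (Zn j c)⁻¹ =
      (Ym i j hij (-(c * d)) * Yp i j (ne_rev_of_lt hi hj) d * Zl i (c * d * d) : SLn) := by
  have hN : (c • E j.rev j : Mn) * (c • E j.rev j) = 0 := by
    simp only [Matrix.smul_mul, Matrix.mul_smul, E_mul_E, ne_rev j, if_false, smul_zero]
  apply Subtype.ext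
  rw [conj_val _ _ _ _ (Zn_val j c) hN (Yp_val i j _ d),
    mul_val _ _ (mul_val _ _ (Ym_val i j hij (-(c * d))) (Yp_val i j _ d)) (Zl_val i (c * d * d))]
  simp only [Matrix.add_mul, Matrix.mul_add, Matrix.smul_mul, Matrix.mul_smul, E_mul_E,
    hij, hij.symm, ne_rev i, rev_ne i, ne_rev j, rev_ne j, ne_rev_of_lt hi hj,
    (ne_rev_of_lt hi hj).symm, ne_rev_of_lt hj hi, (ne_rev_of_lt hj hi).symm,
    rev_ne_rev hij, rev_ne_rev hij.symm, if_false, if_true, eq_self_iff_true, smul_zero, add_zero,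
    zero_add, sub_zero]
  module

/-- the Weyl-type conjugation identity -/
theorem J1 {z j : Fin (2 * m)} (hzj : z ≠ j) (hz : (z : ℕ) < m) (hj : (j : ℕ) < m) (d : K) :
    (Ym z j hzj (-1) * Ym j z hzj.symm 1) * Zl z d * (Ym z j hzj (-1) * Ym j z hzj.symm 1)⁻¹ =
      (Zl j d : SLn) := by
  rw [mul_inv_eq_iff_eq_mul]
  apply Subtype.ext
  rw [mul_val _ _ (mul_val _ _ (Ym_val z j hzj (-1)) (Ym_val j z hzj.symm 1)) (Zl_val z d),
    mul_val _ _ (Zl_val j d) (mul_val _ _ (Ym_val z j hzj (-1)) (Ym_val j z hzj.symm 1))]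
  simp only [Matrix.add_mul, Matrix.mul_add, Matrix.smul_mul, Matrix.mul_smul, E_mul_E,
    hzj, hzj.symm, ne_rev z, rev_ne z, ne_rev j, rev_ne j, ne_rev_of_lt hz hj,
    (ne_rev_of_lt hz hj).symm, ne_rev_of_lt hj hz, (ne_rev_of_lt hj hz).symm,
    rev_ne_rev hzj, rev_ne_rev hzj.symm, if_false, if_true, eq_self_iff_true, smul_zero, add_zero,
    zero_add, sub_zero]
  module

/-- the third conjugation identity -/
theorem K1 {z j : Fin (2 * m)} (hzj : z ≠ j) (hz : (z : ℕ) < m) (hj : (j : ℕ) < m) (b : K) :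
    Zl j 1 * (Zn j 1 * Yp z j (ne_rev_of_lt hz hj) b * (Zn j 1)⁻¹) * (Zl j 1)⁻¹ =
      (Zn j 1 * Yp z j (ne_rev_of_lt hz hj) b * (Zn j 1)⁻¹ *
        (Yp z j (ne_rev_of_lt hz hj) b * Zl z (b * b)) : SLn) := by
  have hN : ((1 : K) • E j.rev j : Mn) * ((1 : K) • E j.rev j) = 0 := by
    simp only [Matrix.smul_mul, Matrix.mul_smul, E_mul_E, ne_rev j, if_false, smul_zero]
  have hN' : ((1 : K) • E j j.rev : Mn) * ((1 : K) • E j j.rev) = 0 := by
    simp only [Matrix.smul_mul, Matrix.mul_smul, E_mul_E, rev_ne j, if_false, smul_zero]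
  have hr := conj_val _ _ _ _ (Zn_val j (1 : K)) hN (Yp_val z j (ne_rev_of_lt hz hj) b)
  apply Subtype.ext
  rw [conj_val _ _ _ _ (Zl_val j (1 : K)) hN' hr,
    mul_val _ _ hr (mul_val _ _ (Yp_val z j _ b) (Zl_val z (b * b)))]
  simp only [Matrix.add_mul, Matrix.mul_add, Matrix.sub_mul, Matrix.mul_sub, Matrix.smul_mul,
    Matrix.mul_smul, E_mul_E,
    hzj, hzj.symm, ne_rev z, rev_ne z, ne_rev j, rev_ne j, ne_rev_of_lt hz hj,
    (ne_rev_of_lt hz hj).symm, ne_rev_of_lt hj hz, (ne_rev_of_lt hj hz).symm,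
    rev_ne_rev hzj, rev_ne_rev hzj.symm, if_false, if_true, eq_self_iff_true, smul_zero, add_zero,
    zero_add, sub_zero]
  module

/-- the fourth conjugation identity -/
theorem J7 {z o k : Fin (2 * m)} (hzo : z ≠ o) (hzk : z ≠ k) (hok : o ≠ k) (hz : (z : ℕ) < m)
    (ho : (o : ℕ) < m) (hk : (k : ℕ) < m) (a b : K) :
    Ym k o hok.symm 1 * (Zl z a * Yp z o (ne_rev_of_lt hz ho) b) * (Ym k o hok.symm 1)⁻¹ =
      (Zl z a * Yp z o (ne_rev_of_lt hz ho) b * Yp z k (ne_rev_of_lt hz hk) b : SLn) := by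
  have hN : ((1 : K) • E k o + (-(1 : K)) • E o.rev k.rev : Mn) *
      ((1 : K) • E k o + (-(1 : K)) • E o.rev k.rev) = 0 := by
    simp only [Matrix.add_mul, Matrix.mul_add, Matrix.smul_mul, Matrix.mul_smul, E_mul_E,
      hok, ne_rev o, rev_ne k, rev_ne_rev hok.symm, if_false, smul_zero, add_zero]
  have hy := mul_val _ _ (Zl_val z a) (Yp_val z o (ne_rev_of_lt hz ho) b)
  apply Subtype.ext
  rw [conj_val _ _ _ _ (Ym_val k o hok.symm 1) hN hy,
    mul_val _ _ hy (Yp_val z k (ne_rev_of_lt hz hk) b)]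
  simp only [Matrix.add_mul, Matrix.mul_add, Matrix.sub_mul, Matrix.mul_sub, Matrix.smul_mul,
    Matrix.mul_smul, E_mul_E,
    hzo, hzo.symm, hzk, hzk.symm, hok, hok.symm,
    ne_rev z, rev_ne z, ne_rev o, rev_ne o, ne_rev k, rev_ne k,
    ne_rev_of_lt hz ho, (ne_rev_of_lt hz ho).symm, ne_rev_of_lt ho hz, (ne_rev_of_lt ho hz).symm,
    ne_rev_of_lt hz hk, (ne_rev_of_lt hz hk).symm, ne_rev_of_lt hk hz, (ne_rev_of_lt hk hz).symm,
    ne_rev_of_lt ho hk, (ne_rev_of_lt ho hk).symm, ne_rev_of_lt hk ho, (ne_rev_of_lt hk ho).symm,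
    rev_ne_rev hzo, rev_ne_rev hzo.symm, rev_ne_rev hzk, rev_ne_rev hzk.symm,
    rev_ne_rev hok, rev_ne_rev hok.symm,
    if_false, if_true, eq_self_iff_true, smul_zero, add_zero, zero_add, sub_zero]
  module

theorem Yp_mul (i j : Fin (2 * m)) (h : i ≠ j.rev) (c d : K) :
    Yp i j h c * Yp i j h d = (Yp i j h (c + d) : SLn) := by
  have h' : i.rev ≠ j := fun h2 => h (by rw [← h2, Fin.rev_rev])
  apply Subtype.ext
  rw [mul_val _ _ (Yp_val i j h c) (Yp_val i j h d), Yp_val]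
  simp only [Matrix.add_mul, Matrix.mul_add, Matrix.smul_mul, Matrix.mul_smul, E_mul_E,
    h.symm, h', rev_ne i, rev_ne j, if_false, smul_zero, add_zero]
  module

theorem Yp_zero (i j : Fin (2 * m)) (h : i ≠ j.rev) : (Yp i j h 0 : SLn) = 1 := by
  unfold Yp
  rw [tv_zero, tv_zero, mul_one]

theorem Yp_inv (i j : Fin (2 * m)) (h : i ≠ j.rev) (c : K) :
    (Yp i j h c : SLn)⁻¹ = Yp i j h (-c) := by
  apply inv_eq_of_mul_eq_one_right
  rw [Yp_mul, add_neg_cancel, Yp_zero]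

theorem Zl_mul (i : Fin (2 * m)) (c d : K) : Zl i c * Zl i d = (Zl i (c + d) : SLn) :=
  tv_mul_tv _ _ _ _ _

theorem Zl_zero (i : Fin (2 * m)) : (Zl i 0 : SLn) = 1 := tv_zero _ _ _

theorem Zl_inv (i : Fin (2 * m)) (c : K) : (Zl i c : SLn)⁻¹ = Zl i (-c) := tv_inv _ _ _ _

/-- conjugating a transvection by a diagonal element -/
theorem diag_conj_tv {d : SLn} (hd : IsDiag d) (i j : Fin (2 * m)) (hij : i ≠ j) (c : K) :
    d * tv i j hij c * d⁻¹ = tv i j hij (d.1 i i * c * (d.1 j j)⁻¹) := by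
  rw [mul_inv_eq_iff_eq_mul]
  apply Subtype.ext
  ext a b
  rw [hd.mul_apply, hd.apply_mul, tv_apply, tv_apply]
  by_cases hab : a = b
  · subst hab
    have h1 : ¬ (i = a ∧ j = a) := fun h => hij (h.1.trans h.2.symm)
    rw [if_neg h1, if_neg h1]
    ring
  · rw [Matrix.one_apply_ne hab, zero_add, zero_add]
    by_cases h : i = a ∧ j = b
    · rw [if_pos h, if_pos h, ← h.1, ← h.2]
      have := hd.ne_zero j
      field_simp
    · rw [if_neg h, if_neg h, mul_zero, zero_mul]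

end Cfsg.Agent.Lib.Helper2.SpFus
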