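import Mathlib
import Cfsg.Agent.Lib.Helper2.SpFus1

set_option autoImplicit false

/-! The symplectic group, its unitriangular subgroup and two unipotent radicals. -/

namespace Cfsg.Agent.Lib.Helper2.SpFus

open Matrix Cfsg.Agent.Lib.Helper2.UniTri

variable {K : Type*} [Field K] [Fintype K] {m : ℕ}

local notation "SLn" => Matrix.SpecialLinearGroup (Fin (2 * m)) K
local notation "Mn" => Matrix (Fin (2 * m)) (Fin (2 * m)) K

theorem sg_ne_zero (i : Fin (2 * m)) : (sg i : K) ≠ 0 := by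
  intro h
  have h1 := sg_mul_self (K := K) i
  rw [h, zero_mul] at h1
  exact zero_ne_one h1

theorem sg_cases (i : Fin (2 * m)) : (sg i : K) = 1 ∨ (sg i : K) = -1 := by
  unfold sg
  split_ifs
  · exact Or.inl rfl
  · exact Or.inr rfl

/-- the symplectic group -/
def Spn : Subgroup SLn := ofSubmonoid
  { carrier := {x | IsSp x}
    mul_mem' := by
      intro x y hx hy
      have hx' : x.1 * Om * x.1ᵀ = Om := hx
      have hy' : y.1 * Om * y.1ᵀ = Om := hy
      show (x * y).1 * Om * (x * y).1ᵀ = Om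
      rw [Matrix.SpecialLinearGroup.coe_mul, Matrix.transpose_mul]
      have h : x.1 * y.1 * Om * (y.1ᵀ * x.1ᵀ) = x.1 * (y.1 * Om * y.1ᵀ) * x.1ᵀ := by
        simp only [Matrix.mul_assoc]
      rw [h, hy', hx']
    one_mem' := by
      show (1 : SLn).1 * Om * (1 : SLn).1ᵀ = Om
      rw [Matrix.SpecialLinearGroup.coe_one, Matrix.transpose_one, Matrix.one_mul,
        Matrix.mul_one] }

theorem mem_Spn {x : SLn} : x ∈ (Spn : Subgroup SLn) ↔ IsSp x := Iff.rfl

/-- the unitriangular symplectic group -/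
def UU : Subgroup SLn := UT ⊓ Spn

theorem mem_UU {x : SLn} : x ∈ (UU : Subgroup SLn) ↔ x ∈ (UT : Subgroup SLn) ∧ x ∈ (Spn : Subgroup SLn) :=
  Subgroup.mem_inf

theorem Zl_mem_Spn (i : Fin (2 * m)) (c : K) : (Zl i c : SLn) ∈ (Spn : Subgroup SLn) := Zl_isSp i c

theorem Zn_mem_Spn (j : Fin (2 * m)) (c : K) : (Zn j c : SLn) ∈ (Spn : Subgroup SLn) := Zn_isSp j c

theorem Ym_mem_Spn {i j : Fin (2 * m)} (hij : i ≠ j) (hi : (i : ℕ) < m) (hj : (j : ℕ) < m) (c : K) :
    (Ym i j hij c : SLn) ∈ (Spn : Subgroup SLn) :=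
  Ym_isSp i j hij (by rw [sg_of_lt hi, sg_of_lt hj]) c

theorem Yp_mem_Spn {i j : Fin (2 * m)} (hi : (i : ℕ) < m) (hj : (j : ℕ) < m) (c : K) :
    (Yp i j (ne_rev_of_lt hi hj) c : SLn) ∈ (Spn : Subgroup SLn) :=
  Yp_isSp i j _ (by rw [sg_of_lt hi, sg_of_lt hj]) c

theorem Zl_mem_UT {i : Fin (2 * m)} (hi : (i : ℕ) < m) (c : K) :
    (Zl i c : SLn) ∈ (UT : Subgroup SLn) := tv_mem_UT (lt_rev_of_lt hi hi) c

theorem Ym_mem_UT {i j : Fin (2 * m)} (hij : i < j) (c : K) :
    (Ym i j (ne_of_lt hij) c : SLn) ∈ (UT : Subgroup SLn) :=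
  Subgroup.mul_mem _ (tv_mem_UT hij c) (tv_mem_UT (Fin.rev_lt_rev.mpr hij) (-c))

theorem Yp_mem_UT {i j : Fin (2 * m)} (hi : (i : ℕ) < m) (hj : (j : ℕ) < m) (c : K) :
    (Yp i j (ne_rev_of_lt hi hj) c : SLn) ∈ (UT : Subgroup SLn) :=
  Subgroup.mul_mem _ (tv_mem_UT (lt_rev_of_lt hi hj) c) (tv_mem_UT (lt_rev_of_lt hj hi) c)

theorem Zl_mem_UU {i : Fin (2 * m)} (hi : (i : ℕ) < m) (c : K) :
    (Zl i c : SLn) ∈ (UU : Subgroup SLn) := mem_UU.mpr ⟨Zl_mem_UT hi c, Zl_mem_Spn i c⟩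

theorem Ym_mem_UU {i j : Fin (2 * m)} (hij : i < j) (hj : (j : ℕ) < m) (c : K) :
    (Ym i j (ne_of_lt hij) c : SLn) ∈ (UU : Subgroup SLn) :=
  mem_UU.mpr ⟨Ym_mem_UT hij c, Ym_mem_Spn _ (by rw [Fin.lt_def] at hij; omega) hj c⟩

theorem Yp_mem_UU {i j : Fin (2 * m)} (hi : (i : ℕ) < m) (hj : (j : ℕ) < m) (c : K) :
    (Yp i j (ne_rev_of_lt hi hj) c : SLn) ∈ (UU : Subgroup SLn) :=
  mem_UU.mpr ⟨Yp_mem_UT hi hj c, Yp_mem_Spn hi hj c⟩

/-- general short root element -/
def Yg (i j : Fin (2 * m)) (hij : i ≠ j) (c : K) : SLn :=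
  tv i j hij c * tv j.rev i.rev (fun h => hij (Fin.rev_inj.mp h).symm) (-(sg i * sg j) * c)

theorem Yg_val (i j : Fin (2 * m)) (hij : i ≠ j) (c : K) :
    (Yg i j hij c : SLn).1 = 1 + (c • E i j + (-(sg i * sg j) * c) • E j.rev i.rev) := by
  unfold Yg
  rw [Matrix.SpecialLinearGroup.coe_mul, tv_val', tv_val']
  simp only [Matrix.add_mul, Matrix.mul_add, Matrix.smul_mul, Matrix.mul_smul, E_mul_E,
    ne_rev j, if_false, smul_zero, add_zero, Matrix.one_mul, Matrix.mul_one]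
  abel

theorem Yg_isSp (i j : Fin (2 * m)) (hij : i ≠ j) (c : K) : IsSp (Yg i j hij c : SLn) := by
  apply isSp_of_nil _ _ (Yg_val i j hij c)
  · simp only [Matrix.transpose_smul, Matrix.transpose_add, E_transpose, Matrix.smul_mul,
      Matrix.mul_smul, Matrix.add_mul, Matrix.mul_add, E_mul_Om, Om_mul_E, Fin.rev_rev, sg_rev]
    rcases sg_cases (K := K) i with h | h <;> rcases sg_cases (K := K) j with h' | h' <;>
      simp only [h, h'] <;> module
  · simp only [Matrix.transpose_smul, Matrix.transpose_add, E_transpose, Matrix.smul_mul,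
      Matrix.mul_smul, Matrix.add_mul, Matrix.mul_add, E_mul_Om, E_mul_E, Fin.rev_rev,
      rev_ne j, rev_ne_rev hij.symm, hij, ne_rev i, if_false, smul_zero, add_zero]

theorem Yg_mem_UU {i j : Fin (2 * m)} (hij : i < j) (c : K) :
    (Yg i j (ne_of_lt hij) c : SLn) ∈ (UU : Subgroup SLn) :=
  mem_UU.mpr ⟨Subgroup.mul_mem _ (tv_mem_UT hij c) (tv_mem_UT (Fin.rev_lt_rev.mpr hij) _),
    Yg_isSp i j _ c⟩

/-- a trivial row forces a trivial column -/
theorem col_of_row {x : SLn} (hx : IsSp x) {a : Fin (2 * m)}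
    (h : ∀ k, x.1 a k = (1 : Mn) a k) (b : Fin (2 * m)) : x.1 b a.rev = (1 : Mn) b a.rev := by
  have h1 := congrFun (congrFun hx a) b
  rw [Matrix.mul_apply] at h1
  have h2 : ∀ k ∈ Finset.univ, (x.1 * Om : Mn) a k * x.1ᵀ k b = (Om : Mn) a k * x.1 b k := by
    intro k _
    rw [mul_apply_of_row h k, Matrix.transpose_apply]
  rw [Finset.sum_congr rfl h2, Finset.sum_eq_single a.rev] at h1
  · rw [Om_apply, if_pos rfl, Om_apply] at h1
    rw [Matrix.one_apply]
    by_cases hb : b = a.rev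
    · rw [if_pos hb] at h1 ⊢
      have h3 : (sg a : K) * x.1 b a.rev = sg a * 1 := by rw [h1, mul_one]
      exact mul_left_cancel₀ (sg_ne_zero a) h3
    · rw [if_neg hb] at h1 ⊢
      rcases mul_eq_zero.mp h1 with h3 | h3
      · exact absurd h3 (sg_ne_zero a)
      · exact h3
  · intro k _ hk
    rw [Om_apply, if_neg hk, zero_mul]
  · intro h3
    exact absurd (Finset.mem_univ _) h3

/-! ### the Siegel radical -/

/-- trivial outside the upper right block -/
def IsQm (x : SLn) : Prop :=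
  ∀ a b : Fin (2 * m), ¬ ((a : ℕ) < m ∧ m ≤ (b : ℕ)) → x.1 a b = (1 : Mn) a b

theorem IsQm.row {x : SLn} (hx : IsQm x) {a : Fin (2 * m)} (ha : m ≤ (a : ℕ)) (k : Fin (2 * m)) :
    x.1 a k = (1 : Mn) a k := hx a k (fun h => by omega)

theorem IsQm.col {x : SLn} (hx : IsQm x) {b : Fin (2 * m)} (hb : (b : ℕ) < m) (k : Fin (2 * m)) :
    x.1 k b = (1 : Mn) k b := hx k b (fun h => by omega)

/-- the Siegel radical (not yet intersected with the symplectic group) -/
def Qm : Subgroup SLn := ofSubmonoid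
  { carrier := {x | IsQm x}
    mul_mem' := by
      intro x y hx hy a b hab
      rw [Matrix.SpecialLinearGroup.coe_mul]
      by_cases ha : m ≤ (a : ℕ)
      · rw [mul_apply_of_row (IsQm.row hx ha) b]
        exact hy a b hab
      · have hb : (b : ℕ) < m := by omega
        rw [mul_apply_of_col (IsQm.col hy hb) a]
        exact hx a b hab
    one_mem' := by
      intro a b _
      rw [Matrix.SpecialLinearGroup.coe_one] }

theorem mem_Qm {x : SLn} : x ∈ (Qm : Subgroup SLn) ↔ IsQm x := Iff.rfl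

theorem conj_isQm {g v r : SLn} (hgv : g * v = 1)
    (hg : ∀ a b : Fin (2 * m), m ≤ (a : ℕ) → (b : ℕ) < m → g.1 a b = 0)
    (hv : ∀ a b : Fin (2 * m), m ≤ (a : ℕ) → (b : ℕ) < m → v.1 a b = 0)
    (hr : IsQm r) : IsQm (g * r * v) := by
  intro a b hab
  by_cases ha : m ≤ (a : ℕ)
  · have h1 : ∀ k, (g.1 * r.1) a k = g.1 a k := by
      intro k
      rw [Matrix.mul_apply]
      have h2 : ∀ l ∈ Finset.univ, g.1 a l * r.1 l k = g.1 a l * (1 : Mn) l k := by
        intro l _
        by_cases hl : m ≤ (l : ℕ)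
        · rw [hr.row hl k]
        · rw [hg a l ha (by omega), zero_mul, zero_mul]
      rw [Finset.sum_congr rfl h2, ← Matrix.mul_apply, Matrix.mul_one]
    rw [Matrix.SpecialLinearGroup.coe_mul, Matrix.SpecialLinearGroup.coe_mul, Matrix.mul_apply,
      Finset.sum_congr rfl (fun k _ => by rw [h1 k]), ← Matrix.mul_apply,
      ← Matrix.SpecialLinearGroup.coe_mul, hgv, Matrix.SpecialLinearGroup.coe_one]
  · have hb : (b : ℕ) < m := by omega
    have h1 : ∀ k, (r.1 * v.1) k b = v.1 k b := by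
      intro k
      rw [Matrix.mul_apply]
      have h2 : ∀ l ∈ Finset.univ, r.1 k l * v.1 l b = (1 : Mn) k l * v.1 l b := by
        intro l _
        by_cases hl : (l : ℕ) < m
        · rw [hr.col hl k]
        · rw [hv l b (by omega) hb, mul_zero, mul_zero]
      rw [Finset.sum_congr rfl h2, ← Matrix.mul_apply, Matrix.one_mul]
    rw [mul_assoc, Matrix.SpecialLinearGroup.coe_mul, Matrix.SpecialLinearGroup.coe_mul,
      Matrix.mul_apply, Finset.sum_congr rfl (fun k _ => by rw [h1 k]), ← Matrix.mul_apply,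
      ← Matrix.SpecialLinearGroup.coe_mul, hgv, Matrix.SpecialLinearGroup.coe_one]

theorem Qm_le_UT : (Qm : Subgroup SLn) ≤ UT := by
  intro x hx
  rw [mem_Qm] at hx
  rw [mem_UT]
  constructor
  · intro a b hab
    rw [hx a b (fun h => by rw [Fin.lt_def] at hab; omega), Matrix.one_apply_ne (ne_of_gt hab)]
  · intro a
    rw [hx a a (fun h => by omega), Matrix.one_apply_eq]

theorem Qm_conj_UT {u r : SLn} (hu : u ∈ (UT : Subgroup SLn)) (hr : r ∈ (Qm : Subgroup SLn)) :
    u * r * u⁻¹ ∈ (Qm : Subgroup SLn) := by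
  rw [mem_Qm] at hr ⊢
  obtain ⟨h1, -⟩ := mem_UT.mp hu
  obtain ⟨h3, -⟩ := mem_UT.mp (UT.inv_mem hu)
  apply conj_isQm (mul_inv_cancel u) _ _ hr
  · intro a b ha hb
    exact h1 a b (by rw [Fin.lt_def]; omega)
  · intro a b ha hb
    exact h3 a b (by rw [Fin.lt_def]; omega)

theorem Zl_mem_Qm {i : Fin (2 * m)} (hi : (i : ℕ) < m) (c : K) :
    (Zl i c : SLn) ∈ (Qm : Subgroup SLn) := by
  rw [mem_Qm]
  intro a b hab
  unfold Zl
  rw [tv_apply, if_neg, add_zero]
  rintro ⟨h1, h2⟩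
  apply hab
  rw [← h1, ← h2, Fin.val_rev]
  omega

/-- the Siegel radical is self-centralizing in the unitriangular group -/
theorem Qm_selfCentralizing {u : SLn} (hu : u ∈ (UT : Subgroup SLn))
    (hc : ∀ r ∈ (Qm ⊓ Spn : Subgroup SLn), u * r = r * u) : u ∈ (Qm : Subgroup SLn) := by
  obtain ⟨-, h2⟩ := mem_UT.mp hu
  have hcomm : ∀ i : Fin (2 * m), (i : ℕ) < m → Commute (Matrix.single i i.rev (1 : K)) u.1 := by
    intro i hi
    have hcm := (hc _ (Subgroup.mem_inf.mpr ⟨Zl_mem_Qm hi 1, Zl_mem_Spn i 1⟩)).symm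
    exact commute_single_of_commute_tv (ne_rev i) hcm
  rw [mem_Qm]
  intro a b hab
  by_cases hab' : a = b
  · rw [← hab', h2 a, Matrix.one_apply_eq]
  · rw [Matrix.one_apply_ne hab']
    by_cases hb : (b : ℕ) < m
    · exact Matrix.col_eq_zero_of_commute_single (hcomm b hb) hab'
    · have ha : m ≤ (a : ℕ) := by omega
      have h3 := Matrix.row_eq_zero_of_commute_single (hcomm a.rev ((rev_lt_iff a).mpr ha))
        (k := b) (by rw [Fin.rev_rev]; exact Ne.symm hab')
      rwa [Fin.rev_rev] at h3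

/-! ### the Heisenberg radical -/

/-- trivial outside the first row and the last column -/
def IsQ1 (z : Fin (2 * m)) (x : SLn) : Prop :=
  (∀ a b : Fin (2 * m), a ≠ z → b ≠ z.rev → x.1 a b = (1 : Mn) a b) ∧ x.1 z z = 1 ∧
    x.1 z.rev z.rev = 1

theorem IsQ1.colz {z : Fin (2 * m)} {x : SLn} (hx : IsQ1 z x) (k : Fin (2 * m)) :
    x.1 k z = (1 : Mn) k z := by
  by_cases hk : k = z
  · rw [hk, hx.2.1, Matrix.one_apply_eq]
  · exact hx.1 k z hk (ne_rev z)

theorem IsQ1.rowl {z : Fin (2 * m)} {x : SLn} (hx : IsQ1 z x) (k : Fin (2 * m)) :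
    x.1 z.rev k = (1 : Mn) z.rev k := by
  by_cases hk : k = z.rev
  · rw [hk, hx.2.2, Matrix.one_apply_eq]
  · exact hx.1 z.rev k (rev_ne z) hk

theorem conj_isQ1 {z : Fin (2 * m)} {g v r : SLn} (hgv : g * v = 1)
    (hg1 : ∀ a, a ≠ z → g.1 a z = 0) (hg2 : ∀ b, b ≠ z.rev → g.1 z.rev b = 0)
    (hv1 : ∀ a, a ≠ z → v.1 a z = 0) (hv2 : ∀ b, b ≠ z.rev → v.1 z.rev b = 0)
    (hr : IsQ1 z r) : IsQ1 z (g * r * v) := by
  refine ⟨?_, ?_, ?_⟩
  · intro a b ha hb
    have h1 : ∀ k, k ≠ z.rev → (g.1 * r.1) a k = g.1 a k := by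
      intro k hk
      rw [Matrix.mul_apply]
      have h2 : ∀ l ∈ Finset.univ, g.1 a l * r.1 l k = g.1 a l * (1 : Mn) l k := by
        intro l _
        by_cases hl : l = z
        · rw [hl, hg1 a ha, zero_mul, zero_mul]
        · rw [hr.1 l k hl hk]
      rw [Finset.sum_congr rfl h2, ← Matrix.mul_apply, Matrix.mul_one]
    have h3 : ∀ k ∈ Finset.univ, (g.1 * r.1) a k * v.1 k b = g.1 a k * v.1 k b := by
      intro k _
      by_cases hk : k = z.rev
      · rw [hk, hv2 b hb, mul_zero, mul_zero]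
      · rw [h1 k hk]
    rw [Matrix.SpecialLinearGroup.coe_mul, Matrix.SpecialLinearGroup.coe_mul, Matrix.mul_apply,
      Finset.sum_congr rfl h3, ← Matrix.mul_apply, ← Matrix.SpecialLinearGroup.coe_mul, hgv,
      Matrix.SpecialLinearGroup.coe_one]
  · have h1 : ∀ k, (r.1 * v.1) k z = v.1 k z := by
      intro k
      rw [Matrix.mul_apply, Finset.sum_eq_single z]
      · rw [hr.colz k]
        by_cases hk : k = z
        · rw [hk, Matrix.one_apply_eq, one_mul]
        · rw [Matrix.one_apply_ne hk, zero_mul, hv1 k hk]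
      · intro l _ hl
        rw [hv1 l hl, mul_zero]
      · intro h
        exact absurd (Finset.mem_univ _) h
    rw [mul_assoc, Matrix.SpecialLinearGroup.coe_mul, Matrix.SpecialLinearGroup.coe_mul,
      Matrix.mul_apply, Finset.sum_congr rfl (fun k _ => by rw [h1 k]), ← Matrix.mul_apply,
      ← Matrix.SpecialLinearGroup.coe_mul, hgv, Matrix.SpecialLinearGroup.coe_one,
      Matrix.one_apply_eq]
  · have h1 : ∀ k, (g.1 * r.1) z.rev k = g.1 z.rev k := by
      intro k
      rw [Matrix.mul_apply, Finset.sum_eq_single z.rev]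
      · rw [hr.rowl k]
        by_cases hk : k = z.rev
        · rw [hk, Matrix.one_apply_eq, mul_one]
        · rw [Matrix.one_apply_ne (Ne.symm hk), mul_zero, hg2 k hk]
      · intro l _ hl
        rw [hg2 l hl, zero_mul]
      · intro h
        exact absurd (Finset.mem_univ _) h
    rw [Matrix.SpecialLinearGroup.coe_mul, Matrix.SpecialLinearGroup.coe_mul,
      Matrix.mul_apply, Finset.sum_congr rfl (fun k _ => by rw [h1 k]), ← Matrix.mul_apply,
      ← Matrix.SpecialLinearGroup.coe_mul, hgv, Matrix.SpecialLinearGroup.coe_one,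
      Matrix.one_apply_eq]

/-- the Heisenberg radical (not yet intersected with the symplectic group) -/
def Q1 (z : Fin (2 * m)) : Subgroup SLn := ofSubmonoid
  { carrier := {x | IsQ1 z x}
    mul_mem' := by
      intro x y hx hy
      refine ⟨?_, ?_, ?_⟩
      · intro a b ha hb
        rw [Matrix.SpecialLinearGroup.coe_mul, Matrix.mul_apply]
        have h2 : ∀ k ∈ Finset.univ, x.1 a k * y.1 k b = (1 : Mn) a k * y.1 k b := by
          intro k _
          by_cases hk : k = z.rev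
          · rw [hk, IsQ1.rowl hy b, Matrix.one_apply_ne (Ne.symm hb), mul_zero, mul_zero]
          · rw [hx.1 a k ha hk]
        rw [Finset.sum_congr rfl h2, ← Matrix.mul_apply, Matrix.one_mul]
        exact hy.1 a b ha hb
      · rw [Matrix.SpecialLinearGroup.coe_mul, mul_apply_of_col (IsQ1.colz hy) z]
        exact hx.2.1
      · rw [Matrix.SpecialLinearGroup.coe_mul, mul_apply_of_row (IsQ1.rowl hx) z.rev]
        exact hy.2.2
    one_mem' := ⟨fun a b _ _ => by rw [Matrix.SpecialLinearGroup.coe_one],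
      by rw [Matrix.SpecialLinearGroup.coe_one, Matrix.one_apply_eq],
      by rw [Matrix.SpecialLinearGroup.coe_one, Matrix.one_apply_eq]⟩ }

theorem mem_Q1 {z : Fin (2 * m)} {x : SLn} : x ∈ (Q1 z : Subgroup SLn) ↔ IsQ1 z x := Iff.rfl

theorem Q1_le_UT {z : Fin (2 * m)} (hz : (z : ℕ) = 0) : (Q1 z : Subgroup SLn) ≤ UT := by
  intro x hx
  rw [mem_Q1] at hx
  rw [mem_UT]
  constructor
  · intro a b hab
    have ha : a ≠ z := by
      intro h
      rw [h, Fin.lt_def] at hab
      omega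
    have hb : b ≠ z.rev := by
      intro h
      rw [h, Fin.lt_def, Fin.val_rev] at hab
      have := a.2
      omega
    rw [hx.1 a b ha hb, Matrix.one_apply_ne (ne_of_gt hab)]
  · intro a
    by_cases ha : a = z
    · rw [ha]
      exact hx.2.1
    · by_cases ha' : a = z.rev
      · rw [ha']
        exact hx.2.2
      · rw [hx.1 a a ha ha', Matrix.one_apply_eq]

theorem Q1_conj_UT {z : Fin (2 * m)} (hz : (z : ℕ) = 0) {u r : SLn}
    (hu : u ∈ (UT : Subgroup SLn)) (hr : r ∈ (Q1 z : Subgroup SLn)) :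
    u * r * u⁻¹ ∈ (Q1 z : Subgroup SLn) := by
  rw [mem_Q1] at hr ⊢
  obtain ⟨h1, -⟩ := mem_UT.mp hu
  obtain ⟨h3, -⟩ := mem_UT.mp (UT.inv_mem hu)
  have key1 : ∀ a : Fin (2 * m), a ≠ z → z < a := by
    intro a ha
    have h : (a : ℕ) ≠ (z : ℕ) := fun h => ha (Fin.ext h)
    rw [Fin.lt_def]
    omega
  have key2 : ∀ b : Fin (2 * m), b ≠ z.rev → b < z.rev := by
    intro b hb
    have h : (b : ℕ) ≠ (z.rev : ℕ) := fun h => hb (Fin.ext h)
    rw [Fin.val_rev] at h
    rw [Fin.lt_def, Fin.val_rev]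
    have := b.2
    omega
  apply conj_isQ1 (mul_inv_cancel u) _ _ _ _ hr
  · intro a ha
    exact h1 a z (key1 a ha)
  · intro b hb
    exact h1 z.rev b (key2 b hb)
  · intro a ha
    exact h3 a z (key1 a ha)
  · intro b hb
    exact h3 z.rev b (key2 b hb)

/-- transvections away from the first and last index normalize the Heisenberg radical -/
theorem Q1_conj_tv {z i j : Fin (2 * m)} (hij : i ≠ j) (hi : i ≠ z.rev) (hj : j ≠ z) (c : K)
    {r : SLn} (hr : r ∈ (Q1 z : Subgroup SLn)) :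
    tv i j hij c * r * (tv i j hij c)⁻¹ ∈ (Q1 z : Subgroup SLn) := by
  rw [mem_Q1] at hr ⊢
  apply conj_isQ1 (mul_inv_cancel _) _ _ _ _ hr
  · intro a ha
    rw [tv_apply, Matrix.one_apply_ne ha, zero_add, if_neg]
    intro h
    exact hj h.2
  · intro b hb
    rw [tv_apply, Matrix.one_apply_ne (Ne.symm hb), zero_add, if_neg]
    intro h
    exact hi h.1
  · intro a ha
    rw [tv_inv, tv_apply, Matrix.one_apply_ne ha, zero_add, if_neg]
    intro h
    exact hj h.2
  · intro b hb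
    rw [tv_inv, tv_apply, Matrix.one_apply_ne (Ne.symm hb), zero_add, if_neg]
    intro h
    exact hi h.1

theorem Ym_mem_Q1 {z j : Fin (2 * m)} (hzj : z ≠ j) (c : K) :
    (Ym z j hzj c : SLn) ∈ (Q1 z : Subgroup SLn) := by
  rw [mem_Q1]
  refine ⟨?_, ?_, ?_⟩
  · intro a b ha hb
    rw [Ym_val, Matrix.add_apply, Matrix.add_apply, Matrix.smul_apply, Matrix.smul_apply, E_apply,
      E_apply, if_neg (fun h => ha h.1.symm), if_neg (fun h => hb h.2.symm), smul_zero, smul_zero,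
      add_zero, add_zero]
  · rw [Ym_val, Matrix.add_apply, Matrix.add_apply, Matrix.smul_apply, Matrix.smul_apply, E_apply,
      E_apply, if_neg (fun h => hzj h.2.symm), if_neg (fun h => rev_ne z h.2), smul_zero, smul_zero,
      add_zero, add_zero, Matrix.one_apply_eq]
  · rw [Ym_val, Matrix.add_apply, Matrix.add_apply, Matrix.smul_apply, Matrix.smul_apply, E_apply,
      E_apply, if_neg (fun h => ne_rev z h.1), if_neg (fun h => hzj (Fin.rev_inj.mp h.1).symm),
      smul_zero, smul_zero, add_zero, add_zero, Matrix.one_apply_eq]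

theorem Yp_mem_Q1 {z j : Fin (2 * m)} (h : z ≠ j.rev) (c : K) :
    (Yp z j h c : SLn) ∈ (Q1 z : Subgroup SLn) := by
  rw [mem_Q1]
  refine ⟨?_, ?_, ?_⟩
  · intro a b ha hb
    rw [Yp_val, Matrix.add_apply, Matrix.add_apply, Matrix.smul_apply, Matrix.smul_apply, E_apply,
      E_apply, if_neg (fun h => ha h.1.symm), if_neg (fun h => hb h.2.symm), smul_zero,
      add_zero, add_zero]
  · rw [Yp_val, Matrix.add_apply, Matrix.add_apply, Matrix.smul_apply, Matrix.smul_apply, E_apply,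
      E_apply, if_neg (fun h2 => h h2.2.symm), if_neg (fun h2 => rev_ne z h2.2), smul_zero,
      add_zero, add_zero, Matrix.one_apply_eq]
  · rw [Yp_val, Matrix.add_apply, Matrix.add_apply, Matrix.smul_apply, Matrix.smul_apply, E_apply,
      E_apply, if_neg (fun h2 => ne_rev z h2.1),
      if_neg (fun h2 => h (by rw [h2.1, Fin.rev_rev])), smul_zero, add_zero, add_zero,
      Matrix.one_apply_eq]

theorem row_extract {u : SLn} {z a c' l' : Fin (2 * m)} (hza : z ≠ a) (hcl : c' ≠ l') (e : K)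
    (hc : u * (tv z a hza 1 * tv c' l' hcl e) = tv z a hza 1 * tv c' l' hcl e * u)
    {b : Fin (2 * m)} (hb : b ≠ l') (hzc : z ≠ c') (hac : a ≠ c') :
    u.1 a b = if b = a then u.1 z z else 0 := by
  have h3 := congrArg (fun y : SLn => y.1 z b) hc
  have hL : (u * (tv z a hza 1 * tv c' l' hcl e)).1 z b =
      u.1 z b + if b = a then u.1 z z else 0 := by
    rw [← mul_assoc, mul_tv_apply, if_neg hb, add_zero, mul_tv_apply, one_mul]
  have hR : (tv z a hza 1 * tv c' l' hcl e * u).1 z b = u.1 z b + u.1 a b := by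
    rw [mul_assoc, tv_mul_apply, if_pos rfl, one_mul, tv_mul_apply, if_neg hzc, add_zero,
      tv_mul_apply, if_neg hac, add_zero]
  have h4 : u.1 z b + (if b = a then u.1 z z else 0) = u.1 z b + u.1 a b := by
    rw [← hL, ← hR]
    exact h3
  exact (add_left_cancel h4).symm

/-- the Heisenberg radical is self-centralizing in the unitriangular group -/
theorem Q1_selfCentralizing {z : Fin (2 * m)} (hz : (z : ℕ) = 0) (hm : 1 ≤ m) {u : SLn}
    (hu : u ∈ (UT : Subgroup SLn))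
    (hc : ∀ r ∈ (Q1 z ⊓ Spn : Subgroup SLn), u * r = r * u) : u ∈ (Q1 z : Subgroup SLn) := by
  obtain ⟨h1, h2⟩ := mem_UT.mp hu
  have hz' : (z : ℕ) < m := by omega
  rw [mem_Q1]
  refine ⟨?_, h2 z, h2 z.rev⟩
  intro a b ha hb
  by_cases hal : a = z.rev
  · rw [hal]
    have hlt : b < z.rev := by
      have h : (b : ℕ) ≠ (z.rev : ℕ) := fun h => hb (Fin.ext h)
      rw [Fin.val_rev] at h
      rw [Fin.lt_def, Fin.val_rev]
      have := b.2
      omega
    rw [h1 z.rev b hlt, Matrix.one_apply_ne (Ne.symm hb)]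
  · have hfin : u.1 a b = if b = a then u.1 z z else 0 := by
      by_cases ham : (a : ℕ) < m
      · have hza : z ≠ a := Ne.symm ha
        have hmem : Ym z a hza 1 ∈ (Q1 z ⊓ Spn : Subgroup SLn) :=
          Subgroup.mem_inf.mpr ⟨Ym_mem_Q1 hza 1, Ym_mem_Spn hza hz' ham 1⟩
        exact row_extract hza _ (-1) (hc _ hmem) hb (ne_rev_of_lt hz' ham) (ne_rev a)
      · obtain ⟨j, hj⟩ : ∃ j : Fin (2 * m), j.rev = a := ⟨a.rev, Fin.rev_rev a⟩
        subst hj
        have hj' : (j : ℕ) < m := by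
          rw [rev_lt_iff] at ham
          omega
        have hzj : z ≠ j := fun h => hal (by rw [h])
        have hmem : Yp z j (ne_rev_of_lt hz' hj') 1 ∈ (Q1 z ⊓ Spn : Subgroup SLn) :=
          Subgroup.mem_inf.mpr ⟨Yp_mem_Q1 _ 1, Yp_mem_Spn hz' hj' 1⟩
        exact row_extract (ne_rev_of_lt hz' hj') _ 1 (hc _ hmem) hb hzj (rev_ne j)
    rw [hfin, h2 z, Matrix.one_apply]
    by_cases hab : a = b
    · rw [if_pos hab, if_pos hab.symm]
    · rw [if_neg hab, if_neg (fun h => hab h.symm)]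

end Cfsg.Agent.Lib.Helper2.SpFus
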