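import Mathlib
import Cfsg.Agent.Lib.Helper2.SpFus2

set_option autoImplicit false

/-! Normalizer of the unitriangular symplectic group, the torus, and generation by root
elements. -/

namespace Cfsg.Agent.Lib.Helper2.SpFus

open Matrix Cfsg.Agent.Lib.Helper2.UniTri

variable {K : Type*} [Field K] [Fintype K] {m : ℕ}

local notation "SLn" => Matrix.SpecialLinearGroup (Fin (2 * m)) K
local notation "Mn" => Matrix (Fin (2 * m)) (Fin (2 * m)) K

/-- elements conjugating the unitriangular symplectic group into itself are upper triangular -/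
theorem upper_of_conj {x : SLn}
    (hx : ∀ u ∈ (UU : Subgroup SLn), x⁻¹ * u * x ∈ (UU : Subgroup SLn)) :
    ∀ a b : Fin (2 * m), b < a → x.1 a b = 0 := by
  have key : ∀ k : ℕ, ∀ a b : Fin (2 * m), (b : ℕ) = k → b < a → x.1 a b = 0 := by
    intro k
    induction k using Nat.strong_induction_on with
    | _ k ih =>
      intro a b hbk hba
      obtain ⟨w, hwU, hw⟩ : ∃ w ∈ (UU : Subgroup SLn),
          ∀ y : SLn, (w * y).1 b b = y.1 b b + y.1 a b := by
        by_cases har : a = b.rev
        · subst har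
          have hb : (b : ℕ) < m := by
            rw [Fin.lt_def, Fin.val_rev] at hba
            omega
          refine ⟨Zl b 1, Zl_mem_UU hb 1, ?_⟩
          intro y
          unfold Zl
          rw [tv_mul_apply, if_pos rfl, one_mul]
        · refine ⟨Yg b a (ne_of_lt hba) 1, Yg_mem_UU hba 1, ?_⟩
          intro y
          unfold Yg
          rw [mul_assoc, tv_mul_apply, if_pos rfl, one_mul, tv_mul_apply,
            if_neg (fun h => har (by rw [h, Fin.rev_rev])), add_zero, tv_mul_apply,
            if_neg (ne_rev a), add_zero]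
      have hu : x⁻¹ * w * x ∈ (UU : Subgroup SLn) := hx w hwU
      obtain ⟨u, hudef⟩ : ∃ u : SLn, u = x⁻¹ * w * x := ⟨_, rfl⟩
      rw [← hudef] at hu
      have huT := (mem_UU.mp hu).1
      have he : x * u = w * x := by rw [hudef]; group
      have hsum : (x * u).1 b b = x.1 b b := by
        rw [Matrix.SpecialLinearGroup.coe_mul, Matrix.mul_apply, Finset.sum_eq_single b]
        · rw [(mem_UT.mp huT).2 b, mul_one]
        · intro l _ hlb
          rcases lt_or_gt_of_ne hlb with h | h
          · rw [ih (l : ℕ) (by rw [← hbk]; exact h) b l rfl h, zero_mul]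
          · rw [(mem_UT.mp huT).1 l b h, mul_zero]
        · intro h
          exact absurd (Finset.mem_univ b) h
      rw [he, hw x] at hsum
      linear_combination hsum
  intro a b hba
  exact key _ a b rfl hba

theorem diag_mul_diag {x : SLn} (hx : IsSp x)
    (hup : ∀ a b : Fin (2 * m), b < a → x.1 a b = 0) (a : Fin (2 * m)) :
    x.1 a a * x.1 a.rev a.rev = 1 := by
  have h1 := congrFun (congrFun hx a) a.rev
  rw [form_apply, Om_apply, if_pos rfl, Finset.sum_eq_single a.rev] at h1
  · rw [Fin.rev_rev] at h1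
    have h2 : (sg a : K) * (x.1 a a * x.1 a.rev a.rev) = sg a * 1 := by
      rw [mul_one]
      linear_combination h1
    exact mul_left_cancel₀ (sg_ne_zero a) h2
  · intro k _ hk
    have hne : k.rev ≠ a := fun h => hk (by rw [← h, Fin.rev_rev])
    rcases lt_or_gt_of_ne hne with h | h
    · rw [hup a k.rev h, zero_mul, zero_mul]
    · have h' : k < a.rev := by
        have h3 := Fin.rev_lt_rev.mpr h
        rwa [Fin.rev_rev] at h3
      rw [hup a.rev k h', mul_zero]
  · intro h
    exact absurd (Finset.mem_univ _) h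

/-- the decomposition of upper triangular symplectic elements -/
theorem decomp_of_upper {x : SLn} (hxS : x ∈ (Spn : Subgroup SLn))
    (hup : ∀ a b : Fin (2 * m), b < a → x.1 a b = 0) :
    ∃ d ∈ (DD ⊓ Spn : Subgroup SLn), ∃ u ∈ (UU : Subgroup SLn), x = d * u := by
  have hdet : ∏ a, x.1 a a = 1 := by
    have h1 := x.2
    rw [Matrix.det_of_isUpperTriangular] at h1
    · exact h1
    · intro a b hab
      exact hup a b hab
  have hne : ∀ a, x.1 a a ≠ 0 := by
    intro a h
    rw [Finset.prod_eq_zero (f := fun b => x.1 b b) (Finset.mem_univ a) h] at hdet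
    exact zero_ne_one hdet
  obtain ⟨e, hedef⟩ : ∃ e : SLn, e = ⟨Matrix.diagonal (fun a => (x.1 a a)⁻¹), by
      rw [Matrix.det_diagonal, Finset.prod_inv_distrib, hdet, inv_one]⟩ := ⟨_, rfl⟩
  have heval : e.1 = Matrix.diagonal (fun a => (x.1 a a)⁻¹) := by rw [hedef]
  have heD : e ∈ (DD : Subgroup SLn) := by
    rw [mem_DD]
    intro a b hab
    rw [heval, Matrix.diagonal_apply_ne _ hab]
  have heS : e ∈ (Spn : Subgroup SLn) := by
    rw [mem_Spn]
    unfold IsSp
    ext a b
    rw [form_apply, Finset.sum_eq_single a.rev]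
    · rw [Fin.rev_rev, heval, Matrix.diagonal_apply_eq, Om_apply, Matrix.diagonal_apply]
      by_cases hb : b = a.rev
      · rw [if_pos hb, if_pos hb]
        subst hb
        have h2 := diag_mul_diag (mem_Spn.mp hxS) hup a
        calc (x.1 a a)⁻¹ * sg a * (x.1 a.rev a.rev)⁻¹
            = sg a * (x.1 a a * x.1 a.rev a.rev)⁻¹ := by rw [mul_inv]; ring
          _ = sg a := by rw [h2, inv_one, mul_one]
      · rw [if_neg hb, if_neg hb, mul_zero]
    · intro k _ hk
      have hne' : a ≠ k.rev := fun h => hk (by rw [h, Fin.rev_rev])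
      rw [heval, Matrix.diagonal_apply_ne _ hne', zero_mul, zero_mul]
    · intro h
      exact absurd (Finset.mem_univ _) h
  have heu : e * x ∈ (UT : Subgroup SLn) := by
    rw [mem_UT]
    constructor
    · intro a b hab
      rw [(mem_DD.mp heD).mul_apply, hup a b hab, mul_zero]
    · intro a
      rw [(mem_DD.mp heD).mul_apply, heval, Matrix.diagonal_apply_eq, inv_mul_cancel₀ (hne a)]
  refine ⟨e⁻¹, Subgroup.inv_mem _ (Subgroup.mem_inf.mpr ⟨heD, heS⟩), e * x,
    mem_UU.mpr ⟨heu, Subgroup.mul_mem _ heS hxS⟩, ?_⟩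
  group

/-! ### the torus -/

/-- long root torus element -/
def hl (i : Fin (2 * m)) (s : K) : SLn := hh i i.rev (ne_rev i) s

theorem hl_mem_Spn (i : Fin (2 * m)) (s : K) : (hl i s : SLn) ∈ (Spn : Subgroup SLn) := by
  unfold hl hh
  exact Subgroup.mul_mem _ (Subgroup.mul_mem _ (Subgroup.mul_mem _ (Zl_mem_Spn i _)
    (Zn_mem_Spn i _)) (Zl_mem_Spn i _)) (Zn_mem_Spn i _)

theorem hl_mem_DD (i : Fin (2 * m)) (s : K) (hs : s ≠ 0) : (hl i s : SLn) ∈ (DD : Subgroup SLn) :=
  hh_mem_DD _ _ _ s hs

theorem hl_apply (i : Fin (2 * m)) (s : K) (hs : s ≠ 0) (a : Fin (2 * m)) :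
    (hl i s : SLn).1 a a = if a = i then s else if a = i.rev then s⁻¹ else 1 := by
  unfold hl
  rw [hh_apply _ _ _ s hs, if_pos rfl]

/-- the torus is generated by the long root torus elements -/
theorem HH_le_closure :
    (DD ⊓ Spn : Subgroup SLn) ≤ Subgroup.closure
      {y : SLn | ∃ i : Fin (2 * m), (i : ℕ) < m ∧ ∃ s : K, s ≠ 0 ∧ y = hl i s} := by
  have hdd : ∀ d ∈ (DD ⊓ Spn : Subgroup SLn), ∀ a : Fin (2 * m),
      d.1 a a * d.1 a.rev a.rev = 1 := by
    intro d hd a
    obtain ⟨hdD, hdS⟩ := Subgroup.mem_inf.mp hd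
    exact diag_mul_diag (mem_Spn.mp hdS) (fun a b hab => mem_DD.mp hdD a b (ne_of_gt hab)) a
  have main : ∀ k : ℕ, k ≤ m → ∀ d ∈ (DD ⊓ Spn : Subgroup SLn),
      (∀ i : Fin (2 * m), (i : ℕ) < m → k ≤ (i : ℕ) → d.1 i i = 1) →
      d ∈ Subgroup.closure
        {y : SLn | ∃ i : Fin (2 * m), (i : ℕ) < m ∧ ∃ s : K, s ≠ 0 ∧ y = hl i s} := by
    intro k
    induction k with
    | zero =>
      intro _ d hd h
      obtain ⟨hdD, hdS⟩ := Subgroup.mem_inf.mp hd
      have hd1 : d = 1 := by
        apply Subtype.ext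
        ext a b
        rw [Matrix.SpecialLinearGroup.coe_one]
        by_cases hab : a = b
        · rw [← hab, Matrix.one_apply_eq]
          by_cases ha : (a : ℕ) < m
          · exact h a ha (Nat.zero_le _)
          · have h1 := hdd d hd a
            rw [h a.rev ((rev_lt_iff a).mpr (by omega)) (Nat.zero_le _), mul_one] at h1
            exact h1
        · rw [Matrix.one_apply_ne hab]
          exact mem_DD.mp hdD a b hab
      rw [hd1]
      exact Subgroup.one_mem _
    | succ k ih =>
      intro hk d hd h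
      obtain ⟨hdD, hdS⟩ := Subgroup.mem_inf.mp hd
      obtain ⟨r, hr⟩ : ∃ r : Fin (2 * m), (r : ℕ) = k := ⟨⟨k, by omega⟩, rfl⟩
      have hrm : (r : ℕ) < m := by omega
      have hs0 : d.1 r r ≠ 0 := (mem_DD.mp hdD).ne_zero r
      have hs0' : (d.1 r r)⁻¹ ≠ 0 := inv_ne_zero hs0
      have hy : hl r (d.1 r r)⁻¹ ∈ Subgroup.closure
          {y : SLn | ∃ i : Fin (2 * m), (i : ℕ) < m ∧ ∃ s : K, s ≠ 0 ∧ y = hl i s} :=
        Subgroup.subset_closure ⟨r, hrm, _, hs0', rfl⟩
      have hd' : d * hl r (d.1 r r)⁻¹ ∈ Subgroup.closure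
          {y : SLn | ∃ i : Fin (2 * m), (i : ℕ) < m ∧ ∃ s : K, s ≠ 0 ∧ y = hl i s} := by
        apply ih (by omega) _ (Subgroup.mul_mem _ hd
          (Subgroup.mem_inf.mpr ⟨hl_mem_DD r _ hs0', hl_mem_Spn r _⟩))
        intro i him hki
        rw [(mem_DD.mp hdD).mul_apply, hl_apply r _ hs0']
        by_cases hir : i = r
        · rw [if_pos hir, hir, mul_inv_cancel₀ hs0]
        · have hir' : i ≠ r.rev := ne_rev_of_lt him hrm
          rw [if_neg hir, if_neg hir', mul_one]
          apply h i him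
          have : (i : ℕ) ≠ (r : ℕ) := fun h2 => hir (Fin.ext h2)
          omega
      have he : d = d * hl r (d.1 r r)⁻¹ * (hl r (d.1 r r)⁻¹)⁻¹ := by group
      rw [he]
      exact Subgroup.mul_mem _ hd' (Subgroup.inv_mem _ hy)
  intro d hd
  exact main m le_rfl d hd (fun i him hmi => absurd him (by omega))

end Cfsg.Agent.Lib.Helper2.SpFus
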