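import Mathlib
import Cfsg.Agent.Lib.Helper2.SpFus3

set_option autoImplicit false

/-! The short root torus element, and generation of the unitriangular symplectic group by root
elements. -/

namespace Cfsg.Agent.Lib.Helper2.SpFus

open Matrix Cfsg.Agent.Lib.Helper2.UniTri

variable {K : Type*} [Field K] [Fintype K] {m : ℕ}

local notation "SLn" => Matrix.SpecialLinearGroup (Fin (2 * m)) K
local notation "Mn" => Matrix (Fin (2 * m)) (Fin (2 * m)) K

theorem Ym_mul (i j : Fin (2 * m)) (hij : i ≠ j) (c d : K) :
    Ym i j hij c * Ym i j hij d = (Ym i j hij (c + d) : SLn) := by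
  apply Subtype.ext
  rw [mul_val _ _ (Ym_val i j hij c) (Ym_val i j hij d), Ym_val]
  simp only [Matrix.add_mul, Matrix.mul_add, Matrix.smul_mul, Matrix.mul_smul, E_mul_E,
    hij.symm, ne_rev j, rev_ne i, rev_ne_rev hij, if_false, smul_zero, add_zero]
  module

theorem Ym_zero (i j : Fin (2 * m)) (hij : i ≠ j) : (Ym i j hij 0 : SLn) = 1 := by
  unfold Ym
  rw [neg_zero, tv_zero, tv_zero, mul_one]

theorem Ym_inv (i j : Fin (2 * m)) (hij : i ≠ j) (c : K) :
    (Ym i j hij c : SLn)⁻¹ = Ym i j hij (-c) := by
  apply inv_eq_of_mul_eq_one_right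
  rw [Ym_mul, add_neg_cancel, Ym_zero]

theorem Ym_pow_char (p : ℕ) [CharP K p] (i j : Fin (2 * m)) (hij : i ≠ j) (c : K) :
    (Ym i j hij c : SLn) ^ p = 1 := by
  unfold Ym
  have hcomm : Commute (tv i j hij c : SLn)
      (tv j.rev i.rev (fun h => hij (Fin.rev_inj.mp h).symm) (-c)) :=
    tv_comm hij _ (ne_rev j) (rev_ne i) c (-c)
  rw [hcomm.mul_pow, tv_pow_char, tv_pow_char, one_mul]

theorem Ym_apply_lower {i j : Fin (2 * m)} (hij : i ≠ j) (hi : (i : ℕ) < m) (c : K)
    {a b : Fin (2 * m)} (ha : m ≤ (a : ℕ)) (hb : (b : ℕ) < m) : (Ym i j hij c : SLn).1 a b = 0 := by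
  have h1 : ¬ (i = a ∧ j = b) := by
    intro h
    have h2 := congrArg Fin.val h.1
    omega
  have h2 : ¬ (j.rev = a ∧ i.rev = b) := by
    intro h
    have h2 := congrArg Fin.val h.2
    rw [Fin.val_rev] at h2
    omega
  have h3 : a ≠ b := by
    intro h
    rw [h] at ha
    omega
  rw [Ym_val, Matrix.add_apply, Matrix.add_apply, Matrix.smul_apply, Matrix.smul_apply, E_apply,
    E_apply, if_neg h1, if_neg h2, smul_zero, smul_zero, add_zero, add_zero,
    Matrix.one_apply_ne h3]

/-- Levi root elements normalize the Siegel radical -/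
theorem Qm_conj_Ym {i j : Fin (2 * m)} (hij : i ≠ j) (hi : (i : ℕ) < m) (c : K) {r : SLn}
    (hr : r ∈ (Qm : Subgroup SLn)) :
    Ym i j hij c * r * (Ym i j hij c)⁻¹ ∈ (Qm : Subgroup SLn) := by
  rw [mem_Qm] at hr ⊢
  apply conj_isQm (mul_inv_cancel _) _ _ hr
  · intro a b ha hb
    exact Ym_apply_lower hij hi c ha hb
  · intro a b ha hb
    rw [Ym_inv]
    exact Ym_apply_lower hij hi (-c) ha hb

/-- short root torus element -/
def hY (z o : Fin (2 * m)) (hzo : z ≠ o) (s : K) : SLn :=
  Ym z o hzo (s - 1) * Ym o z hzo.symm 1 * Ym z o hzo (s⁻¹ - 1) * Ym o z hzo.symm (-s)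

theorem hY_val {z o : Fin (2 * m)} (hzo : z ≠ o) (hz : (z : ℕ) < m) (ho : (o : ℕ) < m) (s : K)
    (hs : s ≠ 0) :
    (hY z o hzo s : SLn).1 = 1 + ((s - 1) • E z z + (s⁻¹ - 1) • E o o + (s - 1) • E o.rev o.rev +
      (s⁻¹ - 1) • E z.rev z.rev) := by
  unfold hY
  rw [mul_val _ _ (mul_val _ _ (mul_val _ _ (Ym_val z o hzo (s - 1)) (Ym_val o z hzo.symm 1))
    (Ym_val z o hzo (s⁻¹ - 1))) (Ym_val o z hzo.symm (-s))]
  simp only [Matrix.add_mul, Matrix.mul_add, Matrix.smul_mul, Matrix.mul_smul, E_mul_E,
    hzo, hzo.symm, ne_rev z, rev_ne z, ne_rev o, rev_ne o, ne_rev_of_lt hz ho,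
    (ne_rev_of_lt hz ho).symm, ne_rev_of_lt ho hz, (ne_rev_of_lt ho hz).symm,
    rev_ne_rev hzo, rev_ne_rev hzo.symm, if_false, if_true, eq_self_iff_true, smul_zero, add_zero,
    zero_add]
  match_scalars <;> field_simp <;> ring

theorem hl_val (i : Fin (2 * m)) (s : K) (hs : s ≠ 0) :
    (hl i s : SLn).1 = 1 + ((s - 1) • E i i + (s⁻¹ - 1) • E i.rev i.rev) := by
  unfold hl hh
  rw [mul_val _ _ (mul_val _ _ (mul_val _ _ (tv_val' i i.rev (ne_rev i) (s - 1))
    (tv_val' i.rev i (ne_rev i).symm 1)) (tv_val' i i.rev (ne_rev i) (s⁻¹ - 1)))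
    (tv_val' i.rev i (ne_rev i).symm (-s))]
  simp only [Matrix.add_mul, Matrix.mul_add, Matrix.smul_mul, Matrix.mul_smul, E_mul_E,
    ne_rev i, rev_ne i, if_false, if_true, eq_self_iff_true, smul_zero, add_zero, zero_add]
  match_scalars <;> field_simp <;> ring

theorem hl_eq {z o : Fin (2 * m)} (hzo : z ≠ o) (hz : (z : ℕ) < m) (ho : (o : ℕ) < m) (s : K)
    (hs : s ≠ 0) : (hl z s : SLn) = hY z o hzo s * hl o s := by
  apply Subtype.ext
  rw [hl_val z s hs, mul_val _ _ (hY_val hzo hz ho s hs) (hl_val o s hs)]
  simp only [Matrix.add_mul, Matrix.mul_add, Matrix.smul_mul, Matrix.mul_smul, E_mul_E,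
    hzo, hzo.symm, ne_rev z, rev_ne z, ne_rev o, rev_ne o, ne_rev_of_lt hz ho,
    (ne_rev_of_lt hz ho).symm, ne_rev_of_lt ho hz, (ne_rev_of_lt ho hz).symm,
    rev_ne_rev hzo, rev_ne_rev hzo.symm, if_false, if_true, eq_self_iff_true, smul_zero, add_zero,
    zero_add]
  match_scalars <;> field_simp <;> ring

theorem E_diag_apply_ne (k : Fin (2 * m)) {a b : Fin (2 * m)} (hab : a ≠ b) :
    (E k k : Mn) a b = 0 := by
  rw [E_apply, if_neg]
  rintro ⟨h1, h2⟩
  exact hab (h1.symm.trans h2)

theorem hY_mem_DD {z o : Fin (2 * m)} (hzo : z ≠ o) (hz : (z : ℕ) < m) (ho : (o : ℕ) < m) (s : K)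
    (hs : s ≠ 0) : (hY z o hzo s : SLn) ∈ (DD : Subgroup SLn) := by
  rw [mem_DD]
  intro a b hab
  rw [hY_val hzo hz ho s hs]
  simp only [Matrix.add_apply, Matrix.smul_apply, E_diag_apply_ne _ hab, Matrix.one_apply_ne hab,
    smul_zero, add_zero]

theorem hY_mem_Spn {z o : Fin (2 * m)} (hzo : z ≠ o) (hz : (z : ℕ) < m) (ho : (o : ℕ) < m)
    (s : K) : (hY z o hzo s : SLn) ∈ (Spn : Subgroup SLn) := by
  unfold hY
  exact Subgroup.mul_mem _ (Subgroup.mul_mem _ (Subgroup.mul_mem _ (Ym_mem_Spn hzo hz ho _)
    (Ym_mem_Spn hzo.symm ho hz _)) (Ym_mem_Spn hzo hz ho _)) (Ym_mem_Spn hzo.symm ho hz _)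

/-- the unitriangular symplectic group is generated by its root elements -/
theorem UU_le_of_roots (C : Subgroup SLn)
    (hZ : ∀ i : Fin (2 * m), (i : ℕ) < m → ∀ c : K, (Zl i c : SLn) ∈ C)
    (hP : ∀ (i j : Fin (2 * m)) (hi : (i : ℕ) < m) (hj : (j : ℕ) < m), i < j →
      ∀ c : K, (Yp i j (ne_rev_of_lt hi hj) c : SLn) ∈ C)
    (hM : ∀ (i j : Fin (2 * m)) (hij : i < j), (j : ℕ) < m →
      ∀ c : K, (Ym i j (ne_of_lt hij) c : SLn) ∈ C) :
    (UU : Subgroup SLn) ≤ C := by
  have main : ∀ d k : ℕ, k + d = m → ∀ x ∈ (UU : Subgroup SLn),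
      (∀ a b : Fin (2 * m), (a : ℕ) < k → x.1 a b = (1 : Mn) a b) → x ∈ C := by
    intro d
    induction d with
    | zero =>
      intro k hk x hx hrows
      have hxT := (mem_UU.mp hx).1
      have hxS : IsSp x := (mem_UU.mp hx).2
      have hx1 : x = 1 := by
        apply Subtype.ext
        ext a b
        rw [Matrix.SpecialLinearGroup.coe_one]
        by_cases ha : (a : ℕ) < k
        · exact hrows a b ha
        · by_cases hb : (b : ℕ) < k
          · have hba : b < a := by rw [Fin.lt_def]; omega
            rw [(mem_UT.mp hxT).1 a b hba, Matrix.one_apply_ne (ne_of_gt hba)]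
          · have h1 := col_of_row hxS (a := b.rev)
              (fun k' => hrows b.rev k' (by rw [Fin.val_rev]; have := b.2; omega)) a
            rwa [Fin.rev_rev] at h1
      rw [hx1]
      exact C.one_mem
    | succ d ih =>
      intro k hk x hx hrows
      have hkm : k < m := by omega
      obtain ⟨r, hr⟩ : ∃ r : Fin (2 * m), (r : ℕ) = k := ⟨⟨k, by omega⟩, rfl⟩
      have hrm : (r : ℕ) < m := by omega
      have inner : ∀ t : ℕ, t ≤ 2 * m → ∃ v ∈ C, v ∈ (UU : Subgroup SLn) ∧
          (∀ a b : Fin (2 * m), (a : ℕ) < k → (x * v).1 a b = (1 : Mn) a b) ∧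
          ∀ b : Fin (2 * m), r < b → (b : ℕ) < t → (x * v).1 r b = 0 := by
        intro t
        induction t with
        | zero =>
          intro _
          refine ⟨1, C.one_mem, Subgroup.one_mem _, ?_, ?_⟩
          · rw [mul_one]
            exact hrows
          · intro b _ h
            exact absurd h (Nat.not_lt_zero _)
        | succ t iht =>
          intro ht
          obtain ⟨v, hvC, hvU, hrows', hclr⟩ := iht (by omega)
          obtain ⟨c, hc⟩ : ∃ c : Fin (2 * m), (c : ℕ) = t := ⟨⟨t, by omega⟩, rfl⟩
          have hxvU : x * v ∈ (UU : Subgroup SLn) := Subgroup.mul_mem _ hx hvU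
          have hxvT := (mem_UU.mp hxvU).1
          have hxvS : IsSp (x * v) := (mem_UU.mp hxvU).2
          have hrr : (x * v).1 r r = 1 := (mem_UT.mp hxvT).2 r
          have hrowr : ∀ a : Fin (2 * m), (a : ℕ) < k → (x * v).1 a r = 0 := by
            intro a ha
            rw [hrows' a r ha, Matrix.one_apply_ne]
            intro h
            rw [h] at ha
            omega
          by_cases hcr : r < c
          swap
          · refine ⟨v, hvC, hvU, hrows', ?_⟩
            intro b hrb hbt
            exfalso
            rw [Fin.lt_def] at hrb hcr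
            omega
          have hcr_nat : (r : ℕ) < (c : ℕ) := by rw [Fin.lt_def] at hcr; exact hcr
          by_cases hcrev : c = r.rev
          · obtain ⟨y, hy⟩ : ∃ y : K, y = (x * v).1 r c := ⟨_, rfl⟩
            refine ⟨v * Zl r (-y), Subgroup.mul_mem _ hvC (hZ r hrm _),
              Subgroup.mul_mem _ hvU (Zl_mem_UU hrm _), ?_, ?_⟩
            · intro a b ha
              unfold Zl
              rw [← mul_assoc, mul_tv_apply, hrowr a ha, mul_zero, ite_self, add_zero]
              exact hrows' a b ha
            · intro b hrb hbt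
              unfold Zl
              rw [← mul_assoc, mul_tv_apply, hrr, mul_one]
              by_cases hbc : b = c
              · rw [hbc, if_pos hcrev, ← hy]
                ring
              · rw [if_neg (fun h => hbc (h.trans hcrev.symm)), add_zero]
                apply hclr b hrb
                have : (b : ℕ) ≠ (c : ℕ) := fun h => hbc (Fin.ext h)
                omega
          by_cases hcm : (c : ℕ) < m
          · obtain ⟨y, hy⟩ : ∃ y : K, y = (x * v).1 r c := ⟨_, rfl⟩
            have e1 : x * (v * Ym r c (ne_of_lt hcr) (-y)) =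
                x * v * tv r c (ne_of_lt hcr) (-y) *
                  tv c.rev r.rev (fun h => (ne_of_lt hcr) (Fin.rev_inj.mp h).symm) (- -y) := by
              unfold Ym
              simp only [mul_assoc]
            refine ⟨v * Ym r c (ne_of_lt hcr) (-y), Subgroup.mul_mem _ hvC (hM r c hcr hcm _),
              Subgroup.mul_mem _ hvU (Ym_mem_UU hcr hcm _), ?_, ?_⟩
            · intro a b ha
              have hac : a ≠ c.rev := by
                intro h
                have h2 := congrArg Fin.val h
                rw [Fin.val_rev] at h2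
                omega
              rw [e1]
              simp only [mul_tv_apply, hrowr a ha, mul_zero, ite_self, add_zero,
                hrows' a c.rev ha, Matrix.one_apply_ne hac]
              exact hrows' a b ha
            · intro b hrb hbt
              have hbr : b ≠ r.rev := by
                intro h
                have h2 := congrArg Fin.val h
                rw [Fin.val_rev] at h2
                omega
              rw [e1, mul_tv_apply, if_neg hbr, add_zero, mul_tv_apply, hrr, mul_one]
              by_cases hbc : b = c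
              · rw [hbc, if_pos rfl, ← hy]
                ring
              · rw [if_neg hbc, add_zero]
                apply hclr b hrb
                have : (b : ℕ) ≠ (c : ℕ) := fun h => hbc (Fin.ext h)
                omega
          by_cases hclt : c < r.rev
          · obtain ⟨j, hj⟩ : ∃ j : Fin (2 * m), j.rev = c := ⟨c.rev, Fin.rev_rev c⟩
            subst hj
            have hjm : (j : ℕ) < m := by
              rw [Fin.val_rev] at hcm
              have := j.2
              omega
            have hrj : r < j := by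
              have h3 := Fin.rev_lt_rev.mp hclt
              exact h3
            have hrj_nat : (r : ℕ) < (j : ℕ) := by rw [Fin.lt_def] at hrj; exact hrj
            obtain ⟨y, hy⟩ : ∃ y : K, y = (x * v).1 r j.rev := ⟨_, rfl⟩
            have e1 : x * (v * Yp r j (ne_rev_of_lt hrm hjm) (-y)) =
                x * v * tv r j.rev (ne_rev_of_lt hrm hjm) (-y) *
                  tv j r.rev (ne_rev_of_lt hjm hrm) (-y) := by
              unfold Yp
              simp only [mul_assoc]
            refine ⟨v * Yp r j (ne_rev_of_lt hrm hjm) (-y),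
              Subgroup.mul_mem _ hvC (hP r j hrm hjm hrj _),
              Subgroup.mul_mem _ hvU (Yp_mem_UU hrm hjm _), ?_, ?_⟩
            · intro a b ha
              have haj : a ≠ j := by
                intro h
                rw [h] at ha
                omega
              rw [e1]
              simp only [mul_tv_apply, hrowr a ha, mul_zero, ite_self, add_zero,
                hrows' a j ha, Matrix.one_apply_ne haj]
              exact hrows' a b ha
            · intro b hrb hbt
              have hbr : b ≠ r.rev := by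
                intro h
                have h2 := congrArg Fin.val h
                rw [Fin.val_rev] at h2 hc
                omega
              rw [e1, mul_tv_apply, if_neg hbr, add_zero, mul_tv_apply, hrr, mul_one]
              by_cases hbc : b = j.rev
              · rw [hbc, if_pos rfl, ← hy]
                ring
              · rw [if_neg hbc, add_zero]
                apply hclr b hrb
                have : (b : ℕ) ≠ (j.rev : ℕ) := fun h => hbc (Fin.ext h)
                omega
          · refine ⟨v, hvC, hvU, hrows', ?_⟩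
            intro b hrb hbt
            by_cases hbc : b = c
            · rw [hbc]
              have hlt : r.rev < c := lt_of_le_of_ne (not_lt.mp hclt) (Ne.symm hcrev)
              have hck : (c.rev : ℕ) < k := by
                rw [Fin.lt_def, Fin.val_rev] at hlt
                rw [Fin.val_rev]
                have := c.2
                omega
              have h1 := col_of_row hxvS (a := c.rev) (fun k' => hrows' c.rev k' hck) r
              rw [Fin.rev_rev] at h1
              rw [h1, Matrix.one_apply_ne (ne_of_lt hcr)]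
            · apply hclr b hrb
              have : (b : ℕ) ≠ (c : ℕ) := fun h => hbc (Fin.ext h)
              omega
      obtain ⟨v, hvC, hvU, hrows', hclr⟩ := inner (2 * m) le_rfl
      have hxvU : x * v ∈ (UU : Subgroup SLn) := Subgroup.mul_mem _ hx hvU
      have hxv : x * v ∈ C := by
        apply ih (k + 1) (by omega) (x * v) hxvU
        intro a b ha
        by_cases hak : (a : ℕ) < k
        · exact hrows' a b hak
        · have har : a = r := Fin.ext (by omega)
          rw [har]
          rcases lt_trichotomy b r with h | h | h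
          · rw [(mem_UT.mp (mem_UU.mp hxvU).1).1 r b h, Matrix.one_apply_ne (ne_of_gt h)]
          · rw [h, (mem_UT.mp (mem_UU.mp hxvU).1).2 r, Matrix.one_apply_eq]
          · rw [hclr b h b.2, Matrix.one_apply_ne (ne_of_lt h)]
      have he : x = x * v * v⁻¹ := by group
      rw [he]
      exact Subgroup.mul_mem _ hxv (Subgroup.inv_mem _ hvC)
  intro x hx
  exact main m 0 (by omega) x hx (fun a b ha => absurd ha (Nat.not_lt_zero _))

end Cfsg.Agent.Lib.Helper2.SpFus
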