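import Mathlib
import Cfsg.Agent.Lib.Helper2.SpFus4

set_option autoImplicit false

/-! Strongly closed subgroups of the unitriangular symplectic group. -/

namespace Cfsg.Agent.Lib.Helper2.SpFus

open Matrix Cfsg.Agent.Lib.Helper2.UniTri

variable {K : Type*} [Field K] [Fintype K] {m : ℕ}

local notation "SLn" => Matrix.SpecialLinearGroup (Fin (2 * m)) K
local notation "Mn" => Matrix (Fin (2 * m)) (Fin (2 * m)) K

theorem exists_sq_sub_sq (d : K) : ∃ s t : K, d = s * s - t * t := by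
  by_cases h2 : (2 : K) = 0
  · have hch : ringChar K = 2 :=
      CharP.ringChar_of_prime_eq_zero Nat.prime_two (by exact_mod_cast h2)
    obtain ⟨r, hr⟩ := FiniteField.isSquare_of_char_two hch d
    exact ⟨r, 0, by rw [hr]; ring⟩
  · refine ⟨(d + 1) / 2, (d - 1) / 2, ?_⟩
    field_simp
    ring

theorem hl_conj_form {z o : Fin (2 * m)} (hzo : z ≠ o) (hz : (z : ℕ) < m) (ho : (o : ℕ) < m)
    (s : K) (hs : s ≠ 0) (a b : K) :
    hl o s * (Zl z a * Yp z o (ne_rev_of_lt hz ho) b) * (hl o s)⁻¹ =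
      (Zl z a * Yp z o (ne_rev_of_lt hz ho) (s * b) : SLn) := by
  rw [mul_inv_eq_iff_eq_mul]
  apply Subtype.ext
  rw [mul_val _ _ (hl_val o s hs) (mul_val _ _ (Zl_val z a) (Yp_val z o _ b)),
    mul_val _ _ (mul_val _ _ (Zl_val z a) (Yp_val z o _ (s * b))) (hl_val o s hs)]
  simp only [Matrix.add_mul, Matrix.mul_add, Matrix.smul_mul, Matrix.mul_smul, E_mul_E,
    hzo, hzo.symm, ne_rev z, rev_ne z, ne_rev o, rev_ne o, ne_rev_of_lt hz ho,
    (ne_rev_of_lt hz ho).symm, ne_rev_of_lt ho hz, (ne_rev_of_lt ho hz).symm,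
    rev_ne_rev hzo, rev_ne_rev hzo.symm, if_false, if_true, eq_self_iff_true, smul_zero, add_zero,
    zero_add]
  match_scalars <;> field_simp <;> ring

theorem hl_conj_Zl (z : Fin (2 * m)) (s : K) (hs : s ≠ 0) (a : K) :
    hl z s * Zl z a * (hl z s)⁻¹ = (Zl z (a * s * s) : SLn) := by
  rw [mul_inv_eq_iff_eq_mul]
  apply Subtype.ext
  rw [mul_val _ _ (hl_val z s hs) (Zl_val z a), mul_val _ _ (Zl_val z (a * s * s)) (hl_val z s hs)]
  simp only [Matrix.add_mul, Matrix.mul_add, Matrix.smul_mul, Matrix.mul_smul, E_mul_E,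
    ne_rev z, rev_ne z, if_false, if_true, eq_self_iff_true, smul_zero, add_zero, zero_add]
  match_scalars <;> field_simp <;> ring

/-- the shape of a central element of the unitriangular symplectic group -/
theorem central_form (hm : 2 ≤ m) {z o : Fin (2 * m)} (hz : (z : ℕ) = 0) (ho : (o : ℕ) = 1)
    {t : SLn} (ht : t ∈ (UU : Subgroup SLn))
    (hcen : ∀ u ∈ (UU : Subgroup SLn), u * t = t * u) :
    ∃ a b : K, b + b = 0 ∧ t.1 = 1 + (a • E z z.rev + (b • E z o.rev + b • E o z.rev)) := by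
  have hz' : (z : ℕ) < m := by omega
  have ho' : (o : ℕ) < m := by omega
  have hzo : z ≠ o := by
    intro h
    rw [h] at hz
    omega
  obtain ⟨htT, htS⟩ := mem_UU.mp ht
  have hQm : IsQm t := mem_Qm.mp (Qm_selfCentralizing htT (fun r hr =>
    (hcen r (mem_UU.mpr ⟨Qm_le_UT (Subgroup.mem_inf.mp hr).1, (Subgroup.mem_inf.mp hr).2⟩)).symm))
  have hQ1 : IsQ1 z t := mem_Q1.mp (Q1_selfCentralizing hz (by omega) htT (fun r hr =>
    (hcen r (mem_UU.mpr ⟨Q1_le_UT hz (Subgroup.mem_inf.mp hr).1,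
      (Subgroup.mem_inf.mp hr).2⟩)).symm))
  have hb' : ∀ j : Fin (2 * m), 2 ≤ (j : ℕ) → (j : ℕ) < m → t.1 j z.rev = 0 := by
    intro j hj2 hjm
    have hoj : o < j := by rw [Fin.lt_def]; omega
    have hmem : Ym o j (ne_of_lt hoj) 1 ∈ (UU : Subgroup SLn) := Ym_mem_UU hoj hjm 1
    have hcm := (hcen _ hmem).symm
    have h := row_extract (ne_of_lt hoj) _ (-1) hcm (b := z.rev) (rev_ne_rev hzo)
      (ne_rev_of_lt ho' hjm) (ne_rev j)
    rw [h, if_neg (ne_rev_of_lt hjm hz').symm]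
  have hb'' : t.1 o z.rev = - t.1 z o.rev := by
    have hzo' : z < o := by rw [Fin.lt_def]; omega
    have hmem : Ym z o hzo 1 ∈ (UU : Subgroup SLn) := Ym_mem_UU hzo' ho' 1
    have hcm := hcen _ hmem
    have h3 := congrArg (fun y : SLn => y.1 z z.rev) hcm
    have hL : (Ym z o hzo 1 * t).1 z z.rev = t.1 z z.rev + t.1 o z.rev := by
      unfold Ym
      rw [mul_assoc, tv_mul_apply, if_pos rfl, one_mul, tv_mul_apply,
        if_neg (ne_rev_of_lt hz' ho'), add_zero, tv_mul_apply, if_neg (ne_rev o), add_zero]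
    have hR : (t * Ym z o hzo 1).1 z z.rev = t.1 z z.rev + -1 * t.1 z o.rev := by
      unfold Ym
      rw [← mul_assoc, mul_tv_apply, if_pos rfl, mul_tv_apply,
        if_neg (ne_rev_of_lt ho' hz').symm, add_zero, mul_tv_apply, if_neg (rev_ne o), add_zero]
    have h4 : t.1 z z.rev + t.1 o z.rev = t.1 z z.rev + -1 * t.1 z o.rev := by
      rw [← hL, ← hR]
      exact h3
    linear_combination h4
  have hc : ∀ j : Fin (2 * m), z ≠ j → (j : ℕ) < m → t.1 z j.rev = t.1 j z.rev := by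
    intro j hzj hjm
    have h1 := congrFun (congrFun htS z) j
    rw [form_apply, Om_apply, if_neg (ne_rev_of_lt hjm hz'),
      Finset.sum_eq_add j z.rev (ne_rev_of_lt hjm hz')] at h1
    · rw [Fin.rev_rev, (mem_UT.mp htT).2 j, (mem_UT.mp htT).2 z, sg_rev, sg_of_lt hjm,
        sg_of_lt hz'] at h1
      linear_combination -h1
    · intro k _ hk
      rw [hQ1.1 j k (Ne.symm hzj) hk.2, Matrix.one_apply_ne (Ne.symm hk.1), mul_zero]
    · intro h
      exact absurd (Finset.mem_univ _) h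
    · intro h
      exact absurd (Finset.mem_univ _) h
  have hob : t.1 o z.rev = t.1 z o.rev := (hc o hzo ho').symm
  have hbb : t.1 z o.rev + t.1 z o.rev = 0 := by
    have h5 := hb''
    rw [hob] at h5
    linear_combination h5
  have hzj0 : ∀ j : Fin (2 * m), 2 ≤ (j : ℕ) → (j : ℕ) < m → t.1 z j.rev = 0 := by
    intro j h2 hjm
    have hzj : z ≠ j := by
      intro h
      rw [← h] at h2
      omega
    rw [hc j hzj hjm, hb' j h2 hjm]
  refine ⟨t.1 z z.rev, t.1 z o.rev, hbb, ?_⟩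
  ext r s
  simp only [Matrix.add_apply, Matrix.smul_apply, E_apply, smul_eq_mul]
  by_cases hblk : (r : ℕ) < m ∧ m ≤ (s : ℕ)
  swap
  · have n1 : ¬ (z = r ∧ z.rev = s) := fun h => hblk
      ⟨by rw [← h.1]; exact hz', by rw [← h.2, Fin.val_rev]; omega⟩
    have n2 : ¬ (z = r ∧ o.rev = s) := fun h => hblk
      ⟨by rw [← h.1]; exact hz', by rw [← h.2, Fin.val_rev]; omega⟩
    have n3 : ¬ (o = r ∧ z.rev = s) := fun h => hblk
      ⟨by rw [← h.1]; exact ho', by rw [← h.2, Fin.val_rev]; omega⟩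
    rw [hQm r s hblk, if_neg n1, if_neg n2, if_neg n3]
    ring
  · obtain ⟨hrm, hsm⟩ := hblk
    by_cases hrz : r = z
    · rw [hrz]
      obtain ⟨j, hj⟩ : ∃ j : Fin (2 * m), j.rev = s := ⟨s.rev, Fin.rev_rev s⟩
      subst hj
      have hjm : (j : ℕ) < m := by
        rw [Fin.val_rev] at hsm
        have := j.2
        omega
      by_cases hjz : j = z
      · rw [hjz, if_pos ⟨rfl, rfl⟩, if_neg (fun h => hzo (Fin.rev_inj.mp h.2).symm),
          if_neg (fun h => hzo h.1.symm), Matrix.one_apply_ne (ne_rev z)]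
        ring
      · by_cases hjo : j = o
        · rw [hjo, if_neg (fun h => hzo (Fin.rev_inj.mp h.2)), if_pos ⟨rfl, rfl⟩,
            if_neg (fun h => hzo h.1.symm), Matrix.one_apply_ne (ne_rev_of_lt hz' ho')]
          ring
        · have hj2 : 2 ≤ (j : ℕ) := by
            have h1 : (j : ℕ) ≠ (z : ℕ) := fun h => hjz (Fin.ext h)
            have h2 : (j : ℕ) ≠ (o : ℕ) := fun h => hjo (Fin.ext h)
            omega
          rw [hzj0 j hj2 hjm, if_neg (fun h => hjz (Fin.rev_inj.mp h.2).symm),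
            if_neg (fun h => hjo (Fin.rev_inj.mp h.2).symm), if_neg (fun h => hzo h.1.symm),
            Matrix.one_apply_ne (ne_rev_of_lt hz' hjm)]
          ring
    · by_cases hsz : s = z.rev
      · rw [hsz]
        by_cases hro : r = o
        · rw [hro, hob, if_neg (fun h => hzo h.1), if_neg (fun h => hzo h.1), if_pos ⟨rfl, rfl⟩,
            Matrix.one_apply_ne (ne_rev_of_lt ho' hz')]
          ring
        · have hr2 : 2 ≤ (r : ℕ) := by
            have h1 : (r : ℕ) ≠ (z : ℕ) := fun h => hrz (Fin.ext h)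
            have h2 : (r : ℕ) ≠ (o : ℕ) := fun h => hro (Fin.ext h)
            omega
          rw [hb' r hr2 hrm, if_neg (fun h => hrz h.1.symm), if_neg (fun h => hrz h.1.symm),
            if_neg (fun h => hro h.1.symm), Matrix.one_apply_ne (ne_rev_of_lt hrm hz')]
          ring
      · rw [hQ1.1 r s hrz hsz, if_neg (fun h => hrz h.1.symm), if_neg (fun h => hrz h.1.symm),
          if_neg (fun h => hsz h.2.symm)]
        ring

end Cfsg.Agent.Lib.Helper2.SpFus
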