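import Mathlib
import Cfsg.Agent.Lib.Helper2.SpFus5

set_option autoImplicit false

/-! A nontrivial strongly closed subgroup of the unitriangular symplectic group is everything. -/

namespace Cfsg.Agent.Lib.Helper2.SpFus

open Matrix Cfsg.Agent.Lib.Helper2.UniTri

variable {K : Type*} [Field K] [Fintype K] {m : ℕ}

local notation "SLn" => Matrix.SpecialLinearGroup (Fin (2 * m)) K
local notation "Mn" => Matrix (Fin (2 * m)) (Fin (2 * m)) K

theorem exists_ne_zero_ne_one (h3 : 3 ≤ Fintype.card K) : ∃ s : K, s ≠ 0 ∧ s ≠ 1 := by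
  classical
  by_contra hno
  have hsub : (Finset.univ : Finset K) ⊆ {0, 1} := by
    intro s _
    by_contra hs
    apply hno
    refine ⟨s, fun h => hs (by rw [h]; simp), fun h => hs (by rw [h]; simp)⟩
  have h1 := Finset.card_le_card hsub
  have h2 : ({0, 1} : Finset K).card ≤ 2 := Finset.card_le_two
  rw [Finset.card_univ] at h1
  omega

theorem UU_closed_eq (p : ℕ) [Fact p.Prime] [CharP K p] (hm : 2 ≤ m)
    (hex : m = 2 → 3 ≤ Fintype.card K)
    (T : Subgroup SLn) (hTU : T ≤ UU) (hT1 : T ≠ ⊥)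
    (hcl : ∀ t ∈ T, ∀ x ∈ (Spn : Subgroup SLn), x * t * x⁻¹ ∈ (UU : Subgroup SLn) →
      x * t * x⁻¹ ∈ T) :
    T = UU := by
  haveI : NeZero (2 * m) := ⟨by omega⟩
  have hUp : IsPGroup p ↥(UU : Subgroup SLn) := (UT_isPGroup p).to_le inf_le_left
  haveI : Group.IsNilpotent ↥(UU : Subgroup SLn) := hUp.isNilpotent
  have hclU : ∀ t ∈ T, ∀ u ∈ (UU : Subgroup SLn), u * t * u⁻¹ ∈ T := by
    intro t ht u hu
    exact hcl t ht u (mem_UU.mp hu).2
      (Subgroup.mul_mem _ (Subgroup.mul_mem _ hu (hTU ht)) (Subgroup.inv_mem _ hu))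
  haveI hnorm : (T.subgroupOf (UU : Subgroup SLn)).Normal := by
    constructor
    intro t ht u
    rw [Subgroup.mem_subgroupOf] at ht ⊢
    exact hclU t.1 ht u.1 u.2
  have hne : T.subgroupOf (UU : Subgroup SLn) ≠ ⊥ := by
    intro h0
    apply hT1
    rw [Subgroup.eq_bot_iff_forall]
    intro t ht
    have h2 : (⟨t, hTU ht⟩ : ↥(UU : Subgroup SLn)) ∈ T.subgroupOf (UU : Subgroup SLn) := by
      rw [Subgroup.mem_subgroupOf]
      exact ht
    rw [h0, Subgroup.mem_bot] at h2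
    exact congrArg Subtype.val h2
  have h1 := Cfsg.Agent.Lib.Helper1.normal_inf_center_ne_bot
    (T.subgroupOf (UU : Subgroup SLn)) hne
  have hex' : ∃ t ∈ T, t ≠ 1 ∧ ∀ u ∈ (UU : Subgroup SLn), u * t = t * u := by
    by_contra hno
    apply h1
    rw [Subgroup.eq_bot_iff_forall]
    intro w hw
    obtain ⟨hwT, hwZ⟩ := Subgroup.mem_inf.mp hw
    by_contra hw1
    apply hno
    refine ⟨w.1, Subgroup.mem_subgroupOf.mp hwT, fun h => hw1 (Subtype.ext h), ?_⟩
    intro u hu
    have h2 := Subgroup.mem_center_iff.mp hwZ ⟨u, hu⟩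
    exact congrArg Subtype.val h2
  obtain ⟨t₀, ht₀T, ht₀1, hcen⟩ := hex'
  obtain ⟨z, hzdef⟩ : ∃ z : Fin (2 * m), z = ⟨0, by omega⟩ := ⟨_, rfl⟩
  obtain ⟨o, hodef⟩ : ∃ o : Fin (2 * m), o = ⟨1, by omega⟩ := ⟨_, rfl⟩
  have hz : (z : ℕ) = 0 := by rw [hzdef]
  have ho : (o : ℕ) = 1 := by rw [hodef]
  have hz' : (z : ℕ) < m := by omega
  have ho' : (o : ℕ) < m := by omega
  have hzo : z ≠ o := by
    intro h
    rw [h] at hz
    omega
  have hzlt : ∀ j : Fin (2 * m), z ≠ j → z < j := by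
    intro j hj
    rw [Fin.lt_def, hz]
    have : (j : ℕ) ≠ 0 := fun h => hj (Fin.ext (by rw [hz, h]))
    omega
  obtain ⟨a₀, b₀, hbb, hform⟩ := central_form hm hz ho (hTU ht₀T) hcen
  have ht0 : t₀ = Zl z a₀ * Yp z o (ne_rev_of_lt hz' ho') b₀ := by
    have hAB : (a₀ • E z z.rev : Mn) * (b₀ • E z o.rev + b₀ • E o z.rev) = 0 := by
      simp only [Matrix.mul_add, Matrix.smul_mul, Matrix.mul_smul, E_mul_E,
        rev_ne z, (ne_rev_of_lt ho' hz').symm, if_false, smul_zero, add_zero]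
    apply Subtype.ext
    rw [mul_val _ _ (Zl_val z a₀) (Yp_val z o _ b₀), hform, hAB, add_zero]
  -- a long root element in `T`
  have hS2 : ∃ a : K, a ≠ 0 ∧ (Zl z a : SLn) ∈ T := by
    by_cases hb0 : b₀ = 0
    · refine ⟨a₀, ?_, ?_⟩
      · intro ha
        apply ht₀1
        rw [ht0, ha, hb0, Zl_zero, Yp_zero, mul_one]
      · have h : t₀ = Zl z a₀ := by rw [ht0, hb0, Yp_zero, mul_one]
        rw [← h]
        exact ht₀T
    · have hshort : ∃ j : Fin (2 * m), ∃ (_ : z ≠ j) (hj : (j : ℕ) < m), ∃ b' : K, b' ≠ 0 ∧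
          (Yp z j (ne_rev_of_lt hz' hj) b' : SLn) ∈ T := by
        by_cases hm3 : 3 ≤ m
        · obtain ⟨k, hkdef⟩ : ∃ k : Fin (2 * m), k = ⟨2, by omega⟩ := ⟨_, rfl⟩
          have hk : (k : ℕ) = 2 := by rw [hkdef]
          have hk' : (k : ℕ) < m := by omega
          have hzk : z ≠ k := by
            intro h
            rw [h] at hz
            omega
          have hok : o ≠ k := by
            intro h
            rw [h] at ho
            omega
          refine ⟨k, hzk, hk', b₀, hb0, ?_⟩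
          have hJ := J7 hzo hzk hok hz' ho' hk' a₀ b₀
          rw [← ht0] at hJ
          have hmem : Ym k o hok.symm 1 * t₀ * (Ym k o hok.symm 1)⁻¹ ∈ T := by
            apply hcl t₀ ht₀T _ (Ym_mem_Spn hok.symm hk' ho' 1)
            rw [hJ]
            exact Subgroup.mul_mem _ (hTU ht₀T) (Yp_mem_UU hz' hk' b₀)
          rw [hJ] at hmem
          have h5 := Subgroup.mul_mem _ (Subgroup.inv_mem _ ht₀T) hmem
          rw [inv_mul_cancel_left] at h5
          exact h5
        · have hm2 : m = 2 := by omega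
          obtain ⟨s, hs0, hs1⟩ := exists_ne_zero_ne_one (hex hm2)
          refine ⟨o, hzo, ho', -b₀ + s * b₀, ?_, ?_⟩
          · intro h
            have h6 : (s - 1) * b₀ = 0 := by linear_combination h
            rcases mul_eq_zero.mp h6 with h7 | h7
            · exact hs1 (by linear_combination h7)
            · exact hb0 h7
          · have hJ := hl_conj_form hzo hz' ho' s hs0 a₀ b₀
            have h3 : t₀⁻¹ * (Zl z a₀ * Yp z o (ne_rev_of_lt hz' ho') (s * b₀)) =
                Yp z o (ne_rev_of_lt hz' ho') (-b₀ + s * b₀) := by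
              rw [ht0, _root_.mul_inv_rev, mul_assoc, inv_mul_cancel_left, Yp_inv, Yp_mul]
            rw [← ht0] at hJ
            have hmem : hl o s * t₀ * (hl o s)⁻¹ ∈ T := by
              apply hcl t₀ ht₀T _ (hl_mem_Spn o s)
              rw [hJ]
              exact Subgroup.mul_mem _ (Zl_mem_UU hz' a₀) (Yp_mem_UU hz' ho' (s * b₀))
            rw [hJ] at hmem
            have h2 := Subgroup.mul_mem _ (Subgroup.inv_mem _ ht₀T) hmem
            rw [h3] at h2
            exact h2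
      obtain ⟨j, hzj, hj, b', hb', hYT⟩ := hshort
      refine ⟨b' * b', mul_ne_zero hb' hb', ?_⟩
      have hzj' : z < j := hzlt j hzj
      obtain ⟨r, hrdef⟩ : ∃ r : SLn,
        r = Zn j 1 * Yp z j (ne_rev_of_lt hz' hj) b' * (Zn j 1)⁻¹ := ⟨_, rfl⟩
      have hJ3 := J3 hzj hz' hj 1 b'
      have hrT : r ∈ T := by
        rw [hrdef]
        apply hcl _ hYT _ (Zn_mem_Spn j 1)
        rw [hJ3]
        exact Subgroup.mul_mem _ (Subgroup.mul_mem _ (Ym_mem_UU hzj' hj _)
          (Yp_mem_UU hz' hj b')) (Zl_mem_UU hz' _)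
      have hK1 := K1 hzj hz' hj b'
      rw [← hrdef] at hK1
      have h4 : Zl j 1 * r * (Zl j 1)⁻¹ ∈ T := hclU r hrT _ (Zl_mem_UU hj 1)
      rw [hK1] at h4
      have h5 := Subgroup.mul_mem _ (Subgroup.inv_mem _ hrT) h4
      rw [inv_mul_cancel_left] at h5
      have h6 := Subgroup.mul_mem _ (Subgroup.inv_mem _ hYT) h5
      rw [inv_mul_cancel_left] at h6
      exact h6
  obtain ⟨a, ha0, haT⟩ := hS2
  have hsq : ∀ s : K, (Zl z (a * s * s) : SLn) ∈ T := by
    intro s
    by_cases hs : s = 0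
    · have h0 : a * s * s = 0 := by rw [hs]; ring
      rw [h0, Zl_zero]
      exact T.one_mem
    · have h := hl_conj_Zl z s hs a
      rw [← h]
      apply hcl _ haT _ (hl_mem_Spn z s)
      rw [h]
      exact Zl_mem_UU hz' _
  have hZz : ∀ d : K, (Zl z d : SLn) ∈ T := by
    intro d
    obtain ⟨s, t, hst⟩ := exists_sq_sub_sq (d / a)
    have hd : d = a * s * s + -(a * t * t) := by
      have h1 : d = a * (d / a) := by field_simp
      calc d = a * (d / a) := h1
        _ = a * (s * s - t * t) := by rw [hst]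
        _ = a * s * s + -(a * t * t) := by ring
    rw [hd, ← Zl_mul, ← Zl_inv]
    exact Subgroup.mul_mem _ (hsq s) (Subgroup.inv_mem _ (hsq t))
  have hZ : ∀ j : Fin (2 * m), (j : ℕ) < m → ∀ d : K, (Zl j d : SLn) ∈ T := by
    intro j hj d
    by_cases hzj : z = j
    · rw [← hzj]
      exact hZz d
    · have h := J1 hzj hz' hj d
      rw [← h]
      apply hcl _ (hZz d) _ (Subgroup.mul_mem _ (Ym_mem_Spn hzj hz' hj (-1))
        (Ym_mem_Spn (Ne.symm hzj) hj hz' 1))
      rw [h]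
      exact Zl_mem_UU hj d
  have hP : ∀ (i j : Fin (2 * m)) (hi : (i : ℕ) < m) (hj : (j : ℕ) < m), i < j →
      ∀ c : K, (Yp i j (ne_rev_of_lt hi hj) c : SLn) ∈ T := by
    intro i j hi hj hij c
    have h := J2 (ne_of_lt hij) hi hj 1 c
    have h1 : Ym i j (ne_of_lt hij) 1 * Zl j c * (Ym i j (ne_of_lt hij) 1)⁻¹ ∈ T :=
      hclU _ (hZ j hj c) _ (Ym_mem_UU hij hj 1)
    rw [h] at h1
    have h2 := Subgroup.mul_mem _ h1 (Subgroup.inv_mem _ (hZ i hi (1 * 1 * c)))
    rw [mul_inv_cancel_right] at h2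
    have h3 := Subgroup.mul_mem _ (Subgroup.inv_mem _ (hZ j hj c)) h2
    rw [inv_mul_cancel_left, one_mul] at h3
    exact h3
  have hM : ∀ (i j : Fin (2 * m)) (hij : i < j), (j : ℕ) < m →
      ∀ c : K, (Ym i j (ne_of_lt hij) c : SLn) ∈ T := by
    intro i j hij hj c
    have hi : (i : ℕ) < m := by
      rw [Fin.lt_def] at hij
      omega
    have h := J3 (ne_of_lt hij) hi hj (-1) c
    have hc' : -(-1 * c) = c := by ring
    rw [hc'] at h
    have h1 : Zn j (-1) * Yp i j (ne_rev_of_lt hi hj) c * (Zn j (-1))⁻¹ ∈ T := by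
      apply hcl _ (hP i j hi hj hij c) _ (Zn_mem_Spn j (-1))
      rw [h]
      exact Subgroup.mul_mem _ (Subgroup.mul_mem _ (Ym_mem_UU hij hj c) (Yp_mem_UU hi hj c))
        (Zl_mem_UU hi _)
    rw [h] at h1
    have h2 := Subgroup.mul_mem _ h1 (Subgroup.inv_mem _ (hZ i hi (-1 * c * c)))
    rw [mul_inv_cancel_right] at h2
    have h3 := Subgroup.mul_mem _ h2 (Subgroup.inv_mem _ (hP i j hi hj hij c))
    rw [mul_inv_cancel_right] at h3
    exact h3
  exact le_antisymm hTU (UU_le_of_roots T hZ hP hM)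

end Cfsg.Agent.Lib.Helper2.SpFus
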