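import Mathlib
import Cfsg.Agent.Lib.Helper2.SpFus6
import Cfsg.Agent.Lib.Helper5.SympGen

set_option autoImplicit false

/-! Comparison of the symplectic group for the antidiagonal form with the symplectic group of
Mathlib. -/

namespace Cfsg.Agent.Lib.Helper2.SpFus

open Matrix Cfsg Cfsg.Agent.Lib.Helper2.UniTri

variable {K : Type*} [Field K] [Fintype K] {m : ℕ}

local notation "SLn" => Matrix.SpecialLinearGroup (Fin (2 * m)) K
local notation "Mn" => Matrix (Fin (2 * m)) (Fin (2 * m)) K
local notation "Ms" => Matrix (Fin m ⊕ Fin m) (Fin m ⊕ Fin m) K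

/-- low index -/
def ilo (i : Fin m) : Fin (2 * m) := ⟨i, by have := i.2; omega⟩

/-- high index -/
def ihi (i : Fin m) : Fin (2 * m) := ⟨2 * m - 1 - i, by have := i.2; omega⟩

theorem ilo_val (i : Fin m) : ((ilo i : Fin (2 * m)) : ℕ) = i := rfl

theorem ihi_val (i : Fin m) : ((ihi i : Fin (2 * m)) : ℕ) = 2 * m - 1 - i := rfl

/-- the index bijection, forward direction -/
def efun (a : Fin (2 * m)) : Fin m ⊕ Fin m :=
  if h : (a : ℕ) < m then Sum.inr ⟨a, h⟩
  else Sum.inl ⟨2 * m - 1 - a, by have := a.2; omega⟩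

theorem efun_of_lt {a : Fin (2 * m)} (h : (a : ℕ) < m) : efun a = Sum.inr ⟨a, h⟩ := dif_pos h

theorem efun_of_ge {a : Fin (2 * m)} (h : ¬ (a : ℕ) < m) :
    efun a = Sum.inl ⟨2 * m - 1 - a, by have := a.2; omega⟩ := dif_neg h

theorem efun_ilo (i : Fin m) : efun (ilo i) = Sum.inr i := by
  have h : ((ilo i : Fin (2 * m)) : ℕ) < m := i.2
  rw [efun_of_lt h]
  rfl

theorem efun_ihi (i : Fin m) : efun (ihi i) = Sum.inl i := by
  have hi := i.2
  have h : ¬ ((ihi i : Fin (2 * m)) : ℕ) < m := by
    rw [ihi_val]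
    omega
  rw [efun_of_ge h]
  refine congrArg Sum.inl (Fin.ext ?_)
  show 2 * m - 1 - (2 * m - 1 - (i : ℕ)) = (i : ℕ)
  omega

theorem elim_efun (a : Fin (2 * m)) : Sum.elim ihi ilo (efun a) = a := by
  by_cases h : (a : ℕ) < m
  · rw [efun_of_lt h]
    rfl
  · rw [efun_of_ge h]
    apply Fin.ext
    show 2 * m - 1 - (2 * m - 1 - (a : ℕ)) = (a : ℕ)
    have := a.2
    omega

/-- the index bijection -/
def eqv (m : ℕ) : Fin (2 * m) ≃ Fin m ⊕ Fin m where
  toFun := efun
  invFun := Sum.elim ihi ilo
  left_inv := elim_efun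
  right_inv := by
    intro s
    rcases s with i | i
    · exact efun_ihi i
    · exact efun_ilo i

/-- reindexing of matrices -/
def rx (X : Mn) : Ms := X.submatrix (eqv m).symm (eqv m).symm

/-- reindexing of matrices, backwards -/
def rxi (A : Ms) : Mn := A.submatrix (eqv m) (eqv m)

omit [Fintype K] in
theorem rx_mul (X Y : Mn) : rx (X * Y) = rx X * rx Y :=
  (Matrix.submatrix_mul_equiv X Y _ _ _).symm

omit [Fintype K] in
theorem rx_one : rx (1 : Mn) = 1 := Matrix.submatrix_one_equiv _

omit [Fintype K] in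
theorem rx_transpose (X : Mn) : rx Xᵀ = (rx X)ᵀ := rfl

omit [Fintype K] in
theorem rx_injective : Function.Injective (rx : Mn → Ms) := by
  intro X Y h
  ext a b
  have h1 := congrFun (congrFun h (eqv m a)) (eqv m b)
  simp only [rx, Matrix.submatrix_apply, Equiv.symm_apply_apply] at h1
  exact h1

omit [Fintype K] in
theorem rx_rxi (A : Ms) : rx (rxi A) = A := by
  ext s t
  simp only [rx, rxi, Matrix.submatrix_apply, Equiv.apply_symm_apply]

omit [Fintype K] in
theorem det_rxi (A : Ms) : (rxi A).det = A.det := Matrix.det_submatrix_equiv_self _ _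

omit [Fintype K] in
theorem rx_apply (X : Mn) (s t : Fin m ⊕ Fin m) :
    rx X s t = X (Sum.elim ihi ilo s) (Sum.elim ihi ilo t) := rfl

omit [Fintype K] in
theorem rx_Om : rx (Om : Mn) = Matrix.J (Fin m) K := by
  ext s t
  rw [rx_apply, Om_apply]
  unfold Matrix.J
  rcases s with i | i <;> rcases t with j | j
  · rw [Sum.elim_inl, Sum.elim_inl, Matrix.fromBlocks_apply₁₁, Matrix.zero_apply, if_neg]
    intro h
    have h1 := congrArg Fin.val h
    rw [Fin.val_rev, ihi_val, ihi_val] at h1
    have := i.2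
    have := j.2
    omega
  · rw [Sum.elim_inl, Sum.elim_inr, Matrix.fromBlocks_apply₁₂, Matrix.neg_apply]
    have hnot : ¬ ((ihi i : Fin (2 * m)) : ℕ) < m := by
      rw [ihi_val]
      have := i.2
      omega
    by_cases hij : i = j
    · subst hij
      have h1 : ilo i = (ihi i : Fin (2 * m)).rev := by
        apply Fin.ext
        rw [Fin.val_rev, ihi_val, ilo_val]
        have := i.2
        omega
      rw [if_pos h1, Matrix.one_apply_eq]
      unfold sg
      rw [if_neg hnot]
    · have h1 : ¬ (ilo j = (ihi i : Fin (2 * m)).rev) := by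
        intro h
        apply hij
        have h2 := congrArg Fin.val h
        rw [Fin.val_rev, ihi_val, ilo_val] at h2
        apply Fin.ext
        have := i.2
        have := j.2
        omega
      rw [if_neg h1, Matrix.one_apply_ne hij, neg_zero]
  · rw [Sum.elim_inr, Sum.elim_inl, Matrix.fromBlocks_apply₂₁]
    have hlt : ((ilo i : Fin (2 * m)) : ℕ) < m := i.2
    by_cases hij : i = j
    · subst hij
      have h1 : ihi i = (ilo i : Fin (2 * m)).rev := by
        apply Fin.ext
        rw [Fin.val_rev, ihi_val, ilo_val]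
        have := i.2
        omega
      rw [if_pos h1, Matrix.one_apply_eq, sg_of_lt hlt]
    · have h1 : ¬ (ihi j = (ilo i : Fin (2 * m)).rev) := by
        intro h
        apply hij
        have h2 := congrArg Fin.val h
        rw [Fin.val_rev, ihi_val, ilo_val] at h2
        apply Fin.ext
        have := i.2
        have := j.2
        omega
      rw [if_neg h1, Matrix.one_apply_ne hij]
  · rw [Sum.elim_inr, Sum.elim_inr, Matrix.fromBlocks_apply₂₂, Matrix.zero_apply, if_neg]
    intro h
    have h1 := congrArg Fin.val h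
    rw [Fin.val_rev, ilo_val, ilo_val] at h1
    have := i.2
    have := j.2
    omega

omit [Fintype K] in
theorem sympTransvection_det (v : Fin m ⊕ Fin m → K) (c : K) :
    (sympTransvection m v c).det = 1 := by
  have h0 : (Matrix.J (Fin m) K *ᵥ v) ⬝ᵥ v = 0 := by
    rw [dotProduct_comm]
    exact Cfsg.Agent.Lib.Helper5.SympTv.sympForm_self m v
  unfold sympTransvection
  rw [← Matrix.smul_vecMulVec, Matrix.vecMulVec_eq Unit,
    Matrix.det_one_add_replicateCol_mul_replicateRow, dotProduct_smul, h0, smul_zero, add_zero]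

omit [Fintype K] in
/-- symplectic matrices have determinant one -/
theorem symp_det_eq_one (A : Matrix.symplecticGroup (Fin m) K) : (A : Ms).det = 1 := by
  have h : A ∈ Subgroup.closure (Cfsg.Agent.Lib.Helper5.SympTv.tvSet K m) := by
    rw [Cfsg.Agent.Lib.Helper5.SympGen.closure_tvSet_eq_top]
    exact Subgroup.mem_top A
  induction h using Subgroup.closure_induction with
  | mem x hx =>
    obtain ⟨w, c, hw⟩ := hx
    rw [hw]
    exact sympTransvection_det w c
  | one => exact Matrix.det_one
  | mul x y _ _ hx hy =>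
    show ((x : Ms) * (y : Ms)).det = 1
    rw [Matrix.det_mul, hx, hy, one_mul]
  | inv x _ hx =>
    have h1 : ((x⁻¹ : Matrix.symplecticGroup (Fin m) K) : Ms) * (x : Ms) = 1 := by
      have h2 : x⁻¹ * x = 1 := inv_mul_cancel x
      exact congrArg Subtype.val h2
    have h3 := congrArg Matrix.det h1
    rw [Matrix.det_mul, hx, mul_one, Matrix.det_one] at h3
    exact h3

/-- the comparison homomorphism -/
def phi : ↥(Spn : Subgroup SLn) →* Matrix.symplecticGroup (Fin m) K where
  toFun x := ⟨rx x.1.1, by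
    rw [SymplecticGroup.mem_iff, ← rx_Om, ← rx_transpose, ← rx_mul, ← rx_mul]
    exact congrArg rx (mem_Spn.mp x.2)⟩
  map_one' := Subtype.ext rx_one
  map_mul' x y := Subtype.ext (rx_mul _ _)

theorem phi_injective : Function.Injective (phi : ↥(Spn : Subgroup SLn) → _) := by
  intro x y h
  apply Subtype.ext
  apply Subtype.ext
  exact rx_injective (congrArg Subtype.val h)

theorem phi_surjective : Function.Surjective (phi : ↥(Spn : Subgroup SLn) → _) := by
  intro A
  have hdet : (rxi A.1 : Mn).det = 1 := by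
    rw [det_rxi]
    exact symp_det_eq_one A
  have hsp : IsSp (⟨rxi A.1, hdet⟩ : SLn) := by
    show (rxi A.1 : Mn) * Om * (rxi A.1 : Mn)ᵀ = Om
    apply rx_injective
    rw [rx_mul, rx_mul, rx_transpose, rx_rxi, rx_Om]
    exact SymplecticGroup.mem_iff.mp A.2
  exact ⟨⟨⟨rxi A.1, hdet⟩, hsp⟩, Subtype.ext (rx_rxi A.1)⟩

/-- coprimality argument -/
theorem eq_one_of_pow_eq_one (p : ℕ) [Fact p.Prime] [CharP K p] {G : Type*} [Group G] {x : G}
    {j : ℕ} (h1 : x ^ p ^ j = 1) (h2 : x ^ (Fintype.card K - 1) = 1) : x = 1 := by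
  have hp : p.Prime := Fact.out
  have hcop : Nat.Coprime (p ^ j) (Fintype.card K - 1) := by
    apply Nat.Coprime.pow_left
    rw [Nat.Prime.coprime_iff_not_dvd hp]
    intro h
    obtain ⟨f, -, hf⟩ := FiniteField.card K p
    have hpq : p ∣ Fintype.card K := by rw [hf]; exact dvd_pow_self p f.ne_zero
    have hq1 : 1 < Fintype.card K := Fintype.one_lt_card
    have h5 : p ∣ (Fintype.card K - 1) + 1 := by
      rw [Nat.sub_add_cancel hq1.le]
      exact hpq
    have h3 := (Nat.dvd_add_right h).mp h5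
    exact hp.one_lt.ne' (Nat.dvd_one.mp h3)
  have h3 := orderOf_dvd_of_pow_eq_one h1
  have h4 := orderOf_dvd_of_pow_eq_one h2
  have h5 := Nat.dvd_gcd h3 h4
  rw [Nat.Coprime.gcd_eq_one hcop, Nat.dvd_one] at h5
  exact orderOf_eq_one_iff.mp h5

/-- a central element of `p`-power order in the symplectic group is trivial -/
theorem central_p_trivial (p : ℕ) [Fact p.Prime] [CharP K p] {z : SLn}
    (hc : ∀ g ∈ (Spn : Subgroup SLn), g * z = z * g) (k : ℕ) (hk : z ^ p ^ k = 1) : z = 1 := by
  have hd : z ∈ (DD : Subgroup SLn) := by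
    rw [mem_DD]
    intro a b hab
    have h1 := hc _ (Zn_mem_Spn a 1)
    exact Matrix.row_eq_zero_of_commute_single
      (commute_single_of_commute_tv (rev_ne a) h1) (Ne.symm hab)
  exact eq_one_of_pow_eq_one p hk (DD_pow hd)

end Cfsg.Agent.Lib.Helper2.SpFus
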