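import Mathlib
import Cfsg.Agent.Lib.Helper2.ImpB
set_option autoImplicit false
set_option maxHeartbeats 1000000
set_option linter.unusedVariables false
set_option linter.unusedSectionVars false
set_option linter.style.longLine false
set_option linter.unusedSimpArgs false
set_option linter.deprecated false
set_option linter.style.haveILetI false

/-! Imprimitive decompositions (part F): semisimple elements with prescribed fixed space, and
counting decompositions (the number of ordered decompositions into `t` subspaces of dimension `a`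
is divisible by `t!` and divides `|GL_n(q)|`). -/

namespace Cfsg.Agent.Lib.Helper2.Imp

open Module Polynomial Cfsg.Agent.Lib.Helper2

universe u v

section Constr

variable {F : Type u} [Field F] [Fintype F]

theorem exists_ss_map' {p f₀ : ℕ} [hp : Fact p.Prime] (hq : Fintype.card F = p ^ f₀) (r : ℕ)
    [hr : Fact r.Prime] (hrp : r ≠ p) (n k l : ℕ)
    (hi2 : 2 ≤ orderOf ((Fintype.card F : ℕ) : ZMod r))
    (hnkl : n = k + orderOf ((Fintype.card F : ℕ) : ZMod r) * l) :
    ∃ y : Module.End F (Fin n → F), y ^ r = 1 ∧ finrank F (LinearMap.ker (y - 1)) = k := by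
  classical
  have hcop : p.Coprime r := (Nat.coprime_primes hp.out hr.out).mpr (Ne.symm hrp)
  have hnu : ¬ IsUnit (cyclotomic r F) := by
    intro h
    have h1 := natDegree_eq_zero_of_isUnit h
    rw [natDegree_cyclotomic, Nat.totient_prime hr.out] at h1
    have := hr.out.two_le
    omega
  obtain ⟨h, hirr, hdvd⟩ := WfDvdMonoid.exists_irreducible_factor hnu (cyclotomic_ne_zero r F)
  have hdeg : h.natDegree = orderOf ((Fintype.card F : ℕ) : ZMod r) := by
    rw [natDegree_of_dvd_cyclotomic_of_irreducible hq hcop hdvd hirr, ← orderOf_units,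
      ZMod.coe_unitOfCoprime, hq]
  haveI : Fact (Irreducible h) := ⟨hirr⟩
  have hh0 : h ≠ 0 := hirr.ne_zero
  haveI : Module.Finite F (AdjoinRoot h) := (AdjoinRoot.powerBasis hh0).finite
  have hfinE : finrank F (AdjoinRoot h) = orderOf ((Fintype.card F : ℕ) : ZMod r) := by
    rw [(AdjoinRoot.powerBasis hh0).finrank, AdjoinRoot.powerBasis_dim, hdeg]
  have hζr : (AdjoinRoot.root h) ^ r = 1 := by
    have h1 : h ∣ X ^ r - 1 := by
      rw [← cyclotomic_prime_mul_X_sub_one F r]
      exact Dvd.dvd.mul_right hdvd _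
    have h2 := AdjoinRoot.mk_eq_zero.mpr h1
    rw [← AdjoinRoot.aeval_eq] at h2
    simpa [sub_eq_zero] using h2
  have hζ1 : AdjoinRoot.root h ≠ 1 := by
    intro h1
    have h2 : AdjoinRoot.mk h (X - C 1) = 0 := by
      rw [← AdjoinRoot.aeval_eq]
      simp [h1]
    have h3 := AdjoinRoot.mk_eq_zero.mp h2
    have h4 := natDegree_le_of_dvd h3 (X_sub_C_ne_zero 1)
    rw [natDegree_X_sub_C, hdeg] at h4
    omega
  set i := orderOf ((Fintype.card F : ℕ) : ZMod r) with hi
  let y₀ : Module.End F ((Fin k → F) × (Fin l → AdjoinRoot h)) :=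
    LinearMap.prodMap LinearMap.id
      (DistribMulAction.toLinearMap F (Fin l → AdjoinRoot h) (AdjoinRoot.root h))
  have hy₀ : ∀ (m : ℕ) (v : (Fin k → F) × (Fin l → AdjoinRoot h)),
      (y₀ ^ m) v = (v.1, (AdjoinRoot.root h) ^ m • v.2) := by
    intro m
    induction m with
    | zero =>
      intro v
      simp
    | succ m ih =>
      intro v
      rw [pow_succ', Module.End.mul_apply, ih, pow_succ', mul_smul]
      rfl
  have hker : ∀ v : (Fin k → F) × (Fin l → AdjoinRoot h),
      v ∈ LinearMap.ker (y₀ - 1) ↔ v.2 = 0 := by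
    intro v
    rw [Elus.mem_ker_sub_one]
    constructor
    · intro hv
      have h1 : (AdjoinRoot.root h) • v.2 = v.2 := congrArg Prod.snd hv
      have h2 : (AdjoinRoot.root h - 1) • v.2 = 0 := by
        rw [sub_smul, one_smul, h1, sub_self]
      funext j
      have h3 := congrFun h2 j
      simp only [Pi.smul_apply, smul_eq_mul, Pi.zero_apply] at h3
      rcases mul_eq_zero.mp h3 with h4 | h4
      · exact absurd (sub_eq_zero.mp h4) hζ1
      · exact h4
    · intro hv
      apply Prod.ext
      · rfl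
      · show (AdjoinRoot.root h) • v.2 = v.2
        rw [hv, smul_zero]
  let eK : LinearMap.ker (y₀ - 1) ≃ₗ[F] (Fin k → F) :=
    { toFun := fun v => v.1.1
      map_add' := fun a b => rfl
      map_smul' := fun a b => rfl
      invFun := fun a => ⟨(a, 0), (hker _).mpr rfl⟩
      left_inv := fun v => by
        apply Subtype.ext
        apply Prod.ext
        · rfl
        · exact ((hker _).mp v.2).symm
      right_inv := fun a => rfl }
  have hkfin : finrank F (LinearMap.ker (y₀ - 1)) = k := by
    rw [LinearEquiv.finrank_eq eK, Module.finrank_fin_fun]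
  have hfin : finrank F ((Fin k → F) × (Fin l → AdjoinRoot h)) =
      finrank F (Fin n → F) := by
    rw [Module.finrank_prod, Module.finrank_fin_fun, Module.finrank_pi_fintype, Finset.sum_const,
      Finset.card_univ, Fintype.card_fin, smul_eq_mul, hfinE, Module.finrank_fin_fun, mul_comm]
    exact hnkl.symm
  let e : ((Fin k → F) × (Fin l → AdjoinRoot h)) ≃ₗ[F] (Fin n → F) :=
    LinearEquiv.ofFinrankEq _ _ hfin
  refine ⟨e.toLinearMap ∘ₗ y₀ ∘ₗ e.symm.toLinearMap, ?_, ?_⟩
  · apply LinearMap.ext
    intro v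
    rw [Elus.conj_pow, hy₀, hζr, one_smul]
    simp
  · have hkery : LinearMap.ker ((e.toLinearMap ∘ₗ y₀ ∘ₗ e.symm.toLinearMap : Module.End F _) - 1) =
        (LinearMap.ker (y₀ - 1)).map (e : _ →ₗ[F] _) := by
      ext v
      rw [Submodule.mem_map_equiv, Elus.mem_ker_sub_one, Elus.mem_ker_sub_one]
      show e (y₀ (e.symm v)) = v ↔ y₀ (e.symm v) = e.symm v
      rw [LinearEquiv.eq_symm_apply]
    rw [hkery, LinearEquiv.finrank_map_eq, hkfin]

end Constr

section Count

variable {F : Type u} [Field F] {V : Type v} [AddCommGroup V] [Module F V] [FiniteDimensional F V]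

/-- `D` is a direct decomposition of `V` into subspaces of dimension `a` -/
def IsDec (a : ℕ) {t : ℕ} (D : Fin t → Submodule F V) : Prop :=
  (∀ j, finrank F (D j) = a) ∧ iSupIndep D ∧ iSup D = ⊤

theorem IsDec.perm {a t : ℕ} {D : Fin t → Submodule F V} (h : IsDec a D)
    (τ : Equiv.Perm (Fin t)) : IsDec a (fun j => D (τ j)) :=
  ⟨fun j => h.1 _, h.2.1.comp τ.injective, by
    rw [← h.2.2]
    exact τ.iSup_comp (g := D)⟩

theorem IsDec.map {a t : ℕ} {D : Fin t → Submodule F V} (h : IsDec a D) (g : V ≃ₗ[F] V) :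
    IsDec a (fun j => (D j).map (g : V →ₗ[F] V)) := by
  refine ⟨fun j => ?_, ?_, ?_⟩
  · rw [LinearEquiv.finrank_map_eq]
    exact h.1 j
  · exact h.2.1.map_orderIso (Submodule.orderIsoMapComap g)
  · rw [← Submodule.map_iSup, h.2.2, Submodule.map_top, LinearEquiv.range]

theorem IsDec.injective {a t : ℕ} (ha : 1 ≤ a) {D : Fin t → Submodule F V} (h : IsDec a D) :
    Function.Injective D := by
  apply h.2.1.injective
  intro j hj
  have := h.1 j
  rw [hj, finrank_bot] at this
  omega

theorem IsDec.trans {a t : ℕ} {D D' : Fin t → Submodule F V} (h : IsDec a D) (h' : IsDec a D') :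
    ∃ g : V ≃ₗ[F] V, ∀ j, (D j).map (g : V →ₗ[F] V) = D' j := by
  classical
  have hint := DirectSum.isInternal_submodule_of_iSupIndep_of_iSup_eq_top h.2.1 h.2.2
  have hint' := DirectSum.isInternal_submodule_of_iSupIndep_of_iSup_eq_top h'.2.1 h'.2.2
  let β : ∀ j, Basis (Fin a) F (D j) := fun j => Module.finBasisOfFinrankEq F (D j) (h.1 j)
  let β' : ∀ j, Basis (Fin a) F (D' j) := fun j => Module.finBasisOfFinrankEq F (D' j) (h'.1 j)
  let B := hint.collectedBasis β
  let B' := hint'.collectedBasis β'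
  let g : V ≃ₗ[F] V := B.equiv B' (Equiv.refl _)
  have hB : ∀ j l, B ⟨j, l⟩ = ((β j l : D j) : V) := by
    intro j l
    simp only [B, DirectSum.IsInternal.collectedBasis_coe]
  have hB' : ∀ j l, B' ⟨j, l⟩ = ((β' j l : D' j) : V) := by
    intro j l
    simp only [B', DirectSum.IsInternal.collectedBasis_coe]
  have hg : ∀ j l, g ((β j l : D j) : V) = ((β' j l : D' j) : V) := by
    intro j l
    rw [← hB, ← hB']
    exact Basis.equiv_apply B ⟨j, l⟩ B' (Equiv.refl _)
  have hspan : ∀ j, Submodule.span F (Set.range (fun l => ((β j l : D j) : V))) = D j := by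
    intro j
    have h1 : (fun l => ((β j l : D j) : V)) = (D j).subtype ∘ (β j) := rfl
    rw [h1, Set.range_comp, ← Submodule.map_span, (β j).span_eq, Submodule.map_subtype_top]
  have hspan' : ∀ j, Submodule.span F (Set.range (fun l => ((β' j l : D' j) : V))) = D' j := by
    intro j
    have h1 : (fun l => ((β' j l : D' j) : V)) = (D' j).subtype ∘ (β' j) := rfl
    rw [h1, Set.range_comp, ← Submodule.map_span, (β' j).span_eq, Submodule.map_subtype_top]
  refine ⟨g, fun j => ?_⟩
  conv_lhs => rw [← hspan j]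
  rw [Submodule.map_span, ← Set.range_comp, ← hspan' j]
  congr 2
  funext l
  exact hg j l

/-- the action of `S_t` on ordered decompositions -/
noncomputable def permAction (a t : ℕ) :
    MulAction (Equiv.Perm (Fin t)) {D : Fin t → Submodule F V // IsDec a D} where
  smul τ D := ⟨fun j => D.1 (τ⁻¹ j), D.2.perm τ⁻¹⟩
  one_smul D := by
    apply Subtype.ext
    funext j
    show D.1 ((1 : Equiv.Perm (Fin t))⁻¹ j) = D.1 j
    rw [inv_one]
    rfl
  mul_smul τ₁ τ₂ D := by
    apply Subtype.ext
    funext j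
    show D.1 ((τ₁ * τ₂)⁻¹ j) = D.1 (τ₂⁻¹ (τ₁⁻¹ j))
    rw [mul_inv_rev]
    rfl

/-- the action of `GL(V)` on families of subspaces -/
noncomputable def mapAction (t : ℕ) : MulAction (V ≃ₗ[F] V) (Fin t → Submodule F V) where
  smul g D := fun j => (D j).map (g : V →ₗ[F] V)
  one_smul D := by
    funext j
    show (D j).map ((1 : V ≃ₗ[F] V) : V →ₗ[F] V) = D j
    exact Submodule.map_id _
  mul_smul g h D := by
    funext j
    show (D j).map ((g * h : V ≃ₗ[F] V) : V →ₗ[F] V) =
      ((D j).map (h : V →ₗ[F] V)).map (g : V →ₗ[F] V)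
    rw [← Submodule.map_comp]
    rfl

variable [Fintype F]

theorem finite_submodule : Finite (Submodule F V) := by
  haveI : Finite V := Module.finite_of_finite F
  exact Finite.of_injective (fun p : Submodule F V => (p : Set V)) SetLike.coe_injective

theorem factorial_dvd_card (a t : ℕ) (ha : 1 ≤ a) :
    Nat.factorial t ∣ Nat.card {D : Fin t → Submodule F V // IsDec a D} := by
  classical
  haveI : Finite (Submodule F V) := finite_submodule
  letI := permAction (F := F) (V := V) a t
  haveI : Fintype {D : Fin t → Submodule F V // IsDec a D} := Fintype.ofFinite _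
  haveI : Fintype (Quotient (MulAction.orbitRel (Equiv.Perm (Fin t))
    {D : Fin t → Submodule F V // IsDec a D})) := Fintype.ofFinite _
  haveI : ∀ b : {D : Fin t → Submodule F V // IsDec a D},
      Fintype (MulAction.stabilizer (Equiv.Perm (Fin t)) b) := fun b => Fintype.ofFinite _
  have h := MulAction.card_eq_sum_card_group_div_card_stabilizer (Equiv.Perm (Fin t))
    {D : Fin t → Submodule F V // IsDec a D}
  have hstab : ∀ b : {D : Fin t → Submodule F V // IsDec a D},
      Fintype.card (MulAction.stabilizer (Equiv.Perm (Fin t)) b) = 1 := by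
    intro b
    rw [Fintype.card_eq_one_iff]
    refine ⟨1, fun τ => ?_⟩
    apply Subtype.ext
    show (τ : Equiv.Perm (Fin t)) = 1
    have h1 : (τ : Equiv.Perm (Fin t)) • b = b := τ.2
    have h2 : ∀ j, b.1 ((τ : Equiv.Perm (Fin t))⁻¹ j) = b.1 j := by
      intro j
      exact congrFun (congrArg Subtype.val h1) j
    have h3 : (τ : Equiv.Perm (Fin t))⁻¹ = 1 := by
      apply Equiv.ext
      intro j
      exact (b.2.injective ha) (h2 j)
    exact inv_eq_one.mp h3
  simp only [hstab, Nat.div_one, Finset.sum_const, Finset.card_univ, smul_eq_mul,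
    Fintype.card_perm, Fintype.card_fin] at h
  rw [Nat.card_eq_fintype_card, h]
  exact dvd_mul_left _ _

theorem card_dvd_card_gl (a t : ℕ) (D₀ : Fin t → Submodule F V) (hD₀ : IsDec a D₀) :
    Nat.card {D : Fin t → Submodule F V // IsDec a D} ∣ Nat.card (V ≃ₗ[F] V) := by
  classical
  letI := mapAction (F := F) (V := V) t
  have hset : MulAction.orbit (V ≃ₗ[F] V) D₀ = {D | IsDec a D} := by
    ext D
    constructor
    · rintro ⟨g, rfl⟩
      exact hD₀.map g
    · intro hD
      obtain ⟨g, hg⟩ := hD₀.trans hD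
      exact ⟨g, funext hg⟩
  have h1 : Nat.card (MulAction.orbit (V ≃ₗ[F] V) D₀) =
      Nat.card {D : Fin t → Submodule F V // IsDec a D} :=
    Nat.card_congr (Equiv.setCongr hset)
  rw [← h1, Nat.card_congr (MulAction.orbitEquivQuotientStabilizer (V ≃ₗ[F] V) D₀),
    Subgroup.card_eq_card_quotient_mul_card_subgroup (MulAction.stabilizer (V ≃ₗ[F] V) D₀)]
  exact dvd_mul_right _ _

end Count

section Main

variable {F : Type u} [Field F] [Fintype F]

theorem ord_le_of_dvd_card {p : ℕ} [hp : Fact p.Prime] [CharP F p] (n a t : ℕ) (hat : n = a * t)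
    (ha : 1 ≤ a) (ht : 1 ≤ t) (r : ℕ) [hr : Fact r.Prime] (hrp : r ≠ p)
    (hΩ : r ∣ Nat.card {D : Fin t → Submodule F (Fin n → F) // IsDec a D} / Nat.factorial t) :
    orderOf ((Fintype.card F : ℕ) : ZMod r) ≤ n := by
  classical
  obtain ⟨k, -, hk⟩ := FiniteField.card F p
  have hrq : ¬ r ∣ Fintype.card F := Elus.not_dvd_card_of_ne (F := F) r hrp
  have hrF : (r : F) ≠ 0 := by
    intro h
    have h1 := (CharP.cast_eq_zero_iff F p r).mp h
    exact hrp ((Nat.prime_dvd_prime_iff_eq hp.out hr.out).mp h1).symm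
  have hfinV : finrank F (Fin n → F) = a * t := by rw [Module.finrank_fin_fun, hat]
  obtain ⟨D₀, -, h2, h3, h4⟩ := exists_split hk (1 : Module.End F (Fin n → F)) r hrp hrF
    (one_pow r) a t hfinV (by
      rw [sub_self, LinearMap.ker_zero, finrank_top, hfinV]
      exact Nat.mul_le_mul_right t (Nat.mod_le _ _))
  have hD₀ : IsDec a D₀ := ⟨h2, h3, h4⟩
  have hfac := factorial_dvd_card (F := F) (V := Fin n → F) a t ha
  have hgl := card_dvd_card_gl a t D₀ hD₀
  have hN : r ∣ Nat.card {D : Fin t → Submodule F (Fin n → F) // IsDec a D} := by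
    obtain ⟨m, hm⟩ := hfac
    rw [hm, Nat.mul_div_cancel_left _ (Nat.factorial_pos t)] at hΩ
    rw [hm]
    exact Dvd.dvd.mul_left hΩ _
  have hG : r ∣ Nat.card (GL (Fin n) F) := by
    have h5 : Nat.card (GL (Fin n) F) = Nat.card ((Fin n → F) ≃ₗ[F] (Fin n → F)) :=
      Nat.card_congr ((Matrix.GeneralLinearGroup.toLin.trans
        (LinearMap.GeneralLinearGroup.generalLinearEquiv F (Fin n → F))).toEquiv)
    rw [h5]
    exact hN.trans hgl
  rw [Matrix.card_GL_field] at hG
  obtain ⟨i, -, hi⟩ := (Prime.dvd_finset_prod_iff (Nat.Prime.prime hr.out) _).mp hG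
  have hin : (i : ℕ) < n := i.2
  have h6 : Fintype.card F ^ n - Fintype.card F ^ (i : ℕ) =
      Fintype.card F ^ (i : ℕ) * (Fintype.card F ^ (n - (i : ℕ)) - 1) := by
    rw [Nat.mul_sub, mul_one, ← pow_add, Nat.add_sub_cancel' hin.le]
  rw [h6] at hi
  have h7 : r ∣ Fintype.card F ^ (n - (i : ℕ)) - 1 := by
    rcases (Nat.Prime.dvd_mul hr.out).mp hi with h | h
    · exact absurd (hr.out.dvd_of_dvd_pow h) hrq
    · exact h
  have h8 := Elus.ord_dvd_of_dvd_sub_one r (Fintype.card F) (n - (i : ℕ)) Fintype.card_pos h7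
  have h9 := Nat.le_of_dvd (by omega) h8
  omega

end Main

end Cfsg.Agent.Lib.Helper2.Imp
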