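import Mathlib
import Cfsg.Agent.Lib.Helper2.ImpA
set_option autoImplicit false
set_option maxHeartbeats 1000000
set_option linter.unusedVariables false
set_option linter.unusedSectionVars false
set_option linter.style.longLine false
set_option linter.unusedSimpArgs false
set_option linter.deprecated false
set_option linter.style.haveILetI false

/-! Imprimitive decompositions (part C): decompositions from monomial bases; free families for
cyclic-type endomorphisms. -/

namespace Cfsg.Agent.Lib.Helper2.Imp

open Module Cfsg.Agent.Lib.Helper2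

universe u v

section Mono

variable {F : Type u} [Field F] {V : Type v} [AddCommGroup V] [Module F V] [FiniteDimensional F V]

/-- the cyclic shift on `Fin r` -/
def cshift (r : ℕ) [NeZero r] : Equiv.Perm (Fin r) := Equiv.addRight 1

theorem cshift_val (r : ℕ) [NeZero r] (i : Fin r) :
    ((cshift r i : Fin r) : ℕ) = ((i : ℕ) + 1) % r := by
  show ((i + 1 : Fin r) : ℕ) = _
  rw [Fin.val_add, Fin.val_one', Nat.add_mod_mod]

/-- a basis permuted up to scalars by `y`, grouped into blocks, gives a stabilised decomposition -/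
theorem stab_of_basis {ι ι' : Type} [Fintype ι] [DecidableEq ι] [Fintype ι'] [DecidableEq ι']
    (b : Basis ι F V) (y : Module.End F V) (σ₀ : Equiv.Perm ι) (μ : ι → F) (hμ : ∀ i, μ i ≠ 0)
    (hy : ∀ i, y (b i) = μ i • b (σ₀ i)) (π : ι → ι') (a : ℕ)
    (hfib : ∀ j, Fintype.card {i // π i = j} = a) (τ : Equiv.Perm ι')
    (hπ : ∀ i, π (σ₀ i) = τ (π i)) :
    ∃ D : ι' → Submodule F V, (∀ j, finrank F (D j) = a) ∧ iSupIndep D ∧ iSup D = ⊤ ∧
      ∀ j, (D j).map y = D (τ j) := by
  classical
  let D : ι' → Submodule F V := fun j =>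
    Submodule.span F (Set.range (fun i : {i // π i = j} => b i))
  have hDim : ∀ j, D j = Submodule.span F (b '' {i | π i = j}) := by
    intro j
    have hset : Set.range (fun i : {i // π i = j} => b i) = b '' {i | π i = j} := by
      ext v
      constructor
      · rintro ⟨⟨i, hi⟩, rfl⟩
        exact ⟨i, hi, rfl⟩
      · rintro ⟨i, hi, rfl⟩
        exact ⟨⟨i, hi⟩, rfl⟩
    show Submodule.span F (Set.range (fun i : {i // π i = j} => b i)) = _
    rw [hset]
  have hbD : ∀ i, b i ∈ D (π i) := fun i => Submodule.subset_span ⟨⟨i, rfl⟩, rfl⟩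
  refine ⟨D, ?_, ?_, ?_, ?_⟩
  · intro j
    have hli : LinearIndependent F (fun i : {i // π i = j} => b i) :=
      b.linearIndependent.comp _ Subtype.val_injective
    rw [← hfib j]
    exact finrank_span_eq_card hli
  · rw [iSupIndep_iff_finsetSum_eq_zero_imp_eq_zero]
    intro s v hv h0 j0 hj0
    have hsupp : ∀ j ∈ s, ∀ i, π i ≠ j → b.repr (v j) i = 0 := by
      intro j hj i hi
      have h1 := hv j hj
      rw [hDim j, Basis.mem_span_image] at h1
      by_contra hne
      have h2 : i ∈ (b.repr (v j)).support := Finsupp.mem_support_iff.mpr hne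
      exact hi (h1 (Finset.mem_coe.mpr h2))
    have hrepr : b.repr (v j0) = 0 := by
      ext i
      rw [Finsupp.zero_apply]
      by_cases hi : π i = j0
      · have h1 : b.repr (∑ j ∈ s, v j) i = 0 := by
          rw [h0, map_zero, Finsupp.zero_apply]
        rw [map_sum, Finsupp.finset_sum_apply, Finset.sum_eq_single j0] at h1
        · exact h1
        · intro j hj hne
          exact hsupp j hj i (by rw [hi]; exact fun h => hne h.symm)
        · intro h
          exact absurd hj0 h
      · exact hsupp j0 hj0 i hi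
    exact (LinearEquiv.map_eq_zero_iff b.repr).mp hrepr
  · rw [eq_top_iff, ← b.span_eq, Submodule.span_le]
    rintro _ ⟨i, rfl⟩
    exact (le_iSup D (π i)) (hbD i)
  · intro j
    show (Submodule.span F (Set.range (fun i : {i // π i = j} => b i))).map y = D (τ j)
    rw [Submodule.map_span]
    apply le_antisymm
    · rw [Submodule.span_le]
      rintro _ ⟨_, ⟨⟨i, hi⟩, rfl⟩, rfl⟩
      show y (b i) ∈ D (τ j)
      rw [hy]
      apply Submodule.smul_mem
      have := hbD (σ₀ i)
      rwa [hπ, hi] at this
    · show D (τ j) ≤ _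
      rw [Submodule.span_le]
      rintro _ ⟨⟨i', hi'⟩, rfl⟩
      have h1 : π (σ₀.symm i') = j := by
        apply τ.injective
        rw [← hπ, Equiv.apply_symm_apply, hi']
      have h2 : b i' = (μ (σ₀.symm i'))⁻¹ • y (b (σ₀.symm i')) := by
        rw [hy, Equiv.apply_symm_apply, smul_smul, inv_mul_cancel₀ (hμ _), one_smul]
      show b i' ∈ Submodule.span F _
      rw [h2]
      apply Submodule.smul_mem
      exact Submodule.subset_span ⟨b (σ₀.symm i'), ⟨⟨σ₀.symm i', h1⟩, rfl⟩, rfl⟩

theorem stab_reindex {ι' : Type} [Fintype ι'] {a t : ℕ} (hcard : Fintype.card ι' = t)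
    {y : Module.End F V}
    (h : ∃ D : ι' → Submodule F V, (∀ j, finrank F (D j) = a) ∧ iSupIndep D ∧ iSup D = ⊤ ∧
      ∃ τ : Equiv.Perm ι', ∀ j, (D j).map y = D (τ j)) : Stab a t y := by
  classical
  obtain ⟨D, h1, h2, h3, τ, h4⟩ := h
  let e : ι' ≃ Fin t := Fintype.equivFinOfCardEq hcard
  refine ⟨fun j => D (e.symm j), fun j => h1 _, h2.comp e.symm.injective, ?_,
    e.symm.trans (τ.trans e), ?_⟩
  · rw [← h3]
    exact e.symm.iSup_comp (g := D)
  · intro j
    rw [h4]
    simp

end Mono

section Free

variable {F : Type u} [Field F] {V : Type v} [AddCommGroup V] [Module F V] [FiniteDimensional F V]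

theorem inv_span {f : Module.End F V} {S : Set V}
    (h : ∀ s ∈ S, f s ∈ Submodule.span F S) : Elus.Inv f (Submodule.span F S) := by
  rw [Elus.inv_iff_map_le, Submodule.map_span, Submodule.span_le]
  rintro _ ⟨s, hs, rfl⟩
  exact h s hs

theorem cyc_inv' {f : Module.End F V} {m : ℕ} (hm : 0 < m) (u : V)
    (h : (f ^ m) u ∈ Elus.cyc f m u) : Elus.Inv f (Elus.cyc f m u) := by
  apply inv_span
  rintro _ ⟨k, rfl⟩
  show f ((f ^ (k : ℕ)) u) ∈ Elus.cyc f m u
  have h1 : f ((f ^ (k : ℕ)) u) = (f ^ ((k : ℕ) + 1)) u := by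
    rw [pow_succ', Module.End.mul_apply]
  rw [h1]
  by_cases hk : (k : ℕ) + 1 < m
  · exact Submodule.subset_span ⟨⟨(k : ℕ) + 1, hk⟩, rfl⟩
  · have h2 : (k : ℕ) + 1 = m := by
      have := k.2
      omega
    rw [h2]
    exact h

/-- free families for an endomorphism all of whose invariant subspaces (inside `W₀`) have
dimension divisible by `m` -/
theorem free_family (f : Module.End F V) (m : ℕ) (hm : 0 < m) (W₀ : Submodule F V)
    (hW₀ : Elus.Inv f W₀) (h1 : ∀ u ∈ W₀, (f ^ m) u ∈ Elus.cyc f m u)
    (h2 : ∀ B : Submodule F V, B ≤ W₀ → Elus.Inv f B → m ∣ finrank F B) :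
    ∀ d, m * d ≤ finrank F W₀ → ∃ u : Fin d → V, (∀ k, u k ∈ W₀) ∧
      LinearIndependent F (fun p : Fin d × Fin m => (f ^ (p.2 : ℕ)) (u p.1)) := by
  intro d
  induction d with
  | zero =>
    intro _
    exact ⟨fun k => k.elim0, fun k => k.elim0, linearIndependent_empty_type⟩
  | succ d ih =>
    intro hle
    obtain ⟨u, huW, hli⟩ := ih (by rw [Nat.mul_succ] at hle; omega)
    let fam : Fin d × Fin m → V := fun p => (f ^ (p.2 : ℕ)) (u p.1)
    let B : Submodule F V := Submodule.span F (Set.range fam)
    have hBW : B ≤ W₀ := by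
      rw [Submodule.span_le]
      rintro _ ⟨p, rfl⟩
      exact inv_pow' hW₀ _ _ (huW p.1)
    have hcycB : ∀ k, Elus.cyc f m (u k) ≤ B := by
      intro k
      apply Submodule.span_le.mpr
      rintro _ ⟨i, rfl⟩
      exact Submodule.subset_span ⟨(k, i), rfl⟩
    have hBinv : Elus.Inv f B := by
      apply inv_span
      rintro _ ⟨⟨k, i⟩, rfl⟩
      show f ((f ^ (i : ℕ)) (u k)) ∈ B
      have h3 : f ((f ^ (i : ℕ)) (u k)) = (f ^ ((i : ℕ) + 1)) (u k) := by
        rw [pow_succ', Module.End.mul_apply]
      rw [h3]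
      by_cases hi : (i : ℕ) + 1 < m
      · exact Submodule.subset_span ⟨(k, ⟨(i : ℕ) + 1, hi⟩), rfl⟩
      · have h4 : (i : ℕ) + 1 = m := by
          have := i.2
          omega
        rw [h4]
        exact hcycB k (h1 _ (huW k))
    have hBfin : finrank F B = m * d := by
      show finrank F (Submodule.span F (Set.range fam)) = m * d
      rw [finrank_span_eq_card hli, Fintype.card_prod, Fintype.card_fin, Fintype.card_fin,
        mul_comm]
    have hne : B ≠ W₀ := by
      intro h
      rw [h] at hBfin
      rw [Nat.mul_succ] at hle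
      omega
    obtain ⟨w, hwW, hwB⟩ := SetLike.exists_of_lt (lt_of_le_of_ne hBW hne)
    have hCinv : Elus.Inv f (Elus.cyc f m w) := cyc_inv' hm w (h1 w hwW)
    have hCW : Elus.cyc f m w ≤ W₀ := by
      apply Submodule.span_le.mpr
      rintro _ ⟨i, rfl⟩
      exact inv_pow' hW₀ _ _ hwW
    have hwC : w ∈ Elus.cyc f m w := Elus.mem_cyc f m hm w
    have hlt : B < B ⊔ Elus.cyc f m w := by
      apply lt_of_le_of_ne le_sup_left
      intro h
      apply hwB
      rw [h]
      exact Submodule.mem_sup_right hwC
    have k1 := Submodule.finrank_lt_finrank_of_lt hlt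
    have k2 := Submodule.finrank_sup_add_finrank_inf_eq B (Elus.cyc f m w)
    have k3 := Elus.finrank_cyc_le f m w
    obtain ⟨e, he⟩ := h2 _ (sup_le hBW hCW) (hBinv.sup hCinv)
    have k4 : d < e := by
      rw [hBfin, he] at k1
      exact Nat.lt_of_mul_lt_mul_left k1
    have k5 : e ≤ d + 1 := by
      have : m * e ≤ m * (d + 1) := by
        rw [Nat.mul_succ, ← he, ← hBfin]
        omega
      exact Nat.le_of_mul_le_mul_left this hm
    have k6 : e = d + 1 := by omega
    rw [he, k6, Nat.mul_succ, hBfin] at k2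
    have hCfin : finrank F (Elus.cyc f m w) = m := by omega
    have hdisj : Disjoint B (Elus.cyc f m w) := by
      rw [disjoint_iff]
      apply Submodule.finrank_eq_zero.mp
      omega
    have hliw : LinearIndependent F (fun i : Fin m => (f ^ (i : ℕ)) w) := by
      rw [linearIndependent_iff_card_eq_finrank_span, Fintype.card_fin]
      exact hCfin.symm
    refine ⟨Fin.snoc u w, ?_, ?_⟩
    · intro k
      induction k using Fin.lastCases with
      | last =>
        rw [Fin.snoc_last]
        exact hwW
      | cast k =>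
        rw [Fin.snoc_castSucc]
        exact huW k
    · rw [Fintype.linearIndependent_iff]
      intro g hg
      rw [Fintype.sum_prod_type, Fin.sum_univ_castSucc] at hg
      simp only [Fin.snoc_castSucc, Fin.snoc_last] at hg
      have hX1 : ∑ k : Fin d, ∑ i : Fin m, g (k.castSucc, i) • (f ^ (i : ℕ)) (u k) ∈ B := by
        apply Submodule.sum_mem
        intro k _
        apply Submodule.sum_mem
        intro i _
        exact Submodule.smul_mem _ _ (Submodule.subset_span ⟨(k, i), rfl⟩)
      have hX2 : ∑ i : Fin m, g (Fin.last d, i) • (f ^ (i : ℕ)) w ∈ Elus.cyc f m w := by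
        apply Submodule.sum_mem
        intro i _
        exact Submodule.smul_mem _ _ (Submodule.subset_span ⟨i, rfl⟩)
      have hX1' : ∑ k : Fin d, ∑ i : Fin m, g (k.castSucc, i) • (f ^ (i : ℕ)) (u k) = 0 := by
        apply (Submodule.disjoint_def.mp hdisj) _ hX1
        rw [eq_neg_of_add_eq_zero_left hg]
        exact Submodule.neg_mem _ hX2
      rw [hX1', zero_add] at hg
      have g1 := Fintype.linearIndependent_iff.mp hli (fun p => g (p.1.castSucc, p.2)) (by
        rw [Fintype.sum_prod_type]
        exact hX1')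
      have g2 := Fintype.linearIndependent_iff.mp hliw (fun i => g (Fin.last d, i)) hg
      rintro ⟨k, i⟩
      induction k using Fin.lastCases with
      | last => exact g2 i
      | cast k => exact g1 (k, i)

end Free

end Cfsg.Agent.Lib.Helper2.Imp
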