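import Mathlib
import Cfsg.Agent.Lib.Helper2.ImpC
set_option autoImplicit false
set_option maxHeartbeats 1000000
set_option linter.unusedVariables false
set_option linter.unusedSectionVars false
set_option linter.style.longLine false
set_option linter.unusedSimpArgs false
set_option linter.deprecated false
set_option linter.style.haveILetI false

/-! Imprimitive decompositions (part D): the two explicit constructions of stabilised
decompositions (elements with `x ^ r` a non-`r`-th power scalar; regular-type elements). -/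

namespace Cfsg.Agent.Lib.Helper2.Imp

open Module Cfsg.Agent.Lib.Helper2

universe u v

section NonPow

variable {F : Type u} [Field F] {V : Type v} [AddCommGroup V] [Module F V] [FiniteDimensional F V]

theorem stab_of_nonpow (x : Module.End F V) (r : ℕ) [hr : Fact r.Prime] (z : F)
    (hx : x ^ r = z • 1) (hz : ∀ b : F, b ^ r ≠ z) (a t : ℕ) (hn : finrank F V = a * t)
    (ha : 0 < a) (ht : 0 < t) : Stab a t x := by
  classical
  haveI : NeZero r := ⟨hr.out.ne_zero⟩
  have hrpos : 0 < r := hr.out.pos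
  have hz0 : z ≠ 0 := by
    rintro rfl
    exact hz 0 (zero_pow hr.out.ne_zero)
  have hdvdV : r ∣ finrank F V := by
    have := Elus.dvd_finrank_of_inv x r z hx hz ⊤ (fun v _ => Submodule.mem_top)
    rwa [finrank_top] at this
  obtain ⟨d, hd⟩ := hdvdV
  obtain ⟨u, -, hli⟩ := free_family x r hrpos ⊤ (fun v _ => Submodule.mem_top)
    (fun u _ => by
      rw [hx, LinearMap.smul_apply, Module.End.one_apply]
      exact Submodule.smul_mem _ _ (Elus.mem_cyc x r hrpos u))
    (fun B _ hB => Elus.dvd_finrank_of_inv x r z hx hz B hB) d (by rw [finrank_top, hd])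
  have hdpos : 0 < d := by
    rcases Nat.eq_zero_or_pos d with h | h
    · rw [h, mul_zero] at hd
      rw [hd] at hn
      have := Nat.mul_pos ha ht
      omega
    · exact h
  haveI : Nonempty (Fin d × Fin r) := ⟨(⟨0, hdpos⟩, ⟨0, hrpos⟩)⟩
  have hcard : Fintype.card (Fin d × Fin r) = finrank F V := by
    rw [Fintype.card_prod, Fintype.card_fin, Fintype.card_fin, hd, mul_comm]
  let b₀ : Basis (Fin d × Fin r) F V := basisOfLinearIndependentOfCardEqFinrank hli hcard
  have hb₀ : ∀ p, b₀ p = (x ^ (p.2 : ℕ)) (u p.1) := by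
    intro p
    simp only [b₀, coe_basisOfLinearIndependentOfCardEqFinrank]
  let μ : Fin r → F := fun i => if (i : ℕ) + 1 < r then 1 else z
  have hμ : ∀ i, μ i ≠ 0 := by
    intro i
    by_cases hi : (i : ℕ) + 1 < r
    · simp only [μ, if_pos hi]
      exact one_ne_zero
    · simp only [μ, if_neg hi]
      exact hz0
  have hxb : ∀ k i, x (b₀ (k, i)) = μ i • b₀ (k, cshift r i) := by
    intro k i
    rw [hb₀, hb₀]
    show x ((x ^ (i : ℕ)) (u k)) = μ i • (x ^ ((cshift r i : Fin r) : ℕ)) (u k)
    rw [cshift_val, ← Module.End.mul_apply, ← pow_succ']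
    by_cases hi : (i : ℕ) + 1 < r
    · simp only [μ, if_pos hi]
      rw [Nat.mod_eq_of_lt hi, one_smul]
    · have h2 : (i : ℕ) + 1 = r := by
        have := i.2
        omega
      simp only [μ, if_neg hi]
      rw [h2, Nat.mod_self, pow_zero, hx, LinearMap.smul_apply]
  have hdvd : r ∣ a * t := by
    rw [← hn, hd]
    exact dvd_mul_right _ _
  rcases (Nat.Prime.dvd_mul hr.out).mp hdvd with h | h
  · -- r ∣ a
    obtain ⟨a', ha'⟩ := h
    have hda : d = a' * t := by
      apply Nat.eq_of_mul_eq_mul_left hrpos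
      rw [← hd, hn, ha', mul_assoc]
    have hcκ : Fintype.card (Fin t × Fin a') = d := by
      rw [Fintype.card_prod, Fintype.card_fin, Fintype.card_fin, hda, mul_comm]
    let e : (Fin t × Fin a') ≃ Fin d := Fintype.equivFinOfCardEq hcκ
    let b : Basis ((Fin t × Fin a') × Fin r) F V :=
      b₀.reindex (Equiv.prodCongr e.symm (Equiv.refl _))
    have hb : ∀ k i, b (k, i) = b₀ (e k, i) := by
      intro k i
      simp only [b, Basis.reindex_apply]
      rfl
    apply stab_reindex (ι' := Fin t) (Fintype.card_fin t)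
    obtain ⟨D, h1, h2, h3, h4⟩ := stab_of_basis b x
      (Equiv.prodCongr (Equiv.refl (Fin t × Fin a')) (cshift r)) (fun p => μ p.2)
      (fun p => hμ p.2) (by
        rintro ⟨k, i⟩
        rw [hb, hxb]
        show _ = μ i • b (k, cshift r i)
        rw [hb]) (fun p => p.1.1) a (by
        intro j
        have heq : {p : (Fin t × Fin a') × Fin r // p.1.1 = j} ≃ Fin a' × Fin r :=
          { toFun := fun p => (p.1.1.2, p.1.2)
            invFun := fun q => ⟨((j, q.1), q.2), rfl⟩
            left_inv := by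
              rintro ⟨⟨⟨j', l⟩, i⟩, h⟩
              cases h
              rfl
            right_inv := fun q => rfl }
        rw [Fintype.card_congr heq, Fintype.card_prod, Fintype.card_fin, Fintype.card_fin, ha',
          mul_comm]) (Equiv.refl (Fin t)) (fun p => rfl)
    exact ⟨D, h1, h2, h3, Equiv.refl _, h4⟩
  · -- r ∣ t
    obtain ⟨t', ht'⟩ := h
    have hda : d = a * t' := by
      apply Nat.eq_of_mul_eq_mul_left hrpos
      rw [← hd, hn, ht', mul_left_comm]
    have hcκ : Fintype.card (Fin t' × Fin a) = d := by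
      rw [Fintype.card_prod, Fintype.card_fin, Fintype.card_fin, hda, mul_comm]
    let e : (Fin t' × Fin a) ≃ Fin d := Fintype.equivFinOfCardEq hcκ
    let b : Basis ((Fin t' × Fin a) × Fin r) F V :=
      b₀.reindex (Equiv.prodCongr e.symm (Equiv.refl _))
    have hb : ∀ k i, b (k, i) = b₀ (e k, i) := by
      intro k i
      simp only [b, Basis.reindex_apply]
      rfl
    have hct : Fintype.card (Fin t' × Fin r) = t := by
      rw [Fintype.card_prod, Fintype.card_fin, Fintype.card_fin, ht', mul_comm]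
    apply stab_reindex (ι' := Fin t' × Fin r) hct
    obtain ⟨D, h1, h2, h3, h4⟩ := stab_of_basis b x
      (Equiv.prodCongr (Equiv.refl (Fin t' × Fin a)) (cshift r)) (fun p => μ p.2)
      (fun p => hμ p.2) (by
        rintro ⟨k, i⟩
        rw [hb, hxb]
        show _ = μ i • b (k, cshift r i)
        rw [hb]) (fun p => (p.1.1, p.2)) a (by
        rintro ⟨g, i⟩
        have heq : {p : (Fin t' × Fin a) × Fin r // (p.1.1, p.2) = (g, i)} ≃ Fin a :=
          { toFun := fun p => p.1.1.2
            invFun := fun l => ⟨((g, l), i), rfl⟩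
            left_inv := by
              rintro ⟨⟨⟨g', l⟩, i'⟩, h⟩
              cases h
              rfl
            right_inv := fun q => rfl }
        rw [Fintype.card_congr heq, Fintype.card_fin])
      (Equiv.prodCongr (Equiv.refl (Fin t')) (cshift r)) (fun p => rfl)
    exact ⟨D, h1, h2, h3, _, h4⟩

end NonPow

section Regular

variable {F : Type u} [Field F] [Fintype F] {V : Type v} [AddCommGroup V] [Module F V]
  [FiniteDimensional F V]

omit [Fintype F] [FiniteDimensional F V] in
theorem pow_fix {y : Module.End F V} {v : V} (h : y v = v) (i : ℕ) : (y ^ i) v = v := by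
  induction i with
  | zero => rw [pow_zero, Module.End.one_apply]
  | succ i ih => rw [pow_succ', Module.End.mul_apply, ih, h]

/-- `c = r - 1`: an element of order `r` with at least as many fixed dimensions as nontrivial
irreducible constituents is monomial. -/
theorem stab_of_regular (y : Module.End F V) (r : ℕ) [hr : Fact r.Prime] (hrF : (r : F) ≠ 0)
    (hrq : ¬ r ∣ Fintype.card F) (hy : y ^ r = 1)
    (hc : orderOf ((Fintype.card F : ℕ) : ZMod r) = r - 1) (n : ℕ) (hn : finrank F V = n)
    (hle : n - finrank F (LinearMap.ker (y - 1)) ≤ (r - 1) * finrank F (LinearMap.ker (y - 1))) :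
    Stab 1 n y := by
  classical
  haveI : NeZero r := ⟨hr.out.ne_zero⟩
  have hrpos : 0 < r := hr.out.pos
  have hr2 : 2 ≤ r := hr.out.two_le
  have hTy : (∑ i ∈ Finset.range r, y ^ i) * (y - 1) = 0 := by rw [geom_sum_mul, hy, sub_self]
  have hTapp : ∀ v, (∑ i ∈ Finset.range r, y ^ i) v = ∑ i ∈ Finset.range r, (y ^ i) v := by
    intro v
    rw [LinearMap.sum_apply]
  have hTC : ∀ v ∈ LinearMap.ker (y - 1), (∑ i ∈ Finset.range r, y ^ i) v = (r : F) • v := by
    intro v hv
    rw [hTapp]
    have h1 : ∀ i ∈ Finset.range r, (y ^ i) v = v :=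
      fun i _ => pow_fix (Elus.mem_ker_sub_one.mp hv) i
    rw [Finset.sum_congr rfl h1, Finset.sum_const, Finset.card_range, Nat.cast_smul_eq_nsmul]
  have hdisj : Disjoint (LinearMap.ker (y - 1)) (LinearMap.ker (∑ i ∈ Finset.range r, y ^ i)) := by
    rw [Submodule.disjoint_def]
    intro v hv1 hv2
    rw [LinearMap.mem_ker, hTC v hv1] at hv2
    rcases smul_eq_zero.mp hv2 with h | h
    · exact absurd h hrF
    · exact h
  have hsup : LinearMap.ker (y - 1) ⊔ LinearMap.ker (∑ i ∈ Finset.range r, y ^ i) = ⊤ := by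
    rw [eq_top_iff]
    intro v _
    have hTv := geom_ker hy v
    refine Submodule.mem_sup.mpr ⟨(r : F)⁻¹ • (∑ i ∈ Finset.range r, y ^ i) v,
      Submodule.smul_mem _ _ hTv, v - (r : F)⁻¹ • (∑ i ∈ Finset.range r, y ^ i) v, ?_, by abel⟩
    rw [LinearMap.mem_ker, map_sub, map_smul, hTC _ hTv, smul_smul, inv_mul_cancel₀ hrF, one_smul,
      sub_self]
  have hsumfin : finrank F (LinearMap.ker (y - 1)) +
      finrank F (LinearMap.ker (∑ i ∈ Finset.range r, y ^ i)) = n := by
    rw [← Elus.finrank_sup_of_disjoint hdisj, hsup, finrank_top, hn]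
  have hW₀inv : Elus.Inv y (LinearMap.ker (∑ i ∈ Finset.range r, y ^ i)) := by
    intro v hv
    rw [LinearMap.mem_ker] at hv ⊢
    have h1 : (∑ i ∈ Finset.range r, y ^ i) * y = ∑ i ∈ Finset.range r, y ^ i := by
      have := hTy
      rw [mul_sub, mul_one, sub_eq_zero] at this
      exact this
    rw [← Module.End.mul_apply, h1, hv]
  have hrange : Finset.range r = Finset.range (r - 1 + 1) := by
    rw [Nat.sub_add_cancel hrpos]
  have h1 : ∀ u ∈ LinearMap.ker (∑ i ∈ Finset.range r, y ^ i),
      (y ^ (r - 1)) u ∈ Elus.cyc y (r - 1) u := by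
    intro u hu
    rw [LinearMap.mem_ker, hTapp, hrange, Finset.sum_range_succ] at hu
    have h2 : (y ^ (r - 1)) u = -(∑ i ∈ Finset.range (r - 1), (y ^ i) u) :=
      eq_neg_of_add_eq_zero_right hu
    rw [h2]
    apply Submodule.neg_mem
    apply Submodule.sum_mem
    intro i hi
    exact Submodule.subset_span ⟨⟨i, Finset.mem_range.mp hi⟩, rfl⟩
  have h2 : ∀ B : Submodule F V, B ≤ LinearMap.ker (∑ i ∈ Finset.range r, y ^ i) →
      Elus.Inv y B → (r - 1) ∣ finrank F B := by
    intro B hB hBinv
    have h3 := Elus.mod_inf_of_inv y r hy hrq B hBinv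
    have h4 : B ⊓ LinearMap.ker (y - 1) = ⊥ := by
      rw [eq_bot_iff]
      intro v hv
      exact (Submodule.disjoint_def.mp hdisj) v hv.2 (hB hv.1) ▸ Submodule.zero_mem _
    rw [h4, finrank_bot, Nat.sub_zero, hc] at h3
    exact h3
  obtain ⟨l, hl⟩ := h2 _ le_rfl hW₀inv
  obtain ⟨u, huW, hli⟩ := free_family y (r - 1) (by omega) _ hW₀inv h1 h2 l (le_of_eq hl.symm)
  have hspanW : Submodule.span F (Set.range (fun p : Fin l × Fin (r - 1) =>
      (y ^ (p.2 : ℕ)) (u p.1))) = LinearMap.ker (∑ i ∈ Finset.range r, y ^ i) := by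
    apply Submodule.eq_of_le_of_finrank_eq
    · rw [Submodule.span_le]
      rintro _ ⟨p, rfl⟩
      exact inv_pow' hW₀inv _ _ (huW p.1)
    · rw [finrank_span_eq_card hli, Fintype.card_prod, Fintype.card_fin, Fintype.card_fin, hl,
        mul_comm]
  obtain ⟨k, hk⟩ : ∃ k, finrank F (LinearMap.ker (y - 1)) = k := ⟨_, rfl⟩
  rw [hk] at hle hsumfin
  rw [hl] at hsumfin
  have hlk : l ≤ k := by
    have h3 : (r - 1) * l ≤ (r - 1) * k := by omega
    exact Nat.le_of_mul_le_mul_left h3 (by omega)
  let e : Basis (Fin k) F (LinearMap.ker (y - 1)) := Module.finBasisOfFinrankEq F _ hk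
  let ec : ℕ → V := fun i => if h : i < k then ((e ⟨i, h⟩ : LinearMap.ker (y - 1)) : V) else 0
  have hecC : ∀ i, ec i ∈ LinearMap.ker (y - 1) := by
    intro i
    by_cases h : i < k
    · simp only [ec, dif_pos h]
      exact (e ⟨i, h⟩).2
    · simp only [ec, dif_neg h]
      exact zero_mem _
  have hecfix : ∀ i, y (ec i) = ec i := fun i => Elus.mem_ker_sub_one.mp (hecC i)
  have hece : ∀ i : Fin k, ec (i : ℕ) = ((e i : LinearMap.ker (y - 1)) : V) := by
    intro i
    simp only [ec, dif_pos i.2]
  let Φ : (Fin l × Fin r) ⊕ Fin (k - l) → V :=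
    Sum.elim (fun p => (y ^ (p.2 : ℕ)) (u p.1 + ec (p.1 : ℕ))) (fun m => ec (l + (m : ℕ)))
  have hlr : l * r = (r - 1) * l + l := by
    have := Nat.succ_mul (r - 1) l
    rw [Nat.succ_eq_add_one, Nat.sub_add_cancel hrpos] at this
    rw [mul_comm, this]
  have hcard : Fintype.card ((Fin l × Fin r) ⊕ Fin (k - l)) = finrank F V := by
    rw [Fintype.card_sum, Fintype.card_prod, Fintype.card_fin, Fintype.card_fin, Fintype.card_fin,
      hn]
    omega
  have hΦl : ∀ (j : Fin l) (i : ℕ), i < r →
      (y ^ i) (u j + ec (j : ℕ)) ∈ Submodule.span F (Set.range Φ) := by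
    intro j i hi
    exact Submodule.subset_span ⟨Sum.inl (j, ⟨i, hi⟩), rfl⟩
  have hecl : ∀ j : Fin l, ec (j : ℕ) ∈ Submodule.span F (Set.range Φ) := by
    intro j
    have h3 : (∑ i ∈ Finset.range r, y ^ i) (u j + ec (j : ℕ)) ∈
        Submodule.span F (Set.range Φ) := by
      rw [hTapp]
      apply Submodule.sum_mem
      intro i hi
      exact hΦl j i (Finset.mem_range.mp hi)
    rw [map_add, LinearMap.mem_ker.mp (huW j), zero_add, hTC _ (hecC _)] at h3
    exact (Submodule.smul_mem_iff _ hrF).mp h3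
  have hec_all : ∀ i, i < k → ec i ∈ Submodule.span F (Set.range Φ) := by
    intro i hi
    by_cases hil : i < l
    · exact hecl ⟨i, hil⟩
    · have h3 : ec (l + (i - l)) ∈ Submodule.span F (Set.range Φ) :=
        Submodule.subset_span ⟨Sum.inr ⟨i - l, by omega⟩, rfl⟩
      have h4 : l + (i - l) = i := by omega
      rwa [h4] at h3
  have hCS : LinearMap.ker (y - 1) ≤ Submodule.span F (Set.range Φ) := by
    intro v hv
    have h3 := e.sum_repr ⟨v, hv⟩
    have h4 : v = ∑ i : Fin k, (e.repr ⟨v, hv⟩ i) • ((e i : LinearMap.ker (y - 1)) : V) := by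
      have := congrArg Subtype.val h3
      rw [Submodule.coe_sum] at this
      simp only [Submodule.coe_smul] at this
      exact this.symm
    rw [h4]
    apply Submodule.sum_mem
    intro i _
    apply Submodule.smul_mem
    rw [← hece i]
    exact hec_all _ i.2
  have hWS : LinearMap.ker (∑ i ∈ Finset.range r, y ^ i) ≤ Submodule.span F (Set.range Φ) := by
    rw [← hspanW, Submodule.span_le]
    rintro _ ⟨⟨j, i⟩, rfl⟩
    show (y ^ (i : ℕ)) (u j) ∈ Submodule.span F (Set.range Φ)
    have h3 : (y ^ (i : ℕ)) (u j) = (y ^ (i : ℕ)) (u j + ec (j : ℕ)) - ec (j : ℕ) := by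
      rw [map_add, pow_fix (hecfix _), add_sub_cancel_right]
    rw [h3]
    apply Submodule.sub_mem
    · exact hΦl j i (by have := i.2; omega)
    · exact hecl j
  have hspan : ⊤ ≤ Submodule.span F (Set.range Φ) := by
    rw [← hsup]
    exact sup_le hCS hWS
  let b : Basis ((Fin l × Fin r) ⊕ Fin (k - l)) F V :=
    basisOfTopLeSpanOfCardEqFinrank Φ hspan hcard
  have hb : ∀ i, b i = Φ i := by
    intro i
    simp only [b, coe_basisOfTopLeSpanOfCardEqFinrank]
  have hcard' : Fintype.card ((Fin l × Fin r) ⊕ Fin (k - l)) = n := by rw [hcard, hn]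
  apply stab_reindex hcard'
  obtain ⟨D, k1, k2, k3, k4⟩ := stab_of_basis b y
    (Equiv.sumCongr (Equiv.prodCongr (Equiv.refl (Fin l)) (cshift r)) (Equiv.refl (Fin (k - l))))
    (fun _ => 1) (fun _ => one_ne_zero) (by
      rintro (⟨j, i⟩ | m)
      · rw [hb, hb, one_smul]
        show y ((y ^ (i : ℕ)) (u j + ec (j : ℕ))) =
          (y ^ ((cshift r i : Fin r) : ℕ)) (u j + ec (j : ℕ))
        rw [cshift_val, ← pow_eq_pow_mod _ hy, pow_succ', Module.End.mul_apply]
      · rw [hb, hb, one_smul]
        show y (ec (l + (m : ℕ))) = ec (l + (m : ℕ))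
        exact hecfix _) id 1 (by
      intro j
      simp) _ (fun i => rfl)
  exact ⟨D, k1, k2, k3, _, k4⟩

end Regular

end Cfsg.Agent.Lib.Helper2.Imp
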