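import Mathlib
import Cfsg.Agent.Lib.Helper2.SpImpA
import Cfsg.Agent.Lib.Helper2.ImpD
set_option autoImplicit false
set_option maxHeartbeats 1000000
set_option linter.unusedVariables false
set_option linter.unusedSectionVars false
set_option linter.style.longLine false
set_option linter.unusedSimpArgs false
set_option linter.deprecated false
set_option linter.style.haveILetI false

/-! Imprimitive decompositions in symplectic spaces (part B): isometries of order `r`, adjoints,
the Frobenius twist, and existence of nondegenerate invariant blocks of dimension `c`. -/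

namespace Cfsg.Agent.Lib.Helper2.SpImp

open Module Polynomial Cfsg.Agent.Lib.Helper2

universe u v

section IsoSec

variable {F : Type u} [Field F] {V : Type v} [AddCommGroup V] [Module F V] [FiniteDimensional F V]
variable (B : LinearMap.BilinForm F V)

/-- isometries of the form `B` -/
def IsIsom (y : Module.End F V) : Prop := ∀ u v, B (y u) (y v) = B u v

theorem isIsom_one : IsIsom B (1 : Module.End F V) := fun u v => rfl

theorem IsIsom.pow {B : LinearMap.BilinForm F V} {y : Module.End F V} (hy : IsIsom B y) (j : ℕ) :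
    IsIsom B (y ^ j) := by
  induction j with
  | zero =>
    intro u v
    rw [pow_zero]
    rfl
  | succ j ih =>
    intro u v
    rw [pow_succ, Module.End.mul_apply, Module.End.mul_apply, ih, hy]

theorem inv_inf' {f : Module.End F V} {A C : Submodule F V} (hA : Elus.Inv f A)
    (hC : Elus.Inv f C) : Elus.Inv f (A ⊓ C) :=
  fun x hx => ⟨hA x hx.1, hC x hx.2⟩

theorem pow_pred_apply {y : Module.End F V} {r : ℕ} (hr : 0 < r) (hy : y ^ r = 1) (v : V) :
    y ((y ^ (r - 1)) v) = v := by
  have h : y * y ^ (r - 1) = 1 := by rw [← pow_succ', Nat.sub_add_cancel hr, hy]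
  rw [← Module.End.mul_apply, h, Module.End.one_apply]

theorem adj_one {y : Module.End F V} (hyB : IsIsom B y) {r : ℕ} (hr : 0 < r) (hy : y ^ r = 1)
    (u v : V) : B u (y v) = B ((y ^ (r - 1)) u) v := by
  have h := hyB ((y ^ (r - 1)) u) v
  rw [pow_pred_apply hr hy u] at h
  exact h

theorem adj_one' {y : Module.End F V} (hyB : IsIsom B y) {r : ℕ} (hr : 0 < r) (hy : y ^ r = 1)
    (u v : V) : B (y u) v = B u ((y ^ (r - 1)) v) := by
  have h := hyB u ((y ^ (r - 1)) v)
  rw [pow_pred_apply hr hy v] at h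
  exact h

theorem inv_perp {y : Module.End F V} (hyB : IsIsom B y) {r : ℕ} (hr : 0 < r) (hy : y ^ r = 1)
    {W : Submodule F V} (hW : Elus.Inv y W) : Elus.Inv y (B.orthogonal W) := by
  intro v hv
  rw [mem_perp B] at hv ⊢
  intro w hw
  rw [adj_one B hyB hr hy]
  exact hv _ (Imp.inv_pow' hW (r - 1) w hw)

theorem adj_pow {y : Module.End F V} (hyB : IsIsom B y) {r : ℕ} (hr : 0 < r) (hy : y ^ r = 1)
    (n : ℕ) : ∀ u v : V, B u ((y ^ n) v) = B (((y ^ (r - 1)) ^ n) u) v := by
  induction n with
  | zero =>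
    intro u v
    rw [pow_zero, pow_zero]
    rfl
  | succ n ih =>
    intro u v
    rw [pow_succ, Module.End.mul_apply, ih, adj_one B hyB hr hy, pow_succ' _ n,
      Module.End.mul_apply]

theorem adj_aeval {y : Module.End F V} (hyB : IsIsom B y) {r : ℕ} (hr : 0 < r) (hy : y ^ r = 1)
    (f : F[X]) (u v : V) : B u (aeval y f v) = B (aeval (y ^ (r - 1)) f u) v := by
  induction f using Polynomial.induction_on' with
  | add p q hp hq =>
    simp only [map_add, LinearMap.add_apply, hp, hq]
  | monomial n a =>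
    simp only [aeval_monomial, Module.End.mul_apply, Module.algebraMap_end_apply, map_smul,
      LinearMap.smul_apply, adj_pow B hyB hr hy n u v]

theorem inv_aeval {y : Module.End F V} {X : Submodule F V} (hX : Elus.Inv y X) (g : F[X]) :
    ∀ x ∈ X, aeval y g x ∈ X := by
  induction g using Polynomial.induction_on' with
  | add p q hp hq =>
    intro x hx
    rw [map_add, LinearMap.add_apply]
    exact X.add_mem (hp x hx) (hq x hx)
  | monomial n a =>
    intro x hx
    rw [aeval_monomial, Module.End.mul_apply, Module.algebraMap_end_apply]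
    exact X.smul_mem _ (Imp.inv_pow' hX n x hx)

theorem aeval_comm (y : Module.End F V) (g : F[X]) (v : V) :
    aeval y g (y v) = y (aeval y g v) := by
  have h1 : aeval y (g * X) = aeval y (X * g) := by rw [mul_comm]
  rw [map_mul, map_mul, aeval_X] at h1
  have h2 := congrArg (fun f : Module.End F V => f v) h1
  simp only [Module.End.mul_apply] at h2
  exact h2

theorem inv_ker_aeval (y : Module.End F V) (g : F[X]) :
    Elus.Inv y (LinearMap.ker (aeval y g)) := by
  intro v hv
  rw [LinearMap.mem_ker] at hv ⊢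
  rw [aeval_comm, hv, map_zero]

/-- a minimal invariant subspace is annihilated by an irreducible polynomial in `y` -/
theorem exists_irr_ann {y : Module.End F V} {r : ℕ} (hr : 0 < r) (hy : y ^ r = 1)
    {U : Submodule F V} (hU : Elus.Inv y U) (hU0 : U ≠ ⊥)
    (hmin : ∀ X : Submodule F V, X ≤ U → Elus.Inv y X → X = ⊥ ∨ X = U) :
    ∃ φ : F[X], Irreducible φ ∧ ∀ u ∈ U, aeval y φ u = 0 := by
  by_contra hcon
  push Not at hcon
  have key : ∀ φ : F[X], Irreducible φ → ∀ u ∈ U, aeval y φ u = 0 → u = 0 := by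
    intro φ hφ u hu h0
    have hX : Elus.Inv y (U ⊓ LinearMap.ker (aeval y φ)) := inv_inf' hU (inv_ker_aeval y φ)
    rcases hmin _ inf_le_left hX with h | h
    · have h1 : u ∈ U ⊓ LinearMap.ker (aeval y φ) := ⟨hu, LinearMap.mem_ker.mpr h0⟩
      rw [h] at h1
      exact (Submodule.mem_bot F).mp h1
    · obtain ⟨w, hw, hw0⟩ := hcon φ hφ
      have h1 : w ∈ U ⊓ LinearMap.ker (aeval y φ) := by
        rw [h]
        exact hw
      exact absurd (LinearMap.mem_ker.mp h1.2) hw0
  have all : ∀ f : F[X], f ≠ 0 → ∀ u ∈ U, aeval y f u = 0 → u = 0 := by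
    intro f
    refine UniqueFactorizationMonoid.induction_on_prime f ?_ ?_ ?_
    · intro h
      exact absurd rfl h
    · intro x hx _ u hu h0
      obtain ⟨a, ha, rfl⟩ := Polynomial.isUnit_iff.mp hx
      rw [aeval_C, Module.algebraMap_end_apply] at h0
      exact (smul_eq_zero.mp h0).resolve_left ha.ne_zero
    · intro a p ha hp ih _ u hu h0
      rw [map_mul, Module.End.mul_apply] at h0
      have h1 := key p hp.irreducible _ (inv_aeval hU a u hu) h0
      exact ih ha u hu h1
  obtain ⟨u, hu, hu0⟩ := Submodule.exists_mem_ne_zero_of_ne_bot hU0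
  apply hu0
  apply all (X ^ r - C 1) (X_pow_sub_C_ne_zero hr 1) u hu
  rw [map_sub, aeval_X_pow, aeval_C, map_one, hy, sub_self, LinearMap.zero_apply]

/-- the cyclic `F[y]`-submodule generated by `u` -/
def polySpan (y : Module.End F V) (u : V) : Submodule F V where
  carrier := {x | ∃ g : F[X], x = aeval y g u}
  zero_mem' := ⟨0, by rw [map_zero, LinearMap.zero_apply]⟩
  add_mem' := by
    rintro _ _ ⟨g, rfl⟩ ⟨h, rfl⟩
    exact ⟨g + h, by rw [map_add, LinearMap.add_apply]⟩
  smul_mem' := by
    rintro a _ ⟨g, rfl⟩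
    exact ⟨a • g, by rw [map_smul, LinearMap.smul_apply]⟩

theorem mem_polySpan {y : Module.End F V} {u x : V} :
    x ∈ polySpan y u ↔ ∃ g : F[X], x = aeval y g u := Iff.rfl

theorem mem_polySpan_self (y : Module.End F V) (u : V) : u ∈ polySpan y u :=
  ⟨1, by rw [map_one, Module.End.one_apply]⟩

theorem polySpan_inv (y : Module.End F V) (u : V) : Elus.Inv y (polySpan y u) := by
  rintro _ ⟨g, rfl⟩
  exact ⟨X * g, by rw [map_mul, aeval_X, Module.End.mul_apply]⟩

theorem polySpan_le {y : Module.End F V} {u : V} {X : Submodule F V} (hX : Elus.Inv y X)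
    (hu : u ∈ X) : polySpan y u ≤ X := by
  rintro _ ⟨g, rfl⟩
  exact inv_aeval hX g u hu

theorem polySpan_minimal {y : Module.End F V} {u : V} {φ : F[X]} (hirr : Irreducible φ)
    (hφ : aeval y φ u = 0) :
    ∀ X : Submodule F V, X ≤ polySpan y u → Elus.Inv y X → X = ⊥ ∨ X = polySpan y u := by
  intro X hXZ hX
  by_cases hX0 : X = ⊥
  · left
    exact hX0
  · right
    obtain ⟨x, hx, hx0⟩ := Submodule.exists_mem_ne_zero_of_ne_bot hX0
    obtain ⟨g, hg⟩ := mem_polySpan.mp (hXZ hx)
    have hnd : ¬ φ ∣ g := by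
      rintro ⟨h, rfl⟩
      apply hx0
      rw [hg, mul_comm, map_mul, Module.End.mul_apply, hφ, map_zero]
    obtain ⟨s, t, hst⟩ := hirr.coprime_iff_not_dvd.mpr hnd
    have hu : u ∈ X := by
      have h1 : aeval y (s * φ + t * g) u = u := by rw [hst, map_one, Module.End.one_apply]
      rw [map_add, LinearMap.add_apply, map_mul, map_mul, Module.End.mul_apply,
        Module.End.mul_apply, hφ, map_zero, zero_add, ← hg] at h1
      rw [← h1]
      exact inv_aeval hX t _ hx
    exact le_antisymm hXZ (polySpan_le hX hu)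

/-- nondegeneracy of the fixed part of a nondegenerate invariant subspace -/
theorem nd_fix (hA : B.IsAlt) {y : Module.End F V} (hyB : IsIsom B y) {r : ℕ} (hrF : (r : F) ≠ 0)
    (hy : y ^ r = 1) {W : Submodule F V} (hW : ND B W) (hWi : Elus.Inv y W) :
    ND B (W ⊓ LinearMap.ker (y - 1)) := by
  rw [nd_iff B hA]
  intro u hu hu2
  apply (nd_iff B hA).mp hW u hu.1
  intro w hw
  have hTw : (∑ j ∈ Finset.range r, y ^ j) w ∈ W ⊓ LinearMap.ker (y - 1) := by
    refine ⟨?_, Imp.geom_ker hy w⟩
    rw [LinearMap.sum_apply]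
    exact Submodule.sum_mem _ (fun j _ => Imp.inv_pow' hWi j w hw)
  have h1 := hu2 _ hTw
  rw [LinearMap.sum_apply, map_sum] at h1
  have h2 : ∀ j ∈ Finset.range r, B u ((y ^ j) w) = B u w := by
    intro j _
    have h3 := hyB.pow j u w
    rw [Imp.pow_fix (Elus.mem_ker_sub_one.mp hu.2) j] at h3
    exact h3
  rw [Finset.sum_congr rfl h2, Finset.sum_const, Finset.card_range, nsmul_eq_mul] at h1
  exact (mul_eq_zero.mp h1).resolve_left hrF

/-- the moving part of a nondegenerate invariant subspace -/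
theorem moving_part (hA : B.IsAlt) (hB : B.Nondegenerate) {y : Module.End F V} (hyB : IsIsom B y)
    {r : ℕ} (hr : 0 < r) (hrF : (r : F) ≠ 0) (hy : y ^ r = 1) {W : Submodule F V} (hW : ND B W)
    (hWi : Elus.Inv y W) :
    ∃ WN : Submodule F V, WN ≤ W ∧ ND B WN ∧ Elus.Inv y WN ∧ WN ⊓ LinearMap.ker (y - 1) = ⊥ ∧
      finrank F WN = finrank F W - finrank F (W ⊓ LinearMap.ker (y - 1) : Submodule F V) ∧
      Orth B (W ⊓ LinearMap.ker (y - 1)) WN ∧ Disjoint (W ⊓ LinearMap.ker (y - 1)) WN := by
  have hC := nd_fix B hA hyB hrF hy hW hWi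
  have hCi : Elus.Inv y (W ⊓ LinearMap.ker (y - 1)) :=
    inv_inf' hWi (Elus.inv_of_le_ker le_rfl)
  refine ⟨W ⊓ B.orthogonal (W ⊓ LinearMap.ker (y - 1)), inf_le_left,
    nd_perp_in B hA hW hC inf_le_left, inv_inf' hWi (inv_perp B hyB hr hy hCi), ?_,
    finrank_perp_in B hA hB hW inf_le_left, ?_, ?_⟩
  · rw [eq_bot_iff]
    intro x hx
    have h1 : x ∈ (W ⊓ LinearMap.ker (y - 1)) ⊓ B.orthogonal (W ⊓ LinearMap.ker (y - 1)) :=
      ⟨⟨hx.1.1, hx.2⟩, hx.1.2⟩
    rw [hC.eq_bot] at h1
    exact h1
  · rw [orth_iff_le_perp]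
    exact inf_le_right
  · exact (nd_rel B hA hC inf_le_left).1

end IsoSec

section Fin

variable {F : Type u} [Field F] [Fintype F] {V : Type v} [AddCommGroup V] [Module F V]
  [FiniteDimensional F V]
variable (B : LinearMap.BilinForm F V)

theorem expand_card_pow (f : F[X]) (m : ℕ) :
    expand F (Fintype.card F ^ m) f = f ^ (Fintype.card F ^ m) := by
  induction m with
  | zero => rw [pow_zero, expand_one, pow_one]
  | succ m ih =>
    rw [pow_succ', expand_mul, ih, FiniteField.expand_card, ← pow_mul, mul_comm]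

/-- for `i` even, `y⁻¹ = y^Q` is a Frobenius twist of `y`, so kernels of polynomials in `y` are
kernels of the same polynomials in `y⁻¹` -/
theorem frob_ker (r : ℕ) [hr : Fact r.Prime] (hrq : ¬ r ∣ Fintype.card F)
    (hie : Even (orderOf ((Fintype.card F : ℕ) : ZMod r))) {y : Module.End F V} (hy : y ^ r = 1)
    (f : F[X]) (v : V) (h : aeval y f v = 0) : aeval (y ^ (r - 1)) f v = 0 := by
  have hr0 : 0 < r := hr.out.pos
  have hipos := Elus.ord_pos r (Fintype.card F) hrq
  obtain ⟨m, hm⟩ := hie
  have hpw : ((Fintype.card F : ℕ) : ZMod r) ^ m * ((Fintype.card F : ℕ) : ZMod r) ^ m = 1 := by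
    rw [← pow_add, ← hm, pow_orderOf_eq_one]
  have hdvd : r ∣ Fintype.card F ^ m + 1 := by
    rcases mul_self_eq_one_iff.mp hpw with h1 | h1
    · exfalso
      have h2 := Nat.le_of_dvd (by omega) (orderOf_dvd_of_pow_eq_one h1)
      omega
    · rw [← ZMod.natCast_eq_zero_iff]
      push_cast
      rw [h1, neg_add_cancel]
  have h3 : y ^ (Fintype.card F ^ m + 1) = 1 := by
    obtain ⟨k, hk⟩ := hdvd
    rw [hk, pow_mul, hy, one_pow]
  have hyy : y * y ^ (r - 1) = 1 := by rw [← pow_succ', Nat.sub_add_cancel hr0, hy]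
  have h4 : y ^ (Fintype.card F ^ m) = y ^ (r - 1) := by
    calc y ^ (Fintype.card F ^ m) = y ^ (Fintype.card F ^ m) * (y * y ^ (r - 1)) := by
          rw [hyy, mul_one]
      _ = y ^ (Fintype.card F ^ m + 1) * y ^ (r - 1) := by rw [pow_succ, mul_assoc]
      _ = y ^ (r - 1) := by rw [h3, one_mul]
  have hQ : 0 < Fintype.card F ^ m := pow_pos Fintype.card_pos m
  rw [← h4, ← expand_aeval, expand_card_pow, map_pow]
  obtain ⟨Q', hQ'⟩ : ∃ Q', Fintype.card F ^ m = Q' + 1 := ⟨Fintype.card F ^ m - 1, by omega⟩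
  rw [hQ', pow_succ, Module.End.mul_apply, h, map_zero]

/-- the key divisibility: the moving part of a nondegenerate invariant subspace has dimension
divisible by `c` -/
theorem sp_mod (hA : B.IsAlt) (hB : B.Nondegenerate) {y : Module.End F V} (hyB : IsIsom B y)
    (r : ℕ) [hr : Fact r.Prime] (hrF : (r : F) ≠ 0) (hrq : ¬ r ∣ Fintype.card F) (hy : y ^ r = 1)
    (i c : ℕ) (hi : i = orderOf ((Fintype.card F : ℕ) : ZMod r))
    (hc : c = if Even i then i else 2 * i) {W : Submodule F V} (hW : ND B W)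
    (hWi : Elus.Inv y W) :
    c ∣ finrank F W - finrank F (W ⊓ LinearMap.ker (y - 1) : Submodule F V) := by
  have h1 := Elus.mod_inf_of_inv y r hy hrq W hWi
  rw [← hi] at h1
  by_cases hev : Even i
  · rw [hc, if_pos hev]
    exact h1
  · rw [hc, if_neg hev]
    have hodd : Odd i := Nat.not_even_iff_odd.mp hev
    have h2 : Even (finrank F W) := even_of_nd B hA hB _ W rfl hW
    have h3 : Even (finrank F (W ⊓ LinearMap.ker (y - 1) : Submodule F V)) :=
      even_of_nd B hA hB _ _ rfl (nd_fix B hA hyB hrF hy hW hWi)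
    obtain ⟨a, ha⟩ := h2
    obtain ⟨b, hb⟩ := h3
    have h4 : 2 ∣ finrank F W - finrank F (W ⊓ LinearMap.ker (y - 1) : Submodule F V) :=
      ⟨a - b, by omega⟩
    exact Nat.Coprime.mul_dvd_of_dvd_of_dvd (Nat.coprime_two_left.mpr hodd) h4 h1

/-- existence of nondegenerate invariant blocks of dimension `c` without fixed vectors -/
theorem exists_nd_block {p f₀ : ℕ} [hp : Fact p.Prime] (hq : Fintype.card F = p ^ f₀)
    (hA : B.IsAlt) (hB : B.Nondegenerate) (r : ℕ) [hr : Fact r.Prime] (hr2 : r ≠ 2) (hrp : r ≠ p)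
    (hrF : (r : F) ≠ 0) (hrq : ¬ r ∣ Fintype.card F) {y : Module.End F V} (hyB : IsIsom B y)
    (hy : y ^ r = 1) (i c : ℕ) (hi : i = orderOf ((Fintype.card F : ℕ) : ZMod r))
    (hc : c = if Even i then i else 2 * i) {N : Submodule F V} (hN : ND B N)
    (hNi : Elus.Inv y N) (hNC : N ⊓ LinearMap.ker (y - 1) = ⊥) (hN0 : N ≠ ⊥) :
    ∃ U : Submodule F V, U ≤ N ∧ ND B U ∧ Elus.Inv y U ∧ finrank F U = c := by
  classical
  have hr0 : 0 < r := hr.out.pos
  have hdisj : ∀ Z : Submodule F V, Z ≤ N → Disjoint Z (LinearMap.ker (y - 1)) := by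
    intro Z hZ
    rw [disjoint_iff, eq_bot_iff, ← hNC]
    exact inf_le_inf_right _ hZ
  obtain ⟨U₀, hU₀N, hU₀0, hU₀i, hU₀min⟩ := Elus.exists_minimal_inv y _ N rfl hN0 hNi
  have hU₀fin : finrank F U₀ = i := by
    rw [hi]
    exact Elus.finrank_of_minimal hq y r hrp hy U₀ hU₀i hU₀0 hU₀min (hdisj U₀ hU₀N)
  have hRi : Elus.Inv y (U₀ ⊓ B.orthogonal U₀) := inv_inf' hU₀i (inv_perp B hyB hr0 hy hU₀i)
  rcases hU₀min _ inf_le_left hRi with hR | hR
  · have hU₀nd : ND B U₀ := disjoint_iff.mpr hR
    have hev : Even i := even_of_nd B hA hB _ U₀ hU₀fin hU₀nd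
    refine ⟨U₀, hU₀N, hU₀nd, hU₀i, ?_⟩
    rw [hc, if_pos hev]
    exact hU₀fin
  · have hti : U₀ ≤ B.orthogonal U₀ := inf_eq_left.mp hR
    have hKi : Elus.Inv y (N ⊓ B.orthogonal U₀) := inv_inf' hNi (inv_perp B hyB hr0 hy hU₀i)
    have hss := Elus.isSemisimple_of_pow_eq_one y r hrF hy
    obtain ⟨U', hU'i, hU'N, hKU', hsup⟩ := Imp.exists_rel_compl hss hKi hNi inf_le_left
    have hU₀K : U₀ ≤ N ⊓ B.orthogonal U₀ := le_inf hU₀N hti
    have hKfin : finrank F (N ⊓ B.orthogonal U₀ : Submodule F V) = finrank F N - i := by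
      rw [← hU₀fin]
      exact finrank_perp_in B hA hB hN hU₀N
    have hNfin := Elus.finrank_sup_of_disjoint hKU'
    rw [hsup] at hNfin
    have hiN : i ≤ finrank F N := by
      rw [← hU₀fin]
      exact Submodule.finrank_mono hU₀N
    have hU'fin : finrank F U' = i := by omega
    have hd : Disjoint U₀ U' := hKU'.mono_left hU₀K
    have hX : U₀ ⊓ B.orthogonal U' = ⊥ := by
      rcases hU₀min _ inf_le_left (inv_inf' hU₀i (inv_perp B hyB hr0 hy hU'i)) with h | h
      · exact h
      · exfalso
        have h1 : U₀ ≤ B.orthogonal U' := inf_eq_left.mp h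
        apply hU₀0
        rw [eq_bot_iff]
        intro u₀ hu₀
        have h2 : u₀ ∈ B.orthogonal N := by
          rw [mem_perp B]
          intro n hn
          rw [← hsup] at hn
          obtain ⟨k, hk, u', hu', rfl⟩ := Submodule.mem_sup.mp hn
          rw [map_add, LinearMap.add_apply, (mem_perp B).mp (h1 hu₀) u' hu', add_zero]
          exact swap_zero B hA ((mem_perp B).mp hk.2 u₀ hu₀)
        have h3 : u₀ ∈ N ⊓ B.orthogonal N := ⟨hU₀N hu₀, h2⟩
        rw [hN.eq_bot] at h3
        exact h3
    have hPnd : ND B (U₀ ⊔ U') := by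
      rw [nd_iff B hA]
      intro x hx hx2
      obtain ⟨u, hu, u', hu', rfl⟩ := Submodule.mem_sup.mp hx
      have hu'0 : u' = 0 := by
        have h1 : u' ∈ (N ⊓ B.orthogonal U₀) ⊓ U' := by
          refine ⟨⟨hU'N hu', ?_⟩, hu'⟩
          apply (mem_perp B).mpr
          intro w hw
          have h2 := hx2 w (Submodule.mem_sup_left hw)
          rw [map_add, LinearMap.add_apply,
            swap_zero B hA ((mem_perp B).mp (hti hu) w hw), zero_add] at h2
          exact swap_zero B hA h2
        rw [hKU'.eq_bot] at h1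
        exact (Submodule.mem_bot F).mp h1
      rw [hu'0, add_zero] at hx2 ⊢
      have h1 : u ∈ U₀ ⊓ B.orthogonal U' := by
        refine ⟨hu, ?_⟩
        apply (mem_perp B).mpr
        intro w hw
        exact swap_zero B hA (hx2 w (Submodule.mem_sup_right hw))
      rw [hX] at h1
      exact (Submodule.mem_bot F).mp h1
    have hPi : Elus.Inv y (U₀ ⊔ U') := Elus.Inv.sup hU₀i hU'i
    have hPN : U₀ ⊔ U' ≤ N := sup_le hU₀N hU'N
    have hPfin := Elus.finrank_sup_of_disjoint hd
    rw [hU₀fin, hU'fin] at hPfin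
    by_cases hev : Even i
    · -- `i` even: find a nondegenerate minimal invariant subspace inside `U₀ ⊔ U'`
      obtain ⟨φ, hφirr, hφ⟩ := exists_irr_ann hr0 hy hU₀i hU₀0 hU₀min
      have hφP : ∀ x ∈ U₀ ⊔ U', aeval y φ x = 0 := by
        intro x hx
        obtain ⟨u, hu, u', hu', rfl⟩ := Submodule.mem_sup.mp hx
        have h1 : aeval y φ u' = 0 := by
          have h2 : aeval y φ u' ∈ (N ⊓ B.orthogonal U₀) ⊓ U' := by
            refine ⟨⟨hU'N (inv_aeval hU'i φ u' hu'), ?_⟩, inv_aeval hU'i φ u' hu'⟩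
            apply (mem_perp B).mpr
            intro w hw
            rw [adj_aeval B hyB hr0 hy, frob_ker r hrq (hi ▸ hev) hy φ w (hφ w hw), map_zero,
              LinearMap.zero_apply]
          rw [hKU'.eq_bot] at h2
          exact (Submodule.mem_bot F).mp h2
        rw [map_add, hφ u hu, h1, add_zero]
      have hex : ∃ u ∈ U₀ ⊔ U', B u (y u) ≠ 0 := by
        by_contra hcon
        push Not at hcon
        have h1 : ∀ v ∈ U₀ ⊔ U', y v = (y ^ (r - 1)) v := by
          intro v hv
          have hz : y v - (y ^ (r - 1)) v ∈ U₀ ⊔ U' :=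
            Submodule.sub_mem _ (hPi v hv) (Imp.inv_pow' hPi (r - 1) v hv)
          have hz0 : y v - (y ^ (r - 1)) v = 0 := by
            apply (nd_iff B hA).mp hPnd _ hz
            intro w hw
            apply swap_zero B hA
            have h2 := hcon (w + v) (Submodule.add_mem _ hw hv)
            have h3 := hcon w hw
            have h4 := hcon v hv
            have e1 : B (w + v) (y (w + v)) =
                B w (y w) + B w (y v) + B v (y w) + B v (y v) := by
              simp only [map_add, LinearMap.add_apply]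
              ring
            have e2 : B v (y w) = - B w ((y ^ (r - 1)) v) := by
              rw [← hA.neg_eq (y w) v, adj_one' B hyB hr0 hy]
            rw [map_sub]
            linear_combination h2 - e1 - h3 - h4 - e2
          exact sub_eq_zero.mp hz0
        have h2 : ∀ v ∈ U₀ ⊔ U', y (y v) = v := by
          intro v hv
          rw [h1 v hv]
          exact pow_pred_apply hr0 hy v
        have h3 : ∀ v ∈ U₀ ⊔ U', y v = v := by
          intro v hv
          obtain ⟨m, hm⟩ := hr.out.odd_of_ne_two hr2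
          have h4 : ∀ k : ℕ, (y ^ (2 * k)) v = v := by
            intro k
            induction k with
            | zero => rw [Nat.mul_zero, pow_zero, Module.End.one_apply]
            | succ k ih =>
              rw [Nat.mul_succ, pow_add, Module.End.mul_apply, pow_two, Module.End.mul_apply,
                h2 v hv, ih]
          have h5 : (y ^ r) v = y v := by
            rw [hm, pow_succ', Module.End.mul_apply, h4 m]
          rw [hy, Module.End.one_apply] at h5
          exact h5.symm
        obtain ⟨u₀, hu₀, hu₀0⟩ := Submodule.exists_mem_ne_zero_of_ne_bot hU₀0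
        have h6 : u₀ ∈ N ⊓ LinearMap.ker (y - 1) :=
          ⟨hU₀N hu₀, Elus.mem_ker_sub_one.mpr (h3 u₀ (Submodule.mem_sup_left hu₀))⟩
        rw [hNC] at h6
        exact hu₀0 ((Submodule.mem_bot F).mp h6)
      obtain ⟨u, huP, huy⟩ := hex
      have hu0 : u ≠ 0 := by
        rintro rfl
        apply huy
        rw [map_zero, LinearMap.zero_apply]
      have hZi : Elus.Inv y (polySpan y u) := polySpan_inv y u
      have huZ : u ∈ polySpan y u := mem_polySpan_self y u
      have hZP : polySpan y u ≤ U₀ ⊔ U' := polySpan_le hPi huP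
      have hZmin := polySpan_minimal hφirr (hφP u huP)
      have hZ0 : polySpan y u ≠ ⊥ := by
        intro h
        rw [h] at huZ
        exact hu0 ((Submodule.mem_bot F).mp huZ)
      have hZnd : ND B (polySpan y u) := by
        rcases hZmin _ inf_le_left (inv_inf' hZi (inv_perp B hyB hr0 hy hZi)) with h | h
        · exact disjoint_iff.mpr h
        · exfalso
          have h1 : polySpan y u ≤ B.orthogonal (polySpan y u) := inf_eq_left.mp h
          exact huy (swap_zero B hA ((mem_perp B).mp (h1 huZ) (y u) (hZi u huZ)))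
      have hZN : polySpan y u ≤ N := hZP.trans hPN
      have hZfin : finrank F (polySpan y u) = i := by
        rw [hi]
        exact Elus.finrank_of_minimal hq y r hrp hy _ hZi hZ0 hZmin (hdisj _ hZN)
      refine ⟨polySpan y u, hZN, hZnd, hZi, ?_⟩
      rw [hc, if_pos hev]
      exact hZfin
    · refine ⟨U₀ ⊔ U', hPN, hPnd, hPi, ?_⟩
      rw [hc, if_neg hev, hPfin]
      omega

end Fin

end Cfsg.Agent.Lib.Helper2.SpImp
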