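import Mathlib
import Cfsg.Agent.Lib.Helper2.SpImpB
set_option autoImplicit false
set_option maxHeartbeats 1000000
set_option linter.unusedVariables false
set_option linter.unusedSectionVars false
set_option linter.style.longLine false
set_option linter.unusedSimpArgs false
set_option linter.deprecated false
set_option linter.style.haveILetI false

/-! Imprimitive decompositions in symplectic spaces (part C): growing nondegenerate invariant
subspaces from atoms, orthogonal peeling, and the splitting theorem. -/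

namespace Cfsg.Agent.Lib.Helper2.SpImp

open Module Polynomial Cfsg.Agent.Lib.Helper2

universe u v

section Grow

variable {F : Type u} [Field F] {V : Type v} [AddCommGroup V] [Module F V] [FiniteDimensional F V]
variable (B : LinearMap.BilinForm F V)

/-- growing nondegenerate invariant subspaces from atoms of dimension `c₀` -/
theorem grow_gen (hA : B.IsAlt) (hB : B.Nondegenerate) (y : Module.End F V)
    (P : Submodule F V → Prop) (c₀ : ℕ) (hPnd : ∀ N, P N → ND B N)
    (hatom : ∀ N, P N → N ≠ ⊥ →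
      ∃ U : Submodule F V, U ≤ N ∧ ND B U ∧ Elus.Inv y U ∧ finrank F U = c₀)
    (hP : ∀ N A : Submodule F V, P N → A ≤ N → ND B A → Elus.Inv y A →
      P (N ⊓ B.orthogonal A)) :
    ∀ (b : ℕ) (N : Submodule F V), P N → c₀ * b ≤ finrank F N →
      ∃ A : Submodule F V, A ≤ N ∧ ND B A ∧ Elus.Inv y A ∧ finrank F A = c₀ * b := by
  intro b
  induction b with
  | zero =>
    intro N _ _
    exact ⟨⊥, bot_le, nd_bot B, Elus.inv_bot y, by rw [finrank_bot, Nat.mul_zero]⟩
  | succ b ih =>
    intro N hN hle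
    rw [Nat.mul_succ] at hle
    have hle' : c₀ * b ≤ finrank F N := by omega
    obtain ⟨A, hAN, hAnd, hAi, hAfin⟩ := ih N hN hle'
    have hN' := hP N A hN hAN hAnd hAi
    have hfin' := finrank_perp_in B hA hB (hPnd N hN) hAN
    by_cases hc0 : c₀ = 0
    · subst hc0
      exact ⟨⊥, bot_le, nd_bot B, Elus.inv_bot y, by rw [finrank_bot, Nat.zero_mul]⟩
    have hN'0 : N ⊓ B.orthogonal A ≠ ⊥ := by
      intro h
      rw [h, finrank_bot, hAfin] at hfin'
      omega
    obtain ⟨U, hUN', hUnd, hUi, hUfin⟩ := hatom _ hN' hN'0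
    have hUA : U ≤ B.orthogonal A := hUN'.trans inf_le_right
    have hAU : Orth B A U := (orth_iff_le_perp B).mpr hUA
    have hd : Disjoint A U := (show Disjoint A (B.orthogonal A) from hAnd).mono_right hUA
    refine ⟨A ⊔ U, sup_le hAN (hUN'.trans inf_le_left), nd_sup B hA hAnd hUnd hAU,
      hAi.sup hUi, ?_⟩
    rw [Elus.finrank_sup_of_disjoint hd, hAfin, hUfin, Nat.mul_succ]

/-- nondegenerate subspaces of every even dimension inside a nondegenerate space of fixed
vectors -/
theorem grow_planes (hA : B.IsAlt) (hB : B.Nondegenerate) (y : Module.End F V)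
    {Z : Submodule F V} (hZ : ND B Z) (hZC : Z ≤ LinearMap.ker (y - 1)) (m : ℕ)
    (hm : 2 * m ≤ finrank F Z) :
    ∃ A : Submodule F V, A ≤ Z ∧ ND B A ∧ Elus.Inv y A ∧ finrank F A = 2 * m := by
  refine grow_gen B hA hB y (fun N => ND B N ∧ N ≤ LinearMap.ker (y - 1)) 2 (fun N hN => hN.1)
    ?_ ?_ m Z ⟨hZ, hZC⟩ hm
  · intro N hN hN0
    obtain ⟨u, v, hu, hv, huv⟩ := exists_plane B hA hN.1 hN0
    obtain ⟨h1, h2⟩ := plane_props B hA huv
    have hle : Submodule.span F (Set.range ![u, v]) ≤ N := by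
      rw [Submodule.span_le]
      rintro _ ⟨j, rfl⟩
      fin_cases j
      · exact hu
      · exact hv
    exact ⟨_, hle, h1, Elus.inv_of_le_ker (hle.trans hN.2), h2⟩
  · intro N A hN hAN hAnd _
    exact ⟨nd_perp_in B hA hN.1 hAnd hAN, inf_le_left.trans hN.2⟩

/-- orthogonal peeling -/
theorem peel_sp (hA : B.IsAlt) (P : Submodule F V → Prop) (Q : ℕ → Submodule F V → Prop)
    (hQ0 : ∀ W, Q 0 W → W = ⊥)
    (hstep : ∀ (t' : ℕ) (W : Submodule F V), Q (t' + 1) W →
      ∃ D : Submodule F V, D ≤ W ∧ ND B D ∧ P D ∧ Q t' (W ⊓ B.orthogonal D)) :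
    ∀ (t : ℕ) (W : Submodule F V), Q t W →
      ∃ D : Fin t → Submodule F V, (∀ j, ND B (D j)) ∧ (∀ j, P (D j)) ∧
        (∀ j j', j ≠ j' → Orth B (D j) (D j')) ∧ iSupIndep D ∧ iSup D = W := by
  intro t
  induction t with
  | zero =>
    intro W hQ
    refine ⟨fun _ => ⊥, fun j => j.elim0, fun j => j.elim0, fun j => j.elim0,
      fun j => j.elim0, ?_⟩
    rw [iSup_of_empty]
    exact (hQ0 W hQ).symm
  | succ t ih =>
    intro W hQ
    obtain ⟨D0, hD0W, hD0nd, hD0P, hQ'⟩ := hstep t W hQ
    obtain ⟨D', hD'nd, hD'P, hD'o, hD'ind, hD'sup⟩ := ih _ hQ'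
    obtain ⟨hdisj, hsup⟩ := nd_rel B hA hD0nd hD0W
    have hD'le : ∀ j, D' j ≤ B.orthogonal D0 := by
      intro j
      have h1 : D' j ≤ iSup D' := le_iSup D' j
      rw [hD'sup] at h1
      exact h1.trans inf_le_right
    refine ⟨Fin.cons D0 D', ?_, ?_, ?_, ?_, ?_⟩
    · intro j
      induction j using Fin.cases with
      | zero =>
        rw [Fin.cons_zero]
        exact hD0nd
      | succ j =>
        rw [Fin.cons_succ]
        exact hD'nd j
    · intro j
      induction j using Fin.cases with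
      | zero =>
        rw [Fin.cons_zero]
        exact hD0P
      | succ j =>
        rw [Fin.cons_succ]
        exact hD'P j
    · intro j j' hjj'
      induction j using Fin.cases with
      | zero =>
        induction j' using Fin.cases with
        | zero => exact absurd rfl hjj'
        | succ j' =>
          rw [Fin.cons_zero, Fin.cons_succ]
          exact (orth_iff_le_perp B).mpr (hD'le j')
      | succ j =>
        induction j' using Fin.cases with
        | zero =>
          rw [Fin.cons_zero, Fin.cons_succ]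
          exact Orth.symm hA ((orth_iff_le_perp B).mpr (hD'le j))
        | succ j' =>
          rw [Fin.cons_succ, Fin.cons_succ]
          exact hD'o j j' (fun h => hjj' (by rw [h]))
    · apply Imp.indep_cons D0 D' hD'ind
      rw [hD'sup]
      exact hdisj
    · rw [Imp.iSup_cons, hD'sup, hsup]

end Grow

section Fin

variable {F : Type u} [Field F] [Fintype F] {V : Type v} [AddCommGroup V] [Module F V]
  [FiniteDimensional F V]
variable (B : LinearMap.BilinForm F V)

/-- nondegenerate invariant subspaces of every dimension `c * b` inside a nondegenerate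
invariant space without fixed vectors -/
theorem grow_blocks {p f₀ : ℕ} [hp : Fact p.Prime] (hq : Fintype.card F = p ^ f₀)
    (hA : B.IsAlt) (hB : B.Nondegenerate) (r : ℕ) [hr : Fact r.Prime] (hr2 : r ≠ 2) (hrp : r ≠ p)
    (hrF : (r : F) ≠ 0) (hrq : ¬ r ∣ Fintype.card F) {y : Module.End F V} (hyB : IsIsom B y)
    (hy : y ^ r = 1) (i c : ℕ) (hi : i = orderOf ((Fintype.card F : ℕ) : ZMod r))
    (hc : c = if Even i then i else 2 * i) {N : Submodule F V} (hN : ND B N)
    (hNi : Elus.Inv y N) (hNC : N ⊓ LinearMap.ker (y - 1) = ⊥) (b : ℕ)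
    (hb : c * b ≤ finrank F N) :
    ∃ A : Submodule F V, A ≤ N ∧ ND B A ∧ Elus.Inv y A ∧ finrank F A = c * b := by
  have hr0 : 0 < r := hr.out.pos
  refine grow_gen B hA hB y
    (fun N => ND B N ∧ Elus.Inv y N ∧ N ⊓ LinearMap.ker (y - 1) = ⊥) c (fun N hN => hN.1)
    ?_ ?_ b N ⟨hN, hNi, hNC⟩ hb
  · intro N hN hN0
    exact exists_nd_block B hq hA hB r hr2 hrp hrF hrq hyB hy i c hi hc hN.1 hN.2.1 hN.2.2 hN0
  · intro N A hN hAN hAnd hAi
    refine ⟨nd_perp_in B hA hN.1 hAnd hAN, inv_inf' hN.2.1 (inv_perp B hyB hr0 hy hAi), ?_⟩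
    rw [eq_bot_iff, ← hN.2.2]
    exact inf_le_inf_right _ inf_le_left

/-- the splitting theorem: an isometry of order `r` with enough fixed vectors stabilises an
orthogonal decomposition into nondegenerate `a`-spaces, fixing every summand -/
theorem sp_split {p f₀ : ℕ} [hp : Fact p.Prime] (hq : Fintype.card F = p ^ f₀)
    (hA : B.IsAlt) (hB : B.Nondegenerate) (r : ℕ) [hr : Fact r.Prime] (hr2 : r ≠ 2) (hrp : r ≠ p)
    (hrF : (r : F) ≠ 0) (hrq : ¬ r ∣ Fintype.card F) {y : Module.End F V} (hyB : IsIsom B y)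
    (hy : y ^ r = 1) (i c : ℕ) (hi : i = orderOf ((Fintype.card F : ℕ) : ZMod r))
    (hc : c = if Even i then i else 2 * i) (a t : ℕ) (hae : Even a)
    (hn : finrank F V = a * t) (hfix : (a % c) * t ≤ finrank F (LinearMap.ker (y - 1))) :
    ∃ D : Fin t → Submodule F V, (∀ j, ND B (D j)) ∧
      (∀ j, Elus.Inv y (D j) ∧ finrank F (D j) = a) ∧
      (∀ j j', j ≠ j' → Orth B (D j) (D j')) ∧ iSupIndep D ∧ iSup D = ⊤ := by
  have hr0 : 0 < r := hr.out.pos
  have hipos : 0 < i := by
    rw [hi]
    exact Elus.ord_pos r (Fintype.card F) hrq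
  have hce : Even c := by
    by_cases hev : Even i
    · rw [hc, if_pos hev]
      exact hev
    · rw [hc, if_neg hev]
      exact even_two_mul i
  have hcpos : 0 < c := by
    by_cases hev : Even i
    · rw [hc, if_pos hev]
      exact hipos
    · rw [hc, if_neg hev]
      omega
  refine peel_sp B hA (fun D => Elus.Inv y D ∧ finrank F D = a)
    (fun t W => ND B W ∧ Elus.Inv y W ∧ finrank F W = a * t ∧
      (a % c) * t ≤ finrank F (W ⊓ LinearMap.ker (y - 1) : Submodule F V)) ?_ ?_ t ⊤
    ⟨nd_top B hA hB, fun x _ => Submodule.mem_top, by rw [finrank_top]; exact hn,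
      by rw [top_inf_eq]; exact hfix⟩
  · intro W hQ
    have h1 := hQ.2.2.1
    rw [Nat.mul_zero] at h1
    exact Submodule.finrank_eq_zero.mp h1
  · intro t' W hQ
    obtain ⟨hW, hWi, hfin, hQk⟩ := hQ
    obtain ⟨WN, hWNW, hWNnd, hWNi, hWNC, hWNfin, hWo, hWd⟩ :=
      moving_part B hA hB hyB hr0 hrF hy hW hWi
    have hWCnd := nd_fix B hA hyB hrF hy hW hWi
    obtain ⟨l, hl⟩ := sp_mod B hA hB hyB r hrF hrq hy i c hi hc hW hWi
    have hkle : finrank F (W ⊓ LinearMap.ker (y - 1) : Submodule F V) ≤ finrank F W :=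
      Submodule.finrank_mono inf_le_left
    have hb1 : min l (a / c) ≤ l := min_le_left _ _
    have hb2 : min l (a / c) ≤ a / c := min_le_right _ _
    have hcb : c * min l (a / c) ≤ a :=
      le_trans (Nat.mul_le_mul_left c hb2) (Nat.mul_div_le a c)
    have hdm := Nat.div_add_mod a c
    have hcl : c * min l (a / c) ≤ c * l := Nat.mul_le_mul_left c hb1
    have hAk : a - c * min l (a / c) ≤
        finrank F (W ⊓ LinearMap.ker (y - 1) : Submodule F V) := by
      rcases le_total l (a / c) with h | h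
      · rw [min_eq_left h]
        have h5 : a ≤ a * (t' + 1) := Nat.le_mul_of_pos_right a (Nat.succ_pos t')
        omega
      · rw [min_eq_right h]
        have h5 : a % c ≤ a % c * (t' + 1) := Nat.le_mul_of_pos_right _ (Nat.succ_pos t')
        omega
    obtain ⟨A, hAW, hAnd, hAi, hAfin⟩ := grow_blocks B hq hA hB r hr2 hrp hrF hrq hyB hy i c hi hc
      hWNnd hWNi hWNC (min l (a / c)) (by omega)
    obtain ⟨a2, ha2⟩ := hae
    obtain ⟨c2, hc2⟩ := hce
    have hc2b : c * min l (a / c) = c2 * min l (a / c) + c2 * min l (a / c) := by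
      rw [hc2, Nat.add_mul]
    obtain ⟨A', hA'W, hA'nd, hA'i, hA'fin⟩ := grow_planes B hA hB y hWCnd inf_le_right
      (a2 - c2 * min l (a / c)) (by omega)
    have hA'fin' : finrank F A' = a - c * min l (a / c) := by omega
    have hA'C : A' ≤ LinearMap.ker (y - 1) := hA'W.trans inf_le_right
    have hd : Disjoint A' A := (hWd.mono_left hA'W).mono_right hAW
    have hoo : Orth B A' A := fun u hu v hv => hWo u (hA'W hu) v (hAW hv)
    have hDnd : ND B (A' ⊔ A) := nd_sup B hA hA'nd hAnd hoo
    have hDi : Elus.Inv y (A' ⊔ A) := hA'i.sup hAi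
    have hDW : A' ⊔ A ≤ W := sup_le (hA'W.trans inf_le_left) (hAW.trans hWNW)
    have hDfin : finrank F (A' ⊔ A : Submodule F V) = a := by
      rw [Elus.finrank_sup_of_disjoint hd, hA'fin', hAfin]
      omega
    have hAC : A ⊓ LinearMap.ker (y - 1) = ⊥ := by
      rw [eq_bot_iff, ← hWNC]
      exact inf_le_inf_right _ hAW
    have hDfix : finrank F ((A' ⊔ A) ⊓ LinearMap.ker (y - 1) : Submodule F V) =
        a - c * min l (a / c) := by
      rw [Imp.fix_add y hA'i hAi hd, inf_eq_left.mpr hA'C, hAC, finrank_bot, add_zero, hA'fin']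
    obtain ⟨hdisj, hsup⟩ := nd_rel B hA hDnd hDW
    have hW'i : Elus.Inv y (W ⊓ B.orthogonal (A' ⊔ A)) :=
      inv_inf' hWi (inv_perp B hyB hr0 hy hDi)
    refine ⟨A' ⊔ A, hDW, hDnd, ⟨hDi, hDfin⟩, nd_perp_in B hA hW hDnd hDW, hW'i, ?_, ?_⟩
    · rw [finrank_perp_in B hA hB hW hDW, hfin, hDfin, Nat.mul_succ]
      omega
    · have h1 := Imp.fix_add y hDi hW'i hdisj
      rw [hsup, hDfix] at h1
      rw [Nat.mul_succ] at hfin
      rcases le_total l (a / c) with h | h
      · rw [min_eq_left h] at h1 hcb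
        have h5 : a % c * t' ≤ a * t' := Nat.mul_le_mul_right t' (Nat.mod_le a c)
        omega
      · rw [min_eq_right h] at h1 hcb
        have h5 : a % c * (t' + 1) = a % c * t' + a % c := Nat.mul_succ _ _
        omega

end Fin

end Cfsg.Agent.Lib.Helper2.SpImp
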