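import Mathlib
import Cfsg.Agent.Lib.Helper2.SpImpC
import Cfsg.Agent.Lib.Helper2.ImpF
set_option autoImplicit false
set_option maxHeartbeats 1000000
set_option linter.unusedVariables false
set_option linter.unusedSectionVars false
set_option linter.style.longLine false
set_option linter.unusedSimpArgs false
set_option linter.deprecated false
set_option linter.style.haveILetI false

/-! Imprimitive decompositions in symplectic spaces (part D): the isometry group, counting
orthogonal decompositions, and construction of isometries of order `r` with prescribed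
fixed space. -/

namespace Cfsg.Agent.Lib.Helper2.SpImp

open Module Polynomial Cfsg.Agent.Lib.Helper2

universe u v

section Grp

variable {F : Type u} [Field F] {V : Type v} [AddCommGroup V] [Module F V] [FiniteDimensional F V]
variable (B : LinearMap.BilinForm F V)

/-- the isometry group of `B` -/
def isoGroup : Subgroup (V ≃ₗ[F] V) where
  carrier := {g | ∀ u v, B (g u) (g v) = B u v}
  mul_mem' := by
    intro g h hg hh u v
    show B (g (h u)) (g (h v)) = B u v
    rw [hg, hh]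
  one_mem' := fun u v => rfl
  inv_mem' := by
    intro g hg u v
    have h := hg (g.symm u) (g.symm v)
    rw [g.apply_symm_apply, g.apply_symm_apply] at h
    exact h.symm

theorem mem_isoGroup {g : V ≃ₗ[F] V} : g ∈ isoGroup B ↔ ∀ u v, B (g u) (g v) = B u v := Iff.rfl

/-- orthogonal decompositions into nondegenerate `a`-spaces -/
def IsGood (a : ℕ) {t : ℕ} (D : Fin t → Submodule F V) : Prop :=
  Imp.IsDec a D ∧ (∀ j, ND B (D j)) ∧ (∀ j j', j ≠ j' → Orth B (D j) (D j'))

theorem IsGood.perm {B : LinearMap.BilinForm F V} {a t : ℕ} {D : Fin t → Submodule F V}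
    (h : IsGood B a D) (τ : Equiv.Perm (Fin t)) : IsGood B a (fun j => D (τ j)) :=
  ⟨h.1.perm τ, fun j => h.2.1 (τ j),
    fun j j' hjj' => h.2.2 (τ j) (τ j') (fun e => hjj' (τ.injective e))⟩

theorem nd_map (hA : B.IsAlt) {g : V ≃ₗ[F] V} (hg : ∀ u v, B (g u) (g v) = B u v)
    {W : Submodule F V} (hW : ND B W) : ND B (W.map (g : V →ₗ[F] V)) := by
  rw [nd_iff B hA]
  rintro _ ⟨w, hw, rfl⟩ h2
  have h3 : w = 0 := by
    apply (nd_iff B hA).mp hW w hw
    intro w' hw'
    have h4 := h2 (g w') ⟨w', hw', rfl⟩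
    rw [← hg w w']
    exact h4
  rw [h3, map_zero]

theorem orth_map {g : V ≃ₗ[F] V} (hg : ∀ u v, B (g u) (g v) = B u v)
    {X Y : Submodule F V} (h : Orth B X Y) :
    Orth B (X.map (g : V →ₗ[F] V)) (Y.map (g : V →ₗ[F] V)) := by
  rintro _ ⟨x, hx, rfl⟩ _ ⟨y, hy, rfl⟩
  have h1 := hg x y
  rw [h x hx y hy] at h1
  exact h1

theorem IsGood.map {B : LinearMap.BilinForm F V} (hA : B.IsAlt) {a t : ℕ}
    {D : Fin t → Submodule F V} (h : IsGood B a D) {g : V ≃ₗ[F] V}
    (hg : ∀ u v, B (g u) (g v) = B u v) :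
    IsGood B a (fun j => (D j).map (g : V →ₗ[F] V)) :=
  ⟨h.1.map g, fun j => nd_map B hA hg (h.2.1 j), fun j j' hjj' => orth_map B hg (h.2.2 j j' hjj')⟩

/-- the action of `S_t` on ordered orthogonal decompositions -/
noncomputable def permActionG (a t : ℕ) :
    MulAction (Equiv.Perm (Fin t)) {D : Fin t → Submodule F V // IsGood B a D} where
  smul τ D := ⟨fun j => D.1 (τ⁻¹ j), D.2.perm τ⁻¹⟩
  one_smul D := by
    apply Subtype.ext
    funext j
    show D.1 ((1 : Equiv.Perm (Fin t))⁻¹ j) = D.1 j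
    rw [inv_one]
    rfl
  mul_smul τ₁ τ₂ D := by
    apply Subtype.ext
    funext j
    show D.1 ((τ₁ * τ₂)⁻¹ j) = D.1 (τ₂⁻¹ (τ₁⁻¹ j))
    rw [mul_inv_rev]
    rfl

theorem coe_pow_equiv (g : V ≃ₗ[F] V) (k : ℕ) :
    ((g ^ k : V ≃ₗ[F] V) : V →ₗ[F] V) = ((g : V →ₗ[F] V) : Module.End F V) ^ k := by
  induction k with
  | zero =>
    rw [pow_zero, pow_zero]
    rfl
  | succ k ih =>
    rw [pow_succ, pow_succ, ← ih]
    rfl

theorem exists_equiv_of_pow {y : Module.End F V} {r : ℕ} (hr : 0 < r) (hy : y ^ r = 1) :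
    ∃ g : V ≃ₗ[F] V, (g : V →ₗ[F] V) = y := by
  have h1 : y * y ^ (r - 1) = 1 := by rw [← pow_succ', Nat.sub_add_cancel hr, hy]
  have h2 : y ^ (r - 1) * y = 1 := by rw [← pow_succ, Nat.sub_add_cancel hr, hy]
  exact ⟨LinearEquiv.ofLinear y (y ^ (r - 1)) h1 h2, LinearMap.ext fun v => rfl⟩

/-- gluing isometries along an orthogonal decomposition -/
theorem glue_iso (hA : B.IsAlt) {P : Submodule F V} (hP : ND B P) (y₁ y₂ : Module.End F V)
    (h1 : IsIsom B y₁) (h2 : IsIsom B y₂) (hP1 : Elus.Inv y₁ P)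
    (hP2 : Elus.Inv y₂ (B.orthogonal P)) (r : ℕ) (hy1 : y₁ ^ r = 1) (hy2 : y₂ ^ r = 1) :
    ∃ g : Module.End F V, IsIsom B g ∧ g ^ r = 1 ∧ (∀ u ∈ P, g u = y₁ u) ∧
      (∀ u ∈ B.orthogonal P, g u = y₂ u) := by
  have hc := nd_isCompl B hA hP
  have hg1 : ∀ u ∈ P, (LinearMap.ofIsCompl hc (y₁.domRestrict P)
      (y₂.domRestrict (B.orthogonal P)) : Module.End F V) u = y₁ u := by
    intro u hu
    exact LinearMap.ofIsCompl_left_apply hc (⟨u, hu⟩ : P)
  have hg2 : ∀ u ∈ B.orthogonal P, (LinearMap.ofIsCompl hc (y₁.domRestrict P)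
      (y₂.domRestrict (B.orthogonal P)) : Module.End F V) u = y₂ u := by
    intro u hu
    exact LinearMap.ofIsCompl_right_apply hc (⟨u, hu⟩ : B.orthogonal P)
  generalize (LinearMap.ofIsCompl hc (y₁.domRestrict P)
      (y₂.domRestrict (B.orthogonal P)) : Module.End F V) = g at hg1 hg2
  have hdecomp : ∀ v : V, ∃ p ∈ P, ∃ q ∈ B.orthogonal P, v = p + q := by
    intro v
    have h : v ∈ P ⊔ B.orthogonal P := by
      rw [hc.sup_eq_top]
      trivial
    obtain ⟨p, hp, q, hq, rfl⟩ := Submodule.mem_sup.mp h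
    exact ⟨p, hp, q, hq, rfl⟩
  refine ⟨g, ?_, ?_, hg1, hg2⟩
  · intro u v
    obtain ⟨p, hp, q, hq, rfl⟩ := hdecomp u
    obtain ⟨p', hp', q', hq', rfl⟩ := hdecomp v
    rw [map_add g, map_add g, hg1 p hp, hg1 p' hp', hg2 q hq, hg2 q' hq']
    have e1 : B (y₁ p) (y₂ q') = 0 := (mem_perp B).mp (hP2 q' hq') _ (hP1 p hp)
    have e2 : B (y₂ q) (y₁ p') = 0 :=
      swap_zero B hA ((mem_perp B).mp (hP2 q hq) _ (hP1 p' hp'))
    have e3 : B p q' = 0 := (mem_perp B).mp hq' p hp
    have e4 : B q p' = 0 := swap_zero B hA ((mem_perp B).mp hq p' hp')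
    simp only [map_add, LinearMap.add_apply]
    linear_combination (h1 p p') + (h2 q q') + e1 + e2 - e3 - e4
  · have hpow1 : ∀ k : ℕ, ∀ u ∈ P, (g ^ k) u = (y₁ ^ k) u := by
      intro k
      induction k with
      | zero =>
        intro u _
        rw [pow_zero, pow_zero]
      | succ k ih =>
        intro u hu
        rw [pow_succ, Module.End.mul_apply, pow_succ, Module.End.mul_apply, hg1 u hu,
          ih _ (hP1 u hu)]
    have hpow2 : ∀ k : ℕ, ∀ u ∈ B.orthogonal P, (g ^ k) u = (y₂ ^ k) u := by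
      intro k
      induction k with
      | zero =>
        intro u _
        rw [pow_zero, pow_zero]
      | succ k ih =>
        intro u hu
        rw [pow_succ, Module.End.mul_apply, pow_succ, Module.End.mul_apply, hg2 u hu,
          ih _ (hP2 u hu)]
    apply LinearMap.ext
    intro v
    obtain ⟨p, hp, q, hq, rfl⟩ := hdecomp v
    rw [map_add, hpow1 r p hp, hpow2 r q hq, hy1, hy2]
    rfl

end Grp

section Fin

variable {F : Type u} [Field F] [Fintype F] {V : Type v} [AddCommGroup V] [Module F V]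
  [FiniteDimensional F V]
variable (B : LinearMap.BilinForm F V)

theorem factorial_dvd_card_good (a t : ℕ) (ha : 1 ≤ a) :
    Nat.factorial t ∣ Nat.card {D : Fin t → Submodule F V // IsGood B a D} := by
  classical
  haveI : Finite (Submodule F V) := Imp.finite_submodule
  letI := permActionG (F := F) (V := V) B a t
  haveI : Fintype {D : Fin t → Submodule F V // IsGood B a D} := Fintype.ofFinite _
  haveI : Fintype (Quotient (MulAction.orbitRel (Equiv.Perm (Fin t))
    {D : Fin t → Submodule F V // IsGood B a D})) := Fintype.ofFinite _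
  haveI : ∀ b : {D : Fin t → Submodule F V // IsGood B a D},
      Fintype (MulAction.stabilizer (Equiv.Perm (Fin t)) b) := fun b => Fintype.ofFinite _
  have h := MulAction.card_eq_sum_card_group_div_card_stabilizer (Equiv.Perm (Fin t))
    {D : Fin t → Submodule F V // IsGood B a D}
  have hstab : ∀ b : {D : Fin t → Submodule F V // IsGood B a D},
      Fintype.card (MulAction.stabilizer (Equiv.Perm (Fin t)) b) = 1 := by
    intro b
    rw [Fintype.card_eq_one_iff]
    refine ⟨1, fun τ => ?_⟩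
    apply Subtype.ext
    show (τ : Equiv.Perm (Fin t)) = 1
    have h1 : (τ : Equiv.Perm (Fin t)) • b = b := τ.2
    have h2 : ∀ j, b.1 ((τ : Equiv.Perm (Fin t))⁻¹ j) = b.1 j := by
      intro j
      exact congrFun (congrArg Subtype.val h1) j
    have h3 : (τ : Equiv.Perm (Fin t))⁻¹ = 1 := by
      apply Equiv.ext
      intro j
      exact (b.2.1.injective ha) (h2 j)
    exact inv_eq_one.mp h3
  simp only [hstab, Nat.div_one, Finset.sum_const, Finset.card_univ, smul_eq_mul,
    Fintype.card_perm, Fintype.card_fin] at h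
  rw [Nat.card_eq_fintype_card, h]
  exact dvd_mul_left _ _

theorem card_good_dvd (hA : B.IsAlt) (hB : B.Nondegenerate) (a t : ℕ) (hae : Even a)
    (D₀ : Fin t → Submodule F V) (hD₀ : IsGood B a D₀) :
    Nat.card {D : Fin t → Submodule F V // IsGood B a D} ∣ Nat.card (isoGroup B) := by
  classical
  letI := Imp.mapAction (F := F) (V := V) t
  obtain ⟨m, hm⟩ := hae
  have hset : MulAction.orbit (isoGroup B) D₀ = {D | IsGood B a D} := by
    ext D
    constructor
    · rintro ⟨g, rfl⟩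
      exact hD₀.map hA g.2
    · intro hD
      obtain ⟨g, hg, hgD⟩ := exists_iso_of_decomp B hA hB D₀ D hD₀.2.1
        (fun j => by rw [hD₀.1.1 j, hm, two_mul]) hD₀.2.2 hD.2.1
        (fun j => by rw [hD.1.1 j, hm, two_mul]) hD.2.2
      exact ⟨⟨g, hg⟩, funext hgD⟩
  have h1 : Nat.card (MulAction.orbit (isoGroup B) D₀) =
      Nat.card {D : Fin t → Submodule F V // IsGood B a D} :=
    Nat.card_congr (Equiv.setCongr hset)
  rw [← h1, Nat.card_congr (MulAction.orbitEquivQuotientStabilizer (isoGroup B) D₀),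
    Subgroup.card_eq_card_quotient_mul_card_subgroup (MulAction.stabilizer (isoGroup B) D₀)]
  exact dvd_mul_right _ _

/-- Cauchy: an isometry of order `r` -/
theorem exists_order_r (r : ℕ) [hr : Fact r.Prime] (hdvd : r ∣ Nat.card (isoGroup B)) :
    ∃ y : Module.End F V, IsIsom B y ∧ y ^ r = 1 ∧ y ≠ 1 := by
  haveI : Finite V := Module.finite_of_finite F
  haveI : Finite (V ≃ₗ[F] V) :=
    Finite.of_injective (fun g : V ≃ₗ[F] V => (g : V → V)) DFunLike.coe_injective
  obtain ⟨g, hg⟩ := exists_prime_orderOf_dvd_card' r hdvd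
  refine ⟨((g : V ≃ₗ[F] V) : V →ₗ[F] V), fun u v => g.2 u v, ?_, ?_⟩
  · have h1 : g ^ r = 1 := by
      rw [← hg]
      exact pow_orderOf_eq_one g
    have h2 : (g : V ≃ₗ[F] V) ^ r = 1 := by
      have h3 := congrArg Subtype.val h1
      exact h3
    rw [← coe_pow_equiv, h2]
    rfl
  · intro h
    have h1 : g = 1 := by
      apply Subtype.ext
      apply LinearEquiv.toLinearMap_injective
      exact h
    rw [h1, orderOf_one] at hg
    exact hr.out.one_lt.ne hg

/-- isometries of order `r` with fixed space of codimension `c * l`, for every admissible `l` -/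
theorem exists_iso_elt {p f₀ : ℕ} [hp : Fact p.Prime] (hq : Fintype.card F = p ^ f₀)
    (hA : B.IsAlt) (hB : B.Nondegenerate) (r : ℕ) [hr : Fact r.Prime] (hr2 : r ≠ 2) (hrp : r ≠ p)
    (hrF : (r : F) ≠ 0) (hrq : ¬ r ∣ Fintype.card F) (i c : ℕ)
    (hi : i = orderOf ((Fintype.card F : ℕ) : ZMod r)) (hc : c = if Even i then i else 2 * i)
    {y₀ : Module.End F V} (hy₀B : IsIsom B y₀) (hy₀ : y₀ ^ r = 1) (hy₀1 : y₀ ≠ 1) (n : ℕ)
    (hn : finrank F V = n) :
    c ≤ n ∧ ∀ l : ℕ, c * l ≤ n → ∃ y : Module.End F V, IsIsom B y ∧ y ^ r = 1 ∧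
      finrank F (LinearMap.ker (y - 1)) + c * l = n := by
  classical
  have hr0 : 0 < r := hr.out.pos
  have hce : Even c := by
    by_cases hev : Even i
    · rw [hc, if_pos hev]
      exact hev
    · rw [hc, if_neg hev]
      exact even_two_mul i
  obtain ⟨m₀, hm₀⟩ := hce
  -- a block for `y₀`
  obtain ⟨WN, -, hWNnd, hWNi, hWNC, hWNfin, -, -⟩ :=
    moving_part B hA hB hy₀B hr0 hrF hy₀ (nd_top B hA hB) (fun x _ => Submodule.mem_top)
  have hWN0 : WN ≠ ⊥ := by
    intro h
    rw [h, finrank_bot, top_inf_eq, finrank_top] at hWNfin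
    have hle := Submodule.finrank_le (LinearMap.ker (y₀ - 1))
    have htop : LinearMap.ker (y₀ - 1) = ⊤ := Submodule.eq_top_of_finrank_eq (by omega)
    apply hy₀1
    apply LinearMap.ext
    intro v
    have hv : v ∈ LinearMap.ker (y₀ - 1) := by
      rw [htop]
      trivial
    rw [Elus.mem_ker_sub_one.mp hv, Module.End.one_apply]
  obtain ⟨Z₁, hZ₁W, hZ₁nd, hZ₁i, hZ₁fin⟩ := exists_nd_block B hq hA hB r hr2 hrp hrF hrq hy₀B hy₀
    i c hi hc hWNnd hWNi hWNC hWN0
  have hZ₁C : Z₁ ⊓ LinearMap.ker (y₀ - 1) = ⊥ := by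
    rw [eq_bot_iff, ← hWNC]
    exact inf_le_inf_right _ hZ₁W
  have hcn : c ≤ n := by
    rw [← hZ₁fin, ← hn]
    exact Submodule.finrank_le Z₁
  refine ⟨hcn, ?_⟩
  intro l
  induction l with
  | zero =>
    intro _
    refine ⟨1, isIsom_one B, one_pow r, ?_⟩
    rw [sub_self, LinearMap.ker_zero, finrank_top, hn, Nat.mul_zero, add_zero]
  | succ l ih =>
    intro hl
    rw [Nat.mul_succ] at hl
    obtain ⟨y, hyB, hy, hyfin⟩ := ih (by omega)
    have hCnd : ND B (LinearMap.ker (y - 1)) := by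
      have h := nd_fix B hA hyB hrF hy (nd_top B hA hB) (fun x _ => Submodule.mem_top)
      rwa [top_inf_eq] at h
    obtain ⟨C', hC'C, hC'nd, hC'i, hC'fin⟩ := grow_planes B hA hB y hCnd le_rfl m₀ (by omega)
    have hC'fin' : finrank F C' = c := by omega
    -- Witt
    obtain ⟨h, hh, hmap⟩ := exists_iso_of_decomp B hA hB (t := 1) (m := m₀) (fun _ => Z₁)
      (fun _ => C') (fun _ => hZ₁nd) (fun _ => by rw [hZ₁fin]; omega)
      (fun j j' hjj' => absurd (Subsingleton.elim j j') hjj') (fun _ => hC'nd)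
      (fun _ => by rw [hC'fin]) (fun j j' hjj' => absurd (Subsingleton.elim j j') hjj')
    have hmap' : Z₁.map (h : V →ₗ[F] V) = C' := hmap 0
    have hy'B : IsIsom B ((h.toLinearMap ∘ₗ y₀ ∘ₗ h.symm.toLinearMap : Module.End F V)) := by
      intro u v
      show B (h (y₀ (h.symm u))) (h (y₀ (h.symm v))) = B u v
      rw [hh, hy₀B, ← hh (h.symm u) (h.symm v), h.apply_symm_apply, h.apply_symm_apply]
    have hy' : (h.toLinearMap ∘ₗ y₀ ∘ₗ h.symm.toLinearMap : Module.End F V) ^ r = 1 := by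
      apply LinearMap.ext
      intro v
      rw [Elus.conj_pow, hy₀, Module.End.one_apply, Module.End.one_apply, h.apply_symm_apply]
    have hy'i : Elus.Inv (h.toLinearMap ∘ₗ y₀ ∘ₗ h.symm.toLinearMap : Module.End F V) C' := by
      intro v hv
      rw [← hmap'] at hv ⊢
      obtain ⟨z, hz, rfl⟩ := hv
      refine ⟨y₀ z, hZ₁i z hz, ?_⟩
      show h (y₀ z) = h (y₀ (h.symm (h z)))
      rw [h.symm_apply_apply]
    have hy'C : C' ⊓ LinearMap.ker
        ((h.toLinearMap ∘ₗ y₀ ∘ₗ h.symm.toLinearMap : Module.End F V) - 1) = ⊥ := by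
      rw [eq_bot_iff]
      rintro v ⟨hv, hv2⟩
      rw [← hmap'] at hv
      obtain ⟨z, hz, rfl⟩ := hv
      have h3 : h (y₀ (h.symm (h z))) = h z := Elus.mem_ker_sub_one.mp hv2
      rw [h.symm_apply_apply] at h3
      have h4 : z ∈ Z₁ ⊓ LinearMap.ker (y₀ - 1) :=
        ⟨hz, Elus.mem_ker_sub_one.mpr (h.injective h3)⟩
      rw [hZ₁C] at h4
      rw [(Submodule.mem_bot F).mp h4, map_zero]
      exact Submodule.zero_mem _
    generalize (h.toLinearMap ∘ₗ y₀ ∘ₗ h.symm.toLinearMap : Module.End F V) = y' at hy'B hy' hy'i hy'C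
    have hPi2 : Elus.Inv y (B.orthogonal C') :=
      inv_perp B hyB hr0 hy (Elus.inv_of_le_ker hC'C)
    obtain ⟨g, hgB, hg, hg1, hg2⟩ := glue_iso B hA hC'nd y' y hy'B hyB hy'i hPi2 r hy' hy
    refine ⟨g, hgB, hg, ?_⟩
    have hcomp := nd_isCompl B hA hC'nd
    have hgi1 : Elus.Inv g C' := by
      intro u hu
      rw [hg1 u hu]
      exact hy'i u hu
    have hgi2 : Elus.Inv g (B.orthogonal C') := by
      intro u hu
      rw [hg2 u hu]
      exact hPi2 u hu
    have hfa := Imp.fix_add g hgi1 hgi2 hcomp.disjoint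
    rw [hcomp.sup_eq_top, top_inf_eq] at hfa
    have h5 : C' ⊓ LinearMap.ker (g - 1) = ⊥ := by
      rw [eq_bot_iff, ← hy'C]
      rintro u ⟨hu, hu2⟩
      refine ⟨hu, Elus.mem_ker_sub_one.mpr ?_⟩
      rw [← hg1 u hu]
      exact Elus.mem_ker_sub_one.mp hu2
    have h6 : B.orthogonal C' ⊓ LinearMap.ker (g - 1) =
        LinearMap.ker (y - 1) ⊓ B.orthogonal C' := by
      ext u
      constructor
      · rintro ⟨hu, hu2⟩
        refine ⟨Elus.mem_ker_sub_one.mpr ?_, hu⟩
        rw [← hg2 u hu]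
        exact Elus.mem_ker_sub_one.mp hu2
      · rintro ⟨hu2, hu⟩
        refine ⟨hu, Elus.mem_ker_sub_one.mpr ?_⟩
        rw [hg2 u hu]
        exact Elus.mem_ker_sub_one.mp hu2
    rw [h5, finrank_bot, zero_add, h6, finrank_perp_in B hA hB hCnd hC'C, hC'fin'] at hfa
    rw [hfa, Nat.mul_succ]
    omega

end Fin

end Cfsg.Agent.Lib.Helper2.SpImp
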