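import Mathlib
import Cfsg.Agent.Lib.Helper2.SpImpD
import Cfsg.Agent.Lib.Helper5.SympBridge
set_option autoImplicit false
set_option maxHeartbeats 1000000
set_option linter.unusedVariables false
set_option linter.unusedSectionVars false
set_option linter.style.longLine false
set_option linter.unusedSimpArgs false
set_option linter.deprecated false
set_option linter.style.haveILetI false

/-! Imprimitive decompositions in symplectic spaces (part E): the main theorem for isometries of
order `r` of a general symplectic space, and the bridge to symplectic matrices. -/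

namespace Cfsg.Agent.Lib.Helper2.SpImp

open Module Polynomial Cfsg.Agent.Lib.Helper2

universe u v

theorem mod_le_of_eq (n k c l : ℕ) (h : n = k + c * l) : n % c ≤ k := by
  subst h
  rw [Nat.add_mul_mod_self_left]
  exact Nat.mod_le _ _

theorem arith1 (a t c : ℕ) (h : ¬ (a * t) % c = t * (a % c)) : c ≤ (a % c) * t := by
  by_contra hlt
  push Not at hlt
  apply h
  have h1 : a * t = c * ((a / c) * t) + (a % c) * t := by
    conv_lhs => rw [← Nat.div_add_mod a c]
    ring
  rw [h1, Nat.mul_add_mod, Nat.mod_eq_of_lt hlt, mul_comm]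

theorem c_dvd_pred (r : ℕ) [hr : Fact r.Prime] (hr2 : r ≠ 2) (q : ℕ) (hrq : ¬ r ∣ q) (i c : ℕ)
    (hi : i = orderOf ((q : ℕ) : ZMod r)) (hc : c = if Even i then i else 2 * i) : c ∣ r - 1 := by
  have hq0 : ((q : ℕ) : ZMod r) ≠ 0 := by
    intro h
    exact hrq ((ZMod.natCast_eq_zero_iff _ _).mp h)
  have hidvd : i ∣ r - 1 := by
    rw [hi]
    exact ZMod.orderOf_dvd_card_sub_one hq0
  by_cases hev : Even i
  · rw [hc, if_pos hev]
    exact hidvd
  · rw [hc, if_neg hev]
    obtain ⟨m, hm⟩ := hr.out.odd_of_ne_two hr2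
    have h2 : 2 ∣ r - 1 := ⟨m, by omega⟩
    exact Nat.Coprime.mul_dvd_of_dvd_of_dvd
      (Nat.coprime_two_left.mpr (Nat.not_even_iff_odd.mp hev)) h2 hidvd

section Main

variable {F : Type u} [Field F] [Fintype F] {V : Type v} [AddCommGroup V] [Module F V]
  [FiniteDimensional F V]
variable (B : LinearMap.BilinForm F V)

/-- the main theorem for isometries of order `r` -/
theorem sp_main {p f₀ : ℕ} [hp : Fact p.Prime] (hq : Fintype.card F = p ^ f₀)
    (hA : B.IsAlt) (hB : B.Nondegenerate) (r : ℕ) [hr : Fact r.Prime] (hr2 : r ≠ 2) (hrp : r ≠ p)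
    (hrF : (r : F) ≠ 0) (hrq : ¬ r ∣ Fintype.card F) (i c : ℕ)
    (hi : i = orderOf ((Fintype.card F : ℕ) : ZMod r)) (hc : c = if Even i then i else 2 * i)
    (n a t : ℕ) (hn : finrank F V = n) (hat : n = a * t) (ha : 2 ≤ a) (hae : Even a) (ht : 2 ≤ t)
    (hΩ : r ∣ Nat.card {D : Fin t → Submodule F V // IsGood B a D} / Nat.factorial t) :
    (∀ y : Module.End F V, IsIsom B y → y ^ r = 1 → y ≠ 1 →
      ∃ D : Fin t → Submodule F V, IsGood B a D ∧
        ∃ σ : Equiv.Perm (Fin t), ∀ j, (D j).map y = D (σ j)) ↔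
    (c ≤ a ∧ n % c = t * (a % c)) := by
  classical
  have hr0 : 0 < r := hr.out.pos
  have hipos : 0 < i := by
    rw [hi]
    exact Elus.ord_pos r (Fintype.card F) hrq
  have hcpos : 0 < c := by
    by_cases hev : Even i
    · rw [hc, if_pos hev]
      exact hipos
    · rw [hc, if_neg hev]
      omega
  have ht0 : 0 < t := by omega
  have hfinV' : finrank F V = a * t := hn.trans hat
  have hkdiv : ∀ y : Module.End F V, IsIsom B y → y ^ r = 1 →
      ∃ l, n = finrank F (LinearMap.ker (y - 1)) + c * l := by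
    intro y hyB hy
    obtain ⟨l, hl⟩ := sp_mod B hA hB hyB r hrF hrq hy i c hi hc (nd_top B hA hB)
      (fun x _ => Submodule.mem_top)
    rw [top_inf_eq, finrank_top, hn] at hl
    have hle := Submodule.finrank_le (LinearMap.ker (y - 1))
    rw [hn] at hle
    exact ⟨l, by omega⟩
  have hkmod : ∀ y : Module.End F V, IsIsom B y → y ^ r = 1 →
      n % c ≤ finrank F (LinearMap.ker (y - 1)) := by
    intro y hyB hy
    obtain ⟨l, hl⟩ := hkdiv y hyB hy
    exact mod_le_of_eq n _ c l hl
  constructor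
  · intro H
    obtain ⟨D₀, h1, h2, h3, h4, h5⟩ := sp_split B hq hA hB r hr2 hrp hrF hrq (isIsom_one B)
      (one_pow r) i c hi hc a t hae hfinV' (by
        rw [sub_self, LinearMap.ker_zero, finrank_top, hfinV']
        exact Nat.mul_le_mul_right t (Nat.mod_le _ _))
    have hD₀ : IsGood B a D₀ := ⟨⟨fun j => (h2 j).2, h4, h5⟩, h1, h3⟩
    have hfac := factorial_dvd_card_good B a t (by omega)
    have hgl := card_good_dvd B hA hB a t hae D₀ hD₀
    have hN : r ∣ Nat.card {D : Fin t → Submodule F V // IsGood B a D} := by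
      obtain ⟨m, hm⟩ := hfac
      rw [hm, Nat.mul_div_cancel_left _ (Nat.factorial_pos t)] at hΩ
      rw [hm]
      exact Dvd.dvd.mul_left hΩ _
    obtain ⟨y₀, hy₀B, hy₀, hy₀1⟩ := exists_order_r B r (hN.trans hgl)
    obtain ⟨hcn, hel⟩ := exists_iso_elt B hq hA hB r hr2 hrp hrF hrq i c hi hc hy₀B hy₀ hy₀1 n hn
    have han : a ≤ n := by
      rw [hat]
      exact Nat.le_mul_of_pos_right a ht0
    by_cases hca : c ≤ a
    · refine ⟨hca, ?_⟩
      by_contra hB'
      have hat0 : c ≤ (a % c) * t := arith1 a t c (by rw [← hat]; exact hB')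
      obtain ⟨y, hyB, hy, hker⟩ := hel (n / c) (Nat.mul_div_le n c)
      have hdm := Nat.div_add_mod n c
      have hker' : finrank F (LinearMap.ker (y - 1)) = n % c := by omega
      have hlt : n % c < c := Nat.mod_lt n hcpos
      have hy1 : y ≠ 1 := by
        intro h
        rw [h, sub_self, LinearMap.ker_zero, finrank_top, hn] at hker'
        omega
      obtain ⟨D, hDgood, σ, hσ⟩ := H y hyB hy hy1
      obtain ⟨⟨hDf, hind, htop⟩, hDnd, hDo⟩ := hDgood
      have hne : ∀ j, D j ≠ ⊥ := by
        intro j h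
        have := hDf j
        rw [h, finrank_bot] at this
        omega
      by_cases hmoved : ∃ j0, σ j0 ≠ j0
      · obtain ⟨j0, hj0⟩ := hmoved
        have h1 := Imp.finrank_le_ker_of_moved hind hne y r hy σ hσ j0 hj0
        rw [hDf, hker'] at h1
        omega
      · push Not at hmoved
        have hinv : ∀ j, Elus.Inv y (D j) := fun j =>
          Elus.inv_iff_map_le.mpr (by rw [hσ, hmoved])
        have hkj : ∀ j, a % c ≤
            finrank F (D j ⊓ LinearMap.ker (y - 1) : Submodule F V) := by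
          intro j
          obtain ⟨m, hm⟩ := sp_mod B hA hB hyB r hrF hrq hy i c hi hc (hDnd j) (hinv j)
          rw [hDf] at hm
          have hle := Submodule.finrank_mono
            (inf_le_left : D j ⊓ LinearMap.ker (y - 1) ≤ D j)
          rw [hDf] at hle
          exact mod_le_of_eq a _ c m (by omega)
        have hsum := Imp.sum_inf_le hind (LinearMap.ker (y - 1))
        have h2 : t * (a % c) ≤
            ∑ j, finrank F (D j ⊓ LinearMap.ker (y - 1) : Submodule F V) := by
          calc t * (a % c) = ∑ j : Fin t, a % c := by simp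
            _ ≤ _ := Finset.sum_le_sum (fun j _ => hkj j)
        rw [hker'] at hsum
        rw [mul_comm] at hat0
        omega
    · push Not at hca
      exfalso
      obtain ⟨y, hyB, hy, hker⟩ := hel 1 (by omega)
      rw [Nat.mul_one] at hker
      have hy1 : y ≠ 1 := by
        intro h
        rw [h, sub_self, LinearMap.ker_zero, finrank_top, hn] at hker
        omega
      obtain ⟨D, hDgood, σ, hσ⟩ := H y hyB hy hy1
      obtain ⟨⟨hDf, hind, htop⟩, hDnd, hDo⟩ := hDgood
      have hne : ∀ j, D j ≠ ⊥ := by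
        intro j h
        have := hDf j
        rw [h, finrank_bot] at this
        omega
      by_cases hmoved : ∃ j0, σ j0 ≠ j0
      · obtain ⟨j0, hj0⟩ := hmoved
        have h1 := Imp.rank_ge_of_moved' hind hne y r hy σ hσ j0 hj0
        have h2 := LinearMap.finrank_range_add_finrank_ker (y - 1)
        rw [hn] at h2
        rw [hDf] at h1
        have hcdvd : c ∣ r - 1 := c_dvd_pred r hr2 (Fintype.card F) hrq i c hi hc
        have hr3 := hr.out.two_le
        have hcle : c ≤ r - 1 := Nat.le_of_dvd (by omega) hcdvd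
        have h3 : (r - 1) * 2 ≤ (r - 1) * a := Nat.mul_le_mul_left _ ha
        omega
      · push Not at hmoved
        have hinv : ∀ j, Elus.Inv y (D j) := fun j =>
          Elus.inv_iff_map_le.mpr (by rw [hσ, hmoved])
        have hkj : ∀ j, finrank F (D j ⊓ LinearMap.ker (y - 1) : Submodule F V) = a := by
          intro j
          obtain ⟨m, hm⟩ := sp_mod B hA hB hyB r hrF hrq hy i c hi hc (hDnd j) (hinv j)
          rw [hDf] at hm
          have hle := Submodule.finrank_mono
            (inf_le_left : D j ⊓ LinearMap.ker (y - 1) ≤ D j)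
          rw [hDf] at hle
          rcases Nat.eq_zero_or_pos m with h0 | h0
          · rw [h0, Nat.mul_zero] at hm
            omega
          · have h4 : c ≤ c * m := Nat.le_mul_of_pos_right c h0
            omega
        have hsum := Imp.sum_inf_le hind (LinearMap.ker (y - 1))
        rw [Finset.sum_congr rfl (fun j _ => hkj j), Finset.sum_const, Finset.card_univ,
          Fintype.card_fin, smul_eq_mul, mul_comm] at hsum
        omega
  · rintro ⟨hca, hB'⟩ y hyB hy _
    obtain ⟨D, h1, h2, h3, h4, h5⟩ := sp_split B hq hA hB r hr2 hrp hrF hrq hyB hy i c hi hc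
      a t hae hfinV' (by
        rw [mul_comm, ← hB']
        exact hkmod y hyB hy)
    exact ⟨D, ⟨⟨fun j => (h2 j).2, h4, h5⟩, h1, h3⟩, 1,
      fun j => Imp.map_eq_of_inv hr0 hy (h2 j).1⟩

end Main

section Scalar

variable {F : Type u} [Field F] {V : Type v} [AddCommGroup V] [Module F V] [FiniteDimensional F V]
variable (B : LinearMap.BilinForm F V)

theorem scalar_sq (hB : B.Nondegenerate) [Nontrivial V] (z : F)
    (h : IsIsom B (z • (1 : Module.End F V))) : z * z = 1 := by
  obtain ⟨u, hu⟩ := exists_ne (0 : V)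
  have hex : ∃ v, B u v ≠ 0 := by
    by_contra hcon
    push Not at hcon
    exact hu (hB.1 u hcon)
  obtain ⟨v, hv⟩ := hex
  have h1 := h u v
  rw [LinearMap.smul_apply, LinearMap.smul_apply, Module.End.one_apply, Module.End.one_apply,
    map_smul, map_smul, LinearMap.smul_apply, smul_eq_mul, smul_eq_mul, ← mul_assoc] at h1
  have h2 : (z * z - 1) * B u v = 0 := by
    rw [sub_mul, h1, one_mul, sub_self]
  rcases mul_eq_zero.mp h2 with h3 | h3
  · exact sub_eq_zero.mp h3
  · exact absurd h3 hv

theorem smul_one_inj' [Nontrivial V] {a b : F}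
    (h : a • (1 : Module.End F V) = b • 1) : a = b := by
  obtain ⟨u, hu⟩ := exists_ne (0 : V)
  have h1 := congrArg (fun T : Module.End F V => T u) h
  simp only [LinearMap.smul_apply, Module.End.one_apply] at h1
  have h2 : (a - b) • u = 0 := by rw [sub_smul, h1, sub_self]
  rcases smul_eq_zero.mp h2 with h3 | h3
  · exact sub_eq_zero.mp h3
  · exact absurd h3 hu

/-- reduction from isometries with scalar `r`-th power to isometries of order `r` -/
theorem sp_scalar_reduce (hB : B.Nondegenerate) [Nontrivial V] (r : ℕ) [hr : Fact r.Prime]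
    (hr2 : r ≠ 2) (S : Module.End F V → Prop)
    (hS : ∀ (f : Module.End F V) (z : F), z ≠ 0 → S (z • f) → S f) :
    (∀ x : Module.End F V, IsIsom B x → (∃ z : F, x ^ r = z • 1) → (∀ z : F, x ≠ z • 1) → S x) ↔
    (∀ y : Module.End F V, IsIsom B y → y ^ r = 1 → y ≠ 1 → S y) := by
  obtain ⟨m, hm⟩ := hr.out.odd_of_ne_two hr2
  constructor
  · intro H y hyB hy hy1
    apply H y hyB ⟨1, by rw [hy, one_smul]⟩
    intro z hz
    apply hy1
    have hzz : z * z = 1 := scalar_sq B hB z (hz ▸ hyB)
    have h3 : (z • (1 : Module.End F V)) ^ r = 1 := by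
      rw [← hz]
      exact hy
    rw [_root_.smul_pow, one_pow] at h3
    have h4 : z ^ r • (1 : Module.End F V) = (1 : F) • 1 := by rw [h3, one_smul]
    have h5 : z ^ r = 1 := smul_one_inj' h4
    have h6 : z = 1 := by
      rw [hm, pow_succ, pow_mul, pow_two, hzz, one_pow, one_mul] at h5
      exact h5
    rw [hz, h6, one_smul]
  · rintro H x hxB ⟨z, hxz⟩ hxns
    have hzz : z * z = 1 := by
      apply scalar_sq B hB z
      rw [← hxz]
      exact hxB.pow r
    have hz0 : z ≠ 0 := by
      rintro rfl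
      rw [mul_zero] at hzz
      exact zero_ne_one hzz
    have hyB : IsIsom B (z • x) := by
      intro u v
      rw [LinearMap.smul_apply, LinearMap.smul_apply, map_smul, map_smul, LinearMap.smul_apply,
        smul_eq_mul, smul_eq_mul, ← mul_assoc, hzz, one_mul, hxB]
    have hy : (z • x) ^ r = 1 := by
      rw [_root_.smul_pow, hxz, smul_smul, ← pow_succ, hm]
      have h1 : z ^ (2 * m + 1 + 1) = 1 := by
        have h2 : 2 * m + 1 + 1 = 2 * (m + 1) := by ring
        rw [h2, pow_mul, pow_two, hzz, one_pow]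
      rw [h1, one_smul]
    have hy1 : z • x ≠ 1 := by
      intro h
      apply hxns z
      have h1 : z • (z • x) = z • (1 : Module.End F V) := by rw [h]
      rw [smul_smul, hzz, one_smul] at h1
      exact h1
    exact hS x z hz0 (H (z • x) hyB hy hy1)

end Scalar

section Mat

open Matrix Cfsg.Agent.Lib.Helper5.SympBridge

variable {F : Type u} [Field F]

theorem toLin'_pow_gen {ι : Type*} [Fintype ι] [DecidableEq ι] (M : Matrix ι ι F) (k : ℕ) :
    Matrix.toLin' (M ^ k) = (Matrix.toLin' M : Module.End F (ι → F)) ^ k := by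
  induction k with
  | zero =>
    rw [pow_zero, pow_zero, Matrix.toLin'_one]
    rfl
  | succ k ih =>
    rw [pow_succ, pow_succ, Matrix.toLin'_mul, ih]
    rfl

theorem toLin'_smul_one_gen {ι : Type*} [Fintype ι] [DecidableEq ι] (c : F) :
    Matrix.toLin' (c • (1 : Matrix ι ι F)) = c • (1 : Module.End F (ι → F)) := by
  rw [map_smul, Matrix.toLin'_one]
  rfl

/-- the bridge between symplectic matrices and isometries of `sympForm` -/
theorem sp_matrix_bridge (d r : ℕ) (S : Module.End F (Fin d ⊕ Fin d → F) → Prop) :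
    (∀ x : ↥(Matrix.symplecticGroup (Fin d) F),
      (∃ z : F, ((x ^ r : ↥(Matrix.symplecticGroup (Fin d) F)) :
        Matrix (Fin d ⊕ Fin d) (Fin d ⊕ Fin d) F) = z • (1 : Matrix (Fin d ⊕ Fin d) (Fin d ⊕ Fin d) F)) →
      (∀ z : F, (x : Matrix (Fin d ⊕ Fin d) (Fin d ⊕ Fin d) F) ≠
        z • (1 : Matrix (Fin d ⊕ Fin d) (Fin d ⊕ Fin d) F)) →
      S (Matrix.toLin' (x : Matrix (Fin d ⊕ Fin d) (Fin d ⊕ Fin d) F))) ↔
    (∀ f : Module.End F (Fin d ⊕ Fin d → F), IsIsom (sympBilin F d) f →
      (∃ z : F, f ^ r = z • 1) → (∀ z : F, f ≠ z • 1) → S f) := by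
  have hpow : ∀ (x : ↥(Matrix.symplecticGroup (Fin d) F)) (z : F),
      ((x ^ r : ↥(Matrix.symplecticGroup (Fin d) F)) :
        Matrix (Fin d ⊕ Fin d) (Fin d ⊕ Fin d) F) = z • 1 ↔
      (Matrix.toLin' (x : Matrix (Fin d ⊕ Fin d) (Fin d ⊕ Fin d) F) :
        Module.End F (Fin d ⊕ Fin d → F)) ^ r = z • 1 := by
    intro x z
    rw [SubmonoidClass.coe_pow, ← toLin'_pow_gen, ← toLin'_smul_one_gen]
    exact Matrix.toLin'.injective.eq_iff.symm
  have hsc : ∀ (x : ↥(Matrix.symplecticGroup (Fin d) F)) (z : F),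
      (x : Matrix (Fin d ⊕ Fin d) (Fin d ⊕ Fin d) F) = z • 1 ↔
      (Matrix.toLin' (x : Matrix (Fin d ⊕ Fin d) (Fin d ⊕ Fin d) F) :
        Module.End F (Fin d ⊕ Fin d → F)) = z • 1 := by
    intro x z
    rw [← toLin'_smul_one_gen]
    exact Matrix.toLin'.injective.eq_iff.symm
  constructor
  · rintro H f hfB ⟨z, hfz⟩ hfns
    have hmem : LinearMap.toMatrix' f ∈ Matrix.symplecticGroup (Fin d) F := by
      rw [mem_symplectic_iff]
      intro u v
      rw [LinearMap.toMatrix'_mulVec, LinearMap.toMatrix'_mulVec]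
      exact hfB u v
    have h1 := H ⟨LinearMap.toMatrix' f, hmem⟩
      ⟨z, (hpow _ z).mpr (by
        show (Matrix.toLin' (LinearMap.toMatrix' f) : Module.End F (Fin d ⊕ Fin d → F)) ^ r = z • 1
        rw [Matrix.toLin'_toMatrix']
        exact hfz)⟩
      (fun z' hz' => hfns z' (by
        have h2 := (hsc ⟨LinearMap.toMatrix' f, hmem⟩ z').mp hz'
        rw [show Matrix.toLin' ((⟨LinearMap.toMatrix' f, hmem⟩ :
          ↥(Matrix.symplecticGroup (Fin d) F)) : Matrix (Fin d ⊕ Fin d) (Fin d ⊕ Fin d) F) = f from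
          Matrix.toLin'_toMatrix' f] at h2
        exact h2))
    rw [show Matrix.toLin' ((⟨LinearMap.toMatrix' f, hmem⟩ :
      ↥(Matrix.symplecticGroup (Fin d) F)) : Matrix (Fin d ⊕ Fin d) (Fin d ⊕ Fin d) F) = f from
      Matrix.toLin'_toMatrix' f] at h1
    exact h1
  · rintro H x ⟨z, hxz⟩ hxns
    apply H _ _ ⟨z, (hpow x z).mp hxz⟩ (fun z' hz' => hxns z' ((hsc x z').mpr hz'))
    intro u v
    rw [Matrix.toLin'_apply, Matrix.toLin'_apply]
    exact (mem_symplectic_iff d _).mp x.2 u v

end Mat

end Cfsg.Agent.Lib.Helper2.SpImp
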