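import Mathlib
import Cfsg.Agent.Lib.Helper2.SpImpE
set_option autoImplicit false
set_option maxHeartbeats 1000000
set_option linter.unusedVariables false
set_option linter.unusedSectionVars false
set_option linter.style.longLine false
set_option linter.unusedSimpArgs false
set_option linter.deprecated false
set_option linter.style.haveILetI false

/-! Totally isotropic subspaces of symplectic spaces (part A): common zeros of quadratic forms
(Chevalley–Warning), basic facts on totally isotropic subspaces, Witt transitivity, and the count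
of totally isotropic subspaces over a finite field. -/

namespace Cfsg.Agent.Lib.Helper2.SpTi

open Module Cfsg.Agent.Lib.Helper2 Cfsg.Agent.Lib.Helper2.SpImp

universe u v

section CW

variable {F : Type u} [Field F] [Fintype F] {V : Type v} [AddCommGroup V] [Module F V]
  [FiniteDimensional F V]

/-- Chevalley–Warning for quadratic forms: `k` quadratic forms in more than `2k` variables over a
finite field have a common nontrivial zero. -/
theorem exists_common_zero {k : ℕ} (β : Fin k → LinearMap.BilinForm F V)
    (hk : 2 * k < finrank F V) : ∃ v : V, v ≠ 0 ∧ ∀ j, β j v v = 0 := by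
  classical
  obtain ⟨p, hp⟩ := CharP.exists F
  haveI := hp
  have hp2 : 2 ≤ p := (CharP.char_is_prime F p).two_le
  let b : Basis (Fin (finrank F V)) F V := Module.finBasis F V
  let f : Fin k → MvPolynomial (Fin (finrank F V)) F := fun j =>
    ∑ a, ∑ a', MvPolynomial.C (β j (b a) (b a')) * MvPolynomial.X a * MvPolynomial.X a'
  have hdeg : ∀ j, (f j).totalDegree ≤ 2 := by
    intro j
    refine (MvPolynomial.totalDegree_finset_sum _ _).trans (Finset.sup_le fun a _ => ?_)
    refine (MvPolynomial.totalDegree_finset_sum _ _).trans (Finset.sup_le fun a' _ => ?_)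
    refine (MvPolynomial.totalDegree_mul _ _).trans ?_
    have h1 := MvPolynomial.totalDegree_mul (MvPolynomial.C (β j (b a) (b a')))
      (MvPolynomial.X a : MvPolynomial (Fin (finrank F V)) F)
    rw [MvPolynomial.totalDegree_C, MvPolynomial.totalDegree_X, zero_add] at h1
    rw [MvPolynomial.totalDegree_X]
    omega
  have hsum : ∑ j, (f j).totalDegree < Fintype.card (Fin (finrank F V)) := by
    calc ∑ j, (f j).totalDegree ≤ ∑ j : Fin k, 2 := Finset.sum_le_sum (fun j _ => hdeg j)
      _ = 2 * k := by simp [mul_comm]
      _ < Fintype.card (Fin (finrank F V)) := by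
        rw [Fintype.card_fin]
        exact hk
  have hdvd := char_dvd_card_solutions_of_fintype_sum_lt p hsum
  have heval : ∀ (x : Fin (finrank F V) → F) (j : Fin k),
      MvPolynomial.eval x (f j) = β j (∑ a, x a • b a) (∑ a, x a • b a) := by
    intro x j
    have e1 : β j (∑ a, x a • b a) (∑ a, x a • b a) =
        ∑ a, ∑ a', x a * (x a' * β j (b a) (b a')) := by
      simp only [map_sum, LinearMap.sum_apply, map_smul, LinearMap.smul_apply, smul_eq_mul,
        Finset.mul_sum]
      rw [Finset.sum_comm]
      refine Finset.sum_congr rfl fun a _ => Finset.sum_congr rfl fun a' _ => ?_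
      ring
    rw [e1]
    simp only [f, map_sum, map_mul, MvPolynomial.eval_C, MvPolynomial.eval_X]
    refine Finset.sum_congr rfl fun a _ => Finset.sum_congr rfl fun a' _ => ?_
    ring
  have hzero : ∀ j, MvPolynomial.eval (0 : Fin (finrank F V) → F) (f j) = 0 := by
    intro j
    rw [heval]
    simp
  haveI hne : Nonempty {x : Fin (finrank F V) → F // ∀ j, MvPolynomial.eval x (f j) = 0} :=
    ⟨⟨0, hzero⟩⟩
  rw [Fintype.card_eq_nat_card] at hdvd
  have hpos : 1 < Nat.card {x : Fin (finrank F V) → F // ∀ j, MvPolynomial.eval x (f j) = 0} :=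
    lt_of_lt_of_le (show 1 < p by omega) (Nat.le_of_dvd Nat.card_pos hdvd)
  haveI hnt := Finite.one_lt_card_iff_nontrivial.mp hpos
  obtain ⟨x, hx⟩ := exists_ne (⟨0, hzero⟩ :
    {x : Fin (finrank F V) → F // ∀ j, MvPolynomial.eval x (f j) = 0})
  refine ⟨∑ a, x.1 a • b a, ?_, fun j => by rw [← heval]; exact x.2 j⟩
  intro h0
  apply hx
  apply Subtype.ext
  funext a
  exact (Fintype.linearIndependent_iff.mp b.linearIndependent) x.1 h0 a

end CW

section TIsec

variable {F : Type u} [Field F] {V : Type v} [AddCommGroup V] [Module F V] [FiniteDimensional F V]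
variable (B : LinearMap.BilinForm F V)

/-- totally isotropic subspaces -/
def TI (W : Submodule F V) : Prop := ∀ u ∈ W, ∀ v ∈ W, B u v = 0

theorem ti_bot : TI B (⊥ : Submodule F V) := by
  intro u hu v _
  rw [(Submodule.mem_bot F).mp hu, map_zero, LinearMap.zero_apply]

theorem TI.mono {B : LinearMap.BilinForm F V} {W W' : Submodule F V} (h : TI B W) (hle : W' ≤ W) :
    TI B W' :=
  fun u hu v hv => h u (hle hu) v (hle hv)

theorem ti_le_perp {W : Submodule F V} (h : TI B W) : W ≤ B.orthogonal W :=
  fun v hv => (mem_perp B).mpr (fun w hw => h w hw v hv)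

theorem ti_of_le_perp {W : Submodule F V} (h : W ≤ B.orthogonal W) : TI B W :=
  fun u hu v hv => (mem_perp B).mp (h hv) u hu

theorem ti_finrank_le (hA : B.IsAlt) (hB : B.Nondegenerate) {W N : Submodule F V} (hW : TI B W)
    (hWN : W ≤ N) (hN : ND B N) : 2 * finrank F W ≤ finrank F N := by
  have h1 := finrank_perp_in B hA hB hN hWN
  have h2 : W ≤ N ⊓ B.orthogonal W := le_inf hWN (ti_le_perp B hW)
  have h3 := Submodule.finrank_mono h2
  have h4 := Submodule.finrank_mono hWN
  omega

theorem ti_sup (hA : B.IsAlt) {X Y : Submodule F V} (hX : TI B X) (hY : TI B Y)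
    (hXY : Orth B X Y) : TI B (X ⊔ Y) := by
  intro u hu v hv
  obtain ⟨x, hx, y, hy, rfl⟩ := Submodule.mem_sup.mp hu
  obtain ⟨x', hx', y', hy', rfl⟩ := Submodule.mem_sup.mp hv
  have e1 := hX x hx x' hx'
  have e2 := hY y hy y' hy'
  have e3 := hXY x hx y' hy'
  have e4 := swap_zero B hA (hXY x' hx' y hy)
  simp only [map_add, LinearMap.add_apply]
  rw [e1, e2, e3, e4]
  simp

theorem orth_span {ι κ : Type*} (s : ι → V) (t : κ → V) (h : ∀ a b, B (s a) (t b) = 0) :
    Orth B (Submodule.span F (Set.range s)) (Submodule.span F (Set.range t)) := by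
  have h1 : ∀ b, Submodule.span F (Set.range s) ≤ LinearMap.ker (B.flip (t b)) := by
    intro b
    rw [Submodule.span_le]
    rintro _ ⟨a, rfl⟩
    rw [SetLike.mem_coe, LinearMap.mem_ker]
    show B (s a) (t b) = 0
    exact h a b
  intro u hu v hv
  have h2 : Submodule.span F (Set.range t) ≤ LinearMap.ker (B u) := by
    rw [Submodule.span_le]
    rintro _ ⟨b, rfl⟩
    rw [SetLike.mem_coe, LinearMap.mem_ker]
    have h3 := h1 b hu
    rw [LinearMap.mem_ker] at h3
    exact h3
  exact LinearMap.mem_ker.mp (h2 hv)

theorem ti_span {ι : Type*} (s : ι → V) (h : ∀ a b, B (s a) (s b) = 0) :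
    TI B (Submodule.span F (Set.range s)) :=
  orth_span B s s h

/-- totally isotropic subspaces of every dimension up to half inside a nondegenerate subspace -/
theorem exists_ti (hA : B.IsAlt) (hB : B.Nondegenerate) {Z : Submodule F V} (hZ : ND B Z) (k : ℕ)
    (hk : finrank F Z = 2 * k) (j : ℕ) (hj : j ≤ k) :
    ∃ W : Submodule F V, W ≤ Z ∧ TI B W ∧ finrank F W = j := by
  classical
  obtain ⟨e, f, he, hf, h1, h2, h3⟩ := exists_hyp_basis B hA hB k Z hZ hk
  have hli := hyp_li B hA e f h1 h2 h3
  have hgli : LinearIndependent F (fun a : Fin j => e (Fin.castLE hj a)) := by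
    have h4 := hli.comp (fun a : Fin j => (Sum.inl (Fin.castLE hj a) : Fin k ⊕ Fin k)) (by
      intro a a' haa'
      exact Fin.castLE_injective hj (Sum.inl_injective haa'))
    exact h4
  refine ⟨Submodule.span F (Set.range (fun a : Fin j => e (Fin.castLE hj a))), ?_,
    ti_span B _ (fun a b => h2 _ _), ?_⟩
  · rw [Submodule.span_le]
    rintro _ ⟨a, rfl⟩
    exact he _
  · rw [finrank_span_eq_card hgli, Fintype.card_fin]

/-- Witt: totally isotropic subspaces of the same dimension are related by an isometry -/
theorem exists_iso_of_ti (hA : B.IsAlt) (hB : B.Nondegenerate) {W W' : Submodule F V}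
    (hW : TI B W) (hW' : TI B W') (hfin : finrank F W = finrank F W') :
    ∃ g : V ≃ₗ[F] V, (∀ u v, B (g u) (g v) = B u v) ∧ W.map (g : V →ₗ[F] V) = W' := by
  classical
  let β : Basis (Fin (finrank F W)) F W := Module.finBasisOfFinrankEq F W rfl
  let β' : Basis (Fin (finrank F W)) F W' := Module.finBasisOfFinrankEq F W' hfin.symm
  have hli : LinearIndependent F (fun a => ((β a : W) : V)) :=
    β.linearIndependent.map' W.subtype (Submodule.ker_subtype _)
  have hli' : LinearIndependent F (fun a => ((β' a : W') : V)) :=
    β'.linearIndependent.map' W'.subtype (Submodule.ker_subtype _)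
  obtain ⟨g, hg, hgx⟩ := Cfsg.Agent.Lib.Helper5.AltWitt.witt_family B hB hA _
    (fun a => ((β a : W) : V)) (fun a => ((β' a : W') : V)) hli hli' (fun a b => by
      rw [hW _ (β a).2 _ (β b).2, hW' _ (β' a).2 _ (β' b).2])
  have hspan : Submodule.span F (Set.range (fun a => ((β a : W) : V))) = W := by
    have h1 : (fun a => ((β a : W) : V)) = W.subtype ∘ β := rfl
    rw [h1, Set.range_comp, ← Submodule.map_span, β.span_eq, Submodule.map_subtype_top]
  have hspan' : Submodule.span F (Set.range (fun a => ((β' a : W') : V))) = W' := by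
    have h1 : (fun a => ((β' a : W') : V)) = W'.subtype ∘ β' := rfl
    rw [h1, Set.range_comp, ← Submodule.map_span, β'.span_eq, Submodule.map_subtype_top]
  refine ⟨g, hg, ?_⟩
  conv_lhs => rw [← hspan]
  rw [Submodule.map_span, ← Set.range_comp, ← hspan']
  congr 2
  funext a
  exact hgx a

end TIsec

section Count

variable {F : Type u} [Field F] [Fintype F] {V : Type v} [AddCommGroup V] [Module F V]
  [FiniteDimensional F V]
variable (B : LinearMap.BilinForm F V)

/-- totally isotropic frames -/
def IsTIFrame {k : ℕ} (s : Fin k → V) : Prop :=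
  LinearIndependent F s ∧ ∀ a b, B (s a) (s b) = 0

theorem card_fiber_frame (hA : B.IsAlt) (hB : B.Nondegenerate) {k : ℕ} (s : Fin k → V)
    (hs : IsTIFrame B s) :
    Nat.card {x : V // x ∉ Submodule.span F (Set.range s) ∧ ∀ a, B (s a) x = 0} =
      Fintype.card F ^ (finrank F V - k) - Fintype.card F ^ k := by
  classical
  haveI : Finite V := Module.finite_of_finite F
  have hWfin : finrank F (Submodule.span F (Set.range s)) = k := by
    rw [finrank_span_eq_card hs.1, Fintype.card_fin]
  have hti : TI B (Submodule.span F (Set.range s)) := ti_span B s hs.2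
  have hle := ti_le_perp B hti
  have hperp : ∀ x : V, (∀ a, B (s a) x = 0) ↔
      x ∈ B.orthogonal (Submodule.span F (Set.range s)) := by
    intro x
    rw [mem_perp B]
    constructor
    · intro h w hw
      have h1 : Submodule.span F (Set.range s) ≤ LinearMap.ker (B.flip x) := by
        rw [Submodule.span_le]
        rintro _ ⟨a, rfl⟩
        rw [SetLike.mem_coe, LinearMap.mem_ker]
        show B (s a) x = 0
        exact h a
      have h2 := h1 hw
      rw [LinearMap.mem_ker] at h2
      exact h2
    · intro h a
      exact h _ (Submodule.subset_span ⟨a, rfl⟩)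
  have hset : {x : V | x ∉ Submodule.span F (Set.range s) ∧ ∀ a, B (s a) x = 0} =
      (B.orthogonal (Submodule.span F (Set.range s)) : Set V) \
        (Submodule.span F (Set.range s) : Set V) := by
    ext x
    simp only [Set.mem_setOf_eq, Set.mem_diff, SetLike.mem_coe]
    rw [hperp x]
    exact and_comm
  have h1 : Nat.card {x : V // x ∉ Submodule.span F (Set.range s) ∧ ∀ a, B (s a) x = 0} =
      Set.ncard {x : V | x ∉ Submodule.span F (Set.range s) ∧ ∀ a, B (s a) x = 0} := rfl
  rw [h1, hset, Set.ncard_diff (by exact hle) (Set.toFinite _)]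
  have h2 : Set.ncard (B.orthogonal (Submodule.span F (Set.range s)) : Set V) =
      Fintype.card F ^ (finrank F V - k) := by
    have h3 : Set.ncard (B.orthogonal (Submodule.span F (Set.range s)) : Set V) =
        Nat.card (B.orthogonal (Submodule.span F (Set.range s))) := rfl
    rw [h3, Module.natCard_eq_pow_finrank (K := F), Nat.card_eq_fintype_card,
      LinearMap.BilinForm.finrank_orthogonal hB, hWfin]
  have h4 : Set.ncard (Submodule.span F (Set.range s) : Set V) = Fintype.card F ^ k := by
    have h3 : Set.ncard (Submodule.span F (Set.range s) : Set V) =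
        Nat.card (Submodule.span F (Set.range s)) := rfl
    rw [h3, Module.natCard_eq_pow_finrank (K := F), Nat.card_eq_fintype_card, hWfin]
  rw [h2, h4]

theorem card_frames_succ (hA : B.IsAlt) (hB : B.Nondegenerate) (k : ℕ) :
    Nat.card {s : Fin (k + 1) → V // IsTIFrame B s} =
      Nat.card {s : Fin k → V // IsTIFrame B s} *
        (Fintype.card F ^ (finrank F V - k) - Fintype.card F ^ k) := by
  classical
  haveI : Finite V := Module.finite_of_finite F
  haveI : Fintype {s : Fin k → V // IsTIFrame B s} := Fintype.ofFinite _
  let Φ : {s : Fin (k + 1) → V // IsTIFrame B s} → {s : Fin k → V // IsTIFrame B s} :=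
    fun t => ⟨Fin.tail t.1, (linearIndependent_finSucc.mp t.2.1).1,
      fun a b => t.2.2 a.succ b.succ⟩
  rw [← Nat.card_congr (Equiv.sigmaFiberEquiv Φ), Nat.card_sigma]
  have hfib : ∀ s : {s : Fin k → V // IsTIFrame B s}, Nat.card {t // Φ t = s} =
      Fintype.card F ^ (finrank F V - k) - Fintype.card F ^ k := by
    intro s
    rw [← card_fiber_frame B hA hB s.1 s.2]
    apply Nat.card_congr
    exact {
      toFun := fun t => ⟨t.1.1 0, by
          have h2 : Fin.tail t.1.1 = s.1 := congrArg Subtype.val t.2
          rw [← h2]
          exact (linearIndependent_finSucc.mp t.1.2.1).2, by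
          have h2 : Fin.tail t.1.1 = s.1 := congrArg Subtype.val t.2
          intro a
          rw [← h2]
          exact t.1.2.2 a.succ 0⟩
      invFun := fun x => ⟨⟨Fin.cons x.1 s.1,
          linearIndependent_finCons.mpr ⟨s.2.1, x.2.1⟩, by
          intro a b
          induction a using Fin.cases with
          | zero =>
            induction b using Fin.cases with
            | zero =>
              rw [Fin.cons_zero]
              exact hA _
            | succ b =>
              rw [Fin.cons_zero, Fin.cons_succ]
              exact swap_zero B hA (x.2.2 b)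
          | succ a =>
            induction b using Fin.cases with
            | zero =>
              rw [Fin.cons_zero, Fin.cons_succ]
              exact x.2.2 a
            | succ b =>
              rw [Fin.cons_succ, Fin.cons_succ]
              exact s.2.2 a b⟩, Subtype.ext (by
                show Fin.tail (Fin.cons x.1 s.1 : Fin (k + 1) → V) = s.1
                exact Fin.tail_cons _ _)⟩
      left_inv := fun t => by
        apply Subtype.ext
        apply Subtype.ext
        show Fin.cons (t.1.1 0) s.1 = t.1.1
        have h2 : Fin.tail t.1.1 = s.1 := congrArg Subtype.val t.2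
        rw [← h2]
        exact Fin.cons_self_tail _
      right_inv := fun x => by
        apply Subtype.ext
        show (Fin.cons x.1 s.1 : Fin (k + 1) → V) 0 = x.1
        exact Fin.cons_zero _ _ }
  simp_rw [hfib]
  rw [Finset.sum_const, Finset.card_univ, smul_eq_mul, Nat.card_eq_fintype_card]

theorem card_frames (hA : B.IsAlt) (hB : B.Nondegenerate) (m : ℕ) :
    Nat.card {s : Fin m → V // IsTIFrame B s} =
      ∏ j ∈ Finset.range m, (Fintype.card F ^ (finrank F V - j) - Fintype.card F ^ j) := by
  induction m with
  | zero =>
    rw [Finset.range_zero, Finset.prod_empty]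
    haveI : Unique {s : Fin 0 → V // IsTIFrame B s} :=
      { default := ⟨fun a => a.elim0, linearIndependent_empty_type, fun a => a.elim0⟩
        uniq := fun s => Subtype.ext (funext fun a => a.elim0) }
    exact Nat.card_unique
  | succ m ih =>
    rw [card_frames_succ B hA hB m, ih, Finset.prod_range_succ]

/-- counting totally isotropic subspaces through frames -/
theorem card_ti_mul (hA : B.IsAlt) (hB : B.Nondegenerate) (m : ℕ) :
    Nat.card {W : Submodule F V // finrank F W = m ∧ TI B W} *
      ∏ i : Fin m, (Fintype.card F ^ m - Fintype.card F ^ (i : ℕ)) =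
      ∏ j ∈ Finset.range m, (Fintype.card F ^ (finrank F V - j) - Fintype.card F ^ j) := by
  classical
  haveI : Finite V := Module.finite_of_finite F
  haveI : Finite (Submodule F V) := Imp.finite_submodule
  haveI : Fintype {W : Submodule F V // finrank F W = m ∧ TI B W} := Fintype.ofFinite _
  rw [← card_frames B hA hB m]
  let Φ : {s : Fin m → V // IsTIFrame B s} → {W : Submodule F V // finrank F W = m ∧ TI B W} :=
    fun s => ⟨Submodule.span F (Set.range s.1), by
      rw [finrank_span_eq_card s.2.1, Fintype.card_fin], ti_span B s.1 s.2.2⟩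
  rw [← Nat.card_congr (Equiv.sigmaFiberEquiv Φ), Nat.card_sigma]
  have hfib : ∀ W : {W : Submodule F V // finrank F W = m ∧ TI B W}, Nat.card {s // Φ s = W} =
      ∏ i : Fin m, (Fintype.card F ^ m - Fintype.card F ^ (i : ℕ)) := by
    intro W
    have h1 := card_linearIndependent (K := F) (V := W.1) (k := m) (le_of_eq W.2.1.symm)
    rw [W.2.1] at h1
    rw [← h1]
    apply Nat.card_congr
    exact {
      toFun := fun s => ⟨fun j => ⟨s.1.1 j, by
          have h2 : Submodule.span F (Set.range s.1.1) = W.1 := congrArg Subtype.val s.2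
          rw [← h2]
          exact Submodule.subset_span ⟨j, rfl⟩⟩,
        LinearIndependent.of_comp W.1.subtype s.1.2.1⟩
      invFun := fun t => ⟨⟨fun j => (t.1 j : V),
          t.2.map' W.1.subtype (Submodule.ker_subtype _),
          fun a b => W.2.2 _ (t.1 a).2 _ (t.1 b).2⟩, by
          apply Subtype.ext
          show Submodule.span F (Set.range fun j => (t.1 j : V)) = W.1
          apply Submodule.eq_of_le_of_finrank_eq
          · rw [Submodule.span_le]
            rintro _ ⟨j, rfl⟩
            exact (t.1 j).2
          · rw [finrank_span_eq_card (b := fun j => (t.1 j : V))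
              (t.2.map' W.1.subtype (Submodule.ker_subtype _)), Fintype.card_fin, W.2.1]⟩
      left_inv := fun s => by
        apply Subtype.ext
        apply Subtype.ext
        rfl
      right_inv := fun t => by
        apply Subtype.ext
        funext j
        rfl }
  simp_rw [hfib]
  rw [Finset.sum_const, Finset.card_univ, smul_eq_mul, Nat.card_eq_fintype_card]

end Count

end Cfsg.Agent.Lib.Helper2.SpTi
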