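import Mathlib
import Cfsg.Agent.Lib.Helper2.SpTiA
set_option autoImplicit false
set_option maxHeartbeats 1000000
set_option linter.unusedVariables false
set_option linter.unusedSectionVars false
set_option linter.style.longLine false
set_option linter.unusedSimpArgs false
set_option linter.deprecated false
set_option linter.style.haveILetI false

/-! Totally isotropic subspaces of symplectic spaces (part B): consequences of the count, and
isometries whose square is a scalar (the prime `2`). -/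

namespace Cfsg.Agent.Lib.Helper2.SpTi

open Module Cfsg.Agent.Lib.Helper2 Cfsg.Agent.Lib.Helper2.SpImp
  Cfsg.Agent.Lib.Helper5.SympBridge

universe u v

section Act

variable {F : Type u} [Field F] {V : Type v} [AddCommGroup V] [Module F V]

/-- linear automorphisms act on subspaces -/
noncomputable def subAction : MulAction (V ≃ₗ[F] V) (Submodule F V) where
  smul g W := W.map (g : V →ₗ[F] V)
  one_smul W := by
    show W.map ((1 : V ≃ₗ[F] V) : V →ₗ[F] V) = W
    exact Submodule.map_id _
  mul_smul g h W := by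
    show W.map ((g * h : V ≃ₗ[F] V) : V →ₗ[F] V) =
      (W.map (h : V →ₗ[F] V)).map (g : V →ₗ[F] V)
    rw [← Submodule.map_comp]
    rfl

end Act

section Count2

variable {F : Type u} [Field F] [Fintype F] {V : Type v} [AddCommGroup V] [Module F V]
  [FiniteDimensional F V]
variable (B : LinearMap.BilinForm F V)

theorem card_ti_dvd (hA : B.IsAlt) (hB : B.Nondegenerate) (m : ℕ) (W₀ : Submodule F V)
    (hW₀ : finrank F W₀ = m ∧ TI B W₀) :
    Nat.card {W : Submodule F V // finrank F W = m ∧ TI B W} ∣ Nat.card (isoGroup B) := by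
  classical
  letI := subAction (F := F) (V := V)
  have hset : MulAction.orbit (isoGroup B) W₀ =
      {W : Submodule F V | finrank F W = m ∧ TI B W} := by
    ext W
    constructor
    · rintro ⟨g, rfl⟩
      show finrank F (W₀.map ((g : V ≃ₗ[F] V) : V →ₗ[F] V)) = m ∧
        TI B (W₀.map ((g : V ≃ₗ[F] V) : V →ₗ[F] V))
      refine ⟨?_, ?_⟩
      · rw [← hW₀.1]
        exact LinearEquiv.finrank_map_eq (g : V ≃ₗ[F] V) W₀
      · rintro _ ⟨u, hu, rfl⟩ _ ⟨v, hv, rfl⟩
        show B ((g : V ≃ₗ[F] V) u) ((g : V ≃ₗ[F] V) v) = 0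
        rw [g.2 u v]
        exact hW₀.2 u hu v hv
    · intro hW
      obtain ⟨g, hg, hgW⟩ := exists_iso_of_ti B hA hB hW₀.2 hW.2 (hW₀.1.trans hW.1.symm)
      exact ⟨⟨g, hg⟩, hgW⟩
  have h1 : Nat.card (MulAction.orbit (isoGroup B) W₀) =
      Nat.card {W : Submodule F V // finrank F W = m ∧ TI B W} :=
    Nat.card_congr (Equiv.setCongr hset)
  rw [← h1, Nat.card_congr (MulAction.orbitEquivQuotientStabilizer (isoGroup B) W₀),
    Subgroup.card_eq_card_quotient_mul_card_subgroup (MulAction.stabilizer (isoGroup B) W₀)]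
  exact dvd_mul_right _ _

theorem card_ti_mul' (hA : B.IsAlt) (hB : B.Nondegenerate) (m : ℕ) (hm : 2 * m ≤ finrank F V) :
    Nat.card {W : Submodule F V // finrank F W = m ∧ TI B W} *
      ∏ i : Fin m, (Fintype.card F ^ (m - (i : ℕ)) - 1) =
      ∏ j ∈ Finset.range m, (Fintype.card F ^ (finrank F V - 2 * j) - 1) := by
  have h := card_ti_mul B hA hB m
  rw [Elus.prod_pow_sub (Fintype.card F) m m le_rfl] at h
  have hR : ∏ j ∈ Finset.range m, (Fintype.card F ^ (finrank F V - j) - Fintype.card F ^ j) =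
      (∏ j ∈ Finset.range m, Fintype.card F ^ j) *
        ∏ j ∈ Finset.range m, (Fintype.card F ^ (finrank F V - 2 * j) - 1) := by
    rw [← Finset.prod_mul_distrib]
    refine Finset.prod_congr rfl fun j hj => ?_
    have hj' := Finset.mem_range.mp hj
    have e : finrank F V - j = j + (finrank F V - 2 * j) := by omega
    rw [e, pow_add, Nat.mul_sub, mul_one]
  have e2 : ∏ i : Fin m, Fintype.card F ^ (i : ℕ) = ∏ j ∈ Finset.range m, Fintype.card F ^ j :=
    Fin.prod_univ_eq_prod_range (fun j => Fintype.card F ^ j) m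
  rw [hR, e2] at h
  have hQ : 0 < ∏ j ∈ Finset.range m, Fintype.card F ^ j :=
    Finset.prod_pos fun j _ => pow_pos Fintype.card_pos j
  apply Nat.eq_of_mul_eq_mul_left hQ
  rw [← h]
  ring

theorem char_not_dvd_card_ti {p : ℕ} [hp : Fact p.Prime] [CharP F p] (hA : B.IsAlt)
    (hB : B.Nondegenerate) (m : ℕ) (hm : 2 * m ≤ finrank F V) :
    ¬ p ∣ Nat.card {W : Submodule F V // finrank F W = m ∧ TI B W} := by
  intro h
  have h1 : p ∣ ∏ j ∈ Finset.range m, (Fintype.card F ^ (finrank F V - 2 * j) - 1) := by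
    rw [← card_ti_mul' B hA hB m hm]
    exact dvd_mul_of_dvd_left h _
  obtain ⟨j, hj, hdvd⟩ := (Nat.Prime.prime hp.out).exists_mem_finset_dvd h1
  have hj' := Finset.mem_range.mp hj
  exact Elus.ne_char_of_dvd_sub_one (F := F) (p := p) p (finrank F V - 2 * j) (by omega) hdvd rfl

theorem exists_dvd_of_dvd_card_ti (hA : B.IsAlt) (hB : B.Nondegenerate) (m : ℕ)
    (hm : 2 * m ≤ finrank F V) (r : ℕ) [hr : Fact r.Prime]
    (h : r ∣ Nat.card {W : Submodule F V // finrank F W = m ∧ TI B W}) :
    ∃ j < m, r ∣ Fintype.card F ^ (finrank F V - 2 * j) - 1 := by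
  have h1 : r ∣ ∏ j ∈ Finset.range m, (Fintype.card F ^ (finrank F V - 2 * j) - 1) := by
    rw [← card_ti_mul' B hA hB m hm]
    exact dvd_mul_of_dvd_left h _
  obtain ⟨j, hj, hdvd⟩ := (Nat.Prime.prime hr.out).exists_mem_finset_dvd h1
  exact ⟨j, Finset.mem_range.mp hj, hdvd⟩

end Count2

section Inv2

variable {F : Type u} [Field F] {V : Type v} [AddCommGroup V] [Module F V] [FiniteDimensional F V]
variable (B : LinearMap.BilinForm F V)

/-- isometric involutions fix totally isotropic subspaces of every dimension -/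
theorem inv2_one (hA : B.IsAlt) (hB : B.Nondegenerate) (h2 : ((2 : ℕ) : F) ≠ 0)
    {x : Module.End F V} (hxB : IsIsom B x) (hx : x ^ 2 = 1) (d m : ℕ)
    (hn : finrank F V = 2 * d) (hmd : m ≤ d) :
    ∃ W : Submodule F V, finrank F W = m ∧ TI B W ∧ Elus.Inv x W := by
  have hC : ND B ((⊤ : Submodule F V) ⊓ LinearMap.ker (x - 1)) :=
    nd_fix B hA hxB h2 hx (nd_top B hA hB) (fun v _ => Submodule.mem_top)
  obtain ⟨N, -, hN, hNi, hNC, hNfin, hCN, hdisj⟩ :=
    moving_part B hA hB hxB (by norm_num) h2 hx (nd_top B hA hB) (fun v _ => Submodule.mem_top)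
  rw [top_inf_eq] at hC hNfin hCN hdisj
  rw [finrank_top, hn] at hNfin
  obtain ⟨a, ha⟩ := even_of_nd B hA hB _ _ rfl hC
  obtain ⟨b, hb⟩ := even_of_nd B hA hB _ _ rfl hN
  have hle : finrank F (LinearMap.ker (x - 1)) ≤ 2 * d := by
    rw [← hn]
    exact Submodule.finrank_le _
  have hneg : ∀ v ∈ N, x v = -v := by
    intro v hv
    have h3 : x (x v) = v := by
      have := LinearMap.congr_fun hx v
      rw [pow_two, Module.End.mul_apply, Module.End.one_apply] at this
      exact this
    have h1 : v + x v ∈ N ⊓ LinearMap.ker (x - 1) := by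
      refine ⟨N.add_mem hv (hNi v hv), Elus.mem_ker_sub_one.mpr ?_⟩
      rw [map_add, h3, add_comm]
    rw [hNC] at h1
    exact eq_neg_of_add_eq_zero_right ((Submodule.mem_bot F).mp h1)
  obtain ⟨W₁, hW₁C, hW₁ti, hW₁fin⟩ :=
    exists_ti B hA hB hC a (by omega) (min m a) (min_le_right _ _)
  obtain ⟨W₂, hW₂N, hW₂ti, hW₂fin⟩ :=
    exists_ti B hA hB hN b (by omega) (m - min m a) (by omega)
  refine ⟨W₁ ⊔ W₂, ?_, ti_sup B hA hW₁ti hW₂ti
    (fun u hu v hv => hCN u (hW₁C hu) v (hW₂N hv)),
    Elus.Inv.sup (Elus.inv_of_le_ker hW₁C) (fun v hv => ?_)⟩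
  · rw [Elus.finrank_sup_of_disjoint (hdisj.mono hW₁C hW₂N), hW₁fin, hW₂fin]
    omega
  · rw [hneg v (hW₂N hv)]
    exact W₂.neg_mem hv

/-- isometries with square `-1`, when `-1` is a square -/
theorem inv2_neg_sq (hA : B.IsAlt) (hB : B.Nondegenerate) (h2 : (2 : F) ≠ 0)
    {x : Module.End F V} (hxB : IsIsom B x) (hx : x ^ 2 = (-1 : F) • 1) (ι : F)
    (hι : ι * ι = -1) (d m : ℕ) (hn : finrank F V = 2 * d) (hmd : m ≤ d) :
    ∃ W : Submodule F V, finrank F W = m ∧ TI B W ∧ Elus.Inv x W := by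
  have hxx : ∀ v, x (x v) = -v := by
    intro v
    have := LinearMap.congr_fun hx v
    rw [pow_two, Module.End.mul_apply, LinearMap.smul_apply, Module.End.one_apply,
      neg_one_smul] at this
    exact this
  have hmem : ∀ (e : F) (w : V), w ∈ LinearMap.ker (x - e • 1) ↔ x w = e • w := by
    intro e w
    rw [LinearMap.mem_ker, LinearMap.sub_apply, LinearMap.smul_apply, Module.End.one_apply,
      sub_eq_zero]
  have hTI : ∀ e : F, e * e = -1 → TI B (LinearMap.ker (x - e • 1)) := by
    intro e he u hu v hv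
    have hu' := (hmem e u).mp hu
    have hv' := (hmem e v).mp hv
    have h1 := hxB u v
    simp only [hu', hv', map_smul, LinearMap.smul_apply, smul_eq_mul] at h1
    have h3 : (2 : F) * B u v = 0 := by linear_combination (-1 : F) * h1 + B u v * he
    exact (mul_eq_zero.mp h3).resolve_left h2
  have hsup : LinearMap.ker (x - ι • 1) ⊔ LinearMap.ker (x - (-ι) • 1) = ⊤ := by
    rw [eq_top_iff]
    intro v _
    have e1 : v = (2 : F)⁻¹ • (v - ι • x v) + (2 : F)⁻¹ • (v + ι • x v) := by
      rw [← smul_add]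
      have e3 : v - ι • x v + (v + ι • x v) = (2 : F) • v := by
        rw [two_smul]
        abel
      rw [e3, smul_smul, inv_mul_cancel₀ h2, one_smul]
    rw [e1]
    apply Submodule.add_mem_sup
    · apply Submodule.smul_mem
      rw [hmem, map_sub, map_smul, hxx, smul_neg, sub_neg_eq_add, smul_sub, smul_smul, hι,
        neg_one_smul, sub_neg_eq_add, add_comm]
    · apply Submodule.smul_mem
      rw [hmem, map_add, map_smul, hxx, smul_neg, smul_add, smul_smul, neg_mul, hι, neg_neg,
        one_smul, neg_smul, ← sub_eq_add_neg, sub_eq_add_neg, add_comm]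
  have h1 := ti_finrank_le B hA hB (hTI ι hι) le_top (nd_top B hA hB)
  have h2' := ti_finrank_le B hA hB (hTI (-ι) (by rw [neg_mul_neg, hι])) le_top (nd_top B hA hB)
  rw [finrank_top, hn] at h1 h2'
  have h3 := Submodule.finrank_sup_add_finrank_inf_eq (LinearMap.ker (x - ι • 1))
    (LinearMap.ker (x - (-ι) • 1))
  rw [hsup, finrank_top, hn] at h3
  have h4 : m ≤ finrank F (LinearMap.ker (x - ι • 1)) := by omega
  obtain ⟨W, -, hWE, hWfin⟩ := Elus.exists_between ⊥ (LinearMap.ker (x - ι • 1)) bot_le m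
    (by rw [finrank_bot]; omega) h4
  refine ⟨W, hWfin, (hTI ι hι).mono hWE, fun w hw => ?_⟩
  rw [(hmem ι w).mp (hWE hw)]
  exact W.smul_mem ι hw

/-- isometries with square `-1`, when `-1` is not a square: even dimensions -/
theorem inv2_neg_nonsq [Fintype F] (hA : B.IsAlt) (hB : B.Nondegenerate)
    {x : Module.End F V} (hxB : IsIsom B x) (hx : x ^ 2 = (-1 : F) • 1)
    (hns : ∀ a b : F, a * a + b * b = 0 → a = 0 ∧ b = 0) (d : ℕ) (hn : finrank F V = 2 * d) :
    ∀ k, 2 * k ≤ d → ∃ W : Submodule F V, finrank F W = 2 * k ∧ TI B W ∧ Elus.Inv x W := by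
  have hxx : ∀ v, x (x v) = -v := by
    intro v
    have := LinearMap.congr_fun hx v
    rw [pow_two, Module.End.mul_apply, LinearMap.smul_apply, Module.End.one_apply,
      neg_one_smul] at this
    exact this
  intro k
  induction k with
  | zero =>
    intro _
    exact ⟨⊥, by rw [finrank_bot], ti_bot B, Elus.inv_bot x⟩
  | succ k ih =>
    intro hk
    obtain ⟨W, hWfin, hWti, hWinv⟩ := ih (by omega)
    have hWp : W ≤ B.orthogonal W := ti_le_perp B hWti
    have hpfin : finrank F (B.orthogonal W) = 2 * d - 2 * k := by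
      have := finrank_perp_in B hA hB (nd_top B hA hB) (le_top : W ≤ ⊤)
      rw [top_inf_eq, finrank_top, hn, hWfin] at this
      exact this
    obtain ⟨Q, hQ⟩ := Submodule.exists_isCompl W
    obtain ⟨T, hT⟩ : ∃ T : Submodule F V, T = Q ⊓ B.orthogonal W := ⟨_, rfl⟩
    have hWT : W ⊓ T = ⊥ := by
      rw [eq_bot_iff, ← hQ.inf_eq_bot, hT]
      exact inf_le_inf_left _ inf_le_left
    have hsupT : W ⊔ T = B.orthogonal W := by
      rw [hT, ← sup_inf_assoc_of_le Q hWp, hQ.sup_eq_top, top_inf_eq]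
    have hTle : T ≤ B.orthogonal W := by
      rw [hT]
      exact inf_le_right
    have hTfin : finrank F T = 2 * d - 4 * k := by
      have := Elus.finrank_sup_of_disjoint (disjoint_iff.mpr hWT)
      rw [hsupT, hpfin, hWfin] at this
      omega
    let β : Fin 1 → LinearMap.BilinForm F T := fun _ => (B.compl₂ x).domRestrict₁₂ T T
    obtain ⟨v, hv0, hv⟩ := exists_common_zero β (by rw [hTfin]; omega)
    have hvv : B (v : V) (x (v : V)) = 0 := hv 0
    have hvT : (v : V) ∈ T := v.2
    have hv0' : (v : V) ≠ 0 := fun h => hv0 (Subtype.ext h)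
    have hvp : (v : V) ∈ B.orthogonal W := hTle hvT
    have hxvp : x (v : V) ∈ B.orthogonal W := by
      apply (mem_perp B).mpr
      intro w hw
      have h1 := hxB w (x v)
      rw [hxx, map_neg] at h1
      rw [← h1, (mem_perp B).mp hvp (x w) (hWinv w hw), neg_zero]
    obtain ⟨U, hU⟩ : ∃ U : Submodule F V,
      U = Submodule.span F (Set.range ![(v : V), x (v : V)]) := ⟨_, rfl⟩
    have hvU : (v : V) ∈ U := by
      rw [hU]
      exact Submodule.subset_span ⟨0, rfl⟩
    have hxvU : x (v : V) ∈ U := by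
      rw [hU]
      exact Submodule.subset_span ⟨1, rfl⟩
    have hUp : U ≤ B.orthogonal W := by
      rw [hU, Submodule.span_le]
      rintro _ ⟨a, rfl⟩
      revert a
      exact Fin.forall_fin_two.mpr ⟨hvp, hxvp⟩
    have hUti : TI B U := by
      rw [hU]
      apply ti_span
      exact Fin.forall_fin_two.mpr ⟨Fin.forall_fin_two.mpr ⟨hA _, hvv⟩,
        Fin.forall_fin_two.mpr ⟨swap_zero B hA hvv, hA _⟩⟩
    have hUinv : Elus.Inv x U := by
      rw [Elus.inv_iff_map_le, hU, Submodule.map_span_le]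
      rintro _ ⟨a, rfl⟩
      revert a
      rw [← hU]
      refine Fin.forall_fin_two.mpr ⟨hxvU, ?_⟩
      show x (x (v : V)) ∈ U
      rw [hxx]
      exact U.neg_mem hvU
    have hkey : ∀ a b : F, a • (v : V) + b • x (v : V) ∈ W → a = 0 ∧ b = 0 := by
      intro a b hz
      have h1 : a • (a • (v : V) + b • x (v : V)) - b • x (a • (v : V) + b • x (v : V)) ∈ W :=
        W.sub_mem (W.smul_mem a hz) (W.smul_mem b (hWinv _ hz))
      have h2 : a • (a • (v : V) + b • x (v : V)) - b • x (a • (v : V) + b • x (v : V)) =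
          (a * a + b * b) • (v : V) := by
        rw [map_add, map_smul, map_smul, hxx]
        module
      rw [h2] at h1
      have h3 : (a * a + b * b) • (v : V) ∈ W ⊓ T := ⟨h1, T.smul_mem _ hvT⟩
      rw [hWT] at h3
      rcases smul_eq_zero.mp ((Submodule.mem_bot F).mp h3) with h4 | h4
      · exact hns a b h4
      · exact absurd h4 hv0'
    have hli : LinearIndependent F ![(v : V), x (v : V)] := by
      rw [LinearIndependent.pair_iff]
      intro s t hst
      exact hkey s t (by rw [hst]; exact W.zero_mem)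
    have hUfin : finrank F U = 2 := by
      rw [hU, finrank_span_eq_card hli, Fintype.card_fin]
    have hdisjWU : Disjoint W U := by
      rw [disjoint_iff, eq_bot_iff]
      rintro z ⟨hzW, hzU⟩
      rw [SetLike.mem_coe, hU] at hzU
      obtain ⟨cf, rfl⟩ := (Submodule.mem_span_range_iff_exists_fun F).mp hzU
      rw [Fin.sum_univ_two] at hzW ⊢
      simp only [Matrix.cons_val_zero, Matrix.cons_val_one] at hzW ⊢
      obtain ⟨h1, h2⟩ := hkey _ _ hzW
      rw [h1, h2, zero_smul, zero_smul, add_zero]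
      exact Submodule.zero_mem _
    refine ⟨W ⊔ U, ?_, ti_sup B hA hWti hUti ((orth_iff_le_perp B).mpr hUp),
      Elus.Inv.sup hWinv hUinv⟩
    rw [Elus.finrank_sup_of_disjoint hdisjWU, hWfin, hUfin]
    ring

/-- every isometry with scalar square fixes a totally isotropic `m`-space, if `m` is even or
`-1` is a square -/
theorem r2_suff [Fintype F] (hA : B.IsAlt) (hB : B.Nondegenerate) (h2 : (2 : F) ≠ 0) (d m : ℕ)
    (hn : finrank F V = 2 * d) (hd : 1 ≤ d) (hmd : m ≤ d)
    (hcond : Even m ∨ IsSquare (-1 : F)) {x : Module.End F V} (hxB : IsIsom B x)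
    (hx : ∃ z : F, x ^ 2 = z • 1) :
    ∃ W : Submodule F V, finrank F W = m ∧ TI B W ∧ Elus.Inv x W := by
  haveI : Nontrivial V := Module.nontrivial_of_finrank_pos (R := F) (by rw [hn]; omega)
  obtain ⟨z, hz⟩ := hx
  have hzz : z * z = 1 := scalar_sq B hB z (by rw [← hz]; exact hxB.pow 2)
  rcases mul_self_eq_one_iff.mp hzz with h1 | h1
  · rw [h1, one_smul] at hz
    exact inv2_one B hA hB (by exact_mod_cast h2) hxB hz d m hn hmd
  · rw [h1] at hz
    by_cases hsq : IsSquare (-1 : F)
    · obtain ⟨ι, hι⟩ := hsq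
      exact inv2_neg_sq B hA hB h2 hxB hz ι hι.symm d m hn hmd
    · have hev : Even m := hcond.resolve_right hsq
      obtain ⟨k, hk⟩ := hev
      have hns : ∀ a b : F, a * a + b * b = 0 → a = 0 ∧ b = 0 := by
        intro a b hab
        by_cases hb : b = 0
        · rw [hb, mul_zero, add_zero] at hab
          exact ⟨mul_self_eq_zero.mp hab, hb⟩
        · exfalso
          apply hsq
          have h5 : (a / b) * (a / b) = -1 := by
            field_simp
            linear_combination hab
          exact ⟨a / b, h5.symm⟩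
      obtain ⟨W, hW⟩ := inv2_neg_nonsq B hA hB hxB hz hns d hn k (by omega)
      exact ⟨W, by rw [hW.1, hk]; ring, hW.2⟩

/-- an isometry with square `-1`, when `-1` is not a square, is not scalar and fixes only
subspaces of even dimension -/
theorem r2_nec [Fintype F] [Nontrivial V] (hq : Fintype.card F % 4 = 3) {f₀ : Module.End F V}
    (hf₀ : f₀ ^ 2 = (-1 : F) • 1) :
    (∀ z : F, f₀ ≠ z • 1) ∧ ∀ W : Submodule F V, Elus.Inv f₀ W → Even (finrank F W) := by
  constructor
  · intro z hz
    rw [hz, smul_pow, one_pow] at hf₀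
    exact Elus.nonsq_neg_one hq z (smul_one_inj' hf₀)
  · intro W hW
    haveI : Fact (Nat.Prime 2) := ⟨Nat.prime_two⟩
    exact even_iff_two_dvd.mpr
      (Elus.dvd_finrank_of_inv f₀ 2 (-1) hf₀ (Elus.nonsq_neg_one hq) W hW)

end Inv2

section JJ

variable (F : Type u) [Field F]

theorem exists_J (d : ℕ) : ∃ f : Module.End F (Fin d ⊕ Fin d → F),
    IsIsom (sympBilin F d) f ∧ f ^ 2 = (-1 : F) • 1 := by
  refine ⟨Matrix.toLin' (Matrix.J (Fin d) F), ?_, ?_⟩
  · intro u v
    rw [Matrix.toLin'_apply, Matrix.toLin'_apply]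
    exact (mem_symplectic_iff d _).mp (SymplecticGroup.J_mem (Fin d) F) u v
  · rw [← toLin'_pow_gen, pow_two, Matrix.J_squared]
    have h1 : (-1 : Matrix (Fin d ⊕ Fin d) (Fin d ⊕ Fin d) F) = (-1 : F) • 1 := by
      rw [neg_one_smul]
    rw [h1, toLin'_smul_one_gen]

end JJ

end Cfsg.Agent.Lib.Helper2.SpTi
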