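import Mathlib
import Cfsg.Agent.Lib.Helper2.SpTiB
set_option autoImplicit false
set_option maxHeartbeats 1000000
set_option linter.unusedVariables false
set_option linter.unusedSectionVars false
set_option linter.style.longLine false
set_option linter.unusedSimpArgs false
set_option linter.deprecated false
set_option linter.style.haveILetI false

/-! Totally isotropic subspaces of symplectic spaces (part C): invariant totally isotropic
subspaces for isometries of odd prime order. -/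

namespace Cfsg.Agent.Lib.Helper2.SpTi

open Module Polynomial Cfsg.Agent.Lib.Helper2 Cfsg.Agent.Lib.Helper2.SpImp

universe u v

section Gen

variable {F : Type u} [Field F] {V : Type v} [AddCommGroup V] [Module F V] [FiniteDimensional F V]
variable (B : LinearMap.BilinForm F V)

theorem eq_zero_of_coprime {y : Module.End F V} {f g : F[X]} (h : IsCoprime f g) {u : V}
    (hf : aeval y f u = 0) (hg : aeval y g u = 0) : u = 0 := by
  obtain ⟨a, b, hab⟩ := h
  have h1 : aeval y (a * f + b * g) u = u := by rw [hab, map_one, Module.End.one_apply]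
  rw [map_add, map_mul, map_mul, LinearMap.add_apply, Module.End.mul_apply, Module.End.mul_apply,
    hf, hg, map_zero, map_zero, add_zero] at h1
  exact h1.symm

theorem dvd_of_ann {y : Module.End F V} {φ g : F[X]} (hφ : Irreducible φ) {u : V} (hu0 : u ≠ 0)
    (hφu : aeval y φ u = 0) (hgu : aeval y g u = 0) : φ ∣ g := by
  by_contra hnd
  exact hu0 (eq_zero_of_coprime ((Irreducible.coprime_iff_not_dvd hφ).mpr hnd) hφu hgu)

theorem aeval_sub_one {y : Module.End F V} (u : V) : aeval y (X - C (1 : F)) u = y u - u := by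
  rw [map_sub, aeval_X, aeval_C, LinearMap.sub_apply, map_one, Module.End.one_apply]

/-- splitting an invariant subspace along the fixed space -/
theorem inv_split {y : Module.End F V} {r : ℕ} (hrF : (r : F) ≠ 0) (hy : y ^ r = 1)
    {X X' W : Submodule F V} (hX : X ≤ LinearMap.ker (y - 1)) (hX'i : Elus.Inv y X')
    (hX'C : X' ⊓ LinearMap.ker (y - 1) = ⊥) (hsup : X ⊔ X' = ⊤) (hW : Elus.Inv y W) :
    finrank F W = finrank F (W ⊓ X : Submodule F V) + finrank F (W ⊓ X' : Submodule F V) := by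
  have hdisj : Disjoint (W ⊓ X) (W ⊓ X') := by
    rw [disjoint_iff, eq_bot_iff, ← hX'C]
    intro z hz
    exact ⟨hz.2.2, hX hz.1.2⟩
  have hsupW : (W ⊓ X) ⊔ (W ⊓ X') = W := by
    apply le_antisymm (sup_le inf_le_left inf_le_left)
    intro w hw
    have hw' : w ∈ X ⊔ X' := by
      rw [hsup]
      exact Submodule.mem_top
    obtain ⟨c, hc, a, ha, rfl⟩ := Submodule.mem_sup.mp hw'
    have hTa : (∑ j ∈ Finset.range r, y ^ j) a = 0 := by
      have h1 : (∑ j ∈ Finset.range r, y ^ j) a ∈ X' ⊓ LinearMap.ker (y - 1) := by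
        refine ⟨?_, Imp.geom_ker hy a⟩
        rw [LinearMap.sum_apply]
        exact Submodule.sum_mem _ (fun j _ => Imp.inv_pow' hX'i j a ha)
      rw [hX'C] at h1
      exact (Submodule.mem_bot F).mp h1
    have hTc : (∑ j ∈ Finset.range r, y ^ j) c = (r : F) • c := by
      rw [LinearMap.sum_apply, Finset.sum_congr rfl
        (fun j _ => Imp.pow_fix (Elus.mem_ker_sub_one.mp (hX hc)) j),
        Finset.sum_const, Finset.card_range, Nat.cast_smul_eq_nsmul]
    have hTw : (∑ j ∈ Finset.range r, y ^ j) (c + a) ∈ W := by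
      rw [LinearMap.sum_apply]
      exact Submodule.sum_mem _ (fun j _ => Imp.inv_pow' hW j _ hw)
    rw [map_add, hTa, add_zero, hTc] at hTw
    have hcW : c ∈ W := by
      have := W.smul_mem ((r : F)⁻¹) hTw
      rwa [smul_smul, inv_mul_cancel₀ hrF, one_smul] at this
    have haW : a ∈ W := by
      have := W.sub_mem hw hcW
      rwa [add_sub_cancel_left] at this
    exact Submodule.add_mem_sup ⟨hcW, hc⟩ ⟨haW, ha⟩
  have := Elus.finrank_sup_of_disjoint hdisj
  rw [hsupW] at this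
  exact this

/-- a cyclic subspace killed by `φ` is spanned by the first `deg φ` iterates -/
theorem polySpan_le_span {y : Module.End F V} {z : V} {φ : F[X]} (hφd : φ.natDegree ≠ 0)
    (hφ : aeval y φ z = 0) :
    polySpan y z ≤ Submodule.span F (Set.range (fun a : Fin φ.natDegree => (y ^ (a : ℕ)) z)) := by
  intro x hx
  obtain ⟨g, rfl⟩ := mem_polySpan.mp hx
  have e : g = (g / φ) * φ + g % φ := by
    rw [mul_comm]
    exact (EuclideanDomain.div_add_mod g φ).symm
  have h1 : aeval y g z = aeval y (g % φ) z := by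
    calc aeval y g z = aeval y ((g / φ) * φ + g % φ) z := by rw [← e]
      _ = aeval y (g % φ) z := by
        rw [map_add, map_mul, LinearMap.add_apply, Module.End.mul_apply, hφ, map_zero, zero_add]
  rw [h1, aeval_eq_sum_range' (Polynomial.natDegree_mod_lt g hφd) y, LinearMap.sum_apply]
  refine Submodule.sum_mem _ fun a ha => ?_
  rw [LinearMap.smul_apply]
  exact Submodule.smul_mem _ _ (Submodule.subset_span ⟨⟨a, Finset.mem_range.mp ha⟩, rfl⟩)

theorem ti_polySpan (hA : B.IsAlt) {y : Module.End F V} (hyB : IsIsom B y) {z : V} {φ : F[X]}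
    (hφd : φ.natDegree ≠ 0) (hφ : aeval y φ z = 0)
    (hz : ∀ k : ℕ, k + 1 < φ.natDegree → B z ((y ^ (k + 1)) z) = 0) :
    TI B (polySpan y z) := by
  have hle : ∀ a b : ℕ, a ≤ b → b < φ.natDegree → B ((y ^ a) z) ((y ^ b) z) = 0 := by
    intro a b hab hb
    obtain ⟨k, rfl⟩ := Nat.exists_eq_add_of_le hab
    rw [pow_add, Module.End.mul_apply, hyB.pow a z ((y ^ k) z)]
    rcases k with _ | k
    · rw [pow_zero, Module.End.one_apply]
      exact hA z
    · exact hz k (by omega)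
  refine TI.mono (ti_span B (fun a : Fin φ.natDegree => (y ^ (a : ℕ)) z) ?_)
    (polySpan_le_span hφd hφ)
  intro a b
  rcases le_total (a : ℕ) (b : ℕ) with h | h
  · exact hle a b h b.2
  · exact swap_zero B hA (hle b a h a.2)

theorem finrank_polySpan_le {y : Module.End F V} {z : V} {φ : F[X]} (hφd : φ.natDegree ≠ 0)
    (hφ : aeval y φ z = 0) : finrank F (polySpan y z) ≤ φ.natDegree := by
  have h1 := Submodule.finrank_mono (polySpan_le_span hφd hφ)
  have h2 := finrank_range_le_card (R := F) (fun a : Fin φ.natDegree => (y ^ (a : ℕ)) z)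
  rw [Fintype.card_fin] at h2
  exact h1.trans h2

/-- the degree of an irreducible annihilator is at most the dimension of an invariant subspace -/
theorem natDegree_le_finrank {x : Module.End F V} {Z : Submodule F V} (hZ : Elus.Inv x Z) {u : V}
    (hu : u ∈ Z) (hu0 : u ≠ 0) {ψ : F[X]} (hψ : Irreducible ψ) (hψu : aeval x ψ u = 0) :
    ψ.natDegree ≤ finrank F Z := by
  let T : F[X] →ₗ[F] V := (LinearMap.applyₗ u).comp (aeval x).toLinearMap
  let T' : degreeLT F (finrank F Z + 1) →ₗ[F] Z :=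
    LinearMap.codRestrict Z (T.domRestrict (degreeLT F (finrank F Z + 1))) (fun g => by
      show aeval x (g : F[X]) u ∈ Z
      exact inv_aeval hZ _ u hu)
  haveI : FiniteDimensional F (degreeLT F (finrank F Z + 1)) :=
    LinearEquiv.finiteDimensional (degreeLTEquiv F _).symm
  have hfin : finrank F (degreeLT F (finrank F Z + 1)) = finrank F Z + 1 := by
    rw [LinearEquiv.finrank_eq (degreeLTEquiv F (finrank F Z + 1)), Module.finrank_fin_fun]
  have hker : LinearMap.ker T' ≠ ⊥ := LinearMap.ker_ne_bot_of_finrank_lt (by rw [hfin]; omega)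
  obtain ⟨g, hg, hg0⟩ := Submodule.exists_mem_ne_zero_of_ne_bot hker
  have hgu : aeval x (g : F[X]) u = 0 := by
    have := LinearMap.mem_ker.mp hg
    exact congrArg Subtype.val this
  have hg0' : (g : F[X]) ≠ 0 := fun h => hg0 (Subtype.ext h)
  have hdvd := dvd_of_ann hψ hu0 hψu hgu
  have h1 := Polynomial.natDegree_le_of_dvd hdvd hg0'
  have h2 : (g : F[X]).natDegree < finrank F Z + 1 :=
    (Polynomial.natDegree_lt_iff_degree_lt hg0').mpr (Polynomial.mem_degreeLT.mp g.2)
  omega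

/-- growing invariant totally isotropic subspaces -/
theorem grow_ti (hA : B.IsAlt) (hB : B.Nondegenerate) {y : Module.End F V} {r : ℕ}
    (hyB : IsIsom B y) (hr : 0 < r) (hy : y ^ r = 1) (i θ : ℕ)
    (hstep : ∀ N : Submodule F V, ND B N → Elus.Inv y N → N ⊓ LinearMap.ker (y - 1) = ⊥ →
      i * θ ≤ finrank F N →
      ∃ U P : Submodule F V, U ≤ P ∧ P ≤ N ∧ TI B U ∧ Elus.Inv y U ∧ finrank F U = i ∧ ND B P ∧
        Elus.Inv y P ∧ finrank F P = 2 * i) :
    ∀ (j : ℕ) (N : Submodule F V), ND B N → Elus.Inv y N → N ⊓ LinearMap.ker (y - 1) = ⊥ →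
      (j = 0 ∨ i * θ + 2 * i * (j - 1) ≤ finrank F N) →
      ∃ W : Submodule F V, W ≤ N ∧ TI B W ∧ Elus.Inv y W ∧ finrank F W = i * j := by
  intro j
  induction j with
  | zero =>
    intro N _ _ _ _
    exact ⟨⊥, bot_le, ti_bot B, Elus.inv_bot y, by rw [finrank_bot, mul_zero]⟩
  | succ j ih =>
    intro N hN hNi hNC hcond
    have hcond' : i * θ + 2 * i * j ≤ finrank F N := by
      rcases hcond with h | h
      · omega
      · rw [Nat.add_sub_cancel] at h
        exact h
    obtain ⟨U, P, hUP, hPN, hUti, hUi, hUfin, hP, hPi, hPfin⟩ :=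
      hstep N hN hNi hNC (le_trans (Nat.le_add_right _ _) hcond')
    have hN' : ND B (N ⊓ B.orthogonal P) := nd_perp_in B hA hN hP hPN
    have hN'i : Elus.Inv y (N ⊓ B.orthogonal P) := inv_inf' hNi (inv_perp B hyB hr hy hPi)
    have hN'C : (N ⊓ B.orthogonal P) ⊓ LinearMap.ker (y - 1) = ⊥ := by
      rw [eq_bot_iff, ← hNC]
      exact inf_le_inf_right _ inf_le_left
    have hN'fin : finrank F (N ⊓ B.orthogonal P : Submodule F V) = finrank F N - 2 * i := by
      rw [← hPfin]
      exact finrank_perp_in B hA hB hN hPN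
    obtain ⟨W', hW'N, hW'ti, hW'i, hW'fin⟩ := ih _ hN' hN'i hN'C (by
      rcases j with _ | j'
      · left
        rfl
      · right
        rw [hN'fin, Nat.add_sub_cancel]
        have e1 : 2 * i * (j' + 1) = 2 * i * j' + 2 * i := by ring
        omega)
    have horth : Orth B U W' := fun u hu w hw => (mem_perp B).mp (hW'N hw).2 u (hUP hu)
    have hdisj : Disjoint U W' := by
      rw [disjoint_iff, eq_bot_iff, ← hP.eq_bot]
      intro x hx
      exact ⟨hUP hx.1, (hW'N hx.2).2⟩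
    refine ⟨U ⊔ W', sup_le (hUP.trans hPN) (hW'N.trans inf_le_left), ti_sup B hA hUti hW'ti horth,
      Elus.Inv.sup hUi hW'i, ?_⟩
    rw [Elus.finrank_sup_of_disjoint hdisj, hUfin, hW'fin]
    ring

end Gen

section Fin

variable {F : Type u} [Field F] [Fintype F] {V : Type v} [AddCommGroup V] [Module F V]
  [FiniteDimensional F V]
variable (B : LinearMap.BilinForm F V)

/-- an invariant subspace of dimension `i` without fixed vectors is a minimal invariant
subspace -/
theorem minimal_of_finrank {p f₀ : ℕ} [hp : Fact p.Prime] (hq : Fintype.card F = p ^ f₀)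
    (r : ℕ) [hr : Fact r.Prime] (hrp : r ≠ p) {y : Module.End F V} (hy : y ^ r = 1)
    {Z : Submodule F V} (hZi : Elus.Inv y Z) (hZC : Z ⊓ LinearMap.ker (y - 1) = ⊥)
    (hZfin : finrank F Z = orderOf ((Fintype.card F : ℕ) : ZMod r)) :
    ∀ X : Submodule F V, X ≤ Z → Elus.Inv y X → X = ⊥ ∨ X = Z := by
  intro X hXZ hXi
  by_cases hX0 : X = ⊥
  · exact Or.inl hX0
  · right
    obtain ⟨U, hUX, hU0, hUi, hUmin⟩ := Elus.exists_minimal_inv y _ X rfl hX0 hXi
    have hUC : Disjoint U (LinearMap.ker (y - 1)) := by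
      rw [disjoint_iff, eq_bot_iff, ← hZC]
      exact inf_le_inf_right _ (hUX.trans hXZ)
    have hUfin := Elus.finrank_of_minimal hq y r hrp hy U hUi hU0 hUmin hUC
    have hUZ : U = Z := Submodule.eq_of_le_of_finrank_eq (hUX.trans hXZ) (hUfin.trans hZfin.symm)
    exact le_antisymm hXZ (hUZ ▸ hUX)

/-- Chevalley–Warning: a totally isotropic minimal invariant subspace inside a homogeneous
nondegenerate subspace of twice the minimal dimension -/
theorem exists_ti_min {p f₀ : ℕ} [hp : Fact p.Prime] (hq : Fintype.card F = p ^ f₀)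
    (hA : B.IsAlt) (r : ℕ) [hr : Fact r.Prime] (hrp : r ≠ p) (hrq : ¬ r ∣ Fintype.card F)
    {y : Module.End F V} (hyB : IsIsom B y) (hy : y ^ r = 1) {P : Submodule F V}
    (hPi : Elus.Inv y P) (hPC : P ⊓ LinearMap.ker (y - 1) = ⊥)
    (hPfin : finrank F P = 2 * orderOf ((Fintype.card F : ℕ) : ZMod r)) {φ : F[X]}
    (hφ : Irreducible φ) (hφP : ∀ u ∈ P, aeval y φ u = 0) :
    ∃ U : Submodule F V, U ≤ P ∧ TI B U ∧ Elus.Inv y U ∧
      finrank F U = orderOf ((Fintype.card F : ℕ) : ZMod r) := by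
  have hi0 := Elus.ord_pos r (Fintype.card F) hrq
  have hdisj : ∀ Z : Submodule F V, Z ≤ P → Disjoint Z (LinearMap.ker (y - 1)) := by
    intro Z hZ
    rw [disjoint_iff, eq_bot_iff, ← hPC]
    exact inf_le_inf_right _ hZ
  have hP0 : P ≠ ⊥ := by
    intro h
    rw [h, finrank_bot] at hPfin
    omega
  obtain ⟨U₁, hU₁P, hU₁0, hU₁i, hU₁min⟩ := Elus.exists_minimal_inv y _ P rfl hP0 hPi
  have hU₁fin := Elus.finrank_of_minimal hq y r hrp hy U₁ hU₁i hU₁0 hU₁min (hdisj U₁ hU₁P)
  obtain ⟨u, hu, hu0⟩ := Submodule.exists_mem_ne_zero_of_ne_bot hU₁0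
  have hdeg : φ.natDegree ≤ orderOf ((Fintype.card F : ℕ) : ZMod r) := by
    rw [← hU₁fin]
    exact natDegree_le_finrank hU₁i hu hu0 hφ (hφP u (hU₁P hu))
  have hdeg0 : φ.natDegree ≠ 0 := (Irreducible.natDegree_pos hφ).ne'
  let β : Fin (φ.natDegree - 1) → LinearMap.BilinForm F P :=
    fun k => (B.compl₂ (y ^ ((k : ℕ) + 1))).domRestrict₁₂ P P
  obtain ⟨z, hz0, hz⟩ := exists_common_zero β (by rw [hPfin]; omega)
  have hz0' : (z : V) ≠ 0 := fun h => hz0 (Subtype.ext h)
  have hzk : ∀ k : ℕ, k + 1 < φ.natDegree → B (z : V) ((y ^ (k + 1)) (z : V)) = 0 := by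
    intro k hk
    exact hz ⟨k, by omega⟩
  have hUti := ti_polySpan B hA hyB hdeg0 (hφP z z.2) hzk
  have hUP : polySpan y (z : V) ≤ P := polySpan_le hPi z.2
  have hU0 : polySpan y (z : V) ≠ ⊥ := by
    intro h
    have h1 := mem_polySpan_self y (z : V)
    rw [h] at h1
    exact hz0' ((Submodule.mem_bot F).mp h1)
  refine ⟨polySpan y (z : V), hUP, hUti, polySpan_inv y _, ?_⟩
  exact Elus.finrank_of_minimal hq y r hrp hy _ (polySpan_inv y _) hU0
    (polySpan_minimal hφ (hφP z z.2)) (hdisj _ hUP)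

theorem ann_of_dvd {y : Module.End F V} {Z : Submodule F V} (hZ : Elus.Inv y Z) {φ g : F[X]}
    (hdvd : φ ∣ g) (hφ : ∀ u ∈ Z, aeval y φ u = 0) : ∀ u ∈ Z, aeval y g u = 0 := by
  intro u hu
  obtain ⟨c, rfl⟩ := hdvd
  rw [map_mul, Module.End.mul_apply]
  exact hφ _ (inv_aeval hZ c u hu)

/-- for `i` odd: a totally isotropic minimal invariant subspace inside a nondegenerate invariant
subspace of twice its dimension -/
theorem exists_ti_block_odd {p f₀ : ℕ} [hp : Fact p.Prime] (hq : Fintype.card F = p ^ f₀)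
    (hA : B.IsAlt) (hB : B.Nondegenerate) (r : ℕ) [hr : Fact r.Prime] (hrp : r ≠ p)
    (hrF : (r : F) ≠ 0) {y : Module.End F V} (hyB : IsIsom B y) (hy : y ^ r = 1)
    (hodd : Odd (orderOf ((Fintype.card F : ℕ) : ZMod r))) {N : Submodule F V} (hN : ND B N)
    (hNi : Elus.Inv y N) (hNC : N ⊓ LinearMap.ker (y - 1) = ⊥) (hN0 : N ≠ ⊥) :
    ∃ U P : Submodule F V, U ≤ P ∧ P ≤ N ∧ TI B U ∧ Elus.Inv y U ∧
      finrank F U = orderOf ((Fintype.card F : ℕ) : ZMod r) ∧ ND B P ∧ Elus.Inv y P ∧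
      finrank F P = 2 * orderOf ((Fintype.card F : ℕ) : ZMod r) := by
  classical
  have hr0 : 0 < r := hr.out.pos
  have hdisj : ∀ Z : Submodule F V, Z ≤ N → Disjoint Z (LinearMap.ker (y - 1)) := by
    intro Z hZ
    rw [disjoint_iff, eq_bot_iff, ← hNC]
    exact inf_le_inf_right _ hZ
  obtain ⟨U₀, hU₀N, hU₀0, hU₀i, hU₀min⟩ := Elus.exists_minimal_inv y _ N rfl hN0 hNi
  have hU₀fin : finrank F U₀ = orderOf ((Fintype.card F : ℕ) : ZMod r) :=
    Elus.finrank_of_minimal hq y r hrp hy U₀ hU₀i hU₀0 hU₀min (hdisj U₀ hU₀N)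
  have hRi : Elus.Inv y (U₀ ⊓ B.orthogonal U₀) := inv_inf' hU₀i (inv_perp B hyB hr0 hy hU₀i)
  rcases hU₀min _ inf_le_left hRi with hR | hR
  · exfalso
    have hU₀nd : ND B U₀ := disjoint_iff.mpr hR
    have hev := even_of_nd B hA hB _ U₀ hU₀fin hU₀nd
    exact (Nat.not_even_iff_odd.mpr hodd) hev
  · have hti : U₀ ≤ B.orthogonal U₀ := inf_eq_left.mp hR
    have hKi : Elus.Inv y (N ⊓ B.orthogonal U₀) := inv_inf' hNi (inv_perp B hyB hr0 hy hU₀i)
    have hss := Elus.isSemisimple_of_pow_eq_one y r hrF hy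
    obtain ⟨U', hU'i, hU'N, hKU', hsup⟩ := Imp.exists_rel_compl hss hKi hNi inf_le_left
    have hU₀K : U₀ ≤ N ⊓ B.orthogonal U₀ := le_inf hU₀N hti
    have hKfin : finrank F (N ⊓ B.orthogonal U₀ : Submodule F V) =
        finrank F N - orderOf ((Fintype.card F : ℕ) : ZMod r) := by
      rw [← hU₀fin]
      exact finrank_perp_in B hA hB hN hU₀N
    have hNfin := Elus.finrank_sup_of_disjoint hKU'
    rw [hsup] at hNfin
    have hiN : orderOf ((Fintype.card F : ℕ) : ZMod r) ≤ finrank F N := by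
      rw [← hU₀fin]
      exact Submodule.finrank_mono hU₀N
    have hU'fin : finrank F U' = orderOf ((Fintype.card F : ℕ) : ZMod r) := by omega
    have hd : Disjoint U₀ U' := hKU'.mono_left hU₀K
    have hX : U₀ ⊓ B.orthogonal U' = ⊥ := by
      rcases hU₀min _ inf_le_left (inv_inf' hU₀i (inv_perp B hyB hr0 hy hU'i)) with h | h
      · exact h
      · exfalso
        have h1 : U₀ ≤ B.orthogonal U' := inf_eq_left.mp h
        apply hU₀0
        rw [eq_bot_iff]
        intro u₀ hu₀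
        have h2 : u₀ ∈ B.orthogonal N := by
          rw [mem_perp B]
          intro n hn
          rw [← hsup] at hn
          obtain ⟨k, hk, u', hu', rfl⟩ := Submodule.mem_sup.mp hn
          rw [map_add, LinearMap.add_apply, (mem_perp B).mp (h1 hu₀) u' hu', add_zero]
          exact swap_zero B hA ((mem_perp B).mp hk.2 u₀ hu₀)
        have h3 : u₀ ∈ N ⊓ B.orthogonal N := ⟨hU₀N hu₀, h2⟩
        rw [hN.eq_bot] at h3
        exact h3
    have hPnd : ND B (U₀ ⊔ U') := by
      rw [nd_iff B hA]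
      intro x hx hx2
      obtain ⟨u, hu, u', hu', rfl⟩ := Submodule.mem_sup.mp hx
      have hu'0 : u' = 0 := by
        have h1 : u' ∈ (N ⊓ B.orthogonal U₀) ⊓ U' := by
          refine ⟨⟨hU'N hu', ?_⟩, hu'⟩
          apply (mem_perp B).mpr
          intro w hw
          have h2 := hx2 w (Submodule.mem_sup_left hw)
          rw [map_add, LinearMap.add_apply,
            swap_zero B hA ((mem_perp B).mp (hti hu) w hw), zero_add] at h2
          exact swap_zero B hA h2
        rw [hKU'.eq_bot] at h1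
        exact (Submodule.mem_bot F).mp h1
      rw [hu'0, add_zero] at hx2 ⊢
      have h1 : u ∈ U₀ ⊓ B.orthogonal U' := by
        refine ⟨hu, ?_⟩
        apply (mem_perp B).mpr
        intro w hw
        exact swap_zero B hA (hx2 w (Submodule.mem_sup_right hw))
      rw [hX] at h1
      exact (Submodule.mem_bot F).mp h1
    have hPi : Elus.Inv y (U₀ ⊔ U') := Elus.Inv.sup hU₀i hU'i
    have hPN : U₀ ⊔ U' ≤ N := sup_le hU₀N hU'N
    have hPfin := Elus.finrank_sup_of_disjoint hd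
    rw [hU₀fin, hU'fin] at hPfin
    refine ⟨U₀, U₀ ⊔ U', le_sup_left, hPN, ti_of_le_perp B hti, hU₀i, hU₀fin, hPnd, hPi, ?_⟩
    rw [hPfin]
    ring

/-- pigeonhole: many blocks force two blocks of the same type -/
theorem exists_pair_block {p f₀ : ℕ} [hp : Fact p.Prime] (hq : Fintype.card F = p ^ f₀)
    (hA : B.IsAlt) (hB : B.Nondegenerate) (r : ℕ) [hr : Fact r.Prime] (hr2 : r ≠ 2) (hrp : r ≠ p)
    (hrF : (r : F) ≠ 0) (hrq : ¬ r ∣ Fintype.card F) {y : Module.End F V} (hyB : IsIsom B y)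
    (hy : y ^ r = 1) (i : ℕ) (hi : i = orderOf ((Fintype.card F : ℕ) : ZMod r)) (hev : Even i)
    {N : Submodule F V} (hN : ND B N) (hNi : Elus.Inv y N) (hNC : N ⊓ LinearMap.ker (y - 1) = ⊥)
    (l : ℕ) (hNfin : finrank F N = i * l) (hl : (r - 1) / i + 1 ≤ l) :
    ∃ (P : Submodule F V) (φ : F[X]), P ≤ N ∧ ND B P ∧ Elus.Inv y P ∧ finrank F P = 2 * i ∧
      Irreducible φ ∧ ∀ u ∈ P, aeval y φ u = 0 := by
  classical
  have hr0 : 0 < r := hr.out.pos
  have hi0 : 0 < i := by
    rw [hi]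
    exact Elus.ord_pos r (Fintype.card F) hrq
  have hc : i = if Even i then i else 2 * i := by rw [if_pos hev]
  obtain ⟨D, hDnd, hDP, hDo, hDind, hDsup⟩ := peel_sp B hA
    (fun D => Elus.Inv y D ∧ finrank F D = i)
    (fun t W => ND B W ∧ Elus.Inv y W ∧ W ⊓ LinearMap.ker (y - 1) = ⊥ ∧ finrank F W = i * t)
    (by
      rintro W ⟨-, -, -, h⟩
      rw [mul_zero] at h
      exact Submodule.finrank_eq_zero.mp h)
    (by
      rintro t' W ⟨hW, hWi, hWC, hWfin⟩
      have hW0 : W ≠ ⊥ := by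
        intro h
        rw [h, finrank_bot] at hWfin
        have : 0 < i * (t' + 1) := Nat.mul_pos hi0 (Nat.succ_pos _)
        omega
      obtain ⟨U, hUW, hU, hUi, hUfin⟩ :=
        exists_nd_block B hq hA hB r hr2 hrp hrF hrq hyB hy i i hi hc hW hWi hWC hW0
      refine ⟨U, hUW, hU, ⟨hUi, hUfin⟩, nd_perp_in B hA hW hU hUW,
        inv_inf' hWi (inv_perp B hyB hr0 hy hUi), ?_, ?_⟩
      · rw [eq_bot_iff, ← hWC]
        exact inf_le_inf_right _ inf_le_left
      · rw [finrank_perp_in B hA hB hW hUW, hWfin, hUfin, Nat.mul_succ, Nat.add_sub_cancel])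
    l N ⟨hN, hNi, hNC, hNfin⟩
  have hDN : ∀ j, D j ≤ N := fun j => hDsup ▸ le_iSup D j
  have hDC : ∀ j, D j ⊓ LinearMap.ker (y - 1) = ⊥ := by
    intro j
    rw [eq_bot_iff, ← hNC]
    exact inf_le_inf_right _ (hDN j)
  have hDmin : ∀ j, ∀ X : Submodule F V, X ≤ D j → Elus.Inv y X → X = ⊥ ∨ X = D j :=
    fun j => minimal_of_finrank hq r hrp hy (hDP j).1 (hDC j) ((hDP j).2.trans hi)
  have hD0 : ∀ j, D j ≠ ⊥ := by
    intro j h
    have := (hDP j).2
    rw [h, finrank_bot] at this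
    omega
  choose φ hφirr hφ using fun j => exists_irr_ann hr0 hy (hDP j).1 (hD0 j) (hDmin j)
  choose u hu hu0 using fun j => Submodule.exists_mem_ne_zero_of_ne_bot (hD0 j)
  have hdeg : ∀ j, i ≤ (φ j).natDegree := by
    intro j
    have h1 : polySpan y (u j) = D j := by
      rcases hDmin j _ (polySpan_le (hDP j).1 (hu j)) (polySpan_inv y (u j)) with h | h
      · exfalso
        have h2 := mem_polySpan_self y (u j)
        rw [h] at h2
        exact hu0 j ((Submodule.mem_bot F).mp h2)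
      · exact h
    have h2 := finrank_polySpan_le (Irreducible.natDegree_pos (hφirr j)).ne' (hφ j (u j) (hu j))
    rw [h1, (hDP j).2] at h2
    exact h2
  have hX1 : ∀ j, IsCoprime (X - C (1 : F)) (φ j) := by
    intro j
    apply (Irreducible.coprime_iff_not_dvd (irreducible_X_sub_C (1 : F))).mpr
    intro hdvd
    have hassoc := Irreducible.associated_of_dvd (irreducible_X_sub_C (1 : F)) (hφirr j) hdvd
    have h1 := ann_of_dvd (hDP j).1 hassoc.symm.dvd (hφ j) (u j) (hu j)
    rw [aeval_sub_one, sub_eq_zero] at h1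
    have h2 : u j ∈ D j ⊓ LinearMap.ker (y - 1) := ⟨hu j, Elus.mem_ker_sub_one.mpr h1⟩
    rw [hDC j] at h2
    exact hu0 j ((Submodule.mem_bot F).mp h2)
  have hdvdr : ∀ j, φ j ∣ X ^ r - C (1 : F) := by
    intro j
    apply dvd_of_ann (hφirr j) (hu0 j) (hφ j (u j) (hu j))
    rw [map_sub, map_pow, aeval_X, aeval_C, map_one, hy, sub_self, LinearMap.zero_apply]
  have hex : ∃ j j', j ≠ j' ∧ ¬ IsCoprime (φ j) (φ j') := by
    by_contra hcon
    push Not at hcon
    have hprod : ∏ j, φ j ∣ X ^ r - C (1 : F) :=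
      Finset.prod_dvd_of_coprime (fun j _ j' _ hne => hcon j j' hne) (fun j _ => hdvdr j)
    have hcop1 : IsCoprime (X - C (1 : F)) (∏ j, φ j) := IsCoprime.prod_right (fun j _ => hX1 j)
    have hX1dvd : X - C (1 : F) ∣ X ^ r - C (1 : F) := by
      have := sub_dvd_pow_sub_pow (X : F[X]) (C 1) r
      rwa [← C_pow, one_pow] at this
    have hall := hcop1.mul_dvd hX1dvd hprod
    have hne0 : (X ^ r - C (1 : F) : F[X]) ≠ 0 := X_pow_sub_C_ne_zero hr0 1
    have h1 := Polynomial.natDegree_le_of_dvd hall hne0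
    have hprod0 : ∏ j, φ j ≠ 0 := Finset.prod_ne_zero_iff.mpr (fun j _ => (hφirr j).ne_zero)
    rw [natDegree_X_pow_sub_C, natDegree_mul (X_sub_C_ne_zero 1) hprod0, natDegree_X_sub_C,
      natDegree_prod _ _ (fun j _ => (hφirr j).ne_zero)] at h1
    have h2 : ∑ j : Fin l, i ≤ ∑ j : Fin l, (φ j).natDegree :=
      Finset.sum_le_sum (fun j _ => hdeg j)
    rw [Finset.sum_const, Finset.card_univ, Fintype.card_fin, smul_eq_mul] at h2
    have h3 : l ≤ (r - 1) / i := (Nat.le_div_iff_mul_le hi0).mpr (by omega)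
    omega
  obtain ⟨j, j', hne, hnc⟩ := hex
  have hdvd : φ j ∣ φ j' := by
    by_contra h
    exact hnc ((Irreducible.coprime_iff_not_dvd (hφirr j)).mpr h)
  have hassoc := Irreducible.associated_of_dvd (hφirr j) (hφirr j') hdvd
  have hφj' : ∀ w ∈ D j', aeval y (φ j) w = 0 := ann_of_dvd (hDP j').1 hassoc.symm.dvd (hφ j')
  have hdisj : Disjoint (D j) (D j') := hDind.pairwiseDisjoint hne
  refine ⟨D j ⊔ D j', φ j, sup_le (hDN j) (hDN j'), nd_sup B hA (hDnd j) (hDnd j') (hDo j j' hne),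
    Elus.Inv.sup (hDP j).1 (hDP j').1, ?_, hφirr j, ?_⟩
  · rw [Elus.finrank_sup_of_disjoint hdisj, (hDP j).2, (hDP j').2]
    ring
  · intro w hw
    obtain ⟨a, ha, b, hb, rfl⟩ := Submodule.mem_sup.mp hw
    rw [map_add, hφ j a ha, hφj' b hb, add_zero]

end Fin

section Arith

theorem arith_grow_odd (i j l : ℕ) (hj : j ≤ l) :
    j = 0 ∨ i * 1 + 2 * i * (j - 1) ≤ 2 * i * l := by
  rcases j with _ | j'
  · left
    rfl
  · right
    rw [Nat.add_sub_cancel]
    have h1 : 2 * i * (j' + 1) ≤ 2 * i * l := Nat.mul_le_mul_left _ hj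
    have h2 : 2 * i * (j' + 1) = 2 * i * j' + 2 * i := by ring
    omega

theorem arith_odd (i l m d a : ℕ) (hi : 0 < i) (h2 : 2 * d = 2 * i * l + 2 * a) (hmd : m ≤ d)
    (hmod : 2 * (m % i) ≤ (2 * d) % (2 * i)) :
    i * min l (m / i) ≤ m ∧ m - i * min l (m / i) ≤ a := by
  have hm := Nat.div_add_mod m i
  have hmodle : (2 * d) % (2 * i) ≤ 2 * a := by
    rw [h2, add_comm, Nat.add_mul_mod_self_left]
    exact Nat.mod_le _ _
  rcases le_total l (m / i) with hlM | hlM
  · rw [min_eq_left hlM]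
    have h3 : i * l ≤ i * (m / i) := Nat.mul_le_mul_left i hlM
    have h4 : 2 * i * l = 2 * (i * l) := by ring
    constructor <;> omega
  · rw [min_eq_right hlM]
    constructor <;> omega

theorem arith_even (i l m d a s : ℕ) (hi : 0 < i) (h2 : 2 * d = i * l + 2 * a)
    (hmod : 2 * (m % i) ≤ (2 * d) % i) (hlast : s + 2 * (m / i) ≤ (2 * d) / i) :
    i * (m / i - ((2 * d) / i - l) / 2) ≤ m ∧ m - i * (m / i - ((2 * d) / i - l) / 2) ≤ a ∧
      (m / i - ((2 * d) / i - l) / 2 = 0 ∨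
        i * (s + 1) + 2 * i * (m / i - ((2 * d) / i - l) / 2 - 1) ≤ i * l) := by
  have hm := Nat.div_add_mod m i
  have hd := Nat.div_add_mod (2 * d) i
  have hlL : l ≤ (2 * d) / i := (Nat.le_div_iff_mul_le hi).mpr (by rw [mul_comm]; omega)
  generalize hM : m / i = M at *
  generalize hL : (2 * d) / i = L at *
  generalize hm0 : m % i = m0 at *
  generalize hk : (2 * d) % i = k at *
  obtain ⟨e2, he2⟩ : ∃ e2, e2 = (L - l) / 2 := ⟨_, rfl⟩
  rw [← he2]
  obtain ⟨j, hj⟩ : ∃ j, j = M - e2 := ⟨_, rfl⟩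
  rw [← hj]
  have h1 : i * M ≤ i * j + i * e2 := by
    rw [← Nat.mul_add]
    exact Nat.mul_le_mul_left i (by omega)
  have h3 : i * j ≤ i * M := Nat.mul_le_mul_left i (by omega)
  have h4 : 2 * (i * e2) + i * l ≤ i * L := by
    have := Nat.mul_le_mul_left i (show 2 * e2 + l ≤ L by omega)
    have e : i * (2 * e2 + l) = 2 * (i * e2) + i * l := by ring
    omega
  refine ⟨by omega, by omega, ?_⟩
  by_cases hj0 : j = 0
  · left
    exact hj0
  · right
    have h5 : s + 1 + 2 * (j - 1) ≤ l := by omega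
    have h6 := Nat.mul_le_mul_left i h5
    have e : i * (s + 1 + 2 * (j - 1)) = i * (s + 1) + 2 * i * (j - 1) := by ring
    omega

end Arith

section Fin2

variable {F : Type u} [Field F] [Fintype F] {V : Type v} [AddCommGroup V] [Module F V]
  [FiniteDimensional F V]
variable (B : LinearMap.BilinForm F V)

/-- sufficiency: under the arithmetic conditions every isometry of order `r` fixes a totally
isotropic `m`-space -/
theorem ti_suff {p f₀ : ℕ} [hp : Fact p.Prime] (hq : Fintype.card F = p ^ f₀)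
    (hA : B.IsAlt) (hB : B.Nondegenerate) (r : ℕ) [hr : Fact r.Prime] (hr2 : r ≠ 2) (hrp : r ≠ p)
    (hrF : (r : F) ≠ 0) (hrq : ¬ r ∣ Fintype.card F) (i c : ℕ)
    (hi : i = orderOf ((Fintype.card F : ℕ) : ZMod r)) (hc : c = if Even i then i else 2 * i)
    (d m : ℕ) (hn : finrank F V = 2 * d) (hmd : m ≤ d)
    (hmod : 2 * (m % i) ≤ (2 * d) % c)
    (hlast : Odd i ∨ (r - 1) / i + 2 * (m / i) ≤ (2 * d) / i)
    {y : Module.End F V} (hyB : IsIsom B y) (hy : y ^ r = 1) :
    ∃ W : Submodule F V, finrank F W = m ∧ TI B W ∧ Elus.Inv y W := by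
  classical
  have hr0 : 0 < r := hr.out.pos
  have hi0 : 0 < i := by
    rw [hi]
    exact Elus.ord_pos r (Fintype.card F) hrq
  have hC : ND B ((⊤ : Submodule F V) ⊓ LinearMap.ker (y - 1)) :=
    nd_fix B hA hyB hrF hy (nd_top B hA hB) (fun v _ => Submodule.mem_top)
  obtain ⟨N, -, hN, hNi, hNC, hNfin, hCN, hdisj⟩ :=
    moving_part B hA hB hyB hr0 hrF hy (nd_top B hA hB) (fun v _ => Submodule.mem_top)
  have hmodc := sp_mod B hA hB hyB r hrF hrq hy i c hi hc (nd_top B hA hB)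
    (fun v _ => Submodule.mem_top)
  rw [top_inf_eq] at hC hNfin hCN hdisj hmodc
  rw [finrank_top, hn] at hNfin hmodc
  rw [← hNfin] at hmodc
  obtain ⟨l, hl⟩ := hmodc
  obtain ⟨a, ha⟩ := even_of_nd B hA hB _ _ rfl hC
  have hle : finrank F (LinearMap.ker (y - 1)) ≤ 2 * d := by
    rw [← hn]
    exact Submodule.finrank_le _
  have hfinal : ∀ j : ℕ, i * j ≤ m → m - i * j ≤ a →
      (∃ WN : Submodule F V, WN ≤ N ∧ TI B WN ∧ Elus.Inv y WN ∧ finrank F WN = i * j) →
      ∃ W : Submodule F V, finrank F W = m ∧ TI B W ∧ Elus.Inv y W := by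
    rintro j hj1 hj2 ⟨WN, hWNN, hWNti, hWNi, hWNfin⟩
    obtain ⟨WC, hWCC, hWCti, hWCfin⟩ := exists_ti B hA hB hC a (by omega) (m - i * j) hj2
    refine ⟨WC ⊔ WN, ?_, ti_sup B hA hWCti hWNti (fun u hu v hv => hCN u (hWCC hu) v (hWNN hv)),
      Elus.Inv.sup (Elus.inv_of_le_ker hWCC) hWNi⟩
    rw [Elus.finrank_sup_of_disjoint (hdisj.mono hWCC hWNN), hWCfin, hWNfin]
    omega
  by_cases hev : Even i
  · rw [if_pos hev] at hc
    subst hc
    have hlast' : (r - 1) / c + 2 * (m / c) ≤ (2 * d) / c := by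
      rcases hlast with h | h
      · exact absurd hev (Nat.not_even_iff_odd.mpr h)
      · exact h
    have h2 : 2 * d = c * l + 2 * a := by omega
    obtain ⟨h3, h4, h5⟩ := arith_even c l m d a ((r - 1) / c) hi0 h2 hmod hlast'
    apply hfinal _ h3 h4
    refine grow_ti B hA hB hyB hr0 hy c ((r - 1) / c + 1) ?hstep _ N hN hNi hNC ?hcond
    case hcond =>
      rw [hl]
      exact h5
    case hstep =>
      intro N' hN' hN'i hN'C hN'fin
      have hmod' := sp_mod B hA hB hyB r hrF hrq hy c c hi (by rw [if_pos hev]) hN' hN'i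
      rw [hN'C, finrank_bot, Nat.sub_zero] at hmod'
      obtain ⟨l', hl'⟩ := hmod'
      have hl'' : (r - 1) / c + 1 ≤ l' := by
        rw [hl'] at hN'fin
        exact Nat.le_of_mul_le_mul_left hN'fin hi0
      obtain ⟨P, φ, hPN, hP, hPi, hPfin, hφ, hφP⟩ := exists_pair_block B hq hA hB r hr2 hrp hrF
        hrq hyB hy c hi hev hN' hN'i hN'C l' hl' hl''
      have hPC : P ⊓ LinearMap.ker (y - 1) = ⊥ := by
        rw [eq_bot_iff, ← hN'C]
        exact inf_le_inf_right _ hPN
      obtain ⟨U, hUP, hUti, hUi, hUfin⟩ := exists_ti_min B hq hA r hrp hrq hyB hy hPi hPC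
        (by rw [hPfin, hi]) hφ hφP
      exact ⟨U, P, hUP, hPN, hUti, hUi, by rw [hUfin, ← hi], hP, hPi, hPfin⟩
  · rw [if_neg hev] at hc
    subst hc
    have hodd : Odd i := Nat.not_even_iff_odd.mp hev
    have h2 : 2 * d = 2 * i * l + 2 * a := by omega
    obtain ⟨h3, h4⟩ := arith_odd i l m d a hi0 h2 hmd hmod
    apply hfinal _ h3 h4
    refine grow_ti B hA hB hyB hr0 hy i 1 ?hstep _ N hN hNi hNC ?hcond
    case hcond =>
      rw [hl]
      exact arith_grow_odd i _ l (min_le_left _ _)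
    case hstep =>
      intro N' hN' hN'i hN'C hN'fin
      have hN'0 : N' ≠ ⊥ := by
        intro h
        rw [h, finrank_bot] at hN'fin
        omega
      have := exists_ti_block_odd B hq hA hB r hrp hrF hyB hy (by rw [← hi]; exact hodd) hN'
        hN'i hN'C hN'0
      rw [← hi] at this
      exact this

/-- the basic necessary conditions -/
theorem ti_nec_basic {p f₀ : ℕ} [hp : Fact p.Prime] (hq : Fintype.card F = p ^ f₀)
    (hA : B.IsAlt) (hB : B.Nondegenerate) (r : ℕ) [hr : Fact r.Prime] (hr2 : r ≠ 2) (hrp : r ≠ p)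
    (hrF : (r : F) ≠ 0) (hrq : ¬ r ∣ Fintype.card F) (i c : ℕ)
    (hi : i = orderOf ((Fintype.card F : ℕ) : ZMod r)) (hc : c = if Even i then i else 2 * i)
    (d m : ℕ) (hn : finrank F V = 2 * d) (hm : 1 ≤ m) (hmd : m ≤ d)
    (hΩ : r ∣ Nat.card {W : Submodule F V // finrank F W = m ∧ TI B W})
    (H : ∀ y : Module.End F V, IsIsom B y → y ^ r = 1 → y ≠ 1 →
      ∃ W : Submodule F V, finrank F W = m ∧ TI B W ∧ Elus.Inv y W) :
    i ≤ m ∧ 2 * (m % i) ≤ (2 * d) % c := by
  classical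
  have hr0 : 0 < r := hr.out.pos
  have hi0 : 0 < i := by
    rw [hi]
    exact Elus.ord_pos r (Fintype.card F) hrq
  have hcpos : 0 < c := by
    rw [hc]
    split_ifs <;> omega
  have hc2 : c ≤ 2 * i := by
    rw [hc]
    split_ifs <;> omega
  obtain ⟨W₀, -, hW₀ti, hW₀fin⟩ := exists_ti B hA hB (nd_top B hA hB) d
    (by rw [finrank_top, hn]) m hmd
  have hdvd := dvd_trans hΩ (card_ti_dvd B hA hB m W₀ ⟨hW₀fin, hW₀ti⟩)
  obtain ⟨y₀, hy₀B, hy₀, hy₀1⟩ := exists_order_r B r hdvd
  obtain ⟨hcn, hex⟩ := exists_iso_elt B hq hA hB r hr2 hrp hrF hrq i c hi hc hy₀B hy₀ hy₀1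
    (2 * d) hn
  obtain ⟨y, hyB, hy, hyfin⟩ := hex ((2 * d) / c) (Nat.mul_div_le _ _)
  have hCfin : finrank F (LinearMap.ker (y - 1)) = (2 * d) % c := by
    have := Nat.div_add_mod (2 * d) c
    omega
  have hy1 : y ≠ 1 := by
    rintro rfl
    have h1 : LinearMap.ker ((1 : Module.End F V) - 1) = ⊤ := by
      rw [sub_self, LinearMap.ker_zero]
    rw [h1, finrank_top, hn] at hyfin
    have h2 : 1 ≤ (2 * d) / c := (Nat.le_div_iff_mul_le hcpos).mpr (by omega)
    have h3 : c * 1 ≤ c * ((2 * d) / c) := Nat.mul_le_mul_left c h2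
    omega
  obtain ⟨W, hWfin, hWti, hWi⟩ := H y hyB hy hy1
  have h1 := Elus.mod_inf_of_inv y r hy hrq W hWi
  rw [← hi, hWfin] at h1
  have hCnd : ND B ((⊤ : Submodule F V) ⊓ LinearMap.ker (y - 1)) :=
    nd_fix B hA hyB hrF hy (nd_top B hA hB) (fun v _ => Submodule.mem_top)
  rw [top_inf_eq] at hCnd
  have h2 := ti_finrank_le B hA hB (hWti.mono inf_le_left) inf_le_right hCnd
  rw [hCfin] at h2
  have h3 : finrank F (W ⊓ LinearMap.ker (y - 1) : Submodule F V) ≤ m := by
    rw [← hWfin]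
    exact Submodule.finrank_mono inf_le_left
  generalize finrank F (W ⊓ LinearMap.ker (y - 1) : Submodule F V) = a at h1 h2 h3
  have hmodlt : (2 * d) % c < c := Nat.mod_lt _ hcpos
  have ha : a < i := by omega
  obtain ⟨t, ht⟩ := h1
  have hma : m % i = a := by
    have h4 : m = a + i * t := by omega
    rw [h4, Nat.add_mul_mod_self_left, Nat.mod_eq_of_lt ha]
  refine ⟨?_, by rw [hma]; exact h2⟩
  by_contra hlt
  push Not at hlt
  have hmm : m % i = m := Nat.mod_eq_of_lt hlt
  obtain ⟨j', hj', hdvd'⟩ := exists_dvd_of_dvd_card_ti B hA hB m (by rw [hn]; omega) r hΩ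
  rw [hn] at hdvd'
  have h5 := Elus.ord_dvd_of_dvd_sub_one r (Fintype.card F) (2 * d - 2 * j') Fintype.card_pos
    hdvd'
  rw [← hi] at h5
  have h6 : c ∣ 2 * d - 2 * j' := by
    by_cases hev : Even i
    · rw [hc, if_pos hev]
      exact h5
    · rw [hc, if_neg hev]
      have hodd := Nat.not_even_iff_odd.mp hev
      exact Nat.Coprime.mul_dvd_of_dvd_of_dvd (Nat.coprime_two_left.mpr hodd)
        ⟨d - j', by omega⟩ h5
  have h7 := Nat.div_add_mod (2 * d) c
  have h8 : c ∣ (2 * d) % c - 2 * j' := by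
    have e : 2 * d - 2 * j' = c * ((2 * d) / c) + ((2 * d) % c - 2 * j') := by omega
    rw [e] at h6
    exact (Nat.dvd_add_right (dvd_mul_right _ _)).mp h6
  have h9 := Nat.le_of_dvd (by omega) h8
  omega

end Fin2

end Cfsg.Agent.Lib.Helper2.SpTi
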