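import Mathlib
import Cfsg.Agent.Lib.Helper2.SpTiC
set_option autoImplicit false
set_option maxHeartbeats 1000000
set_option linter.unusedVariables false
set_option linter.unusedSectionVars false
set_option linter.style.longLine false
set_option linter.unusedSimpArgs false
set_option linter.deprecated false
set_option linter.style.haveILetI false

/-! Totally isotropic subspaces of symplectic spaces (part D): isometries of odd prime order with
prescribed types of irreducible blocks, and the derangements they give. -/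

namespace Cfsg.Agent.Lib.Helper2.SpTi

open Module Polynomial Cfsg.Agent.Lib.Helper2 Cfsg.Agent.Lib.Helper2.SpImp

universe u v

section Types

variable {F : Type u} [Field F]

/-- the types of the powers of a root of an irreducible factor of `X ^ r - 1` -/
theorem exists_types (r : ℕ) [hr : Fact r.Prime] (i : ℕ) (hi0 : 0 < i) {φ₁ : F[X]}
    (hφ₁ : Irreducible φ₁) (hdvd : φ₁ ∣ X ^ r - C (1 : F)) (hnd : ¬ φ₁ ∣ X - C (1 : F))
    (hdeg : φ₁.natDegree ≤ i) :
    ∃ (k : Fin ((r - 1) / i) → ℕ) (ψ : Fin ((r - 1) / i) → F[X]),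
      (∀ a, Irreducible (ψ a)) ∧ (∀ a, IsCoprime (X - C (1 : F)) (ψ a)) ∧
      (∀ a b, a ≠ b → IsCoprime (ψ a) (ψ b)) ∧ (∀ a, φ₁ ∣ expand F (k a) (ψ a)) := by
  classical
  haveI : Fact (Irreducible φ₁) := ⟨hφ₁⟩
  haveI : Module.Finite F (AdjoinRoot φ₁) := (AdjoinRoot.powerBasis hφ₁.ne_zero).finite
  haveI : Algebra.IsIntegral F (AdjoinRoot φ₁) := Algebra.IsIntegral.of_finite F (AdjoinRoot φ₁)
  have hfinK : finrank F (AdjoinRoot φ₁) = φ₁.natDegree := by
    rw [(AdjoinRoot.powerBasis hφ₁.ne_zero).finrank, AdjoinRoot.powerBasis_dim]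
  obtain ⟨ζ, hζ⟩ : ∃ ζ : AdjoinRoot φ₁, ζ = AdjoinRoot.root φ₁ := ⟨_, rfl⟩
  have hzero : ∀ g : F[X], aeval ζ g = 0 ↔ φ₁ ∣ g := by
    intro g
    rw [hζ, AdjoinRoot.aeval_eq, AdjoinRoot.mk_eq_zero]
  have hζr : ζ ^ r = 1 := by
    have := (hzero _).mpr hdvd
    rw [map_sub, map_pow, aeval_X, aeval_C, map_one, sub_eq_zero] at this
    exact this
  have hζ1 : ζ ≠ 1 := by
    intro h
    apply hnd
    rw [← hzero, map_sub, aeval_X, aeval_C, map_one, h, sub_self]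
  have hord : orderOf ζ = r := orderOf_eq_prime hζr hζ1
  have hint : ∀ k : ℕ, IsIntegral F (ζ ^ k) := fun k => Algebra.IsIntegral.isIntegral _
  have hfdeg : ∀ k : ℕ, (minpoly F (ζ ^ k)).natDegree ≤ i := by
    intro k
    have := minpoly.natDegree_le (A := F) (ζ ^ k)
    rw [hfinK] at this
    exact this.trans hdeg
  have hfib : ∀ b ∈ Finset.image (fun k : ℕ => minpoly F (ζ ^ k)) (Finset.Icc 1 (r - 1)),
      ((Finset.Icc 1 (r - 1)).filter (fun a => minpoly F (ζ ^ a) = b)).card ≤ i := by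
    intro b hb
    obtain ⟨k₀, hk₀, rfl⟩ := Finset.mem_image.mp hb
    have hne : minpoly F (ζ ^ k₀) ≠ 0 := (minpoly.irreducible (hint k₀)).ne_zero
    have hinj : Set.InjOn (fun k : ℕ => ζ ^ k)
        (↑((Finset.Icc 1 (r - 1)).filter (fun a => minpoly F (ζ ^ a) = minpoly F (ζ ^ k₀))) :
          Set ℕ) := by
      apply (pow_injOn_Iio_orderOf (x := ζ)).mono
      intro a ha
      have h1 := Finset.mem_Icc.mp (Finset.mem_filter.mp (Finset.mem_coe.mp ha)).1
      rw [Set.mem_Iio, hord]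
      have := hr.out.pos
      omega
    have hsub : ((Finset.Icc 1 (r - 1)).filter
        (fun a => minpoly F (ζ ^ a) = minpoly F (ζ ^ k₀))).image (fun k : ℕ => ζ ^ k) ⊆
        ((minpoly F (ζ ^ k₀)).aroots (AdjoinRoot φ₁)).toFinset := by
      intro z hz
      obtain ⟨a, ha, rfl⟩ := Finset.mem_image.mp hz
      rw [Multiset.mem_toFinset, mem_aroots]
      refine ⟨hne, ?_⟩
      rw [← (Finset.mem_filter.mp ha).2]
      exact minpoly.aeval F (ζ ^ a)
    calc ((Finset.Icc 1 (r - 1)).filter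
          (fun a => minpoly F (ζ ^ a) = minpoly F (ζ ^ k₀))).card
        = (((Finset.Icc 1 (r - 1)).filter
          (fun a => minpoly F (ζ ^ a) = minpoly F (ζ ^ k₀))).image (fun k : ℕ => ζ ^ k)).card :=
          (Finset.card_image_of_injOn hinj).symm
      _ ≤ ((minpoly F (ζ ^ k₀)).aroots (AdjoinRoot φ₁)).toFinset.card := Finset.card_le_card hsub
      _ ≤ Multiset.card ((minpoly F (ζ ^ k₀)).aroots (AdjoinRoot φ₁)) :=
          Multiset.toFinset_card_le _
      _ ≤ ((minpoly F (ζ ^ k₀)).map (algebraMap F (AdjoinRoot φ₁))).natDegree := card_roots' _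
      _ = (minpoly F (ζ ^ k₀)).natDegree := natDegree_map _
      _ ≤ i := hfdeg k₀
  have hcard := Finset.card_le_mul_card_image (Finset.Icc 1 (r - 1)) i hfib
  have hS : (Finset.Icc 1 (r - 1)).card = r - 1 := by
    rw [Nat.card_Icc]
    omega
  have hs : (r - 1) / i ≤
      (Finset.image (fun k : ℕ => minpoly F (ζ ^ k)) (Finset.Icc 1 (r - 1))).card :=
    Nat.div_le_of_le_mul (le_of_eq_of_le hS.symm hcard)
  obtain ⟨t, htsub, htcard⟩ := Finset.exists_subset_card_eq hs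
  have hmem : ∀ a : Fin ((r - 1) / i), ∃ k ∈ Finset.Icc 1 (r - 1),
      minpoly F (ζ ^ k) = (((Finset.equivFinOfCardEq htcard).symm a : t) : F[X]) := by
    intro a
    exact Finset.mem_image.mp (htsub ((Finset.equivFinOfCardEq htcard).symm a).2)
  choose k hkS hk using hmem
  refine ⟨k, fun a => minpoly F (ζ ^ k a), fun a => minpoly.irreducible (hint _), ?_, ?_, ?_⟩
  · intro a
    apply (Irreducible.coprime_iff_not_dvd (irreducible_X_sub_C (1 : F))).mpr
    intro hd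
    have hassoc := Irreducible.associated_of_dvd (irreducible_X_sub_C (1 : F))
      (minpoly.irreducible (hint (k a))) hd
    have heq := eq_of_monic_of_associated (monic_X_sub_C (1 : F)) (minpoly.monic (hint (k a)))
      hassoc
    have h1 := minpoly.aeval F (ζ ^ k a)
    rw [← heq, map_sub, aeval_X, aeval_C, map_one, sub_eq_zero] at h1
    have h2 := orderOf_dvd_of_pow_eq_one h1
    rw [hord] at h2
    have h3 := Finset.mem_Icc.mp (hkS a)
    have := Nat.le_of_dvd (by omega) h2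
    omega
  · intro a b hab
    apply (Irreducible.coprime_iff_not_dvd (minpoly.irreducible (hint (k a)))).mpr
    intro hd
    have hassoc := Irreducible.associated_of_dvd (minpoly.irreducible (hint (k a)))
      (minpoly.irreducible (hint (k b))) hd
    have heq : minpoly F (ζ ^ k a) = minpoly F (ζ ^ k b) :=
      eq_of_monic_of_associated (minpoly.monic (hint _)) (minpoly.monic (hint _)) hassoc
    rw [hk a, hk b] at heq
    exact hab ((Finset.equivFinOfCardEq htcard).symm.injective (Subtype.ext heq))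
  · intro a
    rw [← hzero, expand_aeval]
    exact minpoly.aeval F (ζ ^ k a)

end Types

section Gen

variable {F : Type u} [Field F] {V : Type v} [AddCommGroup V] [Module F V] [FiniteDimensional F V]
variable (B : LinearMap.BilinForm F V)

theorem pow_congr_on {g y : Module.End F V} {Z : Submodule F V} (hZ : Elus.Inv y Z)
    (h : ∀ u ∈ Z, g u = y u) (n : ℕ) : ∀ u ∈ Z, (g ^ n) u = (y ^ n) u := by
  induction n with
  | zero =>
    intro u _
    rw [pow_zero, pow_zero]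
  | succ n ih =>
    intro u hu
    rw [pow_succ, pow_succ, Module.End.mul_apply, Module.End.mul_apply, h u hu, ih _ (hZ u hu)]

theorem aeval_congr_on {g y : Module.End F V} {Z : Submodule F V} (hZ : Elus.Inv y Z)
    (h : ∀ u ∈ Z, g u = y u) (f : F[X]) : ∀ u ∈ Z, aeval g f u = aeval y f u := by
  induction f using Polynomial.induction_on' with
  | add p q hp hq =>
    intro u hu
    rw [map_add, map_add, LinearMap.add_apply, LinearMap.add_apply, hp u hu, hq u hu]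
  | monomial n a =>
    intro u hu
    rw [aeval_monomial, aeval_monomial, Module.End.mul_apply, Module.End.mul_apply,
      pow_congr_on hZ h n u hu]

theorem conj_isom {g : V ≃ₗ[F] V} (hg : ∀ u v, B (g u) (g v) = B u v) {x₀ : Module.End F V}
    (hx₀ : IsIsom B x₀) : IsIsom B (LinearEquiv.conjAlgEquiv F g x₀) := by
  intro u v
  rw [LinearEquiv.conjAlgEquiv_apply]
  show B (g (x₀ (g.symm u))) (g (x₀ (g.symm v))) = B u v
  rw [hg, hx₀]
  have := hg (g.symm u) (g.symm v)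
  rw [g.apply_symm_apply, g.apply_symm_apply] at this
  exact this.symm

theorem conj_apply (g : V ≃ₗ[F] V) (x₀ : Module.End F V) (u : V) :
    (LinearEquiv.conjAlgEquiv F g x₀) (g u) = g (x₀ u) := by
  rw [LinearEquiv.conjAlgEquiv_apply]
  show g (x₀ (g.symm (g u))) = g (x₀ u)
  rw [g.symm_apply_apply]

theorem conj_aeval (g : V ≃ₗ[F] V) (x₀ : Module.End F V) (f : F[X]) (u : V) :
    aeval (LinearEquiv.conjAlgEquiv F g x₀) f (g u) = g (aeval x₀ f u) := by
  rw [aeval_algHom_apply, conj_apply]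

theorem nd_perp (hA : B.IsAlt) (hB : B.Nondegenerate) {A : Submodule F V} (hAnd : ND B A) :
    ND B (B.orthogonal A) ∧ finrank F (B.orthogonal A) = finrank F V - finrank F A := by
  have h1 := nd_perp_in B hA (nd_top B hA hB) hAnd le_top
  have h2 := finrank_perp_in B hA hB (nd_top B hA hB) (le_top : A ≤ ⊤)
  rw [top_inf_eq] at h1 h2
  rw [finrank_top] at h2
  exact ⟨h1, h2⟩

/-- adding a block of prescribed type to an isometry -/
theorem add_block (hA : B.IsAlt) (hB : B.Nondegenerate) {r : ℕ} (hr : 0 < r)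
    {y : Module.End F V} (hyB : IsIsom B y) (hy : y ^ r = 1) {A : Submodule F V}
    (hAnd : ND B A) (hAfix : ∀ v ∈ B.orthogonal A, y v = v) {x₀ : Module.End F V}
    (hx₀B : IsIsom B x₀) (hx₀ : x₀ ^ r = 1) {Z₀ : Submodule F V} (hZ₀ : ND B Z₀)
    (hZ₀i : Elus.Inv x₀ Z₀) (e : ℕ) (hZ₀fin : finrank F Z₀ = 2 * e)
    (hroom : finrank F A + 2 * e ≤ finrank F V) (ψ : F[X]) (hψ : ∀ u ∈ Z₀, aeval x₀ ψ u = 0) :
    ∃ (y' : Module.End F V) (Z : Submodule F V), IsIsom B y' ∧ y' ^ r = 1 ∧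
      Z ≤ B.orthogonal A ∧ ND B Z ∧ Elus.Inv y' Z ∧ finrank F Z = 2 * e ∧
      (∀ u ∈ A, y' u = y u) ∧ (∀ u ∈ Z, aeval y' ψ u = 0) ∧
      (∀ v ∈ B.orthogonal (A ⊔ Z), y' v = v) := by
  obtain ⟨hAp, hApfin⟩ := nd_perp B hA hB hAnd
  obtain ⟨Z, hZA, hZ, hZi, hZfin⟩ := grow_planes B hA hB y hAp
    (fun v hv => Elus.mem_ker_sub_one.mpr (hAfix v hv)) e (by omega)
  obtain ⟨g, hg, hgD⟩ := exists_iso_of_decomp B hA hB (t := 1) (m := e) (fun _ => Z₀) (fun _ => Z)
    (fun _ => hZ₀) (fun _ => hZ₀fin) (fun j j' h => absurd (Subsingleton.elim j j') h)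
    (fun _ => hZ) (fun _ => hZfin) (fun j j' h => absurd (Subsingleton.elim j j') h)
  have hgZ : Z₀.map (g : V →ₗ[F] V) = Z := hgD 0
  have h1B := conj_isom B hg hx₀B
  have h1r : (LinearEquiv.conjAlgEquiv F g x₀) ^ r = 1 := by
    rw [← map_pow, hx₀, map_one]
  have h1Z : Elus.Inv (LinearEquiv.conjAlgEquiv F g x₀) Z := by
    intro u hu
    rw [← hgZ] at hu ⊢
    obtain ⟨u₀, hu₀, rfl⟩ := hu
    show (LinearEquiv.conjAlgEquiv F g x₀) (g u₀) ∈ _
    rw [conj_apply]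
    exact ⟨x₀ u₀, hZ₀i u₀ hu₀, rfl⟩
  obtain ⟨y', hy'B, hy'r, hy'Z, hy'p⟩ := glue_iso B hA hZ (LinearEquiv.conjAlgEquiv F g x₀) y
    h1B hyB h1Z (inv_perp B hyB hr hy hZi) r h1r hy
  have hAZp : A ≤ B.orthogonal Z := by
    intro u hu
    apply (mem_perp B).mpr
    intro z hz
    exact swap_zero B hA ((mem_perp B).mp (hZA hz) u hu)
  refine ⟨y', Z, hy'B, hy'r, hZA, hZ, ?_, hZfin, fun u hu => hy'p u (hAZp hu), ?_, ?_⟩
  · intro u hu
    rw [hy'Z u hu]
    exact h1Z u hu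
  · intro u hu
    rw [aeval_congr_on h1Z hy'Z ψ u hu]
    rw [← hgZ] at hu
    obtain ⟨u₀, hu₀, rfl⟩ := hu
    show aeval (LinearEquiv.conjAlgEquiv F g x₀) ψ (g u₀) = 0
    rw [conj_aeval, hψ u₀ hu₀, map_zero]
  · intro v hv
    have hvZ : v ∈ B.orthogonal Z := LinearMap.BilinForm.orthogonal_le le_sup_right hv
    have hvA : v ∈ B.orthogonal A := LinearMap.BilinForm.orthogonal_le le_sup_left hv
    rw [hy'p v hvZ, hAfix v hvA]

/-- peeling a block of a type that occurs only once -/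
theorem peel_block (hA : B.IsAlt) {y : Module.End F V} {A Z W : Submodule F V} (hZ : ND B Z)
    (hZ0 : Z ≠ ⊥) (hZi : Elus.Inv y Z)
    (hZmin : ∀ X : Submodule F V, X ≤ Z → Elus.Inv y X → X = ⊥ ∨ X = Z) {ψ G : F[X]}
    (hψ : ∀ u ∈ Z, aeval y ψ u = 0) (hG : ∀ u ∈ A, aeval y G u = 0) (hcop : IsCoprime ψ G)
    (hW : W ≤ A ⊔ Z) (hWi : Elus.Inv y W) (hWti : TI B W) : W ≤ A := by
  have hWZ : W ⊓ Z = ⊥ := by
    rcases hZmin _ inf_le_right (inv_inf' hWi hZi) with h | h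
    · exact h
    · exfalso
      have h1 : Z ≤ W := inf_eq_right.mp h
      have h2 : Z ≤ B.orthogonal Z := ti_le_perp B (hWti.mono h1)
      apply hZ0
      rw [eq_bot_iff, ← hZ.eq_bot]
      exact le_inf le_rfl h2
  intro w hw
  obtain ⟨a, ha, z, hz, rfl⟩ := Submodule.mem_sup.mp (hW hw)
  have h1 : aeval y G (a + z) = aeval y G z := by rw [map_add, hG a ha, zero_add]
  have h2 : aeval y G z ∈ W ⊓ Z := by
    refine ⟨?_, inv_aeval hZi G z hz⟩
    rw [← h1]
    exact inv_aeval hWi G _ hw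
  rw [hWZ] at h2
  have hz0 : z = 0 := eq_zero_of_coprime hcop (hψ z hz) ((Submodule.mem_bot F).mp h2)
  rw [hz0, add_zero]
  exact ha

end Gen

section Arith2

theorem arith_D (n i s : ℕ) (hi : 0 < i) (hs : 0 < s) (hin : i ≤ n) :
    ∃ e j : ℕ, Odd e ∧ j + 1 ≤ s ∧ i * (e + j) ≤ n ∧ 0 < e + j ∧
      (n - i * (e + j)) + i * (e - 1) ≤ n % i + i * (n / i - s) := by
  have hL : 0 < n / i := Nat.div_pos hin hi
  have hn := Nat.mod_add_div n i
  by_cases h1 : n / i ≤ s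
  · refine ⟨1, n / i - 1, odd_one, by omega, ?_, by omega, ?_⟩
    · have e1 : 1 + (n / i - 1) = n / i := by omega
      rw [e1]
      omega
    · have e1 : 1 + (n / i - 1) = n / i := by omega
      rw [e1, Nat.sub_self, mul_zero]
      omega
  · push Not at h1
    by_cases h2 : Even (n / i - s)
    · refine ⟨n / i - s + 1, s - 1, h2.add_one, by omega, ?_, by omega, ?_⟩
      · have e1 : n / i - s + 1 + (s - 1) = n / i := by omega
        rw [e1]
        omega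
      · have e1 : n / i - s + 1 + (s - 1) = n / i := by omega
        rw [e1, Nat.add_sub_cancel]
        omega
    · have h2' : Odd (n / i - s) := Nat.not_even_iff_odd.mp h2
      refine ⟨n / i - s, s - 1, h2', by omega, ?_, by omega, ?_⟩
      · have e1 : n / i - s + (s - 1) = n / i - 1 := by omega
        rw [e1]
        have e2 : i * (n / i - 1) ≤ i * (n / i) := Nat.mul_le_mul_left i (by omega)
        omega
      · have e1 : n / i - s + (s - 1) = n / i - 1 := by omega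
        rw [e1]
        have e2 : i * (n / i - 1) = i * (n / i) - i := Nat.mul_sub_one i (n / i)
        have e3 : i * (n / i - s - 1) = i * (n / i - s) - i := Nat.mul_sub_one i (n / i - s)
        have e4 : i * 1 ≤ i * (n / i - s) := Nat.mul_le_mul_left i (by omega)
        have e5 : i * 1 ≤ i * (n / i) := Nat.mul_le_mul_left i (by omega)
        omega

end Arith2

section Build

variable {F : Type u} [Field F] [Fintype F] {V : Type v} [AddCommGroup V] [Module F V]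
  [FiniteDimensional F V]
variable (B : LinearMap.BilinForm F V)

/-- configurations: an isometry `y` with `y ^ r = 1` acting trivially on the orthogonal
complement of the nondegenerate invariant subspace `A` -/
def Cfg (r : ℕ) (y : Module.End F V) (A : Submodule F V) : Prop :=
  IsIsom B y ∧ y ^ r = 1 ∧ ND B A ∧ Elus.Inv y A ∧ ∀ v ∈ B.orthogonal A, y v = v

theorem cfg_add (hA : B.IsAlt) (hB : B.Nondegenerate) {r : ℕ} (hr : 0 < r)
    {y : Module.End F V} {A : Submodule F V} (hcfg : Cfg B r y A) {x₀ : Module.End F V}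
    (hx₀B : IsIsom B x₀) (hx₀ : x₀ ^ r = 1) {Z₀ : Submodule F V} (hZ₀ : ND B Z₀)
    (hZ₀i : Elus.Inv x₀ Z₀) (i e₀ : ℕ) (hie : i = 2 * e₀) (hZ₀fin : finrank F Z₀ = i)
    (hroom : finrank F A + i ≤ finrank F V) (ψ : F[X]) (hψ : ∀ u ∈ Z₀, aeval x₀ ψ u = 0) :
    ∃ (y' : Module.End F V) (Z : Submodule F V), Cfg B r y' (A ⊔ Z) ∧ Z ≤ B.orthogonal A ∧
      ND B Z ∧ Elus.Inv y' Z ∧ finrank F Z = i ∧ (∀ u ∈ A, y' u = y u) ∧
      (∀ u ∈ Z, aeval y' ψ u = 0) ∧ finrank F (A ⊔ Z : Submodule F V) = finrank F A + i := by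
  obtain ⟨hyB, hy, hAnd, hAi, hfix⟩ := hcfg
  obtain ⟨y', Z, hy'B, hy'r, hZA, hZ, hZi, hZfin, hyA, hψZ, hfix'⟩ :=
    add_block B hA hB hr hyB hy hAnd hfix hx₀B hx₀ hZ₀ hZ₀i e₀ (hZ₀fin.trans hie)
      (by rw [← hie]; exact hroom) ψ hψ
  refine ⟨y', Z, ⟨hy'B, hy'r, nd_sup B hA hAnd hZ ((orth_iff_le_perp B).mpr hZA),
    Elus.Inv.sup (fun u hu => by rw [hyA u hu]; exact hAi u hu) hZi, hfix'⟩, hZA, hZ, hZi,
    hZfin.trans hie.symm, hyA, hψZ, ?_⟩
  rw [Elus.finrank_sup_of_disjoint (hAnd.mono_right hZA), hZfin, hie]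

/-- stage 1: blocks of a single type -/
theorem build_same (hA : B.IsAlt) (hB : B.Nondegenerate) {r : ℕ} (hr : 0 < r)
    {x₀ : Module.End F V} (hx₀B : IsIsom B x₀) (hx₀ : x₀ ^ r = 1) {Z₀ : Submodule F V}
    (hZ₀ : ND B Z₀) (hZ₀i : Elus.Inv x₀ Z₀) (i e₀ : ℕ) (hie : i = 2 * e₀)
    (hZ₀fin : finrank F Z₀ = i) (ψ : F[X]) (hψ : ∀ u ∈ Z₀, aeval x₀ ψ u = 0) :
    ∀ e : ℕ, i * e ≤ finrank F V → ∃ (y : Module.End F V) (E : Submodule F V),
      Cfg B r y E ∧ finrank F E = i * e ∧ ∀ u ∈ E, aeval y ψ u = 0 := by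
  intro e
  induction e with
  | zero =>
    intro _
    refine ⟨1, ⊥, ⟨isIsom_one B, one_pow r, nd_bot B, Elus.inv_bot 1, fun v _ => rfl⟩,
      by rw [finrank_bot, mul_zero], fun u hu => ?_⟩
    rw [(Submodule.mem_bot F).mp hu, map_zero]
  | succ e ih =>
    intro hn
    have e1 : i * (e + 1) = i * e + i := Nat.mul_succ i e
    obtain ⟨y, E, hc, hEfin, hψE⟩ := ih (by omega)
    obtain ⟨y', Z, hc', hZE, hZ, hZi, hZfin, hyE, hψZ, hfin'⟩ :=
      cfg_add B hA hB hr hc hx₀B hx₀ hZ₀ hZ₀i i e₀ hie hZ₀fin (by omega) ψ hψ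
    refine ⟨y', E ⊔ Z, hc', by rw [hfin', hEfin, e1], ?_⟩
    intro w hw
    obtain ⟨a, ha, z, hz, rfl⟩ := Submodule.mem_sup.mp hw
    rw [map_add, aeval_congr_on hc.2.2.2.1 hyE ψ a ha, hψE a ha, hψZ z hz, add_zero]

/-- stage 2: adding blocks of pairwise distinct new types -/
theorem build_distinct {p f₀ : ℕ} [hp : Fact p.Prime] (hq : Fintype.card F = p ^ f₀)
    (hA : B.IsAlt) (hB : B.Nondegenerate) (r : ℕ) [hr : Fact r.Prime] (hrp : r ≠ p)
    (i e₀ : ℕ) (hie : i = 2 * e₀) (hi : i = orderOf ((Fintype.card F : ℕ) : ZMod r))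
    (hi0 : 0 < i) {Z₀ : Submodule F V} (hZ₀ : ND B Z₀) (hZ₀fin : finrank F Z₀ = i)
    (s : ℕ) (x : Fin s → Module.End F V) (ψ : Fin s → F[X])
    (hxB : ∀ a, IsIsom B (x a)) (hxr : ∀ a, x a ^ r = 1) (hxZ : ∀ a, Elus.Inv (x a) Z₀)
    (hxψ : ∀ a, ∀ u ∈ Z₀, aeval (x a) (ψ a) u = 0)
    (hX1 : ∀ a, IsCoprime (X - C (1 : F)) (ψ a))
    (hpair : ∀ a b, a ≠ b → IsCoprime (ψ a) (ψ b)) (h0 : 0 < s)
    {yE : Module.End F V} {E : Submodule F V} (hcE : Cfg B r yE E) (e : ℕ)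
    (hEfin : finrank F E = i * e) (hψE : ∀ u ∈ E, aeval yE (ψ ⟨0, h0⟩) u = 0) :
    ∀ j : ℕ, j + 1 ≤ s → i * (e + j) ≤ finrank F V →
      ∃ (y : Module.End F V) (A : Submodule F V) (G : F[X]), Cfg B r y A ∧
        finrank F A = i * (e + j) ∧ (∀ u ∈ A, aeval y G u = 0) ∧ IsCoprime (X - C (1 : F)) G ∧
        (∀ b : Fin s, j < (b : ℕ) → IsCoprime (ψ b) G) ∧
        (∀ W : Submodule F V, W ≤ A → Elus.Inv y W → TI B W → W ≤ E) := by
  have hr0 : 0 < r := hr.out.pos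
  intro j
  induction j with
  | zero =>
    intro _ _
    have hb0 : ((⟨0, h0⟩ : Fin s) : ℕ) = 0 := rfl
    refine ⟨yE, E, ψ ⟨0, h0⟩, hcE, by rw [add_zero]; exact hEfin, hψE, hX1 _, ?_,
      fun W hW _ _ => hW⟩
    intro b hb
    apply hpair
    intro h
    rw [Fin.ext_iff, hb0] at h
    omega
  | succ j ih =>
    intro hj hn
    have e1 : i * (e + (j + 1)) = i * (e + j) + i := by ring
    obtain ⟨y, A, G, hc, hAfin, hG, hG1, hGb, hpeel⟩ := ih (by omega) (by omega)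
    have hb1 : j + 1 < s := by omega
    obtain ⟨y', Z, hc', hZA, hZ, hZi, hZfin, hyA, hψZ, hfin'⟩ :=
      cfg_add B hA hB hr0 hc (hxB ⟨j + 1, hb1⟩) (hxr ⟨j + 1, hb1⟩) hZ₀ (hxZ ⟨j + 1, hb1⟩) i e₀
        hie hZ₀fin (by omega) (ψ ⟨j + 1, hb1⟩) (hxψ ⟨j + 1, hb1⟩)
    have hAi : Elus.Inv y A := hc.2.2.2.1
    have hGA' : ∀ u ∈ A, aeval y' G u = 0 := by
      intro u hu
      rw [aeval_congr_on hAi hyA G u hu]
      exact hG u hu
    have hbv : ((⟨j + 1, hb1⟩ : Fin s) : ℕ) = j + 1 := rfl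
    refine ⟨y', A ⊔ Z, ψ ⟨j + 1, hb1⟩ * G, hc', by rw [hfin', hAfin, e1], ?_,
      IsCoprime.mul_right (hX1 _) hG1, ?_, ?_⟩
    · intro w hw
      obtain ⟨a, ha, z, hz, rfl⟩ := Submodule.mem_sup.mp hw
      have h1 : aeval y' (ψ ⟨j + 1, hb1⟩ * G) a = 0 := by
        rw [map_mul, Module.End.mul_apply, hGA' a ha, map_zero]
      have h2 : aeval y' (ψ ⟨j + 1, hb1⟩ * G) z = 0 := by
        rw [mul_comm, map_mul, Module.End.mul_apply, hψZ z hz, map_zero]
      rw [map_add, h1, h2, add_zero]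
    · intro b hb
      refine IsCoprime.mul_right (hpair b ⟨j + 1, hb1⟩ ?_) (hGb b (by omega))
      intro h
      rw [Fin.ext_iff, hbv] at h
      omega
    · intro W hW hWi hWti
      have hZC : Z ⊓ LinearMap.ker (y' - 1) = ⊥ := by
        rw [eq_bot_iff]
        intro u hu
        have h1 : aeval y' (X - C (1 : F)) u = 0 := by
          rw [aeval_sub_one, Elus.mem_ker_sub_one.mp hu.2, sub_self]
        exact (Submodule.mem_bot F).mpr (eq_zero_of_coprime (hX1 ⟨j + 1, hb1⟩) h1 (hψZ u hu.1))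
      have hZmin := minimal_of_finrank hq r hrp hc'.2.1 hZi hZC (hZfin.trans hi)
      have hZ0 : Z ≠ ⊥ := by
        intro h
        rw [h, finrank_bot] at hZfin
        omega
      have hWA : W ≤ A := peel_block B hA hZ hZ0 hZi hZmin hψZ hGA'
        (hGb ⟨j + 1, hb1⟩ (by rw [hbv]; omega)) hW hWi hWti
      refine hpeel W hWA (fun w hw => ?_) hWti
      rw [← hyA w (hWA hw)]
      exact hWi w hw

/-- the bound on invariant totally isotropic subspaces of a typed configuration -/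
theorem cfg_bound (hA : B.IsAlt) (hB : B.Nondegenerate) (r : ℕ) [hr : Fact r.Prime]
    (hrF : (r : F) ≠ 0) (hrq : ¬ r ∣ Fintype.card F) {y : Module.End F V}
    {A E : Submodule F V} (hc : Cfg B r y A) (i l e : ℕ)
    (hi : i = orderOf ((Fintype.card F : ℕ) : ZMod r)) (hi0 : 0 < i)
    (hAfin : finrank F A = i * l) (hE : ND B E) (hEfin : finrank F E = i * e) (hodd : Odd e)
    {G : F[X]} (hG : ∀ u ∈ A, aeval y G u = 0) (hG1 : IsCoprime (X - C (1 : F)) G)
    (hpeel : ∀ W : Submodule F V, W ≤ A → Elus.Inv y W → TI B W → W ≤ E) (n : ℕ)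
    (hn : finrank F V = n) :
    (0 < l → y ≠ 1) ∧ ∀ W : Submodule F V, Elus.Inv y W → TI B W →
      2 * finrank F W ≤ (n - i * l) + i * (e - 1) := by
  obtain ⟨hyB, hy, hAnd, hAi, hfix⟩ := hc
  have hAC : A ⊓ LinearMap.ker (y - 1) = ⊥ := by
    rw [eq_bot_iff]
    intro u hu
    have h1 : aeval y (X - C (1 : F)) u = 0 := by
      rw [aeval_sub_one, Elus.mem_ker_sub_one.mp hu.2, sub_self]
    exact (Submodule.mem_bot F).mpr (eq_zero_of_coprime hG1 h1 (hG u hu.1))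
  constructor
  · intro hl hy1
    have h1 : LinearMap.ker (y - 1) = ⊤ := by rw [hy1, sub_self, LinearMap.ker_zero]
    rw [h1, inf_top_eq] at hAC
    rw [hAC, finrank_bot] at hAfin
    have := Nat.mul_pos hi0 hl
    omega
  · intro W hWi hWti
    obtain ⟨hAp, hApfin⟩ := nd_perp B hA hB hAnd
    have hsup : B.orthogonal A ⊔ A = ⊤ := by
      rw [sup_comm]
      exact (nd_isCompl B hA hAnd).sup_eq_top
    have hsplit := inv_split hrF hy (X := B.orthogonal A) (X' := A)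
      (fun v hv => Elus.mem_ker_sub_one.mpr (hfix v hv)) hAi hAC hsup hWi
    have h1 := ti_finrank_le B hA hB (hWti.mono inf_le_left) inf_le_right hAp
    have h2 : W ⊓ A ≤ E := hpeel _ inf_le_right (inv_inf' hWi hAi) (hWti.mono inf_le_left)
    have h3 := ti_finrank_le B hA hB (hWti.mono inf_le_left) h2 hE
    have h4 := Elus.mod_inf_of_inv y r hy hrq (W ⊓ A) (inv_inf' hWi hAi)
    have h5 : (W ⊓ A) ⊓ LinearMap.ker (y - 1) = ⊥ := by
      rw [eq_bot_iff, ← hAC]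
      exact inf_le_inf_right _ inf_le_right
    rw [h5, finrank_bot, Nat.sub_zero, ← hi] at h4
    obtain ⟨t, ht⟩ := h4
    rw [hApfin, hn, hAfin] at h1
    rw [hEfin, ht] at h3
    have e' : i * (2 * t) = 2 * (i * t) := by ring
    have h6 : 2 * t ≤ e := Nat.le_of_mul_le_mul_left (by rw [e']; exact h3) hi0
    obtain ⟨e2, he2⟩ := hodd
    have h7 : 2 * t ≤ e - 1 := by omega
    have h8 := Nat.mul_le_mul_left i h7
    rw [hsplit, ht]
    omega

/-- the derangements for `i` even: isometries of order `r` whose invariant totally isotropic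
subspaces are small -/
theorem exists_typed_derangement {p f₀ : ℕ} [hp : Fact p.Prime] (hq : Fintype.card F = p ^ f₀)
    (hA : B.IsAlt) (hB : B.Nondegenerate) (r : ℕ) [hr : Fact r.Prime] (hr2 : r ≠ 2) (hrp : r ≠ p)
    (hrF : (r : F) ≠ 0) (hrq : ¬ r ∣ Fintype.card F) (i : ℕ)
    (hi : i = orderOf ((Fintype.card F : ℕ) : ZMod r)) (hev : Even i)
    {y₀ : Module.End F V} (hy₀B : IsIsom B y₀) (hy₀ : y₀ ^ r = 1) (hy₀1 : y₀ ≠ 1) (n : ℕ)
    (hn : finrank F V = n) (hin : i ≤ n) :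
    ∃ y : Module.End F V, IsIsom B y ∧ y ^ r = 1 ∧ y ≠ 1 ∧
      ∀ W : Submodule F V, Elus.Inv y W → TI B W →
        2 * finrank F W ≤ n % i + i * (n / i - (r - 1) / i) := by
  classical
  have hr0 : 0 < r := hr.out.pos
  have hi0 : 0 < i := by
    rw [hi]
    exact Elus.ord_pos r (Fintype.card F) hrq
  have hci : i = if Even i then i else 2 * i := by rw [if_pos hev]
  obtain ⟨N₀, -, hN₀, hN₀i, hN₀C, hN₀fin, -, -⟩ :=
    moving_part B hA hB hy₀B hr0 hrF hy₀ (nd_top B hA hB) (fun v _ => Submodule.mem_top)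
  rw [top_inf_eq, finrank_top] at hN₀fin
  have hN₀0 : N₀ ≠ ⊥ := by
    intro h
    rw [h, finrank_bot] at hN₀fin
    have h1 : finrank F (LinearMap.ker (y₀ - 1)) = finrank F V := by
      have := Submodule.finrank_le (LinearMap.ker (y₀ - 1))
      omega
    have h2 := Submodule.eq_top_of_finrank_eq h1
    apply hy₀1
    apply LinearMap.ext
    intro v
    have h3 : v ∈ LinearMap.ker (y₀ - 1) := by
      rw [h2]
      exact Submodule.mem_top
    exact Elus.mem_ker_sub_one.mp h3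
  obtain ⟨Z₀, hZ₀N, hZ₀, hZ₀i, hZ₀fin⟩ :=
    exists_nd_block B hq hA hB r hr2 hrp hrF hrq hy₀B hy₀ i i hi hci hN₀ hN₀i hN₀C hN₀0
  have hZ₀C : Z₀ ⊓ LinearMap.ker (y₀ - 1) = ⊥ := by
    rw [eq_bot_iff, ← hN₀C]
    exact inf_le_inf_right _ hZ₀N
  have hZ₀min := minimal_of_finrank hq r hrp hy₀ hZ₀i hZ₀C (hZ₀fin.trans hi)
  have hZ₀0 : Z₀ ≠ ⊥ := by
    intro h
    rw [h, finrank_bot] at hZ₀fin
    omega
  obtain ⟨φ₁, hφ₁, hφ₁Z⟩ := exists_irr_ann hr0 hy₀ hZ₀i hZ₀0 hZ₀min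
  obtain ⟨u₁, hu₁, hu₁0⟩ := Submodule.exists_mem_ne_zero_of_ne_bot hZ₀0
  have hdvd : φ₁ ∣ X ^ r - C (1 : F) := by
    apply dvd_of_ann hφ₁ hu₁0 (hφ₁Z u₁ hu₁)
    rw [map_sub, map_pow, aeval_X, aeval_C, map_one, hy₀, sub_self, LinearMap.zero_apply]
  have hnd : ¬ φ₁ ∣ X - C (1 : F) := by
    intro h
    have h1 := ann_of_dvd hZ₀i h hφ₁Z u₁ hu₁
    rw [aeval_sub_one, sub_eq_zero] at h1
    have h2 : u₁ ∈ Z₀ ⊓ LinearMap.ker (y₀ - 1) := ⟨hu₁, Elus.mem_ker_sub_one.mpr h1⟩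
    rw [hZ₀C] at h2
    exact hu₁0 ((Submodule.mem_bot F).mp h2)
  have hdeg : φ₁.natDegree ≤ i := by
    rw [← hZ₀fin]
    exact natDegree_le_finrank hZ₀i hu₁ hu₁0 hφ₁ (hφ₁Z u₁ hu₁)
  obtain ⟨k, ψ, hψirr, hψ1, hψpair, hψdvd⟩ := exists_types r i hi0 hφ₁ hdvd hnd hdeg
  have hs : 0 < (r - 1) / i := by
    have h1 := c_dvd_pred r hr2 (Fintype.card F) hrq i i hi hci
    have h2 : 2 ≤ r := hr.out.two_le
    exact Nat.div_pos (Nat.le_of_dvd (by omega) h1) hi0
  obtain ⟨e₀, he₀⟩ := hev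
  have hie : i = 2 * e₀ := by omega
  have hxB : ∀ a, IsIsom B (y₀ ^ k a) := fun a => hy₀B.pow (k a)
  have hxr : ∀ a, (y₀ ^ k a) ^ r = 1 := by
    intro a
    rw [← pow_mul, mul_comm, pow_mul, hy₀, one_pow]
  have hxZ : ∀ a, Elus.Inv (y₀ ^ k a) Z₀ := fun a => Imp.inv_pow' hZ₀i (k a)
  have hxψ : ∀ a, ∀ u ∈ Z₀, aeval (y₀ ^ k a) (ψ a) u = 0 := by
    intro a u hu
    rw [← expand_aeval]
    exact ann_of_dvd hZ₀i (hψdvd a) hφ₁Z u hu
  obtain ⟨e, j, hodd, hjs, hej, hpos, hfinal⟩ := arith_D n i ((r - 1) / i) hi0 hs hin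
  obtain ⟨yE, E, hcE, hEfin, hψE⟩ := build_same B hA hB hr0 (hxB ⟨0, hs⟩) (hxr ⟨0, hs⟩) hZ₀
    (hxZ ⟨0, hs⟩) i e₀ hie hZ₀fin (ψ ⟨0, hs⟩) (hxψ ⟨0, hs⟩) e (by
      have : i * e ≤ i * (e + j) := Nat.mul_le_mul_left i (Nat.le_add_right _ _)
      omega)
  obtain ⟨y, A, G, hc, hAfin, hG, hG1, -, hpeel⟩ := build_distinct B hq hA hB r hrp i e₀ hie hi
    hi0 hZ₀ hZ₀fin ((r - 1) / i) (fun a => y₀ ^ k a) ψ hxB hxr hxZ hxψ hψ1 hψpair hs hcE e hEfin
    hψE j hjs (by rw [hn]; exact hej)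
  obtain ⟨hy1, hbound⟩ := cfg_bound B hA hB r hrF hrq hc i (e + j) e hi hi0 hAfin hcE.2.2.1 hEfin
    hodd hG hG1 hpeel n hn
  exact ⟨y, hc.1, hc.2.1, hy1 hpos, fun W hWi hWti => (hbound W hWi hWti).trans hfinal⟩

end Build

end Cfsg.Agent.Lib.Helper2.SpTi
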