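import Mathlib
import Cfsg.Agent.Lib.Helper2.SpTiD
set_option autoImplicit false
set_option maxHeartbeats 1000000
set_option linter.unusedVariables false
set_option linter.unusedSectionVars false
set_option linter.style.longLine false
set_option linter.unusedSimpArgs false
set_option linter.deprecated false
set_option linter.style.haveILetI false

/-! Totally isotropic subspaces of symplectic spaces (part E): the main equivalences. -/

namespace Cfsg.Agent.Lib.Helper2.SpTi

open Module Polynomial Cfsg.Agent.Lib.Helper2 Cfsg.Agent.Lib.Helper2.SpImp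
  Cfsg.Agent.Lib.Helper5.SympBridge

universe u v

section Main

variable {F : Type u} [Field F] [Fintype F] {V : Type v} [AddCommGroup V] [Module F V]
  [FiniteDimensional F V]
variable (B : LinearMap.BilinForm F V)

/-- the last necessary condition, for `i` even -/
theorem ti_nec_even {p f₀ : ℕ} [hp : Fact p.Prime] (hq : Fintype.card F = p ^ f₀)
    (hA : B.IsAlt) (hB : B.Nondegenerate) (r : ℕ) [hr : Fact r.Prime] (hr2 : r ≠ 2) (hrp : r ≠ p)
    (hrF : (r : F) ≠ 0) (hrq : ¬ r ∣ Fintype.card F) (i : ℕ)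
    (hi : i = orderOf ((Fintype.card F : ℕ) : ZMod r)) (hev : Even i)
    (d m : ℕ) (hn : finrank F V = 2 * d) (hm : 1 ≤ m) (hmd : m ≤ d)
    (hΩ : r ∣ Nat.card {W : Submodule F V // finrank F W = m ∧ TI B W})
    (H : ∀ y : Module.End F V, IsIsom B y → y ^ r = 1 → y ≠ 1 →
      ∃ W : Submodule F V, finrank F W = m ∧ TI B W ∧ Elus.Inv y W) :
    (r - 1) / i + 2 * (m / i) ≤ (2 * d) / i := by
  classical
  have hi0 : 0 < i := by
    rw [hi]
    exact Elus.ord_pos r (Fintype.card F) hrq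
  obtain ⟨him, -⟩ := ti_nec_basic B hq hA hB r hr2 hrp hrF hrq i i hi (by rw [if_pos hev]) d m hn
    hm hmd hΩ H
  obtain ⟨W₀, -, hW₀ti, hW₀fin⟩ := exists_ti B hA hB (nd_top B hA hB) d
    (by rw [finrank_top, hn]) m hmd
  have hdvd := dvd_trans hΩ (card_ti_dvd B hA hB m W₀ ⟨hW₀fin, hW₀ti⟩)
  obtain ⟨y₀, hy₀B, hy₀, hy₀1⟩ := exists_order_r B r hdvd
  obtain ⟨y, hyB, hy, hy1, hbound⟩ := exists_typed_derangement B hq hA hB r hr2 hrp hrF hrq i hi
    hev hy₀B hy₀ hy₀1 (2 * d) hn (by omega)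
  obtain ⟨W, hWfin, hWti, hWi⟩ := H y hyB hy hy1
  have h1 := hbound W hWi hWti
  rw [hWfin] at h1
  by_contra hcon
  push Not at hcon
  have hM : i * (m / i) ≤ m := Nat.mul_div_le m i
  have hM1 : 1 ≤ m / i := Nat.div_pos him hi0
  have hk : (2 * d) % i < i := Nat.mod_lt _ hi0
  have h2 : i * ((2 * d) / i - (r - 1) / i) ≤ i * (2 * (m / i) - 1) :=
    Nat.mul_le_mul_left i (by omega)
  have e1 : i * (2 * (m / i) - 1) = 2 * (i * (m / i)) - i := by
    rw [Nat.mul_sub_one]
    ring_nf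
  have h3 : i * 1 ≤ i * (m / i) := Nat.mul_le_mul_left i hM1
  omega

/-- the main equivalence for odd primes -/
theorem ti_odd_main {p f₀ : ℕ} [hp : Fact p.Prime] (hq : Fintype.card F = p ^ f₀)
    (hA : B.IsAlt) (hB : B.Nondegenerate) (r : ℕ) [hr : Fact r.Prime] (hr2 : r ≠ 2) (hrp : r ≠ p)
    (hrF : (r : F) ≠ 0) (hrq : ¬ r ∣ Fintype.card F) (i c : ℕ)
    (hi : i = orderOf ((Fintype.card F : ℕ) : ZMod r)) (hc : c = if Even i then i else 2 * i)
    (d m : ℕ) (hn : finrank F V = 2 * d) (hm : 1 ≤ m) (hmd : m ≤ d)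
    (hΩ : r ∣ Nat.card {W : Submodule F V // finrank F W = m ∧ TI B W}) :
    (∀ y : Module.End F V, IsIsom B y → y ^ r = 1 → y ≠ 1 →
      ∃ W : Submodule F V, finrank F W = m ∧ TI B W ∧ Elus.Inv y W) ↔
    (i ≤ m ∧ 2 * (m % i) ≤ (2 * d) % c ∧
      (Odd i ∨ (r - 1) / i + 2 * (m / i) ≤ (2 * d) / i)) := by
  constructor
  · intro H
    obtain ⟨h1, h2⟩ := ti_nec_basic B hq hA hB r hr2 hrp hrF hrq i c hi hc d m hn hm hmd hΩ H
    refine ⟨h1, h2, ?_⟩
    by_cases hev : Even i
    · right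
      exact ti_nec_even B hq hA hB r hr2 hrp hrF hrq i hi hev d m hn hm hmd hΩ H
    · left
      exact Nat.not_even_iff_odd.mp hev
  · rintro ⟨h1, h2, h3⟩ y hyB hy _
    exact ti_suff B hq hA hB r hr2 hrp hrF hrq i c hi hc d m hn hmd h2 h3 hyB hy

end Main

section Two

variable {F : Type u} [Field F] [Fintype F]

/-- the main equivalence for the prime `2` -/
theorem ti_two_main (h2 : (2 : F) ≠ 0) (hqodd : Fintype.card F % 2 = 1) (d m : ℕ) (hd : 1 ≤ d)
    (hmd : m ≤ d) :
    (∀ f : Module.End F (Fin d ⊕ Fin d → F), IsIsom (sympBilin F d) f →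
      (∃ z : F, f ^ 2 = z • 1) → (∀ z : F, f ≠ z • 1) →
      ∃ W : Submodule F (Fin d ⊕ Fin d → F), finrank F W = m ∧ TI (sympBilin F d) W ∧
        Elus.Inv f W) ↔ (Even m ∨ Fintype.card F % 4 = 1) := by
  have hfinV : finrank F (Fin d ⊕ Fin d → F) = 2 * d := by
    rw [Module.finrank_fintype_fun_eq_card, Fintype.card_sum, Fintype.card_fin]
    omega
  have hA : (sympBilin F d).IsAlt := sympBilin_isAlt d
  have hB : (sympBilin F d).Nondegenerate := sympBilin_nondegenerate d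
  haveI : Nonempty (Fin d ⊕ Fin d) := ⟨Sum.inl ⟨0, by omega⟩⟩
  haveI : Nontrivial (Fin d ⊕ Fin d → F) := inferInstance
  constructor
  · intro H
    by_cases hq1 : Fintype.card F % 4 = 1
    · exact Or.inr hq1
    · left
      have hq3 : Fintype.card F % 4 = 3 := by omega
      obtain ⟨f₀, hf₀B, hf₀⟩ := exists_J F d
      obtain ⟨hns, hev⟩ := r2_nec (V := Fin d ⊕ Fin d → F) hq3 hf₀
      obtain ⟨W, hWfin, -, hWi⟩ := H f₀ hf₀B ⟨-1, hf₀⟩ hns
      rw [← hWfin]
      exact hev W hWi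
  · intro hcond f hfB hf _
    have hcond' : Even m ∨ IsSquare (-1 : F) := by
      rcases hcond with h | h
      · exact Or.inl h
      · right
        exact FiniteField.isSquare_neg_one_iff.mpr (by omega)
    exact r2_suff (sympBilin F d) hA hB h2 d m hfinV hd hmd hcond' hfB hf

end Two

end Cfsg.Agent.Lib.Helper2.SpTi
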