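import Mathlib
import Cfsg.Agent.Lib.Helper2.SpTiE
import Cfsg.Agent.Lib.Helper2.SpFus7
import Cfsg.Agent.Lib.Helper5.SympCard
import Cfsg.Agent.Lib.Helper4.PSLCent2
import Cfsg.Prelude.Def_GeometricClasses
set_option autoImplicit false
set_option maxHeartbeats 1000000
set_option linter.unusedVariables false
set_option linter.unusedSectionVars false
set_option linter.style.longLine false
set_option linter.unusedSimpArgs false
set_option linter.deprecated false
set_option linter.style.haveILetI false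

/-! Symplectic-type subgroups of `SL_n(q)` (part A): the bilinear form of a symplectic form given as
a function, standardisation, and the primes dividing the index. -/

namespace Cfsg.Agent.Lib.Helper2.SpSl

open Module Cfsg.Agent.Lib.Helper2 Cfsg.Agent.Lib.Helper2.SpImp Cfsg.Agent.Lib.Helper2.SpTi
  Cfsg.Agent.Lib.Helper5.SympBridge Cfsg.Agent.Lib.Helper5.SympGen Cfsg.Agent.Lib.Helper5.SympTv

universe u v

section Form

variable {F : Type u} [Field F] {n : ℕ}

/-- the bilinear form of a symplectic form given as a function -/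
noncomputable def formBilin (f : (Fin n → F) → (Fin n → F) → F)
    (hf : Cfsg.Geo.IsSymplecticForm f) : LinearMap.BilinForm F (Fin n → F) :=
  LinearMap.mk₂ F f hf.bilinear.add_left
    (fun c u v => by rw [hf.bilinear.smul_left, smul_eq_mul]) hf.bilinear.add_right
    (fun c u v => by rw [hf.bilinear.smul_right, smul_eq_mul])

theorem formBilin_apply (f : (Fin n → F) → (Fin n → F) → F) (hf : Cfsg.Geo.IsSymplecticForm f)
    (u v : Fin n → F) : formBilin f hf u v = f u v := rfl

theorem formBilin_isAlt (f : (Fin n → F) → (Fin n → F) → F) (hf : Cfsg.Geo.IsSymplecticForm f) :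
    (formBilin f hf).IsAlt := fun v => hf.alternating v

theorem formBilin_nondegenerate (f : (Fin n → F) → (Fin n → F) → F)
    (hf : Cfsg.Geo.IsSymplecticForm f) : (formBilin f hf).Nondegenerate := by
  constructor
  · intro u hu
    by_contra h0
    obtain ⟨x, hx⟩ := (hf.nondegenerate u h0).2
    exact hx (hu x)
  · intro u hu
    by_contra h0
    obtain ⟨x, hx⟩ := (hf.nondegenerate u h0).1
    exact hx (hu x)

end Form

section Std

variable {F : Type u} [Field F] {V : Type v} [AddCommGroup V] [Module F V] [FiniteDimensional F V]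
variable (B : LinearMap.BilinForm F V)

/-- every symplectic space is isometric to the standard one -/
theorem exists_std_iso (hA : B.IsAlt) (hB : B.Nondegenerate) (m : ℕ) (hm : 0 < m)
    (hn : finrank F V = 2 * m) :
    ∃ Φ : V ≃ₗ[F] (Fin m ⊕ Fin m → F), ∀ u v, sympBilin F m (Φ u) (Φ v) = B u v := by
  classical
  obtain ⟨e, f, -, -, h1, h2, h3⟩ := exists_hyp_basis B hA hB m ⊤ (nd_top B hA hB)
    (by rw [finrank_top, hn])
  have hli := hyp_li B hA e f h1 h2 h3
  have hli' : LinearIndependent F (Sum.elim f e) := by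
    have := hli.comp Sum.swap (Equiv.sumComm _ _).injective
    rwa [Sum.elim_swap] at this
  haveI : Nonempty (Fin m ⊕ Fin m) := ⟨Sum.inl ⟨0, hm⟩⟩
  obtain ⟨b, hb⟩ : ∃ b : Basis (Fin m ⊕ Fin m) F V, ∀ k, b k = Sum.elim f e k :=
    ⟨basisOfLinearIndependentOfCardEqFinrank hli'
      (by rw [Fintype.card_sum, Fintype.card_fin, hn]; ring),
      fun k => by rw [coe_basisOfLinearIndependentOfCardEqFinrank]⟩
  obtain ⟨Φ, hΦ⟩ : ∃ Φ : V ≃ₗ[F] (Fin m ⊕ Fin m → F), ∀ k, Φ (b k) = Pi.single k 1 :=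
    ⟨b.equiv (Pi.basisFun F (Fin m ⊕ Fin m)) (Equiv.refl _), fun k => by
      rw [Module.Basis.equiv_apply, Equiv.refl_apply, Pi.basisFun_apply]⟩
  refine ⟨Φ, ?_⟩
  have heq : (sympBilin F m).compl₁₂ (Φ : V →ₗ[F] (Fin m ⊕ Fin m → F))
      (Φ : V →ₗ[F] (Fin m ⊕ Fin m → F)) = B := by
    apply LinearMap.ext_basis b b
    intro k l
    rw [LinearMap.compl₁₂_apply]
    show sympBilin F m (Φ (b k)) (Φ (b l)) = B (b k) (b l)
    rw [hΦ, hΦ, hb, hb, sympBilin_apply]
    rcases k with j | i <;> rcases l with j' | i'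
    · rw [sympForm_single_inl, Sum.elim_inl, Sum.elim_inl, h3, Pi.single_apply,
        if_neg (by simp)]
    · rw [sympForm_single_inr, Sum.elim_inl, Sum.elim_inr, Pi.single_apply,
        ← hA.neg_eq (e i') (f j), h1]
      by_cases hij : i' = j
      · rw [if_pos hij, if_pos (by rw [hij])]
      · rw [if_neg hij, if_neg (by simpa using hij)]
    · rw [sympForm_single_inl, Sum.elim_inr, Sum.elim_inl, Pi.single_apply, h1]
      by_cases hij : i = j'
      · rw [if_pos hij, if_pos (by rw [hij])]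
      · rw [if_neg hij, if_neg (by simpa using fun h : j' = i => hij h.symm)]
    · rw [sympForm_single_inr, Sum.elim_inr, Sum.elim_inr, h2, Pi.single_apply,
        if_neg (by simp), neg_zero]
  intro u v
  have h4 := LinearMap.congr_fun (LinearMap.congr_fun heq u) v
  rw [LinearMap.compl₁₂_apply] at h4
  exact h4

end Std

section Arith

theorem prod_split (q m : ℕ) : ∏ j ∈ Finset.range (2 * m + 1), (q ^ (j + 2) - 1) =
    (∏ t ∈ Finset.range (m + 1), (q ^ (2 * (t + 1)) - 1)) *
      ∏ t ∈ Finset.range m, (q ^ (2 * t + 3) - 1) := by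
  induction m with
  | zero => simp
  | succ m ih =>
    have e0 : 2 * (m + 1) + 1 = (2 * m + 1) + 1 + 1 := by ring
    have e1 : 2 * m + 1 + 2 = 2 * m + 3 := by ring
    have e2 : 2 * m + 1 + 1 + 2 = 2 * (m + 1 + 1) := by ring
    rw [e0, Finset.prod_range_succ, Finset.prod_range_succ, ih,
      Finset.prod_range_succ (fun t => q ^ (2 * (t + 1)) - 1) (m + 1),
      Finset.prod_range_succ (fun t => q ^ (2 * t + 3) - 1) m, e1, e2]
    ring

end Arith

section Index

variable {F : Type u} [Field F] [Fintype F] {n : ℕ}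

open Matrix in
/-- the order of the standard symplectic group divides the order of the symplectic-type subgroup
of `SL_n` -/
theorem card_sp_dvd (f : (Fin n → F) → (Fin n → F) → F) (hf : Cfsg.Geo.IsSymplecticForm f)
    (m : ℕ) (hm : 0 < m) (hn : n = 2 * m) :
    Nat.card (Matrix.symplecticGroup (Fin m) F) ∣
      Nat.card ((Cfsg.Geo.similarityGroup f).comap (Matrix.SpecialLinearGroup.toGL :
        Matrix.SpecialLinearGroup (Fin n) F →* GL (Fin n) F)) := by
  classical
  have hfin : finrank F (Fin n → F) = 2 * m := by rw [Module.finrank_fin_fun, hn]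
  obtain ⟨Φ, hΦ⟩ := exists_std_iso (formBilin f hf) (formBilin_isAlt f hf)
    (formBilin_nondegenerate f hf) m hm hfin
  obtain ⟨cj, hcj⟩ : ∃ cj : Matrix (Fin m ⊕ Fin m) (Fin m ⊕ Fin m) F → Module.End F (Fin n → F),
      ∀ A, cj A = (Φ.symm : (Fin m ⊕ Fin m → F) →ₗ[F] (Fin n → F)) ∘ₗ Matrix.toLin' A ∘ₗ
        (Φ : (Fin n → F) →ₗ[F] (Fin m ⊕ Fin m → F)) := ⟨_, fun A => rfl⟩
  have hcja : ∀ A u, cj A u = Φ.symm (A *ᵥ Φ u) := fun A u => by
    rw [hcj]
    show Φ.symm (Matrix.toLin' A (Φ u)) = _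
    rw [Matrix.toLin'_apply]
  have hcj_mul : ∀ A A', cj (A * A') = cj A * cj A' := by
    intro A A'
    apply LinearMap.ext
    intro u
    rw [Module.End.mul_apply, hcja, hcja, hcja, LinearEquiv.apply_symm_apply,
      Matrix.mulVec_mulVec]
  have hdet : ∀ A : Matrix.symplecticGroup (Fin m) F,
      (LinearMap.toMatrix' (cj A.1)).det = 1 := by
    intro A
    rw [LinearMap.det_toMatrix', hcj]
    have h1 := LinearMap.det_conj (Matrix.toLin' A.1) Φ.symm
    rw [LinearEquiv.symm_symm] at h1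
    rw [h1, LinearMap.det_toLin']
    exact Cfsg.Agent.Lib.Helper2.SpFus.symp_det_eq_one A
  let θ : Matrix.symplecticGroup (Fin m) F →* Matrix.SpecialLinearGroup (Fin n) F :=
    MonoidHom.mk' (fun A => ⟨LinearMap.toMatrix' (cj A.1), hdet A⟩) (fun A A' => by
      apply Subtype.ext
      show LinearMap.toMatrix' (cj (A.1 * A'.1)) =
        LinearMap.toMatrix' (cj A.1) * LinearMap.toMatrix' (cj A'.1)
      rw [hcj_mul, LinearMap.toMatrix'_mul])
  have hθmem : ∀ A, θ A ∈ (Cfsg.Geo.similarityGroup f).comap (Matrix.SpecialLinearGroup.toGL :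
      Matrix.SpecialLinearGroup (Fin n) F →* GL (Fin n) F) := by
    intro A
    rw [Subgroup.mem_comap]
    refine ⟨1, fun u v => ?_⟩
    show f ((LinearMap.toMatrix' (cj A.1)) *ᵥ u) ((LinearMap.toMatrix' (cj A.1)) *ᵥ v) =
      ((1 : Fˣ) : F) * f u v
    rw [LinearMap.toMatrix'_mulVec, LinearMap.toMatrix'_mulVec, hcja, hcja, Units.val_one,
      one_mul, ← formBilin_apply f hf, ← hΦ, LinearEquiv.apply_symm_apply,
      LinearEquiv.apply_symm_apply, sympBilin_apply, sympForm_mulVec m A.2, ← sympBilin_apply, hΦ,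
      formBilin_apply]
  have hθinj : Function.Injective θ := by
    intro A A' h
    have h1 : LinearMap.toMatrix' (cj A.1) = LinearMap.toMatrix' (cj A'.1) :=
      congrArg Subtype.val h
    have h2 : cj A.1 = cj A'.1 := LinearMap.toMatrix'.injective h1
    apply Subtype.ext
    apply Matrix.toLin'.injective
    apply LinearMap.ext
    intro w
    have h3 := LinearMap.congr_fun h2 (Φ.symm w)
    rw [hcja, hcja, LinearEquiv.apply_symm_apply] at h3
    have h4 := Φ.symm.injective h3
    rw [Matrix.toLin'_apply, Matrix.toLin'_apply]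
    exact h4
  exact Subgroup.card_dvd_of_injective (θ.codRestrict _ hθmem) (fun A A' h => hθinj (by
    have := congrArg Subtype.val h
    exact this))

/-- the primes (other than the characteristic) dividing the index of the symplectic-type
subgroup -/
theorem index_prime {p : ℕ} [hp : Fact p.Prime] [CharP F p]
    (f : (Fin n → F) → (Fin n → F) → F) (hf : Cfsg.Geo.IsSymplecticForm f) (m₀ : ℕ)
    (hn : n = 2 * (m₀ + 1)) (r : ℕ) [hr : Fact r.Prime] (hrp : r ≠ p)
    (hΩ : r ∣ ((Cfsg.Geo.similarityGroup f).comap (Matrix.SpecialLinearGroup.toGL :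
      Matrix.SpecialLinearGroup (Fin n) F →* GL (Fin n) F)).index) :
    ∃ t, t < m₀ ∧ r ∣ Fintype.card F ^ (2 * t + 3) - 1 := by
  classical
  obtain ⟨m', rfl⟩ : ∃ m', n = m' + 1 := ⟨n - 1, by omega⟩
  have hm' : m' = 2 * m₀ + 1 := by omega
  subst hm'
  obtain ⟨t₀, ht₀⟩ := card_sp_dvd f hf (m₀ + 1) (Nat.succ_pos _) hn
  have hidx := Subgroup.card_mul_index ((Cfsg.Geo.similarityGroup f).comap
    (Matrix.SpecialLinearGroup.toGL : Matrix.SpecialLinearGroup (Fin (2 * m₀ + 1 + 1)) F →* GL (Fin (2 * m₀ + 1 + 1)) F))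
  rw [ht₀, Cfsg.Agent.Lib.Helper5.SympCard.card_symplecticGroup,
    Cfsg.Agent.Lib.Helper4.PSLCent.card_SL_succ,
    Elus.prod_pow_sub (Fintype.card F) (2 * m₀ + 1 + 1) (2 * m₀ + 1) (Nat.le_succ _)] at hidx
  have e1 : ∀ m' : ℕ, ∏ i : Fin m', (Fintype.card F ^ (m' + 1 - (i : ℕ)) - 1) =
      ∏ j ∈ Finset.range m', (Fintype.card F ^ (j + 2) - 1) := by
    intro m'
    rw [Fin.prod_univ_eq_prod_range (fun i => Fintype.card F ^ (m' + 1 - i) - 1) m',
      ← Finset.prod_range_reflect (fun j => Fintype.card F ^ (j + 2) - 1) m']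
    refine Finset.prod_congr rfl fun i hi => ?_
    have hi' := Finset.mem_range.mp hi
    have e2 : m' - 1 - i + 2 = m' + 1 - i := by omega
    rw [e2]
  rw [e1, prod_split] at hidx
  have hq : 2 ≤ Fintype.card F := Fintype.one_lt_card
  have hS : 0 < ∏ t ∈ Finset.range (m₀ + 1), (Fintype.card F ^ (2 * (t + 1)) - 1) := by
    apply Finset.prod_pos
    intro t _
    have : 2 ≤ Fintype.card F ^ (2 * (t + 1)) :=
      le_trans hq (Nat.le_self_pow (by omega) _)
    omega
  generalize (∏ t ∈ Finset.range (m₀ + 1), (Fintype.card F ^ (2 * (t + 1)) - 1)) = S at hidx hS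
  have h2 : S * (Fintype.card F ^ ((m₀ + 1) ^ 2) * t₀ *
      ((Cfsg.Geo.similarityGroup f).comap (Matrix.SpecialLinearGroup.toGL :
        Matrix.SpecialLinearGroup (Fin (2 * m₀ + 1 + 1)) F →* GL (Fin (2 * m₀ + 1 + 1)) F)).index) =
      S * ((∏ i : Fin (2 * m₀ + 1), Fintype.card F ^ (i : ℕ)) *
        (∏ t ∈ Finset.range m₀, (Fintype.card F ^ (2 * t + 3) - 1)) *
        Fintype.card F ^ (2 * m₀ + 1)) := by
    calc _ = Fintype.card F ^ ((m₀ + 1) ^ 2) * S * t₀ * _ := by ring
      _ = _ := hidx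
      _ = _ := by ring
  have h3 := Nat.eq_of_mul_eq_mul_left hS h2
  have h4 : r ∣ (∏ i : Fin (2 * m₀ + 1), Fintype.card F ^ (i : ℕ)) *
        (∏ t ∈ Finset.range m₀, (Fintype.card F ^ (2 * t + 3) - 1)) *
        Fintype.card F ^ (2 * m₀ + 1) := by
    rw [← h3]
    exact Dvd.dvd.mul_left hΩ _
  have hrq : ¬ r ∣ Fintype.card F := Elus.not_dvd_card_of_ne (F := F) r hrp
  rcases (Nat.Prime.dvd_mul hr.out).mp h4 with h5 | h5
  · rcases (Nat.Prime.dvd_mul hr.out).mp h5 with h6 | h6
    · exfalso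
      obtain ⟨i, -, hi⟩ := (Nat.Prime.prime hr.out).exists_mem_finset_dvd h6
      exact hrq (hr.out.dvd_of_dvd_pow hi)
    · obtain ⟨t, ht, hdvd⟩ := (Nat.Prime.prime hr.out).exists_mem_finset_dvd h6
      exact ⟨t, Finset.mem_range.mp ht, hdvd⟩
  · exfalso
    exact hrq (hr.out.dvd_of_dvd_pow h5)

end Index

end Cfsg.Agent.Lib.Helper2.SpSl
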