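import Mathlib
import Cfsg.Agent.Lib.Helper2.SpSlA
set_option autoImplicit false
set_option maxHeartbeats 1000000
set_option linter.unusedVariables false
set_option linter.unusedSectionVars false
set_option linter.style.longLine false
set_option linter.unusedSimpArgs false
set_option linter.deprecated false
set_option linter.style.haveILetI false

/-! Symplectic-type subgroups of `SL_n(q)` (part B): constraints on similitudes of prime order. -/

namespace Cfsg.Agent.Lib.Helper2.SpSl

open Module Cfsg.Agent.Lib.Helper2 Cfsg.Agent.Lib.Helper2.SpImp Cfsg.Agent.Lib.Helper2.SpTi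

universe u v

section Sim

variable {F : Type u} [Field F] {V : Type v} [AddCommGroup V] [Module F V] [FiniteDimensional F V]
variable (B : LinearMap.BilinForm F V)

/-- similitudes with multiplier `c` -/
def IsSim (z : Module.End F V) (c : F) : Prop := ∀ u v, B (z u) (z v) = c * B u v

theorem IsSim.pow {B : LinearMap.BilinForm F V} {z : Module.End F V} {c : F} (h : IsSim B z c)
    (k : ℕ) : IsSim B (z ^ k) (c ^ k) := by
  induction k with
  | zero =>
    intro u v
    rw [pow_zero, pow_zero, one_mul]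
    rfl
  | succ k ih =>
    intro u v
    rw [pow_succ, pow_succ, Module.End.mul_apply, Module.End.mul_apply, ih (z u) (z v), h u v,
      mul_assoc]

theorem sim_one_mult (hB : B.Nondegenerate) [Nontrivial V] {c : F} (h : IsSim B 1 c) : c = 1 := by
  obtain ⟨u, hu⟩ := exists_ne (0 : V)
  have hex : ∃ v, B u v ≠ 0 := by
    by_contra hcon
    push Not at hcon
    exact hu (hB.1 u hcon)
  obtain ⟨v, hv⟩ := hex
  have h1 := h u v
  rw [Module.End.one_apply, Module.End.one_apply] at h1
  have h2 : (c - 1) * B u v = 0 := by rw [sub_mul, ← h1, one_mul, sub_self]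
  rcases mul_eq_zero.mp h2 with h3 | h3
  · exact sub_eq_zero.mp h3
  · exact absurd h3 hv

theorem sim_scale {z : Module.End F V} {c σ : F} (h : IsSim B z c) (hσ0 : σ ≠ 0)
    (hσ : σ * σ = c) : IsIsom B (σ⁻¹ • z) := by
  intro u v
  simp only [LinearMap.smul_apply, map_smul, smul_eq_mul]
  rw [h u v, ← hσ]
  field_simp

/-- eigenspaces of an isometry for inverse eigenvalues have the same dimension -/
theorem iso_pair (hA : B.IsAlt) (hB : B.Nondegenerate) {y : Module.End F V} (hyB : IsIsom B y)
    {r : ℕ} (hr : 0 < r) (hy : y ^ r = 1) {μ : F} (hμ : μ ≠ 0) :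
    finrank F (LinearMap.ker (y - μ • 1)) = finrank F (LinearMap.ker (y - μ⁻¹ • 1)) := by
  have hperp : B.orthogonal (LinearMap.range (y - μ • 1)) = LinearMap.ker (y - μ⁻¹ • 1) := by
    ext v
    rw [mem_perp B, LinearMap.mem_ker, LinearMap.sub_apply, LinearMap.smul_apply,
      Module.End.one_apply, sub_eq_zero]
    constructor
    · intro h
      have h1 : (y ^ (r - 1)) v = μ • v := by
        apply sub_eq_zero.mp
        apply hB.2
        intro u
        have h2 := h _ ⟨u, rfl⟩
        rw [LinearMap.sub_apply, LinearMap.smul_apply, Module.End.one_apply, map_sub,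
          LinearMap.sub_apply, adj_one' B hyB hr hy, map_smul, LinearMap.smul_apply,
          smul_eq_mul] at h2
        rw [map_sub, map_smul, smul_eq_mul]
        exact h2
      have h3 := congrArg y h1
      rw [pow_pred_apply hr hy, map_smul] at h3
      calc y v = μ⁻¹ • (μ • y v) := by rw [smul_smul, inv_mul_cancel₀ hμ, one_smul]
        _ = μ⁻¹ • v := by rw [← h3]
    · intro h w hw
      obtain ⟨u, rfl⟩ := hw
      rw [LinearMap.sub_apply, LinearMap.smul_apply, Module.End.one_apply, map_sub,
        LinearMap.sub_apply, adj_one' B hyB hr hy, map_smul, LinearMap.smul_apply, smul_eq_mul]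
      have h4 : (y ^ (r - 1)) v = μ • v := by
        have h5 : (y ^ (r - 1)) (y v) = v := by
          rw [← Module.End.mul_apply, ← pow_succ, Nat.sub_add_cancel hr, hy, Module.End.one_apply]
        rw [h, map_smul] at h5
        calc (y ^ (r - 1)) v = μ • (μ⁻¹ • (y ^ (r - 1)) v) := by
              rw [smul_smul, mul_inv_cancel₀ hμ, one_smul]
          _ = μ • v := by rw [h5]
      rw [h4, map_smul, smul_eq_mul, sub_self]
  have h1 := finrank_perp_in B hA hB (nd_top B hA hB)
    (le_top : LinearMap.range (y - μ • 1) ≤ ⊤)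
  rw [top_inf_eq, finrank_top, hperp] at h1
  have h2 := LinearMap.finrank_range_add_finrank_ker (y - μ • 1)
  omega

/-- the eigenvalue data of a similitude of odd prime order -/
theorem sim_data (hA : B.IsAlt) (hB : B.Nondegenerate) [Nontrivial V] {z : Module.End F V}
    {c : F} (hz : IsSim B z c) (r : ℕ) [hr : Fact r.Prime] (hr2 : r ≠ 2) (hrF : (r : F) ≠ 0)
    (hzr : z ^ r = 1) :
    ∃ σ : F, σ ^ r = 1 ∧ Even (finrank F (LinearMap.ker (z - σ • 1))) ∧
      ∀ μ : F, μ ≠ 0 → finrank F (LinearMap.ker (z - (σ * μ) • 1)) =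
        finrank F (LinearMap.ker (z - (σ * μ⁻¹) • 1)) := by
  have hr0 : 0 < r := hr.out.pos
  have hcr : c ^ r = 1 := sim_one_mult B hB (by
    have := hz.pow r
    rwa [hzr] at this)
  have hc0 : c ≠ 0 := by
    rintro rfl
    rw [zero_pow hr.out.ne_zero] at hcr
    exact zero_ne_one hcr
  obtain ⟨k, hk⟩ := hr.out.odd_of_ne_two hr2
  obtain ⟨σ, hσdef⟩ : ∃ σ : F, σ = c ^ (k + 1) := ⟨_, rfl⟩
  have hσσ : σ * σ = c := by
    rw [hσdef, ← pow_add, show k + 1 + (k + 1) = r + 1 by omega, pow_succ, hcr, one_mul]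
  have hσr : σ ^ r = 1 := by
    rw [hσdef, ← pow_mul, mul_comm, pow_mul, hcr, one_pow]
  have hσ0 : σ ≠ 0 := by
    rw [hσdef]
    exact pow_ne_zero _ hc0
  have hyB : IsIsom B (σ⁻¹ • z) := sim_scale B hz hσ0 hσσ
  have hy : (σ⁻¹ • z) ^ r = 1 := by
    rw [smul_pow, hzr, inv_pow, hσr, inv_one, one_smul]
  have hker : ∀ μ : F, LinearMap.ker (σ⁻¹ • z - μ • 1) = LinearMap.ker (z - (σ * μ) • 1) := by
    intro μ
    have h1 : σ⁻¹ • z - μ • (1 : Module.End F V) = σ⁻¹ • (z - (σ * μ) • 1) := by
      rw [smul_sub, smul_smul, ← mul_assoc, inv_mul_cancel₀ hσ0, one_mul]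
    rw [h1]
    exact LinearMap.ker_smul _ _ (inv_ne_zero hσ0)
  refine ⟨σ, hσr, ?_, ?_⟩
  · have h1 := nd_fix B hA hyB hrF hy (nd_top B hA hB) (fun v _ => Submodule.mem_top)
    have h2 := even_of_nd B hA hB _ _ rfl h1
    rw [top_inf_eq] at h2
    have h3 : LinearMap.ker (σ⁻¹ • z - 1) = LinearMap.ker (z - σ • 1) := by
      have := hker 1
      rwa [one_smul, mul_one] at this
    rw [h3] at h2
    exact h2
  · intro μ hμ
    have h1 := iso_pair B hA hB hyB hr0 hy hμ
    rw [hker, hker] at h1
    exact h1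

/-- a similitude of order `r` unipotent of class at most three, in characteristic not two, whose
square deviation from the identity has rank at most one, is of class at most two -/
theorem sim_unip (hA : B.IsAlt) (hB : B.Nondegenerate) (h2 : (2 : F) ≠ 0) {z : Module.End F V}
    (hz : IsIsom B z) (hN3 : ∀ x, (z - 1) ((z - 1) ((z - 1) x)) = 0) (z₀ : V)
    (hrank : ∀ w, ∃ μ : F, (z - 1) ((z - 1) w) = μ • z₀) : ∀ x, (z - 1) ((z - 1) x) = 0 := by
  obtain ⟨N, hN⟩ : ∃ N : Module.End F V, N = z - 1 := ⟨_, rfl⟩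
  rw [← hN] at hN3 hrank ⊢
  have hzN : ∀ x, z x = x + N x := by
    intro x
    rw [hN, LinearMap.sub_apply, Module.End.one_apply]
    abel
  have hinv : ∀ w, z (w - N w + N (N w)) = w := by
    intro w
    rw [hzN, map_add, map_sub, hN3]
    abel
  have hadj : ∀ u w, B (z u) w = B u (w - N w + N (N w)) := by
    intro u w
    conv_lhs => rw [← hinv w]
    exact hz u _
  have hadjN : ∀ u w, B (N u) w = B u (- N w + N (N w)) := by
    intro u w
    have h1 : N u = z u - u := by
      rw [hzN]
      abel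
    rw [h1, map_sub, LinearMap.sub_apply, hadj, ← map_sub]
    congr 1
    abel
  have hadj2 : ∀ u w, B (N (N u)) w = B u (N (N w)) := by
    intro u w
    rw [hadjN, hadjN]
    congr 1
    simp only [map_add, map_neg, hN3, neg_neg, neg_zero, add_zero]
  have hskew : ∀ u w, B (N (N u)) w = - B (N (N w)) u := by
    intro u w
    rw [hadj2, hA.neg_eq]
  intro e
  by_contra hne
  obtain ⟨ν, hν⟩ := hrank e
  have hν0 : ν ≠ 0 := by
    rintro rfl
    rw [zero_smul] at hν
    exact hne hν
  have hee : B (N (N e)) e = 0 := by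
    have h1 := hskew e e
    have h3 : (2 : F) * B (N (N e)) e = 0 := by linear_combination h1
    exact (mul_eq_zero.mp h3).resolve_left h2
  have hz₀e : B z₀ e = 0 := by
    rw [hν, map_smul, LinearMap.smul_apply, smul_eq_mul] at hee
    exact (mul_eq_zero.mp hee).resolve_left hν0
  apply hne
  apply hB.1
  intro w
  obtain ⟨μ, hμ⟩ := hrank w
  rw [hskew, hμ, map_smul, LinearMap.smul_apply, hz₀e, smul_zero, neg_zero]

theorem finrank_ker_conj (g : V ≃ₗ[F] V) (w : Module.End F V) :
    finrank F (LinearMap.ker (LinearEquiv.conjAlgEquiv F g w)) = finrank F (LinearMap.ker w) := by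
  have h : LinearMap.ker (LinearEquiv.conjAlgEquiv F g w) =
      (LinearMap.ker w).map (g : V →ₗ[F] V) := by
    ext v
    rw [LinearMap.mem_ker, LinearEquiv.conjAlgEquiv_apply, Submodule.mem_map]
    constructor
    · intro hv
      refine ⟨g.symm v, ?_, g.apply_symm_apply v⟩
      rw [LinearMap.mem_ker]
      have h1 : g (w (g.symm v)) = 0 := hv
      exact g.map_eq_zero_iff.mp h1
    · rintro ⟨x, hx, rfl⟩
      show g (w (g.symm (g x))) = 0
      rw [g.symm_apply_apply, LinearMap.mem_ker.mp hx, map_zero]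
  rw [h]
  exact LinearEquiv.finrank_map_eq g _

theorem conj_sub_smul (g : V ≃ₗ[F] V) (y : Module.End F V) (t : F) :
    LinearEquiv.conjAlgEquiv F g (y - t • 1) = LinearEquiv.conjAlgEquiv F g y - t • 1 := by
  rw [map_sub, map_smul, map_one]

end Sim

section SimFin

variable {F : Type u} [Field F] [Fintype F] {V : Type v} [AddCommGroup V] [Module F V]
  [FiniteDimensional F V]
variable (B : LinearMap.BilinForm F V)

/-- similitudes of order `r`, `r` not dividing `q - 1`, are isometries, so the codimension of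
their fixed space is a multiple of `c` -/
theorem sim_sp_mod (hA : B.IsAlt) (hB : B.Nondegenerate) [Nontrivial V] {z : Module.End F V}
    {c : F} (hz : IsSim B z c) (r : ℕ) [hr : Fact r.Prime] (hrF : (r : F) ≠ 0)
    (hrq : ¬ r ∣ Fintype.card F) (hrq1 : ¬ r ∣ Fintype.card F - 1) (hzr : z ^ r = 1) (i cc : ℕ)
    (hi : i = orderOf ((Fintype.card F : ℕ) : ZMod r))
    (hcc : cc = if Even i then i else 2 * i) :
    cc ∣ finrank F V - finrank F (LinearMap.ker (z - 1)) := by
  have hcr : c ^ r = 1 := sim_one_mult B hB (by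
    have := hz.pow r
    rwa [hzr] at this)
  have hc1 : c = 1 := Elus.eq_one_of_pow r hrq1 c hcr
  have hzB : IsIsom B z := fun u v => by rw [hz u v, hc1, one_mul]
  have h1 := sp_mod B hA hB hzB r hrF hrq hzr i cc hi hcc (nd_top B hA hB)
    (fun v _ => Submodule.mem_top)
  rw [top_inf_eq, finrank_top] at h1
  exact h1

end SimFin

end Cfsg.Agent.Lib.Helper2.SpSl
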