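import Mathlib
import Cfsg.Agent.Lib.Helper2.SpSlB
set_option autoImplicit false
set_option maxHeartbeats 1000000
set_option linter.unusedVariables false
set_option linter.unusedSectionVars false
set_option linter.style.longLine false
set_option linter.unusedSimpArgs false
set_option linter.deprecated false
set_option linter.style.haveILetI false

/-! Symplectic-type subgroups of `SL_n(q)` (part C): elements of prime order prime to the
characteristic with no conjugate among the similitudes. -/

namespace Cfsg.Agent.Lib.Helper2.SpSl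

open Module Cfsg.Agent.Lib.Helper2 Cfsg.Agent.Lib.Helper2.SpImp Cfsg.Agent.Lib.Helper2.SpTi

universe u v w

section Gen

variable {F : Type u} [Field F] {V : Type v} [AddCommGroup V] [Module F V] [FiniteDimensional F V]

theorem finrank_ker_conj' {W : Type w} [AddCommGroup W] [Module F W] [FiniteDimensional F W]
    (e : W ≃ₗ[F] V) (x : Module.End F W) :
    finrank F (LinearMap.ker (LinearEquiv.conjAlgEquiv F e x)) = finrank F (LinearMap.ker x) := by
  have h : LinearMap.ker (LinearEquiv.conjAlgEquiv F e x) =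
      (LinearMap.ker x).map (e : W →ₗ[F] V) := by
    ext v
    rw [LinearMap.mem_ker, LinearEquiv.conjAlgEquiv_apply, Submodule.mem_map]
    constructor
    · intro hv
      refine ⟨e.symm v, ?_, e.apply_symm_apply v⟩
      rw [LinearMap.mem_ker]
      have h1 : e (x (e.symm v)) = 0 := hv
      exact e.map_eq_zero_iff.mp h1
    · rintro ⟨a, ha, rfl⟩
      show e (x (e.symm (e a))) = 0
      rw [e.symm_apply_apply, LinearMap.mem_ker.mp ha, map_zero]
  rw [h]
  exact LinearEquiv.finrank_map_eq e _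

theorem nonscalar_of_ker (y : Module.End F V) (h0 : 0 < finrank F (LinearMap.ker (y - 1)))
    (hn : finrank F (LinearMap.ker (y - 1)) < finrank F V) : ∀ c : F, y ≠ c • 1 := by
  intro c hc
  by_cases h1 : c = 1
  · rw [hc, h1, one_smul, sub_self, LinearMap.ker_zero, finrank_top] at hn
    exact lt_irrefl _ hn
  · have h2 : y - 1 = (c - 1) • (1 : Module.End F V) := by rw [hc, sub_smul, one_smul]
    rw [h2, LinearMap.ker_smul _ _ (sub_ne_zero.mpr h1)] at h0
    have h3 : LinearMap.ker (1 : Module.End F V) = ⊥ := LinearMap.ker_id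
    rw [h3, finrank_bot] at h0
    exact lt_irrefl _ h0

/-- a criterion: an eigenvalue of odd multiplicity which is the only one of its multiplicity
prevents an element of odd prime order from being a similitude -/
theorem sim_odd_unique (B : LinearMap.BilinForm F V) (hA : B.IsAlt) (hB : B.Nondegenerate)
    [Nontrivial V] {z : Module.End F V} {c : F} (hz : IsSim B z c) (r : ℕ) [hr : Fact r.Prime]
    (hr2 : r ≠ 2) (hrF : (r : F) ≠ 0) (hzr : z ^ r = 1) (t₀ : F) (ht₀ : t₀ ^ r = 1)
    (hodd : Odd (finrank F (LinearMap.ker (z - t₀ • 1))))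
    (huniq : ∀ t : F, finrank F (LinearMap.ker (z - t • 1)) =
      finrank F (LinearMap.ker (z - t₀ • 1)) → t = t₀) : False := by
  obtain ⟨σ, hσr, hev, hpair⟩ := sim_data B hA hB hz r hr2 hrF hzr
  have hσ0 : σ ≠ 0 := by
    rintro rfl
    rw [zero_pow hr.out.ne_zero] at hσr
    exact zero_ne_one hσr
  have ht0 : t₀ ≠ 0 := by
    rintro rfl
    rw [zero_pow hr.out.ne_zero] at ht₀
    exact zero_ne_one ht₀
  have h1 := hpair (σ⁻¹ * t₀) (mul_ne_zero (inv_ne_zero hσ0) ht0)
  have e1 : σ * (σ⁻¹ * t₀) = t₀ := by rw [← mul_assoc, mul_inv_cancel₀ hσ0, one_mul]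
  have e2 : σ * (σ⁻¹ * t₀)⁻¹ = σ * σ * t₀⁻¹ := by
    rw [mul_inv, inv_inv]
    ring
  rw [e1, e2] at h1
  have h2 : σ * σ * t₀⁻¹ = t₀ := huniq _ h1.symm
  have h3 : σ * σ = t₀ * t₀ := by
    calc σ * σ = σ * σ * t₀⁻¹ * t₀ := by rw [mul_assoc (σ * σ), inv_mul_cancel₀ ht0, mul_one]
      _ = t₀ * t₀ := by rw [h2]
  obtain ⟨k, hk⟩ := hr.out.odd_of_ne_two hr2
  have h4 : σ = t₀ := by
    calc σ = σ ^ r * σ := by rw [hσr, one_mul]
      _ = (σ * σ) ^ (k + 1) := by
          rw [← pow_succ, mul_pow, ← pow_add]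
          congr 1
          omega
      _ = (t₀ * t₀) ^ (k + 1) := by rw [h3]
      _ = t₀ ^ r * t₀ := by
          rw [← pow_succ, mul_pow, ← pow_add]
          congr 1
          omega
      _ = t₀ := by rw [ht₀, one_mul]
  rw [h4] at hev
  exact (Nat.not_even_iff_odd.mpr hodd) hev

theorem odd_unique_not_sim (B : LinearMap.BilinForm F V) (hA : B.IsAlt) (hB : B.Nondegenerate)
    [Nontrivial V] (r : ℕ) [hr : Fact r.Prime] (hr2 : r ≠ 2) (hrF : (r : F) ≠ 0)
    (y : Module.End F V) (hy : y ^ r = 1) (t₀ : F) (ht₀ : t₀ ^ r = 1)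
    (hodd : Odd (finrank F (LinearMap.ker (y - t₀ • 1))))
    (huniq : ∀ t : F, finrank F (LinearMap.ker (y - t • 1)) =
      finrank F (LinearMap.ker (y - t₀ • 1)) → t = t₀)
    (g : V ≃ₗ[F] V) (c : F) (hz : IsSim B (LinearEquiv.conjAlgEquiv F g y) c) : False := by
  have hzr : (LinearEquiv.conjAlgEquiv F g y) ^ r = 1 := by rw [← map_pow, hy, map_one]
  have hm : ∀ t : F, finrank F (LinearMap.ker (LinearEquiv.conjAlgEquiv F g y - t • 1)) =
      finrank F (LinearMap.ker (y - t • 1)) := by
    intro t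
    rw [← conj_sub_smul, finrank_ker_conj]
  exact sim_odd_unique B hA hB hz r hr2 hrF hzr t₀ ht₀ (by rw [hm]; exact hodd)
    (fun t ht => huniq t (by rw [← hm t, ← hm t₀]; exact ht))

end Gen

section FinB

variable {F : Type u} [Field F] [Fintype F]

theorem cast_ne_zero_of_ne {p : ℕ} [hp : Fact p.Prime] [CharP F p] (r : ℕ) [hr : Fact r.Prime]
    (hrp : r ≠ p) : (r : F) ≠ 0 := by
  intro h
  rw [CharP.cast_eq_zero_iff F p r] at h
  exact hrp ((Nat.prime_dvd_prime_iff_eq hp.out hr.out).mp h).symm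

/-- a semisimple element of order `r` with a single nontrivial block -/
theorem exists_block_elt {p : ℕ} [hp : Fact p.Prime] [CharP F p] (n : ℕ) (r : ℕ)
    [hr : Fact r.Prime] (hrp : r ≠ p) (hi2 : 2 ≤ orderOf ((Fintype.card F : ℕ) : ZMod r))
    (hin : orderOf ((Fintype.card F : ℕ) : ZMod r) < n) :
    ∃ y : Module.End F (Fin n → F), LinearMap.det y = 1 ∧ y ^ r = 1 ∧ (∀ c' : F, y ≠ c' • 1) ∧
      finrank F (LinearMap.ker (y - 1)) = n - orderOf ((Fintype.card F : ℕ) : ZMod r) := by
  obtain ⟨k, -, hk⟩ := FiniteField.card F p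
  obtain ⟨i, hi⟩ : ∃ i, i = orderOf ((Fintype.card F : ℕ) : ZMod r) := ⟨_, rfl⟩
  obtain ⟨y₀, hy₀, hker₀⟩ := Elus.exists_ss_map hk r hrp i hi2
  rw [← hi] at hi2 hin ⊢
  rw [← hi, Nat.mod_self] at hker₀
  have hbot : LinearMap.ker (y₀ - 1) = ⊥ := Submodule.finrank_eq_zero.mp hker₀
  have hr1 : ¬ r ∣ Fintype.card F - 1 := by
    intro h
    rw [← Elus.ord_eq_one_iff r _ Fintype.card_pos, ← hi] at h
    omega
  obtain ⟨y', hy'⟩ : ∃ y' : Module.End F ((Fin i → F) × (Fin (n - i) → F)),
      y' = LinearMap.prodMap y₀ LinearMap.id := ⟨_, rfl⟩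
  have hy'a : ∀ x, y' x = (y₀ x.1, x.2) := by
    intro x
    rw [hy']
    rfl
  have hpow : ∀ (k : ℕ) (x : (Fin i → F) × (Fin (n - i) → F)),
      (y' ^ k) x = ((y₀ ^ k) x.1, x.2) := by
    intro k
    induction k with
    | zero =>
      intro x
      rw [pow_zero, pow_zero, Module.End.one_apply, Module.End.one_apply]
    | succ k ih =>
      intro x
      calc (y' ^ (k + 1)) x = (y' ^ k) (y' x) := by rw [pow_succ, Module.End.mul_apply]
        _ = ((y₀ ^ k) (y' x).1, (y' x).2) := ih _
        _ = ((y₀ ^ k) (y₀ x.1), x.2) := by simp only [hy'a]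
        _ = ((y₀ ^ (k + 1)) x.1, x.2) := by rw [pow_succ, Module.End.mul_apply]
  have hy'r : y' ^ r = 1 := by
    apply LinearMap.ext
    intro x
    rw [hpow, hy₀]
    rfl
  have hker' : LinearMap.ker (y' - 1) =
      LinearMap.range (LinearMap.inr F (Fin i → F) (Fin (n - i) → F)) := by
    ext x
    rw [Elus.mem_ker_sub_one, LinearMap.mem_range, hy'a]
    constructor
    · intro hx
      have h1 : y₀ x.1 = x.1 := congrArg Prod.fst hx
      have h2 : x.1 ∈ LinearMap.ker (y₀ - 1) := Elus.mem_ker_sub_one.mpr h1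
      rw [hbot, Submodule.mem_bot] at h2
      refine ⟨x.2, ?_⟩
      rw [LinearMap.inr_apply]
      exact Prod.ext h2.symm rfl
    · rintro ⟨b, rfl⟩
      simp only [LinearMap.inr_apply, map_zero]
  have hfk' : finrank F (LinearMap.ker (y' - 1)) = n - i := by
    rw [hker', LinearMap.finrank_range_of_inj LinearMap.inr_injective, Module.finrank_fin_fun]
  have hfin : finrank F ((Fin i → F) × (Fin (n - i) → F)) = finrank F (Fin n → F) := by
    rw [Module.finrank_prod, Module.finrank_fin_fun, Module.finrank_fin_fun,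
      Module.finrank_fin_fun]
    omega
  obtain ⟨e⟩ : Nonempty (((Fin i → F) × (Fin (n - i) → F)) ≃ₗ[F] (Fin n → F)) :=
    ⟨LinearEquiv.ofFinrankEq _ _ hfin⟩
  have hyr : (LinearEquiv.conjAlgEquiv F e y') ^ r = 1 := by rw [← map_pow, hy'r, map_one]
  have hfk : finrank F (LinearMap.ker (LinearEquiv.conjAlgEquiv F e y' - 1)) = n - i := by
    have h1 : LinearEquiv.conjAlgEquiv F e y' - 1 = LinearEquiv.conjAlgEquiv F e (y' - 1) := by
      rw [map_sub, map_one]
    rw [h1, finrank_ker_conj', hfk']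
  refine ⟨LinearEquiv.conjAlgEquiv F e y', ?_, hyr, ?_, hfk⟩
  · apply Elus.eq_one_of_pow r hr1
    rw [← map_pow, hyr, map_one]
  · apply nonscalar_of_ker
    · rw [hfk]
      omega
    · rw [hfk, Module.finrank_fin_fun]
      omega

theorem block_not_sim {p : ℕ} [hp : Fact p.Prime] [CharP F p] {V : Type v} [AddCommGroup V]
    [Module F V] [FiniteDimensional F V] [Nontrivial V]
    (B : LinearMap.BilinForm F V) (hA : B.IsAlt) (hB : B.Nondegenerate) (r : ℕ)
    [hr : Fact r.Prime] (hrp : r ≠ p)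
    (i : ℕ) (hi : i = orderOf ((Fintype.card F : ℕ) : ZMod r)) (hi2 : 2 ≤ i) (hodd : Odd i)
    (hin : i ≤ finrank F V)
    (y : Module.End F V) (hy : y ^ r = 1)
    (hker : finrank F (LinearMap.ker (y - 1)) = finrank F V - i)
    (g : V ≃ₗ[F] V) (c : F) (hz : IsSim B (LinearEquiv.conjAlgEquiv F g y) c) : False := by
  have hrF := cast_ne_zero_of_ne (F := F) r hrp
  have hrq : ¬ r ∣ Fintype.card F := Elus.not_dvd_card_of_ne (F := F) r hrp
  have hrq1 : ¬ r ∣ Fintype.card F - 1 := by
    intro h
    rw [← Elus.ord_eq_one_iff r _ Fintype.card_pos, ← hi] at h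
    omega
  have hzr : (LinearEquiv.conjAlgEquiv F g y) ^ r = 1 := by rw [← map_pow, hy, map_one]
  have h1 := sim_sp_mod B hA hB hz r hrF hrq hrq1 hzr i (2 * i) hi
    (by rw [if_neg (Nat.not_even_iff_odd.mpr hodd)])
  have h2 : LinearEquiv.conjAlgEquiv F g y - 1 = LinearEquiv.conjAlgEquiv F g (y - 1) := by
    rw [map_sub, map_one]
  rw [h2, finrank_ker_conj, hker] at h1
  have h3 : finrank F V - (finrank F V - i) = i := by omega
  rw [h3] at h1
  have := Nat.le_of_dvd (by omega) h1
  omega

end FinB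

section Diag

variable {F : Type u} [Field F]

theorem finrank_ker_diag [DecidableEq F] {n : ℕ} (a : Fin n → F) (t : F) :
    finrank F (LinearMap.ker ((Matrix.toLin' (Matrix.diagonal a) : Module.End F (Fin n → F)) -
      t • 1)) = (Finset.univ.filter (fun j => a j = t)).card := by
  have h1 : (Matrix.toLin' (Matrix.diagonal a) : Module.End F (Fin n → F)) - t • 1 =
      Matrix.toLin' (Matrix.diagonal (fun j => a j - t)) := by
    rw [← Elus.toLin'_smul_one, ← map_sub, Matrix.smul_one_eq_diagonal, Matrix.diagonal_sub]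
  rw [h1]
  have h2 := LinearMap.finrank_range_add_finrank_ker
    (Matrix.toLin' (Matrix.diagonal (fun j => a j - t)) : (Fin n → F) →ₗ[F] (Fin n → F))
  have h3 : finrank F (LinearMap.range
      (Matrix.toLin' (Matrix.diagonal (fun j => a j - t)) : (Fin n → F) →ₗ[F] (Fin n → F))) =
      (Matrix.diagonal (fun j => a j - t)).rank := by
    rw [Matrix.toLin'_apply']
    rfl
  rw [h3, Matrix.rank_diagonal, Module.finrank_fin_fun, Fintype.card_subtype] at h2
  have h4 := Finset.card_filter_add_card_filter_not (s := (Finset.univ : Finset (Fin n)))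
    (fun j => a j = t)
  rw [Finset.card_univ, Fintype.card_fin] at h4
  have h5 : (Finset.univ.filter (fun j : Fin n => a j - t ≠ 0)) =
      Finset.univ.filter (fun j => ¬ a j = t) := by
    apply Finset.filter_congr
    intro j _
    rw [Ne, sub_eq_zero]
  rw [h5] at h2
  omega

/-- the eigenvalue pattern `λ, λ, λ, ν, 1, …, 1` -/
def evA (lam nu : F) (k : ℕ) : F := if k < 3 then lam else if k = 3 then nu else 1

theorem evA_lt {lam nu : F} {k : ℕ} (h : k < 3) : evA lam nu k = lam := by
  rw [evA, if_pos h]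

theorem evA_three (lam nu : F) : evA lam nu 3 = nu := by
  rw [evA, if_neg (by norm_num), if_pos rfl]

theorem evA_gt {lam nu : F} {k : ℕ} (h : 3 < k) : evA lam nu k = 1 := by
  rw [evA, if_neg (by omega), if_neg (by omega)]

theorem evA_ge_one {lam : F} {k : ℕ} (h : 3 ≤ k) : evA lam 1 k = 1 := by
  rcases Nat.eq_or_lt_of_le h with h' | h'
  · rw [← h']
    exact evA_three lam 1
  · exact evA_gt h'

theorem card_filter_fin [DecidableEq F] (n : ℕ) (g : ℕ → F) (t : F) :
    (Finset.univ.filter (fun j : Fin n => g j.val = t)).card =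
      ((Finset.range n).filter (fun k => g k = t)).card := by
  rw [Finset.card_filter, Finset.card_filter,
    Fin.sum_univ_eq_sum_range (fun k => if g k = t then 1 else 0) n]

theorem prod_evA (lam nu : F) (n : ℕ) (hn : 4 ≤ n) :
    ∏ j : Fin n, evA lam nu j.val = lam ^ 3 * nu := by
  obtain ⟨m, rfl⟩ : ∃ m, n = 4 + m := ⟨n - 4, by omega⟩
  rw [Fin.prod_univ_eq_prod_range (evA lam nu) (4 + m), Finset.prod_range_add]
  have h1 : ∏ x ∈ Finset.range m, evA lam nu (4 + x) = 1 := by
    apply Finset.prod_eq_one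
    intro x _
    exact evA_gt (by omega)
  have h2 : ∏ x ∈ Finset.range 4, evA lam nu x =
      evA lam nu 0 * evA lam nu 1 * evA lam nu 2 * evA lam nu 3 := by
    simp [Finset.prod_range_succ]
  rw [h1, mul_one, h2, evA_lt (by norm_num : 0 < 3), evA_lt (by norm_num : 1 < 3),
    evA_lt (by norm_num : 2 < 3), evA_three]
  ring

theorem cnt_r5 [DecidableEq F] {lam nu : F} (h1 : lam ≠ nu) (h2 : nu ≠ 1) (n : ℕ) (hn : 4 ≤ n)
    (he : Even n) :
    ((Finset.range n).filter (fun k => evA lam nu k = nu)).card = 1 ∧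
    ∀ t : F, ((Finset.range n).filter (fun k => evA lam nu k = t)).card = 1 → t = nu := by
  constructor
  · have h : (Finset.range n).filter (fun k => evA lam nu k = nu) = {3} := by
      ext k
      rw [Finset.mem_filter, Finset.mem_range, Finset.mem_singleton]
      constructor
      · rintro ⟨hk, hk2⟩
        by_contra hne
        rcases Nat.lt_or_gt_of_ne hne with h | h
        · rw [evA_lt h] at hk2
          exact h1 hk2
        · rw [evA_gt h] at hk2
          exact h2 hk2.symm
      · rintro rfl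
        exact ⟨by omega, evA_three lam nu⟩
    rw [h, Finset.card_singleton]
  · intro t ht
    obtain ⟨k, hk⟩ := Finset.card_eq_one.mp ht
    have hmem : ∀ j, j < n → evA lam nu j = t → j = k := by
      intro j hj hjt
      have h : j ∈ (Finset.range n).filter (fun k => evA lam nu k = t) :=
        Finset.mem_filter.mpr ⟨Finset.mem_range.mpr hj, hjt⟩
      rw [hk] at h
      exact Finset.mem_singleton.mp h
    have hk' : k ∈ (Finset.range n).filter (fun k => evA lam nu k = t) := by
      rw [hk]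
      exact Finset.mem_singleton_self k
    obtain ⟨hkn, hkt⟩ := Finset.mem_filter.mp hk'
    rw [Finset.mem_range] at hkn
    rcases lt_trichotomy k 3 with h | h | h
    · exfalso
      rw [evA_lt h] at hkt
      have a0 := hmem 0 (by omega) (by rw [evA_lt (by norm_num : 0 < 3)]; exact hkt)
      have a1 := hmem 1 (by omega) (by rw [evA_lt (by norm_num : 1 < 3)]; exact hkt)
      omega
    · rw [h, evA_three] at hkt
      exact hkt.symm
    · exfalso
      rw [evA_gt h] at hkt
      obtain ⟨m, hm⟩ := he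
      have a4 := hmem 4 (by omega) (by rw [evA_gt (by norm_num : 3 < 4)]; exact hkt)
      have a5 := hmem 5 (by omega) (by rw [evA_gt (by norm_num : 3 < 5)]; exact hkt)
      omega

theorem cnt_r3 [DecidableEq F] {lam : F} (h3 : lam ≠ 1) (n : ℕ) (hn : 4 ≤ n) (h6 : n ≠ 6) :
    ((Finset.range n).filter (fun k => evA lam 1 k = lam)).card = 3 ∧
    ∀ t : F, ((Finset.range n).filter (fun k => evA lam 1 k = t)).card = 3 → t = lam := by
  constructor
  · have h : (Finset.range n).filter (fun k => evA lam 1 k = lam) = Finset.range 3 := by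
      ext k
      rw [Finset.mem_filter, Finset.mem_range, Finset.mem_range]
      constructor
      · rintro ⟨hk, hk2⟩
        by_contra hge
        rw [evA_ge_one (by omega)] at hk2
        exact h3 hk2.symm
      · intro hk
        exact ⟨by omega, evA_lt hk⟩
    rw [h, Finset.card_range]
  · intro t ht
    by_contra hne
    by_cases ht1 : t = 1
    · have h : (Finset.range n).filter (fun k => evA lam 1 k = t) = Finset.Ico 3 n := by
        ext k
        rw [Finset.mem_filter, Finset.mem_range, Finset.mem_Ico]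
        constructor
        · rintro ⟨hk, hk2⟩
          refine ⟨?_, hk⟩
          by_contra hlt
          rw [evA_lt (by omega)] at hk2
          exact hne hk2.symm
        · rintro ⟨hk3, hk⟩
          exact ⟨hk, by rw [evA_ge_one hk3, ht1]⟩
      rw [h, Nat.card_Ico] at ht
      omega
    · have h : (Finset.range n).filter (fun k => evA lam 1 k = t) = ∅ := by
        apply Finset.filter_eq_empty_iff.mpr
        intro k _ hk2
        rcases lt_or_ge k 3 with h | h
        · rw [evA_lt h] at hk2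
          exact hne hk2.symm
        · rw [evA_ge_one h] at hk2
          exact ht1 hk2.symm
      rw [h, Finset.card_empty] at ht
      omega

/-- a diagonal element of order `r` dividing `q - 1` with an eigenvalue of odd multiplicity,
alone of its multiplicity -/
theorem exists_diag_elt [Fintype F] (n : ℕ) (hn : 4 ≤ n) (he : Even n) (r : ℕ)
    [hr : Fact r.Prime] (hr2 : r ≠ 2) (hgap : ¬ (n = 6 ∧ r = 3))
    (hr1 : r ∣ Fintype.card F - 1) :
    ∃ y : Module.End F (Fin n → F), LinearMap.det y = 1 ∧ y ^ r = 1 ∧ (∀ c' : F, y ≠ c' • 1) ∧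
      ∃ t₀ : F, t₀ ^ r = 1 ∧ Odd (finrank F (LinearMap.ker (y - t₀ • 1))) ∧
        ∀ t : F, finrank F (LinearMap.ker (y - t • 1)) =
          finrank F (LinearMap.ker (y - t₀ • 1)) → t = t₀ := by
  classical
  have hcard : r ∣ Fintype.card Fˣ := by
    rw [Fintype.card_units]
    exact hr1
  obtain ⟨x, hx⟩ := exists_prime_orderOf_dvd_card r hcard
  obtain ⟨lam, hlam⟩ : ∃ lam : F, lam = (x : F) := ⟨_, rfl⟩
  have hord : orderOf lam = r := by rw [hlam, orderOf_units, hx]
  have hlr : lam ^ r = 1 := by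
    rw [← hord]
    exact pow_orderOf_eq_one lam
  have hl1 : lam ≠ 1 := by
    intro h
    rw [h, orderOf_one] at hord
    exact hr.out.one_lt.ne hord
  have hl0 : lam ≠ 0 := by
    rw [hlam]
    exact x.ne_zero
  have hdvd : ∀ k : ℕ, lam ^ k = 1 → r ∣ k := by
    intro k hk
    rw [← hord]
    exact orderOf_dvd_of_pow_eq_one hk
  have hl4 : lam ^ 4 ≠ 1 := by
    intro h
    have h1 := hdvd 4 h
    have h2 : r ∣ 2 ^ 2 := by
      have e : (2 : ℕ) ^ 2 = 4 := by norm_num
      rw [e]
      exact h1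
    exact hr2 ((Nat.prime_dvd_prime_iff_eq hr.out Nat.prime_two).mp (hr.out.dvd_of_dvd_pow h2))
  obtain ⟨nu, hnu⟩ : ∃ nu : F, nu = (lam ^ 3)⁻¹ := ⟨_, rfl⟩
  have hnur : nu ^ r = 1 := by
    rw [hnu, inv_pow, ← pow_mul, mul_comm, pow_mul, hlr, one_pow, inv_one]
  have hprod : lam ^ 3 * nu = 1 := by rw [hnu, mul_inv_cancel₀ (pow_ne_zero 3 hl0)]
  have hlnu : lam ≠ nu := by
    intro h
    apply hl4
    calc lam ^ 4 = lam ^ 3 * lam := pow_succ lam 3
      _ = lam ^ 3 * nu := by rw [← h]
      _ = 1 := hprod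
  obtain ⟨y, hy⟩ : ∃ y : Module.End F (Fin n → F),
      y = Matrix.toLin' (Matrix.diagonal (fun j : Fin n => evA lam nu j.val)) := ⟨_, rfl⟩
  have hdet : LinearMap.det y = 1 := by
    rw [hy, LinearMap.det_toLin', Matrix.det_diagonal, prod_evA lam nu n hn, hprod]
  have hyr : y ^ r = 1 := by
    rw [hy, ← Elus.toLin'_pow, Matrix.diagonal_pow]
    have h1 : (fun j : Fin n => evA lam nu j.val) ^ r = fun _ => 1 := by
      funext j
      rw [Pi.pow_apply]
      unfold evA
      split_ifs
      · exact hlr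
      · exact hnur
      · exact one_pow r
    rw [h1, Matrix.diagonal_one, Matrix.toLin'_one]
    rfl
  have hns : ∀ c' : F, y ≠ c' • 1 := by
    intro c' hc
    rw [hy, ← Elus.toLin'_smul_one, Matrix.smul_one_eq_diagonal] at hc
    have h1 := Matrix.diagonal_injective (Matrix.toLin'.injective hc)
    have h2 : evA lam nu 0 = c' := congrFun h1 ⟨0, by omega⟩
    have h3 : evA lam nu 3 = c' := congrFun h1 ⟨3, by omega⟩
    rw [evA_lt (by norm_num : 0 < 3)] at h2
    rw [evA_three] at h3
    exact hlnu (h2.trans h3.symm)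
  have hmult : ∀ t : F, finrank F (LinearMap.ker (y - t • 1)) =
      ((Finset.range n).filter (fun k => evA lam nu k = t)).card := by
    intro t
    rw [hy, finrank_ker_diag, card_filter_fin n (evA lam nu) t]
  by_cases h3 : r = 3
  · have hl3 : lam ^ 3 = 1 := by
      have := hlr
      rwa [h3] at this
    have hnu1 : nu = 1 := by rw [hnu, hl3, inv_one]
    have hn6 : n ≠ 6 := fun h => hgap ⟨h, h3⟩
    obtain ⟨c1, c2⟩ := cnt_r3 hl1 n hn hn6
    rw [hnu1] at hmult
    refine ⟨y, hdet, hyr, hns, lam, hlr, ?_, ?_⟩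
    · rw [hmult, c1]
      exact ⟨1, by norm_num⟩
    · intro t ht
      rw [hmult, hmult, c1] at ht
      exact c2 t ht
  · have hnu1 : nu ≠ 1 := by
      intro h
      rw [h, mul_one] at hprod
      have := hdvd 3 hprod
      exact h3 ((Nat.prime_dvd_prime_iff_eq hr.out Nat.prime_three).mp this)
    obtain ⟨c1, c2⟩ := cnt_r5 hlnu hnu1 n hn he
    refine ⟨y, hdet, hyr, hns, nu, hnur, ?_, ?_⟩
    · rw [hmult, c1]
      exact odd_one
    · intro t ht
      rw [hmult, hmult, c1] at ht
      exact c2 t ht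

end Diag

end Cfsg.Agent.Lib.Helper2.SpSl
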