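import Mathlib
import Cfsg.Agent.Lib.Helper2.SpSlC
set_option autoImplicit false
set_option maxHeartbeats 1000000
set_option linter.unusedVariables false
set_option linter.unusedSectionVars false
set_option linter.style.longLine false
set_option linter.unusedSimpArgs false
set_option linter.deprecated false
set_option linter.style.haveILetI false

/-! Symplectic-type subgroups of `SL_n(q)` (part D): unipotent elements, the derangement at the
level of endomorphisms, and the bridge to matrices. -/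

namespace Cfsg.Agent.Lib.Helper2.SpSl

open Module Cfsg.Agent.Lib.Helper2 Cfsg.Agent.Lib.Helper2.SpImp Cfsg.Agent.Lib.Helper2.SpTi

universe u v

section Unip

variable {F : Type u} [Field F]

theorem eq_one_of_pow_char {p : ℕ} [hp : Fact p.Prime] [CharP F p] (x : F) (h : x ^ p = 1) :
    x = 1 := by
  have h1 : (x - 1) ^ p = 0 := by rw [sub_pow_char, h, one_pow, sub_self]
  exact sub_eq_zero.mp ((pow_eq_zero_iff hp.out.ne_zero).mp h1)

/-- a unipotent element with a single Jordan block of size three, in odd characteristic, has no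
conjugate among the similitudes of an alternating form -/
theorem exists_unip_elt {p : ℕ} [hp : Fact p.Prime] [CharP F p] (hp2 : p ≠ 2) (n : ℕ)
    (hn : 3 ≤ n) :
    ∃ y : Module.End F (Fin n → F), LinearMap.det y = 1 ∧ y ^ p = 1 ∧ (∀ c' : F, y ≠ c' • 1) ∧
      ∀ (B : LinearMap.BilinForm F (Fin n → F)), B.IsAlt → B.Nondegenerate →
        ∀ (g : (Fin n → F) ≃ₗ[F] (Fin n → F)) (c : F),
          ¬ IsSim B (LinearEquiv.conjAlgEquiv F g y) c := by
  classical
  obtain ⟨i0, hi0⟩ : ∃ i0 : Fin n, i0.val = 0 := ⟨⟨0, by omega⟩, rfl⟩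
  obtain ⟨i1, hi1⟩ : ∃ i1 : Fin n, i1.val = 1 := ⟨⟨1, by omega⟩, rfl⟩
  obtain ⟨i2, hi2⟩ : ∃ i2 : Fin n, i2.val = 2 := ⟨⟨2, by omega⟩, rfl⟩
  haveI : Nonempty (Fin n) := ⟨i0⟩
  have h01 : i0 ≠ i1 := by
    intro h
    rw [h] at hi0
    omega
  have h02 : i0 ≠ i2 := by
    intro h
    rw [h] at hi0
    omega
  have h12 : i1 ≠ i2 := by
    intro h
    rw [h] at hi1
    omega
  obtain ⟨e0, he0⟩ : ∃ e0 : Fin n → F, e0 = Pi.single i0 1 := ⟨_, rfl⟩
  obtain ⟨e1, he1⟩ : ∃ e1 : Fin n → F, e1 = Pi.single i1 1 := ⟨_, rfl⟩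
  obtain ⟨e2, he2⟩ : ∃ e2 : Fin n → F, e2 = Pi.single i2 1 := ⟨_, rfl⟩
  have e00 : e0 i0 = 1 := by rw [he0, Pi.single_eq_same]
  have e01 : e0 i1 = 0 := by rw [he0, Pi.single_eq_of_ne h01.symm]
  have e02 : e0 i2 = 0 := by rw [he0, Pi.single_eq_of_ne h02.symm]
  have e11 : e1 i1 = 1 := by rw [he1, Pi.single_eq_same]
  have e12 : e1 i2 = 0 := by rw [he1, Pi.single_eq_of_ne h12.symm]
  have e21 : e2 i1 = 0 := by rw [he2, Pi.single_eq_of_ne h12]
  have e22 : e2 i2 = 1 := by rw [he2, Pi.single_eq_same]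
  obtain ⟨N, hNdef⟩ : ∃ N : Module.End F (Fin n → F),
      N = (LinearMap.proj i1 : (Fin n → F) →ₗ[F] F).smulRight e0 +
        (LinearMap.proj i2 : (Fin n → F) →ₗ[F] F).smulRight e1 := ⟨_, rfl⟩
  have hN : ∀ v, N v = v i1 • e0 + v i2 • e1 := by
    intro v
    rw [hNdef]
    rfl
  have hNi1 : ∀ v, (N v) i1 = v i2 := by
    intro v
    rw [hN, Pi.add_apply, Pi.smul_apply, Pi.smul_apply, e01, e11, smul_eq_mul, smul_eq_mul,
      mul_zero, mul_one, zero_add]
  have hNi2 : ∀ v, (N v) i2 = 0 := by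
    intro v
    rw [hN, Pi.add_apply, Pi.smul_apply, Pi.smul_apply, e02, e12, smul_eq_mul, smul_eq_mul,
      mul_zero, mul_zero, zero_add]
  have hN2 : ∀ v, N (N v) = v i2 • e0 := by
    intro v
    rw [hN (N v), hNi1, hNi2, zero_smul, add_zero]
  have hN3 : ∀ v, N (N (N v)) = 0 := by
    intro v
    rw [hN2 (N v), hNi2, zero_smul]
  have hp3 : 3 ≤ p := by
    have := hp.out.two_le
    omega
  have hNp : N ^ p = 0 := by
    have h1 : N * N * N = 0 := by
      apply LinearMap.ext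
      intro v
      rw [Module.End.mul_apply, Module.End.mul_apply, hN3]
      rfl
    have h2 : p = 3 + (p - 3) := by omega
    rw [h2, pow_add, pow_three', h1, zero_mul]
  haveI : CharP (Module.End F (Fin n → F)) p :=
    charP_of_injective_algebraMap (algebraMap F (Module.End F (Fin n → F))).injective p
  obtain ⟨y, hy⟩ : ∃ y : Module.End F (Fin n → F), y = 1 + N := ⟨_, rfl⟩
  have hyp : y ^ p = 1 := by
    rw [hy, add_pow_char_of_commute p (Commute.one_left N), one_pow, hNp, add_zero]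
  have hya : ∀ v, y v = v + N v := by
    intro v
    rw [hy, LinearMap.add_apply, Module.End.one_apply]
  have hdet : LinearMap.det y = 1 := by
    apply eq_one_of_pow_char (p := p)
    rw [← map_pow, hyp, map_one]
  have hns : ∀ c' : F, y ≠ c' • 1 := by
    intro c' hc
    have h1 := congrFun (LinearMap.congr_fun hc e2) i1
    rw [hya, Pi.add_apply, hNi1, e21, e22, LinearMap.smul_apply, Module.End.one_apply,
      Pi.smul_apply, e21, smul_eq_mul, mul_zero, zero_add] at h1
    exact one_ne_zero h1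
  have h2F : (2 : F) ≠ 0 := by
    intro h
    have h' : ((2 : ℕ) : F) = 0 := by exact_mod_cast h
    rw [CharP.cast_eq_zero_iff F p 2] at h'
    exact hp2 ((Nat.prime_dvd_prime_iff_eq hp.out Nat.prime_two).mp h')
  refine ⟨y, hdet, hyp, hns, ?_⟩
  intro B hA hB g c hz
  have hzp : (LinearEquiv.conjAlgEquiv F g y) ^ p = 1 := by rw [← map_pow, hyp, map_one]
  have hcp : c ^ p = 1 := sim_one_mult B hB (by
    have := hz.pow p
    rwa [hzp] at this)
  have hc1 : c = 1 := eq_one_of_pow_char c hcp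
  have hzB : IsIsom B (LinearEquiv.conjAlgEquiv F g y) := fun u v => by
    rw [hz u v, hc1, one_mul]
  have hyN : y - 1 = N := by rw [hy, add_sub_cancel_left]
  have hz1 : ∀ x, (LinearEquiv.conjAlgEquiv F g y - 1) x = g (N (g.symm x)) := by
    intro x
    have h1 : LinearEquiv.conjAlgEquiv F g y - 1 = LinearEquiv.conjAlgEquiv F g N := by
      rw [← hyN, map_sub, map_one]
    rw [h1, LinearEquiv.conjAlgEquiv_apply]
    rfl
  have hN3z : ∀ x, (LinearEquiv.conjAlgEquiv F g y - 1) ((LinearEquiv.conjAlgEquiv F g y - 1)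
      ((LinearEquiv.conjAlgEquiv F g y - 1) x)) = 0 := by
    intro x
    rw [hz1, hz1, hz1, g.symm_apply_apply, g.symm_apply_apply, hN3, map_zero]
  have hrank : ∀ w, ∃ μ : F, (LinearEquiv.conjAlgEquiv F g y - 1)
      ((LinearEquiv.conjAlgEquiv F g y - 1) w) = μ • g e0 := by
    intro w
    refine ⟨(g.symm w) i2, ?_⟩
    rw [hz1, hz1, g.symm_apply_apply, hN2, map_smul]
  have hfin := sim_unip B hA hB h2F hzB hN3z (g e0) hrank
  have h5 := hfin (g e2)
  rw [hz1, hz1, g.symm_apply_apply, g.symm_apply_apply, hN2, e22, one_smul] at h5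
  have h6 : e0 = 0 := g.map_eq_zero_iff.mp h5
  have h7 := congrFun h6 i0
  rw [e00] at h7
  exact one_ne_zero h7

end Unip

section Main

variable {F : Type u} [Field F] [Fintype F]

/-- the derangement of odd prime order, as an endomorphism -/
theorem exists_derangement_End {p : ℕ} [hp : Fact p.Prime] [CharP F p]
    (n : ℕ) (hn : 4 ≤ n) (he : Even n) (f : (Fin n → F) → (Fin n → F) → F)
    (hf : Cfsg.Geo.IsSymplecticForm f)
    (r : ℕ) [hr : Fact r.Prime] (hr2 : r ≠ 2) (hgap : ¬ (n = 6 ∧ r = 3))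
    (hΩ : r ∣ ((Cfsg.Geo.similarityGroup f).comap (Matrix.SpecialLinearGroup.toGL :
      Matrix.SpecialLinearGroup (Fin n) F →* GL (Fin n) F)).index) :
    ∃ y : Module.End F (Fin n → F), LinearMap.det y = 1 ∧ y ^ r = 1 ∧ (∀ c' : F, y ≠ c' • 1) ∧
      ∀ (g : (Fin n → F) ≃ₗ[F] (Fin n → F)) (c : F),
        ¬ IsSim (formBilin f hf) (LinearEquiv.conjAlgEquiv F g y) c := by
  haveI : Nonempty (Fin n) := ⟨⟨0, by omega⟩⟩
  have hA := formBilin_isAlt f hf
  have hB := formBilin_nondegenerate f hf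
  by_cases hrp : r = p
  · subst hrp
    obtain ⟨y, h1, h2, h3, h4⟩ := exists_unip_elt (F := F) (p := r) hr2 n (by omega)
    exact ⟨y, h1, h2, h3, fun g c => h4 _ hA hB g c⟩
  · obtain ⟨m₀, hm₀⟩ : ∃ m₀, n = 2 * (m₀ + 1) := by
      obtain ⟨k, hk⟩ := he
      exact ⟨k - 1, by omega⟩
    obtain ⟨t, ht, hdvd⟩ := index_prime f hf m₀ hm₀ r hrp hΩ
    have hi := Elus.ord_dvd_of_dvd_sub_one r (Fintype.card F) (2 * t + 3) Fintype.card_pos hdvd
    obtain ⟨i, hidef⟩ : ∃ i, i = orderOf ((Fintype.card F : ℕ) : ZMod r) := ⟨_, rfl⟩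
    rw [← hidef] at hi
    have hile : i ≤ 2 * t + 3 := Nat.le_of_dvd (by omega) hi
    have hiodd : Odd i := by
      rcases Nat.even_or_odd i with h | h
      · exfalso
        obtain ⟨a, ha⟩ := h
        obtain ⟨b, hb⟩ := hi
        have e : 2 * t + 3 = 2 * (a * b) := by
          rw [hb, ha]
          ring
        omega
      · exact h
    have hi0 : 0 < i := Nat.pos_of_dvd_of_pos hi (by omega)
    by_cases hi1 : i = 1
    · have hr1 : r ∣ Fintype.card F - 1 := by
        rw [← Elus.ord_eq_one_iff r _ Fintype.card_pos, ← hidef]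
        exact hi1
      obtain ⟨y, h1, h2, h3, t₀, h4, h5, h6⟩ := exists_diag_elt n hn he r hr2 hgap hr1
      refine ⟨y, h1, h2, h3, fun g c hz => ?_⟩
      exact odd_unique_not_sim (formBilin f hf) hA hB r hr2 (cast_ne_zero_of_ne r hrp) y h2 t₀
        h4 h5 h6 g c hz
    · have hi2 : 2 ≤ i := by omega
      have hin : i < n := by omega
      obtain ⟨y, h1, h2, h3, h4⟩ := exists_block_elt (F := F) n r hrp
        (by rw [← hidef]; exact hi2) (by rw [← hidef]; exact hin)
      rw [← hidef] at h4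
      refine ⟨y, h1, h2, h3, fun g c hz => ?_⟩
      exact block_not_sim (formBilin f hf) hA hB r hrp i hidef hi2 hiodd
        (by rw [Module.finrank_fin_fun]; omega) y h2
        (by rw [Module.finrank_fin_fun]; exact h4) g c hz

end Main

section Bridge

variable {F : Type u} [Field F] {n : ℕ}

open Matrix in
theorem sl_bridge (f : (Fin n → F) → (Fin n → F) → F) (hf : Cfsg.Geo.IsSymplecticForm f)
    (y : Module.End F (Fin n → F)) (hdet : LinearMap.det y = 1)
    (P : Matrix.SpecialLinearGroup (Fin n) F)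
    (hP : P⁻¹ * Elus.toSL y hdet * P ∈ (Cfsg.Geo.similarityGroup f).comap
      (Matrix.SpecialLinearGroup.toGL : Matrix.SpecialLinearGroup (Fin n) F →* GL (Fin n) F)) :
    ∃ (g : (Fin n → F) ≃ₗ[F] (Fin n → F)) (c : F),
      IsSim (formBilin f hf) (LinearEquiv.conjAlgEquiv F g y) c := by
  rw [Subgroup.mem_comap] at hP
  obtain ⟨c, hc⟩ := hP
  have h1 : (Matrix.toLin' (P⁻¹ : Matrix.SpecialLinearGroup (Fin n) F).1) ∘ₗ
      (Matrix.toLin' P.1) = LinearMap.id := by
    rw [← Matrix.toLin'_mul, ← Matrix.SpecialLinearGroup.coe_mul, inv_mul_cancel,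
      Matrix.SpecialLinearGroup.coe_one, Matrix.toLin'_one]
  have h2 : (Matrix.toLin' P.1) ∘ₗ
      (Matrix.toLin' (P⁻¹ : Matrix.SpecialLinearGroup (Fin n) F).1) = LinearMap.id := by
    rw [← Matrix.toLin'_mul, ← Matrix.SpecialLinearGroup.coe_mul, mul_inv_cancel,
      Matrix.SpecialLinearGroup.coe_one, Matrix.toLin'_one]
  obtain ⟨g, hg⟩ : ∃ g : (Fin n → F) ≃ₗ[F] (Fin n → F), g = LinearEquiv.ofLinearMap
      (Matrix.toLin' (P⁻¹ : Matrix.SpecialLinearGroup (Fin n) F).1) (Matrix.toLin' P.1) h1 h2 :=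
    ⟨_, rfl⟩
  have hga : ∀ u, g u = (P⁻¹ : Matrix.SpecialLinearGroup (Fin n) F).1 *ᵥ u := by
    intro u
    rw [hg]
    show Matrix.toLin' _ u = _
    rw [Matrix.toLin'_apply]
  have hgs : ∀ u, g.symm u = P.1 *ᵥ u := by
    intro u
    rw [hg]
    show Matrix.toLin' _ u = _
    rw [Matrix.toLin'_apply]
  refine ⟨g, (c : F), fun u v => ?_⟩
  have hcj : ∀ u, (LinearEquiv.conjAlgEquiv F g y) u =
      ((P⁻¹ * Elus.toSL y hdet * P : Matrix.SpecialLinearGroup (Fin n) F) :
        Matrix (Fin n) (Fin n) F) *ᵥ u := by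
    intro u
    rw [LinearEquiv.conjAlgEquiv_apply]
    show g (y (g.symm u)) = _
    rw [Matrix.SpecialLinearGroup.coe_mul, Matrix.SpecialLinearGroup.coe_mul,
      ← Matrix.mulVec_mulVec, ← Matrix.mulVec_mulVec, ← hgs u, ← hga]
    congr 1
    have h3 := Elus.toLin'_toSL y hdet
    have h4 := LinearMap.congr_fun h3 (g.symm u)
    rw [Matrix.toLin'_apply] at h4
    exact h4.symm
  rw [formBilin_apply, formBilin_apply, hcj, hcj]
  exact hc u v

end Bridge

end Cfsg.Agent.Lib.Helper2.SpSl
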