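import Mathlib
import Cfsg.Agent.Lib.Helper2.SpSlD
set_option autoImplicit false
set_option maxHeartbeats 1000000
set_option linter.unusedVariables false
set_option linter.unusedSectionVars false
set_option linter.style.longLine false
set_option linter.unusedSimpArgs false
set_option linter.deprecated false
set_option linter.style.haveILetI false

/-! Involutions of `PSL_n(q)` and symplectic-type subgroups (part A): gluing alternating forms
along invariant decompositions, forms on planes, centralizing elements of given determinant. -/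

namespace Cfsg.Agent.Lib.Helper2.SpInv

open Module Cfsg.Agent.Lib.Helper2 Cfsg.Agent.Lib.Helper2.SpImp Cfsg.Agent.Lib.Helper2.SpTi
  Cfsg.Agent.Lib.Helper2.SpSl Cfsg.Agent.Lib.Helper5.SympBridge

universe u v

section Tools

variable {F : Type u} [Field F] {V : Type v} [AddCommGroup V] [Module F V] [FiniteDimensional F V]

theorem proj_add {P C : Submodule F V} (hPC : IsCompl P C) (u : V) :
    ((P.projectionOnto C hPC u : P) : V) + ((C.projectionOnto P hPC.symm u : C) : V) = u :=
  Submodule.projection_add_projection_eq_self hPC u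

theorem proj_restrict {P C : Submodule F V} (hPC : IsCompl P C) (y : Module.End F V)
    (hP : ∀ x ∈ P, y x ∈ P) (hC : ∀ x ∈ C, y x ∈ C) (u : V) :
    P.projectionOnto C hPC (y u) = y.restrict hP (P.projectionOnto C hPC u) := by
  have h1 := proj_add hPC u
  have h2 : y u = y (P.projectionOnto C hPC u : P) + y (C.projectionOnto P hPC.symm u : C) := by
    rw [← map_add, h1]
  rw [h2, map_add,
    Submodule.projectionOnto_apply_of_mem_left hPC (hP _ (P.projectionOnto C hPC u).2),
    Submodule.projectionOnto_apply_of_mem_right hPC (hC _ (C.projectionOnto P hPC.symm u).2),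
    add_zero]
  apply Subtype.ext
  rw [LinearMap.restrict_coe_apply]

/-- gluing similitude forms along an invariant decomposition -/
theorem glue_form {P C : Submodule F V} (hPC : IsCompl P C) (y : Module.End F V) (d : F)
    (hP : ∀ x ∈ P, y x ∈ P) (hC : ∀ x ∈ C, y x ∈ C)
    (bP : LinearMap.BilinForm F P) (hPa : bP.IsAlt) (hPn : bP.Nondegenerate)
    (hPs : IsSim bP (y.restrict hP) d)
    (bC : LinearMap.BilinForm F C) (hCa : bC.IsAlt) (hCn : bC.Nondegenerate)
    (hCs : IsSim bC (y.restrict hC) d) :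
    ∃ B' : LinearMap.BilinForm F V, B'.IsAlt ∧ B'.Nondegenerate ∧ IsSim B' y d := by
  obtain ⟨B', hB'⟩ : ∃ B' : LinearMap.BilinForm F V, B' =
      bP.compl₁₂ (P.projectionOnto C hPC) (P.projectionOnto C hPC) +
      bC.compl₁₂ (C.projectionOnto P hPC.symm) (C.projectionOnto P hPC.symm) := ⟨_, rfl⟩
  have hap : ∀ u v, B' u v = bP (P.projectionOnto C hPC u) (P.projectionOnto C hPC v) +
      bC (C.projectionOnto P hPC.symm u) (C.projectionOnto P hPC.symm v) := by
    intro u v
    rw [hB', LinearMap.add_apply, LinearMap.add_apply, LinearMap.compl₁₂_apply,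
      LinearMap.compl₁₂_apply]
  have halt : B'.IsAlt := by
    intro u
    rw [hap, hPa, hCa, add_zero]
  have hleft : ∀ u, (∀ v, B' u v = 0) → u = 0 := by
    intro u hu
    have h1 : P.projectionOnto C hPC u = 0 := by
      apply hPn.1
      intro v
      have h2 := hu (v : V)
      rw [hap, Submodule.projectionOnto_apply_left hPC v,
        Submodule.projectionOnto_apply_of_mem_right hPC.symm v.2, map_zero, add_zero] at h2
      exact h2
    have h3 : C.projectionOnto P hPC.symm u = 0 := by
      apply hCn.1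
      intro v
      have h2 := hu (v : V)
      rw [hap, Submodule.projectionOnto_apply_left hPC.symm v,
        Submodule.projectionOnto_apply_of_mem_right hPC v.2, map_zero, zero_add] at h2
      exact h2
    have h4 := proj_add hPC u
    rw [h1, h3, Submodule.coe_zero, Submodule.coe_zero, add_zero] at h4
    exact h4.symm
  refine ⟨B', halt, ⟨hleft, ?_⟩, ?_⟩
  · intro u hu
    apply hleft
    intro v
    rw [← halt.neg_eq, hu v, neg_zero]
  · intro u v
    rw [hap, hap, proj_restrict hPC y hP hC, proj_restrict hPC y hP hC,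
      proj_restrict hPC.symm y hC hP, proj_restrict hPC.symm y hC hP, hPs, hCs, mul_add]

theorem plane_basis {W : Type v} [AddCommGroup W] [Module F W] [FiniteDimensional F W]
    (a b : W) (hli : LinearIndependent F ![a, b]) (hfin : finrank F W = 2) :
    ∃ bas : Basis (Fin 2) F W, bas 0 = a ∧ bas 1 = b := by
  obtain ⟨bas, hbas⟩ : ∃ bas : Basis (Fin 2) F W, ⇑bas = ![a, b] :=
    ⟨basisOfLinearIndependentOfCardEqFinrank hli (by rw [Fintype.card_fin, hfin]),
      coe_basisOfLinearIndependentOfCardEqFinrank _ _⟩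
  refine ⟨bas, ?_, ?_⟩
  · rw [hbas]
    rfl
  · rw [hbas]
    rfl

theorem plane_coords {W : Type v} [AddCommGroup W] [Module F W] [FiniteDimensional F W]
    (a b : W) (hli : LinearIndependent F ![a, b]) (hfin : finrank F W = 2) :
    ∃ c0 c1 : W →ₗ[F] F, c0 a = 1 ∧ c0 b = 0 ∧ c1 a = 0 ∧ c1 b = 1 ∧
      ∀ u, u = c0 u • a + c1 u • b := by
  obtain ⟨bas, h0, h1⟩ := plane_basis a b hli hfin
  refine ⟨bas.coord 0, bas.coord 1, ?_, ?_, ?_, ?_, ?_⟩
  · rw [← h0, Basis.coord_apply, Basis.repr_self, Finsupp.single_eq_same]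
  · rw [← h1, Basis.coord_apply, Basis.repr_self, Finsupp.single_eq_of_ne (by decide)]
  · rw [← h0, Basis.coord_apply, Basis.repr_self, Finsupp.single_eq_of_ne (by decide)]
  · rw [← h1, Basis.coord_apply, Basis.repr_self, Finsupp.single_eq_same]
  · intro u
    have h := bas.sum_repr u
    rw [Fin.sum_univ_two, h0, h1] at h
    rw [Basis.coord_apply, Basis.coord_apply]
    exact h.symm

/-- on a plane every operator is a similitude of the determinant form -/
theorem plane_form {W : Type v} [AddCommGroup W] [Module F W] [FiniteDimensional F W]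
    (a b : W) (hli : LinearIndependent F ![a, b]) (hfin : finrank F W = 2) (T : Module.End F W)
    (α γ α' γ' : F) (hTa : T a = α • a + γ • b) (hTb : T b = α' • a + γ' • b) :
    ∃ β : LinearMap.BilinForm F W, β.IsAlt ∧ β.Nondegenerate ∧
      IsSim β T (α * γ' - γ * α') := by
  obtain ⟨c0, c1, h0a, h0b, h1a, h1b, hu⟩ := plane_coords a b hli hfin
  obtain ⟨β, hβ⟩ : ∃ β : LinearMap.BilinForm F W,
      β = (LinearMap.mul F F).compl₁₂ c0 c1 - (LinearMap.mul F F).compl₁₂ c1 c0 := ⟨_, rfl⟩
  have hap : ∀ u v, β u v = c0 u * c1 v - c1 u * c0 v := by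
    intro u v
    rw [hβ, LinearMap.sub_apply, LinearMap.sub_apply, LinearMap.compl₁₂_apply,
      LinearMap.compl₁₂_apply, LinearMap.mul_apply', LinearMap.mul_apply']
  have hT : ∀ u, T u = c0 u • T a + c1 u • T b := by
    intro u
    conv_lhs => rw [hu u]
    rw [map_add, map_smul, map_smul]
  have hT0 : ∀ u, c0 (T u) = α * c0 u + α' * c1 u := by
    intro u
    rw [hT u, hTa, hTb]
    simp only [map_add, map_smul, smul_eq_mul, h0a, h0b, h1a, h1b]
    ring
  have hT1 : ∀ u, c1 (T u) = γ * c0 u + γ' * c1 u := by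
    intro u
    rw [hT u, hTa, hTb]
    simp only [map_add, map_smul, smul_eq_mul, h0a, h0b, h1a, h1b]
    ring
  have halt : β.IsAlt := by
    intro u
    rw [hap]
    ring
  have hleft : ∀ u, (∀ v, β u v = 0) → u = 0 := by
    intro u h
    have e1 := h b
    have e2 := h a
    rw [hap, h0b, h1b] at e1
    rw [hap, h0a, h1a] at e2
    have e3 : c0 u = 0 := by linear_combination e1
    have e4 : c1 u = 0 := by linear_combination -e2
    rw [hu u, e3, e4, zero_smul, zero_smul, add_zero]
  refine ⟨β, halt, ⟨hleft, ?_⟩, ?_⟩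
  · intro u h
    apply hleft
    intro v
    rw [← halt.neg_eq, h v, neg_zero]
  · intro u v
    rw [hap, hap, hT0, hT0, hT1, hT1]
    ring

theorem det_plane {W : Type v} [AddCommGroup W] [Module F W] [FiniteDimensional F W]
    (a b : W) (hli : LinearIndependent F ![a, b]) (hfin : finrank F W = 2) (T : Module.End F W)
    (α γ α' γ' : F) (hTa : T a = α • a + γ • b) (hTb : T b = α' • a + γ' • b) :
    LinearMap.det T = α * γ' - γ * α' := by
  classical
  obtain ⟨bas, h0, h1⟩ := plane_basis a b hli hfin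
  have r00 : bas.repr (T (bas 0)) 0 = α := by
    rw [h0, hTa, ← h0, ← h1]
    simp
  have r10 : bas.repr (T (bas 0)) 1 = γ := by
    rw [h0, hTa, ← h0, ← h1]
    simp
  have r01 : bas.repr (T (bas 1)) 0 = α' := by
    rw [h1, hTb, ← h0, ← h1]
    simp
  have r11 : bas.repr (T (bas 1)) 1 = γ' := by
    rw [h1, hTb, ← h0, ← h1]
    simp
  rw [← LinearMap.det_toMatrix bas, Matrix.det_fin_two, LinearMap.toMatrix_apply,
    LinearMap.toMatrix_apply, LinearMap.toMatrix_apply, LinearMap.toMatrix_apply, r00, r11, r01,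
    r10]
  ring

theorem conj_prod {P C : Submodule F V} (hPC : IsCompl P C) (y : Module.End F V)
    (hP : ∀ x ∈ P, y x ∈ P) (hC : ∀ x ∈ C, y x ∈ C) :
    y = LinearEquiv.conjAlgEquiv F (P.prodEquivOfIsCompl C hPC)
      (LinearMap.prodMap (y.restrict hP) (y.restrict hC)) := by
  apply LinearMap.ext
  intro u
  rw [LinearEquiv.conjAlgEquiv_apply]
  show y u = (P.prodEquivOfIsCompl C hPC) (LinearMap.prodMap (y.restrict hP) (y.restrict hC)
    ((P.prodEquivOfIsCompl C hPC).symm u))
  simp only [Submodule.prodEquivOfIsCompl_symm_apply, LinearMap.prodMap_apply,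
    Submodule.coe_prodEquivOfIsCompl', LinearMap.restrict_coe_apply]
  rw [← map_add, proj_add]

theorem det_isCompl {P C : Submodule F V} (hPC : IsCompl P C) (y : Module.End F V)
    (hP : ∀ x ∈ P, y x ∈ P) (hC : ∀ x ∈ C, y x ∈ C) :
    LinearMap.det y = LinearMap.det (y.restrict hP) * LinearMap.det (y.restrict hC) := by
  conv_lhs => rw [conj_prod hPC y hP hC]
  rw [LinearEquiv.conjAlgEquiv_apply, LinearMap.det_conj, LinearMap.det_prodMap]

/-- centralizing elements from one summand of an invariant decomposition -/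
theorem exists_cent {P C : Submodule F V} (hPC : IsCompl P C) (y : Module.End F V)
    (hP : ∀ x ∈ P, y x ∈ P) (hC : ∀ x ∈ C, y x ∈ C) (hh : Module.End F P)
    (hcomm : hh * y.restrict hP = y.restrict hP * hh) :
    ∃ h : Module.End F V, h * y = y * h ∧ LinearMap.det h = LinearMap.det hh := by
  obtain ⟨Y, hY⟩ : ∃ Y : Module.End F (P × C),
      Y = LinearMap.prodMap (y.restrict hP) (y.restrict hC) := ⟨_, rfl⟩
  have hy : y = LinearEquiv.conjAlgEquiv F (P.prodEquivOfIsCompl C hPC) Y := by
    rw [hY]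
    exact conj_prod hPC y hP hC
  refine ⟨LinearEquiv.conjAlgEquiv F (P.prodEquivOfIsCompl C hPC) (LinearMap.prodMap hh 1),
    ?_, ?_⟩
  · rw [hy, ← map_mul, ← map_mul, hY, LinearMap.prodMap_mul, LinearMap.prodMap_mul, hcomm,
      one_mul, mul_one]
  · rw [LinearEquiv.conjAlgEquiv_apply, LinearMap.det_conj, LinearMap.det_prodMap, map_one,
      mul_one]

theorem exists_alt_nd {W : Type v} [AddCommGroup W] [Module F W] [FiniteDimensional F W] (k : ℕ)
    (hfin : finrank F W = 2 * k) :
    ∃ β : LinearMap.BilinForm F W, β.IsAlt ∧ β.Nondegenerate := by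
  have h1 : finrank F W = finrank F (Fin k ⊕ Fin k → F) := by
    rw [hfin, Module.finrank_fintype_fun_eq_card, Fintype.card_sum, Fintype.card_fin]
    ring
  obtain ⟨e⟩ : Nonempty (W ≃ₗ[F] (Fin k ⊕ Fin k → F)) := ⟨LinearEquiv.ofFinrankEq _ _ h1⟩
  have hap : ∀ u v, (sympBilin F k).compl₁₂ (e : W →ₗ[F] (Fin k ⊕ Fin k → F))
      (e : W →ₗ[F] (Fin k ⊕ Fin k → F)) u v = sympBilin F k (e u) (e v) := by
    intro u v
    rw [LinearMap.compl₁₂_apply]
    rfl
  refine ⟨(sympBilin F k).compl₁₂ (e : W →ₗ[F] (Fin k ⊕ Fin k → F))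
    (e : W →ₗ[F] (Fin k ⊕ Fin k → F)), ?_, ?_, ?_⟩
  · intro u
    rw [hap]
    exact sympBilin_isAlt k _
  · intro u hu
    have h2 : e u = 0 := by
      apply (sympBilin_nondegenerate (F := F) k).1
      intro w
      have h3 := hu (e.symm w)
      rw [hap, e.apply_symm_apply] at h3
      exact h3
    exact e.map_eq_zero_iff.mp h2
  · intro u hu
    have h2 : e u = 0 := by
      apply (sympBilin_nondegenerate (F := F) k).2
      intro w
      have h3 := hu (e.symm w)
      rw [hap, e.apply_symm_apply] at h3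
      exact h3
    exact e.map_eq_zero_iff.mp h2

/-- peeling a plane spanned by `f, y f` when `y` satisfies a quadratic relation -/
theorem quad_split (y : Module.End F V) (s t : F) (hrel : ∀ u, y (y u) = s • y u + t • u)
    (ht : t ≠ 0) (f : V) (hli : LinearIndependent F ![f, y f]) :
    ∃ (P C : Submodule F V) (hPC : IsCompl P C) (hP : ∀ x ∈ P, y x ∈ P)
      (hC : ∀ x ∈ C, y x ∈ C) (a b : P), finrank F P = 2 ∧ LinearIndependent F ![a, b] ∧
      y.restrict hP a = (0 : F) • a + (1 : F) • b ∧ y.restrict hP b = t • a + s • b ∧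
      (a : V) = f := by
  obtain ⟨P, hPdef⟩ : ∃ P : Submodule F V, P = Submodule.span F (Set.range ![f, y f]) :=
    ⟨_, rfl⟩
  have hfP : finrank F P = 2 := by
    rw [hPdef, finrank_span_eq_card hli, Fintype.card_fin]
  have hfmem : f ∈ P := by
    rw [hPdef]
    exact Submodule.subset_span ⟨0, rfl⟩
  have hyfmem : y f ∈ P := by
    rw [hPdef]
    exact Submodule.subset_span ⟨1, rfl⟩
  have memP : ∀ x, x ∈ P → ∃ l₁ l₂ : F, l₁ • f + l₂ • y f = x := by
    intro x hx
    rw [hPdef] at hx
    obtain ⟨c, hc⟩ := (Submodule.mem_span_range_iff_exists_fun F).mp hx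
    rw [Fin.sum_univ_two] at hc
    exact ⟨c 0, c 1, hc⟩
  have hpair := LinearIndependent.pair_iff.mp hli
  obtain ⟨a, ha⟩ : ∃ a : P, (a : V) = f := ⟨⟨f, hfmem⟩, rfl⟩
  obtain ⟨b, hb⟩ : ∃ b : P, (b : V) = y f := ⟨⟨y f, hyfmem⟩, rfl⟩
  have hli' : LinearIndependent F ![a, b] := by
    rw [LinearIndependent.pair_iff]
    intro l₁ l₂ h
    apply hpair l₁ l₂
    have h1 := congrArg Subtype.val h
    rw [Submodule.coe_add, Submodule.coe_smul, Submodule.coe_smul, ha, hb] at h1
    exact h1
  obtain ⟨c0, c1, h0a, h0b, h1a, h1b, -⟩ := plane_coords a b hli' hfP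
  obtain ⟨φ, hφ⟩ := LinearMap.exists_extend c0
  have hφf : φ f = 1 := by
    have h1 := LinearMap.congr_fun hφ a
    rw [LinearMap.comp_apply, Submodule.subtype_apply, ha, h0a] at h1
    exact h1
  have hφyf : φ (y f) = 0 := by
    have h1 := LinearMap.congr_fun hφ b
    rw [LinearMap.comp_apply, Submodule.subtype_apply, hb, h0b] at h1
    exact h1
  obtain ⟨C, hCdef⟩ : ∃ C : Submodule F V, C = LinearMap.ker φ ⊓ LinearMap.ker (φ ∘ₗ y) :=
    ⟨_, rfl⟩
  have memC : ∀ x, x ∈ C ↔ φ x = 0 ∧ φ (y x) = 0 := by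
    intro x
    rw [hCdef, Submodule.mem_inf, LinearMap.mem_ker, LinearMap.mem_ker, LinearMap.comp_apply]
  have hP : ∀ x ∈ P, y x ∈ P := by
    intro x hx
    obtain ⟨l₁, l₂, rfl⟩ := memP x hx
    rw [map_add, map_smul, map_smul, hrel]
    exact P.add_mem (P.smul_mem _ hyfmem)
      (P.smul_mem _ (P.add_mem (P.smul_mem _ hyfmem) (P.smul_mem _ hfmem)))
  have hC : ∀ x ∈ C, y x ∈ C := by
    intro x hx
    rw [memC] at hx ⊢
    refine ⟨hx.2, ?_⟩
    rw [hrel, map_add, map_smul, map_smul, hx.1, hx.2, smul_zero, smul_zero, add_zero]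
  have hdisj : Disjoint P C := by
    rw [Submodule.disjoint_def]
    intro x hxP hxC
    obtain ⟨l₁, l₂, rfl⟩ := memP x hxP
    rw [memC] at hxC
    obtain ⟨e1, e2⟩ := hxC
    rw [map_add, map_smul, map_smul, hφf, hφyf, smul_eq_mul, smul_eq_mul, mul_one, mul_zero,
      add_zero] at e1
    rw [map_add, map_smul, map_smul, hrel, map_add, map_smul, map_smul, map_add, map_smul,
      map_smul, hφf, hφyf, e1] at e2
    simp only [smul_eq_mul, mul_zero, mul_one, zero_mul, zero_add, add_zero] at e2
    have e3 : l₂ = 0 := by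
      rcases mul_eq_zero.mp e2 with h | h
      · exact h
      · exact absurd h ht
    rw [e1, e3, zero_smul, zero_smul, add_zero]
  have hsup : P ⊔ C = ⊤ := by
    rw [Submodule.eq_top_iff']
    intro x
    rw [Submodule.mem_sup]
    refine ⟨φ x • f + (t⁻¹ * φ (y x)) • y f,
      P.add_mem (P.smul_mem _ hfmem) (P.smul_mem _ hyfmem),
      x - (φ x • f + (t⁻¹ * φ (y x)) • y f), ?_, by abel⟩
    rw [memC]
    constructor
    · rw [map_sub, map_add, map_smul, map_smul, hφf, hφyf, smul_eq_mul, smul_eq_mul, mul_one,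
        mul_zero, add_zero, sub_self]
    · rw [map_sub, map_add, map_smul, map_smul, hrel, map_sub, map_add, map_smul, map_smul,
        map_add, map_smul, map_smul, hφf, hφyf]
      simp only [smul_eq_mul, mul_zero, mul_one, add_zero, zero_add]
      field_simp
      ring
  have hPC : IsCompl P C := ⟨hdisj, codisjoint_iff.mpr hsup⟩
  refine ⟨P, C, hPC, hP, hC, a, b, hfP, hli', ?_, ?_, ha⟩
  · apply Subtype.ext
    rw [LinearMap.restrict_coe_apply, ha, Submodule.coe_add, Submodule.coe_smul,
      Submodule.coe_smul, hb, zero_smul, one_smul, zero_add]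
  · apply Subtype.ext
    rw [LinearMap.restrict_coe_apply, hb, hrel, Submodule.coe_add, Submodule.coe_smul,
      Submodule.coe_smul, ha, hb, add_comm]

end Tools

end Cfsg.Agent.Lib.Helper2.SpInv
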