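import Mathlib
import Cfsg.Agent.Lib.Helper2.SpInvA
set_option autoImplicit false
set_option maxHeartbeats 1000000
set_option linter.unusedVariables false
set_option linter.unusedSectionVars false
set_option linter.style.longLine false
set_option linter.unusedSimpArgs false
set_option linter.deprecated false
set_option linter.style.haveILetI false

/-! Involutions of `PSL_n(q)` and symplectic-type subgroups (part B): similitude forms for
elements with scalar square, and centralizing elements of prescribed determinant. -/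

namespace Cfsg.Agent.Lib.Helper2.SpInv

open Module Cfsg.Agent.Lib.Helper2 Cfsg.Agent.Lib.Helper2.SpImp Cfsg.Agent.Lib.Helper2.SpTi
  Cfsg.Agent.Lib.Helper2.SpSl Cfsg.Agent.Lib.Helper5.SympBridge

universe u v

section Forms

variable {F : Type u} [Field F]

theorem li_of_not_eigen {V : Type v} [AddCommGroup V] [Module F V] (y : Module.End F V) (w : F)
    (hrel : ∀ u, y (y u) = (w + w) • y u + (-(w * w)) • u) (f : V) (hf : y f ≠ w • f) :
    LinearIndependent F ![f, y f] := by
  rw [LinearIndependent.pair_iff]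
  intro l₁ l₂ h
  by_cases h2 : l₂ = 0
  · rw [h2, zero_smul, add_zero] at h
    rcases smul_eq_zero.mp h with h3 | h3
    · exact ⟨h3, h2⟩
    · exfalso
      apply hf
      rw [h3, map_zero, smul_zero]
  · exfalso
    obtain ⟨μ, hμ⟩ : ∃ μ : F, μ = -(l₂⁻¹ * l₁) := ⟨_, rfl⟩
    have h3 : y f = μ • f := by
      have h0 : l₂ • y f = -(l₁ • f) := by
        rw [eq_neg_iff_add_eq_zero, add_comm]
        exact h
      calc y f = l₂⁻¹ • (l₂ • y f) := by rw [smul_smul, inv_mul_cancel₀ h2, one_smul]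
        _ = μ • f := by rw [h0, smul_neg, smul_smul, hμ, neg_smul]
    have h4 := hrel f
    rw [h3, map_smul, h3, smul_smul, smul_smul, ← add_smul, ← sub_eq_zero, ← sub_smul] at h4
    rcases smul_eq_zero.mp h4 with h5 | h5
    · have h6 : (μ - w) * (μ - w) = 0 := by linear_combination h5
      have h7 : μ = w := sub_eq_zero.mp (mul_self_eq_zero.mp h6)
      apply hf
      rw [h3, h7]
    · apply hf
      rw [h5, map_zero, smul_zero]

/-- unipotent-type elements (up to a scalar): `y² = 2wy - w²` -/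
theorem form_quad_A (w : F) (hw : w ≠ 0) : ∀ (k : ℕ) (V : Type v) [AddCommGroup V] [Module F V]
    [FiniteDimensional F V] (y : Module.End F V), finrank F V = 2 * k →
    (∀ u, y (y u) = (w + w) • y u + (-(w * w)) • u) →
    ∃ B' : LinearMap.BilinForm F V, B'.IsAlt ∧ B'.Nondegenerate ∧ IsSim B' y (w * w) := by
  intro k
  induction k with
  | zero =>
    intro V _ _ _ y hfin hrel
    obtain ⟨β, h1, h2⟩ := exists_alt_nd 0 hfin
    haveI : Subsingleton V := Module.finrank_zero_iff.mp (by rw [hfin])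
    refine ⟨β, h1, h2, fun u v => ?_⟩
    rw [Subsingleton.elim u 0]
    simp
  | succ k ih =>
    intro V _ _ _ y hfin hrel
    by_cases hs : ∀ u, y u = w • u
    · obtain ⟨β, h1, h2⟩ := exists_alt_nd (k + 1) hfin
      refine ⟨β, h1, h2, fun u v => ?_⟩
      rw [hs, hs, map_smul, map_smul, LinearMap.smul_apply, smul_eq_mul, smul_eq_mul, mul_assoc]
    · push Not at hs
      obtain ⟨f, hf⟩ := hs
      have hli := li_of_not_eigen y w hrel f hf
      obtain ⟨P, C, hPC, hP, hC, a, b, hfP, hli', hTa, hTb, -⟩ :=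
        quad_split y (w + w) (-(w * w)) hrel (neg_ne_zero.mpr (mul_ne_zero hw hw)) f hli
      have hfC : finrank F C = 2 * k := by
        have := Submodule.finrank_add_eq_of_isCompl hPC
        omega
      obtain ⟨βC, hC1, hC2, hC3⟩ := ih C (y.restrict hC) hfC (by
        intro u
        apply Subtype.ext
        rw [LinearMap.restrict_coe_apply, LinearMap.restrict_coe_apply, hrel, Submodule.coe_add,
          Submodule.coe_smul, Submodule.coe_smul, LinearMap.restrict_coe_apply])
      obtain ⟨βP, hP1, hP2, hP3⟩ :=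
        plane_form a b hli' hfP (y.restrict hP) 0 1 (-(w * w)) (w + w) hTa hTb
      have hd : (0 : F) * (w + w) - 1 * (-(w * w)) = w * w := by ring
      rw [hd] at hP3
      exact glue_form hPC y (w * w) hP hC βP hP1 hP2 hP3 βC hC1 hC2 hC3

/-- elements with non-square scalar square: `y² = z`, no eigenvectors -/
theorem form_quad_C (z : F) (hz : z ≠ 0) : ∀ (k : ℕ) (V : Type v) [AddCommGroup V] [Module F V]
    [FiniteDimensional F V] (y : Module.End F V), finrank F V = 2 * k →
    (∀ u, y (y u) = (0 : F) • y u + z • u) →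
    (∀ u, u ≠ 0 → LinearIndependent F ![u, y u]) →
    ∃ B' : LinearMap.BilinForm F V, B'.IsAlt ∧ B'.Nondegenerate ∧ IsSim B' y (-z) := by
  intro k
  induction k with
  | zero =>
    intro V _ _ _ y hfin hrel hne
    obtain ⟨β, h1, h2⟩ := exists_alt_nd 0 hfin
    haveI : Subsingleton V := Module.finrank_zero_iff.mp (by rw [hfin])
    refine ⟨β, h1, h2, fun u v => ?_⟩
    rw [Subsingleton.elim u 0]
    simp
  | succ k ih =>
    intro V _ _ _ y hfin hrel hne
    haveI : Nontrivial V := Module.nontrivial_of_finrank_pos (R := F) (by omega)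
    obtain ⟨f, hf⟩ := exists_ne (0 : V)
    obtain ⟨P, C, hPC, hP, hC, a, b, hfP, hli', hTa, hTb, -⟩ :=
      quad_split y 0 z hrel hz f (hne f hf)
    have hfC : finrank F C = 2 * k := by
      have := Submodule.finrank_add_eq_of_isCompl hPC
      omega
    obtain ⟨βC, hC1, hC2, hC3⟩ := ih C (y.restrict hC) hfC (by
      intro u
      apply Subtype.ext
      rw [LinearMap.restrict_coe_apply, LinearMap.restrict_coe_apply, hrel, Submodule.coe_add,
        Submodule.coe_smul, Submodule.coe_smul, LinearMap.restrict_coe_apply]) (by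
      intro u hu
      have hu' : (u : V) ≠ 0 := fun h => hu (Subtype.ext h)
      have h1 := LinearIndependent.pair_iff.mp (hne (u : V) hu')
      rw [LinearIndependent.pair_iff]
      intro l₁ l₂ h
      apply h1 l₁ l₂
      have h2 := congrArg Subtype.val h
      rw [Submodule.coe_add, Submodule.coe_smul, Submodule.coe_smul,
        LinearMap.restrict_coe_apply] at h2
      exact h2)
    obtain ⟨βP, hP1, hP2, hP3⟩ := plane_form a b hli' hfP (y.restrict hP) 0 1 z 0 hTa hTb
    have hd : (0 : F) * 0 - 1 * z = -z := by ring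
    rw [hd] at hP3
    exact glue_form hPC y (-z) hP hC βP hP1 hP2 hP3 βC hC1 hC2 hC3

/-- the eigenspace decomposition of an element with `y² = w²` -/
theorem split_data {V : Type v} [AddCommGroup V] [Module F V] [FiniteDimensional F V]
    (y : Module.End F V) (w : F) (hw : w ≠ 0) (h2 : (2 : F) ≠ 0)
    (hy : ∀ u, y (y u) = (w * w) • u) :
    ∃ (hP : ∀ x ∈ LinearMap.ker (y - w • 1), y x ∈ LinearMap.ker (y - w • 1))
      (hC : ∀ x ∈ LinearMap.ker (y + w • 1), y x ∈ LinearMap.ker (y + w • 1))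
      (hPC : IsCompl (LinearMap.ker (y - w • 1)) (LinearMap.ker (y + w • 1))),
      (∀ x : LinearMap.ker (y - w • 1), y.restrict hP x = w • x) ∧
      (∀ x : LinearMap.ker (y + w • 1), y.restrict hC x = (-w) • x) := by
  obtain ⟨P, hPdef⟩ : ∃ P : Submodule F V, P = LinearMap.ker (y - w • 1) := ⟨_, rfl⟩
  obtain ⟨C, hCdef⟩ : ∃ C : Submodule F V, C = LinearMap.ker (y + w • 1) := ⟨_, rfl⟩
  rw [← hPdef, ← hCdef]
  have memP : ∀ x, x ∈ P ↔ y x = w • x := by
    intro x
    rw [hPdef, LinearMap.mem_ker, LinearMap.sub_apply, LinearMap.smul_apply,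
      Module.End.one_apply, sub_eq_zero]
  have memC : ∀ x, x ∈ C ↔ y x = -(w • x) := by
    intro x
    rw [hCdef, LinearMap.mem_ker, LinearMap.add_apply, LinearMap.smul_apply,
      Module.End.one_apply, add_eq_zero_iff_eq_neg]
  have hP : ∀ x ∈ P, y x ∈ P := by
    intro x hx
    rw [memP] at hx ⊢
    rw [hx, map_smul, hx]
  have hC : ∀ x ∈ C, y x ∈ C := by
    intro x hx
    rw [memC] at hx ⊢
    rw [hx, map_neg, map_smul, hx, smul_neg]
  have h2w : (2 : F) * w ≠ 0 := mul_ne_zero h2 hw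
  have hdisj : Disjoint P C := by
    rw [Submodule.disjoint_def]
    intro x hxP hxC
    rw [memP] at hxP
    rw [memC] at hxC
    have h3 : (2 * w) • x = 0 := by
      rw [two_mul, add_smul]
      nth_rewrite 1 [← hxP]
      rw [hxC, neg_add_cancel]
    exact (smul_eq_zero.mp h3).resolve_left h2w
  have hsup : P ⊔ C = ⊤ := by
    rw [Submodule.eq_top_iff']
    intro x
    rw [Submodule.mem_sup]
    refine ⟨(2 * w)⁻¹ • (y x + w • x), ?_, (2 * w)⁻¹ • (w • x - y x), ?_, ?_⟩
    · rw [memP, map_smul, map_add, map_smul, hy]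
      module
    · rw [memC, map_smul, map_sub, map_smul, hy]
      module
    · have h3 : (2 * w)⁻¹ • (y x + w • x) + (2 * w)⁻¹ • (w • x - y x) =
          ((2 * w)⁻¹ * (2 * w)) • x := by module
      rw [h3, inv_mul_cancel₀ h2w, one_smul]
  have hPC : IsCompl P C := ⟨hdisj, codisjoint_iff.mpr hsup⟩
  refine ⟨hP, hC, hPC, ?_, ?_⟩
  · intro x
    apply Subtype.ext
    rw [LinearMap.restrict_coe_apply, Submodule.coe_smul]
    exact (memP _).mp x.2
  · intro x
    apply Subtype.ext
    rw [LinearMap.restrict_coe_apply, Submodule.coe_smul, neg_smul]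
    exact (memC _).mp x.2

/-- elements `w • ι` with `ι` an involution whose eigenspaces are even-dimensional -/
theorem form_split {V : Type v} [AddCommGroup V] [Module F V] [FiniteDimensional F V]
    (y : Module.End F V) (w : F) (hw : w ≠ 0) (h2 : (2 : F) ≠ 0)
    (hy : ∀ u, y (y u) = (w * w) • u) (k₁ k₂ : ℕ)
    (h₁ : finrank F (LinearMap.ker (y - w • 1)) = 2 * k₁)
    (h₂ : finrank F (LinearMap.ker (y + w • 1)) = 2 * k₂) :
    ∃ B' : LinearMap.BilinForm F V, B'.IsAlt ∧ B'.Nondegenerate ∧ IsSim B' y (w * w) := by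
  obtain ⟨hP, hC, hPC, hrP, hrC⟩ := split_data y w hw h2 hy
  obtain ⟨βP, hP1, hP2⟩ := exists_alt_nd (F := F) (W := LinearMap.ker (y - w • 1)) k₁ h₁
  obtain ⟨βC, hC1, hC2⟩ := exists_alt_nd (F := F) (W := LinearMap.ker (y + w • 1)) k₂ h₂
  have hP3 : IsSim βP (y.restrict hP) (w * w) := by
    intro u v
    rw [hrP, hrP, map_smul, map_smul, LinearMap.smul_apply, smul_eq_mul, smul_eq_mul, mul_assoc]
  have hC3 : IsSim βC (y.restrict hC) (w * w) := by
    intro u v
    rw [hrC, hrC, map_smul, map_smul, LinearMap.smul_apply, smul_eq_mul, smul_eq_mul,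
      ← mul_assoc, neg_mul_neg]
  exact glue_form hPC y (w * w) hP hC βP hP1 hP2 hP3 βC hC1 hC2 hC3

end Forms

section Cent

variable {F : Type u} [Field F] {V : Type v} [AddCommGroup V] [Module F V] [FiniteDimensional F V]

theorem cent_quad_A (y : Module.End F V) (w : F) (hw : w ≠ 0)
    (hrel : ∀ u, y (y u) = (w + w) • y u + (-(w * w)) • u) (f : V) (hf : y f ≠ w • f)
    (hsq : ∀ δ : F, ∃ ε : F, ε * ε = δ) (δ : F) :
    ∃ h : Module.End F V, h * y = y * h ∧ LinearMap.det h = δ := by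
  have hli := li_of_not_eigen y w hrel f hf
  obtain ⟨P, C, hPC, hP, hC, a, b, hfP, hli', hTa, hTb, -⟩ :=
    quad_split y (w + w) (-(w * w)) hrel (neg_ne_zero.mpr (mul_ne_zero hw hw)) f hli
  obtain ⟨ε, hε⟩ := hsq δ
  obtain ⟨h, h1, h2⟩ := exists_cent hPC y hP hC (ε • (1 : Module.End F P)) (by
    rw [smul_mul_assoc, one_mul, mul_smul_comm, mul_one])
  refine ⟨h, h1, ?_⟩
  rw [h2, LinearMap.det_smul, hfP, map_one, mul_one, pow_two, hε]

theorem cent_quad_C (y : Module.End F V) (z : F) (hz : z ≠ 0)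
    (hrel : ∀ u, y (y u) = (0 : F) • y u + z • u) (f : V) (hli : LinearIndependent F ![f, y f])
    (δ : F) (hnorm : ∃ a' b' : F, a' * a' - z * (b' * b') = δ) :
    ∃ h : Module.End F V, h * y = y * h ∧ LinearMap.det h = δ := by
  obtain ⟨P, C, hPC, hP, hC, a, b, hfP, hli', hTa, hTb, -⟩ := quad_split y 0 z hrel hz f hli
  obtain ⟨a', b', hab⟩ := hnorm
  obtain ⟨hh, hhdef⟩ : ∃ hh : Module.End F P,
      hh = a' • (1 : Module.End F P) + b' • y.restrict hP := ⟨_, rfl⟩
  have hha : hh a = a' • a + b' • b := by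
    rw [hhdef, LinearMap.add_apply, LinearMap.smul_apply, LinearMap.smul_apply,
      Module.End.one_apply, hTa, zero_smul, one_smul, zero_add]
  have hhb : hh b = (b' * z) • a + a' • b := by
    rw [hhdef, LinearMap.add_apply, LinearMap.smul_apply, LinearMap.smul_apply,
      Module.End.one_apply, hTb, zero_smul, add_zero, smul_smul, add_comm]
  obtain ⟨h, h1, h2⟩ := exists_cent hPC y hP hC hh (by
    rw [hhdef, add_mul, mul_add, smul_mul_assoc, one_mul, mul_smul_comm, mul_one,
      smul_mul_assoc, mul_smul_comm])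
  refine ⟨h, h1, ?_⟩
  rw [h2, det_plane a b hli' hfP hh a' b' (b' * z) a' hha hhb, ← hab]
  ring

theorem cent_line (y : Module.End F V) (hss : y.IsSemisimple) (u : V) (hu : u ≠ 0) (μ : F)
    (hyu : y u = μ • u) (δ : F) :
    ∃ h : Module.End F V, h * y = y * h ∧ LinearMap.det h = δ := by
  obtain ⟨L, hLdef⟩ : ∃ L : Submodule F V, L = Submodule.span F {u} := ⟨_, rfl⟩
  have hL : ∀ x ∈ L, y x ∈ L := by
    intro x hx
    rw [hLdef] at hx ⊢
    obtain ⟨c, rfl⟩ := Submodule.mem_span_singleton.mp hx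
    rw [map_smul, hyu, smul_smul]
    exact Submodule.mem_span_singleton.mpr ⟨c * μ, rfl⟩
  obtain ⟨C, hC, -, hdisj, hsup⟩ := Imp.exists_rel_compl hss (D := L) (W := ⊤) hL
    (fun x _ => Submodule.mem_top) le_top
  have hLC : IsCompl L C := ⟨hdisj, codisjoint_iff.mpr hsup⟩
  have hfL : finrank F L = 1 := by
    rw [hLdef]
    exact finrank_span_singleton hu
  obtain ⟨h, h1, h2⟩ := exists_cent hLC y hL hC (δ • (1 : Module.End F L)) (by
    rw [smul_mul_assoc, one_mul, mul_smul_comm, mul_one])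
  refine ⟨h, h1, ?_⟩
  rw [h2, LinearMap.det_smul, hfL, map_one, mul_one, pow_one]

theorem exists_norm [Fintype F] (hodd : Fintype.card F % 2 = 1) (z : F) (hz : z ≠ 0) (δ : F) :
    ∃ a' b' : F, a' * a' - z * (b' * b') = δ := by
  classical
  obtain ⟨a', b', h⟩ := FiniteField.exists_root_sum_quadratic
    (f := (Polynomial.X : Polynomial F) ^ 2)
    (g := Polynomial.C (-z) * Polynomial.X ^ 2 + Polynomial.C 0 * Polynomial.X +
      Polynomial.C (-δ))
    (Polynomial.degree_X_pow 2) (Polynomial.degree_quadratic (neg_ne_zero.mpr hz)) hodd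
  refine ⟨a', b', ?_⟩
  simp only [Polynomial.eval_pow, Polynomial.eval_X, Polynomial.eval_add, Polynomial.eval_mul,
    Polynomial.eval_C] at h
  linear_combination h

/-- from a similitude form for `y` and centralizing elements of all determinants to a conjugate
of `y` by an element of determinant one which is a similitude of the given form -/
theorem assemble (B B' : LinearMap.BilinForm F V) (hA : B.IsAlt) (hB : B.Nondegenerate)
    (hA' : B'.IsAlt) (hB' : B'.Nondegenerate) (m : ℕ) (hm : 0 < m) (hfin : finrank F V = 2 * m)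
    (y : Module.End F V) (d : F) (hsim : IsSim B' y d)
    (hcent : ∀ δ : F, δ ≠ 0 → ∃ h : Module.End F V, h * y = y * h ∧ LinearMap.det h = δ) :
    ∃ g : V ≃ₗ[F] V, LinearMap.det (g : V →ₗ[F] V) = 1 ∧
      IsSim B (LinearEquiv.conjAlgEquiv F g y) d := by
  obtain ⟨Φ, hΦ⟩ := exists_std_iso B hA hB m hm hfin
  obtain ⟨Φ', hΦ'⟩ := exists_std_iso B' hA' hB' m hm hfin
  obtain ⟨Ψ, hΨ⟩ : ∃ Ψ : V ≃ₗ[F] V, Ψ = Φ'.trans Φ.symm := ⟨_, rfl⟩
  have hΨB : ∀ u v, B (Ψ u) (Ψ v) = B' u v := by
    intro u v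
    rw [← hΦ, hΨ, LinearEquiv.trans_apply, LinearEquiv.trans_apply,
      LinearEquiv.apply_symm_apply, LinearEquiv.apply_symm_apply, hΦ']
  have hδ : LinearMap.det (Ψ : V →ₗ[F] V) ≠ 0 := (LinearEquiv.isUnit_det' Ψ).ne_zero
  obtain ⟨h, hcomm, hdet⟩ := hcent (LinearMap.det (Ψ : V →ₗ[F] V))⁻¹ (inv_ne_zero hδ)
  have hdet0 : LinearMap.det h ≠ 0 := by
    rw [hdet]
    exact inv_ne_zero hδ
  obtain ⟨hE, hhE⟩ : ∃ hE : V ≃ₗ[F] V, ∀ v, hE v = h v :=
    ⟨LinearMap.equivOfDetNeZero h hdet0, fun v => rfl⟩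
  refine ⟨hE.trans Ψ, ?_, ?_⟩
  · have h1 : ((hE.trans Ψ : V ≃ₗ[F] V) : V →ₗ[F] V) = (Ψ : V →ₗ[F] V) ∘ₗ h := by
      apply LinearMap.ext
      intro v
      show Ψ (hE v) = Ψ (h v)
      rw [hhE]
    rw [h1, LinearMap.det_comp, hdet, mul_inv_cancel₀ hδ]
  · intro u v
    have h2 : ∀ x, (LinearEquiv.conjAlgEquiv F (hE.trans Ψ) y) x = Ψ (y (Ψ.symm x)) := by
      intro x
      rw [LinearEquiv.conjAlgEquiv_apply]
      show Ψ (hE (y (hE.symm (Ψ.symm x)))) = _
      congr 1
      rw [hhE]
      have h3 := LinearMap.congr_fun hcomm (hE.symm (Ψ.symm x))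
      rw [Module.End.mul_apply, Module.End.mul_apply, ← hhE (hE.symm _),
        hE.apply_symm_apply] at h3
      exact h3
    rw [h2, h2, hΨB, hsim _ _, ← hΨB, Ψ.apply_symm_apply, Ψ.apply_symm_apply]

end Cent

end Cfsg.Agent.Lib.Helper2.SpInv
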