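import Mathlib
import Cfsg.Agent.Lib.Helper2.SpInvB
set_option autoImplicit false
set_option maxHeartbeats 1000000
set_option linter.unusedVariables false
set_option linter.unusedSectionVars false
set_option linter.style.longLine false
set_option linter.unusedSimpArgs false
set_option linter.deprecated false
set_option linter.style.haveILetI false

/-! Involutions of `PSL_n(q)` and symplectic-type subgroups (part C): arithmetic, the
derangement, the conjugation of all involutions, and the bridge back to matrices. -/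

namespace Cfsg.Agent.Lib.Helper2.SpInv

open Module Cfsg.Agent.Lib.Helper2 Cfsg.Agent.Lib.Helper2.SpImp Cfsg.Agent.Lib.Helper2.SpTi
  Cfsg.Agent.Lib.Helper2.SpSl Cfsg.Agent.Lib.Helper5.SympBridge

universe u v

section Arith

theorem odd_cofactor (n n' : ℕ) (hn : n ≠ 0) (h : n = 2 ^ padicValNat 2 n * n') : Odd n' := by
  rw [← Nat.not_even_iff_odd]
  intro hev
  obtain ⟨t, ht⟩ := hev
  have h1 : 2 ^ (padicValNat 2 n + 1) ∣ n := ⟨t, by
    conv_lhs => rw [h]
    rw [ht, pow_succ]
    ring⟩
  have h2 := (padicValNat_dvd_iff_le (p := 2) hn).mp h1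
  omega

variable {F : Type u} [Field F] [Fintype F]

theorem exists_root_neg_one (n : ℕ) (hn : 0 < n)
    (hv : padicValNat 2 n < padicValNat 2 (Fintype.card F - 1)) : ∃ w : F, w ^ n = -1 := by
  classical
  obtain ⟨g, hg, -⟩ := Elus.exists_gen (F := F)
  obtain ⟨a, ha⟩ : ∃ a, a = padicValNat 2 n := ⟨_, rfl⟩
  have hq1 : Fintype.card F - 1 ≠ 0 := by
    have := Fintype.one_lt_card (α := F)
    omega
  have hdvd : 2 ^ (a + 1) ∣ Fintype.card F - 1 := by
    have h1 : 2 ^ padicValNat 2 (Fintype.card F - 1) ∣ Fintype.card F - 1 := pow_padicValNat_dvd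
    exact dvd_trans (pow_dvd_pow 2 (by omega)) h1
  obtain ⟨e, he⟩ := hdvd
  have hn2 : 2 ^ a ∣ n := by
    rw [ha]
    exact pow_padicValNat_dvd
  obtain ⟨n', hn'⟩ := hn2
  have hn'odd : Odd n' := odd_cofactor n n' hn.ne' (by rw [← ha]; exact hn')
  have he0 : e ≠ 0 := by
    rintro rfl
    rw [mul_zero] at he
    exact hq1 he
  obtain ⟨u, hu⟩ : ∃ u : Fˣ, u = g ^ e := ⟨_, rfl⟩
  obtain ⟨ν, hν⟩ : ∃ ν : F, ν = ((u ^ (2 ^ a) : Fˣ) : F) := ⟨_, rfl⟩
  have hνsq : ν * ν = 1 := by
    rw [hν, ← Units.val_mul, ← pow_add, hu, ← pow_mul]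
    have h1 : e * (2 ^ a + 2 ^ a) = Fintype.card F - 1 := by
      rw [he, pow_succ]
      ring
    rw [h1, ← hg, pow_orderOf_eq_one, Units.val_one]
  have hν1 : ν ≠ 1 := by
    intro h
    rw [hν, Units.val_eq_one, hu, ← pow_mul, ← orderOf_dvd_iff_pow_eq_one, hg, he] at h
    have h1 := Nat.le_of_dvd (Nat.mul_pos (Nat.pos_of_ne_zero he0) (pow_pos two_pos a)) h
    rw [pow_succ] at h1
    have h2 : 0 < e * 2 ^ a := Nat.mul_pos (Nat.pos_of_ne_zero he0) (pow_pos two_pos a)
    nlinarith
  have hνm : ν = -1 := by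
    rcases mul_self_eq_one_iff.mp hνsq with h | h
    · exact absurd h hν1
    · exact h
  refine ⟨(u : F), ?_⟩
  rw [hn', pow_mul, ← Units.val_pow_eq_pow_val, ← hν, hνm, hn'odd.neg_one_pow]

theorem no_root_neg_one (h2 : (2 : F) ≠ 0) (n : ℕ) (hn : 0 < n)
    (hv : padicValNat 2 (Fintype.card F - 1) ≤ padicValNat 2 n) (w : F) (hw : w ≠ 0) :
    w ^ n ≠ -1 := by
  intro h
  have hq1 : Fintype.card F - 1 ≠ 0 := by
    have := Fintype.one_lt_card (α := F)
    omega
  have h1 : 2 ^ padicValNat 2 (Fintype.card F - 1) ∣ Fintype.card F - 1 := pow_padicValNat_dvd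
  obtain ⟨m', hm'⟩ := h1
  have hm'odd : Odd m' := odd_cofactor _ m' hq1 hm'
  have h2n : 2 ^ padicValNat 2 (Fintype.card F - 1) ∣ n :=
    dvd_trans (pow_dvd_pow 2 hv) pow_padicValNat_dvd
  obtain ⟨n', hn'⟩ := h2n
  have h3 : (w ^ n) ^ m' = 1 := by
    have e1 : n * m' = (Fintype.card F - 1) * n' := by
      conv_rhs => rw [hm']
      conv_lhs => rw [hn']
      ring
    rw [← pow_mul, e1, pow_mul, FiniteField.pow_card_sub_one_eq_one w hw, one_pow]
  rw [h, hm'odd.neg_one_pow] at h3
  apply h2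
  linear_combination (-1 : F) * h3

theorem two_ne_zero_of_char {p : ℕ} [hp : Fact p.Prime] [CharP F p] (hp2 : p ≠ 2) :
    (2 : F) ≠ 0 := by
  intro h
  have h' : ((2 : ℕ) : F) = 0 := by exact_mod_cast h
  rw [CharP.cast_eq_zero_iff F p 2] at h'
  exact hp2 ((Nat.prime_dvd_prime_iff_eq hp.out Nat.prime_two).mp h')

theorem card_odd_of_char {p : ℕ} [hp : Fact p.Prime] [CharP F p] (hp2 : p ≠ 2) :
    Fintype.card F % 2 = 1 := by
  obtain ⟨k, -, hk⟩ := FiniteField.card F p
  rw [hk]
  rcases hp.out.eq_two_or_odd' with h | h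
  · exact absurd h hp2
  · exact Nat.odd_iff.mp (h.pow)

theorem char_ne_two_of_dvd {p : ℕ} [hp : Fact p.Prime] [CharP F p]
    (h : 2 ∣ Fintype.card F - 1) : p ≠ 2 := by
  rintro rfl
  obtain ⟨k, -, hk⟩ := FiniteField.card F 2
  have h1 : 2 ∣ Fintype.card F := by
    rw [hk]
    exact dvd_pow_self 2 k.pos.ne'
  have := Fintype.card_pos (α := F)
  omega

end Arith

section Derange

variable {F : Type u} [Field F] [Fintype F]

/-- when `(q - 1)_2 > (n)_2` there is an involution of `PSL_n(q)` not conjugate into the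
symplectic-type subgroup -/
theorem exists_invol_derangement {p : ℕ} [hp : Fact p.Prime] [CharP F p] (n : ℕ) (hn : 4 ≤ n)
    (f : (Fin n → F) → (Fin n → F) → F) (hf : Cfsg.Geo.IsSymplecticForm f)
    (hv : padicValNat 2 n < padicValNat 2 (Fintype.card F - 1)) :
    ∃ y : Module.End F (Fin n → F), LinearMap.det y = 1 ∧ (∃ z : F, y ^ 2 = z • 1) ∧
      (∀ c' : F, y ≠ c' • 1) ∧
      ∀ (g : (Fin n → F) ≃ₗ[F] (Fin n → F)) (c : F),
        ¬ IsSim (formBilin f hf) (LinearEquiv.conjAlgEquiv F g y) c := by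
  classical
  haveI : Nonempty (Fin n) := ⟨⟨0, by omega⟩⟩
  have hA := formBilin_isAlt f hf
  have hB := formBilin_nondegenerate f hf
  have hp2 : p ≠ 2 := char_ne_two_of_dvd (F := F) (dvd_of_one_le_padicValNat (by omega))
  have h2F : (2 : F) ≠ 0 := two_ne_zero_of_char (F := F) hp2
  obtain ⟨w, hw⟩ := exists_root_neg_one (F := F) n (by omega) hv
  have hw0 : w ≠ 0 := by
    rintro rfl
    rw [zero_pow (by omega)] at hw
    exact one_ne_zero (neg_eq_zero.mp hw.symm)
  have hww : w ≠ -w := by
    intro h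
    have h1 : (2 : F) * w = 0 := by linear_combination h
    rcases mul_eq_zero.mp h1 with h3 | h3
    · exact h2F h3
    · exact hw0 h3
  obtain ⟨i0, hi0⟩ : ∃ i0 : Fin n, i0.val = 0 := ⟨⟨0, by omega⟩, rfl⟩
  obtain ⟨i1, hi1⟩ : ∃ i1 : Fin n, i1.val = 1 := ⟨⟨1, by omega⟩, rfl⟩
  have h01 : i1 ≠ i0 := by
    intro h
    rw [h] at hi1
    omega
  obtain ⟨a, hadef⟩ : ∃ a : Fin n → F, a = fun j => w * (if j = i0 then -1 else 1) := ⟨_, rfl⟩
  have ha0 : a i0 = -w := by rw [hadef]; simp
  have ha1 : ∀ j, j ≠ i0 → a j = w := by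
    intro j hj
    rw [hadef]
    simp [hj]
  obtain ⟨y, hy⟩ : ∃ y : Module.End F (Fin n → F), y = Matrix.toLin' (Matrix.diagonal a) :=
    ⟨_, rfl⟩
  have hdet : LinearMap.det y = 1 := by
    rw [hy, LinearMap.det_toLin', Matrix.det_diagonal, hadef, Finset.prod_mul_distrib,
      Finset.prod_const, Finset.card_univ, Fintype.card_fin, hw,
      Finset.prod_ite_eq' Finset.univ i0 (fun _ => (-1 : F)), if_pos (Finset.mem_univ _)]
    ring
  have hyy : y ^ 2 = (w * w) • 1 := by
    rw [hy, ← Elus.toLin'_pow, Matrix.diagonal_pow, ← Elus.toLin'_smul_one,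
      Matrix.smul_one_eq_diagonal]
    congr 2
    funext j
    rw [Pi.pow_apply, hadef]
    by_cases hj : j = i0
    · simp only [if_pos hj]
      ring
    · simp only [if_neg hj]
      ring
  have hns : ∀ c' : F, y ≠ c' • 1 := by
    intro c' hc
    rw [hy, ← Elus.toLin'_smul_one, Matrix.smul_one_eq_diagonal] at hc
    have h1 := Matrix.diagonal_injective (Matrix.toLin'.injective hc)
    have h2 : a i0 = c' := congrFun h1 i0
    have h3 : a i1 = c' := congrFun h1 i1
    rw [ha0] at h2
    rw [ha1 i1 h01] at h3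
    exact hww (h3.trans h2.symm)
  have hm1 : finrank F (LinearMap.ker (y - (-w) • 1)) = 1 := by
    rw [hy, finrank_ker_diag]
    have h1 : Finset.univ.filter (fun j => a j = -w) = {i0} := by
      ext j
      rw [Finset.mem_filter, Finset.mem_singleton]
      constructor
      · rintro ⟨-, hj⟩
        by_contra hne
        rw [ha1 j hne] at hj
        exact hww hj
      · rintro rfl
        exact ⟨Finset.mem_univ _, ha0⟩
    rw [h1, Finset.card_singleton]
  have hm2 : finrank F (LinearMap.ker (y - w • 1)) = n - 1 := by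
    rw [hy, finrank_ker_diag]
    have h1 : Finset.univ.filter (fun j => a j = w) = Finset.univ.erase i0 := by
      ext j
      rw [Finset.mem_filter, Finset.mem_erase]
      constructor
      · rintro ⟨-, hj⟩
        refine ⟨?_, Finset.mem_univ _⟩
        rintro rfl
        rw [ha0] at hj
        exact hww hj.symm
      · rintro ⟨hne, -⟩
        exact ⟨Finset.mem_univ _, ha1 j hne⟩
    rw [h1, Finset.card_erase_of_mem (Finset.mem_univ _), Finset.card_univ, Fintype.card_fin]
  refine ⟨y, hdet, ⟨w * w, hyy⟩, hns, ?_⟩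
  intro g c hz
  obtain ⟨z, hzdef⟩ : ∃ z : Module.End F (Fin n → F), z = LinearEquiv.conjAlgEquiv F g y :=
    ⟨_, rfl⟩
  rw [← hzdef] at hz
  have hzz : z ^ 2 = (w * w) • 1 := by
    rw [hzdef, ← map_pow, hyy, map_smul, map_one]
  have hmz : ∀ t : F, finrank F (LinearMap.ker (z - t • 1)) =
      finrank F (LinearMap.ker (y - t • 1)) := by
    intro t
    rw [hzdef, ← conj_sub_smul, finrank_ker_conj]
  have hzap : ∀ u, z (z u) = (w * w) • u := by
    intro u
    have h1 := LinearMap.congr_fun hzz u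
    rw [pow_two, Module.End.mul_apply, LinearMap.smul_apply, Module.End.one_apply] at h1
    exact h1
  have hcc : c * c = (w * w) * (w * w) := by
    obtain ⟨u, hu⟩ := exists_ne (0 : Fin n → F)
    have hex : ∃ v, formBilin f hf u v ≠ 0 := by
      by_contra hcon
      push Not at hcon
      exact hu (hB.1 u hcon)
    obtain ⟨v, hv'⟩ := hex
    have h1 := hz (z u) (z v)
    rw [hzap, hzap, hz u v, map_smul, map_smul, LinearMap.smul_apply, smul_eq_mul,
      smul_eq_mul] at h1
    have h2 : ((w * w) * (w * w) - c * c) * formBilin f hf u v = 0 := by linear_combination h1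
    rcases mul_eq_zero.mp h2 with h3 | h3
    · exact (sub_eq_zero.mp h3).symm
    · exact absurd h3 hv'
  have hcase : (c - w * w) * (c + w * w) = 0 := by linear_combination hcc
  rcases mul_eq_zero.mp hcase with hc | hc
  · have hc' : c = w * w := sub_eq_zero.mp hc
    have hσ0 : -w ≠ 0 := neg_ne_zero.mpr hw0
    have hiso : IsIsom (formBilin f hf) ((-w)⁻¹ • z) :=
      sim_scale (formBilin f hf) hz hσ0 (by rw [hc']; ring)
    have hy2 : ((-w)⁻¹ • z) ^ 2 = 1 := by
      rw [smul_pow, hzz, smul_smul]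
      have : (-w)⁻¹ ^ 2 * (w * w) = 1 := by
        field_simp
      rw [this, one_smul]
    have h2N : ((2 : ℕ) : F) ≠ 0 := by exact_mod_cast h2F
    have h1 := nd_fix (formBilin f hf) hA hiso h2N hy2 (nd_top (formBilin f hf) hA hB)
      (fun v _ => Submodule.mem_top)
    have h2 := even_of_nd (formBilin f hf) hA hB _ _ rfl h1
    rw [top_inf_eq] at h2
    have h3 : LinearMap.ker ((-w)⁻¹ • z - 1) = LinearMap.ker (z - (-w) • 1) := by
      have h4 : (-w)⁻¹ • z - (1 : Module.End F (Fin n → F)) = (-w)⁻¹ • (z - (-w) • 1) := by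
        rw [smul_sub, smul_smul, inv_mul_cancel₀ hσ0, one_smul]
      rw [h4]
      exact LinearMap.ker_smul _ _ (inv_ne_zero hσ0)
    rw [h3, hmz, hm1] at h2
    exact absurd h2 (by decide)
  · have hc' : c = -(w * w) := eq_neg_of_add_eq_zero_left hc
    have hTI : TI (formBilin f hf) (LinearMap.ker (z - w • 1)) := by
      intro u hu v hv'
      rw [LinearMap.mem_ker, LinearMap.sub_apply, LinearMap.smul_apply, Module.End.one_apply,
        sub_eq_zero] at hu hv'
      have h1 := hz u v
      rw [hu, hv', map_smul, map_smul, LinearMap.smul_apply, smul_eq_mul, smul_eq_mul, hc'] at h1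
      have h2 : ((2 : F) * (w * w)) * formBilin f hf u v = 0 := by linear_combination h1
      exact (mul_eq_zero.mp h2).resolve_left (mul_ne_zero h2F (mul_ne_zero hw0 hw0))
    have h1 := ti_finrank_le (formBilin f hf) hA hB hTI le_top (nd_top (formBilin f hf) hA hB)
    rw [finrank_top, hmz, hm2, Module.finrank_fin_fun] at h1
    omega

end Derange

section Conj

variable {F : Type u} [Field F] [Fintype F]

/-- when `(q - 1)_2 ≤ (n)_2` every involution of `PSL_n(q)` has a conjugate, by an element of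
determinant one, among the similitudes -/
theorem invol_conj {p : ℕ} [hp : Fact p.Prime] [CharP F p] (n : ℕ) (hn : 4 ≤ n) (he : Even n)
    (f : (Fin n → F) → (Fin n → F) → F) (hf : Cfsg.Geo.IsSymplecticForm f)
    (hv : padicValNat 2 (Fintype.card F - 1) ≤ padicValNat 2 n)
    (y : Module.End F (Fin n → F)) (hdet : LinearMap.det y = 1) (z : F) (hz : y ^ 2 = z • 1)
    (hns : ∀ c' : F, y ≠ c' • 1) :
    ∃ (g : (Fin n → F) ≃ₗ[F] (Fin n → F)) (c : F), LinearMap.det (g : (Fin n → F) →ₗ[F] (Fin n → F)) = 1 ∧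
      c ≠ 0 ∧ IsSim (formBilin f hf) (LinearEquiv.conjAlgEquiv F g y) c := by
  classical
  haveI : Nonempty (Fin n) := ⟨⟨0, by omega⟩⟩
  have hA := formBilin_isAlt f hf
  have hB := formBilin_nondegenerate f hf
  obtain ⟨m, hm⟩ : ∃ m, n = 2 * m := by
    obtain ⟨k, hk⟩ := he
    exact ⟨k, by omega⟩
  have hm0 : 0 < m := by omega
  have hfin : finrank F (Fin n → F) = 2 * m := by rw [Module.finrank_fin_fun, hm]
  have hz0 : z ≠ 0 := by
    rintro rfl
    have h1 := congrArg LinearMap.det hz
    rw [map_pow, hdet, one_pow, zero_smul, LinearMap.det_zero, Module.finrank_fin_fun,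
      zero_pow (by omega)] at h1
    exact one_ne_zero h1
  have hyap : ∀ u, y (y u) = z • u := by
    intro u
    have h1 := LinearMap.congr_fun hz u
    rw [pow_two, Module.End.mul_apply, LinearMap.smul_apply, Module.End.one_apply] at h1
    exact h1
  by_cases hp2 : p = 2
  · subst hp2
    have hchar : ringChar F = 2 := ringChar.eq F 2
    obtain ⟨w, hw⟩ := FiniteField.isSquare_of_char_two hchar z
    have h20 : (2 : F) = 0 := by
      have := CharP.cast_eq_zero F 2
      exact_mod_cast this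
    have hw0 : w ≠ 0 := by
      rintro rfl
      rw [mul_zero] at hw
      exact hz0 hw
    have hrel : ∀ u, y (y u) = (w + w) • y u + (-(w * w)) • u := by
      intro u
      have e1 : w + w = 0 := by rw [← two_mul, h20, zero_mul]
      have e2 : -(w * w) = w * w := by rw [neg_eq_iff_add_eq_zero, ← two_mul, h20, zero_mul]
      rw [e1, e2, zero_smul, zero_add, hyap, hw]
    have hex : ∃ f', y f' ≠ w • f' := by
      by_contra hcon
      push Not at hcon
      exact hns w (LinearMap.ext (fun u => by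
        rw [hcon u, LinearMap.smul_apply, Module.End.one_apply]))
    obtain ⟨f', hf'⟩ := hex
    obtain ⟨B', hA', hB', hsim⟩ := form_quad_A w hw0 m (Fin n → F) y hfin hrel
    have hsq : ∀ δ : F, ∃ ε : F, ε * ε = δ := fun δ => by
      obtain ⟨r, hr⟩ := FiniteField.isSquare_of_char_two hchar δ
      exact ⟨r, hr.symm⟩
    obtain ⟨g, hg1, hg2⟩ := assemble (formBilin f hf) B' hA hB hA' hB' m hm0 hfin y (w * w) hsim
      (fun δ _ => cent_quad_A y w hw0 hrel f' hf' hsq δ)
    exact ⟨g, w * w, hg1, mul_ne_zero hw0 hw0, hg2⟩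
  · have h2F : (2 : F) ≠ 0 := two_ne_zero_of_char (F := F) hp2
    have hodd : Fintype.card F % 2 = 1 := card_odd_of_char (F := F) hp2
    by_cases hsq : ∃ w : F, w * w = z
    · obtain ⟨w, hw⟩ := hsq
      have hw0 : w ≠ 0 := by
        rintro rfl
        rw [mul_zero] at hw
        exact hz0 hw.symm
      have hy' : ∀ u, y (y u) = (w * w) • u := by
        intro u
        rw [hyap, hw]
      obtain ⟨hP, hC, hPC, hrP, hrC⟩ := split_data y w hw0 h2F hy'
      have hdetP : LinearMap.det (y.restrict hP) = w ^ finrank F (LinearMap.ker (y - w • 1)) := by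
        have h1 : y.restrict hP = w • (1 : Module.End F (LinearMap.ker (y - w • 1))) :=
          LinearMap.ext (fun x => by
            rw [hrP, LinearMap.smul_apply, Module.End.one_apply])
        rw [h1, LinearMap.det_smul, map_one, mul_one]
      have hdetC : LinearMap.det (y.restrict hC) =
          (-w) ^ finrank F (LinearMap.ker (y + w • 1)) := by
        have h1 : y.restrict hC = (-w) • (1 : Module.End F (LinearMap.ker (y + w • 1))) :=
          LinearMap.ext (fun x => by
            rw [hrC, LinearMap.smul_apply, Module.End.one_apply])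
        rw [h1, LinearMap.det_smul, map_one, mul_one]
      have hdd := det_isCompl hPC y hP hC
      rw [hdet, hdetP, hdetC] at hdd
      have hsum := Submodule.finrank_add_eq_of_isCompl hPC
      rw [Module.finrank_fin_fun] at hsum
      have hevC : Even (finrank F (LinearMap.ker (y + w • 1))) := by
        rw [← Nat.not_odd_iff_even]
        intro hoddC
        rw [hoddC.neg_pow, mul_neg, ← pow_add, hsum] at hdd
        exact no_root_neg_one (F := F) h2F n (by omega) hv w hw0 (by linear_combination hdd)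
      obtain ⟨k₂, hk₂⟩ := hevC
      obtain ⟨k₁, hk₁⟩ : ∃ k₁, finrank F (LinearMap.ker (y - w • 1)) = 2 * k₁ :=
        ⟨m - k₂, by omega⟩
      obtain ⟨B', hA', hB', hsim⟩ := form_split y w hw0 h2F hy' k₁ k₂ hk₁ (by omega)
      have hex : ∃ v, y v + w • v ≠ 0 := by
        by_contra hcon
        push Not at hcon
        exact hns (-w) (LinearMap.ext (fun u => by
          rw [LinearMap.smul_apply, Module.End.one_apply, neg_smul]
          exact eq_neg_of_add_eq_zero_left (hcon u)))
      obtain ⟨v, hv'⟩ := hex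
      have hyu : y (y v + w • v) = w • (y v + w • v) := by
        rw [map_add, map_smul, hy', smul_add, smul_smul, add_comm]
      have hss : y.IsSemisimple := by
        apply Module.End.isSemisimple_of_squarefree_aeval_eq_zero
          (p := (Polynomial.X : Polynomial F) ^ 2 - Polynomial.C (w * w))
        · exact (Polynomial.separable_X_pow_sub_C (w * w) (by exact_mod_cast h2F)
            (mul_ne_zero hw0 hw0)).squarefree
        · rw [map_sub, map_pow, Polynomial.aeval_X, Polynomial.aeval_C,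
            Algebra.algebraMap_eq_smul_one, hz, hw, sub_self]
      obtain ⟨g, hg1, hg2⟩ := assemble (formBilin f hf) B' hA hB hA' hB' m hm0 hfin y (w * w)
        hsim (fun δ _ => cent_line y hss _ hv' w hyu δ)
      exact ⟨g, w * w, hg1, mul_ne_zero hw0 hw0, hg2⟩
    · push Not at hsq
      have hrel : ∀ u, y (y u) = (0 : F) • y u + z • u := by
        intro u
        rw [zero_smul, zero_add, hyap]
      have hne : ∀ u, u ≠ 0 → LinearIndependent F ![u, y u] := by
        intro u hu
        rw [LinearIndependent.pair_iff]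
        intro l₁ l₂ h
        by_cases h2 : l₂ = 0
        · rw [h2, zero_smul, add_zero] at h
          exact ⟨(smul_eq_zero.mp h).resolve_right hu, h2⟩
        · exfalso
          obtain ⟨μ, hμ⟩ : ∃ μ : F, μ = -(l₂⁻¹ * l₁) := ⟨_, rfl⟩
          have h3 : y u = μ • u := by
            have h0 : l₂ • y u = -(l₁ • u) := by
              rw [eq_neg_iff_add_eq_zero, add_comm]
              exact h
            calc y u = l₂⁻¹ • (l₂ • y u) := by rw [smul_smul, inv_mul_cancel₀ h2, one_smul]
              _ = μ • u := by rw [h0, smul_neg, smul_smul, hμ, neg_smul]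
          have h4 := hyap u
          rw [h3, map_smul, h3, smul_smul, ← sub_eq_zero, ← sub_smul] at h4
          have h5 := (smul_eq_zero.mp h4).resolve_right hu
          exact hsq μ (sub_eq_zero.mp h5)
      obtain ⟨B', hA', hB', hsim⟩ := form_quad_C z hz0 m (Fin n → F) y hfin hrel hne
      obtain ⟨f', hf'⟩ := exists_ne (0 : Fin n → F)
      obtain ⟨g, hg1, hg2⟩ := assemble (formBilin f hf) B' hA hB hA' hB' m hm0 hfin y (-z) hsim
        (fun δ _ => cent_quad_C y z hz0 hrel f' (hne f' hf') δ (exists_norm hodd z hz0 δ))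
      exact ⟨g, -z, hg1, neg_ne_zero.mpr hz0, hg2⟩

end Conj

section Bridge

variable {F : Type u} [Field F] {n : ℕ}

open Matrix in
theorem sl_bridge_rev (f : (Fin n → F) → (Fin n → F) → F) (hf : Cfsg.Geo.IsSymplecticForm f)
    (x : Matrix.SpecialLinearGroup (Fin n) F) (g : (Fin n → F) ≃ₗ[F] (Fin n → F))
    (hg : LinearMap.det (g : (Fin n → F) →ₗ[F] (Fin n → F)) = 1) (c : F) (hc : c ≠ 0)
    (hz : IsSim (formBilin f hf) (LinearEquiv.conjAlgEquiv F g
      (Matrix.toLin' (x : Matrix (Fin n) (Fin n) F))) c) :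
    ∃ P : Matrix.SpecialLinearGroup (Fin n) F, P⁻¹ * x * P ∈ (Cfsg.Geo.similarityGroup f).comap
      (Matrix.SpecialLinearGroup.toGL : Matrix.SpecialLinearGroup (Fin n) F →* GL (Fin n) F) := by
  have hdet' : LinearMap.det (g.symm : (Fin n → F) →ₗ[F] (Fin n → F)) = 1 := by
    have h1 := LinearEquiv.det_mul_det_symm g
    rw [hg, one_mul] at h1
    exact h1
  obtain ⟨P, hPdef⟩ : ∃ P : Matrix.SpecialLinearGroup (Fin n) F,
      P = Elus.toSL (g.symm : (Fin n → F) →ₗ[F] (Fin n → F)) hdet' := ⟨_, rfl⟩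
  have hP1 : ∀ u, Matrix.toLin' P.1 u = g.symm u := by
    intro u
    rw [hPdef, Elus.toLin'_toSL]
    rfl
  have hcomp : (Matrix.toLin' (P⁻¹ : Matrix.SpecialLinearGroup (Fin n) F).1) ∘ₗ
      (Matrix.toLin' P.1) = LinearMap.id := by
    rw [← Matrix.toLin'_mul, ← Matrix.SpecialLinearGroup.coe_mul, inv_mul_cancel,
      Matrix.SpecialLinearGroup.coe_one, Matrix.toLin'_one]
  have hP2 : ∀ u, Matrix.toLin' (P⁻¹ : Matrix.SpecialLinearGroup (Fin n) F).1 u = g u := by
    intro u
    have h1 := LinearMap.congr_fun hcomp (g u)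
    rw [LinearMap.comp_apply, hP1, g.symm_apply_apply, LinearMap.id_apply] at h1
    exact h1
  have hmv : ∀ u, ((P⁻¹ * x * P : Matrix.SpecialLinearGroup (Fin n) F) :
      Matrix (Fin n) (Fin n) F) *ᵥ u =
      (LinearEquiv.conjAlgEquiv F g (Matrix.toLin' (x : Matrix (Fin n) (Fin n) F))) u := by
    intro u
    rw [LinearEquiv.conjAlgEquiv_apply]
    show _ = g (Matrix.toLin' (x : Matrix (Fin n) (Fin n) F) (g.symm u))
    rw [Matrix.SpecialLinearGroup.coe_mul, Matrix.SpecialLinearGroup.coe_mul,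
      ← Matrix.mulVec_mulVec, ← Matrix.mulVec_mulVec, ← hP1, ← hP2, Matrix.toLin'_apply,
      Matrix.toLin'_apply, Matrix.toLin'_apply]
  refine ⟨P, ?_⟩
  rw [Subgroup.mem_comap]
  refine ⟨Units.mk0 c hc, fun u v => ?_⟩
  show f (((P⁻¹ * x * P : Matrix.SpecialLinearGroup (Fin n) F) :
      Matrix (Fin n) (Fin n) F) *ᵥ u) (((P⁻¹ * x * P : Matrix.SpecialLinearGroup (Fin n) F) :
      Matrix (Fin n) (Fin n) F) *ᵥ v) = c * f u v
  rw [hmv, hmv]
  exact hz u v

end Bridge

end Cfsg.Agent.Lib.Helper2.SpInv
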