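import Mathlib
import Cfsg.Agent.Lib.Helper2.SpInvC
set_option autoImplicit false
set_option maxHeartbeats 1000000
set_option linter.unusedVariables false
set_option linter.unusedSectionVars false
set_option linter.style.longLine false
set_option linter.unusedSimpArgs false
set_option linter.deprecated false
set_option linter.style.haveILetI false

/-! Involutions of `PSL_n(q)` and subfield subgroups (part A): membership in the subfield group,
conjugating into rational form, signed permutation bases for involutory operators. -/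

namespace Cfsg.Agent.Lib.Helper2.Subf

open Module Cfsg.Agent.Lib.Helper2 Cfsg.Agent.Lib.Helper2.SpInv

universe u v

section Mem

variable {F : Type u} [Field F] {n : ℕ}

/-- membership in the subfield group from rational entries (up to a scalar) -/
theorem mem_of_entries (F₀ : Subfield F) (M : Matrix.SpecialLinearGroup (Fin n) F) (w : F)
    (hw : w ≠ 0) (h : ∀ i j, w⁻¹ * (M : Matrix (Fin n) (Fin n) F) i j ∈ F₀) :
    M ∈ (Cfsg.Geo.subfieldSubgroup F₀ 1).comap
      (Matrix.SpecialLinearGroup.toGL : Matrix.SpecialLinearGroup (Fin n) F →* GL (Fin n) F) := by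
  classical
  obtain ⟨A, hA⟩ : ∃ A : Matrix (Fin n) (Fin n) F₀,
      ∀ i j, (A i j : F) = w⁻¹ * (M : Matrix (Fin n) (Fin n) F) i j :=
    ⟨fun i j => ⟨_, h i j⟩, fun i j => rfl⟩
  have hMA : (M : Matrix (Fin n) (Fin n) F) = w • (F₀.subtype.mapMatrix A) := by
    ext i j
    rw [Matrix.smul_apply, RingHom.mapMatrix_apply, Matrix.map_apply, smul_eq_mul]
    show _ = w * (A i j : F)
    rw [hA, ← mul_assoc, mul_inv_cancel₀ hw, one_mul]
  have hdet : A.det ≠ 0 := by
    intro h0
    have h1 : (M : Matrix (Fin n) (Fin n) F).det = 1 := M.2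
    rw [hMA, Matrix.det_smul, ← RingHom.map_det, h0, map_zero, mul_zero] at h1
    exact zero_ne_one h1
  obtain ⟨A₀, hA₀⟩ : ∃ A₀ : GL (Fin n) F₀, (A₀ : Matrix (Fin n) (Fin n) F₀) = A :=
    ⟨Matrix.GeneralLinearGroup.mkOfDetNeZero A hdet, rfl⟩
  obtain ⟨s, hs1, hs2⟩ : ∃ s : GL (Fin n) F, s ∈ Cfsg.Geo.scalars (Fin n) F ∧
      (s : Matrix (Fin n) (Fin n) F) = w • 1 := by
    refine ⟨Units.map (Matrix.scalar (Fin n) : F →+* Matrix (Fin n) (Fin n) F).toMonoidHom
      (Units.mk0 w hw), ⟨_, rfl⟩, ?_⟩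
    simp [Matrix.smul_one_eq_diagonal]
  have hprod : Matrix.SpecialLinearGroup.toGL M =
      Matrix.GeneralLinearGroup.map (F₀.subtype : F₀ →+* F) A₀ * s := by
    apply Units.ext
    rw [Units.val_mul, hs2, Matrix.mul_smul, Matrix.mul_one]
    ext i j
    rw [Matrix.smul_apply, Matrix.GeneralLinearGroup.map_apply, hA₀, smul_eq_mul]
    show (M : Matrix (Fin n) (Fin n) F) i j = w * (A i j : F)
    rw [hA, ← mul_assoc, mul_inv_cancel₀ hw, one_mul]
  rw [Subgroup.mem_comap]
  unfold Cfsg.Geo.subfieldSubgroup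
  rw [Subgroup.mem_map]
  refine ⟨Matrix.SpecialLinearGroup.toGL M, ?_, ?_⟩
  · rw [hprod]
    exact Subgroup.mul_mem_sup ⟨A₀, rfl⟩ hs1
  · show (MulAut.conj (1 : GL (Fin n) F)) (Matrix.SpecialLinearGroup.toGL M) = _
    rw [MulAut.conj_apply, one_mul, inv_one, mul_one]

/-- elements of the subfield group have rational entries up to a scalar -/
theorem entries_of_mem (F₀ : Subfield F) (M : Matrix.SpecialLinearGroup (Fin n) F)
    (hM : M ∈ (Cfsg.Geo.subfieldSubgroup F₀ 1).comap
      (Matrix.SpecialLinearGroup.toGL : Matrix.SpecialLinearGroup (Fin n) F →* GL (Fin n) F)) :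
    ∃ c : F, c ≠ 0 ∧ ∀ i j, c * (M : Matrix (Fin n) (Fin n) F) i j ∈ F₀ := by
  classical
  rw [Subgroup.mem_comap] at hM
  unfold Cfsg.Geo.subfieldSubgroup at hM
  rw [Subgroup.mem_map] at hM
  obtain ⟨g, hg, hgM⟩ := hM
  have hgM' : g = Matrix.SpecialLinearGroup.toGL M := by
    rw [← hgM]
    show g = (MulAut.conj (1 : GL (Fin n) F)) g
    rw [MulAut.conj_apply, one_mul, inv_one, mul_one]
  rw [Subgroup.mem_sup_of_normal_right] at hg
  obtain ⟨a, ⟨A₀, rfl⟩, s, hs, has⟩ := hg
  rw [Cfsg.Geo.mem_scalars_iff] at hs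
  obtain ⟨c, hc⟩ := hs
  refine ⟨(c : F)⁻¹, inv_ne_zero c.ne_zero, fun i j => ?_⟩
  have h1 : (M : Matrix (Fin n) (Fin n) F) =
      ((Matrix.GeneralLinearGroup.map (F₀.subtype : F₀ →+* F) A₀ : GL (Fin n) F) :
        Matrix (Fin n) (Fin n) F) * ((c : F) • (1 : Matrix (Fin n) (Fin n) F)) := by
    rw [← hc, ← Units.val_mul, has, hgM']
    rfl
  rw [h1, Matrix.mul_smul, Matrix.mul_one, Matrix.smul_apply, Matrix.GeneralLinearGroup.map_apply,
    smul_eq_mul, ← mul_assoc, inv_mul_cancel₀ c.ne_zero, one_mul]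
  exact ((A₀ : Matrix (Fin n) (Fin n) F₀) i j).2

open Matrix in
/-- conjugating into the subfield group from a determinant one base change to rational form -/
theorem conj_rat (F₀ : Subfield F) (x : Matrix.SpecialLinearGroup (Fin n) F)
    (g : (Fin n → F) ≃ₗ[F] (Fin n → F))
    (hg : LinearMap.det (g : (Fin n → F) →ₗ[F] (Fin n → F)) = 1) (w : F) (hw : w ≠ 0)
    (hrat : ∀ i j, w⁻¹ * (LinearEquiv.conjAlgEquiv F g
      (Matrix.toLin' (x : Matrix (Fin n) (Fin n) F))) (Pi.single j 1) i ∈ F₀) :
    ∃ P : Matrix.SpecialLinearGroup (Fin n) F, P⁻¹ * x * P ∈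
      (Cfsg.Geo.subfieldSubgroup F₀ 1).comap
      (Matrix.SpecialLinearGroup.toGL : Matrix.SpecialLinearGroup (Fin n) F →* GL (Fin n) F) := by
  have hdet' : LinearMap.det (g.symm : (Fin n → F) →ₗ[F] (Fin n → F)) = 1 := by
    have h1 := LinearEquiv.det_mul_det_symm g
    rw [hg, one_mul] at h1
    exact h1
  obtain ⟨P, hPdef⟩ : ∃ P : Matrix.SpecialLinearGroup (Fin n) F,
      P = Elus.toSL (g.symm : (Fin n → F) →ₗ[F] (Fin n → F)) hdet' := ⟨_, rfl⟩
  have hP1 : ∀ u, Matrix.toLin' P.1 u = g.symm u := by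
    intro u
    rw [hPdef, Elus.toLin'_toSL]
    rfl
  have hcomp : (Matrix.toLin' (P⁻¹ : Matrix.SpecialLinearGroup (Fin n) F).1) ∘ₗ
      (Matrix.toLin' P.1) = LinearMap.id := by
    rw [← Matrix.toLin'_mul, ← Matrix.SpecialLinearGroup.coe_mul, inv_mul_cancel,
      Matrix.SpecialLinearGroup.coe_one, Matrix.toLin'_one]
  have hP2 : ∀ u, Matrix.toLin' (P⁻¹ : Matrix.SpecialLinearGroup (Fin n) F).1 u = g u := by
    intro u
    have h1 := LinearMap.congr_fun hcomp (g u)
    rw [LinearMap.comp_apply, hP1, g.symm_apply_apply, LinearMap.id_apply] at h1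
    exact h1
  have hmv : ∀ u, ((P⁻¹ * x * P : Matrix.SpecialLinearGroup (Fin n) F) :
      Matrix (Fin n) (Fin n) F) *ᵥ u =
      (LinearEquiv.conjAlgEquiv F g (Matrix.toLin' (x : Matrix (Fin n) (Fin n) F))) u := by
    intro u
    rw [LinearEquiv.conjAlgEquiv_apply]
    show _ = g (Matrix.toLin' (x : Matrix (Fin n) (Fin n) F) (g.symm u))
    rw [Matrix.SpecialLinearGroup.coe_mul, Matrix.SpecialLinearGroup.coe_mul,
      ← Matrix.mulVec_mulVec, ← Matrix.mulVec_mulVec, ← hP1, ← hP2, Matrix.toLin'_apply,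
      Matrix.toLin'_apply, Matrix.toLin'_apply]
  refine ⟨P, mem_of_entries F₀ _ w hw (fun i j => ?_)⟩
  have h1 := congrFun (hmv (Pi.single j 1)) i
  rw [Matrix.mulVec_single_one, Matrix.col_apply] at h1
  rw [h1]
  exact hrat i j

/-- base change to a given basis, corrected to determinant one by a centralizing element -/
theorem exists_conj_of_basis (y : Module.End F (Fin n → F)) (b : Basis (Fin n) F (Fin n → F))
    (hcent : ∀ δ : F, δ ≠ 0 → ∃ h : Module.End F (Fin n → F), h * y = y * h ∧
      LinearMap.det h = δ) :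
    ∃ g : (Fin n → F) ≃ₗ[F] (Fin n → F),
      LinearMap.det (g : (Fin n → F) →ₗ[F] (Fin n → F)) = 1 ∧
      ∀ i j, (LinearEquiv.conjAlgEquiv F g y) (Pi.single j 1) i = b.repr (y (b j)) i := by
  classical
  obtain ⟨g₀, hg₀⟩ : ∃ g₀ : (Fin n → F) ≃ₗ[F] (Fin n → F), g₀ = b.equivFun := ⟨_, rfl⟩
  have hd0 : LinearMap.det (g₀ : (Fin n → F) →ₗ[F] (Fin n → F)) ≠ 0 :=
    (LinearEquiv.isUnit_det' g₀).ne_zero
  obtain ⟨h, hcomm, hdet⟩ := hcent (LinearMap.det (g₀ : (Fin n → F) →ₗ[F] (Fin n → F)))⁻¹
    (inv_ne_zero hd0)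
  have hh0 : LinearMap.det h ≠ 0 := by
    rw [hdet]
    exact inv_ne_zero hd0
  obtain ⟨hE, hhE⟩ : ∃ hE : (Fin n → F) ≃ₗ[F] (Fin n → F), ∀ u, hE u = h u :=
    ⟨LinearMap.equivOfDetNeZero h hh0, fun u => rfl⟩
  refine ⟨hE.trans g₀, ?_, ?_⟩
  · have h1 : ((hE.trans g₀ : (Fin n → F) ≃ₗ[F] (Fin n → F)) : (Fin n → F) →ₗ[F] (Fin n → F)) =
        (g₀ : (Fin n → F) →ₗ[F] (Fin n → F)) ∘ₗ h := by
      apply LinearMap.ext
      intro u
      show g₀ (hE u) = g₀ (h u)
      rw [hhE]
    rw [h1, LinearMap.det_comp, hdet, mul_inv_cancel₀ hd0]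
  · intro i j
    rw [LinearEquiv.conjAlgEquiv_apply]
    show (g₀ (hE (y (hE.symm (g₀.symm (Pi.single j 1)))))) i = _
    have h2 : g₀.symm (Pi.single j 1) = b j := by
      rw [hg₀, Basis.equivFun_symm_apply]
      simp [Pi.single_apply]
    have h3 : ∀ v, hE (y (hE.symm v)) = y v := by
      intro v
      rw [hhE]
      have h4 := LinearMap.congr_fun hcomm (hE.symm v)
      rw [Module.End.mul_apply, Module.End.mul_apply] at h4
      rw [h4, ← hhE, hE.apply_symm_apply]
    rw [h2, h3, hg₀, Basis.equivFun_apply]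

end Mem

section Sperm

variable {F : Type u} [Field F]

/-- an operator with `y² = 1` is a signed permutation of a suitable basis -/
theorem exists_sperm_basis : ∀ (k : ℕ) (V : Type v) [AddCommGroup V] [Module F V]
    [FiniteDimensional F V] (y : Module.End F V), finrank F V = k → (∀ u, y (y u) = u) →
    ∃ (ι : Type) (_ : Fintype ι) (_ : DecidableEq ι) (b : Basis ι F V),
      ∀ j, ∃ j', y (b j) = b j' ∨ y (b j) = -b j' := by
  intro k
  induction k using Nat.strong_induction_on with
  | _ k ih =>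
    intro V _ _ _ y hfin hy
    classical
    by_cases hex : ∃ f, LinearIndependent F ![f, y f]
    · obtain ⟨f, hli⟩ := hex
      obtain ⟨P, C, hPC, hP, hC, a, b, hfP, hli', hTa, hTb, -⟩ :=
        quad_split y 0 1 (fun u => by rw [hy, zero_smul, one_smul, zero_add]) one_ne_zero f hli
      have hsum := Submodule.finrank_add_eq_of_isCompl hPC
      have hfC : finrank F C = k - 2 := by omega
      have hk2 : 2 ≤ k := by omega
      obtain ⟨ιC, instF, instD, bC, hbC⟩ := ih (k - 2) (by omega) C (y.restrict hC) hfC (by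
        intro u
        apply Subtype.ext
        rw [LinearMap.restrict_coe_apply, LinearMap.restrict_coe_apply]
        exact hy _)
      obtain ⟨bP, hb0, hb1⟩ := plane_basis a b hli' hfP
      refine ⟨Fin 2 ⊕ ιC, inferInstance, inferInstance,
        (bP.prod bC).map (P.prodEquivOfIsCompl C hPC), ?_⟩
      have hinl : ∀ i, ((bP.prod bC).map (P.prodEquivOfIsCompl C hPC)) (Sum.inl i) =
          (bP i : V) := by
        intro i
        rw [Basis.map_apply, Basis.prod_apply]
        simp
      have hinr : ∀ j, ((bP.prod bC).map (P.prodEquivOfIsCompl C hPC)) (Sum.inr j) =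
          (bC j : V) := by
        intro j
        rw [Basis.map_apply, Basis.prod_apply]
        simp
      have hya : y (a : V) = (b : V) := by
        have h1 := congrArg Subtype.val hTa
        rw [LinearMap.restrict_coe_apply] at h1
        rw [h1, zero_smul, one_smul, zero_add]
      have hyb : y (b : V) = (a : V) := by
        have h1 := congrArg Subtype.val hTb
        rw [LinearMap.restrict_coe_apply] at h1
        rw [h1, zero_smul, one_smul, add_zero]
      rintro (i | j)
      · have hi : i = 0 ∨ i = 1 := by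
          rcases i with ⟨i, hi⟩
          interval_cases i
          · left; rfl
          · right; rfl
        rcases hi with rfl | rfl
        · refine ⟨Sum.inl 1, Or.inl ?_⟩
          rw [hinl, hinl, hb0, hb1]
          exact hya
        · refine ⟨Sum.inl 0, Or.inl ?_⟩
          rw [hinl, hinl, hb0, hb1]
          exact hyb
      · obtain ⟨j', hj'⟩ := hbC j
        refine ⟨Sum.inr j', ?_⟩
        rw [hinr, hinr]
        rcases hj' with h | h
        · left
          have h1 := congrArg Subtype.val h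
          rw [LinearMap.restrict_coe_apply] at h1
          exact h1
        · right
          have h1 := congrArg Subtype.val h
          rw [LinearMap.restrict_coe_apply] at h1
          rw [h1]
          rfl
    · push Not at hex
      refine ⟨Fin (finrank F V), inferInstance, inferInstance, Module.finBasis F V,
        fun j => ⟨j, ?_⟩⟩
      have hne : (Module.finBasis F V) j ≠ 0 := Basis.ne_zero _ j
      have h1 := hex (Module.finBasis F V j)
      rw [LinearIndependent.pair_iff' hne] at h1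
      push Not at h1
      obtain ⟨μ, hμ⟩ := h1
      have h2 := hy (Module.finBasis F V j)
      rw [← hμ, map_smul, ← hμ, smul_smul] at h2
      have h3 : μ * μ = 1 := by
        have h4 : (μ * μ - 1) • (Module.finBasis F V j) = 0 := by
          rw [sub_smul, one_smul, h2, sub_self]
        rcases smul_eq_zero.mp h4 with h | h
        · exact sub_eq_zero.mp h
        · exact absurd h hne
      rcases mul_self_eq_one_iff.mp h3 with h | h
      · left
        rw [← hμ, h, one_smul]
      · right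
        rw [← hμ, h, neg_smul, one_smul]

/-- a determinant one base change of an involutory operator to a signed permutation matrix -/
theorem exists_g_of_sq_one {n : ℕ} (y : Module.End F (Fin n → F)) (hy : ∀ u, y (y u) = u)
    (hcent : ∀ δ : F, δ ≠ 0 → ∃ h : Module.End F (Fin n → F), h * y = y * h ∧
      LinearMap.det h = δ) :
    ∃ g : (Fin n → F) ≃ₗ[F] (Fin n → F),
      LinearMap.det (g : (Fin n → F) →ₗ[F] (Fin n → F)) = 1 ∧
      ∀ i j, (LinearEquiv.conjAlgEquiv F g y) (Pi.single j 1) i = 0 ∨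
        (LinearEquiv.conjAlgEquiv F g y) (Pi.single j 1) i = 1 ∨
        (LinearEquiv.conjAlgEquiv F g y) (Pi.single j 1) i = -1 := by
  classical
  obtain ⟨ι, instF, instD, b0, hb0⟩ := exists_sperm_basis (F := F) n (Fin n → F) y
    (Module.finrank_fin_fun F) hy
  have hcard : Fintype.card ι = n := by
    rw [← Module.finrank_eq_card_basis b0, Module.finrank_fin_fun]
  obtain ⟨b, hb⟩ : ∃ b : Basis (Fin n) F (Fin n → F),
      ∀ j, ∃ j', y (b j) = b j' ∨ y (b j) = -b j' := by
    refine ⟨b0.reindex (Fintype.equivFinOfCardEq hcard), fun j => ?_⟩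
    obtain ⟨j', hj'⟩ := hb0 ((Fintype.equivFinOfCardEq hcard).symm j)
    refine ⟨Fintype.equivFinOfCardEq hcard j', ?_⟩
    rw [Basis.reindex_apply, Basis.reindex_apply, Equiv.symm_apply_apply]
    exact hj'
  obtain ⟨g, hg1, hg2⟩ := exists_conj_of_basis y b hcent
  refine ⟨g, hg1, fun i j => ?_⟩
  rw [hg2]
  obtain ⟨j', hj'⟩ := hb j
  rcases hj' with h | h
  · rw [h, Basis.repr_self, Finsupp.single_apply]
    split_ifs
    · right; left; rfl
    · left; rfl
  · rw [h, map_neg, Basis.repr_self, Finsupp.neg_apply, Finsupp.single_apply]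
    split_ifs
    · right; right; rfl
    · left; exact neg_zero

end Sperm

end Cfsg.Agent.Lib.Helper2.Subf
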