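import Mathlib
import Cfsg.Agent.Lib.Helper2.SubfA
import Cfsg.Agent.Lib.Helper4.PSLCent2
set_option autoImplicit false
set_option maxHeartbeats 1000000
set_option linter.unusedVariables false
set_option linter.unusedSectionVars false
set_option linter.style.longLine false
set_option linter.unusedSimpArgs false
set_option linter.deprecated false
set_option linter.style.haveILetI false

/-! Involutions of `PSL_n(q)` and subfield subgroups (part B): squares, derangements, centralizers,
the index for odd degree extensions. -/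

namespace Cfsg.Agent.Lib.Helper2.Subf

open Module Cfsg.Agent.Lib.Helper2 Cfsg.Agent.Lib.Helper2.SpInv

universe u v

section Arith

variable {F : Type u} [Field F] [Fintype F]

theorem ringChar_ne_two (h2 : (2 : F) ≠ 0) : ringChar F ≠ 2 := by
  intro hc2
  apply h2
  have h1 := (ringChar.spec F 2).mpr (by rw [hc2])
  exact_mod_cast h1

/-- under the 2-adic condition the scalar `y²` is a square -/
theorem sq_of_cond {n : ℕ} (hn : 0 < n) (h4 : 4 ∣ Fintype.card F - 1) (h2 : (2 : F) ≠ 0)
    (hv : padicValNat 2 n ≤ padicValNat 2 (Fintype.card F - 1))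
    (y : Module.End F (Fin n → F)) (z : F) (hy : y ^ 2 = z • 1) (hdet : LinearMap.det y = 1) :
    ∃ w : F, w * w = z := by
  classical
  by_contra hno
  push Not at hno
  have hc : ∀ b : F, b ^ 2 ≠ z := fun b => by
    rw [pow_two]
    exact hno b
  have hq1 : Fintype.card F - 1 ≠ 0 := by
    have := Fintype.one_lt_card (α := F)
    omega
  have hdvd : 2 ∣ finrank F (⊤ : Submodule F (Fin n → F)) :=
    Elus.dvd_finrank_of_inv y 2 z hy hc ⊤ (fun x _ => Submodule.mem_top)
  rw [finrank_top, Module.finrank_fin_fun] at hdvd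
  obtain ⟨m, hm⟩ := hdvd
  have hdet2 := Elus.det_of_pow_eq_smul 2 z hc m (Fin n → F) y hy (by
    rw [Module.finrank_fin_fun, hm])
  rw [hdet] at hdet2
  have hzm : (-z) ^ m = 1 := by
    rw [hdet2]
    congr 1
    ring
  have hchar := ringChar_ne_two h2
  have hz0 : z ≠ 0 := by
    intro h0
    exact hno 0 (by rw [h0, mul_zero])
  have hzq : z ^ (Fintype.card F / 2) = -1 := by
    rcases FiniteField.pow_dichotomy hchar hz0 with h | h
    · exfalso
      obtain ⟨r, hr⟩ := (FiniteField.isSquare_iff hchar hz0).mpr h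
      exact hno r hr.symm
    · exact h
  obtain ⟨t4, ht4⟩ := h4
  have hq2 : Fintype.card F / 2 = 2 * t4 := by omega
  have hnzq : (-z) ^ (Fintype.card F / 2) = -1 := by
    rw [neg_pow, hzq, hq2, pow_mul]
    norm_num
  -- 2-adic decompositions
  obtain ⟨o, ho⟩ := pow_padicValNat_dvd (p := 2) (n := Fintype.card F - 1)
  have hoodd : Odd o := odd_cofactor (Fintype.card F - 1) o hq1 ho
  obtain ⟨n', hn'⟩ := pow_padicValNat_dvd (p := 2) (n := n)
  have hn'odd : Odd n' := odd_cofactor n n' (by omega) hn'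
  obtain ⟨a, ha⟩ : ∃ a, a = padicValNat 2 (Fintype.card F - 1) := ⟨_, rfl⟩
  obtain ⟨c, hc'⟩ : ∃ c, c = padicValNat 2 n := ⟨_, rfl⟩
  rw [← ha] at ho hv
  rw [← hc'] at hn' hv
  have hc1 : 1 ≤ c := by
    rw [hc']
    exact one_le_padicValNat_of_dvd (by omega) ⟨m, hm⟩
  have ha1 : 1 ≤ a := le_trans hc1 hv
  have hq2' : Fintype.card F / 2 = 2 ^ (a - 1) * o := by
    have h1 : 2 ^ a = 2 * 2 ^ (a - 1) := by
      rw [← pow_succ']
      congr 1
      omega
    rw [h1, mul_assoc] at ho
    generalize 2 ^ (a - 1) * o = X at ho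
    have := Fintype.one_lt_card (α := F)
    omega
  have hm' : m = 2 ^ (c - 1) * n' := by
    have h1 : 2 ^ c = 2 * 2 ^ (c - 1) := by
      rw [← pow_succ']
      congr 1
      omega
    rw [hm, h1, mul_assoc] at hn'
    exact Nat.eq_of_mul_eq_mul_left (by norm_num) hn'
  have hexp : m * (2 ^ (a - c) * o) = (2 ^ (a - 1) * o) * n' := by
    have h1 : 2 ^ (c - 1) * 2 ^ (a - c) = 2 ^ (a - 1) := by
      rw [← pow_add]
      congr 1
      omega
    rw [hm', ← h1]
    ring
  have hone : ((-z) ^ m) ^ (2 ^ (a - c) * o) = 1 := by rw [hzm, one_pow]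
  rw [← pow_mul, hexp, ← hq2', pow_mul, hnzq, hn'odd.neg_one_pow] at hone
  apply h2
  have h3 : (1 : F) + 1 = 0 := by
    nth_rewrite 1 [← hone]
    exact neg_add_cancel 1
  rw [← one_add_one_eq_two]
  exact h3

/-- elements of the subfield of index two are squares -/
theorem subfield_sq (F₀ : Subfield F) (q₀ : ℕ) (hF₀ : Nat.card F₀ = q₀)
    (hq : Fintype.card F = q₀ ^ 2) (hodd : Odd q₀) (h2 : (2 : F) ≠ 0) (a : F) (ha : a ∈ F₀) :
    ∃ b : F, b * b = a := by
  classical
  by_cases ha0 : a = 0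
  · exact ⟨0, by rw [ha0, mul_zero]⟩
  haveI : Fintype F₀ := Fintype.ofFinite _
  have hcard : Fintype.card F₀ = q₀ := by rw [Fintype.card_eq_nat_card, hF₀]
  have h1 : a ^ (q₀ - 1) = 1 := by
    have h3 : (⟨a, ha⟩ : F₀) ≠ 0 := by
      intro h0
      exact ha0 (congrArg Subtype.val h0)
    have h4 := FiniteField.pow_card_sub_one_eq_one (⟨a, ha⟩ : F₀) h3
    rw [hcard] at h4
    have h5 := congrArg Subtype.val h4
    simpa using h5
  obtain ⟨t, ht⟩ := hodd
  have hq2 : Fintype.card F / 2 = (q₀ - 1) * (t + 1) := by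
    rw [hq, ht]
    have h3 : (2 * t + 1) ^ 2 = 2 * (2 * t * (t + 1)) + 1 := by ring
    have h4 : 2 * t + 1 - 1 = 2 * t := by omega
    rw [h3, h4]
    generalize 2 * t * (t + 1) = X
    omega
  have h6 : a ^ (Fintype.card F / 2) = 1 := by
    rw [hq2, pow_mul, h1, one_pow]
  obtain ⟨r, hr⟩ := (FiniteField.isSquare_iff (ringChar_ne_two h2) ha0).mpr h6
  exact ⟨r, hr.symm⟩

/-- an element with nonsquare scalar square, when the 2-adic condition fails -/
theorem exists_nonsq_elt (n : ℕ) (hn : 2 ≤ n) (hodd : Odd (Fintype.card F))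
    (hv : padicValNat 2 (Fintype.card F - 1) < padicValNat 2 n) :
    ∃ (y : Module.End F (Fin n → F)) (z : F), LinearMap.det y = 1 ∧ y ^ 2 = z • 1 ∧
      (∀ c' : F, y ≠ c' • 1) ∧ ∀ w : F, w * w ≠ z := by
  classical
  have hr1 : 2 ∣ Fintype.card F - 1 := by
    obtain ⟨t, ht⟩ := hodd
    exact ⟨t, by omega⟩
  obtain ⟨f, c, hdet, hf, hns, hW⟩ := Elus.exists_derangement_one (F := F) n hn 2 hr1 (by
    rintro ⟨h1, -⟩
    omega)
  refine ⟨f, c, hdet, hf, hns, ?_⟩
  intro w hw
  have hff : ∀ u, f (f u) = c • u := by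
    intro u
    have h1 := LinearMap.congr_fun hf u
    rw [pow_two, Module.End.mul_apply, LinearMap.smul_apply, Module.End.one_apply] at h1
    exact h1
  by_cases hex : ∃ u, u ≠ 0 ∧ f u = w • u
  · obtain ⟨u, hu0, hu⟩ := hex
    have hinv : Elus.Inv f (Submodule.span F {u}) := by
      intro x hx
      obtain ⟨a, rfl⟩ := Submodule.mem_span_singleton.mp hx
      rw [map_smul, hu, smul_smul]
      exact Submodule.mem_span_singleton.mpr ⟨a * w, rfl⟩
    have h1 := hW _ hinv
    rw [finrank_span_singleton hu0] at h1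
    omega
  · push Not at hex
    apply hns (-w)
    apply LinearMap.ext
    intro u
    rw [LinearMap.smul_apply, Module.End.one_apply, neg_smul]
    have h1 : f (f u + w • u) = w • (f u + w • u) := by
      rw [map_add, map_smul, hff, ← hw, smul_add, smul_smul, add_comm]
    have h2 : f u + w • u = 0 := by
      by_contra h0
      exact hex _ h0 h1
    exact eq_neg_of_add_eq_zero_left h2

end Arith

section NotMem

variable {F : Type u} [Field F] {n : ℕ}

/-- an element with nonsquare scalar square has no conjugate in the subfield group of a subfield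
all of whose elements are squares -/
theorem not_mem_of_nonsq (F₀ : Subfield F) (hsq : ∀ a ∈ F₀, ∃ b : F, b * b = a) (hn : 0 < n)
    (x : Matrix.SpecialLinearGroup (Fin n) F) (z : F)
    (hx : ((x ^ 2 : Matrix.SpecialLinearGroup (Fin n) F) : Matrix (Fin n) (Fin n) F) =
      z • (1 : Matrix (Fin n) (Fin n) F))
    (hz : ∀ w : F, w * w ≠ z) (P : Matrix.SpecialLinearGroup (Fin n) F) :
    P⁻¹ * x * P ∉ (Cfsg.Geo.subfieldSubgroup F₀ 1).comap
      (Matrix.SpecialLinearGroup.toGL : Matrix.SpecialLinearGroup (Fin n) F →* GL (Fin n) F) := by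
  classical
  intro hmem
  obtain ⟨c, hc0, hc⟩ := entries_of_mem F₀ _ hmem
  obtain ⟨M, hM⟩ : ∃ M : Matrix (Fin n) (Fin n) F,
      M = ((P⁻¹ * x * P : Matrix.SpecialLinearGroup (Fin n) F) : Matrix (Fin n) (Fin n) F) :=
    ⟨_, rfl⟩
  rw [← hM] at hc
  have hMM : M * M = z • (1 : Matrix (Fin n) (Fin n) F) := by
    have h1 : (P⁻¹ * x * P) * (P⁻¹ * x * P) = P⁻¹ * x ^ 2 * P := by
      rw [pow_two]
      simp [mul_assoc]
    have h2 := congrArg (fun y : Matrix.SpecialLinearGroup (Fin n) F =>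
      (y : Matrix (Fin n) (Fin n) F)) h1
    simp only [Matrix.SpecialLinearGroup.coe_mul] at h2
    rw [hM]
    simp only [Matrix.SpecialLinearGroup.coe_mul]
    rw [h2, hx, Matrix.mul_smul, Matrix.mul_one, Matrix.smul_mul, ← Matrix.SpecialLinearGroup.coe_mul,
      inv_mul_cancel, Matrix.SpecialLinearGroup.coe_one]
  have h00 := congrFun (congrFun hMM ⟨0, hn⟩) ⟨0, hn⟩
  rw [Matrix.mul_apply, Matrix.smul_apply, Matrix.one_apply_eq, smul_eq_mul, mul_one] at h00
  have hmem2 : c * c * z ∈ F₀ := by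
    rw [← h00, Finset.mul_sum]
    apply Subfield.sum_mem
    intro j _
    have h3 : c * c * (M ⟨0, hn⟩ j * M j ⟨0, hn⟩) = (c * M ⟨0, hn⟩ j) * (c * M j ⟨0, hn⟩) := by
      ring
    rw [h3]
    exact F₀.mul_mem (hc _ _) (hc _ _)
  obtain ⟨b, hb⟩ := hsq _ hmem2
  apply hz (b * c⁻¹)
  field_simp
  linear_combination hb

end NotMem

section Cent

variable {F : Type u} [Field F] [Fintype F] {n : ℕ}

/-- determinant one base change to a signed permutation matrix, up to the scalar `w` -/
theorem conj_of_cent (y : Module.End F (Fin n → F)) (w : F) (hw : w ≠ 0)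
    (hy : ∀ u, y (y u) = (w * w) • u)
    (hcent : ∀ δ : F, δ ≠ 0 → ∃ h : Module.End F (Fin n → F), h * y = y * h ∧
      LinearMap.det h = δ) :
    ∃ g : (Fin n → F) ≃ₗ[F] (Fin n → F),
      LinearMap.det (g : (Fin n → F) →ₗ[F] (Fin n → F)) = 1 ∧
      ∀ i j, w⁻¹ * (LinearEquiv.conjAlgEquiv F g y) (Pi.single j 1) i = 0 ∨
        w⁻¹ * (LinearEquiv.conjAlgEquiv F g y) (Pi.single j 1) i = 1 ∨
        w⁻¹ * (LinearEquiv.conjAlgEquiv F g y) (Pi.single j 1) i = -1 := by
  obtain ⟨y₁, hy₁⟩ : ∃ y₁ : Module.End F (Fin n → F), y₁ = w⁻¹ • y := ⟨_, rfl⟩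
  have hyy : ∀ u, y₁ (y₁ u) = u := by
    intro u
    rw [hy₁, LinearMap.smul_apply, LinearMap.smul_apply, map_smul, hy, smul_smul, smul_smul]
    have h1 : w⁻¹ * w⁻¹ * (w * w) = 1 := by
      field_simp
    rw [h1, one_smul]
  have hcent₁ : ∀ δ : F, δ ≠ 0 → ∃ h : Module.End F (Fin n → F), h * y₁ = y₁ * h ∧
      LinearMap.det h = δ := by
    intro δ hδ
    obtain ⟨h, h1, h2⟩ := hcent δ hδ
    refine ⟨h, ?_, h2⟩
    rw [hy₁, mul_smul_comm, smul_mul_assoc, h1]
  obtain ⟨g, hg1, hg2⟩ := exists_g_of_sq_one y₁ hyy hcent₁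
  refine ⟨g, hg1, fun i j => ?_⟩
  have h3 : w⁻¹ * (LinearEquiv.conjAlgEquiv F g y) (Pi.single j 1) i =
      (LinearEquiv.conjAlgEquiv F g y₁) (Pi.single j 1) i := by
    rw [hy₁, map_smul, LinearMap.smul_apply, Pi.smul_apply, smul_eq_mul]
  rw [h3]
  exact hg2 i j

/-- centralizing elements of every determinant, odd characteristic -/
theorem cent_odd (h2 : (2 : F) ≠ 0) (y : Module.End F (Fin n → F)) (w : F) (hw : w ≠ 0)
    (hy : y ^ 2 = (w * w) • 1) (hns : ∀ c' : F, y ≠ c' • 1) (δ : F) :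
    ∃ h : Module.End F (Fin n → F), h * y = y * h ∧ LinearMap.det h = δ := by
  have hy' : ∀ u, y (y u) = (w * w) • u := by
    intro u
    have h1 := LinearMap.congr_fun hy u
    rw [pow_two, Module.End.mul_apply, LinearMap.smul_apply, Module.End.one_apply] at h1
    exact h1
  have hex : ∃ v, y v + w • v ≠ 0 := by
    by_contra hcon
    push Not at hcon
    exact hns (-w) (LinearMap.ext (fun u => by
      rw [LinearMap.smul_apply, Module.End.one_apply, neg_smul]
      exact eq_neg_of_add_eq_zero_left (hcon u)))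
  obtain ⟨v, hv'⟩ := hex
  have hyu : y (y v + w • v) = w • (y v + w • v) := by
    rw [map_add, map_smul, hy', smul_add, smul_smul, add_comm]
  have hss : y.IsSemisimple := by
    apply Module.End.isSemisimple_of_squarefree_aeval_eq_zero
      (p := (Polynomial.X : Polynomial F) ^ 2 - Polynomial.C (w * w))
    · exact (Polynomial.separable_X_pow_sub_C (w * w) (by exact_mod_cast h2)
        (mul_ne_zero hw hw)).squarefree
    · rw [map_sub, map_pow, Polynomial.aeval_X, Polynomial.aeval_C,
        Algebra.algebraMap_eq_smul_one, hy, sub_self]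
  exact cent_line y hss _ hv' w hyu δ

/-- centralizing elements of every determinant, characteristic two -/
theorem cent_even (hchar : ringChar F = 2) (y : Module.End F (Fin n → F)) (w : F) (hw : w ≠ 0)
    (hy : y ^ 2 = (w * w) • 1) (hns : ∀ c' : F, y ≠ c' • 1) (δ : F) :
    ∃ h : Module.End F (Fin n → F), h * y = y * h ∧ LinearMap.det h = δ := by
  have h2 : (2 : F) = 0 := by
    have h1 := (ringChar.spec F 2).mpr (by rw [hchar])
    exact_mod_cast h1
  have hy' : ∀ u, y (y u) = (w * w) • u := by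
    intro u
    have h1 := LinearMap.congr_fun hy u
    rw [pow_two, Module.End.mul_apply, LinearMap.smul_apply, Module.End.one_apply] at h1
    exact h1
  have hww : w + w = 0 := by
    rw [← two_mul, h2, zero_mul]
  have hneg : -(w * w) = w * w := by
    have h3 : w * w + w * w = 0 := by
      rw [← two_mul, h2, zero_mul]
    exact neg_eq_of_add_eq_zero_left h3
  have hrel : ∀ u, y (y u) = (w + w) • y u + (-(w * w)) • u := by
    intro u
    rw [hy', hww, zero_smul, zero_add, hneg]
  have hex : ∃ f, y f ≠ w • f := by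
    by_contra hcon
    push Not at hcon
    exact hns w (LinearMap.ext (fun u => by
      rw [LinearMap.smul_apply, Module.End.one_apply]
      exact hcon u))
  obtain ⟨f, hf⟩ := hex
  exact cent_quad_A y w hw hrel f hf (fun δ' => by
    obtain ⟨r, hr⟩ := FiniteField.isSquare_of_char_two hchar δ'
    exact ⟨r, hr.symm⟩) δ

end Cent

end Cfsg.Agent.Lib.Helper2.Subf
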