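import Mathlib
import Cfsg.Agent.Lib.Helper2.SubfB
import Cfsg.Agent.Lib.Helper4.PSLCent2
set_option autoImplicit false
set_option maxHeartbeats 1000000
set_option linter.unusedVariables false
set_option linter.unusedSectionVars false
set_option linter.style.longLine false
set_option linter.unusedSimpArgs false
set_option linter.deprecated false
set_option linter.style.haveILetI false

/-! Involutions of `PSL_n(q)` and subfield subgroups (part C): the index of a subfield subgroup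
for an extension of odd degree in odd characteristic is odd. -/

namespace Cfsg.Agent.Lib.Helper2.Subf

open Module Cfsg.Agent.Lib.Helper2 Cfsg.Agent.Lib.Helper2.SpInv

universe u v

theorem geom_odd (a k : ℕ) (ha : Odd a) (hk : Odd k) :
    ∃ s, Odd s ∧ a ^ k - 1 = (a - 1) * s := by
  refine ⟨∑ i ∈ Finset.range k, a ^ i, ?_, ?_⟩
  · rw [Finset.odd_sum_iff_odd_card_odd]
    have h1 : (Finset.range k).filter (fun x => Odd (a ^ x)) = Finset.range k :=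
      Finset.filter_true_of_mem (fun x _ => ha.pow)
    rw [h1, Finset.card_range]
    exact hk
  · have ha1 : 1 ≤ a := ha.pos
    have hak : 1 ≤ a ^ k := Nat.one_le_pow _ _ ha1
    zify [ha1, hak]
    rw [mul_comm]
    exact (geom_sum_mul (a : ℤ) k).symm

theorem factor_odd (q₀ k N i : ℕ) (hi : i < N) (hq₀ : Odd q₀) (hk : Odd k) :
    ∃ t u, Odd t ∧ Odd u ∧ ((q₀ ^ k) ^ N - (q₀ ^ k) ^ i) * u = (q₀ ^ N - q₀ ^ i) * t := by
  obtain ⟨j, rfl⟩ : ∃ j, N = i + j := ⟨N - i, by omega⟩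
  obtain ⟨s, hs1, hs2⟩ := geom_odd (q₀ ^ j) k hq₀.pow hk
  refine ⟨(q₀ ^ k) ^ i * s, q₀ ^ i, (hq₀.pow.pow).mul hs1, hq₀.pow, ?_⟩
  have h1 : (q₀ ^ k) ^ (i + j) - (q₀ ^ k) ^ i = (q₀ ^ k) ^ i * ((q₀ ^ j) ^ k - 1) := by
    rw [pow_add, Nat.mul_sub_one, pow_right_comm q₀ j k]
  have h2 : q₀ ^ (i + j) - q₀ ^ i = q₀ ^ i * (q₀ ^ j - 1) := by
    rw [pow_add, Nat.mul_sub_one]
  rw [h1, h2, hs2]
  ring

theorem index_odd {F : Type u} [Field F] [Fintype F] (F₀ : Subfield F) (n : ℕ) (hn : 1 ≤ n)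
    (q₀ k : ℕ) (hk : Odd k) (hF₀ : Nat.card F₀ = q₀) (hq : Fintype.card F = q₀ ^ k)
    (hodd : Odd q₀) :
    ¬ 2 ∣ ((Cfsg.Geo.subfieldSubgroup F₀ 1).comap
      (Matrix.SpecialLinearGroup.toGL :
        Matrix.SpecialLinearGroup (Fin n) F →* GL (Fin n) F)).index := by
  classical
  obtain ⟨m', rfl⟩ : ∃ m', n = m' + 1 := ⟨n - 1, by omega⟩
  haveI : Fintype F₀ := Fintype.ofFinite _
  have hcard : Fintype.card F₀ = q₀ := by rw [Fintype.card_eq_nat_card, hF₀]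
  obtain ⟨φ, hφ⟩ : ∃ φ : Matrix.SpecialLinearGroup (Fin (m' + 1)) F₀ →*
      Matrix.SpecialLinearGroup (Fin (m' + 1)) F,
      φ = Matrix.SpecialLinearGroup.map (F₀.subtype : F₀ →+* F) := ⟨_, rfl⟩
  have hinj : Function.Injective φ := by
    intro A B hAB
    apply Subtype.ext
    apply Matrix.ext
    intro i j
    have h1 := congrArg (fun M : Matrix.SpecialLinearGroup (Fin (m' + 1)) F =>
      (M : Matrix (Fin (m' + 1)) (Fin (m' + 1)) F) i j) hAB
    simp only [hφ, Matrix.SpecialLinearGroup.map_apply_coe, RingHom.mapMatrix_apply,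
      Matrix.map_apply] at h1
    exact Subtype.ext h1
  have hle : φ.range ≤ (Cfsg.Geo.subfieldSubgroup F₀ 1).comap
      (Matrix.SpecialLinearGroup.toGL :
        Matrix.SpecialLinearGroup (Fin (m' + 1)) F →* GL (Fin (m' + 1)) F) := by
    rintro _ ⟨A, rfl⟩
    apply mem_of_entries F₀ _ 1 one_ne_zero
    intro i j
    rw [inv_one, one_mul, hφ, Matrix.SpecialLinearGroup.map_apply_coe, RingHom.mapMatrix_apply,
      Matrix.map_apply]
    exact ((A : Matrix (Fin (m' + 1)) (Fin (m' + 1)) F₀) i j).2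
  have hcardK : Nat.card φ.range = Nat.card (Matrix.SpecialLinearGroup (Fin (m' + 1)) F₀) :=
    Nat.card_congr (MonoidHom.ofInjective hinj).symm.toEquiv
  have hN := Cfsg.Agent.Lib.Helper4.PSLCent.card_SL_succ (F := F) m'
  have hN₀ := Cfsg.Agent.Lib.Helper4.PSLCent.card_SL_succ (F := F₀) m'
  rw [hq] at hN
  rw [hcard] at hN₀
  have hfac : ∀ i : Fin m', ∃ t u, Odd t ∧ Odd u ∧
      ((q₀ ^ k) ^ (m' + 1) - (q₀ ^ k) ^ (i : ℕ)) * u = (q₀ ^ (m' + 1) - q₀ ^ (i : ℕ)) * t :=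
    fun i => factor_odd q₀ k (m' + 1) i (by omega) hodd hk
  choose t u ht hu htu using hfac
  obtain ⟨A, hA⟩ : ∃ A, A = ∏ i : Fin m', ((q₀ ^ k) ^ (m' + 1) - (q₀ ^ k) ^ (i : ℕ)) :=
    ⟨_, rfl⟩
  obtain ⟨B, hB⟩ : ∃ B, B = ∏ i : Fin m', (q₀ ^ (m' + 1) - q₀ ^ (i : ℕ)) := ⟨_, rfl⟩
  obtain ⟨U, hU⟩ : ∃ U, U = ∏ i : Fin m', u i := ⟨_, rfl⟩
  obtain ⟨T, hT⟩ : ∃ T, T = ∏ i : Fin m', t i := ⟨_, rfl⟩
  have hprod : A * U = B * T := by
    rw [hA, hB, hU, hT, ← Finset.prod_mul_distrib, ← Finset.prod_mul_distrib]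
    exact Finset.prod_congr rfl (fun i _ => htu i)
  have hUodd : Odd U := by
    rw [hU]
    exact Finset.prod_induction _ Odd (fun a b ha hb => ha.mul hb) odd_one (fun i _ => hu i)
  have hTodd : Odd T := by
    rw [hT]
    exact Finset.prod_induction _ Odd (fun a b ha hb => ha.mul hb) odd_one (fun i _ => ht i)
  rw [← hA] at hN
  rw [← hB] at hN₀
  intro h2
  have h3 : 2 ∣ φ.range.index := dvd_trans h2 (Subgroup.index_dvd_of_le hle)
  obtain ⟨e, he⟩ := h3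
  have h4 := Subgroup.index_mul_card φ.range
  have hpos : 0 < B * q₀ ^ m' := by
    rw [← hN₀]
    exact Nat.card_pos
  rw [hcardK, he, hN, hN₀] at h4
  have h6 : (B * q₀ ^ m') * (2 * e * (U * q₀ ^ m')) = (B * q₀ ^ m') * (T * (q₀ ^ k) ^ m') := by
    calc (B * q₀ ^ m') * (2 * e * (U * q₀ ^ m')) = (2 * e * (B * q₀ ^ m')) * (U * q₀ ^ m') := by
          ring
      _ = (A * (q₀ ^ k) ^ m') * (U * q₀ ^ m') := by rw [h4]
      _ = (A * U) * ((q₀ ^ k) ^ m' * q₀ ^ m') := by ring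
      _ = (B * T) * ((q₀ ^ k) ^ m' * q₀ ^ m') := by rw [hprod]
      _ = (B * q₀ ^ m') * (T * (q₀ ^ k) ^ m') := by ring
  have h7 := Nat.eq_of_mul_eq_mul_left hpos h6
  have h8 : Odd (T * (q₀ ^ k) ^ m') := hTodd.mul (hodd.pow.pow)
  rw [← h7] at h8
  exact (Nat.not_odd_iff_even.mpr ⟨e * (U * q₀ ^ m'), by ring⟩) h8

end Cfsg.Agent.Lib.Helper2.Subf
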