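import Mathlib
import Cfsg.Agent.Lib.Helper2.ElusD
import Cfsg.Agent.Lib.Helper2.ImpF
import Cfsg.Agent.Lib.Helper2.SubfC
set_option autoImplicit false
set_option maxHeartbeats 1000000
set_option linter.unusedVariables false
set_option linter.unusedSectionVars false
set_option linter.style.longLine false
set_option linter.unusedSimpArgs false
set_option linter.deprecated false
set_option linter.style.haveILetI false

/-! Elements of odd prime order `r ≠ p` of `PSL_n(q)` and subfield subgroups (part A):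
membership in the subfield via Frobenius, elements of given order, arithmetic of orders. -/

namespace Cfsg.Agent.Lib.Helper2.Sfr

open Module Polynomial Cfsg.Agent.Lib.Helper2

universe u v

section Basic

variable {F : Type u} [Field F] [Fintype F]

/-- membership in the subfield with `q₀` elements via the Frobenius map -/
theorem mem_iff_pow (F₀ : Subfield F) (q₀ : ℕ) (hF₀ : Nat.card F₀ = q₀) (a : F) :
    a ∈ F₀ ↔ a ^ q₀ = a := by
  classical
  haveI : Fintype F₀ := Fintype.ofFinite _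
  have hcard : Fintype.card F₀ = q₀ := by rw [Fintype.card_eq_nat_card, hF₀]
  constructor
  · intro ha
    have h1 := FiniteField.pow_card (⟨a, ha⟩ : F₀)
    rw [hcard] at h1
    have h2 := congrArg (Subtype.val) h1
    simpa using h2
  · intro ha
    have hq₀ : 1 < q₀ := by
      rw [← hcard]
      exact Fintype.one_lt_card
    obtain ⟨f, hfdef⟩ : ∃ f : F[X], f = X ^ q₀ - X := ⟨_, rfl⟩
    have hf0 : f ≠ 0 := by
      rw [hfdef]
      exact FiniteField.X_pow_card_sub_X_ne_zero F hq₀
    have hdeg : f.natDegree = q₀ := by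
      rw [hfdef]
      exact FiniteField.X_pow_card_sub_X_natDegree_eq F hq₀
    obtain ⟨S, hSdef⟩ : ∃ S : Finset F, S = (Finset.univ : Finset F₀).image Subtype.val :=
      ⟨_, rfl⟩
    have hS : S.card = q₀ := by
      rw [hSdef, Finset.card_image_of_injective _ Subtype.val_injective, Finset.card_univ, hcard]
    have hroot : ∀ b : F, b ^ q₀ = b → b ∈ f.roots.toFinset := by
      intro b hb
      rw [Multiset.mem_toFinset, mem_roots hf0, hfdef, IsRoot, eval_sub, eval_pow, eval_X, hb,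
        sub_self]
    have hSroots : S ⊆ f.roots.toFinset := by
      intro b hb
      rw [hSdef] at hb
      obtain ⟨b', -, rfl⟩ := Finset.mem_image.mp hb
      apply hroot
      have h1 := FiniteField.pow_card b'
      rw [hcard] at h1
      have h2 := congrArg (Subtype.val) h1
      simpa using h2
    have hcardroots : f.roots.toFinset.card ≤ q₀ :=
      (Multiset.toFinset_card_le _).trans ((Polynomial.card_roots' f).trans hdeg.le)
    have heq : S = f.roots.toFinset :=
      Finset.eq_of_subset_of_card_le hSroots (by rw [hS]; exact hcardroots)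
    have ha' := hroot a ha
    rw [← heq, hSdef] at ha'
    obtain ⟨b, -, rfl⟩ := Finset.mem_image.mp ha'
    exact b.2

/-- elements of every order dividing `q - 1` -/
theorem exists_elt_of_order (N : ℕ) (hN : N ∣ Fintype.card F - 1) :
    ∃ ξ : F, orderOf ξ = N := by
  classical
  obtain ⟨g, hg, -⟩ := Elus.exists_gen (F := F)
  have hq1 : 0 < Fintype.card F - 1 := by
    have := Fintype.one_lt_card (α := F)
    omega
  obtain ⟨M, hM⟩ := hN
  have hM0 : M ≠ 0 := by
    rintro rfl
    omega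
  refine ⟨((g ^ M : Fˣ) : F), ?_⟩
  rw [orderOf_units, orderOf_pow_of_dvd hM0 (by rw [hg, hM]; exact dvd_mul_left M N), hg, hM,
    Nat.mul_div_cancel _ (Nat.pos_of_ne_zero hM0)]

/-- the order of the subfield is a power of the characteristic -/
theorem exists_exp {p : ℕ} [hp : Fact p.Prime] [CharP F p] (q₀ k : ℕ) (hk : 0 < k)
    (hq : Fintype.card F = q₀ ^ k) : ∃ f₀ : ℕ, q₀ = p ^ f₀ := by
  obtain ⟨f, -, hf⟩ := FiniteField.card F p
  have h1 : q₀ ∣ p ^ (f : ℕ) := by
    rw [← hf, hq]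
    exact dvd_pow_self q₀ hk.ne'
  obtain ⟨j, -, hj⟩ := (Nat.dvd_prime_pow hp.out).mp h1
  exact ⟨j, hj⟩

theorem not_dvd_card {p : ℕ} [hp : Fact p.Prime] [CharP F p] (r : ℕ) [hr : Fact r.Prime]
    (hrp : r ≠ p) : ¬ r ∣ Fintype.card F := by
  obtain ⟨f, -, hf⟩ := FiniteField.card F p
  rw [hf]
  intro h
  exact hrp ((Nat.prime_dvd_prime_iff_eq hr.out hp.out).mp (hr.out.dvd_of_dvd_pow h))

theorem natCast_ne_zero {p : ℕ} [hp : Fact p.Prime] [CharP F p] (r : ℕ) [hr : Fact r.Prime]
    (hrp : r ≠ p) : (r : F) ≠ 0 := by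
  intro h
  have h1 := (CharP.cast_eq_zero_iff F p r).mp h
  exact hrp ((Nat.prime_dvd_prime_iff_eq hp.out hr.out).mp h1).symm

end Basic

section Arith

/-- the arithmetic of the case where the `r`-parts of `|SL_n(q)|` and `|SL_n(q₀)|` differ -/
theorem beta_arith (r k q₀ n j : ℕ) [hr : Fact r.Prime] (hk : k.Prime) (hrk : r ≠ k)
    (hrq₀ : ¬ r ∣ q₀) (hj2 : 2 ≤ j) (hjn : j ≤ n)
    (hG : r ∣ ∑ l ∈ Finset.range k, (q₀ ^ j) ^ l) :
    orderOf ((q₀ : ℕ) : ZMod r) = k * orderOf (((q₀ ^ k : ℕ) : ℕ) : ZMod r) ∧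
      orderOf (((q₀ ^ k : ℕ) : ℕ) : ZMod r) ≤ n ∧
      (n = 2 → orderOf (((q₀ ^ k : ℕ) : ℕ) : ZMod r) = 1 → 3 ≤ k) := by
  obtain ⟨u, hu⟩ : ∃ u : ZMod r, u = ((q₀ : ℕ) : ZMod r) := ⟨_, rfl⟩
  have hu0 : u ≠ 0 := by
    rw [hu, Ne, ZMod.natCast_eq_zero_iff]
    exact hrq₀
  have hGz : ∑ l ∈ Finset.range k, (u ^ j) ^ l = 0 := by
    have h1 := (ZMod.natCast_eq_zero_iff _ r).mpr hG
    push_cast at h1
    rw [hu]
    exact h1
  have hujk : (u ^ j) ^ k = 1 := by
    have h1 := geom_sum_mul (u ^ j) k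
    rw [hGz, zero_mul] at h1
    exact (sub_eq_zero.mp h1.symm)
  have huj : u ^ j ≠ 1 := by
    intro h
    rw [h] at hGz
    simp only [one_pow, Finset.sum_const, Finset.card_range, nsmul_eq_mul, mul_one] at hGz
    have h1 := (ZMod.natCast_eq_zero_iff _ r).mp hGz
    exact hrk ((Nat.prime_dvd_prime_iff_eq hr.out hk).mp h1)
  have hord0 : 0 < orderOf u := by
    apply orderOf_pos_iff.mpr
    apply isOfFinOrder_iff_pow_eq_one.mpr
    exact ⟨j * k, by have := hk.pos; positivity, by rw [pow_mul]; exact hujk⟩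
  have hd1 : orderOf u ∣ j * k := by
    apply orderOf_dvd_of_pow_eq_one
    rw [pow_mul]
    exact hujk
  have hd2 : ¬ orderOf u ∣ j := fun h => huj (orderOf_dvd_iff_pow_eq_one.mp h)
  have hkd : k ∣ orderOf u := by
    by_contra hnk
    have hcop : Nat.Coprime (orderOf u) k :=
      ((Nat.Prime.coprime_iff_not_dvd hk).mpr hnk).symm
    exact hd2 (hcop.dvd_of_dvd_mul_right hd1)
  obtain ⟨d, hd⟩ := hkd
  have hd0 : 0 < d := by
    rcases Nat.eq_zero_or_pos d with h | h
    · rw [h, mul_zero] at hd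
      omega
    · exact h
  have hordk : orderOf (u ^ k) = d := by
    rw [orderOf_pow' u hk.ne_zero, hd, Nat.gcd_mul_right_left, Nat.mul_div_cancel_left _ hk.pos]
  have hcast : (((q₀ ^ k : ℕ) : ℕ) : ZMod r) = u ^ k := by
    rw [hu]
    push_cast
    rfl
  rw [hcast, hordk, ← hu]
  have hdj : d ∣ j := by
    rw [hd, mul_comm j k] at hd1
    exact Nat.dvd_of_mul_dvd_mul_left hk.pos hd1
  refine ⟨hd, (Nat.le_of_dvd (by omega) hdj).trans hjn, ?_⟩
  intro hn2 hd1'
  have hj : j = 2 := by omega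
  rw [hd1', mul_one] at hd
  rw [hd, hj] at hd2
  have hk2 := hk.two_le
  by_contra hlt
  have hk2' : k = 2 := by omega
  exact hd2 (by rw [hk2'])

end Arith

end Cfsg.Agent.Lib.Helper2.Sfr
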