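import Mathlib
import Cfsg.Agent.Lib.Helper2.SubfC
set_option autoImplicit false
set_option maxHeartbeats 1000000
set_option linter.unusedVariables false
set_option linter.unusedSectionVars false
set_option linter.style.longLine false
set_option linter.unusedSimpArgs false
set_option linter.deprecated false
set_option linter.style.haveILetI false

/-! Involutions of `PSL_n(q)` and normalizers of quadratic field subalgebras (part A): structure
of a two-dimensional field subalgebra `K = F[J]` and of its normalizer. -/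

namespace Cfsg.Agent.Lib.Helper2.Fld

open Module Cfsg.Agent.Lib.Helper2 Cfsg.Agent.Lib.Helper2.SpInv

universe u v

section KStruct

variable {F : Type u} [Field F] {n : ℕ}

/-- a generator `J` of a two-dimensional field subalgebra, with its quadratic relation -/
theorem exists_gen (hn : 0 < n) (K : Subalgebra F (Matrix (Fin n) (Fin n) F))
    (hK : Cfsg.Geo.IsFieldSubalgebra 2 K) :
    ∃ (J : Matrix (Fin n) (Fin n) F) (s t₀ : F), J ∈ K ∧ J * J = s • J + t₀ • 1 ∧
      (∀ k ∈ K, ∃ α β : F, k = α • 1 + β • J) ∧ (∀ l : F, l * l ≠ s * l + t₀) := by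
  classical
  haveI : Nonempty (Fin n) := ⟨⟨0, hn⟩⟩
  have hfin : finrank F K = 2 := hK.finrank_eq
  -- a non-scalar element
  obtain ⟨J, hJ, hJns⟩ : ∃ J ∈ K, ∀ c : F, J ≠ c • (1 : Matrix (Fin n) (Fin n) F) := by
    by_contra hcon
    push Not at hcon
    have hle : Subalgebra.toSubmodule K ≤
        Submodule.span F {(1 : Matrix (Fin n) (Fin n) F)} := by
      intro x hx
      obtain ⟨c, hc⟩ := hcon x hx
      rw [hc]
      exact Submodule.smul_mem _ _ (Submodule.subset_span rfl)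
    have h1 := Submodule.finrank_mono hle
    rw [Subalgebra.finrank_toSubmodule, hfin, finrank_span_singleton one_ne_zero] at h1
    omega
  haveI : Nontrivial K := Module.nontrivial_of_finrank_pos (R := F) (by rw [hfin]; norm_num)
  obtain ⟨Jk, hJk⟩ : ∃ Jk : K, (Jk : Matrix (Fin n) (Fin n) F) = J := ⟨⟨J, hJ⟩, rfl⟩
  have hli : LinearIndependent F ![(1 : K), Jk] := by
    rw [LinearIndependent.pair_iff' one_ne_zero]
    intro a ha
    apply hJns a
    rw [← hJk, ← ha]
    rfl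
  obtain ⟨c0, c1, -, -, -, -, hc⟩ := plane_coords (1 : K) Jk hli hfin
  have hcoe : ∀ u : K, (u : Matrix (Fin n) (Fin n) F) = c0 u • 1 + c1 u • J := by
    intro u
    have h1 := congrArg (fun x : K => (x : Matrix (Fin n) (Fin n) F)) (hc u)
    simp only [Subalgebra.coe_add, Subalgebra.coe_smul, Subalgebra.coe_one, hJk] at h1
    exact h1
  have hJJ : J * J = c1 (Jk * Jk) • J + c0 (Jk * Jk) • 1 := by
    have h1 := hcoe (Jk * Jk)
    rw [Subalgebra.coe_mul, hJk, add_comm] at h1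
    exact h1
  refine ⟨J, c1 (Jk * Jk), c0 (Jk * Jk), hJ, hJJ, ?_, ?_⟩
  · intro k hk
    exact ⟨c0 ⟨k, hk⟩, c1 ⟨k, hk⟩, hcoe ⟨k, hk⟩⟩
  · intro l hl
    obtain ⟨s, hs⟩ : ∃ s, s = c1 (Jk * Jk) := ⟨_, rfl⟩
    obtain ⟨t₀, ht₀⟩ : ∃ t₀, t₀ = c0 (Jk * Jk) := ⟨_, rfl⟩
    rw [← hs, ← ht₀] at hl hJJ
    obtain ⟨A, hA⟩ : ∃ A : Matrix (Fin n) (Fin n) F, A = J - l • 1 := ⟨_, rfl⟩
    obtain ⟨B, hB⟩ : ∃ B : Matrix (Fin n) (Fin n) F, B = J - (s - l) • 1 := ⟨_, rfl⟩
    have hAK : A ∈ K := by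
      rw [hA]
      exact K.sub_mem hJ (K.smul_mem K.one_mem _)
    have hBK : B ∈ K := by
      rw [hB]
      exact K.sub_mem hJ (K.smul_mem K.one_mem _)
    have hAB : A * B = 0 := by
      have ht : t₀ = l * l - s * l := by linear_combination -hl
      rw [hA, hB, sub_mul, mul_sub, mul_sub, smul_mul_assoc, one_mul, mul_smul_comm, mul_one,
        smul_mul_assoc, one_mul, hJJ, ht]
      module
    have hA0 : A ≠ 0 := by
      rw [hA]
      exact sub_ne_zero.mpr (hJns l)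
    have hB0 : B ≠ 0 := by
      rw [hB]
      exact sub_ne_zero.mpr (hJns (s - l))
    obtain ⟨y, hyK, hAy⟩ := hK.inv A hAK hA0
    have hyA : y * A = 1 := by rw [hK.comm y hyK A hAK, hAy]
    apply hB0
    calc B = (y * A) * B := by rw [hyA, one_mul]
      _ = 0 := by rw [mul_assoc, hAB, mul_zero]

variable (K : Subalgebra F (Matrix (Fin n) (Fin n) F)) (J : Matrix (Fin n) (Fin n) F)

theorem conj_mem (hspan : ∀ k ∈ K, ∃ α β : F, k = α • 1 + β • J) (G : GL (Fin n) F)
    (hG : (G : Matrix (Fin n) (Fin n) F) * J * ((G⁻¹ : GL (Fin n) F) : Matrix (Fin n) (Fin n) F) ∈ K) :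
    ∀ k ∈ K, (G : Matrix (Fin n) (Fin n) F) * k *
      ((G⁻¹ : GL (Fin n) F) : Matrix (Fin n) (Fin n) F) ∈ K := by
  intro k hk
  obtain ⟨α, β, rfl⟩ := hspan k hk
  have h1 : (G : Matrix (Fin n) (Fin n) F) * (α • 1 + β • J) *
      ((G⁻¹ : GL (Fin n) F) : Matrix (Fin n) (Fin n) F) = α • 1 + β • ((G : Matrix (Fin n) (Fin n) F) * J *
      ((G⁻¹ : GL (Fin n) F) : Matrix (Fin n) (Fin n) F)) := by
    rw [mul_add, add_mul, mul_smul_comm, mul_one, smul_mul_assoc, Units.mul_inv, mul_smul_comm,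
      smul_mul_assoc]
  rw [h1]
  exact K.add_mem (K.smul_mem K.one_mem _) (K.smul_mem hG _)

theorem mem_normalizer_of_conj (hspan : ∀ k ∈ K, ∃ α β : F, k = α • 1 + β • J) (M : GL (Fin n) F)
    (h1 : (M : Matrix (Fin n) (Fin n) F) * J *
      ((M⁻¹ : GL (Fin n) F) : Matrix (Fin n) (Fin n) F) ∈ K)
    (h2 : ((M⁻¹ : GL (Fin n) F) : Matrix (Fin n) (Fin n) F) * J *
      (M : Matrix (Fin n) (Fin n) F) ∈ K) :
    M ∈ Cfsg.Geo.subalgebraNormalizer K := by
  show ∀ k : Matrix (Fin n) (Fin n) F, k ∈ K ↔ (M : Matrix (Fin n) (Fin n) F) * k *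
      ((M⁻¹ : GL (Fin n) F) : Matrix (Fin n) (Fin n) F) ∈ K
  intro k
  constructor
  · exact conj_mem K J hspan M h1 k
  · intro hk
    have h3 := conj_mem K J hspan M⁻¹ (by rw [inv_inv]; exact h2) _ hk
    rw [inv_inv] at h3
    have h4 : ((M⁻¹ : GL (Fin n) F) : Matrix (Fin n) (Fin n) F) *
        ((M : Matrix (Fin n) (Fin n) F) * k *
        ((M⁻¹ : GL (Fin n) F) : Matrix (Fin n) (Fin n) F)) * (M : Matrix (Fin n) (Fin n) F) = k := by
      calc ((M⁻¹ : GL (Fin n) F) : Matrix (Fin n) (Fin n) F) *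
          ((M : Matrix (Fin n) (Fin n) F) * k *
          ((M⁻¹ : GL (Fin n) F) : Matrix (Fin n) (Fin n) F)) * (M : Matrix (Fin n) (Fin n) F)
          = (((M⁻¹ : GL (Fin n) F) : Matrix (Fin n) (Fin n) F) * (M : Matrix (Fin n) (Fin n) F)) * k *
          (((M⁻¹ : GL (Fin n) F) : Matrix (Fin n) (Fin n) F) * (M : Matrix (Fin n) (Fin n) F)) := by
            simp only [mul_assoc]
        _ = k := by rw [Units.inv_mul, one_mul, mul_one]
    rw [h4] at h3
    exact h3

/-- elements commuting with `J`, or twisting it to its conjugate, normalize `K` -/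
theorem mem_normalizer (s : F) (hJ : J ∈ K) (hspan : ∀ k ∈ K, ∃ α β : F, k = α • 1 + β • J)
    (M : GL (Fin n) F)
    (h : (M : Matrix (Fin n) (Fin n) F) * J = J * (M : Matrix (Fin n) (Fin n) F) ∨
      (M : Matrix (Fin n) (Fin n) F) * J = (s • 1 - J) * (M : Matrix (Fin n) (Fin n) F)) :
    M ∈ Cfsg.Geo.subalgebraNormalizer K := by
  have hsJ : s • (1 : Matrix (Fin n) (Fin n) F) - J ∈ K :=
    K.sub_mem (K.smul_mem K.one_mem _) hJ
  rcases h with h | h
  · apply mem_normalizer_of_conj K J hspan M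
    · rw [h, mul_assoc, Units.mul_inv, mul_one]
      exact hJ
    · rw [mul_assoc, ← h, ← mul_assoc, Units.inv_mul, one_mul]
      exact hJ
  · apply mem_normalizer_of_conj K J hspan M
    · rw [h, mul_assoc, Units.mul_inv, mul_one]
      exact hsJ
    · have h3 : ((M⁻¹ : GL (Fin n) F) : Matrix (Fin n) (Fin n) F) * J *
          (M : Matrix (Fin n) (Fin n) F) = s • 1 - J := by
        have h4 : J * (M : Matrix (Fin n) (Fin n) F) =
            s • (M : Matrix (Fin n) (Fin n) F) - (M : Matrix (Fin n) (Fin n) F) * J := by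
          rw [h, sub_mul, smul_mul_assoc, one_mul, sub_sub_cancel]
        rw [mul_assoc, h4, mul_sub, mul_smul_comm, Units.inv_mul, ← mul_assoc, Units.inv_mul,
          one_mul]
      rw [h3]
      exact hsJ

/-- elements of the normalizer commute with `J` or twist it to its conjugate -/
theorem rel_of_mem (hK : Cfsg.Geo.IsFieldSubalgebra 2 K) (s t₀ : F) (hJ : J ∈ K)
    (hJJ : J * J = s • J + t₀ • 1) (M : GL (Fin n) F)
    (hM : M ∈ Cfsg.Geo.subalgebraNormalizer K) :
    (M : Matrix (Fin n) (Fin n) F) * J = J * (M : Matrix (Fin n) (Fin n) F) ∨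
      (M : Matrix (Fin n) (Fin n) F) * J = (s • 1 - J) * (M : Matrix (Fin n) (Fin n) F) := by
  have hM' : ∀ k : Matrix (Fin n) (Fin n) F, k ∈ K ↔ (M : Matrix (Fin n) (Fin n) F) * k *
      ((M⁻¹ : GL (Fin n) F) : Matrix (Fin n) (Fin n) F) ∈ K := hM
  obtain ⟨j, hj⟩ : ∃ j : Matrix (Fin n) (Fin n) F, j = (M : Matrix (Fin n) (Fin n) F) * J *
      ((M⁻¹ : GL (Fin n) F) : Matrix (Fin n) (Fin n) F) := ⟨_, rfl⟩
  have hjK : j ∈ K := by
    rw [hj]
    exact (hM' J).mp hJ
  have hjM : j * (M : Matrix (Fin n) (Fin n) F) = (M : Matrix (Fin n) (Fin n) F) * J := by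
    rw [hj, mul_assoc, Units.inv_mul, mul_one]
  have hjj : j * j = s • j + t₀ • 1 := by
    have h1 : j * j = (M : Matrix (Fin n) (Fin n) F) * (J * J) *
        ((M⁻¹ : GL (Fin n) F) : Matrix (Fin n) (Fin n) F) := by
      rw [hj]
      calc (M : Matrix (Fin n) (Fin n) F) * J * ((M⁻¹ : GL (Fin n) F) : Matrix (Fin n) (Fin n) F) *
          ((M : Matrix (Fin n) (Fin n) F) * J * ((M⁻¹ : GL (Fin n) F) : Matrix (Fin n) (Fin n) F))
          = (M : Matrix (Fin n) (Fin n) F) * J * (((M⁻¹ : GL (Fin n) F) : Matrix (Fin n) (Fin n) F) *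
          (M : Matrix (Fin n) (Fin n) F)) * J * ((M⁻¹ : GL (Fin n) F) : Matrix (Fin n) (Fin n) F) := by
            simp only [mul_assoc]
        _ = _ := by
            rw [Units.inv_mul, mul_one]
            simp only [mul_assoc]
    rw [h1, hJJ, mul_add, add_mul, mul_smul_comm, smul_mul_assoc, mul_smul_comm, smul_mul_assoc,
      mul_one, Units.mul_inv, ← hj]
  obtain ⟨A, hA⟩ : ∃ A : Matrix (Fin n) (Fin n) F, A = j - J := ⟨_, rfl⟩
  obtain ⟨B, hB⟩ : ∃ B : Matrix (Fin n) (Fin n) F, B = j - (s • 1 - J) := ⟨_, rfl⟩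
  have hAK : A ∈ K := by
    rw [hA]
    exact K.sub_mem hjK hJ
  have hBK : B ∈ K := by
    rw [hB]
    exact K.sub_mem hjK (K.sub_mem (K.smul_mem K.one_mem _) hJ)
  have hcomm : j * J = J * j := hK.comm j hjK J hJ
  have hAB : A * B = 0 := by
    rw [hA, hB, sub_mul, mul_sub, mul_sub, mul_sub, mul_sub, mul_smul_comm, mul_one,
      mul_smul_comm, mul_one, hjj, hJJ, hcomm]
    module
  by_cases hA0 : A = 0
  · left
    rw [← hjM]
    rw [hA, sub_eq_zero] at hA0
    rw [hA0]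
  · right
    obtain ⟨y, hyK, hAy⟩ := hK.inv A hAK hA0
    have hyA : y * A = 1 := by rw [hK.comm y hyK A hAK, hAy]
    have hB0 : B = 0 := by
      calc B = (y * A) * B := by rw [hyA, one_mul]
        _ = 0 := by rw [mul_assoc, hAB, mul_zero]
    rw [hB, sub_eq_zero] at hB0
    rw [← hjM, hB0]

end KStruct

end Cfsg.Agent.Lib.Helper2.Fld
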