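import Mathlib
import Cfsg.Agent.Lib.Helper2.FldA
set_option autoImplicit false
set_option maxHeartbeats 1000000
set_option linter.unusedVariables false
set_option linter.unusedSectionVars false
set_option linter.style.longLine false
set_option linter.unusedSimpArgs false
set_option linter.deprecated false
set_option linter.style.haveILetI false

/-! Involutions of `PSL_n(q)` and normalizers of quadratic field subalgebras (part B): conjugacy of
operators with an irreducible quadratic relation, construction of such operators, the sufficiency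
criterion. -/

namespace Cfsg.Agent.Lib.Helper2.Fld

open Module Cfsg.Agent.Lib.Helper2 Cfsg.Agent.Lib.Helper2.SpInv

universe u v

section Conj

variable {F : Type u} [Field F]

theorem li_of_noroot {V : Type v} [AddCommGroup V] [Module F V] (y : Module.End F V) (s t₀ : F)
    (hrel : ∀ u, y (y u) = s • y u + t₀ • u) (hroot : ∀ l : F, l * l ≠ s * l + t₀) (f : V)
    (hf : f ≠ 0) : LinearIndependent F ![f, y f] := by
  rw [LinearIndependent.pair_iff' hf]
  intro a ha
  have h1 := hrel f
  rw [← ha, map_smul, ← ha, smul_smul, smul_smul, ← add_smul] at h1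
  have h2 : (a * a - (s * a + t₀)) • f = 0 := by rw [sub_smul, h1, sub_self]
  rcases smul_eq_zero.mp h2 with h | h
  · exact hroot a (sub_eq_zero.mp h)
  · exact hf h

/-- two operators with the same irreducible quadratic relation on spaces of the same dimension are
conjugate -/
theorem conj_quad (s t₀ : F) (hroot : ∀ l : F, l * l ≠ s * l + t₀) :
    ∀ (k : ℕ) (V V' : Type v) [AddCommGroup V] [Module F V] [FiniteDimensional F V]
      [AddCommGroup V'] [Module F V'] [FiniteDimensional F V']
      (y : Module.End F V) (y' : Module.End F V'), finrank F V = k → finrank F V' = k →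
      (∀ u, y (y u) = s • y u + t₀ • u) → (∀ u, y' (y' u) = s • y' u + t₀ • u) →
      ∃ g : V ≃ₗ[F] V', ∀ u, g (y u) = y' (g u) := by
  have ht : t₀ ≠ 0 := by
    intro h0
    exact hroot 0 (by rw [h0]; ring)
  intro k
  induction k using Nat.strong_induction_on with
  | _ k ih =>
    intro V V' _ _ _ _ _ _ y y' hfin hfin' hrel hrel'
    by_cases hk0 : k = 0
    · subst hk0
      haveI : Subsingleton V' := Module.finrank_zero_iff.mp hfin'
      exact ⟨LinearEquiv.ofFinrankEq V V' (by rw [hfin, hfin']), fun u => Subsingleton.elim _ _⟩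
    · obtain ⟨f, hf⟩ := Module.finrank_pos_iff_exists_ne_zero.mp
        (by rw [hfin]; omega : 0 < finrank F V)
      obtain ⟨f', hf'⟩ := Module.finrank_pos_iff_exists_ne_zero.mp
        (by rw [hfin']; omega : 0 < finrank F V')
      obtain ⟨P, C, hPC, hP, hC, a, b, hfP, hli, hTa, hTb, -⟩ :=
        quad_split y s t₀ hrel ht f (li_of_noroot y s t₀ hrel hroot f hf)
      obtain ⟨P', C', hPC', hP', hC', a', b', hfP', hli', hTa', hTb', -⟩ :=
        quad_split y' s t₀ hrel' ht f' (li_of_noroot y' s t₀ hrel' hroot f' hf')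
      have hsum := Submodule.finrank_add_eq_of_isCompl hPC
      have hsum' := Submodule.finrank_add_eq_of_isCompl hPC'
      obtain ⟨gC, hgC⟩ := ih (k - 2) (by omega) C C' (y.restrict hC) (y'.restrict hC')
        (by omega) (by omega) (by
          intro u
          apply Subtype.ext
          rw [LinearMap.restrict_coe_apply, LinearMap.restrict_coe_apply, Submodule.coe_add,
            Submodule.coe_smul, Submodule.coe_smul, LinearMap.restrict_coe_apply]
          exact hrel _) (by
          intro u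
          apply Subtype.ext
          rw [LinearMap.restrict_coe_apply, LinearMap.restrict_coe_apply, Submodule.coe_add,
            Submodule.coe_smul, Submodule.coe_smul, LinearMap.restrict_coe_apply]
          exact hrel' _)
      obtain ⟨bP, hb0, hb1⟩ := plane_basis a b hli hfP
      obtain ⟨bP', hb0', hb1'⟩ := plane_basis a' b' hli' hfP'
      obtain ⟨gP, hgPdef⟩ : ∃ gP : P ≃ₗ[F] P', gP = bP.equiv bP' (Equiv.refl _) := ⟨_, rfl⟩
      have hga : gP a = a' := by
        rw [hgPdef, ← hb0, Basis.equiv_apply, Equiv.refl_apply, hb0']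
      have hgb : gP b = b' := by
        rw [hgPdef, ← hb1, Basis.equiv_apply, Equiv.refl_apply, hb1']
      have hgP : ∀ u, gP (y.restrict hP u) = y'.restrict hP' (gP u) := by
        have h1 : (gP : P →ₗ[F] P') ∘ₗ (y.restrict hP) =
            (y'.restrict hP') ∘ₗ (gP : P →ₗ[F] P') := by
          apply bP.ext
          intro i
          have hi : i = 0 ∨ i = 1 := by
            rcases i with ⟨i, hi⟩
            interval_cases i
            · left; rfl
            · right; rfl
          rcases hi with rfl | rfl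
          · rw [LinearMap.comp_apply, LinearMap.comp_apply, hb0, hTa]
            show gP ((0 : F) • a + (1 : F) • b) = y'.restrict hP' (gP a)
            rw [hga, hTa', map_add, map_smul, map_smul, hga, hgb]
          · rw [LinearMap.comp_apply, LinearMap.comp_apply, hb1, hTb]
            show gP (t₀ • a + s • b) = y'.restrict hP' (gP b)
            rw [hgb, hTb', map_add, map_smul, map_smul, hga, hgb]
        intro u
        exact LinearMap.congr_fun h1 u
      refine ⟨(P.prodEquivOfIsCompl C hPC).symm.trans ((gP.prodCongr gC).trans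
        (P'.prodEquivOfIsCompl C' hPC')), ?_⟩
      intro u
      rw [LinearEquiv.trans_apply, LinearEquiv.trans_apply, LinearEquiv.trans_apply,
        LinearEquiv.trans_apply, Submodule.prodEquivOfIsCompl_symm_apply,
        Submodule.prodEquivOfIsCompl_symm_apply, LinearEquiv.prodCongr_apply,
        LinearEquiv.prodCongr_apply, Submodule.coe_prodEquivOfIsCompl',
        Submodule.coe_prodEquivOfIsCompl']
      dsimp only
      rw [proj_restrict hPC y hP hC, proj_restrict hPC.symm y hC hP, hgP, hgC, map_add,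
        LinearMap.restrict_coe_apply, LinearMap.restrict_coe_apply]

/-- an operator with a prescribed quadratic relation on an even dimensional space -/
theorem exists_quad_op (s t₀ : F) (W : Type v) [AddCommGroup W] [Module F W]
    [FiniteDimensional F W] (k : ℕ) (hfin : finrank F W = 2 * k) :
    ∃ A : Module.End F W, A * A = s • A + t₀ • 1 := by
  obtain ⟨e⟩ : Nonempty (W ≃ₗ[F] ((Fin k → F) × (Fin k → F))) :=
    ⟨LinearEquiv.ofFinrankEq _ _ (by
      rw [hfin, Module.finrank_prod, Module.finrank_fin_fun]; ring)⟩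
  obtain ⟨A₀, hA₀⟩ : ∃ A₀ : Module.End F ((Fin k → F) × (Fin k → F)),
      ∀ u v, A₀ (u, v) = (t₀ • v, u + s • v) :=
    ⟨LinearMap.prod (t₀ • LinearMap.snd F _ _) (LinearMap.fst F _ _ + s • LinearMap.snd F _ _),
      fun u v => rfl⟩
  have h1 : A₀ * A₀ = s • A₀ + t₀ • 1 := by
    apply LinearMap.ext
    rintro ⟨u, v⟩
    rw [Module.End.mul_apply, hA₀, hA₀, LinearMap.add_apply, LinearMap.smul_apply,
      LinearMap.smul_apply, Module.End.one_apply, hA₀]
    refine Prod.ext ?_ ?_
    · funext i
      simp only [Prod.smul_mk, Prod.mk_add_mk, Pi.add_apply, Pi.smul_apply, smul_eq_mul]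
      ring
    · funext i
      simp only [Prod.smul_mk, Prod.mk_add_mk, Pi.add_apply, Pi.smul_apply, smul_eq_mul]
      ring
  refine ⟨LinearEquiv.conjAlgEquiv F e.symm A₀, ?_⟩
  rw [← map_mul, h1, map_add, map_smul, map_smul, map_one]

/-- gluing quadratic operators on the two eigenspaces of a split involution -/
theorem exists_glue {V : Type v} [AddCommGroup V] [Module F V] [FiniteDimensional F V]
    {P C : Submodule F V} (hPC : IsCompl P C) (s t₀ : F) (A : Module.End F P)
    (B : Module.End F C) (hA : A * A = s • A + t₀ • 1) (hB : B * B = s • B + t₀ • 1)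
    (y : Module.End F V) (hP : ∀ x ∈ P, y x ∈ P) (hC : ∀ x ∈ C, y x ∈ C) (α β : F)
    (hyP : y.restrict hP = α • 1) (hyC : y.restrict hC = β • 1) :
    ∃ J' : Module.End F V, J' * J' = s • J' + t₀ • 1 ∧ y * J' = J' * y := by
  refine ⟨LinearEquiv.conjAlgEquiv F (P.prodEquivOfIsCompl C hPC) (LinearMap.prodMap A B), ?_, ?_⟩
  · rw [← map_mul, LinearMap.prodMap_mul, hA, hB, LinearMap.prodMap_add, LinearMap.prodMap_smul,
      LinearMap.prodMap_smul, LinearMap.prodMap_one, map_add, map_smul, map_smul, map_one]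
  · have hy := conj_prod hPC y hP hC
    rw [hyP, hyC] at hy
    rw [hy, ← map_mul, ← map_mul, LinearMap.prodMap_mul, LinearMap.prodMap_mul,
      smul_mul_assoc, one_mul, mul_smul_comm, mul_one, smul_mul_assoc, one_mul, mul_smul_comm,
      mul_one]

end Conj

section Suff

variable {F : Type u} [Field F] {n : ℕ}

open Matrix in
/-- conjugating by an arbitrary linear equivalence can be realised inside `SL` when the centralizer
has elements of all determinants -/
theorem exists_P_of_conj (x : Matrix.SpecialLinearGroup (Fin n) F)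
    (g₀ : (Fin n → F) ≃ₗ[F] (Fin n → F))
    (hcent : ∀ δ : F, δ ≠ 0 → ∃ h : Module.End F (Fin n → F),
      h * Matrix.toLin' (x : Matrix (Fin n) (Fin n) F) =
        Matrix.toLin' (x : Matrix (Fin n) (Fin n) F) * h ∧ LinearMap.det h = δ) :
    ∃ P : Matrix.SpecialLinearGroup (Fin n) F, ∀ u,
      ((P⁻¹ * x * P : Matrix.SpecialLinearGroup (Fin n) F) : Matrix (Fin n) (Fin n) F) *ᵥ u =
      g₀ (Matrix.toLin' (x : Matrix (Fin n) (Fin n) F) (g₀.symm u)) := by
  classical
  have hd0 : LinearMap.det (g₀ : (Fin n → F) →ₗ[F] (Fin n → F)) ≠ 0 :=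
    (LinearEquiv.isUnit_det' g₀).ne_zero
  obtain ⟨h, hcomm, hdet⟩ := hcent (LinearMap.det (g₀ : (Fin n → F) →ₗ[F] (Fin n → F)))⁻¹
    (inv_ne_zero hd0)
  have hh0 : LinearMap.det h ≠ 0 := by
    rw [hdet]
    exact inv_ne_zero hd0
  obtain ⟨hE, hhE⟩ : ∃ hE : (Fin n → F) ≃ₗ[F] (Fin n → F), ∀ u, hE u = h u :=
    ⟨LinearMap.equivOfDetNeZero h hh0, fun u => rfl⟩
  obtain ⟨g, hgdef⟩ : ∃ g : (Fin n → F) ≃ₗ[F] (Fin n → F), g = hE.trans g₀ := ⟨_, rfl⟩
  have hg : LinearMap.det (g : (Fin n → F) →ₗ[F] (Fin n → F)) = 1 := by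
    have h1 : (g : (Fin n → F) →ₗ[F] (Fin n → F)) =
        (g₀ : (Fin n → F) →ₗ[F] (Fin n → F)) ∘ₗ h := by
      apply LinearMap.ext
      intro u
      rw [hgdef]
      show g₀ (hE u) = g₀ (h u)
      rw [hhE]
    rw [h1, LinearMap.det_comp, hdet, mul_inv_cancel₀ hd0]
  have h3 : ∀ v, hE (Matrix.toLin' (x : Matrix (Fin n) (Fin n) F) (hE.symm v)) =
      Matrix.toLin' (x : Matrix (Fin n) (Fin n) F) v := by
    intro v
    rw [hhE]
    have h4 := LinearMap.congr_fun hcomm (hE.symm v)
    rw [Module.End.mul_apply, Module.End.mul_apply] at h4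
    rw [h4, ← hhE, hE.apply_symm_apply]
  have hdet' : LinearMap.det (g.symm : (Fin n → F) →ₗ[F] (Fin n → F)) = 1 := by
    have h1 := LinearEquiv.det_mul_det_symm g
    rw [hg, one_mul] at h1
    exact h1
  obtain ⟨P, hPdef⟩ : ∃ P : Matrix.SpecialLinearGroup (Fin n) F,
      P = Elus.toSL (g.symm : (Fin n → F) →ₗ[F] (Fin n → F)) hdet' := ⟨_, rfl⟩
  have hP1 : ∀ u, Matrix.toLin' P.1 u = g.symm u := by
    intro u
    rw [hPdef, Elus.toLin'_toSL]
    rfl
  have hcomp : (Matrix.toLin' (P⁻¹ : Matrix.SpecialLinearGroup (Fin n) F).1) ∘ₗ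
      (Matrix.toLin' P.1) = LinearMap.id := by
    rw [← Matrix.toLin'_mul, ← Matrix.SpecialLinearGroup.coe_mul, inv_mul_cancel,
      Matrix.SpecialLinearGroup.coe_one, Matrix.toLin'_one]
  have hP2 : ∀ u, Matrix.toLin' (P⁻¹ : Matrix.SpecialLinearGroup (Fin n) F).1 u = g u := by
    intro u
    have h1 := LinearMap.congr_fun hcomp (g u)
    rw [LinearMap.comp_apply, hP1, g.symm_apply_apply, LinearMap.id_apply] at h1
    exact h1
  refine ⟨P, fun u => ?_⟩
  have hmv : ((P⁻¹ * x * P : Matrix.SpecialLinearGroup (Fin n) F) :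
      Matrix (Fin n) (Fin n) F) *ᵥ u =
      g (Matrix.toLin' (x : Matrix (Fin n) (Fin n) F) (g.symm u)) := by
    rw [Matrix.SpecialLinearGroup.coe_mul, Matrix.SpecialLinearGroup.coe_mul,
      ← Matrix.mulVec_mulVec, ← Matrix.mulVec_mulVec, ← hP1, ← hP2, Matrix.toLin'_apply,
      Matrix.toLin'_apply, Matrix.toLin'_apply]
  rw [hmv, hgdef]
  show g₀ (hE (Matrix.toLin' (x : Matrix (Fin n) (Fin n) F) (hE.symm (g₀.symm u)))) = _
  rw [h3]

open Matrix in
/-- sufficiency criterion: an operator with the relation of `J` which commutes with `x` or is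
twisted by `x` -/
theorem suff_main (K : Subalgebra F (Matrix (Fin n) (Fin n) F)) (J : Matrix (Fin n) (Fin n) F)
    (s t₀ : F) (hJ : J ∈ K) (hJJ : J * J = s • J + t₀ • 1)
    (hspan : ∀ k ∈ K, ∃ α β : F, k = α • 1 + β • J) (hroot : ∀ l : F, l * l ≠ s * l + t₀)
    (x : Matrix.SpecialLinearGroup (Fin n) F) (J' : Module.End F (Fin n → F))
    (hJ' : J' * J' = s • J' + t₀ • 1)
    (hx : Matrix.toLin' (x : Matrix (Fin n) (Fin n) F) * J' =
        J' * Matrix.toLin' (x : Matrix (Fin n) (Fin n) F) ∨
      Matrix.toLin' (x : Matrix (Fin n) (Fin n) F) * J' =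
        (s • 1 - J') * Matrix.toLin' (x : Matrix (Fin n) (Fin n) F))
    (hcent : ∀ δ : F, δ ≠ 0 → ∃ h : Module.End F (Fin n → F),
      h * Matrix.toLin' (x : Matrix (Fin n) (Fin n) F) =
        Matrix.toLin' (x : Matrix (Fin n) (Fin n) F) * h ∧ LinearMap.det h = δ) :
    ∃ P : Matrix.SpecialLinearGroup (Fin n) F, P⁻¹ * x * P ∈
      (Cfsg.Geo.subalgebraNormalizer K).comap
      (Matrix.SpecialLinearGroup.toGL : Matrix.SpecialLinearGroup (Fin n) F →* GL (Fin n) F) := by
  classical
  obtain ⟨X, hX⟩ : ∃ X : Module.End F (Fin n → F),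
      X = Matrix.toLin' (x : Matrix (Fin n) (Fin n) F) := ⟨_, rfl⟩
  rw [← hX] at hx
  obtain ⟨Jl, hJl⟩ : ∃ Jl : Module.End F (Fin n → F), Jl = Matrix.toLin' J := ⟨_, rfl⟩
  have hJlrel : ∀ u, Jl (Jl u) = s • Jl u + t₀ • u := by
    intro u
    have h1 := congrArg (fun A : Matrix (Fin n) (Fin n) F => Matrix.toLin' A u) hJJ
    simp only [Matrix.toLin'_mul, map_add, map_smul, Matrix.toLin'_one] at h1
    rw [hJl]
    exact h1
  have hJ'rel : ∀ u, J' (J' u) = s • J' u + t₀ • u := by
    intro u
    have h1 := LinearMap.congr_fun hJ' u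
    rw [Module.End.mul_apply, LinearMap.add_apply, LinearMap.smul_apply, LinearMap.smul_apply,
      Module.End.one_apply] at h1
    exact h1
  obtain ⟨g₀, hg₀⟩ := conj_quad s t₀ hroot n (Fin n → F) (Fin n → F) J' Jl
    (Module.finrank_fin_fun F) (Module.finrank_fin_fun F) hJ'rel hJlrel
  obtain ⟨P, hP⟩ := exists_P_of_conj x g₀ hcent
  refine ⟨P, ?_⟩
  rw [Subgroup.mem_comap]
  obtain ⟨M, hM⟩ : ∃ M : Matrix (Fin n) (Fin n) F,
      M = ((P⁻¹ * x * P : Matrix.SpecialLinearGroup (Fin n) F) : Matrix (Fin n) (Fin n) F) :=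
    ⟨_, rfl⟩
  rw [← hM, ← hX] at hP
  have hsymm : ∀ u, g₀.symm (Jl u) = J' (g₀.symm u) := by
    intro u
    apply g₀.injective
    rw [g₀.apply_symm_apply, hg₀, g₀.apply_symm_apply]
  have hrel : M * J = J * M ∨ M * J = (s • 1 - J) * M := by
    rcases hx with h | h
    · left
      apply Matrix.toLin'.injective
      apply LinearMap.ext
      intro u
      rw [Matrix.toLin'_mul, Matrix.toLin'_mul, LinearMap.comp_apply, LinearMap.comp_apply,
        ← hJl, Matrix.toLin'_apply, Matrix.toLin'_apply M, hP, hP, hsymm]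
      have h1 := LinearMap.congr_fun h (g₀.symm u)
      rw [Module.End.mul_apply, Module.End.mul_apply] at h1
      rw [h1, hg₀]
    · right
      apply Matrix.toLin'.injective
      apply LinearMap.ext
      intro u
      rw [Matrix.toLin'_mul, Matrix.toLin'_mul, LinearMap.comp_apply, LinearMap.comp_apply,
        map_sub, map_smul, Matrix.toLin'_one, ← hJl, Matrix.toLin'_apply, Matrix.toLin'_apply M,
        hP, hP, hsymm]
      have h1 := LinearMap.congr_fun h (g₀.symm u)
      rw [Module.End.mul_apply, Module.End.mul_apply, LinearMap.sub_apply, LinearMap.smul_apply,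
        Module.End.one_apply] at h1
      rw [h1, map_sub, map_smul, hg₀, LinearMap.sub_apply, LinearMap.smul_apply,
        LinearMap.id_apply]
  exact mem_normalizer K J s hJ hspan _ (by rw [hM] at hrel; exact hrel)

end Suff

end Cfsg.Agent.Lib.Helper2.Fld
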