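import Mathlib
import Cfsg.Agent.Lib.Helper2.FldB
set_option autoImplicit false
set_option maxHeartbeats 1000000
set_option linter.unusedVariables false
set_option linter.unusedSectionVars false
set_option linter.style.longLine false
set_option linter.unusedSimpArgs false
set_option linter.deprecated false
set_option linter.style.haveILetI false

/-! Involutions of `PSL_n(q)` and normalizers of quadratic field subalgebras (part C): the
auxiliary quadratic operators in the three sufficiency cases, the necessity criterion, and the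
reflection / transvection type elements. -/

namespace Cfsg.Agent.Lib.Helper2.Fld

open Module Cfsg.Agent.Lib.Helper2 Cfsg.Agent.Lib.Helper2.SpInv Cfsg.Agent.Lib.Helper2.SpSl

universe u v

section Sq

variable {F : Type u} [Field F] [Fintype F]

theorem exists_sq_ratio (h2 : (2 : F) ≠ 0) (a b : F) (ha : ∀ e : F, e * e ≠ a)
    (hb : ∀ e : F, e * e ≠ b) : ∃ β : F, β * β * b = a := by
  have hchar := Subf.ringChar_ne_two h2
  have ha0 : a ≠ 0 := fun h0 => ha 0 (by rw [h0, mul_zero])
  have hb0 : b ≠ 0 := fun h0 => hb 0 (by rw [h0, mul_zero])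
  have hae : a ^ (Fintype.card F / 2) = -1 := by
    rcases FiniteField.pow_dichotomy hchar ha0 with h | h
    · exfalso
      obtain ⟨r, hr⟩ := (FiniteField.isSquare_iff hchar ha0).mpr h
      exact ha r hr.symm
    · exact h
  have hbe : b ^ (Fintype.card F / 2) = -1 := by
    rcases FiniteField.pow_dichotomy hchar hb0 with h | h
    · exfalso
      obtain ⟨r, hr⟩ := (FiniteField.isSquare_iff hchar hb0).mpr h
      exact hb r hr.symm
    · exact h
  have hab0 : a * b⁻¹ ≠ 0 := mul_ne_zero ha0 (inv_ne_zero hb0)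
  have h1 : (a * b⁻¹) ^ (Fintype.card F / 2) = 1 := by
    rw [mul_pow, inv_pow, hae, hbe]
    norm_num
  obtain ⟨r, hr⟩ := (FiniteField.isSquare_iff hchar hab0).mpr h1
  refine ⟨r, ?_⟩
  rw [← hr, mul_assoc, inv_mul_cancel₀ hb0, mul_one]

/-- case of a nonsquare scalar: a polynomial in `X` -/
theorem exists_J_nonsq {V : Type v} [AddCommGroup V] [Module F V] (h2 : (2 : F) ≠ 0) (s t₀ : F)
    (hroot : ∀ l : F, l * l ≠ s * l + t₀) (X : Module.End F V) (z : F) (hX : X * X = z • 1)
    (hz : ∀ w : F, w * w ≠ z) :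
    ∃ J' : Module.End F V, J' * J' = s • J' + t₀ • 1 ∧ X * J' = J' * X := by
  obtain ⟨c, hc⟩ : ∃ c : F, s = c + c := ⟨s * 2⁻¹, by
    rw [← two_mul, ← mul_assoc, mul_comm 2 s, mul_assoc, mul_inv_cancel₀ h2, mul_one]⟩
  subst hc
  have hE : ∀ e : F, e * e ≠ c * c + t₀ := by
    intro e he
    exact hroot (c + e) (by linear_combination he)
  obtain ⟨β, hβ⟩ := exists_sq_ratio h2 (c * c + t₀) z hE hz
  have ht : t₀ = β * β * z - c * c := by linear_combination -hβ
  subst ht
  refine ⟨c • 1 + β • X, ?_, ?_⟩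
  · have h1 : (c • (1 : Module.End F V) + β • X) * (c • 1 + β • X) =
        (c * c) • 1 + (c * β + β * c) • X + (β * β) • (X * X) := by
      simp only [add_mul, mul_add, smul_mul_assoc, mul_smul_comm, one_mul, mul_one, smul_smul]
      module
    rw [h1, hX]
    module
  · rw [mul_add, add_mul, mul_smul_comm, mul_one, smul_mul_assoc, one_mul, mul_smul_comm,
      smul_mul_assoc]

/-- case of a split involution with even dimensional eigenspaces -/
theorem exists_J_split {n : ℕ} (h2 : (2 : F) ≠ 0) (hn0 : 0 < n) (hn : Even n)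
    (hv : padicValNat 2 (Fintype.card F - 1) ≤ padicValNat 2 n) (s t₀ : F)
    (X : Module.End F (Fin n → F)) (hdet : LinearMap.det X = 1) (w : F) (hw : w ≠ 0)
    (hX : ∀ u, X (X u) = (w * w) • u) :
    ∃ J' : Module.End F (Fin n → F), J' * J' = s • J' + t₀ • 1 ∧ X * J' = J' * X := by
  obtain ⟨hP, hC, hPC, hrP, hrC⟩ := split_data X w hw h2 hX
  have hXP : X.restrict hP = w • (1 : Module.End F (LinearMap.ker (X - w • 1))) :=
    LinearMap.ext (fun x => by
      rw [hrP, LinearMap.smul_apply, Module.End.one_apply])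
  have hXC : X.restrict hC = (-w) • (1 : Module.End F (LinearMap.ker (X + w • 1))) :=
    LinearMap.ext (fun x => by
      rw [hrC, LinearMap.smul_apply, Module.End.one_apply])
  have hdetP : LinearMap.det (X.restrict hP) = w ^ finrank F (LinearMap.ker (X - w • 1)) := by
    rw [hXP, LinearMap.det_smul, map_one, mul_one]
  have hdetC : LinearMap.det (X.restrict hC) =
      (-w) ^ finrank F (LinearMap.ker (X + w • 1)) := by
    rw [hXC, LinearMap.det_smul, map_one, mul_one]
  have hdd := det_isCompl hPC X hP hC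
  rw [hdet, hdetP, hdetC] at hdd
  have hsum := Submodule.finrank_add_eq_of_isCompl hPC
  rw [Module.finrank_fin_fun] at hsum
  have hevC : Even (finrank F (LinearMap.ker (X + w • 1))) := by
    rw [← Nat.not_odd_iff_even]
    intro hoddC
    rw [hoddC.neg_pow, mul_neg, ← pow_add, hsum] at hdd
    exact no_root_neg_one (F := F) h2 n hn0 hv w hw (by linear_combination hdd)
  obtain ⟨k₂, hk₂⟩ := hevC
  obtain ⟨m, hm⟩ := hn
  obtain ⟨A, hA⟩ := exists_quad_op s t₀ (LinearMap.ker (X - w • 1)) (m - k₂) (by omega)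
  obtain ⟨B, hB⟩ := exists_quad_op s t₀ (LinearMap.ker (X + w • 1)) k₂ (by omega)
  exact exists_glue hPC s t₀ A B hA hB X hP hC w (-w) hXP hXC

omit [Fintype F] in
theorem exists_li_of_nonscalar {V : Type v} [AddCommGroup V] [Module F V] (X : Module.End F V)
    (hns : ∀ c : F, X ≠ c • 1) : ∃ f, LinearIndependent F ![f, X f] := by
  by_contra hcon
  push Not at hcon
  have heig : ∀ f : V, f ≠ 0 → ∃ μ : F, μ • f = X f := by
    intro f hf
    have h1 := hcon f
    rw [LinearIndependent.pair_iff' hf] at h1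
    push Not at h1
    exact h1
  by_cases hV : ∀ f : V, f = 0
  · apply hns 0
    apply LinearMap.ext
    intro u
    rw [hV u, map_zero, map_zero]
  · push Not at hV
    obtain ⟨f₀, hf₀⟩ := hV
    obtain ⟨μ₀, hμ₀⟩ := heig f₀ hf₀
    apply hns μ₀
    apply LinearMap.ext
    intro v
    rw [LinearMap.smul_apply, Module.End.one_apply]
    by_cases hv : v = 0
    · rw [hv, map_zero, smul_zero]
    · obtain ⟨μ, hμ⟩ := heig v hv
      by_cases hli : LinearIndependent F ![v, f₀]
      · have hpair := LinearIndependent.pair_iff.mp hli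
        have hvf : v + f₀ ≠ 0 := by
          intro h0
          have h1 := hpair 1 1 (by rw [one_smul, one_smul]; exact h0)
          exact one_ne_zero h1.1
        obtain ⟨ν, hν⟩ := heig (v + f₀) hvf
        rw [map_add, ← hμ, ← hμ₀, smul_add] at hν
        have h3 : (ν - μ) • v + (ν - μ₀) • f₀ = 0 := by
          have h4 := sub_eq_zero.mpr hν
          rw [← h4]
          module
        obtain ⟨h5, h6⟩ := hpair _ _ h3
        have h7 : μ = μ₀ := by
          rw [← sub_eq_zero.mp h5, sub_eq_zero.mp h6]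
        rw [← hμ, h7]
      · rw [LinearIndependent.pair_iff' hv] at hli
        push Not at hli
        obtain ⟨a, ha⟩ := hli
        have ha0 : a ≠ 0 := by
          rintro rfl
          rw [zero_smul] at ha
          exact hf₀ ha.symm
        have h1 : a • X v = a • (μ₀ • v) := by
          rw [← map_smul, ha, ← hμ₀, ← ha, smul_comm]
        exact smul_right_injective V ha0 h1

theorem exists_ae (s t₀ : F) : ∃ a e : F, a * a - s * a - e * e = t₀ := by
  classical
  by_cases hodd : Fintype.card F % 2 = 1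
  · obtain ⟨a, e, h⟩ := FiniteField.exists_root_sum_quadratic
      (f := Polynomial.C (1 : F) * Polynomial.X ^ 2 + Polynomial.C (-s) * Polynomial.X +
        Polynomial.C (-t₀))
      (g := Polynomial.C (-1 : F) * Polynomial.X ^ 2 + Polynomial.C 0 * Polynomial.X +
        Polynomial.C 0)
      (Polynomial.degree_quadratic one_ne_zero)
      (Polynomial.degree_quadratic (neg_ne_zero.mpr one_ne_zero)) hodd
    refine ⟨a, e, ?_⟩
    simp only [Polynomial.eval_pow, Polynomial.eval_X, Polynomial.eval_add, Polynomial.eval_mul,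
      Polynomial.eval_C] at h
    linear_combination h
  · have hchar : ringChar F = 2 := FiniteField.even_card_iff_char_two.mpr (by omega)
    haveI : CharP F 2 := ringChar.of_eq hchar
    obtain ⟨e, he⟩ := FiniteField.isSquare_of_char_two hchar t₀
    refine ⟨0, e, ?_⟩
    rw [mul_zero, mul_zero, sub_zero, zero_sub, CharTwo.neg_eq]
    exact he.symm

/-- the two dimensional case: an operator twisted by `X` -/
theorem exists_J_two {V : Type v} [AddCommGroup V] [Module F V] [FiniteDimensional F V]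
    (hfin : finrank F V = 2) (s t₀ : F) (X : Module.End F V) (w : F) (hw : w ≠ 0)
    (hX : ∀ u, X (X u) = (w * w) • u) (hns : ∀ c : F, X ≠ c • 1) :
    ∃ J' : Module.End F V, J' * J' = s • J' + t₀ • 1 ∧ X * J' = (s • 1 - J') * X := by
  obtain ⟨f₁, hli⟩ := exists_li_of_nonscalar X hns
  have hf₁ : f₁ ≠ 0 := hli.ne_zero 0
  obtain ⟨f₂, hf₂⟩ : ∃ f₂, f₂ = w⁻¹ • X f₁ := ⟨_, rfl⟩
  have hX1 : X f₁ = w • f₂ := by
    rw [hf₂, smul_smul, mul_inv_cancel₀ hw, one_smul]
  have hX2 : X f₂ = w • f₁ := by
    rw [hf₂, map_smul, hX, smul_smul]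
    congr 1
    field_simp
  have hli2 : LinearIndependent F ![f₁, f₂] := by
    rw [LinearIndependent.pair_iff' hf₁]
    intro a ha
    have h1 := (LinearIndependent.pair_iff' hf₁).mp hli (w * a)
    apply h1
    rw [hX1, ← ha, smul_smul]
  obtain ⟨a, e, hae⟩ := exists_ae s t₀
  subst hae
  obtain ⟨bas, hb0, hb1⟩ := plane_basis f₁ f₂ hli2 hfin
  obtain ⟨J', hJ'⟩ : ∃ J' : Module.End F V,
      J' = bas.constr F ![a • f₁ - e • f₂, e • f₁ + (s - a) • f₂] := ⟨_, rfl⟩
  have hJ1 : J' f₁ = a • f₁ - e • f₂ := by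
    have h1 : J' (bas 0) = a • f₁ - e • f₂ := by
      rw [hJ', Basis.constr_basis]
      rfl
    rw [hb0] at h1
    exact h1
  have hJ2 : J' f₂ = e • f₁ + (s - a) • f₂ := by
    have h1 : J' (bas 1) = e • f₁ + (s - a) • f₂ := by
      rw [hJ', Basis.constr_basis]
      rfl
    rw [hb1] at h1
    exact h1
  have hcases : ∀ i : Fin 2, i = 0 ∨ i = 1 := by
    intro i
    rcases i with ⟨i, hi⟩
    interval_cases i
    · left; rfl
    · right; rfl
  refine ⟨J', ?_, ?_⟩
  · apply bas.ext
    intro i
    rcases hcases i with rfl | rfl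
    · rw [hb0, Module.End.mul_apply, LinearMap.add_apply, LinearMap.smul_apply,
        LinearMap.smul_apply, Module.End.one_apply, hJ1, map_sub, map_smul, map_smul, hJ1, hJ2]
      module
    · rw [hb1, Module.End.mul_apply, LinearMap.add_apply, LinearMap.smul_apply,
        LinearMap.smul_apply, Module.End.one_apply, hJ2, map_add, map_smul, map_smul, hJ1, hJ2]
      module
  · apply bas.ext
    intro i
    rcases hcases i with rfl | rfl
    · rw [hb0, Module.End.mul_apply, Module.End.mul_apply, LinearMap.sub_apply,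
        LinearMap.smul_apply, Module.End.one_apply, hJ1, map_sub, map_smul, map_smul, hX1, hX2,
        map_smul, hJ2]
      module
    · rw [hb1, Module.End.mul_apply, Module.End.mul_apply, LinearMap.sub_apply,
        LinearMap.smul_apply, Module.End.one_apply, hJ2, map_add, map_smul, map_smul, hX1, hX2,
        map_smul, hJ1]
      module

end Sq

section Nec

variable {F : Type u} [Field F] [Fintype F] {n : ℕ}

open Matrix in
/-- elements of the normalizer of `K` are not of reflection / transvection type (up to scalars) -/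
theorem nec_main (hn : 3 ≤ n) (K : Subalgebra F (Matrix (Fin n) (Fin n) F))
    (hK : Cfsg.Geo.IsFieldSubalgebra 2 K) (J : Matrix (Fin n) (Fin n) F) (s t₀ : F) (hJ : J ∈ K)
    (hJJ : J * J = s • J + t₀ • 1) (hroot : ∀ l : F, l * l ≠ s * l + t₀)
    (M : Matrix.SpecialLinearGroup (Fin n) F)
    (hM : M ∈ (Cfsg.Geo.subalgebraNormalizer K).comap
      (Matrix.SpecialLinearGroup.toGL : Matrix.SpecialLinearGroup (Fin n) F →* GL (Fin n) F))
    (w : F) :
    finrank F (LinearMap.ker ((Matrix.toLin' (M : Matrix (Fin n) (Fin n) F) :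
      Module.End F (Fin n → F)) - w • 1)) ≠ n - 1 := by
  classical
  intro hker
  rw [Subgroup.mem_comap] at hM
  have hrel : (M : Matrix (Fin n) (Fin n) F) * J = J * (M : Matrix (Fin n) (Fin n) F) ∨
      (M : Matrix (Fin n) (Fin n) F) * J = (s • 1 - J) * (M : Matrix (Fin n) (Fin n) F) :=
    rel_of_mem K J hK s t₀ hJ hJJ _ hM
  obtain ⟨T, hT⟩ : ∃ T : Module.End F (Fin n → F),
      T = Matrix.toLin' (M : Matrix (Fin n) (Fin n) F) := ⟨_, rfl⟩
  obtain ⟨Jl, hJl⟩ : ∃ Jl : Module.End F (Fin n → F), Jl = Matrix.toLin' J := ⟨_, rfl⟩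
  rw [← hT] at hker
  have hJlrel : ∀ u, Jl (Jl u) = s • Jl u + t₀ • u := by
    intro u
    have h1 := congrArg (fun A : Matrix (Fin n) (Fin n) F => Matrix.toLin' A u) hJJ
    simp only [Matrix.toLin'_mul, map_add, map_smul, Matrix.toLin'_one] at h1
    rw [hJl]
    exact h1
  have hrange : finrank F (LinearMap.range (T - w • 1)) = 1 := by
    have h1 := LinearMap.finrank_range_add_finrank_ker (T - w • 1)
    rw [hker, Module.finrank_fin_fun] at h1
    omega
  rcases hrel with h | h
  · have hTJ : ∀ u, T (Jl u) = Jl (T u) := by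
      intro u
      have h1 := congrArg (fun A : Matrix (Fin n) (Fin n) F => Matrix.toLin' A u) h
      simp only [Matrix.toLin'_mul, LinearMap.comp_apply] at h1
      rw [hT, hJl]
      exact h1
    obtain ⟨v, hv0, hv⟩ := finrank_eq_one_iff'.mp hrange
    obtain ⟨u, hu⟩ := v.2
    have hJv : Jl (v : Fin n → F) ∈ LinearMap.range (T - w • 1) := ⟨Jl u, by
      rw [LinearMap.sub_apply, LinearMap.smul_apply, Module.End.one_apply, hTJ, ← map_smul,
        ← map_sub, ← hu, LinearMap.sub_apply, LinearMap.smul_apply, Module.End.one_apply]⟩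
    obtain ⟨c, hc⟩ := hv ⟨_, hJv⟩
    have hc' : c • (v : Fin n → F) = Jl (v : Fin n → F) := congrArg Subtype.val hc
    have hv0' : (v : Fin n → F) ≠ 0 := fun h0 => hv0 (Subtype.ext h0)
    have hli := li_of_noroot Jl s t₀ hJlrel hroot (v : Fin n → F) hv0'
    exact (LinearIndependent.pair_iff' hv0').mp hli c hc'
  · have hTJ : ∀ u, T (Jl u) = s • T u - Jl (T u) := by
      intro u
      have h1 := congrArg (fun A : Matrix (Fin n) (Fin n) F => Matrix.toLin' A u) h
      simp only [Matrix.toLin'_mul, LinearMap.comp_apply, map_sub, map_smul, Matrix.toLin'_one,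
        LinearMap.sub_apply, LinearMap.smul_apply, LinearMap.id_apply] at h1
      rw [hT, hJl]
      exact h1
    obtain ⟨L, hL⟩ : ∃ L : LinearMap.ker (T - w • 1) →ₗ[F] (Fin n → F),
        L = ((T - w • 1) ∘ₗ Jl).domRestrict (LinearMap.ker (T - w • 1)) := ⟨_, rfl⟩
    have h1 := LinearMap.finrank_range_add_finrank_ker L
    have h2 : finrank F (LinearMap.range L) ≤ 1 := by
      rw [← hrange]
      apply Submodule.finrank_mono
      rintro _ ⟨x, rfl⟩
      rw [hL, LinearMap.domRestrict_apply, LinearMap.comp_apply]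
      exact ⟨_, rfl⟩
    have h3 : 0 < finrank F (LinearMap.ker L) := by
      rw [hker] at h1
      omega
    have hne : LinearMap.ker L ≠ ⊥ := by
      intro h0
      rw [h0, finrank_bot] at h3
      exact lt_irrefl 0 h3
    obtain ⟨v, hvmem, hv0⟩ := Submodule.exists_mem_ne_zero_of_ne_bot hne
    obtain ⟨v', hv'⟩ : ∃ v' : Fin n → F, v' = (v : Fin n → F) := ⟨_, rfl⟩
    have hv'0 : v' ≠ 0 := by
      intro h0
      apply hv0
      apply Subtype.ext
      rw [← hv', h0]
      rfl
    have hTv : T v' = w • v' := by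
      have h4 := v.2
      rw [LinearMap.mem_ker, LinearMap.sub_apply, LinearMap.smul_apply, Module.End.one_apply,
        sub_eq_zero] at h4
      rw [hv']
      exact h4
    have hTJv : T (Jl v') = w • Jl v' := by
      have h4 := hvmem
      rw [LinearMap.mem_ker, hL, LinearMap.domRestrict_apply, LinearMap.comp_apply,
        LinearMap.sub_apply, LinearMap.smul_apply, Module.End.one_apply, sub_eq_zero] at h4
      rw [hv']
      exact h4
    have hw0 : w ≠ 0 := by
      rintro rfl
      rw [zero_smul] at hTv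
      apply hv'0
      have h4 : ((M⁻¹ : Matrix.SpecialLinearGroup (Fin n) F) : Matrix (Fin n) (Fin n) F) *ᵥ
          ((M : Matrix (Fin n) (Fin n) F) *ᵥ v') = v' := by
        rw [Matrix.mulVec_mulVec, ← Matrix.SpecialLinearGroup.coe_mul, inv_mul_cancel,
          Matrix.SpecialLinearGroup.coe_one, Matrix.one_mulVec]
      rw [hT, Matrix.toLin'_apply] at hTv
      rw [← h4, hTv, Matrix.mulVec_zero]
    have h5 := hTJ v'
    rw [hTJv, hTv, map_smul] at h5
    have h6 : (-s) • v' + (2 : F) • Jl v' = 0 := by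
      have h7 : w • ((-s) • v' + (2 : F) • Jl v') = 0 := by
        have h8 := sub_eq_zero.mpr h5
        rw [← h8]
        module
      exact (smul_eq_zero.mp h7).resolve_left hw0
    have hli := li_of_noroot Jl s t₀ hJlrel hroot v' hv'0
    obtain ⟨hs0, h20⟩ := LinearIndependent.pair_iff.mp hli (-s) 2 h6
    have hs : s = 0 := neg_eq_zero.mp hs0
    have hchar : ringChar F = 2 := by
      haveI : CharP F 2 := CharTwo.of_one_ne_zero_of_two_eq_zero one_ne_zero h20
      exact ringChar.eq F 2
    obtain ⟨r, hr⟩ := FiniteField.isSquare_of_char_two hchar t₀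
    exact hroot r (by rw [hs, zero_mul, zero_add, hr])

omit [Fintype F] in
theorem finrank_ker_conj_SL (x P : Matrix.SpecialLinearGroup (Fin n) F) (w : F) :
    finrank F (LinearMap.ker ((Matrix.toLin'
      ((P⁻¹ * x * P : Matrix.SpecialLinearGroup (Fin n) F) : Matrix (Fin n) (Fin n) F) :
      Module.End F (Fin n → F)) - w • 1)) =
    finrank F (LinearMap.ker ((Matrix.toLin' (x : Matrix (Fin n) (Fin n) F) :
      Module.End F (Fin n → F)) - w • 1)) := by
  have h1 : (Matrix.toLin'
      ((P⁻¹ * x * P : Matrix.SpecialLinearGroup (Fin n) F) : Matrix (Fin n) (Fin n) F) :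
      Module.End F (Fin n → F)) = LinearEquiv.conjAlgEquiv F
      (Matrix.SpecialLinearGroup.toLin' P⁻¹) (Matrix.toLin' (x : Matrix (Fin n) (Fin n) F)) := by
    apply LinearMap.ext
    intro u
    rw [LinearEquiv.conjAlgEquiv_apply]
    show _ = (Matrix.SpecialLinearGroup.toLin' P⁻¹) (Matrix.toLin' (x : Matrix (Fin n) (Fin n) F)
      ((Matrix.SpecialLinearGroup.toLin' P⁻¹).symm u))
    rw [Matrix.SpecialLinearGroup.toLin'_apply, Matrix.SpecialLinearGroup.toLin'_symm_apply,
      inv_inv, Matrix.SpecialLinearGroup.coe_mul, Matrix.SpecialLinearGroup.coe_mul,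
      Matrix.toLin'_mul, Matrix.toLin'_mul]
    rfl
  rw [h1, ← conj_sub_smul, finrank_ker_conj]

end Nec

section Elts

variable {F : Type u} [Field F] [Fintype F]

/-- a reflection type element of determinant one when `(n)_2 < (q - 1)_2` -/
theorem exists_refl_elt {p : ℕ} [hp : Fact p.Prime] [CharP F p] (n : ℕ) (hn : 2 ≤ n)
    (hv : padicValNat 2 n < padicValNat 2 (Fintype.card F - 1)) :
    ∃ (y : Module.End F (Fin n → F)) (w : F), LinearMap.det y = 1 ∧ y ^ 2 = (w * w) • 1 ∧
      (∀ c' : F, y ≠ c' • 1) ∧ finrank F (LinearMap.ker (y - w • 1)) = n - 1 := by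
  classical
  haveI : Nonempty (Fin n) := ⟨⟨0, by omega⟩⟩
  have hp2 : p ≠ 2 := char_ne_two_of_dvd (F := F) (dvd_of_one_le_padicValNat (by omega))
  have h2F : (2 : F) ≠ 0 := two_ne_zero_of_char (F := F) hp2
  obtain ⟨w, hw⟩ := exists_root_neg_one (F := F) n (by omega) hv
  have hw0 : w ≠ 0 := by
    rintro rfl
    rw [zero_pow (by omega)] at hw
    exact one_ne_zero (neg_eq_zero.mp hw.symm)
  have hww : w ≠ -w := by
    intro h
    have h1 : (2 : F) * w = 0 := by linear_combination h
    rcases mul_eq_zero.mp h1 with h3 | h3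
    · exact h2F h3
    · exact hw0 h3
  obtain ⟨i0, hi0⟩ : ∃ i0 : Fin n, i0.val = 0 := ⟨⟨0, by omega⟩, rfl⟩
  obtain ⟨i1, hi1⟩ : ∃ i1 : Fin n, i1.val = 1 := ⟨⟨1, by omega⟩, rfl⟩
  have h01 : i1 ≠ i0 := by
    intro h
    rw [h] at hi1
    omega
  obtain ⟨a, hadef⟩ : ∃ a : Fin n → F, a = fun j => w * (if j = i0 then -1 else 1) := ⟨_, rfl⟩
  have ha0 : a i0 = -w := by rw [hadef]; simp
  have ha1 : ∀ j, j ≠ i0 → a j = w := by
    intro j hj
    rw [hadef]
    simp [hj]
  obtain ⟨y, hy⟩ : ∃ y : Module.End F (Fin n → F), y = Matrix.toLin' (Matrix.diagonal a) :=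
    ⟨_, rfl⟩
  have hdet : LinearMap.det y = 1 := by
    rw [hy, LinearMap.det_toLin', Matrix.det_diagonal, hadef, Finset.prod_mul_distrib,
      Finset.prod_const, Finset.card_univ, Fintype.card_fin, hw,
      Finset.prod_ite_eq' Finset.univ i0 (fun _ => (-1 : F)), if_pos (Finset.mem_univ _)]
    ring
  have hyy : y ^ 2 = (w * w) • 1 := by
    rw [hy, ← Elus.toLin'_pow, Matrix.diagonal_pow, ← Elus.toLin'_smul_one,
      Matrix.smul_one_eq_diagonal]
    congr 2
    funext j
    rw [Pi.pow_apply, hadef]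
    by_cases hj : j = i0
    · simp only [if_pos hj]
      ring
    · simp only [if_neg hj]
      ring
  have hns : ∀ c' : F, y ≠ c' • 1 := by
    intro c' hc
    rw [hy, ← Elus.toLin'_smul_one, Matrix.smul_one_eq_diagonal] at hc
    have h1 := Matrix.diagonal_injective (Matrix.toLin'.injective hc)
    have h2 : a i0 = c' := congrFun h1 i0
    have h3 : a i1 = c' := congrFun h1 i1
    rw [ha0] at h2
    rw [ha1 i1 h01] at h3
    exact hww (h3.trans h2.symm)
  have hm2 : finrank F (LinearMap.ker (y - w • 1)) = n - 1 := by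
    rw [hy, finrank_ker_diag]
    have h1 : Finset.univ.filter (fun j => a j = w) = Finset.univ.erase i0 := by
      ext j
      rw [Finset.mem_filter, Finset.mem_erase]
      constructor
      · rintro ⟨-, hj⟩
        refine ⟨?_, Finset.mem_univ _⟩
        rintro rfl
        rw [ha0] at hj
        exact hww hj.symm
      · rintro ⟨hne, -⟩
        exact ⟨Finset.mem_univ _, ha1 j hne⟩
    rw [h1, Finset.card_erase_of_mem (Finset.mem_univ _), Finset.card_univ, Fintype.card_fin]
  exact ⟨y, w, hdet, hyy, hns, hm2⟩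

/-- a transvection in characteristic two -/
theorem exists_transv_elt (hchar : ringChar F = 2) (n : ℕ) (hn : 2 ≤ n) :
    ∃ y : Module.End F (Fin n → F), LinearMap.det y = 1 ∧ y ^ 2 = ((1 : F) * 1) • 1 ∧
      (∀ c' : F, y ≠ c' • 1) ∧ finrank F (LinearMap.ker (y - (1 : F) • 1)) = n - 1 := by
  classical
  have h20 : (2 : F) = 0 := by
    have h1 := (ringChar.spec F 2).mpr (by rw [hchar])
    exact_mod_cast h1
  obtain ⟨i0, hi0⟩ : ∃ i0 : Fin n, i0.val = 0 := ⟨⟨0, by omega⟩, rfl⟩
  obtain ⟨i1, hi1⟩ : ∃ i1 : Fin n, i1.val = 1 := ⟨⟨1, by omega⟩, rfl⟩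
  have h01 : i1 ≠ i0 := by
    intro h
    rw [h] at hi1
    omega
  obtain ⟨φ, hφ⟩ : ∃ φ : (Fin n → F) →ₗ[F] F, ∀ u, φ u = u i1 :=
    ⟨LinearMap.proj i1, fun u => rfl⟩
  obtain ⟨e₀, he₀⟩ : ∃ e₀ : Fin n → F, e₀ = Pi.single i0 1 := ⟨_, rfl⟩
  obtain ⟨e₁, he₁⟩ : ∃ e₁ : Fin n → F, e₁ = Pi.single i1 1 := ⟨_, rfl⟩
  have hφe₀ : φ e₀ = 0 := by
    rw [hφ, he₀, Pi.single_eq_of_ne h01]
  have hφe₁ : φ e₁ = 1 := by
    rw [hφ, he₁, Pi.single_eq_same]
  have he₀0 : e₀ ≠ 0 := by
    intro h0
    have h1 := congrFun h0 i0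
    rw [he₀, Pi.single_eq_same] at h1
    exact one_ne_zero h1
  obtain ⟨N, hN⟩ : ∃ N : Module.End F (Fin n → F), N = φ.smulRight e₀ := ⟨_, rfl⟩
  have hNap : ∀ u, N u = φ u • e₀ := by
    intro u
    rw [hN, LinearMap.smulRight_apply]
  obtain ⟨y, hy⟩ : ∃ y : Module.End F (Fin n → F), y = 1 + N := ⟨_, rfl⟩
  have hyap : ∀ u, y u = u + φ u • e₀ := by
    intro u
    rw [hy, LinearMap.add_apply, Module.End.one_apply, hNap]
  have hyy' : ∀ u, y (y u) = u := by
    intro u
    rw [hyap, hyap, map_add, map_smul, hφe₀, smul_eq_mul, mul_zero, add_zero, add_assoc,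
      ← add_smul, ← two_mul, h20, zero_mul, zero_smul, add_zero]
  have hyy : y ^ 2 = ((1 : F) * 1) • 1 := by
    apply LinearMap.ext
    intro u
    rw [pow_two, Module.End.mul_apply, hyy', mul_one, one_smul, Module.End.one_apply]
  have hdet : LinearMap.det y = 1 := by
    have hdd : LinearMap.det y * LinearMap.det y = 1 := by
      rw [← map_mul, ← pow_two, hyy, mul_one, one_smul, map_one]
    have h1 : (LinearMap.det y + 1) * (LinearMap.det y + 1) = 0 := by
      linear_combination hdd + (LinearMap.det y + 1) * h20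
    have h2 : LinearMap.det y = -1 := eq_neg_of_add_eq_zero_left (mul_self_eq_zero.mp h1)
    rw [h2]
    linear_combination -h20
  have hns : ∀ c' : F, y ≠ c' • 1 := by
    intro c' hc
    have h1 := congrFun (LinearMap.congr_fun hc e₁) i0
    rw [hyap, hφe₁, one_smul, LinearMap.smul_apply, Module.End.one_apply, Pi.add_apply,
      Pi.smul_apply, he₁, he₀, Pi.single_eq_of_ne h01.symm, Pi.single_eq_same, zero_add,
      smul_eq_mul, mul_zero] at h1
    exact one_ne_zero h1
  have hker : finrank F (LinearMap.ker (y - (1 : F) • 1)) = n - 1 := by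
    have h1 : y - (1 : F) • 1 = N := by
      rw [hy, one_smul, add_sub_cancel_left]
    have hφ0 : φ ≠ 0 := by
      intro h0
      rw [h0, LinearMap.zero_apply] at hφe₁
      exact zero_ne_one hφe₁
    have h2 := LinearMap.finrank_range_add_finrank_ker N
    rw [hN, LinearMap.range_smulRight_apply hφ0, finrank_span_singleton he₀0,
      Module.finrank_fin_fun] at h2
    rw [h1, hN]
    omega
  exact ⟨y, hdet, hyy, hns, hker⟩

end Elts

end Cfsg.Agent.Lib.Helper2.Fld
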