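import Mathlib
import Cfsg.Agent.Lib.Helper2.FldC
set_option autoImplicit false
set_option maxHeartbeats 1000000
set_option linter.unusedVariables false
set_option linter.unusedSectionVars false
set_option linter.style.longLine false
set_option linter.unusedSimpArgs false
set_option linter.deprecated false
set_option linter.style.haveILetI false

/-! Elements of prime order of `PSL_n(q)` and stabilizers of tensor decompositions (part A):
linear algebra of Kronecker products. -/

namespace Cfsg.Agent.Lib.Helper2.Tns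

open Module
open scoped Kronecker Matrix

universe u v v'

section Kron

variable {F : Type u} [Field F] {a b : ℕ}

theorem kron_mulVec_apply (A : Matrix (Fin a) (Fin a) F) (B : Matrix (Fin b) (Fin b) F)
    (u : Fin a → F) (w : Fin b → F) (i : Fin a) (k : Fin b) :
    ((A ⊗ₖ B) *ᵥ (fun p : Fin a × Fin b => u p.1 * w p.2)) (i, k) =
      (A *ᵥ u) i * (B *ᵥ w) k := by
  simp only [Matrix.mulVec, dotProduct]
  rw [Fintype.sum_prod_type, Finset.sum_mul_sum]
  apply Finset.sum_congr rfl
  intro j _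
  apply Finset.sum_congr rfl
  intro l _
  rw [Matrix.kroneckerMap_apply]
  ring

theorem one_kron_mulVec_apply (B : Matrix (Fin b) (Fin b) F) (v : Fin a × Fin b → F)
    (i : Fin a) (k : Fin b) :
    (((1 : Matrix (Fin a) (Fin a) F) ⊗ₖ B) *ᵥ v) (i, k) = (B *ᵥ (fun l => v (i, l))) k := by
  simp only [Matrix.mulVec, dotProduct]
  rw [Fintype.sum_prod_type, Finset.sum_eq_single i]
  · apply Finset.sum_congr rfl
    intro l _
    rw [Matrix.kroneckerMap_apply, Matrix.one_apply_eq, one_mul]
  · intro j _ hj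
    apply Finset.sum_eq_zero
    intro l _
    rw [Matrix.kroneckerMap_apply, Matrix.one_apply_ne hj.symm, zero_mul, zero_mul]
  · intro h
    exact absurd (Finset.mem_univ i) h

/-- Lemma T: a large eigenspace of a Kronecker product forces the first factor to be scalar -/
theorem scalar_of_codim_lt (A : Matrix (Fin a) (Fin a) F) (B : Matrix (Fin b) (Fin b) F)
    (hB : B.det ≠ 0) (c : F)
    (h : a * b < finrank F (LinearMap.ker ((Matrix.toLin' (A ⊗ₖ B) :
      Module.End F (Fin a × Fin b → F)) - c • 1)) + b) :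
    ∃ c₁ : F, A = c₁ • 1 := by
  classical
  by_contra hcon
  push Not at hcon
  have hns : ∀ c₁ : F, (Matrix.toLin' A : Module.End F (Fin a → F)) ≠ c₁ • 1 := by
    intro c₁ hc
    apply hcon c₁
    apply Matrix.toLin'.injective
    rw [hc, map_smul, Matrix.toLin'_one]
    rfl
  obtain ⟨u, hu⟩ := Fld.exists_li_of_nonscalar _ hns
  have hu0 : u ≠ 0 := hu.ne_zero 0
  obtain ⟨L, hL⟩ : ∃ L : (Fin b → F) →ₗ[F] (Fin a × Fin b → F),
      ∀ w p, L w p = u p.1 * w p.2 :=
    ⟨{ toFun := fun w p => u p.1 * w p.2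
       map_add' := fun w w' => by
         funext p
         simp only [Pi.add_apply]
         ring
       map_smul' := fun t w => by
         funext p
         simp only [Pi.smul_apply, smul_eq_mul, RingHom.id_apply]
         ring }, fun w p => rfl⟩
  have hLinj : Function.Injective L := by
    rw [← LinearMap.ker_eq_bot, LinearMap.ker_eq_bot']
    intro w hw
    obtain ⟨i₀, hi₀⟩ := Function.ne_iff.mp hu0
    funext l
    have h1 := congrFun hw (i₀, l)
    rw [hL, Pi.zero_apply] at h1
    rcases mul_eq_zero.mp h1 with h2 | h2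
    · exact absurd h2 hi₀
    · exact h2
  have hrange : finrank F (LinearMap.range L) = b := by
    rw [LinearMap.finrank_range_of_inj hLinj, Module.finrank_fin_fun]
  obtain ⟨K, hK⟩ : ∃ K : Submodule F (Fin a × Fin b → F), K = LinearMap.ker
      ((Matrix.toLin' (A ⊗ₖ B) : Module.End F (Fin a × Fin b → F)) - c • 1) := ⟨_, rfl⟩
  rw [← hK] at h
  have hsup := Submodule.finrank_sup_add_finrank_inf_eq (LinearMap.range L) K
  have hle : finrank F ↥(LinearMap.range L ⊔ K) ≤ a * b := by
    have h1 := Submodule.finrank_le (LinearMap.range L ⊔ K)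
    rw [Module.finrank_fintype_fun_eq_card, Fintype.card_prod, Fintype.card_fin,
      Fintype.card_fin] at h1
    exact h1
  have hpos : 0 < finrank F ↥(LinearMap.range L ⊓ K) := by omega
  obtain ⟨⟨v, hv⟩, hv0⟩ := Module.finrank_pos_iff_exists_ne_zero.mp hpos
  obtain ⟨⟨w, rfl⟩, hvK⟩ := Submodule.mem_inf.mp hv
  have hw0 : w ≠ 0 := by
    rintro rfl
    apply hv0
    apply Subtype.ext
    exact map_zero L
  have hBw : B *ᵥ w ≠ 0 := fun h0 => hw0 (Matrix.eq_zero_of_mulVec_eq_zero hB h0)
  obtain ⟨k₀, hk₀⟩ := Function.ne_iff.mp hBw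
  rw [Pi.zero_apply] at hk₀
  have heq : ∀ i k, (A *ᵥ u) i * (B *ᵥ w) k = c * (u i * w k) := by
    intro i k
    rw [hK, LinearMap.mem_ker, LinearMap.sub_apply, LinearMap.smul_apply, Module.End.one_apply,
      Matrix.toLin'_apply, sub_eq_zero] at hvK
    have h1 := congrFun hvK (i, k)
    rw [Pi.smul_apply, smul_eq_mul, hL] at h1
    rw [← h1, ← kron_mulVec_apply]
    congr 2
    funext p
    rw [hL]
  have hXu : Matrix.toLin' A u = (c * w k₀ / (B *ᵥ w) k₀) • u := by
    funext i
    rw [Matrix.toLin'_apply, Pi.smul_apply, smul_eq_mul]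
    have h1 := heq i k₀
    field_simp
    linear_combination h1
  rw [LinearIndependent.pair_iff' hu0] at hu
  exact hu _ hXu.symm

theorem mem_ker_one_kron (B : Matrix (Fin b) (Fin b) F) (c : F) (v : Fin a × Fin b → F) :
    v ∈ LinearMap.ker ((Matrix.toLin' ((1 : Matrix (Fin a) (Fin a) F) ⊗ₖ B) :
      Module.End F (Fin a × Fin b → F)) - c • 1) ↔
    ∀ i, (fun l => v (i, l)) ∈ LinearMap.ker ((Matrix.toLin' B :
      Module.End F (Fin b → F)) - c • 1) := by
  simp only [LinearMap.mem_ker, LinearMap.sub_apply, LinearMap.smul_apply, Module.End.one_apply,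
    Matrix.toLin'_apply, sub_eq_zero]
  constructor
  · intro h i
    funext k
    have h1 := congrFun h (i, k)
    rw [one_kron_mulVec_apply] at h1
    exact h1
  · intro h
    funext ⟨i, k⟩
    rw [one_kron_mulVec_apply]
    exact congrFun (h i) k

/-- the eigenspace of `1 ⊗ B` is a product of copies of the eigenspace of `B` -/
def kerEquiv (B : Matrix (Fin b) (Fin b) F) (c : F) :
    ↥(LinearMap.ker ((Matrix.toLin' ((1 : Matrix (Fin a) (Fin a) F) ⊗ₖ B) :
      Module.End F (Fin a × Fin b → F)) - c • 1)) ≃ₗ[F]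
    (Fin a → ↥(LinearMap.ker ((Matrix.toLin' B : Module.End F (Fin b → F)) - c • 1))) where
  toFun v := fun i => ⟨fun l => v.1 (i, l), (mem_ker_one_kron B c v.1).mp v.2 i⟩
  map_add' v w := by
    funext i
    apply Subtype.ext
    funext l
    rfl
  map_smul' t v := by
    funext i
    apply Subtype.ext
    funext l
    rfl
  invFun f := ⟨fun p => (f p.1).1 p.2, (mem_ker_one_kron B c _).mpr (fun i => (f i).2)⟩
  left_inv v := by
    apply Subtype.ext
    funext ⟨i, l⟩
    rfl
  right_inv f := by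
    funext i
    apply Subtype.ext
    funext l
    rfl

theorem finrank_ker_one_kron (B : Matrix (Fin b) (Fin b) F) (c : F) :
    finrank F (LinearMap.ker ((Matrix.toLin' ((1 : Matrix (Fin a) (Fin a) F) ⊗ₖ B) :
      Module.End F (Fin a × Fin b → F)) - c • 1)) =
    a * finrank F (LinearMap.ker ((Matrix.toLin' B : Module.End F (Fin b → F)) - c • 1)) := by
  rw [LinearEquiv.finrank_eq (kerEquiv (a := a) B c), Module.finrank_pi_fintype, Finset.sum_const,
    Finset.card_univ, Fintype.card_fin, smul_eq_mul]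

theorem kron_pow (A : Matrix (Fin a) (Fin a) F) (B : Matrix (Fin b) (Fin b) F) (k : ℕ) :
    (A ⊗ₖ B) ^ k = (A ^ k) ⊗ₖ (B ^ k) := by
  induction k with
  | zero => rw [pow_zero, pow_zero, pow_zero, Matrix.one_kronecker_one]
  | succ k ih => rw [pow_succ, pow_succ, pow_succ, ih, Matrix.mul_kronecker_mul]

theorem scalar_of_kron_eq (ha : 0 < a) (hb : 0 < b) (A : Matrix (Fin a) (Fin a) F)
    (B : Matrix (Fin b) (Fin b) F) (c : F) (hc : c ≠ 0) (h : A ⊗ₖ B = c • 1) :
    ∃ c₁ : F, A = c₁ • 1 := by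
  classical
  obtain ⟨i₀⟩ : Nonempty (Fin a) := ⟨⟨0, ha⟩⟩
  obtain ⟨k₀⟩ : Nonempty (Fin b) := ⟨⟨0, hb⟩⟩
  have hent : ∀ i j, A i j * B k₀ k₀ = if i = j then c else 0 := by
    intro i j
    have h1 := congrFun (congrFun h (i, k₀)) (j, k₀)
    rw [Matrix.kroneckerMap_apply, Matrix.smul_apply, Matrix.one_apply, smul_eq_mul] at h1
    rw [h1]
    by_cases hij : i = j
    · rw [if_pos hij, if_pos (by rw [hij]), mul_one]
    · rw [if_neg hij, if_neg (fun h2 => hij (Prod.ext_iff.mp h2).1), mul_zero]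
  have hB0 : B k₀ k₀ ≠ 0 := by
    intro h0
    have h1 := hent i₀ i₀
    rw [h0, mul_zero, if_pos rfl] at h1
    exact hc h1.symm
  refine ⟨c / B k₀ k₀, ?_⟩
  ext i j
  rw [Matrix.smul_apply, Matrix.one_apply, smul_eq_mul]
  have h1 := hent i j
  by_cases hij : i = j
  · rw [if_pos hij] at h1 ⊢
    field_simp
    exact h1
  · rw [if_neg hij] at h1 ⊢
    rw [mul_zero]
    rcases mul_eq_zero.mp h1 with h2 | h2
    · exact h2
    · exact absurd h2 hB0

theorem eq_one_of_one_kron (ha : 0 < a) (B : Matrix (Fin b) (Fin b) F)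
    (h : (1 : Matrix (Fin a) (Fin a) F) ⊗ₖ B = 1) : B = 1 := by
  classical
  obtain ⟨i₀⟩ : Nonempty (Fin a) := ⟨⟨0, ha⟩⟩
  ext k l
  have h1 := congrFun (congrFun h (i₀, k)) (i₀, l)
  rw [Matrix.kroneckerMap_apply, Matrix.one_apply_eq, one_mul] at h1
  rw [h1, Matrix.one_apply, Matrix.one_apply]
  by_cases hkl : k = l
  · rw [if_pos hkl, if_pos (by rw [hkl])]
  · rw [if_neg hkl, if_neg (fun h2 => hkl (Prod.ext_iff.mp h2).2)]

theorem smul_one_kron (c₁ : F) (B : Matrix (Fin b) (Fin b) F) :
    (c₁ • (1 : Matrix (Fin a) (Fin a) F)) ⊗ₖ B = (1 : Matrix (Fin a) (Fin a) F) ⊗ₖ (c₁ • B) := by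
  rw [Matrix.smul_kronecker, Matrix.kronecker_smul]

end Kron

section Conj

variable {F : Type u} [Field F] {V : Type v} [AddCommGroup V] [Module F V]
  {V' : Type v'} [AddCommGroup V'] [Module F V']

theorem finrank_ker_of_conj (φ : V ≃ₗ[F] V') (T : Module.End F V) (T' : Module.End F V')
    (h : ∀ v, φ (T v) = T' (φ v)) (c : F) :
    finrank F (LinearMap.ker (T - c • 1)) = finrank F (LinearMap.ker (T' - c • 1)) := by
  have hmap : (LinearMap.ker (T - c • 1)).map (φ : V →ₗ[F] V') = LinearMap.ker (T' - c • 1) := by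
    ext v'
    rw [Submodule.mem_map, LinearMap.mem_ker]
    constructor
    · rintro ⟨v, hv, rfl⟩
      rw [LinearMap.mem_ker, LinearMap.sub_apply, LinearMap.smul_apply, Module.End.one_apply,
        sub_eq_zero] at hv
      rw [LinearMap.sub_apply, LinearMap.smul_apply, Module.End.one_apply, LinearEquiv.coe_coe,
        ← h, hv, map_smul, sub_self]
    · intro hv'
      rw [LinearMap.sub_apply, LinearMap.smul_apply, Module.End.one_apply, sub_eq_zero] at hv'
      refine ⟨φ.symm v', ?_, by rw [LinearEquiv.coe_coe, LinearEquiv.apply_symm_apply]⟩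
      rw [LinearMap.mem_ker, LinearMap.sub_apply, LinearMap.smul_apply, Module.End.one_apply,
        sub_eq_zero]
      apply φ.injective
      rw [h, LinearEquiv.apply_symm_apply, hv', map_smul, LinearEquiv.apply_symm_apply]
  rw [← hmap, LinearEquiv.finrank_map_eq]

theorem pow_conj (φ : V ≃ₗ[F] V') (T : Module.End F V) (T' : Module.End F V')
    (h : ∀ v, φ (T v) = T' (φ v)) (k : ℕ) : ∀ v, φ ((T ^ k) v) = (T' ^ k) (φ v) := by
  induction k with
  | zero =>
    intro v
    rw [pow_zero, pow_zero, Module.End.one_apply, Module.End.one_apply]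
  | succ k ih =>
    intro v
    rw [pow_succ, pow_succ, Module.End.mul_apply, Module.End.mul_apply, ih, h]

theorem pow_eq_of_conj (φ : V ≃ₗ[F] V') (T : Module.End F V) (T' : Module.End F V')
    (h : ∀ v, φ (T v) = T' (φ v)) (k : ℕ) (z : F) (hT : T ^ k = z • 1) : T' ^ k = z • 1 := by
  apply LinearMap.ext
  intro v'
  have h1 := pow_conj φ T T' h k (φ.symm v')
  rw [LinearEquiv.apply_symm_apply, hT, LinearMap.smul_apply, Module.End.one_apply, map_smul,
    LinearEquiv.apply_symm_apply] at h1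
  rw [← h1, LinearMap.smul_apply, Module.End.one_apply]

end Conj

end Cfsg.Agent.Lib.Helper2.Tns
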