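import Mathlib
import Cfsg.Agent.Lib.Helper2.TnsA
set_option autoImplicit false
set_option maxHeartbeats 1000000
set_option linter.unusedVariables false
set_option linter.unusedSectionVars false
set_option linter.style.longLine false
set_option linter.unusedSimpArgs false
set_option linter.deprecated false
set_option linter.style.haveILetI false

/-! Elements of prime order of `PSp_n(q)` and stabilizers of tensor decompositions (part A):
the support lemma for eigenspaces of Kronecker products, and the swap of the two factors. -/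

namespace Cfsg.Agent.Lib.Helper2.Tsp

open Module Cfsg.Agent.Lib.Helper2.Tns
open scoped Kronecker Matrix

universe u

variable {F : Type u} [Field F] {a b : ℕ}

/-- the vectors all of whose columns lie in `U` -/
def colsIn (b : ℕ) (U : Submodule F (Fin a → F)) : Submodule F (Fin a × Fin b → F) where
  carrier := {ξ | ∀ l : Fin b, (fun j => ξ (j, l)) ∈ U}
  zero_mem' := fun l => U.zero_mem
  add_mem' := by
    intro ξ η hξ hη l
    exact U.add_mem (hξ l) (hη l)
  smul_mem' := by
    intro t ξ hξ l
    exact U.smul_mem t (hξ l)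

theorem mem_colsIn {U : Submodule F (Fin a → F)} {ξ : Fin a × Fin b → F} :
    ξ ∈ colsIn b U ↔ ∀ l : Fin b, (fun j => ξ (j, l)) ∈ U := Iff.rfl

def colsEquiv (b : ℕ) (U : Submodule F (Fin a → F)) : ↥(colsIn b U) ≃ₗ[F] (Fin b → ↥U) where
  toFun ξ := fun l => ⟨fun j => ξ.1 (j, l), ξ.2 l⟩
  map_add' ξ η := by
    funext l
    apply Subtype.ext
    funext j
    rfl
  map_smul' t ξ := by
    funext l
    apply Subtype.ext
    funext j
    rfl
  invFun f := ⟨fun p => (f p.2).1 p.1, fun l => (f l).2⟩
  left_inv ξ := by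
    apply Subtype.ext
    funext ⟨j, l⟩
    rfl
  right_inv f := by
    funext l
    apply Subtype.ext
    funext j
    rfl

theorem finrank_colsIn (U : Submodule F (Fin a → F)) :
    finrank F (colsIn b U) = b * finrank F U := by
  rw [LinearEquiv.finrank_eq (colsEquiv b U), Module.finrank_pi_fintype, Finset.sum_const,
    Finset.card_univ, Fintype.card_fin, smul_eq_mul]

theorem kron_mulVec_col (A : Matrix (Fin a) (Fin a) F) (B : Matrix (Fin b) (Fin b) F)
    (ξ : Fin a × Fin b → F) (l : Fin b) :
    (fun j => ((A ⊗ₖ B) *ᵥ ξ) (j, l)) = ∑ l', B l l' • (A *ᵥ (fun j => ξ (j, l'))) := by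
  funext j
  rw [Finset.sum_apply]
  simp only [Matrix.mulVec, dotProduct, Pi.smul_apply, smul_eq_mul]
  rw [Fintype.sum_prod_type, Finset.sum_comm]
  apply Finset.sum_congr rfl
  intro l' _
  rw [Finset.mul_sum]
  apply Finset.sum_congr rfl
  intro j' _
  rw [Matrix.kroneckerMap_apply]
  ring

/-- the support lemma: a subspace `U` without invariant subspaces bounds the eigenspaces of
`A ⊗ B` -/
theorem kron_support_left (A : Matrix (Fin a) (Fin a) F) (B : Matrix (Fin b) (Fin b) F)
    (hB : B.det ≠ 0) (c : F) (U : Submodule F (Fin a → F))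
    (hU : ∀ U' : Submodule F (Fin a → F), U' ≤ U → (∀ v ∈ U', A *ᵥ v ∈ U') → U' = ⊥) :
    finrank F (LinearMap.ker ((Matrix.toLin' (A ⊗ₖ B) :
      Module.End F (Fin a × Fin b → F)) - c • 1)) + b * finrank F U ≤ a * b := by
  classical
  have hdisj : Disjoint (LinearMap.ker ((Matrix.toLin' (A ⊗ₖ B) :
      Module.End F (Fin a × Fin b → F)) - c • 1)) (colsIn b U) := by
    rw [Submodule.disjoint_def]
    intro ξ hK hS
    rw [LinearMap.mem_ker, LinearMap.sub_apply, LinearMap.smul_apply, Module.End.one_apply,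
      Matrix.toLin'_apply, sub_eq_zero] at hK
    obtain ⟨col, hcol⟩ : ∃ col : Fin b → (Fin a → F), col = fun l => fun j => ξ (j, l) :=
      ⟨_, rfl⟩
    have hcolU : ∀ l, col l ∈ U := by
      intro l
      rw [hcol]
      exact hS l
    have hrel : ∀ l, ∑ l', B l l' • (A *ᵥ col l') = c • col l := by
      intro l
      have h1 := kron_mulVec_col A B ξ l
      rw [hK] at h1
      rw [hcol]
      rw [← h1]
      funext j
      rfl
    have hBinv : B⁻¹ * B = 1 := Matrix.nonsing_inv_mul B (isUnit_iff_ne_zero.mpr hB)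
    have hAcol : ∀ l'', A *ᵥ col l'' = c • ∑ l, B⁻¹ l'' l • col l := by
      intro l''
      have h1 : ∑ l, B⁻¹ l'' l • ∑ l', B l l' • (A *ᵥ col l') =
          ∑ l, B⁻¹ l'' l • (c • col l) := by
        apply Finset.sum_congr rfl
        intro l _
        rw [hrel l]
      have h2 : ∑ l, B⁻¹ l'' l • ∑ l', B l l' • (A *ᵥ col l') = A *ᵥ col l'' := by
        simp only [Finset.smul_sum, smul_smul]
        rw [Finset.sum_comm]
        have h3 : ∀ l', ∑ l, (B⁻¹ l'' l * B l l') • (A *ᵥ col l') =
            ((1 : Matrix (Fin b) (Fin b) F) l'' l') • (A *ᵥ col l') := by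
          intro l'
          rw [← Finset.sum_smul, ← hBinv, Matrix.mul_apply]
        rw [Finset.sum_congr rfl (fun l' _ => h3 l')]
        rw [Finset.sum_eq_single l'']
        · rw [Matrix.one_apply_eq, one_smul]
        · intro l' _ hl'
          rw [Matrix.one_apply_ne hl'.symm, zero_smul]
        · intro h
          exact absurd (Finset.mem_univ l'') h
      rw [← h2, h1, Finset.smul_sum]
      apply Finset.sum_congr rfl
      intro l _
      rw [smul_comm]
    obtain ⟨U', hU'⟩ : ∃ U' : Submodule F (Fin a → F), U' = Submodule.span F (Set.range col) :=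
      ⟨_, rfl⟩
    have hU'U : U' ≤ U := by
      rw [hU', Submodule.span_le]
      rintro _ ⟨l, rfl⟩
      exact hcolU l
    have hU'inv : ∀ v ∈ U', A *ᵥ v ∈ U' := by
      intro v hv
      rw [hU'] at hv ⊢
      induction hv using Submodule.span_induction with
      | mem x hx =>
        obtain ⟨l'', rfl⟩ := hx
        rw [hAcol l'']
        apply Submodule.smul_mem
        apply Submodule.sum_mem
        intro l _
        exact Submodule.smul_mem _ _ (Submodule.subset_span ⟨l, rfl⟩)
      | zero =>
        rw [Matrix.mulVec_zero]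
        exact Submodule.zero_mem _
      | add x y _ _ hx hy =>
        rw [Matrix.mulVec_add]
        exact Submodule.add_mem _ hx hy
      | smul t x _ hx =>
        rw [Matrix.mulVec_smul]
        exact Submodule.smul_mem _ t hx
    have hU'0 := hU U' hU'U hU'inv
    funext ⟨j, l⟩
    have h1 : col l ∈ U' := by
      rw [hU']
      exact Submodule.subset_span ⟨l, rfl⟩
    rw [hU'0, Submodule.mem_bot] at h1
    have h2 := congrFun h1 j
    rw [hcol] at h2
    exact h2
  have h1 := Submodule.finrank_add_finrank_le_of_disjoint hdisj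
  rw [finrank_colsIn, Module.finrank_fintype_fun_eq_card, Fintype.card_prod, Fintype.card_fin,
    Fintype.card_fin] at h1
  exact h1

/-- the swap of the two tensor factors -/
def swapEquiv (a b : ℕ) : (Fin a × Fin b → F) ≃ₗ[F] (Fin b × Fin a → F) :=
  LinearEquiv.funCongrLeft F F (Equiv.prodComm (Fin b) (Fin a))

theorem swapEquiv_apply (ξ : Fin a × Fin b → F) (l : Fin b) (j : Fin a) :
    swapEquiv a b ξ (l, j) = ξ (j, l) := rfl

theorem kron_swap_conj (A : Matrix (Fin a) (Fin a) F) (B : Matrix (Fin b) (Fin b) F)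
    (ξ : Fin a × Fin b → F) :
    swapEquiv a b (Matrix.toLin' (A ⊗ₖ B) ξ) = Matrix.toLin' (B ⊗ₖ A) (swapEquiv a b ξ) := by
  funext ⟨l, j⟩
  rw [swapEquiv_apply, Matrix.toLin'_apply, Matrix.toLin'_apply]
  simp only [Matrix.mulVec, dotProduct]
  rw [Fintype.sum_prod_type, Fintype.sum_prod_type, Finset.sum_comm]
  apply Finset.sum_congr rfl
  intro l' _
  apply Finset.sum_congr rfl
  intro j' _
  rw [Matrix.kroneckerMap_apply, Matrix.kroneckerMap_apply, swapEquiv_apply]
  ring

theorem finrank_ker_swap (A : Matrix (Fin a) (Fin a) F) (B : Matrix (Fin b) (Fin b) F) (c : F) :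
    finrank F (LinearMap.ker ((Matrix.toLin' (A ⊗ₖ B) :
      Module.End F (Fin a × Fin b → F)) - c • 1)) =
    finrank F (LinearMap.ker ((Matrix.toLin' (B ⊗ₖ A) :
      Module.End F (Fin b × Fin a → F)) - c • 1)) :=
  finrank_ker_of_conj (swapEquiv a b) _ _ (kron_swap_conj A B) c

theorem kron_support_right (A : Matrix (Fin a) (Fin a) F) (B : Matrix (Fin b) (Fin b) F)
    (hA : A.det ≠ 0) (c : F) (U : Submodule F (Fin b → F))
    (hU : ∀ U' : Submodule F (Fin b → F), U' ≤ U → (∀ v ∈ U', B *ᵥ v ∈ U') → U' = ⊥) :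
    finrank F (LinearMap.ker ((Matrix.toLin' (A ⊗ₖ B) :
      Module.End F (Fin a × Fin b → F)) - c • 1)) + a * finrank F U ≤ a * b := by
  rw [finrank_ker_swap, mul_comm a b]
  exact kron_support_left B A hA c U hU

theorem finrank_ker_kron_one (A : Matrix (Fin a) (Fin a) F) (c : F) :
    finrank F (LinearMap.ker ((Matrix.toLin' (A ⊗ₖ (1 : Matrix (Fin b) (Fin b) F)) :
      Module.End F (Fin a × Fin b → F)) - c • 1)) =
    b * finrank F (LinearMap.ker ((Matrix.toLin' A : Module.End F (Fin a → F)) - c • 1)) := by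
  rw [finrank_ker_swap, finrank_ker_one_kron]

theorem kron_smul_one (c₁ : F) (A : Matrix (Fin a) (Fin a) F) :
    A ⊗ₖ (c₁ • (1 : Matrix (Fin b) (Fin b) F)) = (c₁ • A) ⊗ₖ (1 : Matrix (Fin b) (Fin b) F) := by
  rw [Matrix.smul_kronecker, Matrix.kronecker_smul]

theorem eq_one_of_kron_one (hb : 0 < b) (A : Matrix (Fin a) (Fin a) F)
    (h : A ⊗ₖ (1 : Matrix (Fin b) (Fin b) F) = 1) : A = 1 := by
  classical
  obtain ⟨k₀⟩ : Nonempty (Fin b) := ⟨⟨0, hb⟩⟩
  ext i j
  have h1 := congrFun (congrFun h (i, k₀)) (j, k₀)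
  rw [Matrix.kroneckerMap_apply, Matrix.one_apply_eq, mul_one] at h1
  rw [h1, Matrix.one_apply, Matrix.one_apply]
  by_cases hij : i = j
  · rw [if_pos hij, if_pos (by rw [hij])]
  · rw [if_neg hij, if_neg (fun h2 => hij (Prod.ext_iff.mp h2).1)]

/-- subspaces of every smaller dimension -/
theorem exists_submodule_finrank {V : Type*} [AddCommGroup V] [Module F V]
    [FiniteDimensional F V] (M : Submodule F V) (k : ℕ) (hk : k ≤ finrank F M) :
    ∃ U : Submodule F V, U ≤ M ∧ finrank F U = k := by
  classical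
  obtain ⟨bs⟩ : Nonempty (Basis (Fin (finrank F M)) F M) := ⟨Module.finBasis F M⟩
  have hli : LinearIndependent F (fun j : Fin k => ((bs (Fin.castLE hk j) : M) : V)) := by
    have h1 : LinearIndependent F (fun j : Fin k => bs (Fin.castLE hk j)) :=
      bs.linearIndependent.comp _ (Fin.castLE_injective hk)
    exact h1.map' M.subtype (Submodule.ker_subtype M)
  refine ⟨Submodule.span F (Set.range (fun j : Fin k => ((bs (Fin.castLE hk j) : M) : V))), ?_, ?_⟩
  · rw [Submodule.span_le]
    rintro _ ⟨j, rfl⟩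
    exact (bs (Fin.castLE hk j)).2
  · rw [finrank_span_eq_card hli, Fintype.card_fin]

end Cfsg.Agent.Lib.Helper2.Tsp
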