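import Mathlib
import Cfsg.Agent.Lib.Helper2.SpImpA
set_option autoImplicit false
set_option maxHeartbeats 1000000
set_option linter.unusedVariables false
set_option linter.unusedSectionVars false
set_option linter.style.longLine false
set_option linter.unusedSimpArgs false
set_option linter.deprecated false
set_option linter.style.haveILetI false

/-! Elements of prime order of `PSp_n(q)` and stabilizers of tensor decompositions (part B):
an isometry of odd order of a nondegenerate symmetric form moves a space of even dimension. -/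

namespace Cfsg.Agent.Lib.Helper2.Tsp

open Module

universe u v

variable {F : Type u} [Field F] {V : Type v} [AddCommGroup V] [Module F V]
  [FiniteDimensional F V]

/-- the rank of an alternating form is even -/
theorem even_rank_of_alt (ω : LinearMap.BilinForm F V) (hω : ω.IsAlt) (R : Submodule F V)
    (hR : ∀ u, u ∈ R ↔ ∀ v, ω u v = 0) : Even (finrank F V - finrank F R) := by
  obtain ⟨W, hRW⟩ := Submodule.exists_isCompl R
  have hsum := Submodule.finrank_add_eq_of_isCompl hRW
  have hW : finrank F V - finrank F R = finrank F W := by omega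
  rw [hW]
  have hAltW : (ω.restrict W).IsAlt := fun w => hω (w : V)
  have hleft : ∀ w : W, (∀ w' : W, ω (w : V) (w' : V) = 0) → w = 0 := by
    intro w hw
    have h1 : (w : V) ∈ R := by
      rw [hR]
      intro v
      have hv : v ∈ R ⊔ W := by
        rw [hRW.sup_eq_top]
        exact Submodule.mem_top
      obtain ⟨r₀, hr₀, w', hw', rfl⟩ := Submodule.mem_sup.mp hv
      rw [map_add, hw ⟨w', hw'⟩, add_zero]
      have h2 := (hR r₀).mp hr₀ (w : V)
      rw [← hω.neg_eq r₀ (w : V), h2, neg_zero]
    have h3 : (w : V) ∈ R ⊓ W := ⟨h1, w.2⟩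
    rw [hRW.inf_eq_bot, Submodule.mem_bot] at h3
    exact Subtype.ext h3
  have hNdW : (ω.restrict W).Nondegenerate := by
    refine ⟨?_, ?_⟩
    · intro w hw
      exact hleft w (fun w' => hw w')
    · intro w hw
      apply hleft w
      intro w'
      have h1 := hw w'
      have h2 : ω (w' : V) (w : V) = 0 := h1
      rw [← hω.neg_eq (w' : V) (w : V), h2, neg_zero]
  have h1 := SpImp.even_of_nd (ω.restrict W) hAltW hNdW (finrank F W) ⊤ (finrank_top F ↥W)
    (SpImp.nd_top (ω.restrict W) hAltW hNdW)
  exact h1

/-- an isometry of odd order of a nondegenerate symmetric form moves a space of even dimension -/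
theorem even_moving_of_isom (Φ : LinearMap.BilinForm F V) (hsymm : ∀ u v, Φ u v = Φ v u)
    (hnd : ∀ u, (∀ v, Φ u v = 0) → u = 0) (g : Module.End F V)
    (hiso : ∀ u v, Φ (g u) (g v) = Φ u v) (r : ℕ) (hr : Odd r) (hg : g ^ r = 1) :
    Even (finrank F V - finrank F (LinearMap.ker (g - 1))) := by
  obtain ⟨k, hk⟩ := hr
  have hr0 : 0 < r := by omega
  obtain ⟨g', hg'def⟩ : ∃ g' : Module.End F V, g' = g ^ (r - 1) := ⟨_, rfl⟩
  have hgg' : g * g' = 1 := by rw [hg'def, ← pow_succ', Nat.sub_add_cancel hr0, hg]
  have hg'g : g' * g = 1 := by rw [hg'def, ← pow_succ, Nat.sub_add_cancel hr0, hg]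
  have hgg'a : ∀ u, g (g' u) = u := by
    intro u
    rw [← Module.End.mul_apply, hgg', Module.End.one_apply]
  have hg'ga : ∀ u, g' (g u) = u := by
    intro u
    rw [← Module.End.mul_apply, hg'g, Module.End.one_apply]
  have hadj : ∀ u v, Φ (g' u) v = Φ u (g v) := by
    intro u v
    have h1 := hiso (g' u) v
    rw [hgg'a] at h1
    exact h1.symm
  obtain ⟨ω, hωdef⟩ : ∃ ω : LinearMap.BilinForm F V, ω = LinearMap.comp Φ (g - g') := ⟨_, rfl⟩
  have hωap : ∀ u v, ω u v = Φ (g u) v - Φ (g' u) v := by
    intro u v
    rw [hωdef, LinearMap.comp_apply, LinearMap.sub_apply, map_sub, LinearMap.sub_apply]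
  have hωalt : ω.IsAlt := by
    intro u
    rw [hωap, hadj, hsymm u (g u), sub_self]
  have hfix : ∀ u, g u = u → g' u = u := by
    intro u hu
    have h1 := hg'ga u
    rw [hu] at h1
    exact h1
  have hR : ∀ u, u ∈ LinearMap.ker (g - 1) ↔ ∀ v, ω u v = 0 := by
    intro u
    rw [LinearMap.mem_ker, LinearMap.sub_apply, Module.End.one_apply, sub_eq_zero]
    constructor
    · intro hu v
      rw [hωap, hu, hfix u hu, sub_self]
    · intro hu
      have h1 : g u - g' u = 0 := by
        apply hnd
        intro v
        have h2 := hu v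
        rw [hωap] at h2
        rw [map_sub, LinearMap.sub_apply]
        exact h2
      have h2 : g u = g' u := sub_eq_zero.mp h1
      have h3 : (g ^ 2) u = u := by
        rw [pow_two, Module.End.mul_apply, h2, hgg'a]
      have h4 : ∀ j : ℕ, ((g ^ 2) ^ j) u = u := by
        intro j
        induction j with
        | zero => rw [pow_zero, Module.End.one_apply]
        | succ j ih => rw [pow_succ, Module.End.mul_apply, h3, ih]
      have h5 : (g ^ (r + 1)) u = u := by
        have h6 : r + 1 = 2 * (k + 1) := by omega
        rw [h6, pow_mul]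
        exact h4 (k + 1)
      rw [pow_succ, Module.End.mul_apply, hg, Module.End.one_apply] at h5
      exact h5
  exact even_rank_of_alt ω hωalt _ hR

end Cfsg.Agent.Lib.Helper2.Tsp
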