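import Mathlib
import Cfsg.Prelude.Def_GeometricClasses
import Cfsg.Agent.Lib.Helper2.TspA
import Cfsg.Agent.Lib.Helper2.TspB
import Cfsg.Agent.Lib.Helper2.ElusD
import Cfsg.Agent.Lib.Helper2.ImpF
set_option autoImplicit false
set_option maxHeartbeats 1000000
set_option linter.unusedVariables false
set_option linter.unusedSectionVars false
set_option linter.style.longLine false
set_option linter.unusedSimpArgs false
set_option linter.deprecated false
set_option linter.style.haveILetI false

/-! Elements of prime order of `PSp_n(q)` and stabilizers of tensor decompositions (part C):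
a semisimple element of odd prime order with a small moving space is not a Kronecker product of a
symplectic and an orthogonal similitude. -/

namespace Cfsg.Agent.Lib.Helper2.Tsp

open Module Cfsg.Agent.Lib.Helper2.Tns
open scoped Kronecker Matrix

universe u v

section MinInv

variable {F : Type u} [Field F] [Fintype F] {V : Type v} [AddCommGroup V] [Module F V]
  [FiniteDimensional F V]

theorem exists_min_inv_of_ne_one {p : ℕ} [hp : Fact p.Prime] [CharP F p] (r : ℕ)
    [hr : Fact r.Prime] (hrp : r ≠ p) (g : Module.End F V) (hg : g ^ r = 1) (hg1 : g ≠ 1) :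
    ∃ M : Submodule F V, Elus.Inv g M ∧
      (∀ X : Submodule F V, X ≤ M → Elus.Inv g X → X = ⊥ ∨ X = M) ∧
      finrank F M = orderOf ((Fintype.card F : ℕ) : ZMod r) := by
  obtain ⟨f₀, -, hf₀⟩ := FiniteField.card F p
  have hrF : (r : F) ≠ 0 := by
    intro h
    have h1 := (CharP.cast_eq_zero_iff F p r).mp h
    exact hrp ((Nat.prime_dvd_prime_iff_eq hp.out hr.out).mp h1).symm
  have hss := Elus.isSemisimple_of_pow_eq_one g r hrF hg
  obtain ⟨W', hW'inv, -, hdisj, hsup⟩ := Imp.exists_rel_compl hss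
    (D := LinearMap.ker (g - 1)) (W := ⊤) (Elus.inv_of_le_ker le_rfl)
    (fun x _ => Submodule.mem_top) le_top
  have hW'0 : W' ≠ ⊥ := by
    intro h0
    rw [h0, sup_bot_eq] at hsup
    apply hg1
    apply LinearMap.ext
    intro v
    have h1 : v ∈ LinearMap.ker (g - 1) := by
      rw [hsup]
      exact Submodule.mem_top
    rw [Elus.mem_ker_sub_one] at h1
    rw [h1, Module.End.one_apply]
  obtain ⟨U, hUW, hU0, hUinv, hUmin⟩ := Elus.exists_minimal_inv g _ W' rfl hW'0 hW'inv
  refine ⟨U, hUinv, hUmin, ?_⟩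
  exact Elus.finrank_of_minimal hf₀ g r hrp hg U hUinv hU0 hUmin
    (hdisj.symm.mono_left hUW)

end MinInv

section NoGo

variable {F : Type u} [Field F] [Fintype F]

/-- the normalized version: both factors have order dividing `r` -/
theorem no_kron_ss_norm {p : ℕ} [hp : Fact p.Prime] [CharP F p] (a b : ℕ) (ha2 : 2 ≤ a)
    (hae : Even a) (hb : 3 ≤ b) (r : ℕ) [hr : Fact r.Prime] (hr2 : r ≠ 2) (hrp : r ≠ p)
    (i c : ℕ) (hi : i = orderOf ((Fintype.card F : ℕ) : ZMod r)) (hi2 : 2 ≤ i)
    (hc : c = if Even i then i else 2 * i)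
    (f₂ : (Fin b → F) → (Fin b → F) → F) (hf₂ : Cfsg.Geo.IsSymmetricForm f₂)
    (A : Matrix (Fin a) (Fin a) F) (B : Matrix (Fin b) (Fin b) F) (hA : A.det ≠ 0)
    (hB : B.det ≠ 0) (hAr : A ^ r = 1) (hBr : B ^ r = 1)
    (hker : finrank F (LinearMap.ker ((Matrix.toLin' (A ⊗ₖ B) :
      Module.End F (Fin a × Fin b → F)) - 1)) + c = a * b)
    (hsim : A = 1 → ∀ x y, f₂ (B *ᵥ x) (B *ᵥ y) = f₂ x y) : False := by
  classical
  have hrq : ¬ r ∣ Fintype.card F := Elus.not_dvd_card_of_ne (F := F) r hrp
  have hodd : Odd r := hr.out.odd_of_ne_two hr2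
  obtain ⟨gA, hgA⟩ : ∃ gA : Module.End F (Fin a → F), gA = Matrix.toLin' A := ⟨_, rfl⟩
  obtain ⟨gB, hgB⟩ : ∃ gB : Module.End F (Fin b → F), gB = Matrix.toLin' B := ⟨_, rfl⟩
  have hgAr : gA ^ r = 1 := by
    rw [hgA, ← Matrix.toLin'_pow, hAr, Matrix.toLin'_one]
    rfl
  have hgBr : gB ^ r = 1 := by
    rw [hgB, ← Matrix.toLin'_pow, hBr, Matrix.toLin'_one]
    rfl
  have hdA := Elus.orderOf_dvd_sub gA r hgAr hrq
  have hdB := Elus.orderOf_dvd_sub gB r hgBr hrq
  rw [Module.finrank_fin_fun, ← hi] at hdA hdB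
  have hleA : finrank F (LinearMap.ker (gA - 1)) ≤ a := by
    have h1 := Submodule.finrank_le (LinearMap.ker (gA - 1))
    rw [Module.finrank_fin_fun] at h1
    exact h1
  have hleB : finrank F (LinearMap.ker (gB - 1)) ≤ b := by
    have h1 := Submodule.finrank_le (LinearMap.ker (gB - 1))
    rw [Module.finrank_fin_fun] at h1
    exact h1
  have hc2 : c ≤ 2 * i := by
    rw [hc]
    split_ifs <;> omega
  have hci : i ≤ c := by
    rw [hc]
    split_ifs <;> omega
  have hone : ((Matrix.toLin' (A ⊗ₖ B) : Module.End F (Fin a × Fin b → F)) - 1) =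
      (Matrix.toLin' (A ⊗ₖ B) : Module.End F (Fin a × Fin b → F)) - (1 : F) • 1 := by
    rw [one_smul]
  by_cases hA1 : A = 1
  · -- the first factor is trivial
    rw [hone, hA1, finrank_ker_one_kron, one_smul, ← hgB] at hker
    obtain ⟨m, hm⟩ := hdB
    have hm1 : 1 ≤ m := by
      by_contra h0
      have h1 : m = 0 := by omega
      rw [h1, mul_zero] at hm
      have h2 : finrank F (LinearMap.ker (gB - 1)) = b := by omega
      rw [h2] at hker
      omega
    have h3 : a * (i * m) = c := by
      rw [← hm, Nat.mul_sub]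
      omega
    by_cases hev : Even i
    · rw [hc, if_pos hev] at h3
      nlinarith
    · rw [hc, if_neg hev] at h3
      have h4 : a * m = 2 := by
        have h5 : i * (a * m) = i * 2 := by linarith
        exact Nat.eq_of_mul_eq_mul_left (by omega) h5
      have hm' : m = 1 := by nlinarith
      have ha' : a = 2 := by
        rw [hm', mul_one] at h4
        exact h4
      rw [hm', mul_one] at hm
      -- parity
      obtain ⟨Φ, hΦ⟩ : ∃ Φ : LinearMap.BilinForm F (Fin b → F), ∀ u v, Φ u v = f₂ u v :=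
        ⟨LinearMap.mk₂ F f₂ hf₂.bilinear.add_left
          (fun t u v => by rw [hf₂.bilinear.smul_left, smul_eq_mul]) hf₂.bilinear.add_right
          (fun t u v => by rw [hf₂.bilinear.smul_right, smul_eq_mul]), fun u v => rfl⟩
      have hpar := even_moving_of_isom Φ (fun u v => by rw [hΦ, hΦ, hf₂.symm])
        (fun u hu => by
          by_contra hu0
          obtain ⟨-, x, hx⟩ := hf₂.nondegenerate u hu0
          exact hx (by rw [← hΦ]; exact hu x)) gB
        (fun u v => by
          rw [hΦ, hΦ, hgB, Matrix.toLin'_apply, Matrix.toLin'_apply]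
          exact hsim hA1 u v) r hodd hgBr
      rw [Module.finrank_fin_fun, hm] at hpar
      exact hev hpar
  · by_cases hB1 : B = 1
    · rw [hone, hB1, finrank_ker_kron_one, one_smul, ← hgA] at hker
      obtain ⟨m, hm⟩ := hdA
      have hm1 : 1 ≤ m := by
        by_contra h0
        have h1 : m = 0 := by omega
        rw [h1, mul_zero] at hm
        have h2 : finrank F (LinearMap.ker (gA - 1)) = a := by omega
        rw [h2] at hker
        rw [mul_comm] at hker
        omega
      have h3 : b * (i * m) = c := by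
        rw [← hm, Nat.mul_sub]
        rw [mul_comm a b] at hker
        omega
      nlinarith
    · have hgA1 : gA ≠ 1 := by
        intro h
        apply hA1
        apply Matrix.toLin'.injective
        rw [← hgA, h, Matrix.toLin'_one]
        rfl
      have hgB1 : gB ≠ 1 := by
        intro h
        apply hB1
        apply Matrix.toLin'.injective
        rw [← hgB, h, Matrix.toLin'_one]
        rfl
      obtain ⟨MA, hMAinv, hMAmin, hMAfin⟩ := exists_min_inv_of_ne_one r hrp gA hgAr hgA1
      obtain ⟨MB, hMBinv, hMBmin, hMBfin⟩ := exists_min_inv_of_ne_one r hrp gB hgBr hgB1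
      rw [← hi] at hMAfin hMBfin
      obtain ⟨UA, hUA, hUAfin⟩ := exists_submodule_finrank MA (i - 1) (by omega)
      obtain ⟨UB, hUB, hUBfin⟩ := exists_submodule_finrank MB (i - 1) (by omega)
      have hUA' : ∀ U' : Submodule F (Fin a → F), U' ≤ UA → (∀ v ∈ U', A *ᵥ v ∈ U') →
          U' = ⊥ := by
        intro U' hU'U hU'inv
        rcases hMAmin U' (hU'U.trans hUA) (fun v hv => by
          rw [hgA, Matrix.toLin'_apply]
          exact hU'inv v hv) with h | h
        · exact h
        · exfalso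
          have h1 := Submodule.finrank_mono hU'U
          rw [h, hMAfin, hUAfin] at h1
          omega
      have hUB' : ∀ U' : Submodule F (Fin b → F), U' ≤ UB → (∀ v ∈ U', B *ᵥ v ∈ U') →
          U' = ⊥ := by
        intro U' hU'U hU'inv
        rcases hMBmin U' (hU'U.trans hUB) (fun v hv => by
          rw [hgB, Matrix.toLin'_apply]
          exact hU'inv v hv) with h | h
        · exact h
        · exfalso
          have h1 := Submodule.finrank_mono hU'U
          rw [h, hMBfin, hUBfin] at h1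
          omega
      have h1 := kron_support_left A B hB 1 UA hUA'
      have h2 := kron_support_right A B hA 1 UB hUB'
      rw [← hone, hUAfin] at h1
      rw [← hone, hUBfin] at h2
      have hia : i ≤ a := by
        have h3 := Submodule.finrank_le MA
        rw [Module.finrank_fin_fun, hMAfin] at h3
        exact h3
      have h4 : b * (i - 1) ≤ c := by omega
      have h5 : a * (i - 1) ≤ c := by omega
      have h6 : 3 * (i - 1) ≤ 2 * i := by
        have h7 : 3 * (i - 1) ≤ b * (i - 1) := Nat.mul_le_mul_right _ hb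
        omega
      have hi3 : i ≤ 3 := by omega
      interval_cases i
      · -- i = 2
        rw [if_pos (by decide)] at hc
        rw [hc] at h4
        omega
      · -- i = 3
        rw [if_neg (by decide)] at hc
        rw [hc] at h4 h5
        obtain ⟨t, ht⟩ := hae
        omega

/-- the general version -/
theorem no_kron_ss {p : ℕ} [hp : Fact p.Prime] [CharP F p] (a b : ℕ) (ha2 : 2 ≤ a)
    (hae : Even a) (hb : 3 ≤ b) (r : ℕ) [hr : Fact r.Prime] (hr2 : r ≠ 2) (hrp : r ≠ p)
    (i c : ℕ) (hi : i = orderOf ((Fintype.card F : ℕ) : ZMod r)) (hi2 : 2 ≤ i)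
    (hc : c = if Even i then i else 2 * i)
    (f₂ : (Fin b → F) → (Fin b → F) → F) (hf₂ : Cfsg.Geo.IsSymmetricForm f₂)
    (A : Matrix (Fin a) (Fin a) F) (B : Matrix (Fin b) (Fin b) F) (hA : A.det ≠ 0)
    (hB : B.det ≠ 0)
    (hT : (Matrix.toLin' (A ⊗ₖ B) : Module.End F (Fin a × Fin b → F)) ^ r = 1)
    (hker : finrank F (LinearMap.ker ((Matrix.toLin' (A ⊗ₖ B) :
      Module.End F (Fin a × Fin b → F)) - 1)) + c = a * b)
    (hsim : ∀ c₁ : F, A = c₁ • 1 → ∀ x y, f₂ ((c₁ • B) *ᵥ x) ((c₁ • B) *ᵥ y) = f₂ x y) :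
    False := by
  classical
  have hrq1 : ¬ r ∣ Fintype.card F - 1 := by
    intro h
    have h1 := (Elus.ord_eq_one_iff r (Fintype.card F) Fintype.card_pos).mpr h
    omega
  have hABr : (A ^ r) ⊗ₖ (B ^ r) = 1 := by
    rw [← kron_pow]
    apply Matrix.toLin'.injective
    rw [Matrix.toLin'_pow, hT, Matrix.toLin'_one]
    rfl
  obtain ⟨c', hc'⟩ := scalar_of_kron_eq (by omega) (by omega) (A ^ r) (B ^ r) 1 one_ne_zero
    (by rw [hABr, one_smul])
  have hc'0 : c' ≠ 0 := by
    rintro rfl
    rw [zero_smul] at hc'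
    have h1 := congrArg Matrix.det hc'
    haveI : Nonempty (Fin a) := ⟨⟨0, by omega⟩⟩
    rw [Matrix.det_pow, Matrix.det_zero] at h1
    exact pow_ne_zero r hA h1
  obtain ⟨l, hl⟩ := Elus.exists_root r hrq1 c' hc'0
  have hl0 : l ≠ 0 := by
    rintro rfl
    rw [zero_pow hr.out.ne_zero] at hl
    exact hc'0 hl.symm
  have hkron : (l⁻¹ • A) ⊗ₖ (l • B) = A ⊗ₖ B := by
    rw [Matrix.smul_kronecker, Matrix.kronecker_smul, smul_smul, inv_mul_cancel₀ hl0, one_smul]
  have hA1r : (l⁻¹ • A) ^ r = 1 := by
    rw [smul_pow, hc', smul_smul, inv_pow, hl, inv_mul_cancel₀ hc'0, one_smul]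
  have hB1r : (l • B) ^ r = 1 := by
    apply eq_one_of_one_kron (a := a) (by omega)
    have h1 : ((l⁻¹ • A) ⊗ₖ (l • B)) ^ r = 1 := by
      rw [hkron]
      apply Matrix.toLin'.injective
      rw [Matrix.toLin'_pow, hT, Matrix.toLin'_one]
      rfl
    rw [kron_pow, hA1r] at h1
    exact h1
  refine no_kron_ss_norm a b ha2 hae hb r hr2 hrp i c hi hi2 hc f₂ hf₂ (l⁻¹ • A) (l • B) ?_ ?_
    hA1r hB1r (by rw [hkron]; exact hker) ?_
  · rw [Matrix.det_smul]
    exact mul_ne_zero (pow_ne_zero _ (inv_ne_zero hl0)) hA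
  · rw [Matrix.det_smul]
    exact mul_ne_zero (pow_ne_zero _ hl0) hB
  · intro h1
    apply hsim l
    rw [← one_smul F A, ← mul_inv_cancel₀ hl0, ← smul_smul, h1]

end NoGo

end Cfsg.Agent.Lib.Helper2.Tsp
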