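import Mathlib
import Cfsg.Prelude.Def_GeometricClasses
import Cfsg.Agent.Lib.Helper2.TspC
import Cfsg.Agent.Lib.Helper2.SpImpE
import Cfsg.Agent.Lib.Helper2.SfrA
import Cfsg.Agent.Lib.Helper5.TensorFormSub
import Cfsg.Agent.Lib.Helper5.SpCentres
set_option autoImplicit false
set_option maxHeartbeats 1000000
set_option linter.unusedVariables false
set_option linter.unusedSectionVars false
set_option linter.style.longLine false
set_option linter.unusedSimpArgs false
set_option linter.deprecated false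
set_option linter.style.haveILetI false

/-! Elements of prime order of `PSp_n(q)` and stabilizers of tensor decompositions (part D):
the bridge to linear maps and the elements that are not conjugate into the subgroup. -/

namespace Cfsg.Agent.Lib.Helper2.Tsp

open Module Cfsg Cfsg.Agent.Lib.Helper2.Tns Cfsg.Agent.Lib.Helper5.TensorSub
  Cfsg.Agent.Lib.Helper5.TensorFormSub Cfsg.Agent.Lib.Helper5.SympBridge
  Cfsg.Agent.Lib.Helper5.SympTv Cfsg.Agent.Lib.Helper5.SpCentres
open scoped Kronecker Matrix MatrixGroups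

universe u

section Gen

variable {F : Type u} [Field F]

theorem toLin'_smul_one' {ι : Type} [Fintype ι] [DecidableEq ι] (c : F) :
    Matrix.toLin' (c • (1 : Matrix ι ι F)) = c • (1 : Module.End F (ι → F)) := by
  rw [map_smul, Matrix.toLin'_one]
  rfl

theorem finrank_ker_diag' [DecidableEq F] {ι : Type} [Fintype ι] [DecidableEq ι] (a : ι → F)
    (t : F) :
    finrank F (LinearMap.ker ((Matrix.toLin' (Matrix.diagonal a) : Module.End F (ι → F)) -
      t • 1)) = (Finset.univ.filter (fun j => a j = t)).card := by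
  have h1 : (Matrix.toLin' (Matrix.diagonal a) : Module.End F (ι → F)) - t • 1 =
      Matrix.toLin' (Matrix.diagonal (fun j => a j - t)) := by
    rw [← toLin'_smul_one', ← map_sub, Matrix.smul_one_eq_diagonal, Matrix.diagonal_sub]
  rw [h1]
  have h2 := LinearMap.finrank_range_add_finrank_ker
    (Matrix.toLin' (Matrix.diagonal (fun j => a j - t)) : (ι → F) →ₗ[F] (ι → F))
  have h3 : finrank F (LinearMap.range
      (Matrix.toLin' (Matrix.diagonal (fun j => a j - t)) : (ι → F) →ₗ[F] (ι → F))) =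
      (Matrix.diagonal (fun j => a j - t)).rank := by
    rw [Matrix.toLin'_apply']
    rfl
  rw [h3, Matrix.rank_diagonal, Module.finrank_fintype_fun_eq_card, Fintype.card_subtype] at h2
  have h4 := Finset.card_filter_add_card_filter_not (s := (Finset.univ : Finset ι))
    (fun j => a j = t)
  rw [Finset.card_univ] at h4
  have h5 : (Finset.univ.filter (fun j : ι => a j - t ≠ 0)) =
      Finset.univ.filter (fun j => ¬ a j = t) := by
    apply Finset.filter_congr
    intro j _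
    rw [Ne, sub_eq_zero]
  rw [h5] at h2
  omega

theorem sympForm_sum' (m : ℕ) (u v : Fin m ⊕ Fin m → F) :
    sympForm m F u v =
      ∑ i : Fin m, (u (Sum.inr i) * v (Sum.inl i) - u (Sum.inl i) * v (Sum.inr i)) := by
  unfold sympForm Matrix.J
  rw [Matrix.fromBlocks_mulVec]
  simp only [dotProduct, Fintype.sum_sum_type, Sum.elim_inl, Sum.elim_inr, Matrix.zero_mulVec,
    Matrix.neg_mulVec, Matrix.one_mulVec, zero_add, add_zero, Pi.neg_apply, Function.comp_apply]
  rw [← Finset.sum_add_distrib]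
  apply Finset.sum_congr rfl
  intro i _
  ring

theorem isIsom_diag (m : ℕ) (D : Fin m ⊕ Fin m → F)
    (hD : ∀ k, D (Sum.inl k) * D (Sum.inr k) = 1) :
    SpImp.IsIsom (sympBilin F m) (Matrix.toLin' (Matrix.diagonal D)) := by
  intro u v
  rw [sympBilin_apply, sympBilin_apply, Matrix.toLin'_apply, Matrix.toLin'_apply, sympForm_sum',
    sympForm_sum']
  apply Finset.sum_congr rfl
  intro k _
  rw [Matrix.mulVec_diagonal, Matrix.mulVec_diagonal, Matrix.mulVec_diagonal,
    Matrix.mulVec_diagonal]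
  have h1 := hD k
  have h2 : D (Sum.inr k) * D (Sum.inl k) = 1 := by rw [mul_comm]; exact h1
  linear_combination (u (Sum.inr k) * v (Sum.inl k)) * h2 - (u (Sum.inl k) * v (Sum.inr k)) * h1

/-- a Kronecker product with a large eigenspace has all eigenspaces of dimension divisible by
`a` -/
theorem no_kron_codim {a b : ℕ} (A : Matrix (Fin a) (Fin a) F) (B : Matrix (Fin b) (Fin b) F)
    (hB : B.det ≠ 0) (c c' : F)
    (h1 : a * b < finrank F (LinearMap.ker ((Matrix.toLin' (A ⊗ₖ B) :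
      Module.End F (Fin a × Fin b → F)) - c • 1)) + b)
    (h2 : ¬ a ∣ finrank F (LinearMap.ker ((Matrix.toLin' (A ⊗ₖ B) :
      Module.End F (Fin a × Fin b → F)) - c' • 1))) : False := by
  obtain ⟨c₁, rfl⟩ := scalar_of_codim_lt A B hB c h1
  rw [smul_one_kron, finrank_ker_one_kron] at h2
  exact h2 (dvd_mul_right _ _)

end Gen

section Bridge

variable {F : Type u} [Field F] {d a b : ℕ}

/-- the coordinate embedding as a linear equivalence -/
noncomputable def embL (e : (Fin d ⊕ Fin d) ≃ Fin a × Fin b) (P : GL (Fin d ⊕ Fin d) F) :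
    (Fin a × Fin b → F) ≃ₗ[F] (Fin d ⊕ Fin d → F) :=
  LinearEquiv.ofBijective
    { toFun := emb e P
      map_add' := emb_add e P
      map_smul' := fun c x => emb_smul e P c x }
    ⟨emb_injective e P, emb_surjective e P⟩

theorem embL_apply (e : (Fin d ⊕ Fin d) ≃ Fin a × Fin b) (P : GL (Fin d ⊕ Fin d) F)
    (w : Fin a × Fin b → F) : embL e P w = emb e P w := rfl

theorem isIsom_of_mem (x : GL (Fin d ⊕ Fin d) F) (hx : x ∈ spGL d F) :
    SpImp.IsIsom (sympBilin F d)
      (Matrix.toLin' (x : Matrix (Fin d ⊕ Fin d) (Fin d ⊕ Fin d) F)) := by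
  intro u v
  rw [sympBilin_apply, sympBilin_apply, Matrix.toLin'_apply, Matrix.toLin'_apply]
  exact (mem_spGL_iff d x).mp hx u v

theorem exists_ne_of_nondeg {k : ℕ} (hk : 0 < k) (f : (Fin k → F) → (Fin k → F) → F)
    (hf : Cfsg.Geo.IsNondegenerateForm f) : ∃ x y, f x y ≠ 0 := by
  have h1 : (Pi.single (⟨0, hk⟩ : Fin k) (1 : F) : Fin k → F) ≠ 0 := by
    intro h
    have h2 := congrFun h ⟨0, hk⟩
    rw [Pi.single_eq_same] at h2
    exact one_ne_zero h2
  obtain ⟨⟨x, hx⟩, -⟩ := hf _ h1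
  exact ⟨x, _, hx⟩

/-- an element of the symplectic group that is conjugate into the tensor product subgroup is
conjugate to a Kronecker product of similitudes -/
theorem kron_of_conj_mem (ha : 0 < a) (hb : 0 < b) (e : (Fin d ⊕ Fin d) ≃ Fin a × Fin b)
    (P : GL (Fin d ⊕ Fin d) F) (f₁ : (Fin a → F) → (Fin a → F) → F)
    (f₂ : (Fin b → F) → (Fin b → F) → F) (hf₁ : Cfsg.Geo.IsSymplecticForm f₁)
    (hf₂ : Cfsg.Geo.IsSymmetricForm f₂)
    (hS : Cfsg.Geo.IsTensorFormStructure id (Cfsg.sympForm d F) f₁ f₂ e P)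
    (x g : GL (Fin d ⊕ Fin d) F) (hx : x ∈ spGL d F) (hg : g ∈ spGL d F)
    (hmem : g⁻¹ * x * g ∈ Cfsg.Geo.tensorProductSubgroup a b e P) :
    ∃ (φ : (Fin d ⊕ Fin d → F) ≃ₗ[F] (Fin a × Fin b → F)) (A : GL (Fin a) F) (B : GL (Fin b) F)
      (l : F), l ≠ 0 ∧
      (∀ v, φ (Matrix.toLin' (x : Matrix (Fin d ⊕ Fin d) (Fin d ⊕ Fin d) F) v) =
        Matrix.toLin' ((A : Matrix (Fin a) (Fin a) F) ⊗ₖ (B : Matrix (Fin b) (Fin b) F)) (φ v)) ∧
      (∀ u v, f₁ ((A : Matrix (Fin a) (Fin a) F) *ᵥ u) ((A : Matrix (Fin a) (Fin a) F) *ᵥ v) =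
        l * f₁ u v) ∧
      (∀ u v, f₂ ((B : Matrix (Fin b) (Fin b) F) *ᵥ u) ((B : Matrix (Fin b) (Fin b) F) *ᵥ v) =
        l⁻¹ * f₂ u v) := by
  obtain ⟨A, B, hy₁⟩ := (mem_tensor e P _).mp hmem
  have hy₁mem : g⁻¹ * x * g ∈ spGL d F :=
    (spGL d F).mul_mem ((spGL d F).mul_mem ((spGL d F).inv_mem hg) hx) hg
  rw [hy₁] at hy₁mem
  obtain ⟨l, hl0, hl1, hl2⟩ := exists_mult e P hf₁.bilinear hf₂.bilinear
    (exists_ne_of_nondeg ha f₁ hf₁.nondegenerate) (exists_ne_of_nondeg hb f₂ hf₂.nondegenerate)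
    hS A B ((mem_spGL_iff d _).mp hy₁mem)
  refine ⟨(Matrix.toLinearEquiv' ((g⁻¹ : GL (Fin d ⊕ Fin d) F) :
    Matrix (Fin d ⊕ Fin d) (Fin d ⊕ Fin d) F) (Units.invertible _)).trans (embL e P).symm,
    A, B, l, hl0, ?_, hl1, hl2⟩
  intro v
  have h3 : ∀ u : Fin d ⊕ Fin d → F, (Matrix.toLinearEquiv' ((g⁻¹ : GL (Fin d ⊕ Fin d) F) :
      Matrix (Fin d ⊕ Fin d) (Fin d ⊕ Fin d) F) (Units.invertible _)) u =
      ((g⁻¹ : GL (Fin d ⊕ Fin d) F) : Matrix (Fin d ⊕ Fin d) (Fin d ⊕ Fin d) F) *ᵥ u := by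
    intro u
    rfl
  rw [LinearEquiv.trans_apply, LinearEquiv.trans_apply, h3, h3, LinearEquiv.symm_apply_eq,
    embL_apply, Matrix.toLin'_apply, Matrix.toLin'_apply, ← coe_kron, ← Phi_emb, ← hy₁,
    ← embL_apply, LinearEquiv.apply_symm_apply, Matrix.mulVec_mulVec, Matrix.mulVec_mulVec,
    ← Units.val_mul, ← Units.val_mul]
  congr 2
  group

end Bridge

end Cfsg.Agent.Lib.Helper2.Tsp
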