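import Mathlib
import Cfsg.Agent.Lib.Helper2.TspD
set_option autoImplicit false
set_option maxHeartbeats 1000000
set_option linter.unusedVariables false
set_option linter.unusedSectionVars false
set_option linter.style.longLine false
set_option linter.unusedSimpArgs false
set_option linter.deprecated false
set_option linter.style.haveILetI false

/-! Elements of prime order of `PSp_n(q)` and stabilizers of tensor decompositions (part E):
the bad elements and the necessity direction. -/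

namespace Cfsg.Agent.Lib.Helper2.Tsp

open Module Cfsg Cfsg.Agent.Lib.Helper2.Tns Cfsg.Agent.Lib.Helper5.TensorSub
  Cfsg.Agent.Lib.Helper5.TensorFormSub Cfsg.Agent.Lib.Helper5.SympBridge
  Cfsg.Agent.Lib.Helper5.SympTv Cfsg.Agent.Lib.Helper5.SpCentres
open scoped Kronecker Matrix MatrixGroups

universe u

section Bad

variable {F : Type u} [Field F] [Fintype F]

theorem det_ne_zero_of_gl' {m : Type} [Fintype m] [DecidableEq m] (A : GL m F) :
    (A : Matrix m m F).det ≠ 0 := by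
  rw [← Matrix.GeneralLinearGroup.val_det_apply]
  exact Units.ne_zero _

/-- a symplectic transvection -/
theorem exists_sp_transv {p : ℕ} [hp : Fact p.Prime] [CharP F p] (d : ℕ) (hd : 1 ≤ d) :
    ∃ y : Module.End F (Fin d ⊕ Fin d → F), SpImp.IsIsom (sympBilin F d) y ∧
      y ^ p = (1 : F) • 1 ∧ (∀ c' : F, y ≠ c' • 1) ∧
      finrank F (LinearMap.ker (y - (1 : F) • 1)) + 1 = 2 * d := by
  classical
  obtain ⟨v, hvdef⟩ : ∃ v : Fin d ⊕ Fin d → F, v = Pi.single (Sum.inl ⟨0, hd⟩) 1 := ⟨_, rfl⟩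
  have hv0 : v ≠ 0 := by
    intro h0
    have h1 := congrFun h0 (Sum.inl ⟨0, hd⟩)
    rw [hvdef, Pi.single_eq_same] at h1
    exact one_ne_zero h1
  obtain ⟨φ, hφ⟩ : ∃ φ : (Fin d ⊕ Fin d → F) →ₗ[F] F, ∀ u, φ u = sympBilin F d u v :=
    ⟨(sympBilin F d).flip v, fun u => rfl⟩
  have hφv : φ v = 0 := by
    rw [hφ]
    exact sympBilin_isAlt d v
  obtain ⟨e₁, he₁⟩ : ∃ e₁, φ e₁ = 1 := by
    have h1 : ∃ w, sympBilin F d w v ≠ 0 := by
      by_contra hcon
      push Not at hcon
      exact hv0 ((sympBilin_nondegenerate (F := F) d).2 v hcon)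
    obtain ⟨w, hw⟩ := h1
    refine ⟨(sympBilin F d w v)⁻¹ • w, ?_⟩
    rw [map_smul, hφ, smul_eq_mul, inv_mul_cancel₀ hw]
  obtain ⟨N, hN⟩ : ∃ N : Module.End F (Fin d ⊕ Fin d → F), N = φ.smulRight v := ⟨_, rfl⟩
  have hNap : ∀ u, N u = φ u • v := by
    intro u
    rw [hN, LinearMap.smulRight_apply]
  obtain ⟨y, hy⟩ : ∃ y : Module.End F (Fin d ⊕ Fin d → F), y = 1 + N := ⟨_, rfl⟩
  have hyap : ∀ u, y u = u + φ u • v := by
    intro u
    rw [hy, LinearMap.add_apply, Module.End.one_apply, hNap]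
  have hiso : SpImp.IsIsom (sympBilin F d) y := by
    intro u w
    rw [hyap, hyap, map_add, map_add, LinearMap.add_apply, LinearMap.add_apply, map_smul,
      map_smul, LinearMap.smul_apply, LinearMap.smul_apply, map_smul, ← hφ u,
      sympBilin_isAlt d v, ← (sympBilin_isAlt (F := F) d).neg_eq w v, ← hφ w]
    simp only [smul_eq_mul]
    ring
  have hpow : ∀ (k : ℕ) u, (y ^ k) u = u + ((k : F) * φ u) • v := by
    intro k
    induction k with
    | zero =>
      intro u
      rw [pow_zero, Module.End.one_apply, Nat.cast_zero, zero_mul, zero_smul, add_zero]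
    | succ k ih =>
      intro u
      rw [pow_succ, Module.End.mul_apply, ih, hyap, map_add, map_smul, hφv, smul_eq_mul, mul_zero,
        add_zero, add_assoc, ← add_smul, Nat.cast_succ]
      congr 2
      ring
  have hyp : y ^ p = (1 : F) • 1 := by
    apply LinearMap.ext
    intro u
    rw [hpow, CharP.cast_eq_zero F p, zero_mul, zero_smul, add_zero, one_smul,
      Module.End.one_apply]
  have hns : ∀ c' : F, y ≠ c' • 1 := by
    intro c' hc
    have h1 := LinearMap.congr_fun hc e₁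
    rw [hyap, he₁, one_smul, LinearMap.smul_apply, Module.End.one_apply] at h1
    have h2 := congrArg φ h1
    rw [map_add, he₁, hφv, add_zero, map_smul, he₁, smul_eq_mul, mul_one] at h2
    rw [← h2, one_smul] at h1
    exact hv0 (add_eq_left.mp h1)
  have hker : finrank F (LinearMap.ker (y - (1 : F) • 1)) + 1 = 2 * d := by
    have h1 : y - (1 : F) • 1 = N := by
      rw [hy, one_smul, add_sub_cancel_left]
    have hφ0 : φ ≠ 0 := by
      intro h0
      rw [h0, LinearMap.zero_apply] at he₁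
      exact zero_ne_one he₁
    have h2 := LinearMap.finrank_range_add_finrank_ker N
    rw [hN, LinearMap.range_smulRight_apply hφ0, finrank_span_singleton hv0,
      Module.finrank_fintype_fun_eq_card, Fintype.card_sum, Fintype.card_fin] at h2
    rw [h1, hN]
    omega
  exact ⟨y, hiso, hyp, hns, hker⟩

/-- a diagonal symplectic element with eigenvalues `lam`, `lam⁻¹`, `1, …, 1` -/
theorem exists_sp_diag_pair (lam : F) (r : ℕ) (hr0 : r ≠ 0) (hlr : lam ^ r = 1) (hl1 : lam ≠ 1)
    (d : ℕ) (hd : 2 ≤ d) :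
    ∃ y : Module.End F (Fin d ⊕ Fin d → F), SpImp.IsIsom (sympBilin F d) y ∧
      y ^ r = (1 : F) • 1 ∧ (∀ c' : F, y ≠ c' • 1) ∧
      finrank F (LinearMap.ker (y - (1 : F) • 1)) + 2 = 2 * d ∧
      (lam * lam ≠ 1 → finrank F (LinearMap.ker (y - lam • 1)) = 1) := by
  classical
  have hl0 : lam ≠ 0 := by
    rintro rfl
    rw [zero_pow hr0] at hlr
    exact zero_ne_one hlr
  have hli1 : lam⁻¹ ≠ 1 := by
    intro h
    apply hl1
    rw [← inv_inv lam, h, inv_one]
  obtain ⟨k0, hk0⟩ : ∃ k0 : Fin d, k0.val = 0 := ⟨⟨0, by omega⟩, rfl⟩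
  obtain ⟨k1, hk1⟩ : ∃ k1 : Fin d, k1.val = 1 := ⟨⟨1, by omega⟩, rfl⟩
  have hk01 : k1 ≠ k0 := by
    intro h
    rw [h] at hk1
    omega
  obtain ⟨i0, hi0⟩ : ∃ i0 : Fin d ⊕ Fin d, i0 = Sum.inl k0 := ⟨_, rfl⟩
  obtain ⟨i1, hi1⟩ : ∃ i1 : Fin d ⊕ Fin d, i1 = Sum.inr k0 := ⟨_, rfl⟩
  obtain ⟨i2, hi2⟩ : ∃ i2 : Fin d ⊕ Fin d, i2 = Sum.inl k1 := ⟨_, rfl⟩
  have h01 : i1 ≠ i0 := by
    rw [hi0, hi1]
    exact Sum.inr_ne_inl
  have h02 : i2 ≠ i0 := by
    rw [hi0, hi2]
    intro h
    exact hk01 (Sum.inl_injective h)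
  have h12 : i2 ≠ i1 := by
    rw [hi1, hi2]
    exact Sum.inl_ne_inr
  obtain ⟨D, hD⟩ : ∃ D : Fin d ⊕ Fin d → F, D = fun j =>
      (if j = i0 then lam else 1) * (if j = i1 then lam⁻¹ else 1) := ⟨_, rfl⟩
  have hD0 : D i0 = lam := by
    rw [hD]
    simp only [if_true, if_neg h01.symm, mul_one]
  have hD1 : D i1 = lam⁻¹ := by
    rw [hD]
    simp only [if_true, if_neg h01, one_mul]
  have hDj : ∀ j, j ≠ i0 → j ≠ i1 → D j = 1 := by
    intro j hj0 hj1
    rw [hD]
    simp only [if_neg hj0, if_neg hj1, mul_one]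
  have hDpair : ∀ k, D (Sum.inl k) * D (Sum.inr k) = 1 := by
    intro k
    by_cases hk : k = k0
    · rw [hk, ← hi0, ← hi1, hD0, hD1, mul_inv_cancel₀ hl0]
    · rw [hDj (Sum.inl k) (by rw [hi0]; intro h; exact hk (Sum.inl_injective h))
        (by rw [hi1]; exact Sum.inl_ne_inr),
        hDj (Sum.inr k) (by rw [hi0]; exact Sum.inr_ne_inl)
        (by rw [hi1]; intro h; exact hk (Sum.inr_injective h)), mul_one]
  obtain ⟨y, hy⟩ : ∃ y : Module.End F (Fin d ⊕ Fin d → F),
      y = Matrix.toLin' (Matrix.diagonal D) := ⟨_, rfl⟩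
  have hiso : SpImp.IsIsom (sympBilin F d) y := by
    rw [hy]
    exact isIsom_diag d D hDpair
  have hyr : y ^ r = (1 : F) • 1 := by
    rw [hy, ← Matrix.toLin'_pow, Matrix.diagonal_pow, ← toLin'_smul_one',
      Matrix.smul_one_eq_diagonal]
    congr 2
    funext j
    rw [Pi.pow_apply]
    by_cases hj0 : j = i0
    · rw [hj0, hD0, hlr]
    · by_cases hj1 : j = i1
      · rw [hj1, hD1, inv_pow, hlr, inv_one]
      · rw [hDj j hj0 hj1, one_pow]
  have hns : ∀ c' : F, y ≠ c' • 1 := by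
    intro c' hc
    rw [hy, ← toLin'_smul_one', Matrix.smul_one_eq_diagonal] at hc
    have h1 := Matrix.diagonal_injective (Matrix.toLin'.injective hc)
    have h2 : D i0 = c' := congrFun h1 i0
    have h3 : D i2 = c' := congrFun h1 i2
    rw [hD0] at h2
    rw [hDj i2 h02 h12] at h3
    exact hl1 (h2.trans h3.symm)
  have hk1' : finrank F (LinearMap.ker (y - (1 : F) • 1)) + 2 = 2 * d := by
    rw [hy, finrank_ker_diag']
    have h1 : Finset.univ.filter (fun j => D j = 1) = (Finset.univ.erase i0).erase i1 := by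
      ext j
      rw [Finset.mem_filter, Finset.mem_erase, Finset.mem_erase]
      constructor
      · rintro ⟨-, hj⟩
        refine ⟨?_, ?_, Finset.mem_univ _⟩
        · rintro rfl
          rw [hD1] at hj
          exact hli1 hj
        · rintro rfl
          rw [hD0] at hj
          exact hl1 hj
      · rintro ⟨hne1, hne0, -⟩
        exact ⟨Finset.mem_univ _, hDj j hne0 hne1⟩
    rw [h1, Finset.card_erase_of_mem (Finset.mem_erase.mpr ⟨h01, Finset.mem_univ _⟩),
      Finset.card_erase_of_mem (Finset.mem_univ _), Finset.card_univ, Fintype.card_sum,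
      Fintype.card_fin]
    omega
  have hk2 : lam * lam ≠ 1 → finrank F (LinearMap.ker (y - lam • 1)) = 1 := by
    intro hll
    rw [hy, finrank_ker_diag']
    have h1 : Finset.univ.filter (fun j => D j = lam) = {i0} := by
      ext j
      rw [Finset.mem_filter, Finset.mem_singleton]
      constructor
      · rintro ⟨-, hj⟩
        by_contra hj0
        by_cases hj1 : j = i1
        · rw [hj1, hD1] at hj
          apply hll
          have h5 : lam * lam = lam * lam⁻¹ := by rw [hj]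
          rw [h5, mul_inv_cancel₀ hl0]
        · rw [hDj j hj0 hj1] at hj
          exact hl1 hj.symm
      · rintro rfl
        exact ⟨Finset.mem_univ _, hD0⟩
    rw [h1, Finset.card_singleton]
  exact ⟨y, hiso, hyr, hns, hk1', hk2⟩

/-- a semisimple symplectic element of order `r` with the largest possible fixed space -/
theorem exists_sp_ss {p : ℕ} [hp : Fact p.Prime] [CharP F p] (d : ℕ) (r : ℕ)
    [hr : Fact r.Prime] (hr2 : r ≠ 2) (hrp : r ≠ p) (hΩ : r ∣ Nat.card (spGL d F)) (i c : ℕ)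
    (hi : i = orderOf ((Fintype.card F : ℕ) : ZMod r)) (hc : c = if Even i then i else 2 * i) :
    ∃ y : Module.End F (Fin d ⊕ Fin d → F), SpImp.IsIsom (sympBilin F d) y ∧ y ^ r = 1 ∧
      finrank F (LinearMap.ker (y - 1)) + c = 2 * d := by
  classical
  obtain ⟨f₀, -, hf₀⟩ := FiniteField.card F p
  have hrq : ¬ r ∣ Fintype.card F := Elus.not_dvd_card_of_ne (F := F) r hrp
  have hrF : (r : F) ≠ 0 := by
    intro h
    have h1 := (CharP.cast_eq_zero_iff F p r).mp h
    exact hrp ((Nat.prime_dvd_prime_iff_eq hp.out hr.out).mp h1).symm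
  obtain ⟨g, hg⟩ := exists_prime_orderOf_dvd_card' r hΩ
  obtain ⟨y₀, hy₀def⟩ : ∃ y₀ : Module.End F (Fin d ⊕ Fin d → F), y₀ = Matrix.toLin'
      ((g : GL (Fin d ⊕ Fin d) F) : Matrix (Fin d ⊕ Fin d) (Fin d ⊕ Fin d) F) := ⟨_, rfl⟩
  have hy₀B : SpImp.IsIsom (sympBilin F d) y₀ := by
    rw [hy₀def]
    exact isIsom_of_mem _ g.2
  have hgr : g ^ r = 1 := by
    rw [← hg]
    exact pow_orderOf_eq_one g
  have hy₀r : y₀ ^ r = 1 := by
    have h1 : ((g : GL (Fin d ⊕ Fin d) F) : Matrix (Fin d ⊕ Fin d) (Fin d ⊕ Fin d) F) ^ r =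
        1 := by
      have h2 := congrArg (fun t : ↥(spGL d F) => ((t : GL (Fin d ⊕ Fin d) F) :
        Matrix (Fin d ⊕ Fin d) (Fin d ⊕ Fin d) F)) hgr
      simp only [SubmonoidClass.coe_pow, Units.val_pow_eq_pow_val, OneMemClass.coe_one,
        Units.val_one] at h2
      exact h2
    rw [hy₀def, ← Matrix.toLin'_pow, h1, Matrix.toLin'_one]
    rfl
  have hy₀1 : y₀ ≠ 1 := by
    intro h
    have h1 : ((g : GL (Fin d ⊕ Fin d) F) : Matrix (Fin d ⊕ Fin d) (Fin d ⊕ Fin d) F) = 1 := by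
      apply Matrix.toLin'.injective
      rw [← hy₀def, h, Matrix.toLin'_one]
      rfl
    have h2 : g = 1 := by
      apply Subtype.ext
      apply Units.ext
      exact h1
    rw [h2, orderOf_one] at hg
    exact hr.out.one_lt.ne hg
  obtain ⟨hcn, hex⟩ := SpImp.exists_iso_elt (sympBilin F d) hf₀ (sympBilin_isAlt d)
    (sympBilin_nondegenerate d) r hr2 hrp hrF hrq i c hi hc hy₀B hy₀r hy₀1 (2 * d) (by
      rw [Module.finrank_fintype_fun_eq_card, Fintype.card_sum, Fintype.card_fin]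
      ring)
  obtain ⟨y, hyB, hyr, hyk⟩ := hex 1 (by omega)
  exact ⟨y, hyB, hyr, by omega⟩

end Bad

end Cfsg.Agent.Lib.Helper2.Tsp
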