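import Mathlib
import Cfsg.Agent.Lib.Helper2.TspE
set_option autoImplicit false
set_option maxHeartbeats 1000000
set_option linter.unusedVariables false
set_option linter.unusedSectionVars false
set_option linter.style.longLine false
set_option linter.unusedSimpArgs false
set_option linter.deprecated false
set_option linter.style.haveILetI false

/-! Elements of prime order of `PSp_n(q)` and stabilizers of tensor decompositions (part F):
the necessity direction. -/

namespace Cfsg.Agent.Lib.Helper2.Tsp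

open Module Cfsg Cfsg.Agent.Lib.Helper2.Tns Cfsg.Agent.Lib.Helper5.TensorSub
  Cfsg.Agent.Lib.Helper5.TensorFormSub Cfsg.Agent.Lib.Helper5.SympBridge
  Cfsg.Agent.Lib.Helper5.SympTv Cfsg.Agent.Lib.Helper5.SpCentres
open scoped Kronecker Matrix MatrixGroups

universe u

section Nec

variable {F : Type u} [Field F] [Fintype F] {d a b : ℕ}

theorem exists_spgl_of_isom (d : ℕ) (y : Module.End F (Fin d ⊕ Fin d → F))
    (hy : SpImp.IsIsom (sympBilin F d) y) :
    ∃ x : GL (Fin d ⊕ Fin d) F, x ∈ spGL d F ∧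
      Matrix.toLin' (x : Matrix (Fin d ⊕ Fin d) (Fin d ⊕ Fin d) F) = y := by
  classical
  have hker : LinearMap.ker y = ⊥ := by
    rw [LinearMap.ker_eq_bot']
    intro u hu
    apply (sympBilin_nondegenerate (F := F) d).1 u
    intro v
    rw [← hy u v, hu, map_zero, LinearMap.zero_apply]
  have hdet : (LinearMap.toMatrix' y).det ≠ 0 := by
    rw [LinearMap.det_toMatrix']
    intro h0
    have h1 := LinearMap.bot_lt_ker_of_det_eq_zero h0
    rw [hker] at h1
    exact lt_irrefl _ h1
  refine ⟨Matrix.GeneralLinearGroup.mkOfDetNeZero (LinearMap.toMatrix' y) hdet, ?_, ?_⟩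
  · rw [mem_spGL_iff]
    intro u v
    have h1 : ((Matrix.GeneralLinearGroup.mkOfDetNeZero (LinearMap.toMatrix' y) hdet :
        GL (Fin d ⊕ Fin d) F) : Matrix (Fin d ⊕ Fin d) (Fin d ⊕ Fin d) F) =
        LinearMap.toMatrix' y := rfl
    rw [h1, LinearMap.toMatrix'_mulVec, LinearMap.toMatrix'_mulVec]
    exact hy u v
  · exact Matrix.toLin'_toMatrix' y

theorem false_of_bad_sp (ha : 0 < a) (hb : 0 < b) (e : (Fin d ⊕ Fin d) ≃ Fin a × Fin b)
    (P : GL (Fin d ⊕ Fin d) F) (f₁ : (Fin a → F) → (Fin a → F) → F)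
    (f₂ : (Fin b → F) → (Fin b → F) → F) (hf₁ : Cfsg.Geo.IsSymplecticForm f₁)
    (hf₂ : Cfsg.Geo.IsSymmetricForm f₂)
    (hS : Cfsg.Geo.IsTensorFormStructure id (Cfsg.sympForm d F) f₁ f₂ e P) (r : ℕ)
    (hall : ∀ x ∈ Cfsg.spGL d F,
      (∃ z : F, ((x ^ r : GL (Fin d ⊕ Fin d) F) : Matrix (Fin d ⊕ Fin d) (Fin d ⊕ Fin d) F) =
        z • (1 : Matrix (Fin d ⊕ Fin d) (Fin d ⊕ Fin d) F)) →
      (∀ z : F, (x : Matrix (Fin d ⊕ Fin d) (Fin d ⊕ Fin d) F) ≠
        z • (1 : Matrix (Fin d ⊕ Fin d) (Fin d ⊕ Fin d) F)) →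
      ∃ g ∈ Cfsg.spGL d F, g⁻¹ * x * g ∈ Cfsg.Geo.tensorProductSubgroup a b e P)
    (y : Module.End F (Fin d ⊕ Fin d → F)) (hy : SpImp.IsIsom (sympBilin F d) y) (z : F)
    (hyr : y ^ r = z • 1) (hns : ∀ c : F, y ≠ c • 1)
    (hbad : ∀ (φ : (Fin d ⊕ Fin d → F) ≃ₗ[F] (Fin a × Fin b → F)) (A : GL (Fin a) F)
      (B : GL (Fin b) F) (l : F), l ≠ 0 →
      (∀ v, φ (y v) =
        Matrix.toLin' ((A : Matrix (Fin a) (Fin a) F) ⊗ₖ (B : Matrix (Fin b) (Fin b) F)) (φ v)) →
      (∀ u v, f₁ ((A : Matrix (Fin a) (Fin a) F) *ᵥ u) ((A : Matrix (Fin a) (Fin a) F) *ᵥ v) =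
        l * f₁ u v) →
      (∀ u v, f₂ ((B : Matrix (Fin b) (Fin b) F) *ᵥ u) ((B : Matrix (Fin b) (Fin b) F) *ᵥ v) =
        l⁻¹ * f₂ u v) → False) : False := by
  obtain ⟨x, hx, hxy⟩ := exists_spgl_of_isom d y hy
  have hsm : ∀ c : F, Matrix.toLin' (c • (1 : Matrix (Fin d ⊕ Fin d) (Fin d ⊕ Fin d) F)) =
      c • (1 : Module.End F (Fin d ⊕ Fin d → F)) := by
    intro c
    rw [map_smul, Matrix.toLin'_one]
    rfl
  obtain ⟨g, hg, hmem⟩ := hall x hx ⟨z, by
    rw [Units.val_pow_eq_pow_val]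
    apply Matrix.toLin'.injective
    rw [Matrix.toLin'_pow, hxy, hyr, hsm]⟩ (by
    intro c hc
    apply hns c
    rw [← hxy, hc, hsm])
  obtain ⟨φ, A, B, l, hl, h1, h2, h3⟩ :=
    kron_of_conj_mem ha hb e P f₁ f₂ hf₁ hf₂ hS x g hx hg hmem
  rw [hxy] at h1
  exact hbad φ A B l hl h1 h2 h3

theorem necessity_sp {p : ℕ} [hp : Fact p.Prime] [CharP F p] (hodd : Odd (Fintype.card F))
    (d : ℕ) (hd : 2 ≤ d) (a b : ℕ) (hab : 2 * d = a * b) (hae : Even a) (ha2 : 2 ≤ a)
    (hb : 3 ≤ b) (e : (Fin d ⊕ Fin d) ≃ Fin a × Fin b)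
    (P : GL (Fin d ⊕ Fin d) F) (f₁ : (Fin a → F) → (Fin a → F) → F)
    (f₂ : (Fin b → F) → (Fin b → F) → F) (hf₁ : Cfsg.Geo.IsSymplecticForm f₁)
    (hf₂ : Cfsg.Geo.IsSymmetricForm f₂)
    (hS : Cfsg.Geo.IsTensorFormStructure id (Cfsg.sympForm d F) f₁ f₂ e P) (r : ℕ)
    [hr : Fact r.Prime]
    (hΩ : r ∣ (Cfsg.Geo.tensorProductSubgroup a b e P).relIndex (Cfsg.spGL d F))
    (hall : ∀ x ∈ Cfsg.spGL d F,
      (∃ z : F, ((x ^ r : GL (Fin d ⊕ Fin d) F) : Matrix (Fin d ⊕ Fin d) (Fin d ⊕ Fin d) F) =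
        z • (1 : Matrix (Fin d ⊕ Fin d) (Fin d ⊕ Fin d) F)) →
      (∀ z : F, (x : Matrix (Fin d ⊕ Fin d) (Fin d ⊕ Fin d) F) ≠
        z • (1 : Matrix (Fin d ⊕ Fin d) (Fin d ⊕ Fin d) F)) →
      ∃ g ∈ Cfsg.spGL d F, g⁻¹ * x * g ∈ Cfsg.Geo.tensorProductSubgroup a b e P) :
    r = 2 ∧ a = 2 := by
  classical
  have hbad := false_of_bad_sp (by omega) (by omega) e P f₁ f₂ hf₁ hf₂ hS r hall
  have hadvd : a ∣ 2 * d := by
    rw [hab]
    exact dvd_mul_right a b
  by_cases hrp : r = p
  · exfalso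
    subst hrp
    obtain ⟨y, hiso, hyp, hns, hker⟩ := exists_sp_transv (F := F) (p := r) d (by omega)
    refine hbad y hiso 1 hyp hns (fun φ A B l hl hconj hs1 hs2 => ?_)
    have hk := finrank_ker_of_conj φ y _ hconj 1
    rw [hk] at hker
    refine no_kron_codim (A : Matrix (Fin a) (Fin a) F) (B : Matrix (Fin b) (Fin b) F)
      (det_ne_zero_of_gl' B) 1 1 (by omega) ?_
    intro hdvd
    have h1 : a ∣ 1 := by
      have h2 := Nat.dvd_sub hadvd hdvd
      have h3 : 2 * d - finrank F (LinearMap.ker ((Matrix.toLin'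
        ((A : Matrix (Fin a) (Fin a) F) ⊗ₖ (B : Matrix (Fin b) (Fin b) F)) :
        Module.End F (Fin a × Fin b → F)) - (1 : F) • 1)) = 1 := by omega
      rw [h3] at h2
      exact h2
    rw [Nat.dvd_one] at h1
    omega
  · by_cases hr2 : r = 2
    · subst hr2
      refine ⟨rfl, ?_⟩
      by_contra ha2'
      have hp2 : p ≠ 2 := fun h => hrp h.symm
      have h2F : (2 : F) ≠ 0 := SpInv.two_ne_zero_of_char (F := F) hp2
      have hm1 : (-1 : F) ≠ 1 := by
        intro h
        apply h2F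
        linear_combination -h
      obtain ⟨y, hiso, hyr, hns, hk1, -⟩ := exists_sp_diag_pair (-1 : F) 2 two_ne_zero
        (by norm_num) hm1 d hd
      refine hbad y hiso 1 hyr hns (fun φ A B l hl hconj hs1 hs2 => ?_)
      have hk := finrank_ker_of_conj φ y _ hconj 1
      rw [hk] at hk1
      refine no_kron_codim (A : Matrix (Fin a) (Fin a) F) (B : Matrix (Fin b) (Fin b) F)
        (det_ne_zero_of_gl' B) 1 1 (by omega) ?_
      intro hdvd
      have h1 : a ∣ 2 := by
        have h2 := Nat.dvd_sub hadvd hdvd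
        have h3 : 2 * d - finrank F (LinearMap.ker ((Matrix.toLin'
          ((A : Matrix (Fin a) (Fin a) F) ⊗ₖ (B : Matrix (Fin b) (Fin b) F)) :
          Module.End F (Fin a × Fin b → F)) - (1 : F) • 1)) = 2 := by omega
        rw [h3] at h2
        exact h2
      have h4 := Nat.le_of_dvd (by norm_num) h1
      omega
    · exfalso
      have hrq : ¬ r ∣ Fintype.card F := Elus.not_dvd_card_of_ne (F := F) r hrp
      obtain ⟨i, hi⟩ : ∃ i, i = orderOf ((Fintype.card F : ℕ) : ZMod r) := ⟨_, rfl⟩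
      have hipos : 0 < i := by
        rw [hi]
        exact Elus.ord_pos r (Fintype.card F) hrq
      by_cases hi1 : i = 1
      · have hrq1 : r ∣ Fintype.card F - 1 :=
          (Elus.ord_eq_one_iff r (Fintype.card F) Fintype.card_pos).mp (by rw [← hi, hi1])
        obtain ⟨lam, hlam⟩ := Sfr.exists_elt_of_order (F := F) r hrq1
        have hlr : lam ^ r = 1 := by
          rw [← hlam]
          exact pow_orderOf_eq_one lam
        have hl1 : lam ≠ 1 := by
          rintro rfl
          rw [orderOf_one] at hlam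
          exact hr.out.one_lt.ne hlam
        have hll : lam * lam ≠ 1 := by
          intro h
          have h1 : orderOf lam ∣ 2 := orderOf_dvd_of_pow_eq_one (by rw [pow_two]; exact h)
          rw [hlam] at h1
          have h2 := Nat.le_of_dvd (by norm_num) h1
          have h3 := hr.out.two_le
          omega
        obtain ⟨y, hiso, hyr, hns, hk1, hk2⟩ := exists_sp_diag_pair lam r hr.out.ne_zero hlr hl1 d
          hd
        refine hbad y hiso 1 hyr hns (fun φ A B l hl hconj hs1 hs2 => ?_)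
        have hk := finrank_ker_of_conj φ y _ hconj 1
        have hk' := finrank_ker_of_conj φ y _ hconj lam
        rw [hk] at hk1
        have hk2' := hk2 hll
        rw [hk'] at hk2'
        refine no_kron_codim (A : Matrix (Fin a) (Fin a) F) (B : Matrix (Fin b) (Fin b) F)
          (det_ne_zero_of_gl' B) 1 lam (by omega) ?_
        rw [hk2', Nat.dvd_one]
        omega
      · have hi2 : 2 ≤ i := by omega
        obtain ⟨c, hc⟩ : ∃ c, c = if Even i then i else 2 * i := ⟨_, rfl⟩
        have hci : i ≤ c := by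
          rw [hc]
          split_ifs <;> omega
        have hΩ' : r ∣ Nat.card (spGL d F) := dvd_trans hΩ (Subgroup.relIndex_dvd_card _ _)
        obtain ⟨y, hiso, hyr, hker⟩ := exists_sp_ss (F := F) (p := p) d r hr2 hrp hΩ' i c hi hc
        have hrq1 : ¬ r ∣ Fintype.card F - 1 := by
          intro h
          have h1 := (Elus.ord_eq_one_iff r (Fintype.card F) Fintype.card_pos).mpr h
          rw [← hi] at h1
          exact hi1 h1
        have hns : ∀ c' : F, y ≠ c' • 1 := by
          intro c' hc'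
          have hne : Nonempty (Fin d ⊕ Fin d) := ⟨Sum.inl ⟨0, by omega⟩⟩
          have h1 : c' ^ r = 1 := by
            have h0 : (c' • (1 : Module.End F (Fin d ⊕ Fin d → F))) ^ r = c' ^ r • 1 := by
              rw [smul_pow, one_pow]
            rw [← hc', hyr] at h0
            have h00 : (1 : F) • (1 : Module.End F (Fin d ⊕ Fin d → F)) = c' ^ r • 1 := by
              rw [one_smul]
              exact h0
            exact (SpImp.smul_one_inj' h00).symm
          have h2 := Elus.eq_one_of_pow r hrq1 c' h1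
          rw [h2, one_smul] at hc'
          rw [hc', sub_self, LinearMap.ker_zero, finrank_top, Module.finrank_fintype_fun_eq_card,
            Fintype.card_sum, Fintype.card_fin] at hker
          omega
        refine hbad y hiso 1 (by rw [hyr, one_smul]) hns (fun φ A B l hl hconj hs1 hs2 => ?_)
        have hk := finrank_ker_of_conj φ y _ hconj 1
        rw [one_smul, one_smul] at hk
        rw [hk, hab] at hker
        have hT := pow_eq_of_conj φ y _ hconj r 1 (by rw [hyr, one_smul])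
        rw [one_smul] at hT
        refine no_kron_ss (p := p) a b ha2 hae hb r hr2 hrp i c hi hi2 hc f₂ hf₂
          (A : Matrix (Fin a) (Fin a) F) (B : Matrix (Fin b) (Fin b) F)
          (det_ne_zero_of_gl' A) (det_ne_zero_of_gl' B) hT hker ?_
        intro c₁ hA x₁ y₁
        obtain ⟨u, v, huv⟩ := exists_ne_of_nondeg (by omega : 0 < a) f₁ hf₁.nondegenerate
        have h1 := hs1 u v
        rw [hA, Matrix.smul_mulVec, Matrix.smul_mulVec, Matrix.one_mulVec, Matrix.one_mulVec,
          hf₁.bilinear.smul_left, hf₁.bilinear.smul_right] at h1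
        have hl' : l = c₁ * c₁ := by
          have h2 : (c₁ * c₁ - l) * f₁ u v = 0 := by linear_combination h1
          rcases mul_eq_zero.mp h2 with h3 | h3
          · linear_combination -h3
          · exact absurd h3 huv
        rw [Matrix.smul_mulVec, Matrix.smul_mulVec, hf₂.bilinear.smul_left,
          hf₂.bilinear.smul_right, hs2, hl']
        have hc10 : c₁ ≠ 0 := by
          rintro rfl
          apply hl
          rw [hl', mul_zero]
        field_simp

end Nec

end Cfsg.Agent.Lib.Helper2.Tsp
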