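import Mathlib
import Cfsg.Agent.Lib.Helper2.SpImpA
import Cfsg.Agent.Lib.Helper2.SpImpB
import Cfsg.Agent.Lib.Helper2.SpInvB
set_option autoImplicit false
set_option maxHeartbeats 1000000
set_option linter.unusedVariables false
set_option linter.unusedSectionVars false
set_option linter.style.longLine false
set_option linter.unusedSimpArgs false
set_option linter.deprecated false
set_option linter.style.haveILetI false

/-! Elements of prime order of `PSp_n(q)` and stabilizers of tensor decompositions (part G):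
conjugacy in the symplectic group of elements with `x² = ±1`. -/

namespace Cfsg.Agent.Lib.Helper2.Tsp

open Module

universe u v

section Conj

variable {F : Type u} [Field F] {V : Type v} [AddCommGroup V] [Module F V] [FiniteDimensional F V]
variable (B : LinearMap.BilinForm F V)

/-- two operators acting in the same way on two hyperbolic bases are conjugate by an isometry -/
theorem conj_of_families (hA : B.IsAlt) (hB : B.Nondegenerate) {ι : Type} [Fintype ι]
    [DecidableEq ι] (e f e' f' : ι → V)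
    (h1 : ∀ i j, B (e i) (f j) = if i = j then 1 else 0) (h2 : ∀ i j, B (e i) (e j) = 0)
    (h3 : ∀ i j, B (f i) (f j) = 0)
    (h1' : ∀ i j, B (e' i) (f' j) = if i = j then 1 else 0) (h2' : ∀ i j, B (e' i) (e' j) = 0)
    (h3' : ∀ i j, B (f' i) (f' j) = 0)
    (hcard : 2 * Fintype.card ι = finrank F V) (x y : Module.End F V)
    (c₁ c₂ c₃ c₄ : ι → F)
    (hxe : ∀ i, x (e i) = c₁ i • e i + c₂ i • f i) (hxf : ∀ i, x (f i) = c₃ i • e i + c₄ i • f i)
    (hye : ∀ i, y (e' i) = c₁ i • e' i + c₂ i • f' i)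
    (hyf : ∀ i, y (f' i) = c₃ i • e' i + c₄ i • f' i) :
    ∃ g : V ≃ₗ[F] V, (∀ u v, B (g u) (g v) = B u v) ∧ ∀ v, g (x v) = y (g v) := by
  obtain ⟨g, hg, hge, hgf⟩ := SpImp.witt_hyp B hA hB e f e' f' h1 h2 h3 h1' h2' h3'
  refine ⟨g, hg, ?_⟩
  have hli := SpImp.hyp_li B hA e f h1 h2 h3
  have hspan : Submodule.span F (Set.range (Sum.elim e f)) = ⊤ := by
    apply hli.span_eq_top_of_card_eq_finrank'
    rw [Fintype.card_sum]
    omega
  have hcomp : (g : V →ₗ[F] V).comp x = y.comp (g : V →ₗ[F] V) := by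
    apply LinearMap.ext_on_range hspan
    rintro (i | i)
    · rw [LinearMap.comp_apply, LinearMap.comp_apply, Sum.elim_inl, LinearEquiv.coe_coe, hxe,
        map_add, map_smul, map_smul, hge, hgf, hye]
    · rw [LinearMap.comp_apply, LinearMap.comp_apply, Sum.elim_inr, LinearEquiv.coe_coe, hxf,
        map_add, map_smul, map_smul, hge, hgf, hyf]
  intro v
  exact LinearMap.congr_fun hcomp v

/-- a family adapted to an isometry with `x² = -1` -/
theorem exists_cplx_family (h2F : (2 : F) ≠ 0) (hsq : ∀ t : F, ∃ α β : F, α * α + β * β = t)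
    (hA : B.IsAlt) (hB : B.Nondegenerate) (x : Module.End F V) (hx : SpImp.IsIsom B x)
    (hx2 : ∀ v, x (x v) = -v) :
    ∀ (m : ℕ) (Z : Submodule F V), SpImp.ND B Z → (∀ v ∈ Z, x v ∈ Z) → finrank F Z = 2 * m →
      ∃ u : Fin m → V, (∀ i, u i ∈ Z) ∧ (∀ i j, B (u i) (u j) = 0) ∧
        (∀ i j, B (x (u i)) (u j) = if i = j then 1 else 0) := by
  have hsymm : ∀ u v, B (x u) v = B (x v) u := by
    intro u v
    rw [← hx (x u) v, hx2, map_neg, LinearMap.neg_apply, hA.neg_eq]
  intro m
  induction m with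
  | zero =>
    intro Z _ _ _
    exact ⟨fun i => i.elim0, fun i => i.elim0, fun i => i.elim0, fun i => i.elim0⟩
  | succ m ih =>
    intro Z hZ hZx hfin
    have hZ0 : Z ≠ ⊥ := by
      intro h
      rw [h, finrank_bot] at hfin
      omega
    -- a vector with `B (x u) u ≠ 0`
    have hex : ∃ u ∈ Z, B (x u) u ≠ 0 := by
      by_contra hcon
      push Not at hcon
      have hpol : ∀ a ∈ Z, ∀ b ∈ Z, B (x a) b = 0 := by
        intro a ha b hb
        have h1 := hcon (a + b) (Z.add_mem ha hb)
        simp only [map_add, LinearMap.add_apply] at h1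
        rw [hcon a ha, hcon b hb, hsymm b a] at h1
        have h3 : (2 : F) * B (x a) b = 0 := by linear_combination h1
        exact (mul_eq_zero.mp h3).resolve_left h2F
      obtain ⟨u, hu, hu0⟩ := Submodule.exists_mem_ne_zero_of_ne_bot hZ0
      obtain ⟨v, hv, huv⟩ := (SpImp.nd_iff' B hA).mp hZ u hu hu0
      apply huv
      have h1 : u = x (-(x u)) := by
        rw [map_neg, hx2, neg_neg]
      rw [h1]
      exact hpol _ (Z.neg_mem (hZx u hu)) v hv
    obtain ⟨u, hu, hc⟩ := hex
    obtain ⟨α, β, hαβ⟩ := hsq (B (x u) u)⁻¹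
    obtain ⟨e₀, he₀⟩ : ∃ e₀, e₀ = α • u + β • x u := ⟨_, rfl⟩
    have he₀Z : e₀ ∈ Z := by
      rw [he₀]
      exact Z.add_mem (Z.smul_mem _ hu) (Z.smul_mem _ (hZx u hu))
    have hxe₀ : x e₀ = α • x u - β • u := by
      rw [he₀, map_add, map_smul, map_smul, hx2, smul_neg, sub_eq_add_neg]
    have huv : B (x e₀) e₀ = 1 := by
      rw [hxe₀, he₀]
      simp only [map_add, map_smul, map_sub, LinearMap.add_apply, LinearMap.smul_apply,
        LinearMap.sub_apply, smul_eq_mul]
      have hux : B u (x u) = -B (x u) u := (hA.neg_eq (x u) u).symm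
      rw [hA.self_eq_zero, hA.self_eq_zero, hux]
      have h1 : (α * α + β * β) * B (x u) u = 1 := by
        rw [hαβ, inv_mul_cancel₀ hc]
      linear_combination h1
    obtain ⟨hH, hHfin⟩ := SpImp.plane_props B hA huv
    have hxeH : x e₀ ∈ Submodule.span F (Set.range ![x e₀, e₀]) := Submodule.subset_span ⟨0, rfl⟩
    have heH : e₀ ∈ Submodule.span F (Set.range ![x e₀, e₀]) := Submodule.subset_span ⟨1, rfl⟩
    have hHZ : Submodule.span F (Set.range ![x e₀, e₀]) ≤ Z := by
      rw [Submodule.span_le]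
      rintro _ ⟨j, rfl⟩
      fin_cases j
      · exact hZx _ he₀Z
      · exact he₀Z
    have h1 := SpImp.finrank_perp_in B hA hB hZ hHZ
    have h2 := SpImp.nd_perp_in B hA hZ hH hHZ
    rw [hfin, hHfin] at h1
    -- invariance of the complement
    have hinv : ∀ v ∈ Z ⊓ B.orthogonal (Submodule.span F (Set.range ![x e₀, e₀])),
        x v ∈ Z ⊓ B.orthogonal (Submodule.span F (Set.range ![x e₀, e₀])) := by
      intro v hv
      refine ⟨hZx v hv.1, ?_⟩
      apply (SpImp.mem_perp B).mpr
      intro w hw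
      have hve : B (x e₀) v = 0 := (SpImp.mem_perp B).mp hv.2 _ hxeH
      have hve' : B e₀ v = 0 := (SpImp.mem_perp B).mp hv.2 _ heH
      refine Submodule.span_induction (p := fun w _ => B w (x v) = 0) ?_ ?_ ?_ ?_ hw
      · rintro _ ⟨j, rfl⟩
        fin_cases j
        · show B (x e₀) (x v) = 0
          rw [hx]
          exact hve'
        · show B e₀ (x v) = 0
          have h3 : e₀ = x (-(x e₀)) := by rw [map_neg, hx2, neg_neg]
          rw [h3, hx, map_neg, LinearMap.neg_apply, hve, neg_zero]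
      · rw [map_zero, LinearMap.zero_apply]
      · intro a b _ _ ha hb
        rw [map_add, LinearMap.add_apply, ha, hb, add_zero]
      · intro c a _ ha
        rw [map_smul, LinearMap.smul_apply, ha, smul_zero]
    obtain ⟨u', hu', k1, k2⟩ := ih _ h2 hinv (by rw [h1]; omega)
    have hxe_u : ∀ i, B (x e₀) (u' i) = 0 := fun i => (SpImp.mem_perp B).mp (hu' i).2 _ hxeH
    have he_u : ∀ i, B e₀ (u' i) = 0 := fun i => (SpImp.mem_perp B).mp (hu' i).2 _ heH
    have he_xu : ∀ i, B e₀ (x (u' i)) = 0 := fun i =>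
      (SpImp.mem_perp B).mp (hinv _ (hu' i)).2 _ heH
    refine ⟨Fin.cons e₀ u', ?_, ?_, ?_⟩
    · intro i
      induction i using Fin.cases with
      | zero => exact he₀Z
      | succ i => exact (hu' i).1
    · intro i j
      induction i using Fin.cases with
      | zero =>
        induction j using Fin.cases with
        | zero =>
          rw [Fin.cons_zero]
          exact hA e₀
        | succ j =>
          rw [Fin.cons_zero, Fin.cons_succ]
          exact he_u j
      | succ i =>
        induction j using Fin.cases with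
        | zero =>
          rw [Fin.cons_succ, Fin.cons_zero]
          exact SpImp.swap_zero B hA (he_u i)
        | succ j =>
          rw [Fin.cons_succ, Fin.cons_succ]
          exact k1 i j
    · intro i j
      induction i using Fin.cases with
      | zero =>
        induction j using Fin.cases with
        | zero =>
          rw [Fin.cons_zero, if_pos rfl]
          exact huv
        | succ j =>
          rw [Fin.cons_zero, Fin.cons_succ, if_neg (Fin.succ_ne_zero j).symm]
          exact hxe_u j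
      | succ i =>
        induction j using Fin.cases with
        | zero =>
          rw [Fin.cons_succ, Fin.cons_zero, if_neg (Fin.succ_ne_zero i)]
          exact SpImp.swap_zero B hA (he_xu i)
        | succ j =>
          rw [Fin.cons_succ, Fin.cons_succ, k2 i j]
          by_cases h : i = j
          · rw [if_pos h, if_pos (by rw [h])]
          · rw [if_neg h, if_neg (fun h' => h (Fin.succ_injective _ h'))]

/-- any two isometries with square `-1` are conjugate by an isometry -/
theorem conj_neg_one (h2F : (2 : F) ≠ 0) (hsq : ∀ t : F, ∃ α β : F, α * α + β * β = t)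
    (hA : B.IsAlt) (hB : B.Nondegenerate) (m : ℕ) (hfin : finrank F V = 2 * m)
    (x y : Module.End F V) (hx : SpImp.IsIsom B x)
    (hx2 : ∀ v, x (x v) = -v) (hy : SpImp.IsIsom B y) (hy2 : ∀ v, y (y v) = -v) :
    ∃ g : V ≃ₗ[F] V, (∀ u v, B (g u) (g v) = B u v) ∧ ∀ v, g (x v) = y (g v) := by
  obtain ⟨u, -, k1, k2⟩ := exists_cplx_family B h2F hsq hA hB x hx hx2 m ⊤
    (SpImp.nd_top B hA hB) (fun _ _ => Submodule.mem_top) (by rw [finrank_top, hfin])
  obtain ⟨u', -, k1', k2'⟩ := exists_cplx_family B h2F hsq hA hB y hy hy2 m ⊤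
    (SpImp.nd_top B hA hB) (fun _ _ => Submodule.mem_top) (by rw [finrank_top, hfin])
  refine conj_of_families B hA hB (fun i => x (u i)) u (fun i => y (u' i)) u' k2
    (fun i j => by rw [hx]; exact k1 i j) k1 k2' (fun i j => by rw [hy]; exact k1' i j) k1'
    (by rw [Fintype.card_fin, hfin]) x y (fun _ => 0) (fun _ => -1) (fun _ => 1) (fun _ => 0)
    ?_ ?_ ?_ ?_
  · intro i
    rw [hx2, zero_smul, zero_add, neg_one_smul]
  · intro i
    rw [one_smul, zero_smul, add_zero]
  · intro i
    rw [hy2, zero_smul, zero_add, neg_one_smul]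
  · intro i
    rw [one_smul, zero_smul, add_zero]

/-- the eigenspaces of an involutory isometry -/
theorem invol_data (h2F : (2 : F) ≠ 0) (hA : B.IsAlt) (hB : B.Nondegenerate)
    (x : Module.End F V) (hx : SpImp.IsIsom B x) (hx2 : ∀ v, x (x v) = v) :
    IsCompl (LinearMap.ker (x - (1 : F) • 1)) (LinearMap.ker (x + (1 : F) • 1)) ∧
    SpImp.Orth B (LinearMap.ker (x - (1 : F) • 1)) (LinearMap.ker (x + (1 : F) • 1)) ∧
    SpImp.ND B (LinearMap.ker (x - (1 : F) • 1)) ∧ SpImp.ND B (LinearMap.ker (x + (1 : F) • 1)) := by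
  obtain ⟨-, -, hPC, -, -⟩ := SpInv.split_data x 1 one_ne_zero h2F (by
    intro u
    rw [hx2, one_mul, one_smul])
  have memP : ∀ u, u ∈ LinearMap.ker (x - (1 : F) • 1) ↔ x u = u := by
    intro u
    rw [LinearMap.mem_ker, LinearMap.sub_apply, LinearMap.smul_apply, Module.End.one_apply,
      one_smul, sub_eq_zero]
  have memC : ∀ u, u ∈ LinearMap.ker (x + (1 : F) • 1) ↔ x u = -u := by
    intro u
    rw [LinearMap.mem_ker, LinearMap.add_apply, LinearMap.smul_apply, Module.End.one_apply,
      one_smul, add_eq_zero_iff_eq_neg]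
  have horth : SpImp.Orth B (LinearMap.ker (x - (1 : F) • 1)) (LinearMap.ker (x + (1 : F) • 1)) := by
    intro u hu v hv
    have h1 := hx u v
    rw [(memP u).mp hu, (memC v).mp hv, map_neg] at h1
    have h3 : (2 : F) * B u v = 0 := by linear_combination -h1
    exact (mul_eq_zero.mp h3).resolve_left h2F
  have hall : ∀ w : V, ∃ a ∈ LinearMap.ker (x - (1 : F) • 1),
      ∃ c ∈ LinearMap.ker (x + (1 : F) • 1), a + c = w := by
    intro w
    have h1 : w ∈ LinearMap.ker (x - (1 : F) • 1) ⊔ LinearMap.ker (x + (1 : F) • 1) := by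
      rw [hPC.sup_eq_top]
      trivial
    exact Submodule.mem_sup.mp h1
  refine ⟨hPC, horth, ?_, ?_⟩
  · rw [SpImp.nd_iff B hA]
    intro u hu huv
    apply hB.1 u
    intro w
    obtain ⟨a, ha, c, hc, rfl⟩ := hall w
    rw [map_add, huv a ha, horth u hu c hc, add_zero]
  · rw [SpImp.nd_iff B hA]
    intro u hu huv
    apply hB.1 u
    intro w
    obtain ⟨a, ha, c, hc, rfl⟩ := hall w
    rw [map_add, huv c hc, SpImp.swap_zero B hA (horth a ha u hu), add_zero]

/-- a hyperbolic basis adapted to an involutory isometry -/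
theorem exists_invol_family (h2F : (2 : F) ≠ 0) (hA : B.IsAlt) (hB : B.Nondegenerate)
    (x : Module.End F V) (hx : SpImp.IsIsom B x) (hx2 : ∀ v, x (x v) = v) (s t : ℕ)
    (hs : finrank F (LinearMap.ker (x + (1 : F) • 1)) = 2 * s)
    (ht : finrank F (LinearMap.ker (x - (1 : F) • 1)) = 2 * t) :
    ∃ e f : Fin s ⊕ Fin t → V,
      (∀ i j, B (e i) (f j) = if i = j then 1 else 0) ∧ (∀ i j, B (e i) (e j) = 0) ∧
      (∀ i j, B (f i) (f j) = 0) ∧
      (∀ i, x (e i) = (Sum.elim (fun _ => (-1 : F)) (fun _ => (1 : F)) i) • e i +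
        (0 : F) • f i) ∧
      (∀ i, x (f i) = (0 : F) • e i +
        (Sum.elim (fun _ => (-1 : F)) (fun _ => (1 : F)) i) • f i) := by
  obtain ⟨hPC, horth, hP, hC⟩ := invol_data B h2F hA hB x hx hx2
  have memP : ∀ u, u ∈ LinearMap.ker (x - (1 : F) • 1) ↔ x u = u := by
    intro u
    rw [LinearMap.mem_ker, LinearMap.sub_apply, LinearMap.smul_apply, Module.End.one_apply,
      one_smul, sub_eq_zero]
  have memC : ∀ u, u ∈ LinearMap.ker (x + (1 : F) • 1) ↔ x u = -u := by
    intro u
    rw [LinearMap.mem_ker, LinearMap.add_apply, LinearMap.smul_apply, Module.End.one_apply,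
      one_smul, add_eq_zero_iff_eq_neg]
  obtain ⟨e₁, f₁, he₁, hf₁, a1, a2, a3⟩ := SpImp.exists_hyp_basis B hA hB s _ hC hs
  obtain ⟨e₂, f₂, he₂, hf₂, b1, b2, b3⟩ := SpImp.exists_hyp_basis B hA hB t _ hP ht
  refine ⟨Sum.elim e₁ e₂, Sum.elim f₁ f₂, ?_, ?_, ?_, ?_, ?_⟩
  · rintro (i | i) (j | j)
    · rw [Sum.elim_inl, Sum.elim_inl, a1]
      by_cases h : i = j
      · rw [if_pos h, if_pos (by rw [h])]
      · rw [if_neg h, if_neg (fun h' => h (Sum.inl_injective h'))]
    · rw [Sum.elim_inl, Sum.elim_inr, if_neg Sum.inl_ne_inr]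
      exact SpImp.swap_zero B hA (horth _ (hf₂ j) _ (he₁ i))
    · rw [Sum.elim_inr, Sum.elim_inl, if_neg Sum.inr_ne_inl]
      exact horth _ (he₂ i) _ (hf₁ j)
    · rw [Sum.elim_inr, Sum.elim_inr, b1]
      by_cases h : i = j
      · rw [if_pos h, if_pos (by rw [h])]
      · rw [if_neg h, if_neg (fun h' => h (Sum.inr_injective h'))]
  · rintro (i | i) (j | j)
    · exact a2 i j
    · exact SpImp.swap_zero B hA (horth _ (he₂ j) _ (he₁ i))
    · exact horth _ (he₂ i) _ (he₁ j)
    · exact b2 i j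
  · rintro (i | i) (j | j)
    · exact a3 i j
    · exact SpImp.swap_zero B hA (horth _ (hf₂ j) _ (hf₁ i))
    · exact horth _ (hf₂ i) _ (hf₁ j)
    · exact b3 i j
  · rintro (i | i)
    · rw [Sum.elim_inl, Sum.elim_inl, Sum.elim_inl, zero_smul, add_zero, neg_one_smul]
      exact (memC _).mp (he₁ i)
    · rw [Sum.elim_inr, Sum.elim_inr, Sum.elim_inr, zero_smul, add_zero, one_smul]
      exact (memP _).mp (he₂ i)
  · rintro (i | i)
    · rw [Sum.elim_inl, Sum.elim_inl, Sum.elim_inl, zero_smul, zero_add, neg_one_smul]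
      exact (memC _).mp (hf₁ i)
    · rw [Sum.elim_inr, Sum.elim_inr, Sum.elim_inr, zero_smul, zero_add, one_smul]
      exact (memP _).mp (hf₂ i)

/-- two involutory isometries with `(-1)`-eigenspaces of the same dimension are conjugate by an
isometry -/
theorem conj_invol (h2F : (2 : F) ≠ 0) (hA : B.IsAlt) (hB : B.Nondegenerate)
    (x y : Module.End F V) (hx : SpImp.IsIsom B x) (hx2 : ∀ v, x (x v) = v)
    (hy : SpImp.IsIsom B y) (hy2 : ∀ v, y (y v) = v)
    (hxy : finrank F (LinearMap.ker (x + (1 : F) • 1)) =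
      finrank F (LinearMap.ker (y + (1 : F) • 1))) :
    ∃ g : V ≃ₗ[F] V, (∀ u v, B (g u) (g v) = B u v) ∧ ∀ v, g (x v) = y (g v) := by
  obtain ⟨hPC, -, hP, hC⟩ := invol_data B h2F hA hB x hx hx2
  obtain ⟨hPC', -, hP', hC'⟩ := invol_data B h2F hA hB y hy hy2
  obtain ⟨s, hs⟩ := SpImp.even_of_nd B hA hB _ _ rfl hC
  obtain ⟨t, ht⟩ := SpImp.even_of_nd B hA hB _ _ rfl hP
  have hd1 := Submodule.finrank_add_eq_of_isCompl hPC
  have hd2 := Submodule.finrank_add_eq_of_isCompl hPC'
  obtain ⟨e, f, k1, k2, k3, k4, k5⟩ := exists_invol_family B h2F hA hB x hx hx2 s t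
    (by rw [hs]; ring) (by rw [ht]; ring)
  obtain ⟨e', f', k1', k2', k3', k4', k5'⟩ := exists_invol_family B h2F hA hB y hy hy2 s t
    (by rw [← hxy, hs]; ring) (by omega)
  exact conj_of_families B hA hB e f e' f' k1 k2 k3 k1' k2' k3'
    (by rw [Fintype.card_sum, Fintype.card_fin, Fintype.card_fin]; omega) x y _ _ _ _
    k4 k5 k4' k5'

end Conj

section Sq

variable {F : Type u} [Field F] [Fintype F]

theorem exists_sq_add_sq (hodd : Fintype.card F % 2 = 1) (t : F) :
    ∃ α β : F, α * α + β * β = t := by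
  classical
  obtain ⟨a, e, h⟩ := FiniteField.exists_root_sum_quadratic
    (f := Polynomial.C (1 : F) * Polynomial.X ^ 2 + Polynomial.C 0 * Polynomial.X +
      Polynomial.C (-t))
    (g := Polynomial.C (1 : F) * Polynomial.X ^ 2 + Polynomial.C 0 * Polynomial.X +
      Polynomial.C 0)
    (Polynomial.degree_quadratic one_ne_zero)
    (Polynomial.degree_quadratic one_ne_zero) hodd
  refine ⟨a, e, ?_⟩
  simp only [Polynomial.eval_pow, Polynomial.eval_X, Polynomial.eval_add, Polynomial.eval_mul,
    Polynomial.eval_C] at h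
  linear_combination h

end Sq

end Cfsg.Agent.Lib.Helper2.Tsp
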