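import Mathlib
import Cfsg.Agent.Lib.Helper2.TspF
import Cfsg.Agent.Lib.Helper2.TspG
set_option autoImplicit false
set_option maxHeartbeats 1000000
set_option linter.unusedVariables false
set_option linter.unusedSectionVars false
set_option linter.style.longLine false
set_option linter.unusedSimpArgs false
set_option linter.deprecated false
set_option linter.style.haveILetI false

/-! Elements of prime order of `PSp_n(q)` and stabilizers of tensor decompositions (part H):
elements of the stabilizer of a tensor decomposition `Sp_2 ⊗ O_b`. -/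

namespace Cfsg.Agent.Lib.Helper2.Tsp

open Module Cfsg Cfsg.Agent.Lib.Helper2.Tns Cfsg.Agent.Lib.Helper5.TensorSub
  Cfsg.Agent.Lib.Helper5.TensorFormSub Cfsg.Agent.Lib.Helper5.SympBridge
  Cfsg.Agent.Lib.Helper5.SympTv Cfsg.Agent.Lib.Helper5.SpCentres
open scoped Kronecker Matrix MatrixGroups

universe u

section Fog

variable {F : Type u} [Field F]

theorem fog_eq {κ : Type} [Fintype κ] [DecidableEq κ] (G : Matrix κ κ F) (x y : κ → F) :
    Cfsg.Geo.formOfGram id G x y = Matrix.toBilin' G x y := by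
  rw [Matrix.toBilin'_apply]
  rfl

theorem fog_mulVec {κ : Type} [Fintype κ] [DecidableEq κ] (G M : Matrix κ κ F) (x y : κ → F) :
    Cfsg.Geo.formOfGram id G (M *ᵥ x) (M *ᵥ y) = Cfsg.Geo.formOfGram id (Mᵀ * G * M) x y := by
  rw [fog_eq, fog_eq, ← Matrix.toBilin'_comp, LinearMap.BilinForm.comp_apply, Matrix.toLin'_apply,
    Matrix.toLin'_apply]

/-- a Kronecker product of similitudes with inverse multipliers lies in the symplectic group -/
theorem kron_mem_spGL {d a b : ℕ} (e : (Fin d ⊕ Fin d) ≃ Fin a × Fin b)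
    (P : GL (Fin d ⊕ Fin d) F) (f₁ : (Fin a → F) → (Fin a → F) → F)
    (f₂ : (Fin b → F) → (Fin b → F) → F)
    (hS : Cfsg.Geo.IsTensorFormStructure id (Cfsg.sympForm d F) f₁ f₂ e P)
    (A : GL (Fin a) F) (B : GL (Fin b) F) (l l' : F) (hll : l * l' = 1)
    (hA : (A : Matrix (Fin a) (Fin a) F)ᵀ * Cfsg.Geo.gramMatrix f₁ *
      (A : Matrix (Fin a) (Fin a) F) = l • Cfsg.Geo.gramMatrix f₁)
    (hB : (B : Matrix (Fin b) (Fin b) F)ᵀ * Cfsg.Geo.gramMatrix f₂ *
      (B : Matrix (Fin b) (Fin b) F) = l' • Cfsg.Geo.gramMatrix f₂) :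
    Phi e P (kron A B) ∈ spGL d F := by
  obtain ⟨c, hc0, hc⟩ := hS
  rw [mem_spGL_iff]
  intro u v
  obtain ⟨x, rfl⟩ := emb_surjective e P u
  obtain ⟨y, rfl⟩ := emb_surjective e P v
  rw [Phi_emb, Phi_emb, coe_kron]
  unfold emb
  rw [hc, hc, fog_mulVec]
  congr 2
  rw [← Matrix.kroneckerMap_transpose, ← Matrix.mul_kronecker_mul, ← Matrix.mul_kronecker_mul,
    hA, hB, Matrix.smul_kronecker, Matrix.kronecker_smul, smul_smul, hll, one_smul]

/-- the rotation by a quarter turn -/
def Jmat : Matrix (Fin 2) (Fin 2) F := !![0, -1; 1, 0]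

theorem Jmat_mul_neg : (Jmat : Matrix (Fin 2) (Fin 2) F) * (-Jmat) = 1 := by
  ext i j
  fin_cases i <;> fin_cases j <;> simp [Jmat, Matrix.mul_apply, Fin.sum_univ_two]

theorem neg_Jmat_mul : (-Jmat : Matrix (Fin 2) (Fin 2) F) * Jmat = 1 := by
  ext i j
  fin_cases i <;> fin_cases j <;> simp [Jmat, Matrix.mul_apply, Fin.sum_univ_two]

theorem Jmat_sq : (Jmat : Matrix (Fin 2) (Fin 2) F) * Jmat = (-1 : F) • 1 := by
  ext i j
  fin_cases i <;> fin_cases j <;> simp [Jmat, Matrix.mul_apply, Fin.sum_univ_two]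

theorem Jmat_gram (G : Matrix (Fin 2) (Fin 2) F) (h00 : G 0 0 = 0) (h11 : G 1 1 = 0)
    (h10 : G 1 0 = -G 0 1) : (Jmat : Matrix (Fin 2) (Fin 2) F)ᵀ * G * Jmat = (1 : F) • G := by
  ext i j
  fin_cases i <;> fin_cases j <;>
    simp [Jmat, Matrix.mul_apply, Fin.sum_univ_two, h00, h11, h10]

/-- the quarter turn as an invertible matrix -/
def Jgl : GL (Fin 2) F := ⟨Jmat, -Jmat, Jmat_mul_neg, neg_Jmat_mul⟩

theorem coe_Jgl : ((Jgl : GL (Fin 2) F) : Matrix (Fin 2) (Fin 2) F) = Jmat := rfl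

/-- an orthogonal involution with a `(-1)`-eigenspace of given dimension -/
theorem exists_orth_invol (h2F : (2 : F) ≠ 0) (b : ℕ) (G : Matrix (Fin b) (Fin b) F)
    (hG : ∀ i j, G i j = G j i) (s : ℕ) (hs : s ≤ b) :
    ∃ B₀ : Matrix (Fin b) (Fin b) F, B₀ * B₀ = 1 ∧ B₀ᵀ * G * B₀ = (1 : F) • G ∧
      finrank F (LinearMap.ker ((Matrix.toLin' B₀ : Module.End F (Fin b → F)) -
        (-1 : F) • 1)) = s := by
  classical
  haveI : Invertible (2 : F) := invertibleOfNonzero h2F
  obtain ⟨β, hβ⟩ : ∃ β : LinearMap.BilinForm F (Fin b → F), β = Matrix.toBilin' G := ⟨_, rfl⟩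
  have hβs : LinearMap.IsSymm β := by
    refine ⟨fun x y => ?_⟩
    rw [RingHom.id_apply, hβ, Matrix.toBilin'_apply, Matrix.toBilin'_apply, Finset.sum_comm]
    refine Finset.sum_congr rfl fun i _ => Finset.sum_congr rfl fun j _ => ?_
    rw [hG j i]
    ring
  obtain ⟨v, hv⟩ := LinearMap.BilinForm.exists_orthogonal_basis hβs
  have hfr : finrank F (Fin b → F) = b := Module.finrank_fin_fun F
  obtain ⟨w, hw⟩ : ∃ w : Module.Basis (Fin b) F (Fin b → F), w = v.reindex (finCongr hfr) :=
    ⟨_, rfl⟩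
  have hwo : ∀ i j, i ≠ j → β (w i) (w j) = 0 := by
    intro i j hij
    rw [hw, Module.Basis.reindex_apply, Module.Basis.reindex_apply]
    exact LinearMap.isOrthoᵢ_def.mp hv _ _ (fun h => hij ((finCongr hfr).symm.injective h))
  obtain ⟨ε, hε⟩ : ∃ ε : Fin b → F, ε = (fun i : Fin b => if (i : ℕ) < s then (-1 : F) else 1) :=
    ⟨_, rfl⟩
  have hεsq : ∀ i, ε i * ε i = 1 := by
    intro i
    rw [hε]
    dsimp only
    split_ifs <;> ring
  obtain ⟨T, hT⟩ : ∃ T : Module.End F (Fin b → F), T = w.constr F (fun i => ε i • w i) :=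
    ⟨_, rfl⟩
  have hTw : ∀ i, T (w i) = ε i • w i := by
    intro i
    rw [hT, Module.Basis.constr_basis]
  have hTT : T * T = 1 := by
    apply w.ext
    intro i
    rw [Module.End.mul_apply, hTw, map_smul, hTw, smul_smul, hεsq, one_smul, Module.End.one_apply]
  have hTβ : β.comp T T = β := by
    apply LinearMap.BilinForm.ext_basis w
    intro i j
    rw [LinearMap.BilinForm.comp_apply, hTw, hTw, map_smul, map_smul, LinearMap.smul_apply,
      smul_eq_mul, smul_eq_mul]
    by_cases hij : i = j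
    · subst hij
      rw [← mul_assoc, hεsq, one_mul]
    · rw [hwo i j hij, mul_zero, mul_zero]
  have hconj : ∀ u, w.equivFun (T u) =
      (Matrix.toLin' (Matrix.diagonal ε) : Module.End F (Fin b → F)) (w.equivFun u) := by
    have h1 : (w.equivFun : (Fin b → F) →ₗ[F] (Fin b → F)).comp T =
        (Matrix.toLin' (Matrix.diagonal ε) : Module.End F (Fin b → F)).comp
          (w.equivFun : (Fin b → F) →ₗ[F] (Fin b → F)) := by
      apply w.ext
      intro i
      rw [LinearMap.comp_apply, LinearMap.comp_apply, hTw, LinearEquiv.coe_coe, map_smul]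
      ext j
      rw [Matrix.toLin'_apply, Matrix.mulVec_diagonal, Pi.smul_apply, smul_eq_mul,
        Module.Basis.equivFun_self]
      by_cases hij : i = j
      · rw [hij]
      · rw [if_neg hij, mul_zero, mul_zero]
    intro u
    exact LinearMap.congr_fun h1 u
  refine ⟨LinearMap.toMatrix' T, ?_, ?_, ?_⟩
  · apply Matrix.toLin'.injective
    rw [Matrix.toLin'_mul, Matrix.toLin'_toMatrix', Matrix.toLin'_one]
    exact hTT
  · apply Matrix.toBilin'.injective
    rw [← Matrix.toBilin'_comp, Matrix.toLin'_toMatrix', one_smul, ← hβ]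
    exact hTβ
  · rw [Matrix.toLin'_toMatrix', finrank_ker_of_conj w.equivFun T _ hconj (-1),
      finrank_ker_diag' ε (-1)]
    have hm1 : (1 : F) ≠ -1 := by
      intro h
      apply h2F
      linear_combination h
    have h1 : (Finset.univ.filter (fun j : Fin b => ε j = -1)) =
        Finset.univ.filter (fun j : Fin b => (j : ℕ) < s) := by
      ext j
      rw [Finset.mem_filter, Finset.mem_filter, hε]
      dsimp only
      constructor
      · rintro ⟨-, h⟩
        refine ⟨Finset.mem_univ _, ?_⟩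
        by_contra hcon
        have h' : (if (j : ℕ) < s then (-1 : F) else 1) = 1 := if_neg hcon
        rw [h'] at h
        exact hm1 h
      · rintro ⟨-, h⟩
        exact ⟨Finset.mem_univ _, if_pos h⟩
    rw [h1, Fin.card_filter_val_lt]
    exact min_eq_right hs

end Fog

end Cfsg.Agent.Lib.Helper2.Tsp
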