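import Mathlib
import Cfsg.Agent.Lib.Helper2.TspH
set_option autoImplicit false
set_option maxHeartbeats 1000000
set_option linter.unusedVariables false
set_option linter.unusedSectionVars false
set_option linter.style.longLine false
set_option linter.unusedSimpArgs false
set_option linter.deprecated false
set_option linter.style.haveILetI false

/-! Elements of prime order of `PSp_n(q)` and stabilizers of tensor decompositions (part I):
the sufficiency direction. -/

namespace Cfsg.Agent.Lib.Helper2.Tsp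

open Module Cfsg Cfsg.Agent.Lib.Helper2.Tns Cfsg.Agent.Lib.Helper5.TensorSub
  Cfsg.Agent.Lib.Helper5.TensorFormSub Cfsg.Agent.Lib.Helper5.SympBridge
  Cfsg.Agent.Lib.Helper5.SympTv Cfsg.Agent.Lib.Helper5.SpCentres
open scoped Kronecker Matrix MatrixGroups

universe u

section Suff

variable {F : Type u} [Field F]

/-- an isometry intertwining two symplectic matrices gives a conjugating symplectic matrix -/
theorem conj_of_isom {d : ℕ} (x y₂ : GL (Fin d ⊕ Fin d) F)
    (γ : (Fin d ⊕ Fin d → F) ≃ₗ[F] (Fin d ⊕ Fin d → F))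
    (hγ : ∀ u v, sympBilin F d (γ u) (γ v) = sympBilin F d u v)
    (hconj : ∀ v, γ (Matrix.toLin' (y₂ : Matrix (Fin d ⊕ Fin d) (Fin d ⊕ Fin d) F) v) =
      Matrix.toLin' (x : Matrix (Fin d ⊕ Fin d) (Fin d ⊕ Fin d) F) (γ v)) :
    ∃ g ∈ spGL d F, g⁻¹ * x * g = y₂ := by
  obtain ⟨A, hA⟩ := exists_spGL_of_isometry d γ (fun u v => hγ u v)
  refine ⟨A, A.2, ?_⟩
  have hxg : x * (A : GL (Fin d ⊕ Fin d) F) = (A : GL (Fin d ⊕ Fin d) F) * y₂ := by
    apply Units.ext
    rw [Units.val_mul, Units.val_mul]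
    apply Matrix.toLin'.injective
    apply LinearMap.ext
    intro v
    rw [Matrix.toLin'_mul, Matrix.toLin'_mul, LinearMap.comp_apply, LinearMap.comp_apply,
      Matrix.toLin'_apply ((A : GL (Fin d ⊕ Fin d) F) : Matrix (Fin d ⊕ Fin d) (Fin d ⊕ Fin d) F),
      Matrix.toLin'_apply ((A : GL (Fin d ⊕ Fin d) F) : Matrix (Fin d ⊕ Fin d) (Fin d ⊕ Fin d) F),
      hA, hA, hconj]
  rw [mul_assoc, hxg, ← mul_assoc, inv_mul_cancel, one_mul]

theorem sufficiency_sp [Fintype F] (hodd : Odd (Fintype.card F)) (d b : ℕ) (hd : 1 ≤ d)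
    (hab : 2 * d = 2 * b) (e : (Fin d ⊕ Fin d) ≃ Fin 2 × Fin b) (P : GL (Fin d ⊕ Fin d) F)
    (f₁ : (Fin 2 → F) → (Fin 2 → F) → F) (f₂ : (Fin b → F) → (Fin b → F) → F)
    (hf₁ : Cfsg.Geo.IsSymplecticForm f₁) (hf₂ : Cfsg.Geo.IsSymmetricForm f₂)
    (hS : Cfsg.Geo.IsTensorFormStructure id (Cfsg.sympForm d F) f₁ f₂ e P)
    (x : GL (Fin d ⊕ Fin d) F) (hx : x ∈ spGL d F) (z : F)
    (hxz : ((x ^ 2 : GL (Fin d ⊕ Fin d) F) : Matrix (Fin d ⊕ Fin d) (Fin d ⊕ Fin d) F) =
      z • (1 : Matrix (Fin d ⊕ Fin d) (Fin d ⊕ Fin d) F)) :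
    ∃ g ∈ spGL d F, g⁻¹ * x * g ∈ Cfsg.Geo.tensorProductSubgroup 2 b e P := by
  classical
  have hcard : Fintype.card F % 2 = 1 := Nat.odd_iff.mp hodd
  have hchar : ringChar F ≠ 2 := by
    intro h
    have h1 := FiniteField.even_card_iff_char_two.mp h
    omega
  have h2F : (2 : F) ≠ 0 := Ring.two_ne_zero hchar
  have hA := sympBilin_isAlt (F := F) (m := d)
  have hB := sympBilin_nondegenerate (F := F) (m := d)
  haveI : Nonempty (Fin d ⊕ Fin d) := ⟨Sum.inl ⟨0, hd⟩⟩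
  obtain ⟨T, hTdef⟩ : ∃ T : Module.End F (Fin d ⊕ Fin d → F), T = Matrix.toLin'
      (x : Matrix (Fin d ⊕ Fin d) (Fin d ⊕ Fin d) F) := ⟨_, rfl⟩
  have hiso : SpImp.IsIsom (sympBilin F d) T := by
    rw [hTdef]
    exact isIsom_of_mem x hx
  have hT2 : ∀ v, T (T v) = z • v := by
    intro v
    rw [hTdef, ← LinearMap.comp_apply, ← Matrix.toLin'_mul, ← pow_two, ← Units.val_pow_eq_pow_val,
      hxz, Matrix.toLin'_apply, Matrix.smul_mulVec, Matrix.one_mulVec]
  have hzz : z * z = 1 := by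
    apply SpImp.scalar_sq (sympBilin F d) hB z
    intro u v
    rw [LinearMap.smul_apply, LinearMap.smul_apply, Module.End.one_apply, Module.End.one_apply,
      ← hT2, ← hT2, hiso, hiso]
  have hfinV : finrank F (Fin d ⊕ Fin d → F) = 2 * d := by
    rw [Module.finrank_fintype_fun_eq_card, Fintype.card_sum, Fintype.card_fin]
    ring
  have hz : z = 1 ∨ z = -1 := by
    have h1 : (z - 1) * (z + 1) = 0 := by linear_combination hzz
    rcases mul_eq_zero.mp h1 with h | h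
    · left
      linear_combination h
    · right
      linear_combination h
  rcases hz with rfl | rfl
  · -- involutions
    have hT2' : ∀ v, T (T v) = v := by
      intro v
      rw [hT2, one_smul]
    obtain ⟨-, -, -, hC⟩ := invol_data (sympBilin F d) h2F hA hB T hiso hT2'
    obtain ⟨s, hs⟩ := SpImp.even_of_nd (sympBilin F d) hA hB _ _ rfl hC
    have hsb : s ≤ b := by
      have h1 := Submodule.finrank_le (LinearMap.ker (T + (1 : F) • 1))
      rw [hfinV] at h1
      omega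
    obtain ⟨B₀, hB₀sq, hB₀G, hB₀k⟩ := exists_orth_invol h2F b (Cfsg.Geo.gramMatrix f₂)
      (fun i j => hf₂.symm _ _) s hsb
    obtain ⟨B₀u, hB₀u⟩ : ∃ B₀u : GL (Fin b) F, B₀u = ⟨B₀, B₀, hB₀sq, hB₀sq⟩ := ⟨_, rfl⟩
    have hB₀v : (B₀u : Matrix (Fin b) (Fin b) F) = B₀ := by rw [hB₀u]
    have hB₀uu : B₀u * B₀u = 1 := by
      apply Units.ext
      rw [Units.val_mul, hB₀v, hB₀sq, Units.val_one]
    obtain ⟨y₂, hy₂def⟩ : ∃ y₂ : GL (Fin d ⊕ Fin d) F, y₂ = Phi e P (kron 1 B₀u) := ⟨_, rfl⟩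
    have hy₂ : y₂ ∈ spGL d F := by
      rw [hy₂def]
      refine kron_mem_spGL e P f₁ f₂ hS 1 B₀u 1 1 (one_mul 1) ?_ ?_
      · rw [Units.val_one, Matrix.transpose_one, Matrix.one_mul, Matrix.mul_one, one_smul]
      · rw [hB₀v]
        exact hB₀G
    obtain ⟨Y, hYdef⟩ : ∃ Y : Module.End F (Fin d ⊕ Fin d → F), Y = Matrix.toLin'
        (y₂ : Matrix (Fin d ⊕ Fin d) (Fin d ⊕ Fin d) F) := ⟨_, rfl⟩
    have hisoY : SpImp.IsIsom (sympBilin F d) Y := by
      rw [hYdef]
      exact isIsom_of_mem y₂ hy₂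
    have hyy : y₂ * y₂ = 1 := by
      rw [hy₂def, ← map_mul, ← kron_mul, one_mul, hB₀uu, kron_one, map_one]
    have hY2 : ∀ v, Y (Y v) = v := by
      intro v
      rw [hYdef, ← LinearMap.comp_apply, ← Matrix.toLin'_mul, ← Units.val_mul, hyy, Units.val_one,
        Matrix.toLin'_one, LinearMap.id_apply]
    have hconj : ∀ u, (embL e P).symm (Y u) = (Matrix.toLin'
        ((1 : Matrix (Fin 2) (Fin 2) F) ⊗ₖ B₀) : Module.End F (Fin 2 × Fin b → F))
        ((embL e P).symm u) := by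
      intro u
      obtain ⟨w, rfl⟩ := (embL e P).surjective u
      rw [LinearEquiv.symm_apply_apply, LinearEquiv.symm_apply_eq, embL_apply, embL_apply, hYdef,
        Matrix.toLin'_apply, Matrix.toLin'_apply, hy₂def, Phi_emb, coe_kron, Units.val_one, hB₀v]
    have hdim : finrank F (LinearMap.ker (Y + (1 : F) • 1)) =
        finrank F (LinearMap.ker (T + (1 : F) • 1)) := by
      have h1 : Y + (1 : F) • 1 = Y - (-1 : F) • 1 := by
        rw [neg_smul (1 : F) (1 : Module.End F (Fin d ⊕ Fin d → F)), sub_neg_eq_add]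
      rw [h1, finrank_ker_of_conj (embL e P).symm Y _ hconj (-1), finrank_ker_one_kron B₀ (-1),
        hB₀k, hs]
      ring
    obtain ⟨γ, hγ, hγc⟩ := conj_invol (sympBilin F d) h2F hA hB Y T hisoY hY2 hiso hT2' hdim
    obtain ⟨g, hg, hgx⟩ := conj_of_isom x y₂ γ hγ (by
      intro v
      have := hγc v
      rw [hYdef, hTdef] at this
      exact this)
    refine ⟨g, hg, ?_⟩
    rw [hgx, hy₂def]
    exact (mem_tensor e P _).mpr ⟨1, B₀u, rfl⟩
  · -- square `-1`
    have hT2' : ∀ v, T (T v) = -v := by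
      intro v
      rw [hT2, neg_one_smul]
    obtain ⟨y₂, hy₂def⟩ : ∃ y₂ : GL (Fin d ⊕ Fin d) F, y₂ = Phi e P (kron Jgl 1) := ⟨_, rfl⟩
    have hy₂ : y₂ ∈ spGL d F := by
      rw [hy₂def]
      refine kron_mem_spGL e P f₁ f₂ hS Jgl 1 1 1 (one_mul 1) ?_ ?_
      · rw [coe_Jgl]
        apply Jmat_gram
        · exact hf₁.alternating _
        · exact hf₁.alternating _
        · exact hf₁.skew _ _
      · rw [Units.val_one, Matrix.transpose_one, Matrix.one_mul, Matrix.mul_one, one_smul]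
    obtain ⟨Y, hYdef⟩ : ∃ Y : Module.End F (Fin d ⊕ Fin d → F), Y = Matrix.toLin'
        (y₂ : Matrix (Fin d ⊕ Fin d) (Fin d ⊕ Fin d) F) := ⟨_, rfl⟩
    have hisoY : SpImp.IsIsom (sympBilin F d) Y := by
      rw [hYdef]
      exact isIsom_of_mem y₂ hy₂
    have hconj : ∀ u, (embL e P).symm (Y u) = (Matrix.toLin'
        ((Jmat : Matrix (Fin 2) (Fin 2) F) ⊗ₖ (1 : Matrix (Fin b) (Fin b) F)) :
        Module.End F (Fin 2 × Fin b → F)) ((embL e P).symm u) := by
      intro u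
      obtain ⟨w, rfl⟩ := (embL e P).surjective u
      rw [LinearEquiv.symm_apply_apply, LinearEquiv.symm_apply_eq, embL_apply, embL_apply, hYdef,
        Matrix.toLin'_apply, Matrix.toLin'_apply, hy₂def, Phi_emb, coe_kron, Units.val_one,
        coe_Jgl]
    have hKK : ∀ w : Fin 2 × Fin b → F, (Matrix.toLin'
        ((Jmat : Matrix (Fin 2) (Fin 2) F) ⊗ₖ (1 : Matrix (Fin b) (Fin b) F)) :
        Module.End F (Fin 2 × Fin b → F)) ((Matrix.toLin'
        ((Jmat : Matrix (Fin 2) (Fin 2) F) ⊗ₖ (1 : Matrix (Fin b) (Fin b) F)) :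
        Module.End F (Fin 2 × Fin b → F)) w) = -w := by
      intro w
      rw [← LinearMap.comp_apply, ← Matrix.toLin'_mul, ← Matrix.mul_kronecker_mul, Jmat_sq,
        Matrix.one_mul, Matrix.smul_kronecker, Matrix.one_kronecker_one, Matrix.toLin'_apply,
        Matrix.smul_mulVec, Matrix.one_mulVec, neg_one_smul]
    have hY2 : ∀ v, Y (Y v) = -v := by
      intro v
      apply (embL e P).symm.injective
      rw [hconj, hconj, hKK, map_neg]
    obtain ⟨γ, hγ, hγc⟩ := conj_neg_one (sympBilin F d) h2F (exists_sq_add_sq hcard) hA hB d hfinV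
      Y T hisoY hY2 hiso hT2'
    obtain ⟨g, hg, hgx⟩ := conj_of_isom x y₂ γ hγ (by
      intro v
      have := hγc v
      rw [hYdef, hTdef] at this
      exact this)
    refine ⟨g, hg, ?_⟩
    rw [hgx, hy₂def]
    exact (mem_tensor e P _).mpr ⟨Jgl, 1, rfl⟩

end Suff

end Cfsg.Agent.Lib.Helper2.Tsp
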