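import Mathlib
import Cfsg.Agent.Lib.Helper2.TspG
set_option autoImplicit false
set_option maxHeartbeats 1000000
set_option linter.unusedVariables false
set_option linter.unusedSectionVars false
set_option linter.style.longLine false
set_option linter.unusedSimpArgs false
set_option linter.deprecated false
set_option linter.style.haveILetI false

/-! Elements of prime order of `PSp_n(q)` and subgroups of type `GU_{n/2}(q)` (part A):
skew-adjoint square roots `J` of a nonsquare `δ` on a symplectic space, adapted bases. -/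

namespace Cfsg.Agent.Lib.Helper2.Ukf

open Module

universe u v

section JT

variable {F : Type u} [Field F] {V : Type v} [AddCommGroup V] [Module F V] [FiniteDimensional F V]
variable (B : LinearMap.BilinForm F V)

/-- `J` is a skew-adjoint square root of `δ` -/
def IsJ (δ : F) (J : Module.End F V) : Prop :=
  (∀ v, J (J v) = δ • v) ∧ ∀ u v, B (J u) v = -B u (J v)

/-- the form on a pair of vectors of hyperbolic planes -/
theorem hyp_eval (hA : B.IsAlt) {ι : Type} [DecidableEq ι] (e f : ι → V)
    (h1 : ∀ i j, B (e i) (f j) = if i = j then 1 else 0) (h2 : ∀ i j, B (e i) (e j) = 0)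
    (h3 : ∀ i j, B (f i) (f j) = 0) (i j : ι) (a₁ a₂ b₁ b₂ : F) :
    B (a₁ • e i + a₂ • f i) (b₁ • e j + b₂ • f j) =
      if i = j then a₁ * b₂ - a₂ * b₁ else 0 := by
  have h4 : B (f i) (e j) = -(if i = j then 1 else 0) := by
    rw [← hA.neg_eq, h1]
    by_cases hij : i = j
    · rw [if_pos hij, if_pos hij.symm]
    · rw [if_neg hij, if_neg (fun h => hij h.symm)]
  simp only [map_add, map_smul, LinearMap.add_apply, LinearMap.smul_apply, smul_eq_mul]
  rw [h1, h2, h3, h4]
  by_cases hij : i = j
  · rw [if_pos hij, if_pos hij]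
    ring
  · rw [if_neg hij, if_neg hij]
    ring

/-- a hyperbolic family of the right size is a basis -/
theorem exists_hyp_Basis (hA : B.IsAlt) {ι : Type} [Fintype ι] [DecidableEq ι] (e f : ι → V)
    (h1 : ∀ i j, B (e i) (f j) = if i = j then 1 else 0) (h2 : ∀ i j, B (e i) (e j) = 0)
    (h3 : ∀ i j, B (f i) (f j) = 0) (hcard : 2 * Fintype.card ι = finrank F V) :
    ∃ b : Basis (ι ⊕ ι) F V, ∀ p, b p = Sum.elim e f p := by
  have hli := SpImp.hyp_li B hA e f h1 h2 h3
  have hspan : Submodule.span F (Set.range (Sum.elim e f)) = ⊤ := by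
    apply hli.span_eq_top_of_card_eq_finrank'
    rw [Fintype.card_sum]
    omega
  exact ⟨Basis.mk hli hspan.ge, fun p => Basis.mk_apply hli hspan.ge p⟩

/-- operators defined blockwise on a hyperbolic basis -/
theorem exists_block_op (hA : B.IsAlt) {ι : Type} [Fintype ι] [DecidableEq ι] (e f : ι → V)
    (h1 : ∀ i j, B (e i) (f j) = if i = j then 1 else 0) (h2 : ∀ i j, B (e i) (e j) = 0)
    (h3 : ∀ i j, B (f i) (f j) = 0) (hcard : 2 * Fintype.card ι = finrank F V)
    (c₁ c₂ c₃ c₄ : ι → F) :
    ∃ y : Module.End F V, (∀ i, y (e i) = c₁ i • e i + c₂ i • f i) ∧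
      (∀ i, y (f i) = c₃ i • e i + c₄ i • f i) := by
  obtain ⟨b, hb⟩ := exists_hyp_Basis B hA e f h1 h2 h3 hcard
  refine ⟨b.constr F (Sum.elim (fun i => c₁ i • e i + c₂ i • f i)
    (fun i => c₃ i • e i + c₄ i • f i)), fun i => ?_, fun i => ?_⟩
  · have h := b.constr_basis F (Sum.elim (fun i => c₁ i • e i + c₂ i • f i)
      (fun i => c₃ i • e i + c₄ i • f i)) (Sum.inl i)
    rw [hb] at h
    exact h
  · have h := b.constr_basis F (Sum.elim (fun i => c₁ i • e i + c₂ i • f i)
      (fun i => c₃ i • e i + c₄ i • f i)) (Sum.inr i)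
    rw [hb] at h
    exact h

/-- two operators agreeing on a hyperbolic basis are equal -/
theorem block_op_ext (hA : B.IsAlt) {ι : Type} [Fintype ι] [DecidableEq ι] (e f : ι → V)
    (h1 : ∀ i j, B (e i) (f j) = if i = j then 1 else 0) (h2 : ∀ i j, B (e i) (e j) = 0)
    (h3 : ∀ i j, B (f i) (f j) = 0) (hcard : 2 * Fintype.card ι = finrank F V)
    (x y : Module.End F V) (hxe : ∀ i, x (e i) = y (e i)) (hxf : ∀ i, x (f i) = y (f i)) :
    x = y := by
  obtain ⟨b, hb⟩ := exists_hyp_Basis B hA e f h1 h2 h3 hcard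
  apply b.ext
  rintro (i | i)
  · rw [hb]
    exact hxe i
  · rw [hb]
    exact hxf i

/-- two bilinear forms agreeing on a hyperbolic basis are equal -/
theorem block_form_ext (hA : B.IsAlt) {ι : Type} [Fintype ι] [DecidableEq ι] (e f : ι → V)
    (h1 : ∀ i j, B (e i) (f j) = if i = j then 1 else 0) (h2 : ∀ i j, B (e i) (e j) = 0)
    (h3 : ∀ i j, B (f i) (f j) = 0) (hcard : 2 * Fintype.card ι = finrank F V)
    (Φ Ψ : LinearMap.BilinForm F V)
    (hee : ∀ i j, Φ (e i) (e j) = Ψ (e i) (e j)) (hef : ∀ i j, Φ (e i) (f j) = Ψ (e i) (f j))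
    (hfe : ∀ i j, Φ (f i) (e j) = Ψ (f i) (e j)) (hff : ∀ i j, Φ (f i) (f j) = Ψ (f i) (f j)) :
    Φ = Ψ := by
  obtain ⟨b, hb⟩ := exists_hyp_Basis B hA e f h1 h2 h3 hcard
  apply LinearMap.BilinForm.ext_basis b
  rintro (i | i) (j | j)
  · rw [hb, hb]
    exact hee i j
  · rw [hb, hb]
    exact hef i j
  · rw [hb, hb]
    exact hfe i j
  · rw [hb, hb]
    exact hff i j

/-- a blockwise operator with blocks of determinant one is an isometry -/
theorem block_op_isIsom (hA : B.IsAlt) {ι : Type} [Fintype ι] [DecidableEq ι] (e f : ι → V)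
    (h1 : ∀ i j, B (e i) (f j) = if i = j then 1 else 0) (h2 : ∀ i j, B (e i) (e j) = 0)
    (h3 : ∀ i j, B (f i) (f j) = 0) (hcard : 2 * Fintype.card ι = finrank F V)
    (c₁ c₂ c₃ c₄ : ι → F) (y : Module.End F V)
    (hye : ∀ i, y (e i) = c₁ i • e i + c₂ i • f i) (hyf : ∀ i, y (f i) = c₃ i • e i + c₄ i • f i)
    (hdet : ∀ i, c₁ i * c₄ i - c₂ i * c₃ i = 1) : SpImp.IsIsom B y := by
  have hev := hyp_eval B hA e f h1 h2 h3
  have h4 : ∀ i j, B (f i) (e j) = -(if i = j then 1 else 0) := by
    intro i j
    rw [← hA.neg_eq, h1]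
    by_cases hij : i = j
    · rw [if_pos hij, if_pos hij.symm]
    · rw [if_neg hij, if_neg (fun h => hij h.symm)]
  have key : (B.comp y y) = B := by
    apply block_form_ext B hA e f h1 h2 h3 hcard
    · intro i j
      rw [LinearMap.BilinForm.comp_apply, hye, hye, hev, h2]
      by_cases hij : i = j
      · subst hij
        rw [if_pos rfl]
        ring
      · rw [if_neg hij]
    · intro i j
      rw [LinearMap.BilinForm.comp_apply, hye, hyf, hev, h1]
      by_cases hij : i = j
      · subst hij
        rw [if_pos rfl, if_pos rfl]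
        exact hdet i
      · rw [if_neg hij, if_neg hij]
    · intro i j
      rw [LinearMap.BilinForm.comp_apply, hyf, hye, hev, h4]
      by_cases hij : i = j
      · subst hij
        rw [if_pos rfl, if_pos rfl]
        linear_combination -hdet i
      · rw [if_neg hij, if_neg hij, neg_zero]
    · intro i j
      rw [LinearMap.BilinForm.comp_apply, hyf, hyf, hev, h3]
      by_cases hij : i = j
      · subst hij
        rw [if_pos rfl]
        ring
      · rw [if_neg hij]
  intro u v
  have h := LinearMap.congr_fun (LinearMap.congr_fun key u) v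
  rw [LinearMap.BilinForm.comp_apply] at h
  exact h

/-- a family adapted to a skew-adjoint square root of `δ` -/
theorem exists_J_family (h2F : (2 : F) ≠ 0) (δ : F) (hδ : δ ≠ 0)
    (hnorm : ∀ t : F, ∃ a b : F, a * a - δ * (b * b) = t)
    (hA : B.IsAlt) (hB : B.Nondegenerate) (J : Module.End F V) (hJ : IsJ B δ J) :
    ∀ (m : ℕ) (Z : Submodule F V), SpImp.ND B Z → (∀ v ∈ Z, J v ∈ Z) → finrank F Z = 2 * m →
      ∃ u : Fin m → V, (∀ i, u i ∈ Z) ∧ (∀ i j, B (u i) (u j) = 0) ∧
        (∀ i j, B (J (u i)) (u j) = if i = j then 1 else 0) := by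
  obtain ⟨hJ2, hJs⟩ := hJ
  have hsymm : ∀ u v, B (J u) v = B (J v) u := by
    intro u v
    rw [hJs, hA.neg_eq]
  intro m
  induction m with
  | zero =>
    intro Z _ _ _
    exact ⟨fun i => i.elim0, fun i => i.elim0, fun i => i.elim0, fun i => i.elim0⟩
  | succ m ih =>
    intro Z hZ hZx hfin
    have hZ0 : Z ≠ ⊥ := by
      intro h
      rw [h, finrank_bot] at hfin
      omega
    have hex : ∃ u ∈ Z, B (J u) u ≠ 0 := by
      by_contra hcon
      push Not at hcon
      have hpol : ∀ a ∈ Z, ∀ b ∈ Z, B (J a) b = 0 := by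
        intro a ha b hb
        have h1 := hcon (a + b) (Z.add_mem ha hb)
        simp only [map_add, LinearMap.add_apply] at h1
        rw [hcon a ha, hcon b hb, hsymm b a] at h1
        have h3 : (2 : F) * B (J a) b = 0 := by linear_combination h1
        exact (mul_eq_zero.mp h3).resolve_left h2F
      obtain ⟨u, hu, hu0⟩ := Submodule.exists_mem_ne_zero_of_ne_bot hZ0
      obtain ⟨v, hv, huv⟩ := (SpImp.nd_iff' B hA).mp hZ u hu hu0
      apply huv
      have h1 : u = J (δ⁻¹ • J u) := by
        rw [map_smul, hJ2, smul_smul, inv_mul_cancel₀ hδ, one_smul]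
      rw [h1]
      exact hpol _ (Z.smul_mem _ (hZx u hu)) v hv
    obtain ⟨u, hu, hc⟩ := hex
    obtain ⟨α, β, hαβ⟩ := hnorm (B (J u) u)⁻¹
    obtain ⟨e₀, he₀⟩ : ∃ e₀, e₀ = α • u + β • J u := ⟨_, rfl⟩
    have he₀Z : e₀ ∈ Z := by
      rw [he₀]
      exact Z.add_mem (Z.smul_mem _ hu) (Z.smul_mem _ (hZx u hu))
    have hxe₀ : J e₀ = α • J u + (β * δ) • u := by
      rw [he₀, map_add, map_smul, map_smul, hJ2, smul_smul]
    have huv : B (J e₀) e₀ = 1 := by
      rw [hxe₀, he₀]
      simp only [map_add, map_smul, LinearMap.add_apply, LinearMap.smul_apply, smul_eq_mul]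
      have hux : B u (J u) = -B (J u) u := (hA.neg_eq (J u) u).symm
      rw [hA.self_eq_zero, hA.self_eq_zero, hux]
      have h1 : (α * α - δ * (β * β)) * B (J u) u = 1 := by
        rw [hαβ, inv_mul_cancel₀ hc]
      linear_combination h1
    obtain ⟨hH, hHfin⟩ := SpImp.plane_props B hA huv
    have hxeH : J e₀ ∈ Submodule.span F (Set.range ![J e₀, e₀]) := Submodule.subset_span ⟨0, rfl⟩
    have heH : e₀ ∈ Submodule.span F (Set.range ![J e₀, e₀]) := Submodule.subset_span ⟨1, rfl⟩
    have hHZ : Submodule.span F (Set.range ![J e₀, e₀]) ≤ Z := by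
      rw [Submodule.span_le]
      rintro _ ⟨j, rfl⟩
      fin_cases j
      · exact hZx _ he₀Z
      · exact he₀Z
    have h1 := SpImp.finrank_perp_in B hA hB hZ hHZ
    have h2 := SpImp.nd_perp_in B hA hZ hH hHZ
    rw [hfin, hHfin] at h1
    have hinv : ∀ v ∈ Z ⊓ B.orthogonal (Submodule.span F (Set.range ![J e₀, e₀])),
        J v ∈ Z ⊓ B.orthogonal (Submodule.span F (Set.range ![J e₀, e₀])) := by
      intro v hv
      refine ⟨hZx v hv.1, ?_⟩
      apply (SpImp.mem_perp B).mpr
      intro w hw
      have hve : B (J e₀) v = 0 := (SpImp.mem_perp B).mp hv.2 _ hxeH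
      have hve' : B e₀ v = 0 := (SpImp.mem_perp B).mp hv.2 _ heH
      refine Submodule.span_induction (p := fun w _ => B w (J v) = 0) ?_ ?_ ?_ ?_ hw
      · rintro _ ⟨j, rfl⟩
        fin_cases j
        · show B (J e₀) (J v) = 0
          rw [hJs, hJ2, map_smul, hve', smul_zero, neg_zero]
        · show B e₀ (J v) = 0
          have h3 := hJs e₀ v
          rw [hve] at h3
          have h4 : B e₀ (J v) = -0 := by rw [h3, neg_neg]
          rw [h4, neg_zero]
      · rw [map_zero, LinearMap.zero_apply]
      · intro a b _ _ ha hb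
        rw [map_add, LinearMap.add_apply, ha, hb, add_zero]
      · intro c a _ ha
        rw [map_smul, LinearMap.smul_apply, ha, smul_zero]
    obtain ⟨u', hu', k1, k2⟩ := ih _ h2 hinv (by rw [h1]; omega)
    have hxe_u : ∀ i, B (J e₀) (u' i) = 0 := fun i => (SpImp.mem_perp B).mp (hu' i).2 _ hxeH
    have he_u : ∀ i, B e₀ (u' i) = 0 := fun i => (SpImp.mem_perp B).mp (hu' i).2 _ heH
    have he_xu : ∀ i, B e₀ (J (u' i)) = 0 := fun i =>
      (SpImp.mem_perp B).mp (hinv _ (hu' i)).2 _ heH
    refine ⟨Fin.cons e₀ u', ?_, ?_, ?_⟩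
    · intro i
      induction i using Fin.cases with
      | zero => exact he₀Z
      | succ i => exact (hu' i).1
    · intro i j
      induction i using Fin.cases with
      | zero =>
        induction j using Fin.cases with
        | zero =>
          rw [Fin.cons_zero]
          exact hA e₀
        | succ j =>
          rw [Fin.cons_zero, Fin.cons_succ]
          exact he_u j
      | succ i =>
        induction j using Fin.cases with
        | zero =>
          rw [Fin.cons_succ, Fin.cons_zero]
          exact SpImp.swap_zero B hA (he_u i)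
        | succ j =>
          rw [Fin.cons_succ, Fin.cons_succ]
          exact k1 i j
    · intro i j
      induction i using Fin.cases with
      | zero =>
        induction j using Fin.cases with
        | zero =>
          rw [Fin.cons_zero, if_pos rfl]
          exact huv
        | succ j =>
          rw [Fin.cons_zero, Fin.cons_succ, if_neg (Fin.succ_ne_zero j).symm]
          exact hxe_u j
      | succ i =>
        induction j using Fin.cases with
        | zero =>
          rw [Fin.cons_succ, Fin.cons_zero, if_neg (Fin.succ_ne_zero i)]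
          exact SpImp.swap_zero B hA (he_xu i)
        | succ j =>
          rw [Fin.cons_succ, Fin.cons_succ, k2 i j]
          by_cases h : i = j
          · rw [if_pos h, if_pos (by rw [h])]
          · rw [if_neg h, if_neg (fun h' => h (Fin.succ_injective _ h'))]

/-- the hyperbolic family attached to an adapted family -/
theorem hyp_of_J_family (hA : B.IsAlt) (δ : F) (J : Module.End F V) (hJ : IsJ B δ J) {ι : Type}
    [DecidableEq ι] (u : ι → V) (k1 : ∀ i j, B (u i) (u j) = 0)
    (k2 : ∀ i j, B (J (u i)) (u j) = if i = j then 1 else 0) :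
    (∀ i j, B (J (u i)) (u j) = if i = j then 1 else 0) ∧
    (∀ i j, B (J (u i)) (J (u j)) = 0) ∧ (∀ i j, B (u i) (u j) = 0) ∧
    (∀ i, J (J (u i)) = (0 : F) • J (u i) + δ • u i) ∧
    (∀ i, J (u i) = (1 : F) • J (u i) + (0 : F) • u i) := by
  refine ⟨k2, fun i j => ?_, k1, fun i => ?_, fun i => ?_⟩
  · rw [hJ.2, hJ.1, map_smul, k1, smul_zero, neg_zero]
  · rw [hJ.1, zero_smul, zero_add]
  · rw [one_smul, zero_smul, add_zero]

/-- any two skew-adjoint square roots of `δ` are conjugate by an isometry -/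
theorem conj_J (h2F : (2 : F) ≠ 0) (δ : F) (hδ : δ ≠ 0)
    (hnorm : ∀ t : F, ∃ a b : F, a * a - δ * (b * b) = t)
    (hA : B.IsAlt) (hB : B.Nondegenerate) (m : ℕ) (hfin : finrank F V = 2 * m)
    (J J' : Module.End F V) (hJ : IsJ B δ J) (hJ' : IsJ B δ J') :
    ∃ g : V ≃ₗ[F] V, (∀ u v, B (g u) (g v) = B u v) ∧ ∀ v, g (J v) = J' (g v) := by
  obtain ⟨u, -, k1, k2⟩ := exists_J_family B h2F δ hδ hnorm hA hB J hJ m ⊤
    (SpImp.nd_top B hA hB) (fun _ _ => Submodule.mem_top) (by rw [finrank_top, hfin])
  obtain ⟨u', -, k1', k2'⟩ := exists_J_family B h2F δ hδ hnorm hA hB J' hJ' m ⊤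
    (SpImp.nd_top B hA hB) (fun _ _ => Submodule.mem_top) (by rw [finrank_top, hfin])
  obtain ⟨a1, a2, a3, a4, a5⟩ := hyp_of_J_family B hA δ J hJ u k1 k2
  obtain ⟨b1, b2, b3, b4, b5⟩ := hyp_of_J_family B hA δ J' hJ' u' k1' k2'
  exact Tsp.conj_of_families B hA hB (fun i => J (u i)) u (fun i => J' (u' i)) u' a1 a2 a3 b1 b2 b3
    (by rw [Fintype.card_fin, hfin]) J J' (fun _ => 0) (fun _ => δ) (fun _ => 1) (fun _ => 0)
    a4 a5 b4 b5

/-- existence of skew-adjoint square roots of `δ` -/
theorem exists_J (hA : B.IsAlt) (hB : B.Nondegenerate) (δ : F) : ∃ J : Module.End F V, IsJ B δ J := by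
  classical
  obtain ⟨m, hm⟩ := SpImp.even_of_nd B hA hB _ ⊤ rfl (SpImp.nd_top B hA hB)
  rw [finrank_top] at hm
  obtain ⟨e, f, -, -, h1, h2, h3⟩ := SpImp.exists_hyp_basis B hA hB m ⊤ (SpImp.nd_top B hA hB)
    (by rw [finrank_top, hm]; ring)
  have hcard : 2 * Fintype.card (Fin m) = finrank F V := by
    rw [Fintype.card_fin, hm]
    ring
  obtain ⟨J, hJe, hJf⟩ := exists_block_op B hA e f h1 h2 h3 hcard (fun _ => 0) (fun _ => δ)
    (fun _ => 1) (fun _ => 0)
  have hJe' : ∀ i, J (e i) = δ • f i := by
    intro i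
    rw [hJe, zero_smul, zero_add]
  have hJf' : ∀ i, J (f i) = e i := by
    intro i
    rw [hJf, one_smul, zero_smul, add_zero]
  have h4 : ∀ i j, B (f i) (e j) = -(if i = j then 1 else 0) := by
    intro i j
    rw [← hA.neg_eq, h1]
    by_cases hij : i = j
    · rw [if_pos hij, if_pos hij.symm]
    · rw [if_neg hij, if_neg (fun h => hij h.symm)]
  refine ⟨J, ?_, ?_⟩
  · have h : J * J = δ • 1 := by
      apply block_op_ext B hA e f h1 h2 h3 hcard
      · intro i
        rw [Module.End.mul_apply, hJe', map_smul, hJf', LinearMap.smul_apply, Module.End.one_apply]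
      · intro i
        rw [Module.End.mul_apply, hJf', hJe', LinearMap.smul_apply, Module.End.one_apply]
    intro v
    have h' := LinearMap.congr_fun h v
    rw [Module.End.mul_apply, LinearMap.smul_apply, Module.End.one_apply] at h'
    exact h'
  · have key : B.comp J LinearMap.id = -(B.comp LinearMap.id J) := by
      apply block_form_ext B hA e f h1 h2 h3 hcard
      · intro i j
        rw [LinearMap.BilinForm.comp_apply, LinearMap.neg_apply, LinearMap.neg_apply,
          LinearMap.BilinForm.comp_apply, LinearMap.id_apply, LinearMap.id_apply, hJe', hJe',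
          map_smul, map_smul, LinearMap.smul_apply, h4, h1, smul_eq_mul, smul_eq_mul]
        ring
      · intro i j
        rw [LinearMap.BilinForm.comp_apply, LinearMap.neg_apply, LinearMap.neg_apply,
          LinearMap.BilinForm.comp_apply, LinearMap.id_apply, LinearMap.id_apply, hJe', hJf',
          map_smul, LinearMap.smul_apply, h3, h2, smul_zero, neg_zero]
      · intro i j
        rw [LinearMap.BilinForm.comp_apply, LinearMap.neg_apply, LinearMap.neg_apply,
          LinearMap.BilinForm.comp_apply, LinearMap.id_apply, LinearMap.id_apply, hJf', hJe',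
          map_smul, h2, h3, smul_zero, neg_zero]
      · intro i j
        rw [LinearMap.BilinForm.comp_apply, LinearMap.neg_apply, LinearMap.neg_apply,
          LinearMap.BilinForm.comp_apply, LinearMap.id_apply, LinearMap.id_apply, hJf', hJf',
          h1, h4, neg_neg]
    intro u v
    have h := LinearMap.congr_fun (LinearMap.congr_fun key u) v
    rw [LinearMap.BilinForm.comp_apply, LinearMap.neg_apply, LinearMap.neg_apply,
      LinearMap.BilinForm.comp_apply, LinearMap.id_apply, LinearMap.id_apply] at h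
    exact h

end JT

end Cfsg.Agent.Lib.Helper2.Ukf
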