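import Mathlib
import Cfsg.Agent.Lib.Helper2.UkfA
import Cfsg.Agent.Lib.Helper2.TspD
set_option autoImplicit false
set_option maxHeartbeats 1000000
set_option linter.unusedVariables false
set_option linter.unusedSectionVars false
set_option linter.style.longLine false
set_option linter.unusedSimpArgs false
set_option linter.deprecated false
set_option linter.style.haveILetI false

/-! Elements of prime order of `PSp_n(q)` and subgroups of type `GU_{n/2}(q)` (part B):
involutions commuting with `J` and elements of square `-1` anticommuting with `J`. -/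

namespace Cfsg.Agent.Lib.Helper2.Ukf

open Module

universe u v

section Elts

variable {F : Type u} [Field F] {V : Type v} [AddCommGroup V] [Module F V] [FiniteDimensional F V]
variable (B : LinearMap.BilinForm F V)

/-- involutory isometries commuting with `J`, with `(-1)`-eigenspace of any even dimension -/
theorem exists_invol_J (h2F : (2 : F) ≠ 0) (δ : F) (hδ : δ ≠ 0)
    (hnorm : ∀ t : F, ∃ a b : F, a * a - δ * (b * b) = t)
    (hA : B.IsAlt) (hB : B.Nondegenerate) (m : ℕ) (hfin : finrank F V = 2 * m)
    (J : Module.End F V) (hJ : IsJ B δ J) (s : ℕ) (hs : s ≤ m) :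
    ∃ y : Module.End F V, SpImp.IsIsom B y ∧ (∀ v, y (y v) = v) ∧ (∀ v, y (J v) = J (y v)) ∧
      finrank F (LinearMap.ker (y + (1 : F) • 1)) = 2 * s := by
  classical
  obtain ⟨u, -, k1, k2⟩ := exists_J_family B h2F δ hδ hnorm hA hB J hJ m ⊤
    (SpImp.nd_top B hA hB) (fun _ _ => Submodule.mem_top) (by rw [finrank_top, hfin])
  obtain ⟨a1, a2, a3, a4, a5⟩ := hyp_of_J_family B hA δ J hJ u k1 k2
  have hcard : 2 * Fintype.card (Fin m) = finrank F V := by rw [Fintype.card_fin, hfin]
  obtain ⟨ε, hε⟩ : ∃ ε : Fin m → F, ε = (fun i : Fin m => if (i : ℕ) < s then (-1 : F) else 1) :=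
    ⟨_, rfl⟩
  have hεsq : ∀ i, ε i * ε i = 1 := by
    intro i
    rw [hε]
    dsimp only
    split_ifs <;> ring
  obtain ⟨y, hye, hyf⟩ := exists_block_op B hA (fun i => J (u i)) u a1 a2 a3 hcard ε (fun _ => 0)
    (fun _ => 0) ε
  have hye' : ∀ i, y (J (u i)) = ε i • J (u i) := by
    intro i
    rw [hye, zero_smul, add_zero]
  have hyf' : ∀ i, y (u i) = ε i • u i := by
    intro i
    rw [hyf, zero_smul, zero_add]
  have hiso : SpImp.IsIsom B y := by
    apply block_op_isIsom B hA (fun i => J (u i)) u a1 a2 a3 hcard ε (fun _ => 0) (fun _ => 0) ε y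
      hye hyf
    intro i
    rw [hεsq, mul_zero, sub_zero]
  have hyy : y * y = 1 := by
    apply block_op_ext B hA (fun i => J (u i)) u a1 a2 a3 hcard
    · intro i
      rw [Module.End.mul_apply, hye', map_smul, hye', smul_smul, hεsq, one_smul,
        Module.End.one_apply]
    · intro i
      rw [Module.End.mul_apply, hyf', map_smul, hyf', smul_smul, hεsq, one_smul,
        Module.End.one_apply]
  have hyJ : y * J = J * y := by
    apply block_op_ext B hA (fun i => J (u i)) u a1 a2 a3 hcard
    · intro i
      rw [Module.End.mul_apply, Module.End.mul_apply, hJ.1, map_smul, hyf', hye', map_smul, hJ.1,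
        smul_comm]
    · intro i
      rw [Module.End.mul_apply, Module.End.mul_apply, hye', hyf', map_smul]
  refine ⟨y, hiso, ?_, ?_, ?_⟩
  · intro v
    have h := LinearMap.congr_fun hyy v
    rw [Module.End.mul_apply, Module.End.one_apply] at h
    exact h
  · intro v
    have h := LinearMap.congr_fun hyJ v
    rw [Module.End.mul_apply, Module.End.mul_apply] at h
    exact h
  · obtain ⟨b, hb⟩ := exists_hyp_Basis B hA (fun i => J (u i)) u a1 a2 a3 hcard
    have hyb : ∀ p, y (b p) = Sum.elim ε ε p • b p := by
      rintro (i | i)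
      · rw [hb, Sum.elim_inl, Sum.elim_inl]
        exact hye' i
      · rw [hb, Sum.elim_inr, Sum.elim_inr]
        exact hyf' i
    have hconj : ∀ v, b.equivFun (y v) =
        (Matrix.toLin' (Matrix.diagonal (Sum.elim ε ε)) : Module.End F (Fin m ⊕ Fin m → F))
          (b.equivFun v) := by
      have h1 : (b.equivFun : V →ₗ[F] (Fin m ⊕ Fin m → F)).comp y =
          (Matrix.toLin' (Matrix.diagonal (Sum.elim ε ε)) :
            Module.End F (Fin m ⊕ Fin m → F)).comp (b.equivFun : V →ₗ[F] (Fin m ⊕ Fin m → F)) := by
        apply b.ext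
        intro p
        rw [LinearMap.comp_apply, LinearMap.comp_apply, hyb, LinearEquiv.coe_coe, map_smul]
        ext p'
        rw [Matrix.toLin'_apply, Matrix.mulVec_diagonal, Pi.smul_apply, smul_eq_mul,
          Basis.equivFun_self]
        by_cases hpp : p = p'
        · rw [hpp]
        · rw [if_neg hpp, mul_zero, mul_zero]
      intro v
      exact LinearMap.congr_fun h1 v
    have h1 : y + (1 : F) • 1 = y - (-1 : F) • 1 := by
      rw [neg_smul (1 : F) (1 : Module.End F V), sub_neg_eq_add]
    rw [h1, Tns.finrank_ker_of_conj b.equivFun y _ hconj (-1), Tsp.finrank_ker_diag' _ (-1)]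
    have hm1 : (1 : F) ≠ -1 := by
      intro h
      apply h2F
      linear_combination h
    have hε1 : ∀ i : Fin m, ε i = -1 ↔ (i : ℕ) < s := by
      intro i
      rw [hε]
      dsimp only
      constructor
      · intro h
        by_contra hcon
        have h' : (if (i : ℕ) < s then (-1 : F) else 1) = 1 := if_neg hcon
        rw [h'] at h
        exact hm1 h
      · intro h
        exact if_pos h
    have hcount : ∀ (inst : DecidablePred (fun p : Fin m ⊕ Fin m => Sum.elim ε ε p = -1)),
        (@Finset.filter _ (fun p : Fin m ⊕ Fin m => Sum.elim ε ε p = -1) inst Finset.univ).card =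
          2 * s := by
      intro inst
      have h2 : @Finset.filter _ (fun p : Fin m ⊕ Fin m => Sum.elim ε ε p = -1) inst Finset.univ =
          (Finset.univ.filter (fun j : Fin m => (j : ℕ) < s)).disjSum
            (Finset.univ.filter (fun j : Fin m => (j : ℕ) < s)) := by
        ext p
        rcases p with i | i
        · rw [Finset.mem_filter, Finset.inl_mem_disjSum, Finset.mem_filter, Sum.elim_inl, hε1]
          exact ⟨fun h => ⟨Finset.mem_univ _, h.2⟩, fun h => ⟨Finset.mem_univ _, h.2⟩⟩
        · rw [Finset.mem_filter, Finset.inr_mem_disjSum, Finset.mem_filter, Sum.elim_inr, hε1]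
          exact ⟨fun h => ⟨Finset.mem_univ _, h.2⟩, fun h => ⟨Finset.mem_univ _, h.2⟩⟩
      rw [h2, Finset.card_disjSum, Fin.card_filter_val_lt, min_eq_right hs]
      ring
    exact hcount _

/-- isometries of square `-1` anticommuting with `J` -/
theorem exists_semi_J (h2F : (2 : F) ≠ 0) (δ : F) (hδ : δ ≠ 0)
    (hnorm : ∀ t : F, ∃ a b : F, a * a - δ * (b * b) = t)
    (hA : B.IsAlt) (hB : B.Nondegenerate) (m : ℕ) (hfin : finrank F V = 2 * m)
    (J : Module.End F V) (hJ : IsJ B δ J) :
    ∃ y : Module.End F V, SpImp.IsIsom B y ∧ (∀ v, y (y v) = -v) ∧ (∀ v, y (J v) = -J (y v)) := by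
  classical
  obtain ⟨u, -, k1, k2⟩ := exists_J_family B h2F δ hδ hnorm hA hB J hJ m ⊤
    (SpImp.nd_top B hA hB) (fun _ _ => Submodule.mem_top) (by rw [finrank_top, hfin])
  obtain ⟨a1, a2, a3, a4, a5⟩ := hyp_of_J_family B hA δ J hJ u k1 k2
  have hcard : 2 * Fintype.card (Fin m) = finrank F V := by rw [Fintype.card_fin, hfin]
  obtain ⟨a, b, hab⟩ := hnorm (-1)
  obtain ⟨y, hye, hyf⟩ := exists_block_op B hA (fun i => J (u i)) u a1 a2 a3 hcard (fun _ => -a)
    (fun _ => -(b * δ)) (fun _ => b) (fun _ => a)
  have hiso : SpImp.IsIsom B y := by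
    apply block_op_isIsom B hA (fun i => J (u i)) u a1 a2 a3 hcard (fun _ => -a)
      (fun _ => -(b * δ)) (fun _ => b) (fun _ => a) y hye hyf
    intro i
    linear_combination -hab
  have hyy : y * y = -1 := by
    apply block_op_ext B hA (fun i => J (u i)) u a1 a2 a3 hcard
    · intro i
      rw [Module.End.mul_apply, hye, map_add, map_smul, map_smul, hye, hyf, LinearMap.neg_apply,
        Module.End.one_apply]
      have h1 : (a * a - δ * (b * b)) • J (u i) = -J (u i) := by rw [hab, neg_one_smul]
      rw [← h1]
      module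
    · intro i
      rw [Module.End.mul_apply, hyf, map_add, map_smul, map_smul, hye, hyf, LinearMap.neg_apply,
        Module.End.one_apply]
      have h1 : (a * a - δ * (b * b)) • u i = -u i := by rw [hab, neg_one_smul]
      rw [← h1]
      module
  have hyJ : y * J = -(J * y) := by
    apply block_op_ext B hA (fun i => J (u i)) u a1 a2 a3 hcard
    · intro i
      rw [Module.End.mul_apply, LinearMap.neg_apply, Module.End.mul_apply, hJ.1, map_smul, hyf, hye,
        map_add, map_smul, map_smul, hJ.1]
      module
    · intro i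
      rw [Module.End.mul_apply, LinearMap.neg_apply, Module.End.mul_apply, hye, hyf,
        map_add, map_smul, map_smul, hJ.1]
      module
  refine ⟨y, hiso, ?_, ?_⟩
  · intro v
    have h := LinearMap.congr_fun hyy v
    rw [Module.End.mul_apply, LinearMap.neg_apply, Module.End.one_apply] at h
    exact h
  · intro v
    have h := LinearMap.congr_fun hyJ v
    rw [Module.End.mul_apply, LinearMap.neg_apply, Module.End.mul_apply] at h
    exact h

end Elts

end Cfsg.Agent.Lib.Helper2.Ukf
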