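import Mathlib
import Cfsg.Agent.Lib.Helper2.UkfA
import Cfsg.Agent.Lib.Helper2.TspC
set_option autoImplicit false
set_option maxHeartbeats 1000000
set_option linter.unusedVariables false
set_option linter.unusedSectionVars false
set_option linter.style.longLine false
set_option linter.unusedSimpArgs false
set_option linter.deprecated false
set_option linter.style.haveILetI false

/-! Elements of prime order of `PSp_n(q)` and subgroups of type `GU_{n/2}(q)` (part C):
the norm operator of an element of order `r`, its kernel (the moving part), and the polynomial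
square root of a non-square on an irreducible constituent of even degree. -/

namespace Cfsg.Agent.Lib.Helper2.Ukf

open Module Polynomial

universe u v

section Nrm

variable {F : Type u} [Field F] {V : Type v} [AddCommGroup V] [Module F V] [FiniteDimensional F V]

/-- the norm operator `1 + y + ... + y^(r-1)` -/
noncomputable def nrm (y : Module.End F V) (r : ℕ) : Module.End F V := ∑ j ∈ Finset.range r, y ^ j

theorem nrm_apply (y : Module.End F V) (r : ℕ) (v : V) :
    nrm y r v = ∑ j ∈ Finset.range r, (y ^ j) v := by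
  unfold nrm
  rw [LinearMap.sum_apply]

theorem nrm_mem_ker {y : Module.End F V} {r : ℕ} (hy : y ^ r = 1) (v : V) :
    nrm y r v ∈ LinearMap.ker (y - 1) := Imp.geom_ker hy v

theorem pow_comm_of_comm {y J : Module.End F V} (h : ∀ v, y (J v) = J (y v)) (j : ℕ) :
    ∀ v, (y ^ j) (J v) = J ((y ^ j) v) := by
  induction j with
  | zero =>
    intro v
    rw [pow_zero, Module.End.one_apply, Module.End.one_apply]
  | succ j ih =>
    intro v
    rw [pow_succ, Module.End.mul_apply, Module.End.mul_apply, h, ih]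

theorem nrm_comm {y J : Module.End F V} (h : ∀ v, y (J v) = J (y v)) (r : ℕ) (v : V) :
    nrm y r (J v) = J (nrm y r v) := by
  rw [nrm_apply, nrm_apply, map_sum]
  exact Finset.sum_congr rfl (fun j _ => pow_comm_of_comm h j v)

theorem nrm_fix {y : Module.End F V} {v : V} (h : y v = v) (r : ℕ) :
    nrm y r v = (r : F) • v := by
  rw [nrm_apply, Finset.sum_congr rfl (fun j _ => Imp.pow_fix h j), Finset.sum_const,
    Finset.card_range, Nat.cast_smul_eq_nsmul]

theorem inv_ker_nrm (y : Module.End F V) (r : ℕ) : Elus.Inv y (LinearMap.ker (nrm y r)) := by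
  intro v hv
  rw [LinearMap.mem_ker] at hv ⊢
  rw [nrm_comm (fun _ => rfl) r v, hv, map_zero]

theorem inv_ker_nrm_of_comm {y J : Module.End F V} (h : ∀ v, y (J v) = J (y v)) (r : ℕ) :
    Elus.Inv J (LinearMap.ker (nrm y r)) := by
  intro v hv
  rw [LinearMap.mem_ker] at hv ⊢
  rw [nrm_comm h r v, hv, map_zero]

theorem inv_ker_fix_of_comm {y J : Module.End F V} (h : ∀ v, y (J v) = J (y v)) :
    Elus.Inv J (LinearMap.ker (y - 1)) := by
  intro v hv
  rw [Elus.mem_ker_sub_one] at hv ⊢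
  rw [h, hv]

theorem disj_ker_nrm {y : Module.End F V} {r : ℕ} (hrF : (r : F) ≠ 0) :
    Disjoint (LinearMap.ker (nrm y r)) (LinearMap.ker (y - 1)) := by
  rw [Submodule.disjoint_def]
  intro x hx1 hx2
  rw [LinearMap.mem_ker] at hx1
  rw [Elus.mem_ker_sub_one] at hx2
  rw [nrm_fix hx2] at hx1
  exact (smul_eq_zero.mp hx1).resolve_left hrF

theorem le_ker_nrm {y : Module.End F V} {r : ℕ} (hy : y ^ r = 1) {X : Submodule F V}
    (hX : Elus.Inv y X) (hd : Disjoint X (LinearMap.ker (y - 1))) :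
    X ≤ LinearMap.ker (nrm y r) := by
  intro x hx
  rw [LinearMap.mem_ker]
  have h1 : nrm y r x ∈ X := by
    rw [nrm_apply]
    exact Submodule.sum_mem _ (fun j _ => Imp.inv_pow' hX j x hx)
  exact (Submodule.disjoint_def.mp hd) _ h1 (nrm_mem_ker hy x)

theorem finrank_ker_nrm {y : Module.End F V} {r : ℕ} (hrF : (r : F) ≠ 0) (hy : y ^ r = 1) :
    finrank F (LinearMap.ker (nrm y r)) + finrank F (LinearMap.ker (y - 1)) = finrank F V := by
  have h1 := LinearMap.finrank_range_add_finrank_ker (nrm y r)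
  have h2 : finrank F (LinearMap.range (nrm y r)) ≤ finrank F (LinearMap.ker (y - 1)) := by
    apply Submodule.finrank_mono
    rintro _ ⟨v, rfl⟩
    exact nrm_mem_ker hy v
  have h3 := Submodule.finrank_sup_add_finrank_inf_eq (LinearMap.ker (nrm y r))
    (LinearMap.ker (y - 1))
  rw [(disj_ker_nrm (y := y) hrF).eq_bot, finrank_bot, add_zero] at h3
  have h4 := Submodule.finrank_le (LinearMap.ker (nrm y r) ⊔ LinearMap.ker (y - 1))
  omega

theorem isCompl_ker_nrm {y : Module.End F V} {r : ℕ} (hrF : (r : F) ≠ 0) (hy : y ^ r = 1) :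
    IsCompl (LinearMap.ker (y - 1)) (LinearMap.ker (nrm y r)) := by
  refine ⟨(disj_ker_nrm hrF).symm, ?_⟩
  rw [codisjoint_iff]
  apply Submodule.eq_top_of_finrank_eq
  have h3 := Submodule.finrank_sup_add_finrank_inf_eq (LinearMap.ker (y - 1))
    (LinearMap.ker (nrm y r))
  rw [(disj_ker_nrm (y := y) hrF).symm.eq_bot, finrank_bot, add_zero] at h3
  have h4 := finrank_ker_nrm hrF hy
  omega

variable (B : LinearMap.BilinForm F V)

theorem orth_ker_nrm {y : Module.End F V} {r : ℕ} (hrF : (r : F) ≠ 0)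
    (hyB : SpImp.IsIsom B y) : ∀ c ∈ LinearMap.ker (y - 1), ∀ m ∈ LinearMap.ker (nrm y r),
    B c m = 0 := by
  intro c hc m hm
  rw [Elus.mem_ker_sub_one] at hc
  rw [LinearMap.mem_ker] at hm
  have h1 : B c (nrm y r m) = (r : F) * B c m := by
    rw [nrm_apply, map_sum]
    have h2 : ∀ j ∈ Finset.range r, B c ((y ^ j) m) = B c m := by
      intro j _
      have h3 := hyB.pow j c m
      rw [Imp.pow_fix hc j] at h3
      exact h3
    rw [Finset.sum_congr rfl h2, Finset.sum_const, Finset.card_range, nsmul_eq_mul]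
  rw [hm, map_zero] at h1
  exact (mul_eq_zero.mp h1.symm).resolve_left hrF

/-- the moving part is not totally isotropic -/
theorem moving_not_isotropic (hB : B.Nondegenerate) {y : Module.End F V} {r : ℕ}
    (hrF : (r : F) ≠ 0) (hy : y ^ r = 1) (hyB : SpImp.IsIsom B y)
    (hM0 : LinearMap.ker (nrm y r) ≠ ⊥)
    (hiso : ∀ u ∈ LinearMap.ker (nrm y r), ∀ v ∈ LinearMap.ker (nrm y r), B u v = 0) : False := by
  obtain ⟨u, hu, hu0⟩ := Submodule.exists_mem_ne_zero_of_ne_bot hM0
  apply hu0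
  apply hB.2 u
  intro w
  have hc := isCompl_ker_nrm hrF hy
  have hw : w ∈ LinearMap.ker (y - 1) ⊔ LinearMap.ker (nrm y r) := by
    rw [hc.sup_eq_top]
    exact Submodule.mem_top
  obtain ⟨c, hcm, m, hm, rfl⟩ := Submodule.mem_sup.mp hw
  rw [LinearMap.map_add₂, orth_ker_nrm B hrF hyB c hcm u hu, hiso m hm u hu, add_zero]

end Nrm

section Rho

variable {F : Type u} [Field F] [Fintype F]

theorem ringChar_ne_two_of_odd (hodd : Odd (Fintype.card F)) : ringChar F ≠ 2 := by
  intro h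
  have h1 := FiniteField.even_card_iff_char_two.mp h
  obtain ⟨k, hk⟩ := hodd
  omega

theorem two_ne_zero_of_odd (hodd : Odd (Fintype.card F)) : (2 : F) ≠ 0 :=
  Ring.two_ne_zero (ringChar_ne_two_of_odd hodd)

theorem nonsq_pow_half (hodd : Odd (Fintype.card F)) (δ : F) (hδ : ∀ e : F, e * e ≠ δ) :
    δ ^ (Fintype.card F / 2) = -1 := by
  have hc := ringChar_ne_two_of_odd hodd
  have hδ0 : δ ≠ 0 := by
    rintro rfl
    exact hδ 0 (mul_zero 0)
  rcases FiniteField.pow_dichotomy hc hδ0 with h | h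
  · exfalso
    obtain ⟨e, he⟩ := (FiniteField.isSquare_iff hc hδ0).mpr h
    exact hδ e he.symm
  · exact h

/-- Euler's criterion, iterated: `δ ^ ((q ^ m - 1) / 2) = (-1) ^ m` for a non-square `δ` -/
theorem nonsq_pow (hodd : Odd (Fintype.card F)) (δ : F) (hδ : ∀ e : F, e * e ≠ δ) (m : ℕ) :
    ∃ k : ℕ, Fintype.card F ^ m = 2 * k + 1 ∧ δ ^ k = (-1) ^ m := by
  have hhalf := nonsq_pow_half hodd δ hδ
  obtain ⟨h, hh⟩ := hodd
  have hh2 : Fintype.card F / 2 = h := by omega
  rw [hh2] at hhalf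
  induction m with
  | zero => exact ⟨0, by rw [pow_zero, mul_zero, zero_add], by rw [pow_zero, pow_zero]⟩
  | succ m ih =>
    obtain ⟨k, hk1, hk2⟩ := ih
    refine ⟨Fintype.card F * k + h, ?_, ?_⟩
    · rw [pow_succ, hk1]
      have h3 : (2 * k + 1) * Fintype.card F = 2 * (Fintype.card F * k) + Fintype.card F := by ring
      rw [h3]
      omega
    · have h5 : ((-1 : F) ^ m) ^ Fintype.card F = (-1) ^ m := by
        rw [← pow_mul, mul_comm, pow_mul, Odd.neg_one_pow ⟨h, hh⟩]
      rw [pow_add, pow_mul', hk2, hhalf, h5, pow_succ]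

theorem card_adjoinRoot (φ : F[X]) [hφ : Fact (Irreducible φ)] [Fintype (AdjoinRoot φ)] :
    Fintype.card (AdjoinRoot φ) = Fintype.card F ^ φ.natDegree := by
  have hφ0 : φ ≠ 0 := hφ.out.ne_zero
  rw [Module.card_eq_pow_finrank (K := F), (AdjoinRoot.powerBasis hφ0).finrank,
    AdjoinRoot.powerBasis_dim]

/-- a non-square becomes a square modulo an irreducible polynomial of even degree -/
theorem exists_poly_sqrt (hodd : Odd (Fintype.card F)) (δ : F) (hδ : ∀ e : F, e * e ≠ δ)
    (φ : F[X]) (hφ : Irreducible φ) (hdeg : Even φ.natDegree) : ∃ P : F[X], φ ∣ P * P - C δ := by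
  haveI : Fact (Irreducible φ) := ⟨hφ⟩
  have hφ0 := hφ.ne_zero
  haveI := (AdjoinRoot.powerBasis hφ0).finite
  haveI : Finite (AdjoinRoot φ) := Module.finite_of_finite F
  letI := Fintype.ofFinite (AdjoinRoot φ)
  have hcard := card_adjoinRoot φ
  obtain ⟨n, hn⟩ := hdeg
  obtain ⟨k, hk1, hk2⟩ := nonsq_pow hodd δ hδ (n + n)
  rw [hn] at hcard
  have hK2 : ringChar (AdjoinRoot φ) ≠ 2 := by
    intro h
    have h1 := FiniteField.even_card_iff_char_two.mp h
    rw [hcard, hk1] at h1
    omega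
  have hδ0 : δ ≠ 0 := by
    rintro rfl
    exact hδ 0 (mul_zero 0)
  have hne : (AdjoinRoot.of φ δ) ≠ 0 := by
    intro h
    apply hδ0
    exact (map_eq_zero (AdjoinRoot.of φ)).mp h
  have hsq : IsSquare (AdjoinRoot.of φ δ) := by
    rw [FiniteField.isSquare_iff hK2 hne, hcard, hk1]
    have h3 : (2 * k + 1) / 2 = k := by omega
    rw [h3, ← map_pow, hk2, Even.neg_one_pow ⟨n, rfl⟩, map_one]
  obtain ⟨β, hβ⟩ := hsq
  obtain ⟨P, rfl⟩ := AdjoinRoot.mk_surjective β
  refine ⟨P, ?_⟩
  rw [← AdjoinRoot.mk_eq_zero, map_sub, map_mul, AdjoinRoot.mk_C, hβ, sub_self]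

variable {V : Type v} [AddCommGroup V] [Module F V] [FiniteDimensional F V]

/-- the degree of an irreducible annihilator of a moved subspace is a multiple of the order of
`q` modulo `r` -/
theorem ord_dvd_natDegree (r : ℕ) [hr : Fact r.Prime] (y : Module.End F V) (hy : y ^ r = 1)
    (M : Submodule F V) (hM0 : M ≠ ⊥) (hMC : Disjoint M (LinearMap.ker (y - 1)))
    (φ : F[X]) (hφ : Irreducible φ) (hann : ∀ u ∈ M, aeval y φ u = 0) :
    orderOf ((Fintype.card F : ℕ) : ZMod r) ∣ φ.natDegree := by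
  obtain ⟨u, hu, hu0⟩ := Submodule.exists_mem_ne_zero_of_ne_bot hM0
  have hmulφ : ∀ S : F[X], aeval y (φ * S) u = 0 := by
    intro S
    rw [mul_comm, map_mul, Module.End.mul_apply, hann u hu, map_zero]
  have hdvd : φ ∣ X ^ r - 1 := by
    rcases hφ.isCoprime_or_dvd (X ^ r - 1) with ⟨a, b, hab⟩ | h
    · exfalso
      apply hu0
      have h1 : aeval y (a * φ + b * (X ^ r - 1)) u = u := by
        rw [hab, map_one, Module.End.one_apply]
      rw [map_add, LinearMap.add_apply, mul_comm a φ, hmulφ a, zero_add, map_mul,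
        Module.End.mul_apply, map_sub, aeval_X_pow, map_one, hy, sub_self, LinearMap.zero_apply,
        map_zero] at h1
      exact h1.symm
    · exact h
  haveI : Fact (Irreducible φ) := ⟨hφ⟩
  have hφ0 := hφ.ne_zero
  haveI := (AdjoinRoot.powerBasis hφ0).finite
  haveI : Finite (AdjoinRoot φ) := Module.finite_of_finite F
  letI := Fintype.ofFinite (AdjoinRoot φ)
  have hcard := card_adjoinRoot φ
  have hαr : (AdjoinRoot.root φ) ^ r = 1 := by
    have h1 : AdjoinRoot.mk φ (X ^ r - 1) = 0 := AdjoinRoot.mk_eq_zero.mpr hdvd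
    rw [map_sub, map_pow, AdjoinRoot.mk_X, map_one, sub_eq_zero] at h1
    exact h1
  have hα1 : AdjoinRoot.root φ ≠ 1 := by
    intro h
    have h1 : AdjoinRoot.mk φ (X - 1) = 0 := by
      rw [map_sub, AdjoinRoot.mk_X, map_one, h, sub_self]
    obtain ⟨S, hS⟩ := AdjoinRoot.mk_eq_zero.mp h1
    have h2 := hmulφ S
    rw [← hS, map_sub, aeval_X, map_one] at h2
    apply hu0
    have h3 : u ∈ M ⊓ LinearMap.ker (y - 1) := ⟨hu, LinearMap.mem_ker.mpr h2⟩
    rw [hMC.eq_bot] at h3
    exact (Submodule.mem_bot F).mp h3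
  have hα0 : AdjoinRoot.root φ ≠ 0 := by
    intro h
    rw [h, zero_pow hr.out.ne_zero] at hαr
    exact zero_ne_one hαr
  have hord : orderOf (AdjoinRoot.root φ) = r := orderOf_eq_prime hαr hα1
  have h4 := FiniteField.pow_card_sub_one_eq_one (AdjoinRoot.root φ) hα0
  have h5 : r ∣ Fintype.card F ^ φ.natDegree - 1 := by
    rw [← hord, ← hcard]
    exact orderOf_dvd_of_pow_eq_one h4
  apply orderOf_dvd_of_pow_eq_one
  have h6 := (ZMod.natCast_eq_zero_iff _ _).mpr h5
  rw [Nat.cast_sub (Nat.one_le_pow _ _ Fintype.card_pos), Nat.cast_pow, Nat.cast_one,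
    sub_eq_zero] at h6
  exact h6

/-- the polynomial square root of a non-square on an irreducible constituent of even degree -/
theorem exists_rho (hodd : Odd (Fintype.card F)) (δ : F) (hδ : ∀ e : F, e * e ≠ δ) (r : ℕ)
    [hr : Fact r.Prime] (hie : Even (orderOf ((Fintype.card F : ℕ) : ZMod r)))
    (y : Module.End F V) (hy : y ^ r = 1) (M : Submodule F V) (hMi : Elus.Inv y M) (hM0 : M ≠ ⊥)
    (hmin : ∀ X : Submodule F V, X ≤ M → Elus.Inv y X → X = ⊥ ∨ X = M)
    (hMC : Disjoint M (LinearMap.ker (y - 1))) :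
    ∃ P : F[X], ∀ v ∈ M, aeval y P (aeval y P v) = δ • v := by
  obtain ⟨φ, hφ, hann⟩ := SpImp.exists_irr_ann hr.out.pos hy hMi hM0 hmin
  have hdeg : Even φ.natDegree :=
    hie.trans_dvd (ord_dvd_natDegree r y hy M hM0 hMC φ hφ hann)
  obtain ⟨P, S, hPS⟩ := exists_poly_sqrt hodd δ hδ φ hφ hdeg
  refine ⟨P, ?_⟩
  intro v hv
  have h1 : aeval y (P * P - C δ) v = 0 := by
    rw [hPS, mul_comm, map_mul, Module.End.mul_apply, hann v hv, map_zero]
  rw [map_sub, map_mul, LinearMap.sub_apply, Module.End.mul_apply, aeval_C,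
    Module.algebraMap_end_apply, sub_eq_zero] at h1
  exact h1

theorem aeval_comm_of_comm {y J : Module.End F V} (h : ∀ v, y (J v) = J (y v)) (P : F[X]) :
    ∀ v, aeval y P (J v) = J (aeval y P v) := by
  induction P using Polynomial.induction_on' with
  | add p q hp hq =>
    intro v
    rw [map_add, LinearMap.add_apply, LinearMap.add_apply, hp, hq, map_add]
  | monomial n a =>
    intro v
    rw [aeval_monomial, Module.End.mul_apply, Module.End.mul_apply, Module.algebraMap_end_apply,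
      Module.algebraMap_end_apply, pow_comm_of_comm h n v, map_smul]

/-- an operator commuting with `y` and squaring to `δ` on an irreducible constituent is `± ρ` -/
theorem eq_or_neg_of_comm (δ : F) (y : Module.End F V) (M : Submodule F V)
    (hmin : ∀ X : Submodule F V, X ≤ M → Elus.Inv y X → X = ⊥ ∨ X = M)
    (ρ J : Module.End F V) (hρy : ∀ v, y (ρ v) = ρ (y v)) (hJy : ∀ v, y (J v) = J (y v))
    (hMi : Elus.Inv y M) (hρM : Elus.Inv ρ M) (hJM : Elus.Inv J M)
    (hJρ : ∀ v ∈ M, J (ρ v) = ρ (J v)) (hρ2 : ∀ v ∈ M, ρ (ρ v) = δ • v)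
    (hJ2 : ∀ v ∈ M, J (J v) = δ • v) :
    (∀ v ∈ M, J v = ρ v) ∨ (∀ v ∈ M, J v = -ρ v) := by
  have hX : Elus.Inv y (M ⊓ LinearMap.ker (J - ρ)) := by
    intro x hx
    have h1 := LinearMap.mem_ker.mp hx.2
    rw [LinearMap.sub_apply] at h1
    refine Submodule.mem_inf.mpr ⟨hMi x hx.1, ?_⟩
    rw [LinearMap.mem_ker, LinearMap.sub_apply, ← hJy, ← hρy, ← map_sub, h1, map_zero]
  rcases hmin _ inf_le_left hX with h | h
  · right
    intro v hv
    have h1 : J v + ρ v ∈ M ⊓ LinearMap.ker (J - ρ) := by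
      refine Submodule.mem_inf.mpr ⟨M.add_mem (hJM v hv) (hρM v hv), ?_⟩
      rw [LinearMap.mem_ker, LinearMap.sub_apply, map_add, map_add, hJ2 v hv, hρ2 v hv,
        hJρ v hv]
      abel
    rw [h] at h1
    exact eq_neg_of_add_eq_zero_left ((Submodule.mem_bot F).mp h1)
  · left
    intro v hv
    have h1 : v ∈ M ⊓ LinearMap.ker (J - ρ) := by
      rw [h]
      exact hv
    have h2 := LinearMap.mem_ker.mp h1.2
    rw [LinearMap.sub_apply, sub_eq_zero] at h2
    exact h2

variable (B : LinearMap.BilinForm F V)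

/-- the adjoint of `ρ` on the constituent is `(-1)^m ρ`, where `2m` is the order of `q` mod `r` -/
theorem adj_rho (hodd : Odd (Fintype.card F)) (δ : F) (hδ : ∀ e : F, e * e ≠ δ) (r : ℕ)
    [hr : Fact r.Prime] (hrq : ¬ r ∣ Fintype.card F) (m : ℕ)
    (hm : orderOf ((Fintype.card F : ℕ) : ZMod r) = m + m)
    (y : Module.End F V) (hyB : SpImp.IsIsom B y) (hy : y ^ r = 1) (M : Submodule F V)
    (hMi : Elus.Inv y M) (P : F[X]) (hρ2 : ∀ v ∈ M, aeval y P (aeval y P v) = δ • v) :
    ∀ u ∈ M, ∀ v, B u (aeval y P v) = (-1) ^ m * B (aeval y P u) v := by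
  have hr0 : 0 < r := hr.out.pos
  have hipos := Elus.ord_pos r (Fintype.card F) hrq
  have hpw : ((Fintype.card F : ℕ) : ZMod r) ^ m * ((Fintype.card F : ℕ) : ZMod r) ^ m = 1 := by
    rw [← pow_add, ← hm, pow_orderOf_eq_one]
  have hdvd : r ∣ Fintype.card F ^ m + 1 := by
    rcases mul_self_eq_one_iff.mp hpw with h1 | h1
    · exfalso
      have h2 := Nat.le_of_dvd (by omega) (orderOf_dvd_of_pow_eq_one h1)
      omega
    · rw [← ZMod.natCast_eq_zero_iff]
      push_cast
      rw [h1, neg_add_cancel]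
  have h3 : y ^ (Fintype.card F ^ m + 1) = 1 := by
    obtain ⟨k, hk⟩ := hdvd
    rw [hk, pow_mul, hy, one_pow]
  have hyy : y * y ^ (r - 1) = 1 := by rw [← pow_succ', Nat.sub_add_cancel hr0, hy]
  have h4 : y ^ (Fintype.card F ^ m) = y ^ (r - 1) := by
    calc y ^ (Fintype.card F ^ m) = y ^ (Fintype.card F ^ m) * (y * y ^ (r - 1)) := by
          rw [hyy, mul_one]
      _ = y ^ (Fintype.card F ^ m + 1) * y ^ (r - 1) := by rw [pow_succ, mul_assoc]
      _ = y ^ (r - 1) := by rw [h3, one_mul]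
  obtain ⟨k, hk1, hk2⟩ := nonsq_pow hodd δ hδ m
  obtain ⟨ρ, hρdef⟩ : ∃ ρ : Module.End F V, ρ = aeval y P := ⟨_, rfl⟩
  rw [← hρdef] at hρ2 ⊢
  have hρM : Elus.Inv ρ M := by
    intro x hx
    rw [hρdef]
    exact SpImp.inv_aeval hMi P x hx
  have hpowk : ∀ j : ℕ, ∀ w ∈ M, ((ρ * ρ) ^ j) w = δ ^ j • w := by
    intro j
    induction j with
    | zero =>
      intro w _
      rw [pow_zero, pow_zero, Module.End.one_apply, one_smul]
    | succ j ih =>
      intro w hw
      rw [pow_succ, Module.End.mul_apply, Module.End.mul_apply, hρ2 w hw, map_smul, ih w hw,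
        pow_succ, mul_smul, smul_comm]
  have hQ : aeval (y ^ (r - 1)) P = ρ ^ (2 * k + 1) := by
    rw [← h4, ← expand_aeval, SpImp.expand_card_pow, map_pow, ← hρdef, hk1]
  intro u hu v
  rw [hρdef, SpImp.adj_aeval B hyB hr0 hy P u v, hQ, pow_succ, pow_mul, Module.End.mul_apply,
    pow_two, hpowk k _ (hρM u hu), hk2, map_smul, LinearMap.smul_apply, smul_eq_mul, ← hρdef]

end Rho

end Cfsg.Agent.Lib.Helper2.Ukf
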