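import Mathlib
import Cfsg.Agent.Lib.Helper2.UkfC
import Cfsg.Agent.Lib.Helper2.TspB
set_option autoImplicit false
set_option maxHeartbeats 1000000
set_option linter.unusedVariables false
set_option linter.unusedSectionVars false
set_option linter.style.longLine false
set_option linter.unusedSimpArgs false
set_option linter.deprecated false
set_option linter.style.haveILetI false

/-! Elements of prime order of `PSp_n(q)` and subgroups of type `GU_{n/2}(q)` (part D):
isometries of odd prime order that cannot commute with a skew-adjoint `J`, `J² = δ` a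
non-square. -/

namespace Cfsg.Agent.Lib.Helper2.Ukf

open Module Polynomial

universe u v

section Transv

variable {F : Type u} [Field F] {V : Type v} [AddCommGroup V] [Module F V] [FiniteDimensional F V]

/-- an operator with fixed space of codimension one does not commute with `J` -/
theorem no_transv_comm (δ : F) (hδ : ∀ e : F, e * e ≠ δ) (J : Module.End F V)
    (hJ2 : ∀ v, J (J v) = δ • v) (y : Module.End F V) (hJy : ∀ v, y (J v) = J (y v))
    (hk : finrank F (LinearMap.ker (y - 1)) + 1 = finrank F V) : False := by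
  have h1 := LinearMap.finrank_range_add_finrank_ker (y - 1)
  have h2 : finrank F (LinearMap.range (y - 1)) = 1 := by omega
  obtain ⟨⟨w, hw⟩, hw0, hspan⟩ := finrank_eq_one_iff'.mp h2
  have hw0' : w ≠ 0 := by
    intro h
    apply hw0
    exact Subtype.ext h
  have hJw : J w ∈ LinearMap.range (y - 1) := by
    obtain ⟨v, rfl⟩ := hw
    refine ⟨J v, ?_⟩
    rw [LinearMap.sub_apply, LinearMap.sub_apply, Module.End.one_apply, Module.End.one_apply, hJy,
      map_sub]
  obtain ⟨c, hc⟩ := hspan ⟨J w, hJw⟩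
  have hc' : c • w = J w := congrArg Subtype.val hc
  have h3 : (c * c - δ) • w = 0 := by
    rw [sub_smul, mul_smul, hc', ← map_smul, hc', hJ2, sub_self]
  rcases smul_eq_zero.mp h3 with h4 | h4
  · exact hδ c (by linear_combination h4)
  · exact hw0' h4

end Transv

section MinInv

variable {F : Type u} [Field F] [Fintype F] {V : Type v} [AddCommGroup V] [Module F V]
  [FiniteDimensional F V]

theorem exists_min_inv_disj {p : ℕ} [hp : Fact p.Prime] [CharP F p] (r : ℕ)
    [hr : Fact r.Prime] (hrp : r ≠ p) (g : Module.End F V) (hg : g ^ r = 1) (hg1 : g ≠ 1) :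
    ∃ M : Submodule F V, Elus.Inv g M ∧ M ≠ ⊥ ∧
      (∀ X : Submodule F V, X ≤ M → Elus.Inv g X → X = ⊥ ∨ X = M) ∧
      Disjoint M (LinearMap.ker (g - 1)) ∧
      finrank F M = orderOf ((Fintype.card F : ℕ) : ZMod r) := by
  obtain ⟨f₀, -, hf₀⟩ := FiniteField.card F p
  have hrF : (r : F) ≠ 0 := by
    intro h
    have h1 := (CharP.cast_eq_zero_iff F p r).mp h
    exact hrp ((Nat.prime_dvd_prime_iff_eq hp.out hr.out).mp h1).symm
  have hss := Elus.isSemisimple_of_pow_eq_one g r hrF hg
  obtain ⟨W', hW'inv, -, hdisj, hsup⟩ := Imp.exists_rel_compl hss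
    (D := LinearMap.ker (g - 1)) (W := ⊤) (Elus.inv_of_le_ker le_rfl)
    (fun x _ => Submodule.mem_top) le_top
  have hW'0 : W' ≠ ⊥ := by
    intro h0
    rw [h0, sup_bot_eq] at hsup
    apply hg1
    apply LinearMap.ext
    intro v
    have h1 : v ∈ LinearMap.ker (g - 1) := by
      rw [hsup]
      exact Submodule.mem_top
    rw [Elus.mem_ker_sub_one] at h1
    rw [h1, Module.End.one_apply]
  obtain ⟨U, hUW, hU0, hUinv, hUmin⟩ := Elus.exists_minimal_inv g _ W' rfl hW'0 hW'inv
  refine ⟨U, hUinv, hU0, hUmin, hdisj.symm.mono_left hUW, ?_⟩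
  exact Elus.finrank_of_minimal hf₀ g r hrp hg U hUinv hU0 hUmin
    (hdisj.symm.mono_left hUW)

/-- when the moving part has dimension the order of `q` mod `r`, it is irreducible -/
theorem ker_nrm_minimal (r : ℕ) [hr : Fact r.Prime] (hrF : (r : F) ≠ 0)
    (hrq : ¬ r ∣ Fintype.card F) (y : Module.End F V) (hy : y ^ r = 1)
    (hk : finrank F (LinearMap.ker (y - 1)) + orderOf ((Fintype.card F : ℕ) : ZMod r) =
      finrank F V) :
    ∀ X : Submodule F V, X ≤ LinearMap.ker (nrm y r) → Elus.Inv y X →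
      X = ⊥ ∨ X = LinearMap.ker (nrm y r) := by
  intro X hX hXi
  by_cases hX0 : X = ⊥
  · exact Or.inl hX0
  · right
    have h1 := Elus.mod_inf_of_inv y r hy hrq X hXi
    have h2 : X ⊓ LinearMap.ker (y - 1) = ⊥ := by
      rw [eq_bot_iff, ← (disj_ker_nrm (y := y) hrF).eq_bot]
      exact inf_le_inf_right _ hX
    rw [h2, finrank_bot, Nat.sub_zero] at h1
    have h3 : 0 < finrank F X := by
      rw [Module.finrank_pos_iff]
      exact (Submodule.nontrivial_iff_ne_bot).mpr hX0
    have h4 := Nat.le_of_dvd h3 h1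
    have h5 := finrank_ker_nrm hrF hy
    have h6 := Submodule.finrank_mono hX
    exact Submodule.eq_of_le_of_finrank_eq hX (by omega)

end MinInv

section Cases

variable {F : Type u} [Field F] [Fintype F] {V : Type v} [AddCommGroup V] [Module F V]
  [FiniteDimensional F V]
variable (B : LinearMap.BilinForm F V)

theorem natCast_ne_zero_of_ne {p : ℕ} [hp : Fact p.Prime] [CharP F p] (r : ℕ)
    [hr : Fact r.Prime] (hrp : r ≠ p) : (r : F) ≠ 0 := by
  intro h
  have h1 := (CharP.cast_eq_zero_iff F p r).mp h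
  exact hrp ((Nat.prime_dvd_prime_iff_eq hp.out hr.out).mp h1).symm

/-- order of `q` mod `r` divisible by four: an isometry of order `r` whose moving part is a
single irreducible constituent does not commute with `J` -/
theorem no_comm_mod4 {p : ℕ} [hp : Fact p.Prime] [CharP F p] (hodd : Odd (Fintype.card F))
    (δ : F) (hδ : ∀ e : F, e * e ≠ δ) (hB : B.Nondegenerate) (J : Module.End F V)
    (hJ : IsJ B δ J) (r : ℕ) [hr : Fact r.Prime] (hrp : r ≠ p) (m : ℕ)
    (hm : orderOf ((Fintype.card F : ℕ) : ZMod r) = m + m) (hme : Even m)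
    (y : Module.End F V) (hyB : SpImp.IsIsom B y) (hy : y ^ r = 1)
    (hJy : ∀ v, y (J v) = J (y v))
    (hk : finrank F (LinearMap.ker (y - 1)) + (m + m) = finrank F V) : False := by
  have hrq : ¬ r ∣ Fintype.card F := Elus.not_dvd_card_of_ne (F := F) r hrp
  have hrF : (r : F) ≠ 0 := natCast_ne_zero_of_ne r hrp
  have hipos := Elus.ord_pos r (Fintype.card F) hrq
  have h2F := two_ne_zero_of_odd hodd
  have hδ0 : δ ≠ 0 := by
    rintro rfl
    exact hδ 0 (mul_zero 0)
  obtain ⟨M, hMdef⟩ : ∃ M : Submodule F V, M = LinearMap.ker (nrm y r) := ⟨_, rfl⟩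
  have hfinM : finrank F M = m + m := by
    have h1 := finrank_ker_nrm hrF hy
    rw [hMdef]
    omega
  have hM0 : M ≠ ⊥ := by
    intro h
    rw [h, finrank_bot] at hfinM
    omega
  have hMi : Elus.Inv y M := by
    rw [hMdef]
    exact inv_ker_nrm y r
  have hMC : Disjoint M (LinearMap.ker (y - 1)) := by
    rw [hMdef]
    exact disj_ker_nrm hrF
  have hmin : ∀ X : Submodule F V, X ≤ M → Elus.Inv y X → X = ⊥ ∨ X = M := by
    rw [hMdef]
    exact ker_nrm_minimal r hrF hrq y hy (by rw [hm]; exact hk)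
  obtain ⟨P, hP⟩ := exists_rho hodd δ hδ r (by rw [hm]; exact ⟨m, rfl⟩) y hy M hMi hM0 hmin hMC
  obtain ⟨ρ, hρdef⟩ : ∃ ρ : Module.End F V, ρ = aeval y P := ⟨_, rfl⟩
  have hρy : ∀ v, y (ρ v) = ρ (y v) := by
    intro v
    rw [hρdef]
    exact (SpImp.aeval_comm y P v).symm
  have hJρ : ∀ v, J (ρ v) = ρ (J v) := by
    intro v
    rw [hρdef]
    exact (aeval_comm_of_comm hJy P v).symm
  have hρM : Elus.Inv ρ M := by
    rw [hρdef]
    exact SpImp.inv_aeval hMi P
  have hJM : Elus.Inv J M := by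
    rw [hMdef]
    exact inv_ker_nrm_of_comm hJy r
  have hadj : ∀ u ∈ M, ∀ v, B u (ρ v) = B (ρ u) v := by
    intro u hu v
    rw [hρdef, adj_rho B hodd δ hδ r hrq m hm y hyB hy M hMi P hP u hu v, hme.neg_one_pow,
      one_mul]
  have hρ2 : ∀ v ∈ M, ρ (ρ v) = δ • v := by
    rw [hρdef]
    exact hP
  have key : ∀ u ∈ M, ∀ v ∈ M, B (J u) v = 0 := by
    intro u hu v hv
    have hskew := hJ.2 u v
    have h1 : B (J u) v = B u (J v) := by
      rcases eq_or_neg_of_comm δ y M hmin ρ J hρy hJy hMi hρM hJM (fun v _ => hJρ v) hρ2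
        (fun v _ => hJ.1 v) with h | h
      · rw [h u hu, h v hv, hadj u hu v]
      · rw [h u hu, h v hv, map_neg, LinearMap.neg_apply, map_neg, hadj u hu v]
    have h3 : (2 : F) * B (J u) v = 0 := by linear_combination hskew + h1
    exact (mul_eq_zero.mp h3).resolve_left h2F
  have hiso : ∀ u ∈ M, ∀ v ∈ M, B u v = 0 := by
    intro u hu v hv
    have h1 : J (δ⁻¹ • J u) = u := by
      rw [map_smul, hJ.1, smul_smul, inv_mul_cancel₀ hδ0, one_smul]
    rw [← h1]
    exact key _ (M.smul_mem _ (hJM u hu)) v hv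
  subst hMdef
  exact moving_not_isotropic B hB hrF hy hyB hM0 hiso

/-- order of `q` mod `r` odd: an isometry of order `r` whose moving part has the minimal possible
dimension does not commute with `J` -/
theorem no_comm_odd {p : ℕ} [hp : Fact p.Prime] [CharP F p] (hodd : Odd (Fintype.card F))
    (δ : F) (hδ : ∀ e : F, e * e ≠ δ) (hA : B.IsAlt) (hB : B.Nondegenerate)
    (J : Module.End F V) (hJ : IsJ B δ J) (r : ℕ) [hr : Fact r.Prime] (hr2 : r ≠ 2)
    (hrp : r ≠ p) (i : ℕ) (hi : i = orderOf ((Fintype.card F : ℕ) : ZMod r)) (hio : Odd i)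
    (y : Module.End F V) (hyB : SpImp.IsIsom B y) (hy : y ^ r = 1)
    (hJy : ∀ v, y (J v) = J (y v))
    (hk : finrank F (LinearMap.ker (y - 1)) + 2 * i = finrank F V) : False := by
  have hrq : ¬ r ∣ Fintype.card F := Elus.not_dvd_card_of_ne (F := F) r hrp
  have hrF : (r : F) ≠ 0 := natCast_ne_zero_of_ne r hrp
  have hr0 : 0 < r := hr.out.pos
  have hrodd : Odd r := hr.out.odd_of_ne_two hr2
  have hδ0 : δ ≠ 0 := by
    rintro rfl
    exact hδ 0 (mul_zero 0)
  have hy1 : y ≠ 1 := by
    intro h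
    rw [h, sub_self, LinearMap.ker_zero, finrank_top] at hk
    obtain ⟨k, hk'⟩ := hio
    omega
  obtain ⟨M₁, hM₁i, hM₁0, hM₁min, hM₁C, hM₁fin⟩ := exists_min_inv_disj r hrp y hy hy1
  rw [← hi] at hM₁fin
  have hJinj : Function.Injective J := by
    intro a b hab
    have h1 := congrArg J hab
    rw [hJ.1, hJ.1] at h1
    exact smul_right_injective V hδ0 h1
  obtain ⟨JM, hJMdef⟩ : ∃ JM : Submodule F V, JM = M₁.map J := ⟨_, rfl⟩
  have hJMi : Elus.Inv y JM := by
    rw [hJMdef]
    rintro _ ⟨x, hx, rfl⟩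
    exact ⟨y x, hM₁i x hx, (hJy x).symm⟩
  have hJMfin : finrank F JM = i := by
    rw [hJMdef, ← hM₁fin]
    exact (LinearEquiv.finrank_eq (Submodule.equivMapOfInjective J hJinj M₁)).symm
  have hX : Elus.Inv y (M₁ ⊓ JM) := SpImp.inv_inf' hM₁i hJMi
  rcases hM₁min _ inf_le_left hX with hcase | hcase
  · -- `M₁` and `J M₁` are disjoint
    have hiso : ∀ u ∈ M₁, ∀ v ∈ M₁, B u v = 0 := by
      have hR : Elus.Inv y (M₁ ⊓ B.orthogonal M₁) :=
        SpImp.inv_inf' hM₁i (SpImp.inv_perp B hyB hr0 hy hM₁i)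
      rcases hM₁min _ inf_le_left hR with h | h
      · exfalso
        have hnd : SpImp.ND B M₁ := disjoint_iff.mpr h
        have hev := SpImp.even_of_nd B hA hB _ M₁ rfl hnd
        rw [hM₁fin] at hev
        exact (Nat.not_even_iff_odd.mpr hio) hev
      · intro u hu v hv
        have hv' : v ∈ M₁ ⊓ B.orthogonal M₁ := by
          rw [h]
          exact hv
        exact (SpImp.mem_perp B).mp hv'.2 u hu
    have hM₁M : M₁ ≤ LinearMap.ker (nrm y r) := le_ker_nrm hy hM₁i hM₁C
    have hJMM : JM ≤ LinearMap.ker (nrm y r) := by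
      rw [hJMdef]
      rintro _ ⟨x, hx, rfl⟩
      exact inv_ker_nrm_of_comm hJy r x (hM₁M hx)
    have hsup : M₁ ⊔ JM = LinearMap.ker (nrm y r) := by
      apply Submodule.eq_of_le_of_finrank_eq (sup_le hM₁M hJMM)
      have h3 := Submodule.finrank_sup_add_finrank_inf_eq M₁ JM
      rw [hcase, finrank_bot, add_zero, hM₁fin, hJMfin] at h3
      have h4 := finrank_ker_nrm hrF hy
      omega
    obtain ⟨Φ, hΦ⟩ : ∃ Φ : LinearMap.BilinForm F M₁, ∀ u v : M₁, Φ u v = B (J u) v :=
      ⟨(B.compLeft J).restrict M₁, fun u v => rfl⟩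
    have hsymm : ∀ u v, Φ u v = Φ v u := by
      intro u v
      rw [hΦ, hΦ, hJ.2, hA.neg_eq]
    have hnd : ∀ u, (∀ v, Φ u v = 0) → u = 0 := by
      intro u hu
      have hJu0 : J (u : V) = 0 := by
        apply hB.1 (J u)
        intro z
        have hz : z ∈ LinearMap.ker (y - 1) ⊔ LinearMap.ker (nrm y r) := by
          rw [(isCompl_ker_nrm hrF hy).sup_eq_top]
          exact Submodule.mem_top
        obtain ⟨c, hc, mm, hmm, rfl⟩ := Submodule.mem_sup.mp hz
        rw [← hsup] at hmm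
        obtain ⟨a, ha, b', hb', rfl⟩ := Submodule.mem_sup.mp hmm
        rw [hJMdef] at hb'
        obtain ⟨b, hb, rfl⟩ := hb'
        have hJuM : J (u : V) ∈ LinearMap.ker (nrm y r) :=
          hJMM (by rw [hJMdef]; exact ⟨u, u.2, rfl⟩)
        have e1 : B (J u) c = 0 := by
          rw [← hA.neg_eq, orth_ker_nrm B hrF hyB c hc _ hJuM, neg_zero]
        have e2 : B (J u) a = 0 := by
          have h1 := hu ⟨a, ha⟩
          rwa [hΦ] at h1
        have e3 : B (J u) (J b) = 0 := by
          rw [hJ.2, hJ.1, map_smul, hiso u u.2 b hb, smul_zero, neg_zero]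
        rw [map_add, map_add, e1, e2, e3, add_zero, add_zero]
      exact Subtype.ext (hJinj (hJu0.trans (map_zero J).symm))
    obtain ⟨g, hgdef⟩ : ∃ g : Module.End F M₁, g = y.restrict hM₁i := ⟨_, rfl⟩
    have hgapp : ∀ x : M₁, ((g x : M₁) : V) = y x := by
      intro x
      rw [hgdef]
      rfl
    have hgiso : ∀ u v, Φ (g u) (g v) = Φ u v := by
      intro u v
      rw [hΦ, hΦ, hgapp, hgapp, ← hJy, hyB]
    have hgr : g ^ r = 1 := by
      have h1 : y ^ r = (1 : F) • 1 := by rw [hy, one_smul]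
      rw [hgdef, Elus.restrict_pow_smul h1 hM₁i, one_smul]
    have hev := Tsp.even_moving_of_isom Φ hsymm hnd g hgiso r hrodd hgr
    have hker : LinearMap.ker (g - 1) = ⊥ := by
      rw [eq_bot_iff]
      intro x hx
      rw [Elus.mem_ker_sub_one] at hx
      have h1 : (x : V) ∈ M₁ ⊓ LinearMap.ker (y - 1) := by
        refine Submodule.mem_inf.mpr ⟨x.2, ?_⟩
        rw [Elus.mem_ker_sub_one]
        have h2 := congrArg Subtype.val hx
        rwa [hgapp] at h2
      rw [hM₁C.eq_bot] at h1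
      exact (Submodule.mem_bot F).mpr (Subtype.ext ((Submodule.mem_bot F).mp h1))
    rw [hker, finrank_bot, Nat.sub_zero, hM₁fin] at hev
    exact (Nat.not_even_iff_odd.mpr hio) hev
  · -- `J` preserves `M₁`
    have hle : M₁ ≤ JM := by
      rw [← hcase]
      exact inf_le_right
    have heq : M₁ = JM := Submodule.eq_of_le_of_finrank_eq hle (by rw [hM₁fin, hJMfin])
    have hJM₁ : ∀ x ∈ M₁, J x ∈ M₁ := by
      intro x hx
      have h1 : J x ∈ JM := by
        rw [hJMdef]
        exact ⟨x, hx, rfl⟩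
      rw [heq]
      exact h1
    obtain ⟨J', hJ'⟩ : ∃ J' : Module.End F M₁, J' = J.restrict hJM₁ := ⟨_, rfl⟩
    have hJ'2 : J' * J' = δ • 1 := by
      apply LinearMap.ext
      intro x
      apply Subtype.ext
      rw [Module.End.mul_apply, hJ', LinearMap.restrict_coe_apply, LinearMap.restrict_coe_apply,
        hJ.1]
      rfl
    have hdet := congrArg LinearMap.det hJ'2
    rw [map_mul, LinearMap.det_smul, map_one, mul_one, hM₁fin] at hdet
    obtain ⟨k, hk'⟩ := hio
    rw [hk'] at hdet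
    have hδk : δ ^ k ≠ 0 := pow_ne_zero k hδ0
    have h7 : δ ^ (2 * k + 1) = δ ^ k * δ ^ k * δ := by ring
    apply hδ (LinearMap.det J' * (δ ^ k)⁻¹)
    rw [mul_mul_mul_comm, hdet, h7]
    field_simp

end Cases

end Cfsg.Agent.Lib.Helper2.Ukf
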