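import Mathlib
import Cfsg.Agent.Lib.Helper2.UkfD
import Cfsg.Agent.Lib.Helper2.SpImpD
set_option autoImplicit false
set_option maxHeartbeats 1000000
set_option linter.unusedVariables false
set_option linter.unusedSectionVars false
set_option linter.style.longLine false
set_option linter.unusedSimpArgs false
set_option linter.deprecated false
set_option linter.style.haveILetI false

/-! Elements of prime order of `PSp_n(q)` and subgroups of type `GU_{n/2}(q)` (part E):
the isometry group acting by conjugation on the skew-adjoint square roots of `δ`; gluing such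
operators along an orthogonal decomposition. -/

namespace Cfsg.Agent.Lib.Helper2.Ukf

open Module Polynomial

universe u v

section Act

variable {F : Type u} [Field F] {V : Type v} [AddCommGroup V] [Module F V] [FiniteDimensional F V]
variable (B : LinearMap.BilinForm F V)

/-- conjugation of an endomorphism by a linear automorphism -/
noncomputable def conjEnd (g : V ≃ₗ[F] V) (J : Module.End F V) : Module.End F V :=
  g.toLinearMap ∘ₗ J ∘ₗ (g⁻¹ : V ≃ₗ[F] V).toLinearMap

theorem conjEnd_apply (g : V ≃ₗ[F] V) (J : Module.End F V) (v : V) :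
    conjEnd g J v = g (J ((g⁻¹ : V ≃ₗ[F] V) v)) := rfl

theorem inv_apply_self (g : V ≃ₗ[F] V) (v : V) : (g⁻¹ : V ≃ₗ[F] V) (g v) = v :=
  g.symm_apply_apply v

theorem self_apply_inv (g : V ≃ₗ[F] V) (v : V) : g ((g⁻¹ : V ≃ₗ[F] V) v) = v :=
  g.apply_symm_apply v

theorem isJ_conj (δ : F) {g : V ≃ₗ[F] V} (hg : ∀ u v, B (g u) (g v) = B u v)
    {J : Module.End F V} (hJ : IsJ B δ J) : IsJ B δ (conjEnd g J) := by
  constructor
  · intro v
    rw [conjEnd_apply, conjEnd_apply, inv_apply_self, hJ.1, map_smul, self_apply_inv]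
  · intro u v
    rw [conjEnd_apply, conjEnd_apply]
    have h1 := hg (J ((g⁻¹ : V ≃ₗ[F] V) u)) ((g⁻¹ : V ≃ₗ[F] V) v)
    rw [self_apply_inv] at h1
    have h2 := hg ((g⁻¹ : V ≃ₗ[F] V) u) (J ((g⁻¹ : V ≃ₗ[F] V) v))
    rw [self_apply_inv] at h2
    rw [h1, h2, hJ.2]

/-- the isometry group acts by conjugation on the skew-adjoint square roots of `δ` -/
noncomputable def conjActionJ (δ : F) :
    MulAction (SpImp.isoGroup B) {J : Module.End F V // IsJ B δ J} where
  smul g J := ⟨conjEnd g.1 J.1, isJ_conj B δ g.2 J.2⟩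
  one_smul J := by
    apply Subtype.ext
    apply LinearMap.ext
    intro v
    show conjEnd (1 : V ≃ₗ[F] V) J.1 v = J.1 v
    rw [conjEnd_apply, inv_one]
    rfl
  mul_smul g h J := by
    apply Subtype.ext
    apply LinearMap.ext
    intro v
    show conjEnd (g.1 * h.1) J.1 v = conjEnd g.1 (conjEnd h.1 J.1) v
    rw [conjEnd_apply, conjEnd_apply, conjEnd_apply, mul_inv_rev]
    rfl

theorem smul_val (δ : F) (g : SpImp.isoGroup B) (J : {J : Module.End F V // IsJ B δ J}) :
    (letI := conjActionJ B δ; (g • J).1) = conjEnd g.1 J.1 := rfl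

theorem smul_eq_iff (δ : F) (g : SpImp.isoGroup B) (J : {J : Module.End F V // IsJ B δ J}) :
    (letI := conjActionJ B δ; g • J = J) ↔ ∀ v, g.1 (J.1 v) = J.1 (g.1 v) := by
  letI := conjActionJ B δ
  constructor
  · intro h v
    have h1 : (g • J).1 (g.1 v) = J.1 (g.1 v) := by rw [h]
    rw [smul_val, conjEnd_apply, inv_apply_self] at h1
    exact h1
  · intro h
    apply Subtype.ext
    apply LinearMap.ext
    intro v
    rw [smul_val, conjEnd_apply, h, self_apply_inv]

end Act

section Card

variable {F : Type u} [Field F] [Fintype F] {V : Type v} [AddCommGroup V] [Module F V]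
  [FiniteDimensional F V]
variable (B : LinearMap.BilinForm F V)

theorem finite_J (δ : F) : Finite {J : Module.End F V // IsJ B δ J} := by
  haveI : Finite V := Module.finite_of_finite F
  haveI : Finite (Module.End F V) :=
    Finite.of_injective (fun f : Module.End F V => (f : V → V)) DFunLike.coe_injective
  exact Subtype.finite

theorem exists_norm_form (hodd : Odd (Fintype.card F)) (δ : F) (hδ0 : δ ≠ 0) :
    ∀ t : F, ∃ a b : F, a * a - δ * (b * b) = t := by
  intro t
  have h2 : ringChar F ≠ 2 := ringChar_ne_two_of_odd hodd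
  obtain ⟨a, b, hab⟩ := FiniteField.exists_root_sum_quadratic
    (f := (X : F[X]) ^ 2 - C t) (g := - C δ * X ^ 2)
    (by rw [degree_X_pow_sub_C (by norm_num)]; rfl)
    (by
      rw [neg_mul, degree_neg, degree_C_mul_X_pow 2 hδ0]
      rfl)
    (by
      obtain ⟨k, hk⟩ := hodd
      omega)
  refine ⟨a, b, ?_⟩
  simp only [eval_sub, eval_pow, eval_X, eval_C, eval_mul, eval_neg] at hab
  linear_combination hab

/-- the number of skew-adjoint square roots of `δ` divides the order of the isometry group -/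
theorem card_J_dvd (hodd : Odd (Fintype.card F)) (δ : F) (hδ : ∀ e : F, e * e ≠ δ)
    (hA : B.IsAlt) (hB : B.Nondegenerate) :
    Nat.card {J : Module.End F V // IsJ B δ J} ∣ Nat.card (SpImp.isoGroup B) := by
  classical
  letI := conjActionJ B δ
  have hδ0 : δ ≠ 0 := by
    rintro rfl
    exact hδ 0 (mul_zero 0)
  have h2F := two_ne_zero_of_odd hodd
  have hnorm := exists_norm_form hodd δ hδ0
  obtain ⟨m, hm⟩ := SpImp.even_of_nd B hA hB _ ⊤ rfl (SpImp.nd_top B hA hB)
  rw [finrank_top, ← two_mul] at hm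
  obtain ⟨J₀, hJ₀⟩ := exists_J B hA hB δ
  have hset : MulAction.orbit (SpImp.isoGroup B) (⟨J₀, hJ₀⟩ : {J : Module.End F V // IsJ B δ J}) =
      Set.univ := by
    rw [Set.eq_univ_iff_forall]
    intro J
    obtain ⟨g, hg, hgJ⟩ := conj_J B h2F δ hδ0 hnorm hA hB m hm J₀ J.1 hJ₀ J.2
    refine ⟨⟨g, hg⟩, ?_⟩
    apply Subtype.ext
    apply LinearMap.ext
    intro v
    show conjEnd g J₀ v = J.1 v
    rw [conjEnd_apply, hgJ, self_apply_inv]
  have h1 : Nat.card (MulAction.orbit (SpImp.isoGroup B)
      (⟨J₀, hJ₀⟩ : {J : Module.End F V // IsJ B δ J})) =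
      Nat.card {J : Module.End F V // IsJ B δ J} := by
    rw [hset]
    exact Nat.card_congr (Equiv.Set.univ _)
  rw [← h1, Nat.card_congr (MulAction.orbitEquivQuotientStabilizer (SpImp.isoGroup B) _),
    Subgroup.card_eq_card_quotient_mul_card_subgroup (MulAction.stabilizer (SpImp.isoGroup B)
      (⟨J₀, hJ₀⟩ : {J : Module.End F V // IsJ B δ J}))]
  exact dvd_mul_right _ _

end Card

section Glue

variable {F : Type u} [Field F] {V : Type v} [AddCommGroup V] [Module F V] [FiniteDimensional F V]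
variable (B : LinearMap.BilinForm F V)

/-- skew-adjoint square roots of `δ` preserving `C` and equal to `± ρ` on `M` -/
def IsGlued (δ : F) (C M : Submodule F V) (ρ J : Module.End F V) : Prop :=
  IsJ B δ J ∧ (∀ c ∈ C, J c ∈ C) ∧ ((∀ m ∈ M, J m = ρ m) ∨ (∀ m ∈ M, J m = -ρ m))

theorem restrict_isJ (δ : F) (C : Submodule F V) (J : Module.End F V) (hJ : IsJ B δ J)
    (hC : ∀ c ∈ C, J c ∈ C) : IsJ (B.restrict C) δ (J.restrict hC) := by
  constructor
  · intro v
    apply Subtype.ext
    show J (J (v : V)) = δ • (v : V)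
    exact hJ.1 v
  · intro u v
    show B (J (u : V)) (v : V) = -B (u : V) (J (v : V))
    exact hJ.2 u v

theorem card_glued (h2F : (2 : F) ≠ 0) (δ : F) (hδ0 : δ ≠ 0) (hA : B.IsAlt)
    (C M : Submodule F V) (hCM : IsCompl C M) (horth : ∀ c ∈ C, ∀ m ∈ M, B c m = 0)
    (hM0 : M ≠ ⊥) (ρ : Module.End F V) (hρM : ∀ m ∈ M, ρ m ∈ M)
    (hρ2 : ∀ m ∈ M, ρ (ρ m) = δ • m) (hρs : ∀ u ∈ M, ∀ v ∈ M, B (ρ u) v = -B u (ρ v)) :
    Nat.card {J : Module.End F V // IsGlued B δ C M ρ J} =
      2 * Nat.card {J' : Module.End F C // IsJ (B.restrict C) δ J'} := by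
  classical
  have hdec : ∀ v : V, ∃ c ∈ C, ∃ m ∈ M, v = c + m := by
    intro v
    have hv : v ∈ C ⊔ M := by
      rw [hCM.sup_eq_top]
      exact Submodule.mem_top
    obtain ⟨c, hc, m, hm, rfl⟩ := Submodule.mem_sup.mp hv
    exact ⟨c, hc, m, hm, rfl⟩
  have hneg : ¬ (∀ m ∈ M, -ρ m = ρ m) := by
    intro h
    obtain ⟨m, hm, hm0⟩ := Submodule.exists_mem_ne_zero_of_ne_bot hM0
    apply hm0
    have h1 := h m hm
    have h2 : (2 : F) • ρ m = 0 := by
      rw [two_smul]
      nth_rewrite 1 [← h1]
      exact neg_add_cancel _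
    have h3 : ρ m = 0 := (smul_eq_zero.mp h2).resolve_left h2F
    have h4 := hρ2 m hm
    rw [h3, map_zero] at h4
    exact (smul_eq_zero.mp h4.symm).resolve_left hδ0
  obtain ⟨f, hf⟩ : ∃ f : {J : Module.End F V // IsGlued B δ C M ρ J} →
      Bool × {J' : Module.End F C // IsJ (B.restrict C) δ J'}, ∀ J, f J =
      (decide (∀ m ∈ M, J.1 m = ρ m),
        ⟨J.1.restrict J.2.2.1, restrict_isJ B δ C J.1 J.2.1 J.2.2.1⟩) := ⟨_, fun _ => rfl⟩
  have hbij : Function.Bijective f := by
    constructor
    · intro J J' hJJ'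
      rw [hf, hf] at hJJ'
      have h1 : decide (∀ m ∈ M, J.1 m = ρ m) = decide (∀ m ∈ M, J'.1 m = ρ m) :=
        congrArg Prod.fst hJJ'
      have h2 : J.1.restrict J.2.2.1 = J'.1.restrict J'.2.2.1 :=
        congrArg (fun x : Bool × {J' : Module.End F C // IsJ (B.restrict C) δ J'} => x.2.1) hJJ'
      have hC : ∀ c ∈ C, J.1 c = J'.1 c := by
        intro c hc
        have h3 : (((J.1.restrict J.2.2.1) ⟨c, hc⟩ : C) : V) =
            (((J'.1.restrict J'.2.2.1) ⟨c, hc⟩ : C) : V) := by rw [h2]
        exact h3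
      have hM : ∀ m ∈ M, J.1 m = J'.1 m := by
        have h1' : (∀ m ∈ M, J.1 m = ρ m) ↔ (∀ m ∈ M, J'.1 m = ρ m) := by
          constructor
          · intro h
            exact of_decide_eq_true (h1 ▸ decide_eq_true h)
          · intro h
            exact of_decide_eq_true (h1.symm ▸ decide_eq_true h)
        rcases J.2.2.2 with h | h
        · intro m hm
          rw [h m hm, (h1'.mp h) m hm]
        · have hn : ¬ (∀ m ∈ M, J.1 m = ρ m) := by
            intro h'
            apply hneg
            intro m hm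
            rw [← h m hm, h' m hm]
          have hn' : ¬ (∀ m ∈ M, J'.1 m = ρ m) := fun h' => hn (h1'.mpr h')
          rcases J'.2.2.2 with h' | h'
          · exact absurd h' hn'
          · intro m hm
            rw [h m hm, h' m hm]
      apply Subtype.ext
      apply LinearMap.ext
      intro v
      obtain ⟨c, hc, m, hm, rfl⟩ := hdec v
      rw [map_add, map_add, hC c hc, hM m hm]
    · rintro ⟨b, ⟨J', hJ'⟩⟩
      obtain ⟨s, hs⟩ : ∃ s : F, s = if b then 1 else -1 := ⟨_, rfl⟩
      have hss : s * s = 1 := by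
        rw [hs]
        split_ifs <;> ring
      obtain ⟨J, hJdef⟩ : ∃ J : Module.End F V, J =
          LinearMap.ofIsCompl hCM (C.subtype ∘ₗ J') ((s • ρ) ∘ₗ M.subtype) := ⟨_, rfl⟩
      have hJc : ∀ c (hc : c ∈ C), J c = (J' ⟨c, hc⟩ : V) := by
        intro c hc
        rw [hJdef]
        exact LinearMap.ofIsCompl_left_apply hCM ⟨c, hc⟩
      have hJm : ∀ m ∈ M, J m = s • ρ m := by
        intro m hm
        rw [hJdef]
        exact LinearMap.ofIsCompl_right_apply hCM ⟨m, hm⟩
      have hJC : ∀ c ∈ C, J c ∈ C := by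
        intro c hc
        rw [hJc c hc]
        exact (J' ⟨c, hc⟩).2
      have hJM : ∀ m ∈ M, J m ∈ M := by
        intro m hm
        rw [hJm m hm]
        exact M.smul_mem _ (hρM m hm)
      have horth' : ∀ m ∈ M, ∀ c ∈ C, B m c = 0 := by
        intro m hm c hc
        rw [← hA.neg_eq, horth c hc m hm, neg_zero]
      have hJ : IsJ B δ J := by
        constructor
        · intro v
          obtain ⟨c, hc, m, hm, rfl⟩ := hdec v
          have e1 : J (J c) = δ • c := by
            rw [hJc c hc, hJc _ (J' ⟨c, hc⟩).2]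
            have h3 := congrArg Subtype.val (hJ'.1 ⟨c, hc⟩)
            exact h3
          have e2 : J (J m) = δ • m := by
            rw [hJm m hm, map_smul, hJm _ (hρM m hm), hρ2 m hm, smul_smul, hss, one_smul]
          rw [map_add, map_add, e1, e2, smul_add]
        · intro u v
          obtain ⟨c₁, hc₁, m₁, hm₁, rfl⟩ := hdec u
          obtain ⟨c₂, hc₂, m₂, hm₂, rfl⟩ := hdec v
          have e1 : B (J c₁) c₂ = -B c₁ (J c₂) := by
            rw [hJc c₁ hc₁, hJc c₂ hc₂]
            exact hJ'.2 ⟨c₁, hc₁⟩ ⟨c₂, hc₂⟩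
          have e2 : B (J m₁) m₂ = -B m₁ (J m₂) := by
            rw [hJm m₁ hm₁, hJm m₂ hm₂, map_smul, LinearMap.smul_apply, map_smul,
              hρs m₁ hm₁ m₂ hm₂, smul_neg]
          have o1 := horth _ (hJC c₁ hc₁) m₂ hm₂
          have o2 := horth' _ (hJM m₁ hm₁) c₂ hc₂
          have o3 := horth c₁ hc₁ _ (hJM m₂ hm₂)
          have o4 := horth' m₁ hm₁ _ (hJC c₂ hc₂)
          simp only [map_add, LinearMap.add_apply]
          rw [e1, e2, o1, o2, o3, o4]
          ring
      have hdich : (∀ m ∈ M, J m = ρ m) ∨ (∀ m ∈ M, J m = -ρ m) := by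
        cases b
        · right
          intro m hm
          rw [hJm m hm, hs]
          simp
        · left
          intro m hm
          rw [hJm m hm, hs]
          simp
      refine ⟨⟨J, hJ, hJC, hdich⟩, ?_⟩
      rw [hf]
      apply Prod.ext
      · show decide (∀ m ∈ M, J m = ρ m) = b
        cases b
        · rw [decide_eq_false_iff_not]
          intro h
          apply hneg
          intro m hm
          have h5 := h m hm
          rw [hJm m hm, hs] at h5
          simpa using h5
        · rw [decide_eq_true_iff]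
          intro m hm
          rw [hJm m hm, hs]
          simp
      · apply Subtype.ext
        apply LinearMap.ext
        intro c
        apply Subtype.ext
        show J c = J' c
        exact hJc c.1 c.2
  rw [Nat.card_eq_of_bijective f hbij, Nat.card_prod, Nat.card_eq_fintype_card (α := Bool),
    Fintype.card_bool]

/-- for an isometry `y` of order `r` with irreducible moving part, the square roots commuting with
`y` are the glued ones -/
theorem glued_iff_comm (δ : F) (y : Module.End F V) (r : ℕ) (hrF : (r : F) ≠ 0) (hy : y ^ r = 1)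
    (ρ : Module.End F V) (hρy : ∀ v, y (ρ v) = ρ (y v))
    (hdich : ∀ J : Module.End F V, IsJ B δ J → (∀ v, y (J v) = J (y v)) →
      (∀ m ∈ LinearMap.ker (nrm y r), J m = ρ m) ∨ (∀ m ∈ LinearMap.ker (nrm y r), J m = -ρ m))
    (J : Module.End F V) :
    IsGlued B δ (LinearMap.ker (y - 1)) (LinearMap.ker (nrm y r)) ρ J ↔
      IsJ B δ J ∧ ∀ v, y (J v) = J (y v) := by
  constructor
  · rintro ⟨hJ, hC, hd⟩
    refine ⟨hJ, ?_⟩
    intro v
    have hv : v ∈ LinearMap.ker (y - 1) ⊔ LinearMap.ker (nrm y r) := by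
      rw [(isCompl_ker_nrm hrF hy).sup_eq_top]
      exact Submodule.mem_top
    obtain ⟨c, hc, m, hm, rfl⟩ := Submodule.mem_sup.mp hv
    have e1 : y (J c) = J (y c) := by
      rw [Elus.mem_ker_sub_one.mp (hC c hc), Elus.mem_ker_sub_one.mp hc]
    have e2 : y (J m) = J (y m) := by
      have hym := inv_ker_nrm y r m hm
      rcases hd with h | h
      · rw [h m hm, h _ hym, hρy]
      · rw [h m hm, h _ hym, map_neg, hρy]
    rw [map_add, map_add, map_add, map_add, e1, e2]
  · rintro ⟨hJ, hcomm⟩
    exact ⟨hJ, inv_ker_fix_of_comm hcomm, hdich J hJ hcomm⟩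

end Glue

end Cfsg.Agent.Lib.Helper2.Ukf
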