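import Mathlib
import Cfsg.Agent.Lib.Helper2.UkfE
set_option autoImplicit false
set_option maxHeartbeats 1000000
set_option linter.unusedVariables false
set_option linter.unusedSectionVars false
set_option linter.style.longLine false
set_option linter.unusedSimpArgs false
set_option linter.deprecated false
set_option linter.style.haveILetI false

/-! Elements of prime order of `PSp_n(q)` and subgroups of type `GU_{n/2}(q)` (part F):
when the order of `q` modulo `r` is twice an odd number, `r` does not divide the number of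
skew-adjoint square roots of a non-square `δ` (fixed-point recursion). -/

namespace Cfsg.Agent.Lib.Helper2.Ukf

open Module Polynomial

universe u v

section Main

variable {F : Type u} [Field F] [Fintype F]

theorem not_dvd_card_J {p : ℕ} [hp : Fact p.Prime] [CharP F p] (hodd : Odd (Fintype.card F))
    (δ : F) (hδ : ∀ e : F, e * e ≠ δ) (r : ℕ) [hr : Fact r.Prime] (hr2 : r ≠ 2) (hrp : r ≠ p)
    (m : ℕ) (hm : orderOf ((Fintype.card F : ℕ) : ZMod r) = m + m) (hmo : Odd m) :
    ∀ (n : ℕ) (V : Type v) [AddCommGroup V] [Module F V] [FiniteDimensional F V]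
      (B : LinearMap.BilinForm F V), B.IsAlt → B.Nondegenerate → finrank F V = n →
      ¬ r ∣ Nat.card {J : Module.End F V // IsJ B δ J} := by
  intro n
  induction n using Nat.strong_induction_on with
  | _ n ih =>
    intro V _ _ _ B hA hB hn hdvd
    classical
    obtain ⟨f₀, -, hf₀⟩ := FiniteField.card F p
    have hrq : ¬ r ∣ Fintype.card F := Elus.not_dvd_card_of_ne (F := F) r hrp
    have hrF : (r : F) ≠ 0 := natCast_ne_zero_of_ne r hrp
    have hr0 : 0 < r := hr.out.pos
    have h2F := two_ne_zero_of_odd hodd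
    have hδ0 : δ ≠ 0 := by
      rintro rfl
      exact hδ 0 (mul_zero 0)
    have hm0 : 0 < m := by
      obtain ⟨k, hk⟩ := hmo
      omega
    haveI := finite_J B δ
    letI := conjActionJ B δ
    have hdvdG : r ∣ Nat.card (SpImp.isoGroup B) :=
      dvd_trans hdvd (card_J_dvd B hodd δ hδ hA hB)
    obtain ⟨y₀, hy₀B, hy₀, hy₀1⟩ := SpImp.exists_order_r B r hdvdG
    have hie : Even (m + m) := ⟨m, rfl⟩
    obtain ⟨hcn, hall⟩ := SpImp.exists_iso_elt B hf₀ hA hB r hr2 hrp hrF hrq (m + m) (m + m)
      hm.symm (by rw [if_pos hie]) hy₀B hy₀ hy₀1 n hn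
    obtain ⟨y, hyB, hy, hyfin⟩ := hall 1 (by omega)
    rw [mul_one] at hyfin
    -- the group element
    obtain ⟨g, hg⟩ := SpImp.exists_equiv_of_pow hr0 hy
    have hgy : ∀ v, g v = y v := by
      intro v
      rw [← hg]
      rfl
    have hgiso : g ∈ SpImp.isoGroup B := by
      intro u v
      rw [hgy, hgy]
      exact hyB u v
    have hgr : g ^ r = 1 := by
      apply LinearEquiv.toLinearMap_injective
      rw [SpImp.coe_pow_equiv, hg, hy]
      rfl
    obtain ⟨g', hg'⟩ : ∃ g' : SpImp.isoGroup B, g' = ⟨g, hgiso⟩ := ⟨_, rfl⟩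
    have hg'r : g' ^ r = 1 := by
      rw [hg']
      apply Subtype.ext
      exact hgr
    have hPg : IsPGroup r (Subgroup.zpowers g') := by
      intro z
      refine ⟨1, ?_⟩
      obtain ⟨k, hk⟩ := Subgroup.mem_zpowers_iff.mp z.2
      apply Subtype.ext
      rw [pow_one, Subgroup.coe_pow, ← hk, ← zpow_natCast, ← zpow_mul, mul_comm, zpow_mul,
        zpow_natCast, hg'r, one_zpow]
      rfl
    have hmod := hPg.card_modEq_card_fixedPoints {J : Module.End F V // IsJ B δ J}
    have hdvdFix : r ∣ Nat.card (MulAction.fixedPoints (Subgroup.zpowers g')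
        {J : Module.End F V // IsJ B δ J}) := (hmod.dvd_iff dvd_rfl).mp hdvd
    -- the structure of `y`
    obtain ⟨M, hMdef⟩ : ∃ M : Submodule F V, M = LinearMap.ker (nrm y r) := ⟨_, rfl⟩
    have hfinM : finrank F M = m + m := by
      have h1 := finrank_ker_nrm hrF hy
      rw [hMdef]
      omega
    have hM0 : M ≠ ⊥ := by
      intro h
      rw [h, finrank_bot] at hfinM
      omega
    have hMi : Elus.Inv y M := by
      rw [hMdef]
      exact inv_ker_nrm y r
    have hMC : Disjoint M (LinearMap.ker (y - 1)) := by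
      rw [hMdef]
      exact disj_ker_nrm hrF
    have hmin : ∀ X : Submodule F V, X ≤ M → Elus.Inv y X → X = ⊥ ∨ X = M := by
      rw [hMdef]
      exact ker_nrm_minimal r hrF hrq y hy (by rw [hm, hn]; exact hyfin)
    obtain ⟨P, hP⟩ := exists_rho hodd δ hδ r (by rw [hm]; exact hie) y hy M hMi hM0 hmin hMC
    obtain ⟨ρ, hρdef⟩ : ∃ ρ : Module.End F V, ρ = aeval y P := ⟨_, rfl⟩
    have hρy : ∀ v, y (ρ v) = ρ (y v) := by
      intro v
      rw [hρdef]
      exact (SpImp.aeval_comm y P v).symm
    have hρM : Elus.Inv ρ M := by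
      rw [hρdef]
      exact SpImp.inv_aeval hMi P
    have hρ2 : ∀ v ∈ M, ρ (ρ v) = δ • v := by
      rw [hρdef]
      exact hP
    have hadj : ∀ u ∈ M, ∀ v, B u (ρ v) = -B (ρ u) v := by
      intro u hu v
      rw [hρdef, adj_rho B hodd δ hδ r hrq m hm y hyB hy M hMi P hP u hu v, hmo.neg_one_pow,
        neg_one_mul]
    have hρs : ∀ u ∈ M, ∀ v ∈ M, B (ρ u) v = -B u (ρ v) := by
      intro u hu v hv
      rw [hadj u hu v, neg_neg]
    have hdich : ∀ J : Module.End F V, IsJ B δ J → (∀ v, y (J v) = J (y v)) →
        (∀ m ∈ M, J m = ρ m) ∨ (∀ m ∈ M, J m = -ρ m) := by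
      intro J hJ hJy
      refine eq_or_neg_of_comm δ y M hmin ρ J hρy hJy hMi hρM ?_ ?_ hρ2 (fun v _ => hJ.1 v)
      · rw [hMdef]
        exact inv_ker_nrm_of_comm hJy r
      · intro v _
        rw [hρdef]
        exact (aeval_comm_of_comm hJy P v).symm
    -- counting the fixed points
    have hfixiff : ∀ J : {J : Module.End F V // IsJ B δ J},
        J ∈ MulAction.fixedPoints (Subgroup.zpowers g') {J : Module.End F V // IsJ B δ J} ↔
        ∀ v, y (J.1 v) = J.1 (y v) := by
      intro J
      have h1 : (g' • J = J) ↔ ∀ v, y (J.1 v) = J.1 (y v) := by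
        rw [smul_eq_iff B δ g' J, hg']
        constructor
        · intro h v
          have h2 := h v
          rw [hgy, hgy] at h2
          exact h2
        · intro h v
          rw [hgy, hgy]
          exact h v
      rw [← h1, MulAction.mem_fixedPoints]
      constructor
      · intro h
        exact h ⟨g', Subgroup.mem_zpowers g'⟩
      · intro h z
        have h3 : Subgroup.zpowers g' ≤ MulAction.stabilizer (SpImp.isoGroup B) J :=
          Subgroup.zpowers_le.mpr (MulAction.mem_stabilizer_iff.mpr h)
        exact MulAction.mem_stabilizer_iff.mp (h3 z.2)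
    have hcard1 : Nat.card (MulAction.fixedPoints (Subgroup.zpowers g')
        {J : Module.End F V // IsJ B δ J}) =
        Nat.card {J : Module.End F V // IsGlued B δ (LinearMap.ker (y - 1)) M ρ J} := by
      apply Nat.card_congr
      refine (Equiv.subtypeEquivRight hfixiff).trans
        ((Equiv.subtypeSubtypeEquivSubtypeInter (IsJ B δ)
          (fun J : Module.End F V => ∀ v, y (J v) = J (y v))).trans
          (Equiv.subtypeEquivRight ?_))
      intro J
      rw [hMdef]
      exact (glued_iff_comm B δ y r hrF hy ρ hρy (by rw [← hMdef]; exact hdich) J).symm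
    have hcard2 := card_glued B h2F δ hδ0 hA (LinearMap.ker (y - 1)) M
      (by rw [hMdef]; exact isCompl_ker_nrm hrF hy)
      (by rw [hMdef]; exact orth_ker_nrm B hrF hyB) hM0 ρ hρM hρ2 hρs
    rw [hcard1, hcard2] at hdvdFix
    have hcop : Nat.Coprime r 2 := (Nat.coprime_primes hr.out Nat.prime_two).mpr hr2
    have hdvdC := hcop.dvd_of_dvd_mul_left hdvdFix
    -- induction
    have hCnd : SpImp.ND B (LinearMap.ker (y - 1)) := by
      have h1 := SpImp.nd_fix B hA hyB hrF hy (SpImp.nd_top B hA hB)
        (fun x _ => Submodule.mem_top)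
      rwa [top_inf_eq] at h1
    have hCndg := LinearMap.BilinForm.nondegenerate_restrict_of_disjoint_orthogonal B hA.isRefl
      hCnd
    have hCalt : (B.restrict (LinearMap.ker (y - 1))).IsAlt := fun c => hA (c : V)
    have hCfin : finrank F (LinearMap.ker (y - 1)) < n := by omega
    exact ih _ hCfin (LinearMap.ker (y - 1)) (B.restrict (LinearMap.ker (y - 1))) hCalt hCndg rfl
      hdvdC

end Main

end Cfsg.Agent.Lib.Helper2.Ukf
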