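import Mathlib
import Cfsg.Prelude.Def_GeometricClasses
import Cfsg.Agent.Lib.Helper2.UkfF
import Cfsg.Agent.Lib.Helper2.UkfB
import Cfsg.Agent.Lib.Helper2.SpInvA
import Cfsg.Agent.Lib.Helper2.TspI
set_option autoImplicit false
set_option maxHeartbeats 1000000
set_option linter.unusedVariables false
set_option linter.unusedSectionVars false
set_option linter.style.longLine false
set_option linter.unusedSimpArgs false
set_option linter.deprecated false
set_option linter.style.haveILetI false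

/-! Elements of prime order of `PSp_n(q)` and subgroups of type `GU_{n/2}(q)` (part G):
the structure of a quadratic field subalgebra `K = F[J]`, `J² = δ`, and of its normalizer. -/

namespace Cfsg.Agent.Lib.Helper2.Ukf

open Module Cfsg Cfsg.Agent.Lib.Helper2.SpInv Cfsg.Agent.Lib.Helper5.SympBridge
  Cfsg.Agent.Lib.Helper5.SpCentres
open scoped Matrix MatrixGroups

universe u

section KStruct

variable {F : Type u} [Field F] {ι : Type} [Fintype ι] [DecidableEq ι]

/-- a generator `J` of a two-dimensional field subalgebra with `J² = δ` a non-square -/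
theorem exists_gen_sq [Nonempty ι] (h2F : (2 : F) ≠ 0) (K : Subalgebra F (Matrix ι ι F))
    (hK : Cfsg.Geo.IsFieldSubalgebra 2 K) :
    ∃ (Jm : Matrix ι ι F) (δ : F), Jm ∈ K ∧ Jm * Jm = δ • 1 ∧
      (∀ k ∈ K, ∃ α β : F, k = α • 1 + β • Jm) ∧ (∀ e : F, e * e ≠ δ) ∧
      (∀ c : F, Jm ≠ c • 1) := by
  classical
  have hfin : finrank F K = 2 := hK.finrank_eq
  -- a non-scalar element
  obtain ⟨J, hJ, hJns⟩ : ∃ J ∈ K, ∀ c : F, J ≠ c • (1 : Matrix ι ι F) := by
    by_contra hcon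
    push Not at hcon
    have hle : Subalgebra.toSubmodule K ≤ Submodule.span F {(1 : Matrix ι ι F)} := by
      intro x hx
      obtain ⟨c, hc⟩ := hcon x hx
      rw [hc]
      exact Submodule.smul_mem _ _ (Submodule.subset_span rfl)
    have h1 := Submodule.finrank_mono hle
    rw [Subalgebra.finrank_toSubmodule, hfin, finrank_span_singleton one_ne_zero] at h1
    omega
  haveI : Nontrivial K := Module.nontrivial_of_finrank_pos (R := F) (by rw [hfin]; norm_num)
  obtain ⟨Jk, hJk⟩ : ∃ Jk : K, (Jk : Matrix ι ι F) = J := ⟨⟨J, hJ⟩, rfl⟩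
  have hli : LinearIndependent F ![(1 : K), Jk] := by
    rw [LinearIndependent.pair_iff' one_ne_zero]
    intro a ha
    apply hJns a
    rw [← hJk, ← ha]
    rfl
  obtain ⟨c0, c1, -, -, -, -, hc⟩ := plane_coords (1 : K) Jk hli hfin
  have hcoe : ∀ u : K, (u : Matrix ι ι F) = c0 u • 1 + c1 u • J := by
    intro u
    have h1 := congrArg (fun x : K => (x : Matrix ι ι F)) (hc u)
    simp only [Subalgebra.coe_add, Subalgebra.coe_smul, Subalgebra.coe_one, hJk] at h1
    exact h1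
  obtain ⟨s, hs⟩ : ∃ s, s = c1 (Jk * Jk) := ⟨_, rfl⟩
  obtain ⟨t₀, ht₀⟩ : ∃ t₀, t₀ = c0 (Jk * Jk) := ⟨_, rfl⟩
  have hJJ : J * J = s • J + t₀ • 1 := by
    have h1 := hcoe (Jk * Jk)
    rw [Subalgebra.coe_mul, hJk, add_comm, ← hs, ← ht₀] at h1
    exact h1
  obtain ⟨Jm, hJm⟩ : ∃ Jm : Matrix ι ι F, Jm = J - (s / 2) • 1 := ⟨_, rfl⟩
  obtain ⟨δ, hδ⟩ : ∃ δ : F, δ = t₀ + s * s / 4 := ⟨_, rfl⟩
  have h4F : (4 : F) ≠ 0 := by
    have h : (4 : F) = 2 * 2 := by norm_num
    rw [h]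
    exact mul_ne_zero h2F h2F
  have hJmK : Jm ∈ K := by
    rw [hJm]
    exact K.sub_mem hJ (K.smul_mem K.one_mem _)
  have hJmns : ∀ c : F, Jm ≠ c • 1 := by
    intro c hc
    apply hJns (c + s / 2)
    rw [add_smul, ← hc, hJm, sub_add_cancel]
  have hJmJm : Jm * Jm = δ • 1 := by
    rw [hJm, sub_mul, mul_sub, mul_sub, smul_mul_assoc, one_mul, mul_smul_comm, mul_one,
      smul_mul_assoc, one_mul, hJJ, hδ]
    have h5 : s / 2 + s / 2 = s := by field_simp; ring
    have h6 : s / 2 * (s / 2) = s * s / 4 := by field_simp; ring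
    have h7 : s • J = (s / 2) • J + (s / 2) • J := by rw [← add_smul, h5]
    rw [smul_smul, h6, h7, add_smul]
    abel
  refine ⟨Jm, δ, hJmK, hJmJm, ?_, ?_, hJmns⟩
  · intro k hk
    have h1 := hcoe ⟨k, hk⟩
    obtain ⟨a, ha⟩ : ∃ a, a = c0 ⟨k, hk⟩ := ⟨_, rfl⟩
    obtain ⟨b, hb⟩ : ∃ b, b = c1 ⟨k, hk⟩ := ⟨_, rfl⟩
    rw [← ha, ← hb] at h1
    refine ⟨a + b * (s / 2), b, ?_⟩
    have h1' : k = a • 1 + b • J := h1
    rw [h1', hJm, smul_sub, add_smul, mul_smul]
    abel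
  · intro e he
    obtain ⟨A, hA⟩ : ∃ A : Matrix ι ι F, A = Jm - e • 1 := ⟨_, rfl⟩
    obtain ⟨B, hB⟩ : ∃ B : Matrix ι ι F, B = Jm + e • 1 := ⟨_, rfl⟩
    have hAK : A ∈ K := by
      rw [hA]
      exact K.sub_mem hJmK (K.smul_mem K.one_mem _)
    have hBK : B ∈ K := by
      rw [hB]
      exact K.add_mem hJmK (K.smul_mem K.one_mem _)
    have hAB : A * B = 0 := by
      rw [hA, hB, sub_mul, mul_add, mul_add, smul_mul_assoc, one_mul, mul_smul_comm, mul_one,
        smul_mul_assoc, one_mul, hJmJm, ← he, smul_smul]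
      abel
    have hA0 : A ≠ 0 := by
      rw [hA]
      exact sub_ne_zero.mpr (hJmns e)
    have hB0 : B ≠ 0 := by
      rw [hB]
      intro h
      apply hJmns (-e)
      rw [neg_smul]
      exact eq_neg_of_add_eq_zero_left h
    obtain ⟨y, hyK, hAy⟩ := hK.inv A hAK hA0
    have hyA : y * A = 1 := by rw [hK.comm y hyK A hAK, hAy]
    apply hB0
    calc B = (y * A) * B := by rw [hyA, one_mul]
      _ = 0 := by rw [mul_assoc, hAB, mul_zero]

variable (K : Subalgebra F (Matrix ι ι F)) (Jm : Matrix ι ι F)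

/-- the square roots of `δ` in `K` are `± J` -/
theorem sqrt_in_K [Nonempty ι] (h2F : (2 : F) ≠ 0) (δ : F) (hJJ : Jm * Jm = δ • 1)
    (hspan : ∀ k ∈ K, ∃ α β : F, k = α • 1 + β • Jm) (hδ : ∀ e : F, e * e ≠ δ)
    (hns : ∀ c : F, Jm ≠ c • 1) (k : Matrix ι ι F) (hk : k ∈ K) (hkk : k * k = δ • 1) :
    k = Jm ∨ k = -Jm := by
  obtain ⟨α, β, rfl⟩ := hspan k hk
  have hδ0 : δ ≠ 0 := by
    rintro rfl
    exact hδ 0 (mul_zero 0)
  have h1 : (α • (1 : Matrix ι ι F) + β • Jm) * (α • 1 + β • Jm) =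
      (α * α + β * β * δ) • 1 + (2 * α * β) • Jm := by
    simp only [add_mul, mul_add, smul_mul_assoc, mul_smul_comm, one_mul, mul_one, hJJ]
    module
  rw [h1] at hkk
  have h2 : (2 * α * β) • Jm = (δ - (α * α + β * β * δ)) • (1 : Matrix ι ι F) := by
    rw [sub_smul, ← hkk]
    abel
  have h3 : 2 * α * β = 0 := by
    by_contra hne
    apply hns ((2 * α * β)⁻¹ * (δ - (α * α + β * β * δ)))
    rw [mul_smul, ← h2, smul_smul, inv_mul_cancel₀ hne, one_smul]
  rw [h3, zero_smul] at h2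
  have h4 : δ - (α * α + β * β * δ) = 0 := by
    rcases smul_eq_zero.mp h2.symm with h | h
    · exact h
    · exact absurd h one_ne_zero
  rcases mul_eq_zero.mp h3 with h5 | h5
  · have hα : α = 0 := (mul_eq_zero.mp h5).resolve_left h2F
    subst hα
    have h6 : (β - 1) * (β + 1) = 0 := by
      have h7 : δ * ((β - 1) * (β + 1)) = 0 := by linear_combination -h4
      exact (mul_eq_zero.mp h7).resolve_left hδ0
    rcases mul_eq_zero.mp h6 with h8 | h8
    · left
      have hβ : β = 1 := by linear_combination h8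
      rw [hβ, zero_smul, zero_add, one_smul]
    · right
      have hβ : β = -1 := by linear_combination h8
      rw [hβ, zero_smul, zero_add, neg_smul, one_smul]
  · exfalso
    subst h5
    apply hδ α
    linear_combination -h4

/-- elements commuting or anticommuting with `J` normalize `K` -/
theorem mem_normalizer_J (hJ : Jm ∈ K) (hspan : ∀ k ∈ K, ∃ α β : F, k = α • 1 + β • Jm)
    (M : GL ι F)
    (h : (M : Matrix ι ι F) * Jm = Jm * (M : Matrix ι ι F) ∨
      (M : Matrix ι ι F) * Jm = -(Jm * (M : Matrix ι ι F))) :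
    M ∈ Cfsg.Geo.subalgebraNormalizer K := by
  obtain ⟨ε, hε, hM⟩ : ∃ ε : F, ε * ε = 1 ∧
      (M : Matrix ι ι F) * Jm = ε • (Jm * (M : Matrix ι ι F)) := by
    rcases h with h | h
    · exact ⟨1, one_mul 1, by rw [one_smul]; exact h⟩
    · exact ⟨-1, by ring, by rw [neg_smul, one_smul]; exact h⟩
  have hc1 : (M : Matrix ι ι F) * Jm * ((M⁻¹ : GL ι F) : Matrix ι ι F) = ε • Jm := by
    rw [hM, smul_mul_assoc, mul_assoc, Units.mul_inv, mul_one]
  have hc2 : ((M⁻¹ : GL ι F) : Matrix ι ι F) * Jm * (M : Matrix ι ι F) = ε • Jm := by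
    have h1 : Jm * (M : Matrix ι ι F) = ε • ((M : Matrix ι ι F) * Jm) := by
      rw [hM, smul_smul, hε, one_smul]
    rw [mul_assoc, h1, mul_smul_comm, ← mul_assoc, Units.inv_mul, one_mul]
  have conj1 : ∀ k ∈ K, (M : Matrix ι ι F) * k * ((M⁻¹ : GL ι F) : Matrix ι ι F) ∈ K := by
    intro k hk
    obtain ⟨α, β, rfl⟩ := hspan k hk
    have h1 : (M : Matrix ι ι F) * (α • 1 + β • Jm) * ((M⁻¹ : GL ι F) : Matrix ι ι F) =
        α • 1 + β • ((M : Matrix ι ι F) * Jm * ((M⁻¹ : GL ι F) : Matrix ι ι F)) := by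
      rw [mul_add, add_mul, mul_smul_comm, mul_one, smul_mul_assoc, Units.mul_inv,
        mul_smul_comm, smul_mul_assoc]
    rw [h1, hc1]
    exact K.add_mem (K.smul_mem K.one_mem _) (K.smul_mem (K.smul_mem hJ _) _)
  have conj2 : ∀ k ∈ K, ((M⁻¹ : GL ι F) : Matrix ι ι F) * k * (M : Matrix ι ι F) ∈ K := by
    intro k hk
    obtain ⟨α, β, rfl⟩ := hspan k hk
    have h1 : ((M⁻¹ : GL ι F) : Matrix ι ι F) * (α • 1 + β • Jm) * (M : Matrix ι ι F) =
        α • 1 + β • (((M⁻¹ : GL ι F) : Matrix ι ι F) * Jm * (M : Matrix ι ι F)) := by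
      rw [mul_add, add_mul, mul_smul_comm, mul_one, smul_mul_assoc, Units.inv_mul,
        mul_smul_comm, smul_mul_assoc]
    rw [h1, hc2]
    exact K.add_mem (K.smul_mem K.one_mem _) (K.smul_mem (K.smul_mem hJ _) _)
  show ∀ k : Matrix ι ι F, k ∈ K ↔ (M : Matrix ι ι F) * k *
      ((M⁻¹ : GL ι F) : Matrix ι ι F) ∈ K
  intro k
  constructor
  · exact conj1 k
  · intro hk
    have h3 := conj2 _ hk
    have h4 : ((M⁻¹ : GL ι F) : Matrix ι ι F) * ((M : Matrix ι ι F) * k *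
        ((M⁻¹ : GL ι F) : Matrix ι ι F)) * (M : Matrix ι ι F) = k := by
      calc ((M⁻¹ : GL ι F) : Matrix ι ι F) * ((M : Matrix ι ι F) * k *
          ((M⁻¹ : GL ι F) : Matrix ι ι F)) * (M : Matrix ι ι F)
          = (((M⁻¹ : GL ι F) : Matrix ι ι F) * (M : Matrix ι ι F)) * k *
          (((M⁻¹ : GL ι F) : Matrix ι ι F) * (M : Matrix ι ι F)) := by
            simp only [mul_assoc]
        _ = k := by rw [Units.inv_mul, one_mul, mul_one]
    rw [h4] at h3
    exact h3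

/-- elements of the normalizer commute or anticommute with `J` -/
theorem rel_of_mem_J [Nonempty ι] (h2F : (2 : F) ≠ 0) (δ : F) (hJ : Jm ∈ K)
    (hJJ : Jm * Jm = δ • 1) (hspan : ∀ k ∈ K, ∃ α β : F, k = α • 1 + β • Jm)
    (hδ : ∀ e : F, e * e ≠ δ) (hns : ∀ c : F, Jm ≠ c • 1) (M : GL ι F)
    (hM : M ∈ Cfsg.Geo.subalgebraNormalizer K) :
    (M : Matrix ι ι F) * Jm = Jm * (M : Matrix ι ι F) ∨
      (M : Matrix ι ι F) * Jm = -(Jm * (M : Matrix ι ι F)) := by
  have hM' : ∀ k : Matrix ι ι F, k ∈ K ↔ (M : Matrix ι ι F) * k *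
      ((M⁻¹ : GL ι F) : Matrix ι ι F) ∈ K := hM
  obtain ⟨j, hj⟩ : ∃ j : Matrix ι ι F, j = (M : Matrix ι ι F) * Jm *
      ((M⁻¹ : GL ι F) : Matrix ι ι F) := ⟨_, rfl⟩
  have hjK : j ∈ K := by
    rw [hj]
    exact (hM' Jm).mp hJ
  have hjM : j * (M : Matrix ι ι F) = (M : Matrix ι ι F) * Jm := by
    rw [hj, mul_assoc, Units.inv_mul, mul_one]
  have hjj : j * j = δ • 1 := by
    have h1 : j * j = (M : Matrix ι ι F) * (Jm * Jm) * ((M⁻¹ : GL ι F) : Matrix ι ι F) := by
      rw [hj]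
      calc (M : Matrix ι ι F) * Jm * ((M⁻¹ : GL ι F) : Matrix ι ι F) *
          ((M : Matrix ι ι F) * Jm * ((M⁻¹ : GL ι F) : Matrix ι ι F))
          = (M : Matrix ι ι F) * Jm * (((M⁻¹ : GL ι F) : Matrix ι ι F) *
          (M : Matrix ι ι F)) * Jm * ((M⁻¹ : GL ι F) : Matrix ι ι F) := by
            simp only [mul_assoc]
        _ = _ := by
            rw [Units.inv_mul, mul_one]
            simp only [mul_assoc]
    rw [h1, hJJ, mul_smul_comm, mul_one, smul_mul_assoc, Units.mul_inv]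
  rcases sqrt_in_K K Jm h2F δ hJJ hspan hδ hns j hjK hjj with h | h
  · left
    rw [← hjM, h]
  · right
    rw [← hjM, h, neg_mul]

/-- elements of the normalizer with an odd power scalar commute with `J` -/
theorem comm_of_mem_odd [Nonempty ι] (h2F : (2 : F) ≠ 0) (δ : F) (hJ : Jm ∈ K)
    (hJJ : Jm * Jm = δ • 1) (hspan : ∀ k ∈ K, ∃ α β : F, k = α • 1 + β • Jm)
    (hδ : ∀ e : F, e * e ≠ δ) (hns : ∀ c : F, Jm ≠ c • 1) (M : GL ι F)
    (hM : M ∈ Cfsg.Geo.subalgebraNormalizer K) (r : ℕ) (hr : Odd r) (z : F)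
    (hMr : ((M ^ r : GL ι F) : Matrix ι ι F) = z • 1) :
    (M : Matrix ι ι F) * Jm = Jm * (M : Matrix ι ι F) := by
  rcases rel_of_mem_J K Jm h2F δ hJ hJJ hspan hδ hns M hM with h | h
  · exact h
  · exfalso
    have hpow : ∀ n : ℕ, (M : Matrix ι ι F) ^ n * Jm = (-1 : F) ^ n • (Jm * (M : Matrix ι ι F) ^ n) := by
      intro n
      induction n with
      | zero => rw [pow_zero, pow_zero, one_mul, mul_one, one_smul]
      | succ n ih =>
        rw [pow_succ, mul_assoc, h, mul_neg, ← mul_assoc, ih, smul_mul_assoc, mul_assoc,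
          pow_succ (-1 : F), mul_smul, neg_one_smul, smul_neg]
    have h1 := hpow r
    rw [hr.neg_one_pow, ← Units.val_pow_eq_pow_val, hMr, smul_mul_assoc, one_mul,
      mul_smul_comm, mul_one, neg_one_smul] at h1
    have hz0 : z ≠ 0 := by
      rintro rfl
      rw [zero_smul] at hMr
      have h2 : IsUnit ((M ^ r : GL ι F) : Matrix ι ι F) := (M ^ r).isUnit
      rw [hMr] at h2
      exact not_isUnit_zero h2
    have h3 : (2 * z) • Jm = 0 := by
      rw [mul_smul, two_smul]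
      nth_rewrite 1 [h1]
      exact neg_add_cancel _
    rcases smul_eq_zero.mp h3 with h4 | h4
    · exact (mul_ne_zero h2F hz0) h4
    · apply hns 0
      rw [h4, zero_smul]

end KStruct

section Form

variable {F : Type u} [Field F] {d : ℕ}

theorem toLin'_sq_apply (Jm : Matrix (Fin d ⊕ Fin d) (Fin d ⊕ Fin d) F) (δ : F)
    (hJJ : Jm * Jm = δ • 1) (v : Fin d ⊕ Fin d → F) :
    Matrix.toLin' Jm (Matrix.toLin' Jm v) = δ • v := by
  rw [← LinearMap.comp_apply, ← Matrix.toLin'_mul, hJJ, Matrix.toLin'_apply, Matrix.smul_mulVec,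
    Matrix.one_mulVec]

/-- the generator of `K` is skew-adjoint when `K` is adjoint-closed but not self-adjoint -/
theorem isJ_of_K [Nonempty (Fin d ⊕ Fin d)] (h2F : (2 : F) ≠ 0)
    (K : Subalgebra F (Matrix (Fin d ⊕ Fin d) (Fin d ⊕ Fin d) F))
    (Jm : Matrix (Fin d ⊕ Fin d) (Fin d ⊕ Fin d) F) (δ : F) (hJ : Jm ∈ K)
    (hJJ : Jm * Jm = δ • 1) (hspan : ∀ k ∈ K, ∃ α β : F, k = α • 1 + β • Jm)
    (hδ : ∀ e : F, e * e ≠ δ) (hns : ∀ c : F, Jm ≠ c • 1)
    (hKf : Cfsg.Geo.IsAdjointClosedFor (Cfsg.sympForm d F) K)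
    (hKns : ¬ Cfsg.Geo.IsSelfAdjointFor (Cfsg.sympForm d F) K) :
    IsJ (sympBilin F d) δ (Matrix.toLin' Jm) := by
  have hB := sympBilin_nondegenerate (F := F) (m := d)
  refine ⟨toLin'_sq_apply Jm δ hJJ, ?_⟩
  obtain ⟨k', hk'K, hk'⟩ := hKf Jm hJ
  have hk'B : ∀ u v, sympBilin F d (Jm *ᵥ u) v = sympBilin F d u (k' *ᵥ v) := fun u v => hk' u v
  have hk'2 : k' * k' = δ • 1 := by
    apply Matrix.toLin'.injective
    apply LinearMap.ext
    intro v
    rw [Matrix.toLin'_apply, Matrix.toLin'_apply, Matrix.smul_mulVec, Matrix.one_mulVec]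
    rw [← sub_eq_zero]
    apply hB.2
    intro u
    have h1 : Jm *ᵥ (Jm *ᵥ u) = δ • u := by
      have h2 := toLin'_sq_apply Jm δ hJJ u
      rw [Matrix.toLin'_apply, Matrix.toLin'_apply] at h2
      exact h2
    rw [map_sub, ← Matrix.mulVec_mulVec, ← hk'B, ← hk'B, h1, map_smul, map_smul,
      LinearMap.smul_apply, sub_self]
  rcases sqrt_in_K K Jm h2F δ hJJ hspan hδ hns k' hk'K hk'2 with h | h
  · exfalso
    apply hKns
    intro k hk u v
    obtain ⟨α, β, rfl⟩ := hspan k hk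
    show sympBilin F d ((α • 1 + β • Jm) *ᵥ u) v = sympBilin F d u ((α • 1 + β • Jm) *ᵥ v)
    rw [Matrix.add_mulVec, Matrix.add_mulVec, Matrix.smul_mulVec, Matrix.smul_mulVec,
      Matrix.smul_mulVec, Matrix.smul_mulVec, Matrix.one_mulVec, Matrix.one_mulVec, map_add,
      map_add, LinearMap.add_apply, map_smul, map_smul, map_smul, map_smul, LinearMap.smul_apply,
      LinearMap.smul_apply, hk'B, h]
  · intro u v
    rw [Matrix.toLin'_apply, Matrix.toLin'_apply, hk'B, h, Matrix.neg_mulVec, map_neg]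

end Form

section Index

variable {F : Type u} [Field F] {d : ℕ}

/-- the linear automorphism of an invertible matrix -/
noncomputable def glEquiv (g : GL (Fin d ⊕ Fin d) F) :
    (Fin d ⊕ Fin d → F) ≃ₗ[F] (Fin d ⊕ Fin d → F) :=
  LinearEquiv.ofLinear (Matrix.toLin' (g : Matrix (Fin d ⊕ Fin d) (Fin d ⊕ Fin d) F))
    (Matrix.toLin' ((g⁻¹ : GL (Fin d ⊕ Fin d) F) : Matrix (Fin d ⊕ Fin d) (Fin d ⊕ Fin d) F))
    (by rw [← Matrix.toLin'_mul, Units.mul_inv, Matrix.toLin'_one])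
    (by rw [← Matrix.toLin'_mul, Units.inv_mul, Matrix.toLin'_one])

theorem glEquiv_apply (g : GL (Fin d ⊕ Fin d) F) (v : Fin d ⊕ Fin d → F) :
    glEquiv g v = (g : Matrix (Fin d ⊕ Fin d) (Fin d ⊕ Fin d) F) *ᵥ v := by
  show Matrix.toLin' (g : Matrix (Fin d ⊕ Fin d) (Fin d ⊕ Fin d) F) v = _
  rw [Matrix.toLin'_apply]

theorem glEquiv_mul (g h : GL (Fin d ⊕ Fin d) F) : glEquiv (g * h) = glEquiv g * glEquiv h := by
  apply LinearEquiv.ext
  intro v
  rw [LinearEquiv.mul_apply, glEquiv_apply, glEquiv_apply, glEquiv_apply, Units.val_mul,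
    Matrix.mulVec_mulVec]

theorem glEquiv_one : glEquiv (1 : GL (Fin d ⊕ Fin d) F) = 1 := by
  apply LinearEquiv.ext
  intro v
  rw [glEquiv_apply, Units.val_one, Matrix.one_mulVec]
  rfl

/-- the symplectic matrix group maps to the isometry group of the symplectic form -/
noncomputable def spHom : ↥(spGL d F) →* ↥(SpImp.isoGroup (sympBilin F d)) where
  toFun g := ⟨glEquiv g.1, by
    intro u v
    rw [glEquiv_apply, glEquiv_apply]
    exact (mem_spGL_iff d g.1).mp g.2 u v⟩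
  map_one' := Subtype.ext glEquiv_one
  map_mul' g h := Subtype.ext (glEquiv_mul g.1 h.1)

theorem spHom_apply (g : ↥(spGL d F)) (v : Fin d ⊕ Fin d → F) :
    (spHom g).1 v = (g.1 : Matrix (Fin d ⊕ Fin d) (Fin d ⊕ Fin d) F) *ᵥ v := glEquiv_apply g.1 v

variable [Fintype F]

/-- the index of the normalizer of `K` in the symplectic group divides the number of
skew-adjoint square roots of `δ` -/
theorem relIndex_dvd_card_J [Nonempty (Fin d ⊕ Fin d)] (hodd : Odd (Fintype.card F))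
    (K : Subalgebra F (Matrix (Fin d ⊕ Fin d) (Fin d ⊕ Fin d) F))
    (Jm : Matrix (Fin d ⊕ Fin d) (Fin d ⊕ Fin d) F) (δ : F) (hJ : Jm ∈ K)
    (hspan : ∀ k ∈ K, ∃ α β : F, k = α • 1 + β • Jm) (hδ : ∀ e : F, e * e ≠ δ)
    (hIsJ : IsJ (sympBilin F d) δ (Matrix.toLin' Jm)) :
    (Cfsg.Geo.subalgebraNormalizer K).relIndex (spGL d F) ∣
      Nat.card {J : Module.End F (Fin d ⊕ Fin d → F) // IsJ (sympBilin F d) δ J} := by
  classical
  have hA := sympBilin_isAlt (F := F) (m := d)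
  have hB := sympBilin_nondegenerate (F := F) (m := d)
  have h2F := two_ne_zero_of_odd hodd
  have hδ0 : δ ≠ 0 := by
    rintro rfl
    exact hδ 0 (mul_zero 0)
  have hnorm := exists_norm_form hodd δ hδ0
  have hfinV : finrank F (Fin d ⊕ Fin d → F) = 2 * d := by
    rw [Module.finrank_fintype_fun_eq_card, Fintype.card_sum, Fintype.card_fin]
    ring
  letI act0 := conjActionJ (sympBilin F d) δ
  letI act : MulAction ↥(spGL d F)
      {J : Module.End F (Fin d ⊕ Fin d → F) // IsJ (sympBilin F d) δ J} :=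
    MulAction.compHom _ (spHom (F := F) (d := d))
  obtain ⟨J₀, hJ₀⟩ : ∃ J₀ : {J : Module.End F (Fin d ⊕ Fin d → F) // IsJ (sympBilin F d) δ J},
      J₀ = ⟨Matrix.toLin' Jm, hIsJ⟩ := ⟨_, rfl⟩
  have hsmul : ∀ (g : ↥(spGL d F))
      (J : {J : Module.End F (Fin d ⊕ Fin d → F) // IsJ (sympBilin F d) δ J}),
      g • J = spHom g • J := fun g J => rfl
  have hstab : MulAction.stabilizer ↥(spGL d F) J₀ ≤
      (Cfsg.Geo.subalgebraNormalizer K).subgroupOf (spGL d F) := by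
    intro g hg
    rw [MulAction.mem_stabilizer_iff, hsmul, smul_eq_iff] at hg
    rw [Subgroup.mem_subgroupOf]
    apply mem_normalizer_J K Jm hJ hspan
    left
    apply Matrix.toLin'.injective
    apply LinearMap.ext
    intro v
    have h1 := hg v
    rw [hJ₀, spHom_apply, spHom_apply] at h1
    simp only [] at h1
    rw [Matrix.toLin'_mul, Matrix.toLin'_mul, LinearMap.comp_apply, LinearMap.comp_apply,
      Matrix.toLin'_apply (g.1 : Matrix (Fin d ⊕ Fin d) (Fin d ⊕ Fin d) F),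
      Matrix.toLin'_apply (g.1 : Matrix (Fin d ⊕ Fin d) (Fin d ⊕ Fin d) F)]
    exact h1
  have htrans : MulAction.orbit ↥(spGL d F) J₀ = Set.univ := by
    rw [Set.eq_univ_iff_forall]
    intro J
    obtain ⟨γ, hγ, hγJ⟩ := conj_J (sympBilin F d) h2F δ hδ0 hnorm hA hB d hfinV
      (Matrix.toLin' Jm) J.1 hIsJ J.2
    obtain ⟨A, hAγ⟩ := exists_spGL_of_isometry d γ (fun u v => hγ u v)
    refine ⟨A, ?_⟩
    show A • J₀ = J
    rw [hsmul]
    have hAγ' : (spHom A).1 = γ := by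
      apply LinearEquiv.ext
      intro v
      rw [spHom_apply, hAγ]
    apply Subtype.ext
    apply LinearMap.ext
    intro v
    rw [smul_val, conjEnd_apply, hAγ', hJ₀]
    simp only []
    rw [hγJ, self_apply_inv]
  have h1 : (MulAction.stabilizer ↥(spGL d F) J₀).index =
      Nat.card {J : Module.End F (Fin d ⊕ Fin d → F) // IsJ (sympBilin F d) δ J} := by
    rw [Subgroup.index, ← Nat.card_congr (MulAction.orbitEquivQuotientStabilizer ↥(spGL d F) J₀),
      htrans]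
    exact Nat.card_congr (Equiv.Set.univ _)
  rw [← h1]
  exact Subgroup.index_dvd_of_le hstab

end Index

end Cfsg.Agent.Lib.Helper2.Ukf
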