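import Mathlib
import Cfsg.Agent.Lib.Helper2.FexB
import Cfsg.Agent.Lib.Helper2.UkfG
set_option autoImplicit false
set_option maxHeartbeats 1000000
set_option linter.unusedVariables false
set_option linter.unusedSectionVars false
set_option linter.style.longLine false
set_option linter.unusedSimpArgs false
set_option linter.deprecated false
set_option linter.style.haveILetI false

/-! Field-extension subgroups of symplectic groups (part C): coordinates over `E` from the normal
form, and the embedding of the symplectic group over `E` into the centralizer of `E` in the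
isometry group over `F`. -/

namespace Cfsg.Agent.Lib.Helper2.Fex

open Module Cfsg Cfsg.Agent.Lib.Helper2 Cfsg.Agent.Lib.Helper5.SympBridge
  Cfsg.Agent.Lib.Helper5.SympTv Cfsg.Agent.Lib.Helper5.SpCentres
open scoped Matrix MatrixGroups

universe u v w

section Coord

variable {F : Type u} [Field F] {E : Type w} [Field E] [Algebra F E] [FiniteDimensional F E]
  {V : Type v} [AddCommGroup V] [Module F V] [FiniteDimensional F V]
variable (B : LinearMap.BilinForm F V) (ι : E →ₐ[F] Module.End F V) {t : ℕ}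

/-- coordinates over `E` -/
noncomputable def beta (u w : Fin t → V) : ((Fin t ⊕ Fin t) → E) →ₗ[F] V :=
  ∑ i : Fin t, (orb ι (w i) ∘ₗ (LinearMap.proj (Sum.inl i) : ((Fin t ⊕ Fin t) → E) →ₗ[F] E) +
    orb ι (u i) ∘ₗ (LinearMap.proj (Sum.inr i) : ((Fin t ⊕ Fin t) → E) →ₗ[F] E))

theorem beta_apply (u w : Fin t → V) (x : (Fin t ⊕ Fin t) → E) :
    beta ι u w x = ∑ i : Fin t, (ι (x (Sum.inl i)) (w i) + ι (x (Sum.inr i)) (u i)) := by
  unfold beta
  rw [LinearMap.sum_apply]
  rfl

theorem beta_smul (u w : Fin t → V) (c : E) (x : (Fin t ⊕ Fin t) → E) :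
    beta ι u w (c • x) = ι c (beta ι u w x) := by
  rw [beta_apply, beta_apply, map_sum]
  apply Finset.sum_congr rfl
  intro i _
  rw [map_add, Pi.smul_apply, Pi.smul_apply, smul_eq_mul, smul_eq_mul, iota_mul_apply,
    iota_mul_apply]

variable {B ι}

/-- the form in coordinates -/
theorem beta_form (hA : B.IsAlt) (lam : E →ₗ[F] F) (u w : Fin t → V)
    (q1 : ∀ j l a a', B (ι a (u j)) (ι a' (w l)) = if j = l then lam (a * a') else 0)
    (q2 : ∀ j l a a', B (ι a (u j)) (ι a' (u l)) = 0)
    (q3 : ∀ j l a a', B (ι a (w j)) (ι a' (w l)) = 0) (x y : (Fin t ⊕ Fin t) → E) :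
    B (beta ι u w x) (beta ι u w y) = lam (sympForm t E x y) := by
  classical
  have q1' : ∀ j l a a', B (ι a' (w l)) (ι a (u j)) = if j = l then -lam (a * a') else 0 := by
    intro j l a a'
    rw [← hA.neg_eq, q1]
    split_ifs
    · rfl
    · rw [neg_zero]
  rw [beta_apply, beta_apply, Tsp.sympForm_sum', map_sum lam]
  simp only [map_sum, LinearMap.sum_apply]
  rw [Finset.sum_comm]
  apply Finset.sum_congr rfl
  intro i _
  have h1 : ∀ l : Fin t, B (ι (x (Sum.inl i)) (w i) + ι (x (Sum.inr i)) (u i))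
      (ι (y (Sum.inl l)) (w l) + ι (y (Sum.inr l)) (u l)) =
      if i = l then lam (x (Sum.inr i) * y (Sum.inl i) - x (Sum.inl i) * y (Sum.inr i))
      else 0 := by
    intro l
    simp only [map_add, LinearMap.add_apply]
    rw [q3, q2, q1, q1']
    by_cases hil : i = l
    · have hli : l = i := hil.symm
      rw [if_pos hil, if_pos hli, if_pos hil, map_sub, hil, mul_comm (x (Sum.inl l))]
      ring
    · have hli : ¬ l = i := fun hc => hil hc.symm
      rw [if_neg hil, if_neg hli, if_neg hil]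
      ring
  rw [Finset.sum_congr rfl (fun l _ => h1 l), Finset.sum_ite_eq Finset.univ i,
    if_pos (Finset.mem_univ i)]

theorem beta_injective (hA : B.IsAlt) {lam : E →ₗ[F] F} (hlam : lam ≠ 0) (u w : Fin t → V)
    (q1 : ∀ j l a a', B (ι a (u j)) (ι a' (w l)) = if j = l then lam (a * a') else 0)
    (q2 : ∀ j l a a', B (ι a (u j)) (ι a' (u l)) = 0)
    (q3 : ∀ j l a a', B (ι a (w j)) (ι a' (w l)) = 0) : Function.Injective (beta ι u w) := by
  rw [← LinearMap.ker_eq_bot, LinearMap.ker_eq_bot']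
  intro x hx
  apply (sympBilin_nondegenerate (F := E) (m := t)).1 x
  intro y
  rw [sympBilin_apply]
  apply lam_mul_eq_zero hlam
  intro c
  rw [mul_comm, ← sympForm_smul_right, ← beta_form hA lam u w q1 q2 q3, hx, map_zero,
    LinearMap.zero_apply]

end Coord

section Emb

variable {F : Type u} [Field F] {E : Type w} [Field E] [Algebra F E] [FiniteDimensional F E]
  {V : Type v} [AddCommGroup V] [Module F V] [FiniteDimensional F V]
variable {B : LinearMap.BilinForm F V} {ι : E →ₐ[F] Module.End F V} {t : ℕ}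

/-- the symplectic group over `E` embeds in the centralizer of `E` in the isometry group of `B` -/
theorem exists_embedding (hA : B.IsAlt) (hB : B.Nondegenerate) (h : IsSA B ι)
    (hfin : finrank F V = 2 * finrank F E * t) :
    ∃ T : ↥(spGL t E) →* (V ≃ₗ[F] V), Function.Injective T ∧
      (∀ A x y, B (T A x) (T A y) = B x y) ∧ ∀ A c v, T A (ι c v) = ι c (T A v) := by
  classical
  obtain ⟨lam, hlam⟩ := exists_functional_ne_zero (F := F) (E := E)
  have hkpos : 0 < finrank F E := Module.finrank_pos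
  obtain ⟨t', u, w, ht', -, -, q1, q2, q3⟩ := exists_family hA hB h hlam _ ⊤ rfl
    (SpImp.nd_top B hA hB) (fun _ _ _ => Submodule.mem_top)
  rw [finrank_top, hfin] at ht'
  have htt : t' = t := by
    have h1 : 2 * finrank F E * t = 2 * finrank F E * t' := ht'
    exact (Nat.eq_of_mul_eq_mul_left (by omega) h1).symm
  subst htt
  have hinj := beta_injective hA hlam u w q1 q2 q3
  have hform := beta_form hA lam u w q1 q2 q3
  have hdim : finrank F ((Fin t' ⊕ Fin t') → E) = finrank F V := by
    rw [Module.finrank_pi_fintype, Finset.sum_const, Finset.card_univ, Fintype.card_sum,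
      Fintype.card_fin, hfin, smul_eq_mul]
    ring
  obtain ⟨βe, hβe⟩ : ∃ βe : ((Fin t' ⊕ Fin t') → E) ≃ₗ[F] V, ∀ x, βe x = beta ι u w x :=
    ⟨LinearEquiv.ofInjectiveOfFinrankEq (beta ι u w) hinj hdim, fun x => rfl⟩
  have hβsmul : ∀ (c : E) x, βe (c • x) = ι c (βe x) := by
    intro c x
    rw [hβe, hβe, beta_smul]
  have hβsymm : ∀ (c : E) v, βe.symm (ι c v) = c • βe.symm v := by
    intro c v
    apply βe.injective
    rw [hβsmul, LinearEquiv.apply_symm_apply, LinearEquiv.apply_symm_apply]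
  obtain ⟨Tf, hTf⟩ : ∃ Tf : ↥(spGL t' E) → (V ≃ₗ[F] V), ∀ A v, Tf A v =
      βe ((A.1 : Matrix (Fin t' ⊕ Fin t') (Fin t' ⊕ Fin t') E) *ᵥ βe.symm v) :=
    ⟨fun A => βe.symm.trans (((Ukf.glEquiv A.1).restrictScalars F).trans βe), fun A v => by
      show βe (Ukf.glEquiv A.1 (βe.symm v)) = _
      rw [Ukf.glEquiv_apply]⟩
  have hT1 : Tf 1 = 1 := by
    apply LinearEquiv.ext
    intro v
    rw [hTf]
    show βe ((1 : Matrix (Fin t' ⊕ Fin t') (Fin t' ⊕ Fin t') E) *ᵥ βe.symm v) = v
    rw [Matrix.one_mulVec, LinearEquiv.apply_symm_apply]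
  have hTmul : ∀ A A' : ↥(spGL t' E), Tf (A * A') = Tf A * Tf A' := by
    intro A A'
    apply LinearEquiv.ext
    intro v
    rw [LinearEquiv.mul_apply, hTf, hTf, hTf, LinearEquiv.symm_apply_apply, Matrix.mulVec_mulVec]
    rfl
  refine ⟨{ toFun := Tf, map_one' := hT1, map_mul' := hTmul }, ?_, ?_, ?_⟩
  · intro A A' hAA'
    have h1 : ∀ x : (Fin t' ⊕ Fin t') → E,
        (A.1 : Matrix (Fin t' ⊕ Fin t') (Fin t' ⊕ Fin t') E) *ᵥ x =
        (A'.1 : Matrix (Fin t' ⊕ Fin t') (Fin t' ⊕ Fin t') E) *ᵥ x := by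
      intro x
      have h2 : Tf A (βe x) = Tf A' (βe x) := by
        have h3 : Tf A = Tf A' := hAA'
        rw [h3]
      rw [hTf, hTf, LinearEquiv.symm_apply_apply] at h2
      exact βe.injective h2
    apply Subtype.ext
    apply Units.ext
    apply Matrix.toLin'.injective
    apply LinearMap.ext
    intro x
    rw [Matrix.toLin'_apply, Matrix.toLin'_apply]
    exact h1 x
  · intro A x y
    show B (Tf A x) (Tf A y) = B x y
    rw [hTf, hTf, hβe, hβe, hform, (mem_spGL_iff t' A.1).mp A.2, ← hform, ← hβe, ← hβe,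
      LinearEquiv.apply_symm_apply, LinearEquiv.apply_symm_apply]
  · intro A c v
    show Tf A (ι c v) = ι c (Tf A v)
    rw [hTf, hTf, hβsymm, Matrix.mulVec_smul, hβsmul]

end Emb

end Cfsg.Agent.Lib.Helper2.Fex
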