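import Mathlib
import Cfsg.Prelude.Def_ClassicalGeometry
import Cfsg.Prelude.Def_GeometricClasses
import Cfsg.Agent.Lib.Helper5.SympCard
import Cfsg.Agent.Lib.Helper5.SpCentres
import Cfsg.Agent.Lib.Helper2.FexC

set_option autoImplicit false
set_option maxHeartbeats 1000000
set_option linter.unusedVariables false
set_option linter.unusedSectionVars false
set_option linter.style.longLine false
set_option linter.unusedSimpArgs false
set_option linter.deprecated false
set_option linter.style.haveILetI false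

/-! Field extension subgroups of symplectic groups: orders and the index. -/

namespace Cfsg.Agent.Lib.Helper2.Fex

open Module Cfsg Cfsg.Agent.Lib.Helper2 Cfsg.Agent.Lib.Helper5.SympBridge
  Cfsg.Agent.Lib.Helper5.SympTv Cfsg.Agent.Lib.Helper5.SpCentres
open scoped Matrix MatrixGroups

section Card

variable {F : Type*} [Field F] [Fintype F]

/-- the order of the symplectic group -/
theorem card_spGL (m : ℕ) :
    Nat.card ↥(spGL m F) =
      Fintype.card F ^ (m ^ 2) * ∏ i ∈ Finset.range m, (Fintype.card F ^ (2 * (i + 1)) - 1) := by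
  classical
  rw [← Cfsg.Agent.Lib.Helper5.SympCard.card_symplecticGroup (F := F) m]
  symm
  have hmem : ∀ A : Matrix.symplecticGroup (Fin m) F,
      Cfsg.Agent.Lib.Helper5.SpCentres.toGL A ∈ spGL m F := by
    intro A
    rw [Cfsg.Agent.Lib.Helper5.SpCentres.mem_spGL_iff]
    exact (Cfsg.Agent.Lib.Helper5.SympBridge.mem_symplectic_iff m A.1).mp A.2
  apply Nat.card_eq_of_bijective
    (fun A : Matrix.symplecticGroup (Fin m) F =>
      (⟨Cfsg.Agent.Lib.Helper5.SpCentres.toGL A, hmem A⟩ : ↥(spGL m F)))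
  constructor
  · intro A A' hAA
    have h1 := congrArg (fun g : ↥(spGL m F) =>
      ((g : Matrix.GeneralLinearGroup (Fin m ⊕ Fin m) F) :
        Matrix (Fin m ⊕ Fin m) (Fin m ⊕ Fin m) F)) hAA
    exact Subtype.ext h1
  · intro g
    have hA : ((g : Matrix.GeneralLinearGroup (Fin m ⊕ Fin m) F) :
        Matrix (Fin m ⊕ Fin m) (Fin m ⊕ Fin m) F) ∈ Matrix.symplecticGroup (Fin m) F :=
      (Cfsg.Agent.Lib.Helper5.SympBridge.mem_symplectic_iff m _).mpr
        ((Cfsg.Agent.Lib.Helper5.SpCentres.mem_spGL_iff m g.1).mp g.2)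
    refine ⟨⟨_, hA⟩, ?_⟩
    apply Subtype.ext
    exact Units.ext rfl

end Card

section Arith

/-- reindexing the multiples of `k` -/
theorem prod_filter_mul (q k t : ℕ) (hk : 0 < k) :
    ∏ i ∈ (Finset.range (k * t)).filter (fun i => k ∣ i + 1), (q ^ (2 * (i + 1)) - 1) =
      ∏ i ∈ Finset.range t, ((q ^ k) ^ (2 * (i + 1)) - 1) := by
  apply Finset.prod_nbij' (fun i => (i + 1) / k - 1) (fun i => k * (i + 1) - 1)
  · intro i hi
    rw [Finset.mem_filter, Finset.mem_range] at hi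
    obtain ⟨m, hm⟩ := hi.2
    rw [Finset.mem_range, hm, Nat.mul_div_cancel_left _ hk]
    have h1 : k * m ≤ k * t := by omega
    have h2 : m ≤ t := Nat.le_of_mul_le_mul_left h1 hk
    have h3 : m ≠ 0 := by
      rintro rfl
      omega
    omega
  · intro i hi
    rw [Finset.mem_range] at hi
    rw [Finset.mem_filter, Finset.mem_range]
    have h1 : k * (i + 1) ≤ k * t := Nat.mul_le_mul_left k hi
    have h2 : 1 ≤ k * (i + 1) := Nat.mul_pos hk (by omega)
    refine ⟨by omega, ?_⟩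
    rw [Nat.sub_add_cancel h2]
    exact dvd_mul_right _ _
  · intro i hi
    rw [Finset.mem_filter, Finset.mem_range] at hi
    obtain ⟨m, hm⟩ := hi.2
    have h3 : m ≠ 0 := by
      rintro rfl
      omega
    rw [hm, Nat.mul_div_cancel_left _ hk, Nat.sub_add_cancel (by omega), ← hm]
    omega
  · intro i hi
    have h2 : 1 ≤ k * (i + 1) := Nat.mul_pos hk (by omega)
    rw [Nat.sub_add_cancel h2, Nat.mul_div_cancel_left _ hk]
    omega
  · intro i hi
    rw [Finset.mem_filter, Finset.mem_range] at hi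
    obtain ⟨m, hm⟩ := hi.2
    have h3 : m ≠ 0 := by
      rintro rfl
      omega
    rw [hm, Nat.mul_div_cancel_left _ hk, Nat.sub_add_cancel (by omega), ← pow_mul]
    congr 2
    ring

/-- the arithmetic of the index of `Sp_{2t}(q^k)` in `Sp_{2kt}(q)` -/
theorem index_arith (q k t r : ℕ) (hq : 2 ≤ q) (hk : 0 < k) (hr : r.Prime) (hrq : ¬ r ∣ q)
    (hj : ∀ j, 1 ≤ j → j ≤ k * t → r ∣ q ^ (2 * j) - 1 → k ∣ j) (s : ℕ)
    (h : r * ((q ^ k) ^ (t ^ 2) * ∏ i ∈ Finset.range t, ((q ^ k) ^ (2 * (i + 1)) - 1)) * s =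
      q ^ ((k * t) ^ 2) * ∏ i ∈ Finset.range (k * t), (q ^ (2 * (i + 1)) - 1)) : False := by
  classical
  rw [← Finset.prod_filter_mul_prod_filter_not (Finset.range (k * t)) (fun i => k ∣ i + 1),
    prod_filter_mul q k t hk] at h
  have hpos : 0 < ∏ i ∈ Finset.range t, ((q ^ k) ^ (2 * (i + 1)) - 1) := by
    apply Finset.prod_pos
    intro i hi
    have h1 : 2 ≤ q ^ k := by
      calc 2 ≤ q := hq
        _ = q ^ 1 := (pow_one q).symm
        _ ≤ q ^ k := Nat.pow_le_pow_right (by omega) hk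
    have h2 : 2 ≤ (q ^ k) ^ (2 * (i + 1)) := by
      calc 2 ≤ q ^ k := h1
        _ = (q ^ k) ^ 1 := (pow_one _).symm
        _ ≤ (q ^ k) ^ (2 * (i + 1)) := Nat.pow_le_pow_right (by omega) (by omega)
    omega
  have h' : (∏ i ∈ Finset.range t, ((q ^ k) ^ (2 * (i + 1)) - 1)) * (r * (q ^ k) ^ (t ^ 2) * s) =
      (∏ i ∈ Finset.range t, ((q ^ k) ^ (2 * (i + 1)) - 1)) *
        (q ^ ((k * t) ^ 2) * ∏ i ∈ (Finset.range (k * t)).filter (fun i => ¬ k ∣ i + 1),
          (q ^ (2 * (i + 1)) - 1)) := by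
    rw [← mul_assoc _ (q ^ ((k * t) ^ 2)), mul_comm _ (q ^ ((k * t) ^ 2)), mul_assoc (q ^ ((k * t) ^ 2)),
      ← h]
    ring
  have h2 := Nat.eq_of_mul_eq_mul_left hpos h'
  have h3 : r ∣ q ^ ((k * t) ^ 2) * ∏ i ∈ (Finset.range (k * t)).filter (fun i => ¬ k ∣ i + 1),
      (q ^ (2 * (i + 1)) - 1) := by
    rw [← h2, mul_assoc]
    exact dvd_mul_right _ _
  rcases (Nat.Prime.dvd_mul hr).mp h3 with h4 | h4
  · exact hrq (hr.dvd_of_dvd_pow h4)
  · obtain ⟨i, hi, hri⟩ := (Prime.dvd_finsetProd_iff hr.prime _).mp h4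
    rw [Finset.mem_filter, Finset.mem_range] at hi
    exact hi.2 (hj (i + 1) (by omega) (by omega) hri)

/-- `r ∣ q^(2j) - 1` forces `k ∣ j` when `2k` divides the dimension of the moving space -/
theorem dvd_of_dvd_pow_sub_one (q k r i c j : ℕ) (hr : r.Prime) (hq : 1 ≤ q)
    (hi : i = orderOf ((q : ℕ) : ZMod r)) (hc : c = if Even i then i else 2 * i)
    (hkc : 2 * k ∣ c) (h : r ∣ q ^ (2 * j) - 1) : k ∣ j := by
  have h1 : ((q ^ (2 * j) - 1 : ℕ) : ZMod r) = 0 := (ZMod.natCast_eq_zero_iff _ _).mpr h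
  have h0 : 1 ≤ q ^ (2 * j) := Nat.one_le_pow _ _ hq
  rw [Nat.cast_sub h0, Nat.cast_pow, Nat.cast_one, sub_eq_zero] at h1
  have h2 : i ∣ 2 * j := by
    rw [hi]
    exact orderOf_dvd_iff_pow_eq_one.mpr h1
  have h3 : c ∣ 2 * j := by
    by_cases he : Even i
    · rw [hc, if_pos he]
      exact h2
    · rw [hc, if_neg he]
      have hodd : Odd i := Nat.not_even_iff_odd.mp he
      have hcop : Nat.Coprime i 2 := Nat.coprime_two_right.mpr hodd
      have h4 : i ∣ j := hcop.dvd_of_dvd_mul_left h2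
      exact Nat.mul_dvd_mul_left 2 h4
  have h5 : 2 * k ∣ 2 * j := dvd_trans hkc h3
  exact (Nat.mul_dvd_mul_iff_left (by norm_num)).mp h5

end Arith

section Index

variable {F : Type*} [Field F] {n : Type*} [Fintype n] [DecidableEq n]

/-- linear automorphisms as invertible matrices -/
noncomputable def toGLm : ((n → F) ≃ₗ[F] (n → F)) ≃* GL n F :=
  (LinearMap.GeneralLinearGroup.generalLinearEquiv F (n → F)).symm.trans
    Matrix.GeneralLinearGroup.toLin.symm

theorem toGLm_mulVec (g : (n → F) ≃ₗ[F] (n → F)) (v : n → F) :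
    ((toGLm g : GL n F) : Matrix n n F) *ᵥ v = g v := by
  have h1 : LinearMap.GeneralLinearGroup.generalLinearEquiv F (n → F)
      (Matrix.GeneralLinearGroup.toLin (toGLm g)) = g := by
    unfold toGLm
    rw [MulEquiv.trans_apply, MulEquiv.apply_symm_apply, MulEquiv.apply_symm_apply]
  conv_rhs => rw [← h1]
  rw [LinearMap.GeneralLinearGroup.coeFn_generalLinearEquiv,
    Matrix.GeneralLinearGroup.toLin_apply, Matrix.mulVecLin_apply]

/-- the symplectic group over `E` embeds in every subgroup containing the centralizer of `E`, so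
its order times the index divides the order of the symplectic group -/
theorem relIndex_mul_card_dvd {F : Type*} [Field F] (d : ℕ)
    (N : Subgroup (GL (Fin d ⊕ Fin d) F)) {E : Type*} [Field E] [Algebra F E]
    [FiniteDimensional F E] (t : ℕ) (ι : E →ₐ[F] Module.End F (Fin d ⊕ Fin d → F))
    (hSA : IsSA (sympBilin F d) ι) (hfin : 2 * d = 2 * finrank F E * t)
    (hN : ∀ g : GL (Fin d ⊕ Fin d) F,
      (∀ a v, (g : Matrix (Fin d ⊕ Fin d) (Fin d ⊕ Fin d) F) *ᵥ (ι a v) =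
        ι a ((g : Matrix (Fin d ⊕ Fin d) (Fin d ⊕ Fin d) F) *ᵥ v)) → g ∈ N) :
    N.relIndex (spGL d F) * Nat.card ↥(spGL t E) ∣ Nat.card ↥(spGL d F) := by
  classical
  have hA := sympBilin_isAlt (F := F) (m := d)
  have hB := sympBilin_nondegenerate (F := F) (m := d)
  have hfinV : finrank F (Fin d ⊕ Fin d → F) = 2 * finrank F E * t := by
    rw [Module.finrank_fintype_fun_eq_card, Fintype.card_sum, Fintype.card_fin]
    omega
  obtain ⟨T, hTinj, hTiso, hTcomm⟩ := exists_embedding hA hB hSA hfinV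
  obtain ⟨Φ, hΦdef⟩ : ∃ Φ : ↥(spGL t E) →* GL (Fin d ⊕ Fin d) F,
      Φ = (toGLm (F := F) (n := Fin d ⊕ Fin d)).toMonoidHom.comp T := ⟨_, rfl⟩
  have hΦ : ∀ A v, ((Φ A : GL (Fin d ⊕ Fin d) F) :
      Matrix (Fin d ⊕ Fin d) (Fin d ⊕ Fin d) F) *ᵥ v = T A v := by
    intro A v
    rw [hΦdef]
    exact toGLm_mulVec (T A) v
  have hΦinj : Function.Injective Φ := by
    rw [hΦdef]
    exact (toGLm (F := F) (n := Fin d ⊕ Fin d)).injective.comp hTinj
  have hΦSp : ∀ A, Φ A ∈ spGL d F := by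
    intro A
    rw [mem_spGL_iff]
    intro u v
    rw [hΦ, hΦ]
    exact hTiso A u v
  have hΦN : ∀ A, Φ A ∈ N := by
    intro A
    apply hN
    intro a v
    rw [hΦ, hΦ]
    exact hTcomm A a v
  obtain ⟨Ψ₁, hΨ₁def⟩ : ∃ Ψ₁ : ↥(spGL t E) →* ↥(spGL d F),
      Ψ₁ = Φ.codRestrict (spGL d F) hΦSp := ⟨_, rfl⟩
  have hΨ₁v : ∀ A, ((Ψ₁ A : ↥(spGL d F)) : GL (Fin d ⊕ Fin d) F) = Φ A := by
    intro A
    rw [hΨ₁def]
    rfl
  have hΨ₁ : ∀ A, Ψ₁ A ∈ N.subgroupOf (spGL d F) := by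
    intro A
    rw [Subgroup.mem_subgroupOf, hΨ₁v]
    exact hΦN A
  obtain ⟨Ψ, hΨdef⟩ : ∃ Ψ : ↥(spGL t E) →* ↥(N.subgroupOf (spGL d F)),
      Ψ = Ψ₁.codRestrict _ hΨ₁ := ⟨_, rfl⟩
  have hΨv : ∀ A, ((Ψ A : ↥(N.subgroupOf (spGL d F))) : ↥(spGL d F)) = Ψ₁ A := by
    intro A
    rw [hΨdef]
    rfl
  have hΨinj : Function.Injective Ψ := by
    intro A A' h
    apply hΦinj
    rw [← hΨ₁v, ← hΨ₁v, ← hΨv, ← hΨv, h]
  have h1 := Subgroup.card_dvd_of_injective Ψ hΨinj
  have h2 := Subgroup.index_mul_card (N.subgroupOf (spGL d F))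
  rw [Subgroup.relIndex, ← h2]
  exact Nat.mul_dvd_mul_left _ h1

end Index

end Cfsg.Agent.Lib.Helper2.Fex
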