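import Mathlib
import Cfsg.Prelude.Def_GeometricClasses
import Cfsg.Agent.Lib.Helper2.UkfG
import Cfsg.Agent.Lib.Helper2.TspF
set_option autoImplicit false
set_option maxHeartbeats 1000000
set_option linter.unusedVariables false
set_option linter.unusedSectionVars false
set_option linter.style.longLine false
set_option linter.unusedSimpArgs false
set_option linter.deprecated false
set_option linter.style.haveILetI false

/-! Elements of prime order of `PSp_n(q)` and subgroups of type `GU_{n/2}(q)` (part H):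
necessity and sufficiency of `r = 2`. -/

namespace Cfsg.Agent.Lib.Helper2.Ukf

open Module Cfsg Cfsg.Agent.Lib.Helper2.SpInv Cfsg.Agent.Lib.Helper5.SympBridge
  Cfsg.Agent.Lib.Helper5.SpCentres Cfsg.Agent.Lib.Helper2.Tsp Cfsg.Agent.Lib.Helper2.Tns
open scoped Matrix MatrixGroups

universe u

section Suff

variable {F : Type u} [Field F] [Fintype F]

theorem sufficiency_ukf (hodd : Odd (Fintype.card F)) (d : ℕ) (hd : 1 ≤ d)
    (K : Subalgebra F (Matrix (Fin d ⊕ Fin d) (Fin d ⊕ Fin d) F))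
    (hK : Cfsg.Geo.IsFieldSubalgebra 2 K)
    (hKf : Cfsg.Geo.IsAdjointClosedFor (Cfsg.sympForm d F) K)
    (hKns : ¬ Cfsg.Geo.IsSelfAdjointFor (Cfsg.sympForm d F) K)
    (x : GL (Fin d ⊕ Fin d) F) (hx : x ∈ spGL d F) (z : F)
    (hxz : ((x ^ 2 : GL (Fin d ⊕ Fin d) F) : Matrix (Fin d ⊕ Fin d) (Fin d ⊕ Fin d) F) =
      z • (1 : Matrix (Fin d ⊕ Fin d) (Fin d ⊕ Fin d) F)) :
    ∃ g ∈ spGL d F, g⁻¹ * x * g ∈ Cfsg.Geo.subalgebraNormalizer K := by
  classical
  have hcard : Fintype.card F % 2 = 1 := Nat.odd_iff.mp hodd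
  have h2F : (2 : F) ≠ 0 := two_ne_zero_of_odd hodd
  have hA := sympBilin_isAlt (F := F) (m := d)
  have hB := sympBilin_nondegenerate (F := F) (m := d)
  haveI : Nonempty (Fin d ⊕ Fin d) := ⟨Sum.inl ⟨0, hd⟩⟩
  obtain ⟨Jm, δ, hJ, hJJ, hspan, hδ, hns⟩ := exists_gen_sq h2F K hK
  have hIsJ := isJ_of_K h2F K Jm δ hJ hJJ hspan hδ hns hKf hKns
  have hδ0 : δ ≠ 0 := by
    rintro rfl
    exact hδ 0 (mul_zero 0)
  have hnorm := exists_norm_form hodd δ hδ0
  obtain ⟨T, hTdef⟩ : ∃ T : Module.End F (Fin d ⊕ Fin d → F), T = Matrix.toLin'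
      (x : Matrix (Fin d ⊕ Fin d) (Fin d ⊕ Fin d) F) := ⟨_, rfl⟩
  have hiso : SpImp.IsIsom (sympBilin F d) T := by
    rw [hTdef]
    exact isIsom_of_mem x hx
  have hT2 : ∀ v, T (T v) = z • v := by
    intro v
    rw [hTdef, ← LinearMap.comp_apply, ← Matrix.toLin'_mul, ← pow_two, ← Units.val_pow_eq_pow_val,
      hxz, Matrix.toLin'_apply, Matrix.smul_mulVec, Matrix.one_mulVec]
  have hzz : z * z = 1 := by
    apply SpImp.scalar_sq (sympBilin F d) hB z
    intro u v
    rw [LinearMap.smul_apply, LinearMap.smul_apply, Module.End.one_apply, Module.End.one_apply,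
      ← hT2, ← hT2, hiso, hiso]
  have hfinV : finrank F (Fin d ⊕ Fin d → F) = 2 * d := by
    rw [Module.finrank_fintype_fun_eq_card, Fintype.card_sum, Fintype.card_fin]
    ring
  have hz : z = 1 ∨ z = -1 := by
    have h1 : (z - 1) * (z + 1) = 0 := by linear_combination hzz
    rcases mul_eq_zero.mp h1 with h | h
    · left
      linear_combination h
    · right
      linear_combination h
  -- the final step, common to both cases
  have hfinal : ∀ (Y : Module.End F (Fin d ⊕ Fin d → F)), SpImp.IsIsom (sympBilin F d) Y →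
      ((∀ v, Y (Matrix.toLin' Jm v) = Matrix.toLin' Jm (Y v)) ∨
        (∀ v, Y (Matrix.toLin' Jm v) = -Matrix.toLin' Jm (Y v))) →
      (∃ γ : (Fin d ⊕ Fin d → F) ≃ₗ[F] (Fin d ⊕ Fin d → F),
        (∀ u v, sympBilin F d (γ u) (γ v) = sympBilin F d u v) ∧ ∀ v, γ (Y v) = T (γ v)) →
      ∃ g ∈ spGL d F, g⁻¹ * x * g ∈ Cfsg.Geo.subalgebraNormalizer K := by
    intro Y hisoY hYJ hγe
    obtain ⟨γ, hγ, hγc⟩ := hγe
    obtain ⟨y₂, hy₂, hy₂Y⟩ := exists_spgl_of_isom d Y hisoY
    obtain ⟨g, hg, hgx⟩ := conj_of_isom x y₂ γ hγ (by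
      intro v
      have h1 := hγc v
      rw [hTdef, ← hy₂Y] at h1
      exact h1)
    refine ⟨g, hg, ?_⟩
    rw [hgx]
    apply mem_normalizer_J K Jm hJ hspan
    rcases hYJ with h | h
    · left
      apply Matrix.toLin'.injective
      apply LinearMap.ext
      intro v
      rw [Matrix.toLin'_mul, Matrix.toLin'_mul, LinearMap.comp_apply, LinearMap.comp_apply,
        hy₂Y]
      exact h v
    · right
      apply Matrix.toLin'.injective
      apply LinearMap.ext
      intro v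
      rw [map_neg, LinearMap.neg_apply, Matrix.toLin'_mul, Matrix.toLin'_mul,
        LinearMap.comp_apply, LinearMap.comp_apply, hy₂Y]
      exact h v
  rcases hz with rfl | rfl
  · -- involutions
    have hT2' : ∀ v, T (T v) = v := by
      intro v
      rw [hT2, one_smul]
    obtain ⟨-, -, -, hC⟩ := invol_data (sympBilin F d) h2F hA hB T hiso hT2'
    obtain ⟨s, hs⟩ := SpImp.even_of_nd (sympBilin F d) hA hB _ _ rfl hC
    have hsd : s ≤ d := by
      have h1 := Submodule.finrank_le (LinearMap.ker (T + (1 : F) • 1))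
      rw [hfinV] at h1
      omega
    obtain ⟨Y, hisoY, hY2, hYJ, hYk⟩ := exists_invol_J (sympBilin F d) h2F δ hδ0 hnorm hA hB d
      hfinV (Matrix.toLin' Jm) hIsJ s hsd
    have hdim : finrank F (LinearMap.ker (Y + (1 : F) • 1)) =
        finrank F (LinearMap.ker (T + (1 : F) • 1)) := by
      rw [hYk, hs]
      ring
    exact hfinal Y hisoY (Or.inl hYJ)
      (conj_invol (sympBilin F d) h2F hA hB Y T hisoY hY2 hiso hT2' hdim)
  · -- square `-1`
    have hT2' : ∀ v, T (T v) = -v := by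
      intro v
      rw [hT2, neg_one_smul]
    obtain ⟨Y, hisoY, hY2, hYJ⟩ := exists_semi_J (sympBilin F d) h2F δ hδ0 hnorm hA hB d
      hfinV (Matrix.toLin' Jm) hIsJ
    exact hfinal Y hisoY (Or.inr hYJ)
      (conj_neg_one (sympBilin F d) h2F (exists_sq_add_sq hcard) hA hB d hfinV Y T hisoY hY2
        hiso hT2')

end Suff

section Nec

variable {F : Type u} [Field F] [Fintype F]

theorem nonscalar_of_ss {V : Type*} [AddCommGroup V] [Module F V] [FiniteDimensional F V]
    [Nontrivial V] (r : ℕ) [hr : Fact r.Prime] (y : Module.End F V) (hy : y ^ r = 1) (c : ℕ)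
    (hc0 : 0 < c) (hk : finrank F (LinearMap.ker (y - 1)) + c = finrank F V)
    (hcase : c < finrank F V ∨ ¬ r ∣ Fintype.card F - 1) : ∀ c' : F, y ≠ c' • 1 := by
  intro c' hc'
  have h1 : c' ^ r = 1 := by
    have h0 : (c' • (1 : Module.End F V)) ^ r = c' ^ r • 1 := by rw [smul_pow, one_pow]
    rw [← hc', hy] at h0
    have h00 : (1 : F) • (1 : Module.End F V) = c' ^ r • 1 := by
      rw [one_smul]
      exact h0
    exact (SpImp.smul_one_inj' h00).symm
  by_cases hc1 : c' = 1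
  · rw [hc1, one_smul] at hc'
    rw [hc', sub_self, LinearMap.ker_zero, finrank_top] at hk
    omega
  · have hker : LinearMap.ker (y - 1) = ⊥ := by
      rw [eq_bot_iff]
      intro v hv
      rw [LinearMap.mem_ker, hc', LinearMap.sub_apply, LinearMap.smul_apply,
        Module.End.one_apply] at hv
      have hv' : (c' - 1) • v = 0 := by
        rw [sub_smul, one_smul]
        exact hv
      rcases smul_eq_zero.mp hv' with h | h
      · exact absurd (sub_eq_zero.mp h) hc1
      · exact (Submodule.mem_bot F).mpr h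
    rw [hker, finrank_bot, zero_add] at hk
    rcases hcase with h | h
    · omega
    · exact hc1 (Elus.eq_one_of_pow r h c' h1)

theorem necessity_ukf {p : ℕ} [hp : Fact p.Prime] [CharP F p] (hodd : Odd (Fintype.card F))
    (d : ℕ) (hd : 2 ≤ d) (K : Subalgebra F (Matrix (Fin d ⊕ Fin d) (Fin d ⊕ Fin d) F))
    (hK : Cfsg.Geo.IsFieldSubalgebra 2 K)
    (hKf : Cfsg.Geo.IsAdjointClosedFor (Cfsg.sympForm d F) K)
    (hKns : ¬ Cfsg.Geo.IsSelfAdjointFor (Cfsg.sympForm d F) K) (r : ℕ) [hr : Fact r.Prime]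
    (hΩ : r ∣ (Cfsg.Geo.subalgebraNormalizer K).relIndex (Cfsg.spGL d F))
    (hall : ∀ x ∈ Cfsg.spGL d F,
      (∃ z : F, ((x ^ r : GL (Fin d ⊕ Fin d) F) : Matrix (Fin d ⊕ Fin d) (Fin d ⊕ Fin d) F) =
        z • (1 : Matrix (Fin d ⊕ Fin d) (Fin d ⊕ Fin d) F)) →
      (∀ z : F, (x : Matrix (Fin d ⊕ Fin d) (Fin d ⊕ Fin d) F) ≠
        z • (1 : Matrix (Fin d ⊕ Fin d) (Fin d ⊕ Fin d) F)) →
      ∃ g ∈ Cfsg.spGL d F, g⁻¹ * x * g ∈ Cfsg.Geo.subalgebraNormalizer K) : r = 2 := by
  classical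
  by_contra hr2
  have hrodd : Odd r := hr.out.odd_of_ne_two hr2
  have h2F : (2 : F) ≠ 0 := two_ne_zero_of_odd hodd
  have hA := sympBilin_isAlt (F := F) (m := d)
  have hB := sympBilin_nondegenerate (F := F) (m := d)
  haveI : Nonempty (Fin d ⊕ Fin d) := ⟨Sum.inl ⟨0, by omega⟩⟩
  obtain ⟨Jm, δ, hJ, hJJ, hspan, hδ, hns⟩ := exists_gen_sq h2F K hK
  have hIsJ := isJ_of_K h2F K Jm δ hJ hJJ hspan hδ hns hKf hKns
  have hfinV : finrank F (Fin d ⊕ Fin d → F) = 2 * d := by
    rw [Module.finrank_fintype_fun_eq_card, Fintype.card_sum, Fintype.card_fin]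
    ring
  have hsm : ∀ c : F, Matrix.toLin' (c • (1 : Matrix (Fin d ⊕ Fin d) (Fin d ⊕ Fin d) F)) =
      c • (1 : Module.End F (Fin d ⊕ Fin d → F)) := by
    intro c
    rw [map_smul, Matrix.toLin'_one]
    rfl
  -- conjugating into the normalizer
  have hkey : ∀ (y : Module.End F (Fin d ⊕ Fin d → F)), SpImp.IsIsom (sympBilin F d) y →
      ∀ z : F, y ^ r = z • 1 → (∀ c : F, y ≠ c • 1) →
      ∃ y' : Module.End F (Fin d ⊕ Fin d → F), SpImp.IsIsom (sympBilin F d) y' ∧
        y' ^ r = z • 1 ∧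
        (∀ t : F, finrank F (LinearMap.ker (y' - t • 1)) = finrank F (LinearMap.ker (y - t • 1))) ∧
        ∀ v, y' (Matrix.toLin' Jm v) = Matrix.toLin' Jm (y' v) := by
    intro y hy z hyr hyns
    obtain ⟨x, hx, hxy⟩ := exists_spgl_of_isom d y hy
    obtain ⟨g, hg, hmem⟩ := hall x hx ⟨z, by
      rw [Units.val_pow_eq_pow_val]
      apply Matrix.toLin'.injective
      rw [Matrix.toLin'_pow, hxy, hyr, hsm]⟩ (by
      intro c hc
      apply hyns c
      rw [← hxy, hc, hsm])
    obtain ⟨x', hx'def⟩ : ∃ x' : GL (Fin d ⊕ Fin d) F, x' = g⁻¹ * x * g := ⟨_, rfl⟩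
    rw [← hx'def] at hmem
    have hx'sp : x' ∈ spGL d F := by
      rw [hx'def]
      exact mul_mem (mul_mem (inv_mem hg) hx) hg
    obtain ⟨y', hy'def⟩ : ∃ y' : Module.End F (Fin d ⊕ Fin d → F), y' = Matrix.toLin'
        (x' : Matrix (Fin d ⊕ Fin d) (Fin d ⊕ Fin d) F) := ⟨_, rfl⟩
    have hconj : ∀ v, glEquiv g⁻¹ (y v) = y' (glEquiv g⁻¹ v) := by
      intro v
      rw [glEquiv_apply, glEquiv_apply, hy'def, ← hxy, Matrix.toLin'_apply, Matrix.toLin'_apply,
        Matrix.mulVec_mulVec, Matrix.mulVec_mulVec, hx'def, Units.val_mul, Units.val_mul,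
        mul_assoc, mul_assoc, Units.mul_inv, mul_one]
    have hy'r : y' ^ r = z • 1 := pow_eq_of_conj (glEquiv g⁻¹) y y' hconj r z hyr
    have hx'r : ((x' ^ r : GL (Fin d ⊕ Fin d) F) : Matrix (Fin d ⊕ Fin d) (Fin d ⊕ Fin d) F) =
        z • 1 := by
      rw [Units.val_pow_eq_pow_val]
      apply Matrix.toLin'.injective
      rw [Matrix.toLin'_pow, ← hy'def, hy'r, hsm]
    have hcomm := comm_of_mem_odd K Jm h2F δ hJ hJJ hspan hδ hns x' hmem r hrodd z hx'r
    refine ⟨y', ?_, hy'r, ?_, ?_⟩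
    · rw [hy'def]
      exact isIsom_of_mem x' hx'sp
    · intro t
      exact (finrank_ker_of_conj (glEquiv g⁻¹) y y' hconj t).symm
    · intro v
      rw [hy'def, ← LinearMap.comp_apply, ← LinearMap.comp_apply, ← Matrix.toLin'_mul,
        ← Matrix.toLin'_mul, hcomm]
  by_cases hrp : r = p
  · subst hrp
    obtain ⟨y, hiso, hyp, hyns, hker⟩ := exists_sp_transv (F := F) (p := r) d (by omega)
    obtain ⟨y', hy'iso, hy'r, hy'k, hy'J⟩ := hkey y hiso 1 hyp hyns
    apply no_transv_comm δ hδ (Matrix.toLin' Jm) hIsJ.1 y' hy'J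
    have h1 := hy'k 1
    rw [one_smul] at h1 hker
    rw [h1, hfinV]
    exact hker
  · have hrq : ¬ r ∣ Fintype.card F := Elus.not_dvd_card_of_ne (F := F) r hrp
    obtain ⟨i, hi⟩ : ∃ i, i = orderOf ((Fintype.card F : ℕ) : ZMod r) := ⟨_, rfl⟩
    have hipos : 0 < i := by
      rw [hi]
      exact Elus.ord_pos r (Fintype.card F) hrq
    obtain ⟨c, hc⟩ : ∃ c, c = if Even i then i else 2 * i := ⟨_, rfl⟩
    have hΩ' : r ∣ Nat.card (spGL d F) := dvd_trans hΩ (Subgroup.relIndex_dvd_card _ _)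
    have hi1 : i ≠ 1 → ¬ r ∣ Fintype.card F - 1 := by
      intro hne h
      have h1 := (Elus.ord_eq_one_iff r (Fintype.card F) Fintype.card_pos).mpr h
      rw [← hi] at h1
      exact hne h1
    -- an element with moving part of dimension `c`, conjugated into the normalizer
    have hss : ∃ y' : Module.End F (Fin d ⊕ Fin d → F), SpImp.IsIsom (sympBilin F d) y' ∧
        y' ^ r = 1 ∧ finrank F (LinearMap.ker (y' - 1)) + c = finrank F (Fin d ⊕ Fin d → F) ∧
        ∀ v, y' (Matrix.toLin' Jm v) = Matrix.toLin' Jm (y' v) := by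
      obtain ⟨y, hiso, hyr, hker⟩ := exists_sp_ss (F := F) (p := p) d r hr2 hrp hΩ' i c hi hc
      have hc0 : 0 < c := by
        rw [hc]
        split_ifs <;> omega
      have hyns : ∀ c' : F, y ≠ c' • 1 := by
        apply nonscalar_of_ss r y hyr c hc0 (by rw [hfinV]; exact hker)
        by_cases hi1' : i = 1
        · left
          rw [hfinV, hc, hi1']
          have h1 : ¬ Even 1 := by decide
          rw [if_neg h1]
          omega
        · right
          exact hi1 hi1'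
      obtain ⟨y', hy'iso, hy'r, hy'k, hy'J⟩ := hkey y hiso 1 (by rw [hyr, one_smul]) hyns
      refine ⟨y', hy'iso, by rw [hy'r, one_smul], ?_, hy'J⟩
      have h1 := hy'k 1
      rw [one_smul] at h1
      rw [h1, hfinV]
      exact hker
    by_cases hio : Odd i
    · obtain ⟨y', hy'iso, hy'r, hy'k, hy'J⟩ := hss
      have hce : c = 2 * i := by
        rw [hc, if_neg (Nat.not_even_iff_odd.mpr hio)]
      rw [hce] at hy'k
      exact no_comm_odd (sympBilin F d) hodd δ hδ hA hB (Matrix.toLin' Jm) hIsJ r hr2 hrp i hi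
        hio y' hy'iso hy'r hy'J hy'k
    · have hie : Even i := Nat.not_odd_iff_even.mp hio
      obtain ⟨m, hm⟩ := hie
      have hm' : orderOf ((Fintype.card F : ℕ) : ZMod r) = m + m := by rw [← hi, hm]
      by_cases hme : Even m
      · obtain ⟨y', hy'iso, hy'r, hy'k, hy'J⟩ := hss
        have hce : c = m + m := by
          rw [hc, if_pos ⟨m, hm⟩, hm]
        rw [hce] at hy'k
        exact no_comm_mod4 (sympBilin F d) hodd δ hδ hB (Matrix.toLin' Jm) hIsJ r hrp m hm' hme
          y' hy'iso hy'r hy'J hy'k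
      · have hmo : Odd m := Nat.not_even_iff_odd.mp hme
        have h1 := not_dvd_card_J hodd δ hδ r hr2 hrp m hm' hmo (2 * d) (Fin d ⊕ Fin d → F)
          (sympBilin F d) hA hB hfinV
        exact h1 (dvd_trans hΩ (relIndex_dvd_card_J hodd K Jm δ hJ hspan hδ hIsJ))

end Nec

end Cfsg.Agent.Lib.Helper2.Ukf
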