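import Mathlib
import Cfsg.Agent.Lib.Helper2.FexD
import Cfsg.Agent.Lib.Helper2.UkfH
set_option autoImplicit false
set_option maxHeartbeats 1000000
set_option linter.unusedVariables false
set_option linter.unusedSectionVars false
set_option linter.style.longLine false
set_option linter.unusedSimpArgs false
set_option linter.deprecated false
set_option linter.style.haveILetI false

/-! Field-extension subgroups of symplectic groups (part E): elements normalizing the field. -/

namespace Cfsg.Agent.Lib.Helper2.Fex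

open Module Cfsg Cfsg.Agent.Lib.Helper2 Cfsg.Agent.Lib.Helper5.SympBridge
  Cfsg.Agent.Lib.Helper5.SympTv Cfsg.Agent.Lib.Helper5.SpCentres
  Cfsg.Agent.Lib.Helper2.Ukf Cfsg.Agent.Lib.Helper2.Tsp Cfsg.Agent.Lib.Helper2.Tns
open scoped Matrix MatrixGroups

universe u v w

section Abs2

variable {F : Type u} [Field F] {E : Type w} [Field E] [Algebra F E] [FiniteDimensional F E]
  {V : Type v} [AddCommGroup V] [Module F V] [FiniteDimensional F V]
variable (B : LinearMap.BilinForm F V) (ι : E →ₐ[F] Module.End F V)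

theorem nd_of_isCompl_orth (hB : B.Nondegenerate) {C M : Submodule F V} (hCM : IsCompl C M)
    (horth : ∀ c ∈ C, ∀ m ∈ M, B c m = 0) : SpImp.ND B M := by
  unfold SpImp.ND
  rw [Submodule.disjoint_def]
  intro u huM huP
  rw [SpImp.mem_perp] at huP
  apply hB.2 u
  intro v
  have hv : v ∈ C ⊔ M := by
    rw [hCM.sup_eq_top]
    exact Submodule.mem_top
  obtain ⟨c, hc, m, hm, rfl⟩ := Submodule.mem_sup.mp hv
  rw [map_add, LinearMap.add_apply, horth c hc u huM, huP m hm, add_zero]

/-- a nonzero invariant subspace contains an orbit -/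
theorem orbit_le {W : Submodule F V} (hW : EInv ι W) (hW0 : W ≠ ⊥) :
    finrank F E ≤ finrank F W := by
  obtain ⟨u, hu, hu0⟩ := Submodule.exists_mem_ne_zero_of_ne_bot hW0
  rw [← finrank_range_orb ι hu0]
  exact Submodule.finrank_mono (range_orb_le ι hW hu)

/-- an element normalizing `E` but not centralizing it has a small fixed space -/
theorem fix_le (x : Module.End F V) (hx : ∀ a, ∃ a', ∀ v, x (ι a v) = ι a' (x v))
    (hnc : ¬ ∀ a v, x (ι a v) = ι a (x v)) :
    2 * finrank F (LinearMap.ker (x - 1)) ≤ finrank F V := by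
  push Not at hnc
  obtain ⟨a, v₀, hav⟩ := hnc
  obtain ⟨a', ha'⟩ := hx a
  have hne : a' ≠ a := by
    rintro rfl
    exact hav (ha' v₀)
  have ha0 : a ≠ 0 := by
    rintro rfl
    apply hav
    rw [map_zero, LinearMap.zero_apply, LinearMap.zero_apply, map_zero]
  have hinj : Function.Injective (ι a) := by
    rw [← LinearMap.ker_eq_bot, LinearMap.ker_eq_bot']
    intro v hv
    by_contra hv0
    exact ha0 (iota_apply_eq_zero ι hv0 hv)
  have hdisj : Disjoint (LinearMap.ker (x - 1)) ((LinearMap.ker (x - 1)).map (ι a)) := by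
    rw [Submodule.disjoint_def]
    intro w hw1 hw2
    obtain ⟨v, hv, rfl⟩ := Submodule.mem_map.mp hw2
    rw [Elus.mem_ker_sub_one] at hw1 hv
    have h0 : ι a' v = ι a v := by
      have h := ha' v
      rw [hv, hw1] at h
      exact h.symm
    have h1 : ι (a' - a) v = 0 := by
      rw [map_sub, LinearMap.sub_apply, h0, sub_self]
    by_contra hw0
    have hv0 : v ≠ 0 := by
      rintro rfl
      exact hw0 (map_zero _)
    exact hne (sub_eq_zero.mp (iota_apply_eq_zero ι hv0 h1))
  have h1 := Submodule.finrank_add_finrank_le_of_disjoint hdisj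
  have h2 := (Submodule.equivMapOfInjective (ι a) hinj (LinearMap.ker (x - 1))).finrank_eq
  omega

/-- transvections do not normalize `E` -/
theorem caseA (x : Module.End F V) (hx : ∀ a, ∃ a', ∀ v, x (ι a v) = ι a' (x v))
    (hker : finrank F (LinearMap.ker (x - 1)) + 1 = finrank F V) (hk : 2 ≤ finrank F E)
    (hV : 3 ≤ finrank F V) : False := by
  by_cases hc : ∀ a v, x (ι a v) = ι a (x v)
  · have hinv : EInv ι (LinearMap.range (x - 1)) := by
      rintro a _ ⟨v, rfl⟩
      exact ⟨ι a v, by
        rw [LinearMap.sub_apply, LinearMap.sub_apply, Module.End.one_apply, Module.End.one_apply,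
          map_sub, hc]⟩
    have h1 := LinearMap.finrank_range_add_finrank_ker (x - 1)
    have h0 : LinearMap.range (x - 1) ≠ ⊥ := by
      intro h
      rw [h, finrank_bot] at h1
      omega
    have h2 := orbit_le ι hinv h0
    omega
  · have := fix_le ι x hx hc
    omega

variable {B ι}

/-- involutions with a two-dimensional eigenspace normalizing `E` -/
theorem caseB1 (h2F : (2 : F) ≠ 0) (hA : B.IsAlt) (hB : B.Nondegenerate) (hSA : IsSA B ι)
    (x : Module.End F V) (hiso : SpImp.IsIsom B x) (hx2 : ∀ v, x (x v) = v)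
    (hx : ∀ a, ∃ a', ∀ v, x (ι a v) = ι a' (x v)) (d : ℕ) (hd : 2 ≤ d)
    (hV : finrank F V = 2 * d) (hker : finrank F (LinearMap.ker (x - (1 : F) • 1)) + 2 = 2 * d)
    (hk : (finrank F E).Prime) : d = 2 ∧ finrank F E = 2 := by
  have hkd : finrank F E ∣ d := by
    have h1 := two_mul_finrank_dvd hA hB hSA (SpImp.nd_top B hA hB)
      (fun _ _ _ => Submodule.mem_top)
    rw [finrank_top, hV] at h1
    exact (Nat.mul_dvd_mul_iff_left two_pos).mp h1
  obtain ⟨hcompl, -, -, hnd⟩ := invol_data B h2F hA hB x hiso hx2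
  by_cases hc : ∀ a v, x (ι a v) = ι a (x v)
  · exfalso
    have hinv : EInv ι (LinearMap.ker (x + (1 : F) • 1)) := by
      intro a v hv
      rw [LinearMap.mem_ker, LinearMap.add_apply, LinearMap.smul_apply, Module.End.one_apply,
        one_smul] at hv ⊢
      rw [hc, ← map_add, hv, map_zero]
    have hdim := Submodule.finrank_add_eq_of_isCompl hcompl
    have h1 := two_mul_finrank_dvd hA hB hSA hnd hinv
    have h2 : finrank F (LinearMap.ker (x + (1 : F) • 1)) = 2 := by omega
    rw [h2] at h1
    have h3 := Nat.le_of_dvd two_pos h1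
    have h4 := hk.two_le
    omega
  · have h1 := fix_le ι x hx hc
    rw [one_smul] at hker
    have hd2 : d = 2 := by omega
    refine ⟨hd2, ?_⟩
    rw [hd2] at hkd
    exact (Nat.prime_dvd_prime_iff_eq hk Nat.prime_two).mp hkd

/-- semisimple elements centralizing `E` -/
theorem caseB2 (hA : B.IsAlt) (hB : B.Nondegenerate) (hSA : IsSA B ι)
    (x : Module.End F V) (hiso : SpImp.IsIsom B x) (r : ℕ) (hrF : (r : F) ≠ 0) (hxr : x ^ r = 1)
    (hc : ∀ a v, x (ι a v) = ι a (x v)) (c : ℕ)
    (hker : finrank F (LinearMap.ker (x - 1)) + c = finrank F V) : 2 * finrank F E ∣ c := by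
  have hnd : SpImp.ND B (LinearMap.ker (nrm x r)) :=
    nd_of_isCompl_orth B hB (isCompl_ker_nrm hrF hxr) (orth_ker_nrm B hrF hiso)
  have hinv : EInv ι (LinearMap.ker (nrm x r)) :=
    fun a => inv_ker_nrm_of_comm (fun v => hc a v) r
  have h1 := two_mul_finrank_dvd hA hB hSA hnd hinv
  have h2 := finrank_ker_nrm hrF hxr
  have h3 : finrank F (LinearMap.ker (nrm x r)) = c := by omega
  rwa [h3] at h1

end Abs2

section Gal2

variable {F : Type u} [Field F] {E : Type w} [Field E] [Finite E] [Algebra F E]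
  [FiniteDimensional F E]
  {V : Type v} [AddCommGroup V] [Module F V] [FiniteDimensional F V]
variable (ι : E →ₐ[F] Module.End F V)

theorem comm_of_normalize' [Nontrivial V] (X : V ≃ₗ[F] V) (x : Module.End F V)
    (hXx : ∀ v, X v = x v) (hx : ∀ a, ∃ a', ∀ v, x (ι a v) = ι a' (x v)) (r : ℕ) (hr : r.Prime)
    (hk : (finrank F E).Prime) (hrk : r ≠ finrank F E) (hxr : x ^ r = 1) :
    ∀ a v, x (ι a v) = ι a (x v) := by
  have hpow : ∀ j v, (X ^ j) v = (x ^ j) v := by
    intro j
    induction j with
    | zero =>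
      intro v
      rw [pow_zero, pow_zero]
      rfl
    | succ j ih =>
      intro v
      rw [pow_succ, pow_succ, LinearEquiv.mul_apply, Module.End.mul_apply, hXx, ih]
  have h := comm_of_normalize ι X (by
    intro a
    obtain ⟨a', ha'⟩ := hx a
    exact ⟨a', fun v => by rw [hXx, hXx, ha']⟩) r hr hk hrk (by
    intro a v
    rw [hpow, hpow, hxr]
    rfl)
  intro a v
  rw [← hXx, ← hXx]
  exact h a v

end Gal2

section Ord

/-- the dimension of the moving space of a semisimple element of order `r` is less than `r` -/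
theorem c_lt_r (r q : ℕ) [hr : Fact r.Prime] (hr2 : r ≠ 2) (hrq : ¬ r ∣ q) (i c : ℕ)
    (hi : i = orderOf ((q : ℕ) : ZMod r)) (hc : c = if Even i then i else 2 * i) : c < r := by
  have hq0 : ((q : ℕ) : ZMod r) ≠ 0 := by
    intro h
    exact hrq ((ZMod.natCast_eq_zero_iff _ _).mp h)
  have h1 : i ∣ r - 1 := by
    rw [hi]
    exact orderOf_dvd_of_pow_eq_one (ZMod.pow_card_sub_one_eq_one hq0)
  have hr3 : 3 ≤ r := by
    have := hr.out.two_le
    omega
  have hodd : Odd r := hr.out.odd_of_ne_two hr2
  by_cases he : Even i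
  · rw [hc, if_pos he]
    have := Nat.le_of_dvd (by omega) h1
    omega
  · rw [hc, if_neg he]
    have hio : Odd i := Nat.not_even_iff_odd.mp he
    have h2 : 2 ∣ r - 1 := by
      obtain ⟨m, hm⟩ := hodd
      exact ⟨m, by omega⟩
    have hcop : Nat.Coprime 2 i := Nat.coprime_two_left.mpr hio
    have h3 : 2 * i ∣ r - 1 := hcop.mul_dvd_of_dvd_of_dvd h2 h1
    have := Nat.le_of_dvd (by omega) h3
    omega

end Ord

end Cfsg.Agent.Lib.Helper2.Fex
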