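import Mathlib
import Cfsg.Agent.Lib.Helper2.FexE
set_option autoImplicit false
set_option maxHeartbeats 1000000
set_option linter.unusedVariables false
set_option linter.unusedSectionVars false
set_option linter.style.longLine false
set_option linter.unusedSimpArgs false
set_option linter.deprecated false
set_option linter.style.haveILetI false

/-! Field-extension subgroups of symplectic groups (part F): necessity. -/

namespace Cfsg.Agent.Lib.Helper2.Fex

open Module Cfsg Cfsg.Agent.Lib.Helper2 Cfsg.Agent.Lib.Helper5.SympBridge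
  Cfsg.Agent.Lib.Helper5.SympTv Cfsg.Agent.Lib.Helper5.SpCentres
  Cfsg.Agent.Lib.Helper2.Ukf Cfsg.Agent.Lib.Helper2.Tsp Cfsg.Agent.Lib.Helper2.Tns
open scoped Matrix MatrixGroups

universe u v w

section Conj

variable {F : Type u} [Field F] [Fintype F]

/-- conjugating an isometry of prime order into a subgroup, under the hypothesis on the fixed
points -/
theorem conj_into (d : ℕ) (N : Subgroup (GL (Fin d ⊕ Fin d) F)) (r : ℕ)
    (hall : ∀ x ∈ Cfsg.spGL d F,
      (∃ z : F, ((x ^ r : GL (Fin d ⊕ Fin d) F) : Matrix (Fin d ⊕ Fin d) (Fin d ⊕ Fin d) F) =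
        z • (1 : Matrix (Fin d ⊕ Fin d) (Fin d ⊕ Fin d) F)) →
      (∀ z : F, (x : Matrix (Fin d ⊕ Fin d) (Fin d ⊕ Fin d) F) ≠
        z • (1 : Matrix (Fin d ⊕ Fin d) (Fin d ⊕ Fin d) F)) →
      ∃ g ∈ Cfsg.spGL d F, g⁻¹ * x * g ∈ N)
    (y : Module.End F (Fin d ⊕ Fin d → F)) (hy : SpImp.IsIsom (sympBilin F d) y) (z : F)
    (hyr : y ^ r = z • 1) (hyns : ∀ c : F, y ≠ c • 1) :
    ∃ x' : GL (Fin d ⊕ Fin d) F, x' ∈ N ∧ x' ∈ spGL d F ∧
      (Matrix.toLin' (x' : Matrix (Fin d ⊕ Fin d) (Fin d ⊕ Fin d) F)) ^ r = z • 1 ∧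
      ∀ t : F, finrank F (LinearMap.ker
        (Matrix.toLin' (x' : Matrix (Fin d ⊕ Fin d) (Fin d ⊕ Fin d) F) - t • 1)) =
        finrank F (LinearMap.ker (y - t • 1)) := by
  classical
  have hsm : ∀ c : F, Matrix.toLin' (c • (1 : Matrix (Fin d ⊕ Fin d) (Fin d ⊕ Fin d) F)) =
      c • (1 : Module.End F (Fin d ⊕ Fin d → F)) := by
    intro c
    rw [map_smul, Matrix.toLin'_one]
    rfl
  obtain ⟨x, hx, hxy⟩ := exists_spgl_of_isom d y hy
  obtain ⟨g, hg, hmem⟩ := hall x hx ⟨z, by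
    rw [Units.val_pow_eq_pow_val]
    apply Matrix.toLin'.injective
    rw [Matrix.toLin'_pow, hxy, hyr, hsm]⟩ (by
    intro c hc
    apply hyns c
    rw [← hxy, hc, hsm])
  obtain ⟨x', hx'def⟩ : ∃ x' : GL (Fin d ⊕ Fin d) F, x' = g⁻¹ * x * g := ⟨_, rfl⟩
  rw [← hx'def] at hmem
  have hx'sp : x' ∈ spGL d F := by
    rw [hx'def]
    exact mul_mem (mul_mem (inv_mem hg) hx) hg
  obtain ⟨y', hy'def⟩ : ∃ y' : Module.End F (Fin d ⊕ Fin d → F), y' = Matrix.toLin'
      (x' : Matrix (Fin d ⊕ Fin d) (Fin d ⊕ Fin d) F) := ⟨_, rfl⟩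
  have hconj : ∀ v, glEquiv g⁻¹ (y v) = y' (glEquiv g⁻¹ v) := by
    intro v
    rw [glEquiv_apply, glEquiv_apply, hy'def, ← hxy, Matrix.toLin'_apply, Matrix.toLin'_apply,
      Matrix.mulVec_mulVec, Matrix.mulVec_mulVec, hx'def, Units.val_mul, Units.val_mul,
      mul_assoc, mul_assoc, Units.mul_inv, mul_one]
  have hy'r : y' ^ r = z • 1 := pow_eq_of_conj (glEquiv g⁻¹) y y' hconj r z hyr
  refine ⟨x', hmem, hx'sp, ?_, ?_⟩
  · rw [← hy'def]
    exact hy'r
  · intro t
    rw [← hy'def]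
    exact (finrank_ker_of_conj (glEquiv g⁻¹) y y' hconj t).symm

end Conj

section Nec

variable {F : Type u} [Field F] [Fintype F]

theorem necessity_fex {p : ℕ} [hp : Fact p.Prime] [CharP F p]
    (d : ℕ) (hd : 2 ≤ d) {E : Type w} [Field E] [Algebra F E] [Finite E] [FiniteDimensional F E]
    (k : ℕ) (hk : k.Prime) (hkE : finrank F E = k)
    (ι : E →ₐ[F] Module.End F (Fin d ⊕ Fin d → F)) (hSA : IsSA (sympBilin F d) ι)
    (N : Subgroup (GL (Fin d ⊕ Fin d) F))
    (hnorm : ∀ g ∈ N, ∀ a, ∃ a', ∀ v,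
      (g : Matrix (Fin d ⊕ Fin d) (Fin d ⊕ Fin d) F) *ᵥ (ι a v) =
        ι a' ((g : Matrix (Fin d ⊕ Fin d) (Fin d ⊕ Fin d) F) *ᵥ v))
    (hcent : ∀ g : GL (Fin d ⊕ Fin d) F,
      (∀ a v, (g : Matrix (Fin d ⊕ Fin d) (Fin d ⊕ Fin d) F) *ᵥ (ι a v) =
        ι a ((g : Matrix (Fin d ⊕ Fin d) (Fin d ⊕ Fin d) F) *ᵥ v)) → g ∈ N)
    (r : ℕ) [hr : Fact r.Prime] (hΩ : r ∣ N.relIndex (spGL d F))
    (hall : ∀ x ∈ Cfsg.spGL d F,
      (∃ z : F, ((x ^ r : GL (Fin d ⊕ Fin d) F) : Matrix (Fin d ⊕ Fin d) (Fin d ⊕ Fin d) F) =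
        z • (1 : Matrix (Fin d ⊕ Fin d) (Fin d ⊕ Fin d) F)) →
      (∀ z : F, (x : Matrix (Fin d ⊕ Fin d) (Fin d ⊕ Fin d) F) ≠
        z • (1 : Matrix (Fin d ⊕ Fin d) (Fin d ⊕ Fin d) F)) →
      ∃ g ∈ Cfsg.spGL d F, g⁻¹ * x * g ∈ N) :
    r = 2 ∧ d = 2 ∧ k = 2 ∧ Odd (Fintype.card F) := by
  classical
  have hA := sympBilin_isAlt (F := F) (m := d)
  have hB := sympBilin_nondegenerate (F := F) (m := d)
  haveI : Nonempty (Fin d ⊕ Fin d) := ⟨Sum.inl ⟨0, by omega⟩⟩
  have hfinV : finrank F (Fin d ⊕ Fin d → F) = 2 * d := by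
    rw [Module.finrank_fintype_fun_eq_card, Fintype.card_sum, Fintype.card_fin]
    ring
  haveI : Nontrivial (Fin d ⊕ Fin d → F) := by
    apply (Module.finrank_pos_iff (R := F)).mp
    rw [hfinV]
    omega
  have hkd : k ∣ d := by
    have h1 := two_mul_finrank_dvd hA hB hSA (SpImp.nd_top (sympBilin F d) hA hB)
      (fun _ _ _ => Submodule.mem_top)
    rw [finrank_top, hfinV, hkE] at h1
    exact (Nat.mul_dvd_mul_iff_left two_pos).mp h1
  -- conjugating into the normalizer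
  have hkey : ∀ (y : Module.End F (Fin d ⊕ Fin d → F)), SpImp.IsIsom (sympBilin F d) y →
      ∀ z : F, y ^ r = z • 1 → (∀ c : F, y ≠ c • 1) →
      ∃ y' : Module.End F (Fin d ⊕ Fin d → F), SpImp.IsIsom (sympBilin F d) y' ∧
        y' ^ r = z • 1 ∧
        (∀ t : F, finrank F (LinearMap.ker (y' - t • 1)) = finrank F (LinearMap.ker (y - t • 1))) ∧
        (∀ a, ∃ a', ∀ v, y' (ι a v) = ι a' (y' v)) ∧
        ∃ X : (Fin d ⊕ Fin d → F) ≃ₗ[F] (Fin d ⊕ Fin d → F), ∀ v, X v = y' v := by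
    intro y hy z hyr hyns
    obtain ⟨x', hx'N, hx'sp, hx'r, hx'k⟩ := conj_into d N r hall y hy z hyr hyns
    refine ⟨Matrix.toLin' (x' : Matrix (Fin d ⊕ Fin d) (Fin d ⊕ Fin d) F),
      isIsom_of_mem x' hx'sp, hx'r, hx'k, ?_, glEquiv x', ?_⟩
    · intro a
      obtain ⟨a', ha'⟩ := hnorm x' hx'N a
      exact ⟨a', fun v => by
        rw [Matrix.toLin'_apply, Matrix.toLin'_apply]
        exact ha' v⟩
    · intro v
      rw [glEquiv_apply, Matrix.toLin'_apply]
  by_cases hrp : r = p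
  · exfalso
    subst hrp
    obtain ⟨y, hiso, hyp, hyns, hker⟩ := exists_sp_transv (F := F) (p := r) d (by omega)
    obtain ⟨y', hy'iso, hy'r, hy'k, hy'n, -⟩ := hkey y hiso 1 hyp hyns
    apply caseA ι y' hy'n _ (by rw [hkE]; exact hk.two_le) (by rw [hfinV]; omega)
    have h1 := hy'k 1
    rw [one_smul] at h1 hker
    rw [h1, hfinV]
    exact hker
  · have hrq : ¬ r ∣ Fintype.card F := Elus.not_dvd_card_of_ne (F := F) r hrp
    by_cases hr2 : r = 2
    · have hodd : Odd (Fintype.card F) := by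
        rw [hr2] at hrq
        exact Nat.odd_iff.mpr (Nat.two_dvd_ne_zero.mp hrq)
      have h2F : (2 : F) ≠ 0 := two_ne_zero_of_odd hodd
      have hl1 : (-1 : F) ≠ 1 := by
        intro h
        apply h2F
        have h1 : (2 : F) = 1 - (-1) := by ring
        rw [h1, h, sub_self]
      obtain ⟨y, hiso, hy2, hyns, hker, -⟩ := exists_sp_diag_pair (-1 : F) 2 (by norm_num)
        (by rw [neg_one_sq]) hl1 d hd
      rw [← hr2] at hy2
      obtain ⟨y', hy'iso, hy'r, hy'k, hy'n, -⟩ := hkey y hiso 1 hy2 hyns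
      have hy'2 : ∀ v, y' (y' v) = v := by
        intro v
        have h1 := congrArg (fun f : Module.End F (Fin d ⊕ Fin d → F) => f v) hy'r
        rw [hr2] at h1
        simp only [pow_two, Module.End.mul_apply, one_smul, Module.End.one_apply] at h1
        exact h1
      have h1 := hy'k 1
      obtain ⟨hd2, hk2⟩ := caseB1 h2F hA hB hSA y' hy'iso hy'2 hy'n d hd hfinV
        (by rw [h1]; exact hker) (by rw [hkE]; exact hk)
      exact ⟨hr2, hd2, by rw [← hkE]; exact hk2, hodd⟩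
    · exfalso
      obtain ⟨i, hi⟩ : ∃ i, i = orderOf ((Fintype.card F : ℕ) : ZMod r) := ⟨_, rfl⟩
      have hipos : 0 < i := by
        rw [hi]
        exact Elus.ord_pos r (Fintype.card F) hrq
      obtain ⟨c, hc⟩ : ∃ c, c = if Even i then i else 2 * i := ⟨_, rfl⟩
      have hc0 : 0 < c := by
        rw [hc]
        split_ifs <;> omega
      have hΩ' : r ∣ Nat.card (spGL d F) := dvd_trans hΩ (Subgroup.relIndex_dvd_card _ _)
      have hi1 : i ≠ 1 → ¬ r ∣ Fintype.card F - 1 := by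
        intro hne h
        have h1 := (Elus.ord_eq_one_iff r (Fintype.card F) Fintype.card_pos).mpr h
        rw [← hi] at h1
        exact hne h1
      have hrF : (r : F) ≠ 0 := by
        intro h
        have h1 := (CharP.cast_eq_zero_iff F p r).mp h
        exact hrp ((Nat.prime_dvd_prime_iff_eq hp.out hr.out).mp h1).symm
      obtain ⟨y, hiso, hyr, hker⟩ := exists_sp_ss (F := F) (p := p) d r hr2 hrp hΩ' i c hi hc
      have hyns : ∀ c' : F, y ≠ c' • 1 := by
        apply nonscalar_of_ss r y hyr c hc0 (by rw [hfinV]; exact hker)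
        by_cases hi1' : i = 1
        · left
          rw [hfinV, hc, hi1']
          have h1 : ¬ Even 1 := by decide
          rw [if_neg h1]
          omega
        · right
          exact hi1 hi1'
      obtain ⟨y', hy'iso, hy'r, hy'k, hy'n, X, hX⟩ := hkey y hiso 1 (by rw [hyr, one_smul]) hyns
      rw [one_smul] at hy'r
      have hker' : finrank F (LinearMap.ker (y' - 1)) + c = finrank F (Fin d ⊕ Fin d → F) := by
        have h1 := hy'k 1
        rw [one_smul] at h1
        rw [h1, hfinV]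
        exact hker
      by_cases hrk : r = k
      · have hcr : c < r := c_lt_r r (Fintype.card F) hr2 hrq i c hi hc
        have hkd' : k ≤ d := Nat.le_of_dvd (by omega) hkd
        by_cases hcm : ∀ a v, y' (ι a v) = ι a (y' v)
        · have h1 := caseB2 hA hB hSA y' hy'iso r hrF hy'r hcm c hker'
          rw [hkE] at h1
          have h2 := Nat.le_of_dvd hc0 h1
          omega
        · have h1 := fix_le ι y' hy'n hcm
          rw [hfinV] at h1 hker'
          omega
      · have hcm := comm_of_normalize' ι X y' hX hy'n r hr.out (by rw [hkE]; exact hk)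
          (by rw [hkE]; exact hrk) hy'r
        have h2kc := caseB2 hA hB hSA y' hy'iso r hrF hy'r hcm c hker'
        rw [hkE] at h2kc
        obtain ⟨t, ht⟩ := hkd
        have hdvd := relIndex_mul_card_dvd d N t ι hSA (by rw [hkE, ht]; ring) hcent
        obtain ⟨s₁, hs₁⟩ := hΩ
        obtain ⟨s₂, hs₂⟩ := hdvd
        haveI : Fintype E := Fintype.ofFinite E
        have hcardE : Fintype.card E = Fintype.card F ^ k := by
          rw [Module.card_eq_pow_finrank (K := F), hkE]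
        rw [card_spGL, card_spGL, hcardE, hs₁, ht] at hs₂
        apply index_arith (Fintype.card F) k t r Fintype.one_lt_card hk.pos hr.out hrq ?_
          (s₁ * s₂) ?_
        · intro j hj1 hj2 hrj
          exact dvd_of_dvd_pow_sub_one (Fintype.card F) k r i c j hr.out Fintype.card_pos hi hc
            h2kc hrj
        · rw [hs₂]
          ring

end Nec

end Cfsg.Agent.Lib.Helper2.Fex
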