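import Mathlib
import Cfsg.Agent.Lib.Helper2.FexF
set_option autoImplicit false
set_option maxHeartbeats 1000000
set_option linter.unusedVariables false
set_option linter.unusedSectionVars false
set_option linter.style.longLine false
set_option linter.unusedSimpArgs false
set_option linter.deprecated false
set_option linter.style.haveILetI false

/-! Field-extension subgroups of symplectic groups (part G): linear and semilinear elements of
order two modulo scalars. -/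

namespace Cfsg.Agent.Lib.Helper2.Fex

open Module Cfsg Cfsg.Agent.Lib.Helper2 Cfsg.Agent.Lib.Helper5.SympBridge
  Cfsg.Agent.Lib.Helper5.SympTv Cfsg.Agent.Lib.Helper5.SpCentres
  Cfsg.Agent.Lib.Helper2.Ukf Cfsg.Agent.Lib.Helper2.Tsp Cfsg.Agent.Lib.Helper2.Tns
open scoped Matrix MatrixGroups

universe u v w

section Coord2

variable {F : Type u} [Field F] {E : Type w} [Field E] [Algebra F E] [FiniteDimensional F E]
  {V : Type v} [AddCommGroup V] [Module F V] [FiniteDimensional F V]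
variable {B : LinearMap.BilinForm F V} {ι : E →ₐ[F] Module.End F V} {t : ℕ}

/-- coordinates over `E` in which the form is `lam` of the standard symplectic form -/
theorem exists_coord (hA : B.IsAlt) (hB : B.Nondegenerate) (h : IsSA B ι) {lam : E →ₗ[F] F}
    (hlam : lam ≠ 0) (hfin : finrank F V = 2 * finrank F E * t) :
    ∃ βe : ((Fin t ⊕ Fin t) → E) ≃ₗ[F] V,
      (∀ x y, B (βe x) (βe y) = lam (sympForm t E x y)) ∧
      (∀ (c : E) x, βe (c • x) = ι c (βe x)) ∧ ∀ (c : E) v, βe.symm (ι c v) = c • βe.symm v := by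
  classical
  have hkpos : 0 < finrank F E := Module.finrank_pos
  obtain ⟨t', u, w, ht', -, -, q1, q2, q3⟩ := exists_family hA hB h hlam _ ⊤ rfl
    (SpImp.nd_top B hA hB) (fun _ _ _ => Submodule.mem_top)
  rw [finrank_top, hfin] at ht'
  have htt : t' = t := by
    have h1 : 2 * finrank F E * t = 2 * finrank F E * t' := ht'
    exact (Nat.eq_of_mul_eq_mul_left (by omega) h1).symm
  subst htt
  have hinj := beta_injective hA hlam u w q1 q2 q3
  have hform := beta_form hA lam u w q1 q2 q3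
  have hdim : finrank F ((Fin t' ⊕ Fin t') → E) = finrank F V := by
    rw [Module.finrank_pi_fintype, Finset.sum_const, Finset.card_univ, Fintype.card_sum,
      Fintype.card_fin, hfin, smul_eq_mul]
    ring
  obtain ⟨βe, hβe⟩ : ∃ βe : ((Fin t' ⊕ Fin t') → E) ≃ₗ[F] V, ∀ x, βe x = beta ι u w x :=
    ⟨LinearEquiv.ofInjectiveOfFinrankEq (beta ι u w) hinj hdim, fun x => rfl⟩
  have hβsmul : ∀ (c : E) x, βe (c • x) = ι c (βe x) := by
    intro c x
    rw [hβe, hβe, beta_smul]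
  refine ⟨βe, ?_, hβsmul, ?_⟩
  · intro x y
    rw [hβe, hβe, hform]
  · intro c v
    apply βe.injective
    rw [hβsmul, LinearEquiv.apply_symm_apply, LinearEquiv.apply_symm_apply]

/-- a linear isometry with square `-1` -/
theorem exists_lin_sq_neg (hA : B.IsAlt) (hB : B.Nondegenerate) (h : IsSA B ι)
    (hfin : finrank F V = 2 * finrank F E * t) :
    ∃ Y : Module.End F V, SpImp.IsIsom B Y ∧ (∀ v, Y (Y v) = -v) ∧
      ∀ c v, Y (ι c v) = ι c (Y v) := by
  classical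
  obtain ⟨lam, hlam⟩ := exists_functional_ne_zero (F := F) (E := E)
  obtain ⟨βe, hform, hβsmul, hβsymm⟩ := exists_coord hA hB h hlam hfin
  obtain ⟨ψ, hψl, hψr⟩ : ∃ ψ : ((Fin t ⊕ Fin t) → E) →ₗ[F] ((Fin t ⊕ Fin t) → E),
      (∀ x i, ψ x (Sum.inl i) = -x (Sum.inr i)) ∧ ∀ x i, ψ x (Sum.inr i) = x (Sum.inl i) :=
    ⟨LinearMap.pi (fun s => Sum.elim
      (fun i => -(LinearMap.proj (Sum.inr i) : ((Fin t ⊕ Fin t) → E) →ₗ[F] E))
      (fun i => (LinearMap.proj (Sum.inl i) : ((Fin t ⊕ Fin t) → E) →ₗ[F] E)) s),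
      fun x i => rfl, fun x i => rfl⟩
  have hψ2 : ∀ x, ψ (ψ x) = -x := by
    intro x
    funext s
    rcases s with i | i
    · rw [hψl, hψr]
      rfl
    · rw [hψr, hψl]
      rfl
  have hψf : ∀ x y, sympForm t E (ψ x) (ψ y) = sympForm t E x y := by
    intro x y
    rw [Tsp.sympForm_sum', Tsp.sympForm_sum']
    apply Finset.sum_congr rfl
    intro i _
    rw [hψl, hψl, hψr, hψr]
    ring
  have hψs : ∀ (c : E) x, ψ (c • x) = c • ψ x := by
    intro c x
    funext s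
    rcases s with i | i
    · rw [hψl, Pi.smul_apply, Pi.smul_apply, hψl, smul_eq_mul, smul_eq_mul, mul_neg]
    · rw [hψr, Pi.smul_apply, Pi.smul_apply, hψr]
  obtain ⟨Y, hY⟩ : ∃ Y : Module.End F V, ∀ v, Y v = βe (ψ (βe.symm v)) :=
    ⟨(βe : ((Fin t ⊕ Fin t) → E) →ₗ[F] V) ∘ₗ ψ ∘ₗ (βe.symm : V →ₗ[F] ((Fin t ⊕ Fin t) → E)),
      fun v => rfl⟩
  refine ⟨Y, ?_, ?_, ?_⟩
  · intro u v
    rw [hY, hY, hform, hψf, ← hform, LinearEquiv.apply_symm_apply, LinearEquiv.apply_symm_apply]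
  · intro v
    rw [hY, hY, LinearEquiv.symm_apply_apply, hψ2, map_neg, LinearEquiv.apply_symm_apply]
  · intro c v
    rw [hY, hY, hβsymm, hψs, hβsmul]

end Coord2

section Semi

variable {F : Type u} [Field F] {E : Type w} [Field E] [Finite E] [Algebra F E]
  [FiniteDimensional F E]
  {V : Type v} [AddCommGroup V] [Module F V] [FiniteDimensional F V]
variable {B : LinearMap.BilinForm F V} {ι : E →ₐ[F] Module.End F V} {t : ℕ}

/-- the nontrivial automorphism of a quadratic extension of finite fields -/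
theorem exists_sigma (hE : finrank F E = 2) :
    ∃ σ : E ≃ₐ[F] E, σ ≠ 1 ∧ ∀ a, σ (σ a) = a := by
  have hcard : Nat.card (E ≃ₐ[F] E) = 2 := by
    rw [IsGalois.card_aut_eq_finrank F E, hE]
  obtain ⟨σ, hσ⟩ : ∃ σ : E ≃ₐ[F] E, σ ≠ 1 := by
    by_contra hcon
    push Not at hcon
    haveI : Subsingleton (E ≃ₐ[F] E) := ⟨fun a b => by rw [hcon a, hcon b]⟩
    have h1 : Nat.card (E ≃ₐ[F] E) = 1 := Nat.card_unique
    omega
  refine ⟨σ, hσ, ?_⟩
  have h2 : σ ^ 2 = 1 := by
    rw [← hcard]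
    exact pow_card_eq_one'
  intro a
  have h3 := congrArg (fun τ : E ≃ₐ[F] E => τ a) h2
  simp only [pow_two, AlgEquiv.mul_apply, AlgEquiv.one_apply] at h3
  exact h3

/-- an invariant nonzero functional -/
theorem exists_lam_invariant (h2F : (2 : F) ≠ 0) (σ : E ≃ₐ[F] E) (hσ2 : ∀ a, σ (σ a) = a) :
    ∃ lam : E →ₗ[F] F, lam ≠ 0 ∧ ∀ a, lam (σ a) = lam a := by
  have hker : LinearMap.ker (Algebra.linearMap F E) = ⊥ := by
    rw [LinearMap.ker_eq_bot]
    exact (algebraMap F E).injective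
  obtain ⟨g, hg⟩ := LinearMap.exists_leftInverse_of_injective (Algebra.linearMap F E) hker
  have hg1 : g 1 = 1 := by
    have h1 := congrArg (fun f : F →ₗ[F] F => f 1) hg
    simp only [LinearMap.comp_apply, LinearMap.id_apply, Algebra.linearMap_apply, map_one] at h1
    exact h1
  refine ⟨g + g ∘ₗ σ.toLinearMap, ?_, ?_⟩
  · intro h0
    have h1 := congrArg (fun f : E →ₗ[F] F => f 1) h0
    simp only [LinearMap.add_apply, LinearMap.comp_apply, AlgEquiv.toLinearMap_apply, map_one,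
      LinearMap.zero_apply, hg1] at h1
    apply h2F
    rw [← h1]
    norm_num
  · intro a
    simp only [LinearMap.add_apply, LinearMap.comp_apply, AlgEquiv.toLinearMap_apply, hσ2]
    rw [add_comm]

/-- a semilinear isometry of order two -/
theorem exists_semi_invol (h2F : (2 : F) ≠ 0) (hA : B.IsAlt) (hB : B.Nondegenerate)
    (h : IsSA B ι) (hE : finrank F E = 2) (hfin : finrank F V = 2 * finrank F E * t) :
    ∃ (σ : E ≃ₐ[F] E) (Y : Module.End F V), σ ≠ 1 ∧ SpImp.IsIsom B Y ∧ (∀ v, Y (Y v) = v) ∧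
      ∀ c v, Y (ι c v) = ι (σ c) (Y v) := by
  classical
  obtain ⟨σ, hσ1, hσ2⟩ := exists_sigma (F := F) (E := E) hE
  obtain ⟨lam, hlam, hlamσ⟩ := exists_lam_invariant h2F σ hσ2
  obtain ⟨βe, hform, hβsmul, hβsymm⟩ := exists_coord hA hB h hlam hfin
  obtain ⟨ψ, hψ⟩ : ∃ ψ : ((Fin t ⊕ Fin t) → E) →ₗ[F] ((Fin t ⊕ Fin t) → E),
      ∀ x s, ψ x s = σ (x s) :=
    ⟨LinearMap.pi (fun s => σ.toLinearMap ∘ₗ
      (LinearMap.proj s : ((Fin t ⊕ Fin t) → E) →ₗ[F] E)), fun x s => rfl⟩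
  have hψ2 : ∀ x, ψ (ψ x) = x := by
    intro x
    funext s
    rw [hψ, hψ, hσ2]
  have hψf : ∀ x y, sympForm t E (ψ x) (ψ y) = σ (sympForm t E x y) := by
    intro x y
    rw [Tsp.sympForm_sum', Tsp.sympForm_sum', map_sum]
    apply Finset.sum_congr rfl
    intro i _
    rw [hψ, hψ, hψ, hψ, map_sub, map_mul, map_mul]
  have hψs : ∀ (c : E) x, ψ (c • x) = σ c • ψ x := by
    intro c x
    funext s
    rw [hψ, Pi.smul_apply, Pi.smul_apply, hψ, smul_eq_mul, smul_eq_mul, map_mul]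
  obtain ⟨Y, hY⟩ : ∃ Y : Module.End F V, ∀ v, Y v = βe (ψ (βe.symm v)) :=
    ⟨(βe : ((Fin t ⊕ Fin t) → E) →ₗ[F] V) ∘ₗ ψ ∘ₗ (βe.symm : V →ₗ[F] ((Fin t ⊕ Fin t) → E)),
      fun v => rfl⟩
  refine ⟨σ, Y, hσ1, ?_, ?_, ?_⟩
  · intro u v
    rw [hY, hY, hform, hψf, hlamσ, ← hform, LinearEquiv.apply_symm_apply,
      LinearEquiv.apply_symm_apply]
  · intro v
    rw [hY, hY, LinearEquiv.symm_apply_apply, hψ2, LinearEquiv.apply_symm_apply]
  · intro c v
    rw [hY, hY, hβsymm, hψs, hβsmul]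

end Semi

end Cfsg.Agent.Lib.Helper2.Fex
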