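import Mathlib
import Cfsg.Prelude.Def_GeometricClasses
import Cfsg.Agent.Lib.Helper2.FexG
import Cfsg.Agent.Lib.Helper2.TspI
set_option autoImplicit false
set_option maxHeartbeats 1000000
set_option linter.unusedVariables false
set_option linter.unusedSectionVars false
set_option linter.style.longLine false
set_option linter.unusedSimpArgs false
set_option linter.deprecated false
set_option linter.style.haveILetI false

/-! Field-extension subgroups of symplectic groups (part H): sufficiency, and the statement for a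
field subalgebra of the matrix algebra. -/

namespace Cfsg.Agent.Lib.Helper2.Fex

open Module Cfsg Cfsg.Agent.Lib.Helper2 Cfsg.Agent.Lib.Helper5.SympBridge
  Cfsg.Agent.Lib.Helper5.SympTv Cfsg.Agent.Lib.Helper5.SpCentres
  Cfsg.Agent.Lib.Helper2.Ukf Cfsg.Agent.Lib.Helper2.Tsp Cfsg.Agent.Lib.Helper2.Tns
open scoped Matrix MatrixGroups

universe u v w

section Dim

variable {F : Type u} [Field F] {V : Type v} [AddCommGroup V] [Module F V] [FiniteDimensional F V]
variable (B : LinearMap.BilinForm F V)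

/-- a nonscalar involutory isometry in dimension four has eigenspaces of dimension two -/
theorem invol_dim_two (h2F : (2 : F) ≠ 0) (hA : B.IsAlt) (hB : B.Nondegenerate)
    (hV : finrank F V = 4) (T : Module.End F V) (hiso : SpImp.IsIsom B T)
    (hT2 : ∀ v, T (T v) = v) (hns : ∀ c : F, T ≠ c • 1) :
    finrank F (LinearMap.ker (T + (1 : F) • 1)) = 2 := by
  obtain ⟨hPC, -, hP, hC⟩ := invol_data B h2F hA hB T hiso hT2
  have hd := Submodule.finrank_add_eq_of_isCompl hPC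
  obtain ⟨s, hs⟩ := SpImp.even_of_nd B hA hB _ _ rfl hC
  obtain ⟨s', hs'⟩ := SpImp.even_of_nd B hA hB _ _ rfl hP
  have h0 : finrank F (LinearMap.ker (T + (1 : F) • 1)) ≠ 4 := by
    intro h
    have htop : LinearMap.ker (T + (1 : F) • 1) = ⊤ :=
      Submodule.eq_top_of_finrank_eq (by rw [h, hV])
    apply hns (-1)
    apply LinearMap.ext
    intro v
    have hv : v ∈ LinearMap.ker (T + (1 : F) • 1) := by
      rw [htop]
      exact Submodule.mem_top
    rw [LinearMap.mem_ker, LinearMap.add_apply, LinearMap.smul_apply, Module.End.one_apply,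
      one_smul] at hv
    rw [LinearMap.smul_apply, Module.End.one_apply, neg_one_smul]
    exact eq_neg_of_add_eq_zero_left hv
  have h1 : finrank F (LinearMap.ker (T - (1 : F) • 1)) ≠ 4 := by
    intro h
    have htop : LinearMap.ker (T - (1 : F) • 1) = ⊤ :=
      Submodule.eq_top_of_finrank_eq (by rw [h, hV])
    apply hns 1
    apply LinearMap.ext
    intro v
    have hv : v ∈ LinearMap.ker (T - (1 : F) • 1) := by
      rw [htop]
      exact Submodule.mem_top
    rw [LinearMap.mem_ker, LinearMap.sub_apply, LinearMap.smul_apply, Module.End.one_apply,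
      one_smul] at hv
    rw [LinearMap.smul_apply, Module.End.one_apply, one_smul]
    exact sub_eq_zero.mp hv
  omega

end Dim

section Suff

variable {F : Type u} [Field F] [Fintype F]

theorem sufficiency_fex (hodd : Odd (Fintype.card F)) {E : Type w} [Field E] [Algebra F E]
    [Finite E] [FiniteDimensional F E] (hkE : finrank F E = 2)
    (ι : E →ₐ[F] Module.End F (Fin 2 ⊕ Fin 2 → F)) (hSA : IsSA (sympBilin F 2) ι)
    (N : Subgroup (GL (Fin 2 ⊕ Fin 2) F))
    (hsemi : ∀ (g : GL (Fin 2 ⊕ Fin 2) F) (τ : E → E), Function.Surjective τ →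
      (∀ c v, (g : Matrix (Fin 2 ⊕ Fin 2) (Fin 2 ⊕ Fin 2) F) *ᵥ (ι c v) =
        ι (τ c) ((g : Matrix (Fin 2 ⊕ Fin 2) (Fin 2 ⊕ Fin 2) F) *ᵥ v)) → g ∈ N)
    (x : GL (Fin 2 ⊕ Fin 2) F) (hx : x ∈ spGL 2 F) (z : F)
    (hxz : ((x ^ 2 : GL (Fin 2 ⊕ Fin 2) F) : Matrix (Fin 2 ⊕ Fin 2) (Fin 2 ⊕ Fin 2) F) =
      z • (1 : Matrix (Fin 2 ⊕ Fin 2) (Fin 2 ⊕ Fin 2) F))
    (hxns : ∀ z : F, (x : Matrix (Fin 2 ⊕ Fin 2) (Fin 2 ⊕ Fin 2) F) ≠
      z • (1 : Matrix (Fin 2 ⊕ Fin 2) (Fin 2 ⊕ Fin 2) F)) :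
    ∃ g ∈ spGL 2 F, g⁻¹ * x * g ∈ N := by
  classical
  have hcard : Fintype.card F % 2 = 1 := Nat.odd_iff.mp hodd
  have h2F : (2 : F) ≠ 0 := two_ne_zero_of_odd hodd
  have hA := sympBilin_isAlt (F := F) (m := 2)
  have hB := sympBilin_nondegenerate (F := F) (m := 2)
  have hfinV : finrank F (Fin 2 ⊕ Fin 2 → F) = 4 := by
    rw [Module.finrank_fintype_fun_eq_card, Fintype.card_sum, Fintype.card_fin]
  have hfinV' : finrank F (Fin 2 ⊕ Fin 2 → F) = 2 * finrank F E * 1 := by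
    rw [hfinV, hkE]
  haveI : Nontrivial (Fin 2 ⊕ Fin 2 → F) := by
    apply (Module.finrank_pos_iff (R := F)).mp
    rw [hfinV]
    omega
  obtain ⟨T, hTdef⟩ : ∃ T : Module.End F (Fin 2 ⊕ Fin 2 → F), T = Matrix.toLin'
      (x : Matrix (Fin 2 ⊕ Fin 2) (Fin 2 ⊕ Fin 2) F) := ⟨_, rfl⟩
  have hiso : SpImp.IsIsom (sympBilin F 2) T := by
    rw [hTdef]
    exact isIsom_of_mem x hx
  have hT2 : ∀ v, T (T v) = z • v := by
    intro v
    rw [hTdef, ← LinearMap.comp_apply, ← Matrix.toLin'_mul, ← pow_two, ← Units.val_pow_eq_pow_val,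
      hxz, Matrix.toLin'_apply, Matrix.smul_mulVec, Matrix.one_mulVec]
  have hzz : z * z = 1 := by
    apply SpImp.scalar_sq (sympBilin F 2) hB z
    intro u v
    rw [LinearMap.smul_apply, LinearMap.smul_apply, Module.End.one_apply, Module.End.one_apply,
      ← hT2, ← hT2, hiso, hiso]
  have hz : z = 1 ∨ z = -1 := by
    have h1 : (z - 1) * (z + 1) = 0 := by linear_combination hzz
    rcases mul_eq_zero.mp h1 with h | h
    · left
      linear_combination h
    · right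
      linear_combination h
  have hTns : ∀ c : F, T ≠ c • 1 := by
    intro c hc
    apply hxns c
    apply Matrix.toLin'.injective
    rw [← hTdef, hc, map_smul, Matrix.toLin'_one]
    rfl
  -- the final step, common to both cases
  have hfinal : ∀ (Y : Module.End F (Fin 2 ⊕ Fin 2 → F)), SpImp.IsIsom (sympBilin F 2) Y →
      ∀ τ : E → E, Function.Surjective τ → (∀ c v, Y (ι c v) = ι (τ c) (Y v)) →
      (∃ γ : (Fin 2 ⊕ Fin 2 → F) ≃ₗ[F] (Fin 2 ⊕ Fin 2 → F),
        (∀ u v, sympBilin F 2 (γ u) (γ v) = sympBilin F 2 u v) ∧ ∀ v, γ (Y v) = T (γ v)) →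
      ∃ g ∈ spGL 2 F, g⁻¹ * x * g ∈ N := by
    intro Y hisoY τ hτ hYτ hγe
    obtain ⟨γ, hγ, hγc⟩ := hγe
    obtain ⟨y₂, hy₂, hy₂Y⟩ := exists_spgl_of_isom 2 Y hisoY
    obtain ⟨g, hg, hgx⟩ := conj_of_isom x y₂ γ hγ (by
      intro v
      have h1 := hγc v
      rw [hTdef, ← hy₂Y] at h1
      exact h1)
    refine ⟨g, hg, ?_⟩
    rw [hgx]
    apply hsemi y₂ τ hτ
    intro c v
    rw [← Matrix.toLin'_apply, ← Matrix.toLin'_apply, hy₂Y]
    exact hYτ c v
  rcases hz with rfl | rfl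
  · -- involutions
    have hT2' : ∀ v, T (T v) = v := by
      intro v
      rw [hT2, one_smul]
    obtain ⟨σ, Y, hσ1, hisoY, hY2, hYσ⟩ := exists_semi_invol (t := 1) h2F hA hB hSA hkE hfinV'
    have hYns : ∀ c : F, Y ≠ c • 1 := by
      intro c hc
      apply hσ1
      apply AlgEquiv.ext
      intro a
      obtain ⟨v, hv⟩ := exists_ne (0 : Fin 2 ⊕ Fin 2 → F)
      have hYv : Y v ≠ 0 := by
        intro h0
        apply hv
        rw [← hY2 v, h0, map_zero]
      have h1 := hYσ a v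
      rw [hc, LinearMap.smul_apply, Module.End.one_apply, LinearMap.smul_apply,
        Module.End.one_apply, ← map_smul] at h1
      have h2 : ι (σ a - a) (c • v) = 0 := by
        rw [map_sub, LinearMap.sub_apply, ← h1, sub_self]
      have hcv : c • v ≠ 0 := by
        have h3 : Y v = c • v := by
          rw [hc, LinearMap.smul_apply, Module.End.one_apply]
        rw [← h3]
        exact hYv
      have h4 := iota_apply_eq_zero ι hcv h2
      rw [AlgEquiv.one_apply]
      exact sub_eq_zero.mp h4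
    have hdim : finrank F (LinearMap.ker (Y + (1 : F) • 1)) =
        finrank F (LinearMap.ker (T + (1 : F) • 1)) := by
      rw [invol_dim_two (sympBilin F 2) h2F hA hB hfinV Y hisoY hY2 hYns,
        invol_dim_two (sympBilin F 2) h2F hA hB hfinV T hiso hT2' hTns]
    exact hfinal Y hisoY σ σ.surjective hYσ
      (conj_invol (sympBilin F 2) h2F hA hB Y T hisoY hY2 hiso hT2' hdim)
  · -- square `-1`
    have hT2' : ∀ v, T (T v) = -v := by
      intro v
      rw [hT2, neg_one_smul]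
    obtain ⟨Y, hisoY, hY2, hYc⟩ := exists_lin_sq_neg (t := 1) hA hB hSA hfinV'
    exact hfinal Y hisoY id Function.surjective_id hYc
      (conj_neg_one (sympBilin F 2) h2F (exists_sq_add_sq hcard) hA hB 2 (by rw [hfinV]) Y T
        hisoY hY2 hiso hT2')

/-- the abstract form of the theorem -/
theorem main_fex {p : ℕ} [hp : Fact p.Prime] [CharP F p]
    (d : ℕ) (hd : 2 ≤ d) {E : Type w} [Field E] [Algebra F E] [Finite E] [FiniteDimensional F E]
    (k : ℕ) (hk : k.Prime) (hkE : finrank F E = k)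
    (ι : E →ₐ[F] Module.End F (Fin d ⊕ Fin d → F)) (hSA : IsSA (sympBilin F d) ι)
    (N : Subgroup (GL (Fin d ⊕ Fin d) F))
    (hnorm : ∀ g ∈ N, ∀ a, ∃ a', ∀ v,
      (g : Matrix (Fin d ⊕ Fin d) (Fin d ⊕ Fin d) F) *ᵥ (ι a v) =
        ι a' ((g : Matrix (Fin d ⊕ Fin d) (Fin d ⊕ Fin d) F) *ᵥ v))
    (hsemi : ∀ (g : GL (Fin d ⊕ Fin d) F) (τ : E → E), Function.Surjective τ →
      (∀ c v, (g : Matrix (Fin d ⊕ Fin d) (Fin d ⊕ Fin d) F) *ᵥ (ι c v) =
        ι (τ c) ((g : Matrix (Fin d ⊕ Fin d) (Fin d ⊕ Fin d) F) *ᵥ v)) → g ∈ N)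
    (r : ℕ) [hr : Fact r.Prime] (hΩ : r ∣ N.relIndex (spGL d F)) :
    (∀ x ∈ Cfsg.spGL d F,
      (∃ z : F, ((x ^ r : GL (Fin d ⊕ Fin d) F) : Matrix (Fin d ⊕ Fin d) (Fin d ⊕ Fin d) F) =
        z • (1 : Matrix (Fin d ⊕ Fin d) (Fin d ⊕ Fin d) F)) →
      (∀ z : F, (x : Matrix (Fin d ⊕ Fin d) (Fin d ⊕ Fin d) F) ≠
        z • (1 : Matrix (Fin d ⊕ Fin d) (Fin d ⊕ Fin d) F)) →
      ∃ g ∈ Cfsg.spGL d F, g⁻¹ * x * g ∈ N) ↔
    (r = 2 ∧ d = 2 ∧ k = 2 ∧ Odd (Fintype.card F)) := by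
  constructor
  · intro hall
    exact necessity_fex d hd k hk hkE ι hSA N hnorm
      (fun g hg => hsemi g id Function.surjective_id hg) r hΩ hall
  · rintro ⟨rfl, rfl, rfl, hodd⟩
    intro x hx hz hxns
    obtain ⟨z, hxz⟩ := hz
    exact sufficiency_fex hodd hkE ι hSA N hsemi x hx z hxz hxns

end Suff

end Cfsg.Agent.Lib.Helper2.Fex
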