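import Mathlib
import Cfsg.Prelude.Def_GeometricClasses
import Cfsg.Agent.Lib.Helper2.FexH
set_option autoImplicit false
set_option maxHeartbeats 1000000
set_option linter.unusedVariables false
set_option linter.unusedSectionVars false
set_option linter.style.longLine false
set_option linter.unusedSimpArgs false
set_option linter.deprecated false
set_option linter.style.haveILetI false

/-! Field-extension subgroups of symplectic groups (part I): the field subalgebra as a field. -/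

namespace Cfsg.Agent.Lib.Helper2.Fex

open Module Cfsg Cfsg.Agent.Lib.Helper2 Cfsg.Agent.Lib.Helper5.SympBridge
  Cfsg.Agent.Lib.Helper5.SympTv Cfsg.Agent.Lib.Helper5.SpCentres
  Cfsg.Agent.Lib.Helper2.Ukf Cfsg.Agent.Lib.Helper2.Tsp Cfsg.Agent.Lib.Helper2.Tns
open scoped Matrix MatrixGroups

universe u

section KLevel

variable {F : Type u} [Field F] [Fintype F]

theorem isField_of_fieldSubalgebra {n : Type} [Fintype n] [DecidableEq n] (k : ℕ) (hk : 0 < k)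
    (K : Subalgebra F (Matrix n n F)) (hK : Cfsg.Geo.IsFieldSubalgebra k K) : IsField ↥K := by
  refine ⟨?_, ?_, ?_⟩
  · haveI : Nontrivial ↥K := by
      apply (Module.finrank_pos_iff (R := F)).mp
      rw [hK.finrank_eq]
      exact hk
    exact exists_pair_ne ↥K
  · intro x y
    exact Subtype.ext (hK.comm x.1 x.2 y.1 y.2)
  · intro a ha
    have ha' : a.1 ≠ 0 := by
      intro h
      apply ha
      exact Subtype.ext h
    obtain ⟨y, hy, hay⟩ := hK.inv a.1 a.2 ha'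
    exact ⟨⟨y, hy⟩, Subtype.ext hay⟩

theorem main_K {p : ℕ} [hp : Fact p.Prime] [CharP F p]
    (d : ℕ) (hd : 2 ≤ d) (k : ℕ) (hk : k.Prime)
    (K : Subalgebra F (Matrix (Fin d ⊕ Fin d) (Fin d ⊕ Fin d) F))
    (hK : Cfsg.Geo.IsFieldSubalgebra k K)
    (hKf : Cfsg.Geo.IsSelfAdjointFor (Cfsg.sympForm d F) K)
    (hKalt : ∀ a ∈ K, ∀ v : Fin d ⊕ Fin d → F, Cfsg.sympForm d F (a *ᵥ v) v = 0)
    (r : ℕ) [hr : Fact r.Prime]
    (hΩ : r ∣ (Cfsg.Geo.subalgebraNormalizer K).relIndex (Cfsg.spGL d F)) :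
    (∀ x ∈ Cfsg.spGL d F,
      (∃ z : F, ((x ^ r : GL (Fin d ⊕ Fin d) F) : Matrix (Fin d ⊕ Fin d) (Fin d ⊕ Fin d) F) =
        z • (1 : Matrix (Fin d ⊕ Fin d) (Fin d ⊕ Fin d) F)) →
      (∀ z : F, (x : Matrix (Fin d ⊕ Fin d) (Fin d ⊕ Fin d) F) ≠
        z • (1 : Matrix (Fin d ⊕ Fin d) (Fin d ⊕ Fin d) F)) →
      ∃ g ∈ Cfsg.spGL d F, g⁻¹ * x * g ∈ Cfsg.Geo.subalgebraNormalizer K) ↔
    (r = 2 ∧ d = 2 ∧ k = 2 ∧ Odd (Fintype.card F)) := by
  classical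
  have hfld : IsField ↥K := isField_of_fieldSubalgebra k hk.pos K hK
  letI : Field ↥K := hfld.toField
  obtain ⟨ι, hι⟩ : ∃ ι : ↥K →ₐ[F] Module.End F (Fin d ⊕ Fin d → F),
      ∀ (a : ↥K) (v : Fin d ⊕ Fin d → F),
        ι a v = (a : Matrix (Fin d ⊕ Fin d) (Fin d ⊕ Fin d) F) *ᵥ v :=
    ⟨((Matrix.toLinAlgEquiv' : Matrix (Fin d ⊕ Fin d) (Fin d ⊕ Fin d) F ≃ₐ[F]
      Module.End F (Fin d ⊕ Fin d → F)) : Matrix (Fin d ⊕ Fin d) (Fin d ⊕ Fin d) F →ₐ[F]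
      Module.End F (Fin d ⊕ Fin d → F)).comp K.val, fun a v => Matrix.toLinAlgEquiv'_apply _ v⟩
  have hSA : IsSA (sympBilin F d) ι := by
    refine ⟨?_, ?_⟩
    · intro a u v
      rw [hι, hι]
      exact hKf a.1 a.2 u v
    · intro a v
      rw [hι]
      exact hKalt a.1 a.2 v
  have hnorm : ∀ g ∈ Cfsg.Geo.subalgebraNormalizer K, ∀ a : ↥K, ∃ a' : ↥K, ∀ v,
      (g : Matrix (Fin d ⊕ Fin d) (Fin d ⊕ Fin d) F) *ᵥ (ι a v) =
        ι a' ((g : Matrix (Fin d ⊕ Fin d) (Fin d ⊕ Fin d) F) *ᵥ v) := by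
    intro g hg a
    have hg' : ∀ k' : Matrix (Fin d ⊕ Fin d) (Fin d ⊕ Fin d) F, k' ∈ K ↔
        (g : Matrix (Fin d ⊕ Fin d) (Fin d ⊕ Fin d) F) * k' *
          ((g⁻¹ : GL (Fin d ⊕ Fin d) F) : Matrix (Fin d ⊕ Fin d) (Fin d ⊕ Fin d) F) ∈ K := hg
    refine ⟨⟨_, (hg' a.1).mp a.2⟩, ?_⟩
    intro v
    rw [hι, hι, Matrix.mulVec_mulVec, Matrix.mulVec_mulVec, mul_assoc, mul_assoc, Units.inv_mul,
      mul_one]
  have hsemi : ∀ (g : GL (Fin d ⊕ Fin d) F) (τ : ↥K → ↥K), Function.Surjective τ →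
      (∀ c v, (g : Matrix (Fin d ⊕ Fin d) (Fin d ⊕ Fin d) F) *ᵥ (ι c v) =
        ι (τ c) ((g : Matrix (Fin d ⊕ Fin d) (Fin d ⊕ Fin d) F) *ᵥ v)) →
      g ∈ Cfsg.Geo.subalgebraNormalizer K := by
    intro g τ hτ h
    have hmat : ∀ c : ↥K, (g : Matrix (Fin d ⊕ Fin d) (Fin d ⊕ Fin d) F) * c.1 =
        (τ c).1 * (g : Matrix (Fin d ⊕ Fin d) (Fin d ⊕ Fin d) F) := by
      intro c
      apply Matrix.toLin'.injective
      apply LinearMap.ext
      intro v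
      rw [Matrix.toLin'_mul, Matrix.toLin'_mul, LinearMap.comp_apply, LinearMap.comp_apply,
        Matrix.toLin'_apply, Matrix.toLin'_apply, Matrix.toLin'_apply, Matrix.toLin'_apply]
      have h1 := h c v
      rw [hι, hι] at h1
      exact h1
    have hconj : ∀ c : ↥K, (g : Matrix (Fin d ⊕ Fin d) (Fin d ⊕ Fin d) F) * c.1 *
        ((g⁻¹ : GL (Fin d ⊕ Fin d) F) : Matrix (Fin d ⊕ Fin d) (Fin d ⊕ Fin d) F) = (τ c).1 := by
      intro c
      rw [hmat, mul_assoc, Units.mul_inv, mul_one]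
    show ∀ k' : Matrix (Fin d ⊕ Fin d) (Fin d ⊕ Fin d) F, k' ∈ K ↔
        (g : Matrix (Fin d ⊕ Fin d) (Fin d ⊕ Fin d) F) * k' *
          ((g⁻¹ : GL (Fin d ⊕ Fin d) F) : Matrix (Fin d ⊕ Fin d) (Fin d ⊕ Fin d) F) ∈ K
    intro k'
    constructor
    · intro hk'
      have h1 := hconj ⟨k', hk'⟩
      rw [h1]
      exact (τ ⟨k', hk'⟩).2
    · intro hk'
      obtain ⟨c, hc⟩ := hτ ⟨_, hk'⟩
      have h1 := hconj c
      rw [hc] at h1
      have h2 : (g : Matrix (Fin d ⊕ Fin d) (Fin d ⊕ Fin d) F) * c.1 =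
          (g : Matrix (Fin d ⊕ Fin d) (Fin d ⊕ Fin d) F) * k' := by
        have h3 := congrArg (fun M : Matrix (Fin d ⊕ Fin d) (Fin d ⊕ Fin d) F =>
          M * (g : Matrix (Fin d ⊕ Fin d) (Fin d ⊕ Fin d) F)) h1
        simp only [mul_assoc, Units.inv_mul, mul_one] at h3
        exact h3
      have h4 : c.1 = k' := by
        have h5 := congrArg (fun M : Matrix (Fin d ⊕ Fin d) (Fin d ⊕ Fin d) F =>
          ((g⁻¹ : GL (Fin d ⊕ Fin d) F) : Matrix (Fin d ⊕ Fin d) (Fin d ⊕ Fin d) F) * M) h2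
        simp only [← mul_assoc, Units.inv_mul, one_mul] at h5
        exact h5
      rw [← h4]
      exact c.2
  exact main_fex d hd k hk hK.finrank_eq ι hSA (Cfsg.Geo.subalgebraNormalizer K) hnorm hsemi r hΩ

end KLevel

end Cfsg.Agent.Lib.Helper2.Fex
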