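import Mathlib
import Cfsg.Agent.Lib.Helper2.FixHol

set_option autoImplicit false
set_option linter.style.haveILetI false

/-! For a finite `p`-group `P` acting on a finite `p'`-group `F`:
`(∏_{x ∈ P} |C_F(x)|) ^ p ≤ |F| ^ |P| * |C_F(P)| ^ (|P| (p - 1))`. -/

namespace Cfsg.Agent.Lib.Helper2.FixProd

open Cfsg.Agent.Lib.Helper2.FixHol

universe u v

/-- Fixed subgroup of an automorphism. -/
def fixSub {F : Type u} [Group F] (z : MulAut F) : Subgroup F where
  carrier := {u | z u = u}
  one_mem' := map_one z
  mul_mem' := by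
    intro a b ha hb
    have ha' : z a = a := ha
    have hb' : z b = b := hb
    show z (a * b) = a * b
    rw [map_mul, ha', hb']
  inv_mem' := by
    intro a ha
    have ha' : z a = a := ha
    show z a⁻¹ = a⁻¹
    rw [map_inv, ha']

theorem mem_fixSub {F : Type u} [Group F] (z : MulAut F) (u : F) : u ∈ fixSub z ↔ z u = u :=
  Iff.rfl

theorem fix_mem {F : Type u} [Group F] {P : Type v} [Group P] (φ : P →* MulAut F) (z : MulAut F)
    (hc : ∀ x, φ x * z = z * φ x) (x : P) (u : F) (hu : z u = u) : z (φ x u) = φ x u := by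
  have h1 : (φ x * z) u = (z * φ x) u := by rw [hc x]
  rw [MulAut.mul_apply, MulAut.mul_apply, hu] at h1
  exact h1.symm

/-- Restriction of the action to the fixed subgroup of a central automorphism. -/
def rho {F : Type u} [Group F] {P : Type v} [Group P] (φ : P →* MulAut F) (z : MulAut F)
    (hc : ∀ x, φ x * z = z * φ x) : P →* MulAut (fixSub z) where
  toFun x :=
    { toFun := fun u => ⟨φ x u.1, fix_mem φ z hc x u.1 u.2⟩
      invFun := fun u => ⟨φ x⁻¹ u.1, fix_mem φ z hc x⁻¹ u.1 u.2⟩
      left_inv := fun u => Subtype.ext (by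
        show φ x⁻¹ (φ x u.1) = u.1
        rw [← MulAut.mul_apply, ← map_mul, inv_mul_cancel, map_one]; rfl)
      right_inv := fun u => Subtype.ext (by
        show φ x (φ x⁻¹ u.1) = u.1
        rw [← MulAut.mul_apply, ← map_mul, mul_inv_cancel, map_one]; rfl)
      map_mul' := fun u v => Subtype.ext (map_mul (φ x) u.1 v.1) }
  map_one' := by
    apply MulEquiv.ext
    intro u
    apply Subtype.ext
    show φ 1 u.1 = u.1
    rw [map_one]; rfl
  map_mul' := fun x y => by
    apply MulEquiv.ext
    intro u
    apply Subtype.ext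
    show φ (x * y) u.1 = φ x (φ y u.1)
    rw [map_mul]; rfl

theorem rho_apply {F : Type u} [Group F] {P : Type v} [Group P] (φ : P →* MulAut F)
    (z : MulAut F) (hc : ∀ x, φ x * z = z * φ x) (x : P) (v : fixSub z) :
    ((rho φ z hc x v : fixSub z) : F) = φ x v.1 := rfl

theorem card_fix_rho {F : Type u} [Group F] {P : Type v} [Group P] (φ : P →* MulAut F)
    (z : MulAut F) (hc : ∀ x, φ x * z = z * φ x) (x : P) :
    Nat.card {v : fixSub z // rho φ z hc x v = v} = Nat.card {u : F // φ x u = u ∧ z u = u} := by
  apply Nat.card_congr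
  exact
    { toFun := fun v => ⟨v.1.1, congrArg Subtype.val v.2, v.1.2⟩
      invFun := fun u => ⟨⟨u.1, u.2.2⟩, Subtype.ext u.2.1⟩
      left_inv := fun v => rfl
      right_inv := fun u => rfl }

theorem card_fixall_rho {F : Type u} [Group F] {P : Type v} [Group P] (φ : P →* MulAut F)
    (z : MulAut F) (hc : ∀ x, φ x * z = z * φ x) (z₀ : P) (hz₀ : φ z₀ = z) :
    Nat.card {v : fixSub z // ∀ x : P, rho φ z hc x v = v} =
      Nat.card {u : F // ∀ x : P, φ x u = u} := by
  apply Nat.card_congr
  exact
    { toFun := fun v => ⟨v.1.1, fun x => congrArg Subtype.val (v.2 x)⟩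
      invFun := fun u => ⟨⟨u.1, by
        show z u.1 = u.1
        rw [← hz₀]; exact u.2 z₀⟩, fun x => Subtype.ext (u.2 x)⟩
      left_inv := fun v => rfl
      right_inv := fun u => rfl }

theorem fix_prod (p : ℕ) [hp : Fact p.Prime] (P : Type v) [Group P] [Fintype P]
    (hP : IsPGroup p P) :
    ∀ (n : ℕ) (F : Type u) [Group F] [Finite F], Nat.card F = n → ¬ p ∣ n →
      ∀ φ : P →* MulAut F,
      (∏ x : P, Nat.card {u : F // φ x u = u}) ^ p ≤
        n ^ Fintype.card P *
          (Nat.card {u : F // ∀ x : P, φ x u = u}) ^ (Fintype.card P * (p - 1)) := by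
  intro n
  induction n using Nat.strong_induction_on with
  | _ n ih =>
    intro F _ _ hFn hpn φ
    have hp1 : 1 + (p - 1) = p := by
      have := hp.out.one_le
      omega
    by_cases htriv : ∀ x, φ x = 1
    · have h1 : ∀ x : P, Nat.card {u : F // φ x u = u} = n := by
        intro x
        rw [htriv x, ← hFn]
        exact Nat.card_congr (Equiv.subtypeUnivEquiv (fun u => rfl))
      have h2 : Nat.card {u : F // ∀ x : P, φ x u = u} = n := by
        rw [← hFn]
        exact Nat.card_congr (Equiv.subtypeUnivEquiv (fun u x => by rw [htriv x]; rfl))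
      rw [Finset.prod_congr rfl (fun x _ => h1 x), h2, Finset.prod_const, Finset.card_univ,
        ← pow_mul, ← pow_add]
      apply le_of_eq
      congr 1
      calc Fintype.card P * p = Fintype.card P * (1 + (p - 1)) := by rw [hp1]
        _ = Fintype.card P + Fintype.card P * (p - 1) := by ring
    · push Not at htriv
      obtain ⟨x₀, hx₀⟩ := htriv
      have hR : IsPGroup p φ.range := hP.of_surjective φ.rangeRestrict φ.rangeRestrict_surjective
      haveI : Nontrivial ↥φ.range :=
        ⟨⟨⟨φ x₀, x₀, rfl⟩, 1, fun h => hx₀ (congrArg Subtype.val h)⟩⟩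
      haveI := hR.center_nontrivial
      have hCp : IsPGroup p (Subgroup.center ↥φ.range) := hR.to_subgroup _
      obtain ⟨k, hk⟩ := IsPGroup.iff_card.1 hCp
      have hk0 : k ≠ 0 := by
        intro h0
        rw [h0, pow_zero] at hk
        have := Finite.one_lt_card (α := Subgroup.center ↥φ.range)
        omega
      have hdvd : p ∣ Nat.card (Subgroup.center ↥φ.range) := by
        rw [hk]; exact dvd_pow_self p hk0
      obtain ⟨c, hc⟩ := exists_prime_orderOf_dvd_card' p hdvd
      -- the central automorphism
      obtain ⟨z₀, hz₀⟩ : ∃ z₀ : P, φ z₀ = (c.1.1 : MulAut F) := c.1.2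
      have hzp : (c.1.1 : MulAut F) ^ p = 1 := by
        have h1 : c ^ p = 1 := by rw [← hc]; exact pow_orderOf_eq_one c
        have h2 := congrArg (fun t : Subgroup.center ↥φ.range => ((t.1.1 : MulAut F))) h1
        simpa using h2
      have hz1 : (c.1.1 : MulAut F) ≠ 1 := by
        intro h
        have h1 : c = 1 := Subtype.ext (Subtype.ext h)
        rw [h1, orderOf_one] at hc
        exact hp.out.one_lt.ne hc
      have hcomm : ∀ x, φ x * (c.1.1 : MulAut F) = (c.1.1 : MulAut F) * φ x := by
        intro x
        have h1 := (Subgroup.mem_center_iff.1 c.2) ⟨φ x, x, rfl⟩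
        exact congrArg Subtype.val h1
      have hzR : (c.1.1 : MulAut F) ∈ φ.range := c.1.2
      -- the fixed subgroup
      have hlt : Nat.card ↥(fixSub (c.1.1 : MulAut F)) < n := by
        rw [← hFn]
        apply lt_of_le_of_ne (Subgroup.card_le_card_group _)
        intro heq
        have htop := Subgroup.eq_top_of_card_eq _ heq
        apply hz1
        apply MulEquiv.ext
        intro u
        have hu : u ∈ fixSub (c.1.1 : MulAut F) := by rw [htop]; exact Subgroup.mem_top u
        exact hu
      have hp₀ : ¬ p ∣ Nat.card ↥(fixSub (c.1.1 : MulAut F)) := by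
        intro h
        apply hpn
        rw [← hFn]
        exact h.trans (Subgroup.card_subgroup_dvd_card _)
      have IH := ih _ hlt (↥(fixSub (c.1.1 : MulAut F))) rfl hp₀ (rho φ _ hcomm)
      rw [Finset.prod_congr rfl (fun x _ => card_fix_rho φ _ hcomm x),
        card_fixall_rho φ _ hcomm z₀ hz₀] at IH
      -- the inequality for each x
      have hF' : ¬ p ∣ Nat.card F := by rw [hFn]; exact hpn
      have hf₀ : Nat.card {u : F // (c.1.1 : MulAut F) u = u} =
          Nat.card ↥(fixSub (c.1.1 : MulAut F)) := rfl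
      have hW : ∀ x : P,
          (∏ i ∈ Finset.range p, Nat.card {u : F // φ (x * z₀ ^ i) u = u}) *
            Nat.card ↥(fixSub (c.1.1 : MulAut F)) ≤
          n * (Nat.card {u : F // φ x u = u ∧ (c.1.1 : MulAut F) u = u}) ^ p := by
        intro x
        have h1 := W1_abs hF' φ.range hR ⟨x, rfl⟩ hzR (hcomm x) hzp
        rw [hf₀, hFn] at h1
        have h2 : ∀ i ∈ Finset.range p,
            Nat.card {u : F // (φ x * (c.1.1 : MulAut F) ^ i) u = u} =
            Nat.card {u : F // φ (x * z₀ ^ i) u = u} := by
          intro i _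
          rw [map_mul, map_pow, hz₀]
        rw [Finset.prod_congr rfl h2] at h1
        apply Nat.le_of_dvd _ h1
        apply Nat.mul_pos
        · rw [← hFn]; exact Nat.card_pos
        · apply pow_pos
          haveI : Nonempty {u : F // φ x u = u ∧ (c.1.1 : MulAut F) u = u} :=
            ⟨⟨1, map_one _, map_one _⟩⟩
          exact Nat.card_pos
      have hprod := Finset.prod_le_prod (s := (Finset.univ : Finset P))
        (fun x _ => Nat.zero_le _) (fun x _ => hW x)
      rw [Finset.prod_mul_distrib, Finset.prod_mul_distrib, Finset.prod_const, Finset.prod_const,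
        Finset.card_univ, Finset.prod_pow, Finset.prod_comm] at hprod
      have hshift : ∀ i ∈ Finset.range p,
          ∏ x : P, Nat.card {u : F // φ (x * z₀ ^ i) u = u} =
          ∏ x : P, Nat.card {u : F // φ x u = u} := by
        intro i _
        exact Equiv.prod_comp (Equiv.mulRight (z₀ ^ i))
          (fun x : P => Nat.card {u : F // φ x u = u})
      rw [Finset.prod_congr rfl hshift, Finset.prod_const, Finset.card_range] at hprod
      -- combine
      have hf₀pos : 0 < Nat.card ↥(fixSub (c.1.1 : MulAut F)) ^ Fintype.card P :=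
        pow_pos Nat.card_pos _
      apply Nat.le_of_mul_le_mul_right _ hf₀pos
      calc (∏ x : P, Nat.card {u : F // φ x u = u}) ^ p *
            Nat.card ↥(fixSub (c.1.1 : MulAut F)) ^ Fintype.card P
          ≤ n ^ Fintype.card P *
            (∏ x : P, Nat.card {u : F // φ x u = u ∧ (c.1.1 : MulAut F) u = u}) ^ p := hprod
        _ ≤ n ^ Fintype.card P * (Nat.card ↥(fixSub (c.1.1 : MulAut F)) ^ Fintype.card P *
              Nat.card {u : F // ∀ x : P, φ x u = u} ^ (Fintype.card P * (p - 1))) :=
            Nat.mul_le_mul_left _ IH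
        _ = n ^ Fintype.card P *
              Nat.card {u : F // ∀ x : P, φ x u = u} ^ (Fintype.card P * (p - 1)) *
              Nat.card ↥(fixSub (c.1.1 : MulAut F)) ^ Fintype.card P := by ring

end Cfsg.Agent.Lib.Helper2.FixProd
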