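import Mathlib
import Cfsg.Agent.Lib.Helper2.ZS7
import Cfsg.Agent.Lib.Helper1.FittingCentralizer
import Cfsg.Agent.Lib.Helper1.PCore
import Cfsg.Agent.Lib.Helper1.PLengthOne

set_option autoImplicit false
set_option linter.unusedSectionVars false
open Cfsg

/-!
# Solvable groups with large generalized quaternion Sylow 2-subgroups

If `G` is solvable with `O(G) = 1` and a Sylow `2`-subgroup isomorphic to `QuaternionGroup m`,
`m ≥ 8`, then `G` is a `2`-group: every element of odd order is trivial.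
-/

namespace Cfsg.Agent.Lib.Helper2.QuatSolv

open QuaternionGroup Cfsg.Agent.Lib.Helper2.ZS

theorem natCast_ne_zero_of_lt {m k : ℕ} (hk0 : 0 < k) (hk : k < 2 * m) :
    ((k : ℕ) : ZMod (2 * m)) ≠ 0 := by
  intro h
  rw [ZMod.natCast_eq_zero_iff] at h
  have := Nat.le_of_dvd hk0 h
  omega

theorem pow_eq_one_of_coprime {G : Type*} [Group G] {y : G} {j k : ℕ} (hk : Odd k)
    (h1 : y ^ 2 ^ j = 1) (h2 : y ^ k = 1) : y = 1 := by
  have h3 : orderOf y ∣ 2 ^ j := orderOf_dvd_of_pow_eq_one h1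
  have h4 : orderOf y ∣ k := orderOf_dvd_of_pow_eq_one h2
  have h5 : (2 ^ j).Coprime k := Nat.Coprime.pow_left j (Nat.coprime_two_left.mpr hk)
  exact orderOf_eq_one_iff.mp (Nat.eq_one_of_dvd_coprimes h5 h3 h4)

theorem odd_eq_one {G : Type*} [Group G] [Finite G] [Group.IsSolvable G]
    (hO : Cfsg.pPrimeCore 2 G = ⊥) (T : Sylow 2 G) (m : ℕ) (hm : 8 ≤ m)
    (e : (T : Subgroup G) ≃* QuaternionGroup m) (x : G) (hx : Odd (orderOf x)) : x = 1 := by
  have : Fact (Nat.Prime 2) := ⟨Nat.prime_two⟩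
  have : NeZero m := ⟨by omega⟩
  have : NeZero (2 * m) := ⟨by omega⟩
  set Q := Cfsg.pCore 2 G with hQ
  have hQn : Q.Normal := Cfsg.Agent.Lib.Helper1.pCore_normal 2
  have hQT : Q ≤ (T : Subgroup G) := Cfsg.Agent.Lib.Helper1.pCore_le_sylow 2 T
  have hCQ : Subgroup.centralizer (Q : Set G) ≤ Q :=
    Cfsg.Agent.Lib.Helper1.centralizer_pCore_le 2 hO
  set cT : (T : Subgroup G) := e.symm (a 1) with hcT
  set c : G := (cT : G) with hc
  set R := Subgroup.zpowers c with hR
  have hecT : e cT = a 1 := e.apply_symm_apply _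
  -- rotations
  have hrot : ∀ t : (T : Subgroup G), (t : G) ∈ R ↔ ∃ i, e t = a i := by
    intro t
    constructor
    · intro ht
      obtain ⟨k, hk⟩ := Subgroup.mem_zpowers_iff.mp ht
      have h1 : t = cT ^ k := by
        apply Subtype.ext
        rw [Subgroup.coe_zpow, ← hk]
      rw [h1, map_zpow, hecT]
      have h2 : ∀ k : ℤ, ∃ i, (a 1 : QuaternionGroup m) ^ k = a i := by
        intro k
        induction k using Int.induction_on with
        | zero => exact ⟨0, by rw [zpow_zero, one_def]⟩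
        | succ k ih =>
          obtain ⟨i, hi⟩ := ih
          exact ⟨i + 1, by rw [zpow_add_one, hi, a_mul_a]⟩
        | pred k ih =>
          obtain ⟨i, hi⟩ := ih
          refine ⟨i - 1, ?_⟩
          rw [zpow_sub_one, hi, quat_inv_a, a_mul_a]
          congr 1
          ring
      exact h2 k
    · rintro ⟨i, hi⟩
      have h1 : t = cT ^ i.val := by
        apply e.injective
        rw [map_pow, hecT, a_one_pow, ZMod.natCast_zmod_val, hi]
      rw [h1, Subgroup.coe_pow]
      exact Subgroup.pow_mem _ (Subgroup.mem_zpowers c) _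
  have hpow4 : ∀ t : (T : Subgroup G), (t : G) ^ 4 ≠ 1 → (t : G) ∈ R := by
    intro t ht
    rw [hrot]
    rcases hte : e t with i | i
    · exact ⟨i, rfl⟩
    · exfalso
      apply ht
      have h1 : t ^ 4 = 1 := by
        apply e.injective
        rw [map_pow, hte, xa_pow_four, map_one]
      have := congrArg Subtype.val h1
      simpa using this
  have hnotrot : ∀ t : (T : Subgroup G), (t : G) ∉ R → ∃ i, e t = xa i := by
    intro t ht
    rcases hte : e t with i | i
    · exact absurd ((hrot t).mpr ⟨i, hte⟩) ht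
    · exact ⟨i, rfl⟩
  have h4ne : ((4 : ℕ) : ZMod (2 * m)) ≠ 0 := natCast_ne_zero_of_lt (by norm_num) (by omega)
  have h8ne : ((8 : ℕ) : ZMod (2 * m)) ≠ 0 := natCast_ne_zero_of_lt (by norm_num) (by omega)
  -- an element of `Q ∩ R` whose fourth power is nontrivial
  obtain ⟨b, hbQ, hbR, hb4⟩ : ∃ b : G, b ∈ Q ∧ b ∈ R ∧ b ^ 4 ≠ 1 := by
    by_cases hcase : ∀ q : (T : Subgroup G), (q : G) ∈ Q → (q : G) ∈ R
    · have hcC : c ∈ Subgroup.centralizer (Q : Set G) := by
        rw [Subgroup.mem_centralizer_iff]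
        intro q hq
        have hqR := hcase ⟨q, hQT hq⟩ hq
        exact (zpowers_commute hqR (Subgroup.mem_zpowers c)).eq
      refine ⟨c, hCQ hcC, Subgroup.mem_zpowers c, ?_⟩
      intro h
      have h1 : cT ^ 4 = 1 := by
        apply Subtype.ext
        rw [Subgroup.coe_pow]; exact h
      have h2 := congrArg e h1
      rw [map_pow, hecT, a_one_pow, map_one, one_def] at h2
      exact h4ne (a.inj h2)
    · simp only [not_forall] at hcase
      obtain ⟨q, hqQ, hqR⟩ := hcase
      obtain ⟨i, hi⟩ := hnotrot q hqR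
      set bT : (T : Subgroup G) := q⁻¹ * (cT * q * cT⁻¹) with hbT
      have hebT : e bT = a (-2) := by
        rw [hbT, map_mul, map_inv, map_mul, map_mul, map_inv, hi, hecT, quat_inv_xa, quat_inv_a,
          a_mul_xa, xa_mul_a, xa_mul_xa]
        congr 1
        ring
      refine ⟨(bT : G), ?_, (hrot bT).mpr ⟨_, hebT⟩, ?_⟩
      · have h1 : c * (q : G) * c⁻¹ ∈ Q := hQn.conj_mem _ hqQ c
        have h2 : ((bT : (T : Subgroup G)) : G) = (q : G)⁻¹ * (c * (q : G) * c⁻¹) := by
          rw [hbT]; simp [hc]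
        rw [h2]
        exact Q.mul_mem (Q.inv_mem hqQ) h1
      · intro h
        have h1 : bT ^ 4 = 1 := by
          apply Subtype.ext
          rw [Subgroup.coe_pow]; exact h
        have h2 := congrArg e h1
        rw [map_pow, hebT, map_one, one_def] at h2
        have h3 : (a (-2) : QuaternionGroup m) ^ 4 = a (-8) := by
          simp only [pow_succ, pow_zero, one_mul, a_mul_a]
          congr 1
          ring
        rw [h3] at h2
        have h5 : (-8 : ZMod (2 * m)) = 0 := a.inj h2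
        apply h8ne
        have h6 : ((8 : ℕ) : ZMod (2 * m)) = -(-8) := by push_cast; ring
        rw [h6, h5, neg_zero]
  -- `Q ∩ R` is a normal cyclic subgroup
  have hcyc : IsCyclic (Q ⊓ R : Subgroup G) :=
    Subgroup.isCyclic_of_le (inf_le_right : Q ⊓ R ≤ R)
  have hB₁n : (Q ⊓ R).Normal := by
    obtain ⟨y₀, hy₀⟩ := IsCyclic.exists_generator (α := (Q ⊓ R : Subgroup G))
    have hy4 : (y₀ : G) ^ 4 ≠ 1 := by
      intro h
      obtain ⟨k, hk⟩ := Subgroup.mem_zpowers_iff.mp (hy₀ ⟨b, hbQ, hbR⟩)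
      apply hb4
      have h1 : b = (y₀ : G) ^ k := by
        rw [← Subgroup.coe_zpow, hk]
      rw [h1, ← zpow_natCast, ← zpow_mul, mul_comm, zpow_mul, zpow_natCast, h, one_zpow]
    constructor
    intro n hn g
    obtain ⟨k, hk⟩ := Subgroup.mem_zpowers_iff.mp (hy₀ ⟨n, hn⟩)
    have hn' : n = (y₀ : G) ^ k := by
      rw [← Subgroup.coe_zpow, hk]
    have hconj : g * (y₀ : G) * g⁻¹ ∈ Q ⊓ R := by
      have h1 : g * (y₀ : G) * g⁻¹ ∈ Q := hQn.conj_mem _ y₀.2.1 g
      refine ⟨h1, ?_⟩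
      apply hpow4 ⟨_, hQT h1⟩
      show (g * (y₀ : G) * g⁻¹) ^ 4 ≠ 1
      rw [conj_pow]
      intro h
      apply hy4
      have e1 : (y₀ : G) ^ 4 = g⁻¹ * (g * (y₀ : G) ^ 4 * g⁻¹) * g := by group
      rw [e1, h]; group
    rw [hn', ← conj_zpow]
    exact Subgroup.zpow_mem _ hconj k
  have hB₁p : IsPGroup 2 (Q ⊓ R : Subgroup G) := T.2.to_le (inf_le_left.trans hQT)
  have hxB : ∀ y ∈ Q ⊓ R, x * y * x⁻¹ = y := by
    apply odd_centralizes_cyclic (Q ⊓ R) hB₁p hcyc ?_ hx
    rw [Subgroup.normalizer_eq_top_iff.mpr hB₁n]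
    exact Subgroup.mem_top x
  -- `x` centralizes `Q`
  have hxQ : ∀ q ∈ Q, x * q * x⁻¹ = q := by
    intro q hq
    by_cases hqR : q ∈ R
    · exact hxB q ⟨hq, hqR⟩
    · set q' := x * q * x⁻¹ with hq'
      have hq'Q : q' ∈ Q := hQn.conj_mem q hq x
      have hq'R : q' ∉ R := by
        intro h
        have h1 := hB₁n.conj_mem q' ⟨hq'Q, h⟩ x⁻¹
        have e1 : x⁻¹ * q' * x⁻¹⁻¹ = q := by rw [hq']; group
        rw [e1] at h1
        exact hqR h1.2
      have hb' : q⁻¹ * q' ∈ Q ⊓ R := by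
        refine ⟨Q.mul_mem (Q.inv_mem hq) hq'Q, ?_⟩
        obtain ⟨i, hi⟩ := hnotrot ⟨q, hQT hq⟩ hqR
        obtain ⟨j, hj⟩ := hnotrot ⟨q', hQT hq'Q⟩ hq'R
        have h1 := (hrot ((⟨q, hQT hq⟩ : (T : Subgroup G))⁻¹ * ⟨q', hQT hq'Q⟩)).mpr ⟨j - i, by
          rw [map_mul, map_inv, hi, hj, quat_inv_xa, xa_mul_xa]
          congr 1
          ring⟩
        simpa using h1
      set b' := q⁻¹ * q' with hb'def
      have hqb : q' = q * b' := by rw [hb'def]; group
      have hxb' : x * b' * x⁻¹ = b' := hxB b' hb'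
      have hiter : ∀ k : ℕ, x ^ k * q * (x ^ k)⁻¹ = q * b' ^ k := by
        intro k
        induction k with
        | zero => simp
        | succ k ih =>
          have e1 : x ^ (k + 1) * q * (x ^ (k + 1))⁻¹ = x * (x ^ k * q * (x ^ k)⁻¹) * x⁻¹ := by
            rw [pow_succ']; group
          have e2 : x * (q * b' ^ k) * x⁻¹ = (x * q * x⁻¹) * (x * b' * x⁻¹) ^ k := by
            rw [conj_pow]; group
          rw [e1, ih, e2, hxb', ← hq', hqb, pow_succ', mul_assoc]
      have h1 := hiter (orderOf x)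
      rw [pow_orderOf_eq_one, inv_one, one_mul, mul_one] at h1
      have h2 : b' ^ orderOf x = 1 := by
        have h3 : q * 1 = q * b' ^ orderOf x := by rw [mul_one]; exact h1
        exact (mul_left_cancel h3).symm
      have h3 : b' = 1 := by
        obtain ⟨j, hj⟩ := T.2 ⟨b', hQT hb'.1⟩
        have hj' : b' ^ 2 ^ j = 1 := by
          have := congrArg Subtype.val hj
          simpa using this
        exact pow_eq_one_of_coprime hx hj' h2
      rw [hqb, h3, mul_one]
  have hxC : x ∈ Subgroup.centralizer (Q : Set G) := by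
    rw [Subgroup.mem_centralizer_iff]
    intro q hq
    have h1 := hxQ q hq
    calc q * x = x * q * x⁻¹ * x := by rw [h1]
      _ = x * q := by group
  have hxT : x ∈ (T : Subgroup G) := hQT (hCQ hxC)
  obtain ⟨j, hj⟩ := T.2 ⟨x, hxT⟩
  have hj' : x ^ 2 ^ j = 1 := by
    have := congrArg Subtype.val hj
    simpa using this
  exact pow_eq_one_of_coprime hx hj' (pow_orderOf_eq_one x)

end Cfsg.Agent.Lib.Helper2.QuatSolv
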