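import Mathlib
import Cfsg.Agent.Lib.Helper2.FrobCompA
import Cfsg.Agent.Lib.Helper2.QuatSolv
import Cfsg.Agent.Lib.Helper2.QuatAut
set_option autoImplicit false
set_option maxHeartbeats 1000000
set_option linter.unusedVariables false
set_option linter.unusedSectionVars false
set_option linter.style.longLine false
set_option linter.unusedSimpArgs false
set_option linter.deprecated false
set_option linter.style.haveILetI false
open scoped commutatorElement Pointwise
universe u v

/-! Solvable Frobenius complements, part B: solvable groups with `O(X) = 1` and at most one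
involution have a subgroup of index at most 4 whose core has cyclic `2`-subgroups. -/

namespace Cfsg.Agent.Lib.Helper2.FrobComp

open Cfsg Cfsg.Agent.Lib.Lead.UniqueP Cfsg.Agent.Lib.Helper2.ZS QuaternionGroup
open Cfsg.Agent.Lib.Helper2.QuatSolv

/-- an element of odd order normalizing a generalized quaternion `2`-subgroup of order at least 16
centralizes it -/
theorem odd_centralizes_quat {G : Type*} [Group G] [Finite G] (D : Subgroup G)
    (hD : IsPGroup 2 D) (m : ℕ) (hm : 4 ≤ m) (e : ↥D ≃* QuaternionGroup m) (x : G)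
    (hxN : x ∈ Subgroup.normalizer (D : Set G)) (hx : Odd (orderOf x)) :
    ∀ q ∈ D, x * q * x⁻¹ = q := by
  have : NeZero m := ⟨by omega⟩
  have : NeZero (2 * m) := ⟨by omega⟩
  set cT : ↥D := e.symm (a 1) with hcT
  set c : G := (cT : G) with hc
  set R := Subgroup.zpowers c with hR
  have hecT : e cT = a 1 := e.apply_symm_apply _
  have hrot : ∀ t : ↥D, (t : G) ∈ R ↔ ∃ i, e t = a i := by
    intro t
    constructor
    · intro ht
      obtain ⟨k, hk⟩ := Subgroup.mem_zpowers_iff.mp ht
      have h1 : t = cT ^ k := by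
        apply Subtype.ext
        rw [Subgroup.coe_zpow, ← hk]
      rw [h1, map_zpow, hecT]
      have h2 : ∀ k : ℤ, ∃ i, (a 1 : QuaternionGroup m) ^ k = a i := by
        intro k
        induction k using Int.induction_on with
        | zero => exact ⟨0, by rw [zpow_zero, one_def]⟩
        | succ k ih =>
          obtain ⟨i, hi⟩ := ih
          exact ⟨i + 1, by rw [zpow_add_one, hi, a_mul_a]⟩
        | pred k ih =>
          obtain ⟨i, hi⟩ := ih
          refine ⟨i - 1, ?_⟩
          rw [zpow_sub_one, hi, quat_inv_a, a_mul_a]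
          congr 1
          ring
      exact h2 k
    · rintro ⟨i, hi⟩
      have h1 : t = cT ^ i.val := by
        apply e.injective
        rw [map_pow, hecT, a_one_pow, ZMod.natCast_zmod_val, hi]
      rw [h1, Subgroup.coe_pow]
      exact Subgroup.pow_mem _ (Subgroup.mem_zpowers c) _
  have hpow4 : ∀ t : ↥D, (t : G) ^ 4 ≠ 1 → (t : G) ∈ R := by
    intro t ht
    rw [hrot]
    rcases hte : e t with i | i
    · exact ⟨i, rfl⟩
    · exfalso
      apply ht
      have h1 : t ^ 4 = 1 := by
        apply e.injective
        rw [map_pow, hte, xa_pow_four, map_one]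
      have := congrArg Subtype.val h1
      simpa using this
  have hnotrot : ∀ t : ↥D, (t : G) ∉ R → ∃ i, e t = xa i := by
    intro t ht
    rcases hte : e t with i | i
    · exact absurd ((hrot t).mpr ⟨i, hte⟩) ht
    · exact ⟨i, rfl⟩
  have h4ne : ((4 : ℕ) : ZMod (2 * m)) ≠ 0 := natCast_ne_zero_of_lt (by norm_num) (by omega)
  have hc4 : c ^ 4 ≠ 1 := by
    intro h
    have h1 : cT ^ 4 = 1 := by
      apply Subtype.ext
      rw [Subgroup.coe_pow]; exact h
    have h2 := congrArg e h1
    rw [map_pow, hecT, a_one_pow, map_one, one_def] at h2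
    exact h4ne (a.inj h2)
  have hRD : R ≤ D := Subgroup.zpowers_le.mpr cT.2
  -- conjugation by elements of `N(D)` maps `R` into `R`
  have hconj : ∀ g ∈ Subgroup.normalizer (D : Set G), ∀ r ∈ R, g * r * g⁻¹ ∈ R := by
    intro g hg r hr
    have h1 : g * c * g⁻¹ ∈ D := (Subgroup.mem_normalizer_iff.mp hg c).mp cT.2
    have h2 : g * c * g⁻¹ ∈ R := by
      apply hpow4 ⟨_, h1⟩
      show (g * c * g⁻¹) ^ 4 ≠ 1
      rw [conj_pow]
      intro h
      apply hc4
      have e1 : c ^ 4 = g⁻¹ * (g * c ^ 4 * g⁻¹) * g := by group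
      rw [e1, h]; group
    obtain ⟨k, hk⟩ := Subgroup.mem_zpowers_iff.mp hr
    rw [← hk, ← conj_zpow]
    exact Subgroup.zpow_mem _ h2 k
  have hxNR : x ∈ Subgroup.normalizer (R : Set G) := by
    rw [Subgroup.mem_normalizer_iff]
    intro r
    constructor
    · exact hconj x hxN r
    · intro h
      have h1 := hconj x⁻¹ (Subgroup.inv_mem _ hxN) _ h
      have e1 : x⁻¹ * (x * r * x⁻¹) * x⁻¹⁻¹ = r := by group
      rw [e1] at h1
      exact h1
  have hRp : IsPGroup 2 ↥R := hD.to_le hRD
  have hcyc : IsCyclic ↥R := by rw [hR]; infer_instance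
  have hxB : ∀ y ∈ R, x * y * x⁻¹ = y := odd_centralizes_cyclic R hRp hcyc hxNR hx
  intro q hq
  by_cases hqR : q ∈ R
  · exact hxB q hqR
  · set q' := x * q * x⁻¹ with hq'
    have hq'D : q' ∈ D := (Subgroup.mem_normalizer_iff.mp hxN q).mp hq
    have hq'R : q' ∉ R := by
      intro h
      exact hqR ((Subgroup.mem_normalizer_iff.mp hxNR q).mpr h)
    have hb' : q⁻¹ * q' ∈ R := by
      obtain ⟨i, hi⟩ := hnotrot ⟨q, hq⟩ hqR
      obtain ⟨j, hj⟩ := hnotrot ⟨q', hq'D⟩ hq'R
      have h1 := (hrot ((⟨q, hq⟩ : ↥D)⁻¹ * ⟨q', hq'D⟩)).mpr ⟨j - i, by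
        rw [map_mul, map_inv, hi, hj, quat_inv_xa, xa_mul_xa]
        congr 1
        ring⟩
      simpa using h1
    set b' := q⁻¹ * q' with hb'def
    have hqb : q' = q * b' := by rw [hb'def]; group
    have hxb' : x * b' * x⁻¹ = b' := hxB b' hb'
    have hiter : ∀ k : ℕ, x ^ k * q * (x ^ k)⁻¹ = q * b' ^ k := by
      intro k
      induction k with
      | zero => simp
      | succ k ih =>
        have e1 : x ^ (k + 1) * q * (x ^ (k + 1))⁻¹ = x * (x ^ k * q * (x ^ k)⁻¹) * x⁻¹ := by
          rw [pow_succ']; group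
        have e2 : x * (q * b' ^ k) * x⁻¹ = (x * q * x⁻¹) * (x * b' * x⁻¹) ^ k := by
          rw [conj_pow]; group
        rw [e1, ih, e2, hxb', ← hq', hqb, pow_succ', mul_assoc]
    have h1 := hiter (orderOf x)
    rw [pow_orderOf_eq_one, inv_one, one_mul, mul_one] at h1
    have h2 : b' ^ orderOf x = 1 := by
      have h3 : q * 1 = q * b' ^ orderOf x := by rw [mul_one]; exact h1
      exact (mul_left_cancel h3).symm
    have h3 : b' = 1 := by
      obtain ⟨j, hj⟩ := hD ⟨b', hRD hb'⟩
      have hj' : b' ^ 2 ^ j = 1 := by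
        have := congrArg Subtype.val hj
        simpa using this
      exact pow_eq_one_of_coprime hx hj' h2
    rw [hqb, h3, mul_one]

/-- the key structural lemma for `G / O(G)` -/
theorem lemmaB {X : Type*} [Group X] [Finite X] [Group.IsSolvable X]
    (hO : Cfsg.pPrimeCore 2 X = ⊥)
    (huniq : ∀ s t : X, orderOf s = 2 → orderOf t = 2 → s = t) :
    ∃ Y : Subgroup X, Y.index ≤ 4 ∧
      ∀ D : Subgroup X, D ≤ Y.normalCore → IsPGroup 2 D → IsCyclic ↥D := by
  haveI : Fact (Nat.Prime 2) := ⟨Nat.prime_two⟩
  have hU : UOP 2 X := by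
    intro x y hx hy hx1
    by_cases hy1 : y = 1
    · rw [hy1]; exact one_mem _
    · have h1 : orderOf x = 2 := orderOf_eq_prime hx hx1
      have h2 : orderOf y = 2 := orderOf_eq_prime hy hy1
      rw [huniq y x h2 h1]; exact Subgroup.mem_zpowers x
  have hUD : ∀ D : Subgroup X, UOP 2 ↥D := fun D => hU.subgroup D
  have hsmall : ∀ D : Subgroup X, IsPGroup 2 D → Nat.card ↥D ≤ 4 → IsCyclic ↥D := by
    intro D hD hcard
    rcases two_group hD (hUD D) with h | ⟨n, ⟨e⟩⟩
    · exact h
    · have h1 : Nat.card ↥D = 4 * 2 ^ n := by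
        rw [Nat.card_congr e.toEquiv, Nat.card_eq_fintype_card, QuaternionGroup.card]
      have h2 : 2 ^ n = 1 := by
        have : 1 ≤ 2 ^ n := Nat.one_le_two_pow
        omega
      rw [h2] at e
      haveI := QuaternionGroup.quaternionGroup_one_isCyclic
      exact e.isCyclic.mpr inferInstance
  set Q := Cfsg.pCore 2 X with hQ
  have hQn : Q.Normal := Cfsg.Agent.Lib.Helper1.pCore_normal 2
  have hQp : IsPGroup 2 ↥Q := Cfsg.Agent.Lib.Helper1.pCore_isPGroup 2
  have hCQ : Subgroup.centralizer (Q : Set X) ≤ Q :=
    Cfsg.Agent.Lib.Helper1.centralizer_pCore_le 2 hO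
  by_cases h2 : IsPGroup 2 X
  · -- `X` is a `2`-group
    rcases two_group h2 hU with hc | ⟨j, ⟨e⟩⟩
    · refine ⟨⊤, by simp, fun D _ _ => ?_⟩
      haveI := hc
      exact Subgroup.isCyclic D
    · set c : X := e.symm (a 1) with hc
      have hco : orderOf c = 2 * 2 ^ j := by
        rw [hc, MulEquiv.orderOf_eq, QuaternionGroup.orderOf_a_one]
      have hcardX : Nat.card X = 4 * 2 ^ j := by
        rw [Nat.card_congr e.toEquiv, Nat.card_eq_fintype_card, QuaternionGroup.card]
      refine ⟨Subgroup.zpowers c, ?_, fun D hD _ => ?_⟩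
      · have h1 := Subgroup.card_mul_index (Subgroup.zpowers c)
        rw [Nat.card_zpowers, hco, hcardX] at h1
        have h3 : 0 < 2 ^ j := Nat.pos_of_ne_zero (by positivity)
        have h4 : (Subgroup.zpowers c).index = 2 := by
          have : 2 * 2 ^ j * (Subgroup.zpowers c).index = 2 * 2 ^ j * 2 := by rw [h1]; ring
          exact Nat.eq_of_mul_eq_mul_left (by positivity) this
        omega
      · exact Subgroup.isCyclic_of_le (hD.trans (Subgroup.normalCore_le _))
  · -- `X` is not a `2`-group
    have hodd : ∃ x : X, Odd (orderOf x) ∧ x ≠ 1 := by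
      by_contra hno
      push_neg at hno
      apply h2
      intro g
      obtain ⟨k, b, hb, hkb⟩ := Nat.exists_eq_two_pow_mul_odd (orderOf_pos g).ne'
      refine ⟨k, ?_⟩
      apply hno
      have h1 : (g ^ 2 ^ k) ^ b = 1 := by
        rw [← pow_mul, ← hkb, pow_orderOf_eq_one]
      exact Odd.of_dvd_nat hb (orderOf_dvd_of_pow_eq_one h1)
    obtain ⟨x, hxodd, hx1⟩ := hodd
    have hxNQ : x ∈ Subgroup.normalizer (Q : Set X) := by
      rw [Subgroup.normalizer_eq_top_iff.mpr hQn]; exact Subgroup.mem_top x
    have hcentF : (∀ q ∈ Q, x * q * x⁻¹ = q) → False := by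
      intro hxQ
      have hxC : x ∈ Subgroup.centralizer (Q : Set X) := by
        rw [Subgroup.mem_centralizer_iff]
        intro q hq
        have h1 := hxQ q hq
        calc q * x = x * q * x⁻¹ * x := by rw [h1]
          _ = x * q := by group
      have hxQ' : x ∈ Q := hCQ hxC
      obtain ⟨j, hj⟩ := hQp ⟨x, hxQ'⟩
      have hj' : x ^ 2 ^ j = 1 := by
        have := congrArg Subtype.val hj
        simpa using this
      exact hx1 (pow_eq_one_of_coprime hxodd hj' (pow_orderOf_eq_one x))
    have hcycF : IsCyclic ↥Q → False := fun hcyc =>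
      hcentF (odd_centralizes_cyclic Q hQp hcyc hxNQ hxodd)
    have hQ8 : Nonempty (↥Q ≃* QuaternionGroup 2) := by
      rcases two_group hQp (hUD Q) with hc | ⟨k, ⟨e⟩⟩
      · exact (hcycF hc).elim
      · rcases Nat.lt_or_ge k 2 with hk | hk
        · interval_cases k
          · exfalso
            apply hcycF
            have e' : ↥Q ≃* QuaternionGroup 1 := by simpa using e
            haveI := QuaternionGroup.quaternionGroup_one_isCyclic
            exact e'.isCyclic.mpr inferInstance
          · have e' : ↥Q ≃* QuaternionGroup 2 := by simpa using e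
            exact ⟨e'⟩
        · exfalso
          apply hcentF
          have h4 : 4 ≤ 2 ^ k := by
            calc 4 = 2 ^ 2 := by norm_num
              _ ≤ 2 ^ k := Nat.pow_le_pow_right (by norm_num) hk
          exact odd_centralizes_quat Q hQp (2 ^ k) h4 e x hxNQ hxodd
    obtain ⟨e⟩ := hQ8
    have h6 : Q.index ∣ 6 := by
      have h := Cfsg.Agent.Lib.Helper2.QuatAut.quat_relIndex_dvd_six Q e
      have h1 : Cfsg.Agent.Lib.Helper2.QuatAut.QC Q = Q := sup_eq_left.mpr hCQ
      rw [h1, Subgroup.normalizer_eq_top_iff.mpr hQn, Subgroup.relIndex_top_right] at h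
      exact h
    have hcardQ : Nat.card ↥Q = 8 := by
      rw [Nat.card_congr e.toEquiv, Nat.card_eq_fintype_card, QuaternionGroup.card]
    have hcardX : Nat.card X = 8 * Q.index := by
      rw [← hcardQ]; exact (Subgroup.card_mul_index Q).symm
    have hidx : Q.index = 3 ∨ Q.index = 6 := by
      have h7 : Q.index ≤ 6 := Nat.le_of_dvd (by norm_num) h6
      have h8 : Q.index ≠ 1 := by
        intro h
        apply h2
        apply IsPGroup.of_card (n := 3)
        rw [hcardX, h]; norm_num
      have h9 : Q.index ≠ 2 := by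
        intro h
        apply h2
        apply IsPGroup.of_card (n := 4)
        rw [hcardX, h]; norm_num
      have h10 : Q.index ≠ 0 := by
        intro h; rw [h] at h6; omega
      interval_cases hi : Q.index <;> omega
    have hcard : Nat.card X = 24 ∨ Nat.card X = 48 := by
      rcases hidx with h | h
      · left; rw [hcardX, h]
      · right; rw [hcardX, h]
    haveI : Fact (Nat.Prime 3) := ⟨Nat.prime_three⟩
    have h3X : 3 ∣ Nat.card X := by
      rcases hcard with h | h <;> rw [h] <;> norm_num
    obtain ⟨P⟩ : Nonempty (Sylow 3 X) := inferInstance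
    have hPidx : (P : Subgroup X).index ∣ 16 := by
      have h1 : (P : Subgroup X).index ∣ Nat.card X := Subgroup.index_dvd_card _
      have h2' : ¬ 3 ∣ (P : Subgroup X).index := P.not_dvd_index
      have hcop : ((P : Subgroup X).index).Coprime 3 :=
        ((Nat.Prime.coprime_iff_not_dvd Nat.prime_three).mpr h2').symm
      rcases hcard with h | h
      · rw [h] at h1
        have : (P : Subgroup X).index ∣ 8 :=
          hcop.dvd_of_dvd_mul_left (by simpa using h1)
        exact this.trans (by norm_num)
      · rw [h] at h1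
        exact hcop.dvd_of_dvd_mul_left (by simpa using h1)
    have hn3 := card_sylow_modEq_one 3 X
    have hn3d : Nat.card (Sylow 3 X) ∣ 16 := (P.card_dvd_index).trans hPidx
    have hn3eq : Nat.card (Sylow 3 X) =
        (Subgroup.normalizer ((P : Subgroup X) : Set X)).index := P.card_eq_index_normalizer
    set n3 := Nat.card (Sylow 3 X) with hn3def
    have hn3cases : n3 = 1 ∨ n3 = 4 ∨ n3 = 16 := by
      have h7 : n3 ≤ 16 := Nat.le_of_dvd (by norm_num) hn3d
      have h8 : n3 % 3 = 1 := hn3
      interval_cases n3 <;> omega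
    -- an involution, central in `X`
    have h2X : 2 ∣ Nat.card X := by
      rcases hcard with h | h <;> rw [h] <;> norm_num
    obtain ⟨s, hs⟩ := exists_prime_orderOf_dvd_card' 2 h2X
    have hscen : ∀ g : X, g * s * g⁻¹ = s := by
      intro g
      apply huniq _ _ _ hs
      have : g * s * g⁻¹ = MulAut.conj g s := by simp [MulAut.conj_apply]
      rw [this, MulEquiv.orderOf_eq]; exact hs
    have hsN : s ∈ Subgroup.normalizer ((P : Subgroup X) : Set X) := by
      rw [Subgroup.mem_normalizer_iff]
      intro h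
      have h1 : s * h * s⁻¹ = h := by
        have := hscen h⁻¹
        calc s * h * s⁻¹ = h * (h⁻¹ * s * h⁻¹⁻¹) * s⁻¹ := by group
          _ = h := by rw [this]; group
      rw [h1]
    rcases hn3cases with h | h | h
    · -- normal Sylow 3-subgroup: contradiction
      exfalso
      rw [h] at hn3eq
      have hPn : (P : Subgroup X).Normal := by
        rw [← Subgroup.normalizer_eq_top_iff]
        exact Subgroup.index_eq_one.mp hn3eq.symm
      obtain ⟨k, hk⟩ := (IsPGroup.iff_card (p := 3)).mp P.2
      have hcop : (Nat.card ↥(P : Subgroup X)).Coprime 2 := by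
        rw [hk]; exact Nat.Coprime.pow_left k (by norm_num)
      have hle := Cfsg.Agent.Lib.Helper1.le_pPrimeCore hPn hcop
      rw [hO] at hle
      exact P.ne_bot_of_dvd_card h3X (le_bot_iff.mp hle)
    · -- index 4
      rw [h] at hn3eq
      refine ⟨Subgroup.normalizer ((P : Subgroup X) : Set X), by omega, fun D hD hD2 => ?_⟩
      apply hsmall D hD2
      have hDle : D ≤ Subgroup.normalizer ((P : Subgroup X) : Set X) :=
        hD.trans (Subgroup.normalCore_le _)
      have h1 := Subgroup.card_dvd_of_le hDle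
      have h2' := Subgroup.card_mul_index (Subgroup.normalizer ((P : Subgroup X) : Set X))
      rw [← hn3eq] at h2'
      have h12 : Nat.card ↥(Subgroup.normalizer ((P : Subgroup X) : Set X)) ∣ 12 := by
        rcases hcard with hc | hc
        · rw [hc] at h2'
          have : Nat.card ↥(Subgroup.normalizer ((P : Subgroup X) : Set X)) = 6 := by omega
          rw [this]; norm_num
        · rw [hc] at h2'
          have : Nat.card ↥(Subgroup.normalizer ((P : Subgroup X) : Set X)) = 12 := by omega
          rw [this]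
      have h3 := h1.trans h12
      obtain ⟨k, hk⟩ := (IsPGroup.iff_card (p := 2)).mp hD2
      rw [hk] at h3 ⊢
      have hk2 : k ≤ 2 := by
        by_contra hk3
        push_neg at hk3
        have : 2 ^ 3 ∣ 2 ^ k := Nat.pow_dvd_pow 2 hk3
        have := this.trans h3
        omega
      calc 2 ^ k ≤ 2 ^ 2 := Nat.pow_le_pow_right (by norm_num) hk2
        _ = 4 := by norm_num
    · -- sixteen Sylow 3-subgroups: contradiction with the central involution
      exfalso
      rw [h] at hn3eq
      have h2' := Subgroup.card_mul_index (Subgroup.normalizer ((P : Subgroup X) : Set X))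
      rw [← hn3eq] at h2'
      have hN3 : Nat.card ↥(Subgroup.normalizer ((P : Subgroup X) : Set X)) = 3 := by
        rcases hcard with hc | hc
        · rw [hc] at h2'; omega
        · rw [hc] at h2'; omega
      have := Subgroup.orderOf_dvd_natCard _ hsN
      rw [hs, hN3] at this
      omega

end Cfsg.Agent.Lib.Helper2.FrobComp
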