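import Mathlib
import Cfsg.Agent.Lib.Helper2.FrobCompB
import Cfsg.Agent.Lib.Helper1.PLengthOne
set_option autoImplicit false
set_option maxHeartbeats 1000000
set_option linter.unusedVariables false
set_option linter.unusedSectionVars false
set_option linter.style.longLine false
set_option linter.unusedSimpArgs false
set_option linter.deprecated false
set_option linter.style.haveILetI false
open scoped commutatorElement Pointwise
universe u v

/-! Solvable Frobenius complements, part C: a solvable `FCP`-group has a subgroup of index at most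
4 whose core has cyclic Sylow subgroups; the permutation representation on its cosets. -/

namespace Cfsg.Agent.Lib.Helper2.FrobComp

open Cfsg Cfsg.Agent.Lib.Lead.UniqueP

theorem exists_index_le_four {G : Type*} [Group G] [Finite G] (hsol : Group.IsSolvable G)
    (h : FCP G) :
    ∃ Y : Subgroup G, Y.index ≤ 4 ∧ ∀ (p : ℕ) [Fact p.Prime] (D : Subgroup G),
      D ≤ Y.normalCore → IsPGroup p D → IsCyclic ↥D := by
  haveI := hsol
  haveI : Fact (Nat.Prime 2) := ⟨Nat.prime_two⟩
  haveI hOn : (Cfsg.pPrimeCore 2 G).Normal := Cfsg.Agent.Lib.Helper1.pPrimeCore_normal (G := G) 2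
  have hOodd : (Nat.card ↥(Cfsg.pPrimeCore 2 G)).Coprime 2 :=
    Cfsg.Agent.Lib.Helper1.pPrimeCore_card_coprime 2
  obtain ⟨O, hOdef⟩ : ∃ O : Subgroup G, O = Cfsg.pPrimeCore 2 G := ⟨_, rfl⟩
  rw [← hOdef] at hOodd
  haveI hOn' : O.Normal := by rw [hOdef]; exact hOn
  have hOq : Cfsg.pPrimeCore 2 (G ⧸ O) = ⊥ := by
    subst hOdef
    exact Cfsg.Agent.Lib.Helper1.pPrimeCore_quotient_eq_bot 2
  have hsurj : Function.Surjective (QuotientGroup.mk' O) := QuotientGroup.mk'_surjective O
  have hlift : ∀ sb : G ⧸ O, orderOf sb = 2 →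
      ∃ u : G, orderOf u = 2 ∧ QuotientGroup.mk' O u = sb := by
    intro sb hsb
    obtain ⟨s, rfl⟩ := hsurj sb
    set c := Nat.card ↥O with hc
    have hcodd : Odd c := Nat.coprime_two_right.mp hOodd
    have hsb2 : (QuotientGroup.mk' O s) ^ 2 = 1 := by rw [← hsb]; exact pow_orderOf_eq_one _
    have hs2 : s ^ 2 ∈ O := by
      rw [← QuotientGroup.eq_one_iff]
      have : ((s ^ 2 : G) : G ⧸ O) = (QuotientGroup.mk' O s) ^ 2 := rfl
      rw [this, hsb2]
    have hs2c : (s ^ 2) ^ c = 1 := by
      have h1 : (⟨s ^ 2, hs2⟩ : ↥O) ^ c = 1 := by rw [hc]; exact pow_card_eq_one'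
      have := congrArg Subtype.val h1
      simpa using this
    refine ⟨s ^ c, ?_, ?_⟩
    · have hu2 : (s ^ c) ^ 2 = 1 := by
        rw [← pow_mul, mul_comm, pow_mul]; exact hs2c
      have hπ : QuotientGroup.mk' O (s ^ c) = QuotientGroup.mk' O s := by
        obtain ⟨k, hk⟩ := hcodd
        rw [map_pow, hk, pow_succ, pow_mul, hsb2, one_pow, one_mul]
      have hu1 : s ^ c ≠ 1 := by
        intro h1
        rw [h1, map_one] at hπ
        rw [← hπ, orderOf_one] at hsb
        omega
      exact orderOf_eq_prime hu2 hu1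
    · obtain ⟨k, hk⟩ := hcodd
      rw [map_pow, hk, pow_succ, pow_mul, hsb2, one_pow, one_mul]
  have huniq' : ∀ s t : G ⧸ O, orderOf s = 2 → orderOf t = 2 → s = t := by
    intro s t hs ht
    obtain ⟨u, hu, rfl⟩ := hlift s hs
    obtain ⟨w, hw, rfl⟩ := hlift t ht
    rw [invol_unique h hu hw]
  obtain ⟨Yb, hidx, hcyc⟩ := lemmaB hOq huniq'
  refine ⟨Yb.comap (QuotientGroup.mk' O), ?_, ?_⟩
  · rw [Subgroup.index_comap_of_surjective Yb hsurj]; exact hidx
  · intro p hp D hD hDp
    by_cases hp2 : p = 2
    · subst hp2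
      set Y := Yb.comap (QuotientGroup.mk' O) with hY
      have hdisj : D ⊓ O = ⊥ := by
        apply Subgroup.inf_eq_bot_of_coprime
        obtain ⟨k, hk⟩ := (IsPGroup.iff_card (p := 2)).mp hDp
        rw [hk]
        exact Nat.Coprime.pow_left k hOodd.symm
      have hmapn : ((Y.normalCore).map (QuotientGroup.mk' O)).Normal :=
        (Subgroup.normalCore_normal Y).map _ hsurj
      have hmaple : (Y.normalCore).map (QuotientGroup.mk' O) ≤ Yb := by
        rw [Subgroup.map_le_iff_le_comap]; exact Subgroup.normalCore_le Y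
      have hcore : (Y.normalCore).map (QuotientGroup.mk' O) ≤ Yb.normalCore :=
        (Subgroup.normal_le_normalCore (hN := hmapn)).mpr hmaple
      have hDb : D.map (QuotientGroup.mk' O) ≤ Yb.normalCore :=
        (Subgroup.map_mono hD).trans hcore
      haveI hcycDb : IsCyclic ↥(D.map (QuotientGroup.mk' O)) :=
        hcyc _ hDb (hDp.map _)
      have hinj : Function.Injective ((QuotientGroup.mk' O).subgroupMap D) := by
        rw [injective_iff_map_eq_one]
        intro d hd
        have h1 : QuotientGroup.mk' O (d : G) = 1 := by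
          have := congrArg Subtype.val hd
          rw [MonoidHom.subgroupMap_apply_coe] at this
          exact this
        have h2 : (d : G) ∈ O := by
          rw [← QuotientGroup.eq_one_iff]; exact h1
        have h3 : (d : G) ∈ D ⊓ O := ⟨d.2, h2⟩
        rw [hdisj, Subgroup.mem_bot] at h3
        exact Subtype.ext h3
      exact isCyclic_of_injective _ hinj
    · rcases pgroup_cyclic_or_quat h p D hDp with hc | ⟨h2, -⟩
      · exact hc
      · exact absurd h2 hp2

theorem exists_hom_perm_four {G : Type*} [Group G] [Finite G] (Y : Subgroup G)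
    (hidx : Y.index ≤ 4) :
    ∃ f : G →* Equiv.Perm (Fin 4), f.ker = Y.normalCore := by
  classical
  haveI : Fintype (G ⧸ Y) := Fintype.ofFinite _
  have hcard : Fintype.card (G ⧸ Y) ≤ Fintype.card (Fin 4) := by
    rw [Fintype.card_fin, ← Nat.card_eq_fintype_card, ← Subgroup.index_eq_card]; exact hidx
  obtain ⟨ι⟩ := Function.Embedding.nonempty_of_card_le hcard
  refine ⟨(Equiv.Perm.viaEmbeddingHom ι).comp (MulAction.toPermHom G (G ⧸ Y)), ?_⟩
  ext g
  rw [MonoidHom.mem_ker, MonoidHom.comp_apply, Subgroup.normalCore_eq_ker, MonoidHom.mem_ker]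
  exact map_eq_one_iff _ (Equiv.Perm.viaEmbeddingHom_injective ι)

end Cfsg.Agent.Lib.Helper2.FrobComp
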