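import Mathlib
import Cfsg.Agent.Lib.Helper2.FrobCompA
import Cfsg.Agent.Lib.Helper7.ZGroupMeta
set_option autoImplicit false
set_option maxHeartbeats 1000000
set_option linter.unusedVariables false
set_option linter.unusedSectionVars false
set_option linter.style.longLine false
set_option linter.unusedSimpArgs false
set_option linter.deprecated false
set_option linter.style.haveILetI false
open scoped commutatorElement Pointwise
universe u v

/-! Solvable Frobenius complements, part D: the metacyclic presentation of an `FCP`-group all of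
whose Sylow subgroups are cyclic. -/

namespace Cfsg.Agent.Lib.Helper2.FrobComp

open Cfsg Cfsg.Agent.Lib.Lead.UniqueP Cfsg.Agent.Lib.Helper2.ZS

theorem conj_pow_rel {K : Type*} [Group K] {x y : K} {r : ℕ} (hrel : x⁻¹ * y * x = y ^ r) :
    ∀ k : ℕ, (x ^ k)⁻¹ * y * x ^ k = y ^ (r ^ k) := by
  intro k
  induction k with
  | zero => simp
  | succ k ih =>
    have e1 : (x ^ (k + 1))⁻¹ * y * x ^ (k + 1) = x⁻¹ * ((x ^ k)⁻¹ * y * x ^ k) * x := by
      rw [pow_succ, mul_inv_rev]; simp only [mul_assoc]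
    have e2 : x⁻¹ * y ^ (r ^ k) * x = (x⁻¹ * y * x) ^ (r ^ k) := by
      have := conj_pow (a := x⁻¹) (b := y) (i := r ^ k)
      rw [inv_inv] at this
      exact this.symm
    rw [e1, ih, e2, hrel, ← pow_mul, pow_succ, mul_comm]

theorem prime_part_commute {K : Type*} [Group K] [Finite K] (h : FCP K) {x y : K} {n m r : ℕ}
    (hxn : orderOf x = n) (hym : orderOf y = m) (hcop : Nat.Coprime n m)
    (hrel : x⁻¹ * y * x = y ^ r) {p : ℕ} (hp : p.Prime) (hpn : p ∣ n) :
    Commute (x ^ (n / p)) y := by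
  haveI : Fact p.Prime := ⟨hp⟩
  obtain ⟨k, hk⟩ : ∃ k : ℕ, k = n / p := ⟨_, rfl⟩
  rw [← hk]
  obtain ⟨v, hv⟩ : ∃ v : K, v = (x ^ k)⁻¹ := ⟨_, rfl⟩
  have hvo : orderOf v = p := by
    rw [hv, orderOf_inv, hk, ← hxn]
    exact orderOf_pow_orderOf_div (orderOf_pos x).ne' (hxn ▸ hpn)
  have hvp : v ^ p = 1 := by rw [← hvo]; exact pow_orderOf_eq_one v
  obtain ⟨s, hs⟩ : ∃ s : ℕ, s = r ^ k := ⟨_, rfl⟩
  have hvy : v * y * v⁻¹ = y ^ s := by
    rw [hv, inv_inv, hs]; exact conj_pow_rel hrel k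
  have hvpow : ∀ a ∈ Subgroup.zpowers y, v * a * v⁻¹ = a ^ s := by
    intro a ha
    obtain ⟨j, rfl⟩ := Subgroup.mem_zpowers_iff.mp ha
    rw [← conj_zpow, hvy, ← zpow_natCast, ← zpow_natCast, ← zpow_mul, ← zpow_mul, mul_comm]
  have hmain : ∀ N : ℕ, ∀ a ∈ Subgroup.zpowers y, orderOf a = N → v * a * v⁻¹ = a := by
    intro N
    induction N using Nat.strong_induction_on with
    | _ N ih =>
    intro a ha haN
    by_cases ha1 : a = 1
    · rw [ha1]; group
    have hN1 : N ≠ 1 := by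
      rw [← haN]; intro h1; exact ha1 (orderOf_eq_one_iff.mp h1)
    obtain ⟨q, hq, hqN⟩ := Nat.exists_prime_and_dvd hN1
    haveI : Fact q.Prime := ⟨hq⟩
    have haq : a ^ q ∈ Subgroup.zpowers y := Subgroup.pow_mem _ ha q
    have hNpos : 0 < N := by rw [← haN]; exact orderOf_pos a
    have haqo : orderOf (a ^ q) = N / q := by
      rw [orderOf_pow_of_dvd hq.ne_zero (haN ▸ hqN), haN]
    have hlt : N / q < N := Nat.div_lt_self hNpos hq.one_lt
    have hih := ih (N / q) hlt (a ^ q) haq haqo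
    obtain ⟨ca, hca⟩ : ∃ ca : K, ca = v * a * v⁻¹ := ⟨_, rfl⟩
    have hcaZ : ca ∈ Subgroup.zpowers y := by
      rw [hca, hvpow a ha]; exact Subgroup.pow_mem _ ha s
    obtain ⟨b, hb⟩ : ∃ b : K, b = a⁻¹ * ca := ⟨_, rfl⟩
    have hbZ : b ∈ Subgroup.zpowers y := by
      rw [hb]; exact Subgroup.mul_mem _ (Subgroup.inv_mem _ ha) hcaZ
    have hcomm : Commute a⁻¹ ca := zpowers_commute (Subgroup.inv_mem _ ha) hcaZ
    have hbq : b ^ q = 1 := by
      rw [hb, hcomm.mul_pow, hca, conj_pow, hih, inv_pow, inv_mul_cancel]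
    rw [← hca]
    by_cases hb1 : b = 1
    · rw [hb] at hb1
      exact (inv_mul_eq_one.mp hb1).symm
    exfalso
    have hbo : orderOf b = q := orderOf_eq_prime hbq hb1
    have hqm : q ∣ m := by rw [← hbo, ← hym]; exact orderOf_dvd_of_mem_zpowers hbZ
    have hpq : p ≠ q := by
      intro hpq
      have h1 : p ∣ Nat.gcd n m := Nat.dvd_gcd hpn (hpq ▸ hqm)
      rw [hcop] at h1
      exact hp.one_lt.ne' (Nat.dvd_one.mp h1)
    have hvbmem : v * b * v⁻¹ ∈ Subgroup.zpowers b := by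
      rw [hvpow b hbZ]; exact Subgroup.pow_mem _ (Subgroup.mem_zpowers b) s
    have hvb : v * b = b * v := h.2 p q v b hp hq hpq hvo hbo hvbmem
    have hvb' : v * b * v⁻¹ = b := by rw [hvb]; group
    have hcab : ca = a * b := by rw [hb]; group
    have hiter : ∀ i : ℕ, v ^ i * a * (v ^ i)⁻¹ = a * b ^ i := by
      intro i
      induction i with
      | zero => simp
      | succ i ih2 =>
        have e1 : v ^ (i + 1) * a * (v ^ (i + 1))⁻¹ = v * (v ^ i * a * (v ^ i)⁻¹) * v⁻¹ := by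
          rw [pow_succ']; group
        have e2 : v * (a * b ^ i) * v⁻¹ = (v * a * v⁻¹) * (v * b * v⁻¹) ^ i := by
          rw [conj_pow]; group
        rw [e1, ih2, e2, hvb', ← hca, hcab, pow_succ', mul_assoc]
    have h1 := hiter p
    rw [hvp, inv_one, one_mul, mul_one] at h1
    have h2 : b ^ p = 1 := by
      have h3 : a * 1 = a * b ^ p := by rw [mul_one]; exact h1
      exact (mul_left_cancel h3).symm
    have h3 : orderOf b ∣ p := orderOf_dvd_of_pow_eq_one h2
    rw [hbo] at h3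
    exact hpq ((Nat.prime_dvd_prime_iff_eq hq hp).mp h3).symm
  have hvy1 : v * y * v⁻¹ = y := hmain m y (Subgroup.mem_zpowers y) hym
  rw [hv, inv_inv] at hvy1
  show x ^ k * y = y * x ^ k
  calc x ^ k * y = x ^ k * ((x ^ k)⁻¹ * y * x ^ k) := by rw [hvy1]
    _ = y * x ^ k := by group

theorem rad_arith {K : Type*} [Group K] {x y : K} {n m r : ℕ} (hn : 0 < n)
    (hxn : orderOf x = n) (hym : orderOf y = m) (hrel : x⁻¹ * y * x = y ^ r)
    (hprime : ∀ p : ℕ, p.Prime → p ∣ n → Commute (x ^ (n / p)) y) :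
    r ^ (n / ∏ p ∈ n.primeFactors, p) % m = 1 % m := by
  classical
  have hxn1 : Commute (x ^ n) y := by
    rw [← hxn, pow_orderOf_eq_one]; exact Commute.one_left y
  have hex : ∃ k : ℕ, 0 < k ∧ Commute (x ^ k) y := ⟨n, hn, hxn1⟩
  obtain ⟨o, ho⟩ : ∃ o : ℕ, o = Nat.find hex := ⟨_, rfl⟩
  have ho_spec : 0 < o ∧ Commute (x ^ o) y := by rw [ho]; exact Nat.find_spec hex
  have ho_min : ∀ k, k < o → ¬ (0 < k ∧ Commute (x ^ k) y) := by
    intro k hk; rw [ho] at hk; exact Nat.find_min hex hk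
  have hdiv : ∀ k : ℕ, Commute (x ^ k) y → o ∣ k := by
    intro k hk
    have h1 : Commute (x ^ (k % o)) y := by
      have e1 : x ^ (k % o) = x ^ k * ((x ^ o) ^ (k / o))⁻¹ := by
        rw [eq_mul_inv_iff_mul_eq, ← pow_mul, ← pow_add, Nat.mod_add_div]
      rw [e1]
      exact hk.mul_left ((ho_spec.2.pow_left _).inv_left)
    by_contra hnd
    have h2 : 0 < k % o := Nat.pos_of_ne_zero (fun h0 => hnd (Nat.dvd_of_mod_eq_zero h0))
    exact ho_min (k % o) (Nat.mod_lt _ ho_spec.1) ⟨h2, h1⟩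
  have hmul : ∀ t : ℕ, Commute (x ^ (o * t)) y := fun t => by
    rw [pow_mul]; exact ho_spec.2.pow_left t
  obtain ⟨e, he⟩ := hdiv n hxn1
  have hpe : ∀ p ∈ n.primeFactors, p ∣ e := by
    intro p hp
    have hpp := Nat.prime_of_mem_primeFactors hp
    have hpn := Nat.dvd_of_mem_primeFactors hp
    obtain ⟨t, ht⟩ := hdiv (n / p) (hprime p hpp hpn)
    have h1 : n = n / p * p := (Nat.div_mul_cancel hpn).symm
    have h2 : o * e = o * (t * p) := by
      calc o * e = n := he.symm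
        _ = n / p * p := h1
        _ = o * t * p := by rw [ht]
        _ = o * (t * p) := by ring
    have h3 : e = t * p := Nat.eq_of_mul_eq_mul_left ho_spec.1 h2
    exact ⟨t, by rw [h3, mul_comm]⟩
  have hrad : (∏ p ∈ n.primeFactors, p) ∣ e :=
    Finset.prod_primes_dvd e (fun p hp => (Nat.prime_of_mem_primeFactors hp).prime) hpe
  obtain ⟨t', ht'⟩ := hrad
  obtain ⟨R, hR⟩ : ∃ R : ℕ, R = ∏ p ∈ n.primeFactors, p := ⟨_, rfl⟩
  rw [← hR] at ht' ⊢
  have hRpos : 0 < R := by
    rw [hR]; exact Finset.prod_pos (fun p hp => (Nat.prime_of_mem_primeFactors hp).pos)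
  have hd : n / R = o * t' := by
    apply Nat.div_eq_of_eq_mul_left hRpos
    rw [he, ht']; ring
  have hcomm : Commute (x ^ (n / R)) y := by rw [hd]; exact hmul t'
  have h1 := conj_pow_rel hrel (n / R)
  have h2 : (x ^ (n / R))⁻¹ * y * x ^ (n / R) = y := by
    have := hcomm.eq
    rw [mul_assoc, ← this, ← mul_assoc, inv_mul_cancel, one_mul]
  rw [h2] at h1
  have h3 : y ^ (r ^ (n / R)) = y ^ 1 := by rw [pow_one]; exact h1.symm
  have h4 := pow_eq_pow_iff_modEq.mp h3
  rw [hym] at h4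
  exact h4

/-- the relators of the metacyclic presentation -/
abbrev metaRels (n m r : ℕ) : Set (FreeGroup (Fin 2)) :=
  {FreeGroup.of (0 : Fin 2) ^ n, FreeGroup.of (1 : Fin 2) ^ m,
    (FreeGroup.of (0 : Fin 2))⁻¹ * FreeGroup.of 1 * FreeGroup.of 0 *
      (FreeGroup.of (1 : Fin 2) ^ r)⁻¹}

theorem presented_card_le (n m r : ℕ) (hn : 0 < n) (hm : 0 < m) :
    Finite (PresentedGroup (metaRels n m r)) ∧
      Nat.card (PresentedGroup (metaRels n m r)) ≤ n * m := by
  obtain ⟨X, hX⟩ : ∃ X : PresentedGroup (metaRels n m r), X = PresentedGroup.of 0 := ⟨_, rfl⟩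
  obtain ⟨Y, hY⟩ : ∃ Y : PresentedGroup (metaRels n m r), Y = PresentedGroup.of 1 := ⟨_, rfl⟩
  have hXn : X ^ n = 1 := by
    have := PresentedGroup.one_of_mem (rels := metaRels n m r)
      (x := FreeGroup.of (0 : Fin 2) ^ n) (by simp [metaRels])
    rw [map_pow] at this
    rw [hX]; exact this
  have hYm : Y ^ m = 1 := by
    have := PresentedGroup.one_of_mem (rels := metaRels n m r)
      (x := FreeGroup.of (1 : Fin 2) ^ m) (by simp [metaRels])
    rw [map_pow] at this
    rw [hY]; exact this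
  have hXY : X⁻¹ * Y * X = Y ^ r := by
    have := PresentedGroup.one_of_mem (rels := metaRels n m r)
      (x := (FreeGroup.of (0 : Fin 2))⁻¹ * FreeGroup.of 1 * FreeGroup.of 0 *
        (FreeGroup.of (1 : Fin 2) ^ r)⁻¹) (by simp [metaRels])
    rw [map_mul, map_mul, map_mul, map_inv, map_inv, map_pow] at this
    rw [hX, hY]
    exact mul_inv_eq_one.mp this
  have hYX : ∀ j : ℕ, Y ^ j * X = X * Y ^ (r * j) := by
    intro j
    have e2 : X⁻¹ * Y ^ j * X = (X⁻¹ * Y * X) ^ j := by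
      have := conj_pow (a := X⁻¹) (b := Y) (i := j)
      rw [inv_inv] at this
      exact this.symm
    rw [hXY, ← pow_mul] at e2
    calc Y ^ j * X = X * (X⁻¹ * Y ^ j * X) := by group
      _ = X * Y ^ (r * j) := by rw [e2]
  obtain ⟨C, hC⟩ : ∃ C : PresentedGroup (metaRels n m r) → Prop,
      C = fun g => ∀ i j : ℕ, ∃ i' j' : ℕ, X ^ i * Y ^ j * g = X ^ i' * Y ^ j' := ⟨_, rfl⟩
  have hC1 : C 1 := by rw [hC]; exact fun i j => ⟨i, j, mul_one _⟩
  have hCmul : ∀ g h, C g → C h → C (g * h) := by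
    rw [hC]
    intro g h hg hh i j
    obtain ⟨i1, j1, h1⟩ := hg i j
    obtain ⟨i2, j2, h2⟩ := hh i1 j1
    exact ⟨i2, j2, by rw [← mul_assoc, h1, h2]⟩
  have hCX : C X := by
    rw [hC]
    exact fun i j => ⟨i + 1, r * j, by rw [mul_assoc, hYX, ← mul_assoc, ← pow_succ]⟩
  have hCY : C Y := by
    rw [hC]
    exact fun i j => ⟨i, j + 1, by rw [mul_assoc, ← pow_succ]⟩
  have hCpow : ∀ g, C g → ∀ k : ℕ, C (g ^ k) := by
    intro g hg k
    induction k with
    | zero => rw [pow_zero]; exact hC1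
    | succ k ih => rw [pow_succ]; exact hCmul _ _ ih hg
  have hXinv : X⁻¹ = X ^ (n - 1) := by
    apply inv_eq_of_mul_eq_one_right
    rw [← pow_succ', Nat.sub_add_cancel hn, hXn]
  have hYinv : Y⁻¹ = Y ^ (m - 1) := by
    apply inv_eq_of_mul_eq_one_right
    rw [← pow_succ', Nat.sub_add_cancel hm, hYm]
  have hCXi : C X⁻¹ := by rw [hXinv]; exact hCpow X hCX _
  have hCYi : C Y⁻¹ := by rw [hYinv]; exact hCpow Y hCY _
  have hall : ∀ g, C g := by
    intro g
    refine PresentedGroup.induction_on g ?_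
    intro z
    refine FreeGroup.induction_on z ?_ ?_ ?_ ?_
    · rw [map_one]; exact hC1
    · refine Fin.forall_fin_two.mpr ⟨?_, ?_⟩
      · rw [hX] at hCX; exact hCX
      · rw [hY] at hCY; exact hCY
    · refine Fin.forall_fin_two.mpr ⟨fun _ => ?_, fun _ => ?_⟩
      · rw [map_inv]; rw [hX] at hCXi; exact hCXi
      · rw [map_inv]; rw [hY] at hCYi; exact hCYi
    · intro a b ha hb
      rw [map_mul]; exact hCmul _ _ ha hb
  have hsurj : Function.Surjective
      (fun ij : Fin n × Fin m => X ^ (ij.1 : ℕ) * Y ^ (ij.2 : ℕ)) := by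
    intro g
    have hg := hall g
    rw [hC] at hg
    obtain ⟨i, j, hij⟩ := hg 0 0
    rw [pow_zero, pow_zero, one_mul, one_mul] at hij
    refine ⟨(⟨i % n, Nat.mod_lt _ hn⟩, ⟨j % m, Nat.mod_lt _ hm⟩), ?_⟩
    show X ^ (i % n) * Y ^ (j % m) = g
    rw [hij, pow_eq_pow_mod i hXn, pow_eq_pow_mod j hYm]
  haveI : Finite (PresentedGroup (metaRels n m r)) := Finite.of_surjective _ hsurj
  refine ⟨inferInstance, ?_⟩
  have := Nat.card_le_card_of_surjective _ hsurj
  simpa using this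

theorem presentation {K : Type*} [Group K] [Finite K]
    (hZ : ∀ (p : ℕ) [Fact p.Prime] (P : Sylow p K), IsCyclic (P : Subgroup K)) (h : FCP K) :
    ∃ n m r : ℕ, 0 < n ∧ 0 < m ∧ Nat.Coprime (r - 1) m ∧ Nat.Coprime n m ∧ 1 ≤ r ∧
      r ^ (n / ∏ p ∈ n.primeFactors, p) % m = 1 % m ∧
      Nonempty (K ≃* PresentedGroup (metaRels n m r)) := by
  obtain ⟨x, y, n, m, r, hgen, hxn, hym, hrel, hc1, hc2, hr1, hrn⟩ :=
    Cfsg.Agent.Lib.Helper7.zgroup_metacyclic hZ
  have hn : 0 < n := hxn ▸ orderOf_pos x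
  have hm : 0 < m := hym ▸ orderOf_pos y
  refine ⟨n, m, r, hn, hm, hc1, hc2, hr1, ?_, ?_⟩
  · exact rad_arith hn hxn hym hrel
      (fun p hp hpn => prime_part_commute h hxn hym hc2 hrel hp hpn)
  · obtain ⟨hfin, hcard⟩ := presented_card_le n m r hn hm
    haveI := hfin
    have hrels : ∀ w ∈ metaRels n m r, FreeGroup.lift ![x, y] w = 1 := by
      intro w hw
      simp only [metaRels, Set.mem_insert_iff, Set.mem_singleton_iff] at hw
      rcases hw with rfl | rfl | rfl
      · rw [map_pow, FreeGroup.lift_apply_of]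
        show x ^ n = 1
        rw [← hxn]; exact pow_orderOf_eq_one x
      · rw [map_pow, FreeGroup.lift_apply_of]
        show y ^ m = 1
        rw [← hym]; exact pow_orderOf_eq_one y
      · rw [map_mul, map_mul, map_mul, map_inv, map_inv, map_pow, FreeGroup.lift_apply_of,
          FreeGroup.lift_apply_of]
        show x⁻¹ * y * x * (y ^ r)⁻¹ = 1
        rw [hrel, mul_inv_cancel]
    have hφX : PresentedGroup.toGroup hrels (PresentedGroup.of 0) = x := by
      rw [PresentedGroup.toGroup.of]; rfl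
    have hφY : PresentedGroup.toGroup hrels (PresentedGroup.of 1) = y := by
      rw [PresentedGroup.toGroup.of]; rfl
    have hsurj : Function.Surjective (PresentedGroup.toGroup hrels) := by
      rw [← MonoidHom.range_eq_top, eq_top_iff, ← hgen, Subgroup.closure_le]
      intro g hg
      rcases hg with rfl | hg
      · exact ⟨_, hφX⟩
      · rw [Set.mem_singleton_iff] at hg
        rw [hg]; exact ⟨_, hφY⟩
    have hcardK : n * m ≤ Nat.card K := by
      apply Nat.le_of_dvd Nat.card_pos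
      apply Nat.Coprime.mul_dvd_of_dvd_of_dvd hc2
      · rw [← hxn]; exact orderOf_dvd_natCard x
      · rw [← hym]; exact orderOf_dvd_natCard y
    have hbij := hsurj.bijective_of_nat_card_le (hcard.trans hcardK)
    exact ⟨(MulEquiv.ofBijective (PresentedGroup.toGroup hrels) hbij).symm⟩

end Cfsg.Agent.Lib.Helper2.FrobComp
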