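import Cfsg.Agent.S5160
import Cfsg.Agent.Lib.Helper9.SubsystemExt2

set_option autoImplicit false

namespace Cfsg.Agent.Lib.Helper2.FusSimp

open Cfsg Cfsg.FusionSystem Cfsg.Agent.Lib.Helper9

variable {G : Type*} [Group G] [Finite G] {p : ℕ} [Fact p.Prime]

/-- if `Aut(S)` is a `p`-group for a Sylow `p`-subgroup `S`, then `N_G(S)` induces only inner
automorphisms on `S` -/
theorem exists_mem_sylow_conj_eq (S : Sylow p G) (hAut : IsPGroup p (MulAut (S : Subgroup G)))
    {g : G} (hg : g ∈ Subgroup.normalizer ((S : Subgroup G) : Set G)) :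
    ∃ s ∈ (S : Subgroup G), ∀ x ∈ (S : Subgroup G), g * x * g⁻¹ = s * x * s⁻¹ := by
  have hp : p.Prime := Fact.out
  obtain ⟨j, hj⟩ := hAut (conjAut (S : Subgroup G) ⟨g, hg⟩)
  have ho : orderOf g ≠ 0 := (orderOf_pos g).ne'
  obtain ⟨k, m, hm, hkm⟩ := Nat.exists_eq_pow_mul_and_not_dvd ho p hp.ne_one
  have hhN : g ^ m ∈ Subgroup.normalizer ((S : Subgroup G) : Set G) := Subgroup.pow_mem _ hg m
  have hhp : (g ^ m) ^ (p ^ k) = 1 := by
    rw [← pow_mul, mul_comm, ← hkm, pow_orderOf_eq_one]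
  have hZp : IsPGroup p (Subgroup.zpowers (g ^ m)) := by
    rintro ⟨y, hy⟩
    obtain ⟨i, rfl⟩ := Subgroup.mem_zpowers_iff.mp hy
    refine ⟨k, Subtype.ext ?_⟩
    show ((g ^ m) ^ i) ^ (p ^ k) = 1
    rw [← zpow_natCast, ← zpow_mul, zpow_mul', zpow_natCast, hhp, one_zpow]
  have hZN : Subgroup.zpowers (g ^ m) ≤ Subgroup.normalizer ((S : Subgroup G) : Set G) :=
    Subgroup.zpowers_le.mpr hhN
  have hfix : S ∈ MulAction.fixedPoints (Subgroup.zpowers (g ^ m)) (Sylow p G) :=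
    (Subgroup.sylow_mem_fixedPoints_iff _).mpr hZN
  have hZS : Subgroup.zpowers (g ^ m) ≤ (S : Subgroup G) :=
    (hZp.sylow_mem_fixedPoints_iff).mp hfix
  have hhS : g ^ m ∈ (S : Subgroup G) := hZS (Subgroup.mem_zpowers _)
  -- the automorphism induced by `g` is a power of the one induced by `g ^ m`
  obtain ⟨α, hαdef⟩ : ∃ α : MulAut (S : Subgroup G), α = conjAut (S : Subgroup G) ⟨g, hg⟩ :=
    ⟨_, rfl⟩
  rw [← hαdef] at hj
  have hord : orderOf α ∣ p ^ j := orderOf_dvd_of_pow_eq_one hj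
  have hcop : m.Coprime (orderOf α) :=
    Nat.Coprime.coprime_dvd_right hord
      (Nat.Coprime.pow_right j ((Nat.Prime.coprime_iff_not_dvd hp).mpr hm).symm)
  obtain ⟨t, ht⟩ := exists_pow_eq_self_of_coprime hcop
  have hsN : (g ^ m) ^ t ∈ Subgroup.normalizer ((S : Subgroup G) : Set G) :=
    Subgroup.pow_mem _ hhN t
  have e1 : (α ^ m) ^ t = conjAut (S : Subgroup G) ⟨(g ^ m) ^ t, hsN⟩ := by
    rw [hαdef, ← map_pow, ← map_pow]
    rfl
  refine ⟨(g ^ m) ^ t, Subgroup.pow_mem _ hhS t, fun x hx => ?_⟩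
  have e2 : α = conjAut (S : Subgroup G) ⟨(g ^ m) ^ t, hsN⟩ := ht.symm.trans e1
  have e3 := congrArg (fun a : MulAut (S : Subgroup G) => ((a ⟨x, hx⟩ : (S : Subgroup G)) : G)) e2
  rw [hαdef] at e3
  exact e3

theorem autInducedBy_top_eq_inn (S : Sylow p G) (hAut : IsPGroup p (MulAut (S : Subgroup G))) :
    autInducedBy ⊤ (S : Subgroup G) = Inn (S : Subgroup G) := by
  apply le_antisymm
  · intro α hα
    obtain ⟨g, -, hgα⟩ := (mem_autInducedBy_iff ⊤ _ α).mp hα
    have hgN := mem_normalizer_of_induces α hgα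
    obtain ⟨s, hs, hse⟩ := exists_mem_sylow_conj_eq S hAut hgN
    refine ⟨⟨s, hs⟩, ?_⟩
    apply MulEquiv.ext
    intro x
    apply Subtype.ext
    rw [hgα x, hse x x.2]
    rfl
  · exact inn_le_autInducedBy le_top

theorem radical_top (S : Sylow p G) (hAut : IsPGroup p (MulAut (S : Subgroup G))) :
    (groupFusionSystem (S : Subgroup G)).IsRadical p (S : Subgroup G) := by
  refine ⟨le_rfl, ?_⟩
  have h1 : (groupFusionSystem (S : Subgroup G)).autGroup (S : Subgroup G) =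
      Inn (S : Subgroup G) := by
    rw [groupFusion_autGroup_eq le_rfl, autInducedBy_top_eq_inn S hAut]
  have hpg : IsPGroup p ((groupFusionSystem (S : Subgroup G)).autGroup (S : Subgroup G)) :=
    hAut.to_subgroup _
  have htop : pCore p ((groupFusionSystem (S : Subgroup G)).autGroup (S : Subgroup G)) = ⊤ := by
    apply eq_top_iff.mpr
    exact le_pCore' (by infer_instance) (hpg.to_subgroup ⊤)
  rw [htop, ← MonoidHom.range_eq_map, Subgroup.range_subtype, h1]

/-- hypothesis (b) of the simplicity criterion when `Aut(S)` is a `p`-group -/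
theorem hb_of_aut_pgroup (S : Sylow p G) (hAut : IsPGroup p (MulAut (S : Subgroup G))) :
    Cfsg.autInducedBy ⊤ (S : Subgroup G) = ⨆ (R : Subgroup G) (_ : (Cfsg.groupFusionSystem (S : Subgroup G)).IsFullyNormalized R ∧ (Cfsg.groupFusionSystem (S : Subgroup G)).IsRadical p R ∧ (Cfsg.groupFusionSystem (S : Subgroup G)).IsCentric R), Cfsg.autInducedBy (Subgroup.closure {g : G | g ∈ Subgroup.normalizer (R : Set G) ∧ ∃ k : ℕ, orderOf g = p ^ k}) (S : Subgroup G) := by
  apply le_antisymm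
  · refine le_iSup₂_of_le (S : Subgroup G)
      ⟨fullyNormalized_top _, radical_top S hAut, centric_top _⟩ ?_
    intro α hα
    obtain ⟨g, -, hgα⟩ := (mem_autInducedBy_iff ⊤ _ α).mp hα
    have hgN := mem_normalizer_of_induces α hgα
    obtain ⟨s, hs, hse⟩ := exists_mem_sylow_conj_eq S hAut hgN
    rw [mem_autInducedBy_iff]
    refine ⟨s, Subgroup.subset_closure ⟨Subgroup.le_normalizer hs, ?_⟩,
      fun x => (hgα x).trans (hse x x.2)⟩
    obtain ⟨k, hk⟩ := (IsPGroup.iff_orderOf.mp S.isPGroup') ⟨s, hs⟩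
    exact ⟨k, (Subgroup.orderOf_coe (⟨s, hs⟩ : (S : Subgroup G))).trans hk⟩
  · exact iSup₂_le fun R _ => autInducedBy_mono le_top _

/-- no proper nontrivial strongly closed subgroup when all involutions are conjugate and `S` is
generated by involutions -/
theorem stronglyClosed_eq_of_involutions (S : Sylow 2 G)
    (hconj : ∀ t u : G, orderOf t = 2 → orderOf u = 2 → ∃ g : G, g * t * g⁻¹ = u)
    (hgen : (S : Subgroup G) ≤ Subgroup.closure {u : G | u ∈ (S : Subgroup G) ∧ orderOf u = 2})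
    (T : Subgroup G) (hT : (groupFusionSystem (S : Subgroup G)).StronglyClosed T) :
    T = ⊥ ∨ T = (S : Subgroup G) := by
  by_cases hbot : T = ⊥
  · exact Or.inl hbot
  right
  obtain ⟨hTS, hcl⟩ := hT
  apply le_antisymm hTS
  have hTp : IsPGroup 2 T := S.isPGroup'.to_le hTS
  obtain ⟨n, hn⟩ := IsPGroup.iff_card.mp hTp
  have hn0 : n ≠ 0 := by
    rintro rfl
    rw [pow_zero] at hn
    exact hbot (Subgroup.card_eq_one.mp hn)
  have h2 : 2 ∣ Nat.card T := by
    rw [hn]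
    exact dvd_pow_self 2 hn0
  obtain ⟨t, ht⟩ := exists_prime_orderOf_dvd_card' 2 h2
  have ht' : orderOf (t : G) = 2 := (Subgroup.orderOf_coe t).trans ht
  refine hgen.trans ?_
  rw [Subgroup.closure_le]
  rintro u ⟨huS, hu⟩
  obtain ⟨g, hg⟩ := hconj t u ht' hu
  have hzT : Subgroup.zpowers (t : G) ≤ T := Subgroup.zpowers_le.mpr t.2
  have hφ : conjHom (Subgroup.zpowers (t : G)) g ∈
      (groupFusionSystem (S : Subgroup G)).Hom (Subgroup.zpowers (t : G)) := by
    refine ⟨hzT.trans hTS, ?_, g, fun x => rfl⟩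
    rintro ⟨x, hx⟩
    obtain ⟨i, rfl⟩ := Subgroup.mem_zpowers_iff.mp hx
    show g * (t : G) ^ i * g⁻¹ ∈ (S : Subgroup G)
    rw [← conj_zpow, hg]
    exact Subgroup.zpow_mem _ huS i
  have h3 := hcl _ hzT _ hφ ⟨(t : G), Subgroup.mem_zpowers _⟩
  have h4 : conjHom (Subgroup.zpowers (t : G)) g ⟨(t : G), Subgroup.mem_zpowers _⟩ = u := hg
  rw [h4] at h3
  exact h3

end Cfsg.Agent.Lib.Helper2.FusSimp
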