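import Mathlib

set_option autoImplicit false

namespace Cfsg.Agent.Lib.Helper2.FusSimp

open DihedralGroup
open scoped Pointwise

/-! ### Dihedral groups: powers, automorphisms, involutions -/

theorem r_pow' {n : ℕ} (j : ZMod n) (m : ℕ) : (r j : DihedralGroup n) ^ m = r ((m : ZMod n) * j) := by
  induction m with
  | zero =>
    rw [pow_zero, Nat.cast_zero, zero_mul]
    rfl
  | succ m ih =>
    rw [pow_succ, ih, r_mul_r]
    congr 1
    push_cast
    ring

theorem aut_r_one {n : ℕ} (hn : 3 ≤ n) (β : MulAut (DihedralGroup n)) :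
    ∃ k : ZMod n, β (r 1) = r k := by
  have ho : orderOf (β (r 1)) = n := by
    rw [MulEquiv.orderOf_eq]
    exact orderOf_r_one
  cases h : β (r 1) with
  | r k => exact ⟨k, rfl⟩
  | sr j =>
    rw [h, orderOf_sr] at ho
    omega

theorem aut_r {n : ℕ} (hn : 3 ≤ n) (β : MulAut (DihedralGroup n)) {k : ZMod n}
    (hk : β (r 1) = r k) (i : ZMod n) : β (r i) = r (k * i) := by
  haveI : NeZero n := ⟨by omega⟩
  have h1 : (r i : DihedralGroup n) = r 1 ^ i.val := by
    rw [r_one_pow, ZMod.natCast_zmod_val]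
  rw [h1, map_pow, hk, r_pow', ZMod.natCast_zmod_val, mul_comm]

theorem aut_pow_r_one {n : ℕ} (hn : 3 ≤ n) (β : MulAut (DihedralGroup n)) {k : ZMod n}
    (hk : β (r 1) = r k) (t : ℕ) : (β ^ t) (r 1) = r (k ^ t) := by
  induction t with
  | zero =>
    rw [pow_zero, pow_zero]
    rfl
  | succ t ih =>
    rw [pow_succ', MulAut.mul_apply, ih, aut_r hn β hk, pow_succ']

theorem aut_pow_eq_one {n : ℕ} (hn : 3 ≤ n) (β : MulAut (DihedralGroup n)) :
    β ^ (n.totient * n) = 1 := by
  obtain ⟨k, hk⟩ := aut_r_one hn β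
  obtain ⟨k', hk'⟩ := aut_r_one hn β⁻¹
  have hkk' : k * k' = 1 := by
    have h1 : β (β⁻¹ (r 1)) = r 1 := MulAut.apply_inv_self _ β _
    rw [hk', aut_r hn β hk] at h1
    exact r.inj h1
  -- `k` is a unit, so `k ^ φ(n) = 1`
  have hkpow : k ^ n.totient = 1 := by
    have h2 := ZMod.pow_totient (Units.mkOfMulEqOne k k' hkk')
    have h3 := congrArg Units.val h2
    rw [Units.val_pow_eq_pow_val] at h3
    exact h3
  -- `γ = β ^ φ(n)` fixes the rotations
  obtain ⟨γ, hγdef⟩ : ∃ γ : MulAut (DihedralGroup n), γ = β ^ n.totient := ⟨_, rfl⟩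
  have hγ1 : γ (r 1) = r 1 := by
    rw [hγdef, aut_pow_r_one hn β hk, hkpow]
  have hγr : ∀ i : ZMod n, γ (r i) = r i := by
    intro i
    rw [aut_r hn γ hγ1, one_mul]
  -- the image of `sr 0`
  obtain ⟨j, hj⟩ : ∃ j : ZMod n, γ (sr 0) = sr j := by
    cases h : γ (sr 0) with
    | r i =>
      exfalso
      have h1 : γ (sr 0) = γ (r i) := by rw [h, hγr]
      have h2 := γ.injective h1
      cases h2
    | sr j => exact ⟨j, rfl⟩
  have hγsr : ∀ i : ZMod n, γ (sr i) = sr (j + i) := by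
    intro i
    have h1 : (sr i : DihedralGroup n) = sr 0 * r i := by rw [sr_mul_r, zero_add]
    rw [h1, map_mul, hj, hγr, sr_mul_r]
  have hγpow : ∀ t : ℕ, (γ ^ t) (sr 0) = sr ((t : ZMod n) * j) := by
    intro t
    induction t with
    | zero =>
      rw [pow_zero, Nat.cast_zero, zero_mul]
      rfl
    | succ t ih =>
      rw [pow_succ', MulAut.mul_apply, ih, hγsr]
      congr 1
      push_cast
      ring
  have hγpowr : ∀ (t : ℕ) (i : ZMod n), (γ ^ t) (r i) = r i := by
    intro t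
    induction t with
    | zero =>
      intro i
      rw [pow_zero]
      rfl
    | succ t ih =>
      intro i
      rw [pow_succ', MulAut.mul_apply, ih, hγr]
  have hfinal : γ ^ n = 1 := by
    apply MulEquiv.ext
    intro x
    cases x with
    | r i => rw [hγpowr]; rfl
    | sr i =>
      have h1 : (sr i : DihedralGroup n) = sr 0 * r i := by rw [sr_mul_r, zero_add]
      rw [h1, map_mul, hγpow, hγpowr, ZMod.natCast_self, zero_mul]
      rfl
  rw [pow_mul, ← hγdef, hfinal]

theorem isPGroup_mulAut_dihedral (a : ℕ) (ha : 2 ≤ a) :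
    IsPGroup 2 (MulAut (DihedralGroup (2 ^ a))) := by
  intro β
  have h4 : 3 ≤ 2 ^ a := by
    calc 3 ≤ 2 ^ 2 := by norm_num
      _ ≤ 2 ^ a := Nat.pow_le_pow_right (by norm_num) ha
  refine ⟨(a - 1) + a, ?_⟩
  have h1 := aut_pow_eq_one h4 β
  rw [Nat.totient_prime_pow Nat.prime_two (by omega : 0 < a)] at h1
  have h2 : 2 ^ (a - 1) * (2 - 1) * 2 ^ a = 2 ^ ((a - 1) + a) := by
    rw [pow_add]
    norm_num
  rw [h2] at h1
  exact h1

/-- a group isomorphic to a dihedral group is generated by its involutions -/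
theorem le_closure_involutions {G : Type*} [Group G] (S : Subgroup G) {n : ℕ}
    (e : S ≃* DihedralGroup n) :
    S ≤ Subgroup.closure {u : G | u ∈ S ∧ orderOf u = 2} := by
  have hinv : ∀ i : ZMod n, ((e.symm (sr i) : S) : G) ∈
      Subgroup.closure {u : G | u ∈ S ∧ orderOf u = 2} := by
    intro i
    apply Subgroup.subset_closure
    refine ⟨(e.symm (sr i)).2, ?_⟩
    rw [Subgroup.orderOf_coe, MulEquiv.orderOf_eq, orderOf_sr]
  intro x hx
  have hx' : (⟨x, hx⟩ : S) = e.symm (e ⟨x, hx⟩) := (e.symm_apply_apply _).symm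
  cases h : e ⟨x, hx⟩ with
  | r i =>
    have h1 : (r i : DihedralGroup n) = sr 0 * sr i := by rw [sr_mul_sr, sub_zero]
    rw [h, h1, map_mul] at hx'
    have h2 : x = ((e.symm (sr 0) : S) : G) * ((e.symm (sr i) : S) : G) :=
      congrArg Subtype.val hx'
    rw [h2]
    exact Subgroup.mul_mem _ (hinv 0) (hinv i)
  | sr i =>
    rw [h] at hx'
    have h2 : x = ((e.symm (sr i) : S) : G) := congrArg Subtype.val hx'
    rw [h2]
    exact hinv i

/-! ### Embedding `D_n` into `D_{nu}` -/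

/-- multiplication by `u` as a map `ZMod n →+ ZMod (n * u)` -/
def zmodMul (n u : ℕ) : ZMod n →+ ZMod (n * u) :=
  ZMod.lift n ⟨(Int.castAddHom (ZMod (n * u))).comp (AddMonoidHom.mulLeft (u : ℤ)), by
    show (((u : ℤ) * (n : ℤ) : ℤ) : ZMod (n * u)) = 0
    rw [ZMod.intCast_zmod_eq_zero_iff_dvd]
    exact ⟨1, by push_cast; ring⟩⟩

theorem zmodMul_intCast (n u : ℕ) (z : ℤ) :
    zmodMul n u (z : ZMod n) = (((u : ℤ) * z : ℤ) : ZMod (n * u)) :=
  ZMod.lift_coe _ _ _

theorem zmodMul_injective (n u : ℕ) (hu : u ≠ 0) : Function.Injective (zmodMul n u) := by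
  rw [injective_iff_map_eq_zero]
  intro x hx
  obtain ⟨z, rfl⟩ := ZMod.intCast_surjective x
  rw [zmodMul_intCast, ZMod.intCast_zmod_eq_zero_iff_dvd] at hx
  rw [ZMod.intCast_zmod_eq_zero_iff_dvd]
  have h1 : ((n * u : ℕ) : ℤ) = (u : ℤ) * (n : ℤ) := by push_cast; ring
  rw [h1] at hx
  exact (mul_dvd_mul_iff_left (by exact_mod_cast hu : (u : ℤ) ≠ 0)).mp hx

/-- the underlying function of the embedding -/
def dihFun (n u : ℕ) : DihedralGroup n → DihedralGroup (n * u)
  | r i => r (zmodMul n u i)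
  | sr i => sr (zmodMul n u i)

theorem dihFun_r (n u : ℕ) (i : ZMod n) : dihFun n u (r i) = r (zmodMul n u i) := rfl

theorem dihFun_sr (n u : ℕ) (i : ZMod n) : dihFun n u (sr i) = sr (zmodMul n u i) := rfl

/-- the embedding `D_n → D_{nu}` -/
def dihEmb (n u : ℕ) : DihedralGroup n →* DihedralGroup (n * u) where
  toFun := dihFun n u
  map_one' := by
    show dihFun n u (r 0) = r 0
    rw [dihFun_r, map_zero]
  map_mul' := by
    rintro (i | i) (j | j)
    · rw [r_mul_r, dihFun_r, dihFun_r, dihFun_r, r_mul_r, map_add]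
    · rw [r_mul_sr, dihFun_r, dihFun_sr, dihFun_sr, r_mul_sr, map_sub]
    · rw [sr_mul_r, dihFun_sr, dihFun_r, dihFun_sr, sr_mul_r, map_add]
    · rw [sr_mul_sr, dihFun_sr, dihFun_sr, dihFun_r, sr_mul_sr, map_sub]

theorem dihEmb_injective (n u : ℕ) (hu : u ≠ 0) : Function.Injective (dihEmb n u) := by
  rintro (i | i) (j | j) h
  · have h' : (r (zmodMul n u i) : DihedralGroup (n * u)) = r (zmodMul n u j) := h
    rw [zmodMul_injective n u hu (r.inj h')]
  · have h' : (r (zmodMul n u i) : DihedralGroup (n * u)) = sr (zmodMul n u j) := h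
    cases h'
  · have h' : (sr (zmodMul n u i) : DihedralGroup (n * u)) = r (zmodMul n u j) := h
    cases h'
  · have h' : (sr (zmodMul n u i) : DihedralGroup (n * u)) = sr (zmodMul n u j) := h
    rw [zmodMul_injective n u hu (sr.inj h')]

/-- if `|G| = 2 (2^a u) w` with `u, w` odd and `G` contains a dihedral group of order `2 (2^a u)`,
then the Sylow 2-subgroups of `G` are dihedral of order `2^(a+1)` -/
theorem sylow_equiv_dihedral {G : Type*} [Group G] [Finite G] (a u w : ℕ) (hu : Odd u)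
    (hw : Odd w) (hcard : Nat.card G = 2 * (2 ^ a * u) * w) (H : Subgroup G)
    (e : H ≃* DihedralGroup (2 ^ a * u)) (S : Sylow 2 G) :
    Nonempty ((S : Subgroup G) ≃* DihedralGroup (2 ^ a)) := by
  have hu0 : u ≠ 0 := hu.pos.ne'
  obtain ⟨ι, hιdef⟩ : ∃ ι : DihedralGroup (2 ^ a) →* G,
      ι = H.subtype.comp (e.symm.toMonoidHom.comp (dihEmb (2 ^ a) u)) := ⟨_, rfl⟩
  have hinj : Function.Injective ι := by
    rw [hιdef]
    exact Subtype.val_injective.comp (e.symm.injective.comp (dihEmb_injective _ _ hu0))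
  have hcardR : Nat.card ι.range = 2 ^ (a + 1) := by
    rw [← Nat.card_congr (MonoidHom.ofInjective hinj).toEquiv, DihedralGroup.nat_card, pow_succ,
      mul_comm]
  have hodd : ¬ 2 ∣ u * w := by
    intro h
    have := Nat.odd_iff.mp (hu.mul hw)
    omega
  have hfac : (Nat.card G).factorization 2 = a + 1 := by
    have h1 : Nat.card G = 2 ^ (a + 1) * (u * w) := by
      rw [hcard, pow_succ]
      ring
    rw [h1, Nat.factorization_mul (by positivity) (hu.mul hw).pos.ne', Finsupp.add_apply,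
      Nat.Prime.factorization_pow Nat.prime_two, Finsupp.single_eq_same,
      Nat.factorization_eq_zero_of_not_dvd hodd, add_zero]
  obtain ⟨Q, hQ⟩ : ∃ Q : Sylow 2 G, (Q : Subgroup G) = ι.range :=
    ⟨Sylow.ofCard ι.range (by rw [hcardR, hfac]), Sylow.coe_ofCard _ _⟩
  obtain ⟨g, hg⟩ := MulAction.exists_smul_eq G Q S
  subst hg
  exact ⟨((MonoidHom.ofInjective hinj).trans
    ((MulEquiv.subgroupCongr hQ).symm.trans (Sylow.equivSMul Q g))).symm⟩

end Cfsg.Agent.Lib.Helper2.FusSimp
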