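import Mathlib
import Cfsg.Agent.Lib.Helper2.FusSimp1
import Cfsg.Agent.Lib.Helper2.FusSimp2
import Cfsg.Agent.Lib.Helper5.PSL2Tori
import Cfsg.Agent.Lib.Helper5.PSL2Pairs
import Cfsg.Agent.Lib.Helper4.SLCard
import Cfsg.Agent.Lib.Helper4.SLCenter

set_option autoImplicit false

namespace Cfsg.Agent.Lib.Helper2.FusSimp

variable {F : Type*} [Field F] [Fintype F]

local notation "SL2" => Matrix.SpecialLinearGroup (Fin 2) F
local notation "PSL2" => Matrix.ProjectiveSpecialLinearGroup (Fin 2) F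

/-- all involutions of `PSL_2(q)`, `q` odd, are conjugate -/
theorem psl2_involutions_conj (hodd : Fintype.card F % 2 = 1) (t u : PSL2)
    (ht : orderOf t = 2) (hu : orderOf u = 2) : ∃ g : PSL2, g * t * g⁻¹ = u := by
  have h2 : (2 : F) ≠ 0 := Cfsg.Agent.Lib.Helper5.SumTwoSq.two_ne_zero_of_odd hodd
  obtain ⟨x, rfl⟩ := QuotientGroup.mk_surjective t
  obtain ⟨y, rfl⟩ := QuotientGroup.mk_surjective u
  have key : ∀ a : SL2, orderOf (QuotientGroup.mk a : PSL2) = 2 → a.1.trace = 0 := by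
    intro a ha
    apply (Cfsg.Agent.Lib.Helper5.PSL2Pairs.inv_iff_trace h2 a).mp
    constructor
    · intro h1
      rw [h1, orderOf_one] at ha
      omega
    · have h3 := pow_orderOf_eq_one (QuotientGroup.mk a : PSL2)
      rw [ha, pow_two] at h3
      exact h3
  obtain ⟨g, hg⟩ := Cfsg.Agent.Lib.Helper5.SL2Four.exists_conj' hodd x y (key x ht) (key y hu)
  refine ⟨QuotientGroup.mk g, ?_⟩
  rw [← hg]
  rfl

theorem card_psl2 (t : ℕ) (hq : Fintype.card F = 2 * t + 1) :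
    Nat.card PSL2 = 2 * t * (t + 1) * (2 * t + 1) := by
  have h1 := Cfsg.Agent.Lib.Helper4.card_PSL_mul (F := F) 2 (by norm_num)
  rw [Cfsg.Agent.Lib.Helper4.card_SL2, hq] at h1
  have h2 : 2 * t + 1 - 1 = 2 * t := by omega
  have h3 : Nat.gcd 2 (2 * t) = 2 := Nat.gcd_eq_left (dvd_mul_right 2 t)
  have h4 : (2 * t + 1) ^ 2 - 1 = 4 * (t * (t + 1)) := by
    have : (2 * t + 1) ^ 2 = 4 * (t * (t + 1)) + 1 := by ring
    omega
  rw [h2, h3, h4] at h1
  have h5 : 2 * Nat.card PSL2 = 2 * (2 * t * (t + 1) * (2 * t + 1)) := by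
    rw [h1]; ring
  exact Nat.eq_of_mul_eq_mul_left (by norm_num) h5

/-- the Sylow `2`-subgroups of `PSL_2(q)`, `16 ∣ q ^ 2 - 1`, are dihedral of order at least `8` -/
theorem psl2_sylow_dihedral (hodd : Fintype.card F % 2 = 1)
    (h16 : 16 ∣ Fintype.card F ^ 2 - 1) (S : Sylow 2 PSL2) :
    ∃ a, 2 ≤ a ∧ Nonempty ((S : Subgroup PSL2) ≃* DihedralGroup (2 ^ a)) := by
  obtain ⟨t, ht⟩ : ∃ t, Fintype.card F = 2 * t + 1 := ⟨Fintype.card F / 2, by omega⟩
  have hcard := card_psl2 (F := F) t ht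
  have e3 : Fintype.card F ^ 2 - 1 = 4 * (t * (t + 1)) := by
    rw [ht]
    have : (2 * t + 1) ^ 2 = 4 * (t * (t + 1)) + 1 := by ring
    omega
  rw [e3] at h16
  have h4 : 4 ∣ t * (t + 1) := by omega
  have hsub : Fintype.card F - 1 = 2 * t := by omega
  have hgcd : Nat.gcd 2 (Fintype.card F - 1) = 2 := by
    rw [hsub]; exact Nat.gcd_eq_left (dvd_mul_right 2 t)
  have hq0 : 1 < Fintype.card F := Fintype.one_lt_card
  have ht0 : 0 < t := by omega
  have hodd2 : Odd (2 * t + 1) := ⟨t, rfl⟩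
  rcases Nat.even_or_odd t with hev | hod
  · have hodd1 : Odd (t + 1) := hev.add_one
    have h4t : 4 ∣ t := by
      have hc : Nat.Coprime (2 ^ 2) (t + 1) :=
        Nat.Coprime.pow_left 2 (Nat.coprime_two_left.mpr hodd1)
      exact hc.dvd_of_dvd_mul_right h4
    obtain ⟨a, u, hu, htu⟩ := Nat.exists_eq_two_pow_mul_odd ht0.ne'
    have ha : 2 ≤ a := by
      by_contra hlt
      obtain ⟨k, hk⟩ := hu
      obtain ⟨m, hm⟩ := h4t
      have h01 : a = 0 ∨ a = 1 := by omega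
      rcases h01 with rfl | rfl
      · rw [pow_zero, one_mul] at htu; omega
      · rw [pow_one] at htu; omega
    have hw : Odd ((t + 1) * (2 * t + 1)) := hodd1.mul hodd2
    have hcard' : Nat.card PSL2 = 2 * (2 ^ a * u) * ((t + 1) * (2 * t + 1)) := by
      rw [hcard, ← htu]; ring
    obtain ⟨H, ⟨e⟩⟩ := Cfsg.Agent.Lib.Helper5.PSL2Tori.exists_psl_dihedral_sub (F := F)
    have hidx : (Fintype.card F - 1) / Nat.gcd 2 (Fintype.card F - 1) = 2 ^ a * u := by
      rw [hgcd, ← htu]; omega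
    rw [hidx] at e
    exact ⟨a, ha, sylow_equiv_dihedral a u _ hu hw hcard' H e S⟩
  · have hev1 : Even (t + 1) := hod.add_one
    have h4t : 4 ∣ t + 1 := by
      have hc : Nat.Coprime (2 ^ 2) t :=
        Nat.Coprime.pow_left 2 (Nat.coprime_two_left.mpr hod)
      exact hc.dvd_of_dvd_mul_left h4
    obtain ⟨a, u, hu, htu⟩ := Nat.exists_eq_two_pow_mul_odd (by omega : t + 1 ≠ 0)
    have ha : 2 ≤ a := by
      by_contra hlt
      obtain ⟨k, hk⟩ := hu
      obtain ⟨m, hm⟩ := h4t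
      have h01 : a = 0 ∨ a = 1 := by omega
      rcases h01 with rfl | rfl
      · rw [pow_zero, one_mul] at htu; omega
      · rw [pow_one] at htu; omega
    have hw : Odd (t * (2 * t + 1)) := hod.mul hodd2
    have hcard' : Nat.card PSL2 = 2 * (2 ^ a * u) * (t * (2 * t + 1)) := by
      rw [hcard, ← htu]; ring
    obtain ⟨H, ⟨e⟩⟩ := Cfsg.Agent.Lib.Helper5.PSL2Tori.exists_psl_dihedral_add (F := F)
    have hidx : (Fintype.card F + 1) / Nat.gcd 2 (Fintype.card F - 1) = 2 ^ a * u := by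
      rw [hgcd, ← htu]; omega
    rw [hidx] at e
    exact ⟨a, ha, sylow_equiv_dihedral a u _ hu hw hcard' H e S⟩

end Cfsg.Agent.Lib.Helper2.FusSimp
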