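import Mathlib
import Cfsg.Agent.Lib.Helper7.StronglyClosedAbelian
import Cfsg.Agent.Lib.Helper7.ConjFunctor1
import Cfsg.Agent.Lib.Helper7.WeaklyClosed
import Cfsg.Agent.Lib.Helper7.SylowIn

set_option autoImplicit false

namespace Cfsg.Agent.Lib.Helper2.FusionLift

open Cfsg Cfsg.Agent.Lib.Helper7

variable {G : Type*} [Group G]

local notation:max Q "⋏" g:max => Subgroup.map (MulEquiv.toMonoidHom (MulAut.conj g)) Q

/-- `N_N(V)` controls strong fusion in `Q` with respect to `N`. -/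
def Ctrl (N Q V : Subgroup G) : Prop :=
  ∀ A : Subgroup G, A ≤ Q → ∀ n ∈ N, A ⋏ n ≤ Q →
    ∃ h ∈ N ⊓ Subgroup.normalizer (V : Set G), ∃ c ∈ N ⊓ Subgroup.centralizer (A : Set G),
      n = h * c

theorem map_conj_eq_of_mem_centralizer {A : Subgroup G} {c : G}
    (hc : c ∈ Subgroup.centralizer (A : Set G)) : A ⋏ c = A :=
  (map_conj_eq_self_iff A c).mpr (Subgroup.centralizer_le_normalizer _ hc)

theorem conj_mem_centralizer_map_conj {A : Subgroup G} {c x : G}
    (hc : c ∈ Subgroup.centralizer (A : Set G)) :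
    x * c * x⁻¹ ∈ Subgroup.centralizer ((A ⋏ x : Subgroup G) : Set G) := by
  rw [Subgroup.mem_centralizer_iff]
  rintro _ ⟨a, ha, rfl⟩
  have h1 := Subgroup.mem_centralizer_iff.mp hc a ha
  simp only [MulEquiv.coe_toMonoidHom, MulAut.conj_apply]
  calc x * a * x⁻¹ * (x * c * x⁻¹) = x * (a * c) * x⁻¹ := by group
    _ = x * (c * a) * x⁻¹ := by rw [h1]
    _ = x * c * x⁻¹ * (x * a * x⁻¹) := by group

theorem conj_mem_normalizer_map_conj {V : Subgroup G} {h x : G}
    (hh : h ∈ Subgroup.normalizer (V : Set G)) :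
    x * h * x⁻¹ ∈ Subgroup.normalizer ((V ⋏ x : Subgroup G) : Set G) := by
  rw [← map_conj_eq_self_iff, map_conj_map_conj]
  have e : x * h * x⁻¹ * x = x * h := by group
  rw [e, ← map_conj_map_conj, (map_conj_eq_self_iff V h).mpr hh]

theorem ctrl_conj {N Q V : Subgroup G} [hN : N.Normal] (h : Ctrl N Q V) {x : G}
    (hx : x ∈ Subgroup.normalizer (Q : Set G)) : Ctrl N Q (V ⋏ x) := by
  intro A hA n hn hAn
  have hQx : Q ⋏ x⁻¹ = Q := (map_conj_eq_self_iff Q x⁻¹).mpr (Subgroup.inv_mem _ hx)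
  have hA' : A ⋏ x⁻¹ ≤ Q := by
    calc A ⋏ x⁻¹ ≤ Q ⋏ x⁻¹ := Subgroup.map_mono hA
      _ = Q := hQx
  have hn' : x⁻¹ * n * x ∈ N := hN.conj_mem' n hn x
  have hAn' : (A ⋏ x⁻¹) ⋏ (x⁻¹ * n * x) ≤ Q := by
    rw [map_conj_map_conj]
    have e : x⁻¹ * n * x * x⁻¹ = x⁻¹ * n := by group
    rw [e, ← map_conj_map_conj]
    calc (A ⋏ n) ⋏ x⁻¹ ≤ Q ⋏ x⁻¹ := Subgroup.map_mono hAn
      _ = Q := hQx
  obtain ⟨h', hh', c', hc', heq⟩ := h (A ⋏ x⁻¹) hA' _ hn' hAn'
  refine ⟨x * h' * x⁻¹, Subgroup.mem_inf.mpr ⟨hN.conj_mem _ (Subgroup.mem_inf.mp hh').1 x,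
    conj_mem_normalizer_map_conj (Subgroup.mem_inf.mp hh').2⟩, x * c' * x⁻¹,
    Subgroup.mem_inf.mpr ⟨hN.conj_mem _ (Subgroup.mem_inf.mp hc').1 x, ?_⟩, ?_⟩
  · have := conj_mem_centralizer_map_conj (x := x) (Subgroup.mem_inf.mp hc').2
    rwa [map_conj_map_conj_inv] at this
  · calc n = x * (x⁻¹ * n * x) * x⁻¹ := by group
      _ = x * (h' * c') * x⁻¹ := by rw [heq]
      _ = x * h' * x⁻¹ * (x * c' * x⁻¹) := by group

open Classical in
theorem ctrl_finset {N Q : Subgroup G} (T : Finset (Subgroup G)) :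
    (∀ V' ∈ T, V' ≤ Q ∧ Ctrl N Q V') →
    ∀ A : Subgroup G, A ≤ Q → ∀ n ∈ N, A ⋏ n ≤ Q →
      ∃ h ∈ N, (∀ V' ∈ T, h ∈ Subgroup.normalizer (V' : Set G)) ∧
        ∃ c ∈ N ⊓ Subgroup.centralizer (A : Set G), n = h * c := by
  induction T using Finset.induction_on with
  | empty =>
    intro _ A _ n hn _
    exact ⟨n, hn, by simp, 1, Subgroup.one_mem _, by simp⟩
  | insert V₂ T' hV₂ ih =>
    intro hT A hA n hn hAn
    have hT' : ∀ V' ∈ T', V' ≤ Q ∧ Ctrl N Q V' := fun V' hV' =>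
      hT V' (Finset.mem_insert_of_mem hV')
    obtain ⟨h₁, hh₁N, hh₁, c₁, hc₁, heq₁⟩ := ih hT' A hA n hn hAn
    set A₁ : Subgroup G := A ⊔ ⨆ V' ∈ T', V' with hA₁
    have hA₁Q : A₁ ≤ Q := by
      apply sup_le hA
      apply iSup₂_le
      intro V' hV'
      exact (hT' V' hV').1
    have hAh₁ : A ⋏ h₁ = A ⋏ n := by
      rw [heq₁, ← map_conj_map_conj, map_conj_eq_of_mem_centralizer (Subgroup.mem_inf.mp hc₁).2]
    have hA₁h₁ : A₁ ⋏ h₁ ≤ Q := by
      rw [Subgroup.map_le_iff_le_comap]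
      apply sup_le
      · rw [← Subgroup.map_le_iff_le_comap, hAh₁]; exact hAn
      · apply iSup₂_le
        intro V' hV'
        rw [← Subgroup.map_le_iff_le_comap, (map_conj_eq_self_iff V' h₁).mpr (hh₁ V' hV')]
        exact (hT' V' hV').1
    obtain ⟨h₂, hh₂, c₂, hc₂, heq₂⟩ :=
      (hT V₂ (Finset.mem_insert_self _ _)).2 A₁ hA₁Q h₁ hh₁N hA₁h₁
    have hc₂A : c₂ ∈ Subgroup.centralizer (A : Set G) :=
      Subgroup.centralizer_le (SetLike.coe_subset_coe.mpr le_sup_left) (Subgroup.mem_inf.mp hc₂).2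
    refine ⟨h₂, (Subgroup.mem_inf.mp hh₂).1, ?_, c₂ * c₁, ?_, ?_⟩
    · intro V' hV'
      rcases Finset.mem_insert.mp hV' with rfl | hV'
      · exact (Subgroup.mem_inf.mp hh₂).2
      · have hV'A₁ : V' ≤ A₁ := le_trans (le_iSup₂ (f := fun (V' : Subgroup G) (_ : V' ∈ T') => V')
          V' hV') le_sup_right
        have hc₂V : c₂ ∈ Subgroup.normalizer (V' : Set G) :=
          Subgroup.centralizer_le_normalizer _
            (Subgroup.centralizer_le (SetLike.coe_subset_coe.mpr hV'A₁) (Subgroup.mem_inf.mp hc₂).2)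
        have e : h₂ = h₁ * c₂⁻¹ := by rw [heq₂]; group
        rw [e]
        exact Subgroup.mul_mem _ (hh₁ V' hV') (Subgroup.inv_mem _ hc₂V)
    · exact Subgroup.mem_inf.mpr ⟨N.mul_mem (Subgroup.mem_inf.mp hc₂).1 (Subgroup.mem_inf.mp hc₁).1,
        Subgroup.mul_mem _ hc₂A (Subgroup.mem_inf.mp hc₁).2⟩
    · rw [heq₁, heq₂, mul_assoc]

section WDef

variable [Finite G] {N Q V W : Subgroup G}

/-- The subgroup generated by the `N_G(Q)`-conjugates of `V`. -/
def genConj (Q V : Subgroup G) : Subgroup G :=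
  Subgroup.closure (⋃ x ∈ Subgroup.normalizer (Q : Set G),
    ((V ⋏ x : Subgroup G) : Set G))

theorem map_conj_le_genConj {x : G} (hx : x ∈ Subgroup.normalizer (Q : Set G)) :
    V ⋏ x ≤ genConj Q V := by
  intro z hz
  apply Subgroup.subset_closure
  exact Set.mem_biUnion hx hz

theorem genConj_le (hV : V ≤ Q) : genConj Q V ≤ Q := by
  unfold genConj
  rw [Subgroup.closure_le]
  intro z hz
  obtain ⟨x, hx, hz⟩ := Set.mem_iUnion₂.mp hz
  have : V ⋏ x ≤ Q := by
    calc V ⋏ x ≤ Q ⋏ x := Subgroup.map_mono hV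
      _ = Q := (map_conj_eq_self_iff Q x).mpr hx
  exact this hz

theorem mem_normalizer_genConj {h : G}
    (hh : ∀ x ∈ Subgroup.normalizer (Q : Set G), (V ⋏ x) ⋏ h ≤ genConj Q V) :
    h ∈ Subgroup.normalizer ((genConj Q V : Subgroup G) : Set G) := by
  apply mem_normalizer_of_map_conj_le
  unfold genConj
  rw [MonoidHom.map_closure, Subgroup.closure_le]
  rintro _ ⟨z, hz, rfl⟩
  obtain ⟨x, hx, hz⟩ := Set.mem_iUnion₂.mp hz
  exact hh x hx ⟨z, hz, rfl⟩

theorem normalizer_le_normalizer_genConj :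
    Subgroup.normalizer (Q : Set G) ≤
      Subgroup.normalizer ((genConj Q V : Subgroup G) : Set G) := by
  intro m hm
  apply mem_normalizer_genConj
  intro x hx
  rw [map_conj_map_conj]
  exact map_conj_le_genConj (Subgroup.mul_mem _ hm hx)

open Classical in
theorem ctrl_genConj [hN : N.Normal] (hV : V ≤ Q) (h : Ctrl N Q V) : Ctrl N Q (genConj Q V) := by
  intro A hA n hn hAn
  set 𝒮 : Set (Subgroup G) := {V' | ∃ x ∈ Subgroup.normalizer (Q : Set G), V' = V ⋏ x} with h𝒮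
  have hfin : 𝒮.Finite := Set.toFinite _
  obtain ⟨h₁, hh₁N, hh₁, c, hc, heq⟩ := ctrl_finset (N := N) (Q := Q) hfin.toFinset (by
    intro V' hV'
    rw [Set.Finite.mem_toFinset] at hV'
    obtain ⟨x, hx, rfl⟩ := hV'
    refine ⟨?_, ctrl_conj h hx⟩
    calc V ⋏ x ≤ Q ⋏ x := Subgroup.map_mono hV
      _ = Q := (map_conj_eq_self_iff Q x).mpr hx) A hA n hn hAn
  refine ⟨h₁, Subgroup.mem_inf.mpr ⟨hh₁N, ?_⟩, c, hc, heq⟩
  apply mem_normalizer_genConj
  intro x hx
  have : V ⋏ x ∈ hfin.toFinset := by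
    rw [Set.Finite.mem_toFinset]
    exact ⟨x, hx, rfl⟩
  rw [(map_conj_eq_self_iff (V ⋏ x) h₁).mpr (hh₁ _ this)]
  exact map_conj_le_genConj hx

end WDef

section Global

variable [Finite G] {p : ℕ} [Fact p.Prime]

theorem isSylowIn_inf_normal (P : Sylow p G) (N : Subgroup G) [hN : N.Normal] :
    IsSylowIn p ((P : Subgroup G) ⊓ N) N := by
  have h1 : IsSylowIn p (P : Subgroup G) ⊤ := isSylowIn_of_sylow P le_top
  exact h1.inf_normal le_top (by rw [Subgroup.normalizer_eq_top])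

/-- Control of strong fusion for subgroups of `P ∩ N`. -/
theorem exists_mul_of_le_inf (P : Sylow p G) (N : Subgroup G) [hN : N.Normal] (W : Subgroup G)
    (hctrl : Ctrl N ((P : Subgroup G) ⊓ N) W)
    (hMW : Subgroup.normalizer (((P : Subgroup G) ⊓ N : Subgroup G) : Set G) ≤
      Subgroup.normalizer (W : Set G))
    (A : Subgroup G) (hA : A ≤ (P : Subgroup G) ⊓ N) (g : G) (hAg : A ⋏ g ≤ (P : Subgroup G)) :
    ∃ l ∈ Subgroup.normalizer (W : Set G), ∃ c ∈ N ⊓ Subgroup.centralizer (A : Set G),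
      g = l * c := by
  set Q : Subgroup G := (P : Subgroup G) ⊓ N with hQ
  have hsyl : IsSylowIn p Q N := isSylowIn_inf_normal P N
  have hgN : g ∈ Subgroup.normalizer (N : Set G) := by
    rw [Subgroup.normalizer_eq_top]; trivial
  obtain ⟨k, hk, hkg⟩ := exists_mul_mem_normalizer_of_isSylowIn hsyl hgN
  set m : G := k * g with hm
  have hAgN : A ⋏ g ≤ N := by
    calc A ⋏ g ≤ N ⋏ g := Subgroup.map_mono (hA.trans inf_le_right)
      _ = N := (map_conj_eq_self_iff N g).mpr hgN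
  have hAgQ : A ⋏ g ≤ Q := le_inf hAg hAgN
  have hAm : A ⋏ m ≤ Q := by
    calc A ⋏ m ≤ Q ⋏ m := Subgroup.map_mono hA
      _ = Q := (map_conj_eq_self_iff Q m).mpr hkg
  have hAmk : (A ⋏ m) ⋏ k⁻¹ ≤ Q := by
    rw [map_conj_map_conj]
    have e : k⁻¹ * m = g := by rw [hm]; group
    rw [e]; exact hAgQ
  obtain ⟨h, hh, c, hc, heq⟩ := hctrl (A ⋏ m) hAm k⁻¹ (N.inv_mem hk) hAmk
  refine ⟨h * m, Subgroup.mul_mem _ (Subgroup.mem_inf.mp hh).2 (hMW hkg), m⁻¹ * c * m,
    Subgroup.mem_inf.mpr ⟨hN.conj_mem' _ (Subgroup.mem_inf.mp hc).1 m, ?_⟩, ?_⟩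
  · have := conj_mem_centralizer_map_conj (x := m⁻¹) (Subgroup.mem_inf.mp hc).2
    rwa [map_conj_inv_map_conj, inv_inv] at this
  · calc g = k⁻¹ * m := by rw [hm]; group
      _ = h * c * m := by rw [heq]
      _ = h * m * (m⁻¹ * c * m) := by group

/-- `W` is weakly closed in `P`. -/
theorem map_conj_eq_of_le (P : Sylow p G) (N : Subgroup G) [hN : N.Normal] (W : Subgroup G)
    (hWQ : W ≤ (P : Subgroup G) ⊓ N)
    (hctrl : Ctrl N ((P : Subgroup G) ⊓ N) W)
    (hMW : Subgroup.normalizer (((P : Subgroup G) ⊓ N : Subgroup G) : Set G) ≤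
      Subgroup.normalizer (W : Set G))
    (g : G) (hWg : W ⋏ g ≤ (P : Subgroup G)) : W ⋏ g = W := by
  obtain ⟨l, hl, c, hc, heq⟩ := exists_mul_of_le_inf P N W hctrl hMW W hWQ g hWg
  rw [heq, ← map_conj_map_conj, map_conj_eq_of_mem_centralizer (Subgroup.mem_inf.mp hc).2,
    (map_conj_eq_self_iff W l).mpr hl]

end Global

section Step

variable [Finite G] {p : ℕ} [Fact p.Prime]

/-- Alperin–Goldschmidt step: a normal subgroup `Y` of `N_G(X)` acting on `X` as a `p`-group and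
meeting `S` outside `X` reduces the automizer of `X` to bigger subgroups. -/
theorem innRel_of_normal_pAct (S : Sylow p G) (L : Subgroup G) (hSL : (S : Subgroup G) ≤ L)
    (X : Subgroup G) (hXS : X ≤ (S : Subgroup G))
    (hfn : ¬ p ∣ ((S : Subgroup G) ⊓ Subgroup.normalizer ((X : Subgroup G) : Set G)).relIndex
        (Subgroup.normalizer ((X : Subgroup G) : Set G)))
    (hbig : ∀ Y : Subgroup G, Y ≤ (S : Subgroup G) → Nat.card ↥X < Nat.card ↥Y →
        ∀ g : G, cr g (Y : Set G) ⊆ (S : Subgroup G) → InnRel L (Y : Set G) g)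
    (Y : Subgroup G) (hYN : Y ≤ Subgroup.normalizer (X : Set G))
    (hNY : Subgroup.normalizer (X : Set G) ≤ Subgroup.normalizer (Y : Set G))
    (hpowY : ∀ d ∈ Y, ∃ k : ℕ, d ^ (p ^ k) ∈ Subgroup.centralizer (X : Set G))
    (a : G) (haS : a ∈ (S : Subgroup G)) (haY : a ∈ Y) (haX : a ∉ X) :
    ∀ x ∈ Subgroup.normalizer (X : Set G), InnRel L (X : Set G) x := by
  intro x hx
  have hSp : IsPGroup p ↥(S : Subgroup G) := S.isPGroup'
  set N : Subgroup G := Subgroup.normalizer (X : Set G) with hN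
  have hsyl : IsSylowIn p ((S : Subgroup G) ⊓ N) N := ⟨inf_le_right, hSp.to_le inf_le_left, hfn⟩
  have hsylY : IsSylowIn p ((S : Subgroup G) ⊓ Y) Y := by
    have := hsyl.inf_normal hYN hNY
    rwa [inf_assoc, inf_of_le_right hYN] at this
  set P : Subgroup G := (S : Subgroup G) ⊓ Y with hP
  set X₂ : Subgroup G := X ⊔ P with hX₂
  have hX₂S : X₂ ≤ (S : Subgroup G) := sup_le hXS inf_le_left
  have haP : a ∈ P := Subgroup.mem_inf.mpr ⟨haS, haY⟩
  have hcard : Nat.card ↥X < Nat.card ↥X₂ := by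
    by_contra hcon
    push Not at hcon
    have heq := Subgroup.eq_of_le_of_card_ge (le_sup_left : X ≤ X₂) hcon
    apply haX
    rw [heq]
    exact (le_sup_right : P ≤ X₂) haP
  have hYrel : ∀ y ∈ Y, InnRel L (X : Set G) y := by
    intro y hy
    set C : Subgroup G := Y ⊓ Subgroup.centralizer (X : Set G) with hC
    have hYC : Y ≤ Subgroup.normalizer (C : Set G) := by
      refine le_trans ?_ Subgroup.inf_normalizer_le_normalizer_inf
      exact le_inf Subgroup.le_normalizer (hYN.trans (normalizer_le_normalizer_centralizer X))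
    have hpow : ∀ d ∈ Y, ∃ k : ℕ, d ^ (p ^ k) ∈ C := by
      intro d hd
      obtain ⟨k, hk⟩ := hpowY d hd
      exact ⟨k, Subgroup.mem_inf.mpr ⟨Y.pow_mem hd _, hk⟩⟩
    have hdec := le_sup_inf_sylowIn hsyl hYN hNY (inf_le_left : C ≤ Y) hYC hpow hy
    have hdec' : y ∈ ((C ⊔ (Y ⊓ ((S : Subgroup G) ⊓ N)) : Subgroup G) : Set G) := hdec
    rw [Subgroup.coe_mul_of_right_le_normalizer_left C _ (inf_le_left.trans hYC), Set.mem_mul]
      at hdec'
    obtain ⟨c, hc, s, hs, rfl⟩ := hdec'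
    have hsS : s ∈ (S : Subgroup G) := (Subgroup.mem_inf.mp (Subgroup.mem_inf.mp hs).2).1
    have hcC : c ∈ Subgroup.centralizer (X : Set G) := (Subgroup.mem_inf.mp hc).2
    refine ⟨s, hSL hsS, ?_⟩
    intro b hb
    have h1 := Subgroup.mem_centralizer_iff.mp hcC b hb
    have h2 : c⁻¹ * b * c = b := by rw [mul_assoc, h1]; group
    calc s⁻¹ * b * s = s⁻¹ * (c⁻¹ * b * c) * s := by rw [h2]
      _ = (c * s)⁻¹ * b * (c * s) := by group
  obtain ⟨k, hkY, hkx⟩ := exists_mul_mem_normalizer_of_isSylowIn hsylY (hNY hx)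
  have hkxN : k * x ∈ N := N.mul_mem (hYN hkY) hx
  have hkxX₂ : k * x ∈ Subgroup.normalizer (X₂ : Set G) :=
    Subgroup.normalizer_inf_normalizer_le_normalizer_sup X P (Subgroup.mem_inf.mpr ⟨hkxN, hkx⟩)
  have h1 : InnRel L (X₂ : Set G) (k * x) := by
    apply hbig X₂ hX₂S hcard
    rw [(cr_eq_self_iff_mem_normalizer (k * x) X₂).mpr hkxX₂]
    exact SetLike.coe_subset_coe.mpr hX₂S
  have h2 : InnRel L (X : Set G) (k * x) :=
    (InnRel.fusionRel _).mono h1 (SetLike.coe_subset_coe.mpr le_sup_left)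
  have h3 : InnRel L (X : Set G) k⁻¹ := hYrel _ (Y.inv_mem hkY)
  have h4 := (InnRel.fusionRel L).comp h3 (by
    rw [(cr_eq_self_iff_mem_normalizer k⁻¹ X).mpr (Subgroup.inv_mem _ (hYN hkY))]
    exact h2)
  rwa [inv_mul_cancel_left] at h4

end Step

section Main

variable [Finite G] {p : ℕ} [Fact p.Prime]

theorem innRel_normalizer (P : Sylow p G) (N : Subgroup G) [hN : N.Normal] (W : Subgroup G)
    (hWQ : W ≤ (P : Subgroup G) ⊓ N)
    (hctrl : Ctrl N ((P : Subgroup G) ⊓ N) W)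
    (hMW : Subgroup.normalizer (((P : Subgroup G) ⊓ N : Subgroup G) : Set G) ≤
      Subgroup.normalizer (W : Set G)) :
    ∀ (B : Set G) (g : G), B ⊆ (P : Subgroup G) → cr g B ⊆ (P : Subgroup G) →
      InnRel (Subgroup.normalizer (W : Set G)) B g := by
  have hPp : IsPGroup p ↥(P : Subgroup G) := P.isPGroup'
  have hNtop : Subgroup.normalizer (N : Set G) = ⊤ := Subgroup.normalizer_eq_top N
  have hPM : (P : Subgroup G) ≤ Subgroup.normalizer (((P : Subgroup G) ⊓ N : Subgroup G) : Set G) := by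
    refine le_trans (le_inf Subgroup.le_normalizer ?_) Subgroup.inf_normalizer_le_normalizer_inf
    rw [hNtop]; exact le_top
  have hPL : (P : Subgroup G) ≤ Subgroup.normalizer (W : Set G) := hPM.trans hMW
  have hWP : W ≤ (P : Subgroup G) := hWQ.trans inf_le_left
  have hWN : W ≤ N := hWQ.trans inf_le_right
  apply FusionRel.ag_induction P (InnRel.fusionRel _)
  intro X hXS hfn hbig x hx
  by_cases hWX : W ≤ X
  · have h1 : W ⋏ x ≤ (P : Subgroup G) := by
      calc W ⋏ x ≤ X ⋏ x := Subgroup.map_mono hWX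
        _ = X := (map_conj_eq_self_iff X x).mpr hx
        _ ≤ _ := hXS
    have hxW : x ∈ Subgroup.normalizer (W : Set G) :=
      (map_conj_eq_self_iff W x).mp (map_conj_eq_of_le P N W hWQ hctrl hMW x h1)
    exact ⟨x, hxW, fun _ _ => rfl⟩
  · set K : Subgroup G := Subgroup.normalizer (X : Set G) with hK
    obtain ⟨w, hwW, hwK, hwX⟩ : ∃ w ∈ W, w ∈ K ∧ w ∉ X := by
      haveI : (W.subgroupOf (P : Subgroup G)).Normal :=
        Subgroup.normal_subgroupOf_of_le_normalizer hPL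
      have hnot : ¬ W.subgroupOf (P : Subgroup G) ≤ X.subgroupOf (P : Subgroup G) := by
        intro h
        apply hWX
        intro a ha
        have := h (show (⟨a, hWP ha⟩ : ↥(P : Subgroup G)) ∈ W.subgroupOf (P : Subgroup G) from
          Subgroup.mem_subgroupOf.mpr ha)
        exact Subgroup.mem_subgroupOf.mp this
      obtain ⟨b, hbA, hbN, hbX⟩ := Cfsg.Agent.Lib.Helper1.exists_mem_normal_normalizer_not_mem
        (p := p) hPp (W.subgroupOf (P : Subgroup G)) (X.subgroupOf (P : Subgroup G)) hnot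
      refine ⟨(b : G), Subgroup.mem_subgroupOf.mp hbA, ?_,
        fun h => hbX (Subgroup.mem_subgroupOf.mpr h)⟩
      apply mem_normalizer_of_map_conj_le
      rintro _ ⟨y, hy, rfl⟩
      have := (Subgroup.mem_normalizer_iff.mp hbN ⟨y, hXS hy⟩).mp (Subgroup.mem_subgroupOf.mpr hy)
      exact Subgroup.mem_subgroupOf.mp this
    set X₀ : Subgroup G := X ⊓ N with hX₀
    set C₀ : Subgroup G := N ⊓ Subgroup.centralizer (X₀ : Set G) with hC₀
    set W₀ : Subgroup G := W ⊓ Subgroup.normalizer (X₀ : Set G) with hW₀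
    set B₀ : Subgroup G := W₀ ⊔ C₀ with hB₀
    set Y : Subgroup G := K ⊓ N ⊓ B₀ with hY
    have hX₀Q : X₀ ≤ (P : Subgroup G) ⊓ N := inf_le_inf_right N hXS
    have hKX₀ : K ≤ Subgroup.normalizer (X₀ : Set G) := by
      refine le_trans (le_inf le_rfl ?_) Subgroup.inf_normalizer_le_normalizer_inf
      rw [hNtop]; exact le_top
    have hnormC₀ : Subgroup.normalizer (X₀ : Set G) ≤ Subgroup.normalizer (C₀ : Set G) := by
      refine le_trans (le_inf ?_ (normalizer_le_normalizer_centralizer X₀))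
        Subgroup.inf_normalizer_le_normalizer_inf
      rw [hNtop]; exact le_top
    have hW₀C₀ : W₀ ≤ Subgroup.normalizer (C₀ : Set G) := inf_le_right.trans hnormC₀
    have hnormB₀ : Subgroup.normalizer (X₀ : Set G) ≤ Subgroup.normalizer (B₀ : Set G) := by
      intro g hg
      have hX₀g : X₀ ⋏ g ≤ (P : Subgroup G) := by
        rw [(map_conj_eq_self_iff X₀ g).mpr hg]
        exact hX₀Q.trans inf_le_left
      obtain ⟨l, hl, c, hc, heq⟩ := exists_mul_of_le_inf P N W hctrl hMW X₀ hX₀Q g hX₀g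
      have hcC₀ : c ∈ C₀ := hc
      have hcX₀ : c ∈ Subgroup.normalizer (X₀ : Set G) :=
        Subgroup.centralizer_le_normalizer _ (Subgroup.mem_inf.mp hc).2
      have hlX₀ : l ∈ Subgroup.normalizer (X₀ : Set G) := by
        have e : l = g * c⁻¹ := by rw [heq]; group
        rw [e]
        exact Subgroup.mul_mem _ hg (Subgroup.inv_mem _ hcX₀)
      have hlW₀ : l ∈ Subgroup.normalizer (W₀ : Set G) :=
        Subgroup.inf_normalizer_le_normalizer_inf
          (Subgroup.mem_inf.mpr ⟨hl, Subgroup.le_normalizer hlX₀⟩)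
      have hlB₀ : l ∈ Subgroup.normalizer (B₀ : Set G) :=
        Subgroup.normalizer_inf_normalizer_le_normalizer_sup W₀ C₀
          (Subgroup.mem_inf.mpr ⟨hlW₀, hnormC₀ hlX₀⟩)
      rw [heq]
      exact Subgroup.mul_mem _ hlB₀ (Subgroup.le_normalizer ((le_sup_right : C₀ ≤ B₀) hcC₀))
    have hYK : Y ≤ K := inf_le_left.trans inf_le_left
    have hKY : K ≤ Subgroup.normalizer (Y : Set G) := by
      refine le_trans (le_inf (le_trans (le_inf Subgroup.le_normalizer ?_)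
        Subgroup.inf_normalizer_le_normalizer_inf) (hKX₀.trans hnormB₀))
        Subgroup.inf_normalizer_le_normalizer_inf
      rw [hNtop]; exact le_top
    have hwY : w ∈ Y := by
      refine Subgroup.mem_inf.mpr ⟨Subgroup.mem_inf.mpr ⟨hwK, hWN hwW⟩, ?_⟩
      exact (le_sup_left : W₀ ≤ B₀) (Subgroup.mem_inf.mpr ⟨hwW, hKX₀ hwK⟩)
    have hpowY : ∀ d ∈ Y, ∃ k : ℕ, d ^ (p ^ k) ∈ Subgroup.centralizer (X : Set G) := by
      intro d hd
      have hdK : d ∈ K := (Subgroup.mem_inf.mp (Subgroup.mem_inf.mp hd).1).1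
      have hdN : d ∈ N := (Subgroup.mem_inf.mp (Subgroup.mem_inf.mp hd).1).2
      have hdB : d ∈ ((W₀ ⊔ C₀ : Subgroup G) : Set G) := (Subgroup.mem_inf.mp hd).2
      rw [Subgroup.coe_mul_of_left_le_normalizer_right W₀ C₀ hW₀C₀, Set.mem_mul] at hdB
      obtain ⟨w', hw', c', hc', rfl⟩ := hdB
      obtain ⟨k, hk⟩ := hPp ⟨w', hWP (Subgroup.mem_inf.mp hw').1⟩
      have hw'k : w' ^ p ^ k = 1 := by
        have := congrArg Subtype.val hk
        rwa [Subgroup.coe_pow, Subgroup.coe_one] at this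
      obtain ⟨c'', hc'', hpow⟩ := exists_pow_mul_eq (hW₀C₀ hw') hc' (p ^ k)
      rw [hw'k, one_mul] at hpow
      set d₁ : G := (w' * c') ^ p ^ k with hd₁
      have hd₁C₀ : d₁ ∈ C₀ := by rw [hpow]; exact hc''
      have hd₁K : d₁ ∈ K := Subgroup.pow_mem _ hdK _
      have hd₁N : d₁ ∈ N := Subgroup.pow_mem _ hdN _
      have hstab : d₁ ∈ chainStab X X₀ := by
        refine ⟨hd₁K, ?_, ?_⟩
        · intro z hz
          have := Subgroup.mem_centralizer_iff.mp (Subgroup.mem_inf.mp hd₁C₀).2 z hz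
          rw [← this]; group
        · intro y hy
          refine Subgroup.mem_inf.mpr ⟨?_, ?_⟩
          · exact X.mul_mem (X.inv_mem hy) ((Subgroup.mem_normalizer_iff.mp hd₁K y).mp hy)
          · have h1 : y⁻¹ * d₁ * y ∈ N := hN.conj_mem' d₁ hd₁N y
            have e : y⁻¹ * (d₁ * y * d₁⁻¹) = y⁻¹ * d₁ * y * d₁⁻¹ := by group
            rw [e]
            exact N.mul_mem h1 (N.inv_mem hd₁N)
      obtain ⟨j, hj⟩ := IsPGroup.iff_card.mp (hPp.to_le (hX₀Q.trans inf_le_left))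
      refine ⟨k + j, ?_⟩
      have := chainStab_pow_card_mem_centralizer hstab
      rw [hj, hd₁, ← pow_mul, ← pow_add] at this
      exact this
    exact innRel_of_normal_pAct P _ hPL X hXS hfn hbig Y hYK hKY hpowY w (hWP hwW) hwY hwX x hx

/-- Final form: `N_G(W)` controls strong fusion in `P`. -/
theorem controls_strong_fusion (P : Sylow p G) (N : Subgroup G) [hN : N.Normal] (V : Subgroup G)
    (hV : V ≤ (P : Subgroup G) ⊓ N) (hctrl : Ctrl N ((P : Subgroup G) ⊓ N) V)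
    (A : Subgroup G) (hA : A ≤ (P : Subgroup G)) (g : G) (hAg : A ⋏ g ≤ (P : Subgroup G)) :
    ∃ h ∈ Subgroup.normalizer ((genConj ((P : Subgroup G) ⊓ N) V : Subgroup G) : Set G),
      ∃ c ∈ Subgroup.centralizer (A : Set G), g = h * c := by
  set W := genConj ((P : Subgroup G) ⊓ N) V with hW
  have h1 := innRel_normalizer P N W (genConj_le hV) (ctrl_genConj hV hctrl)
    normalizer_le_normalizer_genConj (A : Set G) g⁻¹ (SetLike.coe_subset_coe.mpr hA) (by
      rintro _ ⟨a, ha, rfl⟩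
      apply hAg
      exact ⟨a, ha, by simp [MulAut.conj_apply]⟩)
  obtain ⟨s, hs, hsa⟩ := h1
  refine ⟨s⁻¹, Subgroup.inv_mem _ hs, s * g, ?_, by group⟩
  rw [Subgroup.mem_centralizer_iff]
  intro a ha
  have h2 := hsa a ha
  have h3 : s * (s⁻¹ * a * s) * s⁻¹ = a := by group
  calc a * (s * g) = s * (s⁻¹ * a * s) * s⁻¹ * (s * g) := by rw [h3]
    _ = s * (g⁻¹⁻¹ * a * g⁻¹) * s⁻¹ * (s * g) := by rw [h2]
    _ = s * g * a := by group

end Main

end Cfsg.Agent.Lib.Helper2.FusionLift
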