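import Mathlib

/-!
# S3390 piece (b): the transfer lemma

If `T` has index 2 in the Sylow 2-subgroup `S` and is fusion-closed in `S` (for `y ∈ S` and
`a y a⁻¹ ∈ S`: `y ∈ T ↔ a y a⁻¹ ∈ T`), then `G` has a normal subgroup `N` of index 2 with
`N ⊓ S = T` (the kernel of the transfer `G → S / T`).
-/

set_option autoImplicit false
set_option linter.style.haveILetI false

namespace Cfsg.Agent.Lib.Helper2.Fx2

open Subgroup MulAction

/-- in a group of order 2, two elements which are simultaneously trivial are equal -/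
theorem eq_of_card_two {Q : Type*} [Group Q] (hQ : Nat.card Q = 2) {a b : Q}
    (h : a = 1 ↔ b = 1) : a = b := by
  haveI : Finite Q := Nat.finite_of_card_ne_zero (by rw [hQ]; norm_num)
  by_cases ha : a = 1
  · rw [ha, h.1 ha]
  · have hb : b ≠ 1 := fun hb => ha (h.2 hb)
    by_contra hab
    have e := Finite.equivFinOfCardEq hQ
    have h1 : e a ≠ e 1 := fun h => ha (e.injective h)
    have h2 : e b ≠ e 1 := fun h => hb (e.injective h)
    have h3 : e a ≠ e b := fun h => hab (e.injective h)
    have h1' : (e a).val ≠ (e 1).val := fun h => h1 (Fin.ext h)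
    have h2' : (e b).val ≠ (e 1).val := fun h => h2 (Fin.ext h)
    have h3' : (e a).val ≠ (e b).val := fun h => h3 (Fin.ext h)
    have := (e a).isLt
    have := (e b).isLt
    have := (e 1).isLt
    omega

/-- **Transfer lemma** -/
theorem exists_normal_index_two_of_fusion_closed {G : Type*} [Group G] [Finite G]
    (S : Sylow 2 G) (T : Subgroup G) (hTS : T ≤ (S : Subgroup G))
    (hidx : T.relIndex (S : Subgroup G) = 2)
    (hfus : ∀ y ∈ (S : Subgroup G), ∀ a : G, a * y * a⁻¹ ∈ (S : Subgroup G) →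
      (y ∈ T ↔ a * y * a⁻¹ ∈ T)) :
    ∃ N : Subgroup G, N.Normal ∧ N.index = 2 ∧ N ⊓ (S : Subgroup G) = T := by
  classical
  have hidx' : (T.subgroupOf (S : Subgroup G)).index = 2 := hidx
  haveI hTn : (T.subgroupOf (S : Subgroup G)).Normal := Subgroup.normal_of_index_eq_two hidx'
  have hQ : Nat.card (↥(S : Subgroup G) ⧸ T.subgroupOf (S : Subgroup G)) = 2 := by
    rw [← Subgroup.index_eq_card]; exact hidx'
  letI instA : CommGroup (↥(S : Subgroup G) ⧸ T.subgroupOf (S : Subgroup G)) :=
    { (inferInstance : Group (↥(S : Subgroup G) ⧸ T.subgroupOf (S : Subgroup G))) with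
      mul_comm := by
        intro x y
        haveI : Fact (Nat.Prime 2) := ⟨Nat.prime_two⟩
        haveI : IsCyclic (↥(S : Subgroup G) ⧸ T.subgroupOf (S : Subgroup G)) :=
          isCyclic_of_prime_card hQ
        exact (isMulCommutative_iff.1 IsCyclic.isMulCommutative) x y }
  let ϕ : ↥(S : Subgroup G) →* (↥(S : Subgroup G) ⧸ T.subgroupOf (S : Subgroup G)) :=
    QuotientGroup.mk' (T.subgroupOf (S : Subgroup G))
  have hϕ1 : ∀ z : ↥(S : Subgroup G), ϕ z = 1 ↔ (z : G) ∈ T := by
    intro z
    show (QuotientGroup.mk' (T.subgroupOf (S : Subgroup G))) z = 1 ↔ _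
    rw [QuotientGroup.mk'_apply, QuotientGroup.eq_one_iff, Subgroup.mem_subgroupOf]
  have hsq : ∀ c : (↥(S : Subgroup G) ⧸ T.subgroupOf (S : Subgroup G)), c ^ 2 = 1 := by
    intro c
    have := pow_card_eq_one' (x := c)
    rw [hQ] at this
    exact this
  -- the transfer restricted to `S` is `ϕ`
  have key : ∀ (y : G) (hy : y ∈ (S : Subgroup G)), MonoidHom.transfer ϕ y = ϕ ⟨y, hy⟩ := by
    intro y hy
    haveI : Fintype (Quotient (MulAction.orbitRel (zpowers y) (G ⧸ (S : Subgroup G)))) :=
      Fintype.ofFinite _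
    rw [MonoidHom.transfer_eq_prod_quotient_orbitRel_zpowers_quot]
    have h2 : ∀ q : Quotient (MulAction.orbitRel (zpowers y) (G ⧸ (S : Subgroup G))),
        ϕ ⟨q.out.out⁻¹ * y ^ Function.minimalPeriod (y • ·) q.out * q.out.out,
          QuotientGroup.out_conj_pow_minimalPeriod_mem (S : Subgroup G) y q.out⟩ =
        (ϕ ⟨y, hy⟩) ^ Function.minimalPeriod (y • ·) q.out := by
      intro q
      rw [← map_pow]
      apply eq_of_card_two hQ
      rw [hϕ1, hϕ1]
      have hyn : y ^ Function.minimalPeriod (y • ·) q.out ∈ (S : Subgroup G) :=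
        Subgroup.pow_mem _ hy _
      have hmem := QuotientGroup.out_conj_pow_minimalPeriod_mem (S : Subgroup G) y q.out
      have h3 := hfus _ hyn (q.out.out⁻¹) (by rw [inv_inv]; exact hmem)
      rw [inv_inv] at h3
      simp only [Subgroup.coe_pow]
      exact h3.symm
    rw [Finset.prod_congr rfl (fun q _ => h2 q), Finset.prod_pow_eq_pow_sum,
      ← Subgroup.index_eq_sum_minimalPeriod (S : Subgroup G) y]
    -- the index is odd
    have hodd : ¬ 2 ∣ (S : Subgroup G).index := by
      haveI : Fact (Nat.Prime 2) := ⟨Nat.prime_two⟩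
      exact S.not_dvd_index
    obtain ⟨m, hm⟩ : ∃ m, (S : Subgroup G).index = 2 * m + 1 := by
      refine ⟨(S : Subgroup G).index / 2, ?_⟩
      omega
    rw [hm, pow_succ, pow_mul, hsq, one_pow, one_mul]
  refine ⟨(MonoidHom.transfer ϕ).ker, inferInstance, ?_, ?_⟩
  · rw [Subgroup.index_ker]
    have hsurj : (MonoidHom.transfer ϕ).range = ⊤ := by
      rw [eq_top_iff]
      intro c _
      obtain ⟨z, rfl⟩ := QuotientGroup.mk'_surjective (T.subgroupOf (S : Subgroup G)) c
      exact ⟨(z : G), by rw [key (z : G) z.2]⟩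
    rw [hsurj, Subgroup.card_top]
    exact hQ
  · ext x
    rw [Subgroup.mem_inf, MonoidHom.mem_ker]
    constructor
    · rintro ⟨h1, h2⟩
      rw [key x h2, hϕ1] at h1
      exact h1
    · intro hx
      have hxS : x ∈ (S : Subgroup G) := hTS hx
      refine ⟨?_, hxS⟩
      rw [key x hxS, hϕ1]
      exact hx

end Cfsg.Agent.Lib.Helper2.Fx2
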