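import Mathlib
import Cfsg.Agent.Lib.Helper3.SLZ1
import Cfsg.Agent.Lib.Helper6.Clifford
import Cfsg.Agent.Lib.Helper6.Mult
import Cfsg.Agent.Lib.Helper6.CharOps

set_option autoImplicit false
set_option linter.style.haveILetI false
set_option linter.unusedSectionVars false
set_option linter.unusedVariables false

/-! S2318 farm, abstract unit A2 (descent along a normal subgroup). -/

namespace Cfsg.Agent.Lib.Helper2.GGA2

open Cfsg Cfsg.Agent.Lib.Helper6
open scoped ComplexConjugate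

variable {Γ : Type*} [Group Γ] [Fintype Γ]

/-- A2: if every irreducible character of `Γ` of degree divisible by `d` has degree `d` and a
linear constituent on `B` trivial on `B0`, then every irreducible character `θ` of `N ⊴ Γ` with
`d ∣ θ 1` has a `B0`-fixed vector (`B0 ≤ N`, `B0 ≤ B`). -/
theorem a2_descent (N : Subgroup Γ) [Fintype N] (hN : N.Normal)
    (B0 B : Subgroup Γ) [Fintype B0] [Fintype B] (hB0N : B0 ≤ N) (hB0B : B0 ≤ B)
    (d : ℕ) (θ : IrrCharacter N) (hd : d ∣ charDegree θ.1)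
    (hyp : ∀ χ : IrrCharacter Γ, d ∣ charDegree χ.1 → charDegree χ.1 = d ∧
      ∃ φ : B →* ℂˣ, (∀ b : B, (b : Γ) ∈ B0 → φ b = 1) ∧
        1 ≤ (classInner (fun b : B => χ.1 b) (fun b : B => ((φ b : ℂˣ) : ℂ))).re) :
    1 ≤ (classInner (fun b : B0 => θ.1 ⟨(b : Γ), hB0N b.2⟩) (fun _ : B0 => (1 : ℂ))).re := by
  classical
  obtain ⟨χ, hc⟩ := exists_irr_over N θ
  have hdv := charDegree_dvd_of_constituent N hN χ θ hc
  obtain ⟨hχd, φ, hφ0, hφ1⟩ := hyp χ (hd.trans hdv)
  have r := Cfsg.Agent.Lib.Helper3.SLZ1.restrict_eq_of_over N hN d χ θ hc hd hχd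
  have hχB : IsCharacter B (fun b : B => χ.1 b) :=
    IsCharacter.restrict B (IsIrrCharacter.isCharacter χ.2)
  have hne : classInner (fun b : B => χ.1 b) (fun b : B => ((φ b : ℂˣ) : ℂ)) ≠ 0 := by
    intro h0
    rw [h0] at hφ1
    simp at hφ1
    linarith
  obtain ⟨A, hA, hsum⟩ := IsCharacter.exists_eq_add_of_constituent hχB
    (isIrrCharacter_of_hom φ) hne
  -- the restriction of `A` to `B0`
  have hA0 : IsCharacter B0 (fun b : B0 => A (Subgroup.inclusion hB0B b)) :=
    IsCharacter.comp (Subgroup.inclusion hB0B) hA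
  obtain ⟨m, hm⟩ := IsCharacter.classInner_irr_nat hA0 (isIrrCharacter_of_hom (1 : B0 →* ℂˣ))
  have hfun : (fun b : B0 => θ.1 ⟨(b : Γ), hB0N b.2⟩) =
      (fun _ : B0 => (1 : ℂ)) + (fun b : B0 => A (Subgroup.inclusion hB0B b)) := by
    funext b
    have h1 : θ.1 ⟨(b : Γ), hB0N b.2⟩ = χ.1 (b : Γ) := by
      have := congrFun r ⟨(b : Γ), hB0N b.2⟩
      exact this.symm
    have h2 := congrFun hsum (Subgroup.inclusion hB0B b)
    have h3 : φ (Subgroup.inclusion hB0B b) = 1 := hφ0 _ b.2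
    rw [h1]
    simp only [Pi.add_apply] at h2 ⊢
    rw [h3, Units.val_one] at h2
    exact h2
  have hone : classInner (fun _ : B0 => (1 : ℂ)) (fun _ : B0 => (1 : ℂ)) = 1 := by
    unfold classInner
    simp only [map_one, mul_one, Finset.sum_const, Finset.card_univ, nsmul_eq_mul]
    rw [Nat.card_eq_fintype_card]
    have : (Fintype.card B0 : ℂ) ≠ 0 := by
      have : 0 < Fintype.card B0 := Fintype.card_pos
      exact_mod_cast this.ne'
    exact inv_mul_cancel₀ this
  have hm' : classInner (fun b : B0 => A (Subgroup.inclusion hB0B b)) (fun _ : B0 => (1 : ℂ)) = m := by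
    have : (fun _ : B0 => (1 : ℂ)) = fun g : B0 => (((1 : B0 →* ℂˣ) g : ℂˣ) : ℂ) := by
      funext g
      simp
    rw [this]
    exact hm
  rw [hfun, classInner_add_left, hone, hm']
  simp

end Cfsg.Agent.Lib.Helper2.GGA2
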