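import Mathlib
import Cfsg.Agent.Lib.Helper2.GGA2
import Cfsg.Agent.Lib.Helper6.Auto

set_option autoImplicit false
set_option linter.style.haveILetI false
set_option linter.unusedSectionVars false
set_option linter.unusedVariables false

/-! S2318 farm, abstract unit A2 in ambient form (all groups are subgroups of one group `X`). -/

namespace Cfsg.Agent.Lib.Helper2.GGA2

open Cfsg Cfsg.Agent.Lib.Helper6
open scoped ComplexConjugate

variable {X : Type*} [Group X]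

/-- A2, ambient form: `G ≤ Gh ≤ X`, `Gh` normalises `G`, `B0 ≤ G`, `B0 ≤ Bh ≤ Gh`. -/
theorem a2_ambient (G Gh B0 Bh : Subgroup X) [Finite Gh] [Fintype B0] [Fintype Bh]
    (hGGh : G ≤ Gh) (hnorm : ∀ g ∈ Gh, ∀ x ∈ G, g * x * g⁻¹ ∈ G)
    (hB0G : B0 ≤ G) (hB0B : B0 ≤ Bh) (hBGh : Bh ≤ Gh)
    (d : ℕ) (θ : IrrCharacter G) (hd : d ∣ charDegree θ.1)
    (hyp : ∀ χ : IrrCharacter Gh, d ∣ charDegree χ.1 → charDegree χ.1 = d ∧
      ∃ φ : Bh →* ℂˣ, (∀ b : Bh, (b : X) ∈ B0 → φ b = 1) ∧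
        1 ≤ (classInner (fun b : Bh => χ.1 ⟨(b : X), hBGh b.2⟩)
          (fun b : Bh => ((φ b : ℂˣ) : ℂ))).re) :
    1 ≤ (classInner (fun b : B0 => θ.1 ⟨(b : X), hB0G b.2⟩) (fun _ : B0 => (1 : ℂ))).re := by
  classical
  haveI : Fintype Gh := Fintype.ofFinite _
  haveI : Finite G := Finite.of_injective (Subgroup.inclusion hGGh)
    (Subgroup.inclusion_injective hGGh)
  -- the subgroups of `Γ = ↥Gh`
  let N : Subgroup Gh := G.subgroupOf Gh
  let B' : Subgroup Gh := Bh.subgroupOf Gh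
  let B0' : Subgroup Gh := B0.subgroupOf Gh
  haveI : Fintype N := Fintype.ofFinite _
  haveI : Fintype B' := Fintype.ofFinite _
  haveI : Fintype B0' := Fintype.ofFinite _
  have hN : N.Normal := by
    constructor
    intro n hn g
    show ((g * n * g⁻¹ : Gh) : X) ∈ G
    have := hnorm g.1 g.2 n.1 hn
    simpa using this
  let e : N ≃* G := Subgroup.subgroupOfEquivOfLe hGGh
  let eB : B' ≃* Bh := Subgroup.subgroupOfEquivOfLe hBGh
  let e0 : B0' ≃* B0 := Subgroup.subgroupOfEquivOfLe (hB0B.trans hBGh)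
  have hθ' : IsIrrCharacter N (fun n => θ.1 (e n)) := IsIrrCharacter.comp_mulEquiv e θ.2
  let θ' : IrrCharacter N := ⟨fun n => θ.1 (e n), hθ'⟩
  have hdeg : charDegree θ'.1 = charDegree θ.1 := by
    unfold charDegree
    show ⌊(θ.1 (e 1)).re⌋₊ = _
    rw [map_one]
  have hB0N : B0' ≤ N := fun x hx => hB0G hx
  have hB0B' : B0' ≤ B' := fun x hx => hB0B hx
  have key := a2_descent N hN B0' B' hB0N hB0B' d θ' (by rw [hdeg]; exact hd) (by
    intro χ hχ
    obtain ⟨h1, φ, hφ0, hφ1⟩ := hyp χ hχ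
    refine ⟨h1, φ.comp eB.toMonoidHom, ?_, ?_⟩
    · intro b hb
      exact hφ0 (eB b) hb
    · have := classInner_comp_mulEquiv eB (fun b : Bh => χ.1 ⟨(b : X), hBGh b.2⟩)
        (fun b : Bh => ((φ b : ℂˣ) : ℂ))
      have h2 : classInner (fun b : B' => χ.1 b)
          (fun b : B' => (((φ.comp eB.toMonoidHom) b : ℂˣ) : ℂ)) =
          classInner (fun b : Bh => χ.1 ⟨(b : X), hBGh b.2⟩)
            (fun b : Bh => ((φ b : ℂˣ) : ℂ)) := by
        rw [← this]
        rfl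
      rw [h2]
      exact hφ1)
  have h3 := classInner_comp_mulEquiv e0 (fun b : B0 => θ.1 ⟨(b : X), hB0G b.2⟩)
    (fun _ : B0 => (1 : ℂ))
  have h4 : classInner (fun b : B0' => θ'.1 ⟨(b : Gh), hB0N b.2⟩) (fun _ : B0' => (1 : ℂ)) =
      classInner (fun b : B0 => θ.1 ⟨(b : X), hB0G b.2⟩) (fun _ : B0 => (1 : ℂ)) := by
    rw [← h3]
    rfl
  rw [← h4]
  exact key

end Cfsg.Agent.Lib.Helper2.GGA2
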