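import Mathlib
import Cfsg.Agent.Lib.Helper2.GH5Defs
import Cfsg.Agent.Lib.Helper8.GH5Cases

set_option autoImplicit false
set_option linter.unusedVariables false
set_option linter.unusedSectionVars false
set_option linter.style.longLine false

/-! # GH5 = S3106: the bundled dictionary `Dict` (= the opened output of `Helper1.GH5U7.exists_layer`) -/

namespace Cfsg.Agent.Lib.Helper2.GH5

open Cfsg.Agent.Lib.Helper8.GH5Cases (SC)

universe u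

/-- the opened output of `Helper1.GH5U7.exists_layer`, bundled -/
structure Dict {Y : Type u} [Group Y] (Q W : Subgroup Y) [Q.Normal] {V Wt : Type u} [AddCommGroup V] [AddCommGroup Wt]
    (ρV : (Y ⧸ Q) →* AddMonoid.End V) (ρW : (Y ⧸ Q) →* AddMonoid.End Wt)
    (πV : ↥Q → V) (πW : ↥W → Wt) (s : V → Wt) (c : V → V → Wt) : Prop where
  V2 : ∀ u : V, u + u = 0
  W2 : ∀ w : Wt, w + w = 0
  πV_surj : Function.Surjective πV
  πV_mul : ∀ a b : ↥Q, πV (a * b) = πV a + πV b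
  πV_ker : ∀ a : ↥Q, πV a = 0 ↔ (a : Y) ∈ W
  πW_bij : Function.Bijective πW
  πW_mul : ∀ a b : ↥W, πW (a * b) = πW a + πW b
  ρV_mk : ∀ (y : Y) (q : ↥Q) (h : y * q * y⁻¹ ∈ Q), ρV (QuotientGroup.mk y) (πV q) = πV ⟨y * q * y⁻¹, h⟩
  ρW_mk : ∀ (y : Y) (w : ↥W) (h : y * w * y⁻¹ ∈ W), ρW (QuotientGroup.mk y) (πW w) = πW ⟨y * w * y⁻¹, h⟩
  s_mk : ∀ (q : ↥Q) (h : (q : Y) * q ∈ W), s (πV q) = πW ⟨(q : Y) * q, h⟩
  c_mk : ∀ (q q' : ↥Q) (h : (q : Y) * q' * (q : Y)⁻¹ * (q' : Y)⁻¹ ∈ W),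
      c (πV q) (πV q') = πW ⟨(q : Y) * q' * (q : Y)⁻¹ * (q' : Y)⁻¹, h⟩
  s_add : ∀ u v : V, s (u + v) = s u + s v + c u v
  c_add_left : ∀ u u' v : V, c (u + u') v = c u v + c u' v
  c_add_right : ∀ u v v' : V, c u (v + v') = c u v + c u v'
  c_self : ∀ u : V, c u u = 0
  c_symm : ∀ u v : V, c u v = c v u
  s_equiv : ∀ (g : Y ⧸ Q) (u : V), s (ρV g u) = ρW g (s u)
  c_equiv : ∀ (g : Y ⧸ Q) (u v : V), c (ρV g u) (ρV g v) = ρW g (c u v)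
  card_V : Nat.card V * Nat.card ↥W = Nat.card ↥Q
  card_Wt : Nat.card Wt = Nat.card ↥W

section Wrappers

variable {Y : Type u} [Group Y] [Finite Y] {Q W : Subgroup Y} [hQn : Q.Normal] [hWn : W.Normal]
  {V Wt : Type u} [AddCommGroup V] [AddCommGroup Wt] [Finite V] [Finite Wt]
  {ρV : (Y ⧸ Q) →* AddMonoid.End V} {ρW : (Y ⧸ Q) →* AddMonoid.End Wt}
  {πV : ↥Q → V} {πW : ↥W → Wt} {s : V → Wt} {c : V → V → Wt}

theorem Dict.sc (d : Dict Q W ρV ρW πV πW s c) : SC ρV ρW s c :=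
  ⟨d.V2, d.W2, d.c_add_left, d.c_add_right, d.c_self, d.s_add, d.s_equiv, d.c_equiv⟩

end Wrappers

end Cfsg.Agent.Lib.Helper2.GH5
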