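import Mathlib

/-!
HIG farm (S3050, Higman's lemma on SL2(2^n) acting on a 2-group with a fixed-point-free 3-element).
Shared definitions.  Owner: helper2.
-/

namespace Cfsg.Agent.Lib.Helper2.HIG

/-- `SL₂(K)`. -/
abbrev SL2 (K : Type*) [Field K] := Matrix.SpecialLinearGroup (Fin 2) K

/-- upper unitriangular matrix `[[1,a],[0,1]]`. -/
def uM {K : Type*} [Field K] (a : K) : SL2 K :=
  ⟨!![1, a; 0, 1], by simp [Matrix.det_fin_two]⟩

/-- lower unitriangular matrix `[[1,0],[a,1]]`. -/
def lM {K : Type*} [Field K] (a : K) : SL2 K :=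
  ⟨!![1, 0; a, 1], by simp [Matrix.det_fin_two]⟩

/-- the standard element of order three `u(1) l(1) = [[0,1],[1,1]]` (in characteristic two). -/
def x0 (K : Type*) [Field K] : SL2 K := uM 1 * lM 1

end Cfsg.Agent.Lib.Helper2.HIG
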