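import Mathlib
import Cfsg.Agent.Lib.Helper2.HIGDefs
import Cfsg.Agent.Lib.Helper3.HIGU0c
import Cfsg.Agent.Lib.Helper4.HIGU3
import Cfsg.Agent.Lib.Helper8.HIGRing

/-!
HIG farm (S3050): unit UM, `module_coords` verbatim (wrapper around helper8's `ring_lemma`,
helper4's `module_coords_core`, helper3's `sl2_closure`).
-/

namespace Cfsg.Agent.Lib.Helper2.HIGCoords

open Cfsg.Agent.Lib.Helper2.HIG

theorem uM_eq {K : Type*} [Field K] (a : K) :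
    (uM a : SL2 K) = Cfsg.Agent.Lib.Helper8.HIG.uM a := Subtype.ext rfl

theorem lM_eq {K : Type*} [Field K] (a : K) :
    (lM a : SL2 K) = Cfsg.Agent.Lib.Helper8.HIG.lM a := Subtype.ext rfl

/-- UM: the module theorem in coordinates. -/
theorem module_coords {K : Type*} [Field K] [Finite K] [CharP K 2] (hK : ∃ m : K, m ≠ 0 ∧ m ≠ 1)
    {V : Type*} [AddCommGroup V] [Finite V] (h2V : ∀ v : V, v + v = 0)
    (ρ : SL2 K →* AddMonoid.End V)
    (H3 : ∀ v, ρ (x0 K) (ρ (x0 K) v) + ρ (x0 K) v + v = 0) :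
    ∃ (k : ℕ) (Ψ : V ≃+ (Fin k → Fin 2 → K)),
      ∀ (g : SL2 K) (v : V) (i : Fin k),
        Ψ (ρ g v) i = (g : Matrix (Fin 2) (Fin 2) K).mulVec (Ψ v i) := by
  have _ := hK
  have hsq : ∀ a : K, ∃ m : K, m ^ 2 = a := fun a => Cfsg.Agent.Lib.Helper3.HIG.exists_sq a
  have h2 : (2 : AddMonoid.End V) = 0 := by
    ext v
    show (2 : AddMonoid.End V) v = 0
    have : (2 : AddMonoid.End V) = 1 + 1 := by norm_num
    rw [this]
    exact h2V v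
  have H3' : ρ (Cfsg.Agent.Lib.Helper8.HIG.uM 1 * Cfsg.Agent.Lib.Helper8.HIG.lM 1) *
      ρ (Cfsg.Agent.Lib.Helper8.HIG.uM 1 * Cfsg.Agent.Lib.Helper8.HIG.lM 1) +
      ρ (Cfsg.Agent.Lib.Helper8.HIG.uM 1 * Cfsg.Agent.Lib.Helper8.HIG.lM 1) + 1 = 0 := by
    rw [← uM_eq, ← lM_eq]
    ext v
    exact H3 v
  obtain ⟨e, A, B, γ, -, -, he, hee, hAA, hBB, hAB, heγ, hγe, hadd, hmul, h1, h0, hu, hl⟩ :=
    Cfsg.Agent.Lib.Helper8.HIG.ring_lemma hsq h2 ρ H3'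
  exact Cfsg.Agent.Lib.Helper4.HIG.module_coords_core (uM : K → SL2 K) lM (fun _ => rfl)
    (fun _ => rfl) (Cfsg.Agent.Lib.Helper3.HIG.sl2_closure K) ρ e A B γ he hee hAA hBB hAB heγ hγe
    hadd hmul h1 h0 (fun a => by rw [uM_eq]; exact hu a) (fun a => by rw [lM_eq]; exact hl a)

end Cfsg.Agent.Lib.Helper2.HIGCoords
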