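import Mathlib
import Cfsg.Prelude
import Cfsg.Agent.Lib.Helper2.HIGDefs
import Cfsg.Agent.Lib.Helper5.HIGG1c
import Cfsg.Agent.Lib.Helper8.HIGG2
import Cfsg.Agent.Lib.Helper2.HIGCoords
import Cfsg.Agent.Lib.Helper3.HIGU0c
import Cfsg.Agent.Lib.Helper6.HIGS2a
import Cfsg.Agent.Lib.Helper6.HIGS2b
import Cfsg.Agent.Lib.Helper9.HIGS1
import Cfsg.Agent.Lib.Helper9.HIGS2c
import Cfsg.Agent.Lib.Helper4.HIGF

/-!
HIG farm (S3050, Higman's lemma): assembly.  `elemAb` (induction on the order of `G`),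
`higman_main` (the statement of S3050).
-/

namespace Cfsg.Agent.Lib.Helper2.HIGMain

open Cfsg.Agent.Lib.Helper2.HIG
open scoped IsMulCommutative

universe u

/-- `1 + φ + φ² = 0` for conjugation by a fixed-point-free element of order three. -/
theorem H3_of_conj {G : Type*} [Group G] (A : Subgroup G) [hA : A.Normal] [IsMulCommutative ↥A]
    (x : G) (hx3 : x ^ 3 = 1) (hfp : ∀ a ∈ A, x * a * x⁻¹ = a → a = 1)
    (φ : AddMonoid.End (Additive ↥A))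
    (hφ : ∀ a : ↥A, φ (Additive.ofMul a) =
      Additive.ofMul (⟨x * (a : G) * x⁻¹, hA.conj_mem a a.2 x⟩ : ↥A)) :
    ∀ v : Additive ↥A, φ (φ v) + φ v + v = 0 := by
  intro v
  obtain ⟨a, rfl⟩ : ∃ a : ↥A, Additive.ofMul a = v := ⟨Additive.toMul v, rfl⟩
  rw [hφ, hφ]
  -- now a statement in `Additive ↥A`
  have key : (⟨x * (x * (a : G) * x⁻¹) * x⁻¹, hA.conj_mem _ (hA.conj_mem a a.2 x) x⟩ : ↥A) *
      ⟨x * (a : G) * x⁻¹, hA.conj_mem a a.2 x⟩ * a = 1 := by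
    apply Subtype.ext
    apply hfp _ (Subgroup.mul_mem _ (Subgroup.mul_mem _ (hA.conj_mem _ (hA.conj_mem a a.2 x) x)
      (hA.conj_mem a a.2 x)) a.2)
    have hx3' : x * x * x = 1 := by rw [← hx3, pow_three, mul_assoc]
    have hxi : x⁻¹ = x * x := by
      rw [inv_eq_iff_mul_eq_one, ← mul_assoc]; exact hx3'
    -- commutativity in A
    have c1 : ∀ b c : ↥A, (b : G) * c = c * b := fun b c => by
      have := mul_comm' b c
      exact congrArg Subtype.val this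
    set a1 : ↥A := ⟨x * (a : G) * x⁻¹, hA.conj_mem a a.2 x⟩ with ha1
    set a2 : ↥A := ⟨x * (a1 : G) * x⁻¹, hA.conj_mem a1 a1.2 x⟩ with ha2
    have e3 : x * (a2 : G) * x⁻¹ = a := by
      simp only [ha2, ha1]
      rw [hxi]
      have : x * (x * (x * ↑a * (x * x)) * (x * x)) * (x * x) =
        (x * x * x) * a * ((x * x * x) * (x * x * x)) := by group
      rw [this, hx3']; simp
    show x * ((a2 : G) * a1 * a) * x⁻¹ = (a2 : G) * a1 * a
    have : x * ((a2 : G) * a1 * a) * x⁻¹ = (x * a2 * x⁻¹) * (x * a1 * x⁻¹) * (x * a * x⁻¹) := by group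
    rw [this, e3]
    show (a : G) * a2 * a1 = a2 * a1 * a
    have := c1 a (a2 * a1)
    rw [Subgroup.coe_mul] at this
    rw [mul_assoc, this]
  exact congrArg Additive.ofMul key

end Cfsg.Agent.Lib.Helper2.HIGMain

namespace Cfsg.Agent.Lib.Helper2.HIGMain

open Cfsg.Agent.Lib.Helper2.HIG
open scoped IsMulCommutative

/-- the commutator word -/
def cw {G : Type*} [Group G] (q r : G) : G := q * r * q⁻¹ * r⁻¹

section cwlemmas
variable {G : Type*} [Group G]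

theorem cw_mul_left_central (q r z : G) (hzr : r * z = z * r) : cw (q * z) r = cw q r := by
  unfold cw
  have : z * r * z⁻¹ = r := by rw [← hzr]; group
  calc q * z * r * (q * z)⁻¹ * r⁻¹ = q * (z * r * z⁻¹) * q⁻¹ * r⁻¹ := by group
    _ = _ := by rw [this]

theorem cw_mul_right_central (q r z : G) (hzq : q * z = z * q) : cw q (r * z) = cw q r := by
  unfold cw
  have : z * q⁻¹ * z⁻¹ = q⁻¹ := by
    have : z = q⁻¹ * z * q := by rw [mul_assoc, ← hzq]; group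
    calc z * q⁻¹ * z⁻¹ = (q⁻¹ * z * q) * q⁻¹ * z⁻¹ := by rw [← this]
      _ = _ := by group
  calc q * (r * z) * q⁻¹ * (r * z)⁻¹ = q * r * (z * q⁻¹ * z⁻¹) * r⁻¹ := by group
    _ = _ := by rw [this]

theorem cw_mul_left (q q' r : G) (hc : q * cw q' r = cw q' r * q) :
    cw (q * q') r = cw q' r * cw q r := by
  unfold cw at *
  calc q * q' * r * (q * q')⁻¹ * r⁻¹ = (q * (q' * r * q'⁻¹ * r⁻¹)) * r * q⁻¹ * r⁻¹ := by group
    _ = (q' * r * q'⁻¹ * r⁻¹ * q) * r * q⁻¹ * r⁻¹ := by rw [hc]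
    _ = _ := by group

theorem cw_mul_right (q r r' : G) (hc : (q * r * q⁻¹) * cw q r' = cw q r' * (q * r * q⁻¹)) :
    cw q (r * r') = cw q r' * cw q r := by
  unfold cw at *
  calc q * (r * r') * q⁻¹ * (r * r')⁻¹ = ((q * r * q⁻¹) * (q * r' * q⁻¹ * r'⁻¹)) * r⁻¹ := by group
    _ = (q * r' * q⁻¹ * r'⁻¹ * (q * r * q⁻¹)) * r⁻¹ := by rw [hc]
    _ = _ := by group

theorem cw_self (q : G) : cw q q = 1 := by unfold cw; group

theorem cw_conj (g q r : G) : cw (g * q * g⁻¹) (g * r * g⁻¹) = g * cw q r * g⁻¹ := by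
  unfold cw; group

end cwlemmas

end Cfsg.Agent.Lib.Helper2.HIGMain

namespace Cfsg.Agent.Lib.Helper2.HIGMain

open Cfsg.Agent.Lib.Helper2.HIG
open scoped IsMulCommutative

universe u

section step1
variable {G : Type u} [Group G] (Q : Subgroup G) (Z : Subgroup G) [hZn : Z.Normal]

theorem hcomm_of_quot (hc' : IsMulCommutative ↥(Q.map (QuotientGroup.mk' Z))) :
    ∀ q ∈ Q, ∀ r ∈ Q, cw q r ∈ Z := by
  intro q hq r hr
  have h1 : (⟨QuotientGroup.mk' Z q, Subgroup.mem_map_of_mem _ hq⟩ :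
      ↥(Q.map (QuotientGroup.mk' Z))) * ⟨QuotientGroup.mk' Z r, Subgroup.mem_map_of_mem _ hr⟩
      = ⟨QuotientGroup.mk' Z r, Subgroup.mem_map_of_mem _ hr⟩ *
        ⟨QuotientGroup.mk' Z q, Subgroup.mem_map_of_mem _ hq⟩ := mul_comm' _ _
  have h2 := congrArg Subtype.val h1
  simp only [Subgroup.coe_mul, QuotientGroup.mk'_apply] at h2
  rw [← QuotientGroup.eq_one_iff (N := Z)]
  unfold cw
  simp only [QuotientGroup.mk_mul, QuotientGroup.mk_inv]
  rw [h2]; group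

theorem hsq_of_quot (h2' : ∀ a ∈ Q.map (QuotientGroup.mk' Z), a ^ 2 = 1) :
    ∀ q ∈ Q, q ^ 2 ∈ Z := by
  intro q hq
  have := h2' _ (Subgroup.mem_map_of_mem (QuotientGroup.mk' Z) hq)
  rw [← QuotientGroup.eq_one_iff (N := Z)]
  simpa using this

end step1

end Cfsg.Agent.Lib.Helper2.HIGMain

namespace Cfsg.Agent.Lib.Helper2.HIGMain

open Cfsg.Agent.Lib.Helper2.HIG
open scoped IsMulCommutative

universe u

section lifts
variable {G : Type u} [Group G] (Q : Subgroup G) (Z : Subgroup G) [hZn : Z.Normal]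

/-- a chosen preimage in `Q` of an element of `QZ/Z`. -/
noncomputable def liftQ (v : ↥(Q.map (QuotientGroup.mk' Z))) : G :=
  Classical.choose (Subgroup.mem_map.mp v.2)

theorem liftQ_mem (v : ↥(Q.map (QuotientGroup.mk' Z))) : liftQ Q Z v ∈ Q :=
  (Classical.choose_spec (Subgroup.mem_map.mp v.2)).1

theorem liftQ_mk (v : ↥(Q.map (QuotientGroup.mk' Z))) :
    (QuotientGroup.mk (liftQ Q Z v) : G ⧸ Z) = (v : G ⧸ Z) :=
  (Classical.choose_spec (Subgroup.mem_map.mp v.2)).2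

/-- element of `QZ/Z` from an element of `Q`. -/
def mkQ (q : G) (hq : q ∈ Q) : ↥(Q.map (QuotientGroup.mk' Z)) :=
  ⟨QuotientGroup.mk' Z q, Subgroup.mem_map_of_mem _ hq⟩

theorem mkQ_liftQ (v : ↥(Q.map (QuotientGroup.mk' Z))) :
    mkQ Q Z (liftQ Q Z v) (liftQ_mem Q Z v) = v :=
  Subtype.ext (liftQ_mk Q Z v)

theorem mkQ_mul (q q' : G) (hq : q ∈ Q) (hq' : q' ∈ Q) :
    mkQ Q Z (q * q') (Q.mul_mem hq hq') = mkQ Q Z q hq * mkQ Q Z q' hq' :=
  Subtype.ext (by simp [mkQ])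

/-- the commutator pairing `QZ/Z × QZ/Z → Z`. -/
noncomputable def betaQ (hcomm : ∀ q ∈ Q, ∀ r ∈ Q, cw q r ∈ Z)
    (v w : Additive ↥(Q.map (QuotientGroup.mk' Z))) : Additive ↥Z :=
  Additive.ofMul (⟨cw (liftQ Q Z (Additive.toMul v)) (liftQ Q Z (Additive.toMul w)),
    hcomm _ (liftQ_mem Q Z _) _ (liftQ_mem Q Z _)⟩ : ↥Z)

theorem betaQ_eq (hcomm : ∀ q ∈ Q, ∀ r ∈ Q, cw q r ∈ Z)
    (hZc : ∀ z ∈ Z, ∀ q ∈ Q, q * z = z * q)
    (q r : G) (hq : q ∈ Q) (hr : r ∈ Q) :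
    betaQ Q Z hcomm (Additive.ofMul (mkQ Q Z q hq)) (Additive.ofMul (mkQ Q Z r hr)) =
      Additive.ofMul (⟨cw q r, hcomm q hq r hr⟩ : ↥Z) := by
  unfold betaQ
  congr 1
  apply Subtype.ext
  show cw (liftQ Q Z (mkQ Q Z q hq)) (liftQ Q Z (mkQ Q Z r hr)) = cw q r
  set q0 := liftQ Q Z (mkQ Q Z q hq) with hq0
  set r0 := liftQ Q Z (mkQ Q Z r hr) with hr0
  have hq0m : q0 ∈ Q := liftQ_mem Q Z _
  have hr0m : r0 ∈ Q := liftQ_mem Q Z _
  have hz1 : q⁻¹ * q0 ∈ Z := by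
    have := liftQ_mk Q Z (mkQ Q Z q hq)
    rw [← QuotientGroup.eq_one_iff (N := Z)]
    simp only [QuotientGroup.mk_mul, QuotientGroup.mk_inv]
    rw [this]; simp [mkQ]
  have hz2 : r⁻¹ * r0 ∈ Z := by
    have := liftQ_mk Q Z (mkQ Q Z r hr)
    rw [← QuotientGroup.eq_one_iff (N := Z)]
    simp only [QuotientGroup.mk_mul, QuotientGroup.mk_inv]
    rw [this]; simp [mkQ]
  have e1 : q0 = q * (q⁻¹ * q0) := by group
  have e2 : r0 = r * (r⁻¹ * r0) := by group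
  rw [e1, cw_mul_left_central q r0 _ (hZc _ hz1 r0 hr0m), e2,
    cw_mul_right_central q r _ (hZc _ hz2 q hq)]

end lifts

end Cfsg.Agent.Lib.Helper2.HIGMain

namespace Cfsg.Agent.Lib.Helper2.HIGMain

open Cfsg.Agent.Lib.Helper2.HIG
open scoped IsMulCommutative

universe u

theorem abelian_step {K : Type*} [Field K] [Finite K] [CharP K 2] (hK : ∃ m : K, m ≠ 0 ∧ m ≠ 1)
    {G : Type u} [Group G] [Finite G] (Q : Subgroup G) [hQn : Q.Normal] (hQ : IsPGroup 2 ↥Q)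
    (e : G ⧸ Q ≃* SL2 K) (x : G) (hx : orderOf x = 3) (hex : e (QuotientGroup.mk x) = x0 K)
    (hfpf : ∀ q ∈ Q, x * q * x⁻¹ = q → q = 1)
    (Z : Subgroup G) [hZn : Z.Normal] (hZQ : Z ≤ Q)
    (hZc : ∀ z ∈ Z, ∀ q ∈ Q, q * z = z * q) (hZ2 : ∀ z ∈ Z, z ^ 2 = 1)
    (hc' : IsMulCommutative ↥(Q.map (QuotientGroup.mk' Z)))
    (h2' : ∀ a ∈ Q.map (QuotientGroup.mk' Z), a ^ 2 = 1) :
    ∀ q ∈ Q, ∀ r ∈ Q, cw q r = 1 := by
  classical
  have hx3 : x ^ 3 = 1 := by rw [← hx]; exact pow_orderOf_eq_one x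
  have hcomm := hcomm_of_quot Q Z hc'
  -- the `Z`-module
  haveI hZcomm : IsMulCommutative ↥Z := ⟨⟨fun a b => Subtype.ext (hZc b b.2 a (hZQ a.2))⟩⟩
  obtain ⟨ρZ, hρZ⟩ := Cfsg.Agent.Lib.Helper9.HIGS1.exists_subAct Q e Z (fun q hq a ha => hZc a ha q hq)
  -- the `V`-module
  obtain ⟨e', he'⟩ := Cfsg.Agent.Lib.Helper6.HIG.quotient_equiv Q e Z hZQ
  obtain ⟨hx', hfpf'⟩ := Cfsg.Agent.Lib.Helper6.HIG.fpf_quotient Q hQ Z hZQ x hx hfpf
  haveI := hc'
  obtain ⟨ρV, hρV⟩ := Cfsg.Agent.Lib.Helper9.HIGS1.exists_subAct (Q.map (QuotientGroup.mk' Z)) e' (Q.map (QuotientGroup.mk' Z))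
    (fun q hq a ha => by
      have := mul_comm' (⟨q, hq⟩ : ↥(Q.map (QuotientGroup.mk' Z))) ⟨a, ha⟩
      exact congrArg Subtype.val this)
  have hx3' : (QuotientGroup.mk x : G ⧸ Z) ^ 3 = 1 := by
    rw [← QuotientGroup.mk_pow, hx3]; rfl
  have H3Z : ∀ z, ρZ (x0 K) (ρZ (x0 K) z) + ρZ (x0 K) z + z = 0 :=
    H3_of_conj Z x hx3 (fun a ha h => hfpf a (hZQ ha) h) (ρZ (x0 K))
      (fun a => by rw [← hex]; exact hρZ x a)
  have H3V : ∀ v, ρV (x0 K) (ρV (x0 K) v) + ρV (x0 K) v + v = 0 :=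
    H3_of_conj (Q.map (QuotientGroup.mk' Z)) (QuotientGroup.mk x : G ⧸ Z) hx3' hfpf' (ρV (x0 K))
      (fun a => by rw [← hex, ← he' x]; exact hρV _ a)
  have h2V : ∀ v : Additive ↥(Q.map (QuotientGroup.mk' Z)), v + v = 0 := by
    intro v
    obtain ⟨a, rfl⟩ : ∃ a, Additive.ofMul a = v := ⟨Additive.toMul v, rfl⟩
    have := h2' a a.2
    rw [← ofMul_mul]
    have h : a * a = 1 := Subtype.ext (by rw [Subgroup.coe_mul, ← pow_two]; exact this)
    rw [h]; rfl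
  have h2Z : ∀ z : Additive ↥Z, z + z = 0 := by
    intro v
    obtain ⟨a, rfl⟩ : ∃ a, Additive.ofMul a = v := ⟨Additive.toMul v, rfl⟩
    have := hZ2 a a.2
    rw [← ofMul_mul]
    have h : a * a = 1 := Subtype.ext (by rw [Subgroup.coe_mul, ← pow_two]; exact this)
    rw [h]; rfl
  -- the pairing
  have hmk : ∀ v : Additive ↥(Q.map (QuotientGroup.mk' Z)), ∃ q, ∃ hq : q ∈ Q,
      v = Additive.ofMul (mkQ Q Z q hq) := fun v =>
    ⟨liftQ Q Z (Additive.toMul v), liftQ_mem Q Z _, by rw [mkQ_liftQ]; rfl⟩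
  have hβ := Cfsg.Agent.Lib.Helper5.HIG.beta_zero hK h2V h2Z ρV ρZ H3V H3Z (betaQ Q Z hcomm) ?_ ?_ ?_ ?_
  · intro q hq r hr
    have h1 := hβ (Additive.ofMul (mkQ Q Z q hq)) (Additive.ofMul (mkQ Q Z r hr))
    rw [betaQ_eq Q Z hcomm hZc q r hq hr] at h1
    have h2 : (⟨cw q r, hcomm q hq r hr⟩ : ↥Z) = 1 := h1
    exact congrArg Subtype.val h2
  · -- additivity in the first variable
    intro v v' w
    obtain ⟨q, hq, rfl⟩ := hmk v
    obtain ⟨q', hq', rfl⟩ := hmk v'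
    obtain ⟨r, hr, rfl⟩ := hmk w
    rw [← ofMul_mul, ← mkQ_mul Q Z q q' hq hq', betaQ_eq Q Z hcomm hZc _ r _ hr,
      betaQ_eq Q Z hcomm hZc q r hq hr, betaQ_eq Q Z hcomm hZc q' r hq' hr, ← ofMul_mul]
    congr 1
    apply Subtype.ext
    show cw (q * q') r = cw q r * cw q' r
    rw [cw_mul_left q q' r (hZc _ (hcomm q' hq' r hr) q hq)]
    exact (hZc _ (hcomm q hq r hr) _ (hZQ (hcomm q' hq' r hr)))
  · -- additivity in the second variable
    intro v w w'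
    obtain ⟨q, hq, rfl⟩ := hmk v
    obtain ⟨r, hr, rfl⟩ := hmk w
    obtain ⟨r', hr', rfl⟩ := hmk w'
    rw [← ofMul_mul, ← mkQ_mul Q Z r r' hr hr', betaQ_eq Q Z hcomm hZc q _ hq _,
      betaQ_eq Q Z hcomm hZc q r hq hr, betaQ_eq Q Z hcomm hZc q r' hq hr', ← ofMul_mul]
    congr 1
    apply Subtype.ext
    show cw q (r * r') = cw q r * cw q r'
    rw [cw_mul_right q r r' (hZc _ (hcomm q hq r' hr') _ (hQn.conj_mem r hr q))]
    exact (hZc _ (hcomm q hq r hr) _ (hZQ (hcomm q hq r' hr')))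
  · -- alternating
    intro v
    obtain ⟨q, hq, rfl⟩ := hmk v
    rw [betaQ_eq Q Z hcomm hZc q q hq hq]
    have : (⟨cw q q, hcomm q hq q hq⟩ : ↥Z) = 1 := Subtype.ext (cw_self q)
    rw [this]; rfl
  · -- equivariance
    intro s v w
    obtain ⟨q, hq, rfl⟩ := hmk v
    obtain ⟨r, hr, rfl⟩ := hmk w
    obtain ⟨g, rfl⟩ : ∃ g : G, e (QuotientGroup.mk g) = s := by
      obtain ⟨y, hy⟩ := e.surjective s
      obtain ⟨g, rfl⟩ := QuotientGroup.mk_surjective y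
      exact ⟨g, hy⟩
    have hV : ∀ (t : G) (ht : t ∈ Q), ρV (e (QuotientGroup.mk g)) (Additive.ofMul (mkQ Q Z t ht)) =
        Additive.ofMul (mkQ Q Z (g * t * g⁻¹) (hQn.conj_mem t ht g)) := by
      intro t ht
      rw [← he' g, hρV]
      congr 1
    rw [hV q hq, hV r hr, betaQ_eq Q Z hcomm hZc _ _ _ _, betaQ_eq Q Z hcomm hZc q r hq hr, hρZ]
    congr 1
    apply Subtype.ext
    exact cw_conj g q r

end Cfsg.Agent.Lib.Helper2.HIGMain

namespace Cfsg.Agent.Lib.Helper2.HIGMain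

open Cfsg.Agent.Lib.Helper2.HIG
open scoped IsMulCommutative

universe u

theorem exp_step {K : Type*} [Field K] [Finite K] [CharP K 2] (hK : ∃ m : K, m ≠ 0 ∧ m ≠ 1)
    {G : Type u} [Group G] [Finite G] (Q : Subgroup G) [hQn : Q.Normal]
    (e : G ⧸ Q ≃* SL2 K) (x : G) (hx : orderOf x = 3) (hex : e (QuotientGroup.mk x) = x0 K)
    (hfpf : ∀ q ∈ Q, x * q * x⁻¹ = q → q = 1)
    (Z : Subgroup G) (hZ2 : ∀ z ∈ Z, z ^ 2 = 1)
    (hab : ∀ q ∈ Q, ∀ r ∈ Q, cw q r = 1) (hsq : ∀ q ∈ Q, q ^ 2 ∈ Z) :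
    IsMulCommutative ↥Q ∧ ∀ a ∈ Q, a ^ 2 = 1 := by
  classical
  have hx3 : x ^ 3 = 1 := by rw [← hx]; exact pow_orderOf_eq_one x
  have hcommQ : ∀ q ∈ Q, ∀ r ∈ Q, q * r = r * q := by
    intro q hq r hr
    have := hab q hq r hr
    unfold cw at this
    calc q * r = (q * r * q⁻¹ * r⁻¹) * (r * q) := by group
      _ = r * q := by rw [this, one_mul]
  haveI hQc : IsMulCommutative ↥Q :=
    ⟨⟨fun a b => Subtype.ext (hcommQ a a.2 b b.2)⟩⟩
  refine ⟨hQc, ?_⟩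
  obtain ⟨ρ, hρ⟩ := Cfsg.Agent.Lib.Helper9.HIGS1.exists_subAct Q e Q (fun q hq a ha => hcommQ q hq a ha)
  have H3 : ∀ z, ρ (x0 K) (ρ (x0 K) z) + ρ (x0 K) z + z = 0 :=
    H3_of_conj Q x hx3 hfpf (ρ (x0 K)) (fun a => by rw [← hex]; exact hρ x a)
  have h4 : ∀ w : Additive ↥Q, (w + w) + (w + w) = 0 := by
    intro v
    obtain ⟨a, rfl⟩ : ∃ a, Additive.ofMul a = v := ⟨Additive.toMul v, rfl⟩
    have h1 := hZ2 _ (hsq a a.2)
    rw [← ofMul_mul, ← ofMul_mul]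
    have h : (a * a) * (a * a) = 1 := Subtype.ext (by
      simp only [Subgroup.coe_mul, Subgroup.coe_one]
      rw [← pow_two (a : G), ← pow_two]; exact h1)
    rw [h]; rfl
  have h2 := Cfsg.Agent.Lib.Helper8.HIG.exp_two hK h4 ρ H3
  intro a ha
  have h3 := h2 (Additive.ofMul (⟨a, ha⟩ : ↥Q))
  rw [← ofMul_mul] at h3
  have h5 : (⟨a, ha⟩ : ↥Q) * ⟨a, ha⟩ = 1 := h3
  have h6 := congrArg Subtype.val h5
  rw [pow_two]
  simpa using h6

theorem elemAb {K : Type*} [Field K] [Finite K] [CharP K 2] (hK : ∃ m : K, m ≠ 0 ∧ m ≠ 1)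
    (N : ℕ) : ∀ (G : Type u) [Group G] [Finite G] (Q : Subgroup G) [Q.Normal] (_hQ : IsPGroup 2 ↥Q)
      (e : G ⧸ Q ≃* SL2 K) (x : G) (_hx : orderOf x = 3) (_hex : e (QuotientGroup.mk x) = x0 K)
      (_hfpf : ∀ q ∈ Q, x * q * x⁻¹ = q → q = 1), Nat.card G = N →
      IsMulCommutative ↥Q ∧ ∀ a ∈ Q, a ^ 2 = 1 := by
  induction N using Nat.strong_induction_on with
  | _ N ih =>
  intro G _ _ Q hQn hQ e x hx hex hfpf hN
  by_cases hQ1 : Q = ⊥
  · subst hQ1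
    refine ⟨⟨⟨fun a b => ?_⟩⟩, ?_⟩
    · apply Subtype.ext
      have ha := (Subgroup.mem_bot.mp a.2)
      have hb := (Subgroup.mem_bot.mp b.2)
      simp [ha, hb]
    · intro a ha
      rw [Subgroup.mem_bot.mp ha]; simp
  obtain ⟨Z, hZn, hZQ, hZ1, hZc, hZ2⟩ := Cfsg.Agent.Lib.Helper9.HIGS2c.exists_central_elem Q hQ hQ1
  haveI := hZn
  obtain ⟨e', he'⟩ := Cfsg.Agent.Lib.Helper6.HIG.quotient_equiv Q e Z hZQ
  obtain ⟨hx', hfpf'⟩ := Cfsg.Agent.Lib.Helper6.HIG.fpf_quotient Q hQ Z hZQ x hx hfpf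
  have hcard : Nat.card (G ⧸ Z) < N := by
    rw [← hN, Subgroup.card_eq_card_quotient_mul_card_subgroup Z]
    have h1 : 1 < Nat.card Z := by
      rw [Finite.one_lt_card_iff_nontrivial]
      exact (Subgroup.nontrivial_iff_ne_bot Z).mpr hZ1
    have h0 : 0 < Nat.card (G ⧸ Z) := Nat.card_pos
    nlinarith
  have hQ' : IsPGroup 2 ↥(Q.map (QuotientGroup.mk' Z)) := hQ.map _
  obtain ⟨hc', h2'⟩ := ih _ hcard (G ⧸ Z) (Q.map (QuotientGroup.mk' Z)) hQ' e'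
    (QuotientGroup.mk x) hx' (by rw [he']; exact hex) hfpf' rfl
  have hab := abelian_step hK Q hQ e x hx hex hfpf Z hZQ hZc hZ2 hc' h2'
  exact exp_step hK Q e x hx hex hfpf Z hZ2 hab (hsq_of_quot Q Z h2')

end Cfsg.Agent.Lib.Helper2.HIGMain

namespace Cfsg.Agent.Lib.Helper2.HIGMain

open Cfsg.Agent.Lib.Helper2.HIG

universe u v

theorem higman_main {G : Type u} [Group G] [Finite G]
    (Q : Subgroup G) [hQn : Q.Normal] (hQ : IsPGroup 2 ↥Q) (n : ℕ) (hn : 2 ≤ n)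
    (K : Type v) [Field K] [Fintype K] (hK : Fintype.card K = 2 ^ n)
    (e : G ⧸ Q ≃* Matrix.SpecialLinearGroup (Fin 2) K)
    (x : G) (hx : orderOf x = 3) (hfpf : ∀ q ∈ Q, x * q * x⁻¹ = q → q = 1) :
    Cfsg.IsElementaryAbelian 2 Q ∧
      ∃ (k : ℕ) (V : Fin k → Subgroup G), (∀ i, V i ≤ Q ∧ (V i).Normal ∧
        Cfsg.ActsAsSL2OnSection K ⊤ ⊤ (V i) ⊥) ∧ iSupIndep V ∧ ⨆ i, V i = Q := by
  classical
  -- characteristic two
  haveI hchar : CharP K 2 := by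
    obtain ⟨p, hp⟩ := CharP.exists K
    haveI := hp
    haveI hpp : Fact p.Prime := ⟨CharP.char_is_prime K p⟩
    obtain ⟨m, hm⟩ := FiniteField.card K p
    rw [hK] at hm
    have h2 : p = 2 := by
      have hdvd : p ∣ 2 ^ n := by
        rw [hm.2]
        exact dvd_pow_self p m.ne_zero
      exact (Nat.prime_dvd_prime_iff_eq hpp.out Nat.prime_two).mp (hpp.out.dvd_of_dvd_pow hdvd)
    rw [← h2]; exact hp
  -- at least four elements
  have hK' : ∃ m : K, m ≠ 0 ∧ m ≠ 1 := by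
    by_contra hcon
    have hsub : (Finset.univ : Finset K) ⊆ {0, 1} := by
      intro m _
      by_cases hm : m = 0
      · simp [hm]
      · have : m = 1 := by
          by_contra h1
          exact hcon ⟨m, hm, h1⟩
        simp [this]
    have hcard := Finset.card_le_card hsub
    have h2 : (({0, 1} : Finset K)).card ≤ 2 := Finset.card_le_two
    rw [Finset.card_univ, hK] at hcard
    have : 2 ^ 2 ≤ 2 ^ n := Nat.pow_le_pow_right (by norm_num) hn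
    omega
  -- the image of `x` has order three
  have hxQ : x ∉ Q := fun h => by
    have h1 := hfpf x h (by group)
    rw [h1, orderOf_one] at hx
    omega
  have hx3 : x ^ 3 = 1 := by rw [← hx]; exact pow_orderOf_eq_one x
  have hy3 : orderOf (e (QuotientGroup.mk x)) = 3 := by
    have h1 : (e (QuotientGroup.mk x)) ^ 3 = 1 := by
      rw [← map_pow, ← QuotientGroup.mk_pow, hx3]
      simp
    have h2 : e (QuotientGroup.mk x) ≠ 1 := by
      intro h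
      have h3 : (QuotientGroup.mk x : G ⧸ Q) = 1 := e.injective (by rw [h, map_one])
      exact hxQ ((QuotientGroup.eq_one_iff x).mp h3)
    exact orderOf_eq_prime h1 h2
  obtain ⟨g, hg⟩ := Cfsg.Agent.Lib.Helper3.HIG.order3_conj (e (QuotientGroup.mk x)) hy3
  obtain ⟨gt, hgt⟩ : ∃ gt : G, e (QuotientGroup.mk gt) = g := by
    obtain ⟨y, hy⟩ := e.surjective g
    obtain ⟨gt, rfl⟩ := QuotientGroup.mk_surjective y
    exact ⟨gt, hy⟩
  -- the conjugate element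
  have hx1o : orderOf (gt * x * gt⁻¹) = 3 := by
    rw [← hx]
    have := (MulAut.conj gt).orderOf_eq x
    rwa [MulAut.conj_apply] at this
  have hx1e : e (QuotientGroup.mk (gt * x * gt⁻¹)) = x0 K := by
    rw [QuotientGroup.mk_mul, QuotientGroup.mk_mul, QuotientGroup.mk_inv, map_mul, map_mul,
      map_inv, hgt]
    exact hg
  have hx1f : ∀ q ∈ Q, (gt * x * gt⁻¹) * q * (gt * x * gt⁻¹)⁻¹ = q → q = 1 := by
    intro q hq h
    have hq' : gt⁻¹ * q * gt ∈ Q := by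
      have := hQn.conj_mem q hq gt⁻¹
      simpa using this
    have h1 : x * (gt⁻¹ * q * gt) * x⁻¹ = gt⁻¹ * q * gt := by
      calc x * (gt⁻¹ * q * gt) * x⁻¹ = gt⁻¹ * ((gt * x * gt⁻¹) * q * (gt * x * gt⁻¹)⁻¹) * gt := by
            group
        _ = gt⁻¹ * q * gt := by rw [h]
    have h2 := hfpf _ hq' h1
    calc q = gt * (gt⁻¹ * q * gt) * gt⁻¹ := by group
      _ = 1 := by rw [h2]; group
  have hEA : Cfsg.IsElementaryAbelian 2 Q :=
    elemAb hK' (Nat.card G) G Q hQ e (gt * x * gt⁻¹) hx1o hx1e hx1f rfl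
  refine ⟨hEA, ?_⟩
  exact Cfsg.Agent.Lib.Helper4.HIG.partF_core Q K e x hx hfpf hEA (x0 K)
    (fun y hy => Cfsg.Agent.Lib.Helper3.HIG.order3_conj y hy)
    (fun V _ _ h2V ρ H3 => Cfsg.Agent.Lib.Helper2.HIGCoords.module_coords hK' h2V ρ H3)

end Cfsg.Agent.Lib.Helper2.HIGMain
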