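import Mathlib
import Cfsg.Agent.Lib.Helper2.GH5Core
import Cfsg.Agent.Lib.Helper2.GH5Dict
import Cfsg.Agent.Lib.Helper1.GH5U7b
import Cfsg.Agent.Lib.Helper9.GH5M
import Cfsg.Agent.Lib.Helper4.GH5MO4
import Cfsg.Agent.Lib.Helper8.GH5OTc
import Cfsg.Agent.Lib.Helper6.GH5G
import Cfsg.Agent.Lib.Helper6.GH5R2
import Cfsg.Agent.Lib.Helper6.GH5W
import Cfsg.Agent.Lib.Helper6.GH5W2
import Cfsg.Agent.Lib.Helper7.GH5CardV
import Cfsg.Agent.Lib.Helper3.GH5OOd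

set_option autoImplicit false
set_option linter.unusedVariables false
set_option linter.unusedSectionVars false
set_option linter.style.longLine false
set_option linter.unusedSimpArgs false
set_option linter.style.haveILetI false
set_option maxHeartbeats 1000000

/-! # GH5 = S3106: the one-layer theorem (dispatcher) -/

namespace Cfsg.Agent.Lib.Helper2.GH5

open Cfsg.Agent.Lib.Helper3.A8Emb (sqSub sqSub_le)
open Cfsg.Agent.Lib.Helper6.GH5
open Cfsg.Agent.Lib.Helper8.GH5Cases (SC)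
open Cfsg.Agent.Lib.Helper4.GH5 (TypeOData)

universe u

section Wrappers

variable {Y : Type u} [Group Y] [Finite Y] {Q W : Subgroup Y} [hQn : Q.Normal] [hWn : W.Normal]
  {V Wt : Type u} [AddCommGroup V] [AddCommGroup Wt] [Finite V] [Finite Wt]
  {ρV : (Y ⧸ Q) →* AddMonoid.End V} {ρW : (Y ⧸ Q) →* AddMonoid.End Wt}
  {πV : ↥Q → V} {πW : ↥W → Wt} {s : V → Wt} {c : V → V → Wt}

theorem Dict.πV_one (d : Dict Q W ρV ρW πV πW s c) : πV 1 = 0 := by
  have h := d.πV_mul 1 1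
  rw [mul_one] at h
  have h2 := d.V2 (πV 1)
  rw [h2] at h
  exact h

theorem Dict.πW_one (d : Dict Q W ρV ρW πV πW s c) : πW 1 = 0 := by
  have h := d.πW_mul 1 1
  rw [mul_one] at h
  have h2 := d.W2 (πW 1)
  rw [h2] at h
  exact h

/-- (V1) -/
theorem Dict.injV (d : Dict Q W ρV ρW πV πW s c)
    (hfaith : ∀ g : Y, (∀ a ∈ Q, g * a * g⁻¹ * a⁻¹ ∈ W) → g ∈ Q) : Function.Injective ρV := by
  rw [injective_iff_map_eq_one]
  intro x hx
  obtain ⟨g, rfl⟩ := QuotientGroup.mk_surjective x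
  have hg : g ∈ Q := by
    apply hfaith
    intro a ha
    have hconj : g * a * g⁻¹ ∈ Q := hQn.conj_mem a ha g
    have h1 := d.ρV_mk g ⟨a, ha⟩ hconj
    rw [hx] at h1
    have h1' : πV ⟨a, ha⟩ = πV ⟨g * a * g⁻¹, hconj⟩ := h1
    have h2 : πV (⟨g * a * g⁻¹, hconj⟩ * (⟨a, ha⟩ : ↥Q)⁻¹) = 0 := by
      rw [d.πV_mul, ← h1', ← d.πV_mul, mul_inv_cancel, d.πV_one]
    have h3 := (d.πV_ker _).mp h2
    simpa using h3
  exact (QuotientGroup.eq_one_iff g).mpr hg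

/-- (V2) -/
theorem Dict.cardV16 (d : Dict Q W ρV ρW πV πW s c)
    (hQW : Nat.card Q = 16 * Nat.card W) : Nat.card V = 16 := by
  have h := d.card_V
  rw [hQW] at h
  have hpos : 0 < Nat.card W := Nat.card_pos
  exact Nat.eq_of_mul_eq_mul_right hpos h

/-- (ne) -/
theorem Dict.ne (d : Dict Q W ρV ρW πV πW s c) (hsq : ∀ q ∈ Q, q * q ∈ W)
    (hex : ∃ q ∈ Q, q * q ≠ 1) : ¬ ((∀ v, s v = 0) ∧ ∀ u v, c u v = 0) := by
  rintro ⟨hs0, -⟩
  obtain ⟨q, hq, hqq⟩ := hex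
  apply hqq
  have h1 := d.s_mk ⟨q, hq⟩ (hsq q hq)
  rw [hs0, ← d.πW_one] at h1
  have h2 := d.πW_bij.injective h1
  have h3 := congrArg Subtype.val h2
  simpa using h3.symm

/-- (R5') -/
theorem Dict.sne (d : Dict Q W ρV ρW πV πW s c) (hr : Cfsg.SectionalPRankLE 2 4 Y)
    (hcen : ∀ w ∈ W, ∀ q ∈ Q, w * q = q * w) (hWQ : W ≤ Q) (hexp : ∀ w ∈ W, w * w = 1)
    (hsq : ∀ q ∈ Q, q * q ∈ W) (hW16 : Nat.card W = 16) : ∀ v : V, v ≠ 0 → s v ≠ 0 := by
  intro v hv hsv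
  obtain ⟨q, rfl⟩ := d.πV_surj v
  have hqW : (q : Y) ∉ W := fun h => hv ((d.πV_ker q).mpr h)
  have h1 := d.s_mk q (hsq q q.2)
  rw [hsv, ← d.πW_one] at h1
  have h2 := d.πW_bij.injective h1
  have h3 : (q : Y) * q = 1 := by
    have := congrArg Subtype.val h2
    simpa using this.symm
  exact false_of_central_E16 hr W (fun w hw w' hw' => hcen w hw w' (hWQ hw')) hexp hW16 (q : Y) hqW h3
    (fun w hw => (hcen w hw q q.2).symm)

/-- (Wd) -/
theorem Dict.Wdich (d : Dict Q W ρV ρW πV πW s c) (e : Y ⧸ Q ≃* alternatingGroup (Fin 5))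
    (hr : Cfsg.SectionalPRankLE 2 4 Y) (hcen : ∀ w ∈ W, ∀ q ∈ Q, w * q = q * w) (hWQ : W ≤ Q)
    (hexp : ∀ w ∈ W, w * w = 1) (hW : W ≠ ⊥)
    (hmin : ∀ M : Subgroup Y, M.Normal → M ≤ W → M = ⊥ ∨ M = W) :
    (Nat.card Wt = 2 ∧ ∀ g w, ρW g w = w) ∨ (Nat.card Wt = 16 ∧ Function.Injective ρW) := by
  have hle : Nat.card Wt ≤ 16 := by
    rw [d.card_Wt]
    have h := relIndex_le_of_sectional hr ⊥ W ?_ ?_
    · rw [Subgroup.relIndex_bot_left] at h
      simpa using h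
    · intro x hx y hy
      rw [Subgroup.mem_bot, commutatorElement_def]
      have := hcen x hx y (hWQ hy)
      rw [this]; group
    · intro x hx
      rw [Subgroup.mem_bot, pow_two]
      exact hexp x hx
  rcases Cfsg.Agent.Lib.Helper9.GH5M.f1 e d.W2 ρW hle with htriv | h16
  · left
    refine ⟨?_, htriv⟩
    -- every element of W is central in Y
    have hcenY : ∀ w ∈ W, ∀ y : Y, y * w * y⁻¹ = w := by
      intro w hw y
      have hconj : y * w * y⁻¹ ∈ W := hWn.conj_mem w hw y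
      have h1 := d.ρW_mk y ⟨w, hw⟩ hconj
      rw [htriv] at h1
      have h2 := d.πW_bij.injective h1
      exact (congrArg Subtype.val h2).symm
    obtain ⟨w, hwW, hw1⟩ : ∃ w ∈ W, w ≠ 1 := by
      by_contra hcon
      push_neg at hcon
      apply hW
      rw [eq_bot_iff]
      intro x hx
      rw [Subgroup.mem_bot]
      exact hcon x hx
    have hMn : (Subgroup.zpowers w).Normal := by
      constructor
      intro n hn y
      obtain ⟨k, rfl⟩ := Subgroup.mem_zpowers_iff.mp hn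
      have : y * w ^ k * y⁻¹ = w ^ k := by
        have h5 : y * w ^ k * y⁻¹ = (y * w * y⁻¹) ^ k := (conj_zpow).symm
        rw [h5, hcenY w hwW y]
      rw [this]
      exact Subgroup.zpow_mem_zpowers w k
    have hMle : Subgroup.zpowers w ≤ W := by
      rw [Subgroup.zpowers_le]; exact hwW
    rcases hmin _ hMn hMle with h | h
    · exfalso
      apply hw1
      have : w ∈ Subgroup.zpowers w := Subgroup.mem_zpowers w
      rw [h, Subgroup.mem_bot] at this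
      exact this
    · rw [d.card_Wt, ← h, Nat.card_zpowers]
      have h2 : orderOf w ∣ 2 := orderOf_dvd_of_pow_eq_one (by rw [pow_two]; exact hexp w hwW)
      rcases (Nat.dvd_prime Nat.prime_two).mp h2 with h1 | h2'
      · exact absurd (orderOf_eq_one_iff.mp h1) hw1
      · exact h2'
  · right
    exact h16

/-- (NN) -/
theorem Dict.no_NN (d : Dict Q W ρV ρW πV πW s c) (e : Y ⧸ Q ≃* alternatingGroup (Fin 5))
    (hQ : IsPGroup 2 Q) (hsq : ∀ q ∈ Q, q * q ∈ W) (hex : ∃ q ∈ Q, q * q ≠ 1)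
    (hcardV : Nat.card V = 16) (hinjV : Function.Injective ρV)
    (hcardW : Nat.card Wt = 16) (hinjW : Function.Injective ρW)
    (hNV : Cfsg.Agent.Lib.Helper9.GH5M.TypeN ρV) (hNW : Cfsg.Agent.Lib.Helper9.GH5M.TypeN ρW) : False := by
  exact false_of_layer_N_N Q W hQ e πV πW d.V2 d.πV_mul d.πV_ker d.πW_bij.injective d.πW_mul
    d.ρV_mk d.ρW_mk
    (fun g hg u hu => Cfsg.Agent.Lib.Helper9.GH5M.TypeN.three_fpf e d.V2 hNV hcardV hinjV g hg u hu)
    (fun g hg w hw => Cfsg.Agent.Lib.Helper9.GH5M.TypeN.three_fpf e d.W2 hNW hcardW hinjW g hg w hw)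
    hex

/-- (NO) -/
theorem Dict.no_NO (d : Dict Q W ρV ρW πV πW s c) (e : Y ⧸ Q ≃* alternatingGroup (Fin 5))
    (hr : Cfsg.SectionalPRankLE 2 4 Y)
    (hcen : ∀ w ∈ W, ∀ q ∈ Q, w * q = q * w) (hWQ : W ≤ Q) (hexp : ∀ w ∈ W, w * w = 1)
    (hsq : ∀ q ∈ Q, q * q ∈ W)
    (hcardV : Nat.card V = 16) (hinjV : Function.Injective ρV)
    (hcardW : Nat.card Wt = 16) (hinjW : Function.Injective ρW)
    (hsne : ∀ v : V, v ≠ 0 → s v ≠ 0)
    (hNV : Cfsg.Agent.Lib.Helper9.GH5M.TypeN ρV) (dW : TypeOData ρW) : False := by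
  have hW16 : Nat.card W = 16 := by rw [← d.card_Wt]; exact hcardW
  exact wrapper_NO hr Q W hWQ hcen hexp hW16 e d.sc πV πW d.πV_surj d.πV_mul d.πV_ker
    d.πW_bij.injective d.s_mk d.c_mk hsq hNV hcardV hinjV dW hsne

/-- (ON) -/
theorem Dict.no_ON (d : Dict Q W ρV ρW πV πW s c) (e : Y ⧸ Q ≃* alternatingGroup (Fin 5))
    (hcardW : Nat.card Wt = 16) (hinjW : Function.Injective ρW)
    (hsne : ∀ v : V, v ≠ 0 → s v ≠ 0)
    (u0 : V) (hu0 : u0 ≠ 0) (h12 : Nat.card (Cfsg.Agent.Lib.Helper9.GH5M.stab ρV u0) = 12)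
    (hNW : Cfsg.Agent.Lib.Helper9.GH5M.TypeN ρW) : False := by
  refine Cfsg.Agent.Lib.Helper8.GH5Cases.case_O_N d.sc hsne u0 hu0 ?_ ?_
  · have : Nat.card {g : Y ⧸ Q // ρV g u0 = u0} = 12 := h12
    omega
  · intro w hw
    have h4 : Nat.card {g : Y ⧸ Q // ρW g w = w} = 4 :=
      Cfsg.Agent.Lib.Helper9.GH5M.TypeN.card_stab e d.W2 hNW hcardW hinjW w hw
    omega

/-- (OO) -/
theorem Dict.no_OO (d : Dict Q W ρV ρW πV πW s c) (e : Y ⧸ Q ≃* alternatingGroup (Fin 5))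
    (hr : Cfsg.SectionalPRankLE 2 4 Y)
    (hcen : ∀ w ∈ W, ∀ q ∈ Q, w * q = q * w) (hWQ : W ≤ Q) (hexp : ∀ w ∈ W, w * w = 1)
    (hsq : ∀ q ∈ Q, q * q ∈ W)
    (hcardV : Nat.card V = 16) (hinjV : Function.Injective ρV)
    (hcardW : Nat.card Wt = 16) (hinjW : Function.Injective ρW)
    (hsne : ∀ v : V, v ≠ 0 → s v ≠ 0)
    (dV : TypeOData ρV) (dW : TypeOData ρW) : False := by
  have hW16 : Nat.card W = 16 := by rw [← d.card_Wt]; exact hcardW
  exact Cfsg.Agent.Lib.Helper3.GH5.case_O_O_layer hr Q W hWQ hcen hsq hexp hW16 d.sc dV dW hcardV πV πW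
    d.πV_surj d.πV_ker d.πW_bij.injective d.πW_mul d.ρW_mk d.s_mk d.c_mk d.card_V

end Wrappers

/-- the one-layer theorem -/
theorem one_layer : OneLayerStmt.{u} := by
  intro G _ _ Q _ hD hΦ hmin
  haveI : Fact (Nat.Prime 2) := ⟨Nat.prime_two⟩
  have hWQ : sqSub Q ≤ Q := sqSub_le Q
  obtain ⟨hcen, hexp'⟩ := Cfsg.Agent.Lib.Helper1.GH5U7.minimal_normal_central Q (sqSub Q) hD.pgroup hWQ hΦ hmin
  have hexp : ∀ w ∈ sqSub Q, w * w = 1 := fun w hw => by rw [← pow_two]; exact hexp' w hw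
  have hsq : ∀ q ∈ Q, q * q ∈ sqSub Q := fun q hq => sq_mem_sqSub Q hq
  have hex : ∃ q ∈ Q, q * q ≠ 1 := by
    by_contra hcon
    push_neg at hcon
    apply hΦ
    rw [eq_bot_iff]
    unfold sqSub
    rw [Subgroup.closure_le]
    rintro y ⟨b, hb, rfl⟩
    rw [SetLike.mem_coe, Subgroup.mem_bot, pow_two]
    exact hcon b hb
  obtain ⟨V, Wt, iV, iWt, fV, fWt, ρV, ρW, πV, πW, s, c, hV2, hW2, hπVs, hπVm, hπVk, hπWb, hπWm,
    hρV, hρW, hs, hc, hsadd, hcl, hcr, hcs, hcsym, hseq, hceq, hcard, hcardW⟩ :=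
    Cfsg.Agent.Lib.Helper1.GH5U7.exists_layer Q (sqSub Q) hWQ hcen hsq hexp
  have d : Dict Q (sqSub Q) ρV ρW πV πW s c :=
    ⟨hV2, hW2, hπVs, hπVm, hπVk, hπWb, hπWm, hρV, hρW, hs, hc, hsadd, hcl, hcr, hcs, hcsym, hseq,
      hceq, hcard, hcardW⟩
  obtain ⟨e⟩ := hD.iso
  have hinjV := d.injV hD.faithful
  have hcardV := d.cardV16 (Cfsg.Agent.Lib.Helper7.GH5BRA.cardV G Q hD)
  have hne := d.ne hsq hex
  have hWd := d.Wdich e hD.rank hcen hWQ hexp hΦ hmin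
  have hSC := d.sc
  rcases Cfsg.Agent.Lib.Helper9.GH5M.dichotomy e hV2 ρV hcardV hinjV with hN | ⟨u0, hu0, h12⟩
  · -- V of type N
    rcases hWd with ⟨hW2c, htriv⟩ | ⟨hW16, hinjW⟩
    · exfalso
      exact hne (Cfsg.Agent.Lib.Helper8.GH5Cases.case_N_triv hSC (by omega) hN htriv)
    · exfalso
      have hW16' : Nat.card (sqSub Q) = 16 := by rw [← hcardW]; exact hW16
      have hsne := d.sne hD.rank hcen hWQ hexp hsq hW16'
      rcases Cfsg.Agent.Lib.Helper9.GH5M.dichotomy e hW2 ρW hW16 hinjW with hN' | ⟨w0, hw0, h12'⟩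
      · exact d.no_NN e hD.pgroup hsq hex hcardV hinjV hW16 hinjW hN hN'
      · obtain ⟨dW⟩ := Cfsg.Agent.Lib.Helper4.GH5.exists_typeO_of_stab12 e hW16 hW2 ρW hinjW w0 hw0 h12'
        exact d.no_NO e hD.rank hcen hWQ hexp hsq hcardV hinjV hW16 hinjW hsne hN dW
  · -- V of type O
    obtain ⟨dV⟩ := Cfsg.Agent.Lib.Helper4.GH5.exists_typeO_of_stab12 e hcardV hV2 ρV hinjV u0 hu0 h12
    rcases hWd with ⟨hW2c, htriv⟩ | ⟨hW16, hinjW⟩
    · have hW2' : Nat.card (sqSub Q) = 2 := by rw [← hcardW]; exact hW2c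
      have h7 := Cfsg.Agent.Lib.Helper8.GH5OT.isQ8D8_of_layer Q (sqSub Q) hWQ hcen hW2' hSC htriv dV πV πW
        hπVs hπVm (fun a ha => (hπVk a).mp ha) hπWb.injective hπWm hs (fun q => hsq q q.2) hne
      refine ⟨hW2', ?_, h7⟩
      rw [← hcard, hcardV, hW2']
    · exfalso
      have hW16' : Nat.card (sqSub Q) = 16 := by rw [← hcardW]; exact hW16
      have hsne := d.sne hD.rank hcen hWQ hexp hsq hW16'
      rcases Cfsg.Agent.Lib.Helper9.GH5M.dichotomy e hW2 ρW hW16 hinjW with hN' | ⟨w0, hw0, h12'⟩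
      · exact d.no_ON e hW16 hinjW hsne u0 hu0 h12 hN'
      · obtain ⟨dW⟩ := Cfsg.Agent.Lib.Helper4.GH5.exists_typeO_of_stab12 e hW16 hW2 ρW hinjW w0 hw0 h12'
        exact d.no_OO e hD.rank hcen hWQ hexp hsq hcardV hinjV hW16 hinjW hsne dV dW

end Cfsg.Agent.Lib.Helper2.GH5
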