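import Mathlib
import Cfsg.Agent.Lib.Helper2.GH5Defs

set_option autoImplicit false
set_option linter.unusedVariables false
set_option linter.unusedSectionVars false
set_option linter.style.longLine false

/-! # GH5 = S3106: STUBS (never imported; the exact statements of the units).
Each unit owner proves his statement(s) in his own file `Lib/HelperK/GH5*.lean`, own namespace,
SAME statement (names free). Import `Cfsg.Agent.Lib.Helper2.GH5Defs`. -/

namespace Cfsg.Agent.Lib.Helper2.GH5Stubs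

open Cfsg.Agent.Lib.Helper2.GH5
open Cfsg.Agent.Lib.Helper3.A8Emb (sqSub)

/-! ## MODULE LEVEL -/
section ModuleLevel

variable {Yb U : Type*} [Group Yb] [Group U]

/-- ML1 = (F1). -/
theorem ML1_mod_dichotomy (e : Yb ≃* A5) [Finite U] (ρ : Yb →* MulAut U) (h2 : ∀ u : U, u * u = 1)
    (hle : Nat.card U ≤ 16) : (∀ y u, ρ y u = u) ∨ (Function.Injective ρ ∧ Nat.card U = 16) := sorry

/-- ML2a = (M0). -/
theorem ML2a_typeN_or_typeO (e : Yb ≃* A5) (ρ : Yb →* MulAut U) (hM : IsMod16 ρ) :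
    TypeN ρ ∨ TypeO ρ := sorry

/-- ML2b: type N, transitivity on nonidentity elements. -/
theorem ML2b_typeN_transitive (e : Yb ≃* A5) (ρ : Yb →* MulAut U) (hM : IsMod16 ρ) (hN : TypeN ρ)
    (u u' : U) (hu : u ≠ 1) (hu' : u' ≠ 1) : ∃ y, ρ y u = u' := sorry

/-- ML2c: type N, stabilisers have order 4. -/
theorem ML2c_typeN_stab (e : Yb ≃* A5) (ρ : Yb →* MulAut U) (hM : IsMod16 ρ) (hN : TypeN ρ)
    (u : U) (hu : u ≠ 1) : Nat.card (stab ρ u) = 4 := sorry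

/-- ML2d: type N, fixed points of a subgroup of order 4. -/
theorem ML2d_typeN_fix (e : Yb ≃* A5) (ρ : Yb →* MulAut U) (hM : IsMod16 ρ) (hN : TypeN ρ)
    (P : Subgroup Yb) (hP : Nat.card P = 4) : Nat.card (fix ρ P) = 4 := sorry

/-- ML3: type O has the explicit model. -/
theorem ML3_exists_modelO (e : Yb ≃* A5) (ρ : Yb →* MulAut U) (hM : IsMod16 ρ) (hO : TypeO ρ) :
    ∃ (m : Finset (Fin 5) → U) (φ : Yb ≃* A5), IsModelO ρ m φ := sorry

/-- ML4a: model O, fixed points of an involution: 4 of them, all of the form `a * t a`. -/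
theorem ML4a_modelO_involution (ρ : Yb →* MulAut U) (m : Finset (Fin 5) → U) (φ : Yb ≃* A5)
    (hm : IsModelO ρ m φ) (t : Yb) (ht : orderOf t = 2) :
    Nat.card {u : U // ρ t u = u} = 4 ∧ ∀ u, ρ t u = u → ∃ a, u = a * ρ t a := sorry

/-- ML4b: model O, a subgroup of order 4 fixes exactly 2 elements. -/
theorem ML4b_modelO_fix_four (ρ : Yb →* MulAut U) (m : Finset (Fin 5) → U) (φ : Yb ≃* A5)
    (hm : IsModelO ρ m φ) (P : Subgroup Yb) (hP : Nat.card P = 4) : Nat.card (fix ρ P) = 2 := sorry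

/-- ML4c: model O, an element fixed by the full stabiliser of the point `i` is `1` or `m {i}`. -/
theorem ML4c_modelO_fix_point (ρ : Yb →* MulAut U) (m : Finset (Fin 5) → U) (φ : Yb ≃* A5)
    (hm : IsModelO ρ m φ) (i : Fin 5) (u : U)
    (hu : ∀ y : Yb, ((φ y : A5) : Equiv.Perm (Fin 5)) i = i → ρ y u = u) : u = 1 ∨ u = m {i} := sorry

/-- ML4d: model O, an element fixed by the setwise stabiliser of `{i,j}` is `1` or `m {i,j}`. -/
theorem ML4d_modelO_fix_pair (ρ : Yb →* MulAut U) (m : Finset (Fin 5) → U) (φ : Yb ≃* A5)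
    (hm : IsModelO ρ m φ) (i j : Fin 5) (hij : i ≠ j) (u : U)
    (hu : ∀ y : Yb, (({i, j} : Finset (Fin 5)).map
      (Equiv.toEmbedding ((φ y : A5) : Equiv.Perm (Fin 5))) = {i, j}) → ρ y u = u) :
    u = 1 ∨ u = m {i, j} := sorry

/-- ML4e: A5 is 2-transitive on `Fin 5` (through `φ`). -/
theorem ML4e_two_transitive (φ : Yb ≃* A5) (i j k l : Fin 5) (hij : i ≠ j) (hkl : k ≠ l) :
    ∃ y : Yb, ((φ y : A5) : Equiv.Perm (Fin 5)) i = k ∧ ((φ y : A5) : Equiv.Perm (Fin 5)) j = l := sorry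

/-- ML5a = (QF''), both types: the image of an invariant quadratic map lies in `{1, z0}`;
in model O moreover `q (m {i}) = 1`. -/
theorem ML5a_quad_image (e : Yb ≃* A5) (ρ : Yb →* MulAut U) (hM : IsMod16 ρ)
    {Z : Type*} [Group Z] (hZ : ∀ z : Z, z * z = 1) (q : U → Z) (hq : IsInvQuad ρ q) (hq1 : q 1 = 1) :
    ∃ z0 : Z, ∀ u, q u = 1 ∨ q u = z0 := sorry

/-- ML5a' = (QF) in the model: `q (m {i}) = 1`, `q (m {i,j}) = z0` for all `i ≠ j`. -/
theorem ML5a'_quad_modelO (ρ : Yb →* MulAut U) (m : Finset (Fin 5) → U) (φ : Yb ≃* A5)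
    (hm : IsModelO ρ m φ) (hU2 : ∀ u : U, u * u = 1)
    {Z : Type*} [Group Z] (hZ : ∀ z : Z, z * z = 1) (q : U → Z) (hq : IsInvQuad ρ q) (hq1 : q 1 = 1) :
    ∃ z0 : Z, (∀ i, q (m {i}) = 1) ∧ ∀ i j, i ≠ j → q (m {i, j}) = z0 := sorry

/-- ML5b, both types: an invariant homomorphism to a group of exponent 2 is trivial. -/
theorem ML5b_no_inv_functional (e : Yb ≃* A5) (ρ : Yb →* MulAut U) (hM : IsMod16 ρ)
    {Z : Type*} [Group Z] (hZ : ∀ z : Z, z * z = 1) (f : U →* Z) (hf : ∀ y u, f (ρ y u) = f u) :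
    ∀ u, f u = 1 := sorry

end ModuleLevel

/-! ## LAYER LEVEL (cases) -/
section Cases

variable {Yb V W : Type*} [Group Yb] [Group V] [Group W]

/-- ML6 = W-dichotomy. -/
theorem ML6_W_dichotomy (L : Layer Yb V W) (e : Yb ≃* A5) :
    (Nat.card W = 2 ∧ ∀ y w, L.ρW y w = w) ∨ (Nat.card W = 16 ∧ Function.Injective L.ρW) := sorry

/-- C1 = case (N, triv). -/
theorem C1_N_triv (L : Layer Yb V W) (e : Yb ≃* A5) (hN : TypeN L.ρV)
    (hW : Nat.card W = 2) (htriv : ∀ y w, L.ρW y w = w) : False := sorry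

/-- C2 = case (N, O). -/
theorem C2_N_O (L : Layer Yb V W) (e : Yb ≃* A5) (hN : TypeN L.ρV)
    (hW : Nat.card W = 16) (hinj : Function.Injective L.ρW) (hO : TypeO L.ρW) : False := sorry

/-- C3 = case (O, N). -/
theorem C3_O_N (L : Layer Yb V W) (e : Yb ≃* A5) (hO : TypeO L.ρV)
    (hW : Nat.card W = 16) (hinj : Function.Injective L.ρW) (hN : TypeN L.ρW) : False := sorry

/-- C4 = case (O, O), module part. -/
theorem C4_O_O (L : Layer Yb V W) (e : Yb ≃* A5) (hO : TypeO L.ρV)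
    (hW : Nat.card W = 16) (hinj : Function.Injective L.ρW) (hO' : TypeO L.ρW) : L.OutOO := sorry

/-- C5 = case (O, triv). -/
theorem C5_O_triv (L : Layer Yb V W) (e : Yb ≃* A5) (hO : TypeO L.ρV)
    (hW : Nat.card W = 2) (htriv : ∀ y w, L.ρW y w = w) : L.OutOT := sorry

/-- C0 = assembly of the module level (owner). -/
theorem C0_layer_trichotomy (L : Layer Yb V W) (e : Yb ≃* A5) : L.OutNN ∨ L.OutOO ∨ L.OutOT := sorry

end Cases

/-! ## GROUP LEVEL -/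
section GroupLevel

variable {G : Type*} [Group G] [Finite G] (Q : Subgroup G) [hQn : Q.Normal]

/-- BR-A: the module `V = Q / sqSub Q`. -/
theorem BRA_exists_rhoV (hD : GH5Data Q) :
    ∃ ρV : G ⧸ Q →* MulAut (↥Q ⧸ (sqSub Q).subgroupOf Q), IsMod16 ρV ∧
      ∀ (g : G) (a : ↥Q), ρV (g : G ⧸ Q) ((a : ↥Q) : ↥Q ⧸ (sqSub Q).subgroupOf Q) =
        (((⟨g * (a : G) * g⁻¹, hQn.conj_mem a a.2 g⟩ : ↥Q)) : ↥Q ⧸ (sqSub Q).subgroupOf Q) := sorry

/-- BR-B: a minimal normal subgroup `W ≤ Q` of `G` (`Q` a normal 2-subgroup) is central in `Q` and of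
exponent 2. -/
theorem BRB_min_normal_central (hQ : IsPGroup 2 Q) (W : Subgroup G) [W.Normal] (hWQ : W ≤ Q)
    (hmin : ∀ M : Subgroup G, M.Normal → M ≤ W → M = ⊥ ∨ M = W) :
    (∀ w ∈ W, ∀ a ∈ Q, a * w = w * a) ∧ (∀ w ∈ W, w * w = 1) := sorry

/-- BR-D = (R5) in the form (AX1), group form: `H ≤ G`, `M ≤ H` normal in `H`, `H/M` of exponent 2
  ==> `|H| ≤ 16 |M|`. -/
theorem BRD_R5 (h4 : Cfsg.SectionalPRankLE 2 4 G) (H M : Subgroup G) (hMH : M ≤ H)
    (hn : ∀ h ∈ H, ∀ x ∈ M, h * x * h⁻¹ ∈ M) (hsq : ∀ h ∈ H, h * h ∈ M) :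
    Nat.card H ≤ 16 * Nat.card M := sorry

/-- BR-E: the bridge. -/
theorem BRE_exists_layer (hD : GH5Data Q) (hW : sqSub Q ≠ ⊥)
    (hmin : ∀ M : Subgroup G, M.Normal → M ≤ sqSub Q → M = ⊥ ∨ M = sqSub Q) :
    ∃ L : Layer (G ⧸ Q) (↥Q ⧸ (sqSub Q).subgroupOf Q) ↥(sqSub Q), BridgeSpec Q L := sorry

/-- GA: outcome (N,N) is impossible (S3050 via `Helper8.GH5NN.elemAb_of_fpf`). -/
theorem GA_no_NN (hD : GH5Data Q) (L : Layer (G ⧸ Q) (↥Q ⧸ (sqSub Q).subgroupOf Q) ↥(sqSub Q))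
    (hB : BridgeSpec Q L) (h : L.OutNN) : False := sorry

/-- GB: outcome (O,O) is impossible (the involution argument, H/M ~ E32). -/
theorem GB_no_OO (hD : GH5Data Q) (L : Layer (G ⧸ Q) (↥Q ⧸ (sqSub Q).subgroupOf Q) ↥(sqSub Q))
    (hB : BridgeSpec Q L) (h : L.OutOO) : False := sorry

/-- GC: outcome (O,triv) gives conclusion 2 for `↥Q`. -/
theorem GC_concl (hD : GH5Data Q) (L : Layer (G ⧸ Q) (↥Q ⧸ (sqSub Q).subgroupOf Q) ↥(sqSub Q))
    (hB : BridgeSpec Q L) (h : L.OutOT) : Concl2 ↥Q := sorry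

/-- G2: the second layer. -/
theorem G2_second_layer (hD : GH5Data Q) (W2 : Subgroup G) [W2.Normal] (hW2le : W2 ≤ sqSub Q)
    (hW2ne : W2 ≠ ⊥) (hmin : ∀ M : Subgroup G, M.Normal → M ≤ W2 → M = ⊥ ∨ M = W2)
    (hcard : Nat.card (sqSub Q) = 2 * Nat.card W2)
    (hnab : ∃ a ∈ Q, ∃ b ∈ Q, a * b * a⁻¹ * b⁻¹ ∉ W2) : False := sorry

/-- TQ: quotient stability (owner). -/
theorem TQ_quotient (hD : GH5Data Q) (N : Subgroup G) [N.Normal] (hN : N ≤ sqSub Q) :
    GH5Data (Q.map (QuotientGroup.mk' N)) ∧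
      sqSub (Q.map (QuotientGroup.mk' N)) = (sqSub Q).map (QuotientGroup.mk' N) := sorry

/-- CORE (owner). -/
theorem core (hD : GH5Data Q) :
    (Cfsg.IsElementaryAbelian 2 Q ∧ Nat.card Q = 16) ∨ Concl2 ↥Q := sorry

end GroupLevel

/-- TR: transport of the conclusion along an isomorphism. -/
theorem TR_concl2 {P P' : Type*} [Group P] [Group P'] (e : P ≃* P') (h : Concl2 P) : Concl2 P' := sorry

end Cfsg.Agent.Lib.Helper2.GH5Stubs
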