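import Mathlib
import Cfsg.Agent.Lib.Helper2.GH5Core
import Cfsg.Agent.Lib.Helper1.GH5U7
import Cfsg.Agent.Lib.Helper1.GH5U7c
import Cfsg.Agent.Lib.Helper1.GH5G2d
import Cfsg.Agent.Lib.Helper9.GH5M
import Cfsg.Agent.Lib.Helper9.GH5V
import Cfsg.Agent.Lib.Helper9.GH5Cen
import Cfsg.Agent.Lib.Helper9.GH5G2f
import Cfsg.Agent.Lib.Helper4.GH5MO4
import Cfsg.Agent.Lib.Helper8.GH5OTb
import Cfsg.Agent.Lib.Helper7.GH5G2
import Cfsg.Agent.Lib.Helper7.GH5CardV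

set_option autoImplicit false
set_option linter.unusedVariables false
set_option linter.unusedSectionVars false
set_option linter.style.longLine false
set_option linter.unusedSimpArgs false
set_option linter.style.haveILetI false
set_option linter.deprecated false
set_option maxHeartbeats 1000000

/-! # GH5 = S3106: the second-layer theorem (assembly) -/

namespace Cfsg.Agent.Lib.Helper2.GH5

open Cfsg.Agent.Lib.Helper3.A8Emb (sqSub sqSub_le)
open Cfsg.Agent.Lib.Helper8.GH5Cases (SC)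

universe u

/-- an invariant homomorphism `Q → W2` (with `W2` central of exponent 2) is trivial -/
theorem no_inv_hom {Y : Type u} [Group Y] [Finite Y] (Q : Subgroup Y) [hQn : Q.Normal] (hD : GH5Data Q)
    (W2 : Subgroup Y) [W2.Normal] (hW2Q : W2 ≤ Q) (hc2 : ∀ w ∈ W2, ∀ q ∈ Q, w * q = q * w)
    (hexp2 : ∀ w ∈ W2, w * w = 1) (F : ↥Q →* ↥W2)
    (hF : ∀ (y : Y) (q : ↥Q) (h : y * q * y⁻¹ ∈ Q), F ⟨y * q * y⁻¹, h⟩ = F q) : ∀ q, F q = 1 := by
  classical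
  obtain ⟨e⟩ := hD.iso
  have hΦQ : sqSub Q ≤ Q := sqSub_le Q
  have hsq : ∀ q ∈ Q, q * q ∈ sqSub Q := fun q hq => sq_mem_sqSub Q hq
  obtain ⟨V, iV, fV, ρV, πV, hV2, hπVs, hπVm, hπVk, hρV, hcardVQ⟩ :=
    Cfsg.Agent.Lib.Helper1.GH5U7.exists_rhoV Q (sqSub Q) hΦQ hsq
  have hinjV : Function.Injective ρV :=
    Cfsg.Agent.Lib.Helper9.GH5V.rhoV_injective Q (sqSub Q) ρV πV hV2 hπVm hπVk hρV hD.faithful
  have hcardV : Nat.card V = 16 := by
    have h1 := Cfsg.Agent.Lib.Helper7.GH5BRA.cardV Y Q hD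
    rw [h1] at hcardVQ
    have hpos : 0 < Nat.card (sqSub Q) := Nat.card_pos
    exact Nat.eq_of_mul_eq_mul_right hpos hcardVQ
  obtain ⟨Wt, iW, fW, ρW, πW, hW2, hπWb, hπWm, hρW, hcardW⟩ :=
    Cfsg.Agent.Lib.Helper1.GH5U7.exists_central_module Q W2 hc2 hW2Q hexp2
  have hπV1 : πV 1 = 0 := by
    have h := hπVm 1 1
    rw [mul_one] at h
    have h2 := hV2 (πV 1)
    rw [h2] at h
    exact h
  have hπW1 : πW 1 = 0 := by
    have h := hπWm 1 1
    rw [mul_one] at h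
    have h2 := hW2 (πW 1)
    rw [h2] at h
    exact h
  -- F kills Φ
  have hFΦ : ∀ a : ↥Q, (a : Y) ∈ sqSub Q → F a = 1 := by
    have hle : sqSub Q ≤ (F.ker).map Q.subtype := by
      unfold sqSub
      rw [Subgroup.closure_le]
      rintro y ⟨b, hb, rfl⟩
      refine ⟨(⟨b, hb⟩ : ↥Q) ^ 2, ?_, by simp⟩
      rw [SetLike.mem_coe, MonoidHom.mem_ker, map_pow, pow_two]
      exact Subtype.ext (hexp2 _ (F ⟨b, hb⟩).2)
    intro a ha
    obtain ⟨a', ha', haa'⟩ := hle ha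
    have : a' = a := Subtype.ext haa'
    rw [← this]
    exact ha'
  -- the induced map
  let sF : V → Wt := fun v => πW (F (Function.surjInv hπVs v))
  have hsF : ∀ q : ↥Q, sF (πV q) = πW (F q) := by
    intro q
    have h1 : πV (Function.surjInv hπVs (πV q)) = πV q := Function.surjInv_eq hπVs _
    have h2 : πV (Function.surjInv hπVs (πV q) * q⁻¹) = 0 := by
      rw [hπVm, h1, ← hπVm, mul_inv_cancel]; exact hπV1
    have h3 := hFΦ _ ((hπVk _).mp h2)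
    rw [map_mul, map_inv, mul_inv_eq_one] at h3
    show πW (F _) = πW (F q)
    rw [h3]
  have hsF_add : ∀ u v, sF (u + v) = sF u + sF v := by
    intro u v
    obtain ⟨q, rfl⟩ := hπVs u
    obtain ⟨q', rfl⟩ := hπVs v
    rw [← hπVm, hsF, hsF, hsF, map_mul, hπWm]
  have hSC : SC ρV (1 : (Y ⧸ Q) →* AddMonoid.End Wt) sF (fun _ _ => (0 : Wt)) := by
    refine ⟨hV2, hW2, ?_, ?_, ?_, ?_, ?_, ?_⟩
    · intro _ _ _; simp
    · intro _ _ _; simp
    · intro _; rfl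
    · intro u v; rw [hsF_add]; simp
    · intro g v
      obtain ⟨y, rfl⟩ := QuotientGroup.mk_surjective g
      obtain ⟨q, rfl⟩ := hπVs v
      have hconj : y * q * y⁻¹ ∈ Q := hQn.conj_mem q q.2 y
      rw [hρV y q hconj, hsF, hsF, hF y q hconj]
      rfl
    · intro g u v
      show (0 : Wt) = (1 : AddMonoid.End Wt) 0
      simp
  have htriv : ∀ (g : Y ⧸ Q) (w : Wt), (1 : (Y ⧸ Q) →* AddMonoid.End Wt) g w = w := fun _ _ => rfl
  have hs0 : ∀ v, sF v = 0 := by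
    rcases Cfsg.Agent.Lib.Helper9.GH5M.dichotomy e hV2 ρV hcardV hinjV with hN | ⟨u0, hu0, h12⟩
    · exact (Cfsg.Agent.Lib.Helper8.GH5Cases.case_N_triv hSC (by omega) hN htriv).1
    · obtain ⟨d⟩ := Cfsg.Agent.Lib.Helper4.GH5.exists_typeO_of_stab12 e hcardV hV2 ρV hinjV u0 hu0 h12
      rcases Cfsg.Agent.Lib.Helper8.GH5OT.case_O_triv_data hSC htriv d with h0 | ⟨a, ha, _, hca, _⟩
      · exact h0.1
      · exfalso
        exact ha (hca 0 1 (by decide)).symm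
  intro q
  have h1 := hsF q
  rw [hs0, ← hπW1] at h1
  exact (hπWb.injective h1).symm

/-- the second-layer theorem -/
theorem second_layer : SecondLayerStmt.{u} := by
  intro G _ _ Q _ hD W2 _ hW2le hW2ne hmin hcard hnab
  haveI : Fact (Nat.Prime 2) := ⟨Nat.prime_two⟩
  obtain ⟨e⟩ := hD.iso
  have hΦQ : sqSub Q ≤ Q := sqSub_le Q
  have hsq : ∀ q ∈ Q, q * q ∈ sqSub Q := fun q hq => sq_mem_sqSub Q hq
  have hW2Q : W2 ≤ Q := hW2le.trans hΦQ
  obtain ⟨hc2, hexp2'⟩ :=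
    Cfsg.Agent.Lib.Helper1.GH5U7.minimal_normal_central Q W2 hD.pgroup hW2Q hW2ne hmin
  have hexp2 : ∀ w ∈ W2, w * w = 1 := fun w hw => by rw [← pow_two]; exact hexp2' w hw
  obtain ⟨Wt, iW, fW, ρW, πW, hW2m, hπWb, hπWm, hρW, hcardW⟩ :=
    Cfsg.Agent.Lib.Helper1.GH5U7.exists_central_module Q W2 hc2 hW2Q hexp2
  rcases Cfsg.Agent.Lib.Helper9.GH5V.W_dichotomy Q W2 ρW πW hD.rank e hW2m hπWb hπWm hρW hcardW
    hW2ne hmin with ⟨h2, htriv⟩ | ⟨h16, _⟩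
  · -- |W2| = 2
    have hcW : Nat.card W2 = 2 := by rw [← hcardW]; exact h2
    have hcΦ : Nat.card (sqSub Q) = 4 := by rw [hcard, hcW]
    have hW2c : ∀ w ∈ W2, ∀ y : G, w * y = y * w :=
      Cfsg.Agent.Lib.Helper9.GH5Cen.central_of_small' Q W2 e hW2Q hc2 hexp2 (by omega)
    have hΦc := Cfsg.Agent.Lib.Helper1.GH5G2d.G2d Q (sqSub Q) W2 hW2le hW2c hcard
      (no_inv_hom Q hD W2 hW2Q hc2 hexp2)
    by_cases hex : ∃ f ∈ sqSub Q, f * f ≠ 1
    · obtain ⟨f, hf, hff⟩ := hex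
      obtain ⟨a, ha, b, hb, hab⟩ := hnab
      exact hab (Cfsg.Agent.Lib.Helper7.GH5G2.G2c Q (sqSub Q) W2 hΦQ hΦc hsq hcΦ hW2le hcW f hf hff
        a ha b hb)
    · push_neg at hex
      have hcenY := Cfsg.Agent.Lib.Helper9.GH5Cen.central_of_small Q (sqSub Q) e hΦQ hΦc hex (by omega)
      have := Cfsg.Agent.Lib.Helper9.GH5G2f.card_sqSub_le_two Q e hex hcenY
        (Cfsg.Agent.Lib.Helper7.GH5BRA.cardV G Q hD) hD.faithful
      omega
  · -- |W2| = 16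
    have hcW : Nat.card W2 = 16 := by rw [← hcardW]; exact h16
    have hcΦ : Nat.card (sqSub Q) = 32 := by rw [hcard, hcW]
    exact Cfsg.Agent.Lib.Helper7.GH5G2.G2a hD.rank (sqSub Q) W2 hW2le
      (fun w hw f hf => hc2 w hw f (hΦQ hf)) hexp2 hcW hcΦ hmin

end Cfsg.Agent.Lib.Helper2.GH5
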