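import Mathlib
import Cfsg.Agent.Lib.Helper2.GH5Core

set_option autoImplicit false
set_option linter.unusedVariables false
set_option linter.unusedSectionVars false
set_option linter.style.longLine false
set_option linter.unusedSimpArgs false
set_option linter.style.haveILetI false
set_option maxHeartbeats 1000000

/-! # GH5 = S3106: reduction of the statement to the core theorem -/

namespace Cfsg.Agent.Lib.Helper2.GH5

open Cfsg.Agent.Lib.Helper3.A8Emb (sqSub sqSub_le)
open Cfsg.Agent.Lib.Helper6.GH5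
open Cfsg.Agent.Lib.Helper9.A8Emb (exists_conjQuot)

universe u

theorem s3106_of (h1 : OneLayerStmt.{u}) (h2 : SecondLayerStmt.{u}) (h3 : CardVStmt.{u})
    {X : Type u} [Group X] [Finite X]
    (hc : Cfsg.IsPConstrained 2 X) (hO : Cfsg.oddCore X = ⊥) (h4 : Cfsg.SectionalPRankLE 2 4 X)
    (hQ : ∃ A : Subgroup (X ⧸ Cfsg.pCore 2 X), Nonempty (↥A ≃* ↥(alternatingGroup (Fin 5)))) :
    (Cfsg.IsElementaryAbelian 2 (Cfsg.pCore 2 X) ∧ Nat.card ↥(Cfsg.pCore 2 X) = 16) ∨
      (Nat.card ↥(Cfsg.pCore 2 X) = 32 ∧ ∃ A B : Subgroup ↥(Cfsg.pCore 2 X),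
        Nonempty (↥A ≃* QuaternionGroup 2) ∧ Nonempty (↥B ≃* DihedralGroup 4) ∧
          (∀ a ∈ A, ∀ b ∈ B, a * b = b * a) ∧ A ⊔ B = ⊤ ∧
          A ⊓ B = Subgroup.center ↥(Cfsg.pCore 2 X)) := by
  haveI : Fact (Nat.Prime 2) := ⟨Nat.prime_two⟩
  obtain ⟨A, ⟨eA⟩⟩ := hQ
  set QX : Subgroup X := Cfsg.pCore 2 X with hQXdef
  have hQXp : IsPGroup 2 QX := Cfsg.Agent.Lib.Helper1.pCore_isPGroup 2
  have hcent := Cfsg.Agent.Lib.Helper3.A8Emb.centralizer_pCore_le hc hO
  have hmaxQ : ∀ N : Subgroup X, N.Normal → IsPGroup 2 N → N ≤ QX :=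
    fun N hN hN2 => Cfsg.Agent.Lib.Helper1.le_pCore hN hN2
  let Y : Subgroup X := A.comap (QuotientGroup.mk' QX)
  have hQY : QX ≤ Y := by
    intro x hx
    show QuotientGroup.mk' QX x ∈ A
    have : QuotientGroup.mk' QX x = 1 := (QuotientGroup.eq_one_iff x).mpr hx
    rw [this]; exact A.one_mem
  let Q : Subgroup ↥Y := QX.subgroupOf Y
  haveI hQn : Q.Normal := Subgroup.normal_subgroupOf
  -- the isomorphism
  let f : ↥Y →* ↥A := ((QuotientGroup.mk' QX).comp Y.subtype).codRestrict A (fun y => y.2)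
  have hf : Function.Surjective f := by
    rintro ⟨a, ha⟩
    obtain ⟨x, rfl⟩ := QuotientGroup.mk'_surjective QX a
    exact ⟨⟨x, ha⟩, rfl⟩
  have hker : f.ker = Q := by
    ext y
    rw [MonoidHom.mem_ker, Subgroup.mem_subgroupOf]
    constructor
    · intro h
      have h' := congrArg Subtype.val h
      exact (QuotientGroup.eq_one_iff (y : X)).mp h'
    · intro h
      apply Subtype.ext
      exact (QuotientGroup.eq_one_iff (y : X)).mpr h
  have hmapQ : Q.map Y.subtype = QX := Subgroup.map_subgroupOf_eq_of_le hQY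
  have hD : GH5Data Q := by
    refine ⟨hQXp.comap_subtype, ?_, sectional_subgroup h4 Y, ?_⟩
    · exact ⟨(QuotientGroup.quotientMulEquivOfEq hker.symm).trans
        ((QuotientGroup.quotientKerEquivOfSurjective f hf).trans eA)⟩
    · intro g hg
      obtain ⟨φ, hφ⟩ := exists_conjQuot QX (sqSub QX) (sqSub_le QX)
      have hkerle := Cfsg.Agent.Lib.Helper3.A8Emb.ker_le QX hQXp hcent hmaxQ φ hφ
      rw [Subgroup.mem_subgroupOf]
      apply hkerle
      rw [MonoidHom.mem_ker]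
      apply MulEquiv.ext
      intro v
      induction v using QuotientGroup.induction_on with
      | H a =>
        rw [hφ, MulAut.one_apply]
        apply QuotientGroup.eq.mpr
        rw [Subgroup.mem_subgroupOf]
        have h5 := hg ⟨(a : X), hQY a.2⟩ (by rw [Subgroup.mem_subgroupOf]; exact a.2)
        have h6 : ((g * ⟨(a : X), hQY a.2⟩ * g⁻¹ * (⟨(a : X), hQY a.2⟩ : ↥Y)⁻¹ : ↥Y) : X) ∈
            (sqSub Q).map Y.subtype := Subgroup.mem_map_of_mem _ h5
        rw [← sqSub_map, hmapQ] at h6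
        have h7 : ((g : X) * (a : X) * (g : X)⁻¹ * (a : X)⁻¹) ∈ sqSub QX := by
          simpa using h6
        have h8 := (sqSub_normal' QX).conj_mem _ ((sqSub QX).inv_mem h7) (a : X)⁻¹
        have h9 : (a : X)⁻¹ * ((g : X) * (a : X) * (g : X)⁻¹ * (a : X)⁻¹)⁻¹ * ((a : X)⁻¹)⁻¹ =
            ((g : X) * (a : X) * (g : X)⁻¹)⁻¹ * (a : X) := by group
        rw [h9] at h8
        simpa using h8
  have hres := core h1 h2 h3 Q hD
  exact conclusion_of_equiv QX (Subgroup.subgroupOfEquivOfLe hQY) hres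

end Cfsg.Agent.Lib.Helper2.GH5
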