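import Mathlib
import Cfsg.Agent.Lib.Helper2.GH7Glue
import Cfsg.Agent.Lib.Helper2.GH7HC
import Cfsg.Agent.Lib.Helper1.GH5U7
import Cfsg.Agent.Lib.Helper1.GH7F4w
import Cfsg.Agent.Lib.Helper1.GH7Sb3
import Cfsg.Agent.Lib.Helper2.GH7F1
import Cfsg.Agent.Lib.Helper3.GH7SaS
import Cfsg.Agent.Lib.Helper4.GH7Faith8
import Cfsg.Agent.Lib.Helper4.GH7Form16c
import Cfsg.Agent.Lib.Helper8.GH7E88c
import Cfsg.Agent.Lib.Helper9.GH7C2e
import Cfsg.Agent.Lib.Helper7.GH7Sa2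
import Cfsg.Agent.Lib.Helper8.GH7F5b

set_option autoImplicit false
set_option linter.unusedVariables false
set_option linter.unusedSectionVars false
set_option linter.style.longLine false
set_option linter.unusedSimpArgs false
set_option linter.style.haveILetI false
set_option maxHeartbeats 1000000

/-! # GH7 = S3105: glue for H1 (`no_homocyclic`), case A8 and case B2 -/

namespace Cfsg.Agent.Lib.Helper2.GH7

open Cfsg.Agent.Lib.Helper3.A8Emb (sqSub sqSub_le)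
open Cfsg.Agent.Lib.Helper2.GH5 (sqSub_map sq_mem_sqSub mem_map_mk_iff)

universe u

variable {G : Type u} [Group G] [Finite G] {Q : Subgroup G} [Q.Normal] {θ : G →* L}

/-- **H1**: `O_2 = Z4^3` is impossible -/
theorem no_homocyclic (θ : G →* L) (hsurj : Function.Surjective θ) (A W : Subgroup G) [hA : A.Normal] [hW : W.Normal]
    (hker : θ.ker = A) (hWA : W ≤ A) (hcomm : ∀ a ∈ A, ∀ b ∈ A, a * b = b * a)
    (hcardA : Nat.card A = 64) (hcardW : Nat.card W = 8)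
    (hsq : ∀ a ∈ A, a * a ∈ W) (hΩ : ∀ a ∈ A, a * a = 1 → a ∈ W) (hexpW : ∀ w ∈ W, w * w = 1)
    (hfaith : ∀ g : G, (∀ a ∈ A, g * a * g⁻¹ * a⁻¹ ∈ W) → g ∈ A) : ¬ Cfsg.SectionalPRankLE 2 4 G := by
  have h : HC θ A W := by
    refine ⟨hsurj, hA, hW, hWA, hcomm, hcardA, hcardW, hsq, hΩ, ?_, ?_⟩
    · intro g hg a ha
      have : g ∈ A := by rw [← hker]; exact hg
      exact hcomm g this a ha
    · intro g hg
      have := hfaith g hg
      rw [← hker] at this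
      exact this
  exact Cfsg.Agent.Lib.Helper8.GH7F5.homocyclic_F5 h hker
    (fun g1 g2 h1 h2 h12 hne1 hne2 hne a ha => Cfsg.Agent.Lib.Helper2.GH7.homocyclic_F1 h g1 g2 h1 h2 h12 hne1 hne2 hne a ha)
    (fun t ht => Cfsg.Agent.Lib.Helper1.GH7F4.homocyclic_F4 h hker t ht)

theorem sqSub_eq_of (N1 : Subgroup G) (hle : N1 ≤ sqSub Q) (hsq : ∀ q ∈ Q, q * q ∈ N1) : sqSub Q = N1 :=
  le_antisymm (sqSub_le_of_sq Q N1 hsq) hle

/-- **A8** -/
theorem caseA8 (hF : Frame Q θ) (N1 : Subgroup G) [N1.Normal] (hle : N1 ≤ sqSub Q) (hne : N1 ≠ ⊥)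
    (hmin : ∀ K : Subgroup G, K.Normal → K ≤ N1 → K = ⊥ ∨ K = N1) (hcard : Nat.card N1 = 8)
    (hsq : ∀ q ∈ Q, q * q ∈ N1) (hQ : Nat.card Q = 8 * Nat.card N1) : False := by
  haveI : Fact (Nat.Prime 2) := ⟨Nat.prime_two⟩
  have hN1Q : N1 ≤ Q := hle.trans (sqSub_le Q)
  have hΦ : sqSub Q = N1 := sqSub_eq_of N1 hle hsq
  obtain ⟨hcen, hexp'⟩ := Cfsg.Agent.Lib.Helper1.GH5U7.minimal_normal_central (p := 2) Q N1 hF.pgroup hN1Q hne hmin
  have hexp : ∀ w ∈ N1, w * w = 1 := fun w hw => by rw [← pow_two]; exact hexp' w hw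
  have hcardQ : Nat.card Q = 64 := by rw [hQ, hcard]
  have hcommN := comm_mem_of_sq Q N1 hsq
  have hmemker : ∀ g : G, θ g = 1 → g ∈ Q := fun g hg => by rw [← hF.ker]; exact hg
  have hkerone : ∀ g : G, g ∈ Q → θ g = 1 := fun g hg => by
    have : g ∈ θ.ker := by rw [hF.ker]; exact hg
    exact this
  have hfQ : ∀ g : G, (∀ a ∈ Q, g * a * g⁻¹ * a⁻¹ ∈ N1) → g ∈ Q := by
    intro g hg
    apply hF.faithful
    intro a ha
    rw [hΦ]; exact hg a ha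
  have hfW := Cfsg.Agent.Lib.Helper4.GH7.faithful_min_normal hF N1 hN1Q hmin hcard
  obtain ⟨hab, h | h⟩ := Cfsg.Agent.Lib.Helper8.GH7E88.e88 θ hF.surj Q N1 hN1Q hcen hsq hexp hcard hcardQ
    (fun g hg b hb => hcommN g (hmemker g hg) b hb)
    (fun g hg w hw => (hcen w hw g (hmemker g hg)).symm)
    (fun g hg => hkerone g (hfQ g hg))
    (fun g hg => hkerone g (hfW g hg))
  · -- exponent 2: Φ(Q) = 1
    apply hne
    rw [← hΦ]
    rw [eq_bot_iff]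
    apply sqSub_le_of_sq Q ⊥
    intro q hq
    rw [Subgroup.mem_bot]
    exact h q hq
  · exact no_homocyclic θ hF.surj Q N1 hF.ker hN1Q hab hcardQ hcard hsq h hexp hfQ hF.rank

/-- **B2** -/
theorem caseB2 (hF : Frame Q θ) (N1 : Subgroup G) [N1.Normal] (hle : N1 ≤ sqSub Q) (hcard : Nat.card N1 = 2)
    (hsq : ∀ q ∈ Q, q * q ∈ N1) (hQ : Nat.card Q = 16 * Nat.card N1) : Good Q := by
  have hΦ : sqSub Q = N1 := sqSub_eq_of N1 hle hsq
  have hcardQ : Nat.card Q = 32 := by rw [hQ, hcard]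
  have hΦc : Nat.card (sqSub Q) = 2 := by rw [hΦ, hcard]
  have hcommN := comm_mem_of_sq Q N1 hsq
  have hab := Cfsg.Agent.Lib.Helper4.GH7.form16 hF N1 hcard hcommN (by rw [hΦc, hcardQ])
  right
  refine ⟨hab, hcardQ, hΦc, ?_⟩
  intro c hcQ hcen
  by_contra hc
  have hx : ∃ x : G, orderOf (θ x) = 4 ∧ x ^ 8 = 1 := by
    by_cases hs : ∃ U' : Subgroup G, U'.Normal ∧ U' ≤ Q ∧ Nat.card U' = 8 ∧ ∀ x ∈ U', x * x = 1
    · exact Cfsg.Agent.Lib.Helper3.GH7SaS.exists_lift_pow8_split θ hF.surj hF.ker hab hcardQ hΦc hF.faithful c hcQ hc hcen hs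
    · exact Cfsg.Agent.Lib.Helper7.GH7Sa.exists_lift_pow8_nonsplit θ hF.surj hF.ker hab hcardQ hΦc hF.faithful c hcQ hc hcen hs
  obtain ⟨x, hx4, hx8⟩ := hx
  exact Cfsg.Agent.Lib.Helper1.GH7Sb.rank5_of_lift θ hF.surj hF.ker hab hcardQ hΦc hF.faithful c hcQ hc hcen x hx4 hx8 hF.rank

/-- S★ (combination of S★a split / nonsplit and S★b) for every finite group -/
theorem sstar (X : Type u) [Group X] [Finite X] : Cfsg.Agent.Lib.Helper9.GH7C2.SStar X := by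
  intro Q' θ' hn hsurj hker hcomm hcard hΦ hfaith c hcQ hc hcen
  haveI := hn
  have hx : ∃ x : X, orderOf (θ' x) = 4 ∧ x ^ 8 = 1 := by
    by_cases hs : ∃ U' : Subgroup X, U'.Normal ∧ U' ≤ Q' ∧ Nat.card U' = 8 ∧ ∀ x ∈ U', x * x = 1
    · exact Cfsg.Agent.Lib.Helper3.GH7SaS.exists_lift_pow8_split θ' hsurj hker hcomm hcard hΦ hfaith c hcQ hc hcen hs
    · exact Cfsg.Agent.Lib.Helper7.GH7Sa.exists_lift_pow8_nonsplit θ' hsurj hker hcomm hcard hΦ hfaith c hcQ hc hcen hs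
  obtain ⟨x, hx4, hx8⟩ := hx
  exact Cfsg.Agent.Lib.Helper1.GH7Sb.rank5_of_lift θ' hsurj hker hcomm hcard hΦ hfaith c hcQ hc hcen x hx4 hx8

end Cfsg.Agent.Lib.Helper2.GH7
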