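import Mathlib
import Cfsg.Agent.Lib.Helper2.GH7Glue
import Cfsg.Agent.Lib.Helper2.GH7AB
import Cfsg.Agent.Lib.Helper4.GH7B8Nab3
import Cfsg.Agent.Lib.Helper8.GH7B8Fh
import Cfsg.Agent.Lib.Helper6.GH5R2
import Cfsg.Agent.Lib.Helper3.GH7CE
import Cfsg.Agent.Lib.Helper3.GH7Dih
import Cfsg.Agent.Lib.Helper4.GH7B8Nd2
import Cfsg.Agent.Lib.Helper4.GH7Faith8
import Cfsg.Agent.Lib.Helper7.GH7M16
import Cfsg.Agent.Lib.Helper8.GH7B8Fd
import Cfsg.Agent.Lib.Helper8.GH7E88c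

set_option autoImplicit false
set_option linter.unusedVariables false
set_option linter.unusedSectionVars false
set_option linter.style.longLine false
set_option linter.unusedSimpArgs false
set_option linter.style.haveILetI false
set_option maxHeartbeats 1000000

/-! # GH7 = S3105: glue for case B8 (`|N1| = 8`, `Q/N1 = E16`) -/

namespace Cfsg.Agent.Lib.Helper2.GH7

open Cfsg.Agent.Lib.Helper3.A8Emb (sqSub sqSub_le)
open Cfsg.Agent.Lib.Helper2.GH5 (sqSub_map sq_mem_sqSub mem_map_mk_iff)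
open Cfsg.Agent.Lib.Helper6.GH5 (sectional_subgroup sectional_quotient6 false_of_sq_section)

universe u

variable {G : Type u} [Group G] [Finite G] {Q : Subgroup G} [Q.Normal] {θ : G →* L}

/-- an involution of `L` lifts to `k` with `k^2 ∈ Q1 = Z4^3`: index-2 subgroup with `O_2 = Z4^3` -/
theorem b8_finish_k (hF : Frame Q θ) (N1 Q1 : Subgroup G) [hN1 : N1.Normal] [hQ1n : Q1.Normal]
    (hNQ1 : N1 ≤ Q1) (hQ1Q : Q1 ≤ Q)
    (hcardQ1 : Nat.card Q1 = 64) (hcardN1 : Nat.card N1 = 8) (hcardQ : Nat.card Q = 128)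
    (hab1 : ∀ a ∈ Q1, ∀ b ∈ Q1, a * b = b * a) (hsq1 : ∀ a ∈ Q1, a * a ∈ N1)
    (hΩ : ∀ a ∈ Q1, a * a = 1 → a ∈ N1) (hexp : ∀ w ∈ N1, w * w = 1)
    (hfV1 : ∀ g : G, (∀ b ∈ Q1, g * b * g⁻¹ * b⁻¹ ∈ N1) → θ g = 1)
    (k : G) (hk1 : θ k ≠ 1) (hk2 : θ k * θ k = 1) (hkA : k * k ∈ Q1) : False := by
  obtain ⟨X0, hX0n, hidx, hinf⟩ := Cfsg.Agent.Lib.Helper3.GH7CE.exists_index_two_of_inv θ hF.surj hF.ker Q1 hQ1Q
    (by rw [hcardQ, hcardQ1]) k hk1 hk2 hkA
  haveI := hX0n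
  have hQ1X : Q1 ≤ X0 := by rw [← hinf]; exact inf_le_left
  have hmemQ : ∀ g : G, θ g = 1 ↔ g ∈ Q := fun g => by rw [← hF.ker]; rfl
  -- an element of Q outside X0
  have hex : ∃ q ∈ Q, q ∉ X0 := by
    by_contra hcon
    push Not at hcon
    have hQX : Q ≤ X0 := hcon
    have : X0 ⊓ Q = Q := inf_eq_right.mpr hQX
    rw [this] at hinf
    rw [hinf, hcardQ1] at hcardQ
    omega
  obtain ⟨q0, hq0Q, hq0X⟩ := hex
  let θ0 : ↥X0 →* L := θ.comp X0.subtype
  have hsurj0 : Function.Surjective θ0 := by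
    intro l
    obtain ⟨g, rfl⟩ := hF.surj l
    by_cases hg : g ∈ X0
    · exact ⟨⟨g, hg⟩, rfl⟩
    · have h1 : g * q0 ∈ X0 := by
        rw [Subgroup.mul_mem_iff_of_index_two hidx]
        exact ⟨fun h => (hg h).elim, fun h => (hq0X h).elim⟩
      refine ⟨⟨g * q0, h1⟩, ?_⟩
      show θ (g * q0) = θ g
      rw [map_mul, (hmemQ q0).mpr hq0Q, mul_one]
  haveI hA0n : (Q1.subgroupOf X0).Normal := Subgroup.normal_subgroupOf
  haveI hW0n : (N1.subgroupOf X0).Normal := Subgroup.normal_subgroupOf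
  have hker0 : θ0.ker = Q1.subgroupOf X0 := by
    ext x
    rw [MonoidHom.mem_ker, Subgroup.mem_subgroupOf]
    show θ (x : G) = 1 ↔ _
    rw [hmemQ]
    constructor
    · intro h
      rw [← hinf]
      exact ⟨x.2, h⟩
    · intro h
      exact hQ1Q h
  have hc1 : Nat.card (Q1.subgroupOf X0) = 64 := by
    rw [Nat.card_congr (Subgroup.subgroupOfEquivOfLe hQ1X).toEquiv, hcardQ1]
  have hc2 : Nat.card (N1.subgroupOf X0) = 8 := by
    rw [Nat.card_congr (Subgroup.subgroupOfEquivOfLe (hNQ1.trans hQ1X)).toEquiv, hcardN1]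
  have hsub : ∀ (x : ↥X0), x = 1 ↔ (x : G) = 1 := fun x => by
    constructor
    · intro h; rw [h]; rfl
    · intro h; exact Subtype.ext h
  refine no_homocyclic θ0 hsurj0 (Q1.subgroupOf X0) (N1.subgroupOf X0) hker0 ?_ ?_ hc1 hc2 ?_ ?_ ?_ ?_
    (sectional_subgroup hF.rank X0)
  · intro x hx
    rw [Subgroup.mem_subgroupOf] at hx ⊢
    exact hNQ1 hx
  · intro a ha b hb
    rw [Subgroup.mem_subgroupOf] at ha hb
    exact Subtype.ext (hab1 _ ha _ hb)
  · intro a ha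
    rw [Subgroup.mem_subgroupOf] at ha ⊢
    exact hsq1 _ ha
  · intro a ha haa
    rw [Subgroup.mem_subgroupOf] at ha ⊢
    apply hΩ _ ha
    have := (hsub (a * a)).mp haa
    exact this
  · intro w hw
    rw [Subgroup.mem_subgroupOf] at hw
    exact Subtype.ext (hexp _ hw)
  · intro g hg
    rw [← hker0, MonoidHom.mem_ker]
    show θ (g : G) = 1
    apply hfV1
    intro b hb
    have := hg ⟨b, hQ1X hb⟩ (by rw [Subgroup.mem_subgroupOf]; exact hb)
    rw [Subgroup.mem_subgroupOf] at this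
    exact this

/-- a central involution `z ∉ Q1 = Z4^3` of `G`: pass to `G/⟨z⟩` -/
theorem b8_finish_z (hF : Frame Q θ) (N1 Q1 : Subgroup G) [hN1 : N1.Normal] [hQ1n : Q1.Normal]
    (hNQ1 : N1 ≤ Q1) (hQ1Q : Q1 ≤ Q)
    (hcardQ1 : Nat.card Q1 = 64) (hcardN1 : Nat.card N1 = 8) (hcardQ : Nat.card Q = 128)
    (hsq : ∀ a ∈ Q, a * a ∈ N1)
    (hΩ : ∀ a ∈ Q1, a * a = 1 → a ∈ N1) (hexp : ∀ w ∈ N1, w * w = 1)
    (hfV1 : ∀ g : G, (∀ b ∈ Q1, g * b * g⁻¹ * b⁻¹ ∈ N1) → θ g = 1)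
    (hab : ∀ a ∈ Q, ∀ b ∈ Q, a * b = b * a)
    (z : G) (hzQ : z ∈ Q) (hzA : z ∉ Q1) (hzz : z * z = 1) (hzc : ∀ g : G, g * z = z * g) : False := by
  classical
  have hmemQ : ∀ g : G, θ g = 1 ↔ g ∈ Q := fun g => by rw [← hF.ker]; rfl
  have hz1 : z ≠ 1 := fun h => hzA (h ▸ Q1.one_mem)
  have hzmem : ∀ x ∈ Subgroup.zpowers z, x = 1 ∨ x = z := by
    intro x hx
    obtain ⟨i, rfl⟩ := Subgroup.mem_zpowers_iff.mp hx
    rcases Int.even_or_odd i with ⟨j, rfl⟩ | ⟨j, rfl⟩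
    · left
      rw [← two_mul, zpow_mul, zpow_two, hzz, one_zpow]
    · right
      rw [zpow_add, zpow_mul, zpow_two, hzz, one_zpow, one_mul, zpow_one]
  haveI hZn : (Subgroup.zpowers z).Normal := by
    constructor
    intro n hn g
    rcases hzmem n hn with h | h
    · rw [h]; simp
    · have : g * z * g⁻¹ = z := by rw [hzc g]; group
      rw [h, this]; exact Subgroup.mem_zpowers z
  set Z : Subgroup G := Subgroup.zpowers z with hZdef
  have hzZ : z ∈ Z := Subgroup.mem_zpowers z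
  have hZQ : Z ≤ Q := by
    rw [hZdef, Subgroup.zpowers_le]; exact hzQ
  have hZcard : Nat.card Z = 2 := by
    rw [hZdef, Nat.card_zpowers]
    exact orderOf_eq_prime (by rw [pow_two]; exact hzz) hz1
  have hZk : Z ≤ θ.ker := by rw [hF.ker]; exact hZQ
  let θ' : G ⧸ Z →* L := QuotientGroup.lift Z θ hZk
  have hsurj' : Function.Surjective θ' := by
    intro l
    obtain ⟨g, rfl⟩ := hF.surj l
    exact ⟨QuotientGroup.mk g, rfl⟩
  have hker' : θ'.ker = Q.map (QuotientGroup.mk' Z) := by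
    ext gb
    obtain ⟨g, rfl⟩ := QuotientGroup.mk'_surjective Z gb
    rw [MonoidHom.mem_ker]
    show θ g = 1 ↔ _
    rw [hmemQ]
    exact (mem_map_mk_iff Z Q hZQ g).symm
  haveI hAn : (Q.map (QuotientGroup.mk' Z)).Normal :=
    Subgroup.Normal.map inferInstance _ (QuotientGroup.mk'_surjective Z)
  haveI hWn : (N1.map (QuotientGroup.mk' Z)).Normal :=
    Subgroup.Normal.map inferInstance _ (QuotientGroup.mk'_surjective Z)
  have hN1Q : N1 ≤ Q := hNQ1.trans hQ1Q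
  have hcA : Nat.card (Q.map (QuotientGroup.mk' Z)) = 64 := by
    have := card_map_mk Z Q hZQ
    rw [hZcard, hcardQ] at this
    omega
  -- N1 ∩ Z = 1
  have hdisj : ∀ x ∈ N1, x ∈ Z → x = 1 := by
    intro x hx hxZ
    rcases hzmem x hxZ with h | h
    · exact h
    · exact (hzA (hNQ1 (h ▸ hx))).elim
  have hcW : Nat.card (N1.map (QuotientGroup.mk' Z)) = 8 := by
    let φ : ↥N1 →* G ⧸ Z := (QuotientGroup.mk' Z).comp N1.subtype
    have hinj : Function.Injective φ := by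
      rw [injective_iff_map_eq_one]
      intro x hx
      have : (x : G) ∈ Z := (QuotientGroup.eq_one_iff _).mp hx
      exact Subtype.ext (hdisj _ x.2 this)
    have hr : φ.range = N1.map (QuotientGroup.mk' Z) := by
      rw [MonoidHom.range_comp, Subgroup.range_subtype]
    rw [← hr, ← Nat.card_congr (MonoidHom.ofInjective hinj).toEquiv, hcardN1]
  -- membership in the image of N1
  have hmemW : ∀ x : G, (QuotientGroup.mk' Z x) ∈ N1.map (QuotientGroup.mk' Z) → x ∈ N1 ∨ z * x ∈ N1 := by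
    intro x hx
    obtain ⟨n, hn, hnx⟩ := hx
    have h1 : n⁻¹ * x ∈ Z := by
      have := QuotientGroup.eq.mp hnx
      simpa using this
    rcases hzmem _ h1 with h | h
    · left
      have : x = n := by
        have := congrArg (fun t => n * t) h
        simpa using this
      rw [this]; exact hn
    · right
      have hx' : x = n * z := by
        have := congrArg (fun t => n * t) h
        simpa using this
      rw [hx', ← mul_assoc, ← hzc n, mul_assoc, hzz, mul_one]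
      exact hn
  refine no_homocyclic θ' hsurj' (Q.map (QuotientGroup.mk' Z)) (N1.map (QuotientGroup.mk' Z)) hker'
    (Subgroup.map_mono hN1Q) ?_ hcA hcW ?_ ?_ ?_ ?_ (sectional_quotient6 hF.rank Z)
  · rintro _ ⟨a, ha, rfl⟩ _ ⟨b, hb, rfl⟩
    rw [← map_mul, ← map_mul, hab a ha b hb]
  · rintro _ ⟨a, ha, rfl⟩
    rw [← map_mul]
    exact Subgroup.mem_map_of_mem _ (hsq a ha)
  · rintro _ ⟨a, ha, rfl⟩ haa
    rw [← map_mul] at haa
    have h1 : a * a ∈ Z := (QuotientGroup.eq_one_iff _).mp haa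
    have h2 : a * a = 1 := hdisj _ (hsq a ha) h1
    by_cases haQ1 : a ∈ Q1
    · exact Subgroup.mem_map_of_mem _ (hΩ a haQ1 h2)
    · -- z * a ∈ Q1
      have hza : z * a ∈ Q1 := by
        have h3 := comm_mem_of_index_two Q Q1 hQ1Q (by rw [hcardQ, hcardQ1]) 1 a ha
        -- use index two inside Q directly
        have hc : Nat.card (Q1.subgroupOf Q) = Nat.card Q1 :=
          Nat.card_congr (Subgroup.subgroupOfEquivOfLe hQ1Q).toEquiv
        have hi : (Q1.subgroupOf Q).index = 2 := by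
          have h4 := Subgroup.card_mul_index (Q1.subgroupOf Q)
          rw [hc, hcardQ, hcardQ1] at h4
          omega
        have key := Subgroup.mul_mem_iff_of_index_two hi (a := (⟨z, hzQ⟩ : ↥Q)) (b := (⟨a, ha⟩ : ↥Q))
        have h5 : ((⟨z, hzQ⟩ : ↥Q) ∈ Q1.subgroupOf Q) ↔ ((⟨a, ha⟩ : ↥Q) ∈ Q1.subgroupOf Q) := by
          rw [Subgroup.mem_subgroupOf, Subgroup.mem_subgroupOf]
          exact ⟨fun h => (hzA h).elim, fun h => (haQ1 h).elim⟩
        have h6 := key.mpr h5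
        rw [Subgroup.mem_subgroupOf] at h6
        exact h6
      have hza2 : (z * a) * (z * a) = 1 := by
        calc (z * a) * (z * a) = z * (a * z) * a := by group
          _ = z * (z * a) * a := by rw [hzc a]
          _ = (z * z) * (a * a) := by group
          _ = 1 := by rw [hzz, h2, one_mul]
      have h7 := hΩ _ hza hza2
      have hz1' : QuotientGroup.mk' Z z = 1 := (QuotientGroup.eq_one_iff z).mpr hzZ
      have h8 : QuotientGroup.mk' Z a = QuotientGroup.mk' Z (z * a) := by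
        rw [map_mul, hz1', one_mul]
      rw [h8]
      exact Subgroup.mem_map_of_mem _ h7
  · rintro _ ⟨w, hw, rfl⟩
    rw [← map_mul, hexp w hw, map_one]
  · intro gb hgb
    obtain ⟨g, rfl⟩ := QuotientGroup.mk'_surjective Z gb
    apply Subgroup.mem_map_of_mem
    rw [← hmemQ]
    apply hfV1
    intro b hb
    have h1 := hgb (QuotientGroup.mk' Z b) (Subgroup.mem_map_of_mem _ (hQ1Q hb))
    rw [← map_inv, ← map_inv, ← map_mul, ← map_mul, ← map_mul] at h1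
    have hcQ1 : g * b * g⁻¹ * b⁻¹ ∈ Q1 := by
      have := hQ1n.conj_mem b hb g
      exact mul_mem this (inv_mem hb)
    rcases hmemW _ h1 with h | h
    · exact h
    · exfalso
      apply hzA
      have h2 : z = (z * (g * b * g⁻¹ * b⁻¹)) * (g * b * g⁻¹ * b⁻¹)⁻¹ := by group
      rw [h2]
      exact mul_mem (hNQ1 h) (inv_mem hcQ1)

/-- **B8, invariant hyperplane** -/
theorem caseB8_hyperplane (hF : Frame Q θ) (N1 : Subgroup G) [N1.Normal] (hle : N1 ≤ sqSub Q) (hne : N1 ≠ ⊥)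
    (hmin : ∀ K : Subgroup G, K.Normal → K ≤ N1 → K = ⊥ ∨ K = N1) (hcard : Nat.card N1 = 8)
    (hsq : ∀ q ∈ Q, q * q ∈ N1) (hQ : Nat.card Q = 16 * Nat.card N1)
    (Q1 : Subgroup G) [Q1.Normal] (hNQ1 : N1 ≤ Q1) (hQ1Q : Q1 ≤ Q) (hQ1 : Nat.card Q1 = 8 * Nat.card N1) :
    False := by
  haveI : Fact (Nat.Prime 2) := ⟨Nat.prime_two⟩
  have hN1Q : N1 ≤ Q := hle.trans (sqSub_le Q)
  have hΦ : sqSub Q = N1 := sqSub_eq_of N1 hle hsq
  obtain ⟨hcen, hexp'⟩ := Cfsg.Agent.Lib.Helper1.GH5U7.minimal_normal_central (p := 2) Q N1 hF.pgroup hN1Q hne hmin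
  have hexp : ∀ w ∈ N1, w * w = 1 := fun w hw => by rw [← pow_two]; exact hexp' w hw
  have hcardQ : Nat.card Q = 128 := by rw [hQ, hcard]
  have hcardQ1 : Nat.card Q1 = 64 := by rw [hQ1, hcard]
  have hidx : Nat.card Q = 2 * Nat.card Q1 := by rw [hcardQ, hcardQ1]
  have hcommN := comm_mem_of_sq Q N1 hsq
  have hmemker : ∀ g : G, θ g = 1 → g ∈ Q := fun g hg => by rw [← hF.ker]; exact hg
  have hkerone : ∀ g : G, g ∈ Q → θ g = 1 := fun g hg => by
    have : g ∈ θ.ker := by rw [hF.ker]; exact hg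
    exact this
  have hfW := Cfsg.Agent.Lib.Helper4.GH7.faithful_min_normal hF N1 hN1Q hmin hcard
  have hfV1 := faithful_hyperplane hF N1 Q1 hNQ1 hQ1Q hΦ hsq hidx
  have hsq1 : ∀ a ∈ Q1, a * a ∈ N1 := fun a ha => hsq a (hQ1Q ha)
  obtain ⟨hab1, h | hΩ⟩ := Cfsg.Agent.Lib.Helper8.GH7E88.e88 θ hF.surj Q1 N1 hNQ1 (fun w hw b hb => hcen w hw b (hQ1Q hb)) hsq1 hexp hcard
    hcardQ1
    (fun g hg b hb => hcommN g (hmemker g hg) b (hQ1Q hb))
    (fun g hg w hw => (hcen w hw g (hmemker g hg)).symm)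
    hfV1
    (fun g hg => hkerone g (hfW g hg))
  · -- Q1 elementary abelian of order 64
    refine false_of_sq_section hF.rank Q1 ⊥ bot_le ?_ ?_ ?_
    · intro x _ m hm
      rw [Subgroup.mem_bot] at hm ⊢
      rw [hm]; group
    · intro x hx
      rw [Subgroup.mem_bot]
      exact h x hx
    · rw [Subgroup.card_bot, hcardQ1]; norm_num
  · have hfA : ∀ g : G, (∀ a ∈ Q1, g * a * g⁻¹ * a⁻¹ ∈ N1) → g ∈ Q := fun g hg => hmemker g (hfV1 g hg)
    rcases Cfsg.Agent.Lib.Helper4.GH7.b8n_dichotomy hF Q1 N1 hNQ1 hQ1Q hcardQ1 hcard hcardQ hab1 hsq1 hΩ hsq hle hcen hfW hfA with hab | hinv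
    · rcases Cfsg.Agent.Lib.Helper4.GH7.b8n_abelian hF Q1 N1 hNQ1 hQ1Q hcardQ1 hcard hcardQ hsq1 hΩ hsq hle hfW hfA hab with
        ⟨k, hk1, hk2, hkA⟩ | ⟨z, hzQ, hzA, hzz, hzc⟩
      · exact b8_finish_k hF N1 Q1 hNQ1 hQ1Q hcardQ1 hcard hcardQ hab1 hsq1 hΩ hexp hfV1 k hk1 hk2 hkA
      · exact b8_finish_z hF N1 Q1 hNQ1 hQ1Q hcardQ1 hcard hcardQ hsq hΩ hexp hfV1 hab z hzQ hzA hzz hzc
    · obtain ⟨k, hk1, hk2, hkA⟩ :=
        Cfsg.Agent.Lib.Helper3.GH7Dih.b8n_dih hF Q1 N1 hNQ1 hQ1Q hcardQ1 hcard hcardQ hab1 hsq1 hΩ hsq hle hcen hfW hfA hinv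
      exact b8_finish_k hF N1 Q1 hNQ1 hQ1Q hcardQ1 hcard hcardQ hab1 hsq1 hΩ hexp hfV1 k hk1 hk2 hkA

/-- **B8** -/
theorem caseB8 (hF : Frame Q θ) (N1 : Subgroup G) [N1.Normal] (hle : N1 ≤ sqSub Q) (hne : N1 ≠ ⊥)
    (hmin : ∀ K : Subgroup G, K.Normal → K ≤ N1 → K = ⊥ ∨ K = N1) (hcard : Nat.card N1 = 8)
    (hsq : ∀ q ∈ Q, q * q ∈ N1) (hQ : Nat.card Q = 16 * Nat.card N1) : False := by
  by_cases hno : ∃ Q1 : Subgroup G, Q1.Normal ∧ N1 ≤ Q1 ∧ Q1 ≤ Q ∧ Nat.card Q1 = 8 * Nat.card N1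
  · obtain ⟨Q1, hQ1n, hNQ1, hQ1Q, hQ1⟩ := hno
    haveI := hQ1n
    exact caseB8_hyperplane hF N1 hle hne hmin hcard hsq hQ Q1 hNQ1 hQ1Q hQ1
  · rcases Cfsg.Agent.Lib.Helper7.GH7Irr.hyperplane_or_fixed hF N1 hle hsq hQ with h | ⟨Z0, hZ0n, hNZ, hZQ, hZ0⟩
    · exact hno h
    · haveI := hZ0n
      by_cases hZc : ∀ z ∈ Z0, ∀ q ∈ Q, z * q = q * z
      · exact Cfsg.Agent.Lib.Helper8.GH7B8F.caseB8_fixed_central_of
          (fun G' _ _ θ' hsurj' A W _ _ hker' hWA' hcomm' hcardA' hcardW' hsq' hΩ' hexpW' hfaith' =>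
            no_homocyclic θ' hsurj' A W hker' hWA' hcomm' hcardA' hcardW' hsq' hΩ' hexpW' hfaith')
          hF N1 hle hne hmin hcard hsq hQ Z0 hNZ hZQ hZ0 hno hZc
      · exact Cfsg.Agent.Lib.Helper8.GH7B8F.caseB8_fixed_noncentral hF N1 hle hne hmin hcard hsq hQ Z0 hNZ hZQ hZ0 hno hZc

end Cfsg.Agent.Lib.Helper2.GH7
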