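import Mathlib
import Cfsg.Agent.Lib.Helper2.GH7Glue
import Cfsg.Agent.Lib.Helper6.GH5R

set_option autoImplicit false
set_option linter.unusedVariables false
set_option linter.unusedSectionVars false
set_option linter.style.longLine false
set_option linter.unusedSimpArgs false
set_option linter.style.haveILetI false
set_option maxHeartbeats 1000000

/-! # GH7 = S3105: T2, the frame restricts to a normal subgroup of index 2 -/

namespace Cfsg.Agent.Lib.Helper2.GH7

open Cfsg.Agent.Lib.Helper3.A8Emb (sqSub sqSub_le)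
open Cfsg.Agent.Lib.Helper2.GH5 (sqSub_map sq_mem_sqSub mem_map_mk_iff)
open Cfsg.Agent.Lib.Helper6.GH5 (sectional_subgroup)

universe u

/-- Burnside for an element of odd prime order: trivial on `Q0 / sqSub Q0` implies trivial on `Q0` -/
theorem cent_of_prime_order {X : Type*} [Group X] [Finite X] (Q0 : Subgroup X) [hn : Q0.Normal]
    (hQ0 : IsPGroup 2 Q0) {x : X} {r : ℕ}
    (hr : r.Prime) (hr2 : r ≠ 2) (hx : orderOf x = r)
    (hg : ∀ a ∈ Q0, x * a * x⁻¹ * a⁻¹ ∈ sqSub Q0) : ∀ a ∈ Q0, a * x = x * a := by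
  have hxQ : ∀ a ∈ Q0, x * a * x⁻¹ ∈ Q0 := fun a ha => hn.conj_mem a ha x
  have hx1 : ∀ a ∈ Q0, ∃ d ∈ Subgroup.closure {y : X | ∃ b ∈ Q0, y = b ^ 2}, x * a * x⁻¹ = a * d := by
    intro a ha
    refine ⟨a⁻¹ * (x * a * x⁻¹), ?_, by group⟩
    change a⁻¹ * (x * a * x⁻¹) ∈ sqSub Q0
    have h1 := hg a ha
    have h2 : a⁻¹ * (x * a * x⁻¹) = a⁻¹ * (x * a * x⁻¹ * a⁻¹) * a⁻¹⁻¹ := by group
    rw [h2]
    exact (Cfsg.Agent.Lib.Helper3.A8Emb.sqSub_normal Q0).conj_mem _ h1 _
  have h2 := Cfsg.Agent.Lib.Helper9.A8Emb.exists_fixed_in_coset Q0 hQ0 hr hr2 hx hxQ hx1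
  have h3 : Q0 ⊓ Subgroup.centralizer ({x} : Set X) = Q0 := by
    apply Cfsg.Agent.Lib.Helper9.A8Emb.eq_of_mul_sq_eq Q0 _ hQ0 inf_le_left
    intro a ha
    obtain ⟨c, hc, hcx, d, hd, had⟩ := h2 a ha
    refine ⟨c, ⟨hc, ?_⟩, d, hd, had⟩
    show c ∈ Subgroup.centralizer ({x} : Set X)
    rw [Subgroup.mem_centralizer_singleton_iff]
    calc c * x = (x * c * x⁻¹) * x := by rw [hcx]
      _ = x * c := by group
  intro a ha
  have : a ∈ Q0 ⊓ Subgroup.centralizer ({x} : Set X) := by rw [h3]; exact ha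
  exact Subgroup.mem_centralizer_singleton_iff.mp this.2

theorem orderOf_y7 : orderOf y7 = 7 := by
  haveI : Fact (Nat.Prime 7) := ⟨by norm_num⟩
  exact orderOf_eq_prime y7_pow y7_ne

variable {G : Type u} [Group G] [Finite G] {Q : Subgroup G} [Q.Normal] {θ : G →* L}

/-- **T2** -/
theorem frame_index_two (hF : Frame Q θ) (X0 : Subgroup G) [X0.Normal] (hidx : X0.index = 2) :
    Frame (Q.subgroupOf X0) (θ.comp X0.subtype) := by
  haveI := Cfsg.Agent.Lib.Helper1.Dv.simple_SL32
  have hmapX0 : X0.map θ = ⊤ := by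
    rcases map_eq_bot_or_top θ hF.surj X0 with hb | ht
    · exfalso
      have h1 : (X0.map θ).index ∣ X0.index := Subgroup.index_map_dvd X0 hF.surj
      rw [hb, hidx, Subgroup.index_bot, Cfsg.Agent.Lib.Helper1.Dv.card_SL32] at h1
      have := Nat.le_of_dvd (by norm_num) h1
      omega
    · exact ht
  refine ⟨?_, ?_, ?_, ?_, ?_⟩
  · intro l
    have : l ∈ X0.map θ := by rw [hmapX0]; trivial
    obtain ⟨g, hg, rfl⟩ := this
    exact ⟨⟨g, hg⟩, rfl⟩
  · ext g
    rw [MonoidHom.mem_ker, Subgroup.mem_subgroupOf, ← hF.ker, MonoidHom.mem_ker]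
    rfl
  · exact hF.pgroup.comap_subtype
  · exact sectional_subgroup hF.rank X0
  · intro g hg
    rw [Subgroup.mem_subgroupOf]
    -- Q0 := Q ⊓ X0
    set Q0 : Subgroup G := Q ⊓ X0 with hQ0def
    haveI hQ0n : Q0.Normal := Subgroup.normal_inf_normal Q X0
    have hQ0p : IsPGroup 2 Q0 := hF.pgroup.to_le inf_le_left
    have hsq : (sqSub (Q.subgroupOf X0)).map X0.subtype = sqSub Q0 := by
      rw [← sqSub_map, Subgroup.subgroupOf_map_subtype]
    have hgK : (g : G) ∈ centMod Q0 (sqSub Q0) := by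
      rw [mem_centMod]
      intro a ha
      have h1 := hg ⟨a, ha.2⟩ (by rw [Subgroup.mem_subgroupOf]; exact ha.1)
      have h2 := Subgroup.mem_map_of_mem X0.subtype h1
      rw [hsq] at h2
      simpa using h2
    rcases map_eq_bot_or_top θ hF.surj (centMod Q0 (sqSub Q0)) with hb | ht
    · have : θ (g : G) ∈ (centMod Q0 (sqSub Q0)).map θ := Subgroup.mem_map_of_mem _ hgK
      rw [hb, Subgroup.mem_bot] at this
      rw [← hF.ker, MonoidHom.mem_ker]
      exact this
    · exfalso
      have : y7 ∈ (centMod Q0 (sqSub Q0)).map θ := by rw [ht]; trivial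
      obtain ⟨k, hk, hky⟩ := this
      have h7 : 7 ∣ orderOf k := by
        have := orderOf_map_dvd θ k
        rw [hky, orderOf_y7] at this
        exact this
      have hk0 : orderOf k ≠ 0 := (orderOf_pos k).ne'
      set x : G := k ^ (orderOf k / 7) with hxdef
      have hxo : orderOf x = 7 := orderOf_pow_orderOf_div hk0 h7
      have hxK : x ∈ centMod Q0 (sqSub Q0) := Subgroup.pow_mem _ hk _
      have hcent0 : ∀ a ∈ Q0, a * x = x * a :=
        cent_of_prime_order Q0 hQ0p (by norm_num : Nat.Prime 7) (by norm_num) hxo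
          ((mem_centMod Q0 (sqSub Q0) x).mp hxK)
      have hx7 : x ^ 7 = 1 := by rw [← hxo]; exact pow_orderOf_eq_one x
      -- x centralises Q
      have hcent : ∀ a ∈ Q, x * a * x⁻¹ * a⁻¹ = 1 := by
        intro a ha
        set c : G := x * a * x⁻¹ * a⁻¹ with hcdef
        have hcQ : c ∈ Q := by
          have h1 : x * a * x⁻¹ ∈ Q := Subgroup.Normal.conj_mem inferInstance a ha x
          exact mul_mem h1 (inv_mem ha)
        have hcX0 : c ∈ X0 := by
          have hcard : Nat.card (⊤ : Subgroup G) = 2 * Nat.card X0 := by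
            have := Subgroup.card_mul_index X0
            rw [hidx] at this
            rw [Subgroup.card_top]
            omega
          exact comm_mem_of_index_two (⊤ : Subgroup G) X0 le_top hcard x a (Subgroup.mem_top a)
        have hcQ0 : c ∈ Q0 := ⟨hcQ, hcX0⟩
        have hcomm : Commute c⁻¹ x := by
          have := hcent0 c hcQ0
          show c⁻¹ * x = x * c⁻¹
          calc c⁻¹ * x = c⁻¹ * (x * c) * c⁻¹ := by group
            _ = c⁻¹ * (c * x) * c⁻¹ := by rw [this]
            _ = x * c⁻¹ := by group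
        have h1 : c⁻¹ * x = a * x * a⁻¹ := by rw [hcdef]; group
        have h2 : (c⁻¹ * x) ^ 7 = (c⁻¹) ^ 7 := by rw [hcomm.mul_pow, hx7, mul_one]
        have h3 : (a * x * a⁻¹) ^ 7 = 1 := by rw [conj_pow, hx7]; group
        rw [h1, h3] at h2
        have hc7 : c ^ 7 = 1 := by
          have : (c ^ 7)⁻¹ = 1 := by rw [← inv_pow]; exact h2.symm
          exact inv_eq_one.mp this
        obtain ⟨j, hj⟩ := hF.pgroup ⟨c, hcQ⟩
        have hj' : c ^ 2 ^ j = 1 := by
          have := congrArg Subtype.val hj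
          simpa using this
        have hd1 : orderOf c ∣ 7 := orderOf_dvd_of_pow_eq_one hc7
        have hd2 : orderOf c ∣ 2 ^ j := orderOf_dvd_of_pow_eq_one hj'
        have hcop : Nat.Coprime 7 (2 ^ j) := Nat.Coprime.pow_right j (by norm_num)
        have : orderOf c = 1 := Nat.eq_one_of_dvd_coprimes hcop hd1 hd2
        exact orderOf_eq_one_iff.mp this
      have hxQ : x ∈ Q := by
        apply hF.faithful
        intro a ha
        rw [hcent a ha]
        exact one_mem _
      obtain ⟨j, hj⟩ := hF.pgroup ⟨x, hxQ⟩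
      have hj' : x ^ 2 ^ j = 1 := by
        have := congrArg Subtype.val hj
        simpa using this
      have hd : 7 ∣ 2 ^ j := by rw [← hxo]; exact orderOf_dvd_of_pow_eq_one hj'
      have := (Nat.Prime.dvd_of_dvd_pow (by norm_num : Nat.Prime 7) hd)
      omega

end Cfsg.Agent.Lib.Helper2.GH7
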