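import Mathlib
import Cfsg.Agent.Lib.Helper2.GH7Glue
import Cfsg.Agent.Lib.Helper2.GH7T2
import Cfsg.Agent.Lib.Helper9.GH7Schur
import Cfsg.Agent.Lib.Helper7.GH7Sa3

set_option autoImplicit false
set_option linter.unusedVariables false
set_option linter.unusedSectionVars false
set_option linter.style.longLine false
set_option linter.unusedSimpArgs false
set_option linter.style.haveILetI false
set_option maxHeartbeats 1000000

/-! # GH7 = S3105: glue for case C8 (`|N1| = 8`, `Q/N1 = Z4 × E8`) -/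

namespace Cfsg.Agent.Lib.Helper2.GH7

open Cfsg.Agent.Lib.Helper3.A8Emb (sqSub sqSub_le)
open Cfsg.Agent.Lib.Helper2.GH5 (sqSub_map sq_mem_sqSub mem_map_mk_iff)
open Cfsg.Agent.Lib.Helper6.GH5 (sectional_subgroup)

universe u

variable {G : Type u} [Group G] [Finite G] {Q : Subgroup G} [Q.Normal] {θ : G →* L}

/-- a normal subgroup of index 2 gives a contradiction as soon as `|Q| > 64` (induction hypothesis) -/
theorem false_of_index_two (hF : Frame Q θ)
    (IH : ∀ (G' : Type u) [Group G'] [Finite G'] (Q' : Subgroup G') [Q'.Normal] (θ' : G' →* L),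
      Nat.card G' < Nat.card G → Frame Q' θ' → Good Q')
    (X0 : Subgroup G) [X0.Normal] (hidx : X0.index = 2) (hQ : 64 < Nat.card Q) : False := by
  have hF0 := Cfsg.Agent.Lib.Helper2.GH7.frame_index_two hF X0 hidx
  have hlt : Nat.card X0 < Nat.card G := by
    have h1 := Subgroup.card_mul_index X0
    rw [hidx] at h1
    have : 0 < Nat.card X0 := Nat.card_pos
    omega
  have hgood := IH ↥X0 (Q.subgroupOf X0) (θ.comp X0.subtype) hlt hF0
  have hle32 : Nat.card (Q.subgroupOf X0) ≤ 32 := by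
    rcases hgood with ⟨_, h | h⟩ | ⟨_, h, _⟩ <;> omega
  -- |Q : Q ⊓ X0| ≤ 2
  have h1 : (X0.subgroupOf Q).index ∣ 2 := by
    have := Subgroup.relIndex_dvd_index_of_normal X0 Q
    rw [hidx] at this
    exact this
  have h2 := Subgroup.card_mul_index (X0.subgroupOf Q)
  have h3 : Nat.card (X0.subgroupOf Q) = Nat.card (Q.subgroupOf X0) := by
    have e1 : Nat.card (X0.subgroupOf Q) = Nat.card ↥(X0 ⊓ Q) := by
      rw [← Subgroup.inf_subgroupOf_right X0 Q]
      exact Nat.card_congr (Subgroup.subgroupOfEquivOfLe (inf_le_right : X0 ⊓ Q ≤ Q)).toEquiv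
    have e2 : Nat.card (Q.subgroupOf X0) = Nat.card ↥(X0 ⊓ Q) := by
      rw [← Subgroup.inf_subgroupOf_left Q X0]
      exact Nat.card_congr (Subgroup.subgroupOfEquivOfLe (inf_le_left : X0 ⊓ Q ≤ X0)).toEquiv
    rw [e1, e2]
  have h4 : (X0.subgroupOf Q).index ≤ 2 := Nat.le_of_dvd (by norm_num) h1
  rw [h3] at h2
  nlinarith

/-- **C8** -/
theorem caseC8 (hF : Frame Q θ)
    (IH : ∀ (G' : Type u) [Group G'] [Finite G'] (Q' : Subgroup G') [Q'.Normal] (θ' : G' →* L),
      Nat.card G' < Nat.card G → Frame Q' θ' → Good Q')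
    (N1 : Subgroup G) [N1.Normal] (hle : N1 ≤ sqSub Q) (hcard : Nat.card N1 = 8)
    (θ' : G ⧸ N1 →* L) (hF' : Frame (Q.map (QuotientGroup.mk' N1)) θ')
    (hcomm' : ∀ a ∈ Q.map (QuotientGroup.mk' N1), ∀ b ∈ Q.map (QuotientGroup.mk' N1), a * b = b * a)
    (hc32 : Nat.card (Q.map (QuotientGroup.mk' N1)) = 32)
    (hΦ2 : Nat.card (sqSub (Q.map (QuotientGroup.mk' N1))) = 2)
    (hS' : ∀ c ∈ Q.map (QuotientGroup.mk' N1), (∀ g : G ⧸ N1, g * c = c * g) → c * c = 1) : False := by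
  have hN1Q : N1 ≤ Q := hle.trans (sqSub_le Q)
  have hQcard : Nat.card Q = 256 := by
    have := card_map_mk N1 Q hN1Q
    rw [hc32, hcard] at this
    omega
  obtain ⟨R, hRn, hRQ, hRcard, hRexp, hRΦ⟩ :=
    Cfsg.Agent.Lib.Helper7.GH7Sa.omega_split θ' hF'.surj hF'.ker hcomm' hc32 hΦ2 hF'.faithful hS'
  haveI := hRn
  -- E := (G ⧸ N1) ⧸ R
  have hRk : R ≤ θ'.ker := by rw [hF'.ker]; exact hRQ
  let θ2 : (G ⧸ N1) ⧸ R →* L := QuotientGroup.lift R θ' hRk
  have hsurj2 : Function.Surjective θ2 := by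
    intro l
    obtain ⟨g, rfl⟩ := hF'.surj l
    exact ⟨QuotientGroup.mk g, rfl⟩
  have hker2 : θ2.ker = (Q.map (QuotientGroup.mk' N1)).map (QuotientGroup.mk' R) := by
    ext gb
    obtain ⟨g, rfl⟩ := QuotientGroup.mk'_surjective R gb
    rw [MonoidHom.mem_ker]
    show θ' g = 1 ↔ _
    rw [← MonoidHom.mem_ker, hF'.ker]
    exact (mem_map_mk_iff R _ hRQ g).symm
  have hcard2 : Nat.card θ2.ker = 4 := by
    rw [hker2]
    have := card_map_mk R (Q.map (QuotientGroup.mk' N1)) hRQ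
    rw [hc32, hRcard] at this
    omega
  have hcen2 := ker_central_of_card_four θ2 hsurj2 hcard2
  obtain ⟨E0, hE0n, hE0idx⟩ := Cfsg.Agent.Lib.Helper9.GH7Schur.exists_index_two_of_Z4 θ2 hsurj2 hcen2 hcard2
  haveI := hE0n
  -- pull back to G
  let π : G →* (G ⧸ N1) ⧸ R := (QuotientGroup.mk' R).comp (QuotientGroup.mk' N1)
  have hπ : Function.Surjective π :=
    (QuotientGroup.mk'_surjective R).comp (QuotientGroup.mk'_surjective N1)
  let X0 : Subgroup G := E0.comap π
  haveI : X0.Normal := hE0n.comap π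
  have hidx : X0.index = 2 := by
    rw [Subgroup.index_comap_of_surjective E0 hπ, hE0idx]
  exact false_of_index_two hF IH X0 hidx (by rw [hQcard]; norm_num)

end Cfsg.Agent.Lib.Helper2.GH7
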