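import Mathlib
import Cfsg.Agent.Lib.Helper2.GH7Top
import Cfsg.Agent.Lib.Helper2.GH7AB
import Cfsg.Agent.Lib.Helper2.GH7B8
import Cfsg.Agent.Lib.Helper2.GH7C8
import Cfsg.Agent.Lib.Helper4.GH7A2
import Cfsg.Agent.Lib.Helper4.GH7Base
import Cfsg.Agent.Lib.Helper7.GH7Irr2

set_option autoImplicit false
set_option linter.unusedVariables false
set_option linter.unusedSectionVars false
set_option linter.style.longLine false
set_option linter.unusedSimpArgs false
set_option maxHeartbeats 1000000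

/-! # GH7 = S3105: the induction -/

namespace Cfsg.Agent.Lib.Helper2.GH7

open Cfsg.Agent.Lib.Helper3.A8Emb (sqSub sqSub_le)
open Cfsg.Agent.Lib.Helper2.GH5 (sqSub_map sq_mem_sqSub mem_map_mk_iff)

universe u

theorem good_of_frame : ∀ (n : ℕ) (G : Type u) [Group G] [Finite G] (Q : Subgroup G) [Q.Normal] (θ : G →* L),
    Nat.card G = n → Frame Q θ → Good Q := by
  intro n
  induction n using Nat.strong_induction_on with
  | _ n ih =>
  intro G _ _ Q _ θ hn hF
  have IH : ∀ (G' : Type u) [Group G'] [Finite G'] (Q' : Subgroup G') [Q'.Normal] (θ' : G' →* L),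
      Nat.card G' < Nat.card G → Frame Q' θ' → Good Q' := by
    intro G' _ _ Q' _ θ' hlt hF'
    exact ih (Nat.card G') (hn ▸ hlt) G' Q' θ' rfl hF'
  by_cases hΦ : sqSub Q = ⊥
  · left
    refine ⟨?_, Cfsg.Agent.Lib.Helper4.GH7.base_case hF hΦ⟩
    intro q hq
    have h1 := sq_mem_sqSub Q hq
    rw [hΦ, Subgroup.mem_bot] at h1
    exact h1
  · obtain ⟨N1, hN1n, hle, hne, hmin⟩ := exists_min_normal_le (sqSub Q) hΦ
    haveI := hN1n
    have hN1Q : N1 ≤ Q := hle.trans (sqSub_le Q)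
    have hcardN1 := Cfsg.Agent.Lib.Helper7.GH7Irr.card_min_normal hF N1 hN1Q hne hmin
    obtain ⟨θ', hθ', hF'⟩ := frame_quotient hF N1 hle
    have hN1card : 2 ≤ Nat.card N1 := by rcases hcardN1 with h | h <;> omega
    have hlt : Nat.card (G ⧸ N1) < Nat.card G := by
      have h1 : Nat.card G = Nat.card (G ⧸ N1) * Nat.card N1 :=
        Subgroup.card_eq_card_quotient_mul_card_subgroup N1
      have h2 : 0 < Nat.card (G ⧸ N1) := Nat.card_pos
      nlinarith
    have hgood := IH (G ⧸ N1) (Q.map (QuotientGroup.mk' N1)) θ' hlt hF'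
    have hQc := card_map_mk N1 Q hN1Q
    have hmem : ∀ x : G, (QuotientGroup.mk' N1 x = 1) → x ∈ N1 := fun x hx =>
      (QuotientGroup.eq_one_iff x).mp hx
    rcases hgood with ⟨hel, hc⟩ | ⟨hcomm', hc32, hΦ2, hS'⟩
    · have hsq : ∀ q ∈ Q, q * q ∈ N1 := by
        intro q hq
        apply hmem
        rw [map_mul]
        exact hel _ (Subgroup.mem_map_of_mem _ hq)
      rcases hc with hc | hc
      · have hQ : Nat.card Q = 8 * Nat.card N1 := by rw [← hQc, hc]
        rcases hcardN1 with h2 | h8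
        · exact (Cfsg.Agent.Lib.Helper4.GH7.caseA2 hF N1 hle h2 hsq hQ).elim
        · exact (caseA8 hF N1 hle hne hmin h8 hsq hQ).elim
      · have hQ : Nat.card Q = 16 * Nat.card N1 := by rw [← hQc, hc]
        rcases hcardN1 with h2 | h8
        · exact caseB2 hF N1 hle h2 hsq hQ
        · exact (caseB8 hF N1 hle hne hmin h8 hsq hQ).elim
    · have hcomm : ∀ a ∈ Q, ∀ b ∈ Q, a * b * a⁻¹ * b⁻¹ ∈ N1 := by
        intro a ha b hb
        apply hmem
        have h1 := hcomm' _ (Subgroup.mem_map_of_mem _ ha) _ (Subgroup.mem_map_of_mem _ hb)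
        rw [map_mul, map_mul, map_mul, map_inv, map_inv, h1]
        group
      have hQ : Nat.card Q = 32 * Nat.card N1 := by rw [← hQc, hc32]
      have hΦc : Nat.card (sqSub Q) = 2 * Nat.card N1 := by
        rw [← card_map_mk N1 (sqSub Q) hle, ← sqSub_map, hΦ2]
      rcases hcardN1 with h2 | h8
      · exact (Cfsg.Agent.Lib.Helper9.GH7C2.caseC2_of hF N1 hle h2 hcomm hQ hΦc
          (Cfsg.Agent.Lib.Helper4.GH7.form16 hF N1 h2 hcomm (by rw [hΦc, hQ]; ring))
          (fun X0 => sstar ↥X0)).elim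
      · exact (caseC8 hF IH N1 hle h8 θ' hF' hcomm' hc32 hΦ2 hS').elim

end Cfsg.Agent.Lib.Helper2.GH7
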