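import Mathlib
import Cfsg.Agent.Lib.Helper2.GH7Defs

set_option autoImplicit false
set_option linter.unusedVariables false
set_option linter.unusedSectionVars false
set_option linter.style.longLine false

/-! # GH7 = S3105: STUBS (never import this file). Exact statements of the leaves.

Conventions: `G` finite, `Q` normal, `θ : G →* L` (`L = SL(3, ZMod 2)`), `sqSub Q` = subgroup generated by squares.
Tools on main: `Helper1.GH5U7.exists_layer / exists_rhoV / exists_central_module / minimal_normal_central`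
(modules `V = Q/W`, `Wt = W` over `G ⧸ Q` with squaring `s` and commutator `c`), `Helper6.GH5.false_of_sq_section`
(`M ≤ H`, `H` normalises `M`, squares of `H` in `M`, `32 * |M| ≤ |H|` contradicts rank ≤ 4),
`Helper6.GH5.sectional_quotient6 / sectional_subgroup`, `Helper1.Dv5.card_SL32 / simple_SL32`. -/

namespace Cfsg.Agent.Lib.Helper2.GH7.Stubs

open Cfsg.Agent.Lib.Helper3.A8Emb (sqSub)
open Cfsg.Agent.Lib.Helper2.GH7

universe u

variable {G : Type u} [Group G] [Finite G] {Q : Subgroup G} [Q.Normal] {θ : G →* L}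

/-! ## module level -/

/-- **NAT**: a faithful module of order 8 is the natural module twisted by an automorphism of `L`
(`ρ` injective, `|Aut(U)| = |GL3(2)| = 168 = |L|`, so `ρ` is onto `Aut U ≅ GL3(2) = SL3(2)`). -/
theorem nat_coords {U : Type u} [AddCommGroup U] [Finite U] (ρ : L →* AddMonoid.End U)
    (h2 : ∀ x : U, x + x = 0) (hcard : Nat.card U = 8) (hinj : Function.Injective ρ) :
    ∃ (α : L ≃* L) (e : U ≃+ (Fin 3 → ZMod 2)), ∀ (g : L) (x : U),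
      e (ρ g x) = Matrix.mulVec (α g : Matrix (Fin 3) (Fin 3) (ZMod 2)) (e x) := by
  sorry

/-! ## frame plumbing -/

/-- **T2**: the frame passes to a normal subgroup of index 2. (`θ X0` is normal of index ≤ 2 in the simple group `L`,
so `θ` restricted is onto; faithful: `K := {g ∈ X0 | [g, Q0] ≤ Φ(Q0)}` (`Q0 := Q ⊓ X0`) is normal in `G`; if
`θ K = L` then elements of odd order of `K` centralise `Q0` (Burnside, cf. `Helper3.A8Emb.ker_le`) and `Q/Q0`, hence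
`Q`, hence lie in `Q` (frame faithful), so `K` is a 2-group: contradiction; so `θ K = 1`, `K ≤ Q`.) -/
theorem frame_index_two (hF : Frame Q θ) (X0 : Subgroup G) [X0.Normal] (hidx : X0.index = 2) :
    Frame (Q.subgroupOf X0) (θ.comp X0.subtype) := by
  sorry

/-- **BASE**: `Φ(Q) = 1`. `Q` is elementary abelian, a faithful `L`-module, order ≤ 16 by rank (`Q` itself is a section),
order ≥ 8 since `|Aut Q| ≥ 168`. -/
theorem base_case (hF : Frame Q θ) (hΦ : sqSub Q = ⊥) : Nat.card Q = 8 ∨ Nat.card Q = 16 := by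
  sorry

/-- **IRR**: a minimal normal subgroup `M ≤ Q` of `G` has order 2 or 8. (`M ≤ Z(Q)`, exponent 2 by
`minimal_normal_central`; `|M| ≤ 16` by rank; `M` is an irreducible `F2 L`-module. Order 4: `L` acts trivially
(`|Aut| = 6`), so every subgroup of `M` is normal: contradiction. Order 16: `y` of order 7 fixes exactly one nonzero `v0`
(`|C_M(y)| ≡ 16 mod 7`), the other 14 nonzero vectors form two `⟨y⟩`-orbits `Y1, Y2`; the `L`-orbit of `v0` has size 1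
(reducible), 15 (168/15 no) or 8; so `O7 := Y2` is an `L`-orbit; counting ordered pairs `(v, v')` in `O7`, `v ≠ v'`, by
their sum: `7 a + 8 b = 42` forces `b = 0`, so `O7 ∪ {0}` is an invariant subgroup of order 8: contradiction.) -/
theorem card_min_normal (hF : Frame Q θ) (M : Subgroup G) [M.Normal] (hMQ : M ≤ Q) (hne : M ≠ ⊥)
    (hmin : ∀ K : Subgroup G, K.Normal → K ≤ M → K = ⊥ ∨ K = M) : Nat.card M = 2 ∨ Nat.card M = 8 := by
  sorry

/-- **FAITH8**: `L` is faithful on a minimal normal subgroup of order 8. (`C_G(M) ⊇ Q` is normal; `θ (C_G(M))` is `1` or `L`;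
`L`: `M` central in `G`, every subgroup normal, contradiction.) -/
theorem faithful_min_normal (hF : Frame Q θ) (M : Subgroup G) [M.Normal] (hMQ : M ≤ Q)
    (hmin : ∀ K : Subgroup G, K.Normal → K ≤ M → K = ⊥ ∨ K = M) (hcard : Nat.card M = 8) :
    ∀ g : G, (∀ m ∈ M, g * m = m * g) → g ∈ Q := by
  sorry

/-- **M16**: if `Q/N1` is elementary abelian of order 16 then `G` has a normal subgroup `Q1` with `|Q1/N1| = 8`
(invariant hyperplane) or `Z0` with `|Z0/N1| = 2` (fixed vector). (IRR in `G/N1` (frame by `frame_quotient`) for a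
minimal normal subgroup of `G/N1` inside `Q/N1`.) -/
theorem hyperplane_or_fixed (hF : Frame Q θ) (N1 : Subgroup G) [N1.Normal] (hle : N1 ≤ sqSub Q)
    (hsq : ∀ q ∈ Q, q * q ∈ N1) (hQ : Nat.card Q = 16 * Nat.card N1) :
    (∃ Q1 : Subgroup G, Q1.Normal ∧ N1 ≤ Q1 ∧ Q1 ≤ Q ∧ Nat.card Q1 = 8 * Nat.card N1) ∨
    (∃ Z0 : Subgroup G, Z0.Normal ∧ N1 ≤ Z0 ∧ Z0 ≤ Q ∧ Nat.card Z0 = 2 * Nat.card N1) := by
  sorry

/-! ## standalone theorems -/

/-- **E88**: `B/W` and `W` both faithful of order 8, `W` central in `B`: then `B` is abelian and either of exponent 2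
or `Ω₁(B) = W` (so squaring `B/W → W` is bijective, `B = Z4^3`).
(`c(u,v)` for independent `u,v` depends only on the plane `H = ⟨u,v⟩` and is fixed by `Stab(H)` (order 24);
`s(v)` is fixed by `Stab(v)` (order 24). In a faithful module of order 8 the stabilisers of nonzero vectors form ONE
conjugacy class `C_W` of 7 subgroups of order 24, and a subgroup of order 24 outside `C_W` fixes only 0.
`{Stab(v)}` and `{Stab(H)}` (for `V = B/W`) are two different classes, each equal to or disjoint from `C_W`.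
If `{Stab(H)} ∩ C_W = ∅`: `c = 0`. Otherwise `{Stab(v)} ∩ C_W = ∅`: `s = 0`, so `c = 0` and exponent 2.
With `c = 0`, `s : V → W` is additive equivariant, `ker s` invariant, `V` irreducible: `s = 0` or injective.) -/
theorem e88 (θ : G →* L) (hsurj : Function.Surjective θ) (B W : Subgroup G) [B.Normal] [W.Normal] (hWB : W ≤ B)
    (hcen : ∀ w ∈ W, ∀ b ∈ B, w * b = b * w) (hsq : ∀ b ∈ B, b * b ∈ W) (hexp : ∀ w ∈ W, w * w = 1)
    (hcardW : Nat.card W = 8) (hcardB : Nat.card B = 64)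
    (hkV : ∀ g : G, θ g = 1 → ∀ b ∈ B, g * b * g⁻¹ * b⁻¹ ∈ W)
    (hkW : ∀ g : G, θ g = 1 → ∀ w ∈ W, g * w = w * g)
    (hfV : ∀ g : G, (∀ b ∈ B, g * b * g⁻¹ * b⁻¹ ∈ W) → θ g = 1)
    (hfW : ∀ g : G, (∀ w ∈ W, g * w = w * g) → θ g = 1) :
    (∀ a ∈ B, ∀ b ∈ B, a * b = b * a) ∧ ((∀ b ∈ B, b * b = 1) ∨ (∀ b ∈ B, b * b = 1 → b ∈ W)) := by
  sorry

/-- **H1**: `O_2 = A = Z4^3` is impossible. Additive notation on `A`; `V = A/W`, `s : V → W` (squaring) is an equivariant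
bijection. `t` a transvection of `V` (involution of `L`), centre `h_t = [V,t]`, axis `H_t = C_V(t)`.
(F1) for both kinds of four-groups `E` of `L` (`R_H` = transvections with axis `H`; `R'_v` = transvections with centre `v`)
the norm `N_E = Σ_{g ∈ E} g` is 0 on `A`. [`N_E = 0` on `V` and on `W`, so it induces an additive `N_L(E)`-equivariant map
`V → W` with image in `C_W(E)` killing `[V,E]`: `R_H`: `V/H → s(H)`, `Stab(H)` transitive on `s(H)#`: 0;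
`R'_v`: `V/⟨v⟩ → ⟨s v⟩`, an invariant functional on the irreducible 2-dim `V/⟨v⟩`: 0.]
(F2) `C_A(t)` maps into `⟨h_t⟩ ≤ V`. [`a ∈ C_A(t)`, `t''` another transvection with centre `h_t`, axis `H''`:
`0 = (1+t'')(1+t)a = (1+t'') 2a = s((1+t'') ā)`, so `ā ∈ H_t ∩ H'' = ⟨h_t⟩`.]
(F3) `u` of order 4 in `L`, `t = u^2`: `u` is trivial on `(1+t)A` and `C_A(u) = (1+t)A`. [`D8 = ⟨u, t1⟩`; the two four-groups of `D8`
contain `t`; by F1 `σ := u t1` and `t1` both act as `-1` on `(1+t)A`; `|C_A(u)| ≤ 4` by F2 and `C_W(u) = ⟨s h⟩`;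
`(1+t)A` contains an element of order 4.]
(F4) `x` over `u`, `k = x^2`: `k^2 = x^4 ∈ C_A(u) = (1+t)A`, `k^2 = (1+t) a0`, then `(a k)^2 = (1+t) a + k^2`: `k' := (-a0) k` is
an involution over `t`. All involutions of `L` are conjugate: every involution of `L` lifts to an involution of `G`.
(F5) `h ∈ V#`, `E_h = R'_h = {1,t1,t2,t3}` (axes `H_i ∋ h`), `B_h` = preimage of `⟨h⟩` in `A` (order 16), `M = ⟨s h⟩`,
`k_i` involutions over `t_i`; `k1 k2 = a12 k3`; choose `a_i ∈ B_{H_i}` (preimage of `H_i`) with `ā1 + ā2 = ā12` mod `h`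
(`H_1 + H_2 = V`); `κ_i := a_i k_i`; `(a k_i)^2 = (1+t_i) a ∈ M` for `a ∈ B_{H_i}` (by F1 for `R'_h`); `S := ⟨B_h, κ1, κ2⟩`,
`|S| = 64`, squares of `S` in `M`, `M` normal in `S`: `false_of_sq_section`.) -/
theorem no_homocyclic (θ : G →* L) (hsurj : Function.Surjective θ) (A W : Subgroup G) [A.Normal] [W.Normal]
    (hker : θ.ker = A) (hWA : W ≤ A) (hcomm : ∀ a ∈ A, ∀ b ∈ A, a * b = b * a)
    (hcardA : Nat.card A = 64) (hcardW : Nat.card W = 8)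
    (hsq : ∀ a ∈ A, a * a ∈ W) (hΩ : ∀ a ∈ A, a * a = 1 → a ∈ W) (hexpW : ∀ w ∈ W, w * w = 1)
    (hfaith : ∀ g : G, (∀ a ∈ A, g * a * g⁻¹ * a⁻¹ ∈ W) → g ∈ A) : ¬ Cfsg.SectionalPRankLE 2 4 G := by
  sorry

/-- **F3** (part of H1, also used by `b8n_abelian`; general kernel): `A = Z4^3` normal abelian, `ker θ` centralises `A`, `L` faithful on
`A/W`: for `x` over an element `u` of order 4 and `t := u^2`, `u` fixes `(1+t)A` pointwise. (See `no_homocyclic` (F1), (F3).) -/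
theorem homocyclic_F3 (θ : G →* L) (hsurj : Function.Surjective θ) (A W : Subgroup G) [A.Normal] [W.Normal]
    (hWA : W ≤ A) (hcomm : ∀ a ∈ A, ∀ b ∈ A, a * b = b * a)
    (hcardA : Nat.card A = 64) (hcardW : Nat.card W = 8)
    (hsq : ∀ a ∈ A, a * a ∈ W) (hΩ : ∀ a ∈ A, a * a = 1 → a ∈ W)
    (hk : ∀ g : G, θ g = 1 → ∀ a ∈ A, g * a = a * g)
    (hf : ∀ g : G, (∀ a ∈ A, g * a * g⁻¹ * a⁻¹ ∈ W) → θ g = 1)
    (x : G) (hx : orderOf (θ x) = 4) (a : G) (ha : a ∈ A) :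
    x * (a * (x ^ 2 * a * (x ^ 2)⁻¹)) * x⁻¹ = a * (x ^ 2 * a * (x ^ 2)⁻¹) := by
  sorry

/-- **ISO-Q**: an abelian group of order 32 whose squares generate a subgroup of order 2 is `Z4 × E8`. -/
theorem z4e8_iso (Q : Subgroup G) (hcomm : ∀ a ∈ Q, ∀ b ∈ Q, a * b = b * a) (hcard : Nat.card Q = 32)
    (hΦ : Nat.card (sqSub Q) = 2) :
    Nonempty (↥Q ≃* Multiplicative (ZMod 4) × (Fin 3 → Multiplicative (ZMod 2))) := by
  sorry

/-- **FORM16**: `[Q,Q] ≤ N1` of order 2 and `|Q/Φ(Q)| = 16` imply `Q` abelian. (`N1` central in `G`; squares of `Q` are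
central in `Q` (`[x^2,y] = [x,y]^2 = 1`); `c : V × V → N1` alternating, `L`-invariant on the faithful `V = Q/Φ(Q)` (`exists_layer`
with `W := sqSub Q`). `y` of order 7: `C_V(y) = ⟨u_y⟩` of order 2 and the only `y`-invariant hyperplane is `[V,y] ∌ u_y`; `c(u_y,·)` is a
`y`-invariant functional killing `u_y`, so `u_y ∈ Rad c`. `Rad c` is `L`-invariant, nonzero; `V/Rad` of order 8 or 2: alternating
nondegenerate impossible in odd dimension; order 4: `L` trivial on `Rad` and `V/Rad` (orders 4), so every `g ∈ L` has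
`(g-1)^2 = 0`, `g^2 = 1` on `V`: contradicts faithful. So `Rad = V`.) -/
theorem form16 (hF : Frame Q θ) (N1 : Subgroup G) [N1.Normal] (hN1 : Nat.card N1 = 2)
    (hcomm : ∀ a ∈ Q, ∀ b ∈ Q, a * b * a⁻¹ * b⁻¹ ∈ N1) (hV : Nat.card Q = 16 * Nat.card (sqSub Q)) :
    ∀ a ∈ Q, ∀ b ∈ Q, a * b = b * a := by
  sorry

/-- **S★a split**: `Q = Z4 × E8`, `c` central in `G` of order 4, `O1 := Ω₁(Q) = W × U'` with `U'` normal in `G`
(`W = ⟨c^2⟩`). Then some `x` over an element of order 4 has `x^8 = 1`. (`u := θ x` of order 4, `r` an involution of `L` with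
`r u r = u⁻¹`, `s` over `r`; `s x s⁻¹ = x⁻¹ q`, `q = c^e o`, `o ∈ O1`; conjugating `x^4 =: c^i o0` (`o0 ∈ C_{O1}(u)`) by `s`:
`c^i (r o0) = c^{-i} o0 N_u(o)`, `N_u := 1+u+u^2+u^3`; `N_u = (u-1)^3 = 0` on `U'` and on `W`; `C_{O1}(u) = W × C_{U'}(u)`,
`C_{U'}(u)` of order 2 is fixed by `r`; hence `c^{2i} = 1`, `i` even, `x^4 ∈ O1`, `x^8 = 1`.) -/
theorem exists_lift_pow8_split (θ : G →* L) (hsurj : Function.Surjective θ) (hker : θ.ker = Q)
    (hcomm : ∀ a ∈ Q, ∀ b ∈ Q, a * b = b * a) (hcard : Nat.card Q = 32) (hΦ : Nat.card (sqSub Q) = 2)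
    (hfaith : ∀ g : G, (∀ a ∈ Q, g * a * g⁻¹ * a⁻¹ ∈ sqSub Q) → g ∈ Q)
    (c : G) (hcQ : c ∈ Q) (hc : c * c ≠ 1) (hcen : ∀ g : G, g * c = c * g)
    (hsplit : ∃ U' : Subgroup G, U'.Normal ∧ U' ≤ Q ∧ Nat.card U' = 8 ∧ ∀ x ∈ U', x * x = 1) :
    ∃ x : G, orderOf (θ x) = 4 ∧ x ^ 8 = 1 := by
  sorry

/-- **S★a nonsplit** (lead's N1-N4, tip 04:12Z Dec 5): same, `O1` has no `G`-invariant complement to `W`. Suppose every `x` over
elements of order 4 has `x^4 ∉ O1`; then every `k` over an involution has `k^2 ∉ O1` [else `x^2 = k q`, `(kq)^2 = k^2 (1+t)q ∈ O1`].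
(N1) `v ∈ U# := (O1/W)#`, `D_v` := preimage of `⟨v⟩` (order 4): `Stab(v) = S4` acts on `D_v` through `S4/A4`, nontrivially
[else `h'_{gv} := g h'_v` is well defined, `h'_v + h'_{v'} = h'_{v+v'} + ε w0` with `ε` constant by 2-transitivity, and
`{0} ∪ {h'_v + ε w0}` is an invariant complement]. So the odd elements `g` of `Stab(v)` have `(g-1)h' = w0`.
(N2) `u` of order 4, `v` := centre of `u^2`: `C_{O1}(u) = W`, `ker N_u = (u-1)O1` = preimage of `H_u := [U,u]`, `N_u(q) = w0` outside.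
(N3) `r` transvection, centre `v_r`, axis `A_r`: for `v' ∈ A_r \ ⟨v_r⟩`, `r` is odd in `Stab(v')`; so `C_{O1}(r)` maps onto `⟨v_r⟩` only.
(N4) `x` over `u`, `s` over the noncentral involution `r` of `D8` with centre `v`; `r'' := u r` has axis `H_u`. `x^4 = c o0`, `s^2 = c o2`,
`s x s⁻¹ = x⁻¹ q1`, `q1 ∈ O1` [from `(s x)^2 ∉ O1`]. A: `(r-1) o0 = w0 + N_u(q1)`, `o0 ∈ W`: `N_u(q1) = w0`, so `q̄1 ∉ H_u`.
B: `s' := x s x⁻¹`, `(s')^2 = s^2 q1 (ur q1)`: `(u-1) o2 = (1+ur) q1`; in `U`: LHS `= 0` (`ō2 ∈ ⟨v⟩` by N3), RHS = centre of `r''` `≠ 0`.) -/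
theorem exists_lift_pow8_nonsplit (θ : G →* L) (hsurj : Function.Surjective θ) (hker : θ.ker = Q)
    (hcomm : ∀ a ∈ Q, ∀ b ∈ Q, a * b = b * a) (hcard : Nat.card Q = 32) (hΦ : Nat.card (sqSub Q) = 2)
    (hfaith : ∀ g : G, (∀ a ∈ Q, g * a * g⁻¹ * a⁻¹ ∈ sqSub Q) → g ∈ Q)
    (c : G) (hcQ : c ∈ Q) (hc : c * c ≠ 1) (hcen : ∀ g : G, g * c = c * g)
    (hns : ¬ ∃ U' : Subgroup G, U'.Normal ∧ U' ≤ Q ∧ Nat.card U' = 8 ∧ ∀ x ∈ U', x * x = 1) :
    ∃ x : G, orderOf (θ x) = 4 ∧ x ^ 8 = 1 := by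
  sorry

/-- **S★b**: the `E32` section. `O1 := Ω₁(Q)` (order 16), `W = ⟨c^2⟩`, `U = O1/W` faithful of order 8. `k := x^2` lies over the
involution `t = (θ x)^2`, `k^2 = x^4 ∈ C_{O1}(θ x)`, which maps into `C_U(θ x) = ⟨v⟩ = [U,t]`: `k^2 ∈ M_v` := preimage of `⟨v⟩` in `O1`
(order 4). `E` := the four-group of the three involutions `t_i` of `L` with `[U,t_i] = ⟨v⟩`; all involutions of `L` are conjugate, and
`Stab(v)` is transitive on `E#`: lifts `k_i` of `t_i` with `k_i^2 ∈ M_v`. `S := ⟨c, O1, k1, k2⟩`, `M := M_v`: `(k q)^2 = k^2 (1+t)q ∈ M_v` for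
`q ∈ O1`, and for `q ∈ c O1` too (`c^2 ∈ W ≤ M_v`); `k1 k2 = k3 q`; `[k_i, O1] ≤ M_v`; `|S| = 4 * 32`, `|M| = 4`:
`false_of_sq_section`. -/
theorem rank5_of_lift (θ : G →* L) (hsurj : Function.Surjective θ) (hker : θ.ker = Q)
    (hcomm : ∀ a ∈ Q, ∀ b ∈ Q, a * b = b * a) (hcard : Nat.card Q = 32) (hΦ : Nat.card (sqSub Q) = 2)
    (hfaith : ∀ g : G, (∀ a ∈ Q, g * a * g⁻¹ * a⁻¹ ∈ sqSub Q) → g ∈ Q)
    (c : G) (hcQ : c ∈ Q) (hc : c * c ≠ 1) (hcen : ∀ g : G, g * c = c * g)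
    (x : G) (hx : orderOf (θ x) = 4) (hx8 : x ^ 8 = 1) : ¬ Cfsg.SectionalPRankLE 2 4 G := by
  sorry

/-- **CE**: a central extension of `L` by `Z2` in which an involution of `L` lifts to an involution has a normal subgroup of
index 2. (`E := G/A`, `Z := Q/A`. All involutions of `L` are conjugate, so all lift to involutions. `D8 = ⟨a12, b23⟩`, lifts `α, β`
involutions, `(αβ)^2` lifts the involution `z13`, so `(αβ)^4 = 1`, `D := ⟨α,β⟩` dihedral of order 8, `T = D × Z` Sylow of index 21;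
transfer `E → T → Z` (`MonoidHom.transfer_eq_pow`) maps `z ↦ z^21 = z`; its kernel has index 2 and meets `Z` trivially.) -/
theorem exists_index_two_of_inv (θ : G →* L) (hsurj : Function.Surjective θ) (hker : θ.ker = Q)
    (A : Subgroup G) [A.Normal] (hAQ : A ≤ Q) (hidx : Nat.card Q = 2 * Nat.card A)
    (k : G) (hk1 : θ k ≠ 1) (hk2 : θ k * θ k = 1) (hkA : k * k ∈ A) :
    ∃ X0 : Subgroup G, X0.Normal ∧ X0.index = 2 ∧ X0 ⊓ Q = A := by
  sorry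

/-- **SCHUR**: a central extension of `L` by a group of order 4 has a normal subgroup of index 2.
(`E' → L` is a stem extension (`L` perfect: `E = E' Z`, `E'' = E'`), so `|E' ∩ Z| ≤ 2` by `Helper9.SchurL32.main`
(`HasCyclicSchurMultiplier (PSL(3,F)) 2`, `F = ZMod 2`, `PSL ≃* L` since the centre of `SL(3,2)` is trivial:
`Helper1.Dv5.center_SL32`); `E/E'` is a nontrivial abelian 2-group.) -/
theorem exists_index_two_of_Z4 {E : Type u} [Group E] [Finite E] (θ : E →* L) (hsurj : Function.Surjective θ)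
    (hcen : θ.ker ≤ Subgroup.center E) (hcard : Nat.card θ.ker = 4) :
    ∃ X0 : Subgroup E, X0.Normal ∧ X0.index = 2 := by
  sorry

/-- **OMEGA-SPLIT**: `Q = Z4 × E8` with no element of order 4 central in `G`: `Ω₁(Q)` has a `G`-invariant complement to `Φ(Q)`.
(`W = Φ(Q) = ⟨w0⟩`, `O1 = Ω₁(Q)`, `Ū = O1/W`, `V̄ = Q/W ⊇ Ū`. `L` fixes no point of the coset `V̄ \ Ū` [a fixed point has preimage
`{c, c⁻¹}`, `L` perfect fixes `c`], so `L` is transitive on its 8 points (orbit sizes 1, 7, 8, ...; `L` has no subgroup of index 2..6),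
stabilisers of order 21: involutions `t` act freely: for `x ∈ Q \ O1`, `t x = x + o_t` with `ō_t ∉ (1+t)Ū`, `o_t ∈ C_{O1}(t)`.
If `O1` is nonsplit, (N3) of S★a-nonsplit: `C_{O1}(t)` maps onto `[Ū,t] = (1+t)Ū` only: contradiction.) -/
theorem omega_split (θ : G →* L) (hsurj : Function.Surjective θ) (hker : θ.ker = Q)
    (hcomm : ∀ a ∈ Q, ∀ b ∈ Q, a * b = b * a) (hcard : Nat.card Q = 32) (hΦ : Nat.card (sqSub Q) = 2)
    (hfaith : ∀ g : G, (∀ a ∈ Q, g * a * g⁻¹ * a⁻¹ ∈ sqSub Q) → g ∈ Q)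
    (hS : ∀ c ∈ Q, (∀ g : G, g * c = c * g) → c * c = 1) :
    ∃ R : Subgroup G, R.Normal ∧ R ≤ Q ∧ Nat.card R = 8 ∧ (∀ r ∈ R, r * r = 1) ∧ R ⊓ sqSub Q = ⊥ := by
  sorry

/-! ## the six cases (`N1 ≤ Φ(Q)` minimal normal, `Q/N1` good) -/

/-- **A2**: `|N1| = 2`, `Q/N1 = E8`: impossible. (`c` alternating invariant on the irreducible 3-dim `V = Q/N1`: `Rad c ∈ {0, V}`,
nondegenerate impossible in odd dimension, `c = 0`; `s : V → N1` invariant functional, `= 0`; `Φ(Q) = 1`, contradiction.) -/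
theorem caseA2 (hF : Frame Q θ) (N1 : Subgroup G) [N1.Normal] (hle : N1 ≤ sqSub Q) (hcard : Nat.card N1 = 2)
    (hsq : ∀ q ∈ Q, q * q ∈ N1) (hQ : Nat.card Q = 8 * Nat.card N1) : False := by
  sorry

/-- **B8-N dichotomy**: `A := Q1 = Z4^3` normal of index 2 in `Q`: `Q` is abelian or some `q ∈ Q \ A` inverts `A`.
(`q ∈ Q \ A` acts on `A` as `a ↦ a τ(ā)`, `τ : A/W → W` additive `L`-equivariant (`qA` is `G`-invariant mod `A`, `A` abelian);
`Hom_L(A/W, W) = {0, s}` [`φ := s⁻¹ τ` commutes with `L`, `Stab(v)` fixes `φ v ∈ C(Stab v) = ⟨v⟩`... so `τ v ∈ {0, s v}`, additive and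
equivariant: all or none].) -/
theorem b8n_dichotomy (hF : Frame Q θ) (A W : Subgroup G) [A.Normal] [W.Normal] (hWA : W ≤ A) (hAQ : A ≤ Q)
    (hcardA : Nat.card A = 64) (hcardW : Nat.card W = 8) (hcardQ : Nat.card Q = 128)
    (hcommA : ∀ a ∈ A, ∀ b ∈ A, a * b = b * a) (hsqA : ∀ a ∈ A, a * a ∈ W) (hΩ : ∀ a ∈ A, a * a = 1 → a ∈ W)
    (hsqQ : ∀ q ∈ Q, q * q ∈ W) (hle : W ≤ sqSub Q) (hcenW : ∀ w ∈ W, ∀ q ∈ Q, w * q = q * w)
    (hfW : ∀ g : G, (∀ w ∈ W, g * w = w * g) → g ∈ Q) :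
    (∀ a ∈ Q, ∀ b ∈ Q, a * b = b * a) ∨ (∃ q ∈ Q, q ∉ A ∧ ∀ a ∈ A, q * a * q⁻¹ = a⁻¹) := by
  sorry

/-- **B8-N Dih**: some `q ∈ Q \ A` inverts `A = Z4^3`: some involution of `L` lifts to `k` with `k^2 ∈ A`.
(Else every lift `k` of an involution `t` has `k^2 ∈ Q \ A = qA`, acting on `A` as `-1`; `κ` := action of `k` on `A`, `κ^2 = -1`;
for `ā ∈ H_t = C_{A/W}(t)` (order 4): `κ a = a + w`, `κ^2 a = a + (1+t)w = -a`, so `s ā = 2a ∈ (1+t)W` of order 2: `s` not injective.) -/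
theorem b8n_dih (hF : Frame Q θ) (A W : Subgroup G) [A.Normal] [W.Normal] (hWA : W ≤ A) (hAQ : A ≤ Q)
    (hcardA : Nat.card A = 64) (hcardW : Nat.card W = 8) (hcardQ : Nat.card Q = 128)
    (hcommA : ∀ a ∈ A, ∀ b ∈ A, a * b = b * a) (hsqA : ∀ a ∈ A, a * a ∈ W) (hΩ : ∀ a ∈ A, a * a = 1 → a ∈ W)
    (hsqQ : ∀ q ∈ Q, q * q ∈ W) (hle : W ≤ sqSub Q) (hcenW : ∀ w ∈ W, ∀ q ∈ Q, w * q = q * w)
    (hfW : ∀ g : G, (∀ w ∈ W, g * w = w * g) → g ∈ Q)
    (hinv : ∃ q ∈ Q, q ∉ A ∧ ∀ a ∈ A, q * a * q⁻¹ = a⁻¹) :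
    ∃ k : G, θ k ≠ 1 ∧ θ k * θ k = 1 ∧ k * k ∈ A := by
  sorry

/-- **B8-N abelian**: `Q = Z4^3 × Z2` abelian, `A = Z4^3` normal: either a central involution `z ∉ A` of `G`, or an involution of
`L` lifts to `k` with `k^2 ∈ A`. (`O := Ω₁(Q)` of order 16 contains `W`; `L` acts on the 8 points of `O \ W`; a fixed point is `z`.
Otherwise transitive (orbit sizes 1, 7, 8), stabilisers of order 21, so `u` of order 4 fixes no point of `O \ W`. `x` over `u`: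
`x^4 ∈ C_Q(u)`; claim `C_Q(u) ≤ A`: `q = û a` (`û ∈ O \ W`) fixed by `u` gives `(1-u) a = w_u := u û - û ∈ W`, so `ā ∈ C_{A/W}(u) = ⟨v⟩`,
`a = ε b + w` with `b ∈ (1+t)A` over `v` fixed by `u` (H1 (F3), `t = u^2`), so `w_u = (1-u) w`, i.e. `û + w` is fixed by `u`: contradiction.
So `k := x^2` has `k^2 ∈ A`.) -/
theorem b8n_abelian (hF : Frame Q θ) (A W : Subgroup G) [A.Normal] [W.Normal] (hWA : W ≤ A) (hAQ : A ≤ Q)
    (hcardA : Nat.card A = 64) (hcardW : Nat.card W = 8) (hcardQ : Nat.card Q = 128)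
    (hsqA : ∀ a ∈ A, a * a ∈ W) (hΩ : ∀ a ∈ A, a * a = 1 → a ∈ W)
    (hsqQ : ∀ q ∈ Q, q * q ∈ W) (hle : W ≤ sqSub Q)
    (hfW : ∀ g : G, (∀ w ∈ W, g * w = w * g) → g ∈ Q)
    (hab : ∀ a ∈ Q, ∀ b ∈ Q, a * b = b * a) :
    (∃ k : G, θ k ≠ 1 ∧ θ k * θ k = 1 ∧ k * k ∈ A) ∨
    (∃ z ∈ Q, z ∉ A ∧ z * z = 1 ∧ ∀ g : G, g * z = z * g) := by
  sorry

/-- **B8-F central**: `|N1| = 8`, `Q/N1 = E16` with a fixed vector (`Z0/N1` of order 2), no invariant hyperplane, `Z0 ≤ Z(Q)`.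
(`V = Q/N1`, `u0` the fixed vector; `Stab(v̄) = S4` (`v̄ ∈ (V/u0)#`) swaps `v, v+u0` [else invariant hyperplane by the (N1)-argument], so
`L` is transitive on the 14 vectors outside `⟨u0⟩`, `Stab(v) = A4`. `s(u0) ∈ C_W(L) = 0`, `Z0 = E16`. `c̄` on `V/u0`:
if the class `{Stab(v̄)}` is not the class `C_W` of `W = N1`: `s(v) ∈ C_W(A4) = 0` for all `v`, `Φ(Q) = 1`, contradiction;
otherwise `c̄_H ∈ C_W(Stab H) = 0`, `Q` abelian `= Z4^3 × Z2`, `Ω₁(Q) = Z0`; some involution `t ∈ Stab(v̄) \ Stab(v)` has `t v = v + u0`,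
so `q (t q)` (`q` over `v`) is a `t`-fixed point of `Z0 \ N1`: `L` is not transitive on `Z0 \ N1`, hence fixes a point `z`:
`z` central involution of `G`, `G/⟨z⟩` has `O_2 = Q/⟨z⟩ = Z4^3`: `no_homocyclic`.) -/
theorem caseB8_fixed_central (hF : Frame Q θ) (N1 : Subgroup G) [N1.Normal] (hle : N1 ≤ sqSub Q) (hne : N1 ≠ ⊥)
    (hmin : ∀ K : Subgroup G, K.Normal → K ≤ N1 → K = ⊥ ∨ K = N1) (hcard : Nat.card N1 = 8)
    (hsq : ∀ q ∈ Q, q * q ∈ N1) (hQ : Nat.card Q = 16 * Nat.card N1)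
    (Z0 : Subgroup G) [Z0.Normal] (hNZ : N1 ≤ Z0) (hZQ : Z0 ≤ Q) (hZ0 : Nat.card Z0 = 2 * Nat.card N1)
    (hno : ¬ ∃ Q1 : Subgroup G, Q1.Normal ∧ N1 ≤ Q1 ∧ Q1 ≤ Q ∧ Nat.card Q1 = 8 * Nat.card N1)
    (hZc : ∀ z ∈ Z0, ∀ q ∈ Q, z * q = q * z) : False := by
  sorry

/-- **B8-F noncentral**: same, `Z0` not central in `Q`. (`c(u0,·) = ι : V/u0 → W` is an equivariant iso; for `v ∉ ⟨u0⟩`:
`s(v+u0) = s(v) + ι(v̄)`, both `s(v), s(v+u0)` lie in `C_W(Stab v) = C_W(A4) = {0, ι v̄}` (`Stab(v̄) = Stab_W(ι v̄)`), and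
`g ∈ Stab(v̄) \ Stab(v)` swaps `v, v+u0` and fixes `C_W(A4)` pointwise: `s(v+u0) = s(v)`, contradiction.) -/
theorem caseB8_fixed_noncentral (hF : Frame Q θ) (N1 : Subgroup G) [N1.Normal] (hle : N1 ≤ sqSub Q) (hne : N1 ≠ ⊥)
    (hmin : ∀ K : Subgroup G, K.Normal → K ≤ N1 → K = ⊥ ∨ K = N1) (hcard : Nat.card N1 = 8)
    (hsq : ∀ q ∈ Q, q * q ∈ N1) (hQ : Nat.card Q = 16 * Nat.card N1)
    (Z0 : Subgroup G) [Z0.Normal] (hNZ : N1 ≤ Z0) (hZQ : Z0 ≤ Q) (hZ0 : Nat.card Z0 = 2 * Nat.card N1)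
    (hno : ¬ ∃ Q1 : Subgroup G, Q1.Normal ∧ N1 ≤ Q1 ∧ Q1 ≤ Q ∧ Nat.card Q1 = 8 * Nat.card N1)
    (hZc : ¬ ∀ z ∈ Z0, ∀ q ∈ Q, z * q = q * z) : False := by
  sorry

/-- **C2**: `|N1| = 2`, `Q/N1 = Z4 × E8`: impossible. (`Q` abelian by `form16`; `|Q| = 64`, `|Φ(Q)| = 4`, `|Q/Φ(Q)| = 16`.
`Φ(Q)` cyclic [if `E4`: `Ω₁(Q) ⊇ Φ(Q)`, `Q/Ω₁(Q) ≅ Φ(Q)` equivariantly (squaring), `L` trivial on both `Ω₁/Φ` and `Q/Ω₁` (orders 4): unipotent
on `Q/Φ(Q)`: not faithful]. So `Q = Z8 × E8`, `Φ(Q) = ⟨d⟩` with `d` of order 4 central in `G` (`Aut Z4 = 2`, `L` perfect), `D := Ω₂(Q) = {q | q^4 = 1}` of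
index 2, `O1 = Ω₁(Q)`, `Q/O1 = Z4` with trivial `L`-action. `x` over `u4`, `s` over `a12` (`a12 u4 a12 = u4⁻¹`): `s x s⁻¹ = x⁻¹ q`,
`s x^4 s⁻¹ = x⁻⁴ N_u(q)`; in `Q/O1`: `ξ = ξ⁻¹ q̄^4 = ξ⁻¹`, so `x^4 ∈ D`: `k := x^2` has `k^2 ∈ D`. `exists_index_two_of_inv` with `A := D`: `X0`,
`X0 ⊓ Q = D = Z4 × E8`, `d ∈ D` central of order 4; `L` faithful on `D/Φ(D)` [an odd-order element trivial on `D/Φ(D)` is trivial on `D` and `Q/D`,
hence on `Q`]; `exists_lift_pow8_*` + `rank5_of_lift` for `X0` (rank passes to subgroups).) -/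
theorem caseC2 (hF : Frame Q θ) (N1 : Subgroup G) [N1.Normal] (hle : N1 ≤ sqSub Q) (hcard : Nat.card N1 = 2)
    (hcomm : ∀ a ∈ Q, ∀ b ∈ Q, a * b * a⁻¹ * b⁻¹ ∈ N1) (hQ : Nat.card Q = 32 * Nat.card N1)
    (hΦ : Nat.card (sqSub Q) = 2 * Nat.card N1) : False := by
  sorry

end Cfsg.Agent.Lib.Helper2.GH7.Stubs
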