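import Mathlib
import Cfsg.Agent.Lib.Helper2.GH7HC

set_option autoImplicit false
set_option linter.unusedVariables false
set_option linter.unusedSectionVars false
set_option linter.style.longLine false

/-! # GH7 = S3105: STUBS part 2 (never import this file): the sub-units of H1 (`no_homocyclic`).
Common hypotheses `HC`: `A = Z4^3` normal abelian in `G`, `W = Ω₁(A) = ℧¹(A)`, `ker θ` centralises `A`, `L` faithful on `A/W`. -/

namespace Cfsg.Agent.Lib.Helper2.GH7.Stubs2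

open Cfsg.Agent.Lib.Helper2.GH7

universe u

variable {G : Type u} [Group G] [Finite G] {θ : G →* L}

/-- **F1**: the norm of every four-group of `L` kills `A`. -/
theorem homocyclic_F1 {A W : Subgroup G} (h : HC θ A W) (g1 g2 : G)
    (h1 : θ g1 * θ g1 = 1) (h2 : θ g2 * θ g2 = 1) (h12 : θ g1 * θ g2 = θ g2 * θ g1)
    (hne1 : θ g1 ≠ 1) (hne2 : θ g2 ≠ 1) (hne : θ g1 ≠ θ g2) (a : G) (ha : a ∈ A) :
    a * (g1 * a * g1⁻¹) * (g2 * a * g2⁻¹) * (g1 * g2 * a * (g1 * g2)⁻¹) = 1 := by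
  sorry

/-- **F3**: for `x` over an element `u` of order 4 and `t := u^2`, `u` fixes `(1+t)A` pointwise. (From F1 for the two four-groups of a
`D8 ∋ u`.) -/
theorem homocyclic_F3 {A W : Subgroup G} (h : HC θ A W) (x : G) (hx : orderOf (θ x) = 4) (a : G) (ha : a ∈ A) :
    x * (a * (x ^ 2 * a * (x ^ 2)⁻¹)) * x⁻¹ = a * (x ^ 2 * a * (x ^ 2)⁻¹) := by
  sorry

/-- **F4**: when `ker θ = A`, every involution of `L` lifts to an involution of `G`. (F2 + F3: `C_A(u) = (1+t)A`; `k = x^2`, `k^2 = (1+t)a0`,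
`((a0⁻¹) k)^2 = 1`; all involutions of `L` are conjugate.) -/
theorem homocyclic_F4 {A W : Subgroup G} (h : HC θ A W) (hker : θ.ker = A) (t : L) (ht : t * t = 1) :
    ∃ k : G, θ k = t ∧ k * k = 1 := by
  sorry

/-- **F5**: the `E32` section from F1 and F4. -/
theorem homocyclic_F5 {A W : Subgroup G} (h : HC θ A W) (hker : θ.ker = A)
    (hF1 : ∀ (g1 g2 : G), θ g1 * θ g1 = 1 → θ g2 * θ g2 = 1 → θ g1 * θ g2 = θ g2 * θ g1 →
      θ g1 ≠ 1 → θ g2 ≠ 1 → θ g1 ≠ θ g2 → ∀ a ∈ A,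
      a * (g1 * a * g1⁻¹) * (g2 * a * g2⁻¹) * (g1 * g2 * a * (g1 * g2)⁻¹) = 1)
    (hF4 : ∀ t : L, t * t = 1 → ∃ k : G, θ k = t ∧ k * k = 1) : ¬ Cfsg.SectionalPRankLE 2 4 G := by
  sorry

end Cfsg.Agent.Lib.Helper2.GH7.Stubs2
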