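import Mathlib
import Cfsg.Agent.Lib.Helper2.GH7Defs

set_option autoImplicit false
set_option linter.unusedVariables false
set_option linter.unusedSectionVars false
set_option linter.style.longLine false

/-! # GH7 = S3105: STUBS part 3 (never import): REVISED statements of `b8n_dichotomy`, `b8n_dih`, `b8n_abelian`
(these supersede the ones in GH7Stubs: extra hypotheses `hle : W ≤ sqSub Q` and `hfA` = `L` faithful on `A/W`; the glue supplies both). -/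

namespace Cfsg.Agent.Lib.Helper2.GH7.Stubs3

open Cfsg.Agent.Lib.Helper3.A8Emb (sqSub)
open Cfsg.Agent.Lib.Helper2.GH7

universe u

variable {G : Type u} [Group G] [Finite G] {Q : Subgroup G} [Q.Normal] {θ : G →* L}

/-- **B8-N dichotomy**: `A := Q1 = Z4^3` normal of index 2 in `Q`: `Q` is abelian or some `q ∈ Q \ A` inverts `A`.
(`q ∈ Q \ A` acts on `A` as `a ↦ a τ(ā)`, `τ : A/W → W` additive `L`-equivariant (`qA` is `G`-invariant mod `A`, `A` abelian);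
`Hom_L(A/W, W) = {0, s}` [`φ := s⁻¹ τ` commutes with `L`, `Stab(v)` fixes `φ v ∈ C(Stab v) = ⟨v⟩`... so `τ v ∈ {0, s v}`, additive and
equivariant: all or none].) -/
theorem b8n_dichotomy (hF : Frame Q θ) (A W : Subgroup G) [A.Normal] [W.Normal] (hWA : W ≤ A) (hAQ : A ≤ Q)
    (hcardA : Nat.card A = 64) (hcardW : Nat.card W = 8) (hcardQ : Nat.card Q = 128)
    (hcommA : ∀ a ∈ A, ∀ b ∈ A, a * b = b * a) (hsqA : ∀ a ∈ A, a * a ∈ W) (hΩ : ∀ a ∈ A, a * a = 1 → a ∈ W)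
    (hsqQ : ∀ q ∈ Q, q * q ∈ W) (hle : W ≤ sqSub Q) (hcenW : ∀ w ∈ W, ∀ q ∈ Q, w * q = q * w)
    (hfW : ∀ g : G, (∀ w ∈ W, g * w = w * g) → g ∈ Q)
    (hfA : ∀ g : G, (∀ a ∈ A, g * a * g⁻¹ * a⁻¹ ∈ W) → g ∈ Q) :
    (∀ a ∈ Q, ∀ b ∈ Q, a * b = b * a) ∨ (∃ q ∈ Q, q ∉ A ∧ ∀ a ∈ A, q * a * q⁻¹ = a⁻¹) := by
  sorry

/-- **B8-N Dih**: some `q ∈ Q \ A` inverts `A = Z4^3`: some involution of `L` lifts to `k` with `k^2 ∈ A`.
(Else every lift `k` of an involution `t` has `k^2 ∈ Q \ A = qA`, acting on `A` as `-1`; `κ` := action of `k` on `A`, `κ^2 = -1`;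
for `ā ∈ H_t = C_{A/W}(t)` (order 4): `κ a = a + w`, `κ^2 a = a + (1+t)w = -a`, so `s ā = 2a ∈ (1+t)W` of order 2: `s` not injective.) -/
theorem b8n_dih (hF : Frame Q θ) (A W : Subgroup G) [A.Normal] [W.Normal] (hWA : W ≤ A) (hAQ : A ≤ Q)
    (hcardA : Nat.card A = 64) (hcardW : Nat.card W = 8) (hcardQ : Nat.card Q = 128)
    (hcommA : ∀ a ∈ A, ∀ b ∈ A, a * b = b * a) (hsqA : ∀ a ∈ A, a * a ∈ W) (hΩ : ∀ a ∈ A, a * a = 1 → a ∈ W)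
    (hsqQ : ∀ q ∈ Q, q * q ∈ W) (hle : W ≤ sqSub Q) (hcenW : ∀ w ∈ W, ∀ q ∈ Q, w * q = q * w)
    (hfW : ∀ g : G, (∀ w ∈ W, g * w = w * g) → g ∈ Q)
    (hfA : ∀ g : G, (∀ a ∈ A, g * a * g⁻¹ * a⁻¹ ∈ W) → g ∈ Q)
    (hinv : ∃ q ∈ Q, q ∉ A ∧ ∀ a ∈ A, q * a * q⁻¹ = a⁻¹) :
    ∃ k : G, θ k ≠ 1 ∧ θ k * θ k = 1 ∧ k * k ∈ A := by
  sorry

/-- **B8-N abelian**: `Q = Z4^3 × Z2` abelian, `A = Z4^3` normal: either a central involution `z ∉ A` of `G`, or an involution of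
`L` lifts to `k` with `k^2 ∈ A`. (`O := Ω₁(Q)` of order 16 contains `W`; `L` acts on the 8 points of `O \ W`; a fixed point is `z`.
Otherwise transitive (orbit sizes 1, 7, 8), stabilisers of order 21, so `u` of order 4 fixes no point of `O \ W`. `x` over `u`:
`x^4 ∈ C_Q(u)`; claim `C_Q(u) ≤ A`: `q = û a` (`û ∈ O \ W`) fixed by `u` gives `(1-u) a = w_u := u û - û ∈ W`, so `ā ∈ C_{A/W}(u) = ⟨v⟩`,
`a = ε b + w` with `b ∈ (1+t)A` over `v` fixed by `u` (H1 (F3), `t = u^2`), so `w_u = (1-u) w`, i.e. `û + w` is fixed by `u`: contradiction.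
So `k := x^2` has `k^2 ∈ A`.) -/
theorem b8n_abelian (hF : Frame Q θ) (A W : Subgroup G) [A.Normal] [W.Normal] (hWA : W ≤ A) (hAQ : A ≤ Q)
    (hcardA : Nat.card A = 64) (hcardW : Nat.card W = 8) (hcardQ : Nat.card Q = 128)
    (hsqA : ∀ a ∈ A, a * a ∈ W) (hΩ : ∀ a ∈ A, a * a = 1 → a ∈ W)
    (hsqQ : ∀ q ∈ Q, q * q ∈ W) (hle : W ≤ sqSub Q)
    (hfW : ∀ g : G, (∀ w ∈ W, g * w = w * g) → g ∈ Q)
    (hfA : ∀ g : G, (∀ a ∈ A, g * a * g⁻¹ * a⁻¹ ∈ W) → g ∈ Q)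
    (hab : ∀ a ∈ Q, ∀ b ∈ Q, a * b = b * a) :
    (∃ k : G, θ k ≠ 1 ∧ θ k * θ k = 1 ∧ k * k ∈ A) ∨
    (∃ z ∈ Q, z ∉ A ∧ z * z = 1 ∧ ∀ g : G, g * z = z * g) := by
  sorry

end Cfsg.Agent.Lib.Helper2.GH7.Stubs3
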