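import Mathlib
import Cfsg.Agent.Lib.Helper2.GH7Core
import Cfsg.Agent.Lib.Helper2.GH5U1
import Cfsg.Agent.S0255
import Cfsg.Agent.S0249
import Cfsg.Agent.Lib.Helper4.GH7IsoQ

set_option autoImplicit false
set_option linter.unusedVariables false
set_option linter.unusedSectionVars false
set_option linter.style.longLine false
set_option linter.unusedSimpArgs false
set_option linter.style.haveILetI false
set_option maxHeartbeats 1000000

/-! # GH7 = S3105: reduction of the statement to `good_of_frame` -/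

namespace Cfsg.Agent.Lib.Helper2.GH7

open Cfsg.Agent.Lib.Helper3.A8Emb (sqSub sqSub_le)
open Cfsg.Agent.Lib.Helper9.A8Emb (exists_conjQuot)

universe u v

theorem s3105_of {X : Type u} [Group X] [Finite X]
    (hc : Cfsg.IsPConstrained 2 X) (hO : Cfsg.oddCore X = ⊥) (h4 : Cfsg.SectionalPRankLE 2 4 X)
    {F : Type v} [Field F] [Fintype F] (hF : Fintype.card F = 2)
    (hQ : Nonempty (X ⧸ Cfsg.pCore 2 X ≃* Matrix.ProjectiveSpecialLinearGroup (Fin 3) F)) :
    (Cfsg.IsElementaryAbelian 2 (Cfsg.pCore 2 X) ∧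
      (Nat.card ↥(Cfsg.pCore 2 X) = 8 ∨ Nat.card ↥(Cfsg.pCore 2 X) = 16)) ∨
    Nonempty (↥(Cfsg.pCore 2 X) ≃* Multiplicative (ZMod 4) × (Fin 3 → Multiplicative (ZMod 2))) := by
  haveI : Fact (Nat.Prime 2) := ⟨Nat.prime_two⟩
  obtain ⟨e0⟩ := hQ
  set QX : Subgroup X := Cfsg.pCore 2 X with hQXdef
  have hQXp : IsPGroup 2 QX := Cfsg.Agent.Lib.Helper1.pCore_isPGroup 2
  have hcent := Cfsg.Agent.Lib.Helper3.A8Emb.centralizer_pCore_le hc hO
  have hmaxQ : ∀ N : Subgroup X, N.Normal → IsPGroup 2 N → N ≤ QX :=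
    fun N hN hN2 => Cfsg.Agent.Lib.Helper1.le_pCore hN hN2
  -- the quotient is simple of order 168
  haveI hs : IsSimpleGroup (Matrix.ProjectiveSpecialLinearGroup (Fin 3) F) := Cfsg.Agent.S0249.result 3 le_rfl
  haveI hs' : IsSimpleGroup (X ⧸ QX) := e0.isSimpleGroup_congr.mpr hs
  have hcard : Nat.card (X ⧸ QX) = 168 := by
    rw [Nat.card_congr e0.toEquiv]
    exact Cfsg.Agent.S0255.psl32_card hF
  obtain ⟨e⟩ := Cfsg.Agent.Lib.Helper1.Dv.iso_SL32 hcard
  let θ : X →* L := e.toMonoidHom.comp (QuotientGroup.mk' QX)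
  have hsurj : Function.Surjective θ := e.surjective.comp (QuotientGroup.mk'_surjective QX)
  have hker : θ.ker = QX := by
    ext x
    rw [MonoidHom.mem_ker]
    show e (QuotientGroup.mk' QX x) = 1 ↔ _
    rw [map_eq_one_iff e e.injective]
    exact QuotientGroup.eq_one_iff x
  have hFr : Frame QX θ := by
    refine ⟨hsurj, hker, hQXp, h4, ?_⟩
    intro g hg
    obtain ⟨φ, hφ⟩ := exists_conjQuot QX (sqSub QX) (sqSub_le QX)
    have hkerle := Cfsg.Agent.Lib.Helper3.A8Emb.ker_le QX hQXp hcent hmaxQ φ hφ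
    apply hkerle
    rw [MonoidHom.mem_ker]
    apply MulEquiv.ext
    intro w
    induction w using QuotientGroup.induction_on with
    | H a =>
      rw [hφ, MulAut.one_apply]
      apply QuotientGroup.eq.mpr
      rw [Subgroup.mem_subgroupOf]
      have h7 := hg (a : X) a.2
      have h8 := (Cfsg.Agent.Lib.Helper2.GH5.sqSub_normal' QX).conj_mem _ ((sqSub QX).inv_mem h7) (a : X)⁻¹
      have h9 : (a : X)⁻¹ * ((g : X) * (a : X) * (g : X)⁻¹ * (a : X)⁻¹)⁻¹ * ((a : X)⁻¹)⁻¹ =
          ((g : X) * (a : X) * (g : X)⁻¹)⁻¹ * (a : X) := by group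
      rw [h9] at h8
      simpa using h8
  have hgood := good_of_frame (Nat.card X) X QX θ rfl hFr
  rcases hgood with ⟨hel, hcd⟩ | ⟨hab, h32, hΦ2, _⟩
  · left
    refine ⟨⟨?_, ?_⟩, hcd⟩
    · constructor
      constructor
      intro a b
      -- exponent 2 implies commutative
      have h2 : ∀ x : ↥QX, x ^ 2 = 1 := fun x => by
        apply Subtype.ext
        have := hel x.1 x.2
        simpa [pow_two] using this
      exact Cfsg.Agent.Lib.Helper3.A8Emb.comm_of_sq h2 a b
    · intro a ha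
      rw [pow_two]
      exact hel a ha
  · right
    exact Cfsg.Agent.Lib.Helper4.GH7.z4e8_iso QX hab h32 hΦ2

end Cfsg.Agent.Lib.Helper2.GH7
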