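import Mathlib
import Cfsg.Agent.Lib.Helper2.SylowRecog
import Cfsg.Agent.Lib.Helper2.GLTwoArith

set_option autoImplicit false

/-!
# Sylow 2-subgroups of `GL(2, q)`, `q ≡ 1 (mod 4)`, are wreathed
-/

namespace Cfsg.Agent.Lib.Helper2.GLTwoWr

open Cfsg Cfsg.Agent.Lib.Helper2.SylowRecog Cfsg.Agent.Lib.Helper2.GLTwoArith

section

variable {F : Type*} [Field F]

/-- The diagonal matrix `diag(u, v)`. -/
def dg (p : Fˣ × Fˣ) : GL (Fin 2) F :=
  ⟨Matrix.diagonal ![(p.1 : F), (p.2 : F)],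
    Matrix.diagonal ![((p.1⁻¹ : Fˣ) : F), ((p.2⁻¹ : Fˣ) : F)], by
      rw [Matrix.diagonal_mul_diagonal, ← Matrix.diagonal_one]
      congr 1; ext i; fin_cases i <;> simp, by
      rw [Matrix.diagonal_mul_diagonal, ← Matrix.diagonal_one]
      congr 1; ext i; fin_cases i <;> simp⟩

theorem dg_val (p : Fˣ × Fˣ) :
    ((dg p : GL (Fin 2) F) : Matrix (Fin 2) (Fin 2) F) = Matrix.diagonal ![(p.1 : F), (p.2 : F)] :=
  rfl

/-- `dg` as a monoid homomorphism. -/
def dgHom : Fˣ × Fˣ →* GL (Fin 2) F where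
  toFun := dg
  map_one' := by
    apply Units.ext
    rw [dg_val, Units.val_one, ← Matrix.diagonal_one]
    congr 1; ext i; fin_cases i <;> simp
  map_mul' p p' := by
    apply Units.ext
    rw [Units.val_mul, dg_val, dg_val, dg_val, Matrix.diagonal_mul_diagonal]
    congr 1; ext i; fin_cases i <;> simp

theorem dgHom_injective : Function.Injective (dgHom : Fˣ × Fˣ →* GL (Fin 2) F) := by
  intro p p' h
  have h1 : Matrix.diagonal ![(p.1 : F), (p.2 : F)] = Matrix.diagonal ![(p'.1 : F), (p'.2 : F)] :=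
    congrArg Units.val h
  have h2 := Matrix.diagonal_injective h1
  have h3 := congrFun h2 0
  have h4 := congrFun h2 1
  simp only [Matrix.cons_val_zero, Matrix.cons_val_one] at h3 h4
  exact Prod.ext (Units.ext h3) (Units.ext h4)

/-- The permutation matrix of the transposition. -/
def sw : GL (Fin 2) F :=
  ⟨!![0, 1; 1, 0], !![0, 1; 1, 0], by
    ext i j; fin_cases i <;> fin_cases j <;> simp [Matrix.mul_apply, Fin.sum_univ_two], by
    ext i j; fin_cases i <;> fin_cases j <;> simp [Matrix.mul_apply, Fin.sum_univ_two]⟩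

theorem sw_mul_sw : (sw : GL (Fin 2) F) * sw = 1 := by
  apply Units.ext
  show (!![0, 1; 1, 0] : Matrix (Fin 2) (Fin 2) F) * !![0, 1; 1, 0] = 1
  ext i j; fin_cases i <;> fin_cases j <;> simp [Matrix.mul_apply, Fin.sum_univ_two]

theorem sw_ne_one : (sw : GL (Fin 2) F) ≠ 1 := by
  intro h
  have h1 : (!![0, 1; 1, 0] : Matrix (Fin 2) (Fin 2) F) = 1 := congrArg Units.val h
  have h2 := congrFun (congrFun h1 0) 0
  simp at h2

theorem orderOf_sw : orderOf (sw : GL (Fin 2) F) = 2 := by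
  haveI : Fact (Nat.Prime 2) := ⟨Nat.prime_two⟩
  exact orderOf_eq_prime (by rw [pow_two]; exact sw_mul_sw) sw_ne_one

theorem sw_mul_dg (u v : Fˣ) : (sw : GL (Fin 2) F) * dgHom (u, v) = dgHom (v, u) * sw := by
  apply Units.ext
  show (!![0, 1; 1, 0] : Matrix (Fin 2) (Fin 2) F) * Matrix.diagonal ![(u : F), (v : F)] =
    Matrix.diagonal ![(v : F), (u : F)] * !![0, 1; 1, 0]
  ext i j; fin_cases i <;> fin_cases j <;> simp [Matrix.mul_apply, Fin.sum_univ_two]

variable [Fintype F]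

/-- Sylow 2-subgroups of `GL(2, q)`, `q ≡ 1 (mod 4)`, are wreathed. -/
theorem wreathed_case (hq : Fintype.card F % 4 = 1) (P : Sylow 2 (GL (Fin 2) F)) :
    Cfsg.IsWreathed ↥(P : Subgroup (GL (Fin 2) F)) := by
  classical
  have hq1 : 1 < Fintype.card F := Fintype.one_lt_card
  obtain ⟨hv, hn⟩ := v2_GL_of_one (Fintype.card F) hq hq1
  set n := (Fintype.card F - 1).factorization 2 with hn_def
  have hcard : (Nat.card (GL (Fin 2) F)).factorization 2 = 2 * n + 1 := by
    rw [card_GL_two]; exact hv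
  -- an element of order `2^n` of `Fˣ`
  have hdvd : 2 ^ n ∣ Nat.card Fˣ := by
    rw [Nat.card_units, Nat.card_eq_fintype_card]
    exact Nat.ordProj_dvd _ 2
  obtain ⟨ζ, hζ⟩ := exists_orderOf_eq_of_dvd (G := Fˣ) (2 ^ n) hdvd
  have hx : orderOf (dgHom (ζ, 1) : GL (Fin 2) F) = 2 ^ n := by
    rw [orderOf_injective dgHom dgHom_injective, Prod.orderOf]
    simp [hζ]
  apply isWreathed_sylow_of_elements n hn hcard (dgHom (ζ, 1)) (dgHom (1, ζ)) sw hx
  · rw [← map_mul, ← map_mul]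
    congr 1
    ext <;> simp
  · rw [eq_bot_iff]
    rintro g ⟨hg1, hg2⟩
    obtain ⟨k, hk⟩ := Subgroup.mem_zpowers_iff.1 hg1
    obtain ⟨l, hl⟩ := Subgroup.mem_zpowers_iff.1 hg2
    rw [← map_zpow] at hk hl
    have h1 := dgHom_injective (hk.trans hl.symm)
    have h2 : ζ ^ k = 1 := by
      have := congrArg Prod.fst h1
      simpa using this
    rw [Subgroup.mem_bot, ← hk]
    have h3 : ((ζ, 1) : Fˣ × Fˣ) ^ k = 1 := by
      ext <;> simp [h2]
    rw [h3, map_one]
  · exact orderOf_sw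
  · rw [mul_inv_eq_iff_eq_mul]
    exact sw_mul_dg ζ 1

end

end Cfsg.Agent.Lib.Helper2.GLTwoWr
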