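import Mathlib
import Cfsg.Agent.Lib.Helper2.GLU1

set_option autoImplicit false
set_option linter.style.haveILetI false
set_option linter.unusedSectionVars false
set_option linter.unusedVariables false

namespace Cfsg.Agent.Lib.Helper2.GLU

open Matrix Cfsg Cfsg.Agent.Lib.Helper6 Cfsg.Agent.Lib.Helper6.Flg
open Cfsg.Agent.Lib.Helper7.SLY

variable {n : ℕ} {F : Type*} [Field F] [Fintype F]

/-- a nontrivial additive character of `F`, as a hom `Multiplicative F →* ℂˣ` -/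
theorem exists_addChar : ∃ ψ0 : Multiplicative F →* ℂˣ, ψ0 (Multiplicative.ofAdd (1 : F)) ≠ 1 := by
  obtain ⟨χ, hχ⟩ := (AddChar.exists_apply_ne_zero (α := F) (a := (1 : F))).mpr one_ne_zero
  refine ⟨χ.toMonoidHom.toHomUnits, ?_⟩
  intro h
  apply hχ
  have := congrArg (fun z : ℂˣ => (z : ℂ)) h
  simpa using this

/-- Y3: a linear character of `U` nontrivial on every simple root subgroup -/
theorem exists_psi_urad : ∃ ψ : ↥(urad (F := F) (fun a : Fin n => a.val)) →* ℂˣ,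
    ∀ i j : Fin n, (j : ℕ) = i + 1 → ∃ u : ↥(urad (F := F) (fun a : Fin n => a.val)),
    (∀ k l : Fin n, k ≠ l → ¬ (k = i ∧ l = j) →
      ((u : GL (Fin n) F) : Matrix (Fin n) (Fin n) F) k l = 0) ∧ ψ u ≠ 1 := by
  classical
  obtain ⟨ψ0, hψ0⟩ := exists_addChar (F := F)
  let ψ : ↥(urad (F := F) (fun a : Fin n => a.val)) →* ℂˣ :=
    ∏ t : {t : Fin n // t.val + 1 < n}, ψ0.comp (entryHom (F := F) t.1.val t.2)
  refine ⟨ψ, ?_⟩
  intro i j hj
  have hi : i.val + 1 < n := by rw [← hj]; exact j.2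
  have hiA : posA (n := n) i.val hi = i := Fin.ext rfl
  have hjB : posB (n := n) i.val hi = j := Fin.ext hj.symm
  have hlt : (posA (n := n) i.val hi).val < (posB (n := n) i.val hi).val := by
    show i.val < i.val + 1
    omega
  let u : ↥(urad (F := F) (fun a : Fin n => a.val)) := ⟨tgl (posA i.val hi) (posB i.val hi) (posA_ne_posB i.val hi) (1 : F),
    tgl_mem_urad_val (posA i.val hi) (posB i.val hi) hlt _⟩
  have hentry : ∀ k l : Fin n, k ≠ l → ¬ (k = i ∧ l = j) →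
      ((u : GL (Fin n) F) : Matrix (Fin n) (Fin n) F) k l = 0 := by
    intro k l hkl hne
    show ((tgl (posA i.val hi) (posB i.val hi) (posA_ne_posB i.val hi) (1 : F) : GL (Fin n) F) :
      Matrix (Fin n) (Fin n) F) k l = 0
    rw [tgl_val, Matrix.transvection, Matrix.add_apply, Matrix.one_apply_ne hkl, zero_add,
      Matrix.single_apply_of_ne]
    rw [hiA, hjB]
    intro h
    exact hne ⟨h.1.symm, h.2.symm⟩
  refine ⟨u, hentry, ?_⟩
  have hψu : ψ u = ∏ t : {t : Fin n // t.val + 1 < n},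
      ψ0 (entryHom (F := F) t.1.val t.2 u) := by
    show (∏ t : {t : Fin n // t.val + 1 < n}, ψ0.comp (entryHom (F := F) t.1.val t.2)) u = _
    rw [MonoidHom.finset_prod_apply]
    rfl
  rw [hψu, Finset.prod_eq_single (⟨i, hi⟩ : {t : Fin n // t.val + 1 < n})]
  · rw [entryHom_apply]
    have : ((u : GL (Fin n) F) : Matrix (Fin n) (Fin n) F) (posA i.val hi) (posB i.val hi) = 1 :=
      tgl_apply (posA i.val hi) (posB i.val hi) (posA_ne_posB i.val hi) (1 : F)
    rw [this]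
    exact hψ0
  · intro t _ hne
    rw [entryHom_apply]
    have hz : ((u : GL (Fin n) F) : Matrix (Fin n) (Fin n) F)
        (posA t.1.val t.2) (posB t.1.val t.2) = 0 := by
      apply hentry
      · exact posA_ne_posB _ _
      · rintro ⟨h1, _⟩
        apply hne
        apply Subtype.ext
        apply Fin.ext
        have := congrArg Fin.val h1
        exact this
    rw [hz, ofAdd_zero, map_one]
  · intro h
    exact absurd (Finset.mem_univ _) h

theorem exists_psi : ∃ ψ : Uni n F →* ℂˣ, ∀ i j : Fin n, (j : ℕ) = i + 1 → ∃ u : Uni n F,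
    (∀ k l : Fin n, k ≠ l → ¬ (k = i ∧ l = j) →
      ((u : GL (Fin n) F) : Matrix (Fin n) (Fin n) F) k l = 0) ∧ ψ u ≠ 1 :=
  exists_psi_urad

/-- the Gelfand-Graev data exist -/
theorem nonempty_inputs [Fintype (GL (Fin n) F)] : Nonempty (Inputs n F) := by
  obtain ⟨ψ, hψ⟩ := exists_psi (n := n) (F := F)
  exact ⟨Inputs.mk' ψ hψ⟩

/-- THEOREM GL (final form). -/
theorem gl_final [Fintype (GL (Fin n) F)] (hn : 2 ≤ n) (χ1 χ2 : IrrCharacter (GL (Fin n) F))
    (h1 : ∀ u ∈ Uni n F, u ≠ 1 → χ1.1 u = 0) (h2 : ∀ u ∈ Uni n F, u ≠ 1 → χ2.1 u = 0) :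
    χ1.1 1 = (Nat.card (Uni n F) : ℂ) ∧ χ2.1 1 = (Nat.card (Uni n F) : ℂ) ∧
    ∃ α : Fˣ →* ℂˣ, ∀ g : GL (Fin n) F,
      χ2.1 g = χ1.1 g * ((α (Matrix.GeneralLinearGroup.det g) : ℂˣ) : ℂ) := by
  obtain ⟨I⟩ := nonempty_inputs (n := n) (F := F)
  exact gl_main I hn χ1 χ2 h1 h2

end Cfsg.Agent.Lib.Helper2.GLU
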