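import Mathlib

/-!
# Number of conjugacy classes of `GL_n(q)`: definitions (S2478)

`q^n - q^(n-1) ≤ k(GL_n(q)) ≤ q^n`.  Lower bound: characteristic polynomials.  Upper bound: every
`A ∈ GL_n(F)` makes `F^n` an `F[X]`-module isomorphic to `⨁ F[X]/(p_i^e_i)` (`p_i` monic irreducible,
`p_i(0) ≠ 0`); the sequence `f_j = ∏_{e_i = j} p_i` determines the class, and the number of such
sequences with `∑ j deg f_j = n` is `K q n n ≤ q^n - 1`.
-/

set_option autoImplicit false
set_option linter.unusedVariables false
set_option linter.unusedSectionVars false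
set_option linter.style.longLine false

namespace Cfsg.Agent.Lib.Helper2.GLk

open Polynomial

universe u

variable {F : Type u} [Field F]

/-- the `F[X]`-module attached to a square matrix -/
abbrev Mod {n : ℕ} (A : Matrix (Fin n) (Fin n) F) : Type u := Module.AEval' (Matrix.toLin' A)

/-- monic polynomials of degree `m` with nonzero constant term -/
def MonicNZ (F : Type u) [Field F] (m : ℕ) : Set F[X] := {g | g.Monic ∧ g.natDegree = m ∧ g.coeff 0 ≠ 0}

/-- sequences `(f_0, …, f_{N-1})` of monic polynomials with nonzero constant terms and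
`∑ (j+1) deg f_j = n` -/
def T (F : Type u) [Field F] (N n : ℕ) : Set (Fin N → F[X]) :=
  {f | (∀ j, (f j).Monic ∧ (f j).coeff 0 ≠ 0) ∧ ∑ j : Fin N, (j.val + 1) * (f j).natDegree = n}

/-- number of monic polynomials of degree `m` with nonzero constant term over a field with `q` elements -/
def c (q m : ℕ) : ℕ := if m = 0 then 1 else q ^ m - q ^ (m - 1)

/-- the counting function: number of elements of `T F N n` when `|F| = q` -/
def K (q : ℕ) : ℕ → ℕ → ℕ
  | 0, n => if n = 0 then 1 else 0
  | (N + 1), n => ∑ m ∈ Finset.range (n / (N + 1) + 1), c q m * K q N (n - (N + 1) * m)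

/-- the sequence attached to a primary decomposition -/
noncomputable def seqOf {k : ℕ} (n : ℕ) (p : Fin k → F[X]) (e : Fin k → ℕ) : Fin n → F[X] :=
  fun j => ∏ i ∈ Finset.univ.filter (fun i => e i = j.val + 1), p i

end Cfsg.Agent.Lib.Helper2.GLk
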