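import Mathlib
import Cfsg.Agent.Lib.Helper2.GLkDefs
import Cfsg.Agent.Lib.Helper7.GLkMonic

set_option autoImplicit false
set_option linter.unusedVariables false
set_option linter.unusedSectionVars false
set_option linter.style.longLine false
set_option linter.style.haveILetI false

namespace Cfsg.Agent.Lib.Helper2.GLk

open Polynomial

universe u

variable {F : Type u} [Field F]

theorem exists_charpoly_eq {n : ℕ} (g : F[X]) (hg : g ∈ MonicNZ F n) :
    ∃ A : GL (Fin n) F, (A : Matrix (Fin n) (Fin n) F).charpoly = g := by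
  classical
  obtain ⟨hmon, hdeg, h0⟩ := hg
  have hne : g ≠ 0 := hmon.ne_zero
  let pb := AdjoinRoot.powerBasis hne
  have hdim : pb.dim = n := by simp [pb, hdeg]
  let M0 : Matrix (Fin pb.dim) (Fin pb.dim) F := Algebra.leftMulMatrix pb.basis pb.gen
  have hM0 : M0.charpoly = g := by
    rw [_root_.charpoly_leftMulMatrix pb]
    exact AdjoinRoot.minpoly_powerBasis_gen_of_monic hmon hne
  let ε : Fin pb.dim ≃ Fin n := finCongr hdim
  let M : Matrix (Fin n) (Fin n) F := Matrix.reindex ε ε M0
  have hM : M.charpoly = g := by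
    rw [Matrix.charpoly_reindex, hM0]
  have hdet : M.det ≠ 0 := by
    rw [Matrix.det_eq_sign_charpoly_coeff, hM]
    exact mul_ne_zero (pow_ne_zero _ (by norm_num)) h0
  refine ⟨Matrix.GeneralLinearGroup.mkOfDetNeZero M hdet, ?_⟩
  simp [hM]

theorem lower [Fintype F] (n : ℕ) (hn : 1 ≤ n) :
    Fintype.card F ^ n - Fintype.card F ^ (n - 1) ≤ Nat.card (ConjClasses (GL (Fin n) F)) := by
  classical
  have hc : Nat.card (MonicNZ F n) = Fintype.card F ^ n - Fintype.card F ^ (n - 1) := by
    rw [card_monicNZ, c, if_neg (by omega)]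
  rw [← hc]
  have hex : ∀ g : MonicNZ F n, ∃ A : GL (Fin n) F, (A : Matrix (Fin n) (Fin n) F).charpoly = g.1 :=
    fun g => exists_charpoly_eq g.1 g.2
  choose A hA using hex
  refine Nat.card_le_card_of_injective (fun g => ConjClasses.mk (A g)) ?_
  intro g g' h
  have hconj : IsConj (A g) (A g') := ConjClasses.mk_eq_mk_iff_isConj.1 h
  obtain ⟨P, hP⟩ := isConj_iff.1 hconj
  have h1 : ((A g' : GL (Fin n) F) : Matrix (Fin n) (Fin n) F) =
      (P : Matrix (Fin n) (Fin n) F) * (A g : Matrix (Fin n) (Fin n) F) * ((P⁻¹ : GL (Fin n) F) : Matrix (Fin n) (Fin n) F) := by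
    rw [← hP]; simp
  have h2 : ((A g' : GL (Fin n) F) : Matrix (Fin n) (Fin n) F).charpoly =
      ((A g : GL (Fin n) F) : Matrix (Fin n) (Fin n) F).charpoly := by
    rw [h1]
    have := Matrix.charpoly_units_conj (P : (Matrix (Fin n) (Fin n) F)ˣ) ((A g : GL (Fin n) F) : Matrix (Fin n) (Fin n) F)
    simpa using this
  apply Subtype.ext
  rw [← hA g, ← hA g', h2]

end Cfsg.Agent.Lib.Helper2.GLk
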