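import Mathlib
import Cfsg.Agent.Lib.Helper2.GLkDefs

set_option autoImplicit false
set_option linter.unusedVariables false
set_option linter.unusedSectionVars false
set_option linter.style.longLine false
set_option linter.style.haveILetI false

namespace Cfsg.Agent.Lib.Helper2.GLk

open Polynomial

universe u

variable {F : Type u} [Field F]

/-- the polynomial `X^m + ∑ v_i X^i` -/
noncomputable def h2poly {m : ℕ} (v : Fin m → F) : F[X] :=
  X ^ m + ∑ i : Fin m, C (v i) * X ^ (i : ℕ)

theorem h2poly_monic {m : ℕ} (v : Fin m → F) : (h2poly v).Monic :=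
  Polynomial.monic_X_pow_add (Polynomial.degree_sum_fin_lt v)

theorem h2poly_natDegree {m : ℕ} (v : Fin m → F) : (h2poly v).natDegree = m := by
  have hlt := Polynomial.degree_sum_fin_lt v
  have h1 : (h2poly v).degree = m := by
    unfold h2poly
    rw [Polynomial.degree_add_eq_left_of_degree_lt]
    · exact Polynomial.degree_X_pow m
    · rw [Polynomial.degree_X_pow]; exact hlt
  exact Polynomial.natDegree_eq_of_degree_eq_some h1

theorem h2poly_coeff {m : ℕ} (v : Fin m → F) (i : Fin m) : (h2poly v).coeff i = v i := by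
  classical
  unfold h2poly
  rw [coeff_add, coeff_X_pow, if_neg (by have := i.2; omega), zero_add, finsetSum_coeff]
  rw [Finset.sum_eq_single i]
  · simp
  · intro j _ hj
    rw [coeff_C_mul, coeff_X_pow, if_neg (fun h => hj (Fin.ext h.symm)), mul_zero]
  · intro h; exact absurd (Finset.mem_univ i) h

theorem h2poly_injective {m : ℕ} : Function.Injective (h2poly (F := F) (m := m)) := by
  intro v w h
  funext i
  rw [← h2poly_coeff v i, ← h2poly_coeff w i, h]

theorem h2poly_surj {m : ℕ} (g : F[X]) (hg : g.Monic) (hdeg : g.natDegree = m) :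
    h2poly (fun i : Fin m => g.coeff i) = g := by
  unfold h2poly
  conv_rhs => rw [hg.as_sum, hdeg]
  congr 1
  rw [Fin.sum_univ_eq_sum_range (fun i => C (g.coeff i) * X ^ i) m]

/-- coefficient vectors with nonzero constant term -/
def h2V (F : Type u) [Field F] (m : ℕ) : Set (Fin m → F) := {v | ∀ h : 0 < m, v ⟨0, h⟩ ≠ 0}

theorem h2_image {m : ℕ} : h2poly '' (h2V F m) = MonicNZ F m := by
  ext g
  constructor
  · rintro ⟨v, hv, rfl⟩
    refine ⟨h2poly_monic v, h2poly_natDegree v, ?_⟩
    rcases Nat.eq_zero_or_pos m with h0 | h0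
    · subst h0
      have : h2poly v = 1 := by simp [h2poly]
      rw [this]; simp
    · have := h2poly_coeff v ⟨0, h0⟩
      simp only at this
      rw [this]
      exact hv h0
  · rintro ⟨hmon, hdeg, h0⟩
    refine ⟨fun i : Fin m => g.coeff i, ?_, h2poly_surj g hmon hdeg⟩
    intro h
    exact h0

theorem h2_monicNZ_finite [Fintype F] (m : ℕ) : (MonicNZ F m).Finite := by
  rw [← h2_image]
  exact (Set.toFinite _).image _

theorem h2_card_V [Fintype F] (m : ℕ) : Nat.card (h2V F m) = c (Fintype.card F) m := by
  classical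
  rcases Nat.eq_zero_or_pos m with h0 | h0
  · subst h0
    have : h2V F 0 = Set.univ := by
      ext v; simp [h2V]
    rw [this, Nat.card_coe_set_eq, Set.ncard_univ, Nat.card_eq_fintype_card]
    simp [c]
  · obtain ⟨k, rfl⟩ : ∃ k, m = k + 1 := ⟨m - 1, by omega⟩
    have hset : h2V F (k + 1) = {v | v 0 ≠ 0} := by
      ext v
      show (∀ h : 0 < k + 1, v ⟨0, h⟩ ≠ 0) ↔ v 0 ≠ 0
      constructor
      · intro h; exact h (Nat.succ_pos k)
      · intro h _; exact h
    rw [hset, c, if_neg (Nat.succ_ne_zero k), Nat.add_sub_cancel]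
    show Nat.card {v : Fin (k + 1) → F // v 0 ≠ 0} = _
    rw [Nat.card_eq_fintype_card]
    have h1 : Fintype.card {v : Fin (k + 1) → F // v 0 ≠ 0} =
        Fintype.card (Fin (k + 1) → F) - Fintype.card {v : Fin (k + 1) → F // v 0 = 0} := by
      rw [Fintype.card_subtype_compl]
    have h2 : Fintype.card {v : Fin (k + 1) → F // v 0 = 0} = Fintype.card F ^ k := by
      have e : {v : Fin (k + 1) → F // v 0 = 0} ≃ (Fin k → F) :=
        { toFun := fun v i => v.1 i.succ
          invFun := fun w => ⟨Fin.cons 0 w, by simp⟩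
          left_inv := by
            rintro ⟨v, hv⟩
            apply Subtype.ext
            funext i
            refine Fin.cases ?_ (fun j => ?_) i
            · simp [hv]
            · simp
          right_inv := by
            intro w
            funext i
            simp }
      rw [Fintype.card_congr e]
      simp
    have h3 : Fintype.card (Fin (k + 1) → F) = Fintype.card F ^ (k + 1) := by simp
    have h4 : Fintype.card {v : Fin (k + 1) → F // v 0 ≠ 0} = Fintype.card F ^ (k + 1) - Fintype.card F ^ k := by
      rw [h1, h2, h3]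
    exact h4

theorem h2_card_monicNZ [Fintype F] (m : ℕ) : Nat.card (MonicNZ F m) = c (Fintype.card F) m := by
  rw [← h2_card_V m, ← h2_image]
  rw [Nat.card_coe_set_eq, Nat.card_coe_set_eq]
  exact Set.ncard_image_of_injective _ h2poly_injective

end Cfsg.Agent.Lib.Helper2.GLk
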