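import Mathlib
import Cfsg.Agent.Lib.Helper2.GLkDefs
import Cfsg.Agent.Lib.Helper9.GLkConj
import Cfsg.Agent.Lib.Helper9.GLkNum
import Cfsg.Agent.Lib.Helper4.GLkDecomp
import Cfsg.Agent.Lib.Helper7.GLkCount
import Cfsg.Agent.Lib.Helper5.GLkUnique

set_option autoImplicit false
set_option linter.unusedVariables false
set_option linter.unusedSectionVars false
set_option linter.style.longLine false
set_option linter.style.haveILetI false

namespace Cfsg.Agent.Lib.Helper2.GLk

open Polynomial

universe u

variable {F : Type u} [Field F]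

theorem h2_e_le {k n : ℕ} (p : Fin k → F[X]) (e : Fin k → ℕ)
    (hp : ∀ i, (p i).Monic ∧ Irreducible (p i) ∧ (p i).coeff 0 ≠ 0 ∧ 1 ≤ e i)
    (hsum : ∑ i, e i * (p i).natDegree = n) (i : Fin k) : e i ≤ n := by
  have h1 : 1 ≤ (p i).natDegree := (hp i).2.1.natDegree_pos
  have h2 : e i * (p i).natDegree ≤ ∑ i, e i * (p i).natDegree :=
    Finset.single_le_sum (f := fun i => e i * (p i).natDegree) (fun _ _ => Nat.zero_le _) (Finset.mem_univ i)
  calc e i = e i * 1 := (Nat.mul_one _).symm
    _ ≤ e i * (p i).natDegree := Nat.mul_le_mul_left _ h1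
    _ ≤ n := hsum ▸ h2

theorem seqOf_mem_T {k n : ℕ} (p : Fin k → F[X]) (e : Fin k → ℕ)
    (hp : ∀ i, (p i).Monic ∧ Irreducible (p i) ∧ (p i).coeff 0 ≠ 0 ∧ 1 ≤ e i)
    (hsum : ∑ i, e i * (p i).natDegree = n) : seqOf n p e ∈ T F n n := by
  classical
  refine ⟨fun j => ⟨?_, ?_⟩, ?_⟩
  · exact Polynomial.monic_prod_of_monic _ _ (fun i _ => (hp i).1)
  · unfold seqOf
    rw [Polynomial.coeff_zero_eq_eval_zero, Polynomial.eval_prod, Finset.prod_ne_zero_iff]
    intro i _
    rw [← Polynomial.coeff_zero_eq_eval_zero]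
    exact (hp i).2.2.1
  · have hle := h2_e_le p e hp hsum
    have hdeg : ∀ j : Fin n, (seqOf n p e j).natDegree =
        ∑ i ∈ Finset.univ.filter (fun i => e i = j.val + 1), (p i).natDegree := by
      intro j
      unfold seqOf
      exact Polynomial.natDegree_prod_of_monic _ _ (fun i _ => (hp i).1)
    -- the index map
    let φ : Fin k → Fin n := fun i => ⟨e i - 1, by have := hle i; have := (hp i).2.2.2; omega⟩
    have hφ : ∀ (i : Fin k) (j : Fin n), e i = j.val + 1 ↔ φ i = j := by
      intro i j
      have := (hp i).2.2.2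
      constructor
      · intro h; apply Fin.ext; simp only [φ]; omega
      · intro h; have := congrArg Fin.val h; simp only [φ] at this; omega
    calc ∑ j : Fin n, (j.val + 1) * (seqOf n p e j).natDegree
        = ∑ j : Fin n, ∑ i ∈ Finset.univ.filter (fun i => φ i = j), e i * (p i).natDegree := by
          refine Finset.sum_congr rfl (fun j _ => ?_)
          rw [hdeg j, Finset.mul_sum]
          have hfil : Finset.univ.filter (fun i => e i = j.val + 1) = Finset.univ.filter (fun i => φ i = j) := by
            ext i; simp [hφ i j]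
          rw [hfil]
          refine Finset.sum_congr rfl (fun i hi => ?_)
          have : φ i = j := (Finset.mem_filter.1 hi).2
          rw [((hφ i j).2 this)]
      _ = ∑ i, e i * (p i).natDegree := Finset.sum_fiberwise _ _ _
      _ = n := hsum

theorem upper [Fintype F] (n : ℕ) (hn : 1 ≤ n) :
    Nat.card (ConjClasses (GL (Fin n) F)) ≤ Fintype.card F ^ n := by
  classical
  set q := Fintype.card F with hq
  have hq2 : 2 ≤ q := Fintype.one_lt_card
  -- choose data
  have hdec : ∀ C : ConjClasses (GL (Fin n) F), ∃ (A : GL (Fin n) F) (k : ℕ) (p : Fin k → F[X]) (e : Fin k → ℕ),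
      ConjClasses.mk A = C ∧
      (∀ i, (p i).Monic ∧ Irreducible (p i) ∧ (p i).coeff 0 ≠ 0 ∧ 1 ≤ e i) ∧
      (∑ i, e i * (p i).natDegree = n) ∧
      Nonempty (Mod (A : Matrix (Fin n) (Fin n) F) ≃ₗ[F[X]]
        DirectSum (Fin k) (fun i => F[X] ⧸ Submodule.span F[X] {p i ^ e i})) := by
    intro C
    obtain ⟨A, rfl⟩ := ConjClasses.mk_surjective C
    obtain ⟨k, p, e, h1, h2, h3⟩ := exists_decomp A
    exact ⟨A, k, p, e, rfl, h1, h2, h3⟩
  choose A k p e hA hp hsum hiso using hdec
  haveI : Finite (T F n n) := (T_finite n n).to_subtype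
  let Φ : ConjClasses (GL (Fin n) F) → T F n n :=
    fun C => ⟨seqOf n (p C) (e C), seqOf_mem_T (p C) (e C) (hp C) (hsum C)⟩
  have hΦ : Function.Injective Φ := by
    intro C C' hCC
    have hseq : seqOf n (p C) (e C) = seqOf n (p C') (e C') := congrArg Subtype.val hCC
    have hprod : ∀ j : ℕ, ∏ i ∈ Finset.univ.filter (fun i => e C i = j), p C i =
        ∏ i ∈ Finset.univ.filter (fun i => e C' i = j), p C' i := by
      intro j
      by_cases hj : 1 ≤ j ∧ j ≤ n
      · have := congrFun hseq ⟨j - 1, by omega⟩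
        unfold seqOf at this
        have hj' : j - 1 + 1 = j := by omega
        simp only [hj'] at this
        exact this
      · have h1 : Finset.univ.filter (fun i => e C i = j) = ∅ := by
          ext i
          simp only [Finset.mem_filter, Finset.mem_univ, true_and, Finset.notMem_empty, iff_false]
          intro h
          have := h2_e_le (p C) (e C) (hp C) (hsum C) i
          have := (hp C i).2.2.2
          omega
        have h2 : Finset.univ.filter (fun i => e C' i = j) = ∅ := by
          ext i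
          simp only [Finset.mem_filter, Finset.mem_univ, true_and, Finset.notMem_empty, iff_false]
          intro h
          have := h2_e_le (p C') (e C') (hp C') (hsum C') i
          have := (hp C' i).2.2.2
          omega
        rw [h1, h2, Finset.prod_empty, Finset.prod_empty]
    obtain ⟨E⟩ := equiv_of_prod_eq (p C) (e C) (p C') (e C')
      (fun i => ⟨(hp C i).1, (hp C i).2.1⟩) (fun i => ⟨(hp C' i).1, (hp C' i).2.1⟩) hprod
    obtain ⟨E1⟩ := hiso C
    obtain ⟨E2⟩ := hiso C'
    have hconj : IsConj (A C) (A C') := conj_of_equiv (A C) (A C') ⟨(E1.trans E).trans E2.symm⟩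
    rw [← hA C, ← hA C']
    exact ConjClasses.mk_eq_mk_iff_isConj.2 hconj
  have h1 : Nat.card (ConjClasses (GL (Fin n) F)) ≤ Nat.card (T F n n) :=
    Nat.card_le_card_of_injective Φ hΦ
  have h2 : Nat.card (T F n n) = K q n n := card_T n n
  have h3 : q ^ n * K q n n ≤ (q ^ n - 1) * q ^ n := K_bound q hq2 n hn n hn
  have hqn : 0 < q ^ n := pos_of_gt (Nat.one_lt_pow (by omega) hq2) |>.trans_le le_rfl
  have h4 : K q n n ≤ q ^ n - 1 := by
    rw [mul_comm (q ^ n - 1)] at h3
    exact Nat.le_of_mul_le_mul_left h3 hqn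
  omega

end Cfsg.Agent.Lib.Helper2.GLk
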