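import Mathlib
import Cfsg.Agent.Lib.Helper6.GUCDefs

set_option autoImplicit false
set_option linter.unusedSectionVars false
set_option linter.unusedVariables false
set_option linter.unusedSimpArgs false
set_option linter.style.haveILetI false

/-!
Farm GUC (statement S2646), unit C: the model hermitian form `H0` and the involution `cdag` on the
Toeplitz parameters (entrywise matrix checks).
-/

namespace Cfsg.Agent.Lib.Helper2.GUC

open Matrix Cfsg.Agent.Lib.Helper6.GLC Cfsg.Agent.Lib.Helper6.GUC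

universe u

variable {K : Type u} [Field K] (σ : K →+* K) {t : ℕ}

/-! ### auxiliary: indices -/

theorem idx_ext {d : Fin t → ℕ} {x y : Idx d} (h1 : x.1 = y.1) (h2 : (x.2 : ℕ) = (y.2 : ℕ)) :
    x = y := by
  obtain ⟨k, r⟩ := x
  obtain ⟨l, s⟩ := y
  simp only at h1 h2
  subst h1
  have : r = s := Fin.ext h2
  subst this
  rfl

/-- the index `(k, d k - 1 - r)` opposite to `(k, r)` -/
def bar (d : Fin t → ℕ) (x : Idx d) : Idx d :=
  ⟨x.1, ⟨d x.1 - 1 - (x.2 : ℕ), by have := x.2.isLt; omega⟩⟩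

theorem bar_fst (d : Fin t → ℕ) (x : Idx d) : (bar d x).1 = x.1 := rfl

theorem bar_snd (d : Fin t → ℕ) (x : Idx d) : ((bar d x).2 : ℕ) = d x.1 - 1 - (x.2 : ℕ) := rfl

theorem neg_one_pow_mul_self (n : ℕ) : ((-1 : K) ^ n) * ((-1) ^ n) = 1 := by
  rw [← mul_pow]; simp

theorem H0inv_apply (ε : K) (d : Fin t → ℕ) (x y : Idx d) :
    H0inv ε d x y =
      if x.1 = y.1 ∧ (x.2 : ℕ) + (y.2 : ℕ) + 1 = d x.1 then
        (-1) ^ (y.2 : ℕ) * (Cc ε (d x.1))⁻¹ else 0 := rfl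

theorem H0_eq_zero_left (ε : K) (d : Fin t → ℕ) {x y : Idx d} (h : y ≠ bar d x) :
    H0 ε d x y = 0 := by
  rw [H0_apply, if_neg]
  rintro ⟨h1, h2⟩
  apply h
  refine idx_ext (y := bar d x) h1.symm ?_
  rw [bar_snd]; omega

theorem H0_eq_zero_right (ε : K) (d : Fin t → ℕ) {y z : Idx d} (h : y ≠ bar d z) :
    H0 ε d y z = 0 := by
  rw [H0_apply, if_neg]
  rintro ⟨h1, h2⟩
  apply h
  refine idx_ext (y := bar d z) h1 ?_
  rw [bar_snd]
  have h3 : d y.1 = d z.1 := congrArg d h1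
  omega

theorem H0inv_eq_zero_left (ε : K) (d : Fin t → ℕ) {x y : Idx d} (h : y ≠ bar d x) :
    H0inv ε d x y = 0 := by
  rw [H0inv_apply, if_neg]
  rintro ⟨h1, h2⟩
  apply h
  refine idx_ext (y := bar d x) h1.symm ?_
  rw [bar_snd]; omega

theorem H0_apply_bar (ε : K) (d : Fin t → ℕ) (x : Idx d) :
    H0 ε d x (bar d x) = (-1) ^ (x.2 : ℕ) * Cc ε (d x.1) := by
  rw [H0_apply, if_pos]
  refine ⟨rfl, ?_⟩
  rw [bar_snd]
  have := x.2.isLt; omega

theorem H0_bar_apply (ε : K) (d : Fin t → ℕ) (z : Idx d) :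
    H0 ε d (bar d z) z = (-1) ^ (d z.1 - 1 - (z.2 : ℕ)) * Cc ε (d z.1) := by
  rw [H0_apply, if_pos]
  · rfl
  refine ⟨rfl, ?_⟩
  rw [bar_snd, bar_fst]
  have := z.2.isLt; omega

theorem H0inv_apply_bar (ε : K) (d : Fin t → ℕ) (x : Idx d) :
    H0inv ε d x (bar d x) = (-1) ^ (d x.1 - 1 - (x.2 : ℕ)) * (Cc ε (d x.1))⁻¹ := by
  rw [H0inv_apply, if_pos]
  · rfl
  refine ⟨rfl, ?_⟩
  rw [bar_snd]
  have := x.2.isLt; omega

theorem sum_H0_left (ε : K) (d : Fin t → ℕ) (f : Idx d → K) (x : Idx d) :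
    ∑ y, H0 ε d x y * f y = (-1) ^ (x.2 : ℕ) * Cc ε (d x.1) * f (bar d x) := by
  rw [Finset.sum_eq_single (bar d x), H0_apply_bar]
  · intro y _ hy
    rw [H0_eq_zero_left ε d hy, zero_mul]
  · intro h; exact absurd (Finset.mem_univ _) h

theorem sum_H0_right (ε : K) (d : Fin t → ℕ) (f : Idx d → K) (z : Idx d) :
    ∑ y, f y * H0 ε d y z =
      f (bar d z) * ((-1) ^ (d z.1 - 1 - (z.2 : ℕ)) * Cc ε (d z.1)) := by
  rw [Finset.sum_eq_single (bar d z), H0_bar_apply]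
  · intro y _ hy
    rw [H0_eq_zero_right ε d hy, mul_zero]
  · intro h; exact absurd (Finset.mem_univ _) h

theorem sum_H0inv_left (ε : K) (d : Fin t → ℕ) (f : Idx d → K) (x : Idx d) :
    ∑ y, H0inv ε d x y * f y =
      (-1) ^ (d x.1 - 1 - (x.2 : ℕ)) * (Cc ε (d x.1))⁻¹ * f (bar d x) := by
  rw [Finset.sum_eq_single (bar d x), H0inv_apply_bar]
  · intro y _ hy
    rw [H0inv_eq_zero_left ε d hy, zero_mul]
  · intro h; exact absurd (Finset.mem_univ _) h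

theorem H0inv_bar_apply (ε : K) (d : Fin t → ℕ) (x z : Idx d) :
    H0inv ε d (bar d x) z =
      if x = z then (-1) ^ (x.2 : ℕ) * (Cc ε (d x.1))⁻¹ else 0 := by
  by_cases hxz : x = z
  · subst hxz
    rw [if_pos rfl, H0inv_apply, if_pos]
    · rfl
    refine ⟨rfl, ?_⟩
    rw [bar_snd, bar_fst]
    have := x.2.isLt; omega
  · rw [if_neg hxz, H0inv_apply, if_neg]
    rintro ⟨h1, h2⟩
    apply hxz
    refine idx_ext (x := x) (y := z) h1 ?_
    rw [bar_snd, bar_fst] at h2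
    have := x.2.isLt; omega

theorem H0_bar_apply' (ε : K) (d : Fin t → ℕ) (x z : Idx d) :
    H0 ε d (bar d x) z =
      if x = z then (-1) ^ (d x.1 - 1 - (x.2 : ℕ)) * Cc ε (d x.1) else 0 := by
  by_cases hxz : x = z
  · subst hxz
    rw [if_pos rfl, H0_bar_apply]
  · rw [if_neg hxz, H0_apply, if_neg]
    rintro ⟨h1, h2⟩
    apply hxz
    refine idx_ext (x := x) (y := z) h1 ?_
    rw [bar_snd, bar_fst] at h2
    have := x.2.isLt; omega

/-! ## Unit C -/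

section C

variable (hσ : ∀ a, σ (σ a) = a) {ε : K} (hε0 : ε ≠ 0) (hε : σ ε = -ε) (d : Fin t → ℕ)

theorem Cc_ne_zero (hε0 : ε ≠ 0) (i : ℕ) : Cc ε i ≠ 0 := pow_ne_zero _ hε0

theorem Cc_conj (hε : σ ε = -ε) (i : ℕ) : σ (Cc ε i) = (-1) ^ (i - 1) * Cc ε i := by
  unfold Cc
  rw [map_pow, hε, neg_pow]

theorem H0_herm (hε : σ ε = -ε) : ct σ (H0 ε d) = H0 ε d := by
  ext x y
  rw [ct_apply, H0_apply, H0_apply]
  by_cases h : y.1 = x.1 ∧ (y.2 : ℕ) + (x.2 : ℕ) + 1 = d y.1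
  · obtain ⟨h1, h2⟩ := h
    have hd : d y.1 = d x.1 := congrArg d h1
    have h3 : x.1 = y.1 ∧ (x.2 : ℕ) + (y.2 : ℕ) + 1 = d x.1 := ⟨h1.symm, by omega⟩
    have hC : Cc ε (d y.1) = Cc ε (d x.1) := by rw [hd]
    have h4 : (y.2 : ℕ) + (d y.1 - 1) = (x.2 : ℕ) + 2 * (y.2 : ℕ) := by omega
    rw [if_pos ⟨h1, h2⟩, if_pos h3, map_mul, map_pow, map_neg, map_one, Cc_conj σ hε, ← mul_assoc,
      ← pow_add, hC, h4, pow_add, pow_mul]
    simp
  · have h3 : ¬ (x.1 = y.1 ∧ (x.2 : ℕ) + (y.2 : ℕ) + 1 = d x.1) := by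
      rintro ⟨h1, h2⟩
      have hd : d x.1 = d y.1 := congrArg d h1
      exact h ⟨h1.symm, by omega⟩
    rw [if_neg h, if_neg h3, map_zero]

theorem H0_mul_H0inv (hε0 : ε ≠ 0) : H0 ε d * H0inv ε d = 1 := by
  ext x z
  rw [Matrix.mul_apply,
    show (∑ y, H0 ε d x y * H0inv ε d y z) = _ from sum_H0_left ε d (fun y => H0inv ε d y z) x,
    H0inv_bar_apply, Matrix.one_apply]
  by_cases hxz : x = z
  · rw [if_pos hxz, if_pos hxz, mul_mul_mul_comm, neg_one_pow_mul_self,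
      mul_inv_cancel₀ (Cc_ne_zero hε0 _), one_mul]
  · rw [if_neg hxz, if_neg hxz, mul_zero]

theorem H0inv_mul_H0 (hε0 : ε ≠ 0) : H0inv ε d * H0 ε d = 1 := by
  ext x z
  rw [Matrix.mul_apply,
    show (∑ y, H0inv ε d x y * H0 ε d y z) = _ from sum_H0inv_left ε d (fun y => H0 ε d y z) x,
    H0_bar_apply', Matrix.one_apply]
  by_cases hxz : x = z
  · rw [if_pos hxz, if_pos hxz, mul_mul_mul_comm, neg_one_pow_mul_self,
      inv_mul_cancel₀ (Cc_ne_zero hε0 _), one_mul]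
  · rw [if_neg hxz, if_neg hxz, mul_zero]

theorem Nil_apply (d : Fin t → ℕ) (x y : Idx d) :
    Nil K d x y = if x.1 = y.1 ∧ (x.2 : ℕ) = (y.2 : ℕ) + 1 then 1 else 0 := rfl

theorem ct_Nil_mul_H0 : ct σ (Nil K d) * H0 ε d = -(H0 ε d * Nil K d) := by
  ext x z
  rw [Matrix.neg_apply, Matrix.mul_apply, Matrix.mul_apply,
    show (∑ y, ct σ (Nil K d) x y * H0 ε d y z) = _ from
      sum_H0_right ε d (fun y => ct σ (Nil K d) x y) z,
    show (∑ y, H0 ε d x y * Nil K d y z) = _ from sum_H0_left ε d (fun y => Nil K d y z) x,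
    ct_apply, Nil_apply, Nil_apply]
  have hx := x.2.isLt
  have hz := z.2.isLt
  by_cases h : x.1 = z.1 ∧ (x.2 : ℕ) + (z.2 : ℕ) + 2 = d x.1
  · obtain ⟨h1, h2⟩ := h
    have h3 : d z.1 = d x.1 := (congrArg d h1).symm
    have hC : Cc ε (d z.1) = Cc ε (d x.1) := by rw [h3]
    have h4 : d z.1 - 1 - (z.2 : ℕ) = (x.2 : ℕ) + 1 := by omega
    rw [if_pos (show (bar d z).1 = x.1 ∧ ((bar d z).2 : ℕ) = (x.2 : ℕ) + 1 from
        ⟨h1.symm, by rw [bar_snd]; omega⟩),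
      if_pos (show (bar d x).1 = z.1 ∧ ((bar d x).2 : ℕ) = (z.2 : ℕ) + 1 from
        ⟨h1, by rw [bar_snd]; omega⟩), map_one, one_mul, mul_one, hC, h4, pow_succ]
    ring
  · have h3 : ¬ ((bar d z).1 = x.1 ∧ ((bar d z).2 : ℕ) = (x.2 : ℕ) + 1) := by
      rintro ⟨h1, h2⟩
      apply h
      have h1' : z.1 = x.1 := h1
      refine ⟨h1'.symm, ?_⟩
      have h5 : d z.1 = d x.1 := congrArg d h1'
      rw [bar_snd] at h2
      omega
    have h4 : ¬ ((bar d x).1 = z.1 ∧ ((bar d x).2 : ℕ) = (z.2 : ℕ) + 1) := by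
      rintro ⟨h1, h2⟩
      apply h
      rw [bar_snd] at h2
      exact ⟨h1, by omega⟩
    rw [if_neg h3, if_neg h4, map_zero, zero_mul, mul_zero, neg_zero]

end C

end Cfsg.Agent.Lib.Helper2.GUC
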