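import Mathlib
import Cfsg.Agent.Lib.Helper2.GUCC

set_option autoImplicit false
set_option linter.unusedSectionVars false
set_option linter.unusedVariables false
set_option linter.unusedSimpArgs false
set_option linter.style.haveILetI false

/-!
Farm GUC (statement S2646), unit C, second half: the adjoint of a Toeplitz matrix.
-/

namespace Cfsg.Agent.Lib.Helper2.GUC

open Matrix Cfsg.Agent.Lib.Helper6.GLC Cfsg.Agent.Lib.Helper6.GUC

universe u

variable {K : Type u} [Field K] (σ : K →+* K) {t : ℕ}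

section C

variable (hσ : ∀ a, σ (σ a) = a) {ε : K} (hε0 : ε ≠ 0) (hε : σ ε = -ε) (d : Fin t → ℕ)

theorem Gbar_cdag (hε0 : ε ≠ 0) (hd : ∀ k, 1 ≤ d k) (c : Par d → K) (i : ℕ) :
    Gbar d hd (cdag σ ε d c) i = ct σ (Gbar d hd c i) := by
  ext k l
  rw [ct_apply]
  unfold Gbar
  rw [Matrix.of_apply, Matrix.of_apply]
  unfold cdag
  simp only
  have hk := k.2
  have hl := l.2
  have e1 : Cc ε (d l.1) * (Cc ε (d k.1))⁻¹ = 1 := by
    rw [hk, hl]; exact mul_inv_cancel₀ (Cc_ne_zero hε0 i)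
  have e2 : (-1 : K) ^ (d k.1 + d l.1 + 0) = 1 := by
    rw [hk, hl, add_zero, ← two_mul, pow_mul]; simp
  rw [e1, e2, one_mul, one_mul]
  apply congrArg σ
  apply par_congr
  omega

theorem H0_mul_toMat_cdag (hε0 : ε ≠ 0) (hε : σ ε = -ε) (c : Par d → K) :
    H0 ε d * toMat d (cdag σ ε d c) = ct σ (toMat d c) * H0 ε d := by
  ext x z
  rw [Matrix.mul_apply, Matrix.mul_apply,
    show (∑ y, H0 ε d x y * toMat d (cdag σ ε d c) y z) = _ from
      sum_H0_left ε d (fun y => toMat d (cdag σ ε d c) y z) x,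
    show (∑ y, ct σ (toMat d c) x y * H0 ε d y z) = _ from
      sum_H0_right ε d (fun y => ct σ (toMat d c) x y) z,
    ct_apply, toMat_apply, toMat_apply]
  obtain ⟨k, r⟩ := x
  obtain ⟨l, s⟩ := z
  have hr := r.isLt
  have hs := s.isLt
  split_ifs with h1 h2 h2
  · unfold cdag
    simp only [bar_snd, bar_fst]
    simp only [bar_snd, bar_fst] at h1 h2
    have key : ∀ X Y : K, X = Y →
        (-1) ^ (r : ℕ) * Cc ε (d k) *
          ((-1) ^ (d k + d l + (d k - 1 - (r : ℕ) - (s : ℕ))) * (Cc ε (d l) * (Cc ε (d k))⁻¹) * X) =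
        Y * ((-1) ^ (d l - 1 - (s : ℕ)) * Cc ε (d l)) := by
      intro X Y hXY
      subst hXY
      have hC := Cc_ne_zero hε0 (d k)
      have e1 : (r : ℕ) + (d k + d l + (d k - 1 - (r : ℕ) - (s : ℕ))) =
          (d l - 1 - (s : ℕ)) + 2 * d k := by omega
      have e2 : (-1 : K) ^ (r : ℕ) * (-1) ^ (d k + d l + (d k - 1 - (r : ℕ) - (s : ℕ))) =
          (-1) ^ (d l - 1 - (s : ℕ)) := by
        rw [← pow_add, e1, pow_add, pow_mul]; simp
      calc (-1) ^ (r : ℕ) * Cc ε (d k) *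
            ((-1) ^ (d k + d l + (d k - 1 - (r : ℕ) - (s : ℕ))) *
              (Cc ε (d l) * (Cc ε (d k))⁻¹) * X)
          = ((-1) ^ (r : ℕ) * (-1) ^ (d k + d l + (d k - 1 - (r : ℕ) - (s : ℕ)))) *
              (Cc ε (d k) * (Cc ε (d k))⁻¹) * (Cc ε (d l) * X) := by ring
        _ = X * ((-1) ^ (d l - 1 - (s : ℕ)) * Cc ε (d l)) := by
            rw [e2, mul_inv_cancel₀ hC]; ring
    apply key
    apply congrArg σ
    apply par_congr
    omega
  · exfalso
    apply h2
    simp only [bar_snd, bar_fst] at h1 ⊢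
    omega
  · exfalso
    apply h1
    simp only [bar_snd, bar_fst] at h2 ⊢
    omega
  · rw [mul_zero, map_zero, zero_mul]

end C

end Cfsg.Agent.Lib.Helper2.GUC
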