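import Mathlib
import Cfsg.Prelude.Def_LieClassical
import Cfsg.Prelude.Def_CaseTheorems
import Cfsg.Agent.Lib.Helper2.SylowRecog
import Cfsg.Agent.Lib.Helper2.GLTwoArith
import Cfsg.Agent.Lib.Helper2.GLTwoWr
import Cfsg.Agent.Lib.Helper5.HermCard
import Cfsg.Agent.Lib.Helper5.HermBlock
import Cfsg.Agent.Lib.Helper5.HermCount

set_option autoImplicit false

/-!
# Sylow 2-subgroups of `GU(2, q)`, `q` odd
-/

namespace Cfsg.Agent.Lib.Helper2.GUTwo

open Cfsg Cfsg.Agent.Lib.Helper2.SylowRecog Cfsg.Agent.Lib.Helper2.GLTwoArith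
  Cfsg.Agent.Lib.Helper2.GLTwoWr Cfsg.Agent.Lib.Helper5.Herm

section Sub

variable {G : Type*} [Group G] [Finite G]

theorem isWreathed_sylow_of_elements_sub (H : Subgroup G) (n : ℕ) (hn : 2 ≤ n)
    (hcard : (Nat.card ↥H).factorization 2 = 2 * n + 1)
    (x y z : G) (hxH : x ∈ H) (hyH : y ∈ H) (hzH : z ∈ H)
    (hx : orderOf x = 2 ^ n) (hxy : x * y = y * x)
    (hd : Subgroup.zpowers x ⊓ Subgroup.zpowers y = ⊥) (hz : orderOf z = 2)
    (hr : z * x * z⁻¹ = y) (P : Sylow 2 ↥H) : Cfsg.IsWreathed ↥(P : Subgroup ↥H) := by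
  refine isWreathed_sylow_of_elements n hn hcard ⟨x, hxH⟩ ⟨y, hyH⟩ ⟨z, hzH⟩ ?_ ?_ ?_ ?_ ?_ P
  · rw [Subgroup.orderOf_mk, hx]
  · exact Subtype.ext hxy
  · rw [eq_bot_iff]
    rintro g ⟨hg1, hg2⟩
    obtain ⟨k, hk⟩ := Subgroup.mem_zpowers_iff.1 hg1
    obtain ⟨l, hl⟩ := Subgroup.mem_zpowers_iff.1 hg2
    have h1 : (g : G) ∈ Subgroup.zpowers x ⊓ Subgroup.zpowers y := by
      constructor
      · refine Subgroup.mem_zpowers_iff.2 ⟨k, ?_⟩
        rw [← hk]; simp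
      · refine Subgroup.mem_zpowers_iff.2 ⟨l, ?_⟩
        rw [← hl]; simp
    rw [hd, Subgroup.mem_bot] at h1
    rw [Subgroup.mem_bot]
    exact Subtype.ext h1
  · rw [Subgroup.orderOf_mk, hz]
  · exact Subtype.ext hr

theorem isQuasiDihedral_sylow_of_elements_sub (H : Subgroup G) (n : ℕ) (hn : 3 ≤ n)
    (hcard : (Nat.card ↥H).factorization 2 = n + 1)
    (x y : G) (hxH : x ∈ H) (hyH : y ∈ H) (hx : orderOf x = 2 ^ n) (hy : orderOf y = 2)
    (hr : y * x * y⁻¹ = x ^ (2 ^ (n - 1) - 1)) (P : Sylow 2 ↥H) :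
    Cfsg.IsQuasiDihedral ↥(P : Subgroup ↥H) := by
  refine isQuasiDihedral_sylow_of_elements n hn hcard ⟨x, hxH⟩ ⟨y, hyH⟩ ?_ ?_ ?_ P
  · rw [Subgroup.orderOf_mk, hx]
  · rw [Subgroup.orderOf_mk, hy]
  · exact Subtype.ext hr

end Sub

section

variable {F : Type*} [Field F] [Fintype F] {q : ℕ} (hF : Fintype.card F = q ^ 2)

/-- The Frobenius `x ↦ x ^ q` as a ring homomorphism. -/
def frob : F →+* F where
  toFun x := x ^ q
  map_one' := one_pow q
  map_mul' a b := mul_pow a b q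
  map_zero' := zero_pow (q_ne_zero hF)
  map_add' a b := pow_q_add hF a b

theorem frob_apply (a : F) : frob hF a = a ^ q := rfl

/-- `S M = Mᵀ * M^σ`. -/
def S (M : Matrix (Fin 2) (Fin 2) F) : Matrix (Fin 2) (Fin 2) F :=
  M.transpose * M.map (frob hF)

theorem S_mul (M N : Matrix (Fin 2) (Fin 2) F) :
    S hF (M * N) = N.transpose * S hF M * N.map (frob hF) := by
  unfold S
  rw [Matrix.transpose_mul, Matrix.map_mul, Matrix.mul_assoc, Matrix.mul_assoc, Matrix.mul_assoc]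

theorem S_one : S hF (1 : Matrix (Fin 2) (Fin 2) F) = 1 := by
  unfold S
  rw [Matrix.transpose_one, Matrix.one_mul, Matrix.map_one _ (map_zero _) (map_one _)]

theorem mem_GU_iff' (g : GL (Fin 2) F) : g ∈ Cfsg.GU 2 F q ↔ S hF g.val = 1 :=
  Cfsg.Agent.Lib.Helper5.HermBlock.mem_GU_iff hF g

theorem S_conj (B Bi D : Matrix (Fin 2) (Fin 2) F) (hB : B * Bi = 1)
    (hD : D.transpose * S hF B * D.map (frob hF) = S hF B) : S hF (B * D * Bi) = 1 := by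
  rw [S_mul, S_mul, hD, ← S_mul, hB, S_one]

/-- The matrix whose columns are two isotropic vectors. -/
def Bm (l : F) : Matrix (Fin 2) (Fin 2) F := !![1, 1; l, -l]

/-- The inverse of `Bm`. -/
def Bi (l : F) : Matrix (Fin 2) (Fin 2) F := !![1 / 2, 1 / (2 * l); 1 / 2, -(1 / (2 * l))]

omit [Fintype F] in
theorem Bm_mul_Bi (l : F) (h2 : (2 : F) ≠ 0) (hl : l ≠ 0) : Bm l * Bi l = 1 := by
  ext i j
  fin_cases i <;> fin_cases j <;>
    simp [Bm, Bi, Matrix.mul_apply, Fin.sum_univ_two] <;> field_simp <;> ring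

omit [Fintype F] in
theorem Bi_mul_Bm (l : F) (h2 : (2 : F) ≠ 0) (hl : l ≠ 0) : Bi l * Bm l = 1 := by
  ext i j
  fin_cases i <;> fin_cases j <;>
    simp [Bm, Bi, Matrix.mul_apply, Fin.sum_univ_two] <;> field_simp <;> ring

/-- `Bm` as an element of `GL`. -/
def Bg (l : F) (h2 : (2 : F) ≠ 0) (hl : l ≠ 0) : GL (Fin 2) F :=
  ⟨Bm l, Bi l, Bm_mul_Bi l h2 hl, Bi_mul_Bm l h2 hl⟩

theorem S_Bm (hq : Odd q) (l : F) (hl : l ^ (q + 1) = -1) : S hF (Bm l) = !![0, 2; 2, 0] := by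
  have h1 : l * l ^ q = -1 := by rw [← pow_succ', hl]
  have h2 : (-l) ^ q = - l ^ q := hq.neg_pow l
  ext i j
  fin_cases i <;> fin_cases j <;>
    simp [S, Bm, Matrix.mul_apply, Fin.sum_univ_two, frob_apply, h2, h1]
  all_goals norm_num

theorem S_diag (a b : F) (hab : a * b ^ q = 1) (hba : b * a ^ q = 1) :
    (Matrix.diagonal ![a, b]).transpose * (!![0, 2; 2, 0] : Matrix (Fin 2) (Fin 2) F) *
      (Matrix.diagonal ![a, b]).map (frob hF) = !![0, 2; 2, 0] := by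
  have h1 : a * 2 * b ^ q = 2 := by rw [mul_right_comm, hab, one_mul]
  have h2 : b * 2 * a ^ q = 2 := by rw [mul_right_comm, hba, one_mul]
  ext i j
  fin_cases i <;> fin_cases j <;>
    simp [Matrix.mul_apply, frob_apply, Matrix.diagonal_apply, h1, h2, q_ne_zero hF]

/-- The hom `a ↦ (a, a^{-q})`. -/
def psi (q : ℕ) : Fˣ →* Fˣ × Fˣ where
  toFun a := (a, a⁻¹ ^ q)
  map_one' := by simp
  map_mul' a b := by
    ext
    · simp
    · simp [mul_pow, mul_comm]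

omit [Fintype F] in
theorem psi_injective (q : ℕ) : Function.Injective (psi (F := F) q) := by
  intro a b h
  exact congrArg Prod.fst h

/-- The cyclic torus of order `q^2 - 1`. -/
def phi (q : ℕ) (l : F) (h2 : (2 : F) ≠ 0) (hl : l ≠ 0) : Fˣ →* GL (Fin 2) F :=
  (MulAut.conj (Bg l h2 hl)).toMonoidHom.comp (dgHom.comp (psi q))

omit [Fintype F] in
theorem phi_injective (q : ℕ) (l : F) (h2 : (2 : F) ≠ 0) (hl : l ≠ 0) :
    Function.Injective (phi q l h2 hl) := by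
  unfold phi
  exact (MulAut.conj (Bg l h2 hl)).injective.comp (dgHom_injective.comp (psi_injective q))

omit [Fintype F] in
theorem phi_apply (q : ℕ) (l : F) (h2 : (2 : F) ≠ 0) (hl : l ≠ 0) (a : Fˣ) :
    phi q l h2 hl a = Bg l h2 hl * dgHom (a, a⁻¹ ^ q) * (Bg l h2 hl)⁻¹ := rfl

include hF in
theorem phi_mem (hq : Odd q) (l : F) (h2 : (2 : F) ≠ 0) (hl0 : l ≠ 0) (hl : l ^ (q + 1) = -1)
    (a : Fˣ) : phi q l h2 hl0 a ∈ Cfsg.GU 2 F q := by
  rw [mem_GU_iff' hF, phi_apply]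
  show S hF (Bm l * Matrix.diagonal ![(a : F), ((a⁻¹ ^ q : Fˣ) : F)] * Bi l) = 1
  apply S_conj hF _ _ _ (Bm_mul_Bi l h2 hl0)
  rw [S_Bm hF hq l hl]
  apply S_diag hF
  · rw [Units.val_pow_eq_pow_val, pow_q_pow_q hF, Units.mul_inv]
  · rw [Units.val_pow_eq_pow_val, ← mul_pow, Units.inv_mul, one_pow]

include hF in
theorem card_GU_two : Nat.card ↥(Cfsg.GU 2 F q) = q * ((q + 1) * (q ^ 2 - 1)) := by
  rw [Cfsg.Agent.Lib.Helper5.HermCard.card_GU hF 2]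
  simp [Finset.prod_range_succ]

theorem v2_GU_of_three (q : ℕ) (hq : q % 4 = 3) :
    (q * ((q + 1) * (q ^ 2 - 1))).factorization 2 = 2 * (q + 1).factorization 2 + 1 ∧
      2 ≤ (q + 1).factorization 2 := by
  have h1 : q - 1 ≠ 0 := by omega
  have h2 : q + 1 ≠ 0 := by omega
  have h3 : q ≠ 0 := by omega
  rw [sq_sub_one q (by omega), Nat.factorization_mul h3 (mul_ne_zero h2 (mul_ne_zero h1 h2)),
    Nat.factorization_mul h2 (mul_ne_zero h1 h2), Nat.factorization_mul h1 h2]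
  simp only [Finsupp.coe_add, Pi.add_apply]
  rw [v2_eq_one (a := q - 1) (by omega), v2_eq_zero (a := q) (by omega)]
  exact ⟨by ring, two_le_v2 h2 (by omega)⟩

theorem v2_GU_of_one (q : ℕ) (hq : q % 4 = 1) (hq1 : 1 < q) :
    (q * ((q + 1) * (q ^ 2 - 1))).factorization 2 = ((q - 1).factorization 2 + 1) + 1 ∧
      2 ≤ (q - 1).factorization 2 := by
  have h1 : q - 1 ≠ 0 := by omega
  have h2 : q + 1 ≠ 0 := by omega
  have h3 : q ≠ 0 := by omega
  rw [sq_sub_one q (by omega), Nat.factorization_mul h3 (mul_ne_zero h2 (mul_ne_zero h1 h2)),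
    Nat.factorization_mul h2 (mul_ne_zero h1 h2), Nat.factorization_mul h1 h2]
  simp only [Finsupp.coe_add, Pi.add_apply]
  rw [v2_eq_one (a := q + 1) (by omega), v2_eq_zero (a := q) (by omega)]
  exact ⟨by ring, two_le_v2 h1 (by omega)⟩

/-- `q + 2^n - 1 ≡ 0 (mod 2^(n+1))` when `2^n` exactly divides `q - 1`. -/
theorem dvd_of_v2_sub (q : ℕ) (n : ℕ) (hn : (q - 1).factorization 2 = n) (hq1 : 1 < q) :
    2 ^ (n + 1) ∣ q + (2 ^ n - 1) := by
  have h2 : q - 1 ≠ 0 := by omega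
  have hd : 2 ^ n ∣ q - 1 := (Nat.prime_two.pow_dvd_iff_le_factorization h2).2 (by omega)
  have hnd : ¬ 2 ^ (n + 1) ∣ q - 1 := by
    rw [Nat.prime_two.pow_dvd_iff_le_factorization h2]; omega
  obtain ⟨u, hu⟩ := hd
  have hodd : u % 2 = 1 := by
    by_contra h
    have : u % 2 = 0 := by omega
    obtain ⟨v, hv⟩ := Nat.dvd_of_mod_eq_zero this
    apply hnd
    exact ⟨v, by rw [hu, hv, pow_succ]; ring⟩
  obtain ⟨v, hv⟩ : ∃ v, u = 2 * v + 1 := ⟨u / 2, by omega⟩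
  have hpos : 1 ≤ 2 ^ n := Nat.one_le_two_pow
  refine ⟨v + 1, ?_⟩
  have : q - 1 = 2 ^ (n + 1) * v + 2 ^ n := by rw [hu, hv, pow_succ]; ring
  have h3 : 2 ^ (n + 1) * (v + 1) = 2 ^ (n + 1) * v + 2 ^ n + 2 ^ n := by rw [pow_succ]; ring
  omega

include hF in
theorem two_ne_zero_of_odd (hq : Odd q) : (2 : F) ≠ 0 := by
  apply Ring.two_ne_zero
  intro hc
  have h := FiniteField.even_card_of_char_two hc
  rw [hF] at h
  have : Odd (q ^ 2) := hq.pow
  rw [Nat.odd_iff] at this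
  omega

include hF in
theorem dg_mem (u v : Fˣ) (hu : u ^ (q + 1) = 1) (hv : v ^ (q + 1) = 1) :
    (dgHom (u, v) : GL (Fin 2) F) ∈ Cfsg.GU 2 F q := by
  rw [mem_GU_iff' hF]
  show S hF (Matrix.diagonal ![(u : F), (v : F)]) = 1
  have hu' : (u : F) * (u : F) ^ q = 1 := by
    rw [← pow_succ', ← Units.val_pow_eq_pow_val, hu, Units.val_one]
  have hv' : (v : F) * (v : F) ^ q = 1 := by
    rw [← pow_succ', ← Units.val_pow_eq_pow_val, hv, Units.val_one]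
  ext i j
  fin_cases i <;> fin_cases j <;>
    simp [S, Matrix.mul_apply, frob_apply, Matrix.diagonal_apply, hu', hv', q_ne_zero hF]

include hF in
theorem sw_mem : (sw : GL (Fin 2) F) ∈ Cfsg.GU 2 F q := by
  rw [mem_GU_iff' hF]
  show S hF (!![0, 1; 1, 0] : Matrix (Fin 2) (Fin 2) F) = 1
  ext i j
  fin_cases i <;> fin_cases j <;>
    simp [S, Matrix.mul_apply, Fin.sum_univ_two, frob_apply, q_ne_zero hF]

include hF in
/-- Sylow 2-subgroups of `GU(2, q)`, `q ≡ 3 (mod 4)`, are wreathed. -/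
theorem wreathed_case (hq : q % 4 = 3) (P : Sylow 2 ↥(Cfsg.GU 2 F q)) :
    Cfsg.IsWreathed ↥(P : Subgroup ↥(Cfsg.GU 2 F q)) := by
  classical
  obtain ⟨hv, hn⟩ := v2_GU_of_three q hq
  set n := (q + 1).factorization 2 with hn_def
  have hcard : (Nat.card ↥(Cfsg.GU 2 F q)).factorization 2 = 2 * n + 1 := by
    rw [card_GU_two hF]; exact hv
  have hdn : 2 ^ n ∣ q + 1 := Nat.ordProj_dvd _ 2
  have hdvd : 2 ^ n ∣ Nat.card Fˣ := by
    rw [Cfsg.Agent.Lib.Helper5.HermCount.card_units hF]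
    exact Dvd.dvd.mul_right hdn _
  obtain ⟨ζ, hζ⟩ := exists_orderOf_eq_of_dvd (G := Fˣ) (2 ^ n) hdvd
  have hζq : ζ ^ (q + 1) = 1 := by
    rw [← orderOf_dvd_iff_pow_eq_one, hζ]; exact hdn
  have hx : orderOf (dgHom (ζ, 1) : GL (Fin 2) F) = 2 ^ n := by
    rw [orderOf_injective dgHom dgHom_injective, Prod.orderOf]
    simp [hζ]
  apply isWreathed_sylow_of_elements_sub (Cfsg.GU 2 F q) n hn hcard (dgHom (ζ, 1))
    (dgHom (1, ζ)) sw (dg_mem hF ζ 1 hζq (one_pow _)) (dg_mem hF 1 ζ (one_pow _) hζq)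
    (sw_mem hF) hx
  · rw [← map_mul, ← map_mul]
    congr 1
    ext <;> simp
  · rw [eq_bot_iff]
    rintro g ⟨hg1, hg2⟩
    obtain ⟨k, hk⟩ := Subgroup.mem_zpowers_iff.1 hg1
    obtain ⟨l, hl⟩ := Subgroup.mem_zpowers_iff.1 hg2
    rw [← map_zpow] at hk hl
    have h1 := dgHom_injective (hk.trans hl.symm)
    have h2 : ζ ^ k = 1 := by
      have := congrArg Prod.fst h1
      simpa using this
    rw [Subgroup.mem_bot, ← hk]
    have h3 : ((ζ, 1) : Fˣ × Fˣ) ^ k = 1 := by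
      ext <;> simp [h2]
    rw [h3, map_one]
  · exact orderOf_sw
  · rw [mul_inv_eq_iff_eq_mul]
    exact sw_mul_dg ζ 1

omit [Fintype F] in
theorem y_mul_Bg (l : F) (h2 : (2 : F) ≠ 0) (hl : l ≠ 0) :
    (dgHom (1, -1) : GL (Fin 2) F) * Bg l h2 hl = Bg l h2 hl * sw := by
  apply Units.ext
  show Matrix.diagonal ![((1 : Fˣ) : F), ((-1 : Fˣ) : F)] * Bm l =
    Bm l * (!![0, 1; 1, 0] : Matrix (Fin 2) (Fin 2) F)
  ext i j
  fin_cases i <;> fin_cases j <;> simp [Bm, Matrix.mul_apply, Fin.sum_univ_two]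

include hF in
theorem y_conj_phi (l : F) (h2 : (2 : F) ≠ 0) (hl : l ≠ 0) (a : Fˣ) :
    (dgHom (1, -1) : GL (Fin 2) F) * phi q l h2 hl a * (dgHom (1, -1) : GL (Fin 2) F)⁻¹ =
      (phi q l h2 hl a ^ q)⁻¹ := by
  have hyB := y_mul_Bg l h2 hl
  have hsw : (sw : GL (Fin 2) F) * dgHom (a, a⁻¹ ^ q) * sw⁻¹ = dgHom (a⁻¹ ^ q, a) := by
    rw [mul_inv_eq_iff_eq_mul]
    exact sw_mul_dg a (a⁻¹ ^ q)
  have haq : ((a⁻¹ ^ q)⁻¹) ^ q = a := by
    rw [inv_pow, inv_pow, inv_pow, inv_inv]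
    apply Units.ext
    rw [Units.val_pow_eq_pow_val, Units.val_pow_eq_pow_val, pow_q_pow_q hF]
  have h1 : (phi q l h2 hl a ^ q)⁻¹ = phi q l h2 hl (a⁻¹ ^ q) := by
    rw [map_pow, map_inv, inv_pow]
  rw [h1, phi_apply, phi_apply, haq, ← hsw]
  calc (dgHom (1, -1) : GL (Fin 2) F) * (Bg l h2 hl * dgHom (a, a⁻¹ ^ q) * (Bg l h2 hl)⁻¹) *
        (dgHom (1, -1) : GL (Fin 2) F)⁻¹
      = ((dgHom (1, -1) : GL (Fin 2) F) * Bg l h2 hl) * dgHom (a, a⁻¹ ^ q) *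
          ((dgHom (1, -1) : GL (Fin 2) F) * Bg l h2 hl)⁻¹ := by group
    _ = (Bg l h2 hl * sw) * dgHom (a, a⁻¹ ^ q) * (Bg l h2 hl * sw)⁻¹ := by rw [hyB]
    _ = Bg l h2 hl * (sw * dgHom (a, a⁻¹ ^ q) * sw⁻¹) * (Bg l h2 hl)⁻¹ := by group

include hF in
/-- Sylow 2-subgroups of `GU(2, q)`, `q ≡ 1 (mod 4)`, are quasi-dihedral. -/
theorem qd_case (hq4 : q % 4 = 1) (P : Sylow 2 ↥(Cfsg.GU 2 F q)) :
    Cfsg.IsQuasiDihedral ↥(P : Subgroup ↥(Cfsg.GU 2 F q)) := by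
  classical
  have hq : Odd q := by rw [Nat.odd_iff]; omega
  have h2q := two_le_q hF
  obtain ⟨hv, hn⟩ := v2_GU_of_one q hq4 (by omega)
  set n := (q - 1).factorization 2 with hn_def
  have hcard : (Nat.card ↥(Cfsg.GU 2 F q)).factorization 2 = (n + 1) + 1 := by
    rw [card_GU_two hF]; exact hv
  have h2 : (2 : F) ≠ 0 := two_ne_zero_of_odd hF hq
  obtain ⟨l, hl⟩ := Cfsg.Agent.Lib.Helper5.HermCount.exists_norm_eq hF (-1 : F) (by simp)
    (pow_q_neg_one hF)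
  have hl0 : l ≠ 0 := by
    rintro rfl
    rw [zero_pow (by omega)] at hl
    have := hl.symm
    simp at this
  -- an element of order `2^(n+1)`
  have hdvd : 2 ^ (n + 1) ∣ Nat.card Fˣ := by
    rw [Cfsg.Agent.Lib.Helper5.HermCount.card_units hF]
    have h1 : 2 ∣ q + 1 := by omega
    have h3 : 2 ^ n ∣ q - 1 := Nat.ordProj_dvd _ 2
    rw [pow_succ, mul_comm]
    exact Nat.mul_dvd_mul h1 h3
  obtain ⟨a, ha⟩ := exists_orderOf_eq_of_dvd (G := Fˣ) (2 ^ (n + 1)) hdvd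
  have hx : orderOf (phi q l h2 hl0 a) = 2 ^ (n + 1) := by
    rw [orderOf_injective _ (phi_injective q l h2 hl0), ha]
  have hyy : (dgHom (1, -1) : GL (Fin 2) F) * dgHom (1, -1) = 1 := by
    rw [← map_mul]
    have : (((1 : Fˣ), (-1 : Fˣ)) : Fˣ × Fˣ) * (1, -1) = 1 := by
      ext <;> simp
    rw [this, map_one]
  have hy1 : (dgHom (1, -1) : GL (Fin 2) F) ≠ 1 := by
    intro h
    rw [← map_one dgHom] at h
    have h3 := congrArg Prod.snd (dgHom_injective h)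
    have h4 : ((-1 : Fˣ) : F) = ((1 : Fˣ) : F) := congrArg Units.val h3
    rw [Units.val_neg, Units.val_one] at h4
    apply h2
    have : (2 : F) = 1 - (-1) := by norm_num
    rw [this, h4, sub_self]
  have hy : orderOf (dgHom (1, -1) : GL (Fin 2) F) = 2 := by
    have : Fact (Nat.Prime 2) := ⟨Nat.prime_two⟩
    exact orderOf_eq_prime (by rw [pow_two]; exact hyy) hy1
  have hr : (dgHom (1, -1) : GL (Fin 2) F) * phi q l h2 hl0 a * (dgHom (1, -1) : GL (Fin 2) F)⁻¹ =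
      phi q l h2 hl0 a ^ (2 ^ (n + 1 - 1) - 1) := by
    rw [y_conj_phi hF, Nat.add_sub_cancel]
    apply inv_eq_of_mul_eq_one_right
    rw [← pow_add, ← orderOf_dvd_iff_pow_eq_one, hx]
    exact dvd_of_v2_sub q n rfl (by omega)
  have hneg : (-1 : Fˣ) ^ (q + 1) = 1 := by
    have : Even (q + 1) := by
      rw [Nat.even_add_one, Nat.not_even_iff_odd]; exact hq
    exact this.neg_one_pow
  exact isQuasiDihedral_sylow_of_elements_sub (Cfsg.GU 2 F q) (n + 1) (by omega) hcard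
    (phi q l h2 hl0 a) (dgHom (1, -1)) (phi_mem hF hq l h2 hl0 hl a)
    (dg_mem hF 1 (-1) (one_pow _) hneg) hx hy hr P

end

end Cfsg.Agent.Lib.Helper2.GUTwo
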