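import Mathlib
import Cfsg.Agent.Lib.Helper3.Sz7

/-!
# S3797, piece B: the Sylow 2-subgroups of `C(Ω₁(Z(O₂(X))))` lie in `O₂(X)`

`stab_mem` (piece A) and `exists_Y` (piece G) are taken as hypotheses here and plugged in the
assembly.
-/

set_option autoImplicit false
set_option linter.style.haveILetI false

namespace Cfsg.Agent.Lib.Helper2.GYtwo

open scoped commutatorElement

variable {X : Type*} [Group X] [Finite X]

theorem sylow_cent_le_aux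
    (stab : ∀ (t : X) (P Z0 : Subgroup X) [P.Normal] [Z0.Normal], IsPGroup 2 P →
      Z0 ≤ P → (∀ z ∈ Z0, ∀ u ∈ P, z * u = u * z) → (∀ z ∈ Z0, z ^ 2 = 1) →
      Subgroup.centralizer (P : Set X) ≤ P →
      (∀ A : Subgroup X, A.Normal → IsPGroup 2 A → A ≤ P) →
      (∀ z ∈ Z0, t * z = z * t) → (∀ u ∈ P, t * u * t⁻¹ * u⁻¹ ∈ Z0) → t ∈ P)
    (exY : ∀ T : Subgroup X,
      (∀ x ∈ T, ∀ y ∈ T, x ≠ 1 → x ^ 2 = 1 → y ≠ 1 → y ^ 2 = 1 →
        ∃ n ∈ Subgroup.normalizer (T : Set X), n * x * n⁻¹ = y) →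
      ∃ Y : Subgroup (MulAut ↥T), Group.IsSolvable Y ∧
        ∀ x y : ↥T, x ≠ 1 → x ^ 2 = 1 → y ≠ 1 → y ^ 2 = 1 → ∃ a ∈ Y, a x = y)
    (P Z0 : Subgroup X) [P.Normal] [Z0.Normal]
    (hP : IsPGroup 2 P)
    (hZ0P : Z0 ≤ P) (hZ0c : ∀ z ∈ Z0, ∀ u ∈ P, z * u = u * z) (hZ02 : ∀ z ∈ Z0, z ^ 2 = 1)
    (hCP : Subgroup.centralizer (P : Set X) ≤ P)
    (hmax : ∀ A : Subgroup X, A.Normal → IsPGroup 2 A → A ≤ P)
    (hinv : ∀ x : X, x ≠ 1 → x ^ 2 = 1 → x ∈ Z0)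
    (hconj : ∀ x y : X, x ≠ 1 → x ^ 2 = 1 → y ≠ 1 → y ^ 2 = 1 → ∃ g : X, g * x * g⁻¹ = y)
    (htwo : ∃ x y : X, x ≠ y ∧ x ≠ 1 ∧ x ^ 2 = 1 ∧ y ≠ 1 ∧ y ^ 2 = 1)
    (T : Subgroup X) (hT : IsPGroup 2 T) (hTK : ∀ t ∈ T, ∀ z ∈ Z0, t * z = z * t)
    (hTs : ∀ T' : Subgroup X, IsPGroup 2 T' → (∀ t ∈ T', ∀ z ∈ Z0, t * z = z * t) → T ≤ T' →
      T' = T) :
    T ≤ P := by
  classical
  haveI : Fact (Nat.Prime 2) := ⟨Nat.prime_two⟩
  set K : Subgroup X := Subgroup.centralizer (Z0 : Set X) with hK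
  have hmemK : ∀ g : X, g ∈ K ↔ ∀ z ∈ Z0, g * z = z * g := by
    intro g
    rw [hK, Subgroup.mem_centralizer_iff]
    constructor
    · intro h z hz; exact (h z hz).symm
    · intro h z hz; exact (h z hz).symm
  have hTleK : T ≤ K := fun t ht => (hmemK t).mpr (hTK t ht)
  have hPleK : P ≤ K := fun u hu => (hmemK u).mpr (fun z hz => (hZ0c z hz u hu).symm)
  -- `P ≤ T`
  have hPT : P ≤ T := by
    have h1 : IsPGroup 2 (T ⊔ P : Subgroup X) := IsPGroup.to_sup_of_normal_right hT hP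
    have h2 : ∀ t ∈ (T ⊔ P : Subgroup X), ∀ z ∈ Z0, t * z = z * t := by
      intro t ht
      exact (hmemK t).mp ((sup_le hTleK hPleK) ht)
    have h3 := hTs (T ⊔ P) h1 h2 le_sup_left
    rw [← h3]; exact le_sup_right
  -- `T` comes from a Sylow subgroup of `K`
  obtain ⟨Q, hQ⟩ := IsPGroup.exists_le_sylow (hT.comap_subtype (K := K))
  have hQT : (Q : Subgroup ↥K).map K.subtype = T := by
    apply hTs
    · exact Q.2.map K.subtype
    · intro t ht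
      obtain ⟨q, _, rfl⟩ := Subgroup.mem_map.mp ht
      exact (hmemK _).mp q.2
    · intro t ht
      exact Subgroup.mem_map.mpr ⟨⟨t, hTleK ht⟩, hQ (by simpa [Subgroup.mem_subgroupOf] using ht), rfl⟩
  have hfrat : Subgroup.normalizer (((Q : Subgroup ↥K).map K.subtype : Subgroup X) : Set X) ⊔ K = ⊤ :=
    Sylow.normalizer_sup_eq_top Q
  rw [hQT] at hfrat
  -- the normalizer of `T` is transitive on the involutions of `T`
  have htr : ∀ x ∈ T, ∀ y ∈ T, x ≠ 1 → x ^ 2 = 1 → y ≠ 1 → y ^ 2 = 1 →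
      ∃ n ∈ Subgroup.normalizer (T : Set X), n * x * n⁻¹ = y := by
    intro x _ y _ hx1 hx2 hy1 hy2
    obtain ⟨g, hg⟩ := hconj x y hx1 hx2 hy1 hy2
    have hgtop : g ∈ Subgroup.normalizer (T : Set X) ⊔ K := by rw [hfrat]; exact Subgroup.mem_top g
    obtain ⟨n, hn, k, hk, rfl⟩ := Subgroup.mem_sup_of_normal_right.mp hgtop
    refine ⟨n, hn, ?_⟩
    have hkx : k * x = x * k := (hmemK k).mp hk x (hinv x hx1 hx2)
    rw [← hg]
    have : n * k * x * (n * k)⁻¹ = n * (k * x) * k⁻¹ * n⁻¹ := by group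
    rw [this, hkx]; group
  obtain ⟨Y, hYsol, hYtr⟩ := exY T htr
  -- two involutions of `T`
  have htwoT : ∃ x y : ↥T, x ≠ y ∧ x ≠ 1 ∧ x ^ 2 = 1 ∧ y ≠ 1 ∧ y ^ 2 = 1 := by
    obtain ⟨x, y, hxy, hx1, hx2, hy1, hy2⟩ := htwo
    have hxT : x ∈ T := hPT (hZ0P (hinv x hx1 hx2))
    have hyT : y ∈ T := hPT (hZ0P (hinv y hy1 hy2))
    refine ⟨⟨x, hxT⟩, ⟨y, hyT⟩, ?_, ?_, ?_, ?_, ?_⟩
    · intro h; exact hxy (congrArg Subtype.val h)
    · intro h; exact hx1 (congrArg Subtype.val h)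
    · apply Subtype.ext; simpa using hx2
    · intro h; exact hy1 (congrArg Subtype.val h)
    · apply Subtype.ext; simpa using hy2
  intro t ht
  by_cases hc : IsMulCommutative ↥T
  · -- `T` abelian: `T ≤ C(P) ≤ P`
    apply hCP
    rw [Subgroup.mem_centralizer_iff]
    intro u hu
    have h1 : (⟨u, hPT hu⟩ : ↥T) * ⟨t, ht⟩ = ⟨t, ht⟩ * ⟨u, hPT hu⟩ := hc.is_comm.comm _ _
    exact congrArg Subtype.val h1
  · -- `T` nonabelian: S3776
    obtain ⟨hcf, hfz, hz⟩ := Cfsg.Agent.Lib.Helper3.Sz.main_thm (G := ↥T) hT hc htwoT ⟨Y, hYsol, hYtr⟩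
    apply stab t P Z0 hP hZ0P hZ0c hZ02 hCP hmax (hTK t ht)
    intro u hu
    have huT : u ∈ T := hPT hu
    have h1 : ⁅(⟨t, ht⟩ : ↥T), (⟨u, huT⟩ : ↥T)⁆ ∈ commutator ↥T :=
      Subgroup.commutator_mem_commutator (Subgroup.mem_top _) (Subgroup.mem_top _)
    rw [hcf, hfz] at h1
    have h2 := (hz _).mp h1
    have h3 : (t * u * t⁻¹ * u⁻¹) ^ 2 = 1 := by
      have := congrArg Subtype.val h2
      simpa [commutatorElement_def] using this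
    by_cases h4 : t * u * t⁻¹ * u⁻¹ = 1
    · rw [h4]; exact Z0.one_mem
    · exact hinv _ h4 h3

end Cfsg.Agent.Lib.Helper2.GYtwo
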