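import Mathlib
import Cfsg.Agent.Lib.Helper2.GY2B
import Cfsg.Agent.Lib.Helper2.Cores
import Cfsg.Agent.Lib.Helper9.GY5
import Cfsg.Agent.Lib.Helper3.PSolvable

/-!
# S3797, core: a solvable group with `O(X) = 1`, one class of involutions and more than one
involution has a normal Sylow 2-subgroup (pieces A, G, C as hypotheses)
-/

set_option autoImplicit false
set_option linter.style.haveILetI false
open Cfsg

namespace Cfsg.Agent.Lib.Helper2.GYtwo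

variable {X : Type*} [Group X] [Finite X]

theorem core_index_aux
    (stab : ∀ (t : X) (P Z0 : Subgroup X) [P.Normal] [Z0.Normal], IsPGroup 2 P →
      Z0 ≤ P → (∀ z ∈ Z0, ∀ u ∈ P, z * u = u * z) → (∀ z ∈ Z0, z ^ 2 = 1) →
      Subgroup.centralizer (P : Set X) ≤ P →
      (∀ A : Subgroup X, A.Normal → IsPGroup 2 A → A ≤ P) →
      (∀ z ∈ Z0, t * z = z * t) → (∀ u ∈ P, t * u * t⁻¹ * u⁻¹ ∈ Z0) → t ∈ P)
    (exY : ∀ T : Subgroup X,
      (∀ x ∈ T, ∀ y ∈ T, x ≠ 1 → x ^ 2 = 1 → y ≠ 1 → y ^ 2 = 1 →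
        ∃ n ∈ Subgroup.normalizer (T : Set X), n * x * n⁻¹ = y) →
      ∃ Y : Subgroup (MulAut ↥T), Group.IsSolvable Y ∧
        ∀ x y : ↥T, x ≠ 1 → x ^ 2 = 1 → y ≠ 1 → y ^ 2 = 1 → ∃ a ∈ Y, a x = y)
    (idxC : ∀ (Z0 : Subgroup X) [Z0.Normal], (∀ z ∈ Z0, z ^ 2 = 1) →
      (∀ x : X, x ≠ 1 → x ^ 2 = 1 → x ∈ Z0) →
      (∀ x y : X, x ≠ 1 → x ^ 2 = 1 → y ≠ 1 → y ^ 2 = 1 → ∃ g : X, g * x * g⁻¹ = y) →
      Odd (Subgroup.centralizer (Z0 : Set X)).index)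
    (hsol : Group.IsSolvable X) (hbot : pPrimeCore 2 X = ⊥)
    (hconj : ∀ x y : X, x ≠ 1 → x ^ 2 = 1 → y ≠ 1 → y ^ 2 = 1 → IsConj x y)
    (htwo : ∃ x y : X, x ≠ y ∧ x ≠ 1 ∧ x ^ 2 = 1 ∧ y ≠ 1 ∧ y ^ 2 = 1) :
    (pCore 2 X).index.Coprime 2 := by
  classical
  haveI : Fact (Nat.Prime 2) := ⟨Nat.prime_two⟩
  have hpsol : IsPSolvable 2 X := Cfsg.Agent.Lib.Helper3.isPSolvable_of_isSolvable 2 hsol
  set P : Subgroup X := pCore 2 X with hPdef
  have hP : IsPGroup 2 P := Cfsg.Agent.Lib.Helper2.pCore_isPGroup 2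
  have hPchar : P.Characteristic := Cfsg.Agent.Lib.Helper2.pCore_characteristic 2
  have hCP : Subgroup.centralizer (P : Set X) ≤ P := by
    intro γ hγ
    apply Cfsg.Agent.S4218.HH 2 hpsol hbot γ
    intro y hy
    have h1 : y * γ = γ * y := Subgroup.mem_centralizer_iff.mp hγ y hy
    have h2 : γ * y * γ⁻¹ * y⁻¹ = 1 := by
      rw [← h1]; group
    rw [h2]
    exact Subgroup.one_mem _
  have hmax : ∀ A : Subgroup X, A.Normal → IsPGroup 2 A → A ≤ P := by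
    intro A hA hA2
    haveI := hA
    exact Cfsg.Agent.Lib.Helper2.le_pCore hA2
  obtain ⟨x0, y0, hxy0, hx01, hx02, hy01, hy02⟩ := htwo
  have hne : P ≠ ⊥ := by
    intro hbotP
    have h1 : x0 ∈ P := by
      apply hCP
      rw [hbotP, Subgroup.mem_centralizer_iff]
      intro y hy
      rw [SetLike.mem_coe, Subgroup.mem_bot] at hy
      rw [hy, one_mul, mul_one]
    rw [hbotP, Subgroup.mem_bot] at h1
    exact hx01 h1
  have hPaut : ∀ a : MulAut X, ∀ x ∈ P, a x ∈ P := Cfsg.Agent.Lib.Helper9.GY.char_aut hPchar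
  set Z0 : Subgroup X := Cfsg.Agent.Lib.Helper9.GY.omegaZ 2 P with hZ0def
  haveI hZ0n : Z0.Normal := by
    constructor
    intro z hz g
    have := Cfsg.Agent.Lib.Helper9.GY.omegaZ_aut hPaut (MulAut.conj g) z hz
    simpa [MulAut.conj_apply] using this
  have hZ0P : Z0 ≤ P := Cfsg.Agent.Lib.Helper9.GY.omegaZ_le 2 P
  have hZ0c : ∀ z ∈ Z0, ∀ u ∈ P, z * u = u * z := by
    intro z hz u hu
    exact ((Cfsg.Agent.Lib.Helper9.GY.mem_omegaZ.mp hz).2.2 u hu).symm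
  have hZ02 : ∀ z ∈ Z0, z ^ 2 = 1 := fun z hz => (Cfsg.Agent.Lib.Helper9.GY.mem_omegaZ.mp hz).2.1
  obtain ⟨w, hwZ, hw2⟩ := Cfsg.Agent.Lib.Helper9.GY.exists_omegaZ hP hne
  have hw1 : w ≠ 1 := by
    intro h
    rw [h, orderOf_one] at hw2
    norm_num at hw2
  have hww : w ^ 2 = 1 := hZ02 w hwZ
  have hinv : ∀ x : X, x ≠ 1 → x ^ 2 = 1 → x ∈ Z0 := by
    intro x hx1 hx2
    obtain ⟨c, hc⟩ := isConj_iff.mp (hconj w x hw1 hww hx1 hx2)
    rw [← hc]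
    exact hZ0n.conj_mem w hwZ c
  have hconj' : ∀ x y : X, x ≠ 1 → x ^ 2 = 1 → y ≠ 1 → y ^ 2 = 1 → ∃ g : X, g * x * g⁻¹ = y :=
    fun x y hx1 hx2 hy1 hy2 => isConj_iff.mp (hconj x y hx1 hx2 hy1 hy2)
  -- a Sylow 2-subgroup of `K = C(Z0)`
  set K : Subgroup X := Subgroup.centralizer (Z0 : Set X) with hK
  have hmemK : ∀ g : X, g ∈ K ↔ ∀ z ∈ Z0, g * z = z * g := by
    intro g
    rw [hK, Subgroup.mem_centralizer_iff]
    constructor
    · intro h z hz; exact (h z hz).symm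
    · intro h z hz; exact (h z hz).symm
  have hPleK : P ≤ K := fun u hu => (hmemK u).mpr (fun z hz => (hZ0c z hz u hu).symm)
  obtain ⟨Q⟩ : Nonempty (Sylow 2 ↥K) := inferInstance
  set T : Subgroup X := (Q : Subgroup ↥K).map K.subtype with hTdef
  have hT : IsPGroup 2 T := Q.2.map K.subtype
  have hTleK : T ≤ K := by
    intro t ht
    obtain ⟨q, _, rfl⟩ := Subgroup.mem_map.mp ht
    exact q.2
  have hTK : ∀ t ∈ T, ∀ z ∈ Z0, t * z = z * t := fun t ht => (hmemK t).mp (hTleK ht)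
  have hmaxQ : ∀ T' : Subgroup X, IsPGroup 2 T' → T' ≤ K → T ≤ T' → T'.subgroupOf K = Q := by
    intro T' hT' _ hTT'
    apply Q.is_maximal' (hT'.comap_subtype (K := K))
    intro q hq
    show (q : X) ∈ T'
    exact hTT' (Subgroup.mem_map.mpr ⟨q, hq, rfl⟩)
  have hTs : ∀ T' : Subgroup X, IsPGroup 2 T' → (∀ t ∈ T', ∀ z ∈ Z0, t * z = z * t) → T ≤ T' →
      T' = T := by
    intro T' hT' hT'K hTT'
    have hT'leK : T' ≤ K := fun t ht => (hmemK t).mpr (hT'K t ht)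
    have h1 := hmaxQ T' hT' hT'leK hTT'
    rw [hTdef, ← h1, Subgroup.map_subgroupOf_eq_of_le hT'leK]
  have hTP : T ≤ P :=
    sylow_cent_le_aux stab exY P Z0 hP hZ0P hZ0c hZ02 hCP hmax hinv hconj'
      ⟨x0, y0, hxy0, hx01, hx02, hy01, hy02⟩ T hT hTK hTs
  -- `P` is the Sylow subgroup `Q` of `K`
  have hPQ : P.subgroupOf K = Q := by
    apply hmaxQ P hP hPleK hTP
  have h1 : P.relIndex K * K.index = P.index := Subgroup.relIndex_mul_index hPleK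
  have h2 : ¬ 2 ∣ P.relIndex K := by
    show ¬ 2 ∣ (P.subgroupOf K).index
    rw [hPQ]
    exact Q.not_dvd_index
  have h3 : Odd K.index := idxC Z0 hZ02 hinv hconj'
  rw [← h1]
  apply Nat.Coprime.mul_left
  · exact (Nat.coprime_comm.mp ((Nat.Prime.coprime_iff_not_dvd Nat.prime_two).mpr h2))
  · exact Nat.Coprime.symm (Nat.coprime_two_left.mpr h3)

end Cfsg.Agent.Lib.Helper2.GYtwo
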