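import Mathlib
import Cfsg.Prelude.Def_Solvable
import Cfsg.Agent.Lib.Helper1.FrobeniusCenter
import Cfsg.Agent.Lib.Helper1.FpfCyclic
import Cfsg.Agent.Lib.Helper2.FrobCompB
import Cfsg.Agent.Lib.Helper2.QuatAut
set_option autoImplicit false
set_option maxHeartbeats 1000000
set_option linter.unusedVariables false
set_option linter.unusedSectionVars false
set_option linter.style.longLine false
set_option linter.unusedSimpArgs false
set_option linter.deprecated false
set_option linter.style.haveILetI false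
open scoped commutatorElement Pointwise

/-! Solvable Gagola groups, part A: general lemmas (transport of `FCP`, groups acting without fixed
points, lifting coprime subgroups of a quotient, commutators acting on cyclic and quaternion normal
subgroups). -/

namespace Cfsg.Agent.Lib.Helper2.GagSolv

open Cfsg Cfsg.Agent.Lib.Helper2 Cfsg.Agent.Lib.Helper2.FrobComp

theorem fcp_of_equiv {G H : Type*} [Group G] [Group H] (e : G ≃* H) (h : FCP G) : FCP H := by
  refine ⟨?_, ?_⟩
  · intro A hA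
    haveI := hA
    haveI : IsMulCommutative ↥(A.map e.symm.toMonoidHom) :=
      Subgroup.map_isMulCommutative A e.symm.toMonoidHom
    haveI : IsCyclic ↥(A.map e.symm.toMonoidHom) := h.1 _ inferInstance
    exact (Subgroup.equivMapOfInjective A e.symm.toMonoidHom e.symm.injective).isCyclic.mpr
      inferInstance
  · intro p q x y hp hq hpq hx hy hmem
    have hx' : orderOf (e.symm x) = p := by rw [MulEquiv.orderOf_eq]; exact hx
    have hy' : orderOf (e.symm y) = q := by rw [MulEquiv.orderOf_eq]; exact hy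
    have hmem' : e.symm x * e.symm y * (e.symm x)⁻¹ ∈ Subgroup.zpowers (e.symm y) := by
      obtain ⟨k, hk⟩ := Subgroup.mem_zpowers_iff.mp hmem
      rw [Subgroup.mem_zpowers_iff]
      refine ⟨k, ?_⟩
      rw [← map_zpow, hk, map_mul, map_mul, map_inv]
    have := h.2 p q _ _ hp hq hpq hx' hy' hmem'
    apply e.symm.injective
    rw [map_mul, map_mul]; exact this

/-- a solvable group acting without fixed points has property `FCP` -/
theorem fcp_of_fpf {L : Type*} [Group L] [Finite L] (H N : Subgroup L) (hNne : N ≠ ⊥)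
    (hHN : H ≤ Subgroup.normalizer (N : Set L))
    (hfpf : ∀ a ∈ H, a ≠ 1 → N ⊓ Subgroup.centralizer {a} = ⊥)
    (hHsol : Group.IsSolvable ↥H) : FCP ↥H := by
  haveI := hHsol
  refine ⟨?_, ?_⟩
  · intro A hA
    haveI := hA
    set A' : Subgroup L := A.map H.subtype with hA'
    haveI : IsMulCommutative ↥A' := Subgroup.map_isMulCommutative A H.subtype
    have hA'H : A' ≤ H := Subgroup.map_subtype_le _
    have hA'N : A' ≤ Subgroup.normalizer (N : Set L) := hA'H.trans hHN
    have hfpf' : ∀ a ∈ A', a ≠ 1 → N ⊓ Subgroup.centralizer {a} = ⊥ :=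
      fun a ha ha1 => hfpf a (hA'H ha) ha1
    have hcop := Cfsg.Agent.Lib.Helper1.coprime_of_fpf A' N hA'N hfpf'
    haveI hA'sol : Group.IsSolvable ↥A' :=
      solvable_of_solvable_injective (f := Subgroup.inclusion hA'H)
        (Subgroup.inclusion_injective hA'H)
    obtain ⟨V, hVne, hVN, hVc, hA'V⟩ :=
      Cfsg.Agent.Lib.Helper1.exists_invariant_abelian_of_coprime A' N hNne hA'N hcop
        (Or.inl hA'sol)
    haveI := hVc
    have hfpfV : ∀ a ∈ A', a ≠ 1 → V ⊓ Subgroup.centralizer {a} = ⊥ := by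
      intro a ha ha1
      rw [eq_bot_iff, ← hfpf' a ha ha1]
      exact inf_le_inf_right _ hVN
    haveI : IsCyclic ↥A' :=
      Cfsg.Agent.Lib.Helper1.fpf_on_abelian_cyclic A' V hVne hA'V hfpfV (Or.inl inferInstance)
    exact (Subgroup.equivMapOfInjective A H.subtype H.subtype_injective).isCyclic.mpr inferInstance
  · intro p q x y hp hq hpq hx hy hmem
    have hx'o : orderOf (x : L) = p := by rw [Subgroup.orderOf_coe]; exact hx
    have hy'o : orderOf (y : L) = q := by rw [Subgroup.orderOf_coe]; exact hy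
    have hmem' : (x : L) * (y : L) * (x : L)⁻¹ ∈ Subgroup.zpowers (y : L) := by
      obtain ⟨k, hk⟩ := Subgroup.mem_zpowers_iff.mp hmem
      rw [Subgroup.mem_zpowers_iff]
      refine ⟨k, ?_⟩
      have h2 := congrArg Subtype.val hk
      simpa using h2
    have hcom := Cfsg.Agent.Lib.Helper1.fpf_prime_order_commute H N hNne hHN hfpf hHsol hp hq hpq
      y.2 x.2 hy'o hx'o hmem'
    apply Subtype.ext
    simpa using hcom

/-- a subgroup of a quotient `G ⧸ P` of order coprime to `|P|` lifts isomorphically to `G` -/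
theorem exists_lift_of_coprime {G : Type*} [Group G] [Finite G] (P : Subgroup G) [P.Normal]
    (Y : Subgroup (G ⧸ P)) (hcop : (Nat.card P).Coprime (Nat.card Y)) :
    ∃ H : Subgroup G, Nonempty (↥H ≃* ↥Y) := by
  set π := QuotientGroup.mk' P with hπ
  set Yt : Subgroup G := Y.comap π with hYt
  have hPle : P ≤ Yt := by
    intro g hg
    show π g ∈ Y
    have : π g = 1 := by rw [hπ, QuotientGroup.mk'_apply, QuotientGroup.eq_one_iff]; exact hg
    rw [this]; exact Y.one_mem
  haveI : (P.subgroupOf Yt).Normal := Subgroup.normal_subgroupOf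
  have hcard : Nat.card (P.subgroupOf Yt) = Nat.card P :=
    Nat.card_congr (Subgroup.subgroupOfEquivOfLe hPle).toEquiv
  have hidx : (P.subgroupOf Yt).index = Nat.card Y := by
    have h1 : (⊥ : Subgroup (G ⧸ P)).comap π = P := by
      rw [MonoidHom.comap_bot, hπ, QuotientGroup.ker_mk']
    calc (P.subgroupOf Yt).index = P.relIndex Yt := rfl
      _ = ((⊥ : Subgroup (G ⧸ P)).comap π).relIndex Yt := by rw [h1]
      _ = (⊥ : Subgroup (G ⧸ P)).relIndex (Yt.map π) := Subgroup.relIndex_comap _ _ _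
      _ = (⊥ : Subgroup (G ⧸ P)).relIndex Y := by
          rw [hYt, Subgroup.map_comap_eq_self_of_surjective (QuotientGroup.mk'_surjective P)]
      _ = Nat.card Y := Subgroup.relIndex_bot_left Y
  obtain ⟨H', hH'⟩ := Subgroup.exists_right_complement'_of_coprime (N := P.subgroupOf Yt)
    (by rw [hcard, hidx]; exact hcop)
  let f : ↥H' →* ↥Y :=
    ((π.comp Yt.subtype).comp H'.subtype).codRestrict Y (fun h => h.1.2)
  have hinj : Function.Injective f := by
    rw [injective_iff_map_eq_one]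
    intro h hh
    have h1 : π ((h : ↥Yt) : G) = 1 := congrArg Subtype.val hh
    have h2 : ((h : ↥Yt) : G) ∈ P := by
      rwa [hπ, QuotientGroup.mk'_apply, QuotientGroup.eq_one_iff] at h1
    have h3 : (h : ↥Yt) ∈ P.subgroupOf Yt := Subgroup.mem_subgroupOf.mpr h2
    have h4 : (h : ↥Yt) ∈ P.subgroupOf Yt ⊓ H' := ⟨h3, h.2⟩
    rw [hH'.disjoint.eq_bot, Subgroup.mem_bot] at h4
    exact Subtype.ext h4
  have hsurj : Function.Surjective f := by
    rintro ⟨y, hy⟩
    obtain ⟨g, rfl⟩ := QuotientGroup.mk'_surjective P y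
    have hg : g ∈ Yt := hy
    obtain ⟨⟨⟨n, hn⟩, ⟨h, hh⟩⟩, hnh⟩ := (Subgroup.isComplement'_def.mp hH').2 ⟨g, hg⟩
    refine ⟨⟨h, hh⟩, Subtype.ext ?_⟩
    have hnh' : n * h = ⟨g, hg⟩ := hnh
    have hnP : ((n : ↥Yt) : G) ∈ P := Subgroup.mem_subgroupOf.mp hn
    have hn1 : π ((n : ↥Yt) : G) = 1 := by
      rw [hπ, QuotientGroup.mk'_apply, QuotientGroup.eq_one_iff]; exact hnP
    have hg' : g = ((n : ↥Yt) : G) * ((h : ↥Yt) : G) := by
      have := congrArg Subtype.val hnh'
      simpa using this.symm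
    show π ((h : ↥Yt) : G) = π g
    rw [hg', map_mul, hn1, one_mul]
  exact ⟨H'.map Yt.subtype,
    ⟨(Subgroup.equivMapOfInjective H' Yt.subtype Yt.subtype_injective).symm.trans
      (MulEquiv.ofBijective f ⟨hinj, hsurj⟩)⟩⟩

theorem mulAut_comm_of_isCyclic {K : Type*} [Group K] [IsCyclic K] (a b : MulAut K) :
    a * b = b * a := by
  obtain ⟨g, hg⟩ := IsCyclic.exists_generator (α := K)
  obtain ⟨m, hm⟩ := Subgroup.mem_zpowers_iff.mp (hg (a g))
  obtain ⟨n, hn⟩ := Subgroup.mem_zpowers_iff.mp (hg (b g))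
  ext y
  obtain ⟨k, rfl⟩ := Subgroup.mem_zpowers_iff.mp (hg y)
  have e1 : a (b (g ^ k)) = ((g ^ m) ^ n) ^ k := by
    rw [map_zpow b, ← hn, map_zpow a, map_zpow a, ← hm]
  have e2 : b (a (g ^ k)) = ((g ^ n) ^ m) ^ k := by
    rw [map_zpow a, ← hm, map_zpow b, map_zpow b, ← hn]
  rw [MulAut.mul_apply, MulAut.mul_apply, e1, e2, ← zpow_mul g m n, ← zpow_mul g n m,
    mul_comm m n]

/-- commutators act trivially on a cyclic normal subgroup -/
theorem comm_centralizes_cyclic {X : Type*} [Group X] (K : Subgroup X) [K.Normal] [IsCyclic ↥K]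
    (h s : X) : ∀ y ∈ K, (h * s * h⁻¹ * s⁻¹) * y * (h * s * h⁻¹ * s⁻¹)⁻¹ = y := by
  intro y hy
  have hφ : MulAut.conjNormal (H := K) (h * s * h⁻¹ * s⁻¹) = 1 := by
    rw [map_mul, map_mul, map_mul, map_inv, map_inv,
      mulAut_comm_of_isCyclic (MulAut.conjNormal h) (MulAut.conjNormal s)]
    group
  have := MulAut.conjNormal_apply (H := K) (h * s * h⁻¹ * s⁻¹) ⟨y, hy⟩
  rw [hφ] at this
  simpa using this.symm

theorem mem_of_coprime_index {X : Type*} [Group X] (M : Subgroup X) [M.Normal] {s : X}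
    (hcop : (M.index).Coprime (orderOf s)) : s ∈ M := by
  obtain ⟨m, hm⟩ := exists_pow_eq_self_of_coprime hcop
  rw [← hm]
  exact Subgroup.pow_mem _ (Subgroup.pow_index_mem M s) m

theorem comm_mem_of_index_dvd_three {X : Type*} [Group X] (M : Subgroup X) [M.Normal]
    (hidx : M.index ∣ 3) (h s : X) : h * s * h⁻¹ * s⁻¹ ∈ M := by
  have h13 : M.index = 1 ∨ M.index = 3 := (Nat.dvd_prime Nat.prime_three).mp hidx
  rcases h13 with h1 | h3
  · rw [Subgroup.index_eq_one.mp h1]; exact Subgroup.mem_top _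
  · haveI : Fact (Nat.Prime 3) := ⟨Nat.prime_three⟩
    have hc : Nat.card (X ⧸ M) = 3 := h3
    haveI : IsCyclic (X ⧸ M) := isCyclic_of_prime_card hc
    haveI : IsMulCommutative (X ⧸ M) := IsCyclic.isMulCommutative
    have hcomm : ∀ a b : X ⧸ M, a * b = b * a := fun a b => IsMulCommutative.is_comm.comm a b
    rw [← QuotientGroup.eq_one_iff, QuotientGroup.mk_mul, QuotientGroup.mk_mul,
      QuotientGroup.mk_mul, QuotientGroup.mk_inv, QuotientGroup.mk_inv, hcomm ↑h ↑s]
    group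

theorem conj_pow_succ' {X : Type*} [Group X] (x y : X) (n : ℕ) :
    x ^ (n + 1) * y * (x ^ (n + 1))⁻¹ = x ^ n * (x * y * x⁻¹) * (x ^ n)⁻¹ := by
  rw [pow_succ, mul_inv_rev]
  simp only [mul_assoc]

/-- an element of odd order of `K C(K)`, `K` quaternion of order 8, centralizes `K` -/
theorem odd_QC_centralizes {X : Type*} [Group X] (K : Subgroup X) (e : ↥K ≃* QuaternionGroup 2)
    {c : X} (hc : c ∈ QuatAut.QC K) (hodd : Odd (orderOf c)) : ∀ y ∈ K, c * y * c⁻¹ = y := by
  obtain ⟨q₀, hq₀, c₀, hc₀, rfl⟩ := (QuatAut.mem_QC_iff K c).1 hc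
  have hc₀y : ∀ y ∈ K, c₀ * y * c₀⁻¹ = y := by
    intro y hy
    have := Subgroup.mem_centralizer_iff.mp hc₀ y hy
    rw [← this]; group
  have hstep : ∀ y ∈ K, (q₀ * c₀) * y * (q₀ * c₀)⁻¹ = q₀ * y * q₀⁻¹ := by
    intro y hy
    calc (q₀ * c₀) * y * (q₀ * c₀)⁻¹ = q₀ * (c₀ * y * c₀⁻¹) * q₀⁻¹ := by group
      _ = q₀ * y * q₀⁻¹ := by rw [hc₀y y hy]
  have hpow : ∀ n : ℕ, ∀ y ∈ K,
      (q₀ * c₀) ^ n * y * ((q₀ * c₀) ^ n)⁻¹ = q₀ ^ n * y * (q₀ ^ n)⁻¹ := by
    intro n
    induction n with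
    | zero => intro y hy; simp
    | succ n ih =>
      intro y hy
      rw [conj_pow_succ', hstep y hy, ih _ (K.mul_mem (K.mul_mem hq₀ hy) (K.inv_mem hq₀)),
        conj_pow_succ']
  intro y hy
  rw [hstep y hy]
  set k := orderOf (q₀ * c₀) with hk_def
  have hk := hpow k y hy
  rw [hk_def, pow_orderOf_eq_one, one_mul, inv_one, mul_one, ← hk_def] at hk
  have hcomm : Commute (q₀ ^ k) y := by
    show q₀ ^ k * y = y * q₀ ^ k
    calc q₀ ^ k * y = (q₀ ^ k * y * (q₀ ^ k)⁻¹) * q₀ ^ k := by group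
      _ = y * q₀ ^ k := by rw [← hk]
  obtain ⟨a, ha⟩ := hodd
  have hq4 : q₀ ^ 4 = 1 := by
    have h4 := QuatAut.k_pow_four e (g := ⟨q₀, hq₀⟩)
    have h4' := congrArg Subtype.val h4
    simp only [Subgroup.coe_mul, Subgroup.coe_one] at h4'
    rw [← h4']
    simp only [pow_succ, pow_zero, one_mul, mul_assoc]
  have hq : (q₀ ^ k) ^ k = q₀ := by
    rw [← pow_mul, ha, show (2 * a + 1) * (2 * a + 1) = 4 * (a * a + a) + 1 by ring, pow_add,
      pow_mul, hq4, one_pow, one_mul, pow_one]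
  have hc2 : Commute q₀ y := by rw [← hq]; exact hcomm.pow_left k
  rw [hc2.eq, mul_inv_cancel_right]

/-- if `a` and `b` centralize `K` then so does `a * b⁻¹` -/
theorem conj_fix_mul_inv {X : Type*} [Group X] (K : Subgroup X) {a b : X}
    (ha : ∀ y ∈ K, a * y * a⁻¹ = y) (hb : ∀ y ∈ K, b * y * b⁻¹ = y) :
    ∀ y ∈ K, (a * b⁻¹) * y * (a * b⁻¹)⁻¹ = y := by
  intro y hy
  have h1 : b⁻¹ * y * b = y := by
    calc b⁻¹ * y * b = b⁻¹ * (b * y * b⁻¹) * b := by rw [hb y hy]
      _ = y := by group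
  calc (a * b⁻¹) * y * (a * b⁻¹)⁻¹ = a * (b⁻¹ * y * b) * a⁻¹ := by group
    _ = y := by rw [h1, ha y hy]

theorem cyclic_or_quat_of_fcp {K : Type*} [Group K] [Finite K] (h : FCP K) (q : ℕ)
    [Fact q.Prime] (hK : IsPGroup q K) :
    IsCyclic K ∨ (q = 2 ∧ ∃ n : ℕ, Nonempty (K ≃* QuaternionGroup (2 ^ n))) := by
  have hT : IsPGroup q ↥(⊤ : Subgroup K) := hK.to_subgroup ⊤
  rcases pgroup_cyclic_or_quat h q ⊤ hT with h1 | ⟨h2, n, ⟨e⟩⟩
  · left; exact (Subgroup.topEquiv).isCyclic.mp h1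
  · right; exact ⟨h2, n, ⟨Subgroup.topEquiv.symm.trans e⟩⟩

end Cfsg.Agent.Lib.Helper2.GagSolv
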