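import Mathlib
import Cfsg.Agent.Lib.Helper2.QuatAut
set_option autoImplicit false
set_option maxHeartbeats 1000000
set_option linter.unusedVariables false
set_option linter.unusedSectionVars false
set_option linter.style.longLine false
set_option linter.unusedSimpArgs false
set_option linter.deprecated false
set_option linter.style.haveILetI false

/-! Solvable Gagola groups, part B: a group `X` acting on an elementary abelian `3`-group `W`,
transitively on the nonzero vectors, with a normal quaternion subgroup of order 8 all of whose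
nonidentity elements act without fixed points, forces `|W| = 9`. -/

namespace Cfsg.Agent.Lib.Helper2.GagSolv

open Cfsg.Agent.Lib.Helper2

section QPairSec

variable {W : Type*} [AddCommGroup W] [Module (ZMod 3) W]

/-- a pair of anticommuting "imaginary units" acting on a vector space over `𝔽₃` -/
structure QPair (α β : W → W) : Prop where
  add_a : ∀ w w', α (w + w') = α w + α w'
  add_b : ∀ w w', β (w + w') = β w + β w'
  smul_a : ∀ (a : ZMod 3) w, α (a • w) = a • α w
  smul_b : ∀ (a : ZMod 3) w, β (a • w) = a • β w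
  sq_a : ∀ w, α (α w) = -w
  sq_b : ∀ w, β (β w) = -w
  anti : ∀ w, β (α w) = -α (β w)

/-- the `𝔽₃[α]`-line through `v` -/
def QL (α : W → W) (v : W) : Submodule (ZMod 3) W := Submodule.span (ZMod 3) {v, α v}

theorem mem_QL {α : W → W} {v w : W} : w ∈ QL α v ↔ ∃ a b : ZMod 3, a • v + b • α v = w :=
  Submodule.mem_span_pair

theorem self_mem_QL (α : W → W) (v : W) : v ∈ QL α v :=
  Submodule.subset_span (Set.mem_insert _ _)

variable {α β : W → W}

theorem QPair.zero_a (q : QPair α β) : α 0 = 0 := by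
  have := q.smul_a 0 0
  simpa using this

theorem QPair.zero_b (q : QPair α β) : β 0 = 0 := by
  have := q.smul_b 0 0
  simpa using this

theorem QPair.eq_zero_a (q : QPair α β) {w : W} (h : α w = 0) : w = 0 := by
  have := q.sq_a w
  rw [h, q.zero_a] at this
  exact neg_eq_zero.mp this.symm

theorem QPair.eq_zero_b (q : QPair α β) {w : W} (h : β w = 0) : w = 0 := by
  have := q.sq_b w
  rw [h, q.zero_b] at this
  exact neg_eq_zero.mp this.symm

theorem QPair.stable_a (q : QPair α β) {v w : W} (hw : w ∈ QL α v) : α w ∈ QL α v := by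
  obtain ⟨a, b, rfl⟩ := mem_QL.mp hw
  rw [mem_QL]
  refine ⟨-b, a, ?_⟩
  rw [q.add_a, q.smul_a, q.smul_a, q.sq_a]
  module

theorem QPair.indep (q : QPair α β) {v : W} (hv : v ≠ 0) {a b : ZMod 3}
    (h : a • v + b • α v = 0) : a = 0 ∧ b = 0 := by
  have E2 : a • α v + b • (-v) = 0 := by
    have := congrArg α h
    rwa [q.add_a, q.smul_a, q.smul_a, q.sq_a, q.zero_a] at this
  have key : (a * a + b * b) • v = 0 := by
    linear_combination (norm := module) a • h - b • E2
  have hc : a * a + b * b = 0 := by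
    by_contra hc
    apply hv
    have := inv_smul_smul₀ hc v
    rw [key, smul_zero] at this
    exact this.symm
  have D : ∀ a b : ZMod 3, a * a + b * b = 0 → a = 0 ∧ b = 0 := by decide
  exact D a b hc

theorem QPair.mem_symm (q : QPair α β) {v u : W} (hu : u ∈ QL α v) (hu0 : u ≠ 0) :
    v ∈ QL α u := by
  obtain ⟨a, b, rfl⟩ := mem_QL.mp hu
  have hc : a * a + b * b ≠ 0 := by
    intro hc
    have D : ∀ a b : ZMod 3, a * a + b * b = 0 → a = 0 ∧ b = 0 := by decide
    obtain ⟨rfl, rfl⟩ := D a b hc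
    apply hu0; simp
  obtain ⟨ci, hci⟩ : ∃ ci : ZMod 3, ci * (a * a + b * b) = 1 := ⟨_, inv_mul_cancel₀ hc⟩
  rw [mem_QL]
  refine ⟨ci * a, -(ci * b), ?_⟩
  rw [q.add_a, q.smul_a, q.smul_a, q.sq_a]
  have key : (ci * a) • (a • v + b • α v) + (-(ci * b)) • (a • α v + b • -v)
      = (ci * (a * a + b * b)) • v := by module
  rw [key, hci, one_smul]

theorem QPair.QL_le (q : QPair α β) {v u : W} (hu : u ∈ QL α v) : QL α u ≤ QL α v := by
  show Submodule.span (ZMod 3) {u, α u} ≤ QL α v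
  rw [Submodule.span_le]
  intro x hx
  simp only [Set.mem_insert_iff, Set.mem_singleton_iff] at hx
  rcases hx with rfl | rfl
  · exact hu
  · exact q.stable_a hu

theorem QPair.stable_b (q : QPair α β) {v w : W} (hv : β v ∈ QL α v) (hw : w ∈ QL α v) :
    β w ∈ QL α v := by
  obtain ⟨a, b, rfl⟩ := mem_QL.mp hw
  rw [q.add_b, q.smul_b, q.smul_b, q.anti]
  exact Submodule.add_mem _ (Submodule.smul_mem _ _ hv)
    (Submodule.smul_mem _ _ (Submodule.neg_mem _ (q.stable_a hv)))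

theorem QPair.all_mem (q : QPair α β) (H : ∀ v : W, v ≠ 0 → β v ∈ QL α v) {v₁ : W}
    (hv₁ : v₁ ≠ 0) (w : W) : w ∈ QL α v₁ := by
  by_contra hw
  obtain ⟨m₁, n₁, h1⟩ := mem_QL.mp (H v₁ hv₁)
  have C : ∀ w : W, w ∉ QL α v₁ → β w = m₁ • w + n₁ • α w := by
    intro w hw
    have hw0 : w ≠ 0 := by rintro rfl; exact hw (Submodule.zero_mem _)
    have hs0 : v₁ + w ≠ 0 := by
      intro hs
      apply hw
      have : w = -v₁ := eq_neg_of_add_eq_zero_right hs
      rw [this]
      exact Submodule.neg_mem _ (self_mem_QL α v₁)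
    obtain ⟨m₂, n₂, h2⟩ := mem_QL.mp (H w hw0)
    obtain ⟨m, n, h3⟩ := mem_QL.mp (H (v₁ + w) hs0)
    rw [q.add_a, q.add_b, ← h1, ← h2] at h3
    have ht' : (m₁ - m) • v₁ + (n₁ - n) • α v₁ = (m - m₂) • w + (n - n₂) • α w := by
      linear_combination (norm := module) -h3
    have ht1 : (m₁ - m) • v₁ + (n₁ - n) • α v₁ ∈ QL α v₁ := mem_QL.mpr ⟨_, _, rfl⟩
    have ht2 : (m₁ - m) • v₁ + (n₁ - n) • α v₁ ∈ QL α w := mem_QL.mpr ⟨_, _, ht'.symm⟩
    have ht0 : (m₁ - m) • v₁ + (n₁ - n) • α v₁ = 0 := by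
      by_contra ht0
      exact hw (q.QL_le ht1 (q.mem_symm ht2 ht0))
    obtain ⟨e1, e2⟩ := q.indep hv₁ ht0
    obtain ⟨e3, e4⟩ := q.indep hw0 (ht'.symm.trans ht0)
    have hm : m₂ = m₁ := by linear_combination -e1 - e3
    have hn : n₂ = n₁ := by linear_combination -e2 - e4
    rw [← h2, hm, hn]
  have hw0 : w ≠ 0 := by rintro rfl; exact hw (Submodule.zero_mem _)
  have haw : α w ∉ QL α v₁ := by
    intro h
    apply hw
    have h' := q.stable_a h
    rw [q.sq_a] at h'
    have h'' := Submodule.neg_mem _ h'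
    rwa [neg_neg] at h''
  have c1 := C w hw
  have c2 := C (α w) haw
  rw [q.anti, c1, q.add_a, q.smul_a, q.smul_a, q.sq_a] at c2
  have key : (-n₁ - n₁) • w + (m₁ + m₁) • α w = 0 := by
    linear_combination (norm := module) -c2
  obtain ⟨e1, e2⟩ := q.indep hw0 key
  have D1 : ∀ a : ZMod 3, -a - a = 0 → a = 0 := by decide
  have D2 : ∀ a : ZMod 3, a + a = 0 → a = 0 := by decide
  have hn := D1 _ e1
  have hm := D2 _ e2
  rw [hm, hn, zero_smul, zero_smul, add_zero] at h1
  exact hv₁ (q.eq_zero_b h1.symm)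

theorem QPair.card_eq (q : QPair α β) [Nontrivial W] (H : ∀ v : W, v ≠ 0 → β v ∈ QL α v) :
    Nat.card W = 9 := by
  obtain ⟨v₁, hv₁⟩ := exists_ne (0 : W)
  let f : ZMod 3 × ZMod 3 → W := fun x => x.1 • v₁ + x.2 • α v₁
  have hf : Function.Bijective f := by
    constructor
    · rintro ⟨a, b⟩ ⟨a', b'⟩ hab
      have hab' : a • v₁ + b • α v₁ = a' • v₁ + b' • α v₁ := hab
      have h0 : (a - a') • v₁ + (b - b') • α v₁ = 0 := by
        linear_combination (norm := module) hab'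
      obtain ⟨e1, e2⟩ := q.indep hv₁ h0
      rw [Prod.mk.injEq]
      exact ⟨sub_eq_zero.mp e1, sub_eq_zero.mp e2⟩
    · intro w
      obtain ⟨a, b, hab⟩ := mem_QL.mp (q.all_mem H hv₁ w)
      exact ⟨(a, b), hab⟩
  rw [← Nat.card_congr (Equiv.ofBijective f hf), Nat.card_prod, Nat.card_zmod]

theorem QPair.exists_pure (q : QPair α β) [Nontrivial W] : ∃ v : W, v ≠ 0 ∧ β v ∈ QL α v := by
  obtain ⟨v, hv⟩ := exists_ne (0 : W)
  by_cases hz : v + α v + β v = 0
  · refine ⟨v, hv, mem_QL.mpr ⟨-1, -1, ?_⟩⟩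
    linear_combination (norm := module) -hz
  · refine ⟨v + α v + β v, hz, mem_QL.mpr ⟨1, -1, ?_⟩⟩
    rw [q.add_a, q.add_a, q.add_b, q.add_b, q.sq_a, q.sq_b, q.anti]
    have h3 : (3 : ZMod 3) • v = 0 := by
      rw [show (3 : ZMod 3) = 0 from by decide, zero_smul]
    linear_combination (norm := module) h3

end QPairSec

section Act

variable {X W : Type*} [Group X] [AddCommGroup W] [Module (ZMod 3) W] (ψ : X → W → W)

/-- `ψ` is an action of `X` on `W` by additive maps -/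
structure IsAct : Prop where
  mul : ∀ x y w, ψ (x * y) w = ψ x (ψ y w)
  one : ∀ w, ψ 1 w = w
  add : ∀ x w w', ψ x (w + w') = ψ x w + ψ x w'

variable {ψ}

theorem IsAct.zero (h : IsAct ψ) (x : X) : ψ x 0 = 0 := by
  have := h.add x 0 0
  rw [add_zero] at this
  simpa using this

theorem IsAct.smul (h : IsAct ψ) (x : X) (a : ZMod 3) (w : W) : ψ x (a • w) = a • ψ x w :=
  ZMod.map_smul (AddMonoidHom.mk' (ψ x) (h.add x)) a w

theorem IsAct.neg (h : IsAct ψ) (x : X) (w : W) : ψ x (-w) = -ψ x w :=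
  map_neg (AddMonoidHom.mk' (ψ x) (h.add x)) w

theorem IsAct.inv_apply (h : IsAct ψ) (x : X) (w : W) : ψ x⁻¹ (ψ x w) = w := by
  rw [← h.mul, inv_mul_cancel, h.one]

theorem IsAct.inj (h : IsAct ψ) (x : X) : Function.Injective (ψ x) := fun a b hab => by
  have := congrArg (ψ x⁻¹) hab
  rwa [h.inv_apply, h.inv_apply] at this

theorem neg_of_invol (h : IsAct ψ) {k : X} (hk : k * k = 1) (hfix : ∀ w, ψ k w = w → w = 0)
    (w : W) : ψ k w = -w := by
  have h1 : ψ k (w + ψ k w) = w + ψ k w := by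
    rw [h.add, ← h.mul, hk, h.one, add_comm]
  have h2 := hfix _ h1
  exact (neg_eq_of_add_eq_zero_right h2).symm

theorem pow_stable (h : IsAct ψ) (M : Submodule (ZMod 3) W) (x : X) (hM : ∀ w ∈ M, ψ x w ∈ M)
    (n : ℕ) : ∀ w ∈ M, ψ (x ^ n) w ∈ M := by
  induction n with
  | zero => intro w hw; rw [pow_zero, h.one]; exact hw
  | succ n ih => intro w hw; rw [pow_succ, h.mul]; exact ih _ (hM w hw)

variable (K : Subgroup X) (e : ↥K ≃* QuaternionGroup 2)

include e in
theorem sq_neg (h : IsAct ψ) (hfpf : ∀ k ∈ K, k ≠ 1 → ∀ w : W, ψ k w = w → w = 0) (g : ↥K)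
    (hg : g * g ≠ 1) (w : W) : ψ (g : X) (ψ (g : X) w) = -w := by
  have h4 : g * g * (g * g) = 1 := QuatAut.k_pow_four e
  have h4' : ((g : X) * g) * ((g : X) * g) = 1 := by
    have := congrArg Subtype.val h4
    simpa using this
  have hne : (g : X) * g ≠ 1 := by
    intro hc; apply hg; apply Subtype.ext; simpa using hc
  have hmem : (g : X) * g ∈ K := K.mul_mem g.2 g.2
  rw [← h.mul]
  exact neg_of_invol h h4' (hfpf _ hmem hne) w

include e in
theorem inv_eq_neg (h : IsAct ψ) (hfpf : ∀ k ∈ K, k ≠ 1 → ∀ w : W, ψ k w = w → w = 0) (g : ↥K)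
    (hg : g * g ≠ 1) (u : W) : ψ ((g : X)⁻¹) u = -ψ (g : X) u := by
  have h1 : ψ (g : X) (-ψ (g : X) u) = u := by
    rw [h.neg, sq_neg K e h hfpf g hg, neg_neg]
  calc ψ ((g : X)⁻¹) u = ψ ((g : X)⁻¹) (ψ (g : X) (-ψ (g : X) u)) := by rw [h1]
    _ = -ψ (g : X) u := h.inv_apply _ _

include e in
theorem anti_comm (h : IsAct ψ) (hfpf : ∀ k ∈ K, k ≠ 1 → ∀ w : W, ψ k w = w → w = 0)
    {g hh : ↥K} (hg : g * g ≠ 1) (hh2 : hh * hh ≠ 1) (h1 : hh ≠ g) (h2 : hh ≠ g⁻¹) (w : W) :
    ψ (hh : X) (ψ (g : X) w) = -ψ (g : X) (ψ (hh : X) w) := by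
  rcases QuatAut.k_rel e hg hh2 with (h' | h') | ⟨hr, -⟩
  · exact absurd h' h1
  · exact absurd h' h2
  · have hr' : (hh : X) * g = (g : X)⁻¹ * hh := by
      have e1 : hh * g = g⁻¹ * hh := by rw [← hr]; group
      have := congrArg Subtype.val e1
      simpa using this
    rw [← h.mul, hr', h.mul, inv_eq_neg K e h hfpf g hg]

theorem inv_pure (h : IsAct ψ) [hKn : K.Normal] (g hh : ↥K)
    (q : QPair (ψ (g : X)) (ψ (hh : X))) {v : W} (hv : v ≠ 0)
    (hp : ∀ k : ↥K, ψ (k : X) v ∈ QL (ψ (g : X)) v) (x : X) :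
    ψ (hh : X) (ψ x v) ∈ QL (ψ (g : X)) (ψ x v) := by
  have hconj : ∀ k : ↥K, ∃ a b : ZMod 3,
      ψ (k : X) (ψ x v) = a • ψ x v + b • ψ x (ψ (g : X) v) := by
    intro k
    have hk' : x⁻¹ * (k : X) * x ∈ K := by
      have := hKn.conj_mem (k : X) k.2 x⁻¹
      rwa [inv_inv] at this
    obtain ⟨a, b, hab⟩ := mem_QL.mp (hp ⟨_, hk'⟩)
    refine ⟨a, b, ?_⟩
    have e1 : (k : X) * x = x * (x⁻¹ * (k : X) * x) := by group
    rw [← h.mul, e1, h.mul]
    have hab' : ψ (x⁻¹ * (k : X) * x) v = a • v + b • ψ (g : X) v := hab.symm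
    rw [hab', h.add, h.smul, h.smul]
  obtain ⟨a, b, hab⟩ := hconj g
  obtain ⟨c, d, hcd⟩ := hconj hh
  have hv'0 : ψ x v ≠ 0 := by
    intro h0
    apply hv
    apply h.inj x
    rw [h0, h.zero]
  have hb : b ≠ 0 := by
    rintro rfl
    rw [zero_smul, add_zero] at hab
    have h2 := q.sq_a (ψ x v)
    rw [hab, q.smul_a, hab] at h2
    have h3 : (a * a + 1) • ψ x v = 0 := by linear_combination (norm := module) h2
    have D : ∀ a : ZMod 3, a * a + 1 ≠ 0 := by decide
    apply hv'0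
    have := inv_smul_smul₀ (D a) (ψ x v)
    rw [h3, smul_zero] at this
    exact this.symm
  obtain ⟨bi, hbi⟩ : ∃ bi : ZMod 3, bi * b = 1 := ⟨_, inv_mul_cancel₀ hb⟩
  rw [mem_QL]
  refine ⟨c - d * bi * a, d * bi, ?_⟩
  have e2 : (d * bi) • (a • ψ x v + b • ψ x (ψ (g : X) v))
      = (d * bi * a) • ψ x v + d • ψ x (ψ (g : X) v) := by
    rw [smul_add, smul_smul, smul_smul, mul_assoc d bi b, hbi, mul_one]
  rw [hcd, hab, e2]
  module

include e in
theorem card_eq_nine_core [Nontrivial W] (h : IsAct ψ) [hKn : K.Normal]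
    (htrans : ∀ v w : W, v ≠ 0 → w ≠ 0 → ∃ x : X, ψ x v = w)
    (hfpf : ∀ k ∈ K, k ≠ 1 → ∀ w : W, ψ k w = w → w = 0) : Nat.card W = 9 := by
  obtain ⟨g, hh, hg, hh2, h1, h2⟩ := QuatAut.k_exists_pair' e
  have q : QPair (ψ (g : X)) (ψ (hh : X)) :=
    { add_a := h.add _
      add_b := h.add _
      smul_a := fun a w => h.smul _ a w
      smul_b := fun a w => h.smul _ a w
      sq_a := sq_neg K e h hfpf g hg
      sq_b := sq_neg K e h hfpf hh hh2
      anti := anti_comm K e h hfpf hg hh2 h1 h2 }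
  obtain ⟨v₀, hv₀, hp₀⟩ := q.exists_pure
  have hpure : ∀ k : ↥K, ψ (k : X) v₀ ∈ QL (ψ (g : X)) v₀ := by
    intro k
    obtain ⟨i, j, rfl⟩ := QuatAut.k_gen e hg hh2 h1 h2 k
    rw [Subgroup.coe_mul, Subgroup.coe_pow, Subgroup.coe_pow, h.mul]
    exact pow_stable h _ _ (fun w hw => q.stable_a hw) i _
      (pow_stable h _ _ (fun w hw => q.stable_b hp₀ hw) j _ (self_mem_QL _ _))
  apply q.card_eq
  intro v hv
  obtain ⟨x, rfl⟩ := htrans v₀ v hv₀ hv
  exact inv_pure K h g hh q hv₀ hpure x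

end Act

/-- multiplicative form -/
theorem card_eq_nine_of_quat {X N : Type*} [Group X] [Group N] (hcomm : ∀ a b : N, a * b = b * a)
    (hnt : ∃ w : N, w ≠ 1) (h3 : ∀ w : N, w ^ 3 = 1) (φ : X →* MulAut N)
    (htrans : ∀ v w : N, v ≠ 1 → w ≠ 1 → ∃ x : X, φ x v = w)
    (K : Subgroup X) [K.Normal] (e : ↥K ≃* QuaternionGroup 2)
    (hfpf : ∀ k ∈ K, k ≠ 1 → ∀ w : N, φ k w = w → w = 1) : Nat.card N = 9 := by
  letI : CommGroup N := { ‹Group N› with mul_comm := hcomm }
  have h3' : ∀ w : Additive N, 3 • w = 0 := by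
    intro w
    apply Additive.toMul.injective
    rw [toMul_nsmul, toMul_zero]
    exact h3 _
  letI : Module (ZMod 3) (Additive N) := AddCommGroup.zmodModule h3'
  haveI : Nontrivial (Additive N) := by
    obtain ⟨w, hw⟩ := hnt
    exact ⟨⟨Additive.ofMul w, 0, hw⟩⟩
  let ψ : X → Additive N → Additive N := fun x w => Additive.ofMul (φ x (Additive.toMul w))
  have hact : IsAct ψ :=
    { mul := fun x y w => by
        show Additive.ofMul (φ (x * y) (Additive.toMul w)) = _
        rw [map_mul]; rfl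
      one := fun w => by
        show Additive.ofMul (φ 1 (Additive.toMul w)) = _
        rw [map_one]; rfl
      add := fun x w w' => by
        show Additive.ofMul (φ x (Additive.toMul (w + w'))) = _
        rw [toMul_add, map_mul]; rfl }
  have key := card_eq_nine_core (ψ := ψ) K e hact
    (fun v w hv hw => by
      obtain ⟨x, hx⟩ := htrans (Additive.toMul v) (Additive.toMul w) hv hw
      exact ⟨x, congrArg Additive.ofMul hx⟩)
    (fun k hk hk1 w hw => hfpf k hk hk1 (Additive.toMul w) (congrArg Additive.toMul hw))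
  exact key

end Cfsg.Agent.Lib.Helper2.GagSolv
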