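import Mathlib
import Cfsg.Prelude.Def_CaseTheorems
import Cfsg.Prelude.Def_Transfer
import Cfsg.Agent.Lib.Helper1.Fitting
import Cfsg.Agent.Lib.Helper1.FittingCentralizer
import Cfsg.Agent.Lib.Helper1.PCore
import Cfsg.Agent.Lib.Helper1.PLengthOne
import Cfsg.Agent.Lib.Helper1.Nilpotent
import Cfsg.Agent.Lib.Helper2.HHDual
import Cfsg.Agent.Lib.Helper2.GagSolvA
import Cfsg.Agent.Lib.Helper2.GagSolvB
set_option autoImplicit false
set_option maxHeartbeats 1000000
set_option linter.unusedVariables false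
set_option linter.unusedSectionVars false
set_option linter.style.longLine false
set_option linter.unusedSimpArgs false
set_option linter.deprecated false
set_option linter.style.haveILetI false
open scoped commutatorElement Pointwise

/-! Solvable Gagola groups, part C: a finite solvable group `G` with a nontrivial normal elementary
abelian `p`-subgroup `N` whose nonidentity elements are all conjugate and have `p`-groups as
centralizers: `G ⧸ O_p(G)` has a normal `p`-complement and abelian Sylow `p`-subgroups. -/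

namespace Cfsg.Agent.Lib.Helper2.GagSolv

open Cfsg Cfsg.Agent.Lib.Helper2 Cfsg.Agent.Lib.Helper2.FrobComp

section General

theorem pow_orderOf_of_mem_sylow {X : Type*} [Group X] {p : ℕ} [Fact p.Prime] (S : Sylow p X)
    {t : X} (ht : t ∈ S) : ∃ k : ℕ, orderOf t = p ^ k := by
  obtain ⟨k, hk⟩ := (IsPGroup.iff_orderOf.mp S.isPGroup') ⟨t, ht⟩
  rw [Subgroup.orderOf_mk] at hk
  exact ⟨k, hk⟩

theorem odd_orderOf_of_mem_sylow {X : Type*} [Group X] {p : ℕ} [hp : Fact p.Prime] (hp2 : p ≠ 2)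
    (S : Sylow p X) {t : X} (ht : t ∈ S) : Odd (orderOf t) := by
  obtain ⟨k, hk⟩ := pow_orderOf_of_mem_sylow S ht
  rw [hk]
  exact (Nat.Prime.odd_of_ne_two hp.out hp2).pow

end General

section TransP

variable {G : Type*} [Group G] [Finite G]

/-- the hypotheses on the normal subgroup `N` -/
structure TP (p : ℕ) (N : Subgroup G) : Prop where
  ne_bot : N ≠ ⊥
  comm : ∀ a ∈ N, ∀ b ∈ N, a * b = b * a
  exp : ∀ a ∈ N, a ^ p = 1
  conj : ∀ x ∈ N, ∀ y ∈ N, x ≠ 1 → y ≠ 1 → ∃ g : G, g * x * g⁻¹ = y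
  cent : ∀ x ∈ N, x ≠ 1 → IsPGroup p (Subgroup.centralizer ({x} : Set G))

variable {p : ℕ} [hp : Fact p.Prime] {N : Subgroup G} [hNn : N.Normal]

theorem TP.exists_ne_one (h : TP p N) : ∃ x ∈ N, x ≠ 1 := by
  by_contra hcon
  push_neg at hcon
  exact h.ne_bot ((Subgroup.eq_bot_iff_forall _).mpr hcon)

theorem TP.isPGroup (h : TP p N) : IsPGroup p ↥N := by
  intro x
  refine ⟨1, ?_⟩
  rw [pow_one]
  apply Subtype.ext
  rw [Subgroup.coe_pow, Subgroup.coe_one]
  exact h.exp x x.2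

theorem TP.le_pCore (h : TP p N) : N ≤ Cfsg.pCore p G :=
  Cfsg.Agent.Lib.Helper1.le_pCore hNn h.isPGroup

theorem TP.pCore_le_centralizer (h : TP p N) :
    Cfsg.pCore p G ≤ Subgroup.centralizer (N : Set G) := by
  have hPp : IsPGroup p ↥(Cfsg.pCore p G) := Cfsg.Agent.Lib.Helper1.pCore_isPGroup p
  haveI : Group.IsNilpotent ↥(Cfsg.pCore p G) := hPp.isNilpotent
  haveI : (N.subgroupOf (Cfsg.pCore p G)).Normal := hNn.subgroupOf _
  have hN' : N.subgroupOf (Cfsg.pCore p G) ≠ ⊥ := by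
    intro hb
    apply h.ne_bot
    rw [Subgroup.subgroupOf_eq_bot] at hb
    have := hb.eq_bot
    rwa [inf_eq_left.mpr h.le_pCore] at this
  have hne := Cfsg.Agent.Lib.Helper1.normal_inf_center_ne_bot (N.subgroupOf (Cfsg.pCore p G)) hN'
  obtain ⟨⟨x, hx⟩, hx1⟩ := (Subgroup.ne_bot_iff_exists_ne_one).mp hne
  have hxN : (x : G) ∈ N := Subgroup.mem_subgroupOf.mp hx.1
  have hxG1 : (x : G) ≠ 1 := fun hc => hx1 (Subtype.ext (Subtype.ext hc))
  intro u hu
  rw [Subgroup.mem_centralizer_iff]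
  intro y hy
  by_cases hy1 : y = 1
  · rw [hy1, one_mul, mul_one]
  obtain ⟨g, hg⟩ := h.conj (x : G) hxN y hy hxG1 hy1
  have hu' : g⁻¹ * u * g ∈ Cfsg.pCore p G := by
    have := (inferInstance : (Cfsg.pCore p G).Normal).conj_mem u hu g⁻¹
    rwa [inv_inv] at this
  have hcen := Subgroup.mem_center_iff.mp hx.2 ⟨g⁻¹ * u * g, hu'⟩
  have hcen' : (g⁻¹ * u * g) * (x : G) = (x : G) * (g⁻¹ * u * g) := congrArg Subtype.val hcen
  rw [← hg]
  calc g * (x : G) * g⁻¹ * u = g * ((x : G) * (g⁻¹ * u * g)) * g⁻¹ := by group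
    _ = g * ((g⁻¹ * u * g) * (x : G)) * g⁻¹ := by rw [hcen']
    _ = u * (g * (x : G) * g⁻¹) := by group

theorem TP.centralizer_le_pCore (h : TP p N) :
    Subgroup.centralizer (N : Set G) ≤ Cfsg.pCore p G := by
  obtain ⟨x, hx, hx1⟩ := h.exists_ne_one
  have hle : Subgroup.centralizer (N : Set G) ≤ Subgroup.centralizer ({x} : Set G) :=
    Subgroup.centralizer_le (Set.singleton_subset_iff.mpr hx)
  exact Cfsg.Agent.Lib.Helper1.le_pCore Subgroup.normal_centralizer ((h.cent x hx hx1).to_le hle)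

/-- the action of `G ⧸ O_p(G)` on `N` -/
noncomputable def TP.act (h : TP p N) : (G ⧸ Cfsg.pCore p G) →* MulAut ↥N :=
  QuotientGroup.lift (Cfsg.pCore p G) (MulAut.conjNormal (H := N)) (by
    intro u hu
    rw [MonoidHom.mem_ker]
    ext y
    rw [MulAut.conjNormal_apply, MulAut.one_apply]
    have := Subgroup.mem_centralizer_iff.mp (h.pCore_le_centralizer hu) (y : G) y.2
    rw [← this]; group)

theorem TP.act_mk (h : TP p N) (g : G) (y : ↥N) :
    ((h.act (g : G ⧸ Cfsg.pCore p G) y : ↥N) : G) = g * y * g⁻¹ := by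
  unfold TP.act
  rw [QuotientGroup.lift_mk, MulAut.conjNormal_apply]

theorem TP.act_fpf (h : TP p N) (t : G ⧸ Cfsg.pCore p G) (ht : (orderOf t).Coprime p) (y : ↥N)
    (hy : y ≠ 1) (hfix : h.act t y = y) : t = 1 := by
  obtain ⟨g, rfl⟩ := QuotientGroup.mk_surjective t
  have h1 : g * (y : G) * g⁻¹ = (y : G) := by rw [← h.act_mk, hfix]
  have hyG : (y : G) ≠ 1 := fun hc => hy (Subtype.ext hc)
  have hgc : g ∈ Subgroup.centralizer ({(y : G)} : Set G) := by
    rw [Subgroup.mem_centralizer_singleton_iff]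
    calc g * (y : G) = (g * y * g⁻¹) * g := by group
      _ = y * g := by rw [h1]
  obtain ⟨k, hk⟩ := (h.cent (y : G) y.2 hyG) ⟨g, hgc⟩
  have hk' : g ^ (p ^ k) = 1 := by
    have := congrArg Subtype.val hk
    simpa using this
  have hdvd : orderOf (g : G ⧸ Cfsg.pCore p G) ∣ p ^ k := by
    apply orderOf_dvd_of_pow_eq_one
    rw [← QuotientGroup.mk_pow, hk', QuotientGroup.mk_one]
  have := Nat.Coprime.eq_one_of_dvd (Nat.Coprime.pow_right k ht) hdvd
  exact orderOf_eq_one_iff.mp this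

theorem TP.act_trans (h : TP p N) (x y : ↥N) (hx : x ≠ 1) (hy : y ≠ 1) :
    ∃ t : G ⧸ Cfsg.pCore p G, h.act t x = y := by
  obtain ⟨g, hg⟩ := h.conj (x : G) x.2 (y : G) y.2 (fun hc => hx (Subtype.ext hc))
    (fun hc => hy (Subtype.ext hc))
  refine ⟨(g : G ⧸ Cfsg.pCore p G), Subtype.ext ?_⟩
  rw [h.act_mk, hg]

/-- subgroups of `G` of order prime to `p` have property `FCP` -/
theorem TP.fcp_of_coprime [Group.IsSolvable G] (h : TP p N) (H : Subgroup G)
    (hH : (Nat.card H).Coprime p) : FCP ↥H := by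
  apply fcp_of_fpf H N h.ne_bot
  · rw [Subgroup.normalizer_eq_top]; exact le_top
  · intro a ha ha1
    rw [eq_bot_iff]
    intro y hy
    rw [Subgroup.mem_bot]
    by_contra hy1
    have hac : a ∈ Subgroup.centralizer ({y} : Set G) := by
      rw [Subgroup.mem_centralizer_singleton_iff]
      exact (Subgroup.mem_centralizer_singleton_iff.mp hy.2).symm
    obtain ⟨k, hk⟩ := (h.cent y hy.1 hy1) ⟨a, hac⟩
    have hk' : a ^ (p ^ k) = 1 := by
      have := congrArg Subtype.val hk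
      simpa using this
    have hdvd : orderOf a ∣ p ^ k := orderOf_dvd_of_pow_eq_one hk'
    have hdvd2 : orderOf a ∣ Nat.card H := Subgroup.orderOf_dvd_natCard H ha
    have hcop : (orderOf a).Coprime (p ^ k) :=
      Nat.Coprime.pow_right k (Nat.Coprime.coprime_dvd_left hdvd2 hH)
    have := Nat.Coprime.eq_one_of_dvd hcop hdvd
    exact ha1 (orderOf_eq_one_iff.mp this)
  · exact solvable_of_solvable_injective (f := H.subtype) H.subtype_injective

/-- subgroups of `G ⧸ O_p(G)` of order prime to `p` have property `FCP` -/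
theorem TP.fcp_quot [Group.IsSolvable G] (h : TP p N) (Y : Subgroup (G ⧸ Cfsg.pCore p G))
    (hY : (Nat.card Y).Coprime p) : FCP ↥Y := by
  have hPp : IsPGroup p ↥(Cfsg.pCore p G) := Cfsg.Agent.Lib.Helper1.pCore_isPGroup p
  obtain ⟨k, hk⟩ := IsPGroup.iff_card.mp hPp
  have hcop : (Nat.card ↥(Cfsg.pCore p G)).Coprime (Nat.card Y) := by
    rw [hk]; exact Nat.Coprime.pow_left k hY.symm
  obtain ⟨H, ⟨eH⟩⟩ := exists_lift_of_coprime (Cfsg.pCore p G) Y hcop
  have hHc : (Nat.card H).Coprime p := by rw [Nat.card_congr eH.toEquiv]; exact hY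
  exact fcp_of_equiv eH (h.fcp_of_coprime H hHc)

/-- the quaternion case: the commutator lies in `K C(K)` -/
theorem TP.comm_mem_QC [Group.IsSolvable G] (h : TP p N) (hp2 : p ≠ 2)
    (K : Subgroup (G ⧸ Cfsg.pCore p G)) [hKn : K.Normal] (e : ↥K ≃* QuaternionGroup 2)
    (S : Sylow p (G ⧸ Cfsg.pCore p G)) {s hh : G ⧸ Cfsg.pCore p G} (hs : s ∈ S) :
    hh * s * hh⁻¹ * s⁻¹ ∈ QuatAut.QC K := by
  haveI : (QuatAut.QC K).Normal := Subgroup.sup_normal _ _
  have hidx6 : (QuatAut.QC K).index ∣ 6 := by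
    have := QuatAut.quat_relIndex_dvd_six K e
    rwa [Subgroup.normalizer_eq_top, Subgroup.relIndex_top_right] at this
  obtain ⟨k, hk⟩ := pow_orderOf_of_mem_sylow S hs
  have hK8 : Nat.card ↥K = 8 := by
    have h1 : Fintype.card (QuaternionGroup 2) = 4 * 2 := QuaternionGroup.card
    rw [Nat.card_congr e.toEquiv, Nat.card_eq_fintype_card, h1]
  by_cases hp3 : p = 3
  · subst hp3
    have hcard9 : Nat.card ↥N = 9 := by
      apply card_eq_nine_of_quat (X := G ⧸ Cfsg.pCore 3 G) (N := ↥N)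
        (fun a b => Subtype.ext (h.comm a a.2 b b.2)) ?_ ?_ h.act
        (fun v w hv hw => h.act_trans v w hv hw) K e ?_
      · obtain ⟨x, hx, hx1⟩ := h.exists_ne_one
        exact ⟨⟨x, hx⟩, fun hc => hx1 (congrArg Subtype.val hc)⟩
      · intro w
        apply Subtype.ext
        rw [Subgroup.coe_pow, Subgroup.coe_one]
        exact h.exp w w.2
      · intro k' hk' hk1 w hw
        by_contra hw1
        apply hk1
        apply h.act_fpf k' _ w hw1 hw
        have := Subgroup.orderOf_dvd_natCard K hk'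
        rw [hK8] at this
        exact Nat.Coprime.coprime_dvd_left this (by norm_num)
    have h16 : ¬ 2 ^ 4 ∣ Nat.card (G ⧸ Cfsg.pCore 3 G) := by
      intro hdvd
      haveI : Fact (Nat.Prime 2) := ⟨Nat.prime_two⟩
      obtain ⟨T, hT⟩ := Sylow.exists_subgroup_card_pow_prime 2 hdvd
      obtain ⟨x, hx, hx1⟩ := h.exists_ne_one
      have hw1 : (⟨x, hx⟩ : ↥N) ≠ 1 := fun hc => hx1 (congrArg Subtype.val hc)
      have hinj : Function.Injective
          (fun t : ↥T => h.act (t : G ⧸ Cfsg.pCore 3 G) (⟨x, hx⟩ : ↥N)) := by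
        intro t₁ t₂ ht
        have ht' : h.act (t₁ : G ⧸ Cfsg.pCore 3 G) (⟨x, hx⟩ : ↥N)
            = h.act (t₂ : G ⧸ Cfsg.pCore 3 G) (⟨x, hx⟩ : ↥N) := ht
        have hfix : h.act ((t₂ : G ⧸ Cfsg.pCore 3 G)⁻¹ * t₁) (⟨x, hx⟩ : ↥N) = ⟨x, hx⟩ := by
          rw [map_mul, MulAut.mul_apply, ht', ← MulAut.mul_apply, ← map_mul, inv_mul_cancel,
            map_one, MulAut.one_apply]
        have hmem : (t₂ : G ⧸ Cfsg.pCore 3 G)⁻¹ * t₁ ∈ T := T.mul_mem (T.inv_mem t₂.2) t₁.2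
        have hcop : (orderOf ((t₂ : G ⧸ Cfsg.pCore 3 G)⁻¹ * t₁)).Coprime 3 := by
          have := Subgroup.orderOf_dvd_natCard T hmem
          rw [hT] at this
          exact Nat.Coprime.coprime_dvd_left this (by norm_num)
        have := h.act_fpf _ hcop _ hw1 hfix
        apply Subtype.ext
        exact (inv_mul_eq_one.mp this).symm
      have := Nat.card_le_card_of_injective _ hinj
      rw [hT, hcard9] at this
      norm_num at this
    have hodd : ¬ 2 ∣ (QuatAut.QC K).index := by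
      intro h2
      apply h16
      have hKM : K ≤ QuatAut.QC K := le_sup_left
      have h8 : 8 ∣ Nat.card ↥(QuatAut.QC K) := by
        rw [← hK8]; exact Subgroup.card_dvd_of_le hKM
      rw [← Subgroup.card_mul_index (QuatAut.QC K)]
      have : (2 : ℕ) ^ 4 = 8 * 2 := by norm_num
      rw [this]
      exact Nat.mul_dvd_mul h8 h2
    have hidx3 : (QuatAut.QC K).index ∣ 3 := by
      have hc : Nat.Coprime (QuatAut.QC K).index 2 :=
        ((Nat.Prime.coprime_iff_not_dvd Nat.prime_two).mpr hodd).symm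
      have h6 : (QuatAut.QC K).index ∣ 2 * 3 := hidx6
      exact Nat.Coprime.dvd_of_dvd_mul_left hc h6
    exact comm_mem_of_index_dvd_three _ hidx3 hh s
  · have hcop : (QuatAut.QC K).index.Coprime (orderOf s) := by
      rw [hk]
      apply Nat.Coprime.pow_right
      have hp6 : Nat.Coprime (2 * 3) p := by
        have h2 : Nat.Coprime 2 p := (Nat.coprime_primes Nat.prime_two hp.out).mpr (Ne.symm hp2)
        have h3 : Nat.Coprime 3 p := (Nat.coprime_primes Nat.prime_three hp.out).mpr (Ne.symm hp3)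
        exact Nat.Coprime.mul_left h2 h3
      have h6 : (QuatAut.QC K).index ∣ 2 * 3 := hidx6
      exact Nat.Coprime.coprime_dvd_left h6 hp6
    have hsM : s ∈ QuatAut.QC K := mem_of_coprime_index _ hcop
    have h1 : hh * s * hh⁻¹ ∈ QuatAut.QC K :=
      (inferInstance : (QuatAut.QC K).Normal).conj_mem s hsM hh
    exact Subgroup.mul_mem _ h1 (Subgroup.inv_mem _ hsM)

/-- the commutator `[h, s]` centralizes every normal `q`-subgroup, `q ≠ p` -/
theorem TP.comm_centralizes_of_normal_qgroup [Group.IsSolvable G] (h : TP p N) (q : ℕ)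
    [hq : Fact q.Prime] (hqp : q ≠ p)
    (K : Subgroup (G ⧸ Cfsg.pCore p G)) [hKn : K.Normal] (hKq : IsPGroup q ↥K)
    (S : Sylow p (G ⧸ Cfsg.pCore p G)) {s hh : G ⧸ Cfsg.pCore p G} (hs : s ∈ S)
    (hhS : hh ∈ Subgroup.normalizer
      ((S : Subgroup (G ⧸ Cfsg.pCore p G)) : Set (G ⧸ Cfsg.pCore p G))) :
    ∀ y ∈ K, (hh * s * hh⁻¹ * s⁻¹) * y * (hh * s * hh⁻¹ * s⁻¹)⁻¹ = y := by
  have hs2 : hh * s * hh⁻¹ ∈ S := (Subgroup.mem_normalizer_iff.mp hhS s).mp hs
  have hcS : hh * s * hh⁻¹ * s⁻¹ ∈ S :=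
    (S : Subgroup (G ⧸ Cfsg.pCore p G)).mul_mem hs2
      ((S : Subgroup (G ⧸ Cfsg.pCore p G)).inv_mem hs)
  obtain ⟨j, hj⟩ := IsPGroup.iff_card.mp hKq
  have hKcop : (Nat.card ↥K).Coprime p := by
    rw [hj]; exact Nat.Coprime.pow_left j ((Nat.coprime_primes hq.out hp.out).mpr hqp)
  have hF : FCP ↥K := h.fcp_quot K hKcop
  rcases cyclic_or_quat_of_fcp hF q hKq with hcyc | ⟨rfl, n, ⟨e⟩⟩
  · haveI := hcyc
    exact comm_centralizes_cyclic K hh s
  · have hp2 : p ≠ 2 := fun hc => hqp hc.symm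
    rcases n with _ | _ | n
    · haveI : IsCyclic ↥K := by
        have e' : ↥K ≃* QuaternionGroup 1 := e
        exact e'.isCyclic.mpr QuaternionGroup.quaternionGroup_one_isCyclic
      exact comm_centralizes_cyclic K hh s
    · have e' : ↥K ≃* QuaternionGroup 2 := e
      have hcM := h.comm_mem_QC hp2 K e' S hs (hh := hh)
      exact odd_QC_centralizes K e' hcM (odd_orderOf_of_mem_sylow hp2 S hcS)
    · have hm : 4 ≤ 2 ^ (n + 1 + 1) := by
        have h1 : 2 ^ (n + 1 + 1) = 4 * 2 ^ n := by ring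
        have h2 := Nat.one_le_two_pow (n := n)
        omega
      have hN1 : ∀ t : G ⧸ Cfsg.pCore p G,
          t ∈ Subgroup.normalizer ((K : Subgroup (G ⧸ Cfsg.pCore p G)) : Set (G ⧸ Cfsg.pCore p G)) := by
        intro t; rw [Subgroup.normalizer_eq_top]; exact Subgroup.mem_top t
      have h1 := odd_centralizes_quat K hKq (2 ^ (n + 1 + 1)) hm e s (hN1 s)
        (odd_orderOf_of_mem_sylow hp2 S hs)
      have h2 := odd_centralizes_quat K hKq (2 ^ (n + 1 + 1)) hm e (hh * s * hh⁻¹) (hN1 _)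
        (odd_orderOf_of_mem_sylow hp2 S hs2)
      exact conj_fix_mul_inv K h2 h1

/-- key claim: elements of `N_X(S)` commute with elements of the Sylow `p`-subgroup `S` -/
theorem TP.comm_eq_one [Group.IsSolvable G] (h : TP p N) (S : Sylow p (G ⧸ Cfsg.pCore p G))
    {s hh : G ⧸ Cfsg.pCore p G} (hs : s ∈ S)
    (hhS : hh ∈ Subgroup.normalizer
      ((S : Subgroup (G ⧸ Cfsg.pCore p G)) : Set (G ⧸ Cfsg.pCore p G))) :
    hh * s * hh⁻¹ * s⁻¹ = 1 := by
  haveI : Group.IsSolvable (G ⧸ Cfsg.pCore p G) :=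
    solvable_of_surjective (QuotientGroup.mk'_surjective (Cfsg.pCore p G))
  have hs2 : hh * s * hh⁻¹ ∈ S := (Subgroup.mem_normalizer_iff.mp hhS s).mp hs
  have hcS : hh * s * hh⁻¹ * s⁻¹ ∈ S :=
    (S : Subgroup (G ⧸ Cfsg.pCore p G)).mul_mem hs2
      ((S : Subgroup (G ⧸ Cfsg.pCore p G)).inv_mem hs)
  have hbot : Cfsg.pCore p (G ⧸ Cfsg.pCore p G) = ⊥ := pCore_quotient_pCore_eq_bot p
  have hcen : ∀ q : Nat.Primes, Cfsg.pCore (q : ℕ) (G ⧸ Cfsg.pCore p G) ≤
      Subgroup.centralizer {hh * s * hh⁻¹ * s⁻¹} := by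
    intro q
    haveI : Fact (q : ℕ).Prime := ⟨q.2⟩
    by_cases hqp : (q : ℕ) = p
    · rw [hqp, hbot]; exact bot_le
    · intro y hy
      rw [Subgroup.mem_centralizer_singleton_iff]
      have := h.comm_centralizes_of_normal_qgroup (q : ℕ) hqp
        (Cfsg.pCore (q : ℕ) (G ⧸ Cfsg.pCore p G))
        (Cfsg.Agent.Lib.Helper1.pCore_isPGroup (q : ℕ)) S hs hhS y hy
      calc y * (hh * s * hh⁻¹ * s⁻¹)
          = ((hh * s * hh⁻¹ * s⁻¹) * y * (hh * s * hh⁻¹ * s⁻¹)⁻¹) * (hh * s * hh⁻¹ * s⁻¹) := by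
            rw [this]
        _ = (hh * s * hh⁻¹ * s⁻¹) * y := by group
  have hF : Cfsg.fittingSubgroup (G ⧸ Cfsg.pCore p G) ≤
      Subgroup.centralizer {hh * s * hh⁻¹ * s⁻¹} := by
    rw [Cfsg.Agent.Lib.Helper1.fittingSubgroup_eq_iSup_pCore]
    exact iSup_le hcen
  have hcC : hh * s * hh⁻¹ * s⁻¹ ∈ Subgroup.centralizer
      ((Cfsg.fittingSubgroup (G ⧸ Cfsg.pCore p G) : Subgroup (G ⧸ Cfsg.pCore p G)) :
        Set (G ⧸ Cfsg.pCore p G)) := by
    rw [Subgroup.mem_centralizer_iff]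
    intro y hy
    exact Subgroup.mem_centralizer_singleton_iff.mp (hF hy)
  have hcF := Cfsg.Agent.Lib.Helper1.centralizer_fittingSubgroup_le hcC
  have hFle : Cfsg.fittingSubgroup (G ⧸ Cfsg.pCore p G) ≤
      Cfsg.pPrimeCore p (G ⧸ Cfsg.pCore p G) := by
    rw [Cfsg.Agent.Lib.Helper1.fittingSubgroup_eq_iSup_pCore]
    apply iSup_le
    intro q
    haveI : Fact (q : ℕ).Prime := ⟨q.2⟩
    by_cases hqp : (q : ℕ) = p
    · rw [hqp, hbot]; exact bot_le
    · exact Cfsg.Agent.Lib.Helper1.pCore_le_pPrimeCore hqp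
  have hcR := hFle hcF
  have hd1 : orderOf (hh * s * hh⁻¹ * s⁻¹) ∣
      Nat.card ↥(Cfsg.pPrimeCore p (G ⧸ Cfsg.pCore p G)) := Subgroup.orderOf_dvd_natCard _ hcR
  have hcop : (orderOf (hh * s * hh⁻¹ * s⁻¹)).Coprime p :=
    Nat.Coprime.coprime_dvd_left hd1 (Cfsg.Agent.Lib.Helper1.pPrimeCore_card_coprime p)
  obtain ⟨k, hk⟩ := pow_orderOf_of_mem_sylow S hcS
  have h1 : orderOf (hh * s * hh⁻¹ * s⁻¹) = 1 :=
    Nat.Coprime.eq_one_of_dvd (Nat.Coprime.pow_right k hcop) (by rw [hk])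
  exact orderOf_eq_one_iff.mp h1

/-- **Solvable Gagola theorem** (abstract form). -/
theorem transP [Group.IsSolvable G] (h : TP p N) :
    Cfsg.HasNormalPComplement p (G ⧸ Cfsg.pCore p G) ∧
      ∀ Q : Sylow p (G ⧸ Cfsg.pCore p G),
        IsMulCommutative (Q : Subgroup (G ⧸ Cfsg.pCore p G)) := by
  have hcomm : ∀ S : Sylow p (G ⧸ Cfsg.pCore p G), ∀ a ∈ S, ∀ b ∈ S, a * b = b * a := by
    intro S a ha b hb
    have := h.comm_eq_one S hb (Subgroup.le_normalizer ha)
    calc a * b = (a * b * a⁻¹ * b⁻¹) * (b * a) := by group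
      _ = b * a := by rw [this, one_mul]
  constructor
  · obtain ⟨S⟩ : Nonempty (Sylow p (G ⧸ Cfsg.pCore p G)) := inferInstance
    have hle : Subgroup.normalizer ((S : Subgroup (G ⧸ Cfsg.pCore p G)) : Set (G ⧸ Cfsg.pCore p G))
        ≤ Subgroup.centralizer ((S : Subgroup (G ⧸ Cfsg.pCore p G)) : Set (G ⧸ Cfsg.pCore p G)) := by
      intro x hx
      rw [Subgroup.mem_centralizer_iff]
      intro s hs
      have := h.comm_eq_one S hs hx
      calc s * x = (x * s * x⁻¹ * s⁻¹)⁻¹ * (x * s) := by group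
        _ = x * s := by rw [this, inv_one, one_mul]
    exact ⟨S, (MonoidHom.transferSylow S hle).ker, MonoidHom.normal_ker _,
      MonoidHom.ker_transferSylow_isComplement' S hle⟩
  · intro Q
    exact ⟨⟨fun a b => Subtype.ext (hcomm Q a a.2 b b.2)⟩⟩

end TransP

end Cfsg.Agent.Lib.Helper2.GagSolv
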