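import Mathlib
import Cfsg.Agent.Lib.Helper2.PGroup

/-!
# Farm HD (S1235): units U2 (small centralizer bounds a section) and U9a
-/

set_option autoImplicit false

namespace Cfsg.Agent.Lib.Helper2.HDU2

/-- in a section of exponent 2 all commutators lie in `M` -/
theorem comm_mem_of_sq_mem {P : Type*} [Group P] (R M : Subgroup P)
    (hn : ∀ r ∈ R, ∀ m ∈ M, r * m * r⁻¹ ∈ M) (hsq : ∀ r ∈ R, r * r ∈ M)
    (r s : P) (hr : r ∈ R) (hs : s ∈ R) : r * s * r⁻¹ * s⁻¹ ∈ M := by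
  have h1 : r * s * (r * s) ∈ M := hsq _ (R.mul_mem hr hs)
  have h2 : s⁻¹ * (r * r)⁻¹ * s⁻¹⁻¹ ∈ M :=
    hn _ (R.inv_mem hs) _ (M.inv_mem (hsq r hr))
  have h3 : (s * s)⁻¹ ∈ M := M.inv_mem (hsq s hs)
  have h4 : r * s * r⁻¹ * s⁻¹ = r * s * (r * s) * (s⁻¹ * (r * r)⁻¹ * s⁻¹⁻¹) * (s * s)⁻¹ := by
    group
  rw [h4]
  exact M.mul_mem (M.mul_mem h1 h2) h3

/-- U2 (L1): if `b ∈ R` has a centralizer of order at most `k` then `|R : M| ≤ k`. -/
theorem U2_cent {P : Type*} [Group P] [Finite P] (R M : Subgroup P) (hMR : M ≤ R)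
    (hn : ∀ r ∈ R, ∀ m ∈ M, r * m * r⁻¹ ∈ M) (hsq : ∀ r ∈ R, r * r ∈ M)
    (b : P) (hb : b ∈ R) (k : ℕ) (hk : Nat.card ↥(Subgroup.centralizer ({b} : Set P)) ≤ k) :
    Nat.card R ≤ k * Nat.card M := by
  classical
  -- the commutator map
  let f : ↥R → ↥M := fun r =>
    ⟨(r : P) * b * (r : P)⁻¹ * b⁻¹, comm_mem_of_sq_mem R M hn hsq _ _ r.2 hb⟩
  have hf : ∀ r r' : ↥R, f r = f r' →
      (r' : P)⁻¹ * r ∈ Subgroup.centralizer ({b} : Set P) := by
    intro r r' h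
    have h1 : (r : P) * b * (r : P)⁻¹ * b⁻¹ = (r' : P) * b * (r' : P)⁻¹ * b⁻¹ :=
      congrArg Subtype.val h
    have h2 : (r : P) * b * (r : P)⁻¹ = (r' : P) * b * (r' : P)⁻¹ := mul_right_cancel h1
    rw [Subgroup.mem_centralizer_singleton_iff]
    calc (r' : P)⁻¹ * r * b = (r' : P)⁻¹ * ((r : P) * b * (r : P)⁻¹) * r := by group
      _ = (r' : P)⁻¹ * ((r' : P) * b * (r' : P)⁻¹) * r := by rw [h2]
      _ = b * ((r' : P)⁻¹ * r) := by group
  let rep : ↥M → ↥R := fun m => if h : ∃ r, f r = m then h.choose else 1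
  have hrep : ∀ r : ↥R, f (rep (f r)) = f r := by
    intro r
    have hex : ∃ r', f r' = f r := ⟨r, rfl⟩
    show f (if h : ∃ r', f r' = f r then h.choose else 1) = f r
    rw [dif_pos hex]
    exact hex.choose_spec
  let g : ↥R → ↥M × ↥(Subgroup.centralizer ({b} : Set P)) := fun r =>
    (f r, ⟨((rep (f r) : ↥R) : P)⁻¹ * r, hf r (rep (f r)) (hrep r).symm⟩)
  have hg : Function.Injective g := by
    intro r r' h
    have h1 : f r = f r' := congrArg Prod.fst h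
    have h2 : ((rep (f r) : ↥R) : P)⁻¹ * r = ((rep (f r') : ↥R) : P)⁻¹ * r' :=
      congrArg (fun x => (x.2 : P)) h
    rw [h1] at h2
    exact Subtype.ext (mul_left_cancel h2)
  have h1 := Nat.card_le_card_of_injective g hg
  rw [Nat.card_prod] at h1
  calc Nat.card R ≤ Nat.card M * Nat.card ↥(Subgroup.centralizer ({b} : Set P)) := h1
    _ ≤ Nat.card M * k := Nat.mul_le_mul_left _ hk
    _ = k * Nat.card M := mul_comm _ _

/-- U9a: inside a 2-subgroup `S ≥ T`, the centralizer of `b` lies in `T` when `T` has odd index in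
`C_G(b)`. -/
theorem U9a_smallCent {G : Type*} [Group G] [Finite G] (S T : Subgroup G) (hS : IsPGroup 2 S)
    (hTS : T ≤ S) (b : G) (hTb : T ≤ Subgroup.centralizer ({b} : Set G))
    (hodd : Odd (T.relIndex (Subgroup.centralizer ({b} : Set G))))
    (s : G) (hs : s ∈ S) (hsb : s * b = b * s) : s ∈ T := by
  haveI : Fact (Nat.Prime 2) := ⟨Nat.prime_two⟩
  have hTK : T ≤ S ⊓ Subgroup.centralizer ({b} : Set G) := le_inf hTS hTb
  have h1 := Subgroup.relIndex_mul_relIndex T (S ⊓ Subgroup.centralizer ({b} : Set G))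
    (Subgroup.centralizer ({b} : Set G)) hTK inf_le_right
  have hodd' : Odd (T.relIndex (S ⊓ Subgroup.centralizer ({b} : Set G))) := by
    rw [← h1] at hodd
    exact (Nat.odd_mul.mp hodd).1
  have hK2 : IsPGroup 2 ↥(S ⊓ Subgroup.centralizer ({b} : Set G)) :=
    hS.to_le inf_le_left
  obtain ⟨a, ha⟩ := hK2.exists_card_eq
  have h2 := Cfsg.Agent.Lib.Helper2.card_mul_relIndex hTK
  have hdvd : T.relIndex (S ⊓ Subgroup.centralizer ({b} : Set G)) ∣ 2 ^ a := by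
    rw [← ha, ← h2]
    exact dvd_mul_left _ _
  obtain ⟨j, _, hj⟩ := (Nat.dvd_prime_pow Nat.prime_two).mp hdvd
  have hj0 : j = 0 := by
    by_contra hne
    rw [hj] at hodd'
    have : Even (2 ^ j) := (Nat.even_pow' hne).mpr even_two
    exact (Nat.not_odd_iff_even.mpr this) hodd'
  rw [hj0, pow_zero] at hj
  have hle := Subgroup.relIndex_eq_one.mp hj
  have hsc : s ∈ Subgroup.centralizer ({b} : Set G) := by
    rw [Subgroup.mem_centralizer_singleton_iff]; exact hsb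
  exact hle (Subgroup.mem_inf.mpr ⟨hs, hsc⟩)

end Cfsg.Agent.Lib.Helper2.HDU2
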