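import Mathlib
import Cfsg.Prelude.Def_CaseTheorems
import Cfsg.Prelude.Def_TwoFusion
import Cfsg.Agent.Lib.Helper2.HDDefs
import Cfsg.Agent.Lib.Helper2.HDU2
import Cfsg.Agent.Lib.Helper1.HDU6a
import Cfsg.Agent.Lib.Helper3.HDU6b
import Cfsg.Agent.Lib.Helper3.HDU6c
import Cfsg.Agent.Lib.Helper2.PGroup

/-!
# Farm HD (S1235): unit U7 (case B assembly), with the bound `|N_P(T)| ≤ 64` (unit U5) as a hypothesis
-/

set_option autoImplicit false

namespace Cfsg.Agent.Lib.Helper2.HDU7

open Cfsg.Agent.Lib.Helper2.HDDefs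

/-- if `cj h T = T` then `h` normalizes `T` -/
theorem mem_normalizer_of_cj_eq {P : Type*} [Group P] (T : Subgroup P) (h : P)
    (he : cj h T = T) : h ∈ Subgroup.normalizer (T : Set P) := by
  rw [Subgroup.mem_normalizer_iff]
  intro x
  constructor
  · intro hx
    rw [← he]
    exact ⟨x, hx, rfl⟩
  · intro hx
    rw [← he] at hx
    obtain ⟨t, ht, hte⟩ := hx
    have h1 : h * t * h⁻¹ = h * x * h⁻¹ := hte
    have h2 : t = x := by
      have := congrArg (fun z => h⁻¹ * z * h) h1
      simpa [mul_assoc] using this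
    rw [← h2]; exact ht

/-- two subgroups of an abelian-like `T` meeting trivially: `|K| |B| ≤ |T|` -/
theorem card_mul_card_le_of_inf_eq_bot {P : Type*} [Group P] [Finite P] (K B T : Subgroup P)
    (hKT : K ≤ T) (hBT : B ≤ T) (hKB : K ⊓ B = ⊥) :
    Nat.card K * Nat.card B ≤ Nat.card T := by
  rw [← Nat.card_prod]
  refine Nat.card_le_card_of_injective
    (fun x : ↥K × ↥B => (⟨x.1.1 * x.2.1, T.mul_mem (hKT x.1.2) (hBT x.2.2)⟩ : ↥T)) ?_
  rintro ⟨k, b⟩ ⟨k', b'⟩ hx
  have h1 : (k : P) * b = k' * b' := congrArg Subtype.val hx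
  have h2 : (k' : P)⁻¹ * k = b' * (b : P)⁻¹ := by
    calc (k' : P)⁻¹ * k = (k' : P)⁻¹ * (k * b) * (b : P)⁻¹ := by group
      _ = (k' : P)⁻¹ * (k' * b') * (b : P)⁻¹ := by rw [h1]
      _ = b' * (b : P)⁻¹ := by group
  have h3 : (k' : P)⁻¹ * k ∈ K ⊓ B := by
    refine ⟨K.mul_mem (K.inv_mem k'.2) k.2, ?_⟩
    rw [h2]
    exact B.mul_mem b'.2 (B.inv_mem b.2)
  rw [hKB, Subgroup.mem_bot] at h3
  have h4 : (k : P) = k' := by
    have := inv_mul_eq_one.mp h3
    exact this.symm
  have h5 : (b : P) = b' := by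
    rw [h4] at h1
    exact mul_left_cancel h1
  exact Prod.ext (Subtype.ext h4) (Subtype.ext h5)

theorem U7_caseB_of_normalizer {P : Type*} [Group P] [Finite P] (hP : IsPGroup 2 P)
    (T B : Subgroup P)
    (hBT : B ≤ T) (hT16 : Nat.card T = 16) (hTexp : ∀ t ∈ T, t * t = 1) (hB4 : Nat.card B = 4)
    (hcent : SmallCent T B) (hN64 : Nat.card ↥(Subgroup.normalizer (T : Set P)) ≤ 64) :
    SecBound P := by
  haveI : Fact (Nat.Prime 2) := ⟨Nat.prime_two⟩
  haveI : Group.IsNilpotent P := hP.isNilpotent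
  have hcentb : ∀ b ∈ B, b ≠ 1 → Nat.card ↥(Subgroup.centralizer ({b} : Set P)) ≤ 16 := by
    intro b hb hb1
    rw [← hT16]
    apply Subgroup.card_le_of_le
    intro s hs
    rw [Subgroup.mem_centralizer_singleton_iff] at hs
    exact hcent b hb hb1 s hs
  have hidx := Subgroup.card_mul_index T
  rw [hT16] at hidx
  -- the structure of `P`
  have hmain : T.index ≤ 4 ∨
      (T.index ≤ 8 ∧ ∀ E : Subgroup P, (∀ e ∈ E, e * e = 1) → Nat.card E ≤ 16) := by
    by_cases hNtop : Subgroup.normalizer (T : Set P) = ⊤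
    · left
      rw [hNtop, Subgroup.card_top] at hN64
      omega
    · right
      have hlt : Subgroup.normalizer (T : Set P) <
          Subgroup.normalizer ((Subgroup.normalizer (T : Set P) : Subgroup P) : Set P) :=
        normalizerCondition_of_isNilpotent _ (lt_top_iff_ne_top.mpr hNtop)
      obtain ⟨h, hhN1, hhN⟩ := SetLike.exists_of_lt hlt
      have hT'N : cj h T ≤ Subgroup.normalizer (T : Set P) := by
        rintro _ ⟨t, ht, rfl⟩
        exact (Subgroup.mem_normalizer_iff.mp hhN1 t).mp (Subgroup.le_normalizer ht)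
      have hT'16 : Nat.card ↥(cj h T) = 16 := by
        rw [← hT16]
        exact Nat.card_congr (T.equivMapOfInjective _ (MulAut.conj h).injective).toEquiv.symm
      have hT'exp : ∀ t ∈ cj h T, t * t = 1 := by
        rintro _ ⟨t, ht, rfl⟩
        rw [← map_mul, hTexp t ht, map_one]
      have hne : cj h T ≠ T := fun he => hhN (mem_normalizer_of_cj_eq T h he)
      obtain ⟨hW, hsup, hN64', hE⟩ :=
        Cfsg.Agent.Lib.Helper1.HDU6a.U6a_two hP T B hBT hT16 hTexp hB4 hcent hN64 (cj h T) hT'16 hT'exp hne hT'N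
      have hN64'' : Nat.card ↥(T ⊔ cj h T : Subgroup P) = 64 := by rw [hsup]; exact hN64'
      obtain ⟨-, h128, hE1⟩ :=
        Cfsg.Agent.Lib.Helper3.HD.U6b_swap T (cj h T) hT16 hTexp hT'16 hT'exp hne hW hsup hN64'' hE
      have htop := Cfsg.Agent.Lib.Helper3.HD.U6c_top hP T (cj h T) hT16 hTexp hT'16 hT'exp hE1
      rw [htop, Subgroup.card_top] at h128
      refine ⟨by omega, ?_⟩
      intro E hEexp
      rcases hE1 E (by rw [htop]; exact le_top) hEexp with h1 | h1 | h1
      · rw [← hT16]; exact Subgroup.card_le_of_le h1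
      · rw [← hT'16]; exact Subgroup.card_le_of_le h1
      · omega
  intro R M hMR hn hsq
  have hMpos : 0 < Nat.card M := Nat.card_pos
  by_cases hRB : ∃ b ∈ B, b ≠ 1 ∧ b ∈ R
  · obtain ⟨b, hb, hb1, hbR⟩ := hRB
    exact Cfsg.Agent.Lib.Helper2.HDU2.U2_cent R M hMR hn hsq b hbR 16 (hcentb b hb hb1)
  · push_neg at hRB
    have hKB : (R ⊓ T) ⊓ B = ⊥ := by
      rw [eq_bot_iff]
      intro x hx
      rw [Subgroup.mem_bot]
      by_contra hx1
      exact hRB x hx.2 hx1 hx.1.1
    have hK4 : Nat.card ↥(R ⊓ T : Subgroup P) ≤ 4 := by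
      have h1 := card_mul_card_le_of_inf_eq_bot (R ⊓ T) B T inf_le_right hBT hKB
      rw [hB4, hT16] at h1
      omega
    have hrel : (R ⊓ T).relIndex R ≤ T.index := by
      rw [Subgroup.inf_relIndex_left, ← Subgroup.relIndex_top_right]
      have hne0 : T.relIndex ⊤ ≠ 0 := by
        rw [Subgroup.relIndex_top_right]
        exact Subgroup.index_ne_zero_of_finite
      exact Subgroup.relIndex_le_of_le_right le_top hne0
    have hRcard := Cfsg.Agent.Lib.Helper2.card_mul_relIndex (inf_le_left : R ⊓ T ≤ R)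
    have hRle : Nat.card R ≤ 4 * T.index := by
      rw [← hRcard]
      exact Nat.mul_le_mul hK4 hrel
    rcases hmain with h4 | ⟨h8, hEl⟩
    · calc Nat.card R ≤ 4 * T.index := hRle
        _ ≤ 4 * 4 := Nat.mul_le_mul_left _ h4
        _ ≤ 16 * Nat.card M := by omega
    · by_cases hM1 : Nat.card M = 1
      · have hMbot : M = ⊥ := Subgroup.card_eq_one.mp hM1
        have hRexp : ∀ r ∈ R, r * r = 1 := by
          intro r hr
          have := hsq r hr
          rw [hMbot, Subgroup.mem_bot] at this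
          exact this
        have := hEl R hRexp
        omega
      · have hM2 : 2 ≤ Nat.card M := by omega
        calc Nat.card R ≤ 4 * T.index := hRle
          _ ≤ 4 * 8 := Nat.mul_le_mul_left _ h8
          _ ≤ 16 * Nat.card M := by omega

end Cfsg.Agent.Lib.Helper2.HDU7
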