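import Mathlib
import Cfsg.Prelude.Def_TwoFusion

/-!
# Farm HD (S1235): units U9b, U9c (internal direct products)
-/

set_option autoImplicit false

namespace Cfsg.Agent.Lib.Helper2.HDU9

/-- U9b: an internal direct product inside `S` stays one in the subgroup type `↥S`. -/
theorem U9b_prod {G : Type*} [Group G] (S T D B : Subgroup G) (hTS : T ≤ S)
    (hprod : Cfsg.IsInternalDirectProduct D B T) :
    Cfsg.IsInternalDirectProduct (D.subgroupOf S) (B.subgroupOf S) (T.subgroupOf S) := by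
  obtain ⟨hDT, hBT, hcomm, hinf, hsup⟩ := hprod
  refine ⟨?_, ?_, ?_, ?_, ?_⟩
  · intro x hx
    rw [Subgroup.mem_subgroupOf] at hx ⊢
    exact hDT hx
  · intro x hx
    rw [Subgroup.mem_subgroupOf] at hx ⊢
    exact hBT hx
  · intro a ha b hb
    rw [Subgroup.mem_subgroupOf] at ha hb
    apply Subtype.ext
    rw [Subgroup.coe_mul, Subgroup.coe_mul]
    exact hcomm _ ha _ hb
  · rw [eq_bot_iff]
    intro x hx
    rw [Subgroup.mem_bot]
    obtain ⟨h1, h2⟩ := hx
    have h1' : (x : G) ∈ D := Subgroup.mem_subgroupOf.mp h1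
    have h2' : (x : G) ∈ B := Subgroup.mem_subgroupOf.mp h2
    have h3 : (x : G) ∈ D ⊓ B := ⟨h1', h2'⟩
    rw [hinf, Subgroup.mem_bot] at h3
    exact Subtype.ext h3
  · rw [← Subgroup.subgroupOf_sup (hDT.trans hTS) (hBT.trans hTS), hsup]

/-- U9c: order and elements of an internal direct product. -/
theorem U9c_card {G : Type*} [Group G] [Finite G] (T D B : Subgroup G)
    (hprod : Cfsg.IsInternalDirectProduct D B T) :
    Nat.card T = Nat.card D * Nat.card B ∧ ∀ t ∈ T, ∃ d ∈ D, ∃ b ∈ B, t = d * b := by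
  obtain ⟨hDT, hBT, hcomm, hinf, hsup⟩ := hprod
  -- the set of products is a subgroup
  let X : Subgroup G :=
    { carrier := {x | ∃ d ∈ D, ∃ b ∈ B, x = d * b}
      one_mem' := ⟨1, D.one_mem, 1, B.one_mem, (one_mul 1).symm⟩
      mul_mem' := by
        rintro _ _ ⟨d, hd, b, hb, rfl⟩ ⟨d', hd', b', hb', rfl⟩
        refine ⟨d * d', D.mul_mem hd hd', b * b', B.mul_mem hb hb', ?_⟩
        calc d * b * (d' * b') = d * (b * d') * b' := by group
          _ = d * (d' * b) * b' := by rw [hcomm d' hd' b hb]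
          _ = d * d' * (b * b') := by group
      inv_mem' := by
        rintro _ ⟨d, hd, b, hb, rfl⟩
        refine ⟨d⁻¹, D.inv_mem hd, b⁻¹, B.inv_mem hb, ?_⟩
        rw [mul_inv_rev]
        exact (hcomm d⁻¹ (D.inv_mem hd) b⁻¹ (B.inv_mem hb)).symm }
  have hdec : ∀ t ∈ T, ∃ d ∈ D, ∃ b ∈ B, t = d * b := by
    intro t ht
    rw [← hsup] at ht
    have hle : D ⊔ B ≤ X := by
      apply sup_le
      · intro d hd
        exact ⟨d, hd, 1, B.one_mem, (mul_one d).symm⟩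
      · intro b hb
        exact ⟨1, D.one_mem, b, hb, (one_mul b).symm⟩
    exact hle ht
  refine ⟨?_, hdec⟩
  rw [← Nat.card_prod]
  symm
  refine Nat.card_congr (Equiv.ofBijective
    (fun x : ↥D × ↥B => (⟨x.1.1 * x.2.1, T.mul_mem (hDT x.1.2) (hBT x.2.2)⟩ : ↥T)) ⟨?_, ?_⟩)
  · rintro ⟨k, b⟩ ⟨k', b'⟩ hx
    have h1 : (k : G) * b = k' * b' := congrArg Subtype.val hx
    have h2 : (k' : G)⁻¹ * k = b' * (b : G)⁻¹ := by
      calc (k' : G)⁻¹ * k = (k' : G)⁻¹ * (k * b) * (b : G)⁻¹ := by group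
        _ = (k' : G)⁻¹ * (k' * b') * (b : G)⁻¹ := by rw [h1]
        _ = b' * (b : G)⁻¹ := by group
    have h3 : (k' : G)⁻¹ * k ∈ D ⊓ B := by
      refine ⟨D.mul_mem (D.inv_mem k'.2) k.2, ?_⟩
      rw [h2]
      exact B.mul_mem b'.2 (B.inv_mem b.2)
    rw [hinf, Subgroup.mem_bot] at h3
    have h4 : (k : G) = k' := (inv_mul_eq_one.mp h3).symm
    have h5 : (b : G) = b' := by
      rw [h4] at h1
      exact mul_left_cancel h1
    exact Prod.ext (Subtype.ext h4) (Subtype.ext h5)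
  · rintro ⟨t, ht⟩
    obtain ⟨d, hd, b, hb, htdb⟩ := hdec t ht
    exact ⟨(⟨d, hd⟩, ⟨b, hb⟩), Subtype.ext htdb.symm⟩

end Cfsg.Agent.Lib.Helper2.HDU9
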