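import Mathlib
import Cfsg.Prelude.Def_CaseTheorems
import Cfsg.Prelude.Def_TwoFusion
import Cfsg.Agent.Lib.Helper2.HDDefs
import Cfsg.Agent.Lib.Helper2.HDU2
import Cfsg.Agent.Lib.Helper2.HDU7
import Cfsg.Agent.Lib.Helper2.HDU9
import Cfsg.Agent.Lib.Helper5.HDU1
import Cfsg.Agent.Lib.Helper5.HDU89
import Cfsg.Agent.Lib.Helper6.HDU5
import Cfsg.Agent.Lib.Helper9.HDU8a
import Cfsg.Agent.Lib.Helper9.HDU3a
import Cfsg.Agent.Lib.Helper4.HDU3b
import Cfsg.Agent.Lib.Helper1.HDU4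
import Cfsg.Agent.Lib.Helper2.PGroup

/-!
# Farm HD (S1235): final assembly
-/

set_option autoImplicit false

namespace Cfsg.Agent.Lib.Helper2.HDAsm

open Cfsg.Agent.Lib.Helper2.HDDefs

theorem main {G : Type*} [Group G] [Finite G] (T D B : Subgroup G) (hT : IsPGroup 2 T)
    (hprod : Cfsg.IsInternalDirectProduct D B T)
    (hD : (∃ m : ℕ, 2 ≤ m ∧ Nonempty (D ≃* DihedralGroup m)) ∨ Cfsg.IsQuasiDihedral D)
    (hB : IsKleinFour B)
    (hTb : ∀ b ∈ B, orderOf b = 2 → T ≤ Subgroup.centralizer ({b} : Set G) ∧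
      Odd (T.relIndex (Subgroup.centralizer ({b} : Set G)))) :
    Cfsg.SectionalPRankLE 2 4 G := by
  obtain ⟨S, hTS⟩ := hT.exists_le_sylow
  have hB4 : Nat.card B = 4 := hB.card_four
  have hBexp : ∀ b ∈ B, b * b = 1 := by
    intro b hb
    have h := Monoid.pow_exponent_eq_one (⟨b, hb⟩ : B)
    rw [hB.exponent_two] at h
    have h' := congrArg Subtype.val h
    simpa [pow_two] using h'
  have hprod' := hprod
  obtain ⟨hDT, hBT, hcomm, hinf, hsup⟩ := hprod
  have hDS : D ≤ S := hDT.trans hTS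
  have hBS : B ≤ S := hBT.trans hTS
  have hP : IsPGroup 2 ↥(S : Subgroup G) := S.isPGroup'
  have hprod₀ := Cfsg.Agent.Lib.Helper2.HDU9.U9b_prod (S : Subgroup G) T D B hTS hprod'
  have hB₀4 : Nat.card ↥(B.subgroupOf (S : Subgroup G)) = 4 := by
    rw [Nat.card_congr (Subgroup.subgroupOfEquivOfLe hBS).toEquiv]; exact hB4
  have hT₀card : Nat.card ↥(T.subgroupOf (S : Subgroup G)) = Nat.card T :=
    Nat.card_congr (Subgroup.subgroupOfEquivOfLe hTS).toEquiv
  have hD₀card : Nat.card ↥(D.subgroupOf (S : Subgroup G)) = Nat.card D :=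
    Nat.card_congr (Subgroup.subgroupOfEquivOfLe hDS).toEquiv
  have hB₀exp : ∀ b ∈ B.subgroupOf (S : Subgroup G), b * b = 1 := by
    intro b hb
    apply Subtype.ext
    rw [Subgroup.coe_mul]
    exact hBexp b.1 (Subgroup.mem_subgroupOf.mp hb)
  have hcent₀ : SmallCent (T.subgroupOf (S : Subgroup G)) (B.subgroupOf (S : Subgroup G)) := by
    intro b hb hb1 s hsb
    rw [Subgroup.mem_subgroupOf] at hb ⊢
    have hb1' : (b : G) ≠ 1 := fun h => hb1 (Subtype.ext h)
    have ho : orderOf (b : G) = 2 :=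
      orderOf_eq_prime (by rw [pow_two]; exact hBexp _ hb) hb1'
    obtain ⟨h1, h2⟩ := hTb _ hb ho
    refine Cfsg.Agent.Lib.Helper2.HDU2.U9a_smallCent (S : Subgroup G) T S.isPGroup' hTS (b : G) h1 h2 (s : G) s.2 ?_
    have h' := congrArg Subtype.val hsb
    simpa using h'
  obtain ⟨hcard, hdec⟩ := Cfsg.Agent.Lib.Helper2.HDU9.U9c_card T D B hprod'
  have hSB : SecBound ↥(S : Subgroup G) := by
    have hcases : (Nat.card D = 4 ∧ ∀ d ∈ D, d * d = 1) ∨
        ∃ C : Subgroup G, C ≤ D ∧ IsCyclic C ∧ C.relIndex D = 2 ∧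
          ∃ d ∈ D, ∃ d' ∈ D, d * d' ≠ d' * d := by
      rcases hD with ⟨m, hm, ⟨e⟩⟩ | hq
      · exact Cfsg.Agent.Lib.Helper9.HD.U8a_dihedral D m hm e
      · exact Or.inr (Cfsg.Agent.Lib.Helper5.HDU89.U8b_quasidihedral D hq)
    rcases hcases with ⟨hD4, hDexp⟩ | ⟨C, hCD, hC, hidx, d, hd, d', hd', hne⟩
    · -- case B
      have hT16 : Nat.card ↥(T.subgroupOf (S : Subgroup G)) = 16 := by
        rw [hT₀card, hcard, hD4, hB4]
      have hTexp : ∀ t ∈ T.subgroupOf (S : Subgroup G), t * t = 1 := by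
        intro t ht
        apply Subtype.ext
        rw [Subgroup.coe_mul]
        obtain ⟨d, hd, b, hb, htdb⟩ := hdec t.1 (Subgroup.mem_subgroupOf.mp ht)
        rw [htdb]
        calc d * b * (d * b) = d * (b * d) * b := by group
          _ = d * (d * b) * b := by rw [hcomm d hd b hb]
          _ = (d * d) * (b * b) := by group
          _ = 1 := by rw [hDexp d hd, hBexp b hb, one_mul]
      have hBT₀ : B.subgroupOf (S : Subgroup G) ≤ T.subgroupOf (S : Subgroup G) := by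
        intro b hb
        rw [Subgroup.mem_subgroupOf] at hb ⊢
        exact hBT hb
      exact Cfsg.Agent.Lib.Helper2.HDU7.U7_caseB_of_normalizer hP _ _ hBT₀ hT16 hTexp hB₀4 hcent₀
        (Cfsg.Agent.Lib.Helper6.HD.U5_normalizer hP _ _ hBT₀ hT16 hTexp hB₀4 hcent₀)
    · -- case A
      have hCS : C ≤ S := hCD.trans hDS
      have hC₀D₀ : C.subgroupOf (S : Subgroup G) ≤ D.subgroupOf (S : Subgroup G) := by
        intro c hc
        rw [Subgroup.mem_subgroupOf] at hc ⊢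
        exact hCD hc
      have hC₀ : IsCyclic ↥(C.subgroupOf (S : Subgroup G)) :=
        isCyclic_of_surjective (Subgroup.subgroupOfEquivOfLe hCS).symm.toMonoidHom
          (Subgroup.subgroupOfEquivOfLe hCS).symm.surjective
      have hidx₀ : (C.subgroupOf (S : Subgroup G)).relIndex (D.subgroupOf (S : Subgroup G)) = 2 := by
        rw [Subgroup.relIndex_subgroupOf hDS]; exact hidx
      have hnab₀ : ∃ d ∈ D.subgroupOf (S : Subgroup G), ∃ d' ∈ D.subgroupOf (S : Subgroup G),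
          d * d' ≠ d' * d := by
        refine ⟨⟨d, hDS hd⟩, Subgroup.mem_subgroupOf.mpr hd, ⟨d', hDS hd'⟩,
          Subgroup.mem_subgroupOf.mpr hd', ?_⟩
        intro h
        exact hne (congrArg Subtype.val h)
      obtain ⟨Z, hBZ, hZT, hZexp, hZc, hZ8, hZn⟩ :=
        Cfsg.Agent.Lib.Helper9.HD.U3a_omega _ _ _ _ hprod₀ hB₀4 hB₀exp hC₀D₀ hC₀ hidx₀ hnab₀
      have htop : T.subgroupOf (S : Subgroup G) = ⊤ :=
        Cfsg.Agent.Lib.Helper4.HD.U3b_top hP _ _ Z hB₀4 hcent₀ hBZ hZT hZexp hZc hZ8 hZn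
      have hidx8 : (C.subgroupOf (S : Subgroup G)).index ≤ 8 := by
        have hDT₀ : D.subgroupOf (S : Subgroup G) ≤ T.subgroupOf (S : Subgroup G) := by
          intro c hc
          rw [Subgroup.mem_subgroupOf] at hc ⊢
          exact hDT hc
        have h1 := Subgroup.relIndex_mul_relIndex _ _ _ hC₀D₀ hDT₀
        have h2 := Cfsg.Agent.Lib.Helper2.card_mul_relIndex hDT₀
        rw [hT₀card, hD₀card, hcard, hB4] at h2
        have hDpos : 0 < Nat.card D := Nat.card_pos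
        have h3 : (D.subgroupOf (S : Subgroup G)).relIndex (T.subgroupOf (S : Subgroup G)) = 4 :=
          Nat.eq_of_mul_eq_mul_left hDpos h2
        rw [h3, hidx₀, htop, Subgroup.relIndex_top_right] at h1
        omega
      exact Cfsg.Agent.Lib.Helper1.HDU4.U4_cyclic _ hC₀ hidx8
  exact Cfsg.Agent.Lib.Helper5.HDU1.U1b_sectional S (fun R M hRS hMR hn hsq => Cfsg.Agent.Lib.Helper5.HDU1.U1a_transfer (S : Subgroup G) hSB R M hRS hMR hn hsq)

end Cfsg.Agent.Lib.Helper2.HDAsm
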