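import Mathlib
import Cfsg.Prelude.Def_CaseTheorems
import Cfsg.Prelude.Def_TwoFusion
import Cfsg.Agent.Lib.Helper2.HDDefs

/-!
# Farm HD (S1235): unit stubs.  Prove each VERBATIM in your own new file
`Cfsg/Agent/Lib/<You>/HD<unit>.lean` (namespace of your choice); do not edit this file.
-/

set_option autoImplicit false

namespace Cfsg.Agent.Lib.Helper2.HDStubs

open Cfsg.Agent.Lib.Helper2.HDDefs

/-- U1a: transfer of `SecBound` from the subgroup type `↥S` to subgroups of `G` inside `S`. -/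
theorem U1a_transfer {G : Type*} [Group G] (S : Subgroup G) (h : SecBound ↥S)
    (R M : Subgroup G) (hRS : R ≤ S) (hMR : M ≤ R) (hn : ∀ r ∈ R, ∀ m ∈ M, r * m * r⁻¹ ∈ M)
    (hsq : ∀ r ∈ R, r * r ∈ M) : Nat.card R ≤ 16 * Nat.card M := by
  sorry

/-- U1b: the bound for the subgroups of one Sylow 2-subgroup gives sectional 2-rank at most 4. -/
theorem U1b_sectional {G : Type*} [Group G] [Finite G] (S : Sylow 2 G)
    (h : ∀ R M : Subgroup G, R ≤ (S : Subgroup G) → M ≤ R →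
      (∀ r ∈ R, ∀ m ∈ M, r * m * r⁻¹ ∈ M) → (∀ r ∈ R, r * r ∈ M) →
      Nat.card R ≤ 16 * Nat.card M) : Cfsg.SectionalPRankLE 2 4 G := by
  sorry

/-- U2 (L1): if `b ∈ R` has a centralizer of order at most `k` then `|R : M| ≤ k`. -/
theorem U2_cent {P : Type*} [Group P] [Finite P] (R M : Subgroup P) (hMR : M ≤ R)
    (hn : ∀ r ∈ R, ∀ m ∈ M, r * m * r⁻¹ ∈ M) (hsq : ∀ r ∈ R, r * r ∈ M)
    (b : P) (hb : b ∈ R) (k : ℕ) (hk : Nat.card ↥(Subgroup.centralizer ({b} : Set P)) ≤ k) :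
    Nat.card R ≤ k * Nat.card M := by
  sorry

/-- U3a (case A): `D` nonabelian with a cyclic subgroup of index 2: the subgroup
`Z = Ω₁(Z(T))` has order at most 8, contains `B`, is central in `T` of exponent 2 and is
invariant under `N_P(T)`. -/
theorem U3a_omega {P : Type*} [Group P] [Finite P]
    (T D B C : Subgroup P) (hprod : Cfsg.IsInternalDirectProduct D B T)
    (hB4 : Nat.card B = 4) (hBexp : ∀ b ∈ B, b * b = 1)
    (hCD : C ≤ D) (hC : IsCyclic C) (hidx : C.relIndex D = 2)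
    (hnab : ∃ d ∈ D, ∃ d' ∈ D, d * d' ≠ d' * d) :
    ∃ Z : Subgroup P, B ≤ Z ∧ Z ≤ T ∧ (∀ z ∈ Z, z * z = 1) ∧ (∀ z ∈ Z, ∀ t ∈ T, z * t = t * z) ∧
      Nat.card Z ≤ 8 ∧ ∀ g ∈ Subgroup.normalizer (T : Set P), ∀ z ∈ Z, g * z * g⁻¹ ∈ Z := by
  sorry

/-- U3b (case A): with such a `Z` of order at most 8, `T` is all of the 2-group `P`
(else `g ∈ N_P(T) \ T` with `g² ∈ T`; `z ↦ z⁻¹ (g z g⁻¹)` is a hom `Z → C_Z(g)` with kernel
`C_Z(g)`, so `|C_Z(g)|² ≥ |Z|`, `C_Z(g) ∩ B ≠ 1`, `g ∈ T`). -/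
theorem U3b_top {P : Type*} [Group P] [Finite P] (hP : IsPGroup 2 P)
    (T B Z : Subgroup P) (hB4 : Nat.card B = 4) (hcent : SmallCent T B)
    (hBZ : B ≤ Z) (hZT : Z ≤ T) (hZexp : ∀ z ∈ Z, z * z = 1)
    (hZc : ∀ z ∈ Z, ∀ t ∈ T, z * t = t * z) (hZ8 : Nat.card Z ≤ 8)
    (hZn : ∀ g ∈ Subgroup.normalizer (T : Set P), ∀ z ∈ Z, g * z * g⁻¹ ∈ Z) : T = ⊤ := by
  sorry

/-- U4 (case A): a cyclic subgroup of index at most 8 bounds the sections. -/
theorem U4_cyclic {P : Type*} [Group P] [Finite P] (C : Subgroup P) (hC : IsCyclic C)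
    (hidx : C.index ≤ 8) : SecBound P := by
  sorry

/-- U5 (case B): `|N_P(T) : T| ≤ 4`. -/
theorem U5_normalizer {P : Type*} [Group P] [Finite P] (hP : IsPGroup 2 P) (T B : Subgroup P)
    (hBT : B ≤ T) (hT16 : Nat.card T = 16) (hTexp : ∀ t ∈ T, t * t = 1) (hB4 : Nat.card B = 4)
    (hcent : SmallCent T B) : Nat.card ↥(Subgroup.normalizer (T : Set P)) ≤ 64 := by
  sorry

/-- U6a (case B): a second elementary abelian subgroup of order 16 inside `N_P(T)`. -/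
theorem U6a_two {P : Type*} [Group P] [Finite P] (hP : IsPGroup 2 P) (T B : Subgroup P)
    (hBT : B ≤ T) (hT16 : Nat.card T = 16) (hTexp : ∀ t ∈ T, t * t = 1) (hB4 : Nat.card B = 4)
    (hcent : SmallCent T B) (hN : Nat.card ↥(Subgroup.normalizer (T : Set P)) ≤ 64)
    (T' : Subgroup P) (hT'16 : Nat.card T' = 16) (hT'exp : ∀ t ∈ T', t * t = 1) (hne : T' ≠ T)
    (hT'N : T' ≤ Subgroup.normalizer (T : Set P)) :
    Nat.card ↥(T ⊓ T') = 4 ∧ T ⊔ T' = Subgroup.normalizer (T : Set P) ∧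
      Nat.card ↥(Subgroup.normalizer (T : Set P)) = 64 ∧
      ∀ E : Subgroup P, E ≤ T ⊔ T' → (∀ e ∈ E, e * e = 1) → E ≤ T ∨ E ≤ T' := by
  sorry

/-- U6b (case B): the normalizer of `N = T T'` swaps `T` and `T'`, has order at most 128 and its
subgroups of exponent 2 lie in `T`, in `T'`, or have order at most 8. -/
theorem U6b_swap {P : Type*} [Group P] [Finite P] (T T' : Subgroup P)
    (hT16 : Nat.card T = 16) (hTexp : ∀ t ∈ T, t * t = 1)
    (hT'16 : Nat.card T' = 16) (hT'exp : ∀ t ∈ T', t * t = 1) (hne : T' ≠ T)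
    (hW : Nat.card ↥(T ⊓ T') = 4) (hNT : T ⊔ T' = Subgroup.normalizer (T : Set P))
    (hN64 : Nat.card ↥(T ⊔ T' : Subgroup P) = 64)
    (hE : ∀ E : Subgroup P, E ≤ T ⊔ T' → (∀ e ∈ E, e * e = 1) → E ≤ T ∨ E ≤ T') :
    (∀ y ∈ Subgroup.normalizer ((T ⊔ T' : Subgroup P) : Set P), y ∉ T ⊔ T' →
        cj y T = T' ∧ cj y T' = T) ∧
      Nat.card ↥(Subgroup.normalizer ((T ⊔ T' : Subgroup P) : Set P)) ≤ 128 ∧
      ∀ E : Subgroup P, E ≤ Subgroup.normalizer ((T ⊔ T' : Subgroup P) : Set P) →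
        (∀ e ∈ E, e * e = 1) → E ≤ T ∨ E ≤ T' ∨ Nat.card E ≤ 8 := by
  sorry

/-- U6c (case B): the normalizer of `N = T T'` is all of `P`. -/
theorem U6c_top {P : Type*} [Group P] [Finite P] (hP : IsPGroup 2 P) (T T' : Subgroup P)
    (hT16 : Nat.card T = 16) (hTexp : ∀ t ∈ T, t * t = 1)
    (hT'16 : Nat.card T' = 16) (hT'exp : ∀ t ∈ T', t * t = 1)
    (hE1 : ∀ E : Subgroup P, E ≤ Subgroup.normalizer ((T ⊔ T' : Subgroup P) : Set P) →
        (∀ e ∈ E, e * e = 1) → E ≤ T ∨ E ≤ T' ∨ Nat.card E ≤ 8) :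
    Subgroup.normalizer ((T ⊔ T' : Subgroup P) : Set P) = ⊤ := by
  sorry

/-- U7 (case B): the bound for `P`. -/
theorem U7_caseB {P : Type*} [Group P] [Finite P] (hP : IsPGroup 2 P) (T B : Subgroup P)
    (hBT : B ≤ T) (hT16 : Nat.card T = 16) (hTexp : ∀ t ∈ T, t * t = 1) (hB4 : Nat.card B = 4)
    (hcent : SmallCent T B) : SecBound P := by
  sorry

/-- U8a: dihedral `D`: four-group, or nonabelian with a cyclic subgroup of index 2. -/
theorem U8a_dihedral {G : Type*} [Group G] (D : Subgroup G) (m : ℕ) (hm : 2 ≤ m)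
    (e : ↥D ≃* DihedralGroup m) :
    (Nat.card D = 4 ∧ ∀ d ∈ D, d * d = 1) ∨
      ∃ C : Subgroup G, C ≤ D ∧ IsCyclic C ∧ C.relIndex D = 2 ∧
        ∃ d ∈ D, ∃ d' ∈ D, d * d' ≠ d' * d := by
  sorry

/-- U8b: quasidihedral `D`: nonabelian with a cyclic subgroup of index 2. -/
theorem U8b_quasidihedral {G : Type*} [Group G] (D : Subgroup G) (hD : Cfsg.IsQuasiDihedral ↥D) :
    ∃ C : Subgroup G, C ≤ D ∧ IsCyclic C ∧ C.relIndex D = 2 ∧
      ∃ d ∈ D, ∃ d' ∈ D, d * d' ≠ d' * d := by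
  sorry

/-- U9a: inside a 2-subgroup `S ≥ T`, the centralizer of `b` lies in `T` when `T` has odd index in
`C_G(b)`. -/
theorem U9a_smallCent {G : Type*} [Group G] [Finite G] (S T : Subgroup G) (hS : IsPGroup 2 S)
    (hTS : T ≤ S) (b : G) (hTb : T ≤ Subgroup.centralizer ({b} : Set G))
    (hodd : Odd (T.relIndex (Subgroup.centralizer ({b} : Set G))))
    (s : G) (hs : s ∈ S) (hsb : s * b = b * s) : s ∈ T := by
  sorry

/-- U9b: an internal direct product inside `S` stays one in the subgroup type `↥S`. -/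
theorem U9b_prod {G : Type*} [Group G] (S T D B : Subgroup G) (hTS : T ≤ S)
    (hprod : Cfsg.IsInternalDirectProduct D B T) :
    Cfsg.IsInternalDirectProduct (D.subgroupOf S) (B.subgroupOf S) (T.subgroupOf S) := by
  sorry

/-- U9c: order and elements of an internal direct product. -/
theorem U9c_card {G : Type*} [Group G] [Finite G] (T D B : Subgroup G)
    (hprod : Cfsg.IsInternalDirectProduct D B T) :
    Nat.card T = Nat.card D * Nat.card B ∧ ∀ t ∈ T, ∃ d ∈ D, ∃ b ∈ B, t = d * b := by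
  sorry

end Cfsg.Agent.Lib.Helper2.HDStubs
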