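import Mathlib
import Cfsg.Prelude
import Cfsg.Agent.Lib.Helper2.HIGDefs

/-!
HIG farm (S3050): STUBS (sorry'd statements, NEVER import this file).
Each unit proves its statement VERBATIM (same names of hypotheses not required, same types required)
in a NEW file `Cfsg/Agent/Lib/HelperN/HIG....lean`, namespace of your choice.
-/

namespace Cfsg.Agent.Lib.Helper2.HIGStubs

open Cfsg.Agent.Lib.Helper2.HIG

universe u

/-! ## U0 : SL2 facts -/

/-- U0a: `SL₂(K)` is generated by the `u(a)`, `l(a)`. -/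
theorem sl2_closure (K : Type*) [Field K] :
    Subgroup.closure (Set.range (uM : K → SL2 K) ∪ Set.range (lM : K → SL2 K)) = ⊤ := sorry

/-- U0b: elements of order three are conjugate to `x0` (perfect field of char 2; here finite). -/
theorem order3_conj {K : Type*} [Field K] [Finite K] [CharP K 2] (y : SL2 K) (hy : orderOf y = 3) :
    ∃ g : SL2 K, g * y * g⁻¹ = x0 K := sorry

/-! ## Part M : module theorem (helper8: ring_lemma; U3': coordinates) -/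

/-- UM: the module theorem in coordinates. -/
theorem module_coords {K : Type*} [Field K] [Finite K] [CharP K 2] (hK : ∃ m : K, m ≠ 0 ∧ m ≠ 1)
    {V : Type*} [AddCommGroup V] [Finite V] (h2V : ∀ v : V, v + v = 0)
    (ρ : SL2 K →* AddMonoid.End V)
    (H3 : ∀ v, ρ (x0 K) (ρ (x0 K) v) + ρ (x0 K) v + v = 0) :
    ∃ (k : ℕ) (Ψ : V ≃+ (Fin k → Fin 2 → K)),
      ∀ (g : SL2 K) (v : V) (i : Fin k),
        Ψ (ρ g v) i = (g : Matrix (Fin 2) (Fin 2) K).mulVec (Ψ v i) := sorry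

/-! ## Part G, abstract lemmas -/

/-- UG1: an equivariant alternating biadditive map between two such modules vanishes. -/
theorem beta_zero {K : Type*} [Field K] [Finite K] [CharP K 2] (hK : ∃ m : K, m ≠ 0 ∧ m ≠ 1)
    {V Z : Type*} [AddCommGroup V] [Finite V] [AddCommGroup Z] [Finite Z]
    (h2V : ∀ v : V, v + v = 0) (h2Z : ∀ z : Z, z + z = 0)
    (ρV : SL2 K →* AddMonoid.End V) (ρZ : SL2 K →* AddMonoid.End Z)
    (H3V : ∀ v, ρV (x0 K) (ρV (x0 K) v) + ρV (x0 K) v + v = 0)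
    (H3Z : ∀ z, ρZ (x0 K) (ρZ (x0 K) z) + ρZ (x0 K) z + z = 0)
    (β : V → V → Z)
    (hadd₁ : ∀ v v' w, β (v + v') w = β v w + β v' w)
    (hadd₂ : ∀ v w w', β v (w + w') = β v w + β v w')
    (halt : ∀ v, β v v = 0)
    (heq : ∀ (g : SL2 K) (v w : V), β (ρV g v) (ρV g w) = ρZ g (β v w)) :
    ∀ v w, β v w = 0 := sorry

/-- UG2: the `ℤ/4` lemma: a finite abelian group of exponent dividing 4 on which `SL₂(K)` acts
with `1 + x0 + x0² = 0` has exponent dividing 2. -/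
theorem exp_two {K : Type*} [Field K] [Finite K] [CharP K 2] (hK : ∃ m : K, m ≠ 0 ∧ m ≠ 1)
    {W : Type*} [AddCommGroup W] [Finite W] (h4 : ∀ w : W, (w + w) + (w + w) = 0)
    (ρ : SL2 K →* AddMonoid.End W)
    (H3 : ∀ w, ρ (x0 K) (ρ (x0 K) w) + ρ (x0 K) w + w = 0) :
    ∀ w : W, w + w = 0 := sorry

/-! ## group side -/

open scoped IsMulCommutative in
/-- US1: the conjugation action of `G/Q ≃ S` on an abelian normal subgroup `A` centralised by `Q`. -/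
theorem exists_subAct {G : Type*} [Group G] {S : Type*} [Group S] (Q : Subgroup G) [Q.Normal]
    (e : G ⧸ Q ≃* S) (A : Subgroup G) [hA : A.Normal] [IsMulCommutative ↥A]
    (hQA : ∀ q ∈ Q, ∀ a ∈ A, q * a = a * q) :
    ∃ ρ : S →* AddMonoid.End (Additive ↥A), ∀ (g : G) (a : ↥A),
      ρ (e (QuotientGroup.mk g)) (Additive.ofMul a) =
        Additive.ofMul (⟨g * (a : G) * g⁻¹, hA.conj_mem a a.2 g⟩ : ↥A) := sorry

/-- US2a: third isomorphism theorem packaging. -/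
theorem quotient_equiv {G : Type*} [Group G] {S : Type*} [Group S] (Q : Subgroup G) [Q.Normal]
    (e : G ⧸ Q ≃* S) (Z : Subgroup G) [Z.Normal] (hZQ : Z ≤ Q) :
    ∃ e' : (G ⧸ Z) ⧸ (Q.map (QuotientGroup.mk' Z)) ≃* S,
      ∀ g : G, e' (QuotientGroup.mk (QuotientGroup.mk g : G ⧸ Z)) = e (QuotientGroup.mk g) := sorry

/-- US2b: coprime action: a fixed-point-free element of order three stays fixed-point-free on `Q/Z`. -/
theorem fpf_quotient {G : Type*} [Group G] [Finite G] (Q : Subgroup G) [Q.Normal]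
    (hQ : IsPGroup 2 ↥Q) (Z : Subgroup G) [Z.Normal] (hZQ : Z ≤ Q)
    (x : G) (hx : orderOf x = 3) (hfpf : ∀ q ∈ Q, x * q * x⁻¹ = q → q = 1) :
    orderOf (QuotientGroup.mk x : G ⧸ Z) = 3 ∧
      ∀ q' ∈ Q.map (QuotientGroup.mk' Z),
        (QuotientGroup.mk x : G ⧸ Z) * q' * (QuotientGroup.mk x : G ⧸ Z)⁻¹ = q' → q' = 1 := sorry

/-- US2c: `Ω₁(Z(Q))` as a normal subgroup of `G`. -/
theorem exists_central_elem {G : Type*} [Group G] [Finite G] (Q : Subgroup G) [Q.Normal]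
    (hQ : IsPGroup 2 ↥Q) (hQ1 : Q ≠ ⊥) :
    ∃ Z : Subgroup G, Z.Normal ∧ Z ≤ Q ∧ Z ≠ ⊥ ∧ (∀ z ∈ Z, ∀ q ∈ Q, q * z = z * q) ∧
      ∀ z ∈ Z, z ^ 2 = 1 := sorry

/-- UG (owner, assembly): `Q` is elementary abelian. -/
theorem elemAb {K : Type*} [Field K] [Finite K] [CharP K 2] (hK : ∃ m : K, m ≠ 0 ∧ m ≠ 1)
    (N : ℕ) : ∀ (G : Type u) [Group G] [Finite G] (Q : Subgroup G) [Q.Normal] (_hQ : IsPGroup 2 ↥Q)
      (e : G ⧸ Q ≃* SL2 K) (x : G) (_hx : orderOf x = 3) (_hex : e (QuotientGroup.mk x) = x0 K)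
      (_hfpf : ∀ q ∈ Q, x * q * x⁻¹ = q → q = 1), Nat.card G = N →
      IsMulCommutative ↥Q ∧ ∀ a ∈ Q, a ^ 2 = 1 := sorry

open scoped IsMulCommutative in
/-- UF: packaging into `ActsAsSL2OnSection`. -/
theorem partF {G : Type*} [Group G] [Finite G] (Q : Subgroup G) [hQn : Q.Normal]
    {K : Type*} [Field K] (e : G ⧸ Q ≃* SL2 K) [IsMulCommutative ↥Q]
    (ρ : SL2 K →* AddMonoid.End (Additive ↥Q))
    (hρ : ∀ (g : G) (a : ↥Q), ρ (e (QuotientGroup.mk g)) (Additive.ofMul a) =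
        Additive.ofMul (⟨g * (a : G) * g⁻¹, hQn.conj_mem a a.2 g⟩ : ↥Q))
    (k : ℕ) (Ψ : Additive ↥Q ≃+ (Fin k → Fin 2 → K))
    (hΨ : ∀ (g : SL2 K) (v : Additive ↥Q) (i : Fin k),
        Ψ (ρ g v) i = (g : Matrix (Fin 2) (Fin 2) K).mulVec (Ψ v i)) :
    ∃ V : Fin k → Subgroup G,
      (∀ i, V i ≤ Q ∧ (V i).Normal ∧ Cfsg.ActsAsSL2OnSection K ⊤ ⊤ (V i) ⊥) ∧
        iSupIndep V ∧ ⨆ i, V i = Q := sorry

end Cfsg.Agent.Lib.Helper2.HIGStubs
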