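import Mathlib
import Cfsg.Agent.Lib.Lead.PTrans
import Cfsg.Agent.Lib.Helper3.SelfDual1

/-!
# S3371 piece B: a non-semiregular half-transitive linear `p`-group is irreducible
-/

set_option autoImplicit false
set_option linter.style.haveILetI false

namespace Cfsg.Agent.Lib.Helper2.HalfTr

open Cfsg.Agent.Lib.Lead.PTrans (stab mem_stab)

variable {q : ℕ} [Fact q.Prime] {V : Type*} [AddCommGroup V] [Module (ZMod q) V] [Finite V]
  {G : Type*} [Group G] [Finite G]

theorem stab_add_of_compl (ρ : G →* (V ≃ₗ[ZMod q] V)) (U W : Submodule (ZMod q) V)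
    (hU : ∀ g : G, ∀ u ∈ U, ρ g u ∈ U) (hW : ∀ g : G, ∀ w ∈ W, ρ g w ∈ W)
    (hUW : U ⊓ W = ⊥) {u w : V} (hu : u ∈ U) (hw : w ∈ W) :
    stab ρ (u + w) = stab ρ u ⊓ stab ρ w := by
  ext g
  rw [Subgroup.mem_inf, mem_stab, mem_stab, mem_stab]
  constructor
  · intro h
    rw [map_add] at h
    have h1 : ρ g u - u = w - ρ g w := by
      have : ρ g u - u - (w - ρ g w) = ρ g u + ρ g w - (u + w) := by abel
      rw [← sub_eq_zero, this, h, sub_self]
    have h2 : ρ g u - u ∈ U ⊓ W := by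
      refine ⟨U.sub_mem (hU g u hu) hu, ?_⟩
      rw [h1]
      exact W.sub_mem hw (hW g w hw)
    rw [hUW, Submodule.mem_bot] at h2
    refine ⟨sub_eq_zero.1 h2, ?_⟩
    rw [h2] at h1
    exact (sub_eq_zero.1 h1.symm).symm
  · rintro ⟨h1, h2⟩
    rw [map_add, h1, h2]

theorem irreducible_of_not_semiregular (p : ℕ) [Fact p.Prime] (hG : IsPGroup p G) (hqp : q ≠ p)
    (ρ : G →* (V ≃ₗ[ZMod q] V)) (hρ : Function.Injective ρ)
    (s : ℕ) (hs : ∀ v : V, v ≠ 0 → Nat.card (stab ρ v) = s) (hs1 : s ≠ 1) :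
    ∀ W : Submodule (ZMod q) V, (∀ g : G, ∀ w ∈ W, ρ g w ∈ W) → W = ⊥ ∨ W = ⊤ := by
  intro W hW
  by_contra hcon
  push Not at hcon
  obtain ⟨hWb, hWt⟩ := hcon
  -- Maschke
  haveI hne : NeZero (Nat.card G : ZMod q) := by
    constructor
    obtain ⟨k, hk⟩ := IsPGroup.iff_card.1 hG
    rw [hk]
    intro h0
    rw [ZMod.natCast_eq_zero_iff] at h0
    have h1 : q ∣ p := (Fact.out : q.Prime).dvd_of_dvd_pow h0
    exact hqp ((Nat.prime_dvd_prime_iff_eq Fact.out Fact.out).1 h1)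
  let ρ' : Representation (ZMod q) G V :=
    (LinearEquiv.automorphismGroup.toLinearMapMonoidHom).comp ρ
  obtain ⟨U, hU', hUW⟩ := Cfsg.Agent.Lib.Helper3.SelfDual.exists_inv_compl ρ' (N := W)
    (fun g v hv => hW g v hv)
  have hU : ∀ g : G, ∀ u ∈ U, ρ g u ∈ U := fun g u hu => hU' g u hu
  have hinf : U ⊓ W = ⊥ := by rw [inf_comm]; exact hUW.inf_eq_bot
  have hsup : W ⊔ U = ⊤ := hUW.sup_eq_top
  have hUb : U ≠ ⊥ := by
    intro h
    rw [h, sup_bot_eq] at hsup
    exact hWt hsup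
  -- key: stabilisers agree
  have key : ∀ u ∈ U, u ≠ 0 → ∀ w ∈ W, w ≠ 0 → stab ρ u = stab ρ w := by
    intro u hu hu0 w hw hw0
    have huw0 : u + w ≠ 0 := by
      intro h
      have h1 : u = -w := eq_neg_of_add_eq_zero_left h
      have h2 : u ∈ U ⊓ W := ⟨hu, by rw [h1]; exact W.neg_mem hw⟩
      rw [hinf, Submodule.mem_bot] at h2
      exact hu0 h2
    have hst := stab_add_of_compl ρ U W hU hW hinf hu hw
    have e1 : stab ρ (u + w) = stab ρ u := by
      apply Subgroup.eq_of_le_of_card_ge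
      · rw [hst]; exact inf_le_left
      · rw [hs _ huw0, hs _ hu0]
    have e2 : stab ρ (u + w) = stab ρ w := by
      apply Subgroup.eq_of_le_of_card_ge
      · rw [hst]; exact inf_le_right
      · rw [hs _ huw0, hs _ hw0]
    rw [← e1, e2]
  obtain ⟨u0, hu0U, hu0⟩ := (Submodule.ne_bot_iff U).1 hUb
  obtain ⟨w0, hw0W, hw0⟩ := (Submodule.ne_bot_iff W).1 hWb
  -- K := stab u0 fixes everything
  have hK : ∀ k ∈ stab ρ u0, k = 1 := by
    intro k hk
    apply hρ
    rw [map_one]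
    ext v
    have hv : v ∈ W ⊔ U := by rw [hsup]; trivial
    obtain ⟨w, hw, u, hu, rfl⟩ := Submodule.mem_sup.1 hv
    have h1 : ρ k w = w := by
      by_cases hw0' : w = 0
      · rw [hw0', map_zero]
      · have := key u0 hu0U hu0 w hw hw0'
        rw [this] at hk
        exact hk
    have h2 : ρ k u = u := by
      by_cases hu0' : u = 0
      · rw [hu0', map_zero]
      · have e1 := key u0 hu0U hu0 w0 hw0W hw0
        have e2 := key u hu hu0' w0 hw0W hw0
        rw [e1, ← e2] at hk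
        exact hk
    rw [map_add, h1, h2]
    rfl
  have hbot : stab ρ u0 = ⊥ := by
    rw [eq_bot_iff]
    intro k hk
    rw [Subgroup.mem_bot]
    exact hK k hk
  have := hs u0 hu0
  rw [hbot, Subgroup.card_bot] at this
  exact hs1 this.symm

end Cfsg.Agent.Lib.Helper2.HalfTr
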