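import Mathlib
import Cfsg.Agent.Lib.Lead.PTrans

/-!
# S3371 piece E: in the imprimitive case the prime `p` is `2`
-/

set_option autoImplicit false
set_option linter.style.haveILetI false

namespace Cfsg.Agent.Lib.Helper2.HalfTr

open Cfsg.Agent.Lib.Lead.PTrans (stab mem_stab)

/-- A permutation of order `p` of `Fin p` (`p` prime) has no fixed point. -/
theorem perm_no_fixed (p : ℕ) [hp : Fact p.Prime] (τ : Equiv.Perm (Fin p)) (hτ : orderOf τ = p)
    (i : Fin p) : τ i ≠ i := by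
  have hc : τ.IsCycle := by
    apply Equiv.Perm.isCycle_of_prime_order''
    · rw [Fintype.card_fin]; exact hp.out
    · rw [Fintype.card_fin]; exact hτ
  have h1 := hc.orderOf
  rw [hτ] at h1
  have h2 : τ.support = Finset.univ := by
    apply Finset.eq_univ_of_card
    rw [Fintype.card_fin]
    exact h1.symm
  have h3 : i ∈ τ.support := by rw [h2]; exact Finset.mem_univ i
  exact Equiv.Perm.mem_support.1 h3

theorem perm_sq_no_fixed (p : ℕ) [hp : Fact p.Prime] (hp2 : p ≠ 2) (τ : Equiv.Perm (Fin p))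
    (hτ : orderOf τ = p) (i : Fin p) : τ (τ i) ≠ i := by
  have h1 : orderOf (τ ^ 2) = p := by
    rw [Nat.Coprime.orderOf_pow, hτ]
    rw [hτ]
    exact (Nat.coprime_primes hp.out Nat.prime_two).2 hp2
  have := perm_no_fixed p (τ ^ 2) h1 i
  rwa [pow_two, Equiv.Perm.mul_apply] at this

variable {q : ℕ} [Fact q.Prime] {V : Type*} [AddCommGroup V] [Module (ZMod q) V] [Finite V]
  {G : Type*} [Group G] [Finite G]

theorem p_eq_two_of_imprimitive [Nontrivial V] (p : ℕ) [Fact p.Prime]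
    (ρ : G →* (V ≃ₗ[ZMod q] V)) (hρ : Function.Injective ρ)
    (s : ℕ) (hs : ∀ v : V, v ≠ 0 → Nat.card (stab ρ v) = s)
    (H : Subgroup G) (W : Fin p → Submodule (ZMod q) V) (hHi : H.index = p)
    (hsup : iSup W = ⊤) (hind : iSupIndep W)
    (hH : ∀ h ∈ H, ∀ i, ∀ w ∈ W i, ρ h w ∈ W i)
    (hK : ∀ i, ∃ h ∈ H, h ≠ 1 ∧ ∀ w ∈ W i, ρ h w = w)
    (hσ : ∀ g : G, g ∉ H → ∃ σ : Equiv.Perm (Fin p), orderOf σ = p ∧
      ∀ i, (W i).map ((ρ g : V ≃ₗ[ZMod q] V) : V →ₗ[ZMod q] V) = W (σ i)) :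
    p = 2 := by
  by_contra hp2
  have hpp : p.Prime := Fact.out
  have hdisj : ∀ i j : Fin p, i ≠ j → W i ⊓ W j = ⊥ := fun i j hij =>
    (hind.pairwiseDisjoint hij).eq_bot
  have hmap : ∀ (g : G) (σ : Equiv.Perm (Fin p)),
      (∀ i, (W i).map ((ρ g : V ≃ₗ[ZMod q] V) : V →ₗ[ZMod q] V) = W (σ i)) →
      ∀ i, ∀ w ∈ W i, ρ g w ∈ W (σ i) := by
    intro g σ h i w hw
    rw [← h i]
    exact Submodule.mem_map_of_mem (f := ((ρ g : V ≃ₗ[ZMod q] V) : V →ₗ[ZMod q] V)) hw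
  -- (a)
  have ha : ∀ i, ∀ w ∈ W i, w ≠ 0 → stab ρ w ≤ H := by
    intro i w hw hw0 g hg
    by_contra hgH
    obtain ⟨σ, hσo, hσm⟩ := hσ g hgH
    have h1 := hmap g σ hσm i w hw
    rw [mem_stab.1 hg] at h1
    have h2 : w ∈ W i ⊓ W (σ i) := ⟨hw, h1⟩
    rw [hdisj i (σ i) (perm_no_fixed p σ hσo i).symm, Submodule.mem_bot] at h2
    exact hw0 h2
  -- (b)
  have hb1 : ∀ i j : Fin p, i ≠ j → ∀ wi ∈ W i, wi ≠ 0 → ∀ wj ∈ W j, wj ≠ 0 →
      ∀ g : G, g ∉ H → ρ g (wi + wj) = wi + wj → ∀ σ : Equiv.Perm (Fin p), orderOf σ = p →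
      (∀ i, (W i).map ((ρ g : V ≃ₗ[ZMod q] V) : V →ₗ[ZMod q] V) = W (σ i)) → σ j = i := by
    intro i j hij wi hwi hwi0 wj hwj _ g _ hfix σ hσo hσm
    by_contra hne
    have hC := hind i
    have h1 : ρ g wi ∈ ⨆ (l) (_ : l ≠ i), W l :=
      Submodule.mem_iSup_of_mem (σ i) (Submodule.mem_iSup_of_mem (perm_no_fixed p σ hσo i)
        (hmap g σ hσm i wi hwi))
    have h2 : ρ g wj ∈ ⨆ (l) (_ : l ≠ i), W l :=
      Submodule.mem_iSup_of_mem (σ j) (Submodule.mem_iSup_of_mem hne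
        (hmap g σ hσm j wj hwj))
    have h3 : wj ∈ ⨆ (l) (_ : l ≠ i), W l :=
      Submodule.mem_iSup_of_mem j (Submodule.mem_iSup_of_mem (Ne.symm hij) hwj)
    have h4 : wi = ρ g wi + ρ g wj - wj := by
      rw [← map_add, hfix]; abel
    have h5 : wi ∈ ⨆ (l) (_ : l ≠ i), W l := by
      rw [h4]
      exact Submodule.sub_mem _ (Submodule.add_mem _ h1 h2) h3
    have h6 : wi ∈ W i ⊓ ⨆ (l) (_ : l ≠ i), W l := ⟨hwi, h5⟩
    rw [hC.eq_bot, Submodule.mem_bot] at h6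
    exact hwi0 h6
  have hb : ∀ i j : Fin p, i ≠ j → ∀ wi ∈ W i, wi ≠ 0 → ∀ wj ∈ W j, wj ≠ 0 →
      stab ρ wi = stab ρ wj := by
    intro i j hij wi hwi hwi0 wj hwj hwj0
    have hsum0 : wi + wj ≠ 0 := by
      intro h
      have h1 : wi = -wj := eq_neg_of_add_eq_zero_left h
      have h2 : wi ∈ W i ⊓ W j := ⟨hwi, by rw [h1]; exact (W j).neg_mem hwj⟩
      rw [hdisj i j hij, Submodule.mem_bot] at h2
      exact hwi0 h2
    have hle : stab ρ (wi + wj) ≤ stab ρ wi ⊓ stab ρ wj := by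
      intro g hg
      have hfix : ρ g (wi + wj) = wi + wj := mem_stab.1 hg
      have hgH : g ∈ H := by
        by_contra hgH
        obtain ⟨σ, hσo, hσm⟩ := hσ g hgH
        have e1 := hb1 i j hij wi hwi hwi0 wj hwj hwj0 g hgH hfix σ hσo hσm
        have e2 := hb1 j i (Ne.symm hij) wj hwj hwj0 wi hwi hwi0 g hgH
          (by rw [add_comm]; exact hfix) σ hσo hσm
        apply perm_sq_no_fixed p hp2 σ hσo i
        rw [e2, e1]
      have h1 : ρ g wi - wi = wj - ρ g wj := by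
        have : ρ g wi - wi - (wj - ρ g wj) = ρ g wi + ρ g wj - (wi + wj) := by abel
        rw [← sub_eq_zero, this, ← map_add, hfix, sub_self]
      have h2 : ρ g wi - wi ∈ W i ⊓ W j := by
        refine ⟨(W i).sub_mem (hH g hgH i wi hwi) hwi, ?_⟩
        rw [h1]
        exact (W j).sub_mem hwj (hH g hgH j wj hwj)
      rw [hdisj i j hij, Submodule.mem_bot] at h2
      rw [Subgroup.mem_inf, mem_stab, mem_stab]
      refine ⟨sub_eq_zero.1 h2, ?_⟩
      rw [h2] at h1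
      exact (sub_eq_zero.1 h1.symm).symm
    have e1 : stab ρ (wi + wj) = stab ρ wi := by
      apply Subgroup.eq_of_le_of_card_ge
      · exact hle.trans inf_le_left
      · rw [hs _ hsum0, hs _ hwi0]
    have e2 : stab ρ (wi + wj) = stab ρ wj := by
      apply Subgroup.eq_of_le_of_card_ge
      · exact hle.trans inf_le_right
      · rw [hs _ hsum0, hs _ hwj0]
    rw [← e1, e2]
  -- (c)
  have hex : ∃ i0, W i0 ≠ ⊥ := by
    by_contra hcon
    push Not at hcon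
    have : iSup W = ⊥ := by
      rw [eq_bot_iff]
      exact iSup_le (fun i => by rw [hcon i])
    rw [hsup] at this
    exact top_ne_bot this
  obtain ⟨i0, hi0⟩ := hex
  obtain ⟨w0, hw0W, hw0⟩ := (Submodule.ne_bot_iff _).1 hi0
  have hHtop : ∃ g : G, g ∉ H := by
    by_contra hcon
    push Not at hcon
    have : H = ⊤ := by
      rw [eq_top_iff]; intro g _; exact hcon g
    rw [this, Subgroup.index_top] at hHi
    exact hpp.one_lt.ne hHi
  obtain ⟨g0, hg0⟩ := hHtop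
  obtain ⟨σ0, hσ0o, hσ0m⟩ := hσ g0 hg0
  have hj0 : σ0 i0 ≠ i0 := perm_no_fixed p σ0 hσ0o i0
  have hw1W : ρ g0 w0 ∈ W (σ0 i0) := hmap g0 σ0 hσ0m i0 w0 hw0W
  have hw1 : ρ g0 w0 ≠ 0 := by
    intro h
    apply hw0
    have := (ρ g0).injective (h.trans (map_zero (ρ g0)).symm)
    exact this
  have hall : ∀ l, ∀ w ∈ W l, w ≠ 0 → stab ρ w = stab ρ w0 := by
    intro l w hw hwne
    by_cases hl : l = i0
    · subst hl
      have e1 := hb l (σ0 l) (Ne.symm hj0) w hw hwne (ρ g0 w0) hw1W hw1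
      have e2 := hb l (σ0 l) (Ne.symm hj0) w0 hw0W hw0 (ρ g0 w0) hw1W hw1
      rw [e1, e2]
    · exact hb l i0 hl w hw hwne w0 hw0W hw0
  have hKtriv : ∀ k ∈ stab ρ w0, k = 1 := by
    intro k hk
    apply hρ
    rw [map_one]
    have hle : iSup W ≤ LinearMap.ker (((ρ k : V ≃ₗ[ZMod q] V) : V →ₗ[ZMod q] V) - LinearMap.id) := by
      apply iSup_le
      intro l w hw
      rw [LinearMap.mem_ker, LinearMap.sub_apply, LinearMap.id_apply, sub_eq_zero]
      by_cases hw0' : w = 0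
      · rw [hw0', map_zero]
      · have := hall l w hw hw0'
        rw [← this] at hk
        exact hk
    ext v
    have hv : v ∈ iSup W := by rw [hsup]; trivial
    have := hle hv
    rw [LinearMap.mem_ker, LinearMap.sub_apply, LinearMap.id_apply, sub_eq_zero] at this
    exact this
  obtain ⟨h, _, hh1, hhfix⟩ := hK i0
  exact hh1 (hKtriv h (mem_stab.2 (hhfix w0 hw0W)))

end Cfsg.Agent.Lib.Helper2.HalfTr
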