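import Mathlib

set_option autoImplicit false

/-! General group-theoretic lemmas used for the Higman-Sims group. -/

namespace Cfsg.Agent.Lib.Helper2.Hs

open MulAction

theorem sign_invol {S : Type*} [Fintype S] [DecidableEq S] (τ : Equiv.Perm S)
    (h : ∀ x, τ (τ x) = x) (k : ℕ)
    (hk : (Finset.univ.filter (fun x => τ x ≠ x)).card = 2 * k) :
    Equiv.Perm.sign τ = (-1) ^ k := by
  have hsupp : τ.support.card = 2 * k := by
    rw [← hk]
    first | rfl | (congr 1)
  by_cases h1 : τ = 1
  · rw [h1, Equiv.Perm.support_one, Finset.card_empty] at hsupp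
    have hk0 : k = 0 := by omega
    rw [h1, hk0, map_one, pow_zero]
  · have h2 : τ ^ 2 = 1 := by
      ext x
      rw [sq, Equiv.Perm.mul_apply, h, Equiv.Perm.one_apply]
    have hord : orderOf τ = 2 := orderOf_eq_prime h2 h1
    obtain ⟨n, hn⟩ := Equiv.Perm.cycleType_prime_order (σ := τ)
      (by rw [hord]; exact Nat.prime_two)
    rw [hord] at hn
    have hsum := Equiv.Perm.sum_cycleType τ
    rw [hn, Multiset.sum_replicate, hsupp, smul_eq_mul] at hsum
    have hkn : k = n + 1 := by omega
    rw [Equiv.Perm.sign_of_cycleType, hn, Multiset.sum_replicate, Multiset.card_replicate,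
      smul_eq_mul, hkn, pow_add, pow_mul, Int.units_sq, one_mul]

theorem idx2_orbit {G Y : Type*} [Group G] [MulAction G Y] (M : Subgroup G) (hM : M.index = 2)
    (y : Y) (hodd : ¬ 2 ∣ (orbit G y).ncard) (y' : Y) (hy' : y' ∈ orbit G y) :
    ∃ m ∈ M, m • y = y' := by
  obtain ⟨g, hg'⟩ := mem_orbit_iff.mp hy'
  subst hg'
  by_cases hg : g ∈ M
  · exact ⟨g, hg, rfl⟩
  · have hex : ∃ u ∈ stabilizer G y, u ∉ M := by
      by_contra hcon
      push Not at hcon
      have hle : stabilizer G y ≤ M := hcon
      have h1 := Subgroup.index_dvd_of_le hle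
      rw [hM, index_stabilizer] at h1
      exact hodd h1
    obtain ⟨u, hu, huM⟩ := hex
    refine ⟨g * u, ?_, ?_⟩
    · rw [Subgroup.mul_mem_iff_of_index_two hM]
      exact ⟨fun h => absurd h hg, fun h => absurd h huM⟩
    · rw [mul_smul, mem_stabilizer_iff.mp hu]

theorem simple_of_rank3 {K X : Type*} [Group K] [MulAction K X] [FaithfulSMul K X]
    [IsPretransitive K X] (hX : Nat.card X = 100) (x₀ : X) (A B : Set X)
    (hA : A.ncard = 22) (hB : B.ncard = 77) (h0A : x₀ ∉ A) (h0B : x₀ ∉ B)
    (hcov : ∀ x, x = x₀ ∨ x ∈ A ∨ x ∈ B)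
    (htA : ∀ a ∈ A, ∀ a' ∈ A, ∃ g ∈ stabilizer K x₀, g • a = a')
    (htB : ∀ b ∈ B, ∀ b' ∈ B, ∃ g ∈ stabilizer K x₀, g • b = b')
    (hS : IsSimpleGroup (stabilizer K x₀)) : IsSimpleGroup K := by
  classical
  haveI : Finite X := Nat.finite_of_card_ne_zero (by rw [hX]; norm_num)
  have hinvA : ∀ T : Set X, (∀ g ∈ stabilizer K x₀, ∀ t ∈ T, g • t ∈ T) →
      (∃ a ∈ A, a ∈ T) → A ⊆ T := by
    rintro T hT ⟨a, haA, haT⟩ a' ha'
    obtain ⟨g, hg, rfl⟩ := htA a haA a' ha'
    exact hT g hg a haT
  have hinvB : ∀ T : Set X, (∀ g ∈ stabilizer K x₀, ∀ t ∈ T, g • t ∈ T) →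
      (∃ b ∈ B, b ∈ T) → B ⊆ T := by
    rintro T hT ⟨a, haA, haT⟩ a' ha'
    obtain ⟨g, hg, rfl⟩ := htB a haA a' ha'
    exact hT g hg a haT
  have hnt : Nontrivial K := by
    obtain ⟨s, t, hst⟩ := hS.toNontrivial.exists_pair_ne
    exact ⟨⟨s.1, t.1, fun h => hst (Subtype.ext h)⟩⟩
  refine { toNontrivial := hnt, eq_bot_or_eq_top_of_normal := ?_ }
  intro N hN
  by_cases hNbot : N = ⊥
  · exact Or.inl hNbot
  right
  haveI := hN
  have hSinv : ∀ g ∈ stabilizer K x₀, ∀ t ∈ orbit N x₀, g • t ∈ orbit N x₀ := by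
    intro g hg t ht
    obtain ⟨n, hn⟩ := mem_orbit_iff.mp ht
    subst hn
    rw [mem_stabilizer_iff] at hg
    refine mem_orbit_iff.mpr ⟨⟨g * n.1 * g⁻¹, hN.conj_mem n.1 n.2 g⟩, ?_⟩
    show (g * n.1 * g⁻¹) • x₀ = g • (n • x₀)
    have hginv : g⁻¹ • x₀ = x₀ := by rw [inv_smul_eq_iff, hg]
    rw [mul_smul, mul_smul, hginv]
    rfl
  have h0O : x₀ ∈ orbit N x₀ := mem_orbit_self x₀
  have htrans : ∀ x, ∃ n ∈ N, n • x₀ = x := by
    have hblock : IsBlock K (orbit N x₀) := IsBlock.orbit_of_normal x₀
    have hdvd : (orbit N x₀).ncard ∣ Nat.card X := hblock.ncard_dvd_card ⟨x₀, h0O⟩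
    rw [hX] at hdvd
    by_cases hOA : ∃ a ∈ A, a ∈ orbit N x₀
    · have hAO := hinvA _ hSinv hOA
      by_cases hOB : ∃ b ∈ B, b ∈ orbit N x₀
      · have hBO := hinvB _ hSinv hOB
        intro x
        have hx : x ∈ orbit N x₀ := by
          rcases hcov x with rfl | hx | hx
          · exact h0O
          · exact hAO hx
          · exact hBO hx
        obtain ⟨n, hn⟩ := mem_orbit_iff.mp hx
        exact ⟨n.1, n.2, hn⟩
      · exfalso
        push Not at hOB
        have hO : orbit N x₀ = insert x₀ A := by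
          ext x
          constructor
          · intro hx
            rcases hcov x with rfl | hxA | hxB
            · exact Set.mem_insert _ _
            · exact Set.mem_insert_of_mem _ hxA
            · exact absurd hx (hOB x hxB)
          · intro hx
            rcases Set.mem_insert_iff.mp hx with rfl | hxA
            · exact h0O
            · exact hAO hxA
        rw [hO, Set.ncard_insert_of_notMem h0A (Set.toFinite A), hA] at hdvd
        norm_num at hdvd
    · push Not at hOA
      by_cases hOB : ∃ b ∈ B, b ∈ orbit N x₀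
      · exfalso
        have hBO := hinvB _ hSinv hOB
        have hO : orbit N x₀ = insert x₀ B := by
          ext x
          constructor
          · intro hx
            rcases hcov x with rfl | hxA | hxB
            · exact Set.mem_insert _ _
            · exact absurd hx (hOA x hxA)
            · exact Set.mem_insert_of_mem _ hxB
          · intro hx
            rcases Set.mem_insert_iff.mp hx with rfl | hxB
            · exact h0O
            · exact hBO hxB
        rw [hO, Set.ncard_insert_of_notMem h0B (Set.toFinite B), hB] at hdvd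
        norm_num at hdvd
      · exfalso
        push Not at hOB
        have hO : ∀ n ∈ N, n • x₀ = x₀ := by
          intro n hn
          have hx : n • x₀ ∈ orbit N x₀ := mem_orbit_iff.mpr ⟨⟨n, hn⟩, rfl⟩
          rcases hcov (n • x₀) with h | h | h
          · exact h
          · exact absurd hx (hOA _ h)
          · exact absurd hx (hOB _ h)
        apply hNbot
        rw [Subgroup.eq_bot_iff_forall]
        intro n hn
        apply FaithfulSMul.eq_of_smul_eq_smul (α := X)
        intro x
        obtain ⟨k, rfl⟩ := exists_smul_eq K x₀ x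
        have hnk : n * k = k * (k⁻¹ * n * k) := by group
        rw [one_smul, ← mul_smul, hnk, mul_smul, hO _ (hN.conj_mem' n hn k)]
  by_cases hSN : stabilizer K x₀ ≤ N
  · rw [Subgroup.eq_top_iff']
    intro k
    obtain ⟨n, hn, hnk⟩ := htrans (k • x₀)
    have hmem : n⁻¹ * k ∈ stabilizer K x₀ := by
      rw [mem_stabilizer_iff, mul_smul, ← hnk, inv_smul_smul]
    have h2 := N.mul_mem hn (hSN hmem)
    rwa [mul_inv_cancel_left] at h2
  · exfalso
    have hreg : ∀ n ∈ N, n • x₀ = x₀ → n = 1 := by
      have hnorm : (N.subgroupOf (stabilizer K x₀)).Normal := inferInstance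
      rcases hS.eq_bot_or_eq_top_of_normal _ hnorm with h | h
      · intro n hn hfix
        have hmem : (⟨n, mem_stabilizer_iff.mpr hfix⟩ : stabilizer K x₀)
            ∈ N.subgroupOf (stabilizer K x₀) := by
          rw [Subgroup.mem_subgroupOf]
          exact hn
        rw [h, Subgroup.mem_bot] at hmem
        exact congrArg Subtype.val hmem
      · exact absurd (Subgroup.subgroupOf_eq_top.mp h) hSN
    have hbij : Function.Bijective (fun n : N => n.1 • x₀) := by
      constructor
      · intro n n' hnn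
        have hnn' : n.1 • x₀ = n'.1 • x₀ := hnn
        have h1 : (n.1⁻¹ * n'.1) • x₀ = x₀ := by
          rw [mul_smul, ← hnn', inv_smul_smul]
        have h2 := hreg _ (N.mul_mem (N.inv_mem n.2) n'.2) h1
        exact Subtype.ext (inv_mul_eq_one.mp h2)
      · intro x
        obtain ⟨n, hn, hx⟩ := htrans x
        exact ⟨⟨n, hn⟩, hx⟩
    have hcardN : Nat.card N = 100 := by
      rw [Nat.card_congr (Equiv.ofBijective _ hbij), hX]
    haveI : Finite N := Nat.finite_of_card_ne_zero (by rw [hcardN]; norm_num)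
    haveI : Fact (Nat.Prime 5) := ⟨by norm_num⟩
    obtain ⟨P5⟩ : Nonempty (Sylow 5 N) := inferInstance
    obtain ⟨j, hj⟩ := IsPGroup.iff_card.mp P5.isPGroup'
    have hdvdc : Nat.card P5 ∣ 100 :=
      hcardN ▸ Subgroup.card_subgroup_dvd_card (P5 : Subgroup N)
    have hne1 : Nat.card P5 ≠ 1 := by
      intro h1
      have hne := P5.ne_bot_of_dvd_card (by rw [hcardN]; norm_num)
      exact hne (Subgroup.eq_bot_of_card_eq _ h1)
    have hc : Nat.card P5 = 5 ∨ Nat.card P5 = 25 := by
      rw [hj] at hdvdc hne1 ⊢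
      have hj2 : j ≤ 2 := by
        by_contra hlt
        push Not at hlt
        have h1 : 5 ^ 3 ≤ 5 ^ j := Nat.pow_le_pow_right (by norm_num) hlt
        have h2 : 5 ^ j ≤ 100 := Nat.le_of_dvd (by norm_num) hdvdc
        norm_num at h1
        omega
      interval_cases j
      · exact absurd (by norm_num) hne1
      · left; norm_num
      · right; norm_num
    have hsub : Subsingleton (Sylow 5 N) := by
      have h1 := card_sylow_modEq_one 5 N
      have h2 := P5.card_dvd_index
      have h3 := Subgroup.card_mul_index (P5 : Subgroup N)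
      rw [hcardN] at h3
      have h4 : (P5 : Subgroup N).index ∣ 20 := by
        rcases hc with hc | hc
        · rw [hc] at h3
          have : (P5 : Subgroup N).index = 20 := by omega
          rw [this]
        · rw [hc] at h3
          have : (P5 : Subgroup N).index = 4 := by omega
          rw [this]
          norm_num
      have h5 : Nat.card (Sylow 5 N) ∣ 20 := h2.trans h4
      have h6 : Nat.card (Sylow 5 N) ≤ 20 := Nat.le_of_dvd (by norm_num) h5
      have h7 : Nat.card (Sylow 5 N) % 5 = 1 := h1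
      have h8 : Nat.card (Sylow 5 N) = 1 := by
        generalize Nat.card (Sylow 5 N) = m at h5 h6 h7
        interval_cases m <;> omega
      exact (Nat.card_eq_one_iff_unique.mp h8).1
    have hconj : ∀ s : K, ∀ n : N, n ∈ P5 →
        (⟨s * n.1 * s⁻¹, hN.conj_mem n.1 n.2 s⟩ : N) ∈ P5 := by
      intro s n hn
      have hp : IsPGroup 5 ((P5 : Subgroup N).map (MulAut.conjNormal s : MulAut N).toMonoidHom) :=
        P5.isPGroup'.map _
      obtain ⟨Q, hQ⟩ := hp.exists_le_sylow
      have hQP : Q = P5 := Subsingleton.elim _ _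
      rw [hQP] at hQ
      have hmem : (MulAut.conjNormal s : MulAut N).toMonoidHom n
          ∈ (P5 : Subgroup N).map (MulAut.conjNormal s : MulAut N).toMonoidHom :=
        Subgroup.mem_map_of_mem _ hn
      have hval : (MulAut.conjNormal s : MulAut N).toMonoidHom n
          = (⟨s * n.1 * s⁻¹, hN.conj_mem n.1 n.2 s⟩ : N) := by
        apply Subtype.ext
        exact MulAut.conjNormal_apply s n
      rw [← hval]
      exact hQ hmem
    obtain ⟨T, hT⟩ : ∃ T : Set X, T = (fun n : N => n.1 • x₀) '' {n : N | n ∈ P5 ∧ n ≠ 1} :=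
      ⟨_, rfl⟩
    have hTcard : T.ncard = Nat.card P5 - 1 := by
      rw [hT, Set.ncard_image_of_injective _ hbij.1]
      have hset : {n : N | n ∈ P5 ∧ n ≠ 1} = ((P5 : Subgroup N) : Set N) \ {1} := by
        ext n
        simp only [Set.mem_ofPred_eq, Set.mem_sdiff, SetLike.mem_coe, Set.mem_singleton_iff]
        rfl
      rw [hset, Set.ncard_sdiff_singleton_of_mem (one_mem _), ← Nat.card_coe_set_eq]
      rfl
    have hTinv : ∀ g ∈ stabilizer K x₀, ∀ t ∈ T, g • t ∈ T := by
      intro g hg t ht
      rw [hT] at ht ⊢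
      obtain ⟨n, ⟨hn5, hn1⟩, rfl⟩ := ht
      rw [mem_stabilizer_iff] at hg
      refine ⟨⟨g * n.1 * g⁻¹, hN.conj_mem n.1 n.2 g⟩, ⟨hconj g n hn5, ?_⟩, ?_⟩
      · intro h1
        apply hn1
        have h2 : g * n.1 * g⁻¹ = 1 := congrArg Subtype.val h1
        apply Subtype.ext
        have h3 : n.1 = g⁻¹ * (g * n.1 * g⁻¹) * g := by group
        rw [h3, h2]
        simp
      · show (g * n.1 * g⁻¹) • x₀ = g • (n.1 • x₀)
        have hginv : g⁻¹ • x₀ = x₀ := by rw [inv_smul_eq_iff, hg]
        rw [mul_smul, mul_smul, hginv]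
    have h0T : x₀ ∉ T := by
      rw [hT]
      rintro ⟨n, ⟨_, hn1⟩, hfix⟩
      exact hn1 (Subtype.ext (hreg n.1 n.2 hfix))
    have hTB : ∀ b ∈ B, b ∉ T := by
      intro b hb hbT
      have hBT := hinvB T hTinv ⟨b, hb, hbT⟩
      have hle := Set.ncard_le_ncard hBT (Set.toFinite T)
      rw [hB, hTcard] at hle
      rcases hc with hc | hc <;> rw [hc] at hle <;> omega
    by_cases hTA : ∃ a ∈ A, a ∈ T
    · have hAT := hinvA T hTinv hTA
      have hTA' : T ⊆ A := by
        intro t ht
        rcases hcov t with rfl | h | h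
        · exact absurd ht h0T
        · exact h
        · exact absurd ht (hTB t h)
      have hTeq : T = A := Set.Subset.antisymm hTA' hAT
      rw [hTeq, hA] at hTcard
      rcases hc with hc | hc <;> rw [hc] at hTcard <;> omega
    · push Not at hTA
      have hTe : T = ∅ := by
        rw [Set.eq_empty_iff_forall_notMem]
        intro t ht
        rcases hcov t with rfl | h | h
        · exact h0T ht
        · exact hTA t h ht
        · exact hTB t h ht
      rw [hTe, Set.ncard_empty] at hTcard
      rcases hc with hc | hc <;> rw [hc] at hTcard <;> omega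

end Cfsg.Agent.Lib.Helper2.Hs
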