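import Mathlib
import Cfsg.Prelude.Def_Sporadic_a
import Cfsg.Agent.Lib.Helper2.Hs0

set_option autoImplicit false

/-! An explicit model of the Steiner system S(3,6,22) with an odd automorphism. -/

namespace Cfsg.Agent.Lib.Helper2.Hs

open Finset Cfsg

theorem steiner_of_count {α : Type*} [Fintype α] [DecidableEq α] (hα : Fintype.card α = 22)
    (blk : Fin 77 → Finset α) (h6 : ∀ i, (blk i).card = 6)
    (h2 : ∀ i j, i ≠ j → (blk i ∩ blk j).card ≤ 2) :
    IsSteinerSystem 3 6 (Set.range blk) := by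
  have key : ∀ i j, ∀ s : Finset α, s.card = 3 → s ⊆ blk i → s ⊆ blk j → i = j := by
    intro i j s hs hi hj
    by_contra hne
    have h1 : s ⊆ blk i ∩ blk j := Finset.subset_inter hi hj
    have h2' := Finset.card_le_card h1
    have h3 := h2 i j hne
    omega
  have hdisj : ((Finset.univ : Finset (Fin 77)) : Set (Fin 77)).PairwiseDisjoint
      (fun i => (blk i).powersetCard 3) := by
    intro i _ j _ hij
    show Disjoint ((blk i).powersetCard 3) ((blk j).powersetCard 3)
    rw [Finset.disjoint_left]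
    intro s hsi hsj
    rw [Finset.mem_powersetCard] at hsi hsj
    exact hij (key i j s hsi.2 hsi.1 hsj.1)
  have hcard : ((Finset.univ : Finset (Fin 77)).biUnion
      (fun i => (blk i).powersetCard 3)).card = 1540 := by
    rw [Finset.card_biUnion hdisj, Finset.sum_const_nat (m := 20)]
    · simp
    · intro i _
      rw [Finset.card_powersetCard, h6]
      rfl
  have hsub : (Finset.univ : Finset (Fin 77)).biUnion (fun i => (blk i).powersetCard 3)
      ⊆ (Finset.univ : Finset α).powersetCard 3 := by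
    intro s hs
    rw [Finset.mem_biUnion] at hs
    obtain ⟨i, _, hs⟩ := hs
    rw [Finset.mem_powersetCard] at hs ⊢
    exact ⟨Finset.subset_univ _, hs.2⟩
  have hall : (Finset.univ : Finset α).powersetCard 3
      ⊆ (Finset.univ : Finset (Fin 77)).biUnion (fun i => (blk i).powersetCard 3) := by
    have h := Finset.eq_of_subset_of_card_le hsub (by
      rw [hcard, Finset.card_powersetCard, Finset.card_univ, hα]
      decide)
    rw [h]
  refine ⟨?_, ?_⟩
  · rintro b ⟨i, rfl⟩
    exact h6 i
  · intro s hs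
    have hmem : s ∈ (Finset.univ : Finset α).powersetCard 3 := by
      rw [Finset.mem_powersetCard]
      exact ⟨Finset.subset_univ _, hs⟩
    have hm := hall hmem
    rw [Finset.mem_biUnion] at hm
    obtain ⟨i, _, hi⟩ := hm
    rw [Finset.mem_powersetCard] at hi
    refine ⟨blk i, ⟨⟨i, rfl⟩, hi.1⟩, ?_⟩
    rintro b ⟨⟨j, rfl⟩, hj⟩
    rw [key j i s hs hj hi.1]

def hexL : List ℕ := [1393, 6740, 9246, 22666, 26304, 32973, 41378, 49683, 69129, 69932, 77891, 103568, 124932, 134308, 136065, 159792, 166168, 214274, 229984, 272529, 281376, 283653, 298050, 307720, 328326, 344152, 393259, 401732, 525130, 533029, 539904, 541076, 574504, 591922, 673857, 692230, 729224, 790752, 884993, 919056, 1050887, 1054242, 1058920, 1102144, 1123088, 1130657, 1179858, 1196556, 1221633, 1312136, 1343540, 1513472, 1576985, 1608320, 1639492, 1859586, 2097848, 2113638, 2121993, 2131716, 2136097, 2165184, 2233416, 2238978, 2293781, 2363666, 2434080, 2539648, 2622595, 2662480, 2707968, 2885644, 3158148, 3165200,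 3244042, 3408449, 3801376]

def tL : List ℕ := [21, 10, 14, 16, 8, 18, 12, 19, 4, 15, 1, 20, 6, 17, 2, 9, 3, 13, 5, 7, 11, 0]

def piL : List ℕ := [65, 43, 17, 54, 35, 70, 39, 59, 74, 25, 62, 28, 47, 55, 69, 27, 44, 2, 23, 76, 50, 57, 41, 18, 32, 9, 66, 15, 11, 67, 46, 31, 24, 49, 72, 4, 36, 37, 56, 6, 73, 22, 51, 1, 16, 71, 30, 12, 63, 33, 20, 42, 61, 53, 3, 13, 38, 21, 64, 7, 75, 52, 10, 48, 58, 0, 26, 29, 68, 14, 5, 45, 34, 40, 8, 60, 19]

def hexN (i : Fin 77) : ℕ := hexL.getD i.1 0

def tN (x : Fin 22) : Fin 22 := ⟨tL.getD x.1 0 % 22, Nat.mod_lt _ (by norm_num)⟩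

def piN (i : Fin 77) : Fin 77 := ⟨piL.getD i.1 0 % 77, Nat.mod_lt _ (by norm_num)⟩

def pcard (n : ℕ) : ℕ := ∑ k ∈ Finset.range 22, if n.testBit k = true then 1 else 0

def dec (n : ℕ) : Finset (Fin 22) := Finset.univ.filter (fun i => n.testBit i.1 = true)

theorem mem_dec {n : ℕ} {x : Fin 22} : x ∈ dec n ↔ n.testBit x.1 = true := by
  unfold dec
  rw [Finset.mem_filter]
  exact ⟨fun h => h.2, fun h => ⟨Finset.mem_univ _, h⟩⟩

theorem card_dec (n : ℕ) : (dec n).card = pcard n := by
  unfold dec pcard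
  rw [Finset.card_filter]
  exact Fin.sum_univ_eq_sum_range (fun k => if n.testBit k = true then 1 else 0) 22

theorem dec_inter (a b : ℕ) : dec a ∩ dec b = dec (a &&& b) := by
  ext x
  rw [Finset.mem_inter, mem_dec, mem_dec, mem_dec, Nat.testBit_and, Bool.and_eq_true]

theorem t_invol : ∀ x : Fin 22, tN (tN x) = x := by decide +kernel

theorem pi_invol : ∀ i : Fin 77, piN (piN i) = i := by decide +kernel

theorem hex_card : ∀ i : Fin 77, pcard (hexN i) = 6 := by decide +kernel

theorem hex_inter : ∀ i j : Fin 77, i ≠ j → pcard (hexN i &&& hexN j) ≤ 2 := by decide +kernel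

theorem hex_img : ∀ i : Fin 77, ∀ x : Fin 22,
    (hexN i).testBit (tN x).1 = (hexN (piN i)).testBit x.1 := by decide +kernel

theorem t_moved : (Finset.univ.filter (fun x : Fin 22 => tN x ≠ x)).card = 2 * 11 := by
  decide +kernel

theorem pi_moved : (Finset.univ.filter (fun i : Fin 77 => piN i ≠ i)).card = 2 * 36 := by
  decide +kernel

def tP : Equiv.Perm (Fin 22) := ⟨tN, tN, t_invol, t_invol⟩

def piP : Equiv.Perm (Fin 77) := ⟨piN, piN, pi_invol, pi_invol⟩

def hexF (i : Fin 77) : Finset (Fin 22) := dec (hexN i)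

def Bm : Set (Finset (Fin 22)) := Set.range hexF

theorem hexF_card (i : Fin 77) : (hexF i).card = 6 := by
  unfold hexF
  rw [card_dec]
  exact hex_card i

theorem hexF_inter (i j : Fin 77) (h : i ≠ j) : (hexF i ∩ hexF j).card ≤ 2 := by
  unfold hexF
  rw [dec_inter, card_dec]
  exact hex_inter i j h

theorem model_steiner : IsSteinerSystem 3 6 Bm :=
  steiner_of_count (by simp) hexF hexF_card hexF_inter

theorem hexF_inj : Function.Injective hexF := by
  intro i j h
  by_contra hne
  have h1 := hexF_inter i j hne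
  rw [h, Finset.inter_self, hexF_card] at h1
  omega

theorem image_hexF (i : Fin 77) : (hexF i).image tP = hexF (piP i) := by
  ext x
  rw [Finset.mem_image]
  unfold hexF
  constructor
  · rintro ⟨y, hy, rfl⟩
    rw [mem_dec] at hy ⊢
    have h1 := hex_img i (tP y)
    rw [show tN (tP y) = y from t_invol y] at h1
    show (hexN (piN i)).testBit (tP y).1 = true
    rw [← h1]
    exact hy
  · intro hx
    rw [mem_dec] at hx
    refine ⟨tP x, ?_, t_invol x⟩
    rw [mem_dec]
    have h1 := hex_img i x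
    show (hexN i).testBit (tN x).1 = true
    rw [h1]
    exact hx

theorem tP_image : (fun b : Finset (Fin 22) => b.image tP) '' Bm = Bm := by
  apply Set.Subset.antisymm
  · rintro _ ⟨_, ⟨i, rfl⟩, rfl⟩
    exact ⟨piP i, (image_hexF i).symm⟩
  · rintro _ ⟨i, rfl⟩
    refine ⟨hexF (piP i), ⟨piP i, rfl⟩, ?_⟩
    show (hexF (piP i)).image tP = hexF i
    rw [image_hexF, show piP (piP i) = i from pi_invol i]

noncomputable def blkE : Fin 77 ≃ ↥Bm :=
  Equiv.ofBijective (fun i => ⟨hexF i, i, rfl⟩)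
    ⟨fun i j h => hexF_inj (congrArg Subtype.val h), by
      rintro ⟨_, i, rfl⟩
      exact ⟨i, rfl⟩⟩

theorem blkE_coe (i : Fin 77) : (blkE i : Finset (Fin 22)) = hexF i := rfl

theorem sign_tP : Equiv.Perm.sign tP = -1 := by
  rw [sign_invol tP t_invol 11 t_moved]
  exact Odd.neg_one_pow ⟨5, by norm_num⟩

theorem sign_piP : Equiv.Perm.sign piP = 1 := by
  rw [sign_invol piP pi_invol 36 pi_moved]
  exact Even.neg_one_pow ⟨18, by norm_num⟩

end Cfsg.Agent.Lib.Helper2.Hs
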