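import Cfsg.Agent.Lib.Helper2.Plane4E
import Cfsg.Agent.Lib.Helper9.Steiner7

set_option autoImplicit false
set_option linter.unusedSectionVars false
set_option linter.unusedVariables false

/-! Uniqueness of the Steiner system S(3,6,22), via the derived plane of order 4 and the 56
hyperovals meeting a given one evenly. -/

namespace Cfsg.Agent.Lib.Helper2.S22

open Finset Cfsg.Agent.Lib.Helper2.Plane4

/-! ### set system isomorphisms -/

theorem iso_of_equiv {α β : Type*} [DecidableEq α] [DecidableEq β] (e : α ≃ β)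
    (B : Finset (Finset α)) :
    Cfsg.SetSystemIso (B : Set (Finset α))
      ((B.image (fun b => b.image e) : Finset (Finset β)) : Set (Finset β)) :=
  ⟨e, by rw [coe_image]⟩

theorem iso_trans {α β γ : Type*} [DecidableEq α] [DecidableEq β] [DecidableEq γ]
    {B : Set (Finset α)} {B' : Set (Finset β)} {B'' : Set (Finset γ)}
    (h1 : Cfsg.SetSystemIso B B') (h2 : Cfsg.SetSystemIso B' B'') : Cfsg.SetSystemIso B B'' := by
  obtain ⟨e1, rfl⟩ := h1
  obtain ⟨e2, rfl⟩ := h2
  refine ⟨e1.trans e2, ?_⟩
  rw [Set.image_image]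
  congr 1
  funext b
  rw [image_image]
  rfl

theorem iso_symm {α β : Type*} [DecidableEq α] [DecidableEq β]
    {B : Set (Finset α)} {B' : Set (Finset β)}
    (h : Cfsg.SetSystemIso B B') : Cfsg.SetSystemIso B' B := by
  obtain ⟨e, rfl⟩ := h
  refine ⟨e.symm, ?_⟩
  rw [Set.image_image]
  have : (fun b : Finset α => (b.image e).image e.symm) = id := by
    funext b
    rw [image_image]
    simp
  rw [this, Set.image_id]

theorem steiner_image {α β : Type*} [DecidableEq α] [DecidableEq β] (e : α ≃ β) (t k : ℕ)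
    (B : Finset (Finset α)) (hB : Cfsg.IsSteinerSystem t k (B : Set (Finset α))) :
    Cfsg.IsSteinerSystem t k ((B.image (fun b => b.image e) : Finset (Finset β)) :
      Set (Finset β)) := by
  obtain ⟨hk, hu⟩ := hB
  constructor
  · intro b' hb'
    rw [mem_coe, mem_image] at hb'
    obtain ⟨b, hb, rfl⟩ := hb'
    rw [card_image_of_injective _ e.injective]
    exact hk b (mem_coe.mpr hb)
  · intro s hs
    have hs0 : (s.image e.symm).card = t := by
      rw [card_image_of_injective _ e.symm.injective, hs]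
    obtain ⟨b, ⟨hbB, hsb⟩, hbu⟩ := hu _ hs0
    refine ⟨b.image e, ⟨mem_coe.mpr (mem_image_of_mem _ (mem_coe.mp hbB)), ?_⟩, ?_⟩
    · intro y hy
      rw [mem_image]
      refine ⟨e.symm y, hsb (mem_image_of_mem _ hy), by simp⟩
    · rintro c' ⟨hc', hsc'⟩
      rw [mem_coe, mem_image] at hc'
      obtain ⟨c, hc, rfl⟩ := hc'
      have : c = b := by
        apply hbu c ⟨mem_coe.mpr hc, ?_⟩
        intro x hx
        obtain ⟨y, hy, rfl⟩ := mem_image.mp hx
        obtain ⟨z, hz, hzy⟩ := mem_image.mp (hsc' hy)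
        rw [← hzy]
        simpa using hz
      rw [this]

/-! ### eraseNone -/

section erase

variable {γ : Type*} [DecidableEq γ]

theorem card_eraseNone_of_mem {b : Finset (Option γ)} (h : none ∈ b) :
    (eraseNone b).card + 1 = b.card := by
  rw [← card_insertNone, insertNone_eraseNone, insert_eq_of_mem h]

theorem card_eraseNone_of_notMem {b : Finset (Option γ)} (h : none ∉ b) :
    (eraseNone b).card = b.card := by
  rw [← card_map Function.Embedding.some, map_some_eraseNone, erase_eq_of_notMem h]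

theorem eraseNone_inj_of_mem {b c : Finset (Option γ)} (hb : none ∈ b) (hc : none ∈ c)
    (h : eraseNone b = eraseNone c) : b = c := by
  rw [← insert_eq_of_mem hb, ← insert_eq_of_mem hc, ← insertNone_eraseNone,
    ← insertNone_eraseNone, h]

theorem eraseNone_inj_of_notMem {b c : Finset (Option γ)} (hb : none ∉ b) (hc : none ∉ c)
    (h : eraseNone b = eraseNone c) : b = c := by
  rw [← erase_eq_of_notMem hb, ← erase_eq_of_notMem hc, ← map_some_eraseNone,
    ← map_some_eraseNone, h]

theorem eraseNone_image_optionCongr {γ' : Type*} [DecidableEq γ'] (e : γ ≃ γ')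
    (b : Finset (Option γ)) :
    eraseNone (b.image e.optionCongr) = (eraseNone b).image e := by
  ext x
  simp only [mem_eraseNone, mem_image, Equiv.optionCongr_apply]
  constructor
  · rintro ⟨o, ho, hox⟩
    obtain ⟨y, rfl, hy⟩ := Option.map_eq_some_iff.mp hox
    exact ⟨y, ho, hy⟩
  · rintro ⟨y, hy, rfl⟩
    exact ⟨some y, hy, rfl⟩

theorem none_mem_image_optionCongr {γ' : Type*} [DecidableEq γ'] (e : γ ≃ γ')
    (b : Finset (Option γ)) : none ∈ b.image e.optionCongr ↔ none ∈ b := by
  simp only [mem_image, Equiv.optionCongr_apply]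
  constructor
  · rintro ⟨o, ho, hox⟩
    rw [Option.map_eq_none_iff] at hox
    rw [← hox]
    exact ho
  · intro h
    exact ⟨none, h, rfl⟩

end erase

/-! ### the derived plane and its ovals -/

variable {γ : Type*} [Fintype γ] [DecidableEq γ]

/-- lines of the derived plane at `none`. -/
def lines (B : Finset (Finset (Option γ))) : Finset (Finset γ) :=
  (B.filter (fun b => none ∈ b)).image (fun b => eraseNone b)

/-- blocks missing `none`. -/
def ovals (B : Finset (Finset (Option γ))) : Finset (Finset γ) :=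
  (B.filter (fun b => none ∉ b)).image (fun b => eraseNone b)

theorem mem_iff (B : Finset (Finset (Option γ))) (b : Finset (Option γ)) :
    b ∈ B ↔ (none ∈ b ∧ eraseNone b ∈ lines B) ∨ (none ∉ b ∧ eraseNone b ∈ ovals B) := by
  constructor
  · intro hb
    by_cases h : none ∈ b
    · exact Or.inl ⟨h, mem_image.mpr ⟨b, mem_filter.mpr ⟨hb, h⟩, rfl⟩⟩
    · exact Or.inr ⟨h, mem_image.mpr ⟨b, mem_filter.mpr ⟨hb, h⟩, rfl⟩⟩
  · rintro (⟨h, hl⟩ | ⟨h, hl⟩)
    · obtain ⟨b', hb', he⟩ := mem_image.mp hl
      rw [mem_filter] at hb'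
      rw [← eraseNone_inj_of_mem hb'.2 h he]
      exact hb'.1
    · obtain ⟨b', hb', he⟩ := mem_image.mp hl
      rw [mem_filter] at hb'
      rw [← eraseNone_inj_of_notMem hb'.2 h he]
      exact hb'.1

section design

variable {B : Finset (Finset (Option γ))} (hγ : Fintype.card γ = 21)
  (hB : Cfsg.IsSteinerSystem 3 6 (B : Set (Finset (Option γ))))
include hγ hB

theorem steiner_lines : Cfsg.IsSteinerSystem 2 5 (lines B : Set (Finset γ)) := by
  obtain ⟨hk, hu⟩ := hB
  constructor
  · intro l hl
    rw [mem_coe, lines, mem_image] at hl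
    obtain ⟨b, hb, rfl⟩ := hl
    rw [mem_filter] at hb
    have h1 := card_eraseNone_of_mem hb.2
    have h2 := hk b (mem_coe.mpr hb.1)
    omega
  · intro s hs
    have h3 : (insertNone s).card = 3 := by rw [card_insertNone, hs]
    obtain ⟨b, ⟨hbB, hsb⟩, hbu⟩ := hu (insertNone s) h3
    have hnb : none ∈ b := hsb none_mem_insertNone
    refine ⟨eraseNone b, ⟨?_, ?_⟩, ?_⟩
    · exact mem_coe.mpr (mem_image.mpr ⟨b, mem_filter.mpr ⟨mem_coe.mp hbB, hnb⟩, rfl⟩)
    · intro x hx
      rw [mem_eraseNone]
      exact hsb (some_mem_insertNone.mpr hx)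
    · rintro l' ⟨hl', hsl'⟩
      rw [mem_coe, lines, mem_image] at hl'
      obtain ⟨b', hb', rfl⟩ := hl'
      rw [mem_filter] at hb'
      have : b' = b := by
        apply hbu b' ⟨mem_coe.mpr hb'.1, ?_⟩
        intro o ho
        cases o with
        | none => exact hb'.2
        | some x =>
          rw [some_mem_insertNone] at ho
          exact mem_eraseNone.mp (hsl' ho)
      rw [this]

theorem plane : IsPlane4 (lines B) := IsPlane4.of_steiner hγ _ (steiner_lines hγ hB)

omit hB in
theorem card_option : Fintype.card (Option γ) = 22 := by rw [Fintype.card_option, hγ]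

theorem oval_mem_arcs {H : Finset γ} (hH : H ∈ ovals B) : H ∈ arcs (lines B) 6 := by
  rw [ovals, mem_image] at hH
  obtain ⟨b, hb, rfl⟩ := hH
  rw [mem_filter] at hb
  rw [mem_arcs]
  refine ⟨by rw [card_eraseNone_of_notMem hb.2]; exact hB.1 b (mem_coe.mpr hb.1), ?_⟩
  intro l hl
  rw [lines, mem_image] at hl
  obtain ⟨b', hb', rfl⟩ := hl
  rw [mem_filter] at hb'
  have hne : b' ≠ b := fun h => hb.2 (h ▸ hb'.2)
  have hnone : none ∉ b' ∩ b := fun h => hb.2 (mem_inter.mp h).2
  rw [← eraseNone_inter, card_eraseNone_of_notMem hnone]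
  rcases Cfsg.Agent.Lib.Helper9.Steiner7.block_inter_3_6_22 (card_option hγ) hB
    (mem_coe.mpr hb'.1) (mem_coe.mpr hb.1) hne with h | h <;> omega

theorem oval_even {H H' : Finset γ} (hH : H ∈ ovals B) (hH' : H' ∈ ovals B) :
    Even (H ∩ H').card := by
  rw [ovals, mem_image] at hH hH'
  obtain ⟨b, hb, rfl⟩ := hH
  obtain ⟨b', hb', rfl⟩ := hH'
  rw [mem_filter] at hb hb'
  have hnone : none ∉ b ∩ b' := fun h => hb.2 (mem_inter.mp h).1
  rw [← eraseNone_inter, card_eraseNone_of_notMem hnone]
  by_cases hne : b = b'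
  · rw [hne, inter_self, hB.1 b' (mem_coe.mpr hb'.1)]
    decide
  · rcases Cfsg.Agent.Lib.Helper9.Steiner7.block_inter_3_6_22 (card_option hγ) hB
      (mem_coe.mpr hb.1) (mem_coe.mpr hb'.1) hne with h | h <;> rw [h] <;> decide

theorem card_B : B.card = 77 := by
  have h := Cfsg.Agent.Lib.Helper9.Steiner1.card_blocks_through 3 6 B hB ∅ (by simp)
  simp only [card_empty, card_option hγ, empty_subset, filter_true_of_mem, implies_true] at h
  norm_num [Nat.choose] at h
  omega

theorem card_thru : (B.filter (fun b => none ∈ b)).card = 21 := by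
  have h := Cfsg.Agent.Lib.Helper9.Steiner1.card_blocks_through 3 6 B hB {none} (by simp)
  simp only [card_singleton, card_option hγ, singleton_subset_iff] at h
  norm_num [Nat.choose] at h
  omega

theorem card_ovals : (ovals B).card = 56 := by
  rw [ovals, card_image_of_injOn]
  · have h := card_filter_add_card_filter_not (s := B) (fun b => none ∈ b)
    rw [card_thru hγ hB, card_B hγ hB] at h
    omega
  · intro b hb c hc h
    rw [mem_coe, mem_filter] at hb hc
    exact eraseNone_inj_of_notMem hb.2 hc.2 h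

theorem ovals_eq {H0 : Finset γ} (hH0 : H0 ∈ ovals B) :
    ovals B = (arcs (lines B) 6).filter (fun H => Even (H ∩ H0).card) := by
  apply eq_of_subset_of_card_le
  · intro H hH
    exact mem_filter.mpr ⟨oval_mem_arcs hγ hB hH, oval_even hγ hB hH hH0⟩
  · rw [even_count (plane hγ hB) (oval_mem_arcs hγ hB hH0), card_ovals hγ hB]

theorem exists_oval : ∃ H0, H0 ∈ ovals B := by
  have h := card_ovals hγ hB
  have : (ovals B).Nonempty := card_pos.mp (by omega)
  exact this

end design

/-- main uniqueness statement on `Option` types. -/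
theorem unique_option {γ' : Type*} [Fintype γ'] [DecidableEq γ']
    {B : Finset (Finset (Option γ))} {B' : Finset (Finset (Option γ'))}
    (hγ : Fintype.card γ = 21) (hγ' : Fintype.card γ' = 21)
    (hB : Cfsg.IsSteinerSystem 3 6 (B : Set (Finset (Option γ))))
    (hB' : Cfsg.IsSteinerSystem 3 6 (B' : Set (Finset (Option γ')))) :
    Cfsg.SetSystemIso (B : Set (Finset (Option γ))) (B' : Set (Finset (Option γ'))) := by
  have hP := plane hγ hB
  have hP' := plane hγ' hB'
  obtain ⟨H0, hH0⟩ := exists_oval hγ hB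
  obtain ⟨H0', hH0'⟩ := exists_oval hγ' hB'
  have hA := mem_arcs.mp (oval_mem_arcs hγ hB hH0)
  have hA' := mem_arcs.mp (oval_mem_arcs hγ' hB' hH0')
  obtain ⟨ε, -⟩ : ∃ ε : Fin 6 ≃ ↥H0, True := ⟨(Finset.equivFinOfCardEq hA.1).symm, trivial⟩
  obtain ⟨ε', -⟩ : ∃ ε' : Fin 6 ≃ ↥H0', True := ⟨(Finset.equivFinOfCardEq hA'.1).symm, trivial⟩
  have hF := Frame.of_hyperoval hA.2 ε
  have hF' := Frame.of_hyperoval hA'.2 ε'
  obtain ⟨e, he1, he2⟩ := iso_of_frames hP hF hP' hF'
  -- lines go to lines
  have hline : ∀ l, l ∈ lines B → l.image e ∈ lines B' := by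
    intro l hl
    have : l.image e ∈ (fun b : Finset γ => b.image e) '' (lines B : Set (Finset γ)) :=
      ⟨l, mem_coe.mpr hl, rfl⟩
    rw [he2] at this
    exact mem_coe.mp this
  have hline' : ∀ l', l' ∈ lines B' → ∃ l ∈ lines B, l.image e = l' := by
    intro l' hl'
    have : l' ∈ (fun b : Finset γ => b.image e) '' (lines B : Set (Finset γ)) := by
      rw [he2]
      exact mem_coe.mpr hl'
    obtain ⟨l, hl, rfl⟩ := this
    exact ⟨l, mem_coe.mp hl, rfl⟩
  -- H0 goes to H0'
  have hH0img : H0.image e = H0' := by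
    ext y
    constructor
    · intro hy
      obtain ⟨x, hx, rfl⟩ := mem_image.mp hy
      have h1 := he1 (ε.symm ⟨x, hx⟩)
      simp only [Equiv.apply_symm_apply] at h1
      rw [h1]
      exact (ε' _).2
    · intro hy
      have h1 := he1 (ε'.symm ⟨y, hy⟩)
      simp only [Equiv.apply_symm_apply] at h1
      rw [← h1]
      exact mem_image_of_mem _ (ε _).2
  -- ovals go to ovals
  have hoval : ∀ H, H ∈ ovals B → H.image e ∈ ovals B' := by
    intro H hH
    rw [ovals_eq hγ hB hH0, mem_filter, mem_arcs] at hH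
    rw [ovals_eq hγ' hB' hH0', mem_filter, mem_arcs]
    obtain ⟨⟨h6, harc⟩, hev⟩ := hH
    refine ⟨⟨by rw [card_image_of_injective _ e.injective, h6], ?_⟩, ?_⟩
    · intro l' hl'
      obtain ⟨l, hl, rfl⟩ := hline' l' hl'
      rw [← image_inter _ _ e.injective, card_image_of_injective _ e.injective]
      exact harc l hl
    · rw [← hH0img, ← image_inter _ _ e.injective, card_image_of_injective _ e.injective]
      exact hev
  -- blocks go to blocks
  have hinj : Function.Injective (fun b : Finset (Option γ) => b.image e.optionCongr) :=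
    image_injective e.optionCongr.injective
  have hsub : B.image (fun b => b.image e.optionCongr) ⊆ B' := by
    intro c hc
    obtain ⟨b, hb, rfl⟩ := mem_image.mp hc
    rw [mem_iff B'] 
    rcases (mem_iff B b).mp hb with ⟨h, hl⟩ | ⟨h, hl⟩
    · left
      refine ⟨(none_mem_image_optionCongr e b).mpr h, ?_⟩
      rw [eraseNone_image_optionCongr]
      exact hline _ hl
    · right
      refine ⟨fun h' => h ((none_mem_image_optionCongr e b).mp h'), ?_⟩
      rw [eraseNone_image_optionCongr]
      exact hoval _ hl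
  have heq : B.image (fun b => b.image e.optionCongr) = B' := by
    apply eq_of_subset_of_card_le hsub
    rw [card_image_of_injective _ hinj, card_B hγ hB, card_B hγ' hB']
  refine ⟨e.optionCongr, ?_⟩
  rw [← heq, coe_image]

/-- uniqueness of S(3,6,22). -/
theorem unique_3_6_22 {α β : Type*} [Fintype α] [DecidableEq α] [Fintype β] [DecidableEq β]
    (hα : Fintype.card α = 22) (hβ : Fintype.card β = 22) {B : Set (Finset α)}
    {B' : Set (Finset β)} (hB : Cfsg.IsSteinerSystem 3 6 B) (hB' : Cfsg.IsSteinerSystem 3 6 B') :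
    Cfsg.SetSystemIso B B' := by
  obtain ⟨Bf, rfl⟩ := Cfsg.Agent.Lib.Helper9.Steiner5.exists_finset B
  obtain ⟨Bf', rfl⟩ := Cfsg.Agent.Lib.Helper9.Steiner5.exists_finset B'
  obtain ⟨a⟩ : Nonempty α := Fintype.card_pos_iff.mp (by omega)
  obtain ⟨a'⟩ : Nonempty β := Fintype.card_pos_iff.mp (by omega)
  have e0 : α ≃ Option {x // x ≠ a} := (Equiv.optionSubtypeNe a).symm
  have e0' : β ≃ Option {x // x ≠ a'} := (Equiv.optionSubtypeNe a').symm
  have hγ : Fintype.card {x // x ≠ a} = 21 := by
    have h1 := Fintype.card_congr e0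
    rw [Fintype.card_option, hα] at h1
    omega
  have hγ' : Fintype.card {x // x ≠ a'} = 21 := by
    have h1 := Fintype.card_congr e0'
    rw [Fintype.card_option, hβ] at h1
    omega
  have h1 := iso_of_equiv e0 Bf
  have h2 := iso_of_equiv e0' Bf'
  have h3 := unique_option hγ hγ' (steiner_image e0 3 6 Bf hB) (steiner_image e0' 3 6 Bf' hB')
  exact iso_trans h1 (iso_trans h3 (iso_symm h2))

end Cfsg.Agent.Lib.Helper2.S22
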