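import Mathlib
import Cfsg.Prelude.Def_Sporadic_a
import Cfsg.Agent.Lib.Helper5.Steiner22Graph
import Cfsg.Agent.S0410

set_option autoImplicit false

namespace Cfsg.Agent.Lib.Helper2.Srg100

open Finset Cfsg

theorem num1 : ∀ n : Fin 7, 4 * n.1 ≤ n.1 ^ 2 + 4 * 1 := by decide

theorem num2 : ∀ n : Fin 7, 4 * n.1 = n.1 ^ 2 + 4 * 1 → n.1 = 2 := by decide

section Design

theorem steiner_of_inter {α ι : Type*} [Fintype α] [DecidableEq α] [DecidableEq ι]
    (hα : Fintype.card α = 22) (M : Finset ι) (blk : ι → Finset α)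
    (h6 : ∀ m ∈ M, (blk m).card = 6)
    (h2 : ∀ m ∈ M, ∀ w ∈ M, m ≠ w → (blk m ∩ blk w).card ≤ 2)
    (h5 : ∀ x y : α, x ≠ y → (M.filter (fun m => x ∈ blk m ∧ y ∈ blk m)).card = 5) :
    IsSteinerSystem 3 6 (blk '' (M : Set ι)) := by
  have key : ∀ m ∈ M, ∀ w ∈ M, ∀ x y z : α, x ≠ y → x ≠ z → y ≠ z →
      x ∈ blk m → y ∈ blk m → z ∈ blk m → x ∈ blk w → y ∈ blk w → z ∈ blk w → m = w := by
    intro m hm w hw x y z hxy hxz hyz h1 h2' h3 h4 h5' h6'
    by_contra hne
    have hsub : ({x, y, z} : Finset α) ⊆ blk m ∩ blk w := by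
      intro u hu
      rw [Finset.mem_insert, Finset.mem_insert, Finset.mem_singleton] at hu
      rw [Finset.mem_inter]
      rcases hu with rfl | rfl | rfl
      · exact ⟨h1, h4⟩
      · exact ⟨h2', h5'⟩
      · exact ⟨h3, h6'⟩
    have hc : ({x, y, z} : Finset α).card = 3 :=
      Finset.card_eq_three.mpr ⟨x, y, z, hxy, hxz, hyz, rfl⟩
    have hle := Finset.card_le_card hsub
    have hle2 := h2 m hm w hw hne
    omega
  refine ⟨?_, ?_⟩
  · rintro b ⟨m, hm, rfl⟩
    exact h6 m (Finset.mem_coe.mp hm)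
  · intro s hs
    obtain ⟨x, y, z, hxy, hxz, hyz, rfl⟩ := Finset.card_eq_three.mp hs
    have hex : ∃ m ∈ M, x ∈ blk m ∧ y ∈ blk m ∧ z ∈ blk m := by
      by_contra hcon
      push Not at hcon
      have hdisj : ((M.filter (fun m => x ∈ blk m ∧ y ∈ blk m) : Finset ι) : Set ι).PairwiseDisjoint
          (fun m => blk m \ {x, y}) := by
        intro m hm w hw hmw
        rw [Finset.mem_coe, Finset.mem_filter] at hm hw
        show Disjoint (blk m \ {x, y}) (blk w \ {x, y})
        rw [Finset.disjoint_left]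
        intro u hu1 hu2
        rw [Finset.mem_sdiff, Finset.mem_insert, Finset.mem_singleton, not_or] at hu1 hu2
        exact hmw (key m hm.1 w hw.1 x y u hxy (Ne.symm hu1.2.1) (Ne.symm hu1.2.2)
          hm.2.1 hm.2.2 hu1.1 hw.2.1 hw.2.2 hu2.1)
      have hcard : ((M.filter (fun m => x ∈ blk m ∧ y ∈ blk m)).biUnion
          (fun m => blk m \ {x, y})).card = 20 := by
        rw [Finset.card_biUnion hdisj, Finset.sum_const_nat (m := 4), h5 x y hxy]
        intro m hm
        rw [Finset.mem_filter] at hm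
        rw [Finset.card_sdiff_of_subset, h6 m hm.1, Finset.card_pair hxy]
        intro u hu
        rw [Finset.mem_insert, Finset.mem_singleton] at hu
        rcases hu with rfl | rfl
        · exact hm.2.1
        · exact hm.2.2
      have hsub : (M.filter (fun m => x ∈ blk m ∧ y ∈ blk m)).biUnion
          (fun m => blk m \ {x, y}) ⊆ Finset.univ \ {x, y, z} := by
        intro u hu
        rw [Finset.mem_biUnion] at hu
        obtain ⟨m, hm, hu⟩ := hu
        rw [Finset.mem_filter] at hm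
        rw [Finset.mem_sdiff, Finset.mem_insert, Finset.mem_singleton, not_or] at hu
        rw [Finset.mem_sdiff, Finset.mem_insert, Finset.mem_insert, Finset.mem_singleton]
        refine ⟨Finset.mem_univ _, ?_⟩
        rintro (h | h | h)
        · exact hu.2.1 h
        · exact hu.2.2 h
        · rw [h] at hu
          exact hcon m hm.1 hm.2.1 hm.2.2 hu.1
      have h19 : (Finset.univ \ ({x, y, z} : Finset α)).card = 19 := by
        rw [Finset.card_univ_sdiff, hα, Finset.card_eq_three.mpr ⟨x, y, z, hxy, hxz, hyz, rfl⟩]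
      have hle := Finset.card_le_card hsub
      omega
    obtain ⟨m, hm, hx, hy, hz⟩ := hex
    refine ⟨blk m, ⟨⟨m, Finset.mem_coe.mpr hm, rfl⟩, ?_⟩, ?_⟩
    · intro u hu
      rw [Finset.mem_insert, Finset.mem_insert, Finset.mem_singleton] at hu
      rcases hu with rfl | rfl | rfl
      · exact hx
      · exact hy
      · exact hz
    · rintro b ⟨⟨w, hw, rfl⟩, hsub⟩
      have hx' : x ∈ blk w := hsub (by simp)
      have hy' : y ∈ blk w := hsub (by simp)
      have hz' : z ∈ blk w := hsub (by simp)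
      rw [key w (Finset.mem_coe.mp hw) m hm x y z hxy hxz hyz hx' hy' hz' hx hy hz]

end Design

section Counting

variable {V : Type*} [Fintype V] [DecidableEq V] {G : SimpleGraph V} [DecidableRel G.Adj]

theorem dc1 (A T : Finset V) :
    ∑ w ∈ T, (A.filter (fun x => G.Adj x w)).card
      = ∑ x ∈ A, (T.filter (fun w => G.Adj x w)).card := by
  simp_rw [Finset.card_filter]
  exact Finset.sum_comm

theorem dc2 (A T : Finset V) :
    ∑ w ∈ T, (A.filter (fun x => G.Adj x w)).card ^ 2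
      = ∑ x ∈ A, ∑ y ∈ A, (T.filter (fun w => G.Adj x w ∧ G.Adj y w)).card := by
  simp_rw [Finset.card_filter, sq, Finset.sum_mul_sum]
  rw [Finset.sum_comm]
  refine Finset.sum_congr rfl fun x _ => ?_
  rw [Finset.sum_comm]
  refine Finset.sum_congr rfl fun y _ => ?_
  refine Finset.sum_congr rfl fun w _ => ?_
  by_cases h1 : G.Adj x w <;> by_cases h2 : G.Adj y w <;> simp [h1, h2]

theorem card_sub (s : Finset V) (p : V → Prop) [DecidablePred p] :
    (Finset.univ.filter (fun x : {x // x ∈ s} => p x.1)).card = (s.filter p).card := by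
  refine Finset.card_bij (fun x _ => x.1) ?_ ?_ ?_
  · intro x hx
    rw [Finset.mem_filter] at hx ⊢
    exact ⟨x.2, hx.2⟩
  · intro x _ y _ h
    exact Subtype.ext h
  · intro y hy
    rw [Finset.mem_filter] at hy
    exact ⟨⟨y, hy.1⟩, by rw [Finset.mem_filter]; exact ⟨Finset.mem_univ _, hy.2⟩, rfl⟩

theorem card_inter_of {v w : V} {n : ℕ} {inst : Fintype (G.commonNeighbors v w)}
    (h : @Fintype.card (G.commonNeighbors v w) inst = n) :
    (G.neighborFinset v ∩ G.neighborFinset w).card = n := by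
  rw [← h]
  symm
  apply Fintype.card_of_subtype
  intro x
  rw [Finset.mem_inter, SimpleGraph.mem_neighborFinset, SimpleGraph.mem_neighborFinset,
    SimpleGraph.mem_commonNeighbors]

theorem card_nb (hG : G.IsSRGWith 100 22 0 6) (v : V) : (G.neighborFinset v).card = 22 :=
  hG.regular v

theorem inter_of_adj (hG : G.IsSRGWith 100 22 0 6) {v w : V} (h : G.Adj v w) :
    G.neighborFinset v ∩ G.neighborFinset w = ∅ :=
  Finset.card_eq_zero.mp (card_inter_of (hG.of_adj v w h))

theorem tf (hG : G.IsSRGWith 100 22 0 6) {a b c : V} (hab : G.Adj a b) (hac : G.Adj a c) :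
    ¬ G.Adj b c := by
  intro hbc
  have h := inter_of_adj hG hab
  have h2 : c ∈ G.neighborFinset a ∩ G.neighborFinset b := by
    rw [Finset.mem_inter, SimpleGraph.mem_neighborFinset, SimpleGraph.mem_neighborFinset]
    exact ⟨hac, hbc⟩
  rw [h] at h2
  exact Finset.notMem_empty _ h2

theorem card_inter_of_ne (hG : G.IsSRGWith 100 22 0 6) {v w : V} (hne : v ≠ w)
    (h : ¬ G.Adj v w) : (G.neighborFinset v ∩ G.neighborFinset w).card = 6 :=
  card_inter_of (hG.of_not_adj hne h)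

def far (G : SimpleGraph V) [DecidableRel G.Adj] (v₀ : V) : Finset V :=
  Finset.univ.filter (fun w => w ≠ v₀ ∧ ¬ G.Adj v₀ w)

theorem mem_far {v₀ w : V} : w ∈ far G v₀ ↔ w ≠ v₀ ∧ ¬ G.Adj v₀ w := by
  unfold far
  rw [Finset.mem_filter]
  exact ⟨fun h => h.2, fun h => ⟨Finset.mem_univ _, h⟩⟩

theorem card_far (hG : G.IsSRGWith 100 22 0 6) (v₀ : V) : (far G v₀).card = 77 := by
  have h1 : far G v₀ = Finset.univ \ insert v₀ (G.neighborFinset v₀) := by
    ext w
    rw [mem_far, Finset.mem_sdiff, Finset.mem_insert, SimpleGraph.mem_neighborFinset, not_or]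
    exact ⟨fun h => ⟨Finset.mem_univ _, h⟩, fun h => h.2⟩
  have h2 : v₀ ∉ G.neighborFinset v₀ := by
    rw [SimpleGraph.mem_neighborFinset]
    exact G.irrefl
  rw [h1, Finset.card_univ_sdiff, hG.card, Finset.card_insert_of_notMem h2, card_nb hG]

def nbm (G : SimpleGraph V) [DecidableRel G.Adj] (v₀ m : V) : Finset V :=
  (G.neighborFinset v₀).filter (fun x => G.Adj x m)

theorem mem_nbm {v₀ m x : V} : x ∈ nbm G v₀ m ↔ G.Adj v₀ x ∧ G.Adj x m := by
  unfold nbm
  rw [Finset.mem_filter, SimpleGraph.mem_neighborFinset]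

theorem card_nbm (hG : G.IsSRGWith 100 22 0 6) {v₀ m : V} (hm : m ∈ far G v₀) :
    (nbm G v₀ m).card = 6 := by
  rw [mem_far] at hm
  rw [← card_inter_of_ne hG hm.1.symm hm.2]
  congr 1
  ext x
  rw [mem_nbm, Finset.mem_inter, SimpleGraph.mem_neighborFinset, SimpleGraph.mem_neighborFinset,
    G.adj_comm x m]

theorem far_filter_adj (hG : G.IsSRGWith 100 22 0 6) {v₀ x : V} (hx : G.Adj v₀ x) :
    (far G v₀).filter (fun w => G.Adj x w) = (G.neighborFinset x).erase v₀ := by
  ext w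
  rw [Finset.mem_filter, mem_far, Finset.mem_erase, SimpleGraph.mem_neighborFinset]
  exact ⟨fun h => ⟨h.1.1, h.2⟩, fun h => ⟨⟨h.1, fun h' => tf hG hx h' h.2⟩, h.2⟩⟩

theorem card_far_filter_adj (hG : G.IsSRGWith 100 22 0 6) {v₀ x : V} (hx : G.Adj v₀ x) :
    ((far G v₀).filter (fun w => G.Adj x w)).card = 21 := by
  rw [far_filter_adj hG hx, Finset.card_erase_of_mem, card_nb hG]
  rw [SimpleGraph.mem_neighborFinset]
  exact hx.symm

theorem far_filter_adj2 (hG : G.IsSRGWith 100 22 0 6) {v₀ x y : V} (hx : G.Adj v₀ x) :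
    (far G v₀).filter (fun w => G.Adj x w ∧ G.Adj y w)
      = (G.neighborFinset x ∩ G.neighborFinset y).erase v₀ := by
  ext w
  rw [Finset.mem_filter, mem_far, Finset.mem_erase, Finset.mem_inter,
    SimpleGraph.mem_neighborFinset, SimpleGraph.mem_neighborFinset]
  exact ⟨fun h => ⟨h.1.1, h.2⟩, fun h => ⟨⟨h.1, fun h' => tf hG hx h' h.2.1⟩, h.2⟩⟩

theorem card_far_filter_adj2 (hG : G.IsSRGWith 100 22 0 6) {v₀ x y : V} (hx : G.Adj v₀ x)
    (hy : G.Adj v₀ y) (hxy : x ≠ y) :
    ((far G v₀).filter (fun w => G.Adj x w ∧ G.Adj y w)).card = 5 := by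
  rw [far_filter_adj2 hG hx, Finset.card_erase_of_mem, card_inter_of_ne hG hxy (tf hG hx hy)]
  rw [Finset.mem_inter, SimpleGraph.mem_neighborFinset, SimpleGraph.mem_neighborFinset]
  exact ⟨hx.symm, hy.symm⟩

theorem sum1 (hG : G.IsSRGWith 100 22 0 6) {v₀ m : V} (hm : m ∈ far G v₀) :
    ∑ u ∈ far G v₀, ((nbm G v₀ m).filter (fun x => G.Adj x u)).card = 126 := by
  rw [dc1, Finset.sum_const_nat (m := 21), card_nbm hG hm]
  intro x hx
  exact card_far_filter_adj hG (mem_nbm.1 hx).1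

theorem sum2 (hG : G.IsSRGWith 100 22 0 6) {v₀ m : V} (hm : m ∈ far G v₀) :
    ∑ u ∈ far G v₀, ((nbm G v₀ m).filter (fun x => G.Adj x u)).card ^ 2 = 276 := by
  rw [dc2, Finset.sum_const_nat (m := 46), card_nbm hG hm]
  intro x hx
  rw [← Finset.add_sum_erase _ _ hx]
  have h0 : (far G v₀).filter (fun w => G.Adj x w ∧ G.Adj x w)
      = (far G v₀).filter (fun w => G.Adj x w) :=
    Finset.filter_congr (fun w _ => and_self_iff)
  rw [h0, card_far_filter_adj hG (mem_nbm.1 hx).1, Finset.sum_const_nat (m := 5),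
    Finset.card_erase_of_mem hx, card_nbm hG hm]
  intro y hy
  rw [Finset.mem_erase] at hy
  exact card_far_filter_adj2 hG (mem_nbm.1 hx).1 (mem_nbm.1 hy.2).1 (Ne.symm hy.1)

theorem self_filter {v₀ m : V} :
    (nbm G v₀ m).filter (fun x => G.Adj x m) = nbm G v₀ m := by
  apply Finset.filter_true_of_mem
  intro x hx
  exact (mem_nbm.1 hx).2

theorem sum1' (hG : G.IsSRGWith 100 22 0 6) {v₀ m : V} (hm : m ∈ far G v₀) :
    ∑ u ∈ (far G v₀).erase m, ((nbm G v₀ m).filter (fun x => G.Adj x u)).card = 120 := by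
  have h : ((nbm G v₀ m).filter (fun x => G.Adj x m)).card
      + ∑ u ∈ (far G v₀).erase m, ((nbm G v₀ m).filter (fun x => G.Adj x u)).card
      = ∑ u ∈ far G v₀, ((nbm G v₀ m).filter (fun x => G.Adj x u)).card :=
    Finset.add_sum_erase (far G v₀)
      (fun u => ((nbm G v₀ m).filter (fun x => G.Adj x u)).card) hm
  rw [sum1 hG hm, self_filter, card_nbm hG hm] at h
  omega

theorem sum2' (hG : G.IsSRGWith 100 22 0 6) {v₀ m : V} (hm : m ∈ far G v₀) :
    ∑ u ∈ (far G v₀).erase m, ((nbm G v₀ m).filter (fun x => G.Adj x u)).card ^ 2 = 240 := by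
  have h : ((nbm G v₀ m).filter (fun x => G.Adj x m)).card ^ 2
      + ∑ u ∈ (far G v₀).erase m, ((nbm G v₀ m).filter (fun x => G.Adj x u)).card ^ 2
      = ∑ u ∈ far G v₀, ((nbm G v₀ m).filter (fun x => G.Adj x u)).card ^ 2 :=
    Finset.add_sum_erase (far G v₀)
      (fun u => ((nbm G v₀ m).filter (fun x => G.Adj x u)).card ^ 2) hm
  rw [sum2 hG hm, self_filter, card_nbm hG hm] at h
  have h36 : (6 : ℕ) ^ 2 = 36 := by norm_num
  rw [h36] at h
  omega

theorem filter_empty_of_adj (hG : G.IsSRGWith 100 22 0 6) {v₀ m w : V} (h : G.Adj m w) :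
    (nbm G v₀ m).filter (fun x => G.Adj x w) = ∅ := by
  apply Finset.filter_false_of_mem
  intro x hx hxw
  exact tf hG (mem_nbm.1 hx).2 hxw h

theorem card_nonadj (hG : G.IsSRGWith 100 22 0 6) {v₀ m : V} (hm : m ∈ far G v₀) :
    (((far G v₀).erase m).filter (fun w => ¬ G.Adj m w)).card = 60 := by
  have h1 := Finset.card_filter_add_card_filter_not (s := (far G v₀).erase m)
    (fun w => G.Adj m w)
  have h2 : ((far G v₀).erase m).filter (fun w => G.Adj m w)
      = G.neighborFinset m \ G.neighborFinset v₀ := by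
    ext w
    rw [Finset.mem_filter, Finset.mem_erase, mem_far, Finset.mem_sdiff,
      SimpleGraph.mem_neighborFinset, SimpleGraph.mem_neighborFinset]
    constructor
    · rintro ⟨⟨_, _, h3⟩, h4⟩
      exact ⟨h4, h3⟩
    · rintro ⟨h4, h3⟩
      refine ⟨⟨?_, ?_, h3⟩, h4⟩
      · intro h
        rw [h] at h4
        exact G.irrefl h4
      · intro h
        rw [h] at h4
        exact (mem_far.1 hm).2 h4.symm
  have h3 : (G.neighborFinset m \ G.neighborFinset v₀).card = 16 := by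
    rw [Finset.card_sdiff, card_nb hG,
      card_inter_of_ne hG (mem_far.1 hm).1.symm (mem_far.1 hm).2]
  rw [h2, h3, Finset.card_erase_of_mem hm, card_far hG] at h1
  omega

theorem inter_two (hG : G.IsSRGWith 100 22 0 6) {v₀ m w : V} (hm : m ∈ far G v₀)
    (hw : w ∈ far G v₀) (hne : w ≠ m) (hadj : ¬ G.Adj m w) :
    ((nbm G v₀ m).filter (fun x => G.Adj x w)).card = 2 := by
  have hb : ∀ u : V, ((nbm G v₀ m).filter (fun x => G.Adj x u)).card < 7 := fun u =>
    Nat.lt_succ_of_le ((Finset.card_filter_le _ _).trans (card_nbm hG hm).le)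
  have hle : ∀ u ∈ (far G v₀).erase m,
      4 * ((nbm G v₀ m).filter (fun x => G.Adj x u)).card ≤
        ((nbm G v₀ m).filter (fun x => G.Adj x u)).card ^ 2
          + 4 * (if ¬ G.Adj m u then 1 else 0) := by
    intro u _
    by_cases hu : G.Adj m u
    · rw [filter_empty_of_adj hG hu]
      simp
    · rw [if_pos hu]
      exact num1 ⟨_, hb u⟩
  have e1 : ∑ u ∈ (far G v₀).erase m,
      4 * ((nbm G v₀ m).filter (fun x => G.Adj x u)).card = 480 := by
    rw [← Finset.mul_sum, sum1' hG hm]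
    rfl
  have e2 : ∑ u ∈ (far G v₀).erase m,
      (((nbm G v₀ m).filter (fun x => G.Adj x u)).card ^ 2
          + 4 * (if ¬ G.Adj m u then 1 else 0)) = 480 := by
    rw [Finset.sum_add_distrib, sum2' hG hm, ← Finset.mul_sum, ← Finset.card_filter,
      card_nonadj hG hm]
    rfl
  have h := (Finset.sum_eq_sum_iff_of_le hle).1 (e1.trans e2.symm) w
    (Finset.mem_erase.2 ⟨hne, hw⟩)
  rw [if_pos hadj] at h
  exact num2 ⟨_, hb w⟩ h

/-! ### Points and blocks -/

abbrev Pt (G : SimpleGraph V) [DecidableRel G.Adj] (v₀ : V) :=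
  {x // x ∈ G.neighborFinset v₀}

def blk (G : SimpleGraph V) [DecidableRel G.Adj] (v₀ m : V) : Finset (Pt G v₀) :=
  Finset.univ.filter (fun x => G.Adj x.1 m)

theorem mem_blk {v₀ m : V} {x : Pt G v₀} : x ∈ blk G v₀ m ↔ G.Adj x.1 m := by
  unfold blk
  rw [Finset.mem_filter]
  exact ⟨fun h => h.2, fun h => ⟨Finset.mem_univ _, h⟩⟩

theorem adj_pt {v₀ : V} (x : Pt G v₀) : G.Adj v₀ x.1 := by
  have h := x.2
  rwa [SimpleGraph.mem_neighborFinset] at h

theorem card_blk (hG : G.IsSRGWith 100 22 0 6) {v₀ m : V} (hm : m ∈ far G v₀) :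
    (blk G v₀ m).card = 6 :=
  (card_sub (G.neighborFinset v₀) (fun x => G.Adj x m)).trans (card_nbm hG hm)

theorem card_blk_inter (v₀ m w : V) :
    (blk G v₀ m ∩ blk G v₀ w).card = ((nbm G v₀ m).filter (fun x => G.Adj x w)).card := by
  have h1 : blk G v₀ m ∩ blk G v₀ w
      = Finset.univ.filter (fun x : Pt G v₀ => G.Adj x.1 m ∧ G.Adj x.1 w) := by
    ext x
    rw [Finset.mem_inter, mem_blk, mem_blk, Finset.mem_filter]
    exact ⟨fun h => ⟨Finset.mem_univ _, h⟩, fun h => h.2⟩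
  rw [h1]
  refine (card_sub (G.neighborFinset v₀) (fun x => G.Adj x m ∧ G.Adj x w)).trans ?_
  unfold nbm
  rw [Finset.filter_filter]

theorem blk_inter_le (hG : G.IsSRGWith 100 22 0 6) {v₀ m w : V} (hm : m ∈ far G v₀)
    (hw : w ∈ far G v₀) (hne : m ≠ w) : (blk G v₀ m ∩ blk G v₀ w).card ≤ 2 := by
  rw [card_blk_inter]
  by_cases h : G.Adj m w
  · rw [filter_empty_of_adj hG h]
    simp
  · exact (inter_two hG hm hw hne.symm h).le

theorem adj_far_iff (hG : G.IsSRGWith 100 22 0 6) {v₀ m w : V} (hm : m ∈ far G v₀)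
    (hw : w ∈ far G v₀) :
    G.Adj m w ↔ m ≠ w ∧ Disjoint (blk G v₀ m) (blk G v₀ w) := by
  constructor
  · intro h
    refine ⟨G.ne_of_adj h, ?_⟩
    rw [Finset.disjoint_iff_inter_eq_empty, ← Finset.card_eq_zero, card_blk_inter,
      filter_empty_of_adj hG h]
    rfl
  · rintro ⟨hne, hd⟩
    by_contra h
    have h2 := inter_two hG hm hw hne.symm h
    rw [← card_blk_inter, Finset.disjoint_iff_inter_eq_empty.mp hd] at h2
    simp at h2

theorem blk_inj (hG : G.IsSRGWith 100 22 0 6) {v₀ m w : V} (hm : m ∈ far G v₀)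
    (hw : w ∈ far G v₀) (h : blk G v₀ m = blk G v₀ w) : m = w := by
  by_contra hne
  have h1 := blk_inter_le hG hm hw hne
  rw [h, Finset.inter_self, card_blk hG hw] at h1
  omega

theorem card_blocks_pair (hG : G.IsSRGWith 100 22 0 6) {v₀ : V} (x y : Pt G v₀)
    (hxy : x ≠ y) :
    ((far G v₀).filter (fun m => x ∈ blk G v₀ m ∧ y ∈ blk G v₀ m)).card = 5 := by
  have h1 : (far G v₀).filter (fun m => x ∈ blk G v₀ m ∧ y ∈ blk G v₀ m)
      = (far G v₀).filter (fun m => G.Adj x.1 m ∧ G.Adj y.1 m) :=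
    Finset.filter_congr (fun m _ => by rw [mem_blk, mem_blk])
  rw [h1]
  exact card_far_filter_adj2 hG (adj_pt x) (adj_pt y) (fun h => hxy (Subtype.ext h))

def Bk (G : SimpleGraph V) [DecidableRel G.Adj] (v₀ : V) : Set (Finset (Pt G v₀)) :=
  blk G v₀ '' (far G v₀ : Set V)

noncomputable def toV (G : SimpleGraph V) [DecidableRel G.Adj] (v₀ : V) :
    Option (Pt G v₀ ⊕ ↥(Bk G v₀)) → V
  | none => v₀
  | some (Sum.inl x) => x.1
  | some (Sum.inr b) =>
      Classical.choose (show ∃ m, m ∈ far G v₀ ∧ blk G v₀ m = b.1 from b.2)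

theorem toV_spec (v₀ : V) (b : ↥(Bk G v₀)) :
    toV G v₀ (some (Sum.inr b)) ∈ far G v₀
      ∧ blk G v₀ (toV G v₀ (some (Sum.inr b))) = b.1 :=
  Classical.choose_spec (show ∃ m, m ∈ far G v₀ ∧ blk G v₀ m = b.1 from b.2)

theorem toV_inj (v₀ : V) : Function.Injective (toV G v₀) := by
  intro a b h
  rcases a with _ | (x | c) <;> rcases b with _ | (y | d)
  · rfl
  · exfalso
    have h1 := adj_pt y
    rw [show (y.1 : V) = v₀ from h.symm] at h1
    exact G.irrefl h1
  · exfalso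
    exact (mem_far.1 (toV_spec v₀ d).1).1 h.symm
  · exfalso
    have h1 := adj_pt x
    rw [show (x.1 : V) = v₀ from h] at h1
    exact G.irrefl h1
  · have : x = y := Subtype.ext h
    rw [this]
  · exfalso
    have h1 := adj_pt x
    rw [show (x.1 : V) = toV G v₀ (some (Sum.inr d)) from h] at h1
    exact (mem_far.1 (toV_spec v₀ d).1).2 h1
  · exfalso
    exact (mem_far.1 (toV_spec v₀ c).1).1 h
  · exfalso
    have h1 := adj_pt y
    rw [show (y.1 : V) = toV G v₀ (some (Sum.inr c)) from h.symm] at h1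
    exact (mem_far.1 (toV_spec v₀ c).1).2 h1
  · have : c = d := Subtype.ext ((toV_spec v₀ c).2.symm.trans
      ((congrArg (blk G v₀) h).trans (toV_spec v₀ d).2))
    rw [this]

theorem toV_surj (hG : G.IsSRGWith 100 22 0 6) (v₀ : V) : Function.Surjective (toV G v₀) := by
  intro v
  by_cases h1 : v = v₀
  · exact ⟨none, h1.symm⟩
  by_cases h2 : G.Adj v₀ v
  · exact ⟨some (Sum.inl ⟨v, by rw [SimpleGraph.mem_neighborFinset]; exact h2⟩), rfl⟩
  · have hv : v ∈ far G v₀ := mem_far.2 ⟨h1, h2⟩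
    have hb : blk G v₀ v ∈ Bk G v₀ := ⟨v, Finset.mem_coe.mpr hv, rfl⟩
    refine ⟨some (Sum.inr ⟨blk G v₀ v, hb⟩), ?_⟩
    have hs := toV_spec (G := G) v₀ ⟨blk G v₀ v, hb⟩
    exact blk_inj hG hs.1 hv hs.2

theorem adj_toV (hG : G.IsSRGWith 100 22 0 6) (v₀ : V)
    (a b : Option (Pt G v₀ ⊕ ↥(Bk G v₀))) :
    G.Adj (toV G v₀ a) (toV G v₀ b) ↔ (pointBlockGraph (Bk G v₀)).Adj a b := by
  rcases a with _ | (x | c) <;> rcases b with _ | (y | d)
  · exact ⟨fun h => absurd h G.irrefl,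
      fun h => absurd h Cfsg.Agent.Lib.Helper5.Steiner22Graph.adj_none_none⟩
  · exact ⟨fun _ => Cfsg.Agent.Lib.Helper5.Steiner22Graph.adj_none_pt y, fun _ => adj_pt y⟩
  · exact ⟨fun h => absurd h (mem_far.1 (toV_spec v₀ d).1).2,
      fun h => absurd h (Cfsg.Agent.Lib.Helper5.Steiner22Graph.adj_none_blk d)⟩
  · exact ⟨fun _ => Cfsg.Agent.Lib.Helper5.Steiner22Graph.adj_pt_none x,
      fun _ => (adj_pt x).symm⟩
  · exact ⟨fun h => absurd h (tf hG (adj_pt x) (adj_pt y)),
      fun h => absurd h (Cfsg.Agent.Lib.Helper5.Steiner22Graph.adj_pt_pt x y)⟩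
  · rw [Cfsg.Agent.Lib.Helper5.Steiner22Graph.adj_pt_blk]
    have hs := (toV_spec (G := G) v₀ d).2
    constructor
    · intro h
      rw [← hs]
      exact mem_blk.2 h
    · intro h
      rw [← hs] at h
      exact mem_blk.1 h
  · exact ⟨fun h => absurd h.symm (mem_far.1 (toV_spec v₀ c).1).2,
      fun h => absurd h (Cfsg.Agent.Lib.Helper5.Steiner22Graph.adj_blk_none c)⟩
  · rw [Cfsg.Agent.Lib.Helper5.Steiner22Graph.adj_blk_pt]
    have hs := (toV_spec (G := G) v₀ c).2
    constructor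
    · intro h
      rw [← hs]
      exact mem_blk.2 h.symm
    · intro h
      rw [← hs] at h
      exact (mem_blk.1 h).symm
  · rw [Cfsg.Agent.Lib.Helper5.Steiner22Graph.adj_blk_blk,
      adj_far_iff hG (toV_spec v₀ c).1 (toV_spec v₀ d).1, (toV_spec v₀ c).2, (toV_spec v₀ d).2]
    constructor
    · rintro ⟨h1, h2⟩
      exact ⟨fun h => h1 (by rw [h]), h2⟩
    · rintro ⟨h1, h2⟩
      refine ⟨fun h => h1 ?_, h2⟩
      exact Subtype.ext ((toV_spec v₀ c).2.symm.trans
        ((congrArg (blk G v₀) h).trans (toV_spec v₀ d).2))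

theorem exists_iso (hG : G.IsSRGWith 100 22 0 6) (v₀ : V) :
    ∃ B : Set (Finset (Pt G v₀)), IsSteinerSystem 3 6 B ∧
      Nonempty (pointBlockGraph B ≃g G) := by
  refine ⟨Bk G v₀, ?_,
    ⟨⟨Equiv.ofBijective (toV G v₀) ⟨toV_inj v₀, toV_surj hG v₀⟩, ?_⟩⟩⟩
  · have hα : Fintype.card (Pt G v₀) = 22 := by
      rw [Fintype.card_coe]
      exact card_nb hG v₀
    exact steiner_of_inter hα (far G v₀) (blk G v₀) (fun m hm => card_blk hG hm)
      (fun m hm w hw hne => blk_inter_le hG hm hw hne)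
      (fun x y hxy => card_blocks_pair hG x y hxy)
  · intro a b
    exact adj_toV hG v₀ a b

end Counting

section Transport

variable {α β : Type*} [DecidableEq α] [DecidableEq β]

def blockEquiv (e : α ≃ β) {B : Set (Finset α)} {B' : Set (Finset β)}
    (hmem : ∀ b : Finset α, b ∈ B ↔ b.image e ∈ B') : ↥B ≃ ↥B' where
  toFun b := ⟨b.1.image e, (hmem b.1).1 b.2⟩
  invFun c := ⟨c.1.image e.symm, (hmem _).2 (by
    rw [Finset.image_image, Equiv.self_comp_symm, Finset.image_id]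
    exact c.2)⟩
  left_inv b := Subtype.ext (by
    show (b.1.image e).image e.symm = b.1
    rw [Finset.image_image, Equiv.symm_comp_self, Finset.image_id])
  right_inv c := Subtype.ext (by
    show (c.1.image e.symm).image e = c.1
    rw [Finset.image_image, Equiv.self_comp_symm, Finset.image_id])

theorem pbg_iso {B : Set (Finset α)} {B' : Set (Finset β)} (h : SetSystemIso B B') :
    Nonempty (pointBlockGraph B ≃g pointBlockGraph B') := by
  obtain ⟨e, he⟩ := h
  have hmem : ∀ b : Finset α, b ∈ B ↔ b.image e ∈ B' := by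
    intro b
    constructor
    · intro hb
      rw [← he]
      exact ⟨b, hb, rfl⟩
    · intro hb
      rw [← he] at hb
      obtain ⟨c, hc, hcb⟩ := hb
      have : c = b := Finset.image_injective e.injective hcb
      rw [← this]
      exact hc
  refine ⟨⟨Equiv.optionCongr (Equiv.sumCongr e (blockEquiv e hmem)), ?_⟩⟩
  intro a b
  rcases a with _ | (x | c) <;> rcases b with _ | (y | d)
  · exact ⟨fun h => absurd h Cfsg.Agent.Lib.Helper5.Steiner22Graph.adj_none_none,
      fun h => absurd h Cfsg.Agent.Lib.Helper5.Steiner22Graph.adj_none_none⟩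
  · exact ⟨fun _ => Cfsg.Agent.Lib.Helper5.Steiner22Graph.adj_none_pt y,
      fun _ => Cfsg.Agent.Lib.Helper5.Steiner22Graph.adj_none_pt (e y)⟩
  · exact ⟨fun h => absurd h (Cfsg.Agent.Lib.Helper5.Steiner22Graph.adj_none_blk _),
      fun h => absurd h (Cfsg.Agent.Lib.Helper5.Steiner22Graph.adj_none_blk d)⟩
  · exact ⟨fun _ => Cfsg.Agent.Lib.Helper5.Steiner22Graph.adj_pt_none x,
      fun _ => Cfsg.Agent.Lib.Helper5.Steiner22Graph.adj_pt_none (e x)⟩
  · exact ⟨fun h => absurd h (Cfsg.Agent.Lib.Helper5.Steiner22Graph.adj_pt_pt _ _),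
      fun h => absurd h (Cfsg.Agent.Lib.Helper5.Steiner22Graph.adj_pt_pt x y)⟩
  · show (pointBlockGraph B').Adj (some (Sum.inl (e x)))
      (some (Sum.inr (blockEquiv e hmem d))) ↔ _
    rw [Cfsg.Agent.Lib.Helper5.Steiner22Graph.adj_pt_blk,
      Cfsg.Agent.Lib.Helper5.Steiner22Graph.adj_pt_blk]
    show e x ∈ d.1.image e ↔ x ∈ d.1
    exact e.injective.mem_finset_image
  · exact ⟨fun h => absurd h (Cfsg.Agent.Lib.Helper5.Steiner22Graph.adj_blk_none _),
      fun h => absurd h (Cfsg.Agent.Lib.Helper5.Steiner22Graph.adj_blk_none c)⟩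
  · show (pointBlockGraph B').Adj (some (Sum.inr (blockEquiv e hmem c)))
      (some (Sum.inl (e y))) ↔ _
    rw [Cfsg.Agent.Lib.Helper5.Steiner22Graph.adj_blk_pt,
      Cfsg.Agent.Lib.Helper5.Steiner22Graph.adj_blk_pt]
    show e y ∈ c.1.image e ↔ y ∈ c.1
    exact e.injective.mem_finset_image
  · show (pointBlockGraph B').Adj (some (Sum.inr (blockEquiv e hmem c)))
      (some (Sum.inr (blockEquiv e hmem d))) ↔ _
    rw [Cfsg.Agent.Lib.Helper5.Steiner22Graph.adj_blk_blk,
      Cfsg.Agent.Lib.Helper5.Steiner22Graph.adj_blk_blk,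
      (blockEquiv e hmem).injective.ne_iff]
    show _ ∧ Disjoint (c.1.image e) (d.1.image e) ↔ _
    rw [Finset.disjoint_image e.injective]

end Transport

theorem srg_unique {V W : Type*} [Fintype V] [Fintype W] {G : SimpleGraph V}
    {H : SimpleGraph W} [DecidableRel G.Adj] [DecidableRel H.Adj]
    (hG : G.IsSRGWith 100 22 0 6) (hH : H.IsSRGWith 100 22 0 6) : Nonempty (G ≃g H) := by
  classical
  have hV : Nonempty V := by
    apply Fintype.card_pos_iff.mp
    rw [hG.card]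
    norm_num
  have hW : Nonempty W := by
    apply Fintype.card_pos_iff.mp
    rw [hH.card]
    norm_num
  obtain ⟨v₀⟩ := hV
  obtain ⟨w₀⟩ := hW
  obtain ⟨B, hB, ⟨f⟩⟩ := exists_iso hG v₀
  obtain ⟨B', hB', ⟨g⟩⟩ := exists_iso hH w₀
  have h1 : Fintype.card (Pt G v₀) = 22 := by
    rw [Fintype.card_coe]
    exact card_nb hG v₀
  have h2 : Fintype.card (Pt H w₀) = 22 := by
    rw [Fintype.card_coe]
    exact card_nb hH w₀
  have hiso : SetSystemIso B B' := Cfsg.Agent.S0410.result h1 h2 hB hB'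
  obtain ⟨k⟩ := pbg_iso hiso
  exact ⟨f.symm.trans (k.trans g)⟩

end Cfsg.Agent.Lib.Helper2.Srg100
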