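import Mathlib
import Cfsg.Prelude.Def_Sporadic_a
import Cfsg.Prelude.Def_Sporadic
import Cfsg.Agent.Lib.Helper2.Srg100
import Cfsg.Agent.Lib.Helper2.AutTransport
import Cfsg.Agent.S0428

set_option autoImplicit false

/-! Automorphisms of the point-block graph of a set system. -/

namespace Cfsg.Agent.Lib.Helper2.Hs

open Finset Cfsg Cfsg.Agent.Lib.Helper5.Steiner22Graph

section Iso

variable {V : Type*} [Fintype V] [DecidableEq V] {G : SimpleGraph V} [DecidableRel G.Adj]

theorem bk_steiner (hG : G.IsSRGWith 100 22 0 6) (v₀ : V) :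
    IsSteinerSystem 3 6 (Srg100.Bk G v₀) := by
  have hα : Fintype.card (Srg100.Pt G v₀) = 22 := by
    rw [Fintype.card_coe]
    exact Srg100.card_nb hG v₀
  exact Srg100.steiner_of_inter hα (Srg100.far G v₀) (Srg100.blk G v₀)
    (fun m hm => Srg100.card_blk hG hm)
    (fun m hm w hw hne => Srg100.blk_inter_le hG hm hw hne)
    (fun x y hxy => Srg100.card_blocks_pair hG x y hxy)

noncomputable def isoV (hG : G.IsSRGWith 100 22 0 6) (v₀ : V) :
    pointBlockGraph (Srg100.Bk G v₀) ≃g G :=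
  ⟨Equiv.ofBijective (Srg100.toV G v₀) ⟨Srg100.toV_inj v₀, Srg100.toV_surj hG v₀⟩,
    fun {a b} => Srg100.adj_toV hG v₀ a b⟩

theorem isoV_none (hG : G.IsSRGWith 100 22 0 6) (v₀ : V) : isoV hG v₀ none = v₀ := rfl

end Iso

section Ext

variable {α β : Type*} [DecidableEq α] [DecidableEq β]

theorem mem_iff_of_image (e : α ≃ β) {B : Set (Finset α)} {B' : Set (Finset β)}
    (he : (fun b : Finset α => b.image e) '' B = B') :
    ∀ b : Finset α, b ∈ B ↔ b.image e ∈ B' := by
  intro b
  constructor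
  · intro hb
    rw [← he]
    exact ⟨b, hb, rfl⟩
  · intro hb
    rw [← he] at hb
    obtain ⟨c, hc, hcb⟩ := hb
    have : c = b := Finset.image_injective e.injective hcb
    rw [← this]
    exact hc

def extEquiv (e : α ≃ β) {B : Set (Finset α)} {B' : Set (Finset β)}
    (hmem : ∀ b : Finset α, b ∈ B ↔ b.image e ∈ B') :
    Option (α ⊕ ↥B) ≃ Option (β ⊕ ↥B') :=
  Equiv.optionCongr (Equiv.sumCongr e (Srg100.blockEquiv e hmem))

theorem extEquiv_adj (e : α ≃ β) {B : Set (Finset α)} {B' : Set (Finset β)}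
    (hmem : ∀ b : Finset α, b ∈ B ↔ b.image e ∈ B') (a b : Option (α ⊕ ↥B)) :
    (pointBlockGraph B').Adj (extEquiv e hmem a) (extEquiv e hmem b)
      ↔ (pointBlockGraph B).Adj a b := by
  rcases a with _ | (x | c) <;> rcases b with _ | (y | d)
  · exact ⟨fun h => absurd h adj_none_none, fun h => absurd h adj_none_none⟩
  · exact ⟨fun _ => adj_none_pt y, fun _ => adj_none_pt (e y)⟩
  · exact ⟨fun h => absurd h (adj_none_blk _), fun h => absurd h (adj_none_blk d)⟩
  · exact ⟨fun _ => adj_pt_none x, fun _ => adj_pt_none (e x)⟩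
  · exact ⟨fun h => absurd h (adj_pt_pt _ _), fun h => absurd h (adj_pt_pt x y)⟩
  · show (pointBlockGraph B').Adj (some (Sum.inl (e x)))
      (some (Sum.inr (Srg100.blockEquiv e hmem d))) ↔ _
    rw [adj_pt_blk, adj_pt_blk]
    show e x ∈ d.1.image e ↔ x ∈ d.1
    exact e.injective.mem_finset_image
  · exact ⟨fun h => absurd h (adj_blk_none _), fun h => absurd h (adj_blk_none c)⟩
  · show (pointBlockGraph B').Adj (some (Sum.inr (Srg100.blockEquiv e hmem c)))
      (some (Sum.inl (e y))) ↔ _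
    rw [adj_blk_pt, adj_blk_pt]
    show e y ∈ c.1.image e ↔ y ∈ c.1
    exact e.injective.mem_finset_image
  · show (pointBlockGraph B').Adj (some (Sum.inr (Srg100.blockEquiv e hmem c)))
      (some (Sum.inr (Srg100.blockEquiv e hmem d))) ↔ _
    rw [adj_blk_blk, adj_blk_blk, (Srg100.blockEquiv e hmem).injective.ne_iff]
    show _ ∧ Disjoint (c.1.image e) (d.1.image e) ↔ _
    rw [Finset.disjoint_image e.injective]

end Ext

section Aut

variable {α : Type*} [DecidableEq α]

def autP (B : Set (Finset α)) : Subgroup (Equiv.Perm (Option (α ⊕ ↥B))) where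
  carrier := {σ | ∀ a b, (pointBlockGraph B).Adj (σ a) (σ b) ↔ (pointBlockGraph B).Adj a b}
  mul_mem' := by
    intro σ τ hσ hτ a b
    exact (hσ (τ a) (τ b)).trans (hτ a b)
  one_mem' := fun a b => Iff.rfl
  inv_mem' := by
    intro σ hσ a b
    have h := hσ (σ⁻¹ a) (σ⁻¹ b)
    rw [show σ (σ⁻¹ a) = a by simp, show σ (σ⁻¹ b) = b by simp] at h
    exact h.symm

theorem mem_autP {B : Set (Finset α)} {σ : Equiv.Perm (Option (α ⊕ ↥B))} :
    σ ∈ autP B ↔ ∀ a b, (pointBlockGraph B).Adj (σ a) (σ b) ↔ (pointBlockGraph B).Adj a b :=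
  Iff.rfl

def psi (B : Set (Finset α)) : ↥(setSystemAut B) →* Equiv.Perm (Option (α ⊕ ↥B)) where
  toFun g := extEquiv g.1 (mem_iff_of_image g.1 ((AutTransport.mem_aut_iff' B g.1).1 g.2))
  map_one' := by
    apply Equiv.ext
    intro x
    rcases x with _ | (a | b)
    · rfl
    · rfl
    · refine congrArg (fun z => some (Sum.inr z)) (Subtype.ext ?_)
      show b.1.image (⇑(1 : Equiv.Perm α)) = b.1
      rw [Equiv.Perm.coe_one, Finset.image_id]
  map_mul' := by
    intro g h
    apply Equiv.ext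
    intro x
    rcases x with _ | (a | b)
    · rfl
    · rfl
    · refine congrArg (fun z => some (Sum.inr z)) (Subtype.ext ?_)
      show b.1.image (⇑(g.1 * h.1)) = (b.1.image ⇑h.1).image ⇑g.1
      rw [Finset.image_image, Equiv.Perm.coe_mul]

theorem psi_none (B : Set (Finset α)) (g : ↥(setSystemAut B)) : psi B g none = none := rfl

theorem psi_pt (B : Set (Finset α)) (g : ↥(setSystemAut B)) (a : α) :
    psi B g (some (Sum.inl a)) = some (Sum.inl (g.1 a)) := rfl

theorem psi_blk_coe (B : Set (Finset α)) (g : ↥(setSystemAut B)) (b : ↥B) :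
    ∃ b' : ↥B, psi B g (some (Sum.inr b)) = some (Sum.inr b') ∧ b'.1 = b.1.image g.1 :=
  ⟨_, rfl, rfl⟩

theorem psi_mem (B : Set (Finset α)) (g : ↥(setSystemAut B)) : psi B g ∈ autP B :=
  fun a b => extEquiv_adj g.1 _ a b

theorem psi_inj (B : Set (Finset α)) : Function.Injective (psi B) := by
  intro g h hgh
  apply Subtype.ext
  apply Equiv.ext
  intro a
  have h1 := congrArg (fun σ : Equiv.Perm (Option (α ⊕ ↥B)) => σ (some (Sum.inl a))) hgh
  exact Sum.inl_injective (Option.some_injective _ h1)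

theorem psi_surj [Finite α] {B : Set (Finset α)} (σ : Equiv.Perm (Option (α ⊕ ↥B)))
    (hσ : σ ∈ autP B) (h0 : σ none = none) : ∃ g : ↥(setSystemAut B), psi B g = σ := by
  have hpt : ∀ a : α, ∃ a', σ (some (Sum.inl a)) = some (Sum.inl a') := by
    intro a
    have hadj : (pointBlockGraph B).Adj (σ none) (σ (some (Sum.inl a))) :=
      (hσ _ _).2 (adj_none_pt a)
    rw [h0] at hadj
    rcases hx : σ (some (Sum.inl a)) with _ | (a' | b)
    · rw [hx] at hadj
      exact absurd hadj adj_none_none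
    · exact ⟨a', rfl⟩
    · rw [hx] at hadj
      exact absurd hadj (adj_none_blk b)
  choose g₀ hg₀ using hpt
  have hinj : Function.Injective g₀ := by
    intro a a' h
    have h1 := hg₀ a
    rw [h, ← hg₀ a'] at h1
    exact Sum.inl_injective (Option.some_injective _ (σ.injective h1))
  obtain ⟨g, hg⟩ : ∃ g : Equiv.Perm α, ∀ a, g a = g₀ a :=
    ⟨Equiv.ofBijective g₀ (Finite.injective_iff_bijective.mp hinj), fun a => rfl⟩
  have hblk : ∀ b : ↥B, ∃ b' : ↥B, σ (some (Sum.inr b)) = some (Sum.inr b') := by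
    intro b
    rcases hx : σ (some (Sum.inr b)) with _ | (a' | b')
    · exfalso
      have h1 := σ.injective (hx.trans h0.symm)
      exact Option.some_ne_none _ h1
    · exfalso
      obtain ⟨a'', rfl⟩ := g.surjective a'
      rw [hg, ← hg₀ a''] at hx
      have h1 := Option.some_injective _ (σ.injective hx)
      exact Sum.inr_ne_inl h1
    · exact ⟨b', rfl⟩
  choose β₀ hβ₀ using hblk
  have himg : ∀ b : ↥B, (β₀ b).1 = b.1.image g := by
    intro b
    ext x
    obtain ⟨a, rfl⟩ := g.surjective x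
    have h1 : (pointBlockGraph B).Adj (some (Sum.inl (g a))) (some (Sum.inr (β₀ b)))
        ↔ (pointBlockGraph B).Adj (some (Sum.inl a)) (some (Sum.inr b)) := by
      have h2 := hσ (some (Sum.inl a)) (some (Sum.inr b))
      rw [hg₀ a, hβ₀ b, ← hg a] at h2
      exact h2
    rw [adj_pt_blk, adj_pt_blk] at h1
    rw [g.injective.mem_finset_image]
    exact h1
  have hsub : (fun b : Finset α => b.image g) '' B ⊆ B := by
    rintro _ ⟨b, hb, rfl⟩
    have h1 := himg ⟨b, hb⟩
    show b.image g ∈ B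
    rw [← h1]
    exact (β₀ ⟨b, hb⟩).2
  have hgB : (fun b : Finset α => b.image g) '' B = B := by
    apply Set.eq_of_subset_of_ncard_le hsub _ (Set.toFinite B)
    rw [Set.ncard_image_of_injective _ (Finset.image_injective g.injective)]
  refine ⟨⟨g, (AutTransport.mem_aut_iff' B g).2 hgB⟩, Equiv.ext fun x => ?_⟩
  rcases x with _ | (a | b)
  · exact h0.symm
  · rw [hg₀ a, ← hg a]
    rfl
  · rw [hβ₀ b]
    refine congrArg (fun z => some (Sum.inr z)) (Subtype.ext ?_)
    exact (himg b).symm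

theorem autP_trans [Fintype α] (hα : Fintype.card α = 22) {B : Set (Finset α)}
    (hB : IsSteinerSystem 3 6 B) (x : Option (α ⊕ ↥B)) :
    ∃ σ ∈ autP B, σ none = x := by
  classical
  haveI : Fintype ↥B := Fintype.ofFinite _
  have hΓ : (pointBlockGraph B).IsSRGWith 100 22 0 6 := Cfsg.Agent.S0428.result hα hB
  have hst := bk_steiner hΓ x
  have hcard : Fintype.card (Srg100.Pt (pointBlockGraph B) x) = 22 := by
    rw [Fintype.card_coe]
    exact Srg100.card_nb hΓ x
  obtain ⟨e, he⟩ : SetSystemIso B (Srg100.Bk (pointBlockGraph B) x) :=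
    Cfsg.Agent.S0410.result hα hcard hB hst
  refine ⟨(extEquiv e (mem_iff_of_image e he)).trans (isoV hΓ x).toEquiv, ?_, ?_⟩
  · intro a b
    show (pointBlockGraph B).Adj (isoV hΓ x (extEquiv e (mem_iff_of_image e he) a))
      (isoV hΓ x (extEquiv e (mem_iff_of_image e he) b)) ↔ _
    rw [(isoV hΓ x).map_rel_iff]
    exact extEquiv_adj e _ a b
  · show isoV hΓ x (extEquiv e (mem_iff_of_image e he) none) = x
    exact isoV_none hΓ x

theorem aut_trans_blocks {B : Set (Finset α)} (hB : IsSteinerSystem 3 6 B)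
    (ht3 : MulAction.IsMultiplyPretransitive ↥(setSystemAut B) α 3) (b b' : Finset α)
    (hb : b ∈ B) (hb' : b' ∈ B) : ∃ g : ↥(setSystemAut B), b.image g.1 = b' := by
  have hemb : ∀ s : Finset α, s.card = 3 → ∃ x : Fin 3 ↪ α, ∀ a, a ∈ s ↔ ∃ i, x i = a := by
    intro s hs
    refine ⟨(s.equivFinOfCardEq hs).symm.toEmbedding.trans (Function.Embedding.subtype _), ?_⟩
    intro a
    constructor
    · intro ha
      refine ⟨s.equivFinOfCardEq hs ⟨a, ha⟩, ?_⟩
      simp
    · rintro ⟨i, rfl⟩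
      exact ((s.equivFinOfCardEq hs).symm i).2
  obtain ⟨s, hs, hs3⟩ := Finset.exists_subset_card_eq
    (show 3 ≤ b.card by rw [hB.1 b hb]; norm_num)
  obtain ⟨s', hs', hs3'⟩ := Finset.exists_subset_card_eq
    (show 3 ≤ b'.card by rw [hB.1 b' hb']; norm_num)
  obtain ⟨x, hx⟩ := hemb s hs3
  obtain ⟨y, hy⟩ := hemb s' hs3'
  rw [MulAction.isMultiplyPretransitive_iff] at ht3
  obtain ⟨g, hg⟩ := ht3 x y
  refine ⟨g, ?_⟩
  have hss : s.image g.1 = s' := by
    apply Finset.eq_of_subset_of_card_le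
    · intro z hz
      obtain ⟨a, ha, rfl⟩ := Finset.mem_image.mp hz
      obtain ⟨i, rfl⟩ := (hx a).1 ha
      rw [hy]
      refine ⟨i, ?_⟩
      rw [← hg]
      rfl
    · rw [Finset.card_image_of_injective _ g.1.injective, hs3, hs3']
  have hmem : b.image g.1 ∈ B := by
    have h1 := (AutTransport.mem_aut_iff' B g.1).1 g.2
    exact h1.subset ⟨b, hb, rfl⟩
  have hsub1 : s' ⊆ b.image g.1 := by
    rw [← hss]
    exact Finset.image_subset_image hs
  exact (hB.2 s' hs3').unique ⟨hmem, hsub1⟩ ⟨hb', hs'⟩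

end Aut

section Transport

variable {α : Type*} [DecidableEq α]

def toPermHom (B : Set (Finset α)) :
    (pointBlockGraph B ≃g pointBlockGraph B) →* Equiv.Perm (Option (α ⊕ ↥B)) where
  toFun f := f.toEquiv
  map_one' := rfl
  map_mul' := fun _ _ => rfl

theorem toPermHom_inj (B : Set (Finset α)) : Function.Injective (toPermHom B) := by
  intro f g h
  apply RelIso.ext
  intro x
  exact congrArg (fun σ : Equiv.Perm (Option (α ⊕ ↥B)) => σ x) h

theorem exists_subgroup_of_perm (B : Set (Finset α))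
    (H₀ : Subgroup (Equiv.Perm (Option (α ⊕ ↥B)))) (hle : H₀ ≤ autP B) :
    ∃ H : Subgroup (pointBlockGraph B ≃g pointBlockGraph B), Nonempty (↥H ≃* ↥H₀) := by
  refine ⟨H₀.comap (toPermHom B), ⟨?_⟩⟩
  have hmap : (H₀.comap (toPermHom B)).map (toPermHom B) = H₀ := by
    apply Subgroup.map_comap_eq_self
    intro σ hσ
    exact ⟨⟨σ, fun {a b} => hle hσ a b⟩, rfl⟩
  exact ((H₀.comap (toPermHom B)).equivMapOfInjective (toPermHom B) (toPermHom_inj B)).trans
    (MulEquiv.subgroupCongr hmap)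

def isoCongr {V W : Type*} {G : SimpleGraph V} {G' : SimpleGraph W} (k : G ≃g G') :
    (G ≃g G) ≃* (G' ≃g G') where
  toFun f := (k.symm.trans f).trans k
  invFun f := (k.trans f).trans k.symm
  left_inv f := by
    apply RelIso.ext
    intro x
    show k.symm (k (f (k.symm (k x)))) = f x
    rw [RelIso.symm_apply_apply, RelIso.symm_apply_apply]
  right_inv f := by
    apply RelIso.ext
    intro x
    show k (k.symm (f (k (k.symm x)))) = f x
    rw [RelIso.apply_symm_apply, RelIso.apply_symm_apply]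
  map_mul' f g := by
    apply RelIso.ext
    intro x
    show k (f (g (k.symm x))) = k (f (k.symm (k (g (k.symm x)))))
    rw [RelIso.symm_apply_apply]

theorem hs_transport {V W : Type*} {G : SimpleGraph V} {G' : SimpleGraph W} (k : G ≃g G')
    (h : ∃ H' : Subgroup (G' ≃g G'), IsHS H') : ∃ H : Subgroup (G ≃g G), IsHS H := by
  obtain ⟨H', hs, hc⟩ := h
  refine ⟨H'.map ((isoCongr k).symm : (G' ≃g G') →* (G ≃g G)), ?_, ?_⟩
  · haveI := hs
    exact ((isoCongr k).symm.subgroupMap H').symm.isSimpleGroup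
  · rw [← Nat.card_congr ((isoCongr k).symm.subgroupMap H').toEquiv, hc]

end Transport

end Cfsg.Agent.Lib.Helper2.Hs
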