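import Mathlib
import Cfsg.Prelude.Def_Sporadic_a
import Cfsg.Prelude.Def_Sporadic
import Cfsg.Agent.Lib.Helper2.Hs0
import Cfsg.Agent.Lib.Helper2.Hs1
import Cfsg.Agent.Lib.Helper2.Hs2
import Cfsg.Agent.S0414

set_option autoImplicit false

/-! The Higman-Sims group inside the automorphism group of the point-block graph. -/

namespace Cfsg.Agent.Lib.Helper2.Hs

open Finset Cfsg MulAction

theorem hs_of_odd {α : Type*} [Fintype α] [DecidableEq α] (hα : Fintype.card α = 22)
    {B : Set (Finset α)} (hB : IsSteinerSystem 3 6 B) [Fintype ↥B]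
    (u : ↥(setSystemAut B)) (hu : Equiv.Perm.sign (psi B u) = -1) :
    ∃ H : Subgroup (pointBlockGraph B ≃g pointBlockGraph B), IsHS H := by
  obtain ⟨hcardA, ht3, M, hMidx, hMsimple, hMcard⟩ := Cfsg.Agent.S0414.result hα hB
  haveI : DecidableRel (pointBlockGraph B).Adj := Classical.decRel _
  have hΓ : (pointBlockGraph B).IsSRGWith 100 22 0 6 := Cfsg.Agent.S0428.result hα hB
  have hXcard : Fintype.card (Option (α ⊕ ↥B)) = 100 := hΓ.card
  have hBcard : Fintype.card ↥B = 77 := by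
    rw [Fintype.card_option, Fintype.card_sum, hα] at hXcard
    omega
  have hsignM : ∀ m ∈ M, Equiv.Perm.sign (psi B m) = 1 := by
    obtain ⟨f, hf⟩ : ∃ f : ↥M →* ℤˣ, ∀ m : ↥M, f m = Equiv.Perm.sign (psi B m.1) :=
      ⟨(Equiv.Perm.sign).comp ((psi B).comp M.subtype), fun m => rfl⟩
    rcases hMsimple.eq_bot_or_eq_top_of_normal f.ker (MonoidHom.normal_ker f) with h | h
    · exfalso
      have hinj : Function.Injective f := (MonoidHom.ker_eq_bot_iff f).mp h
      have hle := Nat.card_le_card_of_injective f hinj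
      rw [hMcard, Nat.card_eq_fintype_card, Fintype.card_units_int] at hle
      omega
    · intro m hm
      have hmk : (⟨m, hm⟩ : ↥M) ∈ f.ker := by
        rw [h]
        exact Subgroup.mem_top _
      rw [MonoidHom.mem_ker, hf] at hmk
      exact hmk
  have huM : u ∉ M := by
    intro h
    have h1 := hsignM u h
    rw [hu] at h1
    exact absurd h1 (by decide)
  have hchar : ∀ σ : Equiv.Perm (Option (α ⊕ ↥B)),
      (σ ∈ autP B ∧ Equiv.Perm.sign σ = 1 ∧ σ none = none) ↔ ∃ m ∈ M, psi B m = σ := by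
    intro σ
    constructor
    · rintro ⟨h1, h2, h3⟩
      obtain ⟨g, rfl⟩ := psi_surj σ h1 h3
      refine ⟨g, ?_, rfl⟩
      by_contra hg
      have hmem : u⁻¹ * g ∈ M := by
        rw [Subgroup.mul_mem_iff_of_index_two hMidx]
        constructor
        · intro h
          exact absurd (M.inv_mem_iff.mp h) huM
        · intro h
          exact absurd h hg
      have h4 := hsignM _ hmem
      rw [map_mul, map_mul, map_inv, map_inv, hu, h2] at h4
      exact absurd h4 (by decide)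
    · rintro ⟨m, hm, rfl⟩
      exact ⟨psi_mem B m, hsignM m hm, psi_none B m⟩
  obtain ⟨H₀, hH₀⟩ : ∃ H₀ : Subgroup (Equiv.Perm (Option (α ⊕ ↥B))),
      H₀ = autP B ⊓ (Equiv.Perm.sign).ker := ⟨_, rfl⟩
  have hmemH : ∀ σ, σ ∈ H₀ ↔ σ ∈ autP B ∧ Equiv.Perm.sign σ = 1 := by
    intro σ
    rw [hH₀, Subgroup.mem_inf, MonoidHom.mem_ker]
  have htr : ∀ x, ∃ σ ∈ H₀, σ none = x := by
    intro x
    obtain ⟨σ, hσ, hx⟩ := autP_trans hα hB x
    rcases Int.units_eq_one_or (Equiv.Perm.sign σ) with h | h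
    · exact ⟨σ, (hmemH σ).2 ⟨hσ, h⟩, hx⟩
    · refine ⟨σ * psi B u, (hmemH _).2 ⟨(autP B).mul_mem hσ (psi_mem B u), ?_⟩, ?_⟩
      · rw [map_mul, h, hu]
        decide
      · rw [Equiv.Perm.mul_apply, psi_none, hx]
  have hMα : ∀ a a' : α, ∃ m ∈ M, m.1 a = a' := by
    haveI := ht3
    have h2 : IsMultiplyPretransitive ↥(setSystemAut B) α 2 :=
      isMultiplyPretransitive_of_le (n := 3) (by norm_num)
        (by rw [Nat.card_eq_fintype_card, hα]; norm_num)
    haveI hprim : IsPreprimitive ↥(setSystemAut B) α :=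
      isPreprimitive_of_is_two_pretransitive h2
    haveI : M.Normal := Subgroup.normal_of_index_eq_two hMidx
    have hfix : fixedPoints ↥M α ≠ Set.univ := by
      intro hfix
      obtain ⟨m, m', hne⟩ := hMsimple.toNontrivial.exists_pair_ne
      apply hne
      apply Subtype.ext
      apply Subtype.ext
      apply Equiv.ext
      intro a
      have h1 : a ∈ fixedPoints ↥M α := by
        rw [hfix]
        exact Set.mem_univ _
      rw [mem_fixedPoints] at h1
      exact (h1 m).trans (h1 m').symm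
    haveI := IsQuasiPreprimitive.isPretransitive_of_normal
      (G := ↥(setSystemAut B)) (X := α) hfix
    intro a a'
    obtain ⟨m, hm⟩ := exists_smul_eq ↥M a a'
    exact ⟨m.1, m.2, hm⟩
  have hinjA : Function.Injective (fun a : α => (some (Sum.inl a) : Option (α ⊕ ↥B))) :=
    fun a a' h => Sum.inl_injective (Option.some_injective _ h)
  have hinjB : Function.Injective (fun b : ↥B => (some (Sum.inr b) : Option (α ⊕ ↥B))) :=
    fun a a' h => Sum.inr_injective (Option.some_injective _ h)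
  have hMB : ∀ b b' : ↥B, ∃ m ∈ M, psi B m (some (Sum.inr b)) = some (Sum.inr b') := by
    letI : MulAction ↥(setSystemAut B) (Option (α ⊕ ↥B)) := MulAction.compHom _ (psi B)
    intro b b'
    have horb : orbit ↥(setSystemAut B) (some (Sum.inr b) : Option (α ⊕ ↥B))
        = Set.range (fun c : ↥B => (some (Sum.inr c) : Option (α ⊕ ↥B))) := by
      ext x
      constructor
      · rintro ⟨g, rfl⟩
        obtain ⟨c, hc, _⟩ := psi_blk_coe B g b
        exact ⟨c, hc.symm⟩
      · rintro ⟨c, rfl⟩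
        obtain ⟨g, hg⟩ := aut_trans_blocks hB ht3 b.1 c.1 b.2 c.2
        refine ⟨g, ?_⟩
        obtain ⟨c', hc', hc''⟩ := psi_blk_coe B g b
        show psi B g (some (Sum.inr b)) = some (Sum.inr c)
        rw [hc']
        refine congrArg (fun z => some (Sum.inr z)) (Subtype.ext ?_)
        rw [hc'', hg]
    have hodd : ¬ 2 ∣ (orbit ↥(setSystemAut B) (some (Sum.inr b) : Option (α ⊕ ↥B))).ncard := by
      rw [horb, ← Set.image_univ, Set.ncard_image_of_injective _ hinjB, Set.ncard_univ,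
        Nat.card_eq_fintype_card, hBcard]
      norm_num
    obtain ⟨m, hm, hmb⟩ := idx2_orbit M hMidx _ hodd (some (Sum.inr b'))
      (horb.symm.subset ⟨b', rfl⟩)
    exact ⟨m, hm, hmb⟩
  haveI : FaithfulSMul ↥H₀ (Option (α ⊕ ↥B)) :=
    ⟨fun {h₁ h₂} h => Subtype.ext (Equiv.ext h)⟩
  haveI : IsPretransitive ↥H₀ (Option (α ⊕ ↥B)) := by
    refine ⟨fun x y => ?_⟩
    obtain ⟨σx, hσx, hx⟩ := htr x
    obtain ⟨σy, hσy, hy⟩ := htr y
    refine ⟨⟨σy * σx⁻¹, H₀.mul_mem hσy (H₀.inv_mem hσx)⟩, ?_⟩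
    show σy (σx⁻¹ x) = y
    rw [← hx]
    simp [hy]
  have hstab : ∀ k : ↥H₀, k ∈ stabilizer ↥H₀ (none : Option (α ⊕ ↥B))
      ↔ ∃ m ∈ M, psi B m = k.1 := by
    intro k
    rw [mem_stabilizer_iff, ← hchar]
    have hk := (hmemH k.1).1 k.2
    constructor
    · intro h
      exact ⟨hk.1, hk.2, h⟩
    · intro h
      exact h.2.2
  have hR₀le : M.map (psi B) ≤ H₀ := by
    rintro _ ⟨m, hm, rfl⟩
    exact (hmemH _).2 ⟨psi_mem B m, hsignM m hm⟩
  have hstabEq : stabilizer ↥H₀ (none : Option (α ⊕ ↥B))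
      = (M.map (psi B)).subgroupOf H₀ := by
    ext k
    rw [hstab, Subgroup.mem_subgroupOf, Subgroup.mem_map]
  obtain ⟨E⟩ : Nonempty (↥(stabilizer ↥H₀ (none : Option (α ⊕ ↥B))) ≃* ↥M) :=
    ⟨(MulEquiv.subgroupCongr hstabEq).trans ((Subgroup.subgroupOfEquivOfLe hR₀le).trans
      (M.equivMapOfInjective (psi B) (psi_inj B)).symm)⟩
  have hSsimple : IsSimpleGroup ↥(stabilizer ↥H₀ (none : Option (α ⊕ ↥B))) := by
    haveI := hMsimple
    exact E.isSimpleGroup
  have hXcard' : Nat.card (Option (α ⊕ ↥B)) = 100 := by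
    rw [Nat.card_eq_fintype_card, hXcard]
  have hsimple : IsSimpleGroup ↥H₀ := by
    apply simple_of_rank3 hXcard' (none : Option (α ⊕ ↥B))
      (Set.range (fun a : α => (some (Sum.inl a) : Option (α ⊕ ↥B))))
      (Set.range (fun b : ↥B => (some (Sum.inr b) : Option (α ⊕ ↥B))))
    · rw [← Set.image_univ, Set.ncard_image_of_injective _ hinjA, Set.ncard_univ,
        Nat.card_eq_fintype_card, hα]
    · rw [← Set.image_univ, Set.ncard_image_of_injective _ hinjB, Set.ncard_univ,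
        Nat.card_eq_fintype_card, hBcard]
    · rintro ⟨a, h⟩
      exact Option.some_ne_none _ h
    · rintro ⟨b, h⟩
      exact Option.some_ne_none _ h
    · intro x
      rcases x with _ | (a | b)
      · exact Or.inl rfl
      · exact Or.inr (Or.inl ⟨a, rfl⟩)
      · exact Or.inr (Or.inr ⟨b, rfl⟩)
    · rintro _ ⟨a, rfl⟩ _ ⟨a', rfl⟩
      obtain ⟨m, hm, hma⟩ := hMα a a'
      have hk : psi B m ∈ H₀ := hR₀le ⟨m, hm, rfl⟩
      refine ⟨⟨psi B m, hk⟩, (hstab _).2 ⟨m, hm, rfl⟩, ?_⟩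
      show psi B m (some (Sum.inl a)) = some (Sum.inl a')
      rw [psi_pt, hma]
    · rintro _ ⟨b, rfl⟩ _ ⟨b', rfl⟩
      obtain ⟨m, hm, hmb⟩ := hMB b b'
      have hk : psi B m ∈ H₀ := hR₀le ⟨m, hm, rfl⟩
      exact ⟨⟨psi B m, hk⟩, (hstab _).2 ⟨m, hm, rfl⟩, hmb⟩
    · exact hSsimple
  have hcardH : Nat.card ↥H₀ = 44352000 := by
    have h1 := Subgroup.card_mul_index (stabilizer ↥H₀ (none : Option (α ⊕ ↥B)))
    rw [index_stabilizer_of_transitive, Nat.card_congr E.toEquiv, hMcard, hXcard'] at h1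
    omega
  obtain ⟨H, ⟨e⟩⟩ := exists_subgroup_of_perm B H₀ (by rw [hH₀]; exact inf_le_left)
  refine ⟨H, ?_, ?_⟩
  · haveI := hsimple
    exact e.isSimpleGroup
  · rw [Nat.card_congr e.toEquiv, hcardH]

theorem hs_model : ∃ H : Subgroup (pointBlockGraph Bm ≃g pointBlockGraph Bm), IsHS H := by
  haveI : Fintype ↥Bm := Fintype.ofFinite _
  have hu0 : tP ∈ setSystemAut Bm := (AutTransport.mem_aut_iff' Bm tP).2 tP_image
  apply hs_of_odd (by simp) model_steiner ⟨tP, hu0⟩
  have h1 : psi Bm ⟨tP, hu0⟩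
      = Equiv.optionCongr (Equiv.Perm.sumCongr tP (blkE.permCongr piP)) := by
    apply Equiv.ext
    intro x
    rcases x with _ | (a | b)
    · rfl
    · rfl
    · obtain ⟨i, rfl⟩ := blkE.surjective b
      refine congrArg (fun z => some (Sum.inr z)) (Subtype.ext ?_)
      show (blkE i).1.image tP = ((blkE.permCongr piP) (blkE i)).1
      rw [Equiv.permCongr_apply, Equiv.symm_apply_apply, blkE_coe, blkE_coe, image_hexF]
  rw [h1, Equiv.optionCongr_sign, Equiv.Perm.sign_sumCongr, Equiv.Perm.sign_permCongr,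
    sign_tP, sign_piP]
  decide

theorem hs_exists {α : Type*} [Fintype α] (hα : Fintype.card α = 22) {B : Set (Finset α)}
    (hB : IsSteinerSystem 3 6 B) :
    ∃ H : Subgroup (pointBlockGraph B ≃g pointBlockGraph B), IsHS H := by
  classical
  obtain ⟨e, he⟩ : SetSystemIso B Bm :=
    Cfsg.Agent.S0410.result hα (by simp) hB model_steiner
  have k : pointBlockGraph B ≃g pointBlockGraph Bm :=
    ⟨extEquiv e (mem_iff_of_image e he), fun {a b} => extEquiv_adj e _ a b⟩
  exact hs_transport k hs_model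

end Cfsg.Agent.Lib.Helper2.Hs
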