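import Mathlib
import Cfsg.Prelude.Def_Sporadic_a
import Cfsg.Prelude.Def_Sporadic
import Cfsg.Agent.Lib.Helper2.Hs2
import Cfsg.Agent.S0414

set_option autoImplicit false

/-! The order of the full automorphism group of the point-block graph of an S(3,6,22). -/

namespace Cfsg.Agent.Lib.Helper2.Hs

open Finset Cfsg MulAction

theorem card_aut {α : Type*} [Fintype α] [DecidableEq α] (hα : Fintype.card α = 22)
    {B : Set (Finset α)} (hB : IsSteinerSystem 3 6 B) :
    Nat.card (pointBlockGraph B ≃g pointBlockGraph B) = 88704000 := by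
  haveI : Fintype ↥B := Fintype.ofFinite _
  obtain ⟨hcardA, -, -⟩ := Cfsg.Agent.S0414.result hα hB
  haveI : DecidableRel (pointBlockGraph B).Adj := Classical.decRel _
  have hΓ : (pointBlockGraph B).IsSRGWith 100 22 0 6 := Cfsg.Agent.S0428.result hα hB
  have hXcard : Nat.card (Option (α ⊕ ↥B)) = 100 := by
    rw [Nat.card_eq_fintype_card]
    exact hΓ.card
  have e1 : Nat.card (pointBlockGraph B ≃g pointBlockGraph B) = Nat.card ↥(autP B) := by
    apply Nat.card_congr
    refine Equiv.ofBijective (fun f => ⟨toPermHom B f, fun a b => f.map_rel_iff⟩) ⟨?_, ?_⟩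
    · intro f g h
      exact toPermHom_inj B (congrArg Subtype.val h)
    · rintro ⟨σ, hσ⟩
      exact ⟨⟨σ, fun {a b} => hσ a b⟩, rfl⟩
  haveI : IsPretransitive ↥(autP B) (Option (α ⊕ ↥B)) := by
    refine ⟨fun x y => ?_⟩
    obtain ⟨σx, hσx, hx⟩ := autP_trans hα hB x
    obtain ⟨σy, hσy, hy⟩ := autP_trans hα hB y
    refine ⟨⟨σy * σx⁻¹, (autP B).mul_mem hσy ((autP B).inv_mem hσx)⟩, ?_⟩
    show σy (σx⁻¹ x) = y
    rw [← hx]
    simp [hy]
  have e2 : Nat.card ↥(stabilizer ↥(autP B) (none : Option (α ⊕ ↥B)))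
      = Nat.card ↥(setSystemAut B) := by
    symm
    apply Nat.card_congr
    have hmem : ∀ g : ↥(setSystemAut B), (⟨psi B g, psi_mem B g⟩ : ↥(autP B))
        ∈ stabilizer ↥(autP B) (none : Option (α ⊕ ↥B)) :=
      fun g => mem_stabilizer_iff.mpr (psi_none B g)
    refine Equiv.ofBijective (fun g => ⟨⟨psi B g, psi_mem B g⟩, hmem g⟩) ⟨?_, ?_⟩
    · intro g h hgh
      exact psi_inj B (congrArg (fun k => (k.1.1 : Equiv.Perm (Option (α ⊕ ↥B)))) hgh)
    · rintro ⟨⟨σ, hσ⟩, hs⟩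
      obtain ⟨g, hg⟩ := psi_surj σ hσ (mem_stabilizer_iff.mp hs)
      exact ⟨g, Subtype.ext (Subtype.ext hg)⟩
  have h1 := Subgroup.card_mul_index (stabilizer ↥(autP B) (none : Option (α ⊕ ↥B)))
  rw [index_stabilizer_of_transitive, e2, hcardA, hXcard] at h1
  rw [e1]
  omega

end Cfsg.Agent.Lib.Helper2.Hs
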