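import Mathlib
import Cfsg.Agent.Lib.Helper2.ImpA
set_option autoImplicit false
set_option maxHeartbeats 1000000
set_option linter.unusedVariables false
set_option linter.unusedSectionVars false
set_option linter.style.longLine false
set_option linter.unusedSimpArgs false
set_option linter.deprecated false
set_option linter.style.haveILetI false

/-! Imprimitive decompositions (part E): a monomial element of prime order `r` (with no
nontrivial `r`-th roots of unity in the field) has a fixed space of dimension at least `n / r`. -/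

namespace Cfsg.Agent.Lib.Helper2.Imp

open Module Cfsg.Agent.Lib.Helper2

universe u v

section Orbit

variable {F : Type u} [Field F] [Fintype F] {V : Type v} [AddCommGroup V] [Module F V]
  [FiniteDimensional F V]

theorem orbit_bound (y : Module.End F V) (r : ℕ) [hr : Fact r.Prime] (hrF : (r : F) ≠ 0)
    (hr1 : ¬ r ∣ Fintype.card F - 1) (hy : y ^ r = 1) {t : ℕ} (D : Fin t → Submodule F V)
    (hD1 : ∀ j, finrank F (D j) = 1) (hind : iSupIndep D) (htop : iSup D = ⊤)
    (σ : Equiv.Perm (Fin t)) (hσ : ∀ j, (D j).map y = D (σ j)) :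
    t ≤ r * finrank F (LinearMap.ker (y - 1)) := by
  classical
  have hrpos : 0 < r := hr.out.pos
  have hne : ∀ j, D j ≠ ⊥ := by
    intro j h
    have := hD1 j
    rw [h, finrank_bot] at this
    omega
  have hσr : ∀ j, (σ ^ r) j = j := sigma_pow_fix hind hne y r hy σ hσ
  have hσr1 : σ ^ r = 1 := Equiv.ext hσr
  have hex : ∀ j, ∃ v, v ∈ D j ∧ v ≠ 0 := fun j => Submodule.exists_mem_ne_zero_of_ne_bot (hne j)
  choose b hbD hb0 using hex
  have hspan1 : ∀ j, ∀ d ∈ D j, ∃ c : F, d = c • b j := by
    intro j d hd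
    have hnz : (⟨b j, hbD j⟩ : D j) ≠ 0 := by
      intro h
      exact hb0 j (congrArg Subtype.val h)
    obtain ⟨c, hc⟩ := (finrank_eq_one_iff_of_nonzero' (⟨b j, hbD j⟩ : D j) hnz).mp (hD1 j) ⟨d, hd⟩
    exact ⟨c, (congrArg Subtype.val hc).symm⟩
  have hyb : ∀ (i : ℕ) (j : Fin t), ∃ c : F, (y ^ i) (b j) = c • b ((σ ^ i) j) := by
    intro i j
    apply hspan1
    rw [← map_pow_perm' y D σ hσ i j]
    exact Submodule.mem_map_of_mem (hbD j)
  choose ν hν using hyb
  have hfixb : ∀ j, σ j = j → y (b j) = b j := by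
    intro j hj
    have h1 : y (b j) ∈ D j := by
      have : y (b j) ∈ (D j).map y := Submodule.mem_map_of_mem (hbD j)
      rwa [hσ, hj] at this
    obtain ⟨c, hc⟩ := hspan1 j _ h1
    have h2 : ∀ i : ℕ, (y ^ i) (b j) = c ^ i • b j := by
      intro i
      induction i with
      | zero => rw [pow_zero, pow_zero, Module.End.one_apply, one_smul]
      | succ i ih =>
        rw [pow_succ', Module.End.mul_apply, ih, map_smul, hc, smul_smul, pow_succ]
    have h3 := h2 r
    rw [hy, Module.End.one_apply] at h3
    have h4 : (c ^ r - 1) • b j = 0 := by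
      rw [sub_smul, one_smul, ← h3, sub_self]
    have h5 : c ^ r = 1 := by
      rcases smul_eq_zero.mp h4 with h | h
      · exact sub_eq_zero.mp h
      · exact absurd h (hb0 j)
    rw [hc, Elus.eq_one_of_pow r hr1 c h5, one_smul]
  have hli : LinearIndependent F b := hind.linearIndependent D hbD hb0
  have hsp : ⊤ ≤ Submodule.span F (Set.range b) := by
    rw [← htop]
    apply iSup_le
    intro j d hd
    obtain ⟨c, rfl⟩ := hspan1 j d hd
    exact Submodule.smul_mem _ _ (Submodule.subset_span ⟨j, rfl⟩)
  let B : Basis (Fin t) F V := Basis.mk hli hsp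
  have hBb : ∀ j, B j = b j := fun j => by
    simp only [B, Basis.mk_apply]
  have hcoord : ∀ j j', B.coord j' (b j) = if j = j' then 1 else 0 := by
    intro j j'
    rw [← hBb j, Basis.coord_apply, Basis.repr_self, Finsupp.single_apply]
  -- orbit representatives
  let orb : Fin t → Finset (Fin t) := fun j => Finset.image (fun i => (σ ^ i) j) (Finset.range r)
  have horb_ne : ∀ j, (orb j).Nonempty := fun j =>
    ⟨j, Finset.mem_image.mpr ⟨0, Finset.mem_range.mpr hrpos, by simp⟩⟩
  let rep : Fin t → Fin t := fun j => (orb j).min' (horb_ne j)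
  have hrep_mem : ∀ j, ∃ i, i < r ∧ rep j = (σ ^ i) j := by
    intro j
    have h1 := Finset.min'_mem (orb j) (horb_ne j)
    obtain ⟨i, hi, hi2⟩ := Finset.mem_image.mp h1
    exact ⟨i, Finset.mem_range.mp hi, hi2.symm⟩
  have horb_sub : ∀ j i, orb ((σ ^ i) j) ⊆ orb j := by
    intro j i x hx
    obtain ⟨i', hi', rfl⟩ := Finset.mem_image.mp hx
    apply Finset.mem_image.mpr
    refine ⟨(i' + i) % r, Finset.mem_range.mpr (Nat.mod_lt _ hrpos), ?_⟩
    show (σ ^ ((i' + i) % r)) j = (σ ^ i') ((σ ^ i) j)
    rw [← pow_eq_pow_mod _ hσr1, pow_add, Equiv.Perm.mul_apply]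
  have hrep_le : ∀ j i, rep j ≤ rep ((σ ^ i) j) := by
    intro j i
    exact Finset.min'_subset (horb_ne _) (horb_sub j i)
  have hrep_eq : ∀ j i, rep ((σ ^ i) j) = rep j := by
    intro j i
    apply le_antisymm _ (hrep_le j i)
    have h1 := hrep_le ((σ ^ i) j) ((r - 1) * i)
    have h2 : (σ ^ ((r - 1) * i)) ((σ ^ i) j) = j := by
      rw [← Equiv.Perm.mul_apply, ← pow_add]
      have h3 : (r - 1) * i + i = r * i := by
        have := Nat.succ_mul (r - 1) i
        rw [Nat.succ_eq_add_one, Nat.sub_add_cancel hrpos] at this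
        omega
      rw [h3, pow_mul, hσr1, one_pow]
      rfl
    rwa [h2] at h1
  have hrep_idem : ∀ j, rep (rep j) = rep j := by
    intro j
    obtain ⟨i, -, hi⟩ := hrep_mem j
    conv_lhs => rw [hi, hrep_eq]
  let S : Finset (Fin t) := Finset.univ.filter (fun s => rep s = s)
  have hS : ∀ s, s ∈ S ↔ rep s = s := fun s => by
    simp only [S, Finset.mem_filter, Finset.mem_univ, true_and]
  have hcardS : t ≤ S.card * r := by
    have h1 := Finset.card_le_card_of_surjOn (s := S ×ˢ Finset.range r)
      (t := (Finset.univ : Finset (Fin t))) (fun p : Fin t × ℕ => (σ ^ p.2) p.1) (by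
        intro j _
        obtain ⟨i, hi, hi2⟩ := hrep_mem j
        refine ⟨(rep j, (r - i) % r), ?_, ?_⟩
        · rw [Finset.mem_coe, Finset.mem_product]
          exact ⟨(hS _).mpr (hrep_idem j), Finset.mem_range.mpr (Nat.mod_lt _ hrpos)⟩
        · show (σ ^ ((r - i) % r)) (rep j) = j
          rw [← pow_eq_pow_mod _ hσr1, hi2, ← Equiv.Perm.mul_apply, ← pow_add,
            Nat.sub_add_cancel hi.le, hσr1]
          rfl)
    rw [Finset.card_univ, Fintype.card_fin, Finset.card_product, Finset.card_range] at h1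
    exact h1
  have hTapp : ∀ v, (∑ i ∈ Finset.range r, y ^ i) v = ∑ i ∈ Finset.range r, (y ^ i) v := by
    intro v
    rw [LinearMap.sum_apply]
  have hA : ∀ s ∈ S, ∀ s' ∈ S, s ≠ s' →
      B.coord s' ((∑ i ∈ Finset.range r, y ^ i) (b s)) = 0 := by
    intro s hs s' hs' hne'
    rw [hTapp, map_sum]
    apply Finset.sum_eq_zero
    intro i _
    rw [hν, map_smul, hcoord, if_neg, smul_zero]
    intro h
    apply hne'
    rw [← (hS s).mp hs, ← (hS s').mp hs', ← h, hrep_eq]
  have hBne : ∀ s ∈ S, B.coord s ((∑ i ∈ Finset.range r, y ^ i) (b s)) ≠ 0 := by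
    intro s hs
    by_cases hfix : σ s = s
    · have h1 : (∑ i ∈ Finset.range r, y ^ i) (b s) = (r : F) • b s := by
        rw [hTapp]
        have h2 : ∀ i : ℕ, (y ^ i) (b s) = b s := by
          intro i
          induction i with
          | zero => rw [pow_zero, Module.End.one_apply]
          | succ i ih => rw [pow_succ', Module.End.mul_apply, ih, hfixb s hfix]
        rw [Finset.sum_congr rfl (fun i _ => h2 i), Finset.sum_const, Finset.card_range,
          Nat.cast_smul_eq_nsmul]
      rw [h1, map_smul, hcoord, if_pos rfl, smul_eq_mul, mul_one]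
      exact hrF
    · rw [hTapp, map_sum, Finset.sum_eq_single 0]
      · rw [pow_zero, Module.End.one_apply, hcoord, if_pos rfl]
        exact one_ne_zero
      · intro i hi hi0
        rw [hν, map_smul, hcoord, if_neg, smul_zero]
        exact moved_pow' r σ s (hσr s) hfix i (Nat.pos_of_ne_zero hi0) (Finset.mem_range.mp hi)
      · intro h
        exact absurd (Finset.mem_range.mpr hrpos) h
  have hliS : LinearIndependent F (fun s : S => (∑ i ∈ Finset.range r, y ^ i) (b s)) := by
    rw [Fintype.linearIndependent_iff]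
    intro g hg s'
    have h1 := congrArg (B.coord s'.1) hg
    rw [map_sum, map_zero, Finset.sum_eq_single s'] at h1
    · rw [map_smul, smul_eq_mul] at h1
      rcases mul_eq_zero.mp h1 with h | h
      · exact h
      · exact absurd h (hBne s'.1 s'.2)
    · intro s _ hne'
      rw [map_smul, hA s.1 s.2 s'.1 s'.2 (fun h => hne' (Subtype.ext h)), smul_zero]
    · intro h
      exact absurd (Finset.mem_univ _) h
  have hfin := finrank_span_eq_card hliS
  rw [Fintype.card_coe] at hfin
  have hle : Submodule.span F (Set.range (fun s : S => (∑ i ∈ Finset.range r, y ^ i) (b s))) ≤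
      LinearMap.ker (y - 1) := by
    rw [Submodule.span_le]
    rintro _ ⟨s, rfl⟩
    exact geom_ker hy _
  have h2 := Submodule.finrank_mono hle
  rw [hfin] at h2
  calc t ≤ S.card * r := hcardS
    _ ≤ finrank F (LinearMap.ker (y - 1)) * r := Nat.mul_le_mul_right r h2
    _ = r * finrank F (LinearMap.ker (y - 1)) := mul_comm _ _

end Orbit

end Cfsg.Agent.Lib.Helper2.Imp
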