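import Mathlib
set_option autoImplicit false
universe u
namespace Cfsg.Agent.Lib.Helper2.InvolAct

open scoped Pointwise

variable {A : Type u} [Group A]

/-- an involutive automorphism of a finite group of odd order normalizes a Sylow `r`-subgroup -/
theorem exists_invariant_sylow [Finite A] (hodd : Odd (Nat.card A)) (σ : MulAut A)
    (hσ : ∀ a, σ (σ a) = a) (r : ℕ) [Fact r.Prime] :
    ∃ R : Sylow r A, ∀ x ∈ (R : Subgroup A), σ x ∈ (R : Subgroup A) := by
  classical
  haveI : Fact (Nat.Prime 2) := ⟨Nat.prime_two⟩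
  have hσ2 : σ ^ 2 = 1 := by
    apply MulEquiv.ext
    intro a
    rw [pow_two, MulAut.mul_apply, MulAut.one_apply]
    exact hσ a
  have hZ : IsPGroup 2 (Subgroup.zpowers σ) := by
    intro g
    refine ⟨1, ?_⟩
    obtain ⟨i, hi⟩ := Subgroup.mem_zpowers_iff.mp g.2
    apply Subtype.ext
    rw [pow_one, Subgroup.coe_pow, Subgroup.coe_one, ← hi, ← zpow_natCast, ← zpow_mul, mul_comm,
      zpow_mul, zpow_natCast, hσ2, one_zpow]
  have hcard : Odd (Nat.card (Sylow r A)) := by
    have R₀ : Sylow r A := default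
    have h1 : Nat.card (Sylow r A) ∣ Nat.card A :=
      dvd_trans (Sylow.card_dvd_index R₀) (Subgroup.index_dvd_card _)
    exact hodd.of_dvd_nat h1
  have hmod := hZ.card_modEq_card_fixedPoints (Sylow r A)
  have hne : Nat.card (MulAction.fixedPoints (Subgroup.zpowers σ) (Sylow r A)) ≠ 0 := by
    intro h0
    rw [h0] at hmod
    have h1 : Nat.card (Sylow r A) % 2 = 0 := hmod
    have h2 := Nat.odd_iff.mp hcard
    omega
  obtain ⟨⟨R, hR⟩⟩ := (Nat.card_ne_zero.mp hne).1
  have h1 : σ • R = R := hR ⟨σ, Subgroup.mem_zpowers σ⟩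
  refine ⟨R, ?_⟩
  intro x hx
  have h2 : σ • x ∈ σ • (R : Subgroup A) := Subgroup.smul_mem_pointwise_smul x σ _ hx
  rw [← Sylow.pointwise_smul_def, h1] at h2
  exact h2

/-- If every element inverted by an involutive automorphism `σ` of an odd-order group is a
`p`-element, then all inverted elements lie in one `p`-subgroup. -/
theorem exists_pgroup_contains_inverted [Finite A] (hodd : Odd (Nat.card A)) (σ : MulAut A)
    (hσ : ∀ a, σ (σ a) = a) (p : ℕ) [hp : Fact p.Prime]
    (hY : ∀ y : A, σ y = y⁻¹ → ∃ k : ℕ, orderOf y = p ^ k) :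
    ∃ P : Subgroup A, IsPGroup p P ∧ ∀ y : A, σ y = y⁻¹ → y ∈ P := by
  classical
  obtain ⟨C, hCmem⟩ : ∃ C : Subgroup A, ∀ a, a ∈ C ↔ σ a = a :=
    ⟨{ carrier := {a | σ a = a}
       mul_mem' := by
        intro a b ha hb
        simp only [Set.mem_ofPred_eq] at *
        rw [map_mul, ha, hb]
       one_mem' := by simp
       inv_mem' := by
        intro a ha
        simp only [Set.mem_ofPred_eq] at *
        rw [map_inv, ha] }, fun a => Iff.rfl⟩
  -- Sylow `q`-subgroups inside the fixed subgroup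
  have hA : ∀ q : ℕ, q.Prime → q ≠ p →
      ∃ Q : Subgroup A, Q ≤ C ∧ Nat.card Q = q ^ (Nat.card A).factorization q := by
    intro q hq hqp
    haveI : Fact q.Prime := ⟨hq⟩
    obtain ⟨Q, hQ⟩ := exists_invariant_sylow hodd σ hσ q
    refine ⟨Q, ?_, Sylow.card_eq_multiplicity Q⟩
    intro b hb
    rw [hCmem]
    have hy : σ (b⁻¹ * σ b) = (b⁻¹ * σ b)⁻¹ := by
      rw [map_mul, map_inv, hσ, mul_inv_rev, inv_inv]
    obtain ⟨k, hk⟩ := hY _ hy
    have hmem : b⁻¹ * σ b ∈ (Q : Subgroup A) := mul_mem (inv_mem hb) (hQ b hb)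
    obtain ⟨j, hj⟩ := (IsPGroup.iff_orderOf.mp Q.isPGroup') ⟨_, hmem⟩
    rw [Subgroup.orderOf_mk] at hj
    have h1 : b⁻¹ * σ b = 1 := by
      rw [← orderOf_eq_one_iff, hk]
      rcases Nat.eq_zero_or_pos k with h0 | hpos
      · rw [h0, pow_zero]
      · exfalso
        have h2 : p ∣ q ^ j := by
          rw [← hj, hk]; exact dvd_pow_self p hpos.ne'
        have h3 := hp.out.dvd_of_dvd_pow h2
        exact hqp ((Nat.prime_dvd_prime_iff_eq hp.out hq).mp h3).symm
    calc σ b = b * (b⁻¹ * σ b) := by group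
      _ = b := by rw [h1, mul_one]
  -- the index of the fixed subgroup is a power of `p`
  obtain ⟨e, he⟩ : ∃ e : ℕ, C.index = p ^ e := by
    have hne : C.index ≠ 0 := Subgroup.index_ne_zero_of_finite
    refine ⟨_, Nat.eq_prime_pow_of_unique_prime_dvd hne ?_⟩
    intro q hq hqd
    by_contra hqp
    obtain ⟨Q, hQC, hQcard⟩ := hA q hq hqp
    have h1 : q ^ (Nat.card A).factorization q ∣ Nat.card C := by
      rw [← hQcard]; exact Subgroup.card_dvd_of_le hQC
    have h2 : q ^ ((Nat.card A).factorization q + 1) ∣ Nat.card A := by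
      have h3 : q ^ ((Nat.card A).factorization q + 1) ∣ Nat.card C * C.index := by
        rw [pow_succ]; exact Nat.mul_dvd_mul h1 hqd
      rwa [Subgroup.card_mul_index] at h3
    exact Nat.pow_succ_factorization_not_dvd (Nat.card_pos.ne') hq h2
  obtain ⟨P, hP⟩ := exists_invariant_sylow hodd σ hσ p
  -- `A = P C`
  have hPC : ∀ a : A, ∃ x ∈ (P : Subgroup A), x⁻¹ * a ∈ C := by
    obtain ⟨S, hS⟩ : ∃ S : Subgroup (P : Subgroup A),
        S = MulAction.stabilizer (P : Subgroup A) ((1 : A) : A ⧸ C) := ⟨_, rfl⟩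
    have hstab : Nat.card S ∣ Nat.card C := by
      have hle : S.map (P : Subgroup A).subtype ≤ C := by
        rintro _ ⟨x, hx, rfl⟩
        rw [SetLike.mem_coe, hS, MulAction.mem_stabilizer_iff] at hx
        have h1 : (((x : A) * 1 : A) : A ⧸ C) = ((1 : A) : A ⧸ C) := hx
        rw [QuotientGroup.eq] at h1
        have h2 : (x : A)⁻¹ ∈ C := by simpa using h1
        simpa using inv_mem h2
      have hcard : Nat.card (S.map (P : Subgroup A).subtype) = Nat.card S :=
        Subgroup.card_map_of_injective (Subgroup.subtype_injective _)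
      rw [← hcard]
      exact Subgroup.card_dvd_of_le hle
    have hidx : S.index = (MulAction.orbit (P : Subgroup A) ((1 : A) : A ⧸ C)).ncard := by
      rw [hS]; exact MulAction.index_stabilizer _ _
    have hmul : Nat.card S * S.index = Nat.card (P : Subgroup A) := Subgroup.card_mul_index S
    have hPcard : Nat.card (P : Subgroup A) = p ^ (Nat.card A).factorization p :=
      Sylow.card_eq_multiplicity P
    have hQcard : Nat.card (A ⧸ C) = p ^ e := by rw [← he]; rfl
    obtain ⟨i, -, hi⟩ : ∃ i ≤ (Nat.card A).factorization p, S.index = p ^ i := by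
      apply (Nat.dvd_prime_pow hp.out).mp
      rw [← hPcard, ← hmul]
      exact Dvd.intro_left _ rfl
    have hie : e ≤ i := by
      by_contra hlt
      rw [not_le] at hlt
      have h1 : p ^ (i + 1) ∣ C.index := by
        rw [he]; exact pow_dvd_pow p hlt
      have h2 : p ^ ((Nat.card A).factorization p + 1) ∣ Nat.card A := by
        have h3 : p ^ ((Nat.card A).factorization p + 1) ∣ Nat.card C * C.index := by
          rw [pow_succ, ← hPcard, ← hmul, hi, mul_assoc, ← pow_succ]
          exact Nat.mul_dvd_mul hstab h1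
        rwa [Subgroup.card_mul_index] at h3
      exact Nat.pow_succ_factorization_not_dvd (Nat.card_pos.ne') hp.out h2
    have horb : MulAction.orbit (P : Subgroup A) ((1 : A) : A ⧸ C) = Set.univ := by
      rw [Set.eq_univ_iff_ncard]
      apply le_antisymm (Set.ncard_le_card _)
      rw [← hidx, hi, hQcard]
      exact Nat.pow_le_pow_right hp.out.pos hie
    intro a
    have hmem : ((a : A) : A ⧸ C) ∈ MulAction.orbit (P : Subgroup A) ((1 : A) : A ⧸ C) := by
      rw [horb]; exact Set.mem_univ _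
    obtain ⟨x, hx⟩ := hmem
    have h1 : (((x : A) * 1 : A) : A ⧸ C) = ((a : A) : A ⧸ C) := hx
    rw [QuotientGroup.eq] at h1
    refine ⟨(x : A), x.2, ?_⟩
    simpa using h1
  refine ⟨(P : Subgroup A), P.isPGroup', ?_⟩
  intro y hy
  have hmodd : Odd (orderOf y) := hodd.of_dvd_nat (orderOf_dvd_natCard y)
  obtain ⟨t, ht⟩ := hmodd
  obtain ⟨z, hz⟩ : ∃ z : A, z = y ^ (t + 1) := ⟨_, rfl⟩
  have hzinv : σ z = z⁻¹ := by rw [hz, map_pow, hy, inv_pow]
  have hzz : z * z = y := by
    rw [hz, ← pow_add]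
    have : t + 1 + (t + 1) = orderOf y + 1 := by omega
    rw [this, pow_succ, pow_orderOf_eq_one, one_mul]
  obtain ⟨x, hx, hc⟩ := hPC z
  rw [hCmem] at hc
  have h3 : (σ x)⁻¹ * z⁻¹ = x⁻¹ * z := by
    rw [← hzinv, ← map_inv, ← map_mul]; exact hc
  have h4 : y = x * (σ x)⁻¹ := by
    calc y = z * z := hzz.symm
      _ = x * (x⁻¹ * z) * z := by group
      _ = x * ((σ x)⁻¹ * z⁻¹) * z := by rw [h3]
      _ = x * (σ x)⁻¹ := by group
  rw [h4]
  exact mul_mem hx (inv_mem (hP x hx))

end Cfsg.Agent.Lib.Helper2.InvolAct
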