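import Mathlib

/-!
# Irreducible action of an element of prime order on an elementary abelian group
-/


set_option autoImplicit false

namespace Cfsg.Agent.Lib.Helper2

open Polynomial in
/-- In a finite commutative domain in which every element satisfies `r ^ n = r` (`1 < n`),
there are at most `n` elements. -/
theorem card_le_of_forall_pow_eq {R : Type*} [CommRing R] [IsDomain R] [Finite R] (n : ℕ)
    (hn : 1 < n) (h : ∀ r : R, r ^ n = r) : Nat.card R ≤ n := by
  classical
  haveI : Fintype R := Fintype.ofFinite R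
  have h1 : (X : R[X]).degree < (X ^ n : R[X]).degree := by
    rw [degree_X_pow, degree_X]
    exact mod_cast hn
  have hdeg : (X ^ n - X : R[X]).natDegree = n := by
    rw [natDegree_eq_of_degree_eq (degree_sub_eq_left_of_degree_lt h1), natDegree_X_pow]
  have hne : (X ^ n - X : R[X]) ≠ 0 := by
    apply ne_zero_of_natDegree_gt (n := 1)
    rw [hdeg]; exact hn
  have hroots : ∀ r : R, r ∈ (X ^ n - X : R[X]).roots := by
    intro r
    rw [mem_roots hne, IsRoot.def, eval_sub, eval_pow, eval_X, h r, sub_self]
  calc Nat.card R = Fintype.card R := Nat.card_eq_fintype_card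
    _ = (Finset.univ : Finset R).card := Finset.card_univ.symm
    _ ≤ (X ^ n - X : R[X]).roots.toFinset.card := by
        apply Finset.card_le_card
        intro r _
        exact Multiset.mem_toFinset.2 (hroots r)
    _ ≤ Multiset.card (X ^ n - X : R[X]).roots := Multiset.toFinset_card_le _
    _ ≤ (X ^ n - X : R[X]).natDegree := card_roots' _
    _ = n := hdeg

end Cfsg.Agent.Lib.Helper2

namespace Cfsg.Agent.Lib.Helper2

section
variable {V : Type*} [AddCommGroup V]

/-- an endomorphism commuting with `φ` is zero or injective. -/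
theorem injective_of_commute_of_irreducible (φ r : AddMonoid.End V)
    (hirr : ∀ W : AddSubgroup V, (∀ w ∈ W, φ w ∈ W) → W = ⊥ ∨ W = ⊤)
    (hcomm : r * φ = φ * r) (hr : r ≠ 0) : Function.Injective r := by
  let K : AddSubgroup V :=
    { carrier := {v | r v = 0}
      zero_mem' := map_zero r
      add_mem' := fun {a b} ha hb => by
        show r (a + b) = 0
        rw [map_add, ha, hb, add_zero]
      neg_mem' := fun {a} ha => by
        show r (-a) = 0
        rw [map_neg, ha, neg_zero] }
  have hker : ∀ w ∈ K, φ w ∈ K := by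
    intro w hw
    have hw' : r w = 0 := hw
    show r (φ w) = 0
    have : r (φ w) = φ (r w) := DFunLike.congr_fun hcomm w
    rw [this, hw', map_zero]
  rcases hirr _ hker with h | h
  · rw [injective_iff_map_eq_zero]
    intro a ha
    have : a ∈ K := ha
    rw [h] at this
    exact this
  · exfalso
    apply hr
    ext v
    have : v ∈ K := by rw [h]; trivial
    exact this

end

end Cfsg.Agent.Lib.Helper2

namespace Cfsg.Agent.Lib.Helper2

theorem card_eq_pow_orderOf_of_irreducible {V : Type*} [AddCommGroup V] [Finite V] {p q : ℕ}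
    (hp : p.Prime) (hq : q.Prime) (hpq : p ≠ q) (hqV : ∀ v : V, q • v = 0)
    (φ : AddMonoid.End V) (hφp : φ ^ p = 1) (hφ1 : φ ≠ 1)
    (hirr : ∀ W : AddSubgroup V, (∀ w ∈ W, φ w ∈ W) → W = ⊥ ∨ W = ⊤) :
    Nat.card V = q ^ orderOf (q : ZMod p) := by
  classical
  haveI : Fact q.Prime := ⟨hq⟩
  haveI : Fact p.Prime := ⟨hp⟩
  haveI : Fintype V := Fintype.ofFinite V
  set e := orderOf (q : ZMod p) with he
  have hqp : (q : ZMod p) ≠ 0 := by
    intro h
    rw [ZMod.natCast_eq_zero_iff] at h
    exact hpq ((Nat.prime_dvd_prime_iff_eq hp hq).1 h)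
  have he0 : 0 < e := by
    have h1 : e ∣ p - 1 := orderOf_dvd_of_pow_eq_one (ZMod.pow_card_sub_one_eq_one hqp)
    have h2 : 0 < p - 1 := by have := hp.two_le; omega
    exact Nat.pos_of_dvd_of_pos h1 h2
  have hqe1 : 1 < q ^ e := Nat.one_lt_pow he0.ne' hq.one_lt
  -- q^e ≡ 1 mod p
  obtain ⟨k, hk⟩ : ∃ k, q ^ e = 1 + p * k := by
    have h1 : ((q ^ e - 1 : ℕ) : ZMod p) = 0 := by
      rw [Nat.cast_sub hqe1.le, Nat.cast_pow, he, pow_orderOf_eq_one, Nat.cast_one, sub_self]
    rw [ZMod.natCast_eq_zero_iff] at h1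
    obtain ⟨k, hk⟩ := h1
    exact ⟨k, by omega⟩
  have hφq : φ ^ (q ^ e) = φ := by
    rw [hk, pow_add, pow_one, pow_mul, hφp, one_pow, mul_one]
  -- nontriviality
  have h01 : (0 : AddMonoid.End V) ≠ 1 := by
    intro h
    apply hφ1
    rw [← mul_one φ, ← h, mul_zero]
  obtain ⟨v, hv⟩ : ∃ v : V, v ≠ 0 := by
    by_contra hcon
    push Not at hcon
    apply h01
    ext v
    rw [hcon v, map_zero, map_zero]
  -- the ring
  let R : Subring (AddMonoid.End V) := Subring.closure {φ}
  letI : CommRing R := Subring.closureCommRingOfComm (by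
    intro x hx y hy
    rw [Set.mem_singleton_iff] at hx hy
    rw [hx, hy])
  let φ' : R := ⟨φ, Subring.subset_closure rfl⟩
  have hcomm : ∀ r : R, (r : AddMonoid.End V) * φ = φ * (r : AddMonoid.End V) := fun r => by
    have := mul_comm r φ'
    exact congrArg Subtype.val this
  have hinj : ∀ r : R, r ≠ 0 → Function.Injective (r : AddMonoid.End V) := fun r hr =>
    injective_of_commute_of_irreducible φ r hirr (hcomm r)
      (by intro h; apply hr; exact Subtype.ext h)
  haveI : Nontrivial R := ⟨⟨0, 1, by
    intro h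
    exact h01 (congrArg Subtype.val h)⟩⟩
  haveI : NoZeroDivisors R := ⟨by
    intro a b hab
    by_contra hcon
    push Not at hcon
    apply hcon.2
    apply Subtype.ext
    ext w
    have h1 : (a : AddMonoid.End V) ((b : AddMonoid.End V) w) = 0 := by
      have := congrArg Subtype.val hab
      exact DFunLike.congr_fun this w
    have h2 : (b : AddMonoid.End V) w = 0 := hinj a hcon.1 (by rw [h1, map_zero])
    exact h2⟩
  haveI : IsDomain R := NoZeroDivisors.to_isDomain R
  haveI : CharP R q := by
    rw [CharP.charP_iff_prime_eq_zero hq]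
    apply Subtype.ext
    ext w
    show ((q : R) : AddMonoid.End V) w = 0
    rw [Subring.coe_natCast, AddMonoid.End.natCast_apply]
    exact hqV w
  have hfrob : ∀ r : R, r ^ (q ^ e) = r := by
    rintro ⟨r, hr⟩
    induction hr using Subring.closure_induction with
    | mem x hx =>
      rw [Set.mem_singleton_iff] at hx
      subst hx
      apply Subtype.ext
      exact hφq
    | zero =>
      exact zero_pow (by omega)
    | one => exact one_pow _
    | add x y hx hy ihx ihy =>
      show ((⟨x, hx⟩ + ⟨y, hy⟩ : R)) ^ (q ^ e) = ⟨x, hx⟩ + ⟨y, hy⟩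
      rw [add_pow_char_pow, ihx, ihy]
    | neg x hx ihx =>
      show ((- ⟨x, hx⟩ : R)) ^ (q ^ e) = - ⟨x, hx⟩
      have := sub_pow_char_pow (R := R) (p := q) (n := e) (x := 0) (y := ⟨x, hx⟩)
      rw [zero_sub, zero_pow (by omega), zero_sub, ihx] at this
      exact this
    | mul x y hx hy ihx ihy =>
      show ((⟨x, hx⟩ * ⟨y, hy⟩ : R)) ^ (q ^ e) = ⟨x, hx⟩ * ⟨y, hy⟩
      rw [mul_pow, ihx, ihy]
  haveI : Finite (AddMonoid.End V) := by
    show Finite (V →+ V)
    exact Finite.of_injective (fun f : V →+ V => (f : V → V)) DFunLike.coe_injective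
  have hRcard : Nat.card R ≤ q ^ e := card_le_of_forall_pow_eq (q ^ e) hqe1 hfrob
  -- |V| ≤ |R|
  have hVR : Nat.card V ≤ Nat.card R := by
    let W : AddSubgroup V :=
      { carrier := {w | ∃ r : R, (r : AddMonoid.End V) v = w}
        zero_mem' := ⟨0, by simp⟩
        add_mem' := by
          rintro a b ⟨r, rfl⟩ ⟨s, rfl⟩
          exact ⟨r + s, rfl⟩
        neg_mem' := by
          rintro a ⟨r, rfl⟩
          exact ⟨-r, rfl⟩ }
    have hW : ∀ w ∈ W, φ w ∈ W := by
      rintro w ⟨r, rfl⟩
      exact ⟨φ' * r, rfl⟩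
    have hvW : v ∈ W := ⟨1, rfl⟩
    have hWtop : W = ⊤ := by
      rcases hirr W hW with h | h
      · rw [h] at hvW
        exact absurd hvW hv
      · exact h
    apply Nat.card_le_card_of_surjective (fun r : R => (r : AddMonoid.End V) v)
    intro w
    have : w ∈ W := by rw [hWtop]; trivial
    exact this
  -- |V| = q^d
  obtain ⟨d, hd⟩ : ∃ d, Nat.card V = q ^ d := by
    have : IsPGroup q (Multiplicative V) := by
      intro g
      refine ⟨1, ?_⟩
      rw [pow_one]
      exact congrArg Multiplicative.ofAdd (hqV (Multiplicative.toAdd g))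
    obtain ⟨d, hd⟩ := IsPGroup.iff_card.1 this
    exact ⟨d, (Nat.card_congr (Multiplicative.ofAdd (α := V))).trans hd⟩
  -- fixed points
  have hmod : Nat.card V ≡ 1 [MOD p] := by
    let f : Function.End V := fun w => φ w
    have hfpow : ∀ n : ℕ, ∀ w, (f ^ n) w = (φ ^ n) w := by
      intro n
      induction n with
      | zero => intro w; rfl
      | succ n ih =>
        intro w
        rw [pow_succ, pow_succ]
        show (f ^ n) (f w) = (φ ^ n) (φ w)
        rw [ih]
    have hf : f ^ p ^ 1 = 1 := by
      rw [pow_one]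
      funext w
      rw [hfpow, hφp]; rfl
    have h1 := Equiv.Perm.card_fixedPoints_modEq (f := f) (p := p) (n := 1) hf
    have h2 : Fintype.card (Function.fixedPoints f) = 1 := by
      rw [Fintype.card_eq_one_iff]
      refine ⟨⟨0, map_zero φ⟩, ?_⟩
      rintro ⟨w, hw⟩
      apply Subtype.ext
      show w = 0
      -- fixed points form an invariant subgroup
      let F : AddSubgroup V :=
        { carrier := {w | φ w = w}
          zero_mem' := map_zero φ
          add_mem' := fun {a b} ha hb => by
            show φ (a + b) = a + b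
            rw [map_add, ha, hb]
          neg_mem' := fun {a} ha => by
            show φ (-a) = -a
            rw [map_neg, ha] }
      have hF : ∀ w ∈ F, φ w ∈ F := by
        intro w hw
        have hw' : φ w = w := hw
        show φ (φ w) = φ w
        exact congrArg φ hw'
      rcases hirr F hF with h | h
      · have : w ∈ F := hw
        rw [h] at this
        exact this
      · exfalso
        apply hφ1
        ext u
        have : u ∈ F := by rw [h]; trivial
        exact this
    rw [h2, ← Nat.card_eq_fintype_card] at h1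
    exact h1
  have hed : e ∣ d := by
    rw [he]
    apply orderOf_dvd_of_pow_eq_one
    have h1 : ((q ^ d : ℕ) : ZMod p) = ((1 : ℕ) : ZMod p) := by
      rw [ZMod.natCast_eq_natCast_iff, ← hd]
      exact hmod
    rw [Nat.cast_pow, Nat.cast_one] at h1
    exact h1
  have hd0 : 0 < d := by
    by_contra h0
    have : d = 0 := by omega
    rw [this, pow_zero] at hd
    haveI : Subsingleton V := (Nat.card_eq_one_iff_unique.1 hd).1
    exact hv (Subsingleton.elim v 0)
  have hde : d ≤ e := by
    have : q ^ d ≤ q ^ e := by rw [← hd]; exact hVR.trans hRcard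
    exact (Nat.pow_le_pow_iff_right hq.one_lt).1 this
  have : d = e := le_antisymm hde (Nat.le_of_dvd hd0 hed)
  rw [hd, this]

end Cfsg.Agent.Lib.Helper2

namespace Cfsg.Agent.Lib.Helper2

/-- An element `x` with `x ^ p = 1` acting by conjugation irreducibly and nontrivially on an
elementary abelian `q`-subgroup `A`: then `|A| = q ^ e` with `e` the order of `q` mod `p`. -/
theorem card_eq_pow_orderOf_of_irreducible_conj {G : Type*} [Group G] [Finite G] {p q : ℕ}
    (hp : p.Prime) (hq : q.Prime) (hpq : p ≠ q) (A : Subgroup G)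
    (hAcomm : ∀ a ∈ A, ∀ b ∈ A, a * b = b * a) (hAq : ∀ a ∈ A, a ^ q = 1)
    (x : G) (hxA : ∀ a ∈ A, x * a * x⁻¹ ∈ A) (hxp : x ^ p = 1)
    (hxC : ∃ a ∈ A, x * a * x⁻¹ ≠ a)
    (hirr : ∀ B : Subgroup G, B ≤ A → (∀ b ∈ B, x * b * x⁻¹ ∈ B) → B = ⊥ ∨ B = A) :
    Nat.card A = q ^ orderOf (q : ZMod p) := by
  letI : CommGroup A := { (inferInstance : Group A) with
    mul_comm := fun a b => Subtype.ext (hAcomm a a.2 b b.2) }
  let c : A →* A :=
    { toFun := fun a => ⟨x * a * x⁻¹, hxA a a.2⟩
      map_one' := by
        apply Subtype.ext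
        simp
      map_mul' := by
        intro a b
        apply Subtype.ext
        simp }
  let φ : AddMonoid.End (Additive A) := MonoidHom.toAdditive c
  have hφapp : ∀ a : Additive A, ((φ a).toMul : G) = x * (a.toMul : G) * x⁻¹ := fun a => rfl
  have hφpow : ∀ n : ℕ, ∀ a : Additive A,
      (((φ ^ n) a).toMul : G) = x ^ n * (a.toMul : G) * (x ^ n)⁻¹ := by
    intro n
    induction n with
    | zero => intro a; simp
    | succ n ih =>
      intro a
      rw [pow_succ']
      show ((φ ((φ ^ n) a)).toMul : G) = _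
      rw [hφapp, ih, pow_succ']
      group
  have hcard : Nat.card A = Nat.card (Additive A) := Nat.card_congr Additive.ofMul
  rw [hcard]
  apply card_eq_pow_orderOf_of_irreducible hp hq hpq _ φ
  · refine DFunLike.ext _ _ (fun a => ?_)
    have h1 : (((φ ^ p) a).toMul : G) = ((a.toMul : A) : G) := by
      rw [hφpow, hxp]
      simp
    have h2 : ((φ ^ p) a).toMul = a.toMul := Subtype.ext h1
    exact Additive.toMul.injective h2
  · obtain ⟨a, ha, hne⟩ := hxC
    intro h
    apply hne
    have := hφapp (Additive.ofMul ⟨a, ha⟩)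
    rw [h] at this
    exact this.symm
  · intro W hW
    let B : Subgroup G :=
      { carrier := {g | ∃ h : g ∈ A, Additive.ofMul (⟨g, h⟩ : A) ∈ W}
        one_mem' := ⟨A.one_mem, W.zero_mem⟩
        mul_mem' := by
          rintro a b ⟨ha, ha'⟩ ⟨hb, hb'⟩
          exact ⟨A.mul_mem ha hb, W.add_mem ha' hb'⟩
        inv_mem' := by
          rintro a ⟨ha, ha'⟩
          exact ⟨A.inv_mem ha, W.neg_mem ha'⟩ }
    have hBA : B ≤ A := fun g hg => hg.1
    have hBx : ∀ b ∈ B, x * b * x⁻¹ ∈ B := by
      rintro b ⟨hb, hb'⟩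
      exact ⟨hxA b hb, hW _ hb'⟩
    rcases hirr B hBA hBx with h | h
    · left
      rw [eq_bot_iff]
      intro w hw
      have : ((w.toMul : A) : G) ∈ B := ⟨(w.toMul : A).2, hw⟩
      rw [h, Subgroup.mem_bot] at this
      rw [AddSubgroup.mem_bot]
      apply Additive.toMul.injective
      apply Subtype.ext
      exact this
    · right
      rw [eq_top_iff]
      intro w _
      have : ((w.toMul : A) : G) ∈ B := by rw [h]; exact (w.toMul : A).2
      obtain ⟨_, h2⟩ := this
      exact h2
  · intro v
    apply Additive.toMul.injective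
    apply Subtype.ext
    show (((v.toMul : A) ^ q : A) : G) = 1
    rw [Subgroup.coe_pow]
    exact hAq _ (v.toMul : A).2

end Cfsg.Agent.Lib.Helper2
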