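import Mathlib
import Cfsg.Prelude.Def_TwoFusion
import Cfsg.Prelude.Def_Transfer
import Cfsg.Agent.Lib.Lead.Isolated
import Cfsg.Agent.Lib.Helper1.PResidual
import Cfsg.Agent.S1182
import Cfsg.Agent.S1185

set_option autoImplicit false
open scoped commutatorElement

namespace Cfsg.Agent.Lib.Helper2.IsoRes

universe u
variable {G : Type u} [Group G]

/-- If a Sylow `p`-subgroup lies in the derived subgroup then `O^p(X) = X`. -/
theorem pResidual_eq_top_of_sylow_le_commutator {X : Type u} [Group X] [Finite X] {p : ℕ}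
    [hp : Fact p.Prime] (T : Sylow p X) (hT : (T : Subgroup X) ≤ commutator X) :
    Cfsg.pResidual p X = ⊤ := by
  have hsup := Cfsg.Agent.Lib.Helper1.sylow_sup_pResidual_eq_top T
  haveI hRn : (Cfsg.pResidual p X).Normal := Cfsg.Agent.Lib.Helper1.pResidual_normal p
  have hQp : IsPGroup p (X ⧸ Cfsg.pResidual p X) :=
    Cfsg.Agent.Lib.Helper1.isPGroup_quotient_pResidual p
  haveI : Group.IsNilpotent (X ⧸ Cfsg.pResidual p X) := hQp.isNilpotent
  by_contra hne
  haveI : Nontrivial (X ⧸ Cfsg.pResidual p X) := by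
    rw [← not_subsingleton_iff_nontrivial]
    intro hs
    apply hne
    rw [eq_top_iff]
    intro x _
    rw [← QuotientGroup.eq_one_iff]
    exact Subsingleton.elim _ _
  have hlt := Group.IsSolvable.commutator_lt_top_of_nontrivial (X ⧸ Cfsg.pResidual p X)
  apply hlt.ne
  rw [eq_top_iff]
  intro q _
  obtain ⟨x, rfl⟩ := QuotientGroup.mk_surjective q
  have hx : x ∈ (T : Subgroup X) ⊔ Cfsg.pResidual p X := by rw [hsup]; trivial
  rw [sup_comm, Subgroup.mem_sup_of_normal_left] at hx
  obtain ⟨r, hr, t, ht, rfl⟩ := hx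
  rw [QuotientGroup.mk_mul, (QuotientGroup.eq_one_iff r).mpr hr, one_mul]
  have h1 : (QuotientGroup.mk' (Cfsg.pResidual p X)) t ∈
      (commutator X).map (QuotientGroup.mk' (Cfsg.pResidual p X)) :=
    Subgroup.mem_map_of_mem _ (hT ht)
  rw [commutator_def, Subgroup.map_commutator] at h1
  rw [commutator_def]
  exact (Subgroup.commutator_mono le_top le_top) h1

theorem map_pResidual_le (p : ℕ) (H : Subgroup G) :
    (Cfsg.pResidual p ↥H).map H.subtype ≤ Cfsg.pResidual p G := by
  unfold Cfsg.pResidual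
  rw [MonoidHom.map_closure, Subgroup.closure_le]
  rintro _ ⟨h, hh, rfl⟩
  apply Subgroup.subset_closure
  have hh' : (orderOf h).Coprime p := hh
  show (orderOf ((h : ↥H) : G)).Coprime p
  rwa [Subgroup.orderOf_coe]

theorem pResidual_iff [Finite G] (z : G) (hz : Cfsg.IsIsolatedInvolution z) :
    Cfsg.pResidual 2 G = ⊤ ↔ Cfsg.pResidual 2 ↥(Subgroup.centralizer ({z} : Set G)) = ⊤ := by
  have hzi : z⁻¹ = z := by
    have h2 : z ^ 2 = 1 := hz.1 ▸ pow_orderOf_eq_one z
    rw [inv_eq_iff_mul_eq_one, ← pow_two, h2]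
  constructor
  · intro hG
    obtain ⟨S, hzS⟩ := Cfsg.Agent.S0231.invol_mem_sylow z hz.1
    obtain ⟨C, hCdef⟩ : ∃ C, C = Subgroup.centralizer ({z} : Set G) := ⟨_, rfl⟩
    rw [← hCdef]
    have hSC : (S : Subgroup G) ≤ C := by
      intro s hs
      rw [hCdef, Subgroup.mem_centralizer_singleton_iff]
      have h1 := Cfsg.Agent.Lib.Lead.isolated_sylow hz S hzS s
        ((S : Subgroup G).mul_mem ((S : Subgroup G).mul_mem hs hzS) ((S : Subgroup G).inv_mem hs))
      calc s * z = (s * z * s⁻¹) * s := by group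
        _ = z * s := by rw [h1]
    have hSG : (S : Subgroup G) ≤ commutator G := by
      have := Cfsg.Agent.Lib.Helper1.sylow_inf_pResidual_le_commutator S
      rwa [hG, inf_top_eq] at this
    have hctl : ∀ x ∈ S, ∀ g : G, g * x * g⁻¹ ∈ S → ∃ c ∈ C, c * x * c⁻¹ = g * x * g⁻¹ := by
      intro x hx g hg
      have hxz : Commute x z := by
        have := hSC hx
        rw [hCdef, Subgroup.mem_centralizer_singleton_iff] at this
        exact this
      have hyz : Commute (g * x * g⁻¹) z := by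
        have := hSC hg
        rw [hCdef, Subgroup.mem_centralizer_singleton_iff] at this
        exact this
      obtain ⟨c, -, hcz, hc⟩ := Cfsg.Agent.S1182.result z hz ⊤
        (by
          have : Subgroup.normalizer (((⊤ : Subgroup G) : Subgroup G) : Set G) = ⊤ :=
            Subgroup.normalizer_eq_top_iff.mpr inferInstance
          rw [this]; trivial)
        x (g * x * g⁻¹) (Subgroup.mem_top _)
        (Subgroup.mem_top _) hxz hyz g (Subgroup.mem_top _) rfl
      refine ⟨c, ?_, hc⟩
      rw [hCdef, Subgroup.mem_centralizer_singleton_iff]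
      exact hcz
    have h2 := Cfsg.Agent.Lib.Helper1.commutator_inf_sylow_le_of_controls_fusion S C hctl
    have hSCC : (S : Subgroup G) ≤ ⁅C, C⁆ := fun s hs =>
      Subgroup.commutator_mono hSC le_rfl (h2 ⟨hSG hs, hs⟩)
    apply pResidual_eq_top_of_sylow_le_commutator (S.subtype hSC)
    intro t ht
    have ht' : (t : G) ∈ (S : Subgroup G) := by
      rw [Sylow.coe_subtype, Subgroup.mem_subgroupOf] at ht
      exact ht
    have h3 : (t : G) ∈ ⁅C, C⁆ := hSCC ht'
    rw [← Subgroup.map_subtype_commutator] at h3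
    obtain ⟨t', ht'', htt⟩ := h3
    have : t' = t := Subtype.ext htt
    exact this ▸ ht''
  · intro hC
    rw [eq_top_iff]
    intro g _
    obtain ⟨k, ⟨⟨hodd, -⟩, hkc⟩, -⟩ := Cfsg.Agent.S1185.result z hz g
    have hk : k ∈ Cfsg.pResidual 2 G := by
      apply Cfsg.Agent.Lib.Helper1.mem_pResidual_of_coprime
      exact Nat.coprime_two_right.mpr hodd
    have hc : g⁻¹ * k ∈ Cfsg.pResidual 2 G := by
      apply map_pResidual_le 2 (Subgroup.centralizer ({z} : Set G))
      refine ⟨⟨g⁻¹ * k, hkc⟩, ?_, rfl⟩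
      rw [hC]; trivial
    have : g = k * (g⁻¹ * k)⁻¹ := by group
    rw [this]
    exact Subgroup.mul_mem _ hk (Subgroup.inv_mem _ hc)

end Cfsg.Agent.Lib.Helper2.IsoRes
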