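import Mathlib

/-!
# S1722 piece G3 (part a): `2 × 2` matrices over `ZMod 5` as tuples, and the finite checks
-/

set_option autoImplicit false
set_option linter.style.haveILetI false

namespace Cfsg.Agent.Lib.Helper2.J2G3

abbrev Z5 := ZMod 5

/-- a `2 × 2` matrix `(α, β, γ, δ)`: first column `(α, γ)`, second column `(β, δ)` -/
abbrev Mt := Z5 × Z5 × Z5 × Z5

def mm (m n : Mt) : Mt :=
  (m.1 * n.1 + m.2.1 * n.2.2.1, m.1 * n.2.1 + m.2.1 * n.2.2.2,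
   m.2.2.1 * n.1 + m.2.2.2 * n.2.2.1, m.2.2.1 * n.2.1 + m.2.2.2 * n.2.2.2)

def mv (m : Mt) (v : Z5 × Z5) : Z5 × Z5 :=
  (m.1 * v.1 + m.2.1 * v.2, m.2.2.1 * v.1 + m.2.2.2 * v.2)

def mI : Mt := (1, 0, 0, 1)

def dg (e1 e2 : Fin 2) : Mt := (if e1 = 0 then 1 else -1, 0, 0, if e2 = 0 then 1 else -1)

def mp (m : Mt) (i : Fin 3) : Mt := if i = 0 then mI else if i = 1 then m else mm m m

def nf (m : Mt) (i : Fin 3) (e1 e2 : Fin 2) : Mt := mm (mp m i) (dg e1 e2)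

set_option maxRecDepth 100000 in
theorem nf_eq : ∀ (M : Mt) (e1 e2 : Fin 2),
    mm (mm (mm M (dg e1 0)) (dg 0 e2)) mI = mm M (dg e1 e2) := by
  decide +kernel

set_option maxRecDepth 100000 in
theorem mv_mI : ∀ v : Z5 × Z5, mv mI v = v := by
  decide +kernel

set_option maxRecDepth 100000 in
theorem nf_inj : ∀ m : Mt, mm m (mm m m) = mI → m ≠ mI →
    ∀ (i i' : Fin 3) (e1 e2 e1' e2' : Fin 2),
      nf m i e1 e2 = nf m i' e1' e2' → i = i' ∧ e1 = e1' ∧ e2 = e2' := by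
  decide +kernel

/-- the constraints coming from `|N| = 300` -/
def Good (m : Mt) : Prop :=
  mm m (mm m m) = mI ∧ m ≠ mI ∧
    (∃ (i : Fin 3) (e1 e2 : Fin 2), mm (dg 1 0) m = nf m i e1 e2) ∧
    (∃ (i : Fin 3) (e1 e2 : Fin 2), mm (dg 0 1) m = nf m i e1 e2)

instance (m : Mt) : Decidable (Good m) := by unfold Good; infer_instance

set_option maxRecDepth 100000 in
theorem main_dec1 : ∀ m : Mt, Good m →
    ∀ (i : Fin 3) (e1 e2 : Fin 2), (nf m i e1 e2).1 ≠ 0 := by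
  decide +kernel

set_option maxRecDepth 100000 in
theorem main_dec2 : ∀ m : Mt, Good m →
    ∀ v : Z5 × Z5, v ≠ (0, 0) →
      ∃ i : Fin 3, (mv (mp m i) v).1 = 0 ∨ (mv (mp m i) v).2 = 0 := by
  decide +kernel

end Cfsg.Agent.Lib.Helper2.J2G3
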