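import Mathlib
import Cfsg.Agent.Lib.Helper2.J2G3a

/-!
# S1722 piece G3 (part b): coordinates on `⟨a⟩ × ⟨b⟩ ≅ 5²` and acting matrices
-/

set_option autoImplicit false
set_option linter.style.haveILetI false

namespace Cfsg.Agent.Lib.Helper2.J2G3

variable {G : Type*} [Group G]

/-- `g ^ x` for `x : ZMod 5` -/
def pw (g : G) (x : Z5) : G := g ^ x.val

theorem pw_add {g : G} (hg : g ^ 5 = 1) (x y : Z5) : pw g (x + y) = pw g x * pw g y := by
  unfold pw
  rw [ZMod.val_add, ← pow_add, ← pow_eq_pow_mod _ hg]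

theorem pw_mul {g : G} (hg : g ^ 5 = 1) (x y : Z5) : pw g (x * y) = pw g x ^ y.val := by
  unfold pw
  rw [ZMod.val_mul, ← pow_mul, ← pow_eq_pow_mod _ hg]

theorem pw_zero (g : G) : pw g 0 = 1 := by
  unfold pw
  rw [ZMod.val_zero, pow_zero]

theorem pw_one (g : G) : pw g 1 = g := by
  unfold pw
  have : (1 : Z5).val = 1 := by decide
  rw [this, pow_one]

theorem pw_neg_one {g : G} (hg : g ^ 5 = 1) : pw g (-1) = g⁻¹ := by
  unfold pw
  have : (-1 : Z5).val = 4 := by decide
  rw [this]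
  apply eq_inv_of_mul_eq_one_left
  rw [← pow_succ]; exact hg

theorem pw_mem (g : G) (x : Z5) : pw g x ∈ Subgroup.zpowers g :=
  Subgroup.npow_mem_zpowers g _

theorem pw_inj {g : G} (hg : orderOf g = 5) {x y : Z5} (h : pw g x = pw g y) : x = y := by
  unfold pw at h
  have hx : x.val ∈ Set.Iio (orderOf g) := by rw [hg]; exact ZMod.val_lt x
  have hy : y.val ∈ Set.Iio (orderOf g) := by rw [hg]; exact ZMod.val_lt y
  exact ZMod.val_injective 5 (pow_injOn_Iio_orderOf hx hy h)

/-- the element `a ^ x * b ^ y` -/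
def co (a b : G) (v : Z5 × Z5) : G := pw a v.1 * pw b v.2

section frame

variable (a b : G) (ha : a ^ 5 = 1) (hb : b ^ 5 = 1) (hab : Commute a b)

theorem co_zero : co a b (0, 0) = 1 := by
  unfold co
  rw [pw_zero, pw_zero, mul_one]

theorem co_e1 : co a b (1, 0) = a := by
  unfold co
  rw [pw_zero, pw_one, mul_one]

theorem co_e2 : co a b (0, 1) = b := by
  unfold co
  rw [pw_zero, pw_one, one_mul]

include ha hb hab in
theorem co_add (v w : Z5 × Z5) : co a b (v + w) = co a b v * co a b w := by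
  unfold co
  rw [Prod.fst_add, Prod.snd_add, pw_add ha, pw_add hb]
  have hc : Commute (pw a w.1) (pw b v.2) := hab.pow_pow _ _
  exact Commute.mul_mul_mul_comm hc _ _

include ha hb hab in
theorem co_pow (c : Z5 × Z5) (x : Z5) : co a b c ^ x.val = co a b (c.1 * x, c.2 * x) := by
  unfold co
  have hc : Commute (pw a c.1) (pw b c.2) := hab.pow_pow _ _
  rw [hc.mul_pow, pw_mul ha, pw_mul hb]

include ha hb hab in
theorem co_inv (v : Z5 × Z5) : (co a b v)⁻¹ = co a b (-v) := by
  symm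
  apply eq_inv_of_mul_eq_one_left
  rw [← co_add a b ha hb hab, neg_add_cancel]
  exact co_zero a b

include hab in
theorem co_comm_a (v : Z5 × Z5) : Commute (co a b v) a := by
  unfold co pw
  exact Commute.mul_left (Commute.pow_left (Commute.refl a) _) (hab.symm.pow_left _)

include hab in
theorem co_comm_b (v : Z5 × Z5) : Commute (co a b v) b := by
  unfold co pw
  exact Commute.mul_left (hab.pow_left _) (Commute.pow_left (Commute.refl b) _)

/-- `n` acts on `⟨a⟩ × ⟨b⟩` by the matrix `m` -/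
def Acts (n : G) (m : Mt) : Prop :=
  n * a * n⁻¹ = co a b (m.1, m.2.2.1) ∧ n * b * n⁻¹ = co a b (m.2.1, m.2.2.2)

include ha hb hab in
theorem acts_full {n : G} {m : Mt} (h : Acts a b n m) (v : Z5 × Z5) :
    n * co a b v * n⁻¹ = co a b (mv m v) := by
  have h1 : n * co a b v * n⁻¹ = (n * a * n⁻¹) ^ v.1.val * (n * b * n⁻¹) ^ v.2.val := by
    unfold co pw
    rw [conj_pow, conj_pow]; group
  rw [h1, h.1, h.2, co_pow a b ha hb hab, co_pow a b ha hb hab, ← co_add a b ha hb hab]
  rfl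

include ha hb hab in
theorem acts_mul {n n' : G} {m m' : Mt} (h : Acts a b n m) (h' : Acts a b n' m') :
    Acts a b (n * n') (mm m m') := by
  constructor
  · have h1 : n * n' * a * (n * n')⁻¹ = n * (n' * a * n'⁻¹) * n⁻¹ := by group
    rw [h1, h'.1, acts_full a b ha hb hab h]; rfl
  · have h1 : n * n' * b * (n * n')⁻¹ = n * (n' * b * n'⁻¹) * n⁻¹ := by group
    rw [h1, h'.2, acts_full a b ha hb hab h]; rfl

theorem acts_one : Acts a b 1 mI := by
  constructor
  · show 1 * a * 1⁻¹ = co a b (1, 0)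
    rw [co_e1]; group
  · show 1 * b * 1⁻¹ = co a b (0, 1)
    rw [co_e2]; group

include hab in
theorem acts_co (v : Z5 × Z5) : Acts a b (co a b v) mI := by
  constructor
  · show co a b v * a * (co a b v)⁻¹ = co a b (1, 0)
    rw [co_e1, (co_comm_a a b hab v).eq, mul_inv_cancel_right]
  · show co a b v * b * (co a b v)⁻¹ = co a b (0, 1)
    rw [co_e2, (co_comm_b a b hab v).eq, mul_inv_cancel_right]

end frame

section frame2

variable (a b : G) (ha : orderOf a = 5) (hb : orderOf b = 5)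
  (hd : Subgroup.zpowers a ⊓ Subgroup.zpowers b = ⊥)

include hd in
theorem inter_one {x : G} (h1 : x ∈ Subgroup.zpowers a) (h2 : x ∈ Subgroup.zpowers b) : x = 1 := by
  have : x ∈ Subgroup.zpowers a ⊓ Subgroup.zpowers b := ⟨h1, h2⟩
  rw [hd] at this
  exact Subgroup.mem_bot.mp this

include ha hb hd in
theorem co_inj {v w : Z5 × Z5} (h : co a b v = co a b w) : v = w := by
  unfold co at h
  have h1 : (pw a w.1)⁻¹ * pw a v.1 = pw b w.2 * (pw b v.2)⁻¹ := by
    have : pw a v.1 = pw a w.1 * pw b w.2 * (pw b v.2)⁻¹ := by rw [← h]; group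
    rw [this]; group
  have h2 : (pw a w.1)⁻¹ * pw a v.1 = 1 := by
    apply inter_one a b hd
    · exact Subgroup.mul_mem _ (Subgroup.inv_mem _ (pw_mem a _)) (pw_mem a _)
    · rw [h1]; exact Subgroup.mul_mem _ (pw_mem b _) (Subgroup.inv_mem _ (pw_mem b _))
  have h3 : pw b w.2 * (pw b v.2)⁻¹ = 1 := by rw [← h1]; exact h2
  have e1 : v.1 = w.1 := by
    apply pw_inj ha
    exact (inv_mul_eq_one.mp h2).symm
  have e2 : v.2 = w.2 := by
    apply pw_inj hb
    exact (mul_inv_eq_one.mp h3).symm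
  exact Prod.ext e1 e2

include hd in
theorem co_mem_b {v : Z5 × Z5} (ha : orderOf a = 5) (h : co a b v ∈ Subgroup.zpowers b) : v.1 = 0 := by
  unfold co at h
  have h1 : pw a v.1 ∈ Subgroup.zpowers b := by
    have : pw a v.1 = pw a v.1 * pw b v.2 * (pw b v.2)⁻¹ := by group
    rw [this]
    exact Subgroup.mul_mem _ h (Subgroup.inv_mem _ (pw_mem b _))
  have h2 : pw a v.1 = 1 := inter_one a b hd (pw_mem a _) h1
  apply pw_inj ha
  rw [h2, pw_zero]

theorem co_mem_a_of (v : Z5 × Z5) (h : v.2 = 0) : co a b v ∈ Subgroup.zpowers a := by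
  unfold co
  rw [h, pw_zero, mul_one]
  exact pw_mem a _

theorem co_mem_b_of (v : Z5 × Z5) (h : v.1 = 0) : co a b v ∈ Subgroup.zpowers b := by
  unfold co
  rw [h, pw_zero, one_mul]
  exact pw_mem b _

end frame2

end Cfsg.Agent.Lib.Helper2.J2G3
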