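import Mathlib
import Cfsg.Agent.Lib.Helper2.J2G3b

/-!
# S1722 piece G3: the two orbits of `N(P0)` on the six subgroups of order five of `P0 = 5²`
-/

set_option autoImplicit false
set_option linter.style.haveILetI false

namespace Cfsg.Agent.Lib.Helper2.J2G3

/-- a subgroup of order five is generated by each of its nontrivial elements -/
theorem eq_zpowers_of_card_five {G : Type*} [Group G] [Finite G] (K : Subgroup G)
    (hK : Nat.card K = 5) (x : G) (hx : x ∈ K) (hx1 : x ≠ 1) : Subgroup.zpowers x = K := by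
  have hle : Subgroup.zpowers x ≤ K := (Subgroup.zpowers_le).mpr hx
  apply Subgroup.eq_of_le_of_card_ge hle
  rw [hK, Nat.card_zpowers]
  have h1 : orderOf x ∣ 5 := by
    have h2 : orderOf (⟨x, hx⟩ : ↥K) ∣ Nat.card ↥K := orderOf_dvd_natCard _
    rw [hK] at h2
    rwa [Subgroup.orderOf_mk] at h2
  have h5 : Nat.Prime 5 := by norm_num
  rcases (Nat.dvd_prime h5).mp h1 with h | h
  · exact absurd (orderOf_eq_one_iff.mp h) hx1
  · exact h.ge

theorem two_orbits {G : Type*} [Group G] [Finite G] (P0 : Subgroup G) (a b s1 s2 : G)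
    (ha : orderOf a = 5) (hb : orderOf b = 5) (hab : a * b = b * a)
    (hd : Subgroup.zpowers a ⊓ Subgroup.zpowers b = ⊥)
    (hP0 : P0 = Subgroup.zpowers a ⊔ Subgroup.zpowers b)
    (hcent : ∀ x : G, (∀ p ∈ P0, x * p = p * x) → x ∈ P0)
    (hN : Nat.card (Subgroup.normalizer (P0 : Set G)) = 300)
    (hs1 : s1 * s1 = 1) (hs1a : s1 * a * s1⁻¹ = a⁻¹) (hs1b : s1 * b = b * s1)
    (hs2 : s2 * s2 = 1) (hs2a : s2 * a = a * s2) (hs2b : s2 * b * s2⁻¹ = b⁻¹)
    (hs12 : s1 * s2 = s2 * s1) :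
    (∀ n ∈ Subgroup.normalizer (P0 : Set G),
        (Subgroup.zpowers a).map (MulAut.conj n).toMonoidHom ≠ Subgroup.zpowers b) ∧
      (∀ W : Subgroup G, W ≤ P0 → Nat.card W = 5 →
        ∃ n ∈ Subgroup.normalizer (P0 : Set G),
          W.map (MulAut.conj n).toMonoidHom = Subgroup.zpowers a ∨
          W.map (MulAut.conj n).toMonoidHom = Subgroup.zpowers b) := by
  classical
  have ha5 : a ^ 5 = 1 := by rw [← ha]; exact pow_orderOf_eq_one a
  have hb5 : b ^ 5 = 1 := by rw [← hb]; exact pow_orderOf_eq_one b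
  have habc : Commute a b := hab
  -- abbreviations
  have coadd := co_add a b ha5 hb5 habc
  have full : ∀ {n : G} {m : Mt}, Acts a b n m → ∀ v, n * co a b v * n⁻¹ = co a b (mv m v) :=
    fun h v => acts_full a b ha5 hb5 habc h v
  have amul : ∀ {n n' : G} {m m' : Mt}, Acts a b n m → Acts a b n' m' →
      Acts a b (n * n') (mm m m') := fun h h' => acts_mul a b ha5 hb5 habc h h'
  have coinj : ∀ {v w : Z5 × Z5}, co a b v = co a b w → v = w := fun h => co_inj a b ha hb hd h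
  have auniq : ∀ {n : G} {m m' : Mt}, Acts a b n m → Acts a b n m' → m = m' := by
    intro n m m' h h'
    have e1 := coinj (h.1.symm.trans h'.1)
    have e2 := coinj (h.2.symm.trans h'.2)
    have e11 := congrArg Prod.fst e1
    have e12 := congrArg Prod.snd e1
    have e21 := congrArg Prod.fst e2
    have e22 := congrArg Prod.snd e2
    simp only at e11 e12 e21 e22
    exact Prod.ext e11 (Prod.ext e21 (Prod.ext e12 e22))
  -- membership in `P0`
  have haP : a ∈ P0 := by rw [hP0]; exact (le_sup_left : Subgroup.zpowers a ≤ _) (Subgroup.mem_zpowers a)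
  have hbP : b ∈ P0 := by rw [hP0]; exact (le_sup_right : Subgroup.zpowers b ≤ _) (Subgroup.mem_zpowers b)
  have hcoP : ∀ v, co a b v ∈ P0 := by
    intro v
    exact P0.mul_mem (P0.pow_mem haP _) (P0.pow_mem hbP _)
  have hmem : ∀ p ∈ P0, ∃ v, p = co a b v := by
    let K : Subgroup G :=
      { carrier := Set.range (co a b)
        one_mem' := ⟨(0, 0), co_zero a b⟩
        mul_mem' := by
          rintro x y ⟨v, rfl⟩ ⟨w, rfl⟩
          exact ⟨v + w, coadd v w⟩
        inv_mem' := by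
          rintro x ⟨v, rfl⟩
          exact ⟨-v, (co_inv a b ha5 hb5 habc v).symm⟩ }
    have h1 : Subgroup.zpowers a ≤ K := (Subgroup.zpowers_le).mpr ⟨(1, 0), co_e1 a b⟩
    have h2 : Subgroup.zpowers b ≤ K := (Subgroup.zpowers_le).mpr ⟨(0, 1), co_e2 a b⟩
    have h3 : P0 ≤ K := by rw [hP0]; exact sup_le h1 h2
    intro p hp
    obtain ⟨v, hv⟩ := h3 hp
    exact ⟨v, hv.symm⟩
  set N : Subgroup G := Subgroup.normalizer (P0 : Set G) with hNdef
  have hPN : P0 ≤ N := Subgroup.le_normalizer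
  have hconjN : ∀ n ∈ N, ∀ p ∈ P0, n * p * n⁻¹ ∈ P0 := by
    intro n hn p hp
    exact (Subgroup.mem_set_normalizer_iff.mp hn p).mp hp
  have hacts_ex : ∀ n ∈ N, ∃ m, Acts a b n m := by
    intro n hn
    obtain ⟨v1, hv1⟩ := hmem _ (hconjN n hn a haP)
    obtain ⟨v2, hv2⟩ := hmem _ (hconjN n hn b hbP)
    exact ⟨(v1.1, v2.1, v1.2, v2.2), hv1, hv2⟩
  -- involutions acting by a matrix lie in `N`
  have hinvN : ∀ (s : G) (m : Mt), s * s = 1 → Acts a b s m → s ∈ N := by
    intro s m hs hm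
    have hsi : s⁻¹ = s := inv_eq_of_mul_eq_one_right hs
    rw [hNdef, Subgroup.mem_set_normalizer_iff]
    intro p
    constructor
    · intro hp
      obtain ⟨v, rfl⟩ := hmem p hp
      rw [full hm v]; exact hcoP _
    · intro hp
      obtain ⟨w, hw⟩ := hmem _ hp
      have h1 : p = s * co a b w * s⁻¹ := by
        rw [← hw, hsi]
        calc p = (s * s) * p * (s * s) := by rw [hs]; group
          _ = s * (s * p * s) * s := by group
      rw [h1, full hm w]; exact hcoP _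
  have hA1 : Acts a b s1 (dg 1 0) := by
    constructor
    · show s1 * a * s1⁻¹ = co a b (-1, 0)
      rw [hs1a]; unfold co; rw [pw_neg_one ha5, pw_zero, mul_one]
    · show s1 * b * s1⁻¹ = co a b (0, 1)
      rw [co_e2, hs1b, mul_inv_cancel_right]
  have hA2 : Acts a b s2 (dg 0 1) := by
    constructor
    · show s2 * a * s2⁻¹ = co a b (1, 0)
      rw [co_e1, hs2a, mul_inv_cancel_right]
    · show s2 * b * s2⁻¹ = co a b (0, -1)
      rw [hs2b]; unfold co; rw [pw_neg_one hb5, pw_zero, one_mul]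
  have hs1N : s1 ∈ N := hinvN s1 _ hs1 hA1
  have hs2N : s2 ∈ N := hinvN s2 _ hs2 hA2
  -- an element of order three
  have : Fact (Nat.Prime 3) := ⟨by norm_num⟩
  obtain ⟨h0, hh0⟩ := exists_prime_orderOf_dvd_card' (G := ↥N) 3 (by rw [hN]; norm_num)
  have hhN : (h0 : G) ∈ N := h0.2
  have hh3o : orderOf (h0 : G) = 3 := by rw [Subgroup.orderOf_coe]; exact hh0
  set h : G := (h0 : G) with hh
  have hh3 : h ^ 3 = 1 := by rw [← hh3o]; exact pow_orderOf_eq_one h
  have hh1 : h ≠ 1 := by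
    intro h1
    rw [h1, orderOf_one] at hh3o
    norm_num at hh3o
  obtain ⟨m, hm⟩ := hacts_ex h hhN
  have hm3 : mm m (mm m m) = mI := by
    have h1 : Acts a b (h * (h * h)) (mm m (mm m m)) := amul hm (amul hm hm)
    have h2 : h * (h * h) = 1 := by
      rw [show h * (h * h) = h ^ 3 by rw [pow_succ', pow_two]]; exact hh3
    rw [h2] at h1
    exact auniq h1 (acts_one a b)
  have hm1 : m ≠ mI := by
    intro hmI
    rw [hmI] at hm
    have h1 : h ∈ P0 := by
      apply hcent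
      intro p hp
      obtain ⟨v, rfl⟩ := hmem p hp
      have h2 := full hm v
      rw [mv_mI] at h2
      calc h * co a b v = h * co a b v * h⁻¹ * h := by group
        _ = co a b v * h := by rw [h2]
    obtain ⟨v, hv⟩ := hmem h h1
    have h5 : h ^ 5 = 1 := by
      rw [hv]
      unfold co pw
      rw [(habc.pow_pow _ _).mul_pow]
      rw [← pow_mul, ← pow_mul, mul_comm _ 5, mul_comm _ 5, pow_mul, pow_mul, ha5, hb5, one_pow, one_pow,
        mul_one]
    apply hh1
    calc h = h ^ 6 * (h ^ 5)⁻¹ := by group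
      _ = 1 := by rw [h5, show h ^ 6 = (h ^ 3) ^ 2 by rw [← pow_mul], hh3]; group
  -- the normal form
  let Φ : Fin 3 × Fin 2 × Fin 2 × (Z5 × Z5) → G := fun t =>
    h ^ (t.1 : ℕ) * s1 ^ (t.2.1 : ℕ) * s2 ^ (t.2.2.1 : ℕ) * co a b t.2.2.2
  have hpowh : ∀ i : Fin 3, Acts a b (h ^ (i : ℕ)) (mp m i) := by
    intro i
    fin_cases i
    · show Acts a b (h ^ 0) mI
      rw [pow_zero]; exact acts_one a b
    · show Acts a b (h ^ 1) m
      rw [pow_one]; exact hm
    · show Acts a b (h ^ 2) (mm m m)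
      rw [pow_two]; exact amul hm hm
  have hpow1 : ∀ e : Fin 2, Acts a b (s1 ^ (e : ℕ)) (dg e 0) := by
    intro e
    fin_cases e
    · show Acts a b (s1 ^ 0) mI
      rw [pow_zero]; exact acts_one a b
    · show Acts a b (s1 ^ 1) (dg 1 0)
      rw [pow_one]; exact hA1
  have hpow2 : ∀ e : Fin 2, Acts a b (s2 ^ (e : ℕ)) (dg 0 e) := by
    intro e
    fin_cases e
    · show Acts a b (s2 ^ 0) mI
      rw [pow_zero]; exact acts_one a b
    · show Acts a b (s2 ^ 1) (dg 0 1)
      rw [pow_one]; exact hA2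
  have hΦacts : ∀ t, Acts a b (Φ t) (nf m t.1 t.2.1 t.2.2.1) := by
    intro t
    have h1 := amul (amul (amul (hpowh t.1) (hpow1 t.2.1)) (hpow2 t.2.2.1)) (acts_co a b habc t.2.2.2)
    rw [nf_eq] at h1
    exact h1
  have hΦN : ∀ t, Φ t ∈ N := by
    intro t
    exact N.mul_mem (N.mul_mem (N.mul_mem (N.pow_mem hhN _) (N.pow_mem hs1N _)) (N.pow_mem hs2N _))
      (hPN (hcoP _))
  have hΦinj : Function.Injective (fun t => (⟨Φ t, hΦN t⟩ : ↥N)) := by
    intro t t' htt
    have h1 : Φ t = Φ t' := congrArg Subtype.val htt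
    have h2 : nf m t.1 t.2.1 t.2.2.1 = nf m t'.1 t'.2.1 t'.2.2.1 := by
      have h3 := hΦacts t
      rw [h1] at h3
      exact auniq h3 (hΦacts t')
    obtain ⟨e1, e2, e3⟩ := nf_inj m hm3 hm1 _ _ _ _ _ _ h2
    have h4 : co a b t.2.2.2 = co a b t'.2.2.2 := by
      have h5 : Φ t = h ^ (t.1 : ℕ) * s1 ^ (t.2.1 : ℕ) * s2 ^ (t.2.2.1 : ℕ) * co a b t.2.2.2 := rfl
      have h6 : Φ t' = h ^ (t'.1 : ℕ) * s1 ^ (t'.2.1 : ℕ) * s2 ^ (t'.2.2.1 : ℕ) * co a b t'.2.2.2 := rfl
      rw [h5, h6, e1, e2, e3] at h1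
      exact mul_left_cancel h1
    have e4 := coinj h4
    exact Prod.ext e1 (Prod.ext e2 (Prod.ext e3 e4))
  have hcard : Nat.card ↥N ≤ Nat.card (Fin 3 × Fin 2 × Fin 2 × (Z5 × Z5)) := by
    rw [hN]
    simp [Nat.card_prod]
  have hΦsurj : ∀ n ∈ N, ∃ t, Φ t = n := by
    intro n hn
    obtain ⟨t, ht⟩ := (hΦinj.bijective_of_nat_card_le hcard).2 ⟨n, hn⟩
    exact ⟨t, congrArg Subtype.val ht⟩
  -- the constraints
  have hgood : Good m := by
    refine ⟨hm3, hm1, ?_, ?_⟩
    · obtain ⟨t, ht⟩ := hΦsurj (s1 * h) (N.mul_mem hs1N hhN)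
      have h1 := hΦacts t
      rw [ht] at h1
      exact ⟨t.1, t.2.1, t.2.2.1, auniq (amul hA1 hm) h1⟩
    · obtain ⟨t, ht⟩ := hΦsurj (s2 * h) (N.mul_mem hs2N hhN)
      have h1 := hΦacts t
      rw [ht] at h1
      exact ⟨t.1, t.2.1, t.2.2.1, auniq (amul hA2 hm) h1⟩
  constructor
  · -- no element of `N` maps `⟨a⟩` to `⟨b⟩`
    intro n hn heq
    obtain ⟨t, ht⟩ := hΦsurj n hn
    have h1 := hΦacts t
    rw [ht] at h1
    have h2 : n * a * n⁻¹ ∈ Subgroup.zpowers b := by
      rw [← heq]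
      exact Subgroup.mem_map.mpr ⟨a, Subgroup.mem_zpowers a, rfl⟩
    rw [h1.1] at h2
    have h3 := co_mem_b a b hd ha h2
    exact main_dec1 m hgood t.1 t.2.1 t.2.2.1 h3
  · -- every line is conjugate to `⟨a⟩` or `⟨b⟩`
    intro W hWP hW
    have hne : ∃ w ∈ W, w ≠ 1 := by
      by_contra hcon
      push Not at hcon
      have h1 : W = ⊥ := (Subgroup.eq_bot_iff_forall W).mpr hcon
      rw [h1, Subgroup.card_bot] at hW
      norm_num at hW
    obtain ⟨w, hwW, hw1⟩ := hne
    obtain ⟨v, hv⟩ := hmem w (hWP hwW)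
    have hv0 : v ≠ (0, 0) := by
      intro h0
      rw [h0, co_zero] at hv
      exact hw1 hv
    obtain ⟨i, hi⟩ := main_dec2 m hgood v hv0
    have hnN : h ^ (i : ℕ) ∈ N := N.pow_mem hhN _
    refine ⟨h ^ (i : ℕ), hnN, ?_⟩
    set n : G := h ^ (i : ℕ) with hn
    have hx : n * w * n⁻¹ = co a b (mv (mp m i) v) := by
      rw [hv]; exact full (hpowh i) v
    have hxW : n * w * n⁻¹ ∈ W.map (MulAut.conj n).toMonoidHom :=
      Subgroup.mem_map.mpr ⟨w, hwW, rfl⟩
    have hx1 : n * w * n⁻¹ ≠ 1 := by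
      intro h1
      apply hw1
      calc w = n⁻¹ * (n * w * n⁻¹) * n := by group
        _ = 1 := by rw [h1]; group
    have hcW : Nat.card (W.map (MulAut.conj n).toMonoidHom) = 5 := by
      rw [Subgroup.card_map_of_injective (MulAut.conj n).injective]
      exact hW
    have hWz := eq_zpowers_of_card_five _ hcW _ hxW hx1
    rcases hi with hi | hi
    · right
      have h1 : n * w * n⁻¹ ∈ Subgroup.zpowers b := by
        rw [hx]; exact co_mem_b_of a b _ hi
      have h2 := eq_zpowers_of_card_five (Subgroup.zpowers b)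
        (by rw [Nat.card_zpowers]; exact hb) _ h1 hx1
      rw [← hWz, h2]
    · left
      have h1 : n * w * n⁻¹ ∈ Subgroup.zpowers a := by
        rw [hx]; exact co_mem_a_of a b _ hi
      have h2 := eq_zpowers_of_card_five (Subgroup.zpowers a)
        (by rw [Nat.card_zpowers]; exact ha) _ h1 hx1
      rw [← hWz, h2]

end Cfsg.Agent.Lib.Helper2.J2G3
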