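import Mathlib
import Cfsg.Agent.Lib.Helper6.J2A4

/-!
# S1723 piece T5: the centralizer of an element of order five in `C = C(z)` (type `J₂`)
-/

set_option autoImplicit false
set_option linter.style.haveILetI false

namespace Cfsg.Agent.Lib.Helper2.J2T5
open Cfsg.Agent.Lib.Helper4.ES2

set_option maxRecDepth 100000 in
/-- in `S₅`, the centralizer of an element of order five is generated by it -/
theorem perm5_cent : ∀ σ τ : Equiv.Perm (Fin 5), σ ^ 5 = 1 → σ ≠ 1 → τ * σ = σ * τ →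
    ∃ k : Fin 5, τ * σ ^ (k : ℕ) = 1 := by
  decide +kernel

theorem cent_five {G : Type*} [Group G] [Finite G] (C Q : Subgroup G) (z : G)
    (hD : Data Q z) (hQ : Nat.card Q = 32) (hQC : Q ≤ C)
    (hCz : ∀ c ∈ C, c * z = z * c) (hQn : ∀ c ∈ C, ∀ q ∈ Q, c * q * c⁻¹ ∈ Q)
    (hself : ∀ c ∈ C, (∀ q ∈ Q, c * q = q * c) → c ∈ Q)
    (phi : ↥C →* Equiv.Perm (Fin 5)) (hker : ∀ c : ↥C, phi c = 1 ↔ (c : G) ∈ Q)
    (hran : phi.range = alternatingGroup (Fin 5))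
    (f : G) (hfC : f ∈ C) (hf5 : orderOf f = 5) :
    ∀ c ∈ C, c * f = f * c → ∃ a b : ℕ, c = z ^ a * f ^ b := by
  intro c hcC hcf
  have hf5' : f ^ 5 = 1 := by rw [← hf5]; exact pow_orderOf_eq_one f
  -- `f ∉ Q`
  have hfQ : f ∉ Q := by
    intro hfQ
    have h1 : (⟨f, hfQ⟩ : ↥Q) ^ Nat.card ↥Q = 1 := pow_card_eq_one'
    rw [hQ] at h1
    have h2 : f ^ 32 = 1 := by
      have := congrArg Subtype.val h1
      simpa using this
    have h3 : orderOf f ∣ 32 := orderOf_dvd_of_pow_eq_one h2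
    rw [hf5] at h3
    norm_num at h3
  set σ : Equiv.Perm (Fin 5) := phi ⟨f, hfC⟩ with hσ
  set τ : Equiv.Perm (Fin 5) := phi ⟨c, hcC⟩ with hτ
  have hσ5 : σ ^ 5 = 1 := by
    rw [hσ, ← map_pow]
    have : (⟨f, hfC⟩ : ↥C) ^ 5 = 1 := by
      apply Subtype.ext
      simpa using hf5'
    rw [this, map_one]
  have hσ1 : σ ≠ 1 := by
    intro h
    exact hfQ ((hker ⟨f, hfC⟩).mp h)
  have hτσ : τ * σ = σ * τ := by
    rw [hσ, hτ, ← map_mul, ← map_mul]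
    congr 1
    apply Subtype.ext
    simpa using hcf
  obtain ⟨k, hk⟩ := perm5_cent σ τ hσ5 hσ1 hτσ
  -- `x = c * f ^ k ∈ Q`
  have hxC : c * f ^ (k : ℕ) ∈ C := C.mul_mem hcC (C.pow_mem hfC _)
  have hxQ : c * f ^ (k : ℕ) ∈ Q := by
    have h1 : phi ⟨c * f ^ (k : ℕ), hxC⟩ = 1 := by
      have h2 : (⟨c * f ^ (k : ℕ), hxC⟩ : ↥C) = ⟨c, hcC⟩ * ⟨f, hfC⟩ ^ (k : ℕ) := by
        apply Subtype.ext
        simp
      rw [h2, map_mul, map_pow]
      exact hk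
    exact (hker _).mp h1
  -- `x` commutes with `f`
  have hcomm : f * (c * f ^ (k : ℕ)) * f⁻¹ = c * f ^ (k : ℕ) := by
    have h1 : f * (c * f ^ (k : ℕ)) = (c * f ^ (k : ℕ)) * f := by
      rw [← mul_assoc, ← hcf, mul_assoc, mul_assoc, ← pow_succ, ← pow_succ']
    rw [h1]; group
  have hfix := Cfsg.Agent.Lib.Helper6.J2A.fix_five C Q z hD hQ hQC hCz hQn hself f hfC hf5' hfQ (c * f ^ (k : ℕ)) hxQ
    (Or.inl hcomm)
  -- `f ^ k * f ^ (5 - k) = 1`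
  have hk5 : (k : ℕ) + (5 - (k : ℕ)) = 5 := by have := k.2; omega
  have hinv : f ^ (k : ℕ) * f ^ (5 - (k : ℕ)) = 1 := by rw [← pow_add, hk5, hf5']
  have hc : c = (c * f ^ (k : ℕ)) * f ^ (5 - (k : ℕ)) := by
    rw [mul_assoc, hinv, mul_one]
  rcases hfix with h | h
  · refine ⟨0, 5 - (k : ℕ), ?_⟩
    rw [pow_zero, one_mul]
    rw [h, one_mul] at hc
    exact hc
  · refine ⟨1, 5 - (k : ℕ), ?_⟩
    rw [pow_one]
    rw [h] at hc
    exact hc

end Cfsg.Agent.Lib.Helper2.J2T5
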