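import Mathlib
import Cfsg.Agent.Lib.Helper7.JMDefs

set_option autoImplicit false
set_option linter.style.haveILetI false

/-! S3620, piece A1: in a `t`-transitive group every set with at most `t - 1` points is a flat.
(The degenerate case `t > card Ω`, where `t`-transitivity is vacuous, must be excluded.) -/

namespace Cfsg.Agent.Lib.Helper2.JM

open MulAction
open scoped Pointwise
open Cfsg.Agent.Lib.Helper7.JM Cfsg.Agent.Lib.Helper7.JS

universe u v

theorem flat_of_ncard_lt {G : Type*} {Ω : Type*} [Group G] [MulAction G Ω] [Finite Ω] {t : ℕ}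
    (ht : IsMultiplyPretransitive G Ω t) (htn : t ≤ Nat.card Ω) (F : Set Ω)
    (hF : F.ncard + 1 ≤ t) : Flat G F := by
  haveI := ht
  have hn : (t : ENat) ≤ ENat.card Ω := by
    rw [ENat.card_eq_coe_natCard]; exact_mod_cast htn
  have h1 : IsMultiplyPretransitive (fixingSubgroup G F) (SubMulAction.ofFixingSubgroup G F) 1 :=
    SubMulAction.ofFixingSubgroup.isMultiplyPretransitive' F hF hn
  have h2 : IsPretransitive (fixingSubgroup G F) (SubMulAction.ofFixingSubgroup G F) :=
    is_one_pretransitive_iff.mp h1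
  intro x hx y hy
  have hx' : x ∈ SubMulAction.ofFixingSubgroup G F := by
    rw [SubMulAction.mem_ofFixingSubgroup_iff]; exact hx
  have hy' : y ∈ SubMulAction.ofFixingSubgroup G F := by
    rw [SubMulAction.mem_ofFixingSubgroup_iff]; exact hy
  obtain ⟨g, hg⟩ := h2.exists_smul_eq (⟨x, hx'⟩ : SubMulAction.ofFixingSubgroup G F) ⟨y, hy'⟩
  refine ⟨g.1, fun z hz => (mem_fixingSubgroup_iff G).mp g.2 z hz, ?_⟩
  exact congrArg Subtype.val hg

end Cfsg.Agent.Lib.Helper2.JM
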