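import Mathlib
import Cfsg.Agent.Lib.Helper7.JMDefs

set_option autoImplicit false
set_option linter.style.haveILetI false

/-! S3620, piece A2: a `t`-transitive group in which some `t`-set is a flat is
`(t+1)`-transitive. -/

namespace Cfsg.Agent.Lib.Helper2.JM

open MulAction
open scoped Pointwise
open Cfsg.Agent.Lib.Helper7.JM Cfsg.Agent.Lib.Helper7.JS

universe u v

theorem succ_pretransitive_of_flat {G : Type*} {Ω : Type*} [Group G] [MulAction G Ω] [Finite Ω]
    {t : ℕ} (ht : IsMultiplyPretransitive G Ω t) (F : Set Ω) (hF : F.ncard = t)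
    (hflat : Flat G F) : IsMultiplyPretransitive G Ω (t + 1) := by
  -- enumerate F
  have hcardF : Nat.card ↥F = t := by rw [Nat.card_coe_set_eq, hF]
  let eF : ↥F ≃ Fin t := Finite.equivFinOfCardEq hcardF
  let e : Fin t ↪ Ω := eF.symm.toEmbedding.trans (Function.Embedding.subtype _)
  have he_mem : ∀ i, e i ∈ F := fun i => (eF.symm i).2
  have he_surj : ∀ z ∈ F, ∃ i, e i = z := by
    intro z hz
    refine ⟨eF ⟨z, hz⟩, ?_⟩
    change ((eF.symm (eF ⟨z, hz⟩) : ↥F) : Ω) = z
    rw [Equiv.symm_apply_apply]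
  rw [isMultiplyPretransitive_iff]
  -- key: move any (t+1)-tuple so that its first t entries are `e`
  have key : ∀ x : Fin (t + 1) ↪ Ω, ∃ g : G, (∀ i : Fin t, g • x (Fin.castSucc i) = e i) ∧
      g • x (Fin.last t) ∉ F := by
    intro x
    let x' : Fin t ↪ Ω := (Fin.castSuccEmb).trans x
    obtain ⟨g, hg⟩ := (isMultiplyPretransitive_iff.mp ht) x' e
    have h1 : ∀ i : Fin t, g • x (Fin.castSucc i) = e i := by
      intro i
      have := congrArg (fun f : Fin t ↪ Ω => f i) hg
      simpa [x'] using this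
    refine ⟨g, h1, ?_⟩
    intro hmem
    obtain ⟨i, hi⟩ := he_surj _ hmem
    rw [← h1 i] at hi
    have h2 : x (Fin.castSucc i) = x (Fin.last t) := smul_left_cancel g hi
    have h3 := x.injective h2
    exact (Fin.castSucc_lt_last i).ne h3
  intro x y
  obtain ⟨g₁, h1, h1'⟩ := key x
  obtain ⟨g₂, h2, h2'⟩ := key y
  obtain ⟨h, hh1, hh2⟩ := hflat _ h1' _ h2'
  refine ⟨g₂⁻¹ * h * g₁, ?_⟩
  ext i
  rw [Function.Embedding.smul_apply]
  refine Fin.lastCases ?_ (fun j => ?_) i
  · rw [mul_smul, mul_smul, hh2, inv_smul_smul]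
  · rw [mul_smul, mul_smul, h1 j, hh1 _ (he_mem j), ← h2 j, inv_smul_smul]

end Cfsg.Agent.Lib.Helper2.JM
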