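import Mathlib
import Cfsg.Agent.Lib.Helper7.JMDefs
import Cfsg.Agent.Lib.Helper2.JMA1

set_option autoImplicit false
set_option linter.style.haveILetI false

/-! S3620, piece B: the 3-cycle trick. A Jordan set `Γ` (proper, at least two points) in a
`|Γ|`-transitive group gives a 3-cycle. -/

namespace Cfsg.Agent.Lib.Helper2.JM

open MulAction
open scoped Pointwise
open Cfsg.Agent.Lib.Helper7.JM Cfsg.Agent.Lib.Helper7.JS

universe u v

theorem has3_of_pretransitive {G : Type*} {Ω : Type*} [Group G] [MulAction G Ω] [Finite Ω]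
    (Γ : Set Ω) (hJ : Jor G Γ) (h2 : 2 ≤ Γ.ncard) (hlt : Γ.ncard < Nat.card Ω)
    (ht : IsMultiplyPretransitive G Ω Γ.ncard) : Has3 G Ω := by
  obtain ⟨a, ha, b, hb, hab⟩ := (Set.one_lt_ncard (Set.toFinite Γ)).mp h2
  obtain ⟨c, hc⟩ : ∃ c, c ∉ Γ := by
    by_contra hcon
    push Not at hcon
    have : Γ = Set.univ := Set.eq_univ_iff_forall.mpr hcon
    rw [this, Set.ncard_univ] at hlt
    exact lt_irrefl _ hlt
  -- g in the Jordan group with g • b = a
  obtain ⟨g, hgΔ, hgb⟩ := hJ b hb a ha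
  have hginvΔ : ∀ z, z ∉ Γ → g⁻¹ • z = z := fun z hz => by
    rw [inv_smul_eq_iff, hgΔ z hz]
  have hgΓ : ∀ z, z ∈ Γ → g • z ∈ Γ := by
    intro z hz
    by_contra hn
    have h1 := hgΔ _ hn
    have h2 : g • z = z := smul_left_cancel g h1
    rw [h2] at hn
    exact hn hz
  have hginvb : g⁻¹ • a = b := by rw [inv_smul_eq_iff, hgb]
  -- the flat Γ \ {a}
  have hFcard : (Γ \ {a}).ncard + 1 ≤ Γ.ncard := by
    rw [Set.ncard_diff_singleton_add_one ha (Set.toFinite Γ)]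
  have hflat : Flat G (Γ \ {a}) := flat_of_ncard_lt ht hlt.le _ hFcard
  have haF : a ∉ Γ \ {a} := fun h => h.2 rfl
  have hcF : c ∉ Γ \ {a} := fun h => hc h.1
  obtain ⟨h, hhF, hha⟩ := hflat a haF c hcF
  have hhinvF : ∀ z, z ∈ Γ \ {a} → h⁻¹ • z = z := fun z hz => by
    rw [inv_smul_eq_iff, hhF z hz]
  have hhinvc : h⁻¹ • c = a := by rw [inv_smul_eq_iff, hha]
  have hmemF : ∀ z, z ∈ Γ → z ≠ a → z ∈ Γ \ {a} := fun z hz hza => ⟨hz, hza⟩
  -- h⁻¹ maps points outside Γ other than c outside Γ, and a outside Γ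
  have hhinv_out : ∀ x, (x ∉ Γ ∧ x ≠ c) ∨ x = a → h⁻¹ • x ∉ Γ := by
    intro x hx hw
    by_cases hwa : h⁻¹ • x = a
    · have : x = c := by rw [← hha, ← hwa, smul_inv_smul]
      rcases hx with ⟨-, hxc⟩ | hxa
      · exact hxc this
      · rw [hxa] at this; rw [this] at ha; exact hc ha
    · have hwF := hmemF _ hw hwa
      have h1 := hhF _ hwF
      rw [smul_inv_smul] at h1
      rcases hx with ⟨hxΓ, -⟩ | hxa
      · rw [← h1] at hw; exact hxΓ hw
      · rw [← h1, hxa] at hwF; exact haF hwF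
  have hca : c ≠ a := fun h' => hc (h' ▸ ha)
  have hcb : c ≠ b := fun h' => hc (h' ▸ hb)
  refine ⟨g⁻¹ * (h * g * h⁻¹), b, c, a, hcb.symm, hca, Ne.symm hab, ?_, ?_, ?_, ?_⟩
  · -- b ↦ c
    rw [mul_smul, mul_smul, mul_smul, hhinvF b (hmemF b hb (Ne.symm hab)), hgb, hha, hginvΔ c hc]
  · -- c ↦ a
    rw [mul_smul, mul_smul, mul_smul, hhinvc]
    have h1 : g • a ∈ Γ := hgΓ a ha
    have h2 : g • a ≠ a := by
      intro h'
      have : g⁻¹ • a = a := by rw [inv_smul_eq_iff, h']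
      rw [hginvb] at this
      exact hab this.symm
    rw [hhF _ (hmemF _ h1 h2), inv_smul_smul]
  · -- a ↦ b
    rw [mul_smul, mul_smul, mul_smul]
    have h1 := hhinv_out a (Or.inr rfl)
    rw [hgΔ _ h1, smul_inv_smul, hginvb]
  · -- everything else is fixed
    intro x hxb hxc hxa
    rw [mul_smul, mul_smul, mul_smul]
    by_cases hxΓ : x ∈ Γ
    · rw [hhinvF x (hmemF x hxΓ hxa)]
      have h1 : g • x ∈ Γ := hgΓ x hxΓ
      have h2 : g • x ≠ a := by
        intro h'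
        have : x = g⁻¹ • a := by rw [← h', inv_smul_smul]
        rw [hginvb] at this
        exact hxb this
      rw [hhF _ (hmemF _ h1 h2), inv_smul_smul]
    · have h1 := hhinv_out x (Or.inl ⟨hxΓ, hxc⟩)
      rw [hgΔ _ h1, smul_inv_smul, hginvΔ x hxΓ]

end Cfsg.Agent.Lib.Helper2.JM
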