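import Mathlib

/-!
# Farm JR (S3206): the pairing lemma (PL)

An alternating bimultiplicative pairing on an elementary abelian group of order `8`, invariant
under a family of bijections which is transitive on the non-identity elements, is trivial.
-/

namespace Cfsg.Agent.Lib.Helper2.JRPair

variable {S M : Type*} [Group S] [CommGroup M]

section basic

variable (c : S → S → M)
  (hl : ∀ x y z, c (x * y) z = c x z * c y z)
  (hr : ∀ x y z, c x (y * z) = c x y * c x z)

include hl in
theorem c_one_left (y : S) : c 1 y = 1 := by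
  have h := hl 1 1 y
  rw [one_mul] at h
  exact (mul_eq_left.mp h.symm)

include hr in
theorem c_one_right (x : S) : c x 1 = 1 := by
  have h := hr x 1 1
  rw [one_mul] at h
  exact (mul_eq_left.mp h.symm)

include hl in
theorem c_sq (hexp : ∀ x : S, x * x = 1) (x y : S) : c x y * c x y = 1 := by
  rw [← hl, hexp, c_one_left c hl]

include hl hr in
theorem c_symm (hexp : ∀ x : S, x * x = 1) (halt : ∀ x, c x x = 1) (x y : S) :
    c y x = c x y := by
  have h := halt (x * y)
  rw [hl, hr, hr, halt, halt, one_mul, mul_one] at h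
  -- h : c x y * c y x = 1
  have h2 := c_sq c hl hexp x y
  have : c y x = (c x y)⁻¹ := eq_inv_of_mul_eq_one_right h
  rw [this]
  exact inv_eq_of_mul_eq_one_right h2

end basic

/-- **Pairing lemma.** -/
theorem pairing_trivial (hcard : Nat.card S = 8) (hexp : ∀ x : S, x * x = 1)
    (c : S → S → M)
    (hl : ∀ x y z, c (x * y) z = c x z * c y z)
    (hr : ∀ x y z, c x (y * z) = c x y * c x z)
    (halt : ∀ x, c x x = 1)
    (htrans : ∀ x y : S, x ≠ 1 → y ≠ 1 →
      ∃ f : S ≃ S, f x = y ∧ ∀ u v, c (f u) (f v) = c u v) :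
    ∀ x y, c x y = 1 := by
  classical
  by_contra hcon
  push_neg at hcon
  obtain ⟨x0, y0, hk⟩ := hcon
  set k := c x0 y0 with hkdef
  haveI : Finite S := Nat.finite_of_card_ne_zero (by rw [hcard]; norm_num)
  haveI : Fintype S := Fintype.ofFinite S
  have hcomm : ∀ a b : S, a * b = b * a := by
    intro a b
    have h1 := hexp (a * b)
    have h2 : a * b * (a * b) = a * a * (b * b) → a * b = b * a := by
      intro h
      have : a * (b * a) * b = a * (a * b) * b := by
        simpa [mul_assoc] using h
      exact (mul_left_cancel (mul_right_cancel this)).symm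
    apply h2
    rw [h1, hexp, hexp, one_mul]
  have hx0 : x0 ≠ 1 := by
    rintro rfl
    exact hk (c_one_left c hl y0)
  -- the kernel of `c x0`
  let K : Subgroup S :=
    { carrier := {v | c x0 v = 1}
      one_mem' := c_one_right c hr x0
      mul_mem' := by
        intro a b ha hb
        simp only [Set.mem_setOf_eq] at ha hb ⊢
        rw [hr, ha, hb, one_mul]
      inv_mem' := by
        intro a ha
        simp only [Set.mem_setOf_eq] at ha ⊢
        have : a⁻¹ = a := inv_eq_of_mul_eq_one_right (hexp a)
        rw [this]; exact ha }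
  have hKmem : ∀ v, v ∈ K ↔ c x0 v = 1 := fun v => Iff.rfl
  have hKcard : Nat.card K = 2 ∨ Nat.card K = 4 := by
    have hdvd : Nat.card K ∣ 8 := hcard ▸ Subgroup.card_subgroup_dvd_card K
    have hne8 : Nat.card K ≠ 8 := by
      intro h
      have : K = ⊤ := (Subgroup.card_eq_iff_eq_top K).mp (h.trans hcard.symm)
      have hy : y0 ∈ K := this ▸ Subgroup.mem_top y0
      exact hk ((hKmem y0).mp hy)
    have hne1 : Nat.card K ≠ 1 := by
      intro h
      have : K = ⊥ := Subgroup.card_eq_one.mp h
      have hx : x0 ∈ K := (hKmem x0).mpr (halt x0)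
      rw [this, Subgroup.mem_bot] at hx
      exact hx0 hx
    have h8 : (8 : ℕ) = 2 ^ 3 := by norm_num
    rw [h8] at hdvd
    obtain ⟨m, hm, hmeq⟩ := (Nat.dvd_prime_pow Nat.prime_two).mp hdvd
    interval_cases m <;> simp_all
  -- the fibre over `x0`
  have hA : Nat.card {v : S // c x0 v = k} = Nat.card K := by
    apply Nat.card_congr
    refine ⟨fun v => ⟨y0 * v.1, ?_⟩, fun v => ⟨y0 * v.1, ?_⟩, ?_, ?_⟩
    · rw [hKmem, hr, v.2, ← hkdef]
      exact c_sq c hl hexp x0 y0
    · rw [hr, (hKmem _).mp v.2, mul_one]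
    · intro v
      apply Subtype.ext
      simp only
      rw [← mul_assoc, hexp, one_mul]
    · intro v
      apply Subtype.ext
      simp only
      rw [← mul_assoc, hexp, one_mul]
  -- the set `T`
  let T := {p : S × S // p.1 ≠ 1 ∧ c p.1 p.2 = k}
  choose! f hf1 hf2 using htrans
  have hT : Nat.card T = 7 * Nat.card K := by
    have e : T ≃ {u : S // u ≠ 1} × {v : S // c x0 v = k} :=
      { toFun := fun p => (⟨p.1.1, p.2.1⟩, ⟨(f x0 p.1.1).symm p.1.2, by
            have h := hf2 x0 p.1.1 hx0 p.2.1 x0 ((f x0 p.1.1).symm p.1.2)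
            rw [Equiv.apply_symm_apply, hf1 x0 p.1.1 hx0 p.2.1] at h
            rw [← h]; exact p.2.2⟩)
        invFun := fun q => ⟨(q.1.1, f x0 q.1.1 q.2.1), q.1.2, by
            have h := hf2 x0 q.1.1 hx0 q.1.2 x0 q.2.1
            rw [hf1 x0 q.1.1 hx0 q.1.2] at h
            simp only
            rw [h]; exact q.2.2⟩
        left_inv := by
          intro p
          apply Subtype.ext
          simp
        right_inv := by
          intro q
          ext <;> simp }
    rw [Nat.card_congr e, Nat.card_prod, hA]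
    congr 1
    have h1 : Nat.card {u : S // u ≠ 1} = Nat.card S - 1 := by
      rw [Nat.card_eq_fintype_card, Nat.card_eq_fintype_card, Fintype.card_subtype_compl,
        Fintype.card_subtype_eq]
    rw [h1, hcard]
  -- the permutation `τ`
  have hτmem : ∀ p : T, (p.1.2, p.1.1 * p.1.2).1 ≠ 1 ∧
      c (p.1.2, p.1.1 * p.1.2).1 (p.1.2, p.1.1 * p.1.2).2 = k := by
    intro p
    refine ⟨?_, ?_⟩
    · intro h
      simp only at h
      have := p.2.2
      rw [h, c_one_right c hr] at this
      exact hk this.symm
    · simp only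
      rw [hr, halt, mul_one, c_symm c hl hr hexp halt]
      exact p.2.2
  let τ : T → T := fun p => ⟨(p.1.2, p.1.1 * p.1.2), hτmem p⟩
  have h3a : ∀ u v : S, v * (u * v) = u := by
    intro u v
    rw [hcomm u v, ← mul_assoc, hexp, one_mul]
  have h3b : ∀ u v : S, u * v * (v * (u * v)) = v := by
    intro u v
    rw [h3a]
  have hτ3 : ∀ p, τ (τ (τ p)) = p := by
    intro p
    apply Subtype.ext
    apply Prod.ext
    · exact h3a p.1.1 p.1.2
    · exact h3b p.1.1 p.1.2
  let σ : Equiv.Perm T :=
    { toFun := τ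
      invFun := fun p => τ (τ p)
      left_inv := hτ3
      right_inv := hτ3 }
  have hσ3 : σ ^ 3 ^ 1 = 1 := by
    ext1 p
    have : (σ ^ 3 ^ 1) p = τ (τ (τ p)) := by
      simp only [pow_one, pow_succ, pow_zero, one_mul, Equiv.Perm.coe_mul, Function.comp_apply]
      rfl
    rw [this, hτ3]
    rfl
  haveI : Fact (Nat.Prime 3) := ⟨Nat.prime_three⟩
  haveI : Finite T := Subtype.finite
  haveI : Fintype T := Fintype.ofFinite T
  have hnd : ¬ 3 ∣ Fintype.card T := by
    rw [← Nat.card_eq_fintype_card, hT]
    rcases hKcard with h | h <;> rw [h] <;> decide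
  obtain ⟨p, hp⟩ := Equiv.Perm.exists_fixed_point_of_prime (p := 3) (n := 1) hnd hσ3
  have h2 : p.1.2 = p.1.1 := by
    have := congrArg (fun q : T => q.1.1) hp
    exact this
  have := p.2.2
  rw [h2, halt] at this
  exact hk this.symm

end Cfsg.Agent.Lib.Helper2.JRPair
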