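import Mathlib
import Cfsg.Agent.Lib.Helper2.JRPair

set_option autoImplicit false

/-! Farm JR (S3206): unit CE (central extensions: the preimage of `S` is abelian), verbatim from
`Helper9.JRStubs.CE`. -/

namespace Cfsg.Agent.Lib.Helper2.JRCE

variable {G : Type*} [Group G]

section comm

variable {L : Type*} [Group L]

/-- the commutator `a b a⁻¹ b⁻¹` -/
def kap (a b : L) : L := a * b * a⁻¹ * b⁻¹

theorem kap_mul_central_left {z : L} (hz : z ∈ Subgroup.center L) (a b : L) :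
    kap (a * z) b = kap a b := by
  have h : z * b = b * z := (Subgroup.mem_center_iff.mp hz b).symm
  unfold kap
  calc a * z * b * (a * z)⁻¹ * b⁻¹ = a * (z * b) * z⁻¹ * a⁻¹ * b⁻¹ := by group
    _ = a * (b * z) * z⁻¹ * a⁻¹ * b⁻¹ := by rw [h]
    _ = a * b * a⁻¹ * b⁻¹ := by group

theorem kap_mul_central_right {z : L} (hz : z ∈ Subgroup.center L) (a b : L) :
    kap a (b * z) = kap a b := by
  have h : z * a⁻¹ = a⁻¹ * z := (Subgroup.mem_center_iff.mp hz a⁻¹).symm
  unfold kap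
  calc a * (b * z) * a⁻¹ * (b * z)⁻¹ = a * b * (z * a⁻¹) * z⁻¹ * b⁻¹ := by group
    _ = a * b * (a⁻¹ * z) * z⁻¹ * b⁻¹ := by rw [h]
    _ = a * b * a⁻¹ * b⁻¹ := by group

theorem kap_mul_left {a a' b : L} (hz : kap a' b ∈ Subgroup.center L) :
    kap (a * a') b = kap a b * kap a' b := by
  have h : kap a' b * (b * a⁻¹ * b⁻¹) = (b * a⁻¹ * b⁻¹) * kap a' b :=
    (Subgroup.mem_center_iff.mp hz (b * a⁻¹ * b⁻¹)).symm
  calc kap (a * a') b = a * (kap a' b * (b * a⁻¹ * b⁻¹)) := by unfold kap; group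
    _ = a * ((b * a⁻¹ * b⁻¹) * kap a' b) := by rw [h]
    _ = kap a b * kap a' b := by unfold kap; group

theorem kap_mul_right {a b b' : L} (hz : kap a b' ∈ Subgroup.center L) :
    kap a (b * b') = kap a b * kap a b' := by
  have h : kap a b' * b⁻¹ = b⁻¹ * kap a b' :=
    (Subgroup.mem_center_iff.mp hz b⁻¹).symm
  calc kap a (b * b') = a * b * a⁻¹ * (kap a b' * b⁻¹) := by unfold kap; group
    _ = a * b * a⁻¹ * (b⁻¹ * kap a b') := by rw [h]
    _ = kap a b * kap a b' := by unfold kap; group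

theorem kap_conj {a b : L} (hz : kap a b ∈ Subgroup.center L) (m : L) :
    kap (m * a * m⁻¹) (m * b * m⁻¹) = kap a b := by
  have h : kap a b * m⁻¹ = m⁻¹ * kap a b := (Subgroup.mem_center_iff.mp hz m⁻¹).symm
  calc kap (m * a * m⁻¹) (m * b * m⁻¹) = m * (kap a b * m⁻¹) := by unfold kap; group
    _ = m * (m⁻¹ * kap a b) := by rw [h]
    _ = kap a b := by group

theorem kap_self (a : L) : kap a a = 1 := by unfold kap; group

end comm

theorem CE {L : Type*} [Group L] (π : L →* G) (hπ : Function.Surjective π)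
    (hker : π.ker ≤ Subgroup.center L) (S : Subgroup G) (h8 : Nat.card S = 8)
    (hexp : ∀ s ∈ S, s * s = 1)
    (htrans : ∀ x ∈ S, ∀ y ∈ S, x ≠ 1 → y ≠ 1 →
      ∃ n ∈ Subgroup.normalizer (S : Set G), n * x * n⁻¹ = y) :
    ∀ a ∈ S.comap π, ∀ b ∈ S.comap π, a * b = b * a := by
  classical
  have hScomm : ∀ x ∈ S, ∀ y ∈ S, x * y = y * x := by
    intro x hx y hy
    have hxi : x⁻¹ = x := inv_eq_of_mul_eq_one_right (hexp x hx)
    have hyi : y⁻¹ = y := inv_eq_of_mul_eq_one_right (hexp y hy)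
    have h : (x * y)⁻¹ = x * y := inv_eq_of_mul_eq_one_right (hexp _ (S.mul_mem hx hy))
    rw [mul_inv_rev, hxi, hyi] at h
    exact h.symm
  have hcen : ∀ a b : L, π a ∈ S → π b ∈ S → kap a b ∈ Subgroup.center L := by
    intro a b ha hb
    apply hker
    rw [MonoidHom.mem_ker]
    unfold kap
    simp only [map_mul, map_inv]
    rw [hScomm _ ha _ hb]
    group
  -- independence of the lifts
  have hind : ∀ a a' b b' : L, π a = π a' → π b = π b' → kap a b = kap a' b' := by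
    intro a a' b b' h1 h2
    have hz1 : a⁻¹ * a' ∈ Subgroup.center L := by
      apply hker
      rw [MonoidHom.mem_ker, map_mul, map_inv, h1, inv_mul_cancel]
    have hz2 : b⁻¹ * b' ∈ Subgroup.center L := by
      apply hker
      rw [MonoidHom.mem_ker, map_mul, map_inv, h2, inv_mul_cancel]
    have e1 : a' = a * (a⁻¹ * a') := by group
    have e2 : b' = b * (b⁻¹ * b') := by group
    rw [e1, e2, kap_mul_central_left hz1, kap_mul_central_right hz2]
  set ℓ : G → L := Function.surjInv hπ with hℓ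
  have hπℓ : ∀ g, π (ℓ g) = g := Function.surjInv_eq hπ
  have hmemℓ : ∀ s : S, π (ℓ s.1) ∈ S := fun s => by rw [hπℓ]; exact s.2
  letI : CommGroup (Subgroup.center L) :=
    { (inferInstance : Group (Subgroup.center L)) with
      mul_comm := fun a b => Subtype.ext (Subgroup.mem_center_iff.mp b.2 a.1) }
  let c : S → S → Subgroup.center L := fun s s' =>
    ⟨kap (ℓ s.1) (ℓ s'.1), hcen _ _ (hmemℓ s) (hmemℓ s')⟩
  have hc1 : ∀ x y : S, c x y = 1 := by
    apply Cfsg.Agent.Lib.Helper2.JRPair.pairing_trivial h8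
      (fun x => Subtype.ext (hexp x.1 x.2)) c
    · intro x y z
      apply Subtype.ext
      show kap (ℓ (x.1 * y.1)) (ℓ z.1) = kap (ℓ x.1) (ℓ z.1) * kap (ℓ y.1) (ℓ z.1)
      rw [← kap_mul_left (hcen _ _ (hmemℓ y) (hmemℓ z))]
      apply hind
      · rw [map_mul, hπℓ, hπℓ, hπℓ]
      · rfl
    · intro x y z
      apply Subtype.ext
      show kap (ℓ x.1) (ℓ (y.1 * z.1)) = kap (ℓ x.1) (ℓ y.1) * kap (ℓ x.1) (ℓ z.1)
      rw [← kap_mul_right (hcen _ _ (hmemℓ x) (hmemℓ z))]
      apply hind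
      · rfl
      · rw [map_mul, hπℓ, hπℓ, hπℓ]
    · intro x
      apply Subtype.ext
      exact kap_self _
    · intro x y hx hy
      obtain ⟨n, hn, hnxy⟩ := htrans x.1 x.2 y.1 y.2
        (fun h => hx (Subtype.ext h)) (fun h => hy (Subtype.ext h))
      have hn' : ∀ h, h ∈ S ↔ n * h * n⁻¹ ∈ S := Subgroup.mem_normalizer_iff.mp hn
      have hn'' : ∀ h, h ∈ S → n⁻¹ * h * n ∈ S := by
        intro h hh
        rw [hn']
        have : n * (n⁻¹ * h * n) * n⁻¹ = h := by group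
        rw [this]; exact hh
      refine ⟨⟨fun s => ⟨n * s.1 * n⁻¹, (hn' _).mp s.2⟩, fun s => ⟨n⁻¹ * s.1 * n, hn'' _ s.2⟩,
        ?_, ?_⟩, ?_, ?_⟩
      · intro s
        apply Subtype.ext
        show n⁻¹ * (n * s.1 * n⁻¹) * n = s.1
        group
      · intro s
        apply Subtype.ext
        show n * (n⁻¹ * s.1 * n) * n⁻¹ = s.1
        group
      · apply Subtype.ext
        exact hnxy
      · intro u v
        apply Subtype.ext
        show kap (ℓ (n * u.1 * n⁻¹)) (ℓ (n * v.1 * n⁻¹)) = kap (ℓ u.1) (ℓ v.1)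
        rw [← kap_conj (hcen _ _ (hmemℓ u) (hmemℓ v)) (ℓ n)]
        apply hind
        · simp only [map_mul, map_inv, hπℓ]
        · simp only [map_mul, map_inv, hπℓ]
  intro a ha b hb
  have h1 : kap a b = kap (ℓ (π a)) (ℓ (π b)) := by
    apply hind
    · rw [hπℓ]
    · rw [hπℓ]
  have h2 : kap (ℓ (π a)) (ℓ (π b)) = 1 := by
    have := congrArg Subtype.val (hc1 ⟨π a, ha⟩ ⟨π b, hb⟩)
    exact this
  rw [h2] at h1
  unfold kap at h1
  have : a * b = (a * b * a⁻¹ * b⁻¹) * (b * a) := by group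
  rw [this, h1, one_mul]

end Cfsg.Agent.Lib.Helper2.JRCE
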