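import Mathlib
import Cfsg.Agent.Lib.Helper5.AutPSL2.Main

set_option autoImplicit false

/-! Farm JR (S3206): part (a) of unit P2: for `q ≡ 3, 5 (mod 8)` an automorphism of `PSL₂(F)` of
2-power order is induced by an element of `GL₂(F)`. -/

namespace Cfsg.Agent.Lib.Helper2.JRP2a

open Cfsg.Agent.Lib.Helper5.AutPSL2

theorem P2a {F : Type*} [Field F] [Fintype F]
    (hq : Fintype.card F % 8 = 3 ∨ Fintype.card F % 8 = 5)
    (α : MulAut (Matrix.ProjectiveSpecialLinearGroup (Fin 2) F)) (k : ℕ)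
    (hα : α ^ (2 ^ k) = 1) : ∃ A : GL (Fin 2) F, cG F A = α := by
  classical
  obtain ⟨p, hchar⟩ := CharP.exists F
  obtain ⟨n, hp, hcard⟩ := FiniteField.card F p
  haveI : Fact p.Prime := ⟨hp⟩
  have hcard' : Nat.card F = p ^ (n : ℕ) := by rw [Nat.card_eq_fintype_card]; exact hcard
  obtain ⟨_, hRA⟩ := ringAut_cyclic_card (F := F) p (n : ℕ) hcard'
  -- `n` is odd
  have hodd : Odd (n : ℕ) := by
    rw [← Nat.not_even_iff_odd]
    rintro ⟨m, hm⟩
    have h1 : Fintype.card F = (p ^ m) * (p ^ m) := by rw [hcard, hm, pow_add]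
    have h2 : ∀ a : ℕ, (a * a) % 8 = 0 ∨ (a * a) % 8 = 1 ∨ (a * a) % 8 = 4 := by
      intro a
      have : a % 8 < 8 := Nat.mod_lt _ (by norm_num)
      rw [Nat.mul_mod]
      interval_cases (a % 8) <;> simp
    rcases h2 (p ^ m) with h | h | h <;> rw [← h1] at h <;> omega
  -- `sig p α = 1`
  have h1 : (sig p α) ^ (2 ^ k) = 1 := by rw [← map_pow, hα, map_one]
  have h2 : (sig p α) ^ (n : ℕ) = 1 := by
    rw [← hRA]
    exact pow_card_eq_one'
  have hcop : Nat.Coprime (2 ^ k) (n : ℕ) :=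
    Nat.Coprime.pow_left k (Nat.coprime_two_left.mpr hodd)
  have h3 : sig p α = 1 := by
    have hd1 := orderOf_dvd_of_pow_eq_one h1
    have hd2 := orderOf_dvd_of_pow_eq_one h2
    have := Nat.dvd_gcd hd1 hd2
    rw [hcop.gcd_eq_one, Nat.dvd_one] at this
    exact orderOf_eq_one_iff.mp this
  have h4 : α ∈ (sig (F := F) p).ker := h3
  rw [sig_ker] at h4
  exact h4

end Cfsg.Agent.Lib.Helper2.JRP2a
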