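import Mathlib
import Cfsg.Agent.Lib.Helper2.JRPair

set_option autoImplicit false

/-! Farm JR (S3206): unit PL (the pairing lemma), verbatim from `Helper9.JRStubs.PL`. -/

namespace Cfsg.Agent.Lib.Helper2.JRPL

theorem PL {S0 M R : Type*} [Group S0] [Finite S0] [CommGroup M] [Group R]
    (h8 : Nat.card S0 = 8) (hexp : ∀ x : S0, x * x = 1) (act : R →* MulAut S0)
    (htrans : ∀ x y : S0, x ≠ 1 → y ≠ 1 → ∃ r, act r x = y) (c : S0 → S0 → M)
    (hl : ∀ x y z, c (x * y) z = c x z * c y z) (hr : ∀ x y z, c x (y * z) = c x y * c x z)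
    (halt : ∀ x, c x x = 1) (hinv : ∀ r x y, c (act r x) (act r y) = c x y) :
    ∀ x y, c x y = 1 := by
  apply Cfsg.Agent.Lib.Helper2.JRPair.pairing_trivial h8 hexp c hl hr halt
  intro x y hx hy
  obtain ⟨r, hr'⟩ := htrans x y hx hy
  exact ⟨(act r).toEquiv, hr', fun u v => hinv r u v⟩

end Cfsg.Agent.Lib.Helper2.JRPL
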