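import Mathlib
import Cfsg.Agent.Lib.Helper2.ElusA
set_option autoImplicit false
set_option maxHeartbeats 1000000
set_option linter.unusedVariables false
set_option linter.unusedSectionVars false
set_option linter.style.longLine false
set_option linter.unusedSimpArgs false
set_option linter.deprecated false
set_option linter.style.haveILetI false

/-! Jordan types of nilpotent operators (part A): truncated sums of multisets, ranks of powers on
invariant subspaces, existence of a cyclic decomposition with all sub-sums realised by invariant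
direct summands, and the Krull–Schmidt consequence. -/

namespace Cfsg.Agent.Lib.Helper2.Jord

open Module Cfsg.Agent.Lib.Helper2

universe u v

section Multi

/-- truncated sums `∑ (a - k)` -/
def S (μ : Multiset ℕ) (k : ℕ) : ℕ := (μ.map (fun a => a - k)).sum

theorem S_zero (k : ℕ) : S 0 k = 0 := by simp [S]

theorem S_cons (a : ℕ) (μ : Multiset ℕ) (k : ℕ) : S (a ::ₘ μ) k = (a - k) + S μ k := by
  simp [S]

theorem S_add (μ ν : Multiset ℕ) (k : ℕ) : S (μ + ν) k = S μ k + S ν k := by
  simp [S]

theorem S_at_zero (μ : Multiset ℕ) : S μ 0 = μ.sum := by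
  simp [S]

theorem S_succ (μ : Multiset ℕ) (k : ℕ) :
    S μ k = Multiset.countP (fun a => k < a) μ + S μ (k + 1) := by
  induction μ using Multiset.induction_on with
  | empty => simp [S]
  | cons a μ ih =>
    rw [S_cons, S_cons, Multiset.countP_cons, ih]
    split_ifs with h <;> omega

theorem countP_succ (μ : Multiset ℕ) (k : ℕ) :
    Multiset.countP (fun a => k < a) μ =
      Multiset.count (k + 1) μ + Multiset.countP (fun a => k + 1 < a) μ := by
  induction μ using Multiset.induction_on with
  | empty => simp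
  | cons a μ ih =>
    rw [Multiset.countP_cons, Multiset.countP_cons, Multiset.count_cons, ih]
    split_ifs <;> omega

theorem eq_of_S_eq (μ ν : Multiset ℕ) (hμ : 0 ∉ μ) (hν : 0 ∉ ν) (h : ∀ k, S μ k = S ν k) :
    μ = ν := by
  classical
  have hc : ∀ k, Multiset.countP (fun a => k < a) μ = Multiset.countP (fun a => k < a) ν := by
    intro k
    have h1 := S_succ μ k
    have h2 := S_succ ν k
    have h3 := h k
    have h4 := h (k + 1)
    omega
  rw [Multiset.ext]
  intro a
  cases a with
  | zero => rw [Multiset.count_eq_zero_of_notMem hμ, Multiset.count_eq_zero_of_notMem hν]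
  | succ k =>
    have h1 := countP_succ μ k
    have h2 := countP_succ ν k
    have h3 := hc k
    have h4 := hc (k + 1)
    omega

end Multi

section Op

variable {F : Type u} [Field F] {V : Type v} [AddCommGroup V] [Module F V]
  [FiniteDimensional F V]

/-- rank of `N ^ k` on `W` -/
noncomputable def rk (N : Module.End F V) (W : Submodule F V) (k : ℕ) : ℕ :=
  finrank F (W.map (N ^ k))

theorem inv_pow {N : Module.End F V} {W : Submodule F V} (h : Elus.Inv N W) (k : ℕ) :
    Elus.Inv (N ^ k) W := by
  induction k with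
  | zero =>
    intro x hx
    simpa using hx
  | succ k ih =>
    intro x hx
    rw [pow_succ', Module.End.mul_apply]
    exact h _ (ih x hx)

theorem rk_sup (N : Module.End F V) {A B : Submodule F V} (hA : Elus.Inv N A)
    (hB : Elus.Inv N B) (h : Disjoint A B) (k : ℕ) :
    rk N (A ⊔ B) k = rk N A k + rk N B k := by
  unfold rk
  rw [Submodule.map_sup]
  apply Elus.finrank_sup_of_disjoint
  have hA' : A.map (N ^ k) ≤ A := Elus.inv_iff_map_le.mp (inv_pow hA k)
  have hB' : B.map (N ^ k) ≤ B := Elus.inv_iff_map_le.mp (inv_pow hB k)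
  exact h.mono hA' hB'

theorem rk_bot (N : Module.End F V) (k : ℕ) : rk N ⊥ k = 0 := by
  unfold rk
  rw [Submodule.map_bot, finrank_bot]

theorem pow_apply_eq_zero_of_le (N : Module.End F V) (v : V) (k0 : ℕ) (hv : (N ^ k0) v = 0)
    (k : ℕ) (hk : k0 ≤ k) : (N ^ k) v = 0 := by
  obtain ⟨t, rfl⟩ := Nat.exists_eq_add_of_le hk
  rw [add_comm, pow_add, Module.End.mul_apply, hv, map_zero]

theorem pow_pow_apply (N : Module.End F V) (v : V) (a b : ℕ) :
    (N ^ a) ((N ^ b) v) = (N ^ (a + b)) v := by
  rw [pow_add, Module.End.mul_apply]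

/-- the cyclic subspace generated by `v` -/
noncomputable def cyc (N : Module.End F V) (v : V) (k0 : ℕ) : Submodule F V :=
  Submodule.span F (Set.range (fun j : Fin k0 => (N ^ (j : ℕ)) v))

theorem cyc_rk (N : Module.End F V) (v : V) (k0 : ℕ) (hv : (N ^ k0) v = 0)
    (hli : LinearIndependent F (fun j : Fin k0 => (N ^ (j : ℕ)) v)) (k : ℕ) :
    rk N (cyc N v k0) k = k0 - k := by
  unfold rk cyc
  rw [Submodule.map_span, ← Set.range_comp]
  have hspan : Submodule.span F (Set.range ((N ^ k) ∘ fun j : Fin k0 => (N ^ (j : ℕ)) v)) =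
      Submodule.span F (Set.range (fun i : Fin (k0 - k) => (N ^ (k + (i : ℕ))) v)) := by
    apply le_antisymm
    · rw [Submodule.span_le]
      rintro _ ⟨j, rfl⟩
      show (N ^ k) ((N ^ (j : ℕ)) v) ∈ _
      rw [pow_pow_apply]
      by_cases hj : k + (j : ℕ) < k0
      · exact Submodule.subset_span ⟨⟨j, by omega⟩, rfl⟩
      · rw [pow_apply_eq_zero_of_le N v k0 hv _ (by omega)]
        exact zero_mem _
    · rw [Submodule.span_le]
      rintro _ ⟨i, rfl⟩
      apply Submodule.subset_span
      refine ⟨⟨i, by omega⟩, ?_⟩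
      show (N ^ k) ((N ^ (i : ℕ)) v) = _
      rw [pow_pow_apply]
  rw [hspan]
  have hli' : LinearIndependent F (fun i : Fin (k0 - k) => (N ^ (k + (i : ℕ))) v) := by
    have := hli.comp (fun i : Fin (k0 - k) => (⟨k + (i : ℕ), by omega⟩ : Fin k0)) (by
      intro a b hab
      apply Fin.ext
      have := congrArg Fin.val hab
      simp only at this
      omega)
    exact this
  rw [finrank_span_eq_card hli', Fintype.card_fin]

theorem cyc_finrank (N : Module.End F V) (v : V) (k0 : ℕ)
    (hli : LinearIndependent F (fun j : Fin k0 => (N ^ (j : ℕ)) v)) :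
    finrank F (cyc N v k0) = k0 := by
  unfold cyc
  rw [finrank_span_eq_card hli, Fintype.card_fin]

theorem cyc_inv (N : Module.End F V) (v : V) (k0 : ℕ) (hv : (N ^ k0) v = 0) :
    Elus.Inv N (cyc N v k0) := by
  rw [Elus.inv_iff_map_le]
  unfold cyc
  rw [Submodule.map_span, Submodule.span_le]
  rintro _ ⟨_, ⟨j, rfl⟩, rfl⟩
  show N ((N ^ (j : ℕ)) v) ∈ _
  have h1 : N ((N ^ (j : ℕ)) v) = (N ^ ((j : ℕ) + 1)) v := by
    rw [pow_succ', Module.End.mul_apply]
  rw [h1]
  by_cases hj : (j : ℕ) + 1 < k0
  · exact Submodule.subset_span ⟨⟨(j : ℕ) + 1, hj⟩, rfl⟩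
  · rw [pow_apply_eq_zero_of_le N v k0 hv _ (by omega)]
    exact zero_mem _

/-- the key triangular argument -/
theorem key (N : Module.End F V) (v : V) (j : ℕ) (hv : (N ^ (j + 1)) v = 0)
    (f : Module.Dual F V) (hf : f ((N ^ j) v) ≠ 0) (c : Fin (j + 1) → F)
    (h : ∀ i : Fin (j + 1), f ((N ^ (i : ℕ)) (∑ t : Fin (j + 1), c t • (N ^ (t : ℕ)) v)) = 0) :
    ∀ i : Fin (j + 1), c i = 0 := by
  have main : ∀ (i : ℕ) (hi : i < j + 1), c ⟨i, hi⟩ = 0 := by
    intro i
    induction i using Nat.strong_induction_on with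
    | _ i ih =>
      intro hi
      have h1 := h ⟨j - i, by omega⟩
      simp only [map_sum, map_smul, smul_eq_mul] at h1
      rw [Finset.sum_eq_single (⟨i, hi⟩ : Fin (j + 1))] at h1
      · simp only [pow_pow_apply] at h1
        have h2 : j - i + i = j := by omega
        rw [h2] at h1
        rcases mul_eq_zero.mp h1 with h3 | h3
        · exact h3
        · exact absurd h3 hf
      · intro t _ hti
        rcases Nat.lt_or_ge (t : ℕ) i with hlt | hge
        · have : c t = 0 := by
            have := ih (t : ℕ) hlt t.2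
            simpa using this
          rw [this, zero_mul]
        · have hne : (t : ℕ) ≠ i := fun h => hti (Fin.ext h)
          rw [pow_pow_apply, pow_apply_eq_zero_of_le N v (j + 1) hv _ (by omega), map_zero,
            mul_zero]
      · intro h
        exact absurd (Finset.mem_univ _) h
  intro i
  have := main (i : ℕ) i.2
  simpa using this

theorem disjoint_sup_of {C W' U' Z' : Submodule F V} (hCW : Disjoint C W') (hU : U' ≤ W')
    (hZ : Z' ≤ W') (hUZ : Disjoint U' Z') : Disjoint (C ⊔ U') Z' := by
  rw [Submodule.disjoint_def]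
  intro x hx hxZ
  obtain ⟨c, hc, u, hu, rfl⟩ := Submodule.mem_sup.mp hx
  have hcW : c ∈ W' := by
    have h1 : c = (c + u) - u := by abel
    rw [h1]
    exact Submodule.sub_mem _ (hZ hxZ) (hU hu)
  have hc0 : c = 0 := (Submodule.disjoint_def.mp hCW) c hc hcW
  subst hc0
  rw [zero_add] at hxZ ⊢
  exact (Submodule.disjoint_def.mp hUZ) u hu hxZ

theorem exists_type (N : Module.End F V) (e : ℕ) (hN : N ^ e = 0) :
    ∀ (d : ℕ) (W : Submodule F V), finrank F W = d → Elus.Inv N W →
      ∃ μ : Multiset ℕ, (∀ a ∈ μ, 0 < a ∧ a ≤ e) ∧ μ.sum = d ∧ (∀ k, rk N W k = S μ k) ∧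
        ∀ ν : Multiset ℕ, ν ≤ μ → ∃ U Z : Submodule F V, Elus.Inv N U ∧ Elus.Inv N Z ∧
          Disjoint U Z ∧ U ⊔ Z = W ∧ finrank F U = ν.sum := by
  classical
  intro d
  induction d using Nat.strong_induction_on with
  | _ d ih =>
    intro W hWd hW
    by_cases hW0 : W = ⊥
    · subst hW0
      rw [finrank_bot] at hWd
      subst hWd
      refine ⟨0, by simp, by simp, fun k => by rw [rk_bot, S_zero], ?_⟩
      intro ν hν
      rw [Multiset.le_zero] at hν
      subst hν
      exact ⟨⊥, ⊥, Elus.inv_bot N, Elus.inv_bot N, disjoint_bot_left, by simp, by simp⟩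
    · -- nilpotency index on W
      have hex : ∃ k, W ≤ LinearMap.ker (N ^ k) := ⟨e, by rw [hN, LinearMap.ker_zero]; exact le_top⟩
      set k0 := Nat.find hex with hk0
      have hk0W : W ≤ LinearMap.ker (N ^ k0) := Nat.find_spec hex
      have hk0e : k0 ≤ e := Nat.find_min' hex (by rw [hN, LinearMap.ker_zero]; exact le_top)
      have hk0pos : k0 ≠ 0 := by
        intro h0
        rw [h0, pow_zero] at hk0W
        apply hW0
        rw [eq_bot_iff]
        intro x hx
        have := hk0W hx
        rw [LinearMap.mem_ker, Module.End.one_apply] at this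
        rw [this]
        exact zero_mem _
      obtain ⟨j, hj⟩ := Nat.exists_eq_succ_of_ne_zero hk0pos
      have hjnot : ¬ W ≤ LinearMap.ker (N ^ j) := Nat.find_min hex (by omega)
      obtain ⟨v, hvW, hvj⟩ := SetLike.not_le_iff_exists.mp hjnot
      rw [LinearMap.mem_ker] at hvj
      have hvk0 : (N ^ (j + 1)) v = 0 := by
        have := hk0W hvW
        rw [LinearMap.mem_ker, hj] at this
        exact this
      obtain ⟨f, hf⟩ : ∃ f : Module.Dual F V, f ((N ^ j) v) ≠ 0 := by
        by_contra hcon
        push Not at hcon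
        exact hvj ((Module.forall_dual_apply_eq_zero_iff F _).mp hcon)
      -- linear independence
      have hli : LinearIndependent F (fun t : Fin (j + 1) => (N ^ (t : ℕ)) v) := by
        rw [Fintype.linearIndependent_iff]
        intro c hc
        apply key N v j hvk0 f hf c
        intro i
        rw [hc, map_zero, map_zero]
      set C := cyc N v (j + 1) with hC
      have hCinv : Elus.Inv N C := cyc_inv N v (j + 1) hvk0
      have hCW : C ≤ W := by
        rw [hC]
        unfold cyc
        rw [Submodule.span_le]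
        rintro _ ⟨t, rfl⟩
        exact inv_pow hW _ v hvW
      have hCfin : finrank F C = j + 1 := cyc_finrank N v (j + 1) hli
      -- the complement
      let Φ : V →ₗ[F] (Fin (j + 1) → F) := LinearMap.pi (fun i => f ∘ₗ (N ^ (i : ℕ)))
      set W' := W ⊓ LinearMap.ker Φ with hW'
      have hW'W : W' ≤ W := inf_le_left
      have hmemW' : ∀ x, x ∈ W' ↔ x ∈ W ∧ ∀ i : Fin (j + 1), f ((N ^ (i : ℕ)) x) = 0 := by
        intro x
        rw [hW', Submodule.mem_inf, LinearMap.mem_ker]
        constructor
        · rintro ⟨h1, h2⟩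
          refine ⟨h1, fun i => ?_⟩
          have := congrFun h2 i
          simpa [Φ] using this
        · rintro ⟨h1, h2⟩
          refine ⟨h1, ?_⟩
          funext i
          simpa [Φ] using h2 i
      have hW'inv : Elus.Inv N W' := by
        intro x hx
        rw [hmemW'] at hx ⊢
        refine ⟨hW x hx.1, fun i => ?_⟩
        have h1 : (N ^ (i : ℕ)) (N x) = (N ^ ((i : ℕ) + 1)) x := by
          rw [pow_succ, Module.End.mul_apply]
        rw [h1]
        by_cases hi : (i : ℕ) + 1 < j + 1
        · exact hx.2 ⟨(i : ℕ) + 1, hi⟩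
        · have h2 : (i : ℕ) + 1 = k0 := by
            have := i.2
            omega
          rw [h2]
          have := hk0W hx.1
          rw [LinearMap.mem_ker] at this
          rw [this, map_zero]
      have hdisj : Disjoint C W' := by
        rw [Submodule.disjoint_def]
        intro x hxC hxW'
        rw [hC] at hxC
        unfold cyc at hxC
        obtain ⟨c, rfl⟩ := (Submodule.mem_span_range_iff_exists_fun F).mp hxC
        have hc0 := key N v j hvk0 f hf c ((hmemW' _).mp hxW').2
        apply Finset.sum_eq_zero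
        intro t _
        rw [hc0 t, zero_smul]
      have hW'fin : d ≤ finrank F W' + (j + 1) := by
        have h1 := LinearMap.finrank_range_add_finrank_ker (Φ.domRestrict W)
        have h2 : finrank F (LinearMap.range (Φ.domRestrict W)) ≤ j + 1 := by
          have := Submodule.finrank_le (LinearMap.range (Φ.domRestrict W))
          rw [Module.finrank_fin_fun] at this
          exact this
        have h3 : finrank F (LinearMap.ker (Φ.domRestrict W)) = finrank F W' := by
          rw [LinearMap.ker_domRestrict, ← Submodule.finrank_map_subtype_eq W,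
            Submodule.map_comap_subtype]
        rw [hWd, h3] at h1
        omega
      have hsupfin : finrank F (C ⊔ W' : Submodule F V) = finrank F C + finrank F W' :=
        Elus.finrank_sup_of_disjoint hdisj
      have hsuple : C ⊔ W' ≤ W := sup_le hCW hW'W
      have hsupfin2 : finrank F (C ⊔ W' : Submodule F V) ≤ d := by
        rw [← hWd]
        exact Submodule.finrank_mono hsuple
      have hW'd : finrank F W' = d - (j + 1) := by omega
      have hsup : C ⊔ W' = W := by
        apply Submodule.eq_of_le_of_finrank_eq hsuple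
        rw [hsupfin, hCfin, hW'd, hWd]
        omega
      obtain ⟨μ', hμ'1, hμ'2, hμ'3, hμ'4⟩ := ih (d - (j + 1)) (by omega) W' hW'd hW'inv
      refine ⟨(j + 1) ::ₘ μ', ?_, ?_, ?_, ?_⟩
      · intro a ha
        rw [Multiset.mem_cons] at ha
        rcases ha with rfl | ha
        · exact ⟨by omega, by omega⟩
        · exact hμ'1 a ha
      · rw [Multiset.sum_cons, hμ'2]
        omega
      · intro k
        rw [← hsup, rk_sup N hCinv hW'inv hdisj, hC, cyc_rk N v (j + 1) hvk0 hli, hμ'3, S_cons]
      · intro ν hν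
        by_cases hmem : (j + 1) ∈ ν
        · have h1 : ν.erase (j + 1) ≤ μ' := Multiset.erase_le_iff_le_cons.mpr hν
          obtain ⟨U', Z', hU', hZ', hUZ, hUZs, hUfin⟩ := hμ'4 _ h1
          have hU'W : U' ≤ W' := by rw [← hUZs]; exact le_sup_left
          have hZ'W : Z' ≤ W' := by rw [← hUZs]; exact le_sup_right
          refine ⟨C ⊔ U', Z', hCinv.sup hU', hZ', disjoint_sup_of hdisj hU'W hZ'W hUZ, ?_, ?_⟩
          · rw [sup_assoc, hUZs, hsup]
          · rw [Elus.finrank_sup_of_disjoint (hdisj.mono_right hU'W), hCfin, hUfin,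
              ← Multiset.cons_erase hmem, Multiset.sum_cons]
            rw [Multiset.cons_erase hmem]
        · have h1 : ν ≤ μ' := (Multiset.le_cons_of_notMem hmem).mp hν
          obtain ⟨U', Z', hU', hZ', hUZ, hUZs, hUfin⟩ := hμ'4 _ h1
          have hU'W : U' ≤ W' := by rw [← hUZs]; exact le_sup_left
          have hZ'W : Z' ≤ W' := by rw [← hUZs]; exact le_sup_right
          refine ⟨U', C ⊔ Z', hU', hCinv.sup hZ',
            (disjoint_sup_of hdisj hZ'W hU'W hUZ.symm).symm, ?_, hUfin⟩
          rw [sup_left_comm, hUZs, hsup]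

theorem sub_type (N : Module.End F V) (e : ℕ) (hN : N ^ e = 0) (μ : Multiset ℕ) (hμ0 : 0 ∉ μ)
    (hμ : ∀ k, rk N ⊤ k = S μ k) (U Z : Submodule F V) (hU : Elus.Inv N U) (hZ : Elus.Inv N Z)
    (hd : Disjoint U Z) (hs : U ⊔ Z = ⊤) : ∃ ν : Multiset ℕ, ν ≤ μ ∧ ν.sum = finrank F U := by
  obtain ⟨νU, hU1, hU2, hU3, -⟩ := exists_type N e hN (finrank F U) U rfl hU
  obtain ⟨νZ, hZ1, hZ2, hZ3, -⟩ := exists_type N e hN (finrank F Z) Z rfl hZ
  have hμeq : μ = νU + νZ := by
    apply eq_of_S_eq μ (νU + νZ) hμ0
    · intro h0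
      rw [Multiset.mem_add] at h0
      rcases h0 with h0 | h0
      · exact absurd (hU1 0 h0).1 (lt_irrefl 0)
      · exact absurd (hZ1 0 h0).1 (lt_irrefl 0)
    · intro k
      rw [← hμ k, ← hs, rk_sup N hU hZ hd, hU3, hZ3, S_add]
  refine ⟨νU, ?_, hU2⟩
  rw [hμeq]
  exact Multiset.le_add_right _ _

end Op

end Cfsg.Agent.Lib.Helper2.Jord
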