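import Mathlib
import Cfsg.Agent.Lib.Helper2.JordA
import Cfsg.Agent.Lib.Helper2.ElusC
set_option autoImplicit false
set_option maxHeartbeats 1000000
set_option linter.unusedVariables false
set_option linter.unusedSectionVars false
set_option linter.style.longLine false
set_option linter.unusedSimpArgs false
set_option linter.deprecated false
set_option linter.style.haveILetI false

/-! Jordan types of nilpotent operators (part B): construction of a nilpotent operator with a
prescribed type, unipotent elements of `SL_n`, and the partition criterion for invariant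
decompositions. -/

namespace Cfsg.Agent.Lib.Helper2.Jord

open Module Cfsg.Agent.Lib.Helper2

universe u v

section Shift

variable {F : Type u} [Field F]

/-- images of the basis vectors under the shift -/
noncomputable def shiftFun (a : ℕ) (i : Fin a) : Fin a → F :=
  if h : (i : ℕ) + 1 < a then Pi.single (⟨(i : ℕ) + 1, h⟩ : Fin a) (1 : F) else 0

/-- the shift operator on `F^a` -/
noncomputable def shift (a : ℕ) : Module.End F (Fin a → F) :=
  (Pi.basisFun F (Fin a)).constr F (shiftFun a)

theorem shift_single (a : ℕ) (i : Fin a) :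
    (shift a : Module.End F (Fin a → F)) (Pi.single i (1 : F)) =
      if h : (i : ℕ) + 1 < a then Pi.single (⟨(i : ℕ) + 1, h⟩ : Fin a) (1 : F) else 0 := by
  have := Basis.constr_basis (Pi.basisFun F (Fin a)) F (shiftFun (F := F) a) i
  rw [Pi.basisFun_apply] at this
  exact this

theorem shift_pow_single (a : ℕ) (k : ℕ) : ∀ i : Fin a,
    ((shift a : Module.End F (Fin a → F)) ^ k) (Pi.single i (1 : F)) =
      if h : (i : ℕ) + k < a then Pi.single (⟨(i : ℕ) + k, h⟩ : Fin a) (1 : F) else 0 := by
  induction k with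
  | zero =>
    intro i
    have h : (i : ℕ) + 0 < a := by simp
    rw [pow_zero, Module.End.one_apply, dif_pos h]
    have h' : (⟨(i : ℕ) + 0, h⟩ : Fin a) = i := Fin.ext (by simp)
    rw [h']
  | succ k ih =>
    intro i
    rw [pow_succ, Module.End.mul_apply, shift_single]
    by_cases h1 : (i : ℕ) + 1 < a
    · rw [dif_pos h1, ih]
      by_cases h2 : (i : ℕ) + (k + 1) < a
      · rw [dif_pos h2, dif_pos (by simp only; omega)]
        congr 1
        apply Fin.ext
        simp only
        omega
      · rw [dif_neg h2, dif_neg (by simp only; omega)]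
    · rw [dif_neg h1, map_zero, dif_neg (by omega)]

theorem shift_pow_self (a : ℕ) : (shift a : Module.End F (Fin a → F)) ^ a = 0 := by
  apply (Pi.basisFun F (Fin a)).ext
  intro i
  rw [Pi.basisFun_apply, shift_pow_single, dif_neg (by omega)]
  rfl

theorem shift_pow_of_le (a e : ℕ) (h : a ≤ e) : (shift a : Module.End F (Fin a → F)) ^ e = 0 := by
  obtain ⟨t, rfl⟩ := Nat.exists_eq_add_of_le h
  rw [pow_add, shift_pow_self, zero_mul]

theorem shift_rk (a : ℕ) (ha : 0 < a) (k : ℕ) :
    rk (shift a : Module.End F (Fin a → F)) ⊤ k = a - k := by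
  have hfam : (fun t : Fin a => ((shift a : Module.End F (Fin a → F)) ^ (t : ℕ))
      (Pi.single (⟨0, ha⟩ : Fin a) (1 : F))) = ⇑(Pi.basisFun F (Fin a)) := by
    funext t
    rw [shift_pow_single, dif_pos (by simp only; omega), Pi.basisFun_apply]
    congr 1
    apply Fin.ext
    simp
  have hli : LinearIndependent F (fun t : Fin a => ((shift a : Module.End F (Fin a → F)) ^ (t : ℕ))
      (Pi.single (⟨0, ha⟩ : Fin a) (1 : F))) := by
    rw [hfam]
    exact (Pi.basisFun F (Fin a)).linearIndependent
  have hv : ((shift a : Module.End F (Fin a → F)) ^ a) (Pi.single (⟨0, ha⟩ : Fin a) (1 : F)) = 0 := by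
    rw [shift_pow_self]
    rfl
  have htop : cyc (shift a : Module.End F (Fin a → F)) (Pi.single (⟨0, ha⟩ : Fin a) (1 : F)) a = ⊤ := by
    unfold cyc
    rw [hfam]
    exact (Pi.basisFun F (Fin a)).span_eq
  rw [← htop]
  exact cyc_rk _ _ a hv hli k

end Shift

section Prod

variable {F : Type u} [Field F] {V₁ : Type v} {V₂ : Type v} [AddCommGroup V₁] [Module F V₁]
  [AddCommGroup V₂] [Module F V₂]

theorem prodMap_pow (f : Module.End F V₁) (g : Module.End F V₂) (k : ℕ) :
    (f.prodMap g : Module.End F (V₁ × V₂)) ^ k = (f ^ k).prodMap (g ^ k) := by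
  induction k with
  | zero => rw [pow_zero, pow_zero, pow_zero, LinearMap.prodMap_one]
  | succ k ih => rw [pow_succ, ih, pow_succ, pow_succ, LinearMap.prodMap_mul]

theorem finrank_prod_sub [FiniteDimensional F V₁] [FiniteDimensional F V₂]
    (A : Submodule F V₁) (B : Submodule F V₂) :
    finrank F (A.prod B) = finrank F A + finrank F B := by
  rw [← Module.finrank_prod]
  apply LinearEquiv.finrank_eq
  exact {
    toFun := fun x => (⟨x.1.1, (Submodule.mem_prod.mp x.2).1⟩, ⟨x.1.2, (Submodule.mem_prod.mp x.2).2⟩)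
    map_add' := fun x y => rfl
    map_smul' := fun c x => rfl
    invFun := fun y => ⟨(y.1.1, y.2.1), Submodule.mem_prod.mpr ⟨y.1.2, y.2.2⟩⟩
    left_inv := fun x => rfl
    right_inv := fun y => rfl }

theorem rk_prod [FiniteDimensional F V₁] [FiniteDimensional F V₂]
    (f : Module.End F V₁) (g : Module.End F V₂) (k : ℕ) :
    rk (f.prodMap g : Module.End F (V₁ × V₂)) ⊤ k = rk f ⊤ k + rk g ⊤ k := by
  unfold rk
  rw [Submodule.map_top, Submodule.map_top, Submodule.map_top, prodMap_pow,
    LinearMap.range_prodMap, finrank_prod_sub]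

end Prod

section Model

variable {F : Type u} [Field F]

theorem exists_model (e : ℕ) (μ : Multiset ℕ) (hμ : ∀ a ∈ μ, 0 < a ∧ a ≤ e) :
    ∃ (V : Type u) (_ : AddCommGroup V) (_ : Module F V) (_ : FiniteDimensional F V)
      (N : Module.End F V), finrank F V = μ.sum ∧ N ^ e = 0 ∧ ∀ k, rk N ⊤ k = S μ k := by
  induction μ using Multiset.induction_on with
  | empty =>
    refine ⟨PUnit, inferInstance, inferInstance, inferInstance, 0, ?_, ?_, ?_⟩
    · rw [Multiset.sum_zero]
      exact finrank_zero_of_subsingleton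
    · exact Subsingleton.elim _ _
    · intro k
      unfold rk
      rw [S_zero]
      exact finrank_zero_of_subsingleton
  | cons a μ ih =>
    obtain ⟨V', i1, i2, i3, N', h1, h2, h3⟩ :=
      ih (fun b hb => hμ b (Multiset.mem_cons_of_mem hb))
    obtain ⟨ha0, hae⟩ := hμ a (Multiset.mem_cons_self a μ)
    refine ⟨(Fin a → F) × V', inferInstance, inferInstance, inferInstance,
      (shift a).prodMap N', ?_, ?_, ?_⟩
    · rw [Module.finrank_prod, Module.finrank_fin_fun, h1, Multiset.sum_cons]
    · rw [prodMap_pow, shift_pow_of_le a e hae, h2, LinearMap.prodMap_zero]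
    · intro k
      rw [rk_prod, shift_rk a ha0, h3, S_cons]

theorem exists_nilp (e n : ℕ) (μ : Multiset ℕ) (hμ : ∀ a ∈ μ, 0 < a ∧ a ≤ e)
    (hsum : μ.sum = n) :
    ∃ N : Module.End F (Fin n → F), N ^ e = 0 ∧ ∀ k, rk N ⊤ k = S μ k := by
  obtain ⟨V, i1, i2, i3, N0, h1, h2, h3⟩ := exists_model (F := F) e μ hμ
  let E : V ≃ₗ[F] (Fin n → F) := LinearEquiv.ofFinrankEq _ _ (by
    rw [h1, hsum, Module.finrank_fin_fun])
  refine ⟨E.toLinearMap ∘ₗ N0 ∘ₗ E.symm.toLinearMap, ?_, ?_⟩
  · apply LinearMap.ext
    intro v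
    rw [Elus.conj_pow, h2]
    simp
  · intro k
    rw [← h3 k]
    unfold rk
    have : Submodule.map ((E.toLinearMap ∘ₗ N0 ∘ₗ E.symm.toLinearMap : Module.End F (Fin n → F)) ^ k) ⊤ =
        Submodule.map E.toLinearMap (Submodule.map (N0 ^ k) ⊤) := by
      ext y
      simp only [Submodule.mem_map, Submodule.mem_top, true_and]
      constructor
      · rintro ⟨v, rfl⟩
        refine ⟨(N0 ^ k) (E.symm v), ⟨E.symm v, rfl⟩, ?_⟩
        rw [Elus.conj_pow]
        rfl
      · rintro ⟨_, ⟨w, rfl⟩, rfl⟩
        refine ⟨E w, ?_⟩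
        rw [Elus.conj_pow, LinearEquiv.symm_apply_apply]
        rfl
    rw [this]
    exact LinearEquiv.finrank_map_eq E _

end Model

section Unip

variable {F : Type u} [Field F] {p : ℕ} [hp : Fact p.Prime] [CharP F p]

theorem charP_end (n : ℕ) (hn : 0 < n) : CharP (Module.End F (Fin n → F)) p := by
  apply charP_of_injective_algebraMap (R := F) _ p
  intro a b hab
  apply Elus.smul_one_inj hn
  rw [Algebra.algebraMap_eq_smul_one, Algebra.algebraMap_eq_smul_one] at hab
  exact hab

theorem one_add_pow (n : ℕ) (hn : 0 < n) (N : Module.End F (Fin n → F)) (hN : N ^ p = 0) :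
    (1 + N) ^ p = 1 := by
  haveI := charP_end (F := F) (p := p) n hn
  rw [add_pow_char_of_commute p (Commute.one_left N), one_pow, hN, add_zero]

theorem det_one_add (n : ℕ) (hn : 0 < n) (N : Module.End F (Fin n → F)) (hN : N ^ p = 0) :
    LinearMap.det (1 + N) = 1 := by
  have h1 : (LinearMap.det (1 + N)) ^ p = 1 := by
    rw [← map_pow, one_add_pow n hn N hN, map_one]
  have h2 : (LinearMap.det (1 + N) - 1) ^ p = 0 := by
    rw [sub_pow_char, h1, one_pow, sub_self]
  have h3 := pow_eq_zero_iff (hp.out.ne_zero) |>.mp h2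
  exact sub_eq_zero.mp h3

theorem sub_smul_pow (n : ℕ) (hn : 0 < n) (f : Module.End F (Fin n → F)) (c d : F)
    (hf : f ^ p = c • 1) (hd : d ^ p = c) : (f - d • 1) ^ p = 0 := by
  haveI := charP_end (F := F) (p := p) n hn
  have hcomm : Commute f (d • (1 : Module.End F (Fin n → F))) :=
    (Commute.one_right f).smul_right d
  rw [sub_pow_char_of_commute p hcomm, hf, _root_.smul_pow, one_pow, hd, sub_self]

end Unip

end Cfsg.Agent.Lib.Helper2.Jord
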