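import Mathlib
import Cfsg.Agent.Lib.Helper2.JordB
set_option autoImplicit false
set_option maxHeartbeats 1000000
set_option linter.unusedVariables false
set_option linter.unusedSectionVars false
set_option linter.style.longLine false
set_option linter.unusedSimpArgs false
set_option linter.deprecated false
set_option linter.style.haveILetI false

/-! Jordan types (part C): counting complements of a subspace, the partition condition for
`p = 2`, and the criterion for unipotent elements of `SL_n` to fix a decomposition. -/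

namespace Cfsg.Agent.Lib.Helper2.Jord

open Module Cfsg.Agent.Lib.Helper2

universe u v

section Compl

variable {F : Type u} [Field F] {V : Type v} [AddCommGroup V] [Module F V]
  [FiniteDimensional F V]

/-- the graph-type map `w ↦ w + φ w` -/
noncomputable def graphMap (U W0 : Submodule F V) (φ : W0 →ₗ[F] U) : W0 →ₗ[F] V :=
  W0.subtype + U.subtype ∘ₗ φ

theorem graphMap_apply (U W0 : Submodule F V) (φ : W0 →ₗ[F] U) (w : W0) :
    graphMap U W0 φ w = (w : V) + (φ w : V) := rfl

theorem graph_isCompl {U W0 : Submodule F V} (h : IsCompl U W0) (φ : W0 →ₗ[F] U) :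
    IsCompl U (LinearMap.range (graphMap U W0 φ)) := by
  constructor
  · rw [Submodule.disjoint_def]
    rintro x hxU ⟨w, rfl⟩
    rw [graphMap_apply] at hxU ⊢
    have h1 : (w : V) ∈ U := by
      have h2 : (w : V) = ((w : V) + (φ w : V)) - (φ w : V) := by abel
      rw [h2]
      exact Submodule.sub_mem _ hxU (φ w).2
    have h3 : (w : V) = 0 := (Submodule.disjoint_def.mp h.disjoint) _ h1 w.2
    have h4 : w = 0 := Subtype.ext h3
    rw [h4, map_zero]
    simp
  · rw [codisjoint_iff, eq_top_iff]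
    intro v _
    have hv : v ∈ U ⊔ W0 := by rw [h.sup_eq_top]; exact Submodule.mem_top
    obtain ⟨u, hu, w, hw, rfl⟩ := Submodule.mem_sup.mp hv
    have h1 : u + w = (u - (φ ⟨w, hw⟩ : V)) + graphMap U W0 φ ⟨w, hw⟩ := by
      rw [graphMap_apply]
      abel
    rw [h1]
    exact Submodule.add_mem _ (Submodule.mem_sup_left (Submodule.sub_mem _ hu (φ ⟨w, hw⟩).2))
      (Submodule.mem_sup_right ⟨⟨w, hw⟩, rfl⟩)

theorem graph_injective {U W0 : Submodule F V} (h : IsCompl U W0) (φ ψ : W0 →ₗ[F] U)
    (he : LinearMap.range (graphMap U W0 φ) = LinearMap.range (graphMap U W0 ψ)) : φ = ψ := by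
  apply LinearMap.ext
  intro w
  have h1 : graphMap U W0 φ w ∈ LinearMap.range (graphMap U W0 ψ) := by
    rw [← he]
    exact ⟨w, rfl⟩
  obtain ⟨w', hw'⟩ := h1
  rw [graphMap_apply, graphMap_apply] at hw'
  have h2 : (w' : V) - (w : V) = (φ w : V) - (ψ w' : V) := by
    have : (w' : V) = (w : V) + (φ w : V) - (ψ w' : V) := by
      rw [← hw']
      abel
    rw [this]
    abel
  have h3 : (w' : V) - (w : V) ∈ U := by
    rw [h2]
    exact Submodule.sub_mem _ (φ w).2 (ψ w').2
  have h4 : (w' : V) - (w : V) ∈ W0 := Submodule.sub_mem _ w'.2 w.2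
  have h5 : (w' : V) - (w : V) = 0 := (Submodule.disjoint_def.mp h.disjoint) _ h3 h4
  have h6 : w' = w := Subtype.ext (sub_eq_zero.mp h5)
  subst h6
  rw [h5] at h2
  apply Subtype.ext
  exact (sub_eq_zero.mp h2.symm)

theorem graph_surjective {U W0 : Submodule F V} (h : IsCompl U W0) (W : Submodule F V)
    (hW : IsCompl U W) : ∃ φ : W0 →ₗ[F] U, LinearMap.range (graphMap U W0 φ) = W := by
  let π : V →ₗ[F] U := Submodule.linearProjOfIsCompl U W hW
  refine ⟨-(π ∘ₗ W0.subtype), ?_⟩
  have hle : LinearMap.range (graphMap U W0 (-(π ∘ₗ W0.subtype))) ≤ W := by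
    rintro _ ⟨w, rfl⟩
    rw [graphMap_apply]
    have hker : LinearMap.ker π = W := Submodule.linearProjOfIsCompl_ker hW
    rw [← hker, LinearMap.mem_ker]
    simp only [LinearMap.neg_apply, LinearMap.comp_apply, Submodule.subtype_apply,
      NegMemClass.coe_neg, map_add, map_neg]
    have : π ((π (w : V) : U) : V) = π (w : V) := Submodule.linearProjOfIsCompl_apply_left hW _
    rw [this]
    abel
  apply Submodule.eq_of_le_of_finrank_eq hle
  have h1 := Submodule.finrank_add_eq_of_isCompl hW
  have h2 := Submodule.finrank_add_eq_of_isCompl (graph_isCompl h (-(π ∘ₗ W0.subtype)))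
  omega

variable [Fintype F]

theorem card_compl (U : Submodule F V) :
    Nat.card {W : Submodule F V // IsCompl U W} =
      Fintype.card F ^ (finrank F U * (finrank F V - finrank F U)) := by
  obtain ⟨W0, h⟩ := Submodule.exists_isCompl U
  let Φ : (W0 →ₗ[F] U) → {W : Submodule F V // IsCompl U W} :=
    fun φ => ⟨LinearMap.range (graphMap U W0 φ), graph_isCompl h φ⟩
  have hbij : Function.Bijective Φ := by
    constructor
    · intro φ ψ he
      exact graph_injective h φ ψ (congrArg Subtype.val he)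
    · rintro ⟨W, hW⟩
      obtain ⟨φ, hφ⟩ := graph_surjective h W hW
      exact ⟨φ, Subtype.ext hφ⟩
  rw [← Nat.card_congr (Equiv.ofBijective Φ hbij), Module.natCard_eq_pow_finrank (K := F),
    Module.finrank_linearMap F F, Nat.card_eq_fintype_card]
  have h1 := Submodule.finrank_add_eq_of_isCompl h
  have h2 : finrank F W0 = finrank F V - finrank F U := by omega
  rw [h2, mul_comm]

theorem card_decomp (m : ℕ) :
    Nat.card {P : Submodule F V × Submodule F V // IsCompl P.1 P.2 ∧ finrank F P.1 = m} =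
      Nat.card {U : Submodule F V // finrank F U = m} *
        Fintype.card F ^ (m * (finrank F V - m)) := by
  classical
  haveI : Finite V := Module.finite_of_finite F
  haveI : Fintype {U : Submodule F V // finrank F U = m} := Fintype.ofFinite _
  let e : {P : Submodule F V × Submodule F V // IsCompl P.1 P.2 ∧ finrank F P.1 = m} ≃
      Σ U : {U : Submodule F V // finrank F U = m}, {W : Submodule F V // IsCompl U.1 W} :=
    { toFun := fun P => ⟨⟨P.1.1, P.2.2⟩, ⟨P.1.2, P.2.1⟩⟩
      invFun := fun Q => ⟨(Q.1.1, Q.2.1), ⟨Q.2.2, Q.1.2⟩⟩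
      left_inv := fun P => rfl
      right_inv := fun Q => rfl }
  rw [Nat.card_congr e, Nat.card_sigma]
  have hfib : ∀ U : {U : Submodule F V // finrank F U = m},
      Nat.card {W : Submodule F V // IsCompl U.1 W} =
        Fintype.card F ^ (m * (finrank F V - m)) := by
    intro U
    rw [card_compl, U.2]
  simp_rw [hfib]
  rw [Finset.sum_const, Finset.card_univ, smul_eq_mul, Nat.card_eq_fintype_card]

end Compl

section Two

theorem part_two_iff (n m : ℕ) (hmn : m ≤ n) :
    (∀ μ : Multiset ℕ, (∀ a ∈ μ, 0 < a ∧ a ≤ 2) → μ.sum = n →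
      ∃ ν : Multiset ℕ, ν ≤ μ ∧ ν.sum = m) ↔ (Odd n ∨ Even m) := by
  constructor
  · intro H
    by_contra hcon
    rw [not_or, Nat.not_odd_iff_even, Nat.not_even_iff_odd] at hcon
    obtain ⟨⟨t, ht⟩, hm⟩ := hcon
    obtain ⟨ν, hν, hνs⟩ := H (Multiset.replicate t 2)
      (fun a ha => by
        rw [Multiset.eq_of_mem_replicate ha]
        omega)
      (by
        rw [Multiset.sum_replicate, smul_eq_mul]
        omega)
    have h1 : ν = Multiset.replicate (Multiset.card ν) 2 :=
      Multiset.eq_replicate.mpr ⟨rfl, fun b hb =>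
        Multiset.eq_of_mem_replicate (Multiset.mem_of_le hν hb)⟩
    rw [h1, Multiset.sum_replicate, smul_eq_mul] at hνs
    rw [Nat.odd_iff] at hm
    omega
  · intro H μ hμ hs
    classical
    set a := Multiset.count 2 μ with ha
    set b := Multiset.card (Multiset.filter (fun x => ¬ x = 2) μ) with hb
    have h2 : Multiset.filter (fun x => ¬ x = 2) μ = Multiset.replicate b 1 := by
      apply Multiset.eq_replicate.mpr
      refine ⟨rfl, fun x hx => ?_⟩
      rw [Multiset.mem_filter] at hx
      have := hμ x hx.1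
      omega
    have hμeq : μ = Multiset.replicate a 2 + Multiset.replicate b 1 := by
      rw [← h2, ha, ← Multiset.filter_eq' μ 2]
      exact (Multiset.filter_add_not (fun x => x = 2) μ).symm
    have hn : n = 2 * a + b := by
      rw [← hs, hμeq, Multiset.sum_add, Multiset.sum_replicate, Multiset.sum_replicate,
        smul_eq_mul, smul_eq_mul]
      omega
    obtain ⟨j, k, hj, hk, hjk⟩ : ∃ j k, j ≤ a ∧ k ≤ b ∧ 2 * j + k = m := by
      rw [Nat.odd_iff, Nat.even_iff] at H
      by_cases h : m / 2 ≤ a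
      · refine ⟨m / 2, m % 2, h, ?_, by omega⟩
        omega
      · exact ⟨a, m - 2 * a, le_rfl, by omega, by omega⟩
    refine ⟨Multiset.replicate j 2 + Multiset.replicate k 1, ?_, ?_⟩
    · rw [hμeq]
      exact add_le_add ((Multiset.replicate_le_replicate 2).mpr hj)
        ((Multiset.replicate_le_replicate 1).mpr hk)
    · rw [Multiset.sum_add, Multiset.sum_replicate, Multiset.sum_replicate, smul_eq_mul,
        smul_eq_mul]
      omega

end Two

section Crit

variable {F : Type u} [Field F] [Fintype F] {p : ℕ} [hp : Fact p.Prime] [CharP F p]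

omit [Fintype F] hp [CharP F p] in
theorem inv_of_sub_smul {n : ℕ} (f : Module.End F (Fin n → F)) (d : F)
    (U : Submodule F (Fin n → F)) (h : Elus.Inv (f - d • 1) U) : Elus.Inv f U := by
  intro u hu
  have h1 : f u = (f - d • 1) u + d • u := by simp
  rw [h1]
  exact Submodule.add_mem _ (h u hu) (Submodule.smul_mem _ d hu)

theorem fix_of_part (n m : ℕ) (hn : 0 < n)
    (hpart : ∀ μ : Multiset ℕ, (∀ a ∈ μ, 0 < a ∧ a ≤ p) → μ.sum = n →
      ∃ ν : Multiset ℕ, ν ≤ μ ∧ ν.sum = m)
    (x : Matrix.SpecialLinearGroup (Fin n) F) (c : F)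
    (hx : ((x ^ p : Matrix.SpecialLinearGroup (Fin n) F) : Matrix (Fin n) (Fin n) F) =
      c • (1 : Matrix (Fin n) (Fin n) F)) :
    ∃ U W : Submodule F (Fin n → F), IsCompl U W ∧ finrank F U = m ∧
      U.map (Matrix.toLin' (x : Matrix (Fin n) (Fin n) F)) ≤ U ∧
      W.map (Matrix.toLin' (x : Matrix (Fin n) (Fin n) F)) ≤ W := by
  have hf : (Matrix.toLin' (x : Matrix (Fin n) (Fin n) F) : Module.End F (Fin n → F)) ^ p =
      c • 1 := Elus.pow_of_SL x p c hx
  generalize (Matrix.toLin' (x : Matrix (Fin n) (Fin n) F)) = f at hf ⊢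
  obtain ⟨k, -, hk⟩ := FiniteField.card F p
  have hk1 : 1 ≤ (k : ℕ) := k.pos
  have hd : (c ^ (p ^ ((k : ℕ) - 1))) ^ p = c := by
    rw [← pow_mul, ← pow_succ, Nat.sub_add_cancel hk1, ← hk, FiniteField.pow_card]
  have hN := sub_smul_pow n hn f c _ hf hd
  obtain ⟨μ, h1, h2, h3, h4⟩ := exists_type (f - (c ^ (p ^ ((k : ℕ) - 1))) • 1) p hN n ⊤
    (by rw [finrank_top, Module.finrank_fin_fun]) (fun x _ => Submodule.mem_top)
  obtain ⟨ν, hν, hνm⟩ := hpart μ h1 h2
  obtain ⟨U, Z, hU, hZ, hdis, hs, hfin⟩ := h4 ν hν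
  refine ⟨U, Z, ⟨hdis, codisjoint_iff.mpr hs⟩, by rw [hfin, hνm],
    Elus.inv_iff_map_le.mp (inv_of_sub_smul f _ U hU),
    Elus.inv_iff_map_le.mp (inv_of_sub_smul f _ Z hZ)⟩

theorem part_of_fix (n m : ℕ) (hn : 0 < n) (hmn : m ≤ n)
    (H : ∀ x : Matrix.SpecialLinearGroup (Fin n) F,
      (∃ c : F, ((x ^ p : Matrix.SpecialLinearGroup (Fin n) F) : Matrix (Fin n) (Fin n) F) =
        c • (1 : Matrix (Fin n) (Fin n) F)) →
      (∀ c : F, (x : Matrix (Fin n) (Fin n) F) ≠ c • (1 : Matrix (Fin n) (Fin n) F)) →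
      ∃ U W : Submodule F (Fin n → F), IsCompl U W ∧ finrank F U = m ∧
        U.map (Matrix.toLin' (x : Matrix (Fin n) (Fin n) F)) ≤ U ∧
        W.map (Matrix.toLin' (x : Matrix (Fin n) (Fin n) F)) ≤ W) :
    ∀ μ : Multiset ℕ, (∀ a ∈ μ, 0 < a ∧ a ≤ p) → μ.sum = n →
      ∃ ν : Multiset ℕ, ν ≤ μ ∧ ν.sum = m := by
  intro μ hμ hsum
  obtain ⟨N, hN, hrk⟩ := exists_nilp (F := F) p n μ hμ hsum
  by_cases hN0 : N = 0
  · have h1 : S μ 1 = 0 := by
      rw [← hrk 1, hN0]
      unfold rk
      rw [pow_one, Submodule.map_zero, finrank_bot]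
    have h2 : ∀ a ∈ μ, a = 1 := by
      intro a ha
      unfold S at h1
      rw [Multiset.sum_eq_zero_iff] at h1
      have h3 := h1 (a - 1) (Multiset.mem_map_of_mem _ ha)
      have h4 := (hμ a ha).1
      omega
    have h3 : μ = Multiset.replicate (Multiset.card μ) 1 := Multiset.eq_replicate.mpr ⟨rfl, h2⟩
    have h4 : Multiset.card μ = n := by
      have h5 : (Multiset.replicate (Multiset.card μ) 1).sum = n := by
        rw [← h3]
        exact hsum
      rw [Multiset.sum_replicate, smul_eq_mul, mul_one] at h5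
      exact h5
    refine ⟨Multiset.replicate m 1, ?_, by rw [Multiset.sum_replicate, smul_eq_mul, mul_one]⟩
    rw [h3, h4]
    exact (Multiset.replicate_le_replicate 1).mpr hmn
  · have hdet := det_one_add n hn N hN
    have hpow := one_add_pow n hn N hN
    obtain ⟨U, W, hUW, hUm, hU, hW⟩ := H (Elus.toSL (1 + N) hdet)
      ⟨1, Elus.toSL_pow (1 + N) hdet p 1 (by rw [hpow, one_smul])⟩ (by
        intro c hc
        apply hN0
        have h1 : 1 + N = c • (1 : Module.End F (Fin n → F)) := by
          rw [← Elus.toLin'_toSL (1 + N) hdet, hc, Elus.toLin'_smul_one]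
        have h2 : N = (c - 1) • (1 : Module.End F (Fin n → F)) := by
          apply LinearMap.ext
          intro v
          have hv := LinearMap.congr_fun h1 v
          simp only [LinearMap.add_apply, Module.End.one_apply, LinearMap.smul_apply] at hv
          simp only [LinearMap.smul_apply, Module.End.one_apply]
          rw [sub_smul, one_smul, ← hv]
          abel
        have h3 : ((c - 1) ^ p) • (1 : Module.End F (Fin n → F)) = (0 : F) • 1 := by
          rw [zero_smul, ← hN, h2, _root_.smul_pow, one_pow]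
        have h4 : (c - 1) ^ p = 0 := Elus.smul_one_inj hn h3
        have h5 : c - 1 = 0 := (pow_eq_zero_iff hp.out.ne_zero).mp h4
        rw [h2, h5, zero_smul])
    rw [Elus.toLin'_toSL] at hU hW
    have hinv : ∀ A : Submodule F (Fin n → F), A.map (1 + N) ≤ A → Elus.Inv N A := by
      intro A hA u hu
      have h1 := Elus.inv_iff_map_le.mpr hA u hu
      have h2 : N u = (1 + N) u - u := by simp
      rw [h2]
      exact Submodule.sub_mem _ h1 hu
    have h0 : (0 : ℕ) ∉ μ := fun h => absurd (hμ 0 h).1 (lt_irrefl 0)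
    obtain ⟨ν, hν, hνs⟩ := sub_type N p hN μ h0 hrk U W (hinv U hU) (hinv W hW)
      hUW.disjoint hUW.sup_eq_top
    exact ⟨ν, hν, by rw [hνs, hUm]⟩

end Crit

end Cfsg.Agent.Lib.Helper2.Jord
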