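import Mathlib
import Cfsg.Agent.Lib.Helper2.JordC
set_option autoImplicit false
set_option maxHeartbeats 1000000
set_option linter.unusedVariables false
set_option linter.unusedSectionVars false
set_option linter.style.longLine false
set_option linter.unusedSimpArgs false
set_option linter.deprecated false
set_option linter.style.haveILetI false

/-! Jordan types (part D): unipotent elements of `SL_n` with prescribed type, and unipotent
elements permuting the summands of a direct decomposition. -/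

namespace Cfsg.Agent.Lib.Helper2.Jord

open Module Cfsg.Agent.Lib.Helper2

universe u v

section Unip2

variable {F : Type u} [Field F] [Fintype F] {p : ℕ} [hp : Fact p.Prime] [CharP F p]

theorem count_eq_S (μ : Multiset ℕ) (hμ : ∀ a ∈ μ, 0 < a ∧ a ≤ p) :
    Multiset.count p μ = S μ (p - 1) := by
  have hp1 : 1 ≤ p := hp.out.one_le
  have h1 := S_succ μ (p - 1)
  have h2 : S μ (p - 1 + 1) = 0 := by
    unfold S
    rw [Multiset.sum_eq_zero_iff]
    intro x hx
    obtain ⟨a, ha, rfl⟩ := Multiset.mem_map.mp hx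
    have := (hμ a ha).2
    omega
  have h3 : Multiset.countP (fun a => p - 1 < a) μ = Multiset.count p μ := by
    unfold Multiset.count
    apply Multiset.countP_congr rfl
    intro x hx
    have := (hμ x hx).2
    apply propext
    constructor
    · intro h
      omega
    · intro h
      omega
  omega

theorem exists_unip (n : ℕ) (hn : 0 < n) (μ : Multiset ℕ) (hμ : ∀ a ∈ μ, 0 < a ∧ a ≤ p)
    (hsum : μ.sum = n) :
    (∀ a ∈ μ, a = 1) ∨ ∃ (N : Module.End F (Fin n → F)) (x : Matrix.SpecialLinearGroup (Fin n) F),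
      N ^ p = 0 ∧ (∀ k, rk N ⊤ k = S μ k) ∧
      Matrix.toLin' (x : Matrix (Fin n) (Fin n) F) = 1 + N ∧
      (∃ c : F, ((x ^ p : Matrix.SpecialLinearGroup (Fin n) F) : Matrix (Fin n) (Fin n) F) =
        c • (1 : Matrix (Fin n) (Fin n) F)) ∧
      (∀ c : F, (x : Matrix (Fin n) (Fin n) F) ≠ c • (1 : Matrix (Fin n) (Fin n) F)) := by
  obtain ⟨N, hN, hrk⟩ := exists_nilp (F := F) p n μ hμ hsum
  by_cases hN0 : N = 0
  · left
    have h1 : S μ 1 = 0 := by
      rw [← hrk 1, hN0]
      unfold rk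
      rw [pow_one, Submodule.map_zero, finrank_bot]
    intro a ha
    unfold S at h1
    rw [Multiset.sum_eq_zero_iff] at h1
    have h3 := h1 (a - 1) (Multiset.mem_map_of_mem _ ha)
    have h4 := (hμ a ha).1
    omega
  · right
    have hdet := det_one_add n hn N hN
    have hpow := one_add_pow n hn N hN
    refine ⟨N, Elus.toSL (1 + N) hdet, hN, hrk, Elus.toLin'_toSL (1 + N) hdet,
      ⟨1, Elus.toSL_pow (1 + N) hdet p 1 (by rw [hpow, one_smul])⟩, ?_⟩
    intro c hc
    apply hN0
    have h1 : 1 + N = c • (1 : Module.End F (Fin n → F)) := by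
      rw [← Elus.toLin'_toSL (1 + N) hdet, hc, Elus.toLin'_smul_one]
    have h2 : N = (c - 1) • (1 : Module.End F (Fin n → F)) := by
      apply LinearMap.ext
      intro v
      have hv := LinearMap.congr_fun h1 v
      simp only [LinearMap.add_apply, Module.End.one_apply, LinearMap.smul_apply] at hv
      simp only [LinearMap.smul_apply, Module.End.one_apply]
      rw [sub_smul, one_smul, ← hv]
      abel
    have h3 : ((c - 1) ^ p) • (1 : Module.End F (Fin n → F)) = (0 : F) • 1 := by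
      rw [zero_smul, ← hN, h2, _root_.smul_pow, one_pow]
    have h4 : (c - 1) ^ p = 0 := Elus.smul_one_inj hn h3
    have h5 : c - 1 = 0 := (pow_eq_zero_iff hp.out.ne_zero).mp h4
    rw [h2, h5, zero_smul]

theorem ones_sub (μ : Multiset ℕ) (h1 : ∀ a ∈ μ, a = 1) (a : ℕ) (ha : a ≤ μ.sum) :
    ∃ ν : Multiset ℕ, ν ≤ μ ∧ ν.sum = a := by
  have h3 : μ = Multiset.replicate (Multiset.card μ) 1 := Multiset.eq_replicate.mpr ⟨rfl, h1⟩
  have h4 : Multiset.card μ = μ.sum := by
    conv_rhs => rw [h3]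
    rw [Multiset.sum_replicate, smul_eq_mul, mul_one]
  refine ⟨Multiset.replicate a 1, ?_, by rw [Multiset.sum_replicate, smul_eq_mul, mul_one]⟩
  rw [h3, h4]
  exact (Multiset.replicate_le_replicate 1).mpr ha

omit [Fintype F] in
theorem inv_of_one_add {n : ℕ} (N : Module.End F (Fin n → F)) (A : Submodule F (Fin n → F))
    (hA : A.map (1 + N) ≤ A) : Elus.Inv N A := by
  intro u hu
  have h1 := Elus.inv_iff_map_le.mpr hA u hu
  have h2 : N u = (1 + N) u - u := by simp
  rw [h2]
  exact Submodule.sub_mem _ h1 hu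

omit [Fintype F] in
theorem pow_sub_one_eq_sum {n : ℕ} (hn : 0 < n) (N : Module.End F (Fin n → F)) :
    N ^ (p - 1) = ∑ i ∈ Finset.range p, (1 + N) ^ i := by
  have hp1 : 1 ≤ p := hp.out.one_le
  have hpoly : ((Polynomial.X - 1 : Polynomial F)) ^ (p - 1) =
      ∑ i ∈ Finset.range p, (Polynomial.X : Polynomial F) ^ i := by
    have hne : (Polynomial.X - 1 : Polynomial F) ≠ 0 := by
      have := Polynomial.X_sub_C_ne_zero (1 : F)
      rwa [map_one] at this
    apply mul_right_cancel₀ hne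
    rw [geom_sum_mul, ← pow_succ, Nat.sub_add_cancel hp1, sub_pow_char, one_pow]
  have h := congrArg (Polynomial.aeval (1 + N)) hpoly
  simp only [map_pow, map_sub, map_one, map_sum, Polynomial.aeval_X] at h
  rw [add_sub_cancel_left] at h
  exact h

omit [Fintype F] in
theorem map_pow_perm {n t : ℕ} (f : Module.End F (Fin n → F))
    (D : Fin t → Submodule F (Fin n → F)) (σ : Equiv.Perm (Fin t))
    (hσ : ∀ j, (D j).map f = D (σ j)) (i : ℕ) : ∀ j, (D j).map (f ^ i) = D ((σ ^ i) j) := by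
  induction i with
  | zero =>
    intro j
    rw [pow_zero, pow_zero, Module.End.one_eq_id, Submodule.map_id]
    rfl
  | succ i ih =>
    intro j
    rw [pow_succ', Module.End.mul_eq_comp, Submodule.map_comp, ih, hσ, pow_succ',
      Equiv.Perm.mul_apply]

omit [Fintype F] in
theorem moved_pow {t : ℕ} (σ : Equiv.Perm (Fin t)) (j0 : Fin t) (hp0 : (σ ^ p) j0 = j0)
    (hj0 : σ j0 ≠ j0) (i : ℕ) (hi0 : 0 < i) (hip : i < p) : (σ ^ i) j0 ≠ j0 := by
  intro hfix
  apply hj0
  have hcop : Nat.Coprime i p := by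
    apply Nat.Coprime.symm
    rw [Nat.Prime.coprime_iff_not_dvd hp.out]
    intro hdvd
    have := Nat.le_of_dvd hi0 hdvd
    omega
  have hb := Nat.gcd_eq_gcd_ab i p
  rw [hcop] at hb
  have h1 : σ = (σ ^ i) ^ (Nat.gcdA i p) * (σ ^ p) ^ (Nat.gcdB i p) := by
    rw [← zpow_natCast σ i, ← zpow_natCast σ p, ← zpow_mul, ← zpow_mul, ← zpow_add, ← hb]
    simp
  rw [h1, Equiv.Perm.mul_apply,
    Equiv.Perm.zpow_apply_eq_self_of_apply_eq_self hp0,
    Equiv.Perm.zpow_apply_eq_self_of_apply_eq_self hfix]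

omit [Fintype F] in
theorem rank_ge_of_moved {n t : ℕ} (hn : 0 < n) (N : Module.End F (Fin n → F)) (hN : N ^ p = 0)
    (D : Fin t → Submodule F (Fin n → F)) (hind : iSupIndep D) (hne : ∀ j, D j ≠ ⊥)
    (σ : Equiv.Perm (Fin t)) (hσ : ∀ j, (D j).map (1 + N) = D (σ j)) (j0 : Fin t)
    (hj0 : σ j0 ≠ j0) : finrank F (D j0) ≤ rk N ⊤ (p - 1) := by
  have hp1 : 1 ≤ p := hp.out.one_le
  have hfp : (1 + N) ^ p = 1 := one_add_pow n hn N hN
  have hpow := map_pow_perm (1 + N) D σ hσ
  have hinj : Function.Injective D := hind.injective hne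
  have hp0 : (σ ^ p) j0 = j0 := by
    apply hinj
    rw [← hpow p j0, hfp, Module.End.one_eq_id, Submodule.map_id]
  have hmoved := moved_pow (p := p) σ j0 hp0 hj0
  have hT := pow_sub_one_eq_sum (p := p) hn N
  -- injectivity on D j0
  have hker : ∀ d ∈ D j0, (N ^ (p - 1)) d = 0 → d = 0 := by
    intro d hd h0
    rw [hT, LinearMap.sum_apply] at h0
    obtain ⟨p', rfl⟩ : ∃ p', p = p' + 1 := ⟨p - 1, by omega⟩
    rw [Finset.sum_range_succ', pow_zero, Module.End.one_apply] at h0
    have hmem : ∑ k ∈ Finset.range p', ((1 + N) ^ (k + 1)) d ∈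
        ⨆ j, ⨆ (_ : j ≠ j0), D j := by
      apply Submodule.sum_mem
      intro k hk
      rw [Finset.mem_range] at hk
      have h1 : ((1 + N) ^ (k + 1)) d ∈ D ((σ ^ (k + 1)) j0) := by
        rw [← hpow (k + 1) j0]
        exact Submodule.mem_map_of_mem hd
      have h2 : (σ ^ (k + 1)) j0 ≠ j0 := hmoved (k + 1) (by omega) (by omega)
      exact (le_iSup₂_of_le (f := fun j (_ : j ≠ j0) => D j) _ h2 le_rfl) h1
    have hd2 : d ∈ ⨆ j, ⨆ (_ : j ≠ j0), D j := by
      have : d = -(∑ k ∈ Finset.range p', ((1 + N) ^ (k + 1)) d) := by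
        rw [eq_neg_iff_add_eq_zero, add_comm]
        exact h0
      rw [this]
      exact Submodule.neg_mem _ hmem
    exact (Submodule.disjoint_def.mp (hind j0)) d hd hd2
  have h1 : finrank F (D j0) = finrank F ((D j0).map (N ^ (p - 1))) := by
    rw [← LinearMap.range_domRestrict, LinearMap.finrank_range_of_inj]
    rw [injective_iff_map_eq_zero]
    intro d hd
    apply Subtype.ext
    exact hker d.1 d.2 hd
  rw [h1]
  unfold rk
  exact Submodule.finrank_mono (Submodule.map_mono le_top)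

omit [Fintype F] in
theorem sub_of_fixed {n t : ℕ} (N : Module.End F (Fin n → F)) (hN : N ^ p = 0)
    (μ : Multiset ℕ) (h0 : 0 ∉ μ) (hrk : ∀ k, rk N ⊤ k = S μ k)
    (D : Fin t → Submodule F (Fin n → F)) (hind : iSupIndep D) (htop : iSup D = ⊤)
    (σ : Equiv.Perm (Fin t)) (hσ : ∀ j, (D j).map (1 + N) = D (σ j)) (j0 : Fin t)
    (hj0 : σ j0 = j0) : ∃ ν : Multiset ℕ, ν ≤ μ ∧ ν.sum = finrank F (D j0) := by
  have hU : (D j0).map (1 + N) ≤ D j0 := by
    rw [hσ, hj0]
  have hZ : (⨆ j, ⨆ (_ : j ≠ j0), D j).map (1 + N) ≤ ⨆ j, ⨆ (_ : j ≠ j0), D j := by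
    rw [Submodule.map_iSup]
    apply iSup_le
    intro j
    rw [Submodule.map_iSup]
    apply iSup_le
    intro hj
    rw [hσ]
    have h2 : σ j ≠ j0 := by
      intro h
      apply hj
      apply σ.injective
      rw [h, hj0]
    exact le_iSup₂_of_le (f := fun j (_ : j ≠ j0) => D j) _ h2 le_rfl
  have hsup : D j0 ⊔ ⨆ j, ⨆ (_ : j ≠ j0), D j = ⊤ := by
    rw [← iSup_split_single D j0, htop]
  exact sub_type N p hN μ h0 hrk (D j0) _ (inv_of_one_add N _ hU) (inv_of_one_add N _ hZ)
    (hind j0) hsup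

end Unip2

end Cfsg.Agent.Lib.Helper2.Jord
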