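import Mathlib
import Cfsg.Agent.Lib.Helper6.KHom1
import Cfsg.Agent.Lib.Helper6.KHom2
import Cfsg.Agent.Lib.Helper1.Wl18

set_option autoImplicit false
set_option maxHeartbeats 4000000
set_option maxRecDepth 100000
set_option linter.unusedVariables false
set_option linter.unusedSectionVars false
set_option linter.style.longLine false
set_option linter.unusedSimpArgs false
set_option linter.deprecated false
set_option linter.style.haveILetI false

/-! # Livingstone–Wagner (b), piece F2: small degree gives the alternating group -/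

namespace Cfsg.Agent.Lib.Helper2.KHom

open MulAction SubMulAction Cfsg.Agent.Lib.Helper8.Mil Cfsg.Agent.Lib.Helper6.KHom
open scoped Nat

/-- the pointwise stabilizer of a finite set embeds in the permutations of the complement -/
theorem card_fixing_dvd {β : Type*} [Fintype β] [DecidableEq β] (Y : Subgroup (Equiv.Perm β))
    (Γ : Finset β) :
    Nat.card (fixingSubgroup Y (Γ : Set β)) ∣ (Fintype.card β - Γ.card)! := by
  classical
  have hcard : Nat.card (ofFixingSubgroup Y (Γ : Set β)) = Fintype.card β - Γ.card := by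
    have e' : (ofFixingSubgroup Y (Γ : Set β)) ≃ (((Γ : Set β))ᶜ : Set β) := Equiv.refl _
    rw [Nat.card_congr e', Nat.card_coe_set_eq, Set.ncard_compl, Nat.card_eq_fintype_card,
      Set.ncard_coe_finset]
  have hinj : Function.Injective
      (MulAction.toPermHom (fixingSubgroup Y (Γ : Set β)) (ofFixingSubgroup Y (Γ : Set β))) := by
    rw [injective_iff_map_eq_one]
    rintro ⟨g, hg⟩ h1
    have hfix : ∀ y : β, y ∉ (Γ : Set β) → g • y = y := by
      intro y hy
      have := DFunLike.congr_fun h1 (⟨y, hy⟩ : ofFixingSubgroup Y (Γ : Set β))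
      simp only [MulAction.toPermHom_apply, MulAction.toPerm_apply, Equiv.Perm.coe_one,
        id_eq] at this
      exact congrArg Subtype.val this
    have hall : ∀ y : β, g • y = y := by
      intro y
      by_cases hy : y ∈ (Γ : Set β)
      · exact (mem_fixingSubgroup_iff Y).mp hg y hy
      · exact hfix y hy
    have : g = 1 := by
      apply Subtype.ext
      ext y
      exact hall y
    exact Subtype.ext this
  have := Subgroup.card_dvd_of_injective _ hinj
  rwa [Nat.card_perm, hcard] at this

theorem index_of_card_mul {β : Type*} [Fintype β] [DecidableEq β] (Y : Subgroup (Equiv.Perm β))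
    (i : ℕ) (h : Nat.card Y * i = (Fintype.card β)!) : Y.index = i := by
  have h1 := Subgroup.card_mul_index Y
  rw [Nat.card_perm, Nat.card_eq_fintype_card (α := β), ← h] at h1
  have hpos : 0 < Nat.card Y := Nat.card_pos
  exact Nat.eq_of_mul_eq_mul_left hpos h1

theorem alt_of_small {β : Type*} [Fintype β] [DecidableEq β] (Y : Subgroup (Equiv.Perm β)) {k : ℕ}
    (hk : 5 ≤ k) (hcard : Fintype.card β = k + 1 ∨ Fintype.card β = k + 2)
    (ht : IsMultiplyPretransitive Y β (k - 1))
    (hodd : ∀ Γ : Finset β, Γ.card = k - 1 → Odd (Nat.card (fixingSubgroup Y (Γ : Set β)))) :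
    Y = alternatingGroup β := by
  classical
  have hle : k - 1 ≤ (Finset.univ : Finset β).card := by
    rw [Finset.card_univ]; omega
  obtain ⟨Γ, -, hΓ⟩ := Finset.exists_subset_card_eq hle
  have h1 := Cfsg.Agent.Lib.Helper1.Wl.card_mul_factorial Y ht Γ hΓ
  have h2 := card_fixing_dvd Y Γ
  have h3 := hodd Γ hΓ
  rw [hΓ] at h2
  obtain ⟨l, hl⟩ : ∃ l, l = Nat.card (fixingSubgroup Y (Γ : Set β)) := ⟨_, rfl⟩
  rw [← hl] at h1 h2 h3
  apply Equiv.Perm.eq_alternatingGroup_of_index_eq_two
  rcases hcard with hc | hc
  · have e1 : Fintype.card β - (k - 1) = 2 := by omega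
    rw [e1] at h1 h2
    have hl2 : l ≤ 2 := Nat.le_of_dvd (by norm_num) h2
    have hl1 : l = 1 := by
      obtain ⟨m, hm⟩ := h3
      interval_cases l <;> omega
    rw [hl1, mul_one] at h1
    exact index_of_card_mul Y 2 (by rw [← h1]; rfl)
  · have e1 : Fintype.card β - (k - 1) = 3 := by omega
    rw [e1] at h1 h2
    have hl6 : l ≤ 6 := Nat.le_of_dvd (by norm_num) h2
    have hl13 : l = 1 ∨ l = 3 := by
      obtain ⟨m, hm⟩ := h3
      have h6 : (3 : ℕ)! = 6 := rfl
      rw [h6] at h2
      interval_cases l <;> omega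
    rcases hl13 with hl1 | hl3
    · exfalso
      rw [hl1, mul_one] at h1
      have hidx := index_of_card_mul Y 6 (by rw [← h1]; rfl)
      exact Cfsg.Agent.Lib.Helper1.Wl.no_small_index Y (by omega) (by omega) (by omega)
    · rw [hl3] at h1
      apply index_of_card_mul Y 2
      have h6 : (3 : ℕ)! = 6 := rfl
      rw [h6] at h1
      have : Nat.card Y * 2 * 3 = (Fintype.card β)! * 3 := by rw [← h1]; ring
      exact Nat.eq_of_mul_eq_mul_right (by norm_num) this

end Cfsg.Agent.Lib.Helper2.KHom
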