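import Mathlib
import Cfsg.Agent.Lib.Helper6.KHom1
import Cfsg.Agent.Lib.Helper6.KHom2
import Cfsg.Agent.Lib.Helper1.Wl18

set_option autoImplicit false
set_option maxHeartbeats 4000000
set_option maxRecDepth 100000
set_option linter.unusedVariables false
set_option linter.unusedSectionVars false
set_option linter.style.longLine false
set_option linter.unusedSimpArgs false
set_option linter.deprecated false
set_option linter.style.haveILetI false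

/-! # Livingstone–Wagner (b), piece H: two orbits and an involution give all swaps -/

namespace Cfsg.Agent.Lib.Helper2.KHom

open MulAction SubMulAction Cfsg.Agent.Lib.Helper8.Mil Cfsg.Agent.Lib.Helper6.KHom

variable {α : Type*} [Fintype α] [DecidableEq α] (G : Subgroup (Equiv.Perm α))

theorem hasSwaps_of_two_orbits {k : ℕ} (hk : 2 ≤ k) (hkn : k ≤ Fintype.card α)
    (ht : IsMultiplyPretransitive G α (k - 1)) (Γ : Finset α) (hΓ : Γ.card = k - 1) (a b : α)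
    (h2 : ∀ z : α, z ∉ Γ → (∃ l : G, l ∈ fixingSubgroup G (Γ : Set α) ∧ l • a = z) ∨
      (∃ l : G, l ∈ fixingSubgroup G (Γ : Set α) ∧ l • b = z))
    (t : G) (htΓ : t ∈ fixingSubgroup G (Γ : Set α)) (ht1 : t ≠ 1) (ht2 : t * t = 1) :
    HasSwaps G k := by
  classical
  intro Γ0 hΓ0 x y hx hy hxy
  obtain ⟨F0, hF0⟩ : ∃ F0, F0 = fixingSubgroup G (Γ0 : Set α) := ⟨_, rfl⟩
  obtain ⟨Γ', hΓ'⟩ : ∃ Γ' : Finset α, Γ' = insert x Γ0 := ⟨_, rfl⟩
  obtain ⟨FX, hFX⟩ : ∃ FX, FX = fixingSubgroup G (Γ' : Set α) := ⟨_, rfl⟩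
  have hmem0 : ∀ g : G, g ∈ F0 ↔ ∀ z ∈ Γ0, g • z = z := by
    intro g; rw [hF0, mem_fixingSubgroup_iff]; simp only [Finset.mem_coe]
  have hmemX : ∀ g : G, g ∈ FX ↔ ∀ z ∈ Γ', g • z = z := by
    intro g; rw [hFX, mem_fixingSubgroup_iff]; simp only [Finset.mem_coe]
  have hmemΓ : ∀ g : G, g ∈ fixingSubgroup G (Γ : Set α) ↔ ∀ z ∈ Γ, g • z = z := by
    intro g; rw [mem_fixingSubgroup_iff]; simp only [Finset.mem_coe]
  have hFX0 : FX ≤ F0 := by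
    intro g hg
    rw [hmem0]
    intro z hz
    exact (hmemX g).mp hg z (by rw [hΓ']; exact Finset.mem_insert_of_mem hz)
  have hFXx : ∀ g ∈ FX, g • x = x := fun g hg =>
    (hmemX g).mp hg x (by rw [hΓ']; exact Finset.mem_insert_self _ _)
  have hΓ'card : Γ'.card = k - 1 := by
    rw [hΓ', Finset.card_insert_of_notMem hx]; omega
  have hnotΓ' : ∀ z, z ∉ Γ0 → z ≠ x → z ∉ Γ' := by
    intro z hz hzx h
    rw [hΓ', Finset.mem_insert] at h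
    rcases h with h | h
    · exact hzx h
    · exact hz h
  have hΓ'0 : ∀ z, z ∉ Γ' → z ∉ Γ0 := by
    intro z hz h
    exact hz (by rw [hΓ']; exact Finset.mem_insert_of_mem h)
  -- membership of images
  have hF0mem : ∀ g ∈ F0, ∀ z, g • z ∈ Γ0 ↔ z ∈ Γ0 := by
    intro g hg z
    constructor
    · intro h
      have h1 := (hmem0 g).mp hg _ h
      have h2 : g • z = z := smul_left_cancel g h1
      rw [← h2]; exact h
    · intro h
      rw [(hmem0 g).mp hg z h]; exact h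
  -- Step A: transport
  have hh : IsPretransitive G (Set.powersetCard α (k - 1)) :=
    Set.powersetCard.isPretransitive_of_isMultiplyPretransitive G ht
  obtain ⟨g0, hg0⟩ := Cfsg.Agent.Lib.Helper1.Wl.homog_exists G hh hΓ hΓ'card
  have hg0mem : ∀ w, w ∈ Γ' ↔ g0⁻¹ • w ∈ Γ := by
    intro w
    rw [← hg0, Finset.mem_smul_finset]
    constructor
    · rintro ⟨v, hv, rfl⟩
      rw [inv_smul_smul]; exact hv
    · intro h
      exact ⟨_, h, smul_inv_smul g0 w⟩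
  have hconj : ∀ l ∈ fixingSubgroup G (Γ : Set α), g0 * l * g0⁻¹ ∈ FX := by
    intro l hl
    rw [hmemX]
    intro w hw
    have h1 := (hmemΓ l).mp hl _ ((hg0mem w).mp hw)
    rw [mul_smul, mul_smul, h1, smul_inv_smul]
  -- the orbit relation of `FX`
  have Rsymm : ∀ z w : α, (∃ h ∈ FX, h • z = w) → ∃ h ∈ FX, h • w = z := by
    rintro z w ⟨h, hh, rfl⟩
    exact ⟨h⁻¹, FX.inv_mem hh, inv_smul_smul h z⟩
  have Rtrans : ∀ z w v : α, (∃ h ∈ FX, h • z = w) → (∃ h ∈ FX, h • w = v) →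
      ∃ h ∈ FX, h • z = v := by
    rintro z w v ⟨h, hh, rfl⟩ ⟨h', hh', rfl⟩
    exact ⟨h' * h, FX.mul_mem hh' hh, mul_smul h' h z⟩
  have B0 : ∀ z, z ∉ Γ' → (∃ h ∈ FX, h • (g0 • a) = z) ∨ (∃ h ∈ FX, h • (g0 • b) = z) := by
    intro z hz
    have hz' : g0⁻¹ • z ∉ Γ := fun h => hz ((hg0mem z).mpr h)
    rcases h2 _ hz' with ⟨l, hl, hla⟩ | ⟨l, hl, hlb⟩
    · left
      refine ⟨g0 * l * g0⁻¹, hconj l hl, ?_⟩
      rw [mul_smul, mul_smul, inv_smul_smul, hla, smul_inv_smul]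
    · right
      refine ⟨g0 * l * g0⁻¹, hconj l hl, ?_⟩
      rw [mul_smul, mul_smul, inv_smul_smul, hlb, smul_inv_smul]
  have B : ∀ z1 z2 z3, z1 ∉ Γ' → z2 ∉ Γ' → z3 ∉ Γ' →
      (∃ h ∈ FX, h • z1 = z2) ∨ (∃ h ∈ FX, h • z1 = z3) ∨ (∃ h ∈ FX, h • z2 = z3) := by
    intro z1 z2 z3 h1 h2' h3
    rcases B0 z1 h1 with e1 | e1 <;> rcases B0 z2 h2' with e2 | e2 <;>
      rcases B0 z3 h3 with e3 | e3
    · exact Or.inl (Rtrans _ _ _ (Rsymm _ _ e1) e2)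
    · exact Or.inl (Rtrans _ _ _ (Rsymm _ _ e1) e2)
    · exact Or.inr (Or.inl (Rtrans _ _ _ (Rsymm _ _ e1) e3))
    · exact Or.inr (Or.inr (Rtrans _ _ _ (Rsymm _ _ e2) e3))
    · exact Or.inr (Or.inr (Rtrans _ _ _ (Rsymm _ _ e2) e3))
    · exact Or.inr (Or.inl (Rtrans _ _ _ (Rsymm _ _ e1) e3))
    · exact Or.inl (Rtrans _ _ _ (Rsymm _ _ e1) e2)
    · exact Or.inl (Rtrans _ _ _ (Rsymm _ _ e1) e2)
  -- Step C: the involution
  obtain ⟨t', ht'def⟩ : ∃ t', t' = g0 * t * g0⁻¹ := ⟨_, rfl⟩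
  have ht'X : t' ∈ FX := by rw [ht'def]; exact hconj t htΓ
  have ht'2 : t' * t' = 1 := by
    rw [ht'def]
    have : g0 * t * g0⁻¹ * (g0 * t * g0⁻¹) = g0 * (t * t) * g0⁻¹ := by group
    rw [this, ht2, mul_one, mul_inv_cancel]
  have ht'1 : t' ≠ 1 := by
    intro h
    apply ht1
    rw [ht'def] at h
    have : t = g0⁻¹ * (g0 * t * g0⁻¹) * g0 := by group
    rw [this, h]; group
  obtain ⟨c1, hc1⟩ : ∃ c1 : α, t' • c1 ≠ c1 := by
    by_contra hcon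
    push Not at hcon
    apply ht'1
    apply Subtype.ext
    ext z
    exact hcon z
  obtain ⟨c2, hc2⟩ : ∃ c2 : α, c2 = t' • c1 := ⟨_, rfl⟩
  have hc21 : t' • c2 = c1 := by rw [hc2, ← mul_smul, ht'2, one_smul]
  have hc12 : c2 ≠ c1 := by rw [hc2]; exact hc1
  have hc1Γ' : c1 ∉ Γ' := fun h => hc1 ((hmemX t').mp ht'X c1 h)
  have hc1Γ0 : c1 ∉ Γ0 := hΓ'0 c1 hc1Γ'
  have hc2Γ0 : c2 ∉ Γ0 := by
    rw [hc2, hF0mem t' (hFX0 ht'X)]; exact hc1Γ0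
  -- Step D: transitivity of `F0` outside `Γ0`
  have hfin : Finite (Γ0 : Set α) := Finset.finite_toSet Γ0 |>.to_subtype
  have hD1 : IsMultiplyPretransitive (fixingSubgroup G (Γ0 : Set α))
      (ofFixingSubgroup G (Γ0 : Set α)) 1 := by
    haveI := ht
    exact SubMulAction.ofFixingSubgroup.isMultiplyPretransitive (n := k - 1) G (Γ0 : Set α)
      (by rw [Set.ncard_coe_finset]; omega)
  rw [is_one_pretransitive_iff] at hD1
  have hD : ∀ u v : α, u ∉ Γ0 → v ∉ Γ0 → ∃ g ∈ F0, g • u = v := by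
    intro u v hu hv
    obtain ⟨g, hg⟩ := hD1.exists_smul_eq (⟨u, hu⟩ : ofFixingSubgroup G (Γ0 : Set α))
      (⟨v, hv⟩ : ofFixingSubgroup G (Γ0 : Set α))
    refine ⟨g.1, by rw [hF0]; exact g.2, ?_⟩
    exact congrArg Subtype.val hg
  -- Step E
  obtain ⟨g, hgF, hgc⟩ := hD c1 x hc1Γ0 hx
  obtain ⟨b'', hb''⟩ : ∃ b'' : α, b'' = g • c2 := ⟨_, rfl⟩
  have hb''0 : b'' ∉ Γ0 := by rw [hb'', hF0mem g hgF]; exact hc2Γ0
  have hb''x : b'' ≠ x := by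
    rw [hb'', ← hgc]
    intro h
    exact hc12 (smul_left_cancel g h)
  have hb''Γ' : b'' ∉ Γ' := hnotΓ' b'' hb''0 hb''x
  obtain ⟨s, hsdef⟩ : ∃ s, s = g * t' * g⁻¹ := ⟨_, rfl⟩
  have hsF : s ∈ F0 := by
    rw [hsdef]
    exact F0.mul_mem (F0.mul_mem hgF (hFX0 ht'X)) (F0.inv_mem hgF)
  have hsx : s • x = b'' := by
    rw [hsdef, mul_smul, mul_smul, ← hgc, inv_smul_smul, ← hc2, hb'']
  have hsb : s • b'' = x := by
    rw [hsdef, mul_smul, mul_smul, hb'', inv_smul_smul, hc21, hgc]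
  obtain ⟨g1, hg1F, hg1y⟩ := hD y x hy hx
  obtain ⟨y', hy'⟩ : ∃ y' : α, y' = g1 • x := ⟨_, rfl⟩
  have hy'0 : y' ∉ Γ0 := by rw [hy', hF0mem g1 hg1F]; exact hx
  have hy'x : y' ≠ x := by
    rw [hy']
    intro h
    exact hxy (smul_left_cancel g1 (h.trans hg1y.symm))
  have hy'Γ' : y' ∉ Γ' := hnotΓ' y' hy'0 hy'x
  have hyΓ' : y ∉ Γ' := hnotΓ' y hy (Ne.symm hxy)
  have hfin : ∀ u ∈ F0, u • x = y → u • y = x →
      ∃ u : G, (∀ z ∈ Γ0, u • z = z) ∧ u • x = y ∧ u • y = x :=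
    fun u hu h1 h2 => ⟨u, (hmem0 u).mp hu, h1, h2⟩
  have hinvx : ∀ h ∈ FX, h⁻¹ • x = x := by
    intro h hh
    rw [inv_smul_eq_iff, hFXx h hh]
  rcases B y y' b'' hyΓ' hy'Γ' hb''Γ' with ⟨h, hhX, hh1⟩ | ⟨h, hhX, hh1⟩ | ⟨h, hhX, hh1⟩
  · -- `h • y = y'`
    apply hfin (h⁻¹ * g1) (F0.mul_mem (F0.inv_mem (hFX0 hhX)) hg1F)
    · rw [mul_smul, ← hy', ← hh1, inv_smul_smul]
    · rw [mul_smul, hg1y, hinvx h hhX]
  · -- `h • y = b''`
    apply hfin (h⁻¹ * s * h)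
      (F0.mul_mem (F0.mul_mem (F0.inv_mem (hFX0 hhX)) hsF) (hFX0 hhX))
    · rw [mul_smul, mul_smul, hFXx h hhX, hsx, ← hh1, inv_smul_smul]
    · rw [mul_smul, mul_smul, hh1, hsb, hinvx h hhX]
  · -- `h • y' = b''`
    obtain ⟨v, hvdef⟩ : ∃ v, v = h⁻¹ * s * h := ⟨_, rfl⟩
    have hvF : v ∈ F0 := by
      rw [hvdef]
      exact F0.mul_mem (F0.mul_mem (F0.inv_mem (hFX0 hhX)) hsF) (hFX0 hhX)
    have hvx : v • x = y' := by
      rw [hvdef, mul_smul, mul_smul, hFXx h hhX, hsx, ← hh1, inv_smul_smul]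
    have hvy : v • y' = x := by
      rw [hvdef, mul_smul, mul_smul, hh1, hsb, hinvx h hhX]
    apply hfin (g1⁻¹ * v * g1) (F0.mul_mem (F0.mul_mem (F0.inv_mem hg1F) hvF) hg1F)
    · rw [mul_smul, mul_smul, ← hy', hvy, ← hg1y, inv_smul_smul]
    · rw [mul_smul, mul_smul, hg1y, hvx, hy', inv_smul_smul]

end Cfsg.Agent.Lib.Helper2.KHom
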