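import Cfsg.Agent.Lib.Helper6.KInfDefs

set_option autoImplicit false
set_option linter.style.haveILetI false

namespace Cfsg.Agent.Lib.Helper2.KInfK2

open Cfsg Cfsg.Agent.Lib.Helper7 Cfsg.Agent.Lib.Helper6.KInfDefs

universe u

variable {G : Type u} [Group G]

theorem centralizer_le_of_critical [Finite G] {p : ℕ} [Fact p.Prime] (A : Subgroup G)
    (hAn : A.Normal) (hAT : A ≤ pCore p G)
    (hA4 : pCore p G ⊓ Subgroup.centralizer ((A : Subgroup G) : Set G) =
      A ⊓ Subgroup.centralizer ((A : Subgroup G) : Set G))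
    (hA5 : ∀ φ : MulAut ↥(pCore p G), (orderOf φ).Coprime p →
      (∀ a : ↥(pCore p G), (a : G) ∈ A → φ a = a) → φ = 1)
    (hCT : Subgroup.centralizer ((pCore p G : Subgroup G) : Set G) ≤ pCore p G) :
    Subgroup.centralizer ((A : Subgroup G) : Set G) ≤
      A ⊓ Subgroup.centralizer ((A : Subgroup G) : Set G) := by
  have hp : p.Prime := Fact.out
  set T : Subgroup G := pCore p G with hT
  have hTp : IsPGroup p ↥T := Cfsg.Agent.Lib.Helper7.pCore_isPGroup p G
  set C : Subgroup G := Subgroup.centralizer ((A : Subgroup G) : Set G) with hC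
  haveI : A.Normal := hAn
  have hCn : C.Normal := inferInstance
  -- p'-elements of C are trivial
  have hp' : ∀ y ∈ C, (orderOf y).Coprime p → y = 1 := by
    intro y hy hyp
    have h1 : (MulAut.conjNormal y : MulAut ↥T) = 1 := by
      apply hA5
      · have hdvd : orderOf (MulAut.conjNormal y : MulAut ↥T) ∣ orderOf y :=
          orderOf_map_dvd (MulAut.conjNormal (H := T)) y
        exact Nat.Coprime.coprime_dvd_left hdvd hyp
      · intro a ha
        apply Subtype.ext
        rw [MulAut.conjNormal_apply]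
        have := (Subgroup.mem_centralizer_iff.mp hy) (a : G) ha
        rw [← this]; group
    have h2 : y ∈ Subgroup.centralizer ((T : Subgroup G) : Set G) := by
      rw [Subgroup.mem_centralizer_iff]
      intro t ht
      have := congrArg (fun φ : MulAut ↥T => ((φ ⟨t, ht⟩ : ↥T) : G)) h1
      simp only [MulAut.conjNormal_apply, MulAut.one_apply] at this
      calc t * y = (y * t * y⁻¹) * y := by rw [this]
        _ = y * t := by group
    have h3 : y ∈ T := hCT h2
    obtain ⟨k, hk⟩ := (IsPGroup.iff_orderOf.mp hTp) ⟨y, h3⟩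
    have hk' : orderOf y = p ^ k := by
      rw [← hk]
      exact (Subgroup.orderOf_mk y h3).symm
    rw [hk'] at hyp
    have h4 : k = 0 := by
      by_contra hk0
      have : p = 1 := Nat.Coprime.eq_one_of_dvd hyp.symm (dvd_pow_self p hk0)
      exact hp.one_lt.ne' this
    rw [h4, pow_zero] at hk'
    exact orderOf_eq_one_iff.mp hk'
  have hCp : IsPGroup p ↥C := by
    intro x
    set n := orderOf (x : G) with hn
    have hn0 : n ≠ 0 := (orderOf_pos (x : G)).ne'
    refine ⟨n.factorization p, ?_⟩
    apply Subtype.ext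
    push_cast
    apply hp' _ (C.pow_mem x.2 _)
    have hdvd : p ^ n.factorization p ∣ n := Nat.ordProj_dvd n p
    rw [orderOf_pow_of_dvd (pow_ne_zero _ hp.ne_zero) hdvd]
    exact (Nat.coprime_ordCompl hp hn0).symm
  have hCT' : C ≤ T := Cfsg.Agent.Lib.Helper7.le_pCore hCn hCp
  intro x hx
  have : x ∈ T ⊓ C := ⟨hCT' hx, hx⟩
  rw [hA4] at this
  exact this

end Cfsg.Agent.Lib.Helper2.KInfK2
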