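import Cfsg.Agent.Lib.Helper9.FusionSat4
import Cfsg.Agent.Lib.Helper9.GroupFusionAut

/-!
# `K`-normalizers in pulled-back form

Generic tools for `K`-normalizer arguments (AKO I.5): for a homomorphism `φ : R →* Ω` we work inside
`MulAut R` with the subgroup `AS S φ` of those automorphisms `α` such that `φ α φ⁻¹` is induced by an
element of `S`, so that no subgroup of an automorphism group has to be transported.
-/

set_option autoImplicit false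

namespace Cfsg.Agent.Lib.Helper2.KNorm

open Cfsg Cfsg.FusionSystem Cfsg.Agent.Lib.Helper9

/-! ### Sylow subgroups of subgroups -/

section Syl

variable {G : Type*} [Group G]

/-- `T` is a Sylow `p`-subgroup of `H` (both subgroups of `G`) -/
def IsSyl (p : ℕ) (T H : Subgroup G) : Prop :=
  T ≤ H ∧ ∃ R : Sylow p H, (R : Subgroup H) = T.subgroupOf H

theorem IsSyl.isPGroup {p : ℕ} {T H : Subgroup G} (h : IsSyl p T H) : IsPGroup p T := by
  obtain ⟨hTH, R, hR⟩ := h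
  have h1 : IsPGroup p (T.subgroupOf H) := hR ▸ R.isPGroup'
  exact h1.of_equiv (Subgroup.subgroupOfEquivOfLe hTH)

theorem IsSyl.conj [Finite G] {p : ℕ} [Fact p.Prime] {T H : Subgroup G} (h : IsSyl p T H)
    {U : Subgroup G} (hU : U ≤ H) (hpU : IsPGroup p U) : ∃ a ∈ H, ∀ u ∈ U, a * u * a⁻¹ ∈ T := by
  obtain ⟨-, R, hR⟩ := h
  obtain ⟨a, ha, hle⟩ := exists_cj_le_of_sylowIn R hR hU hpU
  exact ⟨a, ha, fun u hu => hle (cj_mem_cj hu)⟩

theorem IsSyl.card_le [Finite G] {p : ℕ} [Fact p.Prime] {T H : Subgroup G} (h : IsSyl p T H)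
    {U : Subgroup G} (hU : U ≤ H) (hpU : IsPGroup p U) : Nat.card U ≤ Nat.card T := by
  obtain ⟨hTH, R, hR⟩ := h
  exact card_le_of_sylowIn hTH R hR hU hpU

theorem IsSyl.of_card_le [Finite G] {p : ℕ} [Fact p.Prime] {T H : Subgroup G} (hTH : T ≤ H)
    (hT : IsPGroup p T)
    (h : ∀ U : Subgroup G, T ≤ U → U ≤ H → IsPGroup p U → Nat.card U ≤ Nat.card T) :
    IsSyl p T H :=
  ⟨hTH, sylowIn_of_card_le hTH hT h⟩

theorem IsSyl.mono_right [Finite G] {p : ℕ} [Fact p.Prime] {T M H : Subgroup G}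
    (h : IsSyl p T H) (hTM : T ≤ M) (hMH : M ≤ H) : IsSyl p T M := by
  obtain ⟨-, R, hR⟩ := h
  exact ⟨hTM, sylowIn_of_le hTM hMH R hR⟩

theorem IsSyl.mono_left [Finite G] {p : ℕ} [Fact p.Prime] {T T' H : Subgroup G}
    (h : IsSyl p T H) (hTT' : T ≤ T') (hT'H : T' ≤ H) (hT' : IsPGroup p T') : IsSyl p T' H := by
  apply IsSyl.of_card_le hT'H hT'
  intro U _ hUH hU
  exact (h.card_le hUH hU).trans (Subgroup.card_le_of_le hTT')

/-- transport of `IsSyl` along an isomorphism -/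
theorem IsSyl.of_equiv {G' : Type*} [Group G'] [Finite G] [Finite G'] {p : ℕ} [Fact p.Prime]
    (c : G ≃* G') {T H : Subgroup G} {T' H' : Subgroup G'}
    (hT : ∀ x, x ∈ T ↔ c x ∈ T') (hH : ∀ x, x ∈ H ↔ c x ∈ H') (h : IsSyl p T H) :
    IsSyl p T' H' := by
  have hT'eq : T' = T.map c.toMonoidHom := by
    ext y
    rw [Subgroup.mem_map_equiv, hT, MulEquiv.apply_symm_apply]
  have hT'H' : T' ≤ H' := by
    intro y hy
    have h1 : c.symm y ∈ T := by rw [hT, MulEquiv.apply_symm_apply]; exact hy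
    have h2 := (hH _).mp (h.1 h1)
    rwa [MulEquiv.apply_symm_apply] at h2
  have hT'p : IsPGroup p T' := by
    rw [hT'eq]; exact h.isPGroup.map _
  apply IsSyl.of_card_le hT'H' hT'p
  intro U' _ hU'H' hU'p
  have hUH : U'.map c.symm.toMonoidHom ≤ H := by
    rintro _ ⟨y, hy, rfl⟩
    show c.symm y ∈ H
    rw [hH, MulEquiv.apply_symm_apply]
    exact hU'H' hy
  have hUp : IsPGroup p (U'.map c.symm.toMonoidHom) := hU'p.map _
  have h1 := h.card_le hUH hUp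
  have h2 : Nat.card (U'.map c.symm.toMonoidHom) = Nat.card U' :=
    Subgroup.card_map_of_injective c.symm.injective
  have h3 : Nat.card (T.map c.toMonoidHom) = Nat.card T :=
    Subgroup.card_map_of_injective c.injective
  rw [hT'eq, h3, ← h2]
  exact h1

end Syl

variable {Ω : Type*} [Group Ω] {S : Subgroup Ω}

/-! ### Normalizers of joins -/

theorem conj_mem_sup {A B : Subgroup Ω} {g : Ω} (hA : g ∈ Subgroup.normalizer (A : Set Ω))
    (hB : g ∈ Subgroup.normalizer (B : Set Ω)) {y : Ω} (hy : y ∈ A ⊔ B) :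
    g * y * g⁻¹ ∈ A ⊔ B := by
  have hle : A ⊔ B ≤ (A ⊔ B).comap (MulAut.conj g).toMonoidHom := by
    apply sup_le
    · intro a ha
      exact (le_sup_left : A ≤ A ⊔ B) ((Subgroup.mem_normalizer_iff.mp hA a).mp ha)
    · intro b hb
      exact (le_sup_right : B ≤ A ⊔ B) ((Subgroup.mem_normalizer_iff.mp hB b).mp hb)
  exact hle hy

theorem mem_normalizer_sup {A B : Subgroup Ω} {g : Ω}
    (hA : g ∈ Subgroup.normalizer (A : Set Ω)) (hB : g ∈ Subgroup.normalizer (B : Set Ω)) :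
    g ∈ Subgroup.normalizer ((A ⊔ B : Subgroup Ω) : Set Ω) := by
  rw [Subgroup.mem_normalizer_iff]
  intro y
  constructor
  · exact conj_mem_sup hA hB
  · intro hy
    have h := conj_mem_sup (Subgroup.inv_mem _ hA) (Subgroup.inv_mem _ hB) hy
    have e : g⁻¹ * (g * y * g⁻¹) * g⁻¹⁻¹ = y := by group
    rwa [e] at h

/-! ### `AS` and `NS` -/

/-- the automorphisms `α` of `R` such that `φ α φ⁻¹` is induced by an element of `S` -/
def AS (S : Subgroup Ω) {R : Subgroup Ω} (φ : R →* Ω) : Subgroup (MulAut R) where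
  carrier := {α | ∃ g ∈ S, ∀ x : R, φ (α x) = g * φ x * g⁻¹}
  one_mem' := ⟨1, S.one_mem, fun x => by simp⟩
  mul_mem' := by
    rintro α β ⟨g, hg, hα⟩ ⟨h, hh, hβ⟩
    refine ⟨g * h, S.mul_mem hg hh, fun x => ?_⟩
    rw [MulAut.mul_apply, hα, hβ]
    group
  inv_mem' := by
    rintro α ⟨g, hg, hα⟩
    refine ⟨g⁻¹, S.inv_mem hg, fun x => ?_⟩
    have h := hα (α⁻¹ x)
    rw [MulAut.apply_inv_self] at h
    rw [h]
    group

theorem mem_AS {R : Subgroup Ω} {φ : R →* Ω} {α : MulAut R} :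
    α ∈ AS S φ ↔ ∃ g ∈ S, ∀ x : R, φ (α x) = g * φ x * g⁻¹ := Iff.rfl

/-- the elements of `S` acting on `φ(R)` as `φ α φ⁻¹` for some `α ∈ L` -/
def NS (S : Subgroup Ω) {R : Subgroup Ω} (φ : R →* Ω) (L : Subgroup (MulAut R)) : Subgroup Ω where
  carrier := {g | g ∈ S ∧ ∃ α ∈ L, ∀ x : R, φ (α x) = g * φ x * g⁻¹}
  one_mem' := ⟨S.one_mem, 1, L.one_mem, fun x => by simp⟩
  mul_mem' := by
    rintro a b ⟨ha, α, hα, hα'⟩ ⟨hb, β, hβ, hβ'⟩
    refine ⟨S.mul_mem ha hb, α * β, L.mul_mem hα hβ, fun x => ?_⟩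
    rw [MulAut.mul_apply, hα', hβ']
    group
  inv_mem' := by
    rintro a ⟨ha, α, hα, hα'⟩
    refine ⟨S.inv_mem ha, α⁻¹, L.inv_mem hα, fun x => ?_⟩
    have h := hα' (α⁻¹ x)
    rw [MulAut.apply_inv_self] at h
    rw [h]
    group

theorem mem_NS {R : Subgroup Ω} {φ : R →* Ω} {L : Subgroup (MulAut R)} {g : Ω} :
    g ∈ NS S φ L ↔ g ∈ S ∧ ∃ α ∈ L, ∀ x : R, φ (α x) = g * φ x * g⁻¹ := Iff.rfl

theorem mem_NS_subtype {Q : Subgroup Ω} {K : Subgroup (MulAut Q)} {g : Ω} :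
    g ∈ NS S Q.subtype K ↔ g ∈ S ∧ ∃ α ∈ K, ∀ q : Q, ((α q : Q) : Ω) = g * q * g⁻¹ := Iff.rfl

theorem NS_le {R : Subgroup Ω} (φ : R →* Ω) (L : Subgroup (MulAut R)) : NS S φ L ≤ S :=
  fun _ h => h.1

theorem NS_conj_mem {R : Subgroup Ω} {φ : R →* Ω} {L : Subgroup (MulAut R)} {g : Ω}
    (hg : g ∈ NS S φ L) {y : Ω} (hy : y ∈ φ.range) : g * y * g⁻¹ ∈ φ.range := by
  obtain ⟨-, α, -, hα⟩ := hg
  obtain ⟨x, rfl⟩ := hy
  exact ⟨α x, hα x⟩

theorem NS_le_normalizer {R : Subgroup Ω} {φ : R →* Ω} {L : Subgroup (MulAut R)} :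
    NS S φ L ≤ Subgroup.normalizer ((φ.range : Subgroup Ω) : Set Ω) := by
  intro g hg
  rw [Subgroup.mem_normalizer_iff]
  intro y
  constructor
  · exact NS_conj_mem hg
  · intro hy
    have h := NS_conj_mem ((NS S φ L).inv_mem hg) hy
    have e : g⁻¹ * (g * y * g⁻¹) * g⁻¹⁻¹ = y := by group
    rwa [e] at h

theorem AS_subtype (S R : Subgroup Ω) : AS S R.subtype = autInducedBy S R := by
  ext α
  rw [mem_autInducedBy_iff]
  exact Iff.rfl

theorem isPGroup_AS {p : ℕ} (hS : IsPGroup p S) {R : Subgroup Ω} {φ : R →* Ω}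
    (hinj : Function.Injective φ) : IsPGroup p (AS S φ) := by
  rintro ⟨α, g, hg, hα⟩
  obtain ⟨k, hk⟩ := hS ⟨g, hg⟩
  refine ⟨k, ?_⟩
  have hpow : ∀ n : ℕ, ∀ x : R, φ ((α ^ n) x) = g ^ n * φ x * (g ^ n)⁻¹ := by
    intro n
    induction n with
    | zero => intro x; simp
    | succ n ih =>
      intro x
      rw [pow_succ', MulAut.mul_apply, hα, ih]
      simp only [pow_succ', mul_inv_rev, mul_assoc]
  have hgk : g ^ (p ^ k) = 1 := by
    have h := congrArg (fun s : S => (s : Ω)) hk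
    simpa using h
  have h1 : α ^ (p ^ k) = 1 := by
    apply MulEquiv.ext
    intro x
    apply hinj
    rw [hpow, hgk]
    simp
  apply Subtype.ext
  rw [Subgroup.coe_pow, Subgroup.coe_one]
  exact h1

theorem AS_le_autGroup (F : FusionSystem S) {R : Subgroup Ω} {φ : R →* Ω} (hφ : φ ∈ F.Hom R) :
    AS S φ ≤ F.autGroup R := by
  rintro α ⟨g, hg, hα⟩
  have hRS : R ≤ S := hom_le F hφ
  rw [mem_autGroup_iff F hRS]
  obtain ⟨θ, hθ, hθφ, -, -⟩ := inv_hom F hφ rfl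
  have hcg := F.conj_mem (P := φ.range) (range_le F hφ) hg
  obtain ⟨χ₁, hχ₁, hχ₁e⟩ := comp_hom F hφ hcg (fun x => ⟨x, rfl⟩)
  have h0 : ∀ x : R, χ₁ x = φ (α x) := by
    intro x
    rw [hχ₁e, hα]
    rfl
  have hmem : ∀ x : R, φ x ∈ φ.range := fun x => ⟨x, rfl⟩
  have h1 : ∀ x : R, χ₁ x ∈ φ.range := fun x => ⟨α x, (h0 x).symm⟩
  obtain ⟨χ₂, hχ₂, hχ₂e⟩ := comp_hom F hχ₁ hθ h1
  have h3 : R.subtype.comp α.toMonoidHom = χ₂ := by
    ext x
    rw [hχ₂e]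
    have h2 : (⟨χ₁ x, h1 x⟩ : φ.range) = ⟨φ (α x), hmem (α x)⟩ := Subtype.ext (h0 x)
    rw [h2, hθφ]
    rfl
  rw [h3]
  exact hχ₂

/-- twisting by an automorphism -/
theorem mem_AS_comp {R : Subgroup Ω} {φ₀ φ : R →* Ω} {χ : MulAut R}
    (hφ : ∀ x : R, φ x = φ₀ (χ x)) {α : MulAut R} (h : χ * α * χ⁻¹ ∈ AS S φ₀) : α ∈ AS S φ := by
  obtain ⟨g, hg, hgt⟩ := h
  refine ⟨g, hg, fun x => ?_⟩
  rw [hφ, hφ]
  have h1 := hgt (χ x)
  rw [MulAut.mul_apply, MulAut.mul_apply, MulAut.inv_apply_self] at h1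
  exact h1

/-! ### Transport along an isomorphism of the system -/

theorem congr_mem_autGroup' (F : FusionSystem S) {R R' : Subgroup Ω} {φ : R →* Ω}
    (hφ : φ ∈ F.Hom R) (hR' : φ.range = R') (e : R ≃* R')
    (he : ∀ x : R, ((e x : R') : Ω) = φ x) {α : MulAut R} (hα : α ∈ F.autGroup R) :
    MulAut.congr e α ∈ F.autGroup R' := by
  have h1 : e = equivOfRange φ (F.injective_of_mem hφ) hR' :=
    MulEquiv.ext (fun x => Subtype.ext (he x))
  rw [h1]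
  exact congr_mem_autGroup F hφ hR' hα

theorem mem_autGroup_of_congr (F : FusionSystem S) {R R' : Subgroup Ω} {φ : R →* Ω}
    (hφ : φ ∈ F.Hom R) (hR' : φ.range = R') (e : R ≃* R')
    (he : ∀ x : R, ((e x : R') : Ω) = φ x) {α : MulAut R}
    (h : MulAut.congr e α ∈ F.autGroup R') : α ∈ F.autGroup R := by
  have hRS : R ≤ S := hom_le F hφ
  have hR'S : R' ≤ S := hR' ▸ range_le F hφ
  rw [mem_autGroup_iff F hRS]
  obtain ⟨θ, hθ, hθφ, -, -⟩ := inv_hom F hφ hR'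
  have h1 := hom_of_mem_autGroup F hR'S h
  have hφR' : ∀ x : R, φ x ∈ R' := fun x => hR'.le ⟨x, rfl⟩
  obtain ⟨χ₁, hχ₁, hχ₁e⟩ := comp_hom F hφ h1 hφR'
  have h2 : ∀ x : R, χ₁ x = φ (α x) := by
    intro x
    rw [hχ₁e]
    have h3 : (⟨φ x, hφR' x⟩ : R') = e x := Subtype.ext (he x).symm
    rw [h3]
    show ((e (α (e.symm (e x))) : R') : Ω) = φ (α x)
    rw [MulEquiv.symm_apply_apply, he]
  have h3 : ∀ x : R, χ₁ x ∈ R' := fun x => by rw [h2]; exact hφR' _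
  obtain ⟨χ₂, hχ₂, hχ₂e⟩ := comp_hom F hχ₁ hθ h3
  have h5 : R.subtype.comp α.toMonoidHom = χ₂ := by
    ext x
    rw [hχ₂e]
    have h4 : (⟨χ₁ x, h3 x⟩ : R') = ⟨φ (α x), hφR' _⟩ := Subtype.ext (h2 x)
    rw [h4, hθφ]
    rfl
  rw [h5]
  exact hχ₂

theorem mem_AS_iff_congr {R R' : Subgroup Ω} {φ : R →* Ω} (e : R ≃* R')
    (he : ∀ x : R, ((e x : R') : Ω) = φ x) (α : MulAut R) :
    α ∈ AS S φ ↔ MulAut.congr e α ∈ autInducedBy S R' := by
  rw [mem_autInducedBy_iff]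
  constructor
  · rintro ⟨g, hg, h⟩
    refine ⟨g, hg, fun y => ?_⟩
    show ((e (α (e.symm y)) : R') : Ω) = g * y * g⁻¹
    rw [he, h, ← he, MulEquiv.apply_symm_apply]
  · rintro ⟨g, hg, h⟩
    refine ⟨g, hg, fun x => ?_⟩
    have h1 := h (e x)
    have h2 : (MulAut.congr e α) (e x) = e (α x) := by
      show e (α (e.symm (e x))) = e (α x)
      rw [MulEquiv.symm_apply_apply]
    rw [h2, he, he] at h1
    exact h1

/-- pulling back conjugation by an element normalizing the image -/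
theorem exists_pullback_conj {R : Subgroup Ω} {θ : R →* Ω} (hinj : Function.Injective θ) {g : Ω}
    (hg : g ∈ Subgroup.normalizer ((θ.range : Subgroup Ω) : Set Ω)) :
    ∃ α : MulAut R, ∀ x : R, θ (α x) = g * θ x * g⁻¹ := by
  obtain ⟨e, he⟩ : ∃ e : R ≃* θ.range, ∀ x : R, ((e x : θ.range) : Ω) = θ x :=
    ⟨equivOfRange θ hinj rfl, fun _ => rfl⟩
  refine ⟨(MulAut.congr e).symm (conjAut θ.range ⟨g, hg⟩), fun x => ?_⟩
  show θ (e.symm (conjAut θ.range ⟨g, hg⟩ (e x))) = g * θ x * g⁻¹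
  rw [← he, MulEquiv.apply_symm_apply, conjAut_apply, he]

/-- a fully automized image gives a Sylow subgroup in pulled-back form -/
theorem isSyl_AS_of_fullyAutomized [Finite S] {p : ℕ} [Fact p.Prime] (F : FusionSystem S)
    {R : Subgroup Ω} {φ : R →* Ω} (hφ : φ ∈ F.Hom R) (h : F.IsFullyAutomized p φ.range) :
    IsSyl p (AS S φ) (F.autGroup R) := by
  have hRS : R ≤ S := hom_le F hφ
  obtain ⟨hR'S, Sy, hSy⟩ := h
  haveI : Finite R := finite_of_le hRS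
  haveI : Finite φ.range := finite_of_le hR'S
  obtain ⟨e, he⟩ : ∃ e : R ≃* φ.range, ∀ x : R, ((e x : φ.range) : Ω) = φ x :=
    ⟨equivOfRange φ (F.injective_of_mem hφ) rfl, fun _ => rfl⟩
  have h0 : IsSyl p (autInducedBy S φ.range) (F.autGroup φ.range) :=
    ⟨autInducedBy_le_autGroup F hR'S, Sy, hSy⟩
  refine IsSyl.of_equiv (MulAut.congr e).symm ?_ ?_ h0
  · intro y
    rw [mem_AS_iff_congr e he, MulEquiv.apply_symm_apply]
  · intro y
    constructor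
    · intro hy
      apply mem_autGroup_of_congr F hφ rfl e he
      rw [MulEquiv.apply_symm_apply]
      exact hy
    · intro hy
      have h1 := congr_mem_autGroup' F hφ rfl e he hy
      rwa [MulEquiv.apply_symm_apply] at h1

/-- transport of the Sylow condition to the image -/
theorem isSyl_transport [Finite S] {p : ℕ} [Fact p.Prime] (F : FusionSystem S)
    {R R' : Subgroup Ω} {φ : R →* Ω} (hφ : φ ∈ F.Hom R) (hR' : φ.range = R')
    (e : R ≃* R') (he : ∀ x : R, ((e x : R') : Ω) = φ x)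
    (L : Subgroup (MulAut R)) (L' : Subgroup (MulAut R'))
    (hLL' : ∀ α : MulAut R, α ∈ L ↔ MulAut.congr e α ∈ L')
    (h : IsSyl p (AS S φ ⊓ L) (F.autGroup R ⊓ L)) :
    IsSyl p (autInducedBy S R' ⊓ L') (F.autGroup R' ⊓ L') := by
  have hRS : R ≤ S := hom_le F hφ
  have hR'S : R' ≤ S := hR' ▸ range_le F hφ
  haveI : Finite R := finite_of_le hRS
  haveI : Finite R' := finite_of_le hR'S
  refine IsSyl.of_equiv (MulAut.congr e) ?_ ?_ h
  · intro α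
    constructor
    · rintro ⟨h1, h2⟩
      exact ⟨(mem_AS_iff_congr e he α).mp h1, (hLL' α).mp h2⟩
    · rintro ⟨h1, h2⟩
      exact ⟨(mem_AS_iff_congr e he α).mpr h1, (hLL' α).mpr h2⟩
  · intro α
    constructor
    · rintro ⟨h1, h2⟩
      exact ⟨congr_mem_autGroup' F hφ hR' e he h1, (hLL' α).mp h2⟩
    · rintro ⟨h1, h2⟩
      exact ⟨mem_autGroup_of_congr F hφ hR' e he h1, (hLL' α).mpr h2⟩

/-! ### Good morphisms -/

/-- from a morphism `φ₀` whose `AS` is Sylow in `Aut_F(R)` to one that is good for `L` -/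
theorem exists_good_of [Finite S] {p : ℕ} [Fact p.Prime] (hS : IsPGroup p S) (F : FusionSystem S)
    {R : Subgroup Ω} (L : Subgroup (MulAut R)) {φ₀ : R →* Ω} (hφ₀ : φ₀ ∈ F.Hom R)
    (hsyl₀ : IsSyl p (AS S φ₀) (F.autGroup R)) :
    ∃ φ ∈ F.Hom R, φ.range = φ₀.range ∧ IsSyl p (AS S φ ⊓ L) (F.autGroup R ⊓ L) := by
  have hR : R ≤ S := hom_le F hφ₀
  haveI : Finite R := finite_of_le hR
  obtain ⟨Sy⟩ : Nonempty (Sylow p ↥(F.autGroup R ⊓ L)) := inferInstance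
  obtain ⟨T₀, hT₀def⟩ : ∃ T₀ : Subgroup (MulAut R),
      T₀ = (Sy : Subgroup ↥(F.autGroup R ⊓ L)).map (F.autGroup R ⊓ L).subtype := ⟨_, rfl⟩
  have hT₀Γ : T₀ ≤ F.autGroup R ⊓ L := by
    rw [hT₀def]
    rintro _ ⟨x, -, rfl⟩
    exact x.2
  have hT₀p : IsPGroup p T₀ := by
    rw [hT₀def]; exact Sy.isPGroup'.map _
  have hT₀syl : IsSyl p T₀ (F.autGroup R ⊓ L) := by
    refine ⟨hT₀Γ, Sy, ?_⟩
    rw [hT₀def]
    exact (Subgroup.comap_map_eq_self_of_injective (F.autGroup R ⊓ L).subtype_injective _).symm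
  obtain ⟨χ, hχA, hχ⟩ := hsyl₀.conj (hT₀Γ.trans inf_le_left) hT₀p
  have hχhom := hom_of_mem_autGroup F hR hχA
  obtain ⟨φ, hφ, hφe⟩ := comp_hom F hχhom hφ₀ (fun x => (χ x).2)
  have hφe' : ∀ x : R, φ x = φ₀ (χ x) := fun x => hφe x
  have hφr : φ.range = φ₀.range := by
    apply le_antisymm
    · rintro _ ⟨x, rfl⟩
      rw [hφe']
      exact ⟨_, rfl⟩
    · rintro _ ⟨x, rfl⟩
      refine ⟨χ⁻¹ x, ?_⟩
      rw [hφe', MulAut.apply_inv_self]
  refine ⟨φ, hφ, hφr, ?_⟩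
  have hT₀AS : T₀ ≤ AS S φ := fun t ht => mem_AS_comp hφe' (hχ t ht)
  have hASp : IsPGroup p (AS S φ) := isPGroup_AS hS (F.injective_of_mem hφ)
  exact hT₀syl.mono_left (le_inf hT₀AS (hT₀Γ.trans inf_le_right))
    (inf_le_inf_right L (AS_le_autGroup F hφ)) (hASp.to_le inf_le_left)

/-- in a saturated system every pair `(R, L)` has a good morphism -/
theorem exists_good [Finite S] {p : ℕ} [Fact p.Prime] (hS : IsPGroup p S) (F : FusionSystem S)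
    (hF : F.IsSaturated p) {R : Subgroup Ω} (hR : R ≤ S) (L : Subgroup (MulAut R)) :
    ∃ φ ∈ F.Hom R, F.IsFullyCentralized φ.range ∧ IsSyl p (AS S φ ⊓ L) (F.autGroup R ⊓ L) := by
  obtain ⟨R', hRR', hR'n⟩ := exists_isConj_fullyNormalized F hR
  obtain ⟨φ₀, hφ₀, hφ₀r⟩ := hRR'
  have hR'c := fullyCentralized_of_fullyNormalized hS F hF hR'n
  have hR'a := fullyAutomized_of_fullyNormalized hS F hF hR'n
  rw [← hφ₀r] at hR'c hR'a
  obtain ⟨φ, hφ, hφr, hsyl⟩ := exists_good_of hS F L hφ₀ (isSyl_AS_of_fullyAutomized F hφ₀ hR'a)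
  exact ⟨φ, hφ, hφr ▸ hR'c, hsyl⟩

/-- the extension property of good morphisms -/
theorem exists_extension [Finite S] {p : ℕ} [Fact p.Prime] (hS : IsPGroup p S) (F : FusionSystem S)
    {R : Subgroup Ω} {L : Subgroup (MulAut R)} {φg φ : R →* Ω} (hφg : φg ∈ F.Hom R)
    (hφ : φ ∈ F.Hom R) (hrec : F.IsReceptive φg.range)
    (hsyl : IsSyl p (AS S φg ⊓ L) (F.autGroup R ⊓ L)) :
    ∃ χ ∈ F.autGroup R ⊓ L, ∃ ψ ∈ F.Hom (NS S φ L ⊔ φ.range),
      ∀ (x : R) (hx : φ x ∈ NS S φ L ⊔ φ.range), ψ ⟨φ x, hx⟩ = φg (χ x) := by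
  have hRS : R ≤ S := hom_le F hφ
  haveI : Finite R := finite_of_le hRS
  have hTp : IsPGroup p (AS S φ ⊓ L : Subgroup (MulAut R)) :=
    (isPGroup_AS hS (F.injective_of_mem hφ)).to_le inf_le_left
  have hTΓ : AS S φ ⊓ L ≤ F.autGroup R ⊓ L := inf_le_inf_right L (AS_le_autGroup F hφ)
  obtain ⟨χ, hχ, hχT⟩ := hsyl.conj hTΓ hTp
  refine ⟨χ, hχ, ?_⟩
  obtain ⟨θ, hθ, hθφ, hθr, -⟩ := inv_hom F hφ rfl
  have hmem : ∀ x : R, φ x ∈ φ.range := fun x => ⟨x, rfl⟩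
  have hθR : ∀ y : φ.range, θ y ∈ R := fun y => hθr.le ⟨y, rfl⟩
  obtain ⟨ω₁, hω₁, hω₁e⟩ := comp_hom F hθ (hom_of_mem_autGroup F hRS hχ.1) hθR
  have hω₁R : ∀ y : φ.range, ω₁ y ∈ R := fun y => by
    rw [hω₁e]; exact (χ ⟨θ y, hθR y⟩).2
  obtain ⟨ω, hω, hωe⟩ := comp_hom F hω₁ hφg hω₁R
  have hωφ : ∀ (x : R) (hx : φ x ∈ φ.range), ω ⟨φ x, hx⟩ = φg (χ x) := by
    intro x hx
    have h1 : (⟨θ ⟨φ x, hx⟩, hθR ⟨φ x, hx⟩⟩ : R) = x := Subtype.ext (hθφ x hx)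
    have h2 : ω₁ ⟨φ x, hx⟩ = ((χ x : R) : Ω) := by
      rw [hω₁e]
      show ((χ ⟨θ ⟨φ x, hx⟩, hθR ⟨φ x, hx⟩⟩ : R) : Ω) = _
      rw [h1]
    have h3 : (⟨ω₁ ⟨φ x, hx⟩, hω₁R ⟨φ x, hx⟩⟩ : R) = χ x := Subtype.ext h2
    rw [hωe, h3]
  have hωr : ω.range = φg.range := by
    apply le_antisymm
    · rintro _ ⟨y, rfl⟩
      rw [hωe]
      exact ⟨_, rfl⟩
    · rintro _ ⟨z, rfl⟩
      refine ⟨⟨φ (χ⁻¹ z), hmem _⟩, ?_⟩
      rw [hωφ, MulAut.apply_inv_self]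
  obtain ⟨ψ', hψ', hψ'e⟩ := hrec.2 φ.range ω hω hωr
  have hle : NS S φ L ⊔ φ.range ≤ extender S φ.range ω := by
    apply sup_le
    · intro g hg
      obtain ⟨hgS, α, hαL, hα⟩ := hg
      have hαT : α ∈ AS S φ ⊓ L := ⟨⟨g, hgS, hα⟩, hαL⟩
      obtain ⟨⟨h, hhS, hh⟩, -⟩ := hχT α hαT
      apply Subgroup.subset_closure
      refine ⟨hgS, NS_le_normalizer ⟨hgS, α, hαL, hα⟩, h, hhS, ?_⟩
      rintro ⟨_, x, rfl⟩ hy
      have h1 : (⟨g * φ x * g⁻¹, hy⟩ : φ.range) = ⟨φ (α x), hmem _⟩ :=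
        Subtype.ext (hα x).symm
      rw [h1, hωφ]
      show φg (χ (α x)) = h * ω ⟨φ x, hmem x⟩ * h⁻¹
      rw [hωφ]
      have h2 := hh (χ x)
      rw [MulAut.mul_apply, MulAut.mul_apply, MulAut.inv_apply_self] at h2
      exact h2
    · exact le_extender (range_le F hφ) ω (fun y => hom_mem F hω y)
  refine ⟨ψ'.comp (Subgroup.inclusion hle), restrict_mem F hψ' hle, ?_⟩
  intro x hx
  have h1 := hψ'e (φ x) (hmem x) (hle hx)
  show ψ' ⟨φ x, hle hx⟩ = φg (χ x)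
  rw [h1, hωφ]

end Cfsg.Agent.Lib.Helper2.KNorm
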