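import Cfsg.Agent.Lib.Helper2.KNorm1

/-!
# `K`-normalizers, generic tools II: Sylow images, stabilizers of a subgroup and restriction
-/

set_option autoImplicit false

namespace Cfsg.Agent.Lib.Helper2.KNorm

open Cfsg Cfsg.FusionSystem Cfsg.Agent.Lib.Helper9

section Syl

variable {G : Type*} [Group G]

theorem IsSyl.of_conj [Finite G] {p : ℕ} [Fact p.Prime] {T H : Subgroup G} (hTH : T ≤ H)
    (hT : IsPGroup p T)
    (h : ∀ U : Subgroup G, U ≤ H → IsPGroup p U → ∃ a ∈ H, ∀ u ∈ U, a * u * a⁻¹ ∈ T) :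
    IsSyl p T H := by
  apply IsSyl.of_card_le hTH hT
  intro U _ hUH hpU
  obtain ⟨a, -, ha⟩ := h U hUH hpU
  apply Nat.card_le_card_of_injective (fun u : U => (⟨a * u * a⁻¹, ha u u.2⟩ : T))
  intro u v huv
  have h1 : a * (u : G) * a⁻¹ = a * (v : G) * a⁻¹ := congrArg (fun t : T => (t : G)) huv
  exact Subtype.ext (mul_left_cancel (mul_right_cancel h1))

/-- images of Sylow subgroups under a surjection -/
theorem sylow_image {G' : Type*} [Group G'] [Finite G] {p : ℕ} [Fact p.Prime] {T Γ : Subgroup G}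
    (h : IsSyl p T Γ) {T' H' : Subgroup G'} (ρ : ↥Γ →* G')
    (h1 : ∀ γ : Γ, ρ γ ∈ H') (h2 : ∀ a ∈ H', ∃ γ : Γ, ρ γ = a)
    (h3 : ∀ γ : Γ, (γ : G) ∈ T → ρ γ ∈ T') (h4 : ∀ a ∈ T', ∃ γ : Γ, (γ : G) ∈ T ∧ ρ γ = a) :
    ∃ Sy : Sylow p H', (Sy : Subgroup H') = T'.subgroupOf H' := by
  obtain ⟨-, Sy₀, hSy₀⟩ := h
  have hsurj : Function.Surjective (ρ.codRestrict H' h1) := by
    rintro ⟨a, ha⟩
    obtain ⟨γ, hγ⟩ := h2 a ha
    exact ⟨γ, Subtype.ext hγ⟩
  refine ⟨Sy₀.mapSurjective hsurj, ?_⟩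
  rw [Sylow.coe_mapSurjective, hSy₀]
  ext a
  constructor
  · rintro ⟨γ, hγ, rfl⟩
    exact h3 γ hγ
  · intro ha
    obtain ⟨γ, hγT, hγa⟩ := h4 a.1 ha
    exact ⟨γ, hγT, Subtype.ext hγa⟩

end Syl

variable {Ω : Type*} [Group Ω] {S : Subgroup Ω}

/-! ### The stabilizer of a subgroup `P ≤ R` in `Aut(R)` and restriction to `P` -/

/-- the automorphisms of `R` mapping `P` onto itself -/
def Stab (P R : Subgroup Ω) : Subgroup (MulAut R) where
  carrier := {α | ∀ z : R, (z : Ω) ∈ P ↔ ((α z : R) : Ω) ∈ P}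
  one_mem' := fun _ => Iff.rfl
  mul_mem' := by
    intro α β hα hβ z
    exact (hβ z).trans (hα (β z))
  inv_mem' := by
    intro α hα z
    have h := hα (α⁻¹ z)
    rw [MulAut.apply_inv_self] at h
    exact h.symm

theorem mem_Stab {P R : Subgroup Ω} {α : MulAut R} :
    α ∈ Stab P R ↔ ∀ z : R, (z : Ω) ∈ P ↔ ((α z : R) : Ω) ∈ P := Iff.rfl

theorem Stab_congr_iff {P R P' R' : Subgroup Ω} (e : R ≃* R')
    (h : ∀ z : R, (z : Ω) ∈ P ↔ ((e z : R') : Ω) ∈ P') (α : MulAut R) :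
    α ∈ Stab P R ↔ MulAut.congr e α ∈ Stab P' R' := by
  constructor
  · intro hα y
    show (y : Ω) ∈ P' ↔ ((e (α (e.symm y)) : R') : Ω) ∈ P'
    rw [← h, ← mem_Stab.mp hα (e.symm y), h, MulEquiv.apply_symm_apply]
  · intro hα z
    have h1 := mem_Stab.mp hα (e z)
    have h2 : (MulAut.congr e α) (e z) = e (α z) := by
      show e (α (e.symm (e z))) = e (α z)
      rw [MulEquiv.symm_apply_apply]
    rw [h2, ← h, ← h] at h1
    exact h1

/-- restriction of an automorphism of `R` stabilizing `P` to `P` -/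
def resStab {P R : Subgroup Ω} (hPR : P ≤ R) : ↥(Stab P R) →* MulAut P where
  toFun α :=
    { toFun := fun x => ⟨((α.1 (Subgroup.inclusion hPR x) : R) : Ω),
        (mem_Stab.mp α.2 (Subgroup.inclusion hPR x)).mp x.2⟩
      invFun := fun x => ⟨((α.1⁻¹ (Subgroup.inclusion hPR x) : R) : Ω),
        (mem_Stab.mp ((Stab P R).inv_mem α.2) (Subgroup.inclusion hPR x)).mp x.2⟩
      left_inv := by
        intro x
        apply Subtype.ext
        have h1 : Subgroup.inclusion hPR ⟨((α.1 (Subgroup.inclusion hPR x) : R) : Ω),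
            (mem_Stab.mp α.2 (Subgroup.inclusion hPR x)).mp x.2⟩ =
            α.1 (Subgroup.inclusion hPR x) := Subtype.ext rfl
        show ((α.1⁻¹ (Subgroup.inclusion hPR ⟨((α.1 (Subgroup.inclusion hPR x) : R) : Ω),
            (mem_Stab.mp α.2 (Subgroup.inclusion hPR x)).mp x.2⟩) : R) : Ω) = x
        rw [h1, MulAut.inv_apply_self]
        rfl
      right_inv := by
        intro x
        apply Subtype.ext
        have h1 : Subgroup.inclusion hPR ⟨((α.1⁻¹ (Subgroup.inclusion hPR x) : R) : Ω),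
            (mem_Stab.mp ((Stab P R).inv_mem α.2) (Subgroup.inclusion hPR x)).mp x.2⟩ =
            α.1⁻¹ (Subgroup.inclusion hPR x) := Subtype.ext rfl
        show ((α.1 (Subgroup.inclusion hPR ⟨((α.1⁻¹ (Subgroup.inclusion hPR x) : R) : Ω),
            (mem_Stab.mp ((Stab P R).inv_mem α.2) (Subgroup.inclusion hPR x)).mp x.2⟩) : R) : Ω) = x
        rw [h1, MulAut.apply_inv_self]
        rfl
      map_mul' := by
        intro x y
        apply Subtype.ext
        show ((α.1 (Subgroup.inclusion hPR (x * y)) : R) : Ω) =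
          ((α.1 (Subgroup.inclusion hPR x) : R) : Ω) * ((α.1 (Subgroup.inclusion hPR y) : R) : Ω)
        rw [map_mul, map_mul]
        rfl }
  map_one' := by
    apply MulEquiv.ext
    intro x
    apply Subtype.ext
    rfl
  map_mul' := by
    intro α β
    apply MulEquiv.ext
    intro x
    apply Subtype.ext
    have h1 : Subgroup.inclusion hPR ⟨((β.1 (Subgroup.inclusion hPR x) : R) : Ω),
        (mem_Stab.mp β.2 (Subgroup.inclusion hPR x)).mp x.2⟩ =
        β.1 (Subgroup.inclusion hPR x) := Subtype.ext rfl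
    show (((α.1 * β.1) (Subgroup.inclusion hPR x) : R) : Ω) =
      ((α.1 (Subgroup.inclusion hPR ⟨((β.1 (Subgroup.inclusion hPR x) : R) : Ω),
        (mem_Stab.mp β.2 (Subgroup.inclusion hPR x)).mp x.2⟩) : R) : Ω)
    rw [h1]
    rfl

theorem resStab_apply {P R : Subgroup Ω} (hPR : P ≤ R) (α : ↥(Stab P R)) (x : P) :
    ((resStab hPR α x : P) : Ω) = ((α.1 (Subgroup.inclusion hPR x) : R) : Ω) := rfl

end Cfsg.Agent.Lib.Helper2.KNorm
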