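import Mathlib
import Cfsg.Agent.S0033
import Cfsg.Agent.Lib.Helper1.NPC6
import Cfsg.Agent.Lib.Helper1.NPStable2
import Cfsg.Agent.Lib.Helper1.PNilpotentLocal
import Cfsg.Agent.Lib.Helper1.Nilpotent
import Cfsg.Agent.Lib.Lead.NilpotentSub
import Cfsg.Agent.Lib.Lead.NilpotentCoprime

/-! Kegel's theorem on splitting automorphisms of prime order: basic reductions. -/
set_option autoImplicit false
universe u

namespace Cfsg.Agent.Lib.Helper2.Kegel

open IsMulCommutative

/-- `G` is a normal subgroup of index `p` in `H`, all elements outside `G` have `p`-th power 1. -/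
structure Ctx (p : ℕ) (H : Type u) [Group H] (G : Subgroup H) : Prop where
  prime : p.Prime
  normal : G.Normal
  index : G.index = p
  pow : ∀ h : H, h ∉ G → h ^ p = 1

/-- Induction hypothesis. -/
def IHyp (p : ℕ) (H : Type u) [Group H] : Prop :=
  ∀ (H' : Type u) [Group H'] [Finite H'] (G' : Subgroup H'),
    Nat.card H' < Nat.card H → Ctx p H' G' → Group.IsNilpotent G'

theorem nilp_of_le {H : Type u} [Group H] {A B : Subgroup H} (h : A ≤ B)
    (hB : Group.IsNilpotent B) : Group.IsNilpotent A := by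
  have : Group.IsNilpotent (A.subgroupOf B) := inferInstance
  exact Group.nilpotent_of_mulEquiv (Subgroup.subgroupOfEquivOfLe h)

theorem exists_not_mem {p : ℕ} {H : Type u} [Group H] {G : Subgroup H} (hC : Ctx p H G) :
    ∃ a : H, a ∉ G := by
  by_contra hcon
  push Not at hcon
  have : G = ⊤ := by rw [eq_top_iff]; intro x _; exact hcon x
  have h1 := hC.index
  rw [this, Subgroup.index_top] at h1
  exact hC.prime.one_lt.ne h1

theorem mul_not_mem {H : Type u} [Group H] {G : Subgroup H} {x a : H} (hx : x ∈ G) (ha : a ∉ G) :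
    x * a ∉ G := by
  intro h
  apply ha
  have := G.mul_mem (G.inv_mem hx) h
  simpa using this

theorem exists_pow_eq_self {H : Type u} [Group H] {k : H} {n r : ℕ} (hkr : k ^ r = 1)
    (hcop : Nat.Coprime n r) (hr1 : 1 < r) : ∃ m : ℕ, (k ^ n) ^ m = k := by
  obtain ⟨m, -, hm⟩ := Nat.exists_mul_mod_eq_one_of_coprime hcop hr1
  refine ⟨m, ?_⟩
  rw [← pow_mul, pow_eq_pow_mod (n * m) hkr, hm, pow_one]

theorem sub_ctx {p : ℕ} {H : Type u} [Group H] {G : Subgroup H} (hC : Ctx p H G)
    (L : Subgroup H) (hLG : ¬ L ≤ G) : Ctx p L (G.subgroupOf L) := by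
  haveI := hC.normal
  refine ⟨hC.prime, inferInstance, ?_, ?_⟩
  · have h1 : G.relIndex L ∣ G.index := Subgroup.relIndex_dvd_index_of_normal G L
    rw [hC.index] at h1
    rcases (Nat.dvd_prime hC.prime).mp h1 with h | h
    · exact absurd (Subgroup.relIndex_eq_one.mp h) hLG
    · exact h
  · intro h hh
    have h1 : (h : H) ∉ G := fun hx => hh (Subgroup.mem_subgroupOf.mpr hx)
    have h2 := hC.pow _ h1
    apply Subtype.ext
    rw [Subgroup.coe_pow, h2]; rfl

theorem sub_nilp' {p : ℕ} {H : Type u} [Group H] [Finite H] {G : Subgroup H} (hC : Ctx p H G)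
    (ih : IHyp p H) (L : Subgroup H) (hL : L ≠ ⊤) (hLG : ¬ L ≤ G) :
    Group.IsNilpotent (G.subgroupOf L) := by
  have hcard : Nat.card L < Nat.card H := by
    apply lt_of_le_of_ne (Subgroup.card_le_card_group L)
    intro h
    exact hL (Subgroup.eq_top_of_card_eq L h)
  exact ih L (G.subgroupOf L) hcard (sub_ctx hC L hLG)

theorem sub_nilp {p : ℕ} {H : Type u} [Group H] [Finite H] {G : Subgroup H} (hC : Ctx p H G)
    (ih : IHyp p H) (L : Subgroup H) (hL : L ≠ ⊤) (hLG : ¬ L ≤ G) {M : Subgroup H}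
    (hM : M ≤ L ⊓ G) : Group.IsNilpotent M := by
  haveI hnil : Group.IsNilpotent (G.subgroupOf L) := sub_nilp' hC ih L hL hLG
  have hnil2 : Group.IsNilpotent ((G.subgroupOf L).map L.subtype) :=
    Group.nilpotent_of_mulEquiv (Subgroup.equivMapOfInjective _ _ L.subtype_injective)
  rw [Subgroup.subgroupOf_map_subtype] at hnil2
  exact nilp_of_le (hM.trans (le_of_eq (inf_comm _ _))) hnil2

theorem quot_nilp {p : ℕ} {H : Type u} [Group H] [Finite H] {G : Subgroup H} (hC : Ctx p H G)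
    (ih : IHyp p H) (N : Subgroup H) [hN : N.Normal] (hNG : N ≤ G) (hN1 : N ≠ ⊥) :
    Group.IsNilpotent (G.map (QuotientGroup.mk' N)) := by
  haveI := hC.normal
  have hcard : Nat.card (H ⧸ N) < Nat.card H := by
    have h1 := Subgroup.card_eq_card_quotient_mul_card_subgroup N
    have h2 : 1 < Nat.card N := (Subgroup.one_lt_card_iff_ne_bot N).mpr hN1
    have h3 : 0 < Nat.card (H ⧸ N) := Nat.card_pos
    nlinarith
  apply ih (H ⧸ N) (G.map (QuotientGroup.mk' N)) hcard
  refine ⟨hC.prime, Subgroup.Normal.map hC.normal _ (QuotientGroup.mk'_surjective N), ?_, ?_⟩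
  · rw [Subgroup.index_map_eq _ (QuotientGroup.mk'_surjective N)
      (by rw [QuotientGroup.ker_mk']; exact hNG)]
    exact hC.index
  · intro x hx
    obtain ⟨h, rfl⟩ := QuotientGroup.mk'_surjective N x
    have h1 : h ∉ G := fun hh => hx ⟨h, hh, rfl⟩
    have h2 := hC.pow h h1
    rw [← map_pow, h2, map_one]

theorem nilp_of_two {p : ℕ} {H : Type u} [Group H] [Finite H] {G : Subgroup H} (hC : Ctx p H G)
    (ih : IHyp p H) (N1 N2 : Subgroup H) [N1.Normal] [N2.Normal] (h1 : N1 ≤ G) (h2 : N2 ≤ G)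
    (hN1 : N1 ≠ ⊥) (hN2 : N2 ≠ ⊥) (hint : N1 ⊓ N2 = ⊥) : Group.IsNilpotent G := by
  haveI := quot_nilp hC ih N1 h1 hN1
  haveI := quot_nilp hC ih N2 h2 hN2
  obtain ⟨f, hf⟩ : ∃ f : G →* (G.map (QuotientGroup.mk' N1)) × (G.map (QuotientGroup.mk' N2)),
      f = MonoidHom.prod ((QuotientGroup.mk' N1).subgroupMap G)
        ((QuotientGroup.mk' N2).subgroupMap G) := ⟨_, rfl⟩
  apply Subgroup.isNilpotent_of_ker_le_center f
  intro x hx
  have hx' : f x = 1 := hx
  rw [hf] at hx'
  have e1 : ((QuotientGroup.mk' N1).subgroupMap G) x = 1 := congrArg Prod.fst hx'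
  have e2 : ((QuotientGroup.mk' N2).subgroupMap G) x = 1 := congrArg Prod.snd hx'
  have m1 : (x : H) ∈ N1 := by
    have h3 : (QuotientGroup.mk' N1) (x : H) = 1 := congrArg Subtype.val e1
    exact (QuotientGroup.eq_one_iff _).mp h3
  have m2 : (x : H) ∈ N2 := by
    have h3 : (QuotientGroup.mk' N2) (x : H) = 1 := congrArg Subtype.val e2
    exact (QuotientGroup.eq_one_iff _).mp h3
  have h3 : (x : H) ∈ N1 ⊓ N2 := ⟨m1, m2⟩
  rw [hint, Subgroup.mem_bot] at h3
  have hx1 : x = 1 := Subtype.ext h3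
  rw [hx1]; exact Subgroup.one_mem _

/-- Thompson's theorem applies when `p ∤ |G|`. -/
theorem nilp_of_coprime {p : ℕ} {H : Type u} [Group H] [Finite H] {G : Subgroup H}
    (hC : Ctx p H G) (hcop : (Nat.card G).Coprime p) : Group.IsNilpotent G := by
  haveI := hC.normal
  have hp := hC.prime
  obtain ⟨a, ha⟩ := exists_not_mem hC
  have hap : a ^ p = 1 := hC.pow a ha
  obtain ⟨φ, hφdef⟩ : ∃ φ : MulAut G, φ = MulAut.conjNormal a := ⟨_, rfl⟩
  have hφ_apply : ∀ x : G, ((φ x : G) : H) = a * x * a⁻¹ := by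
    intro x; rw [hφdef]; exact MulAut.conjNormal_apply a x
  have hfpf : MonoidHom.FixedPointFree ((φ : G ≃* G) : G →* G) := by
    intro x hx
    have hx' : ((φ x : G) : H) = x := congrArg Subtype.val hx
    rw [hφ_apply] at hx'
    have hcomm : Commute (x : H) a := by
      show (x : H) * a = a * x
      calc (x : H) * a = (a * x * a⁻¹) * a := by rw [hx']
        _ = a * x := by group
    have h1 := hC.pow _ (mul_not_mem x.2 ha)
    rw [hcomm.mul_pow, hap, mul_one] at h1
    have h2 : x ^ p = 1 := Subtype.ext (by rw [Subgroup.coe_pow, h1]; rfl)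
    have h3 : orderOf x ∣ p := orderOf_dvd_of_pow_eq_one h2
    have h4 : orderOf x ∣ Nat.card G := orderOf_dvd_natCard x
    have h5 : orderOf x ∣ 1 := by
      have := Nat.dvd_gcd h4 h3
      rwa [Nat.Coprime.gcd_eq_one hcop] at this
    exact orderOf_eq_one_iff.mp (Nat.dvd_one.mp h5)
  by_cases hφ1 : φ = 1
  · haveI : Subsingleton G := by
      constructor
      intro x y
      have hx : x = 1 := hfpf x (by rw [hφ1]; rfl)
      have hy : y = 1 := hfpf y (by rw [hφ1]; rfl)
      rw [hx, hy]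
    infer_instance
  · have hφp : φ ^ p = 1 := by
      rw [hφdef, ← map_pow, hap, map_one]
    have hordφ : orderOf φ = p := by
      haveI : Fact p.Prime := ⟨hp⟩
      exact orderOf_eq_prime hφp hφ1
    exact Cfsg.Agent.S0033.result φ hfpf p hp hordφ

theorem nilp_of_two_prime {H : Type u} [Group H] {G : Subgroup H} (hC : Ctx 2 H G) :
    Group.IsNilpotent G := by
  haveI := hC.normal
  obtain ⟨a, ha⟩ := exists_not_mem hC
  have ha2 : a * a = 1 := by
    have := hC.pow a ha
    rwa [pow_two] at this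
  have ha' : a⁻¹ = a := inv_eq_of_mul_eq_one_right ha2
  have hinv : ∀ x ∈ G, a * x * a = x⁻¹ := by
    intro x hx
    have h1 := hC.pow _ (mul_not_mem hx ha)
    rw [pow_two] at h1
    have : x * (a * x * a) = 1 := by rw [← h1]; group
    exact eq_inv_of_mul_eq_one_right this
  have hcomm : ∀ x ∈ G, ∀ y ∈ G, x * y = y * x := by
    intro x hx y hy
    have h1 := hinv (x * y) (G.mul_mem hx hy)
    have h2 : a * (x * y) * a = (a * x * a) * (a * y * a) := by
      calc a * (x * y) * a = a * x * (1 : H) * y * a := by group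
        _ = a * x * (a * a) * y * a := by rw [ha2]
        _ = (a * x * a) * (a * y * a) := by group
    rw [h2, hinv x hx, hinv y hy, mul_inv_rev] at h1
    have h3 := congrArg Inv.inv h1
    simp only [mul_inv_rev, inv_inv] at h3
    exact h3.symm
  haveI : IsMulCommutative G :=
    IsMulCommutative.of_comm (fun x y => Subtype.ext (hcomm x x.2 y y.2))
  exact CommGroup.isNilpotent

theorem nilp_of_pow {p : ℕ} {H : Type u} [Group H] [Finite H] {G : Subgroup H} (hp : p.Prime)
    (h : ∀ x ∈ G, ∃ k : ℕ, x ^ p ^ k = 1) : Group.IsNilpotent G := by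
  haveI : Fact p.Prime := ⟨hp⟩
  have hG : IsPGroup p G := by
    intro x
    obtain ⟨k, hk⟩ := h x x.2
    exact ⟨k, Subtype.ext (by rw [Subgroup.coe_pow, hk]; rfl)⟩
  exact hG.isNilpotent

/-- A group with a nilpotent normal subgroup of index `p` has a normal `p`-complement. -/
theorem npc_of_index_p {p : ℕ} {L : Type u} [Group L] [Finite L] [hp : Fact p.Prime]
    (A : Subgroup L) [hAn : A.Normal] (hA : Group.IsNilpotent A) (hidx : A.index = p) :
    Cfsg.HasNormalPComplement p L := by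
  rw [Cfsg.Agent.Lib.Helper1.hasNormalPComplement_iff_frobeniusCondition]
  intro Q hQ g hg hgo
  have hgA : g ∈ A := by
    have h1 : g ^ p ∈ A := by rw [← hidx]; exact Subgroup.pow_index_mem A g
    by_cases h1o : orderOf g = 1
    · rw [orderOf_eq_one_iff.mp h1o]; exact A.one_mem
    · have hpos : 0 < orderOf g := orderOf_pos g
      have hlt : 1 < orderOf g := by omega
      obtain ⟨m, hm⟩ := exists_pow_eq_self (pow_orderOf_eq_one g) hgo.symm hlt
      rw [← hm]; exact A.pow_mem h1 m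
  rw [Subgroup.mem_centralizer_iff]
  intro x hx
  obtain ⟨c, hc⟩ : ∃ c : L, c = x * g * x⁻¹ * g⁻¹ := ⟨_, rfl⟩
  have hcQ : c ∈ Q := by
    have h1 : g * x⁻¹ * g⁻¹ ∈ Q := (Subgroup.mem_normalizer_iff.mp hg x⁻¹).mp (Q.inv_mem hx)
    have : c = x * (g * x⁻¹ * g⁻¹) := by rw [hc]; group
    rw [this]; exact Q.mul_mem hx h1
  have hcA : c ∈ A := by
    have h1 : x * g * x⁻¹ ∈ A := hAn.conj_mem g hgA x
    rw [hc]; exact A.mul_mem h1 (A.inv_mem hgA)
  obtain ⟨k, hk⟩ := hQ ⟨c, hcQ⟩
  have hk' : c ^ p ^ k = 1 := by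
    have := congrArg Subtype.val hk
    simpa using this
  have hcord : orderOf c ∣ p ^ k := orderOf_dvd_of_pow_eq_one hk'
  have hcop : (orderOf c).Coprime (orderOf g) := by
    apply Nat.Coprime.coprime_dvd_left hcord
    exact Nat.Coprime.pow_left k hgo.symm
  have hcomm : c * g = g * c :=
    Cfsg.Agent.Lib.Lead.NilpotentCoprime.commute_of_coprime_of_mem A hA hcA hgA hcop
  have h1 : x * g * x⁻¹ = c * g := by rw [hc]; group
  have h2 : (c * g) ^ orderOf g = 1 := by
    rw [← h1, conj_pow, pow_orderOf_eq_one]; group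
  have h3 : c ^ orderOf g = 1 := by
    have hcg : Commute c g := hcomm
    rw [hcg.mul_pow, pow_orderOf_eq_one, mul_one] at h2
    exact h2
  have h4 : orderOf c ∣ 1 := by
    have d1 := orderOf_dvd_of_pow_eq_one h3
    have := Nat.dvd_gcd (dvd_refl (orderOf c)) d1
    rwa [Nat.Coprime.gcd_eq_one hcop] at this
  have hc1 : c = 1 := orderOf_eq_one_iff.mp (Nat.dvd_one.mp h4)
  calc x * g = c * (g * x) := by rw [hc]; group
    _ = g * x := by rw [hc1, one_mul]

theorem zpow_mem_imp {p : ℕ} {H : Type u} [Group H] {G : Subgroup H} (hp : p.Prime) {a : H}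
    (ha : a ∉ G) (hap : a ^ p = 1) (i : ℤ) (hi : a ^ i ∈ G) : a ^ i = 1 := by
  haveI : Fact p.Prime := ⟨hp⟩
  have ha1 : a ≠ 1 := fun h => ha (h ▸ G.one_mem)
  have hord : orderOf a = p := orderOf_eq_prime hap ha1
  have hp0 : (p : ℤ) ≠ 0 := by exact_mod_cast hp.ne_zero
  have hppos : (0 : ℤ) < p := by exact_mod_cast hp.pos
  have h0 : (0 : ℤ) ≤ i % (p : ℤ) := Int.emod_nonneg _ hp0
  have h1 : i % (p : ℤ) < p := Int.emod_lt_of_pos _ hppos
  obtain ⟨j, hj⟩ := Int.eq_ofNat_of_zero_le h0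
  have hij : a ^ i = a ^ j := by
    rw [← zpow_mod_orderOf, hord, hj, zpow_natCast]
  rw [hij] at hi ⊢
  have hjp : j < p := by rw [hj] at h1; exact_mod_cast h1
  rcases Nat.eq_zero_or_pos j with h | h
  · rw [h, pow_zero]
  · exfalso
    have hcop : Nat.Coprime j p := (Nat.coprime_of_lt_prime h.ne' hjp hp).symm
    obtain ⟨m, hm⟩ := exists_pow_eq_self hap hcop hp.one_lt
    apply ha
    rw [← hm]; exact G.pow_mem hi m

theorem proper_normal_nilp {p : ℕ} {H : Type u} [Group H] [Finite H] {G : Subgroup H}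
    (hC : Ctx p H G) (ih : IHyp p H) (N : Subgroup H) [hN : N.Normal] (hNG : N ≤ G)
    (hne : N ≠ G) : Group.IsNilpotent N := by
  haveI := hC.normal
  obtain ⟨a, ha⟩ := exists_not_mem hC
  have hap := hC.pow a ha
  apply sub_nilp hC ih (N ⊔ Subgroup.zpowers a) ?_ ?_ (M := N) ?_
  · intro htop
    apply hne
    apply le_antisymm hNG
    intro g hg
    have hg' : g ∈ N ⊔ Subgroup.zpowers a := by rw [htop]; exact Subgroup.mem_top g
    have hg'' : g ∈ ((N ⊔ Subgroup.zpowers a : Subgroup H) : Set H) := hg'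
    rw [Subgroup.normal_mul] at hg''
    obtain ⟨n, hn, z, hz, rfl⟩ := Set.mem_mul.mp hg''
    obtain ⟨i, rfl⟩ := Subgroup.mem_zpowers_iff.mp hz
    have h1 : a ^ i ∈ G := by
      have := G.mul_mem (G.inv_mem (hNG hn)) hg
      simpa using this
    rw [zpow_mem_imp hC.prime ha hap i h1, mul_one]
    exact hn
  · intro hle
    exact ha (hle (Subgroup.mem_sup_right (Subgroup.mem_zpowers a)))
  · exact le_inf le_sup_left hNG

/-- If all elements of the coset `G a` have `p`-th power one, so do all elements outside `G`. -/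
theorem pow_eq_one_of_coset {p : ℕ} {H : Type u} [Group H] [Finite H] (G : Subgroup H)
    [hG : G.Normal] (hp : p.Prime) (hidx : G.index = p) (a : H) (ha : a ∉ G)
    (hsp : ∀ x ∈ G, (x * a) ^ p = 1) : ∀ h : H, h ∉ G → h ^ p = 1 := by
  intro h hh
  haveI : Fact p.Prime := ⟨hp⟩
  have hcard : Nat.card (H ⧸ G) = p := by rw [← hidx, Subgroup.index_eq_card]
  have hπa : (QuotientGroup.mk' G a) ≠ 1 := by
    intro h1; exact ha ((QuotientGroup.eq_one_iff a).mp h1)
  have hπh : (QuotientGroup.mk' G h) ≠ 1 := by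
    intro h1; exact hh ((QuotientGroup.eq_one_iff h).mp h1)
  have htop : Subgroup.zpowers (QuotientGroup.mk' G a) = ⊤ :=
    zpowers_eq_top_of_prime_card hcard hπa
  have hap : a ^ p = 1 := by have := hsp 1 G.one_mem; rwa [one_mul] at this
  have hπap : (QuotientGroup.mk' G a) ^ p = 1 := by rw [← map_pow, hap, map_one]
  have hmem : QuotientGroup.mk' G h ∈ Subgroup.zpowers (QuotientGroup.mk' G a) := by
    rw [htop]; trivial
  obtain ⟨i, hi⟩ : ∃ i : ℕ, (QuotientGroup.mk' G a) ^ i = QuotientGroup.mk' G h := by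
    rw [← mem_powers_iff_mem_zpowers] at hmem
    exact (Submonoid.mem_powers_iff _ _).mp hmem
  have hpi : ¬ p ∣ i := by
    rintro ⟨c, rfl⟩
    rw [pow_mul, hπap, one_pow] at hi
    exact hπh hi.symm
  have hcop : Nat.Coprime i p := ((Nat.Prime.coprime_iff_not_dvd hp).mpr hpi).symm
  obtain ⟨j, -, hj⟩ := Nat.exists_mul_mod_eq_one_of_coprime hcop hp.one_lt
  have key : ∀ j' : ℕ, i * j' % p = 1 → (h ^ j') ^ p = 1 := by
    intro j' hj'
    have h1 : QuotientGroup.mk' G (h ^ j' * a⁻¹) = 1 := by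
      rw [map_mul, map_pow, ← hi, ← pow_mul, pow_eq_pow_mod (i * j') hπap, hj', pow_one, map_inv,
        mul_inv_cancel]
    have h2 : h ^ j' * a⁻¹ ∈ G := (QuotientGroup.eq_one_iff _).mp h1
    have h3 := hsp _ h2
    rwa [inv_mul_cancel_right] at h3
  have k1 := key j hj
  have k2 := key (j + p) (by rw [mul_add, Nat.add_mul_mod_self_right]; exact hj)
  have e1 : (h ^ p) ^ j = 1 := by rw [← pow_mul, mul_comm, pow_mul]; exact k1
  have e2 : (h ^ p) ^ (j + p) = 1 := by rw [← pow_mul, mul_comm, pow_mul]; exact k2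
  have e3 : (h ^ p) ^ p = 1 := by rw [pow_add, e1, one_mul] at e2; exact e2
  have hjp : Nat.Coprime j p := by
    rw [Nat.coprime_comm, Nat.Prime.coprime_iff_not_dvd hp]
    rintro ⟨c, rfl⟩
    rw [← mul_assoc, mul_comm i p, mul_assoc, Nat.mul_mod_right] at hj
    exact absurd hj (by norm_num)
  have h3 : orderOf (h ^ p) ∣ 1 := by
    have := Nat.dvd_gcd (orderOf_dvd_of_pow_eq_one e1) (orderOf_dvd_of_pow_eq_one e3)
    rwa [Nat.Coprime.gcd_eq_one hjp] at this
  exact orderOf_eq_one_iff.mp (Nat.dvd_one.mp h3)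

end Cfsg.Agent.Lib.Helper2.Kegel
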