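import Mathlib
import Cfsg.Agent.Lib.Helper2.Kegel1

/-! Kegel's theorem on splitting automorphisms of prime order: the main argument. -/
set_option autoImplicit false
universe u

namespace Cfsg.Agent.Lib.Helper2.Kegel

open IsMulCommutative
open Cfsg.Agent.Lib.Helper1 Cfsg.Agent.Lib.Lead

/-- Summing the norm relations over a coset `Q b`. -/
theorem norm_lemma {L K : Type*} [Group L] [CommGroup K] (φ : L →* MulAut K) (Q : Subgroup L)
    [Finite Q] (b : L) (p : ℕ) (hp : p.Prime)
    (hbQ : ∀ x ∈ Q, b * x * b⁻¹ ∈ Q)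
    (hpow : ∀ x ∈ Q, (x * b) ^ p = 1)
    (hnorm : ∀ x ∈ Q, ∀ k : K, ∏ j ∈ Finset.range p, (φ (x * b) ^ j) k = 1) :
    ∀ k : K, ∀ x ∈ Q, φ x (k ^ Nat.card Q) = k ^ Nat.card Q := by
  classical
  haveI : Fintype Q := Fintype.ofFinite Q
  have hM : ∀ (x₀ : Q) (k' : K), φ (x₀ : L) (∏ x : Q, φ (x : L) k') = ∏ x : Q, φ (x : L) k' := by
    intro x₀ k'
    rw [map_prod]
    have h1 : ∀ x : Q, φ (x₀ : L) (φ (x : L) k') = φ (((x₀ * x : Q) : Q) : L) k' := by
      intro x
      rw [Subgroup.coe_mul, map_mul]; rfl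
    simp_rw [h1]
    exact Equiv.prod_comp (Equiv.mulLeft x₀) (fun x : Q => φ (x : L) k')
  have hbj : ∀ (j : ℕ), ∀ x ∈ Q, b ^ j * x * (b ^ j)⁻¹ ∈ Q := by
    intro j
    induction j with
    | zero => intro x hx; simpa using hx
    | succ j ihj =>
      intro x hx
      have h1 := hbQ _ (ihj x hx)
      have h2 : b ^ (j + 1) * x * (b ^ (j + 1))⁻¹ = b * (b ^ j * x * (b ^ j)⁻¹) * b⁻¹ := by
        rw [pow_succ' b j]
        generalize b ^ j = v
        group
      rw [h2]; exact h1
  have hσmem : ∀ (j : ℕ), ∀ x ∈ Q, (x * b) ^ j * (b ^ j)⁻¹ ∈ Q := by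
    intro j
    induction j with
    | zero => intro x hx; simp
    | succ j ihj =>
      intro x hx
      have h1 := ihj x hx
      have h2 := hbj j x hx
      have h3 : (x * b) ^ (j + 1) * (b ^ (j + 1))⁻¹ =
          ((x * b) ^ j * (b ^ j)⁻¹) * (b ^ j * x * (b ^ j)⁻¹) := by
        rw [pow_succ (x * b) j, pow_succ b j]
        generalize (x * b) ^ j = u
        generalize b ^ j = v
        group
      rw [h3]; exact Q.mul_mem h1 h2
  obtain ⟨σ, hσ⟩ : ∃ σ : ℕ → Q → Q,
      ∀ (j : ℕ) (x : Q), ((σ j x : Q) : L) = ((x : L) * b) ^ j * (b ^ j)⁻¹ :=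
    ⟨fun j x => ⟨((x : L) * b) ^ j * (b ^ j)⁻¹, hσmem j x x.2⟩, fun j x => rfl⟩
  have hσinj : ∀ j : ℕ, 0 < j → j < p → Function.Injective (σ j) := by
    intro j hj0 hjp x x' hxx
    have h0 : ((σ j x : Q) : L) = ((σ j x' : Q) : L) := congrArg Subtype.val hxx
    rw [hσ, hσ] at h0
    have h1 : ((x : L) * b) ^ j = ((x' : L) * b) ^ j := mul_right_cancel h0
    have hcop : Nat.Coprime j p := (Nat.coprime_of_lt_prime hj0.ne' hjp hp).symm
    obtain ⟨m, hm⟩ := exists_pow_eq_self (hpow x x.2) hcop hp.one_lt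
    obtain ⟨m', hm'⟩ := exists_pow_eq_self (hpow x' x'.2) hcop hp.one_lt
    obtain ⟨m0, -, hm0⟩ := Nat.exists_mul_mod_eq_one_of_coprime hcop hp.one_lt
    have e1 : ((x : L) * b) = (((x : L) * b) ^ j) ^ m0 := by
      rw [← pow_mul, pow_eq_pow_mod (j * m0) (hpow x x.2), hm0, pow_one]
    have e2 : ((x' : L) * b) = (((x' : L) * b) ^ j) ^ m0 := by
      rw [← pow_mul, pow_eq_pow_mod (j * m0) (hpow x' x'.2), hm0, pow_one]
    have h3 : (x : L) * b = (x' : L) * b := by
      rw [e1, e2, h1]
    exact Subtype.ext (mul_right_cancel h3)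
  intro k x₀ hx₀
  obtain ⟨f, hf⟩ : ∃ f : ℕ → K, ∀ j, f j = ∏ x : Q, (φ ((x : L) * b) ^ j) k := ⟨_, fun j => rfl⟩
  have htot : ∏ j ∈ Finset.range p, f j = 1 := by
    simp_rw [hf]
    rw [Finset.prod_comm]
    exact Finset.prod_eq_one (fun x _ => hnorm x x.2 k)
  have hf0 : f 0 = k ^ Nat.card Q := by
    rw [hf]
    simp only [pow_zero, MulAut.one_apply, Finset.prod_const, Finset.card_univ,
      Nat.card_eq_fintype_card]
  have hfix : ∀ j ∈ (Finset.range p).erase 0, φ x₀ (f j) = f j := by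
    intro j hj
    rw [Finset.mem_erase, Finset.mem_range] at hj
    have hj0 : 0 < j := Nat.pos_of_ne_zero hj.1
    have hbij : Function.Bijective (σ j) := Finite.injective_iff_bijective.mp (hσinj j hj0 hj.2)
    have hfj : f j = ∏ x : Q, φ (x : L) (φ (b ^ j) k) := by
      rw [hf]
      have e1 : ∀ x : Q, (φ ((x : L) * b) ^ j) k = φ (((σ j x : Q) : L) * b ^ j) k := by
        intro x
        rw [← map_pow, hσ, inv_mul_cancel_right]
      simp_rw [e1]
      rw [hbij.prod_comp (fun y : Q => φ ((y : L) * b ^ j) k)]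
      apply Finset.prod_congr rfl
      intro x _
      rw [map_mul]; rfl
    rw [hfj]
    exact hM ⟨x₀, hx₀⟩ _
  have hF : φ x₀ (∏ j ∈ (Finset.range p).erase 0, f j) = ∏ j ∈ (Finset.range p).erase 0, f j := by
    rw [map_prod]
    exact Finset.prod_congr rfl hfix
  have hsplit := Finset.mul_prod_erase (Finset.range p) f (Finset.mem_range.mpr hp.pos)
  rw [htot, hf0] at hsplit
  have hk : k ^ Nat.card Q = (∏ j ∈ (Finset.range p).erase 0, f j)⁻¹ :=
    eq_inv_of_mul_eq_one_left hsplit
  rw [hk, map_inv, hF]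

theorem prod_conj_mul_pow {H : Type u} [Group H] (K : Subgroup H) [K.Normal] [IsMulCommutative K]
    (e : H) (k : K) (n : ℕ) :
    ((∏ j ∈ Finset.range n, (MulAut.conjNormal e ^ j) k : K) : H) * e ^ n = ((k : H) * e) ^ n := by
  induction n with
  | zero => simp
  | succ n ih =>
    rw [Finset.prod_range_succ, Subgroup.coe_mul, pow_succ ((k : H) * e), ← ih, ← map_pow,
      MulAut.conjNormal_apply, pow_succ e]
    generalize e ^ n = v
    generalize ((∏ j ∈ Finset.range n, (MulAut.conjNormal e ^ j) k : K) : H) = P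
    group

theorem norm_eq_one {p : ℕ} {H : Type u} [Group H] {G : Subgroup H} (hC : Ctx p H G)
    (K : Subgroup H) [K.Normal] [IsMulCommutative K] (hKG : K ≤ G) (e : H) (he : e ∉ G) (k : K) :
    ∏ j ∈ Finset.range p, (MulAut.conjNormal e ^ j) k = 1 := by
  have h1 := prod_conj_mul_pow K e k p
  rw [hC.pow e he, hC.pow _ (mul_not_mem (hKG k.2) he), mul_one] at h1
  exact Subtype.ext h1

theorem commute_pow_card {p : ℕ} {H : Type u} [Group H] [Finite H] {G : Subgroup H}
    (hC : Ctx p H G) (K : Subgroup H) [hK : K.Normal] (hKG : K ≤ G)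
    (hab : ∀ x ∈ K, ∀ y ∈ K, x * y = y * x) (Q : Subgroup H) (hQG : Q ≤ G) (b : H) (hb : b ∉ G)
    (hbQ : ∀ x ∈ Q, b * x * b⁻¹ ∈ Q) :
    ∀ k ∈ K, ∀ x ∈ Q, x * k ^ Nat.card Q = k ^ Nat.card Q * x := by
  haveI : IsMulCommutative K :=
    IsMulCommutative.of_comm (fun a b => Subtype.ext (hab a a.2 b b.2))
  have hout : ∀ x ∈ Q, x * b ∉ G := fun x hx => mul_not_mem (hQG hx) hb
  have hkey := norm_lemma (MulAut.conjNormal (H := K)) Q b p hC.prime hbQ
    (fun x hx => hC.pow _ (hout x hx))
    (fun x hx k => norm_eq_one hC K hKG (x * b) (hout x hx) k)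
  intro k hk x hx
  have h1 := hkey ⟨k, hk⟩ x hx
  have h2 := congrArg Subtype.val h1
  rw [MulAut.conjNormal_apply] at h2
  simp only [Subgroup.coe_pow] at h2
  calc x * k ^ Nat.card Q = (x * k ^ Nat.card Q * x⁻¹) * x := by group
    _ = k ^ Nat.card Q * x := by rw [h2]

theorem sylow_not_le {p : ℕ} {H : Type u} [Group H] [Finite H] {G : Subgroup H}
    (hC : Ctx p H G) [Fact p.Prime] (P : Sylow p H) : ¬ (P : Subgroup H) ≤ G := by
  intro hle
  have h1 : G.index ∣ (P : Subgroup H).index := Subgroup.index_dvd_of_le hle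
  rw [hC.index] at h1
  exact P.not_dvd_index h1

/-- The case where `G` has no proper nontrivial `H`-invariant normal subgroup. -/
theorem nilp_of_no_normal {p : ℕ} {H : Type u} [Group H] [Finite H] {G : Subgroup H}
    (hC : Ctx p H G) (ih : IHyp p H) (hp2 : p ≠ 2)
    (hmin : ∀ N : Subgroup H, N.Normal → N ≤ G → N = ⊥ ∨ N = G) : Group.IsNilpotent G := by
  haveI := hC.normal
  have hp := hC.prime
  haveI : Fact p.Prime := ⟨hp⟩
  obtain ⟨P⟩ : Nonempty (Sylow p H) := inferInstance
  have hPG : ¬ (P : Subgroup H) ≤ G := sylow_not_le hC P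
  have hPne : (P : Subgroup H) ≠ ⊥ := by
    intro h; apply hPG; rw [h]; exact bot_le
  have hZne : Cfsg.centerThompsonOf p (P : Subgroup H) ≠ ⊥ :=
    NPC.centerThompsonOf_ne_bot P.2 hPne
  have hZP : Cfsg.centerThompsonOf p (P : Subgroup H) ≤ P := by
    unfold Cfsg.centerThompsonOf Cfsg.thompsonSubgroupOf
    exact inf_le_left.trans (Subgroup.map_subtype_le _)
  have hPN : (P : Subgroup H) ≤
      Subgroup.normalizer ((Cfsg.centerThompsonOf p (P : Subgroup H) : Subgroup H) : Set H) := by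
    have h := NPStable.sylow_le_normalizer_inducedFunctor (NPC.isCharPFunctor_ZJE p) P
    unfold Cfsg.inducedFunctor at h
    rw [NPC.map_subtype_ZJE] at h
    exact h
  by_cases hZn : Subgroup.normalizer
      ((Cfsg.centerThompsonOf p (P : Subgroup H) : Subgroup H) : Set H) = ⊤
  · haveI hZnormal : (Cfsg.centerThompsonOf p (P : Subgroup H)).Normal :=
      Subgroup.normalizer_eq_top_iff.mp hZn
    obtain ⟨Z, hZdef⟩ : ∃ Z : Subgroup H, Z = Cfsg.centerThompsonOf p (P : Subgroup H) :=
      ⟨_, rfl⟩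
    rw [← hZdef] at hZne hZP hZnormal
    haveI := hZnormal
    have hinf : (Z ⊓ G).Normal := inferInstance
    rcases hmin (Z ⊓ G) hinf inf_le_right with h | h
    · obtain ⟨⟨z, hzZ⟩, hz1'⟩ := Subgroup.ne_bot_iff_exists_ne_one.mp hZne
      have hz1 : z ≠ 1 := fun h0 => hz1' (Subtype.ext h0)
      have hzG : z ∉ G := by
        intro hz
        have : z ∈ Z ⊓ G := ⟨hzZ, hz⟩
        rw [h, Subgroup.mem_bot] at this
        exact hz1 this
      have hzp : z ^ p = 1 := hC.pow z hzG
      apply nilp_of_pow hp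
      intro g hg
      refine ⟨1, ?_⟩
      rw [pow_one]
      have hc : z * g * z⁻¹ * g⁻¹ ∈ Z ⊓ G := by
        constructor
        · have h1 : g * z⁻¹ * g⁻¹ ∈ Z := hZnormal.conj_mem _ (Z.inv_mem hzZ) g
          have : z * g * z⁻¹ * g⁻¹ = z * (g * z⁻¹ * g⁻¹) := by group
          rw [this]; exact Z.mul_mem hzZ h1
        · have h1 : z * g * z⁻¹ ∈ G := hC.normal.conj_mem g hg z
          exact G.mul_mem h1 (G.inv_mem hg)
      rw [h, Subgroup.mem_bot] at hc
      have hcomm : Commute g z := by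
        show g * z = z * g
        calc g * z = (z * g * z⁻¹ * g⁻¹)⁻¹ * (z * g) := by group
          _ = z * g := by rw [hc, inv_one, one_mul]
      have h1 := hC.pow _ (mul_not_mem hg hzG)
      rw [hcomm.mul_pow, hzp, mul_one] at h1
      exact h1
    · apply nilp_of_pow hp
      intro g hg
      have hgZ : g ∈ Z ⊓ G := by rw [h]; exact hg
      have hgP : g ∈ (P : Subgroup H) := hZP hgZ.1
      obtain ⟨k, hk⟩ := P.2 ⟨g, hgP⟩
      exact ⟨k, by simpa using congrArg Subtype.val hk⟩
  · have hN0G : ¬ Subgroup.normalizer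
        ((Cfsg.centerThompsonOf p (P : Subgroup H) : Subgroup H) : Set H) ≤ G :=
      fun hle => hPG (hPN.trans hle)
    have hnil := sub_nilp' hC ih _ hZn hN0G
    have hctx := sub_ctx hC _ hN0G
    haveI := hctx.normal
    have hnpc := npc_of_index_p (p := p) _ hnil hctx.index
    have hH : Cfsg.HasNormalPComplement p H :=
      NPC.hasNormalPComplement_of_normalizer_ZJE hp2 P hnpc
    obtain ⟨P', K, hKn, hKc⟩ := hH
    have hKcop : (Nat.card K).Coprime p := by
      rw [Nat.coprime_comm, hp.coprime_iff_not_dvd, ← hKc.index_eq_card]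
      exact P'.not_dvd_index
    have hKG : K ≤ G := by
      intro k hk
      by_contra hkG
      have h1 := hC.pow k hkG
      have h2 : k ^ Nat.card K = 1 := by
        have h0 := pow_card_eq_one' (G := K) (x := ⟨k, hk⟩)
        have h0' := congrArg Subtype.val h0
        rw [Subgroup.coe_pow] at h0'
        exact h0'
      have h3 : orderOf k ∣ 1 := by
        have := Nat.dvd_gcd (orderOf_dvd_of_pow_eq_one h2) (orderOf_dvd_of_pow_eq_one h1)
        rwa [Nat.Coprime.gcd_eq_one hKcop] at this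
      have : k = 1 := orderOf_eq_one_iff.mp (Nat.dvd_one.mp h3)
      exact hkG (this ▸ G.one_mem)
    rcases hmin K hKn hKG with h | h
    · rw [h] at hKc
      have hP' : (P' : Subgroup H) = ⊤ := Subgroup.isComplement'_bot_left.mp hKc
      apply nilp_of_pow hp
      intro g _
      obtain ⟨k, hk⟩ := P'.2 ⟨g, by rw [hP']; exact Subgroup.mem_top g⟩
      exact ⟨k, by simpa using congrArg Subtype.val hk⟩
    · rw [h] at hKcop
      exact nilp_of_coprime hC hKcop

/-- The case where `G` has a proper nontrivial `H`-invariant normal subgroup. -/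
theorem nilp_of_normal {p : ℕ} {H : Type u} [Group H] [Finite H] {G : Subgroup H}
    (hC : Ctx p H G) (ih : IHyp p H) (hdvd : p ∣ Nat.card G)
    (hex : ∃ N : Subgroup H, N.Normal ∧ N ≤ G ∧ N ≠ ⊥ ∧ N ≠ G) : Group.IsNilpotent G := by
  by_contra hnn
  haveI := hC.normal
  have hp := hC.prime
  obtain ⟨K, ⟨hKn, hKG, hK1, hKne⟩, hKmin⟩ := Set.exists_min_image
    {N : Subgroup H | N.Normal ∧ N ≤ G ∧ N ≠ ⊥ ∧ N ≠ G} (fun N => Nat.card N)
    (Set.toFinite _) hex
  haveI := hKn
  have hmin : ∀ N : Subgroup H, N.Normal → N ≤ K → N ≠ ⊥ → N = K := by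
    intro N hNn hNK hN1
    have hNG : N ≠ G := by
      intro h; apply hKne; exact le_antisymm hKG (h ▸ hNK)
    have h1 := hKmin N ⟨hNn, hNK.trans hKG, hN1, hNG⟩
    exact Subgroup.eq_of_le_of_card_ge hNK h1
  have hKnil : Group.IsNilpotent K := proper_normal_nilp hC ih K hKG hKne
  -- K is abelian
  have hKab : ∀ x ∈ K, ∀ y ∈ K, x * y = y * x := by
    haveI := hKnil
    have htop : (⊤ : Subgroup K) ≠ ⊥ := by
      intro h
      apply hK1
      rw [eq_bot_iff]
      intro x hx
      have : (⟨x, hx⟩ : K) ∈ (⊥ : Subgroup K) := h ▸ Subgroup.mem_top _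
      rw [Subgroup.mem_bot] at this
      exact Subgroup.mem_bot.mpr (congrArg Subtype.val this)
    have hc := normal_inf_center_ne_bot (⊤ : Subgroup K) htop
    obtain ⟨⟨z, hz⟩, hz1⟩ := Subgroup.ne_bot_iff_exists_ne_one.mp hc
    have hzc : ∀ y ∈ K, y * (z : H) = (z : H) * y := by
      intro y hy
      exact congrArg Subtype.val (Subgroup.mem_center_iff.mp hz.2 ⟨y, hy⟩)
    have hZn : (K ⊓ Subgroup.centralizer (K : Set H)).Normal := inferInstance
    have hZ1 : K ⊓ Subgroup.centralizer (K : Set H) ≠ ⊥ := by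
      intro h
      have hmem : (z : H) ∈ K ⊓ Subgroup.centralizer (K : Set H) :=
        ⟨z.2, Subgroup.mem_centralizer_iff.mpr (fun y hy => hzc y hy)⟩
      rw [h, Subgroup.mem_bot] at hmem
      exact hz1 (Subtype.ext (Subtype.ext hmem))
    have hZK := hmin _ hZn inf_le_left hZ1
    intro x hx y hy
    have hy' : y ∈ K ⊓ Subgroup.centralizer (K : Set H) := by rw [hZK]; exact hy
    exact Subgroup.mem_centralizer_iff.mp hy'.2 x hx
  -- K has prime exponent r
  obtain ⟨r, hr, hrK⟩ : ∃ r : ℕ, r.Prime ∧ r ∣ Nat.card K := by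
    have : Nat.card K ≠ 1 := by
      intro h; exact hK1 (Subgroup.card_eq_one.mp h)
    exact ⟨_, Nat.minFac_prime this, Nat.minFac_dvd _⟩
  haveI : Fact r.Prime := ⟨hr⟩
  obtain ⟨x0, hx0⟩ := exists_prime_orderOf_dvd_card' r hrK
  have hexp : ∀ k ∈ K, k ^ r = 1 := by
    obtain ⟨Ω, hΩ⟩ : ∃ Ω : Subgroup H, ∀ x, x ∈ Ω ↔ x ∈ K ∧ x ^ r = 1 :=
      ⟨{ carrier := {x | x ∈ K ∧ x ^ r = 1}
         mul_mem' := by
           rintro a b ⟨ha, ha'⟩ ⟨hb, hb'⟩
           refine ⟨K.mul_mem ha hb, ?_⟩
           have hcab : Commute a b := hKab a ha b hb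
           rw [hcab.mul_pow, ha', hb', one_mul]
         one_mem' := ⟨K.one_mem, one_pow r⟩
         inv_mem' := by
           rintro a ⟨ha, ha'⟩
           exact ⟨K.inv_mem ha, by rw [inv_pow, ha', inv_one]⟩ }, fun x => Iff.rfl⟩
    have hΩn : Ω.Normal := by
      constructor
      intro n hn g
      rw [hΩ] at hn ⊢
      exact ⟨hKn.conj_mem n hn.1 g, by rw [conj_pow, hn.2]; group⟩
    have hΩK : Ω ≤ K := fun x hx => ((hΩ x).mp hx).1
    have hΩ1 : Ω ≠ ⊥ := by
      intro h
      have hx : (x0 : H) ∈ Ω := by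
        rw [hΩ]
        refine ⟨x0.2, ?_⟩
        have h1 : x0 ^ r = 1 := by rw [← hx0]; exact pow_orderOf_eq_one x0
        have h2 := congrArg Subtype.val h1
        simpa using h2
      rw [h, Subgroup.mem_bot] at hx
      have h1 : x0 = 1 := Subtype.ext hx
      rw [h1, orderOf_one] at hx0
      exact hr.one_lt.ne hx0
    have hΩeq := hmin Ω hΩn hΩK hΩ1
    intro k hk
    have hk' : k ∈ Ω := by rw [hΩeq]; exact hk
    exact ((hΩ k).mp hk').2
  -- proper normal subgroups of `G` are `r`-groups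
  have h7d : ∀ N : Subgroup H, N.Normal → N ≤ G → N ≠ G → ∀ s : ℕ, s.Prime → s ≠ r →
      ∀ x ∈ N, x ^ s = 1 → x = 1 := by
    intro N hNn hNG hNne s hs hsr x hxN hxs
    by_contra hx1
    haveI := hNn
    haveI : Fact s.Prime := ⟨hs⟩
    have hNnil : Group.IsNilpotent N := proper_normal_nilp hC ih N hNG hNne
    obtain ⟨O, hO⟩ : ∃ O : Subgroup H, O = NilpotentSub.sylowOf N s := ⟨_, rfl⟩
    have hOp : IsPGroup s O := by rw [hO]; exact NilpotentSub.sylowOf_isPGroup N s
    have hON : O ≤ N := by rw [hO]; exact NilpotentSub.sylowOf_le N s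
    have hOn : O.Normal := by
      constructor
      intro n hn g
      obtain ⟨k, hk⟩ := hOp ⟨n, hn⟩
      have hk' : n ^ s ^ k = 1 := by simpa using congrArg Subtype.val hk
      rw [hO]
      apply NilpotentSub.mem_sylowOf N hNnil s (hNn.conj_mem n (hON hn) g) (k := k)
      rw [conj_pow, hk']; group
    have hxO : x ∈ O := by
      rw [hO]
      exact NilpotentSub.mem_sylowOf N hNnil s hxN (k := 1) (by rw [pow_one]; exact hxs)
    have hO1 : O ≠ ⊥ := by
      intro h; rw [h, Subgroup.mem_bot] at hxO; exact hx1 hxO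
    have hOG : O ≤ G := hON.trans hNG
    have hOK : O ⊓ K = ⊥ := by
      rw [eq_bot_iff]
      intro y hy
      rw [Subgroup.mem_bot]
      have hy1 := hexp y hy.2
      obtain ⟨k, hk⟩ := hOp ⟨y, hy.1⟩
      have hk' : y ^ s ^ k = 1 := by simpa using congrArg Subtype.val hk
      have hcop : Nat.Coprime r (s ^ k) :=
        Nat.Coprime.pow_right k ((Nat.coprime_primes hr hs).mpr (Ne.symm hsr))
      have h3 : orderOf y ∣ 1 := by
        have := Nat.dvd_gcd (orderOf_dvd_of_pow_eq_one hy1) (orderOf_dvd_of_pow_eq_one hk')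
        rwa [Nat.Coprime.gcd_eq_one hcop] at this
      exact orderOf_eq_one_iff.mp (Nat.dvd_one.mp h3)
    haveI := hOn
    exact hnn (nilp_of_two hC ih O K hOG hKG hO1 hK1 hOK)
  -- the centralizer of K in G
  obtain ⟨C, hCdef⟩ : ∃ C : Subgroup H, C = G ⊓ Subgroup.centralizer (K : Set H) := ⟨_, rfl⟩
  have hCn : C.Normal := by rw [hCdef]; infer_instance
  have hCG : C ≤ G := by rw [hCdef]; exact inf_le_left
  have hCne : C ≠ G := by
    intro h
    apply hnn
    haveI := quot_nilp hC ih K hKG hK1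
    apply Subgroup.isNilpotent_of_ker_le_center ((QuotientGroup.mk' K).subgroupMap G)
    intro x hx
    have hx' : ((QuotientGroup.mk' K).subgroupMap G) x = 1 := hx
    have hxK : (x : H) ∈ K := by
      have h3 : (QuotientGroup.mk' K) (x : H) = 1 := congrArg Subtype.val hx'
      exact (QuotientGroup.eq_one_iff _).mp h3
    rw [Subgroup.mem_center_iff]
    intro g
    apply Subtype.ext
    have hg : (g : H) ∈ Subgroup.centralizer (K : Set H) := by
      have h4 : (g : H) ∈ C := by rw [h]; exact g.2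
      rw [hCdef] at h4; exact h4.2
    have h5 := Subgroup.mem_centralizer_iff.mp hg (x : H) hxK
    exact h5.symm
  have hfinal : ∃ s : ℕ, s.Prime ∧ s ≠ r ∧ ∃ x ∈ C, x ≠ 1 ∧ x ^ s = 1 := by
    by_cases hrp : r = p
    · -- `K` is a `p`-group
      obtain ⟨q, hq, hqG, hqp⟩ : ∃ q : ℕ, q.Prime ∧ q ∣ Nat.card G ∧ q ≠ p := by
        by_contra hcon
        push Not at hcon
        apply hnn
        have hcard : Nat.card G = p ^ (Nat.card G).primeFactorsList.length :=
          Nat.eq_prime_pow_of_unique_prime_dvd (Nat.card_pos.ne')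
            (fun {d} hd hdvd' => hcon d hd hdvd')
        haveI : Fact p.Prime := ⟨hp⟩
        exact (IsPGroup.of_card hcard).isNilpotent
      haveI : Fact q.Prime := ⟨hq⟩
      obtain ⟨Q₀⟩ : Nonempty (Sylow q G) := inferInstance
      obtain ⟨Q, hQdef⟩ : ∃ Q : Subgroup H, Q = (Q₀ : Subgroup G).map G.subtype := ⟨_, rfl⟩
      have hfr : Subgroup.normalizer (Q : Set H) ⊔ G = ⊤ := by
        rw [hQdef]; exact Sylow.normalizer_sup_eq_top Q₀
      obtain ⟨b, hbN, hbG⟩ : ∃ b ∈ Subgroup.normalizer (Q : Set H), b ∉ G := by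
        by_contra hcon
        push Not at hcon
        have hle : Subgroup.normalizer (Q : Set H) ≤ G := hcon
        have hGtop : G = ⊤ := by rw [← hfr]; exact (sup_eq_right.mpr hle).symm
        have h1 := hC.index
        rw [hGtop, Subgroup.index_top] at h1
        exact hp.one_lt.ne h1
      have hQG : Q ≤ G := by rw [hQdef]; exact Subgroup.map_subtype_le _
      have hQq : IsPGroup q Q := by rw [hQdef]; exact Q₀.2.map _
      have hbQ : ∀ x ∈ Q, b * x * b⁻¹ ∈ Q :=
        fun x hx => (Subgroup.mem_normalizer_iff.mp hbN x).mp hx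
      have hcomm := commute_pow_card hC K hKG hKab Q hQG b hbG hbQ
      obtain ⟨n, hn⟩ := hQq.exists_card_eq
      have hcop : Nat.Coprime (Nat.card Q) p := by
        rw [hn]; exact Nat.Coprime.pow_left n ((Nat.coprime_primes hq hp).mpr hqp)
      have hQC : Q ≤ C := by
        intro x hx
        rw [hCdef]
        refine Subgroup.mem_inf.mpr ⟨hQG hx, ?_⟩
        rw [Subgroup.mem_centralizer_iff]
        intro k hk
        have hkp : k ^ p = 1 := by rw [← hrp]; exact hexp k hk
        obtain ⟨m, hm⟩ := exists_pow_eq_self hkp hcop hp.one_lt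
        have h1 : Commute x (k ^ Nat.card Q) := hcomm k hk x hx
        have h2 : Commute x ((k ^ Nat.card Q) ^ m) := h1.pow_right m
        rw [hm] at h2
        exact h2.eq.symm
      have hQ₀1 : (Q₀ : Subgroup G) ≠ ⊥ := Sylow.ne_bot_of_dvd_card Q₀ hqG
      have hQ1 : Q ≠ ⊥ := by
        rw [hQdef]; intro h
        exact hQ₀1 ((Subgroup.map_eq_bot_iff_of_injective _ G.subtype_injective).mp h)
      haveI hQnt : Nontrivial Q := (Subgroup.nontrivial_iff_ne_bot Q).mpr hQ1
      have hqQ : q ∣ Nat.card Q := by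
        rcases hQq.card_eq_or_dvd with h | h
        · exact absurd (Finite.one_lt_card_iff_nontrivial.mpr hQnt) (by omega)
        · exact h
      obtain ⟨x, hx⟩ := exists_prime_orderOf_dvd_card' q hqQ
      refine ⟨q, hq, by rw [hrp]; exact hqp, (x : H), hQC x.2, ?_, ?_⟩
      · intro h
        have h1 : x = 1 := Subtype.ext h
        rw [h1, orderOf_one] at hx
        exact hq.one_lt.ne hx
      · have h1 : x ^ q = 1 := by rw [← hx]; exact pow_orderOf_eq_one x
        simpa using congrArg Subtype.val h1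
    · -- `K` is a `p'`-group
      haveI : Fact p.Prime := ⟨hp⟩
      obtain ⟨g, hg⟩ := exists_prime_orderOf_dvd_card' p hdvd
      have hg1 : (g : H) ≠ 1 := by
        intro h
        have h1 : g = 1 := Subtype.ext h
        rw [h1, orderOf_one] at hg
        exact hp.one_lt.ne hg
      have hgp : (g : H) ^ p = 1 := by
        have h1 : g ^ p = 1 := by rw [← hg]; exact pow_orderOf_eq_one g
        simpa using congrArg Subtype.val h1
      have hcz : Nat.card (Subgroup.zpowers (g : H)) = p ^ 1 := by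
        rw [Nat.card_zpowers, Subgroup.orderOf_coe, hg, pow_one]
      obtain ⟨P, hP⟩ := (IsPGroup.of_card hcz).exists_le_sylow
      have hgP : (g : H) ∈ (P : Subgroup H) := hP (Subgroup.mem_zpowers _)
      have hPG : ¬ (P : Subgroup H) ≤ G := sylow_not_le hC P
      obtain ⟨y0, hy0P, hy0G⟩ : ∃ y ∈ (P : Subgroup H), y ∉ G := by
        by_contra hcon
        push Not at hcon
        exact hPG hcon
      haveI hPnt : Nontrivial (P : Subgroup H) :=
        ⟨⟨⟨(g : H), hgP⟩, 1, fun h => hg1 (congrArg Subtype.val h)⟩⟩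
      have hcn := P.2.center_nontrivial
      have hcp : IsPGroup p (Subgroup.center (P : Subgroup H)) := P.2.to_subgroup _
      have hdvdc : p ∣ Nat.card (Subgroup.center (P : Subgroup H)) := by
        rcases hcp.card_eq_or_dvd with h | h
        · exact absurd (Finite.one_lt_card_iff_nontrivial.mpr hcn) (by omega)
        · exact h
      obtain ⟨z, hz⟩ := exists_prime_orderOf_dvd_card' p hdvdc
      have hz1 : (((z : (P : Subgroup H)) : H)) ≠ 1 := by
        intro h
        have h1 : z = 1 := Subtype.ext (Subtype.ext h)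
        rw [h1, orderOf_one] at hz
        exact hp.one_lt.ne hz
      have hzp : (((z : (P : Subgroup H)) : H)) ^ p = 1 := by
        have h1 : z ^ p = 1 := by
          have h0 := pow_orderOf_eq_one z
          rwa [hz] at h0
        have h2 := congrArg (fun t : Subgroup.center (P : Subgroup H) =>
          (((t : (P : Subgroup H)) : H))) h1
        simpa using h2
      have hzc : ∀ x ∈ (P : Subgroup H), x * (((z : (P : Subgroup H)) : H)) =
          (((z : (P : Subgroup H)) : H)) * x := by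
        intro x hx
        have h1 := Subgroup.mem_center_iff.mp z.2 ⟨x, hx⟩
        have h2 := congrArg Subtype.val h1
        simpa using h2
      obtain ⟨w, y, hwG, hw1, hwp, hyG, hwy⟩ : ∃ w y : H, w ∈ G ∧ w ≠ 1 ∧ w ^ p = 1 ∧ y ∉ G ∧
          w * y = y * w := by
        by_cases hzG : (((z : (P : Subgroup H)) : H)) ∈ G
        · exact ⟨_, y0, hzG, hz1, hzp, hy0G, (hzc y0 hy0P).symm⟩
        · exact ⟨(g : H), _, g.2, hg1, hgp, hzG, hzc _ hgP⟩
      have hbQ : ∀ x ∈ Subgroup.zpowers w, y * x * y⁻¹ ∈ Subgroup.zpowers w := by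
        intro x hx
        obtain ⟨i, rfl⟩ := Subgroup.mem_zpowers_iff.mp hx
        have hc : Commute y (w ^ i) := Commute.zpow_right (show Commute y w from hwy.symm) i
        have h1 : y * w ^ i * y⁻¹ = w ^ i := by rw [hc.eq, mul_inv_cancel_right]
        rw [h1]; exact hx
      have hQG : Subgroup.zpowers w ≤ G := (Subgroup.zpowers_le).mpr hwG
      have hcomm := commute_pow_card hC K hKG hKab (Subgroup.zpowers w) hQG y hyG hbQ
      have hcardw : Nat.card (Subgroup.zpowers w) = p := by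
        rw [Nat.card_zpowers]; exact orderOf_eq_prime hwp hw1
      rw [hcardw] at hcomm
      have hwC : w ∈ C := by
        rw [hCdef]
        refine Subgroup.mem_inf.mpr ⟨hwG, ?_⟩
        rw [Subgroup.mem_centralizer_iff]
        intro k hk
        have hkr := hexp k hk
        have hcop : Nat.Coprime p r := (Nat.coprime_primes hp hr).mpr (Ne.symm hrp)
        obtain ⟨m, hm⟩ := exists_pow_eq_self hkr hcop hr.one_lt
        have h1 : Commute w (k ^ p) := hcomm k hk w (Subgroup.mem_zpowers w)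
        have h2 : Commute w ((k ^ p) ^ m) := h1.pow_right m
        rw [hm] at h2
        exact h2.eq.symm
      exact ⟨p, hp, Ne.symm hrp, w, hwC, hw1, hwp⟩
  obtain ⟨s, hs, hsr, x, hxC, hx1, hxs⟩ := hfinal
  exact hx1 (h7d C hCn hCG hCne s hs hsr x hxC hxs)

theorem main_aux (p : ℕ) : ∀ (n : ℕ) (H : Type u) [Group H] [Finite H] (G : Subgroup H),
    Nat.card H = n → Ctx p H G → Group.IsNilpotent G := by
  intro n
  induction n using Nat.strong_induction_on with
  | _ n ih =>
    intro H _ _ G hn hC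
    have ih' : IHyp p H := by
      intro H' _ _ G' hlt hC'
      exact ih (Nat.card H') (hn ▸ hlt) H' G' rfl hC'
    by_cases hp2 : p = 2
    · subst hp2; exact nilp_of_two_prime hC
    by_cases hcop : (Nat.card G).Coprime p
    · exact nilp_of_coprime hC hcop
    have hdvd : p ∣ Nat.card G := by
      by_contra h
      exact hcop ((Nat.Prime.coprime_iff_not_dvd hC.prime).mpr h).symm
    by_cases hex : ∃ N : Subgroup H, N.Normal ∧ N ≤ G ∧ N ≠ ⊥ ∧ N ≠ G
    · exact nilp_of_normal hC ih' hdvd hex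
    · apply nilp_of_no_normal hC ih' hp2
      intro N hNn hNG
      by_contra hcon
      push Not at hcon
      exact hex ⟨N, hNn, hNG, hcon.1, hcon.2⟩

/-- Kegel's theorem, subgroup form: a normal subgroup of prime index `p` all of whose outside
elements have order `p` is nilpotent. -/
theorem kegel {p : ℕ} {H : Type u} [Group H] [Finite H] {G : Subgroup H} (hC : Ctx p H G) :
    Group.IsNilpotent G :=
  main_aux p (Nat.card H) H G rfl hC

end Cfsg.Agent.Lib.Helper2.Kegel
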