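import Mathlib
import Cfsg.Agent.Lib.Helper2.QDFour
import Cfsg.Agent.Lib.Helper2.QDSylow

/-!
# Klein four-subgroups of dihedral and quasi-dihedral groups are self-centralizing
-/

set_option autoImplicit false

namespace Cfsg.Agent.Lib.Helper2.KleinCentral

open Cfsg Cfsg.Agent.Lib.Helper2.FourGroup Cfsg.Agent.Lib.Helper2.QDFour
open Cfsg.Agent.Lib.Lead.QDCore Cfsg.Agent.Lib.Helper2.QDSylow

theorem zmod_two_mul_unique {m : ℕ} [NeZero m] {a k : ZMod m} (ha : 2 * a = 0) (hk : 2 * k = 0)
    (ha0 : a ≠ 0) (hk0 : k ≠ 0) : a = k := by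
  have key : ∀ b : ZMod m, 2 * b = 0 → b ≠ 0 → 2 * b.val = m := by
    intro b hb hb0
    have h1 : ((2 * b.val : ℕ) : ZMod m) = 0 := by
      push_cast; rw [ZMod.natCast_zmod_val]; exact hb
    rw [ZMod.natCast_eq_zero_iff] at h1
    have h2 : b.val < m := ZMod.val_lt b
    have h3 : b.val ≠ 0 := fun h => hb0 ((ZMod.val_eq_zero b).mp h)
    obtain ⟨c, hc⟩ := h1
    have hc1 : c = 1 := by
      rcases Nat.lt_or_ge c 1 with h | h
      · have : c = 0 := by omega
        rw [this, mul_zero] at hc; omega
      · rcases Nat.lt_or_ge c 2 with h' | h'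
        · omega
        · exfalso
          have : 2 * m ≤ m * c := by
            calc 2 * m = m * 2 := by ring
              _ ≤ m * c := Nat.mul_le_mul_left m h'
          omega
    rw [hc, hc1, mul_one]
  have h1 := key a ha ha0
  have h2 := key k hk hk0
  apply ZMod.val_injective
  omega

open DihedralGroup in
/-- Klein four-subgroups of a dihedral group are self-centralizing. -/
theorem dihedral_centralizer_le (m : ℕ) [NeZero m] (U : Subgroup (DihedralGroup m))
    [hU : IsKleinFour ↥U] : Subgroup.centralizer (U : Set (DihedralGroup m)) ≤ U := by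
  -- two distinct reflections in `U`
  obtain ⟨i, j, hij, hi, hj⟩ : ∃ i j : ZMod m, i ≠ j ∧ sr i ∈ U ∧ sr j ∈ U := by
    obtain ⟨a, haU, ha1, -⟩ := exists_third U U.one_mem
    obtain ⟨b, hbU, hb1, hba⟩ := exists_third U haU
    have ha2 := mul_self_of_mem U haU
    have hb2 := mul_self_of_mem U hbU
    cases a with
    | r p =>
      cases b with
      | r q =>
        exfalso
        apply hba
        rw [r_mul_r, ← r_zero] at ha2 hb2
        have hp : 2 * p = 0 := by
          have := r.inj ha2; rw [← this]; ring
        have hq : 2 * q = 0 := by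
          have := r.inj hb2; rw [← this]; ring
        have hp0 : p ≠ 0 := fun h => ha1 (by rw [h]; rfl)
        have hq0 : q ≠ 0 := fun h => hb1 (by rw [h]; rfl)
        rw [zmod_two_mul_unique hq hp hq0 hp0]
      | sr j =>
        refine ⟨j, j - p, ?_, hbU, ?_⟩
        · intro h
          apply ha1
          have : p = 0 := by linear_combination h
          rw [this]; rfl
        · have := U.mul_mem haU hbU
          rwa [r_mul_sr] at this
    | sr i =>
      cases b with
      | r q =>
        refine ⟨i, i + q, ?_, haU, ?_⟩
        · intro h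
          apply hb1
          have : q = 0 := by linear_combination -h
          rw [this]; rfl
        · have := U.mul_mem haU hbU
          rwa [sr_mul_r] at this
      | sr j =>
        refine ⟨i, j, ?_, haU, hbU⟩
        intro h; apply hba; rw [h]
  set k := j - i with hk
  have hk0 : k ≠ 0 := fun h => hij (by linear_combination -h)
  have hrk : r k ∈ U := by
    have := U.mul_mem hi hj
    rwa [sr_mul_sr] at this
  have h2k : 2 * k = 0 := by
    have := mul_self_of_mem U hrk
    rw [r_mul_r, ← r_zero] at this
    have := r.inj this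
    rw [← this]; ring
  intro c hc
  have hci := Subgroup.mem_centralizer_iff.mp hc _ hi
  cases c with
  | r a =>
    rw [sr_mul_r, r_mul_sr] at hci
    have h1 : 2 * a = 0 := by
      have := sr.inj hci
      linear_combination this
    by_cases ha0 : a = 0
    · rw [ha0]; exact U.one_mem
    · rw [zmod_two_mul_unique h1 h2k ha0 hk0]; exact hrk
  | sr a =>
    rw [sr_mul_sr, sr_mul_sr] at hci
    have h1 : 2 * (a - i) = 0 := by
      have := r.inj hci
      linear_combination this
    by_cases ha0 : a - i = 0
    · have : a = i := by linear_combination ha0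
      rw [this]; exact hi
    · have h3 := zmod_two_mul_unique h1 h2k ha0 hk0
      have : a = j := by rw [hk] at h3; linear_combination h3
      rw [this]; exact hj

/-- Klein four-subgroups of a quasi-dihedral group are self-centralizing. -/
theorem quasiDihedral_centralizer_le {S : Type*} [Group S] [Finite S] (hS : IsQuasiDihedral S)
    (U : Subgroup S) [hU : IsKleinFour ↥U] : Subgroup.centralizer (U : Set S) ≤ U := by
  obtain ⟨n, x, y, hq⟩ := exists_QD hS
  obtain ⟨i, hi, hUi⟩ := eq_fourT hq U
  rw [hUi, centralizer_fourT]

/-- Self-centralizing four-subgroups transport along isomorphisms. -/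
theorem centralizer_le_of_mulEquiv {A B : Type*} [Group A] [Group B] (e : A ≃* B)
    (h : ∀ (U : Subgroup B) [IsKleinFour ↥U], Subgroup.centralizer (U : Set B) ≤ U)
    (U : Subgroup A) [hU : IsKleinFour ↥U] : Subgroup.centralizer (U : Set A) ≤ U := by
  haveI : IsKleinFour ↥(U.map e.toMonoidHom) :=
    isKleinFour_of_mulEquiv (U.equivMapOfInjective e.toMonoidHom e.injective).symm
  intro c hc
  have h1 : e c ∈ Subgroup.centralizer ((U.map e.toMonoidHom : Subgroup B) : Set B) := by
    rw [Subgroup.mem_centralizer_iff]
    rintro _ ⟨u, hu, rfl⟩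
    have := Subgroup.mem_centralizer_iff.mp hc u hu
    show e u * e c = e c * e u
    rw [← map_mul, ← map_mul, this]
  obtain ⟨u, hu, hue⟩ := h _ h1
  have : u = c := e.injective hue
  rwa [← this]

end Cfsg.Agent.Lib.Helper2.KleinCentral
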