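import Mathlib
import Cfsg.Agent.Lib.Helper8.L34Defs

/-!
# Farm L34 (S3154): part of unit UA — cardinalities of `U`, `A1`, `A2` and the classification of the
elementary abelian subgroups of order 16 of `U`.
-/

set_option autoImplicit false

namespace Cfsg.Agent.Lib.Helper2.L34UAc

open Matrix
open Cfsg.Agent.Lib.Helper8.L34

variable {F : Type*} [Field F]

theorem two_eq_zero [Fintype F] (hF : Fintype.card F = 4) : (2 : F) = 0 := by
  obtain ⟨p, hchar, n, hp, hpn⟩ := FiniteField.card' F
  have h4 : p ∣ 2 ^ 2 := by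
    have : p ∣ p ^ (n : ℕ) := dvd_pow_self p n.ne_zero
    rw [← hpn, hF] at this
    exact this
  have hp2 : p = 2 := (Nat.prime_dvd_prime_iff_eq hp Nat.prime_two).mp (hp.dvd_of_dvd_pow h4)
  subst hp2
  have := CharP.cast_eq_zero F 2
  exact_mod_cast this

theorem add_self [Fintype F] (hF : Fintype.card F = 4) (a : F) : a + a = 0 := by
  have := two_eq_zero hF
  calc a + a = 2 * a := by ring
    _ = 0 := by rw [this, zero_mul]

theorem UA_card_U [Fintype F] (hF : Fintype.card F = 4) : Nat.card (U F) = 64 := by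
  have e : F × F × F ≃ U F :=
    Equiv.ofBijective (fun p => ⟨hS p.1 p.2.1 p.2.2, ⟨p.1, p.2.1, p.2.2, rfl⟩⟩) (by
      constructor
      · intro p q h
        have h' := congrArg Subtype.val h
        obtain ⟨h1, h2, h3⟩ := hS_inj h'
        exact Prod.ext h1 (Prod.ext h2 h3)
      · rintro ⟨g, a, b, c, rfl⟩
        exact ⟨(a, b, c), rfl⟩)
  rw [← Nat.card_congr e, Nat.card_prod, Nat.card_prod, Nat.card_eq_fintype_card, hF]

theorem UA_card_A1 [Fintype F] (hF : Fintype.card F = 4) : Nat.card (A1 F) = 16 := by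
  have e : F × F ≃ A1 F :=
    Equiv.ofBijective (fun p => ⟨hS 0 p.1 p.2, ⟨p.1, p.2, rfl⟩⟩) (by
      constructor
      · intro p q h
        have h' := congrArg Subtype.val h
        obtain ⟨-, h2, h3⟩ := hS_inj h'
        exact Prod.ext h2 h3
      · rintro ⟨g, b, c, rfl⟩
        exact ⟨(b, c), rfl⟩)
  rw [← Nat.card_congr e, Nat.card_prod, Nat.card_eq_fintype_card, hF]

theorem UA_card_A2 [Fintype F] (hF : Fintype.card F = 4) : Nat.card (A2 F) = 16 := by
  have e : F × F ≃ A2 F :=
    Equiv.ofBijective (fun p => ⟨hS p.1 0 p.2, ⟨p.1, p.2, rfl⟩⟩) (by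
      constructor
      · intro p q h
        have h' := congrArg Subtype.val h
        obtain ⟨h1, -, h3⟩ := hS_inj h'
        exact Prod.ext h1 h3
      · rintro ⟨g, a, c, rfl⟩
        exact ⟨(a, c), rfl⟩)
  rw [← Nat.card_congr e, Nat.card_prod, Nat.card_eq_fintype_card, hF]

theorem UA_eq_A1_or_A2 [Fintype F] (hF : Fintype.card F = 4) (A : Subgroup (SpecialLinearGroup (Fin 3) F))
    (hAU : A ≤ U F) (hexp : ∀ a ∈ A, a ^ 2 = 1) (hcard : Nat.card A = 16) : A = A1 F ∨ A = A2 F := by
  classical
  -- every element of `A` is `hS a b c` with `a * b = 0`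
  have hab : ∀ a b c : F, hS a b c ∈ A → a * b = 0 := by
    intro a b c h
    have h2 := hexp _ h
    rw [pow_two, hS_mul, ← hS_zero] at h2
    obtain ⟨-, -, h3⟩ := hS_inj h2
    rw [add_self hF c, zero_add] at h3
    exact h3
  have hfinSL : Finite (SpecialLinearGroup (Fin 3) F) := Subtype.finite
  by_cases h1 : A ≤ A1 F
  · left
    exact Subgroup.eq_of_le_of_card_ge h1 (by rw [UA_card_A1 hF, hcard])
  · right
    have h2 : A ≤ A2 F := by
      obtain ⟨x, hxA, hxA1⟩ := SetLike.not_le_iff_exists.mp h1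
      obtain ⟨a, b, c, rfl⟩ := hAU hxA
      have ha : a ≠ 0 := by
        rintro rfl
        exact hxA1 ⟨b, c, rfl⟩
      have hb : b = 0 := by
        rcases mul_eq_zero.mp (hab a b c hxA) with h | h
        · exact absurd h ha
        · exact h
      subst hb
      intro y hyA
      obtain ⟨a', b', c', rfl⟩ := hAU hyA
      have hprod : hS a 0 c * hS a' b' c' ∈ A := A.mul_mem hxA hyA
      rw [hS_mul] at hprod
      have h3 := hab _ _ _ hprod
      rw [zero_add] at h3
      have h4 := hab _ _ _ hyA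
      -- (a + a') * b' = 0 and a' * b' = 0, so a * b' = 0
      have h5 : a * b' = 0 := by
        have : (a + a') * b' = a * b' + a' * b' := by ring
        rw [this, h4, add_zero] at h3
        exact h3
      have hb' : b' = 0 := by
        rcases mul_eq_zero.mp h5 with h | h
        · exact absurd h ha
        · exact h
      subst hb'
      exact ⟨a', c', rfl⟩
    exact Subgroup.eq_of_le_of_card_ge h2 (by rw [UA_card_A2 hF, hcard])

end Cfsg.Agent.Lib.Helper2.L34UAc
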