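import Mathlib
import Cfsg.Agent.Lib.Helper8.L34Defs

/-!
# Farm L34 (S3154): unit UG — a 2-subgroup `V` of `S` maps isomorphically into `S ⧸ Z(S)` when `Z(S)`
has exponent 3.
-/

set_option autoImplicit false

namespace Cfsg.Agent.Lib.Helper2.L34UG

open Cfsg.Agent.Lib.Helper8.L34

theorem UG_disjoint_center {S : Type*} [Group S] [Finite S] (V : Subgroup S) (hV : IsPGroup 2 ↥V)
    (hodd : ∀ z ∈ Subgroup.center S, z ^ 3 = 1) : V ⊓ Subgroup.center S = ⊥ := by
  rw [eq_bot_iff]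
  intro x hx
  rw [Subgroup.mem_bot]
  obtain ⟨hxV, hxZ⟩ := Subgroup.mem_inf.mp hx
  obtain ⟨k, hk⟩ := hV ⟨x, hxV⟩
  have hk' : x ^ 2 ^ k = 1 := by
    have := congrArg Subtype.val hk
    simpa using this
  have h3 := hodd x hxZ
  have hd1 := orderOf_dvd_of_pow_eq_one hk'
  have hd2 := orderOf_dvd_of_pow_eq_one h3
  have hcop : Nat.Coprime (2 ^ k) 3 := Nat.Coprime.pow_left k (by decide)
  have := Nat.dvd_gcd hd1 hd2
  rw [hcop.gcd_eq_one, Nat.dvd_one] at this
  exact orderOf_eq_one_iff.mp this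

/-- the restriction of the quotient map to `V` -/
theorem injective_restrict {S : Type*} [Group S] (V : Subgroup S)
    (hV : V ⊓ Subgroup.center S = ⊥) :
    Function.Injective ((QuotientGroup.mk' (Subgroup.center S)).comp V.subtype) := by
  rw [injective_iff_map_eq_one]
  intro x hx
  have h1 : (x : S) ∈ Subgroup.center S := by
    have : (QuotientGroup.mk' (Subgroup.center S)) (x : S) = 1 := hx
    rwa [QuotientGroup.mk'_apply, QuotientGroup.eq_one_iff] at this
  have h2 : (x : S) ∈ V ⊓ Subgroup.center S := Subgroup.mem_inf.mpr ⟨x.2, h1⟩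
  rw [hV, Subgroup.mem_bot] at h2
  exact Subtype.ext h2

/-- `V ≃* V.map π` -/
noncomputable def equivMap {S : Type*} [Group S] (V : Subgroup S)
    (hV : V ⊓ Subgroup.center S = ⊥) :
    ↥V ≃* ↥(V.map (QuotientGroup.mk' (Subgroup.center S))) :=
  (MonoidHom.ofInjective (injective_restrict V hV)).trans
    (MulEquiv.subgroupCongr (by rw [MonoidHom.range_comp, Subgroup.range_subtype]))

theorem UG_card_map {S : Type*} [Group S] (V : Subgroup S) (hV : V ⊓ Subgroup.center S = ⊥) :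
    Nat.card ↥(V.map (QuotientGroup.mk' (Subgroup.center S))) = Nat.card ↥V :=
  (Nat.card_congr (equivMap V hV).toEquiv).symm

theorem UG_classify_map {S : Type*} [Group S] [Finite S] (V B1 B2 : Subgroup S)
    (hV : V ⊓ Subgroup.center S = ⊥)
    (hcl : ∀ A : Subgroup S, A ≤ V → (∀ a ∈ A, a ^ 2 = 1) → Nat.card ↥A = 16 → A = B1 ∨ A = B2) :
    ∀ A : Subgroup (S ⧸ Subgroup.center S), A ≤ V.map (QuotientGroup.mk' (Subgroup.center S)) →
      (∀ a ∈ A, a ^ 2 = 1) → Nat.card ↥A = 16 →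
      A = B1.map (QuotientGroup.mk' (Subgroup.center S)) ∨
        A = B2.map (QuotientGroup.mk' (Subgroup.center S)) := by
  intro A hAV hA2 hAc
  set π := QuotientGroup.mk' (Subgroup.center S) with hπ
  set A0 : Subgroup S := A.comap π ⊓ V with hA0
  have hA0V : A0 ≤ V := inf_le_right
  have hmap : A0.map π = A := by
    apply le_antisymm
    · rintro _ ⟨a, ha, rfl⟩
      exact (Subgroup.mem_inf.mp ha).1
    · intro a ha
      obtain ⟨v, hv, rfl⟩ := hAV ha
      exact ⟨v, Subgroup.mem_inf.mpr ⟨ha, hv⟩, rfl⟩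
  have hA0Z : A0 ⊓ Subgroup.center S = ⊥ := by
    rw [eq_bot_iff, ← hV]
    exact inf_le_inf_right _ hA0V
  have hexp : ∀ a ∈ A0, a ^ 2 = 1 := by
    intro a ha
    have h1 : π a ∈ A := (Subgroup.mem_inf.mp ha).1
    have h2 : π (a ^ 2) = 1 := by rw [map_pow]; exact hA2 _ h1
    have h3 : a ^ 2 ∈ Subgroup.center S := by
      rwa [hπ, QuotientGroup.mk'_apply, QuotientGroup.eq_one_iff] at h2
    have h4 : a ^ 2 ∈ V ⊓ Subgroup.center S :=
      Subgroup.mem_inf.mpr ⟨V.pow_mem (hA0V ha) 2, h3⟩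
    rwa [hV, Subgroup.mem_bot] at h4
  have hcard : Nat.card ↥A0 = 16 := by
    rw [← UG_card_map A0 hA0Z, hmap, hAc]
  rcases hcl A0 hA0V hexp hcard with h | h
  · left; rw [← hmap, h]
  · right; rw [← hmap, h]

end Cfsg.Agent.Lib.Helper2.L34UG
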