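import Mathlib
import Cfsg.Agent.Lib.Helper8.L34Defs
import Cfsg.Agent.Lib.Helper2.L34UG

/-!
# Farm L34 (S3154): unit UE — from `LeviData` in `S` to `Facts` in `S ⧸ Z(S)`.
-/

set_option autoImplicit false

namespace Cfsg.Agent.Lib.Helper2.L34UE

open Cfsg.Agent.Lib.Helper8.L34
open Cfsg.Agent.Lib.Helper9.JRDefs (IsSylowIn)
open Cfsg.Agent.Lib.Helper2.L34UG

/-- coprimality: an element with `z ^ 2 ^ k = 1` and `z ^ 3 = 1` is trivial -/
theorem eq_one_of_pow {S : Type*} [Group S] (z : S) (k : ℕ) (h1 : z ^ 2 ^ k = 1) (h3 : z ^ 3 = 1) :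
    z = 1 := by
  have hd1 := orderOf_dvd_of_pow_eq_one h1
  have hd2 := orderOf_dvd_of_pow_eq_one h3
  have hcop : Nat.Coprime (2 ^ k) 3 := Nat.Coprime.pow_left k (by decide)
  have := Nat.dvd_gcd hd1 hd2
  rw [hcop.gcd_eq_one, Nat.dvd_one] at this
  exact orderOf_eq_one_iff.mp this

theorem UE_facts_of_leviData {S : Type*} [Group S] [Finite S] {F : Type*} [Field F]
    (A A' L D : Subgroup S) (hodd : ∀ z ∈ Subgroup.center S, z ^ 3 = 1)
    (hU : IsPGroup 2 ↥(A ⊔ A'))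
    (hcen : ∀ z ∈ A ⊔ A', (∀ w ∈ A ⊔ A', z * w = w * z) → z ∈ A ⊓ A')
    (hL : LeviData F (Subgroup.center S) A A' L D) :
    Facts F (A.map (QuotientGroup.mk' (Subgroup.center S)))
      (A'.map (QuotientGroup.mk' (Subgroup.center S))) := by
  set Z := Subgroup.center S with hZ
  set π := QuotientGroup.mk' Z with hπ
  have hker : ∀ x : S, π x = 1 ↔ x ∈ Z := by
    intro x
    rw [hπ, QuotientGroup.mk'_apply, QuotientGroup.eq_one_iff]
  have hπeq : ∀ x y : S, π x = π y → x⁻¹ * y ∈ Z := by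
    intro x y h
    rw [← hker, map_mul, map_inv, h, inv_mul_cancel]
  -- `A ⊔ A'` meets the centre trivially
  have hUZ : (A ⊔ A') ⊓ Z = ⊥ := UG_disjoint_center (A ⊔ A') hU hodd
  have hApow : ∀ a ∈ A, ∃ k : ℕ, a ^ 2 ^ k = 1 := by
    intro a ha
    obtain ⟨k, hk⟩ := hU ⟨a, (le_sup_left : A ≤ A ⊔ A') ha⟩
    exact ⟨k, by simpa using congrArg Subtype.val hk⟩
  have hAZ : A ⊓ Z = ⊥ := by
    rw [eq_bot_iff, ← hUZ]
    exact inf_le_inf_right _ le_sup_left
  -- `L` meets the centre trivially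
  have hLZ : L ⊓ Z = ⊥ := by
    rw [eq_bot_iff]
    intro l hl
    obtain ⟨hlL, hlZ⟩ := Subgroup.mem_inf.mp hl
    rw [Subgroup.mem_bot]
    exact hL.disj l hlL 1 A.one_mem l hlZ (one_mul l).symm
  -- elements whose image normalizes the image of `A` normalize `A`
  have hconj : ∀ g : S, π g ∈ Subgroup.normalizer ((A.map π : Subgroup (S ⧸ Z)) : Set (S ⧸ Z)) →
      ∀ a ∈ A, g * a * g⁻¹ ∈ A := by
    intro g hg a ha
    have h1 : π g * π a * (π g)⁻¹ ∈ A.map π :=
      (Subgroup.mem_normalizer_iff.mp hg (π a)).mp ⟨a, ha, rfl⟩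
    obtain ⟨a', ha', hEq⟩ := h1
    have hz : a'⁻¹ * (g * a * g⁻¹) ∈ Z := by
      apply hπeq
      rw [hEq, map_mul, map_mul, map_inv]
    set z := a'⁻¹ * (g * a * g⁻¹) with hzdef
    have hga : g * a * g⁻¹ = a' * z := by rw [hzdef]; group
    obtain ⟨k, hk⟩ := hApow a ha
    obtain ⟨k', hk'⟩ := hApow a' ha'
    -- raise to the power `2 ^ (k + k')`
    have hcomm : Commute a' z := Subgroup.mem_center_iff.mp hz a'
    have e1 : (g * a * g⁻¹) ^ 2 ^ (k + k') = 1 := by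
      rw [conj_pow, pow_add, pow_mul, hk, one_pow, mul_one, mul_inv_cancel]
    have e2 : a' ^ 2 ^ (k + k') = 1 := by
      rw [pow_add, mul_comm, pow_mul, hk', one_pow]
    have e3 : z ^ 2 ^ (k + k') = 1 := by
      have := e1
      rw [hga, hcomm.mul_pow, e2, one_mul] at this
      exact this
    have hz1 : z = 1 := eq_one_of_pow z _ e3 (hodd z hz)
    rw [hga, hz1, mul_one]
    exact ha'
  have hnorm : ∀ g : S, π g ∈ Subgroup.normalizer ((A.map π : Subgroup (S ⧸ Z)) : Set (S ⧸ Z)) →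
      g ∈ Subgroup.normalizer (A : Set S) := by
    intro g hg
    have hg' : π g⁻¹ ∈ Subgroup.normalizer ((A.map π : Subgroup (S ⧸ Z)) : Set (S ⧸ Z)) := by
      rw [map_inv]; exact Subgroup.inv_mem _ hg
    rw [Subgroup.mem_normalizer_iff]
    intro h
    constructor
    · exact hconj g hg h
    · intro hh
      have := hconj g⁻¹ hg' _ hh
      have e : g⁻¹ * (g * h * g⁻¹) * g⁻¹⁻¹ = h := by group
      rwa [e] at this
  have hLN : L.map π ≤ Subgroup.normalizer ((A.map π : Subgroup (S ⧸ Z)) : Set (S ⧸ Z)) :=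
    (Subgroup.map_mono hL.le_normalizer).trans (Subgroup.le_normalizer_map π)
  refine ⟨?_, ?_, ?_⟩
  · -- trans
    rintro _ ⟨a, ha, rfl⟩ _ ⟨a', ha', rfl⟩ hx hy
    have ha1 : a ≠ 1 := by rintro rfl; exact hx (map_one π)
    have ha1' : a' ≠ 1 := by rintro rfl; exact hy (map_one π)
    obtain ⟨l, hl, hla⟩ := hL.trans a ha a' ha' ha1 ha1'
    refine ⟨π l, hLN ⟨l, hl, rfl⟩, ?_⟩
    rw [← map_inv, ← map_mul, ← map_mul, hla]
  · -- center
    intro z hz hzc
    rw [← Subgroup.map_sup] at hz hzc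
    obtain ⟨u, hu, rfl⟩ := hz
    have hucen : ∀ w ∈ A ⊔ A', u * w = w * u := by
      intro w hw
      have h1 := hzc (π w) ⟨w, hw, rfl⟩
      rw [← map_mul, ← map_mul] at h1
      have h2 : (u * w)⁻¹ * (w * u) ∈ Z := hπeq _ _ h1
      have h3 : (u * w)⁻¹ * (w * u) ∈ (A ⊔ A') ⊓ Z :=
        Subgroup.mem_inf.mpr ⟨Subgroup.mul_mem _ (Subgroup.inv_mem _ (Subgroup.mul_mem _ hu hw))
          (Subgroup.mul_mem _ hw hu), h2⟩
      rw [hUZ, Subgroup.mem_bot] at h3
      exact inv_mul_eq_one.mp h3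
    have := hcen u hu hucen
    obtain ⟨h1, h2⟩ := Subgroup.mem_inf.mp this
    exact Subgroup.mem_inf.mpr ⟨⟨u, h1, rfl⟩, ⟨u, h2, rfl⟩⟩
  · -- compl
    refine ⟨L.map π, D.map π, hLN, ?_, ?_, ?_, ?_, ?_⟩
    · -- disjoint
      rw [eq_bot_iff]
      rintro x hx
      obtain ⟨hxL, hxA⟩ := Subgroup.mem_inf.mp hx
      obtain ⟨l, hl, rfl⟩ := hxL
      obtain ⟨a, ha, hal⟩ := hxA
      have hz : a⁻¹ * l ∈ Z := hπeq _ _ hal
      have hl1 : l = 1 := hL.disj l hl a ha _ hz (by group)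
      rw [Subgroup.mem_bot, hl1, map_one]
    · -- sup
      apply le_antisymm
      · exact sup_le Subgroup.le_normalizer hLN
      · intro n hn
        obtain ⟨g, rfl⟩ := QuotientGroup.mk'_surjective Z n
        have hgN := hnorm g hn
        obtain ⟨a, ha, l, hl, z, hz, hg⟩ := hL.normalizer_le g hgN
        have : π g = π a * π l := by
          rw [hg, map_mul, map_mul, (hker z).mpr hz, mul_one]
        rw [this]
        exact Subgroup.mul_mem _ (Subgroup.mem_sup_left ⟨a, ha, rfl⟩)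
          (Subgroup.mem_sup_right ⟨l, hl, rfl⟩)
    · -- iso
      obtain ⟨e⟩ := hL.iso
      exact ⟨(equivMap L hLZ).symm.trans e⟩
    · exact Subgroup.map_mono hL.D_le
    · -- Sylow
      obtain ⟨hDL, hDp, hDi⟩ := hL.D_sylow
      refine ⟨Subgroup.map_mono hDL, hDp.map π, ?_⟩
      have hDZ : D ⊓ Z = ⊥ := by
        rw [eq_bot_iff, ← hLZ]
        exact inf_le_inf_right _ hDL
      have h1 : Nat.card ↥(D.map π) * (D.map π).relIndex (L.map π) = Nat.card ↥(L.map π) := by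
        have := Subgroup.relIndex_mul_relIndex (⊥ : Subgroup (S ⧸ Z)) (D.map π) (L.map π) bot_le
          (Subgroup.map_mono hDL)
        rwa [Subgroup.relIndex_bot_left, Subgroup.relIndex_bot_left] at this
      have h2 : Nat.card ↥D * D.relIndex L = Nat.card ↥L := by
        have := Subgroup.relIndex_mul_relIndex (⊥ : Subgroup S) D L bot_le hDL
        rwa [Subgroup.relIndex_bot_left, Subgroup.relIndex_bot_left] at this
      rw [UG_card_map D hDZ, UG_card_map L hLZ, ← h2] at h1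
      have hpos : 0 < Nat.card ↥D := Nat.card_pos
      have h3 : (D.map π).relIndex (L.map π) = D.relIndex L :=
        Nat.eq_of_mul_eq_mul_left hpos h1
      rw [h3]
      exact hDi

end Cfsg.Agent.Lib.Helper2.L34UE
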