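import Mathlib
import Cfsg.Prelude.Def_Transfer
import Cfsg.Agent.Lib.Helper1.Tg2

set_option autoImplicit false
set_option maxHeartbeats 4000000
set_option linter.unusedVariables false
set_option linter.unusedSectionVars false
set_option linter.style.longLine false
set_option linter.unusedSimpArgs false
set_option linter.deprecated false

/-! A parity refinement of Thompson's transfer lemma: if `O^2(G) = G`, `φ : H →* ℤˣ`, `u ∈ H` an
involution with `φ u = -1` and `P ≤ H` a 2-group centralizing `u`, then some coset `gH ≠ H` is fixed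
by `P` and by `u`, with `φ (g⁻¹ u g) = -1`. -/

namespace Cfsg.Agent.Lib.Helper2.TrPar

open scoped Pointwise
open MulAction Subgroup
open Cfsg.Agent.Lib.Helper1.Tg

universe u

variable {G : Type u} [Group G]

theorem hom_trivial_of_pResidual (hres : Cfsg.pResidual 2 G = ⊤) (f : G →* ℤˣ) (g : G) :
    f g = 1 := by
  have hle : Cfsg.pResidual 2 G ≤ f.ker := by
    unfold Cfsg.pResidual
    rw [Subgroup.closure_le]
    intro x hx
    have hx' : Nat.Coprime (orderOf x) 2 := hx
    rw [SetLike.mem_coe, MonoidHom.mem_ker]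
    rcases Int.units_eq_one_or (f x) with h | h
    · exact h
    · exfalso
      have h1 : (f x) ^ orderOf x = 1 := by rw [← map_pow, pow_orderOf_eq_one, map_one]
      rw [h] at h1
      have hodd : Odd (orderOf x) := by
        rw [← Nat.not_even_iff_odd, even_iff_two_dvd]
        intro h2
        have := Nat.Coprime.eq_one_of_dvd hx'.symm h2
        omega
      rw [hodd.neg_one_pow] at h1
      exact absurd h1 (by decide)
  have : g ∈ f.ker := hle (by rw [hres]; exact Subgroup.mem_top g)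
  exact MonoidHom.mem_ker.mp this

theorem parity [Finite G] (hres : Cfsg.pResidual 2 G = ⊤) (H : Subgroup G) (φ : H →* ℤˣ)
    (c : G) (hc2 : c * c = 1) (hcH : c ∈ H) (hφc : ext1 φ c = -1)
    (P : Subgroup G) (hP2 : IsPGroup 2 P) (hPH : P ≤ H) (hPc : ∀ p ∈ P, p * c = c * p) :
    ∃ g : G, g ∉ H ∧ (∀ p ∈ P, g⁻¹ * p * g ∈ H) ∧ g⁻¹ * c * g ∈ H ∧
      ext1 φ (g⁻¹ * c * g) = -1 := by
  classical
  haveI : Fact (Nat.Prime 2) := ⟨Nat.prime_two⟩
  letI : Fintype (G ⧸ H) := H.fintypeQuotientOfFiniteIndex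
  have hV : MonoidHom.transfer φ c = 1 := hom_trivial_of_pResidual hres _ c
  rw [transfer_eq_prod_out φ c] at hV
  have hcinv : c⁻¹ = c := inv_eq_of_mul_eq_one_right hc2
  have hcc : ∀ q : G ⧸ H, c • c • q = q := by
    intro q
    rw [← mul_smul, hc2, one_smul]
  have hout : ∀ q : G ⧸ H, ((q.out : G) : G ⧸ H) = q := fun q => QuotientGroup.out_eq' q
  have hfix_iff : ∀ g : G, c • (g : G ⧸ H) = (g : G ⧸ H) ↔ g⁻¹ * c * g ∈ H := by
    intro g
    rw [MulAction.Quotient.smul_mk, QuotientGroup.eq, smul_eq_mul, mul_inv_rev, hcinv, mul_assoc]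
  rw [← Finset.prod_filter_mul_prod_filter_not Finset.univ (fun q : G ⧸ H => c • q = q)] at hV
  have hnonfix : ∏ q ∈ Finset.univ.filter (fun q : G ⧸ H => ¬ c • q = q),
      ext1 φ ((q.out)⁻¹ * (c * (c⁻¹ • q).out)) = 1 := by
    refine Finset.prod_involution (g := fun a _ => c • a) (hg₁ := ?_) (hg₃ := ?_) (g_mem := ?_)
      (hg₄ := ?_)
    · intro a _
      rw [hcinv, hcc a]
      have hm1 : (a.out)⁻¹ * (c * (c • a).out) ∈ H := by
        apply QuotientGroup.eq.mp
        rw [hout a]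
        have : ((c * (c • a).out : G) : G ⧸ H) = c • (((c • a).out : G) : G ⧸ H) := rfl
        rw [this, hout, hcc]
      have hm2 : ((c • a).out)⁻¹ * (c * a.out) ∈ H := by
        apply QuotientGroup.eq.mp
        rw [hout (c • a)]
        have : ((c * a.out : G) : G ⧸ H) = c • ((a.out : G) : G ⧸ H) := rfl
        rw [this, hout]
      rw [← ext1_mul φ hm1 hm2]
      have : (a.out)⁻¹ * (c * (c • a).out) * (((c • a).out)⁻¹ * (c * a.out)) =
          (a.out)⁻¹ * (c * c) * a.out := by group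
      rw [this, hc2, mul_one, inv_mul_cancel, ext1_one]
    · intro a ha _
      exact (Finset.mem_filter.mp ha).2
    · intro a ha
      rw [Finset.mem_filter]
      refine ⟨Finset.mem_univ _, ?_⟩
      rw [hcc a]
      intro h
      exact (Finset.mem_filter.mp ha).2 h.symm
    · intro a _
      exact hcc a
  rw [hnonfix, mul_one] at hV
  set τ : G → ℤˣ := fun g => ext1 φ (g⁻¹ * c * g) with hτ
  have hfixprod : ∏ q ∈ Finset.univ.filter (fun q : G ⧸ H => c • q = q),
      ext1 φ ((q.out)⁻¹ * (c * (c⁻¹ • q).out)) =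
      ∏ q ∈ Finset.univ.filter (fun q : G ⧸ H => c • q = q), τ q.out := by
    apply Finset.prod_congr rfl
    intro q hq
    have hq' := (Finset.mem_filter.mp hq).2
    rw [hcinv, hq', ← mul_assoc]
  rw [hfixprod] at hV
  let Sm : Set (G ⧸ H) := {q | ∃ g : G, (g : G ⧸ H) = q ∧ g⁻¹ * c * g ∈ H ∧ τ g = -1}
  have hR : ∀ g h : G, g⁻¹ * c * g ∈ H → h ∈ H → τ (g * h) = τ g := by
    intro g h hg hh
    show ext1 φ ((g * h)⁻¹ * c * (g * h)) = ext1 φ (g⁻¹ * c * g)
    have : (g * h)⁻¹ * c * (g * h) = h⁻¹ * (g⁻¹ * c * g) * h := by group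
    rw [this, ext1_conj φ hg hh]
  have hfixH : ∀ q : G ⧸ H, c • q = q → (q.out)⁻¹ * c * q.out ∈ H := by
    intro q hq
    apply (hfix_iff q.out).mp
    rw [hout q]
    exact hq
  have hSm_iff : ∀ q : G ⧸ H, c • q = q → (τ q.out = -1 ↔ q ∈ Sm) := by
    intro q hq
    constructor
    · intro h
      exact ⟨q.out, hout q, hfixH q hq, h⟩
    · rintro ⟨g, hgq, hgH, hg1⟩
      have hh : g⁻¹ * q.out ∈ H := by
        apply QuotientGroup.eq.mp
        rw [hgq, hout q]
      have : q.out = g * (g⁻¹ * q.out) := by group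
      rw [this, hR g _ hgH hh, hg1]
  have hSmfix : ∀ q ∈ Sm, c • q = q := by
    rintro q ⟨g, hgq, hgH, _⟩
    rw [← hgq]
    exact (hfix_iff g).mpr hgH
  have hprod2 : ∏ q ∈ Finset.univ.filter (fun q : G ⧸ H => c • q = q), τ q.out =
      ∏ q ∈ Finset.univ.filter (fun q : G ⧸ H => c • q = q),
        (if q ∈ Sm then (-1 : ℤˣ) else 1) := by
    apply Finset.prod_congr rfl
    intro q hq
    have hq' := (Finset.mem_filter.mp hq).2
    by_cases hS : q ∈ Sm
    · rw [if_pos hS]
      exact (hSm_iff q hq').mpr hS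
    · rw [if_neg hS]
      rcases Int.units_eq_one_or (τ q.out) with h | h
      · exact h
      · exact absurd ((hSm_iff q hq').mp h) hS
  rw [hprod2, Finset.prod_ite, Finset.prod_const_one, mul_one, Finset.prod_const] at hV
  have hEven : Even ((Finset.univ.filter (fun q : G ⧸ H => c • q = q)).filter
      (fun q => q ∈ Sm)).card := by
    rw [← neg_one_pow_eq_one_iff_even (R := ℤˣ) (by decide)]
    exact hV
  have hcardSm : Nat.card Sm = ((Finset.univ.filter (fun q : G ⧸ H => c • q = q)).filter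
      (fun q => q ∈ Sm)).card := by
    rw [Nat.card_eq_fintype_card, Fintype.card_subtype]
    congr 1
    ext q
    simp only [Finset.mem_filter, Finset.mem_univ, true_and]
    constructor
    · intro h; exact ⟨hSmfix q h, h⟩
    · intro h; exact h.2
  let Ssub : SubMulAction P (G ⧸ H) :=
    { carrier := Sm
      smul_mem' := by
        rintro y q ⟨g, hgq, hgH, hg1⟩
        have hyc := hPc y y.2
        have e : ((y : G) * g)⁻¹ * c * ((y : G) * g) = g⁻¹ * c * g := by
          calc ((y : G) * g)⁻¹ * c * ((y : G) * g) = g⁻¹ * ((y : G)⁻¹ * (c * y)) * g := by group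
            _ = g⁻¹ * ((y : G)⁻¹ * (y * c)) * g := by rw [hyc]
            _ = g⁻¹ * c * g := by group
        refine ⟨(y : G) * g, ?_, ?_, ?_⟩
        · rw [← hgq]
          rfl
        · rw [e]; exact hgH
        · show ext1 φ (((y : G) * g)⁻¹ * c * ((y : G) * g)) = -1
          rw [e]; exact hg1 }
  have hmod := hP2.card_modEq_card_fixedPoints (↥Ssub)
  have hcardS : Nat.card (↥Ssub) = Nat.card Sm := rfl
  have hEvenFix : Even (Nat.card (fixedPoints P (↥Ssub))) := by
    have h1 : Nat.card (↥Ssub) % 2 = Nat.card (fixedPoints P (↥Ssub)) % 2 := hmod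
    rw [hcardS, hcardSm] at h1
    rw [Nat.even_iff, ← h1]
    exact Nat.even_iff.mp hEven
  -- the base point
  have h1Sm : ((1 : G) : G ⧸ H) ∈ Sm := by
    refine ⟨1, rfl, ?_, ?_⟩
    · simpa using hcH
    · show ext1 φ ((1 : G)⁻¹ * c * 1) = -1
      simpa using hφc
  let q0 : ↥Ssub := ⟨((1 : G) : G ⧸ H), h1Sm⟩
  have hq0fix : q0 ∈ fixedPoints P (↥Ssub) := by
    intro y
    apply Subtype.ext
    show (y : G) • ((1 : G) : G ⧸ H) = ((1 : G) : G ⧸ H)
    rw [MulAction.Quotient.smul_mk, QuotientGroup.eq, smul_eq_mul]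
    simpa using H.inv_mem (hPH y.2)
  haveI : Finite (fixedPoints P (↥Ssub)) := Finite.of_injective (fun x => (x : ↥Ssub)) Subtype.val_injective
  have hpos : 0 < Nat.card (fixedPoints P (↥Ssub)) := Nat.card_pos_iff.mpr ⟨⟨⟨q0, hq0fix⟩⟩, inferInstance⟩
  have h2le : 1 < Nat.card (fixedPoints P (↥Ssub)) := by
    rcases hEvenFix with ⟨k, hk⟩
    omega
  haveI : Nontrivial (fixedPoints P (↥Ssub)) := Finite.one_lt_card_iff_nontrivial.mp h2le
  obtain ⟨x, hx⟩ := exists_ne (⟨q0, hq0fix⟩ : fixedPoints P (↥Ssub))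
  obtain ⟨⟨q, ⟨g, hgq, hgH, hg1⟩⟩, hfp⟩ := x
  refine ⟨g, ?_, ?_, hgH, hg1⟩
  · intro hgmem
    apply hx
    apply Subtype.ext
    apply Subtype.ext
    show q = ((1 : G) : G ⧸ H)
    rw [← hgq, QuotientGroup.eq]
    simpa using hgmem
  · intro p hp
    have h1 := hfp ⟨p⁻¹, P.inv_mem hp⟩
    have h2 : (⟨p⁻¹, P.inv_mem hp⟩ : P) • q = q := congrArg Subtype.val h1
    rw [← hgq] at h2
    have h3 : ((p⁻¹ * g : G) : G ⧸ H) = (g : G ⧸ H) := h2
    have h4 := QuotientGroup.eq.mp h3
    have : (p⁻¹ * g)⁻¹ * g = g⁻¹ * p * g := by group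
    rw [this] at h4
    exact h4

end Cfsg.Agent.Lib.Helper2.TrPar
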