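import Cfsg.Agent.Lib.Helper2.ExtraSp5
import Cfsg.Agent.Lib.Helper2.TrPar

set_option autoImplicit false
set_option maxHeartbeats 4000000
set_option linter.unusedVariables false
set_option linter.style.longLine false
set_option linter.unusedSimpArgs false

/-! `O^2(G) = G`, `E` extraspecial of order `> 8` with `C_G(E) ≤ E`, normalized by `H = C_G(z)`,
`Z(E) = ⟨z⟩`: then `E` lies in every subgroup `K` "of index 2" of `H`. -/

namespace Cfsg.Agent.Lib.Helper2.ExtraSp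

open Cfsg.Agent.Lib.Helper1.Tg

variable {G : Type*} [Group G]

/-- if `x = g z g⁻¹ ∈ Q ∖ {z}` then `g⁻¹ z g ∈ Q` -/
theorem conj_inv_mem [Finite G] {Q : Subgroup G} {z : G} (hES : ESData Q z)
    (hC : Subgroup.centralizer (Q : Set G) ≤ Q)
    (hN : Subgroup.centralizer ({z} : Set G) ≤ Subgroup.normalizer (Q : Set G))
    (g : G) (hxQ : g * z * g⁻¹ ∈ Q) (hxz : g * z * g⁻¹ ≠ z) : g⁻¹ * z * g ∈ Q := by
  obtain ⟨ρ, hρz, hρx⟩ := key_rho hES hC hN g hxQ hxz
  have hcz : (g⁻¹ * ρ) * z = z * (g⁻¹ * ρ) := by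
    apply comm_of_cj
    calc g⁻¹ * ρ * z * (g⁻¹ * ρ)⁻¹ = g⁻¹ * (ρ * z * ρ⁻¹) * g := by group
      _ = g⁻¹ * (g * z * g⁻¹) * g := by rw [hρz]
      _ = z := by group
  have hcN : g⁻¹ * ρ ∈ Subgroup.normalizer (Q : Set G) := hN (mem_cent_single.mpr hcz.symm)
  have h1 := (Subgroup.mem_normalizer_iff.mp hcN (g * z * g⁻¹)).mp hxQ
  have h2 : g⁻¹ * ρ * (g * z * g⁻¹) * (g⁻¹ * ρ)⁻¹ = g⁻¹ * (ρ * (g * z * g⁻¹) * ρ⁻¹) * g := by group
  rw [h2, hρx] at h1
  have h3 : g⁻¹ * (g * z * g⁻¹ * z) * g = z * (g⁻¹ * z * g) := by group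
  rw [h3] at h1
  have h4 := Q.mul_mem (Q.inv_mem hES.zQ) h1
  have h5 : z⁻¹ * (z * (g⁻¹ * z * g)) = g⁻¹ * z * g := by group
  rwa [h5] at h4

theorem le_of_index_two [Finite G] (hres : Cfsg.pResidual 2 G = ⊤) {z : G} {E : Subgroup G}
    (hES : ESData E z) (hC : Subgroup.centralizer (E : Set G) ≤ E)
    (hN : Subgroup.centralizer ({z} : Set G) ≤ Subgroup.normalizer (E : Set G))
    (hEH : E ≤ Subgroup.centralizer ({z} : Set G)) (hcard : 8 < Nat.card E) (K : Subgroup G)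
    (hmulH : ∀ a ∈ Subgroup.centralizer ({z} : Set G), ∀ b ∈ Subgroup.centralizer ({z} : Set G),
      (a * b ∈ K ↔ (a ∈ K ↔ b ∈ K))) : E ≤ K := by
  classical
  have z2 := hES.z_sq
  have hz1 := hES.z_ne
  obtain ⟨H, hHdef⟩ : ∃ H : Subgroup G, H = Subgroup.centralizer ({z} : Set G) := ⟨_, rfl⟩
  rw [← hHdef] at hN hEH hmulH
  have hmemH : ∀ g : G, g ∈ H ↔ z * g = g * z := by
    intro g; rw [hHdef]; exact mem_cent_single
  -- the sign character of H with kernel K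
  let φ : H →* ℤˣ :=
    { toFun := fun h => if (h : G) ∈ K then 1 else -1
      map_one' := by simp [K.one_mem]
      map_mul' := by
        intro a b
        have h := hmulH a a.2 b b.2
        show (if ((a * b : H) : G) ∈ K then (1 : ℤˣ) else -1) = _
        rw [Subgroup.coe_mul]
        by_cases ha : (a : G) ∈ K <;> by_cases hb : (b : G) ∈ K
        · rw [if_pos ha, if_pos hb, if_pos (h.mpr ⟨fun _ => hb, fun _ => ha⟩)]; rfl
        · rw [if_pos ha, if_neg hb, if_neg (fun h' => hb ((h.mp h').mp ha))]; rfl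
        · rw [if_neg ha, if_pos hb, if_neg (fun h' => ha ((h.mp h').mpr hb))]; rfl
        · rw [if_neg ha, if_neg hb,
            if_pos (h.mpr ⟨fun h' => absurd h' ha, fun h' => absurd h' hb⟩)]; rfl }
  have hφK : ∀ x : G, x ∈ H → (ext1 φ x = 1 ↔ x ∈ K) := by
    intro x hx
    rw [ext1_of_mem φ hx]
    show (if x ∈ K then (1 : ℤˣ) else -1) = 1 ↔ x ∈ K
    by_cases h : x ∈ K
    · rw [if_pos h]; exact ⟨fun _ => h, fun _ => rfl⟩
    · rw [if_neg h]; exact ⟨fun h' => absurd h' (by decide), fun h' => absurd h' h⟩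
  have hφnK : ∀ x : G, x ∈ H → x ∉ K → ext1 φ x = -1 := by
    intro x hx hxK
    rcases Int.units_eq_one_or (ext1 φ x) with h | h
    · exact absurd ((hφK x hx).mp h) hxK
    · exact h
  -- commutators of H lie in K
  have hcommK : ∀ a ∈ H, ∀ b ∈ H, a * b * a⁻¹ * b⁻¹ ∈ K := by
    intro a ha b hb
    have hab : a * b * a⁻¹ * b⁻¹ ∈ H :=
      H.mul_mem (H.mul_mem (H.mul_mem ha hb) (H.inv_mem ha)) (H.inv_mem hb)
    rw [← hφK _ hab, ext1_of_mem φ hab]
    have : (⟨a * b * a⁻¹ * b⁻¹, hab⟩ : H) = ⟨a, ha⟩ * ⟨b, hb⟩ * ⟨a, ha⟩⁻¹ * ⟨b, hb⟩⁻¹ := rfl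
    rw [this, map_mul, map_mul, map_mul, map_inv, map_inv, mul_comm (φ ⟨a, ha⟩) (φ ⟨b, hb⟩)]
    group
  -- z ∈ K
  have hzK : z ∈ K := by
    obtain ⟨x, hxE, hxl⟩ := exists_mem_not_mem_list (Q := E) [1, z] (by simp; omega)
    simp only [List.mem_cons, List.not_mem_nil, or_false, not_or] at hxl
    obtain ⟨q, hqE, hq⟩ := exists_swap hES hxE hxl.1 hxl.2
    have h1 := hcommK q (hEH hqE) x (hEH hxE)
    have h2 : q * x * q⁻¹ * x⁻¹ = z := by
      rw [hq]
      calc x * z * x⁻¹ = (x * z) * x⁻¹ := rfl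
        _ = (z * x) * x⁻¹ := by rw [hES.z_comm x hxE]
        _ = z := by group
    rwa [h2] at h1
  by_contra hnot
  have hne : ∃ e ∈ E, e ∉ K := by
    by_contra h
    push Not at h
    exact hnot h
  obtain ⟨u, huE, huK, hu2⟩ := exists_involution_not_mem hES hcard K
    (fun a ha b hb => hmulH a (hEH ha) b (hEH hb)) hne
  have hu1 : u ≠ 1 := fun h => huK (h ▸ K.one_mem)
  have huz : u ≠ z := fun h => huK (h ▸ hzK)
  have huH : u ∈ H := hEH huE
  -- the 2-group P = C_E(u)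
  obtain ⟨P, hPdef⟩ : ∃ P : Subgroup G, P = E ⊓ Subgroup.centralizer ({u} : Set G) := ⟨_, rfl⟩
  have hPE : P ≤ E := by rw [hPdef]; exact inf_le_left
  have hP2 : IsPGroup 2 P := by
    exact hES.two.to_le hPE
  have hPu : ∀ p ∈ P, p * u = u * p := by
    intro p hp
    rw [hPdef] at hp
    exact (mem_cent_single.mp hp.2).symm
  have hPmem : ∀ e ∈ E, e * u = u * e → e ∈ P := by
    intro e he heu
    rw [hPdef]
    exact ⟨he, mem_cent_single.mpr heu.symm⟩
  obtain ⟨g, hgH, hgP, hguH, hgu⟩ := Cfsg.Agent.Lib.Helper2.TrPar.parity hres H φ u hu2 huH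
    (hφnK u huH huK) P hP2 (hPE.trans hEH) hPu
  -- b = g z g⁻¹ centralizes P
  have hbP : ∀ p ∈ P, (g * z * g⁻¹) * p = p * (g * z * g⁻¹) := by
    intro p hp
    have h1 := (hmemH _).mp (hgP p hp)
    calc g * z * g⁻¹ * p = g * (z * (g⁻¹ * p * g)) * g⁻¹ := by group
      _ = g * ((g⁻¹ * p * g) * z) * g⁻¹ := by rw [h1]
      _ = p * (g * z * g⁻¹) := by group
  have hzP : z ∈ P := hPmem z hES.zQ (hES.z_comm u huE).symm
  have hb := central_lemma hES hC (hHdef ▸ hN) huE hu1 huz hu2 (c := g * z * g⁻¹) (hbP z hzP)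
    (fun e he heu => hbP e (hPmem e he heu))
  have hguK : g⁻¹ * u * g ∉ K := by
    intro h
    have := (hφK _ hguH).mpr h
    rw [hgu] at this
    exact absurd this (by decide)
  have hb' : g * z * g⁻¹ = u * z := by
    rcases hb with h | h | h | h
    · exfalso
      apply hz1
      calc z = g⁻¹ * (g * z * g⁻¹) * g := by group
        _ = 1 := by rw [h]; group
    · exfalso
      apply hgH
      rw [hmemH]
      calc z * g = (g * z * g⁻¹) * g := by rw [h]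
        _ = g * z := by group
    · exfalso
      apply hguK
      have : g⁻¹ * u * g = z := by rw [← h]; group
      rw [this]; exact hzK
    · exact h
  -- now the large extraspecial theory: g⁻¹ z g ∈ E
  have hxE : g * z * g⁻¹ ∈ E := by rw [hb']; exact E.mul_mem huE hES.zQ
  have hxz : g * z * g⁻¹ ≠ z := by
    rw [hb']
    intro h
    apply hu1
    calc u = u * z * z⁻¹ := by group
      _ = 1 := by rw [h]; group
  have hz0E : g⁻¹ * z * g ∈ E := conj_inv_mem hES hC (hHdef ▸ hN) g hxE hxz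
  have hz01 : g⁻¹ * z * g ≠ 1 := by
    intro h
    apply hz1
    calc z = g * (g⁻¹ * z * g) * g⁻¹ := by group
      _ = 1 := by rw [h]; group
  have hz0z : g⁻¹ * z * g ≠ z := by
    intro h
    apply hgH
    rw [hmemH]
    calc z * g = g * (g⁻¹ * z * g) := by group
      _ = g * z := by rw [h]
  obtain ⟨x0, hx0E, y0, hy0E, hx0c, hy0c, hxy⟩ :=
    exists_noncomm_in_centralizer hES hcard hz0E hz01 hz0z
  have hxH : g * x0 * g⁻¹ ∈ H := by
    rw [hmemH]
    calc z * (g * x0 * g⁻¹) = g * ((g⁻¹ * z * g) * x0) * g⁻¹ := by group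
      _ = g * (x0 * (g⁻¹ * z * g)) * g⁻¹ := by rw [hx0c]
      _ = g * x0 * g⁻¹ * z := by group
  have hyH : g * y0 * g⁻¹ ∈ H := by
    rw [hmemH]
    calc z * (g * y0 * g⁻¹) = g * ((g⁻¹ * z * g) * y0) * g⁻¹ := by group
      _ = g * (y0 * (g⁻¹ * z * g)) * g⁻¹ := by rw [hy0c]
      _ = g * y0 * g⁻¹ * z := by group
  have h1 := hcommK _ hxH _ hyH
  have h2 : g * x0 * g⁻¹ * (g * y0 * g⁻¹) * (g * x0 * g⁻¹)⁻¹ * (g * y0 * g⁻¹)⁻¹ =
      g * (x0 * y0 * x0⁻¹ * y0⁻¹) * g⁻¹ := by group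
  rw [h2, hxy, hb'] at h1
  have h3 := (hmulH u huH z ((hmemH z).mpr rfl)).mp h1
  exact huK (h3.mpr hzK)

end Cfsg.Agent.Lib.Helper2.ExtraSp
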