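import Mathlib
import Cfsg.Agent.Lib.Helper1.LS0

/-! S5286 farm, piece P1: `sig_spec` and consequences. -/

set_option autoImplicit false
set_option linter.unusedVariables false
set_option linter.unusedSectionVars false
set_option linter.style.longLine false
set_option linter.style.haveILetI false

namespace Cfsg.Agent.Lib.Helper2.LS1aux

/-- two free actions: an injective hom `f : P →* T` from a subgroup of a finite group is realized by a permutation. -/
theorem exists_perm_of_injective {T : Type*} [Group T] [Finite T] (P : Subgroup T) (f : P →* T)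
    (hf : Function.Injective f) :
    ∃ σ : Equiv.Perm T, ∀ (x : P) (y : T), σ ((x : T) * y) = f x * σ y := by
  classical
  let Q : Subgroup T := f.range
  -- cardinalities
  have hPQ : Nat.card P = Nat.card Q := Nat.card_congr (MonoidHom.ofInjective hf).toEquiv
  have hP0 : 0 < Nat.card P := Nat.card_pos
  have h1 : Nat.card (Quotient (QuotientGroup.rightRel P)) * Nat.card P = Nat.card T := by
    rw [Nat.card_congr (QuotientGroup.quotientRightRelEquivQuotientLeftRel P)]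
    exact (Subgroup.card_eq_card_quotient_mul_card_subgroup P).symm
  have h2 : Nat.card (Quotient (QuotientGroup.rightRel Q)) * Nat.card Q = Nat.card T := by
    rw [Nat.card_congr (QuotientGroup.quotientRightRelEquivQuotientLeftRel Q)]
    exact (Subgroup.card_eq_card_quotient_mul_card_subgroup Q).symm
  have h3 : Nat.card (Quotient (QuotientGroup.rightRel P)) = Nat.card (Quotient (QuotientGroup.rightRel Q)) := by
    rw [← hPQ] at h2
    exact Nat.eq_of_mul_eq_mul_right hP0 (h1.trans h2.symm)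
  haveI : Finite (Quotient (QuotientGroup.rightRel P)) :=
    Finite.of_equiv _ (QuotientGroup.quotientRightRelEquivQuotientLeftRel P).symm
  haveI : Finite (Quotient (QuotientGroup.rightRel Q)) :=
    Finite.of_equiv _ (QuotientGroup.quotientRightRelEquivQuotientLeftRel Q).symm
  obtain ⟨β⟩ : Nonempty (Quotient (QuotientGroup.rightRel P) ≃ Quotient (QuotientGroup.rightRel Q)) :=
    (Finite.card_eq).mp h3
  -- sections
  let r1 : T → T := fun y => (Quotient.mk (QuotientGroup.rightRel P) y).out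
  let r2 : Quotient (QuotientGroup.rightRel Q) → T := fun c => c.out
  have hr1 : ∀ y : T, y * (r1 y)⁻¹ ∈ P := by
    intro y
    have h : (QuotientGroup.rightRel P) (r1 y) y := Quotient.exact (Quotient.out_eq _)
    rwa [QuotientGroup.rightRel_apply] at h
  have hr1mul : ∀ (x : P) (y : T), r1 ((x : T) * y) = r1 y := by
    intro x y
    have : (Quotient.mk (QuotientGroup.rightRel P) ((x : T) * y)) = Quotient.mk (QuotientGroup.rightRel P) y := by
      apply Quotient.sound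
      show (QuotientGroup.rightRel P) ((x : T) * y) y
      rw [QuotientGroup.rightRel_apply]
      have : y * ((x : T) * y)⁻¹ = ((x : T))⁻¹ := by group
      rw [this]
      exact P.inv_mem x.2
    show (Quotient.mk (QuotientGroup.rightRel P) ((x : T) * y)).out = (Quotient.mk (QuotientGroup.rightRel P) y).out
    rw [this]
  let s : T → T := fun y => f ⟨y * (r1 y)⁻¹, hr1 y⟩ * r2 (β (Quotient.mk (QuotientGroup.rightRel P) y))
  have hs_mul : ∀ (x : P) (y : T), s ((x : T) * y) = f x * s y := by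
    intro x y
    have hq : (Quotient.mk (QuotientGroup.rightRel P) ((x : T) * y)) = Quotient.mk (QuotientGroup.rightRel P) y := by
      apply Quotient.sound
      show (QuotientGroup.rightRel P) ((x : T) * y) y
      rw [QuotientGroup.rightRel_apply]
      have : y * ((x : T) * y)⁻¹ = ((x : T))⁻¹ := by group
      rw [this]
      exact P.inv_mem x.2
    show f ⟨(x : T) * y * (r1 ((x : T) * y))⁻¹, hr1 _⟩ * r2 (β (Quotient.mk _ ((x : T) * y))) =
      f x * (f ⟨y * (r1 y)⁻¹, hr1 y⟩ * r2 (β (Quotient.mk _ y)))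
    rw [hq, ← mul_assoc, ← map_mul]
    congr 2
    apply Subtype.ext
    show (x : T) * y * (r1 ((x : T) * y))⁻¹ = (x : T) * (y * (r1 y)⁻¹)
    rw [hr1mul, mul_assoc]
  have hs_class : ∀ y : T, Quotient.mk (QuotientGroup.rightRel Q) (s y) =
      β (Quotient.mk (QuotientGroup.rightRel P) y) := by
    intro y
    have h0 : Quotient.mk (QuotientGroup.rightRel Q) (r2 (β (Quotient.mk (QuotientGroup.rightRel P) y))) =
        β (Quotient.mk (QuotientGroup.rightRel P) y) := Quotient.out_eq _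
    rw [← h0]
    apply Quotient.sound
    show (QuotientGroup.rightRel Q) (s y) _
    rw [QuotientGroup.rightRel_apply]
    have : r2 (β (Quotient.mk (QuotientGroup.rightRel P) y)) * (s y)⁻¹ = (f ⟨y * (r1 y)⁻¹, hr1 y⟩)⁻¹ := by
      show r2 _ * (f ⟨y * (r1 y)⁻¹, hr1 y⟩ * r2 _)⁻¹ = _
      group
    rw [this]
    exact Q.inv_mem ⟨_, rfl⟩
  have hs_inj : Function.Injective s := by
    intro y y' h
    have hc : Quotient.mk (QuotientGroup.rightRel P) y = Quotient.mk (QuotientGroup.rightRel P) y' := by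
      apply β.injective
      rw [← hs_class, ← hs_class, h]
    have hr : r1 y = r1 y' := by
      show (Quotient.mk (QuotientGroup.rightRel P) y).out = (Quotient.mk (QuotientGroup.rightRel P) y').out
      rw [hc]
    have h' : f ⟨y * (r1 y)⁻¹, hr1 y⟩ * r2 (β (Quotient.mk (QuotientGroup.rightRel P) y)) =
        f ⟨y' * (r1 y')⁻¹, hr1 y'⟩ * r2 (β (Quotient.mk (QuotientGroup.rightRel P) y')) := h
    rw [hc] at h'
    have h'' := hf (mul_right_cancel h')
    have h3 : y * (r1 y)⁻¹ = y' * (r1 y')⁻¹ := congrArg Subtype.val h''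
    rw [hr] at h3
    exact mul_right_cancel h3
  have hs_bij : Function.Bijective s := Finite.injective_iff_bijective.mp hs_inj
  exact ⟨Equiv.ofBijective s hs_bij, fun x y => hs_mul x y⟩

end Cfsg.Agent.Lib.Helper2.LS1aux

namespace Cfsg.Agent.Lib.Helper1.LS

universe u

open Cfsg SemidirectProduct

variable {Ω : Type u} [Group Ω] {S : Subgroup Ω}

theorem sig_exists (F : FusionSystem S) [Finite ↥S] (i : Idx F) :
    ∃ σ : Equiv.Perm ↥S, ∀ (x : i.1) (hx : (x : Ω) ∈ S) (hφ : i.2.1 x ∈ S),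
      σ * lam S ⟨x, hx⟩ * σ⁻¹ = lam S ⟨i.2.1 x, hφ⟩ := by
  have hle := (F.le_of_mem i.2.2)
  have hinj := F.injective_of_mem i.2.2
  let P' : Subgroup ↥S := (i.1).subgroupOf S
  let f : P' →* ↥S :=
    { toFun := fun x => ⟨i.2.1 ⟨(x : ↥S), x.2⟩, hle.2 _⟩
      map_one' := by
        apply Subtype.ext
        show i.2.1 ⟨((1 : P') : ↥S), _⟩ = ((1 : ↥S) : Ω)
        have : (⟨(((1 : P') : ↥S) : Ω), (1 : P').2⟩ : i.1) = 1 := rfl
        rw [this, map_one]; rfl
      map_mul' := by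
        intro a b
        apply Subtype.ext
        show i.2.1 ⟨(((a * b : P') : ↥S) : Ω), _⟩ = i.2.1 ⟨((a : ↥S) : Ω), a.2⟩ * i.2.1 ⟨((b : ↥S) : Ω), b.2⟩
        rw [← map_mul]; rfl }
  have hf : Function.Injective f := by
    intro a b h
    have h1 : i.2.1 ⟨((a : ↥S) : Ω), a.2⟩ = i.2.1 ⟨((b : ↥S) : Ω), b.2⟩ := congrArg Subtype.val h
    have h2 := hinj h1
    have h3 : (((a : ↥S)) : Ω) = ((b : ↥S) : Ω) := by
      have := congrArg (fun z : i.1 => (z : Ω)) h2
      exact this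
    exact Subtype.ext (Subtype.ext h3)
  obtain ⟨σ, hσ⟩ := Cfsg.Agent.Lib.Helper2.LS1aux.exists_perm_of_injective P' f hf
  refine ⟨σ, ?_⟩
  intro x hx hφ
  ext y
  have hxP : (⟨(x : Ω), hx⟩ : ↥S) ∈ P' := by
    show ((⟨(x : Ω), hx⟩ : ↥S) : Ω) ∈ i.1
    exact x.2
  have := hσ ⟨⟨(x : Ω), hx⟩, hxP⟩ (σ⁻¹ y)
  have e1 : (σ * lam S ⟨x, hx⟩ * σ⁻¹) y = σ ((⟨(x : Ω), hx⟩ : ↥S) * σ⁻¹ y) := rfl
  rw [e1, this]
  have e2 : σ (σ⁻¹ y) = y := by simp
  rw [e2]
  rfl

theorem sig_spec (F : FusionSystem S) [Finite ↥S] (i : Idx F) (x : i.1) (hx : (x : Ω) ∈ S) (hφ : i.2.1 x ∈ S) :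
    sig F i * lam S ⟨x, hx⟩ * (sig F i)⁻¹ = lam S ⟨i.2.1 x, hφ⟩ := by
  have h := sig_exists F i
  unfold sig
  rw [dif_pos h]
  exact h.choose_spec x hx hφ

theorem lam_mem_Lam_iff (F : FusionSystem S) (i : Idx F) (s : ↥S) : lam S s ∈ Lam F i ↔ (s : Ω) ∈ i.1 := by
  unfold Lam
  rw [Subgroup.mem_map_iff_mem lam_injective, Subgroup.mem_subgroupOf]

theorem tt_conj (F : FusionSystem S) [Finite ↥S] (i : Idx F) (x : i.1) (hx : (x : Ω) ∈ S) (hφ : i.2.1 x ∈ S) :
    tt F i * emb F ⟨x, hx⟩ * (tt F i)⁻¹ = emb F ⟨i.2.1 x, hφ⟩ := by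
  have hspec := sig_spec F i x hx hφ
  have hxL : lam S ⟨x, hx⟩ ∈ Lam F i := (lam_mem_Lam_iff F i ⟨x, hx⟩).mpr x.2
  -- the letter `x0` is fixed by `lam x`
  have hfix : psi F (lam S ⟨x, hx⟩) (FreeGroup.of (x0 F i)) = FreeGroup.of (x0 F i) := by
    rw [psi_of]
    congr 1
    show (⟨i, (lam S ⟨x, hx⟩) • (QuotientGroup.mk 1 : Equiv.Perm ↥S ⧸ Lam F i)⟩ : X F) = ⟨i, QuotientGroup.mk 1⟩
    congr 1
    show (QuotientGroup.mk (lam S ⟨x, hx⟩ * 1) : Equiv.Perm ↥S ⧸ Lam F i) = QuotientGroup.mk 1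
    rw [mul_one]
    rw [QuotientGroup.eq, mul_one]
    exact (Lam F i).inv_mem hxL
  have hcomm : (inl (FreeGroup.of (x0 F i)) : GS F) * inr (lam S ⟨x, hx⟩) =
      inr (lam S ⟨x, hx⟩) * inl (FreeGroup.of (x0 F i)) := by
    have := SemidirectProduct.inl_aut (φ := psi F) (lam S ⟨x, hx⟩) (FreeGroup.of (x0 F i))
    rw [hfix] at this
    conv_lhs => rw [this]
    rw [map_inv]
    group
  have hemb : emb F ⟨x, hx⟩ = (inr (lam S ⟨x, hx⟩) : GS F) := rfl
  have hemb' : emb F ⟨i.2.1 x, hφ⟩ = (inr (lam S ⟨i.2.1 x, hφ⟩) : GS F) := rfl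
  rw [hemb, hemb', ← hspec]
  unfold tt
  rw [mul_inv_rev, mul_assoc (inr (sig F i)), hcomm]
  simp only [map_mul, map_inv, mul_assoc]
  simp

theorem sig_conj_mem_Lam_iff (F : FusionSystem S) [Finite ↥S] (i : Idx F) (s : ↥S) :
    (sig F i)⁻¹ * lam S s * sig F i ∈ Lam F i ↔ ∃ x : i.1, i.2.1 x = (s : Ω) := by
  have hle := (F.le_of_mem i.2.2)
  constructor
  · intro h
    obtain ⟨y, hy, hye⟩ := h
    -- y ∈ P', lam y = sig⁻¹ lam s sig
    have hyP : ((y : ↥S) : Ω) ∈ i.1 := hy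
    refine ⟨⟨(y : Ω), hyP⟩, ?_⟩
    have hspec := sig_spec F i ⟨(y : Ω), hyP⟩ y.2 (hle.2 _)
    have hy2 : lam S ⟨((⟨(y : Ω), hyP⟩ : i.1) : Ω), y.2⟩ = lam S y := rfl
    rw [hy2, hye] at hspec
    have h3 : lam S s = lam S ⟨i.2.1 ⟨(y : Ω), hyP⟩, hle.2 _⟩ := by
      rw [← hspec]; group
    have h4 := lam_injective h3
    exact (congrArg Subtype.val h4).symm
  · rintro ⟨x, hx⟩
    have hxS : (x : Ω) ∈ S := hle.1 x.2
    have hφ : i.2.1 x ∈ S := hle.2 x
    have hspec := sig_spec F i x hxS hφ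
    have hs : s = ⟨i.2.1 x, hφ⟩ := Subtype.ext hx.symm
    rw [hs, ← hspec]
    have : (sig F i)⁻¹ * (sig F i * lam S ⟨x, hxS⟩ * (sig F i)⁻¹) * sig F i = lam S ⟨x, hxS⟩ := by group
    rw [this]
    exact (lam_mem_Lam_iff F i ⟨x, hxS⟩).mpr x.2

end Cfsg.Agent.Lib.Helper1.LS
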