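import Mathlib
import Cfsg.Prelude
import Cfsg.Agent.Lib.Helper9.AOF6
import Cfsg.Agent.Lib.Helper5.IsoTools
import Cfsg.Agent.Lib.Helper2.Lbf1

set_option autoImplicit false
set_option linter.unusedSectionVars false
set_option linter.unusedVariables false
open Cfsg

/-!
# Base change of orthogonal groups along a subfield, and the fixed points of a field
automorphism of `PΩ(Q)`
-/

namespace Cfsg.Agent.Lib.Helper2.Lbf

open Matrix QuadraticMap Cfsg.Agent.Lib.Helper5.CartanDieudonne Cfsg.Agent.Lib.Helper5.Refl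
  Cfsg.Agent.Lib.Helper5.OrthCard Cfsg.Agent.Lib.Helper5.Siegel
  Cfsg.Agent.Lib.Helper5.OmegaSimple Cfsg.Agent.Lib.Helper5.SpinorHyp
  Cfsg.Agent.Lib.Helper5.OAut
  Cfsg.Agent.Lib.Helper9.AOR Cfsg.Agent.Lib.Helper9.AOF Cfsg.Agent.Lib.Helper9.ASP

variable {ι : Type} [Fintype ι] [DecidableEq ι] {F : Type*} [Field F] [Fintype F]
  {F₀ : Type*} [Field F₀] (j : F₀ →+* F)
  {Q : QuadraticForm F (ι → F)} (Q₀ : QuadraticForm F₀ (ι → F₀))

section basechange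

theorem glmap_mem_iso_iff (hbc : ∀ v₀, Q (hm j v₀) = j (Q₀ v₀))
    (g₀ : Matrix.GeneralLinearGroup ι F₀) :
    g₀ ∈ isometryGroup F₀ ⇑Q₀ ↔
      Matrix.GeneralLinearGroup.map j g₀ ∈ isometryGroup F ⇑Q := by
  rw [mem_isometryGroup_iff, mem_isometryGroup_iff]
  constructor
  · intro h
    have e := quad_ext_rational j
      (Q.comp (Matrix.toLin' ((Matrix.GeneralLinearGroup.map j g₀ :
        Matrix.GeneralLinearGroup ι F) : Matrix ι ι F))) Q (by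
        intro v₀
        rw [QuadraticMap.comp_apply, Matrix.toLin'_apply, glmapI_coe, ← hm_mulVec, hbc, h, hbc])
    intro v
    have e1 := congrArg (fun B : QuadraticForm F (ι → F) => B v) e
    simp only [QuadraticMap.comp_apply, Matrix.toLin'_apply] at e1
    exact e1
  · intro h v₀
    apply j.injective
    rw [← hbc, hm_mulVec, ← glmapI_coe, h, hbc]

variable (hbc : ∀ v₀, Q (hm j v₀) = j (Q₀ v₀))

/-- base change on the isometry groups -/
noncomputable def JO : ↥(isometryGroup F₀ ⇑Q₀) →* ↥(isometryGroup F ⇑Q) :=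
  ((Matrix.GeneralLinearGroup.map j).comp (isometryGroup F₀ ⇑Q₀).subtype).codRestrict _
    (fun s₀ => (glmap_mem_iso_iff j Q₀ hbc s₀.1).mp s₀.2)

theorem JO_coe (s₀ : ↥(isometryGroup F₀ ⇑Q₀)) :
    ((JO j Q₀ hbc s₀ : ↥(isometryGroup F ⇑Q)) : Matrix.GeneralLinearGroup ι F) =
      Matrix.GeneralLinearGroup.map j s₀.1 := rfl

theorem JO_injective : Function.Injective (JO j Q₀ hbc) := by
  intro a b hab
  have h1 : Matrix.GeneralLinearGroup.map j a.1 = Matrix.GeneralLinearGroup.map j b.1 :=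
    congrArg Subtype.val hab
  apply Subtype.ext
  apply Units.ext
  ext i k
  have h3 := congrArg (fun m : Matrix.GeneralLinearGroup ι F => (m : Matrix ι ι F) i k) h1
  simp only [Matrix.GeneralLinearGroup.map_apply] at h3
  exact j.injective h3

theorem JO_mem_Omega (s₀ : ↥(isometryGroup F₀ ⇑Q₀)) (hs₀ : s₀ ∈ Omega F₀ ⇑Q₀) :
    JO j Q₀ hbc s₀ ∈ Omega F ⇑Q := by
  have h1 : (Omega F₀ ⇑Q₀).map (JO j Q₀ hbc) ≤ Omega F ⇑Q := by
    show (commutator _).map _ ≤ commutator _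
    rw [commutator_def, commutator_def, Subgroup.map_commutator]
    exact Subgroup.commutator_mono le_top le_top
  exact h1 ⟨s₀, hs₀, rfl⟩

/-- base change on `Ω` -/
noncomputable def JΩ : ↥(Omega F₀ ⇑Q₀) →* ↥(Omega F ⇑Q) :=
  ((JO j Q₀ hbc).comp (Omega F₀ ⇑Q₀).subtype).codRestrict _
    (fun s₀ => JO_mem_Omega j Q₀ hbc s₀.1 s₀.2)

theorem JΩ_coe (s₀ : ↥(Omega F₀ ⇑Q₀)) :
    ((JΩ j Q₀ hbc s₀ : ↥(Omega F ⇑Q)) : ↥(isometryGroup F ⇑Q)) = JO j Q₀ hbc s₀.1 := rfl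

theorem JΩ_injective : Function.Injective (JΩ j Q₀ hbc) := by
  intro a b hab
  have h1 : JO j Q₀ hbc a.1 = JO j Q₀ hbc b.1 := congrArg Subtype.val hab
  exact Subtype.ext (JO_injective j Q₀ hbc h1)

/-- `Ω(Q₀) → PΩ(Q)` -/
noncomputable def Lam : ↥(Omega F₀ ⇑Q₀) →* POmega F ⇑Q := (pr Q).comp (JΩ j Q₀ hbc)

theorem Lam_apply (s₀ : ↥(Omega F₀ ⇑Q₀)) : Lam j Q₀ hbc s₀ = pr Q (JΩ j Q₀ hbc s₀) := rfl

end basechange

section prinj

theorem pr_injective_of_center (hZ : Subgroup.center ↥(Omega F ⇑Q) = ⊥) :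
    Function.Injective (pr Q) := by
  rw [injective_iff_map_eq_one]
  intro a ha
  have h1 : a ∈ Subgroup.center ↥(Omega F ⇑Q) := (QuotientGroup.eq_one_iff a).mp ha
  rw [hZ] at h1
  exact Subgroup.mem_bot.mp h1

theorem semiAut_pr_eq_iff (hZ : Subgroup.center ↥(Omega F ⇑Q) = ⊥)
    (g : Matrix.GeneralLinearGroup ι F) (σ : RingAut F) (c : F)
    (hg : ∀ v, Q (sm g σ v) = c * σ (Q v)) (s s' : ↥(Omega F ⇑Q)) :
    semiAut g σ c hg (pr Q s) = pr Q s' ↔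
      g * sGI σ ((s : ↥(isometryGroup F ⇑Q)) : Matrix.GeneralLinearGroup ι F) * g⁻¹ =
        ((s' : ↥(isometryGroup F ⇑Q)) : Matrix.GeneralLinearGroup ι F) := by
  rw [semiAut_pr]
  constructor
  · intro h
    have h1 := pr_injective_of_center hZ h
    have h2 := congrArg (fun t : ↥(Omega F ⇑Q) =>
      ((t : ↥(isometryGroup F ⇑Q)) : Matrix.GeneralLinearGroup ι F)) h1
    exact h2
  · intro h
    congr 1
    apply Subtype.ext
    apply Subtype.ext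
    exact h

end prinj

section fixdesc
variable (hbc : ∀ v₀, Q (hm j v₀) = j (Q₀ v₀))

theorem fix_fO_desc (hZ : Subgroup.center ↥(Omega F ⇑Q) = ⊥) (σ : RingAut F)
    (hσQ : ∀ v, Q (vm σ v) = σ (Q v)) (hι : ∀ a : F, σ a = a ↔ a ∈ Set.range j)
    (y : POmega F ⇑Q) (hy : y ∈ fixS (fO σ hσQ)) :
    ∃ (s₀ : ↥(isometryGroup F₀ ⇑Q₀)) (h : JO j Q₀ hbc s₀ ∈ Omega F ⇑Q),
      y = pr Q ⟨JO j Q₀ hbc s₀, h⟩ := by
  obtain ⟨s, rfl⟩ := pr_surjective (Q := Q) y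
  rw [mem_fixS] at hy
  have h1 : (1 : Matrix.GeneralLinearGroup ι F) *
      sGI σ ((s : ↥(isometryGroup F ⇑Q)) : Matrix.GeneralLinearGroup ι F) *
      (1 : Matrix.GeneralLinearGroup ι F)⁻¹ =
      ((s : ↥(isometryGroup F ⇑Q)) : Matrix.GeneralLinearGroup ι F) :=
    (semiAut_pr_eq_iff hZ 1 σ 1 _ s s).mp hy
  rw [one_mul, inv_one, mul_one] at h1
  obtain ⟨g₀, hg₀⟩ := exists_glmapI_eq σ j hι _ h1
  have hg₀m : g₀ ∈ isometryGroup F₀ ⇑Q₀ :=
    (glmap_mem_iso_iff j Q₀ hbc g₀).mpr (by rw [hg₀]; exact s.1.2)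
  have e : JO j Q₀ hbc ⟨g₀, hg₀m⟩ = s.1 := Subtype.ext hg₀
  refine ⟨⟨g₀, hg₀m⟩, by rw [e]; exact s.2, ?_⟩
  congr 1
  apply Subtype.ext
  exact e.symm

theorem Lam_range_le_fix (σ : RingAut F) (hσQ : ∀ v, Q (vm σ v) = σ (Q v))
    (hι' : ∀ b, σ (j b) = j b) : (Lam j Q₀ hbc).range ≤ fixS (fO σ hσQ) := by
  rintro _ ⟨s₀, rfl⟩
  rw [mem_fixS, Lam_apply]
  have h := semiAut_induced (Q := Q) 1 σ 1 (fun v => by
    unfold sm
    rw [Units.val_one, Matrix.one_mulVec, one_mul]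
    exact hσQ v)
  apply h
  rw [Units.val_one, inv_one, Units.val_one, Matrix.one_mul, Matrix.mul_one]
  have h2 := sGI_glmap σ j hι' (s₀.1.1)
  have h3 := congrArg (fun g : Matrix.GeneralLinearGroup ι F => (g : Matrix ι ι F)) h2
  simp only [sGI_coe] at h3
  exact h3.symm

end fixdesc

end Cfsg.Agent.Lib.Helper2.Lbf
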