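import Mathlib
import Cfsg.Prelude
import Cfsg.Agent.Lib.Helper2.Lbf2
import Cfsg.Agent.Lib.Helper2.Lbf3

set_option autoImplicit false
set_option linter.unusedSectionVars false
set_option linter.unusedVariables false
open Cfsg

/-!
# The fixed points of a field automorphism of `PΩ(Q)`: derived subgroup, and the automorphisms
fixing it pointwise
-/

namespace Cfsg.Agent.Lib.Helper2.Lbf

open scoped commutatorElement
open Matrix QuadraticMap Cfsg.Agent.Lib.Helper5.CartanDieudonne Cfsg.Agent.Lib.Helper5.Refl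
  Cfsg.Agent.Lib.Helper5.OrthCard Cfsg.Agent.Lib.Helper5.Siegel
  Cfsg.Agent.Lib.Helper5.OmegaSimple Cfsg.Agent.Lib.Helper5.SpinorHyp
  Cfsg.Agent.Lib.Helper5.SiegelComm
  Cfsg.Agent.Lib.Helper5.OAut
  Cfsg.Agent.Lib.Helper9.AOR Cfsg.Agent.Lib.Helper9.AOF Cfsg.Agent.Lib.Helper9.ASP

variable {ι : Type} [Fintype ι] [DecidableEq ι] {F : Type*} [Field F] [Fintype F]
  {F₀ : Type*} [Field F₀] (j : F₀ →+* F)
  {Q : QuadraticForm F (ι → F)} (Q₀ : QuadraticForm F₀ (ι → F₀))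

section derived
variable (hbc : ∀ v₀, Q (hm j v₀) = j (Q₀ v₀))

theorem dfix_fO_eq (hZ : Subgroup.center ↥(Omega F ⇑Q) = ⊥) (σ : RingAut F)
    (hσQ : ∀ v, Q (vm σ v) = σ (Q v)) (hι : ∀ a : F, σ a = a ↔ a ∈ Set.range j)
    (hperf₀ : commutator ↥(Omega F₀ ⇑Q₀) = ⊤) :
    dfixS (fO σ hσQ) = (Lam j Q₀ hbc).range := by
  have hι' : ∀ b, σ (j b) = j b := fun b => (hι _).mpr ⟨b, rfl⟩
  apply le_antisymm
  · rw [Subgroup.commutator_le]
    intro y₁ hy₁ y₂ hy₂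
    obtain ⟨t₁, h₁, rfl⟩ := fix_fO_desc j Q₀ hbc hZ σ hσQ hι y₁ hy₁
    obtain ⟨t₂, h₂, rfl⟩ := fix_fO_desc j Q₀ hbc hZ σ hσQ hι y₂ hy₂
    refine ⟨⟨⁅t₁, t₂⁆, Subgroup.commutator_mem_commutator (Subgroup.mem_top _)
      (Subgroup.mem_top _)⟩, ?_⟩
    rw [Lam_apply, ← map_commutatorElement]
    congr 1
    apply Subtype.ext
    rw [JΩ_coe]
    show JO j Q₀ hbc ⁅t₁, t₂⁆ = ⁅JO j Q₀ hbc t₁, JO j Q₀ hbc t₂⁆
    rw [map_commutatorElement]
  · have h1 : (Lam j Q₀ hbc).range = ⁅(Lam j Q₀ hbc).range, (Lam j Q₀ hbc).range⁆ := by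
      conv_lhs => rw [MonoidHom.range_eq_map, ← hperf₀, commutator_def, Subgroup.map_commutator,
        ← MonoidHom.range_eq_map]
    rw [h1]
    exact Subgroup.commutator_mono (Lam_range_le_fix j Q₀ hbc σ hσQ hι')
      (Lam_range_le_fix j Q₀ hbc σ hσQ hι')

theorem Lam_injective (hZ : Subgroup.center ↥(Omega F ⇑Q) = ⊥) :
    Function.Injective (Lam j Q₀ hbc) :=
  (pr_injective_of_center hZ).comp (JΩ_injective j Q₀ hbc)

theorem simple_Lam_range (hZ : Subgroup.center ↥(Omega F ⇑Q) = ⊥)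
    (hZ₀ : Subgroup.center ↥(Omega F₀ ⇑Q₀) = ⊥) (hS₀ : IsSimpleGroup (POmega F₀ ⇑Q₀)) :
    IsSimpleGroup ↥(Lam j Q₀ hbc).range := by
  have e1 : ↥(Omega F₀ ⇑Q₀) ≃* ↥(Lam j Q₀ hbc).range :=
    MonoidHom.ofInjective (Lam_injective j Q₀ hbc hZ)
  have e2 : POmega F₀ ⇑Q₀ ≃* ↥(Omega F₀ ⇑Q₀) :=
    Cfsg.Agent.Lib.Helper5.IsoTools.quotCenterOfBot hZ₀
  have := hS₀
  exact (e1.symm.trans e2.symm).isSimpleGroup

theorem card_Lam_range (hZ : Subgroup.center ↥(Omega F ⇑Q) = ⊥) :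
    Nat.card ↥(Lam j Q₀ hbc).range = Nat.card ↥(Omega F₀ ⇑Q₀) :=
  Nat.card_congr (MonoidHom.ofInjective (Lam_injective j Q₀ hbc hZ)).symm.toEquiv

theorem dvd_Lam_range (hZ : Subgroup.center ↥(Omega F ⇑Q) = ⊥) (σ : RingAut F)
    (hσQ : ∀ v, Q (vm σ v) = σ (Q v)) (hι : ∀ a : F, σ a = a ↔ a ∈ Set.range j)
    {p : ℕ} (hp : p.Prime)
    (hidx : (commutator ↥(isometryGroup F₀ ⇑Q₀)).index = 4)
    (h2dvd : 2 ∣ Nat.card ↥(Omega F₀ ⇑Q₀))
    (hd : p ∣ Nat.card ↥(fixS (fO σ hσQ))) : p ∣ Nat.card ↥(Lam j Q₀ hbc).range := by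
  rw [card_Lam_range j Q₀ hbc hZ]
  set T : Subgroup ↥(isometryGroup F₀ ⇑Q₀) := (Omega F ⇑Q).comap (JO j Q₀ hbc) with hT
  let Ψ : ↥T →* POmega F ⇑Q :=
    (pr Q).comp (((JO j Q₀ hbc).comp T.subtype).codRestrict (Omega F ⇑Q) (fun t => t.2))
  have hle : fixS (fO σ hσQ) ≤ Ψ.range := by
    intro y hy
    obtain ⟨s₀, h, rfl⟩ := fix_fO_desc j Q₀ hbc hZ σ hσQ hι y hy
    exact ⟨⟨s₀, h⟩, rfl⟩
  have h1 : Nat.card ↥(fixS (fO σ hσQ)) ∣ Nat.card ↥(isometryGroup F₀ ⇑Q₀) :=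
    (Subgroup.card_dvd_of_le hle).trans ((Subgroup.card_range_dvd Ψ).trans
      (Subgroup.card_subgroup_dvd_card T))
  have h2 := (commutator ↥(isometryGroup F₀ ⇑Q₀)).card_mul_index
  rw [hidx] at h2
  have h3 : p ∣ Nat.card ↥(Omega F₀ ⇑Q₀) * 4 := by
    have h4 : Nat.card ↥(commutator ↥(isometryGroup F₀ ⇑Q₀)) = Nat.card ↥(Omega F₀ ⇑Q₀) := rfl
    rw [← h4, h2]
    exact hd.trans h1
  rcases (Nat.Prime.dvd_mul hp).mp h3 with h5 | h5
  · exact h5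
  · have h6 : p ∣ 2 * 2 := h5
    have h7 : p ∣ 2 := by
      rcases (Nat.Prime.dvd_mul hp).mp h6 with h | h <;> exact h
    have h8 : p = 2 := (Nat.prime_dvd_prime_iff_eq hp Nat.prime_two).mp h7
    rw [h8]
    exact h2dvd

end derived

section siegelmaps

omit [Fintype ι] [DecidableEq ι] [Fintype F] in
theorem vm_sub' (τ : RingAut F) (u v : ι → F) : vm τ (u - v) = vm τ u - vm τ v := by
  ext i; simp [vm]

omit [Fintype ι] [Fintype F] in
theorem vm_single' (τ : RingAut F) (k : ι) : vm τ (Pi.single k (1 : F)) = Pi.single k 1 := by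
  ext i
  unfold vm
  by_cases h : i = k
  · subst h; simp
  · rw [Pi.single_eq_of_ne h, map_zero]

omit [Fintype ι] [DecidableEq ι] in
theorem hm_sub' (u v : ι → F₀) : hm j (u - v) = hm j u - hm j v := by
  ext i
  exact map_sub j _ _

omit [Fintype ι] [DecidableEq ι] [Fintype F] in
theorem polar_vm (τ : RingAut F) (hτQ : ∀ v, Q (vm τ v) = τ (Q v)) (u y : ι → F) :
    polar ⇑Q (vm τ u) (vm τ y) = τ (polar ⇑Q u y) := by
  unfold polar
  rw [← vm_add, hτQ, hτQ, hτQ, map_sub, map_sub]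

omit [Fintype F] in
theorem siegelMatrix_vm (τ : RingAut F) (hτQ : ∀ v, Q (vm τ v) = τ (Q v)) (u v : ι → F) (c : F) :
    (siegelMatrix ⇑Q u v c).map τ = siegelMatrix ⇑Q (vm τ u) (vm τ v) (τ c) := by
  rw [Matrix.ext_iff_mulVec]
  intro x
  obtain ⟨y, rfl⟩ : ∃ y, x = vm τ y := ⟨vm (τ : F ≃+* F).symm x, (vm_symm' τ x).symm⟩
  rw [← vm_mulVec, siegelMatrix_mulVec, siegelMatrix_mulVec, vm_sub', vm_add, vm_smul, vm_smul,
    map_mul, map_mul, polar_vm τ hτQ, polar_vm τ hτQ]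

theorem siegelMatrix_hm (hbc : ∀ v₀, Q (hm j v₀) = j (Q₀ v₀)) (u₀ v₀ : ι → F₀) (c₀ : F₀) :
    (siegelMatrix ⇑Q₀ u₀ v₀ c₀).map j = siegelMatrix ⇑Q (hm j u₀) (hm j v₀) (j c₀) := by
  apply matrix_ext_rational j
  intro x₀
  rw [← hm_mulVec, siegelMatrix_mulVec, siegelMatrix_mulVec, polar_hm j Q₀ hbc,
    polar_hm j Q₀ hbc, hm_sub', hm_add, hm_smul, hm_smul, map_mul, map_mul]

end siegelmaps

section fieldhom

/-- the standard field automorphisms, as a homomorphism (for a form defined over the prime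
field) -/
noncomputable def fOh (hQfield : ∀ (τ : RingAut F) (v : ι → F), Q (vm τ v) = τ (Q v)) :
    RingAut F →* MulAut (POmega F ⇑Q) where
  toFun τ := fO τ (hQfield τ)
  map_one' := by
    unfold fO
    exact semiAut_one _
  map_mul' σ τ := by
    unfold fO
    rw [semiAut_mul]
    apply semiAut_congr
    · rw [map_one, mul_one]
    · rfl
    · rw [map_one, mul_one]

theorem fOh_apply (hQfield : ∀ (τ : RingAut F) (v : ι → F), Q (vm τ v) = τ (Q v))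
    (τ : RingAut F) : fOh hQfield τ = fO τ (hQfield τ) := rfl

end fieldhom

section galois
open Cfsg.Agent.Lib.Helper9.APSL (finite_ringAut mem_fixed_subfield)

omit [Fintype F] in
theorem mem_zpowers_of_fixes [Finite F] (σ τ : RingAut F) (h : ∀ a, σ a = a → τ a = a) :
    τ ∈ Subgroup.zpowers σ := by
  haveI : Finite (RingAut F) := finite_ringAut
  let f : F →ₐ[FixedPoints.subfield (Subgroup.zpowers σ) F] F :=
    { (τ : F →+* F) with
      commutes' := fun a => h _ ((mem_fixed_subfield σ (a : F)).mp a.2) }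
  obtain ⟨g, hg⟩ := (FixedPoints.toAlgHom_bijective (Subgroup.zpowers σ) F).2 f
  have h1 : (g : RingAut F) = τ := by
    ext a
    have h2 := congrArg (fun e : F →ₐ[FixedPoints.subfield (Subgroup.zpowers σ) F] F => e a) hg
    exact h2
  rw [← h1]
  exact g.2

end galois

end Cfsg.Agent.Lib.Helper2.Lbf
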