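import Mathlib
import Cfsg.Prelude
import Cfsg.Agent.Lib.Helper2.Lbf4

set_option autoImplicit false
set_option linter.unusedSectionVars false
set_option linter.unusedVariables false
open Cfsg

/-!
# Automorphisms of `PΩ(Q)` fixing the rational subgroup pointwise
-/

namespace Cfsg.Agent.Lib.Helper2.Lbf

open scoped commutatorElement
open Matrix QuadraticMap Cfsg.Agent.Lib.Helper5.CartanDieudonne Cfsg.Agent.Lib.Helper5.Refl
  Cfsg.Agent.Lib.Helper5.OrthCard Cfsg.Agent.Lib.Helper5.Siegel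
  Cfsg.Agent.Lib.Helper5.OmegaSimple Cfsg.Agent.Lib.Helper5.SpinorHyp
  Cfsg.Agent.Lib.Helper5.SiegelComm
  Cfsg.Agent.Lib.Helper5.OAut
  Cfsg.Agent.Lib.Helper9.AOR Cfsg.Agent.Lib.Helper9.AOF Cfsg.Agent.Lib.Helper9.ASP

variable {ι : Type} [Fintype ι] [DecidableEq ι] {F : Type*} [Field F] [Fintype F]
  {F₀ : Type*} [Field F₀] (j : F₀ →+* F)
  {Q : QuadraticForm F (ι → F)} (Q₀ : QuadraticForm F₀ (ι → F₀))

section cent
variable (hbc : ∀ v₀, Q (hm j v₀) = j (Q₀ v₀))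
variable {i : ℕ} {α β : Fin i → ι} {i₀ : ℕ} {α₀ β₀ : Fin i₀ → ι}

theorem JΩ_coe_coe (s₀ : ↥(Omega F₀ ⇑Q₀)) :
    (((JΩ j Q₀ hbc s₀ : ↥(Omega F ⇑Q)) : ↥(isometryGroup F ⇑Q)) :
      Matrix.GeneralLinearGroup ι F) = Matrix.GeneralLinearGroup.map j s₀.1.1 := rfl

theorem cent_fO [Fintype F₀] (hγ : gammaPOmega F ⇑Q = ⊤)
    (hZ : Subgroup.center ↥(Omega F ⇑Q) = ⊥)
    (hfam : IsHypFamily Q α β) (hi : 2 ≤ i)
    (hQ₀ : (polarBilin Q₀).Nondegenerate) (hfam₀ : IsHypFamily Q₀ α₀ β₀) (hi₀ : 3 ≤ i₀)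
    {w₀ : ι → F} (hw₀ : Q w₀ = 1)
    (hQfield : ∀ (τ : RingAut F) (v : ι → F), Q (vm τ v) = τ (Q v))
    (σ : RingAut F) (hι : ∀ a : F, σ a = a ↔ a ∈ Set.range j)
    (β' : MulAut (POmega F ⇑Q)) (hβ : ∀ y ∈ (Lam j Q₀ hbc).range, β' y = y) :
    β' ∈ Subgroup.zpowers (fO σ (hQfield σ)) := by
  obtain ⟨τ, g, c, hc, hg, rfl⟩ := SR_total hγ β'
  have hE : ∀ s₀ : ↥(Omega F₀ ⇑Q₀),
      g * sGI τ (Matrix.GeneralLinearGroup.map j s₀.1.1) * g⁻¹ =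
        Matrix.GeneralLinearGroup.map j s₀.1.1 := by
    intro s₀
    have h1 := hβ _ ⟨s₀, rfl⟩
    rw [Lam_apply] at h1
    have h2 := (semiAut_pr_eq_iff hZ g τ c hg (JΩ j Q₀ hbc s₀) (JΩ j Q₀ hbc s₀)).mp h1
    rw [JΩ_coe_coe] at h2
    exact h2
  have hgsim : ∀ v, Q ((g : Matrix ι ι F) *ᵥ v) = c * Q v := by
    intro v
    have h1 := hg (vm (τ : F ≃+* F).symm v)
    unfold sm at h1
    rw [vm_symm', ← hQfield τ, vm_symm'] at h1
    exact h1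
  have hpol : ∀ x y, polar ⇑Q ((g : Matrix ι ι F) *ᵥ x) ((g : Matrix ι ι F) *ᵥ y) =
      c * polar ⇑Q x y := by
    intro x y
    unfold polar
    rw [← Matrix.mulVec_add, hgsim, hgsim, hgsim]
    ring
  -- step 1: `g` is scalar
  have hscal : ∃ a : F, a * a = c ∧ (g : Matrix ι ι F) = a • 1 := by
    apply scalar_of_commute_siegelMatrixP hfam hi (g : Matrix ι ι F)
      (fun u => (∃ u₀, u = hm j u₀) ∧ vm τ u = u) ?_ ?_ ?_ ?_ ?_ c hc hpol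
    · intro k
      exact ⟨⟨Pi.single k 1, (hm_single j k).symm⟩, vm_single' τ k⟩
    · rintro u v ⟨⟨u₀, rfl⟩, hu⟩ ⟨⟨v₀, rfl⟩, hv⟩
      exact ⟨⟨u₀ + v₀, (hm_add j u₀ v₀).symm⟩, by rw [vm_add, hu, hv]⟩
    · rintro u v ⟨⟨u₀, rfl⟩, hu⟩ ⟨⟨v₀, rfl⟩, hv⟩
      exact ⟨⟨u₀ - v₀, (hm_sub' j u₀ v₀).symm⟩, by rw [vm_sub', hu, hv]⟩
    · intro ρ k
      refine ⟨⟨Q₀ (Pi.single ρ 1) • Pi.single k 1, ?_⟩, ?_⟩
      · rw [hm_smul, hm_single, ← hbc, hm_single]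
      · rw [vm_smul, vm_single', ← hQfield τ, vm_single']
    · rintro u v ⟨⟨u₀, rfl⟩, hu⟩ ⟨⟨v₀, rfl⟩, hv⟩ hQu hQv huv
      have hQu₀ : Q₀ u₀ = 0 := j.injective (by rw [← hbc, hQu, map_zero])
      have hQv₀ : Q₀ v₀ = 0 := j.injective (by rw [← hbc, hQv, map_zero])
      have huv₀ : polar ⇑Q₀ u₀ v₀ = 0 :=
        j.injective (by rw [← polar_hm j Q₀ hbc, huv, map_zero])
      have hmem := siegel_mem_commutator hQ₀ hfam₀ hi₀ u₀ v₀ hQu₀ hQv₀ huv₀ 1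
      have h1 := hE ⟨siegel Q₀ u₀ v₀ hQu₀ hQv₀ huv₀ 1, hmem⟩
      have hS' : ((Matrix.GeneralLinearGroup.map j
          ((siegel Q₀ u₀ v₀ hQu₀ hQv₀ huv₀ 1 : ↥(isometryGroup F₀ ⇑Q₀)) :
            Matrix.GeneralLinearGroup ι F₀) : Matrix.GeneralLinearGroup ι F) : Matrix ι ι F) =
          siegelMatrix ⇑Q (hm j u₀) (hm j v₀) 1 := by
        rw [glmapI_coe, siegel_coe, siegelMatrix_hm j Q₀ hbc, map_one]
      have hS : ((sGI τ (Matrix.GeneralLinearGroup.map j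
          ((siegel Q₀ u₀ v₀ hQu₀ hQv₀ huv₀ 1 : ↥(isometryGroup F₀ ⇑Q₀)) :
            Matrix.GeneralLinearGroup ι F₀)) : Matrix.GeneralLinearGroup ι F) : Matrix ι ι F) =
          siegelMatrix ⇑Q (hm j u₀) (hm j v₀) 1 := by
        rw [sGI_coe, hS', siegelMatrix_vm τ (hQfield τ), hu, hv, map_one]
      have h2 : g * sGI τ (Matrix.GeneralLinearGroup.map j
          ((siegel Q₀ u₀ v₀ hQu₀ hQv₀ huv₀ 1 : ↥(isometryGroup F₀ ⇑Q₀)) :
            Matrix.GeneralLinearGroup ι F₀)) =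
          Matrix.GeneralLinearGroup.map j
          ((siegel Q₀ u₀ v₀ hQu₀ hQv₀ huv₀ 1 : ↥(isometryGroup F₀ ⇑Q₀)) :
            Matrix.GeneralLinearGroup ι F₀) * g := by
        conv_rhs => rw [← h1]
        group
      have h3 := congrArg (fun s : Matrix.GeneralLinearGroup ι F => (s : Matrix ι ι F)) h2
      simp only [Units.val_mul] at h3
      rw [hS, hS'] at h3
      exact h3
  obtain ⟨a, haa, hga⟩ := hscal
  have ha0 : a ≠ 0 := by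
    rintro rfl
    rw [mul_zero] at haa
    exact hc haa.symm
  have hgcomm : ∀ X : Matrix.GeneralLinearGroup ι F, g * X * g⁻¹ = X := by
    intro X
    have h1 : g * X = X * g := by
      apply Units.ext
      rw [Units.val_mul, Units.val_mul, hga, Matrix.smul_mul, Matrix.mul_smul, Matrix.one_mul,
        Matrix.mul_one]
    rw [h1, mul_inv_cancel_right]
  -- step 2: `τ` fixes the subfield
  have hτfix : ∀ t₀ : F₀, τ (j t₀) = j t₀ := by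
    intro t₀
    obtain ⟨t0, ht0⟩ : ∃ t0 : Fin i₀, t0 = ⟨0, by omega⟩ := ⟨_, rfl⟩
    obtain ⟨t1, ht1⟩ : ∃ t1 : Fin i₀, t1 = ⟨1, by omega⟩ := ⟨_, rfl⟩
    have h01 : t0 ≠ t1 := by
      intro h
      rw [ht0, ht1] at h
      have := congrArg Fin.val h
      simp at this
    obtain ⟨e₁, he₁d⟩ : ∃ e₁ : ι → F₀, e₁ = Pi.single (α₀ t0) 1 := ⟨_, rfl⟩
    obtain ⟨e₂, he₂d⟩ : ∃ e₂ : ι → F₀, e₂ = Pi.single (α₀ t1) 1 := ⟨_, rfl⟩
    obtain ⟨f₁, hf₁d⟩ : ∃ f₁ : ι → F₀, f₁ = Pi.single (β₀ t0) 1 := ⟨_, rfl⟩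
    have he₁ : Q₀ e₁ = 0 := by rw [he₁d]; exact hfam₀.sing_α t0
    have he₂ : Q₀ e₂ = 0 := by rw [he₂d]; exact hfam₀.sing_α t1
    have he₁₂ : polar ⇑Q₀ e₁ e₂ = 0 := by
      rw [he₁d, hfam₀.polar_α, he₂d, Pi.single_eq_of_ne]
      exact fun h => hfam₀.disj t1 t0 h.symm
    have he₁f : polar ⇑Q₀ e₁ f₁ = 1 := by
      rw [he₁d, hfam₀.polar_α, hf₁d, Pi.single_eq_same]
    have he₂f : polar ⇑Q₀ e₂ f₁ = 0 := by
      rw [he₂d, hfam₀.polar_α, hf₁d, Pi.single_eq_of_ne]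
      exact fun h => h01 (hfam₀.inj_β h).symm
    have hmem := siegel_mem_commutator hQ₀ hfam₀ hi₀ e₁ e₂ he₁ he₂ he₁₂ t₀
    have h1 := hE ⟨siegel Q₀ e₁ e₂ he₁ he₂ he₁₂ t₀, hmem⟩
    rw [hgcomm] at h1
    have h2 := congrArg (fun s : Matrix.GeneralLinearGroup ι F => (s : Matrix ι ι F)) h1
    simp only [] at h2
    have hve₁ : vm τ (hm j e₁) = hm j e₁ := by rw [he₁d, hm_single, vm_single']
    have hve₂ : vm τ (hm j e₂) = hm j e₂ := by rw [he₂d, hm_single, vm_single']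
    rw [sGI_coe, glmapI_coe, siegel_coe, siegelMatrix_hm j Q₀ hbc,
      siegelMatrix_vm τ (hQfield τ), hve₁, hve₂] at h2
    have h3 := congrArg (fun M : Matrix ι ι F => (M *ᵥ hm j f₁) (α₀ t1)) h2
    simp only [siegelMatrix_mulVec, polar_hm j Q₀ hbc, he₁f, he₂f, map_one, map_zero, mul_one,
      mul_zero, zero_smul, sub_zero, Pi.add_apply, Pi.smul_apply, smul_eq_mul] at h3
    have h4 : hm j e₂ (α₀ t1) = 1 := by
      rw [he₂d, hm_single, Pi.single_eq_same]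
    rw [h4, mul_one, mul_one] at h3
    exact add_left_cancel h3
  -- step 3
  have hτmem : τ ∈ Subgroup.zpowers σ :=
    mem_zpowers_of_fixes σ τ (fun a ha => by
      obtain ⟨t₀, rfl⟩ := (hι a).mp ha
      exact hτfix t₀)
  have h1 : SRg (semiAut g τ c hg) g τ := ⟨c, hc, hg, rfl⟩
  have h2 := SRg_scU (Units.mk0 a⁻¹ (inv_ne_zero ha0)) h1
  have h3 : scU (Units.mk0 a⁻¹ (inv_ne_zero ha0)) * g = 1 := by
    apply Units.ext
    rw [Units.val_mul, scU_coe, hga, Units.val_mk0, Matrix.smul_mul, Matrix.one_mul, smul_smul,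
      inv_mul_cancel₀ ha0, one_smul]
    rfl
  rw [h3] at h2
  have h4 := SRg_unique_left hw₀ h2 (SRg_fO τ (hQfield τ))
  rw [h4]
  obtain ⟨n, rfl⟩ := Subgroup.mem_zpowers_iff.mp hτmem
  rw [← fOh_apply hQfield, ← fOh_apply hQfield, map_zpow]
  exact Subgroup.zpow_mem_zpowers _ n

end cent

end Cfsg.Agent.Lib.Helper2.Lbf
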