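import Mathlib
import Cfsg.Prelude
import Cfsg.Agent.Lib.Helper2.Lbf5
import Cfsg.Agent.Lib.Helper9.AOF3
import Cfsg.Agent.S0292
import Cfsg.Agent.S2694

set_option autoImplicit false
set_option linter.unusedSectionVars false
set_option linter.unusedVariables false
open Cfsg

/-!
# Local balance for field automorphisms of `Ω_{2m+1}(q)`
-/

namespace Cfsg.Agent.Lib.Helper2.Lbf

open scoped commutatorElement
open Matrix QuadraticMap Cfsg.Agent.Lib.Helper5.CartanDieudonne Cfsg.Agent.Lib.Helper5.Refl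
  Cfsg.Agent.Lib.Helper5.OrthCard Cfsg.Agent.Lib.Helper5.Siegel
  Cfsg.Agent.Lib.Helper5.OmegaSimple Cfsg.Agent.Lib.Helper5.SpinorHyp
  Cfsg.Agent.Lib.Helper5.SpinorHyp2 Cfsg.Agent.Lib.Helper5.SpinorNorm
  Cfsg.Agent.Lib.Helper5.SiegelComm
  Cfsg.Agent.Lib.Helper5.OAut
  Cfsg.Agent.Lib.Helper9.AOR Cfsg.Agent.Lib.Helper9.AOF Cfsg.Agent.Lib.Helper9.ASP
open Cfsg.Agent.Lib.Helper9.APSL (finite_ringAut mem_fixed_subfield)

section general
variable {ι : Type} [Fintype ι] [DecidableEq ι] {F : Type*} [Field F] [Fintype F]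
  {F₀ : Type*} [Field F₀] (j : F₀ →+* F)
  {Q : QuadraticForm F (ι → F)} (Q₀ : QuadraticForm F₀ (ι → F₀))
variable (hbc : ∀ v₀, Q (hm j v₀) = j (Q₀ v₀))
variable {i : ℕ} {α β : Fin i → ι} {i₀ : ℕ} {α₀ β₀ : Fin i₀ → ι}

theorem isFieldAut_fO (σ : RingAut F) (hσQ : ∀ v, Q (vm σ v) = σ (Q v)) :
    IsFieldAutPOmegaOf ⇑Q σ (fO σ hσQ) := by
  intro s s' hs
  have h := semiAut_induced (Q := Q) 1 σ 1 (fun v => by
    unfold sm
    rw [Units.val_one, Matrix.one_mulVec, one_mul]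
    exact hσQ v)
  apply h
  rw [hs, Units.val_one, inv_one, Units.val_one, Matrix.one_mul, Matrix.mul_one]

include hbc in
theorem good_fO [Fintype F₀] (hγ : gammaPOmega F ⇑Q = ⊤)
    (hZ : Subgroup.center ↥(Omega F ⇑Q) = ⊥)
    (hZ₀ : Subgroup.center ↥(Omega F₀ ⇑Q₀) = ⊥) (hS₀ : IsSimpleGroup (POmega F₀ ⇑Q₀))
    (hperf₀ : commutator ↥(Omega F₀ ⇑Q₀) = ⊤)
    (hfam : IsHypFamily Q α β) (hi : 2 ≤ i)
    (hQ₀ : (polarBilin Q₀).Nondegenerate) (hfam₀ : IsHypFamily Q₀ α₀ β₀) (hi₀ : 3 ≤ i₀)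
    {w₀ : ι → F} (hw₀ : Q w₀ = 1)
    (hQfield : ∀ (τ : RingAut F) (v : ι → F), Q (vm τ v) = τ (Q v))
    (σ : RingAut F) (hι : ∀ a : F, σ a = a ↔ a ∈ Set.range j)
    {p : ℕ} (hp : p.Prime)
    (hidx : (commutator ↥(isometryGroup F₀ ⇑Q₀)).index = 4)
    (h2dvd : 2 ∣ Nat.card ↥(Omega F₀ ⇑Q₀)) :
    Good p (fO σ (hQfield σ)) := by
  have hD := dfix_fO_eq j Q₀ hbc hZ σ (hQfield σ) hι hperf₀
  refine ⟨?_, ?_, ?_⟩
  · have := simple_Lam_range j Q₀ hbc hZ hZ₀ hS₀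
    exact (MulEquiv.subgroupCongr hD).isSimpleGroup
  · intro hd
    rw [hD]
    exact dvd_Lam_range j Q₀ hbc hZ σ (hQfield σ) hι hp hidx h2dvd hd
  · intro β' hβ
    apply cent_fO j Q₀ hbc hγ hZ hfam hi hQ₀ hfam₀ hi₀ hw₀ hQfield σ hι β'
    intro y hy
    apply hβ
    rw [hD]
    exact hy

end general

section arith

theorem two_dvd_of_formula {q m N : ℕ} (hq : Odd q) (hm : 1 ≤ m)
    (h : 2 * N = q ^ (m ^ 2) * ∏ i ∈ Finset.range m, (q ^ (2 * (i + 1)) - 1)) : 2 ∣ N := by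
  have h1 : (q ^ (2 * (0 + 1)) - 1) ∣ ∏ i ∈ Finset.range m, (q ^ (2 * (i + 1)) - 1) :=
    Finset.dvd_prod_of_mem (fun i => q ^ (2 * (i + 1)) - 1) (Finset.mem_range.mpr hm)
  have h2 : 4 ∣ q ^ (2 * (0 + 1)) - 1 := by
    obtain ⟨k, rfl⟩ := hq
    refine ⟨k ^ 2 + k, ?_⟩
    have h3 : (2 * k + 1) ^ (2 * (0 + 1)) = 4 * (k ^ 2 + k) + 1 := by ring
    rw [h3, Nat.add_sub_cancel]
  have h3 : 4 ∣ 2 * N := by
    rw [h]
    exact Dvd.dvd.mul_left (h2.trans h1) _
  omega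

theorem odd_card_of_two_ne_zero {F₀ : Type*} [Field F₀] [Fintype F₀] (h2 : (2 : F₀) ≠ 0) :
    Odd (Fintype.card F₀) := by
  rw [Nat.odd_iff]
  apply FiniteField.odd_card_of_char_ne_two
  intro h
  have : CharP F₀ 2 := by
    rw [← h]
    exact ringChar.charP F₀
  exact h2 CharTwo.two_eq_zero

end arith

section odd
variable {F : Type*} [Field F] [Fintype F]

/-- **the local balance criterion for `Ω_{2m+1}(q)`, automorphisms outside the image of the
conformal orthogonal group** -/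
theorem main_odd (r : ℕ) [Fact r.Prime] [CharP F r] (hodd : Odd (Fintype.card F)) {m : ℕ}
    (hm : 3 ≤ m) (A : Subgroup (MulAut (POmega F ⇑(oddForm m F))))
    (hinn : ∀ k : POmega F ⇑(oddForm m F), MulAut.conj k ∈ A) {p : ℕ} (hp : p.Prime)
    (x : MulAut (POmega F ⇑(oddForm m F))) (hxA : x ∈ A) (hord : orderOf x = p)
    (hnot : ¬ IsSimilarityInducedAutPOmega ⇑(oddForm m F) x) :
    pPrimeCore p ↥(A ⊓ Subgroup.centralizer {x}) ≠ ⊥ ↔
      (IsFieldAutClassPOmega ⇑(oddForm m F) x ∧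
        Nat.Coprime p (Nat.card ↥(MonoidHom.eqLocus x.toMonoidHom
          (MonoidHom.id (POmega F ⇑(oddForm m F)))))) := by
  have h2 : (2 : F) ≠ 0 := Cfsg.Agent.Lib.Helper5.two_ne_zero_of_odd_card hodd
  have hQ := oddForm_nondegenerate h2 m
  have hfam := oddForm_hypFamily (F := F) (le_refl m)
  have hn : Fintype.card (Unit ⊕ (Fin m ⊕ Fin m)) = 2 * m + 1 := by
    simp only [Fintype.card_sum, Fintype.card_fin, Fintype.card_unit]; omega
  have h5 : 5 ≤ Fintype.card (Unit ⊕ (Fin m ⊕ Fin m)) := by rw [hn]; omega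
  have H := Hyp.of_hypFamily hQ hfam hm h5
  have hγ : gammaPOmega F ⇑(oddForm m F) = ⊤ := by
    rw [coe_oddForm]
    exact Cfsg.Agent.S2694.result hodd hm
  have : Nonempty (Unit ⊕ (Fin m ⊕ Fin m)) := ⟨Sum.inl ()⟩
  have : Finite (POmega F ⇑(oddForm m F)) := inferInstance
  -- the field automorphism of `x`
  obtain ⟨σ, g, c, hc, hg, hx⟩ := SR_total hγ x
  have hSRg : SRg x g σ := ⟨c, hc, hg, hx⟩
  have hσ1 : σ ≠ RingEquiv.refl F := by
    rintro rfl
    apply hnot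
    refine ⟨g, ⟨Units.mk0 c hc, fun v => ?_⟩, ?_⟩
    · have h1 := hg v
      unfold sm at h1
      have h3 : vm (RingEquiv.refl F) v = v := by
        ext k
        rfl
      rw [h3] at h1
      exact h1
    · rw [hx]
      exact semiAut_induced g _ c hg
  have hτ : tauO r H hγ x = σ := tauO_eq r H hγ ⟨g, c, hc, hg, hx⟩
  have hσp : σ ^ p = 1 := by
    rw [← hτ, ← map_pow, ← hord, pow_orderOf_eq_one, map_one]
  have hordσ : orderOf σ = p := by
    rcases (Nat.dvd_prime hp).mp (orderOf_dvd_of_pow_eq_one hσp) with h | h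
    · exact absurd (orderOf_eq_one_iff.mp h) hσ1
    · exact h
  have hxp : x ^ p = 1 := by
    rw [← hord]
    exact pow_orderOf_eq_one x
  obtain ⟨k, hk⟩ := conj_field_gen hQ hfam hm h5 (oddForm_w0 m) σ (oddForm_vm m σ) p hp.pos
    hordσ (fun g' hg' hN => exists_orth_descent_odd h2 m σ p hp.pos hordσ g' hg' hN) x g hSRg hxp
  -- the fixed field
  have : Finite (RingAut F) := finite_ringAut
  letI : Fintype ↥(FixedPoints.subfield (Subgroup.zpowers σ) F) := Fintype.ofFinite _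
  obtain ⟨j, hj⟩ : ∃ j : ↥(FixedPoints.subfield (Subgroup.zpowers σ) F) →+* F,
      j = (FixedPoints.subfield (Subgroup.zpowers σ) F).subtype := ⟨_, rfl⟩
  have hι : ∀ a : F, σ a = a ↔ a ∈ Set.range j := by
    intro a
    rw [← mem_fixed_subfield, hj]
    constructor
    · intro ha
      exact ⟨⟨a, ha⟩, rfl⟩
    · rintro ⟨b, rfl⟩
      exact b.2
  have h2₀ : (2 : ↥(FixedPoints.subfield (Subgroup.zpowers σ) F)) ≠ 0 := by
    intro h
    apply h2
    have := congrArg j h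
    rwa [map_ofNat, map_zero] at this
  have hodd₀ := odd_card_of_two_ne_zero h2₀
  have hQ₀ := oddForm_nondegenerate h2₀ m
  have hfam₀ := oddForm_hypFamily (F := ↥(FixedPoints.subfield (Subgroup.zpowers σ) F)) (le_refl m)
  have H₀ := Hyp.of_hypFamily hQ₀ hfam₀ hm h5
  have hZ := Cfsg.Agent.S0292.center_eq_bot h2 m (by omega)
  have hZ₀ := Cfsg.Agent.S0292.center_eq_bot h2₀ m (by omega)
  have hS₀ := isSimpleGroup_POmega H₀
  have hperf₀ := perfect H₀
  have hidx := index_commutator (oddForm m ↥(FixedPoints.subfield (Subgroup.zpowers σ) F)) h2₀ hQ₀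
    (by rw [hn]; omega)
  have h2dvd : 2 ∣ Nat.card ↥(Omega ↥(FixedPoints.subfield (Subgroup.zpowers σ) F)
      ⇑(oddForm m ↥(FixedPoints.subfield (Subgroup.zpowers σ) F))) := by
    have h3 := Cfsg.Agent.S0292.core (F := ↥(FixedPoints.subfield (Subgroup.zpowers σ) F)) rfl
      hodd₀ m hm
    have h4 : Nat.card (POmega ↥(FixedPoints.subfield (Subgroup.zpowers σ) F)
        ⇑(oddForm m ↥(FixedPoints.subfield (Subgroup.zpowers σ) F))) =
        Nat.card ↥(Omega ↥(FixedPoints.subfield (Subgroup.zpowers σ) F)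
          ⇑(oddForm m ↥(FixedPoints.subfield (Subgroup.zpowers σ) F))) :=
      Nat.card_congr (Cfsg.Agent.Lib.Helper5.IsoTools.quotCenterOfBot hZ₀).toEquiv
    rw [h4] at h3
    exact two_dvd_of_formula hodd₀ (by omega) h3
  have hgood : Good p (fO σ (oddForm_vm m σ)) :=
    good_fO j (oddForm m ↥(FixedPoints.subfield (Subgroup.zpowers σ) F)) (oddForm_hm j m)
      hγ hZ hZ₀ hS₀ hperf₀ hfam (by omega) hQ₀ hfam₀ hm (oddForm_w0 m)
      (fun τ v => oddForm_vm m τ v) σ hι hp hidx h2dvd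
  have hgoodx : Good p x := by
    rw [hk]
    exact hgood.conj _
  have hZK := center_POmega_eq_bot H
  have hiff := core_ne_bot_iff A x hinn hZK hp hord hgoodx
  rw [hiff]
  constructor
  · intro h
    refine ⟨⟨(conjGO (oddForm m F) k)⁻¹, fO σ (oddForm_vm m σ), σ, hσ1,
      isFieldAut_fO σ (oddForm_vm m σ), ?_⟩, h⟩
    rw [hk]
    group
  · intro h
    exact h.2

end odd

end Cfsg.Agent.Lib.Helper2.Lbf
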