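import Mathlib
import Cfsg.Prelude
import Cfsg.Agent.Lib.Helper6.LbgA
import Cfsg.Agent.Lib.Helper9.APSU31

set_option autoImplicit false
set_option linter.unusedSectionVars false
set_option linter.unusedVariables false
open Cfsg

/-! Local balance for `PSU_n`: the abstract engine instantiated for an automorphism `liftU Ψ` of
`PSU_n(q)` lifted from an automorphism `Ψ` of `SU_n(q)`. -/

namespace Cfsg.Agent.Lib.Helper2.Lbu

open Matrix Cfsg.Agent.Lib.Helper9.APSU Cfsg.Agent.Lib.Helper9.ALB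
  Cfsg.Agent.Lib.Helper5.Herm Cfsg.Agent.Lib.Helper5.HermBlock
  Cfsg.Agent.Lib.Helper5.HermTv Cfsg.Agent.Lib.Helper5.HermEich Cfsg.Agent.Lib.Helper5.HermSU
  Cfsg.Agent.Lib.Helper5.HermSimple

attribute [local instance 2000] suSMul suAction suSMulComm

variable {F : Type*} [Field F] [Fintype F] {q : ℕ} (hF : Fintype.card F = q ^ 2) (n : ℕ)

set_option quotPrecheck false
local notation "Vn" => (Fin n → F)
local notation "Mn" => Matrix (Fin n) (Fin n) F
local notation "GLn" => GL (Fin n) F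
local notation "GUn" => ↥(Cfsg.GU n F q)
local notation "SUn" => ↥(Cfsg.SU n F q)
local notation "PSUn" => Cfsg.PSU n F q
local notation "hh" => hermForm n F q

/-- the fixed points of an automorphism of `SU` -/
def fixSU (Ψ : SUn ≃* SUn) : Subgroup SUn := MonoidHom.eqLocus Ψ.toMonoidHom (MonoidHom.id SUn)

omit [Fintype F] in
theorem mem_fixSU (Ψ : SUn ≃* SUn) (s : SUn) : s ∈ fixSU n Ψ ↔ Ψ s = s := Iff.rfl

/-- the fixed points of an automorphism of `PSU` -/
def fixPU (β : MulAut PSUn) : Subgroup PSUn :=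
  MonoidHom.eqLocus β.toMonoidHom (MonoidHom.id PSUn)

omit [Fintype F] in
theorem mem_fixPU (β : MulAut PSUn) (z : PSUn) : z ∈ fixPU n β ↔ β z = z := Iff.rfl

omit [Fintype F] in
theorem mkU_mem_fixPU {Ψ : SUn ≃* SUn} {s : SUn} (hs : Ψ s = s) :
    mkU n s ∈ fixPU n (liftU n Ψ) := by
  rw [mem_fixPU, liftU_mkU, hs]

include hF in
/-- conjugation by a nontrivial element of `PSU` is nontrivial -/
theorem conjU_eq_one (hn : 3 ≤ n) (z : PSUn) (h : (MulAut.conj z : MulAut PSUn) = 1) : z = 1 := by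
  obtain ⟨s, rfl⟩ := mkU_surjective n z
  rw [← cU_toGU] at h
  have h1 : toGU n s ∈ (cU (F := F) (q := q) n).ker := MonoidHom.mem_ker.mpr h
  rw [mem_ker_cU hF n hn] at h1
  obtain ⟨a, ha⟩ := h1
  rw [mkU_eq_one_iff hF n (by omega)]
  exact ⟨a, fun v => by rw [su_smul_def]; exact ha v⟩

include hF in
theorem conjU_injective (hn : 3 ≤ n) :
    Function.Injective (MulAut.conj : PSUn →* MulAut PSUn) := by
  rw [injective_iff_map_eq_one]
  exact conjU_eq_one hF n hn

include hF in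
theorem centerU_eq_bot (hn : 3 ≤ n) : Subgroup.center PSUn = ⊥ := by
  rw [eq_bot_iff]
  intro z hz
  rw [Subgroup.mem_bot]
  apply conjU_eq_one hF n hn
  apply MulEquiv.ext
  intro x
  rw [MulAut.conj_apply, MulAut.one_apply]
  rw [Subgroup.mem_center_iff] at hz
  rw [← hz x, mul_inv_cancel_right]

omit [Fintype F] in
theorem conjU_conj (β : MulAut PSUn) (g : PSUn) :
    β * MulAut.conj g * β⁻¹ = (MulAut.conj (β g) : MulAut PSUn) := by
  apply MulEquiv.ext
  intro x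
  rw [MulAut.mul_apply, MulAut.mul_apply, MulAut.conj_apply, MulAut.conj_apply, map_mul, map_mul,
    map_inv, MulAut.apply_inv_self]

/-- the inner automorphisms induced by the fixed points -/
noncomputable def I0U (β : MulAut PSUn) : Subgroup (MulAut PSUn) := (fixPU n β).map MulAut.conj

/-- the inner automorphisms induced by the fixed points in `SU` -/
noncomputable def TTU (Ψ : SUn ≃* SUn) : Subgroup (MulAut PSUn) :=
  ((fixSU n Ψ).map (mkU n)).map MulAut.conj

omit [Fintype F] in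
theorem TTU_le_I0U (Ψ : SUn ≃* SUn) : TTU n Ψ ≤ I0U n (liftU n Ψ) := by
  rintro _ ⟨_, ⟨s, hs, rfl⟩, rfl⟩
  exact ⟨mkU n s, mkU_mem_fixPU n hs, rfl⟩

omit [Fintype F] in
theorem comm_conj_of_fix (β : MulAut PSUn) (z : PSUn) (hz : β z = z) :
    β * MulAut.conj z = MulAut.conj z * β := by
  have h1 := conjU_conj n β z
  rw [hz] at h1
  calc β * MulAut.conj z = (β * MulAut.conj z * β⁻¹) * β := by group
    _ = MulAut.conj z * β := by rw [h1]

omit [Fintype F] in
theorem I0U_le (β : MulAut PSUn) (A : Subgroup (MulAut PSUn))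
    (hinn : ∀ k : PSUn, MulAut.conj k ∈ A) : I0U n β ≤ A ⊓ Subgroup.centralizer {β} := by
  rintro _ ⟨z, hz, rfl⟩
  have hz' : β z = z := hz
  refine ⟨hinn z, ?_⟩
  show MulAut.conj z ∈ Subgroup.centralizer {β}
  rw [Subgroup.mem_centralizer_iff]
  intro h hmem
  rw [Set.mem_singleton_iff] at hmem
  rw [hmem]
  exact comm_conj_of_fix n β z hz'

omit [Fintype F] in
theorem I0U_normalized (β : MulAut PSUn) (c : MulAut PSUn) (hc : c ∈ Subgroup.centralizer {β})
    (i : MulAut PSUn) (hi : i ∈ I0U n β) : c * i * c⁻¹ ∈ I0U n β := by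
  obtain ⟨z, hz, rfl⟩ := hi
  have hz' : β z = z := hz
  refine ⟨c z, ?_, (conjU_conj n c z).symm⟩
  rw [Subgroup.mem_centralizer_iff] at hc
  have h1 := hc β rfl
  show β (c z) = c z
  have h2 : β (c z) = (β * c) z := rfl
  rw [h2, h1]
  show c (β z) = c z
  rw [hz']

omit [Fintype F] in
/-- the fixed points in `SU` are normalised by the preimage of the fixed points in `PSU` -/
theorem fixSU_conj (Ψ : SUn ≃* SUn) (A : SUn) (hA : liftU n Ψ (mkU n A) = mkU n A) (s : SUn)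
    (hs : Ψ s = s) : Ψ (A * s * A⁻¹) = A * s * A⁻¹ := by
  rw [liftU_mkU] at hA
  have h1 : Ψ A * A⁻¹ ∈ Subgroup.center SUn := by
    have h2 : mkU n (Ψ A * A⁻¹) = 1 := by rw [map_mul, map_inv, hA, mul_inv_cancel]
    exact (QuotientGroup.eq_one_iff _).mp h2
  rw [Subgroup.mem_center_iff] at h1
  have h2 : Ψ A = (Ψ A * A⁻¹) * A := by group
  rw [map_mul, map_mul, map_inv, hs, h2]
  calc Ψ A * A⁻¹ * A * s * (Ψ A * A⁻¹ * A)⁻¹
      = (Ψ A * A⁻¹) * (A * s * A⁻¹) * (Ψ A * A⁻¹)⁻¹ := by group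
    _ = (A * s * A⁻¹) * (Ψ A * A⁻¹) * (Ψ A * A⁻¹)⁻¹ := by rw [h1 (A * s * A⁻¹)]
    _ = A * s * A⁻¹ := by rw [mul_inv_cancel_right]

omit [Fintype F] in
theorem TTU_normalized (Ψ : SUn ≃* SUn) (i : MulAut PSUn) (hi : i ∈ I0U n (liftU n Ψ))
    (t : MulAut PSUn) (ht : t ∈ TTU n Ψ) : i * t * i⁻¹ ∈ TTU n Ψ := by
  obtain ⟨z, hz, rfl⟩ := hi
  obtain ⟨_, ⟨s, hs, rfl⟩, rfl⟩ := ht
  obtain ⟨A, rfl⟩ := mkU_surjective n z
  refine ⟨mkU n (A * s * A⁻¹), ⟨A * s * A⁻¹, fixSU_conj n Ψ A hz s hs, rfl⟩, ?_⟩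
  rw [map_mul, map_mul, map_inv, map_mul, map_mul, map_inv]

theorem finite_autU : Finite (MulAut PSUn) :=
  Finite.of_injective (fun e : MulAut PSUn => (e : PSUn → PSUn)) DFunLike.coe_injective

include hF in
/-- **the `p'`-core of the centraliser of `liftU Ψ` is trivial**, given that the image of the
fixed points of `Ψ` has no invariant `p'`-subgroups and a small centraliser -/
theorem core_botU (hn : 3 ≤ n) (Ψ : SUn ≃* SUn) (p : ℕ)
    (A : Subgroup (MulAut PSUn)) (hinn : ∀ k : PSUn, MulAut.conj k ∈ A)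
    (hord : orderOf (liftU n Ψ) = p)
    (he1 : ∀ M : Subgroup PSUn, M ≤ (fixSU n Ψ).map (mkU n) →
      (∀ z ∈ (fixSU n Ψ).map (mkU n), ∀ m ∈ M, z * m * z⁻¹ ∈ M) →
      (Nat.card M).Coprime p → M = ⊥)
    (he2 : ∀ ρ : MulAut PSUn, (∀ s, Ψ s = s → ρ (mkU n s) = mkU n s) →
      ρ ∈ Subgroup.zpowers (liftU n Ψ)) :
    Cfsg.pPrimeCore p ↥(A ⊓ Subgroup.centralizer {liftU n Ψ}) = ⊥ := by
  have := finite_autU (F := F) (q := q) n
  by_contra hne
  rw [← ne_eq, pPrimeCore_ne_bot_iff] at hne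
  obtain ⟨N, hNC, hN0, hNn, hNc⟩ := hne
  apply hN0
  apply Cfsg.Agent.Lib.Helper6.Lbg.engine (A ⊓ Subgroup.centralizer {liftU n Ψ}) N
    (I0U n (liftU n Ψ)) (TTU n Ψ)
    (Subgroup.zpowers (liftU n Ψ)) p hNC hNn hNc (I0U_le n _ A hinn)
    (fun c hc i hi => I0U_normalized n _ c hc.2 i hi) (TTU_le_I0U n Ψ) (TTU_normalized n Ψ)
  · intro M hMT hMn hMc
    obtain ⟨MK, hMK⟩ : ∃ MK : Subgroup PSUn, MK = M.comap (MulAut.conj : PSUn →* MulAut PSUn) :=
      ⟨_, rfl⟩
    have hmap : MK.map (MulAut.conj : PSUn →* MulAut PSUn) = M := by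
      rw [hMK, Subgroup.map_comap_eq_self]
      intro m hm
      obtain ⟨k, -, rfl⟩ := hMT hm
      exact ⟨k, rfl⟩
    have hbot : MK = ⊥ := by
      apply he1
      · intro k hk
        rw [hMK, Subgroup.mem_comap] at hk
        obtain ⟨k', hk', hkk⟩ := hMT hk
        rw [← conjU_injective hF n hn hkk]
        exact hk'
      · intro z hz m hm
        rw [hMK, Subgroup.mem_comap] at hm ⊢
        rw [map_mul, map_mul, map_inv]
        obtain ⟨s, hs, rfl⟩ := hz
        exact hMn _ ⟨mkU n s, mkU_mem_fixPU n hs, rfl⟩ _ hm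
      · rw [← hmap, Subgroup.card_map_of_injective (conjU_injective hF n hn)] at hMc
        exact hMc
    rw [← hmap, hbot, Subgroup.map_bot]
  · intro y hy
    apply he2
    intro s hs
    apply conjU_injective hF n hn
    have h1 := hy (MulAut.conj (mkU n s)) ⟨mkU n s, ⟨s, hs, rfl⟩, rfl⟩
    have h2 := conjU_conj n y (mkU n s)
    calc MulAut.conj (y (mkU n s)) = y * MulAut.conj (mkU n s) * y⁻¹ := h2.symm
      _ = MulAut.conj (mkU n s) * y * y⁻¹ := by rw [h1]
      _ = MulAut.conj (mkU n s) := by rw [mul_inv_cancel_right]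
  · rw [Nat.card_zpowers, hord]

end Cfsg.Agent.Lib.Helper2.Lbu
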