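import Mathlib
import Cfsg.Prelude
import Cfsg.Agent.Lib.Helper2.LbuA
import Cfsg.Agent.Lib.Helper6.LbgD

set_option autoImplicit false
set_option linter.unusedSectionVars false
set_option linter.unusedVariables false
open Cfsg

/-! Local balance for `PSU_n`: the special unitary group over a subfield, embedded as the fixed
points of a field automorphism. -/

namespace Cfsg.Agent.Lib.Helper2.Lbu

open Matrix Cfsg.Agent.Lib.Helper9.APSU Cfsg.Agent.Lib.Helper9.ALB
  Cfsg.Agent.Lib.Helper5.Herm Cfsg.Agent.Lib.Helper5.HermBlock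
  Cfsg.Agent.Lib.Helper5.HermTv Cfsg.Agent.Lib.Helper5.HermEich Cfsg.Agent.Lib.Helper5.HermSU
  Cfsg.Agent.Lib.Helper5.HermSimple Cfsg.Agent.Lib.Helper5.HermCenter

attribute [local instance 2000] suSMul suAction suSMulComm

section embed

variable {F : Type*} [Field F] [Fintype F] {q : ℕ} (hF : Fintype.card F = q ^ 2) (n : ℕ)
  {F₀ : Type*} [Field F₀] [Fintype F₀] {q₀ : ℕ} (hF₀ : Fintype.card F₀ = q₀ ^ 2)
  (ι : F₀ →+* F) (hq₀ : ∀ x : F₀, (ι x) ^ q = ι (x ^ q₀))

omit [Fintype F] [Fintype F₀] in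
include hq₀ in
theorem isU_map (M : Matrix (Fin n) (Fin n) F₀) : IsU q (M.map ι) ↔ IsU q₀ M := by
  unfold IsU
  have h1 : (M.map ι)ᵀ * (M.map ι).map (· ^ q) = (Mᵀ * M.map (· ^ q₀)).map ι := by
    rw [Matrix.map_mul, Matrix.transpose_map]
    congr 1
    ext i j
    simp only [Matrix.map_apply]
    exact hq₀ _
  rw [h1]
  constructor
  · intro h
    apply Matrix.map_injective ι.injective
    show (Mᵀ * M.map (· ^ q₀)).map ι = (1 : Matrix (Fin n) (Fin n) F₀).map ι
    rw [h]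
    simp
  · intro h
    rw [h]
    simp

/-- the embedding of the special unitary group over a subfield -/
def embSU : ↥(Cfsg.SU n F₀ q₀) →* ↥(Cfsg.SU n F q) where
  toFun s := ⟨Matrix.SpecialLinearGroup.map ι s.1, by
    rw [mem_SU_iff hF, Matrix.SpecialLinearGroup.map_apply_coe, RingHom.mapMatrix_apply]
    exact (isU_map n ι hq₀ _).mpr ((mem_SU_iff hF₀ s.1).mp s.2)⟩
  map_one' := by
    apply Subtype.ext
    exact map_one _
  map_mul' s t := by
    apply Subtype.ext
    exact map_mul _ _ _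

theorem embSU_coe (s : ↥(Cfsg.SU n F₀ q₀)) :
    ((embSU hF n hF₀ ι hq₀ s : Matrix.SpecialLinearGroup (Fin n) F) : Matrix (Fin n) (Fin n) F) =
      ((s : Matrix.SpecialLinearGroup (Fin n) F₀) : Matrix (Fin n) (Fin n) F₀).map ι := by
  show ((Matrix.SpecialLinearGroup.map ι s.1 : Matrix.SpecialLinearGroup (Fin n) F) :
    Matrix (Fin n) (Fin n) F) = _
  rw [Matrix.SpecialLinearGroup.map_apply_coe, RingHom.mapMatrix_apply]

theorem embSU_smul (s : ↥(Cfsg.SU n F₀ q₀)) (v : Fin n → F₀) :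
    embSU hF n hF₀ ι hq₀ s • (fun i => ι (v i)) = fun i => ι ((s • v) i) := by
  rw [su_smul_eq, embSU_coe]
  funext i
  rw [su_smul_eq]
  exact (RingHom.map_mulVec ι _ v i).symm

theorem embSU_fixed (σ : RingAut F) (hι' : ∀ t : F₀, σ (ι t) = ι t) (s : ↥(Cfsg.SU n F₀ q₀)) :
    fieldSU n σ (embSU hF n hF₀ ι hq₀ s) = embSU hF n hF₀ ι hq₀ s := by
  apply Subtype.ext
  apply Subtype.ext
  rw [fieldSU_coe, embSU_coe]
  ext a b
  rw [Matrix.map_apply, Matrix.map_apply]
  exact hι' _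

theorem exists_embSU_eq (σ : RingAut F) (hι : ∀ a : F, σ a = a → a ∈ Set.range ι)
    (s : ↥(Cfsg.SU n F q)) (hs : fieldSU n σ s = s) :
    ∃ s₀ : ↥(Cfsg.SU n F₀ q₀), embSU hF n hF₀ ι hq₀ s₀ = s := by
  have hfix : ∀ a b, σ (((s : Matrix.SpecialLinearGroup (Fin n) F) : Matrix (Fin n) (Fin n) F) a b)
      = ((s : Matrix.SpecialLinearGroup (Fin n) F) : Matrix (Fin n) (Fin n) F) a b := by
    intro a b
    have h1 := congrArg (fun B : ↥(Cfsg.SU n F q) =>
      ((B : Matrix.SpecialLinearGroup (Fin n) F) : Matrix (Fin n) (Fin n) F) a b) hs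
    simp only [fieldSU_coe, Matrix.map_apply] at h1
    exact h1
  choose c hc using fun a b => hι _ (hfix a b)
  have hM : (Matrix.of c).map ι =
      ((s : Matrix.SpecialLinearGroup (Fin n) F) : Matrix (Fin n) (Fin n) F) := by
    ext a b
    exact hc a b
  have hdet : (Matrix.of c).det = 1 := by
    apply ι.injective
    rw [RingHom.map_det, map_one, RingHom.mapMatrix_apply, hM]
    exact s.1.2
  obtain ⟨t, ht⟩ : ∃ t : Matrix.SpecialLinearGroup (Fin n) F₀,
      (t : Matrix (Fin n) (Fin n) F₀) = Matrix.of c := ⟨⟨Matrix.of c, hdet⟩, rfl⟩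
  have htU : t ∈ Cfsg.SU n F₀ q₀ := by
    rw [mem_SU_iff hF₀, ht, ← isU_map n ι hq₀, hM]
    exact (mem_SU_iff hF s.1).mp s.2
  refine ⟨⟨t, htU⟩, ?_⟩
  apply Subtype.ext
  apply Subtype.ext
  rw [embSU_coe]
  show (t : Matrix (Fin n) (Fin n) F₀).map ι = _
  rw [ht]
  exact hM

/-- scalar elements go to scalar elements -/
theorem mkU_embSU_eq_one (hn : 1 ≤ n) (s : ↥(Cfsg.SU n F₀ q₀)) (hs : mkU n s = 1) :
    mkU n (embSU hF n hF₀ ι hq₀ s) = 1 := by
  rw [mkU_eq_one_iff hF₀ n hn] at hs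
  obtain ⟨a, ha⟩ := hs
  rw [mkU_eq_one_iff hF n hn]
  refine ⟨ι a, fun v => ?_⟩
  have hmat : ((s : Matrix.SpecialLinearGroup (Fin n) F₀) : Matrix (Fin n) (Fin n) F₀) =
      a • (1 : Matrix (Fin n) (Fin n) F₀) := by
    rw [ext_iff_mulVec]
    intro x
    rw [smul_mulVec, one_mulVec]
    exact ha x
  rw [su_smul_eq, embSU_coe, hmat]
  have : (a • (1 : Matrix (Fin n) (Fin n) F₀)).map ι = ι a • (1 : Matrix (Fin n) (Fin n) F) := by
    ext i j
    rw [Matrix.map_apply, Matrix.smul_apply, Matrix.smul_apply, Matrix.one_apply,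
      Matrix.one_apply, smul_eq_mul, smul_eq_mul, map_mul]
    split_ifs
    · rw [map_one]
    · rw [map_zero]
  rw [this, smul_mulVec, one_mulVec]

/-- only scalar elements go to scalar elements -/
theorem mkU_eq_one_of_embSU (hn : 1 ≤ n) (s : ↥(Cfsg.SU n F₀ q₀))
    (hs : mkU n (embSU hF n hF₀ ι hq₀ s) = 1) : mkU n s = 1 := by
  rw [mkU_eq_one_iff hF n hn] at hs
  obtain ⟨a, ha⟩ := hs
  rw [mkU_eq_one_iff hF₀ n hn]
  have hmat : (((s : Matrix.SpecialLinearGroup (Fin n) F₀) : Matrix (Fin n) (Fin n) F₀).map ι) =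
      a • (1 : Matrix (Fin n) (Fin n) F) := by
    rw [← embSU_coe hF n hF₀ ι hq₀, ext_iff_mulVec]
    intro x
    rw [smul_mulVec, one_mulVec]
    exact ha x
  obtain ⟨i₀⟩ : Nonempty (Fin n) := ⟨⟨0, hn⟩⟩
  obtain ⟨a₀, ha₀⟩ : ∃ a₀ : F₀, a₀ =
      ((s : Matrix.SpecialLinearGroup (Fin n) F₀) : Matrix (Fin n) (Fin n) F₀) i₀ i₀ := ⟨_, rfl⟩
  have haa : ι a₀ = a := by
    have := congrFun (congrFun hmat i₀) i₀
    rw [Matrix.map_apply, Matrix.smul_apply, Matrix.one_apply_eq, smul_eq_mul, mul_one] at this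
    rw [ha₀]
    exact this
  have hmat₀ : ((s : Matrix.SpecialLinearGroup (Fin n) F₀) : Matrix (Fin n) (Fin n) F₀) =
      a₀ • (1 : Matrix (Fin n) (Fin n) F₀) := by
    ext i j
    apply ι.injective
    have := congrFun (congrFun hmat i) j
    rw [Matrix.map_apply] at this
    rw [this, Matrix.smul_apply, Matrix.smul_apply, Matrix.one_apply, Matrix.one_apply,
      smul_eq_mul, smul_eq_mul, map_mul, haa]
    split_ifs
    · rw [map_one]
    · rw [map_zero]
  refine ⟨a₀, fun v => ?_⟩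
  rw [su_smul_eq, hmat₀, smul_mulVec, one_mulVec]

end embed

section orderp

variable {F : Type*} [Field F] [Fintype F] {q : ℕ} (hF : Fintype.card F = q ^ 2) (n : ℕ)

set_option quotPrecheck false
local notation "Vn" => (Fin n → F)
local notation "Mn" => Matrix (Fin n) (Fin n) F
local notation "SUn" => ↥(Cfsg.SU n F q)
local notation "PSUn" => Cfsg.PSU n F q

omit [Fintype F] in
theorem pow_smul_scalar (A C : SUn) (u : F) (h : ∀ v : Vn, C • v = u • (A • v)) (k : ℕ) :
    ∀ v : Vn, (C ^ k) • v = u ^ k • ((A ^ k) • v) := by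
  induction k with
  | zero => intro v; simp
  | succ k ih =>
    intro v
    calc (C ^ (k + 1)) • v = (C ^ k) • (C • v) := by rw [pow_succ, mul_smul]
      _ = (C ^ k) • (u • (A • v)) := by rw [h]
      _ = u • ((C ^ k) • (A • v)) := by rw [su_smul_smul]
      _ = u • (u ^ k • ((A ^ k) • (A • v))) := by rw [ih]
      _ = u ^ (k + 1) • ((A ^ (k + 1)) • v) := by
          rw [pow_succ A, mul_smul, pow_succ, mul_comm (u ^ k) u, mul_smul]

theorem dvec_other {a b c : Fin n} (hca : c ≠ a) (hcb : c ≠ b) (x : F) : dvec a b x c = 1 := by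
  unfold dvec
  rw [Function.update_of_ne hcb, Function.update_of_ne hca]

include hF in
/-- **an element of order `p` among the rational points**, when `p` divides the number of fixed
points of the standard field automorphism -/
theorem exists_order_p_fieldU (hn : 3 ≤ n) (σ : RingAut F) (p : ℕ) [hp : Fact p.Prime]
    (hord : orderOf σ = p) (hdvd : p ∣ Nat.card ↥(fixPU n (fU (q := q) n σ))) :
    ∃ B : SUn, fieldSU n σ B = B ∧ orderOf (mkU n B) = p := by
  have hn1 : 1 ≤ n := by omega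
  by_cases hq : p ∣ q + 1
  · have hcard : Nat.card Fˣ = Fintype.card F - 1 := by
      rw [Nat.card_units, Nat.card_eq_fintype_card]
    have hq2 : p ∣ Fintype.card F - 1 := by
      rw [hF]
      have : q ^ 2 - 1 = (q + 1) * (q - 1) := by
        rcases Nat.eq_zero_or_pos q with h0 | h0
        · subst h0; simp
        · obtain ⟨t, rfl⟩ : ∃ t, q = t + 1 := ⟨q - 1, by omega⟩
          simp only [Nat.add_sub_cancel]
          have : (t + 1) ^ 2 = (t + 1 + 1) * t + 1 := by ring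
          rw [this, Nat.add_sub_cancel]
      rw [this]
      exact Dvd.dvd.mul_right hq _
    obtain ⟨ω, hω⟩ := exists_prime_orderOf_dvd_card' (G := Fˣ) p (hcard ▸ hq2)
    have hω' : orderOf (ω : F) = p := by rw [orderOf_units]; exact hω
    have hσω : σ (ω : F) = ω :=
      Cfsg.Agent.Lib.Helper6.Lbg.aut_fix_root σ p (hord ▸ pow_orderOf_eq_one σ) ω hω
    have hωp : (ω : F) ^ p = 1 := by rw [← hω']; exact pow_orderOf_eq_one _
    have hω1 : (ω : F) ≠ 1 := by
      intro h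
      rw [h, orderOf_one] at hω'
      exact hp.out.one_lt.ne hω'
    have hω0 : (ω : F) ≠ 0 := Units.ne_zero ω
    have hωq : (ω : F) ^ (q + 1) = 1 := by
      obtain ⟨k, hk⟩ := hq
      rw [hk, pow_mul, hωp, one_pow]
    obtain ⟨a, ha⟩ : ∃ a : Fin n, a = ⟨0, by omega⟩ := ⟨_, rfl⟩
    obtain ⟨b, hb⟩ : ∃ b : Fin n, b = ⟨1, by omega⟩ := ⟨_, rfl⟩
    obtain ⟨c, hc⟩ : ∃ c : Fin n, c = ⟨2, by omega⟩ := ⟨_, rfl⟩
    have hab : a ≠ b := by rw [ha, hb]; intro h; have := congrArg Fin.val h; simp at this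
    have hca : c ≠ a := by rw [ha, hc]; intro h; have := congrArg Fin.val h; simp at this
    have hcb : c ≠ b := by rw [hb, hc]; intro h; have := congrArg Fin.val h; simp at this
    obtain ⟨B, hB⟩ : ∃ B : SUn, ((B : Matrix.SpecialLinearGroup (Fin n) F) : Mn) =
        Matrix.diagonal (dvec a b (ω : F)) :=
      ⟨⟨Dab a b hab ω hω0, Dab_mem hF a b hab ω hω0 hωq⟩, rfl⟩
    refine ⟨B, ?_, ?_⟩
    · apply Subtype.ext
      apply Subtype.ext
      rw [fieldSU_coe, hB, Matrix.diagonal_map (map_zero σ)]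
      congr 1
      funext i
      by_cases hib : i = b
      · rw [hib, dvec_b, map_inv₀, hσω]
      · by_cases hia : i = a
        · rw [hia, dvec_a a b hab, hσω]
        · rw [dvec_other n hia hib, map_one]
    · apply orderOf_eq_prime
      · rw [← map_pow]
        have : B ^ p = 1 := by
          apply Subtype.ext
          apply Subtype.ext
          show ((B ^ p : SUn) : Matrix.SpecialLinearGroup (Fin n) F).1 = 1
          rw [Subgroup.coe_pow, Matrix.SpecialLinearGroup.coe_pow]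
          show ((B : Matrix.SpecialLinearGroup (Fin n) F) : Mn) ^ p = 1
          rw [hB, Matrix.diagonal_pow]
          have hdp : dvec a b (ω : F) ^ p = 1 := by
            funext i
            exact dvec_pow a b (ω : F) p hωp i
          rw [hdp]
          exact Matrix.diagonal_one
        rw [this, map_one]
      · intro h
        rw [mkU_eq_one_iff hF n hn1] at h
        obtain ⟨z, hz⟩ := h
        have e1 := congrFun (hz (Pi.single a 1)) a
        have e2 := congrFun (hz (Pi.single c 1)) c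
        rw [su_smul_eq, hB, Matrix.mulVec_diagonal, Pi.smul_apply, Pi.single_eq_same, smul_eq_mul,
          mul_one, mul_one, dvec_a a b hab] at e1
        rw [su_smul_eq, hB, Matrix.mulVec_diagonal, Pi.smul_apply, Pi.single_eq_same, smul_eq_mul,
          mul_one, mul_one, dvec_other n hca hcb] at e2
        exact hω1 (e1.trans e2.symm)
  · obtain ⟨z, hz⟩ := exists_prime_orderOf_dvd_card' p hdvd
    obtain ⟨A, hA⟩ := mkU_surjective n (z : PSUn)
    have hzfix : fU n σ (mkU n A) = mkU n A := by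
      rw [hA]
      exact z.2
    rw [fU_mkU] at hzfix
    obtain ⟨u, hu⟩ := (mkU_eq_iff hF n hn1 A (fieldSU n σ A)).mp hzfix.symm
    obtain ⟨e, f, he, hf, hef⟩ := exists_hyp_pair hF n (by omega)
    have hu1 : u ^ (q + 1) = 1 := by
      refine (scalar_props hF n hef (fieldSU n σ A * A⁻¹) u ?_).2
      intro v
      rw [mul_smul, hu, smul_inv_smul]
    refine ⟨A ^ (q + 1), ?_, ?_⟩
    · rw [map_pow]
      apply su_ext
      intro v
      rw [pow_smul_scalar n A (fieldSU n σ A) u hu (q + 1) v, hu1, one_smul]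
    · have hzo : orderOf (z : PSUn) = p := by rw [Subgroup.orderOf_coe]; exact hz
      rw [map_pow, hA, Nat.Coprime.orderOf_pow, hzo]
      rw [hzo]
      exact (Nat.Prime.coprime_iff_not_dvd hp.out).mpr hq

end orderp

section he1

variable {F : Type*} [Field F] [Fintype F] {q : ℕ} (hF : Fintype.card F = q ^ 2) (n : ℕ)
  {F₀ : Type*} [Field F₀] [Fintype F₀] {q₀ : ℕ} (hF₀ : Fintype.card F₀ = q₀ ^ 2)
  (ι : F₀ →+* F) (hq₀ : ∀ x : F₀, (ι x) ^ q = ι (x ^ q₀))

include hF hF₀ hq₀ in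
/-- the "no invariant `p'`-subgroup" hypothesis for the rational points, in the generic case -/
theorem he1_fieldU (hn : 3 ≤ n) (h32 : ¬ (n = 3 ∧ q₀ = 2)) (σ : RingAut F)
    (hι : ∀ a : F, σ a = a ↔ a ∈ Set.range ι) (p : ℕ) [hp : Fact p.Prime]
    (hk : ∃ B : ↥(Cfsg.SU n F q), fieldSU n σ B = B ∧ orderOf (mkU n B) = p)
    (M : Subgroup (Cfsg.PSU n F q)) (hM : M ≤ (fixSU n (fieldSU (q := q) n σ)).map (mkU n))
    (hMn : ∀ z ∈ (fixSU n (fieldSU (q := q) n σ)).map (mkU n), ∀ m ∈ M, z * m * z⁻¹ ∈ M)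
    (hMc : (Nat.card M).Coprime p) : M = ⊥ := by
  have hn1 : 1 ≤ n := by omega
  have hι' : ∀ t : F₀, σ (ι t) = ι t := fun t => (hι _).mpr ⟨t, rfl⟩
  obtain ⟨M', hM'⟩ : ∃ M' : Subgroup ↥(Cfsg.SU n F₀ q₀),
      M' = M.comap ((mkU n).comp (embSU hF n hF₀ ι hq₀)) := ⟨_, rfl⟩
  have hM'n : M'.Normal := by
    constructor
    intro s hs t
    rw [hM', Subgroup.mem_comap] at hs ⊢
    rw [map_mul, map_mul, map_inv]
    exact hMn _ ⟨embSU hF n hF₀ ι hq₀ t, embSU_fixed hF n hF₀ ι hq₀ σ hι' t, rfl⟩ _ hs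
  rcases Cfsg.Agent.Lib.Helper6.Lbg.su_dichotomy hF₀ hn h32 M' with hc | hc
  · exfalso
    rw [Cfsg.Agent.Lib.Helper6.Lbg.su_perfect hF₀ hn h32] at hc
    obtain ⟨B, hB, hBo⟩ := hk
    obtain ⟨s₀, rfl⟩ := exists_embSU_eq hF n hF₀ ι hq₀ σ (fun a ha => (hι a).mp ha) B hB
    have h1 : s₀ ∈ M' := hc (Subgroup.mem_top _)
    rw [hM', Subgroup.mem_comap] at h1
    have h3 : p ∣ Nat.card M := by
      rw [← hBo]
      exact Subgroup.orderOf_dvd_natCard M h1
    have h4 := Nat.Coprime.eq_one_of_dvd hMc.symm h3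
    exact hp.out.one_lt.ne' h4
  · rw [eq_bot_iff]
    intro x hx
    obtain ⟨s, hs, rfl⟩ := hM hx
    obtain ⟨m, rfl⟩ := exists_embSU_eq hF n hF₀ ι hq₀ σ (fun a ha => (hι a).mp ha) s hs
    rw [Subgroup.mem_bot]
    apply mkU_embSU_eq_one hF n hF₀ ι hq₀ hn1
    have hm : m ∈ M' := by
      rw [hM', Subgroup.mem_comap]
      exact hx
    obtain ⟨a, ha⟩ := hc m hm
    rw [mkU_eq_one_iff hF₀ n hn1]
    refine ⟨a, fun v => ?_⟩
    rw [su_smul_eq, ha, smul_mulVec, one_mulVec]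

end he1

end Cfsg.Agent.Lib.Helper2.Lbu
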