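import Mathlib
import Cfsg.Prelude
import Cfsg.Agent.Lib.Helper2.LbuB

set_option autoImplicit false
set_option linter.unusedSectionVars false
set_option linter.unusedVariables false
open Cfsg

/-! Local balance for `PSU_n`: semilinear maps fixing the isotropic points which are rational over a
subfield. -/

namespace Cfsg.Agent.Lib.Helper2.Lbu

open Matrix Cfsg.Agent.Lib.Helper9.APSU Cfsg.Agent.Lib.Helper9.ALB
  Cfsg.Agent.Lib.Helper5.Herm Cfsg.Agent.Lib.Helper5.HermBlock
  Cfsg.Agent.Lib.Helper5.HermTv Cfsg.Agent.Lib.Helper5.HermEich Cfsg.Agent.Lib.Helper5.HermSU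
  Cfsg.Agent.Lib.Helper5.HermSimple Cfsg.Agent.Lib.Helper5.HermCenter

attribute [local instance 2000] suSMul suAction suSMulComm

section semi

variable {F : Type*} [Field F] [Fintype F] {q : ℕ} (hF : Fintype.card F = q ^ 2) (n : ℕ)
  {F₀ : Type*} [Field F₀] [Fintype F₀] {q₀ : ℕ} (hF₀ : Fintype.card F₀ = q₀ ^ 2)
  (ι : F₀ →+* F) (hq₀ : ∀ x : F₀, (ι x) ^ q = ι (x ^ q₀))

/-- the rational vectors -/
def iv (x : Fin n → F₀) : Fin n → F := fun i => ι (x i)

omit [Fintype F] [Fintype F₀] in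
theorem iv_add (x y : Fin n → F₀) : iv n ι (x + y) = iv n ι x + iv n ι y := by
  funext i
  simp [iv]

omit [Fintype F] [Fintype F₀] in
theorem iv_smul (t : F₀) (x : Fin n → F₀) : iv n ι (t • x) = ι t • iv n ι x := by
  funext i
  simp [iv]

omit [Fintype F] [Fintype F₀] in
theorem iv_zero : iv n ι (0 : Fin n → F₀) = 0 := by
  funext i
  simp [iv]

omit [Fintype F] [Fintype F₀] in
theorem iv_injective : Function.Injective (iv n ι) := by
  intro x y h
  funext i
  exact ι.injective (congrFun h i)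

omit [Fintype F] [Fintype F₀] in
theorem iv_ne_zero {x : Fin n → F₀} (hx : x ≠ 0) : iv n ι x ≠ 0 := by
  intro h
  apply hx
  apply iv_injective n ι
  rw [h, iv_zero]

omit [Fintype F] [Fintype F₀] in
include hq₀ in
theorem herm_iv (x y : Fin n → F₀) :
    hermForm n F q (iv n ι x) (iv n ι y) = ι (hermForm n F₀ q₀ x y) := by
  unfold hermForm iv
  rw [map_sum]
  apply Finset.sum_congr rfl
  intro i _
  rw [hq₀, map_mul]

include hF hF₀ hq₀ in
/-- **a semilinear injection fixing all rational isotropic points** is the identity on the subfield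
and a scalar on the rational vectors -/
theorem semi_fix_iso_rat (hn : 3 ≤ n) (σ : F ≃+* F) (δ : (Fin n → F) → (Fin n → F))
    (hadd : ∀ u v, δ (u + v) = δ u + δ v)
    (hsmul : ∀ (c : F) (v : Fin n → F), δ (c • v) = σ c • δ v)
    (hinj : ∀ v, δ v = 0 → v = 0)
    (hiso : ∀ x : Fin n → F₀, x ≠ 0 → hermForm n F₀ q₀ x x = 0 →
      ∃ a : F, δ (iv n ι x) = a • iv n ι x) :
    (∀ t : F₀, σ (ι t) = ι t) ∧ ∃ c : F, ∀ x : Fin n → F₀, δ (iv n ι x) = c • iv n ι x := by
  obtain ⟨e, f, he, hf, hef⟩ := exists_hyp_pair hF₀ n (by omega)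
  have hfe : hermForm n F₀ q₀ f e = 1 := herm_fe hF₀ hef
  have he0 : e ≠ 0 := e_ne_zero n hef
  have hf0 : f ≠ 0 := f_ne_zero hF₀ n hef
  -- the relation on a hyperbolic line
  have hstar : ∀ (x y : Fin n → F₀) (ax ay : F), hermForm n F₀ q₀ x x = 0 →
      hermForm n F₀ q₀ y y = 0 → hermForm n F₀ q₀ x y = 1 → δ (iv n ι x) = ax • iv n ι x →
      δ (iv n ι y) = ay • iv n ι y → ∀ c : F₀, c ^ q₀ = -c → σ (ι c) * ay = ax * ι c := by
    intro x y ax ay hx hy hxy hax hay c hc
    have hyx : hermForm n F₀ q₀ y x = 1 := herm_fe hF₀ hxy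
    have hz : hermForm n F₀ q₀ (x + c • y) (x + c • y) = 0 := by
      simp only [hermForm_add_left, hermForm_add_right hF₀, hermForm_smul_left, hermForm_smul_right,
        hx, hy, hxy, hyx, hc]
      ring
    have hz0 : x + c • y ≠ 0 := by
      intro h0
      have := congrArg (fun v => hermForm n F₀ q₀ v y) h0
      simp only [hermForm_add_left, hermForm_smul_left, hxy, hy, hermForm_zero_left] at this
      simp at this
    obtain ⟨a, ha⟩ := hiso _ hz0 hz
    rw [iv_add, iv_smul, hadd, hsmul, hax, hay] at ha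
    have g1 := congrArg (fun v => hermForm n F q v (iv n ι y)) ha
    have g2 := congrArg (fun v => hermForm n F q v (iv n ι x)) ha
    simp only [hermForm_add_left, hermForm_smul_left, herm_iv n ι hq₀, hx, hy, hxy, hyx,
      map_zero, map_one] at g1 g2
    have : a = ax := by linear_combination -g1
    rw [this] at g2
    linear_combination g2
  obtain ⟨ae, hae⟩ := hiso e he0 he
  obtain ⟨af, haf⟩ := hiso f hf0 hf
  have hae0 : ae ≠ 0 := by
    rintro rfl
    rw [zero_smul] at hae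
    exact iv_ne_zero n ι he0 (hinj _ hae)
  obtain ⟨w₁, hw₁, hd⟩ := exists_W_aniso hF₀ n he hf hef hn
  have hdq : (hermForm n F₀ q₀ w₁ w₁) ^ q₀ = hermForm n F₀ q₀ w₁ w₁ := herm_self_fixed hF₀ n w₁
  have hew₁ : hermForm n F₀ q₀ e w₁ = 0 := herm_symm_zero hF₀ n hw₁.1
  have hfw₁ : hermForm n F₀ q₀ f w₁ = 0 := herm_symm_zero hF₀ n hw₁.2
  -- the main relation
  have hA : ∀ l : F₀, l ≠ 0 → l ^ q₀ = -l → ∀ μ : F₀, μ + μ ^ q₀ ≠ 0 →
      σ (ι μ) * σ (ι l) = ι l * ι μ := by
    intro l hl0 hl μ hμ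
    have ht0 : -(μ + μ ^ q₀) / hermForm n F₀ q₀ w₁ w₁ ≠ 0 := div_ne_zero (neg_ne_zero.mpr hμ) hd
    have htq : (-(μ + μ ^ q₀) / hermForm n F₀ q₀ w₁ w₁) ^ q₀ =
        -(μ + μ ^ q₀) / hermForm n F₀ q₀ w₁ w₁ := by
      rw [div_pow, hdq, pow_q_neg hF₀, pow_q_add hF₀, pow_q_pow_q hF₀]
      ring
    obtain ⟨ν, hν⟩ := Cfsg.Agent.Lib.Helper5.HermCount.exists_norm_eq hF₀ _ ht0 htq
    have hμ0 : μ ≠ 0 := by
      rintro rfl
      apply hμ
      rw [zero_pow (q_ne_zero hF₀), add_zero]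
    obtain ⟨z, hzdef⟩ : ∃ z : Fin n → F₀, z = e + μ • f + ν • w₁ := ⟨_, rfl⟩
    have hνd : ν * (ν ^ q₀ * hermForm n F₀ q₀ w₁ w₁) = -(μ + μ ^ q₀) := by
      rw [← mul_assoc, ← pow_succ', hν]
      field_simp
    have hz : hermForm n F₀ q₀ z z = 0 := by
      rw [hzdef]
      simp only [hermForm_add_left, hermForm_add_right hF₀, hermForm_smul_left, hermForm_smul_right,
        he, hf, hef, hfe, hw₁.1, hw₁.2, hew₁, hfw₁]
      linear_combination hνd
    have hfz : hermForm n F₀ q₀ f z = 1 := by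
      rw [hzdef]
      simp only [hermForm_add_right hF₀, hermForm_smul_right, hf, hfe, hfw₁]
      ring
    have hez : hermForm n F₀ q₀ e z = μ ^ q₀ := by
      rw [hzdef]
      simp only [hermForm_add_right hF₀, hermForm_smul_right, he, hef, hew₁]
      ring
    have hz0 : z ≠ 0 := by
      intro h0
      rw [h0, hermForm_zero_right hF₀] at hfz
      exact zero_ne_one hfz
    obtain ⟨az, haz⟩ := hiso z hz0 hz
    have h1 := hstar e f ae af he hf hef hae haf l hl
    have h2 := hstar f z af az hf hz hfz haf haz l hl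
    have hz' : hermForm n F₀ q₀ (μ⁻¹ • z) (μ⁻¹ • z) = 0 := by
      rw [hermForm_smul_left, hermForm_smul_right, hz]
      ring
    have hez' : hermForm n F₀ q₀ e (μ⁻¹ • z) = 1 := by
      rw [hermForm_smul_right, hez, inv_pow, inv_mul_cancel₀ (pow_ne_zero _ hμ0)]
    have haz' : δ (iv n ι (μ⁻¹ • z)) = (σ (ι μ⁻¹) * az * ι μ) • iv n ι (μ⁻¹ • z) := by
      rw [iv_smul, hsmul, haz, smul_smul, smul_smul]
      congr 1
      rw [mul_assoc (σ (ι μ⁻¹) * az), ← map_mul, mul_inv_cancel₀ hμ0, map_one, mul_one]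
    have h3 := hstar e (μ⁻¹ • z) ae _ he hz' hez' hae haz' l hl
    have hσμ : σ (ι μ⁻¹) * σ (ι μ) = 1 := by
      rw [← map_mul, ← map_mul, inv_mul_cancel₀ hμ0, map_one, map_one]
    have hL0 : ι l ≠ 0 := (map_ne_zero ι).mpr hl0
    have key : ae * ι l * (σ (ι μ) * σ (ι l) - ι l * ι μ) = 0 := by
      linear_combination (-(σ (ι l) * σ (ι μ))) * h3 + (σ (ι l) ^ 2 * az * ι μ) * hσμ +
        (σ (ι l) * ι μ) * h2 + (ι l * ι μ) * h1
    rcases mul_eq_zero.mp key with h | h
    · exact absurd h (mul_ne_zero hae0 hL0)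
    · exact sub_eq_zero.mp h
  -- a trace-zero element fixed by `σ`
  obtain ⟨l, hl0, hl, hσl⟩ : ∃ l : F₀, l ≠ 0 ∧ l ^ q₀ = -l ∧ σ (ι l) = ι l := by
    by_cases h2 : (2 : F₀) = 0
    · refine ⟨1, one_ne_zero, ?_, by rw [map_one, map_one]⟩
      rw [one_pow]
      linear_combination h2
    · obtain ⟨l, hl0, hl⟩ := exists_trace_zero hF₀
      refine ⟨l, hl0, hl, ?_⟩
      have h1 := hA l hl0 hl 1 (by
        rw [one_pow]
        intro h
        apply h2
        linear_combination h)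
      rw [map_one, map_one, one_mul, mul_one] at h1
      exact h1
  have hL0 : ι l ≠ 0 := (map_ne_zero ι).mpr hl0
  have htr : ∀ μ : F₀, μ + μ ^ q₀ ≠ 0 → σ (ι μ) = ι μ := by
    intro μ hμ
    have h1 := hA l hl0 hl μ hμ
    rw [hσl] at h1
    exact mul_right_cancel₀ hL0 (by rw [h1, mul_comm])
  have hfix : ∀ t : F₀, σ (ι t) = ι t := by
    intro b
    by_cases hb : b + b ^ q₀ = 0
    · obtain ⟨r, hr⟩ := exists_trace_eq hF₀ (1 : F₀) (one_pow q₀)
      have h1 : σ (ι r) = ι r := htr r (by rw [hr]; exact one_ne_zero)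
      have h2 : σ (ι (b + r)) = ι (b + r) := by
        apply htr
        rw [pow_q_add hF₀]
        have : b + r + (b ^ q₀ + r ^ q₀) = (b + b ^ q₀) + (r + r ^ q₀) := by ring
        rw [this, hb, hr, zero_add]
        exact one_ne_zero
      rw [map_add, map_add, h1] at h2
      exact add_right_cancel h2
    · exact htr b hb
  have hpair : ∀ (x y : Fin n → F₀) (ax ay : F), hermForm n F₀ q₀ x x = 0 →
      hermForm n F₀ q₀ y y = 0 → hermForm n F₀ q₀ x y = 1 → δ (iv n ι x) = ax • iv n ι x →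
      δ (iv n ι y) = ay • iv n ι y → ay = ax := by
    intro x y ax ay hx hy hxy hax hay
    have h1 := hstar x y ax ay hx hy hxy hax hay l hl
    rw [hσl] at h1
    exact mul_left_cancel₀ hL0 (by rw [h1, mul_comm])
  have haf' : af = ae := hpair e f ae af he hf hef hae haf
  refine ⟨hfix, ae, ?_⟩
  have hW : ∀ w : Fin n → F₀, hermForm n F₀ q₀ w e = 0 → hermForm n F₀ q₀ w f = 0 →
      δ (iv n ι w) = ae • iv n ι w := by
    intro w hwe hwf
    have hew : hermForm n F₀ q₀ e w = 0 := herm_symm_zero hF₀ n hwe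
    have hfw : hermForm n F₀ q₀ f w = 0 := herm_symm_zero hF₀ n hwf
    obtain ⟨μ, hμ⟩ := exists_trace_eq hF₀ (-(hermForm n F₀ q₀ w w))
      (by rw [pow_q_neg hF₀, herm_self_fixed hF₀ n w])
    obtain ⟨z, hzdef⟩ : ∃ z : Fin n → F₀, z = e + μ • f + w := ⟨_, rfl⟩
    have hz : hermForm n F₀ q₀ z z = 0 := by
      rw [hzdef]
      simp only [hermForm_add_left, hermForm_add_right hF₀, hermForm_smul_left, hermForm_smul_right,
        he, hf, hef, hfe, hwe, hwf, hew, hfw]
      linear_combination hμ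
    have hfz : hermForm n F₀ q₀ f z = 1 := by
      rw [hzdef]
      simp only [hermForm_add_right hF₀, hermForm_smul_right, hf, hfe, hfw]
      ring
    have hz0 : z ≠ 0 := by
      intro h0
      rw [h0, hermForm_zero_right hF₀] at hfz
      exact zero_ne_one hfz
    obtain ⟨az, haz⟩ := hiso z hz0 hz
    have h1 : az = af := hpair f z af az hf hz hfz haf haz
    rw [h1, haf', hzdef, iv_add, iv_add, iv_smul, hadd, hadd, hsmul, hae, haf, haf', hfix] at haz
    have : δ (iv n ι w) = ae • (iv n ι e + ι μ • iv n ι f + iv n ι w) - ae • iv n ι e -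
        ι μ • ae • iv n ι f := by
      rw [← haz]
      abel
    rw [this]
    module
  intro x
  have hx := prW_decomp n (q := q₀) (e := e) (f := f) x
  have h1 : δ (iv n ι x) = δ (iv n ι (prW n q₀ e f x + hermForm n F₀ q₀ x f • e +
      hermForm n F₀ q₀ x e • f)) := by rw [← hx]
  have h2 : iv n ι x = iv n ι (prW n q₀ e f x + hermForm n F₀ q₀ x f • e +
      hermForm n F₀ q₀ x e • f) := by rw [← hx]
  rw [h1, h2, iv_add, iv_add, iv_smul, iv_smul, hadd, hadd, hsmul, hsmul, hfix, hfix, hae, haf,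
    haf', hW _ (prW_e hF₀ n he hef x) (prW_f n hf hef x)]
  module

omit [Fintype F] [Fintype F₀] in
theorem vmap_iv (σ : F ≃+* F) (hfix : ∀ t : F₀, σ (ι t) = ι t) (x : Fin n → F₀) :
    vmap n σ (iv n ι x) = iv n ι x := by
  funext i
  exact hfix (x i)

omit [Fintype F] [Fintype F₀] in
theorem iv_single (j : Fin n) : iv n ι (Pi.single j 1) = Pi.single j 1 := by
  funext i
  unfold iv
  by_cases h : i = j
  · rw [h, Pi.single_eq_same, Pi.single_eq_same, map_one]
  · rw [Pi.single_eq_of_ne h, Pi.single_eq_of_ne h, map_zero]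

include hF hF₀ hq₀ in
/-- **the centraliser of the rational points** consists of field automorphisms trivial on the
fixed field -/
theorem cent_fieldU (hn : 3 ≤ n) (h32 : ¬ (n = 3 ∧ q = 2)) (r : ℕ) [Fact r.Prime] [CharP F r]
    (σ : RingAut F) (hι : ∀ a : F, σ a = a ↔ a ∈ Set.range ι)
    (ρ : MulAut (Cfsg.PSU n F q))
    (hρ : ∀ s : ↥(Cfsg.SU n F q), fieldSU n σ s = s → ρ (mkU n s) = mkU n s) :
    ρ ∈ Subgroup.zpowers (fU (q := q) n σ) := by
  have hn1 : 1 ≤ n := by omega
  have hι' : ∀ t : F₀, σ (ι t) = ι t := fun t => (hι _).mpr ⟨t, rfl⟩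
  obtain ⟨τ', h, rfl⟩ := exists_std hF n hn h32 r ρ
  have key := semi_fix_iso_rat hF n hF₀ ι hq₀ hn τ' (fun v => gact n h (vmap n τ' v))
    (by
      intro u v
      rw [vmap_add, gact_add])
    (by
      intro c v
      rw [vmap_smul, gact_smul])
    (by
      intro v hv
      have h1 := congrArg (gact n h⁻¹) hv
      rw [gact_inv_gact, gact_zero] at h1
      have h2 := congrArg (vmap n τ'.symm) h1
      rw [vmap_symm', vmap_zero] at h2
      exact h2)
    (by
      intro x hx0 hx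
      obtain ⟨c, hc0, hc⟩ := exists_trace_zero hF₀
      have hX : hermForm n F q (iv n ι x) (iv n ι x) = 0 := by
        rw [herm_iv n ι hq₀, hx, map_zero]
      have hC : (ι c) ^ q = -ι c := by rw [hq₀, hc, map_neg]
      have hC0 : ι c ≠ 0 := (map_ne_zero ι).mpr hc0
      have H := EHyp_of_iso n hX hC
      have hfixed : fieldSU n σ (Es hF n (iv n ι x) 0 (ι c)) = Es hF n (iv n ι x) 0 (ι c) := by
        rw [fieldSU_Es hF n σ H]
        exact Es_congr hF n (vmap_iv n ι σ hι' x) (vmap_zero n σ) (hι' c)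
      have h1 := hρ _ hfixed
      rw [MulAut.mul_apply, fU_mkU, cU_mkU, fieldSU_Es hF n τ' H,
        conjSU_Es hF n h (EHyp_vmap n τ' H)] at h1
      have h2 := Es_mkU_inj hF n hn1 (EHyp_conj n h (EHyp_vmap n τ' H)) H h1
      rw [vmap_zero, gact_zero] at h2
      have hτc0 : τ' (ι c) ≠ 0 := by rw [Ne, map_eq_zero_iff τ' τ'.injective]; exact hC0
      have hτc : (τ' (ι c)) ^ q = -τ' (ι c) := by rw [← map_pow, hC, map_neg]
      have hy0 : gact n h (vmap n τ' (iv n ι x)) ≠ 0 := by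
        intro h0
        have h3 := congrArg (gact n h⁻¹) h0
        rw [gact_inv_gact, gact_zero] at h3
        have h4 := congrArg (vmap n τ'.symm) h3
        rw [vmap_symm', vmap_zero] at h4
        exact iv_ne_zero n ι hx0 h4
      exact root_centre_unique hF n hy0 (EHyp_conj n h (EHyp_vmap n τ' H)).hx hX hτc0 hτc hC h2)
  obtain ⟨hfix, c, hc⟩ := key
  have hτz : τ' ∈ Subgroup.zpowers σ := by
    apply Cfsg.Agent.Lib.Helper6.Lbg.zpowers_of_fixes' σ τ'
    intro a ha
    obtain ⟨t, rfl⟩ := (hι a).mp ha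
    exact hfix t
  have hcol : ∀ j : Fin n, gact n h (Pi.single j 1) = c • Pi.single j 1 := by
    intro j
    have := hc (Pi.single j 1)
    rw [vmap_iv n ι τ' hfix, iv_single] at this
    exact this
  have hmat : ((h : GL (Fin n) F) : Matrix (Fin n) (Fin n) F) =
      c • (1 : Matrix (Fin n) (Fin n) F) := by
    ext i j
    have := congrFun (hcol j) i
    unfold gact at this
    rw [Matrix.mulVec_single_one] at this
    rw [Matrix.col_apply] at this
    rw [this, Matrix.smul_apply, Matrix.one_apply, Pi.smul_apply, Pi.single_apply]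
  have hcU : cU n h = 1 := by
    rw [← MonoidHom.mem_ker, mem_ker_cU hF n hn]
    refine ⟨c, fun v => ?_⟩
    unfold gact
    rw [hmat, smul_mulVec, one_mulVec]
  rw [hcU, one_mul]
  obtain ⟨k, rfl⟩ := Subgroup.mem_zpowers_iff.mp hτz
  rw [map_zpow]
  exact Subgroup.zpow_mem_zpowers _ k

end semi

end Cfsg.Agent.Lib.Helper2.Lbu
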