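import Mathlib
import Cfsg.Prelude
import Cfsg.Agent.Lib.Helper2.LbuC
import Cfsg.Agent.Lib.Helper5.SU32b

set_option autoImplicit false
set_option linter.unusedSectionVars false
set_option linter.unusedVariables false
open Cfsg

/-! Local balance for `PSU_n`: the field automorphisms whose fixed points are `PSU_3(2)`. -/

namespace Cfsg.Agent.Lib.Helper2.Lbu

open Matrix Cfsg.Agent.Lib.Helper9.APSU Cfsg.Agent.Lib.Helper9.ALB
  Cfsg.Agent.Lib.Helper5.Herm Cfsg.Agent.Lib.Helper5.HermBlock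
  Cfsg.Agent.Lib.Helper5.HermTv Cfsg.Agent.Lib.Helper5.HermEich Cfsg.Agent.Lib.Helper5.HermSU
  Cfsg.Agent.Lib.Helper5.HermSimple Cfsg.Agent.Lib.Helper5.HermCenter

attribute [local instance 2000] suSMul suAction suSMulComm

/-- a group with trivial centre which is an extension of a group of exponent `3` by the quaternion
group has no nontrivial normal `3'`-subgroup -/
theorem bot_of_q8_quotient {G : Type*} [Group G] [Finite G] (N : Subgroup G) [N.Normal]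
    (hN3 : ∀ x ∈ N, x ^ 3 = 1) (φ : G ⧸ N ≃* QuaternionGroup 2)
    (hZ : Subgroup.center G = ⊥) (M : Subgroup G) [hMn : M.Normal]
    (hMc : (Nat.card M).Coprime 3) : M = ⊥ := by
  have hMN : ∀ x ∈ M, x ∈ N → x = 1 := by
    intro x hxM hxN
    have h1 : orderOf x ∣ 3 := orderOf_dvd_of_pow_eq_one (hN3 x hxN)
    have h2 : orderOf x ∣ Nat.card M := Subgroup.orderOf_dvd_natCard M hxM
    have h3 : orderOf x ∣ 1 := by
      have := Nat.dvd_gcd h2 h1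
      rwa [Nat.Coprime.gcd_eq_one hMc] at this
    exact orderOf_eq_one_iff.mp (Nat.dvd_one.mp h3)
  by_contra hne
  obtain ⟨⟨m', hm'M⟩, hm'1⟩ := Subgroup.ne_bot_iff_exists_ne_one.mp hne
  have hm'1' : m' ≠ 1 := fun h => hm'1 (Subtype.ext h)
  obtain ⟨ψ, hψ⟩ : ∃ ψ : G →* QuaternionGroup 2, ψ = φ.toMonoidHom.comp (QuotientGroup.mk' N) :=
    ⟨_, rfl⟩
  have hker : ∀ x : G, ψ x = 1 ↔ x ∈ N := by
    intro x
    rw [hψ]
    show φ (QuotientGroup.mk' N x) = 1 ↔ _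
    rw [MulEquiv.map_eq_one_iff, QuotientGroup.mk'_apply, QuotientGroup.eq_one_iff]
  have hψm' : ψ m' ≠ 1 := fun h => hm'1' (hMN m' hm'M ((hker m').mp h))
  have hq1 : ∀ x : QuaternionGroup 2, x ≠ 1 →
      x = QuaternionGroup.a 2 ∨ x ^ 2 = QuaternionGroup.a 2 := by decide
  have hq2 : ∀ y : QuaternionGroup 2, y * QuaternionGroup.a 2 = QuaternionGroup.a 2 * y := by
    decide
  have hq3 : (QuaternionGroup.a 2 : QuaternionGroup 2) ≠ 1 := by decide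
  obtain ⟨m, hmM, hψm⟩ : ∃ m ∈ M, ψ m = QuaternionGroup.a 2 := by
    rcases hq1 _ hψm' with h | h
    · exact ⟨m', hm'M, h⟩
    · exact ⟨m' ^ 2, M.pow_mem hm'M 2, by rw [map_pow, h]⟩
  have hcomm : ∀ g : G, g * m = m * g := by
    intro g
    have h1 : g * m * g⁻¹ * m⁻¹ ∈ M := M.mul_mem (hMn.conj_mem m hmM g) (M.inv_mem hmM)
    have h2 : g * m * g⁻¹ * m⁻¹ ∈ N := by
      rw [← hker, map_mul, map_mul, map_mul, map_inv, map_inv, hψm, hq2 (ψ g)]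
      group
    have h3 := hMN _ h1 h2
    calc g * m = (g * m * g⁻¹ * m⁻¹) * m * g := by group
      _ = m * g := by rw [h3, one_mul]
  have hmZ : m ∈ Subgroup.center G := by
    rw [Subgroup.mem_center_iff]
    exact hcomm
  rw [hZ, Subgroup.mem_bot] at hmZ
  rw [hmZ, map_one] at hψm
  exact hq3 hψm.symm

section case32

variable {F : Type*} [Field F] [Fintype F] {q : ℕ} (hF : Fintype.card F = q ^ 2)
  {F₀ : Type*} [Field F₀] [Fintype F₀] (hF₀ : Fintype.card F₀ = 2 ^ 2)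
  (ι : F₀ →+* F) (hq₀ : ∀ x : F₀, (ι x) ^ q = ι (x ^ 2))

/-- the embedding of `PSU_3(2)` -/
noncomputable def embP : Cfsg.PSU 3 F₀ 2 →* Cfsg.PSU 3 F q :=
  QuotientGroup.lift (Subgroup.center ↥(Cfsg.SU 3 F₀ 2))
    ((mkU 3).comp (embSU hF 3 hF₀ ι hq₀)) (by
      intro s hs
      rw [MonoidHom.mem_ker]
      show mkU 3 (embSU hF 3 hF₀ ι hq₀ s) = 1
      apply mkU_embSU_eq_one hF 3 hF₀ ι hq₀ (by norm_num)
      exact (QuotientGroup.eq_one_iff s).mpr hs)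

theorem embP_mkU (s : ↥(Cfsg.SU 3 F₀ 2)) :
    embP hF hF₀ ι hq₀ (mkU 3 s) = mkU 3 (embSU hF 3 hF₀ ι hq₀ s) := rfl

theorem embP_injective : Function.Injective (embP hF hF₀ ι hq₀) := by
  rw [injective_iff_map_eq_one]
  intro x hx
  obtain ⟨s, rfl⟩ := mkU_surjective 3 x
  rw [embP_mkU] at hx
  exact mkU_eq_one_of_embSU hF 3 hF₀ ι hq₀ (by norm_num) s hx

include hF hF₀ hq₀ in
/-- the "no invariant `p'`-subgroup" hypothesis for the rational points `PSU_3(2)` -/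
theorem he1_fieldU_32 (σ : RingAut F) (hι : ∀ a : F, σ a = a ↔ a ∈ Set.range ι) (p : ℕ)
    [hp : Fact p.Prime] (hp2 : p ≠ 2)
    (hk : ∃ B : ↥(Cfsg.SU 3 F q), fieldSU 3 σ B = B ∧ orderOf (mkU 3 B) = p)
    (M : Subgroup (Cfsg.PSU 3 F q)) (hM : M ≤ (fixSU 3 (fieldSU (q := q) 3 σ)).map (mkU 3))
    (hMn : ∀ z ∈ (fixSU 3 (fieldSU (q := q) 3 σ)).map (mkU 3), ∀ m ∈ M, z * m * z⁻¹ ∈ M)
    (hMc : (Nat.card M).Coprime p) : M = ⊥ := by
  have hι' : ∀ t : F₀, σ (ι t) = ι t := fun t => (hι _).mpr ⟨t, rfl⟩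
  have hcard : Nat.card (Cfsg.PSU 3 F₀ 2) = 72 := Cfsg.Agent.Lib.Helper5.SU32b.card_G hF₀
  have hinj := embP_injective hF hF₀ ι hq₀
  -- `p = 3`
  have hp3 : p = 3 := by
    obtain ⟨B, hB, hBo⟩ := hk
    obtain ⟨s₀, rfl⟩ := exists_embSU_eq hF 3 hF₀ ι hq₀ σ (fun a ha => (hι a).mp ha) B hB
    rw [← embP_mkU, orderOf_injective _ hinj] at hBo
    have h1 : p ∣ 72 := by
      rw [← hcard, ← hBo]
      exact orderOf_dvd_natCard _
    have h2 : (72 : ℕ) = 2 ^ 3 * 3 ^ 2 := by norm_num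
    rw [h2] at h1
    rcases (Nat.Prime.dvd_mul hp.out).mp h1 with h | h
    · exact absurd ((Nat.prime_dvd_prime_iff_eq hp.out Nat.prime_two).mp
        (hp.out.dvd_of_dvd_pow h)) hp2
    · exact (Nat.prime_dvd_prime_iff_eq hp.out Nat.prime_three).mp (hp.out.dvd_of_dvd_pow h)
  subst hp3
  obtain ⟨M₁, hM₁⟩ : ∃ M₁ : Subgroup (Cfsg.PSU 3 F₀ 2), M₁ = M.comap (embP hF hF₀ ι hq₀) :=
    ⟨_, rfl⟩
  have hM₁n : M₁.Normal := by
    constructor
    intro y hy g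
    rw [hM₁, Subgroup.mem_comap] at hy ⊢
    rw [map_mul, map_mul, map_inv]
    obtain ⟨s, rfl⟩ := mkU_surjective 3 g
    rw [embP_mkU]
    exact hMn _ ⟨embSU hF 3 hF₀ ι hq₀ s, embSU_fixed hF 3 hF₀ ι hq₀ σ hι' s, rfl⟩ _ hy
  have hM₁c : (Nat.card M₁).Coprime 3 := by
    have h1 : Nat.card M₁ ∣ Nat.card M := by
      rw [hM₁]
      apply Subgroup.card_dvd_of_injective ((embP hF hF₀ ι hq₀).subgroupComap M)
      intro x y hxy
      apply Subtype.ext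
      apply hinj
      exact congrArg Subtype.val hxy
    exact Nat.Coprime.coprime_dvd_left h1 hMc
  obtain ⟨N, hNn, -, hN3, ⟨φ⟩⟩ := Cfsg.Agent.Lib.Helper5.SU32b.main hF₀
  have hbot : M₁ = ⊥ :=
    bot_of_q8_quotient N hN3 φ (centerU_eq_bot hF₀ 3 (le_refl 3)) M₁ hM₁c
  rw [eq_bot_iff]
  intro x hx
  obtain ⟨s, hs, rfl⟩ := hM hx
  obtain ⟨s₁, rfl⟩ := exists_embSU_eq hF 3 hF₀ ι hq₀ σ (fun a ha => (hι a).mp ha) s hs
  rw [Subgroup.mem_bot, ← embP_mkU]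
  have h1 : mkU 3 s₁ ∈ M₁ := by
    rw [hM₁, Subgroup.mem_comap, embP_mkU]
    exact hx
  rw [hbot, Subgroup.mem_bot] at h1
  rw [h1, map_one]

end case32

end Cfsg.Agent.Lib.Helper2.Lbu
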