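import Mathlib
import Cfsg.Prelude
import Cfsg.Agent.Lib.Helper2.LbuD
import Cfsg.Agent.Lib.Helper2.Lbf1

set_option autoImplicit false
set_option linter.unusedSectionVars false
set_option linter.unusedVariables false
open Cfsg

/-! Local balance for `PSU_n`: the field automorphisms of odd prime order. -/

namespace Cfsg.Agent.Lib.Helper2.Lbu

open Matrix Cfsg.Agent.Lib.Helper9.APSU Cfsg.Agent.Lib.Helper9.ALB
  Cfsg.Agent.Lib.Helper5.Herm Cfsg.Agent.Lib.Helper5.HermBlock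
  Cfsg.Agent.Lib.Helper5.HermTv Cfsg.Agent.Lib.Helper5.HermEich Cfsg.Agent.Lib.Helper5.HermSU
  Cfsg.Agent.Lib.Helper5.HermSimple Cfsg.Agent.Lib.Helper5.HermCenter

attribute [local instance 2000] suSMul suAction suSMulComm

section fieldmain

variable {F : Type*} [Field F] [Fintype F] {q : ℕ} (hF : Fintype.card F = q ^ 2) (n : ℕ)

set_option quotPrecheck false
local notation "Vn" => (Fin n → F)
local notation "Mn" => Matrix (Fin n) (Fin n) F
local notation "SUn" => ↥(Cfsg.SU n F q)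
local notation "PSUn" => Cfsg.PSU n F q

include hF in
/-- the fixed field of an automorphism of odd order -/
theorem exists_subfield_data (r : ℕ) [hr : Fact r.Prime] [hcr : CharP F r] (σ : RingAut F) (p : ℕ)
    (hodd : Odd p) (hord : orderOf σ = p) :
    ∃ (q₀ : ℕ) (ι : ↥(FixedPoints.subfield (Subgroup.zpowers σ) F) →+* F),
      Nat.card ↥(FixedPoints.subfield (Subgroup.zpowers σ) F) = q₀ ^ 2 ∧
      (∀ a : F, σ a = a ↔ a ∈ Set.range ι) ∧
      ∀ x : ↥(FixedPoints.subfield (Subgroup.zpowers σ) F), (ι x) ^ q = ι (x ^ q₀) := by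
  obtain ⟨r', j, hr', hc, hqj⟩ := exists_char_pow hF
  have hrr : r' = r := CharP.eq F hc hcr
  subst hrr
  have hF' : Fintype.card F = r' ^ (2 * j) := by rw [hF, hqj, ← pow_mul, mul_comm]
  obtain ⟨e', he', hcard⟩ := Cfsg.Agent.Lib.Helper9.APSL.fixed_card r' (2 * j) hF' σ p hodd.pos hord
  have hdiv : p ∣ j := by
    have h1 : p ∣ 2 * j := ⟨e', by rw [← he', mul_comm]⟩
    have hcop : Nat.Coprime p 2 := (Nat.coprime_two_left.mpr hodd).symm
    exact hcop.dvd_of_dvd_mul_left h1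
  obtain ⟨m, hm⟩ := hdiv
  have he2 : e' = 2 * m := by
    have : e' * p = (2 * m) * p := by rw [he', hm]; ring
    exact Nat.eq_of_mul_eq_mul_right hodd.pos this
  obtain ⟨ι, hι⟩ := exists_fixed_iota σ
  refine ⟨r' ^ m, ι, ?_, hι, ?_⟩
  · rw [hcard, he2, ← pow_mul, mul_comm]
  · intro x
    rw [← map_pow]
    congr 1
    letI : Fintype ↥(FixedPoints.subfield (Subgroup.zpowers σ) F) := Fintype.ofFinite _
    have hcard' : Fintype.card ↥(FixedPoints.subfield (Subgroup.zpowers σ) F) = r' ^ (2 * m) := by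
      rw [← Nat.card_eq_fintype_card, hcard, he2]
    obtain ⟨k, hk⟩ := hodd
    have h1 : q = (r' ^ (2 * m)) ^ k * r' ^ m := by
      rw [hqj, hm, hk, ← pow_mul, ← pow_add]
      congr 1
      ring
    rw [h1, pow_mul, ← hcard', FiniteField.pow_card_pow]

include hF in
/-- a nontrivial rational element -/
theorem exists_fixed_ne_one (hn : 3 ≤ n) {F₀ : Type*} [Field F₀] [Fintype F₀] {q₀ : ℕ}
    (hF₀ : Fintype.card F₀ = q₀ ^ 2) (ι : F₀ →+* F) (hq₀ : ∀ x : F₀, (ι x) ^ q = ι (x ^ q₀))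
    (σ : RingAut F) (hι' : ∀ t : F₀, σ (ι t) = ι t) :
    ∃ s : SUn, fieldSU n σ s = s ∧ mkU n s ≠ 1 := by
  obtain ⟨e, f, he, hf, hef⟩ := exists_hyp_pair hF₀ n (by omega)
  have he0 : e ≠ 0 := e_ne_zero n hef
  obtain ⟨c, hc0, hc⟩ := exists_trace_zero hF₀
  have hX : hermForm n F q (iv n ι e) (iv n ι e) = 0 := by
    rw [herm_iv n ι hq₀, he, map_zero]
  have hC : (ι c) ^ q = -ι c := by rw [hq₀, hc, map_neg]
  have hC0 : ι c ≠ 0 := (map_ne_zero ι).mpr hc0
  have H := EHyp_of_iso n hX hC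
  refine ⟨Es hF n (iv n ι e) 0 (ι c), ?_, ?_⟩
  · rw [fieldSU_Es hF n σ H]
    exact Es_congr hF n (vmap_iv n ι σ hι' e) (vmap_zero n σ) (hι' c)
  · exact mkU_Es_ne_one hF n (by omega) (iv_ne_zero n ι he0) hX hC0 hC

include hF in
/-- **the `p'`-core of the centraliser of a standard field automorphism of odd prime order** -/
theorem psu_core_field (hn : 3 ≤ n) (h32 : ¬ (n = 3 ∧ q = 2)) (r : ℕ) [hr : Fact r.Prime]
    [CharP F r] (σ : RingAut F) (p : ℕ) [hp : Fact p.Prime] (hodd : Odd p)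
    (hord : orderOf σ = p) (A : Subgroup (MulAut PSUn)) (hinn : ∀ k : PSUn, MulAut.conj k ∈ A) :
    Cfsg.pPrimeCore p ↥(A ⊓ Subgroup.centralizer {fU (q := q) n σ}) ≠ ⊥ ↔
      Nat.Coprime p (Nat.card ↥(fixPU n (fU (q := q) n σ))) := by
  obtain ⟨q₀, ι, hcard, hι, hq₀⟩ := exists_subfield_data hF r σ p hodd hord
  letI : Fintype ↥(FixedPoints.subfield (Subgroup.zpowers σ) F) := Fintype.ofFinite _
  have hF₀ : Fintype.card ↥(FixedPoints.subfield (Subgroup.zpowers σ) F) = q₀ ^ 2 := by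
    rw [← Nat.card_eq_fintype_card, hcard]
  have hι' : ∀ t, σ (ι t) = ι t := fun t => (hι _).mpr ⟨t, rfl⟩
  have hp2 : p ≠ 2 := by
    rintro rfl
    exact absurd hodd (by decide)
  constructor
  · intro h
    by_contra hc
    apply h
    have hdvd : p ∣ Nat.card ↥(fixPU n (fU (q := q) n σ)) := by
      by_contra hnd
      exact hc ((Nat.Prime.coprime_iff_not_dvd hp.out).mpr hnd)
    have hk := exists_order_p_fieldU hF n hn σ p hord hdvd
    show Cfsg.pPrimeCore p ↥(A ⊓ Subgroup.centralizer {liftU n (fieldSU (q := q) n σ)}) = ⊥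
    apply core_botU hF n hn (fieldSU n σ) p A hinn
    · show orderOf (fU (q := q) n σ) = p
      rw [orderOf_injective _ (fU_injective hF n hn h32 r), hord]
    · by_cases hcase : n = 3 ∧ q₀ = 2
      · obtain ⟨hn3, hq2⟩ := hcase
        subst hn3
        have hF₀' : Fintype.card ↥(FixedPoints.subfield (Subgroup.zpowers σ) F) = 2 ^ 2 := by
          rw [hF₀, hq2]
        have hq₀' : ∀ x : ↥(FixedPoints.subfield (Subgroup.zpowers σ) F),
            (ι x) ^ q = ι (x ^ 2) := by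
          intro x
          rw [hq₀, hq2]
        exact he1_fieldU_32 hF hF₀' ι hq₀' σ hι p hp2 hk
      · exact he1_fieldU hF n hF₀ ι hq₀ hn hcase σ hι p hk
    · exact cent_fieldU hF n hF₀ ι hq₀ hn h32 r σ hι
  · intro hcop
    apply Cfsg.Agent.Lib.Helper2.Lbf.core_ne_bot_of_coprime A (fU (q := q) n σ) hinn
      (centerU_eq_bot hF n hn) _ hcop
    intro hbot
    obtain ⟨s, hs, hs1⟩ := exists_fixed_ne_one hF n hn hF₀ ι hq₀ σ hι'
    apply hs1
    have h1 : mkU n s ∈ fixPU n (fU (q := q) n σ) := mkU_mem_fixPU n hs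
    have h3 : mkU n s ∈ (⊥ : Subgroup PSUn) := by
      rw [← hbot]
      exact h1
    exact Subgroup.mem_bot.mp h3

omit [Fintype F] in
theorem card_fixPU_conj (α φ : MulAut PSUn) :
    Nat.card ↥(fixPU n (α * φ * α⁻¹)) = Nat.card ↥(fixPU n φ) := by
  symm
  apply Nat.card_congr
  apply Equiv.subtypeEquiv α.toEquiv
  intro a
  rw [mem_fixPU, mem_fixPU]
  show φ a = a ↔ (α * φ * α⁻¹) (α a) = α a
  have h1 : (α * φ * α⁻¹) (α a) = α (φ a) := by
    rw [MulAut.mul_apply, MulAut.mul_apply, MulAut.inv_apply, MulEquiv.symm_apply_apply]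
  rw [h1]
  exact (α.injective.eq_iff).symm

omit [Fintype F] in
theorem comap_conj_innU (A : Subgroup (MulAut PSUn)) (hinn : ∀ k : PSUn, MulAut.conj k ∈ A)
    (α : MulAut PSUn) (k : PSUn) :
    MulAut.conj k ∈ A.comap ((MulAut.conj α : MulAut PSUn ≃* MulAut PSUn) :
      MulAut PSUn →* MulAut PSUn) := by
  rw [Subgroup.mem_comap]
  show (MulAut.conj α) (MulAut.conj k) ∈ A
  rw [MulAut.conj_apply, conjU_conj]
  exact hinn _

omit [Fintype F] in
/-- transfer of the triviality of the core along a conjugation -/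
theorem core_bot_conjU (A : Subgroup (MulAut PSUn)) (hinn : ∀ k : PSUn, MulAut.conj k ∈ A)
    (α φ : MulAut PSUn) (p : ℕ)
    (h : ∀ A' : Subgroup (MulAut PSUn), (∀ k : PSUn, MulAut.conj k ∈ A') →
      Cfsg.pPrimeCore p ↥(A' ⊓ Subgroup.centralizer {φ}) = ⊥) :
    Cfsg.pPrimeCore p ↥(A ⊓ Subgroup.centralizer {α * φ * α⁻¹}) = ⊥ := by
  by_contra hne
  rw [← ne_eq, ← pPrimeCore_ne_bot_congr (centConjEquiv A α φ) p] at hne
  exact hne (h _ (comap_conj_innU n A hinn α))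

include hF in
/-- the field case -/
theorem main_fieldU (hn : 3 ≤ n) (h32 : ¬ (n = 3 ∧ q = 2)) (r : ℕ) [hr : Fact r.Prime]
    [CharP F r] (A : Subgroup (MulAut PSUn)) (hinn : ∀ k : PSUn, MulAut.conj k ∈ A)
    (p : ℕ) [hp : Fact p.Prime] (hodd : Odd p) (g : ↥(Cfsg.GU n F q)) (σ : RingAut F)
    (hord : orderOf (cU n g * fU n σ : MulAut PSUn) = p)
    (hnot : ¬ Cfsg.IsInnerDiagonalAutPSU (cU n g * fU n σ : MulAut PSUn)) :
    Cfsg.pPrimeCore p ↥(A ⊓ Subgroup.centralizer {(cU n g * fU n σ : MulAut PSUn)}) ≠ ⊥ ↔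
      Nat.Coprime p (Nat.card ↥(fixPU n (cU n g * fU n σ : MulAut PSUn))) := by
  have hσ1 : σ ≠ 1 := by
    intro h
    apply hnot
    rw [h, map_one, mul_one]
    exact isInnerDiagonal_cU n g
  have hpow : (cU n g * fU n σ : MulAut PSUn) ^ p = 1 := by
    rw [← hord]
    exact pow_orderOf_eq_one _
  have hσp : σ ^ p = 1 := by
    have h1 := congrArg (tauU hF n hn h32 r) hpow
    rw [map_pow, map_mul, tauU_cU, tauU_fU, one_mul, map_one] at h1
    exact h1
  have hσord : orderOf σ = p := orderOf_eq_prime hσp hσ1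
  obtain ⟨f', hf'⟩ := FiniteField.card F r
  obtain ⟨k, hk⟩ := conj_field_U hF n hn r (f' : ℕ) f'.pos hf'.2 σ p hodd hσord g hpow
  rw [hk, card_fixPU_conj,
    ← psu_core_field hF n hn h32 r σ p hodd hσord _ (comap_conj_innU n A hinn (cU n k))]
  exact (pPrimeCore_ne_bot_congr (centConjEquiv A (cU n k) (fU n σ)) p).symm

end fieldmain

end Cfsg.Agent.Lib.Helper2.Lbu
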