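import Mathlib
import Cfsg.Prelude
import Cfsg.Agent.Lib.Helper2.LbuC
import Cfsg.Agent.Lib.Helper6.LbgZ

set_option autoImplicit false
set_option linter.unusedSectionVars false
set_option linter.unusedVariables false
open Cfsg

/-! Local balance for `PSU_n`: semilinear maps commuting (up to scalars) with the isometries of a
bilinear form which is rational over a subfield. -/

namespace Cfsg.Agent.Lib.Helper2.Lbu

open Matrix Cfsg.Agent.Lib.Helper9.APSL Cfsg.Agent.Lib.Helper5.PslGraph Cfsg.Agent.Lib.Helper6.Lbg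

section rat

variable {F : Type*} [Field F] {F₀ : Type*} [Field F₀] (ι : F₀ →+* F) {n : ℕ}

local notation "M₀" => Matrix (Fin n) (Fin n) F₀
local notation "Mn" => Matrix (Fin n) (Fin n) F
local notation "V₀" => (Fin n → F₀)
local notation "Vn" => (Fin n → F)

theorem map_mulVec_iv (N₀ : M₀) (x : V₀) : (N₀.map ι) *ᵥ iv n ι x = iv n ι (N₀ *ᵥ x) := by
  funext i
  exact (RingHom.map_mulVec ι N₀ x i).symm

theorem iv_dot (φ x : V₀) : iv n ι φ ⬝ᵥ iv n ι x = ι (φ ⬝ᵥ x) := by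
  unfold iv dotProduct
  rw [map_sum]
  exact Finset.sum_congr rfl (fun i _ => (map_mul ι _ _).symm)

theorem bf_iv (S₀ : M₀) (x y : V₀) :
    bf (S₀.map ι) (iv n ι x) (iv n ι y) = ι (bf S₀ x y) := by
  unfold bf
  rw [map_mulVec_iv, iv_dot]

theorem vecMulVec_map (u φ : V₀) :
    (vecMulVec u φ).map ι = vecMulVec (iv n ι u) (iv n ι φ) := by
  ext i j
  simp [vecMulVec_apply, iv]

theorem map_sub_one_pow (N₀ : M₀) (j : ℕ) :
    (N₀.map ι - 1) ^ j = ((N₀ - 1) ^ j).map ι := by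
  have h := map_pow ι.mapMatrix (N₀ - 1) j
  rw [map_sub, map_one, RingHom.mapMatrix_apply, RingHom.mapMatrix_apply] at h
  exact h.symm

/-! ### semilinear maps -/

section semilin

variable (σ : F ≃+* F) (δ : (Fin n → F) → (Fin n → F)) (hadd : ∀ u v, δ (u + v) = δ u + δ v)
  (hsmul : ∀ (c : F) (v : Fin n → F), δ (c • v) = σ c • δ v)

include hsmul in
theorem semi_zero : δ 0 = 0 := by
  have := hsmul 0 0
  rw [zero_smul, map_zero, zero_smul] at this
  exact this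

include hsmul in
theorem semi_neg (x : Vn) : δ (-x) = -δ x := by
  have := hsmul (-1) x
  rw [neg_one_smul, map_neg, map_one, neg_one_smul] at this
  exact this

include hadd hsmul in
theorem semi_sub (x y : Vn) : δ (x - y) = δ x - δ y := by
  rw [sub_eq_add_neg, hadd, semi_neg σ δ hsmul, ← sub_eq_add_neg]

include hadd hsmul in
theorem semi_sum {κ : Type*} (s : Finset κ) (g : κ → Vn) : δ (∑ j ∈ s, g j) = ∑ j ∈ s, δ (g j) := by
  classical
  induction s using Finset.induction_on with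
  | empty => simp [semi_zero σ δ hsmul]
  | insert a s ha ih => rw [Finset.sum_insert ha, Finset.sum_insert ha, hadd, ih]

include hadd hsmul in
/-- a semilinear map which is a scalar on the coordinate vectors and fixes the subfield is that
scalar on the rational vectors -/
theorem semi_eq_of_basis (hfix : ∀ t : F₀, σ (ι t) = ι t) (c : F)
    (hc : ∀ j : Fin n, δ (Pi.single j 1) = c • Pi.single j 1) (x : V₀) :
    δ (iv n ι x) = c • iv n ι x := by
  have h1 : iv n ι x = ∑ j, ι (x j) • (Pi.single j 1 : Vn) := by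
    conv_lhs => rw [← Finset.univ_sum_single (iv n ι x)]
    apply Finset.sum_congr rfl
    intro j _
    funext i
    by_cases hij : i = j
    · rw [hij, Pi.single_eq_same, Pi.smul_apply, Pi.single_eq_same, smul_eq_mul, mul_one]
      rfl
    · rw [Pi.single_eq_of_ne hij, Pi.smul_apply, Pi.single_eq_of_ne hij, smul_zero]
  rw [h1, semi_sum σ δ hadd hsmul, Finset.smul_sum]
  apply Finset.sum_congr rfl
  intro j _
  rw [hsmul, hfix, hc, smul_comm]

include hadd hsmul in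
/-- **a semilinear injection commuting up to a scalar with a unipotent rational matrix** fixes the
point of its centre -/
theorem semi_unip (hinj : ∀ v, δ v = 0 → v = 0) (N₀ : M₀) (u φ₀ f : V₀) (k : ℕ) (hu0 : u ≠ 0)
    (hNu : N₀ *ᵥ u = u) (h3 : (N₀ - 1) ^ 3 = 0) (hk : (N₀ - 1) ^ k = vecMulVec u φ₀)
    (hf : φ₀ ⬝ᵥ f ≠ 0) (a : F)
    (ha : ∀ x, (N₀.map ι) *ᵥ δ x = a • δ ((N₀.map ι) *ᵥ x)) :
    ∃ b : F, δ (iv n ι u) = b • iv n ι u := by
  obtain ⟨N, hN⟩ : ∃ N : Mn, N = N₀.map ι := ⟨_, rfl⟩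
  rw [← hN] at ha
  obtain ⟨Y, hY⟩ : ∃ Y : Vn, Y = δ (iv n ι u) := ⟨_, rfl⟩
  have hY0 : Y ≠ 0 := by
    intro h0
    rw [hY] at h0
    exact iv_ne_zero n ι hu0 (hinj _ h0)
  have hNY : N *ᵥ Y = a • Y := by
    rw [hY, ha, hN, map_mulVec_iv, hNu]
  have h1 : ∀ j : ℕ, ((N - 1) ^ j) *ᵥ Y = (a - 1) ^ j • Y := by
    intro j
    induction j with
    | zero => simp
    | succ j ih =>
      have h0 : (N - 1) *ᵥ Y = (a - 1) • Y := by
        rw [sub_mulVec, one_mulVec, hNY, sub_smul, one_smul]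
      rw [pow_succ, ← mulVec_mulVec, h0, mulVec_smul, ih, smul_smul, pow_succ, mul_comm]
  have ha1 : a = 1 := by
    have h2 := h1 3
    rw [hN, map_sub_one_pow, h3] at h2
    have h4 : (a - 1) ^ 3 • Y = 0 := by
      rw [← h2]
      simp
    rcases smul_eq_zero.mp h4 with h5 | h5
    · exact sub_eq_zero.mp (pow_eq_zero_iff (by norm_num) |>.mp h5)
    · exact absurd h5 hY0
  rw [ha1] at ha
  simp only [one_smul] at ha
  have hc1 : ∀ x, (N - 1) *ᵥ δ x = δ ((N - 1) *ᵥ x) := by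
    intro x
    rw [sub_mulVec, sub_mulVec, one_mulVec, one_mulVec, ha, semi_sub σ δ hadd hsmul]
  have hck : ∀ (j : ℕ) (x : Vn), ((N - 1) ^ j) *ᵥ δ x = δ (((N - 1) ^ j) *ᵥ x) := by
    intro j
    induction j with
    | zero => intro x; simp
    | succ j ih =>
      intro x
      rw [pow_succ, ← mulVec_mulVec, hc1, ih, mulVec_mulVec]
  have h5 := hck k (iv n ι f)
  rw [hN, map_sub_one_pow, hk, map_mulVec_iv, vecMulVec_map, vecMulVec_mulVec, op_smul_eq_smul,
    vecMulVec_mulVec, op_smul_eq_smul, iv_smul, hsmul, ← hY] at h5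
  have hc0 : σ (ι (φ₀ ⬝ᵥ f)) ≠ 0 := by
    rw [Ne, map_eq_zero_iff σ σ.injective, map_eq_zero_iff ι ι.injective]
    exact hf
  refine ⟨(σ (ι (φ₀ ⬝ᵥ f)))⁻¹ * (iv n ι φ₀ ⬝ᵥ δ (iv n ι f)), ?_⟩
  rw [← hY, mul_smul, h5, smul_smul, inv_mul_cancel₀ hc0, one_smul]

/-! ### the first stage: the rational (singular) points are fixed -/

include hadd hsmul in
theorem fix_points_sp_rat (h2 : (2 : F₀) ≠ 0) (S₀ : GL (Fin n) F₀)
    (hS : (S₀ : M₀)ᵀ = -(S₀ : M₀)) (hinj : ∀ v, δ v = 0 → v = 0)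
    (hδ : ∀ y : Matrix.SpecialLinearGroup (Fin n) F₀, psiS S₀ y = y →
      ∃ a : F, ∀ x, ((y : M₀).map ι) *ᵥ δ x = a • δ (((y : M₀).map ι) *ᵥ x))
    (w : V₀) (hw : w ≠ 0) : ∃ b : F, δ (iv n ι w) = b • iv n ι w := by
  obtain ⟨a, ha⟩ := hδ _ (psiS_rootS h2 S₀ hS w 1)
  obtain ⟨φ₀, hφ₀⟩ : ∃ φ₀ : V₀, φ₀ = (1 : F₀) • ((S₀ : M₀) *ᵥ w) := ⟨_, rfl⟩
  have hmat : ((rootS h2 S₀ hS w 1 : Matrix.SpecialLinearGroup (Fin n) F₀) : M₀) =
      1 + vecMulVec w φ₀ := by
    rw [hφ₀]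
    rfl
  have hφw : φ₀ ⬝ᵥ w = 0 := by
    rw [hφ₀, smul_dotProduct, dotProduct_comm]
    show (1 : F₀) • bf (S₀ : M₀) w w = 0
    rw [bf_alt h2 _ hS, smul_zero]
  obtain ⟨f, hf⟩ : ∃ f : V₀, φ₀ ⬝ᵥ f ≠ 0 := by
    by_contra hno
    push Not at hno
    have h0 : φ₀ = 0 := by
      funext j
      have := hno (Pi.single j 1)
      rw [dotProduct_single, mul_one] at this
      exact this
    rw [hφ₀, one_smul] at h0
    exact mulVec_ne_zero_GL S₀ hw h0
  apply semi_unip ι σ δ hadd hsmul hinj _ w φ₀ f 1 hw ?_ ?_ ?_ hf a ha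
  · rw [hmat, add_mulVec, one_mulVec, vecMulVec_mulVec, op_smul_eq_smul, hφw, zero_smul, add_zero]
  · rw [hmat, add_sub_cancel_left, pow_succ, pow_two, vecMulVec_mul_vecMulVec, hφw, zero_smul]
    ext i j
    simp [vecMulVec_apply, Matrix.mul_apply]
  · rw [hmat, add_sub_cancel_left, pow_one]

include hadd hsmul in
theorem fix_points_O_rat [Fintype F₀] (h2 : (2 : F₀) ≠ 0) (S₀ : GL (Fin n) F₀)
    (hS : (S₀ : M₀)ᵀ = (S₀ : M₀)) (hn : 3 ≤ n) (hinj : ∀ v, δ v = 0 → v = 0)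
    (hδ : ∀ y : Matrix.SpecialLinearGroup (Fin n) F₀, psiS S₀ y = y →
      ∃ a : F, ∀ x, ((y : M₀).map ι) *ᵥ δ x = a • δ (((y : M₀).map ι) *ᵥ x))
    (u : V₀) (hu0 : u ≠ 0) (hu : bf (S₀ : M₀) u u = 0) :
    ∃ b : F, δ (iv n ι u) = b • iv n ι u := by
  obtain ⟨z, huz, hz⟩ := o_exists_aniso1 h2 S₀ hS hn u
  have hzu : bf (S₀ : M₀) z u = 0 := by rw [bf_symm _ hS]; exact huz
  obtain ⟨a, ha⟩ := hδ _ (psiS_sgS h2 S₀ hS u z hu huz)
  obtain ⟨N₀, hN₀⟩ : ∃ N₀ : M₀,
      N₀ = ((sgS h2 S₀ hS u z hu huz : Matrix.SpecialLinearGroup (Fin n) F₀) : M₀) := ⟨_, rfl⟩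
  rw [← hN₀] at ha
  have hmv : ∀ x : V₀, N₀ *ᵥ x = x + (2 * bf (S₀ : M₀) x u) • z -
      (2 * bf (S₀ : M₀) x z + bf (S₀ : M₀) z z * (2 * bf (S₀ : M₀) x u)) • u := by
    intro x
    rw [hN₀]
    exact sgS_mulVec h2 S₀ hS u z hu huz x
  have hm1 : ∀ x : V₀, (N₀ - 1) *ᵥ x = (2 * bf (S₀ : M₀) x u) • z -
      (2 * bf (S₀ : M₀) x z + bf (S₀ : M₀) z z * (2 * bf (S₀ : M₀) x u)) • u := by
    intro x
    rw [sub_mulVec, one_mulVec, hmv]
    abel
  have hm1u : (N₀ - 1) *ᵥ u = 0 := by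
    rw [hm1, hu, huz]
    simp
  have hm1z : (N₀ - 1) *ᵥ z = (-(2 * bf (S₀ : M₀) z z)) • u := by
    rw [hm1, hzu]
    simp
  obtain ⟨φ₀, hφ₀⟩ : ∃ φ₀ : V₀, φ₀ = (-(4 * bf (S₀ : M₀) z z)) • ((S₀ : M₀) *ᵥ u) := ⟨_, rfl⟩
  have hφx : ∀ x : V₀, φ₀ ⬝ᵥ x = -(4 * bf (S₀ : M₀) z z) * bf (S₀ : M₀) x u := by
    intro x
    rw [hφ₀, smul_dotProduct, dotProduct_comm]
    rfl
  have hk : (N₀ - 1) ^ 2 = vecMulVec u φ₀ := by
    rw [ext_iff_mulVec]
    intro x
    rw [pow_two, ← mulVec_mulVec, hm1 x, mulVec_sub, mulVec_smul, mulVec_smul, hm1z, hm1u,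
      vecMulVec_mulVec, op_smul_eq_smul, hφx]
    module
  have h3 : (N₀ - 1) ^ 3 = 0 := by
    rw [pow_succ', hk, mul_vecMulVec, hm1u]
    ext i j
    simp [vecMulVec_apply]
  obtain ⟨f, hf⟩ : ∃ f : V₀, bf (S₀ : M₀) f u ≠ 0 := by
    by_contra hno
    push Not at hno
    apply hu0
    apply bf_left_nondeg' S₀ u
    intro y
    rw [bf_symm _ hS]
    exact hno y
  have h4 : (4 : F₀) ≠ 0 := by
    have : (4 : F₀) = 2 * 2 := by norm_num
    rw [this]
    exact mul_ne_zero h2 h2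
  have hf' : φ₀ ⬝ᵥ f ≠ 0 := by
    rw [hφx]
    exact mul_ne_zero (neg_ne_zero.mpr (mul_ne_zero h4 hz)) hf
  apply semi_unip ι σ δ hadd hsmul hinj N₀ u φ₀ f 2 hu0 ?_ h3 hk hf' a ha
  rw [hmv, hu, huz]
  simp

/-! ### the second stage -/

include hadd hsmul in
theorem semi_sp_rat (h2 : (2 : F₀) ≠ 0) (hn : 2 ≤ n) (S₀ : GL (Fin n) F₀)
    (hS : (S₀ : M₀)ᵀ = -(S₀ : M₀)) (hinj : ∀ v, δ v = 0 → v = 0)
    (hδ : ∀ y : Matrix.SpecialLinearGroup (Fin n) F₀, psiS S₀ y = y →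
      ∃ a : F, ∀ x, ((y : M₀).map ι) *ᵥ δ x = a • δ (((y : M₀).map ι) *ᵥ x)) :
    (∀ t : F₀, σ (ι t) = ι t) ∧ ∃ c : F, ∀ x : V₀, δ (iv n ι x) = c • iv n ι x := by
  have hpt := fix_points_sp_rat ι σ δ hadd hsmul h2 S₀ hS hinj hδ
  have hs0 : ∀ j : Fin n, (Pi.single j 1 : V₀) ≠ 0 := by
    intro j h0
    have := congrFun h0 j
    simp at this
  choose b hb using fun j => hpt (Pi.single j 1) (hs0 j)
  simp only [iv_single] at hb
  obtain ⟨i₀, hi₀⟩ : ∃ i₀ : Fin n, i₀ = ⟨0, by omega⟩ := ⟨_, rfl⟩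
  obtain ⟨i₁, hi₁⟩ : ∃ i₁ : Fin n, i₁ = ⟨1, by omega⟩ := ⟨_, rfl⟩
  have h01 : i₁ ≠ i₀ := by
    rw [hi₀, hi₁]
    intro h
    have := congrArg Fin.val h
    simp at this
  have key : ∀ j : Fin n, j ≠ i₀ → ∀ t : F₀, σ (ι t) * b j = b i₀ * ι t := by
    intro j hj t
    have hw0 : (Pi.single i₀ 1 + t • Pi.single j 1 : V₀) ≠ 0 := by
      intro h0
      have := congrFun h0 i₀
      simp [Pi.single_eq_of_ne hj.symm] at this
    obtain ⟨c, hc⟩ := hpt _ hw0
    rw [iv_add, iv_smul, iv_single, iv_single, hadd, hsmul, hb, hb] at hc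
    have e1 := congrFun hc i₀
    have e2 := congrFun hc j
    simp only [Pi.add_apply, Pi.smul_apply, Pi.single_eq_same, Pi.single_eq_of_ne hj,
      Pi.single_eq_of_ne hj.symm, smul_eq_mul, mul_one, mul_zero, add_zero, zero_add] at e1 e2
    rw [← e1] at e2
    exact e2
  have hb0 : b i₀ ≠ 0 := by
    intro h0
    have := hb i₀
    rw [h0, zero_smul] at this
    have h1 := hinj _ this
    have := congrFun h1 i₀
    simp at this
  have hbj : ∀ j : Fin n, b j = b i₀ := by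
    intro j
    by_cases hj : j = i₀
    · rw [hj]
    · have := key j hj 1
      rw [map_one, map_one, one_mul, mul_one] at this
      exact this
  have hfix : ∀ t : F₀, σ (ι t) = ι t := by
    intro t
    have := key i₁ h01 t
    rw [hbj i₁, mul_comm] at this
    exact mul_left_cancel₀ hb0 this
  refine ⟨hfix, b i₀, ?_⟩
  apply semi_eq_of_basis ι σ δ hadd hsmul hfix
  intro j
  rw [hb, hbj]

include hadd hsmul in
theorem semi_O_rat [Fintype F₀] (h2 : (2 : F₀) ≠ 0) (hn : 3 ≤ n) (S₀ : GL (Fin n) F₀)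
    (hS : (S₀ : M₀)ᵀ = (S₀ : M₀)) (hinj : ∀ v, δ v = 0 → v = 0)
    (hδ : ∀ y : Matrix.SpecialLinearGroup (Fin n) F₀, psiS S₀ y = y →
      ∃ a : F, ∀ x, ((y : M₀).map ι) *ᵥ δ x = a • δ (((y : M₀).map ι) *ᵥ x)) :
    (∀ t : F₀, σ (ι t) = ι t) ∧ ∃ c : F, ∀ x : V₀, δ (iv n ι x) = c • iv n ι x := by
  have hpt := fix_points_O_rat ι σ δ hadd hsmul h2 S₀ hS hn hinj hδ
  obtain ⟨e, he0, he⟩ := o_exists_sing h2 S₀ hS hn
  obtain ⟨f, hf, hef⟩ := o_exists_partner h2 S₀ hS e he0 he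
  obtain ⟨w₁, hew₁, hfw₁, hd₁⟩ := o_exists_aniso h2 S₀ hS hn e f he hef
  have hfe : bf (S₀ : M₀) f e = bf (S₀ : M₀) e f := bf_symm _ hS f e
  have hf0 : f ≠ 0 := by
    rintro rfl
    rw [bf_zero_right', mul_zero] at hef
    exact zero_ne_one hef
  obtain ⟨ae, hae⟩ := hpt e he0 he
  obtain ⟨af, haf⟩ := hpt f hf0 hf
  have hae0 : ae ≠ 0 := by
    rintro rfl
    rw [zero_smul] at hae
    exact iv_ne_zero n ι he0 (hinj _ hae)
  have h2F : (2 : F) ≠ 0 := by
    have : (2 : F) = ι 2 := by rw [map_ofNat]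
    rw [this]
    exact (map_ne_zero ι).mpr h2
  obtain ⟨γ, hγ⟩ : ∃ γ : F, γ = ι (bf (S₀ : M₀) e f) := ⟨_, rfl⟩
  have hγ2 : 2 * γ = 1 := by
    rw [hγ, ← map_ofNat ι 2, ← map_mul, hef, map_one]
  have hγ0 : γ ≠ 0 := by
    rintro rfl
    rw [mul_zero] at hγ2
    exact zero_ne_one hγ2
  -- the generic computation for an anisotropic vector of the complement
  have hW : ∀ w : V₀, bf (S₀ : M₀) e w = 0 → bf (S₀ : M₀) f w = 0 → bf (S₀ : M₀) w w ≠ 0 →
      (∀ t : F₀, σ (ι t) = ι t) ∧ af = ae ∧ δ (iv n ι w) = ae • iv n ι w := by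
    intro w hew hfw hd
    have hwe : bf (S₀ : M₀) w e = 0 := by rw [bf_symm _ hS]; exact hew
    have hwf : bf (S₀ : M₀) w f = 0 := by rw [bf_symm _ hS]; exact hfw
    obtain ⟨d, hddef⟩ : ∃ d : F₀, d = bf (S₀ : M₀) w w := ⟨_, rfl⟩
    have hd0 : ι d ≠ 0 := by
      rw [hddef]
      exact (map_ne_zero ι).mpr hd
    obtain ⟨U, hU⟩ : ∃ U : Vn, U = δ (iv n ι w) := ⟨_, rfl⟩
    have hz : ∀ t : F₀, ∃ a : F,
        ae • iv n ι e + σ (ι (-(t * t * d))) • af • iv n ι f + σ (ι t) • U =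
          a • (iv n ι e + ι (-(t * t * d)) • iv n ι f + ι t • iv n ι w) := by
      intro t
      have hsing : bf (S₀ : M₀) (e + (-(t * t * d)) • f + t • w)
          (e + (-(t * t * d)) • f + t • w) = 0 := by
        simp only [bf_add_left, bf_add_right, bf_smul_left, bf_smul_right, he, hf, hfe, hew, hfw,
          hwe, hwf, ← hddef]
        linear_combination (-(t * t * d)) * hef
      have hne : e + (-(t * t * d)) • f + t • w ≠ 0 := by
        intro h0
        have h1 := congrArg (fun v => bf (S₀ : M₀) v f) h0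
        simp only [bf_add_left, bf_smul_left, hf, hwf, bf_zero_left'] at h1
        have : bf (S₀ : M₀) e f = 0 := by linear_combination h1
        rw [this, mul_zero] at hef
        exact zero_ne_one hef
      obtain ⟨a, ha⟩ := hpt _ hne hsing
      refine ⟨a, ?_⟩
      rw [iv_add, iv_add, iv_smul, iv_smul, hadd, hadd, hsmul, hsmul, hae, haf, ← hU] at ha
      exact ha
    -- the three functionals
    have hBe : ∀ t : F₀, ∀ a : F,
        ae • iv n ι e + σ (ι (-(t * t * d))) • af • iv n ι f + σ (ι t) • U =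
          a • (iv n ι e + ι (-(t * t * d)) • iv n ι f + ι t • iv n ι w) →
        ae * γ + σ (ι t) * bf ((S₀ : M₀).map ι) U (iv n ι f) = a * γ ∧
        σ (ι t) * bf ((S₀ : M₀).map ι) U (iv n ι w) = a * (ι t * ι d) ∧
        σ (ι (-(t * t * d))) * af * γ + σ (ι t) * bf ((S₀ : M₀).map ι) U (iv n ι e) =
          a * (ι (-(t * t * d)) * γ) := by
      intro t a h
      have g1 := congrArg (fun v => bf ((S₀ : M₀).map ι) v (iv n ι f)) h
      have g2 := congrArg (fun v => bf ((S₀ : M₀).map ι) v (iv n ι w)) h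
      have g3 := congrArg (fun v => bf ((S₀ : M₀).map ι) v (iv n ι e)) h
      simp only [bf_add_left, bf_smul_left, bf_iv, he, hf, hfe, hew, hfw, hwe, hwf, ← hddef,
        ← hγ, map_zero] at g1 g2 g3
      refine ⟨?_, ?_, ?_⟩
      · linear_combination g1
      · linear_combination g2
      · linear_combination g3
    obtain ⟨a₁, h₁⟩ := hz 1
    obtain ⟨a₂, h₂⟩ := hz (-1)
    obtain ⟨p1, p2, p3⟩ := hBe 1 a₁ h₁
    obtain ⟨m1, m2, m3⟩ := hBe (-1) a₂ h₂
    simp only [map_one, map_neg, one_mul, mul_one, neg_mul, mul_neg, neg_neg] at p1 p2 p3 m1 m2 m3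
    have ha12 : a₂ = a₁ := by
      have : (a₂ - a₁) * ι d = 0 := by linear_combination p2 + m2
      rcases mul_eq_zero.mp this with h | h
      · exact sub_eq_zero.mp h
      · exact absurd h hd0
    rw [ha12] at m1 m3
    have hX : bf ((S₀ : M₀).map ι) U (iv n ι f) = 0 := by
      have : 2 * bf ((S₀ : M₀).map ι) U (iv n ι f) = 0 := by linear_combination p1 - m1
      exact (mul_eq_zero.mp this).resolve_left h2F
    have hZ : bf ((S₀ : M₀).map ι) U (iv n ι e) = 0 := by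
      have : 2 * bf ((S₀ : M₀).map ι) U (iv n ι e) = 0 := by linear_combination p3 - m3
      exact (mul_eq_zero.mp this).resolve_left h2F
    have ha1 : a₁ = ae := by
      rw [hX, add_zero] at p1
      exact (mul_right_cancel₀ hγ0 p1).symm
    have hYw : bf ((S₀ : M₀).map ι) U (iv n ι w) = ae * ι d := by rw [p2, ha1]
    have hfix : ∀ t : F₀, σ (ι t) = ι t := by
      intro t
      obtain ⟨a, h⟩ := hz t
      obtain ⟨q1, q2, -⟩ := hBe t a h
      rw [hX, mul_zero, add_zero] at q1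
      have hat : a = ae := (mul_right_cancel₀ hγ0 q1).symm
      rw [hYw, hat] at q2
      have : ae * ι d * (σ (ι t) - ι t) = 0 := by linear_combination q2
      rcases mul_eq_zero.mp this with h | h
      · exact absurd h (mul_ne_zero hae0 hd0)
      · exact sub_eq_zero.mp h
    have haf' : af = ae := by
      rw [hZ, add_zero, ha1, hfix] at p3
      have hne : ι d * γ ≠ 0 := mul_ne_zero hd0 hγ0
      have : (af - ae) * (ι d * γ) = 0 := by linear_combination -p3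
      rcases mul_eq_zero.mp this with h | h
      · exact sub_eq_zero.mp h
      · exact absurd h hne
    refine ⟨hfix, haf', ?_⟩
    rw [← hU]
    rw [ha1, haf', hfix, hfix] at h₁
    have : U = ae • (iv n ι e + ι (-(1 * 1 * d)) • iv n ι f + ι (1 : F₀) • iv n ι w) -
        ae • iv n ι e - ι (-(1 * 1 * d)) • ae • iv n ι f := by
      rw [← h₁]
      rw [map_one, one_smul]
      abel
    rw [this, map_one]
    module
  obtain ⟨hfix, haf', hw₁⟩ := hW w₁ hew₁ hfw₁ hd₁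
  refine ⟨hfix, ae, ?_⟩
  have hw₁e : bf (S₀ : M₀) w₁ e = 0 := by rw [bf_symm _ hS]; exact hew₁
  have hw₁f : bf (S₀ : M₀) w₁ f = 0 := by rw [bf_symm _ hS]; exact hfw₁
  -- all vectors of the complement
  have hWall : ∀ w : V₀, bf (S₀ : M₀) e w = 0 → bf (S₀ : M₀) f w = 0 →
      δ (iv n ι w) = ae • iv n ι w := by
    intro w hew hfw
    by_cases hd : bf (S₀ : M₀) w w = 0
    · by_cases hp : bf (S₀ : M₀) (w + w₁) (w + w₁) = 0
      · have hm : bf (S₀ : M₀) (w - w₁) (w - w₁) ≠ 0 := by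
          intro hm
          apply hd₁
          simp only [bf_add_left, bf_add_right, bf_sub_left', bf_sub_right'] at hp hm
          have : 2 * bf (S₀ : M₀) w₁ w₁ = 0 := by linear_combination hp + hm - 2 * hd
          exact (mul_eq_zero.mp this).resolve_left h2
        have h1 := (hW (w - w₁) (by rw [bf_sub_right', hew, hew₁, sub_zero])
          (by rw [bf_sub_right', hfw, hfw₁, sub_zero]) hm).2.2
        have h3 : iv n ι w = iv n ι (w - w₁) + iv n ι w₁ := by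
          rw [← iv_add, sub_add_cancel]
        rw [h3, hadd, h1, hw₁, smul_add]
      · have h1 := (hW (w + w₁) (by rw [bf_add_right, hew, hew₁, add_zero])
          (by rw [bf_add_right, hfw, hfw₁, add_zero]) hp).2.2
        have h3 : δ (iv n ι w) = δ (iv n ι (w + w₁)) - δ (iv n ι w₁) := by
          rw [iv_add, hadd, add_sub_cancel_right]
        rw [h3, h1, hw₁, iv_add]
        module
    · exact (hW w hew hfw hd).2.2
  intro x
  obtain ⟨x', hx'⟩ : ∃ x' : V₀, x' = x - (2 * bf (S₀ : M₀) x f) • e -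
      (2 * bf (S₀ : M₀) x e) • f := ⟨_, rfl⟩
  have hx : x = x' + (2 * bf (S₀ : M₀) x f) • e + (2 * bf (S₀ : M₀) x e) • f := by
    rw [hx']
    abel
  have hex' : bf (S₀ : M₀) e x' = 0 := by
    rw [hx']
    simp only [bf_sub_right', bf_smul_right, he]
    rw [bf_symm _ hS e x]
    linear_combination (-(bf (S₀ : M₀) x e)) * hef
  have hfx' : bf (S₀ : M₀) f x' = 0 := by
    rw [hx']
    simp only [bf_sub_right', bf_smul_right, hf, hfe]
    rw [bf_symm _ hS f x]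
    linear_combination (-(bf (S₀ : M₀) x f)) * hef
  have h1 : δ (iv n ι x) = δ (iv n ι (x' + (2 * bf (S₀ : M₀) x f) • e +
      (2 * bf (S₀ : M₀) x e) • f)) := by rw [← hx]
  have h3 : iv n ι x = iv n ι (x' + (2 * bf (S₀ : M₀) x f) • e +
      (2 * bf (S₀ : M₀) x e) • f) := by rw [← hx]
  rw [h1, h3, iv_add, iv_add, iv_smul, iv_smul, hadd, hadd, hsmul, hsmul, hfix, hfix, hae, haf,
    haf', hWall x' hex' hfx']
  module

include hadd hsmul in
/-- **a semilinear injection commuting up to scalars with the rational isometries** of a symmetric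
or alternating form fixes the subfield and is a scalar on the rational vectors -/
theorem semi_form_rat [Fintype F₀] (h2 : (2 : F₀) ≠ 0) (hn : 3 ≤ n) (S₀ : GL (Fin n) F₀) (d : F₀)
    (hd : (S₀ : M₀) = d • (S₀ : M₀)ᵀ) (hinj : ∀ v, δ v = 0 → v = 0)
    (hδ : ∀ y : Matrix.SpecialLinearGroup (Fin n) F₀, psiS S₀ y = y →
      ∃ a : F, ∀ x, ((y : M₀).map ι) *ᵥ δ x = a • δ (((y : M₀).map ι) *ᵥ x)) :
    (∀ t : F₀, σ (ι t) = ι t) ∧ ∃ c : F, ∀ x : V₀, δ (iv n ι x) = c • iv n ι x := by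
  have hdd := sq_one_of_smul_transpose (by omega) S₀ d hd
  have hT : (S₀ : M₀)ᵀ = d • (S₀ : M₀) := by
    conv_lhs => rw [hd]
    rw [transpose_smul, transpose_transpose]
  rcases mul_self_eq_one_iff.mp hdd with h1 | h1
  · rw [h1, one_smul] at hT
    exact semi_O_rat ι σ δ hadd hsmul h2 hn S₀ hT hinj hδ
  · rw [h1, neg_smul, one_smul] at hT
    exact semi_sp_rat ι σ δ hadd hsmul h2 (by omega) S₀ hT hinj hδ

end semilin

end rat

end Cfsg.Agent.Lib.Helper2.Lbu
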