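import Mathlib
import Cfsg.Prelude
import Cfsg.Agent.Lib.Helper6.LbgZ

set_option autoImplicit false
set_option linter.unusedSectionVars false
set_option linter.unusedVariables false
set_option linter.unusedSimpArgs false
open Cfsg

/-! Local balance for `PSU_n`: the "no invariant odd-order subgroup" property of the images of the
symplectic and special orthogonal groups, with the normalisation hypothesis weakened to the image
of the isometry group itself (the proofs are those of `Helper6.Lbg.he1_sp` and `he1_O`). -/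

namespace Cfsg.Agent.Lib.Helper2.Lbu

open Matrix QuadraticMap Module Cfsg.Agent.Lib.Helper9.APSL Cfsg.Agent.Lib.Helper9.ALB
  Cfsg.Agent.Lib.Helper5.PslGraph Cfsg.Agent.Lib.Helper6.Lbg
open scoped LinearAlgebra.Projectivization

variable {F : Type*} [Field F] {n : ℕ}

local notation "Mn" => Matrix (Fin n) (Fin n) F
local notation "SLn" => Matrix.SpecialLinearGroup (Fin n) F
local notation "PSLn" => Matrix.ProjectiveSpecialLinearGroup (Fin n) F
local notation "Vn" => (Fin n → F)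
local notation "GLn" => GL (Fin n) F

theorem he1_sp_weak [Fintype F] (h2 : (2 : F) ≠ 0) (hq : Odd (Fintype.card F)) (S : GLn)
    (hS : (S : Mn)ᵀ = -(S : Mn))
    (M : Subgroup PSLn) (hM : M ≤ (fixSL (psiS S)).map mkP)
    (hMn : ∀ z ∈ (fixSL (psiS S)).map mkP, ∀ m ∈ M, z * m * z⁻¹ ∈ M)
    (hMc : (Nat.card M).Coprime 2) : M = ⊥ := by
  have hf := isSymplectic_bf h2 S hS
  have key : ∀ m ∈ M, ∀ y ∈ (Set.univ : Set (ℙ F Vn)), m • y = y := by
    apply orbit_fix M ((fixSL (psiS S)).map mkP) (Nat.coprime_two_right.mp hMc) hMn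
      (Set.univ : Set (ℙ F Vn)) (fun _ _ _ _ => Set.mem_univ _) (farP (S : Mn))
    · intro p p'
      obtain ⟨v, hv, rfl⟩ := exists_mk p
      obtain ⟨w, hw, rfl⟩ := exists_mk p'
      rw [farP_mk, farP_mk, bf_skew _ hS w v]
      intro h
      exact neg_ne_zero.mpr h
    · intro p _ p' _ p'' _ h1 h3
      obtain ⟨x, hx, rfl⟩ := exists_mk p
      obtain ⟨y, hy, rfl⟩ := exists_mk p'
      obtain ⟨z, hz, rfl⟩ := exists_mk p''
      rw [farP_mk] at h1 h3
      obtain ⟨s, hs, hsx, b, hsy⟩ := sp_move h2 S hS x y z h1 h3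
      exact ⟨mkP s, ⟨s, hs, rfl⟩, smul_mk_eq s x x hx hx 1 (by rw [hsx, one_smul]),
        smul_mk_eq s y z hy hz b hsy⟩
    · intro p _ p'' _ _
      obtain ⟨x, hx, rfl⟩ := exists_mk p
      obtain ⟨z, hz, rfl⟩ := exists_mk p''
      obtain ⟨w, hwx, hwz⟩ := Cfsg.Agent.Lib.Helper5.SpInSLMax.exists_cross hf x z hx hz
      have hw : w ≠ 0 := by
        intro h0
        apply hwx
        rw [h0, bf_zero_left']
      refine ⟨Projectivization.mk F w hw, Set.mem_univ _, ?_, ?_⟩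
      · rw [farP_mk, bf_skew _ hS]
        exact neg_ne_zero.mpr hwx
      · rw [farP_mk, bf_skew _ hS]
        exact neg_ne_zero.mpr hwz
    · intro p _ p' _ hne hnf
      obtain ⟨x, hx, rfl⟩ := exists_mk p
      obtain ⟨y, hy, rfl⟩ := exists_mk p'
      rw [farP_mk, not_not] at hnf
      left
      have hne' : ¬ ∃ a : F, y = a • x := by
        rintro ⟨a, ha⟩
        apply hne
        rw [Projectivization.mk_eq_mk_iff']
        have ha0 : a ≠ 0 := by
          intro h0
          apply hy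
          rw [ha, h0, zero_smul]
        exact ⟨a⁻¹, by rw [ha, smul_smul, inv_mul_cancel₀ ha0, one_smul]⟩
      obtain ⟨s, hs, hsx, hfar⟩ := sp_tilt h2 S hS x y hne' hnf
      have hsy0 : (s : Mn) *ᵥ y ≠ 0 := by
        intro h0
        apply hfar
        rw [h0, bf_zero_right']
      refine ⟨mkP s, ⟨s, hs, rfl⟩, smul_mk_eq s x x hx hx 1 (by rw [hsx, one_smul]), ?_⟩
      rw [smul_mk_eq s y _ hy hsy0 1 (by rw [one_smul]), farP_mk]
      exact hfar
    · rw [Set.ncard_univ]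
      exact even_card_proj hq (even_of_skew h2 S hS)
  rw [eq_bot_iff]
  intro m hm
  rw [Subgroup.mem_bot]
  apply FaithfulSMul.eq_of_smul_eq_smul (α := ℙ F Vn)
  intro y
  rw [one_smul]
  exact key m hm y (Set.mem_univ _)

theorem he1_O_weak [Fintype F] (h2 : (2 : F) ≠ 0) (hq : Odd (Fintype.card F)) (hn : 3 ≤ n)
    (S : GLn) (hS : (S : Mn)ᵀ = (S : Mn)) (w : Fin n → F)
    (hdiag : (S : Mn) = Matrix.diagonal w)
    (M : Subgroup PSLn) (hM : M ≤ (fixSL (psiS S)).map mkP)
    (hMn : ∀ z ∈ (fixSL (psiS S)).map mkP, ∀ m ∈ M, z * m * z⁻¹ ∈ M)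
    (hMc : (Nat.card M).Coprime 2) : M = ⊥ := by
  have key : ∀ m ∈ M, ∀ y ∈ {p : ℙ F Vn | singP (S : Mn) p}, m • y = y := by
    apply orbit_fix M ((fixSL (psiS S)).map mkP) (Nat.coprime_two_right.mp hMc) hMn
      {p : ℙ F Vn | singP (S : Mn) p} ?_ (farP (S : Mn))
    · intro p p'
      obtain ⟨v, hv, rfl⟩ := exists_mk p
      obtain ⟨w', hw', rfl⟩ := exists_mk p'
      rw [farP_mk, farP_mk, bf_symm _ hS w' v]
      exact fun h => h
    · intro p hp p' hp' p'' hp'' h1 h3
      obtain ⟨x, hx, rfl⟩ := exists_mk p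
      obtain ⟨y, hy, rfl⟩ := exists_mk p'
      obtain ⟨z, hz, rfl⟩ := exists_mk p''
      rw [Set.mem_ofPred_eq, singP_mk] at hp hp' hp''
      rw [farP_mk] at h1 h3
      obtain ⟨s, hs, hsx, b, hsy⟩ := o_move h2 S hS x y z hp hp' hp'' h1 h3
      exact ⟨mkP s, ⟨s, hs, rfl⟩, smul_mk_eq s x x hx hx 1 (by rw [hsx, one_smul]),
        smul_mk_eq s y z hy hz b hsy⟩
    · intro p hp p'' hp'' hnf
      obtain ⟨x, hx, rfl⟩ := exists_mk p
      obtain ⟨z, hz, rfl⟩ := exists_mk p''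
      rw [Set.mem_ofPred_eq, singP_mk] at hp hp''
      rw [farP_mk, not_not] at hnf
      obtain ⟨w', hw'0, hw', hxw', hzw'⟩ := o_cross h2 S hS x z hx hz hp hnf
      refine ⟨Projectivization.mk F w' hw'0, ?_, ?_, ?_⟩
      · rw [Set.mem_ofPred_eq, singP_mk]
        exact hw'
      · rw [farP_mk]
        exact hxw'
      · rw [farP_mk]
        exact hzw'
    · intro p hp p' hp' hne hnf
      obtain ⟨x, hx, rfl⟩ := exists_mk p
      obtain ⟨y, hy, rfl⟩ := exists_mk p'
      rw [Set.mem_ofPred_eq, singP_mk] at hp hp'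
      rw [farP_mk, not_not] at hnf
      have hne' : ¬ ∃ a : F, y = a • x := by
        rintro ⟨a, ha⟩
        apply hne
        rw [Projectivization.mk_eq_mk_iff']
        have ha0 : a ≠ 0 := by
          intro h0
          apply hy
          rw [ha, h0, zero_smul]
        exact ⟨a⁻¹, by rw [ha, smul_smul, inv_mul_cancel₀ ha0, one_smul]⟩
      obtain ⟨h4, hspan⟩ := o_dim h2 S hS x y hx hne' hp hp' hnf
      by_cases h5 : 5 ≤ n
      · left
        obtain ⟨s, hs, hsx, hfar⟩ := o_tilt h2 S hS h5 x y hx hne' hp' hnf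
        have hsy0 : (s : Mn) *ᵥ y ≠ 0 := mulVec_ne_zero_SL s hy
        refine ⟨mkP s, ⟨s, hs, rfl⟩, smul_mk_eq s x x hx hx 1 (by rw [hsx, one_smul]), ?_⟩
        rw [smul_mk_eq s y _ hy hsy0 1 (by rw [one_smul]), farP_mk]
        exact hfar
      · right
        have hn4 : n = 4 := by omega
        obtain ⟨L, hLe, hxL, hL1, hL2⟩ :=
          o_line h2 S hS hq x y hx hy hne' hp hp' hnf (hspan hn4)
        refine ⟨L, hLe, hxL, ?_, ?_⟩
        · intro z hz hnf1 hnf2
          obtain ⟨v, hv, rfl⟩ := exists_mk z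
          rw [farP_mk, not_not] at hnf1 hnf2
          exact hL1 v hv hnf1 hnf2
        · intro z hz hzx
          obtain ⟨s, hs, hsx, hsy⟩ := hL2 z hz hzx
          exact ⟨mkP s, ⟨s, hs, rfl⟩, smul_mk_eq s x x hx hx 1 (by rw [hsx, one_smul]), hsy⟩
    · exact o_parity h2 S w hdiag
    · intro m hm p hp
      obtain ⟨s, hs, rfl⟩ := hM hm
      obtain ⟨v, hv, rfl⟩ := exists_mk p
      have hs' : psiS S s = s := hs
      rw [Set.mem_ofPred_eq, singP_mk] at hp
      have hsv : (s : Mn) *ᵥ v ≠ 0 := mulVec_ne_zero_SL s hv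
      rw [smul_mk_eq s v _ hv hsv 1 (by rw [one_smul]), Set.mem_ofPred_eq, singP_mk,
        (psiS_fix_iff_bf S s).mp hs', hp]
  rw [eq_bot_iff]
  intro m hm
  rw [Subgroup.mem_bot]
  obtain ⟨s, hs, rfl⟩ := hM hm
  have hfix : ∀ v : Vn, v ≠ 0 → bf (S : Mn) v v = 0 →
      ∃ a : F, Tsl 1 (Matrix.SpecialLinearGroup.toGL s) v = a • v := by
    intro v hv hsing
    have h1 := key (mkP s) hm (Projectivization.mk F v hv) (by
      rw [Set.mem_ofPred_eq, singP_mk]; exact hsing)
    obtain ⟨a, ha⟩ := eq_smul_of_smul_mk s v v hv hv h1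
    exact ⟨a, ha⟩
  obtain ⟨-, c, hc⟩ := semilinear_O h2 S hS hn (Matrix.SpecialLinearGroup.toGL s) 1 hfix
  exact mkP_eq_one_of_smul s c hc

end Cfsg.Agent.Lib.Helper2.Lbu
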