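import Mathlib
import Cfsg.Prelude
import Cfsg.Agent.Lib.Helper2.LbuF
import Cfsg.Agent.Lib.Helper2.LbuG
import Cfsg.Agent.Lib.Helper2.LbuE
import Cfsg.Agent.Lib.Helper5.PsuGraph.Transfer5

set_option autoImplicit false
set_option linter.unusedSectionVars false
set_option linter.unusedVariables false
open Cfsg

/-! Local balance for `PSU_n`: the fixed points of a graph involution as the image of the isometry
group of a symmetric or alternating form over the subfield. -/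

namespace Cfsg.Agent.Lib.Helper2.Lbu

open Matrix Cfsg.Agent.Lib.Helper9.APSU Cfsg.Agent.Lib.Helper9.ALB
  Cfsg.Agent.Lib.Helper5.Herm Cfsg.Agent.Lib.Helper5.HermBlock
  Cfsg.Agent.Lib.Helper5.HermTv Cfsg.Agent.Lib.Helper5.HermEich Cfsg.Agent.Lib.Helper5.HermSU
  Cfsg.Agent.Lib.Helper5.HermSimple Cfsg.Agent.Lib.Helper5.PsuGraph
  Cfsg.Agent.Lib.Helper5.PslGraph Cfsg.Agent.Lib.Helper6.Lbg

open Cfsg.Agent.Lib.Helper9.APSL (sG sG_coe sG_one sG_mul uA uA_coe sG_scalar ct ct_apply ct_mul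
  ct_smul ct_ct glmap_coe sG_glmap exists_glmap_eq conjSL conjSL_coe mkP mkP_eq_iff mkP_surjective)

attribute [local instance 2000] suSMul suAction suSMulComm

section gdata

variable {F : Type*} [Field F] [Fintype F] {q : ℕ} (hF : Fintype.card F = q ^ 2) (n : ℕ)
  {F₀ : Type*} [Field F₀]

/-- the descent datum of a graph involution `cU g * fU τ` -/
structure GData (τ : RingAut F) (ι : F₀ →+* F) (g : ↥(Cfsg.GU n F q)) where
  P : GL (Fin n) F
  ε : Fˣ
  κ : Fˣ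
  S₀ : GL (Fin n) F₀
  d : F₀
  hgP : Matrix.GeneralLinearGroup.scalar (Fin n) ε * (g : GL (Fin n) F) * sG τ P = P
  hPS : ct τ (P : Matrix (Fin n) (Fin n) F) * (P : Matrix (Fin n) (Fin n) F) =
    (κ : F) • (S₀ : Matrix (Fin n) (Fin n) F₀).map ι
  hd : (S₀ : Matrix (Fin n) (Fin n) F₀) = d • (S₀ : Matrix (Fin n) (Fin n) F₀)ᵀ

set_option quotPrecheck false
local notation "Vn" => (Fin n → F)
local notation "Mn" => Matrix (Fin n) (Fin n) F
local notation "M₀" => Matrix (Fin n) (Fin n) F₀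
local notation "GLn" => GL (Fin n) F
local notation "GUn" => ↥(Cfsg.GU n F q)
local notation "SUn" => ↥(Cfsg.SU n F q)
local notation "PSUn" => Cfsg.PSU n F q
local notation "SL₀" => Matrix.SpecialLinearGroup (Fin n) F₀
local notation "scl" => Matrix.GeneralLinearGroup.scalar (Fin n)

/-- the automorphism of `SU` inducing `cU g * fU τ` -/
def PsiG (τ : RingAut F) (g : ↥(Cfsg.GU n F q)) : ↥(Cfsg.SU n F q) ≃* ↥(Cfsg.SU n F q) :=
  (fieldSU n τ).trans (conjSU n g)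

omit [Fintype F] in
theorem liftU_PsiG (τ : RingAut F) (g : GUn) : liftU n (PsiG n τ g) = cU n g * fU n τ := by
  show liftU n ((fieldSU n τ).trans (conjSU n g)) = liftU n (conjSU n g) * liftU n (fieldSU n τ)
  rw [liftU_mul]

omit [Fintype F] in
/-- the fixed points of `PsiG`, in terms of matrices -/
theorem PsiG_fix_iff (τ : RingAut F) (g : GUn) (s : SUn) :
    PsiG n τ g s = s ↔
      (g : GLn) * sG τ ((toGU n s : GUn) : GLn) * ((g : GLn))⁻¹ = ((toGU n s : GUn) : GLn) := by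
  have hcoe : ((PsiG n τ g s : Matrix.SpecialLinearGroup (Fin n) F) : Mn) =
      ((g : GLn) : Mn) * ((s : Matrix.SpecialLinearGroup (Fin n) F) : Mn).map τ *
        (((g : GLn)⁻¹ : GLn) : Mn) := by
    show ((conjSU n g (fieldSU n τ s) : Matrix.SpecialLinearGroup (Fin n) F) : Mn) = _
    rw [conjSU_coe, fieldSU_coe]
  constructor
  · intro h
    apply Units.ext
    rw [Units.val_mul, Units.val_mul, sG_coe, toGU_coe, ← hcoe, h]
  · intro h
    apply Subtype.ext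
    apply Subtype.ext
    rw [hcoe]
    have := congrArg (fun x : GLn => (x : Mn)) h
    simp only [Units.val_mul, sG_coe, toGU_coe] at this
    exact this

variable {τ : RingAut F} {ι : F₀ →+* F} {g : ↥(Cfsg.GU n F q)}

omit [Fintype F] in
theorem GData.dd (D : GData n τ ι g) (hn : 0 < n) : D.d * D.d = 1 :=
  sq_one_of_smul_transpose hn D.S₀ D.d D.hd

omit [Fintype F] in
theorem GData.hT (D : GData n τ ι g) : (D.S₀ : M₀)ᵀ = D.d • (D.S₀ : M₀) := by
  conv_lhs => rw [D.hd]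
  rw [transpose_smul, transpose_transpose]

omit [Fintype F] in
/-- the fixed points of `psiS S₀` are the isometries -/
theorem GData.fix_iff (D : GData n τ ι g) (hn : 0 < n) (y : SL₀) :
    psiS D.S₀ y = y ↔ (y : M₀)ᵀ * (D.S₀ : M₀) * (y : M₀) = (D.S₀ : M₀) := by
  have hd0 : D.d ≠ 0 := by
    intro h0
    have := D.dd n hn
    rw [h0, mul_zero] at this
    exact zero_ne_one this
  rw [psiS_fix_iff, D.hT, Matrix.mul_smul, Matrix.smul_mul]
  constructor
  · intro h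
    exact smul_right_injective _ hd0 h
  · intro h
    rw [h]

omit [Fintype F] in
/-- a conjugate `P ι(y₀) P⁻¹` is unitary iff `y₀` is an isometry of `S₀` -/
theorem GData.conj_mem_iff (D : GData n τ ι g) (hτq : ∀ x : F, τ x = x ^ q)
    (hι' : ∀ b, τ (ι b) = ι b) (y₀ : GL (Fin n) F₀) :
    D.P * Matrix.GeneralLinearGroup.map ι y₀ * D.P⁻¹ ∈ Cfsg.GU n F q ↔
      (y₀ : M₀)ᵀ * (D.S₀ : M₀) * (y₀ : M₀) = (D.S₀ : M₀) := by
  rw [conj_mem_GU_iff τ q hτq, D.hPS, glmap_coe, ct_glmap ι τ hι', Matrix.mul_smul,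
    Matrix.smul_mul, ← Matrix.map_mul, ← Matrix.map_mul]
  constructor
  · intro h
    have h1 := smul_right_injective _ D.κ.ne_zero h
    exact Matrix.map_injective ι.injective h1
  · intro h
    rw [h]

omit [Fintype F] in
/-- the twisting relation -/
theorem GData.twist (D : GData n τ ι g) (Z : GLn) :
    (g : GLn) * sG τ (D.P * Z * D.P⁻¹) * ((g : GLn))⁻¹ = D.P * sG τ Z * D.P⁻¹ := by
  have hX : sG τ D.P = ((g : GLn))⁻¹ * (scl D.ε)⁻¹ * D.P := by
    conv_rhs => rw [← D.hgP]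
    group
  have hc : ∀ W : GLn, (scl D.ε)⁻¹ * W * scl D.ε = W := by
    intro W
    rw [mul_assoc, Cfsg.Agent.Lib.Helper9.APSU.sc_comm, ← mul_assoc, inv_mul_cancel, one_mul]
  rw [map_mul, map_mul, map_inv, hX]
  calc (g : GLn) * (((g : GLn))⁻¹ * (scl D.ε)⁻¹ * D.P * sG τ Z *
        (((g : GLn))⁻¹ * (scl D.ε)⁻¹ * D.P)⁻¹) * ((g : GLn))⁻¹
      = (scl D.ε)⁻¹ * (D.P * sG τ Z * D.P⁻¹) * scl D.ε := by group
    _ = D.P * sG τ Z * D.P⁻¹ := hc _

omit [Fintype F] in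
theorem toGL_conj_map (P : GLn) (y : SL₀) :
    Matrix.SpecialLinearGroup.toGL (conjSL P (Matrix.SpecialLinearGroup.map ι y)) =
      P * Matrix.GeneralLinearGroup.map ι (Matrix.SpecialLinearGroup.toGL y) * P⁻¹ := by
  apply Units.ext
  show ((conjSL P (Matrix.SpecialLinearGroup.map ι y) : Matrix.SpecialLinearGroup (Fin n) F) : Mn)
    = _
  rw [conjSL_coe, Units.val_mul, Units.val_mul, glmap_coe,
    Matrix.SpecialLinearGroup.map_apply_coe, RingHom.mapMatrix_apply]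
  rfl

/-- the embedding of the isometry group of `S₀` -/
noncomputable def GData.emb (D : GData n τ ι g) (hτq : ∀ x : F, τ x = x ^ q)
    (hι' : ∀ b, τ (ι b) = ι b) (hn : 0 < n) : ↥(fixSL (psiS D.S₀)) →* ↥(Cfsg.SU n F q) :=
  MonoidHom.codRestrict ((conjSL D.P).toMonoidHom.comp
    ((Matrix.SpecialLinearGroup.map ι).comp (fixSL (psiS D.S₀)).subtype)) (Cfsg.SU n F q) (by
      intro y
      show Matrix.SpecialLinearGroup.toGL (conjSL D.P (Matrix.SpecialLinearGroup.map ι y.1)) ∈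
        Cfsg.GU n F q
      rw [toGL_conj_map]
      exact (D.conj_mem_iff n hτq hι' _).mpr ((D.fix_iff n hn y.1).mp y.2))

omit [Fintype F] in
theorem GData.emb_val (D : GData n τ ι g) (hτq : ∀ x : F, τ x = x ^ q)
    (hι' : ∀ b, τ (ι b) = ι b) (hn : 0 < n) (y : ↥(fixSL (psiS D.S₀))) :
    ((D.emb n hτq hι' hn y : SUn) : Matrix.SpecialLinearGroup (Fin n) F) =
      conjSL D.P (Matrix.SpecialLinearGroup.map ι y.1) := rfl

omit [Fintype F] in
theorem GData.emb_toGU (D : GData n τ ι g) (hτq : ∀ x : F, τ x = x ^ q)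
    (hι' : ∀ b, τ (ι b) = ι b) (hn : 0 < n) (y : ↥(fixSL (psiS D.S₀))) :
    ((toGU n (D.emb n hτq hι' hn y) : GUn) : GLn) =
      D.P * Matrix.GeneralLinearGroup.map ι (Matrix.SpecialLinearGroup.toGL y.1) * D.P⁻¹ := by
  rw [← toGL_conj_map]
  rfl

omit [Fintype F] in
theorem GData.emb_coe (D : GData n τ ι g) (hτq : ∀ x : F, τ x = x ^ q)
    (hι' : ∀ b, τ (ι b) = ι b) (hn : 0 < n) (y : ↥(fixSL (psiS D.S₀))) :
    (((D.emb n hτq hι' hn y : SUn) : Matrix.SpecialLinearGroup (Fin n) F) : Mn) =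
      (D.P : Mn) * ((y.1 : SL₀) : M₀).map ι * ((D.P⁻¹ : GLn) : Mn) := by
  rw [D.emb_val, conjSL_coe, Matrix.SpecialLinearGroup.map_apply_coe, RingHom.mapMatrix_apply]

omit [Fintype F] in
theorem GData.emb_fixed (D : GData n τ ι g) (hτq : ∀ x : F, τ x = x ^ q)
    (hι' : ∀ b, τ (ι b) = ι b) (hn : 0 < n) (y : ↥(fixSL (psiS D.S₀))) :
    PsiG n τ g (D.emb n hτq hι' hn y) = D.emb n hτq hι' hn y := by
  rw [PsiG_fix_iff, D.emb_toGU, D.twist, sG_glmap τ ι hι']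

omit [Fintype F] in
theorem GData.exists_emb_eq (D : GData n τ ι g) (hτq : ∀ x : F, τ x = x ^ q)
    (hι : ∀ a : F, τ a = a ↔ a ∈ Set.range ι) (hn : 0 < n) (s : SUn)
    (hs : PsiG n τ g s = s) :
    ∃ y : ↥(fixSL (psiS D.S₀)), D.emb n hτq (fun b => (hι _).mpr ⟨b, rfl⟩) hn y = s := by
  have hι' : ∀ b, τ (ι b) = ι b := fun b => (hι _).mpr ⟨b, rfl⟩
  rw [PsiG_fix_iff] at hs
  obtain ⟨sG', hsG'⟩ : ∃ sG' : GLn, sG' = ((toGU n s : GUn) : GLn) := ⟨_, rfl⟩
  rw [← hsG'] at hs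
  obtain ⟨Z, hZ⟩ : ∃ Z : GLn, Z = D.P⁻¹ * sG' * D.P := ⟨_, rfl⟩
  have hsZ : sG' = D.P * Z * D.P⁻¹ := by
    rw [hZ]
    group
  have hfix : sG τ Z = Z := by
    have h1 := D.twist n Z
    rw [← hsZ, hs, hsZ] at h1
    have h2 : D.P⁻¹ * (D.P * Z * D.P⁻¹) * D.P = D.P⁻¹ * (D.P * sG τ Z * D.P⁻¹) * D.P := by
      rw [h1]
    have h3 : Z = sG τ Z := by
      calc Z = D.P⁻¹ * (D.P * Z * D.P⁻¹) * D.P := by group
        _ = D.P⁻¹ * (D.P * sG τ Z * D.P⁻¹) * D.P := h2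
        _ = sG τ Z := by group
    exact h3.symm
  obtain ⟨y₀, hy₀⟩ := exists_glmap_eq τ ι hι Z hfix
  have hmem : D.P * Matrix.GeneralLinearGroup.map ι y₀ * D.P⁻¹ ∈ Cfsg.GU n F q := by
    rw [hy₀, ← hsZ, hsG']
    exact (toGU n s).2
  have hiso := (D.conj_mem_iff n hτq hι' y₀).mp hmem
  have hdet : (y₀ : M₀).det = 1 := by
    apply ι.injective
    rw [RingHom.map_det, RingHom.mapMatrix_apply, ← glmap_coe, hy₀, hZ, map_one, Units.val_mul,
      Units.val_mul, Matrix.det_mul, Matrix.det_mul, hsG', toGU_coe]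
    have h1 : ((s : Matrix.SpecialLinearGroup (Fin n) F) : Mn).det = 1 := s.1.2
    rw [h1, mul_one, ← Matrix.det_mul, ← Units.val_mul, inv_mul_cancel, Units.val_one,
      Matrix.det_one]
  obtain ⟨y, hy⟩ : ∃ y : SL₀, (y : M₀) = (y₀ : M₀) := ⟨⟨(y₀ : M₀), hdet⟩, rfl⟩
  have hyfix : psiS D.S₀ y = y := by
    rw [D.fix_iff n hn, hy]
    exact hiso
  refine ⟨⟨y, hyfix⟩, ?_⟩
  apply Subtype.ext
  apply Subtype.ext
  rw [D.emb_coe]
  show (D.P : Mn) * (y : M₀).map ι * ((D.P⁻¹ : GLn) : Mn) = _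
  rw [hy, ← glmap_coe, hy₀, ← Units.val_mul, ← Units.val_mul, ← hsZ, hsG', toGU_coe]

omit [Fintype F] in
theorem GData.emb_smul (D : GData n τ ι g) (hτq : ∀ x : F, τ x = x ^ q)
    (hι' : ∀ b, τ (ι b) = ι b) (hn : 0 < n) (y : ↥(fixSL (psiS D.S₀))) (v : Vn) :
    D.emb n hτq hι' hn y • v =
      (D.P : Mn) *ᵥ (((y.1 : SL₀) : M₀).map ι *ᵥ (((D.P⁻¹ : GLn) : Mn) *ᵥ v)) := by
  rw [su_smul_eq, D.emb_coe, mulVec_mulVec, mulVec_mulVec, Matrix.mul_assoc]

include hF in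
/-- the embedding is compatible with the centres -/
theorem GData.mkU_emb_eq_one_iff (D : GData n τ ι g) (hτq : ∀ x : F, τ x = x ^ q)
    (hι' : ∀ b, τ (ι b) = ι b) (hn : 1 ≤ n) (y : ↥(fixSL (psiS D.S₀))) :
    mkU n (D.emb n hτq hι' (by omega) y) = 1 ↔ mkP (y.1 : SL₀) = 1 := by
  have hPP : (D.P : Mn) * ((D.P⁻¹ : GLn) : Mn) = 1 := by
    rw [← Units.val_mul, mul_inv_cancel, Units.val_one]
  have hPP' : ((D.P⁻¹ : GLn) : Mn) * (D.P : Mn) = 1 := by
    rw [← Units.val_mul, inv_mul_cancel, Units.val_one]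
  rw [mkU_eq_one_iff hF n hn]
  constructor
  · rintro ⟨a, ha⟩
    have hmat : ((y.1 : SL₀) : M₀).map ι = a • (1 : Mn) := by
      rw [ext_iff_mulVec]
      intro x
      have hx' : ∀ w : Vn, ((D.P⁻¹ : GLn) : Mn) *ᵥ ((D.P : Mn) *ᵥ w) = w := by
        intro w
        rw [mulVec_mulVec, hPP', one_mulVec]
      have h1 := ha ((D.P : Mn) *ᵥ x)
      rw [D.emb_smul, hx'] at h1
      have h2 : ((D.P⁻¹ : GLn) : Mn) *ᵥ ((D.P : Mn) *ᵥ (((y.1 : SL₀) : M₀).map ι *ᵥ x)) =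
          ((D.P⁻¹ : GLn) : Mn) *ᵥ (a • ((D.P : Mn) *ᵥ x)) := by rw [h1]
      rw [hx', mulVec_smul, hx'] at h2
      rw [h2, smul_mulVec, one_mulVec]
    obtain ⟨i₀⟩ : Nonempty (Fin n) := ⟨⟨0, hn⟩⟩
    apply mkP_eq_one_of_smul (y.1 : SL₀) (((y.1 : SL₀) : M₀) i₀ i₀)
    ext i j
    apply ι.injective
    have h3 := congrFun (congrFun hmat i) j
    have h4 := congrFun (congrFun hmat i₀) i₀
    rw [Matrix.map_apply] at h3 h4
    rw [Matrix.smul_apply, Matrix.one_apply_eq, smul_eq_mul, mul_one] at h4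
    rw [h3, Matrix.smul_apply, Matrix.smul_apply, Matrix.one_apply, Matrix.one_apply, smul_eq_mul,
      smul_eq_mul, map_mul, h4]
    split_ifs
    · rw [map_one]
    · rw [map_zero]
  · intro h
    rw [Cfsg.Agent.Lib.Helper6.Lbg.mkP_eq_one_iff, Matrix.SpecialLinearGroup.mem_center_iff] at h
    obtain ⟨c, -, hc⟩ := h
    refine ⟨ι c, fun v => ?_⟩
    rw [D.emb_smul, ← hc]
    have : ((Matrix.scalar (Fin n)) c).map ι = ι c • (1 : Mn) := by
      ext i j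
      rw [Matrix.map_apply, Matrix.scalar_apply, Matrix.diagonal_apply, Matrix.smul_apply,
        Matrix.one_apply, smul_eq_mul]
      split_ifs
      · rw [mul_one]
      · rw [mul_zero, map_zero]
    rw [this, smul_mulVec, one_mulVec, mulVec_smul, mulVec_mulVec, hPP, one_mulVec]

end gdata

end Cfsg.Agent.Lib.Helper2.Lbu
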