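import Mathlib
import Cfsg.Prelude
import Cfsg.Agent.Lib.Helper2.LbuH

set_option autoImplicit false
set_option linter.unusedSectionVars false
set_option linter.unusedVariables false
open Cfsg

/-! Local balance for `PSU_n`: the two hypotheses of the engine for a graph involution. -/

namespace Cfsg.Agent.Lib.Helper2.Lbu

open Matrix Cfsg.Agent.Lib.Helper9.APSU Cfsg.Agent.Lib.Helper9.ALB
  Cfsg.Agent.Lib.Helper5.Herm Cfsg.Agent.Lib.Helper5.HermBlock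
  Cfsg.Agent.Lib.Helper5.HermTv Cfsg.Agent.Lib.Helper5.HermEich Cfsg.Agent.Lib.Helper5.HermSU
  Cfsg.Agent.Lib.Helper5.HermSimple Cfsg.Agent.Lib.Helper5.PsuGraph
  Cfsg.Agent.Lib.Helper5.PslGraph Cfsg.Agent.Lib.Helper6.Lbg

open Cfsg.Agent.Lib.Helper9.APSL (sG sG_coe sG_one sG_mul uA uA_coe sG_scalar ct ct_apply ct_mul
  ct_smul ct_ct glmap_coe sG_glmap exists_glmap_eq conjSL conjSL_coe mkP mkP_eq_iff mkP_surjective)

attribute [local instance 2000] suSMul suAction suSMulComm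

section he1

variable {F : Type*} [Field F] [Fintype F] {q : ℕ} (hF : Fintype.card F = q ^ 2) (n : ℕ)
  {F₀ : Type*} [Field F₀] [Fintype F₀] {τ : RingAut F} {ι : F₀ →+* F} {g : ↥(Cfsg.GU n F q)}

set_option quotPrecheck false
local notation "Vn" => (Fin n → F)
local notation "Mn" => Matrix (Fin n) (Fin n) F
local notation "M₀" => Matrix (Fin n) (Fin n) F₀
local notation "GLn" => GL (Fin n) F
local notation "GUn" => ↥(Cfsg.GU n F q)
local notation "SUn" => ↥(Cfsg.SU n F q)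
local notation "PSUn" => Cfsg.PSU n F q
local notation "SL₀" => Matrix.SpecialLinearGroup (Fin n) F₀
local notation "PSL₀" => Matrix.ProjectiveSpecialLinearGroup (Fin n) F₀
local notation "scl" => Matrix.GeneralLinearGroup.scalar (Fin n)

include hF in
/-- **no invariant odd-order subgroups** in the image of the fixed points of a graph involution -/
theorem he1_graphU (hn : 3 ≤ n) (D : GData n τ ι g) (hτq : ∀ x : F, τ x = x ^ q)
    (hι : ∀ a : F, τ a = a ↔ a ∈ Set.range ι) (h2 : (2 : F₀) ≠ 0) (hq₀ : Odd (Fintype.card F₀))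
    (hform : (D.S₀ : M₀)ᵀ = -(D.S₀ : M₀) ∨
      ((D.S₀ : M₀)ᵀ = (D.S₀ : M₀) ∧ ∃ w : Fin n → F₀, (D.S₀ : M₀) = Matrix.diagonal w))
    (M : Subgroup PSUn) (hM : M ≤ (fixSU n (PsiG n τ g)).map (mkU n))
    (hMn : ∀ z ∈ (fixSU n (PsiG n τ g)).map (mkU n), ∀ m ∈ M, z * m * z⁻¹ ∈ M)
    (hMc : (Nat.card M).Coprime 2) : M = ⊥ := by
  have hι' : ∀ b, τ (ι b) = ι b := fun b => (hι _).mpr ⟨b, rfl⟩
  have hn0 : 0 < n := by omega
  have hn1 : 1 ≤ n := by omega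
  obtain ⟨φ, hφ⟩ : ∃ φ : ↥(fixSL (psiS D.S₀)) →* PSUn,
    φ = (mkU n).comp (D.emb n hτq hι' hn0) := ⟨_, rfl⟩
  obtain ⟨ψ, hψ⟩ : ∃ ψ : ↥(fixSL (psiS D.S₀)) →* PSL₀,
    ψ = (mkP : SL₀ →* PSL₀).comp (fixSL (psiS D.S₀)).subtype := ⟨_, rfl⟩
  have hφa : ∀ y, φ y = mkU n (D.emb n hτq hι' hn0 y) := fun y => by rw [hφ]; rfl
  have hψa : ∀ y, ψ y = mkP (y.1 : SL₀) := fun y => by rw [hψ]; rfl
  have hker : ∀ y, φ y = 1 ↔ ψ y = 1 := by
    intro y
    rw [hφa, hψa]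
    exact D.mkU_emb_eq_one_iff hF n hτq hι' hn1 y
  have hφfix : ∀ y, φ y ∈ (fixSU n (PsiG n τ g)).map (mkU n) := by
    intro y
    rw [hφa]
    exact ⟨_, (mem_fixSU n _ _).mpr (D.emb_fixed n hτq hι' hn0 y), rfl⟩
  obtain ⟨M₁, hM₁⟩ : ∃ M₁ : Subgroup PSL₀, M₁ = (M.comap φ).map ψ := ⟨_, rfl⟩
  have hM₁le : M₁ ≤ (fixSL (psiS D.S₀)).map mkP := by
    rw [hM₁]
    rintro x ⟨y, -, rfl⟩
    rw [hψa]
    exact ⟨y.1, y.2, rfl⟩
  have hM₁n : ∀ z ∈ (fixSL (psiS D.S₀)).map mkP, ∀ m ∈ M₁, z * m * z⁻¹ ∈ M₁ := by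
    rintro z ⟨z₀, hz₀, rfl⟩ m hm
    rw [hM₁] at hm ⊢
    obtain ⟨y, hy, rfl⟩ := hm
    refine ⟨⟨z₀, hz₀⟩ * y * ⟨z₀, hz₀⟩⁻¹, ?_, ?_⟩
    · rw [SetLike.mem_coe, Subgroup.mem_comap, map_mul, map_mul, map_inv]
      exact hMn _ (hφfix _) _ hy
    · rw [map_mul, map_mul, map_inv, hψa ⟨z₀, hz₀⟩]
  have hM₁c : (Nat.card M₁).Coprime 2 := by
    rw [Nat.coprime_comm, Nat.Prime.coprime_iff_not_dvd Nat.prime_two]
    intro hdvd
    haveI : Fact (Nat.Prime 2) := ⟨Nat.prime_two⟩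
    obtain ⟨x, hx⟩ := exists_prime_orderOf_dvd_card' 2 hdvd
    obtain ⟨y, hy, hyx⟩ : ∃ y, y ∈ M.comap φ ∧ ψ y = x.1 := by
      have h0 : x.1 ∈ (M.comap φ).map ψ := hM₁ ▸ x.2
      obtain ⟨y, hy, hyx⟩ := h0
      exact ⟨y, hy, hyx⟩
    have hx2 : (x.1) ^ 2 = 1 := by
      have h1 := pow_orderOf_eq_one x
      rw [hx] at h1
      have h2 := congrArg Subtype.val h1
      rwa [Subgroup.coe_pow, Subgroup.coe_one] at h2
    have hφ2 : (φ y) ^ 2 = 1 := by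
      rw [← map_pow, hker, map_pow, hyx, hx2]
    have hφM : φ y ∈ M := hy
    have hφ1 : φ y = 1 := by
      have h1 : orderOf (⟨φ y, hφM⟩ : M) ∣ Nat.card M := orderOf_dvd_natCard _
      have h2' : orderOf (⟨φ y, hφM⟩ : M) ∣ 2 := by
        apply orderOf_dvd_of_pow_eq_one
        apply Subtype.ext
        rw [Subgroup.coe_pow, Subgroup.coe_one]
        exact hφ2
      have h3 : orderOf (⟨φ y, hφM⟩ : M) ∣ 1 := by
        have := Nat.dvd_gcd h1 h2'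
        rwa [Nat.Coprime.gcd_eq_one hMc] at this
      have h4 := orderOf_eq_one_iff.mp (Nat.dvd_one.mp h3)
      exact congrArg Subtype.val h4
    have hx1 : x = 1 := by
      apply Subtype.ext
      rw [← hyx]
      exact (hker y).mp hφ1
    rw [hx1, orderOf_one] at hx
    omega
  have hM₁bot : M₁ = ⊥ := by
    rcases hform with hS | ⟨hS, w, hw⟩
    · exact he1_sp_weak h2 hq₀ D.S₀ hS M₁ hM₁le hM₁n hM₁c
    · exact he1_O_weak h2 hq₀ hn D.S₀ hS w hw M₁ hM₁le hM₁n hM₁c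
  rw [eq_bot_iff]
  intro m hm
  rw [Subgroup.mem_bot]
  obtain ⟨s, hs, rfl⟩ := hM hm
  obtain ⟨y, hy⟩ := D.exists_emb_eq n hτq hι hn0 s ((mem_fixSU n _ _).mp hs)
  have hφy : φ y = mkU n s := by
    rw [hφa]
    exact congrArg _ hy
  have hyM : y ∈ M.comap φ := by
    rw [Subgroup.mem_comap, hφy]
    exact hm
  have h5 : ψ y ∈ M₁ := by
    rw [hM₁]
    exact ⟨y, hyM, rfl⟩
  rw [hM₁bot, Subgroup.mem_bot] at h5
  rw [← hφy]
  exact (hker y).mpr h5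

omit [Fintype F] in
theorem zpowers_involution (hτ2 : τ * τ = 1) (τ' : RingAut F) (h : τ' ∈ Subgroup.zpowers τ) :
    τ' = 1 ∨ τ' = τ := by
  obtain ⟨k, rfl⟩ := Subgroup.mem_zpowers_iff.mp h
  have h2 : τ ^ (2 : ℤ) = 1 := by
    rw [show (2 : ℤ) = ((2 : ℕ) : ℤ) by rfl, zpow_natCast, pow_two, hτ2]
  have hk : τ ^ k = τ ^ (k % 2) := by
    conv_lhs => rw [← Int.emod_add_mul_ediv k 2, _root_.zpow_add, _root_.zpow_mul, h2, _root_.one_zpow, mul_one]
  rcases Int.emod_two_eq_zero_or_one k with h0 | h1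
  · left
    rw [hk, h0, zpow_zero]
  · right
    rw [hk, h1, zpow_one]

include hF in
/-- **the centraliser of the fixed points of a graph involution** -/
theorem he2_graphU (hn : 3 ≤ n) (h32 : ¬ (n = 3 ∧ q = 2)) (r : ℕ) [Fact r.Prime] [CharP F r]
    (D : GData n τ ι g) (hτq : ∀ x : F, τ x = x ^ q) (hτ2 : τ * τ = 1)
    (hι : ∀ a : F, τ a = a ↔ a ∈ Set.range ι) (h2 : (2 : F₀) ≠ 0)
    (ρ : MulAut PSUn) (hρ : ∀ s : SUn, PsiG n τ g s = s → ρ (mkU n s) = mkU n s) :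
    ρ ∈ Subgroup.zpowers (liftU n (PsiG n τ g)) := by
  have hι' : ∀ b, τ (ι b) = ι b := fun b => (hι _).mpr ⟨b, rfl⟩
  have hn0 : 0 < n := by omega
  have hn1 : 1 ≤ n := by omega
  obtain ⟨τ', h, rfl⟩ := exists_std hF n hn h32 r ρ
  have hT : ∀ s : SUn, PsiG n τ g s = s → ∃ a : F, ∀ w : Vn,
      s • gact n h (vmap n τ' w) = a • gact n h (vmap n τ' (s • w)) := by
    intro s hs
    have h1 := hρ s hs
    rw [MulAut.mul_apply, fU_mkU, cU_mkU, mkU_eq_iff hF n hn1] at h1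
    obtain ⟨a, ha⟩ := h1
    refine ⟨a, fun w => ?_⟩
    rw [ha, conjSU_smul, fieldSU_smul]
  have hPP' : ∀ w : Vn, ((D.P⁻¹ : GLn) : Mn) *ᵥ ((D.P : Mn) *ᵥ w) = w := by
    intro w
    rw [mulVec_mulVec, ← Units.val_mul, inv_mul_cancel, Units.val_one, one_mulVec]
  have hPP : ∀ w : Vn, (D.P : Mn) *ᵥ (((D.P⁻¹ : GLn) : Mn) *ᵥ w) = w := by
    intro w
    rw [mulVec_mulVec, ← Units.val_mul, mul_inv_cancel, Units.val_one, one_mulVec]
  have key := semi_form_rat ι τ'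
    (fun x => ((D.P⁻¹ : GLn) : Mn) *ᵥ gact n h (vmap n τ' ((D.P : Mn) *ᵥ x)))
    (by
      intro u v
      rw [mulVec_add, vmap_add, gact_add, mulVec_add])
    (by
      intro c v
      rw [mulVec_smul, vmap_smul, gact_smul, mulVec_smul])
    h2 hn D.S₀ D.d D.hd
    (by
      intro v hv
      have h0 : (D.P : Mn) *ᵥ (((D.P⁻¹ : GLn) : Mn) *ᵥ
          gact n h (vmap n τ' ((D.P : Mn) *ᵥ v))) = (D.P : Mn) *ᵥ 0 :=
        congrArg (fun w => (D.P : Mn) *ᵥ w) hv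
      rw [hPP, mulVec_zero] at h0
      have h1 := congrArg (gact n h⁻¹) h0
      rw [gact_inv_gact, gact_zero] at h1
      have h3 := congrArg (vmap n τ'.symm) h1
      rw [vmap_symm', vmap_zero] at h3
      have h4 : ((D.P⁻¹ : GLn) : Mn) *ᵥ ((D.P : Mn) *ᵥ v) = ((D.P⁻¹ : GLn) : Mn) *ᵥ 0 :=
        congrArg (fun w => ((D.P⁻¹ : GLn) : Mn) *ᵥ w) h3
      rw [hPP', mulVec_zero] at h4
      exact h4)
    (by
      intro y hy
      obtain ⟨a, ha⟩ := hT (D.emb n hτq hι' hn0 ⟨y, hy⟩) (D.emb_fixed n hτq hι' hn0 ⟨y, hy⟩)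
      refine ⟨a, fun x => ?_⟩
      have h1 := ha ((D.P : Mn) *ᵥ x)
      rw [D.emb_smul, D.emb_smul, hPP'] at h1
      have h3 : ((D.P⁻¹ : GLn) : Mn) *ᵥ ((D.P : Mn) *ᵥ ((y : M₀).map ι *ᵥ
          (((D.P⁻¹ : GLn) : Mn) *ᵥ gact n h (vmap n τ' ((D.P : Mn) *ᵥ x))))) =
          ((D.P⁻¹ : GLn) : Mn) *ᵥ (a • gact n h (vmap n τ' ((D.P : Mn) *ᵥ ((y : M₀).map ι *ᵥ x)))) :=
        congrArg (fun w => ((D.P⁻¹ : GLn) : Mn) *ᵥ w) h1
      rw [hPP', mulVec_smul] at h3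
      exact h3)
  obtain ⟨hfix, c, hc⟩ := key
  have hτz : τ' ∈ Subgroup.zpowers τ := by
    apply Cfsg.Agent.Lib.Helper6.Lbg.zpowers_of_fixes' τ τ'
    intro a ha
    obtain ⟨t, rfl⟩ := (hι a).mp ha
    exact hfix t
  have hcol : ∀ j : Fin n, gact n h (vmap n τ' ((D.P : Mn) *ᵥ Pi.single j 1)) =
      c • ((D.P : Mn) *ᵥ Pi.single j 1) := by
    intro j
    have h1 := hc (Pi.single j 1)
    rw [iv_single] at h1
    have h3 : (D.P : Mn) *ᵥ (((D.P⁻¹ : GLn) : Mn) *ᵥ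
        gact n h (vmap n τ' ((D.P : Mn) *ᵥ Pi.single j 1))) =
        (D.P : Mn) *ᵥ (c • Pi.single j 1) :=
      congrArg (fun w => (D.P : Mn) *ᵥ w) h1
    rw [hPP, mulVec_smul] at h3
    exact h3
  have hmat : ((h : GLn) : Mn) * (D.P : Mn).map τ' = c • (D.P : Mn) := by
    ext i j
    have h1 := congrFun (hcol j) i
    rw [Matrix.mulVec_single_one] at h1
    rw [Matrix.smul_apply, Matrix.mul_apply]
    rw [Pi.smul_apply, Matrix.col_apply] at h1
    rw [← h1]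
    rfl
  rcases zpowers_involution hτ2 τ' hτz with h1 | h1
  · -- `τ' = 1`
    subst h1
    have hmat' : ((h : GLn) : Mn) = c • (1 : Mn) := by
      have h3 : (D.P : Mn).map (1 : RingAut F) = (D.P : Mn) := by
        ext i j
        rfl
      rw [h3] at hmat
      calc ((h : GLn) : Mn) = ((h : GLn) : Mn) * (D.P : Mn) * ((D.P⁻¹ : GLn) : Mn) := by
            rw [Matrix.mul_assoc, ← Units.val_mul, mul_inv_cancel, Units.val_one, Matrix.mul_one]
        _ = c • (1 : Mn) := by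
            rw [hmat, Matrix.smul_mul, ← Units.val_mul, mul_inv_cancel, Units.val_one]
    have hcU : cU n h = 1 := by
      rw [← MonoidHom.mem_ker, mem_ker_cU hF n hn]
      refine ⟨c, fun v => ?_⟩
      unfold gact
      rw [hmat', smul_mulVec, one_mulVec]
    rw [hcU, map_one, one_mul]
    exact one_mem _
  · -- `τ' = τ`
    subst h1
    have hgP : ((scl D.ε : GLn) : Mn) * ((g : GLn) : Mn) * (D.P : Mn).map τ' = (D.P : Mn) := by
      have := congrArg (fun x : GLn => (x : Mn)) D.hgP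
      simp only [Units.val_mul, sG_coe] at this
      exact this
    obtain ⟨X, hX⟩ : ∃ X : GLn, X = sG τ' D.P := ⟨_, rfl⟩
    have hXc : (X : Mn) = (D.P : Mn).map τ' := by rw [hX, sG_coe]
    have hmat' : ((h : GLn) : Mn) = c • (((scl D.ε : GLn) : Mn) * ((g : GLn) : Mn)) := by
      rw [← hXc] at hmat hgP
      calc ((h : GLn) : Mn) = ((h : GLn) : Mn) * (X : Mn) * ((X⁻¹ : GLn) : Mn) := by
            rw [Matrix.mul_assoc, ← Units.val_mul, mul_inv_cancel, Units.val_one, Matrix.mul_one]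
        _ = c • (((scl D.ε : GLn) : Mn) * ((g : GLn) : Mn)) := by
            rw [hmat]
            conv_lhs => rw [← hgP]
            rw [Matrix.smul_mul, Matrix.mul_assoc, Units.mul_inv, Matrix.mul_one]
    have hker : h * g⁻¹ ∈ (cU (F := F) (q := q) n).ker := by
      rw [mem_ker_cU hF n hn]
      refine ⟨c * (D.ε : F), fun v => ?_⟩
      rw [gact_mul]
      show ((h : GLn) : Mn) *ᵥ gact n g⁻¹ v = _
      rw [hmat', smul_mulVec, ← mulVec_mulVec]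
      have h5 : ((g : GLn) : Mn) *ᵥ gact n g⁻¹ v = v := gact_gact_inv n g v
      rw [h5, Matrix.GeneralLinearGroup.coe_scalar,
        Cfsg.Agent.Lib.Helper9.APSL.scalar_mulVec, smul_smul]
    have hcU : cU n h = cU n g := by
      have h5 := MonoidHom.mem_ker.mp hker
      rw [map_mul, map_inv, mul_inv_eq_one] at h5
      exact h5
    rw [hcU, ← liftU_PsiG]
    exact Subgroup.mem_zpowers _

end he1

end Cfsg.Agent.Lib.Helper2.Lbu
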