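import Mathlib
import Cfsg.Prelude
import Cfsg.Agent.Lib.Helper2.LbuI

set_option autoImplicit false
set_option linter.unusedSectionVars false
set_option linter.unusedVariables false
open Cfsg

/-! Local balance for `PSU_n`: the graph involutions. -/

namespace Cfsg.Agent.Lib.Helper2.Lbu

open Matrix Cfsg.Agent.Lib.Helper9.APSU Cfsg.Agent.Lib.Helper9.ALB
  Cfsg.Agent.Lib.Helper5.Herm Cfsg.Agent.Lib.Helper5.HermBlock
  Cfsg.Agent.Lib.Helper5.HermTv Cfsg.Agent.Lib.Helper5.HermEich Cfsg.Agent.Lib.Helper5.HermSU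
  Cfsg.Agent.Lib.Helper5.HermSimple Cfsg.Agent.Lib.Helper5.PsuGraph
  Cfsg.Agent.Lib.Helper5.PslGraph Cfsg.Agent.Lib.Helper6.Lbg

open Cfsg.Agent.Lib.Helper9.APSL (sG sG_coe sG_one sG_mul uA uA_coe sG_scalar ct ct_apply ct_mul
  ct_smul ct_ct glmap_coe sG_glmap exists_glmap_eq conjSL conjSL_coe mkP mkP_eq_iff mkP_surjective)

attribute [local instance 2000] suSMul suAction suSMulComm

section diag

variable {K : Type*} [Field K] {n : ℕ}

/-- a symmetric invertible matrix is congruent to a diagonal one -/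
theorem exists_diag_congr (h2 : (2 : K) ≠ 0) (S : GL (Fin n) K)
    (hS : (S : Matrix (Fin n) (Fin n) K)ᵀ = (S : Matrix (Fin n) (Fin n) K)) :
    ∃ (B : GL (Fin n) K) (w : Fin n → K),
      (B : Matrix (Fin n) (Fin n) K)ᵀ * (S : Matrix (Fin n) (Fin n) K) *
        (B : Matrix (Fin n) (Fin n) K) = Matrix.diagonal w := by
  obtain ⟨Q, hQ, -⟩ := exists_quadForm_of_symm h2 S hS
  haveI : Invertible (2 : K) := invertibleOfNonzero h2
  obtain ⟨w', hw'⟩ := QuadraticForm.equivalent_weightedSumSquares Q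
  obtain ⟨m, hm, w, ⟨e⟩⟩ : ∃ (m : ℕ) (_ : n = m) (w : Fin m → K),
      Nonempty (Q.IsometryEquiv (QuadraticMap.weightedSumSquares K w)) :=
    ⟨_, (Module.finrank_fin_fun K).symm, w', hw'⟩
  subst hm
  obtain ⟨ℓ, hℓ⟩ : ∃ ℓ : (Fin n → K) ≃ₗ[K] (Fin n → K), ∀ v, ℓ v = e.symm v :=
    ⟨e.symm.toLinearEquiv, fun v => rfl⟩
  obtain ⟨P, hP⟩ : ∃ P : Matrix (Fin n) (Fin n) K,
    P = LinearMap.toMatrix' (ℓ : (Fin n → K) →ₗ[K] (Fin n → K)) := ⟨_, rfl⟩
  have hPv : ∀ v : Fin n → K, P *ᵥ v = ℓ v := by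
    intro v
    rw [hP, LinearMap.toMatrix'_mulVec]
    rfl
  have hquad : ∀ v : Fin n → K, bf (S : Matrix (Fin n) (Fin n) K) (ℓ v) (ℓ v) =
      bf (Matrix.diagonal w) v v := by
    intro v
    rw [hℓ, ← hQ, e.symm.map_app, QuadraticMap.weightedSumSquares_apply, bf_diagonal]
    apply Finset.sum_congr rfl
    intro i _
    rw [smul_eq_mul, mul_assoc]
  have hPSP : Pᵀ * (S : Matrix (Fin n) (Fin n) K) * P = Matrix.diagonal w := by
    apply bf_ext_diag h2
    · rw [transpose_mul, transpose_mul, transpose_transpose, hS, Matrix.mul_assoc]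
    · exact Matrix.diagonal_transpose w
    · intro v
      rw [← bf_mulVec, hPv]
      exact hquad v
  have hdetP : P.det ≠ 0 := by
    rw [hP, LinearMap.det_toMatrix']
    exact (LinearEquiv.isUnit_det' ℓ).ne_zero
  exact ⟨Matrix.GeneralLinearGroup.mkOfDetNeZero P hdetP, w, hPSP⟩

end diag

section main

variable {F : Type*} [Field F] [Fintype F] {q : ℕ} (hF : Fintype.card F = q ^ 2) (n : ℕ)
  {F₀ : Type*} [Field F₀] {τ : RingAut F} {ι : F₀ →+* F} {g : ↥(Cfsg.GU n F q)}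

set_option quotPrecheck false
local notation "Vn" => (Fin n → F)
local notation "Mn" => Matrix (Fin n) (Fin n) F
local notation "M₀" => Matrix (Fin n) (Fin n) F₀
local notation "GLn" => GL (Fin n) F
local notation "GUn" => ↥(Cfsg.GU n F q)
local notation "SUn" => ↥(Cfsg.SU n F q)
local notation "PSUn" => Cfsg.PSU n F q
local notation "SL₀" => Matrix.SpecialLinearGroup (Fin n) F₀
local notation "scl" => Matrix.GeneralLinearGroup.scalar (Fin n)

omit [Fintype F] in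
/-- a datum of orthogonal type can be taken diagonal -/
theorem GData.exists_diag (D : GData n τ ι g) (hι' : ∀ b, τ (ι b) = ι b) (h2 : (2 : F₀) ≠ 0)
    (hd : D.d = 1) :
    ∃ D' : GData n τ ι g, (D'.S₀ : M₀)ᵀ = (D'.S₀ : M₀) ∧
      ∃ w : Fin n → F₀, (D'.S₀ : M₀) = Matrix.diagonal w := by
  have hS : (D.S₀ : M₀)ᵀ = (D.S₀ : M₀) := by
    rw [D.hT, hd, one_smul]
  obtain ⟨B, w, hB⟩ := exists_diag_congr h2 D.S₀ hS
  have hdet : (Matrix.diagonal w).det ≠ 0 := by
    rw [← hB, det_mul, det_mul, det_transpose]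
    have h1 : (B : M₀).det ≠ 0 := ((Matrix.isUnit_iff_isUnit_det _).mp (Units.isUnit B)).ne_zero
    have h3 : (D.S₀ : M₀).det ≠ 0 :=
      ((Matrix.isUnit_iff_isUnit_det _).mp (Units.isUnit D.S₀)).ne_zero
    exact mul_ne_zero (mul_ne_zero h1 h3) h1
  obtain ⟨S', hS'⟩ : ∃ S' : GL (Fin n) F₀, (S' : M₀) = Matrix.diagonal w :=
    ⟨Matrix.GeneralLinearGroup.mkOfDetNeZero _ hdet, rfl⟩
  refine ⟨⟨D.P * Matrix.GeneralLinearGroup.map ι B, D.ε, D.κ, S', 1, ?_, ?_, ?_⟩, ?_, w, hS'⟩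
  · rw [map_mul, sG_glmap τ ι hι', ← mul_assoc, D.hgP]
  · rw [Units.val_mul, glmap_coe, ct_mul, ct_glmap ι τ hι', hS', ← hB, Matrix.map_mul,
      Matrix.map_mul]
    calc ((B : M₀)ᵀ).map ι * ct τ (D.P : Mn) * ((D.P : Mn) * (B : M₀).map ι)
        = ((B : M₀)ᵀ).map ι * (ct τ (D.P : Mn) * (D.P : Mn)) * (B : M₀).map ι := by
          simp only [Matrix.mul_assoc]
      _ = (D.κ : F) • (((B : M₀)ᵀ).map ι * (D.S₀ : M₀).map ι * (B : M₀).map ι) := by
          rw [D.hPS, Matrix.mul_smul, Matrix.smul_mul]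
  · rw [one_smul, hS', Matrix.diagonal_transpose]
  · show (S' : M₀)ᵀ = (S' : M₀)
    rw [hS', Matrix.diagonal_transpose]

/-! ### the order of `PSU_n(q)` is even -/

include hF in
theorem exists_involution_SU (hn : 3 ≤ n) (h2 : (2 : F) ≠ 0) :
    ∃ s : SUn, s * s = 1 ∧ mkU n s ≠ 1 := by
  obtain ⟨τ, hτq, -, -⟩ := exists_tau hF
  obtain ⟨d, hd⟩ : ∃ d : Fin n → F, d = (fun i : Fin n => if (i : ℕ) < 2 then (-1 : F) else 1) :=
    ⟨fun i : Fin n => if (i : ℕ) < 2 then (-1 : F) else 1, rfl⟩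
  have hdd : ∀ i, d i * d i = 1 := by
    intro i
    rw [hd]
    simp only []
    split_ifs
    · ring
    · ring
  have hdq : ∀ i, (d i) ^ q = d i := by
    intro i
    rw [hd]
    simp only []
    split_ifs
    · rw [← hτq, map_neg, map_one]
    · rw [one_pow]
  have hprod : ∏ i, d i = 1 := by
    rw [hd]
    rw [Fin.prod_univ_eq_prod_range (fun i : ℕ => if i < 2 then (-1 : F) else 1) n]
    have key : ∀ m : ℕ, 2 ≤ m → ∏ i ∈ Finset.range m, (if i < 2 then (-1 : F) else 1) = 1 := by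
      intro m hm
      induction m, hm using Nat.le_induction with
      | base =>
        rw [Finset.prod_range_succ, Finset.prod_range_succ, Finset.prod_range_zero]
        norm_num
      | succ k hk ih =>
        rw [Finset.prod_range_succ, ih, if_neg (by omega), mul_one]
    exact key n (by omega)
  have hmem : (⟨Matrix.diagonal d, by rw [det_diagonal, hprod]⟩ :
      Matrix.SpecialLinearGroup (Fin n) F) ∈ Cfsg.SU n F q := by
    intro u v
    show hermForm n F q (Matrix.diagonal d *ᵥ u) (Matrix.diagonal d *ᵥ v) = hermForm n F q u v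
    unfold hermForm
    apply Finset.sum_congr rfl
    intro i _
    rw [mulVec_diagonal, mulVec_diagonal, mul_pow, hdq]
    calc d i * u i * (d i * v i ^ q) = (d i * d i) * (u i * v i ^ q) := by ring
      _ = u i * v i ^ q := by rw [hdd, one_mul]
  obtain ⟨s, hs⟩ : ∃ s : SUn, ∀ v : Vn, s • v = fun i => d i * v i := by
    refine ⟨⟨_, hmem⟩, fun v => ?_⟩
    rw [su_smul_eq]
    funext i
    exact mulVec_diagonal d v i
  refine ⟨s, ?_, ?_⟩
  · apply su_ext
    intro v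
    rw [mul_smul, one_smul, hs, hs]
    funext i
    rw [← mul_assoc, hdd, one_mul]
  · rw [Ne, mkU_eq_one_iff hF n (by omega)]
    rintro ⟨a, ha⟩
    have h0 := congrFun (ha (Pi.single ⟨0, by omega⟩ 1)) ⟨0, by omega⟩
    have h3 := congrFun (ha (Pi.single ⟨2, by omega⟩ 1)) ⟨2, by omega⟩
    rw [hs, Pi.smul_apply, Pi.single_eq_same, smul_eq_mul, mul_one] at h0 h3
    have h0' : d ⟨0, by omega⟩ * (Pi.single (⟨0, by omega⟩ : Fin n) (1 : F) :
        Fin n → F) ⟨0, by omega⟩ = a := h0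
    have h3' : d ⟨2, by omega⟩ * (Pi.single (⟨2, by omega⟩ : Fin n) (1 : F) :
        Fin n → F) ⟨2, by omega⟩ = a := h3
    rw [Pi.single_eq_same, mul_one] at h0' h3'
    have e0 : d ⟨0, by omega⟩ = -1 := by
      rw [hd]
      exact if_pos (by norm_num)
    have e3 : d ⟨2, by omega⟩ = 1 := by
      rw [hd]
      exact if_neg (by norm_num)
    rw [e0] at h0'
    rw [e3] at h3'
    apply h2
    have : (1 : F) = -1 := h3'.trans h0'.symm
    linear_combination this

include hF in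
theorem two_dvd_card_PSU (hn : 3 ≤ n) (h2 : (2 : F) ≠ 0) : 2 ∣ Nat.card PSUn := by
  obtain ⟨s, hs, hs1⟩ := exists_involution_SU hF n hn h2
  have : Finite PSUn := inferInstance
  have h1 : orderOf (mkU n s) = 2 := by
    apply orderOf_eq_prime
    · rw [pow_two, ← map_mul, hs, map_one]
    · exact hs1
  rw [← h1]
  exact orderOf_dvd_natCard _

include hF in
/-- an involutory automorphism of `PSU_n(q)`, `q` odd, has an even number of fixed points -/
theorem two_dvd_card_fixPU (hn : 3 ≤ n) (h2 : (2 : F) ≠ 0) (β : MulAut PSUn)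
    (hβ : β * β = 1) : 2 ∣ Nat.card ↥(fixPU n β) := by
  classical
  have : Finite PSUn := inferInstance
  haveI : Fintype PSUn := Fintype.ofFinite _
  obtain ⟨f, hf⟩ : ∃ f : Function.End PSUn, f = (β : PSUn → PSUn) := ⟨_, rfl⟩
  have hf2 : f ^ 2 ^ 1 = 1 := by
    rw [pow_one, pow_two, hf]
    funext x
    exact DFunLike.congr_fun hβ x
  haveI : Fact (Nat.Prime 2) := ⟨Nat.prime_two⟩
  have h1 := Equiv.Perm.card_fixedPoints_modEq (p := 2) (n := 1) hf2
  rw [Fintype.card_eq_nat_card, Fintype.card_eq_nat_card] at h1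
  have h3 : Nat.card ↥(Function.fixedPoints f) = Nat.card ↥(fixPU n β) := by
    apply Nat.card_congr
    rw [hf]
    exact Equiv.subtypeEquivRight (fun x => Iff.rfl)
  rw [← h3]
  exact (Nat.ModEq.dvd_iff h1 (dvd_refl 2)).mp (two_dvd_card_PSU hF n hn h2)

omit [Fintype F] in
theorem odd_card_of_two_ne_zero {K : Type*} [Field K] [Fintype K] (h2 : (2 : K) ≠ 0) :
    Odd (Fintype.card K) := by
  rw [Nat.odd_iff]
  apply FiniteField.odd_card_of_char_ne_two
  intro h
  apply h2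
  have h1 := CharP.cast_eq_zero K (ringChar K)
  rw [h] at h1
  exact_mod_cast h1

include hF in
/-- **the graph case**: the `2'`-core of the centraliser of an involution which is not
inner-diagonal is trivial -/
theorem main_graphU (hn : 3 ≤ n) (h32 : ¬ (n = 3 ∧ q = 2)) (r : ℕ) [hr : Fact r.Prime]
    [CharP F r] (hr2 : r ≠ 2) (A : Subgroup (MulAut PSUn)) (hinn : ∀ k : PSUn, MulAut.conj k ∈ A)
    (g : ↥(Cfsg.GU n F q)) (σ : RingAut F)
    (hord : orderOf (cU n g * fU n σ : MulAut PSUn) = 2) (hσ1 : σ ≠ 1) :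
    Cfsg.pPrimeCore 2 ↥(A ⊓ Subgroup.centralizer {(cU n g * fU n σ : MulAut PSUn)}) = ⊥ := by
  have hn0 : 0 < n := by omega
  have h2F : (2 : F) ≠ 0 := by
    intro h
    have h3 : ((2 : ℕ) : F) = 0 := by exact_mod_cast h
    rw [CharP.cast_eq_zero_iff F r 2] at h3
    exact hr2 ((Nat.prime_dvd_prime_iff_eq hr.out Nat.prime_two).mp h3)
  have hsq : (cU n g * fU n σ : MulAut PSUn) ^ 2 = 1 := by
    rw [← hord, pow_orderOf_eq_one]
  rw [pow_cU_fU] at hsq
  have hσ2 : σ ^ 2 = 1 := by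
    have h1 : cU n (NkU n σ g 2) * fU n (σ ^ 2) = cU n 1 * fU n 1 := by
      rw [hsq, map_one, map_one, one_mul]
    exact std_unique hF n hn h1
  obtain ⟨τ, hτq, hτ2, hτ1⟩ := exists_tau hF
  have hστ : σ = τ := ringAut_involution_unique σ τ (by rw [← pow_two, hσ2]) hσ1 hτ2 hτ1
  subst hστ
  rw [hσ2, map_one, mul_one] at hsq
  obtain ⟨z, hz⟩ := exists_scalar_of_mem_ker hF n hn (MonoidHom.mem_ker.mpr hsq)
  rw [NkU_coe, Cfsg.Agent.Lib.Helper9.APSL.Nk_succ, Cfsg.Agent.Lib.Helper9.APSL.Nk_succ,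
    Cfsg.Agent.Lib.Helper9.APSL.Nk_zero, map_one, mul_one] at hz
  obtain ⟨ι, hι⟩ := exists_fixed_iota σ
  have hι' : ∀ b, σ (ι b) = ι b := fun b => (hι _).mpr ⟨b, rfl⟩
  haveI : Fintype ↥(FixedPoints.subfield (Subgroup.zpowers σ) F) := Fintype.ofFinite _
  obtain ⟨P, ε, κ, S₀, d, hgP, hPS, hd⟩ :=
    exists_data_of_unitary ι σ q hτq hι hτ2 hτ1 hn0 (g : GLn) g.2 z hz
  have h2₀ : (2 : ↥(FixedPoints.subfield (Subgroup.zpowers σ) F)) ≠ 0 := by
    intro h
    apply h2F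
    have := congrArg ι h
    rwa [map_ofNat, map_zero] at this
  have hq₀ := odd_card_of_two_ne_zero h2₀
  obtain ⟨D, hD⟩ : ∃ D : GData n σ ι g, D = ⟨P, ε, κ, S₀, d, hgP, hPS, hd⟩ := ⟨_, rfl⟩
  have hfin : ∀ D' : GData n σ ι g,
      ((D'.S₀ : Matrix (Fin n) (Fin n) ↥(FixedPoints.subfield (Subgroup.zpowers σ) F))ᵀ =
          -(D'.S₀ : Matrix (Fin n) (Fin n) ↥(FixedPoints.subfield (Subgroup.zpowers σ) F)) ∨
        ((D'.S₀ : Matrix (Fin n) (Fin n) ↥(FixedPoints.subfield (Subgroup.zpowers σ) F))ᵀ =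
          (D'.S₀ : Matrix (Fin n) (Fin n) ↥(FixedPoints.subfield (Subgroup.zpowers σ) F)) ∧
          ∃ w : Fin n → ↥(FixedPoints.subfield (Subgroup.zpowers σ) F),
            (D'.S₀ : Matrix (Fin n) (Fin n) ↥(FixedPoints.subfield (Subgroup.zpowers σ) F)) =
              Matrix.diagonal w)) →
      Cfsg.pPrimeCore 2 ↥(A ⊓ Subgroup.centralizer {(cU n g * fU n σ : MulAut PSUn)}) = ⊥ := by
    intro D' hform
    rw [← liftU_PsiG]
    exact core_botU hF n hn (PsiG n σ g) 2 A hinn (by rw [liftU_PsiG]; exact hord)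
      (he1_graphU hF n hn D' hτq hι h2₀ hq₀ hform)
      (he2_graphU hF n hn h32 r D' hτq hτ2 hι h2₀)
  rcases mul_self_eq_one_iff.mp (D.dd n hn0) with h1 | h1
  · obtain ⟨D', hS', w, hw⟩ := D.exists_diag n hι' h2₀ h1
    exact hfin D' (Or.inr ⟨hS', w, hw⟩)
  · apply hfin D
    left
    rw [D.hT, h1, neg_smul, one_smul]

end main

end Cfsg.Agent.Lib.Helper2.Lbu
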