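import Mathlib
import Cfsg.Agent.Lib.Helper2.LevDefs

/-! S2522 farm, piece P4: bridging lemmas for the Sourour step. -/

set_option autoImplicit false
set_option linter.unusedVariables false
set_option linter.unusedSectionVars false
set_option linter.style.longLine false
set_option linter.style.haveILetI false

namespace Cfsg.Agent.Lib.Helper2.Lev

open Module

universe u v

variable {K : Type v} [Field K] {V : Type u} [AddCommGroup V] [Module K V]

/-- separation of a vector from a subspace by a functional -/
theorem sep' {W : Submodule K V} {x : V} (hx : x ∉ W) :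
    ∃ φ : Module.Dual K V, (∀ w ∈ W, φ w = 0) ∧ φ x ≠ 0 := by
  obtain ⟨f, hf, hmap⟩ := Submodule.exists_dual_map_eq_bot_of_notMem hx inferInstance
  refine ⟨f, ?_, hf⟩
  intro w hw
  have : f w ∈ W.map f := Submodule.mem_map_of_mem hw
  rw [hmap] at this
  simpa using this

/-- if `g - 1` is not of rank at most one, its range is not inside a line. -/
theorem exists_not_mem_span {g : Module.End K V}
    (hrk : ∀ (x : V) (α : Module.Dual K V), g ≠ 1 + LinearMap.smulRight α x) (d : V) :
    ∃ v : V, (g - 1 : Module.End K V) v ∉ Submodule.span K {d} := by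
  by_contra hcon
  push Not at hcon
  by_cases hd : d = 0
  · subst hd
    apply hrk 0 0
    apply LinearMap.ext
    intro v
    have := hcon v
    simp only [Submodule.span_zero_singleton, Submodule.mem_bot] at this
    have h' : g v - v = 0 := by simpa using this
    simp [sub_eq_zero.mp h']
  · obtain ⟨ψ, -, hψd⟩ := sep' (K := K) (W := (⊥ : Submodule K V)) (x := d) (by simpa using hd)
    let α : Module.Dual K V := (ψ d)⁻¹ • (ψ ∘ₗ (g - 1 : Module.End K V))
    apply hrk d α
    apply LinearMap.ext
    intro v
    obtain ⟨t, ht⟩ := Submodule.mem_span_singleton.mp (hcon v)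
    have hα : α v = t := by
      show (ψ d)⁻¹ • ψ ((g - 1 : Module.End K V) v) = t
      rw [← ht, map_smul, smul_eq_mul, smul_eq_mul, mul_comm t, ← mul_assoc, inv_mul_cancel₀ hψd, one_mul]
    have hgv : g v - v = t • d := by
      have : (g - 1 : Module.End K V) v = g v - v := by simp
      rw [← this, ht]
    show g v = (1 + LinearMap.smulRight α d) v
    simp only [LinearMap.add_apply, Module.End.one_apply, LinearMap.smulRight_apply, hα]
    rw [← hgv]; abel

theorem StepData.good_gP {g : Module.End K V} (sd : StepData g)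
    (h1 : ∀ a : K, a ≠ 1 → ¬ ScalarAt g sd.e sd.φ a) (h2 : ¬ LowRankAt g sd.e sd.φ) : Good sd.gP := by
  constructor
  · intro a ha
    have hsc : ScalarAt g sd.e sd.φ a := by
      intro y hy
      have := congrArg (fun f : Module.End K sd.H => ((f ⟨y, hy⟩ : sd.H) : V)) ha
      simpa using this
    by_cases ha1 : a = 1
    · subst ha1
      apply h2
      refine ⟨0, 0, ?_⟩
      intro y hy
      rw [hsc y hy]; simp
    · exact h1 a ha1 hsc
  · intro x' α' ha
    apply h2
    refine ⟨(x' : V), α' ∘ₗ sd.proj, ?_⟩
    intro y hy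
    have := congrArg (fun f : Module.End K sd.H => ((f ⟨y, hy⟩ : sd.H) : V)) ha
    have hproj : sd.proj y = ⟨y, hy⟩ := by
      apply Subtype.ext
      rw [sd.proj_coe, hy, zero_smul, sub_zero]
    simp only [StepData.gP_coe, LinearMap.add_apply, Module.End.one_apply, LinearMap.smulRight_apply,
      Submodule.coe_add, Submodule.coe_smul] at this
    rw [this, LinearMap.comp_apply, hproj]
    abel

theorem StepData.c1_ne_zero {g : Module.End K V} (sd : StepData g)
    (h : sd.φ ∘ₗ (g - 1 : Module.End K V) ≠ 0) : sd.c1 ≠ 0 := by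
  intro h0
  apply h
  apply LinearMap.ext
  intro v
  have hv : v = sd.φ v • sd.e + ((sd.proj v : sd.H) : V) := by
    rw [sd.proj_coe]; abel
  have hc : sd.c1 (sd.proj v) = 0 := by rw [h0]; rfl
  have hc' : sd.φ ((g - 1 : Module.End K V) ((sd.proj v : sd.H) : V)) = 0 := hc
  have hDe : sd.φ ((g - 1 : Module.End K V) sd.e) = 0 := by
    simp [sd.hφe, sd.hφge]
  show sd.φ ((g - 1 : Module.End K V) v) = 0
  rw [hv, map_add, map_add, map_smul, map_smul, hDe, hc']
  simp

theorem StepData.b1_ne_zero {g : Module.End K V} (sd : StepData g) (h : g sd.e ≠ sd.e) : sd.b1 ≠ 0 := by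
  intro h0
  apply h
  have := congrArg (fun y : sd.H => (y : V)) h0
  have h' : g sd.e - sd.e = 0 := by simpa using this
  exact sub_eq_zero.mp h'

/-- in dimension two a good `g` has `g - 1` injective -/
theorem injective_of_good_of_finrank_two [FiniteDimensional K V] (h2 : Module.finrank K V = 2)
    {g : Module.End K V} (hrk : ∀ (x : V) (α : Module.Dual K V), g ≠ 1 + LinearMap.smulRight α x) :
    Function.Injective (g - 1 : Module.End K V) := by
  by_contra hD
  have hker : LinearMap.ker (g - 1 : Module.End K V) ≠ ⊥ := fun h => hD (LinearMap.ker_eq_bot.mp h)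
  have hk1 : 1 ≤ Module.finrank K (LinearMap.ker (g - 1 : Module.End K V)) := by
    by_contra hlt
    have : Module.finrank K (LinearMap.ker (g - 1 : Module.End K V)) = 0 := by omega
    exact hker (Submodule.finrank_eq_zero.mp this)
  have hrn := LinearMap.finrank_range_add_finrank_ker (g - 1 : Module.End K V)
  have hr1 : Module.finrank K (LinearMap.range (g - 1 : Module.End K V)) ≤ 1 := by omega
  obtain ⟨d, hd⟩ := finrank_le_one_iff.mp hr1
  obtain ⟨v, hv⟩ := exists_not_mem_span hrk (d : V)
  apply hv
  obtain ⟨t, ht⟩ := hd ⟨(g - 1 : Module.End K V) v, LinearMap.mem_range_self _ v⟩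
  refine Submodule.mem_span_singleton.mpr ⟨t, ?_⟩
  have := congrArg (fun y : LinearMap.range (g - 1 : Module.End K V) => (y : V)) ht
  simpa using this

end Cfsg.Agent.Lib.Helper2.Lev
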