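import Mathlib
import Cfsg.Agent.Lib.Helper2.LevDefs
import Cfsg.Agent.Lib.Helper2.LevBridge
import Cfsg.Agent.Lib.Helper6.LevCover

/-! S2522 farm, piece P9: choice of the vector `e`. -/

set_option autoImplicit false
set_option linter.unusedVariables false
set_option linter.unusedSectionVars false
set_option linter.style.longLine false
set_option linter.style.haveILetI false
set_option maxHeartbeats 1000000

namespace Cfsg.Agent.Lib.Helper2.Lev

open Module

universe u v

variable {K : Type v} [Field K] {V : Type u} [AddCommGroup V] [Module K V]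

theorem card_le_of_le_four (hK : 4 ≤ Cardinal.mk K) (m : ℕ) (hm : m ≤ 4) : (m : Cardinal) ≤ Cardinal.mk K := by
  refine le_trans ?_ hK
  exact_mod_cast hm

theorem not_mem_span_swap' {x y : V} (hx : x ≠ 0) (h : y ∉ Submodule.span K {x}) :
    x ∉ Submodule.span K {y} := by
  intro hmem
  obtain ⟨t, ht⟩ := Submodule.mem_span_singleton.mp hmem
  have ht0 : t ≠ 0 := by
    rintro rfl
    exact hx (by simpa using ht.symm)
  apply h
  refine Submodule.mem_span_singleton.mpr ⟨t⁻¹, ?_⟩
  rw [← ht, smul_smul, inv_mul_cancel₀ ht0, one_smul]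

theorem choose_e_I (hK : 4 ≤ Cardinal.mk K) {g : Module.End K V} (hg : ∀ a : K, g ≠ a • (1 : Module.End K V))
    (hrk : ∀ (x : V) (α : Module.Dual K V), g ≠ 1 + LinearMap.smulRight α x)
    (b : V) (c : Module.Dual K V) (hc : c ≠ 0) :
    ∃ e : V, c e ≠ 0 ∧ (g - 1 : Module.End K V) e ∉ Submodule.span K {b} ∧ ∀ s : K, g e ≠ s • e := by
  classical
  let Sc : Submodule K V := LinearMap.ker c
  let Sb : Submodule K V := (Submodule.span K {b}).comap (g - 1 : Module.End K V)
  have hSc : Sc ≠ ⊤ := by
    intro h
    apply hc
    apply LinearMap.ext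
    intro v
    have : v ∈ Sc := by rw [h]; trivial
    simpa [Sc] using this
  have hSb : Sb ≠ ⊤ := by
    intro h
    obtain ⟨v, hv⟩ := exists_not_mem_span hrk b
    apply hv
    have : v ∈ Sb := by rw [h]; trivial
    exact this
  by_contra hcon
  push Not at hcon
  -- every vector outside Sc ∪ Sb is an eigenvector
  have heig : ∀ e : V, e ∉ Sc → e ∉ Sb → ∃ s : K, g e = s • e := by
    intro e h1 h2
    apply hcon e
    · intro h; exact h1 (by simpa [Sc] using h)
    · intro h; exact h2 h
  obtain ⟨e0, he0⟩ := exists_not_mem_of_card_le ({Sc, Sb} : Finset (Submodule K V))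
    (by
      intro s hs
      simp only [Finset.mem_insert, Finset.mem_singleton] at hs
      rcases hs with rfl | rfl
      · exact hSc
      · exact hSb)
    (card_le_of_le_four hK _ (le_trans (Finset.card_le_two) (by norm_num)))
  have he0c : e0 ∉ Sc := he0 Sc (by simp)
  have he0b : e0 ∉ Sb := he0 Sb (by simp)
  obtain ⟨s0, hs0⟩ := heig e0 he0c he0b
  have he00 : e0 ≠ 0 := by
    rintro rfl
    exact he0c (Submodule.zero_mem _)
  let E : Submodule K V := LinearMap.ker (g - s0 • (1 : Module.End K V))
  have hE : E ≠ ⊤ := by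
    intro h
    apply hg s0
    apply LinearMap.ext
    intro v
    have : v ∈ E := by rw [h]; trivial
    have h' : g v - s0 • v = 0 := by simpa [E] using this
    simpa using sub_eq_zero.mp h'
  have he0E : e0 ∈ E := by
    show (g - s0 • (1 : Module.End K V)) e0 = 0
    simp [hs0]
  obtain ⟨e1, he1⟩ := exists_not_mem_of_card_le ({Sc, Sb, E} : Finset (Submodule K V))
    (by
      intro s hs
      simp only [Finset.mem_insert, Finset.mem_singleton] at hs
      rcases hs with rfl | rfl | rfl
      · exact hSc
      · exact hSb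
      · exact hE)
    (card_le_of_le_four hK _ (le_trans (Finset.card_le_three) (by norm_num)))
  have he1c : e1 ∉ Sc := he1 Sc (by simp)
  have he1b : e1 ∉ Sb := he1 Sb (by simp)
  have he1E : e1 ∉ E := he1 E (by simp)
  obtain ⟨s1, hs1⟩ := heig e1 he1c he1b
  have hs01 : s1 ≠ s0 := by
    rintro rfl
    apply he1E
    show (g - s1 • (1 : Module.End K V)) e1 = 0
    simp [hs1]
  have he10 : e1 ≠ 0 := by
    rintro rfl
    exact he1c (Submodule.zero_mem _)
  -- work inside W = span {e0, e1}
  let W : Submodule K V := Submodule.span K {e0, e1}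
  have he0W : e0 ∈ W := Submodule.subset_span (by simp)
  have he1W : e1 ∈ W := Submodule.subset_span (by simp)
  have h10 : e1 ∉ Submodule.span K {e0} := by
    intro hmem
    obtain ⟨r, hr⟩ := Submodule.mem_span_singleton.mp hmem
    apply he1E
    rw [← hr]
    exact E.smul_mem r he0E
  have h01 : e0 ∉ Submodule.span K {e1} := not_mem_span_swap' he00 h10
  obtain ⟨ew, hew⟩ := exists_not_mem_of_card_le
    ({Sc.comap W.subtype, Sb.comap W.subtype, (Submodule.span K {e0}).comap W.subtype,
      (Submodule.span K {e1}).comap W.subtype} : Finset (Submodule K W))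
    (by
      intro s hs
      simp only [Finset.mem_insert, Finset.mem_singleton] at hs
      rcases hs with rfl | rfl | rfl | rfl
      · intro h
        have : (⟨e0, he0W⟩ : W) ∈ Sc.comap W.subtype := by rw [h]; trivial
        exact he0c this
      · intro h
        have : (⟨e0, he0W⟩ : W) ∈ Sb.comap W.subtype := by rw [h]; trivial
        exact he0b this
      · intro h
        have : (⟨e1, he1W⟩ : W) ∈ (Submodule.span K {e0}).comap W.subtype := by rw [h]; trivial
        exact h10 this
      · intro h
        have : (⟨e0, he0W⟩ : W) ∈ (Submodule.span K {e1}).comap W.subtype := by rw [h]; trivial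
        exact h01 this)
    (card_le_of_le_four hK _ (le_trans (Finset.card_le_four) (le_refl _)))
  have hewc : (ew : V) ∉ Sc := fun h => hew (Sc.comap W.subtype) (by simp) h
  have hewb : (ew : V) ∉ Sb := fun h => hew (Sb.comap W.subtype) (by simp) h
  have hew0 : (ew : V) ∉ Submodule.span K {e0} := fun h => hew ((Submodule.span K {e0}).comap W.subtype) (by simp) h
  have hew1 : (ew : V) ∉ Submodule.span K {e1} := fun h => hew ((Submodule.span K {e1}).comap W.subtype) (by simp) h
  obtain ⟨r, t, hrt⟩ := Submodule.mem_span_pair.mp ew.2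
  have hr0 : r ≠ 0 := by
    rintro rfl
    apply hew1
    rw [← hrt, zero_smul, zero_add]
    exact Submodule.smul_mem _ _ (Submodule.mem_span_singleton_self _)
  have ht0 : t ≠ 0 := by
    rintro rfl
    apply hew0
    rw [← hrt, zero_smul, add_zero]
    exact Submodule.smul_mem _ _ (Submodule.mem_span_singleton_self _)
  obtain ⟨s, hs⟩ := heig (ew : V) hewc hewb
  -- apply (g - s0) to the eigenvector equation
  have h1 : r • (s0 • e0) + t • (s1 • e1) = s • (r • e0 + t • e1) := by
    rw [← hs0, ← hs1, ← map_smul, ← map_smul, ← map_add, hrt, hs]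
  have h2 : (r * (s0 - s)) • e0 + (t * (s1 - s)) • e1 = 0 := by
    have : (r * (s0 - s)) • e0 + (t * (s1 - s)) • e1
        = (r • (s0 • e0) + t • (s1 • e1)) - s • (r • e0 + t • e1) := by
      simp only [smul_smul, smul_add, mul_sub, sub_smul]
      rw [mul_comm s r, mul_comm s t]
      abel
    rw [this, h1, sub_self]
  -- e0, e1 are independent
  have hcoef1 : t * (s1 - s) = 0 := by
    by_contra hne
    apply h10
    have : e1 = (-(t * (s1 - s))⁻¹ * (r * (s0 - s))) • e0 := by
      have h3 : (t * (s1 - s)) • e1 = -((r * (s0 - s)) • e0) := by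
        rw [eq_neg_iff_add_eq_zero, add_comm]; exact h2
      calc e1 = (t * (s1 - s))⁻¹ • ((t * (s1 - s)) • e1) := by
                rw [smul_smul, inv_mul_cancel₀ hne, one_smul]
        _ = _ := by rw [h3, smul_neg, smul_smul, neg_mul, neg_smul]
    rw [this]
    exact Submodule.smul_mem _ _ (Submodule.mem_span_singleton_self _)
  have hcoef0 : r * (s0 - s) = 0 := by
    rw [hcoef1, zero_smul, add_zero] at h2
    by_contra hne
    apply he00
    have h5 : (r * (s0 - s))⁻¹ • ((r * (s0 - s)) • e0) = 0 := by rw [h2, smul_zero]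
    rwa [smul_smul, inv_mul_cancel₀ hne, one_smul] at h5
  have hss1 : s1 = s := by
    rcases mul_eq_zero.mp hcoef1 with h | h
    · exact absurd h ht0
    · exact sub_eq_zero.mp h
  have hss0 : s0 = s := by
    rcases mul_eq_zero.mp hcoef0 with h | h
    · exact absurd h hr0
    · exact sub_eq_zero.mp h
  exact hs01 (hss1.trans hss0.symm)

theorem choose_e_II (hK : 4 ≤ Cardinal.mk K) [FiniteDimensional K V] {g : Module.End K V}
    (hrk : ∀ (x : V) (α : Module.Dual K V), g ≠ 1 + LinearMap.smulRight α x)
    (hD : ¬ Function.Injective (g - 1 : Module.End K V)) (b : V) (c : Module.Dual K V) (hc : c ≠ 0) :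
    ∃ e : V, c e ≠ 0 ∧ (g - 1 : Module.End K V) e ∉ Submodule.span K {b} ∧ e ∉ LinearMap.range (g - 1 : Module.End K V) ∧
      ∃ w : V, g w = w ∧ w ∉ Submodule.span K {(g - 1 : Module.End K V) e} := by
  classical
  let D : Module.End K V := g - 1
  let Sc : Submodule K V := LinearMap.ker c
  let Sb : Submodule K V := (Submodule.span K {b}).comap D
  let R : Submodule K V := LinearMap.range D
  let Sw : Submodule K V := (LinearMap.ker D).comap D
  have hSc : Sc ≠ ⊤ := by
    intro h
    apply hc
    apply LinearMap.ext
    intro v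
    have : v ∈ Sc := by rw [h]; trivial
    simpa [Sc] using this
  have hSb : Sb ≠ ⊤ := by
    intro h
    obtain ⟨v, hv⟩ := exists_not_mem_span hrk b
    apply hv
    have : v ∈ Sb := by rw [h]; trivial
    exact this
  have hR : R ≠ ⊤ := by
    intro h
    apply hD
    have hs : Function.Surjective D := LinearMap.range_eq_top.mp h
    exact LinearMap.injective_iff_surjective.mpr hs
  have hker : LinearMap.ker D ≠ ⊥ := fun h => hD (LinearMap.ker_eq_bot.mp h)
  have hfix : ∀ w : V, w ∈ LinearMap.ker D → g w = w := by
    intro w hw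
    have : D w = 0 := hw
    have h' : g w - w = 0 := by simpa [D] using this
    exact sub_eq_zero.mp h'
  by_cases h1 : Module.finrank K (LinearMap.ker D) = 1
  · -- one-dimensional fixed space
    obtain ⟨w0, hw0⟩ := finrank_eq_one_iff'.mp h1
    have hw0V : (w0 : V) ≠ 0 := by
      intro h
      apply hw0.1
      exact Subtype.ext h
    have hSw : Sw ≠ ⊤ := by
      intro h
      obtain ⟨v, hv⟩ := exists_not_mem_span hrk (w0 : V)
      apply hv
      have hvS : v ∈ Sw := by rw [h]; trivial
      have hDv : D v ∈ LinearMap.ker D := hvS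
      obtain ⟨t, ht⟩ := hw0.2 ⟨D v, hDv⟩
      refine Submodule.mem_span_singleton.mpr ⟨t, ?_⟩
      have := congrArg (fun y : LinearMap.ker D => (y : V)) ht
      exact this
    obtain ⟨e, he⟩ := exists_not_mem_of_card_le ({Sc, Sb, R, Sw} : Finset (Submodule K V))
      (by
        intro s hs
        simp only [Finset.mem_insert, Finset.mem_singleton] at hs
        rcases hs with rfl | rfl | rfl | rfl
        · exact hSc
        · exact hSb
        · exact hR
        · exact hSw)
      (card_le_of_le_four hK _ (le_trans (Finset.card_le_four) (le_refl _)))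
    have hec : e ∉ Sc := he Sc (by simp)
    have heb : e ∉ Sb := he Sb (by simp)
    have heR : e ∉ R := he R (by simp)
    have heW : e ∉ Sw := he Sw (by simp)
    refine ⟨e, fun h => hec (by simpa [Sc] using h), fun h => heb h, heR, (w0 : V), hfix _ w0.2, ?_⟩
    intro hmem
    obtain ⟨t, ht⟩ := Submodule.mem_span_singleton.mp hmem
    have ht0 : t ≠ 0 := by
      rintro rfl
      apply hw0V
      simpa using ht.symm
    apply heW
    show D e ∈ LinearMap.ker D
    have : D e = t⁻¹ • (w0 : V) := by
      rw [← ht, smul_smul, inv_mul_cancel₀ ht0, one_smul]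
    rw [this]
    exact Submodule.smul_mem _ _ w0.2
  · obtain ⟨e, he⟩ := exists_not_mem_of_card_le ({Sc, Sb, R} : Finset (Submodule K V))
      (by
        intro s hs
        simp only [Finset.mem_insert, Finset.mem_singleton] at hs
        rcases hs with rfl | rfl | rfl
        · exact hSc
        · exact hSb
        · exact hR)
      (card_le_of_le_four hK _ (le_trans (Finset.card_le_three) (by norm_num)))
    have hec : e ∉ Sc := he Sc (by simp)
    have heb : e ∉ Sb := he Sb (by simp)
    have heR : e ∉ R := he R (by simp)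
    have hk2 : 2 ≤ Module.finrank K (LinearMap.ker D) := by
      have h0 : Module.finrank K (LinearMap.ker D) ≠ 0 := by
        intro h
        exact hker (Submodule.finrank_eq_zero.mp h)
      omega
    have : ∃ w ∈ LinearMap.ker D, w ∉ Submodule.span K {D e} := by
      by_contra hcon
      push Not at hcon
      have hle : LinearMap.ker D ≤ Submodule.span K {D e} := hcon
      have h1' := Submodule.finrank_mono hle
      have h2' : Module.finrank K (Submodule.span K {D e}) ≤ 1 := by
        have := finrank_span_le_card (R := K) ({D e} : Set V)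
        simpa using this
      omega
    obtain ⟨w, hw, hwd⟩ := this
    exact ⟨e, fun h => hec (by simpa [Sc] using h), fun h => heb h, heR, w, hfix w hw, hwd⟩

end Cfsg.Agent.Lib.Helper2.Lev
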