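import Mathlib
import Cfsg.Agent.Lib.Helper2.LevDefs
import Cfsg.Agent.Lib.Helper2.LevBridge
import Cfsg.Agent.Lib.Helper2.LevChooseE
import Cfsg.Agent.Lib.Helper7.LevScalar
import Cfsg.Agent.Lib.Helper7.LevLowI
import Cfsg.Agent.Lib.Helper7.LevLowII
import Cfsg.Agent.Lib.Helper9.LevChoosePhi
import Cfsg.Agent.Lib.Helper1.LevStep
import Cfsg.Agent.Lib.Helper1.LevDet
import Cfsg.Agent.Lib.Helper9.LevDet3

set_option autoImplicit false
set_option linter.unusedVariables false
set_option linter.unusedSectionVars false
set_option linter.style.longLine false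
set_option linter.style.haveILetI false
set_option maxHeartbeats 1000000

namespace Cfsg.Agent.Lib.Helper2.Lev

open Module

universe u v

variable {K : Type v} [Field K] {V : Type u} [AddCommGroup V] [Module K V]

/-- the subspace of functionals vanishing at `b` -/
def h2Tat (b : V) : Submodule K (Module.Dual K V) := LinearMap.ker (Module.Dual.eval K V b)

theorem h2mem_Tat {b : V} {φ : Module.Dual K V} : φ ∈ h2Tat (K := K) b ↔ φ b = 0 := by
  simp [h2Tat]

/-- the subspace of functionals `φ` with `φ ∘ D = 0` -/
def h2TD (D : Module.End K V) : Submodule K (Module.Dual K V) := LinearMap.ker (LinearMap.dualMap D)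

theorem h2mem_TD {D : Module.End K V} {φ : Module.Dual K V} : φ ∈ h2TD D ↔ φ ∘ₗ D = 0 := by
  simp [h2TD, LinearMap.dualMap_apply']

theorem h2span_singleton_mem_iff {d x : V} : x ∈ Submodule.span K {d} ↔ ∃ t : K, t • d = x :=
  Submodule.mem_span_singleton

theorem h2not_mem_span_swap {x y : V} (hx : x ≠ 0) (h : y ∉ Submodule.span K {x}) :
    x ∉ Submodule.span K {y} := by
  intro hmem
  obtain ⟨t, ht⟩ := Submodule.mem_span_singleton.mp hmem
  have ht0 : t ≠ 0 := by
    rintro rfl
    exact hx (by simpa using ht.symm)
  apply h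
  refine Submodule.mem_span_singleton.mpr ⟨t⁻¹, ?_⟩
  rw [← ht, smul_smul, inv_mul_cancel₀ ht0, one_smul]

theorem main_lemma (hK : 4 ≤ Cardinal.mk K) [FiniteDimensional K V] (h2 : 2 ≤ Module.finrank K V)
    {g : Module.End K V} (hdet : LinearMap.det g = 1) (hg : Good g) {b : V} (hb : b ≠ 0)
    {c : Module.Dual K V} (hc : c ≠ 0) :
    ∃ sd : StepData g, sd.φ b ≠ 0 ∧ c sd.e ≠ 0 ∧ sd.b1 ≠ 0 ∧ sd.c1 ≠ 0 ∧
      (Module.finrank K sd.H = 1 ∨ Good sd.gP) := by
  classical
  obtain ⟨hns, hrk⟩ := hg
  have hgsurj : Function.Surjective g := by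
    have hu : IsUnit (LinearMap.det g) := by rw [hdet]; exact isUnit_one
    have hgu : IsUnit g := (LinearMap.isUnit_iff_isUnit_det g).mpr hu
    exact ((Module.End.isUnit_iff g).mp hgu).2
  -- the common final step
  have finish : ∀ (e : V) (φ : Module.Dual K V), c e ≠ 0 → g e ≠ e → φ e = 1 → φ ((g - 1 : Module.End K V) e) = 0 →
      φ b ≠ 0 → φ ∘ₗ (g - 1 : Module.End K V) ≠ 0 →
      (Module.finrank K V = 2 ∨ ((∀ a : K, a ≠ 1 → ¬ ScalarAt g e φ a) ∧ ¬ LowRankAt g e φ)) →
      ∃ sd : StepData g, sd.φ b ≠ 0 ∧ c sd.e ≠ 0 ∧ sd.b1 ≠ 0 ∧ sd.c1 ≠ 0 ∧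
        (Module.finrank K sd.H = 1 ∨ Good sd.gP) := by
    intro e φ hce hge hφe hφDe hφb hφD hgood
    have hφge : φ (g e) = 1 := by
      have : φ (g e) - φ e = 0 := by simpa using hφDe
      rw [hφe] at this
      exact sub_eq_zero.mp this
    let sd : StepData g := ⟨e, φ, hφe, hφge⟩
    refine ⟨sd, hφb, hce, sd.b1_ne_zero hge, sd.c1_ne_zero hφD, ?_⟩
    rcases hgood with h | ⟨h1, h2'⟩
    · left
      have := sd.finrank_H
      omega
    · right
      exact sd.good_gP h1 h2'
  -- range D is not inside a line
  have hrange : ∀ d : V, ∃ v : V, (g - 1 : Module.End K V) v ∉ Submodule.span K {d} := by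
    intro d
    by_contra hcon
    push Not at hcon
    by_cases hd : d = 0
    · subst hd
      apply hrk 0 0
      apply LinearMap.ext
      intro v
      have := hcon v
      simp only [Submodule.span_zero_singleton, Submodule.mem_bot] at this
      have h' : g v - v = 0 := by simpa using this
      simp [sub_eq_zero.mp h']
    · -- coefficient functional
      obtain ⟨ψ, -, hψd⟩ := sep' (K := K) (W := (⊥ : Submodule K V)) (x := d) (by simpa using hd)
      let α : Module.Dual K V := (ψ d)⁻¹ • (ψ ∘ₗ (g - 1 : Module.End K V))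
      apply hrk d α
      apply LinearMap.ext
      intro v
      obtain ⟨t, ht⟩ := Submodule.mem_span_singleton.mp (hcon v)
      have hα : α v = t := by
        show (ψ d)⁻¹ • ψ ((g - 1 : Module.End K V) v) = t
        rw [← ht, map_smul, smul_eq_mul, smul_eq_mul, mul_comm t, ← mul_assoc, inv_mul_cancel₀ hψd, one_mul]
      have hgv : g v - v = t • d := by
        have : (g - 1 : Module.End K V) v = g v - v := by simp
        rw [← this, ht]
      show g v = (1 + LinearMap.smulRight α d) v
      simp only [LinearMap.add_apply, Module.End.one_apply, LinearMap.smulRight_apply, hα]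
      rw [← hgv]; abel
  -- existence of a nonzero functional killing e and d (dimension at least 3)
  have hψ3 : 3 ≤ Module.finrank K V → ∀ e d : V, ∃ ψ : Module.Dual K V, ψ ≠ 0 ∧ ψ e = 0 ∧ ψ d = 0 := by
    intro h3 e d
    have hlt : Submodule.span K {e, d} ≠ ⊤ := by
      intro htop
      have h1 : Module.finrank K (Submodule.span K ({e, d} : Set V)) ≤ 2 := by
        have := finrank_span_le_card (R := K) ({e, d} : Set V)
        have hc2 : ({e, d} : Set V).toFinset.card ≤ 2 := by
          have : ({e, d} : Set V).toFinset = {e, d} := by ext; simp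
          rw [this]
          exact Finset.card_le_two
        omega
      rw [htop, finrank_top] at h1
      omega
    obtain ⟨x, hx⟩ : ∃ x : V, x ∉ Submodule.span K ({e, d} : Set V) := by
      by_contra hcon
      push Not at hcon
      exact hlt (Submodule.eq_top_iff'.mpr hcon)
    obtain ⟨ψ, hψ0, hψx⟩ := sep' hx
    refine ⟨ψ, ?_, hψ0 e (Submodule.subset_span (by simp)), hψ0 d (Submodule.subset_span (by simp))⟩
    intro h0
    exact hψx (by simp [h0])
  by_cases hD : Function.Injective (g - 1 : Module.End K V)
  · -- CASE A : D injective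
    have hDsurj : Function.Surjective (g - 1 : Module.End K V) := LinearMap.surjective_of_injective hD
    obtain ⟨e, hce, hDeb, hind⟩ := choose_e_I hK hns hrk b c hc
    have hge : g e ≠ e := by simpa using hind 1
    have hDe0 : (g - 1 : Module.End K V) e ≠ 0 := by
      intro h0
      apply hge
      have : g e - e = 0 := by simpa using h0
      exact sub_eq_zero.mp this
    have hed : e ∉ Submodule.span K {(g - 1 : Module.End K V) e} := by
      intro hmem
      obtain ⟨t, ht⟩ := Submodule.mem_span_singleton.mp hmem
      have ht0 : t ≠ 0 := by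
        rintro rfl
        have he0 : e = 0 := by simpa using ht.symm
        apply hce; simp [he0]
      apply hind (1 + t⁻¹)
      have h1 : g e - e = t⁻¹ • e := by
        have : (g - 1 : Module.End K V) e = g e - e := by simp
        rw [← this]
        rw [← ht, smul_smul, inv_mul_cancel₀ ht0, one_smul, ht]
      rw [add_smul, one_smul, ← h1]; abel
    have hbd : b ∉ Submodule.span K {(g - 1 : Module.End K V) e} := h2not_mem_span_swap hb hDeb
    have hTb : ∃ φ : Module.Dual K V, φ ((g - 1 : Module.End K V) e) = 0 ∧ φ ∉ h2Tat (K := K) b := by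
      obtain ⟨φ, h0, hφb⟩ := sep' hbd
      exact ⟨φ, h0 _ (Submodule.mem_span_singleton_self _), fun hm => hφb (h2mem_Tat.mp hm)⟩
    have hφDne : ∀ φ : Module.Dual K V, φ e = 1 → φ ∘ₗ (g - 1 : Module.End K V) ≠ 0 := by
      intro φ hφe h0
      obtain ⟨v, hv⟩ := hDsurj e
      have := congrArg (fun f : Module.Dual K V => f v) h0
      simp only [LinearMap.comp_apply, LinearMap.zero_apply] at this
      rw [hv, hφe] at this
      exact one_ne_zero this
    by_cases hn2 : Module.finrank K V = 2
    · obtain ⟨φ, hφe, hφd, hφT⟩ := choose_phi hK hed {h2Tat (K := K) b} (by simp) (by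
        intro t ht
        rw [Finset.mem_singleton] at ht
        subst ht
        exact hTb)
      exact finish e φ hce hge hφe hφd (fun h => hφT _ (by simp) (h2mem_Tat.mpr h)) (hφDne φ hφe) (Or.inl hn2)
    · have h3 : 3 ≤ Module.finrank K V := by omega
      obtain ⟨u, hu⟩ := hDsurj (g e)
      let P3 : Prop := ∃ (φ₃ : Module.Dual K V) (a : K), a ≠ 1 ∧ φ₃ e = 1 ∧ φ₃ (g e) = 1 ∧ ScalarAt g e φ₃ a
      let T3 : Finset (Submodule K (Module.Dual K V)) :=
        if h : P3 then {Submodule.span K {h.choose}} else ∅
      let Tu : Finset (Submodule K (Module.Dual K V)) :=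
        if Module.finrank K V = 3 then {h2Tat (K := K) u} else ∅
      let T : Finset (Submodule K (Module.Dual K V)) := ({h2Tat (K := K) b} ∪ T3) ∪ Tu
      have hT3card : T3.card ≤ 1 := by
        show (if h : P3 then ({Submodule.span K {h.choose}} : Finset _) else ∅).card ≤ 1
        split <;> simp
      have hTucard : Tu.card ≤ 1 := by
        show (if Module.finrank K V = 3 then ({h2Tat (K := K) u} : Finset _) else ∅).card ≤ 1
        split <;> simp
      have hTcard : T.card ≤ 3 := by
        calc T.card ≤ ({h2Tat (K := K) b} ∪ T3).card + Tu.card := Finset.card_union_le _ _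
          _ ≤ (({h2Tat (K := K) b} : Finset _).card + T3.card) + Tu.card := by
              gcongr; exact Finset.card_union_le _ _
          _ ≤ 3 := by simp; omega
      have hTd : ∀ t ∈ T, ∃ φ : Module.Dual K V, φ ((g - 1 : Module.End K V) e) = 0 ∧ φ ∉ t := by
        intro t ht
        rw [Finset.mem_union, Finset.mem_union] at ht
        rcases ht with (ht | ht) | ht
        · rw [Finset.mem_singleton] at ht; subst ht; exact hTb
        · by_cases hP : P3
          · have : T3 = {Submodule.span K {hP.choose}} := dif_pos hP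
            rw [this, Finset.mem_singleton] at ht
            subst ht
            obtain ⟨ψ, hψ0, hψe, hψd⟩ := hψ3 h3 e ((g - 1 : Module.End K V) e)
            refine ⟨ψ, hψd, ?_⟩
            intro hmem
            obtain ⟨s, hs⟩ := Submodule.mem_span_singleton.mp hmem
            have h1 := hP.choose_spec.choose_spec.2.1
            have : ψ e = s := by
              rw [← hs]; simp [h1]
            rw [hψe] at this
            apply hψ0
            rw [← hs, ← this, zero_smul]
          · have : T3 = ∅ := dif_neg hP
            rw [this] at ht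
            exact absurd ht (Finset.notMem_empty _)
        · by_cases h3' : Module.finrank K V = 3
          · have : Tu = {h2Tat (K := K) u} := if_pos h3'
            rw [this, Finset.mem_singleton] at ht
            subst ht
            have hunot := u_not_mem_span h3' hdet hD hind hu
            obtain ⟨φ, h0, hφu⟩ := sep' hunot
            exact ⟨φ, h0 _ (Submodule.mem_span_singleton_self _), fun hm => hφu (h2mem_Tat.mp hm)⟩
          · have : Tu = ∅ := if_neg h3'
            rw [this] at ht
            exact absurd ht (Finset.notMem_empty _)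
      obtain ⟨φ, hφe, hφd, hφT⟩ := choose_phi hK hed T hTcard hTd
      have hφge : φ (g e) = 1 := by
        have : φ (g e) - φ e = 0 := by simpa using hφd
        rw [hφe] at this
        exact sub_eq_zero.mp this
      refine finish e φ hce hge hφe hφd ?_ (hφDne φ hφe) (Or.inr ⟨?_, ?_⟩)
      · intro h
        exact hφT (h2Tat b) (by simp [T]) (h2mem_Tat.mpr h)
      · intro a ha hsc
        have hP : P3 := ⟨φ, a, ha, hφe, hφge, hsc⟩
        have hT3 : T3 = {Submodule.span K {hP.choose}} := dif_pos hP
        obtain ⟨a₃, ha₃, h3e, h3ge, h3sc⟩ := hP.choose_spec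
        have heq : φ = hP.choose := scalarAt_unique hgsurj h3 hind hφe hφge h3e h3ge hsc h3sc
        apply hφT (Submodule.span K {hP.choose})
        · simp [T, hT3]
        · rw [← heq]; exact Submodule.mem_span_singleton_self _
      · intro hlow
        obtain ⟨hφu, hn3⟩ := lowRank_caseI hφe hφge hD h3 hlow hu
        have hTu : Tu = {h2Tat (K := K) u} := if_pos hn3
        apply hφT (h2Tat u)
        · simp [T, hTu]
        · exact h2mem_Tat.mpr hφu
  · -- CASE B : D not injective
    have h3 : 3 ≤ Module.finrank K V := by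
      by_contra hlt
      have hn2 : Module.finrank K V = 2 := by omega
      exact hD (injective_of_good_of_finrank_two hn2 hrk)
    obtain ⟨e, hce, hDeb, heR, w, hw, hwd⟩ := choose_e_II hK hrk hD b c hc
    have hDe0 : (g - 1 : Module.End K V) e ≠ 0 := by
      intro h0
      apply hDeb
      rw [h0]; exact Submodule.zero_mem _
    have hge : g e ≠ e := by
      intro h
      apply hDe0
      simp [h]
    have hed : e ∉ Submodule.span K {(g - 1 : Module.End K V) e} := by
      intro hmem
      obtain ⟨t, ht⟩ := Submodule.mem_span_singleton.mp hmem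
      apply heR
      refine ⟨t • e, ?_⟩
      rw [map_smul, ht]
    have hind : ∀ s : K, g e ≠ s • e := by
      intro s hs
      by_cases hs1 : s = 1
      · subst hs1
        exact hge (by simpa using hs)
      · apply heR
        have hs1' : s - 1 ≠ 0 := sub_ne_zero.mpr hs1
        refine ⟨(s - 1)⁻¹ • e, ?_⟩
        have : (g - 1 : Module.End K V) e = (s - 1) • e := by
          simp [hs, sub_smul]
        rw [map_smul, this, smul_smul, inv_mul_cancel₀ hs1', one_smul]
    have hw0 : w ≠ 0 := by
      rintro rfl
      exact hwd (Submodule.zero_mem _)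
    have hbd : b ∉ Submodule.span K {(g - 1 : Module.End K V) e} := h2not_mem_span_swap hb hDeb
    have hTb : ∃ φ : Module.Dual K V, φ ((g - 1 : Module.End K V) e) = 0 ∧ φ ∉ h2Tat (K := K) b := by
      obtain ⟨φ, h0, hφb⟩ := sep' hbd
      exact ⟨φ, h0 _ (Submodule.mem_span_singleton_self _), fun hm => hφb (h2mem_Tat.mp hm)⟩
    have hTDp : ∃ φ : Module.Dual K V, φ ((g - 1 : Module.End K V) e) = 0 ∧ φ ∉ h2TD (g - 1 : Module.End K V) := by
      obtain ⟨v, hv⟩ := hrange ((g - 1 : Module.End K V) e)
      obtain ⟨φ, h0, hφv⟩ := sep' hv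
      refine ⟨φ, h0 _ (Submodule.mem_span_singleton_self _), ?_⟩
      intro hm
      have := congrArg (fun f : Module.Dual K V => f v) (h2mem_TD.mp hm)
      exact hφv (by simpa using this)
    let P3 : Prop := ∃ (φ₃ : Module.Dual K V) (a : K), a ≠ 1 ∧ φ₃ e = 1 ∧ φ₃ (g e) = 1 ∧ ScalarAt g e φ₃ a
    let T4 : Submodule K (Module.Dual K V) := (LinearMap.ker (g - 1 : Module.End K V)).dualAnnihilator
    let T3 : Finset (Submodule K (Module.Dual K V)) :=
      if h : P3 then {Submodule.span K {h.choose}} else {T4}
    let T : Finset (Submodule K (Module.Dual K V)) := ({h2Tat (K := K) b} ∪ {h2TD (g - 1 : Module.End K V)}) ∪ T3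
    have hT3card : T3.card ≤ 1 := by
      show (if h : P3 then ({Submodule.span K {h.choose}} : Finset _) else {T4}).card ≤ 1
      split <;> simp
    have hTcard : T.card ≤ 3 := by
      calc T.card ≤ ({h2Tat (K := K) b} ∪ {h2TD (g - 1 : Module.End K V)} : Finset _).card + T3.card := Finset.card_union_le _ _
        _ ≤ (({h2Tat (K := K) b} : Finset _).card + ({h2TD (g - 1 : Module.End K V)} : Finset _).card) + T3.card := by
            gcongr; exact Finset.card_union_le _ _
        _ ≤ 3 := by simp; omega
    have hwker : w ∈ LinearMap.ker (g - 1 : Module.End K V) := by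
      simp [hw]
    have hTd : ∀ t ∈ T, ∃ φ : Module.Dual K V, φ ((g - 1 : Module.End K V) e) = 0 ∧ φ ∉ t := by
      intro t ht
      rw [Finset.mem_union, Finset.mem_union] at ht
      rcases ht with (ht | ht) | ht
      · rw [Finset.mem_singleton] at ht; subst ht; exact hTb
      · rw [Finset.mem_singleton] at ht; subst ht; exact hTDp
      · by_cases hP : P3
        · have : T3 = {Submodule.span K {hP.choose}} := dif_pos hP
          rw [this, Finset.mem_singleton] at ht
          subst ht
          obtain ⟨ψ, hψ0, hψe, hψd⟩ := hψ3 h3 e ((g - 1 : Module.End K V) e)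
          refine ⟨ψ, hψd, ?_⟩
          intro hmem
          obtain ⟨s, hs⟩ := Submodule.mem_span_singleton.mp hmem
          have h1 := hP.choose_spec.choose_spec.2.1
          have : ψ e = s := by
            rw [← hs]; simp [h1]
          rw [hψe] at this
          apply hψ0
          rw [← hs, ← this, zero_smul]
        · have : T3 = {T4} := dif_neg hP
          rw [this, Finset.mem_singleton] at ht
          subst ht
          obtain ⟨φ, h0, hφw⟩ := sep' hwd
          refine ⟨φ, h0 _ (Submodule.mem_span_singleton_self _), ?_⟩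
          intro hm
          exact hφw ((Submodule.mem_dualAnnihilator φ).mp hm w hwker)
    obtain ⟨φ, hφe, hφd, hφT⟩ := choose_phi hK hed T hTcard hTd
    have hφge : φ (g e) = 1 := by
      have : φ (g e) - φ e = 0 := by simpa using hφd
      rw [hφe] at this
      exact sub_eq_zero.mp this
    refine finish e φ hce hge hφe hφd ?_ ?_ (Or.inr ⟨?_, ?_⟩)
    · intro h
      exact hφT (h2Tat b) (by simp [T]) (h2mem_Tat.mpr h)
    · intro h
      exact hφT (h2TD (g - 1 : Module.End K V)) (by simp [T]) (h2mem_TD.mpr h)
    · intro a ha hsc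
      have hP : P3 := ⟨φ, a, ha, hφe, hφge, hsc⟩
      have hT3 : T3 = {Submodule.span K {hP.choose}} := dif_pos hP
      obtain ⟨a₃, ha₃, h3e, h3ge, h3sc⟩ := hP.choose_spec
      have heq : φ = hP.choose := scalarAt_unique hgsurj h3 hind hφe hφge h3e h3ge hsc h3sc
      apply hφT (Submodule.span K {hP.choose})
      · simp [T, hT3]
      · rw [← heq]; exact Submodule.mem_span_singleton_self _
    · intro hlow
      have hfix := lowRank_caseII hφe hφge heR hge hrk hlow
      by_cases hP : P3
      · obtain ⟨a₃, ha₃, h3e, h3ge, h3sc⟩ := hP.choose_spec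
        exact fixed_ne_zero_of_scalarAt h3e h3ge ha₃ h3sc hφe hφge hw hw0 (hfix w hw)
      · have hT3 : T3 = {T4} := dif_neg hP
        apply hφT T4
        · simp [T, hT3]
        · rw [Submodule.mem_dualAnnihilator]
          intro x hx
          apply hfix x
          have : (g - 1 : Module.End K V) x = 0 := hx
          have h' : g x - x = 0 := by simpa using this
          exact sub_eq_zero.mp h'

end Cfsg.Agent.Lib.Helper2.Lev
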