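import Mathlib
import Cfsg.Agent.Lib.Helper2.LevMainLemma
import Cfsg.Agent.Lib.Helper1.LevStep
import Cfsg.Agent.Lib.Helper1.LevDet

set_option autoImplicit false
set_option linter.unusedVariables false
set_option linter.unusedSectionVars false
set_option linter.style.longLine false
set_option linter.style.haveILetI false

namespace Cfsg.Agent.Lib.Helper2.Lev

open Module

universe u v

variable {K : Type v} [Field K]

theorem regUnip_one_of_finrank_one {V : Type u} [AddCommGroup V] [Module K V]
    (h : Module.finrank K V = 1) : RegUnip (1 : Module.End K V) := by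
  refine ⟨by simp, ?_⟩
  have : LinearMap.ker ((1 : Module.End K V) - 1) = ⊤ := by simp
  rw [this, finrank_top, h]

theorem main (hK : 4 ≤ Cardinal.mk K) : ∀ (n : ℕ) (V : Type u) [AddCommGroup V] [Module K V] [FiniteDimensional K V],
    Module.finrank K V = n → ∀ g : Module.End K V, LinearMap.det g = 1 → (n = 1 ∨ Good g) →
    ∀ b : V, b ≠ 0 → ∀ c : Module.Dual K V, c ≠ 0 → QQ g b c := by
  intro n
  induction n with
  | zero =>
    intro V _ _ _ hn g hdet hg b hb
    exfalso
    have : Subsingleton V := Module.finrank_zero_iff.mp hn
    exact hb (Subsingleton.elim _ _)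
  | succ m ih =>
    intro V _ _ _ hn g hdet hg b hb c hc
    by_cases hm : m = 0
    · -- dimension one: g = 1
      subst hm
      have h1 : Module.finrank K V = 1 := by simpa using hn
      -- g is a scalar
      obtain ⟨v0, hv0⟩ := finrank_eq_one_iff'.mp h1
      have hg1 : g = 1 := by
        obtain ⟨a, ha⟩ := hv0.2 (g v0)
        have hga : g = a • (1 : Module.End K V) := by
          apply LinearMap.ext
          intro w
          obtain ⟨t, ht⟩ := hv0.2 w
          rw [← ht, map_smul, ← ha]
          simp [smul_smul, mul_comm]
        have hdeta : LinearMap.det g = a := by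
          rw [hga, LinearMap.det_smul, h1]
          simp
        rw [hdet] at hdeta
        rw [hga, ← hdeta, one_smul]
      refine ⟨1, 1, regUnip_one_of_finrank_one h1, regUnip_one_of_finrank_one h1, by rw [hg1, mul_one], ?_, ?_⟩
      · simp only [sub_self, LinearMap.range_zero, Submodule.mem_bot]
        exact hb
      · -- some vector with c u ≠ 0
        have : ∃ u : V, c u ≠ 0 := by
          by_contra hcon
          push Not at hcon
          exact hc (LinearMap.ext hcon)
        obtain ⟨u, hu⟩ := this
        exact ⟨u, by simp, hu⟩
    · have hgood : Good g := by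
        rcases hg with h | h
        · exfalso; omega
        · exact h
      have h2 : 2 ≤ Module.finrank K V := by omega
      obtain ⟨sd, hφb, hce, hb1, hc1, hH⟩ := main_lemma hK h2 hdet hgood hb hc
      have hfr : Module.finrank K sd.H = m := by
        have := sd.finrank_H
        omega
      have hdet' : LinearMap.det sd.gP = 1 := by rw [sd.det_gP, hdet]
      have hcond : m = 1 ∨ Good sd.gP := by
        rcases hH with h | h
        · left; omega
        · right; exact h
      obtain ⟨L', U', hL', hU', hLU, hb1r, hc1k⟩ := ih sd.H hfr sd.gP hdet' hcond sd.b1 hb1 sd.c1 hc1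
      exact sd.step L' U' hL' hU' hLU hb1r hc1k b hφb c hce

end Cfsg.Agent.Lib.Helper2.Lev
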