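import Mathlib
import Cfsg.Agent.Lib.Helper2.LevMain
import Cfsg.Agent.Lib.Helper6.LevJordan
import Cfsg.Agent.Lib.Helper4.LevTransv

set_option autoImplicit false
set_option linter.unusedVariables false
set_option linter.unusedSectionVars false
set_option linter.style.longLine false
set_option linter.style.haveILetI false

namespace Cfsg.Agent.Lib.Helper2.Lev

open Module

universe v

variable {K : Type v} [Field K]

theorem final (hK : 4 ≤ Cardinal.mk K) (n : ℕ) (hn : 3 ≤ n) (J g : GL (Fin n) K)
    (hJ : ∀ i j : Fin n, (J : Matrix (Fin n) (Fin n) K) i j = if i = j then 1 else if j.val = i.val + 1 then 1 else 0)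
    (hg : ¬ ∃ c : K, (g : Matrix (Fin n) (Fin n) K) = c • (1 : Matrix (Fin n) (Fin n) K))
    (hdet : (g : Matrix (Fin n) (Fin n) K).det = 1) :
    ∃ x y : GL (Fin n) K, g = (x * J * x⁻¹) * (y * J * y⁻¹) := by
  classical
  let G : Module.End K (Fin n → K) := Matrix.toLin' (g : Matrix (Fin n) (Fin n) K)
  have hGdet : LinearMap.det G = 1 := by
    show LinearMap.det (Matrix.toLin' (g : Matrix (Fin n) (Fin n) K)) = 1
    rw [LinearMap.det_toLin', hdet]
  have hfr : Module.finrank K (Fin n → K) = n := Module.finrank_fin_fun K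
  have hGns : ∀ a : K, G ≠ a • (1 : Module.End K (Fin n → K)) := by
    intro a ha
    apply hg
    refine ⟨a, ?_⟩
    have h1 : LinearMap.toMatrix' G = LinearMap.toMatrix' (a • (1 : Module.End K (Fin n → K))) := by rw [ha]
    have h2 : LinearMap.toMatrix' G = (g : Matrix (Fin n) (Fin n) K) := LinearMap.toMatrix'_toLin' _
    rw [h2] at h1
    rw [h1, map_smul]
    congr 1
    exact LinearMap.toMatrix'_one
  -- a factorization into regular unipotents
  have hfact : ∃ L U : Module.End K (Fin n → K), RegUnip L ∧ RegUnip U ∧ L * U = G := by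
    by_cases hGood : Good G
    · have h0 : 0 < n := by omega
      let i0 : Fin n := ⟨0, h0⟩
      let b : Fin n → K := Pi.single i0 1
      let c : Module.Dual K (Fin n → K) := LinearMap.proj i0
      have hb : b ≠ 0 := by
        intro h
        have := congrFun h i0
        simp [b] at this
      have hc : c ≠ 0 := by
        intro h
        have := congrArg (fun f : Module.Dual K (Fin n → K) => f b) h
        simp [c, b] at this
      obtain ⟨L, U, hL, hU, hLU, -, -⟩ := main hK n (Fin n → K) hfr G hGdet (Or.inr hGood) b hb c hc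
      exact ⟨L, U, hL, hU, hLU⟩
    · unfold Good at hGood
      push Not at hGood
      obtain ⟨x, α, hxα⟩ := hGood hGns
      have hG1 : G ≠ 1 := by
        intro h
        apply hGns 1
        rw [h, one_smul]
      exact transvection_case (by omega) hGdet x α hxα hG1
  obtain ⟨L, U, hL, hU, hLU⟩ := hfact
  obtain ⟨P, hP⟩ := regUnip_conj n (J : Matrix (Fin n) (Fin n) K) hJ L hL
  obtain ⟨Q, hQ⟩ := regUnip_conj n (J : Matrix (Fin n) (Fin n) K) hJ U hU
  refine ⟨P, Q, ?_⟩
  apply Units.ext
  have h2 : LinearMap.toMatrix' G = (g : Matrix (Fin n) (Fin n) K) := LinearMap.toMatrix'_toLin' _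
  have h3 : LinearMap.toMatrix' (L * U) = LinearMap.toMatrix' L * LinearMap.toMatrix' U :=
    LinearMap.toMatrix'_mul L U
  rw [hLU, h2, hP, hQ] at h3
  rw [h3]
  simp [Units.val_mul]

end Cfsg.Agent.Lib.Helper2.Lev
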