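import Mathlib
import Cfsg.Agent.S0906
import Cfsg.Agent.S0908
import Cfsg.Agent.S0953
import Cfsg.Agent.S0955
import Cfsg.Agent.S0956
import Cfsg.Agent.S4652
import Cfsg.Agent.Lib.Helper6.BrPrin
import Cfsg.Agent.Lib.Helper6.BlkIdem

/-! S5006, unit A2: a local criterion for a finite group to have a single `p`-block. -/

set_option autoImplicit false
set_option linter.unusedSectionVars false
set_option linter.unusedVariables false
set_option linter.style.longLine false
set_option linter.unusedDecidableInType false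
set_option linter.style.haveILetI false

namespace Cfsg.Agent.Lib.Helper2.M24B

open Cfsg Cfsg.Agent.Lib.Helper6

/-- every irreducible character lies in the principal block -/
theorem a2_mem_principal {G : Type*} [Group G] [Fintype G] (p : ℕ) [Fact p.Prime]
    (M : Ideal Cfsg.AlgInt) (hM : Cfsg.IsPModular p M)
    (H1 : ∀ P : Sylow p G, ∀ n : G, n ∈ Subgroup.centralizer ((P : Subgroup G) : Set G) →
      ¬ p ∣ orderOf n → n = 1)
    (H2 : ∀ D : Subgroup G, D ≠ ⊥ → IsPGroup p D →
      (Cfsg.pCore p (Subgroup.normalizer (D : Set G))).map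
        (Subgroup.normalizer (D : Set G)).subtype = D →
      ∀ x : G, x ∈ Subgroup.centralizer (D : Set G) → ¬ p ∣ orderOf x → x = 1)
    (H3 : ∀ χ : Cfsg.IrrCharacter G,
      (Cfsg.charDegree (χ : G → ℂ)).factorization p < (Nat.card G).factorization p)
    (χ : Cfsg.IrrCharacter G) : χ ∈ Cfsg.principalBlock M G := by
  classical
  have hp : p.Prime := Fact.out
  obtain ⟨B, hBdef⟩ : ∃ B : Set (Cfsg.IrrCharacter G), B = Cfsg.blockOf M (χ : G → ℂ) := ⟨_, rfl⟩
  have hB : Cfsg.IsPBlock M B := ⟨χ, hBdef⟩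
  have hχB : χ ∈ B := by rw [hBdef]; exact sameBlock_refl hM _
  obtain ⟨g, hg⟩ := Cfsg.Agent.S0906.result p M hM B hB
  obtain ⟨S0⟩ : Nonempty (Sylow p (Subgroup.centralizer ({g} : Set G))) := inferInstance
  obtain ⟨D, hDdef⟩ : ∃ D : Subgroup G, D = (S0 : Subgroup (Subgroup.centralizer ({g} : Set G))).map
      (Subgroup.centralizer ({g} : Set G)).subtype := ⟨_, rfl⟩
  have hD : Cfsg.IsDefectGroup p M B D := ⟨g, hg, S0, hDdef⟩
  have hDp : IsPGroup p D := by
    rw [hDdef]; exact S0.isPGroup'.map _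
  obtain ⟨P, hDP⟩ := hDp.exists_le_sylow
  obtain ⟨x, hxp, ⟨S, hS⟩, hint⟩ := Cfsg.Agent.S0956.result p M hM B hB D hD P hDP
  have hrad := Cfsg.Agent.S0955.result p M hM B hB D hD
  by_cases hbot : D = ⊥
  · exfalso
    have hcard := Cfsg.Agent.S0908.result p M hM B hB D hD
    rw [hbot, Subgroup.card_bot] at hcard
    have hdef0 : Cfsg.blockDefect p B = 0 := by
      by_contra hne
      have h1 : 1 < p ^ Cfsg.blockDefect p B := Nat.one_lt_pow hne hp.one_lt
      omega
    unfold Cfsg.blockDefect at hdef0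
    have hne : ((fun χ : Cfsg.IrrCharacter G =>
        (Cfsg.charDegree (χ : G → ℂ)).factorization p) '' B).Nonempty := ⟨_, χ, hχB, rfl⟩
    obtain ⟨ψ, hψB, hψ⟩ := Nat.sInf_mem hne
    have h3 := H3 ψ
    rw [← hψ] at hdef0
    simp only at hdef0
    omega
  · have hxD : x ∈ Subgroup.centralizer (D : Set G) := by
      rw [← hS, Subgroup.mem_centralizer_iff]
      rintro d ⟨c, hc, rfl⟩
      have hc2 := c.2
      rw [Subgroup.mem_centralizer_iff] at hc2
      exact (hc2 x (Set.mem_singleton x)).symm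
    have hx1 : x = 1 := H2 D hbot hDp hrad x hxD hxp
    have hDP' : (P : Subgroup G) = D := by
      rw [← hint, hx1]
      have : (MulAut.conj (1 : G)).toMonoidHom = MonoidHom.id G := by
        ext y; simp
      rw [this, Subgroup.map_id, inf_idem]
    have h1 : Cfsg.IsDefectGroup p M B (P : Subgroup G) := by rw [hDP']; exact hD
    have h2 : Cfsg.IsDefectGroup p M (Cfsg.principalBlock M G) (P : Subgroup G) :=
      (Cfsg.Agent.S4652.result p M hM _).mpr ⟨P, rfl⟩
    have hcount := Cfsg.Agent.S0953.result p M hM P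
    have hsub : Subsingleton {C : ConjClasses (Subgroup.normalizer ((P : Subgroup G) : Set G)) //
        ∀ n : Subgroup.normalizer ((P : Subgroup G) : Set G), ConjClasses.mk n = C →
          ¬ p ∣ orderOf n ∧ (n : G) ∈ Subgroup.centralizer ((P : Subgroup G) : Set G)} := by
      have key : ∀ C : ConjClasses (Subgroup.normalizer ((P : Subgroup G) : Set G)),
          (∀ n : Subgroup.normalizer ((P : Subgroup G) : Set G), ConjClasses.mk n = C →
            ¬ p ∣ orderOf n ∧ (n : G) ∈ Subgroup.centralizer ((P : Subgroup G) : Set G)) →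
          C = ConjClasses.mk 1 := by
        intro C hCn
        obtain ⟨n, rfl⟩ := ConjClasses.mk_surjective C
        obtain ⟨hn1, hn2⟩ := hCn n rfl
        have hn1' : ¬ p ∣ orderOf (n : G) := by rwa [Subgroup.orderOf_coe]
        have : (n : G) = 1 := H1 P n hn2 hn1'
        have hn : n = 1 := Subtype.ext this
        rw [hn]
      constructor
      rintro ⟨C1, hC1⟩ ⟨C2, hC2⟩
      apply Subtype.ext
      exact (key C1 hC1).trans (key C2 hC2).symm
    have hle : Nat.card {B : Set (Cfsg.IrrCharacter G) //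
        Cfsg.IsPBlock M B ∧ Cfsg.IsDefectGroup p M B (P : Subgroup G)} ≤ 1 := by
      rw [hcount]
      exact Finite.card_le_one_iff_subsingleton.mpr hsub
    have : Finite (Cfsg.IrrCharacter G) := inferInstance
    have hsub2 := Finite.card_le_one_iff_subsingleton.mp hle
    have heq : (⟨B, hB, h1⟩ : {B : Set (Cfsg.IrrCharacter G) //
        Cfsg.IsPBlock M B ∧ Cfsg.IsDefectGroup p M B (P : Subgroup G)}) =
        ⟨Cfsg.principalBlock M G, isPBlock_principalBlock, h2⟩ := Subsingleton.elim _ _
    have heq' : B = Cfsg.principalBlock M G := congrArg Subtype.val heq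
    rw [← heq']
    exact hχB

/-- **A2** (local criterion for a single block). -/
theorem a2_single_block {G : Type*} [Group G] [Fintype G] (p : ℕ) [Fact p.Prime]
    (M : Ideal Cfsg.AlgInt) (hM : Cfsg.IsPModular p M)
    (H1 : ∀ P : Sylow p G, ∀ n : G, n ∈ Subgroup.centralizer ((P : Subgroup G) : Set G) →
      ¬ p ∣ orderOf n → n = 1)
    (H2 : ∀ D : Subgroup G, D ≠ ⊥ → IsPGroup p D →
      (Cfsg.pCore p (Subgroup.normalizer (D : Set G))).map
        (Subgroup.normalizer (D : Set G)).subtype = D →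
      ∀ x : G, x ∈ Subgroup.centralizer (D : Set G) → ¬ p ∣ orderOf x → x = 1)
    (H3 : ∀ χ : Cfsg.IrrCharacter G,
      (Cfsg.charDegree (χ : G → ℂ)).factorization p < (Nat.card G).factorization p)
    (χ ψ : Cfsg.IrrCharacter G) : Cfsg.SameBlock M (χ : G → ℂ) (ψ : G → ℂ) := by
  have h1 := a2_mem_principal p M hM H1 H2 H3 χ
  have h2 := a2_mem_principal p M hM H1 H2 H3 ψ
  exact SameBlock.trans' hM (SameBlock.symm' h1) h2

end Cfsg.Agent.Lib.Helper2.M24B
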