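import Mathlib
import Cfsg.Agent.Lib.Helper1.M24S
import Cfsg.Agent.Lib.Helper2.M22S4
import Cfsg.Agent.Lib.Helper6.SecondOrth

/-! S5006, unit A5 (core): a group of order `244823040` with self-centralizing Sylow
`23`-subgroups has no irreducible character of degree `1024`, given lower bounds for the square
sums of such characters over the elements of orders `5`, `7`, `11`. -/

set_option autoImplicit false
set_option linter.unusedSectionVars false
set_option linter.unusedVariables false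
set_option linter.style.longLine false
set_option linter.unusedSimpArgs false
set_option linter.unusedDecidableInType false
set_option linter.style.haveILetI false

set_option maxHeartbeats 1600000

namespace Cfsg.Agent.Lib.Helper2.M24B

open Cfsg Cfsg.Agent.Lib.Helper6
open Cfsg.Agent.Lib.Helper7.CountTools Cfsg.Agent.Lib.Helper7.M22S1
  Cfsg.Agent.Lib.Helper5.BrauerSmall
open scoped ComplexConjugate

variable {G : Type*} [Group G] [Fintype G]

open Classical in
/-- a lower bound for a sum of nonnegative reals over `G` by the parts of orders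
`1, 5, 7, 11, 23` -/
theorem sum_ge_parts (F : G → ℝ) (hF : ∀ g, 0 ≤ F g) :
    F 1 + ∑ g ∈ Finset.univ.filter (fun g : G => orderOf g = 5), F g
      + ∑ g ∈ Finset.univ.filter (fun g : G => orderOf g = 7), F g
      + ∑ g ∈ Finset.univ.filter (fun g : G => orderOf g = 11), F g
      + ∑ g ∈ Finset.univ.filter (fun g : G => orderOf g = 23), F g ≤ ∑ g, F g := by
  rw [Finset.sum_filter, Finset.sum_filter, Finset.sum_filter, Finset.sum_filter]
  have h1 : F 1 = ∑ g, if g = 1 then F g else 0 := by simp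
  rw [h1, ← Finset.sum_add_distrib, ← Finset.sum_add_distrib, ← Finset.sum_add_distrib,
    ← Finset.sum_add_distrib]
  apply Finset.sum_le_sum
  intro g _
  have h0 := hF g
  by_cases hg : g = 1
  · subst hg; simp
  · by_cases h5 : orderOf g = 5
    · simp [hg, h5]
    · by_cases h7 : orderOf g = 7
      · simp [hg, h5, h7]
      · by_cases h11 : orderOf g = 11
        · simp [hg, h5, h7, h11]
        · by_cases h23 : orderOf g = 23 <;> simp [hg, h5, h7, h11, h23, h0]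

/-- the partner `θ` of a character of degree `1024` in the exceptional family of the principal
`23`-block, and the value `12` of `|χ|² + |θ|²` at the elements of order `23` -/
theorem a5a_pair23 (hG : Nat.card G = 244823040)
    (H23 : ∀ P : Sylow 23 G, Subgroup.centralizer ((P : Subgroup G) : Set G) = (P : Subgroup G))
    (χ : Cfsg.IrrCharacter G) (hχ : Cfsg.charDegree (χ : G → ℂ) = 1024) :
    ∃ θ : Cfsg.IrrCharacter G, θ ≠ χ ∧ Cfsg.charDegree (θ : G → ℂ) = 1024 ∧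
      ∀ x : G, orderOf x = 23 → ‖(χ : G → ℂ) x‖ ^ 2 + ‖(θ : G → ℂ) x‖ ^ 2 = 12 := by
  classical
  haveI : Fact (Nat.Prime 23) := ⟨by norm_num⟩
  haveI : Fintype (Cfsg.IrrCharacter G) := Fintype.ofFinite _
  have hc23 : ∀ Q : Sylow 23 G, Nat.card Q = 23 := fun Q =>
    h7_card_sylow 23 10644480 (by rw [hG]) (by norm_num) Q
  obtain ⟨P⟩ : Nonempty (Sylow 23 G) := inferInstance
  have hC := H23 P
  obtain ⟨he, -, -⟩ := Cfsg.Agent.Lib.Helper1.M24S.h1_data23 hG P hC
  obtain ⟨M, hM⟩ := exists_isPModular 23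
  obtain ⟨X, Y, hXY, hdisj, hX, hY, εX, ε, hXprop, hε, hYdeg, hYagree, hYrel⟩ :=
    Cfsg.Agent.S4441.result 23 M hM (by norm_num) P (hc23 P) 11 he
  have hχB : χ ∈ Cfsg.principalBlock M G :=
    mem_principalBlock_of_not_dvd P (hc23 P) hC hM χ (by rw [hχ]; norm_num)
  have hχB' := hχB
  rw [hXY] at hχB'
  have hχY : χ ∈ Y := by
    rcases hχB' with h | h
    · exfalso
      obtain ⟨hs, hmod, -⟩ := hXprop χ h
      rw [hχ] at hmod
      rcases hs with hs | hs <;> rw [hs] at hmod <;> exact absurd hmod (by decide)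
    · exact h
  have hY2 : Y.ncard = 2 := by
    rw [← Nat.card_coe_set_eq, hY]
  obtain ⟨a, b, hab, hYab⟩ := Set.ncard_eq_two.mp hY2
  obtain ⟨θ, hθne, hYeq⟩ : ∃ θ : Cfsg.IrrCharacter G, θ ≠ χ ∧ Y = {χ, θ} := by
    have hmem : χ ∈ ({a, b} : Set (Cfsg.IrrCharacter G)) := hYab ▸ hχY
    rcases hmem with h | h
    · exact ⟨b, by rw [h]; exact hab.symm, by rw [hYab, h]⟩
    · rw [Set.mem_singleton_iff] at h
      exact ⟨a, by rw [h]; exact hab, by rw [hYab, h, Set.pair_comm]⟩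
  have hθY : θ ∈ Y := by rw [hYeq]; simp
  have hone : ¬ 23 ∣ orderOf (1 : G) := by rw [orderOf_one]; norm_num
  have hθ1 : (θ : G → ℂ) 1 = (χ : G → ℂ) 1 := hYagree θ hθY χ hχY 1 hone
  have hθ : Cfsg.charDegree (θ : G → ℂ) = 1024 := by
    rw [← hχ]; unfold Cfsg.charDegree; rw [hθ1]
  refine ⟨θ, hθne, hθ, ?_⟩
  -- the class function `|χ|² + |θ|²`
  obtain ⟨f, hf⟩ : ∃ f : G → ℂ, f = fun g => (χ : G → ℂ) g * conj ((χ : G → ℂ) g)
      + (θ : G → ℂ) g * conj ((θ : G → ℂ) g) := ⟨_, rfl⟩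
  have hfcf : Cfsg.IsClassFunction G f := by
    intro g h
    rw [hf]
    show (χ : G → ℂ) (h * g * h⁻¹) * conj ((χ : G → ℂ) (h * g * h⁻¹))
      + (θ : G → ℂ) (h * g * h⁻¹) * conj ((θ : G → ℂ) (h * g * h⁻¹)) = _
    rw [IsIrrCharacter.isClassFunction χ.2 g h, IsIrrCharacter.isClassFunction θ.2 g h]
  have hvP : ∀ x ∈ (P : Subgroup G), x ≠ 1 → f x = 12 := by
    intro x hx hx1
    have hcen : Subgroup.centralizer ({x} : Set G) = (P : Subgroup G) := by
      rw [PB.centralizer_singleton_eq P (hc23 P) hx hx1, hC]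
    have hall := (sum_irr_mul_conj x x).1 (IsConj.refl x)
    rw [hcen, hc23 P] at hall
    have hvan : ∀ ζ : Cfsg.IrrCharacter G, ζ ∉ Cfsg.principalBlock M G →
        (ζ : G → ℂ) x * conj ((ζ : G → ℂ) x) = 0 := by
      intro ζ hζ
      rw [apply_eq_zero_of_not_mem P (hc23 P) hC hM ζ hζ hx hx1, zero_mul]
    have hB0 : ∑ᶠ ζ ∈ Cfsg.principalBlock M G, (ζ : G → ℂ) x * conj ((ζ : G → ℂ) x) = 23 := by
      rw [finsum_mem_eq_sum_filter_lib, Finset.sum_filter_of_ne]
      · exact_mod_cast hall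
      · intro ζ _ hne
        by_contra hn
        exact hne (hvan ζ hn)
    rw [hXY, finsum_mem_union hdisj (Set.toFinite X) (Set.toFinite Y)] at hB0
    have hXsum : ∑ᶠ ζ ∈ X, (ζ : G → ℂ) x * conj ((ζ : G → ℂ) x) = 11 := by
      have h1 : ∑ᶠ ζ ∈ X, (ζ : G → ℂ) x * conj ((ζ : G → ℂ) x) = ∑ᶠ ζ ∈ X, (1 : ℂ) := by
        apply finsum_mem_congr rfl
        intro ζ hζ
        obtain ⟨hs, -, hval⟩ := hXprop ζ hζ
        have h1 := hval x hx hx1 1 (Subgroup.one_mem _) hone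
        rw [mul_one] at h1
        rw [h1]
        rcases hs with hs | hs <;> rw [hs] <;> simp
      rw [h1, finsum_mem_eq_sum_filter_lib, Finset.sum_const, nsmul_eq_mul, mul_one]
      have h2 : (Finset.univ.filter (· ∈ X)).card = 11 := by
        rw [← hX, Nat.card_eq_fintype_card, Fintype.card_subtype]
      rw [h2]; norm_num
    rw [hXsum, hYeq, finsum_mem_pair hθne.symm] at hB0
    rw [hf]
    show (χ : G → ℂ) x * conj ((χ : G → ℂ) x) + (θ : G → ℂ) x * conj ((θ : G → ℂ) x) = 12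
    linear_combination hB0
  have hv : ∀ x : G, orderOf x = 23 → f x = 12 :=
    Cfsg.Agent.Lib.Helper2.M22S4.val_of_orderOf hc23 P f hfcf 12 hvP
  intro x hx
  have h := hv x hx
  rw [hf] at h
  have h' : (χ : G → ℂ) x * conj ((χ : G → ℂ) x) + (θ : G → ℂ) x * conj ((θ : G → ℂ) x) = 12 := h
  rw [Complex.mul_conj', Complex.mul_conj'] at h'
  exact_mod_cast h'

/-- **A5 (core)**: the counting contradiction. -/
theorem a5_core (hG : Nat.card G = 244823040)
    (H23 : ∀ P : Sylow 23 G, Subgroup.centralizer ((P : Subgroup G) : Set G) = (P : Subgroup G))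
    (B5 : ∀ ψ : Cfsg.IrrCharacter G, Cfsg.charDegree (ψ : G → ℂ) = 1024 →
      (65286144 : ℝ) ≤ ∑ g ∈ Finset.univ.filter (fun g : G => orderOf g = 5), ‖(ψ : G → ℂ) g‖ ^ 2)
    (B7 : ∀ ψ : Cfsg.IrrCharacter G, Cfsg.charDegree (ψ : G → ℂ) = 1024 →
      (46632960 : ℝ) ≤ ∑ g ∈ Finset.univ.filter (fun g : G => orderOf g = 7), ‖(ψ : G → ℂ) g‖ ^ 2)
    (B11 : ∀ ψ : Cfsg.IrrCharacter G, Cfsg.charDegree (ψ : G → ℂ) = 1024 →
      (11128320 : ℝ) ≤ ∑ g ∈ Finset.univ.filter (fun g : G => orderOf g = 11), ‖(ψ : G → ℂ) g‖ ^ 2)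
    (χ : Cfsg.IrrCharacter G) : Cfsg.charDegree (χ : G → ℂ) ≠ 1024 := by
  classical
  intro hχ
  haveI : Fact (Nat.Prime 23) := ⟨by norm_num⟩
  obtain ⟨θ, hθne, hθ, h23⟩ := a5a_pair23 hG H23 χ hχ
  obtain ⟨P⟩ : Nonempty (Sylow 23 G) := inferInstance
  obtain ⟨-, -, n23⟩ := Cfsg.Agent.Lib.Helper1.M24S.h1_data23 hG P (H23 P)
  -- first orthogonality
  have hcard : (Nat.card G : ℂ) ≠ 0 := by rw [hG]; norm_num
  have hnorm : ∀ a : Cfsg.IrrCharacter G, ∑ g : G, ‖(a : G → ℂ) g‖ ^ 2 = (244823040 : ℝ) := by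
    intro a
    have h := classInner_irrCharacter a a
    unfold Cfsg.classInner at h
    rw [if_pos rfl] at h
    have h2 : ∑ g : G, (a : G → ℂ) g * conj ((a : G → ℂ) g) = (244823040 : ℂ) := by
      have h3 : ∑ g : G, (a : G → ℂ) g * conj ((a : G → ℂ) g)
          = (Nat.card G : ℂ) * ((Nat.card G : ℂ)⁻¹ * ∑ g : G, (a : G → ℂ) g * conj ((a : G → ℂ) g)) := by
        field_simp
      rw [h3, h, hG]; norm_num
    have h4 : ((∑ g : G, ‖(a : G → ℂ) g‖ ^ 2 : ℝ) : ℂ) = ((244823040 : ℝ) : ℂ) := by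
      push_cast
      rw [← h2]
      apply Finset.sum_congr rfl
      intro g _
      rw [Complex.mul_conj']
    exact_mod_cast h4
  obtain ⟨F, hF⟩ : ∃ F : G → ℝ, F = fun g => ‖(χ : G → ℂ) g‖ ^ 2 + ‖(θ : G → ℂ) g‖ ^ 2 := ⟨_, rfl⟩
  have hF0 : ∀ g, 0 ≤ F g := by
    intro g; rw [hF]; positivity
  have hparts := sum_ge_parts F hF0
  have htot : ∑ g, F g = 489646080 := by
    rw [hF]
    show ∑ g : G, (‖(χ : G → ℂ) g‖ ^ 2 + ‖(θ : G → ℂ) g‖ ^ 2) = 489646080
    rw [Finset.sum_add_distrib, hnorm χ, hnorm θ]; norm_num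
  have hsplit : ∀ s : Finset G, ∑ g ∈ s, F g
      = ∑ g ∈ s, ‖(χ : G → ℂ) g‖ ^ 2 + ∑ g ∈ s, ‖(θ : G → ℂ) g‖ ^ 2 := by
    intro s
    rw [hF, ← Finset.sum_add_distrib]
  have hF1 : F 1 = 2097152 := by
    rw [hF]
    show ‖(χ : G → ℂ) 1‖ ^ 2 + ‖(θ : G → ℂ) 1‖ ^ 2 = 2097152
    rw [IsCharacter.apply_one_eq_charDegree (IsIrrCharacter.isCharacter χ.2),
      IsCharacter.apply_one_eq_charDegree (IsIrrCharacter.isCharacter θ.2), hχ, hθ]
    have : ‖((1024 : ℕ) : ℂ)‖ = 1024 := by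
      rw [Complex.norm_natCast]; norm_num
    rw [this]; norm_num
  have hs23 : ∑ g ∈ Finset.univ.filter (fun g : G => orderOf g = 23), F g = 255467520 := by
    have hc : (Finset.univ.filter (fun g : G => orderOf g = 23)).card = 21288960 := by
      rw [← n23, Nat.card_eq_fintype_card, Fintype.card_subtype]
    have hval : ∀ g ∈ Finset.univ.filter (fun g : G => orderOf g = 23), F g = 12 := by
      intro g hg
      rw [hF]
      exact h23 g (Finset.mem_filter.mp hg).2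
    rw [Finset.sum_congr rfl hval, Finset.sum_const, hc]
    norm_num
  rw [htot, hF1, hs23, hsplit, hsplit, hsplit] at hparts
  have a5 := B5 χ hχ
  have b5 := B5 θ hθ
  have a7 := B7 χ hχ
  have b7 := B7 θ hθ
  have a11 := B11 χ hχ
  have b11 := B11 θ hθ
  linarith

end Cfsg.Agent.Lib.Helper2.M24B
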