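import Mathlib
import Cfsg.Agent.Lib.Helper2.M24BA2
import Cfsg.Agent.Lib.Helper2.M24BA5
import Cfsg.Agent.Lib.Helper6.Constituent

/-! S5006, units A5 (wrapper) and A6: the abstract form of S5006, with the lower bound for the
square sums over the elements of a prime order `q` (lemma A3c) as a hypothesis. -/

set_option autoImplicit false
set_option linter.unusedSectionVars false
set_option linter.unusedVariables false
set_option linter.style.longLine false
set_option linter.unusedSimpArgs false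
set_option linter.unusedDecidableInType false
set_option linter.style.haveILetI false

namespace Cfsg.Agent.Lib.Helper2.M24B

open Cfsg Cfsg.Agent.Lib.Helper6
open scoped ComplexConjugate

variable {G : Type*} [Group G] [Fintype G]

theorem fac_1024 : (1024 : ℕ).factorization 2 = 10 := by
  rw [show (1024 : ℕ) = 2 ^ 10 by norm_num, Nat.Prime.factorization_pow Nat.prime_two]
  simp

theorem fac_card : (244823040 : ℕ).factorization 2 = 10 := by
  rw [show (244823040 : ℕ) = 2 ^ 10 * 239085 by norm_num,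
    Nat.factorization_mul (by norm_num) (by norm_num), Finsupp.add_apply,
    Nat.Prime.factorization_pow Nat.prime_two,
    Nat.factorization_eq_zero_of_not_dvd (by norm_num : ¬ 2 ∣ 239085)]
  simp

open Classical in
/-- the shape of lemma A3c for the prime `2` -/
def A3Shape (G : Type*) [Group G] [Fintype G] : Prop :=
  ∀ (q k : ℕ) [Fact q.Prime], 2 ≠ q → ∀ χ : Cfsg.IrrCharacter G,
    (Cfsg.charDegree (χ : G → ℂ)).factorization 2 = (Nat.card G).factorization 2 →
    ¬ q ∣ Cfsg.charDegree (χ : G → ℂ) →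
    (∀ g : G, orderOf g = q → 2 ^ k ∣ Nat.card (Subgroup.centralizer ({g} : Set G))) →
    (((2 : ℕ) : ℝ) ^ (2 * k)) * ((Finset.univ.filter (fun g : G => orderOf g = q)).card : ℝ)
      ≤ ∑ g ∈ Finset.univ.filter (fun g : G => orderOf g = q), ‖(χ : G → ℂ) g‖ ^ 2

/-- **A5**: no irreducible character of degree `1024`. -/
theorem a5_no_deg_1024 (hA3 : A3Shape G) (hG : Nat.card G = 244823040)
    (H23 : ∀ P : Sylow 23 G, Subgroup.centralizer ((P : Subgroup G) : Set G) = (P : Subgroup G))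
    (K5 : ∀ g : G, orderOf g = 5 → 2 ^ 2 ∣ Nat.card (Subgroup.centralizer ({g} : Set G)))
    (N5 : 4080384 ≤ Nat.card {x : G // orderOf x = 5})
    (K7 : ∀ g : G, orderOf g = 7 → 2 ^ 1 ∣ Nat.card (Subgroup.centralizer ({g} : Set G)))
    (N7 : 11658240 ≤ Nat.card {x : G // orderOf x = 7})
    (N11 : 11128320 ≤ Nat.card {x : G // orderOf x = 11})
    (χ : Cfsg.IrrCharacter G) : Cfsg.charDegree (χ : G → ℂ) ≠ 1024 := by
  classical
  haveI : Fact (Nat.Prime 5) := ⟨by norm_num⟩
  haveI : Fact (Nat.Prime 7) := ⟨by norm_num⟩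
  haveI : Fact (Nat.Prime 11) := ⟨by norm_num⟩
  have hdef : ∀ ψ : Cfsg.IrrCharacter G, Cfsg.charDegree (ψ : G → ℂ) = 1024 →
      (Cfsg.charDegree (ψ : G → ℂ)).factorization 2 = (Nat.card G).factorization 2 := by
    intro ψ hψ
    rw [hψ, hG, fac_1024, fac_card]
  have hcnt : ∀ q : ℕ, (Finset.univ.filter (fun g : G => orderOf g = q)).card
      = Nat.card {x : G // orderOf x = q} := by
    intro q
    rw [Nat.card_eq_fintype_card, Fintype.card_subtype]
  have hA3' := hA3
  unfold A3Shape at hA3'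
  refine a5_core hG H23 ?_ ?_ ?_ χ
  · intro ψ hψ
    have h := hA3' 5 2 (by norm_num) ψ (hdef ψ hψ) (by rw [hψ]; norm_num) K5
    have hc : (4080384 : ℝ) ≤ ((Finset.univ.filter (fun g : G => orderOf g = 5)).card : ℝ) := by
      rw [hcnt 5]; exact_mod_cast N5
    have h16 : (((2 : ℕ) : ℝ) ^ (2 * 2)) = 16 := by norm_num
    convert le_trans ?_ h using 2
    rw [h16]; linarith
  · intro ψ hψ
    have h := hA3' 7 1 (by norm_num) ψ (hdef ψ hψ) (by rw [hψ]; norm_num) K7
    have hc : (11658240 : ℝ) ≤ ((Finset.univ.filter (fun g : G => orderOf g = 7)).card : ℝ) := by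
      rw [hcnt 7]; exact_mod_cast N7
    have h4 : (((2 : ℕ) : ℝ) ^ (2 * 1)) = 4 := by norm_num
    convert le_trans ?_ h using 2
    rw [h4]; linarith
  · intro ψ hψ
    have h := hA3' 11 0 (by norm_num) ψ (hdef ψ hψ) (by rw [hψ]; norm_num)
      (fun g _ => by simp)
    have hc : (11128320 : ℝ) ≤ ((Finset.univ.filter (fun g : G => orderOf g = 11)).card : ℝ) := by
      rw [hcnt 11]; exact_mod_cast N11
    have h1 : (((2 : ℕ) : ℝ) ^ (2 * 0)) = 1 := by norm_num
    convert le_trans ?_ h using 2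
    rw [h1]; linarith

/-- **A6**: the abstract form of S5006. -/
theorem a6_abstract_main (hA3 : A3Shape G) (hG : Nat.card G = 244823040)
    (H23 : ∀ P : Sylow 23 G, Subgroup.centralizer ((P : Subgroup G) : Set G) = (P : Subgroup G))
    (K5 : ∀ g : G, orderOf g = 5 → 2 ^ 2 ∣ Nat.card (Subgroup.centralizer ({g} : Set G)))
    (N5 : 4080384 ≤ Nat.card {x : G // orderOf x = 5})
    (K7 : ∀ g : G, orderOf g = 7 → 2 ^ 1 ∣ Nat.card (Subgroup.centralizer ({g} : Set G)))
    (N7 : 11658240 ≤ Nat.card {x : G // orderOf x = 7})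
    (N11 : 11128320 ≤ Nat.card {x : G // orderOf x = 11})
    (H1 : ∀ P : Sylow 2 G, ∀ n : G, n ∈ Subgroup.centralizer ((P : Subgroup G) : Set G) →
      ¬ 2 ∣ orderOf n → n = 1)
    (H2 : ∀ D : Subgroup G, D ≠ ⊥ → IsPGroup 2 D →
      (Cfsg.pCore 2 (Subgroup.normalizer (D : Set G))).map
        (Subgroup.normalizer (D : Set G)).subtype = D →
      ∀ x : G, x ∈ Subgroup.centralizer (D : Set G) → ¬ 2 ∣ orderOf x → x = 1)
    (M : Ideal Cfsg.AlgInt) (hM : Cfsg.IsPModular 2 M) (χ ψ : Cfsg.IrrCharacter G) :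
    Cfsg.SameBlock M (χ : G → ℂ) (ψ : G → ℂ) := by
  haveI : Fact (Nat.Prime 2) := ⟨Nat.prime_two⟩
  refine a2_single_block 2 M hM H1 H2 ?_ χ ψ
  intro ζ
  rw [hG, fac_card]
  by_contra hge
  push Not at hge
  have hne : Cfsg.charDegree (ζ : G → ℂ) ≠ 0 := (IsIrrCharacter.charDegree_pos ζ.2).ne'
  have hdvd : 2 ^ 10 ∣ Cfsg.charDegree (ζ : G → ℂ) :=
    (Nat.Prime.pow_dvd_iff_le_factorization Nat.prime_two hne).mpr hge
  have h1024 : Cfsg.charDegree (ζ : G → ℂ) = 1024 :=
    Cfsg.Agent.Lib.Helper1.M24S.h1_sieve hG H23 ζ (by simpa using hdvd)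
  exact a5_no_deg_1024 hA3 hG H23 K5 N5 K7 N7 N11 ζ h1024

end Cfsg.Agent.Lib.Helper2.M24B
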