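import Mathlib
import Cfsg.Prelude
import Cfsg.Agent.Lib.Helper3.MNUDefs

set_option autoImplicit false
set_option linter.unusedSectionVars false
set_option linter.unusedVariables false
set_option linter.unusedSimpArgs false
set_option linter.style.haveILetI false

/-!
Farm MNU (statements S2334, S2335), unit MO, part 1: the matrices of the odd model
(blocks of sizes `m, m, 1`).
-/

namespace Cfsg.Agent.Lib.Helper2.MNU

open Matrix Cfsg.Agent.Lib.Helper6.GUC Cfsg.Agent.Lib.Helper5 Cfsg.Agent.Lib.Helper3.MNU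

variable {K : Type*} [Field K] (σ : K →+* K) {m : ℕ}

/-- the index type of the odd model -/
abbrev I3 (m : ℕ) : Type := (Fin m ⊕ Fin m) ⊕ Unit

/-- a matrix with blocks of sizes `m, m, 1` -/
def M3 (A11 A12 A21 A22 : Matrix (Fin m) (Fin m) K) (b1 b2 : Matrix (Fin m) Unit K)
    (c1 c2 : Matrix Unit (Fin m) K) (d : Matrix Unit Unit K) : Matrix (I3 m) (I3 m) K :=
  fromBlocks (fromBlocks A11 A12 A21 A22) (fromRows b1 b2) (fromCols c1 c2) d

theorem M3_mul (A11 A12 A21 A22 : Matrix (Fin m) (Fin m) K) (b1 b2 : Matrix (Fin m) Unit K)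
    (c1 c2 : Matrix Unit (Fin m) K) (d : Matrix Unit Unit K)
    (A11' A12' A21' A22' : Matrix (Fin m) (Fin m) K) (b1' b2' : Matrix (Fin m) Unit K)
    (c1' c2' : Matrix Unit (Fin m) K) (d' : Matrix Unit Unit K) :
    M3 A11 A12 A21 A22 b1 b2 c1 c2 d * M3 A11' A12' A21' A22' b1' b2' c1' c2' d' =
    M3 (A11 * A11' + A12 * A21' + b1 * c1') (A11 * A12' + A12 * A22' + b1 * c2')
       (A21 * A11' + A22 * A21' + b2 * c1') (A21 * A12' + A22 * A22' + b2 * c2')
       (A11 * b1' + A12 * b2' + b1 * d') (A21 * b1' + A22 * b2' + b2 * d')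
       (c1 * A11' + c2 * A21' + d * c1') (c1 * A12' + c2 * A22' + d * c2')
       (c1 * b1' + c2 * b2' + d * d') := by
  unfold M3
  rw [fromBlocks_multiply, fromBlocks_multiply, fromRows_mul_fromCols, fromBlocks_mul_fromRows,
    fromRows_mul, fromCols_mul_fromBlocks, mul_fromCols, fromCols_mul_fromRows, fromBlocks_add]
  congr 1
  · ext (i | i) j <;> simp
  · ext i (j | j) <;> simp

theorem ct_M3 (A11 A12 A21 A22 : Matrix (Fin m) (Fin m) K) (b1 b2 : Matrix (Fin m) Unit K)
    (c1 c2 : Matrix Unit (Fin m) K) (d : Matrix Unit Unit K) :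
    ct σ (M3 A11 A12 A21 A22 b1 b2 c1 c2 d) =
      M3 (ct σ A11) (ct σ A21) (ct σ A12) (ct σ A22) (ct σ c1) (ct σ c2) (ct σ b1) (ct σ b2)
        (ct σ d) := by
  ext ((i | i) | i) ((j | j) | j) <;> rfl

theorem det_ct {n : Type*} [Fintype n] [DecidableEq n] (M : Matrix n n K) :
    (ct σ M).det = σ M.det := by
  unfold ct
  rw [det_transpose]
  exact (RingHom.map_det σ M).symm

/-- the column `v†` -/
def colv (v : Fin m → K) : Matrix (Fin m) Unit K := replicateCol Unit (fun i => σ (v i))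

/-- the row `v` -/
def rowv (v : Fin m → K) : Matrix Unit (Fin m) K := replicateRow Unit v

theorem colv_zero : colv σ (0 : Fin m → K) = 0 := by
  ext i j
  simp [colv]

theorem rowv_zero : rowv (0 : Fin m → K) = 0 := by
  ext i j
  simp [rowv]

theorem colv_add (v w : Fin m → K) : colv σ (v + w) = colv σ v + colv σ w := by
  ext i j
  simp [colv]

theorem rowv_add (v w : Fin m → K) : rowv (v + w) = rowv v + rowv w := by
  ext i j
  simp [rowv]

theorem colv_mul_rowv (v w : Fin m → K) : colv σ v * rowv w = outer σ v w := by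
  unfold colv rowv outer
  rw [vecMulVec_eq Unit]

theorem ct_colv (hσ : ∀ a, σ (σ a) = a) (v : Fin m → K) : ct σ (colv σ v) = rowv v := by
  ext i j
  simp [colv, rowv, ct_apply, hσ]

theorem ct_rowv (v : Fin m → K) : ct σ (rowv v) = colv σ v := by
  ext i j
  simp [colv, rowv, ct_apply]

theorem outer_zero_zero : outer σ (0 : Fin m → K) 0 = 0 := by
  ext i j
  simp [outer_apply]

/-- the Gram matrix of the odd model -/
def Gm3 (ε : K) : Matrix (I3 m) (I3 m) K :=
  M3 0 (ε • 1) (-ε • 1) 0 0 0 0 0 1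

/-- the elements of the unipotent radical -/
def xM (ε : K) (v : Fin m → K) (X : Matrix (Fin m) (Fin m) K) : Matrix (I3 m) (I3 m) K :=
  M3 1 X 0 1 (ε⁻¹ • colv σ v) 0 0 (rowv v) 1

/-- the Levi elements -/
def levM (G Gi : Matrix (Fin m) (Fin m) K) (dd : K) : Matrix (I3 m) (I3 m) K :=
  M3 G 0 0 (ct σ Gi) 0 0 0 0 (dd • 1)

theorem xM_zero (ε : K) (X : Matrix (Fin m) (Fin m) K) :
    xM σ ε 0 X = M3 1 X 0 1 0 0 0 0 1 := by
  unfold xM
  rw [colv_zero, rowv_zero, smul_zero]

theorem xM_mul (ε : K) (v w : Fin m → K) (X Y : Matrix (Fin m) (Fin m) K) :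
    xM σ ε v X * xM σ ε w Y = xM σ ε (v + w) (X + Y + ε⁻¹ • outer σ v w) := by
  unfold xM
  rw [M3_mul]
  congr 1
  · simp
  · rw [Matrix.smul_mul, colv_mul_rowv]
    simp only [Matrix.one_mul, Matrix.mul_one]
    abel
  · simp
  · simp
  · rw [colv_add, smul_add]
    simp only [Matrix.one_mul, Matrix.mul_one, Matrix.mul_zero, add_zero]
    abel
  · simp
  · simp
  · rw [rowv_add]
    simp
  · simp

theorem ct_Gm3 (ε : K) (hε : σ ε = -ε) : ct σ (Gm3 (m := m) ε) = Gm3 ε := by
  unfold Gm3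
  rw [ct_M3]
  congr 1
  · exact ct_zero σ
  · rw [ct_smul, ct_one, map_neg, hε, neg_neg]
  · rw [ct_smul, ct_one, hε]
  · exact ct_zero σ
  · exact ct_zero σ
  · exact ct_zero σ
  · exact ct_zero σ
  · exact ct_zero σ
  · exact ct_one σ

theorem Gm3_det_ne_zero (ε : K) (hε0 : ε ≠ 0) : (Gm3 (m := m) ε).det ≠ 0 := by
  have h : Gm3 (m := m) ε * M3 0 (-ε⁻¹ • 1) (ε⁻¹ • 1) 0 0 0 0 0 1 = 1 := by
    unfold Gm3
    rw [M3_mul]
    have h1 : (1 : Matrix (I3 m) (I3 m) K) = M3 1 0 0 1 0 0 0 0 1 := by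
      unfold M3
      rw [fromBlocks_one, fromRows_zero, fromCols_zero, fromBlocks_one]
    rw [h1]
    congr 1
    · simp [hε0]
    · simp
    · simp
    · simp [hε0]
    · simp
    · simp
    · simp
    · simp
    · simp
  intro h0
  have := congrArg Matrix.det h
  rw [det_mul, h0, zero_mul, det_one] at this
  exact zero_ne_one this

theorem xM_iso (hσ : ∀ a, σ (σ a) = a) (ε : K) (hε0 : ε ≠ 0) (hε : σ ε = -ε) (v : Fin m → K)
    (X : Matrix (Fin m) (Fin m) K) (h : Adm σ ε v X) : IsIso σ (Gm3 ε) (xM σ ε v X) := by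
  have hεi : σ ε⁻¹ = -ε⁻¹ := by
    rw [map_inv₀, hε, inv_neg]
  constructor
  · unfold xM Gm3
    rw [ct_M3, M3_mul, M3_mul]
    simp only [ct_one, ct_zero, ct_smul, ct_colv σ hσ, ct_rowv, hεi]
    congr 1
    · simp
    · simp
    · simp
    · have h1 : ct σ X = X - ε⁻¹ • outer σ v v := by
        unfold Adm at h
        rw [← h]
        abel
      simp only [Matrix.mul_zero, Matrix.zero_mul, Matrix.mul_one, Matrix.one_mul, add_zero,
        zero_add, Matrix.smul_mul, Matrix.mul_smul]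
      rw [colv_mul_rowv, h1]
      simp only [neg_smul, smul_sub, smul_smul, mul_inv_cancel₀ hε0, one_smul]
      abel
    · simp
    · simp only [Matrix.mul_zero, Matrix.zero_mul, Matrix.mul_one, Matrix.one_mul, add_zero,
        zero_add, Matrix.smul_mul, Matrix.mul_smul]
      rw [smul_smul, show ε⁻¹ * -ε = -1 by field_simp, neg_one_smul, neg_add_cancel]
    · simp
    · simp only [Matrix.mul_zero, Matrix.zero_mul, Matrix.mul_one, Matrix.one_mul, add_zero,
        zero_add, Matrix.smul_mul, Matrix.mul_smul, neg_smul, smul_neg, smul_smul,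
        inv_mul_cancel₀ hε0, mul_inv_cancel₀ hε0, one_smul]
      abel
    · simp
  · unfold xM M3
    rw [det_fromBlocks_one₂₂, fromRows_mul_fromCols, sub_eq_add_neg, fromBlocks_neg,
      fromBlocks_add]
    simp only [Matrix.mul_zero, Matrix.zero_mul, neg_zero, add_zero]
    rw [det_fromBlocks_zero₂₁, det_one, mul_one]

theorem levM_iso (hσ : ∀ a, σ (σ a) = a) (ε : K) (G Gi : Matrix (Fin m) (Fin m) K)
    (h1 : G * Gi = 1) (h2 : Gi * G = 1) (dd : K) (hdd : σ dd * dd = 1)
    (hdet : G.det * σ Gi.det * dd = 1) : IsIso σ (Gm3 ε) (levM σ G Gi dd) := by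
  constructor
  · unfold levM Gm3
    rw [ct_M3, M3_mul, M3_mul]
    simp only [ct_one, ct_zero, ct_smul, ct_ct σ hσ]
    congr 1
    · simp
    · simp only [Matrix.mul_zero, Matrix.zero_mul, Matrix.mul_one, Matrix.one_mul, add_zero,
        zero_add, Matrix.smul_mul, Matrix.mul_smul]
      rw [← ct_mul, h2, ct_one]
    · simp only [Matrix.mul_zero, Matrix.zero_mul, Matrix.mul_one, Matrix.one_mul, add_zero,
        zero_add, Matrix.smul_mul, Matrix.mul_smul]
      rw [h2]
    · simp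
    · simp
    · simp
    · simp
    · simp
    · simp only [Matrix.mul_zero, Matrix.zero_mul, Matrix.mul_one, Matrix.one_mul, add_zero,
        zero_add, Matrix.smul_mul, Matrix.mul_smul, smul_zero, smul_smul]
      rw [mul_comm, hdd, one_smul]
  · unfold levM M3
    rw [fromRows_zero, det_fromBlocks_zero₁₂, det_fromBlocks_zero₁₂, det_ct, det_smul, det_one]
    simpa using hdet

theorem levM_conj (hσ : ∀ a, σ (σ a) = a) (ε : K) (G Gi : Matrix (Fin m) (Fin m) K)
    (h1 : G * Gi = 1) (h2 : Gi * G = 1) (dd : K) (X : Matrix (Fin m) (Fin m) K) :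
    levM σ G Gi dd * xM σ ε 0 X = xM σ ε 0 (G * X * ct σ G) * levM σ G Gi dd := by
  rw [xM_zero, xM_zero]
  unfold levM
  rw [M3_mul, M3_mul]
  congr 1
  · simp
  · simp only [zero_mul, mul_zero, add_zero, zero_add, mul_one]
    rw [Matrix.mul_assoc, ← ct_mul, h2, ct_one, Matrix.mul_one]
  · simp
  · simp
  · simp
  · simp
  · simp
  · simp
  · simp

theorem xM_inj (ε : K) (X Y : Matrix (Fin m) (Fin m) K) (h : xM σ ε 0 X = xM σ ε 0 Y) : X = Y := by
  ext i j
  have := congrFun (congrFun h (Sum.inl (Sum.inl i))) (Sum.inl (Sum.inr j))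
  exact this

theorem adm_zero (ε : K) (X : Matrix (Fin m) (Fin m) K) (hX : IsHerm σ X) : Adm σ ε 0 X := by
  unfold Adm
  rw [show ct σ X = X from hX, sub_self, outer_zero_zero, smul_zero]

theorem isHerm_conj (hσ : ∀ a, σ (σ a) = a) (G X : Matrix (Fin m) (Fin m) K) (hX : IsHerm σ X) :
    IsHerm σ (G * X * ct σ G) := by
  unfold IsHerm
  rw [ct_mul, ct_mul, ct_ct σ hσ, show ct σ X = X from hX, Matrix.mul_assoc]

end Cfsg.Agent.Lib.Helper2.MNU
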