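import Mathlib

set_option autoImplicit false

namespace Cfsg.Agent.Lib.Helper2.Marks

universe v w

variable {A : Type v} [Group A]

/-- fixed points of a subgroup, for an action given as a hom into `Perm X` -/
def fixSet {X : Type w} (ρ : A →* Equiv.Perm X) (H : Subgroup A) : Set X :=
  {x | ∀ h ∈ H, ρ h x = x}

theorem mem_fixSet {X : Type w} (ρ : A →* Equiv.Perm X) (H : Subgroup A) (x : X) :
    x ∈ fixSet ρ H ↔ ∀ h ∈ H, ρ h x = x := Iff.rfl

/-- the stabilizer of a point -/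
def stab {X : Type w} (ρ : A →* Equiv.Perm X) (x : X) : Subgroup A where
  carrier := {a | ρ a x = x}
  mul_mem' := by
    intro a b ha hb
    show ρ (a * b) x = x
    rw [map_mul, Equiv.Perm.mul_apply, show ρ b x = x from hb]
    exact ha
  one_mem' := by
    show ρ 1 x = x
    rw [map_one]
    rfl
  inv_mem' := by
    intro a ha
    show ρ a⁻¹ x = x
    rw [map_inv, Equiv.Perm.inv_eq_iff_eq]
    exact (show ρ a x = x from ha).symm

theorem mem_stab {X : Type w} (ρ : A →* Equiv.Perm X) (x : X) (a : A) :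
    a ∈ stab ρ x ↔ ρ a x = x := Iff.rfl

theorem mem_fixSet_stab {X : Type w} (ρ : A →* Equiv.Perm X) (x : X) :
    x ∈ fixSet ρ (stab ρ x) := fun _ hh => hh

theorem le_stab_of_mem_fixSet {X : Type w} (ρ : A →* Equiv.Perm X) {H : Subgroup A} {x : X}
    (hx : x ∈ fixSet ρ H) : H ≤ stab ρ x := fun h hh => hx h hh

theorem fixSet_bot {X : Type w} (ρ : A →* Equiv.Perm X) : fixSet ρ ⊥ = Set.univ := by
  ext x
  simp only [mem_fixSet, Subgroup.mem_bot, Set.mem_univ, iff_true]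
  rintro h rfl
  rw [map_one]
  rfl

theorem apply_eq_iff {X : Type w} (ρ : A →* Equiv.Perm X) (x : X) (a b : A) :
    ρ a x = ρ b x ↔ b⁻¹ * a ∈ stab ρ x := by
  rw [mem_stab, map_mul, map_inv, Equiv.Perm.mul_apply, Equiv.Perm.inv_eq_iff_eq]

/-- the orbit of a point -/
def orb {X : Type w} (ρ : A →* Equiv.Perm X) (x₀ : X) : Set X := {x | ∃ a, ρ a x₀ = x}

theorem orb_invariant {X : Type w} (ρ : A →* Equiv.Perm X) (x₀ : X) (a : A) (x : X) :
    ρ a x ∈ orb ρ x₀ ↔ x ∈ orb ρ x₀ := by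
  constructor
  · rintro ⟨b, hb⟩
    exact ⟨a⁻¹ * b, by rw [map_mul, Equiv.Perm.mul_apply, hb, map_inv]; exact (ρ a).symm_apply_apply x⟩
  · rintro ⟨b, hb⟩
    exact ⟨a * b, by rw [map_mul, Equiv.Perm.mul_apply, hb]⟩

/-- restriction of an action to an invariant subset -/
def restr {X : Type w} (ρ : A →* Equiv.Perm X) (Z : Set X) (hZ : ∀ a x, ρ a x ∈ Z ↔ x ∈ Z) :
    A →* Equiv.Perm ↥Z where
  toFun a := (ρ a).subtypePerm (hZ a)
  map_one' := by
    apply Equiv.ext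
    intro x
    apply Subtype.ext
    show ρ 1 x = x
    rw [map_one]
    rfl
  map_mul' := by
    intro a b
    apply Equiv.ext
    intro x
    apply Subtype.ext
    show ρ (a * b) x = ρ a (ρ b x)
    rw [map_mul]
    rfl

theorem restr_apply {X : Type w} (ρ : A →* Equiv.Perm X) (Z : Set X)
    (hZ : ∀ a x, ρ a x ∈ Z ↔ x ∈ Z) (a : A) (x : ↥Z) :
    ((restr ρ Z hZ a x : ↥Z) : X) = ρ a x := rfl

theorem ncard_fixSet_restr {X : Type w} (ρ : A →* Equiv.Perm X) (Z : Set X)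
    (hZ : ∀ a x, ρ a x ∈ Z ↔ x ∈ Z) (K : Subgroup A) :
    (fixSet (restr ρ Z hZ) K).ncard = (fixSet ρ K ∩ Z).ncard := by
  have h : Subtype.val '' fixSet (restr ρ Z hZ) K = fixSet ρ K ∩ Z := by
    ext x
    constructor
    · rintro ⟨z, hz, rfl⟩
      exact ⟨fun k hk => congrArg Subtype.val (hz k hk), z.2⟩
    · rintro ⟨hx, hxZ⟩
      exact ⟨⟨x, hxZ⟩, fun k hk => Subtype.ext (hx k hk), rfl⟩
  rw [← h, Set.ncard_image_of_injective _ Subtype.val_injective]

theorem ncard_split {X : Type w} [Finite X] (s Z : Set X) :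
    s.ncard = (s ∩ Z).ncard + (s ∩ Zᶜ).ncard := by
  have hd : Disjoint (s ∩ Z) (s ∩ Zᶜ) := Set.disjoint_left.mpr (fun x hx hx' => hx'.2 hx.2)
  have h := Set.ncard_union_eq hd (Set.toFinite _) (Set.toFinite _)
  rw [Set.inter_union_compl] at h
  exact h

theorem ncard_pos_iff {X : Type w} [Finite X] {s : Set X} : 0 < s.ncard ↔ s.Nonempty :=
  Set.ncard_pos (Set.toFinite s)

/-- orbits of points with the same stabilizer are equivariantly isomorphic -/
theorem exists_orbit_equiv {X Y : Type w} (ρ : A →* Equiv.Perm X) (η : A →* Equiv.Perm Y)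
    (x₀ : X) (y₀ : Y) (hst : stab ρ x₀ = stab η y₀) :
    ∃ τ : ↥(orb ρ x₀) ≃ ↥(orb η y₀), ∀ (a : A) (h : ρ a x₀ ∈ orb ρ x₀),
      ((τ ⟨ρ a x₀, h⟩ : ↥(orb η y₀)) : Y) = η a y₀ := by
  have key : ∀ a b : A, ρ a x₀ = ρ b x₀ ↔ η a y₀ = η b y₀ := by
    intro a b
    rw [apply_eq_iff, apply_eq_iff, hst]
  have hf : ∀ x : ↥(orb ρ x₀), ∃ a, ρ a x₀ = x := fun x => x.2
  choose c hc using hf
  have hchar : ∀ (a : A) (h : ρ a x₀ ∈ orb ρ x₀), η (c ⟨ρ a x₀, h⟩) y₀ = η a y₀ := by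
    intro a h
    exact (key _ _).mp (hc ⟨ρ a x₀, h⟩)
  refine ⟨Equiv.ofBijective (fun x => ⟨η (c x) y₀, ⟨c x, rfl⟩⟩) ⟨?_, ?_⟩, ?_⟩
  · intro x x' hxx'
    have h1 : η (c x) y₀ = η (c x') y₀ := congrArg Subtype.val hxx'
    have h2 := (key _ _).mpr h1
    apply Subtype.ext
    exact (hc x).symm.trans (h2.trans (hc x'))
  · rintro ⟨y, b, hb⟩
    refine ⟨⟨ρ b x₀, ⟨b, rfl⟩⟩, ?_⟩
    apply Subtype.ext
    exact (hchar b _).trans hb
  · intro a h
    exact hchar a h

theorem exists_glue {X Y : Type w} (OX : Set X) (OY : Set Y) (τ : ↥OX ≃ ↥OY)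
    (σ' : ↥(OXᶜ) ≃ ↥(OYᶜ)) :
    ∃ σ : X ≃ Y, (∀ x (hx : x ∈ OX), σ x = τ ⟨x, hx⟩) ∧
      (∀ x (hx : x ∈ OXᶜ), σ x = σ' ⟨x, hx⟩) := by
  classical
  refine ⟨(Equiv.Set.sumCompl OX).symm.trans
    ((Equiv.sumCongr τ σ').trans (Equiv.Set.sumCompl OY)), ?_, ?_⟩
  · intro x hx
    simp [Equiv.Set.sumCompl_symm_apply_of_mem hx]
  · intro x hx
    have hx' : x ∉ OX := hx
    simp [Equiv.Set.sumCompl_symm_apply_of_notMem hx']

/-- two finite `A`-sets with the same marks are isomorphic -/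
theorem marks_iso_aux [Finite A] : ∀ n : ℕ, ∀ (X Y : Type w) [Finite X] [Finite Y]
    (ρ : A →* Equiv.Perm X) (η : A →* Equiv.Perm Y), Nat.card X = n →
    (∀ H : Subgroup A, (fixSet ρ H).ncard = (fixSet η H).ncard) →
    ∃ σ : X ≃ Y, ∀ a x, σ (ρ a x) = η a (σ x) := by
  intro n
  induction n using Nat.strong_induction_on with
  | _ n ih =>
    intro X Y _ _ ρ η hn hm
    by_cases hX : IsEmpty X
    · have h0 : Nat.card Y = 0 := by
        have h1 := hm ⊥
        rw [fixSet_bot, fixSet_bot, Set.ncard_univ, Set.ncard_univ] at h1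
        rw [← h1]
        exact Nat.card_of_isEmpty
      have hY : IsEmpty Y :=
        (Nat.card_eq_zero.mp h0).resolve_right (fun h => @not_finite Y h _)
      exact ⟨Equiv.equivOfIsEmpty X Y, fun a x => (hX.false x).elim⟩
    · rw [not_isEmpty_iff] at hX
      obtain ⟨x₁⟩ := hX
      have hfin : {H : Subgroup A | (fixSet ρ H).Nonempty}.Finite := Set.toFinite _
      have hne : hfin.toFinset.Nonempty :=
        ⟨⊥, by rw [Set.Finite.mem_toFinset]; exact ⟨x₁, by rw [fixSet_bot]; trivial⟩⟩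
      obtain ⟨H, hH, hmax⟩ :=
        Finset.exists_max_image hfin.toFinset (fun H : Subgroup A => Nat.card H) hne
      rw [Set.Finite.mem_toFinset] at hH
      obtain ⟨x₀, hx₀⟩ := hH
      have hmax' : ∀ K : Subgroup A, (fixSet ρ K).Nonempty → Nat.card K ≤ Nat.card H :=
        fun K hK => hmax K (by rw [Set.Finite.mem_toFinset]; exact hK)
      have hsx : stab ρ x₀ = H := by
        symm
        apply Subgroup.eq_of_le_of_card_ge (le_stab_of_mem_fixSet ρ hx₀)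
        exact hmax' _ ⟨x₀, mem_fixSet_stab ρ x₀⟩
      have hneY : ∀ K : Subgroup A, (fixSet η K).Nonempty → (fixSet ρ K).Nonempty := by
        intro K hK
        rw [← ncard_pos_iff] at hK ⊢
        rw [hm K]
        exact hK
      have hY₀ : (fixSet η H).Nonempty := by
        rw [← ncard_pos_iff, ← hm H, ncard_pos_iff]
        exact ⟨x₀, hx₀⟩
      obtain ⟨y₀, hy₀⟩ := hY₀
      have hsy : stab η y₀ = H := by
        symm
        apply Subgroup.eq_of_le_of_card_ge (le_stab_of_mem_fixSet η hy₀)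
        exact hmax' _ (hneY _ ⟨y₀, mem_fixSet_stab η y₀⟩)
      obtain ⟨τ, hτ⟩ := exists_orbit_equiv ρ η x₀ y₀ (hsx.trans hsy.symm)
      have hτeq : ∀ (a : A) (x : X) (hx : x ∈ orb ρ x₀) (hax : ρ a x ∈ orb ρ x₀),
          ((τ ⟨ρ a x, hax⟩ : ↥(orb η y₀)) : Y) = η a (τ ⟨x, hx⟩) := by
        intro a x hx hax
        obtain ⟨b, hb⟩ := hx
        have h1 : ρ a x = ρ (a * b) x₀ := by rw [map_mul, Equiv.Perm.mul_apply, hb]
        have h2 : (⟨ρ a x, hax⟩ : ↥(orb ρ x₀)) = ⟨ρ (a * b) x₀, ⟨a * b, rfl⟩⟩ := Subtype.ext h1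
        have h3 : (⟨x, ⟨b, hb⟩⟩ : ↥(orb ρ x₀)) = ⟨ρ b x₀, ⟨b, rfl⟩⟩ := Subtype.ext hb.symm
        have e1 : ((τ ⟨ρ a x, hax⟩ : ↥(orb η y₀)) : Y) = η (a * b) y₀ := by
          rw [h2]; exact hτ (a * b) _
        have e2 : ((τ ⟨x, ⟨b, hb⟩⟩ : ↥(orb η y₀)) : Y) = η b y₀ := by
          rw [h3]; exact hτ b _
        rw [e1, e2, map_mul, Equiv.Perm.mul_apply]
      have hZX : ∀ a x, ρ a x ∈ (orb ρ x₀)ᶜ ↔ x ∈ (orb ρ x₀)ᶜ :=
        fun a x => not_congr (orb_invariant ρ x₀ a x)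
      have hZY : ∀ a y, η a y ∈ (orb η y₀)ᶜ ↔ y ∈ (orb η y₀)ᶜ :=
        fun a y => not_congr (orb_invariant η y₀ a y)
      have hm' : ∀ K : Subgroup A, (fixSet (restr ρ _ hZX) K).ncard =
          (fixSet (restr η _ hZY) K).ncard := by
        intro K
        rw [ncard_fixSet_restr, ncard_fixSet_restr]
        have hX1 := ncard_split (fixSet ρ K) (orb ρ x₀)
        have hY1 := ncard_split (fixSet η K) (orb η y₀)
        have hmK := hm K
        have hO : (fixSet ρ K ∩ orb ρ x₀).ncard = (fixSet η K ∩ orb η y₀).ncard := by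
          apply Set.ncard_congr (fun x hx => ((τ ⟨x, hx.2⟩ : ↥(orb η y₀)) : Y))
          · intro x hx
            refine ⟨fun k hk => ?_, (τ ⟨x, hx.2⟩).2⟩
            have hkx : ρ k x = x := hx.1 k hk
            have hax : ρ k x ∈ orb ρ x₀ := by rw [hkx]; exact hx.2
            have h5 := hτeq k x hx.2 hax
            rw [← h5]
            have h6 : (⟨ρ k x, hax⟩ : ↥(orb ρ x₀)) = ⟨x, hx.2⟩ := Subtype.ext hkx
            rw [h6]
          · intro x x' hx hx' h
            have h7 := τ.injective (Subtype.ext h)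
            exact congrArg Subtype.val h7
          · intro y hy
            obtain ⟨z, hz⟩ := τ.surjective ⟨y, hy.2⟩
            have hzy : ((τ z : ↥(orb η y₀)) : Y) = y := congrArg Subtype.val hz
            refine ⟨z.1, ⟨?_, z.2⟩, hzy⟩
            intro k hk
            have hax : ρ k z.1 ∈ orb ρ x₀ := (orb_invariant ρ x₀ k z.1).mpr z.2
            have h1 := hτeq k z.1 z.2 hax
            have h3 : η k y = y := hy.1 k hk
            have h4 : τ ⟨ρ k z.1, hax⟩ = τ z := by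
              apply Subtype.ext
              rw [h1]
              show η k ((τ z : ↥(orb η y₀)) : Y) = ((τ z : ↥(orb η y₀)) : Y)
              rw [hzy]
              exact h3
            exact congrArg Subtype.val (τ.injective h4)
        omega
      have hcard : Nat.card ↥((orb ρ x₀)ᶜ : Set X) < n := by
        rw [Nat.card_coe_set_eq, ← hn,
          ← Set.ncard_add_ncard_compl (orb ρ x₀) (Set.toFinite _) (Set.toFinite _)]
        have hpos : 0 < (orb ρ x₀).ncard :=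
          ncard_pos_iff.mpr ⟨x₀, ⟨1, by rw [map_one]; rfl⟩⟩
        omega
      obtain ⟨σ', hσ'⟩ := ih _ hcard ↥((orb ρ x₀)ᶜ : Set X) ↥((orb η y₀)ᶜ : Set Y)
        (restr ρ _ hZX) (restr η _ hZY) rfl hm'
      obtain ⟨σ, hσ1, hσ2⟩ := exists_glue (orb ρ x₀) (orb η y₀) τ σ'
      refine ⟨σ, fun a x => ?_⟩
      by_cases hx : x ∈ orb ρ x₀
      · have hax : ρ a x ∈ orb ρ x₀ := (orb_invariant ρ x₀ a x).mpr hx
        rw [hσ1 _ hax, hσ1 _ hx]
        exact hτeq a x hx hax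
      · have hax : ρ a x ∈ (orb ρ x₀)ᶜ := (hZX a x).mpr hx
        rw [hσ2 _ hax, hσ2 _ hx]
        exact congrArg Subtype.val (hσ' a ⟨x, hx⟩)

theorem marks_iso [Finite A] {X Y : Type w} [Finite X] [Finite Y]
    (ρ : A →* Equiv.Perm X) (η : A →* Equiv.Perm Y)
    (hm : ∀ H : Subgroup A, (fixSet ρ H).ncard = (fixSet η H).ncard) :
    ∃ σ : X ≃ Y, ∀ a x, σ (ρ a x) = η a (σ x) :=
  marks_iso_aux _ X Y ρ η rfl hm

end Cfsg.Agent.Lib.Helper2.Marks
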