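import Cfsg.Agent.Lib.Helper2.Marks1

set_option autoImplicit false

namespace Cfsg.Agent.Lib.Helper2.Marks

open Classical

universe u

variable {Γ : Type u} [Group Γ] [Fintype Γ]

/-- `g⁻¹ K g` -/
def cj (g : Γ) (K : Subgroup Γ) : Subgroup Γ := K.map (MulAut.conj g⁻¹).toMonoidHom

omit [Fintype Γ] in
theorem mem_cj (g : Γ) (K : Subgroup Γ) (x : Γ) : x ∈ cj g K ↔ g * x * g⁻¹ ∈ K := by
  unfold cj
  rw [Subgroup.mem_map_equiv, MulAut.conj_symm_apply, inv_inv]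

omit [Fintype Γ] in
theorem card_cj (g : Γ) (K : Subgroup Γ) : Nat.card (cj g K) = Nat.card K :=
  Subgroup.card_map_of_injective (MulEquiv.injective _)

omit [Fintype Γ] in
theorem cj_cj (g h : Γ) (K : Subgroup Γ) : cj g (cj h K) = cj (h * g) K := by
  ext x
  rw [mem_cj, mem_cj, mem_cj]
  simp only [mul_inv_rev, mul_assoc]

/-- the number of `g` with `g⁻¹ K g ≤ D` -/
noncomputable def a (K D : Subgroup Γ) : ℕ := (Finset.univ.filter (fun g : Γ => cj g K ≤ D)).card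

theorem a_eq_zero {K D : Subgroup Γ} (h : Nat.card D < Nat.card K) : a K D = 0 := by
  unfold a
  rw [Finset.card_eq_zero, Finset.filter_eq_empty_iff]
  intro g _ hle
  have h1 := Subgroup.card_le_of_le hle
  rw [card_cj] at h1
  omega

theorem a_conj (h : Γ) (K D : Subgroup Γ) : a (cj h K) D = a K D := by
  unfold a
  apply Finset.card_bij (fun g _ => h * g)
  · intro g hg
    rw [Finset.mem_filter] at hg ⊢
    refine ⟨Finset.mem_univ _, ?_⟩
    rw [← cj_cj]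
    exact hg.2
  · intro g₁ _ g₂ _ h12
    exact mul_left_cancel h12
  · intro g' hg'
    rw [Finset.mem_filter] at hg'
    refine ⟨h⁻¹ * g', ?_, by group⟩
    rw [Finset.mem_filter]
    refine ⟨Finset.mem_univ _, ?_⟩
    rw [cj_cj]
    have e : h * (h⁻¹ * g') = g' := by group
    rw [e]
    exact hg'.2

/-- the mark of `K` for the multiplicity function `e` -/
noncomputable def m (𝒟f : Finset (Subgroup Γ)) (e : Subgroup Γ → ℕ) (K : Subgroup Γ) : ℕ :=
  ∑ D ∈ 𝒟f, e D * a K D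

theorem m_conj (𝒟f : Finset (Subgroup Γ)) (e : Subgroup Γ → ℕ) (h : Γ) (K : Subgroup Γ) :
    m 𝒟f e (cj h K) = m 𝒟f e K := by
  unfold m
  apply Finset.sum_congr rfl
  intro D _
  rw [a_conj]

theorem m_le (𝒟f : Finset (Subgroup Γ)) (e : Subgroup Γ → ℕ) (K : Subgroup Γ) :
    m 𝒟f e K ≤ Fintype.card Γ * ∑ D ∈ 𝒟f, e D := by
  unfold m
  rw [Finset.mul_sum]
  apply Finset.sum_le_sum
  intro D _
  rw [mul_comm]
  apply Nat.mul_le_mul_right
  unfold a
  exact (Finset.card_filter_le _ _).trans (le_of_eq Finset.card_univ)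

theorem sum_new (𝒟f : Finset (Subgroup Γ)) (K : Subgroup Γ) (hK : ∀ g, cj g K ∈ 𝒟f)
    (f : Subgroup Γ → ℕ) (hf : ∀ g, f (cj g K) = f K) :
    ∑ D ∈ 𝒟f, (if Nat.card D = Nat.card K then f D else 0) * a K D =
      Fintype.card Γ * f K := by
  have h1 : ∀ D : Subgroup Γ, a K D = ∑ g : Γ, if cj g K ≤ D then 1 else 0 := by
    intro D
    unfold a
    rw [Finset.card_filter]
  simp_rw [h1, Finset.mul_sum]
  rw [Finset.sum_comm]
  have h2 : ∀ g : Γ, ∑ D ∈ 𝒟f, (if Nat.card D = Nat.card K then f D else 0) *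
      (if cj g K ≤ D then 1 else 0) = f K := by
    intro g
    rw [Finset.sum_eq_single (cj g K)]
    · rw [if_pos (card_cj g K), if_pos le_rfl, mul_one, hf]
    · intro D _ hne
      by_cases hc : Nat.card D = Nat.card K
      · have hnle : ¬ cj g K ≤ D := by
          intro hle
          apply hne
          symm
          apply Subgroup.eq_of_le_of_card_ge hle
          rw [card_cj, hc]
        rw [if_neg hnle, mul_zero]
      · rw [if_neg hc, zero_mul]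
    · intro hnot
      exact absurd (hK g) hnot
  rw [Finset.sum_congr rfl (fun g _ => h2 g), Finset.sum_const, Finset.card_univ, smul_eq_mul]

theorem exists_mult_aux (𝒟f : Finset (Subgroup Γ)) (hconj : ∀ D ∈ 𝒟f, ∀ g, cj g D ∈ 𝒟f) :
    ∀ j : ℕ, ∃ (e : Subgroup Γ → ℕ) (M : ℕ → ℕ), ∀ K ∈ 𝒟f,
      Fintype.card Γ + 1 ≤ Nat.card K + j → m 𝒟f e K = M (Nat.card K) ∧ 0 < M (Nat.card K) := by
  have hN : 0 < Fintype.card Γ := Fintype.card_pos
  intro j
  induction j with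
  | zero =>
    refine ⟨fun _ => 0, fun _ => 0, ?_⟩
    intro K _ h
    exfalso
    have h1 : Nat.card K ≤ Fintype.card Γ := by
      rw [← Nat.card_eq_fintype_card]
      exact Subgroup.card_le_card_group K
    omega
  | succ j ih =>
    obtain ⟨e, M, hM⟩ := ih
    obtain ⟨B, hBdef⟩ : ∃ B : ℕ, B = Fintype.card Γ * (∑ D ∈ 𝒟f, e D) + 1 := ⟨_, rfl⟩
    have hB : ∀ K : Subgroup Γ, m 𝒟f e K < B := by
      intro K
      rw [hBdef]
      exact Nat.lt_succ_of_le (m_le 𝒟f e K)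
    obtain ⟨f, hf⟩ : ∃ f : Subgroup Γ → ℕ, ∀ D, f D = B - m 𝒟f e D := ⟨_, fun _ => rfl⟩
    obtain ⟨e', he'⟩ : ∃ e' : Subgroup Γ → ℕ, ∀ D, e' D = Fintype.card Γ * e D +
        (if Nat.card D + j = Fintype.card Γ then f D else 0) := ⟨_, fun _ => rfl⟩
    obtain ⟨M', hM'⟩ : ∃ M' : ℕ → ℕ, ∀ n, M' n =
        if Fintype.card Γ + 1 ≤ n + j then Fintype.card Γ * M n else Fintype.card Γ * B :=
      ⟨_, fun _ => rfl⟩
    refine ⟨e', M', ?_⟩
    intro K hK hle
    have hm : m 𝒟f e' K = Fintype.card Γ * m 𝒟f e K +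
        ∑ D ∈ 𝒟f, (if Nat.card D + j = Fintype.card Γ then f D else 0) * a K D := by
      unfold m
      rw [Finset.mul_sum, ← Finset.sum_add_distrib]
      apply Finset.sum_congr rfl
      intro D _
      rw [he']
      ring
    by_cases hold : Fintype.card Γ + 1 ≤ Nat.card K + j
    · obtain ⟨h1, h2⟩ := hM K hK hold
      have hz : ∑ D ∈ 𝒟f, (if Nat.card D + j = Fintype.card Γ then f D else 0) * a K D = 0 := by
        apply Finset.sum_eq_zero
        intro D _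
        by_cases hc : Nat.card D + j = Fintype.card Γ
        · rw [a_eq_zero (by omega), mul_zero]
        · rw [if_neg hc, zero_mul]
      rw [hm, hz, add_zero, h1, hM', if_pos hold]
      exact ⟨rfl, Nat.mul_pos hN h2⟩
    · have hnew : Nat.card K + j = Fintype.card Γ := by omega
      have hs : ∑ D ∈ 𝒟f, (if Nat.card D + j = Fintype.card Γ then f D else 0) * a K D =
          Fintype.card Γ * f K := by
        have h3 := sum_new 𝒟f K (hconj K hK) f (fun g => by rw [hf, hf, m_conj])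
        rw [← h3]
        apply Finset.sum_congr rfl
        intro D _
        have h4 : (Nat.card D + j = Fintype.card Γ) ↔ (Nat.card D = Nat.card K) := by omega
        simp only [h4]
      have h5 : Fintype.card Γ * m 𝒟f e K + Fintype.card Γ * f K = Fintype.card Γ * B := by
        rw [← Nat.mul_add]
        congr 1
        rw [hf]
        have := hB K
        omega
      rw [hm, hs, h5, hM', if_neg hold]
      refine ⟨rfl, Nat.mul_pos hN ?_⟩
      have := hB K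
      omega

/-- multiplicities making the marks depend only on the order -/
theorem exists_mult (𝒟f : Finset (Subgroup Γ)) (hconj : ∀ D ∈ 𝒟f, ∀ g, cj g D ∈ 𝒟f) :
    ∃ (e : Subgroup Γ → ℕ) (M : ℕ → ℕ), ∀ K ∈ 𝒟f,
      m 𝒟f e K = M (Nat.card K) ∧ 0 < M (Nat.card K) := by
  obtain ⟨e, M, h⟩ := exists_mult_aux 𝒟f hconj (Fintype.card Γ + 1)
  exact ⟨e, M, fun K hK => h K hK (by omega)⟩

/-! ### The `Γ`-set with given multiplicities -/

/-- `e D * |D|` copies of `Γ / D` for each `D ∈ 𝒟f` -/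
abbrev XT (𝒟f : Finset (Subgroup Γ)) (e : Subgroup Γ → ℕ) : Type u :=
  Σ D : ↥𝒟f, Fin (e D.1 * Nat.card D.1) × (Γ ⧸ D.1)

instance (𝒟f : Finset (Subgroup Γ)) (e : Subgroup Γ → ℕ) : Finite (XT 𝒟f e) := by
  unfold XT
  infer_instance

/-- the action of `Γ` on `XT` -/
def act (𝒟f : Finset (Subgroup Γ)) (e : Subgroup Γ → ℕ) : Γ →* Equiv.Perm (XT 𝒟f e) where
  toFun g :=
    { toFun := fun x => ⟨x.1, x.2.1, g • x.2.2⟩
      invFun := fun x => ⟨x.1, x.2.1, g⁻¹ • x.2.2⟩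
      left_inv := by
        rintro ⟨D, j, q⟩
        show (⟨D, j, g⁻¹ • g • q⟩ : XT 𝒟f e) = ⟨D, j, q⟩
        rw [inv_smul_smul]
      right_inv := by
        rintro ⟨D, j, q⟩
        show (⟨D, j, g • g⁻¹ • q⟩ : XT 𝒟f e) = ⟨D, j, q⟩
        rw [smul_inv_smul] }
  map_one' := by
    apply Equiv.ext
    rintro ⟨D, j, q⟩
    show (⟨D, j, (1 : Γ) • q⟩ : XT 𝒟f e) = ⟨D, j, q⟩
    rw [one_smul]
  map_mul' := by
    intro g h
    apply Equiv.ext
    rintro ⟨D, j, q⟩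
    show (⟨D, j, (g * h) • q⟩ : XT 𝒟f e) = ⟨D, j, g • h • q⟩
    rw [mul_smul]

omit [Fintype Γ] in
theorem act_eq_iff (𝒟f : Finset (Subgroup Γ)) (e : Subgroup Γ → ℕ) (γ : Γ) (D : ↥𝒟f)
    (j : Fin (e D.1 * Nat.card D.1)) (q : Γ ⧸ D.1) :
    act 𝒟f e γ ⟨D, j, q⟩ = ⟨D, j, q⟩ ↔ γ • q = q := by
  constructor
  · intro h
    have h0 : (⟨D, j, γ • q⟩ : XT 𝒟f e) = ⟨D, j, q⟩ := h
    have h1 := (Sigma.mk.inj_iff.mp h0).2
    have h2 := eq_of_heq h1
    exact (Prod.mk.inj h2).2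
  · intro h
    show (⟨D, j, γ • q⟩ : XT 𝒟f e) = ⟨D, j, q⟩
    rw [h]

omit [Fintype Γ] in
theorem smul_mk_eq_iff (D : Subgroup Γ) (γ g : Γ) :
    γ • (QuotientGroup.mk g : Γ ⧸ D) = QuotientGroup.mk g ↔ g⁻¹ * γ * g ∈ D := by
  have h1 : γ • (QuotientGroup.mk g : Γ ⧸ D) = QuotientGroup.mk (γ * g) := rfl
  rw [h1, QuotientGroup.eq, ← Subgroup.inv_mem_iff]
  have h2 : ((γ * g)⁻¹ * g)⁻¹ = g⁻¹ * γ * g := by group
  rw [h2]

/-- every point stabilizer is in `𝒟f` -/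
theorem exists_stab_act (𝒟f : Finset (Subgroup Γ)) (hconj : ∀ D ∈ 𝒟f, ∀ g, cj g D ∈ 𝒟f)
    (e : Subgroup Γ → ℕ) (x : XT 𝒟f e) :
    ∃ D ∈ 𝒟f, ∀ γ : Γ, act 𝒟f e γ x = x ↔ γ ∈ D := by
  obtain ⟨D, j, q⟩ := x
  obtain ⟨g, rfl⟩ := QuotientGroup.mk_surjective q
  refine ⟨cj g⁻¹ D.1, hconj D.1 D.2 g⁻¹, fun γ => ?_⟩
  rw [act_eq_iff, smul_mk_eq_iff, mem_cj, inv_inv]

/-- fixed cosets -/
def fixedQ (D K : Subgroup Γ) : Set (Γ ⧸ D) := {q | ∀ k ∈ K, k • q = q}

theorem card_fixedQ (D K : Subgroup Γ) :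
    Nat.card D * Nat.card ↥(fixedQ D K) = a K D := by
  have h1 := Nat.card_congr (QuotientGroup.preimageMkEquivSubgroupProdSet D (fixedQ D K))
  rw [Nat.card_prod] at h1
  rw [← h1]
  have h2 : (QuotientGroup.mk ⁻¹' fixedQ D K : Set Γ) = {g | cj g K ≤ D} := by
    ext g
    show (∀ k ∈ K, k • (QuotientGroup.mk g : Γ ⧸ D) = QuotientGroup.mk g) ↔ cj g K ≤ D
    constructor
    · intro h x hx
      rw [mem_cj] at hx
      have h3 := (smul_mk_eq_iff D _ g).mp (h _ hx)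
      have h4 : g⁻¹ * (g * x * g⁻¹) * g = x := by group
      rw [h4] at h3
      exact h3
    · intro h k hk
      rw [smul_mk_eq_iff]
      apply h
      rw [mem_cj]
      have h4 : g * (g⁻¹ * k * g) * g⁻¹ = k := by group
      rw [h4]
      exact hk
  rw [h2]
  unfold a
  rw [Nat.card_eq_fintype_card]
  exact Fintype.card_of_subtype _ (fun g => by simp)

theorem mem_fixSet_act (𝒟f : Finset (Subgroup Γ)) (e : Subgroup Γ → ℕ) (K : Subgroup Γ)
    (x : XT 𝒟f e) : x ∈ fixSet (act 𝒟f e) K ↔ x.2.2 ∈ fixedQ x.1.1 K := by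
  obtain ⟨D, j, q⟩ := x
  constructor
  · intro h k hk
    exact (act_eq_iff 𝒟f e k D j q).mp (h k hk)
  · intro h k hk
    exact (act_eq_iff 𝒟f e k D j q).mpr (h k hk)

/-- the marks of `XT` -/
theorem ncard_fixSet_act (𝒟f : Finset (Subgroup Γ)) (e : Subgroup Γ → ℕ) (K : Subgroup Γ) :
    (fixSet (act 𝒟f e) K).ncard = m 𝒟f e K := by
  have eqv : ↥(fixSet (act 𝒟f e) K) ≃
      Σ D : ↥𝒟f, Fin (e D.1 * Nat.card D.1) × ↥(fixedQ D.1 K) :=
    { toFun := fun x => ⟨x.1.1, x.1.2.1, ⟨x.1.2.2, (mem_fixSet_act 𝒟f e K x.1).mp x.2⟩⟩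
      invFun := fun y => ⟨⟨y.1, y.2.1, y.2.2.1⟩,
        (mem_fixSet_act 𝒟f e K ⟨y.1, y.2.1, y.2.2.1⟩).mpr y.2.2.2⟩
      left_inv := by
        rintro ⟨⟨D, j, q⟩, h⟩
        rfl
      right_inv := by
        rintro ⟨D, j, ⟨q, h⟩⟩
        rfl }
  rw [← Nat.card_coe_set_eq, Nat.card_congr eqv, Nat.card_sigma]
  unfold m
  rw [← Finset.sum_coe_sort 𝒟f (fun D => e D * a K D)]
  apply Finset.sum_congr rfl
  intro D _
  rw [Nat.card_prod, Nat.card_fin, mul_assoc, card_fixedQ]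

end Cfsg.Agent.Lib.Helper2.Marks
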