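import Mathlib
import Cfsg.Prelude.Def_CaseTheorems
import Cfsg.Agent.Lib.Helper1.QS5
import Cfsg.Agent.Lib.Helper2.PGroup
set_option autoImplicit false
universe u
namespace Cfsg.Agent.Lib.Helper2.MaxCycTwo

variable {G : Type u} [Group G]

/-- Elementwise data of a `2`-group `T` with a cyclic subgroup `⟨x⟩` of index two whose outside
elements square into `{1, z}` and invert the elements of order at most four of `⟨x⟩`
(dihedral and semidihedral groups). -/
structure TData (T : Subgroup G) (x z : G) : Prop where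
  sq : ∀ t ∈ T, t ∉ Subgroup.zpowers x → t * t = 1 ∨ t * t = z
  inv : ∀ t ∈ T, t ∉ Subgroup.zpowers x → ∀ c ∈ Subgroup.zpowers x, c ^ 4 = 1 →
    t * c * t⁻¹ = c⁻¹
  idx : ∀ t ∈ T, ∀ t' ∈ T, t ∉ Subgroup.zpowers x → t' ∉ Subgroup.zpowers x →
    t⁻¹ * t' ∈ Subgroup.zpowers x
  invol : ∀ c ∈ Subgroup.zpowers x, c ^ 2 = 1 → c = 1 ∨ c = z
  z_ne : z ≠ 1
  z_sq : z * z = 1
  z_mem : z ∈ T ⊓ Subgroup.centralizer (T : Set G)
  cen : ∀ w ∈ T ⊓ Subgroup.centralizer (T : Set G), w = 1 ∨ w = z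

theorem tdata_of_gens [Finite G] (T : Subgroup G) (x y : G) (H f : ℕ) (hH : 2 ≤ H)
    (hx : x ∈ T) (hy : y ∈ T) (hox : orderOf x = 2 * H) (hcard : Nat.card T = 4 * H)
    (hyy : y * y = 1) (hconj : y * x * y⁻¹ = x ^ (f + 1)) (hfe : Even f)
    (he1 : H ∣ f + 2) (he2 : ∀ j : ℕ, 2 * H ∣ f * j → H ∣ j)
    (he3 : ∀ j : ℕ, 2 * H ∣ 4 * j → 2 * H ∣ (f + 2) * j) :
    TData T x (x ^ H) := by
  classical
  obtain ⟨C, hC⟩ : ∃ C : Subgroup G, C = Subgroup.zpowers x := ⟨_, rfl⟩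
  have hCT : C ≤ T := by rw [hC, Subgroup.zpowers_le]; exact hx
  have hpow1 : ∀ k : ℕ, x ^ k = 1 ↔ 2 * H ∣ k := by
    intro k; rw [← hox]; exact (orderOf_dvd_iff_pow_eq_one).symm
  have hcp : ∀ i : ℕ, y * x ^ i * y⁻¹ = x ^ ((f + 1) * i) := by
    intro i
    rw [← conj_pow, hconj, ← pow_mul]
  have hCnat : ∀ c ∈ C, ∃ j : ℕ, c = x ^ j := by
    intro c hc
    rw [hC] at hc
    obtain ⟨k, hk⟩ := Subgroup.mem_zpowers_iff.mp hc
    refine ⟨(k % (orderOf x : ℤ)).toNat, ?_⟩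
    have hn : (0 : ℤ) ≤ k % (orderOf x : ℤ) :=
      Int.emod_nonneg _ (by exact_mod_cast (orderOf_pos x).ne')
    rw [← zpow_natCast, Int.toNat_of_nonneg hn, zpow_mod_orderOf, hk]
  have hxC : ∀ j : ℕ, x ^ j ∈ C := fun j => by
    rw [hC]; exact Subgroup.pow_mem _ (Subgroup.mem_zpowers x) j
  have hxe : x ^ (f + 1) ≠ x := by
    intro h
    have h1 : x ^ f = 1 := by
      have : x ^ f * x = 1 * x := by rw [← pow_succ, h, one_mul]
      exact mul_right_cancel this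
    have h2 := (hpow1 _).mp h1
    have h3 := he2 1 (by rwa [mul_one])
    have : H = 1 := Nat.dvd_one.mp h3
    omega
  have hyC : y ∉ C := by
    intro hyc
    obtain ⟨j, hj⟩ := hCnat y hyc
    apply hxe
    rw [← hconj, hj]
    calc x ^ j * x * (x ^ j)⁻¹ = x * x ^ j * (x ^ j)⁻¹ := by rw [← pow_succ, ← pow_succ']
      _ = x := by rw [mul_assoc, mul_inv_cancel, mul_one]
  have hrel : C.relIndex T = 2 := by
    have h1 := Cfsg.Agent.Lib.Helper2.card_mul_relIndex hCT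
    rw [hcard, hC, Nat.card_zpowers, hox] at h1
    have hHpos : 0 < H := by omega
    have : 2 * H * (Subgroup.zpowers x).relIndex T = 2 * H * 2 := by rw [h1]; ring
    rw [hC]
    exact Nat.eq_of_mul_eq_mul_left (by omega) this
  have hidx : ∀ t ∈ T, ∀ t' ∈ T, t ∉ C → t' ∉ C → t⁻¹ * t' ∈ C := by
    intro t ht t' ht' htC ht'C
    have h2 : (C.subgroupOf T).index = 2 := hrel
    have h3 := Subgroup.mul_mem_iff_of_index_two h2 (a := (⟨t, ht⟩ : T)⁻¹) (b := ⟨t', ht'⟩)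
    rw [Subgroup.mem_subgroupOf, Subgroup.mem_subgroupOf, Subgroup.mem_subgroupOf] at h3
    have h4 : t⁻¹ * t' ∈ C ↔ (t⁻¹ ∈ C ↔ t' ∈ C) := h3
    rw [h4, inv_mem_iff]
    exact ⟨fun h => absurd h htC, fun h => absurd h ht'C⟩
  have hout : ∀ t ∈ T, t ∉ C → ∃ i : ℕ, t = y * x ^ i := by
    intro t ht htC
    obtain ⟨i, hi⟩ := hCnat _ (hidx y hy t ht hyC htC)
    exact ⟨i, by rw [← hi]; group⟩
  have hzz : x ^ H * x ^ H = 1 := by rw [← pow_add, hpow1]; exact ⟨1, by ring⟩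
  have hz1 : x ^ H ≠ 1 := by
    intro h
    have h1 := (hpow1 H).mp h
    have := Nat.le_of_dvd (by omega) h1
    omega
  have hzpow : ∀ k : ℕ, (x ^ H) ^ k = 1 ∨ (x ^ H) ^ k = x ^ H := by
    intro k
    rcases Nat.even_or_odd' k with ⟨m, rfl | rfl⟩
    · left; rw [pow_mul, pow_two, hzz, one_pow]
    · right; rw [pow_succ, pow_mul, pow_two, hzz, one_pow, one_mul]
  have hzy : y * x ^ H = x ^ H * y := by
    have h1 := hcp H
    have h2 : x ^ ((f + 1) * H) = x ^ H := by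
      obtain ⟨m, hm⟩ := hfe
      have : (f + 1) * H = (2 * H) * m + H := by rw [hm]; ring
      rw [this, pow_add, (hpow1 _).mpr ⟨m, rfl⟩, one_mul]
    rw [h2] at h1
    calc y * x ^ H = (y * x ^ H * y⁻¹) * y := by group
      _ = x ^ H * y := by rw [h1]
  have hzT : ∀ t ∈ T, t * x ^ H = x ^ H * t := by
    intro t ht
    by_cases htC : t ∈ C
    · obtain ⟨j, rfl⟩ := hCnat t htC
      rw [← pow_add, ← pow_add, add_comm]
    · obtain ⟨i, rfl⟩ := hout t ht htC
      calc y * x ^ i * x ^ H = y * x ^ H * x ^ i := by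
            rw [mul_assoc, mul_assoc, ← pow_add, ← pow_add, add_comm]
        _ = x ^ H * (y * x ^ i) := by rw [hzy]; group
  refine ⟨?_, ?_, ?_, ?_, hz1, hzz, ?_, ?_⟩
  · -- sq
    intro t ht htC
    rw [← hC] at htC
    obtain ⟨i, rfl⟩ := hout t ht htC
    obtain ⟨q, hq⟩ := he1
    have h1 : y * x ^ i * (y * x ^ i) = x ^ ((f + 2) * i) := by
      have h2 : y * x ^ i * (y * x ^ i) = (y * x ^ i * y⁻¹) * (y * y) * x ^ i := by group
      rw [h2, hcp, hyy, mul_one, ← pow_add]; congr 1; ring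
    rw [h1, hq, mul_assoc, pow_mul]
    exact hzpow _
  · -- inv
    intro t ht htC c hc hc4
    rw [← hC] at htC hc
    obtain ⟨i, rfl⟩ := hout t ht htC
    obtain ⟨j, rfl⟩ := hCnat c hc
    have h0 : x ^ (4 * j) = 1 := by rw [mul_comm, pow_mul]; exact hc4
    have h1 : 2 * H ∣ 4 * j := (hpow1 _).mp h0
    have h2 := (hpow1 _).mpr (he3 j h1)
    have h3 : y * x ^ i * x ^ j * (y * x ^ i)⁻¹ = y * x ^ j * y⁻¹ := by
      have : x ^ i * x ^ j * (x ^ i)⁻¹ = x ^ j := by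
        rw [← pow_add, add_comm, pow_add, mul_assoc, mul_inv_cancel, mul_one]
      calc y * x ^ i * x ^ j * (y * x ^ i)⁻¹ = y * (x ^ i * x ^ j * (x ^ i)⁻¹) * y⁻¹ := by group
        _ = _ := by rw [this]
    rw [h3, hcp]
    apply eq_inv_of_mul_eq_one_left
    rw [← pow_add, ← h2]; congr 1; ring
  · -- idx
    intro t ht t' ht' htC ht'C
    rw [← hC] at htC ht'C ⊢
    exact hidx t ht t' ht' htC ht'C
  · -- invol
    intro c hc hc2
    rw [← hC] at hc
    obtain ⟨j, rfl⟩ := hCnat c hc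
    have h0 : x ^ (2 * j) = 1 := by rw [mul_comm, pow_mul]; exact hc2
    have h1 : 2 * H ∣ 2 * j := (hpow1 _).mp h0
    have h2 : H ∣ j := Nat.dvd_of_mul_dvd_mul_left (by norm_num) h1
    obtain ⟨l, rfl⟩ := h2
    rw [pow_mul]; exact hzpow l
  · -- z_mem
    refine Subgroup.mem_inf.mpr ⟨hCT (hxC H), ?_⟩
    rw [Subgroup.mem_centralizer_iff]
    intro t ht
    exact hzT t ht
  · -- cen
    intro w hw
    obtain ⟨hwT, hwc⟩ := Subgroup.mem_inf.mp hw
    rw [Subgroup.mem_centralizer_iff] at hwc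
    by_cases hwC : w ∈ C
    · obtain ⟨j, rfl⟩ := hCnat w hwC
      have h1 := hwc y hy
      have h2 : x ^ ((f + 1) * j) = x ^ j := by
        rw [← hcp, h1]; group
      have h3 : x ^ (f * j) = 1 := by
        have : x ^ (f * j) * x ^ j = 1 * x ^ j := by
          rw [← pow_add, one_mul, ← h2]; congr 1; ring
        exact mul_right_cancel this
      have h4 := he2 j ((hpow1 _).mp h3)
      obtain ⟨l, rfl⟩ := h4
      rw [pow_mul]; exact hzpow l
    · exfalso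
      obtain ⟨i, rfl⟩ := hout w hwT hwC
      have h1 := hwc x hx
      apply hxe
      rw [← hconj]
      have h2 : x * y * x ^ i = y * x * x ^ i := by
        calc x * y * x ^ i = x * (y * x ^ i) := by group
          _ = y * x ^ i * x := h1
          _ = y * x * x ^ i := by rw [mul_assoc, ← pow_succ, pow_succ', ← mul_assoc]
      have h3 : x * y = y * x := mul_right_cancel h2
      calc y * x * y⁻¹ = x * y * y⁻¹ := by rw [h3]
        _ = x := by group

theorem tdata_of_dihedral [Finite G] (T : Subgroup G) (h2 : IsPGroup 2 T) (n : ℕ) (hn : 4 ≤ n)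
    (e : T ≃* DihedralGroup n) : ∃ x z : G, TData T x z := by
  have hcardT : Nat.card T = 2 * n := by rw [Nat.card_congr e.toEquiv, DihedralGroup.nat_card]
  obtain ⟨k, hk⟩ := IsPGroup.iff_card.mp h2
  have hn2 : ∃ K, n = 2 * (K + 2) := by
    have h : 2 * n = 2 ^ k := by rw [← hcardT, hk]
    match k, h with
    | 0, h => exfalso; rw [pow_zero] at h; omega
    | 1, h => exfalso; rw [pow_one] at h; omega
    | 2, h => exfalso; have h4 : (2 : ℕ) ^ 2 = 4 := by norm_num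
              rw [h4] at h; omega
    | (k + 3), h =>
      have hk1 : 1 ≤ 2 ^ k := Nat.one_le_two_pow
      refine ⟨2 * 2 ^ k - 2, ?_⟩
      rw [pow_succ, pow_succ, pow_succ] at h
      omega
  obtain ⟨K, rfl⟩ := hn2
  obtain ⟨X, hX⟩ : ∃ X : T, X = e.symm (DihedralGroup.r 1) := ⟨_, rfl⟩
  obtain ⟨Y, hY⟩ : ∃ Y : T, Y = e.symm (DihedralGroup.sr 0) := ⟨_, rfl⟩
  have hoX : orderOf (X : G) = 2 * (K + 2) := by
    rw [Subgroup.orderOf_coe, hX, MulEquiv.orderOf_eq, DihedralGroup.orderOf_r_one]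
  have hYY : (Y : G) * (Y : G) = 1 := by
    have : Y * Y = 1 := by
      rw [hY, ← map_mul, DihedralGroup.sr_mul_self, map_one]
    have := congrArg Subtype.val this
    simpa using this
  have hc : (((2 * K + 2 + 1 : ℕ)) : ZMod (2 * (K + 2))) = -1 := by
    rw [eq_neg_iff_add_eq_zero]
    have h := ZMod.natCast_self (2 * (K + 2))
    have : ((2 * K + 2 + 1 : ℕ) : ZMod (2 * (K + 2))) + 1
        = ((2 * (K + 2) : ℕ) : ZMod (2 * (K + 2))) := by
      push_cast; ring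
    rw [this, h]
  have hconj : (Y : G) * (X : G) * (Y : G)⁻¹ = (X : G) ^ (2 * K + 2 + 1) := by
    have : Y * X * Y⁻¹ = X ^ (2 * K + 2 + 1) := by
      rw [hY, hX, ← map_inv, ← map_mul, ← map_mul, ← map_pow]
      congr 1
      rw [DihedralGroup.inv_sr, DihedralGroup.sr_mul_r, DihedralGroup.sr_mul_sr,
        DihedralGroup.r_one_pow, hc]
      congr 1
    have := congrArg Subtype.val this
    simpa using this
  refine ⟨(X : G), (X : G) ^ (K + 2), tdata_of_gens T (X : G) (Y : G) (K + 2) (2 * K + 2)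
    (by omega) X.2 Y.2 hoX (by rw [hcardT]; ring) hYY hconj ⟨K + 1, by ring⟩
    ⟨2, by ring⟩ ?_ ?_⟩
  · intro j hj
    have h1 : 2 * (K + 2) ∣ 2 * ((K + 1) * j) := by
      have : (2 * K + 2) * j = 2 * ((K + 1) * j) := by ring
      rwa [this] at hj
    have h2 : K + 2 ∣ (K + 1) * j := Nat.dvd_of_mul_dvd_mul_left (by norm_num) h1
    have hcop : Nat.Coprime (K + 2) (K + 1) := by
      have : K + 2 = 1 + (K + 1) := by ring
      rw [this]
      simp
    exact hcop.dvd_of_dvd_mul_left h2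
  · intro j _
    exact ⟨j, by ring⟩

theorem tdata_of_quasiDihedral [Finite G] (T : Subgroup G) (hT : Cfsg.IsQuasiDihedral T) :
    ∃ x z : G, TData T x z := by
  obtain ⟨n, hn3, hcard, X, Y, hoX, hoY, hconj⟩ := hT
  obtain ⟨m, rfl⟩ : ∃ m, n = m + 3 := ⟨n - 3, by omega⟩
  obtain ⟨a, ha⟩ : ∃ a : ℕ, a = 2 ^ m := ⟨_, rfl⟩
  have ha1 : 1 ≤ a := by rw [ha]; exact Nat.one_le_two_pow
  have e1 : 2 ^ (m + 3) = 2 * (4 * a) := by rw [ha, pow_succ, pow_succ, pow_succ]; ring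
  have e2 : 2 ^ (m + 3 + 1) = 4 * (4 * a) := by
    rw [ha, pow_succ, pow_succ, pow_succ, pow_succ]; ring
  have e3 : 2 ^ (m + 3 - 1) - 1 = (4 * a - 2) + 1 := by
    have : m + 3 - 1 = m + 2 := by omega
    rw [this, pow_succ, pow_succ, ← ha]
    omega
  have hoX' : orderOf (X : G) = 2 * (4 * a) := by rw [Subgroup.orderOf_coe, hoX, e1]
  have hYY : (Y : G) * (Y : G) = 1 := by
    have : Y ^ 2 = 1 := by rw [← hoY]; exact pow_orderOf_eq_one Y
    have := congrArg Subtype.val this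
    rw [pow_two] at this
    simpa using this
  have hconj' : (Y : G) * (X : G) * (Y : G)⁻¹ = (X : G) ^ ((4 * a - 2) + 1) := by
    have := congrArg Subtype.val hconj
    rw [e3] at this
    simpa using this
  refine ⟨(X : G), (X : G) ^ (4 * a), tdata_of_gens T (X : G) (Y : G) (4 * a) (4 * a - 2)
    (by omega) X.2 Y.2 hoX' (by rw [hcard, e2]) hYY hconj' ⟨2 * a - 1, by omega⟩
    ⟨1, by omega⟩ ?_ ?_⟩
  · intro j hj
    have h0 : (4 * a - 2) * j = 2 * ((2 * a - 1) * j) := by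
      have : 4 * a - 2 = 2 * (2 * a - 1) := by omega
      rw [this]; ring
    rw [h0] at hj
    have h2 : 4 * a ∣ (2 * a - 1) * j := Nat.dvd_of_mul_dvd_mul_left (by norm_num) hj
    have hodd : Odd (2 * a - 1) := ⟨a - 1, by omega⟩
    have hcop : Nat.Coprime (4 * a) (2 * a - 1) := by
      have : 4 * a = 2 ^ (m + 2) := by rw [ha, pow_succ, pow_succ]; ring
      rw [this]
      exact Nat.Coprime.pow_left _ (Nat.coprime_two_left.mpr hodd)
    exact hcop.dvd_of_dvd_mul_left h2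
  · intro j hj
    have h1 : 2 * a ∣ j := by
      have : 4 * (2 * a) ∣ 4 * j := by
        have e : 4 * (2 * a) = 2 * (4 * a) := by ring
        rw [e]; exact hj
      exact Nat.dvd_of_mul_dvd_mul_left (by norm_num) this
    obtain ⟨l, rfl⟩ := h1
    have : 4 * a - 2 + 2 = 4 * a := by omega
    rw [this]
    exact ⟨a * l, by ring⟩

/-- In a group with `TData`, a subgroup `Q ≤ T` on which some element of odd order acts
nontrivially is a quaternion group of order `8`. -/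
theorem q8_of_tdata [Finite G] {T : Subgroup G} {x z : G} (hD : TData T x z)
    (hzc : ∀ g : G, g * z * g⁻¹ = z) (Q : Subgroup G) (hQT : Q ≤ T) (h2 : IsPGroup 2 Q)
    (g : G) (hg : g ∈ Subgroup.normalizer (Q : Set G)) (hodd : (orderOf g).Coprime 2)
    (hnc : ¬ ∀ q ∈ Q, g * q * g⁻¹ = q) : Nonempty (Q ≃* QuaternionGroup 2) := by
  classical
  obtain ⟨C, hC⟩ : ∃ C : Subgroup G, C = Subgroup.zpowers x := ⟨_, rfl⟩
  obtain ⟨B, hB⟩ : ∃ B : Subgroup G, B = Q ⊓ C := ⟨_, rfl⟩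
  have hBQ : B ≤ Q := by rw [hB]; exact inf_le_left
  have hBC : B ≤ C := by rw [hB]; exact inf_le_right
  haveI : IsCyclic C := by rw [hC]; infer_instance
  haveI hBcyc : IsCyclic B := Subgroup.isCyclic_of_le hBC
  have h2B : IsPGroup 2 B := h2.to_le hBQ
  have hidx : ∀ q ∈ Q, ∀ q' ∈ Q, q ∉ B → q' ∉ B → q⁻¹ * q' ∈ B := by
    intro q hq q' hq' hqB hq'B
    have h1 : q ∉ Subgroup.zpowers x := fun h => hqB (by rw [hB]; exact ⟨hq, by rw [hC]; exact h⟩)
    have h1' : q' ∉ Subgroup.zpowers x :=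
      fun h => hq'B (by rw [hB]; exact ⟨hq', by rw [hC]; exact h⟩)
    rw [hB]
    exact ⟨Q.mul_mem (Q.inv_mem hq) hq', by
      rw [hC]; exact hD.idx q (hQT hq) q' (hQT hq') h1 h1'⟩
  have hconjQ : ∀ q ∈ Q, g * q * g⁻¹ ∈ Q :=
    fun q hq => (Subgroup.mem_normalizer_iff.mp hg q).mp hq
  have hgB : g ∉ Subgroup.normalizer (B : Set G) := by
    intro hgB
    have hcB := Cfsg.Agent.Lib.Helper1.QS.centralizes_cyclic_two B hBcyc h2B g hgB hodd
    exact hnc (Cfsg.Agent.Lib.Helper1.QS.centralizes_of_index_two Q B hBQ h2 hidx g hg hgB hcB hodd)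
  obtain ⟨b₀, hb₀⟩ := IsCyclic.exists_generator (α := B)
  have hb₀Q : (b₀ : G) ∈ Q := hBQ b₀.2
  have hBpow : ∀ b ∈ B, ∃ k : ℤ, b = (b₀ : G) ^ k := by
    intro b hb
    obtain ⟨k, hk⟩ := Subgroup.mem_zpowers_iff.mp (hb₀ ⟨b, hb⟩)
    refine ⟨k, ?_⟩
    have := congrArg Subtype.val hk
    rw [Subgroup.coe_zpow] at this
    exact this.symm
  have ht : g * (b₀ : G) * g⁻¹ ∉ B := by
    intro h
    apply hgB
    have hall : ∀ b ∈ B, g * b * g⁻¹ ∈ B := by
      intro b hb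
      obtain ⟨k, rfl⟩ := hBpow b hb
      rw [← conj_zpow]
      exact B.zpow_mem h k
    have hmap : B.map (MulAut.conj g).toMonoidHom = B := by
      apply Subgroup.eq_of_le_of_card_ge
      · rintro _ ⟨b, hb, rfl⟩; exact hall b hb
      · rw [Subgroup.card_map_of_injective (MulAut.conj g).injective]
    rw [Subgroup.mem_normalizer_iff]
    intro n
    constructor
    · exact hall n
    · intro hn
      have hn' : g * n * g⁻¹ ∈ B.map (MulAut.conj g).toMonoidHom := by rw [hmap]; exact hn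
      obtain ⟨b, hb, hbn⟩ := hn'
      have : b = n := by
        have h1 : g * b * g⁻¹ = g * n * g⁻¹ := hbn
        exact mul_left_cancel (mul_right_cancel h1)
      rwa [← this]
  obtain ⟨t, htdef⟩ : ∃ t : G, t = g * (b₀ : G) * g⁻¹ := ⟨_, rfl⟩
  rw [← htdef] at ht
  have htQ : t ∈ Q := by rw [htdef]; exact hconjQ _ hb₀Q
  have htC : t ∉ Subgroup.zpowers x := fun h => ht (by rw [hB]; exact ⟨htQ, by rw [hC]; exact h⟩)
  have hb₀C : (b₀ : G) ∈ Subgroup.zpowers x := by rw [← hC]; exact hBC b₀.2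
  have htt : t * t = 1 ∨ t * t = z := hD.sq t (hQT htQ) htC
  have htt' : t * t = g * ((b₀ : G) ^ 2) * g⁻¹ := by rw [htdef, pow_two]; group
  have hb4 : (b₀ : G) ^ 4 = 1 := by
    have h4 : t ^ 4 = 1 := by
      have : t ^ 4 = (t * t) * (t * t) := by
        rw [show (4 : ℕ) = 2 + 2 from rfl, pow_add, pow_two]
      rw [this]
      rcases htt with h | h <;> rw [h]
      · exact mul_one 1
      · exact hD.z_sq
    have h5 : t ^ 4 = g * (b₀ : G) ^ 4 * g⁻¹ := by rw [htdef, conj_pow]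
    rw [h5] at h4
    have : (b₀ : G) ^ 4 = g⁻¹ * (g * (b₀ : G) ^ 4 * g⁻¹) * g := by group
    rw [this, h4]; group
  have hb2 : (b₀ : G) ^ 2 ≠ 1 := by
    intro h
    apply ht
    rcases hD.invol _ hb₀C h with h1 | h1
    · have : t = 1 := by rw [htdef, h1]; group
      rw [this]; exact B.one_mem
    · have : t = (b₀ : G) := by rw [htdef, h1, hzc g]
      rw [this]; exact b₀.2
  have hbz : (b₀ : G) ^ 2 = z := by
    have hC2 : (b₀ : G) ^ 2 ∈ Subgroup.zpowers x := Subgroup.pow_mem _ hb₀C 2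
    have : ((b₀ : G) ^ 2) ^ 2 = 1 := by rw [← pow_mul]; exact hb4
    rcases hD.invol _ hC2 this with h | h
    · exact absurd h hb2
    · exact h
  have httz : t * t = (b₀ : G) ^ 2 := by
    rw [htt', hbz, hzc g]
  have hinv : t * (b₀ : G) * t⁻¹ = (b₀ : G)⁻¹ := hD.inv t (hQT htQ) htC _ hb₀C hb4
  have hnat : ∀ b ∈ B, ∃ i : ℕ, b = (b₀ : G) ^ i := by
    intro b hb
    obtain ⟨k, rfl⟩ := hBpow b hb
    refine ⟨(k % (orderOf (b₀ : G) : ℤ)).toNat, ?_⟩
    have hn : (0 : ℤ) ≤ k % (orderOf (b₀ : G) : ℤ) :=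
      Int.emod_nonneg _ (by exact_mod_cast (orderOf_pos (b₀ : G)).ne')
    rw [← zpow_natCast, Int.toNat_of_nonneg hn, zpow_mod_orderOf]
  have hgen : ∀ q ∈ Q, ∃ i : ℕ, q = (b₀ : G) ^ i ∨ q = t * (b₀ : G) ^ i := by
    intro q hq
    by_cases hqB : q ∈ B
    · obtain ⟨i, hi⟩ := hnat q hqB; exact ⟨i, Or.inl hi⟩
    · obtain ⟨i, hi⟩ := hnat _ (hidx t htQ q hq ht hqB)
      exact ⟨i, Or.inr (by rw [← hi]; group)⟩
  obtain ⟨e, -, -⟩ := Cfsg.Agent.Lib.Helper1.QS.exists_quat_equiv Q (b₀ : G) t hb₀Q htQ hb4 hb2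
    httz hinv hgen
  exact ⟨e.symm⟩

end Cfsg.Agent.Lib.Helper2.MaxCycTwo
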