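import Mathlib

set_option autoImplicit false
set_option maxHeartbeats 1000000
set_option linter.unusedVariables false
set_option linter.unusedSectionVars false
set_option linter.style.longLine false
set_option linter.unusedSimpArgs false
set_option linter.deprecated false
set_option linter.style.haveILetI false

/-!
# Transvection calculus for McLaughlin's theorem (S5075)

`In G v f` : the transvection `x ↦ x + f x • v` lies in the subgroup `G`.
-/

namespace Cfsg.Agent.Lib.Helper2.Mcl

open Module LinearMap

variable {K : Type*} [Field K] {V : Type*} [AddCommGroup V] [Module K V]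

/-- The transvection `x ↦ x + f x • v` belongs to `G`. -/
def In (G : Subgroup (V ≃ₗ[K] V)) (v : V) (f : Dual K V) : Prop :=
  ∃ h : f v = 0, LinearEquiv.transvection h ∈ G

variable {G : Subgroup (V ≃ₗ[K] V)}

theorem tv_apply {f : Dual K V} {v : V} (h : f v = 0) (x : V) :
    LinearEquiv.transvection h x = x + f x • v := rfl

theorem In.inc {v : V} {f : Dual K V} (h : In G v f) : f v = 0 := h.1

theorem In.mem {v : V} {f : Dual K V} (h : In G v f) : LinearEquiv.transvection h.inc ∈ G := h.2

theorem in_of_eq {v : V} {f : Dual K V} (hfv : f v = 0) {g : V ≃ₗ[K] V} (hg : g ∈ G)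
    (h : ∀ x, g x = x + f x • v) : In G v f := by
  refine ⟨hfv, ?_⟩
  have : LinearEquiv.transvection hfv = g := by
    ext x
    rw [tv_apply, h]
  rw [this]; exact hg

theorem in_zero_left (f : Dual K V) : In G 0 f :=
  in_of_eq (map_zero f) G.one_mem (fun x => by simp)

theorem in_zero_right (v : V) : In G v 0 :=
  in_of_eq (by simp) G.one_mem (fun x => by simp)

theorem In.add_right {v : V} {f f' : Dual K V} (h : In G v f) (h' : In G v f') :
    In G v (f + f') := by
  refine in_of_eq (by simp [h.inc, h'.inc]) (G.mul_mem h.mem h'.mem) (fun x => ?_)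
  rw [LinearEquiv.mul_apply, tv_apply, tv_apply]
  simp only [map_add, map_smul, h.inc, smul_eq_mul, mul_zero, add_zero, LinearMap.add_apply]
  module

theorem In.add_left {v v' : V} {f : Dual K V} (h : In G v f) (h' : In G v' f) :
    In G (v + v') f := by
  refine in_of_eq (by simp [h.inc, h'.inc]) (G.mul_mem h.mem h'.mem) (fun x => ?_)
  rw [LinearEquiv.mul_apply, tv_apply, tv_apply]
  simp only [map_add, map_smul, h.inc, h'.inc, smul_eq_mul, mul_zero, add_zero]
  module

theorem In.neg_right {v : V} {f : Dual K V} (h : In G v f) : In G v (-f) := by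
  have h2 : (-f) v = 0 := by simp [h.inc]
  refine ⟨h2, ?_⟩
  have : LinearEquiv.transvection h2 = (LinearEquiv.transvection h.inc)⁻¹ := by
    rw [LinearEquiv.transvection.inv_eq' h.inc h2]
  rw [this]; exact G.inv_mem h.mem

theorem In.neg_left {v : V} {f : Dual K V} (h : In G v f) : In G (-v) f := by
  have h2 : f (-v) = 0 := by simp [h.inc]
  refine ⟨h2, ?_⟩
  have : LinearEquiv.transvection h2 = (LinearEquiv.transvection h.inc)⁻¹ := by
    rw [LinearEquiv.transvection.inv_eq h.inc h2]
  rw [this]; exact G.inv_mem h.mem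

theorem In.sub_right {v : V} {f f' : Dual K V} (h : In G v f) (h' : In G v f') :
    In G v (f - f') := by
  rw [sub_eq_add_neg]; exact h.add_right h'.neg_right

theorem In.sub_left {v v' : V} {f : Dual K V} (h : In G v f) (h' : In G v' f) :
    In G (v - v') f := by
  rw [sub_eq_add_neg]; exact h.add_left h'.neg_left

theorem in_smul_swap {v : V} {f : Dual K V} {c : K} : In G (c • v) f ↔ In G v (c • f) := by
  constructor
  · intro h
    have h0 := h.inc
    refine in_of_eq (by simpa [mul_comm] using h0) h.mem (fun x => ?_)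
    rw [tv_apply]; simp only [LinearMap.smul_apply, smul_eq_mul]; module
  · intro h
    have h0 := h.inc
    refine in_of_eq (by simpa [mul_comm] using h0) h.mem (fun x => ?_)
    rw [tv_apply]; simp only [LinearMap.smul_apply, smul_eq_mul]; module

/-- Conjugation. -/
theorem In.conj {v : V} {f : Dual K V} (h : In G v f) {g : V ≃ₗ[K] V} (hg : g ∈ G) :
    In G (g v) (f ∘ₗ (g.symm : V →ₗ[K] V)) := by
  refine in_of_eq (by simp [h.inc]) (G.mul_mem (G.mul_mem hg h.mem) (G.inv_mem hg)) (fun x => ?_)
  rw [LinearEquiv.mul_apply, LinearEquiv.mul_apply, tv_apply]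
  simp only [map_add, map_smul, LinearMap.comp_apply, LinearEquiv.coe_coe]
  have : g (g⁻¹ x) = x := by
    show g (g.symm x) = x
    simp
  rw [this]
  rfl

/-- Conjugating the transvection `(w, ψ)` by the transvection `(u, φ)`. -/
theorem In.conjT {u w : V} {φ ψ : Dual K V} (h : In G u φ) (h' : In G w ψ) :
    In G (w + φ w • u) (ψ - ψ u • φ) := by
  have := h'.conj h.mem
  rw [tv_apply] at this
  have e : ψ ∘ₗ ((LinearEquiv.transvection h.inc).symm : V →ₗ[K] V) = ψ - ψ u • φ := by
    ext x
    have h2 : φ (-u) = 0 := by simp [h.inc]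
    rw [LinearEquiv.transvection.symm_eq h.inc h2]
    simp only [LinearMap.comp_apply, LinearEquiv.coe_coe, tv_apply, map_add, map_smul, map_neg,
      smul_eq_mul, LinearMap.sub_apply, LinearMap.smul_apply]
    ring
  rw [e] at this
  exact this

/-- The commutator rule (R1). -/
theorem In.comm {u w : V} {φ ψ : Dual K V} (h : In G u φ) (h' : In G w ψ) (hψu : ψ u = 0) :
    In G u (φ w • ψ) := by
  have h1 := h.conjT h'
  -- (w + φ w • u, ψ) ∈ E since ψ u = 0
  rw [hψu, zero_smul, sub_zero] at h1
  have h2 := h1.sub_left h'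
  rw [add_sub_cancel_left] at h2
  exact in_smul_swap.mp h2

/-- `G` contains full root subgroups. -/
def Full (G : Subgroup (V ≃ₗ[K] V)) : Prop :=
  ∀ (v : V) (f : Dual K V), In G v f → ∀ c : K, In G v (c • f)

theorem Full.smul_right (hF : Full G) {v : V} {f : Dual K V} (h : In G v f) (c : K) :
    In G v (c • f) := hF v f h c

theorem Full.smul_left (hF : Full G) {v : V} {f : Dual K V} (h : In G v f) (c : K) :
    In G (c • v) f := in_smul_swap.mpr (hF v f h c)

theorem Full.of_smul_right (hF : Full G) {v : V} {f : Dual K V} {c : K} (hc : c ≠ 0)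
    (h : In G v (c • f)) : In G v f := by
  have := hF.smul_right h c⁻¹
  rwa [smul_smul, inv_mul_cancel₀ hc, one_smul] at this

theorem Full.of_smul_left (hF : Full G) {v : V} {f : Dual K V} {c : K} (hc : c ≠ 0)
    (h : In G (c • v) f) : In G v f :=
  hF.of_smul_right hc (in_smul_swap.mp h)

/-- (R1) with the scalar removed. -/
theorem Full.comm (hF : Full G) {u w : V} {φ ψ : Dual K V} (h : In G u φ) (h' : In G w ψ)
    (hψu : ψ u = 0) (hφw : φ w ≠ 0) : In G u ψ :=
  hF.of_smul_right hφw (h.comm h' hψu)

/-- conjugation by the transvection `(u, c • φ)`. -/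
theorem Full.conjT (hF : Full G) {u w : V} {φ ψ : Dual K V} (h : In G u φ) (h' : In G w ψ) (c : K) :
    In G (w + (c * φ w) • u) (ψ - (c * ψ u) • φ) := by
  have := (hF.smul_right h c).conjT h'
  simp only [LinearMap.smul_apply, smul_eq_mul, smul_smul] at this
  convert this using 2
  rw [mul_comm]

theorem full_zmod {p : ℕ} [Fact p.Prime] {V : Type*} [AddCommGroup V] [Module (ZMod p) V]
    (G : Subgroup (V ≃ₗ[ZMod p] V)) : Full G := by
  intro v f h c
  have key : ∀ n : ℕ, In G v ((n : ZMod p) • f) := by
    intro n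
    induction n with
    | zero => simpa using in_zero_right v
    | succ n ih =>
      have := ih.add_right h
      convert this using 1
      push_cast
      rw [add_smul, one_smul]
  have := key c.val
  rwa [ZMod.natCast_zmod_val] at this

/-- The "Heisenberg" rule (R3): a commutator of two products of commuting transvections. -/
theorem In.r3 {y y' z : V} {β β' ζ : Dual K V}
    (h1 : In G (y + z) (β + ζ)) (h2 : In G y β) (h3 : In G (y' + z) (β' + ζ)) (h4 : In G y' β')
    (hζy : ζ y = 0) (hζy' : ζ y' = 0) (hζz : ζ z = 0) (hβz : β z = 0) (hβ'z : β' z = 0) :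
    In G z ((β y' - β' y) • ζ) := by
  have hβy := h2.inc
  have hβ'y' := h4.inc
  have h2n := h2.neg_right
  have h4n := h4.neg_right
  have hc : ((β y' - β' y) • ζ) z = 0 := by simp [hζz]
  set a := LinearEquiv.transvection h1.inc * LinearEquiv.transvection h2n.inc with ha
  set b := LinearEquiv.transvection h3.inc * LinearEquiv.transvection h4n.inc with hb
  have haG : a ∈ G := G.mul_mem h1.mem h2n.mem
  have hbG : b ∈ G := G.mul_mem h3.mem h4n.mem
  have key : a * b = LinearEquiv.transvection hc * b * a := by
    ext x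
    simp only [ha, hb, LinearEquiv.mul_apply, tv_apply, map_add, map_sub, map_smul, map_neg,
      LinearMap.add_apply, LinearMap.neg_apply, LinearMap.smul_apply, LinearMap.sub_apply,
      smul_eq_mul, hζy, hζy', hζz, hβz, hβ'z, hβy, hβ'y', mul_zero, add_zero, zero_add, neg_zero,
      sub_zero, zero_mul]
    module
  have : LinearEquiv.transvection hc = a * b * a⁻¹ * b⁻¹ := by
    rw [key]; group
  refine ⟨hc, ?_⟩
  rw [this]
  exact G.mul_mem (G.mul_mem (G.mul_mem haG hbG) (G.inv_mem haG)) (G.inv_mem hbG)

/-- `G` is generated by the transvections it contains. -/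
def GenT (G : Subgroup (V ≃ₗ[K] V)) : Prop :=
  G ≤ Subgroup.closure {g | g ∈ G ∧ ∃ (v : V) (f : Dual K V) (h : f v = 0),
    g = LinearEquiv.transvection h}

theorem GenT.induction (hG : GenT G) {P : (V ≃ₗ[K] V) → Prop} (h1 : P 1)
    (hmul : ∀ a b, P a → P b → P (a * b))
    (htv : ∀ (v : V) (f : Dual K V) (h : In G v f), P (LinearEquiv.transvection h.inc)) :
    ∀ g ∈ G, P g := by
  intro g hg
  have hg' := hG hg
  clear hg
  induction hg' using Subgroup.closure_induction'' with
  | mem x hx =>
    obtain ⟨hxG, v, f, h, rfl⟩ := hx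
    exact htv v f ⟨h, hxG⟩
  | inv_mem x hx =>
    obtain ⟨hxG, v, f, h, rfl⟩ := hx
    have hin : In G v f := ⟨h, hxG⟩
    have h2 : (-f) v = 0 := by simp [h]
    rw [LinearEquiv.transvection.inv_eq' h h2]
    exact htv v (-f) hin.neg_right
  | one => exact h1
  | mul x y _ _ hx hy => exact hmul x y hx hy

/-- A subspace invariant under all transvections of `G` is `G`-invariant. -/
theorem GenT.map_mem (hG : GenT G) {S : Submodule K V}
    (hS : ∀ (v : V) (f : Dual K V), In G v f → ∀ x ∈ S, f x • v ∈ S) :
    ∀ g ∈ G, ∀ x ∈ S, g x ∈ S := by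
  refine hG.induction (P := fun g => ∀ x ∈ S, g x ∈ S) (fun x hx => hx) ?_ ?_
  · intro a b ha hb x hx
    exact ha _ (hb x hx)
  · intro v f h x hx
    rw [tv_apply]
    exact S.add_mem hx (hS v f h x hx)

/-- A vector killed by all axes is fixed by `G`. -/
theorem GenT.fix_of (hG : GenT G) {x : V}
    (hx : ∀ (v : V) (f : Dual K V), In G v f → v ≠ 0 → f x = 0) : ∀ g ∈ G, g x = x := by
  refine hG.induction (P := fun g => g x = x) rfl ?_ ?_
  · intro a b ha hb
    rw [LinearEquiv.mul_apply, hb, ha]
  · intro v f h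
    rw [tv_apply]
    by_cases hv : v = 0
    · simp [hv]
    · simp [hx v f h hv]

end Cfsg.Agent.Lib.Helper2.Mcl
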