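import Cfsg.Agent.Lib.Helper2.MclA

set_option autoImplicit false
set_option maxHeartbeats 1000000
set_option linter.unusedVariables false
set_option linter.unusedSectionVars false
set_option linter.style.longLine false
set_option linter.unusedSimpArgs false
set_option linter.deprecated false
set_option linter.style.haveILetI false

/-!
# McLaughlin's theorem (S5075): configurations and linear algebra helpers
-/

namespace Cfsg.Agent.Lib.Helper2.Mcl

open Module LinearMap

variable {K : Type*} [Field K] {V : Type*} [AddCommGroup V] [Module K V]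

/-! ### linear algebra helpers -/

theorem exists_dual_sep (S : Submodule K V) {x : V} (hx : x ∉ S) :
    ∃ f : Dual K V, (∀ s ∈ S, f s = 0) ∧ f x = 1 := by
  obtain ⟨f, hfx, hf⟩ := Submodule.exists_dual_map_eq_bot_of_notMem hx inferInstance
  refine ⟨(f x)⁻¹ • f, ?_, ?_⟩
  · intro s hs
    have h1 : f s = 0 := by
      have := (LinearMap.le_ker_iff_map.mpr hf) hs
      simpa using this
    simp [h1]
  · simp [hfx]

theorem exists_smul_of_ker (f g : Dual K V) (h : ∀ x, f x = 0 → g x = 0) : ∃ c : K, g = c • f := by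
  by_cases hf : f = 0
  · refine ⟨0, ?_⟩
    ext x
    simp [h x (by simp [hf])]
  · obtain ⟨x1, hx1⟩ : ∃ x1, f x1 ≠ 0 := by
      by_contra hcon
      push_neg at hcon
      exact hf (LinearMap.ext hcon)
    refine ⟨g x1 / f x1, ?_⟩
    ext x
    have h0 : f (x - (f x / f x1) • x1) = 0 := by
      simp only [map_sub, map_smul, smul_eq_mul]
      field_simp
      ring
    have h1 := h _ h0
    simp only [map_sub, map_smul, smul_eq_mul] at h1
    simp only [LinearMap.smul_apply, smul_eq_mul]
    field_simp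
    field_simp at h1
    linear_combination h1

theorem ne_zero_of_apply_ne {f : Dual K V} {x : V} (h : f x ≠ 0) : f ≠ 0 := by
  rintro rfl; simp at h

theorem ne_zero_of_apply_ne' {f : Dual K V} {x : V} (h : f x ≠ 0) : x ≠ 0 := by
  rintro rfl; simp at h

theorem exists_apply_ne {f : Dual K V} (h : f ≠ 0) : ∃ x, f x ≠ 0 := by
  by_contra hcon
  push_neg at hcon
  exact h (LinearMap.ext hcon)

/-! ### splitting along complementary subspaces -/

section Split

variable {U W : Submodule K V}

/-- projection onto `U` along `W` -/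
noncomputable def pL (hc : IsCompl U W) : V →ₗ[K] V := U.projection W hc

/-- projection onto `W` along `U` -/
noncomputable def pR (hc : IsCompl U W) : V →ₗ[K] V := W.projection U hc.symm

theorem pL_mem (hc : IsCompl U W) (x : V) : pL hc x ∈ U := Submodule.projection_apply_mem hc x

theorem pR_mem (hc : IsCompl U W) (x : V) : pR hc x ∈ W := Submodule.projection_apply_mem hc.symm x

theorem pL_add_pR (hc : IsCompl U W) (x : V) : pL hc x + pR hc x = x :=
  Submodule.projection_add_projection_eq_self hc x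

theorem pL_of_mem (hc : IsCompl U W) {x : V} (hx : x ∈ U) : pL hc x = x :=
  Submodule.projection_apply_of_mem_left hc hx

theorem pL_of_mem' (hc : IsCompl U W) {x : V} (hx : x ∈ W) : pL hc x = 0 :=
  (Submodule.projection_apply_eq_zero_iff hc).mpr hx

theorem pR_of_mem (hc : IsCompl U W) {x : V} (hx : x ∈ W) : pR hc x = x :=
  Submodule.projection_apply_of_mem_left hc.symm hx

theorem pR_of_mem' (hc : IsCompl U W) {x : V} (hx : x ∈ U) : pR hc x = 0 :=
  (Submodule.projection_apply_eq_zero_iff hc.symm).mpr hx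

theorem inter_eq_zero (hc : IsCompl U W) {x : V} (hx : x ∈ U) (hx' : x ∈ W) : x = 0 :=
  Submodule.disjoint_def.mp hc.disjoint x hx hx'

theorem comp_pL_add_comp_pR (hc : IsCompl U W) (φ : Dual K V) :
    φ ∘ₗ pL hc + φ ∘ₗ pR hc = φ := by
  ext x
  simp only [LinearMap.add_apply, LinearMap.comp_apply, ← map_add, pL_add_pR]

end Split

/-! ### symplectic configurations -/

/-- A symplectic configuration: an alternating form `fl` on `V` with radical `ker fl`, a complement `U`
of the radical, such that all symplectic transvections of `U` lie in `G`. -/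
structure SpCfg (G : Subgroup (V ≃ₗ[K] V)) (fl : V →ₗ[K] Dual K V) (U : Submodule K V) : Prop where
  alt : ∀ x, fl x x = 0
  compl : IsCompl U (LinearMap.ker fl)
  mem : ∀ u ∈ U, In G u (fl u)

theorem skew_of_alt {fl : V →ₗ[K] Dual K V} (halt : ∀ x, fl x x = 0) (x y : V) :
    fl x y = - fl y x := by
  have := halt (x + y)
  simp only [map_add, LinearMap.add_apply, halt, zero_add, add_zero] at this
  linear_combination this

variable {G : Subgroup (V ≃ₗ[K] V)} {fl : V →ₗ[K] Dual K V} {U : Submodule K V}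

theorem SpCfg.skew (h : SpCfg G fl U) (x y : V) : fl x y = - fl y x := skew_of_alt h.alt x y

theorem SpCfg.rad_left (h : SpCfg G fl U) {w : V} (hw : w ∈ LinearMap.ker fl) (x : V) :
    fl w x = 0 := by
  rw [LinearMap.mem_ker] at hw
  rw [hw]; rfl

theorem SpCfg.rad_right (h : SpCfg G fl U) {w : V} (hw : w ∈ LinearMap.ker fl) (x : V) :
    fl x w = 0 := by
  rw [h.skew, h.rad_left hw, neg_zero]

theorem SpCfg.apply_pL (h : SpCfg G fl U) (x y : V) : fl x (pL h.compl y) = fl x y := by
  conv_rhs => rw [← pL_add_pR h.compl y]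
  rw [map_add, h.rad_right (pR_mem h.compl y), add_zero]

theorem SpCfg.nondeg (h : SpCfg G fl U) {u : V} (hu : u ∈ U) (h0 : ∀ u' ∈ U, fl u u' = 0) :
    u = 0 := by
  apply inter_eq_zero h.compl hu
  rw [LinearMap.mem_ker]
  ext x
  rw [← h.apply_pL, h0 _ (pL_mem h.compl x)]
  rfl

theorem SpCfg.exists_ne (h : SpCfg G fl U) {u : V} (hu : u ∈ U) (hne : u ≠ 0) :
    ∃ u' ∈ U, fl u u' ≠ 0 := by
  by_contra hcon
  push_neg at hcon
  exact hne (h.nondeg hu hcon)

theorem SpCfg.inj (h : SpCfg G fl U) {a b : V} (ha : a ∈ U) (hb : b ∈ U) (hab : fl a = fl b) :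
    a = b := by
  have : a - b = 0 := by
    apply h.nondeg (U.sub_mem ha hb)
    intro u' _
    rw [map_sub, hab, sub_self]; rfl
  exact sub_eq_zero.mp this

theorem SpCfg.prop (h : SpCfg G fl U) {a b : V} (ha : a ∈ U) (hb : b ∈ U)
    (hk : ∀ u ∈ U, fl a u = 0 → fl b u = 0) : ∃ c : K, b = c • a := by
  obtain ⟨c, hc⟩ := exists_smul_of_ker (fl a) (fl b) (by
    intro x hx
    rw [← h.apply_pL] at hx ⊢
    exact hk _ (pL_mem h.compl x) hx)
  refine ⟨c, ?_⟩
  apply h.inj hb (U.smul_mem c ha)
  rw [hc, map_smul]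

theorem SpCfg.surj [FiniteDimensional K V] (h : SpCfg G fl U) (ψ : Dual K V)
    (hψ : ∀ w ∈ LinearMap.ker fl, ψ w = 0) : ∃ y ∈ U, fl y = ψ := by
  let T : U →ₗ[K] Dual K U :=
    { toFun := fun u => (fl (u : V)) ∘ₗ U.subtype
      map_add' := by intro a b; ext x; simp
      map_smul' := by intro c a; ext x; simp }
  have hinj : Function.Injective T := by
    rw [← LinearMap.ker_eq_bot, LinearMap.ker_eq_bot']
    intro u hu
    have : (u : V) = 0 := by
      apply h.nondeg u.2
      intro u' hu'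
      have := LinearMap.congr_fun hu ⟨u', hu'⟩
      simpa [T] using this
    exact Subtype.ext this
  have hsurj : Function.Surjective T :=
    (LinearMap.injective_iff_surjective_of_finrank_eq_finrank
      (Subspace.dual_finrank_eq (K := K) (V := U)).symm).mp hinj
  obtain ⟨u, hu⟩ := hsurj (ψ ∘ₗ U.subtype)
  refine ⟨u, u.2, ?_⟩
  ext x
  rw [← h.apply_pL]
  have := LinearMap.congr_fun hu ⟨pL h.compl x, pL_mem h.compl x⟩
  simp only [T, LinearMap.coe_mk, AddHom.coe_mk, LinearMap.comp_apply, Submodule.subtype_apply] at this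
  rw [this]
  conv_rhs => rw [← pL_add_pR h.compl x]
  rw [map_add, hψ _ (pR_mem h.compl x), add_zero]

/-- The basic move: conjugating the symplectic transvection at `y` by the one at `y'`. -/
theorem move (hF : Full G) {fl : V →ₗ[K] Dual K V} (halt : ∀ x, fl x x = 0) {y y' : V}
    (h : In G y (fl y)) (h' : In G y' (fl y')) (c : K) :
    In G (y + (c * fl y' y) • y') (fl (y + (c * fl y' y) • y')) := by
  have := hF.conjT h' h c
  convert this using 1
  rw [map_add, map_smul, skew_of_alt halt y y']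
  module

/-- Orbit lemma: a property of vectors of `U` invariant under symplectic transvections is constant
on nonzero vectors (general form: `fl` alternating and nondegenerate on `U`). -/
theorem orbit_of_nondeg {fl : V →ₗ[K] Dual K V} (halt : ∀ x, fl x x = 0) (U : Submodule K V)
    (hnd : ∀ u ∈ U, u ≠ 0 → ∃ u' ∈ U, fl u u' ≠ 0) (P : V → Prop)
    (hP : ∀ y ∈ U, ∀ u' ∈ U, ∀ c : K, P y → P (y + (c * fl u' y) • u')) :
    ∀ y1 ∈ U, ∀ y2 ∈ U, y1 ≠ 0 → y2 ≠ 0 → P y1 → P y2 := by
  have step : ∀ y1 ∈ U, ∀ y2 ∈ U, fl y1 y2 ≠ 0 → P y1 → P y2 := by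
    intro y1 h1 y2 h2 hne hP1
    have h21 : fl (y2 - y1) y1 ≠ 0 := by
      rw [map_sub, LinearMap.sub_apply, halt, sub_zero, skew_of_alt halt]
      simpa using hne
    have := hP y1 h1 (y2 - y1) (U.sub_mem h2 h1) (fl (y2 - y1) y1)⁻¹ hP1
    rw [inv_mul_cancel₀ h21, one_smul] at this
    simpa using this
  intro y1 h1 y2 h2 hne1 hne2 hP1
  by_cases h12 : fl y1 y2 = 0
  · obtain ⟨a, ha, hya⟩ := hnd y1 h1 hne1
    obtain ⟨b, hb, hyb⟩ := hnd y2 h2 hne2
    obtain ⟨y3, h3, h13, h23⟩ : ∃ y3 ∈ U, fl y1 y3 ≠ 0 ∧ fl y2 y3 ≠ 0 := by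
      by_cases h2a : fl y2 a = 0
      · by_cases h1b : fl y1 b = 0
        · refine ⟨a + b, U.add_mem ha hb, ?_, ?_⟩
          · rw [map_add, h1b, add_zero]; exact hya
          · rw [map_add, h2a, zero_add]; exact hyb
        · exact ⟨b, hb, h1b, hyb⟩
      · exact ⟨a, ha, hya, h2a⟩
    have hP3 := step y1 h1 y3 h3 h13 hP1
    refine step y3 h3 y2 h2 ?_ hP3
    rw [skew_of_alt halt]; simpa using h23
  · exact step y1 h1 y2 h2 h12 hP1

theorem SpCfg.orbit (h : SpCfg G fl U) (P : V → Prop)
    (hP : ∀ y ∈ U, ∀ u' ∈ U, ∀ c : K, P y → P (y + (c * fl u' y) • u')) :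
    ∀ y1 ∈ U, ∀ y2 ∈ U, y1 ≠ 0 → y2 ≠ 0 → P y1 → P y2 :=
  orbit_of_nondeg h.alt U (fun u hu hne => h.exists_ne hu hne) P hP

/-- Spanning by the complement of a hyperplane. -/
theorem forall_of_nonvanishing {U : Submodule K V} (g : Dual K V) {y0 : V} (hy0 : y0 ∈ U)
    (hg : g y0 ≠ 0) (Q : V → Prop) (hsub : ∀ a b, Q a → Q b → Q (a - b))
    (hQ : ∀ y ∈ U, g y ≠ 0 → Q y) : ∀ y ∈ U, Q y := by
  intro y hy
  by_cases hgy : g y = 0
  · have h1 : Q (y + y0) := hQ _ (U.add_mem hy hy0) (by rw [map_add, hgy, zero_add]; exact hg)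
    have h2 : Q y0 := hQ _ hy0 hg
    have := hsub _ _ h1 h2
    simpa using this
  · exact hQ y hy hgy

/-! ### linear configurations -/

/-- A linear configuration: `V = U ⊕ W` and all transvections with centre in `U` and axis containing `W`
lie in `G`. -/
structure SLCfg (G : Subgroup (V ≃ₗ[K] V)) (U W : Submodule K V) : Prop where
  compl : IsCompl U W
  mem : ∀ u ∈ U, ∀ ψ : Dual K V, (∀ w ∈ W, ψ w = 0) → ψ u = 0 → In G u ψ
  three : 3 ≤ finrank K U

/-! ### the radical and the span of centres -/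

/-- The common kernel of all axes. -/
def Rad (G : Subgroup (V ≃ₗ[K] V)) : Submodule K V where
  carrier := {x | ∀ (v : V) (f : Dual K V), In G v f → v ≠ 0 → f x = 0}
  add_mem' := by
    intro a b ha hb v f h hv
    rw [map_add, ha v f h hv, hb v f h hv, add_zero]
  zero_mem' := by
    intro v f h hv
    exact map_zero f
  smul_mem' := by
    intro c a ha v f h hv
    rw [map_smul, ha v f h hv, smul_zero]

theorem mem_Rad {x : V} : x ∈ Rad G ↔ ∀ (v : V) (f : Dual K V), In G v f → v ≠ 0 → f x = 0 :=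
  Iff.rfl

/-- The span of all centres. -/
def Cen (G : Subgroup (V ≃ₗ[K] V)) : Submodule K V :=
  Submodule.span K {v | ∃ f : Dual K V, f ≠ 0 ∧ In G v f}

theorem mem_Cen_of_in {v : V} {f : Dual K V} (h : In G v f) (hf : f ≠ 0) : v ∈ Cen G :=
  Submodule.subset_span ⟨f, hf, h⟩

theorem Cen_le {S : Submodule K V} (h : ∀ (v : V) (f : Dual K V), In G v f → f ≠ 0 → v ∈ S) :
    Cen G ≤ S := by
  apply Submodule.span_le.mpr
  rintro v ⟨f, hf, hin⟩
  exact h v f hin hf

/-- The hypotheses of the relative theorem. -/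
structure Rel (G : Subgroup (V ≃ₗ[K] V)) : Prop where
  full : Full G
  two : (2 : K) ≠ 0
  ri : ∀ S : Submodule K V, (∀ (v : V) (f : Dual K V), In G v f → ∀ x ∈ S, f x • v ∈ S) →
    S ≤ Rad G ∨ Cen G ≤ S
  nc1 : ∀ (v : V) (f : Dual K V), In G v f → v ≠ 0 → f ≠ 0 → v ∉ Rad G
  nc2 : ∀ (v : V) (f : Dual K V), In G v f → v ≠ 0 → f ≠ 0 →
    ∃ (v' : V) (f' : Dual K V), In G v' f' ∧ f' ≠ 0 ∧ f v' ≠ 0

/-- The axes of a given centre. -/
def Axes (hF : Full G) (u : V) : Submodule K (Dual K V) where
  carrier := {φ | In G u φ}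
  add_mem' := fun ha hb => ha.add_right hb
  zero_mem' := in_zero_right u
  smul_mem' := fun c _ ha => hF.smul_right ha c

/-- Base case: a pair of transvections in general position exists. -/
theorem Rel.exists_pair [FiniteDimensional K V] (hR : Rel G)
    (hne : ∃ (v : V) (f : Dual K V), In G v f ∧ v ≠ 0 ∧ f ≠ 0) :
    ∃ (u w : V) (φ ψ : Dual K V), In G u φ ∧ In G w ψ ∧ ψ u ≠ 0 ∧ φ w ≠ 0 := by
  by_contra hcon
  push_neg at hcon
  have hF := hR.full
  have key : ∀ n : ℕ, ∀ u : V, u ≠ 0 → finrank K (Axes hF u) = n →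
      ∀ φ : Dual K V, In G u φ → φ = 0 := by
    intro n
    induction n using Nat.strong_induction_on with
    | _ n ih =>
      intro u hu hn φ hφ
      by_contra hφ0
      obtain ⟨w, ψ, hwψ, hψ0, hφw⟩ := hR.nc2 u φ hφ hu hφ0
      have hw : w ≠ 0 := ne_zero_of_apply_ne' hφw
      have hlt : Axes hF w < Axes hF u := by
        refine lt_of_le_of_ne ?_ ?_
        · intro ψ' hψ'
          have hψ'u : ψ' u = 0 := by
            by_contra hne'
            exact hφw (hcon u w φ ψ' hφ hψ' hne')
          exact hF.comm hφ hψ' hψ'u hφw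
        · intro heq
          have : φ ∈ Axes hF w := by rw [heq]; exact hφ
          exact hφw (In.inc this)
      have hlt' := Submodule.finrank_lt_finrank_of_lt hlt
      exact hψ0 (ih _ (hn ▸ hlt') w hw rfl ψ hwψ)
  obtain ⟨v, f, hin, hv, hf⟩ := hne
  exact hf (key _ v hv rfl f hin)

/-- The alternating form attached to a pair in general position. -/
noncomputable def pairForm (φ ψ : Dual K V) : V →ₗ[K] Dual K V :=
  { toFun := fun y => φ y • ψ - ψ y • φ
    map_add' := by intro a b; simp only [map_add, add_smul]; abel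
    map_smul' := by intro c a; simp only [map_smul, smul_eq_mul, RingHom.id_apply, smul_sub, smul_smul] }

theorem pairForm_apply (φ ψ : Dual K V) (y x : V) :
    pairForm φ ψ y x = φ y * ψ x - ψ y * φ x := by
  simp [pairForm]

/-- Base configuration. -/
theorem Rel.base_cfg (hR : Rel G) {u w : V} {φ ψ : Dual K V} (h1 : In G u φ) (h2 : In G w ψ)
    (hψu : ψ u = -1) (hφw : φ w = 1) :
    SpCfg G (pairForm φ ψ) (Submodule.span K {u, w}) := by
  have hF := hR.full
  have hφu := h1.inc
  have hψw := h2.inc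
  have halt : ∀ x, pairForm φ ψ x x = 0 := by
    intro x; rw [pairForm_apply]; ring
  have hu : pairForm φ ψ u = φ := by
    ext x; rw [pairForm_apply, hφu, hψu]; ring
  have hw : pairForm φ ψ w = ψ := by
    ext x; rw [pairForm_apply, hφw, hψw]; ring
  have hku : In G u (pairForm φ ψ u) := by rw [hu]; exact h1
  have hkw : In G w (pairForm φ ψ w) := by rw [hw]; exact h2
  refine ⟨halt, ⟨?_, ?_⟩, ?_⟩
  · rw [Submodule.disjoint_def]
    intro x hx hx'
    obtain ⟨a, b, rfl⟩ := Submodule.mem_span_pair.mp hx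
    rw [LinearMap.mem_ker, map_add, map_smul, map_smul, hu, hw] at hx'
    have e1 := LinearMap.congr_fun hx' u
    have e2 := LinearMap.congr_fun hx' w
    simp only [LinearMap.add_apply, LinearMap.smul_apply, smul_eq_mul, hφu, hψu, hφw, hψw,
      LinearMap.zero_apply, mul_zero, mul_one, add_zero, zero_add, zero_mul, sub_zero] at e1 e2
    have hb : b = 0 := by linear_combination (-1 : K) * e1
    have ha : a = 0 := by linear_combination e2
    rw [ha, hb]; simp
  · rw [Submodule.codisjoint_iff_exists_add_eq]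
    intro z
    refine ⟨(-ψ z) • u + (φ z) • w, z - ((-ψ z) • u + (φ z) • w),
      Submodule.mem_span_pair.mpr ⟨_, _, rfl⟩, ?_, by abel⟩
    rw [LinearMap.mem_ker, map_sub, map_add, map_smul, map_smul, hu, hw]
    ext x
    simp only [pairForm_apply, LinearMap.sub_apply, LinearMap.add_apply, LinearMap.smul_apply,
      smul_eq_mul, LinearMap.zero_apply]
    ring
  · intro y hy
    obtain ⟨a, b, rfl⟩ := Submodule.mem_span_pair.mp hy
    by_cases ha : a = 0
    · rw [ha, zero_smul, zero_add, map_smul]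
      exact hF.smul_left (hF.smul_right hkw b) b
    · have hm := move hF halt hku hkw (-(b / a))
      have e : pairForm φ ψ w u = -1 := by rw [pairForm_apply, hφw, hψu, hφu]; ring
      rw [e] at hm
      have hm2 := hF.smul_left (hF.smul_right hm a) a
      have e2 : a • (u + (-(b / a) * -1) • w) = a • u + b • w := by
        rw [smul_add, smul_smul]
        congr 2
        field_simp
      rw [← map_smul, e2] at hm2
      exact hm2

end Cfsg.Agent.Lib.Helper2.Mcl
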