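import Cfsg.Agent.Lib.Helper2.MclB

set_option autoImplicit false
set_option maxHeartbeats 1000000
set_option linter.unusedVariables false
set_option linter.unusedSectionVars false
set_option linter.style.longLine false
set_option linter.unusedSimpArgs false
set_option linter.deprecated false
set_option linter.style.haveILetI false

/-!
# McLaughlin's theorem (S5075): the linear growth step
-/

namespace Cfsg.Agent.Lib.Helper2.Mcl

open Module LinearMap

variable {K : Type*} [Field K] {V : Type*} [AddCommGroup V] [Module K V]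
variable {G : Subgroup (V ≃ₗ[K] V)}

/-! ### dimension helpers -/

theorem finrank_le_ker_add_one [FiniteDimensional K V] (f : Dual K V) :
    finrank K V ≤ finrank K (LinearMap.ker f) + 1 := by
  have := LinearMap.finrank_range_add_finrank_ker f
  have h2 : finrank K (LinearMap.range f) ≤ 1 := by
    have := Submodule.finrank_le (LinearMap.range f)
    simpa using this
  omega

theorem finrank_span_singleton_le_one (v0 : V) : finrank K (Submodule.span K {v0}) ≤ 1 := by
  have := finrank_span_le_card (R := K) ({v0} : Set V)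
  simpa using this

theorem finrank_span_pair_le_two (a b : V) : finrank K (Submodule.span K {a, b}) ≤ 2 := by
  classical
  have := finrank_span_le_card (R := K) ({a, b} : Set V)
  refine this.trans ?_
  rw [Set.toFinset_insert, Set.toFinset_singleton]
  exact Finset.card_insert_le _ _

theorem finrank_le_inf_ker_add_one [FiniteDimensional K V] (U : Submodule K V) (f : Dual K V) :
    finrank K U ≤ finrank K ↥(U ⊓ LinearMap.ker f) + 1 := by
  have h1 := Submodule.finrank_sup_add_finrank_inf_eq U (LinearMap.ker f)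
  have h2 := finrank_le_ker_add_one f
  have h3 := Submodule.finrank_le (U ⊔ LinearMap.ker f)
  omega

theorem exists_ker_not_span [FiniteDimensional K V] {U : Submodule K V} (h3 : 3 ≤ finrank K U)
    (f : Dual K V) (v0 : V) : ∃ u ∈ U, f u = 0 ∧ u ∉ Submodule.span K {v0} := by
  by_contra hcon
  push_neg at hcon
  have hle : U ⊓ LinearMap.ker f ≤ Submodule.span K {v0} :=
    fun u hu => hcon u hu.1 (LinearMap.mem_ker.mp hu.2)
  have h1 := (Submodule.finrank_mono hle).trans (finrank_span_singleton_le_one v0)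
  have h2 := finrank_le_inf_ker_add_one U f
  omega

theorem exists_not_mem_span [FiniteDimensional K V] {U : Submodule K V} (h2 : 2 ≤ finrank K U)
    (v0 : V) : ∃ u ∈ U, u ∉ Submodule.span K {v0} := by
  by_contra hcon
  push_neg at hcon
  have hle : U ≤ Submodule.span K {v0} := hcon
  have h1 := (Submodule.finrank_mono hle).trans (finrank_span_singleton_le_one v0)
  omega

theorem exists_ne_zero_mem [FiniteDimensional K V] {U : Submodule K V} (h1 : 1 ≤ finrank K U) :
    ∃ u ∈ U, u ≠ 0 := by
  by_contra hcon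
  push_neg at hcon
  have : U = ⊥ := (Submodule.eq_bot_iff U).mpr hcon
  rw [this, finrank_bot] at h1
  omega

/-! ### the two auxiliary subspaces -/

/-- Functionals vanishing on `U` that are axes for every centre in `U`. -/
def XSub (hF : Full G) (U : Submodule K V) : Submodule K (Dual K V) where
  carrier := {χ | (∀ u ∈ U, χ u = 0) ∧ ∀ u ∈ U, In G u χ}
  add_mem' := by
    rintro a b ⟨ha, ha'⟩ ⟨hb, hb'⟩
    exact ⟨fun u hu => by rw [LinearMap.add_apply, ha u hu, hb u hu, add_zero],
      fun u hu => (ha' u hu).add_right (hb' u hu)⟩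
  zero_mem' := ⟨fun u _ => rfl, fun u _ => in_zero_right u⟩
  smul_mem' := by
    rintro c a ⟨ha, ha'⟩
    exact ⟨fun u hu => by rw [LinearMap.smul_apply, ha u hu, smul_zero],
      fun u hu => hF.smul_right (ha' u hu) c⟩

/-- Vectors of `W` that are centres for every axis containing `W`. -/
def WSub (hF : Full G) (W : Submodule K V) : Submodule K V where
  carrier := {w | w ∈ W ∧ ∀ ψ : Dual K V, (∀ w' ∈ W, ψ w' = 0) → In G w ψ}
  add_mem' := by
    rintro a b ⟨ha, ha'⟩ ⟨hb, hb'⟩
    exact ⟨W.add_mem ha hb, fun ψ hψ => (ha' ψ hψ).add_left (hb' ψ hψ)⟩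
  zero_mem' := ⟨W.zero_mem, fun ψ _ => in_zero_left ψ⟩
  smul_mem' := by
    rintro c a ⟨ha, ha'⟩
    exact ⟨W.smul_mem c ha, fun ψ hψ => hF.smul_left (ha' ψ hψ) c⟩

theorem mem_XSub {hF : Full G} {U : Submodule K V} {χ : Dual K V} :
    χ ∈ XSub hF U ↔ (∀ u ∈ U, χ u = 0) ∧ ∀ u ∈ U, In G u χ := Iff.rfl

theorem mem_WSub {hF : Full G} {W : Submodule K V} {w : V} :
    w ∈ WSub hF W ↔ w ∈ W ∧ ∀ ψ : Dual K V, (∀ w' ∈ W, ψ w' = 0) → In G w ψ := Iff.rfl

variable {U W : Submodule K V}

/-- not in `W ⊔ span {u}` -/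
theorem not_mem_sup_span (hc : IsCompl U W) {u x : V} (hu : u ∈ U) (hx : x ∈ U)
    (hxu : x ∉ Submodule.span K {u}) : x ∉ W ⊔ Submodule.span K {u} := by
  intro hmem
  obtain ⟨w, hw, y, hy, rfl⟩ := Submodule.mem_sup.mp hmem
  obtain ⟨c, rfl⟩ := Submodule.mem_span_singleton.mp hy
  have hwU : w ∈ U := by
    have : w = (w + c • u) - c • u := by abel
    rw [this]; exact U.sub_mem hx (U.smul_mem c hu)
  have hw0 : w = 0 := inter_eq_zero hc hwU hw
  apply hxu
  rw [hw0, zero_add]
  exact Submodule.mem_span_singleton.mpr ⟨c, rfl⟩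

/-- a functional vanishing on `W` and on `u`, equal to one at `x`. -/
theorem exists_sep_cfg (hc : IsCompl U W) {u x : V} (hu : u ∈ U) (hx : x ∈ U)
    (hxu : x ∉ Submodule.span K {u}) :
    ∃ ψ : Dual K V, (∀ w ∈ W, ψ w = 0) ∧ ψ u = 0 ∧ ψ x = 1 := by
  obtain ⟨ψ, h1, h2⟩ := exists_dual_sep _ (not_mem_sup_span hc hu hx hxu)
  refine ⟨ψ, fun w hw => h1 w (Submodule.mem_sup_left hw), ?_, h2⟩
  exact h1 u (Submodule.mem_sup_right (Submodule.mem_span_singleton_self u))

theorem not_mem_span_of_ne {u x : V} (hx : x ≠ 0) (hu : u ∉ Submodule.span K {x}) :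
    x ∉ Submodule.span K {u} := by
  intro h
  obtain ⟨c, rfl⟩ := Submodule.mem_span_singleton.mp h
  have hc : c ≠ 0 := by
    rintro rfl; simp at hx
  apply hu
  refine Submodule.mem_span_singleton.mpr ⟨c⁻¹, ?_⟩
  rw [smul_smul, inv_mul_cancel₀ hc, one_smul]

/-- (SL-a) -/
theorem SLCfg.spanX (h : SLCfg G U W) (hF : Full G) {u0 : V} (hu0 : u0 ∈ U) (hne : u0 ≠ 0)
    {χ : Dual K V} (hχ : ∀ u ∈ U, χ u = 0) (hin : In G u0 χ) : χ ∈ XSub hF U := by
  refine ⟨hχ, fun u hu => ?_⟩
  by_cases hmem : u0 ∈ Submodule.span K {u}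
  · obtain ⟨c, rfl⟩ := Submodule.mem_span_singleton.mp hmem
    have hc : c ≠ 0 := by
      rintro rfl; simp at hne
    exact hF.of_smul_left hc hin
  · obtain ⟨ψ, hψW, hψu, hψu0⟩ := exists_sep_cfg h.compl hu hu0 hmem
    have h1 := hF.conjT (h.mem u hu ψ hψW hψu) hin 1
    rw [hψu0, hχ u hu, mul_one, mul_zero, zero_smul, sub_zero, one_smul] at h1
    have := h1.sub_left hin
    rwa [add_sub_cancel_left] at this

/-- (SL-b) -/
theorem SLCfg.spanW (h : SLCfg G U W) (hF : Full G) {w : V} (hw : w ∈ W) {ψ0 : Dual K V}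
    (hψ0 : ∀ w' ∈ W, ψ0 w' = 0) (hne : ψ0 ≠ 0) (hin : In G w ψ0) : w ∈ WSub hF W := by
  refine ⟨hw, fun ψ hψ => ?_⟩
  by_cases hex : ∃ x, ψ x = 0 ∧ ψ0 x ≠ 0
  · obtain ⟨x, hx1, hx2⟩ := hex
    have hc := h.compl
    set u := pL hc x with hu
    have huU : u ∈ U := pL_mem hc x
    have e1 : ψ u = 0 := by
      have := pL_add_pR hc x
      have h3 : ψ (pL hc x + pR hc x) = 0 := by rw [this]; exact hx1
      rw [map_add, hψ _ (pR_mem hc x), add_zero] at h3
      exact h3
    have e2 : ψ0 u ≠ 0 := by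
      have := pL_add_pR hc x
      have h3 : ψ0 (pL hc x + pR hc x) ≠ 0 := by rw [this]; exact hx2
      rw [map_add, hψ0 _ (pR_mem hc x), add_zero] at h3
      exact h3
    have h1 := hF.conjT (h.mem u huU ψ hψ e1) hin (ψ0 u)⁻¹
    rw [hψ w hw, mul_zero, zero_smul, add_zero, inv_mul_cancel₀ e2, one_smul] at h1
    have := hin.sub_right h1
    rwa [sub_sub_cancel] at this
  · push_neg at hex
    obtain ⟨c, hc⟩ := exists_smul_of_ker ψ ψ0 hex
    have hc0 : c ≠ 0 := by
      rintro rfl
      rw [zero_smul] at hc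
      exact hne hc
    rw [hc] at hin
    exact hF.of_smul_right hc0 hin

/-- (SL-c) growing a linear configuration. -/
theorem grow_cfg [FiniteDimensional K V] (hc : IsCompl U W) (hF : Full G) {χ : Dual K V}
    (hχ : χ ∈ XSub hF U) {w : V} (hw : w ∈ WSub hF W) (hχw : χ w ≠ 0)
    (h3 : 3 ≤ finrank K ↥(U ⊔ Submodule.span K {w})) :
    SLCfg G (U ⊔ Submodule.span K {w}) (W ⊓ LinearMap.ker χ) ∧
      finrank K ↥(W ⊓ LinearMap.ker χ) < finrank K W := by
  have hwW := hw.1
  have hmem : ∀ u ∈ U, ∀ ψ : Dual K V, (∀ w ∈ W, ψ w = 0) → ψ u = 0 → In G u ψ := by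
    intro u hu ψ hψW hψu
    exact hF.comm (hχ.2 u hu) (hw.2 ψ hψW) hψu hχw
  constructor
  · refine ⟨⟨?_, ?_⟩, ?_, ?_⟩
    · rw [Submodule.disjoint_def]
      intro x hx hx'
      obtain ⟨u, hu, y, hy, rfl⟩ := Submodule.mem_sup.mp hx
      obtain ⟨c, rfl⟩ := Submodule.mem_span_singleton.mp hy
      have huW : u ∈ W := by
        have : u = (u + c • w) - c • w := by abel
        rw [this]; exact W.sub_mem hx'.1 (W.smul_mem c hwW)
      have hu0 : u = 0 := inter_eq_zero hc hu huW
      have h2 : χ (u + c • w) = 0 := LinearMap.mem_ker.mp hx'.2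
      rw [hu0, zero_add, map_smul, smul_eq_mul] at h2
      have hc0 : c = 0 := by
        rcases mul_eq_zero.mp h2 with h3 | h3
        · exact h3
        · exact absurd h3 hχw
      rw [hu0, hc0]; simp
    · rw [Submodule.codisjoint_iff_exists_add_eq]
      intro z
      refine ⟨pL hc z + (χ (pR hc z) / χ w) • w, pR hc z - (χ (pR hc z) / χ w) • w,
        Submodule.add_mem _ (Submodule.mem_sup_left (pL_mem hc z))
          (Submodule.mem_sup_right (Submodule.smul_mem _ _ (Submodule.mem_span_singleton_self w))),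
        Submodule.mem_inf.mpr ⟨W.sub_mem (pR_mem hc z) (W.smul_mem _ hwW), ?_⟩, ?_⟩
      · rw [LinearMap.mem_ker, map_sub, map_smul, smul_eq_mul]
        field_simp
        ring
      · have := pL_add_pR hc z
        have e : pL hc z + (χ (pR hc z) / χ w) • w + (pR hc z - (χ (pR hc z) / χ w) • w)
            = pL hc z + pR hc z := by abel
        rw [e, this]
    · -- membership
      intro y hy ψ' hψ' hψ'y
      obtain ⟨u, hu, y1, hy1, rfl⟩ := Submodule.mem_sup.mp hy
      obtain ⟨b, rfl⟩ := Submodule.mem_span_singleton.mp hy1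
      set a := ψ' w / χ w with ha
      set ψ := ψ' - a • χ with hψdef
      have hψw : ψ w = 0 := by
        rw [hψdef, LinearMap.sub_apply, LinearMap.smul_apply, smul_eq_mul, ha]
        field_simp
        ring
      have hψW : ∀ w' ∈ W, ψ w' = 0 := by
        intro w' hw'
        have hdec : w' = (χ w' / χ w) • w + (w' - (χ w' / χ w) • w) := by abel
        have hker : w' - (χ w' / χ w) • w ∈ W ⊓ LinearMap.ker χ := by
          refine Submodule.mem_inf.mpr ⟨W.sub_mem hw' (W.smul_mem _ hwW), ?_⟩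
          rw [LinearMap.mem_ker, map_sub, map_smul, smul_eq_mul]
          field_simp
          ring
        have h3 : ψ (w' - (χ w' / χ w) • w) = 0 := by
          rw [hψdef, LinearMap.sub_apply, LinearMap.smul_apply, hψ' _ hker,
            LinearMap.mem_ker.mp hker.2, smul_zero, sub_zero]
        rw [hdec, map_add, map_smul, hψw, smul_zero, zero_add, h3]
      have hψ'eq : ψ' = ψ + a • χ := by rw [hψdef]; abel
      have hχu : χ u = 0 := hχ.1 u hu
      -- incidence
      have hinc : ψ u + a * b * χ w = 0 := by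
        have := hψ'y
        rw [hψ'eq, LinearMap.add_apply, LinearMap.smul_apply, map_add, map_add, map_smul, map_smul,
          hψw, hχu, smul_eq_mul, smul_eq_mul, smul_eq_mul] at this
        linear_combination this
      rw [hψ'eq]
      by_cases hu0 : u = 0
      · rw [hu0, zero_add]
        rw [hu0, map_zero, zero_add] at hinc
        by_cases hb : b = 0
        · rw [hb, zero_smul]; exact in_zero_left _
        · have ha0 : a = 0 := by
            rcases mul_eq_zero.mp hinc with h3 | h3
            · rcases mul_eq_zero.mp h3 with h4 | h4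
              · exact h4
              · exact absurd h4 hb
            · exact absurd h3 hχw
          rw [ha0, zero_smul, add_zero]
          exact hF.smul_left (hw.2 ψ hψW) b
      · -- ψ2 with ψ2 u = 1 vanishing on W
        have huW : u ∉ W := fun hcon => hu0 (inter_eq_zero hc hu hcon)
        obtain ⟨ψ2, hψ2W, hψ2u⟩ := exists_dual_sep W huW
        set ψ1 := ψ + (b * a * χ w) • ψ2 with hψ1
        have hψ1W : ∀ w' ∈ W, ψ1 w' = 0 := by
          intro w' hw'
          rw [hψ1, LinearMap.add_apply, LinearMap.smul_apply, hψW w' hw', hψ2W w' hw']; simp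
        have hψ1u : ψ1 u = 0 := by
          rw [hψ1, LinearMap.add_apply, LinearMap.smul_apply, hψ2u, smul_eq_mul]
          linear_combination hinc
        have hA : In G u (ψ1 + a • χ) :=
          (hmem u hu ψ1 hψ1W hψ1u).add_right (hF.smul_right (hχ.2 u hu) a)
        have hB := hF.conjT (hw.2 ψ2 hψ2W) hA b
        rw [hψ2u, mul_one] at hB
        convert hB using 1
        rw [LinearMap.add_apply, LinearMap.smul_apply, hψ1W w hwW, zero_add, hψ1, smul_eq_mul]
        module
    · exact h3
  · apply Submodule.finrank_lt_finrank_of_lt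
    refine lt_of_le_of_ne inf_le_left ?_
    intro heq
    have : w ∈ W ⊓ LinearMap.ker χ := by rw [heq]; exact hwW
    exact hχw (LinearMap.mem_ker.mp this.2)

/-- (SL-d) -/
theorem SLCfg.L1 [FiniteDimensional K V] (h : SLCfg G U W) (hF : Full G) {v : V} {φ : Dual K V}
    (hin : In G v φ) (hvU : pL h.compl v ≠ 0) : φ ∘ₗ pR h.compl ∈ XSub hF U := by
  have hc := h.compl
  obtain ⟨u, hu, hφu, hunot⟩ := exists_ker_not_span h.three φ (pL hc v)
  have hu0 : u ≠ 0 := by
    rintro rfl; exact hunot (Submodule.zero_mem _)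
  have hnot : pL hc v ∉ Submodule.span K {u} := not_mem_span_of_ne hvU hunot
  obtain ⟨ψ, hψW, hψu, hψv⟩ := exists_sep_cfg hc hu (pL_mem hc v) hnot
  have hψv' : ψ v ≠ 0 := by
    rw [← pL_add_pR hc v, map_add, hψv, hψW _ (pR_mem hc v), add_zero]
    exact one_ne_zero
  have h1 : In G u φ := hF.comm (h.mem u hu ψ hψW hψu) hin hφu hψv'
  have h2 : In G u (φ ∘ₗ pL hc) := by
    apply h.mem u hu
    · intro w hw
      rw [LinearMap.comp_apply, pL_of_mem' hc hw, map_zero]
    · rw [LinearMap.comp_apply, pL_of_mem hc hu, hφu]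
  have h3 : In G u (φ ∘ₗ pR hc) := by
    have := h1.sub_right h2
    have e : φ - φ ∘ₗ pL hc = φ ∘ₗ pR hc := by
      rw [sub_eq_iff_eq_add, add_comm, comp_pL_add_comp_pR]
    rwa [e] at this
  refine h.spanX hF hu hu0 ?_ h3
  intro u' hu'
  rw [LinearMap.comp_apply, pR_of_mem' hc hu', map_zero]

/-- (SL-e) -/
theorem SLCfg.L1' [FiniteDimensional K V] (h : SLCfg G U W) (hF : Full G) {v : V} {φ : Dual K V}
    (hin : In G v φ) {u : V} (hu : u ∈ U) (hφu : φ u ≠ 0) : pR h.compl v ∈ WSub hF W := by
  have hc := h.compl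
  -- a nonzero functional vanishing on W, u and pL v
  have hlt : W ⊔ Submodule.span K {u, pL hc v} < ⊤ := by
    rw [lt_top_iff_ne_top]
    intro htop
    have h1 := Submodule.finrank_add_le_finrank_add_finrank W (Submodule.span K {u, pL hc v})
    rw [htop, finrank_top] at h1
    have h2 := finrank_span_pair_le_two (K := K) u (pL hc v)
    have h3 := Submodule.finrank_add_eq_of_isCompl hc
    have h4 := h.three
    omega
  obtain ⟨ψ, hψ0, hψle⟩ := Submodule.exists_le_ker_of_lt_top _ hlt
  have hψW : ∀ w ∈ W, ψ w = 0 := fun w hw => LinearMap.mem_ker.mp (hψle (Submodule.mem_sup_left hw))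
  have hψu : ψ u = 0 := LinearMap.mem_ker.mp
    (hψle (Submodule.mem_sup_right (Submodule.subset_span (by simp))))
  have hψvU : ψ (pL hc v) = 0 := LinearMap.mem_ker.mp
    (hψle (Submodule.mem_sup_right (Submodule.subset_span (by simp))))
  have hψv : ψ v = 0 := by
    rw [← pL_add_pR hc v, map_add, hψvU, hψW _ (pR_mem hc v), add_zero]
  have h1 : In G v ψ := hF.comm hin (h.mem u hu ψ hψW hψu) hψv hφu
  have h2 : In G (pL hc v) ψ := h.mem _ (pL_mem hc v) ψ hψW hψvU
  have h3 : In G (pR hc v) ψ := by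
    have := h1.sub_left h2
    have e : v - pL hc v = pR hc v := by
      rw [sub_eq_iff_eq_add, add_comm, pL_add_pR]
    rwa [e] at this
  exact h.spanW hF (pR_mem hc v) hψW hψ0 h3

/-- type (d), first rule -/
theorem typeD_mem_WSub (hF : Full G) {v : V} {φ : Dual K V} (hin : In G v φ) (hv : v ∈ W)
    {w1 : V} (hw1 : w1 ∈ WSub hF W) (hφw1 : φ w1 ≠ 0) : v ∈ WSub hF W :=
  ⟨hv, fun ψ hψ => hF.comm hin (hw1.2 ψ hψ) (hψ v hv) hφw1⟩

/-- type (d), second rule -/
theorem typeD_mem_XSub (hF : Full G) {v : V} {φ : Dual K V} (hin : In G v φ)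
    (hφ : ∀ u ∈ U, φ u = 0) {χ : Dual K V} (hχ : χ ∈ XSub hF U) (hχv : χ v ≠ 0) :
    φ ∈ XSub hF U :=
  ⟨hφ, fun u hu => hF.comm (hχ.2 u hu) hin (hφ u hu) hχv⟩

/-- every nonzero vector of `U` is the centre of a nontrivial transvection whose axis misses
a prescribed vector of `U` outside its span. -/
theorem SLCfg.exists_axis [FiniteDimensional K V] (h : SLCfg G U W) {u' : V} (hu' : u' ∈ U)
    (hne : u' ≠ 0) : ∃ (u : V) (ψ : Dual K V), u ∈ U ∧ u ≠ 0 ∧ In G u ψ ∧ ψ u' = 1 ∧
      (∀ w ∈ W, ψ w = 0) := by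
  obtain ⟨u, hu, hunot⟩ := exists_not_mem_span (U := U) (by have := h.three; omega) u'
  have hu0 : u ≠ 0 := by
    rintro rfl; exact hunot (Submodule.zero_mem _)
  obtain ⟨ψ, hψW, hψu, hψu'⟩ := exists_sep_cfg h.compl hu hu' (not_mem_span_of_ne hne hunot)
  exact ⟨u, ψ, hu, hu0, h.mem u hu ψ hψW hψu, hψu', hψW⟩

theorem SLCfg.le_Cen [FiniteDimensional K V] (h : SLCfg G U W) : U ≤ Cen G := by
  intro u' hu'
  by_cases hne : u' = 0
  · rw [hne]; exact Submodule.zero_mem _
  · -- u' is itself a centre: find an axis through u'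
    obtain ⟨u, hu, hunot⟩ := exists_not_mem_span (U := U) (by have := h.three; omega) u'
    obtain ⟨ψ, hψW, hψu', hψu⟩ := exists_sep_cfg h.compl hu' hu hunot
    exact mem_Cen_of_in (h.mem u' hu' ψ hψW hψu') (ne_zero_of_apply_ne (x := u) (by rw [hψu]; exact one_ne_zero))

/-- The linear step: either the configuration grows or it is terminal. -/
theorem SLCfg.step [FiniteDimensional K V] (hR : Rel G) (h : SLCfg G U W) :
    (∃ U' W' : Submodule K V, SLCfg G U' W' ∧ finrank K W' < finrank K W) ∨
      (U = Cen G ∧ W = Rad G) := by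
  have hF := hR.full
  have hc := h.compl
  by_cases hex : ∃ χ ∈ XSub hF U, ∃ w ∈ WSub hF W, χ w ≠ 0
  · obtain ⟨χ, hχ, w, hw, hχw⟩ := hex
    have h3 : 3 ≤ finrank K ↥(U ⊔ Submodule.span K {w}) :=
      h.three.trans (Submodule.finrank_mono le_sup_left)
    exact Or.inl ⟨_, _, (grow_cfg hc hF hχ hw hχw h3).1, (grow_cfg hc hF hχ hw hχw h3).2⟩
  · right
    push_neg at hex
    -- a nonzero vector of U
    obtain ⟨ua, hua, hua0⟩ := exists_ne_zero_mem (U := U) (by have := h.three; omega)
    -- invariance of U ⊔ WSub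
    have hinv1 : ∀ (v : V) (φ : Dual K V), In G v φ → ∀ x ∈ U ⊔ WSub hF W,
        φ x • v ∈ U ⊔ WSub hF W := by
      intro v φ hin x hx
      by_cases hφU : ∃ u ∈ U, φ u ≠ 0
      · obtain ⟨u, hu, hφu⟩ := hφU
        have := h.L1' hF hin hu hφu
        apply Submodule.smul_mem
        rw [← pL_add_pR hc v]
        exact Submodule.add_mem _ (Submodule.mem_sup_left (pL_mem hc v)) (Submodule.mem_sup_right this)
      · push_neg at hφU
        obtain ⟨u, hu, w', hw', rfl⟩ := Submodule.mem_sup.mp hx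
        by_cases hvU : pL hc v = 0
        · -- type (d)
          have hvW : v ∈ W := by
            rw [← pL_add_pR hc v, hvU, zero_add]; exact pR_mem hc v
          by_cases hφx : φ (u + w') = 0
          · rw [hφx, zero_smul]; exact Submodule.zero_mem _
          · rw [map_add, hφU u hu, zero_add] at hφx
            apply Submodule.smul_mem
            exact Submodule.mem_sup_right (typeD_mem_WSub hF hin hvW hw' hφx)
        · have hX := h.L1 hF hin hvU
          have e : φ ∘ₗ pR hc = φ := by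
            have := comp_pL_add_comp_pR hc φ
            have e0 : φ ∘ₗ pL hc = 0 := by
              ext y
              rw [LinearMap.comp_apply, hφU _ (pL_mem hc y)]; rfl
            rw [e0, zero_add] at this
            exact this
          rw [e] at hX
          rw [map_add, hX.1 u hu, hex φ hX w' hw', add_zero, zero_smul]
          exact Submodule.zero_mem _
    -- invariance of W ⊓ ker X
    let S2 : Submodule K V :=
      { carrier := {x | x ∈ W ∧ ∀ χ ∈ XSub hF U, χ x = 0}
        add_mem' := by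
          rintro a b ⟨ha, ha'⟩ ⟨hb, hb'⟩
          exact ⟨W.add_mem ha hb, fun χ hχ => by rw [map_add, ha' χ hχ, hb' χ hχ, add_zero]⟩
        zero_mem' := ⟨W.zero_mem, fun χ _ => map_zero χ⟩
        smul_mem' := by
          rintro c a ⟨ha, ha'⟩
          exact ⟨W.smul_mem c ha, fun χ hχ => by rw [map_smul, ha' χ hχ, smul_zero]⟩ }
    have hWS2 : WSub hF W ≤ S2 := fun w hw => ⟨hw.1, fun χ hχ => hex χ hχ w hw⟩
    have hinv2 : ∀ (v : V) (φ : Dual K V), In G v φ → ∀ x ∈ S2, φ x • v ∈ S2 := by
      intro v φ hin x hx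
      by_cases hvU : pL hc v = 0
      · have hvW : v ∈ W := by
          rw [← pL_add_pR hc v, hvU, zero_add]; exact pR_mem hc v
        by_cases hφU : ∃ u ∈ U, φ u ≠ 0
        · obtain ⟨u, hu, hφu⟩ := hφU
          have := h.L1' hF hin hu hφu
          rw [← pL_add_pR hc v, hvU, zero_add]
          exact S2.smul_mem _ (hWS2 this)
        · push_neg at hφU
          by_cases hvS : v ∈ S2
          · exact S2.smul_mem _ hvS
          · have : ∃ χ ∈ XSub hF U, χ v ≠ 0 := by
              by_contra hcon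
              push_neg at hcon
              exact hvS ⟨hvW, hcon⟩
            obtain ⟨χ, hχ, hχv⟩ := this
            have hφX := typeD_mem_XSub hF hin hφU hχ hχv
            rw [hx.2 φ hφX, zero_smul]
            exact S2.zero_mem
      · have hX := h.L1 hF hin hvU
        have : φ x = 0 := by
          have e1 := hx.2 _ hX
          rw [LinearMap.comp_apply, pR_of_mem hc hx.1] at e1
          exact e1
        rw [this, zero_smul]
        exact S2.zero_mem
    -- apply relative irreducibility
    have hCen1 : Cen G ≤ U ⊔ WSub hF W := by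
      rcases hR.ri _ hinv1 with h1 | h1
      · exfalso
        obtain ⟨u, ψ, hu, hu0, hin, hψ1, _⟩ := h.exists_axis hua hua0
        have := h1 (Submodule.mem_sup_left hua) u ψ hin hu0
        rw [hψ1] at this
        exact one_ne_zero this
      · exact h1
    have hS2 : S2 ≤ Rad G := by
      rcases hR.ri _ hinv2 with h1 | h1
      · exact h1
      · exfalso
        have : ua ∈ S2 := h1 (h.le_Cen hua)
        exact hua0 (inter_eq_zero hc hua this.1)
    -- WSub = ⊥
    obtain ⟨ψa, hψaW, hψaua⟩ := exists_dual_sep W (fun hcon => hua0 (inter_eq_zero hc hua hcon))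
    have hψa0 : ψa ≠ 0 := ne_zero_of_apply_ne (x := ua) (by rw [hψaua]; exact one_ne_zero)
    have hWbot : ∀ w ∈ WSub hF W, w = 0 := by
      intro w hw
      by_contra hw0
      exact hR.nc1 w ψa (hw.2 ψa hψaW) hw0 hψa0 (hS2 (hWS2 hw))
    have hCenU : Cen G ≤ U := by
      intro x hx
      obtain ⟨u, hu, w', hw', rfl⟩ := Submodule.mem_sup.mp (hCen1 hx)
      rw [hWbot w' hw', add_zero]; exact hu
    have hUeq : U = Cen G := le_antisymm h.le_Cen hCenU
    -- XSub = ⊥
    have hXbot : ∀ χ ∈ XSub hF U, χ = 0 := by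
      intro χ hχ
      by_contra hχ0
      obtain ⟨v', f', hin', hf', hχv'⟩ := hR.nc2 ua χ (hχ.2 ua hua) hua0 hχ0
      exact hχv' (hχ.1 v' (hCenU (mem_Cen_of_in hin' hf')))
    refine ⟨hUeq, le_antisymm ?_ ?_⟩
    · intro w hw
      exact hS2 ⟨hw, fun χ hχ => by rw [hXbot χ hχ]; rfl⟩
    · intro x hx
      have hx0 : pL hc x = 0 := by
        by_contra hne
        obtain ⟨u, ψ, hu, hu0, hin, hψ1, hψW⟩ := h.exists_axis (pL_mem hc x) hne
        have := hx u ψ hin hu0
        rw [← pL_add_pR hc x, map_add, hψ1, hψW _ (pR_mem hc x), add_zero] at this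
        exact one_ne_zero this
      rw [← pL_add_pR hc x, hx0, zero_add]
      exact pR_mem hc x

/-- Iterating the linear step. -/
theorem SLCfg.final [FiniteDimensional K V] (hR : Rel G) :
    ∀ (n : ℕ) (U W : Submodule K V), SLCfg G U W → finrank K W = n →
      SLCfg G (Cen G) (Rad G) := by
  intro n
  induction n using Nat.strong_induction_on with
  | _ n ih =>
    intro U W h hn
    rcases h.step hR with ⟨U', W', h', hlt⟩ | ⟨h1, h2⟩
    · exact ih _ (hn ▸ hlt) U' W' h' rfl
    · rw [← h1, ← h2]; exact h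

end Cfsg.Agent.Lib.Helper2.Mcl
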