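import Cfsg.Agent.Lib.Helper2.MclC

set_option autoImplicit false
set_option maxHeartbeats 1000000
set_option linter.unusedVariables false
set_option linter.unusedSectionVars false
set_option linter.style.longLine false
set_option linter.unusedSimpArgs false
set_option linter.deprecated false
set_option linter.style.haveILetI false

/-!
# McLaughlin's theorem (S5075): the symplectic step, part 1
-/

namespace Cfsg.Agent.Lib.Helper2.Mcl

open Module LinearMap

variable {K : Type*} [Field K] {V : Type*} [AddCommGroup V] [Module K V]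
variable {G : Subgroup (V ≃ₗ[K] V)} {fl : V →ₗ[K] Dual K V} {U : Submodule K V}

/-- no linear configuration exists -/
def NoSL (G : Subgroup (V ≃ₗ[K] V)) : Prop := ∀ U W : Submodule K V, ¬ SLCfg G U W

theorem SpCfg.decomp [FiniteDimensional K V] (h : SpCfg G fl U) (φ : Dual K V) :
    ∃ x ∈ U, fl x = φ ∘ₗ pL h.compl := by
  apply h.surj
  intro w hw
  rw [LinearMap.comp_apply, pL_of_mem' h.compl hw, map_zero]

theorem SpCfg.comp_pL_apply (h : SpCfg G fl U) (φ : Dual K V) {u : V} (hu : u ∈ U) :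
    (φ ∘ₗ pL h.compl) u = φ u := by
  rw [LinearMap.comp_apply, pL_of_mem h.compl hu]

theorem SpCfg.comp_pR_apply (h : SpCfg G fl U) (φ : Dual K V) {u : V} (hu : u ∈ U) :
    (φ ∘ₗ pR h.compl) u = 0 := by
  rw [LinearMap.comp_apply, pR_of_mem' h.compl hu, map_zero]

theorem SpCfg.eq_comp_add (h : SpCfg G fl U) (φ : Dual K V) :
    φ = φ ∘ₗ pL h.compl + φ ∘ₗ pR h.compl := (comp_pL_add_comp_pR h.compl φ).symm

theorem SpCfg.apply_pL' (h : SpCfg G fl U) (x y : V) : fl (pL h.compl x) y = fl x y := by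
  rw [h.skew, h.apply_pL, ← h.skew]

theorem SpCfg.spanX (h : SpCfg G fl U) (hF : Full G) {u0 : V} (hu0 : u0 ∈ U) (hne : u0 ≠ 0)
    {χ : Dual K V} (hχ : ∀ u ∈ U, χ u = 0) (hin : In G u0 χ) : χ ∈ XSub hF U := by
  refine ⟨hχ, ?_⟩
  obtain ⟨y0, hy0, hne0⟩ := h.exists_ne hu0 hne
  refine forall_of_nonvanishing (fl u0) hy0 hne0 (fun y => In G y χ)
    (fun a b ha hb => ha.sub_left hb) ?_
  intro y hy hgy
  have h1 := hF.conjT (h.mem y hy) hin 1
  rw [hχ y hy, mul_zero, zero_smul, sub_zero, one_mul] at h1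
  have h2 := h1.sub_left hin
  rw [add_sub_cancel_left] at h2
  have hne' : fl y u0 ≠ 0 := by
    rw [h.skew]; simpa using hgy
  exact hF.of_smul_left hne' h2

theorem SpCfg.spanW [FiniteDimensional K V] (h : SpCfg G fl U) (hF : Full G) {w : V}
    (hw : w ∈ LinearMap.ker fl) {u0 : V} (hu0 : u0 ∈ U) (hne : u0 ≠ 0) (hin : In G w (fl u0)) :
    w ∈ WSub hF (LinearMap.ker fl) := by
  refine ⟨hw, fun ψ hψ => ?_⟩
  obtain ⟨y, hy, rfl⟩ := h.surj ψ hψ
  obtain ⟨y0, hy0, hne0⟩ := h.exists_ne hu0 hne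
  refine forall_of_nonvanishing (fl u0) hy0 hne0 (fun y => In G w (fl y)) ?_ ?_ y hy
  · intro a b ha hb
    rw [map_sub]; exact ha.sub_right hb
  · intro y hy hgy
    have h1 := hF.conjT (h.mem y hy) hin (fl u0 y)⁻¹
    rw [h.rad_right hw, mul_zero, zero_smul, add_zero, inv_mul_cancel₀ hgy, one_smul] at h1
    have := hin.sub_right h1
    rwa [sub_sub_cancel] at this

/-- (*) under `NoSL` a centre in `U` has only its symplectic axis among the axes containing the radical. -/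
theorem SpCfg.star [FiniteDimensional K V] (h : SpCfg G fl U) (hF : Full G) (hno : NoSL G)
    {u : V} (hu : u ∈ U) (hne : u ≠ 0) {ψ : Dual K V} (hψ : ∀ w ∈ LinearMap.ker fl, ψ w = 0)
    (hin : In G u ψ) : ∃ c : K, ψ = c • fl u := by
  by_contra hcon
  push_neg at hcon
  obtain ⟨x0, hx0, rfl⟩ := h.surj ψ hψ
  have hx0u : fl x0 u = 0 := hin.inc
  have hux0 : fl u x0 = 0 := by rw [h.skew, hx0u, neg_zero]
  have hx0not : x0 ∉ Submodule.span K {u} := by
    intro hmem
    obtain ⟨c, rfl⟩ := Submodule.mem_span_singleton.mp hmem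
    exact hcon c (by rw [map_smul])
  -- step (i)
  have P0 : ∀ y ∈ U, fl u y = 0 → In G u (fl y) := by
    have hex : ∃ y0 ∈ U, fl u y0 = 0 ∧ fl x0 y0 ≠ 0 := by
      by_contra hc2
      push_neg at hc2
      obtain ⟨c, hc⟩ := h.prop hu hx0 hc2
      exact hcon c (by rw [hc, map_smul])
    obtain ⟨y0, hy0, hy0u, hy0x⟩ := hex
    intro y hy hyu
    refine forall_of_nonvanishing (U := U ⊓ LinearMap.ker (fl u)) (fl x0) (y0 := y0)
      (Submodule.mem_inf.mpr ⟨hy0, LinearMap.mem_ker.mpr hy0u⟩) hy0x (fun y => In G u (fl y)) ?_ ?_ y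
      (Submodule.mem_inf.mpr ⟨hy, LinearMap.mem_ker.mpr hyu⟩)
    · intro a b ha hb
      rw [map_sub]; exact ha.sub_right hb
    · intro y hy hgy
      obtain ⟨hyU, hyk⟩ := Submodule.mem_inf.mp hy
      have hyu' : fl y u = 0 := by rw [h.skew, LinearMap.mem_ker.mp hyk, neg_zero]
      have h1 := hF.conjT (h.mem y hyU) hin (fl x0 y)⁻¹
      rw [hyu', mul_zero, zero_smul, add_zero, inv_mul_cancel₀ hgy, one_smul] at h1
      have := hin.sub_right h1
      rwa [sub_sub_cancel] at this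
  -- step (ii)
  have hP : ∀ u' ∈ U, ∀ a ∈ U, ∀ c : K,
      (∀ y ∈ U, fl u' y = 0 → In G u' (fl y)) →
      (∀ y ∈ U, fl (u' + (c * fl a u') • a) y = 0 → In G (u' + (c * fl a u') • a) (fl y)) := by
    intro u' hu' a ha c hPu' y hy hy0
    set y' := y - (c * fl a y) • a with hy'
    have hy'U : y' ∈ U := U.sub_mem hy (U.smul_mem _ ha)
    have e1 : fl u' y' = 0 := by
      rw [map_add, map_smul, LinearMap.add_apply, LinearMap.smul_apply, smul_eq_mul] at hy0
      rw [hy', map_sub, map_smul, smul_eq_mul, h.skew u' a]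
      linear_combination hy0
    have h1 := hPu' y' hy'U e1
    have h2 := hF.conjT (h.mem a ha) h1 c
    convert h2 using 1
    rw [hy', map_sub, map_smul, LinearMap.sub_apply, LinearMap.smul_apply, h.alt a, h.skew y a]
    simp only [smul_eq_mul, mul_zero, sub_zero, mul_neg, neg_smul, sub_neg_eq_add]
    module
  have Pall : ∀ u' ∈ U, u' ≠ 0 → ∀ y ∈ U, fl u' y = 0 → In G u' (fl y) := by
    intro u' hu' hne'
    exact h.orbit (fun u' => ∀ y ∈ U, fl u' y = 0 → In G u' (fl y)) hP u hu u' hu' hne hne' P0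
  -- step (iii)
  apply hno U (LinearMap.ker fl)
  refine ⟨h.compl, ?_, ?_⟩
  · intro u' hu' ψ' hψ' hψ'u'
    by_cases hu'0 : u' = 0
    · rw [hu'0]; exact in_zero_left _
    · obtain ⟨y, hy, rfl⟩ := h.surj ψ' hψ'
      exact Pall u' hu' hu'0 y hy (by rw [h.skew, hψ'u', neg_zero])
  · obtain ⟨u1, hu1, hu1ne⟩ := h.exists_ne hu hne
    have hlt1 : Submodule.span K {u} < U ⊓ LinearMap.ker (fl u) := by
      refine lt_of_le_of_ne ?_ ?_
      · rw [Submodule.span_singleton_le_iff_mem]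
        exact Submodule.mem_inf.mpr ⟨hu, LinearMap.mem_ker.mpr (h.alt u)⟩
      · intro heq
        apply hx0not
        rw [heq]
        exact Submodule.mem_inf.mpr ⟨hx0, LinearMap.mem_ker.mpr hux0⟩
    have hlt2 : U ⊓ LinearMap.ker (fl u) < U := by
      refine lt_of_le_of_ne inf_le_left ?_
      intro heq
      have : u1 ∈ U ⊓ LinearMap.ker (fl u) := by rw [heq]; exact hu1
      exact hu1ne (LinearMap.mem_ker.mp (Submodule.mem_inf.mp this).2)
    have e1 := Submodule.finrank_lt_finrank_of_lt hlt1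
    have e2 := Submodule.finrank_lt_finrank_of_lt hlt2
    rw [finrank_span_singleton hne] at e1
    omega

theorem SpCfg.X1 [FiniteDimensional K V] (h : SpCfg G fl U) (hF : Full G) (hno : NoSL G)
    {u : V} (hu : u ∈ U) (hne : u ≠ 0) {φ : Dual K V} (hin : In G u φ) :
    (∃ c : K, φ ∘ₗ pL h.compl = c • fl u) ∧ φ ∘ₗ pR h.compl ∈ XSub hF U := by
  obtain ⟨x, hx, hfx⟩ := h.decomp φ
  have hφu : φ u = 0 := hin.inc
  have hxu : fl x u = 0 := by rw [hfx, h.comp_pL_apply φ hu, hφu]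
  have key : ∀ y ∈ U, fl u y = 0 → fl x y = 0 := by
    intro y hy hyu
    by_contra hxy
    have hyu' : fl y u = 0 := by rw [h.skew, hyu, neg_zero]
    have hφy : φ y = fl x y := by rw [hfx, h.comp_pL_apply φ hy]
    have h1 := hF.conjT (h.mem y hy) hin 1
    rw [hyu', mul_zero, zero_smul, add_zero, one_mul, hφy] at h1
    have h2 := hin.sub_right h1
    rw [sub_sub_cancel] at h2
    have h3 := hF.of_smul_right hxy h2
    obtain ⟨c, hc⟩ := h.star hF hno hu hne (fun w hw => h.rad_right hw y) h3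
    have : y = c • u := h.inj hy (U.smul_mem c hu) (by rw [hc, map_smul])
    apply hxy
    rw [this, map_smul, hxu, smul_zero]
  obtain ⟨c, hc⟩ := h.prop hu hx key
  have e1 : φ ∘ₗ pL h.compl = c • fl u := by rw [← hfx, hc, map_smul]
  refine ⟨⟨c, e1⟩, ?_⟩
  have h1 : In G u (φ ∘ₗ pR h.compl) := by
    have := hin.sub_right (hF.smul_right (h.mem u hu) c)
    rw [← e1] at this
    have e : φ - φ ∘ₗ pL h.compl = φ ∘ₗ pR h.compl := by
      rw [sub_eq_iff_eq_add, add_comm, comp_pL_add_comp_pR]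
    rwa [e] at this
  exact h.spanX hF hu hne (fun u' hu' => h.comp_pR_apply φ hu') h1

theorem SpCfg.W1 [FiniteDimensional K V] (h : SpCfg G fl U) (hF : Full G) (hno : NoSL G)
    {u : V} (hu : u ∈ U) (hne : u ≠ 0) {v : V} (hin : In G v (fl u)) :
    (∃ c : K, pL h.compl v = c • u) ∧ pR h.compl v ∈ WSub hF (LinearMap.ker fl) := by
  have hc := h.compl
  have huv : fl u v = 0 := hin.inc
  have key : ∀ y ∈ U, fl u y = 0 → fl (pL hc v) y = 0 := by
    intro y hy hyu
    by_contra hne2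
    have hyv : fl y v ≠ 0 := by
      rw [← h.apply_pL, h.skew]; simpa using hne2
    have h1 := hF.conjT (h.mem y hy) hin 1
    rw [hyu, mul_zero, zero_smul, sub_zero, one_mul] at h1
    have h2 := h1.sub_left hin
    rw [add_sub_cancel_left] at h2
    have h3 := hF.of_smul_left hyv h2
    have hy0 : y ≠ 0 := by
      rintro rfl
      simp at hyv
    obtain ⟨c, hc'⟩ := h.star hF hno hy hy0 (fun w hw => h.rad_right hw u) h3
    have huy : u = c • y := h.inj hu (U.smul_mem c hy) (by rw [hc', map_smul])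
    have hc0 : c ≠ 0 := by
      rintro rfl
      rw [zero_smul] at huy
      exact hne huy
    apply hyv
    have : fl (c • y) v = 0 := by rw [← huy]; exact huv
    rw [map_smul, LinearMap.smul_apply, smul_eq_mul] at this
    rcases mul_eq_zero.mp this with h4 | h4
    · exact absurd h4 hc0
    · exact h4
  obtain ⟨c, hcv⟩ := h.prop hu (pL_mem hc v) key
  refine ⟨⟨c, hcv⟩, ?_⟩
  have h1 : In G (pL hc v) (fl u) := by
    rw [hcv]; exact hF.smul_left (h.mem u hu) c
  have h2 : In G (pR hc v) (fl u) := by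
    have := hin.sub_left h1
    have e : v - pL hc v = pR hc v := by
      rw [sub_eq_iff_eq_add, add_comm, pL_add_pR]
    rwa [e] at this
  exact h.spanW hF (pR_mem hc v) hu hne h2

theorem SpCfg.three [FiniteDimensional K V] (h : SpCfg G fl U) {u : V} (hu : u ∈ U) (hne : u ≠ 0)
    {w : V} (hw : w ∈ LinearMap.ker fl) (hw0 : w ≠ 0) :
    3 ≤ finrank K ↥(U ⊔ Submodule.span K {w}) := by
  obtain ⟨u1, hu1, hu1ne⟩ := h.exists_ne hu hne
  have hlt1 : Submodule.span K {u} < U := by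
    refine lt_of_le_of_ne ?_ ?_
    · rw [Submodule.span_singleton_le_iff_mem]; exact hu
    · intro heq
      have : u1 ∈ Submodule.span K {u} := by rw [heq]; exact hu1
      obtain ⟨c, rfl⟩ := Submodule.mem_span_singleton.mp this
      apply hu1ne
      rw [map_smul, h.alt, smul_zero]
  have hlt2 : U < U ⊔ Submodule.span K {w} := by
    refine lt_of_le_of_ne le_sup_left ?_
    intro heq
    have : w ∈ U := by
      rw [heq]; exact Submodule.mem_sup_right (Submodule.mem_span_singleton_self w)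
    exact hw0 (inter_eq_zero h.compl this hw)
  have e1 := Submodule.finrank_lt_finrank_of_lt hlt1
  have e2 := Submodule.finrank_lt_finrank_of_lt hlt2
  rw [finrank_span_singleton hne] at e1
  omega

/-- Under `NoSL`, `XSub` and `WSub` are orthogonal. -/
theorem SpCfg.XW [FiniteDimensional K V] (h : SpCfg G fl U) (hF : Full G) (hno : NoSL G)
    {u : V} (hu : u ∈ U) (hne : u ≠ 0) {χ : Dual K V} (hχ : χ ∈ XSub hF U) {w : V}
    (hw : w ∈ WSub hF (LinearMap.ker fl)) : χ w = 0 := by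
  by_contra hχw
  have hw0 : w ≠ 0 := ne_zero_of_apply_ne' hχw
  exact hno _ _ (grow_cfg h.compl hF hχ hw hχw (h.three hu hne hw.1 hw0)).1

/-- The four types of an arbitrary transvection of `G` relative to a symplectic configuration. -/
theorem SpCfg.tri [FiniteDimensional K V] (h : SpCfg G fl U) (hF : Full G) (hno : NoSL G)
    {v : V} {φ : Dual K V} (hin : In G v φ) :
    (∃ u ∈ U, u ≠ 0 ∧ φ u = 0 ∧ fl u v ≠ 0 ∧ In G u φ ∧ (∃ c : K, φ ∘ₗ pL h.compl = c • fl u) ∧
        φ ∘ₗ pR h.compl ∈ XSub hF U) ∨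
    (∃ u ∈ U, u ≠ 0 ∧ fl u v = 0 ∧ φ u ≠ 0 ∧ In G v (fl u) ∧ (∃ c : K, pL h.compl v = c • u) ∧
        pR h.compl v ∈ WSub hF (LinearMap.ker fl)) ∨
    (pL h.compl v = 0 ∧ ∀ u ∈ U, φ u = 0) ∨
    (pL h.compl v ≠ 0 ∧ ∃ c : K, c ≠ 0 ∧ φ ∘ₗ pL h.compl = c • fl (pL h.compl v)) := by
  have hc := h.compl
  by_cases hA : ∃ u ∈ U, φ u = 0 ∧ fl u v ≠ 0
  · obtain ⟨u, hu, hφu, huv⟩ := hA
    have hu0 : u ≠ 0 := by
      rintro rfl; simp at huv
    have h1 : In G u φ := hF.comm (h.mem u hu) hin hφu huv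
    obtain ⟨h2, h3⟩ := h.X1 hF hno hu hu0 h1
    exact Or.inl ⟨u, hu, hu0, hφu, huv, h1, h2, h3⟩
  by_cases hB : ∃ u ∈ U, fl u v = 0 ∧ φ u ≠ 0
  · obtain ⟨u, hu, huv, hφu⟩ := hB
    have hu0 : u ≠ 0 := by
      rintro rfl; simp at hφu
    have h1 : In G v (fl u) := hF.comm hin (h.mem u hu) huv hφu
    obtain ⟨h2, h3⟩ := h.W1 hF hno hu hu0 h1
    exact Or.inr (Or.inl ⟨u, hu, hu0, huv, hφu, h1, h2, h3⟩)
  push_neg at hA hB
  right; right
  obtain ⟨x, hx, hfx⟩ := h.decomp φ
  have hφx : ∀ u ∈ U, φ u = fl x u := by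
    intro u hu
    rw [hfx, h.comp_pL_apply φ hu]
  by_cases hx0 : x = 0
  · left
    have hφU : ∀ u ∈ U, φ u = 0 := by
      intro u hu
      rw [hφx u hu, hx0, map_zero]; rfl
    refine ⟨?_, hφU⟩
    apply h.nondeg (pL_mem hc v)
    intro u hu
    rw [h.apply_pL', h.skew, hA u hu (hφU u hu), neg_zero]
  · right
    have hvU : pL hc v ≠ 0 := by
      intro hv0
      apply hx0
      apply h.nondeg hx
      intro u hu
      rw [← hφx u hu]
      apply hB u hu
      rw [← h.apply_pL, hv0, map_zero]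
    refine ⟨hvU, ?_⟩
    obtain ⟨c, hcx⟩ := h.prop (pL_mem hc v) hx (by
      intro u hu hvu
      rw [← hφx u hu]
      apply hB u hu
      rw [← h.apply_pL, h.skew, hvu, neg_zero])
    have hc0 : c ≠ 0 := by
      rintro rfl
      rw [zero_smul] at hcx
      exact hx0 hcx
    exact ⟨c, hc0, by rw [← hfx, hcx, map_smul]⟩

end Cfsg.Agent.Lib.Helper2.Mcl
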