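import Cfsg.Agent.Lib.Helper2.MclD

set_option autoImplicit false
set_option maxHeartbeats 1000000
set_option linter.unusedVariables false
set_option linter.unusedSectionVars false
set_option linter.style.longLine false
set_option linter.unusedSimpArgs false
set_option linter.deprecated false
set_option linter.style.haveILetI false

/-!
# McLaughlin's theorem (S5075): the symplectic step, part 2 (classification of transvections)
-/

namespace Cfsg.Agent.Lib.Helper2.Mcl

open Module LinearMap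

variable {K : Type*} [Field K] {V : Type*} [AddCommGroup V] [Module K V]
variable {G : Subgroup (V ≃ₗ[K] V)} {fl : V →ₗ[K] Dual K V} {U : Submodule K V}

theorem SpCfg.fl_ne_zero (h : SpCfg G fl U) {u : V} (hu : u ∈ U) (hne : u ≠ 0) : fl u ≠ 0 := by
  obtain ⟨u', _, hne'⟩ := h.exists_ne hu hne
  exact ne_zero_of_apply_ne hne'

theorem SpCfg.not_mem_Rad (h : SpCfg G fl U) {u : V} (hu : u ∈ U) (hne : u ≠ 0) : u ∉ Rad G := by
  intro hcon
  obtain ⟨u', hu', hne'⟩ := h.exists_ne hu hne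
  have hu'0 : u' ≠ 0 := by
    rintro rfl; simp at hne'
  have := hcon u' (fl u') (h.mem u' hu') hu'0
  rw [h.skew] at hne'
  exact hne' (by rw [this, neg_zero])

theorem SpCfg.mem_Cen (h : SpCfg G fl U) {u : V} (hu : u ∈ U) : u ∈ Cen G := by
  by_cases hne : u = 0
  · rw [hne]; exact Submodule.zero_mem _
  · exact mem_Cen_of_in (h.mem u hu) (h.fl_ne_zero hu hne)

theorem apply_eq_comp_pR {U W : Submodule K V} (hc : IsCompl U W) (φ : Dual K V) {w : V}
    (hw : w ∈ W) : (φ ∘ₗ pR hc) w = φ w := by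
  rw [LinearMap.comp_apply, pR_of_mem hc hw]

theorem chi_apply_eq {U W : Submodule K V} (hc : IsCompl U W) {χ : Dual K V}
    (hχ : ∀ u ∈ U, χ u = 0) (v : V) : χ v = χ (pR hc v) := by
  conv_lhs => rw [← pL_add_pR hc v]
  rw [map_add, hχ _ (pL_mem hc v), zero_add]

theorem sub_pL_eq {U W : Submodule K V} (hc : IsCompl U W) (v : V) : v - pL hc v = pR hc v := by
  rw [sub_eq_iff_eq_add, add_comm, pL_add_pR]

theorem sub_comp_pL_eq {U W : Submodule K V} (hc : IsCompl U W) (φ : Dual K V) :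
    φ - φ ∘ₗ pL hc = φ ∘ₗ pR hc := by
  rw [sub_eq_iff_eq_add, add_comm, comp_pL_add_comp_pR]

/-- `XSub = ⊥` -/
theorem SpCfg.XSub_eq_bot [FiniteDimensional K V] (h : SpCfg G fl U) (hR : Rel G) (hno : NoSL G)
    {ua : V} (hua : ua ∈ U) (hua0 : ua ≠ 0) : ∀ χ ∈ XSub hR.full U, χ = 0 := by
  have hF := hR.full
  have hc := h.compl
  let S : Submodule K V :=
    { carrier := {y | ∀ χ ∈ XSub hF U, χ y = 0}
      add_mem' := by
        intro a b ha hb χ hχ
        rw [map_add, ha χ hχ, hb χ hχ, add_zero]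
      zero_mem' := fun χ _ => map_zero χ
      smul_mem' := by
        intro c a ha χ hχ
        rw [map_smul, ha χ hχ, smul_zero] }
  have key : ∀ (v : V) (φ : Dual K V), In G v φ → (∃ χ ∈ XSub hF U, χ v ≠ 0) → ∀ y ∈ S, φ y = 0 := by
    rintro v φ hin ⟨χ, hχ, hχv⟩ y hy
    have hχv' : χ (pR hc v) ≠ 0 := by rwa [← chi_apply_eq hc hχ.1]
    rcases h.tri hF hno hin with ⟨u, hu, hu0, hφu, huv, h1, ⟨c, hcφ⟩, hX⟩ |
      ⟨u, hu, hu0, huv, hφu, h1, _, hW⟩ | ⟨hv0, hφU⟩ | ⟨hvU, c, hc0, hcφ⟩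
    · by_cases hc0 : c = 0
      · rw [h.eq_comp_add φ, LinearMap.add_apply, hcφ, hc0, zero_smul, LinearMap.zero_apply, zero_add]
        exact hy _ hX
      · exfalso
        have e1 : φ (pL hc v) = c * fl u v := by
          rw [← h.comp_pL_apply φ (pL_mem hc v), hcφ, LinearMap.smul_apply, h.apply_pL, smul_eq_mul]
        have e2 : φ (pL hc v) ≠ 0 := by
          rw [e1]; exact mul_ne_zero hc0 huv
        have e3 : fl (pL hc v) v = 0 := by rw [h.apply_pL', h.alt]
        have hvU0 : pL hc v ≠ 0 := ne_zero_of_apply_ne' e2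
        have h2 : In G v (fl (pL hc v)) := hF.comm hin (h.mem _ (pL_mem hc v)) e3 e2
        have hW := (h.W1 hF hno (pL_mem hc v) hvU0 h2).2
        exact hχv' (h.XW hF hno hua hua0 hχ hW)
    · exact absurd (h.XW hF hno hua hua0 hχ hW) hχv'
    · exact hy φ (typeD_mem_XSub hF hin hφU hχ hχv)
    · exfalso
      have e1 : φ (pL hc v) = 0 := by
        rw [← h.comp_pL_apply φ (pL_mem hc v), hcφ, LinearMap.smul_apply, h.alt, smul_zero]
      have h2 : In G (pL hc v) φ := hF.comm (hχ.2 _ (pL_mem hc v)) hin e1 hχv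
      have h3 : In G (pR hc v) φ := by
        have := hin.sub_left h2
        rwa [sub_pL_eq] at this
      obtain ⟨u', hu', hne'⟩ := h.exists_ne (pL_mem hc v) hvU
      have e2 : φ u' ≠ 0 := by
        rw [← h.comp_pL_apply φ hu', hcφ, LinearMap.smul_apply, smul_eq_mul]
        exact mul_ne_zero hc0 hne'
      have hu'0 : u' ≠ 0 := ne_zero_of_apply_ne' e2
      have h4 : In G (pR hc v) (fl u') :=
        hF.comm h3 (h.mem u' hu') (h.rad_right (pR_mem hc v) u') e2
      have hW := (h.W1 hF hno hu' hu'0 h4).2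
      rw [pR_of_mem hc (pR_mem hc v)] at hW
      exact hχv' (h.XW hF hno hua hua0 hχ hW)
  have hinv : ∀ (v : V) (φ : Dual K V), In G v φ → ∀ y ∈ S, φ y • v ∈ S := by
    intro v φ hin y hy
    by_cases hvS : v ∈ S
    · exact S.smul_mem _ hvS
    · have : ∃ χ ∈ XSub hF U, χ v ≠ 0 := by
        by_contra hcon
        push_neg at hcon
        exact hvS hcon
      rw [key v φ hin this y hy, zero_smul]
      exact S.zero_mem
  have hCen : Cen G ≤ S := by
    rcases hR.ri S hinv with h1 | h1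
    · exfalso
      exact h.not_mem_Rad hua hua0 (h1 (fun χ hχ => hχ.1 ua hua))
    · exact h1
  intro χ hχ
  by_contra hχ0
  obtain ⟨v', f', hin', hf', hχv'⟩ := hR.nc2 ua χ (hχ.2 ua hua) hua0 hχ0
  exact hχv' (hCen (mem_Cen_of_in hin' hf') χ hχ)

/-- `WSub = ⊥` -/
theorem SpCfg.WSub_eq_bot [FiniteDimensional K V] (h : SpCfg G fl U) (hR : Rel G) (hno : NoSL G)
    {ua : V} (hua : ua ∈ U) (hua0 : ua ≠ 0) : ∀ w ∈ WSub hR.full (LinearMap.ker fl), w = 0 := by
  have hF := hR.full
  have hc := h.compl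
  have key : ∀ (v : V) (φ : Dual K V), In G v φ → ∀ w1 ∈ WSub hF (LinearMap.ker fl), φ w1 ≠ 0 →
      v ∈ WSub hF (LinearMap.ker fl) := by
    intro v φ hin w1 hw1 hφw1
    have hφw1' : (φ ∘ₗ pR hc) w1 ≠ 0 := by rwa [apply_eq_comp_pR hc φ hw1.1]
    rcases h.tri hF hno hin with ⟨u, hu, hu0, hφu, huv, h1, ⟨c, hcφ⟩, hX⟩ |
      ⟨u, hu, hu0, huv, hφu, h1, ⟨c, hcv⟩, hW⟩ | ⟨hv0, hφU⟩ | ⟨hvU, c, hc0, hcφ⟩
    · exact absurd (h.XW hF hno hua hua0 hX hw1) hφw1'
    · by_cases hvU : pL hc v = 0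
      · rw [← pL_add_pR hc v, hvU, zero_add]; exact hW
      · exfalso
        obtain ⟨x, hx, hfx⟩ := h.decomp φ
        have hc0 : c ≠ 0 := by
          rintro rfl
          rw [zero_smul] at hcv
          exact hvU hcv
        have e1 : φ x = 0 := by
          rw [← h.comp_pL_apply φ hx, ← hfx, h.alt]
        have e2 : fl x v ≠ 0 := by
          rw [← h.apply_pL, hfx, h.comp_pL_apply φ (pL_mem hc v), hcv, map_smul, smul_eq_mul]
          exact mul_ne_zero hc0 hφu
        have hx0 : x ≠ 0 := by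
          rintro rfl; simp at e2
        have h2 : In G x φ := hF.comm (h.mem x hx) hin e1 e2
        have hX := (h.X1 hF hno hx hx0 h2).2
        exact hφw1' (h.XW hF hno hua hua0 hX hw1)
    · have hvW : v ∈ LinearMap.ker fl := by
        rw [← pL_add_pR hc v, hv0, zero_add]; exact pR_mem hc v
      exact typeD_mem_WSub hF hin hvW hw1 hφw1
    · exfalso
      have e1 : fl (pL hc v) v = 0 := by rw [h.apply_pL', h.alt]
      have h2 : In G v (fl (pL hc v)) :=
        hF.comm hin (hw1.2 _ (fun w' hw' => h.rad_right hw' _)) e1 hφw1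
      have h3 : In G v (φ ∘ₗ pR hc) := by
        have := hin.sub_right (hF.smul_right h2 c)
        rwa [← hcφ, sub_comp_pL_eq] at this
      obtain ⟨u', hu', hne'⟩ := h.exists_ne (pL_mem hc v) hvU
      have e2 : fl u' v ≠ 0 := by
        rw [← h.apply_pL, h.skew]; simpa using hne'
      have hu'0 : u' ≠ 0 := by
        rintro rfl; simp at e2
      have h4 : In G u' (φ ∘ₗ pR hc) :=
        hF.comm (h.mem u' hu') h3 (h.comp_pR_apply φ hu') e2
      have hX := h.spanX hF hu' hu'0 (fun u'' hu'' => h.comp_pR_apply φ hu'') h4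
      exact hφw1' (h.XW hF hno hua hua0 hX hw1)
  have hinv : ∀ (v : V) (φ : Dual K V), In G v φ → ∀ y ∈ WSub hF (LinearMap.ker fl),
      φ y • v ∈ WSub hF (LinearMap.ker fl) := by
    intro v φ hin y hy
    by_cases hφy : φ y = 0
    · rw [hφy, zero_smul]; exact Submodule.zero_mem _
    · exact Submodule.smul_mem _ _ (key v φ hin y hy hφy)
  have hle : WSub hF (LinearMap.ker fl) ≤ Rad G := by
    rcases hR.ri _ hinv with h1 | h1
    · exact h1
    · exfalso
      have := h1 (h.mem_Cen hua)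
      exact hua0 (inter_eq_zero hc hua this.1)
  intro w hw
  by_contra hw0
  exact hR.nc1 w (fl ua) (hw.2 _ (fun w' hw' => h.rad_right hw' _)) hw0 (h.fl_ne_zero hua hua0)
    (hle hw)

/-- Classification of the nontrivial transvections of `G`. -/
theorem SpCfg.classify [FiniteDimensional K V] (h : SpCfg G fl U) (hR : Rel G) (hno : NoSL G)
    {ua : V} (hua : ua ∈ U) (hua0 : ua ≠ 0) {v : V} {φ : Dual K V} (hin : In G v φ) (hv : v ≠ 0)
    (hφ : φ ≠ 0) :
    (pL h.compl v = 0 ∧ ∀ u ∈ U, φ u = 0) ∨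
    (pL h.compl v ≠ 0 ∧ ∃ c : K, c ≠ 0 ∧ φ ∘ₗ pL h.compl = c • fl (pL h.compl v)) := by
  have hF := hR.full
  have hc := h.compl
  rcases h.tri hF hno hin with ⟨u, hu, hu0, hφu, huv, h1, ⟨c, hcφ⟩, hX⟩ |
      ⟨u, hu, hu0, huv, hφu, h1, ⟨c, hcv⟩, hW⟩ | h3 | h4
  · exfalso
    have e0 := h.XSub_eq_bot hR hno hua hua0 _ hX
    have e1 : φ = c • fl u := by
      rw [h.eq_comp_add φ, e0, add_zero, hcφ]
    have e2 : c * fl u v = 0 := by
      have := hin.inc
      rw [e1, LinearMap.smul_apply, smul_eq_mul] at this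
      exact this
    rcases mul_eq_zero.mp e2 with h5 | h5
    · apply hφ
      rw [e1, h5, zero_smul]
    · exact huv h5
  · exfalso
    have e0 := h.WSub_eq_bot hR hno hua hua0 _ hW
    have e1 : v = c • u := by
      rw [← pL_add_pR hc v, e0, add_zero, hcv]
    have e2 : c * φ u = 0 := by
      have := hin.inc
      rw [e1, map_smul, smul_eq_mul] at this
      exact this
    rcases mul_eq_zero.mp e2 with h5 | h5
    · apply hv
      rw [e1, h5, zero_smul]
    · exact hφu h5
  · exact Or.inl h3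
  · exact Or.inr h4

/-- a type (D) transvection with centre in `U` is a symplectic transvection of `U`. -/
theorem SpCfg.typeK_of_pR_eq_zero [FiniteDimensional K V] (h : SpCfg G fl U) (hR : Rel G)
    (hno : NoSL G) {v : V} {φ : Dual K V} (hin : In G v φ) (hvU : pL h.compl v ≠ 0)
    (hvW : pR h.compl v = 0) : φ ∘ₗ pR h.compl = 0 := by
  have hc := h.compl
  have hv : v = pL hc v := by
    conv_lhs => rw [← pL_add_pR hc v, hvW, add_zero]
  have hvmem : v ∈ U := by rw [hv]; exact pL_mem hc v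
  have hv0 : v ≠ 0 := by rw [hv]; exact hvU
  exact h.XSub_eq_bot hR hno hvmem hv0 _ (h.X1 hR.full hno hvmem hv0 hin).2

/-- a type (D) transvection with axis containing the radical is a symplectic transvection of `U`. -/
theorem SpCfg.typeK_of_comp_pR_eq_zero [FiniteDimensional K V] (h : SpCfg G fl U) (hR : Rel G)
    (hno : NoSL G) {v : V} {φ : Dual K V} (hin : In G v φ) (hvU : pL h.compl v ≠ 0)
    {c : K} (hc0 : c ≠ 0) (hcφ : φ ∘ₗ pL h.compl = c • fl (pL h.compl v))
    (hφW : φ ∘ₗ pR h.compl = 0) : pR h.compl v = 0 := by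
  have hc := h.compl
  have hF := hR.full
  have e1 : φ = c • fl (pL hc v) := by
    rw [h.eq_comp_add φ, hφW, add_zero, hcφ]
  have h1 : In G v (fl (pL hc v)) := by
    rw [e1] at hin
    exact hF.of_smul_right hc0 hin
  exact h.WSub_eq_bot hR hno (pL_mem hc v) hvU _ (h.W1 hF hno (pL_mem hc v) hvU h1).2

end Cfsg.Agent.Lib.Helper2.Mcl
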