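import Cfsg.Agent.Lib.Helper2.MclE

set_option autoImplicit false
set_option maxHeartbeats 1000000
set_option linter.unusedVariables false
set_option linter.unusedSectionVars false
set_option linter.style.longLine false
set_option linter.unusedSimpArgs false
set_option linter.deprecated false
set_option linter.style.haveILetI false

/-!
# McLaughlin's theorem (S5075): the symplectic step, part 3 (extension of a configuration)
-/

namespace Cfsg.Agent.Lib.Helper2.Mcl

open Module LinearMap

variable {K : Type*} [Field K] {V : Type*} [AddCommGroup V] [Module K V]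
variable {G : Subgroup (V ≃ₗ[K] V)} {fl : V →ₗ[K] Dual K V} {U : Submodule K V}

/-- The orbit of a mixed transvection under the symplectic group of `U`. -/
theorem SpCfg.mixed_orbit (h : SpCfg G fl U) (hF : Full G) {z : V} (hz : z ∈ LinearMap.ker fl)
    {ζ : Dual K V} (hζ : ∀ u ∈ U, ζ u = 0) {y0 : V} (hy0 : y0 ∈ U) (hy00 : y0 ≠ 0)
    (h0 : In G (y0 + z) (fl y0 + ζ)) : ∀ y ∈ U, y ≠ 0 → In G (y + z) (fl y + ζ) := by
  intro y hy hyne
  refine h.orbit (fun y => In G (y + z) (fl y + ζ)) ?_ y0 hy0 y hy hy00 hyne h0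
  intro y hy u' hu' c hPy
  have h1 := hF.conjT (h.mem u' hu') hPy c
  convert h1 using 1
  · rw [map_add, h.rad_right hz, add_zero]
    module
  · rw [LinearMap.add_apply, hζ u' hu', add_zero, map_add, map_smul, h.skew y u']
    module

/-- Extending a symplectic configuration by a hyperbolic plane. -/
theorem SpCfg.extend [FiniteDimensional K V] (h : SpCfg G fl U) (hF : Full G) (h2 : (2 : K) ≠ 0)
    {ua : V} (hua : ua ∈ U) (hua0 : ua ≠ 0) {z w : V} {ζ χ : Dual K V}
    (hz : z ∈ LinearMap.ker fl) (hw : w ∈ LinearMap.ker fl)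
    (hζU : ∀ u ∈ U, ζ u = 0) (hχU : ∀ u ∈ U, χ u = 0)
    (hmix : ∀ y ∈ U, y ≠ 0 → In G (y + z) (fl y + ζ)) (hwχ : In G w χ)
    (hζz : ζ z = 0) (hlam : ζ w ≠ 0) (hμ : χ z ≠ 0) :
    ∃ (fl' : V →ₗ[K] Dual K V) (U' : Submodule K V), SpCfg G fl' U' ∧ U ≤ U' ∧
      finrank K (LinearMap.ker fl') < finrank K (LinearMap.ker fl) := by
  have hc := h.compl
  have hχw : χ w = 0 := hwχ.inc
  have hfz : fl z = 0 := LinearMap.mem_ker.mp hz
  have hfw : fl w = 0 := LinearMap.mem_ker.mp hw
  have hrz : ∀ x, fl x z = 0 := fun x => h.rad_right hz x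
  have hrw : ∀ x, fl x w = 0 := fun x => h.rad_right hw x
  obtain ⟨μ, hμdef⟩ : ∃ μ, μ = χ z := ⟨_, rfl⟩
  obtain ⟨lam, hlamdef⟩ : ∃ lam, lam = ζ w := ⟨_, rfl⟩
  rw [← hμdef] at hμ
  rw [← hlamdef] at hlam
  obtain ⟨fl', hfl'⟩ : ∃ fl' : V →ₗ[K] Dual K V, fl' = fl + μ⁻¹ • (χ.smulRight ζ - ζ.smulRight χ) :=
    ⟨_, rfl⟩
  have fl'_apply : ∀ a b, fl' a b = fl a b + μ⁻¹ * (χ a * ζ b - ζ a * χ b) := by
    intro a b
    rw [hfl']
    simp only [LinearMap.add_apply, LinearMap.smul_apply, LinearMap.sub_apply,
      LinearMap.smulRight_apply, smul_eq_mul]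
  have halt' : ∀ x, fl' x x = 0 := by
    intro x; rw [fl'_apply, h.alt]; ring
  have eval : ∀ aU ∈ U, ∀ bU ∈ U, ∀ a1 a2 b1 b2 : K,
      fl' (aU + a1 • z + a2 • w) (bU + b1 • z + b2 • w) = fl aU bU + lam * (a1 * b2 - a2 * b1) := by
    intro aU haU bU hbU a1 a2 b1 b2
    rw [fl'_apply]
    simp only [map_add, map_smul, LinearMap.add_apply, LinearMap.smul_apply, smul_eq_mul,
      hχU aU haU, hχU bU hbU, hζU aU haU, hζU bU hbU, hζz, hχw, hfz, hfw, hrz, hrw,
      LinearMap.zero_apply, mul_zero, add_zero, zero_add, ← hμdef, ← hlamdef]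
    field_simp
  -- the set C
  have C_U : ∀ u ∈ U, In G u (fl' u) := by
    intro u hu
    have e : fl' u = fl u := by
      ext x
      rw [fl'_apply, hχU u hu, hζU u hu]; ring
    rw [e]; exact h.mem u hu
  have C_mix : ∀ y ∈ U, y ≠ 0 → In G (y + z) (fl' (y + z)) := by
    intro y hy hyne
    have e : fl' (y + z) = fl y + ζ := by
      ext x
      rw [fl'_apply, map_add, map_add, map_add, hfz, hχU y hy, hζU y hy, hζz, ← hμdef]
      simp only [LinearMap.add_apply, LinearMap.zero_apply, add_zero, zero_add, mul_zero, zero_mul,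
        sub_zero]
      field_simp
    rw [e]; exact hmix y hy hyne
  have C_w : In G w (fl' w) := by
    have e : fl' w = (-(lam / μ)) • χ := by
      ext x
      rw [fl'_apply, hfw, hχw, ← hlamdef]
      simp only [LinearMap.zero_apply, LinearMap.smul_apply, smul_eq_mul, zero_mul, zero_sub, zero_add]
      field_simp
    rw [e]; exact hF.smul_right hwχ _
  have C_smul : ∀ (y : V) (a : K), In G y (fl' y) → In G (a • y) (fl' (a • y)) := by
    intro y a hy
    rw [map_smul]
    exact hF.smul_left (hF.smul_right hy a) a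
  have mv : ∀ y y' : V, In G y (fl' y) → In G y' (fl' y') → ∀ c : K,
      In G (y + (c * fl' y' y) • y') (fl' (y + (c * fl' y' y) • y')) :=
    fun y y' hy hy' c => move hF halt' hy hy' c
  -- step a
  have Ca : ∀ y ∈ U, y ≠ 0 → ∀ b : K, In G (y + z + b • w) (fl' (y + z + b • w)) := by
    intro y hy hyne b
    have e1 : fl' w (y + z) = -lam := by
      have := eval 0 U.zero_mem y hy 0 1 1 0
      simpa using this
    have := mv _ _ (C_mix y hy hyne) C_w (-b / lam)
    rw [e1] at this
    have e2 : -b / lam * -lam = b := by field_simp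
    rwa [e2] at this
  -- step c
  have Cc : In G (z + w) (fl' (z + w)) := by
    have hy1 := C_mix ua hua hua0
    have hy2 := Ca (-ua) (U.neg_mem hua) (neg_ne_zero.mpr hua0) 2
    have e1 : fl' (-ua + z + (2 : K) • w) (ua + z) = -(2 * lam) := by
      have := eval (-ua) (U.neg_mem hua) ua hua 1 2 1 0
      simp only [one_smul, zero_smul, add_zero, map_neg, LinearMap.neg_apply, h.alt, neg_zero,
        zero_add, mul_zero, mul_one, zero_sub, mul_neg] at this
      rw [this]; ring
    have := mv _ _ hy1 hy2 (-(2 * lam)⁻¹)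
    rw [e1] at this
    have hne : (2 : K) * lam ≠ 0 := mul_ne_zero h2 hlam
    have e2 : -(2 * lam)⁻¹ * -(2 * lam) = 1 := by field_simp
    rw [e2, one_smul] at this
    have e3 : ua + z + (-ua + z + (2 : K) • w) = (2 : K) • (z + w) := by module
    rw [e3] at this
    have := C_smul _ (2 : K)⁻¹ this
    rwa [smul_smul, inv_mul_cancel₀ h2, one_smul] at this
  -- step d
  have Cz : In G z (fl' z) := by
    have e1 : fl' w (z + w) = -lam := by
      have := eval 0 U.zero_mem 0 U.zero_mem 0 1 1 1
      simpa using this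
    have := mv _ _ Cc C_w (1 / lam)
    rw [e1] at this
    have e2 : 1 / lam * -lam = -1 := by field_simp
    rw [e2] at this
    have e3 : z + w + (-1 : K) • w = z := by module
    rwa [e3] at this
  -- step e
  have CH : ∀ a b : K, In G (a • z + b • w) (fl' (a • z + b • w)) := by
    intro a b
    by_cases ha : a = 0
    · rw [ha, zero_smul, zero_add]; exact C_smul _ _ C_w
    · have e1 : fl' w z = -lam := by
        have := eval 0 U.zero_mem 0 U.zero_mem 0 1 1 0
        simpa using this
      have := mv _ _ Cz C_w (-(b / a) / lam)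
      rw [e1] at this
      have e2 : -(b / a) / lam * -lam = b / a := by field_simp
      rw [e2] at this
      have := C_smul _ a this
      have e3 : a • (z + (b / a) • w) = a • z + b • w := by
        rw [smul_add, smul_smul]
        congr 2
        field_simp
      rwa [e3] at this
  -- step f
  have CUH : ∀ u ∈ U, ∀ a b : K, In G (u + (a • z + b • w)) (fl' (u + (a • z + b • w))) := by
    intro u hu a b
    by_cases hu0 : u = 0
    · rw [hu0, zero_add]; exact CH a b
    by_cases hab : a • z + b • w = 0
    · rw [hab, add_zero]; exact C_U u hu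
    let H : Submodule K V := Submodule.span K {z, w}
    have hHmem : ∀ x ∈ H, ∃ a b : K, a • z + b • w = x := fun x hx => Submodule.mem_span_pair.mp hx
    have hnd : ∀ x ∈ H, x ≠ 0 → ∃ x' ∈ H, fl' x x' ≠ 0 := by
      intro x hx hx0
      obtain ⟨a', b', rfl⟩ := hHmem x hx
      by_cases ha' : a' = 0
      · have hb' : b' ≠ 0 := by
          rintro rfl
          apply hx0
          rw [ha']; simp
        refine ⟨z, Submodule.subset_span (by simp), ?_⟩
        have := eval 0 U.zero_mem 0 U.zero_mem a' b' 1 0
        simp only [zero_add, one_smul, zero_smul, add_zero, map_zero, LinearMap.zero_apply, mul_zero,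
          mul_one, zero_sub] at this
        rw [this]
        exact mul_ne_zero hlam (neg_ne_zero.mpr hb')
      · refine ⟨w, Submodule.subset_span (by simp), ?_⟩
        have := eval 0 U.zero_mem 0 U.zero_mem a' b' 0 1
        simp only [zero_add, one_smul, zero_smul, add_zero, map_zero, LinearMap.zero_apply, mul_zero,
          mul_one, sub_zero] at this
        rw [this]
        exact mul_ne_zero hlam ha'
    have hz0 : z ≠ 0 := by
      rintro rfl
      apply hμ
      rw [hμdef]; simp
    have hP : ∀ x ∈ H, ∀ x' ∈ H, ∀ c : K, In G (u + x) (fl' (u + x)) →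
        In G (u + (x + (c * fl' x' x) • x')) (fl' (u + (x + (c * fl' x' x) • x'))) := by
      intro x hx x' hx' c hPx
      obtain ⟨a1, b1, rfl⟩ := hHmem x hx
      obtain ⟨a2, b2, rfl⟩ := hHmem x' hx'
      have := mv _ _ hPx (CH a2 b2) c
      have e1 : fl' (a2 • z + b2 • w) (u + (a1 • z + b1 • w)) = fl' (a2 • z + b2 • w) (a1 • z + b1 • w) := by
        have t1 := eval 0 U.zero_mem u hu a2 b2 a1 b1
        have t2 := eval 0 U.zero_mem 0 U.zero_mem a2 b2 a1 b1
        simp only [zero_add, map_zero, LinearMap.zero_apply] at t1 t2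
        rw [← add_assoc, t1, t2]
      rw [e1] at this
      rwa [add_assoc] at this
    have := orbit_of_nondeg halt' H hnd (fun x => In G (u + x) (fl' (u + x))) hP z
      (Submodule.subset_span (by simp)) (a • z + b • w) (Submodule.mem_span_pair.mpr ⟨a, b, rfl⟩)
      hz0 hab (C_mix u hu hu0)
    exact this
  refine ⟨fl', U ⊔ Submodule.span K {z, w}, ⟨halt', ⟨?_, ?_⟩, ?_⟩, le_sup_left, ?_⟩
  · -- disjoint
    rw [Submodule.disjoint_def]
    intro y hy hy'
    obtain ⟨u, hu, x, hx, rfl⟩ := Submodule.mem_sup.mp hy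
    obtain ⟨a, b, rfl⟩ := Submodule.mem_span_pair.mp hx
    rw [LinearMap.mem_ker] at hy'
    have hu0 : u = 0 := by
      apply h.nondeg hu
      intro u1 hu1
      have t := eval u hu u1 hu1 a b 0 0
      simp only [zero_smul, add_zero, mul_zero, sub_zero] at t
      rw [← t, add_assoc, hy']; rfl
    have ha : a = 0 := by
      have t := eval u hu 0 U.zero_mem a b 0 1
      simp only [zero_smul, add_zero, zero_add, one_smul, mul_one, mul_zero, sub_zero, map_zero] at t
      rw [add_assoc, hy'] at t
      have : lam * a = 0 := by simpa using t.symm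
      rcases mul_eq_zero.mp this with h3 | h3
      · exact absurd h3 hlam
      · exact h3
    have hb : b = 0 := by
      have t := eval u hu 0 U.zero_mem a b 1 0
      simp only [zero_smul, add_zero, zero_add, one_smul, mul_one, mul_zero, zero_sub, map_zero] at t
      rw [add_assoc, hy'] at t
      have : lam * -b = 0 := by simpa using t.symm
      rcases mul_eq_zero.mp this with h3 | h3
      · exact absurd h3 hlam
      · exact neg_eq_zero.mp h3
    rw [hu0, ha, hb]; simp
  · -- codisjoint
    rw [Submodule.codisjoint_iff_exists_add_eq]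
    intro z0
    set a := χ (pR hc z0) / μ with ha
    set b := ζ (pR hc z0) / lam with hb
    refine ⟨pL hc z0 + (a • z + b • w), pR hc z0 - (a • z + b • w),
      Submodule.add_mem _ (Submodule.mem_sup_left (pL_mem hc z0))
        (Submodule.mem_sup_right (Submodule.mem_span_pair.mpr ⟨a, b, rfl⟩)), ?_, ?_⟩
    · rw [LinearMap.mem_ker]
      ext x
      have hr : fl (pR hc z0 - (a • z + b • w)) = 0 := by
        rw [map_sub, map_add, map_smul, map_smul, hfz, hfw, LinearMap.mem_ker.mp (pR_mem hc z0)]
        simp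
      rw [fl'_apply, hr]
      simp only [map_sub, map_add, map_smul, smul_eq_mul, hχw, hζz, ← hμdef, ← hlamdef,
        LinearMap.zero_apply, mul_zero, add_zero, zero_add]
      rw [ha, hb]
      field_simp
      ring
    · have := pL_add_pR hc z0
      have e : pL hc z0 + (a • z + b • w) + (pR hc z0 - (a • z + b • w)) = pL hc z0 + pR hc z0 := by
        abel
      rw [e, this]
  · -- membership
    intro y hy
    obtain ⟨u, hu, x, hx, rfl⟩ := Submodule.mem_sup.mp hy
    obtain ⟨a, b, rfl⟩ := Submodule.mem_span_pair.mp hx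
    exact CUH u hu a b
  · -- the radical shrinks
    apply Submodule.finrank_lt_finrank_of_lt
    refine lt_of_le_of_ne ?_ ?_
    · intro y hy
      rw [LinearMap.mem_ker] at hy ⊢
      ext x
      rw [← h.apply_pL]
      have := fl'_apply y (pL hc x)
      rw [hy, hχU _ (pL_mem hc x), hζU _ (pL_mem hc x)] at this
      simp only [LinearMap.zero_apply, mul_zero, sub_zero, add_zero] at this
      rw [← this]; rfl
    · intro heq
      have hw' : w ∈ LinearMap.ker fl' := by rw [heq]; exact hw
      rw [LinearMap.mem_ker] at hw'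
      have t := eval 0 U.zero_mem 0 U.zero_mem 0 1 1 0
      simp only [zero_add, zero_smul, one_smul, add_zero, map_zero, LinearMap.zero_apply, mul_zero,
        mul_one, zero_sub] at t
      rw [hw'] at t
      have : lam = 0 := by
        have t' : (0 : K) = lam * -1 := by simpa using t
        linear_combination t'
      exact hlam this

end Cfsg.Agent.Lib.Helper2.Mcl
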