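import Cfsg.Agent.Lib.Helper2.MclF

set_option autoImplicit false
set_option maxHeartbeats 1000000
set_option linter.unusedVariables false
set_option linter.unusedSectionVars false
set_option linter.style.longLine false
set_option linter.unusedSimpArgs false
set_option linter.deprecated false
set_option linter.style.haveILetI false

/-!
# McLaughlin's theorem (S5075): the symplectic step, part 4, and the relative theorem
-/

namespace Cfsg.Agent.Lib.Helper2.Mcl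

open Module LinearMap

variable {K : Type*} [Field K] {V : Type*} [AddCommGroup V] [Module K V]
variable {G : Subgroup (V ≃ₗ[K] V)} {fl : V →ₗ[K] Dual K V} {U : Submodule K V}

/-- The terminal situation: no mixed transvections. -/
theorem SpCfg.terminal [FiniteDimensional K V] (h : SpCfg G fl U) (hR : Rel G) (hno : NoSL G)
    {ua : V} (hua : ua ∈ U) (hua0 : ua ≠ 0)
    (hnm : ∀ (v : V) (φ : Dual K V), In G v φ → φ ≠ 0 → pL h.compl v ≠ 0 → pR h.compl v = 0) :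
    U = Cen G ∧ LinearMap.ker fl = Rad G ∧
      ∀ (v : V) (φ : Dual K V), In G v φ → v ≠ 0 → φ ≠ 0 → v ∈ U ∧ ∃ c : K, φ = c • fl v := by
  have hF := hR.full
  have hc := h.compl
  have hcl : ∀ (v : V) (φ : Dual K V), In G v φ → v ≠ 0 → φ ≠ 0 →
      (v ∈ LinearMap.ker fl ∧ ∀ u ∈ U, φ u = 0) ∨ (v ∈ U ∧ ∃ c : K, φ = c • fl v) := by
    intro v φ hin hv hφ
    rcases h.classify hR hno hua hua0 hin hv hφ with ⟨h1, h2⟩ | ⟨h1, c, hc0, hcφ⟩
    · left
      refine ⟨?_, h2⟩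
      rw [← pL_add_pR hc v, h1, zero_add]; exact pR_mem hc v
    · right
      have hvW := hnm v φ hin hφ h1
      have hφW := h.typeK_of_pR_eq_zero hR hno hin h1 hvW
      have hv' : pL hc v = v := by
        conv_rhs => rw [← pL_add_pR hc v, hvW, add_zero]
      refine ⟨by rw [← hv']; exact pL_mem hc v, c, ?_⟩
      rw [h.eq_comp_add φ, hφW, add_zero, hcφ, hv']
  have hinv : ∀ (v : V) (f : Dual K V), In G v f → ∀ x ∈ U, f x • v ∈ U := by
    intro v f hin x hx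
    by_cases hv : v = 0
    · rw [hv, smul_zero]; exact U.zero_mem
    by_cases hf : f = 0
    · rw [hf, LinearMap.zero_apply, zero_smul]; exact U.zero_mem
    rcases hcl v f hin hv hf with ⟨_, h2⟩ | ⟨h1, _⟩
    · rw [h2 x hx, zero_smul]; exact U.zero_mem
    · exact U.smul_mem _ h1
  have hCU : Cen G ≤ U := by
    rcases hR.ri U hinv with h1 | h1
    · exact absurd (h1 hua) (h.not_mem_Rad hua hua0)
    · exact h1
  have hK : ∀ (v : V) (φ : Dual K V), In G v φ → v ≠ 0 → φ ≠ 0 →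
      v ∈ U ∧ ∃ c : K, φ = c • fl v := by
    intro v φ hin hv hφ
    rcases hcl v φ hin hv hφ with ⟨h1, _⟩ | h2
    · exfalso
      exact hv (inter_eq_zero hc (hCU (mem_Cen_of_in hin hφ)) h1)
    · exact h2
  refine ⟨le_antisymm (fun u hu => h.mem_Cen hu) hCU, ?_, hK⟩
  apply le_antisymm
  · intro x hx v f hin hv
    by_cases hf : f = 0
    · rw [hf]; rfl
    obtain ⟨_, c, rfl⟩ := hK v f hin hv hf
    rw [LinearMap.smul_apply, h.rad_right hx, smul_zero]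
  · intro x hx
    rw [LinearMap.mem_ker]
    ext y
    rw [← h.apply_pL, h.skew]
    by_cases hy : pL hc y = 0
    · rw [hy, map_zero]; simp
    · rw [hx _ _ (h.mem _ (pL_mem hc y)) hy, neg_zero]; rfl

/-- Normalising a transvection of type (K/M). -/
theorem SpCfg.normalise (h : SpCfg G fl U) (hF : Full G) {v : V} {φ : Dual K V} (hin : In G v φ)
    {c : K} (hc0 : c ≠ 0) (hcφ : φ ∘ₗ pL h.compl = c • fl (pL h.compl v)) :
    In G (pL h.compl v + pR h.compl v) (fl (pL h.compl v) + c⁻¹ • (φ ∘ₗ pR h.compl)) := by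
  have e : c⁻¹ • φ = fl (pL h.compl v) + c⁻¹ • (φ ∘ₗ pR h.compl) := by
    conv_lhs => rw [h.eq_comp_add φ]
    rw [smul_add, hcφ, smul_smul, inv_mul_cancel₀ hc0, one_smul]
  rw [pL_add_pR, ← e]
  exact hF.smul_right hin c⁻¹

theorem SpCfg.mixed_inc (h : SpCfg G fl U) {y z : V} (hy : y ∈ U) (hz : z ∈ LinearMap.ker fl)
    {ζ : Dual K V} (hζU : ∀ u ∈ U, ζ u = 0) (hin : In G (y + z) (fl y + ζ)) : ζ z = 0 := by
  have := hin.inc
  rw [LinearMap.add_apply, map_add, map_add, h.alt, h.rad_right hz, hζU y hy] at this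
  simpa using this

/-- The partner of a mixed transvection: a type (D) transvection `(w, χ)` with `ζ w ≠ 0`. -/
theorem SpCfg.partner [FiniteDimensional K V] (h : SpCfg G fl U) (hR : Rel G) (hno : NoSL G)
    {y z : V} (hyU : y ∈ U) (hy0 : y ≠ 0) (hzW : z ∈ LinearMap.ker fl) (hz0 : z ≠ 0)
    {ζ : Dual K V} (hζU : ∀ u ∈ U, ζ u = 0) (hζ0 : ζ ≠ 0) (hζz : ζ z = 0)
    (hmix : ∀ y ∈ U, y ≠ 0 → In G (y + z) (fl y + ζ)) (hzζ : In G z ζ) :
    ∃ (w : V) (χ : Dual K V), In G w χ ∧ χ ≠ 0 ∧ w ∈ LinearMap.ker fl ∧ (∀ u ∈ U, χ u = 0) ∧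
      ζ w ≠ 0 := by
  have hF := hR.full
  have hc := h.compl
  obtain ⟨v', f', hin', hf', hζv'⟩ := hR.nc2 z ζ hzζ hz0 hζ0
  have hv'0 : v' ≠ 0 := ne_zero_of_apply_ne' hζv'
  rcases h.classify hR hno hyU hy0 hin' hv'0 hf' with ⟨h1, h2⟩ | ⟨h1, c', hc'0, hcφ'⟩
  · refine ⟨v', f', hin', hf', ?_, h2, hζv'⟩
    rw [← pL_add_pR hc v', h1, zero_add]; exact pR_mem hc v'
  · -- mixed partner
    have hb0 := h.normalise hF hin' hc'0 hcφ'
    obtain ⟨z', hz'⟩ : ∃ z', z' = pR hc v' := ⟨_, rfl⟩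
    obtain ⟨ζ', hζ'⟩ : ∃ ζ', ζ' = c'⁻¹ • (f' ∘ₗ pR hc) := ⟨_, rfl⟩
    rw [← hz', ← hζ'] at hb0
    have hz'W : z' ∈ LinearMap.ker fl := by rw [hz']; exact pR_mem hc v'
    have hζ'U : ∀ u ∈ U, ζ' u = 0 := by
      intro u hu
      rw [hζ', LinearMap.smul_apply, h.comp_pR_apply f' hu, smul_zero]
    have hb := h.mixed_orbit hF hz'W hζ'U (pL_mem hc v') h1 hb0 y hyU hy0
    have ha := hmix y hyU hy0
    have hζ'z' : ζ' z' = 0 := h.mixed_inc hyU hz'W hζ'U hb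
    have hζz' : ζ z' ≠ 0 := by
      rw [hz', ← chi_apply_eq hc hζU]; exact hζv'
    have e1 : (fl y + ζ) (y + z') = ζ z' := by
      rw [LinearMap.add_apply, map_add, map_add, h.alt, h.rad_right hz'W, hζU y hyU]; ring
    have e2 : (fl y + ζ') (y + z) = ζ' z := by
      rw [LinearMap.add_apply, map_add, map_add, h.alt, h.rad_right hzW, hζ'U y hyU]; ring
    have hconj := hF.conjT ha hb (-(ζ z')⁻¹)
    rw [e1, e2] at hconj
    have e3 : -(ζ z')⁻¹ * ζ z' = -1 := by field_simp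
    rw [e3] at hconj
    have e4 : y + z' + (-1 : K) • (y + z) = z' - z := by module
    rw [e4] at hconj
    obtain ⟨t, ht⟩ : ∃ t, t = -(ζ z')⁻¹ * ζ' z := ⟨_, rfl⟩
    rw [← ht] at hconj
    obtain ⟨χ, hχ⟩ : ∃ χ, χ = fl y + ζ' - t • (fl y + ζ) := ⟨_, rfl⟩
    rw [← hχ] at hconj
    have hwW : z' - z ∈ LinearMap.ker fl := Submodule.sub_mem _ hz'W hzW
    have hζw : ζ (z' - z) ≠ 0 := by
      rw [map_sub, hζz, sub_zero]; exact hζz'
    have hw0 : z' - z ≠ 0 := ne_zero_of_apply_ne' hζw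
    obtain ⟨y'', hy''U, hyy''⟩ := h.exists_ne hyU hy0
    have hχy'' : χ y'' = (1 - t) * fl y y'' := by
      rw [hχ]
      simp only [LinearMap.sub_apply, LinearMap.add_apply, LinearMap.smul_apply, smul_eq_mul,
        hζU y'' hy''U, hζ'U y'' hy''U]
      ring
    have hχ0 : χ ≠ 0 := by
      intro hχ00
      have ht1 : t = 1 := by
        rw [hχ00, LinearMap.zero_apply] at hχy''
        rcases mul_eq_zero.mp hχy''.symm with h5 | h5
        · linear_combination -h5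
        · exact absurd h5 hyy''
      have : ζ' = ζ := by
        have e5 : χ = ζ' - ζ := by
          rw [hχ, ht1, one_smul]; abel
        rw [hχ00] at e5
        exact (sub_eq_zero.mp e5.symm)
      rw [this] at hζ'z'
      exact hζz' hζ'z'
    have hpLw : pL hc (z' - z) = 0 := pL_of_mem' hc hwW
    rcases h.classify hR hno hyU hy0 hconj hw0 hχ0 with ⟨_, h2⟩ | ⟨h1', _⟩
    · exact ⟨z' - z, χ, hconj, hχ0, hwW, h2, hζw⟩
    · exact absurd hpLw h1'

/-- Growth of a symplectic configuration in the presence of a mixed transvection. -/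
theorem SpCfg.growSp [FiniteDimensional K V] (h : SpCfg G fl U) (hR : Rel G) (hno : NoSL G)
    {v : V} {φ : Dual K V} (hin : In G v φ) (hφ : φ ≠ 0) (hvU : pL h.compl v ≠ 0)
    (hvW : pR h.compl v ≠ 0) :
    ∃ (fl' : V →ₗ[K] Dual K V) (U' : Submodule K V), SpCfg G fl' U' ∧ U ≤ U' ∧
      finrank K (LinearMap.ker fl') < finrank K (LinearMap.ker fl) := by
  have hF := hR.full
  have hc := h.compl
  have hv0 : v ≠ 0 := fun hv0 => hvU (by rw [hv0, map_zero])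
  have hyU : pL hc v ∈ U := pL_mem hc v
  have hzW : pR hc v ∈ LinearMap.ker fl := pR_mem hc v
  rcases h.classify hR hno hyU hvU hin hv0 hφ with ⟨h1, _⟩ | ⟨_, c, hc0, hcφ⟩
  · exact absurd h1 hvU
  have ha0 := h.normalise hF hin hc0 hcφ
  have hφW : φ ∘ₗ pR hc ≠ 0 := fun h0 =>
    hvW (h.typeK_of_comp_pR_eq_zero hR hno hin hvU hc0 hcφ h0)
  obtain ⟨y, hy⟩ : ∃ y, y = pL hc v := ⟨_, rfl⟩
  obtain ⟨z, hz⟩ : ∃ z, z = pR hc v := ⟨_, rfl⟩
  obtain ⟨ζ, hζ⟩ : ∃ ζ, ζ = c⁻¹ • (φ ∘ₗ pR hc) := ⟨_, rfl⟩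
  have hζ0 : ζ ≠ 0 := by
    rw [hζ]
    exact smul_ne_zero (inv_ne_zero hc0) hφW
  have hζU : ∀ u ∈ U, ζ u = 0 := by
    intro u hu
    rw [hζ, LinearMap.smul_apply, h.comp_pR_apply φ hu, smul_zero]
  rw [← hy, ← hz, ← hζ] at ha0
  rw [← hy] at hyU hvU
  rw [← hz] at hzW hvW
  have hζz : ζ z = 0 := h.mixed_inc hyU hzW hζU ha0
  have hmix := h.mixed_orbit hF hzW hζU hyU hvU ha0
  -- R3
  obtain ⟨y', hy'U, hyy'⟩ := h.exists_ne hyU hvU
  have hy'0 : y' ≠ 0 := by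
    rintro rfl; simp at hyy'
  have hr3 := In.r3 (hmix y hyU hvU) (h.mem y hyU) (hmix y' hy'U hy'0) (h.mem y' hy'U)
    (hζU y hyU) (hζU y' hy'U) hζz (h.rad_right hzW y) (h.rad_right hzW y')
  have hcoef : fl y y' - fl y' y ≠ 0 := by
    rw [h.skew y' y, sub_neg_eq_add, ← two_mul]
    exact mul_ne_zero hR.two hyy'
  have hzζ : In G z ζ := hF.of_smul_right hcoef hr3
  obtain ⟨w, χ, hwχ, hχ0, hwW, hχU, hζw⟩ :=
    h.partner hR hno hyU hvU hzW hvW hζU hζ0 hζz hmix hzζ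
  have hχz : χ z ≠ 0 := by
    intro hχz
    have e1 : χ (y + z) = 0 := by rw [map_add, hχU y hyU, hχz, add_zero]
    have e2 : (fl y + ζ) w ≠ 0 := by
      rw [LinearMap.add_apply, h.rad_right hwW, zero_add]; exact hζw
    have h1 : In G (y + z) χ := hF.comm (hmix y hyU hvU) hwχ e1 e2
    have hyz : y + z = v := by rw [hy, hz, pL_add_pR]
    rw [hyz] at h1
    rcases h.classify hR hno hyU hvU h1 hv0 hχ0 with ⟨h2, _⟩ | ⟨_, c2, hc20, hc2⟩
    · rw [← hy] at h2; exact hvU h2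
    · have := LinearMap.congr_fun hc2 y'
      rw [h.comp_pL_apply χ hy'U, hχU y' hy'U, ← hy, LinearMap.smul_apply, smul_eq_mul] at this
      exact (mul_ne_zero hc20 hyy') this.symm
  exact h.extend hF hR.two hyU hvU hzW hwW hζU hχU hmix hwχ hζz hζw hχz

/-- The symplectic induction. -/
theorem SpCfg.final [FiniteDimensional K V] (hR : Rel G) (hno : NoSL G) :
    ∀ (n : ℕ) (fl : V →ₗ[K] Dual K V) (U : Submodule K V), SpCfg G fl U → (∃ ua ∈ U, ua ≠ 0) →
      finrank K (LinearMap.ker fl) = n →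
      ∃ fl' : V →ₗ[K] Dual K V, SpCfg G fl' (Cen G) ∧ LinearMap.ker fl' = Rad G ∧
        ∀ (v : V) (φ : Dual K V), In G v φ → v ≠ 0 → φ ≠ 0 → v ∈ Cen G ∧ ∃ c : K, φ = c • fl' v := by
  intro n
  induction n using Nat.strong_induction_on with
  | _ n ih =>
    intro fl U h hex hn
    obtain ⟨ua, hua, hua0⟩ := hex
    by_cases hm : ∃ (v : V) (φ : Dual K V), In G v φ ∧ φ ≠ 0 ∧ pL h.compl v ≠ 0 ∧ pR h.compl v ≠ 0
    · obtain ⟨v, φ, hin, hφ, hvU, hvW⟩ := hm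
      obtain ⟨fl', U', h', hle, hlt⟩ := h.growSp hR hno hin hφ hvU hvW
      exact ih _ (hn ▸ hlt) fl' U' h' ⟨ua, hle hua, hua0⟩ rfl
    · push_neg at hm
      obtain ⟨h1, h2, h3⟩ := h.terminal hR hno hua hua0 hm
      refine ⟨fl, ?_, h2, ?_⟩
      · rw [← h1]; exact h
      · rw [← h1]; exact h3

/-- **The relative theorem.** -/
theorem Rel.main [FiniteDimensional K V] (hR : Rel G)
    (hne : ∃ (v : V) (f : Dual K V), In G v f ∧ v ≠ 0 ∧ f ≠ 0) :
    SLCfg G (Cen G) (Rad G) ∨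
      ∃ fl : V →ₗ[K] Dual K V, SpCfg G fl (Cen G) ∧ LinearMap.ker fl = Rad G ∧
        ∀ (v : V) (φ : Dual K V), In G v φ → v ≠ 0 → φ ≠ 0 → v ∈ Cen G ∧ ∃ c : K, φ = c • fl v := by
  have hF := hR.full
  by_cases hno : NoSL G
  · right
    obtain ⟨u, w, φ, ψ, h1, h2, hψu, hφw⟩ := hR.exists_pair hne
    have h1' : In G u ((φ w)⁻¹ • φ) := hF.smul_right h1 _
    have h2' : In G w ((-(ψ u)⁻¹) • ψ) := hF.smul_right h2 _
    have e1 : ((-(ψ u)⁻¹) • ψ) u = -1 := by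
      rw [LinearMap.smul_apply, smul_eq_mul]; field_simp
    have e2 : ((φ w)⁻¹ • φ) w = 1 := by
      rw [LinearMap.smul_apply, smul_eq_mul]; field_simp
    have hcfg := hR.base_cfg h1' h2' e1 e2
    have hu0 : u ≠ 0 := ne_zero_of_apply_ne' hψu
    exact SpCfg.final hR hno _ _ _ hcfg ⟨u, Submodule.subset_span (by simp), hu0⟩ rfl
  · left
    unfold NoSL at hno
    push_neg at hno
    obtain ⟨U, W, hUW⟩ := hno
    exact SLCfg.final hR _ U W hUW rfl

end Cfsg.Agent.Lib.Helper2.Mcl
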