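import Mathlib
import Cfsg.Agent.Lib.Helper4.SLnGen

set_option autoImplicit false
set_option maxHeartbeats 1000000
set_option linter.unusedVariables false
set_option linter.unusedSectionVars false
set_option linter.style.longLine false
set_option linter.unusedSimpArgs false
set_option linter.deprecated false
set_option linter.style.haveILetI false

/-!
# McLaughlin's theorem (S5075): the special linear group of a vector space is generated by
transvections
-/

namespace Cfsg.Agent.Lib.Helper2.Mcl

open Module LinearMap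

variable {K : Type*} [Field K] {Y : Type*} [AddCommGroup Y] [Module K Y]

/-- the elementary transvection attached to a basis -/
theorem basis_tv_inc {n : ℕ} (b : Basis (Fin n) K Y) {i j : Fin n} (hij : i ≠ j) (c : K) :
    (c • b.coord j) (b i) = 0 := by
  rw [LinearMap.smul_apply, Basis.coord_apply, Basis.repr_self, Finsupp.single_apply, if_neg hij,
    smul_zero]

theorem toMatrix_basis_tv {n : ℕ} (b : Basis (Fin n) K Y) {i j : Fin n} (hij : i ≠ j) (c : K) :
    LinearMap.toMatrix b b ((LinearEquiv.transvection (basis_tv_inc b hij c) : Y ≃ₗ[K] Y) : Y →ₗ[K] Y) =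
      1 + Matrix.single i j c := by
  ext k l
  rw [LinearMap.toMatrix_apply]
  have : ((LinearEquiv.transvection (basis_tv_inc b hij c) : Y ≃ₗ[K] Y) : Y →ₗ[K] Y) (b l) =
      b l + (c • b.coord j) (b l) • b i := rfl
  rw [this]
  simp only [LinearMap.smul_apply, Basis.coord_apply, Basis.repr_self, map_add, map_smul,
    Finsupp.coe_add, Finsupp.coe_smul, Pi.add_apply, Pi.smul_apply, Finsupp.single_apply,
    smul_eq_mul, Matrix.add_apply, Matrix.one_apply, Matrix.single_apply]
  by_cases h1 : l = k <;> by_cases h2 : j = l <;> by_cases h3 : i = k <;>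
    first | simp [h1, h2, h3, Ne.symm h1, eq_comm] | simp [h1, h2, h3, eq_comm]

/-- The special linear group of a finite-dimensional vector space is generated by transvections. -/
theorem sl_gen [FiniteDimensional K Y] (e : Y ≃ₗ[K] Y)
    (he : LinearMap.det (e : Y →ₗ[K] Y) = 1) :
    e ∈ Subgroup.closure (LinearEquiv.transvections K Y) := by
  classical
  obtain ⟨n, b⟩ : ∃ n : ℕ, Nonempty (Basis (Fin n) K Y) := ⟨_, ⟨Module.finBasis K Y⟩⟩
  obtain ⟨b⟩ := b
  have hinj : ∀ e1 e2 : Y ≃ₗ[K] Y, LinearMap.toMatrix b b (e1 : Y →ₗ[K] Y) =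
      LinearMap.toMatrix b b (e2 : Y →ₗ[K] Y) → e1 = e2 := by
    intro e1 e2 h
    have := (LinearMap.toMatrix b b).injective h
    exact LinearEquiv.toLinearMap_injective this
  by_cases hn : Nontrivial (Fin n)
  · have key : ∀ A : Matrix.SpecialLinearGroup (Fin n) K, ∀ e : Y ≃ₗ[K] Y,
        LinearMap.toMatrix b b (e : Y →ₗ[K] Y) = A.1 →
        e ∈ Subgroup.closure (LinearEquiv.transvections K Y) := by
      intro A
      refine Cfsg.Agent.Lib.Helper4.transvection_induction_gen
        (P := fun A => ∀ e : Y ≃ₗ[K] Y, LinearMap.toMatrix b b (e : Y →ₗ[K] Y) = A.1 →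
          e ∈ Subgroup.closure (LinearEquiv.transvections K Y)) ?_ ?_ A
      · intro i j hij c e he
        have : e = LinearEquiv.transvection (basis_tv_inc b hij c) := by
          apply hinj
          rw [he, toMatrix_basis_tv b hij c]
          exact Matrix.SpecialLinearGroup.transvection_coe hij c
        rw [this]
        exact Subgroup.subset_closure ⟨_, _, _, rfl⟩
      · intro A B hA hB e he
        have hAu : IsUnit A.1.det := by rw [A.2]; exact isUnit_one
        have hBu : IsUnit B.1.det := by rw [B.2]; exact isUnit_one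
        have h1 : LinearMap.toMatrix b b ((Matrix.toLinearEquiv b A.1 hAu : Y ≃ₗ[K] Y) : Y →ₗ[K] Y) = A.1 := by
          have : ((Matrix.toLinearEquiv b A.1 hAu : Y ≃ₗ[K] Y) : Y →ₗ[K] Y) = Matrix.toLin b b A.1 := by
            ext x; exact Matrix.toLinearEquiv_apply b A.1 hAu x
          rw [this, LinearMap.toMatrix_toLin]
        have h2 : LinearMap.toMatrix b b ((Matrix.toLinearEquiv b B.1 hBu : Y ≃ₗ[K] Y) : Y →ₗ[K] Y) = B.1 := by
          have : ((Matrix.toLinearEquiv b B.1 hBu : Y ≃ₗ[K] Y) : Y →ₗ[K] Y) = Matrix.toLin b b B.1 := by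
            ext x; exact Matrix.toLinearEquiv_apply b B.1 hBu x
          rw [this, LinearMap.toMatrix_toLin]
        have : e = Matrix.toLinearEquiv b A.1 hAu * Matrix.toLinearEquiv b B.1 hBu := by
          apply hinj
          rw [he]
          have h3 : (((Matrix.toLinearEquiv b A.1 hAu * Matrix.toLinearEquiv b B.1 hBu : Y ≃ₗ[K] Y)) : Y →ₗ[K] Y) =
              ((Matrix.toLinearEquiv b A.1 hAu : Y ≃ₗ[K] Y) : Y →ₗ[K] Y) ∘ₗ
                ((Matrix.toLinearEquiv b B.1 hBu : Y ≃ₗ[K] Y) : Y →ₗ[K] Y) := by
            ext x; rfl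
          rw [h3, LinearMap.toMatrix_comp b b b, h1, h2]
          rfl
        rw [this]
        exact Subgroup.mul_mem _ (hA _ h1) (hB _ h2)
    exact key ⟨LinearMap.toMatrix b b (e : Y →ₗ[K] Y), by rw [LinearMap.det_toMatrix]; exact he⟩ e rfl
  · have hsub : Subsingleton (Fin n) := not_nontrivial_iff_subsingleton.mp hn
    have : e = 1 := by
      apply hinj
      have h1 : LinearMap.toMatrix b b ((1 : Y ≃ₗ[K] Y) : Y →ₗ[K] Y) = 1 := LinearMap.toMatrix_id b
      rw [h1]
      ext k l
      have hkl : k = l := Subsingleton.elim k l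
      subst hkl
      rw [Matrix.one_apply_eq]
      haveI : Unique (Fin n) := ⟨⟨k⟩, fun a => Subsingleton.elim a k⟩
      have h2 := Matrix.det_unique (LinearMap.toMatrix b b (e : Y →ₗ[K] Y))
      rw [LinearMap.det_toMatrix, he] at h2
      have h3 : (default : Fin n) = k := Subsingleton.elim _ _
      rw [h3] at h2
      exact h2.symm
    rw [this]
    exact Subgroup.one_mem _

end Cfsg.Agent.Lib.Helper2.Mcl
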