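import Cfsg.Agent.Lib.Helper2.MclB

set_option autoImplicit false
set_option maxHeartbeats 1000000
set_option linter.unusedVariables false
set_option linter.unusedSectionVars false
set_option linter.style.longLine false
set_option linter.unusedSimpArgs false
set_option linter.deprecated false
set_option linter.style.haveILetI false

/-!
# McLaughlin's theorem (S5075): the symplectic group is generated by symplectic transvections
-/

namespace Cfsg.Agent.Lib.Helper2.Mcl

open Module LinearMap

variable {K : Type*} [Field K] {Y : Type*} [AddCommGroup Y] [Module K Y]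

theorem spT_inc (B : Y →ₗ[K] Dual K Y) (halt : ∀ x, B x x = 0) (u : Y) (c : K) :
    (c • B u) u = 0 := by
  rw [LinearMap.smul_apply, halt, smul_zero]

/-- the set of symplectic transvections -/
def spT (B : Y →ₗ[K] Dual K Y) (halt : ∀ x, B x x = 0) : Set (Y ≃ₗ[K] Y) :=
  {g | ∃ (u : Y) (c : K), g = LinearEquiv.transvection (spT_inc B halt u c)}

theorem spT_apply (B : Y →ₗ[K] Dual K Y) (halt : ∀ x, B x x = 0) (u : Y) (c : K) (x : Y) :
    LinearEquiv.transvection (spT_inc B halt u c) x = x + (c * B u x) • u := rfl

/-- elements of the closure of the symplectic transvections are isometries -/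
theorem spT_closure_isom (B : Y →ₗ[K] Dual K Y) (halt : ∀ x, B x x = 0) {g : Y ≃ₗ[K] Y}
    (hg : g ∈ Subgroup.closure (spT B halt)) : ∀ x y, B (g x) (g y) = B x y := by
  induction hg using Subgroup.closure_induction with
  | mem g hg =>
    obtain ⟨u, c, rfl⟩ := hg
    intro x y
    rw [spT_apply B halt, spT_apply B halt]
    simp only [map_add, map_smul, LinearMap.add_apply, LinearMap.smul_apply, smul_eq_mul, halt,
      mul_zero, add_zero]
    rw [skew_of_alt halt x u]
    ring
  | one => intro x y; rfl
  | mul a b _ _ ha hb =>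
    intro x y
    rw [LinearEquiv.mul_apply, LinearEquiv.mul_apply, ha, hb]
  | inv a _ ha =>
    intro x y
    have := ha (a⁻¹ x) (a⁻¹ y)
    have e1 : a (a⁻¹ x) = x := by
      show a (a.symm x) = x
      simp
    have e2 : a (a⁻¹ y) = y := by
      show a (a.symm y) = y
      simp
    rw [e1, e2] at this
    exact this.symm

/-- moving `a` to `b` by a symplectic transvection fixing `F` pointwise -/
theorem spT_move (B : Y →ₗ[K] Dual K Y) (halt : ∀ x, B x x = 0) (F : Submodule K Y) {a b : Y}
    (hab : ∀ y ∈ F, B (a - b) y = 0) (hne : B a b ≠ 0) :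
    ∃ g ∈ spT B halt, g a = b ∧ ∀ y ∈ F, g y = y := by
  have hba : B b a ≠ 0 := by
    rw [skew_of_alt halt]; simpa using hne
  refine ⟨LinearEquiv.transvection (spT_inc B halt (b - a) (B b a)⁻¹), ⟨_, _, rfl⟩, ?_, ?_⟩
  · rw [spT_apply B halt, map_sub, LinearMap.sub_apply, halt, sub_zero, inv_mul_cancel₀ hba, one_smul]
    abel
  · intro y hy
    have : B (b - a) y = 0 := by
      have := hab y hy
      rw [map_sub, LinearMap.sub_apply] at this ⊢
      linear_combination -this
    rw [spT_apply B halt, this, mul_zero, zero_smul, add_zero]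

theorem bil_surj [FiniteDimensional K Y] (B : Y →ₗ[K] Dual K Y)
    (hnd : ∀ x, (∀ y, B x y = 0) → x = 0) (φ : Dual K Y) : ∃ w, B w = φ := by
  have hinj : Function.Injective B := by
    rw [← LinearMap.ker_eq_bot, LinearMap.ker_eq_bot']
    intro x hx
    apply hnd
    intro y
    rw [hx]; rfl
  have hsurj : Function.Surjective B :=
    (LinearMap.injective_iff_surjective_of_finrank_eq_finrank
      (Subspace.dual_finrank_eq (K := K) (V := Y)).symm).mp hinj
  exact hsurj φ

/-- The symplectic group is generated by symplectic transvections. -/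
theorem sp_gen [FiniteDimensional K Y] (B : Y →ₗ[K] Dual K Y) (halt : ∀ x, B x x = 0)
    (hnd : ∀ x, (∀ y, B x y = 0) → x = 0) :
    ∀ (n : ℕ) (e : Y ≃ₗ[K] Y), (∀ x y, B (e x) (e y) = B x y) →
      finrank K Y ≤ finrank K (LinearMap.ker ((e : Y →ₗ[K] Y) - LinearMap.id)) + n →
      e ∈ Subgroup.closure (spT B halt) := by
  intro n
  induction n with
  | zero =>
    intro e he hfin
    have htop : LinearMap.ker ((e : Y →ₗ[K] Y) - LinearMap.id) = ⊤ := by
      apply Submodule.eq_top_of_finrank_eq
      have := Submodule.finrank_le (LinearMap.ker ((e : Y →ₗ[K] Y) - LinearMap.id))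
      omega
    have : e = 1 := by
      ext x
      have hx : x ∈ LinearMap.ker ((e : Y →ₗ[K] Y) - LinearMap.id) := by rw [htop]; trivial
      rw [LinearMap.mem_ker, LinearMap.sub_apply] at hx
      simpa [sub_eq_zero] using hx
    rw [this]; exact Subgroup.one_mem _
  | succ n ih =>
    intro e he hfin
    set F := LinearMap.ker ((e : Y →ₗ[K] Y) - LinearMap.id) with hF
    have memF : ∀ y, y ∈ F ↔ e y = y := by
      intro y
      rw [hF, LinearMap.mem_ker, LinearMap.sub_apply]
      simp [sub_eq_zero]
    by_cases htop : F = ⊤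
    · have : e = 1 := by
        ext x
        have hx : x ∈ F := by rw [htop]; trivial
        exact (memF x).mp hx
      rw [this]; exact Subgroup.one_mem _
    obtain ⟨x, hxF⟩ : ∃ x, x ∉ F := by
      by_contra hcon
      push_neg at hcon
      exact htop (eq_top_iff.mpr (fun y _ => hcon y))
    -- key: a product `g` of transvections fixing `F` pointwise with `g (e x) = x`
    have hperp : ∀ x' : Y, ∀ y ∈ F, B (e x' - x') y = 0 := by
      intro x' y hy
      have hy' := (memF y).mp hy
      rw [map_sub, LinearMap.sub_apply]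
      nth_rewrite 1 [← hy']
      rw [he, sub_self]
    have hkey : ∃ x0, x0 ∉ F ∧ ∃ g ∈ Subgroup.closure (spT B halt), g (e x0) = x0 ∧ ∀ y ∈ F, g y = y := by
      by_cases hA : ∃ x0, x0 ∉ F ∧ B (e x0) x0 ≠ 0
      · obtain ⟨x0, hx0, hne⟩ := hA
        obtain ⟨g, hg, h1, h2⟩ := spT_move B halt F (hperp x0) hne
        exact ⟨x0, hx0, g, Subgroup.subset_closure hg, h1, h2⟩
      · push_neg at hA
        have hexF : e x ∉ F := by
          intro h
          have := (memF (e x)).mp h
          exact hxF ((memF x).mpr (e.injective this))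
        obtain ⟨φ1, hφ1F, hφ1x⟩ := exists_dual_sep F hxF
        obtain ⟨φ2, hφ2F, hφ2x⟩ := exists_dual_sep F hexF
        obtain ⟨w1, hw1⟩ := bil_surj B hnd φ1
        obtain ⟨w2, hw2⟩ := bil_surj B hnd φ2
        obtain ⟨w', hw'F, hw'x, hw'ex⟩ : ∃ w', (∀ y ∈ F, B w' y = 0) ∧ B w' x ≠ 0 ∧ B w' (e x) ≠ 0 := by
          by_cases h1 : B w1 (e x) = 0
          · by_cases h2 : B w2 x = 0
            · refine ⟨w1 + w2, ?_, ?_, ?_⟩
              · intro y hy
                rw [map_add, LinearMap.add_apply, hw1, hw2, hφ1F y hy, hφ2F y hy, add_zero]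
              · rw [map_add, LinearMap.add_apply, h2, add_zero, hw1, hφ1x]; exact one_ne_zero
              · rw [map_add, LinearMap.add_apply, h1, zero_add, hw2, hφ2x]; exact one_ne_zero
            · refine ⟨w2, ?_, h2, ?_⟩
              · intro y hy; rw [hw2, hφ2F y hy]
              · rw [hw2, hφ2x]; exact one_ne_zero
          · refine ⟨w1, ?_, ?_, h1⟩
            · intro y hy; rw [hw1, hφ1F y hy]
            · rw [hw1, hφ1x]; exact one_ne_zero
        have hexx : B (e x) x = 0 := hA x hxF
        -- first move: e x ↦ x + w'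
        have hm1 : ∀ y ∈ F, B (e x - (x + w')) y = 0 := by
          intro y hy
          have := hperp x y hy
          rw [map_sub, LinearMap.sub_apply] at this
          rw [map_sub, map_add, LinearMap.sub_apply, LinearMap.add_apply, hw'F y hy]
          linear_combination this
        have hne1 : B (e x) (x + w') ≠ 0 := by
          rw [map_add, hexx, zero_add, skew_of_alt halt]
          simpa using hw'ex
        obtain ⟨g1, hg1, h11, h12⟩ := spT_move B halt F hm1 hne1
        have hm2 : ∀ y ∈ F, B ((x + w') - x) y = 0 := by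
          intro y hy
          rw [add_sub_cancel_left]; exact hw'F y hy
        have hne2 : B (x + w') x ≠ 0 := by
          rw [map_add, LinearMap.add_apply, halt, zero_add]; exact hw'x
        obtain ⟨g2, hg2, h21, h22⟩ := spT_move B halt F hm2 hne2
        refine ⟨x, hxF, g2 * g1, Subgroup.mul_mem _ (Subgroup.subset_closure hg2)
          (Subgroup.subset_closure hg1), ?_, ?_⟩
        · rw [LinearEquiv.mul_apply, h11, h21]
        · intro y hy
          rw [LinearEquiv.mul_apply, h12 y hy, h22 y hy]
    obtain ⟨x0, hx0F, g, hg, hgx, hgF⟩ := hkey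
    have hge : ∀ a b, B ((g * e) a) ((g * e) b) = B a b := by
      intro a b
      rw [LinearEquiv.mul_apply, LinearEquiv.mul_apply, spT_closure_isom B halt hg, he]
    have hlt : F < LinearMap.ker (((g * e : Y ≃ₗ[K] Y) : Y →ₗ[K] Y) - LinearMap.id) := by
      refine lt_of_le_of_ne ?_ ?_
      · intro y hy
        rw [LinearMap.mem_ker, LinearMap.sub_apply]
        have h1 : (g * e) y = y := by
          rw [LinearEquiv.mul_apply, (memF y).mp hy, hgF y hy]
        simpa [sub_eq_zero] using h1
      · intro heq
        apply hx0F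
        rw [heq, LinearMap.mem_ker, LinearMap.sub_apply]
        have h1 : (g * e) x0 = x0 := by rw [LinearEquiv.mul_apply, hgx]
        simpa [sub_eq_zero] using h1
    have hfin2 := Submodule.finrank_lt_finrank_of_lt hlt
    have hmem := ih (g * e) hge (by omega)
    have : e = g⁻¹ * (g * e) := by group
    rw [this]
    exact Subgroup.mul_mem _ (Subgroup.inv_mem _ hg) hmem

theorem sp_gen' [FiniteDimensional K Y] (B : Y →ₗ[K] Dual K Y) (halt : ∀ x, B x x = 0)
    (hnd : ∀ x, (∀ y, B x y = 0) → x = 0) (e : Y ≃ₗ[K] Y) (he : ∀ x y, B (e x) (e y) = B x y) :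
    e ∈ Subgroup.closure (spT B halt) :=
  sp_gen B halt hnd (finrank K Y) e he (Nat.le_add_left _ _)

end Cfsg.Agent.Lib.Helper2.Mcl
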