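import Cfsg.Agent.Lib.Helper2.MclG

set_option autoImplicit false
set_option maxHeartbeats 1000000
set_option linter.unusedVariables false
set_option linter.unusedSectionVars false
set_option linter.style.longLine false
set_option linter.unusedSimpArgs false
set_option linter.deprecated false
set_option linter.style.haveILetI false

/-!
# McLaughlin's theorem (S5075): components
-/

namespace Cfsg.Agent.Lib.Helper2.Mcl

open Module LinearMap

variable {K : Type*} [Field K] {V : Type*} [AddCommGroup V] [Module K V]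
variable {H : Subgroup (V ≃ₗ[K] V)}

/-- `H` has no nontrivial element acting trivially on an invariant subspace and on the quotient. -/
def NoUnip (H : Subgroup (V ≃ₗ[K] V)) : Prop :=
  ∀ Y : Submodule K V, (∀ h ∈ H, ∀ y ∈ Y, h y ∈ Y) → ∀ g ∈ H, (∀ y ∈ Y, g y = y) →
    (∀ x, g x - x ∈ Y) → g = 1

theorem tv_eq_one {f : Dual K V} {v : V} (h : f v = 0) (hv : v ≠ 0)
    (h1 : LinearEquiv.transvection h = 1) : f = 0 := by
  ext x
  have := LinearEquiv.congr_fun h1 x
  rw [tv_apply] at this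
  have h2 : f x • v = 0 := by simpa using this
  rcases smul_eq_zero.mp h2 with h3 | h3
  · simpa using h3
  · exact absurd h3 hv

theorem In.mono {G G' : Subgroup (V ≃ₗ[K] V)} (hle : G ≤ G') {v : V} {f : Dual K V}
    (h : In G v f) : In G' v f := ⟨h.1, hle h.2⟩

theorem NoUnip.nc1 (hU : NoUnip H) (hG : GenT H) {v : V} {f : Dual K V} (hin : In H v f)
    (hv : v ≠ 0) (hf : f ≠ 0) : v ∉ Rad H := by
  intro hvR
  have hfix := hG.fix_of (x := v) hvR
  have : LinearEquiv.transvection hin.inc = 1 := by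
    apply hU (Submodule.span K {v}) ?_ _ hin.mem ?_ ?_
    · intro h hh y hy
      obtain ⟨c, rfl⟩ := Submodule.mem_span_singleton.mp hy
      rw [map_smul, hfix h hh]
      exact Submodule.smul_mem _ _ (Submodule.mem_span_singleton_self v)
    · intro y hy
      obtain ⟨c, rfl⟩ := Submodule.mem_span_singleton.mp hy
      rw [tv_apply, map_smul, hin.inc, smul_zero, zero_smul, add_zero]
    · intro x
      rw [tv_apply, add_sub_cancel_left]
      exact Submodule.smul_mem _ _ (Submodule.mem_span_singleton_self v)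
  exact hf (tv_eq_one hin.inc hv this)

theorem NoUnip.nc2 (hU : NoUnip H) (hG : GenT H) {v : V} {f : Dual K V} (hin : In H v f)
    (hv : v ≠ 0) (hf : f ≠ 0) :
    ∃ (v' : V) (f' : Dual K V), In H v' f' ∧ f' ≠ 0 ∧ f v' ≠ 0 := by
  by_contra hcon
  push_neg at hcon
  have hinv : ∀ g ∈ H, ∀ x, f (g x) = f x := by
    refine hG.induction (P := fun g => ∀ x, f (g x) = f x) (fun x => rfl) ?_ ?_
    · intro a b ha hb x
      rw [LinearEquiv.mul_apply, ha, hb]
    · intro v' f' h' x
      rw [tv_apply, map_add, map_smul]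
      by_cases hf' : f' = 0
      · simp [hf']
      · rw [hcon v' f' h' hf', smul_zero, add_zero]
  have : LinearEquiv.transvection hin.inc = 1 := by
    apply hU (LinearMap.ker f) ?_ _ hin.mem ?_ ?_
    · intro h hh y hy
      rw [LinearMap.mem_ker] at hy ⊢
      rw [hinv h hh, hy]
    · intro y hy
      rw [tv_apply, LinearMap.mem_ker.mp hy, zero_smul, add_zero]
    · intro x
      rw [tv_apply, add_sub_cancel_left, LinearMap.mem_ker, map_smul, hin.inc, smul_zero]
  exact hf (tv_eq_one hin.inc hv this)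

/-- `S` is `H`-invariant -/
def Inv (H : Subgroup (V ≃ₗ[K] V)) (S : Submodule K V) : Prop := ∀ h ∈ H, ∀ y ∈ S, h y ∈ S

/-- `S` contains a nontrivial centre -/
def HasCen (H : Subgroup (V ≃ₗ[K] V)) (S : Submodule K V) : Prop :=
  ∃ (v : V) (f : Dual K V), In H v f ∧ v ≠ 0 ∧ f ≠ 0 ∧ v ∈ S

/-- A component: a minimal invariant subspace containing a nontrivial centre. -/
structure IsComp (H : Subgroup (V ≃ₗ[K] V)) (Y : Submodule K V) : Prop where
  inv : Inv H Y
  has : HasCen H Y
  min : ∀ S : Submodule K V, S ≤ Y → Inv H S → HasCen H S → S = Y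

theorem axis_vanish {Y : Submodule K V} (hY : Inv H Y) {v : V} {f : Dual K V} (hin : In H v f)
    (hv : v ∉ Y) : ∀ y ∈ Y, f y = 0 := by
  intro y hy
  by_contra hne
  have := hY _ hin.mem y hy
  rw [tv_apply] at this
  have h2 : f y • v ∈ Y := by simpa using Y.sub_mem this hy
  exact hv ((Y.smul_mem_iff hne).mp h2)

theorem NoUnip.cross (hU : NoUnip H) (hF : Full H) {Y : Submodule K V} (hY : Inv H Y) {v : V}
    {f : Dual K V} (hin : In H v f) (hvY : v ∈ Y) (hv : v ≠ 0) {v' : V} {f' : Dual K V}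
    (hin' : In H v' f') (hv' : v' ∉ Y) (hf' : f' ≠ 0) : f v' = 0 := by
  by_contra hne
  have h0 := axis_vanish hY hin' hv'
  have h1 : In H v f' := hF.comm hin hin' (h0 v hvY) hne
  have : LinearEquiv.transvection h1.inc = 1 := by
    apply hU Y hY _ h1.mem
    · intro y hy
      rw [tv_apply, h0 y hy, zero_smul, add_zero]
    · intro x
      rw [tv_apply, add_sub_cancel_left]
      exact Y.smul_mem _ hvY
  exact hf' (tv_eq_one h1.inc hv this)

/-- The subgroup generated by the transvections of `H` with centre in `Y`. -/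
def compGrp (H : Subgroup (V ≃ₗ[K] V)) (Y : Submodule K V) : Subgroup (V ≃ₗ[K] V) :=
  Subgroup.closure {g | g ∈ H ∧ ∃ (v : V) (f : Dual K V) (h : f v = 0), v ∈ Y ∧
    g = LinearEquiv.transvection h}

variable {Y : Submodule K V}

theorem compGrp_le : compGrp H Y ≤ H := (Subgroup.closure_le _).mpr (fun g hg => hg.1)

theorem in_compGrp {v : V} {f : Dual K V} (hin : In H v f) (hv : v ∈ Y) : In (compGrp H Y) v f :=
  ⟨hin.inc, Subgroup.subset_closure ⟨hin.mem, v, f, hin.inc, hv, rfl⟩⟩

theorem compGrp_sub_mem {g : V ≃ₗ[K] V} (hg : g ∈ compGrp H Y) : ∀ x, g x - x ∈ Y := by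
  unfold compGrp at hg
  induction hg using Subgroup.closure_induction with
  | mem g hg =>
    obtain ⟨_, v, f, h, hv, rfl⟩ := hg
    intro x
    rw [tv_apply, add_sub_cancel_left]
    exact Y.smul_mem _ hv
  | one => intro x; simp
  | mul a b _ _ ha hb =>
    intro x
    have : (a * b) x - x = (a (b x) - b x) + (b x - x) := by
      rw [LinearEquiv.mul_apply]; abel
    rw [this]; exact Y.add_mem (ha _) (hb _)
  | inv a _ ha =>
    intro x
    have e1 : a (a⁻¹ x) = x := by
      show a (a.symm x) = x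
      simp
    have := ha (a⁻¹ x)
    rw [e1] at this
    have e2 : a⁻¹ x - x = -(x - a⁻¹ x) := by abel
    rw [e2]; exact Y.neg_mem this

theorem mem_of_in_compGrp {v : V} {f : Dual K V} (hin : In (compGrp H Y) v f) (hf : f ≠ 0) :
    v ∈ Y := by
  obtain ⟨x, hx⟩ := exists_apply_ne hf
  have := compGrp_sub_mem hin.mem x
  rw [tv_apply, add_sub_cancel_left] at this
  exact (Y.smul_mem_iff hx).mp this

theorem compGrp_genT : GenT (compGrp H Y) := by
  unfold GenT
  conv_lhs => unfold compGrp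
  apply Subgroup.closure_mono
  rintro g ⟨hgH, v, f, h, hv, rfl⟩
  exact ⟨Subgroup.subset_closure ⟨hgH, v, f, h, hv, rfl⟩, v, f, h, rfl⟩

theorem compGrp_full (hF : Full H) : Full (compGrp H Y) := by
  intro v f hin c
  by_cases hf : f = 0
  · rw [hf, smul_zero]; exact in_zero_right v
  · exact in_compGrp (hF.smul_right (hin.mono compGrp_le) c) (mem_of_in_compGrp hin hf)

theorem compGrp_conj (hY : Inv H Y) {h : V ≃ₗ[K] V} (hh : h ∈ H) :
    ∀ g ∈ compGrp H Y, h * g * h⁻¹ ∈ compGrp H Y := by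
  intro g hg
  unfold compGrp at hg
  induction hg using Subgroup.closure_induction with
  | mem g hg0 =>
    obtain ⟨hgH, v, f, hfv, hv, rfl⟩ := hg0
    have hin : In H v f := ⟨hfv, hgH⟩
    have hconj := in_compGrp (hin.conj hh) (hY h hh v hv)
    have : h * LinearEquiv.transvection hfv * h⁻¹ = LinearEquiv.transvection hconj.inc := by
      ext x
      rw [LinearEquiv.mul_apply, LinearEquiv.mul_apply, tv_apply, tv_apply]
      simp only [map_add, map_smul, LinearMap.comp_apply, LinearEquiv.coe_coe]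
      have : h (h⁻¹ x) = x := by
        show h (h.symm x) = x
        simp
      rw [this]
      rfl
    rw [this]
    exact hconj.mem
  | one => simp
  | mul a b _ _ iha ihb =>
    have : h * (a * b) * h⁻¹ = (h * a * h⁻¹) * (h * b * h⁻¹) := by group
    rw [this]
    exact Subgroup.mul_mem _ iha ihb
  | inv a _ iha =>
    have : h * a⁻¹ * h⁻¹ = (h * a * h⁻¹)⁻¹ := by group
    rw [this]
    exact Subgroup.inv_mem _ iha

theorem IsComp.cen_eq (hY : IsComp H Y) : Cen (compGrp H Y) = Y := by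
  have hle : Cen (compGrp H Y) ≤ Y := Cen_le (fun v f hin hf => mem_of_in_compGrp hin hf)
  apply hY.min _ hle
  · intro h hh y hy
    have : Cen (compGrp H Y) ≤ (Cen (compGrp H Y)).comap (h : V →ₗ[K] V) := by
      apply Cen_le
      intro v f hin hf
      have hvY := mem_of_in_compGrp hin hf
      have hinH := hin.mono compGrp_le
      have hconj := hinH.conj hh
      have hne : f ∘ₗ (h.symm : V →ₗ[K] V) ≠ 0 := by
        intro h0
        apply hf
        ext x
        have := LinearMap.congr_fun h0 (h x)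
        simpa using this
      exact mem_Cen_of_in (in_compGrp hconj (hY.inv h hh v hvY)) hne
    exact this hy
  · obtain ⟨v, f, hin, hv, hf, hvY⟩ := hY.has
    exact ⟨v, f, hin, hv, hf, mem_Cen_of_in (in_compGrp hin hvY) hf⟩

theorem IsComp.rel (hY : IsComp H Y) (hF : Full H) (hG : GenT H) (hU : NoUnip H)
    (h2 : (2 : K) ≠ 0) : Rel (compGrp H Y) := by
  have hcen := hY.cen_eq
  refine ⟨compGrp_full hF, h2, ?_, ?_, ?_⟩
  · intro S hS
    have hinvS : Inv H (S ⊓ Y) := by
      refine hG.map_mem (S := S ⊓ Y) ?_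
      intro v f hin x hx
      by_cases hvY : v ∈ Y
      · exact ⟨hS v f (in_compGrp hin hvY) x hx.1, Y.smul_mem _ hvY⟩
      · rw [axis_vanish hY.inv hin hvY x hx.2, zero_smul]; exact Submodule.zero_mem _
    by_cases hhas : HasCen H (S ⊓ Y)
    · right
      have := hY.min _ inf_le_right hinvS hhas
      rw [hcen, ← this]; exact inf_le_left
    · left
      intro x hx v f hin hv
      by_contra hne
      have hf : f ≠ 0 := ne_zero_of_apply_ne hne
      have hvY := mem_of_in_compGrp hin hf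
      have hvS : v ∈ S := (S.smul_mem_iff hne).mp (hS v f hin x hx)
      exact hhas ⟨v, f, hin.mono compGrp_le, hv, hf, hvS, hvY⟩
  · intro v f hin hv hf hvR
    have hvY := mem_of_in_compGrp hin hf
    apply hU.nc1 hG (hin.mono compGrp_le) hv hf
    intro v' f' hin' hv'
    by_cases hv'Y : v' ∈ Y
    · exact hvR v' f' (in_compGrp hin' hv'Y) hv'
    · exact axis_vanish hY.inv hin' hv'Y v hvY
  · intro v f hin hv hf
    have hvY := mem_of_in_compGrp hin hf
    obtain ⟨v', f', hin', hf', hne⟩ := hU.nc2 hG (hin.mono compGrp_le) hv hf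
    by_cases hv'Y : v' ∈ Y
    · exact ⟨v', f', in_compGrp hin' hv'Y, hf', hne⟩
    · exact absurd (hU.cross hF hY.inv (hin.mono compGrp_le) hvY hv hin' hv'Y hf') hne

/-- The structure of a component. -/
theorem IsComp.main [FiniteDimensional K V] (hY : IsComp H Y) (hF : Full H) (hG : GenT H)
    (hU : NoUnip H) (h2 : (2 : K) ≠ 0) :
    SLCfg (compGrp H Y) Y (Rad (compGrp H Y)) ∨
      ∃ fl : V →ₗ[K] Dual K V, SpCfg (compGrp H Y) fl Y ∧
        LinearMap.ker fl = Rad (compGrp H Y) ∧
        ∀ (v : V) (φ : Dual K V), In (compGrp H Y) v φ → v ≠ 0 → φ ≠ 0 →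
          v ∈ Y ∧ ∃ c : K, φ = c • fl v := by
  have hR := hY.rel hF hG hU h2
  obtain ⟨v, f, hin, hv, hf, hvY⟩ := hY.has
  have := hR.main ⟨v, f, in_compGrp hin hvY, hv, hf⟩
  rw [hY.cen_eq] at this
  exact this

theorem IsComp.isCompl [FiniteDimensional K V] (hY : IsComp H Y) (hF : Full H) (hG : GenT H)
    (hU : NoUnip H) (h2 : (2 : K) ≠ 0) : IsCompl Y (Rad (compGrp H Y)) := by
  rcases hY.main hF hG hU h2 with h | ⟨fl, h, hk, _⟩
  · exact h.compl
  · rw [← hk]; exact h.compl

theorem mem_Rad_compGrp_of_not_mem (hF : Full H) (hU : NoUnip H) (hY : Inv H Y) {v' : V}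
    {f' : Dual K V} (hin' : In H v' f') (hf' : f' ≠ 0) (hv' : v' ∉ Y) :
    v' ∈ Rad (compGrp H Y) := by
  intro v f hin hv
  by_cases hf : f = 0
  · rw [hf]; rfl
  · exact hU.cross hF hY (hin.mono compGrp_le) (mem_of_in_compGrp hin hf) hv hin' hv' hf'

theorem rad_compGrp_inv (hF : Full H) (hG : GenT H) (hU : NoUnip H) (hY : Inv H Y) :
    Inv H (Rad (compGrp H Y)) := by
  refine hG.map_mem (S := Rad (compGrp H Y)) ?_
  intro v' f' hin' x hx
  by_cases hf' : f' = 0
  · rw [hf']; simp
  by_cases hv'0 : v' = 0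
  · rw [hv'0]; simp
  by_cases hv'Y : v' ∈ Y
  · rw [hx v' f' (in_compGrp hin' hv'Y) hv'0, zero_smul]; exact Submodule.zero_mem _
  · exact Submodule.smul_mem _ _ (mem_Rad_compGrp_of_not_mem hF hU hY hin' hf' hv'Y)

theorem IsComp.le_rad_of_ne (hF : Full H) (hU : NoUnip H) {Y' : Submodule K V} (hY : IsComp H Y)
    (hY' : IsComp H Y') (hne : Y ≠ Y') : Y' ≤ Rad (compGrp H Y) := by
  rw [← hY'.cen_eq]
  apply Cen_le
  intro v' f' hin' hf'
  have hv'Y' := mem_of_in_compGrp hin' hf'
  by_cases hv'0 : v' = 0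
  · rw [hv'0]; exact Submodule.zero_mem _
  apply mem_Rad_compGrp_of_not_mem hF hU hY.inv (hin'.mono compGrp_le) hf'
  intro hv'Y
  have hinv : Inv H (Y ⊓ Y') := fun h hh y hy => ⟨hY.inv h hh y hy.1, hY'.inv h hh y hy.2⟩
  have hhas : HasCen H (Y ⊓ Y') := ⟨v', f', hin'.mono compGrp_le, hv'0, hf', hv'Y, hv'Y'⟩
  have e1 := hY.min _ inf_le_left hinv hhas
  have e2 := hY'.min _ inf_le_right hinv hhas
  exact hne (e1.symm.trans e2)

theorem exists_comp_le [FiniteDimensional K V] :
    ∀ (n : ℕ) (S : Submodule K V), finrank K S = n → Inv H S → HasCen H S →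
      ∃ Y, Y ≤ S ∧ IsComp H Y := by
  intro n
  induction n using Nat.strong_induction_on with
  | _ n ih =>
    intro S hn hinv hhas
    by_cases hex : ∃ S' : Submodule K V, S' < S ∧ Inv H S' ∧ HasCen H S'
    · obtain ⟨S', hlt, hinv', hhas'⟩ := hex
      obtain ⟨Y, hYle, hY⟩ :=
        ih _ (hn ▸ Submodule.finrank_lt_finrank_of_lt hlt) S' rfl hinv' hhas'
      exact ⟨Y, hYle.trans hlt.le, hY⟩
    · push_neg at hex
      refine ⟨S, le_refl _, hinv, hhas, ?_⟩
      intro S' hle hinv' hhas'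
      by_contra hne
      exact hex S' (lt_of_le_of_ne hle hne) hinv' hhas'

/-- every nontrivial centre lies in a component -/
theorem exists_comp_mem [FiniteDimensional K V] (hF : Full H) (hG : GenT H) (hU : NoUnip H)
    (h2 : (2 : K) ≠ 0) {v : V} {f : Dual K V} (hin : In H v f) (hv : v ≠ 0) (hf : f ≠ 0) :
    ∃ Y, IsComp H Y ∧ v ∈ Y := by
  let S0 : Submodule K V := sInf {S | Inv H S ∧ v ∈ S}
  have hvS0 : v ∈ S0 := Submodule.mem_sInf.mpr (fun S hS => hS.2)
  have hinv0 : Inv H S0 := by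
    intro h hh y hy
    rw [Submodule.mem_sInf] at hy ⊢
    intro S hS
    exact hS.1 h hh y (hy S hS)
  obtain ⟨Y, hYle, hY⟩ := exists_comp_le _ S0 rfl hinv0 ⟨v, f, hin, hv, hf, hvS0⟩
  refine ⟨Y, hY, ?_⟩
  by_contra hvY
  have hvR := mem_Rad_compGrp_of_not_mem hF hU hY.inv hin hf hvY
  have hS0R : S0 ≤ Rad (compGrp H Y) := sInf_le ⟨rad_compGrp_inv hF hG hU hY.inv, hvR⟩
  obtain ⟨v0, f0, hin0, hv0, hf0, hv0Y⟩ := hY.has
  have hc := hY.isCompl hF hG hU h2
  exact hv0 (inter_eq_zero hc hv0Y (hS0R (hYle hv0Y)))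

theorem compGrp_fix {g : V ≃ₗ[K] V} (hg : g ∈ compGrp H Y) {x : V}
    (hx : x ∈ Rad (compGrp H Y)) : g x = x :=
  compGrp_genT.fix_of hx g hg

end Cfsg.Agent.Lib.Helper2.Mcl
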