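import Cfsg.Agent.Lib.Helper2.MclJ
import Cfsg.Agent.Lib.Helper2.MclH
import Cfsg.Agent.Lib.Helper2.MclI

set_option autoImplicit false
set_option maxHeartbeats 1000000
set_option linter.unusedVariables false
set_option linter.unusedSectionVars false
set_option linter.style.longLine false
set_option linter.unusedSimpArgs false
set_option linter.deprecated false
set_option linter.style.haveILetI false

/-!
# McLaughlin's theorem (S5075): the action of a component group on its component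
-/

namespace Cfsg.Agent.Lib.Helper2.Mcl

open Module LinearMap

variable {K : Type*} [Field K] {V : Type*} [AddCommGroup V] [Module K V]
variable {G : Subgroup (V ≃ₗ[K] V)} {Y R : Submodule K V}

theorem map_eq_of_sub_mem (hsub : ∀ g ∈ G, ∀ x, g x - x ∈ Y) {g : V ≃ₗ[K] V} (hg : g ∈ G) :
    Y.map (g : V →ₗ[K] V) = Y := by
  apply le_antisymm
  · rintro _ ⟨y, hy, rfl⟩
    have := hsub g hg y
    have e : (g : V →ₗ[K] V) y = (g y - y) + y := by simp
    rw [e]; exact Y.add_mem this hy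
  · intro y hy
    refine ⟨g⁻¹ y, ?_, ?_⟩
    · have := hsub g⁻¹ (G.inv_mem hg) y
      have e : g⁻¹ y = (g⁻¹ y - y) + y := by abel
      rw [e]; exact Y.add_mem this hy
    · show g (g.symm y) = y
      simp

/-- The restriction homomorphism. -/
noncomputable def resHom (G : Subgroup (V ≃ₗ[K] V)) (Y : Submodule K V)
    (hsub : ∀ g ∈ G, ∀ x, g x - x ∈ Y) : ↥G →* (↥Y ≃ₗ[K] ↥Y) :=
  MonoidHom.mk' (fun g => LinearEquiv.ofSubmodules g.1 Y Y (map_eq_of_sub_mem hsub g.2)) (by
    intro a b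
    ext y
    rfl)

theorem resHom_apply (hsub : ∀ g ∈ G, ∀ x, g x - x ∈ Y) (g : ↥G) (y : ↥Y) :
    ((resHom G Y hsub g y : ↥Y) : V) = (g : V ≃ₗ[K] V) (y : V) := rfl

/-- projection onto `Y` with values in `Y` -/
noncomputable def pLY (hc : IsCompl Y R) : V →ₗ[K] ↥Y :=
  LinearMap.codRestrict Y (pL hc) (pL_mem hc)

theorem pLY_coe (hc : IsCompl Y R) (x : V) : ((pLY hc x : ↥Y) : V) = pL hc x := rfl

theorem pLY_of_mem (hc : IsCompl Y R) (y : ↥Y) : pLY hc (y : V) = y :=
  Subtype.ext (pL_of_mem hc y.2)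

theorem pLY_of_mem' (hc : IsCompl Y R) {w : V} (hw : w ∈ R) : pLY hc w = 0 :=
  Subtype.ext (pL_of_mem' hc hw)

/-- The linear case. -/
theorem resHom_range_sl [FiniteDimensional K V] (hG : GenT G) (h : SLCfg G Y R)
    (hcen : ∀ (v : V) (f : Dual K V), In G v f → v ≠ 0 → f ≠ 0 → v ∈ Y)
    (hsub : ∀ g ∈ G, ∀ x, g x - x ∈ Y) :
    ((resHom G Y hsub).range : Set (↥Y ≃ₗ[K] ↥Y)) =
      {f : ↥Y ≃ₗ[K] ↥Y | LinearMap.det (f : ↥Y →ₗ[K] ↥Y) = 1} := by
  have hc := h.compl
  apply Set.Subset.antisymm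
  · rintro _ ⟨g, rfl⟩
    show LinearMap.det ((resHom G Y hsub g : ↥Y ≃ₗ[K] ↥Y) : ↥Y →ₗ[K] ↥Y) = 1
    have key : ∀ g ∈ G, ∃ hg : g ∈ G, LinearEquiv.det (resHom G Y hsub ⟨g, hg⟩) = 1 := by
      refine hG.induction (P := fun g => ∃ hg : g ∈ G, LinearEquiv.det (resHom G Y hsub ⟨g, hg⟩) = 1)
        ?_ ?_ ?_
      · refine ⟨G.one_mem, ?_⟩
        have : (⟨1, G.one_mem⟩ : ↥G) = 1 := rfl
        rw [this, map_one, map_one]
      · rintro a b ⟨ha, da⟩ ⟨hb, db⟩
        refine ⟨G.mul_mem ha hb, ?_⟩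
        have : (⟨a * b, G.mul_mem ha hb⟩ : ↥G) = ⟨a, ha⟩ * ⟨b, hb⟩ := rfl
        rw [this, map_mul, map_mul, da, db, one_mul]
      · intro v f hin
        refine ⟨hin.mem, ?_⟩
        by_cases hvY : v ∈ Y
        · have hfv' : (f ∘ₗ Y.subtype) (⟨v, hvY⟩ : ↥Y) = 0 := hin.inc
          have : resHom G Y hsub ⟨LinearEquiv.transvection hin.inc, hin.mem⟩ =
              LinearEquiv.transvection hfv' := by
            ext y
            rfl
          rw [this]
          exact LinearEquiv.transvection.det_eq_one hfv'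
        · have hv0 : v ≠ 0 := by
            rintro rfl; exact hvY Y.zero_mem
          have hf0 : f = 0 := by
            by_contra hf
            exact hvY (hcen v f hin hv0 hf)
          have : resHom G Y hsub ⟨LinearEquiv.transvection hin.inc, hin.mem⟩ = 1 := by
            ext y
            rw [resHom_apply]
            show LinearEquiv.transvection hin.inc (y : V) = _
            rw [tv_apply, hf0]
            simp
          rw [this, map_one]
    obtain ⟨hg', hd⟩ := key g.1 g.2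
    have : LinearMap.det ((resHom G Y hsub g : ↥Y ≃ₗ[K] ↥Y) : ↥Y →ₗ[K] ↥Y) =
        ((LinearEquiv.det (resHom G Y hsub g) : Kˣ) : K) := (LinearEquiv.coe_det _).symm
    rw [this]
    have e : (⟨g.1, hg'⟩ : ↥G) = g := rfl
    rw [e] at hd
    rw [hd]; rfl
  · intro e he
    have he' : LinearMap.det (e : ↥Y →ₗ[K] ↥Y) = 1 := he
    have hmem := sl_gen e he'
    have hle : Subgroup.closure (LinearEquiv.transvections K ↥Y) ≤ (resHom G Y hsub).range := by
      rw [Subgroup.closure_le]
      rintro t ⟨f0, v0, hfv, rfl⟩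
      have hψW : ∀ w ∈ R, (f0 ∘ₗ pLY hc) w = 0 := by
        intro w hw
        rw [LinearMap.comp_apply, pLY_of_mem' hc hw, map_zero]
      have hψu : (f0 ∘ₗ pLY hc) (v0 : V) = 0 := by
        rw [LinearMap.comp_apply, pLY_of_mem hc v0]; exact hfv
      have hin := h.mem (v0 : V) v0.2 (f0 ∘ₗ pLY hc) hψW hψu
      refine ⟨⟨LinearEquiv.transvection hin.inc, hin.mem⟩, ?_⟩
      ext y
      rw [resHom_apply]
      show LinearEquiv.transvection hin.inc (y : V) = _
      rw [tv_apply, LinearMap.comp_apply, pLY_of_mem hc y]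
      rfl
    exact hle hmem

/-- the restriction of the form to `Y` -/
noncomputable def spForm (fl : V →ₗ[K] Dual K V) (Y : Submodule K V) : ↥Y →ₗ[K] Dual K ↥Y :=
  (Y.subtype.dualMap ∘ₗ fl) ∘ₗ Y.subtype

theorem spForm_apply (fl : V →ₗ[K] Dual K V) (Y : Submodule K V) (x y : ↥Y) :
    spForm fl Y x y = fl (x : V) (y : V) := rfl

/-- The symplectic case. -/
theorem resHom_range_sp [FiniteDimensional K V] (hG : GenT G) (hF : Full G)
    {fl : V →ₗ[K] Dual K V} (h : SpCfg G fl Y)
    (hall : ∀ (v : V) (φ : Dual K V), In G v φ → v ≠ 0 → φ ≠ 0 → v ∈ Y ∧ ∃ c : K, φ = c • fl v)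
    (hsub : ∀ g ∈ G, ∀ x, g x - x ∈ Y) :
    ∃ B : LinearMap.BilinForm K ↥Y, B.IsAlt ∧ B.Nondegenerate ∧
      ((resHom G Y hsub).range : Set (↥Y ≃ₗ[K] ↥Y)) =
        {f : ↥Y ≃ₗ[K] ↥Y | ∀ x y, B (f x) (f y) = B x y} := by
  have halt : ∀ x : ↥Y, spForm fl Y x x = 0 := fun x => h.alt x
  have hnd : ∀ x : ↥Y, (∀ y : ↥Y, spForm fl Y x y = 0) → x = 0 := by
    intro x hx
    exact Subtype.ext (h.nondeg x.2 (fun u' hu' => hx ⟨u', hu'⟩))
  refine ⟨spForm fl Y, halt, ⟨hnd, ?_⟩, ?_⟩
  · intro y hy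
    apply hnd
    intro x
    rw [spForm_apply, h.skew, ← spForm_apply, hy x, neg_zero]
  · have hiso : ∀ g ∈ G, ∀ x y, fl (g x) (g y) = fl x y := by
      refine hG.induction (P := fun g => ∀ x y, fl (g x) (g y) = fl x y) (fun x y => rfl) ?_ ?_
      · intro a b ha hb x y
        rw [LinearEquiv.mul_apply, LinearEquiv.mul_apply, ha, hb]
      · intro v φ hin x y
        rw [tv_apply, tv_apply]
        by_cases hv : v = 0
        · rw [hv]; simp
        by_cases hφ : φ = 0
        · rw [hφ]; simp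
        obtain ⟨_, c, rfl⟩ := hall v φ hin hv hφ
        simp only [map_add, map_smul, LinearMap.add_apply, LinearMap.smul_apply, smul_eq_mul, h.alt,
          mul_zero, add_zero]
        rw [h.skew x v]
        ring
    apply Set.Subset.antisymm
    · rintro _ ⟨g, rfl⟩ x y
      rw [spForm_apply, spForm_apply, resHom_apply, resHom_apply]
      exact hiso g.1 g.2 _ _
    · intro e he
      have hmem := sp_gen' (spForm fl Y) halt hnd e he
      have hle : Subgroup.closure (spT (spForm fl Y) halt) ≤ (resHom G Y hsub).range := by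
        rw [Subgroup.closure_le]
        rintro t ⟨u, c, rfl⟩
        have hin : In G (u : V) (c • fl (u : V)) := hF.smul_right (h.mem u u.2) c
        refine ⟨⟨LinearEquiv.transvection hin.inc, hin.mem⟩, ?_⟩
        ext y
        rw [resHom_apply]
        show LinearEquiv.transvection hin.inc (y : V) = _
        rw [tv_apply, spT_apply (spForm fl Y) halt]
        rfl
      exact hle hmem

end Cfsg.Agent.Lib.Helper2.Mcl
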