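import Cfsg.Agent.Lib.Helper2.MclK

set_option autoImplicit false
set_option maxHeartbeats 1000000
set_option linter.unusedVariables false
set_option linter.unusedSectionVars false
set_option linter.style.longLine false
set_option linter.unusedSimpArgs false
set_option linter.deprecated false
set_option linter.style.haveILetI false

/-!
# McLaughlin's theorem (S5075): assembling the decomposition
-/

namespace Cfsg.Agent.Lib.Helper2.Mcl

open Module LinearMap

variable {K : Type*} [Field K] {V : Type*} [AddCommGroup V] [Module K V]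

/-- a direct sum decomposition from a family of complemented subspaces -/
theorem isInternal_of_compl {n : ℕ} (W : Fin (n + 1) → Submodule K V) (R : Fin n → Submodule K V)
    (hW0 : W 0 = ⨅ j, R j) (hc : ∀ j, IsCompl (W j.succ) (R j))
    (hle : ∀ j k, j ≠ k → W j.succ ≤ R k) : DirectSum.IsInternal W := by
  classical
  rw [DirectSum.isInternal_submodule_iff_iSupIndep_and_iSup_eq_top]
  obtain ⟨P, hPdef⟩ : ∃ P : V →ₗ[K] V, P = ∑ j, pL (hc j) := ⟨_, rfl⟩
  have hPapp : ∀ x, P x = ∑ j, pL (hc j) x := by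
    intro x; rw [hPdef, LinearMap.sum_apply]
  have hPk : ∀ k x, pL (hc k) (P x) = pL (hc k) x := by
    intro k x
    rw [hPapp, map_sum, Finset.sum_eq_single k]
    · exact pL_of_mem (hc k) (pL_mem (hc k) x)
    · intro j _ hjk
      exact pL_of_mem' (hc k) (hle j k hjk (pL_mem (hc j) x))
    · intro h; exact absurd (Finset.mem_univ k) h
  have hP0 : ∀ x ∈ W 0, P x = 0 := by
    intro x hx
    rw [hW0] at hx
    rw [hPapp]
    apply Finset.sum_eq_zero
    intro j _
    exact pL_of_mem' (hc j) ((Submodule.mem_iInf _).mp hx j)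
  have hPs : ∀ j : Fin n, ∀ x ∈ W j.succ, P x = x := by
    intro j x hx
    rw [hPapp, Finset.sum_eq_single j]
    · exact pL_of_mem (hc j) hx
    · intro k _ hkj
      exact pL_of_mem' (hc k) (hle j k (Ne.symm hkj) hx)
    · intro h; exact absurd (Finset.mem_univ j) h
  have hPmem : ∀ x, P x ∈ ⨆ i, W i := by
    intro x
    rw [hPapp]
    apply Submodule.sum_mem
    intro j _
    exact (le_iSup W j.succ) (pL_mem (hc j) x)
  have hQ : ∀ x, x - P x ∈ W 0 := by
    intro x
    rw [hW0, Submodule.mem_iInf]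
    intro k
    have : pL (hc k) (x - P x) = 0 := by rw [map_sub, hPk, sub_self]
    have e := pL_add_pR (hc k) (x - P x)
    rw [this, zero_add] at e
    rw [← e]; exact pR_mem (hc k) _
  constructor
  · rw [iSupIndep_def]
    intro i
    refine Fin.cases ?_ ?_ i
    · rw [Submodule.disjoint_def]
      intro x hx hx'
      have hle' : (⨆ j, ⨆ (_ : j ≠ (0 : Fin (n + 1))), W j) ≤ LinearMap.ker (P - LinearMap.id) := by
        apply iSup₂_le
        intro i' hi'
        obtain ⟨j, rfl⟩ := Fin.exists_succ_eq.mpr hi'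
        intro y hy
        rw [LinearMap.mem_ker, LinearMap.sub_apply, hPs j y hy]
        simp
      have h1 := hle' hx'
      rw [LinearMap.mem_ker, LinearMap.sub_apply] at h1
      have h2 : P x = x := by simpa [sub_eq_zero] using h1
      rw [← h2]; exact hP0 x hx
    · intro j
      have hle' : (⨆ i', ⨆ (_ : i' ≠ j.succ), W i') ≤ R j := by
        apply iSup₂_le
        intro i'
        refine Fin.cases ?_ ?_ i'
        · intro _
          rw [hW0]; exact iInf_le _ j
        · intro k hk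
          have hkj : k ≠ j := fun h => hk (by rw [h])
          exact hle k j hkj
      exact (hc j).disjoint.mono_right hle'
  · rw [eq_top_iff]
    intro x _
    have : x = (x - P x) + P x := by abel
    rw [this]
    exact Submodule.add_mem _ ((le_iSup W 0) (hQ x)) (hPmem x)

theorem map_eq_of_forall_mem {H : Subgroup (V ≃ₗ[K] V)} {S : Submodule K V}
    (hS : ∀ h ∈ H, ∀ y ∈ S, h y ∈ S) {h : V ≃ₗ[K] V} (hh : h ∈ H) :
    S.map (h : V →ₗ[K] V) = S := by
  apply le_antisymm
  · rintro _ ⟨y, hy, rfl⟩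
    exact hS h hh y hy
  · intro y hy
    refine ⟨h⁻¹ y, hS h⁻¹ (H.inv_mem hh) y hy, ?_⟩
    show h (h.symm y) = y
    simp

/-- The abstract assembly theorem. -/
theorem assemble (H : Subgroup (V ≃ₗ[K] V)) {n : ℕ}
    (W : Fin (n + 1) → Submodule K V) (R : Fin n → Submodule K V)
    (Kj : Fin n → Subgroup (V ≃ₗ[K] V))
    (hW0 : W 0 = ⨅ j, R j)
    (hc : ∀ j, IsCompl (W j.succ) (R j))
    (hle : ∀ j k, j ≠ k → W j.succ ≤ R k)
    (hKH : ∀ j, Kj j ≤ H)
    (hnorm : ∀ j, ∀ h ∈ H, ∀ g ∈ Kj j, h * g * h⁻¹ ∈ Kj j)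
    (hsup : H ≤ ⨆ j, Kj j)
    (hfix : ∀ j, ∀ g ∈ Kj j, ∀ x ∈ R j, g x = x)
    (hsub : ∀ j, ∀ g ∈ Kj j, ∀ x, g x - x ∈ W j.succ) :
    DirectSum.IsInternal W ∧
    (∀ h ∈ H, ∀ i, (W i).map (h : V →ₗ[K] V) = W i) ∧
    (∀ j, Kj j ≤ H ∧ ((Kj j).subgroupOf H).Normal) ∧ ⨆ j, Kj j = H ∧
    (∀ j, Kj j ⊓ (⨆ j' ∈ {j' : Fin n | j' ≠ j}, Kj j') = ⊥) ∧
    (∀ j j', j ≠ j' → ∀ a ∈ Kj j, ∀ b ∈ Kj j', a * b = b * a) ∧
    (∀ j, ∀ h ∈ Kj j, ∀ i : Fin (n + 1), i ≠ j.succ → ∀ v ∈ W i, h v = v) := by
  have hW0le : ∀ j, W 0 ≤ R j := by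
    intro j; rw [hW0]; exact iInf_le _ j
  have hinv0 : ∀ h ∈ H, ∀ y ∈ W 0, h y = y := by
    intro h hh
    refine Subgroup.iSup_induction Kj (C := fun h => ∀ y ∈ W 0, h y = y) (hsup hh) ?_ ?_ ?_
    · intro k g hg y hy
      exact hfix k g hg y (hW0le k hy)
    · intro y _; rfl
    · intro a b ha hb y hy
      rw [LinearEquiv.mul_apply, hb y hy, ha y hy]
  have hinvs : ∀ j : Fin n, ∀ h ∈ H, ∀ y ∈ W j.succ, h y ∈ W j.succ := by
    intro j h hh
    refine Subgroup.iSup_induction Kj (C := fun h => ∀ y ∈ W j.succ, h y ∈ W j.succ) (hsup hh) ?_ ?_ ?_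
    · intro k g hg y hy
      by_cases hkj : k = j
      · subst hkj
        have := hsub k g hg y
        have e : g y = (g y - y) + y := by abel
        rw [e]; exact Submodule.add_mem _ this hy
      · rw [hfix k g hg y (hle j k (Ne.symm hkj) hy)]; exact hy
    · intro y hy; exact hy
    · intro a b ha hb y hy
      rw [LinearEquiv.mul_apply]; exact ha _ (hb y hy)
  refine ⟨isInternal_of_compl W R hW0 hc hle, ?_, ?_, le_antisymm (iSup_le hKH) hsup, ?_, ?_, ?_⟩
  · intro h hh i
    refine Fin.cases ?_ ?_ i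
    · exact map_eq_of_forall_mem (H := H) (fun h hh y hy => by rw [hinv0 h hh y hy]; exact hy) hh
    · intro j
      exact map_eq_of_forall_mem (H := H) (hinvs j) hh
  · intro j
    refine ⟨hKH j, ⟨?_⟩⟩
    intro n hn g
    rw [Subgroup.mem_subgroupOf] at hn ⊢
    exact hnorm j g.1 g.2 n.1 hn
  · intro j
    rw [eq_bot_iff]
    intro g hg
    rw [Subgroup.mem_bot]
    obtain ⟨hg1, hg2⟩ := Subgroup.mem_inf.mp hg
    have hfixY : ∀ y ∈ W j.succ, g y = y := by
      let Fx : Subgroup (V ≃ₗ[K] V) :=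
        { carrier := {g | ∀ y ∈ W j.succ, g y = y}
          mul_mem' := by
            intro a b ha hb y hy
            rw [LinearEquiv.mul_apply, hb y hy, ha y hy]
          one_mem' := fun y _ => rfl
          inv_mem' := by
            intro a ha y hy
            show a.symm y = y
            rw [LinearEquiv.symm_apply_eq]
            exact (ha y hy).symm }
      have hle' : (⨆ j' ∈ {j' : Fin n | j' ≠ j}, Kj j') ≤ Fx := by
        apply iSup₂_le
        intro j' hj' g' hg' y hy
        exact hfix j' g' hg' y (hle j j' (Ne.symm hj') hy)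
      exact hle' hg2
    ext x
    have e := pL_add_pR (hc j) x
    rw [← e, map_add, hfixY _ (pL_mem (hc j) x), hfix j g hg1 _ (pR_mem (hc j) x)]
    rfl
  · intro j j' hjj' a ha b hb
    ext x
    rw [LinearEquiv.mul_apply, LinearEquiv.mul_apply]
    have h1 : a (b x - x) = b x - x :=
      hfix j a ha _ (hle j' j (Ne.symm hjj') (hsub j' b hb x))
    have h2 : b (a x - x) = a x - x :=
      hfix j' b hb _ (hle j j' hjj' (hsub j a ha x))
    rw [map_sub] at h1 h2
    have e1 : a (b x) = b x - x + a x := by rw [← h1]; abel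
    have e2 : b (a x) = a x - x + b x := by rw [← h2]; abel
    rw [e1, e2]; abel
  · intro j h hh i
    refine Fin.cases ?_ ?_ i
    · intro _ v hv
      exact hfix j h hh v (hW0le j hv)
    · intro k hk v hv
      have hkj : k ≠ j := fun h' => hk (by rw [h'])
      exact hfix j h hh v (hle k j hkj hv)

end Cfsg.Agent.Lib.Helper2.Mcl
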