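import Cfsg.Agent.Lib.Helper2.MclL

set_option autoImplicit false
set_option maxHeartbeats 1000000
set_option linter.unusedVariables false
set_option linter.unusedSectionVars false
set_option linter.style.longLine false
set_option linter.unusedSimpArgs false
set_option linter.deprecated false
set_option linter.style.haveILetI false

/-!
# McLaughlin's theorem (S5075): the structure theorem
-/

namespace Cfsg.Agent.Lib.Helper2.Mcl

open Module LinearMap

variable {K : Type*} [Field K] {V : Type*} [AddCommGroup V] [Module K V]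
variable {H : Subgroup (V ≃ₗ[K] V)}

/-- the action of a component group on its component -/
theorem comp_rho [FiniteDimensional K V] {Y : Submodule K V} (hY : IsComp H Y) (hF : Full H)
    (hG : GenT H) (hU : NoUnip H) (h2 : (2 : K) ≠ 0) (Y' : Submodule K V) (hY' : Y' = Y) :
    ∃ ρ : ↥(compGrp H Y) →* (↥Y' ≃ₗ[K] ↥Y'),
      (∀ (h : ↥(compGrp H Y)) (v : ↥Y'), ((ρ h v : ↥Y') : V) = (h : V ≃ₗ[K] V) (v : V)) ∧
      ((ρ.range : Set (↥Y' ≃ₗ[K] ↥Y')) =
          {f : ↥Y' ≃ₗ[K] ↥Y' | LinearMap.det (f : ↥Y' →ₗ[K] ↥Y') = 1} ∨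
        ∃ B : LinearMap.BilinForm K ↥Y', B.IsAlt ∧ B.Nondegenerate ∧
          (ρ.range : Set (↥Y' ≃ₗ[K] ↥Y')) =
            {f : ↥Y' ≃ₗ[K] ↥Y' | ∀ x y, B (f x) (f y) = B x y}) := by
  subst hY'
  have hsub : ∀ g ∈ compGrp H Y', ∀ x, g x - x ∈ Y' := fun g hg => compGrp_sub_mem hg
  refine ⟨resHom (compGrp H Y') Y' hsub, fun h v => rfl, ?_⟩
  rcases hY.main hF hG hU h2 with h | ⟨fl, h, hk, hall⟩
  · left
    exact resHom_range_sl compGrp_genT h (fun v f hin hv hf => mem_of_in_compGrp hin hf) hsub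
  · right
    exact resHom_range_sp compGrp_genT (compGrp_full hF) h hall hsub

/-- the trivial group acting on the trivial space -/
theorem triv_rho (Y' : Submodule K V) (hY' : Y' = ⊥) (G : Subgroup (V ≃ₗ[K] V)) (hGbot : G = ⊥) :
    ∃ ρ : ↥G →* (↥Y' ≃ₗ[K] ↥Y'),
      (∀ (h : ↥G) (v : ↥Y'), ((ρ h v : ↥Y') : V) = (h : V ≃ₗ[K] V) (v : V)) ∧
      ((ρ.range : Set (↥Y' ≃ₗ[K] ↥Y')) =
          {f : ↥Y' ≃ₗ[K] ↥Y' | LinearMap.det (f : ↥Y' →ₗ[K] ↥Y') = 1} ∨
        ∃ B : LinearMap.BilinForm K ↥Y', B.IsAlt ∧ B.Nondegenerate ∧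
          (ρ.range : Set (↥Y' ≃ₗ[K] ↥Y')) =
            {f : ↥Y' ≃ₗ[K] ↥Y' | ∀ x y, B (f x) (f y) = B x y}) := by
  subst hY' hGbot
  have hone : ∀ f : ↥(⊥ : Submodule K V) ≃ₗ[K] ↥(⊥ : Submodule K V), f = 1 := by
    intro f
    exact LinearEquiv.ext (fun x => Subsingleton.elim _ _)
  refine ⟨1, ?_, Or.inl ?_⟩
  · intro h v
    have hh : (h : V ≃ₗ[K] V) = 1 := Subgroup.mem_bot.mp h.2
    rw [hh]; rfl
  · ext f
    rw [hone f]
    constructor
    · intro _
      show LinearMap.det ((1 : ↥(⊥ : Submodule K V) ≃ₗ[K] ↥(⊥ : Submodule K V)) :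
        ↥(⊥ : Submodule K V) →ₗ[K] ↥(⊥ : Submodule K V)) = 1
      exact LinearMap.det_id
    · intro _
      exact ⟨1, rfl⟩

theorem tv_eq_one_of_triv {f : Dual K V} {v : V} (h : f v = 0) (hvf : v = 0 ∨ f = 0) :
    LinearEquiv.transvection h = 1 := by
  ext x
  rw [tv_apply]
  rcases hvf with rfl | rfl <;> simp

/-- **McLaughlin's theorem** in abstract form. -/
theorem main_structure [Finite V] (H : Subgroup (V ≃ₗ[K] V)) (hF : Full H) (hG : GenT H)
    (hU : NoUnip H) (h2 : (2 : K) ≠ 0) :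
    ∃ (n : ℕ) (W : Fin (n + 1) → Submodule K V) (Kj : Fin n → Subgroup (V ≃ₗ[K] V)),
      1 ≤ n ∧ DirectSum.IsInternal W ∧
      (∀ h ∈ H, ∀ i, (W i).map (h : V →ₗ[K] V) = W i) ∧
      (∀ j, Kj j ≤ H ∧ ((Kj j).subgroupOf H).Normal) ∧ ⨆ j, Kj j = H ∧
      (∀ j, Kj j ⊓ (⨆ j' ∈ {j' : Fin n | j' ≠ j}, Kj j') = ⊥) ∧
      (∀ j j', j ≠ j' → ∀ a ∈ Kj j, ∀ b ∈ Kj j', a * b = b * a) ∧
      (∀ j, ∀ h ∈ Kj j, ∀ i : Fin (n + 1), i ≠ j.succ → ∀ v ∈ W i, h v = v) ∧
      (∀ j, ∃ ρ : ↥(Kj j) →* (↥(W j.succ) ≃ₗ[K] ↥(W j.succ)),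
        (∀ (h : ↥(Kj j)) (v : ↥(W j.succ)), ((ρ h v : ↥(W j.succ)) : V) = (h : V ≃ₗ[K] V) (v : V)) ∧
        ((ρ.range : Set (↥(W j.succ) ≃ₗ[K] ↥(W j.succ))) =
            {f : ↥(W j.succ) ≃ₗ[K] ↥(W j.succ) | LinearMap.det (f : ↥(W j.succ) →ₗ[K] ↥(W j.succ)) = 1} ∨
          ∃ B : LinearMap.BilinForm K ↥(W j.succ), B.IsAlt ∧ B.Nondegenerate ∧
            (ρ.range : Set (↥(W j.succ) ≃ₗ[K] ↥(W j.succ))) =
              {f : ↥(W j.succ) ≃ₗ[K] ↥(W j.succ) | ∀ x y, B (f x) (f y) = B x y})) := by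
  haveI : FiniteDimensional K V := Module.Finite.of_finite
  by_cases hne : ∃ (v : V) (f : Dual K V), In H v f ∧ v ≠ 0 ∧ f ≠ 0
  · -- the components
    haveI : Finite {Y : Submodule K V // IsComp H Y} := Subtype.finite
    obtain ⟨n, ⟨e⟩⟩ : ∃ n : ℕ, Nonempty ({Y : Submodule K V // IsComp H Y} ≃ Fin n) :=
      ⟨_, ⟨Finite.equivFin _⟩⟩
    obtain ⟨Yf, hYfdef⟩ : ∃ Yf : Fin n → Submodule K V, Yf = fun j => (e.symm j).1 := ⟨_, rfl⟩
    have hYf : ∀ j, IsComp H (Yf j) := by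
      intro j; rw [hYfdef]; exact (e.symm j).2
    have hinj : ∀ j k, j ≠ k → Yf j ≠ Yf k := by
      intro j k hjk h
      rw [hYfdef] at h
      exact hjk (e.symm.injective (Subtype.ext h))
    have hcov : ∀ Y, IsComp H Y → ∃ j, Yf j = Y := by
      intro Y hY
      refine ⟨e ⟨Y, hY⟩, ?_⟩
      rw [hYfdef]
      simp
    have hn : 1 ≤ n := by
      obtain ⟨v, f, hin, hv, hf⟩ := hne
      obtain ⟨Y, hY, _⟩ := exists_comp_mem hF hG hU h2 hin hv hf
      obtain ⟨j, _⟩ := hcov Y hY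
      have := j.2
      omega
    have hasm := assemble H
      (Fin.cons (⨅ j, Rad (compGrp H (Yf j))) Yf : Fin (n + 1) → Submodule K V)
      (fun j => Rad (compGrp H (Yf j))) (fun j => compGrp H (Yf j)) rfl
      (fun j => (hYf j).isCompl hF hG hU h2)
      (fun j k hjk => (hYf k).le_rad_of_ne hF hU (hYf j) (hinj k j (Ne.symm hjk)))
      (fun j => compGrp_le)
      (fun j h hh g hg => compGrp_conj (hYf j).inv hh g hg)
      (by
        intro g hg
        have hg' := hG hg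
        have hle : Subgroup.closure {g | g ∈ H ∧ ∃ (v : V) (f : Dual K V) (h : f v = 0),
            g = LinearEquiv.transvection h} ≤ ⨆ j, compGrp H (Yf j) := by
          rw [Subgroup.closure_le]
          rintro t ⟨htH, v, f, hfv, rfl⟩
          by_cases hvf : v = 0 ∨ f = 0
          · rw [tv_eq_one_of_triv hfv hvf]; exact Subgroup.one_mem _
          · push_neg at hvf
            obtain ⟨Y, hY, hvY⟩ := exists_comp_mem hF hG hU h2 ⟨hfv, htH⟩ hvf.1 hvf.2
            obtain ⟨j, rfl⟩ := hcov Y hY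
            exact (le_iSup (fun j => compGrp H (Yf j)) j)
              (Subgroup.subset_closure ⟨htH, v, f, hfv, hvY, rfl⟩)
        exact hle hg')
      (fun j g hg x hx => compGrp_fix hg hx)
      (fun j g hg => compGrp_sub_mem hg)
    obtain ⟨h1, h2', h3, h4, h5, h6, h7⟩ := hasm
    refine ⟨n, _, _, hn, h1, h2', h3, h4, h5, h6, h7, ?_⟩
    intro j
    exact comp_rho (hYf j) hF hG hU h2 _ rfl
  · -- the degenerate case
    push_neg at hne
    have hHbot : H = ⊥ := by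
      rw [eq_bot_iff]
      intro g hg
      have hg' := hG hg
      have hle : Subgroup.closure {g | g ∈ H ∧ ∃ (v : V) (f : Dual K V) (h : f v = 0),
          g = LinearEquiv.transvection h} ≤ ⊥ := by
        rw [Subgroup.closure_le]
        rintro t ⟨htH, v, f, hfv, rfl⟩
        have hvf : v = 0 ∨ f = 0 := by
          by_cases hv : v = 0
          · exact Or.inl hv
          · exact Or.inr (hne v f ⟨hfv, htH⟩ hv)
        rw [tv_eq_one_of_triv hfv hvf]
        exact Subgroup.one_mem _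
      exact hle hg'
    have hbot : ∀ g ∈ (⊥ : Subgroup (V ≃ₗ[K] V)), g = 1 := fun g hg => Subgroup.mem_bot.mp hg
    have hasm := assemble H
      (Fin.cons ⊤ (fun _ => ⊥) : Fin (1 + 1) → Submodule K V)
      (fun _ => ⊤) (fun _ => ⊥) (by simp)
      (fun j => isCompl_bot_top)
      (fun j k hjk => bot_le)
      (fun j => bot_le)
      (fun j h hh g hg => by rw [hbot g hg]; simp)
      (by rw [hHbot]; exact bot_le)
      (fun j g hg x hx => by rw [hbot g hg]; rfl)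
      (fun j g hg x => by rw [hbot g hg]; simp)
    obtain ⟨h1, h2', h3, h4, h5, h6, h7⟩ := hasm
    refine ⟨1, _, _, le_refl _, h1, h2', h3, h4, h5, h6, h7, ?_⟩
    intro j
    exact triv_rho _ rfl _ rfl

end Cfsg.Agent.Lib.Helper2.Mcl
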