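import Cfsg.Agent.Lib.Helper2.MclM
import Cfsg.Prelude.Def_Solvable

set_option autoImplicit false
set_option maxHeartbeats 1000000
set_option linter.unusedVariables false
set_option linter.unusedSectionVars false
set_option linter.style.longLine false
set_option linter.unusedSimpArgs false
set_option linter.deprecated false
set_option linter.style.haveILetI false

/-!
# McLaughlin's theorem (S5075): the hypotheses over `ZMod p`
-/

namespace Cfsg.Agent.Lib.Helper2.Mcl

open Module LinearMap

theorem two_ne_zero_of_odd {p : ℕ} [Fact p.Prime] (hp : Odd p) : (2 : ZMod p) ≠ 0 := by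
  intro h
  have h1 : ((2 : ℕ) : ZMod p) = 0 := by exact_mod_cast h
  rw [ZMod.natCast_eq_zero_iff] at h1
  have hp2 : p ≤ 2 := Nat.le_of_dvd (by norm_num) h1
  have h2 := (Fact.out : p.Prime).two_le
  have h3 : p = 2 := le_antisymm hp2 h2
  rw [h3] at hp
  exact (by decide : ¬ Odd 2) hp

variable {p : ℕ} [Fact p.Prime] {V : Type*} [AddCommGroup V] [Module (ZMod p) V]

/-- an element of order `p` fixing a hyperplane pointwise is a transvection -/
theorem is_tv_of_order [Finite V] (t : V ≃ₗ[ZMod p] V) (ho : orderOf t = p)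
    (hfix : finrank (ZMod p) ↥(LinearMap.ker ((t : V →ₗ[ZMod p] V) - LinearMap.id)) + 1 =
      finrank (ZMod p) V) :
    ∃ (v : V) (f : Dual (ZMod p) V) (h : f v = 0), t = LinearEquiv.transvection h := by
  haveI : FiniteDimensional (ZMod p) V := Module.Finite.of_finite
  have hrk := LinearMap.finrank_range_add_finrank_ker ((t : V →ₗ[ZMod p] V) - LinearMap.id)
  have hdil : t ∈ LinearEquiv.dilatransvections (ZMod p) V := by
    rw [LinearEquiv.mem_dilatransvections_iff_finrank]
    omega
  obtain ⟨f, v, hfv⟩ := hdil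
  have happ : ∀ x, t x = x + f x • v := by
    intro x
    have := LinearMap.congr_fun hfv x
    rw [LinearMap.transvection.apply] at this
    exact this
  have hf : f ≠ 0 := by
    rintro rfl
    have : t = 1 := by
      ext x
      rw [happ]; simp
    rw [this, orderOf_one] at ho
    exact (Fact.out : p.Prime).one_lt.ne ho
  obtain ⟨x0, hx0⟩ := exists_apply_ne hf
  have key : ∀ k : ℕ, ∀ x, f ((t ^ k) x) = (1 + f v) ^ k * f x := by
    intro k
    induction k with
    | zero => intro x; simp
    | succ k ih =>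
      intro x
      rw [pow_succ', LinearEquiv.mul_apply, happ, map_add, map_smul, ih, smul_eq_mul]
      ring
  have h1 := key p x0
  have htp : t ^ p = 1 := by
    have := pow_orderOf_eq_one t
    rwa [ho] at this
  rw [htp, ZMod.pow_card] at h1
  have h2 : f v * f x0 = 0 := by
    have : f ((1 : V ≃ₗ[ZMod p] V) x0) = f x0 := rfl
    rw [this] at h1
    linear_combination -h1
  have hfv0 : f v = 0 := by
    rcases mul_eq_zero.mp h2 with h3 | h3
    · exact h3
    · exact absurd h3 hx0
  refine ⟨v, f, hfv0, ?_⟩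
  ext x
  rw [happ, tv_apply]

theorem genT_of_closure [Finite V] (H : Subgroup (V ≃ₗ[ZMod p] V)) (T : Set (V ≃ₗ[ZMod p] V))
    (hHT : H = Subgroup.closure T)
    (hT : ∀ t ∈ T, orderOf t = p ∧
      finrank (ZMod p) ↥(LinearMap.ker ((t : V →ₗ[ZMod p] V) - LinearMap.id)) + 1 =
        finrank (ZMod p) V) : GenT H := by
  unfold GenT
  conv_lhs => rw [hHT]
  apply Subgroup.closure_mono
  intro t ht
  obtain ⟨v, f, h, rfl⟩ := is_tv_of_order t (hT t ht).1 (hT t ht).2
  refine ⟨?_, v, f, h, rfl⟩
  rw [hHT]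
  exact Subgroup.subset_closure ht

theorem noUnip_of_pCore (H : Subgroup (V ≃ₗ[ZMod p] V)) (hOp : Cfsg.pCore p ↥H = ⊥) :
    NoUnip H := by
  intro Y hY g hg hfixY hsubY
  let N : Subgroup ↥H :=
    { carrier := {h | (∀ y ∈ Y, (h : V ≃ₗ[ZMod p] V) y = y) ∧
        ∀ x, (h : V ≃ₗ[ZMod p] V) x - x ∈ Y}
      mul_mem' := by
        rintro a b ⟨ha1, ha2⟩ ⟨hb1, hb2⟩
        refine ⟨fun y hy => ?_, fun x => ?_⟩
        · show (a.1 * b.1) y = y
          rw [LinearEquiv.mul_apply, hb1 y hy, ha1 y hy]
        · show (a.1 * b.1) x - x ∈ Y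
          have : (a.1 * b.1) x - x = (a.1 (b.1 x) - b.1 x) + (b.1 x - x) := by
            rw [LinearEquiv.mul_apply]; abel
          rw [this]; exact Y.add_mem (ha2 _) (hb2 _)
      one_mem' := ⟨fun y _ => rfl, fun x => by simp⟩
      inv_mem' := by
        rintro a ⟨ha1, ha2⟩
        refine ⟨fun y hy => ?_, fun x => ?_⟩
        · show a.1.symm y = y
          rw [LinearEquiv.symm_apply_eq]; exact (ha1 y hy).symm
        · show (a.1)⁻¹ x - x ∈ Y
          have e1 : a.1 ((a.1)⁻¹ x) = x := by
            show a.1 (a.1.symm x) = x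
            simp
          have := ha2 ((a.1)⁻¹ x)
          rw [e1] at this
          have e2 : (a.1)⁻¹ x - x = -(x - (a.1)⁻¹ x) := by abel
          rw [e2]; exact Y.neg_mem this }
  have hNn : N.Normal := by
    constructor
    rintro n ⟨hn1, hn2⟩ a
    refine ⟨fun y hy => ?_, fun x => ?_⟩
    · show (a.1 * n.1 * (a.1)⁻¹) y = y
      rw [LinearEquiv.mul_apply, LinearEquiv.mul_apply]
      have h1 : (a.1)⁻¹ y ∈ Y := hY _ (H.inv_mem a.2) y hy
      rw [hn1 _ h1]
      show a.1 (a.1.symm y) = y
      simp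
    · show (a.1 * n.1 * (a.1)⁻¹) x - x ∈ Y
      rw [LinearEquiv.mul_apply, LinearEquiv.mul_apply]
      have h1 := hn2 ((a.1)⁻¹ x)
      have h2 := hY a.1 a.2 _ h1
      rw [map_sub] at h2
      have e1 : a.1 ((a.1)⁻¹ x) = x := by
        show a.1 (a.1.symm x) = x
        simp
      rw [e1] at h2
      exact h2
  have hNp : IsPGroup p N := by
    intro n
    refine ⟨1, ?_⟩
    rw [pow_one]
    obtain ⟨hn1, hn2⟩ := n.2
    have key : ∀ k : ℕ, ∀ x, ((n.1.1) ^ k) x = x + (k : ZMod p) • (n.1.1 x - x) := by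
      intro k
      induction k with
      | zero => intro x; simp
      | succ k ih =>
        intro x
        rw [pow_succ', LinearEquiv.mul_apply, ih, map_add, map_smul, hn1 _ (hn2 x)]
        push_cast
        module
    apply Subtype.ext
    apply Subtype.ext
    ext x
    show ((n.1.1) ^ p) x = x
    rw [key p x]
    simp
  have hle : N ≤ Cfsg.pCore p ↥H := le_sSup ⟨hNn, hNp⟩
  rw [hOp] at hle
  have hgN : (⟨g, hg⟩ : ↥H) ∈ N := ⟨hfixY, hsubY⟩
  have := hle hgN
  rw [Subgroup.mem_bot] at this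
  exact congrArg Subtype.val this

end Cfsg.Agent.Lib.Helper2.Mcl
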