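import Mathlib

set_option autoImplicit false

namespace Cfsg.Agent.Lib.Helper2.Meo

open Finset

/-- 2-adic decomposition. -/
theorem two_adic (b : ℕ) (hb : b ≠ 0) : ∃ o, Odd o ∧ b = 2 ^ (b.factorization 2) * o := by
  refine ⟨b / 2 ^ (b.factorization 2), ?_, (Nat.ordProj_mul_ordCompl_eq_self b 2).symm⟩
  have h := Nat.not_dvd_ordCompl Nat.prime_two hb
  rcases Nat.even_or_odd (b / 2 ^ (b.factorization 2)) with he | ho
  · exact absurd (even_iff_two_dvd.1 he) h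
  · exact ho

theorem two_pow_fact_le (b : ℕ) (hb : b ≠ 0) : 2 ^ (b.factorization 2) ≤ b :=
  Nat.ordProj_le 2 hb

theorem pow_two_pow_add_one_dvd (q v o : ℕ) (ho : Odd o) :
    q ^ (2 ^ v) + 1 ∣ q ^ (2 ^ v * o) + 1 := by
  have h := Odd.nat_add_dvd_pow_add_pow (q ^ (2 ^ v)) 1 ho
  rwa [one_pow, ← pow_mul] at h

theorem pow_fact_add_one_dvd (q b : ℕ) (hb : b ≠ 0) :
    q ^ (2 ^ (b.factorization 2)) + 1 ∣ q ^ b + 1 := by
  obtain ⟨o, ho, hbo⟩ := two_adic b hb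
  have := pow_two_pow_add_one_dvd q (b.factorization 2) o ho
  rwa [← hbo] at this

/-- binary lemma -/
theorem binary_bound (q : ℕ) (hq : 1 ≤ q) (V : Finset ℕ) :
    (q - 1) * ∏ v ∈ V, (q ^ (2 ^ v) + 1) + 1 ≤ q ^ (1 + ∑ v ∈ V, 2 ^ v) := by
  induction V using Finset.induction_on_max with
  | empty =>
    simp
    omega
  | insert a s hlt ih =>
    have hnot : a ∉ s := fun h => lt_irrefl a (hlt a h)
    rw [Finset.prod_insert hnot, Finset.sum_insert hnot]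
    have hs : ∑ v ∈ s, 2 ^ v < 2 ^ a := Nat.geomSum_lt le_rfl hlt
    set P := (q - 1) * ∏ v ∈ s, (q ^ (2 ^ v) + 1) with hP
    set s' := ∑ v ∈ s, 2 ^ v with hs'
    have hT : P + 1 ≤ q ^ (2 ^ a) := le_trans ih (Nat.pow_le_pow_right hq (by omega))
    calc (q - 1) * ((q ^ (2 ^ a) + 1) * ∏ v ∈ s, (q ^ (2 ^ v) + 1)) + 1
        = (q ^ (2 ^ a) + 1) * P + 1 := by rw [hP]; ring
      _ = q ^ (2 ^ a) * P + (P + 1) := by ring
      _ ≤ q ^ (2 ^ a) * P + q ^ (2 ^ a) := by omega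
      _ = q ^ (2 ^ a) * (P + 1) := by ring
      _ ≤ q ^ (2 ^ a) * q ^ (1 + s') := Nat.mul_le_mul_left _ ih
      _ = q ^ (1 + (2 ^ a + s')) := by rw [← pow_add]; congr 1; ring

theorem pow_add_one_le (q b : ℕ) (hq : 1 ≤ q) (hb : b ≠ 0) :
    q ^ b + 1 ≤ q ^ (b - 2 ^ (b.factorization 2)) * (q ^ (2 ^ (b.factorization 2)) + 1) := by
  have hle := two_pow_fact_le b hb
  have h1 : q ^ (b - 2 ^ (b.factorization 2)) * q ^ (2 ^ (b.factorization 2)) = q ^ b := by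
    rw [← pow_add, Nat.sub_add_cancel hle]
  have h2 : 1 ≤ q ^ (b - 2 ^ (b.factorization 2)) := Nat.one_le_pow _ _ hq
  rw [mul_add, h1, mul_one]
  omega

/-- Lemma P: common multiple of the `q^b+1`. -/
theorem lemmaP (q : ℕ) (hq : 2 ≤ q) : ∀ (n : ℕ) (D : Finset ℕ), D.card = n → (∀ b ∈ D, 1 ≤ b) →
    ∃ N, 0 < N ∧ (∀ b ∈ D, q ^ b + 1 ∣ N) ∧ (q - 1) * N ≤ q ^ (1 + ∑ b ∈ D, b) := by
  intro n
  induction n using Nat.strong_induction_on with
  | _ n ih =>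
  intro D hcard hD
  by_cases hinj : Set.InjOn (fun b : ℕ => b.factorization 2) (D : Set ℕ)
  · refine ⟨∏ b ∈ D, (q ^ b + 1), Finset.prod_pos (fun b _ => by positivity),
      fun b hb => Finset.dvd_prod_of_mem _ hb, ?_⟩
    have h1 : ∏ b ∈ D, (q ^ b + 1) ≤
        ∏ b ∈ D, (q ^ (b - 2 ^ (b.factorization 2)) * (q ^ (2 ^ (b.factorization 2)) + 1)) :=
      Finset.prod_le_prod' (fun b hb => pow_add_one_le q b (by omega) (by have := hD b hb; omega))
    rw [Finset.prod_mul_distrib, Finset.prod_pow_eq_pow_sum] at h1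
    have h2 : ∏ b ∈ D, (q ^ (2 ^ (b.factorization 2)) + 1) =
        ∏ v ∈ D.image (fun b : ℕ => b.factorization 2), (q ^ (2 ^ v) + 1) := by
      rw [Finset.prod_image hinj]
    have h3 : ∑ b ∈ D, 2 ^ (b.factorization 2) =
        ∑ v ∈ D.image (fun b : ℕ => b.factorization 2), 2 ^ v := by
      rw [Finset.sum_image hinj]
    have h4 := binary_bound q (by omega) (D.image (fun b : ℕ => b.factorization 2))
    rw [← h2, ← h3] at h4
    have h5 : ∑ b ∈ D, (b - 2 ^ (b.factorization 2)) + ∑ b ∈ D, 2 ^ (b.factorization 2) =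
        ∑ b ∈ D, b := by
      rw [← Finset.sum_add_distrib]
      refine Finset.sum_congr rfl (fun b hb => ?_)
      exact Nat.sub_add_cancel (two_pow_fact_le b (by have := hD b hb; omega))
    calc (q - 1) * ∏ b ∈ D, (q ^ b + 1)
        ≤ (q - 1) * (q ^ (∑ b ∈ D, (b - 2 ^ (b.factorization 2))) *
            ∏ b ∈ D, (q ^ (2 ^ (b.factorization 2)) + 1)) := Nat.mul_le_mul_left _ h1
      _ = q ^ (∑ b ∈ D, (b - 2 ^ (b.factorization 2))) *
            ((q - 1) * ∏ b ∈ D, (q ^ (2 ^ (b.factorization 2)) + 1)) := by ring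
      _ ≤ q ^ (∑ b ∈ D, (b - 2 ^ (b.factorization 2))) *
            q ^ (1 + ∑ b ∈ D, 2 ^ (b.factorization 2)) := Nat.mul_le_mul_left _ (by omega)
      _ = q ^ (1 + ∑ b ∈ D, b) := by
          rw [← pow_add, ← h5]; congr 1; ring
  · -- two elements with the same 2-adic valuation
    have : ∃ b₀ ∈ D, ∃ b₁ ∈ D, b₀.factorization 2 = b₁.factorization 2 ∧ b₀ ≠ b₁ := by
      by_contra hcon
      apply hinj
      intro x hx y hy hxy
      by_contra hne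
      exact hcon ⟨x, hx, y, hy, hxy, hne⟩
    obtain ⟨b₀, hb₀, b₁, hb₁, hv, hne⟩ := this
    have hcard' : (D.erase b₀).card < n := by
      rw [← hcard]; exact Finset.card_erase_lt_of_mem hb₀
    obtain ⟨N₀, hN₀, hdvd, hbound⟩ := ih _ hcard' (D.erase b₀) rfl
      (fun b hb => hD b (Finset.mem_of_mem_erase hb))
    have hb₀0 : b₀ ≠ 0 := by have := hD b₀ hb₀; omega
    have hb₁0 : b₁ ≠ 0 := by have := hD b₁ hb₁; omega
    set c := q ^ (2 ^ (b₀.factorization 2)) + 1 with hc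
    have hc0 : c ∣ q ^ b₀ + 1 := pow_fact_add_one_dvd q b₀ hb₀0
    have hc1 : c ∣ q ^ b₁ + 1 := by rw [hc, hv]; exact pow_fact_add_one_dvd q b₁ hb₁0
    have hb₁' : b₁ ∈ D.erase b₀ := Finset.mem_erase.2 ⟨fun h => hne h.symm, hb₁⟩
    have hcN : c ∣ N₀ := dvd_trans hc1 (hdvd b₁ hb₁')
    obtain ⟨t, ht⟩ := hc0
    obtain ⟨s, hs⟩ := hcN
    have hc2 : 2 ≤ c := by
      have : 1 ≤ q ^ (2 ^ (b₀.factorization 2)) := Nat.one_le_pow _ _ (by omega)
      omega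
    have htpos : 0 < t := by
      rcases Nat.eq_zero_or_pos t with h | h
      · rw [h, mul_zero] at ht; omega
      · exact h
    have htle : t ≤ q ^ b₀ := by
      have h1 : 2 * t ≤ c * t := Nat.mul_le_mul_right _ hc2
      have h2 : 1 ≤ q ^ b₀ := Nat.one_le_pow _ _ (by omega)
      omega
    refine ⟨N₀ * t, Nat.mul_pos hN₀ htpos, ?_, ?_⟩
    · intro b hb
      by_cases hbb : b = b₀
      · rw [hbb, ht, hs]
        exact ⟨s, by ring⟩
      · exact dvd_mul_of_dvd_left (hdvd b (Finset.mem_erase.2 ⟨hbb, hb⟩)) t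
    · have hsum : ∑ b ∈ D, b = (∑ b ∈ D.erase b₀, b) + b₀ := by
        rw [Finset.sum_erase_add _ _ hb₀]
      calc (q - 1) * (N₀ * t) = ((q - 1) * N₀) * t := by ring
        _ ≤ q ^ (1 + ∑ b ∈ D.erase b₀, b) * q ^ b₀ := Nat.mul_le_mul hbound htle
        _ = q ^ (1 + ∑ b ∈ D, b) := by rw [← pow_add, hsum]; congr 1; ring

theorem lemmaP' (q : ℕ) (hq : 2 ≤ q) (D : Finset ℕ) (hD : ∀ b ∈ D, 1 ≤ b) :
    ∃ N, 0 < N ∧ (∀ b ∈ D, q ^ b + 1 ∣ N) ∧ (q - 1) * N ≤ q ^ (1 + ∑ b ∈ D, b) :=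
  lemmaP q hq D.card D rfl hD

theorem prod_pow_sub_one_le (q : ℕ) (D : Finset ℕ) :
    ∏ d ∈ D, (q ^ d - 1) ≤ q ^ (∑ d ∈ D, d) := by
  rw [← Finset.prod_pow_eq_pow_sum]
  exact Finset.prod_le_prod' (fun d _ => Nat.sub_le _ _)

theorem two_mul_le_two_pow (r : ℕ) : 2 * r ≤ 2 ^ r := by
  induction r with
  | zero => simp
  | succ k ih =>
    rw [pow_succ]
    rcases Nat.eq_zero_or_pos k with h | h
    · subst h; simp
    · omega

theorem succ_le_two_pow (r : ℕ) : r + 1 ≤ 2 ^ r := by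
  have := Nat.lt_two_pow_self (n := r)
  omega

theorem two_mul_add_one_le_three_pow (r : ℕ) : 2 * r + 1 ≤ 3 ^ r := by
  induction r with
  | zero => simp
  | succ k ih => rw [pow_succ]; omega

theorem two_mul_sub_one_le_three_pow (m : ℕ) (hm : 1 ≤ m) : 2 * m - 1 ≤ 3 ^ (m - 1) := by
  obtain ⟨k, rfl⟩ : ∃ k, m = k + 1 := ⟨m - 1, by omega⟩
  have := two_mul_add_one_le_three_pow k
  simp only [Nat.add_sub_cancel]
  omega

theorem two_mul_le_three_pow_pred (m : ℕ) (hm : 3 ≤ m) : 2 * m ≤ 3 ^ (m - 1) := by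
  obtain ⟨k, rfl⟩ : ∃ k, m = k + 3 := ⟨m - 3, by omega⟩
  have h : ∀ k : ℕ, 2 * (k + 3) ≤ 3 ^ (k + 2) := by
    intro k
    induction k with
    | zero => norm_num
    | succ j ih => rw [pow_succ]; omega
  have := h k
  simpa using this

end Cfsg.Agent.Lib.Helper2.Meo
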