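import Mathlib

set_option autoImplicit false

namespace Cfsg.Agent.Lib.Helper2.Meo

open Polynomial

section AR

variable {F : Type*} [Field F] [Fintype F]

theorem finite_adjoinRoot (f : F[X]) (hf : f ≠ 0) : Finite (AdjoinRoot f) := by
  haveI : Module.Finite F (AdjoinRoot f) := (AdjoinRoot.powerBasis hf).finite
  exact Module.finite_of_finite F

theorem natCard_adjoinRoot (f : F[X]) (hf : f ≠ 0) :
    Nat.card (AdjoinRoot f) = Fintype.card F ^ f.natDegree := by
  haveI : Module.Finite F (AdjoinRoot f) := (AdjoinRoot.powerBasis hf).finite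
  rw [Module.natCard_eq_pow_finrank (K := F), (AdjoinRoot.powerBasis hf).finrank,
    AdjoinRoot.powerBasis_dim, Nat.card_eq_fintype_card]

theorem root_ne_zero (f : F[X]) (hf : Irreducible f) (h0 : f.coeff 0 ≠ 0) :
    AdjoinRoot.root f ≠ 0 := by
  intro h
  rw [← AdjoinRoot.mk_X, AdjoinRoot.mk_eq_zero] at h
  obtain ⟨g, hg⟩ := h
  have := congrArg (fun p => p.coeff 0) hg
  simp only [coeff_X_zero, mul_coeff_zero] at this
  have hg0 : g.coeff 0 = 0 := by
    by_contra hne
    exact zero_ne_one (α := F) |>.elim (by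
      have h1 : f.coeff 0 * g.coeff 0 ≠ 0 := mul_ne_zero h0 hne
      exact absurd this.symm h1)
  rw [hg0, mul_zero] at this
  -- this : 0 = 0; need contradiction differently: X = f * g, X irreducible so f or g unit
  have hX : Irreducible (X : F[X]) := irreducible_X
  rcases hX.isUnit_or_isUnit hg with hu | hu
  · exact hf.not_isUnit hu
  · -- g unit, so f associated to X, so f.coeff 0 = 0
    obtain ⟨c, hc, hgc⟩ := Polynomial.isUnit_iff.1 hu
    rw [← hgc] at hg
    have := congrArg (fun p => p.coeff 0) hg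
    simp only [coeff_X_zero, mul_coeff_zero, coeff_C_zero] at this
    have hc0 : c ≠ 0 := hc.ne_zero
    exact (mul_ne_zero h0 hc0) this.symm

/-- An irreducible polynomial with nonzero constant term divides `X^(q^deg - 1) - 1`. -/
theorem irr_dvd_X_pow_sub_one (f : F[X]) (hf : Irreducible f) (h0 : f.coeff 0 ≠ 0) :
    f ∣ X ^ (Fintype.card F ^ f.natDegree - 1) - 1 := by
  haveI : Fact (Irreducible f) := ⟨hf⟩
  have hfne : f ≠ 0 := hf.ne_zero
  haveI := finite_adjoinRoot f hfne
  letI := Fintype.ofFinite (AdjoinRoot f)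
  have hcard : Fintype.card (AdjoinRoot f) = Fintype.card F ^ f.natDegree := by
    rw [← Nat.card_eq_fintype_card, natCard_adjoinRoot f hfne]
  have h1 := FiniteField.pow_card_sub_one_eq_one (AdjoinRoot.root f) (root_ne_zero f hf h0)
  rw [hcard] at h1
  rw [← AdjoinRoot.mk_eq_zero, map_sub, map_pow, AdjoinRoot.mk_X, h1, map_one, sub_self]

/-- `(P(β))^(q^d) = P(β^(q^d))` for `P` with coefficients in the field with `q` elements. -/
theorem aeval_pow_card_pow {K : Type*} [CommRing K] [Algebra F K] (β : K) (P : F[X]) (d : ℕ) :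
    (aeval β P) ^ (Fintype.card F ^ d) = aeval (β ^ (Fintype.card F ^ d)) P := by
  induction d generalizing β with
  | zero => simp
  | succ d ih =>
    rw [pow_succ, pow_mul, ih, pow_mul, ← map_pow, ← FiniteField.expand_card, expand_aeval]

theorem card_le_of_forall_pow_eq {K : Type*} [Field K] [Fintype K] (N : ℕ) (hN : 1 < N)
    (h : ∀ y : K, y ^ N = y) : Fintype.card K ≤ N := by
  classical
  have hne : (X ^ N - X : K[X]) ≠ 0 := FiniteField.X_pow_card_sub_X_ne_zero K hN
  have hdeg : (X ^ N - X : K[X]).natDegree = N := FiniteField.X_pow_card_sub_X_natDegree_eq K hN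
  have hsub : (Finset.univ : Finset K) ⊆ (X ^ N - X : K[X]).roots.toFinset := by
    intro y _
    rw [Multiset.mem_toFinset, mem_roots hne]
    simp [h y]
  calc Fintype.card K = (Finset.univ : Finset K).card := rfl
    _ ≤ (X ^ N - X : K[X]).roots.toFinset.card := Finset.card_le_card hsub
    _ ≤ Multiset.card (X ^ N - X : K[X]).roots := Multiset.toFinset_card_le _
    _ ≤ (X ^ N - X : K[X]).natDegree := card_roots' _
    _ = N := hdeg

theorem coeff_zero_ne_zero_of_irr (f : F[X]) (hf : Irreducible f) (h2 : 2 ≤ f.natDegree) :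
    f.coeff 0 ≠ 0 := by
  intro h0
  have hX : (X : F[X]) ∣ f := X_dvd_iff.2 h0
  obtain ⟨g, hg⟩ := hX
  rcases hf.isUnit_or_isUnit hg with hu | hu
  · exact not_isUnit_X hu
  · obtain ⟨c, hc, hgc⟩ := Polynomial.isUnit_iff.1 hu
    rw [hg, ← hgc] at h2
    have : (X * C c : F[X]).natDegree ≤ 1 := by
      rw [mul_comm]
      exact (natDegree_C_mul_le _ _).trans natDegree_X_le
    omega

/-- A self-reciprocal irreducible polynomial of degree at least two over the field with `q`
elements has even degree `2b` and divides `X^(q^b+1) - 1`. -/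
theorem selfdual_irr (f : F[X]) (hf : Irreducible f) (h2 : 2 ≤ f.natDegree)
    (hrev : f ∣ f.reverse) :
    ∃ b : ℕ, f.natDegree = 2 * b ∧ f ∣ X ^ (Fintype.card F ^ b + 1) - 1 := by
  classical
  haveI : Fact (Irreducible f) := ⟨hf⟩
  have hfne : f ≠ 0 := hf.ne_zero
  haveI := finite_adjoinRoot f hfne
  letI := Fintype.ofFinite (AdjoinRoot f)
  set q := Fintype.card F with hq
  set n := f.natDegree with hn
  have hq1 : 1 < q := Fintype.one_lt_card
  have hcard : Fintype.card (AdjoinRoot f) = q ^ n := by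
    rw [← Nat.card_eq_fintype_card, natCard_adjoinRoot f hfne]
  have h0 : f.coeff 0 ≠ 0 := coeff_zero_ne_zero_of_irr f hf h2
  set α : AdjoinRoot f := AdjoinRoot.root f with hα
  have hα0 : α ≠ 0 := root_ne_zero f hf h0
  have hroot : aeval α f = 0 := by
    rw [hα, AdjoinRoot.aeval_eq, AdjoinRoot.mk_self]
  -- f(α⁻¹) = 0
  have hinv : aeval α⁻¹ f = 0 := by
    letI : Invertible (α⁻¹) := invertibleOfNonzero (inv_ne_zero hα0)
    have h := eval₂_reverse_mul_pow (algebraMap F (AdjoinRoot f)) (α⁻¹) f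
    have h1 : ⅟(α⁻¹) = α := by rw [invOf_eq_inv, inv_inv]
    rw [h1] at h
    obtain ⟨g, hg⟩ := hrev
    have h3 : eval₂ (algebraMap F (AdjoinRoot f)) α f.reverse = 0 := by
      rw [hg, eval₂_mul]
      have : eval₂ (algebraMap F (AdjoinRoot f)) α f = 0 := hroot
      rw [this, zero_mul]
    rw [h3, zero_mul] at h
    exact h.symm
  -- all α^(q^j) are roots
  have hroots : ∀ j : ℕ, aeval (α ^ (q ^ j)) f = 0 := by
    intro j
    rw [← aeval_pow_card_pow, hroot, zero_pow]
    exact (pow_pos (by omega) j).ne'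
  -- key claim: α^(q^d) ≠ α for 0 < d < n
  have hkey : ∀ d : ℕ, 0 < d → d < n → α ^ (q ^ d) ≠ α := by
    intro d hd0 hdn hcon
    have hall : ∀ y : AdjoinRoot f, y ^ (q ^ d) = y := by
      intro y
      induction y using AdjoinRoot.induction_on with
      | ih P =>
        rw [← AdjoinRoot.aeval_eq, aeval_pow_card_pow, ← hα, hcon]
    have hle := card_le_of_forall_pow_eq (K := AdjoinRoot f) (q ^ d)
      (Nat.one_lt_pow hd0.ne' hq1) hall
    rw [hcard] at hle
    have : q ^ d < q ^ n := Nat.pow_lt_pow_right hq1 hdn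
    omega
  have hαn : α ^ (q ^ n) = α := by
    rw [← hcard]; exact FiniteField.pow_card α
  -- injectivity
  have hinj : Set.InjOn (fun j : ℕ => α ^ (q ^ j)) (Finset.range n : Set ℕ) := by
    have aux : ∀ j₁ j₂ : ℕ, j₁ < j₂ → j₂ < n → α ^ (q ^ j₁) ≠ α ^ (q ^ j₂) := by
      intro j₁ j₂ h12 h2n hcon
      have h := congrArg (fun y => y ^ (q ^ (n - j₂))) hcon
      simp only [← pow_mul, ← pow_add] at h
      rw [show j₂ + (n - j₂) = n by omega, hαn] at h
      exact hkey (j₁ + (n - j₂)) (by omega) (by omega) h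
    intro j₁ hj₁ j₂ hj₂ hEq
    simp only [Finset.coe_range, Set.mem_Iio] at hj₁ hj₂
    by_contra hne
    rcases lt_or_gt_of_ne hne with hlt | hlt
    · exact aux j₁ j₂ hlt hj₂ hEq
    · exact aux j₂ j₁ hlt hj₁ hEq.symm
  -- the roots of f in K
  set fK : (AdjoinRoot f)[X] := f.map (algebraMap F (AdjoinRoot f)) with hfK
  have hfKne : fK ≠ 0 := by
    rw [hfK]; exact (Polynomial.map_ne_zero_iff (algebraMap F (AdjoinRoot f)).injective).2 hfne
  have hfKdeg : fK.natDegree = n := by
    rw [hfK, natDegree_map]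
  have hmemroots : ∀ y : AdjoinRoot f, aeval y f = 0 → y ∈ fK.roots.toFinset := by
    intro y hy
    rw [Multiset.mem_toFinset, mem_roots hfKne, IsRoot, hfK, eval_map]
    exact hy
  set R : Finset (AdjoinRoot f) := (Finset.range n).image (fun j : ℕ => α ^ (q ^ j)) with hR
  have hRcard : R.card = n := by
    rw [hR, Finset.card_image_of_injOn hinj, Finset.card_range]
  have hRsub : R ⊆ fK.roots.toFinset := by
    intro y hy
    rw [hR, Finset.mem_image] at hy
    obtain ⟨j, _, rfl⟩ := hy
    exact hmemroots _ (hroots j)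
  have hTcard : fK.roots.toFinset.card ≤ R.card := by
    rw [hRcard, ← hfKdeg]
    exact (Multiset.toFinset_card_le _).trans (card_roots' _)
  have hReq : R = fK.roots.toFinset := Finset.eq_of_subset_of_card_le hRsub hTcard
  have hinvR : α⁻¹ ∈ R := by
    rw [hReq]; exact hmemroots _ hinv
  rw [hR, Finset.mem_image] at hinvR
  obtain ⟨j, hjn, hj⟩ := hinvR
  rw [Finset.mem_range] at hjn
  -- j ≠ 0
  have hj0 : j ≠ 0 := by
    rintro rfl
    simp only [pow_zero, pow_one] at hj
    have hsq : α ^ 2 = 1 := by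
      rw [pow_two]
      nth_rewrite 1 [hj]
      exact inv_mul_cancel₀ hα0
    have hdvd : f ∣ X ^ 2 - 1 := by
      rw [← AdjoinRoot.mk_eq_zero, map_sub, map_pow, AdjoinRoot.mk_X, ← hα, hsq, map_one, sub_self]
    have hne : (X ^ 2 - 1 : F[X]) ≠ 0 := by
      have := X_pow_sub_C_ne_zero (R := F) (by norm_num : 0 < 2) (1 : F)
      simpa using this
    have hle := natDegree_le_of_dvd hdvd hne
    have h22 : (X ^ 2 - 1 : F[X]).natDegree = 2 := by
      have := natDegree_X_pow_sub_C (R := F) (n := 2) (r := 1)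
      simpa using this
    -- f ∣ (X-1)(X+1)
    have hfac : (X ^ 2 - 1 : F[X]) = (X - 1) * (X + 1) := by ring
    rw [hfac] at hdvd
    rcases hf.prime.dvd_or_dvd hdvd with h | h
    · have h1 : (X - 1 : F[X]) ≠ 0 := by
        have := X_sub_C_ne_zero (1 : F); simpa using this
      have := natDegree_le_of_dvd h h1
      have h2' : (X - 1 : F[X]).natDegree = 1 := by
        have := natDegree_X_sub_C (1 : F); simpa using this
      omega
    · have h1 : (X + 1 : F[X]) ≠ 0 := by
        have := X_add_C_ne_zero (1 : F); simpa using this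
      have := natDegree_le_of_dvd h h1
      have h2' : (X + 1 : F[X]).natDegree = 1 := by
        have := natDegree_X_add_C (1 : F); simpa using this
      omega
  -- α^(q^(2j)) = α
  have h2j : α ^ (q ^ (j + j)) = α := by
    rw [pow_add, pow_mul, hj, inv_pow, hj, inv_inv]
  have hn2j : n = 2 * j := by
    by_contra hne
    rcases lt_or_gt_of_ne hne with hlt | hlt
    · -- n < 2j
      have h3 : α ^ (q ^ (j + j - n)) = α := by
        have : j + j = n + (j + j - n) := by omega
        rw [this, pow_add, pow_mul, hαn] at h2j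
        exact h2j
      exact hkey (j + j - n) (by omega) (by omega) h3
    · exact hkey (j + j) (by omega) (by omega) h2j
  refine ⟨j, hn2j, ?_⟩
  rw [← AdjoinRoot.mk_eq_zero, map_sub, map_pow, AdjoinRoot.mk_X, ← hα, pow_succ, hj,
    inv_mul_cancel₀ hα0, map_one, sub_self]

end AR

end Cfsg.Agent.Lib.Helper2.Meo
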