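import Mathlib
import Cfsg.Agent.Lib.Helper2.MeoA

set_option autoImplicit false

namespace Cfsg.Agent.Lib.Helper2.Meo

open Finset

theorem sum_image_le_sum {α : Type*} [DecidableEq α] (T : Finset α) (w : α → ℕ) :
    ∑ b ∈ T.image w, b ≤ ∑ f ∈ T, w f := by
  have h := Finset.sum_comp (s := T) (fun b : ℕ => b) w
  rw [h]
  refine Finset.sum_le_sum (fun b hb => ?_)
  obtain ⟨f, hf, hfb⟩ := Finset.mem_image.1 hb
  have hc : 1 ≤ (T.filter (fun a => w a = b)).card :=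
    Finset.card_pos.2 ⟨f, Finset.mem_filter.2 ⟨hf, hfb⟩⟩
  calc b = 1 • b := (one_smul _ _).symm
    _ ≤ (T.filter (fun a => w a = b)).card • b := by
      simp only [smul_eq_mul]; exact Nat.mul_le_mul_right _ hc

theorem two_sum_image_le_sum {α : Type*} [DecidableEq α] (T : Finset α) (w : α → ℕ) (st : α → α)
    (h1 : ∀ f ∈ T, st f ∈ T) (h3 : ∀ f ∈ T, w (st f) = w f) (hne : ∀ f ∈ T, st f ≠ f) :
    2 * ∑ b ∈ T.image w, b ≤ ∑ f ∈ T, w f := by
  have h := Finset.sum_comp (s := T) (fun b : ℕ => b) w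
  rw [h, Finset.mul_sum]
  refine Finset.sum_le_sum (fun b hb => ?_)
  obtain ⟨f, hf, hfb⟩ := Finset.mem_image.1 hb
  have hc : 2 ≤ (T.filter (fun a => w a = b)).card := by
    have : 1 < (T.filter (fun a => w a = b)).card :=
      Finset.one_lt_card.2 ⟨f, Finset.mem_filter.2 ⟨hf, hfb⟩, st f,
        Finset.mem_filter.2 ⟨h1 f hf, by rw [h3 f hf, hfb]⟩, fun h => hne f hf h.symm⟩
    omega
  simp only [smul_eq_mul]
  exact Nat.mul_le_mul_right _ hc

theorem comb {α : Type*} [DecidableEq α] (S : Finset α) (deg k : α → ℕ) (st : α → α)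
    (q : ℕ) (hq : 2 ≤ q)
    (h1 : ∀ f ∈ S, st f ∈ S) (h2 : ∀ f ∈ S, st (st f) = f) (h3 : ∀ f ∈ S, deg (st f) = deg f)
    (h4 : ∀ f ∈ S, k (st f) = k f) (h5 : ∀ f ∈ S, 1 ≤ k f) (h6 : ∀ f ∈ S, 1 ≤ deg f)
    (h7 : ∀ f ∈ S, st f = f → 2 ∣ deg f) :
    ∃ L σ : ℕ, 0 < L ∧
      (∀ f ∈ S, st f ≠ f → q ^ deg f - 1 ∣ L) ∧
      (∀ f ∈ S, st f = f → q ^ (deg f / 2) + 1 ∣ L) ∧
      (q - 1) * L ≤ q ^ (1 + σ) ∧
      2 * σ ≤ ∑ f ∈ S, deg f ∧
      (∀ f ∈ S, 2 * σ + 2 * (k f - 1) ≤ ∑ f ∈ S, k f * deg f) := by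
  classical
  set P := S.filter (fun f => st f ≠ f) with hP
  set Qs := S.filter (fun f => st f = f) with hQs
  set Dm := P.image deg with hDm
  set Dp := Qs.image (fun f => deg f / 2) with hDp
  have hDp1 : ∀ b ∈ Dp, 1 ≤ b := by
    intro b hb
    obtain ⟨f, hf, hfb⟩ := Finset.mem_image.1 hb
    obtain ⟨hfS, hff⟩ := Finset.mem_filter.1 hf
    have := h6 f hfS
    obtain ⟨c, hc⟩ := h7 f hfS hff
    rw [← hfb, hc]
    omega
  obtain ⟨N', hN'pos, hN'dvd, hN'bound⟩ := lemmaP' q hq Dp hDp1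
  have hDm1 : ∀ d ∈ Dm, 1 ≤ d := by
    intro d hd
    obtain ⟨f, hf, hfd⟩ := Finset.mem_image.1 hd
    rw [← hfd]; exact h6 f (Finset.mem_filter.1 hf).1
  have hprodpos : 0 < ∏ d ∈ Dm, (q ^ d - 1) := by
    refine Finset.prod_pos (fun d hd => ?_)
    have h1' := hDm1 d hd
    have : 2 ^ 1 ≤ q ^ d := le_trans (Nat.pow_le_pow_left hq 1) (Nat.pow_le_pow_right (by omega) h1')
    omega
  refine ⟨(∏ d ∈ Dm, (q ^ d - 1)) * N', (∑ d ∈ Dm, d) + ∑ b ∈ Dp, b, Nat.mul_pos hprodpos hN'pos,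
    ?_, ?_, ?_, ?_, ?_⟩
  · intro f hf hne
    have : deg f ∈ Dm := Finset.mem_image.2 ⟨f, Finset.mem_filter.2 ⟨hf, hne⟩, rfl⟩
    exact dvd_mul_of_dvd_left (Finset.dvd_prod_of_mem (fun d => q ^ d - 1) this) _
  · intro f hf he
    have : deg f / 2 ∈ Dp := Finset.mem_image.2 ⟨f, Finset.mem_filter.2 ⟨hf, he⟩, rfl⟩
    exact dvd_mul_of_dvd_right (hN'dvd _ this) _
  · calc (q - 1) * ((∏ d ∈ Dm, (q ^ d - 1)) * N')
        = (∏ d ∈ Dm, (q ^ d - 1)) * ((q - 1) * N') := by ring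
      _ ≤ q ^ (∑ d ∈ Dm, d) * q ^ (1 + ∑ b ∈ Dp, b) :=
          Nat.mul_le_mul (prod_pow_sub_one_le q Dm) hN'bound
      _ = q ^ (1 + ((∑ d ∈ Dm, d) + ∑ b ∈ Dp, b)) := by rw [← pow_add]; congr 1; ring
  · -- 2σ ≤ Σ deg
    have hsplit : ∑ f ∈ S, deg f = ∑ f ∈ P, deg f + ∑ f ∈ Qs, deg f := by
      rw [hP, hQs, add_comm]
      exact (Finset.sum_filter_add_sum_filter_not S (fun f => st f = f) deg).symm
    have hPs : 2 * ∑ d ∈ Dm, d ≤ ∑ f ∈ P, deg f := by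
      refine two_sum_image_le_sum P deg st ?_ ?_ ?_
      · intro f hf
        obtain ⟨hfS, hne⟩ := Finset.mem_filter.1 hf
        refine Finset.mem_filter.2 ⟨h1 f hfS, ?_⟩
        rw [h2 f hfS]; exact fun h => hne h.symm
      · intro f hf; exact h3 f (Finset.mem_filter.1 hf).1
      · intro f hf; exact (Finset.mem_filter.1 hf).2
    have hQ2 : ∑ f ∈ Qs, deg f = 2 * ∑ f ∈ Qs, deg f / 2 := by
      rw [Finset.mul_sum]
      refine Finset.sum_congr rfl (fun f hf => ?_)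
      obtain ⟨hfS, hff⟩ := Finset.mem_filter.1 hf
      obtain ⟨c, hc⟩ := h7 f hfS hff
      rw [hc]; omega
    have hQs' : ∑ b ∈ Dp, b ≤ ∑ f ∈ Qs, deg f / 2 := sum_image_le_sum Qs (fun f => deg f / 2)
    rw [hsplit, hQ2]
    omega
  · intro f hf
    have hsplit : ∑ f ∈ S, deg f = ∑ f ∈ P, deg f + ∑ f ∈ Qs, deg f := by
      rw [hP, hQs, add_comm]
      exact (Finset.sum_filter_add_sum_filter_not S (fun f => st f = f) deg).symm
    have hPs : 2 * ∑ d ∈ Dm, d ≤ ∑ f ∈ P, deg f := by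
      refine two_sum_image_le_sum P deg st ?_ ?_ ?_
      · intro f hf
        obtain ⟨hfS, hne⟩ := Finset.mem_filter.1 hf
        refine Finset.mem_filter.2 ⟨h1 f hfS, ?_⟩
        rw [h2 f hfS]; exact fun h => hne h.symm
      · intro f hf; exact h3 f (Finset.mem_filter.1 hf).1
      · intro f hf; exact (Finset.mem_filter.1 hf).2
    have hQ2 : ∑ f ∈ Qs, deg f = 2 * ∑ f ∈ Qs, deg f / 2 := by
      rw [Finset.mul_sum]
      refine Finset.sum_congr rfl (fun f hf => ?_)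
      obtain ⟨hfS, hff⟩ := Finset.mem_filter.1 hf
      obtain ⟨c, hc⟩ := h7 f hfS hff
      rw [hc]; omega
    have hQs' : ∑ b ∈ Dp, b ≤ ∑ f ∈ Qs, deg f / 2 := sum_image_le_sum Qs (fun f => deg f / 2)
    have hk : ∑ f ∈ S, k f * deg f = ∑ f ∈ S, deg f + ∑ f ∈ S, (k f - 1) * deg f := by
      rw [← Finset.sum_add_distrib]
      refine Finset.sum_congr rfl (fun g hg => ?_)
      have := h5 g hg
      obtain ⟨j, hj⟩ : ∃ j, k g = j + 1 := ⟨k g - 1, by omega⟩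
      rw [hj]; simp only [Nat.add_sub_cancel]; ring
    have hextra : 2 * (k f - 1) ≤ ∑ f ∈ S, (k f - 1) * deg f := by
      by_cases hff : st f = f
      · obtain ⟨c, hc⟩ := h7 f hf hff
        have h6f := h6 f hf
        have hle : (k f - 1) * deg f ≤ ∑ f ∈ S, (k f - 1) * deg f :=
          Finset.single_le_sum (f := fun f => (k f - 1) * deg f) (fun _ _ => Nat.zero_le _) hf
        have : 2 * (k f - 1) ≤ (k f - 1) * deg f := by
          rw [mul_comm]; exact Nat.mul_le_mul_left _ (by omega)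
        omega
      · have hsub : ({f, st f} : Finset α) ⊆ S := by
          intro x hx
          rcases Finset.mem_insert.1 hx with rfl | hx
          · exact hf
          · rw [Finset.mem_singleton.1 hx]; exact h1 f hf
        have hle := Finset.sum_le_sum_of_subset (f := fun f => (k f - 1) * deg f) hsub
        rw [Finset.sum_pair (fun h => hff h.symm), h4 f hf, h3 f hf] at hle
        have h6f := h6 f hf
        have : (k f - 1) * 1 ≤ (k f - 1) * deg f := Nat.mul_le_mul_left _ h6f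
        omega
    rw [hk, hsplit, hQ2]
    omega

end Cfsg.Agent.Lib.Helper2.Meo
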