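import Mathlib
import Cfsg.Agent.Lib.Helper2.MeoB

set_option autoImplicit false

namespace Cfsg.Agent.Lib.Helper2.Meo

open Polynomial UniqueFactorizationMonoid

section Star

variable {F : Type*} [Field F]

theorem natDegree_reverse' (f : F[X]) (h0 : f.coeff 0 ≠ 0) : f.reverse.natDegree = f.natDegree := by
  rw [reverse_natDegree, natTrailingDegree_eq_zero.2 (Or.inr h0), Nat.sub_zero]

theorem reverse_reverse' (f : F[X]) (h0 : f.coeff 0 ≠ 0) : f.reverse.reverse = f := by
  unfold reverse
  rw [show (reflect f.natDegree f).natDegree = f.natDegree from natDegree_reverse' f h0]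
  exact reflect_reflect

theorem leadingCoeff_reverse' (f : F[X]) (h0 : f.coeff 0 ≠ 0) : f.reverse.leadingCoeff = f.coeff 0 := by
  rw [reverse_leadingCoeff, trailingCoeff, natTrailingDegree_eq_zero.2 (Or.inr h0)]

theorem irreducible_reverse (f : F[X]) (hf : Irreducible f) (h0 : f.coeff 0 ≠ 0) :
    Irreducible f.reverse := by
  have hfne : f ≠ 0 := hf.ne_zero
  have hdeg : f.reverse.natDegree = f.natDegree := natDegree_reverse' f h0
  rw [irreducible_iff]
  constructor
  · intro hu
    have h1 : f.reverse.natDegree = 0 := natDegree_eq_zero_of_isUnit hu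
    rw [hdeg] at h1
    have : f = C (f.coeff 0) := eq_C_of_natDegree_eq_zero h1
    apply hf.not_isUnit
    rw [this]
    exact isUnit_C.2 (isUnit_iff_ne_zero.2 h0)
  · intro a b hab
    have hrr : f = a.reverse * b.reverse := by
      rw [← reverse_mul_of_domain, ← hab, reverse_reverse' f h0]
    have hlc : f.leadingCoeff ≠ 0 := leadingCoeff_ne_zero.2 hfne
    have hc0 : a.coeff 0 * b.coeff 0 = f.leadingCoeff := by
      rw [← mul_coeff_zero, ← hab, coeff_zero_reverse]
    have ha0 : a.coeff 0 ≠ 0 := fun h => hlc (by rw [← hc0, h, zero_mul])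
    have hb0 : b.coeff 0 ≠ 0 := fun h => hlc (by rw [← hc0, h, mul_zero])
    rcases hf.isUnit_or_isUnit hrr with hu | hu
    · left
      have h1 : a.reverse.natDegree = 0 := natDegree_eq_zero_of_isUnit hu
      rw [natDegree_reverse' a ha0] at h1
      rw [eq_C_of_natDegree_eq_zero h1]
      exact isUnit_C.2 (isUnit_iff_ne_zero.2 ha0)
    · right
      have h1 : b.reverse.natDegree = 0 := natDegree_eq_zero_of_isUnit hu
      rw [natDegree_reverse' b hb0] at h1
      rw [eq_C_of_natDegree_eq_zero h1]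
      exact isUnit_C.2 (isUnit_iff_ne_zero.2 hb0)

/-- The monic reciprocal polynomial. -/
noncomputable def pstar (f : F[X]) : F[X] := C (f.coeff 0)⁻¹ * f.reverse

theorem pstar_natDegree (f : F[X]) (h0 : f.coeff 0 ≠ 0) : (pstar f).natDegree = f.natDegree := by
  unfold pstar
  rw [natDegree_C_mul (inv_ne_zero h0), natDegree_reverse' f h0]

theorem pstar_monic (f : F[X]) (h0 : f.coeff 0 ≠ 0) : (pstar f).Monic := by
  unfold pstar Monic
  rw [leadingCoeff_mul, leadingCoeff_C, leadingCoeff_reverse' f h0, inv_mul_cancel₀ h0]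

theorem pstar_coeff_zero (f : F[X]) (hm : f.Monic) : (pstar f).coeff 0 = (f.coeff 0)⁻¹ := by
  unfold pstar
  rw [mul_coeff_zero, coeff_C_zero, coeff_zero_reverse, hm.leadingCoeff, mul_one]

theorem pstar_irreducible (f : F[X]) (hf : Irreducible f) (h0 : f.coeff 0 ≠ 0) :
    Irreducible (pstar f) := by
  unfold pstar
  have hu : IsUnit (C (f.coeff 0)⁻¹ : F[X]) := isUnit_C.2 (isUnit_iff_ne_zero.2 (inv_ne_zero h0))
  exact (irreducible_isUnit_mul hu).2 (irreducible_reverse f hf h0)

theorem pstar_pstar (f : F[X]) (hm : f.Monic) (h0 : f.coeff 0 ≠ 0) : pstar (pstar f) = f := by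
  have h1 : (pstar f).coeff 0 = (f.coeff 0)⁻¹ := pstar_coeff_zero f hm
  show C ((pstar f).coeff 0)⁻¹ * (pstar f).reverse = f
  rw [h1, inv_inv]
  show C (f.coeff 0) * (C (f.coeff 0)⁻¹ * f.reverse).reverse = f
  rw [reverse_mul_of_domain, reverse_C, reverse_reverse' f h0, ← mul_assoc, ← C_mul,
    mul_inv_cancel₀ h0, C_1, one_mul]

theorem reverse_pow' (f : F[X]) (j : ℕ) : (f ^ j).reverse = f.reverse ^ j := by
  induction j with
  | zero => rw [pow_zero, pow_zero, ← C_1, reverse_C]
  | succ i ih => rw [pow_succ, reverse_mul_of_domain, ih, pow_succ]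

theorem pstar_eq_self_iff (f : F[X]) (hf : Irreducible f) (hm : f.Monic) (h0 : f.coeff 0 ≠ 0) :
    pstar f = f ↔ f ∣ f.reverse := by
  constructor
  · intro h
    refine ⟨C (f.coeff 0), ?_⟩
    calc f.reverse = C (f.coeff 0) * (C (f.coeff 0)⁻¹ * f.reverse) := by
          rw [← mul_assoc, ← C_mul, mul_inv_cancel₀ h0, C_1, one_mul]
      _ = C (f.coeff 0) * f := by
          rw [show C (f.coeff 0)⁻¹ * f.reverse = pstar f from rfl, h]
      _ = f * C (f.coeff 0) := mul_comm _ _
  · intro h
    have h1 : f ∣ pstar f := by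
      unfold pstar
      exact Dvd.dvd.mul_left h _
    have hirr := pstar_irreducible f hf h0
    have hass : Associated f (pstar f) := hf.associated_of_dvd hirr h1
    exact (eq_of_monic_of_associated hm (pstar_monic f h0) hass).symm

theorem pstar_pow_dvd (f μ : F[X]) (h0 : f.coeff 0 ≠ 0) (hμ : μ.reverse ∣ μ) (j : ℕ)
    (h : f ^ j ∣ μ) : (pstar f) ^ j ∣ μ := by
  obtain ⟨g, hg⟩ := h
  have h1 : μ.reverse = f.reverse ^ j * g.reverse := by
    rw [hg, reverse_mul_of_domain, reverse_pow']
  have h2 : f.reverse ^ j ∣ μ := dvd_trans ⟨g.reverse, h1⟩ hμ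
  unfold pstar
  rw [mul_pow]
  have hu : IsUnit ((C (f.coeff 0)⁻¹ : F[X]) ^ j) :=
    (isUnit_C.2 (isUnit_iff_ne_zero.2 (inv_ne_zero h0))).pow j
  exact (hu.mul_left_dvd).2 h2

/-- linear self-reciprocal monic polynomials -/
theorem lin_selfdual (f : F[X]) (hm : f.Monic) (h1 : f.natDegree = 1) (hs : pstar f = f) :
    f = X - 1 ∨ f = X + 1 := by
  have hf : f = X + C (f.coeff 0) := by
    have := hm.eq_X_add_C h1
    exact this
  have h0 : f.coeff 0 ≠ 0 := by
    intro h
    have : pstar f = 0 := by unfold pstar; rw [h, inv_zero, C_0, zero_mul]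
    rw [hs] at this
    exact hm.ne_zero this
  set a := f.coeff 0 with ha
  have hc1 : (pstar f).coeff 0 = a⁻¹ := pstar_coeff_zero f hm
  rw [hs] at hc1
  have ha2 : a * a = 1 := by
    have : a = a⁻¹ := hc1
    calc a * a = a * a⁻¹ := by rw [← this]
      _ = 1 := mul_inv_cancel₀ h0
  have : (a - 1) * (a + 1) = 0 := by ring_nf; rw [sq, ha2]; ring
  rcases mul_eq_zero.1 this with h | h
  · right
    rw [hf, sub_eq_zero.1 h, C_1]
  · left
    rw [hf, eq_neg_of_add_eq_zero_left h, C_neg, C_1]; ring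

end Star

end Cfsg.Agent.Lib.Helper2.Meo
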