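import Mathlib
import Cfsg.Agent.Lib.Helper2.MeoP

set_option autoImplicit false

namespace Cfsg.Agent.Lib.Helper2.Meo

open Polynomial UniqueFactorizationMonoid

section Fac

variable {F : Type*} [Field F] [DecidableEq F]

theorem nf_props (μ : F[X]) (f : F[X]) (hf : f ∈ normalizedFactors μ) :
    Irreducible f ∧ f.Monic ∧ f ∣ μ := by
  classical
  have hirr := irreducible_of_normalized_factor f hf
  have hn := normalize_normalized_factor f hf
  refine ⟨hirr, ?_, dvd_of_mem_normalizedFactors hf⟩
  rw [← hn]
  exact monic_normalize hirr.ne_zero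

theorem pow_dvd_iff_le_count [DecidableEq F[X]] (μ : F[X]) (hμ : μ ≠ 0) (f : F[X]) (hf : Irreducible f)
    (hm : f.Monic) (j : ℕ) : f ^ j ∣ μ ↔ j ≤ (normalizedFactors μ).count f := by
  constructor
  · intro h
    have h1 := (dvd_iff_normalizedFactors_le_normalizedFactors (pow_ne_zero j hf.ne_zero) hμ).1 h
    rw [normalizedFactors_pow, normalizedFactors_irreducible hf, hm.normalize_eq_self] at h1
    have h2 := Multiset.count_le_of_le f h1
    rwa [Multiset.count_nsmul, Multiset.count_singleton_self, mul_one] at h2
  · intro h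
    have h1 : Multiset.replicate j f ≤ normalizedFactors μ := Multiset.le_count_iff_replicate_le.1 h
    have h2 := Multiset.prod_dvd_prod_of_le h1
    rw [Multiset.prod_replicate] at h2
    exact dvd_trans h2 (prod_normalizedFactors hμ).dvd

theorem natDegree_eq_sum [DecidableEq F[X]] (μ : F[X]) (hμ : μ ≠ 0) :
    μ.natDegree = ∑ f ∈ (normalizedFactors μ).toFinset,
      (normalizedFactors μ).count f * f.natDegree := by
  have h1 : (normalizedFactors μ).prod.natDegree = μ.natDegree :=
    natDegree_eq_of_degree_eq (degree_eq_degree_of_associated (prod_normalizedFactors hμ))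
  rw [← h1, natDegree_multiset_prod_of_monic _ (fun f hf => (nf_props μ f hf).2.1),
    Finset.sum_multiset_map_count]
  simp only [smul_eq_mul]

theorem dvd_pow_of_factors [DecidableEq F[X]] (μ g : F[X]) (K : ℕ) (hμ : μ ≠ 0) (hg : g ≠ 0)
    (h : ∀ f ∈ normalizedFactors μ, f ∣ g ∧ (normalizedFactors μ).count f ≤ K) : μ ∣ g ^ K := by
  rw [dvd_iff_normalizedFactors_le_normalizedFactors hμ (pow_ne_zero K hg), normalizedFactors_pow,
    Multiset.le_iff_count]
  intro a
  by_cases ha : a ∈ normalizedFactors μ
  · obtain ⟨hd, hc⟩ := h a ha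
    have hirr := irreducible_of_normalized_factor a ha
    have hn := normalize_normalized_factor a ha
    have hmem : a ∈ normalizedFactors g := (mem_normalizedFactors_iff' hg).2 ⟨hirr, hn, hd⟩
    rw [Multiset.count_nsmul]
    have : 1 ≤ (normalizedFactors g).count a := Multiset.one_le_count_iff_mem.2 hmem
    calc (normalizedFactors μ).count a ≤ K := hc
      _ = K * 1 := (mul_one K).symm
      _ ≤ K * (normalizedFactors g).count a := Nat.mul_le_mul_left _ this
  · rw [Multiset.count_eq_zero_of_notMem ha]
    exact Nat.zero_le _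

end Fac

end Cfsg.Agent.Lib.Helper2.Meo
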