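import Mathlib
import Cfsg.Agent.Lib.Helper2.MeoQ
import Cfsg.Agent.Lib.Helper2.MeoC

set_option autoImplicit false

namespace Cfsg.Agent.Lib.Helper2.Meo

open Polynomial UniqueFactorizationMonoid

section Main

variable {F : Type*} [Field F]

theorem X_pow_sub_one_dvd (a L : ℕ) (h : a ∣ L) : (X ^ a - 1 : F[X]) ∣ X ^ L - 1 := by
  obtain ⟨c, rfl⟩ := h
  rw [pow_mul]
  simpa using sub_dvd_pow_sub_pow (X ^ a : F[X]) 1 c

theorem X_sub_one_dvd (L : ℕ) : (X - 1 : F[X]) ∣ X ^ L - 1 := by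
  simpa using sub_dvd_pow_sub_pow (X : F[X]) 1 L

theorem X_add_one_dvd (L : ℕ) (h : 2 ∣ L) : (X + 1 : F[X]) ∣ X ^ L - 1 := by
  have h1 : (X + 1 : F[X]) ∣ X ^ 2 - 1 := ⟨X - 1, by ring⟩
  exact dvd_trans h1 (X_pow_sub_one_dvd 2 L h)

theorem pow_char_sub (p : ℕ) [Fact p.Prime] [CharP F p] (L r : ℕ) :
    ((X ^ L - 1 : F[X])) ^ (p ^ r) = X ^ (L * p ^ r) - 1 := by
  rw [sub_pow_char_pow, one_pow, ← pow_mul]

theorem pow_char_add (p : ℕ) [Fact p.Prime] [CharP F p] (r : ℕ) :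
    ((X + 1 : F[X])) ^ (p ^ r) = X ^ (p ^ r) + 1 := by
  rw [add_pow_char_pow, one_pow]


theorem poly_main {F : Type*} [Field F] [Fintype F] (p : ℕ) [Fact p.Prime] [CharP F p]
    (μ : F[X]) (hμm : μ.Monic) (h0 : μ.coeff 0 ≠ 0) (hrev : μ ∣ μ.reverse) (m : ℕ) (hm1 : 1 ≤ m)
    (hdeg : μ.natDegree ≤ 2 * m ∨ (μ.natDegree ≤ 2 * m + 1 ∧ 3 ≤ m ∧ p ≠ 2)) :
    ∃ N, 0 < N ∧ (μ ∣ X ^ N - 1 ∨ μ ∣ X ^ N + 1) ∧
      (Fintype.card F - 1) * N ≤ Fintype.card F ^ (m + 1) := by
  classical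
  have hp : p.Prime := Fact.out
  have hμ0 : μ ≠ 0 := hμm.ne_zero
  obtain ⟨e, _, hqe⟩ := FiniteField.card F p
  obtain ⟨q, hq⟩ : ∃ q, q = Fintype.card F := ⟨_, rfl⟩
  rw [← hq] at hqe ⊢
  have hpq : p ≤ q := by
    rw [hqe]
    calc p = p ^ 1 := (pow_one p).symm
      _ ≤ p ^ (e : ℕ) := Nat.pow_le_pow_right hp.pos e.pos
  have hq2 : 2 ≤ q := le_trans hp.two_le hpq
  have hrev' : μ.reverse ∣ μ :=
    (associated_of_dvd_of_natDegree_le hrev (by rwa [Ne, reverse_eq_zero])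
      (reverse_natDegree_le μ)).symm.dvd
  obtain ⟨nF, hnF⟩ : ∃ nF, nF = normalizedFactors μ := ⟨_, rfl⟩
  obtain ⟨S, hS⟩ : ∃ S, S = nF.toFinset := ⟨_, rfl⟩
  obtain ⟨k, hk⟩ : ∃ k : F[X] → ℕ, ∀ f, k f = nF.count f := ⟨_, fun _ => rfl⟩
  have hmemS : ∀ f, f ∈ S ↔ f ∈ normalizedFactors μ := by
    intro f; rw [hS, Multiset.mem_toFinset, hnF]
  have hSirr : ∀ f ∈ S, Irreducible f := fun f hf => (nf_props μ f ((hmemS f).1 hf)).1
  have hSmon : ∀ f ∈ S, f.Monic := fun f hf => (nf_props μ f ((hmemS f).1 hf)).2.1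
  have hSdvd : ∀ f ∈ S, f ∣ μ := fun f hf => (nf_props μ f ((hmemS f).1 hf)).2.2
  have hS0 : ∀ f ∈ S, f.coeff 0 ≠ 0 := by
    intro f hf h
    have : X ∣ f := X_dvd_iff.2 h
    exact h0 (X_dvd_iff.1 (dvd_trans this (hSdvd f hf)))
  have hSk : ∀ f ∈ S, 1 ≤ k f := by
    intro f hf
    rw [hk, hnF]
    exact Multiset.one_le_count_iff_mem.2 ((hmemS f).1 hf)
  have hSdeg : ∀ f ∈ S, 1 ≤ f.natDegree := fun f hf => (hSirr f hf).natDegree_pos
  have hSst : ∀ f ∈ S, pstar f ∈ S := by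
    intro f hf
    rw [hmemS, mem_normalizedFactors_iff' hμ0]
    refine ⟨pstar_irreducible f (hSirr f hf) (hS0 f hf),
      (pstar_monic f (hS0 f hf)).normalize_eq_self, ?_⟩
    have := pstar_pow_dvd f μ (hS0 f hf) hrev' 1 (by simpa using hSdvd f hf)
    simpa using this
  have hSst2 : ∀ f ∈ S, pstar (pstar f) = f := fun f hf => pstar_pstar f (hSmon f hf) (hS0 f hf)
  have hSstdeg : ∀ f ∈ S, (pstar f).natDegree = f.natDegree :=
    fun f hf => pstar_natDegree f (hS0 f hf)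
  have hkle : ∀ f ∈ S, k f ≤ k (pstar f) := by
    intro f hf
    have h1 : f ^ (k f) ∣ μ := by
      rw [pow_dvd_iff_le_count μ hμ0 f (hSirr f hf) (hSmon f hf) (k f), hk, hnF]
    have h2 := pstar_pow_dvd f μ (hS0 f hf) hrev' (k f) h1
    have h3 := (pow_dvd_iff_le_count μ hμ0 (pstar f) (pstar_irreducible f (hSirr f hf) (hS0 f hf))
      (pstar_monic f (hS0 f hf)) (k f)).1 h2
    rw [hk (pstar f), hnF]
    exact h3
  have hSstk : ∀ f ∈ S, k (pstar f) = k f := by
    intro f hf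
    apply le_antisymm
    · have := hkle (pstar f) (hSst f hf)
      rwa [hSst2 f hf] at this
    · exact hkle f hf
  have hdegsum : μ.natDegree = ∑ f ∈ S, k f * f.natDegree := by
    rw [natDegree_eq_sum μ hμ0, hS, hnF]
    refine Finset.sum_congr rfl (fun f _ => ?_)
    rw [hk, hnF]
  obtain ⟨Sr, hSr⟩ : ∃ Sr, Sr = S.filter (fun f => ¬ (f.natDegree = 1 ∧ pstar f = f)) := ⟨_, rfl⟩
  obtain ⟨Sl, hSl⟩ : ∃ Sl, Sl = S.filter (fun f => f.natDegree = 1 ∧ pstar f = f) := ⟨_, rfl⟩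
  have hsplit : ∑ f ∈ S, k f * f.natDegree =
      ∑ f ∈ Sl, k f * f.natDegree + ∑ f ∈ Sr, k f * f.natDegree := by
    rw [hSl, hSr]
    exact (Finset.sum_filter_add_sum_filter_not S _ _).symm
  have hSrS : ∀ f ∈ Sr, f ∈ S := fun f hf => by rw [hSr] at hf; exact (Finset.mem_filter.1 hf).1
  have hSlS : ∀ f ∈ Sl, f ∈ S := fun f hf => by rw [hSl] at hf; exact (Finset.mem_filter.1 hf).1
  have hSlp : ∀ f ∈ Sl, f.natDegree = 1 ∧ pstar f = f :=
    fun f hf => by rw [hSl] at hf; exact (Finset.mem_filter.1 hf).2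
  have hSrp : ∀ f ∈ Sr, ¬ (f.natDegree = 1 ∧ pstar f = f) :=
    fun f hf => by rw [hSr] at hf; exact (Finset.mem_filter.1 hf).2
  have hSlr : ∀ f ∈ S, f ∈ Sl ∨ f ∈ Sr := by
    intro f hf
    by_cases h : f.natDegree = 1 ∧ pstar f = f
    · left; rw [hSl]; exact Finset.mem_filter.2 ⟨hf, h⟩
    · right; rw [hSr]; exact Finset.mem_filter.2 ⟨hf, h⟩
  have c1 : ∀ f ∈ Sr, pstar f ∈ Sr := by
    intro f hf
    have hfS := hSrS f hf
    have hnot := hSrp f hf
    rw [hSr]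
    refine Finset.mem_filter.2 ⟨hSst f hfS, ?_⟩
    rintro ⟨hd, hs⟩
    apply hnot
    rw [hSstdeg f hfS] at hd
    rw [hSst2 f hfS] at hs
    exact ⟨hd, hs.symm⟩
  have c7' : ∀ f ∈ Sr, pstar f = f → ∃ b, f.natDegree = 2 * b ∧
      f ∣ X ^ (q ^ b + 1) - 1 := by
    intro f hf hs
    have hfS := hSrS f hf
    have hnot := hSrp f hf
    have h2 : 2 ≤ f.natDegree := by
      have := hSdeg f hfS
      by_contra hlt
      exact hnot ⟨by omega, hs⟩
    have hrevf : f ∣ f.reverse :=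
      (pstar_eq_self_iff f (hSirr f hfS) (hSmon f hfS) (hS0 f hfS)).1 hs
    have := selfdual_irr f (hSirr f hfS) h2 hrevf
    rw [← hq] at this
    exact this
  have c7 : ∀ f ∈ Sr, pstar f = f → 2 ∣ f.natDegree := by
    intro f hf hs
    obtain ⟨b, hb, _⟩ := c7' f hf hs
    exact ⟨b, hb⟩
  obtain ⟨L, σ, hLpos, hLm, hLp, hLbound, hσ, hK⟩ := comb Sr (fun f => f.natDegree) k pstar q hq2
    c1 (fun f hf => hSst2 f (hSrS f hf)) (fun f hf => hSstdeg f (hSrS f hf))
    (fun f hf => hSstk f (hSrS f hf)) (fun f hf => hSk f (hSrS f hf))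
    (fun f hf => hSdeg f (hSrS f hf)) c7
  obtain ⟨n', hn'⟩ : ∃ n', n' = ∑ f ∈ Sr, k f * f.natDegree := ⟨_, rfl⟩
  obtain ⟨nl, hnl⟩ : ∃ nl, nl = ∑ f ∈ Sl, k f * f.natDegree := ⟨_, rfl⟩
  rw [← hn'] at hK hsplit
  rw [← hnl] at hsplit
  have hn : μ.natDegree = nl + n' := by rw [hdegsum, hsplit]
  have hn2 : μ.natDegree ≤ 2 * m + 1 := by
    rcases hdeg with h | h
    · omega
    · exact h.1
  have hσn : 2 * σ ≤ n' := by
    refine le_trans hσ ?_
    rw [hn']
    refine Finset.sum_le_sum (fun f hf => ?_)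
    have := hSk f (hSrS f hf)
    calc f.natDegree = 1 * f.natDegree := (one_mul _).symm
      _ ≤ k f * f.natDegree := Nat.mul_le_mul_right _ this
  have hσm : σ ≤ m := by omega
  have hp2 : 2 ≤ p := hp.two_le
  -- (A)
  have hA : ∀ f ∈ Sr, k f ≤ p ^ (m - σ) := by
    intro f hf
    have h1 := hK f hf
    have h2 : k f ≤ (m - σ) + 1 := by omega
    have h3 := succ_le_two_pow (m - σ)
    have h4 : 2 ^ (m - σ) ≤ p ^ (m - σ) := Nat.pow_le_pow_left hp2 _
    omega
  -- (B)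
  have hB0 : ∀ f ∈ Sl, k f ≤ nl := by
    intro f hf
    rw [hnl]
    have h1 : k f * f.natDegree ≤ ∑ f ∈ Sl, k f * f.natDegree :=
      Finset.single_le_sum (f := fun f => k f * f.natDegree) (fun _ _ => Nat.zero_le _) hf
    rwa [(hSlp f hf).1, mul_one] at h1
  have hB : ∀ f ∈ Sl, k f ≤ p ^ (m - σ) := by
    intro f hf
    have h1 := hB0 f hf
    rcases hdeg with h | ⟨h, _, hp2'⟩
    · have h2 : k f ≤ 2 * (m - σ) := by omega
      have h3 := two_mul_le_two_pow (m - σ)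
      have h4 : 2 ^ (m - σ) ≤ p ^ (m - σ) := Nat.pow_le_pow_left hp2 _
      omega
    · have h2 : k f ≤ 2 * (m - σ) + 1 := by omega
      have h3 := two_mul_add_one_le_three_pow (m - σ)
      have hp3 : 3 ≤ p := by omega
      have h4 : 3 ^ (m - σ) ≤ p ^ (m - σ) := Nat.pow_le_pow_left hp3 _
      omega
  -- (C)
  have hC : ∀ f ∈ Sr, f ∣ X ^ L - 1 := by
    intro f hf
    have hfS := hSrS f hf
    by_cases hs : pstar f = f
    · obtain ⟨b, hb, hdvd⟩ := c7' f hf hs
      have h1 := hLp f hf hs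
      rw [hb, Nat.mul_div_cancel_left b (by norm_num)] at h1
      exact dvd_trans hdvd (X_pow_sub_one_dvd _ _ h1)
    · have h1 := hLm f hf hs
      have h2 := irr_dvd_X_pow_sub_one f (hSirr f hfS) (hS0 f hfS)
      rw [← hq] at h2
      exact dvd_trans h2 (X_pow_sub_one_dvd _ _ h1)
  have hXL : (X ^ L - 1 : F[X]) ≠ 0 := by
    simpa using X_pow_sub_C_ne_zero hLpos (1 : F)
  by_cases hI : ∀ f ∈ Sl, f ∣ X ^ L - 1
  · -- Case I
    refine ⟨L * p ^ (m - σ), Nat.mul_pos hLpos (pow_pos hp.pos _), Or.inl ?_, ?_⟩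
    · rw [← pow_char_sub p L (m - σ)]
      apply dvd_pow_of_factors μ _ _ hμ0 hXL
      intro f hf
      have hfS : f ∈ S := (hmemS f).2 hf
      rw [← hnF, ← hk]
      rcases hSlr f hfS with h | h
      · exact ⟨hI f h, hB f h⟩
      · exact ⟨hC f h, hA f h⟩
    · calc (q - 1) * (L * p ^ (m - σ)) = ((q - 1) * L) * p ^ (m - σ) := by ring
        _ ≤ q ^ (1 + σ) * q ^ (m - σ) := Nat.mul_le_mul hLbound (Nat.pow_le_pow_left hpq _)
        _ = q ^ (m + 1) := by rw [← pow_add]; congr 1; omega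
  · -- Case II
    obtain ⟨f₀, hf₀, hf₀n⟩ : ∃ f₀ ∈ Sl, ¬ f₀ ∣ X ^ L - 1 := by
      by_contra hcon
      apply hI
      intro f hf
      by_contra hn
      exact hcon ⟨f, hf, hn⟩
    have hf₀S := hSlS f₀ hf₀
    have hf₀e : f₀ = X + 1 := by
      rcases lin_selfdual f₀ (hSmon f₀ hf₀S) (hSlp f₀ hf₀).1 (hSlp f₀ hf₀).2 with h | h
      · exact absurd (h ▸ X_sub_one_dvd L) hf₀n
      · exact h
    have hpne2 : p ≠ 2 := by
      intro h2
      subst h2
      apply hf₀n
      rw [hf₀e]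
      have : (X + 1 : F[X]) = X - 1 := by
        rw [sub_eq_add_neg, CharTwo.neg_eq]
      rw [this]
      exact X_sub_one_dvd L
    have hp3 : 3 ≤ p := by omega
    have hpodd : Odd p := hp.odd_of_ne_two hpne2
    have hqodd : Odd q := by rw [hqe]; exact hpodd.pow
    have hSr_empty : Sr = ∅ := by
      rw [Finset.eq_empty_iff_forall_notMem]
      intro g hg
      apply hf₀n
      rw [hf₀e]
      apply X_add_one_dvd
      by_cases hs : pstar g = g
      · have h1 := hLp g hg hs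
        have : Even (q ^ (g.natDegree / 2) + 1) := (hqodd.pow).add_one
        exact dvd_trans (even_iff_two_dvd.1 this) h1
      · have h1 := hLm g hg hs
        have hodd : Odd (q ^ g.natDegree) := hqodd.pow
        have : Even (q ^ g.natDegree - 1) := by
          obtain ⟨c, hc⟩ := hodd
          rw [hc]; exact ⟨c, by omega⟩
        exact dvd_trans (even_iff_two_dvd.1 this) h1
    have hSall : ∀ f ∈ S, f ∈ Sl := by
      intro f hf
      rcases hSlr f hf with h | h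
      · exact h
      · rw [hSr_empty] at h; exact absurd h (Finset.notMem_empty f)
    have hn'0 : n' = 0 := by rw [hn', hSr_empty, Finset.sum_empty]
    have hcases : ∀ f ∈ S, f = X - 1 ∨ f = X + 1 := fun f hf =>
      lin_selfdual f (hSmon f hf) (hSlp f (hSall f hf)).1 (hSlp f (hSall f hf)).2
    by_cases hX1 : (X - 1 : F[X]) ∈ S
    · -- IIb
      have hne : (X - 1 : F[X]) ≠ f₀ := by
        intro h
        apply hf₀n
        rw [← h]
        exact X_sub_one_dvd L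
      have hpair : k (X - 1) + k f₀ ≤ nl := by
        have hsub : ({X - 1, f₀} : Finset F[X]) ⊆ Sl := by
          intro x hx
          rcases Finset.mem_insert.1 hx with rfl | hx
          · exact hSall _ hX1
          · rw [Finset.mem_singleton.1 hx]; exact hf₀
        have hle := Finset.sum_le_sum_of_subset (f := fun f => k f * f.natDegree) hsub
        rw [Finset.sum_pair hne, (hSlp _ (hSall _ hX1)).1, (hSlp _ hf₀).1, mul_one, mul_one,
          ← hnl] at hle
        exact hle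
      have hk1 := hSk _ hX1
      have hk2 := hSk _ hf₀S
      have hKb : ∀ f ∈ S, k f ≤ p ^ (m - 1) := by
        intro f hf
        have h1 : k f ≤ nl - 1 := by
          rcases hcases f hf with h | h
          · rw [h]; omega
          · rw [h, ← hf₀e]; omega
        have h4 : 3 ^ (m - 1) ≤ p ^ (m - 1) := Nat.pow_le_pow_left hp3 _
        rcases hdeg with h | ⟨h, hm3, _⟩
        · have := two_mul_sub_one_le_three_pow m hm1
          omega
        · have := two_mul_le_three_pow_pred m hm3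
          omega
      refine ⟨2 * p ^ (m - 1), Nat.mul_pos (by norm_num) (pow_pos hp.pos _), Or.inl ?_, ?_⟩
      · rw [← pow_char_sub p 2 (m - 1)]
        have hX2 : (X ^ 2 - 1 : F[X]) ≠ 0 := by
          simpa using X_pow_sub_C_ne_zero (show 0 < 2 by norm_num) (1 : F)
        apply dvd_pow_of_factors μ _ _ hμ0 hX2
        intro f hf
        have hfS : f ∈ S := (hmemS f).2 hf
        rw [← hnF, ← hk]
        refine ⟨?_, hKb f hfS⟩
        rcases hcases f hfS with h | h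
        · rw [h]; exact X_sub_one_dvd 2
        · rw [h]; exact X_add_one_dvd 2 (dvd_refl 2)
      · have h1 : p ^ (m - 1) ≤ q ^ (m - 1) := Nat.pow_le_pow_left hpq _
        have h2 : (q - 1) * 2 ≤ q ^ 2 := by
          obtain ⟨c, rfl⟩ : ∃ c, q = c + 2 := ⟨q - 2, by omega⟩
          have hc : c + 2 - 1 = c + 1 := by omega
          rw [hc]
          nlinarith
        calc (q - 1) * (2 * p ^ (m - 1)) = ((q - 1) * 2) * p ^ (m - 1) := by ring
          _ ≤ q ^ 2 * q ^ (m - 1) := Nat.mul_le_mul h2 h1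
          _ = q ^ (m + 1) := by rw [← pow_add]; congr 1; omega
    · -- IIa
      have hall : ∀ f ∈ S, f = X + 1 := by
        intro f hf
        rcases hcases f hf with h | h
        · exact absurd (h ▸ hf) hX1
        · exact h
      have hKa : ∀ f ∈ S, k f ≤ p ^ m := by
        intro f hf
        have h1 := hB0 f (hSall f hf)
        have h3 := two_mul_add_one_le_three_pow m
        have h4 : 3 ^ m ≤ p ^ m := Nat.pow_le_pow_left hp3 _
        omega
      refine ⟨p ^ m, pow_pos hp.pos _, Or.inr ?_, ?_⟩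
      · rw [← pow_char_add p m]
        have hX2 : (X + 1 : F[X]) ≠ 0 := by
          simpa using X_add_C_ne_zero (1 : F)
        apply dvd_pow_of_factors μ _ _ hμ0 hX2
        intro f hf
        have hfS : f ∈ S := (hmemS f).2 hf
        rw [← hnF, ← hk]
        refine ⟨?_, hKa f hfS⟩
        rw [hall f hfS]
      · have h1 : p ^ m ≤ q ^ m := Nat.pow_le_pow_left hpq _
        calc (q - 1) * p ^ m ≤ q * q ^ m := Nat.mul_le_mul (Nat.sub_le _ _) h1
          _ = q ^ (m + 1) := by rw [pow_succ]; ring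

end Main

end Cfsg.Agent.Lib.Helper2.Meo
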