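import Mathlib
import Cfsg.Agent.Lib.Helper2.MeoR

set_option autoImplicit false

namespace Cfsg.Agent.Lib.Helper2.Meo

open Polynomial Matrix

section Mat

variable {ι : Type*} [Fintype ι] [DecidableEq ι] {F : Type*} [Field F]

theorem key_pow (A M : Matrix ι ι F) (h : Aᵀ * M * A = M) (i : ℕ) : (Aᵀ) ^ i * M * A ^ i = M := by
  induction i with
  | zero => simp
  | succ i ih =>
    calc (Aᵀ) ^ (i + 1) * M * A ^ (i + 1) = Aᵀ * ((Aᵀ) ^ i * M * A ^ i) * A := by
          rw [pow_succ' Aᵀ, pow_succ A]; simp only [Matrix.mul_assoc]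
      _ = M := by rw [ih, h]

theorem key_pow2 (A M : Matrix ι ι F) (h : Aᵀ * M * A = M) (d j : ℕ) (hj : j ≤ d) :
    (Aᵀ) ^ d * M * A ^ j = (Aᵀ) ^ (d - j) * M := by
  have h1 : (Aᵀ) ^ d = (Aᵀ) ^ (d - j) * (Aᵀ) ^ j := by rw [← pow_add, Nat.sub_add_cancel hj]
  rw [h1, Matrix.mul_assoc, Matrix.mul_assoc, ← Matrix.mul_assoc ((Aᵀ) ^ j), key_pow A M h j]

theorem det_isUnit_of_form (A M : Matrix ι ι F) (hM : IsUnit M.det) (h : Aᵀ * M * A = M) :
    IsUnit A.det := by
  have h1 := congrArg Matrix.det h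
  rw [det_mul, det_mul, det_transpose] at h1
  have hM0 : M.det ≠ 0 := hM.ne_zero
  have h2 : A.det * A.det = 1 := by
    have : (A.det * A.det) * M.det = 1 * M.det := by rw [one_mul]; linear_combination h1
    exact mul_right_cancel₀ hM0 this
  exact IsUnit.of_mul_eq_one _ h2

theorem aeval_transpose (A : Matrix ι ι F) (μ : F[X]) :
    ∑ i ∈ Finset.range (μ.natDegree + 1), μ.coeff i • (Aᵀ) ^ i = (aeval A μ)ᵀ := by
  rw [aeval_eq_sum_range, Matrix.transpose_sum]
  refine Finset.sum_congr rfl (fun i _ => ?_)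
  rw [Matrix.transpose_smul, Matrix.transpose_pow]

theorem aeval_reverse_eq_zero (A M : Matrix ι ι F) (hM : IsUnit M.det) (h : Aᵀ * M * A = M)
    (μ : F[X]) (hμ : aeval A μ = 0) : aeval A μ.reverse = 0 := by
  set d := μ.natDegree with hd
  have e1 : aeval A μ.reverse = ∑ j ∈ Finset.range (d + 1), μ.coeff (d - j) • A ^ j := by
    rw [aeval_eq_sum_range' (lt_of_le_of_lt (reverse_natDegree_le μ) (Nat.lt_succ_self d))]
    refine Finset.sum_congr rfl (fun j hj => ?_)
    have hj' : j ≤ d := Nat.lt_succ_iff.1 (Finset.mem_range.1 hj)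
    rw [coeff_reverse, revAt_le hj']
  have e2 : (Aᵀ) ^ d * M * aeval A μ.reverse =
      (∑ i ∈ Finset.range (d + 1), μ.coeff i • (Aᵀ) ^ i) * M := by
    rw [e1, Finset.mul_sum, Finset.sum_mul, ← Finset.sum_range_reflect _ (d + 1)]
    refine Finset.sum_congr rfl (fun j hj => ?_)
    have hj' : j ≤ d := Nat.lt_succ_iff.1 (Finset.mem_range.1 hj)
    have e3 : d + 1 - 1 - j = d - j := by omega
    have e4 : d - (d - j) = j := by omega
    rw [Matrix.mul_smul, e3, e4, key_pow2 A M h d (d - j) (Nat.sub_le _ _), e4, Matrix.smul_mul]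
  rw [aeval_transpose, hμ, Matrix.transpose_zero, Matrix.zero_mul] at e2
  have hA : IsUnit A.det := det_isUnit_of_form A M hM h
  have hB : IsUnit ((Aᵀ) ^ d * M).det := by
    rw [det_mul, det_pow, det_transpose]
    exact (hA.pow d).mul hM
  calc aeval A μ.reverse
      = ((Aᵀ) ^ d * M)⁻¹ * ((Aᵀ) ^ d * M * aeval A μ.reverse) := by
        rw [← Matrix.mul_assoc, Matrix.nonsing_inv_mul _ hB, Matrix.one_mul]
    _ = 0 := by rw [e2, Matrix.mul_zero]

theorem minpoly_coeff_zero_ne (A : Matrix ι ι F) (hA : IsUnit A.det) :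
    (minpoly F A).coeff 0 ≠ 0 := by
  intro h0
  have hint : IsIntegral F A := Matrix.isIntegral A
  have hne : minpoly F A ≠ 0 := minpoly.ne_zero hint
  obtain ⟨ν, hν⟩ := X_dvd_iff.2 h0
  have hν0 : ν ≠ 0 := by
    rintro rfl
    rw [mul_zero] at hν
    exact hne hν
  have h1 : aeval A (minpoly F A) = 0 := minpoly.aeval F A
  rw [hν, map_mul, aeval_X] at h1
  have h2 : aeval A ν = 0 := by
    calc aeval A ν = A⁻¹ * (A * aeval A ν) := by
          rw [← Matrix.mul_assoc, Matrix.nonsing_inv_mul _ hA, Matrix.one_mul]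
      _ = 0 := by rw [h1, Matrix.mul_zero]
  have h3 : minpoly F A ∣ ν := minpoly.dvd F A h2
  have h4 := natDegree_le_of_dvd h3 hν0
  have h5 : (minpoly F A).natDegree = ν.natDegree + 1 := by
    rw [hν, natDegree_X_mul hν0]
  omega

theorem minpoly_natDegree_le (A : Matrix ι ι F) : (minpoly F A).natDegree ≤ Fintype.card ι := by
  have h1 := Matrix.minpoly_dvd_charpoly A
  have h2 := natDegree_le_of_dvd h1 (Matrix.charpoly_monic A).ne_zero
  rwa [Matrix.charpoly_natDegree_eq_dim] at h2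

theorem matrix_main [Fintype F] (p : ℕ) [Fact p.Prime] [CharP F p]
    (A M : Matrix ι ι F) (hM : IsUnit M.det) (h : Aᵀ * M * A = M) (m : ℕ) (hm1 : 1 ≤ m)
    (hdim : Fintype.card ι = 2 * m ∨ (Fintype.card ι = 2 * m + 1 ∧ 3 ≤ m ∧ p ≠ 2)) :
    ∃ N, 0 < N ∧ (A ^ N = 1 ∨ A ^ N = -1) ∧
      (Fintype.card F - 1) * N ≤ Fintype.card F ^ (m + 1) := by
  have hint : IsIntegral F A := Matrix.isIntegral A
  have hA : IsUnit A.det := det_isUnit_of_form A M hM h
  have hrev : minpoly F A ∣ (minpoly F A).reverse :=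
    minpoly.dvd F A (aeval_reverse_eq_zero A M hM h _ (minpoly.aeval F A))
  have hdeg := minpoly_natDegree_le (F := F) A
  obtain ⟨N, hN, hdvd, hbound⟩ := poly_main p (minpoly F A) (minpoly.monic hint)
    (minpoly_coeff_zero_ne A hA) hrev m hm1 (by
      rcases hdim with h | ⟨h, h3, hp⟩
      · left; omega
      · right; exact ⟨by omega, h3, hp⟩)
  refine ⟨N, hN, ?_, hbound⟩
  rcases hdvd with hd | hd
  · left
    have := (minpoly.dvd_iff (A := F) (x := A)).1 hd
    simpa [sub_eq_zero] using this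
  · right
    have := (minpoly.dvd_iff (A := F) (x := A)).1 hd
    have h2 : A ^ N + 1 = 0 := by simpa using this
    exact eq_neg_of_add_eq_zero_left h2

end Mat

end Cfsg.Agent.Lib.Helper2.Meo
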