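import Mathlib
import Cfsg.Prelude.Def_Classical
import Cfsg.Agent.Lib.Helper2.MeoD

set_option autoImplicit false

namespace Cfsg.Agent.Lib.Helper2.Meo

open Matrix

theorem psp_bound {F : Type*} [Field F] [Fintype F] (m : ℕ) (hm : 2 ≤ m) (g : Cfsg.PSp m F) :
    (Fintype.card F - 1) * orderOf g ≤ Fintype.card F ^ (m + 1) := by
  obtain ⟨a, rfl⟩ := QuotientGroup.mk_surjective g
  obtain ⟨p, hp⟩ := CharP.exists F
  have := hp
  have : Fact p.Prime := ⟨CharP.char_is_prime F p⟩
  have hA : (a.val)ᵀ * J (Fin m) F * a.val = J (Fin m) F := SymplecticGroup.mem_iff'.1 a.2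
  obtain ⟨N, hN, hpow, hbound⟩ := matrix_main p a.val
    (J (Fin m) F) (isUnit_det_J (Fin m) F) hA m (by omega)
    (Or.inl (by simp [Fintype.card_sum, two_mul]))
  have hcoe : (a ^ N).val = a.val ^ N := SubmonoidClass.coe_pow a N
  have hcen : a ^ N ∈ Subgroup.center (Matrix.symplecticGroup (Fin m) F) := by
    rw [Subgroup.mem_center_iff]
    intro b
    apply Subtype.ext
    show b.val * (a ^ N).val = (a ^ N).val * b.val
    rw [hcoe]
    rcases hpow with h | h
    · rw [h, Matrix.mul_one, Matrix.one_mul]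
    · rw [h, Matrix.mul_neg, Matrix.neg_mul, Matrix.mul_one, Matrix.one_mul]
  have h1 : ((a : Matrix.symplecticGroup (Fin m) F) :
      Matrix.symplecticGroup (Fin m) F ⧸ Subgroup.center (Matrix.symplecticGroup (Fin m) F)) ^ N = 1 := by
    rw [← QuotientGroup.mk_pow]
    exact (QuotientGroup.eq_one_iff _).2 hcen
  have h2 : orderOf ((a : Matrix.symplecticGroup (Fin m) F) :
      Matrix.symplecticGroup (Fin m) F ⧸ Subgroup.center (Matrix.symplecticGroup (Fin m) F)) ≤ N :=
    Nat.le_of_dvd hN (orderOf_dvd_of_pow_eq_one h1)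
  exact le_trans (Nat.mul_le_mul_left _ h2) hbound

end Cfsg.Agent.Lib.Helper2.Meo
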