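import Mathlib
import Cfsg.Prelude.Def_Classical
import Cfsg.Agent.Lib.Helper2.MeoD

set_option autoImplicit false

namespace Cfsg.Agent.Lib.Helper2.Meo

open Matrix

section Gen

variable {ι : Type} [Fintype ι] [DecidableEq ι] {F : Type*} [Field F]

theorem matrix_eq_of_forms (N₁ N₂ : Matrix ι ι F)
    (h : ∀ u v : ι → F, u ⬝ᵥ (N₁ *ᵥ v) = u ⬝ᵥ (N₂ *ᵥ v)) : N₁ = N₂ := by
  ext i j
  have := h (Pi.single i 1) (Pi.single j 1)
  rwa [single_one_dotProduct, single_one_dotProduct, mulVec_single_one, mulVec_single_one] at this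

theorem form_of_quadratic (Q : (ι → F) → F) (M : Matrix ι ι F)
    (hpol : ∀ u v, Q (u + v) - Q u - Q v = u ⬝ᵥ (M *ᵥ v)) (A : Matrix ι ι F)
    (hA : ∀ u, Q (A *ᵥ u) = Q u) : Aᵀ * M * A = M := by
  apply matrix_eq_of_forms
  intro u v
  have h1 : u ⬝ᵥ ((Aᵀ * M * A) *ᵥ v) = (A *ᵥ u) ⬝ᵥ (M *ᵥ (A *ᵥ v)) := by
    rw [← mulVec_mulVec, ← mulVec_mulVec, dotProduct_mulVec u Aᵀ, vecMul_transpose]
  rw [h1, ← hpol, ← hpol, ← mulVec_add, hA, hA, hA]

end Gen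

theorem pomega_bound_gen {ι : Type} [Fintype ι] [DecidableEq ι] {F : Type*} [Field F] [Fintype F]
    (Q : (ι → F) → F) (M : Matrix ι ι F) (hM : IsUnit M.det)
    (hpol : ∀ u v, Q (u + v) - Q u - Q v = u ⬝ᵥ (M *ᵥ v))
    (p : ℕ) [Fact p.Prime] [CharP F p] (m : ℕ) (hm1 : 1 ≤ m)
    (hdim : Fintype.card ι = 2 * m ∨ (Fintype.card ι = 2 * m + 1 ∧ 3 ≤ m ∧ p ≠ 2))
    (g : Cfsg.POmega F Q) :
    (Fintype.card F - 1) * orderOf g ≤ Fintype.card F ^ (m + 1) := by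
  obtain ⟨a, rfl⟩ := QuotientGroup.mk_surjective g
  have hAq : ∀ u, Q ((a.1.1 : Matrix ι ι F) *ᵥ u) = Q u := fun u => a.1.2 u u
  have hA := form_of_quadratic Q M hpol _ hAq
  obtain ⟨N, hN, hpow, hbound⟩ := matrix_main p _ M hM hA m hm1 hdim
  have hcoe : (((a ^ N).1.1 : GL ι F) : Matrix ι ι F) = (a.1.1 : Matrix ι ι F) ^ N := by
    rw [Subgroup.coe_pow, Subgroup.coe_pow, Units.val_pow_eq_pow_val]
  have hcen : a ^ N ∈ Subgroup.center (Cfsg.Omega F Q) := by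
    rw [Subgroup.mem_center_iff]
    intro b
    apply Subtype.ext
    apply Subtype.ext
    apply Units.ext
    show (b.1.1 : Matrix ι ι F) * (((a ^ N).1.1 : GL ι F) : Matrix ι ι F) =
      (((a ^ N).1.1 : GL ι F) : Matrix ι ι F) * (b.1.1 : Matrix ι ι F)
    rw [hcoe]
    rcases hpow with h | h
    · rw [h, Matrix.mul_one, Matrix.one_mul]
    · rw [h, Matrix.mul_neg, Matrix.neg_mul, Matrix.mul_one, Matrix.one_mul]
  have h1 : ((a : Cfsg.Omega F Q) : Cfsg.POmega F Q) ^ N = 1 := by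
    rw [← QuotientGroup.mk_pow]
    exact (QuotientGroup.eq_one_iff _).2 hcen
  have h2 : orderOf ((a : Cfsg.Omega F Q) : Cfsg.POmega F Q) ≤ N :=
    Nat.le_of_dvd hN (orderOf_dvd_of_pow_eq_one h1)
  exact le_trans (Nat.mul_le_mul_left _ h2) hbound

section Spec

variable {F : Type*} [Field F]

/-- Gram matrix of the polar form of the plus-type form. -/
def gramPlus (m : ℕ) (F : Type*) [Field F] : Matrix (Fin m ⊕ Fin m) (Fin m ⊕ Fin m) F :=
  fromBlocks 0 1 1 0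

theorem gramPlus_mul_self (m : ℕ) : gramPlus m F * gramPlus m F = 1 := by
  unfold gramPlus
  rw [fromBlocks_multiply]
  simp [fromBlocks_one]

theorem gramPlus_det (m : ℕ) : IsUnit (gramPlus m F).det :=
  isUnit_det_of_left_inverse (gramPlus_mul_self m)

theorem gramPlus_mulVec (m : ℕ) (v : Fin m ⊕ Fin m → F) :
    gramPlus m F *ᵥ v = Sum.elim (v ∘ Sum.inr) (v ∘ Sum.inl) := by
  unfold gramPlus
  rw [fromBlocks_mulVec]
  simp

theorem polar_plus (m : ℕ) (u v : Fin m ⊕ Fin m → F) :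
    Cfsg.quadFormPlus m F (u + v) - Cfsg.quadFormPlus m F u - Cfsg.quadFormPlus m F v =
      u ⬝ᵥ (gramPlus m F *ᵥ v) := by
  rw [gramPlus_mulVec]
  unfold Cfsg.quadFormPlus dotProduct
  rw [Fintype.sum_sum_type]
  simp only [Sum.elim_inl, Sum.elim_inr, Function.comp, Pi.add_apply]
  rw [← Finset.sum_sub_distrib, ← Finset.sum_sub_distrib, ← Finset.sum_add_distrib]
  refine Finset.sum_congr rfl (fun i _ => by ring)

/-- Gram matrix for the odd-dimensional form. -/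
def gramOdd (m : ℕ) (F : Type*) [Field F] :
    Matrix (Unit ⊕ (Fin m ⊕ Fin m)) (Unit ⊕ (Fin m ⊕ Fin m)) F :=
  fromBlocks ((2 : F) • (1 : Matrix Unit Unit F)) 0 0 (gramPlus m F)

theorem gramOdd_det (m : ℕ) (h2 : (2 : F) ≠ 0) : IsUnit (gramOdd m F).det := by
  unfold gramOdd
  rw [det_fromBlocks_zero₁₂, det_smul, det_one, Fintype.card_unit, pow_one, mul_one]
  exact (isUnit_iff_ne_zero.2 h2).mul (gramPlus_det m)

theorem gramOdd_mulVec (m : ℕ) (v : Unit ⊕ (Fin m ⊕ Fin m) → F) :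
    gramOdd m F *ᵥ v = Sum.elim ((2 : F) • (v ∘ Sum.inl)) (gramPlus m F *ᵥ (v ∘ Sum.inr)) := by
  unfold gramOdd
  rw [fromBlocks_mulVec]
  simp [smul_mulVec]

theorem quadFormOdd_eq (m : ℕ) (v : Unit ⊕ (Fin m ⊕ Fin m) → F) :
    Cfsg.quadFormOdd m F v = v (Sum.inl ()) ^ 2 + Cfsg.quadFormPlus m F (v ∘ Sum.inr) := rfl

theorem polar_odd (m : ℕ) (u v : Unit ⊕ (Fin m ⊕ Fin m) → F) :
    Cfsg.quadFormOdd m F (u + v) - Cfsg.quadFormOdd m F u - Cfsg.quadFormOdd m F v =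
      u ⬝ᵥ (gramOdd m F *ᵥ v) := by
  rw [gramOdd_mulVec, quadFormOdd_eq, quadFormOdd_eq, quadFormOdd_eq]
  have h1 := polar_plus m (u ∘ Sum.inr) (v ∘ Sum.inr)
  have h2 : (u + v) ∘ Sum.inr = (u ∘ Sum.inr : Fin m ⊕ Fin m → F) + v ∘ Sum.inr := rfl
  rw [h2]
  have h3 : u ⬝ᵥ Sum.elim ((2 : F) • (v ∘ Sum.inl)) (gramPlus m F *ᵥ (v ∘ Sum.inr)) =
      u (Sum.inl ()) * (2 * v (Sum.inl ())) + (u ∘ Sum.inr) ⬝ᵥ (gramPlus m F *ᵥ (v ∘ Sum.inr)) := by
    unfold dotProduct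
    rw [Fintype.sum_sum_type]
    simp
  rw [h3, ← h1]
  simp only [Pi.add_apply]
  ring

/-- Gram matrix for the minus-type form. -/
def gramMinus (m : ℕ) (F : Type*) [Field F] (a b : F) :
    Matrix ((Fin m ⊕ Fin m) ⊕ Fin 2) ((Fin m ⊕ Fin m) ⊕ Fin 2) F :=
  fromBlocks (gramPlus m F) 0 0 !![2, a; a, 2 * b]

theorem gramMinus_det (m : ℕ) (a b : F) (h : 4 * b - a * a ≠ 0) : IsUnit (gramMinus m F a b).det := by
  unfold gramMinus
  rw [det_fromBlocks_zero₁₂, det_fin_two_of]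
  refine (gramPlus_det m).mul (isUnit_iff_ne_zero.2 ?_)
  intro h'
  apply h
  rw [← h']; ring

theorem gramMinus_mulVec (m : ℕ) (a b : F) (v : (Fin m ⊕ Fin m) ⊕ Fin 2 → F) :
    gramMinus m F a b *ᵥ v =
      Sum.elim (gramPlus m F *ᵥ (v ∘ Sum.inl)) (!![2, a; a, 2 * b] *ᵥ (v ∘ Sum.inr)) := by
  unfold gramMinus
  rw [fromBlocks_mulVec]
  simp

theorem quadFormMinus_eq (m : ℕ) (a b : F) (v : (Fin m ⊕ Fin m) ⊕ Fin 2 → F) :
    Cfsg.quadFormMinus m F a b v = Cfsg.quadFormPlus m F (v ∘ Sum.inl) +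
      (v (Sum.inr 0) ^ 2 + a * v (Sum.inr 0) * v (Sum.inr 1) + b * v (Sum.inr 1) ^ 2) := rfl

theorem polar_minus (m : ℕ) (a b : F) (u v : (Fin m ⊕ Fin m) ⊕ Fin 2 → F) :
    Cfsg.quadFormMinus m F a b (u + v) - Cfsg.quadFormMinus m F a b u -
      Cfsg.quadFormMinus m F a b v = u ⬝ᵥ (gramMinus m F a b *ᵥ v) := by
  rw [gramMinus_mulVec, quadFormMinus_eq, quadFormMinus_eq, quadFormMinus_eq]
  have h1 := polar_plus m (u ∘ Sum.inl) (v ∘ Sum.inl)
  have h2 : (u + v) ∘ Sum.inl = (u ∘ Sum.inl : Fin m ⊕ Fin m → F) + v ∘ Sum.inl := rfl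
  rw [h2]
  have h3 : u ⬝ᵥ Sum.elim (gramPlus m F *ᵥ (v ∘ Sum.inl)) (!![2, a; a, 2 * b] *ᵥ (v ∘ Sum.inr)) =
      (u ∘ Sum.inl) ⬝ᵥ (gramPlus m F *ᵥ (v ∘ Sum.inl)) +
      (u (Sum.inr 0) * (2 * v (Sum.inr 0) + a * v (Sum.inr 1)) +
        u (Sum.inr 1) * (a * v (Sum.inr 0) + 2 * b * v (Sum.inr 1))) := by
    unfold dotProduct
    rw [Fintype.sum_sum_type]
    simp [Fin.sum_univ_two, Matrix.mulVec, dotProduct]
  rw [h3, ← h1]
  simp only [Pi.add_apply]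
  ring

end Spec

section Final

variable {F : Type*} [Field F] [Fintype F]

theorem two_ne_zero_of_char (p : ℕ) [Fact p.Prime] [CharP F p] (hp2 : p ≠ 2) : (2 : F) ≠ 0 := by
  intro h
  have h1 : ((2 : ℕ) : F) = 0 := by exact_mod_cast h
  have h2 : p ∣ 2 := (CharP.cast_eq_zero_iff F p 2).1 h1
  exact hp2 ((Nat.prime_dvd_prime_iff_eq Fact.out Nat.prime_two).1 h2)

theorem disc_ne_zero (p : ℕ) [Fact p.Prime] [CharP F p] (a b : F)
    (h : ∀ z₁ z₂ : F, z₁ ^ 2 + a * z₁ * z₂ + b * z₂ ^ 2 = 0 → z₁ = 0 ∧ z₂ = 0) :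
    4 * b - a * a ≠ 0 := by
  intro hd
  by_cases h2 : (2 : F) = 0
  · have h4 : (4 : F) = 0 := by
      have : (4 : F) = 2 * 2 := by norm_num
      rw [this, h2, mul_zero]
    have ha : a = 0 := by
      rw [h4, zero_mul, zero_sub, neg_eq_zero] at hd
      exact mul_self_eq_zero.1 hd
    have hp2 : p = 2 := by
      by_contra hne
      exact two_ne_zero_of_char (F := F) p hne h2
    have hchar : ringChar F = 2 := by rw [← hp2]; exact ringChar.eq F p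
    obtain ⟨c, hc⟩ := FiniteField.isSquare_of_char_two hchar b
    have := h c 1 (by
      rw [ha, hc]
      have : c ^ 2 + 0 * c * 1 + c * c * 1 ^ 2 = 2 * (c * c) := by ring
      rw [this, h2, zero_mul])
    exact one_ne_zero this.2
  · have := h (-a) 2 (by
      have : (-a) ^ 2 + a * (-a) * 2 + b * 2 ^ 2 = 4 * b - a * a := by ring
      rw [this, hd])
    exact h2 this.2

theorem pomega_plus_bound (m : ℕ) (hm : 4 ≤ m) (g : Cfsg.POmega F (Cfsg.quadFormPlus m F)) :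
    (Fintype.card F - 1) * orderOf g ≤ Fintype.card F ^ (m + 1) := by
  obtain ⟨p, hp⟩ := CharP.exists F
  have := hp
  have : Fact p.Prime := ⟨CharP.char_is_prime F p⟩
  exact pomega_bound_gen _ (gramPlus m F) (gramPlus_det m) (polar_plus m) p m (by omega)
    (Or.inl (by simp [two_mul])) g

theorem pomega_odd_bound (m : ℕ) (hm : 3 ≤ m) (hodd : Odd (Fintype.card F))
    (g : Cfsg.POmega F (Cfsg.quadFormOdd m F)) :
    (Fintype.card F - 1) * orderOf g ≤ Fintype.card F ^ (m + 1) := by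
  obtain ⟨p, hp⟩ := CharP.exists F
  have := hp
  have : Fact p.Prime := ⟨CharP.char_is_prime F p⟩
  have hp2 : p ≠ 2 := by
    intro h2
    obtain ⟨e, _, hqe⟩ := FiniteField.card F p
    rw [hqe, h2] at hodd
    have : Even (2 ^ (e : ℕ)) := (Nat.even_pow' e.pos.ne').2 even_two
    exact (Nat.not_odd_iff_even.2 this) hodd
  exact pomega_bound_gen _ (gramOdd m F) (gramOdd_det m (two_ne_zero_of_char p hp2)) (polar_odd m)
    p m (by omega) (Or.inr ⟨by simp [two_mul]; omega, hm, hp2⟩) g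

theorem pomega_minus_bound (m : ℕ) (hm : 4 ≤ m) (a b : F)
    (h : ∀ z₁ z₂ : F, z₁ ^ 2 + a * z₁ * z₂ + b * z₂ ^ 2 = 0 → z₁ = 0 ∧ z₂ = 0)
    (g : Cfsg.POmega F (Cfsg.quadFormMinus (m - 1) F a b)) :
    (Fintype.card F - 1) * orderOf g ≤ Fintype.card F ^ (m + 1) := by
  obtain ⟨p, hp⟩ := CharP.exists F
  have := hp
  have : Fact p.Prime := ⟨CharP.char_is_prime F p⟩
  exact pomega_bound_gen _ (gramMinus (m - 1) F a b) (gramMinus_det (m - 1) a b (disc_ne_zero p a b h))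
    (polar_minus (m - 1) a b) p m (by omega) (Or.inl (by simp; omega)) g

end Final

end Cfsg.Agent.Lib.Helper2.Meo
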