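import Mathlib
import Cfsg.Agent.Lib.Helper2.PGroupOdd
set_option autoImplicit false
set_option maxHeartbeats 1000000
set_option linter.unusedVariables false
set_option linter.unusedSectionVars false
set_option linter.style.longLine false
set_option linter.unusedSimpArgs false
set_option linter.deprecated false
set_option linter.style.haveILetI false

/-! Counting elements of order `p^s m` (Miller / Kulakoff type congruence), part A: the structure
of a group `B = ⟨x⟩ E` with `x` of order `p^s`, `s ≥ 2`, `p` odd, and `E` elementary abelian of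
order `p²` normalising `⟨x⟩`. -/

namespace Cfsg.Agent.Lib.Helper2.Mill

open Cfsg.Agent.Lib.Helper2

theorem dvd_sub_one_of_pow (p : ℕ) [hp : Fact p.Prime] (hodd : p ≠ 2) (s : ℕ) (hs : 1 ≤ s) (r : ℕ)
    (hr : r ^ p ≡ 1 [MOD p ^ s]) : 1 ≤ r ∧ p ^ (s - 1) ∣ r - 1 := by
  have hp' := hp.out
  have hr1 : 1 ≤ r := by
    by_contra h
    have h0 : r = 0 := by omega
    rw [h0, zero_pow hp'.ne_zero] at hr
    have h1 := Nat.modEq_zero_iff_dvd.mp hr.symm
    have h2 : p ^ s = 1 := Nat.dvd_one.mp h1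
    have h3 : 1 < p ^ s := Nat.one_lt_pow (by omega) hp'.one_lt
    omega
  refine ⟨hr1, ?_⟩
  have hmodp : r ≡ 1 [MOD p] := by
    have h1 : r ^ p ≡ 1 [MOD p] := Nat.ModEq.of_dvd (dvd_pow_self p (by omega)) hr
    have h2 : ((r ^ p : ℕ) : ZMod p) = ((1 : ℕ) : ZMod p) :=
      (ZMod.natCast_eq_natCast_iff _ _ _).mpr h1
    push_cast at h2
    rw [ZMod.pow_card] at h2
    exact (ZMod.natCast_eq_natCast_iff _ _ _).mp (by push_cast; exact h2)
  have hpr1 : p ∣ r - 1 := (Nat.modEq_iff_dvd' hr1).mp hmodp.symm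
  rcases Nat.eq_or_lt_of_le hr1 with h1 | h1
  · rw [← h1]
    simp
  · have hnp : ¬ p ∣ r := by
      intro h
      have h3 : p ∣ r - (r - 1) := Nat.dvd_sub h hpr1
      have h2 : r - (r - 1) = 1 := by omega
      rw [h2] at h3
      exact hp'.one_lt.ne' (Nat.dvd_one.mp h3)
    have hoddp : Odd p := hp'.odd_of_ne_two hodd
    have hlte := padicValNat.pow_sub_pow hoddp h1 hpr1 hnp (n := p) hp'.ne_zero
    rw [one_pow, padicValNat_self] at hlte
    have hpow1 : 1 ≤ r ^ p := Nat.one_le_pow _ _ (by omega)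
    have hdvd : p ^ s ∣ r ^ p - 1 := (Nat.modEq_iff_dvd' hpow1).mp hr.symm
    have hne : r ^ p - 1 ≠ 0 := by
      have h4 : 1 < r ^ p := Nat.one_lt_pow hp'.ne_zero h1
      omega
    have h2 := (padicValNat_dvd_iff_le hne).mp hdvd
    rw [hlte] at h2
    apply (padicValNat_dvd_iff_le (by omega)).mpr
    omega

theorem conj_pow_eq {G : Type*} [Group G] {x e : G} {r : ℕ} (h : e * x * e⁻¹ = x ^ r) (j : ℕ) :
    e ^ j * x * (e ^ j)⁻¹ = x ^ (r ^ j) := by
  induction j with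
  | zero => simp
  | succ j ih =>
    calc e ^ (j + 1) * x * (e ^ (j + 1))⁻¹ = e * (e ^ j * x * (e ^ j)⁻¹) * e⁻¹ := by
          rw [pow_succ', mul_inv_rev]
          simp only [mul_assoc]
      _ = e * x ^ (r ^ j) * e⁻¹ := by rw [ih]
      _ = (e * x * e⁻¹) ^ (r ^ j) := conj_pow.symm
      _ = x ^ (r ^ (j + 1)) := by rw [h, ← pow_mul, pow_succ']

theorem exists_conj_exp {G : Type*} [Group G] (p : ℕ) [hp : Fact p.Prime] (hodd : p ≠ 2) (s : ℕ)
    (hs : 2 ≤ s) {x e : G} (hx : orderOf x = p ^ s) (he : e ^ p = 1)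
    (hn : e * x * e⁻¹ ∈ Subgroup.zpowers x) :
    ∃ t : ℕ, ∀ u ∈ Subgroup.zpowers x, e * u * e⁻¹ = u * (u ^ (p ^ (s - 1))) ^ t := by
  obtain ⟨k, hk⟩ := Subgroup.mem_zpowers_iff.mp hn
  have hps : ((p : ℤ) ^ s) ≠ 0 := by
    have := hp.out.pos
    positivity
  have hk' : x ^ ((k % ((p : ℤ) ^ s)).toNat) = e * x * e⁻¹ := by
    rw [← zpow_natCast, Int.toNat_of_nonneg (Int.emod_nonneg k hps), ← hk]
    have h0 := zpow_mod_orderOf x k
    rw [hx] at h0
    push_cast at h0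
    exact h0
  generalize (k % ((p : ℤ) ^ s)).toNat = r at hk'
  have h1 := conj_pow_eq hk'.symm p
  rw [he, one_mul, inv_one, mul_one] at h1
  have h2 : x ^ (r ^ p) = x ^ 1 := by
    rw [pow_one]
    exact h1.symm
  have h3 : r ^ p ≡ 1 [MOD p ^ s] := by
    have h4 := pow_eq_pow_iff_modEq.mp h2
    rw [hx] at h4
    exact h4
  obtain ⟨hr1, t, ht⟩ := dvd_sub_one_of_pow p hodd s (by omega) r h3
  refine ⟨t, ?_⟩
  intro u hu
  obtain ⟨z, rfl⟩ := Subgroup.mem_zpowers_iff.mp hu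
  have hr2 : r = 1 + p ^ (s - 1) * t := by omega
  have h5 : (x ^ r) ^ z = (x ^ z) ^ r := by
    rw [← zpow_natCast x r, ← zpow_mul, ← zpow_natCast (x ^ z) r, ← zpow_mul, mul_comm]
  calc e * x ^ z * e⁻¹ = (e * x * e⁻¹) ^ z := conj_zpow.symm
    _ = (x ^ r) ^ z := by rw [hk']
    _ = (x ^ z) ^ r := h5
    _ = x ^ z * ((x ^ z) ^ (p ^ (s - 1))) ^ t := by rw [hr2, pow_add, pow_one, pow_mul]

theorem mul_pow_p {G : Type*} [Group G] (p : ℕ) [hp : Fact p.Prime] (hodd : p ≠ 2) (s : ℕ)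
    (hs : 2 ≤ s) {u e : G} {t : ℕ} (hu : u ^ (p ^ s) = 1) (he : e ^ p = 1)
    (hc : e * u * e⁻¹ = u * (u ^ (p ^ (s - 1))) ^ t) : (u * e) ^ p = u ^ p := by
  have hcu : Commute ((u ^ (p ^ (s - 1))) ^ t) u := by
    rw [← pow_mul]
    exact (Commute.refl u).pow_left _
  generalize hcdef : (u ^ (p ^ (s - 1))) ^ t = c at hc hcu
  have heu : e * u = c * u * e := by
    have h0 : e * u = (e * u * e⁻¹) * e := by group
    rw [h0, hc, hcu.eq]
  have hcp : c ^ p = 1 := by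
    rw [← hcdef, ← pow_mul, ← pow_mul]
    have h0 : p ^ (s - 1) * (t * p) = p ^ s * t := by
      have h1 : s = (s - 1) + 1 := by omega
      conv_rhs => rw [h1, pow_succ]
      ring
    rw [h0, pow_mul, hu, one_pow]
  have hN : c ^ (p ^ (s - 1)) = 1 := by
    have h0 : p ^ (s - 1) = p * p ^ (s - 2) := by
      rw [← pow_succ']
      congr 1
      omega
    rw [h0, pow_mul, hcp, one_pow]
  have h1 : e * c * e⁻¹ = c := by
    have h2 : e * c * e⁻¹ = ((e * u * e⁻¹) ^ (p ^ (s - 1))) ^ t := by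
      rw [conj_pow, conj_pow, hcdef]
    rw [h2, hc, (hcu.symm).mul_pow, hN, mul_one, hcdef]
  have hce : Commute c e := by
    have h3 : e * c = c * e := by
      calc e * c = (e * c * e⁻¹) * e := by group
        _ = c * e := by rw [h1]
    exact h3.symm
  have h4 := mul_pow_prime_of_central_commutator hp.out hodd (x := u) (y := e) (c := c) heu hcu
    hce hcp
  rw [h4, he, mul_one]

theorem mul_pow_p_pow {G : Type*} [Group G] (p : ℕ) [hp : Fact p.Prime] (hodd : p ≠ 2) (s : ℕ)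
    (hs : 2 ≤ s) {u e : G} {t : ℕ} (hu : u ^ (p ^ s) = 1) (he : e ^ p = 1)
    (hc : e * u * e⁻¹ = u * (u ^ (p ^ (s - 1))) ^ t) (j : ℕ) :
    (u * e) ^ (p ^ (j + 1)) = u ^ (p ^ (j + 1)) := by
  rw [pow_succ', pow_mul, mul_pow_p p hodd s hs hu he hc, ← pow_mul]

/-- the data of the group `B = ⟨x₀⟩ E` -/
structure BData (G : Type*) [Group G] (p s : ℕ) (E : Subgroup G) (x₀ : G) : Prop where
  hs : 2 ≤ s
  hodd : p ≠ 2
  hEp : ∀ e ∈ E, e ^ p = 1
  hEc : ∀ a ∈ E, ∀ b ∈ E, a * b = b * a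
  hEcard : Nat.card E = p ^ 2
  hx : orderOf x₀ = p ^ s
  hn : ∀ e ∈ E, e * x₀ * e⁻¹ ∈ Subgroup.zpowers x₀

namespace BData

variable {G : Type*} [Group G] [Finite G] {p s : ℕ} [hp : Fact p.Prime] {E : Subgroup G} {x₀ : G}

theorem conj (D : BData G p s E x₀) {e : G} (he : e ∈ E) :
    ∃ t : ℕ, ∀ u ∈ Subgroup.zpowers x₀, e * u * e⁻¹ = u * (u ^ (p ^ (s - 1))) ^ t :=
  exists_conj_exp p D.hodd s D.hs D.hx (D.hEp e he) (D.hn e he)

theorem conj_mem (D : BData G p s E x₀) {e : G} (he : e ∈ E) {V : Subgroup G}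
    (hV : V ≤ Subgroup.zpowers x₀) {u : G} (hu : u ∈ V) : e * u * e⁻¹ ∈ V := by
  obtain ⟨t, ht⟩ := D.conj he
  rw [ht u (hV hu)]
  exact V.mul_mem hu (V.pow_mem (V.pow_mem hu _) _)

theorem pow_eq_one (D : BData G p s E x₀) {u : G} (hu : u ∈ Subgroup.zpowers x₀) :
    u ^ (p ^ s) = 1 := by
  rw [← orderOf_dvd_iff_pow_eq_one, ← D.hx]
  exact orderOf_dvd_of_mem_zpowers hu

theorem le_normalizer (D : BData G p s E x₀) {V : Subgroup G} (hV : V ≤ Subgroup.zpowers x₀) :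
    E ≤ Subgroup.normalizer (V : Set G) := by
  intro e he
  rw [Subgroup.mem_normalizer_iff]
  intro h
  constructor
  · intro hh
    exact D.conj_mem he hV hh
  · intro hh
    have h1 := D.conj_mem (E.inv_mem he) hV hh
    have h2 : e⁻¹ * (e * h * e⁻¹) * e⁻¹⁻¹ = h := by group
    rw [h2] at h1
    exact h1

theorem mem_sup (D : BData G p s E x₀) {V : Subgroup G} (hV : V ≤ Subgroup.zpowers x₀) {b : G} :
    b ∈ V ⊔ E ↔ ∃ u ∈ V, ∃ e ∈ E, u * e = b := by
  rw [← SetLike.mem_coe, Subgroup.coe_mul_of_right_le_normalizer_left V E (D.le_normalizer hV),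
    Set.mem_mul]
  simp only [SetLike.mem_coe]

theorem pow_mul_eq (D : BData G p s E x₀) {u e : G} (hu : u ∈ Subgroup.zpowers x₀) (he : e ∈ E)
    (j : ℕ) : (u * e) ^ (p ^ (j + 1)) = u ^ (p ^ (j + 1)) := by
  obtain ⟨t, ht⟩ := D.conj he
  exact mul_pow_p_pow p D.hodd s D.hs (D.pow_eq_one hu) (D.hEp e he) (ht u hu) j

theorem pow_mul_eq' (D : BData G p s E x₀) {u e : G} (hu : u ∈ Subgroup.zpowers x₀) (he : e ∈ E) :
    (u * e) ^ (p ^ (s - 1)) = u ^ (p ^ (s - 1)) := by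
  have h := D.pow_mul_eq hu he (s - 2)
  have h1 : s - 2 + 1 = s - 1 := by have := D.hs; omega
  rw [h1] at h
  exact h

theorem pow_mul_eq_one (D : BData G p s E x₀) {u e : G} (hu : u ∈ Subgroup.zpowers x₀)
    (he : e ∈ E) : (u * e) ^ (p ^ s) = 1 := by
  have h := D.pow_mul_eq hu he (s - 1)
  have h1 : s - 1 + 1 = s := by have := D.hs; omega
  rw [h1] at h
  rw [h, D.pow_eq_one hu]

theorem order_iff (D : BData G p s E x₀) {u e : G} (hu : u ∈ Subgroup.zpowers x₀) (he : e ∈ E) :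
    orderOf (u * e) = p ^ s ↔ u ^ (p ^ (s - 1)) ≠ 1 := by
  have h1 : s - 1 + 1 = s := by have := D.hs; omega
  constructor
  · intro h hcon
    have h2 : (u * e) ^ (p ^ (s - 1)) = 1 := by rw [D.pow_mul_eq' hu he, hcon]
    have h3 := orderOf_dvd_of_pow_eq_one h2
    rw [h] at h3
    have h4 := (Nat.pow_dvd_pow_iff_le_right hp.out.one_lt).mp h3
    omega
  · intro h
    have h2 : ¬ (u * e) ^ (p ^ (s - 1)) = 1 := by rw [D.pow_mul_eq' hu he]; exact h
    have h3 : (u * e) ^ (p ^ (s - 1 + 1)) = 1 := by rw [h1]; exact D.pow_mul_eq_one hu he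
    have h4 := orderOf_eq_prime_pow h2 h3
    rw [h1] at h4
    exact h4

theorem order_gen (D : BData G p s E x₀) {u : G} (hu : u ∈ Subgroup.zpowers x₀)
    (hne : u ^ (p ^ (s - 1)) ≠ 1) : Subgroup.zpowers u = Subgroup.zpowers x₀ := by
  have h1 : s - 1 + 1 = s := by have := D.hs; omega
  have h3 : u ^ (p ^ (s - 1 + 1)) = 1 := by rw [h1]; exact D.pow_eq_one hu
  have h4 := orderOf_eq_prime_pow hne h3
  rw [h1] at h4
  apply Subgroup.eq_of_le_of_card_ge (Subgroup.zpowers_le.mpr hu)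
  rw [Nat.card_zpowers, Nat.card_zpowers, h4, D.hx]

/-- (S1) -/
theorem of_order (D : BData G p s E x₀) {b : G} (hb : b ∈ Subgroup.zpowers x₀ ⊔ E)
    (hob : orderOf b = p ^ s) :
    (∀ e ∈ E, e * b * e⁻¹ ∈ Subgroup.zpowers b) ∧
      Subgroup.zpowers b ⊔ E = Subgroup.zpowers x₀ ⊔ E := by
  obtain ⟨u, hu, e, he, rfl⟩ := (D.mem_sup le_rfl).mp hb
  have hne := (D.order_iff hu he).mp hob
  have hgen := D.order_gen hu hne
  constructor
  · intro e' he'
    obtain ⟨t, ht⟩ := D.conj he'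
    have h1 : e' * (u * e) * e'⁻¹ = (e' * u * e'⁻¹) * (e' * e * e'⁻¹) := by group
    have h2 : e' * e * e'⁻¹ = e := by
      rw [D.hEc e' he' e he]
      group
    have hcu : Commute ((u ^ (p ^ (s - 1))) ^ t) u := by
      rw [← pow_mul]
      exact (Commute.refl u).pow_left _
    rw [h1, h2, ht u hu, ← hcu.eq, mul_assoc, ← D.pow_mul_eq' hu he]
    exact (Subgroup.zpowers (u * e)).mul_mem
      (Subgroup.pow_mem _ (Subgroup.pow_mem _ (Subgroup.mem_zpowers _) _) _)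
      (Subgroup.mem_zpowers _)
  · apply le_antisymm
    · exact sup_le (Subgroup.zpowers_le.mpr hb) le_sup_right
    · apply sup_le _ le_sup_right
      rw [← hgen, Subgroup.zpowers_le]
      have h1 : (u * e) * e⁻¹ ∈ Subgroup.zpowers (u * e) ⊔ E :=
        Subgroup.mul_mem _ (Subgroup.mem_sup_left (Subgroup.mem_zpowers _))
          (Subgroup.mem_sup_right (E.inv_mem he))
      have h2 : (u * e) * e⁻¹ = u := by group
      rw [h2] at h1
      exact h1

theorem not_le_zpowers (D : BData G p s E x₀) (y : G) : ¬ E ≤ Subgroup.zpowers y := by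
  intro hle
  have hcyc : IsCyclic (E.subgroupOf (Subgroup.zpowers y)) := inferInstance
  have hE : IsCyclic E := (MulEquiv.isCyclic (Subgroup.subgroupOfEquivOfLe hle)).mp hcyc
  obtain ⟨g, hg⟩ := IsCyclic.exists_generator (α := E)
  have h1 : orderOf g = p ^ 2 := by
    rw [orderOf_eq_card_of_forall_mem_zpowers hg, D.hEcard]
  have h2 : g ^ p = 1 := Subtype.ext (by
    rw [Subgroup.coe_pow, Subgroup.coe_one]
    exact D.hEp g g.2)
  have h3 := orderOf_dvd_of_pow_eq_one h2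
  rw [h1] at h3
  have h4 : p ^ 2 ≤ p := Nat.le_of_dvd hp.out.pos h3
  have h5 : p < p ^ 2 := by
    have := hp.out.one_lt
    nlinarith
  omega

/-- (S2) -/
theorem dvd_card_order (D : BData G p s E x₀) :
    p ^ s ∣ Nat.card {b : G // b ∈ Subgroup.zpowers x₀ ⊔ E ∧ orderOf b = p ^ s} := by
  have hs := D.hs
  have hV : Subgroup.zpowers (x₀ ^ p) ≤ Subgroup.zpowers x₀ :=
    Subgroup.zpowers_le.mpr (Subgroup.pow_mem _ (Subgroup.mem_zpowers _) _)
  have hpN : p * p ^ (s - 1) = p ^ s := by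
    rw [← pow_succ']
    congr 1
    omega
  -- elements of V are killed by p^(s-1)
  have hVpow : ∀ v ∈ Subgroup.zpowers (x₀ ^ p), v ^ (p ^ (s - 1)) = 1 := by
    intro v hv
    rw [← orderOf_dvd_iff_pow_eq_one]
    apply (orderOf_dvd_of_mem_zpowers hv).trans
    rw [orderOf_dvd_iff_pow_eq_one, ← pow_mul, hpN, ← D.hx]
    exact pow_orderOf_eq_one x₀
  -- elements of U killed by p^(s-1) lie in V
  have hUV : ∀ u ∈ Subgroup.zpowers x₀, u ^ (p ^ (s - 1)) = 1 → u ∈ Subgroup.zpowers (x₀ ^ p) := by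
    intro u hu hu1
    obtain ⟨z, rfl⟩ := Subgroup.mem_zpowers_iff.mp hu
    rw [← zpow_natCast, ← zpow_mul, ← orderOf_dvd_iff_zpow_eq_one, D.hx] at hu1
    have h1 : ((p : ℤ)) ∣ z := by
      have h2 : ((p : ℤ) * (p : ℤ) ^ (s - 1)) ∣ z * (p : ℤ) ^ (s - 1) := by
        have h3 : ((p ^ s : ℕ) : ℤ) = (p : ℤ) * (p : ℤ) ^ (s - 1) := by
          rw [← hpN]
          push_cast
          ring
        rw [← h3]
        have h4 : z * ((p ^ (s - 1) : ℕ) : ℤ) = z * (p : ℤ) ^ (s - 1) := by push_cast; ring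
        rw [← h4]
        exact hu1
      have hne : ((p : ℤ) ^ (s - 1)) ≠ 0 := by
        have := hp.out.pos
        positivity
      exact (mul_dvd_mul_iff_right hne).mp h2
    obtain ⟨z', rfl⟩ := h1
    rw [Subgroup.mem_zpowers_iff]
    exact ⟨z', by rw [← zpow_natCast x₀ p, ← zpow_mul]⟩
  have hset : {b : G | b ∈ Subgroup.zpowers x₀ ⊔ E ∧ orderOf b = p ^ s} =
      ((Subgroup.zpowers x₀ ⊔ E : Subgroup G) : Set G) \
        ((Subgroup.zpowers (x₀ ^ p) ⊔ E : Subgroup G) : Set G) := by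
    ext b
    simp only [Set.mem_setOf_eq, Set.mem_diff, SetLike.mem_coe]
    constructor
    · rintro ⟨hb, hob⟩
      refine ⟨hb, ?_⟩
      intro hb0
      obtain ⟨v, hv, e, he, rfl⟩ := (D.mem_sup hV).mp hb0
      exact (D.order_iff (hV hv) he).mp hob (hVpow v hv)
    · rintro ⟨hb, hb0⟩
      refine ⟨hb, ?_⟩
      obtain ⟨u, hu, e, he, rfl⟩ := (D.mem_sup le_rfl).mp hb
      apply (D.order_iff hu he).mpr
      intro hu1
      apply hb0
      exact (D.mem_sup hV).mpr ⟨u, hUV u hu hu1, e, he, rfl⟩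
  have hcard : Nat.card {b : G // b ∈ Subgroup.zpowers x₀ ⊔ E ∧ orderOf b = p ^ s} =
      Nat.card (Subgroup.zpowers x₀ ⊔ E : Subgroup G) -
        Nat.card (Subgroup.zpowers (x₀ ^ p) ⊔ E : Subgroup G) := by
    have h1 : Nat.card {b : G // b ∈ Subgroup.zpowers x₀ ⊔ E ∧ orderOf b = p ^ s} =
        Set.ncard {b : G | b ∈ Subgroup.zpowers x₀ ⊔ E ∧ orderOf b = p ^ s} :=
      Nat.card_coe_set_eq _
    rw [h1, hset, Set.ncard_sdiff (by
      intro b hb
      exact (sup_le_sup_right hV E) hb) (Set.toFinite _)]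
    rw [← Nat.card_coe_set_eq, ← Nat.card_coe_set_eq]
    rfl
  rw [hcard]
  apply Nat.dvd_sub
  · have h1 : Nat.card (Subgroup.zpowers x₀) = p ^ s := by rw [Nat.card_zpowers, D.hx]
    rw [← h1]
    exact Subgroup.card_dvd_of_le le_sup_left
  · -- B₀ is a p-group strictly bigger than V
    have hpg : IsPGroup p (Subgroup.zpowers (x₀ ^ p) ⊔ E : Subgroup G) := by
      rintro ⟨g, hg⟩
      obtain ⟨v, hv, e, he, rfl⟩ := (D.mem_sup hV).mp hg
      exact ⟨s, Subtype.ext (by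
        rw [Subgroup.coe_pow, Subgroup.coe_one]
        exact D.pow_mul_eq_one (hV hv) he)⟩
    obtain ⟨a, ha⟩ := IsPGroup.iff_card.mp hpg
    rw [ha]
    apply pow_dvd_pow
    have hVcard : Nat.card (Subgroup.zpowers (x₀ ^ p)) = p ^ (s - 1) := by
      rw [Nat.card_zpowers, orderOf_pow_of_dvd hp.out.ne_zero (by rw [D.hx]; exact dvd_pow_self p (by omega)),
        D.hx, ← hpN, Nat.mul_div_cancel_left _ hp.out.pos]
    have hlt : Nat.card (Subgroup.zpowers (x₀ ^ p)) <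
        Nat.card (Subgroup.zpowers (x₀ ^ p) ⊔ E : Subgroup G) := by
      by_contra hcon
      push Not at hcon
      have h1 := Subgroup.eq_of_le_of_card_ge (le_sup_left : Subgroup.zpowers (x₀ ^ p) ≤
        Subgroup.zpowers (x₀ ^ p) ⊔ E) hcon
      apply D.not_le_zpowers (x₀ ^ p)
      rw [h1]
      exact le_sup_right
    rw [hVcard, ha] at hlt
    have h2 := (Nat.pow_lt_pow_iff_right hp.out.one_lt).mp hlt
    omega

end BData

end Cfsg.Agent.Lib.Helper2.Mill
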