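import Mathlib
import Cfsg.Agent.Lib.Helper2.MillA
set_option autoImplicit false
set_option maxHeartbeats 1000000
set_option linter.unusedVariables false
set_option linter.unusedSectionVars false
set_option linter.style.longLine false
set_option linter.unusedSimpArgs false
set_option linter.deprecated false
set_option linter.style.haveILetI false

/-! Counting elements of order `p^s m`, part B: the global counting argument. -/

open scoped Pointwise

namespace Cfsg.Agent.Lib.Helper2.Mill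

open Cfsg.Agent.Lib.Helper2

section Step1

variable {G : Type*} [Group G]

theorem order_split {a b : ℕ} (hab : Nat.Coprime a b) (ha : 0 < a) (hb : 0 < b) {k₁ k₂ : ℕ}
    (h1 : k₁ ≡ 1 [MOD a] ∧ k₁ ≡ 0 [MOD b]) (h2 : k₂ ≡ 0 [MOD a] ∧ k₂ ≡ 1 [MOD b]) {g : G}
    (hg : orderOf g = a * b) :
    orderOf (g ^ k₁) = a ∧ orderOf (g ^ k₂) = b ∧ g ^ k₁ * g ^ k₂ = g := by
  have hb1 : b ∣ k₁ := Nat.modEq_zero_iff_dvd.mp h1.2
  have ha2 : a ∣ k₂ := Nat.modEq_zero_iff_dvd.mp h2.1
  have hxa : (g ^ k₁) ^ a = 1 := by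
    rw [← pow_mul, ← orderOf_dvd_iff_pow_eq_one, hg, mul_comm k₁ a]
    exact Nat.mul_dvd_mul_left a hb1
  have hyb : (g ^ k₂) ^ b = 1 := by
    rw [← pow_mul, ← orderOf_dvd_iff_pow_eq_one, hg]
    exact Nat.mul_dvd_mul_right ha2 b
  have hox := orderOf_dvd_of_pow_eq_one hxa
  have hoy := orderOf_dvd_of_pow_eq_one hyb
  have hprod : g ^ k₁ * g ^ k₂ = g := by
    rw [← pow_add]
    have h3 : k₁ + k₂ ≡ 1 [MOD a * b] := by
      rw [← Nat.modEq_and_modEq_iff_modEq_mul hab]
      constructor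
      · have := Nat.ModEq.add h1.1 h2.1
        simpa using this
      · have := Nat.ModEq.add h1.2 h2.2
        simpa using this
    have h4 : g ^ (k₁ + k₂) = g ^ 1 := by
      rw [pow_eq_pow_iff_modEq, hg]
      exact h3
    rw [h4, pow_one]
  have hcomm : Commute (g ^ k₁) (g ^ k₂) := (Commute.refl g).pow_pow _ _
  have hcop : (orderOf (g ^ k₁)).Coprime (orderOf (g ^ k₂)) :=
    Nat.Coprime.coprime_dvd_left hox (Nat.Coprime.coprime_dvd_right hoy hab)
  have hmul := hcomm.orderOf_mul_eq_mul_orderOf_of_coprime hcop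
  rw [hprod, hg] at hmul
  have hxle : orderOf (g ^ k₁) ≤ a := Nat.le_of_dvd ha hox
  have hyle : orderOf (g ^ k₂) ≤ b := Nat.le_of_dvd hb hoy
  refine ⟨?_, ?_, hprod⟩
  · by_contra hne
    have hlt : orderOf (g ^ k₁) < a := lt_of_le_of_ne hxle hne
    have : orderOf (g ^ k₁) * orderOf (g ^ k₂) < a * b :=
      calc orderOf (g ^ k₁) * orderOf (g ^ k₂) ≤ orderOf (g ^ k₁) * b :=
            Nat.mul_le_mul_left _ hyle
        _ < a * b := Nat.mul_lt_mul_of_pos_right hlt hb
    omega
  · by_contra hne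
    have hlt : orderOf (g ^ k₂) < b := lt_of_le_of_ne hyle hne
    have : orderOf (g ^ k₁) * orderOf (g ^ k₂) < a * b :=
      calc orderOf (g ^ k₁) * orderOf (g ^ k₂) ≤ a * orderOf (g ^ k₂) :=
            Nat.mul_le_mul_right _ hxle
        _ < a * b := Nat.mul_lt_mul_of_pos_left hlt ha
    omega

theorem pair_split {a b : ℕ} {k₁ k₂ : ℕ}
    (h1 : k₁ ≡ 1 [MOD a] ∧ k₁ ≡ 0 [MOD b]) (h2 : k₂ ≡ 0 [MOD a] ∧ k₂ ≡ 1 [MOD b]) {x y : G}
    (hx : orderOf x = a) (hy : orderOf y = b) (hc : Commute x y) :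
    (x * y) ^ k₁ = x ∧ (x * y) ^ k₂ = y := by
  constructor
  · rw [hc.mul_pow]
    have e1 : x ^ k₁ = x ^ 1 := by
      rw [pow_eq_pow_iff_modEq, hx]
      exact h1.1
    have e2 : y ^ k₁ = 1 := by
      rw [← orderOf_dvd_iff_pow_eq_one, hy]
      exact Nat.modEq_zero_iff_dvd.mp h1.2
    rw [e1, e2, pow_one, mul_one]
  · rw [hc.mul_pow]
    have e1 : y ^ k₂ = y ^ 1 := by
      rw [pow_eq_pow_iff_modEq, hy]
      exact h2.2
    have e2 : x ^ k₂ = 1 := by
      rw [← orderOf_dvd_iff_pow_eq_one, hx]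
      exact Nat.modEq_zero_iff_dvd.mp h2.1
    rw [e1, e2, pow_one, one_mul]

theorem card_order_eq_card_pairs (a b : ℕ) (hab : Nat.Coprime a b) (ha : 0 < a) (hb : 0 < b) :
    Nat.card {g : G // orderOf g = a * b} =
      Nat.card {t : G × G // orderOf t.1 = a ∧ orderOf t.2 = b ∧ Commute t.1 t.2} := by
  obtain ⟨k₁, h1⟩ := Nat.chineseRemainder hab 1 0
  obtain ⟨k₂, h2⟩ := Nat.chineseRemainder hab 0 1
  apply Nat.card_congr
  exact {
    toFun := fun g => ⟨(g.1 ^ k₁, g.1 ^ k₂), (order_split hab ha hb h1 h2 g.2).1,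
      (order_split hab ha hb h1 h2 g.2).2.1, (Commute.refl g.1).pow_pow _ _⟩
    invFun := fun t => ⟨t.1.1 * t.1.2, by
      rw [t.2.2.2.orderOf_mul_eq_mul_orderOf_of_coprime (by rw [t.2.1, t.2.2.1]; exact hab),
        t.2.1, t.2.2.1]⟩
    left_inv := fun g => Subtype.ext (order_split hab ha hb h1 h2 g.2).2.2
    right_inv := fun t => Subtype.ext (Prod.ext (pair_split h1 h2 t.2.1 t.2.2.1 t.2.2.2).1
      (pair_split h1 h2 t.2.1 t.2.2.1 t.2.2.2).2) }

end Step1

section Fib

variable {G : Type*} [Group G] [Finite G]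

/-- the predicate defining the set `Ω` of pairs (cyclic subgroup of order `p^s`, centralising
element of order `m`) -/
def OmPred (p s m : ℕ) (P : Subgroup G × G) : Prop :=
  IsCyclic P.1 ∧ Nat.card P.1 = p ^ s ∧ orderOf P.2 = m ∧ ∀ u ∈ P.1, Commute u P.2

theorem card_pairs_eq (p s m : ℕ) (Q : Subgroup G × G → Prop) :
    Nat.card {t : G × G // (orderOf t.1 = p ^ s ∧ orderOf t.2 = m ∧ Commute t.1 t.2) ∧
        Q (Subgroup.zpowers t.1, t.2)} =
      (p ^ s).totient * Nat.card {P : Subgroup G × G // OmPred p s m P ∧ Q P} := by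
  classical
  haveI : Fintype {P : Subgroup G × G // OmPred p s m P ∧ Q P} := Fintype.ofFinite _
  let Φ : {t : G × G // (orderOf t.1 = p ^ s ∧ orderOf t.2 = m ∧ Commute t.1 t.2) ∧
        Q (Subgroup.zpowers t.1, t.2)} → {P : Subgroup G × G // OmPred p s m P ∧ Q P} :=
    fun t => ⟨(Subgroup.zpowers t.1.1, t.1.2), ⟨inferInstance, by
      show Nat.card (Subgroup.zpowers t.1.1) = p ^ s
      rw [Nat.card_zpowers]
      exact t.2.1.1, t.2.1.2.1, fun u hu => by
      obtain ⟨z, rfl⟩ := Subgroup.mem_zpowers_iff.mp hu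
      exact t.2.1.2.2.zpow_left z⟩, t.2.2⟩
  rw [← Nat.card_congr (Equiv.sigmaFiberEquiv Φ), Nat.card_sigma]
  have hfib : ∀ P : {P : Subgroup G × G // OmPred p s m P ∧ Q P},
      Nat.card {t // Φ t = P} = (p ^ s).totient := by
    intro P
    have hz : ∀ x : {x : ↥P.1.1 // orderOf x = p ^ s},
        Subgroup.zpowers ((x.1 : ↥P.1.1) : G) = P.1.1 := by
      intro x
      apply Subgroup.eq_of_le_of_card_ge (Subgroup.zpowers_le.mpr x.1.2)
      rw [Nat.card_zpowers, Subgroup.orderOf_coe, x.2, P.2.1.2.1]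
    have hcard : Nat.card {t // Φ t = P} = Nat.card {x : ↥P.1.1 // orderOf x = p ^ s} := by
      apply Nat.card_congr
      exact {
        toFun := fun t => ⟨⟨t.1.1.1, by
            have h0 : Subgroup.zpowers t.1.1.1 = P.1.1 := congrArg (fun R => R.1.1) t.2
            rw [← h0]
            exact Subgroup.mem_zpowers _⟩, by
            rw [← Subgroup.orderOf_coe]
            exact t.1.2.1.1⟩
        invFun := fun x => ⟨⟨(((x.1 : ↥P.1.1) : G), P.1.2), ⟨by
            rw [Subgroup.orderOf_coe]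
            exact x.2, P.2.1.2.2.1, P.2.1.2.2.2 _ x.1.2⟩, by
            show Q (Subgroup.zpowers ((x.1 : ↥P.1.1) : G), P.1.2)
            rw [hz x]
            exact P.2.2⟩, Subtype.ext (Prod.ext (hz x) rfl)⟩
        left_inv := fun t => by
          apply Subtype.ext
          apply Subtype.ext
          apply Prod.ext
          · rfl
          · have h0 : t.1.1.2 = P.1.2 := congrArg (fun R => R.1.2) t.2
            exact h0.symm
        right_inv := fun x => by
          apply Subtype.ext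
          apply Subtype.ext
          rfl }
    rw [hcard]
    haveI : IsCyclic ↥P.1.1 := P.2.1.1
    haveI : Fintype ↥P.1.1 := Fintype.ofFinite _
    have h1 := IsCyclic.card_orderOf_eq_totient (α := ↥P.1.1) (d := p ^ s) (by
      rw [← Nat.card_eq_fintype_card, P.2.1.2.1])
    rw [Nat.card_eq_fintype_card, Fintype.card_subtype]
    exact h1
  simp_rw [hfib]
  rw [Finset.sum_const, Finset.card_univ, smul_eq_mul, Nat.card_eq_fintype_card, mul_comm]

end Fib

section Action

variable {G : Type*} [Group G] [Finite G]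

/-- the set `Ω` as a type -/
def Om (G : Type*) [Group G] (p s m : ℕ) : Type _ := {P : Subgroup G × G // OmPred p s m P}

instance (p s m : ℕ) : Finite (Om G p s m) := by
  unfold Om
  infer_instance

theorem omPred_smul {p s m : ℕ} (e : G) {P : Subgroup G × G} (hP : OmPred p s m P) :
    OmPred p s m (MulAut.conj e • P.1, e * P.2 * e⁻¹) := by
  obtain ⟨h1, h2, h3, h4⟩ := hP
  refine ⟨?_, ?_, ?_, ?_⟩
  · exact (MulEquiv.isCyclic (Subgroup.equivSMul (MulAut.conj e) P.1)).mp h1
  · show Nat.card ↥(MulAut.conj e • P.1) = p ^ s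
    rw [← h2]
    exact Nat.card_congr (Subgroup.equivSMul (MulAut.conj e) P.1).toEquiv.symm
  · show orderOf (e * P.2 * e⁻¹) = m
    rw [← h3]
    exact (MulAut.conj e).orderOf_eq P.2
  · intro u hu
    obtain ⟨u₀, hu₀, rfl⟩ := (Subgroup.mem_smul_pointwise_iff_exists _ _ _).mp hu
    show Commute (MulAut.conj e • u₀) (e * P.2 * e⁻¹)
    rw [MulAut.smul_def, MulAut.conj_apply]
    exact (Commute.conj_iff e).mpr (h4 u₀ hu₀)

/-- the conjugation action of `E` on `Ω` -/
@[reducible] noncomputable def omAction (E : Subgroup G) (p s m : ℕ) : MulAction E (Om G p s m) where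
  smul e P := ⟨(MulAut.conj (e : G) • P.1.1, (e : G) * P.1.2 * (e : G)⁻¹), omPred_smul (e : G) P.2⟩
  one_smul P := by
    apply Subtype.ext
    apply Prod.ext
    · show MulAut.conj ((1 : E) : G) • P.1.1 = P.1.1
      rw [Subgroup.coe_one, map_one, one_smul]
    · show ((1 : E) : G) * P.1.2 * ((1 : E) : G)⁻¹ = P.1.2
      rw [Subgroup.coe_one]
      group
  mul_smul e₁ e₂ P := by
    apply Subtype.ext
    apply Prod.ext
    · show MulAut.conj ((e₁ * e₂ : E) : G) • P.1.1 =
        MulAut.conj (e₁ : G) • (MulAut.conj (e₂ : G) • P.1.1)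
      rw [Subgroup.coe_mul, map_mul, mul_smul]
    · show ((e₁ * e₂ : E) : G) * P.1.2 * ((e₁ * e₂ : E) : G)⁻¹ =
        (e₁ : G) * ((e₂ : G) * P.1.2 * (e₂ : G)⁻¹) * (e₁ : G)⁻¹
      rw [Subgroup.coe_mul]
      group

/-- the predicate cutting out the fixed points -/
def QFix (E : Subgroup G) (P : Subgroup G × G) : Prop :=
  (∀ e ∈ E, ∀ u ∈ P.1, e * u * e⁻¹ ∈ P.1) ∧ (∀ e ∈ E, e * P.2 * e⁻¹ = P.2)

theorem card_fixed (E : Subgroup G) (p s m : ℕ) :
    letI := omAction E p s m
    Nat.card (MulAction.fixedPoints E (Om G p s m)) =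
      Nat.card {P : Subgroup G × G // OmPred p s m P ∧ QFix E P} := by
  letI := omAction E p s m
  apply Nat.card_congr
  have hiff : ∀ P : Om G p s m, P ∈ MulAction.fixedPoints E (Om G p s m) ↔ QFix E P.1 := by
    intro P
    rw [MulAction.mem_fixedPoints]
    constructor
    · intro h
      constructor
      · intro e he u hu
        have h1 : (⟨e, he⟩ : E) • P = P := h ⟨e, he⟩
        have h2 : MulAut.conj e • P.1.1 = P.1.1 := congrArg (fun R : Om G p s m => R.1.1) h1
        have h3 := Subgroup.smul_mem_pointwise_smul u (MulAut.conj e) P.1.1 hu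
        rw [h2, MulAut.smul_def, MulAut.conj_apply] at h3
        exact h3
      · intro e he
        have h1 : (⟨e, he⟩ : E) • P = P := h ⟨e, he⟩
        exact congrArg (fun R : Om G p s m => R.1.2) h1
    · rintro ⟨h1, h2⟩ ⟨e, he⟩
      apply Subtype.ext
      apply Prod.ext
      · show MulAut.conj e • P.1.1 = P.1.1
        apply le_antisymm
        · intro u hu
          obtain ⟨u₀, hu₀, rfl⟩ := (Subgroup.mem_smul_pointwise_iff_exists _ _ _).mp hu
          rw [MulAut.smul_def, MulAut.conj_apply]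
          exact h1 e he u₀ hu₀
        · intro u hu
          rw [Subgroup.mem_pointwise_smul_iff_inv_smul_mem, MulAut.smul_def,
            MulAut.conj_inv_apply]
          have h3 := h1 e⁻¹ (E.inv_mem he) u hu
          rw [inv_inv] at h3
          exact h3
      · exact h2 e he
  exact {
    toFun := fun P => ⟨P.1.1, P.1.2, (hiff P.1).mp P.2⟩
    invFun := fun P => ⟨⟨P.1, P.2.1⟩, (hiff ⟨P.1, P.2.1⟩).mpr P.2.2⟩
    left_inv := fun P => rfl
    right_inv := fun P => rfl }

end Action

section Final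

variable {G : Type*} [Group G] [Finite G]

theorem dvd_card_T1 (p : ℕ) [hp : Fact p.Prime] (hodd : p ≠ 2) (s m : ℕ) (hs : 2 ≤ s)
    (E : Subgroup G) (hEp : ∀ e ∈ E, e ^ p = 1) (hEc : ∀ a ∈ E, ∀ b ∈ E, a * b = b * a)
    (hEcard : Nat.card E = p ^ 2) :
    p ^ s ∣ Nat.card {t : G × G // (orderOf t.1 = p ^ s ∧ orderOf t.2 = m ∧ Commute t.1 t.2) ∧
        QFix E (Subgroup.zpowers t.1, t.2)} := by
  classical
  haveI : Fintype (Subgroup G × G) := Fintype.ofFinite _
  let Ψ : {t : G × G // (orderOf t.1 = p ^ s ∧ orderOf t.2 = m ∧ Commute t.1 t.2) ∧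
        QFix E (Subgroup.zpowers t.1, t.2)} → Subgroup G × G :=
    fun t => (Subgroup.zpowers t.1.1 ⊔ E, t.1.2)
  rw [← Nat.card_congr (Equiv.sigmaFiberEquiv Ψ), Nat.card_sigma]
  apply Finset.dvd_sum
  intro v _
  by_cases hne : Nonempty {t // Ψ t = v}
  · obtain ⟨⟨t₀, ht₀⟩⟩ := hne
    have D : BData G p s E t₀.1.1 :=
      ⟨hs, hodd, hEp, hEc, hEcard, t₀.2.1.1,
        fun e he => t₀.2.2.1 e he _ (Subgroup.mem_zpowers _)⟩
    have hB : Subgroup.zpowers t₀.1.1 ⊔ E = v.1 := congrArg Prod.fst ht₀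
    have hy : t₀.1.2 = v.2 := congrArg Prod.snd ht₀
    have hcent : Subgroup.zpowers t₀.1.1 ⊔ E ≤ Subgroup.centralizer {t₀.1.2} := by
      apply sup_le
      · rw [Subgroup.zpowers_le, Subgroup.mem_centralizer_iff]
        intro h hh
        rw [Set.mem_singleton_iff] at hh
        rw [hh]
        exact (t₀.2.1.2.2.eq).symm
      · intro e he
        rw [Subgroup.mem_centralizer_iff]
        intro h hh
        rw [Set.mem_singleton_iff] at hh
        rw [hh]
        have h1 := t₀.2.2.2 e he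
        calc t₀.1.2 * e = (e * t₀.1.2 * e⁻¹) * e := by rw [h1]
          _ = e * t₀.1.2 := by group
    have hcard : Nat.card {t // Ψ t = v} =
        Nat.card {b : G // b ∈ Subgroup.zpowers t₀.1.1 ⊔ E ∧ orderOf b = p ^ s} := by
      apply Nat.card_congr
      exact {
        toFun := fun t => ⟨t.1.1.1, by
            have h0 : Subgroup.zpowers t.1.1.1 ⊔ E = v.1 := congrArg Prod.fst t.2
            rw [hB, ← h0]
            exact Subgroup.mem_sup_left (Subgroup.mem_zpowers _), t.1.2.1.1⟩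
        invFun := fun b => ⟨⟨(b.1, t₀.1.2), ⟨b.2.2, t₀.2.1.2.1, by
            have h0 := hcent b.2.1
            rw [Subgroup.mem_centralizer_iff] at h0
            exact (h0 _ rfl).symm⟩, ⟨by
            intro e he u hu
            obtain ⟨z, rfl⟩ := Subgroup.mem_zpowers_iff.mp hu
            show e * b.1 ^ z * e⁻¹ ∈ Subgroup.zpowers b.1
            rw [← conj_zpow]
            exact Subgroup.zpow_mem _ ((D.of_order b.2.1 b.2.2).1 e he) z, t₀.2.2.2⟩⟩,
            Prod.ext (by
              show Subgroup.zpowers b.1 ⊔ E = v.1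
              rw [(D.of_order b.2.1 b.2.2).2, hB]) hy⟩
        left_inv := fun t => by
          apply Subtype.ext
          apply Subtype.ext
          apply Prod.ext
          · rfl
          · have h0 : t.1.1.2 = v.2 := congrArg Prod.snd t.2
            show t₀.1.2 = t.1.1.2
            rw [h0, hy]
        right_inv := fun b => by
          apply Subtype.ext
          rfl }
    rw [hcard]
    exact D.dvd_card_order
  · rw [not_nonempty_iff] at hne
    rw [Nat.card_of_isEmpty]
    exact dvd_zero _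

theorem main (p : ℕ) [hp : Fact p.Prime] (hodd : p ≠ 2) (P : Sylow p G)
    (hP : ¬ IsCyclic ↥(P : Subgroup G)) (s m : ℕ) (hs : 1 < s) (hm : Nat.Coprime p m) :
    p ^ s ∣ Nat.card {g : G // orderOf g = p ^ s * m} := by
  classical
  have hp' := hp.out
  obtain ⟨E₀, -, hE₀card, hE₀p⟩ := exists_normal_elementary_sq (G := ↥(P : Subgroup G)) hodd
    P.isPGroup' hP
  have hinj : Function.Injective (P : Subgroup G).subtype := Subgroup.subtype_injective _
  have hEcard : Nat.card (E₀.map (P : Subgroup G).subtype) = p ^ 2 := by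
    rw [Subgroup.card_map_of_injective hinj, hE₀card]
  have hEp : ∀ e ∈ E₀.map (P : Subgroup G).subtype, e ^ p = 1 := by
    rintro _ ⟨e₀, he₀, rfl⟩
    rw [← map_pow, hE₀p e₀ he₀, map_one]
  have hEc : ∀ a ∈ E₀.map (P : Subgroup G).subtype, ∀ b ∈ E₀.map (P : Subgroup G).subtype,
      a * b = b * a := by
    intro a ha b hb
    have h1 := IsPGroup.commutative_of_card_eq_prime_sq hEcard ⟨a, ha⟩ ⟨b, hb⟩
    exact congrArg Subtype.val h1
  generalize E₀.map (P : Subgroup G).subtype = E at hEcard hEp hEc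
  have hm0 : 0 < m := by
    rcases Nat.eq_zero_or_pos m with h | h
    · rw [h, Nat.coprime_zero_right] at hm
      exact absurd hm hp'.one_lt.ne'
    · exact h
  have hps : 0 < p ^ s := pow_pos hp'.pos s
  rw [card_order_eq_card_pairs (p ^ s) m (Nat.Coprime.pow_left s hm) hps hm0]
  have e1 : Nat.card {t : G × G // orderOf t.1 = p ^ s ∧ orderOf t.2 = m ∧ Commute t.1 t.2} =
      Nat.card {t : G × G // (orderOf t.1 = p ^ s ∧ orderOf t.2 = m ∧ Commute t.1 t.2) ∧
        (fun _ : Subgroup G × G => True) (Subgroup.zpowers t.1, t.2)} :=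
    Nat.card_congr (Equiv.subtypeEquivRight (fun t => by simp))
  rw [e1, card_pairs_eq p s m (fun _ => True)]
  have e2 : Nat.card {P : Subgroup G × G // OmPred p s m P ∧ (fun _ : Subgroup G × G => True) P} =
      Nat.card (Om G p s m) :=
    Nat.card_congr (Equiv.subtypeEquivRight (fun t => by simp))
  rw [e2]
  letI := omAction E p s m
  have hEpg : IsPGroup p E := IsPGroup.of_card hEcard
  have hfix := hEpg.card_modEq_card_fixedPoints (Om G p s m)
  rw [card_fixed E p s m] at hfix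
  have hT1 := dvd_card_T1 p hodd s m hs E hEp hEc hEcard
  rw [card_pairs_eq p s m (QFix E)] at hT1
  have htot : (p ^ s).totient = p ^ (s - 1) * (p - 1) := Nat.totient_prime_pow hp' (by omega)
  rw [htot] at hT1 ⊢
  have hps' : p ^ s = p ^ (s - 1) * p := by
    rw [← pow_succ]
    congr 1
    omega
  rw [hps', mul_assoc] at hT1
  have h3 : p ∣ (p - 1) * Nat.card {P : Subgroup G × G // OmPred p s m P ∧ QFix E P} :=
    Nat.dvd_of_mul_dvd_mul_left (pow_pos hp'.pos _) hT1
  have h4 : p ∣ Nat.card {P : Subgroup G × G // OmPred p s m P ∧ QFix E P} := by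
    rcases (Nat.Prime.dvd_mul hp').mp h3 with h | h
    · exfalso
      have h5 : p ≤ p - 1 := Nat.le_of_dvd (by have := hp'.two_le; omega) h
      have := hp'.two_le
      omega
    · exact h
  have h5 : p ∣ Nat.card (Om G p s m) := by
    rw [Nat.dvd_iff_mod_eq_zero]
    have h6 := hfix
    unfold Nat.ModEq at h6
    rw [h6]
    exact Nat.dvd_iff_mod_eq_zero.mp h4
  obtain ⟨w, hw⟩ := h5
  rw [hps', hw]
  exact ⟨(p - 1) * w, by ring⟩

end Final

end Cfsg.Agent.Lib.Helper2.Mill
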