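import Mathlib
import Cfsg.Agent.Lib.Helper3.MinDegDefs
set_option autoImplicit false
set_option maxHeartbeats 4000000
set_option linter.unusedVariables false
set_option linter.unusedSectionVars false
set_option linter.style.longLine false
set_option linter.style.haveILetI false
open Matrix

/-!
S2140 unit E0 (first half): transfer of the index bound from the block index type
`Unit ⊕ Fin (n - 1)` to `Fin n` by reindexing.
-/

namespace Cfsg.Agent.Lib.Helper2.MinDeg

open Cfsg.Agent.Lib.Helper3.MinDeg

/-- reindexing the special linear group along an equivalence of index types -/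
def slReindex {m n : Type*} [DecidableEq m] [Fintype m] [DecidableEq n] [Fintype n]
    {R : Type*} [CommRing R] (e : m ≃ n) :
    Matrix.SpecialLinearGroup m R ≃* Matrix.SpecialLinearGroup n R where
  toFun A := ⟨Matrix.reindex e e (A : Matrix m m R), by
    rw [Matrix.det_reindex_self]; exact A.2⟩
  invFun A := ⟨Matrix.reindex e.symm e.symm (A : Matrix n n R), by
    rw [Matrix.det_reindex_self]; exact A.2⟩
  left_inv A := by
    apply Subtype.ext
    simp
  right_inv A := by
    apply Subtype.ext
    simp
  map_mul' A B := by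
    apply Subtype.ext
    change Matrix.reindex e e ((A * B : Matrix.SpecialLinearGroup m R) : Matrix m m R)
      = Matrix.reindex e e (A : Matrix m m R) * Matrix.reindex e e (B : Matrix m m R)
    rw [Matrix.SpecialLinearGroup.coe_mul, Matrix.reindex_apply, Matrix.reindex_apply,
      Matrix.reindex_apply, Matrix.submatrix_mul_equiv]

variable {F : Type*} [Field F]

/-- **E0 (first half)**, with the block statement as a hypothesis -/
theorem min_index_SL_of [Fintype F]
    (hmain : ∀ {k : ℕ}, 2 ≤ k → ¬ (k = 3 ∧ Fintype.card F = 2) →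
      ∀ H : Subgroup (Matrix.SpecialLinearGroup (Idx k) F), H ≠ ⊤ →
        (Fintype.card F ^ (k + 1) - 1) / (Fintype.card F - 1) ≤ H.index)
    (n : ℕ) (hn : 3 ≤ n) (hexc : ¬ (n = 4 ∧ Fintype.card F = 2))
    (H : Subgroup (Matrix.SpecialLinearGroup (Fin n) F)) (hH : H ≠ ⊤) :
    (Fintype.card F ^ n - 1) / (Fintype.card F - 1) ≤ H.index := by
  obtain ⟨k, rfl⟩ : ∃ k, n = k + 1 := ⟨n - 1, by omega⟩
  have hcard : Fintype.card (Fin (k + 1)) = Fintype.card (Idx k) := by
    simp [Idx, add_comm]
  let e : Fin (k + 1) ≃ Idx k := Fintype.equivOfCardEq hcard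
  let φ : Matrix.SpecialLinearGroup (Fin (k + 1)) F ≃* Matrix.SpecialLinearGroup (Idx k) F :=
    slReindex e
  have hidx : (H.map φ.toMonoidHom).index = H.index := Subgroup.index_map_equiv H φ
  have hne : H.map φ.toMonoidHom ≠ ⊤ := by
    intro h
    apply hH
    rw [← Subgroup.index_eq_one] at h ⊢
    rw [← hidx, h]
  have := hmain (k := k) (by omega) (fun h => hexc ⟨by omega, h.2⟩) (H.map φ.toMonoidHom) hne
  rwa [hidx] at this

end Cfsg.Agent.Lib.Helper2.MinDeg
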