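import Mathlib
import Cfsg.Agent.Lib.Helper3.MinDegDefs
import Cfsg.Agent.Lib.Helper2.MinDegE0a
import Cfsg.Agent.Lib.Helper4.MinDegE0b
set_option autoImplicit false
set_option maxHeartbeats 4000000
set_option linter.unusedVariables false
set_option linter.unusedSectionVars false
set_option linter.style.longLine false
set_option linter.style.haveILetI false
open Matrix

/-!
S2140, final transfer: from the block statement for `SL (Unit ⊕ Fin k)` to the statement for
`PSL (Fin n)`.
-/

namespace Cfsg.Agent.Lib.Helper2.MinDeg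

open Cfsg.Agent.Lib.Helper3.MinDeg

variable {F : Type*} [Field F]

/-- the index bound for `PSL` from the index bound for `SL` -/
theorem min_index_PSL_of [Fintype F]
    (hmain : ∀ {k : ℕ}, 2 ≤ k → ¬ (k = 3 ∧ Fintype.card F = 2) →
      ∀ H : Subgroup (Matrix.SpecialLinearGroup (Idx k) F), H ≠ ⊤ →
        (Fintype.card F ^ (k + 1) - 1) / (Fintype.card F - 1) ≤ H.index)
    (n : ℕ) (hn : 3 ≤ n) (hexc : ¬ (n = 4 ∧ Fintype.card F = 2))
    (H : Subgroup (Matrix.ProjectiveSpecialLinearGroup (Fin n) F)) (hH : H ≠ ⊤) :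
    (Fintype.card F ^ n - 1) / (Fintype.card F - 1) ≤ H.index := by
  have hsurj : Function.Surjective
      (QuotientGroup.mk' (Subgroup.center (Matrix.SpecialLinearGroup (Fin n) F))) :=
    QuotientGroup.mk'_surjective _
  have hidx : (H.comap (QuotientGroup.mk'
      (Subgroup.center (Matrix.SpecialLinearGroup (Fin n) F)))).index = H.index :=
    Subgroup.index_comap_of_surjective H hsurj
  have hne : H.comap (QuotientGroup.mk'
      (Subgroup.center (Matrix.SpecialLinearGroup (Fin n) F))) ≠ ⊤ := by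
    intro h
    apply hH
    rw [← Subgroup.index_eq_one] at h ⊢
    rw [← hidx, h]
  have := min_index_SL_of hmain n hn hexc _ hne
  rwa [hidx] at this

/-- **S2140** from the block statement -/
theorem final_of [Fintype F]
    (hmain : ∀ {k : ℕ}, 2 ≤ k → ¬ (k = 3 ∧ Fintype.card F = 2) →
      ∀ H : Subgroup (Matrix.SpecialLinearGroup (Idx k) F), H ≠ ⊤ →
        (Fintype.card F ^ (k + 1) - 1) / (Fintype.card F - 1) ≤ H.index)
    {q : ℕ} (hF : Fintype.card F = q) (n : ℕ) (hn : 3 ≤ n) (hexc : ¬ (n = 4 ∧ q = 2)) :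
    (∀ H : Subgroup (Matrix.ProjectiveSpecialLinearGroup (Fin n) F), H ≠ ⊤ →
      (q ^ n - 1) / (q - 1) ≤ H.index) ∧
    (∃ H : Subgroup (Matrix.ProjectiveSpecialLinearGroup (Fin n) F),
      H.index = (q ^ n - 1) / (q - 1)) := by
  subst hF
  exact ⟨fun H hH => min_index_PSL_of hmain n hn hexc H hH,
    Cfsg.Agent.Lib.Helper4.MinDeg.exists_index_PSL n (by omega)⟩

end Cfsg.Agent.Lib.Helper2.MinDeg
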