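import Mathlib
import Cfsg.Agent.Lib.Helper3.MinDegDefs
set_option autoImplicit false
set_option maxHeartbeats 4000000
set_option linter.unusedVariables false
set_option linter.unusedSectionVars false
set_option linter.style.longLine false
set_option linter.style.haveILetI false
open Matrix

/-!
S2140 unit U10: if `H` is transitive on the points of the projective space, the index of
`K_g = {r | g⁻¹ (qel r) g ∈ H}` in `F^k` does not depend on `g`.
-/

namespace Cfsg.Agent.Lib.Helper2.MinDeg

open Cfsg.Agent.Lib.Helper3.MinDeg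

variable {F : Type*} [Field F] {k : ℕ}

theorem h2_e0_ne : (e0 : Idx k → F) ≠ 0 := by
  intro h
  have := congrFun h (Sum.inl ())
  simp [e0] at this

/-- block form of a matrix fixing the line of `e0` -/
theorem h2_block_form (x : Matrix (Idx k) (Idx k) F) (a : F) (hx : x *ᵥ e0 = a • e0) :
    x = fromBlocks (a • (1 : Matrix Unit Unit F)) x.toBlocks₁₂ 0 x.toBlocks₂₂ := by
  have hcol : ∀ i, x i (Sum.inl ()) = (a • (e0 : Idx k → F)) i := by
    intro i
    rw [← hx]
    simp [e0]
  conv_lhs => rw [← fromBlocks_toBlocks x]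
  congr 1
  · ext i j
    simp only [toBlocks₁₁, of_apply, Matrix.smul_apply]
    rw [hcol]
    simp [e0]
  · ext i j
    simp only [toBlocks₂₁, of_apply, Matrix.zero_apply]
    rw [hcol]
    simp [e0]

/-- conjugating `qel r` by an element fixing the line of `e0` -/
theorem h2_qel_mul (x : Matrix.SpecialLinearGroup (Idx k) F) (a : F) (ha : a ≠ 0)
    (hx : (x : Matrix (Idx k) (Idx k) F) *ᵥ e0 = a • e0) (r : Fin k → F) :
    qel r * x = x * qel (a⁻¹ • (r ᵥ* (x : Matrix (Idx k) (Idx k) F).toBlocks₂₂)) := by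
  apply sl_ext
  rw [Matrix.SpecialLinearGroup.coe_mul, Matrix.SpecialLinearGroup.coe_mul, qel_coe, qel_coe]
  have hb := h2_block_form (x : Matrix (Idx k) (Idx k) F) a hx
  generalize (x : Matrix (Idx k) (Idx k) F) = X at hb ⊢
  generalize hA : X.toBlocks₂₂ = A at hb ⊢
  generalize hB : X.toBlocks₁₂ = B at hb ⊢
  rw [hb, fromBlocks_multiply, fromBlocks_multiply]
  congr 1
  · rw [Matrix.one_mul, Matrix.mul_zero, Matrix.mul_one, Matrix.mul_zero]
  · rw [Matrix.one_mul, Matrix.mul_one, ← replicateRow_vecMul, add_comm]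
    congr 1
    ext i j
    simp only [smul_smul, mul_inv_cancel₀ ha, Matrix.smul_mul, Matrix.one_mul, Matrix.smul_apply,
      replicateRow_apply, Pi.smul_apply, smul_eq_mul, one_mul]
    rw [← mul_assoc, mul_inv_cancel₀ ha, one_mul]
  · rw [Matrix.zero_mul, Matrix.mul_zero, Matrix.zero_mul, Matrix.mul_zero]
  · rw [Matrix.zero_mul, Matrix.one_mul, Matrix.zero_mul, Matrix.mul_one]

/-- the block `A` of an element `[[a, b],[0, A]]` of `SL` is invertible -/
theorem h2_det_block (x : Matrix.SpecialLinearGroup (Idx k) F) (a : F)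
    (hx : (x : Matrix (Idx k) (Idx k) F) *ᵥ e0 = a • e0) :
    a * (x : Matrix (Idx k) (Idx k) F).toBlocks₂₂.det = 1 := by
  have hb := h2_block_form (x : Matrix (Idx k) (Idx k) F) a hx
  have hdet := x.2
  rw [hb, det_fromBlocks_zero₂₁] at hdet
  simpa using hdet

/-- **U10** -/
theorem Kof_index_eq (H : Subgroup (Matrix.SpecialLinearGroup (Idx k) F))
    (htr : MulAction.IsPretransitive H (Projectivization F (Idx k → F)))
    (g : Matrix.SpecialLinearGroup (Idx k) F) : (Kof H g).index = (Kof H 1).index := by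
  have he0 : (e0 : Idx k → F) ≠ 0 := h2_e0_ne
  obtain ⟨h, hh⟩ := MulAction.exists_smul_eq H (Projectivization.mk F (e0 : Idx k → F) he0)
    (g⁻¹ • Projectivization.mk F (e0 : Idx k → F) he0)
  -- `x = g h` fixes the point
  have hxfix : (g * (h : Matrix.SpecialLinearGroup (Idx k) F)) •
      Projectivization.mk F (e0 : Idx k → F) he0 = Projectivization.mk F (e0 : Idx k → F) he0 := by
    rw [mul_smul]
    have : (h : Matrix.SpecialLinearGroup (Idx k) F) • Projectivization.mk F (e0 : Idx k → F) he0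
        = g⁻¹ • Projectivization.mk F (e0 : Idx k → F) he0 := hh
    rw [this, smul_smul, mul_inv_cancel, one_smul]
  set x : Matrix.SpecialLinearGroup (Idx k) F := g * (h : Matrix.SpecialLinearGroup (Idx k) F)
    with hxdef
  rw [Projectivization.smul_mk, Projectivization.mk_eq_mk_iff] at hxfix
  obtain ⟨a, ha⟩ := hxfix
  have hx : (x : Matrix (Idx k) (Idx k) F) *ᵥ e0 = (a : F) • e0 := by
    have : x • (e0 : Idx k → F) = (x : Matrix (Idx k) (Idx k) F) *ᵥ e0 := rfl
    rw [← this, ← ha]
    rfl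
  have ha0 : (a : F) ≠ 0 := a.ne_zero
  -- `Kof H g = Kof H x`
  have h1 : Kof H g = Kof H x := by
    ext r
    rw [mem_Kof, mem_Kof]
    have hg : g = x * (h : Matrix.SpecialLinearGroup (Idx k) F)⁻¹ := by
      rw [hxdef]; group
    have e : g⁻¹ * qel r * g
        = (h : Matrix.SpecialLinearGroup (Idx k) F) * (x⁻¹ * qel r * x)
          * (h : Matrix.SpecialLinearGroup (Idx k) F)⁻¹ := by
      rw [hg]; group
    rw [e]
    constructor
    · intro hm
      have := H.mul_mem (H.mul_mem (H.inv_mem h.2) hm) h.2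
      simpa [mul_assoc] using this
    · intro hm
      exact H.mul_mem (H.mul_mem h.2 hm) (H.inv_mem h.2)
  -- `Kof H x` is the preimage of `Kof H 1` under an additive automorphism
  set A : Matrix (Fin k) (Fin k) F := (x : Matrix (Idx k) (Idx k) F).toBlocks₂₂ with hA
  have hdet : (a : F) * A.det = 1 := h2_det_block x a hx
  have hAdet : A.det ≠ 0 := by
    intro h0
    rw [h0, mul_zero] at hdet
    exact zero_ne_one hdet
  let ψ : (Fin k → F) →+ (Fin k → F) :=
    { toFun := fun r => (a : F)⁻¹ • (r ᵥ* A)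
      map_zero' := by simp
      map_add' := fun r s => by rw [add_vecMul, smul_add] }
  have hψ : Function.Surjective ψ := by
    intro s
    refine ⟨((a : F) • s) ᵥ* A⁻¹, ?_⟩
    change (a : F)⁻¹ • ((((a : F) • s) ᵥ* A⁻¹) ᵥ* A) = s
    rw [vecMul_vecMul, Matrix.nonsing_inv_mul A (isUnit_iff_ne_zero.2 hAdet), vecMul_one,
      smul_smul, inv_mul_cancel₀ ha0, one_smul]
  have h2 : Kof H x = (Kof H 1).comap ψ := by
    ext r
    rw [AddSubgroup.mem_comap, mem_Kof, mem_Kof]
    have e : x⁻¹ * qel r * x = 1⁻¹ * qel (ψ r) * 1 := by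
      rw [mul_assoc, h2_qel_mul x a ha0 hx r]
      simp only [inv_one, one_mul, mul_one]
      rw [← mul_assoc, inv_mul_cancel, one_mul]
      rfl
    rw [e]
  rw [h1, h2, AddSubgroup.index_comap_of_surjective _ hψ]

end Cfsg.Agent.Lib.Helper2.MinDeg
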