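import Mathlib
import Cfsg.Agent.Lib.Helper5.NA8Defs
import Cfsg.Agent.Lib.Helper5.NA8U1
import Cfsg.Agent.Lib.Lead.UniqueP

/-! Farm NA8 (S4409), unit U2: an abelian 2-group without an abelian noncyclic subgroup of order 8
is cyclic or of order at most 4. -/

set_option autoImplicit false
set_option linter.style.haveILetI false

namespace Cfsg.Agent.Lib.Helper2.NA8

open Cfsg.Agent.Lib.Helper5.NA8

variable {G : Type*} [Group G]

/-- two commuting involutions `x ≠ 1`, `y ∉ ⟨x⟩` generate a noncyclic group of order 4. -/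
theorem four_group_of_involutions [Finite G] {x y : G} (hx2 : x ^ 2 = 1) (hy2 : y ^ 2 = 1)
    (hx1 : x ≠ 1) (hy : y ∉ Subgroup.zpowers x) (hxy : x * y = y * x) :
    Nat.card ↥(Subgroup.zpowers x ⊔ Subgroup.zpowers y : Subgroup G) = 4 ∧
      ¬ IsCyclic ↥(Subgroup.zpowers x ⊔ Subgroup.zpowers y : Subgroup G) ∧
      ∀ w ∈ (Subgroup.zpowers x ⊔ Subgroup.zpowers y : Subgroup G), w ^ 2 = 1 := by
  haveI : Fact (Nat.Prime 2) := ⟨Nat.prime_two⟩
  have hy1 : y ≠ 1 := fun h => hy (h ▸ Subgroup.one_mem _)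
  have ox : orderOf x = 2 := orderOf_eq_prime hx2 hx1
  have oy : orderOf y = 2 := orderOf_eq_prime hy2 hy1
  have cX : Nat.card ↥(Subgroup.zpowers x) = 2 := by rw [Nat.card_zpowers, ox]
  have cY : Nat.card ↥(Subgroup.zpowers y) = 2 := by rw [Nat.card_zpowers, oy]
  have hcomm : Subgroup.zpowers x ≤ Subgroup.centralizer (Subgroup.zpowers y : Set G) := by
    rw [Subgroup.zpowers_le, Subgroup.mem_centralizer_iff]
    intro g hg
    obtain ⟨k, rfl⟩ := Subgroup.mem_zpowers_iff.mp hg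
    have hc : Commute y x := hxy.symm
    exact (hc.zpow_left k).eq
  have hinf : (Subgroup.zpowers x ⊓ Subgroup.zpowers y : Subgroup G) = ⊥ := by
    have hd : Nat.card ↥(Subgroup.zpowers x ⊓ Subgroup.zpowers y : Subgroup G) ∣ 2 := by
      have := Subgroup.card_dvd_of_le
        (inf_le_right : Subgroup.zpowers x ⊓ Subgroup.zpowers y ≤ Subgroup.zpowers y)
      rwa [cY] at this
    rcases (Nat.dvd_prime Nat.prime_two).mp hd with h | h
    · exact Subgroup.card_eq_one.1 h
    · exfalso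
      have he : Subgroup.zpowers x ⊓ Subgroup.zpowers y = Subgroup.zpowers y :=
        Subgroup.eq_of_le_of_card_ge inf_le_right (by rw [h, cY])
      have hyy : y ∈ Subgroup.zpowers y := Subgroup.mem_zpowers y
      rw [← he] at hyy
      exact hy hyy.1
  have hcard : Nat.card ↥(Subgroup.zpowers x ⊔ Subgroup.zpowers y : Subgroup G) = 4 := by
    have h1 := Cfsg.Agent.Lib.Helper1.GlaubermanRepl.card_sup_mul_card_inf_of_le_normalizer
      (Subgroup.zpowers x) (Subgroup.zpowers y)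
      (hcomm.trans (Subgroup.centralizer_le_normalizer _))
    rw [hinf, Subgroup.card_bot, mul_one, cX, cY] at h1
    exact h1
  -- exponent 2
  have hexp : ∀ w ∈ (Subgroup.zpowers x ⊔ Subgroup.zpowers y : Subgroup G), w ^ 2 = 1 := by
    intro w hw
    have hn : Subgroup.zpowers y ≤ Subgroup.normalizer ((Subgroup.zpowers x : Subgroup G) : Set G) := by
      have h2 : Subgroup.zpowers y ≤ Subgroup.centralizer (Subgroup.zpowers x : Set G) :=
        Subgroup.le_centralizer_iff.mp hcomm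
      exact h2.trans (Subgroup.centralizer_le_normalizer _)
    have hmem : w ∈ ((Subgroup.zpowers x ⊔ Subgroup.zpowers y : Subgroup G) : Set G) := hw
    rw [Subgroup.coe_mul_of_right_le_normalizer_left _ _ hn] at hmem
    obtain ⟨a, ha, b, hb, rfl⟩ := hmem
    obtain ⟨i, rfl⟩ := Subgroup.mem_zpowers_iff.mp ha
    obtain ⟨j, rfl⟩ := Subgroup.mem_zpowers_iff.mp hb
    have hc : Commute (x ^ i) (y ^ j) := (Commute.zpow_zpow hxy i j)
    rw [hc.mul_pow, ← zpow_natCast, ← zpow_natCast, ← zpow_mul, ← zpow_mul, mul_comm i,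
      mul_comm j, zpow_mul, zpow_mul]
    simp only [Nat.cast_ofNat]
    rw [show x ^ (2 : ℤ) = 1 by exact_mod_cast hx2, show y ^ (2 : ℤ) = 1 by exact_mod_cast hy2]
    simp
  refine ⟨hcard, ?_, hexp⟩
  intro hcyc
  haveI := hcyc
  obtain ⟨g, hg⟩ := IsCyclic.exists_generator
    (α := ↥(Subgroup.zpowers x ⊔ Subgroup.zpowers y : Subgroup G))
  have hog : orderOf g = 4 := by
    rw [orderOf_eq_card_of_forall_mem_zpowers hg, hcard]
  have hg2 : g ^ 2 = 1 := by
    apply Subtype.ext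
    rw [Subgroup.coe_pow, Subgroup.coe_one]
    exact hexp g g.2
  have := orderOf_dvd_of_pow_eq_one hg2
  rw [hog] at this
  omega

/-- U2 (L0c): an abelian 2-group without CalA is cyclic or of order at most 4. -/
theorem U2_cyclic_or_card_le_four [Finite G] {B : Subgroup G} (hB : IsPGroup 2 ↥B)
    (hBc : IsMulCommutative ↥B) (hA : ¬ CalA B) : IsCyclic ↥B ∨ Nat.card ↥B ≤ 4 := by
  haveI : Fact (Nat.Prime 2) := ⟨Nat.prime_two⟩
  by_contra hcon
  push Not at hcon
  obtain ⟨hnc, h4⟩ := hcon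
  have hnu : ¬ Cfsg.Agent.Lib.Lead.UniqueP.UOP 2 ↥B := by
    intro hu
    letI : CommGroup ↥B :=
      { (inferInstance : Group ↥B) with mul_comm := fun a b => hBc.is_comm.comm a b }
    exact hnc (Cfsg.Agent.Lib.Lead.UniqueP.isCyclic_of_comm 2 hB hu)
  unfold Cfsg.Agent.Lib.Lead.UniqueP.UOP at hnu
  push Not at hnu
  obtain ⟨x, y, hx2, hy2, hx1, hy⟩ := hnu
  have hBcomm : ∀ a ∈ B, ∀ b ∈ B, a * b = b * a := by
    intro a ha b hb
    have := hBc.is_comm.comm (⟨a, ha⟩ : ↥B) ⟨b, hb⟩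
    exact congrArg Subtype.val this
  have hx2' : (x : G) ^ 2 = 1 := by
    have := congrArg Subtype.val hx2
    rwa [Subgroup.coe_pow] at this
  have hy2' : (y : G) ^ 2 = 1 := by
    have := congrArg Subtype.val hy2
    rwa [Subgroup.coe_pow] at this
  have hx1' : (x : G) ≠ 1 := fun h => hx1 (Subtype.ext h)
  have hy' : (y : G) ∉ Subgroup.zpowers (x : G) := by
    intro h
    apply hy
    obtain ⟨k, hk⟩ := Subgroup.mem_zpowers_iff.mp h
    rw [Subgroup.mem_zpowers_iff]
    exact ⟨k, Subtype.ext (by rw [Subgroup.coe_zpow]; exact hk)⟩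
  obtain ⟨hW4, hWnc, -⟩ := four_group_of_involutions hx2' hy2' hx1' hy' (hBcomm x x.2 y y.2)
  set W : Subgroup G := Subgroup.zpowers (x : G) ⊔ Subgroup.zpowers (y : G) with hWdef
  have hWB : W ≤ B := by
    apply sup_le
    · rw [Subgroup.zpowers_le]; exact x.2
    · rw [Subgroup.zpowers_le]; exact y.2
  have hlt : W < B := by
    refine lt_of_le_of_ne hWB ?_
    intro h
    rw [← h, hW4] at h4
    omega
  obtain ⟨z, hzB, hzW⟩ := SetLike.exists_of_lt hlt
  have hzc : z ∈ Subgroup.centralizer (W : Set G) := by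
    rw [Subgroup.mem_centralizer_iff]
    intro w hw
    exact hBcomm w (hWB hw) z hzB
  have hz2 : ∃ n : ℕ, z ^ 2 ^ n = 1 := by
    obtain ⟨k, hk⟩ := hB ⟨z, hzB⟩
    refine ⟨k, ?_⟩
    have := congrArg Subtype.val hk
    rwa [Subgroup.coe_pow] at this
  exact hA (calA_of_four_group hW4 hWnc hWB hzB hzW hzc hz2)

end Cfsg.Agent.Lib.Helper2.NA8
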