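import Mathlib
import Cfsg.Prelude.Def_Transfer
import Cfsg.Agent.Lib.Helper5.NA8Defs
import Cfsg.Agent.Lib.Helper5.NA8U3
import Cfsg.Agent.Lib.Helper2.NA8U2
import Cfsg.Agent.Lib.Helper1.Special
import Cfsg.Agent.Lib.Helper1.SpecialCoprime1
import Cfsg.Agent.Lib.Helper1.SpecialCoprime2
import Cfsg.Agent.Lib.Helper1.FrattiniP
import Cfsg.Agent.Lib.Helper1.CoprimeSylow
import Cfsg.Agent.Lib.Helper7.ConjK
import Cfsg.Agent.Lib.Helper7.PGroupComm

/-! Farm NA8 (S4409), unit U6: the special core. -/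

set_option autoImplicit false
set_option linter.style.haveILetI false

open scoped commutatorElement

namespace Cfsg.Agent.Lib.Helper2.NA8

open Cfsg.Agent.Lib.Helper5.NA8

variable {G : Type*} [Group G]

theorem isMulCommutative_map_subtype {X : Subgroup G} {M : Subgroup ↥X}
    (h : IsMulCommutative ↥M) : IsMulCommutative ↥(M.map X.subtype) := by
  refine ⟨⟨?_⟩⟩
  rintro ⟨_, ⟨a, ha, rfl⟩⟩ ⟨_, ⟨b, hb, rfl⟩⟩
  apply Subtype.ext
  have := h.is_comm.comm (⟨a, ha⟩ : ↥M) ⟨b, hb⟩
  have h2 := congrArg (fun z : ↥M => ((z : ↥X) : G)) this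
  exact h2

theorem card_map_subtype {X : Subgroup G} (M : Subgroup ↥X) :
    Nat.card ↥(M.map X.subtype) = Nat.card ↥M :=
  (Nat.card_congr (M.equivMapOfInjective X.subtype (Subgroup.subtype_injective X)).toEquiv).symm

/-- U6 (special core; shared by F1(ii) and STEP 2 CASE Q = X). -/
theorem U6_special_core [Finite G] {X K : Subgroup G} (hX : IsPGroup 2 ↥X) (hK : Odd (Nat.card ↥K))
    (hKX : K ≤ Subgroup.normalizer (X : Set G)) (hXK : ⁅X, K⁆ = X) (hna : ¬ IsMulCommutative ↥X)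
    (hstar : ∀ Y : Subgroup G, Y ≤ X → Y ≠ X → K ≤ Subgroup.normalizer (Y : Set G) → ¬ CalA Y)
    (hF : ∀ Y : Subgroup G, Y ≤ X → Y ≠ X → K ≤ Subgroup.normalizer (Y : Set G) →
      ¬ K ≤ Subgroup.centralizer (Y : Set G) → SmallType Y) :
    Cfsg.IsSpecial 2 ↥X ∧ (Nat.card ↥(Subgroup.center ↥X) = 2 ∨ Nat.card ↥(Subgroup.center ↥X) = 4) := by
  haveI : Fact (Nat.Prime 2) := ⟨Nat.prime_two⟩
  haveI hXnil : Group.IsNilpotent ↥X := hX.isNilpotent
  set ψ : ↥K →* MulAut ↥X :=
    (Cfsg.Agent.Lib.Helper7.conjKHom X).comp (Subgroup.inclusion hKX) with hψdef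
  have hψ : ∀ (k : ↥K) (x : ↥X), ((ψ k x : ↥X) : G) = (k : G) * x * (k : G)⁻¹ := fun _ _ => rfl
  set A : Subgroup (MulAut ↥X) := ψ.range with hAdef
  have hAcop : (Nat.card ↥A).Coprime 2 := by
    have hd : Nat.card ↥A ∣ Nat.card ↥K := Subgroup.card_range_dvd ψ
    have h2 : (Nat.card ↥K).Coprime 2 := (Nat.coprime_two_left.2 hK).symm
    exact Nat.Coprime.coprime_dvd_left hd h2
  -- `[X, A] = X`
  have hGA : Subgroup.closure {x : ↥X | ∃ g : ↥X, ∃ a ∈ A, x = g⁻¹ * a g} = ⊤ := by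
    rw [eq_top_iff]
    intro y _
    have hy : (y : G) ∈ ⁅X, K⁆ := by rw [hXK]; exact y.2
    have hle : ⁅X, K⁆ ≤
        (Subgroup.closure {x : ↥X | ∃ g : ↥X, ∃ a ∈ A, x = g⁻¹ * a g}).map X.subtype := by
      rw [Subgroup.commutator_le]
      intro x hx k hk
      refine ⟨((⟨x, hx⟩ : ↥X)⁻¹)⁻¹ * ψ ⟨k, hk⟩ ((⟨x, hx⟩ : ↥X)⁻¹),
        Subgroup.subset_closure ⟨(⟨x, hx⟩ : ↥X)⁻¹, ψ ⟨k, hk⟩, ⟨⟨k, hk⟩, rfl⟩, rfl⟩, ?_⟩
      show ((((⟨x, hx⟩ : ↥X)⁻¹)⁻¹ * ψ ⟨k, hk⟩ ((⟨x, hx⟩ : ↥X)⁻¹) : ↥X) : G) = ⁅x, k⁆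
      rw [Subgroup.coe_mul, hψ, commutatorElement_def]
      simp only [inv_inv, Subgroup.coe_inv]
      group
    obtain ⟨s, hs, hsy⟩ := hle hy
    have : s = y := Subtype.ext hsy
    rw [← this]
    exact hs
  -- characteristic subgroups are `K`-invariant
  have hinv : ∀ M : Subgroup ↥X, M.Characteristic →
      K ≤ Subgroup.normalizer ((M.map X.subtype : Subgroup G) : Set G) := by
    intro M hM
    apply Cfsg.Agent.Lib.Helper1.le_normalizer_of_conj_mem
    rintro k hk _ ⟨m, hm, rfl⟩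
    have h1 : ψ ⟨k, hk⟩ m ∈ M := by
      have := (Subgroup.characteristic_iff_map_eq.1 hM) (ψ ⟨k, hk⟩)
      rw [← this]
      exact ⟨m, hm, rfl⟩
    exact ⟨ψ ⟨k, hk⟩ m, h1, rfl⟩
  have hsubX : ∀ M : Subgroup ↥X, M.map X.subtype ≤ X := by
    intro M
    rintro _ ⟨m, -, rfl⟩
    exact m.2
  -- an abelian characteristic subgroup on which `K` acts nontrivially is an irreducible four-group
  have hfour : ∀ M : Subgroup ↥X, M.Characteristic → IsMulCommutative ↥M →
      ¬ (∀ a ∈ A, ∀ m ∈ M, a m = m) →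
      Nat.card ↥(M.map X.subtype) = 4 ∧ ⁅M.map X.subtype, K⁆ ≠ ⊥ := by
    intro M hM hMab hfix
    push Not at hfix
    obtain ⟨a, ⟨k, rfl⟩, m, hm, hne⟩ := hfix
    have hM'ab : IsMulCommutative ↥(M.map X.subtype) := isMulCommutative_map_subtype hMab
    have hM'ne : M.map X.subtype ≠ X := by
      intro h
      apply hna
      rw [← h]
      exact hM'ab
    have hnc : ¬ K ≤ Subgroup.centralizer ((M.map X.subtype : Subgroup G) : Set G) := by
      intro hcen
      apply hne
      apply Subtype.ext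
      rw [hψ]
      have h1 : (m : G) ∈ M.map X.subtype := ⟨m, hm, rfl⟩
      have h2 := Subgroup.mem_centralizer_iff.1 (hcen k.2) _ h1
      rw [← h2, mul_inv_cancel_right]
    have hsm := hF _ (hsubX M) hM'ne (hinv M hM) hnc
    constructor
    · rcases hsm with h | h
      · exact h.1
      · exact absurd hM'ab h.2
    · intro h
      apply hnc
      rw [Subgroup.commutator_comm, Subgroup.commutator_eq_bot_iff_le_centralizer] at h
      exact h
  -- Claim A
  have hc : ∀ M : Subgroup ↥X, M.Characteristic → IsMulCommutative ↥M →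
      M ≤ Subgroup.center ↥X := by
    intro M hM hMab
    by_cases hfix : ∀ a ∈ A, ∀ m ∈ M, a m = m
    · haveI : M.Normal := inferInstance
      exact Cfsg.Agent.Lib.Helper1.SpecialCoprime.le_center_of_fixed A hGA M hfix
    · obtain ⟨hM4, hMK⟩ := hfour M hM hMab hfix
      have hM'X := hsubX M
      have hKM' := hinv M hM
      have hXM' : X ≤ Subgroup.normalizer ((M.map X.subtype : Subgroup G) : Set G) := by
        haveI hMn : M.Normal := inferInstance
        apply Cfsg.Agent.Lib.Helper1.le_normalizer_of_conj_mem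
        rintro x hx _ ⟨m, hm, rfl⟩
        exact ⟨⟨x, hx⟩ * m * (⟨x, hx⟩ : ↥X)⁻¹, hMn.conj_mem m hm ⟨x, hx⟩, rfl⟩
      have hUM' : ⁅M.map X.subtype, X⁆ ≤ M.map X.subtype :=
        Subgroup.le_normalizer_iff_commutator_le_left.mp hXM'
      have hKU : K ≤ Subgroup.normalizer ((⁅M.map X.subtype, X⁆ : Subgroup G) : Set G) :=
        Cfsg.Agent.Lib.Helper7.le_normalizer_commutator hKM' hKX
      have hM'bot : M.map X.subtype ≠ ⊥ := by
        intro h
        rw [h, Subgroup.card_bot] at hM4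
        omega
      have hlt : ⁅M.map X.subtype, X⁆ < M.map X.subtype :=
        Cfsg.Agent.Lib.Helper7.commutator_lt_of_isPGroup _ X hX hM'X hXM' hM'bot
      rcases irr_four hM4 hK hKM' hMK hUM' hKU with h | h
      · intro m hm
        rw [Subgroup.mem_center_iff]
        intro x
        have h1 : M.map X.subtype ≤ Subgroup.centralizer (X : Set G) :=
          (Subgroup.commutator_eq_bot_iff_le_centralizer).1 h
        have h2 := Subgroup.mem_centralizer_iff.1 (h1 ⟨m, hm, rfl⟩) x x.2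
        exact Subtype.ext h2
      · exact absurd h hlt.ne
  have hcl : commutator ↥X ≤ Subgroup.center ↥X :=
    Cfsg.Agent.Lib.Helper1.SpecialCoprime.commutator_le_center_of_char_abelian_central hc
  have hpow : ∀ x : ↥X, x ^ 2 ∈ Subgroup.center ↥X := fun x =>
    Cfsg.Agent.Lib.Helper1.SpecialCoprime.pow_mem_center hX hc hcl x
  have hfr : frattini ↥X ≤ Subgroup.center ↥X :=
    Cfsg.Agent.Lib.Helper1.frattini_le_of_elementary_quotient 2 _ hcl hpow
  -- `X' ≠ 1`
  have hcomm_ne : commutator ↥X ≠ ⊥ := by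
    intro h
    apply hna
    refine ⟨⟨?_⟩⟩
    intro a b
    have h1 : ⁅a, b⁆ ∈ commutator ↥X := by
      rw [commutator_def]
      exact Subgroup.commutator_mem_commutator (Subgroup.mem_top a) (Subgroup.mem_top b)
    rw [h, Subgroup.mem_bot] at h1
    exact commutatorElement_eq_one_iff_mul_comm.mp h1
  -- Claim B
  have hZle : Subgroup.center ↥X ≤ commutator ↥X := by
    by_cases hfix : ∀ a ∈ A, ∀ z ∈ Subgroup.center ↥X, a z = z
    · intro z hz
      exact Cfsg.Agent.Lib.Helper1.SpecialCoprime.fixed_mem_commutator hX A hAcop hGA z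
        (fun a ha => hfix a ha z hz)
    · obtain ⟨hZ4, hZK⟩ := hfour (Subgroup.center ↥X) inferInstance inferInstance hfix
      have hKZ := hinv (Subgroup.center ↥X) inferInstance
      have hKC := hinv (commutator ↥X) inferInstance
      have hCZ : (commutator ↥X).map X.subtype ≤ (Subgroup.center ↥X).map X.subtype :=
        Subgroup.map_mono hcl
      rcases irr_four hZ4 hK hKZ hZK hCZ hKC with h | h
      · exfalso
        apply hcomm_ne
        rw [eq_bot_iff]
        intro c hc'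
        have h1 : (c : G) ∈ (commutator ↥X).map X.subtype := ⟨c, hc', rfl⟩
        rw [h, Subgroup.mem_bot] at h1
        rw [Subgroup.mem_bot]
        exact Subtype.ext h1
      · intro z hz
        have h1 : (z : G) ∈ (Subgroup.center ↥X).map X.subtype := ⟨z, hz, rfl⟩
        rw [← h] at h1
        obtain ⟨c, hc', hcz⟩ := h1
        have : c = z := Subtype.ext hcz
        rw [← this]
        exact hc'
  have hsp : Cfsg.IsSpecial 2 ↥X :=
    ⟨hX, le_antisymm hfr (hZle.trans
      (Cfsg.Agent.Lib.Helper1.commutator_le_frattini_of_isPGroup 2 hX)), le_antisymm hcl hZle⟩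
  refine ⟨hsp, ?_⟩
  -- Claim C
  set Z' : Subgroup G := (Subgroup.center ↥X).map X.subtype with hZ'
  have hcardZ : Nat.card ↥Z' = Nat.card ↥(Subgroup.center ↥X) := card_map_subtype _
  have hZ'ab : IsMulCommutative ↥Z' := isMulCommutative_map_subtype inferInstance
  have hZ'ne : Z' ≠ X := by
    intro h
    apply hna
    rw [← h]
    exact hZ'ab
  have hZ'2 : IsPGroup 2 ↥Z' := by
    obtain ⟨n, hn⟩ := IsPGroup.iff_card.1 (hX.to_subgroup (Subgroup.center ↥X))
    exact IsPGroup.of_card (n := n) (by rw [hcardZ, hn])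
  have hnA : ¬ CalA Z' := hstar Z' (hsubX _) hZ'ne (hinv _ inferInstance)
  have hexp : ∀ z ∈ Z', z ^ 2 = 1 := by
    rintro _ ⟨z, hz, rfl⟩
    have := Cfsg.Agent.Lib.Helper1.special_center_pow hsp z hz
    have h2 := congrArg (fun y : ↥X => (y : G)) this
    simpa using h2
  have hZ'bot : Z' ≠ ⊥ := by
    intro h
    apply hcomm_ne
    rw [eq_bot_iff]
    intro c hc'
    have h1 : (c : G) ∈ Z' := ⟨c, hcl hc', rfl⟩
    rw [h, Subgroup.mem_bot] at h1
    rw [Subgroup.mem_bot]
    exact Subtype.ext h1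
  have h1lt : 1 < Nat.card ↥Z' := (Subgroup.one_lt_card_iff_ne_bot _).2 hZ'bot
  obtain ⟨j, hj⟩ := IsPGroup.iff_card.1 hZ'2
  rw [← hcardZ]
  rcases U2_cyclic_or_card_le_four hZ'2 hZ'ab hnA with hcyc | hle
  · left
    haveI := hcyc
    obtain ⟨g, hg⟩ := IsCyclic.exists_generator (α := ↥Z')
    have hog : orderOf g = Nat.card ↥Z' := orderOf_eq_card_of_forall_mem_zpowers hg
    have hg2 : g ^ 2 = 1 := by
      apply Subtype.ext
      rw [Subgroup.coe_pow, Subgroup.coe_one]
      exact hexp g g.2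
    have h2 := Nat.le_of_dvd (by norm_num) (orderOf_dvd_of_pow_eq_one hg2)
    omega
  · have hj2 : j ≤ 2 := by
      by_contra hcon
      push Not at hcon
      have : 2 ^ 3 ≤ 2 ^ j := Nat.pow_le_pow_right (by norm_num) hcon
      omega
    have hj0 : j ≠ 0 := by
      intro h0
      rw [h0, pow_zero] at hj
      omega
    have hj12 : j = 1 ∨ j = 2 := by omega
    rcases hj12 with h1 | h2
    · left
      rw [hj, h1]
      norm_num
    · right
      rw [hj, h2]
      norm_num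

end Cfsg.Agent.Lib.Helper2.NA8
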