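import Mathlib
import Cfsg.Prelude.Def_Transfer
import Cfsg.Agent.Lib.Helper5.NA8Defs
import Cfsg.Agent.Lib.Helper5.NA8U1
import Cfsg.Agent.Lib.Helper2.NA8U2
import Cfsg.Agent.Lib.Helper1.Special
import Cfsg.Agent.Lib.Helper1.FrattiniP
import Cfsg.Agent.Lib.Helper1.ExtraspecialOrder

/-! Farm NA8 (S4409), units U7 and U7': extraspecial 2-groups of order at least 16 and special
2-groups with centre of order 4 contain an abelian noncyclic subgroup of order 8. -/

set_option autoImplicit false
set_option linter.style.haveILetI false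

open scoped commutatorElement

namespace Cfsg.Agent.Lib.Helper2.NA8

open Cfsg.Agent.Lib.Helper5.NA8

variable {G : Type*} [Group G]

/-- transfer of `CalA` from the subgroup type to the ambient group. -/
theorem calA_of_calA_top {Y : Subgroup G} (h : CalA (⊤ : Subgroup ↥Y)) : CalA Y := by
  obtain ⟨A, -, h1, h2, h3⟩ := h
  have e : ↥A ≃* ↥(A.map Y.subtype) := A.equivMapOfInjective Y.subtype (Subgroup.subtype_injective Y)
  refine ⟨A.map Y.subtype, ?_, ?_, ?_, ?_⟩
  · rintro _ ⟨a, -, rfl⟩
    exact a.2
  · refine ⟨⟨?_⟩⟩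
    intro a b
    have := h1.is_comm.comm (e.symm a) (e.symm b)
    have h4 := congrArg e this
    rwa [map_mul, map_mul, e.apply_symm_apply, e.apply_symm_apply] at h4
  · intro hc
    haveI := hc
    exact h2 (isCyclic_of_surjective e.symm.toMonoidHom e.symm.surjective)
  · rw [← h3]
    exact (Nat.card_congr e.toEquiv).symm

theorem two_mul_card_le_of_lt [Finite G] {H K : Subgroup G} (h : H < K) :
    2 * Nat.card ↥H ≤ Nat.card ↥K := by
  have h1 : Nat.card ↥H * H.relIndex K = Nat.card ↥K := by
    have := Subgroup.relIndex_mul_relIndex ⊥ H K bot_le h.le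
    rw [Subgroup.relIndex_bot_left, Subgroup.relIndex_bot_left] at this
    exact this
  have h2 : H.relIndex K ≠ 1 := by
    intro h3
    rw [Subgroup.relIndex_eq_one] at h3
    exact h.not_ge h3
  have h3 : H.relIndex K ≠ 0 := by
    intro h0
    rw [h0, mul_zero] at h1
    have : 0 < Nat.card ↥K := Nat.card_pos
    omega
  have h4 : 2 ≤ H.relIndex K := by omega
  calc 2 * Nat.card ↥H = Nat.card ↥H * 2 := by ring
    _ ≤ Nat.card ↥H * H.relIndex K := Nat.mul_le_mul_left _ h4
    _ = Nat.card ↥K := h1

theorem isMulCommutative_closure {S : Set G} (h : ∀ a ∈ S, ∀ b ∈ S, a * b = b * a) :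
    IsMulCommutative ↥(Subgroup.closure S) := by
  exact Subgroup.isMulCommutative_closure h

/-- U7': a special 2-group with centre of order 4 has CalA. -/
theorem U7'_calA_of_special_center_four [Finite G] {Y : Subgroup G} (hY : Cfsg.IsSpecial 2 ↥Y)
    (h4 : Nat.card ↥(Subgroup.center ↥Y) = 4) : CalA Y := by
  haveI : Fact (Nat.Prime 2) := ⟨Nat.prime_two⟩
  apply calA_of_calA_top
  set Z : Subgroup ↥Y := Subgroup.center ↥Y with hZ
  have hZnc : ¬ IsCyclic ↥Z := by
    intro hc
    haveI := hc
    obtain ⟨g, hg⟩ := IsCyclic.exists_generator (α := ↥Z)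
    have hog : orderOf g = 4 := by
      rw [orderOf_eq_card_of_forall_mem_zpowers hg, h4]
    have hg2 : g ^ 2 = 1 := by
      apply Subtype.ext
      rw [Subgroup.coe_pow, Subgroup.coe_one]
      exact Cfsg.Agent.Lib.Helper1.special_center_pow hY g g.2
    have := orderOf_dvd_of_pow_eq_one hg2
    rw [hog] at this
    omega
  have hne : Z ≠ ⊤ := by
    intro htop
    have hcomm : commutator ↥Y = ⊥ := by
      rw [commutator_def, Subgroup.commutator_eq_bot_iff_le_centralizer]
      intro a _
      rw [Subgroup.mem_centralizer_iff]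
      intro b _
      have hb : b ∈ Z := by rw [htop]; exact Subgroup.mem_top _
      exact (Subgroup.mem_center_iff.mp hb a).symm
    have h5 : Nat.card ↥(commutator ↥Y) = 4 := by rw [hY.2.2]; exact h4
    rw [hcomm, Subgroup.card_bot] at h5
    omega
  obtain ⟨y, -, hyZ⟩ := SetLike.exists_of_lt (lt_top_iff_ne_top.2 hne)
  have hyc : y ∈ Subgroup.centralizer (Z : Set ↥Y) := by
    rw [Subgroup.mem_centralizer_iff]
    intro z hz
    exact (Subgroup.mem_center_iff.mp hz y).symm
  have hy2 : ∃ n : ℕ, y ^ 2 ^ n = 1 := hY.1 y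
  exact calA_of_four_group h4 hZnc le_top (Subgroup.mem_top y) hyZ hyc hy2

/-- U7: an extraspecial 2-group of order at least 16 (hence 32) has CalA. -/
theorem U7_calA_of_extraspecial [Finite G] {Y : Subgroup G} (hY : Cfsg.IsExtraspecial 2 ↥Y)
    (h16 : 16 ≤ Nat.card ↥Y) : CalA Y := by
  haveI : Fact (Nat.Prime 2) := ⟨Nat.prime_two⟩
  apply calA_of_calA_top
  obtain ⟨⟨hP2, hfrat, hcomm⟩, hZcard⟩ := hY
  set Z : Subgroup ↥Y := Subgroup.center ↥Y with hZ
  have hZc : ∀ a b : ↥Y, ⁅a, b⁆ ∈ Z := by
    intro a b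
    rw [← hcomm, commutator_def]
    exact Subgroup.commutator_mem_commutator (Subgroup.mem_top a) (Subgroup.mem_top b)
  -- squares lie in `Z`, fourth powers are trivial
  have hsq : ∀ a : ↥Y, a ^ 2 ∈ Z := by
    intro a
    rw [← hfrat]
    exact Cfsg.Agent.Lib.Helper1.pow_prime_mem_frattini_of_isPGroup 2 hP2 a
  have hZ2 : ∀ z ∈ Z, z ^ 2 = 1 := by
    intro z hz
    have h1 : (⟨z, hz⟩ : ↥Z) ^ Nat.card ↥Z = 1 := pow_card_eq_one'
    rw [hZcard] at h1
    have := congrArg Subtype.val h1
    rwa [Subgroup.coe_pow] at this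
  have hfour : ∀ a : ↥Y, a ^ 4 = 1 := by
    intro a
    have := hZ2 _ (hsq a)
    rwa [← pow_mul] at this
  -- a noncentral element
  have hne : Z ≠ ⊤ := by
    intro htop
    have : Nat.card ↥Z = Nat.card ↥Y := by rw [htop]; exact Subgroup.card_top
    omega
  obtain ⟨x, -, hxZ⟩ := SetLike.exists_of_lt (lt_top_iff_ne_top.2 hne)
  obtain ⟨g, hg⟩ : ∃ g : ↥Y, ⁅g, x⁆ ≠ 1 := by
    by_contra hcon
    push Not at hcon
    apply hxZ
    rw [Subgroup.mem_center_iff]
    intro g
    exact commutatorElement_eq_one_iff_mul_comm.mp (hcon g)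
  set C : Subgroup ↥Y := Subgroup.centralizer {x} with hC
  have hCidx : C.index = 2 := by
    have := Cfsg.Agent.Lib.Helper1.relIndex_inf_centralizer_singleton Z hZcard le_rfl hZc
      ⊤ x g (Subgroup.mem_top g) hg
    rwa [top_inf_eq, Subgroup.relIndex_top_right] at this
  have hC8 : 8 ≤ Nat.card ↥C := by
    have := C.card_mul_index
    rw [hCidx] at this
    omega
  -- `T = ⟨Z, x⟩`
  set S₁ : Set ↥Y := (Z : Set ↥Y) ∪ {x} with hS₁
  have hS₁comm : ∀ a ∈ S₁, ∀ b ∈ S₁, a * b = b * a := by
    intro a ha b hb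
    rcases ha with ha | ha
    · exact (Subgroup.mem_center_iff.mp ha b).symm
    · rcases hb with hb | hb
      · exact Subgroup.mem_center_iff.mp hb a
      · rw [Set.mem_singleton_iff.mp ha, Set.mem_singleton_iff.mp hb]
  set T : Subgroup ↥Y := Subgroup.closure S₁ with hT
  have hZT : Z < T := by
    refine lt_of_le_of_ne ?_ ?_
    · intro z hz
      exact Subgroup.subset_closure (Or.inl hz)
    · intro h
      apply hxZ
      rw [h]
      exact Subgroup.subset_closure (Or.inr rfl)
  have hTC : T ≤ C := by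
    rw [hT, Subgroup.closure_le]
    intro a ha
    rw [hC, SetLike.mem_coe, Subgroup.mem_centralizer_singleton_iff]
    rcases ha with ha | ha
    · exact (Subgroup.mem_center_iff.mp ha x).symm
    · rw [Set.mem_singleton_iff.mp ha]
  have hT4 : 4 ≤ Nat.card ↥T := by
    have := two_mul_card_le_of_lt hZT
    omega
  -- an abelian subgroup `B` with at least 8 elements
  obtain ⟨B, hBc, hB8⟩ : ∃ B : Subgroup ↥Y, IsMulCommutative ↥B ∧ 8 ≤ Nat.card ↥B := by
    by_cases hTCeq : T = C
    · refine ⟨T, isMulCommutative_closure hS₁comm, ?_⟩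
      rw [hTCeq]
      exact hC8
    · obtain ⟨v, hvC, hvT⟩ := SetLike.exists_of_lt (lt_of_le_of_ne hTC hTCeq)
      have hvx : v * x = x * v := by
        rw [hC, Subgroup.mem_centralizer_singleton_iff] at hvC
        exact hvC
      set S₂ : Set ↥Y := S₁ ∪ {v} with hS₂
      have hS₂comm : ∀ a ∈ S₂, ∀ b ∈ S₂, a * b = b * a := by
        have hv : ∀ a ∈ S₁, a * v = v * a := by
          intro a ha
          rcases ha with ha | ha
          · exact (Subgroup.mem_center_iff.mp ha v).symm
          · rw [Set.mem_singleton_iff.mp ha]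
            exact hvx.symm
        intro a ha b hb
        rcases ha with ha | ha
        · rcases hb with hb | hb
          · exact hS₁comm a ha b hb
          · rw [Set.mem_singleton_iff.mp hb]
            exact hv a ha
        · rw [Set.mem_singleton_iff.mp ha]
          rcases hb with hb | hb
          · exact (hv b hb).symm
          · rw [Set.mem_singleton_iff.mp hb]
      refine ⟨Subgroup.closure S₂, isMulCommutative_closure hS₂comm, ?_⟩
      have hlt : T < Subgroup.closure S₂ := by
        refine lt_of_le_of_ne (Subgroup.closure_mono Set.subset_union_left) ?_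
        intro h
        apply hvT
        rw [h]
        exact Subgroup.subset_closure (Or.inr rfl)
      have := two_mul_card_le_of_lt hlt
      omega
  by_contra hcon
  have hnB : ¬ CalA B := fun h => hcon (CalA.mono le_top h)
  rcases U2_cyclic_or_card_le_four (hP2.to_subgroup B) hBc hnB with hcyc | hle
  · haveI := hcyc
    obtain ⟨b, hb⟩ := IsCyclic.exists_generator (α := ↥B)
    have hob : orderOf b = Nat.card ↥B := orderOf_eq_card_of_forall_mem_zpowers hb
    have hb4 : b ^ 4 = 1 := by
      apply Subtype.ext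
      rw [Subgroup.coe_pow, Subgroup.coe_one]
      exact hfour b
    have := Nat.le_of_dvd (by norm_num) (orderOf_dvd_of_pow_eq_one hb4)
    omega
  · omega

end Cfsg.Agent.Lib.Helper2.NA8
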