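import Mathlib

/-!
# S3921: groups whose non-cyclic subgroups are self-centralizing: basic transport lemmas
-/

set_option autoImplicit false
set_option linter.style.haveILetI false

namespace Cfsg.Agent.Lib.Helper2.NCyc

variable {G : Type*} [Group G]

/-- every non-cyclic subgroup contains its centralizer (the hypothesis of S3917-S3921) -/
def Star (G : Type*) [Group G] : Prop :=
  ∀ H : Subgroup G, ¬ IsCyclic ↥H → Subgroup.centralizer (H : Set G) ≤ H

theorem star_iff : Star G ↔
    ∀ H : Subgroup G, ¬ IsCyclic ↥H → Subgroup.centralizer (H : Set G) ≤ H := Iff.rfl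

/-- (L0) `Star` passes to subgroups. -/
theorem star_subgroup (h : Star G) (K : Subgroup G) : Star ↥K := by
  intro H hH x hx
  have e : H ≃* (H.map K.subtype) := H.equivMapOfInjective K.subtype K.subtype_injective
  have hH' : ¬ IsCyclic (H.map K.subtype) := by
    intro hc
    haveI := hc
    exact hH (isCyclic_of_surjective e.symm e.symm.surjective)
  have hx' : (x : G) ∈ Subgroup.centralizer ((H.map K.subtype : Subgroup G) : Set G) := by
    rw [Subgroup.mem_centralizer_iff]
    rintro _ ⟨y, hy, rfl⟩
    have := Subgroup.mem_centralizer_iff.1 hx y hy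
    exact congrArg Subtype.val this
  obtain ⟨y, hy, hyx⟩ := h _ hH' hx'
  have : y = x := Subtype.ext hyx
  rw [← this]
  exact hy

/-- `Star` passes through isomorphisms. -/
theorem star_of_mulEquiv {G' : Type*} [Group G'] (e : G ≃* G') (h : Star G) : Star G' := by
  intro H hH x hx
  have e0 : H ≃* (H.map e.symm.toMonoidHom) := e.symm.subgroupMap H
  have hH0 : ¬ IsCyclic (H.map e.symm.toMonoidHom) := by
    intro hc
    haveI := hc
    exact hH (isCyclic_of_surjective e0.symm e0.symm.surjective)
  have hx0 : e.symm x ∈ Subgroup.centralizer ((H.map e.symm.toMonoidHom : Subgroup G) : Set G) := by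
    rw [Subgroup.mem_centralizer_iff]
    rintro _ ⟨y, hy, rfl⟩
    have := Subgroup.mem_centralizer_iff.1 hx y hy
    show e.symm y * e.symm x = e.symm x * e.symm y
    rw [← map_mul, ← map_mul, this]
  obtain ⟨y, hy, hyx⟩ := h _ hH0 hx0
  have : y = x := e.symm.injective hyx
  rw [← this]
  exact hy

/-- an equivalent form: a non-identity `c` lies in every non-cyclic subgroup of `C(c)`. -/
theorem Star.mem_of_le_centralizer (h : Star G) {c : G} {H : Subgroup G} (hH : ¬ IsCyclic ↥H)
    (hle : H ≤ Subgroup.centralizer ({c} : Set G)) : c ∈ H := by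
  apply h H hH
  rw [Subgroup.mem_centralizer_iff]
  intro y hy
  exact Subgroup.mem_centralizer_singleton_iff.1 (hle hy)

end Cfsg.Agent.Lib.Helper2.NCyc
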