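import Mathlib
import Cfsg.Prelude.Def_Transfer
import Cfsg.Agent.S3031
import Cfsg.Agent.S0071
import Cfsg.Agent.S3917
import Cfsg.Agent.S3918
import Cfsg.Agent.Lib.Helper2.NCycBase

/-!
# S3921, part (ODD): a non-abelian finite simple group whose non-cyclic subgroups are
self-centralizing has even order
-/

set_option autoImplicit false
set_option linter.style.haveILetI false
set_option linter.unusedVariables false

namespace Cfsg.Agent.Lib.Helper2.NCyc

variable {G : Type*} [Group G]

/-- arithmetic core -/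
theorem arith_core {p r a f : ℕ} (hp : p.Prime) (hr : r.Prime) (hrp : p + 2 ≤ r)
    (hfa : f < a) (haf : a ≤ f + 2) (hdvd : r ∣ p ^ a - p ^ f) : False := by
  have hnp : ¬ r ∣ p := by
    intro h
    have := (Nat.prime_dvd_prime_iff_eq hr hp).1 h
    omega
  have hnp1 : ¬ r ∣ p - 1 := by
    intro h
    have h1 : 0 < p - 1 := by have := hp.two_le; omega
    have := Nat.le_of_dvd h1 h
    omega
  have hnp2 : ¬ r ∣ p + 1 := by
    intro h
    have := Nat.le_of_dvd (by omega) h
    omega
  have hp1 : 1 ≤ p := hp.one_lt.le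
  obtain ⟨d, hd, hd12⟩ : ∃ d, a = f + d ∧ (d = 1 ∨ d = 2) := ⟨a - f, by omega, by omega⟩
  have e : p ^ a - p ^ f = p ^ f * (p ^ d - 1) := by
    rw [hd, pow_add, Nat.mul_sub, mul_one]
  rw [e] at hdvd
  rcases (Nat.Prime.dvd_mul hr).1 hdvd with h | h
  · exact hnp (hr.dvd_of_dvd_pow h)
  · rcases hd12 with rfl | rfl
    · rw [pow_one] at h
      exact hnp1 h
    · have e2 : p ^ 2 - 1 = (p - 1) * (p + 1) := by
        obtain ⟨k, rfl⟩ : ∃ k, p = k + 1 := ⟨p - 1, by omega⟩
        have : (k + 1) ^ 2 - 1 = (k + 1 - 1) * (k + 1 + 1) := by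
          rw [Nat.add_sub_cancel]
          have : (k + 1) ^ 2 = k * (k + 1 + 1) + 1 := by ring
          rw [this, Nat.add_sub_cancel]
        exact this
      rw [e2] at h
      rcases (Nat.Prime.dvd_mul hr).1 h with h' | h'
      · exact hnp1 h'
      · exact hnp2 h'

/-- conjugation by an element of the normalizer, as a permutation of the subgroup -/
noncomputable def conjPerm (Q : Subgroup G) (h : G)
    (hn : h ∈ Subgroup.normalizer (Q : Set G)) : Equiv.Perm Q where
  toFun x := ⟨h * x * h⁻¹, ((Subgroup.mem_normalizer_iff.1 hn) x).1 x.2⟩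
  invFun x := ⟨h⁻¹ * x * h, by
    have := ((Subgroup.mem_normalizer_iff.1 hn) (h⁻¹ * x * h)).2
    apply this
    have e : h * (h⁻¹ * (x : G) * h) * h⁻¹ = x := by group
    rw [e]; exact x.2⟩
  left_inv x := by
    apply Subtype.ext
    show h⁻¹ * (h * (x : G) * h⁻¹) * h = x
    group
  right_inv x := by
    apply Subtype.ext
    show h * (h⁻¹ * (x : G) * h) * h⁻¹ = x
    group

theorem conjPerm_pow (Q : Subgroup G) (h : G) (hn : h ∈ Subgroup.normalizer (Q : Set G))
    (n : ℕ) (x : Q) : (((conjPerm Q h hn) ^ n) x : G) = h ^ n * x * (h ^ n)⁻¹ := by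
  induction n generalizing x with
  | zero => simp
  | succ n ih =>
    rw [pow_succ', Equiv.Perm.mul_apply]
    show h * ((conjPerm Q h hn ^ n) x : G) * h⁻¹ = _
    rw [ih, pow_succ']
    group

/-- Lemma A: the number of non-fixed points is divisible by `r`. -/
theorem dvd_card_sub_card_fixed [Finite G] {r : ℕ} (hr : r.Prime) (Q : Subgroup G) (h : G)
    (hn : h ∈ Subgroup.normalizer (Q : Set G))
    (hr' : h ^ r ∈ Subgroup.centralizer (Q : Set G)) :
    r ∣ Nat.card Q - Nat.card (Q ⊓ Subgroup.centralizer ({h} : Set G) : Subgroup G) := by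
  classical
  haveI : Fact r.Prime := ⟨hr⟩
  haveI : Fintype Q := Fintype.ofFinite _
  have hσ : (conjPerm Q h hn) ^ r ^ 1 = 1 := by
    rw [pow_one]
    ext x
    rw [conjPerm_pow, Equiv.Perm.one_apply]
    have := Subgroup.mem_centralizer_iff.1 hr' x x.2
    calc h ^ r * (x : G) * (h ^ r)⁻¹ = ((x : G) * h ^ r) * (h ^ r)⁻¹ := by rw [this]
      _ = x := by group
  have h1 := Equiv.Perm.card_compl_support_modEq hσ
  have h2 : ((conjPerm Q h hn).supportᶜ).card =
      Nat.card (Q ⊓ Subgroup.centralizer ({h} : Set G) : Subgroup G) := by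
    rw [← Fintype.card_of_subtype ((conjPerm Q h hn).supportᶜ)
      (p := fun x => (conjPerm Q h hn) x = x) (fun x => by
        rw [Finset.mem_compl, Equiv.Perm.mem_support, not_not]),
      ← Nat.card_eq_fintype_card]
    apply Nat.card_congr
    refine
      { toFun := fun x => ⟨(x.1 : G), ?_⟩
        invFun := fun y => ⟨⟨(y : G), y.2.1⟩, ?_⟩
        left_inv := fun x => rfl
        right_inv := fun y => rfl }
    · rw [Subgroup.mem_inf]
      refine ⟨x.1.2, ?_⟩
      rw [Subgroup.mem_centralizer_singleton_iff]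
      have := congrArg Subtype.val x.2
      have e : h * (x.1 : G) * h⁻¹ = (x.1 : G) := this
      calc (x.1 : G) * h = (h * (x.1 : G) * h⁻¹) * h := by rw [e]
        _ = h * (x.1 : G) := by group
    · apply Subtype.ext
      show h * (y : G) * h⁻¹ = y
      have := Subgroup.mem_centralizer_singleton_iff.1 y.2.2
      calc h * (y : G) * h⁻¹ = ((y : G) * h) * h⁻¹ := by rw [this]
        _ = y := by group
  rw [h2, ← Nat.card_eq_fintype_card] at h1
  have hle : Nat.card (Q ⊓ Subgroup.centralizer ({h} : Set G) : Subgroup G) ≤ Nat.card Q :=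
    Subgroup.card_le_of_le inf_le_left
  exact (Nat.modEq_iff_dvd' hle).1 h1

/-- Lemma B: groups of order `p ^ a`, `a ≤ 2`. -/
theorem centralizes_small [Finite G] {p r : ℕ} (hp : p.Prime) (hr : r.Prime) (hrp : p + 2 ≤ r)
    (Q : Subgroup G) {a : ℕ} (hQ : Nat.card Q = p ^ a) (ha : a ≤ 2) (h : G)
    (hn : h ∈ Subgroup.normalizer (Q : Set G))
    (hr' : h ^ r ∈ Subgroup.centralizer (Q : Set G)) :
    h ∈ Subgroup.centralizer (Q : Set G) := by
  by_contra hnc
  have hdvd := dvd_card_sub_card_fixed hr Q h hn hr'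
  have hFd : Nat.card (Q ⊓ Subgroup.centralizer ({h} : Set G) : Subgroup G) ∣ p ^ a := by
    rw [← hQ]; exact Subgroup.card_dvd_of_le inf_le_left
  obtain ⟨f, hfa, hf⟩ := (Nat.dvd_prime_pow hp).1 hFd
  have hlt : f < a := by
    rcases hfa.lt_or_eq with hh | hh
    · exact hh
    · exfalso
      apply hnc
      have heq : (Q ⊓ Subgroup.centralizer ({h} : Set G) : Subgroup G) = Q := by
        apply Subgroup.eq_of_le_of_card_ge inf_le_left
        rw [hf, hQ, hh]
      rw [Subgroup.mem_centralizer_iff]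
      intro x hx
      rw [← heq] at hx
      exact Subgroup.mem_centralizer_singleton_iff.1 hx.2
  rw [hQ, hf] at hdvd
  exact arith_core hp hr hrp hlt (by omega) hdvd

/-- Lemma C: groups of order `p ^ a`, `a ≤ 3`, non-abelian when `a = 3`. -/
theorem centralizes_le_cube [Finite G] {p r : ℕ} (hp : p.Prime) (hr : r.Prime)
    (hrp : p + 2 ≤ r) (Q : Subgroup G) {a : ℕ} (hQ : Nat.card Q = p ^ a) (ha : a ≤ 3)
    (hna : a = 3 → ¬ IsMulCommutative Q) (h : G)
    (hn : h ∈ Subgroup.normalizer (Q : Set G))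
    (hr' : h ^ r ∈ Subgroup.centralizer (Q : Set G)) :
    h ∈ Subgroup.centralizer (Q : Set G) := by
  rcases Nat.lt_or_ge a 3 with h3 | h3
  · exact centralizes_small hp hr hrp Q hQ (by omega) h hn hr'
  have ha3 : a = 3 := by omega
  subst ha3
  haveI : Fact p.Prime := ⟨hp⟩
  have hQp : IsPGroup p Q := IsPGroup.of_card hQ
  by_contra hnc
  -- the centre of Q, as a subgroup of G
  let Z : Subgroup G := (Subgroup.center Q).map Q.subtype
  have hZQ : Z ≤ Q := Subgroup.map_subtype_le _
  have hZmem : ∀ z : G, z ∈ Z ↔ z ∈ Q ∧ ∀ x ∈ Q, x * z = z * x := by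
    intro z
    constructor
    · rintro ⟨⟨z, hzQ⟩, hz, rfl⟩
      refine ⟨hzQ, fun x hx => ?_⟩
      have := Subgroup.mem_center_iff.1 hz ⟨x, hx⟩
      exact congrArg Subtype.val this
    · rintro ⟨hzQ, hz⟩
      refine ⟨⟨z, hzQ⟩, ?_, rfl⟩
      show (⟨z, hzQ⟩ : Q) ∈ Subgroup.center Q
      rw [Subgroup.mem_center_iff]
      intro x
      exact Subtype.ext (hz x x.2)
  have hZn : h ∈ Subgroup.normalizer (Z : Set G) := by
    rw [Subgroup.mem_normalizer_iff]
    have hnQ := Subgroup.mem_normalizer_iff.1 hn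
    intro z
    rw [hZmem, hZmem]
    constructor
    · rintro ⟨hzQ, hz⟩
      refine ⟨(hnQ z).1 hzQ, fun x hx => ?_⟩
      have hx' : h⁻¹ * x * h ∈ Q := by
        apply (hnQ _).2
        have e : h * (h⁻¹ * x * h) * h⁻¹ = x := by group
        rw [e]; exact hx
      have := hz _ hx'
      calc x * (h * z * h⁻¹) = h * ((h⁻¹ * x * h) * z) * h⁻¹ := by group
        _ = h * (z * (h⁻¹ * x * h)) * h⁻¹ := by rw [this]
        _ = h * z * h⁻¹ * x := by group
    · rintro ⟨hzQ, hz⟩
      refine ⟨(hnQ z).2 hzQ, fun x hx => ?_⟩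
      have hx' : h * x * h⁻¹ ∈ Q := (hnQ x).1 hx
      have := hz _ hx'
      calc x * z = h⁻¹ * ((h * x * h⁻¹) * (h * z * h⁻¹)) * h := by group
        _ = h⁻¹ * ((h * z * h⁻¹) * (h * x * h⁻¹)) * h := by rw [this]
        _ = z * x := by group
  have hZr : h ^ r ∈ Subgroup.centralizer (Z : Set G) :=
    Subgroup.centralizer_le (by exact_mod_cast hZQ) hr'
  have hZcard : Nat.card Z ∣ p ^ 3 := by rw [← hQ]; exact Subgroup.card_dvd_of_le hZQ
  obtain ⟨c, hc3, hc⟩ := (Nat.dvd_prime_pow hp).1 hZcard
  have hc2 : c ≤ 2 := by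
    by_contra hh
    have hc3' : c = 3 := by omega
    apply hna rfl
    have heq : Z = Q := by
      apply Subgroup.eq_of_le_of_card_ge hZQ
      rw [hc, hQ, hc3']
    constructor
    constructor
    intro x y
    have hy : (y : G) ∈ Z := by rw [heq]; exact y.2
    have := ((hZmem _).1 hy).2 x x.2
    exact Subtype.ext this
  have hZc := centralizes_small hp hr hrp Z hc hc2 h hZn hZr
  -- Z ≠ ⊥
  have hQnt : Nontrivial Q := by
    rw [← Finite.one_lt_card_iff_nontrivial, hQ]
    exact Nat.one_lt_pow (by norm_num) hp.one_lt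
  haveI := hQnt
  have hZnt : Nontrivial (Subgroup.center Q) := hQp.center_nontrivial
  have hZcard1 : 1 < Nat.card Z := by
    have : Nat.card Z = Nat.card (Subgroup.center Q) :=
      Subgroup.card_map_of_injective Q.subtype_injective
    rw [this]
    exact Finite.one_lt_card_iff_nontrivial.2 hZnt
  -- F
  have hdvd := dvd_card_sub_card_fixed hr Q h hn hr'
  have hFd : Nat.card (Q ⊓ Subgroup.centralizer ({h} : Set G) : Subgroup G) ∣ p ^ 3 := by
    rw [← hQ]; exact Subgroup.card_dvd_of_le inf_le_left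
  obtain ⟨f, hf3, hf⟩ := (Nat.dvd_prime_pow hp).1 hFd
  have hlt : f < 3 := by
    rcases hf3.lt_or_eq with hh | hh
    · exact hh
    · exfalso
      apply hnc
      have heq : (Q ⊓ Subgroup.centralizer ({h} : Set G) : Subgroup G) = Q := by
        apply Subgroup.eq_of_le_of_card_ge inf_le_left
        rw [hf, hQ, hh]
      rw [Subgroup.mem_centralizer_iff]
      intro x hx
      rw [← heq] at hx
      exact Subgroup.mem_centralizer_singleton_iff.1 hx.2
  have hZF : Z ≤ (Q ⊓ Subgroup.centralizer ({h} : Set G) : Subgroup G) := by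
    intro z hz
    refine ⟨hZQ hz, ?_⟩
    show z ∈ Subgroup.centralizer ({h} : Set G)
    rw [Subgroup.mem_centralizer_singleton_iff]
    exact (Subgroup.mem_centralizer_iff.1 hZc z hz)
  have hf1 : 1 ≤ f := by
    by_contra hh
    have hf0 : f = 0 := by omega
    have := Subgroup.card_le_of_le hZF
    rw [hf, hf0, pow_zero] at this
    omega
  rw [hQ, hf] at hdvd
  exact arith_core hp hr hrp hlt (by omega) hdvd

/-- Lemma E: reduction to an element inducing an automorphism of prime order. -/
theorem exists_prime_power_step [Finite G] (Q : Subgroup G) (g : G)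
    (hn : g ∈ Subgroup.normalizer (Q : Set G)) (hnc : g ∉ Subgroup.centralizer (Q : Set G)) :
    ∃ (h : G) (r : ℕ), r.Prime ∧ r ∣ orderOf g ∧ h ∈ Subgroup.normalizer (Q : Set G) ∧
      h ∉ Subgroup.centralizer (Q : Set G) ∧ h ^ r ∈ Subgroup.centralizer (Q : Set G) := by
  classical
  have hex : ∃ n : ℕ, 0 < n ∧ g ^ n ∈ Subgroup.centralizer (Q : Set G) :=
    ⟨orderOf g, orderOf_pos g, by rw [pow_orderOf_eq_one]; exact Subgroup.one_mem _⟩
  let m := Nat.find hex
  have hm : 0 < m ∧ g ^ m ∈ Subgroup.centralizer (Q : Set G) := Nat.find_spec hex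
  have hmin : ∀ n : ℕ, 0 < n → g ^ n ∈ Subgroup.centralizer (Q : Set G) → m ≤ n :=
    fun n h1 h2 => Nat.find_min' hex ⟨h1, h2⟩
  have hm1 : m ≠ 1 := by
    intro h1
    have := hm.2
    rw [h1, pow_one] at this
    exact hnc this
  -- m divides orderOf g
  have hmdvd : m ∣ orderOf g := by
    have hdiv := Nat.div_add_mod (orderOf g) m
    by_contra hnd
    have hs : 0 < orderOf g % m := Nat.pos_of_ne_zero (fun h0 => hnd (Nat.dvd_of_mod_eq_zero h0))
    have hslt : orderOf g % m < m := Nat.mod_lt _ hm.1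
    have hmem : g ^ (orderOf g % m) ∈ Subgroup.centralizer (Q : Set G) := by
      have e : g ^ (orderOf g % m) = ((g ^ m) ^ (orderOf g / m))⁻¹ := by
        have h1 : (g ^ m) ^ (orderOf g / m) * g ^ (orderOf g % m) = 1 := by
          rw [← pow_mul, ← pow_add, hdiv, pow_orderOf_eq_one]
        exact eq_inv_of_mul_eq_one_right h1
      rw [e]
      exact Subgroup.inv_mem _ (Subgroup.pow_mem _ hm.2 _)
    have := hmin _ hs hmem
    omega
  refine ⟨g ^ (m / m.minFac), m.minFac, Nat.minFac_prime hm1,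
    (Nat.minFac_dvd m).trans hmdvd, Subgroup.pow_mem _ hn _, ?_, ?_⟩
  · intro hh
    have hpos : 0 < m / m.minFac :=
      Nat.div_pos (Nat.minFac_le hm.1) (Nat.minFac_pos m)
    have := hmin _ hpos hh
    have hlt : m / m.minFac < m := Nat.div_lt_self hm.1 (Nat.minFac_prime hm1).one_lt
    omega
  · rw [← pow_mul, Nat.div_mul_cancel (Nat.minFac_dvd m)]
    exact hm.2

/-- a simple non-abelian group has no normal `p`-complement for `p ∣ |G|` -/
theorem false_of_normal_complement [Finite G] [IsSimpleGroup G] (hna : ¬ IsMulCommutative G)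
    {p : ℕ} [hp : Fact p.Prime] (hdiv : p ∣ Nat.card G) (P : Sylow p G) (N : Subgroup G)
    (hN : N.Normal) (hc : N.IsComplement' (P : Subgroup G)) : False := by
  rcases hN.eq_bot_or_eq_top with h | h
  · rw [h] at hc
    have hPtop : (P : Subgroup G) = ⊤ := Subgroup.isComplement'_bot_left.1 hc
    have hGp : IsPGroup p G := by
      have := P.isPGroup'
      rw [hPtop] at this
      exact IsPGroup.of_equiv this Subgroup.topEquiv
    haveI : Nontrivial G := IsSimpleGroup.toNontrivial
    haveI := hGp.center_nontrivial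
    have hZ : Subgroup.center G = ⊤ := by
      rcases (inferInstance : (Subgroup.center G).Normal).eq_bot_or_eq_top with h' | h'
      · exfalso
        have : Nontrivial (Subgroup.center G) := inferInstance
        rw [h'] at this
        exact not_nontrivial _ this
      · exact h'
    apply hna
    constructor
    constructor
    intro a b
    have : b ∈ Subgroup.center G := by rw [hZ]; exact Subgroup.mem_top b
    exact (Subgroup.mem_center_iff.1 this a)
  · rw [h] at hc
    have hPbot : (P : Subgroup G) = ⊥ := Subgroup.isComplement'_top_left.1 hc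
    have h1 := P.card_eq_multiplicity
    rw [hPbot, Subgroup.card_bot] at h1
    have hfac : 1 ≤ (Nat.card G).factorization p :=
      (hp.out.pow_dvd_iff_le_factorization Nat.card_pos.ne').1 (by rw [pow_one]; exact hdiv)
    have : 1 < p ^ (Nat.card G).factorization p := Nat.one_lt_pow (by omega) hp.out.one_lt
    omega

/-- (ODD) -/
theorem two_dvd_card_of_star [Finite G] [IsSimpleGroup G] (hna : ¬ IsMulCommutative G)
    (h : Star G) : 2 ∣ Nat.card G := by
  by_contra h2
  haveI : Nontrivial G := IsSimpleGroup.toNontrivial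
  have hcard1 : Nat.card G ≠ 1 := by
    have := Finite.one_lt_card_iff_nontrivial.2 (inferInstance : Nontrivial G)
    omega
  have hpp : (Nat.card G).minFac.Prime := Nat.minFac_prime hcard1
  haveI : Fact (Nat.card G).minFac.Prime := ⟨hpp⟩
  have hdiv : (Nat.card G).minFac ∣ Nat.card G := Nat.minFac_dvd _
  have hmin : ∀ q : ℕ, q.Prime → q ∣ Nat.card G → (Nat.card G).minFac ≤ q :=
    fun q hq hqd => Nat.minFac_le_of_dvd hq.two_le hqd
  have hp2 : (Nat.card G).minFac ≠ 2 := by
    intro hh
    rw [hh] at hdiv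
    exact h2 hdiv
  obtain ⟨p, hpdef⟩ : ∃ p, p = (Nat.card G).minFac := ⟨_, rfl⟩
  rw [← hpdef] at hpp hdiv hmin hp2
  haveI : Fact p.Prime := ⟨hpp⟩
  obtain ⟨P⟩ : Nonempty (Sylow p G) := inferInstance
  have hPstar : Star (P : Subgroup G) := star_subgroup h P
  by_cases hPc : IsCyclic (P : Subgroup G)
  · obtain ⟨P', N, hN, hc⟩ := Cfsg.Agent.S3031.result hdiv hmin P (Or.inl hPc)
    exact false_of_normal_complement hna hdiv P' N hN hc
  -- |P| = p ^ b, b ≤ 3, non-abelian if b = 3
  have hPcard : ∃ b : ℕ, Nat.card (P : Subgroup G) = p ^ b ∧ b ≤ 3 ∧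
      (b = 3 → ¬ IsMulCommutative (P : Subgroup G)) := by
    by_cases hPab : IsMulCommutative (P : Subgroup G)
    · letI : CommGroup (P : Subgroup G) :=
        { (inferInstance : Group (P : Subgroup G)) with mul_comm := fun a b => mul_comm' a b }
      rcases Cfsg.Agent.S3917.result (G := (P : Subgroup G)) hPstar with hc | ⟨p', hp', hcard, -⟩
      · exact absurd hc hPc
      · have h1 := P.card_eq_multiplicity
        rw [hcard] at h1
        have hk : (Nat.card G).factorization p ≠ 0 := by
          intro h0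
          rw [h0, pow_zero] at h1
          have := Nat.one_lt_pow (n := 2) (by norm_num) hp'.one_lt
          omega
        have hpp' : p' = p := by
          have hd : p' ∣ p ^ (Nat.card G).factorization p := by
            rw [← h1]; exact dvd_pow_self p' (by norm_num)
          exact (Nat.prime_dvd_prime_iff_eq hp' hpp).1 (hp'.dvd_of_dvd_pow hd)
        refine ⟨2, by rw [hcard, hpp'], by norm_num, by norm_num⟩
    · have := (Cfsg.Agent.S3918.result hp2 P.isPGroup' hPab).1 hPstar
      exact ⟨3, this, le_refl 3, fun _ => hPab⟩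
  obtain ⟨b, hb, hb3, hbna⟩ := hPcard
  -- Frobenius
  have hfrob : ∀ Q : Subgroup G, Q ≤ (P : Subgroup G) →
      ∀ g ∈ Subgroup.normalizer (Q : Set G), Nat.Coprime (orderOf g) p →
        g ∈ Subgroup.centralizer (Q : Set G) := by
    intro Q hQP g hg hcop
    by_contra hnc
    obtain ⟨h', r, hr, hrd, hh'n, hh'nc, hh'r⟩ := exists_prime_power_step Q g hg hnc
    have hrG : r ∣ Nat.card G := hrd.trans (orderOf_dvd_natCard g)
    have hrp : p ≤ r := hmin r hr hrG
    have hrnep : r ≠ p := by
      intro hh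
      rw [hh] at hrd
      have := Nat.Coprime.eq_one_of_dvd (Nat.Coprime.symm hcop) hrd
      exact hpp.one_lt.ne' this
    have hr2 : r ≠ 2 := by
      intro hh
      rw [hh] at hrG
      exact h2 hrG
    have hrodd : Odd r := hr.odd_of_ne_two hr2
    have hpodd : Odd p := hpp.odd_of_ne_two hp2
    have hrp2 : p + 2 ≤ r := by
      obtain ⟨k, hk⟩ := hrodd
      obtain ⟨l, hl⟩ := hpodd
      omega
    -- |Q|
    have hQd : Nat.card Q ∣ p ^ b := by rw [← hb]; exact Subgroup.card_dvd_of_le hQP
    obtain ⟨a, hab, ha⟩ := (Nat.dvd_prime_pow hpp).1 hQd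
    have hQna : a = 3 → ¬ IsMulCommutative Q := by
      intro ha3
      have hb3' : b = 3 := by omega
      have heq : Q = (P : Subgroup G) := by
        apply Subgroup.eq_of_le_of_card_ge hQP
        rw [hb, ha, ha3, hb3']
      rw [heq]
      exact hbna hb3'
    exact hh'nc (centralizes_le_cube hpp hr hrp2 Q ha (by omega) hQna h' hh'n hh'r)
  obtain ⟨N, hN, hc⟩ := (Cfsg.Agent.S0071.result P).2 hfrob
  exact false_of_normal_complement hna hdiv P N hN hc

end Cfsg.Agent.Lib.Helper2.NCyc
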