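import Mathlib
import Cfsg.Agent.Lib.Helper2.NCycBase

/-!
# S3921, reverse direction: reduction of `(*)` to centralizers
-/

set_option autoImplicit false
set_option linter.style.haveILetI false

namespace Cfsg.Agent.Lib.Helper2.NCyc

variable {G : Type*} [Group G]

/-- central elements lie in every non-cyclic subgroup -/
def CStar (K : Type*) [Group K] : Prop :=
  ∀ c ∈ Subgroup.center K, ∀ H : Subgroup K, ¬ IsCyclic ↥H → c ∈ H

theorem cstar_iff {K : Type*} [Group K] : CStar K ↔
    ∀ c ∈ Subgroup.center K, ∀ H : Subgroup K, ¬ IsCyclic ↥H → c ∈ H := Iff.rfl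

theorem cstar_of_star {K : Type*} [Group K] (h : Star K) : CStar K := by
  intro c hc H hH
  apply h H hH
  rw [Subgroup.mem_centralizer_iff]
  intro y _
  exact Subgroup.mem_center_iff.1 hc y

theorem cstar_of_isCyclic {K : Type*} [Group K] [IsCyclic K] : CStar K := by
  intro c _ H hH
  exact absurd (inferInstance : IsCyclic ↥H) hH

theorem cstar_of_center_eq_bot {K : Type*} [Group K] (h : Subgroup.center K = ⊥) : CStar K := by
  intro c hc H _
  rw [h, Subgroup.mem_bot] at hc
  rw [hc]
  exact H.one_mem

/-- `CStar` passes through isomorphisms. -/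
theorem cstar_of_mulEquiv {K K' : Type*} [Group K] [Group K'] (e : K ≃* K') (h : CStar K') :
    CStar K := by
  intro c hc H hH
  have e0 : H ≃* (H.map e.toMonoidHom) := e.subgroupMap H
  have hH0 : ¬ IsCyclic (H.map e.toMonoidHom) := by
    intro hcyc
    haveI := hcyc
    exact hH (isCyclic_of_surjective e0.symm e0.symm.surjective)
  have hc0 : e c ∈ Subgroup.center K' := by
    rw [Subgroup.mem_center_iff]
    intro y
    obtain ⟨x, rfl⟩ := e.surjective y
    rw [← map_mul, ← map_mul, Subgroup.mem_center_iff.1 hc x]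
  obtain ⟨y, hy, hyc⟩ := h _ hc0 _ hH0
  have : y = c := e.injective hyc
  rw [← this]
  exact hy

/-- `(*)` follows from `CStar` for all centralizers of non-identity elements. -/
theorem star_of_cstar_centralizers
    (h : ∀ c : G, c ≠ 1 → CStar ↥(Subgroup.centralizer ({c} : Set G))) : Star G := by
  intro H hH x hx
  by_cases hx1 : x = 1
  · rw [hx1]; exact H.one_mem
  have hle : H ≤ Subgroup.centralizer ({x} : Set G) := by
    intro y hy
    rw [Subgroup.mem_centralizer_singleton_iff]
    exact (Subgroup.mem_centralizer_iff.1 hx y hy)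
  have hxK : x ∈ Subgroup.centralizer ({x} : Set G) := by
    rw [Subgroup.mem_centralizer_singleton_iff]
  have hcen : (⟨x, hxK⟩ : ↥(Subgroup.centralizer ({x} : Set G))) ∈
      Subgroup.center ↥(Subgroup.centralizer ({x} : Set G)) := by
    rw [Subgroup.mem_center_iff]
    rintro ⟨y, hy⟩
    apply Subtype.ext
    exact Subgroup.mem_centralizer_singleton_iff.1 hy
  have e : H ≃* (H.subgroupOf (Subgroup.centralizer ({x} : Set G))) :=
    (Subgroup.subgroupOfEquivOfLe hle).symm
  have hH' : ¬ IsCyclic ↥(H.subgroupOf (Subgroup.centralizer ({x} : Set G))) := by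
    intro hc
    haveI := hc
    exact hH (isCyclic_of_surjective e.symm e.symm.surjective)
  have := h x hx1 _ hcen _ hH'
  rw [Subgroup.mem_subgroupOf] at this
  exact this

end Cfsg.Agent.Lib.Helper2.NCyc
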