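import Mathlib
import Cfsg.Agent.Lib.Helper5.DicksonBorel3
import Cfsg.Agent.Lib.Helper2.NCycRev0

/-!
# S3921, reverse direction: subgroups of a Borel subgroup of `PSL₂(q)`, `q ∈ {p, p²}`
-/

set_option autoImplicit false
set_option linter.style.haveILetI false

namespace Cfsg.Agent.Lib.Helper2.NCyc

/-- abstract Frobenius-like situation: `U ≤ B`, `|U| ∈ {p, p²}`, elements of `B ∖ U` centralize
no non-identity element of `U`, and subgroups of `B` meeting `U` trivially are cyclic. -/
theorem cstar_of_frobenius_like {G : Type*} [Group G] [Finite G] (B U : Subgroup G)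
    {p : ℕ} (hp : p.Prime) (hU : Nat.card U = p ∨ Nat.card U = p ^ 2)
    (hfrob : ∀ x ∈ B, x ∉ U → ∀ u ∈ U, u ≠ 1 → x * u ≠ u * x)
    (hcyc : ∀ K : Subgroup G, K ≤ B → K ⊓ U = ⊥ → IsCyclic K)
    (K : Subgroup G) (hK : K ≤ B) : CStar ↥K := by
  intro c hc H hH
  by_cases hc1 : c = 1
  · rw [hc1]; exact H.one_mem
  have hc1' : (c : G) ≠ 1 := fun h => hc1 (Subtype.ext h)
  have hcomm : ∀ x ∈ K, x * (c : G) = (c : G) * x := by
    intro x hx
    have := Subgroup.mem_center_iff.1 hc ⟨x, hx⟩
    exact congrArg Subtype.val this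
  by_cases hcU : (c : G) ∈ U
  · -- `K ≤ U`
    have hKU : K ≤ U := by
      intro x hx
      by_contra hxU
      exact hfrob x (hK hx) hxU c hcU hc1' (hcomm x hx)
    obtain ⟨H', hH'def⟩ : ∃ H' : Subgroup G, H' = H.map K.subtype := ⟨_, rfl⟩
    have hH'U : H' ≤ U := by
      rw [hH'def]
      rintro _ ⟨y, _, rfl⟩
      exact hKU y.2
    have hcard : Nat.card H' = Nat.card H := by
      rw [hH'def]
      exact Subgroup.card_map_of_injective K.subtype_injective
    have hdvd : Nat.card H' ∣ Nat.card U := Subgroup.card_dvd_of_le hH'U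
    have hsmall : ∀ i : ℕ, i ≤ 1 → Nat.card H ≠ p ^ i := by
      intro i hi hci
      apply hH
      have : i = 0 ∨ i = 1 := by omega
      rcases this with rfl | rfl
      · rw [pow_zero] at hci
        haveI : Subsingleton H := (Nat.card_eq_one_iff_unique.mp hci).1
        exact isCyclic_of_subsingleton
      · rw [pow_one] at hci
        haveI : Fact p.Prime := ⟨hp⟩
        exact isCyclic_of_prime_card hci
    have hfull : Nat.card H' = Nat.card U := by
      rcases hU with hU1 | hU2
      · rw [hU1] at hdvd ⊢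
        rcases (Nat.dvd_prime hp).1 hdvd with h1 | h1
        · exfalso
          exact hsmall 0 (by omega) (by rw [← hcard, h1, pow_zero])
        · exact h1
      · rw [hU2] at hdvd ⊢
        obtain ⟨i, hi, hci⟩ := (Nat.dvd_prime_pow hp).1 hdvd
        have : i = 2 ∨ i ≤ 1 := by omega
        rcases this with rfl | hi1
        · exact hci
        · exfalso
          exact hsmall i hi1 (by rw [← hcard, hci])
    have hEq : H' = U := Subgroup.eq_of_le_of_card_ge hH'U (le_of_eq hfull.symm)
    have : (c : G) ∈ H' := by rw [hEq]; exact hcU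
    rw [hH'def] at this
    obtain ⟨y, hy, hyc⟩ := this
    have : y = c := Subtype.ext hyc
    rw [← this]
    exact hy
  · -- `K ⊓ U = ⊥`, so `K` is cyclic
    exfalso
    have hKU : K ⊓ U = ⊥ := by
      rw [eq_bot_iff]
      intro x hx
      rw [Subgroup.mem_bot]
      by_contra hx1
      have hx' := Subgroup.mem_inf.1 hx
      exact hfrob c (hK c.2) hcU x hx'.2 hx1 (hcomm x hx'.1).symm
    haveI := hcyc K hK hKU
    exact hH inferInstance

open Matrix Cfsg.Agent.Lib.Helper4 Cfsg.Agent.Lib.Helper5.Mob Cfsg.Agent.Lib.Helper5.MobPGL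
  Cfsg.Agent.Lib.Helper5.MobWild Cfsg.Agent.Lib.Helper5.MobRat
  Cfsg.Agent.Lib.Helper5.DicksonBorel
open scoped LinearAlgebra.Projectivization MatrixGroups

section borel

variable {F : Type*} [Field F] [Fintype F]

/-- elements of `B ∖ U` centralize no non-identity element of `U` -/
theorem borel_frob (x u : Matrix.ProjectiveSpecialLinearGroup (Fin 2) F)
    (hx : x ∈ borelB (RingHom.id F)) (hxU : x ∉ borelU (RingHom.id F))
    (hu : u ∈ borelU (RingHom.id F)) (hu1 : u ≠ 1) : x * u ≠ u * x := by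
  intro hcomm
  rw [mem_borelB] at hx
  obtain ⟨l, b, hlb⟩ := exists_aff_of_fix _ hx
  obtain ⟨a, ha⟩ := hu
  have h1 : pslHom (RingHom.id F) x * pslHom (RingHom.id F) u * (pslHom (RingHom.id F) x)⁻¹ =
      pslHom (RingHom.id F) u := by
    rw [← map_mul, hcomm, map_mul, mul_inv_cancel_right]
  rw [hlb, ha, conj_aff] at h1
  have h2 := (aff_inj h1).2
  have h3 : ((l : F) - 1) * a = 0 := by rw [sub_mul, h2, one_mul, sub_self]
  rcases mul_eq_zero.1 h3 with h4 | h4
  · apply hxU
    have : l = 1 := Units.ext (by rw [Units.val_one]; exact sub_eq_zero.1 h4)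
    rw [this] at hlb
    exact ⟨b, hlb⟩
  · apply hu1
    apply pslHom_injective (RingHom.id F)
    rw [ha, h4, aff_one, map_one]

/-- subgroups of `B` meeting `U` trivially are cyclic -/
theorem borel_cyclic (K : Subgroup (Matrix.ProjectiveSpecialLinearGroup (Fin 2) F))
    (hK : K ≤ borelB (RingHom.id F)) (hKU : K ⊓ borelU (RingHom.id F) = ⊥) : IsCyclic K := by
  let f : K →* F := (Units.coeHom F).comp ((borelChi (RingHom.id F)).comp (Subgroup.inclusion hK))
  apply isCyclic_of_injective_ringHom f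
  have hinj : Function.Injective ((borelChi (RingHom.id F)).comp (Subgroup.inclusion hK)) := by
    rw [injective_iff_map_eq_one]
    intro x hx
    have h1 : borelChi (RingHom.id F) (Subgroup.inclusion hK x) = 1 := hx
    rw [borelChi_eq_one_iff] at h1
    have h2 : (x : Matrix.ProjectiveSpecialLinearGroup (Fin 2) F) ∈
        K ⊓ borelU (RingHom.id F) := Subgroup.mem_inf.2 ⟨x.2, h1⟩
    rw [hKU, Subgroup.mem_bot] at h2
    exact Subtype.ext h2
  intro x y hxy
  apply hinj
  exact Units.ext hxy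

theorem cstar_of_le_borelB (p : ℕ) [Fact p.Prime] [CharP F p]
    (hq : Fintype.card F = p ∨ Fintype.card F = p ^ 2)
    (K : Subgroup (Matrix.ProjectiveSpecialLinearGroup (Fin 2) F))
    (hK : K ≤ borelB (RingHom.id F)) : CStar ↥K := by
  apply cstar_of_frobenius_like (borelB (RingHom.id F)) (borelU (RingHom.id F))
    (Fact.out : p.Prime) _ _ _ K hK
  · rw [card_borelU]; exact hq
  · intro x hx hxU u hu hu1
    exact borel_frob x u hx hxU hu hu1
  · intro K' hK' hK'U
    exact borel_cyclic K' hK' hK'U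

/-- (RV-B) subgroups of the normalizer of a Sylow `p`-subgroup of `PSL₂(q)`, `q ∈ {p, p²}`. -/
theorem cstar_borel (p : ℕ) [Fact p.Prime] [CharP F p]
    (hq : Fintype.card F = p ∨ Fintype.card F = p ^ 2)
    (P : Sylow p (Matrix.ProjectiveSpecialLinearGroup (Fin 2) F))
    (K : Subgroup (Matrix.ProjectiveSpecialLinearGroup (Fin 2) F))
    (hK : K ≤ Subgroup.normalizer ((P : Subgroup (Matrix.ProjectiveSpecialLinearGroup (Fin 2) F)) :
      Set (Matrix.ProjectiveSpecialLinearGroup (Fin 2) F))) : CStar ↥K := by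
  obtain ⟨g, -, hN⟩ := exists_conj_sylow (RingHom.id F) p P
  rw [hN] at hK
  have e : K ≃* K.map (MulAut.conj g⁻¹).toMonoidHom := (MulAut.conj g⁻¹).subgroupMap K
  apply cstar_of_mulEquiv e
  apply cstar_of_le_borelB p hq
  rintro _ ⟨x, hx, rfl⟩
  obtain ⟨b, hb, rfl⟩ := hK hx
  have : (MulAut.conj g⁻¹).toMonoidHom ((MulAut.conj g).toMonoidHom b) = b := by
    show (MulAut.conj g⁻¹) ((MulAut.conj g) b) = b
    rw [map_inv, MulAut.inv_apply, MulEquiv.symm_apply_apply]
  rw [this]
  exact hb

end borel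

end Cfsg.Agent.Lib.Helper2.NCyc
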