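import Mathlib
import Cfsg.Agent.Lib.Helper2.NCycRevB

/-!
# S3921, reverse direction, piece RV-B1 (helper7's statement): two facts on `N(P)` in `PSL₂(q)`
-/

set_option autoImplicit false
set_option linter.style.haveILetI false

namespace Cfsg.Agent.Lib.Helper2.NCyc

open Matrix Cfsg.Agent.Lib.Helper4 Cfsg.Agent.Lib.Helper5.Mob Cfsg.Agent.Lib.Helper5.MobPGL
  Cfsg.Agent.Lib.Helper5.MobWild Cfsg.Agent.Lib.Helper5.MobRat
  Cfsg.Agent.Lib.Helper5.DicksonBorel
open scoped LinearAlgebra.Projectivization MatrixGroups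

theorem normalizer_sylow_facts {F : Type*} [Field F] [Fintype F] (p : ℕ) [Fact p.Prime] [CharP F p]
    (P : Sylow p (Matrix.ProjectiveSpecialLinearGroup (Fin 2) F)) :
    (∀ b ∈ Subgroup.normalizer ((P : Subgroup (Matrix.ProjectiveSpecialLinearGroup (Fin 2) F)) : Set (Matrix.ProjectiveSpecialLinearGroup (Fin 2) F)),
      ∀ u ∈ (P : Subgroup (Matrix.ProjectiveSpecialLinearGroup (Fin 2) F)), u ≠ 1 → b * u = u * b → b ∈ (P : Subgroup (Matrix.ProjectiveSpecialLinearGroup (Fin 2) F))) ∧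
    (∀ K' : Subgroup (Matrix.ProjectiveSpecialLinearGroup (Fin 2) F),
      K' ≤ Subgroup.normalizer ((P : Subgroup (Matrix.ProjectiveSpecialLinearGroup (Fin 2) F)) : Set (Matrix.ProjectiveSpecialLinearGroup (Fin 2) F)) →
      K' ⊓ (P : Subgroup (Matrix.ProjectiveSpecialLinearGroup (Fin 2) F)) = ⊥ → IsCyclic ↥K') := by
  obtain ⟨g, hP, hN⟩ := exists_conj_sylow (RingHom.id F) p P
  rw [hN, hP]
  constructor
  · rintro _ ⟨b, hb, rfl⟩ _ ⟨u, hu, rfl⟩ hu1 hcomm
    by_contra hbP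
    have hbU : b ∉ borelU (RingHom.id F) := fun h => hbP ⟨b, h, rfl⟩
    have hu1' : u ≠ 1 := by
      rintro rfl
      exact hu1 (map_one _)
    apply borel_frob b u hb hbU hu hu1'
    apply (MulAut.conj g).injective
    rw [map_mul, map_mul]
    exact hcomm
  · intro K' hK' hK'P
    obtain ⟨K'', hK''⟩ : ∃ K'' : Subgroup (Matrix.ProjectiveSpecialLinearGroup (Fin 2) F),
        K'' = K'.map (MulAut.conj g⁻¹).toMonoidHom := ⟨_, rfl⟩
    have e : K' ≃* K'' := by
      rw [hK'']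
      exact (MulAut.conj g⁻¹).subgroupMap K'
    have hback : ∀ b : Matrix.ProjectiveSpecialLinearGroup (Fin 2) F,
        (MulAut.conj g⁻¹).toMonoidHom ((MulAut.conj g).toMonoidHom b) = b := by
      intro b
      show (MulAut.conj g⁻¹) ((MulAut.conj g) b) = b
      rw [map_inv, MulAut.inv_apply, MulEquiv.symm_apply_apply]
    have hle : K'' ≤ borelB (RingHom.id F) := by
      rw [hK'']
      rintro _ ⟨x, hx, rfl⟩
      obtain ⟨b, hb, rfl⟩ := hK' hx
      rw [hback]
      exact hb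
    have hinf : K'' ⊓ borelU (RingHom.id F) = ⊥ := by
      rw [eq_bot_iff, hK'']
      intro x hx
      obtain ⟨⟨y, hy, hyx⟩, hxU⟩ := Subgroup.mem_inf.1 hx
      rw [Subgroup.mem_bot]
      have hyP : y ∈ (borelU (RingHom.id F)).map (MulAut.conj g).toMonoidHom := by
        refine ⟨x, hxU, ?_⟩
        rw [← hyx]
        show (MulAut.conj g) ((MulAut.conj g⁻¹) y) = y
        rw [map_inv, MulAut.inv_apply, MulEquiv.apply_symm_apply]
      have hy1 : y ∈ K' ⊓ (borelU (RingHom.id F)).map (MulAut.conj g).toMonoidHom :=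
        Subgroup.mem_inf.2 ⟨hy, hyP⟩
      rw [hK'P, Subgroup.mem_bot] at hy1
      rw [← hyx, hy1, map_one]
    haveI := borel_cyclic K'' hle hinf
    exact isCyclic_of_surjective e.symm e.symm.surjective

end Cfsg.Agent.Lib.Helper2.NCyc
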