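import Mathlib
import Cfsg.Agent.S3917
import Cfsg.Agent.S3031
import Cfsg.Agent.S3919
import Cfsg.Agent.S0115
import Cfsg.Agent.S4399
import Cfsg.Agent.S0201
import Cfsg.Agent.Lib.Helper2.NCycOdd

/-!
# S3921 (SYL)+(QUAT)+(CYC): the Sylow 2-subgroup of a nonabelian simple group with (*) is
dihedral (possibly a four-group) or quasi-dihedral
-/

set_option autoImplicit false
set_option linter.style.haveILetI false

namespace Cfsg.Agent.Lib.Helper2.NCyc

variable {G : Type*} [Group G]

/-- an abelian `2`-group with `(*)` is cyclic or a four-group -/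
theorem abelian_two_group_cases {S : Type*} [Group S] [Finite S] (hab : IsMulCommutative S)
    (h2 : IsPGroup 2 S) (h : Star S) : IsCyclic S ∨ IsKleinFour S := by
  letI : CommGroup S := { (inferInstance : Group S) with mul_comm := fun a b => mul_comm' a b }
  rcases Cfsg.Agent.S3917.result (G := S) h with hc | ⟨p, hp, hcard, hexp⟩
  · exact Or.inl hc
  · right
    have hp2 : p = 2 := by
      rcases h2.card_eq_or_dvd with h1 | hd
      · exfalso
        rw [hcard] at h1
        have := hp.one_lt
        have : 1 < p ^ 2 := Nat.one_lt_pow (by norm_num) this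
        omega
      · rw [hcard] at hd
        exact ((Nat.prime_dvd_prime_iff_eq Nat.prime_two hp).1
          (Nat.Prime.dvd_of_dvd_pow Nat.prime_two hd)).symm
    subst hp2
    exact ⟨by rw [hcard]; norm_num, hexp⟩

/-- a nonabelian `2`-group with `(*)` is dihedral, quasi-dihedral or generalized quaternion -/
theorem nonabelian_two_group_cases {S : Type*} [Group S] [Finite S] (hna : ¬ IsMulCommutative S)
    (h2 : IsPGroup 2 S) (h : Star S) :
    (∃ k : ℕ, Nonempty (S ≃* DihedralGroup (2 ^ (k + 2)))) ∨ Cfsg.IsQuasiDihedral S ∨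
      (∃ k : ℕ, Nonempty (S ≃* QuaternionGroup (2 ^ (k + 1)))) := by
  haveI : Fact (Nat.Prime 2) := ⟨Nat.prime_two⟩
  obtain ⟨n, hG⟩ := h2.exists_card_eq
  haveI hnil : Group.IsNilpotent S := h2.isNilpotent
  have hn : 3 ≤ n := by
    by_contra hlt
    push Not at hlt
    apply hna
    have : n = 0 ∨ n = 1 ∨ n = 2 := by omega
    rcases this with rfl | rfl | rfl
    · rw [pow_zero] at hG
      haveI : Subsingleton S := (Nat.card_eq_one_iff_unique.mp hG).1
      exact ⟨⟨fun a b => Subsingleton.elim _ _⟩⟩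
    · rw [pow_one] at hG
      haveI := isCyclic_of_prime_card hG
      letI : CommGroup S := IsCyclic.commGroup
      exact ⟨⟨fun a b => mul_comm a b⟩⟩
    · exact IsPGroup.isMulCommutative_of_card_eq_prime_sq hG
  have hlcs : (⊤ : Subgroup S).lowerCentralSeries (n - 2) ≠ ⊥ :=
    (Cfsg.Agent.S3919.result hna n hG).1 h
  have hclass : Group.nilpotencyClass S = n - 1 := by
    rw [Ne, Subgroup.lowerCentralSeries_eq_bot_iff_nilpotencyClass_le] at hlcs
    have := Cfsg.Agent.Lib.Helper1.nilpotencyClass_le_of_card_pow 2 n hG (by omega)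
    omega
  have hK : IsKleinFour (S ⧸ commutator S) := (Cfsg.Agent.S0115.result n hn hG).1 hclass
  have hab4 : Nat.card (Abelianization S) = 4 := hK.card_four
  have hexp : ∀ x : Abelianization S, x ^ 2 = 1 := by
    intro x
    have := Monoid.pow_exponent_eq_one (G := S ⧸ commutator S) x
    rw [hK.exponent_two] at this
    exact this
  rcases Cfsg.Agent.S4399.result h2 hab4 hexp with h4 | ⟨k, hk⟩ | ⟨k, hcard, a, b, ha, hb, hrel⟩ |
    ⟨k, hk⟩
  · exfalso
    rw [hG] at h4
    have : (2 : ℕ) ^ 3 ≤ 2 ^ n := Nat.pow_le_pow_right (by norm_num) hn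
    omega
  · exact Or.inl ⟨k, hk⟩
  · right; left
    refine ⟨k + 3, by omega, ?_, a, b, ha, hb, ?_⟩
    · rw [hcard]
    · rw [hrel]; rfl
  · exact Or.inr (Or.inr ⟨k, hk⟩)

/-- (SYL)+(QUAT)+(CYC): in a nonabelian finite simple group with `(*)`, a Sylow `2`-subgroup is
dihedral of order `2^(k+2)` (a four-group for `k = 0`) or quasi-dihedral. -/
theorem sylow_two_cases [Finite G] [IsSimpleGroup G] (hna : ¬ IsMulCommutative G) (h : Star G)
    (S : Sylow 2 G) :
    (∃ k : ℕ, Nonempty (↥(S : Subgroup G) ≃* DihedralGroup (2 ^ (k + 1)))) ∨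
      Cfsg.IsQuasiDihedral ↥(S : Subgroup G) := by
  haveI : Fact (Nat.Prime 2) := ⟨Nat.prime_two⟩
  have h2 : 2 ∣ Nat.card G := two_dvd_card_of_star hna h
  have hS : Star ↥(S : Subgroup G) := star_subgroup h _
  have hSp : IsPGroup 2 ↥(S : Subgroup G) := S.isPGroup'
  have hncyc : ¬ IsCyclic ↥(S : Subgroup G) := by
    intro hc
    obtain ⟨P, N, hN, hcN⟩ :=
      Cfsg.Agent.S3031.result (p := 2) h2 (fun q hq _ => hq.two_le) S (Or.inl hc)
    exact false_of_normal_complement hna h2 P N hN hcN
  by_cases hab : IsMulCommutative ↥(S : Subgroup G)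
  · rcases abelian_two_group_cases hab hSp hS with hc | hK
    · exact absurd hc hncyc
    · left
      refine ⟨0, ?_⟩
      haveI := hK
      exact (IsKleinFour.nonempty_mulEquiv (G₁ := ↥(S : Subgroup G)) (G₂ := DihedralGroup 2))
  · rcases nonabelian_two_group_cases hab hSp hS with ⟨k, hk⟩ | hQD | ⟨k, ⟨e⟩⟩
    · exact Or.inl ⟨k + 1, hk⟩
    · exact Or.inr hQD
    · exfalso
      have hO : ∀ N : Subgroup G, N.Normal → Odd (Nat.card N) → N = ⊥ := by
        intro N hN hodd
        rcases hN.eq_bot_or_eq_top with h0 | h1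
        · exact h0
        · exfalso
          rw [h1, Subgroup.card_top] at hodd
          exact (Nat.not_even_iff_odd.2 hodd) (even_iff_two_dvd.2 h2)
      have hZ : Nat.card (Subgroup.center G) = 2 := Cfsg.Agent.S0201.result S k e hO
      rcases (inferInstance : (Subgroup.center G).Normal).eq_bot_or_eq_top with h0 | h1
      · rw [h0, Subgroup.card_bot] at hZ
        omega
      · apply hna
        refine ⟨⟨fun a b => ?_⟩⟩
        have ha : a ∈ Subgroup.center G := by rw [h1]; exact Subgroup.mem_top a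
        exact (Subgroup.mem_center_iff.1 ha b).symm

end Cfsg.Agent.Lib.Helper2.NCyc
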