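import Mathlib
import Cfsg.Agent.S5892
import Cfsg.Agent.S2475

set_option autoImplicit false
set_option linter.style.haveILetI false

namespace Cfsg.Agent.Lib.Helper2.NMXPB

/-- PB1 -/
theorem psl_card :
    Nat.card (Matrix.ProjectiveSpecialLinearGroup (Fin 2) (ZMod 13)) = 1092 := by
  haveI : Fact (Nat.Prime 13) := ⟨by norm_num⟩
  have h := Cfsg.Agent.Lib.Helper5.DicksonOrders.card_PSL2_mul (F := ZMod 13)
  rw [ZMod.card 13] at h
  have h2 : Nat.gcd 2 (13 - 1) = 2 := by decide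
  rw [h2] at h
  omega

/-- PB2 (from S5892) -/
theorem psl_max (M : Subgroup (Matrix.ProjectiveSpecialLinearGroup (Fin 2) (ZMod 13)))
    (hM : IsCoatom M) : Nat.card M = 78 ∨ Nat.card M = 14 ∨ Nat.card M = 12 := by
  haveI : Fact (Nat.Prime 13) := ⟨by norm_num⟩
  have hc : Fintype.card (ZMod 13) = 13 := ZMod.card 13
  have h := Cfsg.Agent.S5892.result (F := ZMod 13) 13 (by rw [hc]; decide) (by rw [hc]; norm_num)
    M hM
  rw [hc] at h
  rcases h with h | ⟨-, k, hk, ⟨e⟩⟩ | ⟨-, -, k, hk, ⟨e⟩⟩ | ⟨F₀, _, _, h1, -⟩ |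
    ⟨F₀, _, _, r, hr, hr2, h1, -⟩ | ⟨h1, -⟩ | ⟨-, -, -, ⟨e⟩⟩ | ⟨-, h1, -⟩
  · left; omega
  · right; right
    rw [Nat.card_congr e.toEquiv, DihedralGroup.nat_card]; omega
  · right; left
    rw [Nat.card_congr e.toEquiv, DihedralGroup.nat_card]; omega
  · exfalso
    have h3 : Fintype.card F₀ < 4 := by
      by_contra hh
      push Not at hh
      have : 16 ≤ Fintype.card F₀ ^ 2 := by nlinarith
      omega
    interval_cases (Fintype.card F₀) <;> omega
  · exfalso
    have hr3 : 3 ≤ r := by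
      rcases hr2 with ⟨j, hj⟩
      have := hr.two_le
      omega
    have h2 : 2 ≤ Fintype.card F₀ := by
      have := Fintype.one_lt_card (α := F₀)
      omega
    have h3 : Fintype.card F₀ < 3 := by
      by_contra hh
      push Not at hh
      have h27 : 3 ^ 3 ≤ Fintype.card F₀ ^ r :=
        le_trans (Nat.pow_le_pow_left hh 3) (Nat.pow_le_pow_right (by omega) hr3)
      omega
    have h4 : Fintype.card F₀ = 2 := by omega
    rw [h4] at h1
    have : 2 ∣ 13 := by
      rw [h1]; exact dvd_pow_self 2 (by omega)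
    omega
  · omega
  · right; right
    rw [Nat.card_congr e.toEquiv]
    have h2 := two_mul_card_alternatingGroup (α := Fin 4)
    rw [Nat.card_eq_fintype_card]
    rw [Fintype.card_perm, Fintype.card_fin] at h2
    have h24 : Nat.factorial 4 = 24 := by decide
    omega
  · omega

/-- PB3 (from S2475) -/
theorem psl_ord (g : Matrix.ProjectiveSpecialLinearGroup (Fin 2) (ZMod 13)) :
    orderOf g ∣ 13 ∨ orderOf g ∣ 6 ∨ orderOf g ∣ 7 := by
  haveI : Fact (Nat.Prime 13) := ⟨by norm_num⟩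
  have hc : Fintype.card (ZMod 13) = 13 := ZMod.card 13
  have h := Cfsg.Agent.S2475.result (F := ZMod 13) 13 (by rw [hc]; norm_num)
  rw [hc] at h
  have hg : orderOf g ∈ Set.range
      (orderOf : Matrix.ProjectiveSpecialLinearGroup (Fin 2) (ZMod 13) → ℕ) := ⟨g, rfl⟩
  rw [h] at hg
  have e1 : (13 - 1) / Nat.gcd 2 (13 - 1) = 6 := by decide
  have e2 : (13 + 1) / Nat.gcd 2 (13 - 1) = 7 := by decide
  simp only [Set.mem_ofPred_eq, e1, e2] at hg
  exact hg

/-- PB4 (from S2475) -/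
theorem psl_six : ∃ g : Matrix.ProjectiveSpecialLinearGroup (Fin 2) (ZMod 13), orderOf g = 6 := by
  haveI : Fact (Nat.Prime 13) := ⟨by norm_num⟩
  have hc : Fintype.card (ZMod 13) = 13 := ZMod.card 13
  have h := Cfsg.Agent.S2475.result (F := ZMod 13) 13 (by rw [hc]; norm_num)
  rw [hc] at h
  have e1 : (13 - 1) / Nat.gcd 2 (13 - 1) = 6 := by decide
  have h6 : (6 : ℕ) ∈ Set.range
      (orderOf : Matrix.ProjectiveSpecialLinearGroup (Fin 2) (ZMod 13) → ℕ) := by
    rw [h]
    simp only [Set.mem_ofPred_eq, e1]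
    right; left; exact dvd_rfl
  exact h6

end Cfsg.Agent.Lib.Helper2.NMXPB
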