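import Cfsg.Agent.Lib.Helper2.StrongInv1
import Cfsg.Agent.Lib.Helper8.WC6b

set_option autoImplicit false

namespace Cfsg.Agent.Lib.Helper2.StrongInv

open Cfsg Cfsg.FusionSystem Cfsg.Agent.Lib.Helper9

variable {Ω : Type*} [Group Ω] {S : Subgroup Ω}

section Main

variable [Finite S] {p : ℕ} [Fact p.Prime] {F : FusionSystem S} {T : Subgroup Ω}
  {E : FusionSystem T}

/-- restriction to `P` of a map defined on `N_S(P)` factorizes, by induction -/
theorem Fr.of_normalizer_hom (hS : IsPGroup p S) (hTS : T ≤ S) {P : Subgroup Ω}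
    (hIH : ∀ P₁ : Subgroup Ω, P₁ ≤ T → Nat.card P < Nat.card P₁ →
      ∀ φ ∈ F.Hom P₁, Fr F E P₁ φ) (hlt : P < T)
    {χ : ↥(normalizerIn S P) →* Ω} (hχ : χ ∈ F.Hom (normalizerIn S P)) :
    Fr F E P (χ.comp (Subgroup.inclusion (self_le_normalizerIn' (hlt.le.trans hTS)))) := by
  haveI : Finite T := finite_of_le hTS
  have hNN : normalizerIn T P ≤ normalizerIn S P := inf_le_inf_right _ hTS
  have hPN : P ≤ normalizerIn T P := le_inf hlt.le Subgroup.le_normalizer
  have hNT : normalizerIn T P ≤ T := inf_le_left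
  obtain ⟨g, hgN, hgP⟩ := exists_mem_normalizerIn_not_mem (S := T) (isPGroup_of_le hS hTS) hlt
  haveI : Finite ↥(normalizerIn T P) := finite_of_le (hNT.trans hTS)
  have hPltN : P < normalizerIn T P := lt_of_le_of_ne hPN (fun h => hgP (h ▸ hgN))
  have hcard : Nat.card P < Nat.card ↥(normalizerIn T P) := card_lt_of_lt' hPltN
  have h1 := hIH _ hNT hcard _ (restrict_mem F hχ hNN)
  have h2 := h1.restrict hPN
  have e : (χ.comp (Subgroup.inclusion hNN)).comp (Subgroup.inclusion hPN) =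
      χ.comp (Subgroup.inclusion (self_le_normalizerIn' (hlt.le.trans hTS))) :=
    MonoidHom.ext fun x => rfl
  rw [e] at h2
  exact h2

/-- all automorphisms of a fully normalized proper subgroup of `T` factorize, by induction -/
theorem Fr.of_autGroup (hS : IsPGroup p S) (hF : F.IsSaturated p) (hE : E.IsSubsystemOf F)
    (hTS : T ≤ S) (hSI : SI F E) (hInv : Inv F E) {P : Subgroup Ω} (hlt : P < T)
    (hPn : F.IsFullyNormalized P)
    (hIH : ∀ P₁ : Subgroup Ω, P₁ ≤ T → Nat.card P < Nat.card P₁ →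
      ∀ φ ∈ F.Hom P₁, Fr F E P₁ φ)
    (β : MulAut P) (hβ : β ∈ F.autGroup P) : Fr F E P (P.subtype.comp β.toMonoidHom) := by
  have hPT : P ≤ T := hlt.le
  have hPS : P ≤ S := hPT.trans hTS
  haveI : Finite P := finite_of_le hPS
  haveI : Finite T := finite_of_le hTS
  have hfa := fullyAutomized_of_fullyNormalized hS F hF hPn
  have hfc := fullyCentralized_of_fullyNormalized hS F hF hPn
  have hrec := receptive_of_fullyCentralized hS F hF hfc
  obtain ⟨-, R, hR⟩ := hfa
  have hKA : E.autGroup P ≤ F.autGroup P := Subgroup.closure_mono (fun α hα => hE P hα)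
  have hKn : ((E.autGroup P).subgroupOf (F.autGroup P)).Normal := by
    refine ⟨fun k hk a => ?_⟩
    rw [Subgroup.mem_subgroupOf] at hk ⊢
    have hkE := hom_of_mem_autGroup E hPT hk
    have haF := hom_of_mem_autGroup F hPS a.2
    obtain ⟨χ, hχ, hχe⟩ := hSI P P le_rfl hPT _ hkE (fun x => ((k : MulAut P) x).2) _ haF
    have hD : (P.subgroupOf P).map (P.subtype.comp (a : MulAut P).toMonoidHom) = P := by
      ext y
      constructor
      · rintro ⟨x, -, rfl⟩
        exact ((a : MulAut P) x).2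
      · intro hy
        refine ⟨(a : MulAut P)⁻¹ ⟨y, hy⟩, Subgroup.mem_subgroupOf.mpr (SetLike.coe_mem _), ?_⟩
        show (((a : MulAut P) ((a : MulAut P)⁻¹ ⟨y, hy⟩) : P) : Ω) = y
        rw [MulAut.apply_inv_self]
    obtain ⟨χ', hχ', hχ'e⟩ := transport_hom E hD hχ
    rw [mem_autGroup_iff E hPT]
    have e : P.subtype.comp ((a * k * a⁻¹ : ↥(F.autGroup P)) : MulAut P).toMonoidHom = χ' := by
      ext y
      show (((a : MulAut P) ((k : MulAut P) ((a : MulAut P)⁻¹ y)) : P) : Ω) = χ' y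
      have hy1 : (y : Ω) ∈ (P.subgroupOf P).map (P.subtype.comp (a : MulAut P).toMonoidHom) := by
        rw [hD]; exact y.2
      have hx1 : (P.subtype.comp (a : MulAut P).toMonoidHom)
          (Subgroup.inclusion le_rfl ((a : MulAut P)⁻¹ y)) ∈
          (P.subgroupOf P).map (P.subtype.comp (a : MulAut P).toMonoidHom) := by
        rw [hD]; exact ((a : MulAut P) _).2
      have e1 := hχe ((a : MulAut P)⁻¹ y) hx1
      have e2 : χ' y = χ ⟨(y : Ω), hy1⟩ := hχ'e y hy1 y.2
      rw [e2]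
      refine Eq.trans e1.symm ?_
      congr 1
      apply Subtype.ext
      show (((a : MulAut P) ((a : MulAut P)⁻¹ y) : P) : Ω) = y
      rw [MulAut.apply_inv_self]
    rw [e]
    exact hχ'
  haveI := hKn
  have hfr := Cfsg.Agent.Lib.Helper8.WC.frattini_inf_normal R
    ((E.autGroup P).subgroupOf (F.autGroup P))
  have hb : (⟨β, hβ⟩ : ↥(F.autGroup P)) ∈ (⊤ : Subgroup ↥(F.autGroup P)) := Subgroup.mem_top _
  rw [← hfr, Subgroup.mem_sup_of_normal_right] at hb
  obtain ⟨n, hn, k, hk, hnk⟩ := hb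
  have hFrk : Fr F E P (P.subtype.comp (k : MulAut P).toMonoidHom) :=
    Fr.of_mem (hom_of_mem_autGroup E hPT (Subgroup.mem_subgroupOf.mp hk))
  have hFrn : Fr F E P (P.subtype.comp (n : MulAut P).toMonoidHom) := by
    have hNX : normalizerIn T P ≤ extender S P (P.subtype.comp (n : MulAut P).toMonoidHom) := by
      intro g hg
      have hgS : g ∈ normalizerIn S P := ⟨hTS hg.1, hg.2⟩
      obtain ⟨tg, htg⟩ : ∃ tg : MulAut P, ∀ x : P, ((tg x : P) : Ω) = g * x * g⁻¹ :=
        ⟨conjAut P ⟨g, hg.2⟩, fun x => rfl⟩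
      have htgT : tg ∈ autInducedBy T P := (mem_autInducedBy_iff T P tg).mpr ⟨g, hg.1, htg⟩
      have htgS : tg ∈ autInducedBy S P :=
        (mem_autInducedBy_iff S P tg).mpr ⟨g, hTS hg.1, htg⟩
      have htgE : tg ∈ E.autGroup P := autInducedBy_le_autGroup E hPT htgT
      have htgF : tg ∈ F.autGroup P := hKA htgE
      have hmem : (⟨tg, htgF⟩ : ↥(F.autGroup P)) ∈
          (R : Subgroup ↥(F.autGroup P)) ⊓ (E.autGroup P).subgroupOf (F.autGroup P) := by
        refine ⟨?_, Subgroup.mem_subgroupOf.mpr htgE⟩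
        rw [hR]
        exact Subgroup.mem_subgroupOf.mpr htgS
      have hconj := (Subgroup.mem_normalizer_iff.mp hn ⟨tg, htgF⟩).mp hmem
      have h3 : ((n * ⟨tg, htgF⟩ * n⁻¹ : ↥(F.autGroup P)) : MulAut P) ∈ autInducedBy S P := by
        have h4 := hconj.1
        rw [hR] at h4
        exact Subgroup.mem_subgroupOf.mp h4
      obtain ⟨h, hhS, hh⟩ := (mem_autInducedBy_iff S P _).mp h3
      apply mem_extender_of_conj (n : MulAut P) hgS hhS
      intro x hx
      have e := hh ((n : MulAut P) x)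
      rw [← e]
      show (((n : MulAut P) ⟨g * x * g⁻¹, hx⟩ : P) : Ω) =
        (((n : MulAut P) (tg ((n : MulAut P)⁻¹ ((n : MulAut P) x))) : P) : Ω)
      rw [MulAut.inv_apply_self]
      have e6 : (⟨g * x * g⁻¹, hx⟩ : P) = tg x := Subtype.ext (htg x).symm
      rw [e6]
    have hrange : (P.subtype.comp (n : MulAut P).toMonoidHom).range = P := by
      apply le_antisymm
      · rintro _ ⟨x, rfl⟩
        exact ((n : MulAut P) x).2
      · intro y hy
        refine ⟨(n : MulAut P)⁻¹ ⟨y, hy⟩, ?_⟩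
        show (((n : MulAut P) ((n : MulAut P)⁻¹ ⟨y, hy⟩) : P) : Ω) = y
        rw [MulAut.apply_inv_self]
    obtain ⟨ψ, hψ, hψe⟩ := hrec.2 P _ (hom_of_mem_autGroup F hPS n.2) hrange
    have hPN : P ≤ normalizerIn T P := le_inf hPT Subgroup.le_normalizer
    have hNT : normalizerIn T P ≤ T := inf_le_left
    obtain ⟨g, hgN, hgP⟩ := exists_mem_normalizerIn_not_mem (S := T) (isPGroup_of_le hS hTS) hlt
    haveI : Finite ↥(normalizerIn T P) := finite_of_le (hNT.trans hTS)
    have hPltN : P < normalizerIn T P := lt_of_le_of_ne hPN (fun h => hgP (h ▸ hgN))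
    have hcard : Nat.card P < Nat.card ↥(normalizerIn T P) := card_lt_of_lt' hPltN
    have h1 := hIH _ hNT hcard _ (restrict_mem F hψ hNX)
    have h2 := h1.restrict hPN
    have e : (ψ.comp (Subgroup.inclusion hNX)).comp (Subgroup.inclusion hPN) =
        P.subtype.comp (n : MulAut P).toMonoidHom := by
      ext x
      exact hψe x x.2 (hNX (hPN x.2))
    rw [e] at h2
    exact h2
  have hm : ∀ x : P, (P.subtype.comp (k : MulAut P).toMonoidHom) x ∈ P :=
    fun x => ((k : MulAut P) x).2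
  have hFr := Fr.comp hInv hFrk hFrn hm
  have e : (P.subtype.comp (n : MulAut P).toMonoidHom).comp
      ((P.subtype.comp (k : MulAut P).toMonoidHom).codRestrict P hm) =
      P.subtype.comp β.toMonoidHom := by
    have hβnk : β = (n : MulAut P) * (k : MulAut P) := (congrArg Subtype.val hnk).symm
    rw [hβnk]
    ext x
    rfl
  rw [e] at hFr
  exact hFr

/-- the Frattini condition from strong invariance -/
theorem frattini_of_SI (hS : IsPGroup p S) (hF : F.IsSaturated p) (hE : E.IsSubsystemOf F)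
    (hT : F.StronglyClosed T) (hSI : SI F E) :
    ∀ (n : ℕ) (P : Subgroup Ω), P ≤ T → Nat.card T - Nat.card P = n →
      ∀ φ ∈ F.Hom P, Fr F E P φ := by
  have hTS : T ≤ S := hT.1
  have hInv : Inv F E := inv_of_SI hTS hSI
  haveI : Finite T := finite_of_le hTS
  intro n
  induction n using Nat.strong_induction_on with
  | _ n ih =>
    intro P hPT hn φ hφ
    have hIH : ∀ P₁ : Subgroup Ω, P₁ ≤ T → Nat.card P < Nat.card P₁ →
        ∀ φ ∈ F.Hom P₁, Fr F E P₁ φ := by
      intro P₁ hP₁ hlt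
      have hle : Nat.card P₁ ≤ Nat.card T := Subgroup.card_le_of_le hP₁
      exact ih (Nat.card T - Nat.card P₁) (by omega) P₁ hP₁ rfl
    have hPS : P ≤ S := hPT.trans hTS
    haveI : Finite P := finite_of_le hPS
    obtain ⟨P', hP'⟩ : ∃ P', φ.range = P' := ⟨_, rfl⟩
    have hP'T : P' ≤ T := by
      rw [← hP']
      rintro _ ⟨x, rfl⟩
      exact hT.2 P hPT φ hφ x
    have hcardP' : Nat.card P' = Nat.card P := (card_eq_of_isConj F ⟨φ, hφ, hP'⟩).symm
    by_cases hPeq : P = T
    · have hr : φ.range = P := by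
        rw [hP']
        haveI : Finite P' := finite_of_le (hP'T.trans hTS)
        rw [hPeq]
        apply Subgroup.eq_of_le_of_card_ge hP'T
        rw [hcardP', hPeq]
      obtain ⟨α, hα, hαφ⟩ := exists_aut_of_hom F hφ hr
      subst hPeq
      exact ⟨α, hα, P.subtype, subtype_mem E le_rfl, fun x hx => (hαφ x).symm⟩
    · have hlt : P < T := lt_of_le_of_ne hPT hPeq
      obtain ⟨Pn, hPPn, hPnn⟩ := exists_isConj_fullyNormalized F hPS
      have hfa := fullyAutomized_of_fullyNormalized hS F hF hPnn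
      have hfc := fullyCentralized_of_fullyNormalized hS F hF hPnn
      have hrec := receptive_of_fullyCentralized hS F hF hfc
      have hP'Pn : F.IsConj P' Pn := isConj_trans F (isConj_symm F ⟨φ, hφ, hP'⟩) hPPn
      obtain ⟨χ, hχ, -, hχm⟩ := exists_normalizer_hom hS F Pn P hfa hrec hPPn
      obtain ⟨χ', hχ', -, hχ'm⟩ := exists_normalizer_hom hS F Pn P' hfa hrec hP'Pn
      have hcardPn : Nat.card Pn = Nat.card P := (card_eq_of_isConj F hPPn).symm
      have hcardlt : Nat.card P < Nat.card T := card_lt_of_lt' hlt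
      have hP'lt : P' < T := by
        refine lt_of_le_of_ne hP'T ?_
        intro h
        rw [h] at hcardP'
        omega
      have hPnT : Pn ≤ T := by
        obtain ⟨ρ, hρ, hρr⟩ := hPPn
        rw [← hρr]
        rintro _ ⟨x, rfl⟩
        exact hT.2 P hPT ρ hρ x
      have hPnlt : Pn < T := by
        refine lt_of_le_of_ne hPnT ?_
        intro h
        rw [h] at hcardPn
        omega
      have hIH' : ∀ P₁ : Subgroup Ω, P₁ ≤ T → Nat.card P' < Nat.card P₁ →
          ∀ φ ∈ F.Hom P₁, Fr F E P₁ φ := by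
        rw [hcardP']; exact hIH
      have hIHn : ∀ P₁ : Subgroup Ω, P₁ ≤ T → Nat.card Pn < Nat.card P₁ →
          ∀ φ ∈ F.Hom P₁, Fr F E P₁ φ := by
        rw [hcardPn]; exact hIH
      have hPN := self_le_normalizerIn' (S := S) hPS
      have hP'N := self_le_normalizerIn' (S := S) (hP'T.trans hTS)
      have hFrχ₀ : Fr F E P (χ.comp (Subgroup.inclusion hPN)) :=
        Fr.of_normalizer_hom hS hTS hIH hlt hχ
      have hFrχ'₀ : Fr F E P' (χ'.comp (Subgroup.inclusion hP'N)) :=
        Fr.of_normalizer_hom hS hTS hIH' hP'lt hχ'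
      have hχ₀mem := restrict_mem F hχ hPN
      have hχ'₀mem := restrict_mem F hχ' hP'N
      have hχ₀r : (χ.comp (Subgroup.inclusion hPN)).range = Pn := by
        rw [range_comp_inclusion]; exact hχm
      have hχ'₀r : (χ'.comp (Subgroup.inclusion hP'N)).range = Pn := by
        rw [range_comp_inclusion]; exact hχ'm
      obtain ⟨θ, hθ, hθχ, hθr, -⟩ := inv_hom F hχ₀mem hχ₀r
      obtain ⟨θ', hθ', hθ'χ', hθ'r, -⟩ := inv_hom F hχ'₀mem hχ'₀r
      have hFrθ' : Fr F E Pn θ' := Fr.inv hInv hFrχ'₀ hχ'₀r hθ'χ'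
      have h1 : ∀ y : Pn, θ y ∈ P := fun y => hθr.le ⟨y, rfl⟩
      obtain ⟨β₁, hβ₁, hβ₁e⟩ := comp_hom F hθ hφ h1
      have h2 : ∀ y : Pn, β₁ y ∈ P' := fun y => by
        rw [hβ₁e]; exact hP'.le ⟨_, rfl⟩
      obtain ⟨β, hβ, hβe⟩ := comp_hom F hβ₁ hχ'₀mem h2
      haveI : Finite Pn := finite_of_le (hPnT.trans hTS)
      have hβr : β.range = Pn := by
        apply Subgroup.eq_of_le_of_card_ge
        · rintro _ ⟨y, rfl⟩
          rw [hβe]
          exact hχ'₀r.le ⟨_, rfl⟩
        · exact (Nat.card_congr (MonoidHom.ofInjective (F.injective_of_mem hβ)).toEquiv).le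
      obtain ⟨βa, hβa, hβae⟩ := exists_aut_of_hom F hβ hβr
      have hFrβ : Fr F E Pn (Pn.subtype.comp βa.toMonoidHom) :=
        Fr.of_autGroup hS hF hE hTS hSI hInv hPnlt hPnn hIHn βa hβa
      have hm1 : ∀ x : P, (χ.comp (Subgroup.inclusion hPN)) x ∈ Pn :=
        fun x => hχ₀r.le ⟨x, rfl⟩
      have hFr1 := Fr.comp hInv hFrχ₀ hFrβ hm1
      have hm2 : ∀ x : P, ((Pn.subtype.comp βa.toMonoidHom).comp
          ((χ.comp (Subgroup.inclusion hPN)).codRestrict Pn hm1)) x ∈ Pn :=
        fun x => (βa _).2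
      have hFr2 := Fr.comp hInv hFr1 hFrθ' hm2
      have e : θ'.comp (((Pn.subtype.comp βa.toMonoidHom).comp
          ((χ.comp (Subgroup.inclusion hPN)).codRestrict Pn hm1)).codRestrict Pn hm2) = φ := by
        ext x
        have hφxP' : φ x ∈ P' := hP'.le ⟨x, rfl⟩
        have e1 : ((βa ⟨(χ.comp (Subgroup.inclusion hPN)) x, hm1 x⟩ : Pn) : Ω) =
            (χ'.comp (Subgroup.inclusion hP'N)) ⟨φ x, hφxP'⟩ := by
          rw [hβae, hβe]
          congr 1
          apply Subtype.ext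
          show β₁ ⟨(χ.comp (Subgroup.inclusion hPN)) x, hm1 x⟩ = φ x
          rw [hβ₁e]
          congr 1
          apply Subtype.ext
          exact hθχ x _
        show θ' ⟨((βa ⟨(χ.comp (Subgroup.inclusion hPN)) x, hm1 x⟩ : Pn) : Ω), hm2 x⟩ = φ x
        have e2 : (⟨((βa ⟨(χ.comp (Subgroup.inclusion hPN)) x, hm1 x⟩ : Pn) : Ω), hm2 x⟩ : Pn) =
            ⟨(χ'.comp (Subgroup.inclusion hP'N)) ⟨φ x, hφxP'⟩, hχ'₀r.le ⟨_, rfl⟩⟩ :=
          Subtype.ext e1
        rw [e2]
        exact hθ'χ' ⟨φ x, hφxP'⟩ _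
      rw [e] at hFr2
      exact hFr2

end Main

end Cfsg.Agent.Lib.Helper2.StrongInv
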