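import Cfsg.Agent.Lib.Helper9.RealizedFactor
import Cfsg.Agent.Lib.Helper9.SubgroupSystem3
import Cfsg.Agent.Lib.Helper9.QuotFusionLift
import Cfsg.Agent.Lib.Helper2.KNorm1
import Cfsg.Agent.S5119

set_option autoImplicit false

namespace Cfsg.Agent.Lib.Helper2.NSys

open Cfsg Cfsg.FusionSystem Cfsg.Agent.Lib.Helper9

variable {Ω : Type*} [Group Ω] {S : Subgroup Ω} {G : Type*} [Group G]

/-- a system realized by a finite group on a Sylow subgroup is saturated -/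
theorem saturated_of_realized [Finite G] (p : ℕ) [Fact p.Prime] (F : FusionSystem S) (ι : S →* G)
    (hι : F.IsRealizedBy ι) (Sy : Sylow p G) (hSy : (Sy : Subgroup G) = ι.range) :
    F.IsSaturated p := by
  obtain ⟨θ, hθ⟩ := exists_isFactorSystem_of_isRealizedBy F ι hι (Sy : Subgroup G) hSy
  exact factorSystem_saturated p Sy.isPGroup' (groupFusionSystem (Sy : Subgroup G))
    (groupFusion_saturated Sy) (stronglyClosed_bot _) θ F hθ

/-- the subsystem of `F` over `ι⁻¹(N)` of the maps induced by elements of the normal subgroup `N` -/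
def nsys (F : FusionSystem S) (ι : S →* G) (N : Subgroup G) [hN : N.Normal] :
    FusionSystem (preimageAlong ι N) where
  Hom P := {φ | φ ∈ F.Hom P ∧ P ≤ preimageAlong ι N ∧
    ∃ n ∈ N, ∀ (x : P) (hx : (x : Ω) ∈ S) (hφx : φ x ∈ S), ι ⟨φ x, hφx⟩ = n * ι ⟨x, hx⟩ * n⁻¹}
  le_of_mem := by
    rintro P φ ⟨hφ, hP, n, hn, he⟩
    refine ⟨hP, fun x => ?_⟩
    rw [mem_preimageAlong]
    refine ⟨hom_mem F hφ x, ?_⟩
    rw [he x (hom_le F hφ x.2) (hom_mem F hφ x)]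
    obtain ⟨_, hxN⟩ := (mem_preimageAlong ι N x).mp (hP x.2)
    exact hN.conj_mem _ hxN n
  injective_of_mem h := F.injective_of_mem h.1
  conj_mem := by
    intro P g hP hg
    have hgS : g ∈ S := preimageAlong_le ι N hg
    obtain ⟨_, hgN⟩ := (mem_preimageAlong ι N g).mp hg
    refine ⟨F.conj_mem (hP.trans (preimageAlong_le ι N)) hgS, hP, ι ⟨g, hgS⟩, hgN, ?_⟩
    intro x hx hφx
    have e : (⟨conjHom P g x, hφx⟩ : S) = ⟨g, hgS⟩ * ⟨x, hx⟩ * (⟨g, hgS⟩ : S)⁻¹ := Subtype.ext rfl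
    rw [e, map_mul, map_mul, map_inv]
  comp_mem := by
    rintro P Q φ ψ ⟨hφ, hP, n₁, hn₁, he₁⟩ ⟨hψ, hQ, n₂, hn₂, he₂⟩ h
    refine ⟨F.comp_mem hφ hψ h, hP, n₂ * n₁, N.mul_mem hn₂ hn₁, ?_⟩
    intro x hx hφx
    have hφxS : φ x ∈ S := hom_mem F hφ x
    have h1 := he₂ ⟨φ x, h x⟩ hφxS hφx
    have h2 := he₁ x hx hφxS
    have h3 : ι ⟨(ψ.comp (φ.codRestrict Q h)) x, hφx⟩ = ι ⟨ψ ⟨φ x, h x⟩, hφx⟩ := rfl
    rw [h3, h1, h2]
    group
  inv_mem := by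
    rintro P φ ⟨hφ, hP, n, hn, he⟩
    obtain ⟨ψ, hψ, hψφ⟩ := F.inv_mem hφ
    have hPS : P ≤ S := hom_le F hφ
    refine ⟨ψ, ⟨hψ, ?_, n⁻¹, N.inv_mem hn, ?_⟩, hψφ⟩
    · rintro _ ⟨x, rfl⟩
      rw [mem_preimageAlong]
      refine ⟨hom_mem F hφ x, ?_⟩
      rw [he x (hPS x.2) (hom_mem F hφ x)]
      obtain ⟨_, hxN⟩ := (mem_preimageAlong ι N x).mp (hP x.2)
      exact hN.conj_mem _ hxN n
    · rintro ⟨_, x, rfl⟩ hx hψx
      have e : (⟨ψ ⟨φ x, ⟨x, rfl⟩⟩, hψx⟩ : S) = ⟨x, hPS x.2⟩ := Subtype.ext (hψφ x)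
      rw [e, he x (hPS x.2) hx]
      group

theorem nsys_subsystem (F : FusionSystem S) (ι : S →* G) (N : Subgroup G) [N.Normal] :
    (nsys F ι N).IsSubsystemOf F := fun _ _ h => h.1

theorem pre_stronglyClosed (F : FusionSystem S) (ι : S →* G) (hreal : F.IsRealizedBy ι)
    (N : Subgroup G) [hN : N.Normal] : F.StronglyClosed (preimageAlong ι N) := by
  refine ⟨preimageAlong_le ι N, ?_⟩
  intro R hR φ hφ x
  have hRS := hom_le F hφ
  have hφS := fun x => hom_mem F hφ x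
  obtain ⟨g, hg⟩ := (hreal.2 R hRS φ hφS).mp hφ
  rw [mem_preimageAlong]
  refine ⟨hφS x, ?_⟩
  rw [hg x]
  obtain ⟨_, hxN⟩ := (mem_preimageAlong ι N x).mp (hR x.2)
  exact hN.conj_mem _ hxN g

/-- the strong invariance condition for `nsys` -/
theorem nsys_SI (F : FusionSystem S) (ι : S →* G) (hreal : F.IsRealizedBy ι)
    (N : Subgroup G) [hN : N.Normal] :
    ∀ (P Q : Subgroup Ω) (hPQ : P ≤ Q) (_ : Q ≤ preimageAlong ι N) (φ : P →* Ω)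
      (_ : φ ∈ (nsys F ι N).Hom P) (hφQ : ∀ x : P, φ x ∈ Q) (ψ : Q →* Ω) (_ : ψ ∈ F.Hom Q),
      ∃ χ ∈ (nsys F ι N).Hom ((P.subgroupOf Q).map ψ),
        ∀ (x : P) (hx : ψ (Subgroup.inclusion hPQ x) ∈ (P.subgroupOf Q).map ψ),
          χ ⟨ψ (Subgroup.inclusion hPQ x), hx⟩ = ψ ⟨φ x, hφQ x⟩ := by
  intro P Q hPQ hQT φ hφE hφQ ψ hψ
  obtain ⟨hφ, hPT, n, hn, he⟩ := hφE
  have hQS : Q ≤ S := hom_le F hψ
  have hψS := fun y => hom_mem F hψ y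
  obtain ⟨g, hg⟩ := (hreal.2 Q hQS ψ hψS).mp hψ
  have hψP : ψ.comp (Subgroup.inclusion hPQ) ∈ F.Hom P := restrict_mem F hψ hPQ
  have hr : (ψ.comp (Subgroup.inclusion hPQ)).range = (P.subgroupOf Q).map ψ := by
    ext y
    constructor
    · rintro ⟨x, rfl⟩
      exact ⟨Subgroup.inclusion hPQ x, Subgroup.mem_subgroupOf.mpr x.2, rfl⟩
    · rintro ⟨z, hz, rfl⟩
      exact ⟨⟨z, Subgroup.mem_subgroupOf.mp hz⟩, rfl⟩
  obtain ⟨θ, hθ, hθψ, hθr, -⟩ := inv_hom F hψP hr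
  have h1 : ∀ y, θ y ∈ P := fun y => hθr.le ⟨y, rfl⟩
  obtain ⟨γ₁, hγ₁, hγ₁e⟩ := comp_hom F hθ hφ h1
  have h2 : ∀ y, γ₁ y ∈ Q := fun y => by
    rw [hγ₁e]
    exact hφQ _
  obtain ⟨γ, hγ, hγe⟩ := comp_hom F hγ₁ hψ h2
  have hTsc := pre_stronglyClosed F ι hreal N
  have hP₂T : (P.subgroupOf Q).map ψ ≤ preimageAlong ι N := by
    rintro _ ⟨z, hz, rfl⟩
    exact map_mem_of_stronglyClosed F hTsc hψ z (hQT z.2)
  have hkey : ∀ (x : P) (hx : ψ (Subgroup.inclusion hPQ x) ∈ (P.subgroupOf Q).map ψ),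
      γ ⟨ψ (Subgroup.inclusion hPQ x), hx⟩ = ψ ⟨φ x, hφQ x⟩ := by
    intro x hx
    rw [hγe]
    have e1 : θ ⟨ψ (Subgroup.inclusion hPQ x), hx⟩ = x := hθψ x hx
    have e2 : γ₁ ⟨ψ (Subgroup.inclusion hPQ x), hx⟩ = φ x := by
      rw [hγ₁e]
      exact congrArg φ (Subtype.ext e1)
    exact congrArg ψ (Subtype.ext e2)
  refine ⟨γ, ⟨hγ, hP₂T, g * n * g⁻¹, hN.conj_mem n hn g, ?_⟩, hkey⟩
  rintro ⟨_, z, hz, rfl⟩ hyS hγyS
  have hzP : (z : Ω) ∈ P := Subgroup.mem_subgroupOf.mp hz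
  have hk := hkey ⟨z, hzP⟩ ⟨z, hz, rfl⟩
  have e3 : (⟨γ ⟨ψ z, ⟨z, hz, rfl⟩⟩, hγyS⟩ : S) =
      ⟨ψ ⟨φ ⟨z, hzP⟩, hφQ _⟩, hψS _⟩ := Subtype.ext hk
  rw [e3, hg, hg z, he ⟨z, hzP⟩ (hQS z.2) (hQS (hφQ _))]
  group

/-- the restriction of `ι` to `ι⁻¹(N)`, with values in `N` -/
def resι (ι : S →* G) (N : Subgroup G) : ↥(preimageAlong ι N) →* ↥N :=
  (ι.comp (Subgroup.inclusion (preimageAlong_le ι N))).codRestrict N
    (fun x => map_mem_of_mem_preimageAlong ι N x)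

theorem resι_coe (ι : S →* G) (N : Subgroup G) (x : ↥(preimageAlong ι N)) :
    ((resι ι N x : ↥N) : G) = ι ⟨x, preimageAlong_le ι N x.2⟩ := rfl

theorem nsys_realized (F : FusionSystem S) (ι : S →* G) (hreal : F.IsRealizedBy ι)
    (N : Subgroup G) [hN : N.Normal] : (nsys F ι N).IsRealizedBy (resι ι N) := by
  have hTS := preimageAlong_le ι N
  refine ⟨?_, ?_⟩
  · intro a b hab
    have h1 : ι ⟨a, hTS a.2⟩ = ι ⟨b, hTS b.2⟩ := congrArg Subtype.val hab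
    have h2 := hreal.1 h1
    exact Subtype.ext (congrArg (fun s : S => (s : Ω)) h2)
  · intro P hP φ hφ
    constructor
    · rintro ⟨hφF, -, n, hn, he⟩
      refine ⟨⟨n, hn⟩, fun x => ?_⟩
      apply Subtype.ext
      exact he x (hTS (hP x.2)) (hTS (hφ x))
    · rintro ⟨n, h⟩
      refine ⟨?_, hP, (n : G), n.2, ?_⟩
      · rw [hreal.2 P (hP.trans hTS) φ (fun x => hTS (hφ x))]
        exact ⟨(n : G), fun x => congrArg Subtype.val (h x)⟩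
      · intro x hx hφx
        exact congrArg Subtype.val (h x)

theorem resι_range (ι : S →* G) (N : Subgroup G) (A : Subgroup G) (hA : A = ι.range) :
    (resι ι N).range = (A ⊓ N).subgroupOf N := by
  subst hA
  ext y
  rw [Subgroup.mem_subgroupOf]
  constructor
  · rintro ⟨x, rfl⟩
    exact ⟨⟨_, rfl⟩, (resι ι N x).2⟩
  · rintro ⟨⟨s, hs⟩, hyN⟩
    have hsT : (s : Ω) ∈ preimageAlong ι N := by
      rw [mem_preimageAlong]
      refine ⟨s.2, ?_⟩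
      have : (⟨(s : Ω), s.2⟩ : S) = s := rfl
      rw [this, hs]
      exact hyN
    refine ⟨⟨s, hsT⟩, ?_⟩
    apply Subtype.ext
    rw [resι_coe]
    exact hs

theorem nsys_saturated [Finite G] (p : ℕ) [Fact p.Prime] (F : FusionSystem S) (ι : S →* G)
    (hreal : F.IsRealizedBy ι) (Sy : Sylow p G) (hSy : (Sy : Subgroup G) = ι.range)
    (N : Subgroup G) [hN : N.Normal] : (nsys F ι N).IsSaturated p := by
  obtain ⟨R, hR⟩ := Cfsg.Agent.Lib.Helper2.exists_sylow_eq_inf_normal Sy N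
  exact saturated_of_realized p (nsys F ι N) (resι ι N) (nsys_realized F ι hreal N) R
    (hR.trans (resι_range ι N _ hSy).symm)

end Cfsg.Agent.Lib.Helper2.NSys
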