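import Cfsg.Agent.Lib.Helper2.NSys1

set_option autoImplicit false

namespace Cfsg.Agent.Lib.Helper2.NSys

open Cfsg Cfsg.FusionSystem Cfsg.Agent.Lib.Helper9 Cfsg.Agent.Lib.Helper2.KNorm

variable {Ω : Type*} [Group Ω] {S : Subgroup Ω} {G : Type*} [Group G]

/-- pull back conjugation by an element normalizing the image of an injective homomorphism -/
theorem exists_pullback_conj' {A : Type*} [Group A] (θ : A →* G) (hinj : Function.Injective θ)
    {g : G} (hg : g ∈ Subgroup.normalizer ((θ.range : Subgroup G) : Set G)) :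
    ∃ α : MulAut A, ∀ x : A, θ (α x) = g * θ x * g⁻¹ := by
  obtain ⟨e, he⟩ : ∃ e : A ≃* θ.range, ∀ x : A, ((e x : θ.range) : G) = θ x :=
    ⟨MonoidHom.ofInjective hinj, fun x => MonoidHom.ofInjective_apply hinj⟩
  refine ⟨(MulAut.congr e).symm (conjAut θ.range ⟨g, hg⟩), fun x => ?_⟩
  show θ (e.symm (conjAut θ.range ⟨g, hg⟩ (e x))) = g * θ x * g⁻¹
  rw [← he, MulEquiv.apply_symm_apply, conjAut_apply, he]

theorem imageAlong_pre (ι : S →* G) (N : Subgroup G) :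
    imageAlong ι (preimageAlong ι N) = ι.range ⊓ N := by
  ext y
  rw [mem_imageAlong]
  constructor
  · rintro ⟨x, hxS, hxT, rfl⟩
    obtain ⟨hx', hxN⟩ := (mem_preimageAlong ι N x).mp hxT
    exact ⟨⟨_, rfl⟩, hxN⟩
  · rintro ⟨⟨s, rfl⟩, hN⟩
    refine ⟨s, s.2, ?_, rfl⟩
    rw [mem_preimageAlong]
    exact ⟨s.2, hN⟩

theorem imageAlong_centralizerIn (ι : S →* G) (hinj : Function.Injective ι) {T : Subgroup Ω}
    (hTS : T ≤ S) :
    imageAlong ι (centralizerIn S T) = centralizerIn ι.range (imageAlong ι T) := by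
  ext y
  rw [mem_imageAlong]
  constructor
  · rintro ⟨c, hcS, hc, rfl⟩
    refine ⟨⟨_, rfl⟩, ?_⟩
    show ι ⟨c, hcS⟩ ∈ Subgroup.centralizer ((imageAlong ι T : Subgroup G) : Set G)
    rw [Subgroup.mem_centralizer_iff]
    intro t₀ ht₀
    obtain ⟨t, htS, htT, rfl⟩ := (mem_imageAlong ι T t₀).mp ht₀
    have hcomm : (⟨t, htS⟩ : S) * ⟨c, hcS⟩ = ⟨c, hcS⟩ * ⟨t, htS⟩ :=
      Subtype.ext (Subgroup.mem_centralizer_iff.mp hc.2 t htT)
    rw [← map_mul, hcomm, map_mul]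
  · rintro ⟨⟨s, rfl⟩, hcent⟩
    refine ⟨s, s.2, ⟨s.2, ?_⟩, rfl⟩
    show (s : Ω) ∈ Subgroup.centralizer ((T : Subgroup Ω) : Set Ω)
    rw [Subgroup.mem_centralizer_iff]
    intro t ht
    have hcent' : ι s ∈ Subgroup.centralizer ((imageAlong ι T : Subgroup G) : Set G) := hcent
    have h1 := Subgroup.mem_centralizer_iff.mp hcent' (ι ⟨t, hTS ht⟩)
      ((mem_imageAlong ι T _).mpr ⟨t, hTS ht, ht, rfl⟩)
    rw [← map_mul, ← map_mul] at h1
    exact congrArg (fun s : S => (s : Ω)) (hinj h1)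

theorem imageAlong_sup (ι : S →* G) {A B : Subgroup Ω} (hA : A ≤ S) (hB : B ≤ S) :
    imageAlong ι (A ⊔ B) = imageAlong ι A ⊔ imageAlong ι B := by
  unfold imageAlong
  rw [Subgroup.subgroupOf_sup hA hB, Subgroup.map_sup]

theorem range_comp_inclusion' (ι : S →* G) {R : Subgroup Ω} (hRS : R ≤ S) :
    (ι.comp (Subgroup.inclusion hRS)).range = imageAlong ι R := by
  ext y
  rw [mem_imageAlong]
  constructor
  · rintro ⟨x, rfl⟩
    exact ⟨x, hRS x.2, x.2, rfl⟩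
  · rintro ⟨x, hxS, hxR, rfl⟩
    exact ⟨⟨x, hxR⟩, rfl⟩

/-- the extension condition for `nsys` -/
theorem nsys_extension [Finite G] (p : ℕ) [Fact p.Prime] (F : FusionSystem S) (ι : S →* G)
    (hreal : F.IsRealizedBy ι) (Sy : Sylow p G) (hSy : (Sy : Subgroup G) = ι.range)
    (N : Subgroup G) [hN : N.Normal] (α : MulAut ↥(preimageAlong ι N))
    (hα : α ∈ (nsys F ι N).autGroup (preimageAlong ι N)) :
    ∃ β ∈ F.autGroup (preimageAlong ι N ⊔ centralizerIn S (preimageAlong ι N)),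
      (∀ x : ↥(preimageAlong ι N),
        ((β (Subgroup.inclusion le_sup_left x) :
          ↥(preimageAlong ι N ⊔ centralizerIn S (preimageAlong ι N))) : Ω) = ((α x : _) : Ω)) ∧
      ∀ c : ↥(preimageAlong ι N ⊔ centralizerIn S (preimageAlong ι N)),
        (c : Ω) ∈ centralizerIn S (preimageAlong ι N) →
        (c : Ω)⁻¹ * ((β c : ↥(preimageAlong ι N ⊔ centralizerIn S (preimageAlong ι N))) : Ω) ∈
          preimageAlong ι N ⊓ Subgroup.centralizer ((preimageAlong ι N : Subgroup Ω) : Set Ω) := by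
  have hTS : preimageAlong ι N ≤ S := preimageAlong_le ι N
  have hinj := hreal.1
  obtain ⟨-, -, n, hn, he⟩ := hom_of_mem_autGroup (nsys F ι N) le_rfl hα
  have he' : ∀ x : ↥(preimageAlong ι N), ι ⟨((α x : _) : Ω), hTS (α x).2⟩ =
      n * ι ⟨x, hTS x.2⟩ * n⁻¹ := fun x => he x (hTS x.2) (hTS (α x).2)
  have hT₀ : imageAlong ι (preimageAlong ι N) = (Sy : Subgroup G) ⊓ N := by
    rw [imageAlong_pre, hSy]
  -- `n` normalizes `T₀`
  have hnN : n ∈ Subgroup.normalizer ((((Sy : Subgroup G) ⊓ N : Subgroup G)) : Set G) := by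
    apply mem_normalizer_of_cj_le'
    rintro _ ⟨y, hy, rfl⟩
    rw [← hT₀] at hy
    obtain ⟨x, hxS, hxT, rfl⟩ := (mem_imageAlong ι _ y).mp hy
    show n * ι ⟨x, hxS⟩ * n⁻¹ ∈ (Sy : Subgroup G) ⊓ N
    rw [← hT₀, ← he' ⟨x, hxT⟩]
    exact (mem_imageAlong ι _ _).mpr ⟨_, hTS (α ⟨x, hxT⟩).2, (α ⟨x, hxT⟩).2, rfl⟩
  obtain ⟨y, hy, hyn⟩ := exists_mul_mem_normalizer_centralizerIn p Sy N hn hnN
  have hyT : y ∈ Subgroup.normalizer ((((Sy : Subgroup G) ⊓ N : Subgroup G)) : Set G) :=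
    Subgroup.centralizer_le_normalizer _ hy.2
  have hgT : y * n ∈ Subgroup.normalizer ((((Sy : Subgroup G) ⊓ N : Subgroup G)) : Set G) :=
    Subgroup.mul_mem _ hyT hnN
  have hgNmem : y * n ∈ N := N.mul_mem hy.1 hn
  have hRS : preimageAlong ι N ⊔ centralizerIn S (preimageAlong ι N) ≤ S := sup_le hTS inf_le_left
  have hD₀ : imageAlong ι (centralizerIn S (preimageAlong ι N)) =
      centralizerIn (Sy : Subgroup G) ((Sy : Subgroup G) ⊓ N) := by
    rw [imageAlong_centralizerIn ι hinj hTS, hT₀, hSy]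
  have hrange : (ι.comp (Subgroup.inclusion hRS)).range =
      ((Sy : Subgroup G) ⊓ N) ⊔ centralizerIn (Sy : Subgroup G) ((Sy : Subgroup G) ⊓ N) := by
    rw [range_comp_inclusion', imageAlong_sup ι (A := preimageAlong ι N)
      (B := centralizerIn S (preimageAlong ι N)) hTS inf_le_left, hT₀, hD₀]
  have hgR : y * n ∈ Subgroup.normalizer
      (((ι.comp (Subgroup.inclusion hRS)).range : Subgroup G) : Set G) := by
    rw [hrange]
    exact mem_normalizer_sup hgT hyn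
  have hθinj : Function.Injective (ι.comp (Subgroup.inclusion hRS)) :=
    hinj.comp (Subgroup.inclusion_injective hRS)
  obtain ⟨β, hβ⟩ := exists_pullback_conj' (ι.comp (Subgroup.inclusion hRS)) hθinj hgR
  have hβ' : ∀ z : ↥(preimageAlong ι N ⊔ centralizerIn S (preimageAlong ι N)),
      ι ⟨((β z : _) : Ω), hRS (β z).2⟩ = (y * n) * ι ⟨z, hRS z.2⟩ * (y * n)⁻¹ := fun z => hβ z
  refine ⟨β, ?_, ?_, ?_⟩
  · rw [mem_autGroup_iff F hRS]
    rw [hreal.2 _ hRS _ (fun z => hRS (β z).2)]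
    exact ⟨y * n, fun z => hβ' z⟩
  · intro x
    have h1 := hβ' (Subgroup.inclusion le_sup_left x)
    have h2 := he' x
    have hmem : n * ι ⟨x, hTS x.2⟩ * n⁻¹ ∈ (Sy : Subgroup G) ⊓ N := by
      rw [← h2, ← hT₀]
      exact (mem_imageAlong ι _ _).mpr ⟨_, hTS (α x).2, (α x).2, rfl⟩
    have hcomm := Subgroup.mem_centralizer_iff.mp hy.2 _ hmem
    have h3 : (y * n) * ι ⟨x, hTS x.2⟩ * (y * n)⁻¹ = n * ι ⟨x, hTS x.2⟩ * n⁻¹ := by
      calc (y * n) * ι ⟨x, hTS x.2⟩ * (y * n)⁻¹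
          = (y * (n * ι ⟨x, hTS x.2⟩ * n⁻¹)) * y⁻¹ := by group
        _ = ((n * ι ⟨x, hTS x.2⟩ * n⁻¹) * y) * y⁻¹ := by rw [hcomm]
        _ = n * ι ⟨x, hTS x.2⟩ * n⁻¹ := by group
    have h4 : ι ⟨((β (Subgroup.inclusion le_sup_left x) : _) : Ω), hRS (β _).2⟩ =
        ι ⟨((α x : _) : Ω), hTS (α x).2⟩ := by
      rw [h1, h2]
      exact h3
    exact congrArg (fun s : S => (s : Ω)) (hinj h4)
  · intro c hc
    have h1 := hβ' c
    have hιc : ι ⟨c, hRS c.2⟩ ∈ centralizerIn (Sy : Subgroup G) ((Sy : Subgroup G) ⊓ N) := by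
      rw [← hD₀]
      exact (mem_imageAlong ι _ _).mpr ⟨c, hRS c.2, hc, rfl⟩
    have hιβc : ι ⟨((β c : _) : Ω), hRS (β c).2⟩ ∈
        centralizerIn (Sy : Subgroup G) ((Sy : Subgroup G) ⊓ N) := by
      rw [h1]
      exact conj_mem_of_mem_normalizer hyn hιc
    have hβcC : ((β c : _) : Ω) ∈ centralizerIn S (preimageAlong ι N) := by
      rw [← hD₀] at hιβc
      obtain ⟨c', hc'S, hc'C, hc'e⟩ := (mem_imageAlong ι _ _).mp hιβc
      have h2 := hinj hc'e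
      have h3 : c' = ((β c : _) : Ω) := congrArg (fun s : S => (s : Ω)) h2
      rw [← h3]
      exact hc'C
    refine ⟨?_, Subgroup.mul_mem _ (Subgroup.inv_mem _ hc.2) hβcC.2⟩
    refine (mem_preimageAlong ι N _).mpr ⟨S.mul_mem (S.inv_mem hc.1) hβcC.1, ?_⟩
    have e : (⟨(c : Ω)⁻¹ * ((β c : _) : Ω), S.mul_mem (S.inv_mem hc.1) hβcC.1⟩ : S) =
        (⟨c, hRS c.2⟩ : S)⁻¹ * ⟨((β c : _) : Ω), hRS (β c).2⟩ := Subtype.ext rfl
    rw [e, map_mul, map_inv, h1]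
    have h4 : (ι ⟨c, hRS c.2⟩)⁻¹ * ((y * n) * ι ⟨c, hRS c.2⟩ * (y * n)⁻¹) =
        ((ι ⟨c, hRS c.2⟩)⁻¹ * (y * n) * (ι ⟨c, hRS c.2⟩)⁻¹⁻¹) * (y * n)⁻¹ := by group
    rw [h4]
    exact N.mul_mem (hN.conj_mem _ hgNmem _) (N.inv_mem hgNmem)

/-- the system induced by a normal subgroup is a normal subsystem -/
theorem nsys_normal [Finite S] [Finite G] (p : ℕ) [Fact p.Prime] (hS : IsPGroup p S)
    (F : FusionSystem S) (hF : F.IsSaturated p) (ι : S →* G)
    (hreal : F.IsRealizedBy ι) (Sy : Sylow p G) (hSy : (Sy : Subgroup G) = ι.range)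
    (N : Subgroup G) [hN : N.Normal] : (nsys F ι N).IsNormalIn F p := by
  refine ⟨⟨nsys_saturated p F ι hreal Sy hSy N, hF, ?_⟩, ?_⟩
  · exact (Cfsg.Agent.S5119.result p hS F hF (nsys F ι N) (nsys_subsystem F ι N)
      (pre_stronglyClosed F ι hreal N)).mpr (nsys_SI F ι hreal N)
  · intro α hα
    exact nsys_extension p F ι hreal Sy hSy N α hα

end Cfsg.Agent.Lib.Helper2.NSys
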