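import Cfsg.Agent.Lib.Helper2.NSys2

set_option autoImplicit false

universe u

namespace Cfsg.Agent.Lib.Helper2.NSys

open Cfsg Cfsg.FusionSystem Cfsg.Agent.Lib.Helper9 Cfsg.Agent.Lib.Helper2.KNorm

variable {Ω : Type*} [Group Ω] {S : Subgroup Ω} {G : Type*} [Group G]

/-- if `ι(S) ∩ N = 1` for a normal subgroup `N` then `G ⧸ N` realizes `F` too -/
theorem quotient_realized [Finite G] (p : ℕ) [Fact p.Prime] (F : FusionSystem S) (ι : S →* G)
    (hreal : F.IsRealizedBy ι) (Sy : Sylow p G) (hSy : (Sy : Subgroup G) = ι.range)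
    (N : Subgroup G) [hN : N.Normal] (hbot : preimageAlong ι N = ⊥) :
    F.IsRealizedBy ((QuotientGroup.mk' N).comp ι) ∧
      ∃ T : Sylow p (G ⧸ N), (T : Subgroup (G ⧸ N)) = ((QuotientGroup.mk' N).comp ι).range := by
  have hinj := hreal.1
  have hker : ∀ s : S, ι s ∈ N → s = 1 := by
    intro s hs
    have h1 : (s : Ω) ∈ preimageAlong ι N := (mem_preimageAlong ι N _).mpr ⟨s.2, hs⟩
    rw [hbot, Subgroup.mem_bot] at h1
    exact Subtype.ext h1
  refine ⟨⟨?_, ?_⟩, ?_⟩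
  · rw [injective_iff_map_eq_one]
    intro s hs
    apply hker
    have h1 : (QuotientGroup.mk (ι s) : G ⧸ N) = 1 := hs
    exact (QuotientGroup.eq_one_iff _).mp h1
  · intro P hP φ hφ
    rw [hreal.2 P hP φ hφ]
    constructor
    · rintro ⟨g, hg⟩
      refine ⟨QuotientGroup.mk g, fun x => ?_⟩
      show (QuotientGroup.mk (ι ⟨φ x, hφ x⟩) : G ⧸ N) = _
      rw [hg x]
      rfl
    · rintro ⟨γ, hγ⟩
      have hγ' : ∀ x : P, (QuotientGroup.mk (ι ⟨φ x, hφ x⟩) : G ⧸ N) =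
          γ * QuotientGroup.mk (ι ⟨x, hP x.2⟩) * γ⁻¹ := hγ
      have hP₀ : imageAlong ι P ≤ (Sy : Subgroup G) := by
        rw [hSy]
        exact imageAlong_le_range ι P
      have hcond : ∀ x₀ ∈ imageAlong ι P, γ * QuotientGroup.mk x₀ * γ⁻¹ ∈
          ((Sy : Subgroup G).map (QuotientGroup.mk' N)) := by
        intro x₀ hx₀
        obtain ⟨x, hxS, hxP, rfl⟩ := (mem_imageAlong ι P x₀).mp hx₀
        rw [← hγ' ⟨x, hxP⟩]
        refine ⟨ι ⟨φ ⟨x, hxP⟩, hφ _⟩, ?_, rfl⟩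
        rw [hSy]
        exact ⟨_, rfl⟩
      obtain ⟨g, hg⟩ := exists_lift_quotient_fusion N Sy (imageAlong ι P) hP₀ γ hcond
      refine ⟨g, fun x => ?_⟩
      obtain ⟨h1, h2⟩ := hg (ι ⟨x, hP x.2⟩) ((mem_imageAlong ι P _).mpr ⟨x, hP x.2, x.2, rfl⟩)
      have h1' : g * ι ⟨x, hP x.2⟩ * g⁻¹ ∈ (Sy : Subgroup G) := h1
      rw [hSy] at h1'
      obtain ⟨s, hs⟩ := h1'
      rw [← hγ' x, ← hs] at h2
      have h3 : (ι s)⁻¹ * ι ⟨φ x, hφ x⟩ ∈ N := QuotientGroup.eq.mp h2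
      rw [← map_inv, ← map_mul] at h3
      have h4 := hker _ h3
      have h5 : s = ⟨φ x, hφ x⟩ := inv_mul_eq_one.mp h4
      rw [← hs, h5]
  · refine ⟨Sy.mapSurjective (QuotientGroup.mk'_surjective N), ?_⟩
    rw [Sylow.coe_mapSurjective, hSy]
    ext y
    constructor
    · rintro ⟨_, ⟨s, rfl⟩, rfl⟩
      exact ⟨s, rfl⟩
    · rintro ⟨s, rfl⟩
      exact ⟨ι s, ⟨s, rfl⟩, rfl⟩

/-- if `ι(S) ≤ N` and the system of `N` is all of `F` then `N` realizes `F` -/
theorem subgroup_realized [Finite G] (p : ℕ) [Fact p.Prime] (F : FusionSystem S) (ι : S →* G)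
    (hreal : F.IsRealizedBy ι) (Sy : Sylow p G) (hSy : (Sy : Subgroup G) = ι.range)
    (N : Subgroup G) [hN : N.Normal] (htop : preimageAlong ι N = S)
    (hEF : ∀ P : Subgroup Ω, (nsys F ι N).Hom P = F.Hom P) :
    ∃ ι' : S →* ↥N, F.IsRealizedBy ι' ∧ ∃ T : Sylow p ↥N, (T : Subgroup ↥N) = ι'.range := by
  have hSN : ∀ s : S, ι s ∈ N := by
    intro s
    have h1 : (s : Ω) ∈ preimageAlong ι N := by
      rw [htop]
      exact s.2
    obtain ⟨_, h2⟩ := (mem_preimageAlong ι N _).mp h1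
    exact h2
  refine ⟨ι.codRestrict N hSN, ⟨?_, ?_⟩, ?_⟩
  · intro a b hab
    exact hreal.1 (congrArg Subtype.val hab)
  · intro P hP φ hφ
    constructor
    · intro hφF
      rw [← hEF P] at hφF
      obtain ⟨-, -, n, hn, he⟩ := hφF
      exact ⟨⟨n, hn⟩, fun x => Subtype.ext (he x (hP x.2) (hφ x))⟩
    · rintro ⟨n, h⟩
      rw [hreal.2 P hP φ hφ]
      exact ⟨(n : G), fun x => congrArg Subtype.val (h x)⟩
  · obtain ⟨R, hR⟩ := Cfsg.Agent.Lib.Helper2.exists_sylow_eq_inf_normal Sy N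
    refine ⟨R, ?_⟩
    rw [hR, hSy]
    ext y
    rw [Subgroup.mem_subgroupOf]
    constructor
    · rintro ⟨⟨s, hs⟩, -⟩
      exact ⟨s, Subtype.ext hs⟩
    · rintro ⟨s, rfl⟩
      exact ⟨⟨s, rfl⟩, hSN s⟩

/-- a realizing group of minimal order for a simple fusion system is simple -/
theorem simple_of_minimal {Ω : Type u} [Group Ω] {S : Subgroup Ω} [Finite S] (p : ℕ)
    [Fact p.Prime] (hS : IsPGroup p S) (F : FusionSystem S) (hsimple : F.IsSimple p)
    {G : Type u} [Group G] [Finite G] (ι : S →* G) (hι : F.IsRealizedBy ι) (Sy : Sylow p G)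
    (hSy : (Sy : Subgroup G) = ι.range)
    (hmin : ∀ (G' : Type u) [Group G'] [Finite G'] (ι' : S →* G'), F.IsRealizedBy ι' →
      (∃ T : Sylow p G', (T : Subgroup G') = ι'.range) → Nat.card G ≤ Nat.card G') :
    IsSimpleGroup G := by
  obtain ⟨hFsat, hSne, hsimp⟩ := hsimple
  have hnt : Nontrivial G := by
    by_contra h
    rw [not_nontrivial_iff_subsingleton] at h
    apply hSne
    rw [eq_bot_iff]
    intro x hx
    have h1 : ι ⟨x, hx⟩ = ι 1 := Subsingleton.elim _ _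
    have h2 := hι.1 h1
    rw [Subgroup.mem_bot]
    exact congrArg (fun s : S => (s : Ω)) h2
  refine { exists_pair_ne := hnt.exists_pair_ne, eq_bot_or_eq_top_of_normal := ?_ }
  intro N hN
  have hE := nsys_normal p hS F hFsat ι hι Sy hSy N
  rcases hsimp _ _ hE with hbot | ⟨htop, hEF⟩
  · left
    obtain ⟨h1, h2⟩ := quotient_realized p F ι hι Sy hSy N hbot
    have h3 := hmin (G ⧸ N) _ h1 h2
    have h4 := Subgroup.card_eq_card_quotient_mul_card_subgroup N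
    by_contra hne
    have h5 : 1 < Nat.card N := by
      rw [Subgroup.one_lt_card_iff_ne_bot]
      exact hne
    have h6 : 0 < Nat.card (G ⧸ N) := Nat.card_pos
    nlinarith
  · right
    obtain ⟨ι', h1, h2⟩ := subgroup_realized p F ι hι Sy hSy N htop hEF
    have h3 := hmin ↥N ι' h1 h2
    exact Subgroup.eq_top_of_le_card N h3

end Cfsg.Agent.Lib.Helper2.NSys
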