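import Mathlib
import Cfsg.Prelude.Def_Transfer
import Cfsg.Agent.Lib.Helper2.Hypercenter
import Cfsg.Agent.Lib.Helper2.PNilpotentQuot

/-!
# Nilpotent minimal covers of groups with trivial centre and abelian Sylow `p`-subgroups
-/

set_option autoImplicit false
open Pointwise

namespace Cfsg.Agent.Lib.Helper2

variable {G : Type*} [Group G]

/-- `𝓐` is a minimal cover of `G` by proper subgroups, all of them nilpotent; `G` has trivial
centre and abelian Sylow `p`-subgroups. -/
structure NilCover (𝓐 : Finset (Subgroup G)) (p : ℕ) : Prop where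
  center : Subgroup.center G = ⊥
  proper : ∀ A ∈ 𝓐, A ≠ ⊤
  cover : ∀ g : G, ∃ A ∈ 𝓐, g ∈ A
  minimal : ∀ 𝓑 : Finset (Subgroup G), (∀ A ∈ 𝓑, A ≠ ⊤) ∧ (∀ g : G, ∃ A ∈ 𝓑, g ∈ A) →
    𝓐.card ≤ 𝓑.card
  nilp : ∀ A ∈ 𝓐, Group.IsNilpotent ↥A
  sylow_comm : ∀ Q : Sylow p G, ∀ a ∈ (Q : Subgroup G), ∀ b ∈ (Q : Subgroup G), a * b = b * a

namespace NilCover

variable {𝓐 : Finset (Subgroup G)} {p : ℕ}

/-- a proper subgroup contains at most one member of a minimal cover -/
theorem eq_of_le (h : NilCover 𝓐 p) {H : Subgroup G} (hH : H ≠ ⊤) {A B : Subgroup G}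
    (hA : A ∈ 𝓐) (hB : B ∈ 𝓐) (hAH : A ≤ H) (hBH : B ≤ H) : A = B := by
  classical
  by_contra hne
  set F := 𝓐.filter (fun C => ¬ C ≤ H) with hF
  have h1 : 𝓐.card ≤ (insert H F).card := by
    apply h.minimal
    constructor
    · intro C hC
      rcases Finset.mem_insert.mp hC with rfl | hC
      · exact hH
      · exact h.proper C (Finset.mem_filter.mp hC).1
    · intro g
      obtain ⟨C, hC, hgC⟩ := h.cover g
      by_cases hCH : C ≤ H
      · exact ⟨H, Finset.mem_insert_self _ _, hCH hgC⟩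
      · exact ⟨C, Finset.mem_insert_of_mem (Finset.mem_filter.mpr ⟨hC, hCH⟩), hgC⟩
  have hAF : A ∉ F := fun hh => (Finset.mem_filter.mp hh).2 hAH
  have hBF : B ∉ F := fun hh => (Finset.mem_filter.mp hh).2 hBH
  have h2 : (insert A (insert B F)).card ≤ 𝓐.card := by
    apply Finset.card_le_card
    intro C hC
    rcases Finset.mem_insert.mp hC with rfl | hC
    · exact hA
    rcases Finset.mem_insert.mp hC with rfl | hC
    · exact hB
    · exact (Finset.mem_filter.mp hC).1
  rw [Finset.card_insert_of_notMem (by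
    intro hh
    rcases Finset.mem_insert.mp hh with h3 | h3
    · exact hne h3
    · exact hAF h3), Finset.card_insert_of_notMem hBF] at h2
  have h3 := Finset.card_insert_le H F
  omega

/-- a nilpotent subgroup centralizes its `p`-elements -/
theorem le_centralizer [Finite G] [Fact p.Prime] (h : NilCover 𝓐 p) {A : Subgroup G}
    (hA : Group.IsNilpotent ↥A) {y : G} (hy : y ∈ A) {k : ℕ} (hyk : y ^ p ^ k = 1) :
    A ≤ Subgroup.centralizer {y} := by
  have hp : p.Prime := Fact.out
  intro a ha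
  rw [Subgroup.mem_centralizer_singleton_iff]
  obtain ⟨u, hu, v, hv, huv, ⟨j, hj⟩, hvo⟩ := exists_p_part_mul_p'_part hp (⟨a, ha⟩ : ↥A)
  obtain ⟨S⟩ : Nonempty (Sylow p ↥A) := inferInstance
  haveI hSn : (S : Subgroup ↥A).Normal := inferInstance
  have hpg : ∀ w : ↥A, ∀ i : ℕ, w ^ p ^ i = 1 → w ∈ (S : Subgroup ↥A) := by
    intro w i hw
    have h1 : IsPGroup p (Subgroup.zpowers w) := by
      obtain ⟨i', -, hi'⟩ := (Nat.dvd_prime_pow hp).1 (orderOf_dvd_of_pow_eq_one hw)
      exact IsPGroup.of_card (n := i') (by rw [Nat.card_zpowers, hi'])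
    exact le_of_normal_sylow S h1 (Subgroup.mem_zpowers w)
  have hyS : (⟨y, hy⟩ : ↥A) ∈ (S : Subgroup ↥A) := hpg _ k (Subtype.ext (by simpa using hyk))
  have huS : u ∈ (S : Subgroup ↥A) := hpg u j hj
  obtain ⟨Q, hQ⟩ := (S.2.map A.subtype).exists_le_sylow
  have huy : (u : G) * y = y * (u : G) :=
    h.sylow_comm Q _ (hQ ⟨u, huS, rfl⟩) _ (hQ ⟨⟨y, hy⟩, hyS, rfl⟩)
  have hvy : Commute v (⟨y, hy⟩ : ↥A) := by
    apply commute_of_isNilpotent_of_coprime
    have h2 : orderOf (⟨y, hy⟩ : ↥A) ∣ p ^ k :=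
      orderOf_dvd_of_pow_eq_one (Subtype.ext (by simpa using hyk))
    exact Nat.Coprime.coprime_dvd_right h2 (hvo.pow_right k)
  have hvy' : (v : G) * y = y * (v : G) := congrArg Subtype.val hvy.eq
  have ha' : a = (u : G) * (v : G) := congrArg Subtype.val huv
  rw [ha', mul_assoc, hvy', ← mul_assoc, huy, mul_assoc]

/-- a nonidentity `p`-element lies in exactly one member of the cover -/
theorem eq_of_mem [Finite G] [Fact p.Prime] (h : NilCover 𝓐 p) {y : G} (hy1 : y ≠ 1) {k : ℕ}
    (hyk : y ^ p ^ k = 1) {A B : Subgroup G} (hA : A ∈ 𝓐) (hB : B ∈ 𝓐) (hyA : y ∈ A)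
    (hyB : y ∈ B) : A = B := by
  have hH : Subgroup.centralizer {y} ≠ ⊤ := by
    intro htop
    apply hy1
    have : y ∈ Subgroup.center G := by
      rw [Subgroup.mem_center_iff]
      intro g
      have hg : g ∈ Subgroup.centralizer {y} := htop ▸ Subgroup.mem_top g
      exact (Subgroup.mem_centralizer_singleton_iff.mp hg)
    rw [h.center] at this
    exact this
  exact h.eq_of_le hH hA hB (h.le_centralizer (h.nilp A hA) hyA hyk)
    (h.le_centralizer (h.nilp B hB) hyB hyk)

/-- a `p'`-element commuting with a nonidentity `p`-element lies in the same member -/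
theorem mem_of_commute_coprime [Finite G] [Fact p.Prime] (h : NilCover 𝓐 p) {y : G} (hy1 : y ≠ 1)
    {k : ℕ} (hyk : y ^ p ^ k = 1) {A : Subgroup G} (hA : A ∈ 𝓐) (hyA : y ∈ A) {c : G}
    (hc : c * y = y * c) (hco : (orderOf c).Coprime p) : c ∈ A := by
  obtain ⟨A', hA', hw⟩ := h.cover (y * c)
  have hcomm : Commute y c := hc.symm
  have h1 : (y * c) ^ orderOf c = y ^ orderOf c := by
    rw [hcomm.mul_pow, pow_orderOf_eq_one, mul_one]
  have h2 : (orderOf c).Coprime (orderOf y) :=
    Nat.Coprime.coprime_dvd_right (orderOf_dvd_of_pow_eq_one hyk) (hco.pow_right k)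
  obtain ⟨m, hm⟩ := exists_pow_eq_self_of_coprime h2
  have hyA' : y ∈ A' := by
    rw [← hm, ← h1]
    exact A'.pow_mem (A'.pow_mem hw _) _
  have hAA : A' = A := h.eq_of_mem hy1 hyk hA' hA hyA' hyA
  rw [hAA] at hw
  have : c = y⁻¹ * (y * c) := by group
  rw [this]
  exact A.mul_mem (A.inv_mem hyA) hw

/-- A Sylow `p`-subgroup of order `p`, or not of exponent `p`, lies in a member of the cover. -/
theorem exists_sylow_le [Finite G] [Fact p.Prime] (h : NilCover 𝓐 p) (P : Sylow p G)
    (hP : (∃ y ∈ (P : Subgroup G), y ^ p ≠ 1) ∨ Nat.card (P : Subgroup G) = p) :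
    ∃ A ∈ 𝓐, (P : Subgroup G) ≤ A := by
  have hp : p.Prime := Fact.out
  rcases hP with ⟨y, hyP, hyp⟩ | hcard
  · obtain ⟨A, hA, hyA⟩ := h.cover y
    refine ⟨A, hA, ?_⟩
    have hz1 : y ^ p ≠ 1 := hyp
    obtain ⟨ky, hky⟩ := (IsPGroup.iff_orderOf.mp P.2) ⟨y, hyP⟩
    have hzk : (y ^ p) ^ p ^ ky = 1 := by
      rw [← pow_mul, mul_comm, pow_mul]
      have : y ^ p ^ ky = 1 := by
        have := pow_orderOf_eq_one (⟨y, hyP⟩ : (P : Subgroup G))
        rw [hky] at this
        simpa using congrArg Subtype.val this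
      rw [this, one_pow]
    have hzA : y ^ p ∈ A := A.pow_mem hyA p
    -- all elements of `P` lie in `A`, by induction on their order
    have key : ∀ k : ℕ, ∀ u ∈ (P : Subgroup G), u ^ p ^ k = 1 → u ∈ A := by
      intro k
      induction k with
      | zero =>
        intro u _ hu
        rw [pow_zero, pow_one] at hu
        rw [hu]; exact A.one_mem
      | succ k ih =>
        intro u huP hu
        by_cases hup : u ^ p = 1
        · -- `(y u)^p = y^p`
          obtain ⟨A', hA', hw⟩ := h.cover (y * u)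
          have hcomm : Commute y u := h.sylow_comm P y hyP u huP
          have h1 : (y * u) ^ p = y ^ p := by rw [hcomm.mul_pow, hup, mul_one]
          have hzA' : y ^ p ∈ A' := h1 ▸ A'.pow_mem hw p
          have hAA : A' = A := h.eq_of_mem hz1 hzk hA' hA hzA' hzA
          rw [hAA] at hw
          have : u = y⁻¹ * (y * u) := by group
          rw [this]
          exact A.mul_mem (A.inv_mem hyA) hw
        · obtain ⟨A', hA', huA'⟩ := h.cover u
          have h1 : (u ^ p) ^ p ^ k = 1 := by rw [← pow_mul, ← pow_succ']; exact hu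
          have h2 : u ^ p ∈ A := ih (u ^ p) ((P : Subgroup G).pow_mem huP p) h1
          have hAA : A' = A := h.eq_of_mem hup h1 hA' hA (A'.pow_mem huA' p) h2
          rw [← hAA]; exact huA'
    intro u huP
    obtain ⟨ku, hku⟩ := (IsPGroup.iff_orderOf.mp P.2) ⟨u, huP⟩
    apply key ku u huP
    have := pow_orderOf_eq_one (⟨u, huP⟩ : (P : Subgroup G))
    rw [hku] at this
    simpa using congrArg Subtype.val this
  · have hne : (P : Subgroup G) ≠ ⊥ := by
      intro hb
      rw [hb, Subgroup.card_bot] at hcard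
      exact hp.one_lt.ne hcard
    obtain ⟨y, hy1⟩ := (Subgroup.ne_bot_iff_exists_ne_one.mp hne)
    have hy1' : (y : G) ≠ 1 := fun hh => hy1 (Subtype.ext hh)
    obtain ⟨A, hA, hyA⟩ := h.cover (y : G)
    refine ⟨A, hA, ?_⟩
    have htop : Subgroup.zpowers y = ⊤ := zpowers_eq_top_of_prime_card hcard hy1
    intro u huP
    have : (⟨u, huP⟩ : (P : Subgroup G)) ∈ Subgroup.zpowers y := htop ▸ Subgroup.mem_top _
    obtain ⟨j, hj⟩ := this
    have hj' : (y : G) ^ j = u := by
      have := congrArg Subtype.val hj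
      simpa using this
    rw [← hj']
    exact A.zpow_mem hyA j

/-- the member containing a Sylow `p`-subgroup is its centralizer -/
theorem centralizer_eq [Finite G] [Fact p.Prime] (h : NilCover 𝓐 p) (P : Sylow p G)
    (hP1 : (P : Subgroup G) ≠ ⊥) {A : Subgroup G} (hA : A ∈ 𝓐) (hPA : (P : Subgroup G) ≤ A) :
    Subgroup.centralizer ((P : Subgroup G) : Set G) = A := by
  have hp : p.Prime := Fact.out
  have hpow : ∀ y ∈ (P : Subgroup G), ∃ k : ℕ, y ^ p ^ k = 1 := by
    intro y hy
    obtain ⟨k, hk⟩ := (IsPGroup.iff_orderOf.mp P.2) ⟨y, hy⟩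
    refine ⟨k, ?_⟩
    have := pow_orderOf_eq_one (⟨y, hy⟩ : (P : Subgroup G))
    rw [hk] at this
    simpa using congrArg Subtype.val this
  apply le_antisymm
  · intro c hc
    obtain ⟨y, hy1⟩ := (Subgroup.ne_bot_iff_exists_ne_one.mp hP1)
    have hy1' : (y : G) ≠ 1 := fun hh => hy1 (Subtype.ext hh)
    obtain ⟨k, hk⟩ := hpow (y : G) y.2
    obtain ⟨u, hu, v, hv, huv, ⟨j, hj⟩, hvo⟩ := exists_p_part_mul_p'_part hp c
    have hzc : Subgroup.zpowers c ≤ Subgroup.centralizer ((P : Subgroup G) : Set G) := by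
      rw [Subgroup.zpowers_le]; exact hc
    have huP : u ∈ (P : Subgroup G) := by
      have h1 : IsPGroup p (Subgroup.zpowers u) := by
        obtain ⟨j', -, hj'⟩ := (Nat.dvd_prime_pow hp).1 (orderOf_dvd_of_pow_eq_one hj)
        exact IsPGroup.of_card (n := j') (by rw [Nat.card_zpowers, hj'])
      have h2 := h1.inf_normalizer_sylow P
      have h3 : u ∈ Subgroup.zpowers u ⊓ Subgroup.normalizer (P : Set G) :=
        ⟨Subgroup.mem_zpowers u, Subgroup.centralizer_le_normalizer _ (hzc hu)⟩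
      rw [h2] at h3
      exact h3.2
    have hvA : v ∈ A := by
      apply h.mem_of_commute_coprime hy1' hk hA (hPA y.2) _ hvo
      exact (Subgroup.mem_centralizer_iff.mp (hzc hv) (y : G) y.2).symm
    rw [huv]
    exact A.mul_mem (hPA huP) hvA
  · intro a ha
    rw [Subgroup.mem_centralizer_iff]
    intro y hy
    obtain ⟨k, hk⟩ := hpow y hy
    have := h.le_centralizer (h.nilp A hA) (hPA hy) hk ha
    exact (Subgroup.mem_centralizer_singleton_iff.mp this).symm

/-- the centralizer of a conjugate -/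
theorem centralizer_conj_smul (H : Subgroup G) (g : G) :
    Subgroup.centralizer ((MulAut.conj g • H : Subgroup G) : Set G) =
      MulAut.conj g • Subgroup.centralizer (H : Set G) := by
  ext x
  rw [Subgroup.mem_pointwise_smul_iff_inv_smul_mem, Subgroup.mem_centralizer_iff,
    Subgroup.mem_centralizer_iff]
  constructor
  · intro hx y hy
    have h1 : g * y * g⁻¹ ∈ (MulAut.conj g • H : Subgroup G) :=
      Subgroup.smul_mem_pointwise_smul y (MulAut.conj g) H hy
    have h2 := hx _ h1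
    simp only [MulAut.smul_def, MulAut.inv_apply, MulAut.conj_symm_apply]
    calc y * (g⁻¹ * x * g) = g⁻¹ * (g * y * g⁻¹ * x) * g := by group
      _ = g⁻¹ * (x * (g * y * g⁻¹)) * g := by rw [h2]
      _ = g⁻¹ * x * g * y := by group
  · intro hx y hy
    have hy' := Subgroup.mem_pointwise_smul_iff_inv_smul_mem.mp hy
    have h2 := hx _ hy'
    simp only [MulAut.smul_def, MulAut.inv_apply, MulAut.conj_symm_apply] at h2
    calc y * x = g * ((g⁻¹ * y * g) * (g⁻¹ * x * g)) * g⁻¹ := by group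
      _ = g * ((g⁻¹ * x * g) * (g⁻¹ * y * g)) * g⁻¹ := by rw [h2]
      _ = x * y := by group

/-- the conjugates of the member containing a Sylow `p`-subgroup are members -/
theorem conj_mem [Finite G] [Fact p.Prime] (h : NilCover 𝓐 p) (P : Sylow p G)
    (hP : (∃ y ∈ (P : Subgroup G), y ^ p ≠ 1) ∨ Nat.card (P : Subgroup G) = p)
    (hP1 : (P : Subgroup G) ≠ ⊥) {A : Subgroup G} (hA : A ∈ 𝓐) (hPA : (P : Subgroup G) ≤ A)
    (g : G) : MulAut.conj g • A ∈ 𝓐 ∧ ((g • P : Sylow p G) : Subgroup G) ≤ MulAut.conj g • A := by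
  have hcoe : ((g • P : Sylow p G) : Subgroup G) = MulAut.conj g • (P : Subgroup G) := rfl
  have hQ : (∃ y ∈ ((g • P : Sylow p G) : Subgroup G), y ^ p ≠ 1) ∨
      Nat.card ((g • P : Sylow p G) : Subgroup G) = p := by
    rcases hP with ⟨y, hy, hyp⟩ | hcard
    · left
      refine ⟨g * y * g⁻¹, ?_, ?_⟩
      · rw [hcoe]
        exact Subgroup.smul_mem_pointwise_smul y (MulAut.conj g) _ hy
      · rw [conj_pow]
        intro hh
        apply hyp
        have := congrArg (fun t => g⁻¹ * t * g) hh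
        simpa [mul_assoc] using this
    · right
      rw [hcoe]
      exact (Nat.card_congr
        (Subgroup.equivSMul (MulAut.conj g) (P : Subgroup G)).toEquiv.symm).trans hcard
  have hQ1 : ((g • P : Sylow p G) : Subgroup G) ≠ ⊥ := by
    rw [hcoe]
    intro hb
    apply hP1
    rw [eq_bot_iff] at hb ⊢
    intro y hy
    have := hb (Subgroup.smul_mem_pointwise_smul y (MulAut.conj g) _ hy)
    rw [Subgroup.mem_bot] at this ⊢
    have h2 : g * y * g⁻¹ = 1 := this
    have := congrArg (fun t => g⁻¹ * t * g) h2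
    simpa [mul_assoc] using this
  obtain ⟨A', hA', hQA'⟩ := h.exists_sylow_le (g • P) hQ
  have h1 := h.centralizer_eq (g • P) hQ1 hA' hQA'
  have h2 := h.centralizer_eq P hP1 hA hPA
  have h3 : A' = MulAut.conj g • A := by
    rw [← h1, ← h2, hcoe, centralizer_conj_smul]
  rw [← h3]
  exact ⟨hA', hQA'⟩

/-- an element normalizing the member containing `P` normalizes `P` -/
theorem mem_normalizer_of_smul_eq [Finite G] [Fact p.Prime] (h : NilCover 𝓐 p) (P : Sylow p G)
    (hP : (∃ y ∈ (P : Subgroup G), y ^ p ≠ 1) ∨ Nat.card (P : Subgroup G) = p)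
    (hP1 : (P : Subgroup G) ≠ ⊥) {A : Subgroup G} (hA : A ∈ 𝓐) (hPA : (P : Subgroup G) ≤ A)
    (g : G) (hg : MulAut.conj g • A = A) : g ∈ Subgroup.normalizer ((P : Subgroup G) : Set G) := by
  have h2 := h.centralizer_eq P hP1 hA hPA
  have h3 := (h.conj_mem P hP hP1 hA hPA g).2
  rw [hg, ← h2] at h3
  have h4 : ((g • P : Sylow p G) : Subgroup G) ≤ Subgroup.normalizer ((P : Subgroup G) : Set G) :=
    h3.trans (Subgroup.centralizer_le_normalizer _)
  have h5 := (g • P : Sylow p G).2.inf_normalizer_sylow P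
  have h6 : ((g • P : Sylow p G) : Subgroup G) ≤ (P : Subgroup G) := by
    have : ((g • P : Sylow p G) : Subgroup G) ⊓ Subgroup.normalizer (P : Set G) =
        ((g • P : Sylow p G) : Subgroup G) := inf_eq_left.mpr h4
    rw [← this, h5]
    exact inf_le_right
  have h7 : g • P = P := Sylow.ext ((g • P : Sylow p G).is_maximal' P.2 h6).symm
  exact Sylow.smul_eq_iff_mem_normalizer.mp h7

end NilCover

end Cfsg.Agent.Lib.Helper2

namespace Cfsg.Agent.Lib.Helper2

namespace NilCover

variable {G : Type*} [Group G] {𝓐 : Finset (Subgroup G)} {p : ℕ}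

/-- if one Sylow `p`-subgroup is abelian, all are -/
theorem sylow_comm_of_one [Finite G] [Fact p.Prime] (P : Sylow p G)
    (hab : IsMulCommutative ↥(P : Subgroup G)) :
    ∀ Q : Sylow p G, ∀ a ∈ (Q : Subgroup G), ∀ b ∈ (Q : Subgroup G), a * b = b * a := by
  intro Q a ha b hb
  obtain ⟨g, rfl⟩ := MulAction.exists_smul_eq G P Q
  have hcoe : ((g • P : Sylow p G) : Subgroup G) = MulAut.conj g • (P : Subgroup G) := rfl
  rw [hcoe, Subgroup.mem_pointwise_smul_iff_inv_smul_mem] at ha hb
  simp only [MulAut.smul_def, MulAut.inv_apply, MulAut.conj_symm_apply] at ha hb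
  have := hab.is_comm.comm (⟨_, ha⟩ : ↥(P : Subgroup G)) ⟨_, hb⟩
  have h2 : (g⁻¹ * a * g) * (g⁻¹ * b * g) = (g⁻¹ * b * g) * (g⁻¹ * a * g) :=
    congrArg Subtype.val this
  calc a * b = g * ((g⁻¹ * a * g) * (g⁻¹ * b * g)) * g⁻¹ := by group
    _ = g * ((g⁻¹ * b * g) * (g⁻¹ * a * g)) * g⁻¹ := by rw [h2]
    _ = b * a := by group

/-- The main structure theorem: a non-normal abelian Sylow `p`-subgroup of order `p` or of
exponent greater than `p`. -/
theorem main [Finite G] [Fact p.Prime] (h : NilCover 𝓐 p) (P : Sylow p G)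
    (hP : (∃ y ∈ (P : Subgroup G), y ^ p ≠ 1) ∨ Nat.card (P : Subgroup G) = p)
    (hnn : ¬ (P : Subgroup G).Normal) :
    ∃ A ∈ 𝓐, (P : Subgroup G) ≤ A ∧ ¬ p ∣ ((P : Subgroup G).subgroupOf A).index ∧
      IsCoatom (Subgroup.normalizer ((P : Subgroup G) : Set G)) ∧
      (∀ g : G, g ∉ Subgroup.normalizer ((P : Subgroup G) : Set G) →
        ¬ p ∣ Nat.card ↥(Subgroup.normalizer ((P : Subgroup G) : Set G) ⊓
          (Subgroup.normalizer ((P : Subgroup G) : Set G)).map (MulAut.conj g).toMonoidHom)) ∧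
      Subgroup.centralizer ((P : Subgroup G) : Set G) = A ∧
      (∀ M : Subgroup G, IsCoatom M → Subgroup.centralizer ((P : Subgroup G) : Set G) ≤ M →
        M = Subgroup.normalizer ((P : Subgroup G) : Set G)) := by
  have hp : p.Prime := Fact.out
  have hP1 : (P : Subgroup G) ≠ ⊥ := by
    intro hb
    apply hnn
    rw [hb]
    infer_instance
  obtain ⟨A, hA, hPA⟩ := h.exists_sylow_le P hP
  have hcent := h.centralizer_eq P hP1 hA hPA
  set N := Subgroup.normalizer ((P : Subgroup G) : Set G) with hN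
  have hAN : A ≤ N := by rw [← hcent]; exact Subgroup.centralizer_le_normalizer _
  have hNtop : N ≠ ⊤ := by
    intro htop
    apply hnn
    rw [← Subgroup.normalizer_eq_top_iff]
    exact htop
  -- a proper subgroup containing `A` lies in `N`
  have hkey : ∀ M : Subgroup G, M ≠ ⊤ → A ≤ M → M ≤ N := by
    intro M hM hAM g hg
    apply h.mem_normalizer_of_smul_eq P hP hP1 hA hPA g
    have h1 := (h.conj_mem P hP hP1 hA hPA g).1
    have h2 : MulAut.conj g • A ≤ M := by
      intro x hx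
      rw [Subgroup.mem_pointwise_smul_iff_inv_smul_mem] at hx
      simp only [MulAut.smul_def, MulAut.inv_apply, MulAut.conj_symm_apply] at hx
      have : x = g * (g⁻¹ * x * g) * g⁻¹ := by group
      rw [this]
      exact M.mul_mem (M.mul_mem hg (hAM hx)) (M.inv_mem hg)
    exact h.eq_of_le hM h1 hA h2 hAM
  have hcoatom : IsCoatom N := by
    refine ⟨hNtop, fun M hNM => ?_⟩
    by_contra hM
    exact absurd (hkey M hM (hAN.trans hNM.le)) (not_le_of_gt hNM)
  refine ⟨A, hA, hPA, ?_, hcoatom, ?_, hcent, ?_⟩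
  · intro hdvd
    have h1 : ((P : Subgroup G).subgroupOf A).index ∣ (P : Subgroup G).index :=
      Subgroup.relIndex_dvd_index_of_le hPA
    exact P.not_dvd_index (hdvd.trans h1)
  · intro g hg hdvd
    obtain ⟨y, hy⟩ := exists_prime_orderOf_dvd_card' p hdvd
    have hyN : (y : G) ∈ N := y.2.1
    have hyNg : (y : G) ∈ N.map (MulAut.conj g).toMonoidHom := y.2.2
    have hyo : orderOf (y : G) = p := by rw [Subgroup.orderOf_coe]; exact hy
    have hy1 : (y : G) ≠ 1 := by
      intro hh
      rw [hh, orderOf_one] at hyo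
      exact hp.one_lt.ne hyo
    have hyp : (y : G) ^ p ^ 1 = 1 := by rw [pow_one, ← hyo, pow_orderOf_eq_one]
    have hzp : IsPGroup p (Subgroup.zpowers (y : G)) :=
      IsPGroup.of_card (n := 1) (by rw [Nat.card_zpowers, hyo, pow_one])
    have hyP : (y : G) ∈ (P : Subgroup G) := by
      have h2 := hzp.inf_normalizer_sylow P
      have h3 : (y : G) ∈ Subgroup.zpowers (y : G) ⊓ Subgroup.normalizer (P : Set G) :=
        ⟨Subgroup.mem_zpowers _, hyN⟩
      rw [h2] at h3
      exact h3.2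
    have hyQ : (y : G) ∈ ((g • P : Sylow p G) : Subgroup G) := by
      have hNg : N.map (MulAut.conj g).toMonoidHom =
          Subgroup.normalizer (((g • P : Sylow p G) : Subgroup G) : Set G) := by
        rw [hN, Subgroup.map_equiv_normalizer_eq]
        rfl
      have hyNg' : (y : G) ∈ Subgroup.normalizer (((g • P : Sylow p G) : Subgroup G) : Set G) :=
        hNg ▸ hyNg
      have h2 := hzp.inf_normalizer_sylow (g • P)
      have h3 : (y : G) ∈ Subgroup.zpowers (y : G) ⊓
          Subgroup.normalizer ((g • P : Sylow p G) : Set G) :=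
        ⟨Subgroup.mem_zpowers _, hyNg'⟩
      rw [h2] at h3
      exact h3.2
    obtain ⟨hgA, hQgA⟩ := h.conj_mem P hP hP1 hA hPA g
    have h4 : MulAut.conj g • A = A := h.eq_of_mem hy1 hyp hgA hA (hQgA hyQ) (hPA hyP)
    exact hg (h.mem_normalizer_of_smul_eq P hP hP1 hA hPA g h4)
  · intro M hM hCM
    rw [hcent] at hCM
    have h1 : M ≤ N := hkey M hM.1 hCM
    rcases eq_or_lt_of_le h1 with h2 | h2
    · exact h2
    · exact absurd (hM.2 N h2) hNtop

end NilCover

end Cfsg.Agent.Lib.Helper2
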