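import Cfsg.Prelude.Def_FusionSystem
import Cfsg.Prelude.Def_Solvable

set_option autoImplicit false

/-! Automorphisms acting trivially on a normal series `1 ≤ N ≤ P` form a normal `p`-subgroup. -/

namespace Cfsg.Agent.Lib.Helper2.StabChain

open Cfsg

variable {P : Type*} [Group P]

/-- automorphisms in `G` acting trivially on `N` and on `P/N`. -/
def stab (G : Subgroup (MulAut P)) (N : Subgroup P) : Subgroup ↥G where
  carrier := {α | (∀ y ∈ N, (α : MulAut P) y = y) ∧ ∀ y, (α : MulAut P) y * y⁻¹ ∈ N}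
  one_mem' := ⟨fun y _ => rfl, fun y => by
    show (1 : MulAut P) y * y⁻¹ ∈ N
    rw [MulAut.one_apply, mul_inv_cancel]
    exact N.one_mem⟩
  mul_mem' := by
    rintro α β ⟨ha1, ha2⟩ ⟨hb1, hb2⟩
    refine ⟨fun y hy => ?_, fun y => ?_⟩
    · show ((α : MulAut P) * (β : MulAut P)) y = y
      rw [MulAut.mul_apply, hb1 y hy, ha1 y hy]
    · show ((α : MulAut P) * (β : MulAut P)) y * y⁻¹ ∈ N
      rw [MulAut.mul_apply]
      have e : (α : MulAut P) ((β : MulAut P) y) * y⁻¹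
          = ((α : MulAut P) ((β : MulAut P) y) * ((β : MulAut P) y)⁻¹) * ((β : MulAut P) y * y⁻¹) := by
        group
      rw [e]
      exact N.mul_mem (ha2 _) (hb2 y)
  inv_mem' := by
    rintro α ⟨ha1, ha2⟩
    refine ⟨fun y hy => ?_, fun y => ?_⟩
    · show ((α : MulAut P)⁻¹) y = y
      conv_lhs => rw [← ha1 y hy]
      rw [MulAut.inv_apply_self]
    · show ((α : MulAut P)⁻¹) y * y⁻¹ ∈ N
      have h := ha2 ((α : MulAut P)⁻¹ y)
      rw [MulAut.apply_inv_self] at h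
      have e : (α : MulAut P)⁻¹ y * y⁻¹ = (y * ((α : MulAut P)⁻¹ y)⁻¹)⁻¹ := by group
      rw [e]
      exact N.inv_mem h

theorem mem_stab {G : Subgroup (MulAut P)} {N : Subgroup P} {α : ↥G} :
    α ∈ stab G N ↔ (∀ y ∈ N, (α : MulAut P) y = y) ∧ ∀ y, (α : MulAut P) y * y⁻¹ ∈ N := Iff.rfl

theorem stab_normal (G : Subgroup (MulAut P)) (N : Subgroup P)
    (hinv : ∀ β ∈ G, ∀ y ∈ N, β y ∈ N) : (stab G N).Normal := by
  constructor
  intro α hα β
  rw [mem_stab] at hα ⊢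
  obtain ⟨ha1, ha2⟩ := hα
  have hβinv : ∀ y ∈ N, (β : MulAut P)⁻¹ y ∈ N := fun y hy => hinv _ (G.inv_mem β.2) y hy
  refine ⟨fun y hy => ?_, fun y => ?_⟩
  · show ((β : MulAut P) * (α : MulAut P) * (β : MulAut P)⁻¹) y = y
    rw [MulAut.mul_apply, MulAut.mul_apply, ha1 _ (hβinv y hy), MulAut.apply_inv_self]
  · show ((β : MulAut P) * (α : MulAut P) * (β : MulAut P)⁻¹) y * y⁻¹ ∈ N
    rw [MulAut.mul_apply, MulAut.mul_apply]
    have h := ha2 ((β : MulAut P)⁻¹ y)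
    have h2 := hinv _ β.2 _ h
    rw [map_mul, map_inv, MulAut.apply_inv_self] at h2
    exact h2

theorem stab_pow {G : Subgroup (MulAut P)} {N : Subgroup P} {α : ↥G} (hα : α ∈ stab G N) (k : ℕ)
    (y : P) : ((α : MulAut P) ^ k) y = ((α : MulAut P) y * y⁻¹) ^ k * y := by
  rw [mem_stab] at hα
  induction k with
  | zero => simp
  | succ k ih =>
    rw [pow_succ', MulAut.mul_apply, ih, map_mul, map_pow, hα.1 _ (hα.2 y), pow_succ, mul_assoc,
      inv_mul_cancel_right]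

theorem stab_isPGroup {p : ℕ} [Fact p.Prime] [Finite P] (G : Subgroup (MulAut P)) (N : Subgroup P)
    (hN : IsPGroup p N) : IsPGroup p (stab G N) := by
  obtain ⟨m, hm⟩ := IsPGroup.iff_card.mp hN
  intro a
  refine ⟨m, ?_⟩
  apply Subtype.ext
  apply Subtype.ext
  show ((a : ↥G) : MulAut P) ^ (p ^ m) = 1
  ext y
  rw [stab_pow a.2, MulAut.one_apply]
  have hz : (((a : ↥G) : MulAut P) y * y⁻¹) ^ (p ^ m) = 1 := by
    have hmem := (mem_stab.mp a.2).2 y
    have h1 : (⟨_, hmem⟩ : ↥N) ^ Nat.card ↥N = 1 := pow_card_eq_one'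
    rw [hm] at h1
    exact congrArg Subtype.val h1
  rw [hz, one_mul]

theorem mem_pCore_map {p : ℕ} [Fact p.Prime] [Finite P] (G : Subgroup (MulAut P)) (N : Subgroup P)
    (hinv : ∀ β ∈ G, ∀ y ∈ N, β y ∈ N) (hN : IsPGroup p N) {α : MulAut P} (hα : α ∈ G)
    (h1 : ∀ y ∈ N, α y = y) (h2 : ∀ y, α y * y⁻¹ ∈ N) :
    α ∈ (pCore p ↥G).map G.subtype := by
  have hle : stab G N ≤ pCore p ↥G := le_sSup ⟨stab_normal G N hinv, stab_isPGroup G N hN⟩
  exact ⟨⟨α, hα⟩, hle (mem_stab.mpr ⟨h1, h2⟩), rfl⟩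

end Cfsg.Agent.Lib.Helper2.StabChain
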