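import Cfsg.Agent.Lib.Helper9.AlperinCor
import Cfsg.Agent.Lib.Helper9.CentricAgree
import Cfsg.Agent.Lib.Helper2.StabChain

set_option autoImplicit false
set_option linter.unusedVariables false

/-! A centric subgroup meeting a strongly closed subgroup `T` in a subgroup with a conjugate
not containing its centralizer in `T` is not radical. -/

namespace Cfsg.Agent.Lib.Helper2.NotRad

open Cfsg Cfsg.FusionSystem Cfsg.Agent.Lib.Helper9

variable {Ω : Type*} [Group Ω] {S : Subgroup Ω}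

theorem sc_map {F : FusionSystem S} {T : Subgroup Ω} (hsc : F.StronglyClosed T) {R : Subgroup Ω}
    {φ : R →* Ω} (hφ : φ ∈ F.Hom R) (x : R) (hx : (x : Ω) ∈ T) : φ x ∈ T := by
  have h := hsc.2 (R ⊓ T) inf_le_right _ (restrict_mem F hφ (inf_le_left : R ⊓ T ≤ R))
    ⟨x, ⟨x.2, hx⟩⟩
  exact h

theorem sc_conj {F : FusionSystem S} {T : Subgroup Ω} (hsc : F.StronglyClosed T) {s : Ω}
    (hs : s ∈ S) {t : Ω} (ht : t ∈ T) : s * t * s⁻¹ ∈ T := by
  have h := hsc.2 T le_rfl _ (F.conj_mem hsc.1 hs) ⟨t, ht⟩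
  exact h

theorem sc_conj_iff {F : FusionSystem S} {T : Subgroup Ω} (hsc : F.StronglyClosed T) {s : Ω}
    (hs : s ∈ S) (t : Ω) : t ∈ T ↔ s * t * s⁻¹ ∈ T := by
  refine ⟨sc_conj hsc hs, fun h => ?_⟩
  have h2 := sc_conj hsc (S.inv_mem hs) h
  have e : s⁻¹ * (s * t * s⁻¹) * s⁻¹⁻¹ = t := by group
  rwa [e] at h2

theorem le_normalizer_of_conj (H K : Subgroup Ω) (h : ∀ g ∈ K, ∀ x ∈ H, g * x * g⁻¹ ∈ H) :
    K ≤ Subgroup.normalizer (H : Set Ω) := by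
  intro g hg
  rw [Subgroup.mem_normalizer_iff]
  intro x
  refine ⟨h g hg x, fun hx => ?_⟩
  have h2 := h g⁻¹ (K.inv_mem hg) _ hx
  have e : g⁻¹ * (g * x * g⁻¹) * g⁻¹⁻¹ = x := by group
  rwa [e] at h2

theorem main [Finite S] (p : ℕ) [Fact p.Prime] (hS : IsPGroup p S) (F : FusionSystem S)
    (hF : F.IsSaturated p) {T : Subgroup Ω} (hsc : F.StronglyClosed T) (P : Subgroup Ω)
    (hP : F.IsCentric P) (X : Subgroup Ω) (hFX : F.IsConj (P ⊓ T) X)
    (hXc : ¬ centralizerIn T X ≤ X) :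
    (∃ φ ∈ F.Hom P, ∃ x ∈ S ⊓ Subgroup.normalizer (φ.range : Set Ω), x ∉ φ.range ∧
      ∃ α ∈ ((Cfsg.pCore p ↥(F.autGroup φ.range)).map (F.autGroup φ.range).subtype :
        Subgroup (MulAut ↥φ.range)),
        ∀ y : ↥φ.range, ((α y : ↥φ.range) : Ω) = x * (y : Ω) * x⁻¹) ∧ ¬ F.IsRadical p P := by
  have hTS : T ≤ S := hsc.1
  have hPS : P ≤ S := hP.1
  obtain ⟨c, hcC, hcX⟩ := SetLike.not_le_iff_exists.mp hXc
  -- step 2
  have hP0S : P ⊓ T ≤ S := inf_le_left.trans hPS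
  obtain ⟨Q0, hPQ0, hQ0n⟩ := exists_isConj_fullyNormalized F hP0S
  have hfa := fullyAutomized_of_fullyNormalized hS F hF hQ0n
  have hfc := fullyCentralized_of_fullyNormalized hS F hF hQ0n
  have hrec := receptive_of_fullyCentralized hS F hF hfc
  obtain ⟨ψ, hψ, hψN, hψP0⟩ := exists_normalizer_hom hS F Q0 (P ⊓ T) hfa hrec hPQ0
  have hXQ0 : F.IsConj X Q0 := isConj_trans F (isConj_symm F hFX) hPQ0
  obtain ⟨ψX, hψX, hψXN, hψXX⟩ := exists_normalizer_hom hS F Q0 X hfa hrec hXQ0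
  -- step 3
  have hd : ∃ d, d ∈ T ∧ d ∈ Subgroup.centralizer (Q0 : Set Ω) ∧ d ∉ Q0 := by
    have hcT : c ∈ T := hcC.1
    have hcCX : c ∈ Subgroup.centralizer (X : Set Ω) := hcC.2
    have hcN : c ∈ normalizerIn S X := ⟨hTS hcT, Subgroup.centralizer_le_normalizer _ hcCX⟩
    refine ⟨ψX ⟨c, hcN⟩, sc_map hsc hψX ⟨c, hcN⟩ hcT, ?_, ?_⟩
    · rw [Subgroup.mem_centralizer_iff]
      intro q hq
      rw [SetLike.mem_coe, ← hψXX] at hq
      obtain ⟨x', hx', rfl⟩ := hq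
      simp only [SetLike.mem_coe, Subgroup.mem_subgroupOf] at hx'
      have hcomm : x' * ⟨c, hcN⟩ = ⟨c, hcN⟩ * x' := by
        apply Subtype.ext
        exact (Subgroup.mem_centralizer_iff.mp hcCX) (x' : Ω) hx'
      rw [← map_mul, ← map_mul, hcomm]
    · intro hmem
      rw [← hψXX] at hmem
      obtain ⟨x', hx', hx'eq⟩ := hmem
      simp only [SetLike.mem_coe, Subgroup.mem_subgroupOf] at hx'
      have h3 := F.injective_of_mem hψX hx'eq
      have h4 : (x' : Ω) = c := congrArg Subtype.val h3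
      exact hcX (h4 ▸ hx')
  obtain ⟨d, hdT, hdC, hdQ0⟩ := hd
  -- step 4
  have hPN : P ≤ normalizerIn S (P ⊓ T) := by
    intro g hg
    refine ⟨hPS hg, ?_⟩
    show g ∈ Subgroup.normalizer ((P ⊓ T : Subgroup Ω) : Set Ω)
    rw [Subgroup.mem_normalizer_iff]
    intro h
    constructor
    · rintro ⟨h1, h2⟩
      exact ⟨P.mul_mem (P.mul_mem hg h1) (P.inv_mem hg), sc_conj hsc (hPS hg) h2⟩
    · rintro ⟨h1, h2⟩
      refine ⟨?_, (sc_conj_iff hsc (hPS hg) h).mpr h2⟩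
      have h3 := P.mul_mem (P.mul_mem (P.inv_mem hg) h1) hg
      have e : g⁻¹ * (g * h * g⁻¹) * g = h := by group
      rwa [e] at h3
  obtain ⟨φ, hφdef⟩ : ∃ φ : P →* Ω, φ = ψ.comp (Subgroup.inclusion hPN) := ⟨_, rfl⟩
  have hφ : φ ∈ F.Hom P := by rw [hφdef]; exact restrict_mem F hψ hPN
  have hφv : ∀ y : P, φ y = ψ (Subgroup.inclusion hPN y) := fun y => by rw [hφdef]; rfl
  obtain ⟨θ, hθ, hθ1, hθr, hθ2⟩ := inv_hom F hφ rfl
  have hφQ0 : ∀ y : P, (y : Ω) ∈ T → φ y ∈ Q0 := by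
    intro y hy
    rw [← hψP0, hφv]
    exact ⟨Subgroup.inclusion hPN y, Subgroup.mem_subgroupOf.mpr ⟨y.2, hy⟩, rfl⟩
  have hφT : ∀ y : P, φ y ∈ T → (y : Ω) ∈ T := by
    intro y hy
    have h := sc_map hsc hθ ⟨φ y, ⟨y, rfl⟩⟩ hy
    have h2 := hθ1 y ⟨y, rfl⟩
    rw [h2] at h
    exact h
  have hstar : ∀ w, w ∈ φ.range → w ∈ T → w ∈ Q0 := by
    rintro _ ⟨y, rfl⟩ hT
    exact hφQ0 y (hφT y hT)
  have hQ0T : Q0 ≤ T := by
    intro q hq
    rw [← hψP0] at hq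
    obtain ⟨x', hx', rfl⟩ := hq
    simp only [SetLike.mem_coe, Subgroup.mem_subgroupOf] at hx'
    exact sc_map hsc hψ x' hx'.2
  have hQ0star : Q0 ≤ φ.range := by
    intro q hq
    rw [← hψP0] at hq
    obtain ⟨x', hx', rfl⟩ := hq
    simp only [SetLike.mem_coe, Subgroup.mem_subgroupOf] at hx'
    refine ⟨⟨(x' : Ω), hx'.1⟩, ?_⟩
    rw [hφv]
    rfl
  -- step 5
  have hstarS : φ.range ≤ S := range_le F hφ
  have hcen : F.IsCentric φ.range := centric_of_isConj F hP ⟨φ, hφ, rfl⟩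
  have hcen' : centralizerIn S φ.range ≤ φ.range := hcen.2 _ (isConj_refl F hstarS)
  have hconjQ0 : ∀ g ∈ φ.range, ∀ q ∈ Q0, g * q * g⁻¹ ∈ Q0 := by
    intro g hg q hq
    exact hstar _ (φ.range.mul_mem (φ.range.mul_mem hg (hQ0star hq)) (φ.range.inv_mem hg))
      (sc_conj hsc (hstarS hg) (hQ0T hq))
  have hnormD : φ.range ≤ Subgroup.normalizer ((centralizerIn T Q0 : Subgroup Ω) : Set Ω) := by
    apply le_normalizer_of_conj
    intro g hg h hh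
    refine ⟨sc_conj hsc (hstarS hg) hh.1, ?_⟩
    show g * h * g⁻¹ ∈ Subgroup.centralizer (Q0 : Set Ω)
    rw [Subgroup.mem_centralizer_iff]
    intro q hq
    have hq' := hconjQ0 g⁻¹ (φ.range.inv_mem hg) q hq
    have hc := (Subgroup.mem_centralizer_iff.mp hh.2) _ hq'
    rw [inv_inv] at hc
    have e1 : q * (g * h * g⁻¹) = g * ((g⁻¹ * q * g) * h) * g⁻¹ := by group
    have e2 : g * h * g⁻¹ * q = g * (h * (g⁻¹ * q * g)) * g⁻¹ := by group
    rw [e1, e2, hc]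
  have hdD : d ∈ centralizerIn T Q0 := ⟨hdT, hdC⟩
  have hRS : φ.range ⊔ centralizerIn T Q0 ≤ S := sup_le hstarS (inf_le_left.trans hTS)
  have hlt : φ.range < φ.range ⊔ centralizerIn T Q0 := by
    rw [SetLike.lt_iff_le_and_exists]
    exact ⟨le_sup_left, d, le_sup_right (a := φ.range) hdD, fun h => hdQ0 (hstar d h hdT)⟩
  haveI : Finite ↥(φ.range ⊔ centralizerIn T Q0) := finite_of_le hRS
  have hRp : IsPGroup p ↥(φ.range ⊔ centralizerIn T Q0) := isPGroup_of_le hS hRS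
  obtain ⟨g, hgN, hgn⟩ := exists_mem_normalizerIn_not_mem (S := φ.range ⊔ centralizerIn T Q0)
    hRp hlt
  have hgR : g ∈ ((φ.range ⊔ centralizerIn T Q0 : Subgroup Ω) : Set Ω) := hgN.1
  rw [Subgroup.coe_mul_of_left_le_normalizer_right _ _ hnormD] at hgR
  obtain ⟨u, hu, x, hx, hux⟩ := Set.mem_mul.mp hgR
  rw [SetLike.mem_coe] at hu hx
  have hxnorm : x ∈ Subgroup.normalizer (φ.range : Set Ω) := by
    have h1 := (Subgroup.normalizer (φ.range : Set Ω)).mul_mem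
      ((Subgroup.normalizer (φ.range : Set Ω)).inv_mem (Subgroup.le_normalizer hu)) hgN.2
    rw [← hux, inv_mul_cancel_left] at h1
    exact h1
  have hxnot : x ∉ φ.range := fun h => hgn (hux ▸ φ.range.mul_mem hu h)
  have hxT : x ∈ T := hx.1
  have hxC : x ∈ Subgroup.centralizer (Q0 : Set Ω) := hx.2
  have hxS : x ∈ S := hTS hxT
  have hxn : ∀ w, w ∈ φ.range ↔ x * w * x⁻¹ ∈ φ.range := Subgroup.mem_normalizer_iff.mp hxnorm
  -- step 6
  have hconj : conjHom φ.range x ∈ F.Hom φ.range := F.conj_mem hstarS hxS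
  have hr : (conjHom φ.range x).range = φ.range := by
    apply le_antisymm
    · rintro _ ⟨w, rfl⟩
      exact (hxn w).mp w.2
    · intro w hw
      have hw' : x⁻¹ * w * x ∈ φ.range := by
        rw [hxn]
        have e : x * (x⁻¹ * w * x) * x⁻¹ = w := by group
        rw [e]
        exact hw
      refine ⟨⟨x⁻¹ * w * x, hw'⟩, ?_⟩
      rw [conjHom_apply]
      show x * (x⁻¹ * w * x) * x⁻¹ = w
      group
  obtain ⟨α, hα, hαv⟩ := exists_aut_of_hom F hconj hr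
  haveI : Finite ↥φ.range := finite_of_le hstarS
  have hxcomm : ∀ q ∈ Q0, x * q * x⁻¹ = q := by
    intro q hq
    have h := (Subgroup.mem_centralizer_iff.mp hxC) q hq
    rw [← h, mul_inv_cancel_right]
  have hαmem : α ∈ ((Cfsg.pCore p ↥(F.autGroup φ.range)).map (F.autGroup φ.range).subtype :
      Subgroup (MulAut ↥φ.range)) := by
    apply Cfsg.Agent.Lib.Helper2.StabChain.mem_pCore_map (F.autGroup φ.range)
      (T.subgroupOf φ.range) ?_ ((isPGroup_of_le hS hstarS).to_subgroup _) hα ?_ ?_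
    · intro β hβ y hy
      rw [Subgroup.mem_subgroupOf] at hy ⊢
      exact sc_map hsc (hom_of_mem_autGroup F hstarS hβ) y hy
    · intro y hy
      rw [Subgroup.mem_subgroupOf] at hy
      apply Subtype.ext
      rw [hαv, conjHom_apply]
      exact hxcomm _ (hstar _ y.2 hy)
    · intro y
      rw [Subgroup.mem_subgroupOf]
      show ((α y : ↥φ.range) : Ω) * ((y : ↥φ.range) : Ω)⁻¹ ∈ T
      rw [hαv, conjHom_apply]
      have h1 := sc_conj hsc (hstarS y.2) (T.inv_mem hxT)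
      have e : x * (y : Ω) * x⁻¹ * (y : Ω)⁻¹ = x * ((y : Ω) * x⁻¹ * (y : Ω)⁻¹) := by group
      rw [e]
      exact T.mul_mem hxT h1
  refine ⟨⟨φ, hφ, x, ⟨hxS, hxnorm⟩, hxnot, α, hαmem, fun y => by rw [hαv, conjHom_apply]⟩, ?_⟩
  -- step 7
  intro hrad
  obtain ⟨-, hradeq⟩ := hrad
  obtain ⟨χ1, hχ1, hχ1v⟩ := comp_hom F hφ hconj (fun y => ⟨y, rfl⟩)
  have hχ1e : ∀ y : P, χ1 y = x * φ y * x⁻¹ := fun y => by rw [hχ1v, conjHom_apply]
  have hχ1r : ∀ y : P, χ1 y ∈ φ.range := fun y => by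
    rw [hχ1e]
    exact (hxn _).mp ⟨y, rfl⟩
  obtain ⟨χ2, hχ2, hχ2v⟩ := comp_hom F hχ1 hθ hχ1r
  have hχ2P : ∀ y : P, χ2 y ∈ P := fun y => by
    rw [hχ2v]
    exact hθr.le ⟨_, rfl⟩
  haveI : Finite ↥P := finite_of_le hPS
  have hχ2range : χ2.range = P := by
    apply Subgroup.eq_of_le_of_card_ge
    · rintro _ ⟨y, rfl⟩
      exact hχ2P y
    · exact (Nat.card_congr (MonoidHom.ofInjective (F.injective_of_mem hχ2)).toEquiv).le
  obtain ⟨γ, hγ, hγv⟩ := exists_aut_of_hom F hχ2 hχ2range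
  have hγmem : γ ∈ ((Cfsg.pCore p ↥(F.autGroup P)).map (F.autGroup P).subtype :
      Subgroup (MulAut ↥P)) := by
    apply Cfsg.Agent.Lib.Helper2.StabChain.mem_pCore_map (F.autGroup P)
      (T.subgroupOf P) ?_ ((isPGroup_of_le hS hPS).to_subgroup _) hγ ?_ ?_
    · intro β hβ y hy
      rw [Subgroup.mem_subgroupOf] at hy ⊢
      exact sc_map hsc (hom_of_mem_autGroup F hPS hβ) y hy
    · intro y hy
      rw [Subgroup.mem_subgroupOf] at hy
      apply Subtype.ext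
      rw [hγv, hχ2v]
      have e : (⟨χ1 y, hχ1r y⟩ : ↥φ.range) = ⟨φ y, ⟨y, rfl⟩⟩ := by
        apply Subtype.ext
        show χ1 y = φ y
        rw [hχ1e]
        exact hxcomm _ (hφQ0 y hy)
      rw [e]
      exact hθ1 y ⟨y, rfl⟩
    · intro y
      rw [Subgroup.mem_subgroupOf]
      show ((γ y : ↥P) : Ω) * ((y : ↥P) : Ω)⁻¹ ∈ T
      rw [hγv, hχ2v]
      have hy2 : ((y : ↥P) : Ω) = θ ⟨φ y, ⟨y, rfl⟩⟩ := (hθ1 y ⟨y, rfl⟩).symm
      rw [hy2, ← map_inv, ← map_mul]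
      apply sc_map hsc hθ
      show χ1 y * (φ y)⁻¹ ∈ T
      rw [hχ1e]
      have h1 := sc_conj hsc (hstarS ⟨y, rfl⟩) (T.inv_mem hxT)
      have e : x * φ y * x⁻¹ * (φ y)⁻¹ = x * (φ y * x⁻¹ * (φ y)⁻¹) := by group
      rw [e]
      exact T.mul_mem hxT h1
  rw [hradeq] at hγmem
  obtain ⟨u0, hu0⟩ := hγmem
  have hγu : ∀ y : P, γ y = u0 * y * u0⁻¹ := fun y => by rw [← hu0, MulAut.conj_apply]
  have key : ∀ y : P, φ u0 * φ y * (φ u0)⁻¹ = x * φ y * x⁻¹ := by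
    intro y
    obtain ⟨h, hh⟩ := hθ2 ⟨χ1 y, hχ1r y⟩
    have e : (⟨θ ⟨χ1 y, hχ1r y⟩, h⟩ : ↥P) = u0 * y * u0⁻¹ := by
      apply Subtype.ext
      show θ ⟨χ1 y, hχ1r y⟩ = ((u0 * y * u0⁻¹ : ↥P) : Ω)
      rw [← hγu, hγv, hχ2v]
    rw [e] at hh
    have hh' : φ (u0 * y * u0⁻¹) = χ1 y := hh
    rw [map_mul, map_mul, map_inv, hχ1e] at hh'
    exact hh'
  have hcenmem : (φ u0)⁻¹ * x ∈ centralizerIn S φ.range := by
    refine ⟨S.mul_mem (S.inv_mem (hstarS ⟨u0, rfl⟩)) hxS, ?_⟩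
    show (φ u0)⁻¹ * x ∈ Subgroup.centralizer (φ.range : Set Ω)
    rw [Subgroup.mem_centralizer_iff]
    rintro _ ⟨y, rfl⟩
    have e := key y
    calc φ y * ((φ u0)⁻¹ * x) = (φ u0)⁻¹ * (φ u0 * φ y * (φ u0)⁻¹) * x := by group
      _ = (φ u0)⁻¹ * (x * φ y * x⁻¹) * x := by rw [e]
      _ = (φ u0)⁻¹ * x * φ y := by group
  have h5 := hcen' hcenmem
  have h6 := φ.range.mul_mem (⟨u0, rfl⟩ : φ u0 ∈ φ.range) h5
  rw [mul_inv_cancel_left] at h6
  exact hxnot h6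

end Cfsg.Agent.Lib.Helper2.NotRad
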