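import Mathlib
import Cfsg.Agent.Lib.Lead.SylowCount

/-! Groups of order dividing `175560 = 2^3 * 3 * 5 * 7 * 11 * 19` and divisible by `19`: tools for
the reduction "not simple => normal Sylow `19`-subgroup" (helper2, for S4274, after lead's
blueprint). -/

set_option autoImplicit false
set_option linter.style.haveILetI false

namespace Cfsg.Agent.Lib.Helper2.Sy19

open Cfsg.Agent.Lib.Lead Cfsg.Agent.Lib.Lead.SylowCount

universe u

/-- all Sylow `19`-subgroups are normal -/
def N19 (H : Type u) [Group H] : Prop := ∀ P : Sylow 19 H, (P : Subgroup H).Normal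

variable {H : Type u} [Group H] [Finite H]

theorem card_sylow19 (hdiv : Nat.card H ∣ 175560) (h19 : 19 ∣ Nat.card H) (P : Sylow 19 H) :
    Nat.card P = 19 := by
  haveI : Fact (Nat.Prime 19) := ⟨by norm_num⟩
  obtain ⟨r, hr⟩ := h19
  apply card_sylow_of_card_eq 19 r hr
  intro h2
  obtain ⟨s, hs⟩ := h2
  rw [hr, hs] at hdiv
  have : 19 * 19 ∣ 175560 := Dvd.dvd.trans ⟨s, by ring⟩ hdiv
  omega

/-- a normal subgroup of order `19` is the only Sylow `19`-subgroup -/
theorem n19_of_normal_card (hdiv : Nat.card H ∣ 175560) (K : Subgroup H) [K.Normal]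
    (hK : Nat.card K = 19) : N19 H := by
  intro P
  haveI : Fact (Nat.Prime 19) := ⟨by norm_num⟩
  have hKp : IsPGroup 19 K := IsPGroup.of_card (n := 1) (by rw [hK, pow_one])
  have hle : K ≤ P := hKp.le_sylow_of_normal P
  have h19 : 19 ∣ Nat.card H := by rw [← hK]; exact Subgroup.card_subgroup_dvd_card K
  have hcP := card_sylow19 hdiv h19 P
  have heq : K = (P : Subgroup H) :=
    Subgroup.eq_of_le_of_card_ge hle (by rw [hcP, hK])
  rw [← heq]
  infer_instance

/-- a normal subgroup with a normal Sylow `19`-subgroup gives a normal subgroup of order `19` -/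
theorem exists_normal_card_of_n19 (hdiv : Nat.card H ∣ 175560) (N : Subgroup H) [N.Normal]
    (h19 : 19 ∣ Nat.card N) (hN : N19 ↥N) : ∃ K : Subgroup H, K.Normal ∧ Nat.card K = 19 := by
  haveI : Fact (Nat.Prime 19) := ⟨by norm_num⟩
  obtain ⟨P₀⟩ : Nonempty (Sylow 19 N) := inferInstance
  haveI : (P₀ : Subgroup N).Characteristic := Sylow.characteristic_of_normal P₀ (hN P₀)
  refine ⟨(P₀ : Subgroup N).map N.subtype, inferInstance, ?_⟩
  rw [Nat.card_congr (Subgroup.equivMapOfInjective _ N.subtype N.subtype_injective).toEquiv.symm]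
  exact card_sylow19 ((Subgroup.card_subgroup_dvd_card N).trans hdiv) h19 P₀

/-- the order of the full preimage of a subgroup of the quotient -/
theorem card_comap_mk (N : Subgroup H) [N.Normal] (K : Subgroup (H ⧸ N)) :
    Nat.card (K.comap (QuotientGroup.mk' N)) = Nat.card N * Nat.card K := by
  have e := QuotientGroup.preimageMkEquivSubgroupProdSet N (K : Set (H ⧸ N))
  have h1 : Nat.card (K.comap (QuotientGroup.mk' N)) =
      Nat.card ((QuotientGroup.mk : H → H ⧸ N) ⁻¹' (K : Set (H ⧸ N))) := rfl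
  rw [h1, Nat.card_congr e, Nat.card_prod]
  rfl

/-- prime powers dividing `9240` are smaller than `19` -/
theorem prime_pow_lt {r j q : ℕ} (hr : r.Prime) (hq : q = r ^ j) (hdiv : q ∣ 9240) : q < 19 := by
  by_contra hge
  push Not at hge
  have key : ∀ q ∈ Nat.divisors 9240, 19 ≤ q →
      ∃ a ∈ ({2, 3, 5, 7, 11} : Finset ℕ), ∃ b ∈ ({2, 3, 5, 7, 11} : Finset ℕ),
        a ≠ b ∧ a ∣ q ∧ b ∣ q := by decide +kernel
  obtain ⟨a, ha, b, hb, hab, haq, hbq⟩ :=
    key q (Nat.mem_divisors.mpr ⟨hdiv, by norm_num⟩) hge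
  have hap : a.Prime := by
    simp only [Finset.mem_insert, Finset.mem_singleton] at ha
    rcases ha with rfl | rfl | rfl | rfl | rfl <;> norm_num
  have hbp : b.Prime := by
    simp only [Finset.mem_insert, Finset.mem_singleton] at hb
    rcases hb with rfl | rfl | rfl | rfl | rfl <;> norm_num
  rw [hq] at haq hbq
  have h1 : a = r := (Nat.prime_dvd_prime_iff_eq hap hr).mp (hap.dvd_of_dvd_pow haq)
  have h2 : b = r := (Nat.prime_dvd_prime_iff_eq hbp hr).mp (hbp.dvd_of_dvd_pow hbq)
  exact hab (h1.trans h2.symm)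

end Cfsg.Agent.Lib.Helper2.Sy19
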