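import Mathlib
import Cfsg.Prelude.Def_LocalStructure
import Cfsg.Agent.Lib.Helper2.Sy19A

/-! Tools for S3875 (least order of a group that is not `p`-closed), after lead's blueprint:
groups with `p ∥ |H|` (helper2). -/

set_option autoImplicit false
set_option linter.style.haveILetI false

namespace Cfsg.Agent.Lib.Helper2.Npc

open Cfsg.Agent.Lib.Lead Cfsg.Agent.Lib.Lead.SylowCount

variable {p : ℕ} [hp : Fact p.Prime] {H : Type*} [Group H] [Finite H]

theorem card_sylow_of_not_sq (hp1 : p ∣ Nat.card H) (hp2 : ¬ p ^ 2 ∣ Nat.card H)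
    (P : Sylow p H) : Nat.card P = p := by
  obtain ⟨r, hr⟩ := hp1
  apply card_sylow_of_card_eq p r hr
  intro h2
  obtain ⟨s, hs⟩ := h2
  apply hp2
  rw [hr, hs]
  exact ⟨s, by ring⟩

/-- a normal subgroup of order `p` is the only Sylow `p`-subgroup when `p ∥ |H|` -/
theorem pclosed_of_normal_card (hp2 : ¬ p ^ 2 ∣ Nat.card H) (K : Subgroup H) [K.Normal]
    (hK : Nat.card K = p) : Cfsg.IsPClosed p H := by
  intro P
  have hKp : IsPGroup p K := IsPGroup.of_card (n := 1) (by rw [hK, pow_one])
  have hle : K ≤ P := hKp.le_sylow_of_normal P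
  have hp1 : p ∣ Nat.card H := by rw [← hK]; exact Subgroup.card_subgroup_dvd_card K
  have hcP := card_sylow_of_not_sq hp1 hp2 P
  have heq : K = (P : Subgroup H) :=
    Subgroup.eq_of_le_of_card_ge hle (by rw [hcP, hK])
  rw [← heq]
  infer_instance

/-- a `p`-closed normal subgroup of order divisible by `p` gives a normal subgroup of order `p` -/
theorem exists_normal_card_of_pclosed (hp2 : ¬ p ^ 2 ∣ Nat.card H) (N : Subgroup H) [N.Normal]
    (hpN : p ∣ Nat.card N) (hN : Cfsg.IsPClosed p ↥N) :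
    ∃ K : Subgroup H, K.Normal ∧ Nat.card K = p := by
  obtain ⟨P₀⟩ : Nonempty (Sylow p N) := inferInstance
  haveI : (P₀ : Subgroup N).Characteristic := Sylow.characteristic_of_normal P₀ (hN P₀)
  refine ⟨(P₀ : Subgroup N).map N.subtype, inferInstance, ?_⟩
  rw [Nat.card_congr (Subgroup.equivMapOfInjective _ N.subtype N.subtype_injective).toEquiv.symm]
  apply card_sylow_of_not_sq hpN
  intro h2
  exact hp2 (h2.trans (Subgroup.card_subgroup_dvd_card N))

end Cfsg.Agent.Lib.Helper2.Npc
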