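import Mathlib
import Cfsg.Agent.Lib.Helper2.Npc1

/-! `|H| = p |N|` with `N` normal of order prime to `p`: either some prime power `q ≤ |N|` is
`1` modulo `p`, or the Sylow `p`-subgroup is normal (helper2, for S3875). -/

set_option autoImplicit false
set_option linter.style.haveILetI false

namespace Cfsg.Agent.Lib.Helper2.Npc

open Cfsg.Agent.Lib.Lead Cfsg.Agent.Lib.Lead.SylowCount

variable {p : ℕ} [hp : Fact p.Prime] {H : Type*} [Group H] [Finite H]

/-- an element of order `p` normalizing an `r`-group `R` (`r ≠ p`) centralizes it, or some power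
`r ^ i > 1` dividing `|R|` is `1` modulo `p` -/
theorem centralizes_or_primePow (R : Subgroup H) {r k : ℕ} (hr : r.Prime) (hrp : r ≠ p)
    (hR : Nat.card R = r ^ k) (x : ↥(Subgroup.normalizer (R : Set H))) (hx : orderOf x = p) :
    (∀ y ∈ R, (x : H) * y = y * (x : H)) ∨
      ∃ i, 0 < i ∧ r ^ i ∣ Nat.card R ∧ r ^ i % p = 1 := by
  classical
  haveI : Fintype ↥R := Fintype.ofFinite _
  have hpp : p.Prime := hp.out
  let φ := R.normalizerMonoidHom
  let a : ↥R ≃* ↥R := φ x
  let σ : Equiv.Perm ↥R := MulAut.toPerm ↥R a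
  let C : Subgroup ↥R := (a.toMonoidHom).eqLocus (MonoidHom.id ↥R)
  have hCdvd : Nat.card C ∣ r ^ k := hR ▸ Subgroup.card_subgroup_dvd_card C
  obtain ⟨j, hjk, hj⟩ := (Nat.dvd_prime_pow hr).mp hCdvd
  have hσ : σ ^ p ^ 1 = 1 := by
    rw [pow_one]
    show (MulAut.toPerm ↥R (φ x)) ^ p = 1
    rw [← map_pow, ← map_pow, ← hx, pow_orderOf_eq_one, map_one, map_one]
  have hmod := Equiv.Perm.card_compl_support_modEq (p := p) (n := 1) hσ
  have hC : Nat.card C = σ.supportᶜ.card := by
    rw [← Nat.card_eq_finsetCard]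
    apply Nat.card_congr
    exact Equiv.subtypeEquivRight (fun y => by
      rw [Finset.mem_compl, Equiv.Perm.mem_support, not_not]; rfl)
  rw [← hC, hj, ← Nat.card_eq_fintype_card, hR] at hmod
  rcases Nat.lt_or_ge j k with hlt | hge
  · right
    refine ⟨k - j, by omega, ?_, ?_⟩
    · rw [hR]; exact pow_dvd_pow r (Nat.sub_le k j)
    · have h1 : r ^ k = r ^ j * r ^ (k - j) := by rw [← pow_add]; congr 1; omega
      rw [h1] at hmod
      have h2 : r ^ j * 1 ≡ r ^ j * r ^ (k - j) [MOD p] := by rw [mul_one]; exact hmod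
      have hcop : Nat.gcd p (r ^ j) = 1 :=
        Nat.Coprime.pow_right j ((Nat.coprime_primes hpp hr).mpr (Ne.symm hrp))
      have h3 := Nat.ModEq.cancel_left_of_coprime hcop h2
      have h4 : r ^ (k - j) % p = 1 % p := h3.symm
      rw [h4]
      exact Nat.mod_eq_of_lt hpp.one_lt
  · left
    have hjk' : j = k := le_antisymm hjk hge
    have hCtop : C = ⊤ := by
      apply Subgroup.eq_top_of_card_eq
      rw [hj, hjk', hR]
    intro y hy
    have h1 : (⟨y, hy⟩ : ↥R) ∈ C := by rw [hCtop]; trivial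
    have h2 : a ⟨y, hy⟩ = ⟨y, hy⟩ := h1
    have h3 : ((a ⟨y, hy⟩ : ↥R) : H) = (x : H) * y * (x : H)⁻¹ := rfl
    rw [h2] at h3
    have h4 : y = (x : H) * y * (x : H)⁻¹ := h3
    calc (x : H) * y = ((x : H) * y * (x : H)⁻¹) * (x : H) := by group
      _ = y * (x : H) := by rw [← h4]

/-- for every prime `r`: the `r`-part of `|N|` divides `|C_N(x)|`, or a prime power is found -/
theorem pow_dvd_or_primePow (N : Subgroup H) [N.Normal] (hpN : ¬ p ∣ Nat.card N)
    (hH : Nat.card H = p * Nat.card N) (x : H) (hx : orderOf x = p) (r : ℕ)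
    [Fact r.Prime] :
    r ^ (Nat.card N).factorization r ∣
        Nat.card (Subgroup.centralizer ({x} : Set H) ⊓ N : Subgroup H) ∨
      ∃ q, IsPrimePow q ∧ q % p = 1 ∧ q ≤ Nat.card N := by
  have hpp : p.Prime := hp.out
  have hr : r.Prime := Fact.out
  by_cases hrp : r = p
  · left
    rw [hrp, Nat.factorization_eq_zero_of_not_dvd hpN, pow_zero]
    exact one_dvd _
  obtain ⟨R₀⟩ : Nonempty (Sylow r N) := inferInstance
  obtain ⟨R, hRdef⟩ : ∃ R : Subgroup H, R = (R₀ : Subgroup N).map N.subtype := ⟨_, rfl⟩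
  have hRcard : Nat.card R = r ^ (Nat.card N).factorization r := by
    rw [hRdef, Nat.card_congr
      (Subgroup.equivMapOfInjective _ N.subtype N.subtype_injective).toEquiv.symm]
    exact R₀.card_eq_multiplicity
  have hRN : R ≤ N := by rw [hRdef]; exact Subgroup.map_subtype_le _
  -- Frattini
  have hfrat : Subgroup.normalizer (R : Set H) ⊔ N = ⊤ := by
    rw [hRdef]; exact Sylow.normalizer_sup_eq_top R₀
  have hidx : N.index = p := by
    have h1 := N.card_mul_index
    rw [hH] at h1
    have hpos : 0 < Nat.card N := Nat.card_pos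
    apply Nat.eq_of_mul_eq_mul_left hpos
    rw [h1]; ring
  have hpR : p ∣ Nat.card (Subgroup.normalizer (R : Set H)) := by
    have h1 : N.relIndex (Subgroup.normalizer (R : Set H) ⊔ N)
        = N.relIndex (Subgroup.normalizer (R : Set H)) :=
      Subgroup.relIndex_sup_right (Subgroup.normalizer (R : Set H)) N
    rw [hfrat, Subgroup.relIndex_top_right, hidx] at h1
    rw [h1]
    exact Subgroup.relIndex_dvd_card _ _
  obtain ⟨x', hx'⟩ :=
    exists_prime_orderOf_dvd_card' (G := ↥(Subgroup.normalizer (R : Set H))) p hpR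
  rcases centralizes_or_primePow R hr hrp hRcard x' hx' with hcomm | ⟨i, hi0, hidvd, himod⟩
  swap
  · right
    refine ⟨r ^ i, ?_, himod, ?_⟩
    · rw [isPrimePow_nat_iff]; exact ⟨r, i, hr, hi0, rfl⟩
    · exact (Nat.le_of_dvd Nat.card_pos hidvd).trans (Subgroup.card_le_of_le hRN)
  left
  have hx₁ : orderOf (x' : H) = p := by rw [Subgroup.orderOf_coe]; exact hx'
  -- `zpowers x` and `zpowers x'` are Sylow subgroups, hence conjugate
  have hsyl : ∀ w : H, orderOf w = p →
      ∃ Q : Sylow p H, (Q : Subgroup H) = Subgroup.zpowers w := by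
    intro w hw
    have hc : Nat.card (Subgroup.zpowers w) = p := by rw [Nat.card_zpowers, hw]
    have hpg : IsPGroup p (Subgroup.zpowers w) := IsPGroup.of_card (n := 1) (by rw [hc, pow_one])
    have hi : ¬ p ∣ (Subgroup.zpowers w).index := by
      have h1 := (Subgroup.zpowers w).card_mul_index
      rw [hc, hH] at h1
      have : (Subgroup.zpowers w).index = Nat.card N := Nat.eq_of_mul_eq_mul_left hpp.pos h1
      rw [this]; exact hpN
    exact ⟨hpg.toSylow hi, rfl⟩
  obtain ⟨Q, hQ⟩ := hsyl x hx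
  obtain ⟨Q', hQ'⟩ := hsyl (x' : H) hx₁
  obtain ⟨g, hg⟩ := MulAction.exists_smul_eq H Q' Q
  have hxmem : x ∈ ((g • Q' : Sylow p H) : Subgroup H) := by
    rw [hg, hQ]; exact Subgroup.mem_zpowers x
  rw [Sylow.coe_subgroup_smul, Subgroup.mem_smul_pointwise_iff_exists] at hxmem
  obtain ⟨s, hsQ, hsx⟩ := hxmem
  rw [hQ'] at hsQ
  obtain ⟨i, hi⟩ := Subgroup.mem_zpowers_iff.mp hsQ
  have hxeq : x = g * (x' : H) ^ i * g⁻¹ := by
    rw [hi, ← hsx]; rfl
  obtain ⟨R', hR'def⟩ : ∃ R' : Subgroup H, R' = R.map (MulAut.conj g).toMonoidHom := ⟨_, rfl⟩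
  have hR'card : Nat.card R' = Nat.card R := by
    rw [hR'def]
    exact Nat.card_congr (Subgroup.equivMapOfInjective _ (MulAut.conj g).toMonoidHom
      (MulAut.conj g).injective).toEquiv.symm
  have hR'le : R' ≤ Subgroup.centralizer ({x} : Set H) ⊓ N := by
    rw [hR'def]
    rintro _ ⟨y, hy, rfl⟩
    have hyR : y ∈ R := hy
    constructor
    · show g * y * g⁻¹ ∈ Subgroup.centralizer ({x} : Set H)
      rw [Subgroup.mem_centralizer_singleton_iff]
      have hc1 : Commute (x' : H) y := hcomm y hyR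
      have hc2 : Commute ((x' : H) ^ i) y := hc1.zpow_left i
      rw [hxeq]
      calc g * y * g⁻¹ * (g * (x' : H) ^ i * g⁻¹) = g * (y * (x' : H) ^ i) * g⁻¹ := by group
        _ = g * ((x' : H) ^ i * y) * g⁻¹ := by rw [hc2.eq]
        _ = g * (x' : H) ^ i * g⁻¹ * (g * y * g⁻¹) := by group
    · show g * y * g⁻¹ ∈ N
      exact (inferInstance : N.Normal).conj_mem y (hRN hyR) g
  rw [← hRcard, ← hR'card]
  exact Subgroup.card_dvd_of_le hR'le

/-- `|H| = p |N|`, `N` normal of order prime to `p`, `H` not `p`-closed: a prime power `q ≤ |N|`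
with `q ≡ 1 (mod p)` exists -/
theorem exists_primePow_of_complement (N : Subgroup H) [N.Normal] (hpN : ¬ p ∣ Nat.card N)
    (hH : Nat.card H = p * Nat.card N) (hnc : ¬ Cfsg.IsPClosed p H) :
    ∃ q, IsPrimePow q ∧ q % p = 1 ∧ q ≤ Nat.card N := by
  have hpp : p.Prime := hp.out
  by_contra hno
  apply hnc
  have hp2 : ¬ p ^ 2 ∣ Nat.card H := by
    rw [hH, pow_two]
    intro h
    exact hpN ((Nat.mul_dvd_mul_iff_left hpp.pos).mp h)
  obtain ⟨x, hx⟩ := exists_prime_orderOf_dvd_card' (G := H) p (by rw [hH]; exact Dvd.intro _ rfl)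
  have hc : Nat.card (Subgroup.zpowers x) = p := by rw [Nat.card_zpowers, hx]
  have hNC : N ≤ Subgroup.centralizer ({x} : Set H) := by
    have hdvd : Nat.card N ∣ Nat.card (Subgroup.centralizer ({x} : Set H) ⊓ N : Subgroup H) := by
      rw [Nat.dvd_iff_prime_pow_dvd_dvd]
      intro r k hr hrk
      haveI : Fact r.Prime := ⟨hr⟩
      rcases pow_dvd_or_primePow N hpN hH x hx r with h1 | h1
      · have h2 : k ≤ (Nat.card N).factorization r :=
          (hr.pow_dvd_iff_le_factorization Nat.card_pos.ne').mp hrk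
        exact (pow_dvd_pow r h2).trans h1
      · exact absurd h1 hno
    have heq : Subgroup.centralizer ({x} : Set H) ⊓ N = N :=
      Subgroup.eq_of_le_of_card_ge inf_le_right (Nat.le_of_dvd Nat.card_pos hdvd)
    rw [← heq]; exact inf_le_left
  have hnorm : (Subgroup.zpowers x).Normal := by
    rw [← Subgroup.normalizer_eq_top_iff]
    apply Subgroup.eq_top_of_le_card
    have hNM : N ≤ Subgroup.normalizer ((Subgroup.zpowers x : Subgroup H) : Set H) := by
      intro y hy
      apply Subgroup.centralizer_le_normalizer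
      rw [Subgroup.mem_centralizer_iff]
      intro w hw
      obtain ⟨i, rfl⟩ := Subgroup.mem_zpowers_iff.mp hw
      have hc1 : Commute y x := Subgroup.mem_centralizer_singleton_iff.mp (hNC hy)
      exact (hc1.zpow_right i).eq.symm
    have h1 : Nat.card N ∣
        Nat.card (Subgroup.normalizer ((Subgroup.zpowers x : Subgroup H) : Set H)) :=
      Subgroup.card_dvd_of_le hNM
    have h2 : p ∣
        Nat.card (Subgroup.normalizer ((Subgroup.zpowers x : Subgroup H) : Set H)) := by
      rw [← hc]; exact Subgroup.card_dvd_of_le Subgroup.le_normalizer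
    have hcop : Nat.Coprime p (Nat.card N) := (Nat.Prime.coprime_iff_not_dvd hpp).mpr hpN
    have h3 := hcop.mul_dvd_of_dvd_of_dvd h2 h1
    rw [hH]
    exact Nat.le_of_dvd Nat.card_pos h3
  exact pclosed_of_normal_card hp2 (Subgroup.zpowers x) hc

end Cfsg.Agent.Lib.Helper2.Npc
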