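import Mathlib
import Cfsg.Agent.Lib.Helper2.Sy19A

/-! `|H| = 19 |N|`, `N` normal of order dividing `9240`: the Sylow `19`-subgroup is normal
(helper2, for S4274). -/

set_option autoImplicit false
set_option linter.style.haveILetI false

namespace Cfsg.Agent.Lib.Helper2.Sy19

open Cfsg.Agent.Lib.Lead Cfsg.Agent.Lib.Lead.SylowCount

universe u

variable {H : Type u} [Group H] [Finite H]

/-- an element of order `19` normalizing a subgroup of order less than `19` centralizes it -/
theorem centralizes_of_small (R : Subgroup H) (hR : Nat.card R < 19)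
    (x : ↥(Subgroup.normalizer (R : Set H))) (hx : orderOf x = 19) :
    ∀ y ∈ R, (x : H) * y = y * (x : H) := by
  classical
  have hp19 : Nat.Prime 19 := by norm_num
  let φ := R.normalizerMonoidHom
  let σ : Equiv.Perm ↥R := MulAut.toPerm ↥R (φ x)
  have h1 : σ ^ 19 = 1 := by
    show (MulAut.toPerm ↥R (φ x)) ^ 19 = 1
    rw [← map_pow, ← map_pow, ← hx, pow_orderOf_eq_one, map_one, map_one]
  have h2 : orderOf σ ∣ 19 := orderOf_dvd_of_pow_eq_one h1
  have h3 : orderOf σ ∣ (Nat.card ↥R).factorial := by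
    have := orderOf_dvd_natCard σ
    rwa [Nat.card_perm] at this
  have h4 : ¬ 19 ∣ (Nat.card ↥R).factorial := by
    rw [hp19.dvd_factorial]
    omega
  have h5 : orderOf σ = 1 := by
    rcases (Nat.dvd_prime hp19).mp h2 with h | h
    · exact h
    · rw [h] at h3; exact absurd h3 h4
  have h6 : σ = 1 := orderOf_eq_one_iff.mp h5
  intro y hy
  have h7 : σ ⟨y, hy⟩ = ⟨y, hy⟩ := by rw [h6]; rfl
  have h8 : ((σ ⟨y, hy⟩ : ↥R) : H) = (x : H) * y * (x : H)⁻¹ := rfl
  rw [h7] at h8
  have h9 : y = (x : H) * y * (x : H)⁻¹ := h8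
  calc (x : H) * y = ((x : H) * y * (x : H)⁻¹) * (x : H) := by group
    _ = y * (x : H) := by rw [← h9]

/-- the `r`-part of `|N|` divides `|C_N(x)|` for every element `x` of order `19` -/
theorem pow_dvd_card_centralizer_inf (N : Subgroup H) [N.Normal] (hN : Nat.card N ∣ 9240)
    (hH : Nat.card H = 19 * Nat.card N) (x : H) (hx : orderOf x = 19) (r : ℕ)
    [Fact r.Prime] :
    r ^ (Nat.card N).factorization r ∣
      Nat.card (Subgroup.centralizer ({x} : Set H) ⊓ N : Subgroup H) := by
  haveI : Fact (Nat.Prime 19) := ⟨by norm_num⟩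
  have hr : r.Prime := Fact.out
  have h19N : ¬ 19 ∣ Nat.card N := fun h => by
    have := h.trans hN
    omega
  obtain ⟨R₀⟩ : Nonempty (Sylow r N) := inferInstance
  obtain ⟨R, hRdef⟩ : ∃ R : Subgroup H, R = (R₀ : Subgroup N).map N.subtype := ⟨_, rfl⟩
  have hRcard : Nat.card R = r ^ (Nat.card N).factorization r := by
    rw [hRdef, Nat.card_congr
      (Subgroup.equivMapOfInjective _ N.subtype N.subtype_injective).toEquiv.symm]
    exact R₀.card_eq_multiplicity
  have hRN : R ≤ N := by rw [hRdef]; exact Subgroup.map_subtype_le _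
  have hRlt : Nat.card R < 19 :=
    prime_pow_lt hr hRcard ((Subgroup.card_dvd_of_le hRN).trans hN)
  -- Frattini
  have hfrat : Subgroup.normalizer (R : Set H) ⊔ N = ⊤ := by
    rw [hRdef]; exact Sylow.normalizer_sup_eq_top R₀
  have hidx : N.index = 19 := by
    have h1 := N.card_mul_index
    rw [hH] at h1
    have hpos : 0 < Nat.card N := Nat.card_pos
    apply Nat.eq_of_mul_eq_mul_left hpos
    rw [h1]; ring
  have h19 : 19 ∣ Nat.card (Subgroup.normalizer (R : Set H)) := by
    have h1 : N.relIndex (Subgroup.normalizer (R : Set H) ⊔ N)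
        = N.relIndex (Subgroup.normalizer (R : Set H)) :=
      Subgroup.relIndex_sup_right (Subgroup.normalizer (R : Set H)) N
    rw [hfrat, Subgroup.relIndex_top_right, hidx] at h1
    rw [h1]
    exact Subgroup.relIndex_dvd_card _ _
  obtain ⟨x', hx'⟩ := exists_prime_orderOf_dvd_card' (G := ↥(Subgroup.normalizer (R : Set H))) 19 h19
  have hcomm := centralizes_of_small R hRlt x' hx'
  have hx₁ : orderOf (x' : H) = 19 := by rw [Subgroup.orderOf_coe]; exact hx'
  -- `zpowers x` and `zpowers x'` are Sylow subgroups, hence conjugate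
  have hsyl : ∀ w : H, orderOf w = 19 → ∃ Q : Sylow 19 H, (Q : Subgroup H) = Subgroup.zpowers w := by
    intro w hw
    have hc : Nat.card (Subgroup.zpowers w) = 19 := by rw [Nat.card_zpowers, hw]
    have hp : IsPGroup 19 (Subgroup.zpowers w) := IsPGroup.of_card (n := 1) (by rw [hc, pow_one])
    have hi : ¬ 19 ∣ (Subgroup.zpowers w).index := by
      have h1 := (Subgroup.zpowers w).card_mul_index
      rw [hc, hH] at h1
      have : (Subgroup.zpowers w).index = Nat.card N := Nat.eq_of_mul_eq_mul_left (by norm_num) h1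
      rw [this]; exact h19N
    exact ⟨hp.toSylow hi, rfl⟩
  obtain ⟨Q, hQ⟩ := hsyl x hx
  obtain ⟨Q', hQ'⟩ := hsyl (x' : H) hx₁
  obtain ⟨g, hg⟩ := MulAction.exists_smul_eq H Q' Q
  have hxmem : x ∈ ((g • Q' : Sylow 19 H) : Subgroup H) := by
    rw [hg, hQ]; exact Subgroup.mem_zpowers x
  rw [Sylow.coe_subgroup_smul, Subgroup.mem_smul_pointwise_iff_exists] at hxmem
  obtain ⟨s, hsQ, hsx⟩ := hxmem
  rw [hQ'] at hsQ
  obtain ⟨i, hi⟩ := Subgroup.mem_zpowers_iff.mp hsQ
  have hxeq : x = g * (x' : H) ^ i * g⁻¹ := by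
    rw [hi, ← hsx]; rfl
  -- the conjugate of `R`
  obtain ⟨R', hR'def⟩ : ∃ R' : Subgroup H, R' = R.map (MulAut.conj g).toMonoidHom := ⟨_, rfl⟩
  have hR'card : Nat.card R' = Nat.card R := by
    rw [hR'def]
    exact Nat.card_congr (Subgroup.equivMapOfInjective _ (MulAut.conj g).toMonoidHom
      (MulAut.conj g).injective).toEquiv.symm
  have hR'le : R' ≤ Subgroup.centralizer ({x} : Set H) ⊓ N := by
    rw [hR'def]
    rintro _ ⟨y, hy, rfl⟩
    have hyR : y ∈ R := hy
    constructor
    · show g * y * g⁻¹ ∈ Subgroup.centralizer ({x} : Set H)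
      rw [Subgroup.mem_centralizer_singleton_iff]
      have hc1 : Commute (x' : H) y := hcomm y hyR
      have hc2 : Commute ((x' : H) ^ i) y := hc1.zpow_left i
      rw [hxeq]
      calc g * y * g⁻¹ * (g * (x' : H) ^ i * g⁻¹) = g * (y * (x' : H) ^ i) * g⁻¹ := by group
        _ = g * ((x' : H) ^ i * y) * g⁻¹ := by rw [hc2.eq]
        _ = g * (x' : H) ^ i * g⁻¹ * (g * y * g⁻¹) := by group
    · show g * y * g⁻¹ ∈ N
      exact (inferInstance : N.Normal).conj_mem y (hRN hyR) g
  rw [← hRcard, ← hR'card]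
  exact Subgroup.card_dvd_of_le hR'le

/-- `|H| = 19 |N|` with `N` normal of order dividing `9240`: normal Sylow `19`-subgroup -/
theorem n19_of_complement (N : Subgroup H) [N.Normal] (hN : Nat.card N ∣ 9240)
    (hH : Nat.card H = 19 * Nat.card N) : N19 H := by
  haveI : Fact (Nat.Prime 19) := ⟨by norm_num⟩
  have hdiv : Nat.card H ∣ 175560 := by
    rw [hH]
    exact (Nat.mul_dvd_mul_left 19 hN).trans (by norm_num)
  obtain ⟨x, hx⟩ := exists_prime_orderOf_dvd_card' (G := H) 19 (by rw [hH]; exact Dvd.intro _ rfl)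
  have hc : Nat.card (Subgroup.zpowers x) = 19 := by rw [Nat.card_zpowers, hx]
  -- `N` centralizes `x`
  have hNC : N ≤ Subgroup.centralizer ({x} : Set H) := by
    have hdvd : Nat.card N ∣ Nat.card (Subgroup.centralizer ({x} : Set H) ⊓ N : Subgroup H) := by
      rw [Nat.dvd_iff_prime_pow_dvd_dvd]
      intro r k hr hrk
      haveI : Fact r.Prime := ⟨hr⟩
      have h1 := pow_dvd_card_centralizer_inf N hN hH x hx r
      have h2 : k ≤ (Nat.card N).factorization r :=
        (hr.pow_dvd_iff_le_factorization Nat.card_pos.ne').mp hrk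
      exact (pow_dvd_pow r h2).trans h1
    have heq : Subgroup.centralizer ({x} : Set H) ⊓ N = N :=
      Subgroup.eq_of_le_of_card_ge inf_le_right (Nat.le_of_dvd Nat.card_pos hdvd)
    rw [← heq]; exact inf_le_left
  -- so `zpowers x` is normal
  have hnorm : (Subgroup.zpowers x).Normal := by
    rw [← Subgroup.normalizer_eq_top_iff]
    apply Subgroup.eq_top_of_le_card
    have hNM : N ≤ Subgroup.normalizer ((Subgroup.zpowers x : Subgroup H) : Set H) := by
      intro y hy
      apply Subgroup.centralizer_le_normalizer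
      rw [Subgroup.mem_centralizer_iff]
      intro w hw
      obtain ⟨i, rfl⟩ := Subgroup.mem_zpowers_iff.mp hw
      have hc1 : Commute y x := Subgroup.mem_centralizer_singleton_iff.mp (hNC hy)
      exact (hc1.zpow_right i).eq.symm
    have h1 : Nat.card N ∣
        Nat.card (Subgroup.normalizer ((Subgroup.zpowers x : Subgroup H) : Set H)) :=
      Subgroup.card_dvd_of_le hNM
    have h2 : 19 ∣
        Nat.card (Subgroup.normalizer ((Subgroup.zpowers x : Subgroup H) : Set H)) := by
      rw [← hc]; exact Subgroup.card_dvd_of_le Subgroup.le_normalizer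
    have h19N : Nat.Coprime 19 (Nat.card N) := by
      rw [Nat.Prime.coprime_iff_not_dvd (by norm_num)]
      intro h
      have := h.trans hN
      omega
    have h3 := h19N.mul_dvd_of_dvd_of_dvd h2 h1
    rw [hH]
    exact Nat.le_of_dvd Nat.card_pos h3
  exact n19_of_normal_card hdiv (Subgroup.zpowers x) hc

end Cfsg.Agent.Lib.Helper2.Sy19
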