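import Mathlib
import Cfsg.Agent.Lib.Helper2.Sy19B

/-! The reduction for S4274: if no non-abelian simple group has order `19 d` with `d` a proper
divisor of `9240`, then a group of order `175560` is simple or has a normal Sylow
`19`-subgroup (helper2, after lead's blueprint). -/

set_option autoImplicit false
set_option linter.style.haveILetI false

namespace Cfsg.Agent.Lib.Helper2.Sy19

universe u

theorem exists_proper_normal {H : Type u} [Group H] [Nontrivial H] (hs : ¬ IsSimpleGroup H) :
    ∃ N : Subgroup H, N.Normal ∧ N ≠ ⊥ ∧ N ≠ ⊤ := by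
  by_contra hcon
  push Not at hcon
  apply hs
  exact { eq_bot_or_eq_top_of_normal := fun N hN => by
            by_contra h
            push Not at h
            exact h.2 (hcon N hN h.1) }

theorem main_aux
    (htab : ∀ (K : Type u) [Group K] [Finite K] [IsSimpleGroup K], ¬ IsMulCommutative K →
      Nat.card K ∣ 175560 → 19 ∣ Nat.card K → Nat.card K = 175560) :
    ∀ n : ℕ, ∀ (H : Type u) [Group H] [Finite H], Nat.card H = n → n ∣ 175560 → 19 ∣ n →
      (IsSimpleGroup H ∧ n = 175560) ∨ N19 H := by
  intro n
  induction n using Nat.strong_induction_on with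
  | _ n ih =>
    intro H _ _ hn hdiv h19
    subst hn
    by_cases hs : IsSimpleGroup H
    · by_cases hc : IsMulCommutative H
      · right
        intro P
        constructor
        intro x hx g
        have h1 : g * x * g⁻¹ = x := by
          have := hc.is_comm.comm g x
          rw [this, mul_inv_cancel_right]
        rw [h1]; exact hx
      · left
        exact ⟨hs, htab H hc hdiv h19⟩
    · right
      have hn175 : Nat.card H ≤ 175560 := Nat.le_of_dvd (by norm_num) hdiv
      have hnpos : 0 < Nat.card H := Nat.card_pos
      have hn19 : 19 ≤ Nat.card H := Nat.le_of_dvd hnpos h19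
      haveI : Nontrivial H := by
        rw [← Finite.one_lt_card_iff_nontrivial]
        omega
      obtain ⟨N, hNn, hNbot, hNtop⟩ := exists_proper_normal hs
      haveI := hNn
      have hcN_dvd : Nat.card N ∣ Nat.card H := Subgroup.card_subgroup_dvd_card N
      have hcN_lt : Nat.card N < Nat.card H :=
        lt_of_le_of_ne (Subgroup.card_le_card_group N)
          (fun h => hNtop ((Subgroup.card_eq_iff_eq_top N).mp h))
      have hcN_gt : 1 < Nat.card N := by
        rcases Nat.lt_or_ge 1 (Nat.card N) with h | h
        · exact h
        · exfalso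
          have h1 : Nat.card N = 1 := le_antisymm h Nat.card_pos
          exact hNbot (Subgroup.card_eq_one.mp h1)
      by_cases h19N : 19 ∣ Nat.card N
      · rcases ih (Nat.card N) hcN_lt ↥N rfl (hcN_dvd.trans hdiv) h19N with ⟨_, h175⟩ | hN19
        · omega
        · obtain ⟨K, hKn, hK⟩ := exists_normal_card_of_n19 hdiv N h19N hN19
          haveI := hKn
          exact n19_of_normal_card hdiv K hK
      · have hq : Nat.card H = Nat.card (H ⧸ N) * Nat.card N :=
          Subgroup.card_eq_card_quotient_mul_card_subgroup N
        have hq_dvd : Nat.card (H ⧸ N) ∣ Nat.card H := Dvd.intro _ hq.symm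
        have hqpos : 0 < Nat.card (H ⧸ N) := Nat.card_pos
        have hq_lt : Nat.card (H ⧸ N) < Nat.card H := by
          rw [hq]
          nlinarith
        have hq19 : 19 ∣ Nat.card (H ⧸ N) := by
          have h1 : 19 ∣ Nat.card (H ⧸ N) * Nat.card N := hq ▸ h19
          exact ((Nat.Prime.dvd_mul (by norm_num)).mp h1).resolve_right h19N
        rcases ih _ hq_lt (H ⧸ N) rfl (hq_dvd.trans hdiv) hq19 with ⟨_, h175⟩ | hQ19
        · omega
        · obtain ⟨Pb⟩ : Nonempty (Sylow 19 (H ⧸ N)) := inferInstance
          haveI := hQ19 Pb
          have hcPb : Nat.card Pb = 19 := card_sylow19 (hq_dvd.trans hdiv) hq19 Pb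
          obtain ⟨M, hMdef⟩ : ∃ M : Subgroup H,
              M = (Pb : Subgroup (H ⧸ N)).comap (QuotientGroup.mk' N) := ⟨_, rfl⟩
          haveI : M.Normal := by rw [hMdef]; infer_instance
          have hcM : Nat.card M = Nat.card N * 19 := by rw [hMdef, card_comap_mk, hcPb]
          have hM19 : 19 ∣ Nat.card M := by rw [hcM]; exact Dvd.intro_left _ rfl
          have hcM_dvd : Nat.card M ∣ Nat.card H := Subgroup.card_subgroup_dvd_card M
          by_cases hM : Nat.card M < Nat.card H
          · rcases ih _ hM ↥M rfl (hcM_dvd.trans hdiv) hM19 with ⟨_, h175⟩ | hM19'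
            · omega
            · obtain ⟨K, hKn, hK⟩ := exists_normal_card_of_n19 hdiv M hM19 hM19'
              haveI := hKn
              exact n19_of_normal_card hdiv K hK
          · have hMn : Nat.card M = Nat.card H :=
              le_antisymm (Subgroup.card_le_card_group M) (not_lt.mp hM)
            have hH : Nat.card H = 19 * Nat.card N := by rw [← hMn, hcM]; ring
            have hN9240 : Nat.card N ∣ 9240 := by
              have h1 : 19 * Nat.card N ∣ 19 * 9240 := by rw [← hH]; exact hdiv
              exact (Nat.mul_dvd_mul_iff_left (by norm_num)).mp h1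
            exact n19_of_complement N hN9240 hH

/-- S4274 from the table of orders `19 d` -/
theorem s4274_of_table
    (htab : ∀ (K : Type u) [Group K] [Finite K] [IsSimpleGroup K], ¬ IsMulCommutative K →
      Nat.card K ∣ 175560 → 19 ∣ Nat.card K → Nat.card K = 175560)
    {G : Type u} [Group G] [Finite G] (hG : Nat.card G = 175560) :
    IsSimpleGroup G ∨ ∀ P : Sylow 19 G, (P : Subgroup G).Normal := by
  rcases main_aux htab 175560 G hG dvd_rfl (by norm_num) with ⟨h, _⟩ | h
  · left; exact h
  · right; exact h

end Cfsg.Agent.Lib.Helper2.Sy19
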