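import Mathlib
import Cfsg.Agent.Lib.Helper2.Npc2
import Cfsg.Agent.Lib.Helper2.Sy19C
import Cfsg.Agent.S0999
import Cfsg.Agent.Lib.Helper7.PSLp3
import Cfsg.Agent.Lib.Helper4.SLCenter

/-! S3875, part 1: every finite group that is not `p`-closed (`p` odd) has order at least
`min (p m) (p (p^2-1)/2)`, `m` the least prime power `≡ 1 (mod p)` (helper2, after lead's
blueprint; the simple case is S0999). -/

set_option autoImplicit false
set_option linter.style.haveILetI false

namespace Cfsg.Agent.Lib.Helper2.Npc

open Cfsg.Agent.Lib.Lead Cfsg.Agent.Lib.Lead.SylowCount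

/-- order of `PSL(2, F)` for `|F| = 2 ^ k` -/
theorem card_psl2_two_pow {F : Type*} [Field F] [Fintype F] (k : ℕ)
    (hF : Fintype.card F = 2 ^ k) (hk : 1 ≤ k) :
    Nat.card (Matrix.ProjectiveSpecialLinearGroup (Fin 2) F) = 2 ^ k * ((2 ^ k) ^ 2 - 1) := by
  have h1 := Cfsg.Agent.Lib.Helper4.card_PSL_mul (F := F) 2 (by norm_num)
  rw [Cfsg.Agent.Lib.Helper4.card_SL2, hF] at h1
  have h2 : Nat.gcd 2 (2 ^ k - 1) = 1 := by
    rw [← Nat.coprime_iff_gcd_eq_one, Nat.Prime.coprime_iff_not_dvd Nat.prime_two]
    obtain ⟨j, hj⟩ : 2 ∣ 2 ^ k := dvd_pow_self 2 (by omega)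
    have hpos : 0 < 2 ^ k := by positivity
    omega
  rw [h2, one_mul] at h1
  exact h1

theorem comm_pclosed {p : ℕ} {H : Type*} [Group H] (hc : ∀ a b : H, a * b = b * a) :
    Cfsg.IsPClosed p H := by
  intro P
  constructor
  intro x hx g
  have h1 : g * x * g⁻¹ = x := by rw [hc g x, mul_inv_cancel_right]
  rw [h1]; exact hx

theorem arith_simple_one (m' : ℕ) :
    (2 * m' + 1) * ((2 * m' + 1) ^ 2 - 1) / 2 ≤ (2 * m' + 1 + 1) * (2 * m' + 1) * m' := by
  apply Nat.div_le_of_le_mul
  have h1 : (2 * m' + 1) ^ 2 - 1 = 4 * m' * m' + 4 * m' := by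
    apply Nat.sub_eq_of_eq_add; ring
  rw [h1]
  nlinarith

theorem arith_simple_two (s : ℕ) :
    (s + 4 + 1) * ((s + 4 + 1) ^ 2 - 1) / 2 ≤ (s + 4) * ((s + 4) ^ 2 - 1) := by
  apply Nat.div_le_of_le_mul
  have h1 : (s + 4 + 1) ^ 2 - 1 = s * s + 10 * s + 24 := by
    apply Nat.sub_eq_of_eq_add; ring
  have h2 : (s + 4) ^ 2 - 1 = s * s + 8 * s + 15 := by
    apply Nat.sub_eq_of_eq_add; ring
  rw [h1, h2]
  nlinarith

theorem part1 (p : ℕ) [hp : Fact p.Prime] (hp2 : p ≠ 2) (m : ℕ)
    (hleast : ∀ k : ℕ, IsPrimePow k → k % p = 1 → m ≤ k) :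
    ∀ n : ℕ, ∀ (H : Type) [Group H] [Finite H], Nat.card H = n → ¬ Cfsg.IsPClosed p H →
      min (p * m) (p * (p ^ 2 - 1) / 2) ≤ n := by
  have hpp : p.Prime := hp.out
  have hp3 : 3 ≤ p := by
    have := hpp.two_le
    omega
  intro n
  induction n using Nat.strong_induction_on with
  | _ n ih =>
    intro H _ _ hn hnc
    subst hn
    have hpH : p ∣ Nat.card H := by
      by_contra hnd
      apply hnc
      intro P
      have h1 : (P : Subgroup H) = ⊥ := by
        have h2 := P.card_eq_multiplicity
        rw [Nat.factorization_eq_zero_of_not_dvd hnd, pow_zero] at h2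
        exact Subgroup.card_eq_one.mp h2
      rw [h1]; infer_instance
    obtain ⟨P, hP⟩ : ∃ P : Sylow p H, ¬ (P : Subgroup H).Normal := by
      by_contra h
      push Not at h
      exact hnc h
    by_cases hsq : p ^ 2 ∣ Nat.card H
    · -- `p ^ 2` divides the order
      apply le_trans (min_le_right _ _)
      have h1 : Nat.card (Sylow p H) ≡ 1 [MOD p] := card_sylow_modEq_one p H
      have h2 : Nat.card (Sylow p H) ≠ 1 := by
        intro h1'
        apply hP
        rw [Sylow.card_eq_index_normalizer P, Subgroup.index_eq_one] at h1'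
        have h1'' : Subgroup.normalizer ((P : Subgroup H) : Set H) = ⊤ := h1'
        exact Subgroup.normalizer_eq_top_iff.mp h1''
      have h3 : p + 1 ≤ Nat.card (Sylow p H) := by
        have hpos : 0 < Nat.card (Sylow p H) := Nat.card_pos
        unfold Nat.ModEq at h1
        rw [Nat.mod_eq_of_lt hpp.one_lt] at h1
        by_contra hlt
        push Not at hlt
        rcases Nat.lt_or_ge (Nat.card (Sylow p H)) p with h4 | h4
        · rw [Nat.mod_eq_of_lt h4] at h1; exact h2 h1
        · have h5 : Nat.card (Sylow p H) = p := by omega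
          rw [h5, Nat.mod_self] at h1; omega
      have h4 : p ^ 2 ∣ Nat.card P := by
        rw [P.card_eq_multiplicity]
        exact pow_dvd_pow p ((hpp.pow_dvd_iff_le_factorization Nat.card_pos.ne').mp hsq)
      have h5 : p ^ 2 ≤ Nat.card P := Nat.le_of_dvd Nat.card_pos h4
      have h6 := card_sylow_mul_card_normalizer p P
      have h7 : Nat.card P ≤ Nat.card (Subgroup.normalizer ((P : Subgroup H) : Set H)) :=
        Subgroup.card_le_of_le Subgroup.le_normalizer
      have h8 : (p + 1) * p ^ 2 ≤ Nat.card H := by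
        rw [← h6]
        exact Nat.mul_le_mul h3 (h5.trans h7)
      have h9 : p * (p ^ 2 - 1) / 2 ≤ (p + 1) * p ^ 2 := by
        apply le_trans (Nat.div_le_self _ _)
        have : p ^ 2 - 1 ≤ p ^ 2 := Nat.sub_le _ _
        nlinarith
      exact h9.trans h8
    · -- `p ∥ |H|`
      by_cases hs : IsSimpleGroup H
      · apply le_trans (min_le_right _ _)
        have hncyc : ¬ IsCyclic H := by
          intro hc
          apply hnc
          exact comm_pclosed (fun a b => (IsCyclic.commGroup (α := H)).mul_comm a b)
        by_cases hbig : Nat.card H < p ^ 3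
        · rcases Cfsg.Agent.S0999.result hncyc p hpp hpH hbig with
            ⟨F, _, _, hF, h3, ⟨e⟩⟩ | ⟨k, F, _, _, hF, hpk, h3, ⟨e⟩⟩
          · obtain ⟨m', hm'⟩ : ∃ m', p = 2 * m' + 1 := by
              rcases hpp.eq_two_or_odd with h | h
              · exact absurd h hp2
              · exact ⟨p / 2, by omega⟩
            have hc := (Cfsg.Agent.Lib.Helper7.PSLp.psl_simple_card (F := F) hm' (by omega) hF).2
            rw [← Nat.card_congr e.toEquiv] at hc
            rw [hc, hm']
            exact arith_simple_one m'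
          · have hk1 : 1 ≤ k := by
              rcases Nat.eq_zero_or_pos k with h0 | h0
              · rw [h0] at hpk; omega
              · exact h0
            have hc := card_psl2_two_pow (F := F) k hF hk1
            rw [← Nat.card_congr e.toEquiv] at hc
            obtain ⟨j, hj⟩ : 2 ∣ 2 ^ k := dvd_pow_self 2 (by omega)
            obtain ⟨s, hs'⟩ : ∃ s, 2 ^ k = s + 4 := ⟨2 ^ k - 4, by omega⟩
            rw [hc, hpk, hs']
            exact arith_simple_two s
        · push Not at hbig
          apply le_trans _ hbig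
          apply le_trans (Nat.div_le_self _ _)
          have : p ^ 2 - 1 ≤ p ^ 2 := Nat.sub_le _ _
          calc p * (p ^ 2 - 1) ≤ p * p ^ 2 := Nat.mul_le_mul_left p this
            _ = p ^ 3 := by ring
      · -- not simple
        have hnpos : 0 < Nat.card H := Nat.card_pos
        haveI : Nontrivial H := by
          rw [← Finite.one_lt_card_iff_nontrivial]
          have := Nat.le_of_dvd hnpos hpH
          omega
        obtain ⟨N, hNn, hNbot, hNtop⟩ := Cfsg.Agent.Lib.Helper2.Sy19.exists_proper_normal hs
        haveI := hNn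
        have hcN_dvd : Nat.card N ∣ Nat.card H := Subgroup.card_subgroup_dvd_card N
        have hcN_lt : Nat.card N < Nat.card H :=
          lt_of_le_of_ne (Subgroup.card_le_card_group N)
            (fun h => hNtop ((Subgroup.card_eq_iff_eq_top N).mp h))
        have hcN_gt : 1 < Nat.card N := by
          rcases Nat.lt_or_ge 1 (Nat.card N) with h | h
          · exact h
          · exfalso
            have h1 : Nat.card N = 1 := le_antisymm h Nat.card_pos
            exact hNbot (Subgroup.card_eq_one.mp h1)
        by_cases hpN : p ∣ Nat.card N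
        · by_cases hNc : Cfsg.IsPClosed p ↥N
          · exfalso
            obtain ⟨K, hKn, hK⟩ := exists_normal_card_of_pclosed hsq N hpN hNc
            haveI := hKn
            exact hnc (pclosed_of_normal_card hsq K hK)
          · exact (ih _ hcN_lt ↥N rfl hNc).trans hcN_lt.le
        · have hq : Nat.card H = Nat.card (H ⧸ N) * Nat.card N :=
            Subgroup.card_eq_card_quotient_mul_card_subgroup N
          have hqpos : 0 < Nat.card (H ⧸ N) := Nat.card_pos
          have hq_lt : Nat.card (H ⧸ N) < Nat.card H := by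
            rw [hq]
            nlinarith
          have hqp : p ∣ Nat.card (H ⧸ N) := by
            have h1 : p ∣ Nat.card (H ⧸ N) * Nat.card N := hq ▸ hpH
            exact ((Nat.Prime.dvd_mul hpp).mp h1).resolve_right hpN
          have hq2 : ¬ p ^ 2 ∣ Nat.card (H ⧸ N) := fun h =>
            hsq (h.trans (Dvd.intro _ hq.symm))
          by_cases hQc : Cfsg.IsPClosed p (H ⧸ N)
          swap
          · exact (ih _ hq_lt (H ⧸ N) rfl hQc).trans hq_lt.le
          obtain ⟨Pb⟩ : Nonempty (Sylow p (H ⧸ N)) := inferInstance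
          haveI := hQc Pb
          have hcPb : Nat.card Pb = p := card_sylow_of_not_sq hqp hq2 Pb
          obtain ⟨M, hMdef⟩ : ∃ M : Subgroup H,
              M = (Pb : Subgroup (H ⧸ N)).comap (QuotientGroup.mk' N) := ⟨_, rfl⟩
          haveI : M.Normal := by rw [hMdef]; infer_instance
          have hcM : Nat.card M = Nat.card N * p := by
            rw [hMdef, Cfsg.Agent.Lib.Helper2.Sy19.card_comap_mk, hcPb]
          have hMp : p ∣ Nat.card M := by rw [hcM]; exact Dvd.intro_left _ rfl
          by_cases hM : Nat.card M < Nat.card H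
          · by_cases hMc : Cfsg.IsPClosed p ↥M
            · exfalso
              obtain ⟨K, hKn, hK⟩ := exists_normal_card_of_pclosed hsq M hMp hMc
              haveI := hKn
              exact hnc (pclosed_of_normal_card hsq K hK)
            · exact (ih _ hM ↥M rfl hMc).trans hM.le
          · have hMn : Nat.card M = Nat.card H :=
              le_antisymm (Subgroup.card_le_card_group M) (not_lt.mp hM)
            have hH : Nat.card H = p * Nat.card N := by rw [← hMn, hcM]; ring
            obtain ⟨q, hq1, hq2', hq3⟩ := exists_primePow_of_complement N hpN hH hnc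
            apply le_trans (min_le_left _ _)
            rw [hH]
            exact Nat.mul_le_mul_left p ((hleast q hq1 hq2').trans hq3)

end Cfsg.Agent.Lib.Helper2.Npc
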