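import Mathlib
import Cfsg.Agent.Lib.Helper2.Npc1
import Cfsg.Agent.Lib.Helper7.PSLp3

/-! S3875, part 2: groups of order `p m` (`m` a prime power `≡ 1 (mod p)`) and
`p (p^2-1)/2` that are not `p`-closed (helper2). -/

set_option autoImplicit false
set_option linter.style.haveILetI false

namespace Cfsg.Agent.Lib.Helper2.Npc

section affine

variable {F : Type} [Field F]

/-- the permutation `x ↦ a x + b` of a field -/
def affMap (a : Fˣ) (b : F) : Equiv.Perm F where
  toFun x := (a : F) * x + b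
  invFun x := ((a⁻¹ : Fˣ) : F) * (x - b)
  left_inv x := by
    show ((a⁻¹ : Fˣ) : F) * ((a : F) * x + b - b) = x
    rw [add_sub_cancel_right, Units.inv_mul_cancel_left]
  right_inv x := by
    show (a : F) * (((a⁻¹ : Fˣ) : F) * (x - b)) + b = x
    rw [Units.mul_inv_cancel_left, sub_add_cancel]

@[simp] theorem affMap_apply (a : Fˣ) (b x : F) : affMap a b x = (a : F) * x + b := rfl

theorem affMap_mul (a c : Fˣ) (b d : F) :
    affMap a b * affMap c d = affMap (a * c) ((a : F) * d + b) := by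
  ext x
  simp only [Equiv.Perm.coe_mul, Function.comp_apply, affMap_apply, Units.val_mul]
  ring

theorem affMap_one : affMap (1 : Fˣ) (0 : F) = 1 := by
  ext x
  simp

theorem affMap_inv (a : Fˣ) (b : F) :
    (affMap a b)⁻¹ = affMap a⁻¹ (-((a⁻¹ : Fˣ) : F) * b) := by
  rw [inv_eq_iff_mul_eq_one, affMap_mul, ← affMap_one]
  congr 1
  · simp
  · simp

theorem affMap_injective {a a' : Fˣ} {b b' : F} (h : affMap a b = affMap a' b') :
    a = a' ∧ b = b' := by
  have h0 := congrArg (fun σ : Equiv.Perm F => σ 0) h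
  have h1 := congrArg (fun σ : Equiv.Perm F => σ 1) h
  simp only [affMap_apply, mul_zero, zero_add, mul_one] at h0 h1
  refine ⟨Units.ext ?_, h0⟩
  rw [h0] at h1
  exact add_right_cancel h1

/-- the group of all `x ↦ a x + b` with `a` in a subgroup `U` of the units -/
def affSub (U : Subgroup Fˣ) : Subgroup (Equiv.Perm F) where
  carrier := {σ | ∃ a ∈ U, ∃ b : F, σ = affMap a b}
  one_mem' := ⟨1, U.one_mem, 0, affMap_one.symm⟩
  mul_mem' := by
    rintro _ _ ⟨a, ha, b, rfl⟩ ⟨c, hc, d, rfl⟩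
    exact ⟨a * c, U.mul_mem ha hc, _, affMap_mul a c b d⟩
  inv_mem' := by
    rintro _ ⟨a, ha, b, rfl⟩
    exact ⟨a⁻¹, U.inv_mem ha, _, affMap_inv a b⟩

theorem mem_affSub {U : Subgroup Fˣ} {σ : Equiv.Perm F} :
    σ ∈ affSub U ↔ ∃ a ∈ U, ∃ b : F, σ = affMap a b := Iff.rfl

/-- `affSub U` is in bijection with `U × F` -/
noncomputable def affEquiv (U : Subgroup Fˣ) : ↥U × F ≃ ↥(affSub U) :=
  Equiv.ofBijective (fun ab => ⟨affMap ab.1.1 ab.2, ab.1.1, ab.1.2, ab.2, rfl⟩) (by
    constructor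
    · rintro ⟨⟨a, ha⟩, b⟩ ⟨⟨a', ha'⟩, b'⟩ h
      have h1 : affMap a b = affMap a' b' := congrArg Subtype.val h
      obtain ⟨h2, h3⟩ := affMap_injective h1
      subst h2; subst h3; rfl
    · rintro ⟨σ, a, ha, b, rfl⟩
      exact ⟨⟨⟨a, ha⟩, b⟩, rfl⟩)

theorem card_affSub [Finite F] (U : Subgroup Fˣ) :
    Nat.card ↥(affSub U) = Nat.card U * Nat.card F := by
  rw [← Nat.card_congr (affEquiv U), Nat.card_prod]

/-- `affSub (zpowers u)` is not `p`-closed when `u` has order `p` and `p ∤ |F|` -/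
theorem affSub_not_pclosed [Finite F] (p : ℕ) [hp : Fact p.Prime] (u : Fˣ) (hu : orderOf u = p)
    (hpF : ¬ p ∣ Nat.card F) : ¬ Cfsg.IsPClosed p ↥(affSub (Subgroup.zpowers u)) := by
  have hpp : p.Prime := hp.out
  intro hcl
  have hcard : Nat.card ↥(affSub (Subgroup.zpowers u)) = p * Nat.card F := by
    rw [card_affSub, Nat.card_zpowers, hu]
  -- the element `g : x ↦ u x`
  let g : ↥(affSub (Subgroup.zpowers u)) :=
    ⟨affMap u 0, u, Subgroup.mem_zpowers u, 0, rfl⟩
  let t : ↥(affSub (Subgroup.zpowers u)) :=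
    ⟨affMap 1 1, 1, Subgroup.one_mem _, 1, rfl⟩
  have hu1 : u ≠ 1 := by
    intro h
    rw [h, orderOf_one] at hu
    exact hpp.one_lt.ne hu
  -- `g ^ n = (x ↦ u ^ n x)`
  have hgpow : ∀ n : ℕ, ((g ^ n : ↥(affSub (Subgroup.zpowers u))) : Equiv.Perm F)
      = affMap (u ^ n) 0 := by
    intro n
    induction n with
    | zero => simp [affMap_one]
    | succ n ih =>
      rw [pow_succ, Subgroup.coe_mul, ih]
      show affMap (u ^ n) 0 * affMap u 0 = _
      have h0 : ((u ^ n : Fˣ) : F) * 0 + 0 = 0 := by ring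
      rw [affMap_mul, h0, ← pow_succ]
  have hgord : orderOf g = p := by
    apply orderOf_eq_prime
    · apply Subtype.ext
      rw [hgpow, ← hu, pow_orderOf_eq_one]
      exact affMap_one
    · intro h1
      have h2 : affMap u 0 = affMap 1 0 := by
        have := congrArg Subtype.val h1
        rw [affMap_one]; exact this
      exact hu1 (affMap_injective h2).1
  have hc : Nat.card (Subgroup.zpowers g) = p := by rw [Nat.card_zpowers, hgord]
  have hpg : IsPGroup p (Subgroup.zpowers g) := IsPGroup.of_card (n := 1) (by rw [hc, pow_one])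
  have hi : ¬ p ∣ (Subgroup.zpowers g).index := by
    have h1 := (Subgroup.zpowers g).card_mul_index
    rw [hc, hcard] at h1
    have : (Subgroup.zpowers g).index = Nat.card F := Nat.eq_of_mul_eq_mul_left hpp.pos h1
    rw [this]; exact hpF
  have hnorm : (Subgroup.zpowers g).Normal := hcl (hpg.toSylow hi)
  -- all elements of `zpowers g` fix `0`
  have hfix0 : ∀ w ∈ Subgroup.zpowers g, (w : Equiv.Perm F) 0 = 0 := by
    intro w hw
    have hle : Subgroup.zpowers g ≤
        (MulAction.stabilizer (Equiv.Perm F) (0 : F)).subgroupOf (affSub (Subgroup.zpowers u)) := by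
      rw [Subgroup.zpowers_le, Subgroup.mem_subgroupOf, MulAction.mem_stabilizer_iff]
      show affMap u 0 0 = 0
      simp
    have := hle hw
    rw [Subgroup.mem_subgroupOf, MulAction.mem_stabilizer_iff] at this
    exact this
  have h1 := hfix0 _ (hnorm.conj_mem g (Subgroup.mem_zpowers g) t)
  have h2 : ((t * g * t⁻¹ : ↥(affSub (Subgroup.zpowers u))) : Equiv.Perm F) 0
      = 1 - (u : F) := by
    have h3 : ((t * g * t⁻¹ : ↥(affSub (Subgroup.zpowers u))) : Equiv.Perm F)
        = affMap 1 1 * affMap u 0 * (affMap 1 1)⁻¹ := rfl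
    rw [h3, affMap_inv, affMap_mul, affMap_mul]
    simp
    ring
  rw [h2] at h1
  apply hu1
  apply Units.ext
  rw [Units.val_one]
  exact (sub_eq_zero.mp h1).symm

end affine

/-- a group of order `p m` that is not `p`-closed, `m` a prime power `≡ 1 (mod p)` -/
theorem exists_affine (p : ℕ) [hp : Fact p.Prime] (m : ℕ) (hm : IsPrimePow m)
    (hm1 : m % p = 1) :
    ∃ (H : Type) (_ : Group H) (_ : Finite H), Nat.card H = p * m ∧ ¬ Cfsg.IsPClosed p H := by
  have hpp : p.Prime := hp.out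
  obtain ⟨r, k, hr, hk, rfl⟩ := (isPrimePow_nat_iff m).mp hm
  haveI : Fact r.Prime := ⟨hr⟩
  have hcF : Nat.card (GaloisField r k) = r ^ k := GaloisField.card r k hk.ne'
  have hcU : Nat.card (GaloisField r k)ˣ = r ^ k - 1 := by
    rw [Nat.card_units, hcF]
  have hpU : p ∣ Nat.card (GaloisField r k)ˣ := by
    rw [hcU]
    have h1 : 1 ≤ r ^ k := Nat.one_le_pow _ _ hr.pos
    exact (Nat.modEq_iff_dvd' h1).mp (by
      unfold Nat.ModEq
      rw [hm1, Nat.mod_eq_of_lt hpp.one_lt])
  obtain ⟨u, hu⟩ := exists_prime_orderOf_dvd_card' (G := (GaloisField r k)ˣ) p hpU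
  have hpF : ¬ p ∣ Nat.card (GaloisField r k) := by
    rw [hcF]
    intro h
    have h1 : r ^ k % p = 0 := Nat.mod_eq_zero_of_dvd h
    omega
  refine ⟨↥(affSub (Subgroup.zpowers u)), inferInstance, inferInstance, ?_,
    affSub_not_pclosed p u hu hpF⟩
  rw [card_affSub, Nat.card_zpowers, hu, hcF]

/-- `PSL(2, p)` is not `p`-closed for `p ≥ 5` -/
theorem exists_psl (p : ℕ) [hp : Fact p.Prime] (hp5 : 5 ≤ p) :
    ∃ (H : Type) (_ : Group H) (_ : Finite H), Nat.card H = p * (p ^ 2 - 1) / 2 ∧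
      ¬ Cfsg.IsPClosed p H := by
  have hpp : p.Prime := hp.out
  obtain ⟨m', hm'⟩ : ∃ m', p = 2 * m' + 1 := by
    rcases hpp.eq_two_or_odd with h | h
    · omega
    · exact ⟨p / 2, by omega⟩
  obtain ⟨hsimple, hcard⟩ := Cfsg.Agent.Lib.Helper7.PSLp.psl_simple_card (F := ZMod p) hm'
    (by omega) (ZMod.card p)
  haveI := hsimple
  have hfin : Finite (Matrix.ProjectiveSpecialLinearGroup (Fin 2) (ZMod p)) :=
    Nat.finite_of_card_ne_zero (by
      rw [hcard]
      have : 0 < m' := by omega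
      positivity)
  refine ⟨Matrix.ProjectiveSpecialLinearGroup (Fin 2) (ZMod p), inferInstance, hfin, ?_, ?_⟩
  · rw [hcard]
    symm
    apply Nat.div_eq_of_eq_mul_left (by norm_num)
    rw [hm']
    have h1 : (2 * m' + 1) ^ 2 - 1 = 4 * m' * m' + 4 * m' := by
      apply Nat.sub_eq_of_eq_add; ring
    rw [h1]; ring
  · intro hcl
    obtain ⟨P⟩ : Nonempty (Sylow p (Matrix.ProjectiveSpecialLinearGroup (Fin 2) (ZMod p))) :=
      inferInstance
    have hpH : p ∣ Nat.card (Matrix.ProjectiveSpecialLinearGroup (Fin 2) (ZMod p)) := by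
      rw [hcard]; exact ⟨(p + 1) * m', by ring⟩
    rcases (hcl P).eq_bot_or_eq_top with h | h
    · exact P.ne_bot_of_dvd_card hpH h
    · have h1 := P.card_eq_multiplicity
      rw [h, Subgroup.card_top, hcard] at h1
      have h2 : (p + 1) ∣ p ^ ((p + 1) * p * m').factorization p := by
        rw [← h1]; exact ⟨p * m', by ring⟩
      have h3 : Nat.Coprime (p + 1) (p ^ ((p + 1) * p * m').factorization p) :=
        Nat.Coprime.pow_right _ (by simp)
      have h4 := Nat.Coprime.eq_one_of_dvd h3 h2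
      omega

end Cfsg.Agent.Lib.Helper2.Npc
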