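import Mathlib
import Cfsg.Prelude
import Cfsg.Agent.Lib.Helper2.OMMDefs

set_option autoImplicit false
set_option linter.unusedSectionVars false
set_option linter.unusedVariables false
set_option linter.style.haveILetI false
open Cfsg

/-!
Farm OMM (statement S2346), unit CASEC (abstract part): in the singular multiplicity-one
configuration the fixed points `V^U` of `U` contain a nonzero vector fixed by `U'`, i.e. `mP ρ 0 ≠ 0`.
The geometric inputs (normalisation, the Weyl element `w0`, transitivity, the line character, the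
Eichler identity) are hypotheses here; they are discharged in `OMMCaseC`.
-/

namespace Cfsg.Agent.Lib.Helper2.OMM

open Matrix QuadraticMap Cfsg.Agent.Lib.Helper5.CartanDieudonne Cfsg.Agent.Lib.Helper5.Refl
  Cfsg.Agent.Lib.Helper5.OrthCard Cfsg.Agent.Lib.Helper5.Siegel Cfsg.Agent.Lib.Helper5.QuadIsom
  Cfsg.Agent.Lib.Helper5.ReflGen Cfsg.Agent.Lib.Helper5.Eichler Cfsg.Agent.Lib.Helper5.SingGeom
  Cfsg.Agent.Lib.Helper5.OmegaGen Cfsg.Agent.Lib.Helper5.OmegaSimple Cfsg.Agent.Lib.Helper1.OMMG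
  Cfsg.Agent.Lib.Helper1.OMMI

section fdata
variable {G : Type*} [Group G] {A : Type*} [AddCommGroup A] [Fintype A]
  {I : Type*} [Fintype I] [DecidableEq I] {V : Type*} [AddCommGroup V] [Module ℂ V]

/-- the idempotent of a trivial character is the average over the group -/
theorem eI_triv (D : FData G A I) (ρ : Representation ℂ G V) (i₀ : I) (ht : ∀ a, D.lam i₀ a = 1) :
    D.eI ρ i₀ = (Fintype.card A : ℂ)⁻¹ • ∑ a : A, ρ (D.u a) := by
  unfold FData.eI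
  congr 1
  refine Finset.sum_congr rfl fun a _ => ?_
  rw [ht, one_smul]

theorem eI_triv_mul_of_fix (D : FData G A I) (ρ : Representation ℂ G V) (i₀ : I)
    (ht : ∀ a, D.lam i₀ a = 1) (X : Module.End ℂ V) (h : ∀ a, ρ (D.u a) * X = X) :
    D.eI ρ i₀ * X = X := by
  rw [eI_triv D ρ i₀ ht, smul_mul_assoc, Finset.sum_mul, Finset.sum_congr rfl (fun a _ => h a),
    Finset.sum_const, Finset.card_univ, ← Nat.cast_smul_eq_nsmul ℂ, smul_smul,
    inv_mul_cancel₀ cardA_ne_zero, one_smul]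

theorem mul_eI_triv_of_fix (D : FData G A I) (ρ : Representation ℂ G V) (i₀ : I)
    (ht : ∀ a, D.lam i₀ a = 1) (X : Module.End ℂ V) (h : ∀ a, X * ρ (D.u a) = X) :
    X * D.eI ρ i₀ = X := by
  rw [eI_triv D ρ i₀ ht, mul_smul_comm, Finset.mul_sum, Finset.sum_congr rfl (fun a _ => h a),
    Finset.sum_const, Finset.card_univ, ← Nat.cast_smul_eq_nsmul ℂ, smul_smul,
    inv_mul_cancel₀ cardA_ne_zero, one_smul]

/-- an element carrying one abelian group to another carries the fixed point idempotents -/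
theorem conj_eI_triv_cross (D D' : FData G A I) (ρ : Representation ℂ G V) (i₀ i₀' : I)
    (ht : ∀ a, D.lam i₀ a = 1) (ht' : ∀ a, D'.lam i₀' a = 1) (g : G) (σ : A ≃ A)
    (h : ∀ a, g * D.u a * g⁻¹ = D'.u (σ a)) :
    ρ g * D.eI ρ i₀ = D'.eI ρ i₀' * ρ g := by
  rw [eI_triv D ρ i₀ ht, eI_triv D' ρ i₀' ht', mul_smul_comm, smul_mul_assoc, Finset.mul_sum,
    Finset.sum_mul]
  congr 1
  calc ∑ a : A, ρ g * ρ (D.u a) = ∑ a : A, ρ (D'.u (σ a)) * ρ g := by
        refine Finset.sum_congr rfl fun a _ => ?_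
        rw [← map_mul, ← map_mul, ← h]
        congr 1
        group
    _ = ∑ a : A, ρ (D'.u a) * ρ g := Equiv.sum_comp σ (fun a => ρ (D'.u a) * ρ g)

/-- commuting with all `ρ (u a)` implies commuting with the fixed point idempotent -/
theorem comm_eI_triv (D : FData G A I) (ρ : Representation ℂ G V) (i₀ : I)
    (ht : ∀ a, D.lam i₀ a = 1) (X : Module.End ℂ V) (h : ∀ a, ρ (D.u a) * X = X * ρ (D.u a)) :
    D.eI ρ i₀ * X = X * D.eI ρ i₀ := by
  rw [eI_triv D ρ i₀ ht, smul_mul_assoc, mul_smul_comm, Finset.sum_mul, Finset.mul_sum,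
    Finset.sum_congr rfl (fun a _ => h a)]

theorem rho_mul_cancel (ρ : Representation ℂ G V) (g : G) (X : Module.End ℂ V)
    (h : X * ρ g = 0) : X = 0 := by
  have h1 : X = X * ρ g * ρ g⁻¹ := by
    rw [mul_assoc, ← map_mul, mul_inv_cancel, map_one, mul_one]
  rw [h1, h, zero_mul]

theorem rho_mul_right_cancel (ρ : Representation ℂ G V) (g : G) (X Y : Module.End ℂ V)
    (h : X * ρ g = Y * ρ g) : X = Y := by
  have h1 : X = X * ρ g * ρ g⁻¹ := by
    rw [mul_assoc, ← map_mul, mul_inv_cancel, map_one, mul_one]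
  have h2 : Y = Y * ρ g * ρ g⁻¹ := by
    rw [mul_assoc, ← map_mul, mul_inv_cancel, map_one, mul_one]
  rw [h1, h2, h]

theorem rho_inv_fix (ρ : Representation ℂ G V) (g : G) (X : Module.End ℂ V)
    (h : ρ g * X = X) : ρ g⁻¹ * X = X := by
  conv_lhs => rw [← h]
  rw [← mul_assoc, ← map_mul, inv_mul_cancel, map_one, one_mul]

end fdata

section idem
variable {V : Type*} [AddCommGroup V] [Module ℂ V] [FiniteDimensional ℂ V]

/-- an idempotent of trace zero vanishes -/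
theorem idem_trace_zero (E : Module.End ℂ V) (hE : IsIdempotentElem E)
    (h0 : LinearMap.trace ℂ V E = 0) : E = 0 := by
  have hproj := LinearMap.IsIdempotentElem.isProj_range E hE
  have htr := hproj.trace
  rw [h0] at htr
  have hfr : Module.finrank ℂ (LinearMap.range E) = 0 := by
    exact_mod_cast htr.symm
  have hbot : LinearMap.range E = ⊥ := Submodule.finrank_eq_zero.mp hfr
  exact LinearMap.range_eq_bot.mp hbot

end idem

variable {F : Type*} [Field F] [Fintype F] [DecidableEq F]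
  {κ : Type} [Fintype κ] [DecidableEq κ] {Qc : QuadraticForm F (κ → F)}
  (ψ : AddChar F ℂ) (hψ : ∃ c, ψ c ≠ 1) (hnd : (polarBilin Qc).Nondegenerate)
  (H : Hyp (Q3 Qc))

theorem DU_lam_zero (a : K2 κ → F) : (DU ψ hψ hnd H).lam 0 a = 1 := by
  rw [DU_lam, polar_zero_left, AddChar.map_zero_eq_one]

theorem DM_lam_zero (a : K2 κ → F) : (DM ψ hψ hnd H).lam 0 a = 1 := by
  rw [DM_lam, polar_zero_left, AddChar.map_zero_eq_one]

theorem DP_lam_zero (a : K1 κ → F) : (DP ψ hψ hnd H).lam 0 a = 1 := by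
  rw [DP_lam, polar_zero_left, AddChar.map_zero_eq_one]

variable {V : Type*} [AddCommGroup V] [Module ℂ V] [FiniteDimensional ℂ V]

/-- CASE C, abstract form -/
theorem caseC_of (ρ : Representation ℂ (GG Qc) V)
    (hL : LevelOne ψ hψ hnd H ρ 0) (h0 : mP ψ hψ hnd H ρ 0 = 0) (hr : mU ψ hψ hnd H ρ 0 ≠ 0)
    (hc1 : ∀ z, ρ (uP H z) * (DU ψ hψ hnd H).eI ρ 0 = (DU ψ hψ hnd H).eI ρ 0 * ρ (uP H z))
    (hc3 : ∀ z, ρ (uP H z) * (DU ψ hψ hnd H).eI ρ (eH F (K1 κ)) =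
      (DU ψ hψ hnd H).eI ρ (eH F (K1 κ)) * ρ (uP H z))
    (hline : ∀ z, ρ (uP H z) * (DU ψ hψ hnd H).eI ρ (eH F (K1 κ)) =
      (DU ψ hψ hnd H).eI ρ (eH F (K1 κ)))
    (hw0 : ∃ (g : GG Qc) (σ : (K2 κ → F) ≃ (K2 κ → F)) (σ' : (K1 κ → F) ≃ (K1 κ → F)),
      (∀ x, g * uE H x * g⁻¹ = uM H (σ x)) ∧ (∀ x, g * uM H x * g⁻¹ = uE H (σ x)) ∧
      (∀ z, g * uP H z * g⁻¹ = uP H (σ' z)))
    (htrans : ∀ w : K2 κ → F, w ≠ 0 → Q2 Qc w = 0 →
      (DU ψ hψ hnd H).eI ρ (eH F (K1 κ)) * (DM ψ hψ hnd H).eI ρ 0 = 0 →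
      (DU ψ hψ hnd H).eI ρ w * (DM ψ hψ hnd H).eI ρ 0 = 0)
    (hid : ∀ z : K1 κ → F, ∃ x x' : K2 κ → F,
      uM H (ext0 z) * uE H (eH F (K1 κ)) * (uM H (ext0 z))⁻¹ = uE H x * uP H (-z) * uM H x') :
    False := by
  set E0 := (DU ψ hψ hnd H).eI ρ 0 with hE0
  set Em0 := (DM ψ hψ hnd H).eI ρ 0 with hEm0
  set Ep0 := (DP ψ hψ hnd H).eI ρ 0 with hEp0
  set Ee2 := (DU ψ hψ hnd H).eI ρ (eH F (K1 κ)) with hEe2
  have htU := DU_lam_zero ψ hψ hnd H
  have htM := DM_lam_zero ψ hψ hnd H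
  have htP := DP_lam_zero ψ hψ hnd H
  have iE0 : IsIdempotentElem E0 := (DU ψ hψ hnd H).eI_idem ρ 0
  have iEp0 : IsIdempotentElem Ep0 := (DP ψ hψ hnd H).eI_idem ρ 0
  -- Step A
  have hA : Ep0 * E0 = E0 * Ep0 :=
    comm_eI_triv (DP ψ hψ hnd H) ρ 0 htP E0 (fun z => hc1 z)
  -- Step B
  have hB : E0 * Ep0 = 0 := by
    apply idem_trace_zero
    · unfold IsIdempotentElem
      calc E0 * Ep0 * (E0 * Ep0) = E0 * (Ep0 * E0) * Ep0 := by simp only [mul_assoc]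
        _ = E0 * (E0 * Ep0) * Ep0 := by rw [hA]
        _ = (E0 * E0) * (Ep0 * Ep0) := by simp only [mul_assoc]
        _ = E0 * Ep0 := by rw [iE0.eq, iEp0.eq]
    · exact h0
  -- Step C
  obtain ⟨g, σ, σ', hg1, hg2, hg3⟩ := hw0
  have hgE : ρ g * E0 = Em0 * ρ g :=
    conj_eI_triv_cross (DU ψ hψ hnd H) (DM ψ hψ hnd H) ρ 0 0 htU htM g σ hg1
  have hgM : ρ g * Em0 = E0 * ρ g :=
    conj_eI_triv_cross (DM ψ hψ hnd H) (DU ψ hψ hnd H) ρ 0 0 htM htU g σ hg2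
  have hgP : ρ g * Ep0 = Ep0 * ρ g :=
    conj_eI_triv_cross (DP ψ hψ hnd H) (DP ψ hψ hnd H) ρ 0 0 htP htP g σ' hg3
  -- Step D
  have hD : Ep0 * Em0 = 0 := by
    apply rho_mul_cancel ρ g
    calc Ep0 * Em0 * ρ g = Ep0 * (ρ g * E0) := by rw [mul_assoc, hgE]
      _ = (ρ g * Ep0) * E0 := by rw [← mul_assoc, hgP]
      _ = ρ g * (E0 * Ep0) := by rw [mul_assoc, hA]
      _ = 0 := by rw [hB, mul_zero]
  -- Step E
  have hE : Ee2 * Em0 = 0 := by
    have h1 : Ee2 * Ep0 = Ee2 :=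
      mul_eI_triv_of_fix (DP ψ hψ hnd H) ρ 0 htP Ee2 (fun z => by
        show Ee2 * ρ (uP H z) = Ee2
        rw [← hc3 z, hline z])
    rw [← h1, mul_assoc, hD, mul_zero]
  -- Step F
  have hF : Em0 = E0 * Em0 := by
    have h1 : ∀ w : K2 κ → F, w ≠ 0 → (DU ψ hψ hnd H).eI ρ w * Em0 = 0 := by
      intro w hw
      by_cases hq : Q2 Qc w = 0
      · exact htrans w hw hq hE
      · rw [(DU ψ hψ hnd H).eI_eq_zero ρ w (hL.2 w hw hq), zero_mul]
    calc Em0 = (∑ w : K2 κ → F, (DU ψ hψ hnd H).eI ρ w) * Em0 := by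
          rw [(DU ψ hψ hnd H).sum_eI ρ, one_mul]
      _ = ∑ w : K2 κ → F, (DU ψ hψ hnd H).eI ρ w * Em0 := by rw [Finset.sum_mul]
      _ = E0 * Em0 := by
          rw [Finset.sum_eq_single_of_mem (0 : K2 κ → F) (Finset.mem_univ _)
            (fun w _ hw => h1 w hw)]
  -- Step G
  have hG : E0 = Em0 * E0 := by
    apply rho_mul_right_cancel ρ g
    calc E0 * ρ g = ρ g * Em0 := hgM.symm
      _ = ρ g * (E0 * Em0) := by rw [← hF]
      _ = (Em0 * ρ g) * Em0 := by rw [← mul_assoc, hgE]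
      _ = Em0 * (E0 * ρ g) := by rw [mul_assoc, hgM]
      _ = Em0 * E0 * ρ g := by rw [mul_assoc]
  -- Step H
  have hHM : ∀ x, ρ (uM H x) * E0 = E0 := by
    intro x
    have h1 : ρ (uM H x) * Em0 = Em0 := by
      have := (DM ψ hψ hnd H).rho_u_mul_eI ρ 0 x
      rw [htM, one_smul] at this
      exact this
    calc ρ (uM H x) * E0 = ρ (uM H x) * (Em0 * E0) := by rw [← hG]
      _ = Em0 * E0 := by rw [← mul_assoc, h1]
      _ = E0 := hG.symm
  have hHU : ∀ x, ρ (uE H x) * E0 = E0 := by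
    intro x
    have := (DU ψ hψ hnd H).rho_u_mul_eI ρ 0 x
    rw [htU, one_smul] at this
    exact this
  -- Step I
  have hI : ∀ z, ρ (uP H z) * E0 = E0 := by
    intro z
    obtain ⟨x, x', hxx⟩ := hid (-z)
    rw [neg_neg] at hxx
    have h1 : ρ (uM H (ext0 (-z)) * uE H (eH F (K1 κ)) * (uM H (ext0 (-z)))⁻¹) * E0 = E0 := by
      rw [map_mul, map_mul, mul_assoc, rho_inv_fix ρ _ E0 (hHM _), mul_assoc, hHU, hHM]
    rw [hxx, map_mul, map_mul, mul_assoc, hHM, mul_assoc] at h1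
    have h2 := rho_inv_fix ρ (uE H x) E0 (hHU x)
    calc ρ (uP H z) * E0 = ρ (uE H x)⁻¹ * (ρ (uE H x) * (ρ (uP H z) * E0)) := by
          rw [← mul_assoc, ← map_mul, inv_mul_cancel, map_one, one_mul]
      _ = ρ (uE H x)⁻¹ * E0 := by rw [h1]
      _ = E0 := h2
  -- Step J
  have hJ : Ep0 * E0 = E0 := eI_triv_mul_of_fix (DP ψ hψ hnd H) ρ 0 htP E0 hI
  have hz : E0 = 0 := by rw [← hJ, hA, hB]
  apply hr
  show (DU ψ hψ hnd H).mult ρ.character 0 = 0
  rw [← (DU ψ hψ hnd H).trace_eI ρ 0, ← hE0, hz, map_zero]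

end Cfsg.Agent.Lib.Helper2.OMM
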