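import Mathlib
import Cfsg.Prelude
import Cfsg.Agent.Lib.Helper2.OMMDefs

set_option autoImplicit false
set_option linter.unusedSectionVars false
set_option linter.unusedVariables false
set_option linter.style.haveILetI false
open Cfsg

/-!
Farm OMM (statement S2346), unit CASEC, the Eichler identity (input `hid` of `caseC_of`):
`uM (ext0 z) * uE e₂ * (uM (ext0 z))⁻¹ = uE e₂ * uP (-z) * uM (-(Q z) • e₂)`.
-/

namespace Cfsg.Agent.Lib.Helper2.OMM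

open Matrix QuadraticMap Cfsg.Agent.Lib.Helper5.CartanDieudonne Cfsg.Agent.Lib.Helper5.Refl
  Cfsg.Agent.Lib.Helper5.OrthCard Cfsg.Agent.Lib.Helper5.Siegel Cfsg.Agent.Lib.Helper5.QuadIsom
  Cfsg.Agent.Lib.Helper5.ReflGen Cfsg.Agent.Lib.Helper5.Eichler Cfsg.Agent.Lib.Helper5.SingGeom
  Cfsg.Agent.Lib.Helper5.OmegaGen Cfsg.Agent.Lib.Helper5.OmegaSimple Cfsg.Agent.Lib.Helper1.OMMG
  Cfsg.Agent.Lib.Helper1.OMMI

variable {F : Type*} [Field F] [Fintype F] [DecidableEq F]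

section general
variable {ι : Type} [Fintype ι] [DecidableEq ι] (Q : QuadraticForm F (ι → F))

/-- for singular orthogonal `u, v`: `eich u v = eich v (-u)` -/
theorem eich_swap (u v : ι → F) (hu : Q u = 0) (hv : Q v = 0) (huv : polar ⇑Q u v = 0) :
    eich Q u v hu huv = eich Q v (-u) hv (by rw [polar_neg_right, polar_comm, huv, neg_zero]) := by
  apply ext_act
  intro x
  rw [act_eich, act_eich, eichlerMap_apply, eichlerMap_apply, hv, polar_neg_left,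
    QuadraticMap.map_neg, hu]
  simp only [zero_mul, add_zero, neg_neg, smul_neg, neg_smul]
  abel

end general

variable {κ : Type} [Fintype κ] [DecidableEq κ] {Qc : QuadraticForm F (κ → F)}
  (H : Hyp (Q3 Qc))

theorem Q3_em2 (z : K1 κ → F) : Q3 Qc (em2 z) = Q1 Qc z := by
  show hypExt (hypExt (hypExt Qc)) (ext0 (ext0 z)) = hypExt Qc z
  rw [hypExt_ext0, hypExt_ext0]

theorem polar_e1_em2 (z : K1 κ → F) : polar ⇑(Q3 Qc) (e1 F κ) (em2 z) = 0 :=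
  Cfsg.Agent.Lib.Helper1.OMMI.polar_eH_ext0 _ _

theorem polar_f1_em2 (z : K1 κ → F) : polar ⇑(Q3 Qc) (f1 F κ) (em2 z) = 0 :=
  polar_f1_ext0 Qc _

theorem polar_e1_e2 : polar ⇑(Q3 Qc) (e1 F κ) (e2 F κ) = 0 :=
  Cfsg.Agent.Lib.Helper1.OMMI.polar_eH_ext0 _ _

theorem polar_f1_e2 : polar ⇑(Q3 Qc) (f1 F κ) (e2 F κ) = 0 :=
  polar_f1_ext0 Qc _

theorem polar_f1_e1 : polar ⇑(Q3 Qc) (f1 F κ) (e1 F κ) = 1 := by
  rw [polar_comm]
  exact Cfsg.Agent.Lib.Helper5.OMMLevi.polar_eH_fH _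

theorem Q3_e1 : Q3 Qc (e1 F κ) = 0 := hypExt_eH _
theorem Q3_f1 : Q3 Qc (f1 F κ) = 0 := hypExt_fH _

theorem uM_coe (x : K2 κ → F) :
    (uM H x).1 = eich (Q3 Qc) (f1 F κ) (ext0 x) (hypExt_fH _) (polar_f1_ext0 Qc x) := rfl

theorem uP_coe (z : K1 κ → F) :
    (uP H z).1 = eich (Q3 Qc) (e2 F κ) (em2 z) (Q3_e2 Qc) (polar_e2_em2 Qc z) := rfl

/-- the vector `e₁ + ζ - Q ζ • f₁` -/
theorem uM_act_e1 (z : K1 κ → F) :
    act (Q3 Qc) (uM H (ext0 z)).1 (e1 F κ) = e1 F κ + em2 z + (-(Q1 Qc z)) • f1 F κ := by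
  rw [uM_coe, act_eich, eichlerMap_apply, polar_f1_e1, polar_comm, polar_e1_em2]
  have : Q3 Qc (ext0 (ext0 z)) = Q1 Qc z := Q3_em2 z
  rw [this, one_smul, zero_add, mul_one]

theorem uM_act_e2 (z : K1 κ → F) :
    act (Q3 Qc) (uM H (ext0 z)).1 (e2 F κ) = e2 F κ := by
  rw [uM_coe, act_eich, eichlerMap_apply, polar_f1_e2, polar_comm, polar_e2_em2]
  simp

/-- the Eichler identity of Case C -/
theorem uM_uE_conj (z : K1 κ → F) :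
    uM H (ext0 z) * uE H (eH F (K1 κ)) * (uM H (ext0 z))⁻¹ =
      uE H (eH F (K1 κ)) * uP H (-z) * uM H ((-(Q1 Qc z)) • eH F (K1 κ)) := by
  apply Subtype.ext
  rw [Subgroup.coe_mul, Subgroup.coe_mul, Subgroup.coe_inv, Subgroup.coe_mul, Subgroup.coe_mul]
  have hE : (uE H (eH F (K1 κ))).1 =
      eich (Q3 Qc) (e1 F κ) (e2 F κ) Q3_e1 polar_e1_e2 := rfl
  rw [hE, conj_eich]
  -- the conjugate
  have h1 : eich (Q3 Qc) (act (Q3 Qc) (uM H (ext0 z)).1 (e1 F κ))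
      (act (Q3 Qc) (uM H (ext0 z)).1 (e2 F κ)) (by rw [quad_act, Q3_e1])
      (by rw [polar_act, polar_e1_e2]) =
      eich (Q3 Qc) (e1 F κ + em2 z + (-(Q1 Qc z)) • f1 F κ) (e2 F κ)
        (by rw [← uM_act_e1 H z, quad_act, Q3_e1])
        (by rw [← uM_act_e1 H z, ← uM_act_e2 H z, polar_act, polar_e1_e2]) :=
    eich_congr (Q3 Qc) (uM_act_e1 H z) (uM_act_e2 H z) _ _ _ _
  rw [h1]
  have hp0 : Q3 Qc (e1 F κ + em2 z + (-(Q1 Qc z)) • f1 F κ) = 0 := by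
    rw [← uM_act_e1 H z, quad_act, Q3_e1]
  have hpe : polar ⇑(Q3 Qc) (e1 F κ + em2 z + (-(Q1 Qc z)) • f1 F κ) (e2 F κ) = 0 := by
    rw [← uM_act_e1 H z, ← uM_act_e2 H z, polar_act, polar_e1_e2]
  rw [eich_swap (Q3 Qc) _ _ hp0 (Q3_e2 Qc) hpe]
  -- split the second argument
  have hsplit : -(e1 F κ + em2 z + (-(Q1 Qc z)) • f1 F κ) =
      -(e1 F κ) + (em2 (-z) + (Q1 Qc z) • f1 F κ) := by
    have : (em2 (-z) : K3 κ → F) = -em2 z := by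
      show ext0 (ext0 (-z)) = -ext0 (ext0 z)
      have h1 : (-z : K1 κ → F) = (-1 : F) • z := by rw [neg_one_smul]
      rw [h1, Cfsg.Agent.Lib.Helper1.OMMI.ext0_smul, Cfsg.Agent.Lib.Helper1.OMMI.ext0_smul,
        neg_one_smul]
    rw [this, neg_smul]
    abel
  have hpe1 : polar ⇑(Q3 Qc) (e2 F κ) (-(e1 F κ)) = 0 := by
    rw [polar_neg_right, polar_comm, polar_e1_e2, neg_zero]
  have hpf1 : polar ⇑(Q3 Qc) (e2 F κ) ((Q1 Qc z) • f1 F κ) = 0 := by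
    rw [polar_smul_right, polar_comm, polar_f1_e2, smul_zero]
  have hpz : polar ⇑(Q3 Qc) (e2 F κ) (em2 (-z)) = 0 := polar_e2_em2 Qc (-z)
  have hpzf : polar ⇑(Q3 Qc) (e2 F κ) (em2 (-z) + (Q1 Qc z) • f1 F κ) = 0 := by
    rw [polar_add_right, hpz, hpf1, add_zero]
  have h2 : eich (Q3 Qc) (e2 F κ) (-(e1 F κ + em2 z + (-(Q1 Qc z)) • f1 F κ)) (Q3_e2 Qc)
      (by rw [polar_neg_right, polar_comm, hpe, neg_zero]) =
      eich (Q3 Qc) (e2 F κ) (-(e1 F κ)) (Q3_e2 Qc) hpe1 *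
        (eich (Q3 Qc) (e2 F κ) (em2 (-z)) (Q3_e2 Qc) hpz *
          eich (Q3 Qc) (e2 F κ) ((Q1 Qc z) • f1 F κ) (Q3_e2 Qc) hpf1) := by
    rw [eich_mul, eich_mul]
    exact eich_congr (Q3 Qc) rfl hsplit _ _ _ _
  rw [h2, mul_assoc]
  congr 1
  · -- eich e₂ (-e₁) = eich e₁ e₂
    exact (eich_swap (Q3 Qc) (e1 F κ) (e2 F κ) Q3_e1 (Q3_e2 Qc) polar_e1_e2).symm
  · congr 1
    -- eich e₂ (Q z • f₁) = eich f₁ (-(Q z) • e₂)
    rw [uM_coe]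
    have h3 : (ext0 ((-(Q1 Qc z)) • eH F (K1 κ)) : K3 κ → F) = (-(Q1 Qc z)) • e2 F κ :=
      Cfsg.Agent.Lib.Helper1.OMMI.ext0_smul _ _
    have hs0 : Q3 Qc ((-(Q1 Qc z)) • f1 F κ) = 0 := by
      rw [QuadraticMap.map_smul, Q3_f1, smul_zero]
    have hs1 : polar ⇑(Q3 Qc) ((-(Q1 Qc z)) • f1 F κ) (e2 F κ) = 0 := by
      rw [polar_smul_left, polar_f1_e2, smul_zero]
    have h4 := eich_swap (Q3 Qc) ((-(Q1 Qc z)) • f1 F κ) (e2 F κ) hs0 (Q3_e2 Qc) hs1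
    have h5 := eich_smul_left (Q3 Qc) (f1 F κ) (e2 F κ) Q3_f1 polar_f1_e2 (-(Q1 Qc z))
    have h6 : eich (Q3 Qc) (e2 F κ) ((Q1 Qc z) • f1 F κ) (Q3_e2 Qc) hpf1 =
        eich (Q3 Qc) (e2 F κ) (-((-(Q1 Qc z)) • f1 F κ)) (Q3_e2 Qc)
          (by rw [polar_neg_right, polar_comm, hs1, neg_zero]) :=
      eich_congr (Q3 Qc) rfl (by rw [neg_smul, neg_neg]) _ _ _ _
    rw [h6, ← h4, h5]
    exact eich_congr (Q3 Qc) rfl h3.symm _ _ _ _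

end Cfsg.Agent.Lib.Helper2.OMM
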