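import Mathlib
import Cfsg.Prelude
import Cfsg.Agent.Lib.Helper2.OMMCaseC1
import Cfsg.Agent.Lib.Helper5.OMMOrbit

set_option autoImplicit false
set_option linter.unusedSectionVars false
set_option linter.unusedVariables false
set_option linter.style.haveILetI false
open Cfsg

/-!
Farm OMM (statement S2346), unit W0: the Weyl element `w0 = r_{e₁-f₁} r_{e₃-f₃} ∈ Ω(V)` swapping the
radicals `U` and `U⁻` and normalising `U'`.
-/

namespace Cfsg.Agent.Lib.Helper2.OMM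

open Matrix QuadraticMap Cfsg.Agent.Lib.Helper5.CartanDieudonne Cfsg.Agent.Lib.Helper5.Refl
  Cfsg.Agent.Lib.Helper5.OrthCard Cfsg.Agent.Lib.Helper5.Siegel Cfsg.Agent.Lib.Helper5.QuadIsom
  Cfsg.Agent.Lib.Helper5.ReflGen Cfsg.Agent.Lib.Helper5.Eichler Cfsg.Agent.Lib.Helper5.SingGeom
  Cfsg.Agent.Lib.Helper5.OmegaGen Cfsg.Agent.Lib.Helper5.OmegaSimple Cfsg.Agent.Lib.Helper1.OMMG
  Cfsg.Agent.Lib.Helper1.OMMI Cfsg.Agent.Lib.Helper5.SpinorNorm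

variable {F : Type*} [Field F] [Fintype F] [DecidableEq F]

section general
variable {ι : Type} [Fintype ι] [DecidableEq ι] (Q : QuadraticForm F (ι → F))

/-- the permutation of the vectors given by an isometry -/
noncomputable def actEquiv (g : ↥(isometryGroup F ⇑Q)) : (ι → F) ≃ (ι → F) where
  toFun := act Q g
  invFun := act Q g⁻¹
  left_inv x := by
    have h := act_inv_act Q g⁻¹ x
    rw [inv_inv] at h
    exact h
  right_inv x := act_inv_act Q g x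

theorem actEquiv_apply (g : ↥(isometryGroup F ⇑Q)) (x : ι → F) : actEquiv Q g x = act Q g x := rfl

theorem act_refl_perp (v : ι → F) (hv : Q v ≠ 0) (x : ι → F) (hx : polar ⇑Q v x = 0) :
    act Q (reflection Q v hv) x = x := by
  rw [act_reflection, hx, mul_zero, zero_smul, sub_zero]

/-- the reflection in `e - f` swaps the hyperbolic pair `e, f` -/
theorem act_refl_swap_e {e f : ι → F} (he : Q e = 0) (hf : Q f = 0) (hef : polar ⇑Q e f = 1)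
    (hb : Q (e - (1 : F) • f) ≠ 0) : act Q (reflection Q (e - (1 : F) • f) hb) e = f := by
  have hee : polar ⇑Q e e = 0 := polar_self_of_sing Q e he
  have hfe : polar ⇑Q f e = 1 := by rw [polar_comm]; exact hef
  rw [act_reflection, Cfsg.Agent.Lib.Helper5.OmegaTrans.quad_torus_left he hf hef,
    polar_sub_left, polar_smul_left, hee, hfe]
  ext i
  simp only [Pi.sub_apply, Pi.smul_apply, smul_eq_mul]
  have h1 : ((-1 : F))⁻¹ = -1 := by rw [inv_neg, inv_one]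
  rw [h1]
  ring

theorem act_refl_swap_f {e f : ι → F} (he : Q e = 0) (hf : Q f = 0) (hef : polar ⇑Q e f = 1)
    (hb : Q (e - (1 : F) • f) ≠ 0) : act Q (reflection Q (e - (1 : F) • f) hb) f = e := by
  have hff : polar ⇑Q f f = 0 := polar_self_of_sing Q f hf
  rw [act_reflection, Cfsg.Agent.Lib.Helper5.OmegaTrans.quad_torus_left he hf hef,
    polar_sub_left, polar_smul_left, hff, hef]
  ext i
  simp only [Pi.sub_apply, Pi.smul_apply, smul_eq_mul]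
  have h1 : ((-1 : F))⁻¹ = -1 := by rw [inv_neg, inv_one]
  rw [h1]
  ring

end general

section ext
variable {κ : Type} [Fintype κ] [DecidableEq κ] (Qκ : QuadraticForm F (κ → F))

/-- reflections in vectors of the subspace `ext0 κ` act blockwise -/
theorem act_refl_ext0 (v x : κ → F) (hv : Qκ v ≠ 0) (hv' : hypExt Qκ (ext0 v) ≠ 0) :
    act (hypExt Qκ) (reflection (hypExt Qκ) (ext0 v) hv') (ext0 x) =
      ext0 (act Qκ (reflection Qκ v hv) x) := by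
  rw [act_reflection, act_reflection, hypExt_ext0,
    Cfsg.Agent.Lib.Helper5.OMMLevi.polar_ext0_ext0, ← Cfsg.Agent.Lib.Helper1.OMMI.ext0_smul]
  have h : ∀ a b : κ → F, (ext0 (a - b) : Fin 2 ⊕ κ → F) = ext0 a - ext0 b := by
    intro a b
    funext t
    rcases t with t | t <;> simp [ext0]
  rw [h]

theorem act_refl_ext0_eH (v : κ → F) (hv' : hypExt Qκ (ext0 v) ≠ 0) :
    act (hypExt Qκ) (reflection (hypExt Qκ) (ext0 v) hv') (eH F κ) = eH F κ := by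
  apply act_refl_perp
  rw [polar_comm]
  exact Cfsg.Agent.Lib.Helper1.OMMI.polar_eH_ext0 Qκ v

theorem act_refl_ext0_fH (v : κ → F) (hv' : hypExt Qκ (ext0 v) ≠ 0) :
    act (hypExt Qκ) (reflection (hypExt Qκ) (ext0 v) hv') (fH F κ) = fH F κ := by
  apply act_refl_perp
  rw [polar_comm]
  exact Cfsg.Agent.Lib.Helper5.OMMLevi.polar_fH_ext0 Qκ v

theorem ext0_sub (a b : κ → F) : (ext0 (a - b) : Fin 2 ⊕ κ → F) = ext0 a - ext0 b := by
  funext t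
  rcases t with t | t <;> simp [ext0]

/-- `Q (e - f) = -1` for the standard pair -/
theorem hypExt_eH_sub_fH : hypExt Qκ (eH F κ - (1 : F) • fH F κ) = -1 :=
  Cfsg.Agent.Lib.Helper5.OmegaTrans.quad_torus_left (hypExt_eH Qκ) (hypExt_fH Qκ)
    (Cfsg.Agent.Lib.Helper5.OMMLevi.polar_eH_fH Qκ) 1

theorem hypExt_eH_sub_fH_ne : hypExt Qκ (eH F κ - (1 : F) • fH F κ) ≠ 0 := by
  rw [hypExt_eH_sub_fH]
  exact neg_ne_zero.mpr one_ne_zero

end ext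

variable {κ : Type} [Fintype κ] [DecidableEq κ] {Qc : QuadraticForm F (κ → F)}
  (hnd : (polarBilin Qc).Nondegenerate) (H : Hyp (Q3 Qc))

/-- the vector `e₃ - f₃` of `W'` -/
noncomputable abbrev v1 (F : Type*) [Field F] (κ : Type) [DecidableEq κ] : K1 κ → F :=
  eH F κ - (1 : F) • fH F κ

theorem Q1_v1 : Q1 Qc (v1 F κ) ≠ 0 := hypExt_eH_sub_fH_ne Qc

theorem Q2_v1 : Q2 Qc (ext0 (v1 F κ)) ≠ 0 := by
  show hypExt (hypExt Qc) (ext0 (v1 F κ)) ≠ 0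
  rw [hypExt_ext0]; exact Q1_v1

theorem Q3_v1 : Q3 Qc (ext0 (ext0 (v1 F κ))) ≠ 0 := by
  show hypExt (hypExt (hypExt Qc)) (ext0 (ext0 (v1 F κ))) ≠ 0
  rw [hypExt_ext0]; exact Q2_v1

/-- the vector `e₁ - f₁` of `V` -/
noncomputable abbrev v3 (F : Type*) [Field F] (κ : Type) [DecidableEq κ] : K3 κ → F :=
  eH F (K2 κ) - (1 : F) • fH F (K2 κ)

theorem Q3_v3 : Q3 Qc (v3 F κ) ≠ 0 := hypExt_eH_sub_fH_ne (Q2 Qc)

/-- the Weyl element as an isometry -/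
noncomputable def w0I : ↥(isometryGroup F ⇑(Q3 Qc)) :=
  reflection (Q3 Qc) (v3 F κ) Q3_v3 * reflection (Q3 Qc) (ext0 (ext0 (v1 F κ))) Q3_v1

include hnd H in
theorem w0I_mem : (w0I : ↥(isometryGroup F ⇑(Q3 Qc))) ∈ Omega F ⇑(Q3 Qc) := by
  have hrep : IsRep (Q3 Qc) (w0I : ↥(isometryGroup F ⇑(Q3 Qc)))
      ([v3 F κ] ++ [ext0 (ext0 (v1 F κ))]) :=
    isRep_mul _ (isRep_reflection _ _ Q3_v3) (isRep_reflection _ _ Q3_v1)
  rw [Cfsg.Agent.Lib.Helper5.OmegaCrit.mem_Omega_iff (Q3 Qc) (nd3 Qc hnd)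
    (fun h4 => by have := H.card5; omega) (by have := H.card5; omega) _ _ hrep]
  refine ⟨⟨1, rfl⟩, ?_⟩
  simp only [List.cons_append, List.nil_append, List.map_cons, List.map_nil, List.prod_cons,
    List.prod_nil, mul_one]
  have h1 : Q3 Qc (v3 F κ) = -1 := hypExt_eH_sub_fH (Q2 Qc)
  have h2 : Q3 Qc (ext0 (ext0 (v1 F κ))) = -1 := by
    show hypExt (hypExt (hypExt Qc)) (ext0 (ext0 (v1 F κ))) = -1
    rw [hypExt_ext0, hypExt_ext0]
    exact hypExt_eH_sub_fH Qc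
  rw [h1, h2]
  exact ⟨1, by ring⟩

/-- the permutation of `W` induced by `w0`: the reflection in `e₃ - f₃` -/
noncomputable def sig2 : (K2 κ → F) ≃ (K2 κ → F) :=
  actEquiv (Q2 Qc) (reflection (Q2 Qc) (ext0 (v1 F κ)) Q2_v1)

/-- the permutation of `W'` induced by `w0` -/
noncomputable def sig1 : (K1 κ → F) ≃ (K1 κ → F) :=
  actEquiv (Q1 Qc) (reflection (Q1 Qc) (v1 F κ) Q1_v1)

theorem w0I_ext0 (x : K2 κ → F) :
    act (Q3 Qc) (w0I : ↥(isometryGroup F ⇑(Q3 Qc))) (ext0 x) = ext0 (sig2 (Qc := Qc) x) := by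
  unfold w0I
  rw [act_mul, act_refl_ext0 (Q2 Qc) (ext0 (v1 F κ)) x Q2_v1 Q3_v1]
  apply act_refl_perp
  rw [polar_sub_left, polar_smul_left, Cfsg.Agent.Lib.Helper1.OMMI.polar_eH_ext0,
    Cfsg.Agent.Lib.Helper5.OMMLevi.polar_fH_ext0, smul_zero, sub_zero]

theorem w0I_e1 : act (Q3 Qc) (w0I : ↥(isometryGroup F ⇑(Q3 Qc))) (e1 F κ) = f1 F κ := by
  unfold w0I
  rw [act_mul, act_refl_ext0_eH (Q2 Qc) (ext0 (v1 F κ)) Q3_v1]
  exact act_refl_swap_e (Q3 Qc) (hypExt_eH _) (hypExt_fH _)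
    (Cfsg.Agent.Lib.Helper5.OMMLevi.polar_eH_fH _) Q3_v3

theorem w0I_f1 : act (Q3 Qc) (w0I : ↥(isometryGroup F ⇑(Q3 Qc))) (f1 F κ) = e1 F κ := by
  unfold w0I
  rw [act_mul, act_refl_ext0_fH (Q2 Qc) (ext0 (v1 F κ)) Q3_v1]
  exact act_refl_swap_f (Q3 Qc) (hypExt_eH _) (hypExt_fH _)
    (Cfsg.Agent.Lib.Helper5.OMMLevi.polar_eH_fH _) Q3_v3

theorem sig2_ext0 (z : K1 κ → F) : sig2 (Qc := Qc) (ext0 z) = ext0 (sig1 (Qc := Qc) z) := by
  show act (Q2 Qc) (reflection (Q2 Qc) (ext0 (v1 F κ)) Q2_v1) (ext0 z) = _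
  rw [act_refl_ext0 (Q1 Qc) (v1 F κ) z Q1_v1 Q2_v1]
  rfl

theorem sig2_e2 : sig2 (Qc := Qc) (eH F (K1 κ)) = eH F (K1 κ) :=
  act_refl_ext0_eH (Q1 Qc) (v1 F κ) Q2_v1

/-- the Weyl element -/
noncomputable def w0 : GG Qc := ⟨w0I, w0I_mem hnd H⟩

theorem w0_conj_uE (x : K2 κ → F) :
    w0 hnd H * uE H x * (w0 hnd H)⁻¹ = uM H (sig2 (Qc := Qc) x) := by
  apply Subtype.ext
  rw [Subgroup.coe_mul, Subgroup.coe_mul, Subgroup.coe_inv, uE_coe, uM_coe]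
  show (w0I : ↥(isometryGroup F ⇑(Q3 Qc))) * _ * (w0I : ↥(isometryGroup F ⇑(Q3 Qc)))⁻¹ = _
  rw [conj_eich]
  exact eich_congr (Q3 Qc) w0I_e1 (w0I_ext0 x) _ _ _ _

theorem w0_conj_uM (x : K2 κ → F) :
    w0 hnd H * uM H x * (w0 hnd H)⁻¹ = uE H (sig2 (Qc := Qc) x) := by
  apply Subtype.ext
  rw [Subgroup.coe_mul, Subgroup.coe_mul, Subgroup.coe_inv, uE_coe, uM_coe]
  show (w0I : ↥(isometryGroup F ⇑(Q3 Qc))) * _ * (w0I : ↥(isometryGroup F ⇑(Q3 Qc)))⁻¹ = _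
  rw [conj_eich]
  exact eich_congr (Q3 Qc) w0I_f1 (w0I_ext0 x) _ _ _ _

theorem w0_conj_uP (z : K1 κ → F) :
    w0 hnd H * uP H z * (w0 hnd H)⁻¹ = uP H (sig1 (Qc := Qc) z) := by
  apply Subtype.ext
  rw [Subgroup.coe_mul, Subgroup.coe_mul, Subgroup.coe_inv, uP_coe, uP_coe]
  show (w0I : ↥(isometryGroup F ⇑(Q3 Qc))) * _ * (w0I : ↥(isometryGroup F ⇑(Q3 Qc)))⁻¹ = _
  rw [conj_eich]
  refine eich_congr (Q3 Qc) ?_ ?_ _ _ _ _
  · show act (Q3 Qc) w0I (ext0 (eH F (K1 κ))) = ext0 (eH F (K1 κ))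
    rw [w0I_ext0, sig2_e2]
  · show act (Q3 Qc) w0I (ext0 (ext0 z)) = ext0 (ext0 (sig1 (Qc := Qc) z))
    rw [w0I_ext0, sig2_ext0]

include hnd in
/-- unit W0 -/
theorem W0 : ∃ (g : GG Qc) (σ : (K2 κ → F) ≃ (K2 κ → F)) (σ' : (K1 κ → F) ≃ (K1 κ → F)),
    (∀ x, g * uE H x * g⁻¹ = uM H (σ x)) ∧ (∀ x, g * uM H x * g⁻¹ = uE H (σ x)) ∧
      (∀ z, g * uP H z * g⁻¹ = uP H (σ' z)) :=
  ⟨w0 hnd H, sig2, sig1, w0_conj_uE hnd H, w0_conj_uM hnd H, w0_conj_uP hnd H⟩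

end Cfsg.Agent.Lib.Helper2.OMM
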