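import Mathlib
import Cfsg.Prelude
import Cfsg.Agent.Lib.Helper2.OMMCaseC0
import Cfsg.Agent.Lib.Helper2.OMMW0
import Cfsg.Agent.Lib.Helper1.OMMLevels
import Cfsg.Agent.Lib.Helper7.OMMNorm

set_option autoImplicit false
set_option linter.unusedSectionVars false
set_option linter.unusedVariables false
set_option linter.style.haveILetI false
open Cfsg

/-!
Farm OMM (statement S2346), unit CASEC: in the singular multiplicity-one configuration with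
`V^U ≠ 0`, the group `U'` has a nonzero fixed vector in `V^U` (`mP ρ 0 ≠ 0`).  The only remaining
input is the unit LINE (`hline`).
-/

namespace Cfsg.Agent.Lib.Helper2.OMM

open Matrix QuadraticMap Cfsg.Agent.Lib.Helper5.CartanDieudonne Cfsg.Agent.Lib.Helper5.Refl
  Cfsg.Agent.Lib.Helper5.OrthCard Cfsg.Agent.Lib.Helper5.Siegel Cfsg.Agent.Lib.Helper5.QuadIsom
  Cfsg.Agent.Lib.Helper5.ReflGen Cfsg.Agent.Lib.Helper5.Eichler Cfsg.Agent.Lib.Helper5.SingGeom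
  Cfsg.Agent.Lib.Helper5.OmegaGen Cfsg.Agent.Lib.Helper5.OmegaSimple Cfsg.Agent.Lib.Helper1.OMMG
  Cfsg.Agent.Lib.Helper1.OMMI

variable {F : Type*} [Field F] [Fintype F] [DecidableEq F]
  {κ : Type} [Fintype κ] [DecidableEq κ] {Qc : QuadraticForm F (κ → F)}
  (ψ : AddChar F ℂ) (hψ : ∃ c, ψ c ≠ 1) (hnd : (polarBilin Qc).Nondegenerate)
  (H : Hyp (Q3 Qc))
  {V : Type*} [AddCommGroup V] [Module ℂ V] [FiniteDimensional ℂ V]

theorem e2W_ne_zero : (eH F (K1 κ) : K2 κ → F) ≠ 0 := by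
  intro h
  have := congrFun h (Sum.inl 0)
  simp [eH] at this

/-- CASE C -/
theorem caseC (hk : 1 ≤ Fintype.card κ) (ρ : Representation ℂ (GG Qc) V)
    (hL : LevelOne ψ hψ hnd H ρ 0) (h0 : mP ψ hψ hnd H ρ 0 = 0) (hr : mU ψ hψ hnd H ρ 0 ≠ 0)
    (hline : ∀ z, ρ (uP H z) * (DU ψ hψ hnd H).eI ρ (eH F (K1 κ)) =
      (DU ψ hψ hnd H).eI ρ (eH F (K1 κ))) : False := by
  refine caseC_of ψ hψ hnd H ρ hL h0 hr
    (fun z => Cfsg.Agent.Lib.Helper7.OMM.eI0_comm_uP ψ hψ hnd H ρ z)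
    (fun z => Cfsg.Agent.Lib.Helper7.OMM.eIe2_comm_uP ψ hψ hnd H ρ z)
    hline (W0 hnd H) ?_ (fun z => ⟨_, _, uM_uE_conj H z⟩)
  intro w hw hq h
  exact Cfsg.Agent.Lib.Helper1.OMML.eI_mul_eIm_zero_of_level ψ hψ hnd H hk ρ (eH F (K1 κ)) w
    e2W_ne_zero hw (by rw [hq]; exact hypExt_eH _) h

end Cfsg.Agent.Lib.Helper2.OMM
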