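import Mathlib
import Cfsg.Prelude
import Cfsg.Agent.Lib.Helper2.OMMCaseC
import Cfsg.Agent.Lib.Helper1.OMMDich
import Cfsg.Agent.Lib.Helper3.OMMLine
import Cfsg.Agent.Lib.Helper6.OMMCaseA2
import Cfsg.Agent.Lib.Helper6.OMMB4
import Cfsg.Agent.Lib.Helper6.OMMArith
import Cfsg.Agent.Lib.Helper8.OMMRootChar

set_option autoImplicit false
set_option linter.unusedSectionVars false
set_option linter.unusedVariables false
set_option linter.style.haveILetI false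
open Cfsg

/-!
Farm OMM (statement S2346), unit MAINSTEP, generic part: the two multiplicity-one configurations
over an arbitrary core `Qc`, with the counting and the bound for `V^U` as hypotheses.
-/

namespace Cfsg.Agent.Lib.Helper2.OMM

open Matrix QuadraticMap Cfsg.Agent.Lib.Helper5.CartanDieudonne Cfsg.Agent.Lib.Helper5.Refl
  Cfsg.Agent.Lib.Helper5.OrthCard Cfsg.Agent.Lib.Helper5.Siegel Cfsg.Agent.Lib.Helper5.QuadIsom
  Cfsg.Agent.Lib.Helper5.ReflGen Cfsg.Agent.Lib.Helper5.Eichler Cfsg.Agent.Lib.Helper5.SingGeom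
  Cfsg.Agent.Lib.Helper5.OmegaGen Cfsg.Agent.Lib.Helper5.OmegaSimple Cfsg.Agent.Lib.Helper5.OMP
  Cfsg.Agent.Lib.Helper1.OMMG
  Cfsg.Agent.Lib.Helper1.OMMI Cfsg.Agent.Lib.Helper6.OMMArith Cfsg.Agent.Lib.Helper8.OMMRootChar

/-- removing the zero vector from a level set -/
theorem card_ne_zero_level {F : Type*} [Field F] [Fintype F] [DecidableEq F] {ι : Type} [Fintype ι]
    (Q : (ι → F) → F) (hQ0 : Q 0 = 0) (c : F) :
    Nat.card {w : ι → F // w ≠ 0 ∧ Q w = c} + (if c = 0 then 1 else 0) =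
      Nat.card {w : ι → F // Q w = c} := by
  classical
  rw [Nat.card_eq_fintype_card, Nat.card_eq_fintype_card, Fintype.card_subtype,
    Fintype.card_subtype]
  have h1 : (Finset.univ.filter fun w : ι → F => w ≠ 0 ∧ Q w = c) =
      (Finset.univ.filter fun w : ι → F => Q w = c).erase 0 := by
    ext w
    simp only [Finset.mem_filter, Finset.mem_univ, true_and, Finset.mem_erase]
  rw [h1]
  split_ifs with hc
  · rw [Finset.card_erase_of_mem (by simp [hQ0, hc])]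
    have : 0 < (Finset.univ.filter fun w : ι → F => Q w = c).card :=
      Finset.card_pos.mpr ⟨0, by simp [hQ0, hc]⟩
    omega
  · rw [Finset.erase_eq_of_notMem (by simp [hQ0]; exact fun h => hc h.symm), add_zero]

variable {F : Type*} [Field F] [Fintype F] [DecidableEq F]
  {κ : Type} [Fintype κ] [DecidableEq κ] {Qc : QuadraticForm F (κ → F)}
  (ψ : AddChar F ℂ) (hψ : ∃ c, ψ c ≠ 1) (hnd : (polarBilin Qc).Nondegenerate)
  (H : Hyp (Q3 Qc))

/-- the degree in a multiplicity-one configuration -/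
theorem k_eq_of_levelOne {k : ℕ} (ρ : Representation ℂ (GG Qc) (Fin k → ℂ)) (c : F)
    (hL : LevelOne ψ hψ hnd H ρ c) :
    (k : ℂ) = mU ψ hψ hnd H ρ 0 + (Nat.card {w : K2 κ → F // w ≠ 0 ∧ Q2 Qc w = c} : ℂ) := by
  classical
  rw [← Cfsg.Agent.Lib.Helper1.OMMD.sum_mU ψ hψ hnd H ρ,
    ← Finset.add_sum_erase Finset.univ _ (Finset.mem_univ (0 : K2 κ → F))]
  congr 1
  have h1 : ∑ w ∈ Finset.univ.erase (0 : K2 κ → F), mU ψ hψ hnd H ρ w =
      ∑ w : K2 κ → F, (if w ≠ 0 ∧ Q2 Qc w = c then (1 : ℂ) else 0) := by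
    rw [← Finset.add_sum_erase Finset.univ
      (fun w : K2 κ → F => if w ≠ 0 ∧ Q2 Qc w = c then (1 : ℂ) else 0)
      (Finset.mem_univ (0 : K2 κ → F))]
    rw [if_neg (by simp), zero_add]
    refine Finset.sum_congr rfl fun w hw => ?_
    have hw0 : w ≠ 0 := Finset.ne_of_mem_erase hw
    by_cases hq : Q2 Qc w = c
    · rw [hL.1 w hw0 hq, if_pos ⟨hw0, hq⟩]
    · rw [hL.2 w hw0 hq, if_neg (fun h => hq h.2)]
  rw [h1, Finset.sum_boole, Nat.card_eq_fintype_card, Fintype.card_subtype]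

/-- the degree in a multiplicity-one configuration, in `ℕ` -/
theorem k_eq_nat {k : ℕ} (ρ : Representation ℂ (GG Qc) (Fin k → ℂ)) (c : F)
    (hL : LevelOne ψ hψ hnd H ρ c) :
    ∃ r : ℕ, mU ψ hψ hnd H ρ 0 = r ∧
      k = r + Nat.card {w : K2 κ → F // w ≠ 0 ∧ Q2 Qc w = c} := by
  obtain ⟨r, hr⟩ := Cfsg.Agent.Lib.Helper1.OMMD.mU_nat ψ hψ hnd H ρ 0
  refine ⟨r, hr, ?_⟩
  have h := k_eq_of_levelOne ψ hψ hnd H ρ c hL
  rw [hr] at h
  exact_mod_cast h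

/-- `V^U ≠ 0` as soon as some character of `U'` occurs in it -/
theorem mU_zero_ne_zero {V : Type*} [AddCommGroup V] [Module ℂ V] [FiniteDimensional ℂ V]
    (ρ : Representation ℂ (GG Qc) V)
    (hB : ∃ z' : K1 κ → F, z' ≠ 0 ∧ mP ψ hψ hnd H ρ z' ≠ 0) : mU ψ hψ hnd H ρ 0 ≠ 0 := by
  intro h0
  obtain ⟨z', hz', hm⟩ := hB
  apply hm
  have hs := Cfsg.Agent.Lib.Helper7.OMM.sum_mP ψ hψ hnd H ρ
  rw [h0] at hs
  choose m hm' using fun z => Cfsg.Agent.Lib.Helper7.OMM.mP_nat ψ hψ hnd H ρ z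
  simp only [hm'] at hs
  have hs' : ∑ z : K1 κ → F, m z = 0 := by exact_mod_cast hs
  have := (Finset.sum_eq_zero_iff.mp hs') z' (Finset.mem_univ _)
  rw [hm', this, Nat.cast_zero]

/-- the singular multiplicity-one configuration -/
theorem T_sing (hk : 1 ≤ Fintype.card κ) {k : ℕ} (ρ : Representation ℂ (GG Qc) (Fin k → ℂ))
    (hirr : ρ.IsIrreducible) (hL : LevelOne ψ hψ hnd H ρ 0)
    (hpair : ∀ b : κ → F, Qc b = 0 → ∃ z z' : κ → F,
      polar ⇑Qc z b = 0 ∧ polar ⇑Qc z' b = 0 ∧ polar ⇑Qc z z' = 1)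
    (j : ℕ) (hj : 2 ≤ j) (hκ : Fintype.card κ + 3 = 2 * j + 1)
    (hT : Nat.card {x : ↥(isometryGroup F ⇑(Q3 Qc)) //
        x ∈ rootClass (e1 F κ) (e2 F κ) (isTS_e1_e2 (Qc := Qc))} * (Fintype.card F ^ 2 - 1) =
      Ns (Fintype.card F) (j + 1) * Ns (Fintype.card F) j)
    (hN : Nat.card {w : K2 κ → F // w ≠ 0 ∧ Q2 Qc w = 0} = Ns (Fintype.card F) j)
    (hr0 : (∃ z' : K1 κ → F, z' ≠ 0 ∧ mP ψ hψ hnd H ρ z' ≠ 0) → mP ψ hψ hnd H ρ 0 ≠ 0 →
      ∃ r : ℕ, mU ψ hψ hnd H ρ 0 = r ∧ dn (Fintype.card F) (j + 1) ≤ r) :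
    dn (Fintype.card F) (j + 2) ≤ k := by
  have hq : 2 ≤ Fintype.card F := Fintype.one_lt_card
  have hB := Cfsg.Agent.Lib.Helper6.OMMCaseA.exists_mP_ne_zero ψ hψ hnd H ρ 0 hL hpair
  have hr : mU ψ hψ hnd H ρ 0 ≠ 0 := mU_zero_ne_zero ψ hψ hnd H ρ hB
  have hκ' : Nonempty κ := Fintype.card_pos_iff.mp hk
  have h0 : mP ψ hψ hnd H ρ 0 ≠ 0 := fun h0 =>
    caseC ψ hψ hnd H hk ρ hL h0 hr (Cfsg.Agent.Lib.Helper3.OMMLine.uP_line ψ hψ hnd H hκ' ρ hL)
  obtain ⟨r, hr1, hr2⟩ := hr0 hB h0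
  obtain ⟨r', hr1', hkeq⟩ := k_eq_nat ψ hψ hnd H ρ 0 hL
  have hrr : r' = r := by
    have : (r' : ℂ) = r := by rw [← hr1', hr1]
    exact_mod_cast this
  rw [hN, hrr] at hkeq
  have h1 := Ns_case (Fintype.card F) j r hq (by omega) hr2
  have h2 := levelOne_ne ψ hψ hnd H ρ hirr hL j hj hκ hT
  rw [Module.finrank_fin_fun] at h2
  omega

/-- the bound for `V^U` from the constancy of `mP` on the level sets of `W'` -/
theorem r0_ge_of_level {V : Type*} [AddCommGroup V] [Module ℂ V] [FiniteDimensional ℂ V]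
    (ρ : Representation ℂ (GG Qc) V) (hb : ∃ b, Qc b ≠ 0) (N : ℕ)
    (hN : ∀ c : F, N ≤ Nat.card {z : K1 κ → F // z ≠ 0 ∧ Q1 Qc z = c})
    (hB : ∃ z' : K1 κ → F, z' ≠ 0 ∧ mP ψ hψ hnd H ρ z' ≠ 0) (h0 : mP ψ hψ hnd H ρ 0 ≠ 0) :
    ∃ r : ℕ, mU ψ hψ hnd H ρ 0 = r ∧ N + 1 ≤ r := by
  classical
  choose m hm using fun z => Cfsg.Agent.Lib.Helper7.OMM.mP_nat ψ hψ hnd H ρ z
  refine ⟨∑ z : K1 κ → F, m z, ?_, ?_⟩
  · rw [← Cfsg.Agent.Lib.Helper7.OMM.sum_mP ψ hψ hnd H ρ]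
    simp only [hm]
    push_cast
    rfl
  · obtain ⟨z', hz', hmz⟩ := hB
    have h0' : 1 ≤ m 0 := by
      rcases Nat.eq_zero_or_pos (m 0) with h | h
      · exact absurd (by rw [hm, h, Nat.cast_zero]) h0
      · exact h
    have hz1 : 1 ≤ m z' := by
      rcases Nat.eq_zero_or_pos (m z') with h | h
      · exact absurd (by rw [hm, h, Nat.cast_zero]) hmz
      · exact h
    set S : Finset (K1 κ → F) := Finset.univ.filter fun z => z ≠ 0 ∧ Q1 Qc z = Q1 Qc z' with hS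
    have hcard : N ≤ S.card := by
      have := hN (Q1 Qc z')
      rwa [Nat.card_eq_fintype_card, Fintype.card_subtype] at this
    have h0S : (0 : K1 κ → F) ∉ S := by simp [hS]
    have hS1 : ∀ z ∈ S, 1 ≤ m z := by
      intro z hz
      rw [hS, Finset.mem_filter] at hz
      have := Cfsg.Agent.Lib.Helper6.OMMB4.mP_level ψ hψ hnd H ρ hb z z' hz.2.1 hz' hz.2.2
      rw [hm, hm] at this
      have : m z = m z' := by exact_mod_cast this
      omega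
    calc N + 1 ≤ S.card + 1 := by omega
      _ = ∑ z ∈ S, 1 + 1 := by rw [Finset.sum_const, smul_eq_mul, mul_one]
      _ ≤ ∑ z ∈ S, m z + m 0 := Nat.add_le_add (Finset.sum_le_sum hS1) h0'
      _ = ∑ z ∈ insert 0 S, m z := by rw [Finset.sum_insert h0S, add_comm]
      _ ≤ ∑ z : K1 κ → F, m z := Finset.sum_le_sum_of_subset (Finset.subset_univ _)

end Cfsg.Agent.Lib.Helper2.OMM
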