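import Mathlib
import Cfsg.Prelude
import Cfsg.Agent.Lib.Helper2.OMMW0

set_option autoImplicit false
set_option linter.unusedSectionVars false
set_option linter.unusedVariables false
set_option linter.style.haveILetI false
open Cfsg

/-!
Farm OMM (statement S2346), unit NONTRIV: an irreducible representation of degree at least two of
`Ω(V)` contains a nontrivial character of the unipotent radical `U`.
-/

namespace Cfsg.Agent.Lib.Helper2.OMM

open Matrix QuadraticMap Cfsg.Agent.Lib.Helper5.CartanDieudonne Cfsg.Agent.Lib.Helper5.Refl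
  Cfsg.Agent.Lib.Helper5.OrthCard Cfsg.Agent.Lib.Helper5.Siegel Cfsg.Agent.Lib.Helper5.QuadIsom
  Cfsg.Agent.Lib.Helper5.ReflGen Cfsg.Agent.Lib.Helper5.Eichler Cfsg.Agent.Lib.Helper5.SingGeom
  Cfsg.Agent.Lib.Helper5.OmegaGen Cfsg.Agent.Lib.Helper5.OmegaSimple Cfsg.Agent.Lib.Helper1.OMMG
  Cfsg.Agent.Lib.Helper1.OMMI

section generic
variable {G : Type*} [Group G] {V : Type*} [AddCommGroup V] [Module ℂ V] [FiniteDimensional ℂ V]

/-- a trivial representation of degree at least two is not irreducible -/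
theorem not_irreducible_of_trivial' (ρ : Representation ℂ G V) (hρ : ∀ g, ρ g = 1)
    (hdim : 2 ≤ Module.finrank ℂ V) : ¬ ρ.IsIrreducible := by
  intro hirr
  have hpos : 0 < Module.finrank ℂ V := by omega
  obtain ⟨v, hv⟩ := Module.finrank_pos_iff_exists_ne_zero.1 hpos
  let U : Subrepresentation ρ := ⟨Submodule.span ℂ {v}, by
    intro g x hx
    rw [hρ g]
    exact hx⟩
  rcases hirr.eq_bot_or_eq_top U with hU | hU
  · have h1 : U.toSubmodule = ⊥ := by rw [hU]; rfl
    have : v ∈ (⊥ : Submodule ℂ V) := by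
      rw [← h1]
      exact Submodule.mem_span_singleton_self v
    exact hv ((Submodule.mem_bot ℂ).1 this)
  · have h1 : U.toSubmodule = ⊤ := by rw [hU]; rfl
    have h2 : Module.finrank ℂ (Submodule.span ℂ {v}) = 1 := finrank_span_singleton hv
    have h3 : Module.finrank ℂ (Submodule.span ℂ {v}) = Module.finrank ℂ V := by
      rw [show Submodule.span ℂ {v} = ⊤ from h1, finrank_top]
    omega

end generic

variable {F : Type*} [Field F] [Fintype F] [DecidableEq F]
  {κ : Type} [Fintype κ] [DecidableEq κ] {Qc : QuadraticForm F (κ → F)}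
  (ψ : AddChar F ℂ) (hψ : ∃ c, ψ c ≠ 1) (hnd : (polarBilin Qc).Nondegenerate)
  (H : Hyp (Q3 Qc))

/-- the action of `uM x` on `e₁` -/
theorem uM_act_e1' (x : K2 κ → F) :
    act (Q3 Qc) (uM H x).1 (e1 F κ) = e1 F κ + ext0 x + (-(Q2 Qc x)) • f1 F κ := by
  rw [uM_coe, act_eich, eichlerMap_apply, polar_f1_e1, polar_comm,
    Cfsg.Agent.Lib.Helper1.OMMI.polar_eH_ext0]
  have : Q3 Qc (ext0 x) = Q2 Qc x := hypExt_ext0 _ x
  rw [this, one_smul, zero_add, mul_one]

theorem uE_act_e1 (x : K2 κ → F) : act (Q3 Qc) (uE H x).1 (e1 F κ) = e1 F κ := by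
  rw [uE_coe]
  exact act_eich_self _ _ _ _

include hnd in
/-- `uE a`, `a ≠ 0`, is not central -/
theorem uE_not_central (a : K2 κ → F) (ha : a ≠ 0) :
    uE H a ∉ Subgroup.center (GG Qc) := by
  intro hc
  have h1 := w0_conj_uE hnd H a
  have h2 : w0 hnd H * uE H a * (w0 hnd H)⁻¹ = uE H a := by
    rw [(Subgroup.mem_center_iff.mp hc (w0 hnd H)), mul_assoc, mul_inv_cancel, mul_one]
  rw [h2] at h1
  have h3 := uM_act_e1' H (sig2 (Qc := Qc) a)
  rw [← h1, uE_act_e1] at h3
  -- compare the `W`-components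
  have h4 : sig2 (Qc := Qc) a = 0 := by
    funext t
    have := congrFun h3 (Sum.inr t)
    simp [eH, fH, ext0] at this
    exact this.symm
  have h5 : sig2 (Qc := Qc) (0 : K2 κ → F) = 0 := Matrix.mulVec_zero _
  exact ha ((sig2 (Qc := Qc)).injective (h4.trans h5.symm))

/-- unit NONTRIV -/
theorem exists_mU_ne_zero {k : ℕ} (ρ : Representation ℂ (GG Qc) (Fin k → ℂ))
    (hρ : ρ.IsIrreducible) (hk : 2 ≤ k) :
    ∃ w : K2 κ → F, w ≠ 0 ∧ mU ψ hψ hnd H ρ w ≠ 0 := by
  by_contra hcon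
  push Not at hcon
  have hker : ∀ a : K2 κ → F, ρ (uE H a) = 1 :=
    fun a => rho_uE_eq_one ψ hψ (nd2 Qc hnd) H ρ hcon a
  have hmem : uE H (eH F (K1 κ)) ∈ MonoidHom.ker ρ := MonoidHom.mem_ker.2 (hker _)
  have hne : (eH F (K1 κ) : K2 κ → F) ≠ 0 := by
    intro h
    have := congrFun h (Sum.inl 0)
    simp [eH] at this
  have htop : MonoidHom.ker ρ = ⊤ := by
    rcases normal_le_center_or_eq_top H (MonoidHom.ker ρ) with h | h
    · exact absurd (h hmem) (uE_not_central hnd H _ hne)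
    · exact h
  have htriv : ∀ g, ρ g = 1 := by
    intro g
    have : g ∈ MonoidHom.ker ρ := by rw [htop]; trivial
    exact MonoidHom.mem_ker.1 this
  exact not_irreducible_of_trivial' ρ htriv (by simpa using hk) hρ

end Cfsg.Agent.Lib.Helper2.OMM
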