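import Mathlib
import Cfsg.Prelude
import Cfsg.Agent.Lib.Helper2.OMMMain0
import Cfsg.Agent.Lib.Helper2.OMMNontriv
import Cfsg.Agent.Lib.Helper5.OMMTower
import Cfsg.Agent.Lib.Helper6.OMMTCountT
import Cfsg.Agent.Lib.Helper6.OMMLevel
import Cfsg.Agent.Lib.Helper1.OMMFinal0

set_option autoImplicit false
set_option linter.unusedSectionVars false
set_option linter.unusedVariables false
set_option linter.style.haveILetI false
open Cfsg

/-!
Farm OMM (statement S2346), unit MAINSTEP: the main step for the tower over the core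
`genForm (binForm a b) i`, with the bound for `V^U` in the case `i ≥ 1` (unit B5) as a hypothesis.
-/

namespace Cfsg.Agent.Lib.Helper2.OMM

open Matrix QuadraticMap Cfsg.Agent.Lib.Helper5.CartanDieudonne Cfsg.Agent.Lib.Helper5.Refl
  Cfsg.Agent.Lib.Helper5.OrthCard Cfsg.Agent.Lib.Helper5.Siegel Cfsg.Agent.Lib.Helper5.QuadIsom
  Cfsg.Agent.Lib.Helper5.ReflGen Cfsg.Agent.Lib.Helper5.Eichler Cfsg.Agent.Lib.Helper5.SingGeom
  Cfsg.Agent.Lib.Helper5.OmegaGen Cfsg.Agent.Lib.Helper5.OmegaSimple Cfsg.Agent.Lib.Helper5.OMP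
  Cfsg.Agent.Lib.Helper5.OrthPlane Cfsg.Agent.Lib.Helper5.OMMTower
  Cfsg.Agent.Lib.Helper1.OMMG Cfsg.Agent.Lib.Helper1.OMMI Cfsg.Agent.Lib.Helper6.OMMArith
  Cfsg.Agent.Lib.Helper8.OMMRootChar Cfsg.Agent.Lib.Helper6.OMMCount
  Cfsg.Agent.Lib.Helper6.OMMTCount

variable {F : Type*} [Field F] [Fintype F] [DecidableEq F]

/-- level sets and reindexing -/
theorem card_level_reindex {ι ι' : Type} (σ : ι ≃ ι') (Q : (ι → F) → F) (Q' : (ι' → F) → F)
    (h : ∀ v : ι' → F, Q' v = Q (v ∘ σ)) (c : F) :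
    Nat.card {v : ι → F // Q v = c} = Nat.card {v : ι' → F // Q' v = c} := by
  apply Nat.card_congr
  exact
    { toFun := fun v => ⟨v.1 ∘ σ.symm, by
        rw [h]
        have : (v.1 ∘ σ.symm) ∘ σ = v.1 := by ext i; simp
        rw [this]; exact v.2⟩
      invFun := fun v => ⟨v.1 ∘ σ, by rw [← h]; exact v.2⟩
      left_inv := fun v => by apply Subtype.ext; ext i; simp
      right_inv := fun v => by apply Subtype.ext; ext i; simp }

/-- the sizes of the level sets without the zero vector, after reindexing -/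
theorem card_nz_of_reindex {ι ι' : Type} [Fintype ι'] (σ : ι ≃ ι') (Q : QuadraticForm F (ι → F))
    (Q' : QuadraticForm F (ι' → F)) (h : ∀ v : ι' → F, Q' v = Q (v ∘ σ)) (c : F) (N : ℕ)
    (hN : Nat.card {v : ι → F // Q v = c} = N + if c = 0 then 1 else 0) :
    Nat.card {w : ι' → F // w ≠ 0 ∧ Q' w = c} = N := by
  have h1 := card_ne_zero_level (⇑Q') (map_zero Q') c
  rw [← card_level_reindex σ (⇑Q) (⇑Q') h c, hN] at h1
  omega

variable (a b : F)

/-- the sizes of the level sets of the minus type form -/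
theorem card_level_genForm (han : ∀ v : Fin 2 → F, binForm a b v = 0 → v = 0) (j : ℕ) (c : F) :
    Nat.card {w : (Fin j ⊕ Fin j) ⊕ Fin 2 → F // genForm (binForm a b) j w = c} =
      (if c = 0 then Ns (Fintype.card F) j else Nc (Fintype.card F) j) +
        if c = 0 then 1 else 0 := by
  have hq : 1 ≤ Fintype.card F := Fintype.card_pos
  split_ifs with hc
  · subst hc
    have h1 := card_zeros_minus a b han j
    have h2 := Ns_eq (Fintype.card F) j hq
    omega
  · rw [card_level_minus a b han j c hc, add_zero]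
    rfl

/-- the level sets of `W` -/
theorem card_level_Q2 (han : ∀ v : Fin 2 → F, binForm a b v = 0 → v = 0) (i : ℕ) (c : F) :
    Nat.card {w : K2 ((Fin i ⊕ Fin i) ⊕ Fin 2) → F //
        w ≠ 0 ∧ Q2 (genForm (binForm a b) i) w = c} =
      if c = 0 then Ns (Fintype.card F) (i + 2) else Nc (Fintype.card F) (i + 2) :=
  card_nz_of_reindex (t2 i (Fin 2)) (genForm (binForm a b) (i + 2))
    (Q2 (genForm (binForm a b) i)) (form2 (binForm a b) i) c _
    (card_level_genForm a b han (i + 2) c)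

/-- the level sets of `W'` -/
theorem card_level_Q1 (han : ∀ v : Fin 2 → F, binForm a b v = 0 → v = 0) (i : ℕ) (c : F) :
    Nat.card {w : K1 ((Fin i ⊕ Fin i) ⊕ Fin 2) → F //
        w ≠ 0 ∧ Q1 (genForm (binForm a b) i) w = c} =
      if c = 0 then Ns (Fintype.card F) (i + 1) else Nc (Fintype.card F) (i + 1) :=
  card_nz_of_reindex (t1 i (Fin 2)) (genForm (binForm a b) (i + 1))
    (Q1 (genForm (binForm a b) i)) (form1 (binForm a b) i) c _
    (card_level_genForm a b han (i + 1) c)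

/-- the core has a non-singular vector -/
theorem exists_nonsing (i : ℕ) :
    ∃ v : (Fin i ⊕ Fin i) ⊕ Fin 2 → F, genForm (binForm a b) i v ≠ 0 := by
  refine ⟨Sum.elim 0 ![1, 0], ?_⟩
  rw [genForm_apply, binForm_apply]
  simp

/-- the core with `i = 0` is anisotropic -/
theorem genForm_zero_aniso (han : ∀ v : Fin 2 → F, binForm a b v = 0 → v = 0)
    (v : (Fin 0 ⊕ Fin 0) ⊕ Fin 2 → F) (hv : genForm (binForm a b) 0 v = 0) : v = 0 := by
  rw [genForm_zero] at hv
  have h := han _ hv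
  funext x
  rcases x with (x | x) | x
  · exact x.elim0
  · exact x.elim0
  · exact congrFun h x

theorem dn_three' (q : ℕ) (hq : 2 ≤ q) : dn q 3 = Ns q 1 + 1 := by
  have h := dn_succ q 1 hq le_rfl
  have h0 : dn q 2 = 0 := by unfold dn; rw [Dn_two]; simp
  have e : (1 : ℕ) + 2 = 3 := rfl
  have e' : (1 : ℕ) + 1 = 2 := rfl
  rw [e, e', h0] at h
  omega

theorem dn_four_le (q : ℕ) (hq : 2 ≤ q) : dn q 4 ≤ Nc q 2 := by
  have h := dn_succ q 2 hq (by omega)
  have e : (2 : ℕ) + 2 = 4 := rfl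
  have e' : (2 : ℕ) + 1 = 3 := rfl
  rw [e, e', dn_three q hq] at h
  rw [h, Nc_eq q 2 (by omega), e']
  obtain ⟨p, rfl⟩ : ∃ p, q = p + 1 := ⟨q - 1, by omega⟩
  have : ((p + 1) ^ 2 + 1) * (p + 1 - 1) + 1 ≤ (p + 1) ^ 3 := by
    rw [Nat.add_sub_cancel]
    nlinarith [sq_nonneg p]
  omega

/-- **MAINSTEP** -/
theorem main_step
    (hab : ∀ z₁ z₂ : F, z₁ ^ 2 + a * z₁ * z₂ + b * z₂ ^ 2 = 0 → z₁ = 0 ∧ z₂ = 0) (i : ℕ)
    (hB5 : 1 ≤ i → ∀ (ψ : AddChar F ℂ) (hψ : ∃ c, ψ c ≠ 1)
      (hnd : (polarBilin (genForm (binForm a b) i)).Nondegenerate)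
      (H : Hyp (Q3 (genForm (binForm a b) i))) (k : ℕ)
      (ρ : Representation ℂ (GG (genForm (binForm a b) i)) (Fin k → ℂ)),
      (∃ z' : K1 ((Fin i ⊕ Fin i) ⊕ Fin 2) → F, z' ≠ 0 ∧ mP ψ hψ hnd H ρ z' ≠ 0) →
      ∃ r : ℕ, mU ψ hψ hnd H ρ 0 = r ∧ dn (Fintype.card F) (i + 3) ≤ r)
    (k : ℕ) (ρ : Representation ℂ (GG (genForm (binForm a b) i)) (Fin k → ℂ))
    (hirr : ρ.IsIrreducible) (h2 : 2 ≤ k) : dn (Fintype.card F) (i + 4) ≤ k := by
  have han := Cfsg.Agent.Lib.Helper1.OMMF.han_of_hab a b hab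
  obtain ⟨ψ, hψ1⟩ := AddChar.exists_apply_ne_zero.mpr (one_ne_zero : (1 : F) ≠ 0)
  have hψ : ∃ c, ψ c ≠ 1 := ⟨1, hψ1⟩
  have hnd : (polarBilin (genForm (binForm a b) i)).Nondegenerate :=
    genForm_nondegenerate (binForm a b) (binForm_nondegenerate a b han) i
  have H : Hyp (Q3 (genForm (binForm a b) i)) := hyp_Q3_genForm a b hab i
  have hk : 1 ≤ Fintype.card ((Fin i ⊕ Fin i) ⊕ Fin 2) := by simp
  have hκ : Fintype.card ((Fin i ⊕ Fin i) ⊕ Fin 2) + 3 = 2 * (i + 2) + 1 := by
    simp only [Fintype.card_sum, Fintype.card_fin]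
    omega
  have hq : 2 ≤ Fintype.card F := Fintype.one_lt_card
  have hnt := exists_mU_ne_zero ψ hψ hnd H ρ hirr h2
  have hc2 := card_level_Q2 a b han i
  have hN0 : Ns (Fintype.card F) (i + 2) ≤ Nat.card {w : K2 ((Fin i ⊕ Fin i) ⊕ Fin 2) → F //
      w ≠ 0 ∧ Q2 (genForm (binForm a b) i) w = 0} := by
    rw [hc2 0, if_pos rfl]
  have hNc : ∀ c : F, c ≠ 0 → Ns (Fintype.card F) (i + 2) ≤
      Nat.card {w : K2 ((Fin i ⊕ Fin i) ⊕ Fin 2) → F // Q2 (genForm (binForm a b) i) w = c} := by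
    intro c hc
    have h1 := card_ne_zero_level (⇑(Q2 (genForm (binForm a b) i))) (map_zero _) c
    rw [hc2 c, if_neg hc, if_neg hc, add_zero] at h1
    rw [← h1]
    exact Ns_le_Nc _ _ (by omega)
  rcases Cfsg.Agent.Lib.Helper1.OMMD.dich ψ hψ hnd H hk ρ (Ns (Fintype.card F) (i + 2))
    (dn (Fintype.card F) (i + 4)) hN0 hNc (two_Ns_ge (Fintype.card F) (i + 2) hq (by omega))
    hnt with h | ⟨c, hL⟩
  · exact h
  · by_cases hc : c = 0
    · subst hc
      refine T_sing ψ hψ hnd H hk ρ hirr hL ?_ (i + 2) (by omega) hκ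
        (card_rootClass_tower a b han i _ _ _) (by rw [hc2 0, if_pos rfl]) ?_
      · -- the pairs
        intro v hv
        rcases Nat.eq_zero_or_pos i with hi | hi
        · subst hi
          rw [genForm_zero_aniso a b han v hv]
          exact pair_zero a b hab 0
        · exact pair_genForm a b hab i hi v
      · -- the bound for `V^U`
        intro hB h0
        rcases Nat.eq_zero_or_pos i with hi | hi
        · subst hi
          have hc1 := card_level_Q1 a b han 0
          obtain ⟨r, hr1, hr2⟩ := r0_ge_of_level ψ hψ hnd H ρ (exists_nonsing a b 0)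
            (Ns (Fintype.card F) 1) (fun c => by
              rw [hc1 c]
              split_ifs
              · exact le_rfl
              · exact Ns_le_Nc _ _ (by omega)) hB h0
          refine ⟨r, hr1, ?_⟩
          show dn (Fintype.card F) 3 ≤ r
          rw [dn_three' _ hq]
          exact hr2
        · exact hB5 hi ψ hψ hnd H k ρ hB
    · -- the non-singular configuration
      obtain ⟨r, hr1, hkeq⟩ := k_eq_nat ψ hψ hnd H ρ c hL
      rw [hc2 c, if_neg hc] at hkeq
      rcases Nat.eq_zero_or_pos i with hi | hi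
      · subst hi
        have := dn_four_le (Fintype.card F) hq
        show dn (Fintype.card F) 4 ≤ k
        have e : (0 : ℕ) + 2 = 2 := rfl
        rw [e] at hkeq
        omega
      · have hB := Cfsg.Agent.Lib.Helper6.OMMCaseA.exists_mP_ne_zero ψ hψ hnd H ρ c hL
          (fun v _ => pair_genForm a b hab i hi v)
        obtain ⟨r', hr1', hr2'⟩ := hB5 hi ψ hψ hnd H k ρ hB
        have hrr : r' = r := by
          have : (r' : ℂ) = r := by rw [← hr1', hr1]
          exact_mod_cast this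
        have := Nc_case (Fintype.card F) (i + 2) r hq (by omega) (by
          show dn (Fintype.card F) (i + 3) ≤ r + 1
          omega)
        rw [hkeq]
        exact this

end Cfsg.Agent.Lib.Helper2.OMM
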