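import Mathlib
import Cfsg.Prelude
import Cfsg.Agent.Lib.Helper2.OMMMain

set_option autoImplicit false
set_option linter.unusedSectionVars false
set_option linter.unusedVariables false
set_option linter.style.haveILetI false
open Cfsg

/-!
Farm OMM (statement S2346): the induction step for the Witt index, from MAINSTEP and the unit B5
(taken as a hypothesis here), transported along the tower isomorphisms.
-/

namespace Cfsg.Agent.Lib.Helper2.OMM

open Matrix QuadraticMap Cfsg.Agent.Lib.Helper5.OrthCard Cfsg.Agent.Lib.Helper5.OmegaSimple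
  Cfsg.Agent.Lib.Helper5.OrthPlane Cfsg.Agent.Lib.Helper5.OMMTower
  Cfsg.Agent.Lib.Helper1.OMMG Cfsg.Agent.Lib.Helper1.OMMI Cfsg.Agent.Lib.Helper6.OMMArith
  Cfsg.Agent.Lib.Helper1.OMMF

variable {F : Type*} [Field F] [Fintype F] [DecidableEq F] (a b : F)

/-- the induction step -/
theorem hstep_of
    (hab : ∀ z₁ z₂ : F, z₁ ^ 2 + a * z₁ * z₂ + b * z₂ ^ 2 = 0 → z₁ = 0 ∧ z₂ = 0) (i : ℕ)
    (B5 : 1 ≤ i → ∀ (ψ : AddChar F ℂ) (hψ : ∃ c, ψ c ≠ 1)
      (hnd : (polarBilin (genForm (binForm a b) i)).Nondegenerate)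
      (H : Hyp (Q3 (genForm (binForm a b) i))) (k : ℕ)
      (ρ : Representation ℂ (GG (genForm (binForm a b) i)) (Fin k → ℂ)) (D : ℕ)
      (IH : ∀ (k' : ℕ) (σ : Representation ℂ ↥(Omega F ⇑(Q2 (genForm (binForm a b) i)))
        (Fin k' → ℂ)), σ.IsIrreducible → 2 ≤ k' → D ≤ k'),
      (∃ z' : K1 ((Fin i ⊕ Fin i) ⊕ Fin 2) → F, z' ≠ 0 ∧ mP ψ hψ hnd H ρ z' ≠ 0) →
      ∃ r : ℕ, mU ψ hψ hnd H ρ 0 = r ∧ D ≤ r)
    (IH : 1 ≤ i → P a b (i + 2)) : P a b (i + 3) := by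
  refine minDeg_transport (omegaTower3 (binForm a b) i) _ ?_
  intro k ρ hirr h2
  refine main_step a b hab i ?_ k ρ hirr h2
  intro hi ψ hψ hnd H k ρ hB
  exact B5 hi ψ hψ hnd H k ρ (dn (Fintype.card F) (i + 3))
    (minDeg_transport (omegaTower2 (binForm a b) i).symm _ (IH hi)) hB

end Cfsg.Agent.Lib.Helper2.OMM
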