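import Mathlib

set_option autoImplicit false
set_option linter.unusedSectionVars false
set_option linter.unusedVariables false
set_option linter.unusedSimpArgs false
set_option linter.style.haveILetI false

/-!
Farm OMP (statement S2345), sub-unit I3a, part 1: counting in a finite quadratic space.
For a singular vector `a ≠ 0` of a nondegenerate quadratic form on a finite vector space `V`:
the number of singular `b` with `polar a b = c ≠ 0` is `|V| / q²`.
-/

namespace Cfsg.Agent.Lib.Helper2.OMP

open QuadraticMap

variable {F V : Type*} [Field F] [Fintype F] [AddCommGroup V] [Module F V] [Fintype V]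

open Classical in
/-- the fibres of a nonzero functional `polar a ·` all have `|V| / q` elements -/
theorem card_polar_fiber (Q : QuadraticForm F V) (a : V) (ha : ∃ b, polar Q a b ≠ 0) (c : F) :
    Fintype.card F * (Finset.univ.filter (fun b : V => polar Q a b = c)).card =
      Fintype.card V := by
  let φ : V →+ F :=
    { toFun := fun b => polar Q a b
      map_zero' := polar_zero_right Q a
      map_add' := fun x y => polar_add_right Q a x y }
  have hsurj : ∀ c' : F, c' ∈ Set.range φ := by
    intro c'
    obtain ⟨b, hb⟩ := ha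
    refine ⟨(c' / polar Q a b) • b, ?_⟩
    show polar Q a ((c' / polar Q a b) • b) = c'
    rw [polar_smul_right, smul_eq_mul, div_mul_cancel₀ _ hb]
  have heq : ∀ c' : F, (Finset.univ.filter (fun b : V => polar Q a b = c')).card =
      (Finset.univ.filter (fun b : V => polar Q a b = c)).card := by
    intro c'
    exact AddMonoidHom.card_fiber_eq_of_mem_range φ (hsurj c') (hsurj c)
  have hpart := Finset.card_eq_sum_card_fiberwise (s := (Finset.univ : Finset V))
    (t := (Finset.univ : Finset F)) (f := fun b => polar Q a b) (fun _ _ => Finset.mem_univ _)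
  rw [Finset.card_univ] at hpart
  rw [hpart, Finset.sum_congr rfl (fun c' _ => heq c'), Finset.sum_const, Finset.card_univ,
    smul_eq_mul]

theorem quad_add_smul (Q : QuadraticForm F V) (a b : V) (hQa : Q a = 0) (l : F) :
    Q (b + l • a) = Q b + l * polar Q a b := by
  rw [QuadraticMap.map_add (⇑Q) b (l • a), QuadraticMap.map_smul, hQa, smul_zero, add_zero, polar_smul_right,
    smul_eq_mul, polar_comm]

theorem polar_add_smul (Q : QuadraticForm F V) (a b : V) (hQa : Q a = 0) (l : F) :
    polar Q a (b + l • a) = polar Q a b := by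
  rw [polar_add_right, polar_smul_right, polar_self, hQa, smul_zero, smul_zero, add_zero]

open Classical in
/-- for a singular `a` and `c ≠ 0`: `(b, l) ↦ b + l a` is a bijection from the singular `b` with
`polar a b = c`, times `F`, onto all `b` with `polar a b = c` -/
theorem card_polar_fiber_sing (Q : QuadraticForm F V) (a : V) (hQa : Q a = 0) (c : F) (hc : c ≠ 0) :
    (Finset.univ.filter (fun b : V => Q b = 0 ∧ polar Q a b = c)).card * Fintype.card F =
      (Finset.univ.filter (fun b : V => polar Q a b = c)).card := by
  rw [← Finset.card_univ (α := F), ← Finset.card_product]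
  apply Finset.card_nbij' (fun p : V × F => p.1 + p.2 • a)
    (fun b : V => (b - (Q b / c) • a, Q b / c))
  · rintro ⟨b, l⟩ hp
    rw [Finset.coe_product, Set.mem_prod] at hp
    have hb := hp.1
    rw [Finset.mem_coe, Finset.mem_filter] at hb
    rw [Finset.mem_coe, Finset.mem_filter]
    refine ⟨Finset.mem_univ _, ?_⟩
    show polar Q a (b + l • a) = c
    rw [polar_add_smul Q a b hQa, hb.2.2]
  · intro b hb
    rw [Finset.mem_coe, Finset.mem_filter] at hb
    rw [Finset.coe_product, Set.mem_prod]
    refine ⟨?_, Finset.mem_coe.mpr (Finset.mem_univ _)⟩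
    rw [Finset.mem_coe, Finset.mem_filter]
    refine ⟨Finset.mem_univ _, ?_, ?_⟩
    · show Q (b - (Q b / c) • a) = 0
      rw [sub_eq_add_neg, ← neg_smul, quad_add_smul Q a b hQa, hb.2]
      field_simp
      ring
    · show polar Q a (b - (Q b / c) • a) = c
      rw [sub_eq_add_neg, ← neg_smul, polar_add_smul Q a b hQa, hb.2]
  · rintro ⟨b, l⟩ hp
    rw [Finset.coe_product, Set.mem_prod] at hp
    have hb := hp.1
    rw [Finset.mem_coe, Finset.mem_filter] at hb
    have h1 : Q (b + l • a) / c = l := by
      rw [quad_add_smul Q a b hQa, hb.2.1, hb.2.2, zero_add, mul_div_assoc, div_self hc, mul_one]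
    show ((b + l • a) - (Q (b + l • a) / c) • a, Q (b + l • a) / c) = (b, l)
    rw [h1, add_sub_cancel_right]
  · intro b hb
    show (b - (Q b / c) • a) + (Q b / c) • a = b
    rw [sub_add_cancel]

open Classical in
/-- the number of singular vectors perpendicular to a singular vector `a ≠ 0`:
`|Z| = S(a) + (q - 1) M` where `|V| = q² M` -/
theorem card_sing_perp (Q : QuadraticForm F V) (hnd : ∀ a : V, a ≠ 0 → ∃ b, polar Q a b ≠ 0)
    (M : ℕ) (hM : Fintype.card V = Fintype.card F * (Fintype.card F * M))
    (a : V) (ha : a ≠ 0) (hQa : Q a = 0) :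
    (Finset.univ.filter (fun b : V => Q b = 0)).card =
      (Finset.univ.filter (fun b : V => Q b = 0 ∧ polar Q a b = 0)).card +
        (Fintype.card F - 1) * M := by
  have hq : 0 < Fintype.card F := Fintype.card_pos
  have h1 := Finset.card_eq_sum_card_fiberwise
    (s := (Finset.univ : Finset V).filter (fun b => Q b = 0))
    (t := (Finset.univ : Finset F)) (f := fun b => polar Q a b) (fun _ _ => Finset.mem_univ _)
  rw [h1, ← Finset.add_sum_erase _ _ (Finset.mem_univ (0 : F))]
  congr 1
  · rw [Finset.filter_filter]
  · have h2 : ∀ c ∈ (Finset.univ : Finset F).erase 0,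
        (((Finset.univ : Finset V).filter (fun b => Q b = 0)).filter
          (fun b => polar Q a b = c)).card = M := by
      intro c hc
      rw [Finset.filter_filter]
      have e1 := card_polar_fiber_sing Q a hQa c (Finset.ne_of_mem_erase hc)
      have e2 := card_polar_fiber Q a (hnd a ha) c
      rw [← e1, hM] at e2
      have e3 : Fintype.card F * (Fintype.card F *
          (Finset.univ.filter (fun b : V => Q b = 0 ∧ polar Q a b = c)).card) =
          Fintype.card F * (Fintype.card F * M) := by
        rw [← e2]; ring
      exact Nat.eq_of_mul_eq_mul_left hq (Nat.eq_of_mul_eq_mul_left hq e3)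
    rw [Finset.sum_congr rfl h2, Finset.sum_const, Finset.card_erase_of_mem (Finset.mem_univ _),
      Finset.card_univ, smul_eq_mul]

/-- independence of a pair whose first member is nonzero -/
theorem indep_iff (a b : V) (ha : a ≠ 0) :
    (∀ s t : F, s • a + t • b = 0 → s = 0 ∧ t = 0) ↔ ∀ l : F, b ≠ l • a := by
  constructor
  · intro h l hb
    have h1 := h (-l) 1 (by rw [hb, one_smul, neg_smul, neg_add_cancel])
    exact one_ne_zero h1.2
  · intro h s t hst
    have ht : t = 0 := by
      by_contra ht
      apply h (-(s / t))
      have h2 : t • b = -(s • a) := eq_neg_of_add_eq_zero_right hst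
      have h3 : b = t⁻¹ • (t • b) := by rw [smul_smul, inv_mul_cancel₀ ht, one_smul]
      rw [h3, h2, smul_neg, smul_smul, neg_smul]
      congr 2
      field_simp
    subst ht
    rw [zero_smul, add_zero] at hst
    rcases smul_eq_zero.mp hst with h1 | h1
    · exact ⟨h1, rfl⟩
    · exact absurd h1 ha

open Classical in
/-- the singular `b` perpendicular to `a` and independent of `a`: all but the `q` multiples of `a` -/
theorem card_sing_perp_indep (Q : QuadraticForm F V) (a : V) (ha : a ≠ 0) (hQa : Q a = 0) :
    (Finset.univ.filter (fun b : V => Q b = 0 ∧ polar Q a b = 0 ∧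
        ∀ s t : F, s • a + t • b = 0 → s = 0 ∧ t = 0)).card + Fintype.card F =
      (Finset.univ.filter (fun b : V => Q b = 0 ∧ polar Q a b = 0)).card := by
  have himg : ((Finset.univ : Finset F).image (fun l => l • a)).card = Fintype.card F := by
    rw [Finset.card_image_of_injective, Finset.card_univ]
    intro l l' h
    have h' : l • a = l' • a := h
    have h1 : (l - l') • a = 0 := by rw [sub_smul, h', sub_self]
    rcases smul_eq_zero.mp h1 with h2 | h2
    · exact sub_eq_zero.mp h2
    · exact absurd h2 ha
  have hdisj : Disjoint (Finset.univ.filter (fun b : V => Q b = 0 ∧ polar Q a b = 0 ∧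
        ∀ s t : F, s • a + t • b = 0 → s = 0 ∧ t = 0))
      ((Finset.univ : Finset F).image (fun l => l • a)) := by
    rw [Finset.disjoint_left]
    intro b hb hb'
    rw [Finset.mem_filter] at hb
    rw [Finset.mem_image] at hb'
    obtain ⟨l, _, hl⟩ := hb'
    exact (indep_iff a b ha).mp hb.2.2.2 l hl.symm
  rw [← himg, ← Finset.card_union_of_disjoint hdisj]
  congr 1
  ext b
  rw [Finset.mem_union, Finset.mem_filter, Finset.mem_filter, Finset.mem_image]
  constructor
  · rintro (⟨_, h1, h2, _⟩ | ⟨l, _, rfl⟩)
    · exact ⟨Finset.mem_univ _, h1, h2⟩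
    · refine ⟨Finset.mem_univ _, ?_, ?_⟩
      · rw [QuadraticMap.map_smul, hQa, smul_zero]
      · rw [polar_smul_right, polar_self, hQa, smul_zero, smul_zero]
  · rintro ⟨_, h1, h2⟩
    by_cases hind : ∀ l : F, b ≠ l • a
    · left
      exact ⟨Finset.mem_univ _, h1, h2, (indep_iff a b ha).mpr hind⟩
    · right
      push Not at hind
      obtain ⟨l, hl⟩ := hind
      exact ⟨l, Finset.mem_univ _, hl.symm⟩

/-- `Finset.card` of a filter as `Nat.card` of the subtype (for any decidability instance) -/
theorem card_filter_eq_natCard {α : Type*} [Fintype α] (P : α → Prop) [DecidablePred P] :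
    (Finset.univ.filter P).card = Nat.card {b : α // P b} := by
  rw [Nat.card_eq_fintype_card, Fintype.card_subtype]

theorem card_sing_perp_nat (Q : QuadraticForm F V) (hnd : ∀ a : V, a ≠ 0 → ∃ b, polar Q a b ≠ 0)
    (M : ℕ) (hM : Fintype.card V = Fintype.card F * (Fintype.card F * M))
    (a : V) (ha : a ≠ 0) (hQa : Q a = 0) :
    Nat.card {b : V // Q b = 0} =
      Nat.card {b : V // Q b = 0 ∧ polar Q a b = 0} + (Fintype.card F - 1) * M := by
  classical
  rw [← card_filter_eq_natCard, ← card_filter_eq_natCard]
  exact card_sing_perp Q hnd M hM a ha hQa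

theorem card_sing_perp_indep_nat (Q : QuadraticForm F V) (a : V) (ha : a ≠ 0) (hQa : Q a = 0) :
    Nat.card {b : V // Q b = 0 ∧ polar Q a b = 0 ∧
        ∀ s t : F, s • a + t • b = 0 → s = 0 ∧ t = 0} + Fintype.card F =
      Nat.card {b : V // Q b = 0 ∧ polar Q a b = 0} := by
  classical
  rw [← card_filter_eq_natCard, ← card_filter_eq_natCard]
  exact card_sing_perp_indep Q a ha hQa

end Cfsg.Agent.Lib.Helper2.OMP
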