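import Mathlib
import Cfsg.Prelude
import Cfsg.Agent.S0289
import Cfsg.Agent.Lib.Helper5.QuadStd
import Cfsg.Agent.Lib.Helper5.PlusGeom
import Cfsg.Agent.Lib.Helper5.OMPI3Defs
import Cfsg.Agent.Lib.Helper2.OMPI3a1

set_option autoImplicit false
set_option linter.unusedSectionVars false
set_option linter.unusedVariables false
set_option linter.unusedSimpArgs false
set_option linter.style.haveILetI false

/-!
Farm OMP (statement S2345), sub-unit I3a: the number of totally singular, linearly independent ordered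
pairs of the plus form on `F^(2n)`, `n = j + 2`:
`(q^n - 1)(q^(n-1) + 1) · q (q^(n-1) - 1)(q^(n-2) + 1)`.
-/

namespace Cfsg.Agent.Lib.Helper2.OMP

open QuadraticMap Cfsg Cfsg.Agent.Lib.Helper5 Cfsg.Agent.Lib.Helper5.OMP

variable {F : Type*} [Field F] [Fintype F]

theorem plus_polar_ne_zero (n : ℕ) (a : Fin n ⊕ Fin n → F) (ha : a ≠ 0) :
    ∃ b, polar (plusForm n F) a b ≠ 0 := by
  obtain ⟨k, hk⟩ : ∃ k, a k ≠ 0 := by
    by_contra hcon
    push Not at hcon
    exact ha (funext hcon)
  rcases k with i | i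
  · exact ⟨Pi.single (Sum.inr i) 1, by rw [PlusGeom.polar_single_inr]; exact hk⟩
  · exact ⟨Pi.single (Sum.inl i) 1, by rw [PlusGeom.polar_single_inl]; exact hk⟩

/-- the number of singular vectors (from `S0289`) -/
theorem card_plus_zeros (j : ℕ) :
    (Nat.card {b : Fin (j + 2) ⊕ Fin (j + 2) → F // plusForm (j + 2) F b = 0} : ℤ) =
      (Fintype.card F : ℤ) ^ (2 * j + 3) + (Fintype.card F : ℤ) ^ (j + 2) -
        (Fintype.card F : ℤ) ^ (j + 1) := by
  have h := Cfsg.Agent.S0289.result (F := F) rfl (j + 2) (by omega)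
  have h2 : Nat.card {b : Fin (j + 2) ⊕ Fin (j + 2) → F // plusForm (j + 2) F b = 0} =
      Nat.card {b : Fin (j + 2) ⊕ Fin (j + 2) → F // quadFormPlus (j + 2) F b = 0} :=
    Nat.card_congr (Equiv.subtypeEquivRight (fun b => by rw [plusForm_apply]))
  rw [h2, h]
  have e1 : 2 * (j + 2) - 1 = 2 * j + 3 := by omega
  have e2 : j + 2 - 1 = j + 1 := by omega
  rw [e1, e2]
  have hle : Fintype.card F ^ (j + 1) ≤ Fintype.card F ^ (2 * j + 3) + Fintype.card F ^ (j + 2) :=
    le_trans (Nat.pow_le_pow_right Fintype.card_pos (by omega)) (Nat.le_add_left _ _)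
  rw [Nat.cast_sub hle]
  push_cast
  ring

/-- for a nonzero singular `a`: the number of `b` with `(a, b)` totally singular and independent -/
theorem card_ts_snd (j : ℕ) (a : Fin (j + 2) ⊕ Fin (j + 2) → F) (ha : a ≠ 0)
    (hQa : plusForm (j + 2) F a = 0) :
    (Nat.card {b : Fin (j + 2) ⊕ Fin (j + 2) → F // plusForm (j + 2) F b = 0 ∧
        polar (plusForm (j + 2) F) a b = 0 ∧
        ∀ s t : F, s • a + t • b = 0 → s = 0 ∧ t = 0} : ℤ) =
      (Fintype.card F : ℤ) * (((Fintype.card F : ℤ) ^ (j + 1) - 1) *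
        ((Fintype.card F : ℤ) ^ j + 1)) := by
  have hV : Fintype.card (Fin (j + 2) ⊕ Fin (j + 2) → F) =
      Fintype.card F * (Fintype.card F * Fintype.card F ^ (2 * j + 2)) := by
    rw [Fintype.card_fun, Fintype.card_sum, Fintype.card_fin, ← pow_succ', ← pow_succ']
    congr 1
    omega
  have h1 := card_sing_perp_nat (plusForm (j + 2) F) (plus_polar_ne_zero (j + 2))
    (Fintype.card F ^ (2 * j + 2)) hV a ha hQa
  have h2 := card_sing_perp_indep_nat (plusForm (j + 2) F) a ha hQa
  have h3 := card_plus_zeros (F := F) j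
  rw [h1, ← h2] at h3
  push_cast [Nat.cast_sub Fintype.card_pos] at h3
  linear_combination h3

theorem card_tsPairs (j : ℕ) :
    (tsPairs F (j + 2)).card =
      (Fintype.card F ^ (j + 2) - 1) * (Fintype.card F ^ (j + 1) + 1) *
        (Fintype.card F * ((Fintype.card F ^ (j + 1) - 1) * (Fintype.card F ^ j + 1))) := by
  classical
  have hpow : ∀ e : ℕ, 1 ≤ Fintype.card F ^ e := fun e => Nat.one_le_pow _ _ Fintype.card_pos
  -- the count as a double sum
  have hcard : (tsPairs F (j + 2)).card =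
      ∑ a : Fin (j + 2) ⊕ Fin (j + 2) → F,
        Nat.card {b : Fin (j + 2) ⊕ Fin (j + 2) → F // plusForm (j + 2) F a = 0 ∧
            plusForm (j + 2) F b = 0 ∧ polar (plusForm (j + 2) F) a b = 0 ∧
            ∀ s t : F, s • a + t • b = 0 → s = 0 ∧ t = 0} := by
    unfold tsPairs
    rw [Finset.card_filter, ← Finset.univ_product_univ, Finset.sum_product]
    refine Finset.sum_congr rfl fun a _ => ?_
    rw [← card_filter_eq_natCard, Finset.card_filter]
    refine Finset.sum_congr rfl fun b _ => ?_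
    simp only [coe_plusForm]
  -- the inner count
  have hinner : ∀ a : Fin (j + 2) ⊕ Fin (j + 2) → F,
      (Nat.card {b : Fin (j + 2) ⊕ Fin (j + 2) → F // plusForm (j + 2) F a = 0 ∧
            plusForm (j + 2) F b = 0 ∧ polar (plusForm (j + 2) F) a b = 0 ∧
            ∀ s t : F, s • a + t • b = 0 → s = 0 ∧ t = 0} : ℤ) =
        if plusForm (j + 2) F a = 0 ∧ a ≠ 0 then
          (Fintype.card F : ℤ) * (((Fintype.card F : ℤ) ^ (j + 1) - 1) *
            ((Fintype.card F : ℤ) ^ j + 1)) else 0 := by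
    intro a
    by_cases hP : plusForm (j + 2) F a = 0 ∧ a ≠ 0
    · rw [if_pos hP, ← card_ts_snd j a hP.2 hP.1]
      congr 1
      apply Nat.card_congr
      apply Equiv.subtypeEquivRight
      intro b
      constructor
      · exact fun h => h.2
      · exact fun h => ⟨hP.1, h⟩
    · rw [if_neg hP]
      have hempty : IsEmpty {b : Fin (j + 2) ⊕ Fin (j + 2) → F // plusForm (j + 2) F a = 0 ∧
            plusForm (j + 2) F b = 0 ∧ polar (plusForm (j + 2) F) a b = 0 ∧
            ∀ s t : F, s • a + t • b = 0 → s = 0 ∧ t = 0} := by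
        constructor
        rintro ⟨b, h1, _, _, h4⟩
        apply hP
        refine ⟨h1, ?_⟩
        rintro rfl
        have := h4 1 0 (by simp)
        exact one_ne_zero this.1
      rw [Nat.card_of_isEmpty, Nat.cast_zero]
  -- the number of nonzero singular vectors
  have hZ1 : ((((Finset.univ : Finset (Fin (j + 2) ⊕ Fin (j + 2) → F)).filter
      (fun a => plusForm (j + 2) F a = 0 ∧ a ≠ 0)).card : ℕ) : ℤ) =
      (Fintype.card F : ℤ) ^ (2 * j + 3) + (Fintype.card F : ℤ) ^ (j + 2) -
        (Fintype.card F : ℤ) ^ (j + 1) - 1 := by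
    have h0 : (0 : Fin (j + 2) ⊕ Fin (j + 2) → F) ∈
        (Finset.univ : Finset (Fin (j + 2) ⊕ Fin (j + 2) → F)).filter
          (fun b => plusForm (j + 2) F b = 0) := by
      rw [Finset.mem_filter]
      exact ⟨Finset.mem_univ _, QuadraticMap.map_zero _⟩
    have h1 : (Finset.univ : Finset (Fin (j + 2) ⊕ Fin (j + 2) → F)).filter
        (fun a => plusForm (j + 2) F a = 0 ∧ a ≠ 0) =
        ((Finset.univ : Finset (Fin (j + 2) ⊕ Fin (j + 2) → F)).filter
          (fun b => plusForm (j + 2) F b = 0)).erase 0 := by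
      ext a
      rw [Finset.mem_filter, Finset.mem_erase, Finset.mem_filter]
      tauto
    rw [h1, Finset.card_erase_of_mem h0, Nat.cast_sub (Finset.card_pos.mpr ⟨0, h0⟩),
      card_filter_eq_natCard, card_plus_zeros]
    simp
  -- assemble in `ℤ`
  apply Nat.cast_injective (R := ℤ)
  rw [hcard, Nat.cast_sum, Finset.sum_congr rfl (fun a _ => hinner a), ← Finset.sum_filter,
    Finset.sum_const, nsmul_eq_mul, hZ1]
  push_cast [Nat.cast_sub (hpow _)]
  ring

end Cfsg.Agent.Lib.Helper2.OMP
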