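import Mathlib
import Cfsg.Prelude
import Cfsg.Agent.Lib.Helper8.OMPDefs

set_option autoImplicit false
set_option linter.unusedSectionVars false
set_option linter.unusedVariables false
set_option linter.unusedSimpArgs false
set_option linter.style.haveILetI false

/-!
Farm OMP (statement S2345), units P and S, part 1: the pairing of the alternating matrices is perfect,
the idempotents `eB B` attached to the characters of the Siegel radical `Q = {uQ A}` in a complex
representation of `Ω⁺_{2(m+3)}(F)`.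
-/

namespace Cfsg.Agent.Lib.Helper2.OMP

open Matrix Cfsg Cfsg.Agent.Lib.Helper1.MND Cfsg.Agent.Lib.Helper8.OMP

section pairing
variable {F : Type*} [Field F] [Fintype F] [DecidableEq F] {n : ℕ}

/-- `⟨B, c (E_ij - E_ji)⟩ = B_ij c` -/
theorem pairAlt_elemAlt (B : altAdd F n) (i j : Fin n) (c : F) :
    pairAlt B.1 (elemAlt i j c).1 = c * B.1 i j := by
  have h : (elemAlt i j c).1 = Matrix.single i j c - (Matrix.single i j c)ᵀ := rfl
  rw [h, pairAlt_sub_transpose, Matrix.trace_mul_comm, Matrix.trace_single_mul, smul_eq_mul,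
    Matrix.transpose_apply]

theorem pairAlt_sub_right (B A A' : Matrix (Fin n) (Fin n) F) :
    pairAlt B (A - A') = pairAlt B A - pairAlt B A' := by
  rw [sub_eq_add_neg, pairAlt_add_right, pairAlt_neg_right, sub_eq_add_neg]

theorem pairAlt_neg_left (B A : Matrix (Fin n) (Fin n) F) : pairAlt (-B) A = -pairAlt B A := by
  rw [pairAlt_comm, pairAlt_neg_right, pairAlt_comm]

theorem pairAlt_sub_left (B B' A : Matrix (Fin n) (Fin n) F) :
    pairAlt (B - B') A = pairAlt B A - pairAlt B' A := by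
  rw [sub_eq_add_neg, pairAlt_add_left, pairAlt_neg_left, sub_eq_add_neg]

/-- the additive character `A ↦ ψ ⟨B, A⟩` of the alternating matrices -/
noncomputable def pairChar (ψ : AddChar F ℂ) (B : altAdd F n) : AddChar (altAdd F n) ℂ :=
  ψ.compAddMonoidHom
    { toFun := fun A => pairAlt B.1 A.1
      map_zero' := pairAlt_zero_right B.1
      map_add' := fun A A' => pairAlt_add_right B.1 A.1 A'.1 }

theorem pairChar_apply (ψ : AddChar F ℂ) (B A : altAdd F n) :
    pairChar ψ B A = ψ (pairAlt B.1 A.1) := rfl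

theorem card_alt_ne_zero : (Fintype.card (altAdd F n) : ℂ) ≠ 0 := by
  exact_mod_cast Fintype.card_ne_zero

/-- orthogonality: `∑_A ψ ⟨B, A⟩ = |Alt|` if `B = 0` and `0` otherwise -/
theorem sum_psi_pair (ψ : AddChar F ℂ) (hψ : ∃ a, ψ a ≠ 1) (B : altAdd F n) :
    ∑ A : altAdd F n, ψ (pairAlt B.1 A.1) =
      if B = 0 then (Fintype.card (altAdd F n) : ℂ) else 0 := by
  by_cases hB : B = 0
  · subst hB
    rw [if_pos rfl]
    have h0 : ∀ A : altAdd F n, ψ (pairAlt (0 : altAdd F n).1 A.1) = 1 := by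
      intro A
      have : (0 : altAdd F n).1 = 0 := rfl
      rw [this, pairAlt_zero_left, AddChar.map_zero_eq_one]
    simp only [h0, Finset.sum_const, Finset.card_univ, nsmul_eq_mul, mul_one]
  · rw [if_neg hB]
    obtain ⟨a, ha⟩ := hψ
    obtain ⟨i, j, hij⟩ : ∃ i j, B.1 i j ≠ 0 := by
      by_contra hcon
      push Not at hcon
      apply hB
      apply Subtype.ext
      ext i j
      exact hcon i j
    have hne : pairChar ψ B ≠ 1 := by
      intro h1
      apply ha
      have h2 := DFunLike.congr_fun h1 (elemAlt i j (a / B.1 i j))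
      rw [pairChar_apply, pairAlt_elemAlt, div_mul_cancel₀ a hij] at h2
      rw [h2]
      rfl
    exact AddChar.sum_eq_zero_of_ne_one hne

/-- the same in the other variable -/
theorem sum_psi_pair' (ψ : AddChar F ℂ) (hψ : ∃ a, ψ a ≠ 1) (A : altAdd F n) :
    ∑ B : altAdd F n, ψ (pairAlt B.1 A.1) =
      if A = 0 then (Fintype.card (altAdd F n) : ℂ) else 0 := by
  rw [← sum_psi_pair ψ hψ A]
  refine Finset.sum_congr rfl fun B _ => ?_
  rw [pairAlt_comm]

end pairing

section projectors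
variable {F : Type*} [Field F] [Fintype F] [DecidableEq F] {m : ℕ}
variable {V : Type*} [AddCommGroup V] [Module ℂ V]

/-- the projector onto the `λ_B`-isotypic component of the Siegel radical -/
noncomputable def eB (ψ : AddChar F ℂ) (ρ : Representation ℂ (OG m F) V)
    (B : altAdd F (m + 3)) : Module.End ℂ V :=
  (Fintype.card (altAdd F (m + 3)) : ℂ)⁻¹ • ∑ A : altAdd F (m + 3), ψ (-(pairAlt B.1 A.1)) • ρ (uQ A)

theorem rho_uQ_mul_sum (ψ : AddChar F ℂ) (ρ : Representation ℂ (OG m F) V)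
    (B A₀ : altAdd F (m + 3)) :
    ρ (uQ A₀) * ∑ A : altAdd F (m + 3), ψ (-(pairAlt B.1 A.1)) • ρ (uQ A) =
      ψ (pairAlt B.1 A₀.1) • ∑ A : altAdd F (m + 3), ψ (-(pairAlt B.1 A.1)) • ρ (uQ A) := by
  rw [Finset.mul_sum, Finset.smul_sum]
  calc ∑ A : altAdd F (m + 3), ρ (uQ A₀) * (ψ (-(pairAlt B.1 A.1)) • ρ (uQ A))
      = ∑ A : altAdd F (m + 3),
          ψ (pairAlt B.1 A₀.1) • (ψ (-(pairAlt B.1 (A₀ + A).1)) • ρ (uQ (A₀ + A))) := by
        refine Finset.sum_congr rfl fun A _ => ?_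
        rw [mul_smul_comm, ← map_mul, ← uQ_add, smul_smul]
        congr 1
        rw [← AddChar.map_add_eq_mul]
        congr 1
        rw [AddSubgroup.coe_add, pairAlt_add_right]
        ring
    _ = ∑ A : altAdd F (m + 3), ψ (pairAlt B.1 A₀.1) • (ψ (-(pairAlt B.1 A.1)) • ρ (uQ A)) :=
        Equiv.sum_comp (Equiv.addLeft A₀)
          (fun A => ψ (pairAlt B.1 A₀.1) • (ψ (-(pairAlt B.1 A.1)) • ρ (uQ A)))

theorem rho_uQ_mul_eB (ψ : AddChar F ℂ) (ρ : Representation ℂ (OG m F) V)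
    (B A₀ : altAdd F (m + 3)) : ρ (uQ A₀) * eB ψ ρ B = ψ (pairAlt B.1 A₀.1) • eB ψ ρ B := by
  unfold eB
  rw [mul_smul_comm, rho_uQ_mul_sum, smul_comm]

theorem eB_mul_eB_aux (ψ : AddChar F ℂ) (ρ : Representation ℂ (OG m F) V)
    (B B' : altAdd F (m + 3)) :
    eB ψ ρ B * eB ψ ρ B' =
      ((Fintype.card (altAdd F (m + 3)) : ℂ)⁻¹ *
        ∑ A : altAdd F (m + 3), ψ (pairAlt (B' - B).1 A.1)) • eB ψ ρ B' := by
  conv_lhs => rw [eB]
  rw [smul_mul_assoc, Finset.sum_mul, mul_smul, Finset.sum_smul]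
  congr 1
  refine Finset.sum_congr rfl fun A _ => ?_
  rw [smul_mul_assoc, rho_uQ_mul_eB, smul_smul]
  congr 1
  rw [← AddChar.map_add_eq_mul]
  congr 1
  rw [AddSubgroup.coe_sub, pairAlt_sub_left]
  ring

theorem eB_mul_eB (ψ : AddChar F ℂ) (hψ : ∃ a, ψ a ≠ 1) (ρ : Representation ℂ (OG m F) V)
    (B B' : altAdd F (m + 3)) :
    eB ψ ρ B * eB ψ ρ B' = if B = B' then eB ψ ρ B' else 0 := by
  rw [eB_mul_eB_aux, sum_psi_pair ψ hψ]
  by_cases hcc : B = B'
  · subst hcc
    rw [if_pos rfl, if_pos (sub_self B), inv_mul_cancel₀ card_alt_ne_zero, one_smul]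
  · rw [if_neg hcc, if_neg (fun h => hcc (sub_eq_zero.mp h).symm), mul_zero, zero_smul]

/-- `eB B` is an idempotent (for any `ψ`) -/
theorem eB_idem (ψ : AddChar F ℂ) (ρ : Representation ℂ (OG m F) V)
    (B : altAdd F (m + 3)) : IsIdempotentElem (eB ψ ρ B) := by
  unfold IsIdempotentElem
  rw [eB_mul_eB_aux, sub_self]
  have h0 : ∀ A : altAdd F (m + 3), ψ (pairAlt (0 : altAdd F (m + 3)).1 A.1) = 1 := by
    intro A
    have : (0 : altAdd F (m + 3)).1 = 0 := rfl
    rw [this, pairAlt_zero_left, AddChar.map_zero_eq_one]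
  simp only [h0, Finset.sum_const, Finset.card_univ, nsmul_eq_mul, mul_one]
  rw [inv_mul_cancel₀ card_alt_ne_zero, one_smul]

theorem sum_eB (ψ : AddChar F ℂ) (hψ : ∃ a, ψ a ≠ 1) (ρ : Representation ℂ (OG m F) V) :
    ∑ B : altAdd F (m + 3), eB ψ ρ B = 1 := by
  unfold eB
  rw [← Finset.smul_sum, Finset.sum_comm]
  have h1 : ∀ A : altAdd F (m + 3), ∑ B : altAdd F (m + 3), ψ (-(pairAlt B.1 A.1)) • ρ (uQ A) =
      (if A = 0 then (Fintype.card (altAdd F (m + 3)) : ℂ) else 0) • ρ (uQ A) := by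
    intro A
    rw [← Finset.sum_smul]
    congr 1
    have h2 : ∀ B : altAdd F (m + 3), ψ (-(pairAlt B.1 A.1)) = ψ (pairAlt B.1 (-A).1) := by
      intro B
      congr 1
      rw [AddSubgroup.coe_neg, pairAlt_neg_right]
    simp_rw [h2]
    rw [sum_psi_pair' ψ hψ]
    by_cases hA : A = 0
    · rw [if_pos hA, if_pos (by rw [hA, neg_zero])]
    · rw [if_neg hA, if_neg (fun h => hA (neg_eq_zero.mp h))]
  simp_rw [h1]
  rw [Finset.sum_eq_single (0 : altAdd F (m + 3))]
  · rw [if_pos rfl, smul_smul, inv_mul_cancel₀ card_alt_ne_zero, one_smul, uQ_zero, map_one]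
  · intro A _ hA
    rw [if_neg hA, zero_smul]
  · intro h; exact absurd (Finset.mem_univ _) h

variable [FiniteDimensional ℂ V]

theorem trace_eB (ψ : AddChar F ℂ) (ρ : Representation ℂ (OG m F) V) (B : altAdd F (m + 3)) :
    LinearMap.trace ℂ V (eB ψ ρ B) = mB ψ ρ.character B := by
  unfold eB mB
  rw [map_smul, map_sum, smul_eq_mul]
  congr 1
  refine Finset.sum_congr rfl fun A _ => ?_
  rw [map_smul, smul_eq_mul]
  rfl

theorem trace_rho_mul_eB (ψ : AddChar F ℂ) (ρ : Representation ℂ (OG m F) V) (g : OG m F)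
    (B : altAdd F (m + 3)) :
    LinearMap.trace ℂ V (ρ g * eB ψ ρ B) =
      (Fintype.card (altAdd F (m + 3)) : ℂ)⁻¹ *
        ∑ A : altAdd F (m + 3), ψ (-(pairAlt B.1 A.1)) * ρ.character (g * uQ A) := by
  unfold eB
  rw [mul_smul_comm, map_smul, Finset.mul_sum, map_sum, smul_eq_mul]
  congr 1
  refine Finset.sum_congr rfl fun A _ => ?_
  rw [mul_smul_comm, map_smul, smul_eq_mul, ← map_mul]
  rfl

theorem character_eq_sum_eB (ψ : AddChar F ℂ) (hψ : ∃ a, ψ a ≠ 1)
    (ρ : Representation ℂ (OG m F) V) (g : OG m F) :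
    ρ.character g = ∑ B : altAdd F (m + 3), LinearMap.trace ℂ V (ρ g * eB ψ ρ B) := by
  rw [← map_sum, ← Finset.mul_sum, sum_eB ψ hψ, mul_one]
  rfl

/-- the trace of an idempotent is a natural number -/
theorem trace_eB_nat (ψ : AddChar F ℂ) (ρ : Representation ℂ (OG m F) V)
    (B : altAdd F (m + 3)) : ∃ r : ℕ, LinearMap.trace ℂ V (eB ψ ρ B) = r := by
  have he := eB_idem ψ ρ B
  have hproj := LinearMap.IsIdempotentElem.isProj_range (eB ψ ρ B) he
  exact ⟨_, hproj.trace⟩

/-- an idempotent of trace zero vanishes -/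
theorem eB_eq_zero (ψ : AddChar F ℂ) (ρ : Representation ℂ (OG m F) V)
    (B : altAdd F (m + 3)) (h0 : mB ψ ρ.character B = 0) : eB ψ ρ B = 0 := by
  have he := eB_idem ψ ρ B
  have hproj := LinearMap.IsIdempotentElem.isProj_range (eB ψ ρ B) he
  have htr := hproj.trace
  rw [trace_eB, h0] at htr
  have hfr : Module.finrank ℂ (LinearMap.range (eB ψ ρ B)) = 0 := by
    exact_mod_cast htr.symm
  have hbot : LinearMap.range (eB ψ ρ B) = ⊥ := Submodule.finrank_eq_zero.mp hfr
  exact LinearMap.range_eq_bot.mp hbot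

end projectors

end Cfsg.Agent.Lib.Helper2.OMP
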