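import Mathlib
import Cfsg.Prelude
import Cfsg.Agent.Lib.Helper8.OMPDefs
import Cfsg.Agent.Lib.Helper2.OMPP1

set_option autoImplicit false
set_option linter.unusedSectionVars false
set_option linter.unusedVariables false
set_option linter.unusedSimpArgs false
set_option linter.style.haveILetI false

/-!
Farm OMP (statement S2345), unit P: Fourier analysis on the Siegel radical `Q = {uQ A}`.
`mB_tor_of` is `mB_tor` with the statement of unit T (`exists_tor`) as a hypothesis.
-/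

namespace Cfsg.Agent.Lib.Helper2.OMP

open Matrix Cfsg Cfsg.Agent.Lib.Helper1.MND Cfsg.Agent.Lib.Helper8.OMP

variable {F : Type*} [Field F] [Fintype F] [DecidableEq F] {m : ℕ}

/-- Fourier inversion on the finite abelian group `altAdd` (any function `χ`) -/
theorem fourier_uQ (ψ : AddChar F ℂ) (hψ : ∃ a, ψ a ≠ 1) (χ : OG m F → ℂ) (A : altAdd F (m + 3)) :
    χ (uQ A) = ∑ B : altAdd F (m + 3), ψ (pairAlt B.1 A.1) * mB ψ χ B := by
  symm
  calc ∑ B : altAdd F (m + 3), ψ (pairAlt B.1 A.1) * mB ψ χ B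
      = ∑ B : altAdd F (m + 3), ∑ A' : altAdd F (m + 3),
          (Fintype.card (altAdd F (m + 3)) : ℂ)⁻¹ *
            (ψ (pairAlt B.1 (A - A').1) * χ (uQ A')) := by
        refine Finset.sum_congr rfl fun B _ => ?_
        unfold mB
        rw [Finset.mul_sum, Finset.mul_sum]
        refine Finset.sum_congr rfl fun A' _ => ?_
        rw [AddSubgroup.coe_sub, pairAlt_sub_right, sub_eq_add_neg, AddChar.map_add_eq_mul]
        ring
    _ = ∑ A' : altAdd F (m + 3), (Fintype.card (altAdd F (m + 3)) : ℂ)⁻¹ *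
          ((∑ B : altAdd F (m + 3), ψ (pairAlt B.1 (A - A').1)) * χ (uQ A')) := by
        rw [Finset.sum_comm]
        refine Finset.sum_congr rfl fun A' _ => ?_
        rw [Finset.sum_mul, Finset.mul_sum]
    _ = (Fintype.card (altAdd F (m + 3)) : ℂ)⁻¹ *
          ((Fintype.card (altAdd F (m + 3)) : ℂ) * χ (uQ A)) := by
        rw [Finset.sum_eq_single A]
        · rw [sum_psi_pair' ψ hψ, if_pos (sub_self A)]
        · intro A' _ hA'
          rw [sum_psi_pair' ψ hψ, if_neg (sub_ne_zero.mpr (Ne.symm hA'))]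
          simp
        · intro h; exact absurd (Finset.mem_univ A) h
    _ = χ (uQ A) := by
        rw [← mul_assoc, inv_mul_cancel₀ card_alt_ne_zero, one_mul]

/-- `mB` is the trace of the idempotent `e_B` -/
theorem mB_nat (ψ : AddChar F ℂ) {V : Type*} [AddCommGroup V] [Module ℂ V] [FiniteDimensional ℂ V]
    (ρ : Representation ℂ (OG m F) V) (B : altAdd F (m + 3)) :
    ∃ r : ℕ, mB ψ ρ.character B = r := by
  obtain ⟨r, hr⟩ := trace_eB_nat ψ ρ B
  exact ⟨r, by rw [← trace_eB, hr]⟩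

/-- change of variables: an element `y` normalising `Q` through `L`, `⟨B', A⟩ = ⟨B, L A⟩` -/
theorem mB_of_conj (ψ : AddChar F ℂ) (χ : OG m F → ℂ) (hχ : ∀ x y, χ (x * y * x⁻¹) = χ y)
    (y : OG m F) (L : altAdd F (m + 3) → altAdd F (m + 3))
    (hL : ∀ A, y * uQ A * y⁻¹ = uQ (L A)) (B B' : altAdd F (m + 3))
    (hp : ∀ A, pairAlt B'.1 A.1 = pairAlt B.1 (L A).1) : mB ψ χ B' = mB ψ χ B := by
  have hinj : Function.Injective L := by
    intro A A' h
    apply uQ_injective (F := F) (m := m)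
    have h1 : y * uQ A * y⁻¹ = y * uQ A' * y⁻¹ := by rw [hL, hL, h]
    have h2 := mul_right_cancel h1
    exact mul_left_cancel h2
  have hbij : Function.Bijective L := Finite.injective_iff_bijective.mp hinj
  unfold mB
  congr 1
  calc ∑ A : altAdd F (m + 3), ψ (-(pairAlt B'.1 A.1)) * χ (uQ A)
      = ∑ A : altAdd F (m + 3), ψ (-(pairAlt B.1 (L A).1)) * χ (uQ (L A)) := by
        refine Finset.sum_congr rfl fun A _ => ?_
        rw [hp A, ← hL A, hχ]
    _ = ∑ A : altAdd F (m + 3), ψ (-(pairAlt B.1 A.1)) * χ (uQ A) :=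
        Equiv.sum_comp (Equiv.ofBijective L hbij) (fun A => ψ (-(pairAlt B.1 A.1)) * χ (uQ A))

/-- change of variables `A ↦ g A gᵀ` -/
theorem mB_lev (ψ : AddChar F ℂ) (χ : OG m F → ℂ) (hχ : ∀ x y, χ (x * y * x⁻¹) = χ y)
    (g : SS (m + 3) F) (B : altAdd F (m + 3)) : mB ψ χ (actAlt g.1 B) = mB ψ χ B := by
  apply mB_of_conj ψ χ hχ (lev g) (conjAlt g) (fun A => lev_conj_uQ g A)
  intro A
  rw [pairAlt_actAlt, conjAlt_coe]

/-- the same with a torus element as in unit T -/
theorem mB_tor_of (ψ : AddChar F ℂ) (χ : OG m F → ℂ) (hχ : ∀ x y, χ (x * y * x⁻¹) = χ y)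
    (δ : F) (hδ : δ ≠ 0)
    (hT : ∃ τ : OG m F, ∀ A : altAdd F (m + 3), τ * uQ A * τ⁻¹ = uQ (actAlt (torM m δ) A))
    (B : altAdd F (m + 3)) : mB ψ χ (actAlt (torM m δ) B) = mB ψ χ B := by
  obtain ⟨τ, hτ⟩ := hT
  apply mB_of_conj ψ χ hχ τ (actAlt (torM m δ)) hτ
  intro A
  rw [pairAlt_actAlt, actAlt_coe]
  congr 2
  · congr 1
    unfold torM
    rw [Matrix.diagonal_transpose]
  · unfold torM
    rw [Matrix.diagonal_transpose]

end Cfsg.Agent.Lib.Helper2.OMP
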