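import Mathlib
import Cfsg.Prelude
import Cfsg.Agent.Lib.Helper8.OMPDefs
import Cfsg.Agent.Lib.Helper8.OMPT
import Cfsg.Agent.Lib.Helper2.OMPP

set_option autoImplicit false
set_option linter.unusedSectionVars false
set_option linter.unusedVariables false

/-!
Farm OMP (statement S2345), unit P, last statement: `mB_tor` (with unit T, `exists_tor`, plugged in).
-/

namespace Cfsg.Agent.Lib.Helper2.OMP

open Matrix Cfsg Cfsg.Agent.Lib.Helper1.MND Cfsg.Agent.Lib.Helper8.OMP

variable {F : Type*} [Field F] [Fintype F] [DecidableEq F] {m : ℕ}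

/-- the multiplicities are invariant under the torus `diag (δ², 1, …, 1)` -/
theorem mB_tor (ψ : AddChar F ℂ) (χ : OG m F → ℂ) (hχ : ∀ x y, χ (x * y * x⁻¹) = χ y)
    (δ : F) (hδ : δ ≠ 0) (B : altAdd F (m + 3)) : mB ψ χ (actAlt (torM m δ) B) = mB ψ χ B :=
  mB_tor_of ψ χ hχ δ hδ (exists_tor δ hδ) B

end Cfsg.Agent.Lib.Helper2.OMP
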