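import Mathlib
import Cfsg.Prelude
import Cfsg.Agent.Lib.Helper8.OMPDefs
import Cfsg.Agent.Lib.Helper2.OMPP1

set_option autoImplicit false
set_option linter.unusedSectionVars false
set_option linter.unusedVariables false
set_option linter.unusedSimpArgs false
set_option linter.style.haveILetI false

/-!
Farm OMP (statement S2345), unit S, part 1: the Levi factor and the stabilisers `StabB B` acting on
the idempotents `eB B`; idempotents of rank one.
-/

namespace Cfsg.Agent.Lib.Helper2.OMP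

open Matrix Cfsg Cfsg.Agent.Lib.Helper1.MND Cfsg.Agent.Lib.Helper8.OMP

variable {F : Type*} [Field F] [Fintype F] [DecidableEq F] {m : ℕ}
variable {V : Type*} [AddCommGroup V] [Module ℂ V]

theorem bijective_of_conj (y : OG m F) (L : altAdd F (m + 3) → altAdd F (m + 3))
    (hL : ∀ A, y * uQ A * y⁻¹ = uQ (L A)) : Function.Bijective L := by
  have hinj : Function.Injective L := by
    intro A A' h
    apply uQ_injective (F := F) (m := m)
    have h1 : y * uQ A * y⁻¹ = y * uQ A' * y⁻¹ := by rw [hL, hL, h]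
    have h2 := mul_right_cancel h1
    exact mul_left_cancel h2
  exact Finite.injective_iff_bijective.mp hinj

/-- conjugation of the projectors by an element normalising `Q` -/
theorem conj_eB (ψ : AddChar F ℂ) (ρ : Representation ℂ (OG m F) V) (y : OG m F)
    (L : altAdd F (m + 3) → altAdd F (m + 3)) (hL : ∀ A, y * uQ A * y⁻¹ = uQ (L A))
    (B B' : altAdd F (m + 3)) (hp : ∀ A, pairAlt B'.1 (L A).1 = pairAlt B.1 A.1) :
    ρ y * eB ψ ρ B = eB ψ ρ B' * ρ y := by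
  have hbij := bijective_of_conj y L hL
  unfold eB
  rw [mul_smul_comm, smul_mul_assoc, Finset.mul_sum, Finset.sum_mul]
  congr 1
  calc ∑ A : altAdd F (m + 3), ρ y * (ψ (-(pairAlt B.1 A.1)) • ρ (uQ A))
      = ∑ A : altAdd F (m + 3), ψ (-(pairAlt B'.1 (L A).1)) • ρ (uQ (L A)) * ρ y := by
        refine Finset.sum_congr rfl fun A _ => ?_
        have e2 : ρ y * ρ (uQ A) = ρ (uQ (L A)) * ρ y := by
          rw [← map_mul, ← map_mul, ← hL]
          congr 1; group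
        rw [mul_smul_comm, e2, hp A, smul_mul_assoc]
    _ = ∑ A : altAdd F (m + 3), ψ (-(pairAlt B'.1 A.1)) • ρ (uQ A) * ρ y :=
        Equiv.sum_comp (Equiv.ofBijective L hbij)
          (fun A => ψ (-(pairAlt B'.1 A.1)) • ρ (uQ A) * ρ y)

theorem stab_comm (ψ : AddChar F ℂ) (ρ : Representation ℂ (OG m F) V)
    (B : altAdd F (m + 3)) (y : OG m F) (hy : y ∈ StabB B) :
    ρ y * eB ψ ρ B = eB ψ ρ B * ρ y := by
  obtain ⟨L, L', h1, h2, h3, h4⟩ := hy
  exact conj_eB ψ ρ y L h1 B B h3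

theorem rho_lev_mul_eB (ψ : AddChar F ℂ) (ρ : Representation ℂ (OG m F) V)
    (g : SS (m + 3) F) (B : altAdd F (m + 3)) :
    ρ (lev g) * eB ψ ρ B = eB ψ ρ (actAlt (g⁻¹).1 B) * ρ (lev g) := by
  apply conj_eB ψ ρ (lev g) (conjAlt g) (fun A => lev_conj_uQ g A)
  intro A
  rw [pairAlt_actAlt, conjAlt_coe]
  congr 1
  have h1 : (g⁻¹).1 * g.1 = 1 := by
    rw [← Matrix.SpecialLinearGroup.coe_mul, inv_mul_cancel, Matrix.SpecialLinearGroup.coe_one]
  have h2 : g.1ᵀ * (g⁻¹).1ᵀ = 1 := by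
    rw [← Matrix.transpose_mul, h1, Matrix.transpose_one]
  calc (g⁻¹).1 * (g.1 * A.1 * g.1ᵀ) * (g⁻¹).1ᵀ
      = ((g⁻¹).1 * g.1) * A.1 * (g.1ᵀ * (g⁻¹).1ᵀ) := by simp only [Matrix.mul_assoc]
    _ = A.1 := by rw [h1, h2, Matrix.one_mul, Matrix.mul_one]

variable [FiniteDimensional ℂ V]

/-- an idempotent of trace one has a one-dimensional range -/
theorem eB_rank_one (ψ : AddChar F ℂ) (ρ : Representation ℂ (OG m F) V) (B : altAdd F (m + 3))
    (h1 : mB ψ ρ.character B = 1) :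
    ∃ x₀ : V, x₀ ≠ 0 ∧ eB ψ ρ B x₀ = x₀ ∧ ∀ z, ∃ a : ℂ, eB ψ ρ B z = a • x₀ := by
  have he := eB_idem ψ ρ B
  have hproj := LinearMap.IsIdempotentElem.isProj_range (eB ψ ρ B) he
  have htr := hproj.trace
  rw [trace_eB, h1] at htr
  have hfr : Module.finrank ℂ (LinearMap.range (eB ψ ρ B)) = 1 := by
    exact_mod_cast htr.symm
  obtain ⟨v, hv0, hv⟩ := finrank_eq_one_iff'.mp hfr
  refine ⟨v.1, ?_, ?_, ?_⟩
  · intro h
    apply hv0
    exact Subtype.ext h
  · exact hproj.map_id v.1 v.2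
  · intro z
    obtain ⟨a, ha⟩ := hv ⟨eB ψ ρ B z, LinearMap.mem_range_self _ z⟩
    refine ⟨a, ?_⟩
    have := congrArg Subtype.val ha
    simpa using this.symm

/-- commutators of the stabiliser act trivially on a one-dimensional component -/
theorem comm_fix (ψ : AddChar F ℂ) (ρ : Representation ℂ (OG m F) V) (B : altAdd F (m + 3))
    (h1 : mB ψ ρ.character B = 1) (y : OG m F) (hy : y ∈ ⁅StabB B, StabB B⁆) :
    ρ y * eB ψ ρ B = eB ψ ρ B := by
  obtain ⟨x₀, hx0, hfix, hspan⟩ := eB_rank_one ψ ρ B h1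
  -- elements of the stabiliser act on `x₀` by scalars
  have hsc : ∀ g ∈ StabB B, ∃ μ : ℂ, ρ g x₀ = μ • x₀ := by
    intro g hg
    obtain ⟨a, ha⟩ := hspan (ρ g x₀)
    refine ⟨a, ?_⟩
    have h2 : (ρ g * eB ψ ρ B) x₀ = (eB ψ ρ B * ρ g) x₀ := by rw [stab_comm ψ ρ B g hg]
    rw [Module.End.mul_apply, Module.End.mul_apply, hfix] at h2
    rw [h2, ha]
  -- the stabiliser of `x₀`
  let Sx : Subgroup (OG m F) :=
    { carrier := {g | ρ g x₀ = x₀}
      one_mem' := by show ρ 1 x₀ = x₀; rw [map_one]; rfl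
      mul_mem' := by
        intro a b ha hb
        show ρ (a * b) x₀ = x₀
        rw [map_mul, Module.End.mul_apply, hb, ha]
      inv_mem' := by
        intro a ha
        show ρ a⁻¹ x₀ = x₀
        have h3 : ρ a⁻¹ (ρ a x₀) = x₀ := by
          rw [← Module.End.mul_apply, ← map_mul, inv_mul_cancel, map_one]; rfl
        rw [ha] at h3
        exact h3 }
  have hle : ⁅StabB B, StabB B⁆ ≤ Sx := by
    rw [Subgroup.commutator_le]
    intro g₁ hg₁ g₂ hg₂
    obtain ⟨μ₁, hμ₁⟩ := hsc g₁ hg₁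
    obtain ⟨μ₂, hμ₂⟩ := hsc g₂ hg₂
    obtain ⟨ν₁, hν₁⟩ := hsc g₁⁻¹ (inv_mem hg₁)
    obtain ⟨ν₂, hν₂⟩ := hsc g₂⁻¹ (inv_mem hg₂)
    have e1 : μ₁ * ν₁ = 1 := by
      have h3 : ρ g₁ (ρ g₁⁻¹ x₀) = x₀ := by
        rw [← Module.End.mul_apply, ← map_mul, mul_inv_cancel, map_one]; rfl
      rw [hν₁, map_smul, hμ₁, smul_smul] at h3
      have h4 : (ν₁ * μ₁ - 1) • x₀ = 0 := by rw [sub_smul, h3, one_smul, sub_self]
      rcases smul_eq_zero.mp h4 with h5 | h5
      · rw [mul_comm]; exact sub_eq_zero.mp h5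
      · exact absurd h5 hx0
    have e2 : μ₂ * ν₂ = 1 := by
      have h3 : ρ g₂ (ρ g₂⁻¹ x₀) = x₀ := by
        rw [← Module.End.mul_apply, ← map_mul, mul_inv_cancel, map_one]; rfl
      rw [hν₂, map_smul, hμ₂, smul_smul] at h3
      have h4 : (ν₂ * μ₂ - 1) • x₀ = 0 := by rw [sub_smul, h3, one_smul, sub_self]
      rcases smul_eq_zero.mp h4 with h5 | h5
      · rw [mul_comm]; exact sub_eq_zero.mp h5
      · exact absurd h5 hx0
    show ρ (g₁ * g₂ * g₁⁻¹ * g₂⁻¹) x₀ = x₀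
    simp only [map_mul, Module.End.mul_apply, hν₂, map_smul, hν₁, hμ₂, hμ₁, smul_smul]
    convert one_smul ℂ x₀ using 2
    linear_combination (μ₂ * ν₂) * e1 + e2
  have hyS : ρ y x₀ = x₀ := hle hy
  apply LinearMap.ext
  intro z
  obtain ⟨a, ha⟩ := hspan z
  rw [Module.End.mul_apply, ha, map_smul, hyS]

/-- the components moved by `lev g` do not contribute to the character at `lev g` -/
theorem trace_lev_eB_zero (ψ : AddChar F ℂ) (hψ : ∃ a, ψ a ≠ 1)
    (ρ : Representation ℂ (OG m F) V) (g : SS (m + 3) F) (B : altAdd F (m + 3))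
    (hne : actAlt g.1 B ≠ B) :
    LinearMap.trace ℂ V (ρ (lev g) * eB ψ ρ B) = 0 := by
  have he := eB_idem ψ ρ B
  have hne' : actAlt (g⁻¹).1 B ≠ B := by
    intro h
    apply hne
    have h2 : actAlt g.1 (actAlt (g⁻¹).1 B) = B := by
      rw [← actAlt_mul, ← Matrix.SpecialLinearGroup.coe_mul, inv_mul_cancel,
        Matrix.SpecialLinearGroup.coe_one, actAlt_one]
    rw [h] at h2
    exact h2
  have h1 : ρ (lev g) * eB ψ ρ B = (ρ (lev g) * eB ψ ρ B) * eB ψ ρ B := by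
    rw [mul_assoc, he.eq]
  rw [h1, LinearMap.trace_mul_comm, rho_lev_mul_eB, ← mul_assoc, eB_mul_eB ψ hψ,
    if_neg (fun h => hne' h.symm), zero_mul, map_zero]

theorem trace_lev_eB_res0 (ψ : AddChar F ℂ) (ρ : Representation ℂ (OG m F) V)
    (g : SS (m + 3) F) :
    LinearMap.trace ℂ V (ρ (lev g) * eB ψ ρ 0) = Cfsg.Agent.Lib.Helper8.OMP.res0 ρ.character g := by
  rw [trace_rho_mul_eB]
  unfold Cfsg.Agent.Lib.Helper8.OMP.res0
  congr 1
  refine Finset.sum_congr rfl fun A _ => ?_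
  have h0 : (0 : altAdd F (m + 3)).1 = 0 := rfl
  rw [h0, pairAlt_zero_left, neg_zero, AddChar.map_zero_eq_one, one_mul,
    Representation.char_mul_comm]

end Cfsg.Agent.Lib.Helper2.OMP
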