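import Mathlib
import Cfsg.Prelude
import Cfsg.Agent.Lib.Helper8.OMPDefs
import Cfsg.Agent.Lib.Helper1.MNDB1
import Cfsg.Agent.Lib.Helper3.OMPO
import Cfsg.Agent.Lib.Helper7.OMPC2
import Cfsg.Agent.Lib.Helper7.OMPC4
import Cfsg.Agent.Lib.Helper2.OMPP
import Cfsg.Agent.Lib.Helper2.OMPS1

set_option autoImplicit false
set_option linter.unusedSectionVars false
set_option linter.unusedVariables false
set_option linter.unusedSimpArgs false
set_option linter.style.haveILetI false

/-!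
Farm OMP (statement S2345), unit S, part 2: the double count (STAR), with the statements of the
units W (`exists_wconj`), C1 (`card_R2`) and C3 (`card_R2_fix`) as hypotheses.
-/

namespace Cfsg.Agent.Lib.Helper2.OMP

open Matrix Cfsg Cfsg.Agent.Lib.Helper1.MND Cfsg.Agent.Lib.Helper8.OMP

variable {F : Type*} [Field F] [Fintype F] [DecidableEq F] {m k : ℕ}

theorem E01_apply_01 : (E01 F m).1 0 1 = 1 := by
  have h01 : (0 : Fin (m + 3)) ≠ 1 := by
    intro h
    have := congrArg Fin.val h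
    simp at this
  rw [E01_coe, Matrix.sub_apply, Matrix.single_apply_same, Matrix.single_apply_of_ne, sub_zero]
  exact fun h => h01 h.1.symm

theorem not_isR2_zero : ¬ IsR2 (0 : altAdd F (m + 3)) := by
  rintro ⟨g, hg⟩
  have h1 := Cfsg.Agent.Lib.Helper3.OMP.actAlt_inv_cancel g (E01 F m)
  rw [← hg, actAlt_zero] at h1
  have h2 := E01_apply_01 (F := F) (m := m)
  rw [← h1] at h2
  exact zero_ne_one h2

theorem tvS_zero' : (tvS (0 : F) : SS (m + 3) F) = 1 := by
  apply Subtype.ext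
  show Matrix.transvection (0 : Fin (m + 3)) 1 (0 : F) = 1
  exact Matrix.transvection_zero (R := F) (0 : Fin (m + 3)) 1

theorem pairAlt_tE01 (B : altAdd F (m + 3)) (t : F) :
    pairAlt B.1 (tE01 m t).1 = t * B.1 0 1 := by
  have h : (tE01 m t).1 = (elemAlt (0 : Fin (m + 3)) 1 t).1 := by
    rw [tE01_coe, E01_coe, elemAlt_coe, smul_sub, Matrix.smul_single, Matrix.smul_single,
      smul_eq_mul, mul_one]
  rw [h, pairAlt_elemAlt]

open Classical in
/-- the contribution of the component `B ≠ 0` to `χ (lev (tvS t))` -/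
theorem trace_lev_tvS_eB (ψ : AddChar F ℂ) (hψ : ∃ a, ψ a ≠ 1)
    (ρ : Representation ℂ (OG m F) (Fin k → ℂ)) (hR : ROne ψ ρ.character)
    (hcomm : ∀ B : altAdd F (m + 3), IsR2 B → (∀ j, j ≠ 1 → B.1 0 j = 0) → ∀ t : F,
      (lev (tvS t) : OG m F) ∈ ⁅StabB B, StabB B⁆)
    (t : F) (B : altAdd F (m + 3)) (hB : B ≠ 0) :
    LinearMap.trace ℂ (Fin k → ℂ) (ρ (lev (tvS t)) * eB ψ ρ B) =
      if IsR2 B ∧ (t = 0 ∨ ∀ j, j ≠ 1 → B.1 0 j = 0) then 1 else 0 := by
  by_cases hr : IsR2 B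
  · by_cases ht : t = 0
    · subst ht
      rw [if_pos ⟨hr, Or.inl rfl⟩, tvS_zero', map_one, map_one, one_mul, trace_eB, hR.1 B hr]
    · by_cases hf : ∀ j, j ≠ 1 → B.1 0 j = 0
      · rw [if_pos ⟨hr, Or.inr hf⟩, comm_fix ψ ρ B (hR.1 B hr) _ (hcomm B hr hf t), trace_eB,
          hR.1 B hr]
      · rw [if_neg (by rintro ⟨_, h | h⟩; exacts [ht h, hf h])]
        apply trace_lev_eB_zero ψ hψ
        intro h
        exact hf ((Cfsg.Agent.Lib.Helper7.OMP.actAlt_tvS_eq_iff t ht B).mp h)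
  · rw [if_neg (fun h => hr h.1), eB_eq_zero ψ ρ B (hR.2 B hB hr), mul_zero, map_zero]

open Classical in
/-- `χ (lev (tvS t))` through the decomposition under the Siegel radical -/
theorem character_lev_tvS (ψ : AddChar F ℂ) (hψ : ∃ a, ψ a ≠ 1)
    (ρ : Representation ℂ (OG m F) (Fin k → ℂ)) (hR : ROne ψ ρ.character)
    (hcomm : ∀ B : altAdd F (m + 3), IsR2 B → (∀ j, j ≠ 1 → B.1 0 j = 0) → ∀ t : F,
      (lev (tvS t) : OG m F) ∈ ⁅StabB B, StabB B⁆) (t : F) :
    ρ.character (lev (tvS t)) = Cfsg.Agent.Lib.Helper8.OMP.res0 ρ.character (tvS t) +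
      (if t = 0 then
        (((Finset.univ : Finset (altAdd F (m + 3))).filter (fun B => IsR2 B)).card : ℂ)
      else (((Finset.univ : Finset (altAdd F (m + 3))).filter
        (fun B => IsR2 B ∧ ∀ j, j ≠ 1 → B.1 0 j = 0)).card : ℂ)) := by
  rw [character_eq_sum_eB ψ hψ ρ (lev (tvS t)),
    ← Finset.add_sum_erase _ _ (Finset.mem_univ (0 : altAdd F (m + 3)))]
  congr 1
  · exact trace_lev_eB_res0 ψ ρ (tvS t)
  · have h1 : ∀ B ∈ (Finset.univ : Finset (altAdd F (m + 3))).erase 0,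
        LinearMap.trace ℂ (Fin k → ℂ) (ρ (lev (tvS t)) * eB ψ ρ B) =
          if IsR2 B ∧ (t = 0 ∨ ∀ j, j ≠ 1 → B.1 0 j = 0) then (1 : ℂ) else 0 := by
      intro B hB
      exact trace_lev_tvS_eB ψ hψ ρ hR hcomm t B (Finset.ne_of_mem_erase hB)
    rw [Finset.sum_congr rfl h1]
    have h2 : ∑ B ∈ (Finset.univ : Finset (altAdd F (m + 3))).erase 0,
        (if IsR2 B ∧ (t = 0 ∨ ∀ j, j ≠ 1 → B.1 0 j = 0) then (1 : ℂ) else 0) =
        ∑ B : altAdd F (m + 3),
          (if IsR2 B ∧ (t = 0 ∨ ∀ j, j ≠ 1 → B.1 0 j = 0) then (1 : ℂ) else 0) := by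
      rw [← Finset.add_sum_erase _ _ (Finset.mem_univ (0 : altAdd F (m + 3))),
        if_neg (fun h => not_isR2_zero h.1), zero_add]
    rw [h2, Finset.sum_boole]
    by_cases ht : t = 0
    · rw [if_pos ht]
      congr 2
      apply Finset.filter_congr
      intro B _
      constructor
      · exact fun h => h.1
      · exact fun h => ⟨h, Or.inl ht⟩
    · rw [if_neg ht]
      congr 2
      apply Finset.filter_congr
      intro B _
      constructor
      · rintro ⟨h1, h2 | h2⟩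
        · exact absurd h2 ht
        · exact ⟨h1, h2⟩
      · exact fun h => ⟨h.1, Or.inr h.2⟩

open Classical in
/-- the forms of rank two, counted by the entry `(0, 1)` -/
theorem card_R2_split :
    ((Finset.univ : Finset (altAdd F (m + 3))).filter (fun B => IsR2 B)).card =
      ((Finset.univ : Finset (altAdd F (m + 3))).filter (fun B => IsR2 B ∧ B.1 0 1 = 0)).card +
        (Fintype.card F - 1) * Fintype.card F ^ (2 * m + 2) := by
  have h1 := Finset.card_eq_sum_card_fiberwise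
    (s := (Finset.univ : Finset (altAdd F (m + 3))).filter (fun B => IsR2 B))
    (t := (Finset.univ : Finset F)) (f := fun B => B.1 0 1) (fun _ _ => Finset.mem_univ _)
  rw [h1, ← Finset.add_sum_erase _ _ (Finset.mem_univ (0 : F))]
  congr 1
  · rw [Finset.filter_filter]
  · have h2 : ∀ c ∈ (Finset.univ : Finset F).erase 0,
        (((Finset.univ : Finset (altAdd F (m + 3))).filter (fun B => IsR2 B)).filter
          (fun B => B.1 0 1 = c)).card = Fintype.card F ^ (2 * m + 2) := by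
      intro c hc
      rw [Finset.filter_filter, ← Cfsg.Agent.Lib.Helper7.OMP.card_R2_entry c (Finset.ne_of_mem_erase hc),
        Nat.card_eq_fintype_card, Fintype.card_subtype]
    rw [Finset.sum_congr rfl h2, Finset.sum_const, Finset.card_erase_of_mem (Finset.mem_univ _),
      Finset.card_univ, smul_eq_mul]

open Classical in
/-- unit S with the statements of W, C1, C3 as hypotheses -/
theorem star_of (hm : 1 ≤ m) (ψ : AddChar F ℂ) (hψ : ∃ a, ψ a ≠ 1)
    (ρ : Representation ℂ (OG m F) (Fin k → ℂ)) (hR : ROne ψ ρ.character)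
    (hcomm : ∀ B : altAdd F (m + 3), IsR2 B → (∀ j, j ≠ 1 → B.1 0 j = 0) → ∀ t : F,
      (lev (tvS t) : OG m F) ∈ ⁅StabB B, StabB B⁆)
    (hW : ∃ w : OG m F, ∀ t : F, w * lev (tvS t) * w⁻¹ = uQ (tE01 m t))
    (hC1 : Nat.card {B : altAdd F (m + 3) // IsR2 B} * (Fintype.card F ^ 2 - 1) =
      (Fintype.card F ^ (m + 3) - 1) * (Fintype.card F ^ (m + 2) - 1))
    (hC3 : Nat.card {B : altAdd F (m + 3) // IsR2 B ∧ ∀ j, j ≠ 1 → B.1 0 j = 0} *
        (Fintype.card F ^ 2 - 1) =
      (Fintype.card F ^ (m + 2) - 1) * (Fintype.card F ^ (m + 1) - 1) +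
        (Fintype.card F - 1) * Fintype.card F ^ (m + 1) * (Fintype.card F ^ 2 - 1)) :
    mB ψ ρ.character 0 - avgB (Cfsg.Agent.Lib.Helper8.OMP.res0 ρ.character) =
      (Fintype.card F : ℂ) ^ (m + 2) - (Fintype.card F : ℂ) ^ (m + 1) := by
  set q : ℂ := (Fintype.card F : ℂ) with hq
  have hq1 : 1 < Fintype.card F := Fintype.one_lt_card
  have hq0 : q ≠ 0 := by
    rw [hq]; exact_mod_cast Fintype.card_ne_zero
  have hq2 : q ^ 2 - 1 ≠ 0 := by
    have h : (1 : ℕ) < Fintype.card F ^ 2 := Nat.one_lt_pow (by norm_num) hq1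
    have h' : ((Fintype.card F ^ 2 : ℕ) : ℂ) ≠ ((1 : ℕ) : ℂ) := by
      exact_mod_cast (Nat.ne_of_gt h)
    rw [hq]
    intro hz
    apply h'
    push_cast
    linear_combination hz
  set a : ℂ := mB ψ ρ.character 0 with ha
  set R : ℕ := ((Finset.univ : Finset (altAdd F (m + 3))).filter (fun B => IsR2 B)).card with hRd
  set Ff : ℕ := ((Finset.univ : Finset (altAdd F (m + 3))).filter
    (fun B => IsR2 B ∧ ∀ j, j ≠ 1 → B.1 0 j = 0)).card with hFd
  set N0 : ℕ := ((Finset.univ : Finset (altAdd F (m + 3))).filter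
    (fun B => IsR2 B ∧ B.1 0 1 = 0)).card with hNd
  -- the counts in `ℂ`
  have hpow : ∀ e : ℕ, 1 ≤ Fintype.card F ^ e := fun e => Nat.one_le_pow _ _ Fintype.card_pos
  have c1 : (R : ℂ) * (q ^ 2 - 1) = (q ^ (m + 3) - 1) * (q ^ (m + 2) - 1) := by
    have h := hC1
    rw [Nat.card_eq_fintype_card, Fintype.card_subtype] at h
    have h' := congrArg (fun n : ℕ => (n : ℂ)) h
    simp only [Nat.cast_mul, Nat.cast_sub (hpow _), Nat.cast_pow, Nat.cast_one] at h'
    exact h'
  have c3 : (Ff : ℂ) * (q ^ 2 - 1) = (q ^ (m + 2) - 1) * (q ^ (m + 1) - 1) +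
      (q - 1) * q ^ (m + 1) * (q ^ 2 - 1) := by
    have h := hC3
    rw [Nat.card_eq_fintype_card, Fintype.card_subtype] at h
    have h' := congrArg (fun n : ℕ => (n : ℂ)) h
    simp only [Nat.cast_mul, Nat.cast_add, Nat.cast_sub (hpow _), Nat.cast_pow, Nat.cast_one,
      Nat.cast_sub Fintype.card_pos] at h'
    exact h'
  have c2 : (R : ℂ) = (N0 : ℂ) + (q - 1) * q ^ (2 * m + 2) := by
    have h := card_R2_split (F := F) (m := m)
    have h' := congrArg (fun n : ℕ => (n : ℂ)) h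
    simp only [Nat.cast_mul, Nat.cast_add, Nat.cast_pow, Nat.cast_one,
      Nat.cast_sub Fintype.card_pos] at h'
    exact h'
  -- first computation
  have hsum1 : ∑ t : F, ρ.character (lev (tvS t)) =
      q * avgB (Cfsg.Agent.Lib.Helper8.OMP.res0 ρ.character) + ((R : ℂ) + (q - 1) * (Ff : ℂ)) := by
    simp_rw [character_lev_tvS ψ hψ ρ hR hcomm]
    rw [Finset.sum_add_distrib]
    have e1 : ∑ t : F, Cfsg.Agent.Lib.Helper8.OMP.res0 ρ.character (tvS t) =
        q * avgB (Cfsg.Agent.Lib.Helper8.OMP.res0 ρ.character) := by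
      rw [avgB_def, ← mul_assoc, mul_inv_cancel₀ hq0, one_mul]
    have e2 : ∑ t : F, (if t = 0 then (R : ℂ) else (Ff : ℂ)) = (R : ℂ) + (q - 1) * (Ff : ℂ) := by
      rw [← Finset.add_sum_erase _ _ (Finset.mem_univ (0 : F)), if_pos rfl]
      congr 1
      have h3 : ∀ t ∈ (Finset.univ : Finset F).erase 0,
          (if t = 0 then (R : ℂ) else (Ff : ℂ)) = (Ff : ℂ) := by
        intro t ht
        rw [if_neg (Finset.ne_of_mem_erase ht)]
      rw [Finset.sum_congr rfl h3, Finset.sum_const, Finset.card_erase_of_mem (Finset.mem_univ _),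
        Finset.card_univ, nsmul_eq_mul, Nat.cast_sub Fintype.card_pos, Nat.cast_one]
    rw [e1, e2]
  -- second computation
  have hsum2 : ∑ t : F, ρ.character (lev (tvS t)) = q * (a + (N0 : ℂ)) := by
    obtain ⟨w, hw⟩ := hW
    have e1 : ∀ t : F, ρ.character (lev (tvS t)) =
        ∑ B : altAdd F (m + 3), ψ (t * B.1 0 1) * mB ψ ρ.character B := by
      intro t
      have h1 : ρ.character (lev (tvS t)) = ρ.character (uQ (tE01 m t)) := by
        rw [← hw t, Representation.char_conj]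
      rw [h1, fourier_uQ ψ hψ ρ.character (tE01 m t)]
      refine Finset.sum_congr rfl fun B _ => ?_
      rw [pairAlt_tE01]
    simp_rw [e1]
    rw [Finset.sum_comm]
    have e2 : ∀ B : altAdd F (m + 3), ∑ t : F, ψ (t * B.1 0 1) * mB ψ ρ.character B =
        (if B.1 0 1 = 0 then q else 0) * mB ψ ρ.character B := by
      intro B
      rw [← Finset.sum_mul, Cfsg.Agent.Lib.Helper1.MND.orth_one ψ hψ]
    simp_rw [e2]
    rw [← Finset.add_sum_erase _ _ (Finset.mem_univ (0 : altAdd F (m + 3)))]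
    have h00 : (0 : altAdd F (m + 3)).1 0 1 = 0 := rfl
    rw [if_pos h00, mul_add]
    congr 1
    have e3 : ∀ B ∈ (Finset.univ : Finset (altAdd F (m + 3))).erase 0,
        (if B.1 0 1 = 0 then q else 0) * mB ψ ρ.character B =
          q * (if IsR2 B ∧ B.1 0 1 = 0 then (1 : ℂ) else 0) := by
      intro B hB
      have hB0 : B ≠ 0 := Finset.ne_of_mem_erase hB
      by_cases hr : IsR2 B
      · rw [hR.1 B hr]
        by_cases h01 : B.1 0 1 = 0
        · rw [if_pos h01, if_pos ⟨hr, h01⟩]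
        · rw [if_neg h01, if_neg (fun h : IsR2 B ∧ B.1 0 1 = 0 => h01 h.2), zero_mul, mul_zero]
      · rw [hR.2 B hB0 hr, if_neg (fun h : IsR2 B ∧ B.1 0 1 = 0 => hr h.1), mul_zero, mul_zero]
    rw [Finset.sum_congr rfl e3, ← Finset.mul_sum]
    congr 1
    have e4 : ∑ B ∈ (Finset.univ : Finset (altAdd F (m + 3))).erase 0,
        (if IsR2 B ∧ B.1 0 1 = 0 then (1 : ℂ) else 0) =
        ∑ B : altAdd F (m + 3), (if IsR2 B ∧ B.1 0 1 = 0 then (1 : ℂ) else 0) := by
      rw [← Finset.add_sum_erase _ _ (Finset.mem_univ (0 : altAdd F (m + 3))),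
        if_neg (fun h => not_isR2_zero h.1), zero_add]
    rw [e4, Finset.sum_boole]
  -- conclusion
  have hfin : q * (q ^ 2 - 1) * (a - avgB (Cfsg.Agent.Lib.Helper8.OMP.res0 ρ.character)) =
      q * (q ^ 2 - 1) * (q ^ (m + 2) - q ^ (m + 1)) := by
    have e := hsum1.symm.trans hsum2
    rw [c2] at e
    have c1' := c1
    rw [c2] at c1'
    linear_combination (-(q ^ 2 - 1)) * e + (1 - q) * c1' + (q - 1) * c3
  exact mul_left_cancel₀ (mul_ne_zero hq0 hq2) hfin

end Cfsg.Agent.Lib.Helper2.OMP
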