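import Mathlib
import Cfsg.Prelude.Def_Characters
import Cfsg.Agent.Lib.Helper8.OMPDefs
import Cfsg.Agent.Lib.Helper7.OMPC1
import Cfsg.Agent.Lib.Helper7.OMPC3
import Cfsg.Agent.Lib.Helper7.OMPW
import Cfsg.Agent.Lib.Helper2.OMPS2

set_option autoImplicit false
set_option linter.unusedSectionVars false
set_option linter.unusedVariables false

/-!
Farm OMP (statement S2345), unit S: `star`, verbatim (the core `star_of` with the units W, C1, C3
plugged in).
-/

namespace Cfsg.Agent.Lib.Helper2.OMP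

open Matrix Cfsg Cfsg.Agent.Lib.Helper1.MND Cfsg.Agent.Lib.Helper8.OMP

variable {F : Type*} [Field F] [Fintype F] [DecidableEq F] {m : ℕ}

/-- `dim C_X(Q) - dim C_X(Q X_β)` computed through the decomposition of `X` under the Siegel radical -/
theorem star (hm : 1 ≤ m) (ψ : AddChar F ℂ) (hψ : ∃ a, ψ a ≠ 1) {k : ℕ}
    (ρ : Representation ℂ (OG m F) (Fin k → ℂ)) (hR : ROne ψ ρ.character)
    (hcomm : ∀ B : altAdd F (m + 3), IsR2 B → (∀ j, j ≠ 1 → B.1 0 j = 0) → ∀ t : F,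
      (lev (tvS t) : OG m F) ∈ ⁅StabB B, StabB B⁆) :
    mB ψ ρ.character 0 - avgB (res0 ρ.character) =
      (Fintype.card F : ℂ) ^ (m + 2) - (Fintype.card F : ℂ) ^ (m + 1) :=
  star_of hm ψ hψ ρ hR hcomm Cfsg.Agent.Lib.Helper7.OMP.exists_wconj
    Cfsg.Agent.Lib.Helper7.OMP.card_R2 Cfsg.Agent.Lib.Helper7.OMP.card_R2_fix

end Cfsg.Agent.Lib.Helper2.OMP
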