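import Mathlib
import Cfsg.Prelude
import Cfsg.Agent.Lib.Helper1.MNDDefs

set_option autoImplicit false
set_option linter.unusedSectionVars false
set_option linter.unusedVariables false
set_option linter.style.haveILetI false

/-!
Farm OPM (statement S2345): the sharp lower bound `(q^n - 1)(q^(n-1) + q)/(q^2 - 1)` for the degrees
of the nontrivial irreducible complex representations of `Ω⁺_{2n}(q)`, `n ≥ 4`, `q > 3`.
Definitions.  Index type `Fin n ⊕ Fin n`, quadratic form `∑ x_i y_i`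
(`x = v ∘ inl`, `y = v ∘ inr`).

* `uA M = [[1, M - Mᵀ], [0, 1]]` (the Siegel unipotent radical `Q`, parametrised by ALL matrices
  `M`; `M ↦ uA M` is additive with kernel the symmetric matrices);
* `vA M = [[1, 0], [M - Mᵀ, 1]]` (the opposite radical);
* `lev B = diag (B, B⁻ᵀ)`, `B ∈ GL_n` (in `O`), `levΩ B` (in `Ω` when `det B` is a square),
  `hA A = levΩ A` for `A ∈ SL_n`;
* `eD ρ ψ D` the isotypic projector of `Q` for the character `uA M ↦ ψ (tr (D M))`
  (zero unless `D` is alternating);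
* `resQ ρ ψ A = tr (ρ (hA A) e_0)` the character of `SL_n` on the `Q`-fixed points.
-/

namespace Cfsg.Agent.Lib.Helper2.OPM

open Matrix Cfsg

/-- `O⁺_{2n}(F)` -/
abbrev OG (n : ℕ) (F : Type*) [Field F] := ↥(Cfsg.isometryGroup F (Cfsg.quadFormPlus n F))

/-- `Ω⁺_{2n}(F)` -/
abbrev Om (n : ℕ) (F : Type*) [Field F] := ↥(Cfsg.Omega F (Cfsg.quadFormPlus n F))

section elements
variable {F : Type*} [Field F] {n : ℕ}

/-- the alternating matrix `M - Mᵀ` -/
def alt (M : Matrix (Fin n) (Fin n) F) : Matrix (Fin n) (Fin n) F := M - Mᵀ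

theorem dot_alt (M : Matrix (Fin n) (Fin n) F) (x : Fin n → F) : x ⬝ᵥ (alt M *ᵥ x) = 0 := by
  unfold alt
  rw [Matrix.sub_mulVec, dotProduct_sub, Matrix.mulVec_transpose, Matrix.dotProduct_mulVec,
    dotProduct_comm (Matrix.vecMul x M) x, sub_self]

theorem quadFormPlus_eq (v : Fin n ⊕ Fin n → F) :
    quadFormPlus n F v = (fun i => v (.inl i)) ⬝ᵥ (fun i => v (.inr i)) := rfl

/-- `[[1, S], [0, 1]]` in `GL` -/
def uGL (S : Matrix (Fin n) (Fin n) F) : GL (Fin n ⊕ Fin n) F :=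
  ⟨fromBlocks 1 S 0 1, fromBlocks 1 (-S) 0 1, by simp [fromBlocks_multiply],
    by simp [fromBlocks_multiply]⟩

/-- `[[1, 0], [S, 1]]` in `GL` -/
def vGL (S : Matrix (Fin n) (Fin n) F) : GL (Fin n ⊕ Fin n) F :=
  ⟨fromBlocks 1 0 S 1, fromBlocks 1 0 (-S) 1, by simp [fromBlocks_multiply],
    by simp [fromBlocks_multiply]⟩

/-- `diag (B, B⁻ᵀ)` in `GL` -/
def levGL (B : GL (Fin n) F) : GL (Fin n ⊕ Fin n) F :=
  ⟨fromBlocks (B : Matrix (Fin n) (Fin n) F) 0 0 ((B⁻¹ : GL (Fin n) F) : Matrix (Fin n) (Fin n) F)ᵀ,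
    fromBlocks ((B⁻¹ : GL (Fin n) F) : Matrix (Fin n) (Fin n) F) 0 0 (B : Matrix (Fin n) (Fin n) F)ᵀ,
    by
      rw [fromBlocks_multiply]
      simp only [Matrix.mul_zero, Matrix.zero_mul, add_zero, zero_add]
      rw [← transpose_mul, ← Units.val_mul, mul_inv_cancel]
      simp,
    by
      rw [fromBlocks_multiply]
      simp only [Matrix.mul_zero, Matrix.zero_mul, add_zero, zero_add]
      rw [← transpose_mul, ← Units.val_mul, inv_mul_cancel]
      simp⟩

theorem uGL_mulVec (S : Matrix (Fin n) (Fin n) F) (v : Fin n ⊕ Fin n → F) :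
    ((uGL S : GL (Fin n ⊕ Fin n) F) : Matrix (Fin n ⊕ Fin n) (Fin n ⊕ Fin n) F) *ᵥ v =
      Sum.elim ((fun i => v (.inl i)) + S *ᵥ (fun i => v (.inr i))) (fun i => v (.inr i)) := by
  show fromBlocks 1 S 0 1 *ᵥ v = _
  conv_lhs => rw [← Sum.elim_comp_inl_inr v]
  rw [fromBlocks_mulVec]
  simp [Function.comp_def]

theorem vGL_mulVec (S : Matrix (Fin n) (Fin n) F) (v : Fin n ⊕ Fin n → F) :
    ((vGL S : GL (Fin n ⊕ Fin n) F) : Matrix (Fin n ⊕ Fin n) (Fin n ⊕ Fin n) F) *ᵥ v =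
      Sum.elim (fun i => v (.inl i)) (S *ᵥ (fun i => v (.inl i)) + (fun i => v (.inr i))) := by
  show fromBlocks 1 0 S 1 *ᵥ v = _
  conv_lhs => rw [← Sum.elim_comp_inl_inr v]
  rw [fromBlocks_mulVec]
  simp [Function.comp_def]

theorem levGL_mulVec (B : GL (Fin n) F) (v : Fin n ⊕ Fin n → F) :
    ((levGL B : GL (Fin n ⊕ Fin n) F) : Matrix (Fin n ⊕ Fin n) (Fin n ⊕ Fin n) F) *ᵥ v =
      Sum.elim ((B : Matrix (Fin n) (Fin n) F) *ᵥ (fun i => v (.inl i)))
        (((B⁻¹ : GL (Fin n) F) : Matrix (Fin n) (Fin n) F)ᵀ *ᵥ (fun i => v (.inr i))) := by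
  show fromBlocks _ 0 0 _ *ᵥ v = _
  conv_lhs => rw [← Sum.elim_comp_inl_inr v]
  rw [fromBlocks_mulVec]
  simp [Function.comp_def]

/-- `[[1, M - Mᵀ], [0, 1]]` in `O⁺` -/
def uO (M : Matrix (Fin n) (Fin n) F) : OG n F :=
  ⟨uGL (alt M), by
    intro v _
    show quadFormPlus n F (((uGL (alt M) : GL (Fin n ⊕ Fin n) F) :
      Matrix (Fin n ⊕ Fin n) (Fin n ⊕ Fin n) F) *ᵥ v) = quadFormPlus n F v
    rw [uGL_mulVec, quadFormPlus_eq, quadFormPlus_eq]
    simp only [Sum.elim_inl, Sum.elim_inr]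
    rw [add_dotProduct, dotProduct_comm (alt M *ᵥ _), dot_alt, add_zero]⟩

/-- `[[1, 0], [M - Mᵀ, 1]]` in `O⁺` -/
def vO (M : Matrix (Fin n) (Fin n) F) : OG n F :=
  ⟨vGL (alt M), by
    intro v _
    show quadFormPlus n F (((vGL (alt M) : GL (Fin n ⊕ Fin n) F) :
      Matrix (Fin n ⊕ Fin n) (Fin n ⊕ Fin n) F) *ᵥ v) = quadFormPlus n F v
    rw [vGL_mulVec, quadFormPlus_eq, quadFormPlus_eq]
    simp only [Sum.elim_inl, Sum.elim_inr]
    rw [dotProduct_add, dot_alt, zero_add]⟩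

/-- `diag (B, B⁻ᵀ)` in `O⁺` -/
def lev (B : GL (Fin n) F) : OG n F :=
  ⟨levGL B, by
    intro v _
    show quadFormPlus n F (((levGL B : GL (Fin n ⊕ Fin n) F) :
      Matrix (Fin n ⊕ Fin n) (Fin n ⊕ Fin n) F) *ᵥ v) = quadFormPlus n F v
    rw [levGL_mulVec, quadFormPlus_eq, quadFormPlus_eq]
    simp only [Sum.elim_inl, Sum.elim_inr]
    rw [Matrix.dotProduct_mulVec, Matrix.vecMul_transpose, Matrix.mulVec_mulVec, ← Units.val_mul,
      inv_mul_cancel, Units.val_one, Matrix.one_mulVec]⟩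

open Classical in
/-- the element `uO M` of `Ω⁺` (it lies in `Ω⁺` for `n ≥ 3`; junk value `1` otherwise) -/
noncomputable def uA (M : Matrix (Fin n) (Fin n) F) : Om n F :=
  if h : uO M ∈ Cfsg.Omega F (Cfsg.quadFormPlus n F) then ⟨uO M, h⟩ else 1

open Classical in
/-- the element `vO M` of `Ω⁺` -/
noncomputable def vA (M : Matrix (Fin n) (Fin n) F) : Om n F :=
  if h : vO M ∈ Cfsg.Omega F (Cfsg.quadFormPlus n F) then ⟨vO M, h⟩ else 1

open Classical in
/-- the element `lev B` of `Ω⁺` (it lies in `Ω⁺` when `det B` is a square; junk value `1`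
otherwise) -/
noncomputable def levΩ (B : GL (Fin n) F) : Om n F :=
  if h : lev B ∈ Cfsg.Omega F (Cfsg.quadFormPlus n F) then ⟨lev B, h⟩ else 1

/-- the Levi element `diag (A, A⁻ᵀ)`, `A ∈ SL_n` -/
noncomputable def hA (A : Matrix.SpecialLinearGroup (Fin n) F) : Om n F :=
  levΩ (Matrix.SpecialLinearGroup.toGL A)

/-- the bivector `x yᵀ - y xᵀ` -/
def wedge (x y : Fin n → F) : Matrix (Fin n) (Fin n) F := vecMulVec x y - vecMulVec y x

/-- the action of `GL_n` on the characters of `Q`: `D ↦ B⁻ᵀ D B⁻¹` -/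
def actD (B : GL (Fin n) F) (D : Matrix (Fin n) (Fin n) F) : Matrix (Fin n) (Fin n) F :=
  ((B⁻¹ : GL (Fin n) F) : Matrix (Fin n) (Fin n) F)ᵀ * D *
    ((B⁻¹ : GL (Fin n) F) : Matrix (Fin n) (Fin n) F)

/-- `D` is alternating -/
def IsAlt (D : Matrix (Fin n) (Fin n) F) : Prop := Dᵀ = -D ∧ ∀ i, D i i = 0

/-- `D` is a nonzero bivector (an alternating matrix of rank two) -/
def IsRk2 (D : Matrix (Fin n) (Fin n) F) : Prop := D ≠ 0 ∧ ∃ x y : Fin n → F, D = wedge x y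

/-- the diagonal matrix `diag (s, 1, …, 1)` (`n ≥ 1`) -/
def dg (s : Fˣ) : GL (Fin (n + 1)) F :=
  ⟨Matrix.diagonal (Function.update (fun _ => (1 : F)) 0 (s : F)),
    Matrix.diagonal (Function.update (fun _ => (1 : F)) 0 ((s⁻¹ : Fˣ) : F)), by
      rw [Matrix.diagonal_mul_diagonal, ← Matrix.diagonal_one]
      congr 1
      funext i
      by_cases h : i = 0
      · subst h; simp
      · simp [Function.update_of_ne h], by
      rw [Matrix.diagonal_mul_diagonal, ← Matrix.diagonal_one]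
      congr 1
      funext i
      by_cases h : i = 0
      · subst h; simp
      · simp [Function.update_of_ne h]⟩

/-- the transvection `1 + c E₀₁` of `SL_(m+3)` (equal to `Cfsg.Agent.Lib.Helper1.MND.tvS c`) -/
def tv01 {m : ℕ} (c : F) : Matrix.SpecialLinearGroup (Fin (m + 3)) F :=
  ⟨Matrix.transvection (0 : Fin (m + 3)) 1 c,
    Matrix.det_transvection_of_ne 0 1 (by simp) c⟩

open Classical in
/-- the finite set of alternating matrices of rank two -/
noncomputable def rk2Set (n : ℕ) (F : Type*) [Field F] [Fintype F] :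
    Finset (Matrix (Fin n) (Fin n) F) :=
  Finset.univ.filter (fun D => IsRk2 D)

open Classical in
/-- the orbit of `D` under the matrices `B ∈ GL_n` whose determinant is a square -/
noncomputable def orbD {n : ℕ} [Fintype F] (D : Matrix (Fin n) (Fin n) F) :
    Finset (Matrix (Fin n) (Fin n) F) :=
  Finset.univ.filter (fun D' => ∃ (B : GL (Fin n) F) (s : Fˣ),
    (B : Matrix (Fin n) (Fin n) F).det = (s : F) ^ 2 ∧ D' = actD B D)

theorem mem_rk2Set {n : ℕ} [Fintype F] (D : Matrix (Fin n) (Fin n) F) :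
    D ∈ rk2Set n F ↔ IsRk2 D := by
  simp only [rk2Set, Finset.mem_filter, Finset.mem_univ, true_and]

theorem mem_orbD {n : ℕ} [Fintype F] (D D' : Matrix (Fin n) (Fin n) F) :
    D' ∈ orbD D ↔ ∃ (B : GL (Fin n) F) (s : Fˣ),
      (B : Matrix (Fin n) (Fin n) F).det = (s : F) ^ 2 ∧ D' = actD B D := by
  simp only [orbD, Finset.mem_filter, Finset.mem_univ, true_and]

end elements

section rep
variable {F : Type*} [Field F] [Fintype F] [DecidableEq F] {n : ℕ}
variable {V : Type*} [AddCommGroup V] [Module ℂ V]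

/-- the isotypic projector of `Q = uA (Matrix)` for the character `uA M ↦ ψ (tr (D M))` -/
noncomputable def eD (ρ : Representation ℂ (Om n F) V) (ψ : AddChar F ℂ)
    (D : Matrix (Fin n) (Fin n) F) : Module.End ℂ V :=
  ((Fintype.card (Matrix (Fin n) (Fin n) F) : ℂ))⁻¹ • ∑ M : Matrix (Fin n) (Fin n) F,
    ψ (-(Matrix.trace (D * M))) • ρ (uA M)

/-- the character of `SL_n` on the fixed points of `Q` -/
noncomputable def resQ (ρ : Representation ℂ (Om n F) V) (ψ : AddChar F ℂ)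
    (A : Matrix.SpecialLinearGroup (Fin n) F) : ℂ :=
  LinearMap.trace ℂ V (ρ (hA A) * eD ρ ψ 0)

/-- the support of `ρ|_Q` is `{0} ∪ {rank two}` and the rank two characters have multiplicity one -/
def Supp2 (ρ : Representation ℂ (Om n F) V) (ψ : AddChar F ℂ) : Prop :=
  (∀ D : Matrix (Fin n) (Fin n) F, eD ρ ψ D ≠ 0 → D = 0 ∨ IsRk2 D) ∧
    ∀ D : Matrix (Fin n) (Fin n) F, IsRk2 D → LinearMap.trace ℂ V (eD ρ ψ D) = 1

end rep

/-- `R_n = (q^n - 1)(q^(n-1) - 1)/(q^2 - 1)`, the number of alternating matrices of rank two -/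
def rNum (q n : ℕ) : ℕ := (q ^ n - 1) * (q ^ (n - 1) - 1) / (q ^ 2 - 1)

/-- `B_n = (q^n - 1)(q^(n-1) + q)/(q^2 - 1)`, the bound -/
def bNum (q n : ℕ) : ℕ := (q ^ n - 1) * (q ^ (n - 1) + q) / (q ^ 2 - 1)

/-- the number of long root elements of `Ω⁺_{2n}(q)`:
`(q^n - 1)(q^(n-1) + 1)(q^(n-1) - 1)(q^(n-2) + 1)/(q^2 - 1)` -/
def lrNum (q n : ℕ) : ℕ :=
  (q ^ n - 1) * (q ^ (n - 1) + 1) * (q ^ (n - 1) - 1) * (q ^ (n - 2) + 1) / (q ^ 2 - 1)

end Cfsg.Agent.Lib.Helper2.OPM
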