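import Mathlib
import Cfsg.Prelude
import Cfsg.Agent.Lib.Helper5.QuadWitt
import Cfsg.Agent.Lib.Helper5.QuadIsom
import Cfsg.Agent.Lib.Helper5.OrthPlane

set_option autoImplicit false
set_option linter.unusedSectionVars false
set_option linter.unusedVariables false
open Cfsg

/-! Anti-isometries of even-dimensional quadratic spaces over finite fields: every non-degenerate
quadratic space of even dimension over a finite field carries a linear map `ψ` with
`Q (ψ x) = - Q x`. -/

namespace Cfsg.Agent.Lib.Helper2.Oev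

open Module QuadraticMap Cfsg.Agent.Lib.Helper5

universe u

section plane
variable {F : Type*} [Field F] [Fintype F] {V : Type*} [AddCommGroup V] [Module F V]

/-- an anisotropic plane has an anti-isometry (multiplication by an element of norm `-1`) -/
theorem exists_anti_plane [FiniteDimensional F V] (Q : QuadraticForm F V)
    (hd : finrank F V = 2) (han : ∀ v : V, Q v = 0 → v = 0) :
    ∃ ψ : V →ₗ[F] V, ∀ x, Q (ψ x) = - Q x := by
  classical
  let b : Basis (Fin 2) F V := Module.finBasisOfFinrankEq F V hd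
  have hb0 : b 0 ≠ 0 := b.ne_zero 0
  obtain ⟨α, hα⟩ : ∃ α, α = Q (b 0) := ⟨_, rfl⟩
  have hα0 : α ≠ 0 := by
    rw [hα]
    intro h
    exact hb0 (han _ h)
  obtain ⟨a₁, ha₁⟩ : ∃ a₁, a₁ = polar Q (b 0) (b 1) / α := ⟨_, rfl⟩
  obtain ⟨b₁, hb₁⟩ : ∃ b₁, b₁ = Q (b 1) / α := ⟨_, rfl⟩
  have hQz : ∀ z : Fin 2 → F, Q (b.equivFun.symm z) = α * OrthPlane.binForm a₁ b₁ z := by
    intro z
    rw [Basis.equivFun_symm_apply, Fin.sum_univ_two, quad_add, QuadraticMap.map_smul,
      QuadraticMap.map_smul, polar_smul_left, polar_smul_right, OrthPlane.binForm_apply, ← hα,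
      ha₁, hb₁, smul_eq_mul, smul_eq_mul, smul_eq_mul, smul_eq_mul]
    field_simp
    ring
  have hanb : ∀ v : Fin 2 → F, OrthPlane.binForm a₁ b₁ v = 0 → v = 0 := by
    intro v hv
    have h1 : Q (b.equivFun.symm v) = 0 := by rw [hQz, hv, mul_zero]
    have h2 := han _ h1
    exact (LinearEquiv.map_eq_zero_iff _).mp h2
  obtain ⟨u, hu⟩ := OrthPlane.exists_binForm_eq a₁ b₁ hanb (-1) (by simp)
  refine ⟨(b.equivFun.symm : (Fin 2 → F) →ₗ[F] V) ∘ₗ Matrix.toLin' (OrthPlane.Lmat a₁ b₁ u) ∘ₗ
    (b.equivFun : V →ₗ[F] (Fin 2 → F)), fun x => ?_⟩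
  have hx : x = b.equivFun.symm (b.equivFun x) := (LinearEquiv.symm_apply_apply _ _).symm
  have h1 : ((b.equivFun.symm : (Fin 2 → F) →ₗ[F] V) ∘ₗ Matrix.toLin' (OrthPlane.Lmat a₁ b₁ u) ∘ₗ
      (b.equivFun : V →ₗ[F] (Fin 2 → F))) x =
      b.equivFun.symm (OrthPlane.mul a₁ b₁ u (b.equivFun x)) := by
    simp only [LinearMap.coe_comp, LinearEquiv.coe_coe, Function.comp_apply, Matrix.toLin'_apply,
      OrthPlane.Lmat_mulVec]
  rw [h1, hQz, OrthPlane.binForm_mul, hu]
  conv_rhs => rw [hx, hQz]
  ring

end plane

/-- every non-degenerate quadratic space of even dimension over a finite field has an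
anti-isometry -/
theorem exists_anti {F : Type*} [Field F] [Fintype F] (n : ℕ) :
    ∀ {V : Type u} [AddCommGroup V] [Module F V] [FiniteDimensional F V] (Q : QuadraticForm F V)
      (_ : ∀ z : V, (∀ z', polar Q z z' = 0) → z = 0) (_ : finrank F V = 2 * n),
    ∃ ψ : V →ₗ[F] V, ∀ x, Q (ψ x) = - Q x := by
  induction n with
  | zero =>
    intro V _ _ _ Q hQ hd
    refine ⟨0, fun x => ?_⟩
    have : x = 0 := by
      have h0 : finrank F V = 0 := by omega
      have := Module.finrank_zero_iff.mp h0
      exact Subsingleton.elim _ _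
    rw [this]
    simp
  | succ n ih =>
    intro V _ _ _ Q hQ hd
    by_cases hs : ∃ v : V, v ≠ 0 ∧ Q v = 0
    · obtain ⟨v, hv0, hQv⟩ := hs
      obtain ⟨w, hQw, hvw⟩ := exists_partner Q hQ v hv0 hQv
      set W := pairPerp Q v w with hW
      have hdW : finrank F W = 2 * n := by
        have := finrank_pairPerp Q v w hQv hQw hvw
        rw [← hW] at this
        omega
      have hndW := nondeg_pairPerp Q hQ v w hQv hQw hvw
      have hQW : ∀ z : W, (∀ z' : W, polar (Q.comp W.subtype) z z' = 0) → z = 0 := by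
        intro z hz
        apply Subtype.ext
        apply hndW z.1 z.2
        intro z' hz'
        exact hz ⟨z', hz'⟩
      obtain ⟨ψ₂, hψ₂⟩ := ih (Q.comp W.subtype) hQW hdW
      have hwv : polar Q w v = 1 := by rw [polar_comm, hvw]
      have hvv : polar Q v v = 0 := by rw [polar_self, hQv, smul_zero]
      have hww : polar Q w w = 0 := by rw [polar_self, hQw, smul_zero]
      -- the projection onto `W`
      let pr₀ : V →ₗ[F] V := LinearMap.id - (polarBilin Q w).smulRight v - (polarBilin Q v).smulRight w
      have hpr₀ : ∀ x, pr₀ x = x - polar Q w x • v - polar Q v x • w := fun x => rfl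
      have hprW : ∀ x, pr₀ x ∈ W := by
        intro x
        rw [hW, mem_pairPerp, hpr₀]
        constructor
        · simp only [polar_sub_right, polar_smul_right, hvv, hvw, smul_eq_mul]; ring
        · simp only [polar_sub_right, polar_smul_right, hww, hwv, smul_eq_mul]; ring
      let pr : V →ₗ[F] W := LinearMap.codRestrict W pr₀ hprW
      have hpr : ∀ x, ((pr x : W) : V) = x - polar Q w x • v - polar Q v x • w := fun x => rfl
      refine ⟨(polarBilin Q w).smulRight v - (polarBilin Q v).smulRight w +
        W.subtype ∘ₗ ψ₂ ∘ₗ pr, fun x => ?_⟩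
      have hval : ((polarBilin Q w).smulRight v - (polarBilin Q v).smulRight w +
          W.subtype ∘ₗ ψ₂ ∘ₗ pr) x =
          (polar Q w x • v - polar Q v x • w) + ((ψ₂ (pr x) : W) : V) := rfl
      rw [hval]
      have hmem := (mem_pairPerp Q v w _).mp (ψ₂ (pr x)).2
      have hmem' := (mem_pairPerp Q v w _).mp (pr x).2
      have h2 : Q ((ψ₂ (pr x) : W) : V) = - Q ((pr x : W) : V) := hψ₂ (pr x)
      have hx : x = (polar Q w x • v + polar Q v x • w) + ((pr x : W) : V) := by
        rw [hpr]; abel
      have e1 : Q (polar Q w x • v - polar Q v x • w) = - (polar Q w x * polar Q v x) := by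
        rw [sub_eq_add_neg, ← neg_smul, quad_add, QuadraticMap.map_smul, QuadraticMap.map_smul,
          hQv, hQw, polar_smul_left, polar_smul_right, hvw]
        simp only [smul_eq_mul]; ring
      have e2 : Q (polar Q w x • v + polar Q v x • w) = polar Q w x * polar Q v x := by
        rw [quad_add, QuadraticMap.map_smul, QuadraticMap.map_smul,
          hQv, hQw, polar_smul_left, polar_smul_right, hvw]
        simp only [smul_eq_mul]; ring
      have e3 : polar Q (polar Q w x • v - polar Q v x • w) ((ψ₂ (pr x) : W) : V) = 0 := by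
        rw [polar_sub_left, polar_smul_left, polar_smul_left, hmem.1, hmem.2]
        simp
      have e4 : polar Q (polar Q w x • v + polar Q v x • w) ((pr x : W) : V) = 0 := by
        rw [polar_add_left, polar_smul_left, polar_smul_left, hmem'.1, hmem'.2]
        simp
      rw [quad_add, e1, e3, h2]
      conv_rhs => rw [hx, quad_add, e2, e4]
      ring
    · -- anisotropic: dimension two
      have han : ∀ v : V, Q v = 0 → v = 0 := by
        intro v hv
        by_contra h0
        exact hs ⟨v, h0, hv⟩
      have hd2 : finrank F V = 2 := by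
        by_contra hne
        have h3 : 3 ≤ finrank F V := by omega
        obtain ⟨v, hv0, hQv⟩ := exists_singular Q h3
        exact hs ⟨v, hv0, hQv⟩
      exact exists_anti_plane Q hd2 han

end Cfsg.Agent.Lib.Helper2.Oev
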