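import Mathlib
import Cfsg.Prelude
import Cfsg.Agent.Lib.Helper2.OevA
import Cfsg.Agent.Lib.Helper5.SumTwoSq

set_option autoImplicit false
set_option linter.unusedSectionVars false
set_option linter.unusedVariables false
open Cfsg

/-! Totally singular subspaces of prescribed dimension inside orthogonal sums of isometric blocks:
two isometric blocks with an anti-isometry, four isometric blocks (`a² + b² = -1`), and additivity
over orthogonal sums.  Consequences for the type of the whole space. -/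

namespace Cfsg.Agent.Lib.Helper2.Oev

open Module QuadraticMap Cfsg.Agent.Lib.Helper5

variable {ι : Type} [Fintype ι] [DecidableEq ι] {F : Type*} [Field F]
  {Q : QuadraticForm F (ι → F)}

/-- `W` contains a totally singular subspace of dimension `d` -/
def HasTS (Q : QuadraticForm F (ι → F)) (W : Submodule F (ι → F)) (d : ℕ) : Prop :=
  ∃ U : Submodule F (ι → F), U ≤ W ∧ (∀ u ∈ U, Q u = 0) ∧ finrank F U = d

/-- the non-degeneracy of a subspace in kernel form -/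
def ND (Q : QuadraticForm F (ι → F)) (W : Submodule F (ι → F)) : Prop :=
  ∀ w ∈ W, (∀ w' ∈ W, polar ⇑Q w w' = 0) → w = 0

theorem nd_of_nondegOn {W : Submodule F (ι → F)}
    (hW : Cfsg.Geo.IsNondegenerateOn (polar ⇑Q) W) : ND Q W := by
  intro w hw hzero
  by_contra h0
  obtain ⟨x, hx, hne⟩ := (hW w hw h0).2
  exact hne (hzero x hx)

theorem nondegOn_of_nd {W : Submodule F (ι → F)} (hW : ND Q W) :
    Cfsg.Geo.IsNondegenerateOn (polar ⇑Q) W := by
  intro w hw h0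
  have : ∃ x ∈ W, polar ⇑Q w x ≠ 0 := by
    by_contra hcon
    push Not at hcon
    exact h0 (hW w hw hcon)
  obtain ⟨x, hx, hne⟩ := this
  exact ⟨⟨x, hx, by rw [polar_comm]; exact hne⟩, ⟨x, hx, hne⟩⟩

theorem hasTS_bot : HasTS Q ⊥ 0 := ⟨⊥, le_rfl, fun u hu => by
  rw [Submodule.mem_bot] at hu; rw [hu, map_zero], finrank_bot F (ι → F)⟩

theorem HasTS.mono {W W' : Submodule F (ι → F)} {d : ℕ} (h : HasTS Q W d) (hle : W ≤ W') :
    HasTS Q W' d := by
  obtain ⟨U, hU, hts, hd⟩ := h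
  exact ⟨U, hU.trans hle, hts, hd⟩

/-- additivity over orthogonal sums -/
theorem HasTS.sup {W W' : Submodule F (ι → F)} {d d' : ℕ} (h : HasTS Q W d) (h' : HasTS Q W' d')
    (horth : ∀ x ∈ W, ∀ y ∈ W', polar ⇑Q x y = 0) (hdis : Disjoint W W') :
    HasTS Q (W ⊔ W') (d + d') := by
  obtain ⟨U, hU, hts, hd⟩ := h
  obtain ⟨U', hU', hts', hd'⟩ := h'
  refine ⟨U ⊔ U', sup_le_sup hU hU', ?_, ?_⟩
  · intro u hu
    obtain ⟨x, hx, y, hy, rfl⟩ := Submodule.mem_sup.mp hu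
    rw [quad_add, hts x hx, hts' y hy, horth x (hU hx) y (hU' hy)]
    simp
  · have hdis' : U ⊓ U' = ⊥ := (hdis.mono hU hU').eq_bot
    have := Submodule.finrank_sup_add_finrank_inf_eq U U'
    rw [hdis', finrank_bot] at this
    omega

/-- a totally singular subspace from an injective linear map into the zero set -/
theorem hasTS_of_map {X : Type*} [AddCommGroup X] [Module F X] [FiniteDimensional F X]
    (Φ : X →ₗ[F] (ι → F)) (hΦ : ∀ x, Q (Φ x) = 0) (hinj : Function.Injective Φ)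
    (W : Submodule F (ι → F)) (hW : ∀ x, Φ x ∈ W) : HasTS Q W (finrank F X) := by
  refine ⟨LinearMap.range Φ, ?_, ?_, LinearMap.finrank_range_of_inj hinj⟩
  · rintro _ ⟨x, rfl⟩
    exact hW x
  · rintro _ ⟨x, rfl⟩
    exact hΦ x

theorem plus_top_of_hasTS {d : ℕ} (h : HasTS Q ⊤ d) (hd : 2 * d = Fintype.card ι) :
    Cfsg.Geo.IsPlusTypeOn ⇑Q ⊤ := by
  obtain ⟨U, hU, hts, hdU⟩ := h
  refine ⟨U, hU, hts, ?_⟩
  rw [hdU, finrank_top, Module.finrank_fintype_fun_eq_card]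
  exact hd

theorem plus_of_hasTS {W : Submodule F (ι → F)} {d : ℕ} (h : HasTS Q W d)
    (hd : 2 * d = finrank F W) : Cfsg.Geo.IsPlusTypeOn ⇑Q W := by
  obtain ⟨U, hU, hts, hdU⟩ := h
  exact ⟨U, hU, hts, by rw [hdU]; exact hd⟩

theorem hasTS_of_plus {W : Submodule F (ι → F)} (h : Cfsg.Geo.IsPlusTypeOn ⇑Q W) :
    HasTS Q W (finrank F W / 2) := by
  obtain ⟨U, hU, hts, hdU⟩ := h
  exact ⟨U, hU, hts, by omega⟩

section pair

variable {W W' : Submodule F (ι → F)}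

/-- two orthogonal isometric blocks with an anti-isometry of the first one -/
theorem hasTS_pair (e : W ≃ₗ[F] W') (he : ∀ w : W, Q ((e w : W') : ι → F) = Q (w : ι → F))
    (ψ : W →ₗ[F] W) (hψ : ∀ w : W, Q ((ψ w : W) : ι → F) = - Q (w : ι → F))
    (horth : ∀ x ∈ W, ∀ y ∈ W', polar ⇑Q x y = 0) (hnd : ND Q W) :
    HasTS Q (W ⊔ W') (finrank F W) := by
  let Φ : W →ₗ[F] (ι → F) := W.subtype + W'.subtype ∘ₗ (e : W →ₗ[F] W') ∘ₗ ψ
  have hΦ : ∀ w : W, Φ w = (w : ι → F) + ((e (ψ w) : W') : ι → F) := fun w => rfl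
  refine hasTS_of_map Φ ?_ ?_ _ ?_
  · intro w
    rw [hΦ, quad_add, he, hψ, horth _ w.2 _ (e (ψ w)).2]
    ring
  · rw [← LinearMap.ker_eq_bot, LinearMap.ker_eq_bot']
    intro w hw
    apply Subtype.ext
    apply hnd _ w.2
    intro w' hw'
    have h1 : polar ⇑Q (Φ w) w' = 0 := by rw [hw, polar_zero_left]
    rw [hΦ, polar_add_left, polar_comm ⇑Q ((e (ψ w) : W') : ι → F) w',
      horth w' hw' _ (e (ψ w)).2, add_zero] at h1
    exact h1
  · intro w
    rw [hΦ]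
    exact Submodule.add_mem _ (Submodule.mem_sup_left w.2) (Submodule.mem_sup_right (e (ψ w)).2)

/-- two orthogonal isometric non-degenerate blocks of even dimension over a finite field -/
theorem hasTS_pair_even [Fintype F] (e : W ≃ₗ[F] W')
    (he : ∀ w : W, Q ((e w : W') : ι → F) = Q (w : ι → F))
    (horth : ∀ x ∈ W, ∀ y ∈ W', polar ⇑Q x y = 0) (hnd : ND Q W) {n : ℕ}
    (hdim : finrank F W = 2 * n) : HasTS Q (W ⊔ W') (finrank F W) := by
  have hQW : ∀ z : W, (∀ z' : W, polar (Q.comp W.subtype) z z' = 0) → z = 0 := by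
    intro z hz
    apply Subtype.ext
    apply hnd z.1 z.2
    intro z' hz'
    exact hz ⟨z', hz'⟩
  obtain ⟨ψ, hψ⟩ := exists_anti n (Q.comp W.subtype) hQW hdim
  exact hasTS_pair e he ψ (fun w => hψ w) horth hnd

/-- two orthogonal isometric non-degenerate blocks when `-1` is a square -/
theorem hasTS_pair_sq (e : W ≃ₗ[F] W')
    (he : ∀ w : W, Q ((e w : W') : ι → F) = Q (w : ι → F))
    (horth : ∀ x ∈ W, ∀ y ∈ W', polar ⇑Q x y = 0) (hnd : ND Q W) (i : F) (hi : i * i = -1) :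
    HasTS Q (W ⊔ W') (finrank F W) := by
  refine hasTS_pair e he (i • LinearMap.id) (fun w => ?_) horth hnd
  show Q (i • (w : ι → F)) = _
  rw [QuadraticMap.map_smul, hi]
  simp

end pair

/-- `-1` is a sum of two squares in every finite field -/
theorem exists_sq_add_sq_neg_one [Fintype F] : ∃ a b : F, a * a + b * b = -1 := by
  by_cases h : Fintype.card F % 2 = 1
  · obtain ⟨a, b, hab⟩ := Cfsg.Agent.Lib.Helper5.SumTwoSq.exists_sq_add_sq h (-1 : F)
    exact ⟨a, b, by rw [← hab]; ring⟩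
  · have h0 : Fintype.card F % 2 = 0 := by omega
    have h2 : ringChar F = 2 := FiniteField.even_card_iff_char_two.mpr h0
    haveI : CharP F 2 := by rw [← h2]; exact ringChar.charP F
    refine ⟨1, 0, ?_⟩
    have : (2 : F) = 0 := CharTwo.two_eq_zero
    linear_combination this

section four

variable {W₁ W₂ W₃ W₄ : Submodule F (ι → F)}

/-- four pairwise orthogonal isometric blocks -/
theorem hasTS_four [Fintype F] (e₂ : W₁ ≃ₗ[F] W₂) (e₃ : W₁ ≃ₗ[F] W₃) (e₄ : W₁ ≃ₗ[F] W₄)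
    (he₂ : ∀ w : W₁, Q ((e₂ w : W₂) : ι → F) = Q (w : ι → F))
    (he₃ : ∀ w : W₁, Q ((e₃ w : W₃) : ι → F) = Q (w : ι → F))
    (he₄ : ∀ w : W₁, Q ((e₄ w : W₄) : ι → F) = Q (w : ι → F))
    (h12 : ∀ x ∈ W₁, ∀ y ∈ W₂, polar ⇑Q x y = 0) (h13 : ∀ x ∈ W₁, ∀ y ∈ W₃, polar ⇑Q x y = 0)
    (h14 : ∀ x ∈ W₁, ∀ y ∈ W₄, polar ⇑Q x y = 0) (h23 : ∀ x ∈ W₂, ∀ y ∈ W₃, polar ⇑Q x y = 0)
    (h24 : ∀ x ∈ W₂, ∀ y ∈ W₄, polar ⇑Q x y = 0) (h34 : ∀ x ∈ W₃, ∀ y ∈ W₄, polar ⇑Q x y = 0)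
    (hnd : ND Q W₁) : HasTS Q (W₁ ⊔ W₂ ⊔ W₃ ⊔ W₄) (2 * finrank F W₁) := by
  obtain ⟨a, b, hab⟩ := exists_sq_add_sq_neg_one (F := F)
  let Φ : (W₁ × W₁) →ₗ[F] (ι → F) :=
    W₁.subtype ∘ₗ LinearMap.fst F W₁ W₁ + W₂.subtype ∘ₗ (e₂ : W₁ →ₗ[F] W₂) ∘ₗ LinearMap.snd F W₁ W₁ +
    W₃.subtype ∘ₗ (e₃ : W₁ →ₗ[F] W₃) ∘ₗ (a • LinearMap.fst F W₁ W₁ + b • LinearMap.snd F W₁ W₁) +
    W₄.subtype ∘ₗ (e₄ : W₁ →ₗ[F] W₄) ∘ₗ (b • LinearMap.fst F W₁ W₁ - a • LinearMap.snd F W₁ W₁)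
  have hΦ : ∀ p : W₁ × W₁, Φ p = (p.1 : ι → F) + ((e₂ p.2 : W₂) : ι → F) +
      ((e₃ (a • p.1 + b • p.2) : W₃) : ι → F) + ((e₄ (b • p.1 - a • p.2) : W₄) : ι → F) :=
    fun p => rfl
  have hpol : ∀ (e : W₁ ≃ₗ[F] W₂) (he : ∀ w : W₁, Q ((e w : W₂) : ι → F) = Q (w : ι → F))
      (x y : W₁), polar ⇑Q ((e x : W₂) : ι → F) ((e y : W₂) : ι → F) =
        polar ⇑Q (x : ι → F) (y : ι → F) := by
    intro e he x y
    have h1 := he (x + y)
    rw [map_add] at h1
    simp only [polar]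
    rw [← Submodule.coe_add, ← Submodule.coe_add, h1, he, he]
  have hdim : finrank F (W₁ × W₁) = 2 * finrank F W₁ := by
    rw [Module.finrank_prod]; ring
  rw [← hdim]
  refine hasTS_of_map Φ ?_ ?_ _ ?_
  · rintro ⟨x, y⟩
    rw [hΦ]
    simp only
    have e3 : Q ((e₃ (a • x + b • y) : W₃) : ι → F) =
        a * a * Q (x : ι → F) + b * b * Q (y : ι → F) +
          a * b * polar ⇑Q (x : ι → F) (y : ι → F) := by
      rw [he₃, Submodule.coe_add, Submodule.coe_smul, Submodule.coe_smul, quad_add,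
        QuadraticMap.map_smul, QuadraticMap.map_smul, polar_smul_left, polar_smul_right]
      simp only [smul_eq_mul]; ring
    have e4 : Q ((e₄ (b • x - a • y) : W₄) : ι → F) =
        b * b * Q (x : ι → F) + a * a * Q (y : ι → F) -
          a * b * polar ⇑Q (x : ι → F) (y : ι → F) := by
      have hsub : b • x - a • y = b • x + (-a) • y := by
        rw [sub_eq_add_neg]; congr 1; exact (neg_smul a y).symm
      rw [he₄, hsub, Submodule.coe_add, Submodule.coe_smul,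
        Submodule.coe_smul, quad_add,
        QuadraticMap.map_smul, QuadraticMap.map_smul, polar_smul_left, polar_smul_right]
      simp only [smul_eq_mul]; ring
    rw [quad_add, quad_add, quad_add, he₂, e3, e4, h12 _ x.2 _ (e₂ y).2,
      polar_add_left, polar_add_left, polar_add_left, h13 _ x.2 _ (e₃ _).2,
      h23 _ (e₂ y).2 _ (e₃ _).2, h14 _ x.2 _ (e₄ _).2, h24 _ (e₂ y).2 _ (e₄ _).2,
      h34 _ (e₃ _).2 _ (e₄ _).2]
    linear_combination (Q (x : ι → F) + Q (y : ι → F)) * hab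
  · rw [← LinearMap.ker_eq_bot, LinearMap.ker_eq_bot']
    rintro ⟨x, y⟩ hw
    have hx : x = 0 := by
      apply Subtype.ext
      apply hnd _ x.2
      intro w' hw'
      have h1 : polar ⇑Q (Φ (x, y)) w' = 0 := by rw [hw, polar_zero_left]
      rw [hΦ] at h1
      simp only at h1
      rw [polar_add_left, polar_add_left, polar_add_left,
        polar_comm ⇑Q ((e₂ y : W₂) : ι → F) w', h12 w' hw' _ (e₂ y).2,
        polar_comm ⇑Q ((e₃ _ : W₃) : ι → F) w', h13 w' hw' _ (e₃ _).2,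
        polar_comm ⇑Q ((e₄ _ : W₄) : ι → F) w', h14 w' hw' _ (e₄ _).2] at h1
      simpa using h1
    have hy : y = 0 := by
      apply Subtype.ext
      apply hnd _ y.2
      intro w' hw'
      have h1 : polar ⇑Q (Φ (x, y)) ((e₂ ⟨w', hw'⟩ : W₂) : ι → F) = 0 := by
        rw [hw, polar_zero_left]
      rw [hΦ] at h1
      simp only at h1
      rw [polar_add_left, polar_add_left, polar_add_left, h12 _ x.2 _ (e₂ _).2,
        polar_comm ⇑Q ((e₃ _ : W₃) : ι → F) _, h23 _ (e₂ _).2 _ (e₃ _).2,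
        polar_comm ⇑Q ((e₄ _ : W₄) : ι → F) _, h24 _ (e₂ _).2 _ (e₄ _).2, hpol e₂ he₂] at h1
      simpa using h1
    rw [hx, hy]
    rfl
  · intro p
    rw [hΦ]
    refine Submodule.add_mem _ (Submodule.add_mem _ (Submodule.add_mem _ ?_ ?_) ?_) ?_
    · exact Submodule.mem_sup_left (Submodule.mem_sup_left (Submodule.mem_sup_left p.1.2))
    · exact Submodule.mem_sup_left (Submodule.mem_sup_left (Submodule.mem_sup_right (e₂ _).2))
    · exact Submodule.mem_sup_left (Submodule.mem_sup_right (e₃ _).2)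
    · exact Submodule.mem_sup_right (e₄ _).2

end four

end Cfsg.Agent.Lib.Helper2.Oev
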