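import Mathlib
import Cfsg.Prelude
import Cfsg.Agent.Lib.Helper2.OevB

set_option autoImplicit false
set_option linter.unusedSectionVars false
set_option linter.unusedVariables false
open Cfsg

/-! Totally singular subspaces of half the dimension from orthogonal decompositions into an even
number of isometric blocks: grouping the blocks in pairs or in fours. -/

namespace Cfsg.Agent.Lib.Helper2.Oev

open Module QuadraticMap Cfsg.Agent.Lib.Helper5

variable {ι : Type} [Fintype ι] [DecidableEq ι] {F : Type*} [Field F]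
  {Q : QuadraticForm F (ι → F)}

/-- orthogonality of two subspaces for the polar form -/
def Orth (Q : QuadraticForm F (ι → F)) (W W' : Submodule F (ι → F)) : Prop :=
  ∀ x ∈ W, ∀ y ∈ W', polar ⇑Q x y = 0

theorem Orth.symm {W W' : Submodule F (ι → F)} (h : Orth Q W W') : Orth Q W' W := by
  intro x hx y hy
  rw [polar_comm]
  exact h y hy x hx

theorem Orth.sup_right {W W₁ W₂ : Submodule F (ι → F)} (h1 : Orth Q W W₁) (h2 : Orth Q W W₂) :
    Orth Q W (W₁ ⊔ W₂) := by
  intro x hx y hy
  obtain ⟨y₁, hy₁, y₂, hy₂, rfl⟩ := Submodule.mem_sup.1 hy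
  rw [polar_add_right, h1 x hx y₁ hy₁, h2 x hx y₂ hy₂, add_zero]

theorem Orth.sup_left {W W₁ W₂ : Submodule F (ι → F)} (h1 : Orth Q W₁ W) (h2 : Orth Q W₂ W) :
    Orth Q (W₁ ⊔ W₂) W :=
  (Orth.sup_right h1.symm h2.symm).symm

theorem Orth.mono {W₁ W₂ W₁' W₂' : Submodule F (ι → F)} (h : Orth Q W₁ W₂) (h1 : W₁' ≤ W₁)
    (h2 : W₂' ≤ W₂) : Orth Q W₁' W₂' :=
  fun x hx y hy => h x (h1 hx) y (h2 hy)

theorem orth_bot_right (W : Submodule F (ι → F)) : Orth Q W ⊥ := by
  intro x hx y hy
  rw [Submodule.mem_bot] at hy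
  rw [hy, polar_zero_right]

theorem disjoint_of_orth {W W' : Submodule F (ι → F)} (hnd : ND Q W) (h : Orth Q W W') :
    Disjoint W W' := by
  rw [Submodule.disjoint_def]
  intro x hx hx'
  exact hnd x hx (fun w' hw' => by rw [polar_comm]; exact h w' hw' x hx')

theorem ND.sup {W W' : Submodule F (ι → F)} (h1 : ND Q W) (h2 : ND Q W') (h : Orth Q W W') :
    ND Q (W ⊔ W') := by
  intro x hx hzero
  obtain ⟨w, hw, w', hw', rfl⟩ := Submodule.mem_sup.1 hx
  have e1 : w = 0 := by
    apply h1 w hw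
    intro y hy
    have := hzero y (Submodule.mem_sup_left hy)
    rw [polar_add_left, h.symm w' hw' y hy, add_zero] at this
    exact this
  have e2 : w' = 0 := by
    apply h2 w' hw'
    intro y hy
    have := hzero y (Submodule.mem_sup_right hy)
    rw [polar_add_left, h w hw y hy, zero_add] at this
    exact this
  rw [e1, e2, add_zero]

theorem nd_bot : ND Q (⊥ : Submodule F (ι → F)) := by
  intro w hw _
  exact (Submodule.mem_bot F).1 hw

theorem HasTS.sup' {W W' : Submodule F (ι → F)} {d d' : ℕ} (h : HasTS Q W d) (h' : HasTS Q W' d')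
    (horth : Orth Q W W') (hnd : ND Q W) : HasTS Q (W ⊔ W') (d + d') :=
  HasTS.sup h h' horth (disjoint_of_orth hnd horth)

/-- totally singular subspaces of an orthogonal sum of non-degenerate subspaces -/
theorem hasTS_finset_sup {κ : Type} [DecidableEq κ] (s : Finset κ)
    (W : κ → Submodule F (ι → F)) (d : κ → ℕ)
    (hts : ∀ j ∈ s, HasTS Q (W j) (d j)) (hnd : ∀ j ∈ s, ND Q (W j))
    (horth : ∀ i ∈ s, ∀ j ∈ s, i ≠ j → Orth Q (W i) (W j)) :
    HasTS Q (s.sup W) (∑ j ∈ s, d j) ∧ ND Q (s.sup W) ∧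
      ∀ i, i ∉ s → (∀ j ∈ s, Orth Q (W i) (W j)) → Orth Q (W i) (s.sup W) := by
  induction s using Finset.induction_on with
  | empty =>
    refine ⟨?_, ?_, ?_⟩
    · rw [Finset.sup_empty, Finset.sum_empty]; exact hasTS_bot
    · rw [Finset.sup_empty]; exact nd_bot
    · intro i _ _
      rw [Finset.sup_empty]; exact orth_bot_right _
  | insert a s ha ih =>
    obtain ⟨ih1, ih2, ih3⟩ := ih (fun j hj => hts j (Finset.mem_insert_of_mem hj))
      (fun j hj => hnd j (Finset.mem_insert_of_mem hj))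
      (fun i hi j hj hij => horth i (Finset.mem_insert_of_mem hi) j
        (Finset.mem_insert_of_mem hj) hij)
    have hao : Orth Q (W a) (s.sup W) := ih3 a ha (fun j hj =>
      horth a (Finset.mem_insert_self a s) j (Finset.mem_insert_of_mem hj)
        (fun h => ha (h ▸ hj)))
    refine ⟨?_, ?_, ?_⟩
    · rw [Finset.sup_insert, Finset.sum_insert ha]
      exact HasTS.sup' (hts a (Finset.mem_insert_self a s)) ih1 hao
        (hnd a (Finset.mem_insert_self a s))
    · rw [Finset.sup_insert]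
      exact ND.sup (hnd a (Finset.mem_insert_self a s)) ih2 hao
    · intro i hi hall
      rw [Finset.sup_insert]
      refine Orth.sup_right (hall a (Finset.mem_insert_self a s)) ?_
      exact ih3 i (fun h => hi (Finset.mem_insert_of_mem h))
        (fun j hj => hall j (Finset.mem_insert_of_mem hj))

/-- grouping the blocks of a decomposition -/
theorem hasTS_top_of_groups {κ : Type} [Fintype κ] [DecidableEq κ]
    (W : κ → Submodule F (ι → F)) (d : κ → ℕ)
    (hts : ∀ j, HasTS Q (W j) (d j)) (hnd : ∀ j, ND Q (W j))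
    (horth : ∀ i j, i ≠ j → Orth Q (W i) (W j)) :
    HasTS Q ⊤ (∑ j, d j) := by
  obtain ⟨h1, -, -⟩ := hasTS_finset_sup (Q := Q) Finset.univ W d (fun j _ => hts j)
    (fun j _ => hnd j) (fun i _ j _ hij => horth i j hij)
  exact h1.mono le_top

section decomp

variable {t k : ℕ} {D : Fin t → Submodule F (ι → F)}

theorem orth_of_decomp (hD : Cfsg.Geo.IsOrthogonalMDecomposition ⇑Q k D) {i j : Fin t}
    (hij : i ≠ j) : Orth Q (D i) (D j) :=
  hD.decomp.orthogonal i j hij

theorem nd_of_decomp (hD : Cfsg.Geo.IsOrthogonalMDecomposition ⇑Q k D) (i : Fin t) :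
    ND Q (D i) :=
  nd_of_nondegOn (hD.decomp.nondegenerate i)

/-- an even number of blocks, each pair of which carries a totally singular subspace of the
dimension of a block -/
theorem hasTS_top_of_pairs (hD : Cfsg.Geo.IsOrthogonalMDecomposition ⇑Q k D) {m : ℕ}
    (ht : t = 2 * m) (hpair : ∀ i j : Fin t, i ≠ j → HasTS Q (D i ⊔ D j) k) :
    HasTS Q ⊤ (m * k) := by
  subst ht
  have h := hasTS_top_of_groups (Q := Q) (κ := Fin m)
    (fun j => D ⟨2 * j.val, by have := j.isLt; omega⟩ ⊔ D ⟨2 * j.val + 1, by have := j.isLt; omega⟩)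
    (fun _ => k) (fun j => hpair _ _ (by intro h; have := congrArg Fin.val h; simp at this))
    (fun j => ND.sup (nd_of_decomp hD _) (nd_of_decomp hD _)
      (orth_of_decomp hD (by intro h; have := congrArg Fin.val h; simp at this)))
    (fun i j hij => by
      have hne : i.val ≠ j.val := fun h => hij (Fin.ext h)
      refine Orth.sup_left (Orth.sup_right ?_ ?_) (Orth.sup_right ?_ ?_) <;>
      · apply orth_of_decomp hD
        intro h
        have := congrArg Fin.val h
        simp at this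
        omega)
  simpa using h

/-- a number of blocks divisible by four, each four of which carry a totally singular subspace of
twice the dimension of a block -/
theorem hasTS_top_of_fours (hD : Cfsg.Geo.IsOrthogonalMDecomposition ⇑Q k D) {m : ℕ}
    (ht : t = 4 * m)
    (hfour : ∀ i₁ i₂ i₃ i₄ : Fin t, i₁ ≠ i₂ → i₁ ≠ i₃ → i₁ ≠ i₄ → i₂ ≠ i₃ → i₂ ≠ i₄ → i₃ ≠ i₄ →
      HasTS Q (D i₁ ⊔ D i₂ ⊔ D i₃ ⊔ D i₄) (2 * k)) :
    HasTS Q ⊤ (m * (2 * k)) := by
  subst ht
  have hne : ∀ {a b : ℕ} {ha : a < 4 * m} {hb : b < 4 * m}, a ≠ b →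
      (⟨a, ha⟩ : Fin (4 * m)) ≠ ⟨b, hb⟩ := fun hab h => hab (congrArg Fin.val h)
  have h := hasTS_top_of_groups (Q := Q) (κ := Fin m)
    (fun j => D ⟨4 * j.val, by have := j.isLt; omega⟩ ⊔ D ⟨4 * j.val + 1, by have := j.isLt; omega⟩
      ⊔ D ⟨4 * j.val + 2, by have := j.isLt; omega⟩ ⊔ D ⟨4 * j.val + 3, by have := j.isLt; omega⟩)
    (fun _ => 2 * k)
    (fun j => hfour _ _ _ _ (hne (by omega)) (hne (by omega)) (hne (by omega)) (hne (by omega))
      (hne (by omega)) (hne (by omega)))
    (fun j => by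
      refine ND.sup (ND.sup (ND.sup (nd_of_decomp hD _) (nd_of_decomp hD _) ?_)
        (nd_of_decomp hD _) (Orth.sup_left ?_ ?_)) (nd_of_decomp hD _)
        (Orth.sup_left (Orth.sup_left ?_ ?_) ?_) <;>
      exact orth_of_decomp hD (hne (by omega)))
    (fun i j hij => by
      have hne' : i.val ≠ j.val := fun h => hij (Fin.ext h)
      refine Orth.sup_left (Orth.sup_left (Orth.sup_left ?_ ?_) ?_) ?_ <;>
      refine Orth.sup_right (Orth.sup_right (Orth.sup_right ?_ ?_) ?_) ?_ <;>
      exact orth_of_decomp hD (hne (by omega)))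
  simpa using h

end decomp

end Cfsg.Agent.Lib.Helper2.Oev
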