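import Mathlib
import Cfsg.Prelude
import Cfsg.Agent.Lib.Helper2.OevC
import Cfsg.Agent.Lib.Helper5.OrthFrameThree

set_option autoImplicit false
set_option linter.unusedSectionVars false
set_option linter.unusedVariables false
open Cfsg

/-! Orthogonal decompositions into an even number of isometric blocks force the plus type. -/

namespace Cfsg.Agent.Lib.Helper2.Oev

open Module QuadraticMap Cfsg.Agent.Lib.Helper5

variable {ι : Type} [Fintype ι] [DecidableEq ι] {F : Type*} [Field F] [Fintype F]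
  {Q : QuadraticForm F (ι → F)} {t k : ℕ} {D : Fin t → Submodule F (ι → F)}

theorem card_blocks (hD : Cfsg.Geo.IsOrthogonalMDecomposition ⇑Q k D) :
    t * k = Fintype.card ι :=
  Cfsg.Agent.Lib.Helper5.OrthFrameThree.card_blocks' hD.decomp.decomp

/-- an even number of isometric blocks of even dimension -/
theorem plus_of_even_blocks (hD : Cfsg.Geo.IsOrthogonalMDecomposition ⇑Q k D)
    (hk : Even k) (ht : Even t) : Cfsg.Geo.IsPlusTypeOn ⇑Q ⊤ := by
  obtain ⟨m, hm⟩ := ht
  obtain ⟨n, hn⟩ := hk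
  have ht' : t = 2 * m := by omega
  have h := hasTS_top_of_pairs hD ht' (fun i j hij => by
    obtain ⟨e, he⟩ := hD.isometric i j
    have := hasTS_pair_even e he (orth_of_decomp hD hij) (nd_of_decomp hD i) (n := n)
      (by rw [hD.decomp.decomp.finrank_eq]; omega)
    rwa [hD.decomp.decomp.finrank_eq] at this)
  refine plus_top_of_hasTS h ?_
  rw [← card_blocks hD, ht']
  ring

/-- a number of isometric blocks divisible by four -/
theorem plus_of_four_blocks (hD : Cfsg.Geo.IsOrthogonalMDecomposition ⇑Q k D)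
    (ht : 4 ∣ t) : Cfsg.Geo.IsPlusTypeOn ⇑Q ⊤ := by
  obtain ⟨m, hm⟩ := ht
  have h := hasTS_top_of_fours hD hm (fun i₁ i₂ i₃ i₄ h12 h13 h14 h23 h24 h34 => by
    obtain ⟨e₂, he₂⟩ := hD.isometric i₁ i₂
    obtain ⟨e₃, he₃⟩ := hD.isometric i₁ i₃
    obtain ⟨e₄, he₄⟩ := hD.isometric i₁ i₄
    have := hasTS_four e₂ e₃ e₄ he₂ he₃ he₄ (orth_of_decomp hD h12) (orth_of_decomp hD h13)
      (orth_of_decomp hD h14) (orth_of_decomp hD h23) (orth_of_decomp hD h24)
      (orth_of_decomp hD h34) (nd_of_decomp hD i₁)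
    rwa [hD.decomp.decomp.finrank_eq] at this)
  refine plus_top_of_hasTS h ?_
  rw [← card_blocks hD, hm]
  ring

/-- an even number of isometric blocks when `-1` is a square -/
theorem plus_of_sq_blocks (hD : Cfsg.Geo.IsOrthogonalMDecomposition ⇑Q k D)
    (ht : Even t) (i : F) (hi : i * i = -1) : Cfsg.Geo.IsPlusTypeOn ⇑Q ⊤ := by
  obtain ⟨m, hm⟩ := ht
  have ht' : t = 2 * m := by omega
  have h := hasTS_top_of_pairs hD ht' (fun a b hab => by
    obtain ⟨e, he⟩ := hD.isometric a b
    have := hasTS_pair_sq e he (orth_of_decomp hD hab) (nd_of_decomp hD a) i hi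
    rwa [hD.decomp.decomp.finrank_eq] at this)
  refine plus_top_of_hasTS h ?_
  rw [← card_blocks hD, ht']
  ring

/-- a pair of complementary totally singular subspaces -/
theorem plus_of_ts_pair {D : Fin 2 → Submodule F (ι → F)} (hD : Cfsg.Geo.IsMDecomposition k D)
    (hts : ∀ i, Cfsg.Geo.IsTotallySingularQuad ⇑Q (D i)) : Cfsg.Geo.IsPlusTypeOn ⇑Q ⊤ := by
  refine ⟨D 0, le_top, hts 0, ?_⟩
  rw [hD.finrank_eq, finrank_top, Module.finrank_fintype_fun_eq_card]
  exact Cfsg.Agent.Lib.Helper5.OrthFrameThree.card_blocks' hD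

end Cfsg.Agent.Lib.Helper2.Oev
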