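import Mathlib
import Cfsg.Prelude
import Cfsg.Agent.Lib.Helper5.OrthSingularMax
import Cfsg.Agent.Lib.Helper5.OrthDecompSiegel

set_option autoImplicit false
set_option linter.unusedSectionVars false
set_option linter.unusedVariables false
open Cfsg

/-! Properness of the geometric classes in `Ω(Q)`: subspace stabilisers and stabilisers of
decompositions never contain `Ω(Q)`; the maximality trick. -/

namespace Cfsg.Agent.Lib.Helper2.Omx

open Matrix QuadraticMap Module Cfsg.Agent.Lib.Helper5.CartanDieudonne Cfsg.Agent.Lib.Helper5.Refl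
  Cfsg.Agent.Lib.Helper5.Siegel Cfsg.Agent.Lib.Helper5.QuadIsom
  Cfsg.Agent.Lib.Helper5.ReflGen Cfsg.Agent.Lib.Helper5.Eichler Cfsg.Agent.Lib.Helper5.SingGeom
  Cfsg.Agent.Lib.Helper5.OmegaGen Cfsg.Agent.Lib.Helper5.OmegaSimple
  Cfsg.Agent.Lib.Helper5.SpSingularMax Cfsg.Agent.Lib.Helper5.OrthSingularMax
  Cfsg.Agent.Lib.Helper5.OrthDecompSiegel

section trick
variable {G : Type*} [Group G]

theorem eq_inf_of_le {S H X : Subgroup G} (hH : Cfsg.Geo.IsMaximalIn S H) (hle : H ≤ X)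
    (hX : ¬ S ≤ X) : H = X ⊓ S := by
  rcases hH.2 (X ⊓ S) (le_inf hle hH.1.le) inf_le_right with h | h
  · exact h.symm
  · exact absurd (inf_eq_right.1 h) hX

end trick

variable {ι : Type} [Fintype ι] [DecidableEq ι] {F : Type*} [Field F] [Fintype F]
  {Q : QuadraticForm F (ι → F)}

/-- a subgroup containing all Siegel transformations contains `Ω` -/
theorem omegaGL_le_of_siegel (H : Hyp Q) {M : Subgroup (Matrix.GeneralLinearGroup ι F)}
    (h : ∀ (u v : ι → F) (hu : Q u = 0) (hv : Q v = 0) (huv : polar ⇑Q u v = 0) (c : F),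
      ((siegel Q u v hu hv huv c : ↥(isometryGroup F ⇑Q)) : Matrix.GeneralLinearGroup ι F) ∈ M) :
    Cfsg.Geo.omegaGL ⇑Q ≤ M := by
  intro g hg
  obtain ⟨a, ha, rfl⟩ := (mem_omegaGL_iff Q g).mp hg
  have haT : a ∈ T Q := by
    rw [← commutator_eq_T Q H.nondeg H.card5 H.siegel_mem]
    exact ha
  have key : ∀ t : ↥(isometryGroup F ⇑Q), t ∈ T Q →
      (t : Matrix.GeneralLinearGroup ι F) ∈ M := by
    intro t ht
    unfold T at ht
    induction ht using Subgroup.closure_induction with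
    | mem t ht' =>
      obtain ⟨u, v, c, hu, hv, huv, rfl⟩ := eq_siegel_of_mem_rootSet Q t ht'
      exact h u v hu hv huv c
    | one => exact one_mem M
    | mul a b _ _ ha hb => exact M.mul_mem ha hb
    | inv a _ ha => exact M.inv_mem ha
  exact key a haT

/-- a singular vector not orthogonal to a given non-zero vector -/
theorem exists_sing_not_perp (H : Hyp Q) (w : ι → F) (hw : w ≠ 0) :
    ∃ u, Q u = 0 ∧ polar ⇑Q u w ≠ 0 := by
  by_contra hcon
  push Not at hcon
  obtain ⟨e, f, he, hf, hef⟩ := exists_hyp_pair H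
  apply hw
  apply H.nondeg.1 w
  intro x
  obtain ⟨s, a, b, hs, rfl⟩ := sing_decomp e f he hf hef x
  rw [polarBilin_apply_apply, polar_add_right, polar_add_right, polar_smul_right,
    polar_smul_right, polar_comm _ w s, polar_comm _ w e, polar_comm _ w f, hcon s hs, hcon e he,
    hcon f hf]
  simp

/-- `Ω` stabilises no proper non-zero subspace -/
theorem not_le_stab (H : Hyp Q) (W : Submodule F (ι → F)) (h0 : W ≠ ⊥) (h1 : W ≠ ⊤) :
    ¬ Cfsg.Geo.omegaGL ⇑Q ≤ Cfsg.Geo.subspaceStabilizer W := by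
  intro hle
  have h5 := H.finrank5
  obtain ⟨w, hwW, hw0⟩ := (Submodule.ne_bot_iff W).1 h0
  have hsing : ∃ s ∈ W, s ≠ 0 ∧ Q s = 0 := by
    by_cases hQw : Q w = 0
    · exact ⟨w, hwW, hw0, hQw⟩
    · obtain ⟨u, hu, huw⟩ := exists_sing_not_perp H w hw0
      have hfin := finrank_perp2 Q u w
      obtain ⟨z, hzP, hz0, hQz⟩ := exists_singular_in Q (perp2 Q u w) (by omega)
      rw [mem_perp2] at hzP
      have hmem := hle (eich_mem_omegaGL H u z hu hzP.1)
      have h2 := ((mem_stab_iff W _).mp hmem w).mp hwW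
      have e1 : (((eich Q u z hu hzP.1 : ↥(isometryGroup F ⇑Q)) :
          Matrix.GeneralLinearGroup ι F) : Matrix ι ι F) *ᵥ w = eichlerMap Q u z w :=
        act_eich Q u z hu hzP.1 w
      rw [e1, eichlerMap_apply, hQz, polar_comm _ z w, hzP.2] at h2
      simp only [zero_mul, add_zero, neg_zero, zero_smul] at h2
      have h3 : polar ⇑Q u w • z ∈ W := (Submodule.add_mem_iff_right _ hwW).mp h2
      refine ⟨z, ?_, hz0, hQz⟩
      have := W.smul_mem (polar ⇑Q u w)⁻¹ h3
      rwa [smul_smul, inv_mul_cancel₀ huw, one_smul] at this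
  obtain ⟨s, hsW, hs0, hQs⟩ := hsing
  have hall : ∀ s', Q s' = 0 → s' ∈ W := by
    intro s' hQs'
    by_cases hs'0 : s' = 0
    · rw [hs'0]; exact W.zero_mem
    obtain ⟨g, hg, a, ha, hga⟩ := move H s s' hs0 hs'0 hQs hQs'
    have hmem : (g : Matrix.GeneralLinearGroup ι F) ∈ Cfsg.Geo.subspaceStabilizer W :=
      hle ((mem_omegaGL_iff Q _).mpr ⟨g, hg, rfl⟩)
    have h2 := ((mem_stab_iff W _).mp hmem s).mp hsW
    have h3 : a • s' ∈ W := by rw [← hga]; exact h2
    have := W.smul_mem a⁻¹ h3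
    rwa [smul_smul, inv_mul_cancel₀ ha, one_smul] at this
  apply h1
  rw [eq_top_iff]
  intro x _
  obtain ⟨e, f, he, hf, hef⟩ := exists_hyp_pair H
  obtain ⟨s, a, b, hs, rfl⟩ := sing_decomp e f he hf hef x
  exact W.add_mem (W.add_mem (hall s hs) (W.smul_mem a (hall e he))) (W.smul_mem b (hall f hf))

/-- a Siegel transformation `g` satisfies `(g - 1)² = 0` -/
theorem siegel_sq (u v : ι → F) (hu : Q u = 0) (hv : Q v = 0) (huv : polar ⇑Q u v = 0) (c : F)
    (x : ι → F) :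
    (((siegel Q u v hu hv huv c : ↥(isometryGroup F ⇑Q)) : Matrix.GeneralLinearGroup ι F) :
      Matrix ι ι F) *ᵥ ((((siegel Q u v hu hv huv c : ↥(isometryGroup F ⇑Q)) :
        Matrix.GeneralLinearGroup ι F) : Matrix ι ι F) *ᵥ x) =
      (2 : F) • ((((siegel Q u v hu hv huv c : ↥(isometryGroup F ⇑Q)) :
        Matrix.GeneralLinearGroup ι F) : Matrix ι ι F) *ᵥ x) - x := by
  have huu : polar ⇑Q u u = 0 := polar_self_of_sing Q u hu
  have hvv : polar ⇑Q v v = 0 := polar_self_of_sing Q v hv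
  have hvu : polar ⇑Q v u = 0 := by rw [polar_comm]; exact huv
  rw [siegel_mulVec, siegel_mulVec]
  simp only [polar_add_right, polar_sub_right, polar_smul_right, huu, hvv, huv, hvu, smul_eq_mul,
    mul_zero, add_zero, sub_zero]
  module

section decomp
variable {t k : ℕ} {D : Fin t → Submodule F (ι → F)}

/-- an element `g` of the stabiliser of a decomposition with `(g - 1)² = 0` fixes every block
(odd characteristic) -/
theorem block_fixed (h2 : (2 : F) ≠ 0) (hD : Cfsg.Geo.IsMDecomposition k D)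
    (g : Matrix.GeneralLinearGroup ι F)
    (hg2 : ∀ x, (g : Matrix ι ι F) *ᵥ ((g : Matrix ι ι F) *ᵥ x) =
      (2 : F) • ((g : Matrix ι ι F) *ᵥ x) - x)
    (hg : g ∈ Cfsg.Geo.decompositionStabilizer D) (i : Fin t) :
    ∀ x ∈ D i, (g : Matrix ι ι F) *ᵥ x ∈ D i := by
  obtain ⟨σ, hσ⟩ := hg
  have hmap : ∀ (j : Fin t) (y : ι → F), y ∈ D j → (g : Matrix ι ι F) *ᵥ y ∈ D (σ j) := by
    intro j y hy
    rw [← hσ j]
    exact ⟨y, hy, by rw [Matrix.toLin'_apply]⟩
  have hinj : ∀ a : ι → F, (g : Matrix ι ι F) *ᵥ a = 0 → a = 0 := by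
    intro a ha
    have := congrArg (fun y => ((g⁻¹ : Matrix.GeneralLinearGroup ι F) : Matrix ι ι F) *ᵥ y) ha
    simp only [mulVec_mulVec, mulVec_zero] at this
    rw [← Units.val_mul, inv_mul_cancel, Units.val_one, one_mulVec] at this
    exact this
  have hfix : σ i = i := by
    by_contra hne
    have hpos := hD.pos
    have hDi : D i ≠ ⊥ := by
      intro h
      have := hD.finrank_eq i
      rw [h, finrank_bot] at this
      omega
    obtain ⟨x, hx, hx0⟩ := (Submodule.ne_bot_iff (D i)).1 hDi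
    have hσj : σ (σ i) ≠ σ i := fun h => hne (σ.injective h)
    have hy : (g : Matrix ι ι F) *ᵥ x ∈ D (σ i) := hmap i x hx
    have hz : (g : Matrix ι ι F) *ᵥ ((g : Matrix ι ι F) *ᵥ x) ∈ D (σ (σ i)) := hmap (σ i) _ hy
    have hsum : (2 : F) • ((g : Matrix ι ι F) *ᵥ x) =
        x + (g : Matrix ι ι F) *ᵥ ((g : Matrix ι ι F) *ᵥ x) := by
      rw [hg2 x]; abel
    have hle1 : D i ≤ ⨆ l, ⨆ (_ : l ≠ σ i), D l :=
      le_iSup₂_of_le i (fun h => hne h.symm) le_rfl
    have hle2 : D (σ (σ i)) ≤ ⨆ l, ⨆ (_ : l ≠ σ i), D l :=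
      le_iSup₂_of_le (σ (σ i)) hσj le_rfl
    have hmem1 : (2 : F) • ((g : Matrix ι ι F) *ᵥ x) ∈ D (σ i) := (D (σ i)).smul_mem _ hy
    have hmem2 : (2 : F) • ((g : Matrix ι ι F) *ᵥ x) ∈ ⨆ l, ⨆ (_ : l ≠ σ i), D l := by
      rw [hsum]
      exact Submodule.add_mem _ (hle1 hx) (hle2 hz)
    have hdisj := hD.indep (σ i)
    have h0 : (2 : F) • ((g : Matrix ι ι F) *ᵥ x) = 0 := by
      have := hdisj.le_bot ⟨hmem1, hmem2⟩
      simpa using this
    have h1 : (g : Matrix ι ι F) *ᵥ x = 0 := by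
      rcases smul_eq_zero.mp h0 with h | h
      · exact absurd h h2
      · exact h
    exact hx0 (hinj x h1)
  intro x hx
  have := hmap i x hx
  rwa [hfix] at this

/-- `Ω` stabilises no decomposition (odd characteristic) -/
theorem not_le_decomp (H : Hyp Q) (h2 : (2 : F) ≠ 0) (hD : Cfsg.Geo.IsMDecomposition k D) :
    ¬ Cfsg.Geo.omegaGL ⇑Q ≤ Cfsg.Geo.decompositionStabilizer D := by
  intro hle
  have ht := hD.two_le
  have hpos := hD.pos
  obtain ⟨i0, hi0⟩ : ∃ i0 : Fin t, i0 = ⟨0, by omega⟩ := ⟨_, rfl⟩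
  obtain ⟨i1, hi1⟩ : ∃ i1 : Fin t, i1 = ⟨1, by omega⟩ := ⟨_, rfl⟩
  have hne : i0 ≠ i1 := by
    rw [hi0, hi1]
    intro h
    have := Fin.mk.inj_iff.mp h
    omega
  have hle' : Cfsg.Geo.omegaGL ⇑Q ≤ Cfsg.Geo.subspaceStabilizer (D i0) := by
    apply omegaGL_le_of_siegel H
    intro u v hu hv huv c
    apply mem_stab_of_map_le
    exact block_fixed h2 hD _ (siegel_sq u v hu hv huv c)
      (hle (siegel_mem_omegaGL H u v hu hv huv c)) i0
  refine not_le_stab H (D i0) ?_ ?_ hle'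
  · intro h
    have := hD.finrank_eq i0
    rw [h, finrank_bot] at this
    omega
  · intro h
    have hd : Disjoint (D i0) (D i1) := hD.indep.pairwiseDisjoint hne
    rw [h, top_disjoint] at hd
    have := hD.finrank_eq i1
    rw [hd, finrank_bot] at this
    omega

end decomp

end Cfsg.Agent.Lib.Helper2.Omx
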