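import Mathlib
import Cfsg.Prelude
import Cfsg.Agent.Lib.Helper2.OmxA

set_option autoImplicit false
set_option linter.unusedSectionVars false
set_option linter.unusedVariables false
open Cfsg

/-! Properness of subfield groups in `Ω(Q)`, scalars in `Ω(Q)` in odd dimension, and the degree of
a field subalgebra. -/

namespace Cfsg.Agent.Lib.Helper2.Omx

open Matrix QuadraticMap Module Cfsg.Agent.Lib.Helper5.CartanDieudonne Cfsg.Agent.Lib.Helper5.Refl
  Cfsg.Agent.Lib.Helper5.Siegel Cfsg.Agent.Lib.Helper5.QuadIsom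
  Cfsg.Agent.Lib.Helper5.ReflGen Cfsg.Agent.Lib.Helper5.Eichler Cfsg.Agent.Lib.Helper5.SingGeom
  Cfsg.Agent.Lib.Helper5.OmegaGen Cfsg.Agent.Lib.Helper5.OmegaSimple
  Cfsg.Agent.Lib.Helper5.SpSingularMax Cfsg.Agent.Lib.Helper5.OrthSingularMax
  Cfsg.Agent.Lib.Helper5.OrthDecompSiegel

open scoped commutatorElement

variable {ι : Type} [Fintype ι] [DecidableEq ι] {F : Type*} [Field F]

/-- scalar matrices are central -/
theorem scalars_comm {z : Matrix.GeneralLinearGroup ι F} (hz : z ∈ Cfsg.Geo.scalars ι F)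
    (g : Matrix.GeneralLinearGroup ι F) : z * g = g * z := by
  obtain ⟨c, hc⟩ := (Cfsg.Geo.mem_scalars_iff z).1 hz
  apply Units.ext
  rw [Units.val_mul, Units.val_mul, hc, Matrix.smul_mul, Matrix.one_mul, Matrix.mul_smul,
    Matrix.mul_one]

theorem comm_mul_central_left {G : Type*} [Group G] {z : G} (hz : ∀ g, z * g = g * z) (a b : G) :
    ⁅a * z, b⁆ = ⁅a, b⁆ := by
  rw [commutatorElement_def, commutatorElement_def, _root_.mul_inv_rev]
  calc a * z * b * (z⁻¹ * a⁻¹) * b⁻¹ = a * (z * b) * z⁻¹ * a⁻¹ * b⁻¹ := by group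
    _ = a * (b * z) * z⁻¹ * a⁻¹ * b⁻¹ := by rw [hz b]
    _ = a * b * a⁻¹ * b⁻¹ := by group

theorem comm_mul_central_right {G : Type*} [Group G] {z : G} (hz : ∀ g, z * g = g * z) (a b : G) :
    ⁅a, b * z⁆ = ⁅a, b⁆ := by
  rw [commutatorElement_def, commutatorElement_def, _root_.mul_inv_rev]
  calc a * (b * z) * a⁻¹ * (z⁻¹ * b⁻¹) = a * b * (z * a⁻¹) * z⁻¹ * b⁻¹ := by group
    _ = a * b * (a⁻¹ * z) * z⁻¹ * b⁻¹ := by rw [hz a⁻¹]
    _ = a * b * a⁻¹ * b⁻¹ := by group

/-- commutators of `R · scalars` lie in `R` -/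
theorem comm_sup_scalars_le (R : Subgroup (Matrix.GeneralLinearGroup ι F)) :
    ⁅R ⊔ Cfsg.Geo.scalars ι F, R ⊔ Cfsg.Geo.scalars ι F⁆ ≤ R := by
  rw [Subgroup.commutator_le]
  intro g₁ h₁ g₂ h₂
  obtain ⟨y₁, hy₁, z₁, hz₁, rfl⟩ := Subgroup.mem_sup_of_normal_right.1 h₁
  obtain ⟨y₂, hy₂, z₂, hz₂, rfl⟩ := Subgroup.mem_sup_of_normal_right.1 h₂
  rw [comm_mul_central_left (scalars_comm hz₁), comm_mul_central_right (scalars_comm hz₂)]
  rw [commutatorElement_def]
  exact R.mul_mem (R.mul_mem (R.mul_mem hy₁ hy₂) (R.inv_mem hy₁)) (R.inv_mem hy₂)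

section field
variable [Fintype F] {Q : QuadraticForm F (ι → F)}

theorem siegel_mem_comm (H : Hyp Q) (u v : ι → F) (hu : Q u = 0) (hv : Q v = 0)
    (huv : polar ⇑Q u v = 0) (c : F) :
    ((siegel Q u v hu hv huv c : ↥(isometryGroup F ⇑Q)) : Matrix.GeneralLinearGroup ι F) ∈
      ⁅Cfsg.Geo.omegaGL ⇑Q, Cfsg.Geo.omegaGL ⇑Q⁆ := by
  have h := Subgroup.mem_map_of_mem (isometryGroup F ⇑Q).subtype (H.siegel_mem2 u v hu hv huv c)
  rw [Subgroup.map_commutator] at h
  exact h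

/-- a Siegel transformation that is not the identity, with a witness -/
theorem exists_siegel_pair (H : Hyp Q) : ∃ (u v x : ι → F), Q u = 0 ∧ Q v = 0 ∧
    polar ⇑Q u v = 0 ∧ polar ⇑Q u x = 1 ∧ polar ⇑Q v x = 0 ∧ v ≠ 0 := by
  obtain ⟨e, f, he, hf, hef⟩ := exists_hyp_pair H
  have h5 := H.finrank5
  have hfin := finrank_perp2 Q e f
  obtain ⟨z, hzP, hz0, hQz⟩ := exists_singular_in Q (perp2 Q e f) (by omega)
  rw [mem_perp2] at hzP
  exact ⟨e, z, f, he, hQz, hzP.1, hef, by rw [polar_comm]; exact hzP.2, hz0⟩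

/-- `Ω` lies in no subfield group -/
theorem not_le_subfield (H : Hyp Q) (F₀ : Subfield F) (hF₀ : F₀ ≠ ⊤)
    (P : Matrix.GeneralLinearGroup ι F) :
    ¬ Cfsg.Geo.omegaGL ⇑Q ≤ Cfsg.Geo.subfieldSubgroup F₀ P := by
  intro hle
  have hcomm : ⁅Cfsg.Geo.omegaGL ⇑Q, Cfsg.Geo.omegaGL ⇑Q⁆ ≤
      ((Matrix.GeneralLinearGroup.map (F₀.subtype : F₀ →+* F)).range).map
        (MulAut.conj P).toMonoidHom := by
    refine (Subgroup.commutator_mono hle hle).trans ?_
    unfold Cfsg.Geo.subfieldSubgroup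
    rw [← Subgroup.map_commutator]
    exact Subgroup.map_mono (comm_sup_scalars_le _)
  obtain ⟨u, v, x, hu, hv, huv, hux, hvx, hv0⟩ := exists_siegel_pair H
  obtain ⟨N₀, hN₀⟩ : ∃ N₀ : Matrix ι ι F, N₀ =
    Matrix.vecMulVec v (polarVec ⇑Q u) - Matrix.vecMulVec u (polarVec ⇑Q v) := ⟨_, rfl⟩
  have hmat : ∀ c : F, siegelMatrix ⇑Q u v c = 1 + c • N₀ := fun c => by rw [hN₀]; rfl
  have hent : ∀ (c : F) (a b : ι), (((P⁻¹ : Matrix.GeneralLinearGroup ι F) : Matrix ι ι F) *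
      (1 + c • N₀) * (P : Matrix ι ι F)) a b ∈ F₀ := by
    intro c a b
    obtain ⟨y, ⟨y₀, rfl⟩, hy⟩ := hcomm (siegel_mem_comm H u v hu hv huv c)
    have h1 : P * (Matrix.GeneralLinearGroup.map (F₀.subtype : F₀ →+* F) y₀) * P⁻¹ =
      ((siegel Q u v hu hv huv c : ↥(isometryGroup F ⇑Q)) : Matrix.GeneralLinearGroup ι F) := hy
    have h2 : (Matrix.GeneralLinearGroup.map (F₀.subtype : F₀ →+* F) y₀ :
        Matrix.GeneralLinearGroup ι F) =
        P⁻¹ * ((siegel Q u v hu hv huv c : ↥(isometryGroup F ⇑Q)) :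
          Matrix.GeneralLinearGroup ι F) * P := by
      rw [← h1]; group
    have h3 : ((Matrix.GeneralLinearGroup.map (F₀.subtype : F₀ →+* F) y₀ :
        Matrix.GeneralLinearGroup ι F) : Matrix ι ι F) =
        ((P⁻¹ : Matrix.GeneralLinearGroup ι F) : Matrix ι ι F) * (1 + c • N₀) *
          (P : Matrix ι ι F) := by
      rw [h2, Units.val_mul, Units.val_mul, siegel_coe, hmat]
    rw [← h3]
    show F₀.subtype _ ∈ F₀
    exact Subtype.prop _
  obtain ⟨N', hN'⟩ : ∃ N' : Matrix ι ι F, N' =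
    ((P⁻¹ : Matrix.GeneralLinearGroup ι F) : Matrix ι ι F) * N₀ * (P : Matrix ι ι F) := ⟨_, rfl⟩
  have hexp : ∀ c : F, ((P⁻¹ : Matrix.GeneralLinearGroup ι F) : Matrix ι ι F) *
      (1 + c • N₀) * (P : Matrix ι ι F) = 1 + c • N' := by
    intro c
    rw [hN', Matrix.mul_add, Matrix.add_mul, Matrix.mul_one, ← Units.val_mul, inv_mul_cancel,
      Units.val_one, Matrix.mul_smul, Matrix.smul_mul]
  have hone : ∀ a b : ι, (1 : Matrix ι ι F) a b ∈ F₀ := by
    intro a b
    rw [Matrix.one_apply]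
    split_ifs
    · exact F₀.one_mem
    · exact F₀.zero_mem
  have hcN' : ∀ (c : F) (a b : ι), c * N' a b ∈ F₀ := by
    intro c a b
    have h1 := hent c a b
    rw [hexp, Matrix.add_apply, Matrix.smul_apply, smul_eq_mul] at h1
    have h2 := F₀.sub_mem h1 (hone a b)
    rwa [add_sub_cancel_left] at h2
  have hN'mem : ∀ a b : ι, N' a b ∈ F₀ := by
    intro a b
    have := hcN' 1 a b
    rwa [one_mul] at this
  have hN'0 : N' ≠ 0 := by
    intro h
    have hN0 : N₀ = 0 := by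
      have e1 : N₀ = (P : Matrix ι ι F) * N' *
          ((P⁻¹ : Matrix.GeneralLinearGroup ι F) : Matrix ι ι F) := by
        rw [hN']
        calc N₀ = ((P : Matrix ι ι F) * ((P⁻¹ : Matrix.GeneralLinearGroup ι F) : Matrix ι ι F)) *
              N₀ * ((P : Matrix ι ι F) *
                ((P⁻¹ : Matrix.GeneralLinearGroup ι F) : Matrix ι ι F)) := by
              rw [← Units.val_mul, mul_inv_cancel, Units.val_one, Matrix.one_mul, Matrix.mul_one]
          _ = _ := by simp only [Matrix.mul_assoc]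
      rw [e1, h, Matrix.mul_zero, Matrix.zero_mul]
    have h1 := siegelMatrix_mulVec Q u v 1 x
    rw [hmat, hN0, smul_zero, add_zero, one_mulVec, hux, hvx, mul_zero, zero_smul, sub_zero,
      mul_one, one_smul] at h1
    exact hv0 (by simpa using h1)
  obtain ⟨a, b, hab⟩ : ∃ a b, N' a b ≠ 0 := by
    by_contra hcon
    push Not at hcon
    exact hN'0 (Matrix.ext hcon)
  apply hF₀
  rw [eq_top_iff]
  intro c _
  have h1 := hcN' c a b
  have h2 := F₀.mul_mem h1 (F₀.inv_mem (hN'mem a b))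
  rwa [mul_assoc, mul_inv_cancel₀ hab, mul_one] at h2

/-- in odd dimension `Ω` contains no scalar except the identity -/
theorem scalars_inf_omegaGL (H : Hyp Q) (hodd : Odd (Fintype.card ι)) :
    Cfsg.Geo.scalars ι F ⊓ Cfsg.Geo.omegaGL ⇑Q = ⊥ := by
  rw [eq_bot_iff]
  rintro g ⟨hgZ, hgΩ⟩
  rw [Subgroup.mem_bot]
  obtain ⟨c, hc⟩ := (Cfsg.Geo.mem_scalars_iff g).1 hgZ
  obtain ⟨a, ha, rfl⟩ := (mem_omegaGL_iff Q g).mp hgΩ
  obtain ⟨z, hz, -, -⟩ := exists_aniso_perp2 Q H.nondeg H.finrank5 0 0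
  have hQ := quad_act Q a z
  have hact : act Q a z = (c : F) • z := by
    show ((a : Matrix.GeneralLinearGroup ι F) : Matrix ι ι F) *ᵥ z = _
    rw [hc, Matrix.smul_mulVec, one_mulVec]
  rw [hact, QuadraticMap.map_smul, smul_eq_mul] at hQ
  have hcc : (c : F) * c = 1 := by
    have : ((c : F) * c) * Q z = 1 * Q z := by rw [one_mul]; exact hQ
    exact mul_right_cancel₀ hz this
  have hdet : Matrix.GeneralLinearGroup.det (a : Matrix.GeneralLinearGroup ι F) = 1 := by
    have := Abelianization.commutator_subset_ker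
      (Matrix.GeneralLinearGroup.det.comp (isometryGroup F ⇑Q).subtype) ha
    exact this
  have hdet' : ((a : Matrix.GeneralLinearGroup ι F) : Matrix ι ι F).det = 1 := by
    have := congrArg Units.val hdet
    simpa using this
  rw [hc, Matrix.det_smul, Matrix.det_one, mul_one] at hdet'
  obtain ⟨k, hk⟩ := hodd
  rw [hk, pow_succ, pow_mul, _root_.sq, hcc, one_pow, one_mul] at hdet'
  apply Units.ext
  rw [hc, hdet', one_smul]
  rfl

end field

section fielddeg

/-- the degree of a field acting on `F^ι` divides `|ι|` -/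
theorem finrank_dvd_of_algHom' {L : Type*} [Field L] [Algebra F L]
    (φ : L →ₐ[F] Matrix ι ι F) (hpos : 0 < finrank F L) : finrank F L ∣ Fintype.card ι := by
  letI modL : Module L (ι → F) := Module.compHom (ι → F)
    ((((Matrix.toLinAlgEquiv' : Matrix ι ι F ≃ₐ[F] Module.End F (ι → F)) :
      Matrix ι ι F →ₐ[F] Module.End F (ι → F)).comp φ) :
        L →+* Module.End F (ι → F))
  have hsmul : ∀ (l : L) (x : ι → F), l • x = (φ l) *ᵥ x := fun l x => rfl
  haveI : IsScalarTower F L (ι → F) := by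
    refine ⟨fun c l x => ?_⟩
    rw [hsmul, hsmul, map_smul, Matrix.smul_mulVec]
  haveI : FiniteDimensional F L := Module.finite_of_finrank_pos hpos
  haveI : FiniteDimensional L (ι → F) :=
    Module.Finite.of_restrictScalars_finite F L (ι → F)
  have hmul : finrank F L * finrank L (ι → F) = Fintype.card ι := by
    rw [Module.finrank_mul_finrank F L (ι → F), Module.finrank_fintype_fun_eq_card]
  exact ⟨_, hmul.symm⟩

theorem dvd_of_fieldSubalgebra' {r : ℕ} (hr : 0 < r) {K : Subalgebra F (Matrix ι ι F)}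
    (hK : Cfsg.Geo.IsFieldSubalgebra r K) : r ∣ Fintype.card ι := by
  classical
  have hfld : IsField ↥K := by
    refine ⟨?_, ?_, ?_⟩
    · haveI : Nontrivial ↥K := by
        apply (Module.finrank_pos_iff (R := F)).mp
        rw [hK.finrank_eq]
        exact hr
      exact exists_pair_ne ↥K
    · intro x y
      exact Subtype.ext (hK.comm x.1 x.2 y.1 y.2)
    · intro a ha
      have ha' : a.1 ≠ 0 := fun h => ha (Subtype.ext h)
      obtain ⟨y, hy, hay⟩ := hK.inv a.1 a.2 ha'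
      exact ⟨⟨y, hy⟩, Subtype.ext hay⟩
  letI : Field ↥K := hfld.toField
  have hfr : Module.finrank F ↥K = r := hK.finrank_eq
  have h := finrank_dvd_of_algHom' (F := F) (L := ↥K) (ι := ι) K.val (by rw [hfr]; exact hr)
  rwa [hfr] at h

end fielddeg

end Cfsg.Agent.Lib.Helper2.Omx
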