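import Mathlib
import Cfsg.Prelude
import Cfsg.Agent.Lib.Helper2.OmxB

set_option autoImplicit false
set_option linter.unusedSectionVars false
set_option linter.unusedVariables false
open Cfsg

/-! `Ω(Q)` does not normalise a proper extension field inside the matrix algebra. -/

namespace Cfsg.Agent.Lib.Helper2.Omx

open Matrix QuadraticMap Module Cfsg.Agent.Lib.Helper5.CartanDieudonne Cfsg.Agent.Lib.Helper5.Refl
  Cfsg.Agent.Lib.Helper5.Siegel Cfsg.Agent.Lib.Helper5.QuadIsom
  Cfsg.Agent.Lib.Helper5.ReflGen Cfsg.Agent.Lib.Helper5.Eichler Cfsg.Agent.Lib.Helper5.SingGeom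
  Cfsg.Agent.Lib.Helper5.OmegaGen Cfsg.Agent.Lib.Helper5.OmegaSimple
  Cfsg.Agent.Lib.Helper5.SpSingularMax Cfsg.Agent.Lib.Helper5.OrthSingularMax
  Cfsg.Agent.Lib.Helper5.OrthDecompSiegel

variable {ι : Type} [Fintype ι] [DecidableEq ι] {F : Type*} [Field F]

theorem mat_ext_mulVec {A B : Matrix ι ι F} (h : ∀ x, A *ᵥ x = B *ᵥ x) : A = B := by
  apply Matrix.toLin'.injective
  apply LinearMap.ext
  intro x
  rw [Matrix.toLin'_apply, Matrix.toLin'_apply, h x]

/-- the nilpotent part of a Siegel transformation -/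
def sN (Q : QuadraticForm F (ι → F)) (u v : ι → F) : Matrix ι ι F :=
  Matrix.vecMulVec v (polarVec ⇑Q u) - Matrix.vecMulVec u (polarVec ⇑Q v)

variable {Q : QuadraticForm F (ι → F)}

theorem siegelMatrix_eq (u v : ι → F) (c : F) : siegelMatrix ⇑Q u v c = 1 + c • sN Q u v := rfl

theorem sN_mulVec (u v x : ι → F) :
    sN Q u v *ᵥ x = polar ⇑Q u x • v - polar ⇑Q v x • u := by
  have h := siegelMatrix_mulVec Q u v 1 x
  rw [siegelMatrix_eq, one_smul, add_mulVec, one_mulVec, one_mul, one_mul, add_sub_assoc] at h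
  exact add_left_cancel h

theorem sN_sq (u v : ι → F) (hu : Q u = 0) (hv : Q v = 0) (huv : polar ⇑Q u v = 0) :
    sN Q u v * sN Q u v = 0 := by
  have huu : polar ⇑Q u u = 0 := polar_self_of_sing Q u hu
  have hvv : polar ⇑Q v v = 0 := polar_self_of_sing Q v hv
  have hvu : polar ⇑Q v u = 0 := by rw [polar_comm]; exact huv
  apply mat_ext_mulVec
  intro x
  rw [← Matrix.mulVec_mulVec, sN_mulVec u v x, sN_mulVec, zero_mulVec]
  simp only [polar_sub_right, polar_smul_right, huu, hvv, huv, hvu, smul_eq_mul, mul_zero,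
    sub_zero, zero_smul]

section fieldalg
variable {r : ℕ} {K : Subalgebra F (Matrix ι ι F)}

theorem eq_zero_of_sq_eq_zero (hK : Cfsg.Geo.IsFieldSubalgebra r K) {x : Matrix ι ι F}
    (hx : x ∈ K) (h : x * x = 0) : x = 0 := by
  by_contra hne
  obtain ⟨y, -, hy⟩ := hK.inv x hx hne
  apply hne
  calc x = x * (x * y) := by rw [hy, Matrix.mul_one]
    _ = (x * x) * y := by rw [Matrix.mul_assoc]
    _ = 0 := by rw [h, Matrix.zero_mul]

/-- a square-zero matrix `N` such that `1 ± N` normalise a field subalgebra commutes with it -/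
theorem comm_of_normalizes (hK : Cfsg.Geo.IsFieldSubalgebra r K) (h2 : (2 : F) ≠ 0)
    (N : Matrix ι ι F) (hNN : N * N = 0)
    (hnorm : ∀ k ∈ K, (1 + N) * k * (1 - N) ∈ K ∧ (1 - N) * k * (1 + N) ∈ K) :
    ∀ k ∈ K, N * k = k * N := by
  have hB : ∀ k ∈ K, N * k * N = 0 := by
    intro k hk
    obtain ⟨h1, h3⟩ := hnorm k hk
    have hmem : N * k * N ∈ K := by
      have e : N * k * N = k - (2 : F)⁻¹ • ((1 + N) * k * (1 - N) + (1 - N) * k * (1 + N)) := by
        have e1 : (1 + N) * k * (1 - N) + (1 - N) * k * (1 + N) = (2 : F) • (k - N * k * N) := by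
          rw [two_smul]
          noncomm_ring
        rw [e1, smul_smul, inv_mul_cancel₀ h2, one_smul]
        abel
      rw [e]
      exact K.sub_mem hk (K.smul_mem (K.add_mem h1 h3) _)
    apply eq_zero_of_sq_eq_zero hK hmem
    calc N * k * N * (N * k * N) = N * k * (N * N) * (k * N) := by simp only [Matrix.mul_assoc]
      _ = 0 := by rw [hNN, Matrix.mul_zero, Matrix.zero_mul]
  intro k hk
  obtain ⟨h1, h3⟩ := hnorm k hk
  have hmem : N * k - k * N ∈ K := by
    have e : N * k - k * N = (2 : F)⁻¹ • ((1 + N) * k * (1 - N) - (1 - N) * k * (1 + N)) := by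
      have e1 : (1 + N) * k * (1 - N) - (1 - N) * k * (1 + N) = (2 : F) • (N * k - k * N) := by
        rw [two_smul]
        noncomm_ring
      rw [e1, smul_smul, inv_mul_cancel₀ h2, one_smul]
    rw [e]
    exact K.smul_mem (K.sub_mem h1 h3) _
  have hsq : (N * k - k * N) * (N * k - k * N) = 0 := by
    have hkk := hB (k * k) (K.mul_mem hk hk)
    have hk1 := hB k hk
    calc (N * k - k * N) * (N * k - k * N)
        = N * k * N * k - N * (k * k) * N - k * (N * N) * k + k * (N * k * N) := by
          noncomm_ring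
      _ = 0 := by rw [hk1, hkk, hNN]; simp
  exact sub_eq_zero.mp (eq_zero_of_sq_eq_zero hK hmem hsq)

end fieldalg

section scalar
variable [Fintype F]

/-- eigenvalues on independent orthogonal singular vectors agree -/
theorem eigen_eq_of_orth' (M : Matrix ι ι F)
    (hg : ∀ u : ι → F, u ≠ 0 → Q u = 0 → ∃ a : F, M *ᵥ u = a • u)
    (u v : ι → F) (hu : Q u = 0) (hv : Q v = 0) (huv : polar ⇑Q u v = 0)
    (hli : LinearIndependent F ![u, v]) (a b : F) (ha : M *ᵥ u = a • u)
    (hb : M *ᵥ v = b • v) : a = b := by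
  have huv0 : u + v ≠ 0 := by
    intro h
    rw [LinearIndependent.pair_iff] at hli
    have := hli 1 1 (by rw [one_smul, one_smul]; exact h)
    exact one_ne_zero this.1
  have hQuv : Q (u + v) = 0 := by rw [quad_add', hu, hv, huv]; simp
  obtain ⟨c, hc⟩ := hg (u + v) huv0 hQuv
  rw [Matrix.mulVec_add, ha, hb, smul_add] at hc
  rw [LinearIndependent.pair_iff] at hli
  have := hli (a - c) (b - c) (by
    rw [sub_smul, sub_smul]
    linear_combination (exp := 1) hc)
  have h1 := sub_eq_zero.mp this.1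
  have h2 := sub_eq_zero.mp this.2
  rw [h1, h2]

/-- all eigenvalues on singular vectors agree -/
theorem eigen_eq' (H : Hyp Q) (M : Matrix ι ι F)
    (hg : ∀ u : ι → F, u ≠ 0 → Q u = 0 → ∃ a : F, M *ᵥ u = a • u)
    (u v : ι → F) (hu0 : u ≠ 0) (hv0 : v ≠ 0) (hu : Q u = 0) (hv : Q v = 0) (a b : F)
    (ha : M *ᵥ u = a • u) (hb : M *ᵥ v = b • v) : a = b := by
  by_cases hli : LinearIndependent F ![u, v]
  · by_cases huv : polar ⇑Q u v = 0
    · exact eigen_eq_of_orth' M hg u v hu hv huv hli a b ha hb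
    · have hfin := finrank_perp2 Q u v
      have h5 := H.finrank5
      obtain ⟨w, hwU, hw0, hw⟩ := exists_singular_in Q (perp2 Q u v) (by omega)
      rw [mem_perp2] at hwU
      obtain ⟨d, hd⟩ := hg w hw0 hw
      have hli1 : LinearIndependent F ![u, w] := by
        rw [LinearIndependent.pair_iff' hu0]
        intro t ht
        apply huv
        have := hwU.2
        rw [← ht, polar_smul_right, polar_comm (⇑Q) v u] at this
        rcases mul_eq_zero.mp this with h | h
        · rw [h, zero_smul] at ht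
          exact absurd ht.symm hw0
        · exact h
      have hli2 : LinearIndependent F ![w, v] := by
        rw [LinearIndependent.pair_iff' hw0]
        intro t ht
        apply huv
        have := hwU.1
        rw [← ht] at huv ⊢
        rw [polar_smul_right, this, smul_zero]
      have e1 := eigen_eq_of_orth' M hg u w hu hw hwU.1 hli1 a d ha hd
      have e2 := eigen_eq_of_orth' M hg w v hw hv (by rw [polar_comm]; exact hwU.2) hli2 d b hd hb
      rw [e1, e2]
  · rw [LinearIndependent.pair_iff' hu0] at hli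
    push Not at hli
    obtain ⟨t, ht⟩ := hli
    rw [← ht, Matrix.mulVec_smul, ha, smul_smul, mul_comm, ← smul_smul] at hb
    have h3 : (a - b) • (t • u) = 0 := by rw [sub_smul, hb, sub_self]
    rw [ht] at h3
    rcases smul_eq_zero.mp h3 with h | h
    · exact sub_eq_zero.mp h
    · exact absurd h hv0

/-- a matrix commuting with the nilpotent parts of all Siegel transformations is a scalar -/
theorem scalar_of_comm (H : Hyp Q) (M : Matrix ι ι F)
    (hM : ∀ (u v : ι → F), Q u = 0 → Q v = 0 → polar ⇑Q u v = 0 →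
      M * sN Q u v = sN Q u v * M) : ∃ a : F, M = a • (1 : Matrix ι ι F) := by
  have hQ := H.nondeg
  have h5 := H.finrank5
  have hg : ∀ u : ι → F, u ≠ 0 → Q u = 0 → ∃ a : F, M *ᵥ u = a • u := by
    intro u hu0 hu
    obtain ⟨e, f, he, hf, hef, hue, huf⟩ := exists_hyp_pair_perp Q hQ h5 u hu0
    have hfe : polar ⇑Q f e = 1 := by rw [polar_comm]; exact hef
    have hfu : polar ⇑Q f u = 0 := by rw [polar_comm]; exact huf
    have hff : polar ⇑Q f f = 0 := polar_self_of_sing Q f hf
    have c1 := congrArg (fun A => A *ᵥ f) (hM u e hu he hue)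
    have c2 := congrArg (fun A => A *ᵥ e) (hM u f hu hf huf)
    simp only [← Matrix.mulVec_mulVec, sN_mulVec, huf, hue, hef, hfe, zero_smul, one_smul,
      zero_sub, Matrix.mulVec_neg] at c1 c2
    -- c1 : -(M u) = polar u (M f) • e - polar e (M f) • u
    -- c2 : -(M u) = polar u (M e) • f - polar f (M e) • u
    have h3 : polar ⇑Q u (M *ᵥ f) = 0 := by
      have h4 := congrArg (fun y => polar ⇑Q f y) (c1.symm.trans c2)
      simp only [polar_sub_right, polar_smul_right, hfe, hfu, hff, smul_eq_mul, mul_one,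
        mul_zero, sub_zero] at h4
      exact h4
    refine ⟨polar ⇑Q e (M *ᵥ f), ?_⟩
    rw [h3, zero_smul, zero_sub] at c1
    exact neg_injective c1
  obtain ⟨e, f, he, hf, hef⟩ := exists_hyp_pair H
  have he0 : e ≠ 0 := by
    rintro rfl
    simp [polar] at hef
  obtain ⟨a, ha⟩ := hg e he0 he
  have hall : ∀ u : ι → F, Q u = 0 → M *ᵥ u = a • u := by
    intro u hu
    by_cases hu0 : u = 0
    · rw [hu0, smul_zero]
      exact mulVec_zero _
    · obtain ⟨b, hb⟩ := hg u hu0 hu
      rw [hb, eigen_eq' H M hg e u he0 hu0 he hu a b ha hb]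
  refine ⟨a, ?_⟩
  apply mat_ext_mulVec
  intro x
  obtain ⟨s, c, d, hs, rfl⟩ := sing_decomp e f he hf hef x
  rw [Matrix.mulVec_add, Matrix.mulVec_add, Matrix.mulVec_smul, Matrix.mulVec_smul, hall s hs,
    hall e he, hall f hf, Matrix.smul_mulVec, one_mulVec]
  module

/-- `Ω` does not normalise a proper extension field in the matrix algebra -/
theorem not_le_fieldNormalizer (H : Hyp Q) (h2 : (2 : F) ≠ 0) {r : ℕ} (hr : 2 ≤ r)
    {K : Subalgebra F (Matrix ι ι F)} (hK : Cfsg.Geo.IsFieldSubalgebra r K) :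
    ¬ Cfsg.Geo.omegaGL ⇑Q ≤ Cfsg.Geo.subalgebraNormalizer K := by
  intro hle
  have hcomm : ∀ k ∈ K, ∀ (u v : ι → F), Q u = 0 → Q v = 0 → polar ⇑Q u v = 0 →
      k * sN Q u v = sN Q u v * k := by
    intro k hk u v hu hv huv
    refine (comm_of_normalizes hK h2 (sN Q u v) (sN_sq u v hu hv huv) ?_ k hk).symm
    intro k' hk'
    have key : ∀ c : F, (1 + c • sN Q u v) * k' * (1 + (-c) • sN Q u v) ∈ K := by
      intro c
      have hmem := hle (siegel_mem_omegaGL H u v hu hv huv c)
      have h1 := (hmem k').mp hk'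
      have e1 : ((siegel Q u v hu hv huv c : ↥(isometryGroup F ⇑Q)) :
          Matrix.GeneralLinearGroup ι F)⁻¹ =
          ((siegel Q u v hu hv huv (-c) : ↥(isometryGroup F ⇑Q)) :
            Matrix.GeneralLinearGroup ι F) := by
        rw [← Subgroup.coe_inv, siegel_inv]
      rw [e1, siegel_coe, siegel_coe, siegelMatrix_eq, siegelMatrix_eq] at h1
      exact h1
    constructor
    · have := key 1
      rw [one_smul, neg_smul, one_smul, ← sub_eq_add_neg] at this
      exact this
    · have := key (-1)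
      rw [neg_neg, one_smul, neg_smul, one_smul, ← sub_eq_add_neg] at this
      exact this
  have hscal : ∀ k ∈ K, ∃ a : F, k = a • (1 : Matrix ι ι F) := fun k hk =>
    scalar_of_comm H k (hcomm k hk)
  have h1 : Module.finrank F K ≤ 1 := by
    apply finrank_le_one (⟨1, K.one_mem⟩ : K)
    intro w
    obtain ⟨c, hc⟩ := hscal w.1 w.2
    exact ⟨c, Subtype.ext (by simpa using hc.symm)⟩
  rw [hK.finrank_eq] at h1
  omega

end scalar

end Cfsg.Agent.Lib.Helper2.Omx
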