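import Mathlib
import Cfsg.Prelude
import Cfsg.Agent.Lib.Helper2.OmxF

set_option autoImplicit false
set_option linter.unusedSectionVars false
set_option linter.unusedVariables false
open Cfsg

/-! The tensor-wreath subgroup with two factors: every element is a Kronecker product or a twisted
Kronecker product, so squares are Kronecker products; a Kronecker product of two `3 × 3` matrices
differing from the identity by a square-zero matrix of rank at most two is the identity. Hence `Ω(Q)`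
is not contained in a tensor-wreath subgroup of type `3 ⊗ 3`. -/

namespace Cfsg.Agent.Lib.Helper2.Omx

open Matrix QuadraticMap Module Cfsg.Agent.Lib.Helper5.CartanDieudonne Cfsg.Agent.Lib.Helper5.Refl
  Cfsg.Agent.Lib.Helper5.Siegel Cfsg.Agent.Lib.Helper5.QuadIsom
  Cfsg.Agent.Lib.Helper5.ReflGen Cfsg.Agent.Lib.Helper5.Eichler Cfsg.Agent.Lib.Helper5.SingGeom
  Cfsg.Agent.Lib.Helper5.OmegaGen Cfsg.Agent.Lib.Helper5.OmegaSimple
  Cfsg.Agent.Lib.Helper5.SpSingularMax Cfsg.Agent.Lib.Helper5.OrthSingularMax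
  Cfsg.Agent.Lib.Helper5.OrthDecompSiegel

section kron
variable {F : Type*} [Field F] {k : ℕ}

/-- the Kronecker product of two matrices, indexed by functions on `Fin 2` -/
def pureMat (a b : Matrix (Fin k) (Fin k) F) : Matrix (Fin 2 → Fin k) (Fin 2 → Fin k) F :=
  fun x y => a (x 0) (y 0) * b (x 1) (y 1)

/-- the Kronecker product followed by the swap of the two factors -/
def twMat (a b : Matrix (Fin k) (Fin k) F) : Matrix (Fin 2 → Fin k) (Fin 2 → Fin k) F :=
  fun x y => a (x 0) (y 1) * b (x 1) (y 0)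

theorem sum_fin_two {α : Type*} [Fintype α] (f g : α → F) :
    ∑ z : Fin 2 → α, f (z 0) * g (z 1) = (∑ i, f i) * (∑ j, g j) := by
  rw [Finset.sum_mul_sum, ← Fintype.sum_prod_type']
  exact Fintype.sum_equiv (finTwoArrowEquiv α) _ _ (fun z => rfl)

theorem pure_mul_pure (a b a' b' : Matrix (Fin k) (Fin k) F) :
    pureMat a b * pureMat a' b' = pureMat (a * a') (b * b') := by
  ext x y
  simp only [Matrix.mul_apply, pureMat]
  rw [← sum_fin_two (fun i => a (x 0) i * a' i (y 0)) (fun j => b (x 1) j * b' j (y 1))]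
  apply Finset.sum_congr rfl
  intro z _
  ring

theorem pure_mul_tw (a b a' b' : Matrix (Fin k) (Fin k) F) :
    pureMat a b * twMat a' b' = twMat (a * a') (b * b') := by
  ext x y
  simp only [Matrix.mul_apply, pureMat, twMat]
  rw [← sum_fin_two (fun i => a (x 0) i * a' i (y 1)) (fun j => b (x 1) j * b' j (y 0))]
  apply Finset.sum_congr rfl
  intro z _
  ring

theorem tw_mul_pure (a b a' b' : Matrix (Fin k) (Fin k) F) :
    twMat a b * pureMat a' b' = twMat (a * b') (b * a') := by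
  ext x y
  simp only [Matrix.mul_apply, pureMat, twMat]
  rw [mul_comm (∑ j, a (x 0) j * b' j (y 1)),
    ← sum_fin_two (fun i => b (x 1) i * a' i (y 0)) (fun j => a (x 0) j * b' j (y 1))]
  apply Finset.sum_congr rfl
  intro z _
  ring

theorem tw_mul_tw (a b a' b' : Matrix (Fin k) (Fin k) F) :
    twMat a b * twMat a' b' = pureMat (a * b') (b * a') := by
  ext x y
  simp only [Matrix.mul_apply, pureMat, twMat]
  rw [mul_comm (∑ j, a (x 0) j * b' j (y 0)),
    ← sum_fin_two (fun i => b (x 1) i * a' i (y 1)) (fun j => a (x 0) j * b' j (y 0))]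
  apply Finset.sum_congr rfl
  intro z _
  ring

theorem fun_two_eq_iff {α : Type*} (x y : Fin 2 → α) : x = y ↔ x 0 = y 0 ∧ x 1 = y 1 := by
  constructor
  · rintro rfl
    exact ⟨rfl, rfl⟩
  · rintro ⟨h0, h1⟩
    funext i
    fin_cases i
    · exact h0
    · exact h1

theorem pure_one_one : pureMat (1 : Matrix (Fin k) (Fin k) F) 1 = 1 := by
  ext x y
  simp only [pureMat, Matrix.one_apply, fun_two_eq_iff]
  by_cases h0 : x 0 = y 0 <;> by_cases h1 : x 1 = y 1 <;> simp [h0, h1]

/-- `g` is a Kronecker product -/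
def IsPT (g : Matrix.GeneralLinearGroup (Fin 2 → Fin k) F) : Prop :=
  ∃ a b : Matrix.GeneralLinearGroup (Fin k) F,
    (g : Matrix (Fin 2 → Fin k) (Fin 2 → Fin k) F) =
      pureMat (a : Matrix (Fin k) (Fin k) F) (b : Matrix (Fin k) (Fin k) F)

/-- `g` is a twisted Kronecker product -/
def IsTW (g : Matrix.GeneralLinearGroup (Fin 2 → Fin k) F) : Prop :=
  ∃ a b : Matrix.GeneralLinearGroup (Fin k) F,
    (g : Matrix (Fin 2 → Fin k) (Fin 2 → Fin k) F) =
      twMat (a : Matrix (Fin k) (Fin k) F) (b : Matrix (Fin k) (Fin k) F)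

theorem pt_or_tw_mul {g h : Matrix.GeneralLinearGroup (Fin 2 → Fin k) F}
    (hg : IsPT g ∨ IsTW g) (hh : IsPT h ∨ IsTW h) : IsPT (g * h) ∨ IsTW (g * h) := by
  rcases hg with ⟨a, b, hg⟩ | ⟨a, b, hg⟩ <;> rcases hh with ⟨a', b', hh⟩ | ⟨a', b', hh⟩
  · left
    exact ⟨a * a', b * b', by rw [Units.val_mul, hg, hh, pure_mul_pure, Units.val_mul,
      Units.val_mul]⟩
  · right
    exact ⟨a * a', b * b', by rw [Units.val_mul, hg, hh, pure_mul_tw, Units.val_mul,
      Units.val_mul]⟩
  · right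
    exact ⟨a * b', b * a', by rw [Units.val_mul, hg, hh, tw_mul_pure, Units.val_mul,
      Units.val_mul]⟩
  · left
    exact ⟨a * b', b * a', by rw [Units.val_mul, hg, hh, tw_mul_tw, Units.val_mul,
      Units.val_mul]⟩

theorem pt_one : IsPT (1 : Matrix.GeneralLinearGroup (Fin 2 → Fin k) F) :=
  ⟨1, 1, by rw [Units.val_one, Units.val_one, pure_one_one]⟩

theorem pt_or_tw_pow {g : Matrix.GeneralLinearGroup (Fin 2 → Fin k) F}
    (hg : IsPT g ∨ IsTW g) (n : ℕ) : IsPT (g ^ n) ∨ IsTW (g ^ n) := by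
  induction n with
  | zero => rw [pow_zero]; exact Or.inl pt_one
  | succ n ih => rw [pow_succ]; exact pt_or_tw_mul ih hg

theorem sq_isPT {g : Matrix.GeneralLinearGroup (Fin 2 → Fin k) F}
    (hg : IsPT g ∨ IsTW g) : IsPT (g * g) := by
  rcases hg with ⟨a, b, hg⟩ | ⟨a, b, hg⟩
  · exact ⟨a * a, b * b, by rw [Units.val_mul, hg, pure_mul_pure, Units.val_mul, Units.val_mul]⟩
  · exact ⟨a * b, b * a, by rw [Units.val_mul, hg, tw_mul_tw, Units.val_mul, Units.val_mul]⟩

theorem std_subset [Finite F] (g : Matrix.GeneralLinearGroup (Fin 2 → Fin k) F)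
    (hg : g ∈ Cfsg.Geo.tensorWreathStandard k 2 F) : IsPT g ∨ IsTW g := by
  unfold Cfsg.Geo.tensorWreathStandard at hg
  induction hg using Subgroup.closure_induction with
  | mem g hg' =>
    rcases hg' with ⟨gs, h⟩ | ⟨σ, h⟩
    · left
      refine ⟨gs 0, gs 1, ?_⟩
      ext x y
      rw [h, Fin.prod_univ_two]
      rfl
    · have hfin2 : ∀ i : Fin 2, i = 0 ∨ i = 1 := by decide
      rcases hfin2 (σ 0) with h0 | h0
      · have h1 : σ 1 = 1 := by
          rcases hfin2 (σ 1) with h' | h'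
          · exact absurd (σ.injective (h0.trans h'.symm)) (by decide)
          · exact h'
        left
        refine ⟨1, 1, ?_⟩
        rw [Units.val_one, pure_one_one]
        ext x y
        rw [h, Matrix.one_apply]
        have : (y = x ∘ σ) ↔ (x = y) := by
          rw [fun_two_eq_iff, fun_two_eq_iff]
          simp only [Function.comp_apply, h0, h1]
          constructor
          · rintro ⟨e0, e1⟩; exact ⟨e0.symm, e1.symm⟩
          · rintro ⟨e0, e1⟩; exact ⟨e0.symm, e1.symm⟩
        simp only [this]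
      · have h1 : σ 1 = 0 := by
          rcases hfin2 (σ 1) with h' | h'
          · exact h'
          · exact absurd (σ.injective (h0.trans h'.symm)) (by decide)
        right
        refine ⟨1, 1, ?_⟩
        ext x y
        rw [h, Units.val_one]
        have : (y = x ∘ σ) ↔ (x 0 = y 1 ∧ x 1 = y 0) := by
          rw [fun_two_eq_iff]
          simp only [Function.comp_apply, h0, h1]
          constructor
          · rintro ⟨e0, e1⟩; exact ⟨e1.symm, e0.symm⟩
          · rintro ⟨e0, e1⟩; exact ⟨e1.symm, e0.symm⟩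
        simp only [this, twMat, Matrix.one_apply]
        by_cases e0 : x 0 = y 1 <;> by_cases e1 : x 1 = y 0 <;> simp [e0, e1]
  | one => exact Or.inl pt_one
  | mul a b _ _ ha hb => exact pt_or_tw_mul ha hb
  | inv a _ ha =>
    have hfin : IsOfFinOrder a := isOfFinOrder_of_finite a
    have hpos := hfin.orderOf_pos
    have e : a⁻¹ = a ^ (orderOf a - 1) := by
      apply inv_eq_of_mul_eq_one_left
      rw [← pow_succ, Nat.sub_add_cancel hpos, pow_orderOf_eq_one]
    rw [e]
    exact pt_or_tw_pow ha _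

end kron

section rank3
variable {F : Type*} [Field F]

/-- a Kronecker product of two invertible `3 × 3` matrices differing from the identity by a
square-zero matrix of rank at most two is the identity -/
theorem pure_sub_one_eq_zero (a b : Matrix.GeneralLinearGroup (Fin 3) F)
    (hrank : (pureMat (a : Matrix (Fin 3) (Fin 3) F) (b : Matrix (Fin 3) (Fin 3) F) - 1).rank ≤ 2)
    (hsq : (pureMat (a : Matrix (Fin 3) (Fin 3) F) (b : Matrix (Fin 3) (Fin 3) F) - 1) *
      (pureMat (a : Matrix (Fin 3) (Fin 3) F) (b : Matrix (Fin 3) (Fin 3) F) - 1) = 0) :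
    pureMat (a : Matrix (Fin 3) (Fin 3) F) (b : Matrix (Fin 3) (Fin 3) F) - 1 = 0 := by
  obtain ⟨M, hM⟩ : ∃ M, M = pureMat (a : Matrix (Fin 3) (Fin 3) F)
    (b : Matrix (Fin 3) (Fin 3) F) - 1 := ⟨_, rfl⟩
  rw [← hM] at hrank hsq ⊢
  have hdeta : (a : Matrix (Fin 3) (Fin 3) F).det ≠ 0 :=
    ((Matrix.isUnit_iff_isUnit_det _).mp a.isUnit).ne_zero
  have hdetb : (b : Matrix (Fin 3) (Fin 3) F).det ≠ 0 :=
    ((Matrix.isUnit_iff_isUnit_det _).mp b.isUnit).ne_zero
  have hMapp : ∀ x y, M x y = (a : Matrix (Fin 3) (Fin 3) F) (x 0) (y 0) *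
      (b : Matrix (Fin 3) (Fin 3) F) (x 1) (y 1) - (1 : Matrix (Fin 2 → Fin 3) (Fin 2 → Fin 3) F) x y := by
    intro x y
    rw [hM]
    rfl
  have hunit : ∀ (c : F) (B : Matrix (Fin 3) (Fin 3) F), c ≠ 0 → B.det ≠ 0 →
      (c • B).rank = 3 := by
    intro c B hc hB
    have hu : IsUnit (c • B) := by
      rw [Matrix.isUnit_iff_isUnit_det, Matrix.det_smul]
      exact isUnit_iff_ne_zero.mpr (mul_ne_zero (pow_ne_zero _ hc) hB)
    rw [Matrix.rank_of_isUnit _ hu, Fintype.card_fin]
  have ha : ∀ i i' : Fin 3, i ≠ i' → (a : Matrix (Fin 3) (Fin 3) F) i i' = 0 := by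
    intro i i' hii
    by_contra h
    have hsub : M.submatrix (fun j : Fin 3 => ![i, j]) (fun j' : Fin 3 => ![i', j']) =
        ((a : Matrix (Fin 3) (Fin 3) F) i i') • (b : Matrix (Fin 3) (Fin 3) F) := by
      ext j j'
      rw [Matrix.submatrix_apply, hMapp, Matrix.one_apply_ne, sub_zero]
      · rfl
      · intro he
        exact hii (congrFun he 0)
    have h4 := Matrix.rank_submatrix_le M (fun j : Fin 3 => ![i, j]) (fun j' : Fin 3 => ![i', j'])
    rw [hsub, hunit _ _ h hdetb] at h4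
    omega
  have hb : ∀ j j' : Fin 3, j ≠ j' → (b : Matrix (Fin 3) (Fin 3) F) j j' = 0 := by
    intro j j' hjj
    by_contra h
    have hsub : M.submatrix (fun i : Fin 3 => ![i, j]) (fun i' : Fin 3 => ![i', j']) =
        ((b : Matrix (Fin 3) (Fin 3) F) j j') • (a : Matrix (Fin 3) (Fin 3) F) := by
      ext i i'
      rw [Matrix.submatrix_apply, hMapp, Matrix.one_apply_ne, sub_zero]
      · show (a : Matrix (Fin 3) (Fin 3) F) i i' * (b : Matrix (Fin 3) (Fin 3) F) j j' = _
        rw [Matrix.smul_apply, smul_eq_mul, mul_comm]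
      · intro he
        exact hjj (congrFun he 1)
    have h4 := Matrix.rank_submatrix_le M (fun i : Fin 3 => ![i, j]) (fun i' : Fin 3 => ![i', j'])
    rw [hsub, hunit _ _ h hdeta] at h4
    omega
  have hoff : ∀ x y, x ≠ y → M x y = 0 := by
    intro x y hxy
    rw [hMapp, Matrix.one_apply_ne hxy, sub_zero]
    have : x 0 ≠ y 0 ∨ x 1 ≠ y 1 := by
      by_contra hcon
      push Not at hcon
      exact hxy ((fun_two_eq_iff x y).mpr hcon)
    rcases this with h | h
    · rw [ha _ _ h, zero_mul]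
    · rw [hb _ _ h, mul_zero]
  ext x y
  rw [Matrix.zero_apply]
  by_cases hxy : x = y
  · subst hxy
    have h1 := congrFun (congrFun hsq x) x
    rw [Matrix.mul_apply, Matrix.zero_apply, Finset.sum_eq_single x] at h1
    · exact mul_self_eq_zero.mp h1
    · intro z _ hz
      rw [hoff x z (Ne.symm hz), zero_mul]
    · intro h
      exact absurd (Finset.mem_univ x) h
  · exact hoff x y hxy

end rank3

section wreath
variable {ι : Type} [Fintype ι] [DecidableEq ι] {F : Type*} [Field F] [Fintype F]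
  {Q : QuadraticForm F (ι → F)}

theorem rank_sN_le (u v : ι → F) : (sN Q u v).rank ≤ 2 := by
  classical
  have hle : LinearMap.range (sN Q u v).mulVecLin ≤
      Submodule.span F ((({u, v} : Finset (ι → F)) : Set (ι → F))) := by
    rintro _ ⟨x, rfl⟩
    rw [Matrix.mulVecLin_apply, sN_mulVec]
    refine Submodule.sub_mem _ (Submodule.smul_mem _ _ (Submodule.subset_span ?_))
      (Submodule.smul_mem _ _ (Submodule.subset_span ?_))
    · simp
    · simp
  calc (sN Q u v).rank
      = finrank F (LinearMap.range (sN Q u v).mulVecLin) := rfl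
    _ ≤ finrank F (Submodule.span F ((({u, v} : Finset (ι → F)) : Set (ι → F)))) :=
        Submodule.finrank_mono hle
    _ ≤ 2 := (finrank_span_finset_le_card _).trans Finset.card_le_two

/-- `Ω` lies in no tensor-wreath subgroup of type `3 ⊗ 3` -/
theorem not_le_wreath (H : Hyp Q) (h2 : (2 : F) ≠ 0) (e : ι ≃ (Fin 2 → Fin 3))
    (P : Matrix.GeneralLinearGroup ι F) :
    ¬ Cfsg.Geo.omegaGL ⇑Q ≤ Cfsg.Geo.tensorWreathSubgroup 3 2 e P := by
  intro hle
  obtain ⟨u, v, x, hu, hv, huv, hux, hvx, hv0⟩ := exists_siegel_pair H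
  obtain ⟨y, ⟨s, hs, rfl⟩, hy⟩ := hle (siegel_mem_omegaGL H u v hu hv huv (2 : F)⁻¹)
  obtain ⟨ψ, hψ⟩ : ∃ ψ : Matrix (Fin 2 → Fin 3) (Fin 2 → Fin 3) F ≃ₐ[F] Matrix ι ι F,
    ψ = Matrix.reindexAlgEquiv F F e.symm := ⟨_, rfl⟩
  have hRs : ∀ t : Matrix.GeneralLinearGroup (Fin 2 → Fin 3) F,
      (((Cfsg.Geo.glReindex e.symm).toMonoidHom t : Matrix.GeneralLinearGroup ι F) :
        Matrix ι ι F) = ψ (t : Matrix (Fin 2 → Fin 3) (Fin 2 → Fin 3) F) := by
    intro t
    rw [hψ]
    rfl
  have hy' : P * (Cfsg.Geo.glReindex e.symm).toMonoidHom s * P⁻¹ =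
      ((siegel Q u v hu hv huv (2 : F)⁻¹ : ↥(isometryGroup F ⇑Q)) :
        Matrix.GeneralLinearGroup ι F) := hy
  -- the square
  have hsqG : P * (Cfsg.Geo.glReindex e.symm).toMonoidHom (s * s) * P⁻¹ =
      ((siegel Q u v hu hv huv 1 : ↥(isometryGroup F ⇑Q)) :
        Matrix.GeneralLinearGroup ι F) := by
    have e1 : siegel Q u v hu hv huv 1 =
        siegel Q u v hu hv huv (2 : F)⁻¹ * siegel Q u v hu hv huv (2 : F)⁻¹ := by
      rw [siegel_mul_siegel]
      congr 1
      rw [← two_mul, mul_inv_cancel₀ h2]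
    rw [e1, Subgroup.coe_mul, ← hy', map_mul]
    group
  obtain ⟨a, b, hab⟩ := sq_isPT (std_subset s hs)
  have hmat : (1 : Matrix ι ι F) + sN Q u v = (P : Matrix ι ι F) *
      ψ (pureMat (a : Matrix (Fin 3) (Fin 3) F) (b : Matrix (Fin 3) (Fin 3) F)) *
        ((P⁻¹ : Matrix.GeneralLinearGroup ι F) : Matrix ι ι F) := by
    have h1 := congrArg (fun g : Matrix.GeneralLinearGroup ι F => (g : Matrix ι ι F)) hsqG
    simp only [Units.val_mul] at h1
    rw [hRs, hab, siegel_coe, siegelMatrix_eq, one_smul] at h1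
    exact h1.symm
  obtain ⟨M, hM⟩ : ∃ M, M = pureMat (a : Matrix (Fin 3) (Fin 3) F)
    (b : Matrix (Fin 3) (Fin 3) F) - 1 := ⟨_, rfl⟩
  have hψM : ψ M = ((P⁻¹ : Matrix.GeneralLinearGroup ι F) : Matrix ι ι F) * sN Q u v *
      (P : Matrix ι ι F) := by
    have h1 : sN Q u v = (P : Matrix ι ι F) * ψ M *
        ((P⁻¹ : Matrix.GeneralLinearGroup ι F) : Matrix ι ι F) := by
      rw [hM, map_sub, map_one, Matrix.mul_sub, Matrix.sub_mul, ← hmat, Matrix.mul_one,
        ← Units.val_mul, mul_inv_cancel, Units.val_one, add_sub_cancel_left]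
    rw [h1]
    calc ψ M = (((P⁻¹ : Matrix.GeneralLinearGroup ι F) : Matrix ι ι F) * (P : Matrix ι ι F)) *
          ψ M * (((P⁻¹ : Matrix.GeneralLinearGroup ι F) : Matrix ι ι F) * (P : Matrix ι ι F)) := by
          rw [← Units.val_mul, inv_mul_cancel, Units.val_one, Matrix.one_mul, Matrix.mul_one]
      _ = _ := by simp only [Matrix.mul_assoc]
  have hrank : M.rank ≤ 2 := by
    have h1 : (ψ M).rank = M.rank := by
      rw [hψ]
      exact Matrix.rank_reindex e.symm e.symm M
    rw [← h1, hψM]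
    exact ((Matrix.rank_mul_le_left _ _).trans (Matrix.rank_mul_le_right _ _)).trans
      (rank_sN_le u v)
  have hsq : M * M = 0 := by
    apply ψ.injective
    rw [map_mul, map_zero, hψM]
    calc ((P⁻¹ : Matrix.GeneralLinearGroup ι F) : Matrix ι ι F) * sN Q u v * (P : Matrix ι ι F) *
          (((P⁻¹ : Matrix.GeneralLinearGroup ι F) : Matrix ι ι F) * sN Q u v * (P : Matrix ι ι F))
        = ((P⁻¹ : Matrix.GeneralLinearGroup ι F) : Matrix ι ι F) * (sN Q u v *
          ((P : Matrix ι ι F) * ((P⁻¹ : Matrix.GeneralLinearGroup ι F) : Matrix ι ι F)) *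
            sN Q u v) * (P : Matrix ι ι F) := by simp only [Matrix.mul_assoc]
      _ = 0 := by
          rw [← Units.val_mul, mul_inv_cancel, Units.val_one, Matrix.mul_one,
            sN_sq u v hu hv huv, Matrix.mul_zero, Matrix.zero_mul]
  have hM0 : M = 0 := by
    rw [hM] at hrank hsq ⊢
    exact pure_sub_one_eq_zero a b hrank hsq
  have hN0 : sN Q u v = 0 := by
    have h1 : sN Q u v = (P : Matrix ι ι F) * ψ M *
        ((P⁻¹ : Matrix.GeneralLinearGroup ι F) : Matrix ι ι F) := by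
      rw [hψM]
      calc sN Q u v = ((P : Matrix ι ι F) * ((P⁻¹ : Matrix.GeneralLinearGroup ι F) : Matrix ι ι F)) *
            sN Q u v * ((P : Matrix ι ι F) *
              ((P⁻¹ : Matrix.GeneralLinearGroup ι F) : Matrix ι ι F)) := by
            rw [← Units.val_mul, mul_inv_cancel, Units.val_one, Matrix.one_mul, Matrix.mul_one]
        _ = _ := by simp only [Matrix.mul_assoc]
    rw [h1, hM0, map_zero, Matrix.mul_zero, Matrix.zero_mul]
  have h3 := sN_mulVec (Q := Q) u v x
  rw [hN0, zero_mulVec, hux, hvx, one_smul, zero_smul, sub_zero] at h3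
  exact hv0 h3.symm

end wreath

end Cfsg.Agent.Lib.Helper2.Omx
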