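import Mathlib
import Cfsg.Prelude
import Cfsg.Agent.Lib.Helper2.OmxF
import Cfsg.Agent.Lib.Helper2.OmxH

set_option autoImplicit false
set_option linter.unusedSectionVars false
set_option linter.unusedVariables false
open Cfsg

/-! Properness in `Ω(Q)` in all characteristics: normalisers of extension fields and stabilisers
of decompositions. -/

namespace Cfsg.Agent.Lib.Helper2.Oev

open Matrix QuadraticMap Module Cfsg.Agent.Lib.Helper5.CartanDieudonne Cfsg.Agent.Lib.Helper5.Refl
  Cfsg.Agent.Lib.Helper5.Siegel Cfsg.Agent.Lib.Helper5.QuadIsom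
  Cfsg.Agent.Lib.Helper5.ReflGen Cfsg.Agent.Lib.Helper5.Eichler Cfsg.Agent.Lib.Helper5.SingGeom
  Cfsg.Agent.Lib.Helper5.OmegaGen Cfsg.Agent.Lib.Helper5.OmegaSimple
  Cfsg.Agent.Lib.Helper5.SpSingularMax Cfsg.Agent.Lib.Helper5.OrthSingularMax
  Cfsg.Agent.Lib.Helper5.OrthDecompSiegel Cfsg.Agent.Lib.Helper2.Omx

open scoped commutatorElement

variable {ι : Type} [Fintype ι] [DecidableEq ι] {F : Type*} [Field F] [Fintype F]

section fieldgen

variable {r : ℕ} {K : Subalgebra F (Matrix ι ι F)}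

/-- the non-zero elements of a field subalgebra over a finite field are the powers of one
element -/
theorem exists_field_generator (hr : 0 < r) (hK : Cfsg.Geo.IsFieldSubalgebra r K) :
    ∃ z ∈ K, ∀ k ∈ K, k ≠ 0 → ∃ m : ℕ, k = z ^ m := by
  classical
  have hfld : IsField ↥K := by
    refine ⟨?_, ?_, ?_⟩
    · haveI : Nontrivial ↥K := by
        apply (Module.finrank_pos_iff (R := F)).mp
        rw [hK.finrank_eq]
        exact hr
      exact exists_pair_ne ↥K
    · intro x y
      exact Subtype.ext (hK.comm x.1 x.2 y.1 y.2)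
    · intro a ha
      have ha' : a.1 ≠ 0 := fun h => ha (Subtype.ext h)
      obtain ⟨y, hy, hay⟩ := hK.inv a.1 a.2 ha'
      exact ⟨⟨y, hy⟩, Subtype.ext hay⟩
  letI : Field ↥K := hfld.toField
  haveI : Finite ↥K := Finite.of_injective (fun x : ↥K => (x : Matrix ι ι F))
    Subtype.val_injective
  obtain ⟨ζ, hζ⟩ := IsCyclic.exists_monoid_generator (α := (↥K)ˣ)
  refine ⟨((ζ : ↥K) : Matrix ι ι F), (ζ : ↥K).2, ?_⟩
  intro k hk hk0
  have hk0' : (⟨k, hk⟩ : ↥K) ≠ 0 := fun h => hk0 (congrArg Subtype.val h)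
  obtain ⟨m, hm⟩ := (Submonoid.mem_powers_iff _ _).1 (hζ (Units.mk0 ⟨k, hk⟩ hk0'))
  refine ⟨m, ?_⟩
  have h1 := congrArg (fun u : (↥K)ˣ => ((u : ↥K) : Matrix ι ι F)) hm
  simp only [Units.val_pow_eq_pow_val, Units.val_mk0] at h1
  rw [← h1]
  exact (SubmonoidClass.coe_pow (ζ : ↥K) m)

theorem conj_mem_of_mem_normalizer {g : Matrix.GeneralLinearGroup ι F}
    (hg : g ∈ Cfsg.Geo.subalgebraNormalizer K) {k : Matrix ι ι F} (hk : k ∈ K) :
    (g : Matrix ι ι F) * k * ((g⁻¹ : Matrix.GeneralLinearGroup ι F) : Matrix ι ι F) ∈ K :=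
  (hg k).1 hk

theorem conj_pow (g : Matrix.GeneralLinearGroup ι F) (z : Matrix ι ι F) (m : ℕ) :
    (g : Matrix ι ι F) * z ^ m * ((g⁻¹ : Matrix.GeneralLinearGroup ι F) : Matrix ι ι F) =
      ((g : Matrix ι ι F) * z * ((g⁻¹ : Matrix.GeneralLinearGroup ι F) : Matrix ι ι F)) ^ m := by
  induction m with
  | zero =>
    rw [pow_zero, pow_zero, Matrix.mul_one, ← Units.val_mul, mul_inv_cancel, Units.val_one]
  | succ m ih =>
    rw [pow_succ, pow_succ, ← ih]
    have h1 : ((g⁻¹ : Matrix.GeneralLinearGroup ι F) : Matrix ι ι F) * (g : Matrix ι ι F) = 1 := by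
      rw [← Units.val_mul, inv_mul_cancel, Units.val_one]
    calc (g : Matrix ι ι F) * (z ^ m * z) * ((g⁻¹ : Matrix.GeneralLinearGroup ι F) : Matrix ι ι F)
        = (g : Matrix ι ι F) * z ^ m * (1 : Matrix ι ι F) * z *
            ((g⁻¹ : Matrix.GeneralLinearGroup ι F) : Matrix ι ι F) := by
          rw [Matrix.mul_one, ← Matrix.mul_assoc (g : Matrix ι ι F)]
      _ = _ := by rw [← h1]; simp only [Matrix.mul_assoc]

theorem conj_ne_zero (g : Matrix.GeneralLinearGroup ι F) {z : Matrix ι ι F} (hz : z ≠ 0) :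
    (g : Matrix ι ι F) * z * ((g⁻¹ : Matrix.GeneralLinearGroup ι F) : Matrix ι ι F) ≠ 0 := by
  intro h0
  apply hz
  have h1 : ((g⁻¹ : Matrix.GeneralLinearGroup ι F) : Matrix ι ι F) * (g : Matrix ι ι F) = 1 := by
    rw [← Units.val_mul, inv_mul_cancel, Units.val_one]
  calc z = ((g⁻¹ : Matrix.GeneralLinearGroup ι F) : Matrix ι ι F) * ((g : Matrix ι ι F) * z *
        ((g⁻¹ : Matrix.GeneralLinearGroup ι F) : Matrix ι ι F)) * (g : Matrix ι ι F) := by
        rw [Matrix.mul_assoc (g : Matrix ι ι F), ← Matrix.mul_assoc _ (g : Matrix ι ι F), h1,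
          Matrix.one_mul, Matrix.mul_assoc, h1, Matrix.mul_one]
    _ = 0 := by rw [h0, Matrix.mul_zero, Matrix.zero_mul]

theorem conj_split (a b : Matrix.GeneralLinearGroup ι F) (x : Matrix ι ι F) :
    ((a * b : Matrix.GeneralLinearGroup ι F) : Matrix ι ι F) * x *
      (((a * b)⁻¹ : Matrix.GeneralLinearGroup ι F) : Matrix ι ι F) =
    (a : Matrix ι ι F) * ((b : Matrix ι ι F) * x *
      ((b⁻¹ : Matrix.GeneralLinearGroup ι F) : Matrix ι ι F)) *
      ((a⁻¹ : Matrix.GeneralLinearGroup ι F) : Matrix ι ι F) := by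
  rw [_root_.mul_inv_rev, Units.val_mul, Units.val_mul]
  simp only [Matrix.mul_assoc]

/-- conjugations by two elements of the normaliser of a field subalgebra commute on it -/
theorem conj_comm (hr : 0 < r) (hK : Cfsg.Geo.IsFieldSubalgebra r K)
    {g h : Matrix.GeneralLinearGroup ι F} (hg : g ∈ Cfsg.Geo.subalgebraNormalizer K)
    (hh : h ∈ Cfsg.Geo.subalgebraNormalizer K) (k : Matrix ι ι F) (hk : k ∈ K) :
    ((g * h : Matrix.GeneralLinearGroup ι F) : Matrix ι ι F) * k *
      (((g * h)⁻¹ : Matrix.GeneralLinearGroup ι F) : Matrix ι ι F) =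
    ((h * g : Matrix.GeneralLinearGroup ι F) : Matrix ι ι F) * k *
      (((h * g)⁻¹ : Matrix.GeneralLinearGroup ι F) : Matrix ι ι F) := by
  obtain ⟨z, hz, hgen⟩ := exists_field_generator hr hK
  have hzc : ((g * h : Matrix.GeneralLinearGroup ι F) : Matrix ι ι F) * z *
      (((g * h)⁻¹ : Matrix.GeneralLinearGroup ι F) : Matrix ι ι F) =
      ((h * g : Matrix.GeneralLinearGroup ι F) : Matrix ι ι F) * z *
      (((h * g)⁻¹ : Matrix.GeneralLinearGroup ι F) : Matrix ι ι F) := by
    by_cases hz0 : z = 0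
    · subst hz0
      simp
    · obtain ⟨a, ha⟩ := hgen _ (conj_mem_of_mem_normalizer hg hz) (conj_ne_zero g hz0)
      obtain ⟨b, hb⟩ := hgen _ (conj_mem_of_mem_normalizer hh hz) (conj_ne_zero h hz0)
      rw [conj_split, conj_split, hb, ha, conj_pow, conj_pow, ha, hb, ← pow_mul, ← pow_mul,
        mul_comm]
  by_cases hk0 : k = 0
  · subst hk0
    simp
  obtain ⟨m, rfl⟩ := hgen k hk hk0
  rw [conj_pow, conj_pow, hzc]

/-- the commutator of two elements of the normaliser of a field subalgebra centralises it -/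
theorem commutator_centralizes (hr : 0 < r) (hK : Cfsg.Geo.IsFieldSubalgebra r K)
    {g h : Matrix.GeneralLinearGroup ι F} (hg : g ∈ Cfsg.Geo.subalgebraNormalizer K)
    (hh : h ∈ Cfsg.Geo.subalgebraNormalizer K) (k : Matrix ι ι F) (hk : k ∈ K) :
    ((⁅g, h⁆ : Matrix.GeneralLinearGroup ι F) : Matrix ι ι F) * k =
      k * ((⁅g, h⁆ : Matrix.GeneralLinearGroup ι F) : Matrix ι ι F) := by
  -- `k' = (h g)⁻¹ k (h g)` lies in `K`
  have hhg : (h * g)⁻¹ ∈ Cfsg.Geo.subalgebraNormalizer K :=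
    (Cfsg.Geo.subalgebraNormalizer K).inv_mem ((Cfsg.Geo.subalgebraNormalizer K).mul_mem hh hg)
  have hk' := conj_mem_of_mem_normalizer hhg hk
  have hc := conj_comm hr hK hg hh _ hk'
  rw [inv_inv] at hc
  -- right hand side of `hc` is `k`
  have e1 : ((h * g : Matrix.GeneralLinearGroup ι F) : Matrix ι ι F) *
      ((((h * g)⁻¹ : Matrix.GeneralLinearGroup ι F) : Matrix ι ι F) * k *
        ((h * g : Matrix.GeneralLinearGroup ι F) : Matrix ι ι F)) *
      (((h * g)⁻¹ : Matrix.GeneralLinearGroup ι F) : Matrix ι ι F) = k := by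
    have h1 : ((h * g : Matrix.GeneralLinearGroup ι F) : Matrix ι ι F) *
        (((h * g)⁻¹ : Matrix.GeneralLinearGroup ι F) : Matrix ι ι F) = 1 := by
      rw [← Units.val_mul, mul_inv_cancel, Units.val_one]
    rw [← Matrix.mul_assoc, ← Matrix.mul_assoc, h1, Matrix.one_mul, Matrix.mul_assoc, h1,
      Matrix.mul_one]
  rw [e1] at hc
  -- left hand side is `c k c⁻¹`
  have e2 : ((⁅g, h⁆ : Matrix.GeneralLinearGroup ι F) : Matrix ι ι F) =
      ((g * h : Matrix.GeneralLinearGroup ι F) : Matrix ι ι F) *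
        (((h * g)⁻¹ : Matrix.GeneralLinearGroup ι F) : Matrix ι ι F) := by
    rw [← Units.val_mul, commutatorElement_def, _root_.mul_inv_rev]
    simp only [mul_assoc]
  have e3 : ((⁅g, h⁆ : Matrix.GeneralLinearGroup ι F) : Matrix ι ι F) *
      (((h * g : Matrix.GeneralLinearGroup ι F) : Matrix ι ι F) *
        (((g * h)⁻¹ : Matrix.GeneralLinearGroup ι F) : Matrix ι ι F)) = 1 := by
    rw [e2, ← Units.val_mul, ← Units.val_mul, ← Units.val_mul, ← Units.val_one]
    congr 1
    group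
  calc ((⁅g, h⁆ : Matrix.GeneralLinearGroup ι F) : Matrix ι ι F) * k
      = ((⁅g, h⁆ : Matrix.GeneralLinearGroup ι F) : Matrix ι ι F) * k *
          ((((h * g : Matrix.GeneralLinearGroup ι F) : Matrix ι ι F) *
            (((g * h)⁻¹ : Matrix.GeneralLinearGroup ι F) : Matrix ι ι F)) *
            ((⁅g, h⁆ : Matrix.GeneralLinearGroup ι F) : Matrix ι ι F)) := by
        have e4 : (((h * g : Matrix.GeneralLinearGroup ι F) : Matrix ι ι F) *
            (((g * h)⁻¹ : Matrix.GeneralLinearGroup ι F) : Matrix ι ι F)) *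
            ((⁅g, h⁆ : Matrix.GeneralLinearGroup ι F) : Matrix ι ι F) = 1 := by
          rw [e2, ← Units.val_mul, ← Units.val_mul, ← Units.val_mul, ← Units.val_one]
          congr 1
          group
        rw [e4, Matrix.mul_one]
    _ = (((g * h : Matrix.GeneralLinearGroup ι F) : Matrix ι ι F) *
          ((((h * g)⁻¹ : Matrix.GeneralLinearGroup ι F) : Matrix ι ι F) * k *
            ((h * g : Matrix.GeneralLinearGroup ι F) : Matrix ι ι F)) *
          (((g * h)⁻¹ : Matrix.GeneralLinearGroup ι F) : Matrix ι ι F)) *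
          ((⁅g, h⁆ : Matrix.GeneralLinearGroup ι F) : Matrix ι ι F) := by
        rw [e2]
        simp only [Matrix.mul_assoc]
    _ = k * ((⁅g, h⁆ : Matrix.GeneralLinearGroup ι F) : Matrix ι ι F) := by rw [hc]

end fieldgen

section proper

variable {Q : QuadraticForm F (ι → F)}

/-- `Ω` does not normalise a proper extension field in the matrix algebra (all characteristics) -/
theorem not_le_fieldNormalizer' (H : Hyp Q) {r : ℕ} (hr : 2 ≤ r)
    {K : Subalgebra F (Matrix ι ι F)} (hK : Cfsg.Geo.IsFieldSubalgebra r K) :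
    ¬ Cfsg.Geo.omegaGL ⇑Q ≤ Cfsg.Geo.subalgebraNormalizer K := by
  intro hle
  let C : Subgroup (Matrix.GeneralLinearGroup ι F) :=
    { carrier := {g | ∀ k ∈ K, (g : Matrix ι ι F) * k = k * (g : Matrix ι ι F)}
      mul_mem' := by
        intro a b ha hb k hk
        rw [Units.val_mul, Matrix.mul_assoc, hb k hk, ← Matrix.mul_assoc, ha k hk,
          Matrix.mul_assoc]
      one_mem' := by
        intro k hk
        rw [Units.val_one, Matrix.one_mul, Matrix.mul_one]
      inv_mem' := by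
        intro a ha k hk
        have h1 : ((a⁻¹ : Matrix.GeneralLinearGroup ι F) : Matrix ι ι F) * (a : Matrix ι ι F) = 1 := by
          rw [← Units.val_mul, inv_mul_cancel, Units.val_one]
        have h2 : (a : Matrix ι ι F) * ((a⁻¹ : Matrix.GeneralLinearGroup ι F) : Matrix ι ι F) = 1 := by
          rw [← Units.val_mul, mul_inv_cancel, Units.val_one]
        calc ((a⁻¹ : Matrix.GeneralLinearGroup ι F) : Matrix ι ι F) * k
            = ((a⁻¹ : Matrix.GeneralLinearGroup ι F) : Matrix ι ι F) * (k * (a : Matrix ι ι F)) *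
                ((a⁻¹ : Matrix.GeneralLinearGroup ι F) : Matrix ι ι F) := by
              rw [Matrix.mul_assoc, Matrix.mul_assoc, h2, Matrix.mul_one]
          _ = ((a⁻¹ : Matrix.GeneralLinearGroup ι F) : Matrix ι ι F) * ((a : Matrix ι ι F) * k) *
                ((a⁻¹ : Matrix.GeneralLinearGroup ι F) : Matrix ι ι F) := by rw [ha k hk]
          _ = k * ((a⁻¹ : Matrix.GeneralLinearGroup ι F) : Matrix ι ι F) := by
              rw [← Matrix.mul_assoc, h1, Matrix.one_mul] }
  have hcommle : ⁅Cfsg.Geo.omegaGL ⇑Q, Cfsg.Geo.omegaGL ⇑Q⁆ ≤ C := by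
    rw [Subgroup.commutator_le]
    intro g hg h hh k hk
    exact commutator_centralizes (by omega) hK (hle hg) (hle hh) k hk
  have hcomm : ∀ k ∈ K, ∀ (u v : ι → F), Q u = 0 → Q v = 0 → polar ⇑Q u v = 0 →
      k * sN Q u v = sN Q u v * k := by
    intro k hk u v hu hv huv
    have h1 := hcommle (siegel_mem_comm H u v hu hv huv 1) k hk
    rw [siegel_coe, siegelMatrix_eq, one_smul, Matrix.add_mul, Matrix.mul_add, Matrix.one_mul,
      Matrix.mul_one] at h1
    exact (add_left_cancel h1).symm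
  have hscal : ∀ k ∈ K, ∃ a : F, k = a • (1 : Matrix ι ι F) := fun k hk =>
    scalar_of_comm H k (hcomm k hk)
  have h1 : Module.finrank F K ≤ 1 := by
    apply finrank_le_one (⟨1, K.one_mem⟩ : K)
    intro w
    obtain ⟨c, hc⟩ := hscal w.1 w.2
    exact ⟨c, Subtype.ext (by simpa using hc.symm)⟩
  rw [hK.finrank_eq] at h1
  omega

variable {t k : ℕ} {D : Fin t → Submodule F (ι → F)}

/-- a Siegel transformation in the stabiliser of a decomposition into blocks of dimension at least
three fixes every block -/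
theorem siegel_block_fixed (hD : Cfsg.Geo.IsMDecomposition k D) (hk : 3 ≤ k)
    (u v : ι → F) (hu : Q u = 0) (hv : Q v = 0) (huv : polar ⇑Q u v = 0) (c : F)
    (hg : ((siegel Q u v hu hv huv c : ↥(isometryGroup F ⇑Q)) : Matrix.GeneralLinearGroup ι F) ∈
      Cfsg.Geo.decompositionStabilizer D) (i : Fin t) :
    ∀ x ∈ D i, (((siegel Q u v hu hv huv c : ↥(isometryGroup F ⇑Q)) :
      Matrix.GeneralLinearGroup ι F) : Matrix ι ι F) *ᵥ x ∈ D i := by
  classical
  obtain ⟨σ, hσ⟩ := hg
  have hmap : ∀ (j : Fin t) (y : ι → F), y ∈ D j →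
      (((siegel Q u v hu hv huv c : ↥(isometryGroup F ⇑Q)) :
        Matrix.GeneralLinearGroup ι F) : Matrix ι ι F) *ᵥ y ∈ D (σ j) := by
    intro j y hy
    rw [← hσ j]
    exact ⟨y, hy, by rw [Matrix.toLin'_apply]⟩
  have hfix : σ i = i := by
    by_contra hne
    have hdisj : Disjoint (D i) (D (σ i)) := hD.indep.pairwiseDisjoint (fun h => hne h.symm)
    let L : ↥(D i) →ₗ[F] (ι → F) :=
      ((Matrix.toLin' (siegelMatrix ⇑Q u v c)) - LinearMap.id) ∘ₗ (D i).subtype
    have hL : ∀ x : ↥(D i), L x = siegelMatrix ⇑Q u v c *ᵥ (x : ι → F) - (x : ι → F) := by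
      intro x
      simp [L, Matrix.toLin'_apply]
    have hinj : Function.Injective L := by
      rw [← LinearMap.ker_eq_bot, eq_bot_iff]
      intro x hx
      rw [LinearMap.mem_ker, hL, sub_eq_zero] at hx
      have h1 := hmap i x x.2
      rw [siegel_coe, hx] at h1
      have h0 : (x : ι → F) = 0 := by
        have := hdisj.le_bot ⟨x.2, h1⟩
        simpa using this
      rw [Submodule.mem_bot]
      exact Subtype.ext h0
    have hrange : LinearMap.range L ≤ Submodule.span F (({u, v} : Finset (ι → F)) : Set (ι → F)) := by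
      rintro _ ⟨x, rfl⟩
      rw [hL, siegelMatrix_mulVec]
      have : (x : ι → F) + (c * polar ⇑Q u x) • v - (c * polar ⇑Q v x) • u - (x : ι → F) =
          (c * polar ⇑Q u x) • v - (c * polar ⇑Q v x) • u := by abel
      rw [this]
      refine Submodule.sub_mem _ (Submodule.smul_mem _ _ (Submodule.subset_span ?_))
        (Submodule.smul_mem _ _ (Submodule.subset_span ?_))
      · simp
      · simp
    have h1 : finrank F ↥(D i) ≤ 2 := by
      rw [← LinearMap.finrank_range_of_inj hinj]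
      refine (Submodule.finrank_mono hrange).trans ?_
      refine (finrank_span_finset_le_card _).trans ?_
      exact Finset.card_le_two
    rw [hD.finrank_eq] at h1
    omega
  intro x hx
  have := hmap i x hx
  rwa [hfix] at this

/-- `Ω` stabilises no decomposition into blocks of dimension at least three
(all characteristics) -/
theorem not_le_decomp' (H : Hyp Q) (hD : Cfsg.Geo.IsMDecomposition k D) (hk : 3 ≤ k) :
    ¬ Cfsg.Geo.omegaGL ⇑Q ≤ Cfsg.Geo.decompositionStabilizer D := by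
  intro hle
  have ht := hD.two_le
  have hpos := hD.pos
  obtain ⟨i0, hi0⟩ : ∃ i0 : Fin t, i0 = ⟨0, by omega⟩ := ⟨_, rfl⟩
  obtain ⟨i1, hi1⟩ : ∃ i1 : Fin t, i1 = ⟨1, by omega⟩ := ⟨_, rfl⟩
  have hne : i0 ≠ i1 := by
    rw [hi0, hi1]
    intro h
    have := Fin.mk.inj_iff.mp h
    omega
  have hle' : Cfsg.Geo.omegaGL ⇑Q ≤ Cfsg.Geo.subspaceStabilizer (D i0) := by
    apply omegaGL_le_of_siegel H
    intro u v hu hv huv c
    apply mem_stab_of_map_le
    exact siegel_block_fixed hD hk u v hu hv huv c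
      (hle (siegel_mem_omegaGL H u v hu hv huv c)) i0
  refine not_le_stab H (D i0) ?_ ?_ hle'
  · intro h
    have := hD.finrank_eq i0
    rw [h, finrank_bot] at this
    omega
  · intro h
    have hd : Disjoint (D i0) (D i1) := hD.indep.pairwiseDisjoint hne
    rw [h, top_disjoint] at hd
    have := hD.finrank_eq i1
    rw [hd, finrank_bot] at this
    omega

end proper

end Cfsg.Agent.Lib.Helper2.Oev
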