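import Mathlib
import Cfsg.Prelude
import Cfsg.Agent.Lib.Helper2.OevE
import Cfsg.Agent.Lib.Helper5.TensorFormSub

set_option autoImplicit false
set_option linter.unusedSectionVars false
set_option linter.unusedVariables false
open Cfsg

/-! Properness in `Ω(Q)` of the stabiliser of a tensor decomposition with both factors of dimension
at least three. -/

namespace Cfsg.Agent.Lib.Helper2.Oev

open Matrix QuadraticMap Module Cfsg.Agent.Lib.Helper5.CartanDieudonne Cfsg.Agent.Lib.Helper5.Refl
  Cfsg.Agent.Lib.Helper5.Siegel Cfsg.Agent.Lib.Helper5.QuadIsom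
  Cfsg.Agent.Lib.Helper5.ReflGen Cfsg.Agent.Lib.Helper5.Eichler Cfsg.Agent.Lib.Helper5.SingGeom
  Cfsg.Agent.Lib.Helper5.OmegaGen Cfsg.Agent.Lib.Helper5.OmegaSimple
  Cfsg.Agent.Lib.Helper5.SpSingularMax Cfsg.Agent.Lib.Helper5.OrthSingularMax
  Cfsg.Agent.Lib.Helper5.OrthDecompSiegel Cfsg.Agent.Lib.Helper2.Omx
  Cfsg.Agent.Lib.Helper5.TensorSub Cfsg.Agent.Lib.Helper5.TensorFormSub

variable {ι : Type} [Fintype ι] [DecidableEq ι] {F : Type*} [Field F] {n₁ n₂ : ℕ}

/-- contraction of the first tensor factor with a functional -/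
def contrL (f : Module.Dual F (Fin n₁ → F)) : (Fin n₁ × Fin n₂ → F) →ₗ[F] (Fin n₂ → F) where
  toFun X := fun j => f (fun i => X (i, j))
  map_add' X Y := by
    ext j
    have : (fun i => (X + Y) (i, j)) = (fun i => X (i, j)) + (fun i => Y (i, j)) := rfl
    show f (fun i => (X + Y) (i, j)) = _
    rw [this, map_add]
    rfl
  map_smul' c X := by
    ext j
    have : (fun i => (c • X) (i, j)) = c • (fun i => X (i, j)) := rfl
    show f (fun i => (c • X) (i, j)) = _
    rw [this, map_smul]
    rfl

theorem contrL_pt (f : Module.Dual F (Fin n₁ → F)) (x : Fin n₁ → F) (y : Fin n₂ → F) :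
    contrL f (pt x y) = f x • y := by
  ext j
  show f (fun i => pt x y (i, j)) = f x * y j
  have : (fun i => pt x y (i, j)) = y j • x := by
    ext i
    rw [pt_apply, Pi.smul_apply, smul_eq_mul, mul_comm]
  rw [this, map_smul, smul_eq_mul, mul_comm]

/-- contraction of the second tensor factor with a functional -/
def contrR (f : Module.Dual F (Fin n₂ → F)) : (Fin n₁ × Fin n₂ → F) →ₗ[F] (Fin n₁ → F) where
  toFun X := fun i => f (fun j => X (i, j))
  map_add' X Y := by
    ext i
    have : (fun j => (X + Y) (i, j)) = (fun j => X (i, j)) + (fun j => Y (i, j)) := rfl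
    show f (fun j => (X + Y) (i, j)) = _
    rw [this, map_add]
    rfl
  map_smul' c X := by
    ext i
    have : (fun j => (c • X) (i, j)) = c • (fun j => X (i, j)) := rfl
    show f (fun j => (c • X) (i, j)) = _
    rw [this, map_smul]
    rfl

theorem contrR_pt (f : Module.Dual F (Fin n₂ → F)) (x : Fin n₁ → F) (y : Fin n₂ → F) :
    contrR f (pt x y) = f y • x := by
  ext i
  show f (fun j => pt x y (i, j)) = f y * x i
  have : (fun j => pt x y (i, j)) = x i • y := by
    ext j
    rw [pt_apply, Pi.smul_apply, smul_eq_mul]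
  rw [this, map_smul, smul_eq_mul, mul_comm]

/-- a functional separating `x` from a vector that is not a multiple of it -/
theorem exists_dual_sep {n : ℕ} {x z : Fin n → F} (hx0 : x ≠ 0) (h : ∀ c : F, z ≠ c • x) :
    ∃ f : Module.Dual F (Fin n → F), f x ≠ 0 ∧ f z = 0 := by
  have hnot : x ∉ Submodule.span F ({z} : Set (Fin n → F)) := by
    intro hmem
    obtain ⟨c, hc⟩ := Submodule.mem_span_singleton.1 hmem
    have hc0 : c ≠ 0 := by
      rintro rfl
      rw [zero_smul] at hc
      exact hx0 hc.symm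
    apply h c⁻¹
    rw [← hc, smul_smul, inv_mul_cancel₀ hc0, one_smul]
  obtain ⟨f, hf, hmap⟩ := Submodule.exists_dual_map_eq_bot_of_notMem hnot inferInstance
  refine ⟨f, hf, ?_⟩
  have : f z ∈ (Submodule.span F ({z} : Set (Fin n → F))).map f :=
    ⟨z, Submodule.mem_span_singleton_self z, rfl⟩
  rw [hmap] at this
  exact (Submodule.mem_bot F).1 this

section tensor

variable (e : ι ≃ Fin n₁ × Fin n₂) (P : Matrix.GeneralLinearGroup ι F)

/-- if the displacements of the pure tensors under a Kronecker product lie in a subspace of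
dimension less than `n₂`, the first factor maps every vector to a multiple of itself -/
theorem kron_left_eigen (a : Matrix.GeneralLinearGroup (Fin n₁) F)
    (b : Matrix.GeneralLinearGroup (Fin n₂) F) (S : Submodule F (ι → F))
    (hS : finrank F S < n₂)
    (hall : ∀ (x : Fin n₁ → F) (y : Fin n₂ → F),
      ((Phi e P (kron a b) : Matrix.GeneralLinearGroup ι F) : Matrix ι ι F) *ᵥ emb e P (pt x y) -
        emb e P (pt x y) ∈ S) (x : Fin n₁ → F) :
    ∃ c : F, (a : Matrix (Fin n₁) (Fin n₁) F) *ᵥ x = c • x := by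
  by_contra hcon
  push Not at hcon
  have hx0 : x ≠ 0 := by
    rintro rfl
    exact hcon 0 (by rw [Matrix.mulVec_zero, smul_zero])
  obtain ⟨f, hfx, hfz⟩ := exists_dual_sep hx0 hcon
  let M : (Fin n₂ → F) →ₗ[F] (ι → F) :=
    { toFun := fun y => emb e P (pt ((a : Matrix (Fin n₁) (Fin n₁) F) *ᵥ x)
        ((b : Matrix (Fin n₂) (Fin n₂) F) *ᵥ y) - pt x y)
      map_add' := by
        intro y y'
        rw [← emb_add, Matrix.mulVec_add, pt_add_right, pt_add_right]
        congr 1
        abel
      map_smul' := by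
        intro c y
        rw [RingHom.id_apply, ← emb_smul, Matrix.mulVec_smul, pt_smul_right, pt_smul_right,
          smul_sub] }
  have hM : ∀ y, M y = emb e P (pt ((a : Matrix (Fin n₁) (Fin n₁) F) *ᵥ x)
      ((b : Matrix (Fin n₂) (Fin n₂) F) *ᵥ y) - pt x y) := fun y => rfl
  have hinj : Function.Injective M := by
    rw [← LinearMap.ker_eq_bot, eq_bot_iff]
    intro y hy
    rw [LinearMap.mem_ker, hM] at hy
    have h1 := emb_eq_zero e P hy
    have h2 := congrArg (contrL (n₂ := n₂) f) h1
    rw [map_sub, contrL_pt, contrL_pt, hfz, zero_smul, zero_sub, map_zero, neg_eq_zero] at h2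
    rw [Submodule.mem_bot]
    rcases smul_eq_zero.1 h2 with h | h
    · exact absurd h hfx
    · exact h
  have hrange : LinearMap.range M ≤ S := by
    rintro _ ⟨y, rfl⟩
    rw [hM, emb_sub, ← Phi_kron_emb_pt]
    exact hall x y
  have h1 := Submodule.finrank_mono hrange
  rw [LinearMap.finrank_range_of_inj hinj, Module.finrank_fintype_fun_eq_card,
    Fintype.card_fin] at h1
  omega

/-- the same for the second factor -/
theorem kron_right_eigen (a : Matrix.GeneralLinearGroup (Fin n₁) F)
    (b : Matrix.GeneralLinearGroup (Fin n₂) F) (S : Submodule F (ι → F))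
    (hS : finrank F S < n₁)
    (hall : ∀ (x : Fin n₁ → F) (y : Fin n₂ → F),
      ((Phi e P (kron a b) : Matrix.GeneralLinearGroup ι F) : Matrix ι ι F) *ᵥ emb e P (pt x y) -
        emb e P (pt x y) ∈ S) (y : Fin n₂ → F) :
    ∃ c : F, (b : Matrix (Fin n₂) (Fin n₂) F) *ᵥ y = c • y := by
  by_contra hcon
  push Not at hcon
  have hy0 : y ≠ 0 := by
    rintro rfl
    exact hcon 0 (by rw [Matrix.mulVec_zero, smul_zero])
  obtain ⟨f, hfy, hfz⟩ := exists_dual_sep hy0 hcon
  let M : (Fin n₁ → F) →ₗ[F] (ι → F) :=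
    { toFun := fun x => emb e P (pt ((a : Matrix (Fin n₁) (Fin n₁) F) *ᵥ x)
        ((b : Matrix (Fin n₂) (Fin n₂) F) *ᵥ y) - pt x y)
      map_add' := by
        intro x x'
        rw [← emb_add, Matrix.mulVec_add, pt_add_left, pt_add_left]
        congr 1
        abel
      map_smul' := by
        intro c x
        rw [RingHom.id_apply, ← emb_smul, Matrix.mulVec_smul, pt_smul_left, pt_smul_left,
          smul_sub] }
  have hM : ∀ x, M x = emb e P (pt ((a : Matrix (Fin n₁) (Fin n₁) F) *ᵥ x)
      ((b : Matrix (Fin n₂) (Fin n₂) F) *ᵥ y) - pt x y) := fun x => rfl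
  have hinj : Function.Injective M := by
    rw [← LinearMap.ker_eq_bot, eq_bot_iff]
    intro x hx
    rw [LinearMap.mem_ker, hM] at hx
    have h1 := emb_eq_zero e P hx
    have h2 := congrArg (contrR (n₁ := n₁) f) h1
    rw [map_sub, contrR_pt, contrR_pt, hfz, zero_smul, zero_sub, map_zero, neg_eq_zero] at h2
    rw [Submodule.mem_bot]
    rcases smul_eq_zero.1 h2 with h | h
    · exact absurd h hfy
    · exact h
  have hrange : LinearMap.range M ≤ S := by
    rintro _ ⟨x, rfl⟩
    rw [hM, emb_sub, ← Phi_kron_emb_pt]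
    exact hall x y
  have h1 := Submodule.finrank_mono hrange
  rw [LinearMap.finrank_range_of_inj hinj, Module.finrank_fintype_fun_eq_card,
    Fintype.card_fin] at h1
  omega

/-- every vector is a combination of embedded pure tensors: a linear condition holding on them
holds everywhere -/
theorem emb_pt_induction (T : Submodule F (ι → F))
    (h : ∀ (x : Fin n₁ → F) (y : Fin n₂ → F), emb e P (pt x y) ∈ T) : T = ⊤ := by
  rw [eq_top_iff]
  intro w _
  obtain ⟨X, rfl⟩ := emb_surjective e P w
  have hX : X = ∑ p : Fin n₁ × Fin n₂, X p • pt (Pi.single p.1 (1 : F)) (Pi.single p.2 (1 : F)) := by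
    ext ⟨q1, q2⟩
    rw [Finset.sum_apply]
    simp only [Pi.smul_apply, smul_eq_mul, pt_apply]
    rw [Finset.sum_eq_single (q1, q2)]
    · rw [Pi.single_eq_same, Pi.single_eq_same, mul_one, mul_one]
    · intro p _ hpq
      have : q1 ≠ p.1 ∨ q2 ≠ p.2 := by
        by_contra hcon
        push Not at hcon
        exact hpq (Prod.ext hcon.1.symm hcon.2.symm)
      rcases this with h1 | h1
      · rw [Pi.single_eq_of_ne h1, zero_mul, mul_zero]
      · rw [Pi.single_eq_of_ne h1, mul_zero, mul_zero]
    · intro hq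
      exact absurd (Finset.mem_univ _) hq
  rw [hX]
  have hlin : ∀ (s : Finset (Fin n₁ × Fin n₂)),
      emb e P (∑ p ∈ s, X p • pt (Pi.single p.1 (1 : F)) (Pi.single p.2 (1 : F))) ∈ T := by
    intro s
    induction s using Finset.induction_on with
    | empty =>
      rw [Finset.sum_empty, emb_zero]
      exact T.zero_mem
    | insert p s hp ih =>
      rw [Finset.sum_insert hp, emb_add, emb_smul]
      exact T.add_mem (T.smul_mem _ (h _ _)) ih
  exact hlin Finset.univ

end tensor

section proper

variable [Fintype F] {Q : QuadraticForm F (ι → F)}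

/-- `Ω` stabilises no tensor decomposition with both factors of dimension at least three -/
theorem not_le_tensor (H : Hyp Q) (h1 : 3 ≤ n₁) (h2 : 3 ≤ n₂) (e : ι ≃ Fin n₁ × Fin n₂)
    (P : Matrix.GeneralLinearGroup ι F) :
    ¬ Cfsg.Geo.omegaGL ⇑Q ≤ Cfsg.Geo.tensorProductSubgroup n₁ n₂ e P := by
  classical
  intro hle
  obtain ⟨u, v, x, hu, hv, huv, hux, hvx, hv0⟩ := exists_siegel_pair H
  obtain ⟨a, b, hab⟩ := (mem_tensor e P _).1 (hle (siegel_mem_omegaGL H u v hu hv huv 1))
  have hρ : ∀ w, ((Phi e P (kron a b) : Matrix.GeneralLinearGroup ι F) : Matrix ι ι F) *ᵥ w =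
      w + polar ⇑Q u w • v - polar ⇑Q v w • u := by
    intro w
    rw [← hab, siegel_coe, siegelMatrix_mulVec, one_mul, one_mul]
  set S : Submodule F (ι → F) := Submodule.span F (({u, v} : Finset (ι → F)) : Set (ι → F)) with hSdef
  have hSfin : finrank F S ≤ 2 :=
    (finrank_span_finset_le_card _).trans Finset.card_le_two
  have hall : ∀ (x₁ : Fin n₁ → F) (y : Fin n₂ → F),
      ((Phi e P (kron a b) : Matrix.GeneralLinearGroup ι F) : Matrix ι ι F) *ᵥ
        emb e P (pt x₁ y) - emb e P (pt x₁ y) ∈ S := by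
    intro x₁ y
    rw [hρ]
    have : emb e P (pt x₁ y) + polar ⇑Q u (emb e P (pt x₁ y)) • v -
        polar ⇑Q v (emb e P (pt x₁ y)) • u - emb e P (pt x₁ y) =
        polar ⇑Q u (emb e P (pt x₁ y)) • v - polar ⇑Q v (emb e P (pt x₁ y)) • u := by abel
    rw [this]
    refine Submodule.sub_mem _ (Submodule.smul_mem _ _ (Submodule.subset_span ?_))
      (Submodule.smul_mem _ _ (Submodule.subset_span ?_))
    · simp
    · simp
  -- every pure tensor is fixed
  have hfix : ∀ (x₁ : Fin n₁ → F) (y : Fin n₂ → F),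
      ((Phi e P (kron a b) : Matrix.GeneralLinearGroup ι F) : Matrix ι ι F) *ᵥ
        emb e P (pt x₁ y) = emb e P (pt x₁ y) := by
    intro x₁ y
    obtain ⟨c, hc⟩ := kron_left_eigen e P a b S (by omega) hall x₁
    obtain ⟨d, hd⟩ := kron_right_eigen e P a b S (by omega) hall y
    have h3 : ((Phi e P (kron a b) : Matrix.GeneralLinearGroup ι F) : Matrix ι ι F) *ᵥ
        emb e P (pt x₁ y) = (c * d) • emb e P (pt x₁ y) := by
      rw [Phi_kron_emb_pt, hc, hd, pt_smul_left, pt_smul_right, emb_smul, emb_smul, smul_smul]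
    by_cases hw0 : emb e P (pt x₁ y) = 0
    · rw [hw0, Matrix.mulVec_zero]
    -- the square of `ρ - 1` vanishes
    have hsq := siegel_sq (Q := Q) u v hu hv huv 1 (emb e P (pt x₁ y))
    rw [hab, h3, Matrix.mulVec_smul, h3, smul_smul, smul_smul] at hsq
    have h4 : ((c * d - 1) * (c * d - 1)) • emb e P (pt x₁ y) = 0 := by
      have : ((c * d - 1) * (c * d - 1)) • emb e P (pt x₁ y) =
          (c * d * (c * d)) • emb e P (pt x₁ y) - ((2 : F) * (c * d)) • emb e P (pt x₁ y) +
            emb e P (pt x₁ y) := by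
        have e0 : (c * d - 1) * (c * d - 1) = c * d * (c * d) - (2 : F) * (c * d) + 1 := by ring
        rw [e0, add_smul, sub_smul, one_smul]
      rw [this, hsq]
      abel
    rcases smul_eq_zero.1 h4 with h | h
    · have hcd : c * d = 1 := by
        have := mul_self_eq_zero.1 h
        linear_combination this
      rw [h3, hcd, one_smul]
    · exact absurd h hw0
  -- hence the Siegel transformation is trivial
  let T : Submodule F (ι → F) :=
    LinearMap.ker (Matrix.toLin' ((Phi e P (kron a b) : Matrix.GeneralLinearGroup ι F) :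
      Matrix ι ι F) - LinearMap.id)
  have hT : T = ⊤ := by
    apply emb_pt_induction e P
    intro x₁ y
    show _ ∈ LinearMap.ker _
    rw [LinearMap.mem_ker, LinearMap.sub_apply, Matrix.toLin'_apply, hfix, LinearMap.id_apply,
      sub_self]
  have hx : x ∈ T := by rw [hT]; exact Submodule.mem_top
  have hx' : ((Phi e P (kron a b) : Matrix.GeneralLinearGroup ι F) : Matrix ι ι F) *ᵥ x = x := by
    have := LinearMap.mem_ker.1 hx
    rw [LinearMap.sub_apply, Matrix.toLin'_apply, LinearMap.id_apply, sub_eq_zero] at this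
    exact this
  rw [hρ, hux, hvx, one_smul, zero_smul, sub_zero] at hx'
  exact hv0 (by simpa using hx')

end proper

end Cfsg.Agent.Lib.Helper2.Oev
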