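import Mathlib
import Cfsg.Prelude
import Cfsg.Agent.Lib.Helper2.OmxB
import Cfsg.Agent.Lib.Helper5.OrthNondegSub
import Cfsg.Agent.Lib.Helper5.OrthPlusPlane
import Cfsg.Agent.Lib.Helper5.OrthBridge
import Cfsg.Agent.Lib.Helper5.SpinorHyp2

set_option autoImplicit false
set_option linter.unusedSectionVars false
set_option linter.unusedVariables false
open Cfsg

/-! The explicit diversions for non-degenerate subspaces (odd dimension to the orthogonal
complement, plus-type planes over the field of order three to the complement of a nonsingular point)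
and the general shape of a maximal subgroup of `Ω_{2m+1}(q)` from the subgroup structure theorem. -/

namespace Cfsg.Agent.Lib.Helper2.Omx

open Matrix QuadraticMap Module Cfsg.Agent.Lib.Helper5.CartanDieudonne Cfsg.Agent.Lib.Helper5.Refl
  Cfsg.Agent.Lib.Helper5.Siegel Cfsg.Agent.Lib.Helper5.QuadIsom
  Cfsg.Agent.Lib.Helper5.ReflGen Cfsg.Agent.Lib.Helper5.Eichler Cfsg.Agent.Lib.Helper5.SingGeom
  Cfsg.Agent.Lib.Helper5.OmegaGen Cfsg.Agent.Lib.Helper5.OmegaSimple Cfsg.Agent.Lib.Helper5.MaxTS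
  Cfsg.Agent.Lib.Helper5.SpSingularMax Cfsg.Agent.Lib.Helper5.OrthSingularMax
  Cfsg.Agent.Lib.Helper5.OrthDecompSiegel Cfsg.Agent.Lib.Helper5.OrthNondegMax
  Cfsg.Agent.Lib.Helper5.OrthNondegGen Cfsg.Agent.Lib.Helper5.OrthNondegSub
  Cfsg.Agent.Lib.Helper5.OrthPlusPlane

variable {ι : Type} [Fintype ι] [DecidableEq ι] {F : Type*} [Field F] [Fintype F]
  {Q : QuadraticForm F (ι → F)}

/-- over a field with at most three elements the stabiliser in `Ω` of a hyperbolic plane fixes a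
nonsingular point of the plane -/
theorem plus_plane_divert (H : Hyp Q) (hq : Fintype.card F ≤ 3)
    (W : Submodule F (ι → F)) (hdim : finrank F W = 2)
    (hW : Cfsg.Geo.IsNondegenerateOn (polar ⇑Q) W) (hplus : Cfsg.Geo.IsPlusTypeOn ⇑Q W) :
    ∃ v : ι → F, Q v ≠ 0 ∧ Cfsg.Geo.subspaceStabilizer W ⊓ Cfsg.Geo.omegaGL ⇑Q ≤
      Cfsg.Geo.subspaceStabilizer (Submodule.span F ({v} : Set (ι → F))) ⊓
        Cfsg.Geo.omegaGL ⇑Q := by
  have hQ := H.nondeg
  obtain ⟨U, hUW, hUts, hUdim⟩ := hplus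
  have hU1 : finrank F U = 1 := by omega
  have hU0 : U ≠ ⊥ := by
    intro h
    rw [h, finrank_bot] at hU1
    omega
  obtain ⟨e, heU, he0⟩ := (Submodule.ne_bot_iff U).1 hU0
  have hQe : Q e = 0 := hUts e heU
  have heW : e ∈ W := hUW heU
  obtain ⟨y, hyW, hey⟩ := (hW e heW he0).2
  have hye : polar ⇑Q y e ≠ 0 := by rw [polar_comm]; exact hey
  obtain ⟨y', hy'def⟩ : ∃ y', y' = y + (-(Q y) / polar ⇑Q y e) • e := ⟨_, rfl⟩
  have hQy' : Q y' = 0 := by
    rw [hy'def, Cfsg.Agent.Lib.Helper5.QuadIsom.quad_add_smul, hQe, mul_zero, add_zero, div_mul_cancel₀ _ hye]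
    ring
  have hey' : polar ⇑Q e y' = polar ⇑Q e y := by
    rw [hy'def, polar_add_right, polar_smul_right, polar_self_of_sing Q e hQe, smul_zero,
      add_zero]
  have hy'W : y' ∈ W := by
    rw [hy'def]
    exact W.add_mem hyW (W.smul_mem _ heW)
  obtain ⟨f, hfdef⟩ : ∃ f, f = (polar ⇑Q e y)⁻¹ • y' := ⟨_, rfl⟩
  have hQf : Q f = 0 := by rw [hfdef, QuadraticMap.map_smul, hQy', smul_zero]
  have hef : polar ⇑Q e f = 1 := by
    rw [hfdef, polar_smul_right, hey', smul_eq_mul, inv_mul_cancel₀ hey]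
  have hfe : polar ⇑Q f e = 1 := by rw [polar_comm]; exact hef
  have hfW : f ∈ W := by
    rw [hfdef]
    exact W.smul_mem _ hy'W
  have hee : polar ⇑Q e e = 0 := polar_self_of_sing Q e hQe
  have hff : polar ⇑Q f f = 0 := polar_self_of_sing Q f hQf
  have hli : LinearIndependent F ![e, f] := by
    rw [LinearIndependent.pair_iff]
    intro s t hst
    have e1 := congrArg (fun x => polar ⇑Q x f) hst
    have e2 := congrArg (fun x => polar ⇑Q x e) hst
    simp only [polar_add_left, polar_smul_left, hef, hfe, hee, hff, polar_zero_left,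
      smul_eq_mul, mul_one, mul_zero, add_zero, zero_add] at e1 e2
    exact ⟨e1, e2⟩
  have hspan : Submodule.span F ({e, f} : Set (ι → F)) = W := by
    apply Submodule.eq_of_le_of_finrank_eq
    · rw [Submodule.span_le]
      intro z hz
      rcases hz with rfl | hz
      · exact heW
      · rw [Set.mem_singleton_iff] at hz
        rw [hz]; exact hfW
    · rw [finrank_span_pair_eq e f hli, hdim]
  have hWmem : ∀ x ∈ W, ∃ a b : F, a • e + b • f = x := by
    intro x hx
    rw [← hspan] at hx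
    exact Submodule.mem_span_pair.mp hx
  obtain ⟨v, hvdef⟩ : ∃ v, v = e + f := ⟨_, rfl⟩
  have hQv : Q v = 1 := by rw [hvdef, quad_add', hQe, hQf, hef]; ring
  have hvW : v ∈ W := by rw [hvdef]; exact W.add_mem heW hfW
  refine ⟨v, by rw [hQv]; exact one_ne_zero, ?_⟩
  rintro g ⟨hgS, hgΩ⟩
  refine ⟨?_, hgΩ⟩
  obtain ⟨a₀, -, rfl⟩ := (mem_omegaGL_iff Q g).mp hgΩ
  have hgv : act Q a₀ v ∈ W := ((mem_stab_iff W _).mp hgS v).mp hvW
  obtain ⟨a, b, hab⟩ := hWmem _ hgv
  have hQab : Q (a • e + b • f) = a * b := by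
    rw [quad_add', QuadraticMap.map_smul, QuadraticMap.map_smul, hQe, hQf, polar_smul_left,
      polar_smul_right, hef]
    simp only [smul_eq_mul, mul_zero, mul_one, zero_add]
  have h1 : a * b = 1 := by
    rw [← hQab, hab, quad_act, hQv]
  have ha0 : a ≠ 0 := by
    rintro rfl
    rw [zero_mul] at h1
    exact zero_ne_one h1
  have h2 := mul_self_eq_one_of_card_le hq a ha0
  have hba : b = a := by
    have : a * b = a * a := by rw [h1, h2]
    exact mul_left_cancel₀ ha0 this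
  have hgv' : act Q a₀ v = a • v := by
    rw [← hab, hba, hvdef, smul_add]
  apply mem_stab_of_map_le
  intro x hx
  obtain ⟨c, rfl⟩ := Submodule.mem_span_singleton.mp hx
  have : ((a₀ : Matrix.GeneralLinearGroup ι F) : Matrix ι ι F) *ᵥ (c • v) =
      c • act Q a₀ v := Matrix.mulVec_smul _ _ _
  rw [this, hgv', smul_smul]
  exact Submodule.smul_mem _ _ (Submodule.mem_span_singleton_self v)

/-- a nonsingular point is a non-degenerate subspace (odd characteristic) -/
theorem line_nondeg (h2 : (2 : F) ≠ 0) (v : ι → F) (hv : Q v ≠ 0) :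
    Cfsg.Geo.IsNondegenerateOn (polar ⇑Q) (Submodule.span F ({v} : Set (ι → F))) := by
  intro w hw hw0
  obtain ⟨c, rfl⟩ := Submodule.mem_span_singleton.mp hw
  have hc : c ≠ 0 := by
    rintro rfl
    exact hw0 (zero_smul _ _)
  have hvv : polar ⇑Q v v ≠ 0 := by
    rw [polar_self, two_smul, ← two_mul]
    exact mul_ne_zero h2 hv
  refine ⟨⟨v, Submodule.mem_span_singleton_self v, ?_⟩, ⟨v, Submodule.mem_span_singleton_self v, ?_⟩⟩
  · rw [polar_smul_right, smul_eq_mul]
    exact mul_ne_zero hc hvv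
  · rw [polar_smul_left, smul_eq_mul]
    exact mul_ne_zero hc hvv

/-- every stabiliser in `Ω` of a proper non-degenerate subspace (odd dimension) lies in the stabiliser of an
even-dimensional non-degenerate subspace that is not a plus-type plane over the field of order three -/
theorem exists_good (H : Hyp Q) (h2 : (2 : F) ≠ 0) (hn : 7 ≤ Fintype.card ι)
    (hoddn : Odd (Fintype.card ι)) (W : Submodule F (ι → F)) (hW0 : W ≠ ⊥) (hW1 : W ≠ ⊤)
    (hW : Cfsg.Geo.IsNondegenerateOn (polar ⇑Q) W) :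
    ∃ W' : Submodule F (ι → F), W' ≠ ⊥ ∧ W' ≠ ⊤ ∧ Even (finrank F W') ∧
      Cfsg.Geo.IsNondegenerateOn (polar ⇑Q) W' ∧
      ¬ (Fintype.card F = 3 ∧ finrank F W' = 2 ∧ Cfsg.Geo.IsPlusTypeOn ⇑Q W') ∧
      Cfsg.Geo.subspaceStabilizer W ⊓ Cfsg.Geo.omegaGL ⇑Q ≤
        Cfsg.Geo.subspaceStabilizer W' ⊓ Cfsg.Geo.omegaGL ⇑Q := by
  have hQ := H.nondeg
  obtain ⟨k, hk⟩ := hoddn
  have hne_top : ∀ X : Submodule F (ι → F), Even (finrank F X) → X ≠ ⊤ := by
    intro X hX h
    rw [h, finrank_top, Module.finrank_fintype_fun_eq_card] at hX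
    obtain ⟨r, hr⟩ := hX
    omega
  -- step A
  obtain ⟨W₁, hW₁0, hW₁e, hW₁, hle₁⟩ : ∃ W₁ : Submodule F (ι → F), W₁ ≠ ⊥ ∧
      Even (finrank F W₁) ∧ Cfsg.Geo.IsNondegenerateOn (polar ⇑Q) W₁ ∧
      Cfsg.Geo.subspaceStabilizer W ⊓ Cfsg.Geo.omegaGL ⇑Q ≤
        Cfsg.Geo.subspaceStabilizer W₁ ⊓ Cfsg.Geo.omegaGL ⇑Q := by
    by_cases he : Even (finrank F W)
    · exact ⟨W, hW0, he, hW, le_rfl⟩
    · have hsum := finrank_add_orth hQ W
      refine ⟨Cfsg.Agent.Lib.Helper5.MaxTS.orth Q W, ?_, ?_, nondeg_orth hQ hW, stab_le (oPair_of_nondeg hQ hW) hQ⟩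
      · intro h
        rw [h, finrank_bot, add_zero] at hsum
        apply hW1
        apply Submodule.eq_top_of_finrank_eq
        rw [hsum, Module.finrank_fintype_fun_eq_card]
      · rw [Nat.not_even_iff_odd] at he
        obtain ⟨r, hr⟩ := he
        exact ⟨k - r, by omega⟩
  by_cases hbad : Fintype.card F = 3 ∧ finrank F W₁ = 2 ∧ Cfsg.Geo.IsPlusTypeOn ⇑Q W₁
  · obtain ⟨hq3, hd2, hplus⟩ := hbad
    obtain ⟨v, hv, hle₂⟩ := plus_plane_divert H (by omega) W₁ hd2 hW₁ hplus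
    have hv0 : v ≠ 0 := by
      rintro rfl
      exact hv (map_zero Q)
    have hL := line_nondeg h2 v hv
    have hsum := finrank_add_orth hQ (Submodule.span F ({v} : Set (ι → F)))
    rw [finrank_span_singleton hv0] at hsum
    have hev : Even (finrank F (Cfsg.Agent.Lib.Helper5.MaxTS.orth Q (Submodule.span F ({v} : Set (ι → F))))) :=
      ⟨k, by omega⟩
    refine ⟨Cfsg.Agent.Lib.Helper5.MaxTS.orth Q (Submodule.span F ({v} : Set (ι → F))), ?_, hne_top _ hev, hev,
      nondeg_orth hQ hL, ?_, hle₁.trans (hle₂.trans (stab_le (oPair_of_nondeg hQ hL) hQ))⟩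
    · intro h
      rw [h, finrank_bot] at hsum
      omega
    · rintro ⟨-, h, -⟩
      omega
  · exact ⟨W₁, hW₁0, hne_top _ hW₁e, hW₁e, hW₁, hbad, hle₁⟩

end Cfsg.Agent.Lib.Helper2.Omx
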