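import Mathlib
import Cfsg.Prelude
import Cfsg.Agent.Lib.Helper2.OevF
import Cfsg.Agent.Lib.Helper2.OevD
import Cfsg.Agent.Lib.Helper2.OmxC
import Cfsg.Agent.Lib.Helper5.AltForm
import Cfsg.Agent.Lib.Helper5.OrthNondegSub

set_option autoImplicit false
set_option linter.unusedSectionVars false
set_option linter.unusedVariables false
open Cfsg

/-! Non-degenerate subspaces in all characteristics: parity of the dimension in characteristic
two, the switch to the orthogonal complement, and the planes. -/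

namespace Cfsg.Agent.Lib.Helper2.Oev

open Module QuadraticMap Cfsg.Agent.Lib.Helper5 Cfsg.Agent.Lib.Helper5.OmegaSimple
  Cfsg.Agent.Lib.Helper2.Omx

variable {ι : Type} [Fintype ι] [DecidableEq ι] {F : Type*} [Field F]
  {Q : QuadraticForm F (ι → F)}

theorem polar_self_char2 (h2 : (2 : F) = 0) (x : ι → F) : polar ⇑Q x x = 0 := by
  rw [polar_self, two_smul, ← two_mul, h2, zero_mul]

/-- in characteristic two a subspace non-degenerate for the polar form has even dimension -/
theorem even_finrank_of_nd (h2 : (2 : F) = 0) {W : Submodule F (ι → F)} (hnd : ND Q W) :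
    Even (finrank F W) := by
  let B : LinearMap.BilinForm F W := LinearMap.BilinForm.restrict (polarBilin Q) W
  have hB : ∀ x y : W, B x y = polar ⇑Q (x : ι → F) (y : ι → F) := fun x y => rfl
  have hA : B.IsAlt := fun x => by rw [hB]; exact polar_self_char2 h2 _
  obtain ⟨m, k, b, -, -, -, -, h5, h6⟩ := Cfsg.Agent.Lib.Helper5.AltForm.exists_darboux_basis B hA
  have hker : LinearMap.ker B = ⊥ := by
    rw [eq_bot_iff]
    intro x hx
    rw [LinearMap.mem_ker] at hx
    rw [Submodule.mem_bot]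
    apply Subtype.ext
    apply hnd x.1 x.2
    intro w hw
    have := LinearMap.congr_fun hx ⟨w, hw⟩
    rw [hB] at this
    exact this
  rw [hker, finrank_bot] at h6
  exact ⟨m, by omega⟩

variable [Fintype F]

/-- the switch to the orthogonal complement -/
theorem perp_switch (H : Hyp Q) {W : Submodule F (ι → F)}
    (hW : Cfsg.Geo.IsNondegenerateOn (polar ⇑Q) W) :
    Cfsg.Geo.IsNondegenerateOn (polar ⇑Q) (MaxTS.orth Q W) ∧
      finrank F W + finrank F (MaxTS.orth Q W) = Fintype.card ι ∧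
      Cfsg.Geo.subspaceStabilizer W ⊓ Cfsg.Geo.omegaGL ⇑Q ≤
        Cfsg.Geo.subspaceStabilizer (MaxTS.orth Q W) ⊓ Cfsg.Geo.omegaGL ⇑Q :=
  ⟨OrthNondegSub.nondeg_orth H.nondeg hW, OrthNondegSub.finrank_add_orth H.nondeg W,
    OrthNondegGen.stab_le (OrthNondegSub.oPair_of_nondeg H.nondeg hW) H.nondeg⟩

/-- a proper non-degenerate subspace may be replaced by one of at most half the dimension -/
theorem exists_small_nondeg (H : Hyp Q) {W : Submodule F (ι → F)} (hW0 : W ≠ ⊥) (hW1 : W ≠ ⊤)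
    (hW : Cfsg.Geo.IsNondegenerateOn (polar ⇑Q) W) :
    ∃ W' : Submodule F (ι → F), W' ≠ ⊥ ∧ W' ≠ ⊤ ∧ Cfsg.Geo.IsNondegenerateOn (polar ⇑Q) W' ∧
      2 * finrank F W' ≤ Fintype.card ι ∧
      Cfsg.Geo.subspaceStabilizer W ⊓ Cfsg.Geo.omegaGL ⇑Q ≤
        Cfsg.Geo.subspaceStabilizer W' ⊓ Cfsg.Geo.omegaGL ⇑Q := by
  by_cases hle : 2 * finrank F W ≤ Fintype.card ι
  · exact ⟨W, hW0, hW1, hW, hle, le_rfl⟩
  · obtain ⟨h1, h2, h3⟩ := perp_switch H hW
    have hWpos : 0 < finrank F W := by
      rw [Module.finrank_pos_iff_exists_ne_zero]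
      obtain ⟨w, hw, hw0⟩ := (Submodule.ne_bot_iff W).1 hW0
      exact ⟨⟨w, hw⟩, fun h => hw0 (congrArg Subtype.val h)⟩
    have hWlt : finrank F W < Fintype.card ι := by
      rw [← Module.finrank_fintype_fun_eq_card (R := F)]
      exact Submodule.finrank_lt hW1
    refine ⟨MaxTS.orth Q W, ?_, ?_, h1, by omega, h3⟩
    · intro h
      rw [h, finrank_bot] at h2
      omega
    · intro h
      rw [h, finrank_top, Module.finrank_fintype_fun_eq_card] at h2
      omega

/-- the four possibilities for a non-degenerate plane -/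
theorem plane_cases (H : Hyp Q) {W : Submodule F (ι → F)} (hdim : finrank F W = 2)
    (hW : Cfsg.Geo.IsNondegenerateOn (polar ⇑Q) W) :
    ¬ Cfsg.Geo.IsPlusTypeOn ⇑Q W ∨
    (4 ≤ Fintype.card F ∧ Cfsg.Geo.IsPlusTypeOn ⇑Q W) ∨
    (∃ v : ι → F, Q v ≠ 0 ∧ Cfsg.Geo.subspaceStabilizer W ⊓ Cfsg.Geo.omegaGL ⇑Q ≤
      Cfsg.Geo.subspaceStabilizer (Submodule.span F ({v} : Set (ι → F))) ⊓
        Cfsg.Geo.omegaGL ⇑Q) := by
  by_cases hplus : Cfsg.Geo.IsPlusTypeOn ⇑Q W
  · by_cases hq : 4 ≤ Fintype.card F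
    · exact Or.inr (Or.inl ⟨hq, hplus⟩)
    · exact Or.inr (Or.inr (plus_plane_divert H (by omega) W hdim hW hplus))
  · exact Or.inl hplus

theorem span_singleton_ne_bot {v : ι → F} (hv : Q v ≠ 0) :
    Submodule.span F ({v} : Set (ι → F)) ≠ ⊥ := by
  intro h
  rw [Submodule.span_singleton_eq_bot] at h
  rw [h, map_zero] at hv
  exact hv rfl

theorem span_singleton_ne_top (h2 : 2 ≤ Fintype.card ι) (v : ι → F) :
    Submodule.span F ({v} : Set (ι → F)) ≠ ⊤ := by
  intro h
  have h1 : finrank F (Submodule.span F ({v} : Set (ι → F))) ≤ 1 := by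
    by_cases hv : v = 0
    · rw [hv, Submodule.span_zero_singleton, finrank_bot]
      omega
    · rw [finrank_span_singleton hv]
  rw [h, finrank_top, Module.finrank_fintype_fun_eq_card] at h1
  omega

theorem char_two_of_two_eq_zero (h2 : (2 : F) = 0) : ringChar F = 2 := by
  have h := ringChar.dvd (R := F) (show ((2 : ℕ) : F) = 0 by exact_mod_cast h2)
  rcases (Nat.dvd_prime Nat.prime_two).1 h with h1 | h1
  · exfalso
    haveI : CharP F 1 := h1 ▸ ringChar.charP F
    exact one_ne_zero (CharP.cast_eq_zero F 1 ▸ (Nat.cast_one (R := F)).symm)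
  · exact h1

theorem two_eq_zero_of_not_odd (h : ¬ Odd (Fintype.card F)) : (2 : F) = 0 := by
  have heven : Fintype.card F % 2 = 0 := by
    rcases Nat.even_or_odd (Fintype.card F) with he | ho
    · exact Nat.even_iff.1 he
    · exact absurd ho h
  have hchar : ringChar F = 2 := FiniteField.even_card_iff_char_two.2 heven
  haveI : CharP F 2 := hchar ▸ ringChar.charP F
  exact CharTwo.two_eq_zero

theorem not_odd_of_two_eq_zero (h2 : (2 : F) = 0) : ¬ Odd (Fintype.card F) := by
  intro hodd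
  have h0 := FiniteField.even_card_iff_char_two.1 (char_two_of_two_eq_zero h2)
  have := Nat.odd_iff.1 hodd
  omega

theorem two_ne_zero_of_odd' (hodd : Odd (Fintype.card F)) : (2 : F) ≠ 0 :=
  fun h2 => not_odd_of_two_eq_zero h2 hodd

end Cfsg.Agent.Lib.Helper2.Oev
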