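import Mathlib
import Cfsg.Prelude

set_option autoImplicit false
set_option linter.unusedSectionVars false
set_option linter.unusedVariables false
open Cfsg

/-! The quadratic field `F[J]` generated by a matrix `J` with `J² = δ`, `δ` a non-square, and its
normaliser. -/

namespace Cfsg.Agent.Lib.Helper2.Oev

open Matrix Module

variable {ι : Type} [Fintype ι] [DecidableEq ι] {F : Type*} [Field F]

theorem quad_mul {J : Matrix ι ι F} {δ : F} (hJ : J * J = δ • (1 : Matrix ι ι F))
    (a b a' b' : F) :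
    (a • (1 : Matrix ι ι F) + b • J) * (a' • (1 : Matrix ι ι F) + b' • J) =
      (a * a' + b * b' * δ) • (1 : Matrix ι ι F) + (a * b' + b * a') • J := by
  simp only [Matrix.add_mul, Matrix.mul_add, Matrix.smul_mul, Matrix.mul_smul, Matrix.one_mul,
    Matrix.mul_one, hJ]
  module

/-- the algebra `F + F J` for a matrix `J` whose square is a scalar -/
def quadAlg (J : Matrix ι ι F) (δ : F) (hJ : J * J = δ • (1 : Matrix ι ι F)) :
    Subalgebra F (Matrix ι ι F) where
  carrier := {M | ∃ a b : F, M = a • (1 : Matrix ι ι F) + b • J}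
  mul_mem' := by
    rintro _ _ ⟨a, b, rfl⟩ ⟨a', b', rfl⟩
    exact ⟨a * a' + b * b' * δ, a * b' + b * a', quad_mul hJ a b a' b'⟩
  one_mem' := ⟨1, 0, by rw [one_smul, zero_smul, add_zero]⟩
  add_mem' := by
    rintro _ _ ⟨a, b, rfl⟩ ⟨a', b', rfl⟩
    exact ⟨a + a', b + b', by rw [add_smul, add_smul]; abel⟩
  zero_mem' := ⟨0, 0, by rw [zero_smul, zero_smul, add_zero]⟩
  algebraMap_mem' := fun c => ⟨c, 0, by
    rw [zero_smul, add_zero, Algebra.algebraMap_eq_smul_one]⟩

theorem mem_quadAlg {J : Matrix ι ι F} {δ : F} {hJ : J * J = δ • (1 : Matrix ι ι F)}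
    (M : Matrix ι ι F) : M ∈ quadAlg J δ hJ ↔ ∃ a b : F, M = a • (1 : Matrix ι ι F) + b • J :=
  Iff.rfl

theorem quadAlg_indep [Nonempty ι] {J : Matrix ι ι F} {δ : F}
    (hJ : J * J = δ • (1 : Matrix ι ι F)) (hδ : ¬ IsSquare δ) {a b : F}
    (h : a • (1 : Matrix ι ι F) + b • J = 0) : a = 0 ∧ b = 0 := by
  have h1 : (1 : Matrix ι ι F) ≠ 0 := one_ne_zero
  have hsm : ∀ c : F, c • (1 : Matrix ι ι F) = 0 → c = 0 := by
    intro c hc
    rcases smul_eq_zero.1 hc with h | h
    · exact h
    · exact absurd h h1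
  have hb : b = 0 := by
    by_contra hb
    have hJ' : J = (-(a / b)) • (1 : Matrix ι ι F) := by
      have : b • J = (-a) • (1 : Matrix ι ι F) := by
        rw [neg_smul]
        exact eq_neg_of_add_eq_zero_right h
      calc J = b⁻¹ • (b • J) := by rw [smul_smul, inv_mul_cancel₀ hb, one_smul]
        _ = _ := by rw [this, smul_smul]; congr 1; field_simp
    apply hδ
    refine ⟨a / b, ?_⟩
    have h2 : (δ - a / b * (a / b)) • (1 : Matrix ι ι F) = 0 := by
      rw [sub_smul, ← hJ, hJ', Matrix.smul_mul, Matrix.mul_smul, Matrix.one_mul, smul_smul]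
      rw [neg_mul_neg, sub_self]
    have := hsm _ h2
    exact sub_eq_zero.1 this
  rw [hb, zero_smul, add_zero] at h
  exact ⟨hsm a h, hb⟩

theorem quadAlg_isField [Nonempty ι] {J : Matrix ι ι F} {δ : F}
    (hJ : J * J = δ • (1 : Matrix ι ι F)) (hδ : ¬ IsSquare δ) :
    Cfsg.Geo.IsFieldSubalgebra 2 (quadAlg J δ hJ) where
  comm := by
    rintro _ ⟨a, b, rfl⟩ _ ⟨a', b', rfl⟩
    rw [quad_mul hJ, quad_mul hJ]
    congr 2 <;> ring
  inv := by
    rintro _ ⟨a, b, rfl⟩ hne
    have hN : a * a - b * b * δ ≠ 0 := by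
      intro h0
      by_cases hb : b = 0
      · rw [hb, zero_mul, zero_mul, sub_zero] at h0
        have ha : a = 0 := mul_self_eq_zero.1 h0
        apply hne
        rw [ha, hb, zero_smul, zero_smul, add_zero]
      · apply hδ
        refine ⟨a / b, ?_⟩
        field_simp
        linear_combination -h0
    refine ⟨(a / (a * a - b * b * δ)) • (1 : Matrix ι ι F) + (-b / (a * a - b * b * δ)) • J,
      ⟨_, _, rfl⟩, ?_⟩
    rw [quad_mul hJ]
    have e1 : a * (-b / (a * a - b * b * δ)) + b * (a / (a * a - b * b * δ)) = 0 := by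
      field_simp
      ring
    have e2 : a * (a / (a * a - b * b * δ)) + b * (-b / (a * a - b * b * δ)) * δ = 1 := by
      have : a * (a / (a * a - b * b * δ)) + b * (-b / (a * a - b * b * δ)) * δ =
          (a * a - b * b * δ) / (a * a - b * b * δ) := by ring
      rw [this, div_self hN]
    rw [e1, e2, one_smul, zero_smul, add_zero]
  finrank_eq := by
    let φ : (Fin 2 → F) →ₗ[F] ↥(quadAlg J δ hJ) :=
      { toFun := fun x => ⟨x 0 • (1 : Matrix ι ι F) + x 1 • J, ⟨x 0, x 1, rfl⟩⟩
        map_add' := by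
          intro x y
          apply Subtype.ext
          show (x + y) 0 • (1 : Matrix ι ι F) + (x + y) 1 • J =
            (x 0 • (1 : Matrix ι ι F) + x 1 • J) + (y 0 • (1 : Matrix ι ι F) + y 1 • J)
          rw [Pi.add_apply, Pi.add_apply, add_smul, add_smul]
          abel
        map_smul' := by
          intro c x
          apply Subtype.ext
          show (c • x) 0 • (1 : Matrix ι ι F) + (c • x) 1 • J =
            c • (x 0 • (1 : Matrix ι ι F) + x 1 • J)
          rw [Pi.smul_apply, Pi.smul_apply, smul_eq_mul, smul_eq_mul, smul_add, smul_smul,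
            smul_smul] }
    have hinj : Function.Injective φ := by
      rw [← LinearMap.ker_eq_bot, eq_bot_iff]
      intro x hx
      rw [LinearMap.mem_ker] at hx
      have h0 : x 0 • (1 : Matrix ι ι F) + x 1 • J = 0 := congrArg Subtype.val hx
      obtain ⟨h1, h2⟩ := quadAlg_indep hJ hδ h0
      rw [Submodule.mem_bot]
      ext i
      fin_cases i
      · exact h1
      · exact h2
    have hsurj : Function.Surjective φ := by
      rintro ⟨_, a, b, rfl⟩
      refine ⟨fun i : Fin 2 => if i = 0 then a else b, Subtype.ext ?_⟩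
      show (if (0 : Fin 2) = 0 then a else b) • (1 : Matrix ι ι F) +
        (if (1 : Fin 2) = 0 then a else b) • J = _
      simp
    have := (LinearEquiv.ofBijective φ ⟨hinj, hsurj⟩).finrank_eq
    rw [Module.finrank_fin_fun] at this
    exact this.symm

/-- an invertible matrix conjugating `J` to `± J` normalises `F[J]` -/
theorem mem_normalizer_quadAlg {J : Matrix ι ι F} {δ : F}
    (hJ : J * J = δ • (1 : Matrix ι ι F)) (g : Matrix.GeneralLinearGroup ι F) (ε : F)
    (hε : ε * ε = 1)
    (hg : (g : Matrix ι ι F) * J * ((g⁻¹ : Matrix.GeneralLinearGroup ι F) : Matrix ι ι F) =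
      ε • J) :
    g ∈ Cfsg.Geo.subalgebraNormalizer (quadAlg J δ hJ) := by
  have h1 : ((g⁻¹ : Matrix.GeneralLinearGroup ι F) : Matrix ι ι F) * (g : Matrix ι ι F) = 1 := by
    rw [← Units.val_mul, inv_mul_cancel, Units.val_one]
  have h2 : (g : Matrix ι ι F) * ((g⁻¹ : Matrix.GeneralLinearGroup ι F) : Matrix ι ι F) = 1 := by
    rw [← Units.val_mul, mul_inv_cancel, Units.val_one]
  have hg' : ((g⁻¹ : Matrix.GeneralLinearGroup ι F) : Matrix ι ι F) * J * (g : Matrix ι ι F) =
      ε • J := by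
    have : J = ε • (((g⁻¹ : Matrix.GeneralLinearGroup ι F) : Matrix ι ι F) * J *
        (g : Matrix ι ι F)) := by
      calc J = ((g⁻¹ : Matrix.GeneralLinearGroup ι F) : Matrix ι ι F) * ((g : Matrix ι ι F) * J *
            ((g⁻¹ : Matrix.GeneralLinearGroup ι F) : Matrix ι ι F)) * (g : Matrix ι ι F) := by
            rw [Matrix.mul_assoc (g : Matrix ι ι F), ← Matrix.mul_assoc _ (g : Matrix ι ι F), h1,
              Matrix.one_mul, Matrix.mul_assoc, h1, Matrix.mul_one]
        _ = _ := by rw [hg, Matrix.mul_smul, Matrix.smul_mul]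
    calc ((g⁻¹ : Matrix.GeneralLinearGroup ι F) : Matrix ι ι F) * J * (g : Matrix ι ι F)
        = (ε * ε) • (((g⁻¹ : Matrix.GeneralLinearGroup ι F) : Matrix ι ι F) * J *
            (g : Matrix ι ι F)) := by rw [hε, one_smul]
      _ = ε • J := by rw [← smul_smul, ← this]
  intro k
  constructor
  · rintro ⟨a, b, rfl⟩
    refine ⟨a, b * ε, ?_⟩
    rw [Matrix.mul_add, Matrix.add_mul, Matrix.mul_smul, Matrix.smul_mul, Matrix.mul_one, h2,
      Matrix.mul_smul, Matrix.smul_mul, hg, smul_smul]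
  · rintro ⟨a, b, hab⟩
    refine ⟨a, b * ε, ?_⟩
    have : k = ((g⁻¹ : Matrix.GeneralLinearGroup ι F) : Matrix ι ι F) * ((g : Matrix ι ι F) * k *
        ((g⁻¹ : Matrix.GeneralLinearGroup ι F) : Matrix ι ι F)) * (g : Matrix ι ι F) := by
      rw [Matrix.mul_assoc (g : Matrix ι ι F), ← Matrix.mul_assoc _ (g : Matrix ι ι F), h1,
        Matrix.one_mul, Matrix.mul_assoc, h1, Matrix.mul_one]
    rw [this, hab, Matrix.mul_add, Matrix.add_mul, Matrix.mul_smul, Matrix.smul_mul, Matrix.mul_one,
      h1, Matrix.mul_smul, Matrix.smul_mul, hg', smul_smul]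

end Cfsg.Agent.Lib.Helper2.Oev
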