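import Mathlib
import Cfsg.Prelude
import Cfsg.Agent.Lib.Helper2.OevH
import Cfsg.Agent.Lib.Helper5.TensorFormSub

set_option autoImplicit false
set_option linter.unusedSectionVars false
set_option linter.unusedVariables false
open Cfsg

/-! Binary symmetric forms: the rotation matrix `J₁` with `J₁² = -det`, anisotropy, and the action
of similitudes on `J₁`.  The quadratic field normalised by the stabiliser of a tensor
decomposition `2 ⊗ n₂` with anisotropic first factor. -/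

namespace Cfsg.Agent.Lib.Helper2.Oev

open Matrix Module Cfsg.Agent.Lib.Helper5.TensorSub Cfsg.Agent.Lib.Helper5.TensorFormSub
open scoped Kronecker

variable {F : Type*} [Field F]

section two

variable {f₁ : (Fin 2 → F) → (Fin 2 → F) → F}

/-- the coordinate expression of a binary bilinear form -/
theorem form_two (hf : Cfsg.Geo.IsBilinearForm f₁) (x y : Fin 2 → F) :
    f₁ x y = x 0 * Cfsg.Geo.gramMatrix f₁ 0 0 * y 0 + x 0 * Cfsg.Geo.gramMatrix f₁ 0 1 * y 1 +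
      (x 1 * Cfsg.Geo.gramMatrix f₁ 1 0 * y 0 + x 1 * Cfsg.Geo.gramMatrix f₁ 1 1 * y 1) := by
  rw [← formOfGram_gram hf x y]
  unfold Cfsg.Geo.formOfGram
  simp only [Fin.sum_univ_two, id]

/-- the matrix `J₁ = S G` -/
def jMat (f₁ : (Fin 2 → F) → (Fin 2 → F) → F) : Matrix (Fin 2) (Fin 2) F :=
  !![Cfsg.Geo.gramMatrix f₁ 0 1, Cfsg.Geo.gramMatrix f₁ 1 1;
    -Cfsg.Geo.gramMatrix f₁ 0 0, -Cfsg.Geo.gramMatrix f₁ 0 1]

/-- `β² - α γ` -/
def disc2 (f₁ : (Fin 2 → F) → (Fin 2 → F) → F) : F :=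
  Cfsg.Geo.gramMatrix f₁ 0 1 * Cfsg.Geo.gramMatrix f₁ 0 1 -
    Cfsg.Geo.gramMatrix f₁ 0 0 * Cfsg.Geo.gramMatrix f₁ 1 1

theorem jMat_sq (f₁ : (Fin 2 → F) → (Fin 2 → F) → F) :
    jMat f₁ * jMat f₁ = disc2 f₁ • (1 : Matrix (Fin 2) (Fin 2) F) := by
  ext i j
  fin_cases i <;> fin_cases j <;>
    simp [jMat, disc2, Matrix.mul_apply, Fin.sum_univ_two] <;> ring

theorem gram_symm (hs : ∀ u v, f₁ u v = f₁ v u) (i j : Fin 2) :
    Cfsg.Geo.gramMatrix f₁ i j = Cfsg.Geo.gramMatrix f₁ j i := hs _ _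

/-- an anisotropic binary symmetric form has non-square `β² - α γ` -/
theorem disc2_not_isSquare (hf : Cfsg.Geo.IsBilinearForm f₁) (hs : ∀ u v, f₁ u v = f₁ v u)
    (haniso : ∀ x : Fin 2 → F, x ≠ 0 → f₁ x x ≠ 0) : ¬ IsSquare (disc2 f₁) := by
  rintro ⟨s, hsq⟩
  have h10 := gram_symm hs 1 0
  by_cases hα : Cfsg.Geo.gramMatrix f₁ 0 0 = 0
  · refine haniso (Pi.single 0 1) ?_ hα
    intro h
    have := congrFun h 0
    simp at this
  · refine haniso ![s - Cfsg.Geo.gramMatrix f₁ 0 1, Cfsg.Geo.gramMatrix f₁ 0 0] ?_ ?_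
    · intro h
      have := congrFun h 1
      simp at this
      exact hα this
    · rw [form_two hf, h10]
      simp only [Matrix.cons_val_zero, Matrix.cons_val_one]
      unfold disc2 at hsq
      linear_combination (-(Cfsg.Geo.gramMatrix f₁ 0 0)) * hsq

/-- a similitude of an anisotropic binary symmetric form conjugates `J₁` to `± J₁` -/
theorem simil_conj (hf : Cfsg.Geo.IsBilinearForm f₁) (hs : ∀ u v, f₁ u v = f₁ v u)
    (hδ : disc2 f₁ ≠ 0) (a : Matrix.GeneralLinearGroup (Fin 2) F) (l : F) (hl : l ≠ 0)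
    (ha : ∀ x y, f₁ ((a : Matrix (Fin 2) (Fin 2) F) *ᵥ x) ((a : Matrix (Fin 2) (Fin 2) F) *ᵥ y) =
      l * f₁ x y) :
    ∃ ε : F, ε * ε = 1 ∧ (a : Matrix (Fin 2) (Fin 2) F) * jMat f₁ *
      ((a⁻¹ : Matrix.GeneralLinearGroup (Fin 2) F) : Matrix (Fin 2) (Fin 2) F) = ε • jMat f₁ := by
  have h10 := gram_symm hs 1 0
  set A : Matrix (Fin 2) (Fin 2) F := (a : Matrix (Fin 2) (Fin 2) F) with hA
  have hcol : ∀ j : Fin 2, A *ᵥ (Pi.single j 1) = fun i => A i j := by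
    intro j
    ext i
    simp [Matrix.mulVec, dotProduct, Pi.single_apply]
  have e1 := ha (Pi.single 0 1) (Pi.single 0 1)
  have e2 := ha (Pi.single 0 1) (Pi.single 1 1)
  have e3 := ha (Pi.single 1 1) (Pi.single 1 1)
  simp only [hcol] at e1 e2 e3
  rw [form_two hf, h10] at e1 e2 e3
  have g1 : f₁ (Pi.single 0 1) (Pi.single 0 1) = Cfsg.Geo.gramMatrix f₁ 0 0 := rfl
  have g2 : f₁ (Pi.single 0 1) (Pi.single 1 1) = Cfsg.Geo.gramMatrix f₁ 0 1 := rfl
  have g3 : f₁ (Pi.single 1 1) (Pi.single 1 1) = Cfsg.Geo.gramMatrix f₁ 1 1 := rfl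
  rw [g1] at e1
  rw [g2] at e2
  rw [g3] at e3
  -- the key identity
  have hkey : l • (A * jMat f₁) = A.det • (jMat f₁ * A) := by
    ext i j
    rw [Matrix.det_fin_two]
    fin_cases i <;> fin_cases j <;>
      simp [jMat, Matrix.mul_apply, Fin.sum_univ_two, Matrix.vecMul, dotProduct]
    · linear_combination (A 0 1) * e1 - (A 0 0) * e2
    · linear_combination (A 0 1) * e2 - (A 0 0) * e3
    · linear_combination (A 1 1) * e1 - (A 1 0) * e2
    · linear_combination (A 1 1) * e2 - (A 1 0) * e3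
  have hdet : A.det * A.det = l * l := by
    have h1 : (A.det * A.det - l * l) * disc2 f₁ = 0 := by
      rw [Matrix.det_fin_two]
      unfold disc2
      linear_combination (-(A 0 1 * Cfsg.Geo.gramMatrix f₁ 0 0 * A 0 1 +
        A 0 1 * Cfsg.Geo.gramMatrix f₁ 0 1 * A 1 1 +
        (A 1 1 * Cfsg.Geo.gramMatrix f₁ 0 1 * A 0 1 +
        A 1 1 * Cfsg.Geo.gramMatrix f₁ 1 1 * A 1 1))) * e1 -
        (l * Cfsg.Geo.gramMatrix f₁ 0 0) * e3 +
        (A 0 0 * Cfsg.Geo.gramMatrix f₁ 0 0 * A 0 1 + A 0 0 * Cfsg.Geo.gramMatrix f₁ 0 1 * A 1 1 +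
        (A 1 0 * Cfsg.Geo.gramMatrix f₁ 0 1 * A 0 1 + A 1 0 * Cfsg.Geo.gramMatrix f₁ 1 1 * A 1 1) +
        l * Cfsg.Geo.gramMatrix f₁ 0 1) * e2
    rcases mul_eq_zero.1 h1 with h | h
    · exact sub_eq_zero.1 h
    · exact absurd h hδ
  refine ⟨A.det / l, ?_, ?_⟩
  · field_simp
    linear_combination hdet
  · have hinv : A * ((a⁻¹ : Matrix.GeneralLinearGroup (Fin 2) F) : Matrix (Fin 2) (Fin 2) F) = 1 := by
      rw [hA, ← Units.val_mul, mul_inv_cancel, Units.val_one]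
    have h2 : A * jMat f₁ = (A.det / l) • (jMat f₁ * A) := by
      calc A * jMat f₁ = l⁻¹ • (l • (A * jMat f₁)) := by
            rw [smul_smul, inv_mul_cancel₀ hl, one_smul]
        _ = _ := by rw [hkey, smul_smul]; congr 1; field_simp
    rw [h2, Matrix.smul_mul, Matrix.mul_assoc, hinv, Matrix.mul_one]

end two

section tensor2

variable {ι : Type} [Fintype ι] [DecidableEq ι] {n₂ : ℕ}
  (e : ι ≃ Fin 2 × Fin n₂) (P : Matrix.GeneralLinearGroup ι F)

theorem submatrix_smul' {κ : Type} [Fintype κ] (r : F) (A : Matrix κ κ F) (e : ι ≃ κ) :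
    (r • A).submatrix e e = r • A.submatrix e e := rfl

/-- the matrix `J₁ ⊗ 1` transported to `F^ι` -/
def jBig (f₁ : (Fin 2 → F) → (Fin 2 → F) → F) : Matrix ι ι F :=
  (P : Matrix ι ι F) *
    ((jMat f₁ ⊗ₖ (1 : Matrix (Fin n₂) (Fin n₂) F)).submatrix e e) *
    ((P⁻¹ : Matrix.GeneralLinearGroup ι F) : Matrix ι ι F)

theorem jBig_sq (f₁ : (Fin 2 → F) → (Fin 2 → F) → F) :
    jBig e P f₁ * jBig e P f₁ = disc2 f₁ • (1 : Matrix ι ι F) := by
  have h1 : ((P⁻¹ : Matrix.GeneralLinearGroup ι F) : Matrix ι ι F) * (P : Matrix ι ι F) = 1 := by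
    rw [← Units.val_mul, inv_mul_cancel, Units.val_one]
  have h2 : (P : Matrix ι ι F) * ((P⁻¹ : Matrix.GeneralLinearGroup ι F) : Matrix ι ι F) = 1 := by
    rw [← Units.val_mul, mul_inv_cancel, Units.val_one]
  unfold jBig
  calc (P : Matrix ι ι F) * ((jMat f₁ ⊗ₖ (1 : Matrix (Fin n₂) (Fin n₂) F)).submatrix e e) *
        ((P⁻¹ : Matrix.GeneralLinearGroup ι F) : Matrix ι ι F) *
        ((P : Matrix ι ι F) * ((jMat f₁ ⊗ₖ (1 : Matrix (Fin n₂) (Fin n₂) F)).submatrix e e) *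
        ((P⁻¹ : Matrix.GeneralLinearGroup ι F) : Matrix ι ι F))
      = (P : Matrix ι ι F) * (((jMat f₁ ⊗ₖ (1 : Matrix (Fin n₂) (Fin n₂) F)).submatrix e e) *
          (((P⁻¹ : Matrix.GeneralLinearGroup ι F) : Matrix ι ι F) * (P : Matrix ι ι F)) *
          ((jMat f₁ ⊗ₖ (1 : Matrix (Fin n₂) (Fin n₂) F)).submatrix e e)) *
          ((P⁻¹ : Matrix.GeneralLinearGroup ι F) : Matrix ι ι F) := by
        simp only [Matrix.mul_assoc]
    _ = _ := by
        rw [h1, Matrix.mul_one, Matrix.submatrix_mul_equiv, ← Matrix.mul_kronecker_mul,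
          jMat_sq, Matrix.one_mul, Matrix.smul_kronecker, Matrix.one_kronecker_one,
          submatrix_smul', Matrix.submatrix_one_equiv, Matrix.mul_smul, Matrix.smul_mul,
          Matrix.mul_one, h2]

theorem conj_jBig (f₁ : (Fin 2 → F) → (Fin 2 → F) → F) (a : Matrix.GeneralLinearGroup (Fin 2) F)
    (b : Matrix.GeneralLinearGroup (Fin n₂) F) (ε : F)
    (h : (a : Matrix (Fin 2) (Fin 2) F) * jMat f₁ *
      ((a⁻¹ : Matrix.GeneralLinearGroup (Fin 2) F) : Matrix (Fin 2) (Fin 2) F) = ε • jMat f₁) :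
    ((Phi e P (kron a b) : Matrix.GeneralLinearGroup ι F) : Matrix ι ι F) * jBig e P f₁ *
      (((Phi e P (kron a b))⁻¹ : Matrix.GeneralLinearGroup ι F) : Matrix ι ι F) =
      ε • jBig e P f₁ := by
  have h1 : ((P⁻¹ : Matrix.GeneralLinearGroup ι F) : Matrix ι ι F) * (P : Matrix ι ι F) = 1 := by
    rw [← Units.val_mul, inv_mul_cancel, Units.val_one]
  have hb : (b : Matrix (Fin n₂) (Fin n₂) F) * 1 *
      ((b⁻¹ : Matrix.GeneralLinearGroup (Fin n₂) F) : Matrix (Fin n₂) (Fin n₂) F) = 1 := by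
    rw [Matrix.mul_one, ← Units.val_mul, mul_inv_cancel, Units.val_one]
  rw [← map_inv, kron_inv, coe_Phi, coe_Phi, coe_kron, coe_kron]
  unfold jBig
  calc (P : Matrix ι ι F) * ((a : Matrix (Fin 2) (Fin 2) F) ⊗ₖ
          (b : Matrix (Fin n₂) (Fin n₂) F)).submatrix e e *
        ((P⁻¹ : Matrix.GeneralLinearGroup ι F) : Matrix ι ι F) *
        ((P : Matrix ι ι F) * ((jMat f₁ ⊗ₖ (1 : Matrix (Fin n₂) (Fin n₂) F)).submatrix e e) *
          ((P⁻¹ : Matrix.GeneralLinearGroup ι F) : Matrix ι ι F)) *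
        ((P : Matrix ι ι F) * (((a⁻¹ : Matrix.GeneralLinearGroup (Fin 2) F) :
          Matrix (Fin 2) (Fin 2) F) ⊗ₖ ((b⁻¹ : Matrix.GeneralLinearGroup (Fin n₂) F) :
          Matrix (Fin n₂) (Fin n₂) F)).submatrix e e *
          ((P⁻¹ : Matrix.GeneralLinearGroup ι F) : Matrix ι ι F))
      = (P : Matrix ι ι F) * (((a : Matrix (Fin 2) (Fin 2) F) ⊗ₖ
          (b : Matrix (Fin n₂) (Fin n₂) F)).submatrix e e *
          (((P⁻¹ : Matrix.GeneralLinearGroup ι F) : Matrix ι ι F) * (P : Matrix ι ι F)) *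
          ((jMat f₁ ⊗ₖ (1 : Matrix (Fin n₂) (Fin n₂) F)).submatrix e e) *
          (((P⁻¹ : Matrix.GeneralLinearGroup ι F) : Matrix ι ι F) * (P : Matrix ι ι F)) *
          (((a⁻¹ : Matrix.GeneralLinearGroup (Fin 2) F) :
          Matrix (Fin 2) (Fin 2) F) ⊗ₖ ((b⁻¹ : Matrix.GeneralLinearGroup (Fin n₂) F) :
          Matrix (Fin n₂) (Fin n₂) F)).submatrix e e) *
          ((P⁻¹ : Matrix.GeneralLinearGroup ι F) : Matrix ι ι F) := by
        simp only [Matrix.mul_assoc]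
    _ = _ := by
        rw [h1, Matrix.mul_one, Matrix.mul_one, Matrix.submatrix_mul_equiv,
          Matrix.submatrix_mul_equiv, ← Matrix.mul_kronecker_mul, ← Matrix.mul_kronecker_mul, h, hb,
          Matrix.smul_kronecker, submatrix_smul', Matrix.mul_smul, Matrix.smul_mul]

variable {f : (ι → F) → (ι → F) → F} {f₁ : (Fin 2 → F) → (Fin 2 → F) → F}
  {f₂ : (Fin n₂ → F) → (Fin n₂ → F) → F}

/-- the stabiliser of a tensor decomposition `2 ⊗ n₂` with anisotropic first factor normalises a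
quadratic field -/
theorem tensor2_field [Nonempty ι] (hf₁ : Cfsg.Geo.IsBilinearForm f₁)
    (hs₁ : ∀ u v, f₁ u v = f₁ v u)
    (haniso : ∀ x : Fin 2 → F, x ≠ 0 → f₁ x x ≠ 0) (hf₂ : Cfsg.Geo.IsBilinearForm f₂)
    (hne₂ : ∃ x y, f₂ x y ≠ 0) (hT : Cfsg.Geo.IsTensorFormStructure id f f₁ f₂ e P) :
    ∃ L : Subalgebra F (Matrix ι ι F), Cfsg.Geo.IsFieldSubalgebra 2 L ∧
      ∀ g ∈ Cfsg.Geo.tensorProductSubgroup 2 n₂ e P,
        (∀ u v : ι → F, f ((g : Matrix ι ι F) *ᵥ u) ((g : Matrix ι ι F) *ᵥ v) = f u v) →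
        g ∈ Cfsg.Geo.subalgebraNormalizer L := by
  have hδ := disc2_not_isSquare hf₁ hs₁ haniso
  have hδ0 : disc2 f₁ ≠ 0 := by
    intro h
    exact hδ ⟨0, by rw [h, mul_zero]⟩
  refine ⟨quadAlg (jBig e P f₁) (disc2 f₁) (jBig_sq e P f₁),
    quadAlg_isField (jBig_sq e P f₁) hδ, ?_⟩
  intro g hg hgf
  obtain ⟨a, b, rfl⟩ := (mem_tensor e P g).1 hg
  have hne₁ : ∃ x y, f₁ x y ≠ 0 := by
    refine ⟨Pi.single 0 1, Pi.single 0 1, haniso _ ?_⟩
    intro h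
    have := congrFun h 0
    simp at this
  obtain ⟨l, hl, ha, -⟩ := exists_mult e P hf₁ hf₂ hne₁ hne₂ hT a b hgf
  obtain ⟨ε, hε, hconj⟩ := simil_conj hf₁ hs₁ hδ0 a l hl ha
  exact mem_normalizer_quadAlg (jBig_sq e P f₁) _ ε hε (conj_jBig e P f₁ a b ε hconj)

end tensor2

end Cfsg.Agent.Lib.Helper2.Oev
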