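import Mathlib
import Cfsg.Prelude
import Cfsg.Agent.Lib.Helper2.OevG
import Cfsg.Agent.Lib.Helper2.OevI
import Cfsg.Agent.Lib.Helper5.TensorBlocksGen

set_option autoImplicit false
set_option linter.unusedSectionVars false
set_option linter.unusedVariables false
open Cfsg

/-! Totally singular subspaces from tensor decompositions. -/

namespace Cfsg.Agent.Lib.Helper2.Oev

open Matrix Module QuadraticMap Cfsg.Agent.Lib.Helper5.TensorSub
  Cfsg.Agent.Lib.Helper5.TensorFormSub
open scoped Kronecker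

variable {ι : Type} [Fintype ι] [DecidableEq ι] {F : Type*} [Field F]
  {Q : QuadraticForm F (ι → F)} {n₁ n₂ : ℕ}
  (e : ι ≃ Fin n₁ × Fin n₂) (P : Matrix.GeneralLinearGroup ι F)

/-- a non-zero vector `x` of the first factor all of whose pure tensors are singular -/
theorem hasTS_of_pure_left {x : Fin n₁ → F} (hx : x ≠ 0)
    (h : ∀ y : Fin n₂ → F, Q (emb e P (pt x y)) = 0) : HasTS Q ⊤ n₂ := by
  have h1 := hasTS_of_map (Q := Q) (Cfsg.Agent.Lib.Helper5.TensorBlocksGen.blockMap e P x)
    (fun y => h y) (Cfsg.Agent.Lib.Helper5.TensorBlocksGen.blockMap_injective e P hx) ⊤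
    (fun _ => Submodule.mem_top)
  rwa [Module.finrank_fintype_fun_eq_card, Fintype.card_fin] at h1

theorem polar_self_half (h2 : (2 : F) ≠ 0) (v : ι → F) (h : polar ⇑Q v v = 0) : Q v = 0 := by
  rw [polar_self, two_smul, ← two_mul] at h
  rcases mul_eq_zero.1 h with h | h
  · exact absurd h h2
  · exact h

variable {f₁ : (Fin n₁ → F) → (Fin n₁ → F) → F} {f₂ : (Fin n₂ → F) → (Fin n₂ → F) → F}

/-- odd characteristic: an isotropic vector of the first factor -/
theorem hasTS_of_isotropic_left (h2 : (2 : F) ≠ 0) (hf₁ : Cfsg.Geo.IsBilinearForm f₁)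
    (hf₂ : Cfsg.Geo.IsBilinearForm f₂)
    (hT : Cfsg.Geo.IsTensorFormStructure id (polar ⇑Q) f₁ f₂ e P) {x : Fin n₁ → F} (hx : x ≠ 0)
    (hxx : f₁ x x = 0) : HasTS Q ⊤ n₂ := by
  obtain ⟨c, hc0, hc⟩ := hT
  apply hasTS_of_pure_left e P hx
  intro y
  apply polar_self_half h2
  rw [form_pt e P hf₁ hf₂ hc, hxx, zero_mul, mul_zero]

/-- the coordinate vector with rows `w i` -/
def rowsVec (w : Fin n₁ → (Fin n₂ → F)) : Fin n₁ × Fin n₂ → F := fun p => w p.1 p.2

theorem rowsVec_eq_sum (w : Fin n₁ → (Fin n₂ → F)) :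
    rowsVec w = ∑ i, pt (Pi.single i (1 : F)) (w i) := by
  ext ⟨i, j⟩
  rw [Finset.sum_apply]
  simp only [pt_apply, rowsVec]
  rw [Finset.sum_eq_single i]
  · rw [Pi.single_eq_same, one_mul]
  · intro k _ hk
    rw [Pi.single_eq_of_ne (Ne.symm hk), zero_mul]
  · intro hi
    exact absurd (Finset.mem_univ _) hi

theorem emb_sum {α : Type*} (s : Finset α) (X : α → (Fin n₁ × Fin n₂ → F)) :
    emb e P (∑ a ∈ s, X a) = ∑ a ∈ s, emb e P (X a) := by
  classical
  induction s using Finset.induction_on with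
  | empty => rw [Finset.sum_empty, Finset.sum_empty, emb_zero]
  | insert a s ha ih => rw [Finset.sum_insert ha, Finset.sum_insert ha, emb_add, ih]

/-- odd characteristic: a totally isotropic subspace of the second factor -/
theorem hasTS_of_isotropic_right (h2 : (2 : F) ≠ 0) (hf₁ : Cfsg.Geo.IsBilinearForm f₁)
    (hf₂ : Cfsg.Geo.IsBilinearForm f₂)
    (hT : Cfsg.Geo.IsTensorFormStructure id (polar ⇑Q) f₁ f₂ e P)
    (U : Submodule F (Fin n₂ → F)) (hU : ∀ y ∈ U, ∀ y' ∈ U, f₂ y y' = 0) :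
    HasTS Q ⊤ (n₁ * finrank F U) := by
  obtain ⟨c, hc0, hc⟩ := hT
  let Φ : (Fin n₁ → U) →ₗ[F] (ι → F) :=
    { toFun := fun w => emb e P (rowsVec fun i => ((w i : U) : Fin n₂ → F))
      map_add' := by
        intro w w'
        rw [← emb_add]
        rfl
      map_smul' := by
        intro a w
        rw [RingHom.id_apply, ← emb_smul]
        rfl }
  have hΦ : ∀ w, Φ w = emb e P (rowsVec fun i => ((w i : U) : Fin n₂ → F)) := fun w => rfl
  have hfin : finrank F (Fin n₁ → U) = n₁ * finrank F U := by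
    rw [Module.finrank_pi_fintype]
    simp
  rw [← hfin]
  refine hasTS_of_map Φ ?_ ?_ ⊤ (fun _ => Submodule.mem_top)
  · intro w
    apply polar_self_half h2
    rw [hΦ, rowsVec_eq_sum, emb_sum]
    have hbl : ∀ (s : Finset (Fin n₁)) (v : ι → F),
        polar ⇑Q (∑ i ∈ s, emb e P (pt (Pi.single i (1 : F)) ((w i : U) : Fin n₂ → F))) v =
        ∑ i ∈ s, polar ⇑Q (emb e P (pt (Pi.single i (1 : F)) ((w i : U) : Fin n₂ → F))) v := by
      intro s v
      classical
      induction s using Finset.induction_on with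
      | empty => rw [Finset.sum_empty, Finset.sum_empty, polar_zero_left]
      | insert a s ha ih => rw [Finset.sum_insert ha, Finset.sum_insert ha, polar_add_left, ih]
    rw [hbl]
    apply Finset.sum_eq_zero
    intro i _
    rw [polar_comm, hbl]
    apply Finset.sum_eq_zero
    intro j _
    rw [form_pt e P hf₁ hf₂ hc, hU _ (w j).2 _ (w i).2, mul_zero, mul_zero]
  · intro w w' hww
    rw [hΦ, hΦ] at hww
    have h1 := emb_injective e P hww
    funext i
    apply Subtype.ext
    funext j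
    exact congrFun h1 (i, j)

end Cfsg.Agent.Lib.Helper2.Oev
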