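import Mathlib
import Cfsg.Prelude
import Cfsg.Agent.Lib.Helper2.OevJ
import Cfsg.Agent.Lib.Helper5.TensorFrameDecomp

set_option autoImplicit false
set_option linter.unusedSectionVars false
set_option linter.unusedVariables false
open Cfsg

/-! Over the field of order three the stabiliser of a tensor decomposition `3 ⊗ n₂` stabilises an
orthogonal decomposition into three isometric blocks; their type is that of the second factor. -/

namespace Cfsg.Agent.Lib.Helper2.Oev

open Matrix Module QuadraticMap Cfsg.Agent.Lib.Helper5.TensorSub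
  Cfsg.Agent.Lib.Helper5.TensorFormSub Cfsg.Agent.Lib.Helper5.TensorFrameDecomp
  Cfsg.Agent.Lib.Helper5.FrameThreeForm
open scoped Kronecker

variable {ι : Type} [Fintype ι] [DecidableEq ι] {F : Type*} [Field F] [Fintype F]
  {Q : QuadraticForm F (ι → F)} {n₂ : ℕ}
  (e : ι ≃ Fin 3 × Fin n₂) (P : Matrix.GeneralLinearGroup ι F)
  {f₁ : (Fin 3 → F) → (Fin 3 → F) → F} {f₂ : (Fin n₂ → F) → (Fin n₂ → F) → F}

theorem polarBil (Q : QuadraticForm F (ι → F)) : Cfsg.Geo.IsBilinearForm (polar ⇑Q) where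
  add_left := fun x y v => polar_add_left Q x y v
  smul_left := fun c x v => by rw [polar_smul_left, smul_eq_mul]
  add_right := fun v x y => polar_add_right Q v x y
  smul_right := fun c v x => by rw [polar_smul_right, smul_eq_mul]

theorem tensor3_decomp (hq : Fintype.card F = 3) (hn₂ : 0 < n₂)
    (hf₁ : Cfsg.Geo.IsSymmetricForm f₁) (hf₂ : Cfsg.Geo.IsSymmetricForm f₂)
    (hT : Cfsg.Geo.IsTensorFormStructure id (polar ⇑Q) f₁ f₂ e P)
    (hnp : ¬ Cfsg.Geo.IsPlusTypeOn (fun v : Fin n₂ → F => f₂ v v) ⊤) :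
    ∃ D : Fin 3 → Submodule F (ι → F), Cfsg.Geo.IsOrthogonalMDecomposition ⇑Q n₂ D ∧
      (∀ i, ¬ Cfsg.Geo.IsPlusTypeOn ⇑Q (D i)) ∧
      ∀ g ∈ Cfsg.Geo.tensorProductSubgroup 3 n₂ e P, g ∈ isometryGroup F ⇑Q →
        g ∈ Cfsg.Geo.decompositionStabilizer D := by
  have h2 : (2 : F) ≠ 0 := Cfsg.Agent.Lib.Helper5.OrthFrameThree.two_ne_zero' hq
  obtain ⟨c₀, v, hv⟩ := exists_isFrame hq hf₁
  have hT' := hT
  obtain ⟨c, hc0, hc⟩ := hT
  have hQ2 : ∀ (i : Fin 3) (y : Fin n₂ → F),
      (2 : F) * Q (blockMap e P (v i) y) = c * (c₀ * f₂ y y) := by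
    intro i y
    have := form_block e P (f := polar ⇑Q) hf₁ hf₂.bilinear hc (v i) (v i) y y
    rw [polar_self, two_smul, ← two_mul, hv.gram, if_pos rfl] at this
    exact this
  have hinj : ∀ i, Function.Injective (blockMap e P (v i)) := fun i =>
    blockMap_injective e P (hv.ne_zero hf₁.bilinear i)
  refine ⟨blocks e P v, ⟨isNondegDecomp e P (polarBil Q) hf₁ hf₂.bilinear hf₂.nondegenerate hc0 hc
    hv hn₂, ?_⟩, ?_, ?_⟩
  · -- isometric
    intro i j
    let Ei : (Fin n₂ → F) ≃ₗ[F] ↥(blocks e P v i) :=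
      LinearEquiv.ofInjective (blockMap e P (v i)) (hinj i)
    let Ej : (Fin n₂ → F) ≃ₗ[F] ↥(blocks e P v j) :=
      LinearEquiv.ofInjective (blockMap e P (v j)) (hinj j)
    have hEi : ∀ y, ((Ei y : ↥(blocks e P v i)) : ι → F) = blockMap e P (v i) y := fun y => rfl
    have hEj : ∀ y, ((Ej y : ↥(blocks e P v j)) : ι → F) = blockMap e P (v j) y := fun y => rfl
    refine ⟨Ei.symm ≪≫ₗ Ej, ?_⟩
    intro w
    have e1 : (w : ι → F) = blockMap e P (v i) (Ei.symm w) := by
      rw [← hEi, LinearEquiv.apply_symm_apply]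
    rw [LinearEquiv.trans_apply, hEj, e1]
    have := (hQ2 j (Ei.symm w)).trans (hQ2 i (Ei.symm w)).symm
    simpa using mul_left_cancel₀ h2 this
  · -- type
    rintro i ⟨U, hUD, hUts, hUdim⟩
    apply hnp
    have hUr : U ≤ LinearMap.range (blockMap e P (v i)) := hUD
    refine ⟨U.comap (blockMap e P (v i)), le_top, ?_, ?_⟩
    · intro y hy
      have h0 : Q (blockMap e P (v i) y) = 0 := hUts _ hy
      have h1 := hQ2 i y
      rw [h0, mul_zero] at h1
      rcases mul_eq_zero.1 h1.symm with h | h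
      · exact absurd h hc0
      · rcases mul_eq_zero.1 h with h | h
        · exact absurd h hv.c_ne
        · exact h
    · have h1 : finrank F (U.comap (blockMap e P (v i))) = finrank F U := by
        rw [(Submodule.equivMapOfInjective (blockMap e P (v i)) (hinj i)
          (U.comap (blockMap e P (v i)))).finrank_eq, Submodule.map_comap_eq_of_le hUr]
      rw [h1, hUdim, finrank_blocks e P hf₁ hv, finrank_top,
        Module.finrank_fintype_fun_eq_card, Fintype.card_fin]
  · intro g hg hgI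
    refine tensor_le_stab e P hf₁ hf₂.bilinear hf₂.nondegenerate hv hq hn₂ hT' g hg ?_
    intro u w
    have hQg : ∀ x, Q ((g : Matrix ι ι F) *ᵥ x) = Q x := fun x => hgI x x
    unfold polar
    rw [← Matrix.mulVec_add, hQg, hQg, hQg]

end Cfsg.Agent.Lib.Helper2.Oev
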