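import Mathlib

set_option autoImplicit false
set_option linter.unusedSectionVars false
set_option linter.unusedVariables false

/-! Every quadratic polynomial over a finite field has a root in the quadratic extension. -/

namespace Cfsg.Agent.Lib.Helper2.Oev

open Polynomial

/-- a quadratic polynomial over a finite field `K` has a root in every extension `L` with
`|L| = |K|²` -/
theorem exists_root_of_card_sq {K L : Type*} [Field K] [Fintype K] [Field L] [Fintype L]
    [Algebra K L] (hcard : Fintype.card L = Fintype.card K ^ 2) (p : K[X])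
    (hdeg : p.natDegree = 2) : ∃ t : L, (p.map (algebraMap K L)).eval t = 0 := by
  classical
  have hp0 : p ≠ 0 := by
    rintro rfl
    rw [natDegree_zero] at hdeg
    omega
  by_cases hroot : ∃ x : K, IsRoot p x
  · obtain ⟨x, hx⟩ := hroot
    refine ⟨algebraMap K L x, ?_⟩
    rw [eval_map_algebraMap, aeval_algebraMap_apply, coe_aeval_eq_eval, hx.eq_zero, map_zero]
  push Not at hroot
  have hirr : Irreducible p :=
    irreducible_of_degree_le_three_of_not_isRoot (by rw [hdeg]; decide) hroot
  haveI : Fact (Irreducible p) := ⟨hirr⟩
  haveI hfinM : Module.Finite K (AdjoinRoot p) := (AdjoinRoot.powerBasis hp0).finite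
  haveI : Finite (AdjoinRoot p) := Module.finite_of_finite K
  haveI : Fintype (AdjoinRoot p) := Fintype.ofFinite _
  have hfr : Module.finrank K (AdjoinRoot p) = 2 := by
    rw [(AdjoinRoot.powerBasis hp0).finrank, AdjoinRoot.powerBasis_dim, hdeg]
  have hcardA : Fintype.card (AdjoinRoot p) = Fintype.card K ^ 2 := by
    rw [Module.card_eq_pow_finrank (K := K) (V := AdjoinRoot p), hfr]
  -- `p` divides `X ^ |L| - X`
  have hdvd : p ∣ (X ^ Fintype.card L - X : K[X]) := by
    rw [← AdjoinRoot.mk_eq_zero, map_sub, map_pow, AdjoinRoot.mk_X, hcard, ← hcardA,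
      FiniteField.pow_card, sub_self]
  obtain ⟨g, hg⟩ := hdvd
  have hq1 : 1 < Fintype.card L := Fintype.one_lt_card
  have hmap : (X ^ Fintype.card L - X : L[X]) = p.map (algebraMap K L) * g.map (algebraMap K L) := by
    have := congrArg (Polynomial.map (algebraMap K L)) hg
    rwa [Polynomial.map_sub, Polynomial.map_pow, Polynomial.map_X, Polynomial.map_mul] at this
  by_contra hcon
  push Not at hcon
  have hne : (X ^ Fintype.card L - X : L[X]) ≠ 0 := FiniteField.X_pow_card_sub_X_ne_zero L hq1
  have hg0 : g.map (algebraMap K L) ≠ 0 := by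
    intro h
    rw [h, mul_zero] at hmap
    exact hne hmap
  have hpm0 : p.map (algebraMap K L) ≠ 0 := by
    intro h
    rw [h, zero_mul] at hmap
    exact hne hmap
  have hall : ∀ t : L, t ∈ (g.map (algebraMap K L)).roots := by
    intro t
    rw [mem_roots hg0, IsRoot.def]
    have h1 : (X ^ Fintype.card L - X : L[X]).eval t = 0 := by
      rw [eval_sub, eval_pow, eval_X, FiniteField.pow_card, sub_self]
    rw [hmap, eval_mul] at h1
    rcases mul_eq_zero.1 h1 with h | h
    · exact absurd h (hcon t)
    · exact h
  have hcardroots : Fintype.card L ≤ (g.map (algebraMap K L)).roots.card := by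
    have h1 : (Finset.univ : Finset L) ⊆ (g.map (algebraMap K L)).roots.toFinset := by
      intro t _
      rw [Multiset.mem_toFinset]
      exact hall t
    calc Fintype.card L = (Finset.univ : Finset L).card := Finset.card_univ.symm
      _ ≤ (g.map (algebraMap K L)).roots.toFinset.card := Finset.card_le_card h1
      _ ≤ (g.map (algebraMap K L)).roots.card := Multiset.toFinset_card_le _
  have hdegg : (g.map (algebraMap K L)).natDegree + 2 = Fintype.card L := by
    have h1 := congrArg natDegree hmap
    rw [FiniteField.X_pow_card_sub_X_natDegree_eq L hq1, natDegree_mul hpm0 hg0,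
      natDegree_map, hdeg] at h1
    omega
  have := card_roots' (g.map (algebraMap K L))
  omega

end Cfsg.Agent.Lib.Helper2.Oev
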