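import Mathlib
import Cfsg.Prelude
import Cfsg.Agent.Lib.Helper2.OevL
import Cfsg.Agent.Lib.Helper2.OevB
import Cfsg.Agent.Lib.Helper5.QuadWitt

set_option autoImplicit false
set_option linter.unusedSectionVars false
set_option linter.unusedVariables false
open Cfsg

/-! A non-degenerate quadratic form in even dimension which, up to a scalar, is rational over a
subfield of index two is of plus type. -/

namespace Cfsg.Agent.Lib.Helper2.Oev

open Matrix Module QuadraticMap

variable {ι : Type} [Fintype ι] [DecidableEq ι] {F : Type*} [Field F]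
  {Q : QuadraticForm F (ι → F)}

section subfield

variable (F₀ : Subfield F) (P : Matrix.GeneralLinearGroup ι F)

/-- the embedding of the rational structure -/
def ratEmb (u : ι → F₀) : ι → F := (P : Matrix ι ι F) *ᵥ (fun i => ((u i : F₀) : F))

theorem ratEmb_add (u v : ι → F₀) : ratEmb F₀ P (u + v) = ratEmb F₀ P u + ratEmb F₀ P v := by
  unfold ratEmb
  rw [← Matrix.mulVec_add]
  rfl

theorem ratEmb_smul (a : F₀) (u : ι → F₀) :
    ratEmb F₀ P (a • u) = (a : F) • ratEmb F₀ P u := by
  unfold ratEmb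
  rw [← Matrix.mulVec_smul]
  rfl

theorem ratEmb_eq_zero {u : ι → F₀} (h : ratEmb F₀ P u = 0) : u = 0 := by
  unfold ratEmb at h
  have h1 := congrArg (fun v => ((P⁻¹ : Matrix.GeneralLinearGroup ι F) : Matrix ι ι F) *ᵥ v) h
  simp only [Matrix.mulVec_mulVec, ← Units.val_mul, inv_mul_cancel, Units.val_one,
    Matrix.one_mulVec, Matrix.mulVec_zero] at h1
  funext i
  have := congrFun h1 i
  exact Subtype.ext this

theorem ratEmb_single (i : ι) :
    ratEmb F₀ P (Pi.single i (1 : F₀)) = (P : Matrix ι ι F) *ᵥ (Pi.single i (1 : F)) := by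
  unfold ratEmb
  congr 1
  funext k
  by_cases hk : k = i
  · subst hk
    simp
  · rw [Pi.single_eq_of_ne hk, Pi.single_eq_of_ne hk]
    rfl

variable {F₀ P} {ζ : F}
  (hR : Cfsg.Geo.IsQuadFormRationalStructure (fun v : ι → F => ζ * Q v) F₀ P)

/-- the rational form as a function -/
def ratFun (u : ι → F₀) : F₀ := ⟨ζ * Q (ratEmb F₀ P u), hR _ (fun i => (u i).2)⟩

theorem coe_ratFun (u : ι → F₀) : ((ratFun hR u : F₀) : F) = ζ * Q (ratEmb F₀ P u) := rfl

theorem coe_polar_ratFun (u v : ι → F₀) :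
    ((polar (ratFun hR) u v : F₀) : F) = ζ * polar ⇑Q (ratEmb F₀ P u) (ratEmb F₀ P v) := by
  unfold polar
  rw [Subfield.coe_sub, Subfield.coe_sub, coe_ratFun, coe_ratFun, coe_ratFun, ratEmb_add]
  ring

/-- the rational quadratic form -/
noncomputable def ratQF : QuadraticForm F₀ (ι → F₀) :=
  QuadraticMap.ofPolar (ratFun hR)
    (fun a x => by
      apply Subtype.ext
      rw [smul_eq_mul, Subfield.coe_mul, Subfield.coe_mul, coe_ratFun, coe_ratFun, ratEmb_smul,
        QuadraticMap.map_smul, smul_eq_mul]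
      ring)
    (fun x x' y => by
      apply Subtype.ext
      rw [Subfield.coe_add, coe_polar_ratFun, coe_polar_ratFun, coe_polar_ratFun, ratEmb_add,
        polar_add_left]
      ring)
    (fun a x y => by
      apply Subtype.ext
      rw [smul_eq_mul, Subfield.coe_mul, coe_polar_ratFun, coe_polar_ratFun, ratEmb_smul,
        polar_smul_left, smul_eq_mul]
      ring)

theorem coe_ratQF (u : ι → F₀) : ((ratQF hR u : F₀) : F) = ζ * Q (ratEmb F₀ P u) := rfl

theorem coe_polar_ratQF (u v : ι → F₀) :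
    ((polar ⇑(ratQF hR) u v : F₀) : F) = ζ * polar ⇑Q (ratEmb F₀ P u) (ratEmb F₀ P v) :=
  coe_polar_ratFun hR u v

include hR in
theorem ratQF_nondeg (hζ : ζ ≠ 0) (hnd : (polarBilin Q).Nondegenerate) (z : ι → F₀)
    (hz : ∀ z', polar ⇑(ratQF hR) z z' = 0) : z = 0 := by
  apply ratEmb_eq_zero F₀ P
  apply hnd.1
  intro w
  show polar ⇑Q (ratEmb F₀ P z) w = 0
  -- `w` is a combination of the embedded standard basis vectors
  have hw : w = ∑ i, ((((P⁻¹ : Matrix.GeneralLinearGroup ι F) : Matrix ι ι F) *ᵥ w) i) •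
      ratEmb F₀ P (Pi.single i (1 : F₀)) := by
    have h1 : w = (P : Matrix ι ι F) *ᵥ (((P⁻¹ : Matrix.GeneralLinearGroup ι F) : Matrix ι ι F) *ᵥ w) := by
      rw [Matrix.mulVec_mulVec, ← Units.val_mul, mul_inv_cancel, Units.val_one, Matrix.one_mulVec]
    conv_lhs => rw [h1, pi_eq_sum_univ' (((P⁻¹ : Matrix.GeneralLinearGroup ι F) : Matrix ι ι F) *ᵥ w)]
    rw [Matrix.mulVec_sum]
    refine Finset.sum_congr rfl fun i _ => ?_
    rw [Matrix.mulVec_smul, ratEmb_single]
  rw [hw]
  have hbl : ∀ (s : Finset ι) (c : ι → F),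
      polar ⇑Q (ratEmb F₀ P z) (∑ i ∈ s, c i • ratEmb F₀ P (Pi.single i (1 : F₀))) = 0 := by
    intro s c
    induction s using Finset.induction_on with
    | empty => rw [Finset.sum_empty, polar_zero_right]
    | insert a s ha ih =>
      rw [Finset.sum_insert ha, polar_add_right, ih, add_zero, polar_smul_right]
      have h2 := coe_polar_ratQF hR z (Pi.single a 1)
      rw [hz, Subfield.coe_zero] at h2
      rcases mul_eq_zero.1 h2.symm with h | h
      · exact absurd h hζ
      · rw [h, smul_zero]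
  exact hbl Finset.univ _

end subfield

section main

variable [Fintype F] {F₀ : Subfield F} {P : Matrix.GeneralLinearGroup ι F} {ζ : F}
  (hR : Cfsg.Geo.IsQuadFormRationalStructure (fun v : ι → F => ζ * Q v) F₀ P)

theorem quad_two (x y : F) (u v : ι → F) :
    Q (x • u + y • v) = x * x * Q u + y * y * Q v + x * y * polar ⇑Q u v := by
  have h1 : Q (x • u + y • v) = Q (x • u) + Q (y • v) + polar ⇑Q (x • u) (y • v) := by
    unfold polar
    ring
  rw [h1, QuadraticMap.map_smul, QuadraticMap.map_smul, polar_smul_left, polar_smul_right,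
    smul_eq_mul, smul_eq_mul, smul_eq_mul, smul_eq_mul]
  ring

include hR in
/-- a singular vector in the extension of a rational plane -/
theorem exists_singular_ext (hζ : ζ ≠ 0) (hcard : Fintype.card F = Nat.card F₀ ^ 2)
    (R : Submodule F₀ (ι → F₀)) (hR2 : finrank F₀ R = 2) :
    ∃ (x y : F) (u₀ v₀ : ι → F₀), u₀ ∈ R ∧ v₀ ∈ R ∧
      x • ratEmb F₀ P u₀ + y • ratEmb F₀ P v₀ ≠ 0 ∧
      Q (x • ratEmb F₀ P u₀ + y • ratEmb F₀ P v₀) = 0 := by
  classical
  let b : Basis (Fin 2) F₀ R := Module.finBasisOfFinrankEq F₀ R hR2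
  have hu0 : ((b 0 : R) : ι → F₀) ≠ 0 := fun h => b.ne_zero 0 (Subtype.ext h)
  by_cases ha : ratQF hR (b 0 : R) = 0
  · refine ⟨1, 0, (b 0 : R), (b 1 : R), (b 0).2, (b 1).2, ?_, ?_⟩
    · rw [one_smul, zero_smul, add_zero]
      intro h
      exact hu0 (ratEmb_eq_zero F₀ P h)
    · rw [one_smul, zero_smul, add_zero]
      have h1 := coe_ratQF hR (b 0 : R)
      rw [ha, Subfield.coe_zero] at h1
      rcases mul_eq_zero.1 h1.symm with h | h
      · exact absurd h hζ
      · exact h
  · -- a root of the quadratic polynomial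
    haveI : Fintype F₀ := Fintype.ofFinite _
    have hcard' : Fintype.card F = Fintype.card F₀ ^ 2 := by
      rw [hcard, Nat.card_eq_fintype_card]
    let p : Polynomial F₀ := Polynomial.C (ratQF hR (b 0 : R)) * Polynomial.X ^ 2 +
      Polynomial.C (polar ⇑(ratQF hR) (b 0 : R) (b 1 : R)) * Polynomial.X +
      Polynomial.C (ratQF hR (b 1 : R))
    have hdeg : p.natDegree = 2 := Polynomial.natDegree_quadratic ha
    obtain ⟨t, ht⟩ := exists_root_of_card_sq hcard' p hdeg
    have ht' : (ζ * Q (ratEmb F₀ P (b 0 : R))) * t ^ 2 +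
        (ζ * polar ⇑Q (ratEmb F₀ P (b 0 : R)) (ratEmb F₀ P (b 1 : R))) * t +
        ζ * Q (ratEmb F₀ P (b 1 : R)) = 0 := by
      rw [← coe_ratQF hR, ← coe_polar_ratQF hR, ← coe_ratQF hR]
      have h3 : ∀ x : F₀, algebraMap F₀ F x = (x : F) := fun x => rfl
      simpa [p, Polynomial.eval_map, Polynomial.eval₂_add, Polynomial.eval₂_mul, h3] using ht
    refine ⟨t, 1, (b 0 : R), (b 1 : R), (b 0).2, (b 1).2, ?_, ?_⟩
    · intro h
      rw [one_smul] at h
      -- coordinates
      have hcoord : ∀ i, t * (((b 0 : R) : ι → F₀) i : F) + (((b 1 : R) : ι → F₀) i : F) = 0 := by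
        have h1 : (P : Matrix ι ι F) *ᵥ (t • (fun i => ((((b 0 : R) : ι → F₀) i : F₀) : F)) +
            (fun i => ((((b 1 : R) : ι → F₀) i : F₀) : F))) = 0 := by
          rw [Matrix.mulVec_add, Matrix.mulVec_smul]
          exact h
        have h2 := congrArg (fun v => ((P⁻¹ : Matrix.GeneralLinearGroup ι F) : Matrix ι ι F) *ᵥ v) h1
        simp only [Matrix.mulVec_mulVec, ← Units.val_mul, inv_mul_cancel, Units.val_one,
          Matrix.one_mulVec, Matrix.mulVec_zero] at h2
        intro i
        have := congrFun h2 i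
        simpa using this
      obtain ⟨i₀, hi₀⟩ := Function.ne_iff.1 hu0
      have hi₀' : ((((b 0 : R) : ι → F₀) i₀ : F₀) : F) ≠ 0 := fun h => hi₀ (Subtype.ext h)
      let s : F₀ := -(((b 1 : R) : ι → F₀) i₀) / (((b 0 : R) : ι → F₀) i₀)
      have hts : t = (s : F) := by
        have := hcoord i₀
        show t = ((-(((b 1 : R) : ι → F₀) i₀) / (((b 0 : R) : ι → F₀) i₀) : F₀) : F)
        rw [Subfield.coe_div, Subfield.coe_neg]
        field_simp
        linear_combination this
      have hdep : s • (b 0 : R) + (b 1 : R) = 0 := by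
        apply Subtype.ext
        funext i
        apply Subtype.ext
        have := hcoord i
        rw [hts] at this
        simpa using this
      have hli := b.linearIndependent
      rw [Fintype.linearIndependent_iff] at hli
      have := hli ![s, 1] (by rw [Fin.sum_univ_two]; simpa using hdep) 1
      simp at this
    · rw [one_smul, ← one_smul F (ratEmb F₀ P (b 1 : R)), quad_two]
      have hζ' : ζ * (t * t * Q (ratEmb F₀ P (b 0 : R)) + 1 * 1 * Q (ratEmb F₀ P (b 1 : R)) +
          t * 1 * polar ⇑Q (ratEmb F₀ P (b 0 : R)) (ratEmb F₀ P (b 1 : R))) = 0 := by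
        linear_combination ht'
      rcases mul_eq_zero.1 hζ' with h | h
      · exact absurd h hζ
      · exact h

end main

end Cfsg.Agent.Lib.Helper2.Oev
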