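import Mathlib
import Cfsg.Prelude
import Cfsg.Agent.Lib.Helper2.OevM

set_option autoImplicit false
set_option linter.unusedSectionVars false
set_option linter.unusedVariables false
open Cfsg

/-! A non-degenerate quadratic form in even dimension which, up to a scalar, is rational over a
subfield of index two is of plus type: the assembly. -/

namespace Cfsg.Agent.Lib.Helper2.Oev

open Matrix Module QuadraticMap

variable {ι : Type} [Fintype ι] [DecidableEq ι] {F : Type*} [Field F]
  {Q : QuadraticForm F (ι → F)}

/-- the span of pairwise orthogonal singular vectors is totally singular -/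
theorem ts_span_of_orth {κ : Type*} (w : κ → ι → F) (hQ : ∀ a, Q (w a) = 0)
    (horth : ∀ a b, polar ⇑Q (w a) (w b) = 0) :
    ∀ x ∈ Submodule.span F (Set.range w), Q x = 0 := by
  have h1 : ∀ x ∈ Submodule.span F (Set.range w), ∀ b, polar ⇑Q x (w b) = 0 := by
    intro x hx b
    induction hx using Submodule.span_induction with
    | mem x h =>
      obtain ⟨a, rfl⟩ := h
      exact horth a b
    | zero => exact polar_zero_left _ _
    | add x y _ _ ihx ihy => rw [polar_add_left, ihx, ihy, add_zero]
    | smul c x _ ih => rw [polar_smul_left, ih, smul_zero]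
  have h2 : ∀ x ∈ Submodule.span F (Set.range w), ∀ y ∈ Submodule.span F (Set.range w),
      polar ⇑Q x y = 0 := by
    intro x hx y hy
    induction hy using Submodule.span_induction with
    | mem y h =>
      obtain ⟨b, rfl⟩ := h
      exact h1 x hx b
    | zero => exact polar_zero_right _ _
    | add y y' _ _ ihy ihy' => rw [polar_add_right, ihy, ihy', add_zero]
    | smul c y _ ih => rw [polar_smul_right, ih, smul_zero]
  intro x hx
  induction hx using Submodule.span_induction with
  | mem x h =>
    obtain ⟨a, rfl⟩ := h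
    exact hQ a
  | zero => exact map_zero _
  | add x y hx hy ihx ihy =>
    have h3 : Q (x + y) = Q x + Q y + polar ⇑Q x y := by
      unfold polar
      ring
    rw [h3, ihx, ihy, h2 x hx y hy]
    ring
  | smul c x _ ih => rw [QuadraticMap.map_smul, ih, smul_zero]

variable [Fintype F] {F₀ : Subfield F} {P : Matrix.GeneralLinearGroup ι F} {ζ : F}

/-- rationality over a subfield of index two forces the plus type -/
theorem plus_of_subfield_two (hnd : (polarBilin Q).Nondegenerate) (hζ : ζ ≠ 0)
    (hcard : Fintype.card F = Nat.card F₀ ^ 2)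
    (hR : Cfsg.Geo.IsQuadFormRationalStructure (fun v : ι → F => ζ * Q v) F₀ P) {m : ℕ}
    (hm : Fintype.card ι = 2 * m) (hm1 : 1 ≤ m) : Cfsg.Geo.IsPlusTypeOn ⇑Q ⊤ := by
  classical
  haveI : Finite F₀ := Finite.of_injective (fun x : F₀ => (x : F)) Subtype.val_injective
  have hfin : finrank F₀ (ι → F₀) = 2 * (m - 1) + 2 := by
    rw [Module.finrank_fintype_fun_eq_card, hm]
    omega
  obtain ⟨e, f, R, hs, hef, hee, hRorth, hR2, -⟩ :=
    Cfsg.Agent.Lib.Helper5.exists_hyperbolic_family (m - 1) (ratQF hR)
      (ratQF_nondeg hR hζ hnd) 2 (by norm_num) hfin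
  obtain ⟨x, y, u₀, v₀, hu₀, hv₀, hz0, hQz⟩ := exists_singular_ext hR hζ hcard R hR2
  have hpol : ∀ u v : ι → F₀, polar ⇑Q (ratEmb F₀ P u) (ratEmb F₀ P v) =
      ζ⁻¹ * ((polar ⇑(ratQF hR) u v : F₀) : F) := by
    intro u v
    rw [coe_polar_ratQF, ← mul_assoc, inv_mul_cancel₀ hζ, one_mul]
  have hQe : ∀ i, Q (ratEmb F₀ P (e i)) = 0 := by
    intro i
    have h1 := coe_ratQF hR (e i)
    rw [(hs i).1, Subfield.coe_zero] at h1
    rcases mul_eq_zero.1 h1.symm with h | h
    · exact absurd h hζ
    · exact h
  have hzany : ∀ g : ι → F₀, (∀ r ∈ R, polar ⇑(ratQF hR) g r = 0) →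
      polar ⇑Q (x • ratEmb F₀ P u₀ + y • ratEmb F₀ P v₀) (ratEmb F₀ P g) = 0 := by
    intro g hg
    rw [polar_add_left, polar_smul_left, polar_smul_left, polar_comm, hpol, hg u₀ hu₀,
      polar_comm ⇑Q (ratEmb F₀ P v₀), hpol, hg v₀ hv₀, Subfield.coe_zero, mul_zero, smul_zero,
      smul_zero, add_zero]
  have hze : ∀ i, polar ⇑Q (x • ratEmb F₀ P u₀ + y • ratEmb F₀ P v₀) (ratEmb F₀ P (e i)) = 0 :=
    fun i => hzany (e i) (fun r hr => (hRorth i r hr).1)
  have hzf : ∀ i, polar ⇑Q (x • ratEmb F₀ P u₀ + y • ratEmb F₀ P v₀) (ratEmb F₀ P (f i)) = 0 :=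
    fun i => hzany (f i) (fun r hr => (hRorth i r hr).2)
  have hee' : ∀ i j, polar ⇑Q (ratEmb F₀ P (e i)) (ratEmb F₀ P (e j)) = 0 := by
    intro i j
    rw [hpol, (hee i j).1, Subfield.coe_zero, mul_zero]
  have hef' : ∀ i j, polar ⇑Q (ratEmb F₀ P (e i)) (ratEmb F₀ P (f j)) =
      if i = j then ζ⁻¹ else 0 := by
    intro i j
    rw [hpol, hef i j]
    split_ifs
    · rw [Subfield.coe_one, mul_one]
    · rw [Subfield.coe_zero, mul_zero]
  let w : Option (Fin (m - 1)) → ι → F := fun a =>
    a.elim (x • ratEmb F₀ P u₀ + y • ratEmb F₀ P v₀) (fun i => ratEmb F₀ P (e i))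
  have hw_none : w none = x • ratEmb F₀ P u₀ + y • ratEmb F₀ P v₀ := rfl
  have hw_some : ∀ i, w (some i) = ratEmb F₀ P (e i) := fun i => rfl
  have hwQ : ∀ a, Q (w a) = 0 := by
    intro a
    cases a with
    | none => exact hQz
    | some i => exact hQe i
  have hworth : ∀ a b, polar ⇑Q (w a) (w b) = 0 := by
    intro a b
    cases a with
    | none =>
      cases b with
      | none =>
        rw [hw_none, polar_self, hQz, smul_zero]
      | some j => exact hze j
    | some i =>
      cases b with
      | none => rw [polar_comm]; exact hze i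
      | some j => exact hee' i j
  have hli : LinearIndependent F w := by
    rw [Fintype.linearIndependent_iff]
    intro g hg
    rw [Fintype.sum_option] at hg
    have hk : ∀ k, g (some k) = 0 := by
      intro k
      let L : (ι → F) →ₗ[F] F := (polarBilin Q).flip (ratEmb F₀ P (f k))
      have hL : ∀ v, L v = polar ⇑Q v (ratEmb F₀ P (f k)) := fun v => rfl
      have h1 := congrArg L hg
      rw [map_add, map_smul, map_sum, map_zero, hL, hw_none, hzf, smul_zero, zero_add] at h1
      rw [Finset.sum_eq_single k] at h1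
      · rw [map_smul, hL, hw_some, hef', if_pos rfl, smul_eq_mul] at h1
        rcases mul_eq_zero.1 h1 with h | h
        · exact h
        · exact absurd h (inv_ne_zero hζ)
      · intro i _ hik
        rw [map_smul, hL, hw_some, hef', if_neg hik, smul_zero]
      · intro hk
        exact absurd (Finset.mem_univ k) hk
    have h0 : g none = 0 := by
      have h2 : ∑ i, g (some i) • w (some i) = 0 := by
        apply Finset.sum_eq_zero
        intro i _
        rw [hk i, zero_smul]
      rw [h2, add_zero] at hg
      rcases smul_eq_zero.1 hg with h | h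
      · exact h
      · exact absurd h hz0
    intro a
    cases a with
    | none => exact h0
    | some i => exact hk i
  refine ⟨Submodule.span F (Set.range w), le_top, ts_span_of_orth w hwQ hworth, ?_⟩
  rw [finrank_span_eq_card hli, Fintype.card_option, Fintype.card_fin, finrank_top,
    Module.finrank_fintype_fun_eq_card, hm]
  omega

end Cfsg.Agent.Lib.Helper2.Oev
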