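import Mathlib
import Cfsg.Prelude
import Cfsg.Agent.Lib.Helper2.OmxC

set_option autoImplicit false
set_option linter.unusedSectionVars false
set_option linter.unusedVariables false
set_option maxHeartbeats 1000000
open Cfsg

/-! The general shape of a maximal subgroup of `Ω_{2m+1}(q)` from the subgroup structure theorem, and
the case where `2m+1` is prime. -/

namespace Cfsg.Agent.Lib.Helper2.Omx

open Matrix QuadraticMap Module Cfsg.Agent.Lib.Helper5.CartanDieudonne Cfsg.Agent.Lib.Helper5.Refl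
  Cfsg.Agent.Lib.Helper5.Siegel Cfsg.Agent.Lib.Helper5.QuadIsom
  Cfsg.Agent.Lib.Helper5.ReflGen Cfsg.Agent.Lib.Helper5.Eichler Cfsg.Agent.Lib.Helper5.SingGeom
  Cfsg.Agent.Lib.Helper5.OmegaGen Cfsg.Agent.Lib.Helper5.OmegaSimple
  Cfsg.Agent.Lib.Helper5.SpSingularMax Cfsg.Agent.Lib.Helper5.OrthSingularMax
  Cfsg.Agent.Lib.Helper5.OrthDecompSiegel Cfsg.Agent.Lib.Helper5.SpinorHyp2

theorem subfield_ne_top' {F : Type*} [Field F] [Fintype F] (F₀ : Subfield F) {r : ℕ} (hr : r.Prime)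
    (hcard : Fintype.card F = Nat.card F₀ ^ r) : F₀ ≠ ⊤ := by
  rintro rfl
  have h1 : Nat.card (⊤ : Subfield F) = Fintype.card F := by
    rw [← Nat.card_eq_fintype_card]
    exact Nat.card_congr (Subfield.topEquiv (K := F)).toEquiv
  rw [h1] at hcard
  have h2 : 1 < Fintype.card F := Fintype.one_lt_card
  have h3 : (Fintype.card F) ^ 1 = (Fintype.card F) ^ r := by rw [pow_one]; exact hcard
  have := Nat.pow_right_injective h2 h3
  exact hr.one_lt.ne this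

theorem two_ne_zero_of_odd {F : Type*} [Field F] [Fintype F] (hodd : Odd (Fintype.card F)) :
    (2 : F) ≠ 0 := by
  intro h
  have hchar : ringChar F = 2 := by
    have := ringChar.dvd (R := F) (show ((2 : ℕ) : F) = 0 by exact_mod_cast h)
    have hp := CharP.char_is_prime F (ringChar F)
    exact ((Nat.prime_dvd_prime_iff_eq hp Nat.prime_two).mp this)
  have h0 := FiniteField.even_card_of_char_two hchar
  have h1 := Nat.odd_iff.mp hodd
  omega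

theorem card_index (m : ℕ) : Fintype.card (Unit ⊕ (Fin m ⊕ Fin m)) = 2 * m + 1 := by
  rw [Fintype.card_sum, Fintype.card_sum, Fintype.card_fin, Fintype.card_unit]; omega

theorem hyp_odd {F : Type*} [Field F] [Fintype F] (hodd : Odd (Fintype.card F)) (m : ℕ)
    (hm : 3 ≤ m) : Hyp (oddForm m F) :=
  Cfsg.Agent.Lib.Helper5.OrthBridge.hyp_of_nondeg
    (oddForm_nondegenerate (two_ne_zero_of_odd hodd) m) (by rw [card_index]; omega)

/-- the hypothesis of the subgroup structure theorem for a maximal subgroup -/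
theorem hproper_of_max {F : Type*} [Field F] [Fintype F] (hodd : Odd (Fintype.card F)) (m : ℕ)
    (hm : 3 ≤ m) (H : Subgroup (Matrix.GeneralLinearGroup (Unit ⊕ (Fin m ⊕ Fin m)) F))
    (hH : Cfsg.Geo.IsMaximalIn (Cfsg.Geo.omegaGL (Cfsg.quadFormOdd m F)) H) :
    H ⊔ (Cfsg.Geo.scalars (Unit ⊕ (Fin m ⊕ Fin m)) F ⊓
      Cfsg.Geo.omegaGL (Cfsg.quadFormOdd m F)) ≠ Cfsg.Geo.omegaGL (Cfsg.quadFormOdd m F) := by
  have e := coe_oddForm (F := F) m
  rw [← e] at hH ⊢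
  rw [scalars_inf_omegaGL (hyp_odd hodd m hm) (by rw [card_index]; exact ⟨m, rfl⟩), sup_bot_eq]
  exact hH.1.ne

/-- the general shape of a maximal subgroup of `Ω_{2m+1}(q)` -/
theorem main_general {F : Type*} [Field F] [Fintype F] (hodd : Odd (Fintype.card F)) (m : ℕ)
    (hm : 3 ≤ m) (H : Subgroup (Matrix.GeneralLinearGroup (Unit ⊕ (Fin m ⊕ Fin m)) F))
    (hH : Cfsg.Geo.IsMaximalIn (Cfsg.Geo.omegaGL (Cfsg.quadFormOdd m F)) H)
    (hA : (∃ M : Subgroup (Matrix.GeneralLinearGroup (Unit ⊕ (Fin m ⊕ Fin m)) F),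
      Cfsg.Geo.InOrthogonalOddClass m F M ∧ H ≤ M) ∨ Cfsg.Geo.InOrthogonalResidualClass H) :
    (∃ W : Submodule F (Unit ⊕ (Fin m ⊕ Fin m) → F), W ≠ ⊥ ∧
      Cfsg.Geo.IsTotallySingularQuad (Cfsg.quadFormOdd m F) W ∧
      H = Cfsg.Geo.subspaceStabilizer W ⊓ Cfsg.Geo.omegaGL (Cfsg.quadFormOdd m F)) ∨
    (∃ W : Submodule F (Unit ⊕ (Fin m ⊕ Fin m) → F), W ≠ ⊥ ∧ Even (Module.finrank F W) ∧
      Cfsg.Geo.IsNondegenerateOn (QuadraticMap.polar (Cfsg.quadFormOdd m F)) W ∧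
      ¬ (Fintype.card F = 3 ∧ Module.finrank F W = 2 ∧
        Cfsg.Geo.IsPlusTypeOn (Cfsg.quadFormOdd m F) W) ∧
      H = Cfsg.Geo.subspaceStabilizer W ⊓ Cfsg.Geo.omegaGL (Cfsg.quadFormOdd m F)) ∨
    (∃ (t k : ℕ) (D : Fin t → Submodule F (Unit ⊕ (Fin m ⊕ Fin m) → F)), 1 < k ∧
      Cfsg.Geo.IsOrthogonalMDecomposition (Cfsg.quadFormOdd m F) k D ∧
      H = Cfsg.Geo.decompositionStabilizer D ⊓ Cfsg.Geo.omegaGL (Cfsg.quadFormOdd m F)) ∨
    ((Fintype.card F).Prime ∧ ∃ (t : ℕ) (D : Fin t → Submodule F (Unit ⊕ (Fin m ⊕ Fin m) → F)),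
      Cfsg.Geo.IsOrthogonalMDecomposition (Cfsg.quadFormOdd m F) 1 D ∧
      H = Cfsg.Geo.decompositionStabilizer D ⊓ Cfsg.Geo.omegaGL (Cfsg.quadFormOdd m F)) ∨
    (∃ (r : ℕ) (K : Subalgebra F (Matrix (Unit ⊕ (Fin m ⊕ Fin m)) (Unit ⊕ (Fin m ⊕ Fin m)) F)),
      r.Prime ∧ 2 * m + 1 ≠ r ∧ Cfsg.Geo.IsFieldSubalgebra r K ∧
      Cfsg.Geo.IsSelfAdjointFor (QuadraticMap.polar (Cfsg.quadFormOdd m F)) K ∧
      H ≤ Cfsg.Geo.subalgebraNormalizer K) ∨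
    (∃ (n₁ n₂ : ℕ) (e : (Unit ⊕ (Fin m ⊕ Fin m)) ≃ Fin n₁ × Fin n₂), 3 ≤ n₁ ∧ n₁ < n₂) ∨
    (∃ (F₀ : Subfield F) (r : ℕ) (P : Matrix.GeneralLinearGroup (Unit ⊕ (Fin m ⊕ Fin m)) F),
      r.Prime ∧ Fintype.card F = Nat.card F₀ ^ r ∧
      Cfsg.Geo.IsQuadFormRationalStructure (Cfsg.quadFormOdd m F) F₀ P ∧
      H = Cfsg.Geo.subfieldSubgroup F₀ P ⊓ Cfsg.Geo.omegaGL (Cfsg.quadFormOdd m F)) ∨
    (∃ (k t : ℕ) (e : (Unit ⊕ (Fin m ⊕ Fin m)) ≃ (Fin t → Fin k))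
      (P : Matrix.GeneralLinearGroup (Unit ⊕ (Fin m ⊕ Fin m)) F)
      (f₁ : (Fin k → F) → (Fin k → F) → F), 3 ≤ k ∧ 2 ≤ t ∧ ¬ (Fintype.card F = 3 ∧ k = 3) ∧
      Cfsg.Geo.IsSymmetricForm f₁ ∧
      Cfsg.Geo.IsTensorPowerFormStructure id (QuadraticMap.polar (Cfsg.quadFormOdd m F)) f₁ e P ∧
      H ≤ Cfsg.Geo.tensorWreathSubgroup k t e P) ∨
    Cfsg.Geo.InOrthogonalResidualClass H := by
  have h2 := two_ne_zero_of_odd hodd
  have Hy := hyp_odd hodd m hm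
  have hcard := card_index m
  have e := coe_oddForm (F := F) m
  rcases hA with ⟨M, hM, hHM⟩ | hres
  swap
  · exact Or.inr (Or.inr (Or.inr (Or.inr (Or.inr (Or.inr (Or.inr (Or.inr hres)))))))
  simp only [Cfsg.Geo.InOrthogonalOddClass] at hM
  rw [← e] at hM hH ⊢
  rcases hM with ⟨W, hW0, hWts, rfl⟩ | ⟨W, hW0, hW1, hWnd, rfl⟩ | ⟨t, k, D, hk, hD, rfl⟩ |
    ⟨t, D, hp, hD, rfl⟩ | ⟨r, K, hr, hrn, hK, hKsa, rfl⟩ |
    ⟨n₁, n₂, e', P, f₁, f₂, h1, h2', hf₁, hf₂, hT, rfl⟩ | ⟨F₀, r, P, hr, hcardF, hrat, rfl⟩ |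
    ⟨k, t, e', P, f₁, hk, ht, hq3, hf₁, hT, rfl⟩
  · -- totally singular
    left
    have hW1 : W ≠ ⊤ := by
      rintro rfl
      obtain ⟨z, hz, -, -⟩ := exists_aniso_perp2 (oddForm m F) Hy.nondeg Hy.finrank5 0 0
      exact hz (hWts z Submodule.mem_top)
    exact ⟨W, hW0, hWts, eq_inf_of_le hH (hHM.trans inf_le_left) (not_le_stab Hy W hW0 hW1)⟩
  · -- non-degenerate
    right; left
    obtain ⟨W', hW'0, hW'1, hev, hnd, hbad, hle⟩ := exists_good Hy h2 (by rw [hcard]; omega)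
      (by rw [hcard]; exact ⟨m, rfl⟩) W hW0 hW1 hWnd
    have hHW' : H ≤ Cfsg.Geo.subspaceStabilizer W' :=
      ((le_inf (hHM.trans inf_le_left) hH.1.le).trans hle).trans inf_le_left
    exact ⟨W', hW'0, hev, hnd, hbad, eq_inf_of_le hH hHW' (not_le_stab Hy W' hW'0 hW'1)⟩
  · right; right; left
    exact ⟨t, k, D, hk, hD, eq_inf_of_le hH (hHM.trans inf_le_left)
      (not_le_decomp Hy h2 hD.decomp.decomp)⟩
  · right; right; right; left
    exact ⟨hp, t, D, hD, eq_inf_of_le hH (hHM.trans inf_le_left)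
      (not_le_decomp Hy h2 hD.decomp.decomp)⟩
  · right; right; right; right; left
    exact ⟨r, K, hr, hrn, hK, hKsa, hHM.trans inf_le_left⟩
  · right; right; right; right; right; left
    exact ⟨n₁, n₂, e', h1, h2'⟩
  · right; right; right; right; right; right; left
    exact ⟨F₀, r, P, hr, hcardF, hrat, eq_inf_of_le hH (hHM.trans inf_le_left)
      (not_le_subfield Hy F₀ (subfield_ne_top' F₀ hr hcardF) P)⟩
  · right; right; right; right; right; right; right; left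
    exact ⟨k, t, e', P, f₁, hk, ht, hq3, hf₁, hT, hHM.trans inf_le_left⟩

end Cfsg.Agent.Lib.Helper2.Omx
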