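import Mathlib
import Cfsg.Prelude
import Cfsg.Agent.Lib.Helper2.OmxD

set_option autoImplicit false
set_option linter.unusedSectionVars false
set_option linter.unusedVariables false
set_option maxHeartbeats 1000000
open Cfsg

/-! Maximal subgroups of `Ω_{2m+1}(q)` when `2m+1` is prime. -/

namespace Cfsg.Agent.Lib.Helper2.Omx

open Matrix QuadraticMap Module

theorem card_of_tensor_equiv {ι : Type} [Fintype ι] {n₁ n₂ : ℕ} (e : ι ≃ Fin n₁ × Fin n₂) :
    Fintype.card ι = n₁ * n₂ := by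
  rw [Fintype.card_congr e, Fintype.card_prod, Fintype.card_fin, Fintype.card_fin]

theorem card_of_power_equiv {ι : Type} [Fintype ι] {k t : ℕ} (e : ι ≃ (Fin t → Fin k)) :
    Fintype.card ι = k ^ t := by
  rw [Fintype.card_congr e, Fintype.card_fun, Fintype.card_fin, Fintype.card_fin]

/-- maximal subgroups of `Ω_{2m+1}(q)`, `2m+1` prime -/
theorem main_prime {F : Type*} [Field F] [Fintype F] (hodd : Odd (Fintype.card F)) (m : ℕ)
    (hm : 3 ≤ m) (hp : (2 * m + 1).Prime)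
    (H : Subgroup (Matrix.GeneralLinearGroup (Unit ⊕ (Fin m ⊕ Fin m)) F))
    (hH : Cfsg.Geo.IsMaximalIn (Cfsg.Geo.omegaGL (Cfsg.quadFormOdd m F)) H)
    (hA : (∃ M : Subgroup (Matrix.GeneralLinearGroup (Unit ⊕ (Fin m ⊕ Fin m)) F),
      Cfsg.Geo.InOrthogonalOddClass m F M ∧ H ≤ M) ∨ Cfsg.Geo.InOrthogonalResidualClass H) :
    (∃ W : Submodule F (Unit ⊕ (Fin m ⊕ Fin m) → F), W ≠ ⊥ ∧
      Cfsg.Geo.IsTotallySingularQuad (Cfsg.quadFormOdd m F) W ∧
      H = Cfsg.Geo.subspaceStabilizer W ⊓ Cfsg.Geo.omegaGL (Cfsg.quadFormOdd m F)) ∨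
    (∃ W : Submodule F (Unit ⊕ (Fin m ⊕ Fin m) → F), W ≠ ⊥ ∧ Even (Module.finrank F W) ∧
      Cfsg.Geo.IsNondegenerateOn (QuadraticMap.polar (Cfsg.quadFormOdd m F)) W ∧
      ¬ (Fintype.card F = 3 ∧ Module.finrank F W = 2 ∧
        Cfsg.Geo.IsPlusTypeOn (Cfsg.quadFormOdd m F) W) ∧
      H = Cfsg.Geo.subspaceStabilizer W ⊓ Cfsg.Geo.omegaGL (Cfsg.quadFormOdd m F)) ∨
    ((Fintype.card F).Prime ∧
      ∃ D : Fin (2 * m + 1) → Submodule F (Unit ⊕ (Fin m ⊕ Fin m) → F),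
      Cfsg.Geo.IsOrthogonalMDecomposition (Cfsg.quadFormOdd m F) 1 D ∧
      H = Cfsg.Geo.decompositionStabilizer D ⊓ Cfsg.Geo.omegaGL (Cfsg.quadFormOdd m F)) ∨
    (∃ (F₀ : Subfield F) (r : ℕ) (P : Matrix.GeneralLinearGroup (Unit ⊕ (Fin m ⊕ Fin m)) F),
      r.Prime ∧ Fintype.card F = Nat.card F₀ ^ r ∧
      Cfsg.Geo.IsQuadFormRationalStructure (Cfsg.quadFormOdd m F) F₀ P ∧
      H = Cfsg.Geo.subfieldSubgroup F₀ P ⊓ Cfsg.Geo.omegaGL (Cfsg.quadFormOdd m F)) ∨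
    Cfsg.Geo.InOrthogonalResidualClass H := by
  have hcard := card_index m
  rcases main_general hodd m hm H hH hA with h | h | ⟨t, k, D, hk, hD, -⟩ | ⟨hq, t, D, hD, hHD⟩ |
    ⟨r, K, hr, hrn, hK, -, -⟩ | ⟨n₁, n₂, e, h1, h2⟩ | h | ⟨k, t, e, P, f₁, hk, ht, -, -, -, -⟩ | h
  · exact Or.inl h
  · exact Or.inr (Or.inl h)
  · exfalso
    have h1 := Cfsg.Agent.Lib.Helper5.OrthFrameThree.card_blocks' hD.decomp.decomp
    rw [hcard] at h1
    have h2 := hD.decomp.decomp.two_le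
    rcases (Nat.dvd_prime hp).mp ⟨k, h1.symm⟩ with h3 | h3
    · omega
    · rw [h3] at h1
      have : k = 1 := by
        have h4 : (2 * m + 1) * k = (2 * m + 1) * 1 := by rw [h1, mul_one]
        exact Nat.eq_of_mul_eq_mul_left (by omega) h4
      omega
  · have h1 := Cfsg.Agent.Lib.Helper5.OrthFrameThree.card_blocks' hD.decomp.decomp
    rw [hcard, mul_one] at h1
    subst h1
    exact Or.inr (Or.inr (Or.inl ⟨hq, D, hD, hHD⟩))
  · exfalso
    have h1 := dvd_of_fieldSubalgebra' hr.pos hK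
    rw [hcard] at h1
    exact hrn ((Nat.prime_dvd_prime_iff_eq hr hp).mp h1).symm
  · exfalso
    have h3 := card_of_tensor_equiv e
    rw [hcard] at h3
    rcases (Nat.dvd_prime hp).mp ⟨n₂, h3⟩ with h4 | h4
    · omega
    · rw [h4] at h3
      have : n₂ = 1 := by
        have h5 : (2 * m + 1) * n₂ = (2 * m + 1) * 1 := by rw [← h3, mul_one]
        exact Nat.eq_of_mul_eq_mul_left (by omega) h5
      omega
  · exact Or.inr (Or.inr (Or.inr (Or.inl h)))
  · exfalso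
    have h3 := card_of_power_equiv e
    rw [hcard] at h3
    have hdvd : k ∣ 2 * m + 1 := by
      rw [h3]
      exact dvd_pow_self k (by omega)
    rcases (Nat.dvd_prime hp).mp hdvd with h4 | h4
    · omega
    · have h5 : k ^ 1 < k ^ t := Nat.pow_lt_pow_right (by omega) (by omega)
      rw [pow_one, ← h3] at h5
      omega
  · exact Or.inr (Or.inr (Or.inr (Or.inr h)))

end Cfsg.Agent.Lib.Helper2.Omx
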