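import Mathlib
import Cfsg.Prelude
import Cfsg.Agent.Lib.Helper2.OevN
import Cfsg.Agent.Lib.Helper2.OevK
import Cfsg.Agent.Lib.Helper2.OmxE

set_option autoImplicit false
set_option linter.unusedSectionVars false
set_option linter.unusedVariables false
open Cfsg

/-! Small lemmas for the rows: transfer of totally singular subspaces along isometries, blocks of
plus type, symplectic forms live in even dimension, polarisation. -/

namespace Cfsg.Agent.Lib.Helper2.Oev

open Matrix QuadraticMap Module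

variable {ι : Type} [Fintype ι] [DecidableEq ι] {F : Type*} [Field F]
  {Q : QuadraticForm F (ι → F)}

theorem hasTS_of_isometric {W W' : Submodule F (ι → F)} {d : ℕ}
    (h : Cfsg.Geo.AreIsometricFor ⇑Q W W') (hts : HasTS Q W d) : HasTS Q W' d := by
  obtain ⟨e, he⟩ := h
  obtain ⟨U, hUW, hUts, hUd⟩ := hts
  let Φ : ↥(U.comap W.subtype) →ₗ[F] (ι → F) :=
    W'.subtype ∘ₗ (e : W →ₗ[F] W') ∘ₗ (U.comap W.subtype).subtype
  have hΦ : ∀ x, Φ x = ((e (x : W) : W') : ι → F) := fun x => rfl
  have hd : finrank F ↥(U.comap W.subtype) = d := by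
    rw [(Submodule.comapSubtypeEquivOfLe hUW).finrank_eq, hUd]
  rw [← hd]
  refine hasTS_of_map (X := ↥(U.comap W.subtype)) Φ ?_ ?_ W' ?_
  · intro x
    rw [hΦ, he]
    exact hUts _ x.2
  · intro x y hxy
    rw [hΦ, hΦ] at hxy
    have := e.injective (Subtype.ext hxy)
    exact Subtype.ext this
  · intro x
    rw [hΦ]
    exact (e (x : W)).2

/-- a decomposition into three isometric blocks one of which is of plus type -/
theorem plus_of_three_plus_blocks [Fintype F] {k : ℕ} {D : Fin 3 → Submodule F (ι → F)}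
    (hD : Cfsg.Geo.IsOrthogonalMDecomposition ⇑Q k D) (i : Fin 3)
    (hi : Cfsg.Geo.IsPlusTypeOn ⇑Q (D i)) : Cfsg.Geo.IsPlusTypeOn ⇑Q ⊤ := by
  have h0 := hasTS_of_plus hi
  rw [hD.decomp.decomp.finrank_eq] at h0
  have hall : ∀ j, HasTS Q (D j) (k / 2) := fun j => hasTS_of_isometric (hD.isometric i j) h0
  have h := hasTS_top_of_groups (Q := Q) (κ := Fin 3) D (fun _ => k / 2) hall
    (fun j => nd_of_decomp hD j) (fun a b hab => orth_of_decomp hD hab)
  obtain ⟨U, hUW, hUts, hUdim⟩ := hi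
  rw [hD.decomp.decomp.finrank_eq] at hUdim
  refine plus_top_of_hasTS h ?_
  rw [← card_blocks hD]
  simp only [Finset.sum_const, Finset.card_univ, Fintype.card_fin, smul_eq_mul]
  omega

/-- a non-degenerate alternating form lives in even dimension -/
theorem even_of_symplectic {n : ℕ} {f : (Fin n → F) → (Fin n → F) → F}
    (hf : Cfsg.Geo.IsSymplecticForm f) : Even n := by
  let B : LinearMap.BilinForm F (Fin n → F) :=
    LinearMap.mk₂ F f hf.bilinear.add_left (fun c x y => by rw [hf.bilinear.smul_left, smul_eq_mul])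
      hf.bilinear.add_right (fun c x y => by rw [hf.bilinear.smul_right, smul_eq_mul])
  have hB : ∀ x y, B x y = f x y := fun x y => rfl
  have hA : B.IsAlt := fun x => by rw [hB]; exact hf.alternating x
  obtain ⟨m, k, b, -, -, -, -, h5, h6⟩ := Cfsg.Agent.Lib.Helper5.AltForm.exists_darboux_basis B hA
  have hker : LinearMap.ker B = ⊥ := by
    rw [eq_bot_iff]
    intro x hx
    rw [LinearMap.mem_ker] at hx
    rw [Submodule.mem_bot]
    by_contra hx0
    obtain ⟨y, hy⟩ := (hf.nondegenerate x hx0).2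
    apply hy
    have := LinearMap.congr_fun hx y
    rw [hB] at this
    exact this
  rw [hker, finrank_bot] at h6
  rw [Module.finrank_fintype_fun_eq_card, Fintype.card_fin] at h5
  exact ⟨m, by omega⟩

/-- polarisation in odd characteristic -/
theorem polarise {n : ℕ} {f : (Fin n → F) → (Fin n → F) → F} (h2 : (2 : F) ≠ 0)
    (hf : Cfsg.Geo.IsSymmetricForm f) (U : Submodule F (Fin n → F))
    (hU : ∀ y ∈ U, f y y = 0) : ∀ y ∈ U, ∀ y' ∈ U, f y y' = 0 := by
  intro y hy y' hy'
  have h1 := hU (y + y') (U.add_mem hy hy')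
  rw [hf.bilinear.add_left, hf.bilinear.add_right, hf.bilinear.add_right, hU y hy, hU y' hy',
    hf.symm y' y] at h1
  have h3 : (2 : F) * f y y' = 0 := by linear_combination h1
  rcases mul_eq_zero.1 h3 with h | h
  · exact absurd h h2
  · exact h

theorem five_le_of_odd {q : ℕ} (hodd : Odd q) (h1 : 1 < q) (h3 : q ≠ 3) : 5 ≤ q := by
  obtain ⟨k, hk⟩ := hodd
  omega

theorem single_ne_zero {n : ℕ} (hn : 0 < n) : (Pi.single (⟨0, hn⟩ : Fin n) (1 : F) : Fin n → F) ≠ 0 := by
  intro h
  have := congrFun h ⟨0, hn⟩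
  simp at this

theorem exists_ne_of_nondeg {n : ℕ} (hn : 0 < n) {f : (Fin n → F) → (Fin n → F) → F}
    (hf : Cfsg.Geo.IsNondegenerateForm f) : ∃ x y, f x y ≠ 0 := by
  obtain ⟨⟨x, hx⟩, -⟩ := hf _ (single_ne_zero (F := F) hn)
  exact ⟨x, _, hx⟩

end Cfsg.Agent.Lib.Helper2.Oev
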