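import Mathlib
import Cfsg.Prelude
import Cfsg.Agent.Lib.Helper2.OevP
import Cfsg.Agent.Lib.Helper5.AschE.Main

set_option autoImplicit false
set_option linter.unusedSectionVars false
set_option linter.unusedVariables false
set_option maxHeartbeats 1600000
open Cfsg

/-! The maximal subgroups of `Ω₁₂⁻(q)`: from the geometric classes to the listed types. -/

namespace Cfsg.Agent.Lib.Helper2.Oev

open Matrix QuadraticMap Module Cfsg.Agent.Lib.Helper5.CartanDieudonne Cfsg.Agent.Lib.Helper5.Refl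
  Cfsg.Agent.Lib.Helper5.Siegel Cfsg.Agent.Lib.Helper5.QuadIsom
  Cfsg.Agent.Lib.Helper5.ReflGen Cfsg.Agent.Lib.Helper5.Eichler Cfsg.Agent.Lib.Helper5.SingGeom
  Cfsg.Agent.Lib.Helper5.OmegaGen Cfsg.Agent.Lib.Helper5.OmegaSimple
  Cfsg.Agent.Lib.Helper5.SpSingularMax Cfsg.Agent.Lib.Helper5.OrthSingularMax
  Cfsg.Agent.Lib.Helper5.OrthDecompSiegel Cfsg.Agent.Lib.Helper2.Omx

theorem main12minus {F : Type*} [Field F] [Fintype F] (Q : QuadraticForm F (Fin 12 → F))
    (Hy : Hyp Q) (hminus : ¬ Cfsg.Geo.IsPlusTypeOn ⇑Q ⊤)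
    (H : Subgroup (Matrix.GeneralLinearGroup (Fin 12) F))
    (hH : Cfsg.Geo.IsMaximalIn (Cfsg.Geo.omegaGL ⇑Q) H) :
    (∃ W : Submodule F (Fin 12 → F), W ≠ ⊥ ∧ Cfsg.Geo.IsTotallySingularQuad ⇑Q W ∧ H = Cfsg.Geo.subspaceStabilizer W ⊓ Cfsg.Geo.omegaGL ⇑Q) ∨
    (Odd (Fintype.card F) ∧ ∃ W : Submodule F (Fin 12 → F), W ≠ ⊥ ∧ W ≠ ⊤ ∧ Odd (Module.finrank F W) ∧ 2 * Module.finrank F W ≠ 12 ∧ Cfsg.Geo.IsNondegenerateOn (QuadraticMap.polar ⇑Q) W ∧ H = Cfsg.Geo.subspaceStabilizer W ⊓ Cfsg.Geo.omegaGL ⇑Q) ∨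
    (∃ W : Submodule F (Fin 12 → F), Module.finrank F W = 2 ∧ Cfsg.Geo.IsNondegenerateOn (QuadraticMap.polar ⇑Q) W ∧ ¬ Cfsg.Geo.IsPlusTypeOn ⇑Q W ∧ H = Cfsg.Geo.subspaceStabilizer W ⊓ Cfsg.Geo.omegaGL ⇑Q) ∨
    (4 ≤ Fintype.card F ∧ ∃ W : Submodule F (Fin 12 → F), Module.finrank F W = 2 ∧ Cfsg.Geo.IsNondegenerateOn (QuadraticMap.polar ⇑Q) W ∧ Cfsg.Geo.IsPlusTypeOn ⇑Q W ∧ H = Cfsg.Geo.subspaceStabilizer W ⊓ Cfsg.Geo.omegaGL ⇑Q) ∨
    (∃ W : Submodule F (Fin 12 → F), Module.finrank F W = 4 ∧ Cfsg.Geo.IsNondegenerateOn (QuadraticMap.polar ⇑Q) W ∧ H = Cfsg.Geo.subspaceStabilizer W ⊓ Cfsg.Geo.omegaGL ⇑Q) ∨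
    (∃ W : Submodule F (Fin 12 → F), Module.finrank F W = 6 ∧ Cfsg.Geo.IsNondegenerateOn (QuadraticMap.polar ⇑Q) W ∧ H = Cfsg.Geo.subspaceStabilizer W ⊓ Cfsg.Geo.omegaGL ⇑Q) ∨
    (¬ Odd (Fintype.card F) ∧ ∃ v : (Fin 12 → F), ⇑Q v ≠ 0 ∧ H = Cfsg.Geo.subspaceStabilizer (Submodule.span F {v}) ⊓ Cfsg.Geo.omegaGL ⇑Q) ∨
    (∃ D : Fin 3 → Submodule F (Fin 12 → F), Cfsg.Geo.IsOrthogonalMDecomposition ⇑Q 4 D ∧ (∀ i, ¬ Cfsg.Geo.IsPlusTypeOn ⇑Q (D i)) ∧ H = Cfsg.Geo.decompositionStabilizer D ⊓ Cfsg.Geo.omegaGL ⇑Q) ∨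
    (∃ K : Subalgebra F (Matrix (Fin 12) (Fin 12) F), Cfsg.Geo.IsFieldSubalgebra 2 K ∧ H = Cfsg.Geo.subalgebraNormalizer K ⊓ Cfsg.Geo.omegaGL ⇑Q) ∨
    (∃ K : Subalgebra F (Matrix (Fin 12) (Fin 12) F), Cfsg.Geo.IsFieldSubalgebra 3 K ∧ H = Cfsg.Geo.subalgebraNormalizer K ⊓ Cfsg.Geo.omegaGL ⇑Q) ∨
    (Odd (Fintype.card F) ∧ 5 ≤ Fintype.card F ∧ ∃ (e : Fin 12 ≃ Fin 3 × Fin 4) (P : Matrix.GeneralLinearGroup (Fin 12) F) (f₁ : (Fin 3 → F) → (Fin 3 → F) → F) (f₂ : (Fin 4 → F) → (Fin 4 → F) → F), Cfsg.Geo.IsSymmetricForm f₁ ∧ Cfsg.Geo.IsSymmetricForm f₂ ∧ ¬ Cfsg.Geo.IsPlusTypeOn (fun v : Fin 4 → F => f₂ v v) ⊤ ∧ Cfsg.Geo.IsTensorFormStructure id (QuadraticMap.polar ⇑Q) f₁ f₂ e P ∧ H = Cfsg.Geo.tensorProductSubgroup 3 4 e P ⊓ Cfsg.Geo.omegaGL ⇑Q) ∨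
    (∃ (F₀ : Subfield F) (r : ℕ) (P : Matrix.GeneralLinearGroup (Fin 12) F) (ζ : F), r.Prime ∧ Odd r ∧ Fintype.card F = Nat.card F₀ ^ r ∧ ζ ≠ 0 ∧ Cfsg.Geo.IsQuadFormRationalStructure (fun v : Fin 12 → F => ζ * ⇑Q v) F₀ P ∧ H = Cfsg.Geo.subfieldSubgroup F₀ P ⊓ Cfsg.Geo.omegaGL ⇑Q) ∨
    Cfsg.Geo.InOrthogonalResidualClass H := by
  have hHΩ : H ≤ Cfsg.Geo.omegaGL ⇑Q := hH.1.le
  have hn : Fintype.card (Fin 12) = 12 := Fintype.card_fin 12
  have hstabI : ∀ g ∈ H, ∀ x, Q ((g : Matrix (Fin 12) (Fin 12) F) *ᵥ x) = Q x := by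
    intro g hg x
    obtain ⟨a, -, rfl⟩ := (mem_omegaGL_iff Q g).mp (hHΩ hg)
    exact quad_act Q a x
  rcases Cfsg.Agent.Lib.Helper5.AschE.even_main Q
    (Cfsg.Agent.Lib.Helper5.AschO.gramQ_det Q Hy.nondeg)
    (fun r m hr => by rw [hn]; exact Cfsg.Agent.Lib.Helper5.AschE.not_prime_pow_twelve r m hr)
    (fun k t ht => by rw [hn]; exact Cfsg.Agent.Lib.Helper5.AschE.not_pow_twelve k t ht) H hHΩ
    with ⟨M, hM, hHM⟩ | hres
  swap
  · iterate 12 right
    exact hres
  rcases hM with ⟨W, hW0, hWts, rfl⟩ | ⟨W, hW0, hW1, hWnd, rfl⟩ | ⟨h2, v, hv, rfl⟩ |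
    ⟨t, k, D, hk, hD, rfl⟩ | ⟨t, D, hp, h2, hD, rfl⟩ | ⟨k, D, hD, hts, rfl⟩ |
    ⟨r, K, hr, hK, hsa, rfl⟩ | ⟨K, hK, hac, hnsa, hsim, rfl⟩ |
    ⟨n₁, n₂, e, P, f₁, f₂, h1, h12, h2, hf₁, hf₂, hT, rfl⟩ |
    ⟨n₁, n₂, e, P, f₁, f₂, h1, h12, hf₁, hf₂, hT, hQ0, rfl⟩ |
    ⟨F₀, r, P, ζ, hr, hcardF, hζ, hrat, rfl⟩
  · -- 1a totally singular
    left
    have hW1 : W ≠ ⊤ := by
      rintro rfl
      obtain ⟨z, hz, -, -⟩ := exists_aniso_perp2 Q Hy.nondeg Hy.finrank5 0 0
      exact hz (hWts z Submodule.mem_top)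
    exact ⟨W, hW0, hWts, eq_inf_of_le hH (hHM.trans inf_le_left) (not_le_stab Hy W hW0 hW1)⟩
  · -- 1b non-degenerate
    obtain ⟨W', hW'0, hW'1, hnd', hdim', hle⟩ := exists_small_nondeg Hy hW0 hW1 hWnd
    have hHW' : H ≤ Cfsg.Geo.subspaceStabilizer W' :=
      ((le_inf (hHM.trans inf_le_left) hHΩ).trans hle).trans inf_le_left
    have hEq := eq_inf_of_le hH hHW' (not_le_stab Hy W' hW'0 hW'1)
    rw [hn] at hdim'
    have hpos : 0 < finrank F W' := by
      rw [Module.finrank_pos_iff_exists_ne_zero]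
      obtain ⟨w, hw, hw0⟩ := (Submodule.ne_bot_iff W').1 hW'0
      exact ⟨⟨w, hw⟩, fun h => hw0 (congrArg Subtype.val h)⟩
    by_cases hoddd : Odd (finrank F W')
    · -- odd dimension
      by_cases hoddq : Odd (Fintype.card F)
      · right; left
        refine ⟨hoddq, W', hW'0, hW'1, hoddd, ?_, hnd', hEq⟩
        obtain ⟨c, hc⟩ := hoddd
        omega
      · exact absurd (even_finrank_of_nd (two_eq_zero_of_not_odd hoddq) (nd_of_nondegOn hnd'))
          (Nat.not_even_iff_odd.2 hoddd)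
    · have heven : Even (finrank F W') := Nat.not_odd_iff_even.1 hoddd
      obtain ⟨c, hc⟩ := heven
      have hcases : finrank F W' = 2 ∨ finrank F W' = 4 ∨ finrank F W' = 6 := by omega
      rcases hcases with h2d | h4d | h6d
      · rcases plane_cases Hy h2d hnd' with hmin | ⟨hq4, hpl⟩ | ⟨v, hv, hlev⟩
        · right; right; left
          exact ⟨W', h2d, hnd', hmin, hEq⟩
        · right; right; right; left
          exact ⟨hq4, W', h2d, hnd', hpl, hEq⟩
        · have hHv : H ≤ Cfsg.Geo.subspaceStabilizer (Submodule.span F ({v} : Set (Fin 12 → F))) :=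
            ((le_inf hHW' hHΩ).trans hlev).trans inf_le_left
          have hv0 : v ≠ 0 := by
            rintro rfl
            exact hv (map_zero _)
          have hEqv := eq_inf_of_le hH hHv (not_le_stab Hy _ (span_singleton_ne_bot hv)
            (span_singleton_ne_top (by rw [hn]; norm_num) v))
          by_cases hoddq : Odd (Fintype.card F)
          · right; left
            refine ⟨hoddq, _, span_singleton_ne_bot hv,
              span_singleton_ne_top (by rw [hn]; norm_num) v, ?_, ?_,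
              line_nondeg (two_ne_zero_of_odd' hoddq) v hv, hEqv⟩
            · rw [finrank_span_singleton hv0]
              exact odd_one
            · rw [finrank_span_singleton hv0]
              norm_num
          · iterate 6 right
            left
            exact ⟨hoddq, v, hv, hEqv⟩
      · iterate 4 right
        left
        exact ⟨W', h4d, hnd', hEq⟩
      · iterate 5 right
        left
        exact ⟨W', h6d, hnd', hEq⟩
  · -- 1c non-singular point
    iterate 6 right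
    left
    exact ⟨not_odd_of_two_eq_zero h2, v, hv, eq_inf_of_le hH (hHM.trans inf_le_left)
      (not_le_stab Hy _ (span_singleton_ne_bot hv)
        (span_singleton_ne_top (by rw [hn]; norm_num) v))⟩
  · -- 2a decompositions
    have hcard := card_blocks hD
    rw [hn] at hcard
    have ht2 := hD.decomp.decomp.two_le
    have hk6 : k ≤ 6 := by nlinarith
    have hk2 : 2 ≤ k := hk
    interval_cases k
    · -- k = 2, t = 6
      exact absurd (plus_of_even_blocks hD ⟨1, rfl⟩ ⟨3, by omega⟩) hminus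
    · -- k = 3, t = 4
      exact absurd (plus_of_four_blocks hD ⟨1, by omega⟩) hminus
    · -- k = 4, t = 3
      obtain rfl : t = 3 := by omega
      iterate 7 right
      left
      refine ⟨D, hD, ?_, eq_inf_of_le hH (hHM.trans inf_le_left)
        (not_le_decomp' Hy hD.decomp.decomp (by norm_num))⟩
      intro i hi
      exact hminus (plus_of_three_plus_blocks hD i hi)
    · -- k = 5
      omega
    · -- k = 6, t = 2
      exact absurd (plus_of_even_blocks hD ⟨3, rfl⟩ ⟨1, by omega⟩) hminus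
  · -- 2f frames
    have hcard := card_blocks hD
    rw [hn] at hcard
    exact absurd (plus_of_four_blocks hD ⟨3, by omega⟩) hminus
  · -- 2b pairs of totally singular subspaces
    exact absurd (plus_of_ts_pair hD hts) hminus
  · -- 3a fields
    have hdvd := dvd_of_fieldSubalgebra' hr.pos hK
    rw [hn] at hdvd
    have hr12 : r ≤ 12 := Nat.le_of_dvd (by norm_num) hdvd
    have hr2 := hr.two_le
    have hcases : r = 2 ∨ r = 3 := by
      interval_cases r <;> first | omega | (exfalso; revert hr; decide) | (exfalso; revert hdvd; decide)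
    rcases hcases with rfl | rfl
    · iterate 8 right
      left
      exact ⟨K, hK, eq_inf_of_le hH (hHM.trans inf_le_left)
        (not_le_fieldNormalizer' Hy (by norm_num) hK)⟩
    · iterate 9 right
      left
      exact ⟨K, hK, eq_inf_of_le hH (hHM.trans inf_le_left)
        (not_le_fieldNormalizer' Hy (by norm_num) hK)⟩
  · -- 3b unitary type
    iterate 8 right
    left
    exact ⟨K, hK, eq_inf_of_le hH (hHM.trans inf_le_left)
      (not_le_fieldNormalizer' Hy (by norm_num) hK)⟩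
  · -- 4a tensor products of symmetric forms
    have hcard := card_of_tensor_equiv e
    rw [hn] at hcard
    have hn1 : n₁ ≤ 3 := by nlinarith
    have hpolI : ∀ g ∈ H, ∀ u w : Fin 12 → F,
        polar ⇑Q ((g : Matrix (Fin 12) (Fin 12) F) *ᵥ u) ((g : Matrix (Fin 12) (Fin 12) F) *ᵥ w) =
          polar ⇑Q u w := by
      intro g hg u w
      unfold polar
      rw [← Matrix.mulVec_add, hstabI g hg, hstabI g hg, hstabI g hg]
    interval_cases n₁
    · -- (2, 6)
      obtain rfl : n₂ = 6 := by omega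
      by_cases haniso : ∀ x : Fin 2 → F, x ≠ 0 → f₁ x x ≠ 0
      · obtain ⟨L, hL, hnorm⟩ := tensor2_field e P hf₁.bilinear hf₁.symm haniso hf₂.bilinear
          (exists_ne_of_nondeg (by norm_num) hf₂.nondegenerate) hT
        iterate 8 right
        left
        exact ⟨L, hL, eq_inf_of_le hH (fun g hg => hnorm g (hHM hg).1 (hpolI g hg))
          (not_le_fieldNormalizer' Hy (by norm_num) hL)⟩
      · push Not at haniso
        obtain ⟨x, hx, hxx⟩ := haniso
        exact absurd (plus_top_of_hasTS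
          (hasTS_of_isotropic_left e P h2 hf₁.bilinear hf₂.bilinear hT hx hxx) (by rw [hn])) hminus
    · -- (3, 4)
      obtain rfl : n₂ = 4 := by omega
      by_cases hp2 : Cfsg.Geo.IsPlusTypeOn (fun v : Fin 4 → F => f₂ v v) ⊤
      · obtain ⟨U, -, hUts, hUdim⟩ := hp2
        rw [finrank_top, Module.finrank_fintype_fun_eq_card, Fintype.card_fin] at hUdim
        have hU := polarise h2 hf₂ U hUts
        have h3 := hasTS_of_isotropic_right e P h2 hf₁.bilinear hf₂.bilinear hT U hU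
        exact absurd (plus_top_of_hasTS h3 (by rw [hn]; omega)) hminus
      · have hoddq : Odd (Fintype.card F) := by
          by_contra hno
          exact h2 (two_eq_zero_of_not_odd hno)
        by_cases hq3 : Fintype.card F = 3
        · obtain ⟨D, hD, hnp, hstab⟩ := tensor3_decomp e P hq3 (by norm_num) hf₁ hf₂ hT hp2
          iterate 7 right
          left
          refine ⟨D, hD, hnp, eq_inf_of_le hH (fun g hg => hstab g (hHM hg).1 (hHM hg).2)
            (not_le_decomp' Hy hD.decomp.decomp (by norm_num))⟩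
        · iterate 10 right
          left
          exact ⟨hoddq, five_le_of_odd hoddq Fintype.one_lt_card hq3, e, P, f₁, f₂, hf₁, hf₂, hp2,
            hT, eq_inf_of_le hH (hHM.trans inf_le_left)
              (not_le_tensor Hy (le_refl 3) (by norm_num) e P)⟩
  · -- 4b tensor products of symplectic forms
    have hcard := card_of_tensor_equiv e
    rw [hn] at hcard
    have hn1 : n₁ ≤ 3 := by nlinarith
    interval_cases n₁
    · obtain rfl : n₂ = 6 := by omega
      have h3 := hasTS_of_pure_left (Q := Q) e P (single_ne_zero (F := F) (n := 2) (by norm_num))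
        (fun y => hQ0 _ y)
      exact absurd (plus_top_of_hasTS h3 (by rw [hn])) hminus
    · have := even_of_symplectic hf₁
      exact absurd this (by decide)
  · -- 5 subfields
    by_cases hoddr : Odd r
    · iterate 11 right
      left
      exact ⟨F₀, r, P, ζ, hr, hoddr, hcardF, hζ, hrat, eq_inf_of_le hH (hHM.trans inf_le_left)
        (not_le_subfield Hy F₀ (subfield_ne_top' F₀ hr hcardF) P)⟩
    · have hr2 : r = 2 := by
        rcases hr.eq_two_or_odd' with h | h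
        · exact h
        · exact absurd h hoddr
      subst hr2
      exact absurd (plus_of_subfield_two Hy.nondeg hζ hcardF hrat (m := 6) (by rw [hn])
        (by norm_num)) hminus

end Cfsg.Agent.Lib.Helper2.Oev
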