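import Mathlib
import Cfsg.Prelude
import Cfsg.Agent.Lib.Helper2.OevE
import Cfsg.Agent.Lib.Helper2.OevC

set_option autoImplicit false
set_option linter.unusedSectionVars false
set_option linter.unusedVariables false
open Cfsg

/-! Properness in `Ω(Q)` of the stabiliser of an orthogonal decomposition into at least four
non-degenerate blocks of dimension at least two, in all characteristics. -/

namespace Cfsg.Agent.Lib.Helper2.Oev

open Matrix QuadraticMap Module Cfsg.Agent.Lib.Helper5.CartanDieudonne Cfsg.Agent.Lib.Helper5.Refl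
  Cfsg.Agent.Lib.Helper5.Siegel Cfsg.Agent.Lib.Helper5.QuadIsom
  Cfsg.Agent.Lib.Helper5.ReflGen Cfsg.Agent.Lib.Helper5.Eichler Cfsg.Agent.Lib.Helper5.SingGeom
  Cfsg.Agent.Lib.Helper5.OmegaGen Cfsg.Agent.Lib.Helper5.OmegaSimple
  Cfsg.Agent.Lib.Helper5.SpSingularMax Cfsg.Agent.Lib.Helper5.OrthSingularMax
  Cfsg.Agent.Lib.Helper5.OrthDecompSiegel Cfsg.Agent.Lib.Helper2.Omx

variable {ι : Type} [Fintype ι] [DecidableEq ι] {F : Type*} [Field F] [Fintype F]
  {Q : QuadraticForm F (ι → F)} {t k : ℕ} {D : Fin t → Submodule F (ι → F)}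

/-- a Siegel transformation built from singular vectors spread over four blocks does not
stabilise the decomposition -/
theorem siegel_not_mem_stab
    (hD : Cfsg.Geo.IsNondegenerateMDecomposition (polar ⇑Q) k D) {a a' b b' : Fin t}
    (haa' : a ≠ a') (hab : a ≠ b) (hab' : a ≠ b') (hbb' : b ≠ b')
    {x x' y y' : ι → F} (hxa : x ∈ D a) (hxa' : x' ∈ D a') (hyb : y ∈ D b) (hyb' : y' ∈ D b')
    (hx : x ≠ 0) (hy : y ≠ 0) (hu : Q (x + x') = 0) (hv : Q (y + y') = 0)
    (huv : polar ⇑Q (x + x') (y + y') = 0) :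
    ((siegel Q (x + x') (y + y') hu hv huv 1 : ↥(isometryGroup F ⇑Q)) :
      Matrix.GeneralLinearGroup ι F) ∉ Cfsg.Geo.decompositionStabilizer D := by
  rintro ⟨σ, hσ⟩
  have hnd := fun i => nd_of_nondegOn (Q := Q) (hD.nondegenerate i)
  have horth : ∀ {i j : Fin t}, i ≠ j → Orth Q (D i) (D j) := fun hij => hD.orthogonal _ _ hij
  -- a vector `w` of the block `a` not orthogonal to `x`
  obtain ⟨w, hw, hxw⟩ : ∃ w ∈ D a, polar ⇑Q x w ≠ 0 := by
    by_contra hcon
    push Not at hcon
    exact hx (hnd a x hxa hcon)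
  have hρw : (((siegel Q (x + x') (y + y') hu hv huv 1 : ↥(isometryGroup F ⇑Q)) :
      Matrix.GeneralLinearGroup ι F) : Matrix ι ι F) *ᵥ w = w + polar ⇑Q x w • (y + y') := by
    rw [siegel_coe, siegelMatrix_mulVec, one_mul, one_mul, polar_add_left, polar_add_left,
      horth haa'.symm x' hxa' w hw, add_zero, horth hab.symm y hyb w hw,
      horth hab'.symm y' hyb' w hw, add_zero, zero_smul, sub_zero]
  have hmem : w + polar ⇑Q x w • (y + y') ∈ D (σ a) := by
    rw [← hρw, ← hσ a]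
    exact ⟨w, hw, by rw [Matrix.toLin'_apply]⟩
  by_cases hj : σ a = a
  · -- pair with the block `b`
    rw [hj] at hmem
    apply hy
    apply hnd b y hyb
    intro y₁ hy₁
    have h1 := horth hab _ hmem y₁ hy₁
    rw [polar_add_left, horth hab w hw y₁ hy₁, zero_add, polar_smul_left, polar_add_left,
      horth hbb'.symm y' hyb' y₁ hy₁, add_zero, smul_eq_mul] at h1
    rcases mul_eq_zero.1 h1 with h | h
    · exact absurd h hxw
    · exact h
  · -- pair with the block `a`
    apply hxw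
    have hw0 : w = 0 := by
      apply hnd a w hw
      intro w' hw'
      have h1 := horth hj _ hmem w' hw'
      rw [polar_add_left, polar_smul_left, polar_add_left, horth hab.symm y hyb w' hw',
        horth hab'.symm y' hyb' w' hw', add_zero, smul_zero, add_zero] at h1
      exact h1
    rw [hw0, polar_zero_right]

/-- the sum of two orthogonal non-degenerate blocks contains a non-zero singular vector -/
theorem exists_singular_two_blocks
    (hD : Cfsg.Geo.IsNondegenerateMDecomposition (polar ⇑Q) k D) (hk : 2 ≤ k) {a a' : Fin t}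
    (haa' : a ≠ a') :
    ∃ x ∈ D a, ∃ x' ∈ D a', (x ≠ 0 ∨ x' ≠ 0) ∧ Q (x + x') = 0 := by
  have hnd := nd_of_nondegOn (Q := Q) (hD.nondegenerate a)
  have hdis : Disjoint (D a) (D a') := disjoint_of_orth hnd (hD.orthogonal _ _ haa')
  have hfin : 3 ≤ finrank F ↥(D a ⊔ D a') := by
    have h1 := Submodule.finrank_sup_add_finrank_inf_eq (D a) (D a')
    rw [hdis.eq_bot, finrank_bot, add_zero, hD.decomp.finrank_eq, hD.decomp.finrank_eq] at h1
    omega
  obtain ⟨u, huW, hu0, hQu⟩ := exists_singular_in (Q := Q) (D a ⊔ D a') hfin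
  obtain ⟨x, hx, x', hx', rfl⟩ := Submodule.mem_sup.1 huW
  refine ⟨x, hx, x', hx', ?_, hQu⟩
  by_contra hcon
  push Not at hcon
  apply hu0
  rw [hcon.1, hcon.2, add_zero]

/-- `Ω` does not stabilise an orthogonal decomposition into at least four non-degenerate blocks of
dimension at least two (all characteristics) -/
theorem not_le_decomp_four (H : Hyp Q)
    (hD : Cfsg.Geo.IsNondegenerateMDecomposition (polar ⇑Q) k D) (hk : 2 ≤ k) (ht : 4 ≤ t) :
    ¬ Cfsg.Geo.omegaGL ⇑Q ≤ Cfsg.Geo.decompositionStabilizer D := by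
  intro hle
  obtain ⟨i0, hi0⟩ : ∃ i : Fin t, i.val = 0 := ⟨⟨0, by omega⟩, rfl⟩
  obtain ⟨i1, hi1⟩ : ∃ i : Fin t, i.val = 1 := ⟨⟨1, by omega⟩, rfl⟩
  obtain ⟨i2, hi2⟩ : ∃ i : Fin t, i.val = 2 := ⟨⟨2, by omega⟩, rfl⟩
  obtain ⟨i3, hi3⟩ : ∃ i : Fin t, i.val = 3 := ⟨⟨3, by omega⟩, rfl⟩
  have hne : ∀ {i j : Fin t}, i.val ≠ j.val → i ≠ j := fun h h' => h (congrArg Fin.val h')
  have h03 : i0 ≠ i3 := hne (by omega)
  have h01 : i0 ≠ i1 := hne (by omega)
  have h02 : i0 ≠ i2 := hne (by omega)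
  have h12 : i1 ≠ i2 := hne (by omega)
  have h31 : i3 ≠ i1 := hne (by omega)
  have h32 : i3 ≠ i2 := hne (by omega)
  have horth : ∀ {i j : Fin t}, i ≠ j → Orth Q (D i) (D j) := fun hij => hD.orthogonal _ _ hij
  obtain ⟨x, hx, x', hx', hxne, hQu⟩ := exists_singular_two_blocks hD hk h03
  obtain ⟨y, hy, y', hy', hyne, hQv⟩ := exists_singular_two_blocks hD hk h12
  have huv : polar ⇑Q (x + x') (y + y') = 0 := by
    rw [polar_add_left, polar_add_right, polar_add_right, horth h01 x hx y hy,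
      horth h02 x hx y' hy', horth h31 x' hx' y hy, horth h32 x' hx' y' hy']
    ring
  have hmem := hle (siegel_mem_omegaGL H (x + x') (y + y') hQu hQv huv 1)
  -- the four cases
  rcases hxne with hx0 | hx0 <;> rcases hyne with hy0 | hy0
  · exact siegel_not_mem_stab hD h03 h01 h02 h12 hx hx' hy hy' hx0 hy0 hQu hQv huv hmem
  · have hQv' : Q (y' + y) = 0 := by rw [add_comm]; exact hQv
    have huv' : polar ⇑Q (x + x') (y' + y) = 0 := by rw [add_comm y' y]; exact huv
    have hmem' : ((siegel Q (x + x') (y' + y) hQu hQv' huv' 1 : ↥(isometryGroup F ⇑Q)) :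
        Matrix.GeneralLinearGroup ι F) ∈ Cfsg.Geo.decompositionStabilizer D :=
      hle (siegel_mem_omegaGL H (x + x') (y' + y) hQu hQv' huv' 1)
    exact siegel_not_mem_stab hD h03 h02 h01 h12.symm hx hx' hy' hy hx0 hy0 hQu hQv' huv' hmem'
  · have hQu' : Q (x' + x) = 0 := by rw [add_comm]; exact hQu
    have huv' : polar ⇑Q (x' + x) (y + y') = 0 := by rw [add_comm x' x]; exact huv
    have hmem' : ((siegel Q (x' + x) (y + y') hQu' hQv huv' 1 : ↥(isometryGroup F ⇑Q)) :
        Matrix.GeneralLinearGroup ι F) ∈ Cfsg.Geo.decompositionStabilizer D :=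
      hle (siegel_mem_omegaGL H (x' + x) (y + y') hQu' hQv huv' 1)
    exact siegel_not_mem_stab hD h03.symm h31 h32 h12 hx' hx hy hy' hx0 hy0 hQu' hQv huv' hmem'
  · have hQu' : Q (x' + x) = 0 := by rw [add_comm]; exact hQu
    have hQv' : Q (y' + y) = 0 := by rw [add_comm]; exact hQv
    have huv' : polar ⇑Q (x' + x) (y' + y) = 0 := by rw [add_comm x' x, add_comm y' y]; exact huv
    have hmem' : ((siegel Q (x' + x) (y' + y) hQu' hQv' huv' 1 : ↥(isometryGroup F ⇑Q)) :
        Matrix.GeneralLinearGroup ι F) ∈ Cfsg.Geo.decompositionStabilizer D :=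
      hle (siegel_mem_omegaGL H (x' + x) (y' + y) hQu' hQv' huv' 1)
    exact siegel_not_mem_stab hD h03.symm h32 h31 h12.symm hx' hx hy' hy hx0 hy0 hQu' hQv' huv'
      hmem'

/-- properness of orthogonal decompositions into blocks of dimension at least two, in the two
cases that cover all dimensions at least eight -/
theorem not_le_decomp_nd (H : Hyp Q)
    (hD : Cfsg.Geo.IsNondegenerateMDecomposition (polar ⇑Q) k D) (hk : 2 ≤ k)
    (h : 3 ≤ k ∨ 4 ≤ t) : ¬ Cfsg.Geo.omegaGL ⇑Q ≤ Cfsg.Geo.decompositionStabilizer D := by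
  rcases h with h | h
  · exact not_le_decomp' H hD.decomp h
  · exact not_le_decomp_four H hD hk h

end Cfsg.Agent.Lib.Helper2.Oev
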