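import Mathlib
import Cfsg.Prelude
import Cfsg.Agent.Lib.Helper5.OrthDecompPlanes
import Cfsg.Agent.Lib.Helper2.OevR

set_option autoImplicit false
set_option linter.unusedSectionVars false
set_option linter.unusedVariables false
open Cfsg

/-! Non-maximality tools for the plus-type case: a variant of helper5's
`OrthDecompPlanes.not_maximal_plane_le3` needing only six blocks, and the contradiction
with maximality. -/

namespace Cfsg.Agent.Lib.Helper2.Oev

open Matrix QuadraticMap Module Cfsg.Agent.Lib.Helper5.CartanDieudonne Cfsg.Agent.Lib.Helper5.Refl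
  Cfsg.Agent.Lib.Helper5.Siegel Cfsg.Agent.Lib.Helper5.QuadIsom
  Cfsg.Agent.Lib.Helper5.ReflGen Cfsg.Agent.Lib.Helper5.OmegaSimple
  Cfsg.Agent.Lib.Helper5.SpSingularMax Cfsg.Agent.Lib.Helper5.OrthSingularMax
  Cfsg.Agent.Lib.Helper5.SpinorNorm Cfsg.Agent.Lib.Helper5.OrthFrameThree
  Cfsg.Agent.Lib.Helper5.OrthDecompSiegel Cfsg.Agent.Lib.Helper5.OrthDecompPlanes

section trick
variable {G : Type*} [Group G]

/-- a maximal subgroup is not contained in a non-maximal proper subgroup -/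
theorem absurd_of_not_maximal {S H X : Subgroup G} (hH : Cfsg.Geo.IsMaximalIn S H)
    (hle : H ≤ X) (h : ∃ K : Subgroup G, X ⊓ S < K ∧ K < S) : False := by
  obtain ⟨K, h1, h2⟩ := h
  have hHX : H ≤ X ⊓ S := le_inf hle hH.1.le
  rcases hH.2 K (hHX.trans h1.le) h2.le with h3 | h3
  · rw [h3] at h1
    exact absurd hHX (not_le_of_gt h1)
  · exact absurd h3 (ne_of_lt h2)

end trick

variable {ι : Type} [Fintype ι] [DecidableEq ι] {F : Type*} [Field F] [Fintype F]
  {Q : QuadraticForm F (ι → F)} {t k : ℕ} {D : Fin t → Submodule F (ι → F)}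

/-- hyperbolic planes over a field with at most three elements -/
theorem not_maximal_plane_le3_six (H : Hyp Q) (hq : Fintype.card F ≤ 3)
    (hD : Cfsg.Geo.IsNondegenerateMDecomposition (polar ⇑Q) 2 D) (ht : 6 ≤ t)
    (hsing : ∀ i, ∃ e ∈ D i, e ≠ 0 ∧ Q e = 0) :
    ∃ K : Subgroup (Matrix.GeneralLinearGroup ι F),
      Cfsg.Geo.decompositionStabilizer D ⊓ Cfsg.Geo.omegaGL ⇑Q < K ∧
        K < Cfsg.Geo.omegaGL ⇑Q := by
  have hdata := fun i => block_data_le3 hq (D i) (hD.decomp.finrank_eq i) (hD.nondegenerate i)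
    (hsing i)
  choose w₀ s e hw₀ hs he hQw₀ hQs hQe he0 hes hP using hdata
  have hq1 : 1 < Fintype.card F := Fintype.one_lt_card
  obtain ⟨q, hqdef⟩ : ∃ q, q = Fintype.card F := ⟨_, rfl⟩
  have hq3 : q ≤ 3 := by omega
  have hq0 : (q : F) = 0 := by rw [hqdef]; exact Nat.cast_card_eq_zero F
  -- the two index maps
  let σ : Fin q → Fin t := fun a => ⟨a.val, by omega⟩
  let τ : Fin q → Fin t := fun a => ⟨q + a.val, by omega⟩
  have hσ : Function.Injective σ := fun a b h => Fin.ext (by simpa [σ] using h)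
  have hτ : Function.Injective τ := fun a b h => Fin.ext (by simpa [τ] using h)
  have hστ : ∀ a b, σ a ≠ τ b := by
    intro a b h
    have := congrArg Fin.val h
    simp only [σ, τ] at this
    omega
  have horth : ∀ i j, i ≠ j → polar ⇑Q (w₀ i) (w₀ j) = 0 :=
    fun i j hij => orth' hD hij (hw₀ i) (hw₀ j)
  obtain ⟨u, hudef⟩ : ∃ u, u = ∑ a : Fin q, w₀ (σ a) := ⟨_, rfl⟩
  obtain ⟨v, hvdef⟩ : ∃ v, v = ∑ a : Fin q, w₀ (τ a) := ⟨_, rfl⟩
  have hQu : Q u = 0 := by
    rw [hudef, quad_fsum _ _ (fun a _ b _ hab => horth _ _ (fun h => hab (hσ h)))]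
    simp only [hQw₀, Finset.sum_const, Finset.card_univ, Fintype.card_fin, nsmul_eq_mul, mul_neg,
      mul_one, hq0, neg_zero]
  have hQv : Q v = 0 := by
    rw [hvdef, quad_fsum _ _ (fun a _ b _ hab => horth _ _ (fun h => hab (hτ h)))]
    simp only [hQw₀, Finset.sum_const, Finset.card_univ, Fintype.card_fin, nsmul_eq_mul, mul_neg,
      mul_one, hq0, neg_zero]
  have huv : polar ⇑Q u v = 0 := by
    rw [hudef, hvdef, polar_fsum_left]
    refine Finset.sum_eq_zero fun a _ => ?_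
    rw [polar_fsum_right]
    exact Finset.sum_eq_zero fun b _ => horth _ _ (hστ a b)
  have hfix : ∀ w ∈ S Q D (1 : F), polar ⇑Q u w = 0 ∧ polar ⇑Q v w = 0 := by
    intro w hw
    constructor
    · rw [hudef, polar_fsum_left]
      exact Finset.sum_eq_zero fun a _ => perp_S hD (hw₀ _) (hP _) w hw
    · rw [hvdef, polar_fsum_left]
      exact Finset.sum_eq_zero fun a _ => perp_S hD (hw₀ _) (hP _) w hw
  have hq_pos : 0 < q := by omega
  have hw₀0 : ∀ i, w₀ i ≠ 0 := by
    intro i h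
    have := hQw₀ i
    rw [h, map_zero] at this
    exact one_ne_zero (neg_eq_zero.mp this.symm)
  -- a vector of the first block not orthogonal to `u`
  obtain ⟨y, hy, hwy⟩ := (hD.nondegenerate _ (w₀ (σ ⟨0, hq_pos⟩)) (hw₀ _) (hw₀0 _)).2
  have huy : polar ⇑Q u y ≠ 0 := by
    rw [hudef, polar_fsum_left, Finset.sum_eq_single (⟨0, hq_pos⟩ : Fin q)]
    · exact hwy
    · intro b _ hb
      exact orth' hD (fun h => hb (hσ h)) (hw₀ _) hy
    · intro h
      exact absurd (Finset.mem_univ _) h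
  have hy0 : y ≠ 0 := by
    rintro rfl
    exact hwy (polar_zero_right Q _)
  have hvy : ∀ y' ∈ D (σ ⟨0, hq_pos⟩), polar ⇑Q v y' = 0 := by
    intro y' hy'
    rw [hvdef, polar_fsum_left]
    exact Finset.sum_eq_zero fun b _ => orth' hD (fun h => hστ _ _ h.symm) (hw₀ _) hy'
  have hv0 : v ≠ 0 := by
    intro hv0
    obtain ⟨y₂, hy₂, hwy₂⟩ := (hD.nondegenerate _ (w₀ (τ ⟨0, hq_pos⟩)) (hw₀ _) (hw₀0 _)).2
    apply hwy₂
    have h1 : polar ⇑Q v y₂ = 0 := by rw [hv0]; exact polar_zero_left Q _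
    rw [hvdef, polar_fsum_left, Finset.sum_eq_single (⟨0, hq_pos⟩ : Fin q)] at h1
    · exact h1
    · intro b _ hb
      exact orth' hD (fun h => hb (hτ h)) (hw₀ _) hy₂
    · intro h
      exact absurd (Finset.mem_univ _) h
  have h01 : (⟨0, by omega⟩ : Fin t) ≠ ⟨1, by omega⟩ := by simp [Fin.ext_iff]
  exact not_maximal_of_siegel hD H one_ne_zero hQu hQv huv hfix hy hy0 huy hvy hv0 h01
    (he _) (hQe _) (he _) (hQe _) (he0 _) (hs _) (hQs _) (hes _)

end Cfsg.Agent.Lib.Helper2.Oev
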