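import Mathlib
import Cfsg.Prelude
import Cfsg.Agent.Lib.Helper1.TsA14

/-!
# Maximality of `Sp ⊗ Sp` in `Ω⁺`, dimension at least twelve

helper1's `TsA.main_tensor` with the hypothesis `13 ≤ n` weakened to `12 ≤ n` (the proof is
unchanged), and the resulting properness statement.
-/

set_option autoImplicit false
set_option maxHeartbeats 4000000
set_option linter.unusedSimpArgs false
set_option linter.unusedVariables false
set_option linter.unusedSectionVars false

namespace Cfsg.Agent.Lib.Helper2.Oev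

open Module QuadraticMap Matrix
open Cfsg
open Cfsg.Agent.Lib.Helper5.CartanDieudonne Cfsg.Agent.Lib.Helper5.OrthSingularMax
  Cfsg.Agent.Lib.Helper5.OrthCard Cfsg.Agent.Lib.Helper5.OrthBridge
  Cfsg.Agent.Lib.Helper5.OmegaSimple
open Cfsg.Agent.Lib.Helper5.TensorSub Cfsg.Agent.Lib.Helper5.TensorFormSub
open Cfsg.Agent.Lib.Helper1.TsA

variable {F : Type*} [Field F]

/-- **Maximality of the stabiliser of a symplectic tensor decomposition in `Ω⁺`** -/
theorem main_tensor_twelve [Fintype F] {n : ℕ} (hn : 12 ≤ n) (Q : (Fin n → F) → F)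
    (hQ : Cfsg.Geo.IsNondegenerateQuadraticForm Q) (n₁ n₂ : ℕ) (h12 : n₁ < n₂)
    (hex : ¬ (Fintype.card F = 2 ∧ n₁ = 2)) (e : (Fin n) ≃ Fin n₁ × Fin n₂)
    (P : Matrix.GeneralLinearGroup (Fin n) F) (f₁ : (Fin n₁ → F) → (Fin n₁ → F) → F)
    (f₂ : (Fin n₂ → F) → (Fin n₂ → F) → F) (hf₁ : Cfsg.Geo.IsSymplecticForm f₁)
    (hf₂ : Cfsg.Geo.IsSymplecticForm f₂)
    (hT : Cfsg.Geo.IsTensorFormStructure id (QuadraticMap.polar Q) f₁ f₂ e P)
    (hpure : ∀ (x₁ : Fin n₁ → F) (x₂ : Fin n₂ → F),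
      Q (Matrix.mulVec (P : Matrix (Fin n) (Fin n) F)
        ((fun a : Fin n₁ × Fin n₂ => x₁ a.1 * x₂ a.2) ∘ e)) = 0) :
    Cfsg.Geo.IsMaximalIn (Cfsg.Geo.omegaGL Q)
      (Cfsg.Geo.tensorProductSubgroup n₁ n₂ e P ⊓ Cfsg.Geo.omegaGL Q) := by
  obtain ⟨c, hc0, hc⟩ := hT
  -- the forms
  obtain ⟨B₁, hB₁⟩ : ∃ B₁ : LinearMap.BilinForm F (Fin n₁ → F),
      B₁ = c • bilinOf f₁ hf₁.bilinear := ⟨_, rfl⟩
  obtain ⟨B₂, hB₂⟩ : ∃ B₂ : LinearMap.BilinForm F (Fin n₂ → F),
      B₂ = bilinOf f₂ hf₂.bilinear := ⟨_, rfl⟩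
  have hB₁a : ∀ x y, B₁ x y = c * f₁ x y := by
    intro x y
    rw [hB₁]
    rfl
  have hB₂a : ∀ x y, B₂ x y = f₂ x y := by
    intro x y
    rw [hB₂]
    rfl
  have halt₁ : B₁.IsAlt := by
    intro x
    rw [hB₁a, hf₁.alternating, mul_zero]
  have halt₂ : B₂.IsAlt := by
    rw [hB₂]
    exact bilinOf_alt f₂ hf₂
  have hnd₂ : B₂.Nondegenerate := by
    rw [hB₂]
    exact bilinOf_nondeg f₂ hf₂
  have hnd₁ : B₁.Nondegenerate := by
    have h0 := bilinOf_nondeg f₁ hf₁
    constructor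
    · intro x hx
      apply h0.1
      intro y
      have := hx y
      rw [hB₁a] at this
      rcases mul_eq_zero.mp this with h | h
      · exact absurd h hc0
      · exact h
    · intro x hx
      apply h0.2
      intro y
      have := hx y
      rw [hB₁a] at this
      rcases mul_eq_zero.mp this with h | h
      · exact absurd h hc0
      · exact h
  -- the dimensions
  have hev₁ : Even n₁ := by
    have := even_finrank_of_alt_nondeg B₁ halt₁ hnd₁
    rwa [finrank_fintype_fun_eq_card, Fintype.card_fin] at this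
  have hev₂ : Even n₂ := by
    have := even_finrank_of_alt_nondeg B₂ halt₂ hnd₂
    rwa [finrank_fintype_fun_eq_card, Fintype.card_fin] at this
  have hcard : n = n₁ * n₂ := by
    have := Fintype.card_congr e
    rwa [Fintype.card_fin, Fintype.card_prod, Fintype.card_fin, Fintype.card_fin] at this
  obtain ⟨a, ha⟩ := hev₁
  obtain ⟨b, hb⟩ := hev₂
  have ha1 : 1 ≤ a := by
    by_contra h
    have : a = 0 := by omega
    rw [ha, this] at hcard
    omega
  have hb3 : 3 ≤ b := by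
    by_contra h
    have hb2 : b ≤ 2 := by omega
    have ha2 : a ≤ 1 := by omega
    have : n₁ * n₂ ≤ 2 * 4 := Nat.mul_le_mul (by omega) (by omega)
    omega
  have hI : 2 ≤ Fintype.card (Fin n₁) := by
    rw [Fintype.card_fin]
    omega
  have hJ : 6 ≤ Fintype.card (Fin n₂) := by
    rw [Fintype.card_fin]
    omega
  have hIJ : Fintype.card (Fin n₁) + 2 ≤ Fintype.card (Fin n₂) := by
    rw [Fintype.card_fin, Fintype.card_fin]
    omega
  have hex' : 3 ≤ Fintype.card (Fin n₁) ∨ ∃ s : F, s ≠ 0 ∧ s ≠ 1 := by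
    rw [Fintype.card_fin]
    by_cases h2 : n₁ = 2
    · right
      have hF2 : Fintype.card F ≠ 2 := fun h => hex ⟨h, h2⟩
      have hF1 : 1 < Fintype.card F := Fintype.one_lt_card
      have hF3 : 2 < Fintype.card F := by omega
      obtain ⟨x, y, z, hxy, hxz, hyz⟩ := Fintype.two_lt_card_iff.mp hF3
      by_cases hx0 : x = 0
      · by_cases hy1 : y = 1
        · refine ⟨z, ?_, ?_⟩
          · rw [← hx0]
            exact Ne.symm hxz
          · rw [← hy1]
            exact Ne.symm hyz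
        · refine ⟨y, ?_, hy1⟩
          rw [← hx0]
          exact Ne.symm hxy
      · by_cases hx1 : x = 1
        · by_cases hy0 : y = 0
          · refine ⟨z, ?_, ?_⟩
            · rw [← hy0]
              exact Ne.symm hyz
            · rw [← hx1]
              exact Ne.symm hxz
          · refine ⟨y, hy0, ?_⟩
            rw [← hx1]
            exact Ne.symm hxy
        · exact ⟨x, hx0, hx1⟩
    · left
      omega
  -- the quadratic form in coordinates
  obtain ⟨Q₀, hQ₀⟩ : ∃ Q₀ : QuadraticForm F (Fin n₁ × Fin n₂ → F),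
      Q₀ = (toQF Q hQ).comp (embL e P) := ⟨_, rfl⟩
  have hQ₀a : ∀ v, Q₀ v = Q (emb e P v) := by
    intro v
    rw [hQ₀]
    rfl
  have hQ₀f : ⇑Q₀ = fun v : Fin n₁ × Fin n₂ → F => Q (emb e P v) := funext hQ₀a
  have hpol : ∀ v v', polar ⇑Q₀ v v' = polar Q (emb e P v) (emb e P v') := by
    intro v v'
    unfold QuadraticMap.polar
    rw [hQ₀a, hQ₀a, hQ₀a, emb_add]
  have hCT : CT Q₀ B₁ B₂ := by
    refine ⟨halt₁, halt₂, hnd₁, hnd₂, ?_, ?_⟩
    · intro u u' w w'
      rw [hpol, hB₁a, hB₂a]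
      have := form_pt (f := QuadraticMap.polar Q) (e := e) (P := P) hf₁.bilinear hf₂.bilinear hc
        u u' w w'
      rw [mul_assoc]
      exact this
    · intro u w
      rw [hQ₀a]
      exact hpure u w
  have hQ₀nd : (polarBilin Q₀).Nondegenerate := by
    have h0 := toQF_nondegenerate Q hQ
    constructor
    · intro x hx
      apply emb_eq_zero (e := e) (P := P)
      apply h0.1
      intro y
      obtain ⟨y', rfl⟩ := emb_surjective e P y
      have := hx y'
      rw [polarBilin_apply_apply, hpol] at this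
      exact this
    · intro x hx
      apply emb_eq_zero (e := e) (P := P)
      apply h0.2
      intro y
      obtain ⟨y', rfl⟩ := emb_surjective e P y
      have := hx y'
      rw [polarBilin_apply_apply, hpol] at this
      exact this
  have hHy : Hyp Q₀ := hyp_of_nondeg hQ₀nd (by
    rw [Fintype.card_prod, Fintype.card_fin, Fintype.card_fin, ← hcard]
    omega)
  have hcore := core hCT hHy hex' hI hJ hIJ
  have hmap := Cfsg.Agent.Lib.Helper8.Tns.isMaximalIn_map (Phi e P) hcore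
  rw [Subgroup.map_inf _ _ _ (Phi e P).injective, hQ₀f, omegaGL_map_Phi,
    ← Cfsg.Agent.Lib.Helper8.Tns.kroneckerSubgroup_eq, ← tensor_eq] at hmap
  exact hmap

/-- properness of a symplectic tensor decomposition stabiliser in dimension twelve -/
theorem not_le_tensor_symplectic [Fintype F] {n : ℕ} (hn : 12 ≤ n) (Q : (Fin n → F) → F)
    (hQ : Cfsg.Geo.IsNondegenerateQuadraticForm Q) (n₁ n₂ : ℕ) (h12 : n₁ < n₂)
    (hex : ¬ (Fintype.card F = 2 ∧ n₁ = 2)) (e : (Fin n) ≃ Fin n₁ × Fin n₂)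
    (P : Matrix.GeneralLinearGroup (Fin n) F) (f₁ : (Fin n₁ → F) → (Fin n₁ → F) → F)
    (f₂ : (Fin n₂ → F) → (Fin n₂ → F) → F) (hf₁ : Cfsg.Geo.IsSymplecticForm f₁)
    (hf₂ : Cfsg.Geo.IsSymplecticForm f₂)
    (hT : Cfsg.Geo.IsTensorFormStructure id (QuadraticMap.polar Q) f₁ f₂ e P)
    (hpure : ∀ (x₁ : Fin n₁ → F) (x₂ : Fin n₂ → F),
      Q (Matrix.mulVec (P : Matrix (Fin n) (Fin n) F)
        ((fun a : Fin n₁ × Fin n₂ => x₁ a.1 * x₂ a.2) ∘ e)) = 0) :
    ¬ Cfsg.Geo.omegaGL Q ≤ Cfsg.Geo.tensorProductSubgroup n₁ n₂ e P := by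
  intro hle
  have h := (main_tensor_twelve hn Q hQ n₁ n₂ h12 hex e P f₁ f₂ hf₁ hf₂ hT hpure).1
  rw [inf_eq_right.mpr hle] at h
  exact lt_irrefl _ h

end Cfsg.Agent.Lib.Helper2.Oev
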