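import Mathlib
import Cfsg.Prelude
import Cfsg.Agent.Lib.Helper5.MaxTS
import Cfsg.Agent.Lib.Helper2.OevP

set_option autoImplicit false
set_option linter.unusedSectionVars false
set_option linter.unusedVariables false
open Cfsg

/-! Types of orthogonal sums: if a hyperbolic space is the orthogonal sum of a part containing a
totally singular subspace of half its dimension and a complement, the complement is hyperbolic
too. -/

namespace Cfsg.Agent.Lib.Helper2.Oev

open QuadraticMap Module Cfsg.Agent.Lib.Helper5.MaxTS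

section abstract

variable {F V : Type*} [Field F] [AddCommGroup V] [Module F V] [FiniteDimensional F V]

/-- In a hyperbolic space of dimension `2m`, a totally singular subspace `T` and a subspace `B`
orthogonal to `T`, meeting it trivially, with `T ⊕ B = T^⊥`: then `B` contains a totally
singular subspace of dimension `m - dim T`. -/
theorem exists_ts_inf (Q : QuadraticForm F V) (hQ : (polarBilin Q).Nondegenerate) (m : ℕ)
    (hV : finrank F V = 2 * m) (U : Submodule F V) (hU : IsMaxTS Q m U)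
    (T : Submodule F V) (hT : ∀ t ∈ T, Q t = 0) (B : Submodule F V) (hTB : B ≤ orth Q T)
    (hdisj : Disjoint T B) (hdim : finrank F T + finrank F B + finrank F T = 2 * m) :
    ∃ U' : Submodule F V, U' ≤ B ∧ (∀ u ∈ U', Q u = 0) ∧ finrank F U' + finrank F T = m := by
  have hTle : T ≤ orth Q T := le_orth_of_ts Q T hT
  obtain ⟨U₁, hU₁⟩ : ∃ U₁, U₁ = (U ⊓ orth Q T) ⊔ T := ⟨_, rfl⟩
  have hU₁ts : ∀ u ∈ U₁, Q u = 0 := by
    intro u hu
    rw [hU₁] at hu
    obtain ⟨a, ha, t, ht, rfl⟩ := Submodule.mem_sup.mp hu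
    have h1 : polar Q t a = 0 := (mem_orth Q T a).mp ha.2 t ht
    have h2 : Q (a + t) = Q a + Q t + polar Q a t := by
      unfold polar
      ring
    rw [h2, hU.2 a ha.1, hT t ht, polar_comm, h1]
    ring
  have hTU₁ : T ≤ U₁ := by rw [hU₁]; exact le_sup_right
  -- the dimension of `U₁`
  have e1 : orth Q (U ⊔ T) = U ⊓ orth Q T := by
    rw [orth_sup, orth_eq_of_max Q hQ m hV U hU]
  have h1 : finrank F ↥(U ⊓ orth Q T) = finrank F V - finrank F ↥(U ⊔ T) := by
    rw [← e1]
    exact finrank_orth Q hQ (U ⊔ T)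
  have h2 : finrank F ↥(U ⊔ T) + finrank F ↥(U ⊓ T) = finrank F U + finrank F T :=
    Submodule.finrank_sup_add_finrank_inf_eq U T
  have h3 : finrank F ↥((U ⊓ orth Q T) ⊔ T) + finrank F ↥((U ⊓ orth Q T) ⊓ T) =
      finrank F ↥(U ⊓ orth Q T) + finrank F T :=
    Submodule.finrank_sup_add_finrank_inf_eq _ _
  have h4 : (U ⊓ orth Q T) ⊓ T = U ⊓ T := by
    rw [inf_assoc, inf_eq_right.mpr hTle]
  rw [h4, ← hU₁] at h3
  have h5 : finrank F ↥(U ⊔ T) ≤ finrank F V := Submodule.finrank_le _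
  have h6 : finrank F ↥(U ⊓ T) ≤ finrank F T := Submodule.finrank_mono inf_le_right
  have hU₁dim : finrank F U₁ = m := by
    have := hU.1
    omega
  -- `T^⊥ = T ⊕ B`
  have h7 : finrank F ↥(T ⊔ B) + finrank F ↥(T ⊓ B) = finrank F T + finrank F B :=
    Submodule.finrank_sup_add_finrank_inf_eq T B
  rw [hdisj.eq_bot, finrank_bot, add_zero] at h7
  have h8 : finrank F ↥(orth Q T) = finrank F V - finrank F T := finrank_orth Q hQ T
  have horth : T ⊔ B = orth Q T := by
    apply Submodule.eq_of_le_of_finrank_eq (sup_le hTle hTB)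
    omega
  have hU₁le : U₁ ≤ T ⊔ B := by
    rw [horth, hU₁]
    exact sup_le inf_le_right hTle
  -- the modular law
  have h9 : U₁ = T ⊔ B ⊓ U₁ := by
    rw [← sup_inf_assoc_of_le B hTU₁]
    exact (inf_eq_right.mpr hU₁le).symm
  have h10 : finrank F ↥(T ⊔ B ⊓ U₁) + finrank F ↥(T ⊓ (B ⊓ U₁)) =
      finrank F T + finrank F ↥(B ⊓ U₁) := Submodule.finrank_sup_add_finrank_inf_eq _ _
  have h11 : T ⊓ (B ⊓ U₁) = ⊥ := by
    rw [← inf_assoc, hdisj.eq_bot, bot_inf_eq]
  rw [h11, finrank_bot, add_zero, ← h9] at h10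
  refine ⟨B ⊓ U₁, inf_le_left, fun u hu => hU₁ts u hu.2, ?_⟩
  omega

end abstract

variable {ι : Type} [Fintype ι] [DecidableEq ι] {F : Type*} [Field F]
  {Q : QuadraticForm F (ι → F)}

/-- the complement of a hyperbolic part of a hyperbolic space is hyperbolic -/
theorem hasTS_compl (hQ : (polarBilin Q).Nondegenerate) (hplus : Cfsg.Geo.IsPlusTypeOn ⇑Q ⊤)
    {Y B : Submodule F (ι → F)} {y b : ℕ} (hY : HasTS Q Y y) (horth : Orth Q Y B)
    (hdisj : Disjoint Y B) (hB : finrank F B = 2 * b)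
    (hcard : Fintype.card ι = 2 * y + 2 * b) : HasTS Q B b := by
  obtain ⟨T, hTY, hTts, hTd⟩ := hY
  obtain ⟨U, -, hUts, hUd⟩ := hplus
  rw [finrank_top, Module.finrank_fintype_fun_eq_card, hcard] at hUd
  have hV : finrank F (ι → F) = 2 * (y + b) := by
    rw [Module.finrank_fintype_fun_eq_card, hcard]
    ring
  have hU : IsMaxTS Q (y + b) U := ⟨by omega, hUts⟩
  obtain ⟨U', hU'B, hU'ts, hU'd⟩ := exists_ts_inf Q hQ (y + b) hV U hU T hTts B
    (fun x hx => (mem_orth Q T x).mpr (fun t ht => horth t (hTY ht) x hx))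
    (hdisj.mono_left hTY) (by rw [hTd, hB]; ring)
  exact ⟨U', hU'B, hU'ts, by omega⟩

end Cfsg.Agent.Lib.Helper2.Oev
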