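import Mathlib
import Cfsg.Prelude
import Cfsg.Agent.Lib.Helper2.OevU
import Cfsg.Agent.Lib.Helper2.OevS

set_option autoImplicit false
set_option linter.unusedSectionVars false
set_option linter.unusedVariables false
open Cfsg

/-! Small lemmas for the plus-type rows: types of isometric blocks, three blocks of even
dimension in a hyperbolic space, planes. -/

namespace Cfsg.Agent.Lib.Helper2.Oev

open Matrix QuadraticMap Module

variable {ι : Type} [Fintype ι] [DecidableEq ι] {F : Type*} [Field F]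
  {Q : QuadraticForm F (ι → F)}

theorem plus_of_isometric {W W' : Submodule F (ι → F)}
    (h : Cfsg.Geo.AreIsometricFor ⇑Q W W') (hp : Cfsg.Geo.IsPlusTypeOn ⇑Q W) :
    Cfsg.Geo.IsPlusTypeOn ⇑Q W' := by
  have hd : finrank F W = finrank F W' := by
    obtain ⟨e, -⟩ := h
    exact e.finrank_eq
  have h1 := hasTS_of_isometric h (hasTS_of_plus hp)
  refine plus_of_hasTS h1 ?_
  obtain ⟨U, -, -, hU⟩ := hp
  omega

/-- the bundled form satisfies the unbundled non-degeneracy predicate -/
theorem isNondegQF_of (Q : QuadraticForm F (ι → F)) (hQ : (polarBilin Q).Nondegenerate) :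
    Cfsg.Geo.IsNondegenerateQuadraticForm ⇑Q where
  smul c v := by rw [QuadraticMap.map_smul, smul_eq_mul, pow_two]
  polar_bilinear :=
    { add_left := fun x y v => polar_add_left Q x y v
      smul_left := fun c x v => by rw [polar_smul_left, smul_eq_mul]
      add_right := fun v x y => polar_add_right Q v x y
      smul_right := fun c v x => by rw [polar_smul_right, smul_eq_mul] }
  nondegenerate := by
    intro v hv
    have h1 : ∃ x, polar ⇑Q v x ≠ 0 := by
      by_contra hcon
      push Not at hcon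
      apply hv
      apply hQ.1
      intro y
      rw [polarBilin_apply_apply]
      exact hcon y
    obtain ⟨x, hx⟩ := h1
    exact ⟨⟨x, by rw [polar_comm]; exact hx⟩, ⟨x, hx⟩⟩

/-- a plane of plus type contains a non-zero singular vector -/
theorem sing_of_plus_plane {W : Submodule F (ι → F)} (hdim : finrank F W = 2)
    (hp : Cfsg.Geo.IsPlusTypeOn ⇑Q W) : ∃ e ∈ W, e ≠ 0 ∧ Q e = 0 := by
  obtain ⟨U, hUW, hUts, hUdim⟩ := hp
  rw [hdim] at hUdim
  have hU1 : finrank F U = 1 := by omega
  have hU0 : U ≠ ⊥ := by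
    intro h
    rw [h, finrank_bot] at hU1
    omega
  obtain ⟨e, heU, he0⟩ := (Submodule.ne_bot_iff U).1 hU0
  exact ⟨e, hUW heU, he0, hUts e heU⟩

/-- a plane not of plus type is anisotropic -/
theorem aniso_of_not_plus_plane {W : Submodule F (ι → F)} (hdim : finrank F W = 2)
    (hp : ¬ Cfsg.Geo.IsPlusTypeOn ⇑Q W) : ∀ w ∈ W, Q w = 0 → w = 0 := by
  intro w hw hQw
  by_contra hw0
  apply hp
  refine ⟨Submodule.span F {w}, ?_, ?_, ?_⟩
  · rw [Submodule.span_singleton_le_iff_mem]
    exact hw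
  · intro x hx
    obtain ⟨c, rfl⟩ := Submodule.mem_span_singleton.mp hx
    rw [QuadraticMap.map_smul, hQw, smul_zero]
  · rw [finrank_span_singleton hw0, hdim]

/-- three isometric blocks of even dimension in a hyperbolic space are hyperbolic -/
theorem blocks_plus_of_three [Fintype F] {k : ℕ} {D : Fin 3 → Submodule F (ι → F)}
    (hQ : (polarBilin Q).Nondegenerate)
    (hD : Cfsg.Geo.IsOrthogonalMDecomposition ⇑Q k D) (hk : Even k)
    (hplus : Cfsg.Geo.IsPlusTypeOn ⇑Q ⊤) : ∀ i, Cfsg.Geo.IsPlusTypeOn ⇑Q (D i) := by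
  obtain ⟨n, hn⟩ := hk
  have hcard := card_blocks hD
  have h01 : (0 : Fin 3) ≠ 1 := by decide
  have h02 : (0 : Fin 3) ≠ 2 := by decide
  have h12 : (1 : Fin 3) ≠ 2 := by decide
  obtain ⟨e, he⟩ := hD.isometric 0 1
  have hY : HasTS Q (D 0 ⊔ D 1) k := by
    have := hasTS_pair_even e he (orth_of_decomp hD h01) (nd_of_decomp hD 0) (n := n)
      (by rw [hD.decomp.decomp.finrank_eq]; omega)
    rwa [hD.decomp.decomp.finrank_eq] at this
  have horth : Orth Q (D 0 ⊔ D 1) (D 2) :=
    Orth.sup_left (orth_of_decomp hD h02) (orth_of_decomp hD h12)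
  have hnd : ND Q (D 0 ⊔ D 1) :=
    ND.sup (nd_of_decomp hD 0) (nd_of_decomp hD 1) (orth_of_decomp hD h01)
  have h2 : HasTS Q (D 2) n := hasTS_compl hQ hplus hY horth (disjoint_of_orth hnd horth)
    (by rw [hD.decomp.decomp.finrank_eq]; omega) (by omega)
  have hp2 : Cfsg.Geo.IsPlusTypeOn ⇑Q (D 2) :=
    plus_of_hasTS h2 (by rw [hD.decomp.decomp.finrank_eq]; omega)
  intro i
  exact plus_of_isometric (hD.isometric 2 i) hp2

theorem odd_card_of_two_ne_zero [Fintype F] (h2 : (2 : F) ≠ 0) : Odd (Fintype.card F) := by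
  by_contra hno
  exact h2 (two_eq_zero_of_not_odd hno)

/-- the order of a finite field is not six -/
theorem card_ne_six [Fintype F] : Fintype.card F ≠ 6 := by
  intro h
  obtain ⟨p, hchar⟩ := CharP.exists F
  haveI := hchar
  obtain ⟨n, hp, hpn⟩ := FiniteField.card F p
  rw [h] at hpn
  have hn0 : 0 < (n : ℕ) := n.pos
  have hpd : p ∣ 6 := by
    rw [hpn]
    exact dvd_pow_self p (by omega)
  have hp6 : p ≤ 6 := Nat.le_of_dvd (by norm_num) hpd
  have hp2 := hp.two_le
  have h2 : p = 2 ∨ p = 3 := by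
    interval_cases p
    · left; rfl
    · right; rfl
    · exfalso; revert hp; decide
    · exfalso; revert hpd; decide
    · exfalso; revert hp; decide
  have hn : (n : ℕ) ≤ 2 := by
    by_contra hcon
    push Not at hcon
    have : p ^ 3 ≤ p ^ (n : ℕ) := Nat.pow_le_pow_right hp.pos hcon
    rcases h2 with rfl | rfl <;> omega
  obtain ⟨m, hm⟩ : ∃ m : ℕ, m = (n : ℕ) := ⟨_, rfl⟩
  rw [← hm] at hpn hn hn0
  rcases h2 with rfl | rfl
  · interval_cases m <;> omega
  · interval_cases m <;> omega

end Cfsg.Agent.Lib.Helper2.Oev
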