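import Mathlib
import Cfsg.Prelude
import Cfsg.Agent.Lib.Helper2.OevV
import Cfsg.Agent.Lib.Helper2.OevT
import Cfsg.Agent.Lib.Helper2.OevQ
import Cfsg.Agent.Lib.Helper5.AschE.Classes2
import Cfsg.Agent.Lib.Helper5.OrthSubmax
import Cfsg.Agent.Lib.Helper5.OrthDecompFour
import Cfsg.Agent.Lib.Helper5.OrthDecompFive
import Cfsg.Agent.Lib.Helper5.OrthDecompQuad
import Cfsg.Agent.Lib.Helper5.TensorOmegaTwoF2

set_option autoImplicit false
set_option linter.unusedSectionVars false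
set_option linter.unusedVariables false
set_option maxHeartbeats 1600000
open Cfsg

/-! The maximal subgroups of `Ω₁₂⁺(q)`: from the geometric classes to the listed types. -/

namespace Cfsg.Agent.Lib.Helper2.Oev

open Matrix QuadraticMap Module Cfsg.Agent.Lib.Helper5.CartanDieudonne Cfsg.Agent.Lib.Helper5.Refl
  Cfsg.Agent.Lib.Helper5.Siegel Cfsg.Agent.Lib.Helper5.QuadIsom
  Cfsg.Agent.Lib.Helper5.ReflGen Cfsg.Agent.Lib.Helper5.Eichler Cfsg.Agent.Lib.Helper5.SingGeom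
  Cfsg.Agent.Lib.Helper5.OmegaGen Cfsg.Agent.Lib.Helper5.OmegaSimple
  Cfsg.Agent.Lib.Helper5.SpSingularMax Cfsg.Agent.Lib.Helper5.OrthSingularMax
  Cfsg.Agent.Lib.Helper5.OrthDecompSiegel Cfsg.Agent.Lib.Helper2.Omx

theorem main12plus_of {F : Type*} [Field F] [Fintype F] (Q : QuadraticForm F (Fin 12 → F))
    (Hy : Hyp Q) (hplus : Cfsg.Geo.IsPlusTypeOn ⇑Q ⊤)
    (H : Subgroup (Matrix.GeneralLinearGroup (Fin 12) F))
    (hH : Cfsg.Geo.IsMaximalIn (Cfsg.Geo.omegaGL ⇑Q) H)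
    (hhalf : ∀ W : Submodule F (Fin 12 → F),
      Cfsg.Geo.IsNondegenerateOn (QuadraticMap.polar ⇑Q) W → Module.finrank F W = 6 →
      ∃ D : Fin 2 → Submodule F (Fin 12 → F), Cfsg.Geo.IsOrthogonalMDecomposition ⇑Q 6 D ∧
        ∀ g : Matrix.GeneralLinearGroup (Fin 12) F, g ∈ Cfsg.Geo.subspaceStabilizer W →
          g ∈ Cfsg.isometryGroup F ⇑Q → g ∈ Cfsg.Geo.decompositionStabilizer D)
    (h34 : ∀ (e : Fin 12 ≃ Fin 3 × Fin 4) (P : Matrix.GeneralLinearGroup (Fin 12) F)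
      (f₁ : (Fin 3 → F) → (Fin 3 → F) → F) (f₂ : (Fin 4 → F) → (Fin 4 → F) → F),
      (2 : F) ≠ 0 → Cfsg.Geo.IsSymmetricForm f₁ → Cfsg.Geo.IsSymmetricForm f₂ →
      Cfsg.Geo.IsTensorFormStructure id (QuadraticMap.polar ⇑Q) f₁ f₂ e P →
      ∃ M, Cfsg.Agent.Lib.Helper5.AschE.Cls4b ⇑Q M ∧
        Cfsg.Geo.tensorProductSubgroup 3 4 e P ⊓ Cfsg.Geo.omegaGL ⇑Q ≤ M) :
    (∃ W : Submodule F (Fin 12 → F), W ≠ ⊥ ∧ Cfsg.Geo.IsTotallySingularQuad ⇑Q W ∧ Module.finrank F W ≠ 5 ∧ H = Cfsg.Geo.subspaceStabilizer W ⊓ Cfsg.Geo.omegaGL ⇑Q) ∨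
    (Odd (Fintype.card F) ∧ ∃ W : Submodule F (Fin 12 → F), W ≠ ⊥ ∧ W ≠ ⊤ ∧ Odd (Module.finrank F W) ∧ 2 * Module.finrank F W ≠ 12 ∧ Cfsg.Geo.IsNondegenerateOn (QuadraticMap.polar ⇑Q) W ∧ H = Cfsg.Geo.subspaceStabilizer W ⊓ Cfsg.Geo.omegaGL ⇑Q) ∨
    (∃ W : Submodule F (Fin 12 → F), Module.finrank F W = 2 ∧ Cfsg.Geo.IsNondegenerateOn (QuadraticMap.polar ⇑Q) W ∧ ¬ Cfsg.Geo.IsPlusTypeOn ⇑Q W ∧ H = Cfsg.Geo.subspaceStabilizer W ⊓ Cfsg.Geo.omegaGL ⇑Q) ∨
    (4 ≤ Fintype.card F ∧ ∃ W : Submodule F (Fin 12 → F), Module.finrank F W = 2 ∧ Cfsg.Geo.IsNondegenerateOn (QuadraticMap.polar ⇑Q) W ∧ Cfsg.Geo.IsPlusTypeOn ⇑Q W ∧ H = Cfsg.Geo.subspaceStabilizer W ⊓ Cfsg.Geo.omegaGL ⇑Q) ∨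
    (∃ W : Submodule F (Fin 12 → F), Module.finrank F W = 4 ∧ Cfsg.Geo.IsNondegenerateOn (QuadraticMap.polar ⇑Q) W ∧ H = Cfsg.Geo.subspaceStabilizer W ⊓ Cfsg.Geo.omegaGL ⇑Q) ∨
    (¬ Odd (Fintype.card F) ∧ ∃ v : (Fin 12 → F), ⇑Q v ≠ 0 ∧ H = Cfsg.Geo.subspaceStabilizer (Submodule.span F {v}) ⊓ Cfsg.Geo.omegaGL ⇑Q) ∨
    ((∃ p : ℕ, p.Prime ∧ Odd p ∧ Fintype.card F = p) ∧ ∃ D : Fin 12 → Submodule F (Fin 12 → F), Cfsg.Geo.IsOrthogonalMDecomposition ⇑Q 1 D ∧ H = Cfsg.Geo.decompositionStabilizer D ⊓ Cfsg.Geo.omegaGL ⇑Q) ∨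
    (7 ≤ Fintype.card F ∧ ∃ D : Fin 6 → Submodule F (Fin 12 → F), Cfsg.Geo.IsOrthogonalMDecomposition ⇑Q 2 D ∧ (∀ i, Cfsg.Geo.IsPlusTypeOn ⇑Q (D i)) ∧ H = Cfsg.Geo.decompositionStabilizer D ⊓ Cfsg.Geo.omegaGL ⇑Q) ∨
    (Fintype.card F ≠ 3 ∧ ∃ D : Fin 6 → Submodule F (Fin 12 → F), Cfsg.Geo.IsOrthogonalMDecomposition ⇑Q 2 D ∧ (∀ i, ¬ Cfsg.Geo.IsPlusTypeOn ⇑Q (D i)) ∧ H = Cfsg.Geo.decompositionStabilizer D ⊓ Cfsg.Geo.omegaGL ⇑Q) ∨
    (Odd (Fintype.card F) ∧ 5 ≤ Fintype.card F ∧ ∃ D : Fin 4 → Submodule F (Fin 12 → F), Cfsg.Geo.IsOrthogonalMDecomposition ⇑Q 3 D ∧ H = Cfsg.Geo.decompositionStabilizer D ⊓ Cfsg.Geo.omegaGL ⇑Q) ∨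
    (3 ≤ Fintype.card F ∧ ∃ D : Fin 3 → Submodule F (Fin 12 → F), Cfsg.Geo.IsOrthogonalMDecomposition ⇑Q 4 D ∧ H = Cfsg.Geo.decompositionStabilizer D ⊓ Cfsg.Geo.omegaGL ⇑Q) ∨
    (∃ D : Fin 2 → Submodule F (Fin 12 → F), Cfsg.Geo.IsOrthogonalMDecomposition ⇑Q 6 D ∧ H = Cfsg.Geo.decompositionStabilizer D ⊓ Cfsg.Geo.omegaGL ⇑Q) ∨
    (∃ D : Fin 2 → Submodule F (Fin 12 → F), Cfsg.Geo.IsMDecomposition 6 D ∧ (∀ i, Cfsg.Geo.IsTotallySingularQuad ⇑Q (D i)) ∧ H = Cfsg.Geo.decompositionStabilizer D ⊓ Cfsg.Geo.omegaGL ⇑Q) ∨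
    (∃ K : Subalgebra F (Matrix (Fin 12) (Fin 12) F), Cfsg.Geo.IsFieldSubalgebra 2 K ∧ H = Cfsg.Geo.subalgebraNormalizer K ⊓ Cfsg.Geo.omegaGL ⇑Q) ∨
    (∃ K : Subalgebra F (Matrix (Fin 12) (Fin 12) F), Cfsg.Geo.IsFieldSubalgebra 3 K ∧ H = Cfsg.Geo.subalgebraNormalizer K ⊓ Cfsg.Geo.omegaGL ⇑Q) ∨
    (∃ K : Subalgebra F (Matrix (Fin 12) (Fin 12) F), Cfsg.Geo.IsFieldSubalgebra 2 K ∧ Cfsg.Geo.IsAdjointClosedFor (QuadraticMap.polar ⇑Q) K ∧ ¬ Cfsg.Geo.IsSelfAdjointFor (QuadraticMap.polar ⇑Q) K ∧ (∀ k ∈ K, ∃ c : F, ∀ v : (Fin 12 → F), ⇑Q (Matrix.mulVec k v) = c * ⇑Q v) ∧ H = Cfsg.Geo.subalgebraNormalizer K ⊓ Cfsg.Geo.omegaGL ⇑Q) ∨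
    (3 ≤ Fintype.card F ∧ ∃ (e : Fin 12 ≃ Fin 2 × Fin 6) (P : Matrix.GeneralLinearGroup (Fin 12) F) (f₁ : (Fin 2 → F) → (Fin 2 → F) → F) (f₂ : (Fin 6 → F) → (Fin 6 → F) → F), Cfsg.Geo.IsSymplecticForm f₁ ∧ Cfsg.Geo.IsSymplecticForm f₂ ∧ Cfsg.Geo.IsTensorFormStructure id (QuadraticMap.polar ⇑Q) f₁ f₂ e P ∧ (∀ (x₁ : Fin 2 → F) (x₂ : Fin 6 → F), ⇑Q (Matrix.mulVec (P : Matrix (Fin 12) (Fin 12) F) ((fun a : Fin 2 × Fin 6 => x₁ a.1 * x₂ a.2) ∘ e)) = 0) ∧ H = Cfsg.Geo.tensorProductSubgroup 2 6 e P ⊓ Cfsg.Geo.omegaGL ⇑Q) ∨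
    (∃ (F₀ : Subfield F) (r : ℕ) (P : Matrix.GeneralLinearGroup (Fin 12) F) (ζ : F), r.Prime ∧ Fintype.card F = Nat.card F₀ ^ r ∧ ζ ≠ 0 ∧ Cfsg.Geo.IsQuadFormRationalStructure (fun v : Fin 12 → F => ζ * ⇑Q v) F₀ P ∧ H = Cfsg.Geo.subfieldSubgroup F₀ P ⊓ Cfsg.Geo.omegaGL ⇑Q) ∨
    Cfsg.Geo.InOrthogonalResidualClass H := by
  have hHΩ : H ≤ Cfsg.Geo.omegaGL ⇑Q := hH.1.le
  have hn : Fintype.card (Fin 12) = 12 := Fintype.card_fin 12
  have hq1 : 1 < Fintype.card F := Fintype.one_lt_card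
  have hstabI : ∀ g ∈ H, ∀ x, Q ((g : Matrix (Fin 12) (Fin 12) F) *ᵥ x) = Q x := by
    intro g hg x
    obtain ⟨a, -, rfl⟩ := (mem_omegaGL_iff Q g).mp (hHΩ hg)
    exact quad_act Q a x
  -- the symplectic tensor class
  have h4b : ∀ M, Cfsg.Agent.Lib.Helper5.AschE.Cls4b ⇑Q M → H ≤ M →
      (3 ≤ Fintype.card F ∧ ∃ (e : Fin 12 ≃ Fin 2 × Fin 6) (P : Matrix.GeneralLinearGroup (Fin 12) F) (f₁ : (Fin 2 → F) → (Fin 2 → F) → F) (f₂ : (Fin 6 → F) → (Fin 6 → F) → F), Cfsg.Geo.IsSymplecticForm f₁ ∧ Cfsg.Geo.IsSymplecticForm f₂ ∧ Cfsg.Geo.IsTensorFormStructure id (QuadraticMap.polar ⇑Q) f₁ f₂ e P ∧ (∀ (x₁ : Fin 2 → F) (x₂ : Fin 6 → F), ⇑Q (Matrix.mulVec (P : Matrix (Fin 12) (Fin 12) F) ((fun a : Fin 2 × Fin 6 => x₁ a.1 * x₂ a.2) ∘ e)) = 0) ∧ H = Cfsg.Geo.tensorProductSubgroup 2 6 e P ⊓ Cfsg.Geo.omegaGL ⇑Q) := by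
    rintro M ⟨n₁, n₂, e, P, f₁, f₂, h1, h12, hf₁, hf₂, hT, hQ0, rfl⟩ hHM
    have hcard := card_of_tensor_equiv e
    rw [hn] at hcard
    have hn1 : n₁ ≤ 3 := by nlinarith
    interval_cases n₁
    · obtain rfl : n₂ = 6 := by omega
      by_cases hq2 : Fintype.card F = 2
      · exact absurd (absurd_of_not_maximal hH (hHM.trans inf_le_left)
          (Cfsg.Agent.Lib.Helper5.TensorOmegaTwoF2.not_maximal (Q := Q) e P hq2 Hy (by norm_num)
            hf₁ hf₂ hT hQ0)) id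
      · refine ⟨by omega, e, P, f₁, f₂, hf₁, hf₂, hT, hQ0,
          eq_inf_of_le hH (hHM.trans inf_le_left) ?_⟩
        exact not_le_tensor_symplectic (le_refl 12) (⇑Q) (isNondegQF_of Q Hy.nondeg) 2 6
          (by norm_num) (fun h => hq2 h.1) e P f₁ f₂ hf₁ hf₂ hT hQ0
    · have := even_of_symplectic hf₁
      exact absurd this (by decide)
  rcases Cfsg.Agent.Lib.Helper5.AschE.even_main' Q
    (Cfsg.Agent.Lib.Helper5.AschO.gramQ_det Q Hy.nondeg)
    (fun r m hr => by rw [hn]; exact Cfsg.Agent.Lib.Helper5.AschE.not_prime_pow_twelve r m hr)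
    (fun k t ht => by rw [hn]; exact Cfsg.Agent.Lib.Helper5.AschE.not_pow_twelve k t ht) H hHΩ
    with ⟨M, hM, hHM⟩ | hres
  swap
  · iterate 18 right
    exact hres
  rcases hM with ⟨W, hW0, hWts, rfl⟩ | ⟨W, hW0, hW1, hWnd, rfl⟩ | ⟨h2, v, hv, rfl⟩ |
    ⟨t, k, D, hk, hD, rfl⟩ | ⟨t, D, hp, h2, hD, rfl⟩ | ⟨k, D, hD, hts, rfl⟩ |
    ⟨r, K, hr, hK, hsa, rfl⟩ | ⟨K, hK, hac, hnsa, hsim, rfl⟩ |
    ⟨n₁, n₂, e, P, f₁, f₂, h1, h12, h2, hf₁, hf₂, hT, rfl⟩ | h4 |
    ⟨F₀, r, P, ζ, hr, hcardF, hζ, hrat, rfl⟩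
  · -- 1a totally singular
    have hW1 : W ≠ ⊤ := by
      rintro rfl
      obtain ⟨z, hz, -, -⟩ := exists_aniso_perp2 Q Hy.nondeg Hy.finrank5 0 0
      exact hz (hWts z Submodule.mem_top)
    by_cases hd5 : finrank F W = 5
    · exfalso
      have hV : finrank F (Fin 12 → F) = 2 * 6 := by
        rw [Module.finrank_fintype_fun_eq_card, hn]
      obtain ⟨U₀, -, hU₀ts, hU₀dim⟩ := hplus
      rw [finrank_top, hV] at hU₀dim
      have hU₀ : Cfsg.Agent.Lib.Helper5.MaxTS.IsMaxTS Q 6 U₀ := ⟨by omega, hU₀ts⟩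
      exact absurd_of_not_maximal hH (hHM.trans inf_le_left)
        (Cfsg.Agent.Lib.Helper5.OrthSubmax.not_maximal Hy 6 (by norm_num) hV U₀ hU₀ W hWts
          (by omega))
    · left
      exact ⟨W, hW0, hWts, hd5, eq_inf_of_le hH (hHM.trans inf_le_left)
        (not_le_stab Hy W hW0 hW1)⟩
  · -- 1b non-degenerate
    obtain ⟨W', hW'0, hW'1, hnd', hdim', hle⟩ := exists_small_nondeg Hy hW0 hW1 hWnd
    have hHW' : H ≤ Cfsg.Geo.subspaceStabilizer W' :=
      ((le_inf (hHM.trans inf_le_left) hHΩ).trans hle).trans inf_le_left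
    have hEq := eq_inf_of_le hH hHW' (not_le_stab Hy W' hW'0 hW'1)
    rw [hn] at hdim'
    have hpos : 0 < finrank F W' := by
      rw [Module.finrank_pos_iff_exists_ne_zero]
      obtain ⟨w, hw, hw0⟩ := (Submodule.ne_bot_iff W').1 hW'0
      exact ⟨⟨w, hw⟩, fun h => hw0 (congrArg Subtype.val h)⟩
    by_cases hoddd : Odd (finrank F W')
    · -- odd dimension
      by_cases hoddq : Odd (Fintype.card F)
      · right; left
        refine ⟨hoddq, W', hW'0, hW'1, hoddd, ?_, hnd', hEq⟩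
        obtain ⟨c, hc⟩ := hoddd
        omega
      · exact absurd (even_finrank_of_nd (two_eq_zero_of_not_odd hoddq) (nd_of_nondegOn hnd'))
          (Nat.not_even_iff_odd.2 hoddd)
    · have heven : Even (finrank F W') := Nat.not_odd_iff_even.1 hoddd
      obtain ⟨c, hc⟩ := heven
      have hcases : finrank F W' = 2 ∨ finrank F W' = 4 ∨ finrank F W' = 6 := by omega
      rcases hcases with h2d | h4d | h6d
      · rcases plane_cases Hy h2d hnd' with hmin | ⟨hq4, hpl⟩ | ⟨v, hv, hlev⟩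
        · right; right; left
          exact ⟨W', h2d, hnd', hmin, hEq⟩
        · right; right; right; left
          exact ⟨hq4, W', h2d, hnd', hpl, hEq⟩
        · have hHv : H ≤ Cfsg.Geo.subspaceStabilizer (Submodule.span F ({v} : Set (Fin 12 → F))) :=
            ((le_inf hHW' hHΩ).trans hlev).trans inf_le_left
          have hv0 : v ≠ 0 := by
            rintro rfl
            exact hv (map_zero _)
          have hEqv := eq_inf_of_le hH hHv (not_le_stab Hy _ (span_singleton_ne_bot hv)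
            (span_singleton_ne_top (by rw [hn]; norm_num) v))
          by_cases hoddq : Odd (Fintype.card F)
          · right; left
            refine ⟨hoddq, _, span_singleton_ne_bot hv,
              span_singleton_ne_top (by rw [hn]; norm_num) v, ?_, ?_,
              line_nondeg (two_ne_zero_of_odd' hoddq) v hv, hEqv⟩
            · rw [finrank_span_singleton hv0]
              exact odd_one
            · rw [finrank_span_singleton hv0]
              norm_num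
          · iterate 5 right
            left
            exact ⟨hoddq, v, hv, hEqv⟩
      · iterate 4 right
        left
        exact ⟨W', h4d, hnd', hEq⟩
      · obtain ⟨D, hD, hstab⟩ := hhalf W' hnd' h6d
        iterate 11 right
        left
        refine ⟨D, hD, eq_inf_of_le hH (fun g hg => hstab g (hHW' hg) (hHM hg).2)
          (not_le_decomp_nd Hy hD.decomp (by norm_num) (Or.inl (by norm_num)))⟩
  · -- 1c non-singular point
    iterate 5 right
    left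
    exact ⟨not_odd_of_two_eq_zero h2, v, hv, eq_inf_of_le hH (hHM.trans inf_le_left)
      (not_le_stab Hy _ (span_singleton_ne_bot hv)
        (span_singleton_ne_top (by rw [hn]; norm_num) v))⟩
  · -- 2a decompositions
    have hcard := card_blocks hD
    rw [hn] at hcard
    have ht2 := hD.decomp.decomp.two_le
    have hk6 : k ≤ 6 := by nlinarith
    have hk2 : 2 ≤ k := hk
    have hHD : H ≤ Cfsg.Geo.decompositionStabilizer D := hHM.trans inf_le_left
    interval_cases k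
    · -- k = 2, t = 6
      obtain rfl : t = 6 := by omega
      have hprop := not_le_decomp_nd Hy hD.decomp (le_refl 2) (Or.inr (by norm_num))
      by_cases hp0 : Cfsg.Geo.IsPlusTypeOn ⇑Q (D 0)
      · have hpl : ∀ i, Cfsg.Geo.IsPlusTypeOn ⇑Q (D i) :=
          fun i => plus_of_isometric (hD.isometric 0 i) hp0
        have hsing : ∀ i, ∃ e ∈ D i, e ≠ 0 ∧ Q e = 0 :=
          fun i => sing_of_plus_plane (hD.decomp.decomp.finrank_eq i) (hpl i)
        by_cases hq7 : 7 ≤ Fintype.card F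
        · iterate 7 right
          left
          exact ⟨hq7, D, hD, hpl, eq_inf_of_le hH hHD hprop⟩
        · exfalso
          have hq6 := card_ne_six (F := F)
          have hqc : Fintype.card F ≤ 3 ∨ Fintype.card F = 4 ∨ Fintype.card F = 5 := by omega
          rcases hqc with hq | hq | hq
          · exact absurd_of_not_maximal hH hHD
              (not_maximal_plane_le3_six Hy hq hD.decomp (le_refl 6) hsing)
          · exact absurd_of_not_maximal hH hHD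
              (Cfsg.Agent.Lib.Helper5.OrthDecompFour.not_maximal_plane_four hq Hy hD.decomp
                (by norm_num) hsing)
          · exact absurd_of_not_maximal hH hHD
              (Cfsg.Agent.Lib.Helper5.OrthDecompFive.not_maximal_plane_five hq Hy hD
                (by norm_num) (hsing _))
      · have hmi : ∀ i, ¬ Cfsg.Geo.IsPlusTypeOn ⇑Q (D i) :=
          fun i hi => hp0 (plus_of_isometric (hD.isometric i 0) hi)
        by_cases hq3 : Fintype.card F = 3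
        · exfalso
          obtain ⟨c, hc, hgood⟩ := Cfsg.Agent.Lib.Helper5.OrthFrameThree.good_two (Q := Q) hq3
            (D ⟨0, by norm_num⟩) (hD.decomp.decomp.finrank_eq _) (hD.decomp.nondegenerate _)
            (aniso_of_not_plus_plane (hD.decomp.decomp.finrank_eq _) (hmi _))
          exact absurd_of_not_maximal hH hHD
            (Cfsg.Agent.Lib.Helper5.OrthFrameThree.not_maximal_main Hy hq3 hD (by norm_num) hc
              hgood)
        · iterate 8 right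
          left
          exact ⟨hq3, D, hD, hmi, eq_inf_of_le hH hHD hprop⟩
    · -- k = 3, t = 4
      obtain rfl : t = 4 := by omega
      have hprop := not_le_decomp_nd Hy hD.decomp (by norm_num : 2 ≤ 3) (Or.inl (le_refl 3))
      have hoddq : Odd (Fintype.card F) := by
        by_contra hno
        have := even_finrank_of_nd (two_eq_zero_of_not_odd hno) (nd_of_decomp hD 0)
        rw [hD.decomp.decomp.finrank_eq] at this
        exact absurd this (by decide)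
      by_cases hq3 : Fintype.card F = 3
      · exfalso
        obtain ⟨c, hc, hgood⟩ := Cfsg.Agent.Lib.Helper5.OrthFrameThree.good_three (Q := Q) hq3
          (D ⟨0, by norm_num⟩) (hD.decomp.decomp.finrank_eq _) (hD.decomp.nondegenerate _)
        exact absurd_of_not_maximal hH hHD
          (Cfsg.Agent.Lib.Helper5.OrthFrameThree.not_maximal_main Hy hq3 hD (by norm_num) hc
            hgood)
      · iterate 9 right
        left
        exact ⟨hoddq, five_le_of_odd hoddq hq1 hq3, D, hD, eq_inf_of_le hH hHD hprop⟩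
    · -- k = 4, t = 3
      obtain rfl : t = 3 := by omega
      have hprop := not_le_decomp_nd Hy hD.decomp (by norm_num : 2 ≤ 4) (Or.inl (by norm_num))
      by_cases hq3 : 3 ≤ Fintype.card F
      · iterate 10 right
        left
        exact ⟨hq3, D, hD, eq_inf_of_le hH hHD hprop⟩
      · exfalso
        have hq2 : Fintype.card F = 2 := by omega
        have hpl := blocks_plus_of_three Hy.nondeg hD ⟨2, rfl⟩ hplus
        exact absurd_of_not_maximal hH hHD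
          (Cfsg.Agent.Lib.Helper5.OrthDecompQuad.not_maximal_quad hq2 Hy hD.decomp (by norm_num)
            hpl)
    · -- k = 5
      omega
    · -- k = 6, t = 2
      obtain rfl : t = 2 := by omega
      iterate 11 right
      left
      exact ⟨D, hD, eq_inf_of_le hH hHD
        (not_le_decomp_nd Hy hD.decomp (by norm_num) (Or.inl (by norm_num)))⟩
  · -- 2f frames
    have hcard := card_blocks hD
    rw [hn] at hcard
    obtain rfl : t = 12 := by omega
    iterate 6 right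
    left
    exact ⟨⟨Fintype.card F, hp, odd_card_of_two_ne_zero h2, rfl⟩, D, hD,
      eq_inf_of_le hH (hHM.trans inf_le_left) (not_le_decomp Hy h2 hD.decomp.decomp)⟩
  · -- 2b pairs of totally singular subspaces
    have hcard := Cfsg.Agent.Lib.Helper5.OrthFrameThree.card_blocks' hD
    rw [hn] at hcard
    obtain rfl : k = 6 := by omega
    iterate 12 right
    left
    exact ⟨D, hD, hts, eq_inf_of_le hH (hHM.trans inf_le_left)
      (not_le_decomp' Hy hD (by norm_num))⟩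
  · -- 3a fields
    have hdvd := dvd_of_fieldSubalgebra' hr.pos hK
    rw [hn] at hdvd
    have hr12 : r ≤ 12 := Nat.le_of_dvd (by norm_num) hdvd
    have hr2 := hr.two_le
    have hcases : r = 2 ∨ r = 3 := by
      interval_cases r <;> first | omega | (exfalso; revert hr; decide) | (exfalso; revert hdvd; decide)
    rcases hcases with rfl | rfl
    · iterate 13 right
      left
      exact ⟨K, hK, eq_inf_of_le hH (hHM.trans inf_le_left)
        (not_le_fieldNormalizer' Hy (by norm_num) hK)⟩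
    · iterate 14 right
      left
      exact ⟨K, hK, eq_inf_of_le hH (hHM.trans inf_le_left)
        (not_le_fieldNormalizer' Hy (by norm_num) hK)⟩
  · -- 3b unitary type
    iterate 13 right
    left
    exact ⟨K, hK, eq_inf_of_le hH (hHM.trans inf_le_left)
      (not_le_fieldNormalizer' Hy (by norm_num) hK)⟩
  · -- 4a' tensor products of symmetric forms, both factors of dimension at least three
    have hcard := card_of_tensor_equiv e
    rw [hn] at hcard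
    have hn1 : n₁ ≤ 3 := by nlinarith
    obtain rfl : n₁ = 3 := by omega
    obtain rfl : n₂ = 4 := by omega
    obtain ⟨M', hM', hle⟩ := h34 e P f₁ f₂ h2 hf₁ hf₂ hT
    iterate 16 right
    left
    exact h4b M' hM' ((le_inf (hHM.trans inf_le_left) hHΩ).trans hle)
  · -- 4b tensor products of symplectic forms
    iterate 16 right
    left
    exact h4b _ h4 hHM
  · -- 5 subfields
    iterate 17 right
    left
    exact ⟨F₀, r, P, ζ, hr, hcardF, hζ, hrat, eq_inf_of_le hH (hHM.trans inf_le_left)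
      (not_le_subfield Hy F₀ (subfield_ne_top' F₀ hr hcardF) P)⟩

end Cfsg.Agent.Lib.Helper2.Oev
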