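import Mathlib
import Cfsg.Prelude
import Cfsg.Agent.Lib.Helper2.OevF

set_option autoImplicit false
set_option linter.unusedSectionVars false
set_option linter.unusedVariables false
open Cfsg

/-! The tensor square of a two-dimensional space: the quadric `det = 0`, its two rulings, and
the linear maps preserving one ruling. -/

namespace Cfsg.Agent.Lib.Helper2.Oev

open Matrix Module Cfsg.Agent.Lib.Helper5.TensorFormSub

variable {F : Type*} [Field F] {n₁ n₂ : ℕ}

/-- pure tensors with a fixed first factor -/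
def ptLeft (u : Fin n₁ → F) : (Fin n₂ → F) →ₗ[F] (Fin n₁ × Fin n₂ → F) where
  toFun y := pt u y
  map_add' y y' := pt_add_right u y y'
  map_smul' c y := pt_smul_right c u y

/-- pure tensors with a fixed second factor -/
def ptRight (y : Fin n₂ → F) : (Fin n₁ → F) →ₗ[F] (Fin n₁ × Fin n₂ → F) where
  toFun u := pt u y
  map_add' u u' := pt_add_left u u' y
  map_smul' c u := pt_smul_left c u y

theorem ptLeft_apply (u : Fin n₁ → F) (y : Fin n₂ → F) : ptLeft u y = pt u y := rfl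

theorem ptRight_apply (y : Fin n₂ → F) (u : Fin n₁ → F) : ptRight y u = pt u y := rfl

theorem exists_ne_zero_coord {n : ℕ} {x : Fin n → F} (hx : x ≠ 0) : ∃ i, x i ≠ 0 := by
  by_contra hcon
  push Not at hcon
  exact hx (funext hcon)

theorem ptLeft_injective {u : Fin n₁ → F} (hu : u ≠ 0) :
    Function.Injective (ptLeft (n₂ := n₂) u) := by
  obtain ⟨i, hi⟩ := exists_ne_zero_coord hu
  intro y y' h
  ext j
  have := congrFun h (i, j)
  rw [ptLeft_apply, ptLeft_apply, pt_apply, pt_apply] at this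
  exact mul_left_cancel₀ hi this

theorem ptRight_injective {y : Fin n₂ → F} (hy : y ≠ 0) :
    Function.Injective (ptRight (n₁ := n₁) y) := by
  obtain ⟨j, hj⟩ := exists_ne_zero_coord hy
  intro u u' h
  ext i
  have := congrFun h (i, j)
  rw [ptRight_apply, ptRight_apply, pt_apply, pt_apply] at this
  exact mul_right_cancel₀ hj this

/-- a functional taking the value one at a non-zero vector -/
theorem exists_dual_one {n : ℕ} {x : Fin n → F} (hx : x ≠ 0) :
    ∃ f : Module.Dual F (Fin n → F), f x = 1 := by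
  obtain ⟨i, hi⟩ := exists_ne_zero_coord hx
  refine ⟨(x i)⁻¹ • LinearMap.proj i, ?_⟩
  rw [LinearMap.smul_apply, LinearMap.proj_apply, smul_eq_mul, inv_mul_cancel₀ hi]

/-- the determinant of a `2 × 2` array -/
def det2 (v : Fin 2 × Fin 2 → F) : F := v (0, 0) * v (1, 1) - v (0, 1) * v (1, 0)

/-- the cross product of two plane vectors -/
def cross (u u' : Fin 2 → F) : F := u 0 * u' 1 - u 1 * u' 0

theorem det2_pt (u y : Fin 2 → F) : det2 (pt u y) = 0 := by
  unfold det2
  rw [pt_apply, pt_apply, pt_apply, pt_apply]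
  ring

theorem det2_pt_add_pt (u y u' y' : Fin 2 → F) :
    det2 (pt u y + pt u' y') = cross u u' * cross y y' := by
  unfold det2 cross
  simp only [Pi.add_apply, pt_apply]
  ring

theorem exists_smul_of_cross {u u' : Fin 2 → F} (hu : u ≠ 0) (h : cross u u' = 0) :
    ∃ c : F, u' = c • u := by
  unfold cross at h
  obtain ⟨i, hi⟩ := exists_ne_zero_coord hu
  fin_cases i
  · have hi' : u 0 ≠ 0 := hi
    refine ⟨u' 0 / u 0, ?_⟩
    ext j
    fin_cases j
    · show u' 0 = u' 0 / u 0 * u 0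
      rw [div_mul_cancel₀ _ hi']
    · show u' 1 = u' 0 / u 0 * u 1
      rw [div_mul_eq_mul_div, eq_div_iff hi']
      linear_combination h
  · have hi' : u 1 ≠ 0 := hi
    refine ⟨u' 1 / u 1, ?_⟩
    ext j
    fin_cases j
    · show u' 0 = u' 1 / u 1 * u 0
      rw [div_mul_eq_mul_div, eq_div_iff hi']
      linear_combination -h
    · show u' 1 = u' 1 / u 1 * u 1
      rw [div_mul_cancel₀ _ hi']

/-- a non-zero array of determinant zero is a pure tensor -/
theorem exists_pt_of_det2 {v : Fin 2 × Fin 2 → F} (hv : v ≠ 0) (h : det2 v = 0) :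
    ∃ u y : Fin 2 → F, u ≠ 0 ∧ y ≠ 0 ∧ v = pt u y := by
  unfold det2 at h
  have hex : ∃ p : Fin 2 × Fin 2, v p ≠ 0 := by
    by_contra hcon
    push Not at hcon
    exact hv (funext hcon)
  obtain ⟨⟨i₀, j₀⟩, hp⟩ := hex
  refine ⟨fun i => v (i, j₀), fun j => v (i₀, j) / v (i₀, j₀), ?_, ?_, ?_⟩
  · intro h0
    exact hp (congrFun h0 i₀)
  · intro h0
    have := congrFun h0 j₀
    simp only [Pi.zero_apply] at this
    rw [div_self hp] at this
    exact one_ne_zero this
  · ext ⟨i, j⟩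
    rw [pt_apply]
    show v (i, j) = v (i, j₀) * (v (i₀, j) / v (i₀, j₀))
    rw [eq_comm, mul_div_assoc', div_eq_iff hp]
    fin_cases i₀ <;> fin_cases j₀ <;> fin_cases i <;> fin_cases j <;>
      (try simp only [Fin.zero_eta, Fin.mk_one]) <;> first | ring1 | linear_combination h | linear_combination -h

/-- the planes on the quadric `det = 0`: the two rulings -/
theorem ts_plane_cases (Z : Submodule F (Fin 2 × Fin 2 → F)) (hd : finrank F Z = 2)
    (hZ : ∀ v ∈ Z, det2 v = 0) :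
    (∃ u : Fin 2 → F, u ≠ 0 ∧ Z = LinearMap.range (ptLeft (n₂ := 2) u)) ∨
      (∃ y : Fin 2 → F, y ≠ 0 ∧ Z = LinearMap.range (ptRight (n₁ := 2) y)) := by
  have hZ0 : Z ≠ ⊥ := by
    intro h
    rw [h, finrank_bot] at hd
    omega
  obtain ⟨v, hvZ, hv0⟩ := (Submodule.ne_bot_iff Z).1 hZ0
  obtain ⟨u, y, hu, hy, rfl⟩ := exists_pt_of_det2 hv0 (hZ v hvZ)
  have hclaim : ∀ z ∈ Z, z ∈ LinearMap.range (ptLeft (n₂ := 2) u) ∨
      z ∈ LinearMap.range (ptRight (n₁ := 2) y) := by
    intro z hz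
    by_cases hz0 : z = 0
    · left
      rw [hz0]
      exact Submodule.zero_mem _
    · obtain ⟨u', y', hu', hy', rfl⟩ := exists_pt_of_det2 hz0 (hZ z hz)
      have h1 := hZ _ (Z.add_mem hvZ hz)
      rw [det2_pt_add_pt] at h1
      rcases mul_eq_zero.mp h1 with h2 | h2
      · left
        obtain ⟨c, rfl⟩ := exists_smul_of_cross hu h2
        exact ⟨c • y', by rw [ptLeft_apply, pt_smul_right, pt_smul_left]⟩
      · right
        obtain ⟨c, rfl⟩ := exists_smul_of_cross hy h2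
        exact ⟨c • u', by rw [ptRight_apply, pt_smul_right, pt_smul_left]⟩
  have hle : Z ≤ LinearMap.range (ptLeft (n₂ := 2) u) ∨
      Z ≤ LinearMap.range (ptRight (n₁ := 2) y) := by
    by_contra hcon
    push Not at hcon
    obtain ⟨h1, h2⟩ := hcon
    obtain ⟨z₁, hz₁, hz₁'⟩ := Set.not_subset.mp h1
    obtain ⟨z₂, hz₂, hz₂'⟩ := Set.not_subset.mp h2
    have hz₁R := (hclaim z₁ hz₁).resolve_left hz₁'
    have hz₂L := (hclaim z₂ hz₂).resolve_right hz₂'
    rcases hclaim (z₁ + z₂) (Z.add_mem hz₁ hz₂) with h3 | h3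
    · apply hz₁'
      have := Submodule.sub_mem _ h3 hz₂L
      rwa [add_sub_cancel_right] at this
    · apply hz₂'
      have := Submodule.sub_mem _ h3 hz₁R
      rwa [add_sub_cancel_left] at this
  rcases hle with hle | hle
  · left
    refine ⟨u, hu, Submodule.eq_of_le_of_finrank_eq hle ?_⟩
    rw [hd, LinearMap.finrank_range_of_inj (ptLeft_injective hu), Module.finrank_fintype_fun_eq_card,
      Fintype.card_fin]
  · right
    refine ⟨y, hy, Submodule.eq_of_le_of_finrank_eq hle ?_⟩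
    rw [hd, LinearMap.finrank_range_of_inj (ptRight_injective hy),
      Module.finrank_fintype_fun_eq_card, Fintype.card_fin]

theorem pt_decomp (u y : Fin 2 → F) :
    pt u y = u 0 • pt (Pi.single 0 1) y + u 1 • pt (Pi.single 1 1) y := by
  ext ⟨i, j⟩
  simp only [Pi.add_apply, Pi.smul_apply, pt_apply, smul_eq_mul]
  fin_cases i <;> simp

/-- every array is a sum of two pure tensors along the standard basis of the first factor -/
theorem eq_pt_add_pt (v : Fin 2 × Fin 2 → F) :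
    v = pt (Pi.single 0 1) (fun j => v (0, j)) + pt (Pi.single 1 1) (fun j => v (1, j)) := by
  ext ⟨i, j⟩
  simp only [Pi.add_apply, pt_apply]
  fin_cases i <;> simp

/-- a linear map preserving the left ruling is a Kronecker product -/
theorem kron_of_left_ruling (M : (Fin 2 × Fin 2 → F) →ₗ[F] (Fin 2 × Fin 2 → F))
    (hM : Function.Injective M)
    (h : ∀ u : Fin 2 → F, u ≠ 0 → ∃ u' : Fin 2 → F, u' ≠ 0 ∧ ∀ y, ∃ y', M (pt u y) = pt u' y') :
    ∃ U β : (Fin 2 → F) →ₗ[F] (Fin 2 → F), ∀ u y, M (pt u y) = pt (U u) (β y) := by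
  have he₀ : (Pi.single 0 1 : Fin 2 → F) ≠ 0 := by
    intro h0
    have := congrFun h0 0
    simp at this
  have he₁ : (Pi.single 1 1 : Fin 2 → F) ≠ 0 := by
    intro h0
    have := congrFun h0 1
    simp at this
  have hes : (Pi.single 0 1 + Pi.single 1 1 : Fin 2 → F) ≠ 0 := by
    intro h0
    have := congrFun h0 0
    simp at this
  -- linearised form of the hypothesis
  have hlin : ∀ u : Fin 2 → F, u ≠ 0 → ∃ (p : Fin 2 → F) (γ : (Fin 2 → F) →ₗ[F] (Fin 2 → F)),
      p ≠ 0 ∧ ∀ y, M (pt u y) = pt p (γ y) := by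
    intro u hu
    obtain ⟨p, hp, hpy⟩ := h u hu
    obtain ⟨ψ, hψ⟩ := exists_dual_one hp
    refine ⟨p, (contrL ψ).comp (M.comp (ptLeft u)), hp, fun y => ?_⟩
    obtain ⟨y', hy'⟩ := hpy y
    rw [LinearMap.comp_apply, LinearMap.comp_apply, ptLeft_apply, hy', contrL_pt, hψ, one_smul]
  obtain ⟨p₀, γ₀, hp₀, h₀⟩ := hlin _ he₀
  obtain ⟨p₁, γ₁, hp₁, h₁⟩ := hlin _ he₁
  obtain ⟨s, γs, hs, hγs⟩ := hlin _ hes
  have hstar : ∀ y, pt p₀ (γ₀ y) + pt p₁ (γ₁ y) = pt s (γs y) := by
    intro y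
    rw [← h₀, ← h₁, ← hγs, ← map_add, pt_add_left]
  -- independence of `p₀`, `p₁`
  have hcr : cross p₀ p₁ ≠ 0 := by
    intro hc
    obtain ⟨c, rfl⟩ := exists_smul_of_cross hp₀ hc
    have hrange : LinearMap.range M ≤ LinearMap.range (ptLeft (n₂ := 2) p₀) := by
      rintro _ ⟨v, rfl⟩
      rw [eq_pt_add_pt v, map_add, h₀, h₁]
      exact ⟨γ₀ (fun j => v (0, j)) + c • γ₁ (fun j => v (1, j)), by
        rw [ptLeft_apply, pt_add_right, pt_smul_right, pt_smul_left]⟩
    have h4 := Submodule.finrank_mono hrange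
    rw [LinearMap.finrank_range_of_inj hM, LinearMap.finrank_range_of_inj (ptLeft_injective hp₀),
      Module.finrank_fintype_fun_eq_card, Module.finrank_fintype_fun_eq_card, Fintype.card_prod,
      Fintype.card_fin] at h4
    omega
  -- the dual functionals
  obtain ⟨φ₀, hφ₀⟩ : ∃ φ₀ : Module.Dual F (Fin 2 → F), ∀ x, φ₀ x = cross x p₁ / cross p₀ p₁ := by
    refine ⟨(cross p₀ p₁)⁻¹ • (p₁ 1 • LinearMap.proj 0 - p₁ 0 • LinearMap.proj 1), fun x => ?_⟩
    simp only [LinearMap.smul_apply, LinearMap.sub_apply, LinearMap.proj_apply, smul_eq_mul]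
    unfold cross
    field_simp
  obtain ⟨φ₁, hφ₁⟩ : ∃ φ₁ : Module.Dual F (Fin 2 → F), ∀ x, φ₁ x = cross p₀ x / cross p₀ p₁ := by
    refine ⟨(cross p₀ p₁)⁻¹ • (p₀ 0 • LinearMap.proj 1 - p₀ 1 • LinearMap.proj 0), fun x => ?_⟩
    simp only [LinearMap.smul_apply, LinearMap.sub_apply, LinearMap.proj_apply, smul_eq_mul]
    unfold cross
    field_simp
  have h00 : φ₀ p₀ = 1 := by rw [hφ₀, div_self hcr]
  have h01 : φ₀ p₁ = 0 := by
    rw [hφ₀]
    unfold cross
    rw [show p₁ 0 * p₁ 1 - p₁ 1 * p₁ 0 = 0 by ring, zero_div]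
  have h10 : φ₁ p₀ = 0 := by
    rw [hφ₁]
    unfold cross
    rw [show p₀ 0 * p₀ 1 - p₀ 1 * p₀ 0 = 0 by ring, zero_div]
  have h11 : φ₁ p₁ = 1 := by rw [hφ₁, div_self hcr]
  have hγ₀ : ∀ y, γ₀ y = φ₀ s • γs y := by
    intro y
    have := congrArg (contrL φ₀) (hstar y)
    rw [map_add, contrL_pt, contrL_pt, contrL_pt, h00, h01, one_smul, zero_smul, add_zero] at this
    exact this
  have hγ₁ : ∀ y, γ₁ y = φ₁ s • γs y := by
    intro y
    have := congrArg (contrL φ₁) (hstar y)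
    rw [map_add, contrL_pt, contrL_pt, contrL_pt, h10, h11, one_smul, zero_smul, zero_add] at this
    exact this
  refine ⟨(LinearMap.proj 0).smulRight (φ₀ s • p₀) + (LinearMap.proj 1).smulRight (φ₁ s • p₁), γs,
    fun u y => ?_⟩
  rw [pt_decomp u y, map_add, map_smul, map_smul, h₀, h₁, hγ₀, hγ₁]
  simp only [LinearMap.add_apply, LinearMap.smulRight_apply, LinearMap.proj_apply]
  rw [pt_add_left, pt_smul_left, pt_smul_left, pt_smul_left, pt_smul_left, pt_smul_right,
    pt_smul_right]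

end Cfsg.Agent.Lib.Helper2.Oev
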