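import Mathlib
import Cfsg.Prelude
import Cfsg.Agent.Lib.Helper2.OevX
import Cfsg.Agent.Lib.Helper2.OevJ

set_option autoImplicit false
set_option linter.unusedSectionVars false
set_option linter.unusedVariables false
open Cfsg

/-! Subspaces `Fⁿ¹ ⊗ U` of a tensor decomposition: dimension, intersections, images under
Kronecker products, total singularity. -/

namespace Cfsg.Agent.Lib.Helper2.Oev

open Matrix Module QuadraticMap Cfsg.Agent.Lib.Helper5.TensorSub
  Cfsg.Agent.Lib.Helper5.TensorFormSub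
open scoped Kronecker

variable {ι : Type} [Fintype ι] [DecidableEq ι] {F : Type*} [Field F]
  {Q : QuadraticForm F (ι → F)} {n₁ n₂ : ℕ}
  (e : ι ≃ Fin n₁ × Fin n₂) (P : Matrix.GeneralLinearGroup ι F)

/-- the vectors all of whose rows lie in `U` -/
def rowsMap (U : Submodule F (Fin n₂ → F)) : (Fin n₁ → U) →ₗ[F] (ι → F) where
  toFun w := emb e P (rowsVec fun i => ((w i : U) : Fin n₂ → F))
  map_add' w w' := by
    rw [← emb_add]
    rfl
  map_smul' a w := by
    rw [RingHom.id_apply, ← emb_smul]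
    rfl

theorem rowsMap_apply (U : Submodule F (Fin n₂ → F)) (w : Fin n₁ → U) :
    rowsMap e P U w = emb e P (rowsVec fun i => ((w i : U) : Fin n₂ → F)) := rfl

theorem rowsMap_injective (U : Submodule F (Fin n₂ → F)) :
    Function.Injective (rowsMap e P U) := by
  intro w w' hww
  rw [rowsMap_apply, rowsMap_apply] at hww
  have h1 := emb_injective e P hww
  funext i
  apply Subtype.ext
  funext j
  exact congrFun h1 (i, j)

/-- the subspace `Fⁿ¹ ⊗ U` -/
def rowsSpace (U : Submodule F (Fin n₂ → F)) : Submodule F (ι → F) :=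
  LinearMap.range (rowsMap e P U)

theorem mem_rowsSpace_iff (U : Submodule F (Fin n₂ → F)) (x : ι → F) :
    x ∈ rowsSpace e P U ↔
      ∃ X : Fin n₁ × Fin n₂ → F, (∀ i, (fun j => X (i, j)) ∈ U) ∧ emb e P X = x := by
  constructor
  · rintro ⟨w, rfl⟩
    exact ⟨rowsVec fun i => ((w i : U) : Fin n₂ → F), fun i => (w i).2, rfl⟩
  · rintro ⟨X, hX, rfl⟩
    exact ⟨fun i => ⟨fun j => X (i, j), hX i⟩, rfl⟩

theorem finrank_rowsSpace (U : Submodule F (Fin n₂ → F)) :
    finrank F (rowsSpace e P U) = n₁ * finrank F U := by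
  unfold rowsSpace
  rw [LinearMap.finrank_range_of_inj (rowsMap_injective e P U), Module.finrank_pi_fintype]
  simp

theorem rowsSpace_mono {U U' : Submodule F (Fin n₂ → F)} (h : U ≤ U') :
    rowsSpace e P U ≤ rowsSpace e P U' := by
  intro x hx
  rw [mem_rowsSpace_iff] at hx ⊢
  obtain ⟨X, hX, rfl⟩ := hx
  exact ⟨X, fun i => h (hX i), rfl⟩

theorem rowsSpace_inf (U U' : Submodule F (Fin n₂ → F)) :
    rowsSpace e P (U ⊓ U') = rowsSpace e P U ⊓ rowsSpace e P U' := by
  apply le_antisymm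
  · exact le_inf (rowsSpace_mono e P inf_le_left) (rowsSpace_mono e P inf_le_right)
  · rintro x ⟨hx, hx'⟩
    rw [SetLike.mem_coe, mem_rowsSpace_iff] at hx hx'
    rw [mem_rowsSpace_iff]
    obtain ⟨X, hX, rfl⟩ := hx
    obtain ⟨X', hX', hXX'⟩ := hx'
    have := emb_injective e P hXX'
    subst this
    exact ⟨X', fun i => ⟨hX i, hX' i⟩, rfl⟩

/-- the image of `Fⁿ¹ ⊗ U` under a Kronecker product -/
theorem map_rowsSpace (U : Submodule F (Fin n₂ → F)) (a : Matrix.GeneralLinearGroup (Fin n₁) F)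
    (b : Matrix.GeneralLinearGroup (Fin n₂) F) :
    (rowsSpace e P U).map (Matrix.toLin'
      ((Phi e P (kron a b) : Matrix.GeneralLinearGroup ι F) : Matrix ι ι F)) =
      rowsSpace e P (U.map (Matrix.toLin' (b : Matrix (Fin n₂) (Fin n₂) F))) := by
  have hinj : Function.Injective (Matrix.toLin'
      ((Phi e P (kron a b) : Matrix.GeneralLinearGroup ι F) : Matrix ι ι F)) := by
    intro x y hxy
    have := congrArg (fun z => (((Phi e P (kron a b))⁻¹ : Matrix.GeneralLinearGroup ι F) :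
      Matrix ι ι F) *ᵥ z) hxy
    simp only [Matrix.toLin'_apply, Matrix.mulVec_mulVec, ← Units.val_mul, inv_mul_cancel,
      Units.val_one, Matrix.one_mulVec] at this
    exact this
  have hinjb : Function.Injective (Matrix.toLin' (b : Matrix (Fin n₂) (Fin n₂) F)) := by
    intro x y hxy
    have := congrArg (fun z => ((b⁻¹ : Matrix.GeneralLinearGroup (Fin n₂) F) :
      Matrix (Fin n₂) (Fin n₂) F) *ᵥ z) hxy
    simp only [Matrix.toLin'_apply, Matrix.mulVec_mulVec, ← Units.val_mul, inv_mul_cancel,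
      Units.val_one, Matrix.one_mulVec] at this
    exact this
  apply Submodule.eq_of_le_of_finrank_eq
  · rintro _ ⟨x, hx, rfl⟩
    rw [SetLike.mem_coe, mem_rowsSpace_iff] at hx
    obtain ⟨X, hX, rfl⟩ := hx
    rw [mem_rowsSpace_iff]
    refine ⟨((a : Matrix (Fin n₁) (Fin n₁) F) ⊗ₖ (b : Matrix (Fin n₂) (Fin n₂) F)) *ᵥ X, ?_, ?_⟩
    · intro i
      have hrow : (fun j => (((a : Matrix (Fin n₁) (Fin n₁) F) ⊗ₖ
          (b : Matrix (Fin n₂) (Fin n₂) F)) *ᵥ X) (i, j)) =
          ∑ i', (a : Matrix (Fin n₁) (Fin n₁) F) i i' •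
            ((b : Matrix (Fin n₂) (Fin n₂) F) *ᵥ (fun j => X (i', j))) := by
        funext j
        rw [Finset.sum_apply]
        simp only [Matrix.mulVec, dotProduct, Matrix.kroneckerMap_apply, Fintype.sum_prod_type,
          Pi.smul_apply, smul_eq_mul, Finset.mul_sum]
        refine Finset.sum_congr rfl fun i' _ => ?_
        refine Finset.sum_congr rfl fun j' _ => ?_
        ring
      rw [hrow]
      refine Submodule.sum_mem _ fun i' _ => Submodule.smul_mem _ _ ?_
      exact ⟨fun j => X (i', j), hX i', by rw [Matrix.toLin'_apply]⟩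
    · rw [Matrix.toLin'_apply, Phi_emb, coe_kron]
  · rw [(Submodule.equivMapOfInjective _ hinj _).symm.finrank_eq, finrank_rowsSpace,
      finrank_rowsSpace, (Submodule.equivMapOfInjective _ hinjb _).symm.finrank_eq]

variable {f₁ : (Fin n₁ → F) → (Fin n₁ → F) → F} {f₂ : (Fin n₂ → F) → (Fin n₂ → F) → F}

/-- `Fⁿ¹ ⊗ U` is totally singular when `U` is totally isotropic (odd characteristic) -/
theorem rowsSpace_ts (h2 : (2 : F) ≠ 0) (hf₁ : Cfsg.Geo.IsBilinearForm f₁)
    (hf₂ : Cfsg.Geo.IsBilinearForm f₂)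
    (hT : Cfsg.Geo.IsTensorFormStructure id (polar ⇑Q) f₁ f₂ e P)
    (U : Submodule F (Fin n₂ → F)) (hU : ∀ y ∈ U, ∀ y' ∈ U, f₂ y y' = 0) :
    ∀ x ∈ rowsSpace e P U, Q x = 0 := by
  obtain ⟨c, hc0, hc⟩ := hT
  rintro _ ⟨w, rfl⟩
  apply polar_self_half h2
  rw [rowsMap_apply, rowsVec_eq_sum, emb_sum]
  have hbl : ∀ (s : Finset (Fin n₁)) (v : ι → F),
      polar ⇑Q (∑ i ∈ s, emb e P (pt (Pi.single i (1 : F)) ((w i : U) : Fin n₂ → F))) v =
      ∑ i ∈ s, polar ⇑Q (emb e P (pt (Pi.single i (1 : F)) ((w i : U) : Fin n₂ → F))) v := by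
    intro s v
    classical
    induction s using Finset.induction_on with
    | empty => rw [Finset.sum_empty, Finset.sum_empty, polar_zero_left]
    | insert a s ha ih => rw [Finset.sum_insert ha, Finset.sum_insert ha, polar_add_left, ih]
  rw [hbl]
  apply Finset.sum_eq_zero
  intro i _
  rw [polar_comm, hbl]
  apply Finset.sum_eq_zero
  intro j _
  rw [form_pt e P hf₁ hf₂ hc, hU _ (w j).2 _ (w i).2, mul_zero, mul_zero]

end Cfsg.Agent.Lib.Helper2.Oev
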