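import Mathlib
import Cfsg.Prelude
import Cfsg.Agent.Lib.Helper2.OevY
import Cfsg.Agent.Lib.Helper2.OevP
import Cfsg.Agent.Lib.Helper5.HypDisc
import Cfsg.Agent.Lib.Helper8.SpA1

set_option autoImplicit false
set_option linter.unusedSectionVars false
set_option linter.unusedVariables false
open Cfsg

/-! A hyperbolic symmetric form in dimension four as the tensor square of the symplectic plane:
the tensor basis, coordinates, similitudes and the two rulings. -/

namespace Cfsg.Agent.Lib.Helper2.Oev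

open Matrix Module Cfsg.Agent.Lib.Helper5.TensorFormSub
open scoped Kronecker

variable {F : Type*} [Field F]

/-- the standard alternating matrix -/
def J2 (F : Type*) [Field F] : Matrix (Fin 2) (Fin 2) F := !![0, 1; -1, 0]

theorem J2_det : (J2 F).det = 1 := by
  unfold J2
  rw [Matrix.det_fin_two_of]
  ring

theorem J2_transpose : (J2 F)ᵀ = -J2 F := by
  unfold J2
  ext i j
  fin_cases i <;> fin_cases j <;> simp

/-- linear independence from an invertible Gram matrix -/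
theorem linearIndependent_of_gram {V : Type*} [AddCommGroup V] [Module F V] {κ : Type*}
    [Fintype κ] [DecidableEq κ] (B : LinearMap.BilinForm F V) (v : κ → V) (M : Matrix κ κ F)
    (hM : ∀ k l, B (v k) (v l) = M k l) (hdet : M.det ≠ 0) : LinearIndependent F v := by
  rw [Fintype.linearIndependent_iff]
  intro c hc
  have h1 : Matrix.vecMul c M = 0 := by
    funext l
    have h2 : B (∑ k, c k • v k) (v l) = 0 := by rw [hc, LinearMap.map_zero₂]
    rw [LinearMap.BilinForm.sum_left] at h2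
    simp only [LinearMap.BilinForm.smul_left, hM] at h2
    rw [Pi.zero_apply, ← h2]
    rfl
  have h3 := Matrix.eq_zero_of_vecMul_eq_zero hdet h1
  intro k
  exact congrFun h3 k

section tensorBasis

variable {f₂ : (Fin 4 → F) → (Fin 4 → F) → F}

/-- a symmetric form in dimension four with a totally isotropic plane has a tensor basis -/
theorem exists_tensor_basis_of_ti (h2 : (2 : F) ≠ 0) (hf₂ : Cfsg.Geo.IsSymmetricForm f₂)
    (U : Submodule F (Fin 4 → F)) (hU2 : finrank F U = 2)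
    (hUi : ∀ u ∈ U, ∀ w ∈ U, f₂ u w = 0) :
    ∃ w : Fin 2 × Fin 2 → (Fin 4 → F),
      ∀ p p', f₂ (w p) (w p') = J2 F p.1 p'.1 * J2 F p.2 p'.2 := by
  -- a basis of `U`
  let bU : Basis (Fin 2) F U := Module.finBasisOfFinrankEq F U hU2
  obtain ⟨z, hz⟩ : ∃ z : Fin 2 → (Fin 4 → F), z = fun i => ((bU i : U) : Fin 4 → F) := ⟨_, rfl⟩
  have hzU : ∀ i, z i ∈ U := fun i => by rw [hz]; exact (bU i).2
  have hzli : LinearIndependent F z := by
    have := bU.linearIndependent.map' U.subtype (Submodule.ker_subtype U)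
    rw [hz]
    exact this
  -- the dual family
  let B : LinearMap.BilinForm F (Fin 4 → F) := Cfsg.Agent.Lib.Helper8.Asch.toBilin hf₂.bilinear
  have hBa : ∀ x y, B x y = f₂ x y := fun x y => rfl
  have hBnd : B.Nondegenerate :=
    Cfsg.Agent.Lib.Helper8.Asch.toBilin_nondegenerate hf₂.bilinear hf₂.nondegenerate
  obtain ⟨u, hu⟩ := Cfsg.Agent.Lib.Helper5.HypDisc.exists_dual_family B hBnd z hzli
  have hzu : ∀ i j, f₂ (z i) (u j) = if i = j then 1 else 0 := fun i j => by rw [← hBa, hu]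
  have huz : ∀ i j, f₂ (u j) (z i) = if i = j then 1 else 0 := fun i j => by
    rw [hf₂.symm, hzu]
  have hzz : ∀ i j, f₂ (z i) (z j) = 0 := fun i j => hUi _ (hzU i) _ (hzU j)
  have hb := hf₂.bilinear
  -- the isotropic dual vectors
  obtain ⟨z'₀, hz'₀⟩ : ∃ z'₀, z'₀ = u 0 - (f₂ (u 0) (u 0) / 2) • z 0 - (f₂ (u 0) (u 1) / 2) • z 1 :=
    ⟨_, rfl⟩
  obtain ⟨z'₁, hz'₁⟩ : ∃ z'₁, z'₁ = u 1 - (f₂ (u 1) (u 0) / 2) • z 0 - (f₂ (u 1) (u 1) / 2) • z 1 :=
    ⟨_, rfl⟩
  have e1 : ∀ (x a b : Fin 4 → F) (s t : F) (y : Fin 4 → F),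
      f₂ (x - s • a - t • b) y = f₂ x y - s * f₂ a y - t * f₂ b y := by
    intro x a b s t y
    rw [sub_left hb, sub_left hb, hb.smul_left, hb.smul_left]
  have e2 : ∀ (x a b : Fin 4 → F) (s t : F) (y : Fin 4 → F),
      f₂ y (x - s • a - t • b) = f₂ y x - s * f₂ y a - t * f₂ y b := by
    intro x a b s t y
    rw [sub_right hb, sub_right hb, hb.smul_right, hb.smul_right]
  have h01 : (0 : Fin 2) ≠ 1 := by decide
  have h10 : (1 : Fin 2) ≠ 0 := by decide
  have hz0z'0 : f₂ (z 0) z'₀ = 1 := by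
    rw [hz'₀, e2, hzu, hzz, hzz, if_pos rfl]; ring
  have hz1z'0 : f₂ (z 1) z'₀ = 0 := by
    rw [hz'₀, e2, hzu, hzz, hzz, if_neg h10]; ring
  have hz0z'1 : f₂ (z 0) z'₁ = 0 := by
    rw [hz'₁, e2, hzu, hzz, hzz, if_neg h01]; ring
  have hz1z'1 : f₂ (z 1) z'₁ = 1 := by
    rw [hz'₁, e2, hzu, hzz, hzz, if_pos rfl]; ring
  have hsym01 : f₂ (u 1) (u 0) = f₂ (u 0) (u 1) := hf₂.symm _ _
  have hz'0z'0 : f₂ z'₀ z'₀ = 0 := by
    rw [hz'₀, e1, e2, e2, e2]
    simp only [hzu, huz, hzz, eq_self_iff_true, if_true, if_neg h10, if_neg h01]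
    field_simp
    ring
  have hz'1z'1 : f₂ z'₁ z'₁ = 0 := by
    rw [hz'₁, e1, e2, e2, e2]
    simp only [hzu, huz, hzz, eq_self_iff_true, if_true, if_neg h10, if_neg h01]
    field_simp
    ring
  have hz'0z'1 : f₂ z'₀ z'₁ = 0 := by
    rw [hz'₀, hz'₁, e1, e2, e2, e2]
    simp only [hzu, huz, hzz, eq_self_iff_true, if_true, if_neg h10, if_neg h01, hsym01]
    field_simp
    ring
  have hs : ∀ x y, f₂ x y = f₂ y x := hf₂.symm
  refine ⟨fun p => ![![z 0, z 1], ![-z'₁, z'₀]] p.1 p.2, ?_⟩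
  rintro ⟨i, j⟩ ⟨k, l⟩
  fin_cases i <;> fin_cases j <;> fin_cases k <;> fin_cases l <;>
    simp [J2, neg_left hb, neg_right hb, hzz, hz0z'0, hz1z'0, hz0z'1, hz1z'1, hz'0z'0, hz'1z'1,
      hz'0z'1, hs z'₀ (z 0), hs z'₀ (z 1), hs z'₁ (z 0), hs z'₁ (z 1), hs z'₁ z'₀]

/-- a hyperbolic symmetric form in dimension four has a tensor basis -/
theorem exists_tensor_basis (h2 : (2 : F) ≠ 0) (hf₂ : Cfsg.Geo.IsSymmetricForm f₂)
    (hp : Cfsg.Geo.IsPlusTypeOn (fun v : Fin 4 → F => f₂ v v) ⊤) :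
    ∃ w : Fin 2 × Fin 2 → (Fin 4 → F),
      ∀ p p', f₂ (w p) (w p') = J2 F p.1 p'.1 * J2 F p.2 p'.2 := by
  obtain ⟨U, -, hUts, hUdim⟩ := hp
  rw [finrank_top, Module.finrank_fintype_fun_eq_card, Fintype.card_fin] at hUdim
  have hU2 : finrank F U = 2 := by omega
  exact exists_tensor_basis_of_ti h2 hf₂ U hU2 (polarise h2 hf₂ U hUts)

end tensorBasis

end Cfsg.Agent.Lib.Helper2.Oev
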