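import Mathlib
import Cfsg.Prelude
import Cfsg.Agent.Lib.Helper2.OevYa
import Cfsg.Agent.Lib.Helper2.OevX
import Cfsg.Agent.Lib.Helper5.OrthParity

set_option autoImplicit false
set_option linter.unusedSectionVars false
set_option linter.unusedVariables false
open Cfsg

/-! Similitudes of the tensor square of the symplectic plane: the matrix in the tensor basis, the
two rulings, and the parity argument which forces elements of `Ω` to preserve each ruling. -/

namespace Cfsg.Agent.Lib.Helper2.Oev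

open Matrix Module Cfsg.Agent.Lib.Helper5.TensorFormSub Cfsg.Agent.Lib.Helper5.TensorSub
open scoped Kronecker

variable {F : Type*} [Field F]

section basis

variable {f₂ : (Fin 4 → F) → (Fin 4 → F) → F}

/-- the tensor family is a basis -/
theorem exists_basis_of_tensor_family (hf₂ : Cfsg.Geo.IsSymmetricForm f₂)
    (w : Fin 2 × Fin 2 → (Fin 4 → F))
    (hw : ∀ p p', f₂ (w p) (w p') = J2 F p.1 p'.1 * J2 F p.2 p'.2) :
    ∃ wB : Basis (Fin 2 × Fin 2) F (Fin 4 → F), ⇑wB = w := by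
  have hdet : (J2 F ⊗ₖ J2 F).det ≠ 0 := by
    rw [Matrix.det_kronecker, J2_det]
    simp
  have hli := linearIndependent_of_gram
    (Cfsg.Agent.Lib.Helper8.Asch.toBilin hf₂.bilinear) w (J2 F ⊗ₖ J2 F)
    (fun k l => by
      rw [Matrix.kroneckerMap_apply]
      exact hw k l) hdet
  have hcard : Fintype.card (Fin 2 × Fin 2) = finrank F (Fin 4 → F) := by
    rw [Module.finrank_fintype_fun_eq_card]
    simp
  exact ⟨basisOfLinearIndependentOfCardEqFinrank hli hcard,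
    coe_basisOfLinearIndependentOfCardEqFinrank _ _⟩

variable (wB : Basis (Fin 2 × Fin 2) F (Fin 4 → F))

/-- the form in tensor coordinates -/
theorem form_hat (hb : Cfsg.Geo.IsBilinearForm f₂)
    (hw : ∀ p p', f₂ (wB p) (wB p') = J2 F p.1 p'.1 * J2 F p.2 p'.2)
    (c d : Fin 2 × Fin 2 → F) :
    f₂ (wB.equivFun.symm c) (wB.equivFun.symm d) =
      c (0, 0) * d (1, 1) - c (0, 1) * d (1, 0) - c (1, 0) * d (0, 1) + c (1, 1) * d (0, 0) := by
  rw [Basis.equivFun_symm_apply, Basis.equivFun_symm_apply, sum_left hb]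
  simp only [sum_right hb, hb.smul_left, hb.smul_right, hw]
  simp only [Fintype.sum_prod_type, Fin.sum_univ_two]
  simp [J2]
  ring

theorem form_hat_self (hb : Cfsg.Geo.IsBilinearForm f₂)
    (hw : ∀ p p', f₂ (wB p) (wB p') = J2 F p.1 p'.1 * J2 F p.2 p'.2)
    (c : Fin 2 × Fin 2 → F) :
    f₂ (wB.equivFun.symm c) (wB.equivFun.symm c) = 2 * det2 c := by
  rw [form_hat wB hb hw]
  unfold det2
  ring

theorem form_hat_pt (hb : Cfsg.Geo.IsBilinearForm f₂)
    (hw : ∀ p p', f₂ (wB p) (wB p') = J2 F p.1 p'.1 * J2 F p.2 p'.2)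
    (u y u' y' : Fin 2 → F) :
    f₂ (wB.equivFun.symm (pt u y)) (wB.equivFun.symm (pt u' y')) = cross u u' * cross y y' := by
  rw [form_hat wB hb hw]
  unfold cross
  simp only [pt_apply]
  ring

/-- the matrix of `b` in the tensor basis, as a linear map of arrays -/
noncomputable def arrMap (b : Matrix (Fin 4) (Fin 4) F) :
    (Fin 2 × Fin 2 → F) →ₗ[F] (Fin 2 × Fin 2 → F) :=
  wB.equivFun.toLinearMap ∘ₗ Matrix.toLin' b ∘ₗ wB.equivFun.symm.toLinearMap

theorem arrMap_apply (b : Matrix (Fin 4) (Fin 4) F) (c : Fin 2 × Fin 2 → F) :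
    arrMap wB b c = wB.equivFun (b *ᵥ wB.equivFun.symm c) := rfl

theorem hat_arrMap (b : Matrix (Fin 4) (Fin 4) F) (c : Fin 2 × Fin 2 → F) :
    wB.equivFun.symm (arrMap wB b c) = b *ᵥ wB.equivFun.symm c := by
  rw [arrMap_apply, LinearEquiv.symm_apply_apply]

theorem arrMap_injective (b : Matrix.GeneralLinearGroup (Fin 4) F) :
    Function.Injective (arrMap wB (b : Matrix (Fin 4) (Fin 4) F)) := by
  intro c d hcd
  have h1 : wB.equivFun.symm (arrMap wB (b : Matrix (Fin 4) (Fin 4) F) c) =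
      wB.equivFun.symm (arrMap wB (b : Matrix (Fin 4) (Fin 4) F) d) := by rw [hcd]
  rw [hat_arrMap, hat_arrMap] at h1
  have h2 : ((b⁻¹ : Matrix.GeneralLinearGroup (Fin 4) F) : Matrix (Fin 4) (Fin 4) F) *ᵥ
      ((b : Matrix (Fin 4) (Fin 4) F) *ᵥ wB.equivFun.symm c) =
      ((b⁻¹ : Matrix.GeneralLinearGroup (Fin 4) F) : Matrix (Fin 4) (Fin 4) F) *ᵥ
      ((b : Matrix (Fin 4) (Fin 4) F) *ᵥ wB.equivFun.symm d) := by rw [h1]
  rw [Matrix.mulVec_mulVec, Matrix.mulVec_mulVec, ← Units.val_mul, inv_mul_cancel, Units.val_one,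
    Matrix.one_mulVec, Matrix.one_mulVec] at h2
  exact wB.equivFun.symm.injective h2

theorem det2_arrMap (h2 : (2 : F) ≠ 0) (hb : Cfsg.Geo.IsBilinearForm f₂)
    (hw : ∀ p p', f₂ (wB p) (wB p') = J2 F p.1 p'.1 * J2 F p.2 p'.2)
    (b : Matrix (Fin 4) (Fin 4) F) (μ : F)
    (hsim : ∀ x y, f₂ (b *ᵥ x) (b *ᵥ y) = μ * f₂ x y) (c : Fin 2 × Fin 2 → F) :
    det2 (arrMap wB b c) = μ * det2 c := by
  have h1 := form_hat_self wB hb hw (arrMap wB b c)
  rw [hat_arrMap, hsim, form_hat_self wB hb hw] at h1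
  apply mul_left_cancel₀ h2
  rw [← h1]
  ring

end basis

theorem finrank_map_inj {V W : Type*} [AddCommGroup V] [Module F V] [AddCommGroup W] [Module F W]
    (f : V →ₗ[F] W) (hf : Function.Injective f) (S : Submodule F V) :
    finrank F ↥(S.map f) = finrank F ↥S :=
  (Submodule.equivMapOfInjective f hf S).finrank_eq.symm

/-- the two rulings meet in a line -/
theorem finrank_inf_ptLeft_ptRight {u y₀ : Fin 2 → F} (hu : u ≠ 0) (hy : y₀ ≠ 0) :
    finrank F ↥(LinearMap.range (ptLeft (n₂ := 2) u) ⊓ LinearMap.range (ptRight (n₁ := 2) y₀)) =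
      1 := by
  obtain ⟨i, hi⟩ := exists_ne_zero_coord hu
  obtain ⟨j, hj⟩ := exists_ne_zero_coord hy
  have hne : pt u y₀ ≠ 0 := by
    intro h0
    have := congrFun h0 (i, j)
    rw [pt_apply, Pi.zero_apply] at this
    exact mul_ne_zero hi hj this
  have heq : LinearMap.range (ptLeft (n₂ := 2) u) ⊓ LinearMap.range (ptRight (n₁ := 2) y₀) =
      Submodule.span F {pt u y₀} := by
    apply le_antisymm
    · rintro v ⟨⟨y, rfl⟩, ⟨u', hu'⟩⟩
      rw [Submodule.mem_span_singleton]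
      refine ⟨u' i / u i, ?_⟩
      ext ⟨k, l⟩
      have h1 := congrFun hu' (i, l)
      rw [ptRight_apply, ptLeft_apply, pt_apply, pt_apply] at h1
      rw [Pi.smul_apply, ptLeft_apply, pt_apply, pt_apply, smul_eq_mul]
      field_simp
      linear_combination (u k) * h1
    · rw [Submodule.span_singleton_le_iff_mem]
      exact ⟨⟨y₀, rfl⟩, ⟨u, rfl⟩⟩
  rw [heq]
  exact finrank_span_singleton hne

section factor

open Cfsg.Agent.Lib.Helper5.OrthSingularMax

variable [Fintype F] {ι : Type} [Fintype ι] [DecidableEq ι] {n₁ : ℕ}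
  (Q : QuadraticForm F (ι → F)) (e : ι ≃ Fin n₁ × Fin 4) (P : Matrix.GeneralLinearGroup ι F)
  {f₁ : (Fin n₁ → F) → (Fin n₁ → F) → F} {f₂ : (Fin 4 → F) → (Fin 4 → F) → F}

/-- an element of `Ω` inside the tensor group cannot exchange the two rulings -/
theorem not_swap_rulings (hn₁ : Odd n₁) (hQ : (QuadraticMap.polarBilin Q).Nondegenerate)
    (h2 : (2 : F) ≠ 0)
    (hf₁ : Cfsg.Geo.IsSymmetricForm f₁) (hf₂ : Cfsg.Geo.IsSymmetricForm f₂)
    (hT : Cfsg.Geo.IsTensorFormStructure id (QuadraticMap.polar ⇑Q) f₁ f₂ e P)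
    (wB : Basis (Fin 2 × Fin 2) F (Fin 4 → F))
    (hw : ∀ p p', f₂ (wB p) (wB p') = J2 F p.1 p'.1 * J2 F p.2 p'.2)
    (a : Matrix.GeneralLinearGroup (Fin n₁) F) (b : Matrix.GeneralLinearGroup (Fin 4) F)
    (hg : Phi e P (kron a b) ∈ Cfsg.Geo.omegaGL ⇑Q)
    {u y₀ : Fin 2 → F} (hu : u ≠ 0) (hy₀ : y₀ ≠ 0)
    (hswap : (LinearMap.range (ptLeft (n₂ := 2) u)).map
        (arrMap wB (b : Matrix (Fin 4) (Fin 4) F)) =
      LinearMap.range (ptRight (n₁ := 2) y₀)) : False := by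
  obtain ⟨α, hα, hαg⟩ := (mem_omegaGL_iff Q _).mp hg
  obtain ⟨ŵ, hŵ⟩ : ∃ ŵ : (Fin 2 × Fin 2 → F) →ₗ[F] (Fin 4 → F),
      ŵ = wB.equivFun.symm.toLinearMap := ⟨_, rfl⟩
  have hŵa : ∀ c, ŵ c = wB.equivFun.symm c := fun c => by rw [hŵ]; rfl
  have hŵinj : Function.Injective ŵ := by
    rw [hŵ]
    exact wB.equivFun.symm.injective
  obtain ⟨ZL, hZL⟩ : ∃ ZL : Submodule F (Fin 4 → F),
      ZL = (LinearMap.range (ptLeft (n₂ := 2) u)).map ŵ := ⟨_, rfl⟩
  obtain ⟨ZR, hZR⟩ : ∃ ZR : Submodule F (Fin 4 → F),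
      ZR = (LinearMap.range (ptRight (n₁ := 2) y₀)).map ŵ := ⟨_, rfl⟩
  have hZLts : ∀ y ∈ ZL, ∀ y' ∈ ZL, f₂ y y' = 0 := by
    rw [hZL]
    rintro _ ⟨_, ⟨t, rfl⟩, rfl⟩ _ ⟨_, ⟨t', rfl⟩, rfl⟩
    rw [hŵa, hŵa, ptLeft_apply, ptLeft_apply, form_hat_pt wB hf₂.bilinear hw]
    unfold cross
    ring
  have hZLdim : finrank F ZL = 2 := by
    rw [hZL, finrank_map_inj ŵ hŵinj,
      LinearMap.finrank_range_of_inj (ptLeft_injective hu), Module.finrank_fintype_fun_eq_card,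
      Fintype.card_fin]
  have h𝕌 : Cfsg.Agent.Lib.Helper5.MaxTS.IsMaxTS Q (2 * n₁) (rowsSpace e P ZL) :=
    ⟨by rw [finrank_rowsSpace, hZLdim]; ring,
      rowsSpace_ts e P h2 hf₁.bilinear hf₂.bilinear hT ZL hZLts⟩
  have hV : finrank F (ι → F) = 2 * (2 * n₁) := by
    rw [Module.finrank_fintype_fun_eq_card, Fintype.card_congr e, Fintype.card_prod,
      Fintype.card_fin, Fintype.card_fin]
    ring
  have hpar := Cfsg.Agent.Lib.Helper5.OrthParity.even_of_mem_Omega Q hQ (2 * n₁) hV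
    (rowsSpace e P ZL) h𝕌 α hα
  have hcomm : (Matrix.toLin' (b : Matrix (Fin 4) (Fin 4) F)) ∘ₗ ŵ =
      ŵ ∘ₗ arrMap wB (b : Matrix (Fin 4) (Fin 4) F) := by
    apply LinearMap.ext
    intro c
    rw [LinearMap.comp_apply, LinearMap.comp_apply, hŵa, hŵa, hat_arrMap, Matrix.toLin'_apply]
  have hZLR : ZL.map (Matrix.toLin' (b : Matrix (Fin 4) (Fin 4) F)) = ZR := by
    rw [hZL, hZR, ← hswap, ← Submodule.map_comp, ← Submodule.map_comp, hcomm]
  have himg : Cfsg.Agent.Lib.Helper5.OrthParity.img Q α (rowsSpace e P ZL) =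
      rowsSpace e P ZR := by
    unfold Cfsg.Agent.Lib.Helper5.OrthParity.img
    rw [hαg, map_rowsSpace, hZLR]
  have hinf : finrank F ↥(ZL ⊓ ZR) = 1 := by
    rw [hZL, hZR, ← Submodule.map_inf ŵ hŵinj, finrank_map_inj ŵ hŵinj,
      finrank_inf_ptLeft_ptRight hu hy₀]
  rw [himg, ← rowsSpace_inf, finrank_rowsSpace, hinf, mul_one] at hpar
  have h3 : 2 * n₁ - n₁ = n₁ := by omega
  rw [h3] at hpar
  exact (Nat.not_even_iff_odd.mpr hn₁) hpar

/-- the standard basis arrays are pure tensors -/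
theorem single_eq_pt (i j : Fin 2) :
    (Pi.single (i, j) 1 : Fin 2 × Fin 2 → F) = pt (Pi.single i 1) (Pi.single j 1) := by
  ext ⟨k, l⟩
  rw [pt_apply]
  by_cases hk : k = i
  · by_cases hl : l = j
    · subst hk hl
      simp
    · have : (k, l) ≠ (i, j) := fun h => hl (Prod.ext_iff.mp h).2
      rw [Pi.single_eq_of_ne this, Pi.single_eq_of_ne hl, mul_zero]
  · have : (k, l) ≠ (i, j) := fun h => hk (Prod.ext_iff.mp h).1
    rw [Pi.single_eq_of_ne this, Pi.single_eq_of_ne hk, zero_mul]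

/-- an element of `Ω` inside the tensor group: the second factor is a Kronecker product in the
tensor basis -/
theorem exists_factor (hn₁ : Odd n₁) (hQ : (QuadraticMap.polarBilin Q).Nondegenerate)
    (h2 : (2 : F) ≠ 0)
    (hf₁ : Cfsg.Geo.IsSymmetricForm f₁) (hf₂ : Cfsg.Geo.IsSymmetricForm f₂)
    (hT : Cfsg.Geo.IsTensorFormStructure id (QuadraticMap.polar ⇑Q) f₁ f₂ e P)
    (wB : Basis (Fin 2 × Fin 2) F (Fin 4 → F))
    (hw : ∀ p p', f₂ (wB p) (wB p') = J2 F p.1 p'.1 * J2 F p.2 p'.2)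
    (a : Matrix.GeneralLinearGroup (Fin n₁) F) (b : Matrix.GeneralLinearGroup (Fin 4) F)
    (hg : Phi e P (kron a b) ∈ Cfsg.Geo.omegaGL ⇑Q) :
    ∃ U β : Matrix (Fin 2) (Fin 2) F, ∀ i j,
      (b : Matrix (Fin 4) (Fin 4) F) *ᵥ wB (i, j) =
        ∑ i', ∑ j', (U i' i * β j' j) • wB (i', j') := by
  obtain ⟨α, hα, hαg⟩ := (mem_omegaGL_iff Q _).mp hg
  have hpol : ∀ x y : ι → F,
      QuadraticMap.polar ⇑Q
        (((Phi e P (kron a b) : Matrix.GeneralLinearGroup ι F) : Matrix ι ι F) *ᵥ x)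
        (((Phi e P (kron a b) : Matrix.GeneralLinearGroup ι F) : Matrix ι ι F) *ᵥ y) =
      QuadraticMap.polar ⇑Q x y := by
    intro x y
    have := Cfsg.Agent.Lib.Helper5.CartanDieudonne.polar_act Q α x y
    unfold Cfsg.Agent.Lib.Helper5.CartanDieudonne.act at this
    rw [hαg] at this
    exact this
  have hn0 : 0 < n₁ := hn₁.pos
  have hne₁ : ∃ x y, f₁ x y ≠ 0 := by
    have hv : (Pi.single (⟨0, hn0⟩ : Fin n₁) (1 : F) : Fin n₁ → F) ≠ 0 := by
      intro h0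
      have := congrFun h0 ⟨0, hn0⟩
      rw [Pi.single_eq_same, Pi.zero_apply] at this
      exact one_ne_zero this
    obtain ⟨x, hx⟩ := (hf₁.nondegenerate _ hv).2
    exact ⟨_, x, hx⟩
  have hne₂ : ∃ x y, f₂ x y ≠ 0 := by
    refine ⟨wB (0, 0), wB (1, 1), ?_⟩
    rw [hw]
    simp [J2]
  obtain ⟨l, hl0, -, hsim⟩ := exists_mult e P hf₁.bilinear hf₂.bilinear hne₁ hne₂ hT a b hpol
  have hMinj := arrMap_injective wB b
  have hdet := det2_arrMap wB h2 hf₂.bilinear hw (b : Matrix (Fin 4) (Fin 4) F) l⁻¹ hsim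
  have hruling : ∀ u : Fin 2 → F, u ≠ 0 → ∃ u' : Fin 2 → F, u' ≠ 0 ∧
      ∀ y, ∃ y', arrMap wB (b : Matrix (Fin 4) (Fin 4) F) (pt u y) = pt u' y' := by
    intro u hu
    have hd : finrank F ↥((LinearMap.range (ptLeft (n₂ := 2) u)).map
        (arrMap wB (b : Matrix (Fin 4) (Fin 4) F))) = 2 := by
      rw [finrank_map_inj _ hMinj, LinearMap.finrank_range_of_inj (ptLeft_injective hu),
        Module.finrank_fintype_fun_eq_card, Fintype.card_fin]
    have hZ : ∀ v ∈ (LinearMap.range (ptLeft (n₂ := 2) u)).map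
        (arrMap wB (b : Matrix (Fin 4) (Fin 4) F)), det2 v = 0 := by
      rintro _ ⟨_, ⟨t, rfl⟩, rfl⟩
      rw [hdet, ptLeft_apply, det2_pt, mul_zero]
    rcases ts_plane_cases _ hd hZ with ⟨u', hu', hZu'⟩ | ⟨y₀, hy₀, hZy₀⟩
    · refine ⟨u', hu', fun y => ?_⟩
      have hmem : arrMap wB (b : Matrix (Fin 4) (Fin 4) F) (pt u y) ∈
          (LinearMap.range (ptLeft (n₂ := 2) u)).map
            (arrMap wB (b : Matrix (Fin 4) (Fin 4) F)) :=
        ⟨_, ⟨y, rfl⟩, rfl⟩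
      rw [hZu'] at hmem
      obtain ⟨y', hy'⟩ := hmem
      exact ⟨y', hy'.symm⟩
    · exact absurd hZy₀ (fun h => not_swap_rulings Q e P hn₁ hQ h2 hf₁ hf₂ hT wB hw a b hg hu hy₀ h)
  obtain ⟨U, β, hUβ⟩ := kron_of_left_ruling _ hMinj hruling
  refine ⟨Matrix.of fun i' i => U (Pi.single i 1) i', Matrix.of fun j' j => β (Pi.single j 1) j',
    fun i j => ?_⟩
  have h1 : wB (i, j) = wB.equivFun.symm (pt (Pi.single i 1) (Pi.single j 1)) := by
    rw [← single_eq_pt, LinearEquiv.eq_symm_apply]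
    ext p
    rw [Basis.equivFun_self, Pi.single_apply]
    by_cases hp : p = (i, j)
    · rw [if_pos hp, if_pos hp.symm]
    · rw [if_neg hp, if_neg (fun h => hp h.symm)]
  rw [h1, ← hat_arrMap, hUβ, Basis.equivFun_symm_apply, Fintype.sum_prod_type]
  refine Finset.sum_congr rfl fun i' _ => Finset.sum_congr rfl fun j' _ => ?_
  rw [pt_apply, Matrix.of_apply, Matrix.of_apply]

end factor

end Cfsg.Agent.Lib.Helper2.Oev
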