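import Mathlib
import Cfsg.Prelude
import Cfsg.Agent.Lib.Helper2.OevW
import Cfsg.Agent.Lib.Helper2.OevYb
import Cfsg.Agent.Lib.Helper9.OE12c
import Cfsg.Agent.Lib.Helper9.OE12e

set_option autoImplicit false
set_option linter.unusedSectionVars false
set_option linter.unusedVariables false
set_option maxHeartbeats 1600000
open Cfsg

/-! The maximal subgroups of `Ω₁₂⁺(q)`: the tensor product `O₃ ⊗ O₄⁺` is regrouped as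
`Sp₂ ⊗ Sp₆`. -/

namespace Cfsg.Agent.Lib.Helper2.Oev

open Matrix QuadraticMap Module Cfsg.Agent.Lib.Helper5.OmegaSimple
  Cfsg.Agent.Lib.Helper5.TensorFormSub Cfsg.Agent.Lib.Helper5.TensorSub

/-- the tensor case `3 ⊗ 4`, given the regrouping lemma -/
theorem h34_of {F : Type*} [Field F] [Fintype F] (Q : QuadraticForm F (Fin 12 → F))
    (Hy : Hyp Q) (hplus : Cfsg.Geo.IsPlusTypeOn ⇑Q ⊤)
    (hD : ∀ (e : Fin 12 ≃ Fin 3 × Fin 4) (P : Matrix.GeneralLinearGroup (Fin 12) F)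
      (f₁ : (Fin 3 → F) → (Fin 3 → F) → F) (f₂ : (Fin 4 → F) → (Fin 4 → F) → F),
      (2 : F) ≠ 0 → Cfsg.Geo.IsSymmetricForm f₁ → Cfsg.Geo.IsSymmetricForm f₂ →
      Cfsg.Geo.IsTensorFormStructure id (QuadraticMap.polar ⇑Q) f₁ f₂ e P →
      ∀ w : Fin 2 × Fin 2 → (Fin 4 → F),
      (∀ p p', f₂ (w p) (w p') = (!![0, 1; -1, 0] : Matrix (Fin 2) (Fin 2) F) p.1 p'.1 *
        (!![0, 1; -1, 0] : Matrix (Fin 2) (Fin 2) F) p.2 p'.2) →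
      ∀ H : Subgroup (Matrix.GeneralLinearGroup (Fin 12) F), H ≤ Cfsg.isometryGroup F ⇑Q →
      (∀ g ∈ H, ∃ (a : Matrix.GeneralLinearGroup (Fin 3) F)
          (b : Matrix.GeneralLinearGroup (Fin 4) F) (U β : Matrix (Fin 2) (Fin 2) F),
        g = Phi e P (kron a b) ∧
        ∀ i j, (b : Matrix (Fin 4) (Fin 4) F) *ᵥ w (i, j) =
          ∑ i', ∑ j', (U i' i * β j' j) • w (i', j')) →
      ∃ M, Cfsg.Agent.Lib.Helper5.AschE.Cls4b ⇑Q M ∧ H ≤ M)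
    (e : Fin 12 ≃ Fin 3 × Fin 4) (P : Matrix.GeneralLinearGroup (Fin 12) F)
    (f₁ : (Fin 3 → F) → (Fin 3 → F) → F) (f₂ : (Fin 4 → F) → (Fin 4 → F) → F)
    (h2 : (2 : F) ≠ 0) (hf₁ : Cfsg.Geo.IsSymmetricForm f₁) (hf₂ : Cfsg.Geo.IsSymmetricForm f₂)
    (hT : Cfsg.Geo.IsTensorFormStructure id (QuadraticMap.polar ⇑Q) f₁ f₂ e P) :
    ∃ M, Cfsg.Agent.Lib.Helper5.AschE.Cls4b ⇑Q M ∧
      Cfsg.Geo.tensorProductSubgroup 3 4 e P ⊓ Cfsg.Geo.omegaGL ⇑Q ≤ M := by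
  obtain ⟨U, hU2, hUi⟩ := Cfsg.Agent.Lib.Helper9.OE12.tensor_odd_plus Q h2 e P f₁ f₂ hf₁ hf₂ hT 2
    rfl (by decide) hplus
  obtain ⟨w, hw⟩ := exists_tensor_basis_of_ti h2 hf₂ U hU2 hUi
  obtain ⟨wB, hwB⟩ := exists_basis_of_tensor_family hf₂ w hw
  have hwB' : ∀ p p', f₂ (wB p) (wB p') = J2 F p.1 p'.1 * J2 F p.2 p'.2 := by
    intro p p'
    rw [hwB]
    exact hw p p'
  refine hD e P f₁ f₂ h2 hf₁ hf₂ hT w hw _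
    (inf_le_right.trans (Cfsg.Agent.Lib.Helper5.AschO.omegaGL_le_isom _)) ?_
  rintro g ⟨hgt, hgΩ⟩
  obtain ⟨a, b, rfl⟩ := (mem_tensor e P g).mp hgt
  obtain ⟨U', β, hUβ⟩ := exists_factor Q e P (by decide) Hy.nondeg h2 hf₁ hf₂ hT wB hwB' a b hgΩ
  refine ⟨a, b, U', β, rfl, fun i j => ?_⟩
  have := hUβ i j
  rw [hwB] at this
  exact this

/-- the maximal subgroups of `Ω₁₂⁺(q)`, given the regrouping lemma -/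
theorem main12plus_of' {F : Type*} [Field F] [Fintype F] (Q : QuadraticForm F (Fin 12 → F))
    (Hy : Hyp Q) (hplus : Cfsg.Geo.IsPlusTypeOn ⇑Q ⊤)
    (H : Subgroup (Matrix.GeneralLinearGroup (Fin 12) F))
    (hH : Cfsg.Geo.IsMaximalIn (Cfsg.Geo.omegaGL ⇑Q) H)
    (hD : ∀ (e : Fin 12 ≃ Fin 3 × Fin 4) (P : Matrix.GeneralLinearGroup (Fin 12) F)
      (f₁ : (Fin 3 → F) → (Fin 3 → F) → F) (f₂ : (Fin 4 → F) → (Fin 4 → F) → F),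
      (2 : F) ≠ 0 → Cfsg.Geo.IsSymmetricForm f₁ → Cfsg.Geo.IsSymmetricForm f₂ →
      Cfsg.Geo.IsTensorFormStructure id (QuadraticMap.polar ⇑Q) f₁ f₂ e P →
      ∀ w : Fin 2 × Fin 2 → (Fin 4 → F),
      (∀ p p', f₂ (w p) (w p') = (!![0, 1; -1, 0] : Matrix (Fin 2) (Fin 2) F) p.1 p'.1 *
        (!![0, 1; -1, 0] : Matrix (Fin 2) (Fin 2) F) p.2 p'.2) →
      ∀ H : Subgroup (Matrix.GeneralLinearGroup (Fin 12) F), H ≤ Cfsg.isometryGroup F ⇑Q →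
      (∀ g ∈ H, ∃ (a : Matrix.GeneralLinearGroup (Fin 3) F)
          (b : Matrix.GeneralLinearGroup (Fin 4) F) (U β : Matrix (Fin 2) (Fin 2) F),
        g = Phi e P (kron a b) ∧
        ∀ i j, (b : Matrix (Fin 4) (Fin 4) F) *ᵥ w (i, j) =
          ∑ i', ∑ j', (U i' i * β j' j) • w (i', j')) →
      ∃ M, Cfsg.Agent.Lib.Helper5.AschE.Cls4b ⇑Q M ∧ H ≤ M) :
    (∃ W : Submodule F (Fin 12 → F), W ≠ ⊥ ∧ Cfsg.Geo.IsTotallySingularQuad ⇑Q W ∧ Module.finrank F W ≠ 5 ∧ H = Cfsg.Geo.subspaceStabilizer W ⊓ Cfsg.Geo.omegaGL ⇑Q) ∨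
    (Odd (Fintype.card F) ∧ ∃ W : Submodule F (Fin 12 → F), W ≠ ⊥ ∧ W ≠ ⊤ ∧ Odd (Module.finrank F W) ∧ 2 * Module.finrank F W ≠ 12 ∧ Cfsg.Geo.IsNondegenerateOn (QuadraticMap.polar ⇑Q) W ∧ H = Cfsg.Geo.subspaceStabilizer W ⊓ Cfsg.Geo.omegaGL ⇑Q) ∨
    (∃ W : Submodule F (Fin 12 → F), Module.finrank F W = 2 ∧ Cfsg.Geo.IsNondegenerateOn (QuadraticMap.polar ⇑Q) W ∧ ¬ Cfsg.Geo.IsPlusTypeOn ⇑Q W ∧ H = Cfsg.Geo.subspaceStabilizer W ⊓ Cfsg.Geo.omegaGL ⇑Q) ∨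
    (4 ≤ Fintype.card F ∧ ∃ W : Submodule F (Fin 12 → F), Module.finrank F W = 2 ∧ Cfsg.Geo.IsNondegenerateOn (QuadraticMap.polar ⇑Q) W ∧ Cfsg.Geo.IsPlusTypeOn ⇑Q W ∧ H = Cfsg.Geo.subspaceStabilizer W ⊓ Cfsg.Geo.omegaGL ⇑Q) ∨
    (∃ W : Submodule F (Fin 12 → F), Module.finrank F W = 4 ∧ Cfsg.Geo.IsNondegenerateOn (QuadraticMap.polar ⇑Q) W ∧ H = Cfsg.Geo.subspaceStabilizer W ⊓ Cfsg.Geo.omegaGL ⇑Q) ∨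
    (¬ Odd (Fintype.card F) ∧ ∃ v : (Fin 12 → F), ⇑Q v ≠ 0 ∧ H = Cfsg.Geo.subspaceStabilizer (Submodule.span F {v}) ⊓ Cfsg.Geo.omegaGL ⇑Q) ∨
    ((∃ p : ℕ, p.Prime ∧ Odd p ∧ Fintype.card F = p) ∧ ∃ D : Fin 12 → Submodule F (Fin 12 → F), Cfsg.Geo.IsOrthogonalMDecomposition ⇑Q 1 D ∧ H = Cfsg.Geo.decompositionStabilizer D ⊓ Cfsg.Geo.omegaGL ⇑Q) ∨
    (7 ≤ Fintype.card F ∧ ∃ D : Fin 6 → Submodule F (Fin 12 → F), Cfsg.Geo.IsOrthogonalMDecomposition ⇑Q 2 D ∧ (∀ i, Cfsg.Geo.IsPlusTypeOn ⇑Q (D i)) ∧ H = Cfsg.Geo.decompositionStabilizer D ⊓ Cfsg.Geo.omegaGL ⇑Q) ∨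
    (Fintype.card F ≠ 3 ∧ ∃ D : Fin 6 → Submodule F (Fin 12 → F), Cfsg.Geo.IsOrthogonalMDecomposition ⇑Q 2 D ∧ (∀ i, ¬ Cfsg.Geo.IsPlusTypeOn ⇑Q (D i)) ∧ H = Cfsg.Geo.decompositionStabilizer D ⊓ Cfsg.Geo.omegaGL ⇑Q) ∨
    (Odd (Fintype.card F) ∧ 5 ≤ Fintype.card F ∧ ∃ D : Fin 4 → Submodule F (Fin 12 → F), Cfsg.Geo.IsOrthogonalMDecomposition ⇑Q 3 D ∧ H = Cfsg.Geo.decompositionStabilizer D ⊓ Cfsg.Geo.omegaGL ⇑Q) ∨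
    (3 ≤ Fintype.card F ∧ ∃ D : Fin 3 → Submodule F (Fin 12 → F), Cfsg.Geo.IsOrthogonalMDecomposition ⇑Q 4 D ∧ H = Cfsg.Geo.decompositionStabilizer D ⊓ Cfsg.Geo.omegaGL ⇑Q) ∨
    (∃ D : Fin 2 → Submodule F (Fin 12 → F), Cfsg.Geo.IsOrthogonalMDecomposition ⇑Q 6 D ∧ H = Cfsg.Geo.decompositionStabilizer D ⊓ Cfsg.Geo.omegaGL ⇑Q) ∨
    (∃ D : Fin 2 → Submodule F (Fin 12 → F), Cfsg.Geo.IsMDecomposition 6 D ∧ (∀ i, Cfsg.Geo.IsTotallySingularQuad ⇑Q (D i)) ∧ H = Cfsg.Geo.decompositionStabilizer D ⊓ Cfsg.Geo.omegaGL ⇑Q) ∨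
    (∃ K : Subalgebra F (Matrix (Fin 12) (Fin 12) F), Cfsg.Geo.IsFieldSubalgebra 2 K ∧ H = Cfsg.Geo.subalgebraNormalizer K ⊓ Cfsg.Geo.omegaGL ⇑Q) ∨
    (∃ K : Subalgebra F (Matrix (Fin 12) (Fin 12) F), Cfsg.Geo.IsFieldSubalgebra 3 K ∧ H = Cfsg.Geo.subalgebraNormalizer K ⊓ Cfsg.Geo.omegaGL ⇑Q) ∨
    (∃ K : Subalgebra F (Matrix (Fin 12) (Fin 12) F), Cfsg.Geo.IsFieldSubalgebra 2 K ∧ Cfsg.Geo.IsAdjointClosedFor (QuadraticMap.polar ⇑Q) K ∧ ¬ Cfsg.Geo.IsSelfAdjointFor (QuadraticMap.polar ⇑Q) K ∧ (∀ k ∈ K, ∃ c : F, ∀ v : (Fin 12 → F), ⇑Q (Matrix.mulVec k v) = c * ⇑Q v) ∧ H = Cfsg.Geo.subalgebraNormalizer K ⊓ Cfsg.Geo.omegaGL ⇑Q) ∨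
    (3 ≤ Fintype.card F ∧ ∃ (e : Fin 12 ≃ Fin 2 × Fin 6) (P : Matrix.GeneralLinearGroup (Fin 12) F) (f₁ : (Fin 2 → F) → (Fin 2 → F) → F) (f₂ : (Fin 6 → F) → (Fin 6 → F) → F), Cfsg.Geo.IsSymplecticForm f₁ ∧ Cfsg.Geo.IsSymplecticForm f₂ ∧ Cfsg.Geo.IsTensorFormStructure id (QuadraticMap.polar ⇑Q) f₁ f₂ e P ∧ (∀ (x₁ : Fin 2 → F) (x₂ : Fin 6 → F), ⇑Q (Matrix.mulVec (P : Matrix (Fin 12) (Fin 12) F) ((fun a : Fin 2 × Fin 6 => x₁ a.1 * x₂ a.2) ∘ e)) = 0) ∧ H = Cfsg.Geo.tensorProductSubgroup 2 6 e P ⊓ Cfsg.Geo.omegaGL ⇑Q) ∨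
    (∃ (F₀ : Subfield F) (r : ℕ) (P : Matrix.GeneralLinearGroup (Fin 12) F) (ζ : F), r.Prime ∧ Fintype.card F = Nat.card F₀ ^ r ∧ ζ ≠ 0 ∧ Cfsg.Geo.IsQuadFormRationalStructure (fun v : Fin 12 → F => ζ * ⇑Q v) F₀ P ∧ H = Cfsg.Geo.subfieldSubgroup F₀ P ⊓ Cfsg.Geo.omegaGL ⇑Q) ∨
    Cfsg.Geo.InOrthogonalResidualClass H :=
  main12plus_of Q Hy hplus H hH
    (fun W hW hd => Cfsg.Agent.Lib.Helper9.OE12.half_decomp Q Hy.nondeg hplus W hW hd)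
    (fun e P f₁ f₂ h2 hf₁ hf₂ hT => h34_of Q Hy hplus hD e P f₁ f₂ h2 hf₁ hf₂ hT)

end Cfsg.Agent.Lib.Helper2.Oev
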