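import Mathlib
import Cfsg.Prelude
import Cfsg.Agent.Lib.Helper2.OmxC
import Cfsg.Agent.Lib.Helper5.OrthFrameThree

set_option autoImplicit false
set_option linter.unusedSectionVars false
set_option linter.unusedVariables false
open Cfsg

/-! Frames of nonsingular points, and the diversion from decompositions into three non-degenerate
3-spaces over the field of order three to a frame of nine points. -/

namespace Cfsg.Agent.Lib.Helper2.Omx

open Matrix QuadraticMap Module Cfsg.Agent.Lib.Helper5.CartanDieudonne Cfsg.Agent.Lib.Helper5.Refl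
  Cfsg.Agent.Lib.Helper5.Siegel Cfsg.Agent.Lib.Helper5.QuadIsom
  Cfsg.Agent.Lib.Helper5.ReflGen Cfsg.Agent.Lib.Helper5.OmegaSimple
  Cfsg.Agent.Lib.Helper5.SpSingularMax Cfsg.Agent.Lib.Helper5.OrthSingularMax
  Cfsg.Agent.Lib.Helper5.OrthFrameThree

variable {ι : Type} [Fintype ι] [DecidableEq ι] {F : Type*} [Field F] [Fintype F]
  {Q : QuadraticForm F (ι → F)}

/-- pairwise orthogonal vectors of the same non-zero norm, as many as the dimension, span a
decomposition into pairwise isometric non-degenerate points -/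
theorem frame_decomp (h2 : (2 : F) ≠ 0) {n : ℕ} (hn2 : 2 ≤ n) (hcard : Fintype.card ι = n) {c : F}
    (hc : c ≠ 0) (w : Fin n → ι → F) (hQ : ∀ l, Q (w l) = c)
    (horth : ∀ l l', l ≠ l' → polar ⇑Q (w l) (w l') = 0) :
    Cfsg.Geo.IsOrthogonalMDecomposition ⇑Q 1
      (fun l => Submodule.span F ({w l} : Set (ι → F))) := by
  have hw0 : ∀ l, w l ≠ 0 := by
    intro l h
    have := hQ l
    rw [h, map_zero] at this
    exact hc this.symm
  have hself : ∀ l, polar ⇑Q (w l) (w l) ≠ 0 := by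
    intro l
    rw [polar_self, hQ l, two_smul, ← two_mul]
    exact mul_ne_zero h2 hc
  have hli : LinearIndependent F w := by
    apply LinearMap.BilinForm.linearIndependent_of_iIsOrtho (B := polarBilin Q)
    · rw [LinearMap.BilinForm.iIsOrtho_def]
      intro i j hij
      rw [polarBilin_apply_apply]
      exact horth i j hij
    · intro i
      rw [polarBilin_apply_apply]
      exact hself i
  refine ⟨⟨⟨hn2, Nat.one_pos, fun l => finrank_span_singleton (hw0 l),
    hli.iSupIndep_span_singleton, ?_⟩, fun l => line_nondeg h2 (w l) (by rw [hQ l]; exact hc),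
    ?_⟩, ?_⟩
  · rw [← Submodule.span_range_eq_iSup]
    apply hli.span_eq_top_of_card_eq_finrank'
    rw [Fintype.card_fin, Module.finrank_fintype_fun_eq_card, hcard]
  · intro i j hij u hu v hv
    obtain ⟨a, rfl⟩ := Submodule.mem_span_singleton.mp hu
    obtain ⟨b, rfl⟩ := Submodule.mem_span_singleton.mp hv
    rw [polar_smul_left, polar_smul_right, horth i j hij, smul_zero, smul_zero]
  · intro i j
    refine ⟨(LinearEquiv.toSpanNonzeroSingleton F (ι → F) (w i) (hw0 i)).symm.trans
      (LinearEquiv.toSpanNonzeroSingleton F (ι → F) (w j) (hw0 j)), ?_⟩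
    intro x
    obtain ⟨a, ha⟩ := Submodule.mem_span_singleton.mp x.2
    have hx : x = LinearEquiv.toSpanNonzeroSingleton F (ι → F) (w i) (hw0 i) a := by
      apply Subtype.ext
      rw [LinearEquiv.toSpanNonzeroSingleton_apply]
      exact ha.symm
    rw [hx, LinearEquiv.trans_apply, LinearEquiv.symm_apply_apply,
      LinearEquiv.toSpanNonzeroSingleton_apply, LinearEquiv.toSpanNonzeroSingleton_apply]
    show Q (a • w j) = Q (a • w i)
    rw [QuadraticMap.map_smul, QuadraticMap.map_smul, hQ i, hQ j]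

/-- a constant-norm orthogonal basis of a 3-dimensional block -/
def Frame3 (Q : QuadraticForm F (ι → F)) (W : Submodule F (ι → F)) (c : F)
    (v : Fin 3 → ι → F) : Prop :=
  (∀ j, v j ∈ W) ∧ (∀ j, Q (v j) = c) ∧ (∀ i j, i ≠ j → polar ⇑Q (v i) (v j) = 0) ∧
    ∀ w ∈ W, ∃ x y z : F, w = x • v 0 + y • v 1 + z • v 2

section three
variable (hq : Fintype.card F = 3)

include hq in
/-- over the field of order three the vectors of norm `c` of a block with a frame are the frame
vectors and their negatives -/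
theorem Frame3.pm {W : Submodule F (ι → F)} {c : F} {v : Fin 3 → ι → F} (hc : c ≠ 0)
    (hf : Frame3 Q W c v) (w : ι → F) (hw : w ∈ W) (hQw : Q w = c) :
    ∃ j, w = v j ∨ w = -v j := by
  obtain ⟨hv, hQ, horth, hspan⟩ := hf
  obtain ⟨x, y, z, rfl⟩ := hspan w hw
  rw [quad_comb3 x y z (horth 0 1 (by decide)) (horth 0 2 (by decide)) (horth 1 2 (by decide)),
    hQ 0, hQ 1, hQ 2] at hQw
  have hsum : x * x + y * y + z * z = 1 := by
    have : (x * x + y * y + z * z) * c = 1 * c := by linear_combination hQw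
    exact mul_right_cancel₀ hc this
  rcases sq_sum3 hq x y z hsum with ⟨hx, rfl, rfl⟩ | ⟨rfl, hy, rfl⟩ | ⟨rfl, rfl, hz⟩
  · refine ⟨0, ?_⟩
    rcases cases3 hq x with rfl | rfl | rfl
    · exact absurd rfl hx
    · left; simp
    · right; simp
  · refine ⟨1, ?_⟩
    rcases cases3 hq y with rfl | rfl | rfl
    · exact absurd rfl hy
    · left; simp
    · right; simp
  · refine ⟨2, ?_⟩
    rcases cases3 hq z with rfl | rfl | rfl
    · exact absurd rfl hz
    · left; simp
    · right; simp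

include hq in
/-- norms `(a, a, ±a)` -/
theorem frame_of_orth3 {W : Submodule F (ι → F)} {u₁ u₂ u₃ : ι → F}
    (h1 : u₁ ∈ W) (h2 : u₂ ∈ W) (h3 : u₃ ∈ W) (hQ1 : Q u₁ ≠ 0) (hQ3 : Q u₃ ≠ 0)
    (hQ12 : Q u₂ = Q u₁)
    (h12 : polar ⇑Q u₁ u₂ = 0) (h13 : polar ⇑Q u₁ u₃ = 0) (h23 : polar ⇑Q u₂ u₃ = 0)
    (hspan : ∀ w ∈ W, ∃ x y z : F, w = x • u₁ + y • u₂ + z • u₃) :
    ∃ (c : F) (v : Fin 3 → ι → F), c ≠ 0 ∧ Frame3 Q W c v := by
  have h3z := three_eq_zero hq
  have h21 : polar ⇑Q u₂ u₁ = 0 := by rw [polar_comm]; exact h12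
  have h31 : polar ⇑Q u₃ u₁ = 0 := by rw [polar_comm]; exact h13
  have h32 : polar ⇑Q u₃ u₂ = 0 := by rw [polar_comm]; exact h23
  rcases eq_or_neg_of_ne_zero hq hQ1 hQ3 with h | h
  · refine ⟨Q u₁, ![u₁, u₂, u₃], hQ1, ?_, ?_, ?_, ?_⟩
    · intro j; fin_cases j
      · exact h1
      · exact h2
      · exact h3
    · intro j; fin_cases j
      · rfl
      · exact hQ12
      · exact h
    · intro i j hij
      fin_cases i <;> fin_cases j
      · exact absurd rfl hij
      · exact h12
      · exact h13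
      · exact h21
      · exact absurd rfl hij
      · exact h23
      · exact h31
      · exact h32
      · exact absurd rfl hij
    · intro w hw
      exact hspan w hw
  · refine ⟨-Q u₁, ![u₁ + u₂, u₁ - u₂, u₃], neg_ne_zero.mpr hQ1, ?_, ?_, ?_, ?_⟩
    · intro j; fin_cases j
      · exact W.add_mem h1 h2
      · exact W.sub_mem h1 h2
      · exact h3
    · intro j; fin_cases j
      · show Q (u₁ + u₂) = -Q u₁
        rw [quad_add', hQ12, h12]
        linear_combination (Q u₁) * h3z
      · show Q (u₁ - u₂) = -Q u₁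
        rw [quad_sub', hQ12, h12]
        linear_combination (Q u₁) * h3z
      · exact h
    · have e12 : polar ⇑Q (u₁ + u₂) (u₁ - u₂) = 0 := by
        rw [polar_add_left, polar_sub_right, polar_sub_right, polar_self, polar_self, h12, h21,
          hQ12]
        simp
      have e13 : polar ⇑Q (u₁ + u₂) u₃ = 0 := by rw [polar_add_left, h13, h23, add_zero]
      have e23 : polar ⇑Q (u₁ - u₂) u₃ = 0 := by rw [polar_sub_left, h13, h23, sub_zero]
      intro i j hij
      fin_cases i <;> fin_cases j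
      · exact absurd rfl hij
      · exact e12
      · exact e13
      · show polar ⇑Q (u₁ - u₂) (u₁ + u₂) = 0
        rw [polar_comm]; exact e12
      · exact absurd rfl hij
      · exact e23
      · show polar ⇑Q u₃ (u₁ + u₂) = 0
        rw [polar_comm]; exact e13
      · show polar ⇑Q u₃ (u₁ - u₂) = 0
        rw [polar_comm]; exact e23
      · exact absurd rfl hij
    · intro w hw
      obtain ⟨x, y, z, rfl⟩ := hspan w hw
      refine ⟨-(x + y), -(x - y), z, ?_⟩
      have e1 : x • u₁ = (-(x + y)) • u₁ + (-(x - y)) • u₁ := by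
        rw [← add_smul]
        congr 1
        linear_combination x * h3z
      have e2 : y • u₂ = (-(x + y)) • u₂ - (-(x - y)) • u₂ := by
        rw [← sub_smul]
        congr 1
        linear_combination y * h3z
      show x • u₁ + y • u₂ + z • u₃ = (-(x + y)) • (u₁ + u₂) + (-(x - y)) • (u₁ - u₂) + z • u₃
      rw [smul_add, smul_sub, e1, e2]
      abel

include hq in
/-- 3-dimensional non-degenerate blocks over the field of order 3 have a frame -/
theorem exists_frame3 (W : Submodule F (ι → F)) (hd : finrank F W = 3)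
    (hW : Cfsg.Geo.IsNondegenerateOn (polar ⇑Q) W) :
    ∃ (c : F) (v : Fin 3 → ι → F), c ≠ 0 ∧ Frame3 Q W c v := by
  obtain ⟨b, hbW, horth, hne, hspan⟩ := exists_orth_basis (two_ne_zero' hq) W hd hW
  have hspan' : ∀ w ∈ W, ∃ x y z : F, w = x • b 0 + y • b 1 + z • b 2 := by
    intro w hw
    obtain ⟨x, rfl⟩ := hspan w hw
    exact ⟨x 0, x 1, x 2, by rw [Fin.sum_univ_three]⟩
  have h01 := horth 0 1 (by decide)
  have h02 := horth 0 2 (by decide)
  have h12 := horth 1 2 (by decide)
  have h10 := horth 1 0 (by decide)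
  have h20 := horth 2 0 (by decide)
  have h21 := horth 2 1 (by decide)
  by_cases hA : Q (b 1) = Q (b 0)
  · exact frame_of_orth3 hq (hbW 0) (hbW 1) (hbW 2) (hne 0) (hne 2) hA h01 h02 h12 hspan'
  · by_cases hB : Q (b 2) = Q (b 0)
    · refine frame_of_orth3 hq (hbW 0) (hbW 2) (hbW 1) (hne 0) (hne 1) hB h02 h01 h21 ?_
      intro w hw
      obtain ⟨x, y, z, rfl⟩ := hspan' w hw
      exact ⟨x, z, y, by abel⟩
    · have hC : Q (b 2) = Q (b 1) := by
        rcases eq_or_neg_of_ne_zero hq (hne 0) (hne 1) with h | h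
        · exact absurd h hA
        · rcases eq_or_neg_of_ne_zero hq (hne 0) (hne 2) with h' | h'
          · exact absurd h' hB
          · rw [h, h']
      refine frame_of_orth3 hq (hbW 1) (hbW 2) (hbW 0) (hne 1) (hne 0) hC h12 h10 h20 ?_
      intro w hw
      obtain ⟨x, y, z, rfl⟩ := hspan' w hw
      exact ⟨y, z, x, by abel⟩

end three

theorem Frame3.transport {W W' : Submodule F (ι → F)} {c : F} {v : Fin 3 → ι → F}
    (h : Frame3 Q W c v) (e : Cfsg.Geo.AreIsometricFor ⇑Q W W') :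
    ∃ v' : Fin 3 → ι → F, Frame3 Q W' c v' := by
  obtain ⟨e, he⟩ := e
  obtain ⟨hv, hQ, horth, hspan⟩ := h
  have hpol : ∀ a b : W, polar ⇑Q ((e a : W') : ι → F) ((e b : W') : ι → F) =
      polar ⇑Q (a : ι → F) (b : ι → F) := by
    intro a b
    have h2 := he (a + b)
    rw [map_add, Submodule.coe_add, Submodule.coe_add] at h2
    unfold polar
    rw [h2, he a, he b]
  refine ⟨fun j => ((e ⟨v j, hv j⟩ : W') : ι → F), fun j => (e ⟨v j, hv j⟩).2, ?_, ?_, ?_⟩
  · intro j
    show Q ((e ⟨v j, hv j⟩ : W') : ι → F) = c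
    rw [he]; exact hQ j
  · intro i j hij
    show polar ⇑Q ((e ⟨v i, hv i⟩ : W') : ι → F) ((e ⟨v j, hv j⟩ : W') : ι → F) = 0
    rw [hpol]; exact horth i j hij
  · intro w hw
    obtain ⟨x, y, z, hxyz⟩ := hspan _ (e.symm ⟨w, hw⟩).2
    refine ⟨x, y, z, ?_⟩
    have h1 : e.symm ⟨w, hw⟩ = x • (⟨v 0, hv 0⟩ : W) + y • (⟨v 1, hv 1⟩ : W) +
        z • (⟨v 2, hv 2⟩ : W) := Subtype.ext hxyz
    have h2 := congrArg (fun t => ((e t : W') : ι → F)) h1
    simp only [LinearEquiv.apply_symm_apply, map_add, map_smul, Submodule.coe_add,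
      Submodule.coe_smul] at h2
    exact h2

/-- over the field of order three the stabiliser in `Ω` of a decomposition into three non-degenerate
3-spaces stabilises a frame of nine points -/
theorem frame_of_three (hq : Fintype.card F = 3) (hn : Fintype.card ι = 9)
    {D : Fin 3 → Submodule F (ι → F)} (hD : Cfsg.Geo.IsOrthogonalMDecomposition ⇑Q 3 D) :
    ∃ D' : Fin 9 → Submodule F (ι → F), Cfsg.Geo.IsOrthogonalMDecomposition ⇑Q 1 D' ∧
      Cfsg.Geo.decompositionStabilizer D ⊓ Cfsg.Geo.omegaGL ⇑Q ≤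
        Cfsg.Geo.decompositionStabilizer D' := by
  have h2 := two_ne_zero' hq
  obtain ⟨c, v₀, hc, hf₀⟩ := exists_frame3 hq (D 0) (hD.decomp.decomp.finrank_eq 0)
    (hD.decomp.nondegenerate 0)
  have hfr : ∀ i, ∃ v : Fin 3 → ι → F, Frame3 Q (D i) c v :=
    fun i => hf₀.transport (hD.isometric 0 i)
  choose V hV using hfr
  obtain ⟨e9, -⟩ : ∃ e9 : Fin 3 × Fin 3 ≃ Fin 9, e9 = finProdFinEquiv := ⟨_, rfl⟩
  obtain ⟨w, hwdef⟩ : ∃ w : Fin 9 → ι → F, ∀ l, w l = V (e9.symm l).1 (e9.symm l).2 :=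
    ⟨_, fun _ => rfl⟩
  have hwQ : ∀ l, Q (w l) = c := fun l => by rw [hwdef]; exact (hV _).2.1 _
  have hwD : ∀ l, w l ∈ D (e9.symm l).1 := fun l => by rw [hwdef]; exact (hV _).1 _
  have hworth : ∀ l l', l ≠ l' → polar ⇑Q (w l) (w l') = 0 := by
    intro l l' hll
    by_cases hi : (e9.symm l).1 = (e9.symm l').1
    · have hj : (e9.symm l).2 ≠ (e9.symm l').2 := by
        intro hj
        apply hll
        apply e9.symm.injective
        exact Prod.ext hi hj
      rw [hwdef l, hwdef l', ← hi]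
      exact (hV _).2.2.1 _ _ hj
    · exact hD.decomp.orthogonal _ _ hi (w l) (hwD l) (w l') (hwD l')
  have hself : ∀ l, polar ⇑Q (w l) (w l) ≠ 0 := by
    intro l
    rw [polar_self, hwQ l, two_smul, ← two_mul]
    exact mul_ne_zero h2 hc
  refine ⟨fun l => Submodule.span F {w l}, frame_decomp h2 (by norm_num) hn hc w hwQ hworth, ?_⟩
  rintro g ⟨⟨σ, hσ⟩, hgΩ⟩
  obtain ⟨a, -, rfl⟩ := (mem_omegaGL_iff Q g).mp hgΩ
  have hmove : ∀ l, ∃ l', act Q a (w l) = w l' ∨ act Q a (w l) = -w l' := by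
    intro l
    have hmem : act Q a (w l) ∈ D (σ (e9.symm l).1) := by
      rw [← hσ]
      exact ⟨w l, hwD l, by rw [Matrix.toLin'_apply]⟩
    have hQa : Q (act Q a (w l)) = c := by rw [quad_act, hwQ]
    obtain ⟨j, hj⟩ := (hV (σ (e9.symm l).1)).pm hq hc _ hmem hQa
    refine ⟨e9 (σ (e9.symm l).1, j), ?_⟩
    rw [hwdef (e9 _), Equiv.symm_apply_apply]
    exact hj
  choose π₀ hπ₀ using hmove
  have hinj : Function.Injective π₀ := by
    intro l l' hll
    by_contra hne
    have h0 := hworth l l' hne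
    have h1 : polar ⇑Q (act Q a (w l)) (act Q a (w l')) = 0 := by rw [polar_act]; exact h0
    rcases hπ₀ l with e1 | e1 <;> rcases hπ₀ l' with e2 | e2 <;>
      rw [e1, e2, hll] at h1 <;>
      (try simp only [polar_neg_left, polar_neg_right, neg_neg, neg_eq_zero] at h1) <;>
      exact hself _ h1
  obtain ⟨π, hπ⟩ : ∃ π : Equiv.Perm (Fin 9), ∀ l, π l = π₀ l :=
    ⟨Equiv.ofBijective π₀ (Finite.injective_iff_bijective.mp hinj), fun _ => rfl⟩
  refine ⟨π, fun l => ?_⟩
  show (Submodule.span F {w l}).map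
    (Matrix.toLin' ((a : Matrix.GeneralLinearGroup ι F) : Matrix ι ι F)) =
      Submodule.span F {w (π l)}
  rw [Submodule.map_span, Set.image_singleton, Matrix.toLin'_apply, hπ]
  rcases hπ₀ l with e1 | e1
  · rw [show ((a : Matrix.GeneralLinearGroup ι F) : Matrix ι ι F) *ᵥ w l = w (π₀ l) from e1]
  · rw [show ((a : Matrix.GeneralLinearGroup ι F) : Matrix ι ι F) *ᵥ w l = -w (π₀ l) from e1,
      ← neg_one_smul F (w (π₀ l)), Submodule.span_singleton_smul_eq (isUnit_one.neg)]

end Cfsg.Agent.Lib.Helper2.Omx
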