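import Mathlib
import Cfsg.Prelude
import Cfsg.Agent.Lib.Helper2.OmxE
import Cfsg.Agent.Lib.Helper2.OmxG
import Cfsg.Agent.Lib.Helper2.OmxH

set_option autoImplicit false
set_option linter.unusedSectionVars false
set_option linter.unusedVariables false
set_option maxHeartbeats 1000000
open Cfsg

/-! Maximal subgroups of `Ω_9(q)`, `q` odd. -/

namespace Cfsg.Agent.Lib.Helper2.Omx

open Matrix QuadraticMap Module Cfsg.Agent.Lib.Helper5.SpinorHyp2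

theorem card_ge_five_of_odd {q : ℕ} (hodd : Odd q) (h1 : 1 < q) (h3 : q ≠ 3) : 5 ≤ q := by
  obtain ⟨r, hr⟩ := hodd
  omega

/-- maximal subgroups of `Ω_9(q)` -/
theorem main_nine {F : Type*} [Field F] [Fintype F] (hodd : Odd (Fintype.card F))
    (H : Subgroup (Matrix.GeneralLinearGroup (Unit ⊕ (Fin 4 ⊕ Fin 4)) F))
    (hH : Cfsg.Geo.IsMaximalIn (Cfsg.Geo.omegaGL (Cfsg.quadFormOdd 4 F)) H)
    (hA : (∃ M : Subgroup (Matrix.GeneralLinearGroup (Unit ⊕ (Fin 4 ⊕ Fin 4)) F),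
      Cfsg.Geo.InOrthogonalOddClass 4 F M ∧ H ≤ M) ∨ Cfsg.Geo.InOrthogonalResidualClass H) :
    (∃ W : Submodule F (Unit ⊕ (Fin 4 ⊕ Fin 4) → F), W ≠ ⊥ ∧ Cfsg.Geo.IsTotallySingularQuad (Cfsg.quadFormOdd 4 F) W ∧ H = Cfsg.Geo.subspaceStabilizer W ⊓ Cfsg.Geo.omegaGL (Cfsg.quadFormOdd 4 F)) ∨
    (∃ W : Submodule F (Unit ⊕ (Fin 4 ⊕ Fin 4) → F), W ≠ ⊥ ∧ Even (Module.finrank F W) ∧ Cfsg.Geo.IsNondegenerateOn (QuadraticMap.polar (Cfsg.quadFormOdd 4 F)) W ∧ ¬ (Fintype.card F = 3 ∧ Module.finrank F W = 2 ∧ Cfsg.Geo.IsPlusTypeOn (Cfsg.quadFormOdd 4 F) W) ∧ H = Cfsg.Geo.subspaceStabilizer W ⊓ Cfsg.Geo.omegaGL (Cfsg.quadFormOdd 4 F)) ∨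
    ((Fintype.card F).Prime ∧ ∃ D : Fin 9 → Submodule F (Unit ⊕ (Fin 4 ⊕ Fin 4) → F), Cfsg.Geo.IsOrthogonalMDecomposition (Cfsg.quadFormOdd 4 F) 1 D ∧ H = Cfsg.Geo.decompositionStabilizer D ⊓ Cfsg.Geo.omegaGL (Cfsg.quadFormOdd 4 F)) ∨
    (5 ≤ Fintype.card F ∧ ∃ D : Fin 3 → Submodule F (Unit ⊕ (Fin 4 ⊕ Fin 4) → F), Cfsg.Geo.IsOrthogonalMDecomposition (Cfsg.quadFormOdd 4 F) 3 D ∧ H = Cfsg.Geo.decompositionStabilizer D ⊓ Cfsg.Geo.omegaGL (Cfsg.quadFormOdd 4 F)) ∨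
    (∃ K : Subalgebra F (Matrix (Unit ⊕ (Fin 4 ⊕ Fin 4)) (Unit ⊕ (Fin 4 ⊕ Fin 4)) F), Cfsg.Geo.IsFieldSubalgebra 3 K ∧ Cfsg.Geo.IsSelfAdjointFor (QuadraticMap.polar (Cfsg.quadFormOdd 4 F)) K ∧ H = Cfsg.Geo.subalgebraNormalizer K ⊓ Cfsg.Geo.omegaGL (Cfsg.quadFormOdd 4 F)) ∨
    (∃ (F₀ : Subfield F) (r : ℕ) (P : Matrix.GeneralLinearGroup (Unit ⊕ (Fin 4 ⊕ Fin 4)) F), r.Prime ∧ Fintype.card F = Nat.card F₀ ^ r ∧ Cfsg.Geo.IsQuadFormRationalStructure (Cfsg.quadFormOdd 4 F) F₀ P ∧ H = Cfsg.Geo.subfieldSubgroup F₀ P ⊓ Cfsg.Geo.omegaGL (Cfsg.quadFormOdd 4 F)) ∨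
    (5 ≤ Fintype.card F ∧ ∃ (e : (Unit ⊕ (Fin 4 ⊕ Fin 4)) ≃ (Fin 2 → Fin 3)) (P : Matrix.GeneralLinearGroup (Unit ⊕ (Fin 4 ⊕ Fin 4)) F) (f₁ : (Fin 3 → F) → (Fin 3 → F) → F), Cfsg.Geo.IsSymmetricForm f₁ ∧ Cfsg.Geo.IsTensorPowerFormStructure id (QuadraticMap.polar (Cfsg.quadFormOdd 4 F)) f₁ e P ∧ H = Cfsg.Geo.tensorWreathSubgroup 3 2 e P ⊓ Cfsg.Geo.omegaGL (Cfsg.quadFormOdd 4 F)) ∨
    Cfsg.Geo.InOrthogonalResidualClass H := by
  have hcard := card_index 4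
  have h2 := two_ne_zero_of_odd hodd
  have Hy := hyp_odd hodd 4 (by norm_num)
  have hq1 : 1 < Fintype.card F := Fintype.one_lt_card
  have e := coe_oddForm (F := F) 4
  rcases main_general hodd 4 (by norm_num) H hH hA with h | h | ⟨t, k, D, hk, hD, hHD⟩ |
    ⟨hq, t, D, hD, hHD⟩ | ⟨r, K, hr, hrn, hK, hKsa, hHK⟩ | ⟨n₁, n₂, e', h1, h2'⟩ | h |
    ⟨k, t, e', P, f₁, hk, ht, hq3, hf₁, hT, hHW⟩ | h
  · exact Or.inl h
  · exact Or.inr (Or.inl h)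
  · -- decompositions into 3-spaces
    have h1 := Cfsg.Agent.Lib.Helper5.OrthFrameThree.card_blocks' hD.decomp.decomp
    rw [hcard] at h1
    have ht2 := hD.decomp.decomp.two_le
    have ht4 : t ≤ 4 := by nlinarith
    have hk4 : k ≤ 4 := by nlinarith
    have htk : t = 3 ∧ k = 3 := by
      interval_cases t <;> interval_cases k <;> omega
    obtain ⟨rfl, rfl⟩ := htk
    by_cases hq5 : 5 ≤ Fintype.card F
    · exact Or.inr (Or.inr (Or.inr (Or.inl ⟨hq5, D, hD, hHD⟩)))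
    · have hq3 : Fintype.card F = 3 := by
        obtain ⟨r, hr⟩ := hodd
        omega
      right; right; left
      refine ⟨by rw [hq3]; norm_num, ?_⟩
      rw [← e] at hD hHD hH ⊢
      obtain ⟨D', hD', hle⟩ := frame_of_three hq3 (by rw [hcard]) hD
      refine ⟨D', hD', eq_inf_of_le hH ?_ (not_le_decomp Hy h2 hD'.decomp.decomp)⟩
      rw [hHD]
      exact hle
  · have h1 := Cfsg.Agent.Lib.Helper5.OrthFrameThree.card_blocks' hD.decomp.decomp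
    rw [hcard, mul_one] at h1
    subst h1
    exact Or.inr (Or.inr (Or.inl ⟨hq, D, hD, hHD⟩))
  · -- extension field of degree 3
    have h1 := dvd_of_fieldSubalgebra' hr.pos hK
    rw [hcard] at h1
    have h3 : r = 3 := by
      have h4 : r ∣ 3 ^ 2 := by norm_num; exact h1
      exact (Nat.prime_dvd_prime_iff_eq hr Nat.prime_three).mp (hr.dvd_of_dvd_pow h4)
    subst h3
    right; right; right; right; left
    rw [← e] at hKsa hH ⊢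
    exact ⟨K, hK, hKsa, eq_inf_of_le hH hHK (not_le_fieldNormalizer Hy h2 (by norm_num) hK)⟩
  · exfalso
    have h3 := card_of_tensor_equiv e'
    rw [hcard] at h3
    nlinarith
  · exact Or.inr (Or.inr (Or.inr (Or.inr (Or.inr (Or.inl h)))))
  · -- tensor square
    have h3 := card_of_power_equiv e'
    rw [hcard] at h3
    have hk3 : k = 3 := by
      have h4 : k ^ 2 ≤ k ^ t := Nat.pow_le_pow_right (by omega) ht
      have h5 : k ≤ 3 := by nlinarith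
      omega
    subst hk3
    have ht2 : t = 2 := by
      by_contra hne
      have h4 : 3 ^ 3 ≤ 3 ^ t := Nat.pow_le_pow_right (by norm_num) (by omega)
      omega
    subst ht2
    have hq5 : 5 ≤ Fintype.card F := by
      apply card_ge_five_of_odd hodd hq1
      intro h
      exact hq3 ⟨h, rfl⟩
    right; right; right; right; right; right; left
    rw [← e] at hT hH ⊢
    exact ⟨hq5, e', P, f₁, hf₁, hT, eq_inf_of_le hH hHW (not_le_wreath Hy h2 e' P)⟩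
  · exact Or.inr (Or.inr (Or.inr (Or.inr (Or.inr (Or.inr (Or.inr h))))))

end Cfsg.Agent.Lib.Helper2.Omx
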