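import Mathlib
import Cfsg.Agent.Lib.Helper7.Small2

/-! Sylow data of a prime dividing the order of a simple group exactly once, and the
arithmetic rules of `Helper7.Small` (`ParA`, `ParB`, `ParC`) restated for fixed data
(helper2, for S0983). -/

set_option autoImplicit false
set_option linter.style.haveILetI false

namespace Cfsg.Agent.Lib.Helper2.Ord

open Cfsg.Agent.Lib.Lead Cfsg.Agent.Lib.Lead.SmallSimple Cfsg.Agent.Lib.Lead.SmallSimple2
  Cfsg.Agent.Lib.Lead.SylowCount Cfsg.Agent.Lib.Lead.PrimeDegree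
  Cfsg.Agent.Lib.Helper7.CountTools Cfsg.Agent.Lib.Helper7.SylPar
  Cfsg.Agent.Lib.Helper7.Small

variable {G : Type*} [Group G]

/-- `SD G n p d k m`: `|G| = n`, the Sylow `p`-subgroups have order `p`, there are `d` of them,
`|C(P)| = p m` and `|N(P)| = p m k`. -/
structure SD (G : Type*) [Group G] (n p d k m : ℕ) : Prop where
  card : Nat.card G = n
  prime : p.Prime
  syl : Nat.card (Sylow p G) = d
  cP : ∀ P : Sylow p G, Nat.card P = p
  cC : ∀ P : Sylow p G, Nat.card (Subgroup.centralizer ((P : Subgroup G) : Set G)) = p * m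
  cN : ∀ P : Sylow p G, Nat.card (Subgroup.normalizer ((P : Subgroup G) : Set G)) = p * m * k
  eq : d * (p * m * k) = n
  hpm : ¬ p ∣ m
  hd1 : d ≠ 1
  hk1 : k ≠ 1
  hkp : k ∣ p - 1
  hmod : d % p = 1

variable [Finite G]

/-- existence of the data, with the numerical side conditions in the form used by the
decidable checks -/
theorem exists_SD [IsSimpleGroup G] (hG : ¬ IsMulCommutative G) {n p : ℕ} (hp : p.Prime)
    (hn : Nat.card G = n) (hpn : p ∣ n) (hpp : ¬ p ^ 2 ∣ n) :
    ∃ d ∈ n.divisors, ∃ k ∈ (n / (d * p)).divisors, d % p = 1 ∧ d ≠ 1 ∧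
      2 * n ∣ d.factorial ∧ k ∣ p - 1 ∧ k ≠ 1 ∧ SD G n p d k (n / (d * p) / k) := by
  haveI : Fact p.Prime := ⟨hp⟩
  obtain ⟨r, hr⟩ := hpn
  have hpr' : ¬ p ∣ r := fun hd => hpp (by rw [hr, pow_two]; exact mul_dvd_mul_left p hd)
  have hc : ∀ P : Sylow p G, Nat.card P = p := fun P =>
    card_sylow_of_card_eq p r (hn.trans hr) hpr' P
  have hGne : Nat.card G ≠ p := by
    intro h1
    apply hG
    exact comm_of_simple_pGroup p (IsPGroup.of_card (n := 1) (by rw [h1, pow_one]))
  obtain ⟨m, k, hC, hN, hk, hk1, hcard, hmod, hne1⟩ := exists_data p hc hGne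
  have hn0 : n ≠ 0 := by rw [← hn]; exact Nat.card_pos.ne'
  rw [hn] at hcard
  have hd_mem : Nat.card (Sylow p G) ∈ n.divisors :=
    Nat.mem_divisors.mpr ⟨Dvd.intro _ hcard, hn0⟩
  have hdpos : 0 < Nat.card (Sylow p G) := Nat.card_pos
  have hmpos : 0 < m := by
    rcases Nat.eq_zero_or_pos m with h0 | h0
    · rw [h0] at hcard; simp at hcard; exact absurd hcard.symm hn0
    · exact h0
  have hkpos : 0 < k := by
    rcases Nat.eq_zero_or_pos k with h0 | h0
    · rw [h0] at hcard; simp at hcard; exact absurd hcard.symm hn0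
    · exact h0
  have hquot : n / (Nat.card (Sylow p G) * p) = m * k := by
    apply Nat.div_eq_of_eq_mul_right (Nat.mul_pos hdpos hp.pos)
    rw [← hcard]; ring
  have hm : n / (Nat.card (Sylow p G) * p) / k = m := by
    rw [hquot]; exact Nat.mul_div_cancel m hkpos
  have hk_mem : k ∈ (n / (Nat.card (Sylow p G) * p)).divisors := by
    rw [hquot]
    exact Nat.mem_divisors.mpr ⟨Dvd.intro_left m rfl, (Nat.mul_pos hmpos hkpos).ne'⟩
  have hpm : ¬ p ∣ m := by
    intro hd
    apply hpp
    obtain ⟨m', hm'⟩ := hd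
    rw [← hcard, hm', pow_two]
    exact ⟨Nat.card (Sylow p G) * m' * k, by ring⟩
  refine ⟨_, hd_mem, k, hk_mem, hmod, hne1, ?_, hk, hk1, ?_⟩
  · rw [← hn]; exact two_mul_card_dvd_factorial hG p hne1
  · rw [hm]
    exact ⟨hn, hp, rfl, hc, hC, hN, hcard, hpm, hne1, hk1, hk, hmod⟩

namespace SD

variable {n p d k m : ℕ}

theorem fact (h : SD G n p d k m) : Fact p.Prime := ⟨h.prime⟩

theorem syl_ne_one (h : SD G n p d k m) : Nat.card (Sylow p G) ≠ 1 := by
  rw [h.syl]; exact h.hd1

theorem relIndex (h : SD G n p d k m) (P : Sylow p G) :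
    (Subgroup.centralizer ((P : Subgroup G) : Set G)).relIndex
      (Subgroup.normalizer ((P : Subgroup G) : Set G)) = k := by
  have h1 := card_mul_relIndex (Subgroup.centralizer_le_normalizer
    (((P : Subgroup G) : Set G)))
  rw [h.cC P, h.cN P] at h1
  have hm : 0 < p * m := by
    have := h.cC P
    rw [← this]; exact Nat.card_pos
  exact Nat.eq_of_mul_eq_mul_left hm h1

/-- rule `ParA` -/
theorem not_parA [IsSimpleGroup G] (hG : ¬ IsMulCommutative G) (h : SD G n p d k m) :
    ¬ ParA p d m := by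
  haveI := h.fact
  have hp := h.prime
  rintro ⟨q, hq_mem, hq, hf⟩
  have hqm : q ∣ m := Nat.dvd_of_mem_divisors hq_mem
  haveI : Fact q.Prime := ⟨hq⟩
  obtain P : Sylow p G := default
  have hqC : q ∣ Nat.card (Subgroup.centralizer ((P : Subgroup G) : Set G)) := by
    rw [h.cC P]; exact Dvd.dvd.mul_left hqm p
  obtain ⟨w, hw⟩ := exists_prime_orderOf_dvd_card' q hqC
  have hw' : orderOf (w : G) = q := by rw [Subgroup.orderOf_coe]; exact hw
  have hw1 : (w : G) ≠ 1 := by
    intro h'; rw [h', orderOf_one] at hw'; exact hq.one_lt.ne hw'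
  have hwq : (w : G) ^ q = 1 := by rw [← hw']; exact pow_orderOf_eq_one _
  have hf1 := fix_modEq_one P (v := (w : G)) (Subgroup.mem_centralizer_iff.mp w.2)
  have hf3 := fix_lt p h.syl_ne_one hw1
  rw [h.syl] at hf3
  have hfp : Nat.card (MulAction.fixedBy (Sylow p G) (w : G)) % p = 1 := by
    unfold Nat.ModEq at hf1; rw [hf1]; exact Nat.mod_eq_of_lt hp.one_lt
  have hcon := hf _ hf3 hfp
  by_cases hq2 : q = 2
  · simp only [hq2, if_true] at hcon
    have hw2 : (w : G) * (w : G) = 1 := by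
      rw [← pow_two]; rw [hq2] at hwq; exact hwq
    have hf2 := fix_modEq_four hG (α := Sylow p G) (w : G) hw2
    rw [h.syl] at hf2
    exact hcon hf2
  · simp only [hq2, if_false] at hcon
    have hf2 := fix_modEq_prime (α := Sylow p G) q (w : G) 1 (by rw [pow_one]; exact hwq)
    rw [h.syl] at hf2
    exact hcon hf2

/-- rule `ParB` -/
theorem not_parB [IsSimpleGroup G] (hG : ¬ IsMulCommutative G) (h : SD G n p d k m)
    (hp2 : p ≠ 2) : ¬ ParB p d m k := by
  haveI := h.fact
  have hp := h.prime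
  rintro ⟨hm_odd, hk_even, hf⟩
  obtain P : Sylow p G := default
  have hNeven : 2 ∣ Nat.card (Subgroup.normalizer ((P : Subgroup G) : Set G)) := by
    rw [h.cN P]; exact Dvd.dvd.mul_left (Nat.dvd_of_mod_eq_zero hk_even) _
  obtain ⟨t, htN, ht2, ht1⟩ := exists_involution _ hNeven
  have hCodd : Odd (Nat.card (Subgroup.centralizer ((P : Subgroup G) : Set G))) := by
    rw [h.cC P]; exact Odd.mul (hp.odd_of_ne_two hp2) (Nat.odd_iff.mpr hm_odd)
  have htC : t ∉ Subgroup.centralizer ((P : Subgroup G) : Set G) :=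
    fun h' => ht1 (eq_one_of_sq_of_odd hCodd ht2 h')
  have hb := fix_bound P (h.cP P) htN htC
  have hf2 := fix_modEq_four hG (α := Sylow p G) t ht2
  rw [h.syl] at hb hf2
  have hpos : 1 ≤ Nat.card (MulAction.fixedBy (Sylow p G) t) := by
    have : Nonempty (MulAction.fixedBy (Sylow p G) t) :=
      ⟨⟨P, Sylow.smul_eq_iff_mem_normalizer.mpr htN⟩⟩
    exact Nat.card_pos
  have hle : Nat.card (MulAction.fixedBy (Sylow p G) t) ≤ (d + p - 1) / p := by
    rw [Nat.le_div_iff_mul_le hp.pos, mul_comm]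
    have := hp.pos
    omega
  exact hf _ hle hpos hf2

/-- rule `ParC` -/
theorem not_parC [IsSimpleGroup G] (hG : ¬ IsMulCommutative G) (h : SD G n p d k m) :
    ¬ ParC n p d m := by
  haveI := h.fact
  have hp := h.prime
  rintro ⟨hm_even, hf⟩
  obtain P : Sylow p G := default
  have hm2 : 2 ∣ m := Nat.dvd_of_mod_eq_zero hm_even
  obtain ⟨v, hvC, hv2, hv1⟩ :=
    exists_involution (Subgroup.centralizer ((P : Subgroup G) : Set G))
      (by rw [h.cC P]; exact Dvd.dvd.mul_left hm2 p)
  have hf1 := fix_modEq_one P (v := v) (Subgroup.mem_centralizer_iff.mp hvC)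
  have hf2 := fix_modEq_four hG (α := Sylow p G) v hv2
  have hf3 := fix_lt p h.syl_ne_one hv1
  rw [h.syl] at hf2 hf3
  have hfp : Nat.card (MulAction.fixedBy (Sylow p G) v) % p = 1 := by
    unfold Nat.ModEq at hf1; rw [hf1]; exact Nat.mod_eq_of_lt hp.one_lt
  obtain ⟨hbig, hno⟩ := hf _ hf3 hfp hf2
  have hS : ∀ g, IsConj v g → g ∈ Subgroup.normalizer ((P : Subgroup G) : Set G) →
      g ∈ Subgroup.centralizer ((P : Subgroup G) : Set G) := by
    intro g hg hgN
    by_contra hgC
    have h3 := fix_bound P (h.cP P) hgN hgC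
    rw [← fix_conj hg, h.syl] at h3
    have := hp.pos
    omega
  have hvm : v ^ m = 1 := by
    obtain ⟨m', hm'⟩ := hm2
    rw [hm', pow_mul, pow_two, hv2, one_pow]
  have hle := card_conj_le' P (h.cP P) (h.cC P) h.hpm hvm hv1 hS
  have hs1 : 1 ≤ Nat.card {g : G // IsConj v g ∧
      g ∈ Subgroup.normalizer ((P : Subgroup G) : Set G)} := by
    have : Nonempty {g : G // IsConj v g ∧
        g ∈ Subgroup.normalizer ((P : Subgroup G) : Set G)} :=
      ⟨⟨v, IsConj.refl v, Subgroup.centralizer_le_normalizer _ hvC⟩⟩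
    exact Nat.card_pos
  have hform : Nat.card (MulAction.fixedBy (Sylow p G) v) *
      Nat.card (Subgroup.normalizer ((P : Subgroup G) : Set G)) =
      Nat.card {g : G // IsConj v g ∧
        g ∈ Subgroup.normalizer ((P : Subgroup G) : Set G)} *
        Nat.card (Subgroup.centralizer ({v} : Set G)) := by
    have h0 := fix_formula (α := Sylow p G) P v
    rw [Sylow.stabilizer_eq_normalizer] at h0
    exact h0
  have hNd : n / d = p * m * k := by
    have hdpos : 0 < d := by
      rcases Nat.eq_zero_or_pos d with h0 | h0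
      · have := h.hmod; rw [h0] at this; simp at this
      · exact h0
    exact Nat.div_eq_of_eq_mul_right hdpos h.eq.symm
  rw [h.cN P, ← hNd] at hform
  have hc_mem : Nat.card (Subgroup.centralizer ({v} : Set G)) ∈ n.divisors := by
    refine Nat.mem_divisors.mpr ⟨?_, ?_⟩
    · rw [← h.card]; exact Subgroup.card_subgroup_dvd_card _
    · rw [← h.card]; exact Nat.card_pos.ne'
  exact hno _ (by omega) hs1 _ hc_mem hform

end SD

end Cfsg.Agent.Lib.Helper2.Ord
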