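import Mathlib
import Cfsg.Agent.Lib.Helper2.OrdA
import Cfsg.Agent.S0992
import Cfsg.Agent.S1019

/-! Two more rules for Sylow data: `R4` (no element of order four acts on `P` when `8 ∤ |G|`)
and `RG` (a Sylow `q`-subgroup of `C(P)` of prime order which is the unique subgroup of its
order in `N(P)`), and the case machine (helper2, for S0983). -/

set_option autoImplicit false
set_option linter.style.haveILetI false

namespace Cfsg.Agent.Lib.Helper2.Ord

open Cfsg.Agent.Lib.Lead.SylowCount
  Cfsg.Agent.Lib.Helper7.CountTools Cfsg.Agent.Lib.Helper7.SylPar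
  Cfsg.Agent.Lib.Helper7.Small

variable {G : Type*} [Group G] [Finite G]

/-- rule `R4` -/
def R4 (n k : ℕ) : Prop := ¬ 8 ∣ n ∧ 4 ∣ k

instance (n k : ℕ) : Decidable (R4 n k) := by unfold R4; infer_instance

/-- rule `RG` -/
def RG (n p d k m : ℕ) : Prop :=
  ∃ q ∈ m.divisors, q.Prime ∧ ¬ q ∣ m / q ∧ ¬ q ∣ k ∧ q ≠ p ∧
    (∀ e ∈ (m / q).divisors, e % q = 1 → e = 1) ∧
    ∀ f < d, f % p = 1 → f % q = d % q → ¬ (f * (n / d) ∣ n)

instance (n p d k m : ℕ) : Decidable (RG n p d k m) := by unfold RG; infer_instance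

/-- in a finite group of order `p m` with a central subgroup of order `p`, a subgroup of prime
order `q` (`q ∥ p m`, `q ≠ p`) such that no divisor `e ≠ 1` of `m / q` is `≡ 1 mod q`, contains
every element of order `q` -/
theorem mem_zpowers_of_unique {K : Type*} [Group K] [Finite K] {p m q : ℕ} (hp : p.Prime)
    (hq : q.Prime) (hK : Nat.card K = p * m) (hqm : q ∣ m) (hqq : ¬ q ∣ m / q) (hqp : q ≠ p)
    (huniq : ∀ e ∈ (m / q).divisors, e % q = 1 → e = 1)
    (Z : Subgroup K) (hZ : Nat.card Z = p) (hZc : ∀ z ∈ Z, ∀ x : K, x * z = z * x)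
    {w g : K} (hw : orderOf w = q) (hg : orderOf g = q) : g ∈ Subgroup.zpowers w := by
  haveI : Fact q.Prime := ⟨hq⟩
  have hm0 : 0 < m := by
    rcases Nat.eq_zero_or_pos m with h0 | h0
    · rw [h0, mul_zero] at hK; exact absurd hK Nat.card_pos.ne'
    · exact h0
  -- `q ^ 2` does not divide `p m`
  have hq2 : ¬ q ^ 2 ∣ p * m := by
    intro h2
    obtain ⟨c, hc⟩ := hqm
    have h3 : m / q = c := by rw [hc]; exact Nat.mul_div_cancel_left c hq.pos
    rw [h3] at hqq
    rw [hc, pow_two] at h2
    have h4 : q * q ∣ q * (p * c) := by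
      have : p * (q * c) = q * (p * c) := by ring
      rwa [this] at h2
    have h5 : q ∣ p * c := Nat.dvd_of_mul_dvd_mul_left hq.pos h4
    rcases (Nat.Prime.dvd_mul hq).mp h5 with h6 | h6
    · exact hqp ((Nat.prime_dvd_prime_iff_eq hq hp).mp h6)
    · exact hqq h6
  -- a Sylow `q`-subgroup containing an element of order `q` is generated by it
  have key : ∀ x : K, orderOf x = q → ∀ Q : Sylow q K, Subgroup.zpowers x ≤ (Q : Subgroup K) →
      (Q : Subgroup K) = Subgroup.zpowers x := by
    intro x hx Q hle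
    have hcx : Nat.card (Subgroup.zpowers x) = q := by rw [Nat.card_zpowers, hx]
    obtain ⟨j, hj⟩ := (IsPGroup.iff_card.mp Q.isPGroup')
    have hdvd : q ^ j ∣ p * m := by
      rw [← hj, ← hK]; exact Subgroup.card_subgroup_dvd_card _
    have hj1 : j ≤ 1 := by
      by_contra hcon
      push Not at hcon
      exact hq2 ((pow_dvd_pow q hcon).trans hdvd)
    have hle2 : Nat.card (Subgroup.zpowers x) ≤ Nat.card (Q : Subgroup K) :=
      Nat.card_le_card_of_injective _ (Subgroup.inclusion_injective hle)
    have hQq : Nat.card (Q : Subgroup K) = q := by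
      rw [hcx, hj] at hle2
      rw [hj]
      interval_cases j
      · simp at hle2; exact absurd hle2 (by have := hq.one_lt; omega)
      · simp
    symm
    apply Subgroup.eq_of_le_of_card_ge hle
    rw [hcx, hQq]
  -- there is only one Sylow `q`-subgroup
  have hone : Nat.card (Sylow q K) = 1 := by
    obtain ⟨Q, hQ⟩ := (IsPGroup.of_card (n := 1) (p := q)
      (by rw [Nat.card_zpowers, hw, pow_one] : Nat.card (Subgroup.zpowers w) = q ^ 1)).exists_le_sylow
    have hQe := key w hw Q hQ
    have hQq : Nat.card (Q : Subgroup K) = q := by rw [hQe, Nat.card_zpowers, hw]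
    rw [Sylow.card_eq_index_normalizer Q]
    have hZle : Z ≤ Subgroup.normalizer ((Q : Subgroup K) : Set K) := by
      intro z hz
      rw [Subgroup.mem_normalizer_iff]
      intro x
      have : z * x * z⁻¹ = x := by
        have := hZc z hz x
        calc z * x * z⁻¹ = (x * z) * z⁻¹ := by rw [this]
          _ = x := by group
      rw [this]
    have hQle : (Q : Subgroup K) ≤ Subgroup.normalizer ((Q : Subgroup K) : Set K) :=
      Subgroup.le_normalizer
    have h1 : p ∣ Nat.card (Subgroup.normalizer ((Q : Subgroup K) : Set K)) := by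
      rw [← hZ]; exact Subgroup.card_dvd_of_le hZle
    have h2 : q ∣ Nat.card (Subgroup.normalizer ((Q : Subgroup K) : Set K)) := by
      have := Subgroup.card_dvd_of_le hQle
      rwa [hQq] at this
    have hcop : Nat.Coprime p q := (Nat.coprime_primes hp hq).mpr (Ne.symm hqp)
    obtain ⟨c, hc⟩ := hcop.mul_dvd_of_dvd_of_dvd h1 h2
    have h3 := Subgroup.card_mul_index (Subgroup.normalizer ((Q : Subgroup K) : Set K))
    rw [hK, hc] at h3
    set i := (Subgroup.normalizer ((Q : Subgroup K) : Set K)).index with hi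
    obtain ⟨c', hc'⟩ := hqm
    have h4 : m / q = c' := by rw [hc']; exact Nat.mul_div_cancel_left c' hq.pos
    have h5 : c * i = c' := by
      have h6 : p * q * (c * i) = p * q * c' := by
        calc p * q * (c * i) = p * q * c * i := by ring
          _ = p * m := h3
          _ = p * q * c' := by rw [hc']; ring
      exact Nat.eq_of_mul_eq_mul_left (Nat.mul_pos hp.pos hq.pos) h6
    have hc'0 : c' ≠ 0 := by
      rintro rfl
      rw [mul_zero] at hc'
      omega
    have himem : i ∈ (m / q).divisors := by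
      rw [h4]
      exact Nat.mem_divisors.mpr ⟨Dvd.intro_left c h5, hc'0⟩
    apply huniq i himem
    have h7 := card_sylow_modEq_one q K
    rw [Sylow.card_eq_index_normalizer Q] at h7
    unfold Nat.ModEq at h7
    rw [hi]
    exact h7.trans (Nat.mod_eq_of_lt hq.one_lt)
  obtain ⟨Q, hQ⟩ := (IsPGroup.of_card (n := 1) (p := q)
    (by rw [Nat.card_zpowers, hw, pow_one] : Nat.card (Subgroup.zpowers w) = q ^ 1)).exists_le_sylow
  obtain ⟨Q', hQ'⟩ := (IsPGroup.of_card (n := 1) (p := q)
    (by rw [Nat.card_zpowers, hg, pow_one] : Nat.card (Subgroup.zpowers g) = q ^ 1)).exists_le_sylow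
  have hQQ' : Q = Q' := by
    haveI : Subsingleton (Sylow q K) := (Nat.card_eq_one_iff_unique.mp hone).1
    exact Subsingleton.elim _ _
  have h1 := key w hw Q hQ
  have h2 := key g hg Q' hQ'
  rw [← hQQ', h1] at h2
  rw [h2]
  exact Subgroup.mem_zpowers g

/-- an element conjugating a finite subgroup into itself normalizes it -/
theorem mem_normalizer_of_conj_mem {H : Subgroup G} {y : G}
    (hy : ∀ h ∈ H, y * h * y⁻¹ ∈ H) : y ∈ Subgroup.normalizer (H : Set G) := by
  rw [Subgroup.mem_normalizer_iff]
  intro h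
  constructor
  · exact hy h
  · intro hh
    let f : ↥H → ↥H := fun a => ⟨y * a.1 * y⁻¹, hy a.1 a.2⟩
    have hinj : Function.Injective f := by
      intro a b hab
      have h1 : y * a.1 * y⁻¹ = y * b.1 * y⁻¹ := congrArg Subtype.val hab
      apply Subtype.ext
      have h2 : y⁻¹ * (y * a.1 * y⁻¹) * y = y⁻¹ * (y * b.1 * y⁻¹) * y := by rw [h1]
      simpa [mul_assoc] using h2
    obtain ⟨a, ha⟩ := (Finite.injective_iff_surjective.mp hinj) ⟨y * h * y⁻¹, hh⟩
    have h1 : y * a.1 * y⁻¹ = y * h * y⁻¹ := congrArg Subtype.val ha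
    have h2 : y⁻¹ * (y * a.1 * y⁻¹) * y = y⁻¹ * (y * h * y⁻¹) * y := by rw [h1]
    have h3 : a.1 = h := by simpa [mul_assoc] using h2
    rw [← h3]; exact a.2

namespace SD

variable {n p d k m : ℕ}

theorem n_div_d (h : SD G n p d k m) : n / d = p * m * k := by
  have hdpos : 0 < d := by
    rcases Nat.eq_zero_or_pos d with h0 | h0
    · have := h.hmod; rw [h0] at this; simp at this
    · exact h0
  exact Nat.div_eq_of_eq_mul_right hdpos h.eq.symm

/-- rule `R4` -/
theorem not_r4 [IsSimpleGroup G] (hG : ¬ IsMulCommutative G) (h : SD G n p d k m) :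
    ¬ R4 n k := by
  haveI := h.fact
  haveI : Fact (Nat.Prime 2) := ⟨Nat.prime_two⟩
  have hp := h.prime
  rintro ⟨h8, h4⟩
  obtain P : Sylow p G := default
  -- `p` is odd and `m` is odd
  have hp2 : p ≠ 2 := by
    rintro rfl
    have := Nat.le_of_dvd (by norm_num) (h4.trans h.hkp)
    omega
  have hmodd : ¬ 2 ∣ m := by
    intro h2
    apply h8
    rw [← h.eq]
    obtain ⟨a, ha⟩ := h2
    obtain ⟨b, hb⟩ := h4
    exact ⟨d * p * a * b, by rw [ha, hb]; ring⟩
  have hCodd : Odd (Nat.card (Subgroup.centralizer ((P : Subgroup G) : Set G))) := by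
    rw [h.cC P]
    exact Odd.mul (hp.odd_of_ne_two hp2) (Nat.odd_iff.mpr (by omega))
  -- a subgroup of order four inside the normalizer
  have h4N : 2 ^ 2 ∣ Nat.card (Subgroup.normalizer ((P : Subgroup G) : Set G)) := by
    rw [h.cN P]; exact Dvd.dvd.mul_left h4 _
  obtain ⟨K, hK⟩ := Sylow.exists_subgroup_card_pow_prime 2 h4N
  have hKp : IsPGroup 2 (K.map (Subgroup.normalizer ((P : Subgroup G) : Set G)).subtype) := by
    apply IsPGroup.of_card (n := 2)
    rw [Subgroup.card_map_of_injective (Subgroup.subtype_injective _)]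
    exact hK
  obtain ⟨T, hT⟩ := hKp.exists_le_sylow
  have hn4 : 4 ∣ Nat.card G := by
    rw [h.card, ← h.eq]
    exact Dvd.dvd.mul_left (Dvd.dvd.mul_left h4 _) _
  have hklein : IsKleinFour ↥(T : Subgroup G) :=
    (Cfsg.Agent.S0992.result hG (even_iff_two_dvd.mpr (Dvd.dvd.trans (by norm_num) hn4))
      (by rw [h.card]; exact h8) T).1
  have hsq : ∀ x ∈ K.map (Subgroup.normalizer ((P : Subgroup G) : Set G)).subtype,
      x * x = 1 := by
    intro x hx
    have hxT := hT hx
    have h1 : (⟨x, hxT⟩ : ↥(T : Subgroup G)) ^ 2 = 1 := by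
      have := Monoid.pow_exponent_eq_one (⟨x, hxT⟩ : ↥(T : Subgroup G))
      rwa [hklein.exponent_two] at this
    have h2 := congrArg Subtype.val h1
    simpa [pow_two] using h2
  have hmemN : ∀ x ∈ K.map (Subgroup.normalizer ((P : Subgroup G) : Set G)).subtype,
      x ∈ Subgroup.normalizer ((P : Subgroup G) : Set G) := by
    rintro x ⟨y, -, rfl⟩
    exact y.2
  have hcard4 : Nat.card (K.map (Subgroup.normalizer ((P : Subgroup G) : Set G)).subtype) = 4 := by
    rw [Subgroup.card_map_of_injective (Subgroup.subtype_injective _)]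
    exact hK
  set S := K.map (Subgroup.normalizer ((P : Subgroup G) : Set G)).subtype with hS
  -- two distinct non-identity elements of `S`
  have hex : ∃ a ∈ S, ∃ b ∈ S, a ≠ 1 ∧ b ≠ 1 ∧ a ≠ b := by
    by_contra hcon
    push Not at hcon
    classical
    haveI : Fintype ↥S := Fintype.ofFinite _
    have hle : Fintype.card ↥S ≤ 2 := by
      by_cases hne : ∃ a : ↥S, a ≠ 1
      · obtain ⟨a, ha⟩ := hne
        have : ∀ x : ↥S, x = 1 ∨ x = a := by
          intro x
          by_cases hx : x = 1
          · left; exact hx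
          · right
            have := hcon a.1 a.2 x.1 x.2 (fun h' => ha (Subtype.ext h'))
              (fun h' => hx (Subtype.ext h'))
            exact Subtype.ext this.symm
        calc Fintype.card ↥S = (Finset.univ : Finset ↥S).card := rfl
          _ ≤ ({1, a} : Finset ↥S).card := by
              apply Finset.card_le_card
              intro x _
              rcases this x with h' | h' <;> simp [h']
          _ ≤ 2 := Finset.card_le_two
      · push Not at hne
        have : Fintype.card ↥S ≤ 1 := by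
          rw [Fintype.card_le_one_iff]
          intro x y
          rw [hne x, hne y]
        omega
    rw [← Nat.card_eq_fintype_card, hcard4] at hle
    omega
  obtain ⟨a, haS, b, hbS, ha1, hb1, hab⟩ := hex
  have haC : a ∉ Subgroup.centralizer ((P : Subgroup G) : Set G) :=
    fun h' => ha1 (eq_one_of_sq_of_odd hCodd (hsq a haS) h')
  have hbC : b ∉ Subgroup.centralizer ((P : Subgroup G) : Set G) :=
    fun h' => hb1 (eq_one_of_sq_of_odd hCodd (hsq b hbS) h')
  have habS : a * b ∈ S := S.mul_mem haS hbS
  have habC : a * b ∈ Subgroup.centralizer ((P : Subgroup G) : Set G) := by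
    rw [Subgroup.mem_centralizer_iff]
    intro y hy
    have h1 := inverts_of_involution P (h.cP P) (hsq b hbS) (hmemN b hbS) hbC hy
    have h2 := inverts_of_involution P (h.cP P) (hsq a haS) (hmemN a haS) haC
      ((P : Subgroup G).inv_mem hy)
    rw [inv_inv] at h2
    have h3 : a * b * y * (a * b)⁻¹ = y := by
      have : a * b * y * (a * b)⁻¹ = a * (b * y * b⁻¹) * a⁻¹ := by group
      rw [this, h1, h2]
    calc y * (a * b) = (a * b * y * (a * b)⁻¹) * (a * b) := by rw [h3]
      _ = a * b * y := by group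
  have hab1 : a * b = 1 := eq_one_of_sq_of_odd hCodd (hsq _ habS) habC
  apply hab
  have ha2 := hsq a haS
  calc a = a * (a * b) := by rw [hab1, mul_one]
    _ = (a * a) * b := by group
    _ = b := by rw [ha2, one_mul]

/-- rule `RG` -/
theorem not_rG [IsSimpleGroup G] (hG : ¬ IsMulCommutative G) (h : SD G n p d k m) :
    ¬ RG n p d k m := by
  haveI := h.fact
  have hp := h.prime
  rintro ⟨q, hq_mem, hq, hqq, hqk, hqp, huniq, hf⟩
  have hqm : q ∣ m := Nat.dvd_of_mem_divisors hq_mem
  haveI : Fact q.Prime := ⟨hq⟩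
  obtain P : Sylow p G := default
  have hqC : q ∣ Nat.card (Subgroup.centralizer ((P : Subgroup G) : Set G)) := by
    rw [h.cC P]; exact Dvd.dvd.mul_left hqm p
  obtain ⟨w, hw⟩ := exists_prime_orderOf_dvd_card' q hqC
  have hw' : orderOf (w : G) = q := by rw [Subgroup.orderOf_coe]; exact hw
  have hw1 : (w : G) ≠ 1 := by
    intro h'; rw [h', orderOf_one] at hw'; exact hq.one_lt.ne hw'
  have hwq : (w : G) ^ q = 1 := by rw [← hw']; exact pow_orderOf_eq_one _
  have hPC : (P : Subgroup G) ≤ Subgroup.centralizer ((P : Subgroup G) : Set G) :=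
    sylow_le_centralizer P (h.cP P)
  -- conjugates of `w` inside `N(P)` are powers of `w`
  have hconj : ∀ g, IsConj (w : G) g →
      g ∈ Subgroup.normalizer ((P : Subgroup G) : Set G) → g ∈ Subgroup.zpowers (w : G) := by
    intro g hg hgN
    have hgo : orderOf g = q := by
      obtain ⟨c, hc⟩ := isConj_iff.mp hg
      rw [← hc, ← hw']
      exact (MulAut.conj c).orderOf_eq (w : G)
    have hgC : g ∈ Subgroup.centralizer ((P : Subgroup G) : Set G) := by
      have hker := Subgroup.normalizerMonoidHom_ker (P : Subgroup G)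
      haveI : ((Subgroup.centralizer ((P : Subgroup G) : Set G)).subgroupOf
          (Subgroup.normalizer ((P : Subgroup G) : Set G))).Normal := by
        rw [← hker]; infer_instance
      have hidx : ((Subgroup.centralizer ((P : Subgroup G) : Set G)).subgroupOf
          (Subgroup.normalizer ((P : Subgroup G) : Set G))).index = k := h.relIndex P
      have h1 := Subgroup.pow_index_mem ((Subgroup.centralizer ((P : Subgroup G) : Set G)).subgroupOf
          (Subgroup.normalizer ((P : Subgroup G) : Set G)))
        (⟨g, hgN⟩ : ↥(Subgroup.normalizer ((P : Subgroup G) : Set G)))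
      rw [hidx] at h1
      have h2 : g ^ k ∈ Subgroup.centralizer ((P : Subgroup G) : Set G) := by
        simpa [Subgroup.mem_subgroupOf] using h1
      have hcop : Nat.Coprime k (orderOf g) := by
        rw [hgo]
        exact Nat.Coprime.symm ((Nat.Prime.coprime_iff_not_dvd hq).mpr hqk)
      obtain ⟨j, hj⟩ := exists_pow_eq_self_of_coprime hcop
      rw [← hj]
      exact Subgroup.pow_mem _ h2 j
    have hcardZ : Nat.card ((P : Subgroup G).subgroupOf
        (Subgroup.centralizer ((P : Subgroup G) : Set G))) = p := by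
      rw [Nat.card_congr (Subgroup.subgroupOfEquivOfLe hPC).toEquiv]
      exact h.cP P
    have hcentral : ∀ z ∈ (P : Subgroup G).subgroupOf
        (Subgroup.centralizer ((P : Subgroup G) : Set G)),
        ∀ x : ↥(Subgroup.centralizer ((P : Subgroup G) : Set G)), x * z = z * x := by
      intro z hz x
      apply Subtype.ext
      have := (Subgroup.mem_centralizer_iff.mp x.2) z.1 (Subgroup.mem_subgroupOf.mp hz)
      simpa using this.symm
    have hgo' : orderOf (⟨g, hgC⟩ : ↥(Subgroup.centralizer ((P : Subgroup G) : Set G))) = q := by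
      rw [← hgo, ← Subgroup.orderOf_coe]
    have hmem := mem_zpowers_of_unique hp hq (h.cC P) hqm hqq hqp huniq _ hcardZ hcentral
      (w := w) (g := ⟨g, hgC⟩) hw hgo'
    obtain ⟨i, hi⟩ := Subgroup.mem_zpowers_iff.mp hmem
    refine Subgroup.mem_zpowers_iff.mpr ⟨i, ?_⟩
    have := congrArg Subtype.val hi
    simpa using this
  -- fixed points of `w`
  have hf1 := fix_modEq_one P (v := (w : G)) (Subgroup.mem_centralizer_iff.mp w.2)
  have hf3 := fix_lt p h.syl_ne_one hw1
  rw [h.syl] at hf3
  have hfp : Nat.card (MulAction.fixedBy (Sylow p G) (w : G)) % p = 1 := by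
    unfold Nat.ModEq at hf1; rw [hf1]; exact Nat.mod_eq_of_lt hp.one_lt
  have hf2 := fix_modEq_prime (α := Sylow p G) q (w : G) 1 (by rw [pow_one]; exact hwq)
  rw [h.syl] at hf2
  apply hf _ hf3 hfp hf2
  have hform : Nat.card (MulAction.fixedBy (Sylow p G) (w : G)) *
      Nat.card (Subgroup.normalizer ((P : Subgroup G) : Set G)) =
      Nat.card {g : G // IsConj (w : G) g ∧
        g ∈ Subgroup.normalizer ((P : Subgroup G) : Set G)} *
        Nat.card (Subgroup.centralizer ({(w : G)} : Set G)) := by
    have h0 := fix_formula (α := Sylow p G) P (w : G)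
    rw [Sylow.stabilizer_eq_normalizer] at h0
    exact h0
  have h2 := Cfsg.Agent.S1019.card_conj_into (w : G)
    {g : G | IsConj (w : G) g ∧ g ∈ Subgroup.normalizer ((P : Subgroup G) : Set G)}
    (fun y hy => hy.1)
  have h3 : Nat.card {x : G // x⁻¹ * (w : G) * x ∈
      {g : G | IsConj (w : G) g ∧ g ∈ Subgroup.normalizer ((P : Subgroup G) : Set G)}} =
      Nat.card (Subgroup.normalizer ((Subgroup.zpowers (w : G) : Subgroup G) : Set G)) := by
    apply Nat.card_congr
    apply Equiv.subtypeEquivRight
    intro x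
    constructor
    · rintro ⟨hc, hN⟩
      have hz := hconj _ hc hN
      have hx' : x⁻¹ ∈ Subgroup.normalizer ((Subgroup.zpowers (w : G) : Subgroup G) : Set G) := by
        apply mem_normalizer_of_conj_mem
        intro a ha
        obtain ⟨i, rfl⟩ := Subgroup.mem_zpowers_iff.mp ha
        have : x⁻¹ * (w : G) ^ i * x⁻¹⁻¹ = (x⁻¹ * (w : G) * x) ^ i := by
          rw [inv_inv]
          have := map_zpow (MulAut.conj x⁻¹) (w : G) i
          simpa [MulAut.conj_apply] using this
        rw [this]
        exact Subgroup.zpow_mem _ hz i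
      have := Subgroup.inv_mem _ hx'
      rwa [inv_inv] at this
    · intro hx
      have hx' := Subgroup.inv_mem _ hx
      have hz : x⁻¹ * (w : G) * x ∈ Subgroup.zpowers (w : G) := by
        have := (Subgroup.mem_normalizer_iff.mp hx' (w : G)).mp (Subgroup.mem_zpowers _)
        rwa [inv_inv] at this
      refine ⟨isConj_iff.mpr ⟨x⁻¹, by rw [inv_inv]⟩, ?_⟩
      have hle : Subgroup.zpowers (w : G) ≤ Subgroup.normalizer ((P : Subgroup G) : Set G) := by
        rw [Subgroup.zpowers_le]
        exact Subgroup.centralizer_le_normalizer _ w.2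
      exact hle hz
  have h4 : Nat.card {g : G // IsConj (w : G) g ∧
      g ∈ Subgroup.normalizer ((P : Subgroup G) : Set G)} =
      Nat.card ({g : G | IsConj (w : G) g ∧
        g ∈ Subgroup.normalizer ((P : Subgroup G) : Set G)} : Set G) := rfl
  rw [h.cN P, ← h.n_div_d, h4, ← h2, h3] at hform
  rw [hform, ← h.card]
  exact Subgroup.card_subgroup_dvd_card _

end SD

end Cfsg.Agent.Lib.Helper2.Ord
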