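import Mathlib
import Cfsg.Agent.Lib.Helper2.OrdB

/-! The case machine for a prime dividing the order of a simple group exactly once
(helper2, for S0983). -/

set_option autoImplicit false
set_option linter.style.haveILetI false

namespace Cfsg.Agent.Lib.Helper2.Ord

open Cfsg.Agent.Lib.Helper7.Small

variable {G : Type*} [Group G] [Finite G]

/-- the exclusion rules -/
def Excl (n p d k m : ℕ) : Prop :=
  ParA p d m ∨ ParB p d m k ∨ ParC n p d m ∨ RG n p d k m ∨ R4 n k

instance (n p d k m : ℕ) : Decidable (Excl n p d k m) := by unfold Excl; infer_instance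

theorem SD.not_excl [IsSimpleGroup G] (hG : ¬ IsMulCommutative G) {n p d k m : ℕ}
    (h : SD G n p d k m) (hp2 : p ≠ 2) : ¬ Excl n p d k m := by
  rintro (h1 | h1 | h1 | h1 | h1)
  · exact h.not_parA hG h1
  · exact h.not_parB hG hp2 h1
  · exact h.not_parC hG h1
  · exact h.not_rG hG h1
  · exact h.not_r4 hG h1

/-- the case machine: the Sylow data `(d, k)` at the prime `p` lies in the list `L`, provided
every other candidate is excluded by a rule or by the side condition -/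
theorem cases_p1 [IsSimpleGroup G] (hG : ¬ IsMulCommutative G) {n p : ℕ} (hp : p.Prime)
    (hp2 : p ≠ 2) (hn : Nat.card G = n) (hpn : p ∣ n) (hpp : ¬ p ^ 2 ∣ n)
    (side : ℕ → ℕ → ℕ → Prop) (hside : ∀ d k m, SD G n p d k m → side d k m)
    (L : List (ℕ × ℕ))
    (hcheck : ∀ d ∈ n.divisors, d % p = 1 → d = 1 ∨ ¬ (2 * n ∣ d.factorial) ∨
      ∀ k ∈ (n / (d * p)).divisors, k ∣ p - 1 → k = 1 ∨ Excl n p d k (n / (d * p) / k) ∨
        ¬ side d k (n / (d * p) / k) ∨ (d, k) ∈ L) :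
    ∃ dk ∈ L, SD G n p dk.1 dk.2 (n / (dk.1 * p) / dk.2) := by
  obtain ⟨d, hd_mem, k, hk_mem, hmod, hne1, hfac, hk, hk1, hSD⟩ := exists_SD hG hp hn hpn hpp
  rcases hcheck d hd_mem hmod with h1 | h1 | h1
  · exact absurd h1 hne1
  · exact absurd hfac h1
  · rcases h1 k hk_mem hk with h2 | h2 | h2 | h2
    · exact absurd h2 hk1
    · exact absurd h2 (hSD.not_excl hG hp2)
    · exact absurd (hside _ _ _ hSD) h2
    · exact ⟨(d, k), h2, hSD⟩

/-- the killer: every candidate is excluded -/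
theorem kill_p1 [IsSimpleGroup G] (hG : ¬ IsMulCommutative G) {n p : ℕ} (hp : p.Prime)
    (hp2 : p ≠ 2) (hn : Nat.card G = n) (hpn : p ∣ n) (hpp : ¬ p ^ 2 ∣ n)
    (side : ℕ → ℕ → ℕ → Prop) (hside : ∀ d k m, SD G n p d k m → side d k m)
    (hcheck : ∀ d ∈ n.divisors, d % p = 1 → d = 1 ∨ ¬ (2 * n ∣ d.factorial) ∨
      ∀ k ∈ (n / (d * p)).divisors, k ∣ p - 1 → k = 1 ∨ Excl n p d k (n / (d * p) / k) ∨
        ¬ side d k (n / (d * p) / k) ∨ (d, k) ∈ ([] : List (ℕ × ℕ))) : False := by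
  obtain ⟨dk, hdk, -⟩ := cases_p1 hG hp hp2 hn hpn hpp side hside [] hcheck
  simp at hdk

end Cfsg.Agent.Lib.Helper2.Ord
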