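import Mathlib
import Cfsg.Agent.Lib.Helper2.OrdC

/-! The case machine of `OrdC` with the order written as a product `a * b`, so that the
decidable check runs over `a.divisors` and `b.divisors` only (helper2, for S4274). -/

set_option autoImplicit false
set_option linter.style.haveILetI false

namespace Cfsg.Agent.Lib.Helper2.Ord

open Cfsg.Agent.Lib.Helper7.Small

open scoped Pointwise

variable {G : Type*} [Group G] [Finite G]

/-- the case machine, the divisors of `n = a * b` being enumerated as products -/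
theorem cases_p1_mul [IsSimpleGroup G] (hG : ¬ IsMulCommutative G) {n p : ℕ} (a b : ℕ)
    (hab : n = a * b) (hp : p.Prime)
    (hp2 : p ≠ 2) (hn : Nat.card G = n) (hpn : p ∣ n) (hpp : ¬ p ^ 2 ∣ n)
    (side : ℕ → ℕ → ℕ → Prop) (hside : ∀ d k m, SD G n p d k m → side d k m)
    (L : List (ℕ × ℕ))
    (hcheck : ∀ d₁ ∈ a.divisors, ∀ d₂ ∈ b.divisors, (d₁ * d₂) % p = 1 → d₁ * d₂ = 1 ∨
      ¬ (2 * n ∣ (d₁ * d₂).factorial) ∨
      ∀ k ∈ (n / (d₁ * d₂ * p)).divisors, k ∣ p - 1 → k = 1 ∨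
        Excl n p (d₁ * d₂) k (n / (d₁ * d₂ * p) / k) ∨
        ¬ side (d₁ * d₂) k (n / (d₁ * d₂ * p) / k) ∨ (d₁ * d₂, k) ∈ L) :
    ∃ dk ∈ L, SD G n p dk.1 dk.2 (n / (dk.1 * p) / dk.2) := by
  refine cases_p1 hG hp hp2 hn hpn hpp side hside L ?_
  intro d hd hmod
  have hd' : d ∈ a.divisors * b.divisors := by
    rw [← Nat.divisors_mul, ← hab]; exact hd
  obtain ⟨d₁, hd₁, d₂, hd₂, rfl⟩ := Finset.mem_mul.mp hd'
  exact hcheck d₁ hd₁ d₂ hd₂ hmod

end Cfsg.Agent.Lib.Helper2.Ord
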