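import Mathlib
import Cfsg.Agent.Lib.Helper2.OrdC

/-! Element counting with three primes dividing the order exactly once (helper2, for S4274). -/

set_option autoImplicit false
set_option linter.style.haveILetI false

namespace Cfsg.Agent.Lib.Helper2.Ord

open Cfsg.Agent.Lib.Helper7.CountTools

variable {G : Type*} [Group G] [Finite G]

/-- the `p`-singular elements of the centralizers of the Sylow `p`-subgroups -/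
theorem SD.count1 {n p d k m : ℕ} (h : SD G n p d k m) :
    ∃ S : Set G, S.ncard = d * (p * m - m) ∧ ∀ y ∈ S, p ∣ orderOf y ∧ orderOf y ∣ p * m := by
  haveI : Fact p.Prime := ⟨h.prime⟩
  refine ⟨⋃ P : Sylow p G, Ysing P m, ?_, ?_⟩
  · rw [ncard_iUnion_Ysing h.cP h.cC h.hpm, h.syl]
  · intro y hy
    obtain ⟨P, hyP⟩ := Set.mem_iUnion.mp hy
    exact ⟨prime_dvd_orderOf_of_mem_Ysing P (h.cP P) (h.cC P) hyP,
      orderOf_dvd_of_mem_Ysing P (h.cC P) hyP⟩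

/-- counting with three primes -/
theorem SD.count3 {n p₁ d₁ k₁ m₁ p₂ d₂ k₂ m₂ p₃ d₃ k₃ m₃ : ℕ} (h₁ : SD G n p₁ d₁ k₁ m₁)
    (h₂ : SD G n p₂ d₂ k₂ m₂) (h₃ : SD G n p₃ d₃ k₃ m₃) (h12 : ¬ p₂ ∣ p₁ * m₁)
    (h13 : ¬ p₃ ∣ p₁ * m₁) (h23 : ¬ p₃ ∣ p₂ * m₂) :
    d₁ * (p₁ * m₁ - m₁) + d₂ * (p₂ * m₂ - m₂) + d₃ * (p₃ * m₃ - m₃) ≤ n := by
  obtain ⟨S₁, c₁, o₁⟩ := h₁.count1
  obtain ⟨S₂, c₂, o₂⟩ := h₂.count1
  obtain ⟨S₃, c₃, o₃⟩ := h₃.count1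
  have e1 : Disjoint S₁ S₂ :=
    Set.disjoint_left.mpr (fun y hy1 hy2 => h12 (dvd_trans (o₂ y hy2).1 (o₁ y hy1).2))
  have e2 : Disjoint (S₁ ∪ S₂) S₃ :=
    Set.disjoint_left.mpr (fun y hy hy3 => by
      rcases hy with hy | hy
      · exact h13 (dvd_trans (o₃ y hy3).1 (o₁ y hy).2)
      · exact h23 (dvd_trans (o₃ y hy3).1 (o₂ y hy).2))
  have u : (S₁ ∪ S₂ ∪ S₃).ncard =
      d₁ * (p₁ * m₁ - m₁) + d₂ * (p₂ * m₂ - m₂) + d₃ * (p₃ * m₃ - m₃) := by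
    rw [Set.ncard_union_eq e2, Set.ncard_union_eq e1, c₁, c₂, c₃]
  have hle : (S₁ ∪ S₂ ∪ S₃).ncard ≤ n := by
    rw [← h₁.card, ← Set.ncard_univ]; exact Set.ncard_le_ncard (Set.subset_univ _)
  rw [u] at hle
  exact hle

/-- counting with two primes -/
theorem SD.count2 {n p₁ d₁ k₁ m₁ p₂ d₂ k₂ m₂ : ℕ} (h₁ : SD G n p₁ d₁ k₁ m₁)
    (h₂ : SD G n p₂ d₂ k₂ m₂) (h12 : ¬ p₂ ∣ p₁ * m₁) :
    d₁ * (p₁ * m₁ - m₁) + d₂ * (p₂ * m₂ - m₂) ≤ n := by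
  obtain ⟨S₁, c₁, o₁⟩ := h₁.count1
  obtain ⟨S₂, c₂, o₂⟩ := h₂.count1
  have e1 : Disjoint S₁ S₂ :=
    Set.disjoint_left.mpr (fun y hy1 hy2 => h12 (dvd_trans (o₂ y hy2).1 (o₁ y hy1).2))
  have u : (S₁ ∪ S₂).ncard = d₁ * (p₁ * m₁ - m₁) + d₂ * (p₂ * m₂ - m₂) := by
    rw [Set.ncard_union_eq e1, c₁, c₂]
  have hle : (S₁ ∪ S₂).ncard ≤ n := by
    rw [← h₁.card, ← Set.ncard_univ]; exact Set.ncard_le_ncard (Set.subset_univ _)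
  rw [u] at hle
  exact hle

end Cfsg.Agent.Lib.Helper2.Ord
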