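import Mathlib
import Cfsg.Agent.Lib.Helper2.OrdC
import Cfsg.Agent.S0904

/-! Orders with three prime divisors: the Sylow subgroup of prime order is self-centralizing
(helper2, for S0983). -/

set_option autoImplicit false
set_option linter.style.haveILetI false

namespace Cfsg.Agent.Lib.Helper2.Ord

variable {G : Type*} [Group G] [Finite G]

theorem SD.m_eq_one_of_three [IsSimpleGroup G] {n p d k m : ℕ} (h : SD G n p d k m)
    (p₁ q₁ a b : ℕ) (hp₁ : p₁.Prime) (hq₁ : q₁.Prime) (h1 : p₁ ≠ q₁) (h2 : p₁ ≠ p) (h3 : q₁ ≠ p)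
    (hn : n = p₁ ^ a * q₁ ^ b * p) : m = 1 := by
  haveI := h.fact
  obtain P : Sylow p G := default
  have hC := Cfsg.Agent.S0904.result p₁ q₁ p a b hp₁ hq₁ h1 h2 h3 (by rw [h.card, hn]) P
  have h4 := h.cC P
  have h5 : Nat.card (Subgroup.centralizer ((P : Subgroup G) : Set G)) = p := by
    have : Subgroup.centralizer ((P : Subgroup G) : Set G) = (P : Subgroup G) := hC
    rw [this]; exact h.cP P
  rw [h5] at h4
  have hp := h.prime.pos
  have : p * 1 = p * m := by rw [mul_one]; exact h4
  exact (Nat.eq_of_mul_eq_mul_left hp this).symm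

end Cfsg.Agent.Lib.Helper2.Ord
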