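import Mathlib
import Cfsg.Agent.Lib.Helper2.OrdD
import Cfsg.Agent.Lib.Helper7.PSLp3
import Cfsg.Agent.S0974
import Cfsg.Agent.S0975
import Cfsg.Agent.S0976
import Cfsg.Agent.S0977
import Cfsg.Agent.S0978
import Cfsg.Agent.S0979
import Cfsg.Agent.S0980
import Cfsg.Agent.S0998

/-! Orders in `(3640, 6232]` that survive the generic Sylow counting, part 1: the orders killed
by the Sylow-data machine of `OrdA`–`OrdD`, by landed rows, or by Brauer–Reynolds `S0998`
(helper2, for S0983). -/

set_option autoImplicit false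
set_option maxRecDepth 100000

namespace Cfsg.Agent.Lib.Helper2.Ord

variable {G : Type*} [Group G] [Finite G] [IsSimpleGroup G]

theorem ns_3696 (hG : ¬ IsMulCommutative G) (hn : Nat.card G = 3696) : False :=
  kill_p1 hG (p := 11) (by norm_num) (by norm_num) hn (by norm_num) (by norm_num)
    (fun _ _ _ => True) (fun _ _ _ _ => trivial) (by decide +kernel)

theorem ns_4212 (hG : ¬ IsMulCommutative G) (hn : Nat.card G = 4212) : False :=
  kill_p1 hG (p := 13) (by norm_num) (by norm_num) hn (by norm_num) (by norm_num)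
    (fun _ _ _ => True) (fun _ _ _ _ => trivial) (by decide +kernel)

theorem ns_5148 (hG : ¬ IsMulCommutative G) (hn : Nat.card G = 5148) : False :=
  kill_p1 hG (p := 11) (by norm_num) (by norm_num) hn (by norm_num) (by norm_num)
    (fun _ _ _ => True) (fun _ _ _ _ => trivial) (by decide +kernel)

theorem ns_5940 (hG : ¬ IsMulCommutative G) (hn : Nat.card G = 5940) : False :=
  kill_p1 hG (p := 11) (by norm_num) (by norm_num) hn (by norm_num) (by norm_num)
    (fun _ _ _ => True) (fun _ _ _ _ => trivial) (by decide +kernel)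

theorem ns_4536 (hG : ¬ IsMulCommutative G) (hn : Nat.card G = 4536) : False :=
  kill_p1 hG (p := 7) (by norm_num) (by norm_num) hn (by norm_num) (by norm_num)
    (fun _ _ m => m = 1)
    (fun _ _ _ h => h.m_eq_one_of_three 2 3 3 4 (by norm_num) (by norm_num) (by norm_num)
      (by norm_num) (by norm_num) (by norm_num))
    (by decide +kernel)

theorem ns_4800 (hG : ¬ IsMulCommutative G) (hn : Nat.card G = 4800) : False :=
  kill_p1 hG (p := 3) (by norm_num) (by norm_num) hn (by norm_num) (by norm_num)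
    (fun _ _ m => m = 1)
    (fun _ _ _ h => h.m_eq_one_of_three 2 5 6 2 (by norm_num) (by norm_num) (by norm_num)
      (by norm_num) (by norm_num) (by norm_num))
    (by decide +kernel)

theorem ns_5376 (hG : ¬ IsMulCommutative G) (hn : Nat.card G = 5376) : False :=
  kill_p1 hG (p := 3) (by norm_num) (by norm_num) hn (by norm_num) (by norm_num)
    (fun _ _ m => m = 1)
    (fun _ _ _ h => h.m_eq_one_of_three 2 7 8 1 (by norm_num) (by norm_num) (by norm_num)
      (by norm_num) (by norm_num) (by norm_num))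
    (by decide +kernel)

/-! ### landed rows -/

theorem ns_3648 (_hG : ¬ IsMulCommutative G) (hn : Nat.card G = 3648) : False :=
  Cfsg.Agent.S0974.result hn

theorem ns_3744 (_hG : ¬ IsMulCommutative G) (hn : Nat.card G = 3744) : False :=
  Cfsg.Agent.S0975.result hn

theorem ns_4032 (_hG : ¬ IsMulCommutative G) (hn : Nat.card G = 4032) : False :=
  Cfsg.Agent.S0976.result hn

theorem ns_4320 (_hG : ¬ IsMulCommutative G) (hn : Nat.card G = 4320) : False :=
  Cfsg.Agent.S0977.result hn

theorem ns_5040 (_hG : ¬ IsMulCommutative G) (hn : Nat.card G = 5040) : False :=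
  Cfsg.Agent.S0978.result hn

theorem ns_5472 (_hG : ¬ IsMulCommutative G) (hn : Nat.card G = 5472) : False :=
  Cfsg.Agent.S0979.result hn

theorem ns_5760 (_hG : ¬ IsMulCommutative G) (hn : Nat.card G = 5760) : False :=
  Cfsg.Agent.S0980.result hn

/-! ### orders `p r q ^ b` (Brauer–Reynolds, S0998) -/

theorem ns_prq (hG : ¬ IsMulCommutative G) (p q r b : ℕ) (hp : p.Prime) (hq : q.Prime)
    (hr : r.Prime) (hpq : p ≠ q) (hpr : p ≠ r) (hqr : q ≠ r)
    (hn : Nat.card G = p * r * q ^ b) (h60 : p * r * q ^ b ≠ 60) (h168 : p * r * q ^ b ≠ 168) :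
    False := by
  have hcyc : ¬ IsCyclic G := by
    intro hc
    apply hG
    exact ⟨⟨fun x y => (IsCyclic.commGroup (α := G)).mul_comm x y⟩⟩
  rcases Cfsg.Agent.S0998.result hcyc p q r b hp hq hr hpq hpr hqr hn with
    ⟨F, _, _, hF, ⟨e⟩⟩ | ⟨F, _, _, hF, ⟨e⟩⟩
  · have h1 := (Cfsg.Agent.Lib.Helper7.PSLp.psl_simple_card (F := F) (p := 5) (m := 2) rfl
      (by norm_num) hF).2
    rw [← Nat.card_congr e.toEquiv, hn] at h1
    exact h60 h1
  · have h1 := (Cfsg.Agent.Lib.Helper7.PSLp.psl_simple_card (F := F) (p := 7) (m := 3) rfl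
      (by norm_num) hF).2
    rw [← Nat.card_congr e.toEquiv, hn] at h1
    exact h168 h1

theorem ns_4928 (hG : ¬ IsMulCommutative G) (hn : Nat.card G = 4928) : False :=
  ns_prq hG 7 2 11 6 (by norm_num) (by norm_num) (by norm_num) (by norm_num) (by norm_num)
    (by norm_num) (by rw [hn]; norm_num) (by norm_num) (by norm_num)

theorem ns_4960 (hG : ¬ IsMulCommutative G) (hn : Nat.card G = 4960) : False :=
  ns_prq hG 5 2 31 5 (by norm_num) (by norm_num) (by norm_num) (by norm_num) (by norm_num)
    (by norm_num) (by rw [hn]; norm_num) (by norm_num) (by norm_num)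

theorem ns_5104 (hG : ¬ IsMulCommutative G) (hn : Nat.card G = 5104) : False :=
  ns_prq hG 11 2 29 4 (by norm_num) (by norm_num) (by norm_num) (by norm_num) (by norm_num)
    (by norm_num) (by rw [hn]; norm_num) (by norm_num) (by norm_num)

end Cfsg.Agent.Lib.Helper2.Ord
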