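import Mathlib
import Cfsg.Agent.Lib.Helper2.OrdC
import Cfsg.Agent.S0991

/-! The order `4896 = 2^5 * 3^2 * 17`: the only Sylow data at `p = 17` is `n_17 = 18`,
`|N(P)| = 272`, `C(P) = P`; an element `h` of order `16` of `N(P)` generating `N(P)/C(P)` acts
on the `18` Sylow `17`-subgroups as a `16`-cycle, an odd permutation (helper2, for S0983). -/

set_option autoImplicit false
set_option linter.style.haveILetI false
set_option maxRecDepth 100000

namespace Cfsg.Agent.Lib.Helper2.Ord

open Cfsg.Agent.Lib.Lead Cfsg.Agent.Lib.Lead.SylowCount Cfsg.Agent.Lib.Helper7.SylPar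

/-- a permutation of order `16` moving exactly `16` points is odd -/
theorem sign_sixteen {α : Type*} [Fintype α] [DecidableEq α] (σ : Equiv.Perm α)
    (h16 : σ ^ 16 = 1) (h8 : σ ^ 8 ≠ 1) (hsum : σ.cycleType.sum = 16) :
    Equiv.Perm.sign σ = -1 := by
  have ho16 : orderOf σ ∣ 16 := orderOf_dvd_of_pow_eq_one h16
  have ho8 : ¬ orderOf σ ∣ 8 := fun hd => h8 (orderOf_dvd_iff_pow_eq_one.mp hd)
  have hmem : 16 ∈ σ.cycleType := by
    by_contra hno
    apply ho8
    rw [← Equiv.Perm.lcm_cycleType]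
    apply Multiset.lcm_dvd.mpr
    intro b hb
    have h1 : b ∣ 16 := (Equiv.Perm.dvd_of_mem_cycleType hb).trans ho16
    have h2 : b ≠ 16 := fun h => hno (h ▸ hb)
    have h3 : b ≤ 16 := Nat.le_of_dvd (by norm_num) h1
    interval_cases b <;> omega
  obtain ⟨t, ht⟩ := Multiset.exists_cons_of_mem hmem
  have hts : t.sum = 0 := by
    rw [ht, Multiset.sum_cons] at hsum
    omega
  have ht0 : t = 0 := by
    by_contra hne
    obtain ⟨b, hb⟩ := Multiset.exists_mem_of_ne_zero hne
    have h1 : 2 ≤ b := Equiv.Perm.two_le_of_mem_cycleType (σ := σ) (by rw [ht]; exact Multiset.mem_cons_of_mem hb)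
    have h2 : b = 0 := (Multiset.sum_eq_zero_iff.mp hts) b hb
    omega
  rw [Equiv.Perm.sign_of_cycleType, hsum, ht, ht0]
  simp only [Multiset.card_cons, Multiset.card_zero]
  exact Odd.neg_one_pow (by decide)

variable {G : Type*} [Group G] [Finite G]

omit [Finite G] in
/-- an element of `N(P)` of order dividing `16` whose eighth power does not centralize `P` -/
theorem exists_gen_17 (P : Sylow 17 G) (hP : Nat.card P = 17)
    (hC : Nat.card (Subgroup.centralizer ((P : Subgroup G) : Set G)) = 17)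
    (hN : Nat.card (Subgroup.normalizer ((P : Subgroup G) : Set G)) = 272) :
    ∃ h ∈ Subgroup.normalizer ((P : Subgroup G) : Set G), h ^ 16 = 1 ∧
      h ^ 8 ∉ Subgroup.centralizer ((P : Subgroup G) : Set G) := by
  haveI : Fact (Nat.Prime 17) := ⟨by norm_num⟩
  haveI hcyc : IsCyclic ↥(P : Subgroup G) := isCyclic_of_prime_card hP
  haveI : Fact (Nat.card ↥(P : Subgroup G)).Prime := ⟨by rw [hP]; norm_num⟩
  haveI : NeZero (Nat.card ↥(P : Subgroup G)) := ⟨by rw [hP]; norm_num⟩
  let φ := (P : Subgroup G).normalizerMonoidHom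
  let e := IsCyclic.mulAutMulEquiv ↥(P : Subgroup G)
  let ψ : ↥(Subgroup.normalizer ((P : Subgroup G) : Set G)) →*
      (ZMod (Nat.card ↥(P : Subgroup G)))ˣ := e.toMonoidHom.comp φ
  have hker : ψ.ker = (Subgroup.centralizer ((P : Subgroup G) : Set G)).subgroupOf
      (Subgroup.normalizer ((P : Subgroup G) : Set G)) := by
    rw [← Subgroup.normalizerMonoidHom_ker]
    ext x
    simp only [MonoidHom.mem_ker, ψ, MonoidHom.comp_apply]
    constructor
    · intro hx
      have : e (φ x) = e 1 := by rw [map_one]; exact hx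
      exact e.injective this
    · intro hx
      have hx' : φ x = 1 := hx
      rw [hx']
      exact map_one _
  have hcker : Nat.card ψ.ker = 17 := by
    rw [hker, Nat.card_congr (Subgroup.subgroupOfEquivOfLe
      (Subgroup.centralizer_le_normalizer _)).toEquiv, hC]
  have hrange : Nat.card ψ.range = 16 := by
    have h1 := Subgroup.card_mul_index ψ.ker
    rw [Subgroup.index_ker, hcker, hN] at h1
    omega
  have hU : Nat.card (ZMod (Nat.card ↥(P : Subgroup G)))ˣ = 16 := by
    rw [Nat.card_eq_fintype_card, ZMod.card_units_eq_totient, hP]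
    exact Nat.totient_prime (by norm_num)
  have hsurj : ψ.range = ⊤ := by
    apply Subgroup.eq_top_of_card_eq
    rw [hrange, hU]
  obtain ⟨u₀, hu₀⟩ := IsCyclic.exists_generator (α := (ZMod (Nat.card ↥(P : Subgroup G)))ˣ)
  have hord : orderOf u₀ = 16 := by rw [orderOf_eq_card_of_forall_mem_zpowers hu₀, hU]
  obtain ⟨h₁, hh₁⟩ : u₀ ∈ ψ.range := by rw [hsurj]; trivial
  refine ⟨((h₁ ^ 17 : ↥(Subgroup.normalizer ((P : Subgroup G) : Set G))) : G),
    (h₁ ^ 17).2, ?_, ?_⟩
  · have h1 : (h₁ ^ 17) ^ 16 = 1 := by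
      rw [← pow_mul]
      have := pow_card_eq_one' (G := ↥(Subgroup.normalizer ((P : Subgroup G) : Set G))) (x := h₁)
      rw [hN] at this
      exact this
    have h2 := congrArg Subtype.val h1
    simpa using h2
  · intro hmem
    have h1 : (h₁ ^ 17) ^ 8 ∈ ψ.ker := by
      rw [hker, Subgroup.mem_subgroupOf]
      simpa using hmem
    rw [MonoidHom.mem_ker, map_pow, map_pow, hh₁, ← pow_mul] at h1
    have h2 := orderOf_dvd_of_pow_eq_one h1
    rw [hord] at h2
    omega

theorem ns_4896 [IsSimpleGroup G] (hG : ¬ IsMulCommutative G) (hn : Nat.card G = 4896) :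
    False := by
  obtain ⟨dk, hdk, hsd⟩ := cases_p1 hG (p := 17) (by norm_num) (by norm_num) hn (by norm_num)
    (by norm_num) (fun _ _ _ => True) (fun _ _ _ _ => trivial) [(18, 16)] (by decide +kernel)
  simp only [List.mem_singleton] at hdk
  subst hdk
  have hsd' : SD G 4896 17 18 16 1 := hsd
  haveI : Fact (Nat.Prime 17) := ⟨by norm_num⟩
  haveI : Fact (Nat.Prime 2) := ⟨Nat.prime_two⟩
  obtain ⟨P⟩ : Nonempty (Sylow 17 G) := inferInstance
  have hP := hsd'.cP P
  have hC := hsd'.cC P
  have hN := hsd'.cN P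
  obtain ⟨h, hhN, h16, h8⟩ := exists_gen_17 P hP (by rw [hC]) (by rw [hN])
  have hhC : h ∉ Subgroup.centralizer ((P : Subgroup G) : Set G) :=
    fun hc => h8 (Subgroup.pow_mem _ hc 8)
  -- `h` fixes exactly two Sylow subgroups
  have hb := fix_bound P hP hhN hhC
  rw [hsd'.syl] at hb
  have hpar := fix_modEq_prime (α := Sylow 17 G) 2 h 4 (by norm_num; exact h16)
  rw [hsd'.syl] at hpar
  have hPfix : P ∈ MulAction.fixedBy (Sylow 17 G) h := by
    rw [MulAction.mem_fixedBy]
    exact Sylow.smul_eq_iff_mem_normalizer.mpr hhN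
  have hpos : 0 < Nat.card (MulAction.fixedBy (Sylow 17 G) h) := by
    haveI : Nonempty (MulAction.fixedBy (Sylow 17 G) h) := ⟨⟨P, hPfix⟩⟩
    exact Nat.card_pos
  have hf : Nat.card (MulAction.fixedBy (Sylow 17 G) h) = 2 := by
    unfold Nat.ModEq at hpar
    omega
  classical
  haveI := Fintype.ofFinite (Sylow 17 G)
  have hs : Equiv.Perm.sign (MulAction.toPermHom G (Sylow 17 G) h) = 1 :=
    Cfsg.Agent.S0991.sign_eq_one_of_injective hG _ h
  have hσ16 : (MulAction.toPermHom G (Sylow 17 G) h) ^ 16 = 1 := by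
    rw [← map_pow, h16, map_one]
  have hσ8 : (MulAction.toPermHom G (Sylow 17 G) h) ^ 8 ≠ 1 := by
    intro h0
    rw [← map_pow] at h0
    have h1 : ∀ Q : Sylow 17 G, h ^ 8 • Q = Q := by
      intro Q
      have := congrArg (fun τ : Equiv.Perm (Sylow 17 G) => τ Q) h0
      simpa using this
    have h2 := eq_one_of_fix_all (p := 17) hsd'.syl_ne_one h1
    apply h8
    rw [h2]
    exact Subgroup.one_mem _
  have hsum : (MulAction.toPermHom G (Sylow 17 G) h).cycleType.sum = 16 := by
    have h1 := Equiv.Perm.card_fixedPoints (MulAction.toPermHom G (Sylow 17 G) h)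
    have h2 : Nat.card (MulAction.fixedBy (Sylow 17 G) h) =
        Nat.card (Function.fixedPoints (MulAction.toPermHom G (Sylow 17 G) h)) := rfl
    rw [h2, Nat.card_eq_fintype_card] at hf
    have h3 := Equiv.Perm.sum_cycleType_le (MulAction.toPermHom G (Sylow 17 G) h)
    have h4 : Fintype.card (Sylow 17 G) = 18 := by
      rw [← Nat.card_eq_fintype_card]; exact hsd'.syl
    omega
  have hneg := sign_sixteen _ hσ16 hσ8 hsum
  rw [hs] at hneg
  exact absurd hneg (by decide)

end Cfsg.Agent.Lib.Helper2.Ord
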