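import Mathlib
import Cfsg.Agent.Lib.Helper2.OrdC
import Cfsg.Agent.S0215
import Cfsg.Agent.Lib.Helper1.Nilpotent

/-! A `Z*`-kill for Sylow data `(d, k, m)` with `d` odd, `k = 2` and `m k` a power of two:
an involution of `C(P) ∩ Z(S)` fixes only `P` on the Sylow `p`-subgroups, hence is isolated in
the Sylow `2`-subgroup `S ≤ N(P)`; Glauberman's theorem (S0215) finishes.  Used for the order
`3960` (helper2, for S0983 and S2490). -/

set_option autoImplicit false
set_option linter.style.haveILetI false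

namespace Cfsg.Agent.Lib.Helper2.Ord

open Cfsg.Agent.Lib.Lead Cfsg.Agent.Lib.Lead.SylowCount Cfsg.Agent.Lib.Helper7.SylPar

variable {G : Type*} [Group G] [Finite G]

theorem SD.not_zstar [IsSimpleGroup G] (hG : ¬ IsMulCommutative G) {n p d k m : ℕ}
    (h : SD G n p d k m) (hp2 : p ≠ 2) (hd : ¬ 2 ∣ d) (a : ℕ) (ha : 2 ≤ a)
    (hmk : m * k = 2 ^ a) (hk2 : k = 2)
    (hfix : ∀ f, f % p = 1 → f % 4 = d % 4 → f < d → f = 1) : False := by
  haveI : Fact p.Prime := h.fact
  haveI : Fact (Nat.Prime 2) := ⟨Nat.prime_two⟩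
  have hpodd : ¬ 2 ∣ p := fun h2 =>
    hp2 ((Nat.prime_dvd_prime_iff_eq Nat.prime_two h.prime).mp h2).symm
  obtain ⟨P⟩ : Nonempty (Sylow p G) := inferInstance
  obtain ⟨N, hN⟩ : ∃ N : Subgroup G, N = Subgroup.normalizer ((P : Subgroup G) : Set G) :=
    ⟨_, rfl⟩
  obtain ⟨C, hC⟩ : ∃ C : Subgroup G, C = Subgroup.centralizer ((P : Subgroup G) : Set G) :=
    ⟨_, rfl⟩
  have hCN : C ≤ N := by rw [hC, hN]; exact Subgroup.centralizer_le_normalizer _
  have hcN : Nat.card N = p * 2 ^ a := by rw [hN, h.cN P, mul_assoc, hmk]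
  have hcG : Nat.card G = 2 ^ a * (d * p) := by
    rw [h.card, ← h.eq, mul_assoc p, hmk]; ring
  have hdp : ¬ 2 ∣ d * p := fun h2 =>
    ((Nat.Prime.dvd_mul Nat.prime_two).mp h2).elim hd hpodd
  have hNidx : N.index = d := by
    have h1 := N.card_mul_index
    rw [hcN, hcG] at h1
    have hpos : 0 < p * 2 ^ a := Nat.mul_pos h.prime.pos (by positivity)
    apply Nat.eq_of_mul_eq_mul_left hpos
    rw [h1]; ring
  obtain ⟨S₀⟩ : Nonempty (Sylow 2 N) := inferInstance
  obtain ⟨S₁, hS₁⟩ : ∃ S₁ : Subgroup G, S₁ = (S₀ : Subgroup N).map N.subtype := ⟨_, rfl⟩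
  have hS₁N : S₁ ≤ N := by rw [hS₁]; exact Subgroup.map_subtype_le _
  have hS₁p : IsPGroup 2 S₁ := by rw [hS₁]; exact S₀.isPGroup'.map N.subtype
  have hidx : ¬ 2 ∣ S₁.index := by
    rw [hS₁, Subgroup.index_map_subtype, hNidx]
    intro h2
    rcases (Nat.Prime.dvd_mul Nat.prime_two).mp h2 with h3 | h3
    · exact S₀.not_dvd_index h3
    · exact hd h3
  obtain ⟨S, hS⟩ : ∃ S : Sylow 2 G, (S : Subgroup G) = S₁ := ⟨hS₁p.toSylow hidx, rfl⟩
  have hcS : Nat.card S₁ = 2 ^ a := by
    have h1 := card_sylow_of_card_eq_pow 2 a (d * p) hcG hdp S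
    rw [← hS]; exact h1
  -- `C ∩ S₁` is a nontrivial normal subgroup of `S₁`
  haveI hnorm : (C.subgroupOf S₁).Normal := by
    constructor
    intro c hc s
    rw [Subgroup.mem_subgroupOf] at hc ⊢
    have hsN : ((s : G))⁻¹ ∈ N := N.inv_mem (hS₁N s.2)
    rw [hC, Subgroup.mem_centralizer_iff] at hc
    rw [hC, Subgroup.mem_centralizer_iff]
    intro x hx
    have hx' : (s : G)⁻¹ * x * (s : G) ∈ (P : Subgroup G) := by
      rw [hN] at hsN
      have := (Subgroup.mem_normalizer_iff.mp hsN x).mp hx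
      rwa [inv_inv] at this
    have h1 := hc _ hx'
    push_cast
    calc x * ((s : G) * (c : G) * (s : G)⁻¹)
        = (s : G) * (((s : G)⁻¹ * x * (s : G)) * (c : G)) * (s : G)⁻¹ := by group
      _ = (s : G) * ((c : G) * ((s : G)⁻¹ * x * (s : G))) * (s : G)⁻¹ := by rw [h1]
      _ = (s : G) * (c : G) * (s : G)⁻¹ * x := by group
  have hne : C.subgroupOf S₁ ≠ ⊥ := by
    intro h0
    have h1 : C.relIndex S₁ = 2 ^ a := by
      unfold Subgroup.relIndex
      rw [h0, Subgroup.index_bot, hcS]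
    have h2 : C.relIndex N = k := by rw [hC, hN]; exact h.relIndex P
    have h3 : C.relIndex S₁ ≤ C.relIndex N :=
      Subgroup.relIndex_le_of_le_right hS₁N (by rw [h2, hk2]; norm_num)
    rw [h1, h2, hk2] at h3
    have : 2 ^ 2 ≤ 2 ^ a := Nat.pow_le_pow_right (by norm_num) ha
    omega
  haveI : Group.IsNilpotent S₁ := hS₁p.isNilpotent
  have h2 := Cfsg.Agent.Lib.Helper1.normal_inf_center_ne_bot (C.subgroupOf S₁) hne
  obtain ⟨⟨w, hw⟩, hw1⟩ := (Subgroup.ne_bot_iff_exists_ne_one).mp h2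
  obtain ⟨T, hT⟩ : ∃ T : Subgroup G, T = C ⊓ S₁ ⊓ Subgroup.centralizer (S₁ : Set G) := ⟨_, rfl⟩
  have hwT : (w : G) ∈ T := by
    rw [hT]
    refine ⟨⟨?_, w.2⟩, ?_⟩
    · exact Subgroup.mem_subgroupOf.mp hw.1
    · show (w : G) ∈ Subgroup.centralizer (S₁ : Set G)
      rw [Subgroup.mem_centralizer_iff]
      intro s hs
      have := Subgroup.mem_center_iff.mp hw.2 ⟨s, hs⟩
      exact congrArg Subtype.val this
  have hwne : (w : G) ≠ 1 := by
    intro h0
    apply hw1
    apply Subtype.ext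
    apply Subtype.ext
    exact h0
  have hTS : T ≤ S₁ := by rw [hT]; exact inf_le_left.trans inf_le_right
  have hT2 : 2 ∣ Nat.card T := by
    have h1 : Nat.card T ∣ 2 ^ a := by rw [← hcS]; exact Subgroup.card_dvd_of_le hTS
    obtain ⟨j, -, hj⟩ := (Nat.dvd_prime_pow Nat.prime_two).mp h1
    rcases Nat.eq_zero_or_pos j with h0 | h0
    · rw [h0, pow_zero, Subgroup.card_eq_one] at hj
      rw [hj, Subgroup.mem_bot] at hwT
      exact absurd hwT hwne
    · rw [hj]; exact dvd_pow_self 2 h0.ne'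
  obtain ⟨z, hzT, hzz, hz1⟩ := exists_involution T hT2
  have hzC : z ∈ C := by rw [hT] at hzT; exact hzT.1.1
  have hzS : z ∈ S₁ := hTS hzT
  have hzZ : ∀ s ∈ S₁, s * z = z * s := by
    rw [hT] at hzT
    exact fun s hs => Subgroup.mem_centralizer_iff.mp hzT.2 s hs
  have hzP : ∀ x ∈ (P : Subgroup G), x * z = z * x := by
    rw [hC] at hzC
    exact fun x hx => Subgroup.mem_centralizer_iff.mp hzC x hx
  -- `z` fixes only `P`
  have hf1 := fix_modEq_one P hzP
  have hf4 := fix_modEq_four hG (α := Sylow p G) z hzz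
  have hlt := fix_lt (p := p) h.syl_ne_one hz1
  have hf : Nat.card (MulAction.fixedBy (Sylow p G) z) = 1 := by
    apply hfix
    · have := hf1
      unfold Nat.ModEq at this
      rw [this]; exact Nat.mod_eq_of_lt h.prime.one_lt
    · have := hf4
      unfold Nat.ModEq at this
      rw [this, h.syl]
    · rw [← h.syl]; exact hlt
  have hPfix : P ∈ MulAction.fixedBy (Sylow p G) z := by
    rw [MulAction.mem_fixedBy]
    apply Sylow.smul_eq_iff_mem_normalizer.mpr
    have := hCN hzC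
    rw [hN] at this
    exact this
  have hsub : Subsingleton (MulAction.fixedBy (Sylow p G) z) :=
    (Nat.card_eq_one_iff_unique.mp hf).1
  have hfixP : ∀ Q : Sylow p G, z • Q = Q → Q = P := by
    intro Q hQ
    have := Subsingleton.elim (⟨Q, hQ⟩ : MulAction.fixedBy (Sylow p G) z) ⟨P, hPfix⟩
    exact congrArg Subtype.val this
  -- `z` is central in `N`
  obtain ⟨H, hH⟩ : ∃ H : Subgroup G, H = Subgroup.centralizer ({z} : Set G) ⊓ N := ⟨_, rfl⟩
  have hPH : (P : Subgroup G) ≤ H := by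
    rw [hH]
    refine le_inf (fun x hx => Subgroup.mem_centralizer_singleton_iff.mpr (hzP x hx)) ?_
    rw [hN]; exact Subgroup.le_normalizer
  have hSH : S₁ ≤ H := by
    rw [hH]
    exact le_inf (fun s hs => Subgroup.mem_centralizer_singleton_iff.mpr (hzZ s hs)) hS₁N
  have h11 : p ∣ Nat.card H := by
    have := Subgroup.card_dvd_of_le hPH
    rwa [h.cP P] at this
  have h12 : 2 ^ a ∣ Nat.card H := by rw [← hcS]; exact Subgroup.card_dvd_of_le hSH
  have hcop : Nat.Coprime p (2 ^ a) :=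
    Nat.Coprime.pow_right a ((Nat.coprime_primes h.prime Nat.prime_two).mpr hp2)
  have h13 : p * 2 ^ a ∣ Nat.card H := hcop.mul_dvd_of_dvd_of_dvd h11 h12
  have hHN : H = N :=
    Subgroup.eq_of_le_of_card_ge (by rw [hH]; exact inf_le_right)
      (by rw [hcN]; exact Nat.le_of_dvd Nat.card_pos h13)
  have hiso : ∀ g : G, g * z * g⁻¹ ∈ S → g * z * g⁻¹ = z := by
    intro g hg
    have hg0 : g * z * g⁻¹ ∈ S₁ := by rw [← hS]; exact hg
    have hg1 : g * z * g⁻¹ ∈ Subgroup.normalizer ((P : Subgroup G) : Set G) := by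
      rw [← hN]; exact hS₁N hg0
    have h3 : (g * z * g⁻¹) • P = P := Sylow.smul_eq_iff_mem_normalizer.mpr hg1
    have h4 : z • (g⁻¹ • P) = g⁻¹ • P := by
      have h5 : g⁻¹ • ((g * z * g⁻¹) • P) = g⁻¹ • P := by rw [h3]
      rw [← mul_smul] at h5
      rw [← mul_smul]
      have h6 : g⁻¹ * (g * z * g⁻¹) = z * g⁻¹ := by group
      rw [h6] at h5
      exact h5
    have h5 : g⁻¹ • P = P := hfixP _ h4
    have h6 : g⁻¹ ∈ N := by rw [hN]; exact Sylow.smul_eq_iff_mem_normalizer.mp h5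
    have h7 : g ∈ N := by simpa using N.inv_mem h6
    have h8 : g ∈ H := by rw [hHN]; exact h7
    rw [hH] at h8
    have h9 := Subgroup.mem_centralizer_singleton_iff.mp h8.1
    rw [h9, mul_inv_cancel_right]
  have hord : orderOf z = 2 := orderOf_eq_prime (by rw [pow_two]; exact hzz) hz1
  have hzS' : z ∈ S := by
    have : z ∈ (S : Subgroup G) := by rw [hS]; exact hzS
    exact this
  obtain ⟨M, hMn, hModd, hM⟩ := Cfsg.Agent.S0215.result S z hord hzS' hiso
  rcases hMn.eq_bot_or_eq_top with h0 | h0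
  · have hzc : z ∈ Subgroup.center G := by
      rw [Subgroup.mem_center_iff]
      intro g
      have h1 := hM g
      rw [h0, Subgroup.mem_bot] at h1
      have h' : z * g = g * z := by
        calc z * g = (z * g * z⁻¹ * g⁻¹) * (g * z) := by group
          _ = g * z := by rw [h1, one_mul]
      exact h'.symm
    rcases (inferInstance : (Subgroup.center G).Normal).eq_bot_or_eq_top with hc | hc
    · rw [hc, Subgroup.mem_bot] at hzc; exact hz1 hzc
    · apply hG
      refine ⟨⟨fun x y => ?_⟩⟩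
      have hy : y ∈ Subgroup.center G := by rw [hc]; exact Subgroup.mem_top y
      exact Subgroup.mem_center_iff.mp hy x
  · rw [h0, Subgroup.card_top, hcG] at hModd
    have hev : Even (2 ^ a * (d * p)) :=
      Even.mul_right ((Nat.even_pow).mpr ⟨even_two, by omega⟩) _
    exact (Nat.not_odd_iff_even.mpr hev) hModd

/-- there is no simple group of order `3960` -/
theorem ns_3960 [IsSimpleGroup G] (hG : ¬ IsMulCommutative G) (hn : Nat.card G = 3960) :
    False := by
  obtain ⟨dk, hdk, h⟩ := cases_p1 hG (p := 11) (by norm_num) (by norm_num) hn (by norm_num)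
    (by norm_num) (fun _ _ _ => True) (fun _ _ _ _ => trivial) [(45, 2)] (by decide +kernel)
  simp only [List.mem_singleton] at hdk
  subst hdk
  have h' : SD G 3960 11 45 2 4 := h
  exact h'.not_zstar hG (by norm_num) (by norm_num) 3 (by norm_num) (by norm_num) rfl
    (by
      intro f h1 h2 h3
      interval_cases f <;> simp_all)

end Cfsg.Agent.Lib.Helper2.Ord
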