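import Mathlib
import Cfsg.Agent.Lib.Helper2.OrdK1
import Cfsg.Agent.Lib.Helper2.OrdZ
import Cfsg.Agent.Lib.Helper2.OrdP
import Cfsg.Agent.Lib.Helper8.Ord3780
import Cfsg.Agent.Lib.Helper5.Ord.Ord4760
import Cfsg.Agent.Lib.Helper5.Ord.Ord5400
import Cfsg.Agent.Lib.Helper5.Ord.Ord5600
import Cfsg.Agent.Lib.Helper5.Ord.Ord5880

/-! Orders in `(3640, 6232]` that survive the generic Sylow counting, part 2: the orders killed
by helper5 and helper8, in the uniform shape used by the generated blocks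
(helper2, for S0983). -/

set_option autoImplicit false

namespace Cfsg.Agent.Lib.Helper2.Ord

variable {G : Type*} [Group G] [Finite G] [IsSimpleGroup G]

theorem ns_3780 (_hG : ¬ IsMulCommutative G) (hn : Nat.card G = 3780) : False :=
  Cfsg.Agent.Lib.Helper8.Ord3780.not_simple hn

theorem ns_4760 (_hG : ¬ IsMulCommutative G) (hn : Nat.card G = 4760) : False :=
  Cfsg.Agent.Lib.Helper5.Ord.false_of_card_4760 hn

theorem ns_5400 (_hG : ¬ IsMulCommutative G) (hn : Nat.card G = 5400) : False :=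
  Cfsg.Agent.Lib.Helper5.Ord.false_of_card_5400 hn

theorem ns_5600 (_hG : ¬ IsMulCommutative G) (hn : Nat.card G = 5600) : False :=
  Cfsg.Agent.Lib.Helper5.Ord.false_of_card_5600 hn

theorem ns_5880 (_hG : ¬ IsMulCommutative G) (hn : Nat.card G = 5880) : False :=
  Cfsg.Agent.Lib.Helper5.Ord.false_of_card_5880 hn

end Cfsg.Agent.Lib.Helper2.Ord
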