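import Mathlib
import Cfsg.Agent.Lib.Helper2.OrdK2
import Cfsg.Agent.Lib.Helper3.Ord4620
import Cfsg.Agent.Lib.Helper3.Ord4680
import Cfsg.Agent.Lib.Helper3.Ord5460
import Cfsg.Agent.Lib.Helper3.Ord5724

/-! Orders in `(3640, 6232]` that survive the generic Sylow counting, part 3: the orders killed
by helper3, in the uniform shape used by the generated blocks (helper2, for S0983). -/

set_option autoImplicit false

namespace Cfsg.Agent.Lib.Helper2.Ord

variable {G : Type*} [Group G] [Finite G] [IsSimpleGroup G]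

theorem ns_4620 (_hG : ¬ IsMulCommutative G) (hn : Nat.card G = 4620) : False :=
  Cfsg.Agent.Lib.Helper3.Ord4620.not_simple hn

theorem ns_4680 (_hG : ¬ IsMulCommutative G) (hn : Nat.card G = 4680) : False :=
  Cfsg.Agent.Lib.Helper3.Ord4680.not_simple hn

theorem ns_5460 (_hG : ¬ IsMulCommutative G) (hn : Nat.card G = 5460) : False :=
  Cfsg.Agent.Lib.Helper3.Ord5460.not_simple hn

theorem ns_5724 (_hG : ¬ IsMulCommutative G) (hn : Nat.card G = 5724) : False :=
  Cfsg.Agent.Lib.Helper3.Ord5724.not_simple hn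

end Cfsg.Agent.Lib.Helper2.Ord
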