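import Mathlib
import Cfsg.Agent.Lib.Helper2.OrdZ
import Cfsg.Agent.Lib.Helper6.BLSimple2

/-! More kills for fixed Sylow data (helper2, for S4274):
* `SD.zstar_core`: the common `Z*` argument;
* `SD.not_zstar2`: `|C(P)| = 2p`, `n_p` odd and the fixed point congruences force an isolated
  involution;
* `SD.not_e2`, `SD.not_e3`: the degree equation of the principal block for `|N(P):C(P)| = 2, 3`
  (from helper6's `bl_small`) as decidable checks. -/

set_option autoImplicit false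
set_option linter.style.haveILetI false

namespace Cfsg.Agent.Lib.Helper2.Ord

open Cfsg.Agent.Lib.Lead Cfsg.Agent.Lib.Lead.SylowCount Cfsg.Agent.Lib.Helper7.SylPar

variable {G : Type*} [Group G] [Finite G]

/-- the common part of the `Z*` kills -/
theorem SD.zstar_core [IsSimpleGroup G] (hG : ¬ IsMulCommutative G) {n p d k m : ℕ}
    (h : SD G n p d k m)
    (hfix : ∀ f, f % p = 1 → f % 4 = d % 4 → f < d → f = 1)
    (P : Sylow p G) (S : Sylow 2 G)
    (hSN : (S : Subgroup G) ≤ Subgroup.normalizer ((P : Subgroup G) : Set G))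
    (z : G) (hzz : z * z = 1) (hz1 : z ≠ 1) (hzS : z ∈ S)
    (hzC : z ∈ Subgroup.centralizer ((P : Subgroup G) : Set G))
    (hcent : ∀ g ∈ Subgroup.normalizer ((P : Subgroup G) : Set G), g * z * g⁻¹ = z) :
    False := by
  haveI : Fact p.Prime := h.fact
  have hzP : ∀ x ∈ (P : Subgroup G), x * z = z * x :=
    fun x hx => Subgroup.mem_centralizer_iff.mp hzC x hx
  have hf1 := fix_modEq_one P hzP
  have hf4 := fix_modEq_four hG (α := Sylow p G) z hzz
  have hlt := fix_lt (p := p) h.syl_ne_one hz1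
  have hf : Nat.card (MulAction.fixedBy (Sylow p G) z) = 1 := by
    apply hfix
    · have := hf1
      unfold Nat.ModEq at this
      rw [this]; exact Nat.mod_eq_of_lt h.prime.one_lt
    · have := hf4
      unfold Nat.ModEq at this
      rw [this, h.syl]
    · rw [← h.syl]; exact hlt
  have hPfix : P ∈ MulAction.fixedBy (Sylow p G) z := by
    rw [MulAction.mem_fixedBy]
    exact Sylow.smul_eq_iff_mem_normalizer.mpr (Subgroup.centralizer_le_normalizer _ hzC)
  have hsub : Subsingleton (MulAction.fixedBy (Sylow p G) z) :=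
    (Nat.card_eq_one_iff_unique.mp hf).1
  have hfixP : ∀ Q : Sylow p G, z • Q = Q → Q = P := by
    intro Q hQ
    have := Subsingleton.elim (⟨Q, hQ⟩ : MulAction.fixedBy (Sylow p G) z) ⟨P, hPfix⟩
    exact congrArg Subtype.val this
  have hiso : ∀ g : G, g * z * g⁻¹ ∈ S → g * z * g⁻¹ = z := by
    intro g hg
    have hg1 : g * z * g⁻¹ ∈ Subgroup.normalizer ((P : Subgroup G) : Set G) := hSN hg
    have h3 : (g * z * g⁻¹) • P = P := Sylow.smul_eq_iff_mem_normalizer.mpr hg1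
    have h4 : z • (g⁻¹ • P) = g⁻¹ • P := by
      have h5 : g⁻¹ • ((g * z * g⁻¹) • P) = g⁻¹ • P := by rw [h3]
      rw [← mul_smul] at h5
      rw [← mul_smul]
      have h6 : g⁻¹ * (g * z * g⁻¹) = z * g⁻¹ := by group
      rw [h6] at h5
      exact h5
    have h5 : g⁻¹ • P = P := hfixP _ h4
    have h6 : g⁻¹ ∈ Subgroup.normalizer ((P : Subgroup G) : Set G) :=
      Sylow.smul_eq_iff_mem_normalizer.mp h5
    have h7 : g ∈ Subgroup.normalizer ((P : Subgroup G) : Set G) := by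
      simpa using Subgroup.inv_mem _ h6
    exact hcent g h7
  have hord : orderOf z = 2 := orderOf_eq_prime (by rw [pow_two]; exact hzz) hz1
  obtain ⟨M, hMn, hModd, hM⟩ := Cfsg.Agent.S0215.result S z hord hzS hiso
  rcases hMn.eq_bot_or_eq_top with h0 | h0
  · have hzc : z ∈ Subgroup.center G := by
      rw [Subgroup.mem_center_iff]
      intro g
      have h1 := hM g
      rw [h0, Subgroup.mem_bot] at h1
      have h' : z * g = g * z := by
        calc z * g = (z * g * z⁻¹ * g⁻¹) * (g * z) := by group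
          _ = g * z := by rw [h1, one_mul]
      exact h'.symm
    rcases (inferInstance : (Subgroup.center G).Normal).eq_bot_or_eq_top with hc | hc
    · rw [hc, Subgroup.mem_bot] at hzc; exact hz1 hzc
    · apply hG
      refine ⟨⟨fun x y => ?_⟩⟩
      have hy : y ∈ Subgroup.center G := by rw [hc]; exact Subgroup.mem_top y
      exact Subgroup.mem_center_iff.mp hy x
  · rw [h0] at hModd
    exact hz1 (eq_one_of_sq_of_odd hModd hzz (Subgroup.mem_top z))

omit [Finite G] in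
/-- a subgroup of odd index contains a Sylow `2`-subgroup, which contains any given involution
central in the subgroup -/
theorem exists_sylow_two_le [Finite G] (N : Subgroup G) (hodd : ¬ 2 ∣ N.index) (z : G)
    (hzN : z ∈ N) (hzz : z * z = 1) (hcent : ∀ g ∈ N, g * z * g⁻¹ = z) :
    ∃ S : Sylow 2 G, (S : Subgroup G) ≤ N ∧ z ∈ S := by
  haveI : Fact (Nat.Prime 2) := ⟨Nat.prime_two⟩
  obtain ⟨S₀⟩ : Nonempty (Sylow 2 N) := inferInstance
  have hp : IsPGroup 2 ((S₀ : Subgroup N).map N.subtype) := S₀.isPGroup'.map N.subtype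
  have hidx : ¬ 2 ∣ ((S₀ : Subgroup N).map N.subtype).index := by
    rw [Subgroup.index_map_subtype]
    intro h2
    rcases (Nat.Prime.dvd_mul Nat.prime_two).mp h2 with h3 | h3
    · exact S₀.not_dvd_index h3
    · exact hodd h3
  refine ⟨hp.toSylow hidx, Subgroup.map_subtype_le _, ?_⟩
  -- the subgroup generated by `z` is a normal `2`-subgroup of `N`
  let zN : ↥N := ⟨z, hzN⟩
  have hzN2 : zN * zN = 1 := Subtype.ext hzz
  have hcomm : ∀ g : ↥N, g * zN = zN * g := by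
    intro g
    apply Subtype.ext
    have := hcent g.1 g.2
    show (g : G) * z = z * (g : G)
    calc (g : G) * z = ((g : G) * z * (g : G)⁻¹) * (g : G) := by group
      _ = z * (g : G) := by rw [this]
  haveI hnorm : (Subgroup.zpowers zN).Normal := by
    constructor
    intro x hx g
    obtain ⟨i, rfl⟩ := Subgroup.mem_zpowers_iff.mp hx
    have : g * zN ^ i * g⁻¹ = zN ^ i := by
      have h1 : Commute g zN := hcomm g
      have h2 : Commute g (zN ^ i) := h1.zpow_right i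
      rw [h2.eq, mul_inv_cancel_right]
    rw [this]
    exact hx
  have hZp : IsPGroup 2 (Subgroup.zpowers zN) := by
    intro x
    obtain ⟨i, hi⟩ := Subgroup.mem_zpowers_iff.mp x.2
    refine ⟨1, ?_⟩
    apply Subtype.ext
    rw [pow_one]
    show (x : ↥N) ^ 2 = 1
    rw [← hi, ← zpow_natCast, ← zpow_mul, mul_comm, zpow_mul, zpow_natCast, pow_two, hzN2,
      one_zpow]
  have hle := hZp.le_sylow_of_normal S₀
  have hmem : zN ∈ (S₀ : Subgroup N) := hle (Subgroup.mem_zpowers zN)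
  show z ∈ (S₀ : Subgroup N).map N.subtype
  exact ⟨zN, hmem, rfl⟩

/-- `Z*`-kill for `|C(P)| = 2p` and `n_p` odd -/
theorem SD.not_zstar2 [IsSimpleGroup G] (hG : ¬ IsMulCommutative G) {n p d k : ℕ}
    (h : SD G n p d k 2) (hp2 : p ≠ 2) (hd : ¬ 2 ∣ d)
    (hfix : ∀ f, f % p = 1 → f % 4 = d % 4 → f < d → f = 1) : False := by
  haveI : Fact p.Prime := h.fact
  have hpodd : Odd p := h.prime.odd_of_ne_two hp2
  obtain ⟨P⟩ : Nonempty (Sylow p G) := inferInstance
  have hcC := h.cC P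
  have hcP := h.cP P
  have hPC : (P : Subgroup G) ≤ Subgroup.centralizer ((P : Subgroup G) : Set G) := by
    haveI := isCyclic_of_prime_card hcP
    intro x hx
    rw [Subgroup.mem_centralizer_iff]
    intro y hy
    have := (IsCyclic.commGroup (α := ↥(P : Subgroup G))).mul_comm ⟨y, hy⟩ ⟨x, hx⟩
    exact congrArg Subtype.val this
  obtain ⟨z, hzC, hzz, hz1⟩ := exists_involution
    (Subgroup.centralizer ((P : Subgroup G) : Set G)) (by rw [hcC]; exact Dvd.intro_left p rfl)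
  have hoddP : Odd (Nat.card (P : Subgroup G)) := by rw [hcP]; exact hpodd
  -- the index of `P` in `C(P)` is two
  have hidx : ((P : Subgroup G).subgroupOf
      (Subgroup.centralizer ((P : Subgroup G) : Set G))).index = 2 := by
    have h1 := card_mul_relIndex hPC
    rw [hcP, hcC] at h1
    have : (P : Subgroup G).relIndex (Subgroup.centralizer ((P : Subgroup G) : Set G)) = 2 :=
      Nat.eq_of_mul_eq_mul_left h.prime.pos h1
    exact this
  -- `z` is the only involution of `C(P)`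
  have huniq : ∀ z' ∈ Subgroup.centralizer ((P : Subgroup G) : Set G), z' * z' = 1 → z' ≠ 1 →
      z' = z := by
    intro z' hz'C hz'z hz'1
    have hzP : z ∉ (P : Subgroup G) := fun hm => hz1 (eq_one_of_sq_of_odd hoddP hzz hm)
    have hz'P : z' ∉ (P : Subgroup G) := fun hm => hz'1 (eq_one_of_sq_of_odd hoddP hz'z hm)
    have h1 := Subgroup.mul_mem_iff_of_index_two hidx
      (a := (⟨z⁻¹, Subgroup.inv_mem _ hzC⟩ : ↥(Subgroup.centralizer ((P : Subgroup G) : Set G))))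
      (b := ⟨z', hz'C⟩)
    have h2 : z⁻¹ * z' ∈ (P : Subgroup G) := by
      have h3 := h1.mpr (by
        rw [Subgroup.mem_subgroupOf, Subgroup.mem_subgroupOf]
        constructor
        · intro hm
          exact absurd (by simpa using Subgroup.inv_mem _ hm) hzP
        · intro hm
          exact absurd hm hz'P)
      rw [Subgroup.mem_subgroupOf] at h3
      exact h3
    -- `x = z⁻¹ z'` lies in `P`, commutes with `z`, and has square one
    have hxz : (z⁻¹ * z') * z = z * (z⁻¹ * z') := Subgroup.mem_centralizer_iff.mp hzC _ h2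
    have hzinv : z⁻¹ = z := by
      rw [inv_eq_iff_mul_eq_one]; exact hzz
    have hsq : (z⁻¹ * z') * (z⁻¹ * z') = 1 := by
      rw [hzinv] at hxz ⊢
      calc z * z' * (z * z') = (z * z' * z) * z' := by group
        _ = (z * (z * z')) * z' := by rw [hxz]
        _ = (z * z) * (z' * z') := by group
        _ = 1 := by rw [hzz, hz'z, one_mul]
    have hx1 := eq_one_of_sq_of_odd hoddP hsq h2
    rw [inv_mul_eq_one] at hx1
    exact hx1.symm
  -- `z` is central in `N(P)`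
  have hcent : ∀ g ∈ Subgroup.normalizer ((P : Subgroup G) : Set G), g * z * g⁻¹ = z := by
    intro g hg
    apply huniq
    · rw [Subgroup.mem_centralizer_iff]
      intro x hx
      have hx' : g⁻¹ * x * g ∈ (P : Subgroup G) := by
        have := (Subgroup.mem_normalizer_iff.mp (Subgroup.inv_mem _ hg) x).mp hx
        rwa [inv_inv] at this
      have h1 := Subgroup.mem_centralizer_iff.mp hzC _ hx'
      calc x * (g * z * g⁻¹) = g * ((g⁻¹ * x * g) * z) * g⁻¹ := by group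
        _ = g * (z * (g⁻¹ * x * g)) * g⁻¹ := by rw [h1]
        _ = g * z * g⁻¹ * x := by group
    · calc g * z * g⁻¹ * (g * z * g⁻¹) = g * (z * z) * g⁻¹ := by group
        _ = 1 := by rw [hzz]; group
    · intro h0
      apply hz1
      have : z = g⁻¹ * (g * z * g⁻¹) * g := by group
      rw [this, h0]; group
  -- a Sylow `2`-subgroup inside `N(P)` containing `z`
  have hNidx : ¬ 2 ∣ (Subgroup.normalizer ((P : Subgroup G) : Set G)).index := by
    have h1 := (Subgroup.normalizer ((P : Subgroup G) : Set G)).card_mul_index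
    rw [h.cN P, h.card, ← h.eq] at h1
    have hpos : 0 < p * 2 * k := by
      have := h.eq
      rcases Nat.eq_zero_or_pos (p * 2 * k) with h0 | h0
      · rw [h0, mul_zero] at this
        have hn0 : 0 < n := by rw [← h.card]; exact Nat.card_pos
        omega
      · exact h0
    have : (Subgroup.normalizer ((P : Subgroup G) : Set G)).index = d := by
      apply Nat.eq_of_mul_eq_mul_left hpos
      rw [h1]; ring
    rw [this]; exact hd
  obtain ⟨S, hSN, hzS⟩ := exists_sylow_two_le _ hNidx z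
    (Subgroup.centralizer_le_normalizer _ hzC) hzz hcent
  exact h.zstar_core hG hfix P S hSN z hzz hz1 hzS hzC hcent

/-! ### the degree equation of the principal block for `k = 2, 3` -/

/-- arithmetic check for inertial index `2` -/
def E2ok (n p : ℕ) : Prop :=
  ∀ d₁ ∈ n.divisors, d₁ ≠ 1 → ∀ a₁ ∈ ({1, -1} : Finset ℤ), (d₁ : ℤ) ≡ a₁ [ZMOD p] →
    ¬ ((1 + a₁ * d₁).natAbs ∣ n ∧ 1 + d₁ ^ 2 + ((p - 1) / 2) * (1 + a₁ * d₁).natAbs ^ 2 ≤ n)

/-- arithmetic check for inertial index `3` -/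
def E3ok (n p : ℕ) : Prop :=
  ∀ d₁ ∈ n.divisors, d₁ ≠ 1 → ∀ a₁ ∈ ({1, -1} : Finset ℤ), (d₁ : ℤ) ≡ a₁ [ZMOD p] →
    ∀ d₂ ∈ n.divisors, d₂ ≠ 1 → ∀ a₂ ∈ ({1, -1} : Finset ℤ), (d₂ : ℤ) ≡ a₂ [ZMOD p] →
    ¬ ((1 + a₁ * d₁ + a₂ * d₂).natAbs ∣ n ∧
      1 + d₁ ^ 2 + d₂ ^ 2 + ((p - 1) / 3) * (1 + a₁ * d₁ + a₂ * d₂).natAbs ^ 2 ≤ n)

instance (n p : ℕ) : Decidable (E2ok n p) := by unfold E2ok; infer_instance

instance (n p : ℕ) : Decidable (E3ok n p) := by unfold E3ok; infer_instance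

omit [Finite G] in
theorem not_prime_card_of_not_comm (hG : ¬ IsMulCommutative G) : ¬ (Nat.card G).Prime := by
  intro hp
  haveI : Fact (Nat.card G).Prime := ⟨hp⟩
  haveI := isCyclic_of_prime_card (α := G) rfl
  exact hG ⟨⟨fun x y => (IsCyclic.commGroup (α := G)).mul_comm x y⟩⟩

theorem natAbs_of_unit_mul {δ s : ℤ} {e : ℕ} (hδ : δ = 1 ∨ δ = -1) (h : δ * (e : ℤ) = s) :
    s.natAbs = e := by
  rcases hδ with h1 | h1 <;> subst h1 <;> subst h <;> simp

theorem SD.not_e2 [IsSimpleGroup G] (hG : ¬ IsMulCommutative G) {n p d m : ℕ}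
    (h : SD G n p d 2 m) (hp : 2 + 2 < (p - 1) / 2) (hcheck : E2ok n p) : False := by
  classical
  haveI : Fact p.Prime := h.fact
  haveI : Fintype G := Fintype.ofFinite G
  have hGnp := not_prime_card_of_not_comm hG
  obtain ⟨P⟩ : Nonempty (Sylow p G) := inferInstance
  obtain ⟨X, Y, w, δ, h1X, hw1, hX, hsum, hδ, hdisj, hYcard, hY⟩ :=
    Cfsg.Agent.Lib.Helper6.bl_small p P (h.cP P) 2 (by norm_num) hp (h.relIndex P)
  have hS : ∑ χ ∈ X.erase (Cfsg.Agent.Lib.Helper6.oneIrr G), w χ ^ 2 = 1 := by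
    have := Finset.add_sum_erase X (fun χ => w χ ^ 2) h1X
    rw [hw1, hsum] at this
    push_cast at this
    linarith
  obtain ⟨χ₁, hS2, hw₁⟩ := Cfsg.Agent.Lib.Helper6.exists_of_sum_sq_eq_one
    (X.erase (Cfsg.Agent.Lib.Helper6.oneIrr G)) w
    (fun i hi => (hX i (Finset.mem_of_mem_erase hi)).1) hS
  have hχ₁mem : χ₁ ∈ X.erase (Cfsg.Agent.Lib.Helper6.oneIrr G) := by rw [hS2]; simp
  have hχ₁X : χ₁ ∈ X := Finset.mem_of_mem_erase hχ₁mem
  have hχ₁1 : χ₁ ≠ Cfsg.Agent.Lib.Helper6.oneIrr G := Finset.ne_of_mem_erase hχ₁mem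
  have hXeq : X = insert (Cfsg.Agent.Lib.Helper6.oneIrr G) {χ₁} := by
    rw [← Finset.insert_erase h1X, hS2]
  have hnot : Cfsg.Agent.Lib.Helper6.oneIrr G ∉ ({χ₁} : Finset (Cfsg.IrrCharacter G)) := by
    simp only [Finset.mem_singleton]
    exact Ne.symm hχ₁1
  have hYne : Y.Nonempty := by
    rw [← Finset.card_pos, hYcard]
    omega
  obtain ⟨η, hη⟩ := hYne
  have hdeg : ∀ η' ∈ Y, Cfsg.charDegree (η' : G → ℂ) = Cfsg.charDegree (η : G → ℂ) := by
    intro η' hη'
    have h1 := hY η hη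
    have h2 := hY η' hη'
    rw [← h1] at h2
    have h3 : (Cfsg.charDegree (η' : G → ℂ) : ℤ) = (Cfsg.charDegree (η : G → ℂ) : ℤ) := by
      rcases hδ with h | h <;> rw [h] at h2 <;> linarith
    exact_mod_cast h3
  have heq : δ * (Cfsg.charDegree (η : G → ℂ) : ℤ)
      = 1 + w χ₁ * (Cfsg.charDegree (χ₁ : G → ℂ) : ℤ) := by
    rw [hY η hη, hXeq, Finset.sum_insert hnot, Finset.sum_singleton, hw1,
      Cfsg.Agent.Lib.Helper6.charDegree_oneIrr]
    push_cast
    ring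
  have hle : 1 + Cfsg.charDegree (χ₁ : G → ℂ) ^ 2
      + (p - 1) / 2 * Cfsg.charDegree (η : G → ℂ) ^ 2 ≤ Nat.card G := by
    have h1 := Cfsg.Agent.Lib.Helper6.sum_sq_charDegree_le (X ∪ Y)
    rw [Finset.sum_union hdisj, hXeq, Finset.sum_insert hnot, Finset.sum_singleton,
      Cfsg.Agent.Lib.Helper6.charDegree_oneIrr] at h1
    have h2 : ∑ η' ∈ Y, Cfsg.charDegree (η' : G → ℂ) ^ 2
        = ((p - 1) / 2) * Cfsg.charDegree (η : G → ℂ) ^ 2 := by
      rw [Finset.sum_congr rfl (fun η' hη' => by rw [hdeg η' hη']), Finset.sum_const, hYcard,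
        smul_eq_mul]
    rw [h2] at h1
    have h3 : 1 + Cfsg.charDegree (χ₁ : G → ℂ) ^ 2
        + (p - 1) / 2 * Cfsg.charDegree (η : G → ℂ) ^ 2
        = 1 ^ 2 + Cfsg.charDegree (χ₁ : G → ℂ) ^ 2
          + (p - 1) / 2 * Cfsg.charDegree (η : G → ℂ) ^ 2 := by ring
    rw [h3]
    exact h1
  have hn0 : n ≠ 0 := by rw [← h.card]; exact Nat.card_pos.ne'
  have hd₁ : Cfsg.charDegree (χ₁ : G → ℂ) ∈ n.divisors := by
    rw [Nat.mem_divisors, ← h.card]
    exact ⟨Cfsg.Agent.Lib.Helper6.IsIrrCharacter.charDegree_dvd_card χ₁.2, by rw [h.card]; exact hn0⟩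
  have ha₁ : w χ₁ ∈ ({1, -1} : Finset ℤ) := by
    rcases hw₁ with h1 | h1 <;> rw [h1] <;> simp
  have habs := natAbs_of_unit_mul hδ heq
  apply hcheck _ hd₁ (Cfsg.Agent.Lib.Helper6.charDegree_ne_one_of_simple hGnp χ₁ hχ₁1) _ ha₁
    (hX χ₁ hχ₁X).2
  rw [habs, ← h.card]
  exact ⟨Cfsg.Agent.Lib.Helper6.IsIrrCharacter.charDegree_dvd_card η.2, hle⟩

theorem SD.not_e3 [IsSimpleGroup G] (hG : ¬ IsMulCommutative G) {n p d m : ℕ}
    (h : SD G n p d 3 m) (hp : 3 + 2 < (p - 1) / 3) (hcheck : E3ok n p) : False := by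
  classical
  haveI : Fact p.Prime := h.fact
  haveI : Fintype G := Fintype.ofFinite G
  have hGnp := not_prime_card_of_not_comm hG
  obtain ⟨P⟩ : Nonempty (Sylow p G) := inferInstance
  obtain ⟨X, Y, w, δ, h1X, hw1, hX, hsum, hδ, hdisj, hYcard, hY⟩ :=
    Cfsg.Agent.Lib.Helper6.bl_small p P (h.cP P) 3 (by norm_num) hp (h.relIndex P)
  have hS : ∑ χ ∈ X.erase (Cfsg.Agent.Lib.Helper6.oneIrr G), w χ ^ 2 = 2 := by
    have := Finset.add_sum_erase X (fun χ => w χ ^ 2) h1X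
    rw [hw1, hsum] at this
    push_cast at this
    linarith
  obtain ⟨χ₁, χ₂, h12, hS2, hw₁, hw₂⟩ := Cfsg.Agent.Lib.Helper6.exists_of_sum_sq_eq_two
    (X.erase (Cfsg.Agent.Lib.Helper6.oneIrr G)) w
    (fun i hi => (hX i (Finset.mem_of_mem_erase hi)).1) hS
  have hχ₁mem : χ₁ ∈ X.erase (Cfsg.Agent.Lib.Helper6.oneIrr G) := by rw [hS2]; simp
  have hχ₂mem : χ₂ ∈ X.erase (Cfsg.Agent.Lib.Helper6.oneIrr G) := by rw [hS2]; simp
  have hχ₁X : χ₁ ∈ X := Finset.mem_of_mem_erase hχ₁mem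
  have hχ₂X : χ₂ ∈ X := Finset.mem_of_mem_erase hχ₂mem
  have hχ₁1 : χ₁ ≠ Cfsg.Agent.Lib.Helper6.oneIrr G := Finset.ne_of_mem_erase hχ₁mem
  have hχ₂1 : χ₂ ≠ Cfsg.Agent.Lib.Helper6.oneIrr G := Finset.ne_of_mem_erase hχ₂mem
  have hXeq : X = insert (Cfsg.Agent.Lib.Helper6.oneIrr G) {χ₁, χ₂} := by
    rw [← Finset.insert_erase h1X, hS2]
  have hnot : Cfsg.Agent.Lib.Helper6.oneIrr G ∉ ({χ₁, χ₂} : Finset (Cfsg.IrrCharacter G)) := by
    simp only [Finset.mem_insert, Finset.mem_singleton, not_or]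
    exact ⟨Ne.symm hχ₁1, Ne.symm hχ₂1⟩
  have hYne : Y.Nonempty := by
    rw [← Finset.card_pos, hYcard]
    omega
  obtain ⟨η, hη⟩ := hYne
  have hdeg : ∀ η' ∈ Y, Cfsg.charDegree (η' : G → ℂ) = Cfsg.charDegree (η : G → ℂ) := by
    intro η' hη'
    have h1 := hY η hη
    have h2 := hY η' hη'
    rw [← h1] at h2
    have h3 : (Cfsg.charDegree (η' : G → ℂ) : ℤ) = (Cfsg.charDegree (η : G → ℂ) : ℤ) := by
      rcases hδ with h | h <;> rw [h] at h2 <;> linarith
    exact_mod_cast h3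
  have heq : δ * (Cfsg.charDegree (η : G → ℂ) : ℤ)
      = 1 + w χ₁ * (Cfsg.charDegree (χ₁ : G → ℂ) : ℤ)
        + w χ₂ * (Cfsg.charDegree (χ₂ : G → ℂ) : ℤ) := by
    rw [hY η hη, hXeq, Finset.sum_insert hnot, Finset.sum_pair h12, hw1,
      Cfsg.Agent.Lib.Helper6.charDegree_oneIrr]
    push_cast
    ring
  have hle : 1 + Cfsg.charDegree (χ₁ : G → ℂ) ^ 2 + Cfsg.charDegree (χ₂ : G → ℂ) ^ 2
      + (p - 1) / 3 * Cfsg.charDegree (η : G → ℂ) ^ 2 ≤ Nat.card G := by
    have h1 := Cfsg.Agent.Lib.Helper6.sum_sq_charDegree_le (X ∪ Y)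
    rw [Finset.sum_union hdisj, hXeq, Finset.sum_insert hnot, Finset.sum_pair h12,
      Cfsg.Agent.Lib.Helper6.charDegree_oneIrr] at h1
    have h2 : ∑ η' ∈ Y, Cfsg.charDegree (η' : G → ℂ) ^ 2
        = ((p - 1) / 3) * Cfsg.charDegree (η : G → ℂ) ^ 2 := by
      rw [Finset.sum_congr rfl (fun η' hη' => by rw [hdeg η' hη']), Finset.sum_const, hYcard,
        smul_eq_mul]
    rw [h2] at h1
    have h3 : 1 + Cfsg.charDegree (χ₁ : G → ℂ) ^ 2 + Cfsg.charDegree (χ₂ : G → ℂ) ^ 2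
        + (p - 1) / 3 * Cfsg.charDegree (η : G → ℂ) ^ 2
        = 1 ^ 2 + (Cfsg.charDegree (χ₁ : G → ℂ) ^ 2 + Cfsg.charDegree (χ₂ : G → ℂ) ^ 2)
          + (p - 1) / 3 * Cfsg.charDegree (η : G → ℂ) ^ 2 := by ring
    rw [h3]
    exact h1
  have hn0 : n ≠ 0 := by rw [← h.card]; exact Nat.card_pos.ne'
  have hdvd : ∀ χ : Cfsg.IrrCharacter G, Cfsg.charDegree (χ : G → ℂ) ∈ n.divisors := by
    intro χ
    rw [Nat.mem_divisors, ← h.card]
    exact ⟨Cfsg.Agent.Lib.Helper6.IsIrrCharacter.charDegree_dvd_card χ.2, by rw [h.card]; exact hn0⟩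
  have hpm : ∀ x : ℤ, (x = 1 ∨ x = -1) → x ∈ ({1, -1} : Finset ℤ) := by
    intro x hx
    rcases hx with h1 | h1 <;> rw [h1] <;> simp
  have habs := natAbs_of_unit_mul hδ heq
  apply hcheck _ (hdvd χ₁) (Cfsg.Agent.Lib.Helper6.charDegree_ne_one_of_simple hGnp χ₁ hχ₁1) _
    (hpm _ hw₁) (hX χ₁ hχ₁X).2 _ (hdvd χ₂)
    (Cfsg.Agent.Lib.Helper6.charDegree_ne_one_of_simple hGnp χ₂ hχ₂1) _ (hpm _ hw₂) (hX χ₂ hχ₂X).2
  rw [habs, ← h.card]
  exact ⟨Cfsg.Agent.Lib.Helper6.IsIrrCharacter.charDegree_dvd_card η.2, hle⟩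

end Cfsg.Agent.Lib.Helper2.Ord
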