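import Mathlib
import Cfsg.Agent.Lib.Helper2.OrdZ2

/-! The order `17556 = 2^2 * 3 * 7 * 11 * 19` (helper2, for S4274): at `p = 19` only
`n_19 = 77` with `|N:C| = 3` (dies by the degree equation) or `|N:C| = 6`, `|C| = 38`
(dies by `Z*`). -/

set_option autoImplicit false
set_option maxRecDepth 100000

namespace Cfsg.Agent.Lib.Helper2.Ord

variable {G : Type*} [Group G] [Finite G] [IsSimpleGroup G]

theorem ns_17556 (hG : ¬ IsMulCommutative G) (hn : Nat.card G = 17556) : False := by
  obtain ⟨dk, hdk, h⟩ := cases_p1 hG (p := 19) (by norm_num) (by norm_num) hn (by norm_num)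
    (by norm_num) (fun _ _ _ => True) (fun _ _ _ _ => trivial) [(77, 3), (77, 6)]
    (by decide +kernel)
  simp only [List.mem_cons, List.not_mem_nil, or_false] at hdk
  rcases hdk with rfl | rfl
  · have h' : SD G 17556 19 77 3 4 := h
    exact h'.not_e3 hG (by norm_num) (by decide +kernel)
  · have h' : SD G 17556 19 77 6 2 := h
    exact h'.not_zstar2 hG (by norm_num) (by norm_num) (by intro f h1 h2 h3; omega)

end Cfsg.Agent.Lib.Helper2.Ord
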