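import Mathlib
import Cfsg.Agent.Lib.Helper2.OrdC

/-! The order `7980 = 2^2 * 3 * 5 * 7 * 19` (helper2, for S4274): no Sylow data at `p = 5`
survives the decidable exclusion rules. -/

set_option autoImplicit false
set_option maxRecDepth 100000

namespace Cfsg.Agent.Lib.Helper2.Ord

variable {G : Type*} [Group G] [Finite G] [IsSimpleGroup G]

theorem ns_7980 (hG : ¬ IsMulCommutative G) (hn : Nat.card G = 7980) : False :=
  kill_p1 hG (p := 5) (by norm_num) (by norm_num) hn (by norm_num) (by norm_num)
    (fun _ _ _ => True) (fun _ _ _ _ => trivial) (by decide +kernel)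

end Cfsg.Agent.Lib.Helper2.Ord
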