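import Mathlib
import Cfsg.Agent.Lib.Helper2.OrdCnt
import Cfsg.Agent.Lib.Helper2.OrdC2

/-! The orders `35112 = 2^3 * 3 * 7 * 11 * 19`, `58520 = 2^3 * 5 * 7 * 11 * 19` and
`87780 = 2^2 * 3 * 5 * 7 * 11 * 19` (helper2, for S4274): the Sylow data at three primes
surviving the decidable exclusion rules give too many elements. -/

set_option autoImplicit false
set_option maxRecDepth 100000
set_option synthInstance.maxSize 2000

namespace Cfsg.Agent.Lib.Helper2.Ord

variable {G : Type*} [Group G] [Finite G] [IsSimpleGroup G]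

theorem ns_35112 (hG : ¬ IsMulCommutative G) (hn : Nat.card G = 35112) : False := by
  obtain ⟨dk7, hdk7, h7⟩ := cases_p1_mul hG 168 209 (by norm_num) (p := 7) (by norm_num) (by norm_num) hn (by norm_num)
    (by norm_num) (fun _ _ _ => True) (fun _ _ _ _ => trivial) [(1254, 2)]
    (by decide +kernel)
  obtain ⟨dk19, hdk19, h19⟩ := cases_p1_mul hG 168 209 (by norm_num) (p := 19) (by norm_num) (by norm_num) hn
    (by norm_num) (by norm_num) (fun _ _ _ => True) (fun _ _ _ _ => trivial)
    [(77, 3), (77, 6), (77, 2)] (by decide +kernel)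
  obtain ⟨dk11, hdk11, h11⟩ := cases_p1_mul hG 168 209 (by norm_num) (p := 11) (by norm_num) (by norm_num) hn
    (by norm_num) (by norm_num) (fun _ _ _ => True) (fun _ _ _ _ => trivial)
    [(133, 2), (1596, 2)] (by decide +kernel)
  simp only [List.mem_cons, List.not_mem_nil, or_false] at hdk7 hdk19 hdk11
  subst hdk7
  have h7' : SD G 35112 7 1254 2 2 := h7
  rcases hdk19 with rfl | rfl | rfl <;> rcases hdk11 with rfl | rfl
  · have h19' : SD G 35112 19 77 3 8 := h19
    have h11' : SD G 35112 11 133 2 12 := h11
    have := h7'.count3 h19' h11' (by norm_num) (by norm_num) (by norm_num)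
    omega
  · have h19' : SD G 35112 19 77 3 8 := h19
    have h11' : SD G 35112 11 1596 2 1 := h11
    have := h7'.count3 h19' h11' (by norm_num) (by norm_num) (by norm_num)
    omega
  · have h19' : SD G 35112 19 77 6 4 := h19
    have h11' : SD G 35112 11 133 2 12 := h11
    have := h7'.count3 h19' h11' (by norm_num) (by norm_num) (by norm_num)
    omega
  · have h19' : SD G 35112 19 77 6 4 := h19
    have h11' : SD G 35112 11 1596 2 1 := h11
    have := h7'.count3 h19' h11' (by norm_num) (by norm_num) (by norm_num)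
    omega
  · have h19' : SD G 35112 19 77 2 12 := h19
    have h11' : SD G 35112 11 133 2 12 := h11
    have := h7'.count3 h19' h11' (by norm_num) (by norm_num) (by norm_num)
    omega
  · have h19' : SD G 35112 19 77 2 12 := h19
    have h11' : SD G 35112 11 1596 2 1 := h11
    have := h7'.count3 h19' h11' (by norm_num) (by norm_num) (by norm_num)
    omega

theorem ns_58520 (hG : ¬ IsMulCommutative G) (hn : Nat.card G = 58520) : False := by
  obtain ⟨dk7, hdk7, h7⟩ := cases_p1_mul hG 280 209 (by norm_num) (p := 7) (by norm_num) (by norm_num) hn (by norm_num)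
    (by norm_num) (fun _ _ _ => True) (fun _ _ _ _ => trivial) [(4180, 2)]
    (by decide +kernel)
  obtain ⟨dk19, hdk19, h19⟩ := cases_p1_mul hG 280 209 (by norm_num) (p := 19) (by norm_num) (by norm_num) hn
    (by norm_num) (by norm_num) (fun _ _ _ => True) (fun _ _ _ _ => trivial)
    [(1540, 2)] (by decide +kernel)
  obtain ⟨dk5, hdk5, h5⟩ := cases_p1_mul hG 280 209 (by norm_num) (p := 5) (by norm_num) (by norm_num) hn
    (by norm_num) (by norm_num) (fun _ _ _ => True) (fun _ _ _ _ => trivial)
    [(2926, 2), (2926, 4)] (by decide +kernel)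
  simp only [List.mem_cons, List.not_mem_nil, or_false] at hdk7 hdk19 hdk5
  subst hdk7
  subst hdk19
  have h7' : SD G 58520 7 4180 2 1 := h7
  have h19' : SD G 58520 19 1540 2 1 := h19
  rcases hdk5 with rfl | rfl
  · have h5' : SD G 58520 5 2926 2 2 := h5
    have := h7'.count3 h19' h5' (by norm_num) (by norm_num) (by norm_num)
    omega
  · have h5' : SD G 58520 5 2926 4 1 := h5
    have := h7'.count3 h19' h5' (by norm_num) (by norm_num) (by norm_num)
    omega

theorem ns_87780 (hG : ¬ IsMulCommutative G) (hn : Nat.card G = 87780) : False := by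
  obtain ⟨dk7, hdk7, h7⟩ := cases_p1_mul hG 420 209 (by norm_num) (p := 7) (by norm_num) (by norm_num) hn (by norm_num)
    (by norm_num) (fun _ _ _ => True) (fun _ _ _ _ => trivial) [(4180, 3)]
    (by decide +kernel)
  obtain ⟨dk5, hdk5, h5⟩ := cases_p1_mul hG 420 209 (by norm_num) (p := 5) (by norm_num) (by norm_num) hn
    (by norm_num) (by norm_num) (fun _ _ _ => True) (fun _ _ _ _ => trivial)
    [(2926, 2)] (by decide +kernel)
  obtain ⟨dk19, hdk19, h19⟩ := cases_p1_mul hG 420 209 (by norm_num) (p := 19) (by norm_num) (by norm_num) hn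
    (by norm_num) (by norm_num) (fun _ _ _ => True) (fun _ _ _ _ => trivial)
    [(210, 2), (1540, 3)] (by decide +kernel)
  simp only [List.mem_cons, List.not_mem_nil, or_false] at hdk7 hdk19 hdk5
  subst hdk7
  subst hdk5
  have h7' : SD G 87780 7 4180 3 1 := h7
  have h5' : SD G 87780 5 2926 2 3 := h5
  rcases hdk19 with rfl | rfl
  · have h19' : SD G 87780 19 210 2 11 := h19
    have := h7'.count3 h5' h19' (by norm_num) (by norm_num) (by norm_num)
    omega
  · have h19' : SD G 87780 19 1540 3 1 := h19
    have := h7'.count3 h5' h19' (by norm_num) (by norm_num) (by norm_num)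
    omega

end Cfsg.Agent.Lib.Helper2.Ord
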