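import Mathlib
import Cfsg.Agent.Lib.Helper7.Small2
import Cfsg.Agent.Lib.Helper2.OrdK2

/-! Orders 3641 to 3740 (helper2, for S0983; generated in the style of Helper7.SmallB). -/

set_option autoImplicit false
set_option maxRecDepth 100000

namespace Cfsg.Agent.Lib.Helper2.Ord

open Cfsg.Agent.Lib.Helper7.Small

theorem blockR0 {G : Type*} [Group G] [Finite G] [IsSimpleGroup G] (hG : ¬ IsMulCommutative G)
    {n : ℕ} (hn : Nat.card G = n) (h1 : 3641 ≤ n) (h2 : n ≤ 3740) :
    n = 4080 ∨ n = 5616 ∨ n = 6048 ∨ n = 6072 := by
  interval_cases n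
  · exact (kill_pq hG (p := 11) (q := 331) (a := 1) (b := 1) (by norm_num) (by norm_num) (hn.trans (by norm_num))).elim
  · exact (kill_two_odd hn (by norm_num) (by norm_num)).elim
  · exact (kill_pp hG (p := 3643) (k := 1) (by norm_num) (hn.trans (by norm_num))).elim
  · exact (kill_pq hG (p := 2) (q := 911) (a := 2) (b := 1) (by norm_num) (by norm_num) (hn.trans (by norm_num))).elim
  · exact (kill_pq hG (p := 3) (q := 5) (a := 6) (b := 1) (by norm_num) (by norm_num) (hn.trans (by norm_num))).elim
  · exact (kill_pq hG (p := 2) (q := 1823) (a := 1) (b := 1) (by norm_num) (by norm_num) (hn.trans (by norm_num))).elim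
  · exact (kill_pq hG (p := 7) (q := 521) (a := 1) (b := 1) (by norm_num) (by norm_num) (hn.trans (by norm_num))).elim
  · exact (Cfsg.Agent.Lib.Helper2.Ord.ns_3648 hG hn).elim
  · exact (kill_pq hG (p := 41) (q := 89) (a := 1) (b := 1) (by norm_num) (by norm_num) (hn.trans (by norm_num))).elim
  · exact (kill_two_odd hn (by norm_num) (by norm_num)).elim
  · exact (kill_pq hG (p := 3) (q := 1217) (a := 1) (b := 1) (by norm_num) (by norm_num) (hn.trans (by norm_num))).elim
  · exact (kill_sylow hG (p := 83) (q := 2) (by norm_num) hn (by norm_num) (by norm_num) (by norm_num) (by norm_num) (by decide +kernel)).elim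
  · exact (kill_pq hG (p := 13) (q := 281) (a := 1) (b := 1) (by norm_num) (by norm_num) (hn.trans (by norm_num))).elim
  · exact (kill_two_odd hn (by norm_num) (by norm_num)).elim
  · exact (kill_sylow hG (p := 17) (q := 5) (by norm_num) hn (by norm_num) (by norm_num) (by norm_num) (by norm_num) (by decide +kernel)).elim
  · exact (kill_pq hG (p := 2) (q := 457) (a := 3) (b := 1) (by norm_num) (by norm_num) (hn.trans (by norm_num))).elim
  · exact (kill_sylow hG (p := 23) (q := 3) (by norm_num) hn (by norm_num) (by norm_num) (by norm_num) (by norm_num) (by decide +kernel)).elim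
  · exact (kill_two_odd hn (by norm_num) (by norm_num)).elim
  · exact (kill_pp hG (p := 3659) (k := 1) (by norm_num) (hn.trans (by norm_num))).elim
  · exact (kill_sylow hG (p := 61) (q := 2) (by norm_num) hn (by norm_num) (by norm_num) (by norm_num) (by norm_num) (by decide +kernel)).elim
  · exact (kill_pq hG (p := 7) (q := 523) (a := 1) (b := 1) (by norm_num) (by norm_num) (hn.trans (by norm_num))).elim
  · exact (kill_pq hG (p := 2) (q := 1831) (a := 1) (b := 1) (by norm_num) (by norm_num) (hn.trans (by norm_num))).elim
  · exact (kill_sylow hG (p := 37) (q := 3) (by norm_num) hn (by norm_num) (by norm_num) (by norm_num) (by norm_num) (by decide +kernel)).elim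
  · exact (kill_pq hG (p := 2) (q := 229) (a := 4) (b := 1) (by norm_num) (by norm_num) (hn.trans (by norm_num))).elim
  · exact (kill_pq hG (p := 5) (q := 733) (a := 1) (b := 1) (by norm_num) (by norm_num) (hn.trans (by norm_num))).elim
  · exact (kill_two_odd hn (by norm_num) (by norm_num)).elim
  · exact (kill_pq hG (p := 19) (q := 193) (a := 1) (b := 1) (by norm_num) (by norm_num) (hn.trans (by norm_num))).elim
  · exact (kill_sylow hG (p := 7) (q := 2) (by norm_num) hn (by norm_num) (by norm_num) (by norm_num) (by norm_num) (by decide +kernel)).elim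
  · exact (kill_pq hG (p := 3) (q := 1223) (a := 1) (b := 1) (by norm_num) (by norm_num) (hn.trans (by norm_num))).elim
  · exact (kill_two_odd hn (by norm_num) (by norm_num)).elim
  · exact (kill_pp hG (p := 3671) (k := 1) (by norm_num) (hn.trans (by norm_num))).elim
  · exact (kill_par hG (p := 17) (by norm_num) hn (by norm_num) (by norm_num) (by norm_num) (by decide +kernel)).elim
  · exact (kill_pp hG (p := 3673) (k := 1) (by norm_num) (hn.trans (by norm_num))).elim
  · exact (kill_two_odd hn (by norm_num) (by norm_num)).elim
  · exact (kill_par hG (p := 3) (by norm_num) hn (by norm_num) (by norm_num) (by norm_num) (by decide +kernel)).elim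
  · exact (kill_pq hG (p := 2) (q := 919) (a := 2) (b := 1) (by norm_num) (by norm_num) (hn.trans (by norm_num))).elim
  · exact (kill_pp hG (p := 3677) (k := 1) (by norm_num) (hn.trans (by norm_num))).elim
  · exact (kill_two_odd hn (by norm_num) (by norm_num)).elim
  · exact (kill_pq hG (p := 13) (q := 283) (a := 1) (b := 1) (by norm_num) (by norm_num) (hn.trans (by norm_num))).elim
  · exact (kill_sylow hG (p := 23) (q := 2) (by norm_num) hn (by norm_num) (by norm_num) (by norm_num) (by norm_num) (by decide +kernel)).elim
  · exact (kill_pq hG (p := 3) (q := 409) (a := 2) (b := 1) (by norm_num) (by norm_num) (hn.trans (by norm_num))).elim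
  · exact (kill_two_odd hn (by norm_num) (by norm_num)).elim
  · exact (kill_pq hG (p := 29) (q := 127) (a := 1) (b := 1) (by norm_num) (by norm_num) (hn.trans (by norm_num))).elim
  · exact (kill_sylow hG (p := 307) (q := 2) (by norm_num) hn (by norm_num) (by norm_num) (by norm_num) (by norm_num) (by decide +kernel)).elim
  · exact (kill_sylow hG (p := 5) (q := 11) (by norm_num) hn (by norm_num) (by norm_num) (by norm_num) (by norm_num) (by decide +kernel)).elim
  · exact (kill_two_odd hn (by norm_num) (by norm_num)).elim
  · exact (kill_pq hG (p := 3) (q := 1229) (a := 1) (b := 1) (by norm_num) (by norm_num) (hn.trans (by norm_num))).elim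
  · exact (kill_pq hG (p := 2) (q := 461) (a := 3) (b := 1) (by norm_num) (by norm_num) (hn.trans (by norm_num))).elim
  · exact (kill_sylow hG (p := 7) (q := 17) (by norm_num) hn (by norm_num) (by norm_num) (by norm_num) (by norm_num) (by decide +kernel)).elim
  · exact (kill_two_odd hn (by norm_num) (by norm_num)).elim
  · exact (kill_pp hG (p := 3691) (k := 1) (by norm_num) (hn.trans (by norm_num))).elim
  · exact (kill_sylow hG (p := 13) (q := 2) (by norm_num) hn (by norm_num) (by norm_num) (by norm_num) (by norm_num) (by decide +kernel)).elim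
  · exact (kill_pq hG (p := 3) (q := 1231) (a := 1) (b := 1) (by norm_num) (by norm_num) (hn.trans (by norm_num))).elim
  · exact (kill_pq hG (p := 2) (q := 1847) (a := 1) (b := 1) (by norm_num) (by norm_num) (hn.trans (by norm_num))).elim
  · exact (kill_pq hG (p := 5) (q := 739) (a := 1) (b := 1) (by norm_num) (by norm_num) (hn.trans (by norm_num))).elim
  · exact (Cfsg.Agent.Lib.Helper2.Ord.ns_3696 hG hn).elim
  · exact (kill_pp hG (p := 3697) (k := 1) (by norm_num) (hn.trans (by norm_num))).elim
  · exact (kill_pq hG (p := 2) (q := 43) (a := 1) (b := 2) (by norm_num) (by norm_num) (hn.trans (by norm_num))).elim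
  · exact (kill_pq hG (p := 3) (q := 137) (a := 3) (b := 1) (by norm_num) (by norm_num) (hn.trans (by norm_num))).elim
  · exact (kill_sylow hG (p := 5) (q := 2) (by norm_num) hn (by norm_num) (by norm_num) (by norm_num) (by norm_num) (by decide +kernel)).elim
  · exact (kill_pp hG (p := 3701) (k := 1) (by norm_num) (hn.trans (by norm_num))).elim
  · exact (kill_two_odd hn (by norm_num) (by norm_num)).elim
  · exact (kill_pq hG (p := 7) (q := 23) (a := 1) (b := 2) (by norm_num) (by norm_num) (hn.trans (by norm_num))).elim
  · exact (kill_pq hG (p := 2) (q := 463) (a := 3) (b := 1) (by norm_num) (by norm_num) (hn.trans (by norm_num))).elim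
  · exact (kill_sylow hG (p := 13) (q := 3) (by norm_num) hn (by norm_num) (by norm_num) (by norm_num) (by norm_num) (by decide +kernel)).elim
  · exact (kill_two_odd hn (by norm_num) (by norm_num)).elim
  · exact (kill_pq hG (p := 11) (q := 337) (a := 1) (b := 1) (by norm_num) (by norm_num) (hn.trans (by norm_num))).elim
  · exact (kill_sylow hG (p := 103) (q := 2) (by norm_num) hn (by norm_num) (by norm_num) (by norm_num) (by norm_num) (by decide +kernel)).elim
  · exact (kill_pp hG (p := 3709) (k := 1) (by norm_num) (hn.trans (by norm_num))).elim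
  · exact (kill_two_odd hn (by norm_num) (by norm_num)).elim
  · exact (kill_pq hG (p := 3) (q := 1237) (a := 1) (b := 1) (by norm_num) (by norm_num) (hn.trans (by norm_num))).elim
  · exact (kill_pq hG (p := 2) (q := 29) (a := 7) (b := 1) (by norm_num) (by norm_num) (hn.trans (by norm_num))).elim
  · exact (kill_pq hG (p := 47) (q := 79) (a := 1) (b := 1) (by norm_num) (by norm_num) (hn.trans (by norm_num))).elim
  · exact (kill_two_odd hn (by norm_num) (by norm_num)).elim
  · exact (kill_pq hG (p := 5) (q := 743) (a := 1) (b := 1) (by norm_num) (by norm_num) (hn.trans (by norm_num))).elim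
  · exact (kill_pq hG (p := 2) (q := 929) (a := 2) (b := 1) (by norm_num) (by norm_num) (hn.trans (by norm_num))).elim
  · exact (kill_sylow hG (p := 3) (q := 7) (by norm_num) hn (by norm_num) (by norm_num) (by norm_num) (by norm_num) (by decide +kernel)).elim
  · exact (kill_two_odd hn (by norm_num) (by norm_num)).elim
  · exact (kill_pp hG (p := 3719) (k := 1) (by norm_num) (hn.trans (by norm_num))).elim
  · exact (kill_sylow hG (p := 31) (q := 2) (by norm_num) hn (by norm_num) (by norm_num) (by norm_num) (by norm_num) (by decide +kernel)).elim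
  · exact (kill_pp hG (p := 61) (k := 2) (by norm_num) (hn.trans (by norm_num))).elim
  · exact (kill_pq hG (p := 2) (q := 1861) (a := 1) (b := 1) (by norm_num) (by norm_num) (hn.trans (by norm_num))).elim
  · exact (kill_sylow hG (p := 17) (q := 3) (by norm_num) hn (by norm_num) (by norm_num) (by norm_num) (by norm_num) (by decide +kernel)).elim
  · exact (kill_sylow hG (p := 7) (q := 2) (by norm_num) hn (by norm_num) (by norm_num) (by norm_num) (by norm_num) (by decide +kernel)).elim
  · exact (kill_pq hG (p := 5) (q := 149) (a := 2) (b := 1) (by norm_num) (by norm_num) (hn.trans (by norm_num))).elim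
  · exact (kill_two_odd hn (by norm_num) (by norm_num)).elim
  · exact (kill_pp hG (p := 3727) (k := 1) (by norm_num) (hn.trans (by norm_num))).elim
  · exact (kill_pq hG (p := 2) (q := 233) (a := 4) (b := 1) (by norm_num) (by norm_num) (hn.trans (by norm_num))).elim
  · exact (kill_sylow hG (p := 11) (q := 3) (by norm_num) hn (by norm_num) (by norm_num) (by norm_num) (by norm_num) (by decide +kernel)).elim
  · exact (kill_two_odd hn (by norm_num) (by norm_num)).elim
  · exact (kill_sylow hG (p := 41) (q := 7) (by norm_num) hn (by norm_num) (by norm_num) (by norm_num) (by norm_num) (by decide +kernel)).elim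
  · exact (kill_sylow hG (p := 311) (q := 2) (by norm_num) hn (by norm_num) (by norm_num) (by norm_num) (by norm_num) (by decide +kernel)).elim
  · exact (kill_pp hG (p := 3733) (k := 1) (by norm_num) (hn.trans (by norm_num))).elim
  · exact (kill_pq hG (p := 2) (q := 1867) (a := 1) (b := 1) (by norm_num) (by norm_num) (hn.trans (by norm_num))).elim
  · exact (kill_sylow hG (p := 5) (q := 3) (by norm_num) hn (by norm_num) (by norm_num) (by norm_num) (by norm_num) (by decide +kernel)).elim
  · exact (kill_pq hG (p := 2) (q := 467) (a := 3) (b := 1) (by norm_num) (by norm_num) (hn.trans (by norm_num))).elim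
  · exact (kill_pq hG (p := 37) (q := 101) (a := 1) (b := 1) (by norm_num) (by norm_num) (hn.trans (by norm_num))).elim
  · exact (kill_two_odd hn (by norm_num) (by norm_num)).elim
  · exact (kill_pp hG (p := 3739) (k := 1) (by norm_num) (hn.trans (by norm_num))).elim
  · exact (kill_sylow hG (p := 5) (q := 2) (by norm_num) hn (by norm_num) (by norm_num) (by norm_num) (by norm_num) (by decide +kernel)).elim

end Cfsg.Agent.Lib.Helper2.Ord

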