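import Mathlib
import Cfsg.Agent.Lib.Helper7.Small2
import Cfsg.Agent.Lib.Helper2.OrdK2

/-! Orders 3741 to 3840 (helper2, for S0983; generated in the style of Helper7.SmallB). -/

set_option autoImplicit false
set_option maxRecDepth 100000

namespace Cfsg.Agent.Lib.Helper2.Ord

open Cfsg.Agent.Lib.Helper7.Small

theorem blockR1 {G : Type*} [Group G] [Finite G] [IsSimpleGroup G] (hG : ¬ IsMulCommutative G)
    {n : ℕ} (hn : Nat.card G = n) (h1 : 3741 ≤ n) (h2 : n ≤ 3840) :
    n = 4080 ∨ n = 5616 ∨ n = 6048 ∨ n = 6072 := by
  interval_cases n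
  · exact (kill_sylow hG (p := 29) (q := 3) (by norm_num) hn (by norm_num) (by norm_num) (by norm_num) (by norm_num) (by decide +kernel)).elim
  · exact (kill_pq hG (p := 2) (q := 1871) (a := 1) (b := 1) (by norm_num) (by norm_num) (hn.trans (by norm_num))).elim
  · exact (kill_pq hG (p := 19) (q := 197) (a := 1) (b := 1) (by norm_num) (by norm_num) (hn.trans (by norm_num))).elim
  · exact (Cfsg.Agent.Lib.Helper2.Ord.ns_3744 hG hn).elim
  · exact (kill_sylow hG (p := 5) (q := 7) (by norm_num) hn (by norm_num) (by norm_num) (by norm_num) (by norm_num) (by decide +kernel)).elim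
  · exact (kill_pq hG (p := 2) (q := 1873) (a := 1) (b := 1) (by norm_num) (by norm_num) (hn.trans (by norm_num))).elim
  · exact (kill_pq hG (p := 3) (q := 1249) (a := 1) (b := 1) (by norm_num) (by norm_num) (hn.trans (by norm_num))).elim
  · exact (kill_pq hG (p := 2) (q := 937) (a := 2) (b := 1) (by norm_num) (by norm_num) (hn.trans (by norm_num))).elim
  · exact (kill_pq hG (p := 23) (q := 163) (a := 1) (b := 1) (by norm_num) (by norm_num) (hn.trans (by norm_num))).elim
  · exact (kill_two_odd hn (by norm_num) (by norm_num)).elim
  · exact (kill_pq hG (p := 11) (q := 31) (a := 2) (b := 1) (by norm_num) (by norm_num) (hn.trans (by norm_num))).elim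
  · exact (kill_sylow hG (p := 67) (q := 2) (by norm_num) hn (by norm_num) (by norm_num) (by norm_num) (by norm_num) (by decide +kernel)).elim
  · exact (kill_pq hG (p := 3) (q := 139) (a := 3) (b := 1) (by norm_num) (by norm_num) (hn.trans (by norm_num))).elim
  · exact (kill_pq hG (p := 2) (q := 1877) (a := 1) (b := 1) (by norm_num) (by norm_num) (hn.trans (by norm_num))).elim
  · exact (kill_pq hG (p := 5) (q := 751) (a := 1) (b := 1) (by norm_num) (by norm_num) (hn.trans (by norm_num))).elim
  · exact (kill_sylow hG (p := 313) (q := 2) (by norm_num) hn (by norm_num) (by norm_num) (by norm_num) (by norm_num) (by decide +kernel)).elim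
  · exact (kill_pq hG (p := 13) (q := 17) (a := 1) (b := 2) (by norm_num) (by norm_num) (hn.trans (by norm_num))).elim
  · exact (kill_pq hG (p := 2) (q := 1879) (a := 1) (b := 1) (by norm_num) (by norm_num) (hn.trans (by norm_num))).elim
  · exact (kill_sylow hG (p := 3) (q := 7) (by norm_num) hn (by norm_num) (by norm_num) (by norm_num) (by norm_num) (by decide +kernel)).elim
  · exact (kill_sylow hG (p := 47) (q := 2) (by norm_num) hn (by norm_num) (by norm_num) (by norm_num) (by norm_num) (by decide +kernel)).elim
  · exact (kill_pp hG (p := 3761) (k := 1) (by norm_num) (hn.trans (by norm_num))).elim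
  · exact (kill_two_odd hn (by norm_num) (by norm_num)).elim
  · exact (kill_pq hG (p := 53) (q := 71) (a := 1) (b := 1) (by norm_num) (by norm_num) (hn.trans (by norm_num))).elim
  · exact (kill_pq hG (p := 2) (q := 941) (a := 2) (b := 1) (by norm_num) (by norm_num) (hn.trans (by norm_num))).elim
  · exact (kill_sylow hG (p := 251) (q := 3) (by norm_num) hn (by norm_num) (by norm_num) (by norm_num) (by norm_num) (by decide +kernel)).elim
  · exact (kill_two_odd hn (by norm_num) (by norm_num)).elim
  · exact (kill_pp hG (p := 3767) (k := 1) (by norm_num) (hn.trans (by norm_num))).elim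
  · exact (kill_sylow hG (p := 157) (q := 2) (by norm_num) hn (by norm_num) (by norm_num) (by norm_num) (by norm_num) (by decide +kernel)).elim
  · exact (kill_pp hG (p := 3769) (k := 1) (by norm_num) (hn.trans (by norm_num))).elim
  · exact (kill_two_odd hn (by norm_num) (by norm_num)).elim
  · exact (kill_pq hG (p := 3) (q := 419) (a := 2) (b := 1) (by norm_num) (by norm_num) (hn.trans (by norm_num))).elim
  · exact (kill_sylow hG (p := 23) (q := 2) (by norm_num) hn (by norm_num) (by norm_num) (by norm_num) (by norm_num) (by decide +kernel)).elim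
  · exact (kill_pq hG (p := 7) (q := 11) (a := 3) (b := 1) (by norm_num) (by norm_num) (hn.trans (by norm_num))).elim
  · exact (kill_two_odd hn (by norm_num) (by norm_num)).elim
  · exact (kill_pq hG (p := 5) (q := 151) (a := 2) (b := 1) (by norm_num) (by norm_num) (hn.trans (by norm_num))).elim
  · exact (kill_pq hG (p := 2) (q := 59) (a := 6) (b := 1) (by norm_num) (by norm_num) (hn.trans (by norm_num))).elim
  · exact (kill_pq hG (p := 3) (q := 1259) (a := 1) (b := 1) (by norm_num) (by norm_num) (hn.trans (by norm_num))).elim
  · exact (kill_pq hG (p := 2) (q := 1889) (a := 1) (b := 1) (by norm_num) (by norm_num) (hn.trans (by norm_num))).elim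
  · exact (kill_pp hG (p := 3779) (k := 1) (by norm_num) (hn.trans (by norm_num))).elim
  · exact (Cfsg.Agent.Lib.Helper2.Ord.ns_3780 hG hn).elim
  · exact (kill_pq hG (p := 19) (q := 199) (a := 1) (b := 1) (by norm_num) (by norm_num) (hn.trans (by norm_num))).elim
  · exact (kill_two_odd hn (by norm_num) (by norm_num)).elim
  · exact (kill_sylow hG (p := 13) (q := 3) (by norm_num) hn (by norm_num) (by norm_num) (by norm_num) (by norm_num) (by decide +kernel)).elim
  · exact (kill_sylow hG (p := 11) (q := 2) (by norm_num) hn (by norm_num) (by norm_num) (by norm_num) (by norm_num) (by decide +kernel)).elim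
  · exact (kill_pq hG (p := 5) (q := 757) (a := 1) (b := 1) (by norm_num) (by norm_num) (hn.trans (by norm_num))).elim
  · exact (kill_two_odd hn (by norm_num) (by norm_num)).elim
  · exact (kill_pq hG (p := 7) (q := 541) (a := 1) (b := 1) (by norm_num) (by norm_num) (hn.trans (by norm_num))).elim
  · exact (kill_pq hG (p := 2) (q := 947) (a := 2) (b := 1) (by norm_num) (by norm_num) (hn.trans (by norm_num))).elim
  · exact (kill_pq hG (p := 3) (q := 421) (a := 2) (b := 1) (by norm_num) (by norm_num) (hn.trans (by norm_num))).elim
  · exact (kill_two_odd hn (by norm_num) (by norm_num)).elim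
  · exact (kill_pq hG (p := 17) (q := 223) (a := 1) (b := 1) (by norm_num) (by norm_num) (hn.trans (by norm_num))).elim
  · exact (kill_sylow hG (p := 79) (q := 2) (by norm_num) hn (by norm_num) (by norm_num) (by norm_num) (by norm_num) (by decide +kernel)).elim
  · exact (kill_pp hG (p := 3793) (k := 1) (by norm_num) (hn.trans (by norm_num))).elim
  · exact (kill_two_odd hn (by norm_num) (by norm_num)).elim
  · exact (kill_sylow hG (p := 5) (q := 3) (by norm_num) hn (by norm_num) (by norm_num) (by norm_num) (by norm_num) (by decide +kernel)).elim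
  · exact (kill_sylow hG (p := 13) (q := 2) (by norm_num) hn (by norm_num) (by norm_num) (by norm_num) (by norm_num) (by decide +kernel)).elim
  · exact (kill_pp hG (p := 3797) (k := 1) (by norm_num) (hn.trans (by norm_num))).elim
  · exact (kill_two_odd hn (by norm_num) (by norm_num)).elim
  · exact (kill_pq hG (p := 29) (q := 131) (a := 1) (b := 1) (by norm_num) (by norm_num) (hn.trans (by norm_num))).elim
  · exact (kill_par hG (p := 19) (by norm_num) hn (by norm_num) (by norm_num) (by norm_num) (by decide +kernel)).elim
  · exact (kill_sylow hG (p := 7) (q := 3) (by norm_num) hn (by norm_num) (by norm_num) (by norm_num) (by norm_num) (by decide +kernel)).elim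
  · exact (kill_pq hG (p := 2) (q := 1901) (a := 1) (b := 1) (by norm_num) (by norm_num) (hn.trans (by norm_num))).elim
  · exact (kill_pp hG (p := 3803) (k := 1) (by norm_num) (hn.trans (by norm_num))).elim
  · exact (kill_sylow hG (p := 317) (q := 2) (by norm_num) hn (by norm_num) (by norm_num) (by norm_num) (by norm_num) (by decide +kernel)).elim
  · exact (kill_pq hG (p := 5) (q := 761) (a := 1) (b := 1) (by norm_num) (by norm_num) (hn.trans (by norm_num))).elim
  · exact (kill_two_odd hn (by norm_num) (by norm_num)).elim
  · exact (kill_pq hG (p := 3) (q := 47) (a := 4) (b := 1) (by norm_num) (by norm_num) (hn.trans (by norm_num))).elim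
  · exact (kill_sylow hG (p := 7) (q := 2) (by norm_num) hn (by norm_num) (by norm_num) (by norm_num) (by norm_num) (by decide +kernel)).elim
  · exact (kill_pq hG (p := 13) (q := 293) (a := 1) (b := 1) (by norm_num) (by norm_num) (hn.trans (by norm_num))).elim
  · exact (kill_two_odd hn (by norm_num) (by norm_num)).elim
  · exact (kill_pq hG (p := 37) (q := 103) (a := 1) (b := 1) (by norm_num) (by norm_num) (hn.trans (by norm_num))).elim
  · exact (kill_pq hG (p := 2) (q := 953) (a := 2) (b := 1) (by norm_num) (by norm_num) (hn.trans (by norm_num))).elim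
  · exact (kill_sylow hG (p := 3) (q := 31) (by norm_num) hn (by norm_num) (by norm_num) (by norm_num) (by norm_num) (by decide +kernel)).elim
  · exact (kill_pq hG (p := 2) (q := 1907) (a := 1) (b := 1) (by norm_num) (by norm_num) (hn.trans (by norm_num))).elim
  · exact (kill_sylow hG (p := 5) (q := 7) (by norm_num) hn (by norm_num) (by norm_num) (by norm_num) (by norm_num) (by decide +kernel)).elim
  · exact (kill_sylow hG (p := 53) (q := 2) (by norm_num) hn (by norm_num) (by norm_num) (by norm_num) (by norm_num) (by decide +kernel)).elim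
  · exact (kill_pq hG (p := 11) (q := 347) (a := 1) (b := 1) (by norm_num) (by norm_num) (hn.trans (by norm_num))).elim
  · exact (kill_two_odd hn (by norm_num) (by norm_num)).elim
  · exact (kill_sylow hG (p := 19) (q := 3) (by norm_num) hn (by norm_num) (by norm_num) (by norm_num) (by norm_num) (by decide +kernel)).elim
  · exact (kill_sylow hG (p := 191) (q := 2) (by norm_num) hn (by norm_num) (by norm_num) (by norm_num) (by norm_num) (by decide +kernel)).elim
  · exact (kill_pp hG (p := 3821) (k := 1) (by norm_num) (hn.trans (by norm_num))).elim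
  · exact (kill_two_odd hn (by norm_num) (by norm_num)).elim
  · exact (kill_pp hG (p := 3823) (k := 1) (by norm_num) (hn.trans (by norm_num))).elim
  · exact (kill_pq hG (p := 2) (q := 239) (a := 4) (b := 1) (by norm_num) (by norm_num) (hn.trans (by norm_num))).elim
  · exact (kill_sylow hG (p := 17) (q := 3) (by norm_num) hn (by norm_num) (by norm_num) (by norm_num) (by norm_num) (by decide +kernel)).elim
  · exact (kill_pq hG (p := 2) (q := 1913) (a := 1) (b := 1) (by norm_num) (by norm_num) (hn.trans (by norm_num))).elim
  · exact (kill_pq hG (p := 43) (q := 89) (a := 1) (b := 1) (by norm_num) (by norm_num) (hn.trans (by norm_num))).elim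
  · exact (kill_sylow hG (p := 11) (q := 2) (by norm_num) hn (by norm_num) (by norm_num) (by norm_num) (by norm_num) (by decide +kernel)).elim
  · exact (kill_pq hG (p := 7) (q := 547) (a := 1) (b := 1) (by norm_num) (by norm_num) (hn.trans (by norm_num))).elim
  · exact (kill_two_odd hn (by norm_num) (by norm_num)).elim
  · exact (kill_pq hG (p := 3) (q := 1277) (a := 1) (b := 1) (by norm_num) (by norm_num) (hn.trans (by norm_num))).elim
  · exact (kill_pq hG (p := 2) (q := 479) (a := 3) (b := 1) (by norm_num) (by norm_num) (hn.trans (by norm_num))).elim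
  · exact (kill_pp hG (p := 3833) (k := 1) (by norm_num) (hn.trans (by norm_num))).elim
  · exact (kill_two_odd hn (by norm_num) (by norm_num)).elim
  · exact (kill_sylow hG (p := 5) (q := 13) (by norm_num) hn (by norm_num) (by norm_num) (by norm_num) (by norm_num) (by decide +kernel)).elim
  · exact (kill_sylow hG (p := 137) (q := 2) (by norm_num) hn (by norm_num) (by norm_num) (by norm_num) (by norm_num) (by decide +kernel)).elim
  · exact (kill_pq hG (p := 3) (q := 1279) (a := 1) (b := 1) (by norm_num) (by norm_num) (hn.trans (by norm_num))).elim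
  · exact (kill_two_odd hn (by norm_num) (by norm_num)).elim
  · exact (kill_pq hG (p := 11) (q := 349) (a := 1) (b := 1) (by norm_num) (by norm_num) (hn.trans (by norm_num))).elim
  · exact (kill_big hG (p := 2) (a := 8) (r := 15) (q := 3) (by norm_num) hn (by norm_num) (by norm_num) (by norm_num) (by norm_num) (by norm_num) (by norm_num) (by decide +kernel)).elim

end Cfsg.Agent.Lib.Helper2.Ord

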