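import Mathlib
import Cfsg.Agent.Lib.Helper7.Small2
import Cfsg.Agent.Lib.Helper2.OrdK2

/-! Orders 3841 to 3940 (helper2, for S0983; generated in the style of Helper7.SmallB). -/

set_option autoImplicit false
set_option maxRecDepth 100000

namespace Cfsg.Agent.Lib.Helper2.Ord

open Cfsg.Agent.Lib.Helper7.Small

theorem blockR2 {G : Type*} [Group G] [Finite G] [IsSimpleGroup G] (hG : ¬ IsMulCommutative G)
    {n : ℕ} (hn : Nat.card G = n) (h1 : 3841 ≤ n) (h2 : n ≤ 3940) :
    n = 4080 ∨ n = 5616 ∨ n = 6048 ∨ n = 6072 := by
  interval_cases n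
  · exact (kill_pq hG (p := 23) (q := 167) (a := 1) (b := 1) (by norm_num) (by norm_num) (hn.trans (by norm_num))).elim
  · exact (kill_two_odd hn (by norm_num) (by norm_num)).elim
  · exact (kill_sylow hG (p := 61) (q := 3) (by norm_num) hn (by norm_num) (by norm_num) (by norm_num) (by norm_num) (by decide +kernel)).elim
  · exact (kill_pq hG (p := 2) (q := 31) (a := 2) (b := 2) (by norm_num) (by norm_num) (hn.trans (by norm_num))).elim
  · exact (kill_pq hG (p := 5) (q := 769) (a := 1) (b := 1) (by norm_num) (by norm_num) (hn.trans (by norm_num))).elim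
  · exact (kill_two_odd hn (by norm_num) (by norm_num)).elim
  · exact (kill_pp hG (p := 3847) (k := 1) (by norm_num) (hn.trans (by norm_num))).elim
  · exact (kill_sylow hG (p := 13) (q := 2) (by norm_num) hn (by norm_num) (by norm_num) (by norm_num) (by norm_num) (by decide +kernel)).elim
  · exact (kill_pq hG (p := 3) (q := 1283) (a := 1) (b := 1) (by norm_num) (by norm_num) (hn.trans (by norm_num))).elim
  · exact (kill_two_odd hn (by norm_num) (by norm_num)).elim
  · exact (kill_pp hG (p := 3851) (k := 1) (by norm_num) (hn.trans (by norm_num))).elim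
  · exact (kill_sylow hG (p := 107) (q := 2) (by norm_num) hn (by norm_num) (by norm_num) (by norm_num) (by norm_num) (by decide +kernel)).elim
  · exact (kill_pp hG (p := 3853) (k := 1) (by norm_num) (hn.trans (by norm_num))).elim
  · exact (kill_two_odd hn (by norm_num) (by norm_num)).elim
  · exact (kill_sylow hG (p := 257) (q := 3) (by norm_num) hn (by norm_num) (by norm_num) (by norm_num) (by norm_num) (by decide +kernel)).elim
  · exact (kill_pq hG (p := 2) (q := 241) (a := 4) (b := 1) (by norm_num) (by norm_num) (hn.trans (by norm_num))).elim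
  · exact (kill_sylow hG (p := 19) (q := 7) (by norm_num) hn (by norm_num) (by norm_num) (by norm_num) (by norm_num) (by decide +kernel)).elim
  · exact (kill_two_odd hn (by norm_num) (by norm_num)).elim
  · exact (kill_pq hG (p := 17) (q := 227) (a := 1) (b := 1) (by norm_num) (by norm_num) (hn.trans (by norm_num))).elim
  · exact (kill_sylow hG (p := 193) (q := 2) (by norm_num) hn (by norm_num) (by norm_num) (by norm_num) (by norm_num) (by decide +kernel)).elim
  · exact (kill_sylow hG (p := 11) (q := 3) (by norm_num) hn (by norm_num) (by norm_num) (by norm_num) (by norm_num) (by decide +kernel)).elim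
  · exact (kill_pq hG (p := 2) (q := 1931) (a := 1) (b := 1) (by norm_num) (by norm_num) (hn.trans (by norm_num))).elim
  · exact (kill_pp hG (p := 3863) (k := 1) (by norm_num) (hn.trans (by norm_num))).elim
  · exact (kill_par hG (p := 23) (by norm_num) hn (by norm_num) (by norm_num) (by norm_num) (by decide +kernel)).elim
  · exact (kill_pq hG (p := 5) (q := 773) (a := 1) (b := 1) (by norm_num) (by norm_num) (hn.trans (by norm_num))).elim
  · exact (kill_pq hG (p := 2) (q := 1933) (a := 1) (b := 1) (by norm_num) (by norm_num) (hn.trans (by norm_num))).elim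
  · exact (kill_pq hG (p := 3) (q := 1289) (a := 1) (b := 1) (by norm_num) (by norm_num) (hn.trans (by norm_num))).elim
  · exact (kill_pq hG (p := 2) (q := 967) (a := 2) (b := 1) (by norm_num) (by norm_num) (hn.trans (by norm_num))).elim
  · exact (kill_pq hG (p := 53) (q := 73) (a := 1) (b := 1) (by norm_num) (by norm_num) (hn.trans (by norm_num))).elim
  · exact (kill_two_odd hn (by norm_num) (by norm_num)).elim
  · exact (kill_pq hG (p := 7) (q := 79) (a := 2) (b := 1) (by norm_num) (by norm_num) (hn.trans (by norm_num))).elim
  · exact (kill_pq hG (p := 2) (q := 11) (a := 5) (b := 2) (by norm_num) (by norm_num) (hn.trans (by norm_num))).elim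
  · exact (kill_pq hG (p := 3) (q := 1291) (a := 1) (b := 1) (by norm_num) (by norm_num) (hn.trans (by norm_num))).elim
  · exact (kill_two_odd hn (by norm_num) (by norm_num)).elim
  · exact (kill_pq hG (p := 5) (q := 31) (a := 3) (b := 1) (by norm_num) (by norm_num) (hn.trans (by norm_num))).elim
  · exact (kill_sylow hG (p := 17) (q := 2) (by norm_num) hn (by norm_num) (by norm_num) (by norm_num) (by norm_num) (by decide +kernel)).elim
  · exact (kill_pp hG (p := 3877) (k := 1) (by norm_num) (hn.trans (by norm_num))).elim
  · exact (kill_two_odd hn (by norm_num) (by norm_num)).elim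
  · exact (kill_pq hG (p := 3) (q := 431) (a := 2) (b := 1) (by norm_num) (by norm_num) (hn.trans (by norm_num))).elim
  · exact (kill_sylow hG (p := 97) (q := 2) (by norm_num) hn (by norm_num) (by norm_num) (by norm_num) (by norm_num) (by decide +kernel)).elim
  · exact (kill_pp hG (p := 3881) (k := 1) (by norm_num) (hn.trans (by norm_num))).elim
  · exact (kill_two_odd hn (by norm_num) (by norm_num)).elim
  · exact (kill_pq hG (p := 11) (q := 353) (a := 1) (b := 1) (by norm_num) (by norm_num) (hn.trans (by norm_num))).elim
  · exact (kill_pq hG (p := 2) (q := 971) (a := 2) (b := 1) (by norm_num) (by norm_num) (hn.trans (by norm_num))).elim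
  · exact (kill_sylow hG (p := 7) (q := 3) (by norm_num) hn (by norm_num) (by norm_num) (by norm_num) (by norm_num) (by decide +kernel)).elim
  · exact (kill_two_odd hn (by norm_num) (by norm_num)).elim
  · exact (kill_pq hG (p := 13) (q := 23) (a := 2) (b := 1) (by norm_num) (by norm_num) (hn.trans (by norm_num))).elim
  · exact (kill_pq hG (p := 2) (q := 3) (a := 4) (b := 5) (by norm_num) (by norm_num) (hn.trans (by norm_num))).elim
  · exact (kill_pp hG (p := 3889) (k := 1) (by norm_num) (hn.trans (by norm_num))).elim
  · exact (kill_two_odd hn (by norm_num) (by norm_num)).elim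
  · exact (kill_pq hG (p := 3) (q := 1297) (a := 1) (b := 1) (by norm_num) (by norm_num) (hn.trans (by norm_num))).elim
  · exact (kill_sylow hG (p := 7) (q := 2) (by norm_num) hn (by norm_num) (by norm_num) (by norm_num) (by norm_num) (by decide +kernel)).elim
  · exact (kill_pq hG (p := 17) (q := 229) (a := 1) (b := 1) (by norm_num) (by norm_num) (hn.trans (by norm_num))).elim
  · exact (kill_two_odd hn (by norm_num) (by norm_num)).elim
  · exact (kill_sylow hG (p := 19) (q := 5) (by norm_num) hn (by norm_num) (by norm_num) (by norm_num) (by norm_num) (by decide +kernel)).elim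
  · exact (kill_pq hG (p := 2) (q := 487) (a := 3) (b := 1) (by norm_num) (by norm_num) (hn.trans (by norm_num))).elim
  · exact (kill_pq hG (p := 3) (q := 433) (a := 2) (b := 1) (by norm_num) (by norm_num) (hn.trans (by norm_num))).elim
  · exact (kill_pq hG (p := 2) (q := 1949) (a := 1) (b := 1) (by norm_num) (by norm_num) (hn.trans (by norm_num))).elim
  · exact (kill_pq hG (p := 7) (q := 557) (a := 1) (b := 1) (by norm_num) (by norm_num) (hn.trans (by norm_num))).elim
  · exact (kill_par hG (p := 13) (by norm_num) hn (by norm_num) (by norm_num) (by norm_num) (by decide +kernel)).elim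
  · exact (kill_pq hG (p := 47) (q := 83) (a := 1) (b := 1) (by norm_num) (by norm_num) (hn.trans (by norm_num))).elim
  · exact (kill_pq hG (p := 2) (q := 1951) (a := 1) (b := 1) (by norm_num) (by norm_num) (hn.trans (by norm_num))).elim
  · exact (kill_pq hG (p := 3) (q := 1301) (a := 1) (b := 1) (by norm_num) (by norm_num) (hn.trans (by norm_num))).elim
  · exact (kill_pq hG (p := 2) (q := 61) (a := 6) (b := 1) (by norm_num) (by norm_num) (hn.trans (by norm_num))).elim
  · exact (kill_sylow hG (p := 11) (q := 5) (by norm_num) hn (by norm_num) (by norm_num) (by norm_num) (by norm_num) (by decide +kernel)).elim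
  · exact (kill_two_odd hn (by norm_num) (by norm_num)).elim
  · exact (kill_pp hG (p := 3907) (k := 1) (by norm_num) (hn.trans (by norm_num))).elim
  · exact (kill_pq hG (p := 2) (q := 977) (a := 2) (b := 1) (by norm_num) (by norm_num) (hn.trans (by norm_num))).elim
  · exact (kill_pq hG (p := 3) (q := 1303) (a := 1) (b := 1) (by norm_num) (by norm_num) (hn.trans (by norm_num))).elim
  · exact (kill_two_odd hn (by norm_num) (by norm_num)).elim
  · exact (kill_pp hG (p := 3911) (k := 1) (by norm_num) (hn.trans (by norm_num))).elim
  · exact (kill_sylow hG (p := 163) (q := 2) (by norm_num) hn (by norm_num) (by norm_num) (by norm_num) (by norm_num) (by decide +kernel)).elim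
  · exact (kill_sylow hG (p := 13) (q := 7) (by norm_num) hn (by norm_num) (by norm_num) (by norm_num) (by norm_num) (by decide +kernel)).elim
  · exact (kill_two_odd hn (by norm_num) (by norm_num)).elim
  · exact (kill_sylow hG (p := 29) (q := 3) (by norm_num) hn (by norm_num) (by norm_num) (by norm_num) (by norm_num) (by decide +kernel)).elim
  · exact (kill_sylow hG (p := 89) (q := 2) (by norm_num) hn (by norm_num) (by norm_num) (by norm_num) (by norm_num) (by decide +kernel)).elim
  · exact (kill_pp hG (p := 3917) (k := 1) (by norm_num) (hn.trans (by norm_num))).elim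
  · exact (kill_two_odd hn (by norm_num) (by norm_num)).elim
  · exact (kill_pp hG (p := 3919) (k := 1) (by norm_num) (hn.trans (by norm_num))).elim
  · exact (kill_sylow hG (p := 7) (q := 2) (by norm_num) hn (by norm_num) (by norm_num) (by norm_num) (by norm_num) (by decide +kernel)).elim
  · exact (kill_pq hG (p := 3) (q := 1307) (a := 1) (b := 1) (by norm_num) (by norm_num) (hn.trans (by norm_num))).elim
  · exact (kill_two_odd hn (by norm_num) (by norm_num)).elim
  · exact (kill_pp hG (p := 3923) (k := 1) (by norm_num) (hn.trans (by norm_num))).elim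
  · exact (kill_sylow hG (p := 109) (q := 2) (by norm_num) hn (by norm_num) (by norm_num) (by norm_num) (by norm_num) (by decide +kernel)).elim
  · exact (kill_pq hG (p := 5) (q := 157) (a := 2) (b := 1) (by norm_num) (by norm_num) (hn.trans (by norm_num))).elim
  · exact (kill_two_odd hn (by norm_num) (by norm_num)).elim
  · exact (kill_sylow hG (p := 11) (q := 3) (by norm_num) hn (by norm_num) (by norm_num) (by norm_num) (by norm_num) (by decide +kernel)).elim
  · exact (kill_pq hG (p := 2) (q := 491) (a := 3) (b := 1) (by norm_num) (by norm_num) (hn.trans (by norm_num))).elim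
  · exact (kill_pp hG (p := 3929) (k := 1) (by norm_num) (hn.trans (by norm_num))).elim
  · exact (kill_two_odd hn (by norm_num) (by norm_num)).elim
  · exact (kill_pp hG (p := 3931) (k := 1) (by norm_num) (hn.trans (by norm_num))).elim
  · exact (kill_pq hG (p := 2) (q := 983) (a := 2) (b := 1) (by norm_num) (by norm_num) (hn.trans (by norm_num))).elim
  · exact (kill_sylow hG (p := 3) (q := 19) (by norm_num) hn (by norm_num) (by norm_num) (by norm_num) (by norm_num) (by decide +kernel)).elim
  · exact (kill_two_odd hn (by norm_num) (by norm_num)).elim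
  · exact (kill_pq hG (p := 5) (q := 787) (a := 1) (b := 1) (by norm_num) (by norm_num) (hn.trans (by norm_num))).elim
  · exact (kill_sylow hG (p := 41) (q := 2) (by norm_num) hn (by norm_num) (by norm_num) (by norm_num) (by norm_num) (by decide +kernel)).elim
  · exact (kill_pq hG (p := 31) (q := 127) (a := 1) (b := 1) (by norm_num) (by norm_num) (hn.trans (by norm_num))).elim
  · exact (kill_two_odd hn (by norm_num) (by norm_num)).elim
  · exact (kill_sylow hG (p := 3) (q := 13) (by norm_num) hn (by norm_num) (by norm_num) (by norm_num) (by norm_num) (by decide +kernel)).elim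
  · exact (kill_sylow hG (p := 5) (q := 2) (by norm_num) hn (by norm_num) (by norm_num) (by norm_num) (by norm_num) (by decide +kernel)).elim

end Cfsg.Agent.Lib.Helper2.Ord

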