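import Mathlib
import Cfsg.Agent.Lib.Helper7.Small2
import Cfsg.Agent.Lib.Helper2.OrdK2

/-! Orders 3941 to 4040 (helper2, for S0983; generated in the style of Helper7.SmallB). -/

set_option autoImplicit false
set_option maxRecDepth 100000

namespace Cfsg.Agent.Lib.Helper2.Ord

open Cfsg.Agent.Lib.Helper7.Small

theorem blockR3 {G : Type*} [Group G] [Finite G] [IsSimpleGroup G] (hG : ¬ IsMulCommutative G)
    {n : ℕ} (hn : Nat.card G = n) (h1 : 3941 ≤ n) (h2 : n ≤ 4040) :
    n = 4080 ∨ n = 5616 ∨ n = 6048 ∨ n = 6072 := by
  interval_cases n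
  · exact (kill_pq hG (p := 7) (q := 563) (a := 1) (b := 1) (by norm_num) (by norm_num) (hn.trans (by norm_num))).elim
  · exact (kill_two_odd hn (by norm_num) (by norm_num)).elim
  · exact (kill_pp hG (p := 3943) (k := 1) (by norm_num) (hn.trans (by norm_num))).elim
  · exact (kill_sylow hG (p := 17) (q := 2) (by norm_num) hn (by norm_num) (by norm_num) (by norm_num) (by norm_num) (by decide +kernel)).elim
  · exact (kill_sylow hG (p := 5) (q := 3) (by norm_num) hn (by norm_num) (by norm_num) (by norm_num) (by norm_num) (by decide +kernel)).elim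
  · exact (kill_pq hG (p := 2) (q := 1973) (a := 1) (b := 1) (by norm_num) (by norm_num) (hn.trans (by norm_num))).elim
  · exact (kill_pp hG (p := 3947) (k := 1) (by norm_num) (hn.trans (by norm_num))).elim
  · exact (kill_sylow hG (p := 47) (q := 2) (by norm_num) hn (by norm_num) (by norm_num) (by norm_num) (by norm_num) (by decide +kernel)).elim
  · exact (kill_pq hG (p := 11) (q := 359) (a := 1) (b := 1) (by norm_num) (by norm_num) (hn.trans (by norm_num))).elim
  · exact (kill_two_odd hn (by norm_num) (by norm_num)).elim
  · exact (kill_pq hG (p := 3) (q := 439) (a := 2) (b := 1) (by norm_num) (by norm_num) (hn.trans (by norm_num))).elim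
  · exact (kill_sylow hG (p := 13) (q := 2) (by norm_num) hn (by norm_num) (by norm_num) (by norm_num) (by norm_num) (by decide +kernel)).elim
  · exact (kill_pq hG (p := 59) (q := 67) (a := 1) (b := 1) (by norm_num) (by norm_num) (hn.trans (by norm_num))).elim
  · exact (kill_two_odd hn (by norm_num) (by norm_num)).elim
  · exact (kill_sylow hG (p := 113) (q := 5) (by norm_num) hn (by norm_num) (by norm_num) (by norm_num) (by norm_num) (by decide +kernel)).elim
  · exact (kill_sylow hG (p := 23) (q := 2) (by norm_num) hn (by norm_num) (by norm_num) (by norm_num) (by norm_num) (by decide +kernel)).elim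
  · exact (kill_pq hG (p := 3) (q := 1319) (a := 1) (b := 1) (by norm_num) (by norm_num) (hn.trans (by norm_num))).elim
  · exact (kill_pq hG (p := 2) (q := 1979) (a := 1) (b := 1) (by norm_num) (by norm_num) (hn.trans (by norm_num))).elim
  · exact (kill_pq hG (p := 37) (q := 107) (a := 1) (b := 1) (by norm_num) (by norm_num) (hn.trans (by norm_num))).elim
  · exact (Cfsg.Agent.Lib.Helper2.Ord.ns_3960 hG hn).elim
  · exact (kill_pq hG (p := 17) (q := 233) (a := 1) (b := 1) (by norm_num) (by norm_num) (hn.trans (by norm_num))).elim
  · exact (kill_two_odd hn (by norm_num) (by norm_num)).elim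
  · exact (kill_pq hG (p := 3) (q := 1321) (a := 1) (b := 1) (by norm_num) (by norm_num) (hn.trans (by norm_num))).elim
  · exact (kill_pq hG (p := 2) (q := 991) (a := 2) (b := 1) (by norm_num) (by norm_num) (hn.trans (by norm_num))).elim
  · exact (kill_sylow hG (p := 13) (q := 5) (by norm_num) hn (by norm_num) (by norm_num) (by norm_num) (by norm_num) (by decide +kernel)).elim
  · exact (kill_two_odd hn (by norm_num) (by norm_num)).elim
  · exact (kill_pp hG (p := 3967) (k := 1) (by norm_num) (hn.trans (by norm_num))).elim
  · exact (kill_pq hG (p := 2) (q := 31) (a := 7) (b := 1) (by norm_num) (by norm_num) (hn.trans (by norm_num))).elim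
  · exact (kill_pq hG (p := 3) (q := 7) (a := 4) (b := 2) (by norm_num) (by norm_num) (hn.trans (by norm_num))).elim
  · exact (kill_two_odd hn (by norm_num) (by norm_num)).elim
  · exact (kill_pq hG (p := 11) (q := 19) (a := 1) (b := 2) (by norm_num) (by norm_num) (hn.trans (by norm_num))).elim
  · exact (kill_sylow hG (p := 331) (q := 2) (by norm_num) hn (by norm_num) (by norm_num) (by norm_num) (by norm_num) (by decide +kernel)).elim
  · exact (kill_pq hG (p := 29) (q := 137) (a := 1) (b := 1) (by norm_num) (by norm_num) (hn.trans (by norm_num))).elim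
  · exact (kill_pq hG (p := 2) (q := 1987) (a := 1) (b := 1) (by norm_num) (by norm_num) (hn.trans (by norm_num))).elim
  · exact (kill_sylow hG (p := 5) (q := 3) (by norm_num) hn (by norm_num) (by norm_num) (by norm_num) (by norm_num) (by decide +kernel)).elim
  · exact (kill_sylow hG (p := 71) (q := 2) (by norm_num) hn (by norm_num) (by norm_num) (by norm_num) (by norm_num) (by decide +kernel)).elim
  · exact (kill_pq hG (p := 41) (q := 97) (a := 1) (b := 1) (by norm_num) (by norm_num) (hn.trans (by norm_num))).elim
  · exact (kill_two_odd hn (by norm_num) (by norm_num)).elim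
  · exact (kill_pq hG (p := 23) (q := 173) (a := 1) (b := 1) (by norm_num) (by norm_num) (hn.trans (by norm_num))).elim
  · exact (kill_sylow hG (p := 199) (q := 2) (by norm_num) hn (by norm_num) (by norm_num) (by norm_num) (by norm_num) (by decide +kernel)).elim
  · exact (kill_pq hG (p := 3) (q := 1327) (a := 1) (b := 1) (by norm_num) (by norm_num) (hn.trans (by norm_num))).elim
  · exact (kill_two_odd hn (by norm_num) (by norm_num)).elim
  · exact (kill_pq hG (p := 7) (q := 569) (a := 1) (b := 1) (by norm_num) (by norm_num) (hn.trans (by norm_num))).elim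
  · exact (kill_sylow hG (p := 83) (q := 2) (by norm_num) hn (by norm_num) (by norm_num) (by norm_num) (by norm_num) (by decide +kernel)).elim
  · exact (kill_pq hG (p := 5) (q := 797) (a := 1) (b := 1) (by norm_num) (by norm_num) (hn.trans (by norm_num))).elim
  · exact (kill_pq hG (p := 2) (q := 1993) (a := 1) (b := 1) (by norm_num) (by norm_num) (hn.trans (by norm_num))).elim
  · exact (kill_pq hG (p := 3) (q := 443) (a := 2) (b := 1) (by norm_num) (by norm_num) (hn.trans (by norm_num))).elim
  · exact (kill_pq hG (p := 2) (q := 997) (a := 2) (b := 1) (by norm_num) (by norm_num) (hn.trans (by norm_num))).elim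
  · exact (kill_pp hG (p := 3989) (k := 1) (by norm_num) (hn.trans (by norm_num))).elim
  · exact (kill_two_odd hn (by norm_num) (by norm_num)).elim
  · exact (kill_pq hG (p := 13) (q := 307) (a := 1) (b := 1) (by norm_num) (by norm_num) (hn.trans (by norm_num))).elim
  · exact (kill_pq hG (p := 2) (q := 499) (a := 3) (b := 1) (by norm_num) (by norm_num) (hn.trans (by norm_num))).elim
  · exact (kill_pq hG (p := 3) (q := 11) (a := 1) (b := 3) (by norm_num) (by norm_num) (hn.trans (by norm_num))).elim
  · exact (kill_pq hG (p := 2) (q := 1997) (a := 1) (b := 1) (by norm_num) (by norm_num) (hn.trans (by norm_num))).elim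
  · exact (kill_sylow hG (p := 5) (q := 17) (by norm_num) hn (by norm_num) (by norm_num) (by norm_num) (by norm_num) (by decide +kernel)).elim
  · exact (kill_sylow hG (p := 37) (q := 2) (by norm_num) hn (by norm_num) (by norm_num) (by norm_num) (by norm_num) (by decide +kernel)).elim
  · exact (kill_pq hG (p := 7) (q := 571) (a := 1) (b := 1) (by norm_num) (by norm_num) (hn.trans (by norm_num))).elim
  · exact (kill_pq hG (p := 2) (q := 1999) (a := 1) (b := 1) (by norm_num) (by norm_num) (hn.trans (by norm_num))).elim
  · exact (kill_sylow hG (p := 31) (q := 3) (by norm_num) hn (by norm_num) (by norm_num) (by norm_num) (by norm_num) (by decide +kernel)).elim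
  · exact (kill_pq hG (p := 2) (q := 5) (a := 5) (b := 3) (by norm_num) (by norm_num) (hn.trans (by norm_num))).elim
  · exact (kill_pp hG (p := 4001) (k := 1) (by norm_num) (hn.trans (by norm_num))).elim
  · exact (kill_two_odd hn (by norm_num) (by norm_num)).elim
  · exact (kill_pp hG (p := 4003) (k := 1) (by norm_num) (hn.trans (by norm_num))).elim
  · exact (kill_par hG (p := 7) (by norm_num) hn (by norm_num) (by norm_num) (by norm_num) (by decide +kernel)).elim
  · exact (kill_sylow hG (p := 89) (q := 3) (by norm_num) hn (by norm_num) (by norm_num) (by norm_num) (by norm_num) (by decide +kernel)).elim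
  · exact (kill_pq hG (p := 2) (q := 2003) (a := 1) (b := 1) (by norm_num) (by norm_num) (hn.trans (by norm_num))).elim
  · exact (kill_pp hG (p := 4007) (k := 1) (by norm_num) (hn.trans (by norm_num))).elim
  · exact (kill_sylow hG (p := 167) (q := 2) (by norm_num) hn (by norm_num) (by norm_num) (by norm_num) (by norm_num) (by decide +kernel)).elim
  · exact (kill_pq hG (p := 19) (q := 211) (a := 1) (b := 1) (by norm_num) (by norm_num) (hn.trans (by norm_num))).elim
  · exact (kill_two_odd hn (by norm_num) (by norm_num)).elim
  · exact (kill_sylow hG (p := 3) (q := 7) (by norm_num) hn (by norm_num) (by norm_num) (by norm_num) (by norm_num) (by decide +kernel)).elim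
  · exact (kill_sylow hG (p := 17) (q := 2) (by norm_num) hn (by norm_num) (by norm_num) (by norm_num) (by norm_num) (by decide +kernel)).elim
  · exact (kill_pp hG (p := 4013) (k := 1) (by norm_num) (hn.trans (by norm_num))).elim
  · exact (kill_two_odd hn (by norm_num) (by norm_num)).elim
  · exact (kill_sylow hG (p := 5) (q := 11) (by norm_num) hn (by norm_num) (by norm_num) (by norm_num) (by norm_num) (by decide +kernel)).elim
  · exact (kill_pq hG (p := 2) (q := 251) (a := 4) (b := 1) (by norm_num) (by norm_num) (hn.trans (by norm_num))).elim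
  · exact (kill_sylow hG (p := 13) (q := 3) (by norm_num) hn (by norm_num) (by norm_num) (by norm_num) (by norm_num) (by decide +kernel)).elim
  · exact (kill_two_odd hn (by norm_num) (by norm_num)).elim
  · exact (kill_pp hG (p := 4019) (k := 1) (by norm_num) (hn.trans (by norm_num))).elim
  · exact (kill_sylow hG (p := 67) (q := 2) (by norm_num) hn (by norm_num) (by norm_num) (by norm_num) (by norm_num) (by decide +kernel)).elim
  · exact (kill_pp hG (p := 4021) (k := 1) (by norm_num) (hn.trans (by norm_num))).elim
  · exact (kill_pq hG (p := 2) (q := 2011) (a := 1) (b := 1) (by norm_num) (by norm_num) (hn.trans (by norm_num))).elim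
  · exact (kill_pq hG (p := 3) (q := 149) (a := 3) (b := 1) (by norm_num) (by norm_num) (hn.trans (by norm_num))).elim
  · exact (kill_pq hG (p := 2) (q := 503) (a := 3) (b := 1) (by norm_num) (by norm_num) (hn.trans (by norm_num))).elim
  · exact (kill_sylow hG (p := 23) (q := 5) (by norm_num) hn (by norm_num) (by norm_num) (by norm_num) (by norm_num) (by decide +kernel)).elim
  · exact (kill_two_odd hn (by norm_num) (by norm_num)).elim
  · exact (kill_pp hG (p := 4027) (k := 1) (by norm_num) (hn.trans (by norm_num))).elim
  · exact (kill_sylow hG (p := 19) (q := 2) (by norm_num) hn (by norm_num) (by norm_num) (by norm_num) (by norm_num) (by decide +kernel)).elim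
  · exact (kill_sylow hG (p := 17) (q := 3) (by norm_num) hn (by norm_num) (by norm_num) (by norm_num) (by norm_num) (by decide +kernel)).elim
  · exact (kill_two_odd hn (by norm_num) (by norm_num)).elim
  · exact (kill_pq hG (p := 29) (q := 139) (a := 1) (b := 1) (by norm_num) (by norm_num) (hn.trans (by norm_num))).elim
  · exact (Cfsg.Agent.Lib.Helper2.Ord.ns_4032 hG hn).elim
  · exact (kill_pq hG (p := 37) (q := 109) (a := 1) (b := 1) (by norm_num) (by norm_num) (hn.trans (by norm_num))).elim
  · exact (kill_pq hG (p := 2) (q := 2017) (a := 1) (b := 1) (by norm_num) (by norm_num) (hn.trans (by norm_num))).elim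
  · exact (kill_sylow hG (p := 5) (q := 3) (by norm_num) hn (by norm_num) (by norm_num) (by norm_num) (by norm_num) (by decide +kernel)).elim
  · exact (kill_pq hG (p := 2) (q := 1009) (a := 2) (b := 1) (by norm_num) (by norm_num) (hn.trans (by norm_num))).elim
  · exact (kill_pq hG (p := 11) (q := 367) (a := 1) (b := 1) (by norm_num) (by norm_num) (hn.trans (by norm_num))).elim
  · exact (kill_two_odd hn (by norm_num) (by norm_num)).elim
  · exact (kill_pq hG (p := 7) (q := 577) (a := 1) (b := 1) (by norm_num) (by norm_num) (hn.trans (by norm_num))).elim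
  · exact (kill_sylow hG (p := 101) (q := 2) (by norm_num) hn (by norm_num) (by norm_num) (by norm_num) (by norm_num) (by decide +kernel)).elim

end Cfsg.Agent.Lib.Helper2.Ord

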