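import Mathlib
import Cfsg.Agent.Lib.Helper7.Small2
import Cfsg.Agent.Lib.Helper2.OrdK2

/-! Orders 4041 to 4140 (helper2, for S0983; generated in the style of Helper7.SmallB). -/

set_option autoImplicit false
set_option maxRecDepth 100000

namespace Cfsg.Agent.Lib.Helper2.Ord

open Cfsg.Agent.Lib.Helper7.Small

theorem blockR4 {G : Type*} [Group G] [Finite G] [IsSimpleGroup G] (hG : ¬ IsMulCommutative G)
    {n : ℕ} (hn : Nat.card G = n) (h1 : 4041 ≤ n) (h2 : n ≤ 4140) :
    n = 4080 ∨ n = 5616 ∨ n = 6048 ∨ n = 6072 := by
  interval_cases n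
  · exact (kill_pq hG (p := 3) (q := 449) (a := 2) (b := 1) (by norm_num) (by norm_num) (hn.trans (by norm_num))).elim
  · exact (kill_two_odd hn (by norm_num) (by norm_num)).elim
  · exact (kill_pq hG (p := 13) (q := 311) (a := 1) (b := 1) (by norm_num) (by norm_num) (hn.trans (by norm_num))).elim
  · exact (kill_sylow hG (p := 337) (q := 2) (by norm_num) hn (by norm_num) (by norm_num) (by norm_num) (by norm_num) (by decide +kernel)).elim
  · exact (kill_pq hG (p := 5) (q := 809) (a := 1) (b := 1) (by norm_num) (by norm_num) (hn.trans (by norm_num))).elim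
  · exact (kill_two_odd hn (by norm_num) (by norm_num)).elim
  · exact (kill_sylow hG (p := 3) (q := 19) (by norm_num) hn (by norm_num) (by norm_num) (by norm_num) (by norm_num) (by decide +kernel)).elim
  · exact (kill_sylow hG (p := 23) (q := 2) (by norm_num) hn (by norm_num) (by norm_num) (by norm_num) (by norm_num) (by decide +kernel)).elim
  · exact (kill_pp hG (p := 4049) (k := 1) (by norm_num) (hn.trans (by norm_num))).elim
  · exact (kill_two_odd hn (by norm_num) (by norm_num)).elim
  · exact (kill_pp hG (p := 4051) (k := 1) (by norm_num) (hn.trans (by norm_num))).elim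
  · exact (kill_pq hG (p := 2) (q := 1013) (a := 2) (b := 1) (by norm_num) (by norm_num) (hn.trans (by norm_num))).elim
  · exact (kill_sylow hG (p := 7) (q := 3) (by norm_num) hn (by norm_num) (by norm_num) (by norm_num) (by norm_num) (by decide +kernel)).elim
  · exact (kill_pq hG (p := 2) (q := 2027) (a := 1) (b := 1) (by norm_num) (by norm_num) (hn.trans (by norm_num))).elim
  · exact (kill_pq hG (p := 5) (q := 811) (a := 1) (b := 1) (by norm_num) (by norm_num) (hn.trans (by norm_num))).elim
  · exact (kill_sylow hG (p := 13) (q := 2) (by norm_num) hn (by norm_num) (by norm_num) (by norm_num) (by norm_num) (by decide +kernel)).elim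
  · exact (kill_pp hG (p := 4057) (k := 1) (by norm_num) (hn.trans (by norm_num))).elim
  · exact (kill_pq hG (p := 2) (q := 2029) (a := 1) (b := 1) (by norm_num) (by norm_num) (hn.trans (by norm_num))).elim
  · exact (kill_sylow hG (p := 11) (q := 3) (by norm_num) hn (by norm_num) (by norm_num) (by norm_num) (by norm_num) (by decide +kernel)).elim
  · exact (kill_sylow hG (p := 29) (q := 2) (by norm_num) hn (by norm_num) (by norm_num) (by norm_num) (by norm_num) (by decide +kernel)).elim
  · exact (kill_pq hG (p := 31) (q := 131) (a := 1) (b := 1) (by norm_num) (by norm_num) (hn.trans (by norm_num))).elim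
  · exact (kill_two_odd hn (by norm_num) (by norm_num)).elim
  · exact (kill_pq hG (p := 17) (q := 239) (a := 1) (b := 1) (by norm_num) (by norm_num) (hn.trans (by norm_num))).elim
  · exact (kill_pq hG (p := 2) (q := 127) (a := 5) (b := 1) (by norm_num) (by norm_num) (hn.trans (by norm_num))).elim
  · exact (kill_sylow hG (p := 271) (q := 3) (by norm_num) hn (by norm_num) (by norm_num) (by norm_num) (by norm_num) (by decide +kernel)).elim
  · exact (kill_two_odd hn (by norm_num) (by norm_num)).elim
  · exact (kill_pq hG (p := 7) (q := 83) (a := 2) (b := 1) (by norm_num) (by norm_num) (hn.trans (by norm_num))).elim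
  · exact (kill_sylow hG (p := 113) (q := 2) (by norm_num) hn (by norm_num) (by norm_num) (by norm_num) (by norm_num) (by decide +kernel)).elim
  · exact (kill_pq hG (p := 13) (q := 313) (a := 1) (b := 1) (by norm_num) (by norm_num) (hn.trans (by norm_num))).elim
  · exact (kill_two_odd hn (by norm_num) (by norm_num)).elim
  · exact (kill_sylow hG (p := 23) (q := 3) (by norm_num) hn (by norm_num) (by norm_num) (by norm_num) (by norm_num) (by decide +kernel)).elim
  · exact (kill_pq hG (p := 2) (q := 509) (a := 3) (b := 1) (by norm_num) (by norm_num) (hn.trans (by norm_num))).elim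
  · exact (kill_pp hG (p := 4073) (k := 1) (by norm_num) (hn.trans (by norm_num))).elim
  · exact (kill_two_odd hn (by norm_num) (by norm_num)).elim
  · exact (kill_pq hG (p := 5) (q := 163) (a := 2) (b := 1) (by norm_num) (by norm_num) (hn.trans (by norm_num))).elim
  · exact (kill_pq hG (p := 2) (q := 1019) (a := 2) (b := 1) (by norm_num) (by norm_num) (hn.trans (by norm_num))).elim
  · exact (kill_pq hG (p := 3) (q := 151) (a := 3) (b := 1) (by norm_num) (by norm_num) (hn.trans (by norm_num))).elim
  · exact (kill_pq hG (p := 2) (q := 2039) (a := 1) (b := 1) (by norm_num) (by norm_num) (hn.trans (by norm_num))).elim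
  · exact (kill_pp hG (p := 4079) (k := 1) (by norm_num) (hn.trans (by norm_num))).elim
  · decide
  · exact (kill_sylow hG (p := 7) (q := 11) (by norm_num) hn (by norm_num) (by norm_num) (by norm_num) (by norm_num) (by decide +kernel)).elim
  · exact (kill_two_odd hn (by norm_num) (by norm_num)).elim
  · exact (kill_pq hG (p := 3) (q := 1361) (a := 1) (b := 1) (by norm_num) (by norm_num) (hn.trans (by norm_num))).elim
  · exact (kill_pq hG (p := 2) (q := 1021) (a := 2) (b := 1) (by norm_num) (by norm_num) (hn.trans (by norm_num))).elim
  · exact (kill_sylow hG (p := 5) (q := 19) (by norm_num) hn (by norm_num) (by norm_num) (by norm_num) (by norm_num) (by decide +kernel)).elim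
  · exact (kill_two_odd hn (by norm_num) (by norm_num)).elim
  · exact (kill_pq hG (p := 61) (q := 67) (a := 1) (b := 1) (by norm_num) (by norm_num) (hn.trans (by norm_num))).elim
  · exact (kill_sylow hG (p := 7) (q := 2) (by norm_num) hn (by norm_num) (by norm_num) (by norm_num) (by norm_num) (by decide +kernel)).elim
  · exact (kill_sylow hG (p := 29) (q := 3) (by norm_num) hn (by norm_num) (by norm_num) (by norm_num) (by norm_num) (by decide +kernel)).elim
  · exact (kill_two_odd hn (by norm_num) (by norm_num)).elim
  · exact (kill_pp hG (p := 4091) (k := 1) (by norm_num) (hn.trans (by norm_num))).elim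
  · exact (kill_sylow hG (p := 11) (q := 2) (by norm_num) hn (by norm_num) (by norm_num) (by norm_num) (by norm_num) (by decide +kernel)).elim
  · exact (kill_pp hG (p := 4093) (k := 1) (by norm_num) (hn.trans (by norm_num))).elim
  · exact (kill_two_odd hn (by norm_num) (by norm_num)).elim
  · exact (kill_par hG (p := 5) (by norm_num) hn (by norm_num) (by norm_num) (by norm_num) (by decide +kernel)).elim
  · exact (kill_pp hG (p := 2) (k := 12) (by norm_num) (hn.trans (by norm_num))).elim
  · exact (kill_pq hG (p := 17) (q := 241) (a := 1) (b := 1) (by norm_num) (by norm_num) (hn.trans (by norm_num))).elim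
  · exact (kill_two_odd hn (by norm_num) (by norm_num)).elim
  · exact (kill_pp hG (p := 4099) (k := 1) (by norm_num) (hn.trans (by norm_num))).elim
  · exact (kill_sylow hG (p := 41) (q := 2) (by norm_num) hn (by norm_num) (by norm_num) (by norm_num) (by norm_num) (by decide +kernel)).elim
  · exact (kill_pq hG (p := 3) (q := 1367) (a := 1) (b := 1) (by norm_num) (by norm_num) (hn.trans (by norm_num))).elim
  · exact (kill_two_odd hn (by norm_num) (by norm_num)).elim
  · exact (kill_pq hG (p := 11) (q := 373) (a := 1) (b := 1) (by norm_num) (by norm_num) (hn.trans (by norm_num))).elim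
  · exact (kill_sylow hG (p := 19) (q := 2) (by norm_num) hn (by norm_num) (by norm_num) (by norm_num) (by norm_num) (by decide +kernel)).elim
  · exact (kill_pq hG (p := 5) (q := 821) (a := 1) (b := 1) (by norm_num) (by norm_num) (hn.trans (by norm_num))).elim
  · exact (kill_pq hG (p := 2) (q := 2053) (a := 1) (b := 1) (by norm_num) (by norm_num) (hn.trans (by norm_num))).elim
  · exact (kill_pq hG (p := 3) (q := 37) (a := 1) (b := 2) (by norm_num) (by norm_num) (hn.trans (by norm_num))).elim
  · exact (kill_sylow hG (p := 79) (q := 2) (by norm_num) hn (by norm_num) (by norm_num) (by norm_num) (by norm_num) (by decide +kernel)).elim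
  · exact (kill_pq hG (p := 7) (q := 587) (a := 1) (b := 1) (by norm_num) (by norm_num) (hn.trans (by norm_num))).elim
  · exact (kill_two_odd hn (by norm_num) (by norm_num)).elim
  · exact (kill_pp hG (p := 4111) (k := 1) (by norm_num) (hn.trans (by norm_num))).elim
  · exact (kill_pq hG (p := 2) (q := 257) (a := 4) (b := 1) (by norm_num) (by norm_num) (hn.trans (by norm_num))).elim
  · exact (kill_pq hG (p := 3) (q := 457) (a := 2) (b := 1) (by norm_num) (by norm_num) (hn.trans (by norm_num))).elim
  · exact (kill_two_odd hn (by norm_num) (by norm_num)).elim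
  · exact (kill_pq hG (p := 5) (q := 823) (a := 1) (b := 1) (by norm_num) (by norm_num) (hn.trans (by norm_num))).elim
  · exact (kill_sylow hG (p := 7) (q := 2) (by norm_num) hn (by norm_num) (by norm_num) (by norm_num) (by norm_num) (by decide +kernel)).elim
  · exact (kill_pq hG (p := 23) (q := 179) (a := 1) (b := 1) (by norm_num) (by norm_num) (hn.trans (by norm_num))).elim
  · exact (kill_two_odd hn (by norm_num) (by norm_num)).elim
  · exact (kill_pq hG (p := 3) (q := 1373) (a := 1) (b := 1) (by norm_num) (by norm_num) (hn.trans (by norm_num))).elim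
  · exact (kill_sylow hG (p := 103) (q := 2) (by norm_num) hn (by norm_num) (by norm_num) (by norm_num) (by norm_num) (by decide +kernel)).elim
  · exact (kill_pq hG (p := 13) (q := 317) (a := 1) (b := 1) (by norm_num) (by norm_num) (hn.trans (by norm_num))).elim
  · exact (kill_two_odd hn (by norm_num) (by norm_num)).elim
  · exact (kill_sylow hG (p := 19) (q := 7) (by norm_num) hn (by norm_num) (by norm_num) (by norm_num) (by norm_num) (by decide +kernel)).elim
  · exact (kill_pq hG (p := 2) (q := 1031) (a := 2) (b := 1) (by norm_num) (by norm_num) (hn.trans (by norm_num))).elim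
  · exact (kill_sylow hG (p := 5) (q := 3) (by norm_num) hn (by norm_num) (by norm_num) (by norm_num) (by norm_num) (by decide +kernel)).elim
  · exact (kill_pq hG (p := 2) (q := 2063) (a := 1) (b := 1) (by norm_num) (by norm_num) (hn.trans (by norm_num))).elim
  · exact (kill_pp hG (p := 4127) (k := 1) (by norm_num) (hn.trans (by norm_num))).elim
  · exact (kill_sylow hG (p := 43) (q := 2) (by norm_num) hn (by norm_num) (by norm_num) (by norm_num) (by norm_num) (by decide +kernel)).elim
  · exact (kill_pp hG (p := 4129) (k := 1) (by norm_num) (hn.trans (by norm_num))).elim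
  · exact (kill_two_odd hn (by norm_num) (by norm_num)).elim
  · exact (kill_pq hG (p := 3) (q := 17) (a := 5) (b := 1) (by norm_num) (by norm_num) (hn.trans (by norm_num))).elim
  · exact (kill_pq hG (p := 2) (q := 1033) (a := 2) (b := 1) (by norm_num) (by norm_num) (hn.trans (by norm_num))).elim
  · exact (kill_pp hG (p := 4133) (k := 1) (by norm_num) (hn.trans (by norm_num))).elim
  · exact (kill_two_odd hn (by norm_num) (by norm_num)).elim
  · exact (kill_pq hG (p := 5) (q := 827) (a := 1) (b := 1) (by norm_num) (by norm_num) (hn.trans (by norm_num))).elim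
  · exact (kill_sylow hG (p := 47) (q := 2) (by norm_num) hn (by norm_num) (by norm_num) (by norm_num) (by norm_num) (by decide +kernel)).elim
  · exact (kill_sylow hG (p := 3) (q := 7) (by norm_num) hn (by norm_num) (by norm_num) (by norm_num) (by norm_num) (by decide +kernel)).elim
  · exact (kill_pq hG (p := 2) (q := 2069) (a := 1) (b := 1) (by norm_num) (by norm_num) (hn.trans (by norm_num))).elim
  · exact (kill_pp hG (p := 4139) (k := 1) (by norm_num) (hn.trans (by norm_num))).elim
  · exact (kill_sylow hG (p := 23) (q := 2) (by norm_num) hn (by norm_num) (by norm_num) (by norm_num) (by norm_num) (by decide +kernel)).elim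

end Cfsg.Agent.Lib.Helper2.Ord

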