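import Mathlib
import Cfsg.Agent.S0529

set_option autoImplicit false

/-! A finite group with the same order type as a supersolvable group is solvable:
the numbers of elements whose orders only involve primes `≥ m` force a Sylow tower. -/

namespace Cfsg.Agent.Lib.Helper2.Os

universe u v

/-- the elements all prime divisors of whose order are at least `m` -/
def geSet (X : Type u) [Group X] (m : ℕ) : Set X :=
  {x | ∀ q : ℕ, q.Prime → q ∣ orderOf x → m ≤ q}

/-- the counting property of groups with a Sylow tower of supersolvable type -/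
def Cnt (X : Type u) [Group X] : Prop :=
  ∀ m : ℕ, ∃ k j : ℕ, Nat.card X = k * j ∧ (∀ q : ℕ, q.Prime → q ∣ k → m ≤ q) ∧
    (∀ q : ℕ, q.Prime → q ∣ j → q < m) ∧ Nat.card (geSet X m) = k

theorem geSet_eq_of_normal {X : Type u} [Group X] [Finite X] (K : Subgroup X) [K.Normal] (m : ℕ)
    (h1 : ∀ q : ℕ, q.Prime → q ∣ Nat.card K → m ≤ q)
    (h2 : ∀ q : ℕ, q.Prime → q ∣ K.index → q < m) : geSet X m = (K : Set X) := by
  ext x
  constructor
  · intro hx
    by_contra hxK
    have hne : ((x : X ⧸ K)) ≠ 1 := by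
      intro h; exact hxK ((QuotientGroup.eq_one_iff x).mp h)
    have hord : orderOf (x : X ⧸ K) ≠ 1 := by
      intro h; exact hne (orderOf_eq_one_iff.mp h)
    obtain ⟨q, hq, hqd⟩ := Nat.exists_prime_and_dvd hord
    have hd1 : orderOf (x : X ⧸ K) ∣ orderOf x := orderOf_map_dvd (QuotientGroup.mk' K) x
    have hd2 : orderOf (x : X ⧸ K) ∣ K.index := by
      rw [Subgroup.index_eq_card]
      exact orderOf_dvd_natCard _
    have h3 := hx q hq (hqd.trans hd1)
    have h4 := h2 q hq (hqd.trans hd2)
    omega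
  · intro hx q hq hqd
    exact h1 q hq (hqd.trans (Subgroup.orderOf_dvd_natCard K hx))

theorem exists_normal_tower {G : Type u} [Group G] [Finite G] (hG : Cfsg.IsSupersolvable G)
    (m : ℕ) :
    ∃ K : Subgroup G, K.Normal ∧ (∀ q : ℕ, q.Prime → q ∣ Nat.card K → m ≤ q) ∧
      (∀ q : ℕ, q.Prime → q ∣ K.index → q < m) := by
  obtain ⟨n, H, h0, hlast, hnorm, hstep, hmono⟩ := Cfsg.Agent.S0529.result hG
  have key : ∀ i : Fin (n + 1), ∃ K : Subgroup G, K.Normal ∧ K ≤ H i ∧
      (∀ q : ℕ, q.Prime → q ∣ Nat.card K → m ≤ q) ∧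
      (∀ q : ℕ, q.Prime → q ∣ K.relIndex (H i) → q < m) ∧
      (K = H i ∨ ∃ j : Fin n, j.castSucc < i ∧ (H j.castSucc).relIndex (H j.succ) < m) := by
    intro i
    induction i using Fin.induction with
    | zero =>
      refine ⟨⊥, inferInstance, bot_le, ?_, ?_, Or.inl h0.symm⟩
      · intro q hq hqd
        rw [Subgroup.card_bot] at hqd
        exact absurd (Nat.dvd_one.mp hqd) hq.one_lt.ne'
      · intro q hq hqd
        rw [h0, Subgroup.relIndex_self] at hqd
        exact absurd (Nat.dvd_one.mp hqd) hq.one_lt.ne'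
    | succ i ih =>
      obtain ⟨K, hKn, hKle, hK1, hK2, hK3⟩ := ih
      obtain ⟨hle, hpr⟩ := hstep i
      by_cases hr : (H i.castSucc).relIndex (H i.succ) < m
      · refine ⟨K, hKn, hKle.trans hle, hK1, ?_, Or.inr ⟨i, Fin.castSucc_lt_succ, hr⟩⟩
        intro q hq hqd
        rw [← Subgroup.relIndex_mul_relIndex K (H i.castSucc) (H i.succ) hKle hle] at hqd
        rcases (Nat.Prime.dvd_mul hq).mp hqd with h | h
        · exact hK2 q hq h
        · rw [(Nat.prime_dvd_prime_iff_eq hq hpr).mp h]; exact hr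
      · push Not at hr
        have hKeq : K = H i.castSucc := by
          rcases hK3 with h | ⟨j, hj, hjm⟩
          · exact h
          · exfalso
            have hji : j ≤ i := (Fin.castSucc_lt_castSucc_iff.mp hj).le
            have := hmono j i hji
            omega
        refine ⟨H i.succ, hnorm _, le_refl _, ?_, ?_, Or.inl rfl⟩
        · intro q hq hqd
          have hcard : Nat.card (H i.castSucc) * (H i.castSucc).relIndex (H i.succ) =
              Nat.card (H i.succ) := by
            have := Subgroup.relIndex_mul_relIndex ⊥ (H i.castSucc) (H i.succ) bot_le hle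
            rwa [Subgroup.relIndex_bot_left, Subgroup.relIndex_bot_left] at this
          rw [← hcard] at hqd
          rcases (Nat.Prime.dvd_mul hq).mp hqd with h | h
          · exact hK1 q hq (hKeq ▸ h)
          · rw [(Nat.prime_dvd_prime_iff_eq hq hpr).mp h]; exact hr
        · intro q hq hqd
          rw [Subgroup.relIndex_self] at hqd
          exact absurd (Nat.dvd_one.mp hqd) hq.one_lt.ne'
  obtain ⟨K, hKn, _, hK1, hK2, _⟩ := key (Fin.last n)
  refine ⟨K, hKn, hK1, ?_⟩
  intro q hq hqd
  apply hK2 q hq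
  rw [hlast, Subgroup.relIndex_top_right]; exact hqd

theorem cnt_of_supersolvable {G : Type u} [Group G] [Finite G] (hG : Cfsg.IsSupersolvable G) :
    Cnt G := by
  intro m
  obtain ⟨K, hKn, hK1, hK2⟩ := exists_normal_tower hG m
  haveI := hKn
  refine ⟨Nat.card K, K.index, (K.card_mul_index).symm, hK1, hK2, ?_⟩
  rw [geSet_eq_of_normal K m hK1 hK2]
  rfl

theorem exists_order_equiv' {G : Type u} {H : Type v} [Group G] [Group H] [Finite G] [Finite H]
    (hT : ∀ m : ℕ, Nat.card {g : G // orderOf g = m} = Nat.card {h : H // orderOf h = m}) :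
    ∃ e : G ≃ H, ∀ x, orderOf (e x) = orderOf x := by
  have h : ∀ m : ℕ, Nonempty ({g : G // orderOf g = m} ≃ {h : H // orderOf h = m}) :=
    fun m => Finite.card_eq.mp (hT m)
  refine ⟨Equiv.ofFiberEquiv (fun m => Classical.choice (h m)), fun x => ?_⟩
  exact Equiv.ofFiberEquiv_map _ x

theorem cnt_transfer {G : Type u} {H : Type v} [Group G] [Group H] [Finite G] [Finite H]
    (e : G ≃ H) (he : ∀ x, orderOf (e x) = orderOf x) (hG : Cnt G) : Cnt H := by
  intro m
  obtain ⟨k, j, h1, h2, h3, h4⟩ := hG m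
  refine ⟨k, j, ?_, h2, h3, ?_⟩
  · rw [← h1]; exact (Nat.card_congr e).symm
  · rw [← h4]
    refine (Nat.card_congr (e.subtypeEquiv (fun x => ?_))).symm
    show (∀ q : ℕ, q.Prime → q ∣ orderOf x → m ≤ q) ↔
      (∀ q : ℕ, q.Prime → q ∣ orderOf (e x) → m ≤ q)
    rw [he]

/-- if the number of `p`-elements is the order of a Sylow `p`-subgroup, the Sylow `p`-subgroup
is normal -/
theorem sylow_normal_of_count {X : Type u} [Group X] [Finite X] (p : ℕ) [hp : Fact p.Prime]
    (hcount : Nat.card {y : X // ∃ j : ℕ, orderOf y = p ^ j} =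
      p ^ (Nat.card X).factorization p) :
    ∃ Q : Sylow p X, (Q : Subgroup X).Normal := by
  have hsub : ∀ Q : Sylow p X, ((Q : Subgroup X) : Set X) =
      {y : X | ∃ j : ℕ, orderOf y = p ^ j} := by
    intro Q
    apply Set.eq_of_subset_of_ncard_le
    · intro y hy
      obtain ⟨j, hj⟩ := Q.2 ⟨y, hy⟩
      have h1 : orderOf (⟨y, hy⟩ : (Q : Subgroup X)) ∣ p ^ j := orderOf_dvd_of_pow_eq_one hj
      obtain ⟨i, _, hi⟩ := (Nat.dvd_prime_pow hp.out).mp h1
      refine ⟨i, ?_⟩
      rw [← hi, ← Subgroup.orderOf_coe]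
    · rw [← Nat.card_coe_set_eq, ← Nat.card_coe_set_eq]
      show Nat.card {y : X // ∃ j : ℕ, orderOf y = p ^ j} ≤ Nat.card (Q : Subgroup X)
      rw [hcount, Q.card_eq_multiplicity]
    · exact Set.toFinite _
  haveI : Subsingleton (Sylow p X) := ⟨fun Q Q' => by
    apply Sylow.ext
    exact SetLike.coe_injective ((hsub Q).trans (hsub Q').symm)⟩
  exact ⟨default, Sylow.normal_of_subsingleton _⟩

theorem mem_geSet_quotient_iff {X : Type u} [Group X] [Finite X] {p : ℕ} [hp : Fact p.Prime]
    (Q : Subgroup X) [Q.Normal] (hQ : IsPGroup p Q) {m : ℕ} (hmp : m ≤ p) (x : X) :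
    ((x : X ⧸ Q)) ∈ geSet (X ⧸ Q) m ↔ x ∈ geSet X m := by
  constructor
  · intro hx q hq hqd
    have hxd : x ^ orderOf (x : X ⧸ Q) ∈ Q := by
      rw [← QuotientGroup.eq_one_iff, QuotientGroup.mk_pow]
      exact pow_orderOf_eq_one _
    obtain ⟨j, hj⟩ := hQ ⟨x ^ orderOf (x : X ⧸ Q), hxd⟩
    have hj' : x ^ (orderOf (x : X ⧸ Q) * p ^ j) = 1 := by
      have := congrArg Subtype.val hj
      rw [pow_mul]
      simpa using this
    have hdvd : orderOf x ∣ orderOf (x : X ⧸ Q) * p ^ j := orderOf_dvd_of_pow_eq_one hj'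
    rcases (Nat.Prime.dvd_mul hq).mp (hqd.trans hdvd) with h | h
    · exact hx q hq h
    · have := (Nat.prime_dvd_prime_iff_eq hq hp.out).mp (hq.dvd_of_dvd_pow h)
      omega
  · intro hx q hq hqd
    exact hx q hq (hqd.trans (orderOf_map_dvd (QuotientGroup.mk' Q) x))

theorem solvable_of_cnt : ∀ (n : ℕ) (X : Type u) [Group X] [Finite X], Nat.card X = n → Cnt X →
    Group.IsSolvable X := by
  intro n
  induction n using Nat.strong_induction_on with
  | _ n ih =>
    intro X _ _ hn hX
    by_cases hn1 : n = 1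
    · haveI : Subsingleton X := (Nat.card_eq_one_iff_unique.mp (hn.trans hn1)).1
      infer_instance
    have hn0 : n ≠ 0 := by rw [← hn]; exact Nat.card_pos.ne'
    have hne : n.primeFactors.Nonempty := by
      rw [Nat.nonempty_primeFactors]; omega
    obtain ⟨p, hpmem, hpmax⟩ := Finset.exists_max_image n.primeFactors id hne
    have hpp : p.Prime := Nat.prime_of_mem_primeFactors hpmem
    have hpn : p ∣ n := Nat.dvd_of_mem_primeFactors hpmem
    have hmax : ∀ q : ℕ, q.Prime → q ∣ n → q ≤ p := fun q hq hqn =>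
      hpmax q (Nat.mem_primeFactors.mpr ⟨hq, hqn, hn0⟩)
    haveI : Fact p.Prime := ⟨hpp⟩
    obtain ⟨k, j, hkj, hk1, hk2, hk3⟩ := hX p
    rw [hn] at hkj
    have hk0 : k ≠ 0 := by rintro rfl; simp at hkj; exact hn0 hkj
    have hj0 : j ≠ 0 := by rintro rfl; simp at hkj; exact hn0 hkj
    have hkpow : ∃ e, k = p ^ e := ⟨_, Nat.eq_prime_pow_of_unique_prime_dvd hk0
      (fun {d} hd hdk => le_antisymm (hmax d hd (hdk.trans ⟨j, hkj⟩)) (hk1 d hd hdk))⟩
    obtain ⟨e, rfl⟩ := hkpow
    have hpj : ¬ p ∣ j := fun h => by have := hk2 p hpp h; omega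
    have he : n.factorization p = e := by
      rw [hkj, Nat.factorization_mul hk0 hj0, Finsupp.add_apply, Nat.Prime.factorization_pow hpp,
        Finsupp.single_eq_same, Nat.factorization_eq_zero_of_not_dvd hpj, add_zero]
    have hset : geSet X p = {y : X | ∃ i : ℕ, orderOf y = p ^ i} := by
      ext y
      constructor
      · intro hy
        have hy0 : orderOf y ≠ 0 := (orderOf_pos y).ne'
        exact ⟨_, Nat.eq_prime_pow_of_unique_prime_dvd hy0 (fun {d} hd hdy =>
          le_antisymm (hmax d hd (hdy.trans (hn ▸ orderOf_dvd_natCard y))) (hy d hd hdy))⟩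
      · rintro ⟨i, hi⟩ q hq hqd
        rw [hi] at hqd
        exact ((Nat.prime_dvd_prime_iff_eq hq hpp).mp (hq.dvd_of_dvd_pow hqd)).ge
    have hcount : Nat.card {y : X // ∃ i : ℕ, orderOf y = p ^ i} =
        p ^ (Nat.card X).factorization p := by
      rw [hn, he, ← hk3, hset]; rfl
    obtain ⟨Q, hQn⟩ := sylow_normal_of_count p hcount
    haveI := hQn
    have hQcard : Nat.card (Q : Subgroup X) = p ^ e := by
      rw [Q.card_eq_multiplicity, hn, he]
    have he1 : 1 ≤ e := by
      rw [← he]; exact (hpp.factorization_pos_of_dvd hn0 hpn)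
    have hquot : Nat.card (X ⧸ (Q : Subgroup X)) * p ^ e = n := by
      rw [← hQcard, ← hn]; exact (Subgroup.card_eq_card_quotient_mul_card_subgroup _).symm
    have hpe2 : 2 ≤ p ^ e := by
      calc 2 ≤ p := hpp.two_le
        _ = p ^ 1 := (pow_one p).symm
        _ ≤ p ^ e := Nat.pow_le_pow_right hpp.pos he1
    have hqpos : 0 < Nat.card (X ⧸ (Q : Subgroup X)) := Nat.card_pos
    have hlt : Nat.card (X ⧸ (Q : Subgroup X)) < n := by
      rw [← hquot]; nlinarith
    have hcntQ : Cnt (X ⧸ (Q : Subgroup X)) := by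
      intro m
      by_cases hmp : m ≤ p
      · obtain ⟨k', j', hkj', hk1', hk2', hk3'⟩ := hX m
        rw [hn] at hkj'
        have hpj' : ¬ p ∣ j' := fun h => by have := hk2' p hpp h; omega
        have hdiv : p ^ e ∣ k' := by
          have h1 : p ^ e ∣ k' * j' := ⟨j, by rw [← hkj', hkj]⟩
          exact (Nat.Coprime.pow_left e
            ((Nat.Prime.coprime_iff_not_dvd hpp).mpr hpj')).dvd_of_dvd_mul_right h1
        obtain ⟨k'', rfl⟩ := hdiv
        refine ⟨k'', j', ?_, ?_, hk2', ?_⟩
        · have : Nat.card (X ⧸ (Q : Subgroup X)) * p ^ e = (k'' * j') * p ^ e := by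
            rw [hquot, hkj']; ring
          exact Nat.eq_of_mul_eq_mul_right (pow_pos hpp.pos e) this
        · intro q hq hqd; exact hk1' q hq (Dvd.dvd.mul_left hqd _)
        · have hpre : geSet X m = (QuotientGroup.mk : X → X ⧸ (Q : Subgroup X)) ⁻¹'
              geSet (X ⧸ (Q : Subgroup X)) m := by
            ext x
            exact (mem_geSet_quotient_iff (Q : Subgroup X) Q.isPGroup' hmp x).symm
          have h1 := QuotientGroup.card_preimage_mk (Q : Subgroup X)
            (geSet (X ⧸ (Q : Subgroup X)) m)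
          rw [← hpre, hk3', hQcard] at h1
          exact (Nat.eq_of_mul_eq_mul_left (pow_pos hpp.pos e) h1).symm
      · push Not at hmp
        refine ⟨1, Nat.card (X ⧸ (Q : Subgroup X)), (one_mul _).symm, ?_, ?_, ?_⟩
        · intro q hq hqd; exact absurd (Nat.dvd_one.mp hqd) hq.one_lt.ne'
        · intro q hq hqd
          have : q ≤ p := hmax q hq (hqd.trans ⟨p ^ e, hquot.symm⟩)
          omega
        · have : geSet (X ⧸ (Q : Subgroup X)) m = {1} := by
            ext y
            constructor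
            · intro hy
              by_contra hy1
              have hord : orderOf y ≠ 1 := fun h => hy1 (orderOf_eq_one_iff.mp h)
              obtain ⟨q, hq, hqd⟩ := Nat.exists_prime_and_dvd hord
              have h1 := hy q hq hqd
              have h2 : q ≤ p := hmax q hq
                ((hqd.trans (orderOf_dvd_natCard y)).trans ⟨p ^ e, hquot.symm⟩)
              omega
            · rintro rfl q hq hqd
              rw [orderOf_one] at hqd
              exact absurd (Nat.dvd_one.mp hqd) hq.one_lt.ne'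
          rw [this]; simp
    haveI : Group.IsSolvable (X ⧸ (Q : Subgroup X)) :=
      ih _ hlt (X ⧸ (Q : Subgroup X)) rfl hcntQ
    haveI : Group.IsSolvable (Q : Subgroup X) := by
      haveI := Q.isPGroup'.isNilpotent
      infer_instance
    exact Group.isSolvable_of_ker_le_range (Q : Subgroup X).subtype
      (QuotientGroup.mk' (Q : Subgroup X))
      (by rw [QuotientGroup.ker_mk', Subgroup.range_subtype])

theorem main {G : Type u} {H : Type v} [Group G] [Finite G] [Group H] [Finite H]
    (hT : ∀ m : ℕ, Nat.card {g : G // orderOf g = m} = Nat.card {h : H // orderOf h = m})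
    (hG : Cfsg.IsSupersolvable G) : Group.IsSolvable H := by
  obtain ⟨e, he⟩ := exists_order_equiv' hT
  exact solvable_of_cnt _ H rfl (cnt_transfer e he (cnt_of_supersolvable hG))

end Cfsg.Agent.Lib.Helper2.Os
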