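import Mathlib

/-! Groups of exponent four with exactly four central solutions of `x ^ 2 = 1`:
commutator calculus and a Gauss-sum constraint on the fibres of the squaring map. -/
set_option autoImplicit false

namespace Cfsg.Agent.Lib.Helper2.Ti3

/-- exponent dividing four, and the solutions of `x ^ 2 = 1` are central -/
structure Hyp (E : Type*) [Group E] : Prop where
  h4 : ∀ x : E, x ^ 4 = 1
  hc : ∀ x y : E, x ^ 2 = 1 → x * y = y * x

section basic
variable {E : Type*} [Group E]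

/-- the commutator `v x v⁻¹ x⁻¹` -/
def cm (v x : E) : E := v * x * v⁻¹ * x⁻¹

theorem Hyp.sq_sq (h : Hyp E) (x : E) : (x ^ 2) ^ 2 = 1 := by
  rw [← pow_mul]; exact h.h4 x

theorem Hyp.sq_mul (h : Hyp E) {s t : E} (hs : s ^ 2 = 1) (ht : t ^ 2 = 1) : (s * t) ^ 2 = 1 := by
  have hst : t * s = s * t := (h.hc s t hs).symm
  calc (s * t) ^ 2 = s * (t * s) * t := by simp only [pow_two, mul_assoc]
    _ = s * (s * t) * t := by rw [hst]
    _ = s ^ 2 * t ^ 2 := by simp only [pow_two, mul_assoc]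
    _ = 1 := by rw [hs, ht, one_mul]

theorem Hyp.sq_inv (_h : Hyp E) {s : E} (hs : s ^ 2 = 1) : (s⁻¹) ^ 2 = 1 := by
  rw [inv_pow, hs, inv_one]

theorem Hyp.cm_sq (h : Hyp E) (v x : E) : (cm v x) ^ 2 = 1 := by
  have e : cm v x = v ^ 2 * (v⁻¹ * x) ^ 2 * (x ^ 2)⁻¹ := by
    unfold cm; simp only [pow_two]; group
  rw [e]
  exact h.sq_mul (h.sq_mul (h.sq_sq v) (h.sq_sq _)) (h.sq_inv (h.sq_sq x))

theorem Hyp.cm_comm (h : Hyp E) (v x y : E) : cm v x * y = y * cm v x :=
  h.hc _ y (h.cm_sq v x)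

theorem cm_one_left (x : E) : cm 1 x = 1 := by unfold cm; group

theorem Hyp.cm_of_sq (h : Hyp E) {t : E} (ht : t ^ 2 = 1) (x : E) : cm t x = 1 := by
  have h1 : t * x = x * t := h.hc t x ht
  unfold cm
  rw [h1]; group

theorem Hyp.mul_sq (h : Hyp E) (x v : E) : (x * v) ^ 2 = cm v x * x ^ 2 * v ^ 2 := by
  have hvx : v * x = cm v x * (x * v) := by unfold cm; group
  have hcen : x * cm v x = cm v x * x := (h.cm_comm v x x).symm
  calc (x * v) ^ 2 = x * (v * x) * v := by simp only [pow_two, mul_assoc]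
    _ = x * (cm v x * (x * v)) * v := by rw [← hvx]
    _ = (x * cm v x) * x * v * v := by simp only [mul_assoc]
    _ = (cm v x * x) * x * v * v := by rw [hcen]
    _ = cm v x * x ^ 2 * v ^ 2 := by simp only [pow_two, mul_assoc]

theorem Hyp.cm_mul_right (h : Hyp E) (v x y : E) : cm v (x * y) = cm v x * cm v y := by
  have hc := h.cm_comm v y x⁻¹
  calc cm v (x * y) = v * x * v⁻¹ * (cm v y * x⁻¹) := by unfold cm; group
    _ = v * x * v⁻¹ * (x⁻¹ * cm v y) := by rw [hc]
    _ = cm v x * cm v y := by unfold cm; group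

theorem Hyp.cm_mul_left (h : Hyp E) (v w x : E) : cm (v * w) x = cm v x * cm w x := by
  have hc := h.cm_comm w x (x * v⁻¹ * x⁻¹)
  have hc2 := h.cm_comm w x (cm v x)
  calc cm (v * w) x = v * (cm w x * (x * v⁻¹ * x⁻¹)) := by unfold cm; group
    _ = v * ((x * v⁻¹ * x⁻¹) * cm w x) := by rw [hc]
    _ = cm v x * cm w x := by unfold cm; group

end basic

/-- a sign character on the solutions of `t ^ 2 = 1` -/
structure TChar (E : Type*) [Group E] (l : E → ℤ) : Prop where
  one : l 1 = 1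
  pm : ∀ t : E, t ^ 2 = 1 → l t = 1 ∨ l t = -1
  mul : ∀ s t : E, s ^ 2 = 1 → t ^ 2 = 1 → l (s * t) = l s * l t

/-- the sum of a `±1`-valued multiplicative function on a finite group -/
theorem char_sum {G : Type*} [Group G] [Fintype G] (f : G → ℤ)
    (hmul : ∀ x y, f (x * y) = f x * f y) (hpm : ∀ x, f x = 1 ∨ f x = -1) :
    ((∀ x, f x = 1) ∧ ∑ x, f x = Fintype.card G) ∨ ((∃ x, f x = -1) ∧ ∑ x, f x = 0) := by
  by_cases hall : ∀ x, f x = 1
  · left
    refine ⟨hall, ?_⟩
    simp [hall]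
  · right
    push Not at hall
    obtain ⟨y, hy⟩ := hall
    have hy' : f y = -1 := by
      rcases hpm y with h | h
      · exact absurd h hy
      · exact h
    refine ⟨⟨y, hy'⟩, ?_⟩
    have h1 : ∑ x, f (y * x) = ∑ x, f x := Equiv.sum_comp (Equiv.mulLeft y) f
    have h2 : ∑ x, f (y * x) = -∑ x, f x := by
      simp_rw [hmul, hy']
      rw [← Finset.mul_sum]; ring
    linarith

section gauss
variable {E : Type*} [Group E] [Fintype E]

/-- the subgroup of `v` such that `x ↦ l (cm v x)` is trivial -/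
def radical (h : Hyp E) {l : E → ℤ} (hl : TChar E l) : Subgroup E where
  carrier := {v | ∀ x, l (cm v x) = 1}
  one_mem' := by
    intro x
    rw [cm_one_left]; exact hl.one
  mul_mem' := by
    intro v w hv hw x
    rw [h.cm_mul_left, hl.mul _ _ (h.cm_sq v x) (h.cm_sq w x), hv x, hw x, mul_one]
  inv_mem' := by
    intro v hv x
    have h1 : l (cm (v * v⁻¹) x) = 1 := by rw [mul_inv_cancel, cm_one_left]; exact hl.one
    rw [h.cm_mul_left, hl.mul _ _ (h.cm_sq v x) (h.cm_sq v⁻¹ x), hv x, one_mul] at h1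
    exact h1

omit [Fintype E] in
theorem mem_radical (h : Hyp E) {l : E → ℤ} (hl : TChar E l) (v : E) :
    v ∈ radical h hl ↔ ∀ x, l (cm v x) = 1 := Iff.rfl

theorem gauss (h : Hyp E) {l : E → ℤ} (hl : TChar E l) :
    (∑ x : E, l (x ^ 2)) ^ 2 = 0 ∨
      ∃ R : Subgroup E, (∀ t : E, t ^ 2 = 1 → t ∈ R) ∧
        (∑ x : E, l (x ^ 2)) ^ 2 = (Nat.card E : ℤ) * (Nat.card R : ℤ) := by
  classical
  set R := radical h hl with hR
  have hsqpm : ∀ t : E, t ^ 2 = 1 → l t * l t = 1 := by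
    intro t ht
    rcases hl.pm t ht with e | e <;> rw [e] <;> norm_num
  -- step A
  have stepA : ∀ x v : E, l (x ^ 2) * l ((x * v) ^ 2) = l (cm v x) * l (v ^ 2) := by
    intro x v
    rw [h.mul_sq x v, hl.mul _ _ (h.sq_mul (h.cm_sq v x) (h.sq_sq x)) (h.sq_sq v),
      hl.mul _ _ (h.cm_sq v x) (h.sq_sq x)]
    have := hsqpm (x ^ 2) (h.sq_sq x)
    calc l (x ^ 2) * (l (cm v x) * l (x ^ 2) * l (v ^ 2))
        = (l (x ^ 2) * l (x ^ 2)) * (l (cm v x) * l (v ^ 2)) := by ring
      _ = l (cm v x) * l (v ^ 2) := by rw [this, one_mul]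
  -- step B
  have stepB : (∑ x : E, l (x ^ 2)) ^ 2 = ∑ v : E, l (v ^ 2) * ∑ x : E, l (cm v x) := by
    rw [sq, Finset.sum_mul_sum]
    have h1 : ∀ x : E, ∑ y : E, l (x ^ 2) * l (y ^ 2) = ∑ v : E, l (cm v x) * l (v ^ 2) := by
      intro x
      rw [← Equiv.sum_comp (Equiv.mulLeft x) (fun y => l (x ^ 2) * l (y ^ 2))]
      apply Finset.sum_congr rfl
      intro v _
      simp only [Equiv.coe_mulLeft]
      exact stepA x v
    rw [Finset.sum_congr rfl (fun x _ => h1 x), Finset.sum_comm]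
    apply Finset.sum_congr rfl
    intro v _
    rw [Finset.mul_sum]
    apply Finset.sum_congr rfl
    intro x _
    ring
  -- step C
  have stepC : ∀ v : E, ∑ x : E, l (cm v x) = if v ∈ R then (Fintype.card E : ℤ) else 0 := by
    intro v
    have hm : ∀ x y, l (cm v (x * y)) = l (cm v x) * l (cm v y) := by
      intro x y
      rw [h.cm_mul_right, hl.mul _ _ (h.cm_sq v x) (h.cm_sq v y)]
    rcases char_sum (fun x => l (cm v x)) hm (fun x => hl.pm _ (h.cm_sq v x)) with
      ⟨hall, hs⟩ | ⟨⟨y, hy⟩, hs⟩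
    · rw [if_pos (show v ∈ R from hall)]
      exact hs
    · have : v ∉ R := by
        intro hv
        have := hv y
        rw [hy] at this
        norm_num at this
      rw [if_neg this]
      exact hs
  -- step D
  have stepD : (∑ x : E, l (x ^ 2)) ^ 2 = (Fintype.card E : ℤ) * ∑ v : R, l ((v : E) ^ 2) := by
    rw [stepB]
    have h1 : ∀ v : E, l (v ^ 2) * ∑ x : E, l (cm v x) =
        if v ∈ R then (Fintype.card E : ℤ) * l (v ^ 2) else 0 := by
      intro v
      rw [stepC v]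
      split_ifs
      · ring
      · ring
    rw [Finset.sum_congr rfl (fun v _ => h1 v), ← Finset.sum_filter, Finset.mul_sum]
    exact Finset.sum_subtype (Finset.univ.filter (· ∈ R)) (by simp)
      (fun v => (Fintype.card E : ℤ) * l (v ^ 2))
  have hRmul : ∀ v w : R, l (((v * w : R) : E) ^ 2) = l ((v : E) ^ 2) * l ((w : E) ^ 2) := by
    intro v w
    rw [Subgroup.coe_mul, h.mul_sq, hl.mul _ _ (h.sq_mul (h.cm_sq _ _) (h.sq_sq _)) (h.sq_sq _),
      hl.mul _ _ (h.cm_sq _ _) (h.sq_sq _)]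
    have := w.2 (v : E)
    rw [this, one_mul]
  have hT : ∀ t : E, t ^ 2 = 1 → t ∈ R := by
    intro t ht x
    rw [h.cm_of_sq ht]; exact hl.one
  rcases char_sum (fun v : R => l ((v : E) ^ 2)) hRmul (fun v => hl.pm _ (h.sq_sq _)) with
    ⟨-, hs⟩ | ⟨-, hs⟩
  · right
    refine ⟨R, hT, ?_⟩
    rw [stepD, hs, Nat.card_eq_fintype_card, Nat.card_eq_fintype_card]
  · left
    rw [stepD, hs, mul_zero]

end gauss

end Cfsg.Agent.Lib.Helper2.Ti3
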