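import Mathlib
import Cfsg.Agent.Lib.Helper2.Ti3A

/-! Counting square roots in a group of exponent four with four central involution-or-trivial
elements: the Gauss-sum constraint in terms of fibre sizes. -/
set_option autoImplicit false

namespace Cfsg.Agent.Lib.Helper2.Ti3

section counts
variable {E : Type*} [Group E] [Fintype E] [DecidableEq E]

/-- the solutions of `x ^ 2 = 1` as a finset -/
def Tf (E : Type*) [Group E] [Fintype E] [DecidableEq E] : Finset E :=
  Finset.univ.filter (fun x => x ^ 2 = 1)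

theorem mem_Tf (x : E) : x ∈ Tf E ↔ x ^ 2 = 1 := by simp [Tf]

theorem Tf_eq (h4 : (Tf E).card = 4) {a b c : E} (ha : a ^ 2 = 1) (hb : b ^ 2 = 1)
    (hc : c ^ 2 = 1) (ha1 : a ≠ 1) (hb1 : b ≠ 1) (hc1 : c ≠ 1) (hab : a ≠ b) (hac : a ≠ c)
    (hbc : b ≠ c) : Tf E = {1, a, b, c} := by
  symm
  apply Finset.eq_of_subset_of_card_le
  · intro x hx
    simp only [Finset.mem_insert, Finset.mem_singleton] at hx
    rw [mem_Tf]
    rcases hx with rfl | rfl | rfl | rfl
    · exact one_pow 2
    · exact ha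
    · exact hb
    · exact hc
  · rw [h4, Finset.card_insert_of_notMem, Finset.card_insert_of_notMem, Finset.card_pair hbc]
    · simp [hab, hac]
    · simp [ha1.symm, hb1.symm, hc1.symm]

/-- the sign character with kernel `{1, t₀}` -/
def sgn (t₀ : E) (t : E) : ℤ := if t = 1 ∨ t = t₀ then 1 else -1

theorem sgn_tchar (h : Hyp E) (h4 : (Tf E).card = 4) {t₀ : E} (ht₀ : t₀ ^ 2 = 1)
    (ht₀1 : t₀ ≠ 1) : TChar E (sgn t₀) := by
  have hinv : t₀⁻¹ = t₀ := inv_eq_of_mul_eq_one_right (by rw [← pow_two]; exact ht₀)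
  have key1 : ∀ a b : E, (a = 1 ∨ a = t₀) → sgn t₀ (a * b) = sgn t₀ b := by
    intro a b ha
    have hiff : (a * b = 1 ∨ a * b = t₀) ↔ (b = 1 ∨ b = t₀) := by
      rcases ha with rfl | rfl
      · simp
      · constructor
        · rintro (h1 | h1)
          · right
            have : b = a⁻¹ := eq_inv_of_mul_eq_one_right h1
            rw [this, hinv]
          · left
            exact mul_left_cancel (h1.trans (mul_one _).symm)
        · rintro (rfl | rfl)
          · right; exact mul_one _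
          · left; rw [← pow_two]; exact ht₀
    unfold sgn
    simp only [hiff]
  refine ⟨by simp [sgn], ?_, ?_⟩
  · intro t _
    unfold sgn
    split_ifs
    · left; rfl
    · right; rfl
  · intro s t hs ht
    by_cases hs1 : s = 1 ∨ s = t₀
    · have e1 : sgn t₀ s = 1 := if_pos hs1
      rw [e1, one_mul]
      exact key1 s t hs1
    · have e1 : sgn t₀ s = -1 := if_neg hs1
      by_cases ht1 : t = 1 ∨ t = t₀
      · have e2 : sgn t₀ t = 1 := if_pos ht1
        have hcomm : s * t = t * s := h.hc s t hs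
        rw [hcomm, key1 t s ht1, e2, mul_one]
      · have e2 : sgn t₀ t = -1 := if_neg ht1
        push Not at hs1 ht1
        have hst0 : (s * t₀) ^ 2 = 1 := h.sq_mul hs ht₀
        have hT := Tf_eq h4 ht₀ hs hst0 ht₀1 hs1.1
          (by
            intro h1
            apply hs1.2
            have : s = t₀⁻¹ := eq_inv_of_mul_eq_one_left h1
            rw [this, hinv])
          (Ne.symm hs1.2)
          (by
            intro h1
            apply hs1.1
            exact mul_right_cancel (h1.symm.trans (one_mul _).symm))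
          (by
            intro h1
            apply ht₀1
            exact (mul_left_cancel (h1.symm.trans (mul_one _).symm)))
        have htT : t ∈ Tf E := (mem_Tf t).mpr ht
        rw [hT] at htT
        simp only [Finset.mem_insert, Finset.mem_singleton] at htT
        have hmem : s * t = 1 ∨ s * t = t₀ := by
          rcases htT with h1 | h1 | h1 | h1
          · exact absurd h1 ht1.1
          · exact absurd h1 ht1.2
          · left; rw [h1, ← pow_two]; exact hs
          · right; rw [h1, ← mul_assoc, ← pow_two, hs, one_mul]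
        have e3 : sgn t₀ (s * t) = 1 := if_pos hmem
        rw [e3, e1, e2]; norm_num

theorem sum_sgn (h4 : (Tf E).card = 4) {t₀ : E} (ht₀1 : t₀ ≠ 1) :
    ∑ x : E, sgn t₀ (x ^ 2) =
      8 + 2 * ((Finset.univ.filter (fun x : E => x ^ 2 = t₀)).card : ℤ) - Fintype.card E := by
  have h1 : ∀ x : E, sgn t₀ (x ^ 2) =
      2 * (if (x ^ 2 = 1 ∨ x ^ 2 = t₀) then (1 : ℤ) else 0) - 1 := by
    intro x; unfold sgn; split_ifs <;> norm_num
  have hdisj : Disjoint (Finset.univ.filter (fun x : E => x ^ 2 = 1))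
      (Finset.univ.filter (fun x : E => x ^ 2 = t₀)) := by
    rw [Finset.disjoint_filter]
    intro x _ hx1 hx2
    exact ht₀1 (hx2.symm.trans hx1)
  have h4' : (Finset.univ.filter (fun x : E => x ^ 2 = 1)).card = 4 := h4
  simp_rw [h1]
  rw [Finset.sum_sub_distrib, ← Finset.mul_sum, Finset.sum_boole, Finset.filter_or,
    Finset.card_union_of_disjoint hdisj, h4']
  simp only [Finset.sum_const, Finset.card_univ, nsmul_eq_mul, mul_one]
  push_cast
  ring

/-- the solutions of `x ^ 2 = 1` as a subgroup -/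
def Tsub {E : Type*} [Group E] (h : Hyp E) : Subgroup E where
  carrier := {x | x ^ 2 = 1}
  one_mem' := one_pow 2
  mul_mem' := fun hs ht => h.sq_mul hs ht
  inv_mem' := fun hs => h.sq_inv hs

omit [Fintype E] [DecidableEq E] in
theorem mem_Tsub (h : Hyp E) (x : E) : x ∈ Tsub h ↔ x ^ 2 = 1 := Iff.rfl

theorem card_Tsub (h : Hyp E) : Nat.card (Tsub h) = (Tf E).card :=
  Nat.subtype_card (Tf E) (fun x => by rw [mem_Tf]; exact Iff.rfl)

theorem adm_fin (h : Hyp E) (h4 : (Tf E).card = 4) {t₀ : E} (ht₀ : t₀ ^ 2 = 1) (ht₀1 : t₀ ≠ 1) :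
    (8 + 2 * ((Finset.univ.filter (fun x : E => x ^ 2 = t₀)).card : ℤ) - Fintype.card E) ^ 2 = 0 ∨
      ∃ R : ℕ, 4 ∣ R ∧ R ∣ Fintype.card E ∧
        (8 + 2 * ((Finset.univ.filter (fun x : E => x ^ 2 = t₀)).card : ℤ) - Fintype.card E) ^ 2
          = (Fintype.card E : ℤ) * R := by
  have hl := sgn_tchar h h4 ht₀ ht₀1
  rcases gauss h hl with h0 | ⟨R, hTR, hs⟩
  · left
    rw [← sum_sgn h4 ht₀1]; exact h0
  · right
    refine ⟨Nat.card R, ?_, ?_, ?_⟩
    · rw [← h4, ← card_Tsub h]
      apply Subgroup.card_dvd_of_le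
      intro t ht
      exact hTR t ht
    · rw [← Nat.card_eq_fintype_card]
      exact Subgroup.card_subgroup_dvd_card R
    · rw [← sum_sgn h4 ht₀1, hs, Nat.card_eq_fintype_card]

end counts

/-- number of square roots of `t` -/
noncomputable def nsq {E : Type*} [Group E] (t : E) : ℕ := Nat.card {x : E // x ^ 2 = t}

section wrappers
variable {E : Type*} [Group E] [Finite E]

theorem adm_of_hyp (h : Hyp E) (h4 : nsq (1 : E) = 4) {t₀ : E} (ht₀ : t₀ ^ 2 = 1)
    (ht₀1 : t₀ ≠ 1) :
    (8 + 2 * (nsq t₀ : ℤ) - Nat.card E) ^ 2 = 0 ∨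
      ∃ R : ℕ, 4 ∣ R ∧ R ∣ Nat.card E ∧
        (8 + 2 * (nsq t₀ : ℤ) - Nat.card E) ^ 2 = (Nat.card E : ℤ) * R := by
  classical
  haveI : Fintype E := Fintype.ofFinite E
  have e1 : ∀ t : E, nsq t = (Finset.univ.filter (fun x : E => x ^ 2 = t)).card := by
    intro t
    exact Nat.subtype_card _ (by simp)
  have h4' : (Tf E).card = 4 := by rw [← h4, e1]; rfl
  rw [e1 t₀, Nat.card_eq_fintype_card]
  exact adm_fin h h4' ht₀ ht₀1

theorem nsq_sum (h : Hyp E) (h4 : nsq (1 : E) = 4) {a b c : E} (ha : a ^ 2 = 1)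
    (hb : b ^ 2 = 1) (hc : c ^ 2 = 1) (ha1 : a ≠ 1) (hb1 : b ≠ 1) (hc1 : c ≠ 1) (hab : a ≠ b)
    (hac : a ≠ c) (hbc : b ≠ c) : nsq a + nsq b + nsq c + 4 = Nat.card E := by
  classical
  haveI : Fintype E := Fintype.ofFinite E
  have e1 : ∀ t : E, nsq t = (Finset.univ.filter (fun x : E => x ^ 2 = t)).card := by
    intro t
    exact Nat.subtype_card _ (by simp)
  have h4' : (Tf E).card = 4 := by rw [← h4, e1]; rfl
  have hT := Tf_eq h4' ha hb hc ha1 hb1 hc1 hab hac hbc
  have hmaps : ((Finset.univ : Finset E) : Set E).MapsTo (fun x => x ^ 2) (Tf E) := by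
    intro x _
    exact (mem_Tf _).mpr (h.sq_sq x)
  have hsum := Finset.card_eq_sum_card_fiberwise hmaps
  rw [hT, Finset.sum_insert (by simp [ha1.symm, hb1.symm, hc1.symm]),
    Finset.sum_insert (by simp [hab, hac]), Finset.sum_pair hbc] at hsum
  rw [Nat.card_eq_fintype_card, ← Finset.card_univ, hsum, ← e1, ← e1, ← e1, ← e1, h4]
  ring

/-- such a group is a `2`-group -/
theorem Hyp.isPGroup (h : Hyp E) : IsPGroup 2 E := fun g => ⟨2, by
  have := h.h4 g
  norm_num
  exact this⟩

end wrappers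

end Cfsg.Agent.Lib.Helper2.Ti3
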