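import Mathlib

/-! Arithmetic of the Gauss-sum constraints: the order is at most `64`, the fibre sizes lie in
explicit lists, and fixed-point congruences restrict the possible odd prime orders. -/
set_option autoImplicit false

namespace Cfsg.Agent.Lib.Helper2.Ti3

/-- the admissibility constraint for a fibre size `n` in a group of order `N` -/
def Adm (N n : ℕ) : Prop :=
  (8 + 2 * (n : ℤ) - N) ^ 2 = 0 ∨
    ∃ R : ℕ, 4 ∣ R ∧ R ∣ N ∧ (8 + 2 * (n : ℤ) - N) ^ 2 = (N : ℤ) * R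

theorem sq_eq_two_pow {s : ℤ} {k : ℕ} (h : s ^ 2 = 2 ^ k) :
    ∃ v, k = 2 * v ∧ (s = 2 ^ v ∨ s = -2 ^ v) := by
  have h1 : s.natAbs ^ 2 = 2 ^ k := by
    have := congrArg Int.natAbs h
    rw [Int.natAbs_pow, Int.natAbs_pow] at this
    exact this
  have hs0 : s.natAbs ≠ 0 := by
    intro h0
    rw [h0] at h1
    have : (2 : ℕ) ^ k ≠ 0 := pow_ne_zero _ (by norm_num)
    exact this (by rw [← h1]; norm_num)
  have h2 : k = 2 * padicValNat 2 s.natAbs := by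
    have := congrArg (padicValNat 2) h1
    rw [padicValNat.pow, padicValNat.prime_pow] at this
    exact this.symm
  refine ⟨padicValNat 2 s.natAbs, h2, ?_⟩
  have h3 : s.natAbs = 2 ^ padicValNat 2 s.natAbs := by
    have h4 : s.natAbs ^ 2 = (2 ^ padicValNat 2 s.natAbs) ^ 2 := by
      rw [h1, ← pow_mul, mul_comm]
      exact congrArg _ h2
    exact Nat.pow_left_injective two_ne_zero h4
  generalize padicValNat 2 s.natAbs = v at h3
  rcases Int.natAbs_eq s with e | e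
  · left
    rw [e, h3]
    push_cast
    rfl
  · right
    rw [e, h3]
    push_cast
    rfl

theorem adm_cases {m n : ℕ} (h : Adm (2 ^ m) n) :
    8 + 2 * (n : ℤ) - 2 ^ m = 0 ∨
      ∃ v, m + 2 ≤ 2 * v ∧ v ≤ m ∧
        (8 + 2 * (n : ℤ) - 2 ^ m = 2 ^ v ∨ 8 + 2 * (n : ℤ) - 2 ^ m = -2 ^ v) := by
  rcases h with h0 | ⟨R, h4R, hRN, hs⟩
  · left
    push_cast at h0
    exact pow_eq_zero_iff (by norm_num) |>.mp h0
  · right
    obtain ⟨ρ, hρ, rfl⟩ := (Nat.dvd_prime_pow Nat.prime_two).mp hRN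
    have hρ2 : 2 ≤ ρ := by
      have : (2 : ℕ) ^ 2 ∣ 2 ^ ρ := by norm_num; exact h4R
      exact (Nat.pow_dvd_pow_iff_le_right (by norm_num : 1 < 2)).mp this
    push_cast at hs
    rw [← pow_add] at hs
    obtain ⟨v, hv, hsv⟩ := sq_eq_two_pow hs
    exact ⟨v, by omega, by omega, hsv⟩

theorem m_le_six {m n₁ n₂ n₃ : ℕ} (h1 : Adm (2 ^ m) n₁) (h2 : Adm (2 ^ m) n₂)
    (h3 : Adm (2 ^ m) n₃) (hsum : n₁ + n₂ + n₃ + 4 = 2 ^ m) : m ≤ 6 := by
  by_contra hlt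
  push Not at hlt
  have hdiv : ∀ n, Adm (2 ^ m) n → (32 : ℤ) ∣ 8 + 2 * (n : ℤ) - 2 ^ m := by
    intro n hn
    rcases adm_cases hn with h0 | ⟨v, hv1, hv2, hv⟩
    · rw [h0]; exact dvd_zero _
    · have h5 : 5 ≤ v := by omega
      have h32 : (32 : ℤ) ∣ 2 ^ v := by
        have : (2 : ℤ) ^ 5 ∣ 2 ^ v := pow_dvd_pow 2 h5
        norm_num at this
        exact this
      rcases hv with e | e
      · rw [e]; exact h32
      · rw [e]; exact (dvd_neg).mpr h32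
  have d1 := hdiv _ h1
  have d2 := hdiv _ h2
  have d3 := hdiv _ h3
  have d4 : (32 : ℤ) ∣ 2 ^ m := by
    have : (2 : ℤ) ^ 5 ∣ 2 ^ m := pow_dvd_pow 2 (by omega)
    norm_num at this
    exact this
  have hs : (n₁ : ℤ) + n₂ + n₃ + 4 = 2 ^ m := by exact_mod_cast hsum
  have h16 : (32 : ℤ) ∣ 16 := by
    have e : (16 : ℤ) = (8 + 2 * (n₁ : ℤ) - 2 ^ m) + (8 + 2 * (n₂ : ℤ) - 2 ^ m) +
        (8 + 2 * (n₃ : ℤ) - 2 ^ m) + 2 ^ m := by linarith
    rw [e]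
    exact dvd_add (dvd_add (dvd_add d1 d2) d3) d4
  norm_num at h16

/-- the lists of possible fibre sizes -/
def Lst (m n : ℕ) : Prop :=
  (m = 2 ∧ n = 0) ∨ (m = 3 ∧ (n = 0 ∨ n = 4)) ∨ (m = 4 ∧ (n = 0 ∨ n = 4 ∨ n = 8 ∨ n = 12)) ∨
  (m = 5 ∧ (n = 4 ∨ n = 12 ∨ n = 20 ∨ n = 28)) ∨
  (m = 6 ∧ (n = 12 ∨ n = 20 ∨ n = 28 ∨ n = 36 ∨ n = 44 ∨ n = 60))

theorem lst_of_adm {m n : ℕ} (hm2 : 2 ≤ m) (hm6 : m ≤ 6) (hn : n + 4 ≤ 2 ^ m)
    (h : Adm (2 ^ m) n) : Lst m n := by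
  unfold Lst
  rcases adm_cases h with h0 | ⟨v, hv1, hv2, hv⟩
  · interval_cases m <;> norm_num at h0 hn <;> omega
  · interval_cases m
    · have : v = 2 := by omega
      subst this
      norm_num at hv hn; omega
    · have : v = 3 := by omega
      subst this
      norm_num at hv hn; omega
    · have : 3 ≤ v := by omega
      interval_cases v <;> norm_num at hv hn <;> omega
    · have : 4 ≤ v := by omega
      interval_cases v <;> norm_num at hv hn <;> omega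
    · have : 4 ≤ v := by omega
      interval_cases v <;> norm_num at hv hn <;> omega

theorem prime_dvd_two_pow_sub_one {r k : ℕ} (hr : r.Prime) (hk1 : 1 ≤ k) (hk4 : k ≤ 4)
    (h : r ∣ 2 ^ k - 1) :
    (r = 3 ∧ (k = 2 ∨ k = 4)) ∨ (r = 5 ∧ k = 4) ∨ (r = 7 ∧ k = 3) := by
  interval_cases k
  · norm_num at h
    exact absurd h hr.ne_one
  · norm_num at h
    have := (Nat.prime_dvd_prime_iff_eq hr Nat.prime_three).mp h
    left; exact ⟨this, Or.inl rfl⟩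
  · norm_num at h
    have := (Nat.prime_dvd_prime_iff_eq hr (by norm_num : Nat.Prime 7)).mp h
    right; right; exact ⟨this, rfl⟩
  · norm_num at h
    have h15 : r ∣ 3 * 5 := h
    rcases (Nat.Prime.dvd_mul hr).mp h15 with h3 | h5
    · left
      exact ⟨(Nat.prime_dvd_prime_iff_eq hr Nat.prime_three).mp h3, Or.inr rfl⟩
    · right; left
      exact ⟨(Nat.prime_dvd_prime_iff_eq hr Nat.prime_five).mp h5, rfl⟩

theorem final_arith {m c r a₁ a₂ a₃ b₁ b₂ b₃ : ℕ} (hr : r.Prime) (hr2 : r ≠ 2) (hc2 : 2 ≤ c)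
    (hcm : c < m) (hm6 : m ≤ 6) (hmod : 2 ^ m ≡ 2 ^ c [MOD r])
    (ha₁ : Lst m a₁) (ha₂ : Lst m a₂) (ha₃ : Lst m a₃)
    (hb₁ : Lst c b₁) (hb₂ : Lst c b₂) (hb₃ : Lst c b₃)
    (hsa : a₁ + a₂ + a₃ + 4 = 2 ^ m) (hsb : b₁ + b₂ + b₃ + 4 = 2 ^ c)
    (h1 : a₁ ≡ b₁ [MOD r]) (h2 : a₂ ≡ b₂ [MOD r]) (h3 : a₃ ≡ b₃ [MOD r]) :
    (r = 3 ∧ ¬(m = 6 ∧ a₁ = 20 ∧ a₂ = 20 ∧ a₃ = 20)) ∨
      (r = 5 ∧ m = 6 ∧ a₁ = 20 ∧ a₂ = 20 ∧ a₃ = 20) := by
  have hdvd : r ∣ 2 ^ m - 2 ^ c :=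
    (Nat.modEq_iff_dvd' (Nat.pow_le_pow_right (by norm_num) hcm.le)).mp hmod.symm
  have hfac : 2 ^ m - 2 ^ c = 2 ^ c * (2 ^ (m - c) - 1) := by
    have : 2 ^ m = 2 ^ c * 2 ^ (m - c) := by
      rw [← pow_add]; congr 1; omega
    rw [this, Nat.mul_sub, mul_one]
  rw [hfac] at hdvd
  have hcop : Nat.Coprime r (2 ^ c) :=
    Nat.Coprime.pow_right c ((Nat.coprime_primes hr Nat.prime_two).mpr hr2)
  have hdvd2 : r ∣ 2 ^ (m - c) - 1 := hcop.dvd_of_dvd_mul_left hdvd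
  unfold Nat.ModEq at h1 h2 h3
  rcases prime_dvd_two_pow_sub_one hr (by omega) (by omega) hdvd2 with
    ⟨rfl, hk⟩ | ⟨rfl, hk⟩ | ⟨rfl, hk⟩
  · -- r = 3
    left
    refine ⟨rfl, ?_⟩
    rintro ⟨rfl, rfl, rfl, rfl⟩
    have hc : c = 2 ∨ c = 4 := by omega
    rcases hc with rfl | rfl
    · unfold Lst at hb₁; omega
    · have e1 : b₁ = 8 := by unfold Lst at hb₁; omega
      have e2 : b₂ = 8 := by unfold Lst at hb₂; omega
      have e3 : b₃ = 8 := by unfold Lst at hb₃; omega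
      subst e1 e2 e3
      norm_num at hsb
  · -- r = 5
    right
    have hm : m = 6 := by omega
    have hc : c = 2 := by omega
    subst hm hc
    have e1 : b₁ = 0 := by unfold Lst at hb₁; omega
    have e2 : b₂ = 0 := by unfold Lst at hb₂; omega
    have e3 : b₃ = 0 := by unfold Lst at hb₃; omega
    subst e1 e2 e3
    have f1 : a₁ = 20 ∨ a₁ = 60 := by unfold Lst at ha₁; omega
    have f2 : a₂ = 20 ∨ a₂ = 60 := by unfold Lst at ha₂; omega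
    have f3 : a₃ = 20 ∨ a₃ = 60 := by unfold Lst at ha₃; omega
    norm_num at hsa
    refine ⟨rfl, rfl, ?_, ?_, ?_⟩ <;> omega
  · -- r = 7
    exfalso
    have hc : (c = 2 ∧ m = 5) ∨ (c = 3 ∧ m = 6) := by omega
    rcases hc with ⟨rfl, rfl⟩ | ⟨rfl, rfl⟩
    · have e1 : b₁ = 0 := by unfold Lst at hb₁; omega
      have e2 : b₂ = 0 := by unfold Lst at hb₂; omega
      have e3 : b₃ = 0 := by unfold Lst at hb₃; omega
      subst e1 e2 e3
      have f1 : a₁ = 28 := by unfold Lst at ha₁; omega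
      have f2 : a₂ = 28 := by unfold Lst at ha₂; omega
      have f3 : a₃ = 28 := by unfold Lst at ha₃; omega
      subst f1 f2 f3
      norm_num at hsa
    · have f1 : (b₁ = 0 ∧ a₁ = 28) ∨ (b₁ = 4 ∧ a₁ = 60) := by
        unfold Lst at ha₁ hb₁; omega
      have f2 : (b₂ = 0 ∧ a₂ = 28) ∨ (b₂ = 4 ∧ a₂ = 60) := by
        unfold Lst at ha₂ hb₂; omega
      have f3 : (b₃ = 0 ∧ a₃ = 28) ∨ (b₃ = 4 ∧ a₃ = 60) := by
        unfold Lst at ha₃ hb₃; omega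
      norm_num at hsa hsb
      omega

/-- a positive number all of whose prime factors are `2` or `q` is of the form `2 ^ a * q ^ b` -/
theorem eq_two_pow_mul_pow {N q : ℕ} (hN : N ≠ 0)
    (h : ∀ r : ℕ, r.Prime → r ∣ N → r = 2 ∨ r = q) : ∃ a b, N = 2 ^ a * q ^ b := by
  obtain ⟨a, m', hodd, rfl⟩ := Nat.exists_eq_two_pow_mul_odd hN
  have hm0 : m' ≠ 0 := by
    rintro rfl
    simp at hN
  have hall : ∀ {d : ℕ}, d.Prime → d ∣ m' → d = q := by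
    intro d hd hdm
    rcases h d hd (Dvd.dvd.mul_left hdm _) with e | e
    · subst e
      exact absurd (even_iff_two_dvd.mpr hdm) (Nat.not_even_iff_odd.mpr hodd)
    · exact e
  exact ⟨a, _, by rw [← Nat.eq_prime_pow_of_unique_prime_dvd hm0 hall]⟩

end Cfsg.Agent.Lib.Helper2.Ti3
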