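import Mathlib
import Cfsg.Agent.Lib.Helper2.Ti3B
import Cfsg.Agent.Lib.Helper2.Ti3C
import Cfsg.Agent.S0144

/-! Automorphisms of odd prime order fixing the involutions of a small group of exponent four:
fixed-point congruences and the solvability of the pointwise stabilizer. -/
set_option autoImplicit false

namespace Cfsg.Agent.Lib.Helper2.Ti3

/-- fixed points of a permutation of prime order `r` on an invariant subset, modulo `r` -/
theorem card_fixed_modEq {α : Type*} [Finite α] (f : Equiv.Perm α) {r : ℕ} [hr : Fact r.Prime]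
    (hf : f ^ r = 1) (P : α → Prop) (hP : ∀ x, P (f x) ↔ P x) :
    Nat.card {x // P x} ≡ Nat.card {x // P x ∧ f x = x} [MOD r] := by
  classical
  haveI : Fintype α := Fintype.ofFinite α
  set σ : Equiv.Perm {x // P x} := f.subtypePerm hP with hσ
  have hσr : σ ^ r ^ 1 = 1 := by
    rw [pow_one, hσ, Equiv.Perm.subtypePerm_pow]
    ext x
    simp [hf]
  have h1 := Equiv.Perm.card_compl_support_modEq hσr
  have h2 : Nat.card {x // P x ∧ f x = x} = σ.supportᶜ.card := by
    rw [← Nat.subtype_card (p := fun y : {x // P x} => σ y = y) σ.supportᶜ (by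
      intro y; simp [Equiv.Perm.mem_support])]
    apply Nat.card_congr
    exact
      { toFun := fun x => ⟨⟨x.1, x.2.1⟩, Subtype.ext x.2.2⟩
        invFun := fun y => ⟨y.1.1, ⟨y.1.2, congrArg Subtype.val y.2⟩⟩
        left_inv := fun x => rfl
        right_inv := fun y => rfl }
  rw [h2, Nat.card_eq_fintype_card]
  exact h1.symm

section sub
variable {E : Type*} [Group E]

theorem nsq_subgroup (C : Subgroup E) {t : E} (ht : t ∈ C) :
    nsq (⟨t, ht⟩ : C) = Nat.card {x : E // x ^ 2 = t ∧ x ∈ C} := by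
  unfold nsq
  apply Nat.card_congr
  exact
    { toFun := fun y => ⟨y.1.1, ⟨by have := congrArg Subtype.val y.2; simpa using this, y.1.2⟩⟩
      invFun := fun x => ⟨⟨x.1, x.2.2⟩, Subtype.ext (by simpa using x.2.1)⟩
      left_inv := fun y => rfl
      right_inv := fun x => rfl }

theorem Hyp.subgroup (h : Hyp E) (C : Subgroup E) : Hyp C where
  h4 := fun x => Subtype.ext (by simpa using h.h4 x.1)
  hc := fun x y hx => Subtype.ext (by
    have hx' : (x : E) ^ 2 = 1 := by
      have := congrArg Subtype.val hx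
      simpa using this
    simpa using h.hc x.1 y.1 hx')

/-- the fixed points of an automorphism -/
def fixSub (a : MulAut E) : Subgroup E where
  carrier := {x | a x = x}
  one_mem' := map_one a
  mul_mem' := by
    intro x y hx hy
    have hx' : a x = x := hx
    have hy' : a y = y := hy
    show a (x * y) = x * y
    rw [map_mul, hx', hy']
  inv_mem' := by
    intro x hx
    have hx' : a x = x := hx
    show a x⁻¹ = x⁻¹
    rw [map_inv, hx']

theorem mem_fixSub (a : MulAut E) (x : E) : x ∈ fixSub a ↔ a x = x := Iff.rfl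

/-- three distinct involutions -/
structure Three (a b c : E) : Prop where
  ha : a ^ 2 = 1
  hb : b ^ 2 = 1
  hc : c ^ 2 = 1
  ha1 : a ≠ 1
  hb1 : b ≠ 1
  hc1 : c ≠ 1
  hab : a ≠ b
  hac : a ≠ c
  hbc : b ≠ c

theorem exists_three [Finite E] (h4 : nsq (1 : E) = 4) : ∃ a b c : E, Three a b c := by
  classical
  haveI : Fintype E := Fintype.ofFinite E
  have e1 : nsq (1 : E) = (Tf E).card := Nat.subtype_card _ (fun x => mem_Tf x)
  have h4' : (Tf E).card = 4 := by rw [← e1, h4]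
  have h1 : (1 : E) ∈ Tf E := (mem_Tf 1).mpr (one_pow 2)
  have h3 : ((Tf E).erase 1).card = 3 := by rw [Finset.card_erase_of_mem h1, h4']
  obtain ⟨a, b, c, hab, hac, hbc, hs⟩ := Finset.card_eq_three.mp h3
  have hmem : ∀ x, x ∈ ({a, b, c} : Finset E) → x ^ 2 = 1 ∧ x ≠ 1 := by
    intro x hx
    rw [← hs, Finset.mem_erase] at hx
    exact ⟨(mem_Tf x).mp hx.2, hx.1⟩
  have ha := hmem a (by simp)
  have hb := hmem b (by simp)
  have hc := hmem c (by simp)
  exact ⟨a, b, c, ⟨ha.1, hb.1, hc.1, ha.2, hb.2, hc.2, hab, hac, hbc⟩⟩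

theorem profile [Finite E] (h : Hyp E) (h4 : nsq (1 : E) = 4) {a b c : E} (h3 : Three a b c) :
    ∃ m, Nat.card E = 2 ^ m ∧ 2 ≤ m ∧ m ≤ 6 ∧ Lst m (nsq a) ∧ Lst m (nsq b) ∧ Lst m (nsq c) ∧
      nsq a + nsq b + nsq c + 4 = 2 ^ m := by
  obtain ⟨m, hm⟩ := IsPGroup.iff_card.mp h.isPGroup
  have hsum := nsq_sum h h4 h3.ha h3.hb h3.hc h3.ha1 h3.hb1 h3.hc1 h3.hab h3.hac h3.hbc
  rw [hm] at hsum
  have adm : ∀ t : E, t ^ 2 = 1 → t ≠ 1 → Adm (2 ^ m) (nsq t) := by
    intro t ht ht1
    have := adm_of_hyp h h4 ht ht1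
    rw [hm] at this
    exact this
  have A1 := adm a h3.ha h3.ha1
  have A2 := adm b h3.hb h3.hb1
  have A3 := adm c h3.hc h3.hc1
  have hm6 : m ≤ 6 := m_le_six A1 A2 A3 hsum
  have hm2 : 2 ≤ m := by
    by_contra hlt
    push Not at hlt
    have : 2 ^ m ≤ 2 ^ 1 := Nat.pow_le_pow_right (by norm_num) (by omega)
    omega
  exact ⟨m, hm, hm2, hm6, lst_of_adm hm2 hm6 (by omega) A1, lst_of_adm hm2 hm6 (by omega) A2,
    lst_of_adm hm2 hm6 (by omega) A3, hsum⟩

theorem prime_order_cases [Finite E] (h : Hyp E) (h4 : nsq (1 : E) = 4) {t₁ t₂ t₃ : E}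
    (h3 : Three t₁ t₂ t₃) (a : MulAut E) (hfix : ∀ t : E, t ^ 2 = 1 → a t = t) {r : ℕ}
    (hr : r.Prime) (hr2 : r ≠ 2) (ha : orderOf a = r) :
    (r = 3 ∧ ¬(Nat.card E = 64 ∧ nsq t₁ = 20 ∧ nsq t₂ = 20 ∧ nsq t₃ = 20)) ∨
      (r = 5 ∧ Nat.card E = 64 ∧ nsq t₁ = 20 ∧ nsq t₂ = 20 ∧ nsq t₃ = 20) := by
  haveI : Fact r.Prime := ⟨hr⟩
  set C := fixSub a with hC
  have hTC : ∀ t : E, t ^ 2 = 1 → t ∈ C := fun t ht => hfix t ht
  have hCh : Hyp C := h.subgroup C
  have hC4 : nsq (1 : C) = 4 := by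
    have := nsq_subgroup C (one_mem C)
    rw [show (1 : C) = ⟨1, one_mem C⟩ from rfl, this, ← h4]
    unfold nsq
    exact Nat.card_congr
      (Equiv.subtypeEquivRight (fun x => ⟨fun hx => hx.1, fun hx => ⟨hx, hTC x hx⟩⟩))
  have h3C : Three (⟨t₁, hTC t₁ h3.ha⟩ : C) ⟨t₂, hTC t₂ h3.hb⟩ ⟨t₃, hTC t₃ h3.hc⟩ := by
    refine ⟨Subtype.ext (by simpa using h3.ha), Subtype.ext (by simpa using h3.hb),
      Subtype.ext (by simpa using h3.hc), fun e => h3.ha1 (congrArg Subtype.val e),
      fun e => h3.hb1 (congrArg Subtype.val e), fun e => h3.hc1 (congrArg Subtype.val e),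
      fun e => h3.hab (congrArg Subtype.val e), fun e => h3.hac (congrArg Subtype.val e),
      fun e => h3.hbc (congrArg Subtype.val e)⟩
  obtain ⟨m, hm, hm2, hm6, A1, A2, A3, hsa⟩ := profile h h4 h3
  obtain ⟨c, hc, hc2, hc6, B1, B2, B3, hsb⟩ := profile hCh hC4 h3C
  set f : Equiv.Perm E := MulAut.toPerm E a with hf
  have hfr : f ^ r = 1 := by rw [hf, ← map_pow, ← ha, pow_orderOf_eq_one, map_one]
  have key : ∀ (t : E) (ht : t ∈ C), nsq t ≡ nsq (⟨t, ht⟩ : C) [MOD r] := by
    intro t ht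
    rw [nsq_subgroup C ht]
    have hat : a t = t := ht
    exact card_fixed_modEq f hfr (fun x => x ^ 2 = t) (by
      intro x
      show (a x) ^ 2 = t ↔ x ^ 2 = t
      rw [← map_pow]
      constructor
      · intro hx; apply a.injective; rw [hx, hat]
      · intro hx; rw [hx, hat])
  have hcard : Nat.card E ≡ Nat.card C [MOD r] := by
    have := card_fixed_modEq f hfr (fun _ => True) (fun _ => Iff.rfl)
    have e1 : Nat.card {x : E // True} = Nat.card E :=
      Nat.card_congr (Equiv.subtypeUnivEquiv (fun _ => trivial))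
    have e2 : Nat.card {x : E // True ∧ f x = x} = Nat.card C :=
      Nat.card_congr (Equiv.subtypeEquivRight (fun x => ⟨fun hx => hx.2, fun hx => ⟨trivial, hx⟩⟩))
    rw [e1, e2] at this
    exact this
  have hne : a ≠ 1 := by
    intro h1
    rw [h1, orderOf_one] at ha
    exact hr.ne_one ha.symm
  have hCtop : C ≠ ⊤ := by
    intro htop
    apply hne
    ext x
    have : x ∈ C := htop ▸ Subgroup.mem_top x
    exact this
  have hcm : c < m := by
    have hdvd : 2 ^ c ∣ 2 ^ m := by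
      rw [← hc, ← hm]; exact Subgroup.card_subgroup_dvd_card C
    have hle := (Nat.pow_dvd_pow_iff_le_right (by norm_num : 1 < 2)).mp hdvd
    rcases hle.lt_or_eq with h | h
    · exact h
    · exfalso
      apply hCtop
      apply Subgroup.eq_top_of_card_eq
      rw [hc, hm, h]
  rw [hm, hc] at hcard
  have hfin := final_arith hr hr2 hc2 hcm hm6 hcard A1 A2 A3 B1 B2 B3 hsa hsb
    (key t₁ _) (key t₂ _) (key t₃ _)
  have h64 : m = 6 ↔ Nat.card E = 64 := by
    rw [hm]
    constructor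
    · rintro rfl; norm_num
    · intro h
      exact Nat.pow_right_injective (le_refl 2) (by show 2 ^ m = 2 ^ 6; rw [h])
  rw [h64] at hfin
  exact hfin

theorem solvable_fixT [Finite E] (h : Hyp E) (h4 : nsq (1 : E) = 4) (K : Subgroup (MulAut E))
    (hK : ∀ a ∈ K, ∀ t : E, t ^ 2 = 1 → a t = t) : Group.IsSolvable K := by
  obtain ⟨t₁, t₂, t₃, h3⟩ := exists_three h4
  by_cases hsp : Nat.card E = 64 ∧ nsq t₁ = 20 ∧ nsq t₂ = 20 ∧ nsq t₃ = 20
  · have hprimes : ∀ r : ℕ, r.Prime → r ∣ Nat.card K → r = 2 ∨ r = 5 := by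
      intro r hr hdvd
      by_cases hr2 : r = 2
      · left; exact hr2
      · right
        haveI : Fact r.Prime := ⟨hr⟩
        obtain ⟨k, hk⟩ := exists_prime_orderOf_dvd_card' r hdvd
        have hk' : orderOf (k : MulAut E) = r := by rw [Subgroup.orderOf_coe]; exact hk
        rcases prime_order_cases h h4 h3 k (hK k k.2) hr hr2 hk' with ⟨_, hns⟩ | ⟨h5, _⟩
        · exact absurd hsp hns
        · exact h5
    obtain ⟨a, b, hab⟩ := eq_two_pow_mul_pow (Nat.card_pos.ne') hprimes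
    exact Cfsg.Agent.S0144.result 2 5 a b Nat.prime_two Nat.prime_five hab
  · have hprimes : ∀ r : ℕ, r.Prime → r ∣ Nat.card K → r = 2 ∨ r = 3 := by
      intro r hr hdvd
      by_cases hr2 : r = 2
      · left; exact hr2
      · right
        haveI : Fact r.Prime := ⟨hr⟩
        obtain ⟨k, hk⟩ := exists_prime_orderOf_dvd_card' r hdvd
        have hk' : orderOf (k : MulAut E) = r := by rw [Subgroup.orderOf_coe]; exact hk
        rcases prime_order_cases h h4 h3 k (hK k k.2) hr hr2 hk' with ⟨h3', _⟩ | ⟨_, hs⟩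
        · exact h3'
        · exact absurd hs hsp
    obtain ⟨a, b, hab⟩ := eq_two_pow_mul_pow (Nat.card_pos.ne') hprimes
    exact Cfsg.Agent.S0144.result 2 3 a b Nat.prime_two Nat.prime_three hab

end sub

end Cfsg.Agent.Lib.Helper2.Ti3
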