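import Mathlib
import Cfsg.Agent.S0253
import Cfsg.Agent.S2119
import Cfsg.Agent.Lib.Helper5.SL2Perfect
import Cfsg.Agent.Lib.Helper4.SLCenter

/-! The automorphism group of `SL(2,5)` has order dividing `120`; consequently a normal subgroup
`L ≅ SL(2,5)` of a finite group `H` satisfies `|H : L C_H(L)| ∣ 2`. -/
set_option autoImplicit false

namespace Cfsg.Agent.Lib.Helper2.Zr

section quot
variable {G : Type*} [Group G]

/-- the automorphism induced on the central quotient -/
noncomputable def quotAut (a : MulAut G) : MulAut (G ⧸ Subgroup.center G) :=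
  QuotientGroup.congr (Subgroup.center G) (Subgroup.center G) a
    (Subgroup.characteristic_iff_map_eq.mp inferInstance a)

theorem quotAut_mk (a : MulAut G) (x : G) :
    quotAut a (QuotientGroup.mk x) = QuotientGroup.mk (a x) :=
  QuotientGroup.congr_mk _ _ _ _ x

/-- `MulAut G →* MulAut (G ⧸ Z(G))` -/
noncomputable def quotAutHom : MulAut G →* MulAut (G ⧸ Subgroup.center G) :=
  MonoidHom.mk' quotAut (by
    intro a b
    ext x
    induction x using QuotientGroup.induction_on with
    | H x => rw [MulAut.mul_apply, quotAut_mk, quotAut_mk, quotAut_mk, MulAut.mul_apply])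

theorem quotAutHom_apply (a : MulAut G) : quotAutHom a = quotAut a := rfl

theorem mem_center_of_quotAut_eq_one (a : MulAut G) (ha : quotAut a = 1) (x : G) :
    x⁻¹ * a x ∈ Subgroup.center G := by
  have h1 : quotAut a (QuotientGroup.mk x : G ⧸ Subgroup.center G) = QuotientGroup.mk x := by
    rw [ha, MulAut.one_apply]
  rw [quotAut_mk] at h1
  exact QuotientGroup.eq.mp h1.symm

/-- the homomorphism `x ↦ x⁻¹ a(x)` into the centre -/
def cenHom (a : MulAut G) (hz : ∀ x : G, x⁻¹ * a x ∈ Subgroup.center G) :
    G →* Subgroup.center G where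
  toFun := fun x => ⟨x⁻¹ * a x, hz x⟩
  map_one' := by
    apply Subtype.ext
    simp
  map_mul' := by
    intro x y
    apply Subtype.ext
    have hc := Subgroup.mem_center_iff.mp (hz x) y⁻¹
    show (x * y)⁻¹ * a (x * y) = x⁻¹ * a x * (y⁻¹ * a y)
    rw [map_mul]
    calc (x * y)⁻¹ * (a x * a y) = y⁻¹ * (x⁻¹ * a x) * a y := by group
      _ = (x⁻¹ * a x) * y⁻¹ * a y := by rw [hc]
      _ = x⁻¹ * a x * (y⁻¹ * a y) := by group

/-- for a perfect group, an automorphism trivial modulo the centre is trivial -/
theorem quotAutHom_injective (hperf : commutator G = ⊤) :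
    Function.Injective (quotAutHom (G := G)) := by
  rw [injective_iff_map_eq_one]
  intro a ha
  have ha' : quotAut a = 1 := by
    rw [← quotAutHom_apply]; exact ha
  have hz : ∀ x : G, x⁻¹ * a x ∈ Subgroup.center G :=
    mem_center_of_quotAut_eq_one a ha'
  have hker : commutator G ≤ (cenHom a hz).ker := by
    rw [commutator_def, Subgroup.commutator_le]
    intro p _ q _
    rw [MonoidHom.mem_ker, map_commutatorElement]
    apply commutatorElement_eq_one_iff_mul_comm.mpr
    apply Subtype.ext
    rw [Subgroup.coe_mul, Subgroup.coe_mul]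
    exact ((Subgroup.mem_center_iff.mp (cenHom a hz q).2) (cenHom a hz p).1)
  apply MulEquiv.ext
  intro x
  have hxc : x ∈ commutator G := by rw [hperf]; exact Subgroup.mem_top x
  have hx : x ∈ (cenHom a hz).ker := hker hxc
  have h2 : cenHom a hz x = 1 := MonoidHom.mem_ker.mp hx
  have h3 : x⁻¹ * a x = 1 := by
    have := congrArg Subtype.val h2
    exact this
  rw [MulAut.one_apply]
  exact (inv_mul_eq_one.mp h3).symm

end quot

instance fact5 : Fact (Nat.Prime 5) := ⟨by norm_num⟩

/-- `SL(2,5)` is perfect -/
theorem sl25_perfect : commutator (Matrix.SpecialLinearGroup (Fin 2) (ZMod 5)) = ⊤ := by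
  apply Cfsg.Agent.Lib.Helper5.SL2Perfect.commutator_eq_top
  exact ⟨2, by decide, by decide⟩

/-- `|Aut(A5)| = 120` -/
theorem card_aut_A5 : Nat.card (MulAut (alternatingGroup (Fin 5))) = 120 := by
  have hb := Cfsg.Agent.S2119.result 5 (by norm_num) (by norm_num)
  rw [← Nat.card_congr (Equiv.ofBijective _ hb), Nat.card_perm]
  simp [Nat.factorial]

/-- `|Aut(SL(2,5))|` divides `120` -/
theorem card_aut_sl25_dvd :
    Nat.card (MulAut (Matrix.SpecialLinearGroup (Fin 2) (ZMod 5))) ∣ 120 := by
  obtain ⟨e⟩ := Cfsg.Agent.S0253.result (F := ZMod 5) (by rw [ZMod.card])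
  have hinj : Function.Injective
      ((MulAut.congr e).toMonoidHom.comp
        (quotAutHom (G := Matrix.SpecialLinearGroup (Fin 2) (ZMod 5)))) := by
    intro a b hab
    apply quotAutHom_injective sl25_perfect
    exact (MulAut.congr e).injective hab
  have := Subgroup.card_dvd_of_injective _ hinj
  rw [card_aut_A5] at this
  exact this

section main
variable {H : Type*} [Group H] [Finite H]

theorem index_centralizer_dvd (L : Subgroup H) [hL : L.Normal]
    (e : L ≃* Matrix.SpecialLinearGroup (Fin 2) (ZMod 5)) :
    (Subgroup.centralizer (L : Set H)).index ∣ 120 := by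
  have hker : (MulAut.conjNormal : H →* MulAut L).ker = Subgroup.centralizer (L : Set H) := by
    ext g
    rw [MonoidHom.mem_ker, Subgroup.mem_centralizer_iff]
    constructor
    · intro hg l hl
      have h1 := DFunLike.congr_fun hg (⟨l, hl⟩ : L)
      have h2 := congrArg Subtype.val h1
      rw [MulAut.conjNormal_apply, MulAut.one_apply] at h2
      have h3 : g * l * g⁻¹ = l := h2
      calc l * g = g * l * g⁻¹ * g := by rw [h3]
        _ = g * l := by group
    · intro hg
      ext l
      rw [MulAut.conjNormal_apply, MulAut.one_apply]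
      have h1 := hg l.1 l.2
      calc g * l.1 * g⁻¹ = l.1 * g * g⁻¹ := by rw [← h1]
        _ = l.1 := by group
  rw [← hker, Subgroup.index_ker]
  have h1 : Nat.card (MulAut.conjNormal : H →* MulAut L).range ∣ Nat.card (MulAut L) :=
    Subgroup.card_subgroup_dvd_card _
  have h2 : Nat.card (MulAut L) =
      Nat.card (MulAut (Matrix.SpecialLinearGroup (Fin 2) (ZMod 5))) :=
    Nat.card_congr (MulAut.congr e).toEquiv
  rw [h2] at h1
  exact h1.trans card_aut_sl25_dvd

theorem index_sup_centralizer_dvd (L : Subgroup H) [hL : L.Normal]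
    (e : L ≃* Matrix.SpecialLinearGroup (Fin 2) (ZMod 5)) :
    (L ⊔ Subgroup.centralizer (L : Set H)).index ∣ 2 := by
  have h120 := index_centralizer_dvd L e
  haveI : (Subgroup.centralizer (L : Set H)).Normal := Subgroup.normal_centralizer
  have h1 : (Subgroup.centralizer (L : Set H)).relIndex (L ⊔ Subgroup.centralizer (L : Set H)) *
      (L ⊔ Subgroup.centralizer (L : Set H)).index = (Subgroup.centralizer (L : Set H)).index :=
    Subgroup.relIndex_mul_index le_sup_right
  rw [Subgroup.relIndex_sup_right] at h1
  -- the relative index is `60`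
  have h2 : (Subgroup.centralizer (L : Set H)).subgroupOf L = Subgroup.center L := by
    ext x
    rw [Subgroup.mem_subgroupOf, Subgroup.mem_centralizer_iff, Subgroup.mem_center_iff]
    constructor
    · intro h y
      exact Subtype.ext (h y.1 y.2)
    · intro h y hy
      exact congrArg Subtype.val (h ⟨y, hy⟩)
  have h3 : (Subgroup.centralizer (L : Set H)).relIndex L = 60 := by
    show ((Subgroup.centralizer (L : Set H)).subgroupOf L).index = 60
    rw [h2]
    have hc : Nat.card (Subgroup.center L) = 2 := by
      rw [Nat.card_congr (Subgroup.centerCongr e).toEquiv,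
        Cfsg.Agent.Lib.Helper4.card_center_SL 2 (by norm_num), ZMod.card]
      norm_num
    have hL120 : Nat.card L = 120 := by
      rw [Nat.card_congr e.toEquiv]
      have := Cfsg.Agent.Lib.Helper4.card_PSL_mul (F := ZMod 5) 2 (by norm_num)
      rw [ZMod.card] at this
      obtain ⟨e5⟩ := Cfsg.Agent.S0253.result (F := ZMod 5) (by rw [ZMod.card])
      rw [Nat.card_congr e5.toEquiv, Nat.card_eq_fintype_card, card_alternatingGroup,
        Fintype.card_fin] at this
      have h24 : Nat.gcd 2 (5 - 1) = 2 := by decide
      have h5 : Nat.factorial 5 = 120 := by decide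
      rw [h24, h5] at this
      omega
    have := Subgroup.card_mul_index (Subgroup.center L)
    rw [hc, hL120] at this
    omega
  rw [h3] at h1
  have : 60 * (L ⊔ Subgroup.centralizer (L : Set H)).index ∣ 60 * 2 := by
    rw [h1]; exact h120
  exact (Nat.mul_dvd_mul_iff_left (by norm_num)).mp this

end main

end Cfsg.Agent.Lib.Helper2.Zr
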