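import Mathlib
import Cfsg.Agent.S0144
import Cfsg.Agent.Lib.Helper2.Ti3D
import Cfsg.Agent.Lib.Helper2.V4R
import Cfsg.Agent.Lib.Helper2.ZrAut

/-! Group-theoretic lemmas for the insoluble sharply doubly transitive groups:
solvability through `Aut`, `Aut(Q8)` is solvable, internal direct products, and the numerology of a
normal `SL(2,5)`. -/
set_option autoImplicit false

namespace Cfsg.Agent.Lib.Helper2.Zr

open Cfsg.Agent.Lib.Helper2.Ti3

section general
variable {H : Type*} [Group H]

theorem ker_conjNormal (L : Subgroup H) [L.Normal] :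
    (MulAut.conjNormal : H →* MulAut L).ker = Subgroup.centralizer (L : Set H) := by
  ext g
  rw [MonoidHom.mem_ker, Subgroup.mem_centralizer_iff]
  constructor
  · intro hg l hl
    have h1 := DFunLike.congr_fun hg (⟨l, hl⟩ : L)
    have h2 := congrArg Subtype.val h1
    rw [MulAut.conjNormal_apply, MulAut.one_apply] at h2
    have h3 : g * l * g⁻¹ = l := h2
    calc l * g = g * l * g⁻¹ * g := by rw [h3]
      _ = g * l := by group
  · intro hg
    ext l
    rw [MulAut.conjNormal_apply, MulAut.one_apply]
    have h1 := hg l.1 l.2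
    calc g * l.1 * g⁻¹ = l.1 * g * g⁻¹ := by rw [← h1]
      _ = l.1 := by group

/-- if `Aut L` is solvable and `C_H(L)` is abelian then `H` is solvable -/
theorem solvable_of_normal_aut (L : Subgroup H) [L.Normal]
    (h1 : Group.IsSolvable (MulAut L))
    (h2 : ∀ x ∈ Subgroup.centralizer (L : Set H), ∀ y ∈ Subgroup.centralizer (L : Set H),
      x * y = y * x) : Group.IsSolvable H := by
  haveI := h1
  haveI : Group.IsSolvable (Subgroup.centralizer (L : Set H)) :=
    Group.isSolvable_of_comm (fun x y => Subtype.ext (h2 x.1 x.2 y.1 y.2))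
  apply Group.isSolvable_of_ker_le_range (Subgroup.centralizer (L : Set H)).subtype
    (MulAut.conjNormal : H →* MulAut L)
  rw [ker_conjNormal, Subgroup.range_subtype]

theorem mulAut_solvable_of_cyclic (L : Type*) [Group L] [IsCyclic L] :
    Group.IsSolvable (MulAut L) :=
  Group.isSolvable_of_isSolvable_injective (f := (IsCyclic.mulAutMulEquiv L).toMonoidHom)
    (IsCyclic.mulAutMulEquiv L).injective

/-- internal direct products -/
theorem prod_iso [Finite H] (N X : Subgroup H)
    (hcomm : ∀ n ∈ N, ∀ x ∈ X, n * x = x * n) (hdisj : Disjoint N X)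
    (hcard : Nat.card N * Nat.card X = Nat.card H) : Nonempty (H ≃* N × X) := by
  obtain ⟨φ, hφ⟩ : ∃ φ : N × X →* H, ∀ y : N × X, φ y = y.1.1 * y.2.1 :=
    ⟨MonoidHom.noncommCoprod N.subtype X.subtype (fun n x => hcomm n.1 n.2 x.1 x.2),
      fun y => rfl⟩
  have hinj : Function.Injective φ := by
    rw [injective_iff_map_eq_one]
    rintro ⟨n, x⟩ h
    have h1 : n.1 * x.1 = 1 := (hφ (n, x)).symm.trans h
    have hn : n.1 ∈ X := by
      have : n.1 = x.1⁻¹ := eq_inv_of_mul_eq_one_left h1
      rw [this]; exact X.inv_mem x.2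
    have hn1 : n.1 = 1 := Subgroup.disjoint_def.mp hdisj n.2 hn
    have hx1 : x.1 = 1 := by rw [hn1, one_mul] at h1; exact h1
    exact Prod.ext (Subtype.ext hn1) (Subtype.ext hx1)
  have hbij : Function.Bijective φ := by
    rw [Nat.bijective_iff_injective_and_card]
    refine ⟨hinj, ?_⟩
    rw [Nat.card_prod, hcard]
  exact ⟨(MulEquiv.ofBijective φ hbij).symm⟩

end general

section q8

/-- a group of order `8` with a unique involution has a solvable automorphism group -/
theorem solvable_aut_of_card_eight {T : Type*} [Group T] (hT : Nat.card T = 8)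
    (t : T) (ht1 : t ≠ 1) (ht2 : t ^ 2 = 1) (huniq : ∀ x : T, x ^ 2 = 1 → x = 1 ∨ x = t) :
    Group.IsSolvable (MulAut T) := by
  haveI : Finite T := Nat.finite_of_card_ne_zero (by rw [hT]; norm_num)
  have hinj : Function.Injective (MulAut.toPerm T) := by
    intro a b hab
    ext x
    exact Equiv.congr_fun hab x
  haveI : Finite (MulAut T) := Finite.of_injective _ hinj
  have hfixt : ∀ a : MulAut T, a t = t := by
    intro a
    rcases huniq (a t) (by rw [← map_pow, ht2, map_one]) with h | h
    · exfalso; apply ht1
      have : a t = a 1 := by rw [h, map_one]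
      exact a.injective this
    · exact h
  have hprimes : ∀ r : ℕ, r.Prime → r ∣ Nat.card (MulAut T) → r = 2 ∨ r = 3 := by
    intro r hr hdvd
    haveI : Fact r.Prime := ⟨hr⟩
    obtain ⟨a, ha⟩ := exists_prime_orderOf_dvd_card' r hdvd
    by_contra hcon
    push Not at hcon
    have hfr : (MulAut.toPerm T a) ^ r = 1 := by
      rw [← map_pow, ← ha, pow_orderOf_eq_one, map_one]
    have hmod := card_fixed_modEq (MulAut.toPerm T a) hfr (fun _ => True) (fun _ => Iff.rfl)
    have hc1 : Nat.card {x : T // True} = 8 := by
      rw [← hT]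
      exact Nat.card_congr (Equiv.subtypeUnivEquiv (fun _ => trivial))
    have hc2 : Nat.card {x : T // True ∧ (MulAut.toPerm T a) x = x} = Nat.card (fixSub a) :=
      Nat.card_congr (Equiv.subtypeEquivRight (fun x =>
        ⟨fun hx => (mem_fixSub a x).mpr hx.2, fun hx => ⟨trivial, (mem_fixSub a x).mp hx⟩⟩))
    rw [hc1, hc2] at hmod
    have hcdvd : Nat.card (fixSub a) ∣ 8 := hT ▸ Subgroup.card_subgroup_dvd_card (fixSub a)
    have htmem : t ∈ fixSub a := (mem_fixSub a t).mpr (hfixt a)
    have h2c : 2 ∣ Nat.card (fixSub a) := by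
      have ho : orderOf (⟨t, htmem⟩ : fixSub a) = 2 := by
        rw [← Subgroup.orderOf_coe]
        exact orderOf_eq_prime ht2 ht1
      rw [← ho]
      exact orderOf_dvd_natCard _
    have hle : Nat.card (fixSub a) ≤ 8 := Nat.le_of_dvd (by norm_num) hcdvd
    have hrd : r ∣ 8 - Nat.card (fixSub a) := (Nat.modEq_iff_dvd' hle).mp hmod.symm
    have hcases : Nat.card (fixSub a) = 2 ∨ Nat.card (fixSub a) = 4 ∨
        Nat.card (fixSub a) = 8 := by
      generalize Nat.card (fixSub a) = c at hcdvd h2c hle
      interval_cases c <;> omega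
    rcases hcases with hc | hc | hc
    · rw [hc] at hrd
      have hr6 : r ≤ 6 := Nat.le_of_dvd (by norm_num) hrd
      have := hr.two_le
      interval_cases r <;> first | omega | (exfalso; norm_num at hr)
    · rw [hc] at hrd
      have hr4 : r ≤ 4 := Nat.le_of_dvd (by norm_num) hrd
      have := hr.two_le
      interval_cases r <;> first | omega | (exfalso; norm_num at hr)
    · have htop : fixSub a = ⊤ := by
        apply Subgroup.card_eq_iff_eq_top _ |>.mp
        rw [hc, hT]
      have ha1 : a = 1 := by
        ext x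
        rw [MulAut.one_apply]
        exact (mem_fixSub a x).mp (htop ▸ Subgroup.mem_top x)
      rw [ha1, orderOf_one] at ha
      have := hr.two_le
      omega
  obtain ⟨a, b, hab⟩ := eq_two_pow_mul_pow (Nat.card_pos.ne') hprimes
  exact Cfsg.Agent.S0144.result 2 3 a b Nat.prime_two Nat.prime_three hab

theorem quat2_invol : ∀ x : QuaternionGroup 2, x * x = 1 → x = 1 ∨ x = QuaternionGroup.a 2 := by
  decide

/-- `Aut(Q8)` is solvable -/
theorem solvable_aut_of_iso_q8 {N : Type*} [Group N] (e : N ≃* QuaternionGroup 2) :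
    Group.IsSolvable (MulAut N) := by
  have hcard : Nat.card N = 8 := by
    rw [Nat.card_congr e.toEquiv, Nat.card_eq_fintype_card, QuaternionGroup.card]
  have ha2 : (QuaternionGroup.a 2 : QuaternionGroup 2) ≠ 1 := by decide
  have ha22 : (QuaternionGroup.a 2 : QuaternionGroup 2) * QuaternionGroup.a 2 = 1 := by decide
  apply solvable_aut_of_card_eight hcard (e.symm (QuaternionGroup.a 2))
  · intro h
    apply ha2
    have := congrArg e h
    rw [MulEquiv.apply_symm_apply, map_one] at this
    exact this
  · rw [pow_two, ← map_mul, ha22, map_one]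
  · intro x hx
    have hx' : e x * e x = 1 := by rw [← map_mul, ← pow_two, hx, map_one]
    rcases quat2_invol (e x) hx' with h | h
    · left
      have := congrArg e.symm h
      rw [MulEquiv.symm_apply_apply, map_one] at this
      exact this
    · right
      have := congrArg e.symm h
      rw [MulEquiv.symm_apply_apply] at this
      exact this

end q8

section sl25
variable {H : Type*} [Group H] [Finite H]

theorem card_sl25 : Nat.card (Matrix.SpecialLinearGroup (Fin 2) (ZMod 5)) = 120 := by
  have := Cfsg.Agent.Lib.Helper4.card_PSL_mul (F := ZMod 5) 2 (by norm_num)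
  rw [ZMod.card] at this
  obtain ⟨e5⟩ := Cfsg.Agent.S0253.result (F := ZMod 5) (by rw [ZMod.card])
  rw [Nat.card_congr e5.toEquiv, Nat.card_eq_fintype_card, card_alternatingGroup,
    Fintype.card_fin] at this
  have h24 : Nat.gcd 2 (5 - 1) = 2 := by decide
  have h5 : Nat.factorial 5 = 120 := by decide
  rw [h24, h5] at this
  omega

theorem card_center_sl25 :
    Nat.card (Subgroup.center (Matrix.SpecialLinearGroup (Fin 2) (ZMod 5))) = 2 := by
  rw [Cfsg.Agent.Lib.Helper4.card_center_SL 2 (by norm_num), ZMod.card]
  norm_num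

variable (L : Subgroup H) [hL : L.Normal]
  (e : L ≃* Matrix.SpecialLinearGroup (Fin 2) (ZMod 5))

include e in
theorem card_of_iso : Nat.card L = 120 := by
  rw [Nat.card_congr e.toEquiv, card_sl25]

include e in
theorem card_center_of_iso : Nat.card (Subgroup.center L) = 2 := by
  rw [Nat.card_congr (Subgroup.centerCongr e).toEquiv, card_center_sl25]

omit [Finite H] hL in
theorem subgroupOf_centralizer :
    (Subgroup.centralizer (L : Set H)).subgroupOf L = Subgroup.center L := by
  ext x
  rw [Subgroup.mem_subgroupOf, Subgroup.mem_centralizer_iff, Subgroup.mem_center_iff]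
  constructor
  · intro h y
    exact Subtype.ext (h y.1 y.2)
  · intro h y hy
    exact congrArg Subtype.val (h ⟨y, hy⟩)

include e in
theorem relIndex_centralizer : (Subgroup.centralizer (L : Set H)).relIndex L = 60 := by
  show ((Subgroup.centralizer (L : Set H)).subgroupOf L).index = 60
  rw [subgroupOf_centralizer]
  have := Subgroup.card_mul_index (Subgroup.center L)
  rw [card_center_of_iso L e, card_of_iso L e] at this
  omega

include e in
/-- `|L C_H(L)| = 60 |C_H(L)|` -/
theorem card_sup_centralizer :
    Nat.card (L ⊔ Subgroup.centralizer (L : Set H) : Subgroup H) =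
      60 * Nat.card (Subgroup.centralizer (L : Set H)) := by
  haveI : (Subgroup.centralizer (L : Set H)).Normal := Subgroup.normal_centralizer
  have h1 := Cfsg.Agent.Lib.Helper2.V4R.card_mul_relIndex_of_le
    (le_sup_right : Subgroup.centralizer (L : Set H) ≤ L ⊔ Subgroup.centralizer (L : Set H))
  rw [Subgroup.relIndex_sup_right, relIndex_centralizer L e] at h1
  omega

include e in
/-- elements of `L ∩ C_H(L)` square to `1` -/
theorem sq_eq_one_of_mem_inf {x : H} (hx : x ∈ L) (hxc : x ∈ Subgroup.centralizer (L : Set H)) :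
    x ^ 2 = 1 := by
  have hmem : (⟨x, hx⟩ : L) ∈ Subgroup.center L := by
    rw [← subgroupOf_centralizer, Subgroup.mem_subgroupOf]
    exact hxc
  have h1 : (⟨⟨x, hx⟩, hmem⟩ : Subgroup.center L) ^ Nat.card (Subgroup.center L) = 1 :=
    pow_card_eq_one'
  rw [card_center_of_iso L e] at h1
  have h2 := congrArg Subtype.val (congrArg Subtype.val h1)
  exact h2

include e in
theorem two_dvd_card_centralizer : 2 ∣ Nat.card (Subgroup.centralizer (L : Set H)) := by
  have h1 : Nat.card ((Subgroup.center L).map L.subtype) = 2 := by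
    rw [Nat.card_congr (Subgroup.equivMapOfInjective (Subgroup.center L) L.subtype
      L.subtype_injective).toEquiv.symm, card_center_of_iso L e]
  have hle : (Subgroup.center L).map L.subtype ≤ Subgroup.centralizer (L : Set H) := by
    rintro _ ⟨x, hx, rfl⟩
    rw [Subgroup.mem_centralizer_iff]
    intro y hy
    have := Subgroup.mem_center_iff.mp hx ⟨y, hy⟩
    exact congrArg Subtype.val this
  rw [← h1]
  exact Subgroup.card_dvd_of_le hle

end sl25

end Cfsg.Agent.Lib.Helper2.Zr
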