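import Mathlib
import Cfsg.Agent.Lib.Helper2.ZrD

set_option autoImplicit false

/-! Counting elements of prime order `p` when `p ∥ |X|`; parity of the number of elements of
order 5 in groups with cyclic Sylow 2-subgroups; `SL(2,5)` has 24 elements of order 5. -/

namespace Cfsg.Agent.Lib.Helper2.Ot

universe u

section cnt

variable {X : Type u} [Group X] [Finite X] (p : ℕ) [hp : Fact p.Prime]

theorem factorization_eq_one (h1 : p ∣ Nat.card X) (h2 : ¬ p ^ 2 ∣ Nat.card X) :
    (Nat.card X).factorization p = 1 := by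
  have hpos : Nat.card X ≠ 0 := Nat.card_pos.ne'
  have hp' := hp.out
  have ha : 1 ≤ (Nat.card X).factorization p :=
    (hp'.dvd_iff_one_le_factorization hpos).mp h1
  have hb : ¬ 2 ≤ (Nat.card X).factorization p := by
    intro h
    exact h2 ((hp'.pow_dvd_iff_le_factorization hpos).mpr h)
  omega

theorem card_sylow_eq (h1 : p ∣ Nat.card X) (h2 : ¬ p ^ 2 ∣ Nat.card X) (P : Sylow p X) :
    Nat.card P = p := by
  rw [P.card_eq_multiplicity, factorization_eq_one p h1 h2, pow_one]

theorem orderOf_eq_of_mem_sylow (h1 : p ∣ Nat.card X) (h2 : ¬ p ^ 2 ∣ Nat.card X) (P : Sylow p X)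
    {y : X} (hy : y ∈ (P : Subgroup X)) (hy1 : y ≠ 1) : orderOf y = p := by
  have hd : orderOf y ∣ p := by
    have := Subgroup.orderOf_dvd_natCard (P : Subgroup X) hy
    rwa [card_sylow_eq p h1 h2 P] at this
  rcases (Nat.dvd_prime hp.out).mp hd with h | h
  · exact absurd (orderOf_eq_one_iff.mp h) hy1
  · exact h

theorem card_mem_ne_one (H : Subgroup X) :
    Nat.card {x : X // x ∈ H ∧ x ≠ 1} = Nat.card H - 1 := by
  classical
  have e : {x : X // x ∈ H ∧ x ≠ 1} ≃ {y : H // y ≠ 1} :=
    { toFun := fun x => ⟨⟨x.1, x.2.1⟩, fun h => x.2.2 (congrArg Subtype.val h)⟩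
      invFun := fun y => ⟨y.1.1, y.1.2, fun h => y.2 (Subtype.ext h)⟩
      left_inv := fun x => rfl
      right_inv := fun y => rfl }
  rw [Nat.card_congr e]
  have h := Nat.card_congr (Equiv.sumCompl (fun y : H => y = 1))
  rw [Nat.card_sum] at h
  have h1 : Nat.card {y : H // y = 1} = 1 := by
    rw [Nat.card_eq_one_iff_unique]
    exact ⟨⟨fun x y => Subtype.ext (x.2.trans y.2.symm)⟩, ⟨⟨1, rfl⟩⟩⟩
  rw [h1] at h
  have : Nat.card {y : H // y ≠ 1} = Nat.card {y : H // ¬ y = 1} := rfl
  omega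

/-- If `p ∥ |X|` the number of elements of order `p` is `(p-1)` times the number of Sylow
`p`-subgroups. -/
theorem card_order_p (h1 : p ∣ Nat.card X) (h2 : ¬ p ^ 2 ∣ Nat.card X) :
    Nat.card {x : X // orderOf x = p} = (p - 1) * Nat.card (Sylow p X) := by
  classical
  haveI : Fintype (Sylow p X) := Fintype.ofFinite _
  have hf1 := factorization_eq_one p h1 h2
  let f : {x : X // orderOf x = p} → Sylow p X := fun x =>
    Sylow.ofCard (Subgroup.zpowers x.1) (by rw [Nat.card_zpowers, x.2, hf1, pow_one])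
  have hfcoe : ∀ x, ((f x : Sylow p X) : Subgroup X) = Subgroup.zpowers x.1 := fun x => rfl
  have e : {x : X // orderOf x = p} ≃ Σ P : Sylow p X, {x : X // x ∈ (P : Subgroup X) ∧ x ≠ 1} :=
    { toFun := fun x => ⟨f x, ⟨x.1, by rw [hfcoe]; exact Subgroup.mem_zpowers x.1, by
        intro h
        have := x.2
        rw [h, orderOf_one] at this
        exact hp.out.one_lt.ne this⟩⟩
      invFun := fun y => ⟨y.2.1, orderOf_eq_of_mem_sylow p h1 h2 y.1 y.2.2.1 y.2.2.2⟩
      left_inv := fun x => rfl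
      right_inv := by
        rintro ⟨P, y, hyP, hy1⟩
        apply Sigma.subtype_ext
        · apply Sylow.ext
          show Subgroup.zpowers y = (P : Subgroup X)
          apply Subgroup.eq_of_le_of_card_ge
          · rw [Subgroup.zpowers_le]; exact hyP
          · rw [Nat.card_zpowers, orderOf_eq_of_mem_sylow p h1 h2 P hyP hy1,
              card_sylow_eq p h1 h2 P]
        · rfl }
  rw [Nat.card_congr e, Nat.card_sigma]
  have : ∀ P : Sylow p X, Nat.card {x : X // x ∈ (P : Subgroup X) ∧ x ≠ 1} = p - 1 := by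
    intro P
    rw [card_mem_ne_one, card_sylow_eq p h1 h2 P]
  simp only [this, Finset.sum_const, Finset.card_univ, smul_eq_mul, Nat.card_eq_fintype_card]
  ring

end cnt

section odd

variable {X : Type u} [Group X] [Finite X]

/-- the elements of order 5 live in a subgroup of odd order when the Sylow 2-subgroups are
cyclic -/
theorem exists_odd_subgroup (hS : ∀ P : Sylow 2 X, IsCyclic P) :
    ∃ K : Subgroup X, Odd (Nat.card K) ∧ ∀ x : X, orderOf x = 5 → x ∈ K := by
  rcases Nat.even_or_odd (Nat.card X) with hev | hodd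
  · have hmf : (Nat.card X).minFac = 2 := (Nat.minFac_eq_two_iff _).mpr hev.two_dvd
    let P : Sylow 2 X := default
    have hP : IsCyclic P := hS P
    have hc := IsCyclic.isComplement' hmf hP
    set φ := MonoidHom.transferSylow P (hP.normalizer_le_centralizer hmf) with hφ
    refine ⟨φ.ker, ?_, ?_⟩
    · have hmul := hc.card_mul
      obtain ⟨f, hf⟩ : ∃ f, f = (Nat.card X).factorization 2 := ⟨_, rfl⟩
      have hPc : Nat.card P = 2 ^ f := by rw [hf]; exact P.card_eq_multiplicity
      rw [Nat.odd_iff, ← Nat.not_even_iff]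
      intro he
      obtain ⟨t, ht⟩ := he.two_dvd
      have : 2 ^ (f + 1) ∣ Nat.card X := by
        refine ⟨t, ?_⟩
        rw [← hmul, hPc, ht, pow_succ]
        ring
      rw [hf] at this
      exact Nat.pow_succ_factorization_not_dvd Nat.card_pos.ne' Nat.prime_two this
    · intro x hx
      rw [MonoidHom.mem_ker]
      have h1 : orderOf (φ x) ∣ 5 := hx ▸ orderOf_map_dvd φ x
      have h2 : orderOf (φ x) ∣ 2 ^ (Nat.card X).factorization 2 := by
        have := orderOf_dvd_natCard (φ x)
        rwa [P.card_eq_multiplicity] at this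
      have h3 : orderOf (φ x) ∣ Nat.gcd 5 (2 ^ (Nat.card X).factorization 2) :=
        Nat.dvd_gcd h1 h2
      have h4 : Nat.gcd 5 (2 ^ (Nat.card X).factorization 2) = 1 :=
        Nat.Coprime.pow_right _ (by norm_num)
      rw [h4, Nat.dvd_one] at h3
      exact orderOf_eq_one_iff.mp h3
  · exact ⟨⊤, by rwa [Subgroup.card_top], fun x _ => Subgroup.mem_top x⟩

theorem card_order_five_ne_of_odd (hodd : Odd (Nat.card X)) (h25 : ¬ 25 ∣ Nat.card X) :
    Nat.card {x : X // orderOf x = 5} ≠ 24 := by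
  haveI : Fact (Nat.Prime 5) := ⟨by norm_num⟩
  by_cases h5 : 5 ∣ Nat.card X
  · rw [card_order_p 5 h5 (by norm_num; exact h25)]
    intro h
    have h6 : Nat.card (Sylow 5 X) = 6 := by omega
    let P : Sylow 5 X := default
    have hd : Nat.card (Sylow 5 X) ∣ Nat.card X :=
      (Sylow.card_dvd_index P).trans (Subgroup.index_dvd_card _)
    rw [h6] at hd
    have : 2 ∣ Nat.card X := (by norm_num : 2 ∣ 6).trans hd
    rcases hodd with ⟨t, ht⟩
    omega
  · have : IsEmpty {x : X // orderOf x = 5} := by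
      constructor
      rintro ⟨x, hx⟩
      exact h5 (hx ▸ orderOf_dvd_natCard x)
    rw [Nat.card_of_isEmpty]
    norm_num

/-- In a group with cyclic Sylow 2-subgroups and `25 ∤ |X|` the number of elements of order 5
is not 24. -/
theorem card_order_five_ne (hS : ∀ P : Sylow 2 X, IsCyclic P) (h25 : ¬ 25 ∣ Nat.card X) :
    Nat.card {x : X // orderOf x = 5} ≠ 24 := by
  obtain ⟨K, hKodd, hK⟩ := exists_odd_subgroup hS
  have e : {x : X // orderOf x = 5} ≃ {y : K // orderOf y = 5} :=
    { toFun := fun x => ⟨⟨x.1, hK x.1 x.2⟩, by rw [← Subgroup.orderOf_coe]; exact x.2⟩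
      invFun := fun y => ⟨y.1.1, by rw [Subgroup.orderOf_coe]; exact y.2⟩
      left_inv := fun x => rfl
      right_inv := fun y => rfl }
  rw [Nat.card_congr e]
  exact card_order_five_ne_of_odd hKodd
    (fun h => h25 (h.trans (Subgroup.card_subgroup_dvd_card K)))

end odd

section sl25

open Matrix

/-- upper unitriangular element of `SL(2,5)` -/
def uu : Matrix.SpecialLinearGroup (Fin 2) (ZMod 5) := ⟨!![1,1;0,1], by decide⟩
/-- lower unitriangular element of `SL(2,5)` -/
def ll : Matrix.SpecialLinearGroup (Fin 2) (ZMod 5) := ⟨!![1,0;1,1], by decide⟩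

theorem orderOf_uu : orderOf uu = 5 :=
  haveI : Fact (Nat.Prime 5) := ⟨by norm_num⟩
  orderOf_eq_prime (by decide) (by decide)

theorem orderOf_ll : orderOf ll = 5 :=
  haveI : Fact (Nat.Prime 5) := ⟨by norm_num⟩
  orderOf_eq_prime (by decide) (by decide)

theorem card_sylow_five_sl25 :
    Nat.card (Sylow 5 (Matrix.SpecialLinearGroup (Fin 2) (ZMod 5))) = 6 := by
  classical
  haveI : Fact (Nat.Prime 5) := ⟨by norm_num⟩
  have hcard := Zr.card_sl25
  have h5 : 5 ∣ Nat.card (Matrix.SpecialLinearGroup (Fin 2) (ZMod 5)) := by rw [hcard]; norm_num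
  have h25 : ¬ 5 ^ 2 ∣ Nat.card (Matrix.SpecialLinearGroup (Fin 2) (ZMod 5)) := by
    rw [hcard]; norm_num
  let P : Sylow 5 (Matrix.SpecialLinearGroup (Fin 2) (ZMod 5)) := default
  have hPc : Nat.card P = 5 := card_sylow_eq 5 h5 h25 P
  have hidx : (P : Subgroup (Matrix.SpecialLinearGroup (Fin 2) (ZMod 5))).index = 24 := by
    have := (P : Subgroup (Matrix.SpecialLinearGroup (Fin 2) (ZMod 5))).card_mul_index
    rw [hPc, hcard] at this
    omega
  have hd : Nat.card (Sylow 5 (Matrix.SpecialLinearGroup (Fin 2) (ZMod 5))) ∣ 24 := by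
    rw [← hidx]; exact Sylow.card_dvd_index P
  have hm := card_sylow_modEq_one 5 (Matrix.SpecialLinearGroup (Fin 2) (ZMod 5))
  have hle : Nat.card (Sylow 5 (Matrix.SpecialLinearGroup (Fin 2) (ZMod 5))) ≤ 24 :=
    Nat.le_of_dvd (by norm_num) hd
  have hne1 : Nat.card (Sylow 5 (Matrix.SpecialLinearGroup (Fin 2) (ZMod 5))) ≠ 1 := by
    intro h1
    haveI : Subsingleton (Sylow 5 (Matrix.SpecialLinearGroup (Fin 2) (ZMod 5))) :=
      (Nat.card_eq_one_iff_unique.mp h1).1
    have hu : IsPGroup 5 (Subgroup.zpowers uu) :=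
      IsPGroup.of_card (n := 1) (by rw [Nat.card_zpowers, orderOf_uu, pow_one])
    have hl : IsPGroup 5 (Subgroup.zpowers ll) :=
      IsPGroup.of_card (n := 1) (by rw [Nat.card_zpowers, orderOf_ll, pow_one])
    obtain ⟨Q, hQ⟩ := hu.exists_le_sylow
    obtain ⟨Q', hQ'⟩ := hl.exists_le_sylow
    have hQQ : Q' = Q := Subsingleton.elim _ _
    rw [hQQ] at hQ'
    have heq : Subgroup.zpowers uu = (Q : Subgroup (Matrix.SpecialLinearGroup (Fin 2) (ZMod 5))) := by
      apply Subgroup.eq_of_le_of_card_ge hQ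
      rw [Nat.card_zpowers, orderOf_uu, card_sylow_eq 5 h5 h25 Q]
    have hmem : ll ∈ Subgroup.zpowers uu := by
      rw [heq]; exact hQ' (Subgroup.mem_zpowers ll)
    have hfin : IsOfFinOrder uu := isOfFinOrder_of_finite uu
    rw [hfin.mem_zpowers_iff_mem_range_orderOf, orderOf_uu] at hmem
    revert hmem
    decide
  rw [Nat.ModEq] at hm
  interval_cases h : Nat.card (Sylow 5 (Matrix.SpecialLinearGroup (Fin 2) (ZMod 5))) <;>
    simp_all <;> omega

theorem card_order_five_sl25 :
    Nat.card {x : Matrix.SpecialLinearGroup (Fin 2) (ZMod 5) // orderOf x = 5} = 24 := by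
  haveI : Fact (Nat.Prime 5) := ⟨by norm_num⟩
  have hcard := Zr.card_sl25
  rw [card_order_p 5 (by rw [hcard]; norm_num) (by rw [hcard]; norm_num), card_sylow_five_sl25]

end sl25

end Cfsg.Agent.Lib.Helper2.Ot
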