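import Mathlib
import Cfsg.Agent.Lib.Helper2.OtA
import Cfsg.Agent.S3359
import Cfsg.Agent.S4291
import Cfsg.Agent.Lib.Helper1.FrobeniusCount

set_option autoImplicit false

/-! Frobenius complements: universe transport, and the number of elements of order 5 separates
the solvable from the nonsolvable ones (of a given order). -/

namespace Cfsg.Agent.Lib.Helper2.Ot

universe u v

open Pointwise

open Cfsg.Agent.Lib.Helper1 in
theorem frob_map {X : Type u} {Y : Type v} [Group X] [Group Y] (e : X ≃* Y) {C : Subgroup X}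
    (hC : Cfsg.IsFrobeniusComplement C) : Cfsg.IsFrobeniusComplement (C.map e.toMonoidHom) := by
  obtain ⟨h1, h2, h3⟩ := hC
  refine ⟨?_, ?_, ?_⟩
  · intro h
    exact h1 ((Subgroup.map_eq_bot_iff_of_injective C e.injective).mp h)
  · intro h
    apply h2
    rw [eq_top_iff]
    intro x _
    have : e x ∈ C.map e.toMonoidHom := by rw [h]; exact Subgroup.mem_top _
    rw [Subgroup.mem_map_equiv] at this
    simpa using this
  · intro g hg
    rw [eq_bot_iff]
    intro y hy
    rw [Subgroup.mem_inf] at hy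
    obtain ⟨hy1, hy2⟩ := hy
    rw [Subgroup.mem_map_equiv] at hy1
    rw [mem_conj_smul_iff', Subgroup.mem_map_equiv] at hy2
    have hg' : e.symm g ∉ C := by
      intro h
      apply hg
      rw [Subgroup.mem_map_equiv]; exact h
    have hmem : e.symm y ∈ C ⊓ (MulAut.conj (e.symm g) • C) := by
      rw [Subgroup.mem_inf]
      refine ⟨hy1, ?_⟩
      rw [mem_conj_smul_iff']
      simpa using hy2
    rw [h3 (e.symm g) hg', Subgroup.mem_bot] at hmem
    rw [Subgroup.mem_bot]
    have : e (e.symm y) = e 1 := by rw [hmem]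
    simpa using this

/-- a Frobenius complement in a finite group of any universe "occurs as a Frobenius complement"
in the sense of the statements (ambient group in `Type`). -/
theorem hFC_of_frobenius {X : Type u} [Group X] [Finite X] (C : Subgroup X)
    (hC : Cfsg.IsFrobeniusComplement C) :
    ∃ (L : Type) (_ : Group L) (_ : Finite L) (H : Subgroup L),
      Cfsg.IsFrobeniusComplement H ∧ Nonempty (C ≃* H) := by
  haveI : Small.{0} X := inferInstance
  let e : X ≃* Shrink.{0} X := (Shrink.mulEquiv).symm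
  exact ⟨Shrink.{0} X, inferInstance, Finite.of_equiv X (equivShrink X),
    C.map e.toMonoidHom, frob_map e hC, ⟨e.subgroupMap C⟩⟩

theorem not_solvable_alt5 : ¬ Group.IsSolvable (alternatingGroup (Fin 5)) := by
  intro h
  apply Equiv.Perm.not_isSolvable_fin_5
  refine Group.isSolvable_of_ker_le_range (alternatingGroup (Fin 5)).subtype
    (Equiv.Perm.sign : Equiv.Perm (Fin 5) →* ℤˣ) ?_
  intro x hx
  rw [MonoidHom.mem_ker] at hx
  exact ⟨⟨x, Equiv.Perm.mem_alternatingGroup.mpr hx⟩, rfl⟩

section counts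

variable {C : Type u} [Group C] [Finite C]

/-- A nonsolvable Frobenius complement has exactly 24 elements of order 5, and `25 ∤ |C|`. -/
theorem nonsolv_count
    (hFC : ∃ (L : Type) (_ : Group L) (_ : Finite L) (H : Subgroup L),
      Cfsg.IsFrobeniusComplement H ∧ Nonempty (C ≃* H))
    (hns : ¬ Group.IsSolvable C) :
    ¬ 25 ∣ Nat.card C ∧ Nat.card {x : C // orderOf x = 5} = 24 := by
  obtain ⟨G₀, hG₀n, hidx, S, M, hsup, hinf, hcomm, ⟨eS⟩, _, hMcop⟩ :=
    Cfsg.Agent.S3359.result hns hFC
  have hScard : Nat.card S = 120 := by rw [Nat.card_congr eS.toEquiv]; exact Zr.card_sl25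
  -- the product map
  have hcm : ∀ (s : S) (m : M), Commute (S.subtype s) (M.subtype m) :=
    fun s m => hcomm s.1 s.2 m.1 m.2
  let φ : S × M →* C := MonoidHom.noncommCoprod S.subtype M.subtype hcm
  have hφ : ∀ y : S × M, φ y = y.1.1 * y.2.1 := fun y => rfl
  have hinj : Function.Injective φ := by
    rw [injective_iff_map_eq_one]
    rintro ⟨n, x⟩ h
    have h1 : n.1 * x.1 = 1 := (hφ (n, x)).symm.trans h
    have hn : n.1 ∈ M := by
      have : n.1 = x.1⁻¹ := eq_inv_of_mul_eq_one_left h1
      rw [this]; exact M.inv_mem x.2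
    have hn1 : n.1 = 1 := by
      have : n.1 ∈ S ⊓ M := ⟨n.2, hn⟩
      rw [hinf] at this; exact this
    have hx1 : x.1 = 1 := by rw [hn1, one_mul] at h1; exact h1
    exact Prod.ext (Subtype.ext hn1) (Subtype.ext hx1)
  have hrange : φ.range = G₀ := by
    rw [← hsup]
    show (MonoidHom.noncommCoprod S.subtype M.subtype hcm).range = S ⊔ M
    rw [MonoidHom.noncommCoprod_range, Subgroup.range_subtype, Subgroup.range_subtype]
  have hG₀card : Nat.card G₀ = 120 * Nat.card M := by
    rw [← hrange, ← Nat.card_congr (MonoidHom.ofInjective hinj).toEquiv, Nat.card_prod, hScard]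
  have hCcard : Nat.card C = 120 * Nat.card M * G₀.index := by
    rw [← hG₀card]; exact (G₀.card_mul_index).symm
  have hM5 : (Nat.card M).Coprime 5 :=
    Nat.Coprime.coprime_dvd_right (by norm_num : 5 ∣ 30) hMcop
  refine ⟨?_, ?_⟩
  · intro h
    rw [hCcard] at h
    have hM25 : (25 : ℕ).Coprime (Nat.card M) := by
      have : (5 ^ 2 : ℕ).Coprime (Nat.card M) := Nat.Coprime.pow_left 2 hM5.symm
      simpa using this
    have h' : 25 ∣ Nat.card M * (120 * G₀.index) := by
      have e : 120 * Nat.card M * G₀.index = Nat.card M * (120 * G₀.index) := by ring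
      rwa [e] at h
    have h'' : 25 ∣ 120 * G₀.index := hM25.dvd_of_dvd_mul_left h'
    rcases hidx with h1 | h1 <;> rw [h1] at h'' <;> omega
  · -- elements of order 5 lie in S
    have hmemS : ∀ x : C, orderOf x = 5 → x ∈ S := by
      intro x hx
      have hxG₀ : x ∈ G₀ := by
        haveI := hG₀n
        have h1 : ((QuotientGroup.mk x : C ⧸ G₀)) ^ 5 = 1 := by
          rw [← QuotientGroup.mk_pow, ← hx, pow_orderOf_eq_one, QuotientGroup.mk_one]
        have h2 : ((QuotientGroup.mk x : C ⧸ G₀)) ^ G₀.index = 1 := by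
          rw [Subgroup.index_eq_card]; exact pow_card_eq_one'
        have h3 : orderOf (QuotientGroup.mk x : C ⧸ G₀) ∣ Nat.gcd 5 G₀.index :=
          Nat.dvd_gcd (orderOf_dvd_of_pow_eq_one h1) (orderOf_dvd_of_pow_eq_one h2)
        have h4 : Nat.gcd 5 G₀.index = 1 := by
          rcases hidx with h | h <;> rw [h] <;> norm_num
        rw [h4, Nat.dvd_one, orderOf_eq_one_iff] at h3
        exact (QuotientGroup.eq_one_iff x).mp h3
      rw [← hrange] at hxG₀
      obtain ⟨⟨s, m⟩, hsm⟩ := hxG₀
      have hsm' : s.1 * m.1 = x := hsm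
      have hc : Commute s.1 m.1 := hcomm s.1 s.2 m.1 m.2
      have hpow : s.1 ^ 5 * m.1 ^ 5 = 1 := by
        rw [← hc.mul_pow, hsm', ← hx, pow_orderOf_eq_one]
      have hs5 : s.1 ^ 5 ∈ S ⊓ M := by
        refine ⟨S.pow_mem s.2 5, ?_⟩
        have : s.1 ^ 5 = (m.1 ^ 5)⁻¹ := eq_inv_of_mul_eq_one_left hpow
        rw [this]; exact M.inv_mem (M.pow_mem m.2 5)
      rw [hinf, Subgroup.mem_bot] at hs5
      have hm5 : m.1 ^ 5 = 1 := by rw [hs5, one_mul] at hpow; exact hpow
      have hm1 : m.1 = 1 := by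
        have h1 : orderOf m.1 ∣ 5 := orderOf_dvd_of_pow_eq_one hm5
        have h2 : orderOf m.1 ∣ Nat.card M := Subgroup.orderOf_dvd_natCard M m.2
        have h3 : orderOf m.1 ∣ Nat.gcd (Nat.card M) 5 := Nat.dvd_gcd h2 h1
        rw [hM5, Nat.dvd_one] at h3
        exact orderOf_eq_one_iff.mp h3
      rw [← hsm', hm1, mul_one]; exact s.2
    have e1 : {x : C // orderOf x = 5} ≃ {s : S // orderOf s = 5} :=
      { toFun := fun x => ⟨⟨x.1, hmemS x.1 x.2⟩, by rw [← Subgroup.orderOf_coe]; exact x.2⟩
        invFun := fun y => ⟨y.1.1, by rw [Subgroup.orderOf_coe]; exact y.2⟩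
        left_inv := fun x => rfl
        right_inv := fun y => rfl }
    have e2 : {s : S // orderOf s = 5} ≃
        {y : Matrix.SpecialLinearGroup (Fin 2) (ZMod 5) // orderOf y = 5} :=
      eS.toEquiv.subtypeEquiv (fun s => by
        show orderOf s = 5 ↔ orderOf (eS s) = 5
        rw [MulEquiv.orderOf_eq])
    rw [Nat.card_congr (e1.trans e2), card_order_five_sl25]

/-- A solvable Frobenius complement with `25 ∤ |C|` does not have exactly 24 elements of
order 5. -/
theorem solv_count
    (hFC : ∃ (L : Type) (_ : Group L) (_ : Finite L) (H : Subgroup L),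
      Cfsg.IsFrobeniusComplement H ∧ Nonempty (C ≃* H))
    (hs : Group.IsSolvable C) (h25 : ¬ 25 ∣ Nat.card C) :
    Nat.card {x : C // orderOf x = 5} ≠ 24 := by
  obtain ⟨N, ⟨hNn, hcyc, hcases⟩, _⟩ := Cfsg.Agent.S4291.result hFC
  have key : ∀ {T : Type} [Group T] [Finite T] (f : C →* T), f.ker = N →
      (Nat.card T).Coprime 5 → ∀ x : C, orderOf x = 5 → x ∈ N := by
    intro T _ _ f hker hcop x hx
    rw [← hker, MonoidHom.mem_ker]
    have h1 : orderOf (f x) ∣ 5 := hx ▸ orderOf_map_dvd f x
    have h2 : orderOf (f x) ∣ Nat.card T := orderOf_dvd_natCard (f x)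
    have h3 : orderOf (f x) ∣ Nat.gcd (Nat.card T) 5 := Nat.dvd_gcd h2 h1
    rw [hcop, Nat.dvd_one] at h3
    exact orderOf_eq_one_iff.mp h3
  have hmemN : ∀ x : C, orderOf x = 5 → x ∈ N := by
    rcases hcases with h | ⟨f, _, hker⟩ | ⟨f, _, hker⟩ | ⟨f, _, hker⟩ | ⟨f, hf, _⟩ | ⟨f, hf, _⟩
    · intro x _; rw [h]; exact Subgroup.mem_top x
    · exact key f hker (by rw [DihedralGroup.nat_card]; norm_num)
    · refine key f hker ?_
      have h := two_mul_nat_card_alternatingGroup (α := Fin 4)
      rw [Nat.card_perm, Nat.card_fin] at h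
      have : Nat.card (alternatingGroup (Fin 4)) = 12 := by
        have : (4 : ℕ).factorial = 24 := by decide
        omega
      rw [this]; norm_num
    · refine key f hker ?_
      rw [Nat.card_perm, Nat.card_fin]
      have : (4 : ℕ).factorial = 24 := by decide
      rw [this]; norm_num
    · exact absurd (solvable_of_surjective hf) not_solvable_alt5
    · exact absurd (solvable_of_surjective hf) Equiv.Perm.not_isSolvable_fin_5
  have e : {x : C // orderOf x = 5} ≃ {y : N // orderOf y = 5} :=
    { toFun := fun x => ⟨⟨x.1, hmemN x.1 x.2⟩, by rw [← Subgroup.orderOf_coe]; exact x.2⟩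
      invFun := fun y => ⟨y.1.1, by rw [Subgroup.orderOf_coe]; exact y.2⟩
      left_inv := fun x => rfl
      right_inv := fun y => rfl }
  rw [Nat.card_congr e]
  exact card_order_five_ne (fun P => hcyc 2 P)
    (fun h => h25 (h.trans (Subgroup.card_subgroup_dvd_card N)))

end counts

/-- Two Frobenius complements of the same order with the same number of elements of order 5:
if one is solvable so is the other. -/
theorem solvable_transfer {C₁ : Type u} {C₂ : Type v} [Group C₁] [Finite C₁] [Group C₂]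
    [Finite C₂]
    (h₁ : ∃ (L : Type) (_ : Group L) (_ : Finite L) (H : Subgroup L),
      Cfsg.IsFrobeniusComplement H ∧ Nonempty (C₁ ≃* H))
    (h₂ : ∃ (L : Type) (_ : Group L) (_ : Finite L) (H : Subgroup L),
      Cfsg.IsFrobeniusComplement H ∧ Nonempty (C₂ ≃* H))
    (hcard : Nat.card C₁ = Nat.card C₂)
    (hcnt : Nat.card {x : C₁ // orderOf x = 5} = Nat.card {x : C₂ // orderOf x = 5})
    (hs : Group.IsSolvable C₁) : Group.IsSolvable C₂ := by
  by_contra hns
  obtain ⟨h25, h24⟩ := nonsolv_count h₂ hns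
  exact solv_count h₁ hs (hcard ▸ h25) (hcnt.trans h24)

end Cfsg.Agent.Lib.Helper2.Ot
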