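import Mathlib
import Cfsg.Agent.Lib.Helper1.FrobeniusKernelNilpotent
import Cfsg.Agent.Lib.Helper1.FrobeniusTheorem
import Cfsg.Agent.Lib.Helper1.FrobeniusConj2
import Cfsg.Agent.Lib.Helper1.FrobeniusCount
import Cfsg.Agent.Lib.Helper1.FrobeniusBasic

set_option autoImplicit false

/-! General facts on a finite Frobenius group `X = N ⋊ C`: element orders, counting elements of
a given order coprime to `|N|`, counting `p`-elements, solvability. -/

namespace Cfsg.Agent.Lib.Helper2.Ot

universe u

open Pointwise
open Cfsg.Agent.Lib.Helper1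

variable {X : Type u} [Group X]

/-- packaged data of a Frobenius group -/
structure FrobData (C N : Subgroup X) : Prop where
  hC : Cfsg.IsFrobeniusComplement C
  hN : (N : Set X) = Cfsg.frobeniusKernel C
  normal : N.Normal
  compl : Subgroup.IsComplement' N C
  nilp : Group.IsNilpotent N

theorem exists_frobData [Finite X] (C : Subgroup X) (hC : Cfsg.IsFrobeniusComplement C) :
    ∃ N : Subgroup X, FrobData C N := by
  obtain ⟨N, hN, hNn, hNnil⟩ := ThompsonFPF.frobenius_kernel_nilpotent C hC
  obtain ⟨N', hN', _, hc⟩ := frobenius_theorem C hC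
  have : N' = N := SetLike.coe_injective (hN'.trans hN.symm)
  subst this
  exact ⟨N', hC, hN, hNn, hc, hNnil⟩

namespace FrobData

variable [Finite X] {C N : Subgroup X} (hd : FrobData C N)
include hd

theorem card_mul : Nat.card N * Nat.card C = Nat.card X :=
  frobenius_kernel_card_mul hd.hC hd.hN

theorem coprime : (Nat.card N).Coprime (Nat.card C) :=
  frobenius_coprime hd.hC hd.hN

theorem index_eq : C.index = Nat.card N := by
  have h1 := hd.card_mul
  have h2 := C.card_mul_index
  have hpos : 0 < Nat.card C := Nat.card_pos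
  rw [← h1, mul_comm (Nat.card N)] at h2
  exact Nat.eq_of_mul_eq_mul_left hpos h2

theorem N_ne_bot : N ≠ ⊥ := by
  intro h
  have h1 := hd.card_mul
  rw [h, Subgroup.card_bot, one_mul] at h1
  exact hd.hC.2.1 (Subgroup.card_eq_iff_eq_top C |>.mp h1)

theorem one_lt_card_C : 1 < Nat.card C := by
  rw [Subgroup.one_lt_card_iff_ne_bot]; exact hd.hC.1

theorem one_lt_card_N : 1 < Nat.card N := by
  rw [Subgroup.one_lt_card_iff_ne_bot]; exact hd.N_ne_bot

/-- every element lies in the kernel or has order dividing `|C|` -/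
theorem mem_or_order_dvd (x : X) : x ∈ N ∨ orderOf x ∣ Nat.card C := by
  by_cases hx : x ∈ N
  · exact Or.inl hx
  · right
    have hx' : x ∉ Cfsg.frobeniusKernel C := by
      rw [← hd.hN]; exact hx
    have hcov : x ∈ frobeniusCover C := by
      rw [frobeniusCover_eq_compl]; exact hx'
    obtain ⟨_, g, hg⟩ := hcov
    rw [mem_conj_smul_iff'] at hg
    have : orderOf (g⁻¹ * x * g) = orderOf x := by
      have := MulEquiv.orderOf_eq (MulAut.conj g⁻¹) x
      simpa [MulAut.conj_apply] using this
    rw [← this]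
    exact Subgroup.orderOf_dvd_natCard C hg

theorem order_dvd (x : X) : orderOf x ∣ Nat.card N ∨ orderOf x ∣ Nat.card C := by
  rcases hd.mem_or_order_dvd x with h | h
  · exact Or.inl (Subgroup.orderOf_dvd_natCard N h)
  · exact Or.inr h

/-- counting the elements of an order coprime to `|N|` -/
theorem count_coprime (m : ℕ) (hm1 : m ≠ 1) (hm : m.Coprime (Nat.card N)) :
    Nat.card {x : X // orderOf x = m} = C.index * Nat.card {h : C // orderOf h = m} := by
  classical
  let E := frobeniusCoverEquiv hd.hC
  have hE : ∀ qh, ((E qh : frobeniusCover C) : X) = qh.1.out * (qh.2 : C) * qh.1.out⁻¹ :=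
    fun qh => rfl
  have hord : ∀ qh, orderOf ((E qh : frobeniusCover C) : X) = orderOf (qh.2 : C) := by
    intro qh
    rw [hE]
    have := MulEquiv.orderOf_eq (MulAut.conj qh.1.out) ((qh.2 : C) : X)
    rw [MulAut.conj_apply] at this
    rw [this, Subgroup.orderOf_coe]
  -- step 1
  have e1 : {x : X // orderOf x = m} ≃ {y : frobeniusCover C // orderOf (y : X) = m} :=
    { toFun := fun x => ⟨⟨x.1, by
        rw [frobeniusCover_eq_compl, Set.mem_compl_iff, ← hd.hN]
        intro hxN
        have h1 : orderOf x.1 ∣ Nat.card N := Subgroup.orderOf_dvd_natCard N hxN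
        rw [x.2] at h1
        have : m ∣ Nat.gcd m (Nat.card N) := Nat.dvd_gcd dvd_rfl h1
        rw [hm, Nat.dvd_one] at this
        exact hm1 this⟩, x.2⟩
      invFun := fun y => ⟨y.1.1, y.2⟩
      left_inv := fun x => rfl
      right_inv := fun y => rfl }
  have e2 : {y : frobeniusCover C // orderOf (y : X) = m} ≃
      {qh : (X ⧸ C) × {h : C // h ≠ 1} // orderOf (qh.2 : C) = m} :=
    (E.symm.subtypeEquiv (fun y => by
      show orderOf (y : X) = m ↔ orderOf ((E.symm y).2 : C) = m
      rw [← hord (E.symm y), Equiv.apply_symm_apply]))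
  have e3 : {qh : (X ⧸ C) × {h : C // h ≠ 1} // orderOf (qh.2 : C) = m} ≃
      (X ⧸ C) × {h : C // orderOf h = m} :=
    { toFun := fun z => (z.1.1, ⟨z.1.2.1, z.2⟩)
      invFun := fun w => ⟨(w.1, ⟨w.2.1, by
        intro h
        have := w.2.2
        rw [h, orderOf_one] at this
        exact hm1 this.symm⟩), w.2.2⟩
      left_inv := fun z => rfl
      right_inv := fun w => rfl }
  rw [Nat.card_congr ((e1.trans e2).trans e3), Nat.card_prod, Subgroup.index_eq_card]

/-- counting `p`-elements for a prime `p ∣ |N|` -/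
theorem pelement_count (p : ℕ) [hp : Fact p.Prime] (hpN : p ∣ Nat.card N) :
    Nat.card {x : X // ∃ j : ℕ, orderOf x = p ^ j} = p ^ (Nat.card X).factorization p := by
  classical
  have hpC : ¬ p ∣ Nat.card C := by
    intro h
    have := Nat.dvd_gcd hpN h
    rw [hd.coprime] at this
    exact hp.out.one_lt.ne' (Nat.dvd_one.mp this)
  have hnorm : ∀ (P : Sylow p N), (P : Subgroup N).Normal := by
    have h03 := (Group.isNilpotent_of_finite_tfae (G := N)).out 0 3
    intro P
    exact h03.mp hd.nilp p hp P
  let P : Sylow p N := default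
  haveI : Subsingleton (Sylow p N) := by
    haveI := Sylow.unique_of_normal P (hnorm P)
    infer_instance
  -- p-elements lie in N
  have hmemN : ∀ x : X, (∃ j : ℕ, orderOf x = p ^ j) → x ∈ N := by
    rintro x ⟨j, hj⟩
    rcases hd.mem_or_order_dvd x with h | h
    · exact h
    · rw [hj] at h
      have hj0 : j = 0 := by
        by_contra hne
        exact hpC ((dvd_pow_self p hne).trans h)
      rw [hj0, pow_zero, orderOf_eq_one_iff] at hj
      rw [hj]; exact N.one_mem
  have hmemP : ∀ (x : X) (hx : ∃ j : ℕ, orderOf x = p ^ j),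
      (⟨x, hmemN x hx⟩ : N) ∈ (P : Subgroup N) := by
    intro x hx
    obtain ⟨j, hj⟩ := hx
    have hpg : IsPGroup p (Subgroup.zpowers (⟨x, hmemN x ⟨j, hj⟩⟩ : N)) := by
      apply IsPGroup.of_card (n := j)
      rw [Nat.card_zpowers, ← Subgroup.orderOf_coe]
      exact hj
    obtain ⟨Q, hQ⟩ := hpg.exists_le_sylow
    have : Q = P := Subsingleton.elim _ _
    rw [this] at hQ
    exact hQ (Subgroup.mem_zpowers _)
  have e : {x : X // ∃ j : ℕ, orderOf x = p ^ j} ≃ (P : Subgroup N) :=
    { toFun := fun x => ⟨⟨x.1, hmemN x.1 x.2⟩, hmemP x.1 x.2⟩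
      invFun := fun y => ⟨y.1.1, by
        obtain ⟨k, hk⟩ := P.2 y
        have h1 : orderOf y ∣ p ^ k := orderOf_dvd_of_pow_eq_one hk
        obtain ⟨i, _, hi⟩ := (Nat.dvd_prime_pow hp.out).mp h1
        refine ⟨i, ?_⟩
        rw [Subgroup.orderOf_coe, Subgroup.orderOf_coe]
        exact hi⟩
      left_inv := fun x => rfl
      right_inv := fun y => rfl }
  rw [Nat.card_congr e, P.card_eq_multiplicity]
  congr 1
  rw [← hd.card_mul, Nat.factorization_mul Nat.card_pos.ne' Nat.card_pos.ne']
  simp [Nat.factorization_eq_zero_of_not_dvd hpC]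

theorem solvable_iff : Group.IsSolvable X ↔ Group.IsSolvable C := by
  constructor
  · intro h
    exact Group.isSolvable_of_isSolvable_injective C.subtype_injective
  · intro h
    haveI := hd.normal
    haveI := hd.nilp
    haveI : Group.IsSolvable N := inferInstance
    have hsurj : Function.Surjective ((QuotientGroup.mk' N).comp C.subtype) := by
      intro q
      obtain ⟨x, rfl⟩ := QuotientGroup.mk'_surjective N q
      obtain ⟨⟨n, c⟩, hnc, _⟩ := hd.compl.existsUnique x
      refine ⟨c, ?_⟩
      have hx : x = n.1 * c.1 := hnc.symm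
      show (QuotientGroup.mk (c : X) : X ⧸ N) = QuotientGroup.mk x
      rw [hx, QuotientGroup.mk_mul, (QuotientGroup.eq_one_iff (n : X)).mpr n.2, one_mul]
    haveI : Group.IsSolvable (X ⧸ N) := solvable_of_surjective hsurj
    refine Group.isSolvable_of_ker_le_range N.subtype (QuotientGroup.mk' N) ?_
    rw [QuotientGroup.ker_mk', Subgroup.range_subtype]

end FrobData

end Cfsg.Agent.Lib.Helper2.Ot
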