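import Mathlib
import Cfsg.Agent.Lib.Helper2.OtB
import Cfsg.Agent.Lib.Helper2.OtC

set_option autoImplicit false

/-! A finite group with the same order type as a Frobenius group is a Frobenius group, and it
is solvable iff the Frobenius group is. -/

namespace Cfsg.Agent.Lib.Helper2.Ot

universe u v

open Pointwise
open Cfsg.Agent.Lib.Helper1

section general

variable {G : Type v} [Group G] [Finite G]

/-- normal subgroups of coprime orders: the order of the join is the product -/
theorem card_sup_of_coprime (M Q : Subgroup G) [hM : M.Normal] [hQ : Q.Normal]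
    (hco : (Nat.card M).Coprime (Nat.card Q)) :
    Nat.card (M ⊔ Q : Subgroup G) = Nat.card M * Nat.card Q := by
  have hdis : Disjoint M Q := by
    rw [disjoint_iff]; exact Subgroup.inf_eq_bot_of_coprime hco
  have hcm : ∀ (m : M) (q : Q), Commute (M.subtype m) (Q.subtype q) :=
    fun m q => Subgroup.commute_of_normal_of_disjoint M Q hM hQ hdis m.1 q.1 m.2 q.2
  let φ : M × Q →* G := MonoidHom.noncommCoprod M.subtype Q.subtype hcm
  have hφ : ∀ y : M × Q, φ y = y.1.1 * y.2.1 := fun y => rfl
  have hinj : Function.Injective φ := by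
    rw [injective_iff_map_eq_one]
    rintro ⟨n, x⟩ h
    have h1 : n.1 * x.1 = 1 := (hφ (n, x)).symm.trans h
    have hn : n.1 ∈ Q := by
      have : n.1 = x.1⁻¹ := eq_inv_of_mul_eq_one_left h1
      rw [this]; exact Q.inv_mem x.2
    have hn1 : n.1 = 1 := Subgroup.disjoint_def.mp hdis n.2 hn
    have hx1 : x.1 = 1 := by rw [hn1, one_mul] at h1; exact h1
    exact Prod.ext (Subtype.ext hn1) (Subtype.ext hx1)
  have hrange : φ.range = M ⊔ Q := by
    show (MonoidHom.noncommCoprod M.subtype Q.subtype hcm).range = M ⊔ Q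
    rw [MonoidHom.noncommCoprod_range, Subgroup.range_subtype, Subgroup.range_subtype]
  rw [← hrange, ← Nat.card_congr (MonoidHom.ofInjective hinj).toEquiv, Nat.card_prod]

/-- if the Sylow `p`-subgroups are normal for all primes `p ∣ k`, there is a normal subgroup
of order `∏ p ^ v_p(k)` -/
theorem exists_normal_of_sylow_normal (k : ℕ)
    (hsyl : ∀ (p : ℕ) [Fact p.Prime], p ∣ k → ∃ Q : Subgroup G, Q.Normal ∧
      Nat.card Q = p ^ k.factorization p) (s : Finset ℕ) (hs : ∀ p ∈ s, p.Prime ∧ p ∣ k) :
    ∃ M : Subgroup G, M.Normal ∧ Nat.card M = ∏ p ∈ s, p ^ k.factorization p := by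
  classical
  induction s using Finset.induction_on with
  | empty => exact ⟨⊥, inferInstance, by simp⟩
  | insert q s hq ih =>
    obtain ⟨M, hMn, hMc⟩ := ih (fun p hp => hs p (Finset.mem_insert_of_mem hp))
    obtain ⟨hqp, hqk⟩ := hs q (Finset.mem_insert_self q s)
    haveI : Fact q.Prime := ⟨hqp⟩
    obtain ⟨Q, hQn, hQc⟩ := hsyl q hqk
    have hco : (Nat.card M).Coprime (Nat.card Q) := by
      rw [hMc, hQc]
      apply Nat.Coprime.prod_left
      intro p hp
      have hpp := (hs p (Finset.mem_insert_of_mem hp)).1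
      have hne : p ≠ q := fun h => hq (h ▸ hp)
      exact Nat.Coprime.pow _ _ ((Nat.coprime_primes hpp hqp).mpr hne)
    refine ⟨M ⊔ Q, inferInstance, ?_⟩
    rw [card_sup_of_coprime M Q hco, hMc, hQc, Finset.prod_insert hq, mul_comm]

end general

section main

variable {F : Type u} {G : Type v} [Group F] [Finite F] [Group G] [Finite G]

theorem exists_order_equiv
    (hT : ∀ m : ℕ, Nat.card {g : F // orderOf g = m} = Nat.card {h : G // orderOf h = m}) :
    ∃ e : F ≃ G, ∀ x, orderOf (e x) = orderOf x := by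
  have h : ∀ m : ℕ, Nonempty ({g : F // orderOf g = m} ≃ {h : G // orderOf h = m}) :=
    fun m => Finite.card_eq.mp (hT m)
  refine ⟨Equiv.ofFiberEquiv (fun m => Classical.choice (h m)), fun x => ?_⟩
  exact Equiv.ofFiberEquiv_map _ x

theorem main_of_equiv (C : Subgroup F) (hC : Cfsg.IsFrobeniusComplement C) (e : F ≃ G)
    (he : ∀ x, orderOf (e x) = orderOf x) :
    (∃ H : Subgroup G, Cfsg.IsFrobeniusComplement H) ∧
      (Group.IsSolvable G ↔ Group.IsSolvable F) := by
  classical
  obtain ⟨N, hd⟩ := exists_frobData C hC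
  obtain ⟨k, hk⟩ : ∃ k, k = Nat.card N := ⟨_, rfl⟩
  obtain ⟨c, hc⟩ : ∃ c, c = Nat.card C := ⟨_, rfl⟩
  have hkc : k * c = Nat.card F := by rw [hk, hc]; exact hd.card_mul
  have hcardG : Nat.card G = k * c := by rw [hkc]; exact (Nat.card_congr e).symm
  have hcop : k.Coprime c := by rw [hk, hc]; exact hd.coprime
  have hk1 : 1 < k := by rw [hk]; exact hd.one_lt_card_N
  have hc1 : 1 < c := by rw [hc]; exact hd.one_lt_card_C
  have hk0 : k ≠ 0 := by omega
  have hc0 : c ≠ 0 := by omega
  have hordG : ∀ y : G, orderOf y ∣ k ∨ orderOf y ∣ c := by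
    intro y
    have h1 : orderOf y = orderOf (e.symm y) := by
      rw [← he (e.symm y), Equiv.apply_symm_apply]
    rw [h1, hk, hc]
    exact hd.order_dvd _
  have htrans : ∀ (Q : ℕ → Prop), Nat.card {x : F // Q (orderOf x)} =
      Nat.card {y : G // Q (orderOf y)} := fun Q =>
    Nat.card_congr (e.subtypeEquiv (fun x => by rw [he]))
  -- Sylow subgroups for primes dividing k are unique
  have hsyl : ∀ (p : ℕ) [Fact p.Prime], p ∣ k → ∃ Q : Subgroup G, Q.Normal ∧
      Nat.card Q = p ^ k.factorization p := by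
    intro p hp hpk
    have hpN : p ∣ Nat.card N := hk ▸ hpk
    have hcount : Nat.card {y : G // ∃ j : ℕ, orderOf y = p ^ j} =
        p ^ (Nat.card G).factorization p := by
      rw [← htrans (fun n => ∃ j : ℕ, n = p ^ j), hd.pelement_count p hpN,
        Nat.card_congr e]
    have hsub : ∀ Q : Sylow p G, ((Q : Subgroup G) : Set G) =
        {y : G | ∃ j : ℕ, orderOf y = p ^ j} := by
      intro Q
      apply Set.eq_of_subset_of_ncard_le
      · intro y hy
        obtain ⟨j, hj⟩ := Q.2 ⟨y, hy⟩
        have h1 : orderOf (⟨y, hy⟩ : (Q : Subgroup G)) ∣ p ^ j := orderOf_dvd_of_pow_eq_one hj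
        obtain ⟨i, _, hi⟩ := (Nat.dvd_prime_pow hp.out).mp h1
        refine ⟨i, ?_⟩
        rw [← hi, ← Subgroup.orderOf_coe]
      · rw [← Nat.card_coe_set_eq, ← Nat.card_coe_set_eq]
        show Nat.card {y : G // ∃ j : ℕ, orderOf y = p ^ j} ≤ Nat.card (Q : Subgroup G)
        rw [hcount, Q.card_eq_multiplicity]
      · exact Set.toFinite _
    haveI : Subsingleton (Sylow p G) := ⟨fun Q Q' => by
      apply Sylow.ext
      exact SetLike.coe_injective ((hsub Q).trans (hsub Q').symm)⟩
    let Q : Sylow p G := default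
    refine ⟨Q, Sylow.normal_of_subsingleton Q, ?_⟩
    rw [Q.card_eq_multiplicity, hcardG, Nat.factorization_mul hk0 hc0]
    have hpc : ¬ p ∣ c := by
      intro h
      have := Nat.dvd_gcd hpk h
      rw [hcop] at this
      exact hp.out.one_lt.ne' (Nat.dvd_one.mp this)
    simp [Nat.factorization_eq_zero_of_not_dvd hpc]
  -- the normal Hall subgroup
  obtain ⟨M, hMn, hMc⟩ := exists_normal_of_sylow_normal (G := G) k hsyl k.primeFactors
    (fun p hp => ⟨Nat.prime_of_mem_primeFactors hp, Nat.dvd_of_mem_primeFactors hp⟩)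
  have hMk : Nat.card M = k := by
    rw [hMc]
    have := Nat.factorization_prod_pow_eq_self hk0
    rw [Finsupp.prod, Nat.support_factorization] at this
    exact this
  have hMidx : M.index = c := by
    have h1 := M.card_mul_index
    rw [hMk, hcardG] at h1
    exact Nat.eq_of_mul_eq_mul_left (by omega) h1
  haveI := hMn
  obtain ⟨H, hH⟩ := Subgroup.exists_right_complement'_of_coprime (N := M)
    (by rw [hMk, hMidx]; exact hcop)
  have hHc : Nat.card H = c := by
    have h1 := hH.card_mul_card
    rw [hMk, hcardG] at h1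
    exact Nat.eq_of_mul_eq_mul_left (by omega) h1
  have hMne : M ≠ ⊥ := by
    rw [← Subgroup.one_lt_card_iff_ne_bot, hMk]; exact hk1
  have hHne : H ≠ ⊥ := by
    rw [← Subgroup.one_lt_card_iff_ne_bot, hHc]; exact hc1
  have hfpf : ∀ h ∈ H, h ≠ 1 → M ⊓ Subgroup.centralizer {h} = ⊥ := by
    intro h hh hh1
    rw [eq_bot_iff]
    rintro u ⟨huM, huc⟩
    rw [Subgroup.mem_bot]
    have hcomm : Commute h u := by
      have huc' : u ∈ Subgroup.centralizer {h} := huc
      rw [Subgroup.mem_centralizer_iff] at huc'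
      exact huc' h (Set.mem_singleton h)
    have hoh : orderOf h ∣ c := hHc ▸ Subgroup.orderOf_dvd_natCard H hh
    have hou : orderOf u ∣ k := hMk ▸ Subgroup.orderOf_dvd_natCard M huM
    have hco : (orderOf h).Coprime (orderOf u) :=
      Nat.Coprime.coprime_dvd_left hoh (Nat.Coprime.coprime_dvd_right hou hcop.symm)
    have hmul := hcomm.orderOf_mul_eq_mul_orderOf_of_coprime hco
    rcases hordG (h * u) with hdk | hdc
    · exfalso
      rw [hmul] at hdk
      have h1 : orderOf h ∣ k := (Dvd.intro _ rfl).trans hdk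
      have h2 : orderOf h ∣ Nat.gcd k c := Nat.dvd_gcd h1 hoh
      rw [hcop, Nat.dvd_one, orderOf_eq_one_iff] at h2
      exact hh1 h2
    · rw [hmul] at hdc
      have h1 : orderOf u ∣ c := (Dvd.intro_left _ rfl).trans hdc
      have h2 : orderOf u ∣ Nat.gcd k c := Nat.dvd_gcd hou h1
      rw [hcop, Nat.dvd_one, orderOf_eq_one_iff] at h2
      exact h2
  have hHfrob : Cfsg.IsFrobeniusComplement H :=
    (frobenius_iff_fpf M H hH hMne hHne).mpr hfpf
  refine ⟨⟨H, hHfrob⟩, ?_⟩
  -- solvability
  obtain ⟨N', hd'⟩ := exists_frobData H hHfrob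
  have hN'k : Nat.card N' = k := by
    have h1 := hd'.card_mul
    rw [hHc, hcardG] at h1
    exact Nat.eq_of_mul_eq_mul_right (by omega) h1
  rw [hd'.solvable_iff, hd.solvable_iff]
  have hFC_C := hFC_of_frobenius C hC
  have hFC_H := hFC_of_frobenius H hHfrob
  have hcardCH : Nat.card C = Nat.card H := by rw [← hc, hHc]
  have hcnt : Nat.card {x : C // orderOf x = 5} = Nat.card {x : H // orderOf x = 5} := by
    by_cases h5 : (5 : ℕ).Coprime k
    · have h1 := hd.count_coprime 5 (by norm_num) (hk ▸ h5)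
      have h2 := hd'.count_coprime 5 (by norm_num) (hN'k.symm ▸ h5)
      rw [hd.index_eq, ← hk] at h1
      rw [hd'.index_eq, hN'k] at h2
      have h3 := htrans (fun n => n = 5)
      rw [h1, h2] at h3
      exact Nat.eq_of_mul_eq_mul_left (by omega) h3
    · have h5k : 5 ∣ k := by
        rwa [Nat.Prime.coprime_iff_not_dvd (by norm_num), not_not] at h5
      have h5c : ¬ 5 ∣ c := by
        intro h
        have := Nat.dvd_gcd h5k h
        rw [hcop] at this
        omega
      have hE1 : IsEmpty {x : C // orderOf x = 5} := by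
        constructor
        rintro ⟨x, hx⟩
        exact h5c (hc ▸ hx ▸ orderOf_dvd_natCard x)
      have hE2 : IsEmpty {x : H // orderOf x = 5} := by
        constructor
        rintro ⟨x, hx⟩
        exact h5c (hHc ▸ hx ▸ orderOf_dvd_natCard x)
      rw [Nat.card_of_isEmpty, Nat.card_of_isEmpty]
  exact ⟨fun hs => solvable_transfer hFC_H hFC_C hcardCH.symm hcnt.symm hs,
    fun hs => solvable_transfer hFC_C hFC_H hcardCH hcnt hs⟩

end main

end Cfsg.Agent.Lib.Helper2.Ot
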