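import Mathlib

/-! S2459 farm, pieces L0 and H1: generic linear algebra. -/

set_option autoImplicit false
set_option linter.unusedVariables false
set_option linter.unusedSectionVars false
set_option linter.style.longLine false
set_option linter.style.haveILetI false

namespace Cfsg.Agent.Lib.Helper2.P3T

open Matrix Module

universe u v

variable {K : Type v} [Field K] {V : Type u} [AddCommGroup V] [Module K V]

/-- L0: a non-scalar endomorphism moves some vector off its line. -/
theorem exists_not_mem_span_of_nonscalar (g : Module.End K V) (hg : ∀ a : K, g ≠ a • (1 : Module.End K V)) :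
    ∃ v : V, g v ∉ Submodule.span K {v} := by
  by_contra hcon
  push Not at hcon
  -- every vector is an eigenvector
  have hc : ∀ v : V, ∃ c : K, g v = c • v := by
    intro v
    obtain ⟨c, hc⟩ := Submodule.mem_span_singleton.mp (hcon v)
    exact ⟨c, hc.symm⟩
  choose c hc using hc
  by_cases hV : ∀ v : V, v = 0
  · apply hg 0
    apply LinearMap.ext
    intro v
    rw [hV v]
    simp
  push Not at hV
  obtain ⟨v0, hv0⟩ := hV
  apply hg (c v0)
  apply LinearMap.ext
  intro w
  show g w = (c v0 • (1 : Module.End K V)) w
  rw [LinearMap.smul_apply, Module.End.one_apply]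
  by_cases hw : w = 0
  · rw [hw]; simp
  -- compare c w and c v0
  by_cases hdep : w ∈ Submodule.span K {v0}
  · obtain ⟨t, rfl⟩ := Submodule.mem_span_singleton.mp hdep
    rw [map_smul, hc v0, smul_comm]
  · -- independent
    have h1 : g (v0 + w) = c (v0 + w) • (v0 + w) := hc _
    rw [map_add, hc v0, hc w, smul_add] at h1
    have h2 : (c v0 - c (v0 + w)) • v0 = (c (v0 + w) - c w) • w := by
      rw [sub_smul, sub_smul]
      have : c v0 • v0 + c w • w = c (v0 + w) • v0 + c (v0 + w) • w := h1
      rw [sub_eq_sub_iff_add_eq_add]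
      rw [add_comm (c (v0 + w) • w)]
      rw [← this]
    by_cases h3 : c (v0 + w) - c w = 0
    · have h4 : (c v0 - c (v0 + w)) • v0 = 0 := by rw [h2, h3, zero_smul]
      rcases smul_eq_zero.mp h4 with h5 | h5
      · have : c w = c v0 := by
          have e1 : c (v0 + w) = c w := sub_eq_zero.mp h3
          have e2 : c v0 = c (v0 + w) := sub_eq_zero.mp h5
          rw [e2, e1]
        rw [hc w, this]
      · exact absurd h5 hv0
    · exfalso
      apply hdep
      refine Submodule.mem_span_singleton.mpr ⟨(c (v0 + w) - c w)⁻¹ * (c v0 - c (v0 + w)), ?_⟩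
      rw [mul_smul, h2, smul_smul, inv_mul_cancel₀ h3, one_smul]

/-- H1: a linearly independent family of the right size is a basis, and the matrix of `g` is read off columnwise. -/
theorem exists_basis_toMatrix {n : ℕ} [FiniteDimensional K V] (hn : Module.finrank K V = n) (w : Fin n → V)
    (hli : LinearIndependent K w) (g : Module.End K V) (M : Matrix (Fin n) (Fin n) K)
    (hcol : ∀ j, g (w j) = ∑ i, M i j • w i) :
    ∃ b : Module.Basis (Fin n) K V, (∀ i, b i = w i) ∧ LinearMap.toMatrix b b g = M := by
  rcases Nat.eq_zero_or_pos n with h0 | hpos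
  · subst h0
    haveI : Subsingleton V := Module.finrank_zero_iff.mp hn
    refine ⟨Module.Basis.empty V, fun i => i.elim0, ?_⟩
    ext i j
    exact i.elim0
  haveI : Nonempty (Fin n) := ⟨⟨0, hpos⟩⟩
  have hcard : Fintype.card (Fin n) = Module.finrank K V := by simp [hn]
  let b : Module.Basis (Fin n) K V := basisOfLinearIndependentOfCardEqFinrank hli hcard
  have hb : ∀ i, b i = w i := fun i => by
    show (basisOfLinearIndependentOfCardEqFinrank hli hcard) i = w i
    rw [coe_basisOfLinearIndependentOfCardEqFinrank]
  refine ⟨b, hb, ?_⟩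
  ext i j
  rw [LinearMap.toMatrix_apply, hb j, hcol j]
  have : (∑ i, M i j • w i) = ∑ i, M i j • b i := by
    apply Finset.sum_congr rfl
    intro i _
    rw [hb i]
  rw [this, Module.Basis.repr_sum_self]

end Cfsg.Agent.Lib.Helper2.P3T
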