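import Mathlib

/-! S2459 (a semisimple class `C` of `PSL_3(q)`, `q ≥ 3`, with `C * C ⊇ G \ 1`): core definitions.
Strategy. `q ≥ 4`: `x = diag(1, l, l⁻¹)` with `l² ≠ 1`; every non-scalar `g` of determinant one is conjugate to a
matrix `M = L * U` (leading principal minors `1`), and `M = (L * D) * (D⁻¹ * U)` with both factors triangular with
the distinct eigenvalues `1, l, l⁻¹`.  `q = 3`: `x` of order `4`; every non-scalar `g` is conjugate to a companion
matrix or to one of two explicit matrices, and `11` explicit factorizations finish. -/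

set_option autoImplicit false
set_option linter.unusedVariables false
set_option linter.unusedSectionVars false
set_option linter.style.longLine false

namespace Cfsg.Agent.Lib.Helper2.P3T

open Matrix

/-- every non-central element is a product of two conjugates of `x`. -/
def TwoConj {G : Type*} [Group G] (x : G) : Prop :=
  ∀ g : G, g ∉ Subgroup.center G → ∃ u v : G, g = (u * x * u⁻¹) * (v * x * v⁻¹)

variable {F : Type*} [Field F]

/-- the diagonal matrix `diag(1, l, l⁻¹)`. -/
def Dm (l : F) : Matrix (Fin 3) (Fin 3) F := !![1, 0, 0; 0, l, 0; 0, 0, l⁻¹]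

/-- the first two leading principal minors are `1`. -/
def LUform (M : Matrix (Fin 3) (Fin 3) F) : Prop :=
  M 0 0 = 1 ∧ M 0 0 * M 1 1 - M 0 1 * M 1 0 = 1

/-- companion matrix with constant term `1`. -/
def Comp (c1 c2 : F) : Matrix (Fin 3) (Fin 3) F := !![0, 0, 1; 1, 0, c1; 0, 1, c2]

/-- a transvection. -/
def T1 : Matrix (Fin 3) (Fin 3) F := !![1, 1, 0; 0, 1, 0; 0, 0, 1]

/-- `diag(1, -1, -1)`. -/
def T2 : Matrix (Fin 3) (Fin 3) F := !![1, 0, 0; 0, -1, 0; 0, 0, -1]

/-- an element of order four. -/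
def X3 : Matrix (Fin 3) (Fin 3) F := !![1, 0, 0; 0, 0, -1; 0, 1, 0]

theorem det_Dm {l : F} (hl : l ≠ 0) : (Dm l).det = 1 := by
  simp [Dm, Matrix.det_fin_three, hl]

theorem det_X3 : (X3 : Matrix (Fin 3) (Fin 3) F).det = 1 := by
  simp [X3, Matrix.det_fin_three]

/-- `diag(1, l, l⁻¹)` in `SL_3`. -/
def DSL (l : F) (hl : l ≠ 0) : Matrix.SpecialLinearGroup (Fin 3) F := ⟨Dm l, det_Dm hl⟩

/-- the element of order four in `SL_3`. -/
def X3SL : Matrix.SpecialLinearGroup (Fin 3) F := ⟨X3, det_X3⟩

end Cfsg.Agent.Lib.Helper2.P3T
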