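import Mathlib
import Cfsg.Agent.Lib.Helper2.P3TDefs
import Cfsg.Agent.Lib.Helper2.P3TBasis
import Cfsg.Agent.Lib.Helper9.P3TConj
import Cfsg.Agent.Lib.Helper6.P3TConjLU
import Cfsg.Agent.Lib.Helper7.P3TSd
import Cfsg.Agent.Lib.Helper4.P3TTransv

/-! S2459, Part A (`q ≥ 4`): every non-central element of `SL_3(K)` is a product of two conjugates of `diag(1, l, l⁻¹)`. -/

set_option autoImplicit false
set_option linter.unusedVariables false
set_option linter.unusedSectionVars false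
set_option linter.style.longLine false
set_option linter.style.haveILetI false

namespace Cfsg.Agent.Lib.Helper2.P3T


open Matrix Module

universe u v

variable {K : Type v} [Field K]

open Cfsg.Agent.Lib.Helper2.Lev

theorem eq_conj_of_mul_eq (A B : Matrix (Fin 3) (Fin 3) K) (N : Matrix.SpecialLinearGroup (Fin 3) K)
    (h : A * (N : Matrix (Fin 3) (Fin 3) K) = (N : Matrix (Fin 3) (Fin 3) K) * B) :
    A = (N : Matrix (Fin 3) (Fin 3) K) * B * ((N⁻¹ : Matrix.SpecialLinearGroup (Fin 3) K) : Matrix (Fin 3) (Fin 3) K) := by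
  have h1 : (N : Matrix (Fin 3) (Fin 3) K) * ((N⁻¹ : Matrix.SpecialLinearGroup (Fin 3) K) : Matrix (Fin 3) (Fin 3) K) = 1 := by
    rw [← Matrix.SpecialLinearGroup.coe_mul, mul_inv_cancel, Matrix.SpecialLinearGroup.coe_one]
  rw [← h, Matrix.mul_assoc, h1, Matrix.mul_one]

theorem nonscalar_of_not_mem_center (G : Matrix.SpecialLinearGroup (Fin 3) K)
    (hG : G ∉ Subgroup.center (Matrix.SpecialLinearGroup (Fin 3) K)) :
    ∀ c : K, (G : Matrix (Fin 3) (Fin 3) K) ≠ c • (1 : Matrix (Fin 3) (Fin 3) K) := by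
  intro c hc
  apply hG
  rw [Matrix.SpecialLinearGroup.mem_center_iff]
  refine ⟨c, ?_, ?_⟩
  · have h1 := G.det_coe
    rw [hc, Matrix.det_smul, Matrix.det_one, mul_one] at h1
    simpa using h1
  · rw [hc]
    ext i j
    simp [Matrix.scalar_apply, Matrix.diagonal_apply, Matrix.one_apply]

theorem lu_twist (M : Matrix (Fin 3) (Fin 3) K) (hdet : M.det = 1) (hM : LUform M) (l : K) (hl0 : l ≠ 0)
    (hl : l ^ 2 ≠ 1) :
    ∃ N₁ N₂ : Matrix.SpecialLinearGroup (Fin 3) K,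
      M = ((N₁ : Matrix (Fin 3) (Fin 3) K) * Dm l * ((N₁⁻¹ : Matrix.SpecialLinearGroup (Fin 3) K) : Matrix (Fin 3) (Fin 3) K)) *
        ((N₂ : Matrix (Fin 3) (Fin 3) K) * Dm l * ((N₂⁻¹ : Matrix.SpecialLinearGroup (Fin 3) K) : Matrix (Fin 3) (Fin 3) K)) := by
  obtain ⟨a, b, c, a', b', c', hLU⟩ := lu_factor M hdet hM
  obtain ⟨N₁, h1⟩ := lower_conj l hl0 hl a b c
  obtain ⟨N₂, h2⟩ := upper_conj l hl0 hl a' b' c'
  refine ⟨N₁, N₂, ?_⟩
  rw [← eq_conj_of_mul_eq _ _ N₁ h1, ← eq_conj_of_mul_eq _ _ N₂ h2, hLU]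
  have hDD : Dm l * !![1, 0, 0; 0, l⁻¹, 0; 0, 0, l] = 1 := by
    ext i j
    fin_cases i <;> fin_cases j <;> simp [Dm, Matrix.mul_apply, Fin.sum_univ_three, hl0]
  rw [Matrix.mul_assoc (!![1, 0, 0; a, 1, 0; b, c, 1]) (Dm l), ← Matrix.mul_assoc (Dm l), hDD, Matrix.one_mul]

theorem conj_LU_of_nonscalar (hK : 4 ≤ Cardinal.mk K) (G : Matrix (Fin 3) (Fin 3) K) (hdet : G.det = 1)
    (hns : ∀ c : K, G ≠ c • (1 : Matrix (Fin 3) (Fin 3) K)) :
    ∃ P : Matrix.SpecialLinearGroup (Fin 3) K,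
      LUform ((P : Matrix (Fin 3) (Fin 3) K) * G * ((P⁻¹ : Matrix.SpecialLinearGroup (Fin 3) K) : Matrix (Fin 3) (Fin 3) K)) := by
  set g : Module.End K (Fin 3 → K) := Matrix.toLin' G with hgdef
  have h3 : Module.finrank K (Fin 3 → K) = 3 := by simp
  have hdetg : LinearMap.det g = 1 := by rw [hgdef, LinearMap.det_toLin']; exact hdet
  have hnsg : ∀ a : K, g ≠ a • (1 : Module.End K (Fin 3 → K)) := by
    intro a h
    apply hns a
    apply Matrix.toLin'.injective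
    rw [← hgdef, h, map_smul, Matrix.toLin'_one]
    rfl
  obtain ⟨b, hb⟩ : ∃ b : Module.Basis (Fin 3) K (Fin 3 → K), LUform (LinearMap.toMatrix b b g) := by
    by_cases hgood : Good g
    · obtain ⟨sd, y, hy⟩ := exists_sd_vec hK h3 g hdetg hgood
      exact basis_of_sd h3 g sd y hy
    · unfold Good at hgood
      push Not at hgood
      obtain ⟨x, α, hxα⟩ := hgood hnsg
      have hg1 : g ≠ 1 := by
        intro h
        exact hnsg 1 (by rw [h, one_smul])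
      obtain ⟨b, hb⟩ := basis_of_transv h3 g hdetg x α hxα hg1
      refine ⟨b, ?_⟩
      rw [hb]
      simp [LUform, T1]
  obtain ⟨P, hP⟩ := conj_of_basis G b
  exact sl_conj_LU G P (by rw [hP]; exact hb)

theorem twoConj_D (hK : 4 ≤ Cardinal.mk K) (l : K) (hl0 : l ≠ 0) (hl : l ^ 2 ≠ 1) : TwoConj (DSL l hl0) := by
  intro G hG
  have hns := nonscalar_of_not_mem_center G hG
  obtain ⟨P, hP⟩ := conj_LU_of_nonscalar hK G G.det_coe hns
  have hMdet : ((P : Matrix (Fin 3) (Fin 3) K) * G * ((P⁻¹ : Matrix.SpecialLinearGroup (Fin 3) K) : Matrix (Fin 3) (Fin 3) K)).det = 1 := by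
    have := (P * G * P⁻¹).det_coe
    simpa using this
  obtain ⟨N₁, N₂, hM⟩ := lu_twist _ hMdet hP l hl0 hl
  have hM' : P * G * P⁻¹ = N₁ * DSL l hl0 * N₁⁻¹ * (N₂ * DSL l hl0 * N₂⁻¹) := by
    apply Subtype.ext
    simp only [Matrix.SpecialLinearGroup.coe_mul]
    exact hM
  refine ⟨P⁻¹ * N₁, P⁻¹ * N₂, ?_⟩
  have : G = P⁻¹ * (P * G * P⁻¹) * P := by group
  rw [this, hM']
  group


end Cfsg.Agent.Lib.Helper2.P3T
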