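import Mathlib

/-! S2459 farm, pieces B5 and B6: `GL_3(3) = ± SL_3(3)` and the isomorphism of special linear groups induced by a
ring isomorphism. -/

set_option autoImplicit false
set_option linter.unusedVariables false
set_option linter.unusedSectionVars false
set_option linter.style.longLine false
set_option linter.style.haveILetI false

namespace Cfsg.Agent.Lib.Helper2.P3T

open Matrix Module

theorem zmod3_unit : ∀ a : ZMod 3, a ≠ 0 → a = 1 ∨ a = -1 := by decide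

/-- B5 -/
theorem sl_of_gl_three (P : GL (Fin 3) (ZMod 3)) :
    ∃ P' : Matrix.SpecialLinearGroup (Fin 3) (ZMod 3), ∀ A : Matrix (Fin 3) (Fin 3) (ZMod 3),
      (P' : Matrix (Fin 3) (Fin 3) (ZMod 3)) * A * ((P'⁻¹ : Matrix.SpecialLinearGroup (Fin 3) (ZMod 3)) : Matrix (Fin 3) (Fin 3) (ZMod 3)) =
        (P : Matrix (Fin 3) (Fin 3) (ZMod 3)) * A * ((P⁻¹ : GL (Fin 3) (ZMod 3)) : Matrix (Fin 3) (Fin 3) (ZMod 3)) := by
  have hdet : (P : Matrix (Fin 3) (Fin 3) (ZMod 3)).det ≠ 0 := by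
    have h := Matrix.GeneralLinearGroup.det_ne_zero P
    exact h
  have hPP : (P : Matrix (Fin 3) (Fin 3) (ZMod 3)) * ((P⁻¹ : GL (Fin 3) (ZMod 3)) : Matrix (Fin 3) (Fin 3) (ZMod 3)) = 1 := by
    rw [← Matrix.GeneralLinearGroup.coe_mul, mul_inv_cancel]
    rfl
  -- a general principle: if `Q` has determinant one and `Q * A * Q'` with `Q * Q' = 1` ...
  have key : ∀ (Q Q' : Matrix (Fin 3) (Fin 3) (ZMod 3)) (hQ : Q.det = 1), Q * Q' = 1 →
      ((⟨Q, hQ⟩ : Matrix.SpecialLinearGroup (Fin 3) (ZMod 3))⁻¹ : Matrix.SpecialLinearGroup (Fin 3) (ZMod 3)).1 = Q' := by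
    intro Q Q' hQ hQQ
    set T : Matrix.SpecialLinearGroup (Fin 3) (ZMod 3) := ⟨Q, hQ⟩ with hT
    have h1 : Q * (T⁻¹).1 = 1 := by
      have h0 : T * T⁻¹ = 1 := mul_inv_cancel T
      have h2 := congrArg Subtype.val h0
      rw [Matrix.SpecialLinearGroup.coe_mul] at h2
      exact h2
    have hQ'Q : Q' * Q = 1 := mul_eq_one_comm.mp hQQ
    calc (T⁻¹).1 = (Q' * Q) * (T⁻¹).1 := by rw [hQ'Q, Matrix.one_mul]
      _ = Q' := by rw [Matrix.mul_assoc, h1, Matrix.mul_one]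
  rcases zmod3_unit _ hdet with h1 | h1
  · refine ⟨⟨(P : Matrix (Fin 3) (Fin 3) (ZMod 3)), h1⟩, ?_⟩
    intro A
    have := key _ _ h1 hPP
    show (P : Matrix (Fin 3) (Fin 3) (ZMod 3)) * A * ((⟨(P : Matrix (Fin 3) (Fin 3) (ZMod 3)), h1⟩ : Matrix.SpecialLinearGroup (Fin 3) (ZMod 3))⁻¹ : Matrix.SpecialLinearGroup (Fin 3) (ZMod 3)).1 = _
    rw [this]
  · have hneg : (-(P : Matrix (Fin 3) (Fin 3) (ZMod 3))).det = 1 := by
      rw [Matrix.det_neg, h1]
      decide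
    have hPP' : (-(P : Matrix (Fin 3) (Fin 3) (ZMod 3))) * (-((P⁻¹ : GL (Fin 3) (ZMod 3)) : Matrix (Fin 3) (Fin 3) (ZMod 3))) = 1 := by
      rw [neg_mul_neg, hPP]
    refine ⟨⟨-(P : Matrix (Fin 3) (Fin 3) (ZMod 3)), hneg⟩, ?_⟩
    intro A
    have := key _ _ hneg hPP'
    show (-(P : Matrix (Fin 3) (Fin 3) (ZMod 3))) * A * ((⟨-(P : Matrix (Fin 3) (Fin 3) (ZMod 3)), hneg⟩ : Matrix.SpecialLinearGroup (Fin 3) (ZMod 3))⁻¹ : Matrix.SpecialLinearGroup (Fin 3) (ZMod 3)).1 = _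
    rw [this]
    rw [Matrix.neg_mul, Matrix.neg_mul, Matrix.mul_neg, neg_neg]

/-- B6 -/
noncomputable def slEquiv {R S : Type*} [CommRing R] [CommRing S] (n : Type*) [Fintype n] [DecidableEq n] (e : R ≃+* S) :
    Matrix.SpecialLinearGroup n R ≃* Matrix.SpecialLinearGroup n S where
  toFun := Matrix.SpecialLinearGroup.map e.toRingHom
  invFun := Matrix.SpecialLinearGroup.map e.symm.toRingHom
  left_inv := by
    intro A
    apply Subtype.ext
    ext i j
    show e.symm (e (A.1 i j)) = A.1 i j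
    simp
  right_inv := by
    intro A
    apply Subtype.ext
    ext i j
    show e (e.symm (A.1 i j)) = A.1 i j
    simp
  map_mul' := map_mul _

end Cfsg.Agent.Lib.Helper2.P3T
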