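import Mathlib
import Cfsg.Agent.Lib.Helper2.P3TDefs

/-! S2459 farm, piece B4: the eleven explicit factorizations over `ZMod 3`. -/

set_option autoImplicit false
set_option linter.unusedVariables false
set_option linter.unusedSectionVars false
set_option linter.style.longLine false
set_option maxRecDepth 100000

namespace Cfsg.Agent.Lib.Helper2.P3T

open Matrix

theorem rep_witness (R : Matrix (Fin 3) (Fin 3) (ZMod 3))
    (hR : (∃ c1 c2 : ZMod 3, R = Comp c1 c2) ∨ R = T1 ∨ R = T2) :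
    ∃ Y Z u v : Matrix (Fin 3) (Fin 3) (ZMod 3), R = Y * Z ∧ Y * u = u * X3 ∧ Z * v = v * X3 ∧ u.det = 1 ∧ v.det = 1 := by
  rcases hR with ⟨c1, c2, rfl⟩ | rfl | rfl
  · fin_cases c1 <;> fin_cases c2
    · exact ⟨!![-1, 1, 0; 1, 1, 0; 1, 0, 1], !![-1, 0, 1; -1, 0, -1; 1, 1, -1], !![0, 0, 1; 0, 1, 1; -1, 1, 1], !![1, 1, 1; 0, 1, 0; -1, -1, 0], by decide, by decide, by decide, by rw [Matrix.det_fin_three]; decide, by rw [Matrix.det_fin_three]; decide⟩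
    · exact ⟨!![-1, 1, 0; 1, 1, 0; 0, 1, 1], !![-1, 0, 1; -1, 0, -1; 1, 1, -1], !![0, 0, 1; 0, 1, 1; -1, -1, 0], !![1, 1, 1; 0, 1, 0; -1, -1, 0], by decide, by decide, by decide, by rw [Matrix.det_fin_three]; decide, by rw [Matrix.det_fin_three]; decide⟩
    · exact ⟨!![-1, 1, 0; 1, 1, 0; -1, -1, 1], !![-1, 0, 1; -1, 0, -1; 1, 1, -1], !![0, 0, 1; 0, 1, 1; -1, 0, -1], !![1, 1, 1; 0, 1, 0; -1, -1, 0], by decide, by decide, by decide, by rw [Matrix.det_fin_three]; decide, by rw [Matrix.det_fin_three]; decide⟩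
    · exact ⟨!![0, 1, 0; -1, 0, 0; 1, -1, 1], !![-1, 0, -1; 0, 0, 1; 1, 1, -1], !![0, 0, 1; 0, 1, 0; -1, 0, -1], !![1, 1, 1; 1, 0, 1; 1, 1, 0], by decide, by decide, by decide, by rw [Matrix.det_fin_three]; decide, by rw [Matrix.det_fin_three]; decide⟩
    · exact ⟨!![0, 1, 0; -1, 0, 0; 1, 0, 1], !![-1, 0, -1; 0, 0, 1; 1, 1, -1], !![0, 0, 1; 0, 1, 0; -1, 1, 1], !![1, 1, 1; 1, 0, 1; 1, 1, 0], by decide, by decide, by decide, by rw [Matrix.det_fin_three]; decide, by rw [Matrix.det_fin_three]; decide⟩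
    · exact ⟨!![0, 1, 0; -1, 0, 0; 1, 1, 1], !![-1, 0, -1; 0, 0, 1; 1, 1, -1], !![0, 0, 1; 0, 1, 0; -1, -1, 0], !![1, 1, 1; 1, 0, 1; 1, 1, 0], by decide, by decide, by decide, by rw [Matrix.det_fin_three]; decide, by rw [Matrix.det_fin_three]; decide⟩
    · exact ⟨!![0, 1, 0; -1, 0, 0; -1, -1, 1], !![-1, 0, 1; 0, 0, 1; -1, 1, -1], !![0, 0, 1; 0, 1, 0; -1, 1, 0], !![1, 1, 1; -1, 0, -1; -1, -1, 0], by decide, by decide, by decide, by rw [Matrix.det_fin_three]; decide, by rw [Matrix.det_fin_three]; decide⟩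
    · exact ⟨!![0, 1, 0; -1, 0, 0; -1, 0, 1], !![-1, 0, 1; 0, 0, 1; -1, 1, -1], !![0, 0, 1; 0, 1, 0; -1, -1, -1], !![1, 1, 1; -1, 0, -1; -1, -1, 0], by decide, by decide, by decide, by rw [Matrix.det_fin_three]; decide, by rw [Matrix.det_fin_three]; decide⟩
    · exact ⟨!![0, 1, 0; -1, 0, 0; -1, 1, 1], !![-1, 0, 1; 0, 0, 1; -1, 1, -1], !![0, 0, 1; 0, 1, 0; -1, 0, 1], !![1, 1, 1; -1, 0, -1; -1, -1, 0], by decide, by decide, by decide, by rw [Matrix.det_fin_three]; decide, by rw [Matrix.det_fin_three]; decide⟩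
  · exact ⟨!![0, 0, 1; 0, 1, 0; -1, 0, 0], !![0, 0, -1; 0, 1, 0; 1, 1, 0], !![0, 0, 1; 1, 0, 0; 0, 1, 0], !![1, 1, 1; 1, 0, 0; -1, -1, 1], by decide, by decide, by decide, by rw [Matrix.det_fin_three]; decide, by rw [Matrix.det_fin_three]; decide⟩
  · exact ⟨!![1, 0, 0; 0, 0, -1; 0, 1, 0], !![1, 0, 0; 0, 0, -1; 0, 1, 0], !![1, 0, 0; 0, 0, 1; 0, -1, 0], !![1, 0, 0; 0, 0, 1; 0, -1, 0], by decide, by decide, by decide, by rw [Matrix.det_fin_three]; decide, by rw [Matrix.det_fin_three]; decide⟩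

end Cfsg.Agent.Lib.Helper2.P3T
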