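import Mathlib
import Cfsg.Agent.Lib.Helper2.P3TDefs
import Cfsg.Agent.Lib.Helper2.P3TBasis
import Cfsg.Agent.Lib.Helper2.P3TWitness
import Cfsg.Agent.Lib.Helper2.P3TSmall
import Cfsg.Agent.Lib.Helper6.P3TConjLU
import Cfsg.Agent.Lib.Helper6.P3TBases
import Cfsg.Agent.Lib.Helper9.P3TCyc

/-! S2459, Part B (`q = 3`), the transfer and lifting lemmas, and the order computations. -/

set_option autoImplicit false
set_option linter.unusedVariables false
set_option linter.unusedSectionVars false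
set_option linter.style.longLine false
set_option linter.style.haveILetI false

namespace Cfsg.Agent.Lib.Helper2.P3T


open Matrix Module

universe u v

theorem eq_conj_of_mul_eq' {K : Type v} [Field K] (A B : Matrix (Fin 3) (Fin 3) K) (N : Matrix.SpecialLinearGroup (Fin 3) K)
    (h : A * (N : Matrix (Fin 3) (Fin 3) K) = (N : Matrix (Fin 3) (Fin 3) K) * B) :
    A = (N : Matrix (Fin 3) (Fin 3) K) * B * ((N⁻¹ : Matrix.SpecialLinearGroup (Fin 3) K) : Matrix (Fin 3) (Fin 3) K) := by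
  have h1 : (N : Matrix (Fin 3) (Fin 3) K) * ((N⁻¹ : Matrix.SpecialLinearGroup (Fin 3) K) : Matrix (Fin 3) (Fin 3) K) = 1 := by
    rw [← Matrix.SpecialLinearGroup.coe_mul, mul_inv_cancel, Matrix.SpecialLinearGroup.coe_one]
  rw [← h, Matrix.mul_assoc, h1, Matrix.mul_one]

theorem nonscalar_of_not_mem_center' {K : Type v} [Field K] (G : Matrix.SpecialLinearGroup (Fin 3) K)
    (hG : G ∉ Subgroup.center (Matrix.SpecialLinearGroup (Fin 3) K)) :
    ∀ c : K, (G : Matrix (Fin 3) (Fin 3) K) ≠ c • (1 : Matrix (Fin 3) (Fin 3) K) := by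
  intro c hc
  apply hG
  rw [Matrix.SpecialLinearGroup.mem_center_iff]
  refine ⟨c, ?_, ?_⟩
  · have h1 := G.det_coe
    rw [hc, Matrix.det_smul, Matrix.det_one, mul_one] at h1
    simpa using h1
  · rw [hc]
    ext i j
    simp [Matrix.scalar_apply, Matrix.diagonal_apply, Matrix.one_apply]

theorem zmod3_cube : ∀ a : ZMod 3, a * a * a = 1 → a = 1 := by decide

theorem zmod3_diag : ∀ a κ : ZMod 3, κ ≠ 0 → (a + κ) * a * a = 1 → a + κ = 1 ∧ a = -1 := by decide

theorem conj_rep_three (G : Matrix (Fin 3) (Fin 3) (ZMod 3)) (hdet : G.det = 1)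
    (hns : ∀ c : ZMod 3, G ≠ c • (1 : Matrix (Fin 3) (Fin 3) (ZMod 3))) :
    ∃ (P : Matrix.SpecialLinearGroup (Fin 3) (ZMod 3)) (R : Matrix (Fin 3) (Fin 3) (ZMod 3)),
      ((∃ c1 c2 : ZMod 3, R = Comp c1 c2) ∨ R = T1 ∨ R = T2) ∧
      (P : Matrix (Fin 3) (Fin 3) (ZMod 3)) * G * ((P⁻¹ : Matrix.SpecialLinearGroup (Fin 3) (ZMod 3)) : Matrix (Fin 3) (Fin 3) (ZMod 3)) = R := by
  set g : Module.End (ZMod 3) (Fin 3 → ZMod 3) := Matrix.toLin' G with hgdef
  have h3 : Module.finrank (ZMod 3) (Fin 3 → ZMod 3) = 3 := by simp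
  have hdetg : LinearMap.det g = 1 := by rw [hgdef, LinearMap.det_toLin']; exact hdet
  have hnsg : ∀ a : ZMod 3, g ≠ a • (1 : Module.End (ZMod 3) (Fin 3 → ZMod 3)) := by
    intro a h
    apply hns a
    apply Matrix.toLin'.injective
    rw [← hgdef, h, map_smul, Matrix.toLin'_one]
    rfl
  have hK : ∃ c : ZMod 3, c ≠ 0 ∧ c ≠ 1 := ⟨2, by decide, by decide⟩
  obtain ⟨b, hb⟩ : ∃ b : Module.Basis (Fin 3) (ZMod 3) (Fin 3 → ZMod 3),
      (∃ c1 c2 : ZMod 3, LinearMap.toMatrix b b g = Comp c1 c2) ∨ LinearMap.toMatrix b b g = T1 ∨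
        LinearMap.toMatrix b b g = T2 := by
    rcases cyclic_or_rank_one h3 hK g hnsg with ⟨e, he⟩ | ⟨a, α, x, hax⟩
    · obtain ⟨b, c1, c2, h⟩ := basis_of_cyclic h3 g hdetg e he
      exact ⟨b, Or.inl ⟨c1, c2, h⟩⟩
    · obtain ⟨b, h | ⟨κ, hκ, h⟩⟩ := basis_of_rank_one h3 g a α x hax hnsg
      · have hd : (LinearMap.toMatrix b b g).det = 1 := by rw [LinearMap.det_toMatrix]; exact hdetg
        rw [h, Matrix.det_fin_three] at hd
        have ha : a = 1 := zmod3_cube a (by simpa using hd)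
        refine ⟨b, Or.inr (Or.inl ?_)⟩
        rw [h, ha]
        rfl
      · have hd : (LinearMap.toMatrix b b g).det = 1 := by rw [LinearMap.det_toMatrix]; exact hdetg
        rw [h, Matrix.det_fin_three] at hd
        obtain ⟨h1, h2⟩ := zmod3_diag a κ hκ (by simpa using hd)
        refine ⟨b, Or.inr (Or.inr ?_)⟩
        rw [h, h1, h2]
        rfl
  obtain ⟨P, hP⟩ := conj_of_basis G b
  obtain ⟨P', hP'⟩ := sl_of_gl_three P
  refine ⟨P', LinearMap.toMatrix b b g, hb, ?_⟩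
  rw [hP' G, hP]

theorem twoConj_X3 : TwoConj (X3SL : Matrix.SpecialLinearGroup (Fin 3) (ZMod 3)) := by
  intro G hG
  have hns := nonscalar_of_not_mem_center' G hG
  obtain ⟨P, R, hR, hPR⟩ := conj_rep_three G G.det_coe hns
  obtain ⟨Y, Z, u, v, hYZ, hYu, hZv, hu, hv⟩ := rep_witness R hR
  let U : Matrix.SpecialLinearGroup (Fin 3) (ZMod 3) := ⟨u, hu⟩
  let W : Matrix.SpecialLinearGroup (Fin 3) (ZMod 3) := ⟨v, hv⟩
  have hY := eq_conj_of_mul_eq' Y X3 U hYu
  have hZ := eq_conj_of_mul_eq' Z X3 W hZv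
  have hM' : P * G * P⁻¹ = U * X3SL * U⁻¹ * (W * X3SL * W⁻¹) := by
    apply Subtype.ext
    simp only [Matrix.SpecialLinearGroup.coe_mul]
    rw [hPR, hYZ, hY, hZ]
    rfl
  refine ⟨P⁻¹ * U, P⁻¹ * W, ?_⟩
  have : G = P⁻¹ * (P * G * P⁻¹) * P := by group
  rw [this, hM']
  group

theorem twoConj_transfer {G H : Type*} [Group G] [Group H] (e : G ≃* H) (x : G) (hx : TwoConj x) : TwoConj (e x) := by
  intro h hh
  have hc : e.symm h ∉ Subgroup.center G := by
    intro hmem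
    apply hh
    rw [Subgroup.mem_center_iff] at hmem ⊢
    intro k
    have := hmem (e.symm k)
    have h2 := congrArg e this
    simpa using h2
  obtain ⟨u, v, huv⟩ := hx (e.symm h) hc
  refine ⟨e u, e v, ?_⟩
  have h2 := congrArg e huv
  simpa using h2

theorem psl_of_twoConj {F : Type*} [Field F] (x : Matrix.SpecialLinearGroup (Fin 3) F) (hx : TwoConj x) :
    ∀ g : Matrix.ProjectiveSpecialLinearGroup (Fin 3) F, g ≠ 1 →
      ∃ u v : Matrix.ProjectiveSpecialLinearGroup (Fin 3) F,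
        g = (u * (QuotientGroup.mk x) * u⁻¹) * (v * (QuotientGroup.mk x) * v⁻¹) := by
  intro g hg
  obtain ⟨g', rfl⟩ := QuotientGroup.mk_surjective g
  have hc : g' ∉ Subgroup.center (Matrix.SpecialLinearGroup (Fin 3) F) := by
    intro h
    apply hg
    exact (QuotientGroup.eq_one_iff g').mpr h
  obtain ⟨u, v, huv⟩ := hx g' hc
  refine ⟨QuotientGroup.mk u, QuotientGroup.mk v, ?_⟩
  rw [huv]
  rfl

theorem not_dvd_orderOf_mk {G : Type*} [Group G] (N : Subgroup G) [N.Normal] (x : G) (m : ℕ) (hx : x ^ m = 1)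
    (p : ℕ) (hp : p.Prime) (hpm : ¬ p ∣ m) : ¬ p ∣ orderOf (QuotientGroup.mk x : G ⧸ N) := by
  intro h
  apply hpm
  apply dvd_trans h
  apply orderOf_dvd_of_pow_eq_one
  rw [← QuotientGroup.mk_pow, hx]
  rfl

theorem X3SL_pow : (X3SL : Matrix.SpecialLinearGroup (Fin 3) (ZMod 3)) ^ 4 = 1 := by
  apply Subtype.ext
  rw [Matrix.SpecialLinearGroup.coe_pow, Matrix.SpecialLinearGroup.coe_one]
  show (X3 : Matrix (Fin 3) (Fin 3) (ZMod 3)) ^ 4 = 1
  rw [pow_succ, pow_succ, pow_succ, pow_one]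
  decide



open Matrix Module

theorem exists_lam {F : Type*} [Field F] [Fintype F] (h4 : 4 ≤ Fintype.card F) :
    ∃ l : F, l ≠ 0 ∧ l ^ 2 ≠ 1 := by
  classical
  by_contra hcon
  push Not at hcon
  -- every element is 0, 1 or -1
  have h : ∀ l : F, l = 0 ∨ l = 1 ∨ l = -1 := by
    intro l
    by_cases h0 : l = 0
    · exact Or.inl h0
    · have := hcon l h0
      have h2 : (l - 1) * (l + 1) = 0 := by ring_nf; rw [this]; ring
      rcases mul_eq_zero.mp h2 with h3 | h3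
      · exact Or.inr (Or.inl (sub_eq_zero.mp h3))
      · exact Or.inr (Or.inr (eq_neg_of_add_eq_zero_left h3))
  have hsub : (Finset.univ : Finset F) ⊆ {0, 1, -1} := by
    intro l _
    rcases h l with h | h | h <;> simp [h]
  have hc := Finset.card_le_card hsub
  have h3 : ({0, 1, -1} : Finset F).card ≤ 3 := Finset.card_le_three
  rw [Finset.card_univ] at hc
  omega

theorem Dm_pow {F : Type*} [Field F] (l : F) (n : ℕ) :
    (Dm l) ^ n = !![1, 0, 0; 0, l ^ n, 0; 0, 0, (l⁻¹) ^ n] := by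
  have h : Dm l = Matrix.diagonal ![1, l, l⁻¹] := by
    ext i j
    fin_cases i <;> fin_cases j <;> simp [Dm]
  rw [h, Matrix.diagonal_pow]
  ext i j
  fin_cases i <;> fin_cases j <;> simp

theorem DSL_pow_card {F : Type*} [Field F] [Fintype F] (l : F) (hl : l ≠ 0) :
    (DSL l hl) ^ (Fintype.card F - 1) = 1 := by
  apply Subtype.ext
  rw [Matrix.SpecialLinearGroup.coe_pow, Matrix.SpecialLinearGroup.coe_one]
  show (Dm l) ^ (Fintype.card F - 1) = 1
  rw [Dm_pow, FiniteField.pow_card_sub_one_eq_one l hl, FiniteField.pow_card_sub_one_eq_one l⁻¹ (inv_ne_zero hl)]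
  ext i j
  fin_cases i <;> fin_cases j <;> simp

theorem not_dvd_card_sub_one {F : Type*} [Field F] [Fintype F] (p : ℕ) [Fact p.Prime] [CharP F p] :
    ¬ p ∣ Fintype.card F - 1 := by
  obtain ⟨n, hp, hn⟩ := FiniteField.card F p
  intro h
  have h1 : p ∣ Fintype.card F := by
    rw [hn]
    exact dvd_pow_self p (PNat.ne_zero n)
  have hpos : 1 ≤ Fintype.card F := Fintype.card_pos
  have h2 : p ∣ Fintype.card F - (Fintype.card F - 1) := Nat.dvd_sub h1 h
  have h3 : Fintype.card F - (Fintype.card F - 1) = 1 := by omega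
  rw [h3] at h2
  exact hp.one_lt.ne' (Nat.dvd_one.mp h2)

theorem char_eq_three {F : Type*} [Field F] [Fintype F] (p : ℕ) [Fact p.Prime] [CharP F p]
    (h3 : Fintype.card F = 3) : p = 3 := by
  obtain ⟨n, hp, hn⟩ := FiniteField.card F p
  rw [h3] at hn
  have h1 : p ∣ 3 := by
    rw [hn]
    exact dvd_pow_self p (PNat.ne_zero n)
  exact (Nat.prime_dvd_prime_iff_eq hp Nat.prime_three).mp h1


end Cfsg.Agent.Lib.Helper2.P3T
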