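import Mathlib
import Cfsg.Agent.Lib.Helper2.Cores

set_option autoImplicit false

namespace Cfsg.Agent.Lib.Helper2

variable {G : Type*} [Group G]

theorem inf_eq_bot_of_isPGroup_of_coprime {p : ℕ} [Fact p.Prime] {P N : Subgroup G} [Finite N]
    (hP : IsPGroup p P) (hN : (Nat.card N).Coprime p) : P ⊓ N = ⊥ := by
  rw [eq_bot_iff]
  intro x hx
  rw [Subgroup.mem_bot]
  obtain ⟨k, hk⟩ := (isPGroup_iff_orderOf_dvd_pow.1 hP) ⟨x, hx.1⟩
  rw [Subgroup.orderOf_mk] at hk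
  have h2 : orderOf x ∣ Nat.card N := by
    have := orderOf_dvd_natCard (⟨x, hx.2⟩ : N)
    rwa [Subgroup.orderOf_mk] at this
  have h3 : orderOf x ∣ Nat.gcd (Nat.card N) (p ^ k) := Nat.dvd_gcd h2 hk
  have h4 : Nat.gcd (Nat.card N) (p ^ k) = 1 := Nat.Coprime.pow_right k hN
  rw [h4, Nat.dvd_one, orderOf_eq_one_iff] at h3
  exact h3

/-- index of `P` in `PN` is `|N|` when `P ∩ N = 1` -/
theorem relIndex_sup_of_inf_eq_bot [Finite G] (P N : Subgroup G) [N.Normal] (h : P ⊓ N = ⊥) :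
    P.relIndex (P ⊔ N) = Nat.card N := by
  have h1 := card_sup_mul_card_inf P N
  rw [h, Subgroup.card_bot, mul_one] at h1
  have h2 : Nat.card P * P.relIndex (P ⊔ N) = Nat.card (P ⊔ N : Subgroup G) := by
    rw [← Subgroup.relIndex_bot_left, Subgroup.relIndex_mul_relIndex _ _ _ bot_le le_sup_left,
      Subgroup.relIndex_bot_left]
  rw [h1] at h2
  exact Nat.eq_of_mul_eq_mul_left Nat.card_pos h2

/-- A `p`-subgroup of `PN` (`N` a normal `p'`-subgroup, `P` a `p`-subgroup) is conjugate into `P`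
by an element of `N`. -/
theorem exists_conj_mem_of_le_sup [Finite G] {p : ℕ} [Fact p.Prime] {P Q N : Subgroup G} [N.Normal]
    (hN : (Nat.card N).Coprime p) (hP : IsPGroup p P) (hQ : IsPGroup p Q) (hQK : Q ≤ P ⊔ N) :
    ∃ n ∈ N, ∀ q ∈ Q, n⁻¹ * q * n ∈ P := by
  set K := P ⊔ N with hK
  set P' := P.subgroupOf K with hP'
  let ι : Q →* K := Subgroup.inclusion hQK
  letI : MulAction Q (K ⧸ P') := MulAction.compHom (K ⧸ P') ι
  have hsmul : ∀ (q : Q) (k : K), q • (QuotientGroup.mk k : K ⧸ P') = QuotientGroup.mk (ι q * k) :=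
    fun q k => rfl
  have hcard : Nat.card (K ⧸ P') = Nat.card N := by
    have : Nat.card (K ⧸ P') = P.relIndex K := rfl
    rw [this, hK]
    exact relIndex_sup_of_inf_eq_bot P N (inf_eq_bot_of_isPGroup_of_coprime hP hN)
  have hndvd : ¬ p ∣ Nat.card (K ⧸ P') := by
    rw [hcard]
    intro h
    have := Nat.Coprime.eq_one_of_dvd hN.symm h
    exact (Fact.out : p.Prime).one_lt.ne' this
  obtain ⟨x, hx⟩ := hQ.nonempty_fixed_point_of_prime_not_dvd_card (K ⧸ P') hndvd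
  obtain ⟨k, rfl⟩ := QuotientGroup.mk_surjective x
  have hk : (k : G) ∈ ((N ⊔ P : Subgroup G) : Set G) := by
    rw [sup_comm]; exact k.2
  rw [Subgroup.normal_mul] at hk
  obtain ⟨n, hn, u, hu, hnu⟩ := hk
  refine ⟨n, hn, ?_⟩
  intro q hq
  have h1 := hx ⟨q, hq⟩
  rw [hsmul, QuotientGroup.eq] at h1
  have h2 : ((ι ⟨q, hq⟩ * k)⁻¹ * k : K) ∈ P' := h1
  rw [hP', Subgroup.mem_subgroupOf] at h2
  have h3 : (k : G)⁻¹ * q⁻¹ * k ∈ P := by
    simpa [ι, mul_assoc] using h2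
  have h4 : (k : G)⁻¹ * q * k ∈ P := by
    have := P.inv_mem h3
    simpa [mul_assoc] using this
  rw [← hnu] at h4
  simp only at h4
  have h5 : n⁻¹ * q * n = u * ((n * u)⁻¹ * q * (n * u)) * u⁻¹ := by group
  rw [h5]
  exact P.mul_mem (P.mul_mem hu h4) (P.inv_mem hu)

end Cfsg.Agent.Lib.Helper2
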