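import Mathlib
import Cfsg.Prelude.Def_LocalStructure
import Cfsg.Agent.S3800

/-!
# `p`-closed groups: basic lemmas
-/

set_option autoImplicit false

namespace Cfsg.Agent.Lib.Helper2

variable {G : Type*} [Group G]

/-- a `p`-group is `p`-closed -/
theorem isPClosed_of_isPGroup' {H : Type*} [Group H] {p : ℕ} (hH : IsPGroup p H) :
    Cfsg.IsPClosed p H := by
  intro P
  have htop : IsPGroup p (⊤ : Subgroup H) := by
    intro g
    obtain ⟨k, hk⟩ := hH (g : H)
    exact ⟨k, Subtype.ext (by simpa using hk)⟩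
  have : (⊤ : Subgroup H) = P := P.is_maximal' htop le_top
  rw [← this]
  infer_instance

/-- A Sylow `p`-subgroup of `G` lying in a `p`-closed normal subgroup is normal in `G`. -/
theorem sylow_normal_of_isPClosed_normal [Finite G] {p : ℕ} [Fact p.Prime] (K : Subgroup G)
    [K.Normal] (hK : Cfsg.IsPClosed p K) (P : Sylow p G) (hPK : (P : Subgroup G) ≤ K) :
    (P : Subgroup G).Normal := by
  have hQn : ((P.subtype hPK : Sylow p K) : Subgroup K).Normal := hK _
  have : ((P.subtype hPK : Sylow p K) : Subgroup K).Characteristic :=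
    Sylow.characteristic_of_normal _ hQn
  have h1 : (((P.subtype hPK : Sylow p K) : Subgroup K).map K.subtype).Normal :=
    ConjAct.normal_of_characteristic_of_normal
  have h2 : ((P.subtype hPK : Sylow p K) : Subgroup K).map K.subtype = (P : Subgroup G) := by
    rw [Sylow.coe_subtype, Subgroup.map_subgroupOf_eq_of_le hPK]
  rw [h2] at h1
  exact h1

/-- If `G ⧸ N` is `p`-closed and `P` is a Sylow `p`-subgroup of `G` then `P N` is normal. -/
theorem sup_normal_of_isPClosed_quotient [Finite G] {p : ℕ} [Fact p.Prime] (N : Subgroup G)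
    [N.Normal] (h : Cfsg.IsPClosed p (G ⧸ N)) (P : Sylow p G) :
    ((P : Subgroup G) ⊔ N).Normal := by
  have h1 : ((P.mapSurjective (QuotientGroup.mk'_surjective N) : Sylow p (G ⧸ N)) :
      Subgroup (G ⧸ N)).Normal := h _
  rw [Sylow.coe_mapSurjective] at h1
  have h2 : (((P : Subgroup G).map (QuotientGroup.mk' N)).comap (QuotientGroup.mk' N)).Normal :=
    h1.comap _
  rw [Subgroup.comap_map_eq, QuotientGroup.ker_mk'] at h2
  exact h2

/-- In a `p`-closed subgroup `H`, a `p`-subgroup of index prime to `p` is normal. -/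
theorem le_normalizer_of_isPClosed [Finite G] {p : ℕ} [Fact p.Prime] (H : Subgroup G)
    (hH : Cfsg.IsPClosed p H) (P : Subgroup G) (hP : IsPGroup p P) (hPH : P ≤ H)
    (hidx : ¬ p ∣ P.relIndex H) : H ≤ Subgroup.normalizer (P : Set G) := by
  have hP' : IsPGroup p (P.subgroupOf H) := hP.comap_subtype
  have hidx' : ¬ p ∣ (P.subgroupOf H).index := hidx
  have hn : ((hP'.toSylow hidx' : Sylow p H) : Subgroup H).Normal := hH _
  rw [IsPGroup.toSylow_coe] at hn
  intro h hh
  apply Cfsg.Agent.S3800.mem_normalizer_of_conj_le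
  intro u hu
  have := hn.conj_mem ⟨u, hPH hu⟩ (Subgroup.mem_subgroupOf.2 hu) ⟨h, hh⟩
  exact Subgroup.mem_subgroupOf.1 this

end Cfsg.Agent.Lib.Helper2
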