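import Mathlib
import Cfsg.Agent.Lib.Helper1.MaxClassSelfCentralizing
import Cfsg.Agent.Lib.Helper1.Nilpotent
import Cfsg.Agent.Lib.Helper2.PGroup

set_option autoImplicit false

/-!
# A `p`-group with a self-centralizing nonabelian subgroup of order `p³` has maximal class
-/

namespace Cfsg.Agent.Lib.Helper2.PCube

open scoped Pointwise

universe u

variable {G : Type u} [Group G] [Finite G] {p : ℕ} [hp : Fact p.Prime]

/-- the centralizer of a nonabelian subgroup of order `p³` containing its centralizer has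
order `p` -/
theorem card_centralizer_eq (B : Subgroup G) (hB : Nat.card B = p ^ 3)
    (hBna : ¬ IsMulCommutative B) (hC : Subgroup.centralizer (B : Set G) ≤ B) :
    Nat.card (Subgroup.centralizer (B : Set G)) = p := by
  have hZc : (Subgroup.centralizer (B : Set G)).subgroupOf B = Subgroup.center ↥B := by
    ext x
    rw [Subgroup.mem_subgroupOf, Subgroup.mem_center_iff, Subgroup.mem_centralizer_iff]
    constructor
    · intro h b
      exact Subtype.ext (h b b.2)
    · intro h b hb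
      exact congrArg Subtype.val (h ⟨b, hb⟩)
  have hcardZ : Nat.card (Subgroup.centralizer (B : Set G)) = Nat.card (Subgroup.center ↥B) := by
    rw [← hZc]; exact (Nat.card_congr (Subgroup.subgroupOfEquivOfLe hC).toEquiv).symm
  rw [hcardZ]
  obtain ⟨k, hk0, hk⟩ := IsPGroup.card_center_eq_prime_pow hB (by norm_num)
  have hk3 : k ≤ 3 := by
    have hd : Nat.card (Subgroup.center ↥B) ∣ Nat.card ↥B := Subgroup.card_subgroup_dvd_card _
    rw [hk, hB] at hd
    exact (Nat.pow_dvd_pow_iff_le_right hp.out.one_lt).mp hd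
  have hk3' : k ≠ 3 := by
    intro h3
    apply hBna
    have htop : Subgroup.center ↥B = ⊤ :=
      (Subgroup.card_eq_iff_eq_top _).mp (by rw [hk, h3, hB])
    exact ⟨⟨fun a b => by
      have hb : b ∈ Subgroup.center ↥B := by rw [htop]; trivial
      exact (Subgroup.mem_center_iff.mp hb a)⟩⟩
  have hk2 : k ≠ 2 := by
    intro h2
    apply hBna
    have hidx : (Subgroup.center ↥B).index = p := by
      have := Subgroup.card_mul_index (Subgroup.center ↥B)
      rw [hk, h2, hB] at this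
      have h' : p ^ 2 * (Subgroup.center ↥B).index = p ^ 2 * p := by rw [this]; ring
      exact Nat.eq_of_mul_eq_mul_left (pow_pos hp.out.pos 2) h'
    haveI : IsCyclic (↥B ⧸ Subgroup.center ↥B) :=
      isCyclic_of_prime_card (p := p) (by rw [← Subgroup.index_eq_card]; exact hidx)
    exact MonoidHom.isMulCommutative_of_isCyclic_of_ker_le_center
      (QuotientGroup.mk' (Subgroup.center ↥B)) (by rw [QuotientGroup.ker_mk'])
  have : k = 1 := by omega
  rw [hk, this, pow_one]

/-- a proper subgroup of `B` properly containing the centre has order `p²` -/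
theorem card_eq_sq (B : Subgroup G) (hB : Nat.card B = p ^ 3)
    (hBna : ¬ IsMulCommutative B) (hC : Subgroup.centralizer (B : Set G) ≤ B)
    (H : Subgroup G) (hHB : H ≤ B) (hHne : H ≠ B)
    (hZH : Subgroup.centralizer (B : Set G) ≤ H) (hZne : Subgroup.centralizer (B : Set G) ≠ H) :
    Nat.card H = p ^ 2 := by
  have hZ := card_centralizer_eq B hB hBna hC
  have hd : Nat.card H ∣ p ^ 3 := by rw [← hB]; exact Subgroup.card_dvd_of_le hHB
  obtain ⟨j, hj3, hj⟩ := (Nat.dvd_prime_pow hp.out).mp hd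
  have hj3' : j ≠ 3 := by
    intro h3
    exact hHne (Subgroup.eq_of_le_of_card_ge hHB (by rw [hj, h3, hB]))
  have hj1 : 2 ≤ j := by
    by_contra hlt
    push Not at hlt
    have hle : Nat.card H ≤ p := by
      rw [hj]
      calc p ^ j ≤ p ^ 1 := Nat.pow_le_pow_right hp.out.pos (by omega)
        _ = p := pow_one p
    exact hZne (Subgroup.eq_of_le_of_card_ge hZH (by rw [hZ]; exact hle))
  have : j = 2 := by omega
  rw [hj, this]

/-- a subgroup of `B` properly containing a subgroup of order `p²` is `B` -/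
theorem eq_of_sq_lt (B : Subgroup G) (hB : Nat.card B = p ^ 3) (A H : Subgroup G)
    (hA : Nat.card A = p ^ 2) (hAH : A ≤ H) (hHB : H ≤ B) (hne : A ≠ H) : H = B := by
  have hd : Nat.card H ∣ p ^ 3 := by rw [← hB]; exact Subgroup.card_dvd_of_le hHB
  obtain ⟨j, hj3, hj⟩ := (Nat.dvd_prime_pow hp.out).mp hd
  have hj2 : 3 ≤ j := by
    by_contra hlt
    push Not at hlt
    have hle : Nat.card H ≤ p ^ 2 := by
      rw [hj]; exact Nat.pow_le_pow_right hp.out.pos (by omega)
    exact hne (Subgroup.eq_of_le_of_card_ge hAH (by rw [hA]; exact hle))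
  have : j = 3 := by omega
  exact Subgroup.eq_of_le_of_card_ge hHB (by rw [hj, this, hB])

omit [Finite G] hp in
theorem conj_pow_eq {x d w : G} (h1 : x * d * x⁻¹ = w * d) (h2 : x * w = w * x) (k : ℕ) :
    x ^ k * d * (x ^ k)⁻¹ = w ^ k * d := by
  induction k with
  | zero => simp
  | succ k ih =>
    have hc : Commute x (w ^ k) := (show Commute x w from h2).pow_right k
    calc x ^ (k + 1) * d * (x ^ (k + 1))⁻¹ = x * (x ^ k * d * (x ^ k)⁻¹) * x⁻¹ := by
          rw [pow_succ']; group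
      _ = x * (w ^ k * d) * x⁻¹ := by rw [ih]
      _ = (x * w ^ k) * d * x⁻¹ := by group
      _ = (w ^ k * x) * d * x⁻¹ := by rw [hc.eq]
      _ = w ^ k * (x * d * x⁻¹) := by group
      _ = w ^ k * (w * d) := by rw [h1]
      _ = w ^ (k + 1) * d := by rw [pow_succ]; group

/-- the case where `B` is normal -/
theorem exists_self_centralizing_of_normal (hG : IsPGroup p G) (B : Subgroup G) [hBn : B.Normal]
    (hB : Nat.card B = p ^ 3) (hBna : ¬ IsMulCommutative B)
    (hC : Subgroup.centralizer (B : Set G) ≤ B) :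
    ∃ A : Subgroup G, A ≤ B ∧ Nat.card A = p ^ 2 ∧ Subgroup.centralizer (A : Set G) = A := by
  classical
  have hZcard := card_centralizer_eq B hB hBna hC
  haveI : Group.IsNilpotent G := hG.isNilpotent
  -- step 1: an element `d` of `B` outside `Z`, central modulo `Z`
  have hBZ : ¬ B ≤ Subgroup.centralizer (B : Set G) := by
    intro hle
    have h1 := Subgroup.card_le_of_le hle
    rw [hB, hZcard] at h1
    have h2 : p ^ 1 < p ^ 3 := Nat.pow_lt_pow_right hp.out.one_lt (by norm_num)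
    rw [pow_one] at h2
    omega
  have hmap_ne : B.map (QuotientGroup.mk' (Subgroup.centralizer (B : Set G))) ≠ ⊥ := by
    rw [Ne, Subgroup.map_eq_bot_iff, QuotientGroup.ker_mk']; exact hBZ
  haveI : (B.map (QuotientGroup.mk' (Subgroup.centralizer (B : Set G)))).Normal :=
    hBn.map _ (QuotientGroup.mk'_surjective _)
  have hne := Cfsg.Agent.Lib.Helper1.normal_inf_center_ne_bot
    (B.map (QuotientGroup.mk' (Subgroup.centralizer (B : Set G)))) hmap_ne
  obtain ⟨⟨q, hq⟩, hq1⟩ := (Subgroup.ne_bot_iff_exists_ne_one).mp hne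
  obtain ⟨⟨d, hdB, rfl⟩, hqc⟩ := Subgroup.mem_inf.mp hq
  have hdZ0 : d ∉ Subgroup.centralizer (B : Set G) := by
    intro hd
    apply hq1
    apply Subtype.ext
    exact (QuotientGroup.eq_one_iff d).mpr hd
  have hdZ : ∀ g : G, g * d * g⁻¹ * d⁻¹ ∈ Subgroup.centralizer (B : Set G) := by
    intro g
    have h1 := Subgroup.mem_center_iff.mp hqc (QuotientGroup.mk' _ g⁻¹)
    rw [← map_mul, ← map_mul] at h1
    have h2 := (QuotientGroup.eq).mp h1
    have h3 : g * d * g⁻¹ * d⁻¹ = d * ((g⁻¹ * d)⁻¹ * (d * g⁻¹)) * d⁻¹ := by group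
    rw [h3]
    exact (inferInstance : (Subgroup.centralizer (B : Set G)).Normal).conj_mem _ h2 d
  -- step 2: an element `a₁` of `B` not commuting with `d`
  obtain ⟨a₁, ha₁B, ha₁d⟩ : ∃ a₁ ∈ B, a₁ * d ≠ d * a₁ := by
    by_contra hno
    push Not at hno
    apply hdZ0
    rw [Subgroup.mem_centralizer_iff]
    intro b hb
    exact hno b hb
  obtain ⟨A, hAdef⟩ : ∃ A : Subgroup G, A = B ⊓ Subgroup.centralizer ({a₁} : Set G) := ⟨_, rfl⟩
  have hAB : A ≤ B := by rw [hAdef]; exact inf_le_left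
  have ha₁A : a₁ ∈ A := by
    rw [hAdef, Subgroup.mem_inf, Subgroup.mem_centralizer_singleton_iff]
    exact ⟨ha₁B, rfl⟩
  have hZA : Subgroup.centralizer (B : Set G) ≤ A := by
    intro z hz
    rw [hAdef, Subgroup.mem_inf, Subgroup.mem_centralizer_singleton_iff]
    exact ⟨hC hz, ((Subgroup.mem_centralizer_iff.mp hz) a₁ ha₁B).symm⟩
  have hdA : d ∉ A := by
    intro hd
    rw [hAdef, Subgroup.mem_inf, Subgroup.mem_centralizer_singleton_iff] at hd
    exact ha₁d hd.2.symm
  have ha₁Z : a₁ ∉ Subgroup.centralizer (B : Set G) := by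
    intro h
    exact ha₁d (((Subgroup.mem_centralizer_iff.mp h) d hdB)).symm
  have hAcard : Nat.card A = p ^ 2 :=
    card_eq_sq B hB hBna hC A hAB (fun h => hdA (h ▸ hdB)) hZA (fun h => ha₁Z (h ▸ ha₁A))
  have hAcomm : ∀ a ∈ A, ∀ b ∈ A, a * b = b * a := by
    have hc : IsMulCommutative ↥A := IsPGroup.isMulCommutative_of_card_eq_prime_sq hAcard
    intro a ha b hb
    exact congrArg Subtype.val (hc.is_comm.comm ⟨a, ha⟩ ⟨b, hb⟩)
  refine ⟨A, hAB, hAcard, le_antisymm ?_ ?_⟩
  · -- step 3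
    intro c hc
    have hcA : ∀ a ∈ A, a * c = c * a := Subgroup.mem_centralizer_iff.mp hc
    have hw := hdZ a₁
    have hz' := hdZ c
    have hw1 : a₁ * d * a₁⁻¹ * d⁻¹ ≠ 1 := by
      intro h
      apply ha₁d
      calc a₁ * d = (a₁ * d * a₁⁻¹ * d⁻¹) * d * a₁ := by group
        _ = d * a₁ := by rw [h, one_mul]
    -- `Z` is generated by `w`
    haveI : Fact (Nat.card ↥(Subgroup.centralizer (B : Set G))).Prime := ⟨by rw [hZcard]; exact hp.out⟩
    have hgen : Subgroup.zpowers (⟨a₁ * d * a₁⁻¹ * d⁻¹, hw⟩ : ↥(Subgroup.centralizer (B : Set G))) = ⊤ :=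
      zpowers_eq_top_of_prime_card (p := p) hZcard (fun h => hw1 (congrArg Subtype.val h))
    have hmem : (⟨c * d * c⁻¹ * d⁻¹, hz'⟩ : ↥(Subgroup.centralizer (B : Set G))) ∈
        Subgroup.zpowers (⟨a₁ * d * a₁⁻¹ * d⁻¹, hw⟩ : ↥(Subgroup.centralizer (B : Set G))) := by
      rw [hgen]; trivial
    rw [← mem_powers_iff_mem_zpowers, Submonoid.mem_powers_iff] at hmem
    obtain ⟨k, hk⟩ := hmem
    have hk' : (a₁ * d * a₁⁻¹ * d⁻¹) ^ k = c * d * c⁻¹ * d⁻¹ := by
      have := congrArg Subtype.val hk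
      simpa using this
    have hwcomm : a₁ * (a₁ * d * a₁⁻¹ * d⁻¹) = (a₁ * d * a₁⁻¹ * d⁻¹) * a₁ :=
      ((Subgroup.mem_centralizer_iff.mp hw) a₁ ha₁B)
    have h1 : a₁ * d * a₁⁻¹ = (a₁ * d * a₁⁻¹ * d⁻¹) * d := by group
    have hconj := conj_pow_eq h1 hwcomm k
    rw [hk'] at hconj
    -- `e = a⁻¹ c` centralizes `B`
    have hakA : a₁ ^ k ∈ A := A.pow_mem ha₁A k
    have he_d : (a₁ ^ k)⁻¹ * c * d = d * ((a₁ ^ k)⁻¹ * c) := by
      have h2 : c * d * c⁻¹ = a₁ ^ k * d * (a₁ ^ k)⁻¹ := by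
        rw [hconj]; group
      calc (a₁ ^ k)⁻¹ * c * d = (a₁ ^ k)⁻¹ * (c * d * c⁻¹) * c := by group
        _ = (a₁ ^ k)⁻¹ * (a₁ ^ k * d * (a₁ ^ k)⁻¹) * c := by rw [h2]
        _ = d * ((a₁ ^ k)⁻¹ * c) := by group
    have he_A : ∀ a ∈ A, a * ((a₁ ^ k)⁻¹ * c) = (a₁ ^ k)⁻¹ * c * a := by
      intro a ha
      have h3 : a * (a₁ ^ k)⁻¹ = (a₁ ^ k)⁻¹ * a := hAcomm a ha _ (A.inv_mem hakA)
      calc a * ((a₁ ^ k)⁻¹ * c) = (a * (a₁ ^ k)⁻¹) * c := by group
        _ = (a₁ ^ k)⁻¹ * a * c := by rw [h3]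
        _ = (a₁ ^ k)⁻¹ * (a * c) := by group
        _ = (a₁ ^ k)⁻¹ * (c * a) := by rw [hcA a ha]
        _ = (a₁ ^ k)⁻¹ * c * a := by group
    have hBle : B ⊓ Subgroup.centralizer ({(a₁ ^ k)⁻¹ * c} : Set G) = B := by
      apply eq_of_sq_lt B hB A _ hAcard _ inf_le_left
      · intro h
        apply hdA
        rw [h, Subgroup.mem_inf, Subgroup.mem_centralizer_singleton_iff]
        exact ⟨hdB, he_d.symm⟩
      · intro a ha
        rw [Subgroup.mem_inf, Subgroup.mem_centralizer_singleton_iff]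
        exact ⟨hAB ha, (he_A a ha)⟩
    have heZ : (a₁ ^ k)⁻¹ * c ∈ Subgroup.centralizer (B : Set G) := by
      rw [Subgroup.mem_centralizer_iff]
      intro b hb
      have hb' : b ∈ B ⊓ Subgroup.centralizer ({(a₁ ^ k)⁻¹ * c} : Set G) := by rw [hBle]; exact hb
      rw [Subgroup.mem_inf, Subgroup.mem_centralizer_singleton_iff] at hb'
      exact hb'.2
    have : c = a₁ ^ k * ((a₁ ^ k)⁻¹ * c) := by group
    rw [this]
    exact A.mul_mem hakA (hZA heZ)
  · intro a ha
    rw [Subgroup.mem_centralizer_iff]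
    intro b hb
    exact hAcomm b hb a ha

/-- the general case, by passing to the normalizer of `B` -/
theorem exists_self_centralizing (hG : IsPGroup p G) (B : Subgroup G)
    (hB : Nat.card B = p ^ 3) (hBna : ¬ IsMulCommutative B)
    (hC : Subgroup.centralizer (B : Set G) ≤ B) :
    ∃ A : Subgroup G, A ≤ B ∧ Nat.card A = p ^ 2 ∧ Subgroup.centralizer (A : Set G) = A := by
  classical
  have hBN : B ≤ Subgroup.normalizer (B : Set G) := Subgroup.le_normalizer
  haveI hB'n : (B.subgroupOf (Subgroup.normalizer (B : Set G))).Normal :=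
    Subgroup.normal_in_normalizer
  have hB'card : Nat.card (B.subgroupOf (Subgroup.normalizer (B : Set G))) = p ^ 3 := by
    rw [← hB]; exact Nat.card_congr (Subgroup.subgroupOfEquivOfLe hBN).toEquiv
  have hB'na : ¬ IsMulCommutative (B.subgroupOf (Subgroup.normalizer (B : Set G))) := by
    intro h
    apply hBna
    refine ⟨⟨fun a b => ?_⟩⟩
    have ha : (⟨a.1, hBN a.2⟩ : ↥(Subgroup.normalizer (B : Set G))) ∈
        B.subgroupOf (Subgroup.normalizer (B : Set G)) := by
      rw [Subgroup.mem_subgroupOf]; exact a.2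
    have hb : (⟨b.1, hBN b.2⟩ : ↥(Subgroup.normalizer (B : Set G))) ∈
        B.subgroupOf (Subgroup.normalizer (B : Set G)) := by
      rw [Subgroup.mem_subgroupOf]; exact b.2
    have h1 := h.is_comm.comm
      (⟨_, ha⟩ : ↥(B.subgroupOf (Subgroup.normalizer (B : Set G)))) ⟨_, hb⟩
    apply Subtype.ext
    exact congrArg
      (fun x : ↥(B.subgroupOf (Subgroup.normalizer (B : Set G))) => (x.1.1 : G)) h1
  have hC' : Subgroup.centralizer
      ((B.subgroupOf (Subgroup.normalizer (B : Set G)) :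
        Subgroup ↥(Subgroup.normalizer (B : Set G))) :
        Set ↥(Subgroup.normalizer (B : Set G))) ≤
      B.subgroupOf (Subgroup.normalizer (B : Set G)) := by
    intro x hx
    rw [Subgroup.mem_subgroupOf]
    apply hC
    rw [Subgroup.mem_centralizer_iff]
    intro b hb
    have h1 := (Subgroup.mem_centralizer_iff.mp hx) ⟨b, hBN hb⟩
      (by rw [SetLike.mem_coe, Subgroup.mem_subgroupOf]; exact hb)
    exact congrArg Subtype.val h1
  obtain ⟨A', hA'B', hA'card, hA'C⟩ :=
    exists_self_centralizing_of_normal (hG.to_subgroup (Subgroup.normalizer (B : Set G)))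
      (B.subgroupOf (Subgroup.normalizer (B : Set G))) hB'card hB'na hC'
  have hAB : A'.map (Subgroup.normalizer (B : Set G)).subtype ≤ B := by
    rintro x ⟨y, hy, rfl⟩
    exact Subgroup.mem_subgroupOf.mp (hA'B' hy)
  have hAcard : Nat.card (A'.map (Subgroup.normalizer (B : Set G)).subtype) = p ^ 2 := by
    rw [Subgroup.card_map_of_injective (Subgroup.subtype_injective _)]; exact hA'card
  have hCN : ∀ c ∈ Subgroup.centralizer
      ((A'.map (Subgroup.normalizer (B : Set G)).subtype : Subgroup G) : Set G),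
      c ∈ Subgroup.normalizer (B : Set G) →
      c ∈ A'.map (Subgroup.normalizer (B : Set G)).subtype := by
    intro c hc hcN
    have h1 : (⟨c, hcN⟩ : ↥(Subgroup.normalizer (B : Set G))) ∈
        Subgroup.centralizer (A' : Set ↥(Subgroup.normalizer (B : Set G))) := by
      rw [Subgroup.mem_centralizer_iff]
      intro a ha
      apply Subtype.ext
      exact (Subgroup.mem_centralizer_iff.mp hc) a.1 ⟨a, ha, rfl⟩
    rw [hA'C] at h1
    exact ⟨_, h1, rfl⟩
  have hAC : A'.map (Subgroup.normalizer (B : Set G)).subtype ≤ Subgroup.centralizer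
      ((A'.map (Subgroup.normalizer (B : Set G)).subtype : Subgroup G) : Set G) := by
    rintro x ⟨y, hy, rfl⟩
    rw [Subgroup.mem_centralizer_iff]
    rintro z ⟨w, hw, rfl⟩
    have hy' : y ∈ Subgroup.centralizer (A' : Set ↥(Subgroup.normalizer (B : Set G))) := by
      rw [hA'C]; exact hy
    exact congrArg Subtype.val ((Subgroup.mem_centralizer_iff.mp hy') w hw)
  refine ⟨A'.map (Subgroup.normalizer (B : Set G)).subtype, hAB, hAcard, le_antisymm ?_ hAC⟩
  by_contra hne
  obtain ⟨c₀, hc₀C, hc₀A⟩ := SetLike.not_le_iff_exists.mp hne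
  generalize hAdef : A'.map (Subgroup.normalizer (B : Set G)).subtype = A at *
  -- `B` normalizes `A`
  have hBnA : B ≤ Subgroup.normalizer (A : Set G) := by
    rw [← Subgroup.normal_subgroupOf_iff_le_normalizer hAB]
    apply Cfsg.Agent.Lib.Helper2.normal_of_index_eq_prime (hG.to_subgroup B)
    have h1 := Subgroup.card_mul_index (A.subgroupOf B)
    have h2 : Nat.card (A.subgroupOf B) = p ^ 2 := by
      rw [← hAcard]; exact Nat.card_congr (Subgroup.subgroupOfEquivOfLe hAB).toEquiv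
    rw [h2, hB] at h1
    have h3 : p ^ 2 * (A.subgroupOf B).index = p ^ 2 * p := by rw [h1]; ring
    exact Nat.eq_of_mul_eq_mul_left (pow_pos hp.out.pos 2) h3
  -- hence `B` normalizes `C_G(A)`
  have hBnC : B ≤ Subgroup.normalizer (Subgroup.centralizer (A : Set G) : Set G) := by
    rw [Subgroup.le_normalizer_iff]
    intro b hb c hc
    rw [Subgroup.mem_centralizer_iff]
    intro a ha
    have h1 : b⁻¹ * a * b ∈ A := by
      have := (Subgroup.le_normalizer_iff.mp hBnA) b⁻¹ (B.inv_mem hb) a ha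
      simpa using this
    have h2 := (Subgroup.mem_centralizer_iff.mp hc) _ h1
    calc a * (b * c * b⁻¹) = b * ((b⁻¹ * a * b) * c) * b⁻¹ := by group
      _ = b * (c * (b⁻¹ * a * b)) * b⁻¹ := by rw [h2]
      _ = b * c * b⁻¹ * a := by group
  have hcoe := Subgroup.coe_mul_of_right_le_normalizer_left
    (Subgroup.centralizer (A : Set G)) B hBnC
  haveI : Group.IsNilpotent ↥(Subgroup.centralizer (A : Set G) ⊔ B) :=
    (hG.to_subgroup _).isNilpotent
  have hlt : B.subgroupOf (Subgroup.centralizer (A : Set G) ⊔ B) < ⊤ := by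
    rw [lt_top_iff_ne_top, Ne, Subgroup.subgroupOf_eq_top]
    intro hRB
    exact hc₀A (hCN c₀ hc₀C (hBN (hRB (le_sup_left (a := Subgroup.centralizer (A : Set G))
      (b := B) hc₀C))))
  have h2 := Group.normalizerCondition_of_isNilpotent _ hlt
  obtain ⟨x, hxN, hxB⟩ := SetLike.exists_of_lt h2
  rw [← Subgroup.subgroupOf_normalizer_eq (le_sup_right : B ≤ _), Subgroup.mem_subgroupOf] at hxN
  rw [Subgroup.mem_subgroupOf] at hxB
  have hxR : (x : G) ∈ ((Subgroup.centralizer (A : Set G) ⊔ B : Subgroup G) : Set G) := x.2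
  rw [hcoe] at hxR
  obtain ⟨c, hc, b, hb, hcb⟩ := Set.mem_mul.mp hxR
  have hcN : c ∈ Subgroup.normalizer (B : Set G) := by
    have : c = (x : G) * b⁻¹ := by rw [← hcb]; group
    rw [this]
    exact Subgroup.mul_mem _ hxN (Subgroup.inv_mem _ (hBN hb))
  have hcA : c ∈ A := hCN c hc hcN
  apply hxB
  rw [← hcb]
  exact B.mul_mem (hAB hcA) hb

end Cfsg.Agent.Lib.Helper2.PCube
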