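import Mathlib

set_option autoImplicit false

/-! Abstract Möbius function on the subgroup lattice of a finite group, Weisner's lemma, and
vanishing of `μ(H, H')` for `H` not normal in the `p`-group `H'`. -/

namespace Cfsg.Agent.Lib.Helper2.SubnMu

open Classical

variable {G : Type*} [Group G]

/-- `μ` satisfies the defining relation of the Möbius function of the subgroup lattice. -/
def IsMu [Fintype (Subgroup G)] (μ : Subgroup G → Subgroup G → ℤ) : Prop :=
  ∀ a b : Subgroup G,
    (∑ x : Subgroup G, if a ≤ x ∧ x ≤ b then μ a x else 0) = if a = b then 1 else 0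

theorem exists_isMu [Fintype (Subgroup G)] : ∃ μ : Subgroup G → Subgroup G → ℤ, IsMu μ := by
  letI : LocallyFiniteOrder (Subgroup G) := Fintype.toLocallyFiniteOrder
  refine ⟨fun a b => IncidenceAlgebra.mu ℤ a b, fun a b => ?_⟩
  rw [← IncidenceAlgebra.sum_Icc_mu_right (𝕜 := ℤ) a b, ← Finset.sum_filter]
  apply Finset.sum_congr
  · ext x; simp [Finset.mem_Icc]
  · intros; rfl

theorem IsMu.self [Fintype (Subgroup G)] {μ : Subgroup G → Subgroup G → ℤ} (hμ : IsMu μ)
    (a : Subgroup G) : μ a a = 1 := by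
  have h := hμ a a
  rw [if_pos rfl, Finset.sum_eq_single a] at h
  · rwa [if_pos ⟨le_rfl, le_rfl⟩] at h
  · intro x _ hx
    rw [if_neg]
    rintro ⟨h1, h2⟩
    exact hx (le_antisymm h2 h1)
  · intro h; exact absurd (Finset.mem_univ _) h

theorem weisner [Fintype (Subgroup G)] {μ : Subgroup G → Subgroup G → ℤ} (hμ : IsMu μ)
    {H M : Subgroup G} (hHM : H < M) : ∀ C : Subgroup G, M ≤ C →
    (∑ x : Subgroup G, if H ≤ x ∧ x ⊔ M = C then μ H x else 0) = 0 := by
  haveI : Finite (Subgroup G) := Finite.of_fintype _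
  intro C
  induction C using WellFoundedLT.induction with
  | ind C ih =>
    intro hMC
    have h1 : (∑ y : Subgroup G, if M ≤ y ∧ y ≤ C then
        (∑ x : Subgroup G, if H ≤ x ∧ x ⊔ M = y then μ H x else 0) else 0) = 0 := by
      have h2 : ∀ y : Subgroup G, (if M ≤ y ∧ y ≤ C then
          (∑ x : Subgroup G, if H ≤ x ∧ x ⊔ M = y then μ H x else 0) else 0) =
          ∑ x : Subgroup G, if (H ≤ x ∧ x ≤ C) ∧ x ⊔ M = y then μ H x else 0 := by
        intro y
        by_cases hy : M ≤ y ∧ y ≤ C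
        · rw [if_pos hy]
          apply Finset.sum_congr rfl
          intro x _
          by_cases hx : H ≤ x ∧ x ⊔ M = y
          · have hx' : (H ≤ x ∧ x ≤ C) ∧ x ⊔ M = y :=
              ⟨⟨hx.1, le_trans (hx.2 ▸ le_sup_left) hy.2⟩, hx.2⟩
            rw [if_pos hx, if_pos hx']
          · have hx' : ¬ ((H ≤ x ∧ x ≤ C) ∧ x ⊔ M = y) := fun h => hx ⟨h.1.1, h.2⟩
            rw [if_neg hx, if_neg hx']
        · rw [if_neg hy]
          symm
          apply Finset.sum_eq_zero
          intro x _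
          rw [if_neg]
          rintro ⟨⟨_, hxC⟩, rfl⟩
          exact hy ⟨le_sup_right, sup_le hxC hMC⟩
      simp_rw [h2]
      rw [Finset.sum_comm]
      have h3 : ∀ x : Subgroup G,
          (∑ y : Subgroup G, if (H ≤ x ∧ x ≤ C) ∧ x ⊔ M = y then μ H x else 0) =
          if H ≤ x ∧ x ≤ C then μ H x else 0 := by
        intro x
        rw [Finset.sum_eq_single (x ⊔ M)]
        · by_cases hx : H ≤ x ∧ x ≤ C
          · rw [if_pos ⟨hx, rfl⟩, if_pos hx]
          · rw [if_neg (fun h => hx h.1), if_neg hx]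
        · intro y _ hy
          rw [if_neg]
          rintro ⟨_, rfl⟩
          exact hy rfl
        · intro h; exact absurd (Finset.mem_univ _) h
      simp_rw [h3]
      rw [hμ H C, if_neg]
      rintro rfl
      exact absurd hMC (not_le_of_gt hHM)
    rw [Finset.sum_eq_single C] at h1
    · rwa [if_pos ⟨hMC, le_rfl⟩] at h1
    · intro y _ hyC
      by_cases hy : M ≤ y ∧ y ≤ C
      · rw [if_pos hy]
        exact ih y (lt_of_le_of_ne hy.2 hyC) hy.1
      · rw [if_neg hy]
    · intro h; exact absurd (Finset.mem_univ _) h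

theorem lt_inf_normalizer [Finite G] {p : ℕ} [hp : Fact p.Prime] {R T : Subgroup G}
    (hT : IsPGroup p T) (hlt : R < T) : R < T ⊓ Subgroup.normalizer (R : Set G) := by
  have : Group.IsNilpotent T := hT.isNilpotent
  have nc := Group.normalizerCondition_of_isNilpotent (G := T)
  have h1 : R.subgroupOf T < ⊤ := by
    rw [lt_top_iff_ne_top, Ne, Subgroup.subgroupOf_eq_top]
    exact not_le_of_gt hlt
  have h2 := nc _ h1
  rw [← Subgroup.subgroupOf_normalizer_eq hlt.le] at h2
  obtain ⟨x, hx, hxR⟩ := SetLike.exists_of_lt h2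
  rw [Subgroup.mem_subgroupOf] at hx hxR
  apply lt_of_le_of_ne (le_inf hlt.le Subgroup.le_normalizer)
  intro he
  apply hxR
  rw [he]
  exact ⟨x.2, hx⟩

theorem le_normalizer_sInf {K : Subgroup G} {S : Set (Subgroup G)}
    (h : ∀ m ∈ S, K ≤ Subgroup.normalizer (m : Set G)) :
    K ≤ Subgroup.normalizer ((sInf S : Subgroup G) : Set G) := by
  intro k hk
  rw [Subgroup.mem_normalizer_iff]
  intro x
  simp only [Subgroup.mem_sInf]
  constructor
  · intro hx m hm
    exact ((Subgroup.mem_normalizer_iff.mp (h m hm hk)) x).mp (hx m hm)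
  · intro hx m hm
    exact ((Subgroup.mem_normalizer_iff.mp (h m hm hk)) x).mpr (hx m hm)

theorem mu_eq_zero_of_not_normal [Finite G] [Fintype (Subgroup G)]
    {μ : Subgroup G → Subgroup G → ℤ} (hμ : IsMu μ) {p : ℕ} [hp : Fact p.Prime]
    {H H' : Subgroup G} (hH' : IsPGroup p H') (hle : H ≤ H')
    (hn : ¬ H' ≤ Subgroup.normalizer (H : Set G)) : μ H H' = 0 := by
  have hlt : H < H' := lt_of_le_of_ne hle (by rintro rfl; exact hn Subgroup.le_normalizer)
  have claim1 : ∀ x : Subgroup G, H ≤ x → x < H' →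
      ∃ m : Subgroup G, x ≤ m ∧ m < H' ∧ H' ≤ Subgroup.normalizer (m : Set G) := by
    intro x
    induction x using WellFoundedGT.induction with
    | ind x ih =>
      intro hHx hxlt
      have h1 := lt_inf_normalizer hH' hxlt
      by_cases h2 : H' ≤ Subgroup.normalizer (x : Set G)
      · exact ⟨x, le_rfl, hxlt, h2⟩
      · have h3 : H' ⊓ Subgroup.normalizer (x : Set G) < H' :=
          lt_of_le_of_ne inf_le_left (fun h => h2 (inf_eq_left.mp h))
        obtain ⟨m, hm1, hm2, hm3⟩ := ih _ h1 (hHx.trans h1.le) h3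
        exact ⟨m, h1.le.trans hm1, hm2, hm3⟩
  obtain ⟨m₀, hm₀1, hm₀2, hm₀3⟩ := claim1 H le_rfl hlt
  set S : Set (Subgroup G) :=
    {m | H ≤ m ∧ m < H' ∧ H' ≤ Subgroup.normalizer (m : Set G)} with hS
  have hHa : H ≤ sInf S := le_sInf (fun m hm => hm.1)
  have haH' : sInf S ≤ H' := (sInf_le (show m₀ ∈ S from ⟨hm₀1, hm₀2, hm₀3⟩)).trans hm₀2.le
  have hna : H' ≤ Subgroup.normalizer ((sInf S : Subgroup G) : Set G) :=
    le_normalizer_sInf (fun m hm => hm.2.2)
  have hHa' : H ≠ sInf S := by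
    intro h
    apply hn
    rw [h]
    exact hna
  have hw := weisner hμ (lt_of_le_of_ne hHa hHa') H' haH'
  rw [Finset.sum_eq_single H'] at hw
  · rwa [if_pos ⟨hle, sup_eq_left.mpr haH'⟩] at hw
  · intro x _ hx
    rw [if_neg]
    rintro ⟨hHx, hxa⟩
    have hxH' : x ≤ H' := hxa ▸ le_sup_left
    obtain ⟨m, hxm, hmlt, hmn⟩ := claim1 x hHx (lt_of_le_of_ne hxH' hx)
    have ham : sInf S ≤ m := sInf_le ⟨hHx.trans hxm, hmlt, hmn⟩
    have h5 : x ⊔ sInf S ≤ m := sup_le hxm ham
    rw [hxa] at h5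
    exact absurd h5 (not_le_of_gt hmlt)
  · intro h; exact absurd (Finset.mem_univ _) h

end Cfsg.Agent.Lib.Helper2.SubnMu
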