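import Mathlib
import Cfsg.Agent.Lib.Helper2.SubnMu

set_option autoImplicit false

/-! Casolo's count of the subnormalizer of a `p`-subgroup:
`#{g : H ≤ some g-invariant p-subgroup} = #{Sylow ⊇ H} * |N_G(P)|`. -/

namespace Cfsg.Agent.Lib.Helper2.SubnCount

open Classical
open Cfsg.Agent.Lib.Helper2.SubnMu

universe u

variable {G : Type u} [Group G] [Finite G] (p : ℕ) [hp : Fact p.Prime]

/-- `g` normalizes some `p`-subgroup containing `H`. -/
def Sub (g : G) (H : Subgroup G) : Prop :=
  ∃ R : Subgroup G, IsPGroup p R ∧ H ≤ R ∧ g ∈ Subgroup.normalizer (R : Set G)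

noncomputable def cnt (H : Subgroup G) : ℕ := Nat.card {g : G // Sub p g H}

noncomputable def lam (H : Subgroup G) : ℕ := Nat.card {Q : Sylow p G // H ≤ (Q : Subgroup G)}

noncomputable def nu (G : Type u) [Group G] [Finite G] (p : ℕ) : ℕ :=
  Nat.card G / Nat.card (Sylow p G)

omit [Finite G] hp in
theorem Sub.mono {g : G} {H H' : Subgroup G} (h : H ≤ H') (hs : Sub p g H') : Sub p g H := by
  obtain ⟨R, hR, hle, hg⟩ := hs
  exact ⟨R, hR, h.trans hle, hg⟩

omit [Finite G] hp in
theorem Sub.isPGroup {g : G} {H : Subgroup G} (hs : Sub p g H) : IsPGroup p H := by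
  obtain ⟨R, hR, hle, -⟩ := hs
  exact hR.to_le hle

theorem card_normalizer_sylow (Q : Sylow p G) :
    Nat.card (Subgroup.normalizer ((Q : Subgroup G) : Set G)) = nu G p := by
  have h1 : Nat.card (Sylow p G) = (Subgroup.normalizer ((Q : Subgroup G) : Set G)).index :=
    Sylow.card_eq_index_normalizer Q
  have h2 := Subgroup.card_mul_index (Subgroup.normalizer ((Q : Subgroup G) : Set G))
  unfold nu
  rw [h1, ← h2]
  exact (Nat.mul_div_cancel _ (Nat.pos_of_ne_zero Subgroup.index_ne_zero_of_finite)).symm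

theorem nu_mul_card : nu G p * Nat.card (Sylow p G) = Nat.card G := by
  obtain ⟨Q⟩ := (inferInstance : Nonempty (Sylow p G))
  have h1 : Nat.card (Sylow p G) = (Subgroup.normalizer ((Q : Subgroup G) : Set G)).index :=
    Sylow.card_eq_index_normalizer Q
  rw [← card_normalizer_sylow p Q, h1]
  exact Subgroup.card_mul_index _

omit [Finite G] hp in
theorem mem_smul_sylow_iff (g x : G) (Q : Sylow p G) :
    x ∈ ((g • Q : Sylow p G) : Subgroup G) ↔ g⁻¹ * x * g ∈ (Q : Subgroup G) := by
  rw [Sylow.coe_subgroup_smul, Subgroup.mem_pointwise_smul_iff_inv_smul_mem, MulAut.smul_def,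
    MulAut.conj_inv_apply]

theorem le_sylow_of_normal {H : Subgroup G} (hH : IsPGroup p H)
    (hn : Subgroup.normalizer (H : Set G) = ⊤) (Q : Sylow p G) : H ≤ (Q : Subgroup G) := by
  obtain ⟨Q₁, h1⟩ := hH.exists_le_sylow
  obtain ⟨g, rfl⟩ := MulAction.exists_smul_eq G Q₁ Q
  have hnorm : H.Normal := Subgroup.normalizer_eq_top_iff.mp hn
  intro x hx
  rw [mem_smul_sylow_iff]
  apply h1
  have := hnorm.conj_mem x hx g⁻¹
  simpa using this

omit [Finite G] hp in
theorem transfer_iff {N : Subgroup G} {H' : Subgroup G} (hH' : H' ≤ N) (g : N) :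
    Sub p (g : G) H' ↔ Sub p g (H'.subgroupOf N) := by
  constructor
  · rintro ⟨R, hR, hle, hg⟩
    refine ⟨R.subgroupOf N, hR.comap_subtype, ?_, ?_⟩
    · intro x hx
      rw [Subgroup.mem_subgroupOf] at hx ⊢
      exact hle hx
    · rw [Subgroup.mem_normalizer_iff]
      intro h
      simp only [Subgroup.mem_subgroupOf, Subgroup.coe_mul, InvMemClass.coe_inv]
      exact (Subgroup.mem_normalizer_iff.mp hg) (h : G)
  · rintro ⟨R', hR', hle, hg⟩
    refine ⟨R'.map N.subtype, hR'.map _, ?_, ?_⟩
    · have := Subgroup.map_mono (f := N.subtype) hle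
      rwa [Subgroup.map_subgroupOf_eq_of_le hH'] at this
    · exact Subgroup.le_normalizer_map N.subtype (Subgroup.mem_map_of_mem _ hg)

omit [Finite G] hp in
theorem transfer_card {N : Subgroup G} {H' : Subgroup G} (hH' : H' ≤ N) :
    Nat.card {g : G // g ∈ N ∧ Sub p g H'} = cnt p (H'.subgroupOf N) := by
  unfold cnt
  apply Nat.card_congr
  refine (Equiv.subtypeSubtypeEquivSubtypeInter (fun g : G => g ∈ N)
    (fun g => Sub p g H')).symm.trans ?_
  exact Equiv.subtypeEquivRight (fun g => transfer_iff p hH' g)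

theorem sum_ite_card {α : Type*} [Fintype α] (P : α → Prop) (z : ℤ) :
    (∑ a : α, if P a then z else 0) = z * (Nat.card {a // P a} : ℤ) := by
  rw [← Finset.sum_filter, Finset.sum_const, nsmul_eq_mul, Nat.card_eq_fintype_card,
    Fintype.card_subtype, mul_comm]

omit [Finite G] hp in
theorem lam_eq_sum [Fintype (Sylow p G)] (H : Subgroup G) :
    (lam p H : ℤ) = ∑ Q : Sylow p G, if H ≤ (Q : Subgroup G) then 1 else 0 := by
  rw [sum_ite_card, one_mul]; rfl

omit [Finite G] hp in
theorem subgroupOf_le_iff {N H' : Subgroup G} (h : H' ≤ N) (Q : Subgroup N) :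
    H'.subgroupOf N ≤ Q ↔ H' ≤ Q.map N.subtype := by
  constructor
  · intro hle
    have := Subgroup.map_mono (f := N.subtype) hle
    rwa [Subgroup.map_subgroupOf_eq_of_le h] at this
  · intro hle x hx
    rw [Subgroup.mem_subgroupOf] at hx
    obtain ⟨y, hy, hxy⟩ := hle hx
    have : y = x := Subtype.ext hxy
    rwa [← this]

omit [Finite G] in
theorem c_eq_zero [Fintype (Subgroup G)] {μ : Subgroup G → Subgroup G → ℤ} (hμ : IsMu μ)
    {H : Subgroup G} {g : G} (hg : g ∉ Subgroup.normalizer (H : Set G)) :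
    (∑ H' : Subgroup G, if H ≤ H' ∧ Sub p g H' then μ H H' else 0) = 0 := by
  by_cases hs : Sub p g H
  · set S : Set (Subgroup G) :=
      {R | IsPGroup p R ∧ H ≤ R ∧ g ∈ Subgroup.normalizer (R : Set G)} with hS
    obtain ⟨R₀, hR₀⟩ := hs
    have hR₀S : R₀ ∈ S := hR₀
    have hHM : H ≤ sInf S := le_sInf (fun R hR => hR.2.1)
    have hgM : g ∈ Subgroup.normalizer ((sInf S : Subgroup G) : Set G) := by
      have h1 := le_normalizer_sInf (K := Subgroup.zpowers g) (S := S)
        (fun m hm => by rw [Subgroup.zpowers_le]; exact hm.2.2)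
      exact h1 (Subgroup.mem_zpowers g)
    have hne : H ≠ sInf S := by
      intro h
      apply hg
      have e : Subgroup.normalizer (H : Set G) =
          Subgroup.normalizer ((sInf S : Subgroup G) : Set G) :=
        congrArg (fun K : Subgroup G => Subgroup.normalizer (K : Set G)) h
      rw [e]
      exact hgM
    have hlt : H < sInf S := lt_of_le_of_ne hHM hne
    have hML : ∀ R ∈ S, sInf S ≤ R := fun R hR => sInf_le hR
    have h1 : ∀ H' : Subgroup G, (if H ≤ H' ∧ Sub p g H' then μ H H' else 0) =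
        ∑ C : Subgroup G, if (H ≤ H' ∧ Sub p g H') ∧ H' ⊔ sInf S = C then μ H H' else 0 := by
      intro H'
      rw [Finset.sum_eq_single (H' ⊔ sInf S)]
      · by_cases hx : H ≤ H' ∧ Sub p g H'
        · rw [if_pos hx, if_pos ⟨hx, rfl⟩]
        · rw [if_neg hx, if_neg (fun h => hx h.1)]
      · intro C _ hC
        rw [if_neg]
        rintro ⟨_, rfl⟩
        exact hC rfl
      · intro h; exact absurd (Finset.mem_univ _) h
    simp_rw [h1]
    rw [Finset.sum_comm]
    apply Finset.sum_eq_zero
    intro C _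
    by_cases hC : sInf S ≤ C ∧ Sub p g C
    · refine Eq.trans ?_ (weisner hμ hlt C hC.1)
      apply Finset.sum_congr rfl
      intro H' _
      by_cases hx : H ≤ H' ∧ H' ⊔ sInf S = C
      · have hH'C : H' ≤ C := hx.2 ▸ le_sup_left
        rw [if_pos hx, if_pos ⟨⟨hx.1, Sub.mono p hH'C hC.2⟩, hx.2⟩]
      · rw [if_neg hx, if_neg (fun h => hx ⟨h.1.1, h.2⟩)]
    · apply Finset.sum_eq_zero
      intro H' _
      rw [if_neg]
      rintro ⟨⟨hHH', R, hR, hle, hgR⟩, rfl⟩
      apply hC
      have hRS : R ∈ S := ⟨hR, hHH'.trans hle, hgR⟩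
      exact ⟨le_sup_right, R, hR, sup_le hle (hML R hRS), hgR⟩
  · apply Finset.sum_eq_zero
    intro H' _
    rw [if_neg]
    rintro ⟨h1, h2⟩
    exact hs (Sub.mono p h1 h2)

omit [Finite G] hp in
theorem sum_c_eq [Fintype G] [Fintype (Subgroup G)] (μ : Subgroup G → Subgroup G → ℤ)
    (H : Subgroup G) (T : G → Prop) :
    (∑ g : G, if T g then
      (∑ H' : Subgroup G, if H ≤ H' ∧ Sub p g H' then μ H H' else 0) else 0) =
    ∑ H' : Subgroup G, if H ≤ H' then
      μ H H' * (Nat.card {g : G // T g ∧ Sub p g H'} : ℤ) else 0 := by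
  have h1 : ∀ g : G, (if T g then
      (∑ H' : Subgroup G, if H ≤ H' ∧ Sub p g H' then μ H H' else 0) else 0) =
      ∑ H' : Subgroup G, if H ≤ H' ∧ (T g ∧ Sub p g H') then μ H H' else 0 := by
    intro g
    by_cases hT : T g
    · rw [if_pos hT]
      apply Finset.sum_congr rfl
      intro H' _
      simp only [hT, true_and]
    · rw [if_neg hT]
      symm
      apply Finset.sum_eq_zero
      intro H' _
      rw [if_neg]
      rintro ⟨_, h, _⟩
      exact hT h
  simp_rw [h1]
  rw [Finset.sum_comm]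
  apply Finset.sum_congr rfl
  intro H' _
  by_cases h : H ≤ H'
  · rw [if_pos h, ← sum_ite_card]
    apply Finset.sum_congr rfl
    intro g _
    by_cases hx : T g ∧ Sub p g H'
    · rw [if_pos ⟨h, hx⟩, if_pos hx]
    · rw [if_neg (fun hh => hx hh.2), if_neg hx]
  · rw [if_neg h]
    apply Finset.sum_eq_zero
    intro g _
    rw [if_neg (fun hh => h hh.1)]

omit [Finite G] hp in
theorem sum_mu_lam [Fintype (Subgroup G)] [Fintype (Sylow p G)]
    {μ : Subgroup G → Subgroup G → ℤ} (hμ : IsMu μ) (H : Subgroup G)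
    (hH : ∀ Q : Sylow p G, H ≠ (Q : Subgroup G)) (k : ℤ) :
    (∑ H' : Subgroup G, if H ≤ H' then μ H H' * ((lam p H' : ℤ) * k) else 0) = 0 := by
  have h1 : ∀ H' : Subgroup G, (if H ≤ H' then μ H H' * ((lam p H' : ℤ) * k) else 0) =
      ∑ Q : Sylow p G, k * (if H ≤ H' ∧ H' ≤ (Q : Subgroup G) then μ H H' else 0) := by
    intro H'
    by_cases h : H ≤ H'
    · rw [if_pos h, lam_eq_sum, Finset.sum_mul, Finset.mul_sum]
      apply Finset.sum_congr rfl
      intro Q _
      by_cases hQ : H' ≤ (Q : Subgroup G)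
      · rw [if_pos hQ, if_pos ⟨h, hQ⟩]; ring
      · rw [if_neg hQ, if_neg (fun hh => hQ hh.2)]; ring
    · rw [if_neg h]
      symm
      apply Finset.sum_eq_zero
      intro Q _
      rw [if_neg (fun hh => h hh.1), mul_zero]
  simp_rw [h1]
  rw [Finset.sum_comm]
  apply Finset.sum_eq_zero
  intro Q _
  rw [← Finset.mul_sum, hμ H (Q : Subgroup G), if_neg (hH Q), mul_zero]

omit [Finite G] hp in
theorem sum_mu_lam_rel [Fintype (Subgroup G)] {μ : Subgroup G → Subgroup G → ℤ} (hμ : IsMu μ)
    (H N : Subgroup G) [Fintype (Sylow p N)]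
    (hH : ∀ Q : Sylow p N, H ≠ (Q : Subgroup N).map N.subtype) (k : ℤ) :
    (∑ H' : Subgroup G, if H ≤ H' ∧ H' ≤ N then
      μ H H' * ((lam p (H'.subgroupOf N) : ℤ) * k) else 0) = 0 := by
  have h1 : ∀ H' : Subgroup G, (if H ≤ H' ∧ H' ≤ N then
      μ H H' * ((lam p (H'.subgroupOf N) : ℤ) * k) else 0) =
      ∑ Q : Sylow p N, k * (if H ≤ H' ∧ H' ≤ (Q : Subgroup N).map N.subtype
        then μ H H' else 0) := by
    intro H'
    by_cases h : H ≤ H' ∧ H' ≤ N
    · rw [if_pos h, lam_eq_sum, Finset.sum_mul, Finset.mul_sum]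
      apply Finset.sum_congr rfl
      intro Q _
      by_cases hQ : H'.subgroupOf N ≤ (Q : Subgroup N)
      · rw [if_pos hQ, if_pos ⟨h.1, (subgroupOf_le_iff h.2 _).mp hQ⟩]; ring
      · rw [if_neg hQ, if_neg (fun hh => hQ ((subgroupOf_le_iff h.2 _).mpr hh.2))]; ring
    · rw [if_neg h]
      symm
      apply Finset.sum_eq_zero
      intro Q _
      rw [if_neg, mul_zero]
      rintro ⟨hh1, hh2⟩
      exact h ⟨hh1, hh2.trans (Subgroup.map_subtype_le _)⟩
  simp_rw [h1]
  rw [Finset.sum_comm]
  apply Finset.sum_eq_zero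
  intro Q _
  rw [← Finset.mul_sum, hμ H ((Q : Subgroup N).map N.subtype), if_neg (hH Q), mul_zero]

theorem cnt_eq_step (G : Type u) [Group G] [Finite G]
    (IH : ∀ N : Subgroup G, N ≠ ⊤ → ∀ H' : Subgroup N, cnt p H' = lam p H' * nu N p)
    (H : Subgroup G) : cnt p H = lam p H * nu G p := by
  induction H using WellFoundedGT.induction with
  | ind H ih =>
    by_cases h0 : IsPGroup p H
    swap
    · have e1 : cnt p H = 0 := by
        unfold cnt
        haveI : IsEmpty {g : G // Sub p g H} := ⟨fun ⟨g, hg⟩ => h0 (Sub.isPGroup p hg)⟩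
        exact Nat.card_of_isEmpty
      have e2 : lam p H = 0 := by
        unfold lam
        haveI : IsEmpty {Q : Sylow p G // H ≤ (Q : Subgroup G)} :=
          ⟨fun ⟨Q, hQ⟩ => h0 (Q.isPGroup'.to_le hQ)⟩
        exact Nat.card_of_isEmpty
      rw [e1, e2, zero_mul]
    by_cases hN : Subgroup.normalizer (H : Set G) = ⊤
    · have e1 : cnt p H = Nat.card G := by
        unfold cnt
        exact Nat.card_congr (Equiv.subtypeUnivEquiv
          (fun g => ⟨H, h0, le_rfl, by rw [hN]; exact Subgroup.mem_top g⟩))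
      have e2 : lam p H = Nat.card (Sylow p G) := by
        unfold lam
        exact Nat.card_congr (Equiv.subtypeUnivEquiv (fun Q => le_sylow_of_normal p h0 hN Q))
      rw [e1, e2, mul_comm, nu_mul_card]
    by_cases hmax : ∃ R : Subgroup G, IsPGroup p R ∧ H < R
    swap
    · have hmax' : ∀ R : Subgroup G, IsPGroup p R → H ≤ R → R = H := by
        intro R hR hle
        by_contra hne
        exact hmax ⟨R, hR, lt_of_le_of_ne hle (Ne.symm hne)⟩
      let Q₀ : Sylow p G := ⟨H, h0, fun {Q} hQ hle => hmax' Q hQ hle⟩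
      have e1 : cnt p H = Nat.card (Subgroup.normalizer (H : Set G)) := by
        unfold cnt
        apply Nat.card_congr
        apply Equiv.subtypeEquivRight
        intro g
        constructor
        · rintro ⟨R, hR, hle, hg⟩
          rw [hmax' R hR hle] at hg
          exact hg
        · intro hg
          exact ⟨H, h0, le_rfl, hg⟩
      have e2 : lam p H = 1 := by
        unfold lam
        haveI : Unique {Q : Sylow p G // H ≤ (Q : Subgroup G)} :=
          { default := ⟨Q₀, le_rfl⟩
            uniq := fun ⟨Q, hQ⟩ => Subtype.ext (Sylow.ext (hmax' Q Q.isPGroup' hQ)) }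
        exact Nat.card_unique
      rw [e1, e2, one_mul]
      exact card_normalizer_sylow p Q₀
    -- main case
    obtain ⟨R₁, hR₁, hHR₁⟩ := hmax
    haveI : Fintype G := Fintype.ofFinite G
    haveI : Fintype (Subgroup G) := Fintype.ofFinite _
    haveI : Fintype (Sylow p G) := Fintype.ofFinite _
    obtain ⟨μ, hμ⟩ := exists_isMu (G := G)
    haveI : Fintype (Sylow p (Subgroup.normalizer (H : Set G))) := Fintype.ofFinite _
    have hnotsyl : ∀ Q : Sylow p G, H ≠ (Q : Subgroup G) := by
      intro Q h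
      have h2 : R₁ = (Q : Subgroup G) := Q.is_maximal' hR₁ (by rw [← h]; exact hHR₁.le)
      exact (ne_of_lt hHR₁) (h.trans h2.symm)
    have hnotsylN : ∀ Q : Sylow p (Subgroup.normalizer (H : Set G)),
        H ≠ (Q : Subgroup (Subgroup.normalizer (H : Set G))).map
          (Subgroup.normalizer (H : Set G)).subtype := by
      intro Q h
      have h1 := lt_inf_normalizer hR₁ hHR₁
      have hR₂N : R₁ ⊓ Subgroup.normalizer (H : Set G) ≤ Subgroup.normalizer (H : Set G) :=
        inf_le_right
      have hR₂p : IsPGroup p (R₁ ⊓ Subgroup.normalizer (H : Set G) : Subgroup G) :=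
        hR₁.to_le inf_le_left
      have h2 : (Q : Subgroup (Subgroup.normalizer (H : Set G))) ≤
          (R₁ ⊓ Subgroup.normalizer (H : Set G)).subgroupOf
            (Subgroup.normalizer (H : Set G)) := by
        intro x hx
        rw [Subgroup.mem_subgroupOf]
        apply h1.le
        have : (x : G) ∈ (Q : Subgroup (Subgroup.normalizer (H : Set G))).map
            (Subgroup.normalizer (H : Set G)).subtype := Subgroup.mem_map_of_mem _ hx
        rw [← h] at this
        exact this
      have h3 : (R₁ ⊓ Subgroup.normalizer (H : Set G)).subgroupOf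
          (Subgroup.normalizer (H : Set G)) =
          (Q : Subgroup (Subgroup.normalizer (H : Set G))) :=
        Q.is_maximal' hR₂p.comap_subtype h2
      have h4 : R₁ ⊓ Subgroup.normalizer (H : Set G) = H := by
        have h5 := Subgroup.map_subgroupOf_eq_of_le hR₂N
        rw [h3, ← h] at h5
        exact h5.symm
      exact (ne_of_lt h1) h4.symm
    have hI := sum_c_eq p μ H (fun _ => True)
    have hIII := sum_c_eq p μ H (fun g => g ∈ Subgroup.normalizer (H : Set G))
    have hIV : (∑ H' : Subgroup G, if H ≤ H' then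
        μ H H' * (Nat.card {g : G // True ∧ Sub p g H'} : ℤ) else 0) =
        ∑ H' : Subgroup G, if H ≤ H' then μ H H' *
          (Nat.card {g : G // g ∈ Subgroup.normalizer (H : Set G) ∧ Sub p g H'} : ℤ) else 0 := by
      rw [← hI, ← hIII]
      apply Finset.sum_congr rfl
      intro g _
      rw [if_pos trivial]
      by_cases hg : g ∈ Subgroup.normalizer (H : Set G)
      · rw [if_pos hg]
      · rw [if_neg hg]; exact c_eq_zero p hμ hg
    have hV : (∑ H' : Subgroup G, if H ≤ H' then μ H H' *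
        (Nat.card {g : G // g ∈ Subgroup.normalizer (H : Set G) ∧ Sub p g H'} : ℤ) else 0) = 0 := by
      refine Eq.trans ?_ (sum_mu_lam_rel p hμ H (Subgroup.normalizer (H : Set G)) hnotsylN
        (nu (Subgroup.normalizer (H : Set G)) p : ℤ))
      apply Finset.sum_congr rfl
      intro H' _
      by_cases h : H ≤ H'
      · rw [if_pos h]
        by_cases h' : H' ≤ Subgroup.normalizer (H : Set G)
        · rw [if_pos ⟨h, h'⟩, transfer_card p h', IH _ hN (H'.subgroupOf _)]
          push_cast
          ring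
        · rw [if_neg (fun hh => h' hh.2)]
          by_cases hp' : IsPGroup p H'
          · rw [mu_eq_zero_of_not_normal hμ hp' h h', zero_mul]
          · haveI : IsEmpty {g : G // g ∈ Subgroup.normalizer (H : Set G) ∧ Sub p g H'} :=
              ⟨fun ⟨g, _, hs⟩ => hp' (Sub.isPGroup p hs)⟩
            rw [Nat.card_of_isEmpty]
            simp
      · rw [if_neg h, if_neg (fun hh => h hh.1)]
    have hVI := sum_mu_lam p hμ H hnotsyl (nu G p : ℤ)
    have hsum : (∑ H' : Subgroup G, if H ≤ H' then
        μ H H' * ((cnt p H' : ℤ) - (lam p H' : ℤ) * (nu G p : ℤ)) else 0) = 0 := by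
      have e : ∀ H' : Subgroup G, (if H ≤ H' then
          μ H H' * ((cnt p H' : ℤ) - (lam p H' : ℤ) * (nu G p : ℤ)) else 0) =
          (if H ≤ H' then μ H H' * (Nat.card {g : G // True ∧ Sub p g H'} : ℤ) else 0) -
          (if H ≤ H' then μ H H' * ((lam p H' : ℤ) * (nu G p : ℤ)) else 0) := by
        intro H'
        have ec : (Nat.card {g : G // True ∧ Sub p g H'}) = cnt p H' :=
          Nat.card_congr (Equiv.subtypeEquivRight (fun g => by simp))
        rw [ec]
        by_cases h : H ≤ H'
        · rw [if_pos h, if_pos h, if_pos h]; ring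
        · rw [if_neg h, if_neg h, if_neg h]; ring
      simp_rw [e]
      rw [Finset.sum_sub_distrib, hIV, hV, hVI, sub_zero]
    rw [Finset.sum_eq_single H] at hsum
    · rw [if_pos le_rfl, hμ.self, one_mul, sub_eq_zero] at hsum
      exact_mod_cast hsum
    · intro H' _ hne
      by_cases h : H ≤ H'
      · rw [if_pos h, ih H' (lt_of_le_of_ne h (Ne.symm hne))]
        push_cast
        ring
      · rw [if_neg h]
    · intro h; exact absurd (Finset.mem_univ _) h

theorem cnt_eq_aux : ∀ (n : ℕ) (G : Type u) [Group G] [Finite G], Nat.card G = n →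
    ∀ H : Subgroup G, cnt p H = lam p H * nu G p := by
  intro n
  induction n using Nat.strong_induction_on with
  | _ n ih =>
    intro G _ _ hn H
    apply cnt_eq_step
    intro N hN H'
    refine ih (Nat.card N) ?_ N rfl H'
    rw [← hn]
    exact lt_of_le_of_ne (Subgroup.card_le_card_group N)
      (fun h => hN (Subgroup.eq_top_of_card_eq N h))

theorem cnt_eq (H : Subgroup G) : cnt p H = lam p H * nu G p := cnt_eq_aux p _ G rfl H

end Cfsg.Agent.Lib.Helper2.SubnCount
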