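import Mathlib
import Cfsg.Agent.Lib.Helper2.SubnCount

set_option autoImplicit false

/-! Double counting: `#{Sylow ⊇ H} * |N_G(P)| = #{conjugates of H in P} * |N_G(H)|`. -/

namespace Cfsg.Agent.Lib.Helper2.SubnCount

open Classical

universe u

variable {G : Type u} [Group G] [Finite G] (p : ℕ) [hp : Fact p.Prime]

theorem card_eq_mul_of_fibers {α β : Type*} [Finite α] [Finite β] (f : α → β) (k : ℕ)
    (h : ∀ b, Nat.card {a // f a = b} = k) : Nat.card α = Nat.card β * k := by
  haveI := Fintype.ofFinite β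
  rw [← Nat.card_congr (Equiv.sigmaFiberEquiv f), Nat.card_sigma]
  simp only [h, Finset.sum_const, Finset.card_univ, smul_eq_mul, Nat.card_eq_fintype_card]

omit [Finite G] in
theorem mem_map_conj {H : Subgroup G} {g x : G} :
    x ∈ H.map (MulAut.conj g).toMonoidHom ↔ g⁻¹ * x * g ∈ H := by
  constructor
  · rintro ⟨h, hh, rfl⟩
    have e : g⁻¹ * ((MulAut.conj g).toMonoidHom h) * g = h := by
      simp [MulAut.conj_apply, mul_assoc]
    rw [e]; exact hh
  · intro hx
    refine ⟨g⁻¹ * x * g, hx, ?_⟩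
    simp [MulAut.conj_apply, mul_assoc]

omit [Finite G] in
theorem map_conj_eq_iff {H : Subgroup G} {g g₀ : G} :
    H.map (MulAut.conj g).toMonoidHom = H.map (MulAut.conj g₀).toMonoidHom ↔
      g₀⁻¹ * g ∈ Subgroup.normalizer (H : Set G) := by
  constructor
  · intro E
    rw [Subgroup.mem_normalizer_iff]
    intro h
    constructor
    · intro hh
      have h1 : g * h * g⁻¹ ∈ H.map (MulAut.conj g).toMonoidHom := by
        rw [mem_map_conj]
        have e : g⁻¹ * (g * h * g⁻¹) * g = h := by group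
        rw [e]; exact hh
      rw [E, mem_map_conj] at h1
      have e : g₀⁻¹ * g * h * (g₀⁻¹ * g)⁻¹ = g₀⁻¹ * (g * h * g⁻¹) * g₀ := by group
      rw [e]; exact h1
    · intro hh
      have h1 : g * h * g⁻¹ ∈ H.map (MulAut.conj g₀).toMonoidHom := by
        rw [mem_map_conj]
        have e : g₀⁻¹ * (g * h * g⁻¹) * g₀ = g₀⁻¹ * g * h * (g₀⁻¹ * g)⁻¹ := by group
        rw [e]; exact hh
      rw [← E, mem_map_conj] at h1
      have e : g⁻¹ * (g * h * g⁻¹) * g = h := by group
      rw [e] at h1; exact h1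
  · intro hk
    ext x
    rw [mem_map_conj, mem_map_conj]
    have h1 := (Subgroup.mem_normalizer_iff.mp hk) (g⁻¹ * x * g)
    have e : g₀⁻¹ * g * (g⁻¹ * x * g) * (g₀⁻¹ * g)⁻¹ = g₀⁻¹ * x * g₀ := by group
    rw [e] at h1
    exact h1

omit [Finite G] hp in
theorem map_conj_le_sylow {H : Subgroup G} {g : G} (P : Sylow p G) :
    H.map (MulAut.conj g).toMonoidHom ≤ (P : Subgroup G) ↔
      H ≤ ((g⁻¹ • P : Sylow p G) : Subgroup G) := by
  constructor
  · intro hle x hx
    rw [mem_smul_sylow_iff, inv_inv]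
    apply hle
    rw [mem_map_conj]
    have e : g⁻¹ * (g * x * g⁻¹) * g = x := by group
    rw [e]; exact hx
  · intro hle x hx
    rw [mem_map_conj] at hx
    have h1 := hle hx
    rw [mem_smul_sylow_iff, inv_inv] at h1
    have e : g * (g⁻¹ * x * g) * g⁻¹ = x := by group
    rw [e] at h1; exact h1

theorem card_T_a (H : Subgroup G) (P : Subgroup G) :
    Nat.card {g : G // H.map (MulAut.conj g).toMonoidHom ≤ P} =
    Nat.card {K : Subgroup G // K ≤ P ∧ ∃ g : G, K = H.map (MulAut.conj g).toMonoidHom} *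
      Nat.card (Subgroup.normalizer (H : Set G)) := by
  apply card_eq_mul_of_fibers
    (fun g : {g : G // H.map (MulAut.conj g).toMonoidHom ≤ P} =>
      (⟨H.map (MulAut.conj g.1).toMonoidHom, g.2, g.1, rfl⟩ :
        {K : Subgroup G // K ≤ P ∧ ∃ g : G, K = H.map (MulAut.conj g).toMonoidHom}))
  rintro ⟨K, hKP, g₀, rfl⟩
  apply Nat.card_congr
  exact
    { toFun := fun x => ⟨g₀⁻¹ * x.1.1, map_conj_eq_iff.mp (Subtype.ext_iff.mp x.2)⟩
      invFun := fun k => ⟨⟨g₀ * k.1, by
          have e : H.map (MulAut.conj (g₀ * k.1)).toMonoidHom =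
              H.map (MulAut.conj g₀).toMonoidHom :=
            map_conj_eq_iff.mpr (by rw [inv_mul_cancel_left]; exact k.2)
          rw [e]; exact hKP⟩,
        Subtype.ext (map_conj_eq_iff.mpr (by rw [inv_mul_cancel_left]; exact k.2))⟩
      left_inv := fun x => by
        apply Subtype.ext; apply Subtype.ext
        simp
      right_inv := fun k => by
        apply Subtype.ext
        simp }

theorem smul_eq_smul_iff (P : Sylow p G) (g g₁ : G) :
    (g⁻¹ • P : Sylow p G) = g₁ • P ↔
      g * g₁ ∈ Subgroup.normalizer ((P : Subgroup G) : Set G) := by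
  have h0 : (g * g₁) • P = P ↔ g * g₁ ∈ Subgroup.normalizer ((P : Subgroup G) : Set G) :=
    Sylow.smul_eq_iff_mem_normalizer
  rw [← h0, mul_smul, inv_smul_eq_iff, eq_comm]

theorem card_T_b (H : Subgroup G) (P : Sylow p G) :
    Nat.card {g : G // H.map (MulAut.conj g).toMonoidHom ≤ (P : Subgroup G)} =
    lam p H * Nat.card (Subgroup.normalizer ((P : Subgroup G) : Set G)) := by
  unfold lam
  apply card_eq_mul_of_fibers
    (fun g : {g : G // H.map (MulAut.conj g).toMonoidHom ≤ (P : Subgroup G)} =>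
      (⟨g.1⁻¹ • P, (map_conj_le_sylow p P).mp g.2⟩ :
        {Q : Sylow p G // H ≤ (Q : Subgroup G)}))
  rintro ⟨Q, hQ⟩
  obtain ⟨g₁, hg₁⟩ := MulAction.exists_smul_eq G P Q
  apply Nat.card_congr
  exact
    { toFun := fun x => ⟨x.1.1 * g₁, (smul_eq_smul_iff p P x.1.1 g₁).mp
        ((Subtype.ext_iff.mp x.2).trans hg₁.symm)⟩
      invFun := fun k => ⟨⟨k.1 * g₁⁻¹, by
          rw [map_conj_le_sylow p P]
          have e : ((k.1 * g₁⁻¹)⁻¹ • P : Sylow p G) = g₁ • P :=
            (smul_eq_smul_iff p P (k.1 * g₁⁻¹) g₁).mpr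
              (by rw [inv_mul_cancel_right]; exact k.2)
          rw [e, hg₁]; exact hQ⟩,
        Subtype.ext (((smul_eq_smul_iff p P (k.1 * g₁⁻¹) g₁).mpr
          (by rw [inv_mul_cancel_right]; exact k.2)).trans hg₁)⟩
      left_inv := fun x => by
        apply Subtype.ext; apply Subtype.ext
        simp
      right_inv := fun k => by
        apply Subtype.ext
        simp }

/-- `λ_G(H) |N_G(P)| = α_G(H) |N_G(H)|`. -/
theorem lam_mul_eq (H : Subgroup G) (P : Sylow p G) :
    lam p H * Nat.card (Subgroup.normalizer ((P : Subgroup G) : Set G)) =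
    Nat.card {K : Subgroup G // K ≤ (P : Subgroup G) ∧
      ∃ g : G, K = H.map (MulAut.conj g).toMonoidHom} *
      Nat.card (Subgroup.normalizer (H : Set G)) := by
  rw [← card_T_b, card_T_a]

end Cfsg.Agent.Lib.Helper2.SubnCount
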