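import Mathlib
import Cfsg.Agent.Lib.Helper2.SubnCount2

set_option autoImplicit false
set_option linter.style.haveILetI false

/-! Counting `p`-elements through the Sylow subgroups containing them, and the HM-GM bound. -/

namespace Cfsg.Agent.Lib.Helper2.PEltCount

open Classical
open Cfsg.Agent.Lib.Helper2.SubnCount

universe u

variable {G : Type u} [Group G] [Finite G] (p : ℕ) [hp : Fact p.Prime]

/-- Number of Sylow `p`-subgroups containing `g`. -/
noncomputable def lamE (g : G) : ℕ := Nat.card {Q : Sylow p G // g ∈ (Q : Subgroup G)}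

omit [Finite G] hp in
theorem lamE_eq_lam (g : G) : lamE p g = lam p (Subgroup.zpowers g) := by
  unfold lamE lam
  exact Nat.card_congr (Equiv.subtypeEquivRight (fun Q => (Subgroup.zpowers_le).symm))

omit [Finite G] hp in
theorem lamE_conj (c g : G) : lamE p (c * g * c⁻¹) = lamE p g := by
  unfold lamE
  apply Nat.card_congr
  refine (MulAction.toPerm c⁻¹ : Equiv.Perm (Sylow p G)).subtypeEquiv (fun Q => ?_)
  show c * g * c⁻¹ ∈ (Q : Subgroup G) ↔ g ∈ ((c⁻¹ • Q : Sylow p G) : Subgroup G)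
  rw [mem_smul_sylow_iff, inv_inv]

theorem pelt_iff (g : G) :
    (∃ k : ℕ, orderOf g = p ^ k) ↔ ∃ Q : Sylow p G, g ∈ (Q : Subgroup G) := by
  constructor
  · rintro ⟨k, hk⟩
    have h1 : IsPGroup p (Subgroup.zpowers g) := by
      apply IsPGroup.of_card (n := k)
      rw [Nat.card_zpowers, hk]
    obtain ⟨Q, hQ⟩ := h1.exists_le_sylow
    exact ⟨Q, hQ (Subgroup.mem_zpowers g)⟩
  · rintro ⟨Q, hQ⟩
    obtain ⟨k, hk⟩ := Q.2 ⟨g, hQ⟩
    have h1 : g ^ (p ^ k) = 1 := by simpa using congrArg Subtype.val hk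
    obtain ⟨j, -, hj⟩ := (Nat.dvd_prime_pow hp.out).1 (orderOf_dvd_of_pow_eq_one h1)
    exact ⟨j, hj⟩

theorem lamE_pos {g : G} (hg : ∃ Q : Sylow p G, g ∈ (Q : Subgroup G)) : 0 < lamE p g := by
  obtain ⟨Q, hQ⟩ := hg
  unfold lamE
  haveI : Nonempty {Q : Sylow p G // g ∈ (Q : Subgroup G)} := ⟨⟨Q, hQ⟩⟩
  exact Nat.card_pos

theorem card_pelt_real [Fintype G] [Fintype (Sylow p G)] (P : Sylow p G)
    [Fintype ↥(P : Subgroup G)] :
    (Nat.card {g : G // ∃ k : ℕ, orderOf g = p ^ k} : ℝ) =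
      (Nat.card (Sylow p G) : ℝ) * ∑ x : ↥(P : Subgroup G), ((lamE p (x : G) : ℕ) : ℝ)⁻¹ := by
  have h0 : (Nat.card {g : G // ∃ k : ℕ, orderOf g = p ^ k} : ℝ) =
      ∑ g : G, if (∃ k : ℕ, orderOf g = p ^ k) then (1 : ℝ) else 0 := by
    rw [Finset.sum_boole, Nat.card_eq_fintype_card, Fintype.card_subtype]
  have h1 : ∀ g : G, (if (∃ k : ℕ, orderOf g = p ^ k) then (1 : ℝ) else 0) =
      ∑ Q : Sylow p G, if g ∈ (Q : Subgroup G) then ((lamE p g : ℕ) : ℝ)⁻¹ else 0 := by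
    intro g
    rw [← Finset.sum_filter, Finset.sum_const, nsmul_eq_mul]
    have hcard : (Finset.univ.filter (fun Q : Sylow p G => g ∈ (Q : Subgroup G))).card =
        lamE p g := by
      unfold lamE
      rw [Nat.card_eq_fintype_card, Fintype.card_subtype]
    rw [hcard]
    by_cases hg : ∃ k : ℕ, orderOf g = p ^ k
    · rw [if_pos hg]
      have hpos : 0 < lamE p g := lamE_pos p ((pelt_iff p g).1 hg)
      rw [mul_inv_cancel₀]
      exact_mod_cast hpos.ne'
    · rw [if_neg hg]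
      have hz : lamE p g = 0 := by
        unfold lamE
        haveI : IsEmpty {Q : Sylow p G // g ∈ (Q : Subgroup G)} :=
          ⟨fun ⟨Q, hQ⟩ => hg ((pelt_iff p g).2 ⟨Q, hQ⟩)⟩
        exact Nat.card_of_isEmpty
      rw [hz]; simp
  have h3 : ∀ Q : Sylow p G,
      ∑ g : G, (if g ∈ (Q : Subgroup G) then ((lamE p g : ℕ) : ℝ)⁻¹ else 0) =
      ∑ x : ↥(P : Subgroup G), ((lamE p (x : G) : ℕ) : ℝ)⁻¹ := by
    intro Q
    obtain ⟨c, rfl⟩ := MulAction.exists_smul_eq G P Q
    rw [← Equiv.sum_comp (MulAut.conj c).toEquiv]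
    have hy : ∀ y : G,
        (if (MulAut.conj c).toEquiv y ∈ ((c • P : Sylow p G) : Subgroup G) then
          ((lamE p ((MulAut.conj c).toEquiv y) : ℕ) : ℝ)⁻¹ else 0) =
        if y ∈ (P : Subgroup G) then ((lamE p y : ℕ) : ℝ)⁻¹ else 0 := by
      intro y
      have e : (MulAut.conj c).toEquiv y = c * y * c⁻¹ := rfl
      rw [e, lamE_conj, mem_smul_sylow_iff]
      have e2 : c⁻¹ * (c * y * c⁻¹) * c = y := by group
      rw [e2]
    rw [Finset.sum_congr rfl (fun y _ => hy y), ← Finset.sum_filter]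
    exact Finset.sum_subtype (Finset.univ.filter (fun y : G => y ∈ (P : Subgroup G)))
      (by simp) (fun y => ((lamE p y : ℕ) : ℝ)⁻¹)
  rw [h0, Finset.sum_congr rfl (fun g _ => h1 g), Finset.sum_comm,
    Finset.sum_congr rfl (fun Q _ => h3 Q), Finset.sum_const, Finset.card_univ, nsmul_eq_mul,
    Nat.card_eq_fintype_card]

omit [Finite G] hp in
/-- HM-GM in the form needed. -/
theorem pow_card_le {ι : Type*} [Fintype ι] [Nonempty ι] (z : ι → ℝ) (hz : ∀ i, 0 < z i) :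
    (Fintype.card ι : ℝ) ^ Fintype.card ι ≤
      (∏ i, z i) * (∑ i, (z i)⁻¹) ^ Fintype.card ι := by
  have hN : Fintype.card ι ≠ 0 := Fintype.card_ne_zero
  have hNpos : (0 : ℝ) < Fintype.card ι := by exact_mod_cast Nat.pos_of_ne_zero hN
  have h := Real.harm_mean_le_geom_mean (Finset.univ : Finset ι) Finset.univ_nonempty
    (fun _ => (1 : ℝ)) z (fun _ _ => one_pos) (by simpa using hNpos) (fun i _ => hz i)
  simp only [Real.rpow_one, Finset.sum_const, Finset.card_univ, nsmul_eq_mul, mul_one,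
    one_div] at h
  have hS : 0 < ∑ i, (z i)⁻¹ :=
    Finset.sum_pos (fun i _ => inv_pos.2 (hz i)) Finset.univ_nonempty
  have hprod : 0 ≤ ∏ i, z i := Finset.prod_nonneg (fun i _ => (hz i).le)
  have h2 := pow_le_pow_left₀ (div_nonneg hNpos.le hS.le) h (Fintype.card ι)
  rw [Real.rpow_inv_natCast_pow hprod hN, div_pow, div_le_iff₀ (pow_pos hS _)] at h2
  exact h2

end Cfsg.Agent.Lib.Helper2.PEltCount
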