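import Mathlib
import Cfsg.Agent.Lib.Helper2.FixProd

set_option autoImplicit false
set_option linter.style.haveILetI false

/-! Action of `G` on a normal section `B / A`, fixed points versus the sets
`{u ∈ B | [h, u] ∈ A for all h ∈ H}`, and the resulting inequality for a `p'`-section. -/

namespace Cfsg.Agent.Lib.Helper2.SecAct

open Cfsg.Agent.Lib.Helper2.FixProd

universe u

variable {G : Type u} [Group G]

theorem map_conjNormal (A B : Subgroup G) [hA : A.Normal] [B.Normal] (g : G) :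
    (A.subgroupOf B).map ((MulAut.conjNormal g : ↥B ≃* ↥B) : ↥B →* ↥B) = A.subgroupOf B := by
  ext b
  constructor
  · rintro ⟨a, ha, rfl⟩
    have ha' : (a : G) ∈ A := ha
    show ((MulAut.conjNormal g a : ↥B) : G) ∈ A
    rw [MulAut.conjNormal_apply]
    exact hA.conj_mem _ ha' g
  · intro hb
    have hb' : (b : G) ∈ A := hb
    refine ⟨MulAut.conjNormal g⁻¹ b, ?_, ?_⟩
    · show ((MulAut.conjNormal g⁻¹ b : ↥B) : G) ∈ A
      rw [MulAut.conjNormal_apply]
      exact hA.conj_mem _ hb' g⁻¹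
    · show (MulAut.conjNormal g) ((MulAut.conjNormal g⁻¹) b) = b
      rw [← MulAut.mul_apply, ← map_mul, mul_inv_cancel, map_one]
      rfl

/-- Conjugation action of `G` on the section `B / A`. -/
noncomputable def theta (A B : Subgroup G) [A.Normal] [B.Normal] :
    G →* MulAut (↥B ⧸ A.subgroupOf B) where
  toFun g := QuotientGroup.congr (A.subgroupOf B) (A.subgroupOf B) (MulAut.conjNormal g)
    (map_conjNormal A B g)
  map_one' := by
    apply MulEquiv.ext
    intro q
    induction q using QuotientGroup.induction_on with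
    | H b =>
      rw [QuotientGroup.congr_mk, map_one]
      rfl
  map_mul' := fun g h => by
    apply MulEquiv.ext
    intro q
    induction q using QuotientGroup.induction_on with
    | H b =>
      rw [MulAut.mul_apply, QuotientGroup.congr_mk, QuotientGroup.congr_mk,
        QuotientGroup.congr_mk, map_mul]
      rfl

theorem theta_mk (A B : Subgroup G) [A.Normal] [B.Normal] (g : G) (b : ↥B) :
    theta A B g (QuotientGroup.mk b) = QuotientGroup.mk (MulAut.conjNormal g b) :=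
  QuotientGroup.congr_mk _ _ _ (map_conjNormal A B g) b

theorem fix_iff (A B : Subgroup G) [hA : A.Normal] [B.Normal] (g : G) (b : ↥B) :
    theta A B g (QuotientGroup.mk b) = QuotientGroup.mk b ↔
      g * (b : G) * g⁻¹ * (b : G)⁻¹ ∈ A := by
  rw [theta_mk, QuotientGroup.eq, Subgroup.mem_subgroupOf, Subgroup.coe_mul, Subgroup.coe_inv,
    MulAut.conjNormal_apply]
  constructor
  · intro h
    have h1 := hA.conj_mem _ (A.inv_mem h) (b : G)
    have e : (b : G) * ((g * b * g⁻¹)⁻¹ * b)⁻¹ * (b : G)⁻¹ = g * b * g⁻¹ * (b : G)⁻¹ := by group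
    rw [e] at h1; exact h1
  · intro h
    have h1 := hA.conj_mem _ (A.inv_mem h) (b : G)⁻¹
    have e : (b : G)⁻¹ * (g * b * g⁻¹ * (b : G)⁻¹)⁻¹ * ((b : G)⁻¹)⁻¹ = (g * b * g⁻¹)⁻¹ * b := by
      group
    rw [e] at h1; exact h1

theorem card_D [Finite G] (A B : Subgroup G) [A.Normal] [B.Normal] (hAB : A ≤ B)
    (H : Subgroup G) :
    Nat.card {u : G // u ∈ B ∧ ∀ h ∈ H, h * u * h⁻¹ * u⁻¹ ∈ A} =
      Nat.card A * Nat.card {q : ↥B ⧸ A.subgroupOf B // ∀ h ∈ H, theta A B h q = q} := by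
  have e1 : {u : G // u ∈ B ∧ ∀ h ∈ H, h * u * h⁻¹ * u⁻¹ ∈ A} ≃
      ↥((QuotientGroup.mk : ↥B → ↥B ⧸ A.subgroupOf B) ⁻¹'
        {q | ∀ h ∈ H, theta A B h q = q}) :=
    { toFun := fun u => ⟨⟨u.1, u.2.1⟩, fun h hh =>
        (fix_iff A B h ⟨u.1, u.2.1⟩).2 (u.2.2 h hh)⟩
      invFun := fun b => ⟨b.1.1, b.1.2, fun h hh => (fix_iff A B h b.1).1 (b.2 h hh)⟩
      left_inv := fun u => rfl
      right_inv := fun b => rfl }
  have e2 := QuotientGroup.preimageMkEquivSubgroupProdSet (A.subgroupOf B)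
    {q | ∀ h ∈ H, theta A B h q = q}
  rw [Nat.card_congr (e1.trans e2), Nat.card_prod,
    Nat.card_congr (Subgroup.subgroupOfEquivOfLe hAB).toEquiv]
  rfl

theorem card_sec (A B : Subgroup G) [A.Normal] :
    Nat.card (↥B ⧸ A.subgroupOf B) = A.relIndex B :=
  (Subgroup.index_eq_card _).symm

theorem fix_zpowers_iff {F : Type*} [Group F] (θ : G →* MulAut F) (x : G) (q : F) :
    (∀ h ∈ Subgroup.zpowers x, θ h q = q) ↔ θ x q = q := by
  constructor
  · intro h
    exact h x (Subgroup.mem_zpowers x)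
  · intro hx h hh
    obtain ⟨k, rfl⟩ := Subgroup.mem_zpowers_iff.1 hh
    have h1 : θ x ∈ MulAction.stabilizer (MulAut F) q := by
      rw [MulAction.mem_stabilizer_iff, MulAut.smul_def]; exact hx
    have h2 := Subgroup.zpow_mem _ h1 k
    rw [MulAction.mem_stabilizer_iff, MulAut.smul_def, ← map_zpow] at h2
    exact h2

theorem factor_ineq [Finite G] (p : ℕ) [hp : Fact p.Prime] (P : Subgroup G) (hP : IsPGroup p P)
    [Fintype ↥P] (A B : Subgroup G) [A.Normal] [B.Normal] (hAB : A ≤ B)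
    (hc : (A.relIndex B).Coprime p) :
    (∏ x : ↥P, Nat.card {u : G // u ∈ B ∧
        ∀ h ∈ Subgroup.zpowers (x : G), h * u * h⁻¹ * u⁻¹ ∈ A} / Nat.card A) ^ p ≤
      (A.relIndex B) ^ Fintype.card ↥P *
        (Nat.card {u : G // u ∈ B ∧ ∀ h ∈ P, h * u * h⁻¹ * u⁻¹ ∈ A} / Nat.card A) ^
          (Fintype.card ↥P * (p - 1)) := by
  have hApos : 0 < Nat.card A := Nat.card_pos
  have h1 : ∀ x : ↥P, Nat.card {u : G // u ∈ B ∧
      ∀ h ∈ Subgroup.zpowers (x : G), h * u * h⁻¹ * u⁻¹ ∈ A} / Nat.card A =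
      Nat.card {q : ↥B ⧸ A.subgroupOf B // ((theta A B).comp P.subtype) x q = q} := by
    intro x
    rw [card_D A B hAB, Nat.mul_div_cancel_left _ hApos]
    exact Nat.card_congr (Equiv.subtypeEquivRight
      (fun q => fix_zpowers_iff (theta A B) (x : G) q))
  have h2 : Nat.card {u : G // u ∈ B ∧ ∀ h ∈ P, h * u * h⁻¹ * u⁻¹ ∈ A} / Nat.card A =
      Nat.card {q : ↥B ⧸ A.subgroupOf B // ∀ x : ↥P, ((theta A B).comp P.subtype) x q = q} := by
    rw [card_D A B hAB, Nat.mul_div_cancel_left _ hApos]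
    exact Nat.card_congr (Equiv.subtypeEquivRight
      (fun q => ⟨fun h x => h x.1 x.2, fun h y hy => h ⟨y, hy⟩⟩))
  rw [Finset.prod_congr rfl (fun x _ => h1 x), h2]
  have hnd : ¬ p ∣ A.relIndex B := (Nat.Prime.coprime_iff_not_dvd hp.out).1 hc.symm
  exact fix_prod p ↥P hP (A.relIndex B) (↥B ⧸ A.subgroupOf B) (card_sec A B) hnd
    ((theta A B).comp P.subtype)

end Cfsg.Agent.Lib.Helper2.SecAct
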