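import Mathlib
import Cfsg.Agent.Lib.Helper2.SubnCount2
import Cfsg.Agent.Lib.Helper1.SubnormalSylow

set_option autoImplicit false

/-! Casolo's formula for the subnormalizer of a `p`-subgroup along a normal series with
`p`- and `p'`-factors. -/

namespace Cfsg.Agent.Lib.Helper2.SubnSeries

open Classical
open scoped Pointwise
open Cfsg.Agent.Lib.Helper2.SubnCount

universe u

variable {G : Type u} [Group G]

/-- number of `g` with `g H g⁻¹ ≤ Y` -/
noncomputable def tcount (H Y : Subgroup G) : ℕ :=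
  Nat.card {g : G // ∀ h ∈ H, g * h * g⁻¹ ∈ Y}

theorem map_conj_le_iff {H Y : Subgroup G} {g : G} :
    H.map (MulAut.conj g).toMonoidHom ≤ Y ↔ ∀ h ∈ H, g * h * g⁻¹ ∈ Y := by
  constructor
  · intro hle h hh
    apply hle
    rw [mem_map_conj]
    have e : g⁻¹ * (g * h * g⁻¹) * g = h := by group
    rw [e]; exact hh
  · intro hall x hx
    rw [mem_map_conj] at hx
    have h1 := hall _ hx
    have e : g * (g⁻¹ * x * g) * g⁻¹ = x := by group
    rw [e] at h1; exact h1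

theorem cnt_eq_tcount [Finite G] (p : ℕ) [hp : Fact p.Prime] (H : Subgroup G) (P : Sylow p G) :
    cnt p H = tcount H (P : Subgroup G) := by
  rw [cnt_eq, ← card_normalizer_sylow p P, ← card_T_b]
  exact Nat.card_congr (Equiv.subtypeEquivRight (fun g => map_conj_le_iff))

theorem tcount_top (H : Subgroup G) : tcount H ⊤ = Nat.card G := by
  unfold tcount
  exact Nat.card_congr (Equiv.subtypeUnivEquiv (fun g h _ => Subgroup.mem_top _))

theorem exists_conj_le_sylow' [Finite G] {p : ℕ} [hp : Fact p.Prime] (P : Sylow p G)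
    {M T : Subgroup G} (hPM : (P : Subgroup G) ≤ M) (hTM : T ≤ M) (hT : IsPGroup p T) :
    ∃ m ∈ M, ∀ t ∈ T, m * t * m⁻¹ ∈ (P : Subgroup G) := by
  have hT' : IsPGroup p (T.subgroupOf M) := hT.comap_subtype
  obtain ⟨S', hS'⟩ := hT'.exists_le_sylow
  obtain ⟨m, hm⟩ := MulAction.exists_smul_eq M S' (P.subtype hPM)
  refine ⟨m, m.2, ?_⟩
  intro t ht
  have h1 : (⟨t, hTM ht⟩ : M) ∈ (S' : Subgroup M) :=
    hS' (by rw [Subgroup.mem_subgroupOf]; exact ht)
  have h2 : MulAut.conj m • (S' : Subgroup M) = ((P.subtype hPM : Sylow p M) : Subgroup M) := by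
    rw [← Sylow.pointwise_smul_def, ← Sylow.smul_def, hm]
  have h3 : MulAut.conj m • (⟨t, hTM ht⟩ : M) ∈ MulAut.conj m • (S' : Subgroup M) :=
    Subgroup.smul_mem_pointwise_smul _ _ _ h1
  rw [h2, Sylow.coe_subtype, Subgroup.mem_subgroupOf] at h3
  simpa using h3

theorem card_mul_relIndex' {A B : Subgroup G} (hAB : A ≤ B) :
    Nat.card A * A.relIndex B = Nat.card B := by
  have h := Subgroup.relIndex_mul_relIndex ⊥ A B bot_le hAB
  rwa [Subgroup.relIndex_bot_left, Subgroup.relIndex_bot_left] at h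

/-- `p`-step: the factor `B / A` is a `p`-group. -/
theorem sup_eq_of_pow [Finite G] {p : ℕ} [hp : Fact p.Prime] (P : Sylow p G) {A B : Subgroup G}
    (hAB : A ≤ B) (hB : B.Normal) {m : ℕ} (hm : A.relIndex B = p ^ m) :
    (P : Subgroup G) ⊔ A = (P : Subgroup G) ⊔ B := by
  have := hB
  apply le_antisymm (sup_le_sup_left hAB _)
  apply sup_le le_sup_left
  rw [← Subgroup.relIndex_eq_one]
  have h1 : ((P : Subgroup G) ⊔ A).relIndex B ∣ p ^ m := by
    rw [← hm]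
    exact Subgroup.relIndex_dvd_of_le_left B le_sup_right
  have h2 : ((P : Subgroup G) ⊔ A).relIndex B ∣ (P : Subgroup G).index := by
    rw [Cfsg.Agent.Lib.Helper1.relIndex_eq_relIndex_sup_of_normal]
    exact (Subgroup.relIndex_dvd_index_of_le le_sup_left).trans
      (Subgroup.index_dvd_of_le le_sup_left)
  have h3 : Nat.Coprime (p ^ m) (P : Subgroup G).index :=
    Nat.Coprime.pow_left m ((Nat.Prime.coprime_iff_not_dvd hp.out).mpr P.not_dvd_index)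
  exact Nat.eq_one_of_dvd_coprimes h3 h1 h2

/-- `p'`-step, part 1. -/
theorem inf_le_of_coprime [Finite G] {p : ℕ} [hp : Fact p.Prime] (P : Sylow p G)
    {A B : Subgroup G} (hAB : A ≤ B) (hA : A.Normal) (hc : (A.relIndex B).Coprime p) :
    ((P : Subgroup G) ⊔ A) ⊓ B ≤ A := by
  have := hA
  rw [← Subgroup.relIndex_eq_one]
  have hAL : A ≤ ((P : Subgroup G) ⊔ A) ⊓ B := le_inf le_sup_right hAB
  have h1 : A.relIndex (((P : Subgroup G) ⊔ A) ⊓ B) ∣ A.relIndex B :=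
    Dvd.intro _ (Subgroup.relIndex_mul_relIndex A _ B hAL inf_le_right)
  have h2 : A.relIndex (((P : Subgroup G) ⊔ A) ⊓ B) ∣ A.relIndex ((P : Subgroup G) ⊔ A) :=
    Dvd.intro _ (Subgroup.relIndex_mul_relIndex A _ _ hAL inf_le_left)
  rw [Subgroup.relIndex_sup_right] at h2
  obtain ⟨k, hk⟩ : ∃ k, A.relIndex (P : Subgroup G) = p ^ k :=
    P.2.index (A.subgroupOf (P : Subgroup G))
  rw [hk] at h2
  have h3 : Nat.Coprime (A.relIndex B) (p ^ k) := Nat.Coprime.pow_right k hc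
  exact Nat.eq_one_of_dvd_coprimes h3 h1 h2

theorem conj_mem_iff {K A B H : Subgroup G} (hA : A.Normal) (hB : B.Normal)
    (hLA : (K ⊔ A) ⊓ B ≤ A) {x b : G} (hx : ∀ h ∈ H, x * h * x⁻¹ ∈ K) (hb : b ∈ B) :
    (∀ h ∈ H, (b * x) * h * (b * x)⁻¹ ∈ K ⊔ A) ↔
      (∀ h ∈ H, h * (x⁻¹ * b * x) * h⁻¹ * (x⁻¹ * b * x)⁻¹ ∈ A) := by
  constructor
  · intro hall h hh
    have hk : x * h * x⁻¹ ∈ K := hx h hh
    have ht := hall h hh
    have hc1 : (b * x) * h * (b * x)⁻¹ * (x * h * x⁻¹)⁻¹ ∈ K ⊔ A :=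
      Subgroup.mul_mem _ ht (Subgroup.inv_mem _ (Subgroup.mem_sup_left hk))
    have hc2 : (b * x) * h * (b * x)⁻¹ * (x * h * x⁻¹)⁻¹ ∈ B := by
      have e : (b * x) * h * (b * x)⁻¹ * (x * h * x⁻¹)⁻¹ =
          b * ((x * h * x⁻¹) * b⁻¹ * (x * h * x⁻¹)⁻¹) := by group
      rw [e]
      exact Subgroup.mul_mem _ hb (hB.conj_mem _ (Subgroup.inv_mem _ hb) _)
    have hc : (b * x) * h * (b * x)⁻¹ * (x * h * x⁻¹)⁻¹ ∈ A := hLA ⟨hc1, hc2⟩
    have e : h * (x⁻¹ * b * x) * h⁻¹ * (x⁻¹ * b * x)⁻¹ =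
        x⁻¹ * ((b * x) * h * (b * x)⁻¹ * (x * h * x⁻¹)⁻¹)⁻¹ * x⁻¹⁻¹ := by group
    rw [e]
    exact hA.conj_mem _ (Subgroup.inv_mem _ hc) _
  · intro hall h hh
    have hk : x * h * x⁻¹ ∈ K := hx h hh
    have ha := hall h hh
    have e : (b * x) * h * (b * x)⁻¹ =
        (x * (h * (x⁻¹ * b * x) * h⁻¹ * (x⁻¹ * b * x)⁻¹)⁻¹ * x⁻¹) * (x * h * x⁻¹) := by group
    rw [e]
    exact Subgroup.mul_mem _
      (Subgroup.mem_sup_right (hA.conj_mem _ (Subgroup.inv_mem _ ha) _))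
      (Subgroup.mem_sup_left hk)

theorem exists_b0 [Finite G] {p : ℕ} [hp : Fact p.Prime] (P : Sylow p G) {H B : Subgroup G}
    (hH : IsPGroup p H) (hB : B.Normal) {g : G}
    (hg : ∀ h ∈ H, g * h * g⁻¹ ∈ (P : Subgroup G) ⊔ B) :
    ∃ b ∈ B, ∀ h ∈ H, (b * g) * h * (b * g)⁻¹ ∈ (P : Subgroup G) := by
  have := hB
  have hT : IsPGroup p (H.map (MulAut.conj g).toMonoidHom) := hH.map _
  have hTM : H.map (MulAut.conj g).toMonoidHom ≤ (P : Subgroup G) ⊔ B :=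
    map_conj_le_iff.mpr hg
  obtain ⟨m, hmM, hm⟩ := exists_conj_le_sylow' P le_sup_left hTM hT
  have hmem : m ∈ ((P : Subgroup G) : Set G) * (B : Set G) := by
    rw [← Subgroup.mul_normal]; exact hmM
  obtain ⟨k, hk, b, hb, rfl⟩ := Set.mem_mul.mp hmem
  refine ⟨b, hb, ?_⟩
  intro h hh
  have h1 : g * h * g⁻¹ ∈ H.map (MulAut.conj g).toMonoidHom := by
    rw [mem_map_conj]
    have e : g⁻¹ * (g * h * g⁻¹) * g = h := by group
    rw [e]; exact hh
  have h2 := hm _ h1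
  have e : (b * g) * h * (b * g)⁻¹ = k⁻¹ * ((k * b) * (g * h * g⁻¹) * (k * b)⁻¹) * k := by group
  rw [e]
  exact Subgroup.mul_mem _ (Subgroup.mul_mem _ (Subgroup.inv_mem _ hk) h2) hk

theorem pred_iff {K A B H : Subgroup G} (hA : A.Normal) (hB : B.Normal)
    (hLA : (K ⊔ A) ⊓ B ≤ A) {g' b₀ : G} (hb₀ : b₀ ∈ B)
    (hx : ∀ h ∈ H, (b₀ * g') * h * (b₀ * g')⁻¹ ∈ K) (b : G) :
    (b ∈ B ∧ ∀ h ∈ H, (b * g') * h * (b * g')⁻¹ ∈ K ⊔ A) ↔
    ((b₀ * g')⁻¹ * (b * b₀⁻¹) * (b₀ * g') ∈ B ∧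
      ∀ h ∈ H, h * ((b₀ * g')⁻¹ * (b * b₀⁻¹) * (b₀ * g')) * h⁻¹ *
        ((b₀ * g')⁻¹ * (b * b₀⁻¹) * (b₀ * g'))⁻¹ ∈ A) := by
  have hmem : b ∈ B ↔ (b₀ * g')⁻¹ * (b * b₀⁻¹) * (b₀ * g') ∈ B := by
    constructor
    · intro hb
      have h1 := hB.conj_mem _ (Subgroup.mul_mem _ hb (Subgroup.inv_mem _ hb₀)) (b₀ * g')⁻¹
      rwa [inv_inv] at h1
    · intro hu
      have e2 : (b₀ * g') * ((b₀ * g')⁻¹ * (b * b₀⁻¹) * (b₀ * g')) * (b₀ * g')⁻¹ * b₀ = b := by
        group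
      have h1 := Subgroup.mul_mem _ (hB.conj_mem _ hu (b₀ * g')) hb₀
      rw [e2] at h1
      exact h1
  constructor
  · rintro ⟨hb, hall⟩
    refine ⟨hmem.mp hb, ?_⟩
    have hb' : b * b₀⁻¹ ∈ B := Subgroup.mul_mem _ hb (Subgroup.inv_mem _ hb₀)
    apply (conj_mem_iff hA hB hLA hx hb').mp
    intro h hh
    have e : (b * b₀⁻¹) * (b₀ * g') = b * g' := by group
    rw [e]; exact hall h hh
  · rintro ⟨hu, hall⟩
    have hb := hmem.mpr hu
    refine ⟨hb, ?_⟩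
    have hb' : b * b₀⁻¹ ∈ B := Subgroup.mul_mem _ hb (Subgroup.inv_mem _ hb₀)
    have h1 := (conj_mem_iff hA hB hLA hx hb').mpr hall
    intro h hh
    have e : (b * b₀⁻¹) * (b₀ * g') = b * g' := by group
    rw [← e]; exact h1 h hh

/-- the bijection `b ↦ x⁻¹ (b b₀⁻¹) x` of `G`. -/
def eqv (x b₀ : G) : G ≃ G where
  toFun b := x⁻¹ * (b * b₀⁻¹) * x
  invFun u := x * u * x⁻¹ * b₀
  left_inv b := by
    show x * (x⁻¹ * (b * b₀⁻¹) * x) * x⁻¹ * b₀ = b
    group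
  right_inv u := by
    show x⁻¹ * (x * u * x⁻¹ * b₀ * b₀⁻¹) * x = u
    group

theorem fiber_count [Finite G] {p : ℕ} [hp : Fact p.Prime] (P : Sylow p G) {H A B : Subgroup G}
    (hH : IsPGroup p H) (hAB : A ≤ B) (hA : A.Normal) (hB : B.Normal)
    (hc : (A.relIndex B).Coprime p) :
    tcount H ((P : Subgroup G) ⊔ A) * Nat.card B =
      tcount H ((P : Subgroup G) ⊔ B) *
        Nat.card {u : G // u ∈ B ∧ ∀ h ∈ H, h * u * h⁻¹ * u⁻¹ ∈ A} := by
  have hLA := inf_le_of_coprime P hAB hA hc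
  have hYX : (P : Subgroup G) ⊔ A ≤ (P : Subgroup G) ⊔ B := sup_le_sup_left hAB _
  unfold tcount
  rw [← Nat.card_prod]
  have hf : ∀ q : {g : G // ∀ h ∈ H, g * h * g⁻¹ ∈ (P : Subgroup G) ⊔ A} × B,
      ∀ h ∈ H, ((q.2 : G)⁻¹ * q.1.1) * h * ((q.2 : G)⁻¹ * q.1.1)⁻¹ ∈ (P : Subgroup G) ⊔ B := by
    intro q h hh
    have e : ((q.2 : G)⁻¹ * q.1.1) * h * ((q.2 : G)⁻¹ * q.1.1)⁻¹ =
        (q.2 : G)⁻¹ * (q.1.1 * h * q.1.1⁻¹) * (q.2 : G) := by group
    rw [e]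
    have hb : (q.2 : G) ∈ (P : Subgroup G) ⊔ B := Subgroup.mem_sup_right q.2.2
    exact Subgroup.mul_mem _
      (Subgroup.mul_mem _ (Subgroup.inv_mem _ hb) (hYX (q.1.2 h hh))) hb
  apply card_eq_mul_of_fibers
    (fun q : {g : G // ∀ h ∈ H, g * h * g⁻¹ ∈ (P : Subgroup G) ⊔ A} × B =>
      (⟨(q.2 : G)⁻¹ * q.1.1, hf q⟩ :
        {g : G // ∀ h ∈ H, g * h * g⁻¹ ∈ (P : Subgroup G) ⊔ B}))
  rintro ⟨g', hg'⟩
  obtain ⟨b₀, hb₀, hx⟩ := exists_b0 P hH hB hg'
  have e1 : {q : {g : G // ∀ h ∈ H, g * h * g⁻¹ ∈ (P : Subgroup G) ⊔ A} × B //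
      (⟨(q.2 : G)⁻¹ * q.1.1, hf q⟩ :
        {g : G // ∀ h ∈ H, g * h * g⁻¹ ∈ (P : Subgroup G) ⊔ B}) = ⟨g', hg'⟩} ≃
      {b : G // b ∈ B ∧ ∀ h ∈ H, (b * g') * h * (b * g')⁻¹ ∈ (P : Subgroup G) ⊔ A} :=
    { toFun := fun q => ⟨(q.1.2 : G), q.1.2.2, by
          have h1 : (q.1.2 : G)⁻¹ * q.1.1.1 = g' := Subtype.ext_iff.mp q.2
          have e : (q.1.2 : G) * g' = q.1.1.1 := eq_inv_mul_iff_mul_eq.mp h1.symm
          rw [e]; exact q.1.1.2⟩
      invFun := fun b => ⟨(⟨b.1 * g', b.2.2⟩, ⟨b.1, b.2.1⟩), Subtype.ext (by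
          show b.1⁻¹ * (b.1 * g') = g'
          group)⟩
      left_inv := fun q => by
        have h1 : (q.1.2 : G)⁻¹ * q.1.1.1 = g' := Subtype.ext_iff.mp q.2
        have e : (q.1.2 : G) * g' = q.1.1.1 := eq_inv_mul_iff_mul_eq.mp h1.symm
        apply Subtype.ext
        apply Prod.ext
        · exact Subtype.ext e
        · rfl
      right_inv := fun b => rfl }
  have e2 : {b : G // b ∈ B ∧ ∀ h ∈ H, (b * g') * h * (b * g')⁻¹ ∈ (P : Subgroup G) ⊔ A} ≃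
      {u : G // u ∈ B ∧ ∀ h ∈ H, h * u * h⁻¹ * u⁻¹ ∈ A} :=
    (eqv (b₀ * g') b₀).subtypeEquiv (fun b => pred_iff hA hB hLA hb₀ hx b)
  exact (Nat.card_congr e1).trans (Nat.card_congr e2)

/-- the subgroup `{u ∈ B : [h, u] ∈ A for all h ∈ H}`. -/
def dSub (H A B : Subgroup G) (hA : A.Normal) : Subgroup G where
  carrier := {u | u ∈ B ∧ ∀ h ∈ H, h * u * h⁻¹ * u⁻¹ ∈ A}
  one_mem' := ⟨B.one_mem, fun h _ => by
    have e : h * 1 * h⁻¹ * (1 : G)⁻¹ = 1 := by group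
    rw [e]; exact A.one_mem⟩
  mul_mem' := by
    rintro u v ⟨hu, hu'⟩ ⟨hv, hv'⟩
    refine ⟨B.mul_mem hu hv, fun h hh => ?_⟩
    have e : h * (u * v) * h⁻¹ * (u * v)⁻¹ =
        (h * u * h⁻¹ * u⁻¹) * (u * (h * v * h⁻¹ * v⁻¹) * u⁻¹) := by group
    rw [e]
    exact A.mul_mem (hu' h hh) (hA.conj_mem _ (hv' h hh) _)
  inv_mem' := by
    rintro u ⟨hu, hu'⟩
    refine ⟨B.inv_mem hu, fun h hh => ?_⟩
    have e : h * u⁻¹ * h⁻¹ * u⁻¹⁻¹ = u⁻¹ * (h * u * h⁻¹ * u⁻¹)⁻¹ * u⁻¹⁻¹ := by group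
    rw [e]
    exact hA.conj_mem _ (A.inv_mem (hu' h hh)) _

theorem card_dvd_dSub [Finite G] {H A B : Subgroup G} (hA : A.Normal) (hAB : A ≤ B) :
    Nat.card A ∣ Nat.card {u : G // u ∈ B ∧ ∀ h ∈ H, h * u * h⁻¹ * u⁻¹ ∈ A} := by
  have hle : A ≤ dSub H A B hA := by
    intro a ha
    refine ⟨hAB ha, fun h _ => ?_⟩
    exact A.mul_mem (hA.conj_mem a ha h) (A.inv_mem ha)
  exact Subgroup.card_dvd_of_le hle

theorem pprime_step [Finite G] {p : ℕ} [hp : Fact p.Prime] (P : Sylow p G) {H A B : Subgroup G}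
    (hH : IsPGroup p H) (hAB : A ≤ B) (hA : A.Normal) (hB : B.Normal)
    (hc : (A.relIndex B).Coprime p) :
    tcount H ((P : Subgroup G) ⊔ A) * A.relIndex B =
      tcount H ((P : Subgroup G) ⊔ B) *
        (Nat.card {u : G // u ∈ B ∧ ∀ h ∈ H, h * u * h⁻¹ * u⁻¹ ∈ A} / Nat.card A) := by
  have h1 := fiber_count P hH hAB hA hB hc
  have h2 : Nat.card A * A.relIndex B = Nat.card B := card_mul_relIndex' hAB
  obtain ⟨d, hd⟩ := card_dvd_dSub (H := H) hA hAB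
  have hpos : 0 < Nat.card A := Nat.card_pos
  rw [hd, Nat.mul_div_cancel_left _ hpos]
  rw [hd, ← h2] at h1
  apply Nat.eq_of_mul_eq_mul_left hpos
  calc Nat.card A * (tcount H ((P : Subgroup G) ⊔ A) * A.relIndex B)
      = tcount H ((P : Subgroup G) ⊔ A) * (Nat.card A * A.relIndex B) := by ring
    _ = tcount H ((P : Subgroup G) ⊔ B) * (Nat.card A * d) := h1
    _ = Nat.card A * (tcount H ((P : Subgroup G) ⊔ B) * d) := by ring

noncomputable def fe (p : ℕ) (H A B : Subgroup G) : ℕ :=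
  if (A.relIndex B).Coprime p then
    Nat.card {u : G // u ∈ B ∧ ∀ h ∈ H, h * u * h⁻¹ * u⁻¹ ∈ A} / Nat.card A
  else 1

noncomputable def fr (p : ℕ) (A B : Subgroup G) : ℕ :=
  if (A.relIndex B).Coprime p then A.relIndex B else 1

noncomputable def fq (p : ℕ) (A B : Subgroup G) : ℕ :=
  if (A.relIndex B).Coprime p then 1 else A.relIndex B

theorem chain_step [Finite G] {p : ℕ} [hp : Fact p.Prime] (P : Sylow p G) {H : Subgroup G}
    (hH : IsPGroup p H) {A B : Subgroup G} (hAB : A ≤ B) (hA : A.Normal) (hB : B.Normal)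
    (hfac : (∃ m : ℕ, A.relIndex B = p ^ m) ∨ (A.relIndex B).Coprime p) {R E Q : ℕ}
    (i1 : tcount H (P : Subgroup G) * R = tcount H ((P : Subgroup G) ⊔ A) * E)
    (i2 : Nat.card A = Q * R) (i3 : ∃ k : ℕ, Q = p ^ k) (i4 : R.Coprime p) :
    (tcount H (P : Subgroup G) * (R * fr p A B) =
      tcount H ((P : Subgroup G) ⊔ B) * (E * fe p H A B)) ∧
    (Nat.card B = (Q * fq p A B) * (R * fr p A B)) ∧
    (∃ k : ℕ, Q * fq p A B = p ^ k) ∧ (R * fr p A B).Coprime p := by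
  have hcard := card_mul_relIndex' hAB
  by_cases hc : (A.relIndex B).Coprime p
  · have e1 : fr p A B = A.relIndex B := by unfold fr; rw [if_pos hc]
    have e2 : fe p H A B =
        Nat.card {u : G // u ∈ B ∧ ∀ h ∈ H, h * u * h⁻¹ * u⁻¹ ∈ A} / Nat.card A := by
      unfold fe; rw [if_pos hc]
    have e3 : fq p A B = 1 := by unfold fq; rw [if_pos hc]
    rw [e1, e2, e3]
    have hs := pprime_step P hH hAB hA hB hc
    refine ⟨?_, ?_, ?_, ?_⟩
    · calc tcount H (P : Subgroup G) * (R * A.relIndex B)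
          = (tcount H (P : Subgroup G) * R) * A.relIndex B := by ring
        _ = (tcount H ((P : Subgroup G) ⊔ A) * E) * A.relIndex B := by rw [i1]
        _ = (tcount H ((P : Subgroup G) ⊔ A) * A.relIndex B) * E := by ring
        _ = (tcount H ((P : Subgroup G) ⊔ B) *
              (Nat.card {u : G // u ∈ B ∧ ∀ h ∈ H, h * u * h⁻¹ * u⁻¹ ∈ A} / Nat.card A)) * E := by
            rw [hs]
        _ = tcount H ((P : Subgroup G) ⊔ B) *
              (E * (Nat.card {u : G // u ∈ B ∧ ∀ h ∈ H, h * u * h⁻¹ * u⁻¹ ∈ A} / Nat.card A)) := by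
            ring
    · rw [← hcard, i2]; ring
    · obtain ⟨k, hk⟩ := i3
      exact ⟨k, by rw [mul_one, hk]⟩
    · exact Nat.Coprime.mul_left i4 hc
  · have e1 : fr p A B = 1 := by unfold fr; rw [if_neg hc]
    have e2 : fe p H A B = 1 := by unfold fe; rw [if_neg hc]
    have e3 : fq p A B = A.relIndex B := by unfold fq; rw [if_neg hc]
    rw [e1, e2, e3]
    obtain ⟨m, hm⟩ := hfac.resolve_right hc
    have hsup := sup_eq_of_pow P hAB hB hm
    refine ⟨?_, ?_, ?_, ?_⟩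
    · rw [mul_one, mul_one, ← hsup]; exact i1
    · rw [← hcard, i2]; ring
    · obtain ⟨k, hk⟩ := i3
      exact ⟨k + m, by rw [hk, hm, pow_add]⟩
    · rw [mul_one]; exact i4

theorem chain_main [Finite G] {p : ℕ} [hp : Fact p.Prime] (P : Sylow p G) {H : Subgroup G}
    (hH : IsPGroup p H) :
    ∀ (n : ℕ) (M : Fin (n + 1) → Subgroup G), M 0 = ⊥ →
      (∀ i : Fin n, M i.castSucc ≤ M i.succ) → (∀ i, (M i).Normal) →
      (∀ i : Fin n, (∃ m : ℕ, (M i.castSucc).relIndex (M i.succ) = p ^ m) ∨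
        ((M i.castSucc).relIndex (M i.succ)).Coprime p) →
      (tcount H (P : Subgroup G) * ∏ i : Fin n, fr p (M i.castSucc) (M i.succ) =
        tcount H ((P : Subgroup G) ⊔ M (Fin.last n)) *
          ∏ i : Fin n, fe p H (M i.castSucc) (M i.succ)) ∧
      (Nat.card (M (Fin.last n)) =
        (∏ i : Fin n, fq p (M i.castSucc) (M i.succ)) *
          ∏ i : Fin n, fr p (M i.castSucc) (M i.succ)) ∧
      (∃ k : ℕ, ∏ i : Fin n, fq p (M i.castSucc) (M i.succ) = p ^ k) ∧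
      (∏ i : Fin n, fr p (M i.castSucc) (M i.succ)).Coprime p := by
  intro n
  induction n with
  | zero =>
    intro M h0 _ _ _
    refine ⟨?_, ?_, ⟨0, ?_⟩, ?_⟩
    · simp [h0]
    · simp [h0]
    · simp
    · simp
  | succ n ih =>
    intro M h0 hmono hnormal hfac
    have ih' := ih (fun i => M i.castSucc) (by simpa using h0)
      (fun i => by
        have h1 := hmono i.castSucc
        rwa [Fin.succ_castSucc] at h1)
      (fun i => hnormal _)
      (fun i => by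
        have h1 := hfac i.castSucc
        rwa [Fin.succ_castSucc] at h1)
    beta_reduce at ih'
    obtain ⟨i1, i2, i3, i4⟩ := ih'
    have hAB : M (Fin.last n).castSucc ≤ M (Fin.last (n + 1)) := by
      have h1 := hmono (Fin.last n)
      rwa [Fin.succ_last] at h1
    have hf : (∃ m : ℕ, (M (Fin.last n).castSucc).relIndex (M (Fin.last (n + 1))) = p ^ m) ∨
        ((M (Fin.last n).castSucc).relIndex (M (Fin.last (n + 1)))).Coprime p := by
      have h1 := hfac (Fin.last n)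
      rwa [Fin.succ_last] at h1
    have key := chain_step P hH hAB (hnormal _) (hnormal _) hf i1 i2 i3 i4
    have hR : ∏ i : Fin (n + 1), fr p (M i.castSucc) (M i.succ) =
        (∏ i : Fin n, fr p (M i.castSucc.castSucc) (M i.succ.castSucc)) *
          fr p (M (Fin.last n).castSucc) (M (Fin.last (n + 1))) := by
      rw [Fin.prod_univ_castSucc]
      simp only [Fin.succ_castSucc, Fin.succ_last]
    have hE : ∏ i : Fin (n + 1), fe p H (M i.castSucc) (M i.succ) =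
        (∏ i : Fin n, fe p H (M i.castSucc.castSucc) (M i.succ.castSucc)) *
          fe p H (M (Fin.last n).castSucc) (M (Fin.last (n + 1))) := by
      rw [Fin.prod_univ_castSucc]
      simp only [Fin.succ_castSucc, Fin.succ_last]
    have hQ : ∏ i : Fin (n + 1), fq p (M i.castSucc) (M i.succ) =
        (∏ i : Fin n, fq p (M i.castSucc.castSucc) (M i.succ.castSucc)) *
          fq p (M (Fin.last n).castSucc) (M (Fin.last (n + 1))) := by
      rw [Fin.prod_univ_castSucc]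
      simp only [Fin.succ_castSucc, Fin.succ_last]
    rw [hR, hE, hQ]
    exact key

theorem series_formula [Finite G] (p : ℕ) [hp : Fact p.Prime] (H : Subgroup G)
    (hH : IsPGroup p H) (P : Sylow p G)
    (n : ℕ) (M : Fin (n + 1) → Subgroup G) (h0 : M 0 = ⊥) (hn : M (Fin.last n) = ⊤)
    (hmono : Monotone M) (hnormal : ∀ i, (M i).Normal)
    (hfac : ∀ i : Fin n, (∃ m : ℕ, (M i.castSucc).relIndex (M i.succ) = p ^ m) ∨
      ((M i.castSucc).relIndex (M i.succ)).Coprime p) :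
    cnt p H = Nat.card (P : Subgroup G) * ∏ i : Fin n, fe p H (M i.castSucc) (M i.succ) := by
  obtain ⟨i1, i2, ⟨k, i3⟩, i4⟩ := chain_main P hH n M h0
    (fun i => hmono (Fin.castSucc_lt_succ (i := i)).le) hnormal hfac
  rw [hn] at i1 i2
  rw [sup_top_eq, tcount_top] at i1
  rw [Subgroup.card_top] at i2
  have hcardP : Nat.card (P : Subgroup G) = ∏ i : Fin n, fq p (M i.castSucc) (M i.succ) := by
    rw [i3]
    obtain ⟨j, hj⟩ := IsPGroup.iff_card.mp P.2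
    have hidx := (P : Subgroup G).card_mul_index
    have hcop : Nat.Coprime p (P : Subgroup G).index :=
      (Nat.Prime.coprime_iff_not_dvd hp.out).mpr P.not_dvd_index
    rw [hj]
    apply Nat.dvd_antisymm
    · have h1 : p ^ j ∣ p ^ k * ∏ i : Fin n, fr p (M i.castSucc) (M i.succ) := by
        rw [← i3, ← i2, ← hidx, hj]; exact dvd_mul_right _ _
      exact (Nat.Coprime.pow_left j i4.symm).dvd_of_dvd_mul_right h1
    · have h1 : p ^ k ∣ p ^ j * (P : Subgroup G).index := by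
        rw [← hj, hidx, i2, i3]; exact dvd_mul_right _ _
      exact (Nat.Coprime.pow_left k hcop).dvd_of_dvd_mul_right h1
  rw [cnt_eq_tcount p H P]
  have hRpos : 0 < ∏ i : Fin n, fr p (M i.castSucc) (M i.succ) := by
    apply Nat.pos_of_ne_zero
    intro hz
    rw [hz, Nat.coprime_zero_left] at i4
    exact hp.out.one_lt.ne' i4
  apply Nat.eq_of_mul_eq_mul_right hRpos
  rw [i1, i2, hcardP]; ring

end Cfsg.Agent.Lib.Helper2.SubnSeries
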