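import Mathlib
import Cfsg.Agent.Lib.Helper2.SubnSeries
import Cfsg.Agent.Lib.Helper2.SecAct
import Cfsg.Agent.Lib.Helper2.PEltCount

set_option autoImplicit false
set_option linter.style.haveILetI false

/-! Gheri's bound `u_p(G) ^ p ≥ |P| ^ p * n_p(G) ^ (p - 1)` for `p`-solvable groups. -/

namespace Cfsg.Agent.Lib.Helper2.PEltFinal

open Classical
open Cfsg.Agent.Lib.Helper2.SubnCount Cfsg.Agent.Lib.Helper2.SubnSeries
open Cfsg.Agent.Lib.Helper2.PEltCount

universe u

variable {G : Type u} [Group G] [Finite G] (p : ℕ) [hp : Fact p.Prime]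

/-- A normal series with `p`- and `p'`-factors. -/
structure Ser {n : ℕ} (M : Fin (n + 1) → Subgroup G) : Prop where
  h0 : M 0 = ⊥
  hn : M (Fin.last n) = ⊤
  hmono : Monotone M
  hnormal : ∀ i, (M i).Normal
  hfac : ∀ i : Fin n, (∃ m : ℕ, (M i.castSucc).relIndex (M i.succ) = p ^ m) ∨
    ((M i.castSucc).relIndex (M i.succ)).Coprime p

noncomputable def EE (n : ℕ) (M : Fin (n + 1) → Subgroup G) (H : Subgroup G) : ℕ :=
  ∏ i : Fin n, fe p H (M i.castSucc) (M i.succ)

noncomputable def RR (n : ℕ) (M : Fin (n + 1) → Subgroup G) : ℕ :=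
  ∏ i : Fin n, fr p (M i.castSucc) (M i.succ)

theorem lam_sylow (P : Sylow p G) : lam p (P : Subgroup G) = 1 := by
  unfold lam
  haveI : Unique {Q : Sylow p G // (P : Subgroup G) ≤ (Q : Subgroup G)} :=
    { default := ⟨P, le_rfl⟩
      uniq := fun ⟨Q, hQ⟩ => Subtype.ext (Sylow.ext (P.is_maximal' Q.2 hQ)) }
  exact Nat.card_unique

variable {n : ℕ} {M : Fin (n + 1) → Subgroup G}

theorem card_G (P : Sylow p G) (hS : Ser p M) :
    Nat.card G = Nat.card (P : Subgroup G) * RR p n M ∧ 0 < RR p n M := by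
  obtain ⟨-, i2, ⟨k, i3⟩, i4⟩ := chain_main P P.2 n M hS.h0
    (fun i => hS.hmono (Fin.castSucc_lt_succ (i := i)).le) hS.hnormal hS.hfac
  rw [hS.hn, Subgroup.card_top] at i2
  have hcardP : Nat.card (P : Subgroup G) = ∏ i : Fin n, fq p (M i.castSucc) (M i.succ) := by
    rw [i3]
    obtain ⟨j, hj⟩ := IsPGroup.iff_card.mp P.2
    have hidx := (P : Subgroup G).card_mul_index
    have hcop : Nat.Coprime p (P : Subgroup G).index :=
      (Nat.Prime.coprime_iff_not_dvd hp.out).mpr P.not_dvd_index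
    rw [hj]
    apply Nat.dvd_antisymm
    · have h1 : p ^ j ∣ p ^ k * ∏ i : Fin n, fr p (M i.castSucc) (M i.succ) := by
        rw [← i3, ← i2, ← hidx, hj]; exact dvd_mul_right _ _
      exact (Nat.Coprime.pow_left j i4.symm).dvd_of_dvd_mul_right h1
    · have h1 : p ^ k ∣ p ^ j * (P : Subgroup G).index := by
        rw [← hj, hidx, i2, i3]; exact dvd_mul_right _ _
      exact (Nat.Coprime.pow_left k hcop).dvd_of_dvd_mul_right h1
  have hRpos : 0 < ∏ i : Fin n, fr p (M i.castSucc) (M i.succ) := by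
    apply Nat.pos_of_ne_zero
    intro hz
    rw [hz, Nat.coprime_zero_left] at i4
    exact hp.out.one_lt.ne' i4
  refine ⟨?_, hRpos⟩
  rw [i2, hcardP]
  rfl

theorem nu_eq (P : Sylow p G) (hS : Ser p M) :
    nu G p = Nat.card (P : Subgroup G) * EE p n M (P : Subgroup G) := by
  have h2 := series_formula p (P : Subgroup G) P.2 P n M hS.h0 hS.hn hS.hmono hS.hnormal hS.hfac
  rw [cnt_eq, lam_sylow, one_mul] at h2
  exact h2

theorem lam_mul (P : Sylow p G) (hS : Ser p M) {H : Subgroup G} (hH : IsPGroup p H) :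
    lam p H * (Nat.card (P : Subgroup G) * EE p n M (P : Subgroup G)) =
      Nat.card (P : Subgroup G) * EE p n M H := by
  have h1 := series_formula p H hH P n M hS.h0 hS.hn hS.hmono hS.hnormal hS.hfac
  rw [cnt_eq, nu_eq p P hS] at h1
  exact h1

theorem n_mul_E (P : Sylow p G) (hS : Ser p M) :
    Nat.card (Sylow p G) * EE p n M (P : Subgroup G) = RR p n M := by
  have h3 := nu_mul_card (G := G) p
  obtain ⟨h4, -⟩ := card_G p P hS
  rw [nu_eq p P hS, h4] at h3
  have hpos : 0 < Nat.card (P : Subgroup G) := Nat.card_pos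
  apply Nat.eq_of_mul_eq_mul_left hpos
  rw [← h3]; ring

theorem factor_le (P : Sylow p G) [Fintype ↥(P : Subgroup G)] (hS : Ser p M) (i : Fin n) :
    (∏ x : ↥(P : Subgroup G), fe p (Subgroup.zpowers (x : G)) (M i.castSucc) (M i.succ)) ^ p ≤
      (fr p (M i.castSucc) (M i.succ)) ^ Fintype.card ↥(P : Subgroup G) *
        (fe p (P : Subgroup G) (M i.castSucc) (M i.succ)) ^
          (Fintype.card ↥(P : Subgroup G) * (p - 1)) := by
  haveI := hS.hnormal i.castSucc
  haveI := hS.hnormal i.succ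
  by_cases hc : ((M i.castSucc).relIndex (M i.succ)).Coprime p
  · have e1 : ∀ H : Subgroup G, fe p H (M i.castSucc) (M i.succ) =
        Nat.card {u : G // u ∈ M i.succ ∧ ∀ h ∈ H, h * u * h⁻¹ * u⁻¹ ∈ M i.castSucc} /
          Nat.card (M i.castSucc) := fun H => by unfold fe; rw [if_pos hc]
    have e2 : fr p (M i.castSucc) (M i.succ) = (M i.castSucc).relIndex (M i.succ) := by
      unfold fr; rw [if_pos hc]
    rw [Finset.prod_congr rfl (fun x _ => e1 _), e1, e2]
    exact Cfsg.Agent.Lib.Helper2.SecAct.factor_ineq p (P : Subgroup G) P.2 (M i.castSucc)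
      (M i.succ) (hS.hmono (Fin.castSucc_lt_succ (i := i)).le) hc
  · have e1 : ∀ H : Subgroup G, fe p H (M i.castSucc) (M i.succ) = 1 :=
      fun H => by unfold fe; rw [if_neg hc]
    have e2 : fr p (M i.castSucc) (M i.succ) = 1 := by unfold fr; rw [if_neg hc]
    rw [Finset.prod_congr rfl (fun x _ => e1 _), e1, e2]
    simp

theorem prod_E_le (P : Sylow p G) [Fintype ↥(P : Subgroup G)] (hS : Ser p M) :
    (∏ x : ↥(P : Subgroup G), EE p n M (Subgroup.zpowers (x : G))) ^ p ≤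
      (RR p n M) ^ Fintype.card ↥(P : Subgroup G) *
        (EE p n M (P : Subgroup G)) ^ (Fintype.card ↥(P : Subgroup G) * (p - 1)) := by
  unfold EE RR
  rw [Finset.prod_comm, ← Finset.prod_pow, ← Finset.prod_pow, ← Finset.prod_pow,
    ← Finset.prod_mul_distrib]
  exact Finset.prod_le_prod (fun i _ => Nat.zero_le _) (fun i _ => factor_le p P hS i)

theorem lamE_mul_E (P : Sylow p G) (hS : Ser p M) (x : ↥(P : Subgroup G)) :
    lamE p (x : G) * EE p n M (P : Subgroup G) = EE p n M (Subgroup.zpowers (x : G)) := by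
  have hH : IsPGroup p (Subgroup.zpowers (x : G)) := P.2.to_le (Subgroup.zpowers_le.2 x.2)
  have h := lam_mul p P hS hH
  rw [← lamE_eq_lam] at h
  have hpos : 0 < Nat.card (P : Subgroup G) := Nat.card_pos
  apply Nat.eq_of_mul_eq_mul_left hpos
  rw [← h]; ring

theorem prod_lamE_le (P : Sylow p G) [Fintype ↥(P : Subgroup G)] (hS : Ser p M) :
    (∏ x : ↥(P : Subgroup G), lamE p (x : G)) ^ p ≤
      (Nat.card (Sylow p G)) ^ Fintype.card ↥(P : Subgroup G) := by
  have hR := n_mul_E p P hS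
  obtain ⟨-, hRpos⟩ := card_G p P hS
  have hEpos : 0 < EE p n M (P : Subgroup G) := by
    rcases Nat.eq_zero_or_pos (EE p n M (P : Subgroup G)) with h | h
    · rw [h, mul_zero] at hR; omega
    · exact h
  have h1 := prod_E_le p P hS
  rw [← Finset.prod_congr rfl (fun x _ => lamE_mul_E p P hS x), Finset.prod_mul_distrib,
    Finset.prod_const, Finset.card_univ, ← hR] at h1
  have hp1 : 1 + (p - 1) = p := by
    have := hp.out.one_le
    omega
  have e1 : ((∏ x : ↥(P : Subgroup G), lamE p (x : G)) *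
      EE p n M (P : Subgroup G) ^ Fintype.card ↥(P : Subgroup G)) ^ p =
      (∏ x : ↥(P : Subgroup G), lamE p (x : G)) ^ p *
        EE p n M (P : Subgroup G) ^ (Fintype.card ↥(P : Subgroup G) * p) := by
    rw [mul_pow, ← pow_mul]
  have e2 : (Nat.card (Sylow p G) * EE p n M (P : Subgroup G)) ^ Fintype.card ↥(P : Subgroup G) *
      EE p n M (P : Subgroup G) ^ (Fintype.card ↥(P : Subgroup G) * (p - 1)) =
      Nat.card (Sylow p G) ^ Fintype.card ↥(P : Subgroup G) *
        EE p n M (P : Subgroup G) ^ (Fintype.card ↥(P : Subgroup G) * p) := by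
    rw [mul_pow, mul_assoc, ← pow_add]
    congr 2
    calc Fintype.card ↥(P : Subgroup G) + Fintype.card ↥(P : Subgroup G) * (p - 1)
        = Fintype.card ↥(P : Subgroup G) * (1 + (p - 1)) := by ring
      _ = Fintype.card ↥(P : Subgroup G) * p := by rw [hp1]
  rw [e1, e2] at h1
  exact Nat.le_of_mul_le_mul_right h1 (pow_pos hEpos _)

omit [Finite G] hp in
theorem arith {a c d N p : ℕ} (hp : 1 ≤ p) (hN : N ≠ 0) (ha : 0 < a)
    (h1 : a ^ N * N ^ N ≤ c * d ^ N) (h2 : c ^ p ≤ a ^ N) : N ^ p * a ^ (p - 1) ≤ d ^ p := by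
  obtain ⟨k, rfl⟩ : ∃ k, p = k + 1 := ⟨p - 1, by omega⟩
  rw [Nat.add_sub_cancel]
  have h3 : (a ^ N * N ^ N) ^ (k + 1) ≤ (c * d ^ N) ^ (k + 1) := Nat.pow_le_pow_left h1 _
  have h4 : (c * d ^ N) ^ (k + 1) ≤ a ^ N * (d ^ N) ^ (k + 1) := by
    rw [mul_pow]; exact Nat.mul_le_mul_right _ h2
  have h5 := h3.trans h4
  have e1 : (a ^ N * N ^ N) ^ (k + 1) = a ^ N * (N ^ (k + 1) * a ^ k) ^ N := by ring
  have e2 : a ^ N * (d ^ N) ^ (k + 1) = a ^ N * (d ^ (k + 1)) ^ N := by ring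
  rw [e1, e2] at h5
  have h6 := Nat.le_of_mul_le_mul_left h5 (pow_pos ha N)
  exact (Nat.pow_le_pow_iff_left hN).1 h6

theorem final (P : Sylow p G) (hS : Ser p M) :
    Nat.card (P : Subgroup G) ^ p * Nat.card (Sylow p G) ^ (p - 1) ≤
      Nat.card {g : G // ∃ k : ℕ, orderOf g = p ^ k} ^ p := by
  haveI : Fintype G := Fintype.ofFinite G
  haveI : Fintype (Sylow p G) := Fintype.ofFinite _
  haveI : Fintype ↥(P : Subgroup G) := Fintype.ofFinite _
  have hNcard : Nat.card (P : Subgroup G) = Fintype.card ↥(P : Subgroup G) :=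
    Nat.card_eq_fintype_card
  have hΛ := prod_lamE_le p P hS
  have hNpos : Fintype.card ↥(P : Subgroup G) ≠ 0 := Fintype.card_ne_zero
  have hnpos : 0 < Nat.card (Sylow p G) := Nat.card_pos
  have hz : ∀ x : ↥(P : Subgroup G), (0 : ℝ) < ((lamE p (x : G) : ℕ) : ℝ) := fun x => by
    exact_mod_cast lamE_pos p ⟨P, x.2⟩
  have hreal : ((Nat.card (Sylow p G) : ℕ) : ℝ) ^ Fintype.card ↥(P : Subgroup G) *
      ((Fintype.card ↥(P : Subgroup G) : ℕ) : ℝ) ^ Fintype.card ↥(P : Subgroup G) ≤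
      ((∏ x : ↥(P : Subgroup G), lamE p (x : G) : ℕ) : ℝ) *
        ((Nat.card {g : G // ∃ k : ℕ, orderOf g = p ^ k} : ℕ) : ℝ) ^
          Fintype.card ↥(P : Subgroup G) := by
    have h1 := card_pelt_real p P
    have h2 := pow_card_le (fun x : ↥(P : Subgroup G) => ((lamE p (x : G) : ℕ) : ℝ)) hz
    rw [h1, mul_pow, Nat.cast_prod]
    calc ((Nat.card (Sylow p G) : ℕ) : ℝ) ^ Fintype.card ↥(P : Subgroup G) *
          ((Fintype.card ↥(P : Subgroup G) : ℕ) : ℝ) ^ Fintype.card ↥(P : Subgroup G)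
        ≤ ((Nat.card (Sylow p G) : ℕ) : ℝ) ^ Fintype.card ↥(P : Subgroup G) *
          ((∏ x : ↥(P : Subgroup G), ((lamE p (x : G) : ℕ) : ℝ)) *
            (∑ x : ↥(P : Subgroup G), ((lamE p (x : G) : ℕ) : ℝ)⁻¹) ^
              Fintype.card ↥(P : Subgroup G)) :=
          mul_le_mul_of_nonneg_left h2 (pow_nonneg (Nat.cast_nonneg _) _)
      _ = _ := by ring
  have hnat : Nat.card (Sylow p G) ^ Fintype.card ↥(P : Subgroup G) *
      Fintype.card ↥(P : Subgroup G) ^ Fintype.card ↥(P : Subgroup G) ≤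
      (∏ x : ↥(P : Subgroup G), lamE p (x : G)) *
        Nat.card {g : G // ∃ k : ℕ, orderOf g = p ^ k} ^ Fintype.card ↥(P : Subgroup G) := by
    exact_mod_cast hreal
  rw [hNcard]
  exact arith hp.out.one_le hNpos hnpos hnat hΛ

end Cfsg.Agent.Lib.Helper2.PEltFinal
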