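import Cfsg.Agent.Lib.Helper2.StrongInv2
import Cfsg.Agent.Lib.Helper9.Hyperfocal4
import Cfsg.Agent.Lib.Helper9.PPowerIndex2

set_option autoImplicit false

namespace Cfsg.Agent.Lib.Helper2.PPow

open Cfsg Cfsg.FusionSystem Cfsg.Agent.Lib.Helper9 Cfsg.Agent.Lib.Helper2.StrongInv

variable {Ω : Type*} [Group Ω] {S : Subgroup Ω}

/-- a subgroup normal in `S` containing the hyperfocal subgroup is strongly closed -/
theorem stronglyClosed_of_hyperfocal_le [Finite S] (p : ℕ) [Fact p.Prime] (hS : IsPGroup p S)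
    (F : FusionSystem S) (hF : F.IsSaturated p) {T : Subgroup Ω} (hTS : T ≤ S)
    (hTn : ∀ s ∈ S, ∀ h ∈ T, s * h * s⁻¹ ∈ T) (hT : F.hyperfocalSubgroup p ≤ T) :
    F.StronglyClosed T := by
  have hle : F ≤ cosetSystem F T hTn := by
    apply alperin p hS F hF
    intro P hP
    have hPn : F.IsFullyNormalized P := by
      rcases hP with hP | hP
      · rw [hP]
        exact fullyNormalized_top F
      · exact hP.2.1
    have hPS := hPn.1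
    obtain ⟨-, R, hR⟩ := fullyAutomized_of_fullyNormalized hS F hF hPn
    have hfinP : Finite P := finite_of_le hPS
    intro α hα
    rw [mem_autGroup_iff _ hPS]
    obtain ⟨t, ht, r, hr, hα'⟩ := exists_sylow_mul_pResidual R (⟨α, hα⟩ : F.autGroup P)
    rw [hR] at ht
    obtain ⟨g, hg, hgt⟩ := (mem_autInducedBy_iff S P _).mp (Subgroup.mem_subgroupOf.mp ht)
    refine ⟨hom_of_mem_autGroup F hPS hα, g, hg, fun y => ?_⟩
    have hαy : ((α y : P) : Ω) = (((t : MulAut P) ((r : MulAut P) y) : P) : Ω) := by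
      have := congrArg (fun a : F.autGroup P => (((a : MulAut P) y : P) : Ω)) hα'
      exact this
    show (g * (y : Ω) * g⁻¹)⁻¹ * ((α y : P) : Ω) ∈ _
    rw [hαy, hgt]
    have h1 : (y : Ω)⁻¹ * (((r : MulAut P) y : P) : Ω) ∈ T :=
      hT (Subgroup.subset_closure ⟨P, r, y, hPS, hr, rfl⟩)
    have h2 := hTn g hg _ h1
    have h3 : (g * (y : Ω) * g⁻¹)⁻¹ * (g * (((r : MulAut P) y : P) : Ω) * g⁻¹) =
        g * ((y : Ω)⁻¹ * (((r : MulAut P) y : P) : Ω)) * g⁻¹ := by group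
    rw [h3]
    exact h2
  refine ⟨hTS, fun R hR φ hφ x => ?_⟩
  obtain ⟨-, s, hs, hsφ⟩ := hle R hφ
  have h1 := hsφ x
  have h2 := hTn s hs _ (hR x.2)
  have h3 : φ x = (s * (x : Ω) * s⁻¹) * ((s * (x : Ω) * s⁻¹)⁻¹ * φ x) := by group
  rw [h3]
  exact Subgroup.mul_mem _ h2 h1

/-- invariance of a single map under `Aut_F(T)` -/
def InvAt (F : FusionSystem S) {T : Subgroup Ω} (E : FusionSystem T) (P : Subgroup Ω)
    (φ : P →* Ω) : Prop :=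
  ∀ (P₂ : Subgroup Ω) (hPT : P ≤ T), ∀ α ∈ F.autGroup T,
    (∀ y : Ω, y ∈ P₂ ↔ ∃ (x : Ω) (hx : x ∈ P), ((α ⟨x, hPT hx⟩ : T) : Ω) = y) →
    ∃ χ ∈ E.Hom P₂, ∀ (x : P) (h2 : ((α ⟨x, hPT x.2⟩ : T) : Ω) ∈ P₂) (hφx : φ x ∈ T),
      χ ⟨((α ⟨x, hPT x.2⟩ : T) : Ω), h2⟩ = ((α ⟨φ x, hφx⟩ : T) : Ω)

theorem exists_image {T : Subgroup Ω} (P : Subgroup Ω) (hPT : P ≤ T) (α : MulAut T) :
    ∃ P₂ : Subgroup Ω, ∀ y : Ω, y ∈ P₂ ↔ ∃ (x : Ω) (hx : x ∈ P), ((α ⟨x, hPT hx⟩ : T) : Ω) = y := by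
  refine ⟨(P.subgroupOf T).map (T.subtype.comp α.toMonoidHom), fun y => ?_⟩
  constructor
  · rintro ⟨x, hx, rfl⟩
    exact ⟨x.1, Subgroup.mem_subgroupOf.mp hx, rfl⟩
  · rintro ⟨x, hx, rfl⟩
    exact ⟨⟨x, hPT hx⟩, Subgroup.mem_subgroupOf.mpr hx, rfl⟩

/-- the subsystem of the `Aut_F(T)`-invariant maps of `E` -/
def invSys (F : FusionSystem S) {T : Subgroup Ω} (E : FusionSystem T) : FusionSystem T where
  Hom P := {φ | φ ∈ E.Hom P ∧ InvAt F E P φ}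
  le_of_mem h := E.le_of_mem h.1
  injective_of_mem h := E.injective_of_mem h.1
  conj_mem := by
    intro P g hP hg
    refine ⟨E.conj_mem hP hg, ?_⟩
    intro P₂ hPT α hα hP₂
    have hP₂T : P₂ ≤ T := by
      intro y hy
      obtain ⟨x, hx, rfl⟩ := (hP₂ y).mp hy
      exact (α _).2
    refine ⟨conjHom P₂ ((α ⟨g, hg⟩ : T) : Ω), E.conj_mem hP₂T (α ⟨g, hg⟩).2, ?_⟩
    intro x h2 hφx
    have e : (⟨conjHom P g x, hφx⟩ : T) = ⟨g, hg⟩ * ⟨x, hPT x.2⟩ * (⟨g, hg⟩ : T)⁻¹ :=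
      Subtype.ext rfl
    rw [e, map_mul, map_mul, map_inv]
    rfl
  comp_mem := by
    rintro P Q φ ψ ⟨hφ, hφI⟩ ⟨hψ, hψI⟩ h
    refine ⟨E.comp_mem hφ hψ h, ?_⟩
    intro P₂ hPT α hα hP₂
    have hQT : Q ≤ T := (E.le_of_mem hψ).1
    obtain ⟨Q₂, hQ₂⟩ := exists_image Q hQT α
    obtain ⟨χ₁, hχ₁, hχ₁e⟩ := hφI P₂ hPT α hα hP₂
    obtain ⟨χ₂, hχ₂, hχ₂e⟩ := hψI Q₂ hQT α hα hQ₂
    have hφT : ∀ x : P, φ x ∈ T := fun x => hQT (h x)
    have hm : ∀ y : P₂, χ₁ y ∈ Q₂ := by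
      rintro ⟨y, hy⟩
      obtain ⟨x, hx, rfl⟩ := (hP₂ y).mp hy
      rw [hχ₁e ⟨x, hx⟩ hy (hφT ⟨x, hx⟩)]
      exact (hQ₂ _).mpr ⟨φ ⟨x, hx⟩, h ⟨x, hx⟩, rfl⟩
    refine ⟨χ₂.comp (χ₁.codRestrict Q₂ hm), E.comp_mem hχ₁ hχ₂ hm, ?_⟩
    intro x h2 hx'
    have e1 := hχ₁e x h2 (hφT x)
    have hmem : ((α ⟨φ x, hQT (h x)⟩ : T) : Ω) ∈ Q₂ := (hQ₂ _).mpr ⟨φ x, h x, rfl⟩
    have e2 := hχ₂e ⟨φ x, h x⟩ hmem hx'
    have e3 : (⟨χ₁ ⟨_, h2⟩, hm ⟨_, h2⟩⟩ : Q₂) = ⟨((α ⟨φ x, hQT (h x)⟩ : T) : Ω), hmem⟩ :=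
      Subtype.ext e1
    exact (congrArg χ₂ e3).trans e2
  inv_mem := by
    rintro P φ ⟨hφ, hφI⟩
    obtain ⟨ψ, hψ, hψφ⟩ := E.inv_mem hφ
    refine ⟨ψ, ⟨hψ, ?_⟩, hψφ⟩
    intro R₂ hRT α hα hR₂
    have hPT : P ≤ T := (E.le_of_mem hφ).1
    have hφT : ∀ x : P, φ x ∈ T := (E.le_of_mem hφ).2
    obtain ⟨P₂, hP₂⟩ := exists_image P hPT α
    obtain ⟨χ, hχ, hχe⟩ := hφI P₂ hPT α hα hP₂
    have hαP : ∀ x : P, ((α ⟨x, hPT x.2⟩ : T) : Ω) ∈ P₂ := fun x => (hP₂ _).mpr ⟨x.1, x.2, rfl⟩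
    have hr : χ.range = R₂ := by
      ext y
      constructor
      · rintro ⟨⟨z, hz⟩, rfl⟩
        obtain ⟨x, hx, rfl⟩ := (hP₂ z).mp hz
        rw [hχe ⟨x, hx⟩ hz (hφT _)]
        exact (hR₂ _).mpr ⟨φ ⟨x, hx⟩, ⟨⟨x, hx⟩, rfl⟩, rfl⟩
      · intro hy
        obtain ⟨w, ⟨x, rfl⟩, rfl⟩ := (hR₂ y).mp hy
        exact ⟨⟨_, hαP x⟩, hχe x (hαP x) (hφT x)⟩
    obtain ⟨θ, hθ, hθχ, -, -⟩ := inv_hom E hχ hr
    refine ⟨θ, hθ, ?_⟩
    rintro ⟨w, x, rfl⟩ h2 hψx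
    have e1 := hχe x (hαP x) (hφT x)
    have h2' : χ ⟨_, hαP x⟩ ∈ R₂ := by
      rw [e1]
      exact h2
    have e2 := hθχ ⟨_, hαP x⟩ h2'
    have e3 : (⟨((α ⟨φ x, hφT x⟩ : T) : Ω), h2⟩ : R₂) = ⟨χ ⟨_, hαP x⟩, h2'⟩ := Subtype.ext e1.symm
    have e4 : (⟨ψ ⟨φ x, ⟨x, rfl⟩⟩, hψx⟩ : T) = ⟨x, hPT x.2⟩ := Subtype.ext (hψφ x)
    exact (congrArg θ e3).trans (e2.trans (congrArg (fun t : T => ((α t : T) : Ω)) e4.symm))

/-- the transport of an element of `O^p(Aut_E(P))` along an element of `Aut_F(T)` lies in `E` -/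
theorem invAt_of_pResidual [Finite S] {p : ℕ} [Fact p.Prime] {F : FusionSystem S} {T : Subgroup Ω}
    {E : FusionSystem T} (hTS : T ≤ S) (hEi : E.HasPPowerIndexIn F p) {P : Subgroup Ω} (hPT : P ≤ T)
    (r : E.autGroup P) (hr : r ∈ pResidual p (E.autGroup P)) :
    InvAt F E P (P.subtype.comp (r : MulAut P).toMonoidHom) := by
  intro P₂ hPT' α hα hP₂
  have hψ : (T.subtype.comp α.toMonoidHom).comp (Subgroup.inclusion hPT) ∈ F.Hom P :=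
    restrict_mem F (hom_of_mem_autGroup F hTS hα) hPT
  have hrange : ((T.subtype.comp α.toMonoidHom).comp (Subgroup.inclusion hPT)).range = P₂ := by
    ext y
    rw [hP₂]
    constructor
    · rintro ⟨x, rfl⟩
      exact ⟨x.1, x.2, rfl⟩
    · rintro ⟨x, hx, rfl⟩
      exact ⟨⟨x, hx⟩, rfl⟩
  have hP₂T : P₂ ≤ T := by
    intro y hy
    obtain ⟨x, hx, rfl⟩ := (hP₂ y).mp hy
    exact (α _).2
  have hle : E.autGroup P ≤ F.autGroup P := Subgroup.closure_mono (fun a ha => hEi.1 P ha)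
  have h1 : Subgroup.inclusion hle r ∈ pResidual p (F.autGroup P) :=
    map_pResidual_le p (Subgroup.inclusion hle) (Subgroup.inclusion_injective hle) ⟨r, hr, rfl⟩
  have h2 := autGroupCongr_mem_pResidual F p hψ hrange h1
  have h3 : ((autGroupCongr F hψ hrange (Subgroup.inclusion hle r) : F.autGroup P₂) : MulAut P₂) ∈
      E.autGroup P₂ := hEi.2.2 P₂ hP₂T ⟨_, h2, rfl⟩
  refine ⟨_, hom_of_mem_autGroup E hP₂T h3, ?_⟩
  intro x hx2 hφx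
  have hz : (⟨((α ⟨x, hPT' x.2⟩ : T) : Ω), hx2⟩ : P₂) =
      equivOfRange _ (F.injective_of_mem hψ) hrange x := Subtype.ext rfl
  rw [hz]
  show ((equivOfRange _ (F.injective_of_mem hψ) hrange ((r : MulAut P)
    ((equivOfRange _ (F.injective_of_mem hψ) hrange).symm
      (equivOfRange _ (F.injective_of_mem hψ) hrange x))) : P₂) : Ω) = _
  rw [MulEquiv.symm_apply_apply]
  rfl

/-- a saturated subsystem of `p`-power index is invariant under `Aut_F(T)` -/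
theorem inv_of_ppower [Finite S] {p : ℕ} [Fact p.Prime] (hS : IsPGroup p S) {F : FusionSystem S}
    {T : Subgroup Ω} {E : FusionSystem T} (hTS : T ≤ S) (hEs : E.IsSaturated p)
    (hEi : E.HasPPowerIndexIn F p) : Inv F E := by
  haveI : Finite T := finite_of_le hTS
  have hT' : IsPGroup p T := isPGroup_of_le hS hTS
  have hle : E ≤ invSys F E := by
    apply alperin p hT' E hEs
    intro P hP
    have hPn : E.IsFullyNormalized P := by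
      rcases hP with hP | hP
      · rw [hP]
        exact fullyNormalized_top E
      · exact hP.2.1
    have hPT : P ≤ T := hPn.1
    obtain ⟨-, R, hR⟩ := fullyAutomized_of_fullyNormalized hT' E hEs hPn
    haveI : Finite P := finite_of_le (hPT.trans hTS)
    intro a ha
    obtain ⟨t, ht, r, hr, hα'⟩ := exists_sylow_mul_pResidual R (⟨a, ha⟩ : E.autGroup P)
    rw [hR] at ht
    have htm : (t : MulAut P) ∈ (invSys F E).autGroup P :=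
      autInducedBy_le_autGroup (invSys F E) hPT (Subgroup.mem_subgroupOf.mp ht)
    have hrm : (r : MulAut P) ∈ (invSys F E).autGroup P := by
      rw [mem_autGroup_iff _ hPT]
      exact ⟨hom_of_mem_autGroup E hPT r.2, invAt_of_pResidual hTS hEi hPT r hr⟩
    have hae : a = (t : MulAut P) * (r : MulAut P) := congrArg Subtype.val hα'
    rw [hae]
    exact Subgroup.mul_mem _ htm hrm
  intro P P₂ hPT φ hφ α hα hP₂
  exact (hle P hφ).2 P₂ hPT α hα hP₂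

end Cfsg.Agent.Lib.Helper2.PPow
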