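import Cfsg.Agent.Lib.Helper2.PPow1

set_option autoImplicit false

namespace Cfsg.Agent.Lib.Helper2.PPow

open Cfsg Cfsg.FusionSystem Cfsg.Agent.Lib.Helper9 Cfsg.Agent.Lib.Helper2.StrongInv

variable {Ω : Type*} [Group Ω] {S : Subgroup Ω}

/-- `O^p` is carried into `O^p` by any homomorphism -/
theorem map_pResidual_le' {A B : Type*} [Group A] [Group B] (p : ℕ) (f : A →* B) :
    (pResidual p A).map f ≤ pResidual p B := by
  unfold pResidual
  rw [MonoidHom.map_closure]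
  apply Subgroup.closure_mono
  rintro _ ⟨g, hg, rfl⟩
  show Nat.Coprime (orderOf (f g)) p
  exact Nat.Coprime.coprime_dvd_left (orderOf_map_dvd f g) hg

/-- restriction of `Aut_F(P)` to `P ⊓ T` for a strongly closed `T` -/
noncomputable def resInf (F : FusionSystem S) {T P : Subgroup Ω} (hT : F.StronglyClosed T)
    (hP : P ≤ S) : F.autGroup P →* F.autGroup (P ⊓ T) where
  toFun β := ⟨
    { toFun := fun t => ⟨((β.1 ⟨t, t.2.1⟩ : P) : Ω),
        ⟨(β.1 ⟨t, t.2.1⟩).2, aut_mem_of_stronglyClosed F hT hP β.2 _ t.2.2⟩⟩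
      invFun := fun t => ⟨((β.1⁻¹ ⟨t, t.2.1⟩ : P) : Ω),
        ⟨(β.1⁻¹ ⟨t, t.2.1⟩).2, aut_mem_of_stronglyClosed F hT hP (inv_mem β.2) _ t.2.2⟩⟩
      left_inv := by
        intro t
        apply Subtype.ext
        show ((β.1⁻¹ ⟨((β.1 ⟨t, t.2.1⟩ : P) : Ω), _⟩ : P) : Ω) = t
        have : (⟨((β.1 ⟨t, t.2.1⟩ : P) : Ω), (β.1 ⟨t, t.2.1⟩).2⟩ : P) = β.1 ⟨t, t.2.1⟩ := rfl
        rw [this, MulAut.inv_apply_self]
      right_inv := by
        intro t
        apply Subtype.ext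
        show ((β.1 ⟨((β.1⁻¹ ⟨t, t.2.1⟩ : P) : Ω), _⟩ : P) : Ω) = t
        have : (⟨((β.1⁻¹ ⟨t, t.2.1⟩ : P) : Ω), (β.1⁻¹ ⟨t, t.2.1⟩).2⟩ : P) = β.1⁻¹ ⟨t, t.2.1⟩ := rfl
        rw [this, MulAut.apply_inv_self]
      map_mul' := by
        intro a b
        apply Subtype.ext
        show ((β.1 ⟨((a * b : ↥(P ⊓ T)) : Ω), _⟩ : P) : Ω) =
          ((β.1 ⟨a, a.2.1⟩ : P) : Ω) * ((β.1 ⟨b, b.2.1⟩ : P) : Ω)
        rw [← Subgroup.coe_mul, ← map_mul]
        rfl }, by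
      rw [mem_autGroup_iff F (inf_le_left.trans hP)]
      have h1 := restrict_mem F (hom_of_mem_autGroup F hP β.2) (inf_le_left : P ⊓ T ≤ P)
      exact h1⟩
  map_one' := by
    apply Subtype.ext
    ext t
    rfl
  map_mul' := by
    intro a b
    apply Subtype.ext
    ext t
    rfl

theorem resInf_apply (F : FusionSystem S) {T P : Subgroup Ω} (hT : F.StronglyClosed T)
    (hP : P ≤ S) (β : F.autGroup P) (t : ↥(P ⊓ T)) :
    (((resInf F hT hP β : F.autGroup (P ⊓ T)) : MulAut ↥(P ⊓ T)) t : Ω) =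
      ((β : MulAut P) ⟨t, t.2.1⟩ : P) := rfl

/-- the maps of `F` whose restriction to `T` has a Frattini factorization -/
def frSys (F : FusionSystem S) {T : Subgroup Ω} (E : FusionSystem T) [Finite S]
    (hT : F.StronglyClosed T) (hInv : Inv F E) : FusionSystem S where
  Hom P := {φ | φ ∈ F.Hom P ∧
    Fr F E (P ⊓ T) (φ.comp (Subgroup.inclusion (inf_le_left : P ⊓ T ≤ P)))}
  le_of_mem h := F.le_of_mem h.1
  injective_of_mem h := F.injective_of_mem h.1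
  conj_mem := by
    intro P g hP hg
    refine ⟨F.conj_mem hP hg, ?_⟩
    obtain ⟨c, hc, hceq⟩ := exists_conj_aut F hT hg
    refine ⟨c, hc, (P ⊓ T).subtype, subtype_mem E inf_le_right, ?_⟩
    intro x hx
    rw [hceq]
    rfl
  comp_mem := by
    rintro P Q φ ψ ⟨hφ, hφF⟩ ⟨hψ, hψF⟩ h
    refine ⟨F.comp_mem hφ hψ h, ?_⟩
    have hm : ∀ x : ↥(P ⊓ T),
        (φ.comp (Subgroup.inclusion (inf_le_left : P ⊓ T ≤ P))) x ∈ Q ⊓ T :=
      fun x => ⟨h _, map_mem_of_stronglyClosed F hT hφ _ x.2.2⟩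
    obtain ⟨α, hα, φ₀, hφ₀, he⟩ := Fr.comp hInv hφF hψF hm
    exact ⟨α, hα, φ₀, hφ₀, fun x hx => he x hx⟩
  inv_mem := by
    rintro P φ ⟨hφ, hφF⟩
    obtain ⟨ψ, hψ, hψφ⟩ := F.inv_mem hφ
    refine ⟨ψ, ⟨hψ, ?_⟩, hψφ⟩
    have hr : (φ.comp (Subgroup.inclusion (inf_le_left : P ⊓ T ≤ P))).range = φ.range ⊓ T := by
      ext y
      constructor
      · rintro ⟨x, rfl⟩
        exact ⟨⟨_, rfl⟩, map_mem_of_stronglyClosed F hT hφ _ x.2.2⟩
      · rintro ⟨⟨x, rfl⟩, hy⟩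
        have hx : (x : Ω) ∈ T := by
          have h1 := map_mem_of_stronglyClosed F hT hψ ⟨φ x, ⟨x, rfl⟩⟩ hy
          rwa [hψφ x] at h1
        exact ⟨⟨x, ⟨x.2, hx⟩⟩, rfl⟩
    apply Fr.inv hInv hφF hr
    intro x hx
    exact hψφ (Subgroup.inclusion (inf_le_left : P ⊓ T ≤ P) x)

/-- the Frattini condition for a saturated subsystem of `p`-power index -/
theorem frattini_of_ppower [Finite S] {p : ℕ} [Fact p.Prime] (hS : IsPGroup p S)
    {F : FusionSystem S} (hF : F.IsSaturated p) {T : Subgroup Ω} {E : FusionSystem T}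
    (hT : F.StronglyClosed T) (hInv : Inv F E) (hEi : E.HasPPowerIndexIn F p)
    (P : Subgroup Ω) (hPT : P ≤ T) (φ : P →* Ω) (hφ : φ ∈ F.Hom P) : Fr F E P φ := by
  have hle : F ≤ frSys F E hT hInv := by
    apply alperin p hS F hF
    intro P hP
    have hPn : F.IsFullyNormalized P := by
      rcases hP with hP | hP
      · rw [hP]
        exact fullyNormalized_top F
      · exact hP.2.1
    have hPS : P ≤ S := hPn.1
    obtain ⟨-, R, hR⟩ := fullyAutomized_of_fullyNormalized hS F hF hPn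
    haveI : Finite P := finite_of_le hPS
    intro a ha
    obtain ⟨t, ht, r, hr, hα'⟩ := exists_sylow_mul_pResidual R (⟨a, ha⟩ : F.autGroup P)
    rw [hR] at ht
    have htm : (t : MulAut P) ∈ (frSys F E hT hInv).autGroup P :=
      autInducedBy_le_autGroup (frSys F E hT hInv) hPS (Subgroup.mem_subgroupOf.mp ht)
    have hrm : (r : MulAut P) ∈ (frSys F E hT hInv).autGroup P := by
      rw [mem_autGroup_iff _ hPS]
      refine ⟨hom_of_mem_autGroup F hPS r.2, ?_⟩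
      apply Fr.of_mem
      have h1 : resInf F hT hPS r ∈ pResidual p (F.autGroup (P ⊓ T)) :=
        map_pResidual_le' p (resInf F hT hPS) ⟨r, hr, rfl⟩
      have h2 : ((resInf F hT hPS r : F.autGroup (P ⊓ T)) : MulAut ↥(P ⊓ T)) ∈
          E.autGroup (P ⊓ T) := hEi.2.2 (P ⊓ T) inf_le_right ⟨_, h1, rfl⟩
      have h3 := hom_of_mem_autGroup E inf_le_right h2
      exact h3
    have hae : a = (t : MulAut P) * (r : MulAut P) := congrArg Subtype.val hα'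
    rw [hae]
    exact Subgroup.mul_mem _ htm hrm
  obtain ⟨α, hα, φ₀, hφ₀, he⟩ := (hle P hφ).2
  have hPinf : P ⊓ T = P := inf_eq_left.mpr hPT
  obtain ⟨φ₁, hφ₁, hφ₁e⟩ := transport_hom E hPinf hφ₀
  refine ⟨α, hα, φ₁, hφ₁, ?_⟩
  intro x hx
  have hxi : (x : Ω) ∈ P ⊓ T := ⟨x.2, hPT x.2⟩
  have e1 := hφ₁e x hxi x.2
  have hx' : φ₀ ⟨x, hxi⟩ ∈ T := by
    rw [← e1]
    exact hx
  have e2 := he ⟨x, hxi⟩ hx'
  have e3 : (⟨φ₁ x, hx⟩ : T) = ⟨φ₀ ⟨x, hxi⟩, hx'⟩ := Subtype.ext e1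
  rw [e3]
  exact e2

end Cfsg.Agent.Lib.Helper2.PPow
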