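import Cfsg.Agent.Lib.Helper2.PPow2

set_option autoImplicit false

namespace Cfsg.Agent.Lib.Helper2.PPow

open Cfsg Cfsg.FusionSystem Cfsg.Agent.Lib.Helper9 Cfsg.Agent.Lib.Helper2.StrongInv

variable {Ω : Type*} [Group Ω] {S : Subgroup Ω}

/-- the extension property of a single automorphism of `T` -/
def ExtOK (F : FusionSystem S) (T : Subgroup Ω) (α : MulAut T) : Prop :=
  ∃ β ∈ F.autGroup (T ⊔ centralizerIn S T),
    (∀ x : T, ((β (Subgroup.inclusion le_sup_left x) : ↥(T ⊔ centralizerIn S T)) : Ω) =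
      ((α x : T) : Ω)) ∧
    ∀ c : ↥(T ⊔ centralizerIn S T), (c : Ω) ∈ centralizerIn S T →
      (c : Ω)⁻¹ * ((β c : ↥(T ⊔ centralizerIn S T)) : Ω) ∈ T ⊓ Subgroup.centralizer (T : Set Ω)

/-- a homomorphism on `T C_S(T)` extending an automorphism of `T` maps `C_S(T)` into itself -/
theorem hom_maps_cent {T : Subgroup Ω} (ψ : ↥(T ⊔ centralizerIn S T) →* Ω)
    (hψS : ∀ z, ψ z ∈ S) (α : MulAut T)
    (hψα : ∀ x : T, ψ (Subgroup.inclusion le_sup_left x) = ((α x : T) : Ω))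
    (c : ↥(T ⊔ centralizerIn S T)) (hc : (c : Ω) ∈ centralizerIn S T) :
    ψ c ∈ centralizerIn S T := by
  refine ⟨hψS c, ?_⟩
  show ψ c ∈ Subgroup.centralizer (T : Set Ω)
  rw [Subgroup.mem_centralizer_iff]
  intro t ht
  obtain ⟨x, hx⟩ : ∃ x : T, α x = ⟨t, ht⟩ := ⟨α⁻¹ ⟨t, ht⟩, MulAut.apply_inv_self _ α _⟩
  have h1 : ψ (Subgroup.inclusion le_sup_left x) = t := by
    rw [hψα x, hx]
  have hcomm : (Subgroup.inclusion le_sup_left x : ↥(T ⊔ centralizerIn S T)) * c =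
      c * Subgroup.inclusion le_sup_left x :=
    Subtype.ext (Subgroup.mem_centralizer_iff.mp hc.2 x x.2)
  have h2 := congrArg ψ hcomm
  rw [map_mul, map_mul, h1] at h2
  exact h2

theorem aut_maps_cent {T : Subgroup Ω} (hTS : T ≤ S) (β : MulAut ↥(T ⊔ centralizerIn S T))
    (α : MulAut T)
    (hβα : ∀ x : T, ((β (Subgroup.inclusion le_sup_left x) : ↥(T ⊔ centralizerIn S T)) : Ω) =
      ((α x : T) : Ω))
    (c : ↥(T ⊔ centralizerIn S T)) (hc : (c : Ω) ∈ centralizerIn S T) :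
    ((β c : ↥(T ⊔ centralizerIn S T)) : Ω) ∈ centralizerIn S T := by
  have hRS : T ⊔ centralizerIn S T ≤ S := sup_le hTS inf_le_left
  exact hom_maps_cent ((T ⊔ centralizerIn S T).subtype.comp β.toMonoidHom)
    (fun z => hRS (β z).2) α hβα c hc

theorem aut_center_mem {T : Subgroup Ω} (α : MulAut T) (z : T)
    (hz : (z : Ω) ∈ Subgroup.centralizer (T : Set Ω)) :
    ((α z : T) : Ω) ∈ Subgroup.centralizer (T : Set Ω) := by
  rw [Subgroup.mem_centralizer_iff]
  intro t ht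
  obtain ⟨x, hx⟩ : ∃ x : T, α x = ⟨t, ht⟩ := ⟨α⁻¹ ⟨t, ht⟩, MulAut.apply_inv_self _ α _⟩
  have hcomm : x * z = z * x := Subtype.ext (Subgroup.mem_centralizer_iff.mp hz x x.2)
  have h2 := congrArg (fun w : T => (w : Ω)) (congrArg α hcomm)
  simp only [map_mul, Subgroup.coe_mul] at h2
  rw [hx] at h2
  exact h2

theorem extOK_one (F : FusionSystem S) (T : Subgroup Ω) : ExtOK F T 1 := by
  refine ⟨1, Subgroup.one_mem _, fun x => rfl, fun c _ => ?_⟩
  show (c : Ω)⁻¹ * (c : Ω) ∈ _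
  rw [inv_mul_cancel]
  exact Subgroup.one_mem _

theorem extOK_mul {F : FusionSystem S} {T : Subgroup Ω} {α₁ α₂ : MulAut T}
    (h₁ : ExtOK F T α₁) (h₂ : ExtOK F T α₂) : ExtOK F T (α₁ * α₂) := by
  obtain ⟨β₁, hβ₁, h₁e, h₁c⟩ := h₁
  obtain ⟨β₂, hβ₂, h₂e, h₂c⟩ := h₂
  refine ⟨β₁ * β₂, Subgroup.mul_mem _ hβ₁ hβ₂, ?_, ?_⟩
  · intro x
    rw [MulAut.mul_apply, MulAut.mul_apply]
    have e : β₂ (Subgroup.inclusion le_sup_left x) = Subgroup.inclusion le_sup_left (α₂ x) :=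
      Subtype.ext (h₂e x)
    rw [e]
    exact h₁e (α₂ x)
  · intro c hc
    have hz₂ := h₂c c hc
    have e : β₂ c = c * Subgroup.inclusion le_sup_left
        (⟨(c : Ω)⁻¹ * ((β₂ c : ↥(T ⊔ centralizerIn S T)) : Ω), hz₂.1⟩ : T) := by
      apply Subtype.ext
      show ((β₂ c : ↥(T ⊔ centralizerIn S T)) : Ω) =
        (c : Ω) * ((c : Ω)⁻¹ * ((β₂ c : ↥(T ⊔ centralizerIn S T)) : Ω))
      group
    rw [MulAut.mul_apply, e, map_mul, Subgroup.coe_mul, h₁e, ← mul_assoc]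
    refine Subgroup.mul_mem _ (h₁c c hc) ⟨(α₁ _).2, aut_center_mem α₁ _ hz₂.2⟩

theorem extOK_inv {F : FusionSystem S} {T : Subgroup Ω} (hTS : T ≤ S) {α : MulAut T}
    (h : ExtOK F T α) : ExtOK F T α⁻¹ := by
  obtain ⟨β, hβ, he, hc⟩ := h
  have hext : ∀ x : T, ((β⁻¹ (Subgroup.inclusion le_sup_left x) : ↥(T ⊔ centralizerIn S T)) : Ω) =
      ((α⁻¹ x : T) : Ω) := by
    intro x
    have h1 : β (Subgroup.inclusion le_sup_left (α⁻¹ x)) = Subgroup.inclusion le_sup_left x := by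
      apply Subtype.ext
      rw [he, MulAut.apply_inv_self]
      rfl
    rw [← h1, MulAut.inv_apply_self]
    rfl
  refine ⟨β⁻¹, Subgroup.inv_mem _ hβ, hext, ?_⟩
  intro c hcc
  have hc' := aut_maps_cent hTS β⁻¹ α⁻¹ hext c hcc
  have h2 := Subgroup.inv_mem _ (hc (β⁻¹ c) hc')
  rw [MulAut.apply_inv_self, mul_inv_rev, inv_inv] at h2
  exact h2

theorem extOK_conj [Finite S] {F : FusionSystem S} {T : Subgroup Ω} (hTS : T ≤ S) {α : MulAut T}
    {g : Ω} (hg : g ∈ T) (hgα : ∀ x : T, ((α x : T) : Ω) = g * (x : Ω) * g⁻¹) : ExtOK F T α := by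
  have hRS : T ⊔ centralizerIn S T ≤ S := sup_le hTS inf_le_left
  have h1 : conjHom (T ⊔ centralizerIn S T) g ∈ F.Hom (T ⊔ centralizerIn S T) :=
    F.conj_mem hRS (hTS hg)
  have hgR : g ∈ T ⊔ centralizerIn S T := Subgroup.mem_sup_left hg
  have h2 : ∀ z, conjHom (T ⊔ centralizerIn S T) g z ∈ T ⊔ centralizerIn S T := by
    intro z
    rw [conjHom_apply]
    exact Subgroup.mul_mem _ (Subgroup.mul_mem _ hgR z.2) (Subgroup.inv_mem _ hgR)
  obtain ⟨β, hβ, hβe⟩ := exists_aut_of_hom F h1 (range_eq_of_forall_mem F h1 h2)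
  refine ⟨β, hβ, ?_, ?_⟩
  · intro x
    rw [hβe, conjHom_apply, hgα]
    rfl
  · intro c hc
    rw [hβe, conjHom_apply]
    have hcomm : g * (c : Ω) = (c : Ω) * g := Subgroup.mem_centralizer_iff.mp hc.2 g hg
    have : (c : Ω)⁻¹ * (g * (c : Ω) * g⁻¹) = 1 := by
      rw [hcomm]
      group
    rw [this]
    exact Subgroup.one_mem _

theorem pow_ext {T : Subgroup Ω} {β : MulAut ↥(T ⊔ centralizerIn S T)} {a : MulAut T}
    (h : ∀ x : T, ((β (Subgroup.inclusion le_sup_left x) : ↥(T ⊔ centralizerIn S T)) : Ω) =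
      ((a x : T) : Ω)) (j : ℕ) :
    ∀ x : T, (((β ^ j) (Subgroup.inclusion le_sup_left x) : ↥(T ⊔ centralizerIn S T)) : Ω) =
      (((a ^ j) x : T) : Ω) := by
  induction j with
  | zero =>
    intro x
    rfl
  | succ j ih =>
    intro x
    rw [pow_succ, pow_succ, MulAut.mul_apply, MulAut.mul_apply]
    have e : β (Subgroup.inclusion le_sup_left x) = Subgroup.inclusion le_sup_left (a x) :=
      Subtype.ext (h x)
    rw [e]
    exact ih (a x)

theorem fullyNormalized_of_stronglyClosed [Finite S] (F : FusionSystem S) {T : Subgroup Ω}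
    (hT : F.StronglyClosed T) : F.IsFullyNormalized T := by
  refine ⟨hT.1, fun Q hQ => ?_⟩
  obtain ⟨φ, hφ, hr⟩ := hQ
  haveI : Finite T := finite_of_le hT.1
  have hQT : Q ≤ T := by
    rw [← hr]
    rintro _ ⟨x, rfl⟩
    exact hT.2 T le_rfl φ hφ x
  have hcard : Nat.card T = Nat.card Q :=
    Nat.card_congr (equivOfRange φ (F.injective_of_mem hφ) hr).toEquiv
  have hQeq : Q = T := Subgroup.eq_of_le_of_card_ge hQT hcard.le
  rw [hQeq]

theorem extOK_pprime [Finite S] {p : ℕ} [Fact p.Prime] (hS : IsPGroup p S) {F : FusionSystem S}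
    (hF : F.IsSaturated p) {T : Subgroup Ω} (hT : F.StronglyClosed T)
    (hhyp : F.hyperfocalSubgroup p ≤ T) (a : MulAut T) (ha : a ∈ F.autGroup T)
    (hao : Nat.Coprime (orderOf a) p) : ExtOK F T a := by
  have hTS : T ≤ S := hT.1
  have hRS : T ⊔ centralizerIn S T ≤ S := sup_le hTS inf_le_left
  haveI : Finite ↥(T ⊔ centralizerIn S T) := finite_of_le hRS
  have hTn := fullyNormalized_of_stronglyClosed F hT
  have hrec := receptive_of_fullyCentralized hS F hF (fullyCentralized_of_fullyNormalized hS F hF hTn)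
  have hφ : T.subtype.comp a.toMonoidHom ∈ F.Hom T := hom_of_mem_autGroup F hTS ha
  have hφr : (T.subtype.comp a.toMonoidHom).range = T :=
    range_eq_of_forall_mem F hφ (fun x => (a x).2)
  obtain ⟨ψ, hψ, hψe⟩ := hrec.2 T _ hφ hφr
  have hle : T ⊔ centralizerIn S T ≤ extender S T (T.subtype.comp a.toMonoidHom) :=
    sup_le (le_extender hTS _ (fun x => hTS (a x).2)) (centralizerIn_le_extender T _)
  have hψ' : ψ.comp (Subgroup.inclusion hle) ∈ F.Hom (T ⊔ centralizerIn S T) :=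
    restrict_mem F hψ hle
  have hψ'e : ∀ x : T, (ψ.comp (Subgroup.inclusion hle)) (Subgroup.inclusion le_sup_left x) =
      ((a x : T) : Ω) := by
    intro x
    exact hψe x.1 x.2 (hle (Subgroup.mem_sup_left x.2))
  have hmaps : ∀ z, (ψ.comp (Subgroup.inclusion hle)) z ∈ T ⊔ centralizerIn S T := by
    intro z
    have hz : (z : Ω) ∈ centralizerIn S T ⊔ T := by
      rw [sup_comm]
      exact z.2
    have hCN : centralizerIn S T ≤ Subgroup.normalizer ((T : Subgroup Ω) : Set Ω) :=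
      fun c hc => Subgroup.centralizer_le_normalizer _ hc.2
    obtain ⟨c, hc, t, ht, hzct⟩ := exists_mul_of_mem_sup hCN hz
    have e : z = (⟨c, Subgroup.mem_sup_right hc⟩ : ↥(T ⊔ centralizerIn S T)) *
        Subgroup.inclusion le_sup_left (⟨t, ht⟩ : T) := Subtype.ext hzct
    rw [e, map_mul]
    refine Subgroup.mul_mem _ (Subgroup.mem_sup_right ?_) (Subgroup.mem_sup_left ?_)
    · exact hom_maps_cent _ (fun w => hom_mem F hψ' w) a hψ'e _ hc
    · rw [hψ'e]
      exact (a _).2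
  obtain ⟨β₀, hβ₀, hβ₀e⟩ := exists_aut_of_hom F hψ' (range_eq_of_forall_mem F hψ' hmaps)
  have hβ₀a : ∀ x : T, ((β₀ (Subgroup.inclusion le_sup_left x) : ↥(T ⊔ centralizerIn S T)) : Ω) =
      ((a x : T) : Ω) := by
    intro x
    rw [hβ₀e]
    exact hψ'e x
  obtain ⟨k, hk1, hkc⟩ := exists_pow_pPrime p (⟨β₀, hβ₀⟩ : F.autGroup (T ⊔ centralizerIn S T))
    (orderOf a) hao
  have hak : a ^ k = a := by
    have h1 : a ^ k = a ^ 1 := pow_eq_pow_iff_modEq.mpr hk1
    rwa [pow_one] at h1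
  have hβk : β₀ ^ k ∈ F.autGroup (T ⊔ centralizerIn S T) := pow_mem hβ₀ k
  have hgk : (⟨β₀, hβ₀⟩ : F.autGroup (T ⊔ centralizerIn S T)) ^ k = ⟨β₀ ^ k, hβk⟩ :=
    Subtype.ext (Subgroup.coe_pow _ _ _)
  rw [hgk] at hkc
  have hres : (⟨β₀ ^ k, hβk⟩ : F.autGroup (T ⊔ centralizerIn S T)) ∈
      pResidual p (F.autGroup (T ⊔ centralizerIn S T)) := by
    apply Subgroup.subset_closure
    exact hkc
  have hext : ∀ x : T,
      (((β₀ ^ k) (Subgroup.inclusion le_sup_left x) : ↥(T ⊔ centralizerIn S T)) : Ω) =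
      ((a x : T) : Ω) := by
    intro x
    have := pow_ext hβ₀a k x
    rw [hak] at this
    exact this
  refine ⟨β₀ ^ k, hβk, hext, ?_⟩
  intro c hc
  refine ⟨hhyp (Subgroup.subset_closure ⟨T ⊔ centralizerIn S T, ⟨β₀ ^ k, hβk⟩, c, hRS, hres, rfl⟩), ?_⟩
  have h1 := aut_maps_cent hTS (β₀ ^ k) a hext c hc
  exact Subgroup.mul_mem _ (Subgroup.inv_mem _ hc.2) h1.2

/-- the extension condition for a saturated subsystem of `p`-power index -/
theorem extOK_of_mem [Finite S] {p : ℕ} [Fact p.Prime] (hS : IsPGroup p S) {F : FusionSystem S}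
    (hF : F.IsSaturated p) {T : Subgroup Ω} {E : FusionSystem T} (hT : F.StronglyClosed T)
    (hhyp : F.hyperfocalSubgroup p ≤ T) (hEs : E.IsSaturated p) (hEF : E.IsSubsystemOf F)
    (α : MulAut T) (hα : α ∈ E.autGroup T) : ExtOK F T α := by
  have hTS : T ≤ S := hT.1
  haveI : Finite T := finite_of_le hTS
  have hT' : IsPGroup p T := isPGroup_of_le hS hTS
  have hle : E.autGroup T ≤ F.autGroup T := Subgroup.closure_mono (fun a ha => hEF T ha)
  have key : ∀ r : E.autGroup T, r ∈ pResidual p (E.autGroup T) → ExtOK F T (r : MulAut T) := by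
    intro r hr
    unfold pResidual at hr
    induction hr using Subgroup.closure_induction with
    | mem a ha =>
      refine extOK_pprime hS hF hT hhyp (a : MulAut T) (hle a.2) ?_
      have h1 : Nat.Coprime (orderOf a) p := ha
      rwa [← Subgroup.orderOf_coe] at h1
    | one => exact extOK_one F T
    | mul a b _ _ iha ihb =>
      rw [Subgroup.coe_mul]
      exact extOK_mul iha ihb
    | inv a _ iha =>
      rw [Subgroup.coe_inv]
      exact extOK_inv hTS iha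
  obtain ⟨-, R, hR⟩ := fullyAutomized_of_fullyNormalized hT' E hEs (fullyNormalized_top E)
  obtain ⟨t, ht, r, hr, hα'⟩ := exists_sylow_mul_pResidual R (⟨α, hα⟩ : E.autGroup T)
  rw [hR] at ht
  obtain ⟨g, hg, hgt⟩ := (mem_autInducedBy_iff T T _).mp (Subgroup.mem_subgroupOf.mp ht)
  have h1 : ExtOK F T (t : MulAut T) := extOK_conj hTS hg hgt
  have h2 : ExtOK F T (r : MulAut T) := key r hr
  have hae : α = (t : MulAut T) * (r : MulAut T) := congrArg Subtype.val hα'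
  rw [hae]
  exact extOK_mul h1 h2

end Cfsg.Agent.Lib.Helper2.PPow
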