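import Cfsg.Agent.Lib.Helper2.Sat310e
import Cfsg.Agent.Lib.Helper9.StronglyEmbedded

/-!
# Saturation from generation and saturation on a family (AKO I.3.10): the two cases and the theorem
-/

set_option autoImplicit false

namespace Cfsg.Agent.Lib.Helper2.Sat310

open Cfsg Cfsg.FusionSystem Cfsg.Agent.Lib.Helper9 Cfsg.Agent.Lib.Helper2.KNorm

/-! ### Two group-theoretic lemmas -/

/-- transport of the `p`-core of a subgroup along an isomorphism -/
theorem pCore_map_congr {G G' : Type*} [Group G] [Group G'] (p : ℕ) (c : G ≃* G')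
    {H : Subgroup G} {H' : Subgroup G'} (hH : ∀ x, x ∈ H ↔ c x ∈ H') {x : G}
    (hx : x ∈ (pCore p ↥H).map H.subtype) : c x ∈ (pCore p ↥H').map H'.subtype := by
  obtain ⟨N, hN⟩ : ∃ N : Subgroup G', N = ((pCore p ↥H).map H.subtype).map c.toMonoidHom :=
    ⟨_, rfl⟩
  have hNH' : N ≤ H' := by
    rw [hN]
    rintro _ ⟨_, ⟨y, -, rfl⟩, rfl⟩
    exact (hH _).mp y.2
  have hnorm : (N.subgroupOf H').Normal := by
    constructor
    intro n hn g
    rw [Subgroup.mem_subgroupOf] at hn ⊢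
    rw [hN] at hn ⊢
    obtain ⟨_, ⟨y, hy, rfl⟩, hyn⟩ := hn
    have hyn' : c (y : G) = n := hyn
    have hg' : c.symm g ∈ H := by
      rw [hH, MulEquiv.apply_symm_apply]
      exact g.2
    refine ⟨_, ⟨⟨c.symm g, hg'⟩ * y * ⟨c.symm g, hg'⟩⁻¹,
      (pCore_normal' p _).conj_mem y hy _, rfl⟩, ?_⟩
    show c (c.symm (g : G') * (y : G) * (c.symm (g : G'))⁻¹) = (g : G') * (n : G') * (g : G')⁻¹
    rw [map_mul, map_mul, map_inv, MulEquiv.apply_symm_apply, hyn']
  have hp : IsPGroup p ↥(N.subgroupOf H') := by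
    have h1 : IsPGroup p ↥N := by
      rw [hN]
      exact ((pCore_isPGroup' p ↥H).map H.subtype).map c.toMonoidHom
    exact h1.comap_subtype
  have hle := le_pCore' hnorm hp
  have hcx : c x ∈ N := by
    rw [hN]
    exact ⟨x, hx, rfl⟩
  exact ⟨⟨c x, hNH' hcx⟩, hle hcx, rfl⟩

/-- an automorphism of `Q` fixing pointwise a normal subgroup `P` containing its centralizer in `Q`
has order dividing `|P|` -/
theorem pow_card_eq_one_of_fix {Ω : Type*} [Group Ω] {Q P : Subgroup Ω} (hPQ : P ≤ Q)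
    (hnorm : ∀ g ∈ Q, ∀ x ∈ P, g * x * g⁻¹ ∈ P)
    (hcent : ∀ z ∈ Q, (∀ x ∈ P, x * z = z * x) → z ∈ P) (δ : MulAut Q)
    (hδ : ∀ x : P, δ (Subgroup.inclusion hPQ x) = Subgroup.inclusion hPQ x) :
    δ ^ Nat.card P = 1 := by
  have hz : ∀ g : Q, ((g⁻¹ * δ g : Q) : Ω) ∈ P := by
    intro g
    apply hcent _ (g⁻¹ * δ g).2
    intro x hx
    have h1 : δ (g * Subgroup.inclusion hPQ ⟨x, hx⟩ * g⁻¹) =
        g * Subgroup.inclusion hPQ ⟨x, hx⟩ * g⁻¹ := by
      have h2 : g * Subgroup.inclusion hPQ ⟨x, hx⟩ * g⁻¹ =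
          Subgroup.inclusion hPQ ⟨(g : Ω) * x * (g : Ω)⁻¹, hnorm g g.2 x hx⟩ := Subtype.ext rfl
      rw [h2, hδ]
    rw [map_mul, map_mul, map_inv, hδ] at h1
    have h4 : g⁻¹ * (δ g * Subgroup.inclusion hPQ ⟨x, hx⟩ * (δ g)⁻¹) * δ g =
        g⁻¹ * (g * Subgroup.inclusion hPQ ⟨x, hx⟩ * g⁻¹) * δ g := by rw [h1]
    have h5 : g⁻¹ * (δ g * Subgroup.inclusion hPQ ⟨x, hx⟩ * (δ g)⁻¹) * δ g =
        (g⁻¹ * δ g) * Subgroup.inclusion hPQ ⟨x, hx⟩ := by group
    have h6 : g⁻¹ * (g * Subgroup.inclusion hPQ ⟨x, hx⟩ * g⁻¹) * δ g =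
        Subgroup.inclusion hPQ ⟨x, hx⟩ * (g⁻¹ * δ g) := by group
    rw [h5, h6] at h4
    exact congrArg (fun q : Q => (q : Ω)) h4.symm
  have hfix : ∀ g : Q, δ (g⁻¹ * δ g) = g⁻¹ * δ g := by
    intro g
    have h1 : g⁻¹ * δ g = Subgroup.inclusion hPQ ⟨_, hz g⟩ := Subtype.ext rfl
    rw [h1, hδ]
  have hpow : ∀ (n : ℕ) (g : Q), (δ ^ n) g = g * (g⁻¹ * δ g) ^ n := by
    intro n
    induction n with
    | zero =>
      intro g
      simp
    | succ n ih =>
      intro g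
      rw [pow_succ', MulAut.mul_apply, ih, map_mul, map_pow, hfix, pow_succ', ← mul_assoc,
        mul_inv_cancel_left]
  apply MulEquiv.ext
  intro g
  rw [hpow]
  have h1 : g⁻¹ * δ g = Subgroup.inclusion hPQ ⟨_, hz g⟩ := Subtype.ext rfl
  have h2 : (⟨_, hz g⟩ : P) ^ Nat.card P = 1 := pow_card_eq_one'
  rw [h1, ← map_pow, h2, map_one, mul_one]
  rfl

variable {Ω : Type*} [Group Ω] {S : Subgroup Ω} [Finite S] {p : ℕ} [Fact p.Prime]

/-! ### The top group -/

omit [Fact p.Prime] in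
theorem card_lt_S (F : FusionSystem S)
    (hstar' : ∀ P : Subgroup Ω, F.IsCentric P → ¬ Good p F P → ∃ Q, F.IsConj P Q ∧
      ¬ (autInducedBy S Q ⊓ (pCore p ↥(F.autGroup Q)).map (F.autGroup Q).subtype ≤ Inn Q))
    {Phat : Subgroup Ω} (hPS : Phat ≤ S) (hng : ¬ Good p F Phat) :
    Nat.card Phat < Nat.card S := by
  by_contra hlt
  have heq : Phat = S := Subgroup.eq_of_le_of_card_ge hPS (not_lt.mp hlt)
  rw [heq] at hng
  have hSc : F.IsCentric S := by
    refine ⟨le_rfl, ?_⟩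
    rintro Q ⟨φ, hφ, rfl⟩
    have h1 := range_eq_of_forall_mem F hφ (hom_mem F hφ)
    rw [h1]
    exact inf_le_left
  obtain ⟨Q, ⟨φ, hφ, hQ⟩, hnot⟩ := hstar' S hSc hng
  have hQS : Q = S := by
    rw [← hQ]
    exact range_eq_of_forall_mem F hφ (hom_mem F hφ)
  apply hnot
  intro α hα
  obtain ⟨g, hgS, hg⟩ := (mem_autInducedBy_iff S Q α).mp hα.1
  have hgQ : g ∈ Q := by
    rw [hQS]
    exact hgS
  refine ⟨⟨g, hgQ⟩, ?_⟩
  apply MulEquiv.ext
  intro x
  apply Subtype.ext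
  rw [hg]
  rfl

/-! ### The non-centric case -/

theorem setup_noncentric (F : FusionSystem S) {Phat : Subgroup Ω}
    (hfn : F.IsFullyNormalized Phat)
    (hlarge : ∀ Q : Subgroup Ω, Q ≤ S → Nat.card Phat < Nat.card Q → Good p F Q)
    (hA : ∀ P, F.IsConj Phat P → A F Phat P) (hnc : ¬ F.IsCentric Phat) :
    Setup p F Phat (Inn Phat) := by
  have hPS : Phat ≤ S := hfn.1
  have hΘ3 : Nat.card Phat < Nat.card (Q0 S Phat (Inn Phat)) := by
    have hex : ∃ Q, F.IsConj Phat Q ∧ ¬ centralizerIn S Q ≤ Q := by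
      by_contra h
      apply hnc
      refine ⟨hPS, fun Q hQ => ?_⟩
      by_contra h2
      exact h ⟨Q, hQ, h2⟩
    obtain ⟨Q, hQ, hnle⟩ := hex
    obtain ⟨c, hc, hcQ⟩ := SetLike.not_le_iff_exists.mp hnle
    obtain ⟨ψ, hψ, hψN, hψP⟩ := hA Q hQ
    have hQS := isConj_le_right F hQ
    have h1 := map_centralizerIn_mem F hQS hψ hψP c hc
    have hcN := centralizerIn_le_normalizerIn S Q hc
    have h2 : ψ ⟨c, hcN⟩ ∉ Phat := by
      intro h3
      have h3' : ψ ⟨c, hcN⟩ ∈ img ψ Q := hψP.ge h3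
      exact hcQ ((mem_img_iff_of_injective (F.injective_of_mem hψ) _).mp h3')
    have h4 : ψ ⟨c, hcN⟩ ∈ Q0 S Phat (Inn Phat) := by
      refine ⟨h1.1, 1, Subgroup.one_mem _, fun x => ?_⟩
      have h5 := Subgroup.mem_centralizer_iff.mp h1.2 x x.2
      show (x : Ω) = ψ ⟨c, hcN⟩ * x * (ψ ⟨c, hcN⟩)⁻¹
      rw [← h5, mul_inv_cancel_right]
    haveI : Finite (Q0 S Phat (Inn Phat)) :=
      finite_of_le ((Q0_le_normalizerIn Phat (Inn Phat)).trans inf_le_left)
    exact card_lt_of_not_mem' (le_Q0 hPS le_rfl) h4 h2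
  exact
    { hfn := hfn
      hlarge := hlarge
      hA := hA
      hΘ1 := fun γ _ θ hθ => (inferInstance : (Inn Phat).Normal).conj_mem θ hθ γ
      hΘ2 := le_rfl
      hΘ3 := hΘ3
      hH := by
        intro Q hPQ hQN hcard φg hφg hsyl χ hχ
        obtain ⟨θ, ⟨u, rfl⟩, hθe⟩ := hχ.2
        refine ⟨φg (Subgroup.inclusion hPQ u), hom_mem F hφg _, fun x => ?_⟩
        have h1 : χ (Subgroup.inclusion hPQ x) =
            Subgroup.inclusion hPQ u * Subgroup.inclusion hPQ x * (Subgroup.inclusion hPQ u)⁻¹ :=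
          Subtype.ext (hθe x)
        rw [h1, map_mul, map_mul, map_inv] }

/-! ### The centric case -/

theorem setup_centric (hS : IsPGroup p S) (F : FusionSystem S)
    (hstar' : ∀ P : Subgroup Ω, F.IsCentric P → ¬ Good p F P → ∃ Q, F.IsConj P Q ∧
      ¬ (autInducedBy S Q ⊓ (pCore p ↥(F.autGroup Q)).map (F.autGroup Q).subtype ≤ Inn Q))
    {Phat : Subgroup Ω} (hfn : F.IsFullyNormalized Phat)
    (hlarge : ∀ Q : Subgroup Ω, Q ≤ S → Nat.card Phat < Nat.card Q → Good p F Q)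
    (hA : ∀ P, F.IsConj Phat P → A F Phat P) (hng : ¬ Good p F Phat)
    (hc : F.IsCentric Phat) :
    Setup p F Phat ((pCore p ↥(F.autGroup Phat)).map (F.autGroup Phat).subtype) := by
  have hPS : Phat ≤ S := hfn.1
  haveI : Finite Phat := finite_of_le hPS
  have hPp : IsPGroup p Phat := isPGroup_of_le hS hPS
  have hΘ1 : ∀ γ ∈ F.autGroup Phat,
      ∀ θ ∈ (pCore p ↥(F.autGroup Phat)).map (F.autGroup Phat).subtype,
      γ * θ * γ⁻¹ ∈ (pCore p ↥(F.autGroup Phat)).map (F.autGroup Phat).subtype := by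
    rintro γ hγ _ ⟨θ', hθ', rfl⟩
    exact ⟨⟨γ, hγ⟩ * θ' * ⟨γ, hγ⟩⁻¹, (pCore_normal' p _).conj_mem θ' hθ' ⟨γ, hγ⟩, rfl⟩
  have hInnΓ : Inn Phat ≤ F.autGroup Phat :=
    (inn_le_autInducedBy hPS).trans (autInducedBy_le_autGroup F hPS)
  have hΘ2 : Inn Phat ≤ (pCore p ↥(F.autGroup Phat)).map (F.autGroup Phat).subtype := by
    intro α hα
    have hInnp : IsPGroup p ↥(Inn Phat) :=
      hPp.of_surjective (MulAut.conj : Phat →* MulAut Phat).rangeRestrict
        (MonoidHom.rangeRestrict_surjective _)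
    have hp : IsPGroup p ↥((Inn Phat).subgroupOf (F.autGroup Phat)) := hInnp.comap_subtype
    have hn : ((Inn Phat).subgroupOf (F.autGroup Phat)).Normal := inferInstance
    have hle := le_pCore' hn hp
    exact ⟨⟨α, hInnΓ hα⟩, hle hα, rfl⟩
  have hΘ3 : Nat.card Phat <
      Nat.card (Q0 S Phat ((pCore p ↥(F.autGroup Phat)).map (F.autGroup Phat).subtype)) := by
    obtain ⟨Q, hQ, hnot⟩ := hstar' Phat hc hng
    obtain ⟨α, ⟨hαS, hαO⟩, hαInn⟩ := SetLike.not_le_iff_exists.mp hnot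
    obtain ⟨g, hgS, hg⟩ := (mem_autInducedBy_iff S Q α).mp hαS
    obtain ⟨ψ, hψ, hψN, hψP⟩ := hA Q hQ
    have hQS := isConj_le_right F hQ
    have hQN : Q ≤ normalizerIn S Q := self_le_normalizerIn' hQS
    have hμ := restrict_mem F hψ hQN
    have hμr : (ψ.comp (Subgroup.inclusion hQN)).range = Phat := by
      rw [range_restrict]
      exact hψP
    have hinj := F.injective_of_mem hμ
    obtain ⟨e, he⟩ : ∃ e : Q ≃* Phat,
        ∀ x : Q, ((e x : Phat) : Ω) = (ψ.comp (Subgroup.inclusion hQN)) x :=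
      ⟨equivOfRange _ hinj hμr, fun x => rfl⟩
    have he' : ∀ x : Q, ((e x : Phat) : Ω) = ψ (Subgroup.inclusion hQN x) := fun x => he x
    have hgN : g ∈ normalizerIn S Q := ⟨hgS, mem_normalizer_of_induces α hg⟩
    have hαhat : ∀ y : Phat, ((MulAut.congr e α y : Phat) : Ω) =
        ψ ⟨g, hgN⟩ * y * (ψ ⟨g, hgN⟩)⁻¹ := by
      intro y
      show ((e (α (e.symm y)) : Phat) : Ω) = _
      rw [he']
      have h1 : Subgroup.inclusion hQN (α (e.symm y)) =
          ⟨g, hgN⟩ * Subgroup.inclusion hQN (e.symm y) * ⟨g, hgN⟩⁻¹ :=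
        Subtype.ext (hg (e.symm y))
      rw [h1, map_mul, map_mul, map_inv, ← he', MulEquiv.apply_symm_apply]
    have hαhatΘ : MulAut.congr e α ∈
        (pCore p ↥(F.autGroup Phat)).map (F.autGroup Phat).subtype := by
      apply pCore_map_congr p (MulAut.congr e) _ hαO
      intro x
      constructor
      · exact congr_mem_autGroup' F hμ hμr e he
      · exact mem_autGroup_of_congr F hμ hμr e he
    have hgP : ψ ⟨g, hgN⟩ ∉ Phat := by
      intro hmem
      apply hαInn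
      refine ⟨e.symm ⟨ψ ⟨g, hgN⟩, hmem⟩, ?_⟩
      apply MulEquiv.ext
      intro x
      apply e.injective
      apply Subtype.ext
      have h1 := hαhat (e x)
      have h2 : MulAut.congr e α (e x) = e (α x) := by
        show e (α (e.symm (e x))) = e (α x)
        rw [MulEquiv.symm_apply_apply]
      rw [h2] at h1
      rw [h1]
      show ((e (e.symm ⟨ψ ⟨g, hgN⟩, hmem⟩ * x * (e.symm ⟨ψ ⟨g, hgN⟩, hmem⟩)⁻¹) : Phat) : Ω) = _
      rw [map_mul, map_mul, map_inv, MulEquiv.apply_symm_apply]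
      rfl
    have hmemQ0 : ψ ⟨g, hgN⟩ ∈
        Q0 S Phat ((pCore p ↥(F.autGroup Phat)).map (F.autGroup Phat).subtype) :=
      ⟨hom_mem F hψ _, MulAut.congr e α, hαhatΘ, hαhat⟩
    haveI : Finite (Q0 S Phat ((pCore p ↥(F.autGroup Phat)).map (F.autGroup Phat).subtype)) :=
      finite_of_le ((Q0_le_normalizerIn Phat _).trans inf_le_left)
    exact card_lt_of_not_mem' (le_Q0 hPS hΘ2) hmemQ0 hgP
  exact
    { hfn := hfn
      hlarge := hlarge
      hA := hA
      hΘ1 := hΘ1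
      hΘ2 := hΘ2
      hΘ3 := hΘ3
      hH := by
        intro Q hPQ hQN hcard φg hφg hsyl χ hχ
        have hQS : Q ≤ S := hom_le F hφg
        haveI : Finite Q := finite_of_le hQS
        have hpg : IsPGroup p ↥(F.autGroup Q ⊓
            LΘ hPQ ((pCore p ↥(F.autGroup Phat)).map (F.autGroup Phat).subtype)) := by
          rintro ⟨γ, hγΓ, θ, hθ, hθe⟩
          obtain ⟨θ', hθ', hθ'e⟩ := hθ
          obtain ⟨a, ha⟩ := (pCore_isPGroup' p ↥(F.autGroup Phat)) ⟨θ', hθ'⟩
          have h1 : θ' ^ p ^ a = 1 := by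
            have h2 := congrArg Subtype.val ha
            rwa [Subgroup.coe_pow, Subgroup.coe_one] at h2
          have hθpow : θ ^ p ^ a = 1 := by
            rw [← hθ'e, ← map_pow, h1, map_one]
          have hpow : ∀ n : ℕ, ∀ x : Phat,
              (((γ ^ n) (Subgroup.inclusion hPQ x) : Q) : Ω) = (θ ^ n) x := by
            intro n
            induction n with
            | zero =>
              intro x
              rfl
            | succ n ih =>
              intro x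
              rw [pow_succ', pow_succ', MulAut.mul_apply, MulAut.mul_apply]
              have h3 : (γ ^ n) (Subgroup.inclusion hPQ x) =
                  Subgroup.inclusion hPQ ((θ ^ n) x) := Subtype.ext (ih x)
              rw [h3]
              exact hθe _
          have hδ : ∀ x : Phat,
              (γ ^ p ^ a) (Subgroup.inclusion hPQ x) = Subgroup.inclusion hPQ x := by
            intro x
            apply Subtype.ext
            rw [hpow, hθpow]
            rfl
          have hone := pow_card_eq_one_of_fix hPQ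
            (fun g hg x hx => (Subgroup.mem_normalizer_iff.mp (hQN hg).2 x).mp hx)
            (fun z hz hzc => hc.2 Phat (isConj_refl F hPS)
              ⟨hQS hz, Subgroup.mem_centralizer_iff.mpr hzc⟩) (γ ^ p ^ a) hδ
          obtain ⟨b, hb⟩ := IsPGroup.iff_card.mp hPp
          refine ⟨a + b, ?_⟩
          apply Subtype.ext
          rw [Subgroup.coe_pow, Subgroup.coe_one]
          show γ ^ p ^ (a + b) = 1
          rw [pow_add, pow_mul, ← hb]
          exact hone
        obtain ⟨a₀, ha₀H, ha₀⟩ := hsyl.conj le_rfl hpg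
        have hχT : χ ∈ AS S φg ⊓
            LΘ hPQ ((pCore p ↥(F.autGroup Phat)).map (F.autGroup Phat).subtype) := by
          have h1 := ha₀ (a₀⁻¹ * χ * a₀)
            (Subgroup.mul_mem _ (Subgroup.mul_mem _ (Subgroup.inv_mem _ ha₀H) hχ) ha₀H)
          have e : a₀ * (a₀⁻¹ * χ * a₀) * a₀⁻¹ = χ := by group
          rwa [e] at h1
        obtain ⟨⟨s, hsS, hs⟩, -⟩ := hχT
        exact ⟨s, hsS, fun x => hs _⟩ }

/-! ### The theorem -/

theorem core (hS : IsPGroup p S) (F : FusionSystem S)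
    (hgen' : ∀ E : FusionSystem S, (∀ P, Good p F P → F.Hom P ⊆ E.Hom P) → F ≤ E)
    (hstar' : ∀ P : Subgroup Ω, F.IsCentric P → ¬ Good p F P → ∃ Q, F.IsConj P Q ∧
      ¬ (autInducedBy S Q ⊓ (pCore p ↥(F.autGroup Q)).map (F.autGroup Q).subtype ≤ Inn Q))
    {Phat : Subgroup Ω} (hfn : F.IsFullyNormalized Phat)
    (hlarge : ∀ Q : Subgroup Ω, Q ≤ S → Nat.card Phat < Nat.card Q → Good p F Q)
    (hng : ¬ Good p F Phat) : F.IsFullyAutomized p Phat ∧ F.IsReceptive Phat := by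
  have hPS := card_lt_S F hstar' hfn.1 hng
  have hA := claimA hS F hgen' hfn hlarge hng hPS
  by_cases hc : F.IsCentric Phat
  · have st := setup_centric hS F hstar' hfn hlarge hA hng hc
    have hall := extend_all hS F hgen' st hng hPS
    exact ⟨fullyAutomized_Phat hS F st hall, receptive_Phat hS F st hall⟩
  · have st := setup_noncentric (p := p) F hfn hlarge hA hc
    have hall := extend_all hS F hgen' st hng hPS
    exact ⟨fullyAutomized_Phat hS F st hall, receptive_Phat hS F st hall⟩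

/-- AKO Theorem I.3.10 -/
theorem saturated_of_generated (hS : IsPGroup p S) (F : FusionSystem S)
    (ℋ : Set (Subgroup Ω))
    (hsat : ∀ P ∈ ℋ, ∃ Q, F.IsConj P Q ∧ F.IsFullyAutomized p Q ∧ F.IsReceptive Q)
    (hgen : ∀ E : FusionSystem S, (∀ P ∈ ℋ, F.Hom P ⊆ E.Hom P) → F ≤ E)
    (hstar : ∀ P : Subgroup Ω, F.IsCentric P → P ∉ ℋ → ∃ Q, F.IsConj P Q ∧
      ¬ (autInducedBy S Q ⊓ (pCore p ↥(F.autGroup Q)).map (F.autGroup Q).subtype ≤ Inn Q)) :
    F.IsSaturated p := by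
  have hgen' : ∀ E : FusionSystem S, (∀ P, Good p F P → F.Hom P ⊆ E.Hom P) → F ≤ E :=
    fun E h => hgen E (fun P hP => h P (hsat P hP))
  have hstar' : ∀ P : Subgroup Ω, F.IsCentric P → ¬ Good p F P → ∃ Q, F.IsConj P Q ∧
      ¬ (autInducedBy S Q ⊓ (pCore p ↥(F.autGroup Q)).map (F.autGroup Q).subtype ≤ Inn Q) :=
    fun P hc hng => hstar P hc (fun hP => hng (hsat P hP))
  have key : ∀ k : ℕ, ∀ P : Subgroup Ω, P ≤ S → Nat.card S - Nat.card P = k → Good p F P := by
    intro k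
    induction k using Nat.strong_induction_on with
    | _ k ih =>
    intro P hP hk
    by_contra hng
    obtain ⟨Phat, hconj, hfn⟩ := exists_isConj_fullyNormalized F hP
    have hcard : Nat.card Phat = Nat.card P := card_eq_of_isConj F hconj
    have hng' : ¬ Good p F Phat := fun h => hng (Good.of_isConj (isConj_symm F hconj) h)
    have hlarge : ∀ Q : Subgroup Ω, Q ≤ S → Nat.card Phat < Nat.card Q → Good p F Q := by
      intro Q hQ hlt
      have hQc : Nat.card Q ≤ Nat.card S := Subgroup.card_le_of_le hQ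
      exact ih (Nat.card S - Nat.card Q) (by omega) Q hQ rfl
    obtain ⟨hfa, hrec⟩ := core hS F hgen' hstar' hfn hlarge hng'
    exact hng' ⟨Phat, isConj_refl F hfn.1, hfa, hrec⟩
  intro P hP
  exact key _ P hP rfl

end Cfsg.Agent.Lib.Helper2.Sat310
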