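import Cfsg.Agent.Lib.Helper2.PrimeIdx2
import Cfsg.Agent.Lib.Helper2.Sat310f
import Cfsg.Agent.Lib.Helper9.SubsystemExt2

set_option autoImplicit false

namespace Cfsg.Agent.Lib.Helper2.PPrime

open Cfsg Cfsg.FusionSystem Cfsg.Agent.Lib.Helper9 Cfsg.Agent.Lib.Helper2.StrongInv
  Cfsg.Agent.Lib.Helper2.PrimeIdx Cfsg.Agent.Lib.Helper2.KNorm

variable {Ω : Type*} [Group Ω] {S : Subgroup Ω}

/-- the intersection of a family of fusion systems over `S` containing `F` -/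
def interSys (F : FusionSystem S) (C : FusionSystem S → Prop) (hF : C F) : FusionSystem S where
  Hom P := {φ | ∀ D : FusionSystem S, C D → φ ∈ D.Hom P}
  le_of_mem := fun h => F.le_of_mem (h F hF)
  injective_of_mem := fun h => F.injective_of_mem (h F hF)
  conj_mem := fun hP hg D _ => D.conj_mem hP hg
  comp_mem := fun hφ hψ hm D hD => D.comp_mem (hφ D hD) (hψ D hD) hm
  inv_mem := by
    intro P φ hφ
    obtain ⟨ψ, hψ, hψe⟩ := F.inv_mem (hφ F hF)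
    refine ⟨ψ, fun D hD => ?_, hψe⟩
    obtain ⟨ψ', hψ', hψ'e⟩ := D.inv_mem (hφ D hD)
    have h1 : ψ' = ψ := by
      ext y
      obtain ⟨y, x, rfl⟩ := y
      exact (hψ'e x).trans (hψe x).symm
    rw [← h1]
    exact hψ'

theorem autGroup_mono' {E D : FusionSystem S} (h : E.IsSubsystemOf D) (Q : Subgroup Ω) :
    E.autGroup Q ≤ D.autGroup Q :=
  Subgroup.closure_mono (fun _ hα => h Q hα)

/-- Frattini factorization through a subgroup `H` of `Aut(S)` -/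
def FrH (H : Subgroup (MulAut S)) (E : FusionSystem S) (P : Subgroup Ω) (φ : P →* Ω) : Prop :=
  ∃ α ∈ H, ∃ φ₀ ∈ E.Hom P, ∀ (x : P) (hx : φ₀ x ∈ S), φ x = ((α ⟨φ₀ x, hx⟩ : S) : Ω)

/-- invariance under a subgroup `H` of `Aut(S)` -/
def InvH (H : Subgroup (MulAut S)) (E : FusionSystem S) : Prop :=
  ∀ (P P₂ : Subgroup Ω) (hPT : P ≤ S) (φ : P →* Ω), φ ∈ E.Hom P → ∀ α ∈ H,
    (∀ y : Ω, y ∈ P₂ ↔ ∃ (x : Ω) (hx : x ∈ P), ((α ⟨x, hPT hx⟩ : S) : Ω) = y) →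
    ∃ χ ∈ E.Hom P₂, ∀ (x : P) (h2 : ((α ⟨x, hPT x.2⟩ : S) : Ω) ∈ P₂) (hφx : φ x ∈ S),
      χ ⟨((α ⟨x, hPT x.2⟩ : S) : Ω), h2⟩ = ((α ⟨φ x, hφx⟩ : S) : Ω)

theorem invH_of_inv {F E : FusionSystem S} (h : Inv F E) {H : Subgroup (MulAut S)}
    (hH : H ≤ F.autGroup S) : InvH H E :=
  fun P P₂ hPT φ hφ α hα hP₂ => h P P₂ hPT φ hφ α (hH hα) hP₂

section FrHLemmas

variable {H : Subgroup (MulAut S)} {E : FusionSystem S}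

theorem FrH.comp (hInv : InvH H E) {P P' : Subgroup Ω} {φ : P →* Ω} {φ' : P' →* Ω}
    (h : FrH H E P φ) (h' : FrH H E P' φ') (hm : ∀ x : P, φ x ∈ P') :
    FrH H E P (φ'.comp (φ.codRestrict P' hm)) := by
  obtain ⟨α, hα, φ₀, hφ₀, he⟩ := h
  obtain ⟨α', hα', φ'₀, hφ'₀, he'⟩ := h'
  have hPT : P ≤ S := (E.le_of_mem hφ₀).1
  have hφ₀T : ∀ x, φ₀ x ∈ S := (E.le_of_mem hφ₀).2
  have hP'S : P' ≤ S := (E.le_of_mem hφ'₀).1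
  have hφ'₀T : ∀ y, φ'₀ y ∈ S := (E.le_of_mem hφ'₀).2
  obtain ⟨P₁, hP₁⟩ : ∃ P₁, φ₀.range = P₁ := ⟨_, rfl⟩
  obtain ⟨P'₁, hP'₁⟩ : ∃ P'₁, φ.range = P'₁ := ⟨_, rfl⟩
  have hP'₁P' : P'₁ ≤ P' := by
    rw [← hP'₁]
    rintro _ ⟨x, rfl⟩
    exact hm x
  have hP'₁T : P'₁ ≤ S := hP'₁P'.trans hP'S
  have hφ'₀r : φ'₀.comp (Subgroup.inclusion hP'₁P') ∈ E.Hom P'₁ := restrict_mem E hφ'₀ hP'₁P'
  have hαinv : ∀ (x : P) (h : φ x ∈ S), α⁻¹ ⟨φ x, h⟩ = ⟨φ₀ x, hφ₀T x⟩ := by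
    intro x h
    have e := he x (hφ₀T x)
    have e2 : (⟨φ x, h⟩ : S) = α ⟨φ₀ x, hφ₀T x⟩ := Subtype.ext e
    rw [e2, MulAut.inv_apply_self]
  have hφ₀P₁ : ∀ x : P, φ₀ x ∈ P₁ := fun x => hP₁.le ⟨x, rfl⟩
  have hcond : ∀ y : Ω, y ∈ P₁ ↔
      ∃ (z : Ω) (hz : z ∈ P'₁), ((α⁻¹ ⟨z, hP'₁T hz⟩ : S) : Ω) = y := by
    intro y
    constructor
    · intro hy
      obtain ⟨x, hx⟩ := hP₁.ge hy
      refine ⟨φ x, hP'₁.le ⟨x, rfl⟩, ?_⟩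
      rw [hαinv x _]
      exact hx
    · rintro ⟨z, hz, hzy⟩
      obtain ⟨x, hx⟩ := hP'₁.ge hz
      subst hx
      rw [hαinv x _] at hzy
      rw [← hzy]
      exact hφ₀P₁ x
  obtain ⟨χ, hχ, hχe⟩ := hInv P'₁ P₁ hP'₁T _ hφ'₀r α⁻¹ (H.inv_mem hα) hcond
  obtain ⟨φ₀'', hφ₀'', hφ₀''e⟩ := comp_hom E hφ₀ hχ hφ₀P₁
  refine ⟨α' * α, H.mul_mem hα' hα, φ₀'', hφ₀'', ?_⟩
  intro x hx
  show φ' ⟨φ x, hm x⟩ = _
  rw [he' ⟨φ x, hm x⟩ (hφ'₀T _), MulAut.mul_apply]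
  have hz : φ x ∈ P'₁ := hP'₁.le ⟨x, rfl⟩
  have h2 : ((α⁻¹ ⟨φ x, hP'₁T hz⟩ : S) : Ω) ∈ P₁ := by
    rw [hαinv x _]
    exact hφ₀P₁ x
  have e3 := hχe ⟨φ x, hz⟩ h2 (hφ'₀T _)
  have key : (⟨φ₀'' x, hx⟩ : S) = α⁻¹ ⟨φ'₀ ⟨φ x, hm x⟩, hφ'₀T _⟩ := by
    apply Subtype.ext
    show φ₀'' x = ((α⁻¹ ⟨φ'₀ ⟨φ x, hm x⟩, hφ'₀T _⟩ : S) : Ω)
    rw [hφ₀''e x]
    refine Eq.trans ?_ e3
    congr 1
    apply Subtype.ext
    show φ₀ x = ((α⁻¹ ⟨φ x, hP'₁T hz⟩ : S) : Ω)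
    rw [hαinv x _]
  rw [key, MulAut.apply_inv_self]

theorem FrH.inv (hInv : InvH H E) {P P' : Subgroup Ω} {φ : P →* Ω} {ψ : P' →* Ω}
    (h : FrH H E P φ) (hr : φ.range = P')
    (hψφ : ∀ (x : P) (hx : φ x ∈ P'), ψ ⟨φ x, hx⟩ = x) : FrH H E P' ψ := by
  obtain ⟨α, hα, φ₀, hφ₀, he⟩ := h
  have hPT : P ≤ S := (E.le_of_mem hφ₀).1
  have hφ₀T : ∀ x, φ₀ x ∈ S := (E.le_of_mem hφ₀).2
  obtain ⟨P₁, hP₁⟩ : ∃ P₁, φ₀.range = P₁ := ⟨_, rfl⟩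
  obtain ⟨θ₀, hθ₀, hθ₀φ₀, hθ₀r, -⟩ := inv_hom E hφ₀ hP₁
  have hP₁T : P₁ ≤ S := (E.le_of_mem hθ₀).1
  have hcond : ∀ y : Ω, y ∈ P' ↔
      ∃ (z : Ω) (hz : z ∈ P₁), ((α ⟨z, hP₁T hz⟩ : S) : Ω) = y := by
    intro y
    constructor
    · intro hy
      obtain ⟨x, hx⟩ := hr.ge hy
      refine ⟨φ₀ x, hP₁.le ⟨x, rfl⟩, ?_⟩
      rw [← hx]
      exact (he x (hφ₀T x)).symm
    · rintro ⟨z, hz, hzy⟩
      obtain ⟨x, hx⟩ := hP₁.ge hz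
      subst hx
      rw [← hzy, ← he x (hφ₀T x)]
      exact hr.le ⟨x, rfl⟩
  obtain ⟨χ, hχ, hχe⟩ := hInv P₁ P' hP₁T θ₀ hθ₀ α hα hcond
  refine ⟨α⁻¹, H.inv_mem hα, χ, hχ, ?_⟩
  intro y hy
  obtain ⟨x, hx⟩ := hr.ge y.2
  have hxy : y = ⟨φ x, hr.le ⟨x, rfl⟩⟩ := Subtype.ext hx.symm
  subst hxy
  rw [hψφ x]
  have e := he x (hφ₀T x)
  have h2 : ((α ⟨φ₀ x, hφ₀T x⟩ : S) : Ω) ∈ P' := by
    rw [← e]
    exact hr.le ⟨x, rfl⟩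
  have hθz : θ₀ ⟨φ₀ x, hP₁.le ⟨x, rfl⟩⟩ ∈ S := by
    rw [hθ₀φ₀]
    exact hPT x.2
  have e3 := hχe ⟨φ₀ x, hP₁.le ⟨x, rfl⟩⟩ h2 hθz
  have key : (⟨χ ⟨φ x, hr.le ⟨x, rfl⟩⟩, hy⟩ : S) = α ⟨(x : Ω), hPT x.2⟩ := by
    apply Subtype.ext
    show χ ⟨φ x, _⟩ = ((α ⟨(x : Ω), hPT x.2⟩ : S) : Ω)
    have e4 : χ ⟨φ x, hr.le ⟨x, rfl⟩⟩ = χ ⟨((α ⟨φ₀ x, hφ₀T x⟩ : S) : Ω), h2⟩ := by
      congr 1
      exact Subtype.ext e
    rw [e4, e3]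
    have e5 : (⟨θ₀ ⟨φ₀ x, hP₁.le ⟨x, rfl⟩⟩, hθz⟩ : S) = ⟨(x : Ω), hPT x.2⟩ :=
      Subtype.ext (hθ₀φ₀ x _)
    rw [e5]
  rw [key, MulAut.inv_apply_self]

theorem FrH.le {P : Subgroup Ω} {φ : P →* Ω} (h : FrH H E P φ) :
    P ≤ S ∧ ∀ x : P, φ x ∈ S := by
  obtain ⟨α, -, φ₀, hφ₀, he⟩ := h
  refine ⟨(E.le_of_mem hφ₀).1, fun x => ?_⟩
  rw [he x ((E.le_of_mem hφ₀).2 x)]
  exact (α _).2

theorem FrH.injective {P : Subgroup Ω} {φ : P →* Ω} (h : FrH H E P φ) :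
    Function.Injective φ := by
  obtain ⟨α, -, φ₀, hφ₀, he⟩ := h
  intro x y hxy
  have hS := (E.le_of_mem hφ₀).2
  rw [he x (hS x), he y (hS y)] at hxy
  have h1 := α.injective (Subtype.ext hxy)
  exact E.injective_of_mem hφ₀ (congrArg Subtype.val h1)

theorem frH_mem (D : FusionSystem S) (hE : E.IsSubsystemOf D) (hH : H ≤ D.autGroup S)
    {P : Subgroup Ω} {φ : P →* Ω} (h : FrH H E P φ) : φ ∈ D.Hom P := by
  obtain ⟨α, hα, φ₀, hφ₀, he⟩ := h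
  have hαD := hom_of_mem_autGroup D le_rfl (hH hα)
  have hS : ∀ x : P, φ₀ x ∈ S := (E.le_of_mem hφ₀).2
  obtain ⟨χ, hχ, hχe⟩ := comp_hom D (hE P hφ₀) hαD hS
  have h1 : χ = φ := by
    ext x
    rw [hχe, he x (hS x)]
    rfl
  rw [← h1]
  exact hχ

end FrHLemmas

/-- the fusion system generated by `E` and a subgroup `H` of `Aut(S)` normalizing `E` -/
def sysH (H : Subgroup (MulAut S)) (E : FusionSystem S) (hInv : InvH H E) : FusionSystem S where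
  Hom P := {φ | FrH H E P φ}
  le_of_mem := fun h => FrH.le h
  injective_of_mem := fun h => FrH.injective h
  conj_mem := fun hP hg => ⟨1, H.one_mem, _, E.conj_mem hP hg, fun _ _ => rfl⟩
  comp_mem := fun hφ hψ hm => FrH.comp hInv hφ hψ hm
  inv_mem := by
    intro P φ hφ
    have hinj : Function.Injective φ := FrH.injective hφ
    have key : ∀ (x : P) (hx : φ x ∈ φ.range),
        (P.subtype.comp (equivOfRange φ hinj rfl).symm.toMonoidHom) ⟨φ x, hx⟩ = (x : Ω) := by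
      intro x hx
      have e : (⟨φ x, hx⟩ : φ.range) = equivOfRange φ hinj rfl x := Subtype.ext rfl
      show (((equivOfRange φ hinj rfl).symm ⟨φ x, hx⟩ : P) : Ω) = x
      rw [e, MulEquiv.symm_apply_apply]
    exact ⟨P.subtype.comp (equivOfRange φ hinj rfl).symm.toMonoidHom,
      FrH.inv hInv hφ rfl key, fun x => key x ⟨x, rfl⟩⟩

theorem mem_sysH {H : Subgroup (MulAut S)} {E : FusionSystem S} {hInv : InvH H E}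
    {P : Subgroup Ω} {φ : P →* Ω} : φ ∈ (sysH H E hInv).Hom P ↔ FrH H E P φ := Iff.rfl

/-! ### The subsystem generated by the `O^{p'}(Aut_F(P))` -/

/-- the smallest fusion system over `S` containing `O^{p'}(Aut_F(Q))` for all `F`-centric `Q` -/
def E0 (F : FusionSystem S) (p : ℕ) : FusionSystem S :=
  interSys F (fun D => ∀ Q : Subgroup Ω, F.IsCentric Q → OppM F p Q ≤ D.autGroup Q)
    (fun Q _ => oppM_le_autGroup F p Q)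

theorem E0_le {F : FusionSystem S} {p : ℕ} (D : FusionSystem S)
    (hD : ∀ Q : Subgroup Ω, F.IsCentric Q → OppM F p Q ≤ D.autGroup Q) :
    (E0 F p).IsSubsystemOf D := fun _ _ hφ => hφ D hD

theorem E0_le_F (F : FusionSystem S) (p : ℕ) : (E0 F p).IsSubsystemOf F :=
  E0_le F (fun Q _ => oppM_le_autGroup F p Q)

theorem oppM_le_E0 {F : FusionSystem S} {p : ℕ} {Q : Subgroup Ω} (hQ : F.IsCentric Q) :
    OppM F p Q ≤ (E0 F p).autGroup Q := by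
  intro α hα
  rw [mem_autGroup_iff _ hQ.1]
  intro D hD
  exact hom_of_mem_autGroup D hQ.1 (hD Q hQ hα)

theorem E0_inv (F : FusionSystem S) (p : ℕ) : Inv F (E0 F p) := by
  have h1 : (E0 F p).IsSubsystemOf (invSub F (E0 F p)) :=
    E0_le _ (fun Q hQ => oppM_le_invSub F (E0 F p) (fun P hP => oppM_le_E0 hP) hQ)
  have h2 := invSub_inv F (E0 F p)
  intro P P₂ hPT φ hφ α hα hP₂
  obtain ⟨χ, hχ, hχe⟩ := h2 P P₂ hPT φ (h1 P hφ) α hα hP₂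
  exact ⟨χ, invSub_le F _ P₂ hχ, hχe⟩

end Cfsg.Agent.Lib.Helper2.PPrime
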