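import Cfsg.Agent.Lib.Helper2.PPrime1

set_option autoImplicit false

namespace Cfsg.Agent.Lib.Helper2.PPrime

open Cfsg Cfsg.FusionSystem Cfsg.Agent.Lib.Helper9 Cfsg.Agent.Lib.Helper2.StrongInv
  Cfsg.Agent.Lib.Helper2.PrimeIdx Cfsg.Agent.Lib.Helper2.KNorm

variable {Ω : Type*} [Group Ω] {S : Subgroup Ω}

/-- `Aut^0_F(S)`: generated by the automorphisms of `S` in `F` whose restriction to some
`F`-centric subgroup is a map of `E0` -/
def A0 (F : FusionSystem S) (p : ℕ) : Subgroup (MulAut S) :=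
  Subgroup.closure {α | α ∈ F.autGroup S ∧ ∃ (P : Subgroup Ω) (hP : F.IsCentric P),
    resAut α hP.1 ∈ (E0 F p).Hom P}

theorem A0_le (F : FusionSystem S) (p : ℕ) : A0 F p ≤ F.autGroup S := by
  unfold A0
  rw [Subgroup.closure_le]
  rintro α ⟨hα, -⟩
  exact hα

theorem mem_A0 {F : FusionSystem S} {p : ℕ} {α : MulAut S} (hα : α ∈ F.autGroup S)
    {P : Subgroup Ω} (hP : F.IsCentric P) (h : resAut α hP.1 ∈ (E0 F p).Hom P) :
    α ∈ A0 F p :=
  Subgroup.subset_closure ⟨hα, P, hP, h⟩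

theorem E0_invH (F : FusionSystem S) (p : ℕ) : InvH (A0 F p) (E0 F p) :=
  invH_of_inv (E0_inv F p) (A0_le F p)

/-- the candidate for `O^{p'}(F)` -/
def Opp (F : FusionSystem S) (p : ℕ) : FusionSystem S :=
  sysH (A0 F p) (E0 F p) (E0_invH F p)

theorem mem_Opp {F : FusionSystem S} {p : ℕ} {P : Subgroup Ω} {φ : P →* Ω} :
    φ ∈ (Opp F p).Hom P ↔ FrH (A0 F p) (E0 F p) P φ := Iff.rfl

theorem E0_le_Opp (F : FusionSystem S) (p : ℕ) : (E0 F p).IsSubsystemOf (Opp F p) :=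
  fun _ φ hφ => ⟨1, Subgroup.one_mem _, φ, hφ, fun _ _ => rfl⟩

theorem Opp_le_F (F : FusionSystem S) (p : ℕ) : (Opp F p).IsSubsystemOf F :=
  fun _ _ hφ => frH_mem (H := A0 F p) (E := E0 F p) F (E0_le_F F p) (A0_le F p) hφ

theorem oppM_le_Opp_centric (F : FusionSystem S) (p : ℕ) {P : Subgroup Ω}
    (hP : F.IsCentric P) : OppM F p P ≤ (Opp F p).autGroup P :=
  (oppM_le_E0 hP).trans (autGroup_mono' (E0_le_Opp F p) P)

section Main

variable [Finite S] {p : ℕ} [Fact p.Prime]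

theorem fr_E0 (hS : IsPGroup p S) (F : FusionSystem S) (hF : F.IsSaturated p)
    (P : Subgroup Ω) (φ : P →* Ω) (hφ : φ ∈ F.Hom P) : Fr F (E0 F p) P φ :=
  Fr.mono (invSub_le F (E0 F p))
    (frattini_main hS hF (E0 F p) (fun _ hP => oppM_le_E0 hP) P φ hφ)

theorem fr_Opp (hS : IsPGroup p S) (F : FusionSystem S) (hF : F.IsSaturated p)
    (P : Subgroup Ω) (φ : P →* Ω) (hφ : φ ∈ F.Hom P) : Fr F (Opp F p) P φ :=
  Fr.mono (E0_le_Opp F p) (fr_E0 hS F hF P φ hφ)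

theorem Opp_centric_iff (hS : IsPGroup p S) (F : FusionSystem S) (hF : F.IsSaturated p)
    (P : Subgroup Ω) : (Opp F p).IsCentric P ↔ F.IsCentric P :=
  centric_iff (Opp F p) (Opp_le_F F p) (fr_Opp hS F hF) P

theorem Opp_index (hS : IsPGroup p S) (F : FusionSystem S) (hF : F.IsSaturated p) :
    (Opp F p).HasPrimeToPIndexIn F p := by
  refine ⟨Opp_le_F F p, fun P hPS => ?_⟩
  rw [map_closure_eq_oppM]
  exact oppM_le_all hS hF (Opp F p) (Opp_le_F F p)
    (fun _ hP => oppM_le_Opp_centric F p hP) (fr_Opp hS F hF) hPS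

theorem Opp_minimal (hS : IsPGroup p S) (F : FusionSystem S) (hF : F.IsSaturated p)
    (D : FusionSystem S) (hD : D.IsSaturated p) (hDi : D.HasPrimeToPIndexIn F p) :
    (Opp F p).IsSubsystemOf D := by
  obtain ⟨hDF, hDO⟩ := hDi
  have h1 : (E0 F p).IsSubsystemOf D := by
    apply E0_le
    intro Q hQ
    rw [← map_closure_eq_oppM]
    exact hDO Q hQ.1
  have h2 : A0 F p ≤ D.autGroup S := by
    unfold A0
    rw [Subgroup.closure_le]
    rintro α ⟨hα, P, hP, hres⟩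
    show α ∈ D.autGroup S
    rw [mem_autGroup_iff D le_rfl]
    exact hom_mem_of_restrict_mem hS F hF D hD hDF _ S P hP.1 hP rfl _
      (hom_of_mem_autGroup F le_rfl hα) (h1 P hres)
  intro P φ hφ
  exact frH_mem (H := A0 F p) (E := E0 F p) D h1 h2 hφ

theorem Opp_saturated (hS : IsPGroup p S) (F : FusionSystem S) (hF : F.IsSaturated p) :
    (Opp F p).IsSaturated p := by
  have hE₀F : (E0 F p).IsSubsystemOf F := E0_le_F F p
  have hFr₀ := fr_E0 hS F hF
  have hE₀E : (E0 F p).IsSubsystemOf (Opp F p) := E0_le_Opp F p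
  have hEF : (Opp F p).IsSubsystemOf F := Opp_le_F F p
  have hcen := Opp_centric_iff hS F hF
  apply Cfsg.Agent.Lib.Helper2.Sat310.saturated_of_generated hS (Opp F p) {P | F.IsCentric P}
  · -- every centric class has a fully automized receptive member
    intro P hP
    have hP' : F.IsCentric P := hP
    have hPS : P ≤ S := hP'.1
    obtain ⟨P₁, ⟨ρ, hρ, hρr⟩, hP₁n⟩ := exists_isConj_fullyNormalized F hPS
    obtain ⟨α, hα, φ₀, hφ₀, he⟩ := hFr₀ P ρ hρ
    have hφ₀S : ∀ x : P, φ₀ x ∈ S := ((E0 F p).le_of_mem hφ₀).2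
    obtain ⟨Q, hQdef⟩ : ∃ Q, φ₀.range = Q := ⟨_, rfl⟩
    have hQS : Q ≤ S := hQdef ▸ range_le (E0 F p) hφ₀
    have hImg : IsImg α Q P₁ := by
      intro y
      constructor
      · intro hy
        obtain ⟨x, hx⟩ := hρr.ge hy
        refine ⟨φ₀ x, hQdef.le ⟨x, rfl⟩, hφ₀S x, ?_⟩
        rw [← hx]
        exact (he x (hφ₀S x)).symm
      · rintro ⟨z, hz, hzS, rfl⟩
        obtain ⟨x, rfl⟩ := hQdef.ge hz
        rw [← hρr]
        exact ⟨x, he x hzS⟩
    have hQn : F.IsFullyNormalized Q := fullyNormalized_of_isImg F hα hQS hImg hP₁n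
    have hconjE : (Opp F p).IsConj P Q := ⟨φ₀, hE₀E P hφ₀, hQdef⟩
    have hconjF : F.IsConj P Q := ⟨φ₀, hE₀F P hφ₀, hQdef⟩
    have hQc : F.IsCentric Q := isCentric_of_isConj F hP' hconjF
    have hfaF := fullyAutomized_of_fullyNormalized hS F hF hQn
    have hfcF := fullyCentralized_of_fullyNormalized hS F hF hQn
    have hrecF := receptive_of_fullyCentralized hS F hF hfcF
    refine ⟨Q, hconjE, ⟨hQS, ?_⟩, ⟨hQS, ?_⟩⟩
    · -- fully automized
      haveI : Finite Q := finite_of_le hQS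
      obtain ⟨-, R, hR⟩ := hfaF
      have hsylF : IsSyl p (autInducedBy S Q) (F.autGroup Q) :=
        ⟨autInducedBy_le_autGroup F hQS, R, hR⟩
      have hle : (Opp F p).autGroup Q ≤ F.autGroup Q := autGroup_mono' hEF Q
      exact (hsylF.mono_right (autInducedBy_le_autGroup (Opp F p) hQS) hle).2
    · -- receptive
      intro R φ hφ hφr
      have hφF : φ ∈ F.Hom R := hEF R hφ
      have hRS : R ≤ S := hom_le F hφF
      obtain ⟨ψ, hψ, hψe⟩ := hrecF.2 R φ hφF hφr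
      refine ⟨ψ, ?_, hψe⟩
      have hRN : R ≤ extender S R φ := le_extender hRS φ (hom_mem F hφF)
      obtain ⟨β, hβ, ψ₀, hψ₀, hψβ⟩ := hFr₀ _ ψ hψ
      obtain ⟨α', hα', φ₀', hφ₀', hφe⟩ := hφ
      have hψ₀S : ∀ y, ψ₀ y ∈ S := ((E0 F p).le_of_mem hψ₀).2
      have hφ₀'S : ∀ x, φ₀' x ∈ S := ((E0 F p).le_of_mem hφ₀').2
      have hψ₀R : ψ₀.comp (Subgroup.inclusion hRN) ∈ (E0 F p).Hom R :=
        restrict_mem (E0 F p) hψ₀ hRN
      obtain ⟨R', hR'def⟩ : ∃ R', (ψ₀.comp (Subgroup.inclusion hRN)).range = R' := ⟨_, rfl⟩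
      have hRc : F.IsCentric R := isCentric_of_isConj F hQc (isConj_symm F ⟨φ, hφF, hφr⟩)
      have hR'c : F.IsCentric R' := isCentric_of_isConj F hRc ⟨_, hE₀F R hψ₀R, hR'def⟩
      obtain ⟨θ, hθ, hθe, hθr, -⟩ := inv_hom (E0 F p) hψ₀R hR'def
      have hθR : ∀ y : R', θ y ∈ R := fun y => hθr.le ⟨y, rfl⟩
      obtain ⟨χ, hχ, hχe⟩ := comp_hom (E0 F p) hθ hφ₀' hθR
      have hα'F : α' ∈ F.autGroup S := A0_le F p hα'
      have e3 : ∀ x : R, β ⟨ψ₀ (Subgroup.inclusion hRN x), hψ₀S _⟩ = α' ⟨φ₀' x, hφ₀'S x⟩ := by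
        intro x
        apply Subtype.ext
        rw [← hψβ (Subgroup.inclusion hRN x) (hψ₀S _), ← hφe x (hφ₀'S x)]
        exact hψe x x.2 (hRN x.2)
      have hmem : α'⁻¹ * β ∈ A0 F p := by
        apply mem_A0 (mul_mem (inv_mem hα'F) hβ) hR'c
        have h1 : resAut (α'⁻¹ * β) hR'c.1 = χ := by
          ext y
          obtain ⟨x, hx⟩ := hR'def.ge y.2
          have hy : y = ⟨(ψ₀.comp (Subgroup.inclusion hRN)) x, hR'def.le ⟨x, rfl⟩⟩ :=
            Subtype.ext hx.symm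
          subst hy
          have e4 : χ ⟨(ψ₀.comp (Subgroup.inclusion hRN)) x, hR'def.le ⟨x, rfl⟩⟩ = φ₀' x :=
            (hχe ⟨(ψ₀.comp (Subgroup.inclusion hRN)) x, hR'def.le ⟨x, rfl⟩⟩).trans
              (congrArg φ₀' (Subtype.ext (hθe x _)))
          rw [e4, resAut_apply]
          show (((α'⁻¹ * β) ⟨ψ₀ (Subgroup.inclusion hRN x), hψ₀S _⟩ : S) : Ω) = φ₀' x
          rw [MulAut.mul_apply, e3 x, MulAut.inv_apply_self]
        rw [h1]
        exact hχ
      have hβA : β ∈ A0 F p := by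
        have h := mul_mem hα' hmem
        rwa [mul_inv_cancel_left] at h
      exact ⟨β, hβA, ψ₀, hψ₀, hψβ⟩
  · -- generation by maps between centric subgroups
    intro E' hE'
    have h1 : (E0 F p).IsSubsystemOf E' := by
      apply E0_le
      intro Q hQ α hα
      rw [mem_autGroup_iff E' hQ.1]
      apply hE' Q hQ
      apply hE₀E Q
      exact hom_of_mem_autGroup (E0 F p) hQ.1 (oppM_le_E0 hQ hα)
    have h2 : A0 F p ≤ E'.autGroup S := by
      intro α hα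
      rw [mem_autGroup_iff E' le_rfl]
      apply hE' S (centric_top F)
      exact ⟨α, hα, S.subtype, subtype_mem (E0 F p) le_rfl, fun x hx => rfl⟩
    show ∀ P : Subgroup Ω, (Opp F p).Hom P ⊆ E'.Hom P
    intro P φ hφ
    exact frH_mem (H := A0 F p) (E := E0 F p) E' h1 h2 hφ
  · intro P hc hn
    exact absurd ((hcen P).mp hc) hn

end Main

end Cfsg.Agent.Lib.Helper2.PPrime
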