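import Mathlib
import Cfsg.Agent.Lib.Helper2.GLkDefs
import Cfsg.Agent.Lib.Helper7.GLkCount

/-!
# Number of conjugacy classes of `SL_n(q)`: definitions (S2479)

`q^(n-1) < k(SL_n(q)) ≤ (5/2) q^(n-1)`, and `k(SL_n(q)) ≤ q^(n-1) + 3 q^(n-2)` for `n ≥ 3`.
The `GL_n`-class with data `f = (f_1, f_2, …)` (see `GLkDefs`) meets `SL_n` iff `ddet f = 1`, and then
splits into at most `gcd (gsz f) (q-1)` classes of `SL_n`, where `gsz f` is the gcd of the block sizes.
-/

set_option autoImplicit false
set_option linter.unusedVariables false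
set_option linter.unusedSectionVars false
set_option linter.style.longLine false

namespace Cfsg.Agent.Lib.Helper2.GLk

open Polynomial

universe u v

variable {F : Type u} [Field F]

/-- `F[X]/(f)` as an `F[X]`-module (and `F`-vector space) -/
abbrev Qm (f : F[X]) : Type u := F[X] ⧸ Submodule.span F[X] {f}

/-- multiplication by `h : F[X]` on an `F[X]`-module, as an `F`-linear endomorphism -/
noncomputable def smulEnd (M : Type v) [AddCommGroup M] [Module F M] [Module F[X] M]
    [IsScalarTower F F[X] M] (h : F[X]) : Module.End F M := Algebra.lsmul F F M h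

theorem smulEnd_apply (M : Type v) [AddCommGroup M] [Module F M] [Module F[X] M]
    [IsScalarTower F F[X] M] (h : F[X]) (x : M) : smulEnd M h x = h • x := rfl

/-- multiplication by `h` on `F[X]/(f)`, as an `F`-linear endomorphism -/
noncomputable def mulBy (f h : F[X]) : Module.End F (Qm f) := smulEnd (Qm f) h

theorem mulBy_apply (f h : F[X]) (x : Qm f) : mulBy f h x = h • x := rfl

open Classical in
/-- the gcd of the block sizes `j + 1` (those `j` with `f j ≠ 1`) -/
noncomputable def gsz {n : ℕ} (f : Fin n → F[X]) : ℕ :=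
  (Finset.univ.filter (fun j : Fin n => f j ≠ 1)).gcd (fun j => j.val + 1)

theorem dvd_gsz_iff {n : ℕ} (f : Fin n → F[X]) (r : ℕ) :
    r ∣ gsz f ↔ ∀ j : Fin n, f j ≠ 1 → r ∣ j.val + 1 := by
  classical
  unfold gsz
  rw [Finset.dvd_gcd_iff]
  constructor
  · intro h j hj
    exact h j (by simp [hj])
  · intro h j hj
    exact h j (by simpa using hj)

/-- the splitting bound -/
noncomputable def Gam (q : ℕ) {n : ℕ} (f : Fin n → F[X]) : ℕ := Nat.gcd (gsz f) (q - 1)

/-- the determinant of a matrix with data `f` -/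
noncomputable def ddet {n : ℕ} (f : Fin n → F[X]) : F :=
  ∏ j : Fin n, ((-1) ^ (f j).natDegree * (f j).coeff 0) ^ (j.val + 1)

/-- `T F n n` as a finset -/
noncomputable def TF (F : Type u) [Field F] [Fintype F] (n : ℕ) : Finset (Fin n → F[X]) :=
  (T_finite (F := F) n n).toFinset

theorem mem_TF [Fintype F] {n : ℕ} (f : Fin n → F[X]) : f ∈ TF F n ↔ f ∈ T F n n := by
  unfold TF
  exact Set.Finite.mem_toFinset _

open Classical in
/-- the torus action: multiply the constant term of `f j` by `c j` (when `f j ≠ 1`) -/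
noncomputable def tw {n : ℕ} (c : Fin n → Fˣ) (f : Fin n → F[X]) : Fin n → F[X] :=
  fun j => if f j = 1 then 1 else f j + C (((c j : F) - 1) * (f j).coeff 0)

end Cfsg.Agent.Lib.Helper2.GLk
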