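import Mathlib
import Cfsg.Agent.Lib.Helper2.SLkDefs

/-!
# Number of conjugacy classes of `PSL_n(q)`: definitions (S2480)

`q^(n-1) ≤ d k(PSL_n(q)) ≤ q^(n-1) + 5 q^(n-2)`, `d = gcd(n, q-1)`.  Burnside over the centre `Z` of
`SL_n(q)`: `d k(PSL) = ∑_{z ∈ Z} #{classes C of SL with z C = C}`.  A class fixed by `z = ζ I` has
primary-decomposition data invariant under root scaling by `ζ` (uniqueness of the decomposition, via the
kernel dimensions `kd`), hence data in `F[X^t]`, `t` the order of `ζ`.
-/

set_option autoImplicit false
set_option linter.unusedVariables false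
set_option linter.unusedSectionVars false
set_option linter.style.longLine false

namespace Cfsg.Agent.Lib.Helper2.GLk

open Polynomial

universe u v

variable {F : Type u} [Field F]

/-- root scaling: for monic `g`, the monic polynomial whose roots are `ζ` times the roots of `g` -/
noncomputable def scl (ζ : Fˣ) (g : F[X]) : F[X] :=
  C ((ζ : F) ^ g.natDegree) * g.comp (C ((ζ⁻¹ : Fˣ) : F) * X)

/-- the kernel dimension of multiplication by `g` on an `F[X]`-module -/
noncomputable def kd (M : Type v) [AddCommGroup M] [Module F M] [Module F[X] M]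
    [IsScalarTower F F[X] M] (g : F[X]) : ℕ :=
  Module.finrank F (LinearMap.ker (smulEnd M g))

/-- the class `C` is stable under multiplication by `z` -/
def FixedClass {G : Type v} [Group G] (z : G) (C : ConjClasses G) : Prop :=
  ∃ x : G, ConjClasses.mk x = C ∧ ConjClasses.mk (z * x) = C

/-- contraction of invariant data: `f j = expand t (ctr t n' f j)` -/
noncomputable def ctr (t : ℕ) {n : ℕ} (n' : ℕ) (f : Fin n → F[X]) : Fin n' → F[X] :=
  fun j' => if h : j'.val < n then contract t (f ⟨j'.val, h⟩) else 1

end Cfsg.Agent.Lib.Helper2.GLk
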