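import Mathlib
import Cfsg.Agent.Lib.Helper2.SLkDefs

set_option autoImplicit false
set_option linter.unusedVariables false
set_option linter.unusedSectionVars false
set_option linter.style.longLine false
set_option linter.style.haveILetI false

namespace Cfsg.Agent.Lib.Helper2.GLk

open Polynomial

universe u v

variable {F : Type u} [Field F]

/-- G3 -/
theorem index_le_gcd [Fintype F] {ι : Type*} (Δ : Subgroup Fˣ) (s : Finset ι) (w : ι → ℕ)
    (h : ∀ j ∈ s, ∀ a : Fˣ, a ^ w j ∈ Δ) :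
    Δ.index ≤ Nat.gcd (s.gcd w) (Fintype.card F - 1) := by
  classical
  have key : ∀ a : Fˣ, a ^ (s.gcd w) ∈ Δ := by
    induction s using Finset.induction_on with
    | empty => intro a; simp
    | insert j s hj ih =>
      intro a
      rw [Finset.gcd_insert]
      have h1 : ∀ a : Fˣ, a ^ w j ∈ Δ := h j (Finset.mem_insert_self _ _)
      have h2 : ∀ a : Fˣ, a ^ s.gcd w ∈ Δ := ih (fun j' hj' => h j' (Finset.mem_insert_of_mem hj'))
      have hb := Nat.gcd_eq_gcd_ab (w j) (s.gcd w)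
      have hz : a ^ ((Nat.gcd (w j) (s.gcd w) : ℕ) : ℤ) =
          (a ^ w j) ^ (Nat.gcdA (w j) (s.gcd w)) * (a ^ s.gcd w) ^ (Nat.gcdB (w j) (s.gcd w)) := by
        rw [hb, zpow_add, zpow_mul, zpow_mul, zpow_natCast, zpow_natCast]
      show a ^ (Nat.gcd (w j) (s.gcd w)) ∈ Δ
      rw [← zpow_natCast, hz]
      exact Δ.mul_mem (Δ.zpow_mem (h1 a) _) (Δ.zpow_mem (h2 a) _)
  have hle : (powMonoidHom (s.gcd w) : Fˣ →* Fˣ).range ≤ Δ := by
    rintro _ ⟨a, rfl⟩
    exact key a
  have h3 := Subgroup.index_antitone hle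
  rw [IsCyclic.index_powMonoidHom_range] at h3
  have hc : Nat.card Fˣ = Fintype.card F - 1 := by
    rw [Nat.card_eq_fintype_card, Fintype.card_units]
  rw [hc] at h3
  rw [Nat.gcd_comm]
  exact h3

end Cfsg.Agent.Lib.Helper2.GLk
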