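import Mathlib
import Cfsg.Agent.Lib.Helper2.SLkDefs
import Cfsg.Agent.Lib.Helper9.SLkTw
import Cfsg.Agent.Lib.Helper5.SLkTorus

set_option autoImplicit false
set_option linter.unusedVariables false
set_option linter.unusedSectionVars false
set_option linter.style.longLine false
set_option linter.style.haveILetI false

namespace Cfsg.Agent.Lib.Helper2.GLk

open Polynomial

universe u v

variable {F : Type u} [Field F]

open Classical in
/-- C4b, general right-hand side `b` -/
theorem sum_Gam_le_gen [Fintype F] (n : ℕ) (b : F) :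
    (Fintype.card F - 1) * ∑ f ∈ (TF F n).filter (fun f => ddet f = b), Gam (Fintype.card F) f ≤
      ∑ f ∈ TF F n, (Gam (Fintype.card F) f) ^ 2 := by
  set q := Fintype.card F with hq
  have hq2 : 2 ≤ q := Fintype.one_lt_card
  set N1 := ∑ f ∈ (TF F n).filter (fun f => ddet f = b), Gam q f with hN1
  have hcardG : Fintype.card (Fin n → Fˣ) = (q - 1) ^ n := by
    rw [Fintype.card_fun, Fintype.card_units, Fintype.card_fin]
  have hGpos : 0 < (q - 1) ^ n := Nat.pos_of_ne_zero (pow_ne_zero _ (by omega))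
  -- Step A
  have hA : ∀ c : Fin n → Fˣ,
      ∑ f ∈ (TF F n).filter (fun f => ddet (tw c f) = b), Gam q f = N1 := by
    intro c
    rw [hN1]
    refine Finset.sum_nbij' (tw c) (tw c⁻¹) ?_ ?_ ?_ ?_ ?_
    · intro f hf
      rw [Finset.mem_filter, mem_TF] at hf ⊢
      exact ⟨tw_mem c f hf.1, hf.2⟩
    · intro f hf
      rw [Finset.mem_filter, mem_TF] at hf ⊢
      refine ⟨tw_mem c⁻¹ f hf.1, ?_⟩
      have := tw_inv c⁻¹ f hf.1
      rw [inv_inv] at this
      rw [this]
      exact hf.2
    · intro f hf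
      rw [Finset.mem_filter, mem_TF] at hf
      exact tw_inv c f hf.1
    · intro f hf
      rw [Finset.mem_filter, mem_TF] at hf
      have := tw_inv c⁻¹ f hf.1
      rw [inv_inv] at this
      exact this
    · intro f hf
      rw [Finset.mem_filter, mem_TF] at hf
      unfold Gam
      rw [gsz_tw c f hf.1]
  -- Step B
  have hB : (q - 1) ^ n * N1 = ∑ f ∈ TF F n,
      ((Finset.univ : Finset (Fin n → Fˣ)).filter (fun c => ddet (tw c f) = b)).card * Gam q f := by
    calc (q - 1) ^ n * N1 = ∑ c : Fin n → Fˣ, N1 := by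
          rw [Finset.sum_const, Finset.card_univ, hcardG, smul_eq_mul]
      _ = ∑ c : Fin n → Fˣ, ∑ f ∈ (TF F n).filter (fun f => ddet (tw c f) = b), Gam q f :=
          Finset.sum_congr rfl (fun c _ => (hA c).symm)
      _ = ∑ c : Fin n → Fˣ, ∑ f ∈ TF F n, (if ddet (tw c f) = b then Gam q f else 0) :=
          Finset.sum_congr rfl (fun c _ => Finset.sum_filter _ _)
      _ = ∑ f ∈ TF F n, ∑ c : Fin n → Fˣ, (if ddet (tw c f) = b then Gam q f else 0) :=
          Finset.sum_comm
      _ = _ := by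
          refine Finset.sum_congr rfl (fun f _ => ?_)
          rw [← Finset.sum_filter, Finset.sum_const, smul_eq_mul]
  -- Step C
  have hC : ∀ f ∈ TF F n,
      (q - 1) * ((Finset.univ : Finset (Fin n → Fˣ)).filter (fun c => ddet (tw c f) = b)).card ≤
        (q - 1) ^ n * Gam q f := by
    intro f hf
    rw [mem_TF] at hf
    have h0 := ddet_ne_zero f hf
    have hcount := torus_count (F := F) (Finset.univ.filter (fun j : Fin n => f j ≠ 1)) (b * (ddet f)⁻¹)
    have hcard : ((Finset.univ : Finset (Fin n → Fˣ)).filter (fun c => ddet (tw c f) = b)).card =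
        Nat.card {c : Fin n → Fˣ // ∏ j ∈ Finset.univ.filter (fun j : Fin n => f j ≠ 1),
          ((c j : Fˣ) : F) ^ (j.val + 1) = b * (ddet f)⁻¹} := by
      rw [Nat.card_eq_fintype_card, Fintype.card_subtype]
      congr 1
      ext c
      simp only [Finset.mem_filter, Finset.mem_univ, true_and]
      rw [ddet_tw c f hf]
      constructor
      · intro h
        rw [← h, mul_assoc, mul_inv_cancel₀ h0, mul_one]
      · intro h
        rw [h, mul_assoc, inv_mul_cancel₀ h0, mul_one]
    rw [hcard]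
    exact hcount
  -- Step D
  have hD : (q - 1) ^ n * ((q - 1) * N1) ≤ (q - 1) ^ n * ∑ f ∈ TF F n, (Gam q f) ^ 2 := by
    calc (q - 1) ^ n * ((q - 1) * N1) = (q - 1) * ((q - 1) ^ n * N1) := by ring
      _ = ∑ f ∈ TF F n, (q - 1) *
          (((Finset.univ : Finset (Fin n → Fˣ)).filter (fun c => ddet (tw c f) = b)).card * Gam q f) := by
          rw [hB, Finset.mul_sum]
      _ ≤ ∑ f ∈ TF F n, (q - 1) ^ n * (Gam q f) ^ 2 := by
          refine Finset.sum_le_sum (fun f hf => ?_)
          calc (q - 1) * (((Finset.univ : Finset (Fin n → Fˣ)).filter (fun c => ddet (tw c f) = b)).card * Gam q f)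
              = ((q - 1) * ((Finset.univ : Finset (Fin n → Fˣ)).filter (fun c => ddet (tw c f) = b)).card) * Gam q f := by ring
            _ ≤ ((q - 1) ^ n * Gam q f) * Gam q f := Nat.mul_le_mul_right _ (hC f hf)
            _ = (q - 1) ^ n * (Gam q f) ^ 2 := by ring
      _ = (q - 1) ^ n * ∑ f ∈ TF F n, (Gam q f) ^ 2 := by rw [Finset.mul_sum]
  exact Nat.le_of_mul_le_mul_left hD hGpos

open Classical in
/-- C4b -/
theorem sum_Gam_le [Fintype F] (n : ℕ) :
    (Fintype.card F - 1) * ∑ f ∈ (TF F n).filter (fun f => ddet f = 1), Gam (Fintype.card F) f ≤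
      ∑ f ∈ TF F n, (Gam (Fintype.card F) f) ^ 2 := sum_Gam_le_gen n 1

end Cfsg.Agent.Lib.Helper2.GLk
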