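import Mathlib
import Cfsg.Agent.Lib.Helper2.SLkDefs

set_option autoImplicit false
set_option linter.unusedVariables false
set_option linter.unusedSectionVars false
set_option linter.style.longLine false
set_option linter.style.haveILetI false

namespace Cfsg.Agent.Lib.Helper2.GLk

open Polynomial

universe u v

variable {F : Type u} [Field F]

/-- G1 -/
theorem fiber_le_index {N G H : Type*} [Group N] [Group G] [CommGroup H] [Finite H]
    (ι : N →* G) (hι : Function.Injective ι) (d : G →* H) (hd : Function.Surjective d)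
    (hker : ∀ g : G, d g = 1 → g ∈ ι.range) (hker' : ∀ x : N, d (ι x) = 1) (x : N) :
    Nat.card {C : ConjClasses N // ConjClasses.map ι C = ConjClasses.mk (ι x)} ≤
      ((Subgroup.centralizer {ι x}).map d).index := by
  classical
  set Δ := (Subgroup.centralizer {ι x}).map d with hΔ
  have hex : ∀ C : {C : ConjClasses N // ConjClasses.map ι C = ConjClasses.mk (ι x)},
      ∃ (y : N) (g : G), ConjClasses.mk y = C.1 ∧ g * ι x * g⁻¹ = ι y := by
    rintro ⟨C, hC⟩
    obtain ⟨y, rfl⟩ := ConjClasses.mk_surjective C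
    have h1 : ConjClasses.mk (ι y) = ConjClasses.mk (ι x) := hC
    have hconj : IsConj (ι x) (ι y) := (ConjClasses.mk_eq_mk_iff_isConj.1 h1).symm
    obtain ⟨g, hg⟩ := isConj_iff.1 hconj
    exact ⟨y, g, rfl, hg⟩
  choose y g hy hg using hex
  have hinj : Function.Injective
      (fun C : {C : ConjClasses N // ConjClasses.map ι C = ConjClasses.mk (ι x)} =>
        (QuotientGroup.mk (d (g C)) : H ⧸ Δ)) := by
    intro C C' hCC
    have h1 : (d (g C))⁻¹ * d (g C') ∈ Δ := QuotientGroup.eq.1 hCC
    obtain ⟨c, hc, hdc⟩ := Subgroup.mem_map.1 h1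
    have hcx : ι x * c = c * ι x := (Subgroup.mem_centralizer_iff.1 hc) (ι x) (Set.mem_singleton _)
    have hm : d (g C' * c⁻¹ * (g C)⁻¹) = 1 := by
      simp only [map_mul, map_inv]
      rw [hdc]
      group
    obtain ⟨n1, hn1⟩ := hker _ hm
    have hcx' : c⁻¹ * ι x * c = ι x := by
      rw [mul_assoc, hcx, ← mul_assoc, inv_mul_cancel, one_mul]
    have h2 : ι (n1 * y C * n1⁻¹) = ι (y C') := by
      rw [map_mul, map_mul, map_inv, hn1, ← hg C, ← hg C']
      have : g C' * c⁻¹ * (g C)⁻¹ * (g C * ι x * (g C)⁻¹) * (g C' * c⁻¹ * (g C)⁻¹)⁻¹ =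
          g C' * (c⁻¹ * ι x * c) * (g C')⁻¹ := by group
      rw [this, hcx']
    have h3 : n1 * y C * n1⁻¹ = y C' := hι h2
    have h4 : IsConj (y C) (y C') := isConj_iff.2 ⟨n1, h3⟩
    apply Subtype.ext
    rw [← hy C, ← hy C']
    exact ConjClasses.mk_eq_mk_iff_isConj.2 h4
  have := Nat.card_le_card_of_injective _ hinj
  exact this

/-- G1c -/
theorem sl_fiber_le [Fintype F] {n : ℕ} (hn : 1 ≤ n) (A : Matrix.SpecialLinearGroup (Fin n) F) :
    Nat.card {C : ConjClasses (Matrix.SpecialLinearGroup (Fin n) F) //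
        ConjClasses.map Matrix.SpecialLinearGroup.toGL C =
          ConjClasses.mk (Matrix.SpecialLinearGroup.toGL A)} ≤
      ((Subgroup.centralizer {Matrix.SpecialLinearGroup.toGL A}).map
        (Matrix.GeneralLinearGroup.det : GL (Fin n) F →* Fˣ)).index := by
  classical
  apply fiber_le_index Matrix.SpecialLinearGroup.toGL Matrix.SpecialLinearGroup.toGL_injective
    (Matrix.GeneralLinearGroup.det : GL (Fin n) F →* Fˣ)
  · intro a
    let v : Fin n → F := Function.update (fun _ => (1 : F)) ⟨0, by omega⟩ (a : F)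
    have hdet : (Matrix.diagonal v).det = (a : F) := by
      rw [Matrix.det_diagonal]
      rw [Finset.prod_eq_single (⟨0, by omega⟩ : Fin n)]
      · simp [v]
      · intro j _ hj
        simp [v, Function.update_of_ne hj]
      · intro h; exact absurd (Finset.mem_univ _) h
    have hne : (Matrix.diagonal v).det ≠ 0 := by rw [hdet]; exact a.ne_zero
    refine ⟨Matrix.GeneralLinearGroup.mkOfDetNeZero (Matrix.diagonal v) hne, ?_⟩
    apply Units.ext
    show ((Matrix.GeneralLinearGroup.mkOfDetNeZero (Matrix.diagonal v) hne : GL (Fin n) F) : Matrix (Fin n) (Fin n) F).det = (a : F)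
    simp [Matrix.GeneralLinearGroup.mkOfDetNeZero, hdet]
  · intro g hg
    have hdet : (g : Matrix (Fin n) (Fin n) F).det = 1 := by
      have := congrArg (fun u : Fˣ => (u : F)) hg
      simpa using this
    refine ⟨⟨(g : Matrix (Fin n) (Fin n) F), hdet⟩, ?_⟩
    apply Units.ext
    rfl
  · intro B
    apply Units.ext
    show ((Matrix.SpecialLinearGroup.toGL B : GL (Fin n) F) : Matrix (Fin n) (Fin n) F).det = 1
    exact B.2

end Cfsg.Agent.Lib.Helper2.GLk
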