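import Mathlib
import Cfsg.Agent.Lib.Helper2.SLkDefs

set_option autoImplicit false
set_option linter.unusedVariables false
set_option linter.unusedSectionVars false
set_option linter.style.longLine false
set_option linter.style.haveILetI false

namespace Cfsg.Agent.Lib.Helper2.GLk

open Polynomial

universe u v

variable {F : Type u} [Field F]

theorem h2_finite_Qm (f : F[X]) (hf : f.Monic) : Module.Finite F (Qm f) := by
  have : Module.Finite F (AdjoinRoot f) := Module.Finite.of_basis (AdjoinRoot.powerBasis' hf).basis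
  exact this

/-- G2b -/
theorem det_mulBy_mul (f g h : F[X]) (hf : f.Monic) (hg : g.Monic) :
    LinearMap.det (mulBy (f * g) h) = LinearMap.det (mulBy f h) * LinearMap.det (mulBy g h) := by
  classical
  haveI := h2_finite_Qm (f * g) (hf.mul hg)
  haveI := h2_finite_Qm f hf
  haveI := h2_finite_Qm g hg
  have hf0 : f ≠ 0 := hf.ne_zero
  -- the projection
  have hν0 : Submodule.span F[X] {f * g} ≤ Submodule.comap (LinearMap.id : F[X] →ₗ[F[X]] F[X]) (Submodule.span F[X] {f}) := by
    rw [Submodule.comap_id, Submodule.span_le]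
    intro x hx
    rw [Set.mem_singleton_iff] at hx
    subst hx
    exact Submodule.mem_span_singleton.2 ⟨g, by rw [smul_eq_mul, mul_comm]⟩
  let ν : Qm (f * g) →ₗ[F[X]] Qm f := Submodule.mapQ _ _ LinearMap.id hν0
  have hν : ∀ z : F[X], ν (Submodule.Quotient.mk z) = Submodule.Quotient.mk z := fun z => rfl
  have hμ0 : Submodule.span F[X] {g} ≤ Submodule.comap (LinearMap.lsmul F[X] F[X] f) (Submodule.span F[X] {f * g}) := by
    rw [Submodule.span_le]
    intro x hx
    rw [Set.mem_singleton_iff] at hx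
    subst hx
    show (LinearMap.lsmul F[X] F[X] f) x ∈ Submodule.span F[X] {f * x}
    rw [LinearMap.lsmul_apply, smul_eq_mul]
    exact Submodule.mem_span_singleton_self _
  let μ : Qm g →ₗ[F[X]] Qm (f * g) := Submodule.mapQ _ _ (LinearMap.lsmul F[X] F[X] f) hμ0
  have hμ : ∀ y : F[X], μ (Submodule.Quotient.mk y) = Submodule.Quotient.mk (f * y) := fun y => rfl
  let νF : Qm (f * g) →ₗ[F] Qm f := ν.restrictScalars F
  let μF : Qm g →ₗ[F] Qm (f * g) := μ.restrictScalars F
  have hνsurj : Function.Surjective νF := by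
    intro x
    obtain ⟨z, rfl⟩ := Submodule.Quotient.mk_surjective _ x
    exact ⟨Submodule.Quotient.mk z, rfl⟩
  set W : Submodule F (Qm (f * g)) := LinearMap.ker νF with hW
  have hμW : ∀ y, μF y ∈ W := by
    intro y
    obtain ⟨y, rfl⟩ := Submodule.Quotient.mk_surjective _ y
    rw [hW, LinearMap.mem_ker]
    show ν (μ (Submodule.Quotient.mk y)) = 0
    rw [hμ, hν, Submodule.Quotient.mk_eq_zero]
    exact Submodule.mem_span_singleton.2 ⟨y, by rw [smul_eq_mul, mul_comm]⟩
  have hμinj : Function.Injective (μF.codRestrict W hμW) := by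
    rw [← LinearMap.ker_eq_bot, LinearMap.ker_eq_bot']
    intro y hy
    obtain ⟨y, rfl⟩ := Submodule.Quotient.mk_surjective _ y
    have h1 : μ (Submodule.Quotient.mk y) = 0 := congrArg Subtype.val hy
    rw [hμ, Submodule.Quotient.mk_eq_zero] at h1
    obtain ⟨z, hz⟩ := Submodule.mem_span_singleton.1 h1
    rw [smul_eq_mul] at hz
    have h2 : y = z * g := by
      have : f * (z * g) = f * y := by rw [← hz]; ring
      exact (mul_left_cancel₀ hf0 this).symm
    rw [Submodule.Quotient.mk_eq_zero]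
    exact Submodule.mem_span_singleton.2 ⟨z, by rw [smul_eq_mul, h2]⟩
  have hμsurj : Function.Surjective (μF.codRestrict W hμW) := by
    rintro ⟨x, hx⟩
    obtain ⟨z, rfl⟩ := Submodule.Quotient.mk_surjective _ x
    rw [hW, LinearMap.mem_ker] at hx
    have h1 : ν (Submodule.Quotient.mk z) = 0 := hx
    rw [hν, Submodule.Quotient.mk_eq_zero] at h1
    obtain ⟨y, hy⟩ := Submodule.mem_span_singleton.1 h1
    rw [smul_eq_mul] at hy
    refine ⟨Submodule.Quotient.mk y, ?_⟩
    apply Subtype.ext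
    show μ (Submodule.Quotient.mk y) = Submodule.Quotient.mk z
    rw [hμ, ← hy, mul_comm f y]
  let E1 : Qm g ≃ₗ[F] W := LinearEquiv.ofBijective (μF.codRestrict W hμW) ⟨hμinj, hμsurj⟩
  let E2 : (Qm (f * g) ⧸ W) ≃ₗ[F] Qm f := νF.quotKerEquivOfSurjective hνsurj
  have he : W ≤ W.comap (mulBy (f * g) h) := by
    intro x hx
    rw [Submodule.mem_comap, hW, LinearMap.mem_ker]
    rw [hW, LinearMap.mem_ker] at hx
    show ν (h • x) = 0
    rw [map_smul]
    have : ν x = 0 := hx
    rw [this, smul_zero]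
  have hmain := LinearMap.det_eq_det_mul_det W (mulBy (f * g) h) he
  have h1 : (mulBy (f * g) h).restrict he =
      (E1 : Qm g →ₗ[F] W) ∘ₗ mulBy g h ∘ₗ (E1.symm : W →ₗ[F] Qm g) := by
    apply LinearMap.ext
    intro w
    obtain ⟨y, rfl⟩ := E1.surjective w
    apply Subtype.ext
    simp only [LinearMap.coe_comp, LinearEquiv.coe_coe, Function.comp_apply, LinearEquiv.symm_apply_apply]
    show h • μ y = μ (h • y)
    rw [map_smul]
  have h2 : W.mapQ W (mulBy (f * g) h) he =
      ((E2.symm : Qm f ≃ₗ[F] (Qm (f * g) ⧸ W)) : Qm f →ₗ[F] (Qm (f * g) ⧸ W)) ∘ₗ mulBy f h ∘ₗ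
        ((E2.symm.symm : (Qm (f * g) ⧸ W) ≃ₗ[F] Qm f) : (Qm (f * g) ⧸ W) →ₗ[F] Qm f) := by
    apply LinearMap.ext
    intro x
    obtain ⟨z, rfl⟩ := Submodule.Quotient.mk_surjective _ x
    simp only [LinearMap.coe_comp, LinearEquiv.coe_coe, Function.comp_apply, LinearEquiv.symm_symm]
    rw [LinearEquiv.eq_symm_apply]
    show ν (h • z) = h • ν z
    rw [map_smul]
  rw [hmain, h1, h2, LinearMap.det_conj, LinearMap.det_conj, mul_comm]

/-- G2b' -/
theorem det_mulBy_pow (p h : F[X]) (hp : p.Monic) (e : ℕ) :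
    LinearMap.det (mulBy (p ^ e) h) = LinearMap.det (mulBy p h) ^ e := by
  induction e with
  | zero =>
    rw [pow_zero, pow_zero]
    haveI : Subsingleton (Qm (1 : F[X])) := by
      refine ⟨fun a b => ?_⟩
      obtain ⟨a, rfl⟩ := Submodule.Quotient.mk_surjective _ a
      obtain ⟨b, rfl⟩ := Submodule.Quotient.mk_surjective _ b
      rw [Submodule.Quotient.eq]
      exact Submodule.mem_span_singleton.2 ⟨a - b, by simp⟩
    have : mulBy (1 : F[X]) h = LinearMap.id := Subsingleton.elim _ _
    rw [this, LinearMap.det_id]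
  | succ e ih =>
    rw [pow_succ, det_mulBy_mul _ _ _ (hp.pow e) hp, ih, pow_succ]

end Cfsg.Agent.Lib.Helper2.GLk
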