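import Mathlib
import Cfsg.Agent.Lib.Helper2.SLkDefs
import Cfsg.Agent.Lib.Helper2.GLkUpper
import Cfsg.Agent.Lib.Helper2.SLkFiberG
import Cfsg.Agent.Lib.Helper2.SLkIndex
import Cfsg.Agent.Lib.Helper4.SLkCommDet

set_option autoImplicit false
set_option linter.unusedVariables false
set_option linter.unusedSectionVars false
set_option linter.style.longLine false
set_option linter.style.haveILetI false

namespace Cfsg.Agent.Lib.Helper2.GLk

open Polynomial

universe u v

variable {F : Type u} [Field F]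

/-- S1asm -/
theorem sl_fiber_le_Gam [Fintype F] {n k : ℕ} (hn : 1 ≤ n)
    (A : Matrix.SpecialLinearGroup (Fin n) F)
    (p : Fin k → F[X]) (e : Fin k → ℕ)
    (hp : ∀ i, (p i).Monic ∧ Irreducible (p i) ∧ (p i).coeff 0 ≠ 0 ∧ 1 ≤ e i)
    (hsum : ∑ i, e i * (p i).natDegree = n)
    (Φ : Mod (A : Matrix (Fin n) (Fin n) F) ≃ₗ[F[X]]
      DirectSum (Fin k) (fun i => F[X] ⧸ Submodule.span F[X] {p i ^ e i})) :
    Nat.card {C : ConjClasses (Matrix.SpecialLinearGroup (Fin n) F) //
        ConjClasses.map Matrix.SpecialLinearGroup.toGL C =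
          ConjClasses.mk (Matrix.SpecialLinearGroup.toGL A)} ≤
      Gam (Fintype.card F) (seqOf n p e) := by
  classical
  refine (sl_fiber_le hn A).trans ?_
  unfold Gam gsz
  apply index_le_gcd
  intro j hj a
  have hj1 : seqOf n p e j ≠ 1 := (Finset.mem_filter.1 hj).2
  have hex : ∃ i, e i = j.val + 1 := by
    by_contra hcon
    push Not at hcon
    apply hj1
    unfold seqOf
    have : Finset.univ.filter (fun i => e i = j.val + 1) = ∅ := by
      ext i
      simp only [Finset.mem_filter, Finset.mem_univ, true_and, Finset.notMem_empty, iff_false]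
      exact hcon i
    rw [this, Finset.prod_empty]
  obtain ⟨i, hi⟩ := hex
  obtain ⟨c, hc1, hc2⟩ := exists_commuting_det_pow (A : Matrix (Fin n) (Fin n) F) p e hp Φ i a
  rw [Subgroup.mem_map]
  refine ⟨c, ?_, ?_⟩
  · rw [Subgroup.mem_centralizer_iff]
    intro g hg
    rw [Set.mem_singleton_iff] at hg
    subst hg
    apply Units.ext
    show (A : Matrix (Fin n) (Fin n) F) * (c : Matrix (Fin n) (Fin n) F) =
      (c : Matrix (Fin n) (Fin n) F) * (A : Matrix (Fin n) (Fin n) F)
    exact hc1.symm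
  · apply Units.ext
    show (c : Matrix (Fin n) (Fin n) F).det = ((a ^ (j.val + 1) : Fˣ) : F)
    rw [hc2, hi, Units.val_pow_eq_pow_val]

end Cfsg.Agent.Lib.Helper2.GLk
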