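import Mathlib
import Cfsg.Agent.Lib.Helper2.SLkDefs

set_option autoImplicit false
set_option linter.unusedVariables false
set_option linter.unusedSectionVars false
set_option linter.style.longLine false
set_option linter.style.haveILetI false

namespace Cfsg.Agent.Lib.Helper2.GLk

/-- C7 -/
theorem K_three (q : ℕ) (hq : 2 ≤ q) : K q 3 3 = q ^ 3 - q := by
  have h1 : q ^ 2 ≤ q ^ 3 := Nat.pow_le_pow_right (by omega) (by norm_num)
  have h2 : q ≤ q ^ 3 := by
    calc q = q ^ 1 := (pow_one q).symm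
      _ ≤ q ^ 3 := Nat.pow_le_pow_right (by omega) (by norm_num)
  have hK : K q 3 3 = (q ^ 3 - q ^ 2) + (q - 1) * (q - 1) + (q - 1) := by
    simp [K, c, Finset.sum_range_succ]
  rw [hK]
  obtain ⟨r, rfl⟩ : ∃ r, q = r + 2 := ⟨q - 2, by omega⟩
  have e1 : r + 2 - 1 = r + 1 := by omega
  rw [e1]
  have e2 : (r + 2) ^ 3 - (r + 2) ^ 2 = r ^ 3 + 5 * r ^ 2 + 8 * r + 4 := by
    apply Nat.sub_eq_of_eq_add; ring
  have e3 : (r + 2) ^ 3 - (r + 2) = r ^ 3 + 6 * r ^ 2 + 11 * r + 6 := by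
    apply Nat.sub_eq_of_eq_add; ring
  rw [e2, e3]
  ring

end Cfsg.Agent.Lib.Helper2.GLk
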