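import Mathlib
import Cfsg.Agent.Lib.Helper2.SLkDefs
import Cfsg.Agent.Lib.Helper2.GLkUpper
import Cfsg.Agent.Lib.Helper2.SLkFiber
import Cfsg.Agent.Lib.Helper2.SLkDouble
import Cfsg.Agent.Lib.Helper2.SLkK3
import Cfsg.Agent.Lib.Helper8.SLkC5
import Cfsg.Agent.Lib.Helper8.SLkC6
import Cfsg.Agent.Lib.Helper8.SLkNumeric
import Cfsg.Agent.Lib.Helper9.SLkG4asm
import Cfsg.Agent.Lib.Helper9.SLkG4c
import Cfsg.Agent.Lib.Helper9.SLkLower

set_option autoImplicit false
set_option linter.unusedVariables false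
set_option linter.unusedSectionVars false
set_option linter.style.longLine false
set_option linter.style.haveILetI false

namespace Cfsg.Agent.Lib.Helper2.GLk

open Polynomial

universe u v

variable {F : Type u} [Field F]

theorem isConj_of_seqOf_eq {n k k' : ℕ} (A A' : GL (Fin n) F)
    (p : Fin k → F[X]) (e : Fin k → ℕ) (p' : Fin k' → F[X]) (e' : Fin k' → ℕ)
    (hp : ∀ i, (p i).Monic ∧ Irreducible (p i) ∧ (p i).coeff 0 ≠ 0 ∧ 1 ≤ e i)
    (hp' : ∀ i, (p' i).Monic ∧ Irreducible (p' i) ∧ (p' i).coeff 0 ≠ 0 ∧ 1 ≤ e' i)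
    (hsum : ∑ i, e i * (p i).natDegree = n) (hsum' : ∑ i, e' i * (p' i).natDegree = n)
    (hiso : Nonempty (Mod (A : Matrix (Fin n) (Fin n) F) ≃ₗ[F[X]]
      DirectSum (Fin k) (fun i => F[X] ⧸ Submodule.span F[X] {p i ^ e i})))
    (hiso' : Nonempty (Mod (A' : Matrix (Fin n) (Fin n) F) ≃ₗ[F[X]]
      DirectSum (Fin k') (fun i => F[X] ⧸ Submodule.span F[X] {p' i ^ e' i})))
    (hseq : seqOf n p e = seqOf n p' e') : IsConj A A' := by
  classical
  have hprod : ∀ j : ℕ, ∏ i ∈ Finset.univ.filter (fun i => e i = j), p i =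
      ∏ i ∈ Finset.univ.filter (fun i => e' i = j), p' i := by
    intro j
    by_cases hj : 1 ≤ j ∧ j ≤ n
    · have := congrFun hseq ⟨j - 1, by omega⟩
      unfold seqOf at this
      have hj' : j - 1 + 1 = j := by omega
      simp only [hj'] at this
      exact this
    · have h1 : Finset.univ.filter (fun i => e i = j) = ∅ := by
        ext i
        simp only [Finset.mem_filter, Finset.mem_univ, true_and, Finset.notMem_empty, iff_false]
        intro h
        have := h2_e_le p e hp hsum i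
        have := (hp i).2.2.2
        omega
      have h2 : Finset.univ.filter (fun i => e' i = j) = ∅ := by
        ext i
        simp only [Finset.mem_filter, Finset.mem_univ, true_and, Finset.notMem_empty, iff_false]
        intro h
        have := h2_e_le p' e' hp' hsum' i
        have := (hp' i).2.2.2
        omega
      rw [h1, h2, Finset.prod_empty, Finset.prod_empty]
  obtain ⟨E⟩ := equiv_of_prod_eq p e p' e'
    (fun i => ⟨(hp i).1, (hp i).2.1⟩) (fun i => ⟨(hp' i).1, (hp' i).2.1⟩) hprod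
  obtain ⟨E1⟩ := hiso
  obtain ⟨E2⟩ := hiso'
  exact conj_of_equiv A A' ⟨(E1.trans E).trans E2.symm⟩

open Classical in
theorem sl_upper_sum [Fintype F] (n : ℕ) (hn : 1 ≤ n) :
    Nat.card (ConjClasses (Matrix.SpecialLinearGroup (Fin n) F)) ≤
      ∑ f ∈ (TF F n).filter (fun f => ddet f = 1), Gam (Fintype.card F) f := by
  classical
  have hdec : ∀ C : ConjClasses (Matrix.SpecialLinearGroup (Fin n) F),
      ∃ (A : Matrix.SpecialLinearGroup (Fin n) F) (k : ℕ) (p : Fin k → F[X]) (e : Fin k → ℕ),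
      ConjClasses.mk A = C ∧
      (∀ i, (p i).Monic ∧ Irreducible (p i) ∧ (p i).coeff 0 ≠ 0 ∧ 1 ≤ e i) ∧
      (∑ i, e i * (p i).natDegree = n) ∧
      Nonempty (Mod ((Matrix.SpecialLinearGroup.toGL A : GL (Fin n) F) : Matrix (Fin n) (Fin n) F) ≃ₗ[F[X]]
        DirectSum (Fin k) (fun i => F[X] ⧸ Submodule.span F[X] {p i ^ e i})) := by
    intro C
    obtain ⟨A, rfl⟩ := ConjClasses.mk_surjective C
    obtain ⟨k, p, e, h1, h2, h3⟩ := exists_decomp (Matrix.SpecialLinearGroup.toGL A)
    exact ⟨A, k, p, e, rfl, h1, h2, h3⟩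
  choose A k p e hA hp hsum hiso using hdec
  haveI : Fintype (ConjClasses (Matrix.SpecialLinearGroup (Fin n) F)) := Fintype.ofFinite _
  let Ψ : ConjClasses (Matrix.SpecialLinearGroup (Fin n) F) → (Fin n → F[X]) :=
    fun C => seqOf n (p C) (e C)
  have hcoe : ∀ B : Matrix.SpecialLinearGroup (Fin n) F,
      ((Matrix.SpecialLinearGroup.toGL B : GL (Fin n) F) : Matrix (Fin n) (Fin n) F) =
        (B : Matrix (Fin n) (Fin n) F) := fun B => rfl
  have hΨmem : ∀ C ∈ (Finset.univ : Finset (ConjClasses (Matrix.SpecialLinearGroup (Fin n) F))),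
      Ψ C ∈ (TF F n).filter (fun f => ddet f = 1) := by
    intro C _
    rw [Finset.mem_filter, mem_TF]
    refine ⟨seqOf_mem_T (p C) (e C) (hp C) (hsum C), ?_⟩
    obtain ⟨Φ⟩ := hiso C
    rw [← prod_eq_ddet (p C) (e C) (hp C) (hsum C), ← det_eq_prod _ (p C) (e C) (hp C) Φ, hcoe]
    exact (A C).2
  have hfib : ∀ f ∈ (TF F n).filter (fun f => ddet f = 1),
      ((Finset.univ : Finset (ConjClasses (Matrix.SpecialLinearGroup (Fin n) F))).filter
        (fun C => Ψ C = f)).card ≤ Gam (Fintype.card F) f := by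
    intro f _
    by_cases hne : ((Finset.univ : Finset (ConjClasses (Matrix.SpecialLinearGroup (Fin n) F))).filter
        (fun C => Ψ C = f)).Nonempty
    · obtain ⟨C0, hC0⟩ := hne
      have hC0f : Ψ C0 = f := (Finset.mem_filter.1 hC0).2
      obtain ⟨Φ0⟩ := hiso C0
      have hbound := sl_fiber_le_Gam hn (A C0) (p C0) (e C0) (hp C0) (hsum C0) Φ0
      have hsub : (Finset.univ : Finset (ConjClasses (Matrix.SpecialLinearGroup (Fin n) F))).filter
          (fun C => Ψ C = f) ⊆ Finset.univ.filter (fun C =>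
            ConjClasses.map Matrix.SpecialLinearGroup.toGL C =
              ConjClasses.mk (Matrix.SpecialLinearGroup.toGL (A C0))) := by
        intro C hC
        have hCf : Ψ C = f := (Finset.mem_filter.1 hC).2
        rw [Finset.mem_filter]
        refine ⟨Finset.mem_univ _, ?_⟩
        have hconj : IsConj (Matrix.SpecialLinearGroup.toGL (A C)) (Matrix.SpecialLinearGroup.toGL (A C0)) :=
          isConj_of_seqOf_eq _ _ (p C) (e C) (p C0) (e C0) (hp C) (hp C0) (hsum C) (hsum C0)
            (hiso C) (hiso C0) (hCf.trans hC0f.symm)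
        rw [← hA C]
        exact ConjClasses.mk_eq_mk_iff_isConj.2 hconj
      calc ((Finset.univ : Finset (ConjClasses (Matrix.SpecialLinearGroup (Fin n) F))).filter
            (fun C => Ψ C = f)).card
          ≤ (Finset.univ.filter (fun C : ConjClasses (Matrix.SpecialLinearGroup (Fin n) F) =>
            ConjClasses.map Matrix.SpecialLinearGroup.toGL C =
              ConjClasses.mk (Matrix.SpecialLinearGroup.toGL (A C0)))).card := Finset.card_le_card hsub
        _ = Nat.card {C : ConjClasses (Matrix.SpecialLinearGroup (Fin n) F) //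
              ConjClasses.map Matrix.SpecialLinearGroup.toGL C =
                ConjClasses.mk (Matrix.SpecialLinearGroup.toGL (A C0))} := by
            rw [Nat.card_eq_fintype_card, Fintype.card_subtype]
        _ ≤ Gam (Fintype.card F) (seqOf n (p C0) (e C0)) := hbound
        _ = Gam (Fintype.card F) f := by rw [← hC0f]
    · rw [Finset.not_nonempty_iff_eq_empty.1 hne, Finset.card_empty]
      exact Nat.zero_le _
  calc Nat.card (ConjClasses (Matrix.SpecialLinearGroup (Fin n) F))
      = (Finset.univ : Finset (ConjClasses (Matrix.SpecialLinearGroup (Fin n) F))).card := by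
        rw [Nat.card_eq_fintype_card, Finset.card_univ]
    _ = ∑ f ∈ (TF F n).filter (fun f => ddet f = 1),
          ((Finset.univ : Finset (ConjClasses (Matrix.SpecialLinearGroup (Fin n) F))).filter
            (fun C => Ψ C = f)).card := Finset.card_eq_sum_card_fiberwise hΨmem
    _ ≤ ∑ f ∈ (TF F n).filter (fun f => ddet f = 1), Gam (Fintype.card F) f :=
        Finset.sum_le_sum hfib

theorem sl_main [Fintype F] (n : ℕ) (hn : 2 ≤ n) :
    Fintype.card F ^ (n - 1) < Nat.card (ConjClasses (Matrix.SpecialLinearGroup (Fin n) F)) ∧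
      2 * Nat.card (ConjClasses (Matrix.SpecialLinearGroup (Fin n) F)) ≤ 5 * Fintype.card F ^ (n - 1) ∧
      (3 ≤ n → Nat.card (ConjClasses (Matrix.SpecialLinearGroup (Fin n) F)) ≤
        Fintype.card F ^ (n - 1) + 3 * Fintype.card F ^ (n - 2)) := by
  classical
  set q := Fintype.card F with hq
  have hq2 : 2 ≤ q := Fintype.one_lt_card
  have hn1 : 1 ≤ n := by omega
  refine ⟨sl_lower n hn, ?_⟩
  have H1 : (q - 1) * Nat.card (ConjClasses (Matrix.SpecialLinearGroup (Fin n) F)) ≤
      ∑ t ∈ (Nat.gcd n (q - 1)).divisors, ∑ t' ∈ (Nat.gcd n (q - 1)).divisors,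
        Nat.totient t * Nat.totient t' * ((TF F n).filter (fun f => Nat.lcm t t' ∣ gsz f)).card := by
    calc (q - 1) * Nat.card (ConjClasses (Matrix.SpecialLinearGroup (Fin n) F))
        ≤ (q - 1) * ∑ f ∈ (TF F n).filter (fun f => ddet f = 1), Gam q f :=
          Nat.mul_le_mul_left _ (sl_upper_sum n hn1)
      _ ≤ ∑ f ∈ TF F n, (Gam q f) ^ 2 := sum_Gam_le n
      _ = _ := sum_Gam_sq hn1
  have hK : ∀ m : ℕ, 1 ≤ m → K q m m ≤ q ^ m - 1 := by
    intro m hm
    have h3 : q ^ m * K q m m ≤ (q ^ m - 1) * q ^ m := K_bound q hq2 m hm m hm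
    have hqm : 0 < q ^ m := Nat.pos_of_ne_zero (pow_ne_zero _ (by omega))
    rw [mul_comm (q ^ m - 1)] at h3
    exact Nat.le_of_mul_le_mul_left h3 hqm
  have H2 : ∀ r, 1 ≤ r → r ∣ n → ((TF F n).filter (fun f => r ∣ gsz f)).card ≤ q ^ (n / r) - 1 := by
    intro r hr hrn
    have h1 := card_filter_dvd_le (F := F) hr hrn
    have h2 : 1 ≤ n / r := by
      obtain ⟨s, rfl⟩ := hrn
      rw [Nat.mul_div_cancel_left _ (by omega)]
      rcases Nat.eq_zero_or_pos s with h | h
      · subst h; omega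
      · exact h
    exact h1.trans (hK _ h2)
  have H3 : n = 3 → ((TF F n).filter (fun f => 1 ∣ gsz f)).card ≤ q ^ 3 - q := by
    intro h3
    subst h3
    have h1 := card_filter_dvd_le (F := F) (n := 3) (r := 1) le_rfl (one_dvd _)
    rw [Nat.div_one, K_three q hq2] at h1
    exact h1
  exact numeric_main q n _ (fun r => ((TF F n).filter (fun f => r ∣ gsz f)).card) hq2 hn H1 H2 H3

end Cfsg.Agent.Lib.Helper2.GLk
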