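import Mathlib
import Cfsg.Agent.Lib.Helper2.PSLkDefs
import Cfsg.Agent.Lib.Helper2.SLkMain

set_option autoImplicit false
set_option linter.unusedVariables false
set_option linter.unusedSectionVars false
set_option linter.style.longLine false
set_option linter.style.haveILetI false

namespace Cfsg.Agent.Lib.Helper2.GLk

open Polynomial

universe u v

variable {F : Type u} [Field F]

/-- the data map on the classes of `SL_n(F)` -/
theorem exists_data_map [Fintype F] (n : ℕ) (hn : 1 ≤ n) :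
    ∃ Ψ : ConjClasses (Matrix.SpecialLinearGroup (Fin n) F) → (Fin n → F[X]),
      (∀ C, Ψ C ∈ TF F n ∧ ddet (Ψ C) = 1) ∧
      (∀ C, ∃ (A : Matrix.SpecialLinearGroup (Fin n) F) (k : ℕ) (p : Fin k → F[X]) (e : Fin k → ℕ),
        ConjClasses.mk A = C ∧
        (∀ i, (p i).Monic ∧ Irreducible (p i) ∧ (p i).coeff 0 ≠ 0 ∧ 1 ≤ e i) ∧
        (∑ i, e i * (p i).natDegree = n) ∧
        Nonempty (Mod ((Matrix.SpecialLinearGroup.toGL A : GL (Fin n) F) : Matrix (Fin n) (Fin n) F) ≃ₗ[F[X]]
          DirectSum (Fin k) (fun i => F[X] ⧸ Submodule.span F[X] {p i ^ e i})) ∧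
        Ψ C = seqOf n p e) ∧
      (∀ f, Nat.card {C // Ψ C = f} ≤ Gam (Fintype.card F) f) := by
  classical
  have hdec : ∀ C : ConjClasses (Matrix.SpecialLinearGroup (Fin n) F),
      ∃ (A : Matrix.SpecialLinearGroup (Fin n) F) (k : ℕ) (p : Fin k → F[X]) (e : Fin k → ℕ),
      ConjClasses.mk A = C ∧
      (∀ i, (p i).Monic ∧ Irreducible (p i) ∧ (p i).coeff 0 ≠ 0 ∧ 1 ≤ e i) ∧
      (∑ i, e i * (p i).natDegree = n) ∧
      Nonempty (Mod ((Matrix.SpecialLinearGroup.toGL A : GL (Fin n) F) : Matrix (Fin n) (Fin n) F) ≃ₗ[F[X]]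
        DirectSum (Fin k) (fun i => F[X] ⧸ Submodule.span F[X] {p i ^ e i})) := by
    intro C
    obtain ⟨A, rfl⟩ := ConjClasses.mk_surjective C
    obtain ⟨k, p, e, h1, h2, h3⟩ := exists_decomp (Matrix.SpecialLinearGroup.toGL A)
    exact ⟨A, k, p, e, rfl, h1, h2, h3⟩
  choose A k p e hA hp hsum hiso using hdec
  haveI : Fintype (ConjClasses (Matrix.SpecialLinearGroup (Fin n) F)) := Fintype.ofFinite _
  let Ψ : ConjClasses (Matrix.SpecialLinearGroup (Fin n) F) → (Fin n → F[X]) :=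
    fun C => seqOf n (p C) (e C)
  have hcoe : ∀ B : Matrix.SpecialLinearGroup (Fin n) F,
      ((Matrix.SpecialLinearGroup.toGL B : GL (Fin n) F) : Matrix (Fin n) (Fin n) F) =
        (B : Matrix (Fin n) (Fin n) F) := fun B => rfl
  refine ⟨Ψ, ?_, ?_, ?_⟩
  · intro C
    rw [mem_TF]
    refine ⟨seqOf_mem_T (p C) (e C) (hp C) (hsum C), ?_⟩
    obtain ⟨Φ⟩ := hiso C
    rw [← prod_eq_ddet (p C) (e C) (hp C) (hsum C), ← det_eq_prod _ (p C) (e C) (hp C) Φ, hcoe]
    exact (A C).2
  · intro C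
    exact ⟨A C, k C, p C, e C, hA C, hp C, hsum C, hiso C, rfl⟩
  · intro f
    by_cases hne : Nonempty {C // Ψ C = f}
    · obtain ⟨⟨C0, hC0f⟩⟩ := hne
      obtain ⟨Φ0⟩ := hiso C0
      have hbound := sl_fiber_le_Gam hn (A C0) (p C0) (e C0) (hp C0) (hsum C0) Φ0
      have hmap : ∀ C : {C // Ψ C = f},
          ConjClasses.map Matrix.SpecialLinearGroup.toGL C.1 =
            ConjClasses.mk (Matrix.SpecialLinearGroup.toGL (A C0)) := by
        rintro ⟨C, hCf⟩
        have hconj : IsConj (Matrix.SpecialLinearGroup.toGL (A C)) (Matrix.SpecialLinearGroup.toGL (A C0)) :=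
          isConj_of_seqOf_eq _ _ (p C) (e C) (p C0) (e C0) (hp C) (hp C0) (hsum C) (hsum C0)
            (hiso C) (hiso C0) (hCf.trans hC0f.symm)
        show ConjClasses.map Matrix.SpecialLinearGroup.toGL C = _
        rw [← hA C]
        exact ConjClasses.mk_eq_mk_iff_isConj.2 hconj
      have hinj : Function.Injective (fun C : {C // Ψ C = f} =>
          (⟨C.1, hmap C⟩ : {C : ConjClasses (Matrix.SpecialLinearGroup (Fin n) F) //
            ConjClasses.map Matrix.SpecialLinearGroup.toGL C =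
              ConjClasses.mk (Matrix.SpecialLinearGroup.toGL (A C0))})) := by
        intro C C' h
        apply Subtype.ext
        exact congrArg (fun x => x.1) h
      calc Nat.card {C // Ψ C = f} ≤ _ := Nat.card_le_card_of_injective _ hinj
        _ ≤ Gam (Fintype.card F) (seqOf n (p C0) (e C0)) := hbound
        _ = Gam (Fintype.card F) f := by rw [← hC0f]
    · rw [not_nonempty_iff] at hne
      rw [Nat.card_of_isEmpty]
      exact Nat.zero_le _

end Cfsg.Agent.Lib.Helper2.GLk
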