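import Mathlib
import Cfsg.Agent.Lib.Helper2.PSLkDefs
import Cfsg.Agent.Lib.Helper2.SLkDetMul

set_option autoImplicit false
set_option linter.unusedVariables false
set_option linter.unusedSectionVars false
set_option linter.style.longLine false
set_option linter.style.haveILetI false

namespace Cfsg.Agent.Lib.Helper2.GLk

open Polynomial

universe u v

variable {F : Type u} [Field F]

/-- U3 -/
theorem finrank_Qm (f : F[X]) (hf : f.Monic) : Module.finrank F (Qm f) = f.natDegree := by
  have h : Module.finrank F (AdjoinRoot f) = f.natDegree :=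
    (AdjoinRoot.powerBasis' hf).finrank.trans (AdjoinRoot.powerBasis'_dim hf)
  exact h

theorem h2_smul_mk (f h z : F[X]) :
    h • (Submodule.Quotient.mk z : Qm f) = Submodule.Quotient.mk (h * z) := rfl

theorem h2_kd_Qm_mul_left (f g : F[X]) (hf : f.Monic) (hg : g.Monic) :
    kd (Qm (f * g)) f = f.natDegree := by
  classical
  haveI := h2_finite_Qm (f * g) (hf.mul hg)
  haveI := h2_finite_Qm f hf
  have hf0 : f ≠ 0 := hf.ne_zero
  have hg0 : g ≠ 0 := hg.ne_zero
  have hμ0 : Submodule.span F[X] {f} ≤ Submodule.comap (LinearMap.lsmul F[X] F[X] g) (Submodule.span F[X] {f * g}) := by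
    rw [Submodule.span_le]
    intro x hx
    rw [Set.mem_singleton_iff] at hx
    subst hx
    show (LinearMap.lsmul F[X] F[X] g) x ∈ Submodule.span F[X] {x * g}
    rw [LinearMap.lsmul_apply, smul_eq_mul, mul_comm]
    exact Submodule.mem_span_singleton_self _
  let μ : Qm f →ₗ[F[X]] Qm (f * g) := Submodule.mapQ _ _ (LinearMap.lsmul F[X] F[X] g) hμ0
  have hμ : ∀ y : F[X], μ (Submodule.Quotient.mk y) = Submodule.Quotient.mk (g * y) := fun y => rfl
  let μF : Qm f →ₗ[F] Qm (f * g) := μ.restrictScalars F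
  set W : Submodule F (Qm (f * g)) := LinearMap.ker (smulEnd (Qm (f * g)) f) with hW
  have hμW : ∀ y, μF y ∈ W := by
    intro y
    obtain ⟨y, rfl⟩ := Submodule.Quotient.mk_surjective _ y
    rw [hW, LinearMap.mem_ker, smulEnd_apply]
    show f • μ (Submodule.Quotient.mk y) = 0
    rw [hμ, h2_smul_mk, Submodule.Quotient.mk_eq_zero]
    exact Submodule.mem_span_singleton.2 ⟨y, by rw [smul_eq_mul]; ring⟩
  have hμinj : Function.Injective (μF.codRestrict W hμW) := by
    rw [← LinearMap.ker_eq_bot, LinearMap.ker_eq_bot']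
    intro y hy
    obtain ⟨y, rfl⟩ := Submodule.Quotient.mk_surjective _ y
    have h1 : μ (Submodule.Quotient.mk y) = 0 := congrArg Subtype.val hy
    rw [hμ, Submodule.Quotient.mk_eq_zero] at h1
    obtain ⟨z, hz⟩ := Submodule.mem_span_singleton.1 h1
    rw [smul_eq_mul] at hz
    have h2 : y = z * f := by
      have : g * (z * f) = g * y := by rw [← hz]; ring
      exact (mul_left_cancel₀ hg0 this).symm
    rw [Submodule.Quotient.mk_eq_zero]
    exact Submodule.mem_span_singleton.2 ⟨z, by rw [smul_eq_mul, h2]⟩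
  have hμsurj : Function.Surjective (μF.codRestrict W hμW) := by
    rintro ⟨x, hx⟩
    obtain ⟨z, rfl⟩ := Submodule.Quotient.mk_surjective _ x
    rw [hW, LinearMap.mem_ker, smulEnd_apply, h2_smul_mk, Submodule.Quotient.mk_eq_zero] at hx
    obtain ⟨y, hy⟩ := Submodule.mem_span_singleton.1 hx
    rw [smul_eq_mul] at hy
    have h2 : z = g * y := by
      have : f * (g * y) = f * z := by rw [← hy]; ring
      exact (mul_left_cancel₀ hf0 this).symm
    refine ⟨Submodule.Quotient.mk y, ?_⟩
    apply Subtype.ext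
    show μ (Submodule.Quotient.mk y) = Submodule.Quotient.mk z
    rw [hμ, h2]
  let E1 : Qm f ≃ₗ[F] W := LinearEquiv.ofBijective (μF.codRestrict W hμW) ⟨hμinj, hμsurj⟩
  unfold kd
  rw [← hW, ← E1.finrank_eq, finrank_Qm f hf]

open Classical in
theorem kd_Qm_pow (p π : F[X]) (hp : p.Monic) (hpi : Irreducible p) (hπ : π.Monic) (hπi : Irreducible π)
    (e j : ℕ) : kd (Qm (p ^ e)) (π ^ j) = if π = p then p.natDegree * min j e else 0 := by
  haveI := h2_finite_Qm (p ^ e) (hp.pow e)
  have hkill : ∀ x : Qm (p ^ e), (p ^ e) • x = 0 := by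
    intro x
    obtain ⟨z, rfl⟩ := Submodule.Quotient.mk_surjective _ x
    rw [h2_smul_mk, Submodule.Quotient.mk_eq_zero]
    exact Submodule.mem_span_singleton.2 ⟨z, by rw [smul_eq_mul, mul_comm]⟩
  by_cases hπp : π = p
  · subst hπp
    rw [if_pos rfl]
    rcases le_or_gt e j with hje | hje
    · -- everything is killed
      rw [min_eq_right hje]
      have hker : LinearMap.ker (smulEnd (Qm (π ^ e)) (π ^ j)) = ⊤ := by
        rw [eq_top_iff]
        intro x _
        rw [LinearMap.mem_ker, smulEnd_apply]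
        obtain ⟨d, rfl⟩ : ∃ d, j = e + d := ⟨j - e, by omega⟩
        rw [pow_add, mul_comm, mul_smul, hkill, smul_zero]
      unfold kd
      rw [hker, finrank_top, finrank_Qm _ (hp.pow e), hp.natDegree_pow, mul_comm]
    · rw [min_eq_left (le_of_lt hje)]
      obtain ⟨d, rfl⟩ : ∃ d, e = j + d := ⟨e - j, by omega⟩
      rw [pow_add, h2_kd_Qm_mul_left _ _ (hp.pow j) (hp.pow d), hp.natDegree_pow, mul_comm]
  · rw [if_neg hπp]
    have hcop : IsCoprime π p := by
      rw [hπi.coprime_iff_not_dvd]
      intro hdvd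
      have hass : Associated π p := hπi.associated_of_dvd hpi hdvd
      exact hπp (Polynomial.eq_of_monic_of_associated hπ hp hass)
    have hcop' : IsCoprime (π ^ j) (p ^ e) := hcop.pow
    obtain ⟨a, b, hab⟩ := hcop'
    have hker : LinearMap.ker (smulEnd (Qm (p ^ e)) (π ^ j)) = ⊥ := by
      rw [eq_bot_iff]
      intro x hx
      rw [LinearMap.mem_ker, smulEnd_apply] at hx
      rw [Submodule.mem_bot]
      calc x = (1 : F[X]) • x := (one_smul _ _).symm
        _ = (a * π ^ j + b * p ^ e) • x := by rw [hab]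
        _ = a • (π ^ j • x) + b • (p ^ e • x) := by rw [add_smul, mul_smul, mul_smul]
        _ = 0 := by rw [hx, hkill, smul_zero, smul_zero, add_zero]
    unfold kd
    rw [hker, finrank_bot]

end Cfsg.Agent.Lib.Helper2.GLk
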