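import Mathlib
import Cfsg.Agent.Lib.Helper2.PSLkDefs

set_option autoImplicit false
set_option linter.unusedVariables false
set_option linter.unusedSectionVars false
set_option linter.style.longLine false
set_option linter.style.haveILetI false

namespace Cfsg.Agent.Lib.Helper2.GLk

open Polynomial

universe u v

variable {F : Type u} [Field F]

/-- U2 -/
theorem kd_directSum {k : ℕ} (M : Fin k → Type v) [∀ i, AddCommGroup (M i)] [∀ i, Module F (M i)]
    [∀ i, Module F[X] (M i)] [∀ i, IsScalarTower F F[X] (M i)] [∀ i, Module.Finite F (M i)]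
    (g : F[X]) : kd (DirectSum (Fin k) M) g = ∑ i, kd (M i) g := by
  classical
  let Φ : (DirectSum (Fin k) (fun i => LinearMap.ker (smulEnd (M i) g))) →ₗ[F] DirectSum (Fin k) M :=
    DirectSum.lmap (fun i => (LinearMap.ker (smulEnd (M i) g)).subtype)
  have hΦinj : Function.Injective Φ :=
    (DirectSum.lmap_injective _).2 (fun i => Submodule.subtype_injective _)
  have hsm : smulEnd (DirectSum (Fin k) M) g = DirectSum.lmap (fun i => smulEnd (M i) g) := by
    apply LinearMap.ext
    intro x
    apply DFinsupp.ext
    intro i
    rfl
  have hrange : LinearMap.range Φ = LinearMap.ker (smulEnd (DirectSum (Fin k) M) g) := by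
    rw [hsm, DirectSum.ker_lmap, DirectSum.range_lmap]
    congr 1
    ext x
    simp only [Submodule.mem_pi, Set.mem_univ, true_implies, Submodule.range_subtype]
  unfold kd
  rw [← hrange, LinearMap.finrank_range_of_inj hΦinj, Module.finrank_directSum]

end Cfsg.Agent.Lib.Helper2.GLk
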