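import Mathlib
import Cfsg.Agent.Lib.Helper2.PSLkDefs
import Cfsg.Agent.Lib.Helper2.PSLkKdQm
import Cfsg.Agent.Lib.Helper2.PSLkKdSum
import Cfsg.Agent.Lib.Helper9.PSLkU1

set_option autoImplicit false
set_option linter.unusedVariables false
set_option linter.unusedSectionVars false
set_option linter.style.longLine false
set_option linter.style.haveILetI false

namespace Cfsg.Agent.Lib.Helper2.GLk

open Polynomial

universe u v

variable {F : Type u} [Field F]

open Classical in
/-- U6: the kernel dimensions of a decomposed matrix -/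
theorem kd_of_decomp {n k : ℕ} (A : Matrix (Fin n) (Fin n) F)
    (p : Fin k → F[X]) (e : Fin k → ℕ)
    (hp : ∀ i, (p i).Monic ∧ Irreducible (p i) ∧ (p i).coeff 0 ≠ 0 ∧ 1 ≤ e i)
    (Φ : Mod A ≃ₗ[F[X]] DirectSum (Fin k) (fun i => F[X] ⧸ Submodule.span F[X] {p i ^ e i}))
    (π : F[X]) (hπ : π.Monic) (hπi : Irreducible π) (j : ℕ) :
    kd (Mod A) (π ^ j) = ∑ i, (if π = p i then (p i).natDegree * min j (e i) else 0) := by
  haveI : ∀ i, Module.Finite F (F[X] ⧸ Submodule.span F[X] {p i ^ e i}) :=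
    fun i => h2_finite_Qm _ ((hp i).1.pow _)
  have h1 : kd (Mod A) (π ^ j) =
      kd (DirectSum (Fin k) (fun i => F[X] ⧸ Submodule.span F[X] {p i ^ e i})) (π ^ j) :=
    kd_congr (M := Mod A) (N := DirectSum (Fin k) (fun i => F[X] ⧸ Submodule.span F[X] {p i ^ e i})) Φ (π ^ j)
  rw [h1, kd_directSum]
  refine Finset.sum_congr rfl (fun i _ => ?_)
  exact kd_Qm_pow (p i) π (hp i).1 (hp i).2.1 hπ hπi (e i) j

end Cfsg.Agent.Lib.Helper2.GLk
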