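import Mathlib
import Cfsg.Agent.Lib.Helper2.PSLkDefs

set_option autoImplicit false
set_option linter.unusedVariables false
set_option linter.unusedSectionVars false
set_option linter.style.longLine false
set_option linter.style.haveILetI false

namespace Cfsg.Agent.Lib.Helper2.GLk

open Polynomial

universe u v

variable {F : Type u} [Field F]

open Classical in
theorem h2_count_identity {k : ℕ} (p : Fin k → F[X]) (e : Fin k → ℕ) (π : F[X]) (j : ℕ) (hj : 1 ≤ j) :
    π.natDegree * (Finset.univ.filter (fun i => π = p i ∧ e i = j)).card +
      ∑ i, (if π = p i then (p i).natDegree * min (j - 1) (e i) else 0) +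
      ∑ i, (if π = p i then (p i).natDegree * min (j + 1) (e i) else 0) =
    2 * ∑ i, (if π = p i then (p i).natDegree * min j (e i) else 0) := by
  have h1 : π.natDegree * (Finset.univ.filter (fun i => π = p i ∧ e i = j)).card =
      ∑ i, (if π = p i then (p i).natDegree * (if e i = j then 1 else 0) else 0) := by
    rw [Finset.card_filter, Finset.mul_sum]
    refine Finset.sum_congr rfl (fun i _ => ?_)
    by_cases h : π = p i
    · by_cases h' : e i = j
      · simp [h, h']
      · simp [h, h']
    · simp [h]
  rw [h1, ← Finset.sum_add_distrib, ← Finset.sum_add_distrib, Finset.mul_sum]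
  refine Finset.sum_congr rfl (fun i _ => ?_)
  by_cases h : π = p i
  · simp only [if_pos h]
    have h2 : (if e i = j then 1 else 0) + min (j - 1) (e i) + min (j + 1) (e i) = 2 * min j (e i) := by
      split_ifs with h' <;> omega
    calc (p i).natDegree * (if e i = j then 1 else 0) + (p i).natDegree * min (j - 1) (e i) +
          (p i).natDegree * min (j + 1) (e i)
        = (p i).natDegree * ((if e i = j then 1 else 0) + min (j - 1) (e i) + min (j + 1) (e i)) := by ring
      _ = (p i).natDegree * (2 * min j (e i)) := by rw [h2]
      _ = 2 * ((p i).natDegree * min j (e i)) := by ring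
  · simp [h]

open Classical in
/-- U4 -/
theorem prod_filter_eq_of_kd {k k' : ℕ} (p : Fin k → F[X]) (e : Fin k → ℕ)
    (p' : Fin k' → F[X]) (e' : Fin k' → ℕ)
    (hp : ∀ i, (p i).Monic ∧ Irreducible (p i)) (hp' : ∀ i, (p' i).Monic ∧ Irreducible (p' i))
    (h : ∀ π : F[X], π.Monic → Irreducible π → ∀ j : ℕ,
      ∑ i, (if π = p i then (p i).natDegree * min j (e i) else 0) =
        ∑ i, (if π = p' i then (p' i).natDegree * min j (e' i) else 0)) :
    ∀ j : ℕ, 1 ≤ j → ∏ i ∈ Finset.univ.filter (fun i => e i = j), p i =
      ∏ i ∈ Finset.univ.filter (fun i => e' i = j), p' i := by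
  intro j hj
  have hcount : ∀ π : F[X], (Finset.univ.filter (fun i => π = p i ∧ e i = j)).card =
      (Finset.univ.filter (fun i => π = p' i ∧ e' i = j)).card := by
    intro π
    by_cases hπ : π.Monic ∧ Irreducible π
    · have hD : 0 < π.natDegree := hπ.2.natDegree_pos
      have e1 := h2_count_identity p e π j hj
      have e2 := h2_count_identity p' e' π j hj
      rw [h π hπ.1 hπ.2 (j - 1), h π hπ.1 hπ.2 (j + 1), h π hπ.1 hπ.2 j] at e1
      have e3 : π.natDegree * (Finset.univ.filter (fun i => π = p i ∧ e i = j)).card =
          π.natDegree * (Finset.univ.filter (fun i => π = p' i ∧ e' i = j)).card := by omega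
      exact Nat.eq_of_mul_eq_mul_left hD e3
    · have h1 : Finset.univ.filter (fun i => π = p i ∧ e i = j) = ∅ := by
        ext i
        simp only [Finset.mem_filter, Finset.mem_univ, true_and, Finset.notMem_empty, iff_false]
        rintro ⟨rfl, _⟩
        exact hπ (hp i)
      have h2 : Finset.univ.filter (fun i => π = p' i ∧ e' i = j) = ∅ := by
        ext i
        simp only [Finset.mem_filter, Finset.mem_univ, true_and, Finset.notMem_empty, iff_false]
        rintro ⟨rfl, _⟩
        exact hπ (hp' i)
      rw [h1, h2, Finset.card_empty, Finset.card_empty]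
  have hms : (Finset.univ.filter (fun i => e i = j)).val.map p =
      (Finset.univ.filter (fun i => e' i = j)).val.map p' := by
    ext π
    rw [Multiset.count_map, Multiset.count_map]
    have := hcount π
    rw [Finset.card_def, Finset.card_def] at this
    simpa [Finset.filter_filter, Finset.filter_val] using this
  rw [Finset.prod_eq_multiset_prod, Finset.prod_eq_multiset_prod, hms]

end Cfsg.Agent.Lib.Helper2.GLk
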