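import Mathlib
import Cfsg.Agent.Lib.Helper2.PSLkDefs
import Cfsg.Agent.Lib.Helper2.SLkMain
import Cfsg.Agent.Lib.Helper2.PSLkData
import Cfsg.Agent.Lib.Helper9.PSLkU7

set_option autoImplicit false
set_option linter.unusedVariables false
set_option linter.unusedSectionVars false
set_option linter.style.longLine false
set_option linter.style.haveILetI false

namespace Cfsg.Agent.Lib.Helper2.GLk

open Polynomial

universe u v

variable {F : Type u} [Field F]

open Classical in
/-- the classes fixed by a central element have invariant data -/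
theorem fixed_le [Fintype F] {n : ℕ} (hn : 1 ≤ n) (z : Matrix.SpecialLinearGroup (Fin n) F)
    (hzc : z ∈ Subgroup.center (Matrix.SpecialLinearGroup (Fin n) F)) (ζ : Fˣ)
    (hz : (z : Matrix (Fin n) (Fin n) F) = (ζ : F) • (1 : Matrix (Fin n) (Fin n) F)) :
    Nat.card {C : ConjClasses (Matrix.SpecialLinearGroup (Fin n) F) // FixedClass z C} ≤
      ∑ f ∈ (TF F n).filter (fun f => ddet f = 1 ∧ ∀ j, scl ζ (f j) = f j),
        Gam (Fintype.card F) f := by
  obtain ⟨Ψ, h1, h2, h3⟩ := exists_data_map (F := F) n hn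
  haveI : Fintype (ConjClasses (Matrix.SpecialLinearGroup (Fin n) F)) := Fintype.ofFinite _
  have key : ∀ C, FixedClass z C → ∀ j : Fin n, scl ζ (Ψ C j) = Ψ C j := by
    intro C hfix j
    obtain ⟨A, k, p, e, hA, hp, hsum, ⟨Φ⟩, hΨ⟩ := h2 C
    obtain ⟨x, hx, hzx⟩ := hfix
    have hxA : IsConj x A := ConjClasses.mk_eq_mk_iff_isConj.1 (hx.trans hA.symm)
    obtain ⟨g, hg⟩ := isConj_iff.1 hxA
    have hzg : g * z = z * g := (Subgroup.mem_center_iff.1 hzc) g
    have hzA : z * A = g * (z * x) * g⁻¹ := by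
      rw [← hg]
      calc z * (g * x * g⁻¹) = (z * g) * x * g⁻¹ := by group
        _ = (g * z) * x * g⁻¹ := by rw [hzg]
        _ = g * (z * x) * g⁻¹ := by group
    have hconj0 : IsConj A (z * A) := by
      have h5 : IsConj (z * x) (z * A) := isConj_iff.2 ⟨g, hzA.symm⟩
      have h6 : ConjClasses.mk (z * A) = ConjClasses.mk A := by
        rw [← ConjClasses.mk_eq_mk_iff_isConj.2 h5, hzx, hA]
      exact (ConjClasses.mk_eq_mk_iff_isConj.1 h6).symm
    have hconj : IsConj (Matrix.SpecialLinearGroup.toGL A) (Matrix.SpecialLinearGroup.toGL (z * A)) :=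
      MonoidHom.map_isConj _ hconj0
    have hB : ((Matrix.SpecialLinearGroup.toGL (z * A) : GL (Fin n) F) : Matrix (Fin n) (Fin n) F) =
        (ζ : F) • ((Matrix.SpecialLinearGroup.toGL A : GL (Fin n) F) : Matrix (Fin n) (Fin n) F) := by
      show ((z * A : Matrix.SpecialLinearGroup (Fin n) F) : Matrix (Fin n) (Fin n) F) =
        (ζ : F) • (A : Matrix (Fin n) (Fin n) F)
      rw [Matrix.SpecialLinearGroup.coe_mul, hz, Matrix.smul_mul, one_mul]
    have hinv := data_scl_invariant (Matrix.SpecialLinearGroup.toGL A)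
      (Matrix.SpecialLinearGroup.toGL (z * A)) ζ hB hconj p e hp Φ (j.val + 1) (by omega)
    rw [hΨ]
    exact hinv
  set S := (Finset.univ : Finset (ConjClasses (Matrix.SpecialLinearGroup (Fin n) F))).filter
    (fun C => FixedClass z C) with hS
  have hSmem : ∀ C ∈ S, Ψ C ∈ (TF F n).filter (fun f => ddet f = 1 ∧ ∀ j, scl ζ (f j) = f j) := by
    intro C hC
    rw [hS, Finset.mem_filter] at hC
    rw [Finset.mem_filter]
    exact ⟨(h1 C).1, (h1 C).2, key C hC.2⟩
  calc Nat.card {C : ConjClasses (Matrix.SpecialLinearGroup (Fin n) F) // FixedClass z C}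
      = S.card := by
        rw [Nat.card_eq_fintype_card, Fintype.card_subtype]
    _ = ∑ f ∈ (TF F n).filter (fun f => ddet f = 1 ∧ ∀ j, scl ζ (f j) = f j),
          (S.filter (fun C => Ψ C = f)).card := Finset.card_eq_sum_card_fiberwise hSmem
    _ ≤ ∑ f ∈ (TF F n).filter (fun f => ddet f = 1 ∧ ∀ j, scl ζ (f j) = f j),
          Gam (Fintype.card F) f := by
        refine Finset.sum_le_sum (fun f _ => ?_)
        calc (S.filter (fun C => Ψ C = f)).card
            ≤ (Finset.univ.filter (fun C => Ψ C = f)).card :=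
              Finset.card_le_card (Finset.filter_subset_filter _ (Finset.subset_univ _))
          _ = Nat.card {C // Ψ C = f} := by
              rw [Nat.card_eq_fintype_card, Fintype.card_subtype]
          _ ≤ Gam (Fintype.card F) f := h3 f

end Cfsg.Agent.Lib.Helper2.GLk
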