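import Mathlib
import Cfsg.Agent.Lib.Helper2.PSLkDefs
import Cfsg.Agent.Lib.Helper2.SLkMain
import Cfsg.Agent.Lib.Helper5.PSLkCtr

set_option autoImplicit false
set_option linter.unusedVariables false
set_option linter.unusedSectionVars false
set_option linter.style.longLine false
set_option linter.style.haveILetI false

namespace Cfsg.Agent.Lib.Helper2.GLk

open Polynomial

universe u v

variable {F : Type u} [Field F]

open Classical in
theorem sum_inv_le [Fintype F] {n t n' : ℕ} (ht : 1 ≤ t) (hn : n = t * n') (ζ : Fˣ) (hζ : orderOf ζ = t) :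
    (Fintype.card F - 1) * ∑ f ∈ (TF F n).filter (fun f => ddet f = 1 ∧ ∀ j, scl ζ (f j) = f j),
        Gam (Fintype.card F) f ≤
      ∑ g ∈ TF F n', (Gam (Fintype.card F) g) ^ 2 := by
  set q := Fintype.card F with hq
  set S := (TF F n).filter (fun f => ddet f = 1 ∧ ∀ j, scl ζ (f j) = f j) with hS
  set b0 : F := (-1) ^ ((t - 1) * n') with hb0
  have hb0sq : b0 * b0 = 1 := by
    rw [hb0, ← pow_add, ← two_mul, pow_mul]
    simp
  have hprops : ∀ f ∈ S, ctr t n' f ∈ T F n' n' ∧ gsz (ctr t n' f) = gsz f ∧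
      ddet f = b0 * ddet (ctr t n' f) ∧
      (∀ j : Fin n, f j = if h : j.val < n' then expand F t (ctr t n' f ⟨j.val, h⟩) else 1) := by
    intro f hf
    rw [hS, Finset.mem_filter, mem_TF] at hf
    exact ctr_props ht hn ζ hζ f hf.1 hf.2.2
  have hmem : ∀ f ∈ S, ctr t n' f ∈ (TF F n').filter (fun g => ddet g = b0) := by
    intro f hf
    obtain ⟨h1, h2, h3, h4⟩ := hprops f hf
    rw [Finset.mem_filter, mem_TF]
    refine ⟨h1, ?_⟩
    have hf1 : ddet f = 1 := by
      rw [hS, Finset.mem_filter] at hf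
      exact hf.2.1
    rw [hf1] at h3
    calc ddet (ctr t n' f) = (b0 * b0) * ddet (ctr t n' f) := by rw [hb0sq, one_mul]
      _ = b0 * (b0 * ddet (ctr t n' f)) := by ring
      _ = b0 := by rw [← h3, mul_one]
  have hinj : Set.InjOn (ctr t n' (n := n) (F := F)) (S : Set (Fin n → F[X])) := by
    intro f hf f' hf' hcc
    obtain ⟨_, _, _, h4⟩ := hprops f hf
    obtain ⟨_, _, _, h4'⟩ := hprops f' hf'
    funext j
    rw [h4 j, h4' j, hcc]
  have hGam : ∀ f ∈ S, Gam q f = Gam q (ctr t n' f) := by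
    intro f hf
    obtain ⟨_, h2, _, _⟩ := hprops f hf
    unfold Gam
    rw [h2]
  calc (q - 1) * ∑ f ∈ S, Gam q f
      = (q - 1) * ∑ f ∈ S, Gam q (ctr t n' f) := by
        rw [Finset.sum_congr rfl hGam]
    _ = (q - 1) * ∑ g ∈ S.image (ctr t n'), Gam q g := by
        rw [Finset.sum_image hinj]
    _ ≤ (q - 1) * ∑ g ∈ (TF F n').filter (fun g => ddet g = b0), Gam q g := by
        apply Nat.mul_le_mul_left
        apply Finset.sum_le_sum_of_subset
        intro g hg
        obtain ⟨f, hf, rfl⟩ := Finset.mem_image.1 hg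
        exact hmem f hf
    _ ≤ ∑ g ∈ TF F n', (Gam q g) ^ 2 := sum_Gam_le_gen n' b0

end Cfsg.Agent.Lib.Helper2.GLk
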