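import Mathlib
import Cfsg.Agent.Lib.Helper2.PSLkDefs
import Cfsg.Agent.Lib.Helper2.SLkMain
import Cfsg.Agent.Lib.Helper2.PSLkData
import Cfsg.Agent.Lib.Helper2.PSLkFixed
import Cfsg.Agent.Lib.Helper2.PSLkInvSum
import Cfsg.Agent.Lib.Helper4.PSLkBurnside
import Cfsg.Agent.Lib.Helper4.PSLkCenter
import Cfsg.Agent.Lib.Helper7.PSLkNumSmall
import Cfsg.Agent.Lib.Helper7.PSLkNumPsl

set_option autoImplicit false
set_option linter.unusedVariables false
set_option linter.unusedSectionVars false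
set_option linter.style.longLine false
set_option linter.style.haveILetI false

namespace Cfsg.Agent.Lib.Helper2.GLk

open Polynomial

universe u v

variable {F : Type u} [Field F]

theorem sl_le_sumsq [Fintype F] (n : ℕ) (hn : 1 ≤ n) :
    (Fintype.card F - 1) * Nat.card (ConjClasses (Matrix.SpecialLinearGroup (Fin n) F)) ≤
      ∑ f ∈ TF F n, (Gam (Fintype.card F) f) ^ 2 := by
  classical
  calc (Fintype.card F - 1) * Nat.card (ConjClasses (Matrix.SpecialLinearGroup (Fin n) F))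
      ≤ (Fintype.card F - 1) * ∑ f ∈ (TF F n).filter (fun f => ddet f = 1), Gam (Fintype.card F) f :=
        Nat.mul_le_mul_left _ (sl_upper_sum n hn)
    _ ≤ ∑ f ∈ TF F n, (Gam (Fintype.card F) f) ^ 2 := sum_Gam_le n

theorem bounds_of_le_sumsq [Fintype F] (n' : ℕ) (hn' : 1 ≤ n') (k' : ℕ)
    (h : (Fintype.card F - 1) * k' ≤ ∑ g ∈ TF F n', (Gam (Fintype.card F) g) ^ 2) :
    (n' = 1 → k' ≤ 1) ∧ (n' = 2 → k' ≤ Fintype.card F + 4) ∧
      (2 ≤ n' → 2 * k' ≤ 5 * Fintype.card F ^ (n' - 1)) ∧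
      (3 ≤ n' → k' ≤ Fintype.card F ^ (n' - 1) + 3 * Fintype.card F ^ (n' - 2)) := by
  classical
  set q := Fintype.card F with hq
  have hq2 : 2 ≤ q := Fintype.one_lt_card
  have H1 : (q - 1) * k' ≤
      ∑ t ∈ (Nat.gcd n' (q - 1)).divisors, ∑ t' ∈ (Nat.gcd n' (q - 1)).divisors,
        Nat.totient t * Nat.totient t' * ((TF F n').filter (fun f => Nat.lcm t t' ∣ gsz f)).card := by
    rw [← sum_Gam_sq hn']
    exact h
  have hK : ∀ m : ℕ, 1 ≤ m → K q m m ≤ q ^ m - 1 := by
    intro m hm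
    have h3 : q ^ m * K q m m ≤ (q ^ m - 1) * q ^ m := K_bound q hq2 m hm m hm
    have hqm : 0 < q ^ m := Nat.pos_of_ne_zero (pow_ne_zero _ (by omega))
    rw [mul_comm (q ^ m - 1)] at h3
    exact Nat.le_of_mul_le_mul_left h3 hqm
  have H2 : ∀ r, 1 ≤ r → r ∣ n' → ((TF F n').filter (fun f => r ∣ gsz f)).card ≤ q ^ (n' / r) - 1 := by
    intro r hr hrn
    have h1 := card_filter_dvd_le (F := F) hr hrn
    have h2 : 1 ≤ n' / r := by
      obtain ⟨s, rfl⟩ := hrn
      rw [Nat.mul_div_cancel_left _ (by omega)]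
      rcases Nat.eq_zero_or_pos s with h | h
      · subst h; omega
      · exact h
    exact h1.trans (hK _ h2)
  have H3 : n' = 3 → ((TF F n').filter (fun f => 1 ∣ gsz f)).card ≤ q ^ 3 - q := by
    intro h3
    subst h3
    have h1 := card_filter_dvd_le (F := F) (n := 3) (r := 1) le_rfl (one_dvd _)
    rw [Nat.div_one, K_three q hq2] at h1
    exact h1
  have hsmall := numeric_small q n' k' (fun r => ((TF F n').filter (fun f => r ∣ gsz f)).card) hq2 hn' H1 H2
  refine ⟨hsmall.1, hsmall.2, ?_, ?_⟩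
  · intro h2
    exact (numeric_main q n' k' (fun r => ((TF F n').filter (fun f => r ∣ gsz f)).card) hq2 h2 H1 H2 H3).1
  · intro h3
    exact (numeric_main q n' k' (fun r => ((TF F n').filter (fun f => r ∣ gsz f)).card) hq2 (by omega) H1 H2 H3).2 h3

theorem psl_main [Fintype F] (n : ℕ) (hn : 2 ≤ n) :
    Fintype.card F ^ (n - 1) ≤ Nat.gcd n (Fintype.card F - 1) *
        Nat.card (ConjClasses (Matrix.ProjectiveSpecialLinearGroup (Fin n) F)) ∧
      Nat.gcd n (Fintype.card F - 1) *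
        Nat.card (ConjClasses (Matrix.ProjectiveSpecialLinearGroup (Fin n) F)) ≤
      Fintype.card F ^ (n - 1) + 5 * Fintype.card F ^ (n - 2) := by
  classical
  set q := Fintype.card F with hq
  have hq2 : 2 ≤ q := Fintype.one_lt_card
  have hn1 : 1 ≤ n := by omega
  haveI : Fintype (Subgroup.center (Matrix.SpecialLinearGroup (Fin n) F)) := Fintype.ofFinite _
  have hB := burnside_center (Matrix.SpecialLinearGroup (Fin n) F)
  rw [card_center_sl hn1] at hB
  set ks := Nat.card (ConjClasses (Matrix.SpecialLinearGroup (Fin n) F)) with hks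
  set fz : Subgroup.center (Matrix.SpecialLinearGroup (Fin n) F) → ℕ :=
    fun z => Nat.card {C : ConjClasses (Matrix.SpecialLinearGroup (Fin n) F) //
      FixedClass (z : Matrix.SpecialLinearGroup (Fin n) F) C} with hfz
  have hsplit : ∑ z : Subgroup.center (Matrix.SpecialLinearGroup (Fin n) F), fz z =
      fz 1 + ∑ z ∈ (Finset.univ.erase (1 : Subgroup.center (Matrix.SpecialLinearGroup (Fin n) F))), fz z :=
    (Finset.add_sum_erase _ _ (Finset.mem_univ _)).symm
  have hfz1 : fz 1 = ks := by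
    have hall : ∀ C : ConjClasses (Matrix.SpecialLinearGroup (Fin n) F),
        FixedClass (((1 : Subgroup.center (Matrix.SpecialLinearGroup (Fin n) F)) :
          Matrix.SpecialLinearGroup (Fin n) F)) C := by
      intro C
      obtain ⟨x, rfl⟩ := ConjClasses.mk_surjective C
      exact ⟨x, rfl, by rw [Subgroup.coe_one, one_mul]⟩
    exact Nat.card_congr (Equiv.subtypeUnivEquiv hall)
  have hmain : Nat.gcd n (q - 1) *
      Nat.card (ConjClasses (Matrix.ProjectiveSpecialLinearGroup (Fin n) F)) =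
      ks + ∑ z ∈ (Finset.univ.erase (1 : Subgroup.center (Matrix.SpecialLinearGroup (Fin n) F))), fz z := by
    rw [← hfz1, ← hsplit]
    exact hB
  have hsl := sl_main (F := F) n hn
  have hslsq := sl_le_sumsq (F := F) n hn1
  have hksb := bounds_of_le_sumsq (F := F) n hn1 ks hslsq
  have hcardZ : (Finset.univ.erase (1 : Subgroup.center (Matrix.SpecialLinearGroup (Fin n) F))).card =
      Nat.gcd n (q - 1) - 1 := by
    rw [Finset.card_erase_of_mem (Finset.mem_univ _), Finset.card_univ, ← Nat.card_eq_fintype_card,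
      card_center_sl hn1]
  have hfzb : ∀ z ∈ (Finset.univ.erase (1 : Subgroup.center (Matrix.SpecialLinearGroup (Fin n) F))),
      ∃ t n', 2 ≤ t ∧ n = t * n' ∧ (n' = 1 → fz z ≤ 1) ∧ (n' = 2 → fz z ≤ q + 4) ∧
        (2 ≤ n' → 2 * fz z ≤ 5 * q ^ (n' - 1)) := by
    intro z hzmem
    have hz1 : z ≠ 1 := (Finset.mem_erase.1 hzmem).1
    obtain ⟨ζ, hζn, hζ⟩ := center_sl_scalar hn1 (z : Matrix.SpecialLinearGroup (Fin n) F) z.2
    have hζ1 : ζ ≠ 1 := by
      intro h
      apply hz1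
      apply Subtype.ext
      apply Subtype.ext
      rw [hζ, h]
      simp
    have htn : orderOf ζ ∣ n := orderOf_dvd_of_pow_eq_one hζn
    have ht0 : 0 < orderOf ζ := orderOf_pos ζ
    have ht1 : orderOf ζ ≠ 1 := by
      intro h
      exact hζ1 (orderOf_eq_one_iff.1 h)
    obtain ⟨n', hn'⟩ := htn
    have hn'1 : 1 ≤ n' := by
      rcases Nat.eq_zero_or_pos n' with h | h
      · subst h; omega
      · exact h
    have h1 := fixed_le hn1 (z : Matrix.SpecialLinearGroup (Fin n) F) z.2 ζ hζ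
    have h2 := sum_inv_le (F := F) (n := n) (t := orderOf ζ) (n' := n') ht0 hn' ζ rfl
    have h3 : (q - 1) * fz z ≤ ∑ g ∈ TF F n', (Gam q g) ^ 2 :=
      (Nat.mul_le_mul_left _ h1).trans h2
    have h4 := bounds_of_le_sumsq (F := F) n' hn'1 (fz z) h3
    exact ⟨orderOf ζ, n', by omega, hn', h4.1, h4.2.1, h4.2.2.1⟩
  have hnum := numeric_psl q n (Nat.gcd n (q - 1)) ks
    (Finset.univ.erase (1 : Subgroup.center (Matrix.SpecialLinearGroup (Fin n) F))) fz hq2 hn rfl hcardZ
    (fun h2 => hksb.2.1 h2) (fun h3 => hsl.2.2 h3) hfzb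
  constructor
  · rw [hmain]
    exact (le_of_lt hsl.1).trans (Nat.le_add_right _ _)
  · rw [hmain]
    exact hnum

end Cfsg.Agent.Lib.Helper2.GLk
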