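import Cfsg.Agent.Lib.Helper2.PU2bBeta3

set_option autoImplicit false

/-!
# S4385, case IIb : the case `y⁻¹ w0 y` central, words of length 2
-/

namespace Cfsg.Agent.Lib.Helper2.PU

variable {G : Type*} [Group G] {H P T V M : Subgroup G} {y w0 : G}

namespace Hyp

/-- `y⁻¹ v y = y v'' y⁻¹` for some `v'' ∈ V` -/
theorem conj_yinv_eq (h : Hyp H P T V M y w0) {v : G} (hv : v ∈ V) :
    ∃ v' ∈ V, y⁻¹ * v * y = y * v' * y⁻¹ := by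
  obtain ⟨p0, hp0, hp⟩ := h.hy2
  refine ⟨p0⁻¹ * v * p0, h.inv_conj_V (h.hPH hp0) hv, ?_⟩
  have hmem : p0⁻¹ * v * p0 ∈ P := h.hTP (h.hVT (h.inv_conj_V (h.hPH hp0) hv))
  have := hp _ hmem
  have e : p0 * (p0⁻¹ * v * p0) * p0⁻¹ = v := by group
  rw [e] at this
  calc y⁻¹ * v * y = y⁻¹ * (y * y * (p0⁻¹ * v * p0) * y⁻¹ * y⁻¹) * y := by rw [this]
    _ = y * (p0⁻¹ * v * p0) * y⁻¹ := by group

/-- elements `y v y⁻¹` with `v` central in `P` commute with `P` -/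
theorem u_central (h : Hyp H P T V M y w0) {v : G}
    (hvc : ∀ p ∈ P, p * v = v * p) {p : G} (hp : p ∈ P) :
    p * (y * v * y⁻¹) = (y * v * y⁻¹) * p := by
  have := hvc _ (h.hyP' p hp)
  calc p * (y * v * y⁻¹) = y * ((y⁻¹ * p * y) * v) * y⁻¹ := by group
    _ = y * (v * (y⁻¹ * p * y)) * y⁻¹ := by rw [this]
    _ = (y * v * y⁻¹) * p := by group

/-- in case beta, `y w0 y⁻¹ = y⁻¹ w0 y` -/
theorem y_w0 (h : Hyp H P T V M y w0)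
    (hz : ∀ a ∈ H, a * (y⁻¹ * w0 * y) = (y⁻¹ * w0 * y) * a) :
    y * w0 * y⁻¹ = y⁻¹ * w0 * y := by
  obtain ⟨p0, hp0, hp⟩ := h.hy2
  have hzP : y⁻¹ * w0 * y ∈ P := h.hyP' _ (h.hTP (h.hVT h.hw0V))
  have h1 := hp _ hzP
  have h2 := hz p0 (h.hPH hp0)
  calc y * w0 * y⁻¹ = y * y * (y⁻¹ * w0 * y) * y⁻¹ * y⁻¹ := by group
    _ = p0 * (y⁻¹ * w0 * y) * p0⁻¹ := h1
    _ = (y⁻¹ * w0 * y) * p0 * p0⁻¹ := by rw [h2]
    _ = y⁻¹ * w0 * y := by group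

/-- commutators of `T` with conjugates `c (y v y⁻¹) c⁻¹` lie in `{1, z}` in case beta -/
theorem comm_U (h : Hyp H P T V M y w0)
    (hz : ∀ a ∈ H, a * (y⁻¹ * w0 * y) = (y⁻¹ * w0 * y) * a) {c x v : G} (hc : c ∈ H)
    (hx : x ∈ T) (hv : v ∈ V) :
    x * (c * (y * v * y⁻¹) * c⁻¹) * x⁻¹ * (c * (y * v * y⁻¹) * c⁻¹)⁻¹ = 1 ∨
    x * (c * (y * v * y⁻¹) * c⁻¹) * x⁻¹ * (c * (y * v * y⁻¹) * c⁻¹)⁻¹ = y⁻¹ * w0 * y := by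
  have hx1 : c⁻¹ * x * c ∈ T := h.inv_conj_T hc hx
  have hx2 : y⁻¹ * (c⁻¹ * x * c) * y ∈ P := h.hyP' _ (h.hTP hx1)
  have e : x * (c * (y * v * y⁻¹) * c⁻¹) * x⁻¹ * (c * (y * v * y⁻¹) * c⁻¹)⁻¹ =
      c * (y * ((y⁻¹ * (c⁻¹ * x * c) * y) * v * (y⁻¹ * (c⁻¹ * x * c) * y)⁻¹ * v⁻¹) * y⁻¹) * c⁻¹ := by
    group
  rcases h.hw0 _ hx2 v hv with e1 | e1
  · left; rw [e, e1]; group
  · right
    rw [e, e1, h.y_w0 hz]
    have := hz c hc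
    calc c * (y⁻¹ * w0 * y) * c⁻¹ = (y⁻¹ * w0 * y) * c * c⁻¹ := by rw [this]
      _ = y⁻¹ * w0 * y := by group

theorem z_sq (h : Hyp H P T V M y w0) : (y⁻¹ * w0 * y) * (y⁻¹ * w0 * y) = 1 := by
  have : (y⁻¹ * w0 * y) * (y⁻¹ * w0 * y) = y⁻¹ * (w0 * w0) * y := by group
  rw [this, h.w0_sq]; group

theorem z_ne_one (h : Hyp H P T V M y w0) : y⁻¹ * w0 * y ≠ 1 := by
  intro e
  apply h.w0_ne_one
  have : w0 = y * (y⁻¹ * w0 * y) * y⁻¹ := by group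
  rw [this, e]; group

/-- non-commuting pairs from the shift, length 2 -/
theorem nc (h : Hyp H P T V M y w0) (hS : S H T V y 1) {a1 ab : G}
    (ha1 : a1 ∈ H) (hab : ab ∈ H) (hcrit : Crit V (a1 * y * (1 * ab * y))) {c : G}
    (hc : c ∈ H) (hcM : c ∉ M) :
    ∃ v0 ∈ V, ∃ v1 ∈ V, (y * v0 * y⁻¹) * (c * (y * v1 * y⁻¹) * c⁻¹) ≠
      (c * (y * v1 * y⁻¹) * c⁻¹) * (y * v0 * y⁻¹) := by
  have hcr := h.shift (k := 0) hS ha1 hab Wd.zero hc hcM hcrit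
  obtain ⟨v, hv, v', hv', hne⟩ := hcr
  obtain ⟨v0, hv0, e0⟩ := h.conj_yinv_eq hv
  refine ⟨v0, hv0, v', hv', ?_⟩
  intro heq
  apply hne
  rw [← e0] at heq
  have e1 : v * ((1 * y * (c * y * 1)) * v' * (1 * y * (c * y * 1))⁻¹) =
      y * ((y⁻¹ * v * y) * (c * (y * v' * y⁻¹) * c⁻¹)) * y⁻¹ := by group
  have e2 : ((1 * y * (c * y * 1)) * v' * (1 * y * (c * y * 1))⁻¹) * v =
      y * ((c * (y * v' * y⁻¹) * c⁻¹) * (y⁻¹ * v * y)) * y⁻¹ := by group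
  rw [e1, e2, heq]

end Hyp

end Cfsg.Agent.Lib.Helper2.PU
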