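import Cfsg.Agent.Lib.Helper2.PU2bShift

set_option autoImplicit false

/-!
# S4385, case IIb : the case `y⁻¹ w0 y` central, words of length at least 3
-/

namespace Cfsg.Agent.Lib.Helper2.PU

variable {G : Type*} [Group G] {H P T V M : Subgroup G} {y w0 : G}

namespace Hyp

theorem exists_not_mem_M (h : Hyp H P T V M y w0) : ∃ c ∈ H, c ∉ M := by
  obtain ⟨b, hb, hbM, -⟩ := h.hidx3 1 H.one_mem
  exact ⟨b, hb, hbM⟩

/-- `y⁻¹ (y⁻¹ w0 y) y = w0` -/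
theorem yy_w0 (h : Hyp H P T V M y w0) : y⁻¹ * (y⁻¹ * w0 * y) * y = w0 := by
  obtain ⟨p0, hp0, hp⟩ := h.hy2
  have h1 := hp w0 (h.hTP (h.hVT h.hw0V))
  rw [h.w0_central hp0] at h1
  calc y⁻¹ * (y⁻¹ * w0 * y) * y = y⁻¹ * (y⁻¹ * (y * y * w0 * y⁻¹ * y⁻¹) * y) * y := by rw [h1]
    _ = w0 := by group

/-- if `z = y⁻¹ w0 y` is central in `H`, the constant of `l1a` is `z` itself -/
theorem kappa (h : Hyp H P T V M y w0) {k : ℕ} (hS : S H T V y (k + 1)) {a1 ab m : G}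
    (ha1 : a1 ∈ H) (hab : ab ∈ H) (hm : Wd H y k m)
    (hcrit : Crit V (a1 * y * (m * ab * y)))
    (hz : ∀ a ∈ H, a * (y⁻¹ * w0 * y) = (y⁻¹ * w0 * y) * a) :
    y * m * w0 * m⁻¹ * y⁻¹ = y⁻¹ * w0 * y := by
  obtain ⟨c, hc, hcM⟩ := h.exists_not_mem_M
  have h1 := h.l1a hS ha1 hab hm hc hcM hcrit
  have h2 := hz c⁻¹ (H.inv_mem hc)
  calc y * m * w0 * m⁻¹ * y⁻¹ = c⁻¹ * (c * (y * m * w0 * m⁻¹ * y⁻¹) * c⁻¹) * c := by group
    _ = c⁻¹ * (y⁻¹ * w0 * y) * c := by rw [h1]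
    _ = (y⁻¹ * w0 * y) * c⁻¹ * c := by rw [h2]
    _ = y⁻¹ * w0 * y := by group

/-- case beta, length at least 3 : contradiction -/
theorem beta3 (h : Hyp H P T V M y w0) {j : ℕ} (hS : S H T V y (j + 2)) {a1 ab m : G}
    (ha1 : a1 ∈ H) (hab : ab ∈ H) (hm : Wd H y (j + 1) m)
    (hcrit : Crit V (a1 * y * (m * ab * y)))
    (hz : ∀ a ∈ H, a * (y⁻¹ * w0 * y) = (y⁻¹ * w0 * y) * a) : False := by
  apply h.hw0H
  obtain ⟨m0, hm0, a', ha', rfl⟩ := hm.exists_right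
  have hm : Wd H y (j + 1) (m0 * a' * y) := hm0.snoc ha'
  apply h.central_of_const (x := y * m0 * w0 * m0⁻¹ * y⁻¹)
  intro c hc hcM
  have hcr := h.shift hS ha1 hab hm hc hcM hcrit
  have e : (1 : G) * y * (c * y * (m0 * a' * y)) = 1 * y * ((c * y * m0) * a' * y) := by group
  rw [e] at hcr
  have hk := h.kappa hS H.one_mem ha' (Wd.succ hc hm0) hcr hz
  calc c * (y * m0 * w0 * m0⁻¹ * y⁻¹) * c⁻¹
      = y⁻¹ * (y * (c * y * m0) * w0 * (c * y * m0)⁻¹ * y⁻¹) * y := by group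
    _ = y⁻¹ * (y⁻¹ * w0 * y) * y := by rw [hk]
    _ = w0 := h.yy_w0

end Hyp

end Cfsg.Agent.Lib.Helper2.PU
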