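import Cfsg.Agent.Lib.Helper2.PU2bDefs

set_option autoImplicit false

/-!
# S4385, case IIb : critical words, the label identity
-/

namespace Cfsg.Agent.Lib.Helper2.PU

variable {G : Type*} [Group G] {H P T V M : Subgroup G} {y w0 : G}

namespace Hyp

theorem inv_conj_T (h : Hyp H P T V M y w0) {a x : G} (ha : a ∈ H) (hx : x ∈ T) :
    a⁻¹ * x * a ∈ T := by
  have := h.hTn a⁻¹ (H.inv_mem ha) x hx
  simpa using this

theorem inv_conj_V (h : Hyp H P T V M y w0) {a v : G} (ha : a ∈ H) (hv : v ∈ V) :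
    a⁻¹ * v * a ∈ V := by
  have := h.hVn a⁻¹ (H.inv_mem ha) v hv
  simpa using this

theorem w0_ne_one (h : Hyp H P T V M y w0) : w0 ≠ 1 := by
  intro e
  apply h.hw0H
  intro a _
  rw [e]; simp

theorem w0_sq (h : Hyp H P T V M y w0) : w0 * w0 = 1 := h.hV2 w0 h.hw0V

theorem w0_inv (h : Hyp H P T V M y w0) : w0⁻¹ = w0 :=
  inv_eq_of_mul_eq_one_left h.w0_sq

theorem TH (h : Hyp H P T V M y w0) : T ≤ H := h.hTP.trans h.hPH

theorem VH (h : Hyp H P T V M y w0) : V ≤ H := h.hVT.trans h.TH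

/-- `w0` is central in `P` -/
theorem w0_central (h : Hyp H P T V M y w0) {p : G} (hp : p ∈ P) : p * w0 * p⁻¹ = w0 := by
  rcases h.hw0 p hp w0 h.hw0V with e | e
  · have : p * w0 * p⁻¹ = (p * w0 * p⁻¹ * w0⁻¹) * w0 := by group
    rw [this, e, one_mul]
  · exfalso
    have : p * w0 * p⁻¹ = (p * w0 * p⁻¹ * w0⁻¹) * w0 := by group
    rw [e, h.w0_sq] at this
    have h2 : w0 = p⁻¹ * (p * w0 * p⁻¹) * p := by group
    rw [this] at h2
    apply h.w0_ne_one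
    rw [h2]; group

/-- first containment: `g V g⁻¹ ≤ a₁ P a₁⁻¹` -/
theorem c1 (h : Hyp H P T V M y w0) {k : ℕ} (hS : S H T V y (k + 1)) {a1 g1 : G}
    (hg1 : Wd H y (k + 1) g1) {v : G} (hv : v ∈ V) :
    a1⁻¹ * ((a1 * y * g1) * v * (a1 * y * g1)⁻¹) * a1 ∈ P := by
  have h1 := (hS g1 hg1 v hv).1
  have h2 := h.hyP _ (h.hTP h1)
  have e : a1⁻¹ * ((a1 * y * g1) * v * (a1 * y * g1)⁻¹) * a1 = y * (g1 * v * g1⁻¹) * y⁻¹ := by
    group
  rw [e]; exact h2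

/-- second containment: `V ≤ g P g⁻¹` -/
theorem c2 (h : Hyp H P T V M y w0) {k : ℕ} (hS : S H T V y (k + 1)) {g' ab : G}
    (hg' : Wd H y (k + 1) g') (hab : ab ∈ H) {v : G} (hv : v ∈ V) :
    (g' * ab * y)⁻¹ * v * (g' * ab * y) ∈ P := by
  have h1 := (hS g' hg' v hv).2
  have h2 := h.inv_conj_T hab h1
  have h3 := h.hyP' _ (h.hTP h2)
  have e : (g' * ab * y)⁻¹ * v * (g' * ab * y) = y⁻¹ * (ab⁻¹ * (g'⁻¹ * v * g') * ab) * y := by
    group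
  rw [e]; exact h3

theorem c2' (h : Hyp H P T V M y w0) {k : ℕ} (hS : S H T V y (k + 1)) {g : G}
    (hg : Wd H y (k + 2) g) {v : G} (hv : v ∈ V) : g⁻¹ * v * g ∈ P := by
  obtain ⟨g', hg', ab, hab, rfl⟩ := hg.exists_right
  exact h.c2 hS hg' hab hv

/-- a non-critical word of length `k+2` satisfies `S` -/
theorem noncrit (h : Hyp H P T V M y w0) {k : ℕ} (hS : S H T V y (k + 1)) {g : G}
    (hg : Wd H y (k + 2) g) (hc : ¬ Crit V g) :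
    ∀ v ∈ V, g * v * g⁻¹ ∈ T ∧ g⁻¹ * v * g ∈ T := by
  have hcomm : ∀ v ∈ V, ∀ v' ∈ V, v * (g * v' * g⁻¹) = (g * v' * g⁻¹) * v := by
    intro v hv v' hv'
    by_contra hne
    exact hc ⟨v, hv, v', hv', hne⟩
  intro v' hv'
  constructor
  · obtain ⟨a1, ha1, g1, hg1, rfl⟩ := hg.exists_left
    have hp := h.c1 (a1 := a1) hS hg1 hv'
    set e := (a1 * y * g1) * v' * (a1 * y * g1)⁻¹ with he
    have hpT : a1⁻¹ * e * a1 ∈ T := by
      apply h.hCPV _ hp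
      intro v hv
      have hv2 : a1 * v * a1⁻¹ ∈ V := h.hVn a1 ha1 v hv
      have := hcomm _ hv2 v' hv'
      calc a1⁻¹ * e * a1 * v = a1⁻¹ * (e * (a1 * v * a1⁻¹)) * a1 := by group
        _ = a1⁻¹ * ((a1 * v * a1⁻¹) * e) * a1 := by rw [← this]
        _ = v * (a1⁻¹ * e * a1) := by group
    have := h.hTn a1 ha1 _ hpT
    have e2 : a1 * (a1⁻¹ * e * a1) * a1⁻¹ = e := by group
    rw [e2] at this
    exact this
  · have hp := h.c2' hS hg hv'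
    apply h.hCPV _ hp
    intro v hv
    have := hcomm v' hv' v hv
    calc g⁻¹ * v' * g * v = g⁻¹ * (v' * (g * v * g⁻¹)) * g := by group
      _ = g⁻¹ * ((g * v * g⁻¹) * v') * g := by rw [this]
      _ = v * (g⁻¹ * v' * g) := by group

/-- the label identity `(**)` -/
theorem label (h : Hyp H P T V M y w0) {k : ℕ} (hS : S H T V y (k + 1)) {a1 g1 : G}
    (ha1 : a1 ∈ H) (hg1 : Wd H y (k + 1) g1) (hc : Crit V (a1 * y * g1)) :
    (a1 * y * g1) * w0 * (a1 * y * g1)⁻¹ = a1 * w0 * a1⁻¹ := by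
  obtain ⟨v, hv, v', hv', hne⟩ := hc
  have hg : Wd H y (k + 2) (a1 * y * g1) := Wd.succ ha1 hg1
  set g := a1 * y * g1 with hgdef
  set e := g * v' * g⁻¹ with he
  -- (i)
  have hp : a1⁻¹ * e * a1 ∈ P := h.c1 (a1 := a1) hS hg1 hv'
  have hv2 : a1⁻¹ * v * a1 ∈ V := h.inv_conj_V ha1 hv
  have h1 : e * v * e⁻¹ * v⁻¹ = a1 * w0 * a1⁻¹ := by
    rcases h.hw0 _ hp _ hv2 with e1 | e1
    · exfalso
      apply hne
      have : e * v * e⁻¹ * v⁻¹ = 1 := by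
        have e3 : e * v * e⁻¹ * v⁻¹ = a1 * ((a1⁻¹ * e * a1) * (a1⁻¹ * v * a1) * (a1⁻¹ * e * a1)⁻¹ *
            (a1⁻¹ * v * a1)⁻¹) * a1⁻¹ := by group
        rw [e3, e1]; group
      have h4 : e * v = v * e := by
        have : e * v = (e * v * e⁻¹ * v⁻¹) * (v * e) := by group
        rw [this, ‹e * v * e⁻¹ * v⁻¹ = 1›, one_mul]
      exact h4.symm
    · have e3 : e * v * e⁻¹ * v⁻¹ = a1 * ((a1⁻¹ * e * a1) * (a1⁻¹ * v * a1) * (a1⁻¹ * e * a1)⁻¹ *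
          (a1⁻¹ * v * a1)⁻¹) * a1⁻¹ := by group
      rw [e3, e1]
  -- (ii)
  have hp' : g⁻¹ * v * g ∈ P := h.c2' hS hg hv
  have h2 : v * e * v⁻¹ * e⁻¹ = g * w0 * g⁻¹ := by
    rcases h.hw0 _ hp' _ hv' with e1 | e1
    · exfalso
      apply hne
      have e3 : v * e * v⁻¹ * e⁻¹ = g * ((g⁻¹ * v * g) * v' * (g⁻¹ * v * g)⁻¹ * v'⁻¹) * g⁻¹ := by
        rw [he]; group
      have : v * e * v⁻¹ * e⁻¹ = 1 := by rw [e3, e1]; group
      have : v * e = (v * e * v⁻¹ * e⁻¹) * (e * v) := by group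
      rw [this, ‹v * e * v⁻¹ * e⁻¹ = 1›, one_mul]
    · have e3 : v * e * v⁻¹ * e⁻¹ = g * ((g⁻¹ * v * g) * v' * (g⁻¹ * v * g)⁻¹ * v'⁻¹) * g⁻¹ := by
        rw [he]; group
      rw [e3, e1]
  have h3 : v * e * v⁻¹ * e⁻¹ = (e * v * e⁻¹ * v⁻¹)⁻¹ := by group
  rw [← h2, h3, h1]
  have : (a1 * w0 * a1⁻¹)⁻¹ = a1 * w0⁻¹ * a1⁻¹ := by group
  rw [this, h.w0_inv]

end Hyp

end Cfsg.Agent.Lib.Helper2.PU
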