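import Mathlib

set_option autoImplicit false

/-!
# S4385, case IIb : abstract hypotheses and words

`Wd H y k g` : `g = a₁ y a₂ y ⋯ a_k y` with all `a_i ∈ H`.
`Hyp` : the facts of S4385 (case II, sub-case IIb: `U = y V y⁻¹ ≤ T`) that are used to
derive a contradiction.  `M` plays the role of `N_H(U V)`.
-/

namespace Cfsg.Agent.Lib.Helper2.PU

variable {G : Type*} [Group G]

/-- words `a₁ y a₂ y ⋯ a_k y` with letters in `H` -/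
inductive Wd (H : Subgroup G) (y : G) : ℕ → G → Prop
  | zero : Wd H y 0 1
  | succ {k : ℕ} {g a : G} : a ∈ H → Wd H y k g → Wd H y (k + 1) (a * y * g)

theorem Wd.eq_one {H : Subgroup G} {y g : G} (h : Wd H y 0 g) : g = 1 := by
  cases h
  rfl

theorem Wd.snoc {H : Subgroup G} {y : G} {k : ℕ} {g a : G} (hg : Wd H y k g) (ha : a ∈ H) :
    Wd H y (k + 1) (g * a * y) := by
  induction hg with
  | zero =>
    have h := Wd.succ (y := y) ha (Wd.zero (H := H) (y := y))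
    have e : a * y * 1 = 1 * a * y := by group
    rw [e] at h
    exact h
  | @succ k g b hb _ ih =>
    have h := Wd.succ (y := y) hb ih
    have e : b * y * (g * a * y) = b * y * g * a * y := by group
    rw [e] at h
    exact h

theorem Wd.exists_left {H : Subgroup G} {y : G} {k : ℕ} {g : G} (h : Wd H y (k + 1) g) :
    ∃ a ∈ H, ∃ g1, Wd H y k g1 ∧ g = a * y * g1 := by
  cases h with
  | succ ha hg => exact ⟨_, ha, _, hg, rfl⟩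

theorem Wd.exists_right {H : Subgroup G} {y : G} {k : ℕ} {g : G} (h : Wd H y (k + 1) g) :
    ∃ g', Wd H y k g' ∧ ∃ a ∈ H, g = g' * a * y := by
  induction k generalizing g with
  | zero =>
    obtain ⟨a, ha, g1, hg1, rfl⟩ := h.exists_left
    have := hg1.eq_one
    subst this
    exact ⟨1, Wd.zero, a, ha, by group⟩
  | succ k ih =>
    obtain ⟨a, ha, g1, hg1, rfl⟩ := h.exists_left
    obtain ⟨g', hg', b, hb, rfl⟩ := ih hg1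
    exact ⟨a * y * g', Wd.succ ha hg', b, hb, by group⟩

/-- middle decomposition of a word of length `k + 2` -/
theorem Wd.exists_mid {H : Subgroup G} {y : G} {k : ℕ} {g : G} (h : Wd H y (k + 2) g) :
    ∃ a ∈ H, ∃ b ∈ H, ∃ m, Wd H y k m ∧ g = a * y * m * b * y := by
  obtain ⟨a, ha, g1, hg1, rfl⟩ := h.exists_left
  obtain ⟨m, hm, b, hb, rfl⟩ := hg1.exists_right
  exact ⟨a, ha, b, hb, m, hm, by group⟩

/-- the hypotheses of case IIb -/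
structure Hyp (H P T V M : Subgroup G) (y w0 : G) : Prop where
  hTP : T ≤ P
  hPH : P ≤ H
  hTn : ∀ a ∈ H, ∀ x ∈ T, a * x * a⁻¹ ∈ T
  hVn : ∀ a ∈ H, ∀ v ∈ V, a * v * a⁻¹ ∈ V
  hVT : V ≤ T
  hVc : ∀ v ∈ V, ∀ x ∈ T, v * x = x * v
  hV2 : ∀ v ∈ V, v * v = 1
  hCPV : ∀ p ∈ P, (∀ v ∈ V, p * v = v * p) → p ∈ T
  hw0V : w0 ∈ V
  hw0 : ∀ p ∈ P, ∀ v ∈ V, p * v * p⁻¹ * v⁻¹ = 1 ∨ p * v * p⁻¹ * v⁻¹ = w0
  hw0H : ¬ ∀ a ∈ H, a * w0 = w0 * a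
  hV2idx : ∀ v ∈ V, ∀ v' ∈ V, (¬ ∀ p ∈ P, p * v = v * p) → (¬ ∀ p ∈ P, p * v' = v' * p) →
    ∀ p ∈ P, p * (v * v') = (v * v') * p
  hyP : ∀ p ∈ P, y * p * y⁻¹ ∈ P
  hyP' : ∀ p ∈ P, y⁻¹ * p * y ∈ P
  hy2 : ∃ p0 ∈ P, ∀ x ∈ P, y * y * x * y⁻¹ * y⁻¹ = p0 * x * p0⁻¹
  hU : ∀ v ∈ V, y * v * y⁻¹ ∈ T
  hPM : P ≤ M
  hMH : M ≤ H
  hMX : ∀ d ∈ H, (∀ v ∈ V, ∃ v' ∈ V, ∃ v'' ∈ V,
    d * (y * v * y⁻¹) * d⁻¹ = (y * v' * y⁻¹) * v'') → d ∈ M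
  hsyl : ∀ s ∈ P, s ∉ T → ∀ d ∈ H, d * s * d⁻¹ ∈ M → d ∈ M
  hidx3 : ∀ c ∈ H, ∃ b ∈ H, b ∉ M ∧ c * b ∉ M
  hzw : (∀ a ∈ H, a * (y⁻¹ * w0 * y) = (y⁻¹ * w0 * y) * a) → y⁻¹ * w0 * y ≠ w0
  hend : ∀ Q : Subgroup G, Q ≤ T → (∀ a ∈ H, ∀ x ∈ Q, a * x * a⁻¹ ∈ Q) →
    (∀ x ∈ Q, y * x * y⁻¹ ∈ Q) → Q = ⊥
  hVne : V ≠ ⊥

/-- the inductive statement -/
def S (H T V : Subgroup G) (y : G) (k : ℕ) : Prop :=
  ∀ g, Wd H y k g → ∀ v ∈ V, g * v * g⁻¹ ∈ T ∧ g⁻¹ * v * g ∈ T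

/-- `g` is critical: `V` and `g V g⁻¹` do not commute -/
def Crit (V : Subgroup G) (g : G) : Prop :=
  ∃ v ∈ V, ∃ v' ∈ V, v * (g * v' * g⁻¹) ≠ (g * v' * g⁻¹) * v

end Cfsg.Agent.Lib.Helper2.PU
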