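import Cfsg.Agent.Lib.Helper2.PU2bXi3

set_option autoImplicit false

/-!
# S4385, case IIb is impossible

`Hyp.false` : the abstract hypotheses `Hyp H P T V M y w0` are contradictory.
-/

namespace Cfsg.Agent.Lib.Helper2.PU

variable {G : Type*} [Group G] {H P T V M : Subgroup G} {y w0 : G}

namespace Hyp

theorem all_S (h : Hyp H P T V M y w0) : ∀ k, S H T V y k := by
  intro k
  induction k using Nat.strong_induction_on with
  | _ k ih =>
    match k, ih with
    | 0, _ =>
      intro g hg v hv
      rw [hg.eq_one]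
      constructor
      · simpa using h.hVT hv
      · simpa using h.hVT hv
    | 1, _ =>
      intro g hg v hv
      obtain ⟨a, ha, g1, hg1, rfl⟩ := hg.exists_left
      have := hg1.eq_one
      subst this
      constructor
      · have h1 := h.hTn a ha _ (h.hU v hv)
        have e : a * y * 1 * v * (a * y * 1)⁻¹ = a * (y * v * y⁻¹) * a⁻¹ := by group
        rw [e]; exact h1
      · have hv' : a⁻¹ * v * a ∈ V := h.inv_conj_V ha hv
        obtain ⟨v2, hv2, e2⟩ := h.conj_yinv_eq hv'
        have e : (a * y * 1)⁻¹ * v * (a * y * 1) = y⁻¹ * (a⁻¹ * v * a) * y := by group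
        rw [e, e2]; exact h.hU v2 hv2
    | (j + 2), ih =>
      have hS : S H T V y (j + 1) := ih (j + 1) (by omega)
      intro g hg
      by_contra hcon
      have hcrit : Crit V g := by
        by_contra hnc
        exact hcon (h.noncrit hS hg hnc)
      obtain ⟨a1, ha1, g1, hg1, rfl⟩ := hg.exists_left
      obtain ⟨m, hm, ab, hab, rfl⟩ := hg1.exists_right
      have hz := h.l1b hS ha1 hab hm hcrit
      cases j with
      | zero =>
        have := hm.eq_one
        subst this
        exact h.beta2 hS ha1 hab hcrit hz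
      | succ i => exact h.beta3 hS ha1 hab hm hcrit hz

/-- Case IIb is impossible. -/
theorem false (h : Hyp H P T V M y w0) : False := by
  have hS := h.all_S
  let Q : Subgroup G := Subgroup.closure {x | ∃ k g v, Wd H y k g ∧ v ∈ V ∧ x = g * v * g⁻¹}
  have hQT : Q ≤ T := by
    rw [Subgroup.closure_le]
    rintro x ⟨k, g, v, hg, hv, rfl⟩
    exact (hS k g hg v hv).1
  have hVQ : V ≤ Q := by
    intro v hv
    apply Subgroup.subset_closure
    exact ⟨0, 1, v, Wd.zero, hv, by group⟩
  have hgen : ∀ (f : G → G), (∀ a b, f (a * b) = f a * f b) → (f 1 = 1) → (∀ a, f a⁻¹ = (f a)⁻¹) →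
      (∀ k g v, Wd H y k g → v ∈ V → f (g * v * g⁻¹) ∈ Q) → ∀ x ∈ Q, f x ∈ Q := by
    intro f hmul hone hinv hgen x hx
    induction hx using Subgroup.closure_induction with
    | mem x hx =>
      obtain ⟨k, g, v, hg, hv, rfl⟩ := hx
      exact hgen k g v hg hv
    | one => rw [hone]; exact Q.one_mem
    | mul a b _ _ iha ihb => rw [hmul]; exact Q.mul_mem iha ihb
    | inv a _ iha => rw [hinv]; exact Q.inv_mem iha
  have hQH : ∀ a ∈ H, ∀ x ∈ Q, a * x * a⁻¹ ∈ Q := by
    intro a ha
    apply hgen (fun x => a * x * a⁻¹)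
    · intro b c; group
    · group
    · intro b; group
    · intro k g v hg hv
      apply Subgroup.subset_closure
      cases k with
      | zero =>
        have := hg.eq_one
        subst this
        exact ⟨0, 1, a * v * a⁻¹, Wd.zero, h.hVn a ha v hv, by group⟩
      | succ k =>
        obtain ⟨a1, ha1, g1, hg1, rfl⟩ := hg.exists_left
        exact ⟨k + 1, (a * a1) * y * g1, v, Wd.succ (H.mul_mem ha ha1) hg1, hv, by group⟩
  have hQy : ∀ x ∈ Q, y * x * y⁻¹ ∈ Q := by
    apply hgen (fun x => y * x * y⁻¹)
    · intro b c; group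
    · group
    · intro b; group
    · intro k g v hg hv
      apply Subgroup.subset_closure
      exact ⟨k + 1, 1 * y * g, v, Wd.succ H.one_mem hg, hv, by group⟩
  have hQbot := h.hend Q hQT hQH hQy
  apply h.hVne
  rw [eq_bot_iff, ← hQbot]
  exact hVQ

end Hyp

end Cfsg.Agent.Lib.Helper2.PU
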