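import Cfsg.Agent.Lib.Helper2.PU2bCore

set_option autoImplicit false

/-!
# S4385, case IIb : the shift lemma and its first consequence
-/

namespace Cfsg.Agent.Lib.Helper2.PU

variable {G : Type*} [Group G] {H P T V M : Subgroup G} {y w0 : G}

namespace Hyp

/-- `y v y⁻¹ = y⁻¹ v̂ y` for some `v̂ ∈ V` -/
theorem conj_y_eq (h : Hyp H P T V M y w0) {v : G} (hv : v ∈ V) :
    ∃ v' ∈ V, y * v * y⁻¹ = y⁻¹ * v' * y := by
  obtain ⟨p0, hp0, hp⟩ := h.hy2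
  refine ⟨p0 * v * p0⁻¹, h.hVn p0 (h.hPH hp0) v hv, ?_⟩
  have := hp v (h.hTP (h.hVT hv))
  rw [← this]; group

/-- SHIFT -/
theorem shift (h : Hyp H P T V M y w0) {k : ℕ} (hS : S H T V y (k + 1)) {a1 ab m c : G}
    (ha1 : a1 ∈ H) (hab : ab ∈ H) (hm : Wd H y k m) (hc : c ∈ H) (hcM : c ∉ M)
    (hcrit : Crit V (a1 * y * (m * ab * y))) : Crit V (1 * y * (c * y * m)) := by
  by_contra hnc
  have hg1 : Wd H y (k + 1) (m * ab * y) := hm.snoc hab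
  have hg' : Wd H y (k + 1) (a1 * y * m) := Wd.succ ha1 hm
  have hw'' : Wd H y (k + 2) (1 * y * (c * y * m)) := Wd.succ H.one_mem (Wd.succ hc hm)
  have hT'' := h.noncrit hS hw'' hnc
  have hlab := h.label hS ha1 hg1 hcrit
  obtain ⟨v, hv, v', hv', hne⟩ := hcrit
  obtain ⟨g, hg⟩ : ∃ g, g = a1 * y * (m * ab * y) := ⟨_, rfl⟩
  rw [← hg] at hlab hne
  obtain ⟨t', ht'⟩ : ∃ t', t' = g * v' * g⁻¹ := ⟨_, rfl⟩
  rw [← ht'] at hne
  have ht'T : t' ∉ T := fun hh => hne (h.hVc v hv t' hh)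
  obtain ⟨s, hs⟩ : ∃ s, s = a1⁻¹ * t' * a1 := ⟨_, rfl⟩
  have hsP : s ∈ P := by
    rw [hs, ht', hg]
    exact h.c1 (a1 := a1) hS hg1 hv'
  have hsT : s ∉ T := by
    intro hh
    apply ht'T
    have := h.hTn a1 ha1 s hh
    have e : a1 * s * a1⁻¹ = t' := by rw [hs]; group
    rw [e] at this; exact this
  apply hcM
  apply h.hsyl s hsP hsT c hc
  apply h.hMX
  · exact H.mul_mem (H.mul_mem hc (h.hPH hsP)) (H.inv_mem hc)
  intro v1 hv1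
  obtain ⟨vh, hvh, evh⟩ := h.conj_y_eq hv1
  -- the element ũ and p̃
  obtain ⟨u, hu⟩ : ∃ u, u = y * v1 * y⁻¹ := ⟨_, rfl⟩
  rw [← hu] at evh ⊢
  have huT : u ∈ T := by rw [hu]; exact h.hU v1 hv1
  obtain ⟨a, ha⟩ : ∃ a, a = c * a1⁻¹ := ⟨_, rfl⟩
  have haH : a ∈ H := by rw [ha]; exact H.mul_mem hc (H.inv_mem ha1)
  obtain ⟨ut, hut⟩ : ∃ ut, ut = a⁻¹ * u * a := ⟨_, rfl⟩
  obtain ⟨pt, hptdef⟩ : ∃ pt, pt = g⁻¹ * ut * g := ⟨_, rfl⟩
  have hpt : pt ∈ P := by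
    have h1 := (hT'' vh hvh).2
    have h2 := h.inv_conj_T hab h1
    have h3 := h.hyP' _ (h.hTP h2)
    have e : pt =
        y⁻¹ * (ab⁻¹ * ((1 * y * (c * y * m))⁻¹ * vh * (1 * y * (c * y * m))) * ab) * y := by
      rw [hptdef, hut, evh, hg, ha]; group
    rw [e]; exact h3
  -- commutator of pt with v'
  have hk := h.hw0 pt hpt v' hv'
  have key : ∃ v2 ∈ V, t' * ut * t'⁻¹ = v2 * ut := by
    have e2 : t' * ut * t'⁻¹ = g * ((pt * v' * pt⁻¹ * v'⁻¹)⁻¹ * pt) * g⁻¹ := by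
      rw [ht', hptdef]; group
    rcases hk with e1 | e1
    · refine ⟨1, V.one_mem, ?_⟩
      rw [e2, e1]; rw [hptdef]; group
    · refine ⟨a1 * w0 * a1⁻¹, h.hVn a1 ha1 w0 h.hw0V, ?_⟩
      rw [e2, e1, h.w0_inv, ← hlab]; rw [hptdef]; group
  obtain ⟨v2, hv2, e2⟩ := key
  refine ⟨v1, hv1, a * v2 * a⁻¹, h.hVn a haH v2 hv2, ?_⟩
  rw [← hu]
  have e3 : c * s * c⁻¹ * u * (c * s * c⁻¹)⁻¹ = a * (t' * ut * t'⁻¹) * a⁻¹ := by
    rw [hs, hut, ha]; group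
  rw [e3, e2]
  have e4 : a * (v2 * ut) * a⁻¹ = (a * v2 * a⁻¹) * u := by rw [hut]; group
  rw [e4]
  exact h.hVc _ (h.hVn a haH v2 hv2) u huT

/-- L1 (a) : the constant label -/
theorem l1a (h : Hyp H P T V M y w0) {k : ℕ} (hS : S H T V y (k + 1)) {a1 ab m c : G}
    (ha1 : a1 ∈ H) (hab : ab ∈ H) (hm : Wd H y k m) (hc : c ∈ H) (hcM : c ∉ M)
    (hcrit : Crit V (a1 * y * (m * ab * y))) :
    c * (y * m * w0 * m⁻¹ * y⁻¹) * c⁻¹ = y⁻¹ * w0 * y := by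
  have hcr := h.shift hS ha1 hab hm hc hcM hcrit
  have hlab := h.label hS H.one_mem (Wd.succ hc hm) hcr
  have e : c * (y * m * w0 * m⁻¹ * y⁻¹) * c⁻¹ =
      y⁻¹ * ((1 * y * (c * y * m)) * w0 * (1 * y * (c * y * m))⁻¹) * y := by group
  rw [e, hlab]; group

/-- constant on `H \ M` implies central in `H` -/
theorem central_of_const (h : Hyp H P T V M y w0) {x z : G}
    (hx : ∀ c ∈ H, c ∉ M → c * x * c⁻¹ = z) : ∀ a ∈ H, a * z = z * a := by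
  intro a ha
  obtain ⟨b, hb, hbM, habM⟩ := h.hidx3 a ha
  have h1 := hx b hb hbM
  have h2 := hx (a * b) (H.mul_mem ha hb) habM
  have e : a * b * x * (a * b)⁻¹ = a * (b * x * b⁻¹) * a⁻¹ := by group
  rw [e, h1] at h2
  calc a * z = (a * z * a⁻¹) * a := by group
    _ = z * a := by rw [h2]

/-- L1 (b) : a critical word of length `k+2` makes `y⁻¹ w0 y` central in `H` -/
theorem l1b (h : Hyp H P T V M y w0) {k : ℕ} (hS : S H T V y (k + 1)) {a1 ab m : G}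
    (ha1 : a1 ∈ H) (hab : ab ∈ H) (hm : Wd H y k m)
    (hcrit : Crit V (a1 * y * (m * ab * y))) :
    ∀ a ∈ H, a * (y⁻¹ * w0 * y) = (y⁻¹ * w0 * y) * a :=
  h.central_of_const (fun c hc hcM => h.l1a hS ha1 hab hm hc hcM hcrit)

end Hyp

end Cfsg.Agent.Lib.Helper2.PU
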