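import Cfsg.Agent.Lib.Helper2.PU2bBeta2

set_option autoImplicit false

/-!
# S4385, case IIb : the case `y⁻¹ w0 y` central, words of length 2 : the element `ξ`
-/

namespace Cfsg.Agent.Lib.Helper2.PU

variable {G : Type*} [Group G] {H P T V M : Subgroup G} {y w0 : G}

theorem comm_aux {x1 k x2 k' : G} (h1 : k * x2 = x2 * k) (h2 : k * k' = k' * k)
    (h3 : k' * x1 = x1 * k') (h4 : x1 * x2 = x2 * x1) :
    (x1 * k) * (x2 * k') = (x2 * k') * (x1 * k) := by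
  calc (x1 * k) * (x2 * k') = x1 * (k * x2) * k' := by group
    _ = x1 * (x2 * k) * k' := by rw [h1]
    _ = (x1 * x2) * (k * k') := by group
    _ = (x2 * x1) * (k' * k) := by rw [h4, h2]
    _ = x2 * (x1 * k') * k := by group
    _ = x2 * (k' * x1) * k := by rw [h3]
    _ = (x2 * k') * (x1 * k) := by group

namespace Hyp

/-- conjugates `c (y v y⁻¹) c⁻¹` with `v` central in `P` commute with `T` -/
theorem cu_central (h : Hyp H P T V M y w0) {c v x : G} (hc : c ∈ H)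
    (hvc : ∀ p ∈ P, p * v = v * p) (hx : x ∈ T) :
    x * (c * (y * v * y⁻¹) * c⁻¹) = (c * (y * v * y⁻¹) * c⁻¹) * x := by
  have hx1 : c⁻¹ * x * c ∈ P := h.hTP (h.inv_conj_T hc hx)
  have := h.u_central hvc hx1
  calc x * (c * (y * v * y⁻¹) * c⁻¹) = c * ((c⁻¹ * x * c) * (y * v * y⁻¹)) * c⁻¹ := by group
    _ = c * ((y * v * y⁻¹) * (c⁻¹ * x * c)) * c⁻¹ := by rw [this]
    _ = (c * (y * v * y⁻¹) * c⁻¹) * x := by group

theorem cu_mem_T (h : Hyp H P T V M y w0) {c v : G} (hc : c ∈ H) (hv : v ∈ V) :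
    c * (y * v * y⁻¹) * c⁻¹ ∈ T := h.hTn c hc _ (h.hU v hv)

theorem cu_sq (h : Hyp H P T V M y w0) {c v : G} (hv : v ∈ V) :
    (c * (y * v * y⁻¹) * c⁻¹) * (c * (y * v * y⁻¹) * c⁻¹) = 1 := by
  have : (c * (y * v * y⁻¹) * c⁻¹) * (c * (y * v * y⁻¹) * c⁻¹) = c * (y * (v * v) * y⁻¹) * c⁻¹ := by
    group
  rw [this, h.hV2 v hv]; group

end Hyp

end Cfsg.Agent.Lib.Helper2.PU
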