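import Cfsg.Agent.Lib.Helper2.PU2bXi

set_option autoImplicit false

/-!
# S4385, case IIb : length 2, case beta : contradiction
-/

namespace Cfsg.Agent.Lib.Helper2.PU

variable {G : Type*} [Group G] {H P T V M : Subgroup G} {y w0 : G}

namespace Hyp

/-- three pairwise non-commuting involutions `x0 ∈ U`, `x1 ∈ c U c⁻¹`, `x2 = τ x1 τ⁻¹` -/
theorem beta2_data (h : Hyp H P T V M y w0) (hS : S H T V y 1) {a1 ab : G}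
    (ha1 : a1 ∈ H) (hab : ab ∈ H) (hcrit : Crit V (a1 * y * (1 * ab * y))) :
    ∃ c ∈ H, ∃ v0 ∈ V, ∃ v1 ∈ V,
      (¬ ∀ p ∈ P, p * v0 = v0 * p) ∧
      (y * v0 * y⁻¹) * (c * (y * v1 * y⁻¹) * c⁻¹) ≠ (c * (y * v1 * y⁻¹) * c⁻¹) * (y * v0 * y⁻¹) ∧
      (y * (c * (y * v1 * y⁻¹) * c⁻¹) * y⁻¹) ∉ T ∧
      (c * (y * v1 * y⁻¹) * c⁻¹) *
          ((y * (c * (y * v1 * y⁻¹) * c⁻¹) * y⁻¹) * (c * (y * v1 * y⁻¹) * c⁻¹) *
            (y * (c * (y * v1 * y⁻¹) * c⁻¹) * y⁻¹)⁻¹) ≠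
        ((y * (c * (y * v1 * y⁻¹) * c⁻¹) * y⁻¹) * (c * (y * v1 * y⁻¹) * c⁻¹) *
            (y * (c * (y * v1 * y⁻¹) * c⁻¹) * y⁻¹)⁻¹) * (c * (y * v1 * y⁻¹) * c⁻¹) := by
  obtain ⟨c, hc, hcM⟩ := h.exists_not_mem_M
  obtain ⟨v0, hv0, v1, hv1, hne01⟩ := h.nc hS ha1 hab hcrit hc hcM
  refine ⟨c, hc, v0, hv0, v1, hv1, ?_, hne01, ?_⟩
  · -- v0 not central in P
    intro hcen
    apply hne01
    have hx1P : c * (y * v1 * y⁻¹) * c⁻¹ ∈ P := h.hTP (h.cu_mem_T hc hv1)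
    exact (h.u_central hcen hx1P).symm
  obtain ⟨x0, hx0⟩ : ∃ x0, x0 = y * v0 * y⁻¹ := ⟨_, rfl⟩
  obtain ⟨x1, hx1⟩ : ∃ x1, x1 = c * (y * v1 * y⁻¹) * c⁻¹ := ⟨_, rfl⟩
  rw [← hx0, ← hx1] at hne01
  rw [← hx1]
  have hx1T : x1 ∈ T := by rw [hx1]; exact h.cu_mem_T hc hv1
  have hx1sq : x1 * x1 = 1 := by rw [hx1]; exact h.cu_sq hv1
  obtain ⟨τ, hτ⟩ : ∃ τ, τ = y * x1 * y⁻¹ := ⟨_, rfl⟩
  rw [← hτ]
  have hτP : τ ∈ P := by rw [hτ]; exact h.hyP _ (h.hTP hx1T)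
  have hτsq : τ * τ = 1 := by
    have : τ * τ = y * (x1 * x1) * y⁻¹ := by rw [hτ]; group
    rw [this, hx1sq]; group
  have hτinv : τ⁻¹ = τ := inv_eq_of_mul_eq_one_left hτsq
  have hτT : τ ∉ T := by
    intro hh
    apply hne01
    obtain ⟨p0, hp0, hp⟩ := h.hy2
    have hvv : p0 * v0 * p0⁻¹ ∈ V := h.hVn p0 (h.hPH hp0) v0 hv0
    have h1 := h.hVc _ hvv τ hh
    have h2 : y * x0 * y⁻¹ = p0 * v0 * p0⁻¹ := by
      rw [hx0, ← hp v0 (h.hTP (h.hVT hv0))]; group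
    calc x0 * x1 = y⁻¹ * ((y * x0 * y⁻¹) * τ) * y := by rw [hτ]; group
      _ = y⁻¹ * (τ * (y * x0 * y⁻¹)) * y := by rw [h2, h1]
      _ = x1 * x0 := by rw [hτ]; group
  refine ⟨hτT, ?_⟩
  -- c' = c⁻¹ τ c
  have hc'H : c⁻¹ * τ * c ∈ H := H.mul_mem (H.mul_mem (H.inv_mem hc) (h.hPH hτP)) hc
  have hc'M : c⁻¹ * τ * c ∉ M := by
    intro hh
    apply hcM
    have h1 : c⁻¹ * τ * c⁻¹⁻¹ ∈ M := by rw [inv_inv]; exact hh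
    have := h.hsyl τ hτP hτT c⁻¹ (H.inv_mem hc) h1
    have := M.inv_mem this
    rwa [inv_inv] at this
  obtain ⟨v2, hv2, v3, hv3, hne23⟩ := h.nc hS ha1 hab hcrit hc'H hc'M
  -- v1, v2, v3 are not central in P
  have hv1c : ¬ ∀ p ∈ P, p * v1 = v1 * p := by
    intro hcen
    apply hne01
    have hx0T : x0 ∈ T := by rw [hx0]; exact h.hU v0 hv0
    rw [hx1]
    exact h.cu_central hc hcen hx0T
  have hv2c : ¬ ∀ p ∈ P, p * v2 = v2 * p := by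
    intro hcen
    apply hne23
    have hP : c⁻¹ * τ * c * (y * v3 * y⁻¹) * (c⁻¹ * τ * c)⁻¹ ∈ P := h.hTP (h.cu_mem_T hc'H hv3)
    exact (h.u_central hcen hP).symm
  have hv3c : ¬ ∀ p ∈ P, p * v3 = v3 * p := by
    intro hcen
    apply hne23
    exact h.cu_central hc'H hcen (h.hU v2 hv2)
  have hk2 := h.hV2idx v1 hv1 v2 hv2 hv1c hv2c
  have hk3 := h.hV2idx v1 hv1 v3 hv3 hv1c hv3c
  intro hcomm
  apply hne23
  -- k, k'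
  obtain ⟨k, hk⟩ : ∃ k, k = c * (y * (v1 * v2) * y⁻¹) * c⁻¹ := ⟨_, rfl⟩
  obtain ⟨k', hk'⟩ : ∃ k', k' = c * (y * (v1 * v3) * y⁻¹) * c⁻¹ := ⟨_, rfl⟩
  have hkT : k ∈ T := by rw [hk]; exact h.cu_mem_T hc (V.mul_mem hv1 hv2)
  have hk'T : k' ∈ T := by rw [hk']; exact h.cu_mem_T hc (V.mul_mem hv1 hv3)
  have hkc : ∀ x ∈ T, x * k = k * x := fun x hx => by rw [hk]; exact h.cu_central hc hk2 hx
  have hk'c : ∀ x ∈ T, x * k' = k' * x := fun x hx => by rw [hk']; exact h.cu_central hc hk3 hx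
  have hv1sq := h.hV2 v1 hv1
  have he : c * (y * v2 * y⁻¹) * c⁻¹ = x1 * k := by
    have : x1 * k = c * (y * ((v1 * v1) * v2) * y⁻¹) * c⁻¹ := by rw [hx1, hk]; group
    rw [this, hv1sq, one_mul]
  have he' : c * (y * v3 * y⁻¹) * c⁻¹ = x1 * k' := by
    have : x1 * k' = c * (y * ((v1 * v1) * v3) * y⁻¹) * c⁻¹ := by rw [hx1, hk']; group
    rw [this, hv1sq, one_mul]
  obtain ⟨x2, hx2⟩ : ∃ x2, x2 = τ * x1 * τ⁻¹ := ⟨_, rfl⟩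
  rw [← hx2] at hcomm
  have hτH : τ ∈ H := h.hPH hτP
  have hx2T : x2 ∈ T := by rw [hx2]; exact h.hTn τ hτH x1 hx1T
  obtain ⟨kk, hkk⟩ : ∃ kk, kk = τ * k' * τ⁻¹ := ⟨_, rfl⟩
  have hkkT : kk ∈ T := by rw [hkk]; exact h.hTn τ hτH k' hk'T
  have hkkc : ∀ x ∈ T, kk * x = x * kk := by
    intro x hx
    have hx' : τ⁻¹ * x * τ ∈ T := h.inv_conj_T hτH hx
    have := hk'c _ hx'
    calc kk * x = τ * (k' * (τ⁻¹ * x * τ)) * τ⁻¹ := by rw [hkk]; group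
      _ = τ * ((τ⁻¹ * x * τ) * k') * τ⁻¹ := by rw [this]
      _ = x * kk := by rw [hkk]; group
  have main := comm_aux (x1 := x1) (k := k) (x2 := x2) (k' := kk)
    ((hkc x2 hx2T).symm) ((hkc kk hkkT).symm) (hkkc x1 hx1T) hcomm
  -- translate back
  have e1 : (y * v2 * y⁻¹) = c⁻¹ * (x1 * k) * c := by rw [← he]; group
  have e2 : c⁻¹ * τ * c * (y * v3 * y⁻¹) * (c⁻¹ * τ * c)⁻¹ = c⁻¹ * (x2 * kk) * c := by
    have : x2 * kk = τ * (x1 * k') * τ⁻¹ := by rw [hx2, hkk]; group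
    rw [this, ← he']; group
  rw [e1, e2]
  calc c⁻¹ * (x1 * k) * c * (c⁻¹ * (x2 * kk) * c) = c⁻¹ * ((x1 * k) * (x2 * kk)) * c := by group
    _ = c⁻¹ * ((x2 * kk) * (x1 * k)) * c := by rw [main]
    _ = c⁻¹ * (x2 * kk) * c * (c⁻¹ * (x1 * k) * c) := by group

end Hyp

end Cfsg.Agent.Lib.Helper2.PU
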