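import Cfsg.Agent.Lib.Helper2.PU2bXi2

set_option autoImplicit false

/-!
# S4385, case IIb : length 2, case beta : the final contradiction with `ξ = x0 x1 x2`
-/

namespace Cfsg.Agent.Lib.Helper2.PU

variable {G : Type*} [Group G] {H P T V M : Subgroup G} {y w0 : G}

theorem eq_of_comm_ne {a b z : G} (h : a * b * a⁻¹ * b⁻¹ = 1 ∨ a * b * a⁻¹ * b⁻¹ = z)
    (hne : a * b ≠ b * a) : a * b * a⁻¹ * b⁻¹ = z := by
  rcases h with h | h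
  · exfalso
    apply hne
    calc a * b = (a * b * a⁻¹ * b⁻¹) * (b * a) := by group
      _ = b * a := by rw [h, one_mul]
  · exact h

namespace Hyp

theorem beta2 (h : Hyp H P T V M y w0) (hS : S H T V y 1) {a1 ab : G}
    (ha1 : a1 ∈ H) (hab : ab ∈ H) (hcrit : Crit V (a1 * y * (1 * ab * y)))
    (hz : ∀ a ∈ H, a * (y⁻¹ * w0 * y) = (y⁻¹ * w0 * y) * a) : False := by
  obtain ⟨c, hc, v0, hv0, v1, hv1, hv0c, hne01, hτT, hne12⟩ := h.beta2_data hS ha1 hab hcrit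
  obtain ⟨z, hzdef⟩ : ∃ z, z = y⁻¹ * w0 * y := ⟨_, rfl⟩
  rw [← hzdef] at hz
  have hzsq : z * z = 1 := by rw [hzdef]; exact h.z_sq
  have hzne : z ≠ 1 := by rw [hzdef]; exact h.z_ne_one
  obtain ⟨x0, hx0⟩ : ∃ x0, x0 = y * v0 * y⁻¹ := ⟨_, rfl⟩
  obtain ⟨x1, hx1⟩ : ∃ x1, x1 = c * (y * v1 * y⁻¹) * c⁻¹ := ⟨_, rfl⟩
  rw [← hx0, ← hx1] at hne01
  rw [← hx1] at hτT hne12
  obtain ⟨τ, hτ⟩ : ∃ τ, τ = y * x1 * y⁻¹ := ⟨_, rfl⟩
  rw [← hτ] at hτT hne12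
  obtain ⟨x2, hx2⟩ : ∃ x2, x2 = τ * x1 * τ⁻¹ := ⟨_, rfl⟩
  rw [← hx2] at hne12
  have hx0T : x0 ∈ T := by rw [hx0]; exact h.hU v0 hv0
  have hx1T : x1 ∈ T := by rw [hx1]; exact h.cu_mem_T hc hv1
  have hx1sq : x1 * x1 = 1 := by rw [hx1]; exact h.cu_sq hv1
  have hτP : τ ∈ P := by rw [hτ]; exact h.hyP _ (h.hTP hx1T)
  have hτH : τ ∈ H := h.hPH hτP
  have hτsq : τ * τ = 1 := by
    have : τ * τ = y * (x1 * x1) * y⁻¹ := by rw [hτ]; group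
    rw [this, hx1sq]; group
  have hτinv : τ⁻¹ = τ := inv_eq_of_mul_eq_one_left hτsq
  have hx2T : x2 ∈ T := by rw [hx2]; exact h.hTn τ hτH x1 hx1T
  -- τ centralizes U
  have hτU : ∀ v ∈ V, τ * (y * v * y⁻¹) * τ⁻¹ = y * v * y⁻¹ := by
    intro v hv
    have := h.hVc v hv x1 hx1T
    rw [hτ]
    calc y * x1 * y⁻¹ * (y * v * y⁻¹) * (y * x1 * y⁻¹)⁻¹ = y * ((x1 * v) * x1⁻¹) * y⁻¹ := by group
      _ = y * ((v * x1) * x1⁻¹) * y⁻¹ := by rw [this]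
      _ = y * v * y⁻¹ := by group
  have hτx0 : τ * x0 * τ⁻¹ = x0 := by rw [hx0]; exact hτU v0 hv0
  -- the three commutators
  have hA : x1 * x0 * x1⁻¹ * x0⁻¹ = z := by
    have h1 := h.comm_U (c := 1) (x := x1) (v := v0) (by rw [← hzdef]; exact hz) H.one_mem hx1T hv0
    rw [← hzdef] at h1
    have e : (1 : G) * (y * v0 * y⁻¹) * 1⁻¹ = x0 := by rw [hx0]; group
    rw [e] at h1
    exact eq_of_comm_ne h1 (fun hh => hne01 hh.symm)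
  have hC : x2 * x1 * x2⁻¹ * x1⁻¹ = z := by
    have h1 := h.comm_U (c := c) (x := x2) (v := v1) (by rw [← hzdef]; exact hz) hc hx2T hv1
    rw [← hzdef, ← hx1] at h1
    exact eq_of_comm_ne h1 (fun hh => hne12 hh.symm)
  have hzτ : τ * z * τ⁻¹ = z := by
    have := hz τ hτH
    calc τ * z * τ⁻¹ = (z * τ) * τ⁻¹ := by rw [this]
      _ = z := by group
  have hB : x2 * x0 * x2⁻¹ * x0⁻¹ = z := by
    have hτx0' : τ⁻¹ * x0 * τ = x0 := by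
      calc τ⁻¹ * x0 * τ = τ⁻¹ * (τ * x0 * τ⁻¹) * τ := by rw [hτx0]
        _ = x0 := by group
    calc x2 * x0 * x2⁻¹ * x0⁻¹
        = τ * (x1 * (τ⁻¹ * x0 * τ) * x1⁻¹ * (τ⁻¹ * x0 * τ)⁻¹) * τ⁻¹ := by rw [hx2]; group
      _ = τ * (x1 * x0 * x1⁻¹ * x0⁻¹) * τ⁻¹ := by rw [hτx0']
      _ = z := by rw [hA, hzτ]
  have hzx0 : z * x0 = x0 * z := (hz x0 (h.TH hx0T)).symm
  -- ξ
  obtain ⟨ξ, hξ⟩ : ∃ ξ, ξ = x0 * x1 * x2 := ⟨_, rfl⟩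
  have hξT : ξ ∈ T := by rw [hξ]; exact T.mul_mem (T.mul_mem hx0T hx1T) hx2T
  have hτx2 : τ * x2 * τ⁻¹ = x1 := by
    calc τ * x2 * τ⁻¹ = (τ * τ) * x1 * (τ * τ)⁻¹ := by rw [hx2]; group
      _ = x1 := by rw [hτsq]; group
  have hX1 : τ * ξ * τ⁻¹ * ξ⁻¹ = z := by
    calc τ * ξ * τ⁻¹ * ξ⁻¹ = (τ * x0 * τ⁻¹) * (τ * x1 * τ⁻¹) * (τ * x2 * τ⁻¹) * ξ⁻¹ := by
          rw [hξ]; group
      _ = x0 * x2 * x1 * ξ⁻¹ := by rw [hτx0, hτx2, ← hx2]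
      _ = x0 * (x2 * x1 * x2⁻¹ * x1⁻¹) * x0⁻¹ := by rw [hξ]; group
      _ = x0 * z * x0⁻¹ := by rw [hC]
      _ = (z * x0) * x0⁻¹ := by rw [hzx0]
      _ = z := by group
  have hξx0 : ξ * x0 = x0 * ξ := by
    have e1 : x2 * x0 = z * x0 * x2 := by
      calc x2 * x0 = (x2 * x0 * x2⁻¹ * x0⁻¹) * x0 * x2 := by group
        _ = z * x0 * x2 := by rw [hB]
    have e2 : x1 * x0 = z * x0 * x1 := by
      calc x1 * x0 = (x1 * x0 * x1⁻¹ * x0⁻¹) * x0 * x1 := by group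
        _ = z * x0 * x1 := by rw [hA]
    have hzx1 : z * x1 = x1 * z := (hz x1 (h.TH hx1T)).symm
    calc ξ * x0 = x0 * x1 * (x2 * x0) := by rw [hξ]; group
      _ = x0 * x1 * (z * x0 * x2) := by rw [e1]
      _ = x0 * (x1 * z) * x0 * x2 := by group
      _ = x0 * (z * x1) * x0 * x2 := by rw [hzx1]
      _ = x0 * z * (x1 * x0) * x2 := by group
      _ = x0 * z * (z * x0 * x1) * x2 := by rw [e2]
      _ = x0 * (z * z) * x0 * x1 * x2 := by group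
      _ = x0 * (x0 * x1 * x2) := by rw [hzsq]; group
      _ = x0 * ξ := by rw [hξ]
  have hξU : ∀ v ∈ V, ξ * (y * v * y⁻¹) = (y * v * y⁻¹) * ξ := by
    intro v hv
    by_cases hvc : ∀ p ∈ P, p * v = v * p
    · exact h.u_central hvc (h.hTP hξT)
    · have hk := h.hV2idx v0 hv0 v hv hv0c hvc
      have h1 := h.u_central hk (h.hTP hξT)
      have e : y * v * y⁻¹ = x0 * (y * (v0 * v) * y⁻¹) := by
        have : x0 * (y * (v0 * v) * y⁻¹) = y * ((v0 * v0) * v) * y⁻¹ := by rw [hx0]; group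
        rw [this, h.hV2 v0 hv0, one_mul]
      rw [e]
      calc ξ * (x0 * (y * (v0 * v) * y⁻¹)) = (ξ * x0) * (y * (v0 * v) * y⁻¹) := by group
        _ = x0 * (ξ * (y * (v0 * v) * y⁻¹)) := by rw [hξx0]; group
        _ = x0 * ((y * (v0 * v) * y⁻¹) * ξ) := by rw [h1]
        _ = x0 * (y * (v0 * v) * y⁻¹) * ξ := by group
  have hX3 : y⁻¹ * ξ * y ∈ T := by
    apply h.hCPV _ (h.hyP' _ (h.hTP hξT))
    intro v hv
    have := hξU v hv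
    calc y⁻¹ * ξ * y * v = y⁻¹ * (ξ * (y * v * y⁻¹)) * y := by group
      _ = y⁻¹ * ((y * v * y⁻¹) * ξ) * y := by rw [this]
      _ = v * (y⁻¹ * ξ * y) := by group
  obtain ⟨p', hp'⟩ : ∃ p', p' = y⁻¹ * (c⁻¹ * (y⁻¹ * ξ * y) * c) * y := ⟨_, rfl⟩
  have hp'P : p' ∈ P := by rw [hp']; exact h.hyP' _ (h.hTP (h.inv_conj_T hc hX3))
  have hw := h.hw0 p' hp'P v1 hv1
  have e5 : τ * ξ * τ⁻¹ * ξ⁻¹ = (y * c * y) * (p' * v1 * p'⁻¹ * v1⁻¹)⁻¹ * (y * c * y)⁻¹ := by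
    rw [hp', hτ, hx1]; group
  have hωw : (y * c * y) * w0 * (y * c * y)⁻¹ = w0 := by
    have h1 : y * w0 * y⁻¹ = z := by rw [hzdef]; exact h.y_w0 (by rw [← hzdef]; exact hz)
    have h2 := hz c hc
    calc (y * c * y) * w0 * (y * c * y)⁻¹ = y * (c * (y * w0 * y⁻¹) * c⁻¹) * y⁻¹ := by group
      _ = y * ((c * z) * c⁻¹) * y⁻¹ := by rw [h1]
      _ = y * ((z * c) * c⁻¹) * y⁻¹ := by rw [h2]
      _ = y * z * y⁻¹ := by group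
      _ = w0 := by rw [hzdef]; group
  rcases hw with e6 | e6
  · apply hzne
    rw [← hX1, e5, e6]; group
  · apply h.hzw (by rw [← hzdef]; exact hz)
    rw [← hzdef, ← hX1, e5, e6, h.w0_inv, hωw]

end Hyp

end Cfsg.Agent.Lib.Helper2.PU
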