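import Cfsg.Agent.Lib.Helper2.PUDefs
import Cfsg.Agent.Lib.Helper9.SylowConj2

set_option autoImplicit false

/-!
# S4385 : basic consequences of `Setup`
-/

namespace Cfsg.Agent.Lib.Helper2.PU

variable {G : Type*} [Group G] {H P T K : Subgroup G} {y ρ : G} {n : ℕ}

namespace Setup

theorem TH (s : Setup H P T K y ρ n) : T ≤ H := s.hTP.trans s.hPH

theorem inv_conj_T (s : Setup H P T K y ρ n) {a x : G} (ha : a ∈ H) (hx : x ∈ T) :
    a⁻¹ * x * a ∈ T := by
  have := s.hTn a⁻¹ (H.inv_mem ha) x hx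
  simpa using this

theorem inv_conj_K (s : Setup H P T K y ρ n) {a x : G} (ha : a ∈ H) (hx : x ∈ K) :
    a⁻¹ * x * a ∈ K := by
  have := s.hKn a⁻¹ (H.inv_mem ha) x hx
  simpa using this

/-- a power of `ρ` lying in `T` is trivial -/
theorem rho_pow_eq_one (s : Setup H P T K y ρ n) {j : ℕ} (h : ρ ^ j ∈ T) : ρ ^ j = 1 := by
  obtain ⟨k, hk⟩ := s.hT2 ⟨ρ ^ j, h⟩
  have h1 : (ρ ^ j) ^ (2 ^ k) = 1 := by
    have := congrArg Subtype.val hk
    simpa using this
  have h2 : (ρ ^ j) ^ n = 1 := by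
    rw [← pow_mul, mul_comm, pow_mul, ← s.hρn, pow_orderOf_eq_one, one_pow]
  have hcop : Nat.Coprime (2 ^ k) n := (Nat.coprime_two_left.mpr s.hnodd).pow_left k
  have hd1 := orderOf_dvd_of_pow_eq_one h1
  have hd2 := orderOf_dvd_of_pow_eq_one h2
  have : orderOf (ρ ^ j) = 1 := Nat.eq_one_of_dvd_coprimes hcop hd1 hd2
  exact orderOf_eq_one_iff.mp this

end Setup

end Cfsg.Agent.Lib.Helper2.PU
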