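import Cfsg.Agent.Lib.Helper2.PUBasic

set_option autoImplicit false

/-!
# S4385 : more consequences of `Setup` : `N_H(P) = P`, `⟨P^H⟩ = H`
-/

namespace Cfsg.Agent.Lib.Helper2.PU

variable {G : Type*} [Group G] {H P T K : Subgroup G} {y ρ : G} {n : ℕ}

namespace Setup

theorem rho_pow_mem_H (s : Setup H P T K y ρ n) (i : ℕ) : ρ ^ i ∈ H :=
  H.pow_mem (s.hKH s.hρK) i

/-- `ρ ^ (2 i) ∈ N` implies `ρ ^ i ∈ N` -/
theorem rho_pow_of_sq (s : Setup H P T K y ρ n) (N : Subgroup G) {i : ℕ}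
    (h : ρ ^ (i + i) ∈ N) : ρ ^ i ∈ N := by
  obtain ⟨m, hm⟩ := s.hnodd
  have h1 : (ρ ^ (i + i)) ^ (m + 1) ∈ N := N.pow_mem h _
  have e : (ρ ^ (i + i)) ^ (m + 1) = ρ ^ i := by
    rw [← pow_mul]
    have : (i + i) * (m + 1) = i + n * i := by rw [hm]; ring
    rw [this, pow_add, pow_mul, ← s.hρn, pow_orderOf_eq_one, one_pow, mul_one]
  rw [e] at h1
  exact h1

/-- square of `k = x ρ^i` modulo `T` -/
theorem sq_decomp (s : Setup H P T K y ρ n) {x : G} (hx : x ∈ T) (i : ℕ) :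
    ∃ x' ∈ T, (x * ρ ^ i) * (x * ρ ^ i) = x' * ρ ^ (i + i) := by
  refine ⟨x * (ρ ^ i * x * (ρ ^ i)⁻¹), T.mul_mem hx (s.hTn _ (s.rho_pow_mem_H i) x hx), ?_⟩
  rw [pow_add]; group

theorem mem_T_of_sq (s : Setup H P T K y ρ n) {k : G} (hk : k ∈ K) (h2 : k * k ∈ T) : k ∈ T := by
  obtain ⟨i, x, hx, rfl⟩ := s.hKρ k hk
  obtain ⟨x', hx', e⟩ := s.sq_decomp hx i
  rw [e] at h2
  have h3 : ρ ^ (i + i) ∈ T := by
    have := T.mul_mem (T.inv_mem hx') h2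
    rwa [inv_mul_cancel_left] at this
  have h4 := s.rho_pow_of_sq T h3
  exact T.mul_mem hx h4

/-- `k t k⁻¹ t⁻¹ ≡ k²` modulo `T` -/
theorem comm_decomp (s : Setup H P T K y ρ n) {k t : G} (hk : k ∈ K) (ht : t ∈ P) (htT : t ∉ T) :
    ∃ x ∈ T, k * t * k⁻¹ * t⁻¹ = x * (k * k) := by
  have h1 := s.hinv t ht htT k⁻¹ (K.inv_mem hk)
  refine ⟨k * (t * k⁻¹ * t⁻¹ * k⁻¹) * k⁻¹, s.hTn k (s.hKH hk) _ h1, ?_⟩
  group

theorem normalizer_P (s : Setup H P T K y ρ n) {a : G} (ha : a ∈ H)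
    (h : ∀ p ∈ P, a * p * a⁻¹ ∈ P) : a ∈ P := by
  obtain ⟨k, hk, p, hp, rfl⟩ := s.hHK a ha
  obtain ⟨t, ht, htT⟩ := s.hPT
  have hkq : ∀ q ∈ P, k * q * k⁻¹ ∈ P := by
    intro q hq
    have := h (p⁻¹ * q * p) (P.mul_mem (P.mul_mem (P.inv_mem hp) hq) hp)
    have e : k * p * (p⁻¹ * q * p) * (k * p)⁻¹ = k * q * k⁻¹ := by group
    rwa [e] at this
  obtain ⟨x, hx, e⟩ := s.comm_decomp hk ht htT
  have hcP : k * t * k⁻¹ * t⁻¹ ∈ P := P.mul_mem (hkq t ht) (P.inv_mem ht)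
  have hcK : k * t * k⁻¹ * t⁻¹ ∈ K := by
    have h1 : t * k⁻¹ * t⁻¹ ∈ K := s.hKn t (s.hPH ht) _ (K.inv_mem hk)
    have e2 : k * t * k⁻¹ * t⁻¹ = k * (t * k⁻¹ * t⁻¹) := by group
    rw [e2]; exact K.mul_mem hk h1
  have hcT := s.hPK _ hcP hcK
  rw [e] at hcT
  have hkk : k * k ∈ T := by
    have := T.mul_mem (T.inv_mem hx) hcT
    rwa [inv_mul_cancel_left] at this
  exact P.mul_mem (s.hTP (s.mem_T_of_sq hk hkk)) hp

/-- the normal closure of `P` in `H` is `H` -/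
theorem closure_P (s : Setup H P T K y ρ n) (N : Subgroup G)
    (hN : ∀ a ∈ H, ∀ x ∈ N, a * x * a⁻¹ ∈ N) (hPN : P ≤ N) : H ≤ N := by
  intro a ha
  obtain ⟨k, hk, p, hp, rfl⟩ := s.hHK a ha
  obtain ⟨t, ht, htT⟩ := s.hPT
  apply N.mul_mem _ (hPN hp)
  obtain ⟨x, hx, e⟩ := s.comm_decomp hk ht htT
  have hcN : k * t * k⁻¹ * t⁻¹ ∈ N :=
    N.mul_mem (hN k (s.hKH hk) t (hPN ht)) (N.inv_mem (hPN ht))
  rw [e] at hcN
  have hTN : T ≤ N := s.hTP.trans hPN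
  have hkk : k * k ∈ N := by
    have := N.mul_mem (N.inv_mem (hTN hx)) hcN
    rwa [inv_mul_cancel_left] at this
  obtain ⟨i, x1, hx1, rfl⟩ := s.hKρ k hk
  obtain ⟨x', hx', e'⟩ := s.sq_decomp hx1 i
  rw [e'] at hkk
  have h3 : ρ ^ (i + i) ∈ N := by
    have := N.mul_mem (N.inv_mem (hTN hx')) hkk
    rwa [inv_mul_cancel_left] at this
  exact N.mul_mem (hTN hx1) (s.rho_pow_of_sq N h3)

end Setup

end Cfsg.Agent.Lib.Helper2.PU
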