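import Cfsg.Agent.Lib.Helper2.PUBasic2

set_option autoImplicit false

/-!
# S4385 : cards, and basic consequences of `C2`
-/

namespace Cfsg.Agent.Lib.Helper2.PU

variable {G : Type*} [Group G] {H P T K V Z : Subgroup G} {y ρ w0 : G} {n : ℕ}

theorem card_mul_relIndex' {A B : Subgroup G} (h : A ≤ B) :
    Nat.card A * A.relIndex B = Nat.card B := by
  have h1 := Subgroup.card_mul_index (A.subgroupOf B)
  have h2 : Nat.card (A.subgroupOf B) = Nat.card A :=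
    Nat.card_congr (Subgroup.subgroupOfEquivOfLe h).toEquiv
  rw [h2] at h1
  exact h1

/-- index two from the elementwise description -/
theorem card_of_index_two {A B : Subgroup G} (h : A ≤ B) (t : G) (htB : t ∈ B) (htA : t ∉ A)
    (hidx : ∀ p ∈ B, ∀ q ∈ B, p ∉ A → q ∉ A → p * q ∈ A) :
    Nat.card B = 2 * Nat.card A := by
  have h2 : A.relIndex B = 2 := by
    rw [Subgroup.relIndex_eq_two_iff]
    refine ⟨t, htB, fun b hb => ?_⟩
    by_cases hbA : b ∈ A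
    · refine Or.inr ⟨hbA, fun hbt => htA ?_⟩
      have := A.mul_mem (A.inv_mem hbA) hbt
      rwa [inv_mul_cancel_left] at this
    · exact Or.inl ⟨hidx b hb t htB hbA htA, hbA⟩
  rw [← card_mul_relIndex' h, h2, mul_comm]

namespace Setup

theorem card_P (s : Setup H P T K y ρ n) : Nat.card P = 2 * Nat.card T := by
  obtain ⟨t, ht, htT⟩ := s.hPT
  exact card_of_index_two s.hTP t ht htT s.hidx

/-- `P = T ∪ t T` -/
theorem inv_mul_mem_T (s : Setup H P T K y ρ n) {t p : G} (ht : t ∈ P) (htT : t ∉ T)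
    (hp : p ∈ P) (hpT : p ∉ T) : t⁻¹ * p ∈ T := by
  have h1 : t⁻¹ ∉ T := fun h => htT (by simpa using T.inv_mem h)
  exact s.hidx _ (P.inv_mem ht) _ hp h1 hpT

end Setup

namespace C2a

theorem ZT (c : C2a H P T V Z) : Z ≤ T := c.hZV.trans c.hVT

theorem inv_eq (c : C2a H P T V Z) {v : G} (hv : v ∈ V) : v⁻¹ = v :=
  inv_eq_of_mul_eq_one_right (c.hV2 v hv)

theorem inv_conj_V (c : C2a H P T V Z) {a v : G} (ha : a ∈ H) (hv : v ∈ V) : a⁻¹ * v * a ∈ V := by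
  have := c.hVn a⁻¹ (H.inv_mem ha) v hv
  simpa using this

theorem comm_V (c : C2a H P T V Z) {v v' : G} (hv : v ∈ V) (hv' : v' ∈ V) : v * v' = v' * v :=
  c.hVc v hv v' (c.hVT hv')

/-- `Z` is `y`-invariant -/
theorem Z_conj_y (s : Setup H P T K y ρ n) (c : C2a H P T V Z) {z : G} (hz : z ∈ Z) :
    y * z * y⁻¹ ∈ Z := by
  obtain ⟨hzP, hz2, hzc⟩ := c.hZP z hz
  refine c.hZmem _ (s.hyP z hzP) ?_ ?_
  · have : y * z * y⁻¹ * (y * z * y⁻¹) = y * (z * z) * y⁻¹ := by group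
    rw [this, hz2]; group
  · intro p hp
    have h1 := hzc (y⁻¹ * p * y) (s.hyP' p hp)
    have e1 : p * (y * z * y⁻¹) = y * ((y⁻¹ * p * y) * z) * y⁻¹ := by group
    have e2 : (y * z * y⁻¹) * p = y * (z * (y⁻¹ * p * y)) * y⁻¹ := by group
    rw [e1, e2, h1]

theorem Z_conj_y' (s : Setup H P T K y ρ n) (c : C2a H P T V Z) {z : G} (hz : z ∈ Z) :
    y⁻¹ * z * y ∈ Z := by
  obtain ⟨hzP, hz2, hzc⟩ := c.hZP z hz
  refine c.hZmem _ (s.hyP' z hzP) ?_ ?_
  · have : y⁻¹ * z * y * (y⁻¹ * z * y) = y⁻¹ * (z * z) * y := by group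
    rw [this, hz2]; group
  · intro p hp
    have h1 := hzc (y * p * y⁻¹) (s.hyP p hp)
    have e1 : p * (y⁻¹ * z * y) = y⁻¹ * ((y * p * y⁻¹) * z) * y := by group
    have e2 : (y⁻¹ * z * y) * p = y⁻¹ * (z * (y * p * y⁻¹)) * y := by group
    rw [e1, e2, h1]

/-- an element of `V` commuting with some `p ∈ P \ T` lies in `Z` -/
theorem mem_Z_of_comm (s : Setup H P T K y ρ n) (c : C2a H P T V Z) {p v : G} (hp : p ∈ P)
    (hpT : p ∉ T) (hv : v ∈ V) (h : p * v = v * p) : v ∈ Z := by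
  refine c.hZmem v (s.hTP (c.hVT hv)) (c.hV2 v hv) ?_
  intro q hq
  by_cases hqT : q ∈ T
  · exact (c.hVc v hv q hqT).symm
  · have hx : p⁻¹ * q ∈ T := s.inv_mul_mem_T hp hpT hq hqT
    have e : q = p * (p⁻¹ * q) := by group
    rw [e, mul_assoc, ← c.hVc v hv _ hx, ← mul_assoc, h, mul_assoc]

end C2a

namespace C2

/-- for `p ∈ P \ T` and `v ∈ V \ Z` the commutator is `w0` -/
theorem comm_eq_w0 (s : Setup H P T K y ρ n) (c : C2 H P T V Z w0) {p v : G} (hp : p ∈ P)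
    (hpT : p ∉ T) (hv : v ∈ V) (hvZ : v ∉ Z) : p * v * p⁻¹ * v⁻¹ = w0 := by
  rcases c.hw0 p hp v hv with h | h
  · exfalso
    apply hvZ
    apply c.toC2a.mem_Z_of_comm s hp hpT hv
    have : p * v = (p * v * p⁻¹ * v⁻¹) * (v * p) := by group
    rw [this, h, one_mul]
  · exact h

theorem w0_comm_P (c : C2 H P T V Z w0) {p : G} (hp : p ∈ P) : p * w0 = w0 * p :=
  (c.hZP w0 c.hw0Z).2.2 p hp

theorem w0_sq (c : C2 H P T V Z w0) : w0 * w0 = 1 := c.hV2 w0 c.hw0V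

theorem w0_inv (c : C2 H P T V Z w0) : w0⁻¹ = w0 := c.toC2a.inv_eq c.hw0V

end C2

end Cfsg.Agent.Lib.Helper2.PU
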