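import Cfsg.Agent.Lib.Helper2.PUBasic3
import Cfsg.Agent.Lib.Helper2.PU2bMain

set_option autoImplicit false

/-!
# S4385, case IIb : the subgroups `X = U V` and `M = N_H(X)`
-/

namespace Cfsg.Agent.Lib.Helper2.PU

variable {G : Type*} [Group G] {H P T K V Z : Subgroup G} {y ρ w0 : G} {n : ℕ}

/-- in a finite group, `d X d⁻¹ ≤ X` implies `d ∈ N(X)` -/
theorem mem_normalizer_of_conj_mem [Finite G] {X : Subgroup G} {d : G}
    (h : ∀ x ∈ X, d * x * d⁻¹ ∈ X) : d ∈ Subgroup.normalizer (X : Set G) := by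
  have hle : X.map (MulAut.conj d).toMonoidHom ≤ X := by
    rintro _ ⟨x, hx, rfl⟩
    exact h x hx
  have hcard : Nat.card (X.map (MulAut.conj d).toMonoidHom) = Nat.card X :=
    Subgroup.card_map_of_injective (MulAut.conj d).injective
  have heq : X.map (MulAut.conj d).toMonoidHom = X :=
    Subgroup.eq_of_le_of_card_ge hle (le_of_eq hcard.symm)
  rw [Subgroup.mem_normalizer_iff]
  intro g
  constructor
  · exact h g
  · intro hg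
    rw [← heq] at hg
    obtain ⟨x, hx, hxe⟩ := hg
    have : d * x * d⁻¹ = d * g * d⁻¹ := hxe
    have e : x = g := by
      have := congrArg (fun z => d⁻¹ * z * d) this
      simpa [mul_assoc] using this
    rw [← e]; exact hx

/-- `X = (y V y⁻¹) V` as a subgroup (case IIb: `y V y⁻¹ ≤ T`, `V` central in `T`) -/
def XX (V : Subgroup G) (y : G) (T : Subgroup G) (hVc : ∀ v ∈ V, ∀ x ∈ T, v * x = x * v)
    (hU : ∀ v ∈ V, y * v * y⁻¹ ∈ T) : Subgroup G where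
  carrier := {g | ∃ a ∈ V, ∃ b ∈ V, g = (y * a * y⁻¹) * b}
  one_mem' := ⟨1, V.one_mem, 1, V.one_mem, by group⟩
  mul_mem' := by
    rintro _ _ ⟨a, ha, b, hb, rfl⟩ ⟨a', ha', b', hb', rfl⟩
    refine ⟨a * a', V.mul_mem ha ha', b * b', V.mul_mem hb hb', ?_⟩
    have h := hVc b hb (y * a' * y⁻¹) (hU a' ha')
    calc y * a * y⁻¹ * b * (y * a' * y⁻¹ * b')
        = y * a * y⁻¹ * (b * (y * a' * y⁻¹)) * b' := by group
      _ = y * a * y⁻¹ * ((y * a' * y⁻¹) * b) * b' := by rw [h]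
      _ = y * (a * a') * y⁻¹ * (b * b') := by group
  inv_mem' := by
    rintro _ ⟨a, ha, b, hb, rfl⟩
    refine ⟨a⁻¹, V.inv_mem ha, b⁻¹, V.inv_mem hb, ?_⟩
    have h := hVc b⁻¹ (V.inv_mem hb) (y * a⁻¹ * y⁻¹) (hU a⁻¹ (V.inv_mem ha))
    calc (y * a * y⁻¹ * b)⁻¹ = b⁻¹ * (y * a⁻¹ * y⁻¹) := by group
      _ = (y * a⁻¹ * y⁻¹) * b⁻¹ := h

theorem mem_XX {V : Subgroup G} {y : G} {T : Subgroup G}
    {hVc : ∀ v ∈ V, ∀ x ∈ T, v * x = x * v} {hU : ∀ v ∈ V, y * v * y⁻¹ ∈ T} {g : G} :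
    g ∈ XX V y T hVc hU ↔ ∃ a ∈ V, ∃ b ∈ V, g = (y * a * y⁻¹) * b := Iff.rfl

/-- `M = N_H(X)` -/
def MM (H V : Subgroup G) (y : G) (T : Subgroup G) (hVc : ∀ v ∈ V, ∀ x ∈ T, v * x = x * v)
    (hU : ∀ v ∈ V, y * v * y⁻¹ ∈ T) : Subgroup G :=
  H ⊓ Subgroup.normalizer ((XX V y T hVc hU : Subgroup G) : Set G)

section
variable [Finite G] (s : Setup H P T K y ρ n) (c : C2 H P T V Z w0)
  (hU : ∀ v ∈ V, y * v * y⁻¹ ∈ T)

theorem MM_le : MM H V y T c.hVc hU ≤ H := inf_le_left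

theorem mem_MM_of_conj {d : G} (hd : d ∈ H)
    (h : ∀ x ∈ XX V y T c.hVc hU, d * x * d⁻¹ ∈ XX V y T c.hVc hU) :
    d ∈ MM H V y T c.hVc hU :=
  ⟨hd, mem_normalizer_of_conj_mem h⟩

theorem conj_mem_XX_of_mem_MM {d x : G} (hd : d ∈ MM H V y T c.hVc hU)
    (hx : x ∈ XX V y T c.hVc hU) : d * x * d⁻¹ ∈ XX V y T c.hVc hU :=
  (Subgroup.mem_normalizer_iff.mp hd.2 x).mp hx

include s in
theorem hMX {d : G} (hd : d ∈ H) (h : ∀ v ∈ V, ∃ v' ∈ V, ∃ v'' ∈ V,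
    d * (y * v * y⁻¹) * d⁻¹ = (y * v' * y⁻¹) * v'') : d ∈ MM H V y T c.hVc hU := by
  apply mem_MM_of_conj c hU hd
  rintro _ ⟨a, ha, b, hb, rfl⟩
  obtain ⟨v', hv', v'', hv'', e⟩ := h a ha
  refine ⟨v', hv', v'' * (d * b * d⁻¹), V.mul_mem hv'' (c.hVn d hd b hb), ?_⟩
  calc d * (y * a * y⁻¹ * b) * d⁻¹ = (d * (y * a * y⁻¹) * d⁻¹) * (d * b * d⁻¹) := by group
    _ = (y * v' * y⁻¹ * v'') * (d * b * d⁻¹) := by rw [e]
    _ = y * v' * y⁻¹ * (v'' * (d * b * d⁻¹)) := by group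

include s in
theorem hPM : P ≤ MM H V y T c.hVc hU := by
  intro p hp
  apply hMX s c hU (s.hPH hp)
  intro v hv
  refine ⟨(y⁻¹ * p * y) * v * (y⁻¹ * p * y)⁻¹, c.hVn _ (s.hPH (s.hyP' p hp)) v hv, 1, V.one_mem, ?_⟩
  group

include s in
/-- `X` is `y`-invariant -/
theorem XX_conj_y {x : G} (hx : x ∈ XX V y T c.hVc hU) : y * x * y⁻¹ ∈ XX V y T c.hVc hU := by
  obtain ⟨a, ha, b, hb, rfl⟩ := hx
  obtain ⟨p0, hp0, h2⟩ := s.hy2
  have haP : a ∈ P := s.hTP (c.hVT ha)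
  have e1 := h2 a haP
  have hv : p0 * a * p0⁻¹ ∈ V := c.hVn p0 (s.hPH hp0) a ha
  refine ⟨b, hb, p0 * a * p0⁻¹, hv, ?_⟩
  have hc := c.hVc (p0 * a * p0⁻¹) hv (y * b * y⁻¹) (hU b hb)
  calc y * (y * a * y⁻¹ * b) * y⁻¹ = (y * y * a * y⁻¹ * y⁻¹) * (y * b * y⁻¹) := by group
    _ = (p0 * a * p0⁻¹) * (y * b * y⁻¹) := by rw [e1]
    _ = (y * b * y⁻¹) * (p0 * a * p0⁻¹) := hc

theorem XX_le_T : XX V y T c.hVc hU ≤ T := by
  rintro _ ⟨a, ha, b, hb, rfl⟩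
  exact T.mul_mem (hU a ha) (c.hVT hb)

theorem V_le_XX : V ≤ XX V y T c.hVc hU := by
  intro v hv
  exact ⟨1, V.one_mem, v, hv, by group⟩

include s in
/-- `M ≠ H` -/
theorem exists_not_mem_MM : ∃ d ∈ H, d ∉ MM H V y T c.hVc hU := by
  by_contra hne
  have hall : ∀ d ∈ H, d ∈ MM H V y T c.hVc hU := by
    intro d hd
    by_contra h
    exact hne ⟨d, hd, h⟩
  have hX := s.hyQ (XX V y T c.hVc hU) ((XX_le_T c hU).trans s.hTP)
    (fun a ha x hx => conj_mem_XX_of_mem_MM c hU (hall a ha) hx)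
    (fun x hx => XX_conj_y s c hU hx)
  obtain ⟨v, hv, hvZ⟩ := c.hVZ
  have h1 : v ∈ XX V y T c.hVc hU := V_le_XX c hU hv
  rw [hX, Subgroup.mem_bot] at h1
  apply hvZ
  rw [h1]
  exact Z.one_mem

end

end Cfsg.Agent.Lib.Helper2.PU
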