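import Cfsg.Agent.Lib.Helper2.PUBridge1
import Cfsg.Agent.Lib.Helper9.SylowConj2

set_option autoImplicit false
set_option linter.unusedSectionVars false

/-!
# S4385, case IIb : the Sylow argument (`hsyl`) and the index of `M` (`hidx3`)
-/

namespace Cfsg.Agent.Lib.Helper2.PU

variable {G : Type*} [Group G] {H P T K V Z : Subgroup G} {y ρ w0 : G} {n : ℕ}

/-- `P` as a Sylow 2-subgroup of `H` -/
theorem Setup.sylowP [Finite G] (s : Setup H P T K y ρ n) :
    ∃ R : Sylow 2 H, (R : Subgroup H) = P.subgroupOf H := by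
  have : Fact (Nat.Prime 2) := ⟨Nat.prime_two⟩
  have h1 : IsPGroup 2 (P.subgroupOf H) := s.hP2.comap_subtype
  have h2 : ¬ 2 ∣ (P.subgroupOf H).index := s.hPsyl
  exact ⟨h1.toSylow h2, h1.toSylow_coe h2⟩

/-- an element of `H` conjugating some `q ∈ P \ T` into `P` lies in `P` -/
theorem Setup.mem_P_of_conj (s : Setup H P T K y ρ n) {e q : G} (he : e ∈ H) (hq : q ∈ P)
    (hqT : q ∉ T) (h : e * q * e⁻¹ ∈ P) : e ∈ P := by
  apply s.normalizer_P he
  intro p hp
  by_cases hpT : p ∈ T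
  · exact s.hTP (s.hTn e he p hpT)
  · have hx : q⁻¹ * p ∈ T := s.inv_mul_mem_T hq hqT hp hpT
    have e1 : e * p * e⁻¹ = (e * q * e⁻¹) * (e * (q⁻¹ * p) * e⁻¹) := by group
    rw [e1]
    exact P.mul_mem h (s.hTP (s.hTn e he _ hx))

section
variable [Finite G] (s : Setup H P T K y ρ n) (c : C2 H P T V Z w0)
  (hU : ∀ v ∈ V, y * v * y⁻¹ ∈ T)

include s in
theorem hsyl {q d : G} (hq : q ∈ P) (hqT : q ∉ T) (hd : d ∈ H)
    (h : d * q * d⁻¹ ∈ MM H V y T c.hVc hU) : d ∈ MM H V y T c.hVc hU := by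
  have : Fact (Nat.Prime 2) := ⟨Nat.prime_two⟩
  obtain ⟨R, hR⟩ := s.sylowP
  obtain ⟨R', hR'⟩ := Cfsg.Agent.Lib.Helper9.sylowIn_of_le (hPM s c hU) (MM_le c hU) R hR
  -- the 2-subgroup generated by d q d⁻¹
  have hU2 : IsPGroup 2 ((Subgroup.zpowers q).map (MulAut.conj d).toMonoidHom) := by
    apply IsPGroup.map
    exact s.hP2.to_le ((Subgroup.zpowers_le).mpr hq)
  have hUM : (Subgroup.zpowers q).map (MulAut.conj d).toMonoidHom ≤ MM H V y T c.hVc hU := by
    rintro _ ⟨x, hx, rfl⟩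
    obtain ⟨k, rfl⟩ := Subgroup.mem_zpowers_iff.mp hx
    have e : (MulAut.conj d).toMonoidHom (q ^ k) = (d * q * d⁻¹) ^ k := by
      show d * q ^ k * d⁻¹ = (d * q * d⁻¹) ^ k
      rw [conj_zpow]
    rw [e]
    exact Subgroup.zpow_mem _ h k
  obtain ⟨m, hm, hle⟩ := Cfsg.Agent.Lib.Helper9.exists_cj_le_of_sylowIn R' hR' hUM hU2
  have h1 : m * (d * q * d⁻¹) * m⁻¹ ∈ P := by
    apply hle
    refine ⟨d * q * d⁻¹, ⟨q, Subgroup.mem_zpowers q, rfl⟩, rfl⟩
  have hmH : m ∈ H := MM_le c hU hm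
  have he : m * d ∈ P := by
    apply s.mem_P_of_conj (H.mul_mem hmH hd) hq hqT
    have e : m * d * q * (m * d)⁻¹ = m * (d * q * d⁻¹) * m⁻¹ := by group
    rw [e]; exact h1
  have h2 := (MM H V y T c.hVc hU).mul_mem ((MM H V y T c.hVc hU).inv_mem hm) (hPM s c hU he)
  rwa [inv_mul_cancel_left] at h2

include s in
theorem hidx3 (c0 : G) (hc0 : c0 ∈ H) :
    ∃ b ∈ H, b ∉ MM H V y T c.hVc hU ∧ c0 * b ∉ MM H V y T c.hVc hU := by
  by_contra hne
  have hall : ∀ b ∈ H, b ∈ MM H V y T c.hVc hU ∨ c0 * b ∈ MM H V y T c.hVc hU := by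
    intro b hb
    by_contra h
    rw [not_or] at h
    exact hne ⟨b, hb, h.1, h.2⟩
  obtain ⟨d, hd, hdM⟩ := exists_not_mem_MM s c hU
  have hc0M : c0 ∉ MM H V y T c.hVc hU := by
    intro hc
    rcases hall d hd with h | h
    · exact hdM h
    · have := (MM H V y T c.hVc hU).mul_mem ((MM H V y T c.hVc hU).inv_mem hc) h
      rw [inv_mul_cancel_left] at this
      exact hdM this
  -- index two
  have h2 : (MM H V y T c.hVc hU).relIndex H = 2 := by
    rw [Subgroup.relIndex_eq_two_iff]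
    refine ⟨c0⁻¹, H.inv_mem hc0, fun b hb => ?_⟩
    by_cases hbM : b ∈ MM H V y T c.hVc hU
    · refine Or.inr ⟨hbM, fun hbc => hc0M ?_⟩
      have := (MM H V y T c.hVc hU).mul_mem ((MM H V y T c.hVc hU).inv_mem hbM) hbc
      rw [inv_mul_cancel_left] at this
      simpa using (MM H V y T c.hVc hU).inv_mem this
    · refine Or.inl ⟨?_, hbM⟩
      rcases hall b⁻¹ (H.inv_mem hb) with h | h
      · exact absurd (by simpa using (MM H V y T c.hVc hU).inv_mem h) hbM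
      · have := (MM H V y T c.hVc hU).inv_mem h
        simpa [mul_inv_rev] using this
  have h3 := Subgroup.relIndex_mul_relIndex P (MM H V y T c.hVc hU) H (hPM s c hU) (MM_le c hU)
  apply s.hPsyl
  rw [← h3, h2]
  exact Dvd.intro_left _ rfl

end

end Cfsg.Agent.Lib.Helper2.PU
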