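import Cfsg.Agent.Lib.Helper2.PUBridge2

set_option autoImplicit false

/-!
# S4385, case IIb is impossible
-/

namespace Cfsg.Agent.Lib.Helper2.PU

variable {G : Type*} [Group G] {H P T K V Z : Subgroup G} {y ρ w0 : G} {n : ℕ}

theorem hyp_of_IIb [Finite G] (s : Setup H P T K y ρ n) (c : C2 H P T V Z w0)
    (hU : ∀ v ∈ V, y * v * y⁻¹ ∈ T) : Hyp H P T V (MM H V y T c.hVc hU) y w0 where
  hTP := s.hTP
  hPH := s.hPH
  hTn := s.hTn
  hVn := c.hVn
  hVT := c.hVT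
  hVc := c.hVc
  hV2 := c.hV2
  hCPV := c.hCPV
  hw0V := c.hw0V
  hw0 := c.hw0
  hw0H := c.hw0H
  hV2idx := by
    intro v hv v' hv' h1 h2 p hp
    have hvZ : v ∉ Z := fun h => h1 (fun p hp => (c.hZP v h).2.2 p hp)
    have hvZ' : v' ∉ Z := fun h => h2 (fun p hp => (c.hZP v' h).2.2 p hp)
    exact (c.hZP _ (c.hidx v hv v' hv' hvZ hvZ')).2.2 p hp
  hyP := s.hyP
  hyP' := s.hyP'
  hy2 := s.hy2
  hU := hU
  hPM := hPM s c hU
  hMH := MM_le c hU
  hMX := fun d hd h => hMX s c hU hd h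
  hsyl := fun q hq hqT d hd h => hsyl s c hU hq hqT hd h
  hidx3 := fun c0 hc0 => hidx3 s c hU c0 hc0
  hzw := by
    intro h1 h2
    apply c.hw0H
    intro a ha
    have := h1 a ha
    rwa [h2] at this
  hend := fun Q hQT hQn hQy => s.hyQ Q (hQT.trans s.hTP) hQn hQy
  hVne := by
    intro h
    obtain ⟨v, hv, hvZ⟩ := c.hVZ
    rw [h, Subgroup.mem_bot] at hv
    apply hvZ
    rw [hv]
    exact Z.one_mem

theorem caseIIb [Finite G] (s : Setup H P T K y ρ n) (c : C2 H P T V Z w0)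
    (hU : ∀ v ∈ V, y * v * y⁻¹ ∈ T) : False :=
  (hyp_of_IIb s c hU).false

end Cfsg.Agent.Lib.Helper2.PU
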