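import Mathlib
import Cfsg.Prelude

set_option autoImplicit false
open Pointwise

/-!
# S4385 : definitions for the farm "D2N"

`Ctx`    : the hypotheses of S4385 (without the unused Sylow subgroup `S`).
`SetupA` : elementwise facts about `H`, `T = O_2(H)`, `K` = preimage of the rotation subgroup,
           `ρ` an element of order `n` generating `K` mod `T`, `P` the Sylow 2-subgroup.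
`SetupY` : elementwise facts about `y`.
`Setup`  : both.
`C2a`, `C2` : the data of Case II (`C_P(T) ≤ T`): `Z = Ω₁Z(P)`, `V = ⟨Z^H⟩`, the transvection
           centre `w0`.
`IsW`, `RhoW`, `IsT0` : data of Case IIa.
-/

namespace Cfsg.Agent.Lib.Helper2.PU

variable {G : Type*} [Group G]

/-- the hypotheses of S4385 -/
structure Ctx (H P : Subgroup G) (n : ℕ) (y : G) : Prop where
  hO : Cfsg.pCore 2 ↥H ≠ ⊥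
  hn : 2 ≤ n
  hdih : Nonempty (↥H ⧸ Cfsg.pCore 2 ↥H ≃* DihedralGroup n)
  hPH : P ≤ H
  hP : IsPGroup 2 P
  hPsyl : ¬ 2 ∣ P.relIndex H
  hyP : y ∉ P
  hy2 : y ^ 2 ∈ P ⊔ Subgroup.centralizer (P : Set G)
  hyN : MulAut.conj y • P = P
  hyQ : ∀ Q : Subgroup G, Q ≤ P → (Q.subgroupOf H).Normal → MulAut.conj y • Q = Q → Q = ⊥

/-- elementwise facts about `H`, `P`, `T = O_2(H)`, `K`, `ρ` -/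
structure SetupA (H P T K : Subgroup G) (ρ : G) (n : ℕ) : Prop where
  hTdef : T = (Cfsg.pCore 2 ↥H).map H.subtype
  hTP : T ≤ P
  hPH : P ≤ H
  hTK : T ≤ K
  hKH : K ≤ H
  hTn : ∀ a ∈ H, ∀ x ∈ T, a * x * a⁻¹ ∈ T
  hKn : ∀ a ∈ H, ∀ x ∈ K, a * x * a⁻¹ ∈ K
  hT2 : IsPGroup 2 T
  hP2 : IsPGroup 2 P
  hPsyl : ¬ 2 ∣ P.relIndex H
  hTmax : ∀ N : Subgroup G, N ≤ H → IsPGroup 2 N → (∀ a ∈ H, ∀ x ∈ N, a * x * a⁻¹ ∈ N) → N ≤ T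
  hTne : T ≠ ⊥
  hnodd : Odd n
  hn3 : 3 ≤ n
  hρK : ρ ∈ K
  hρn : orderOf ρ = n
  hKρ : ∀ k ∈ K, ∃ i : ℕ, ∃ x ∈ T, k = x * ρ ^ i
  hPK : ∀ p ∈ P, p ∈ K → p ∈ T
  hPT : ∃ t ∈ P, t ∉ T
  hidx : ∀ p ∈ P, ∀ q ∈ P, p ∉ T → q ∉ T → p * q ∈ T
  hHK : ∀ a ∈ H, ∃ k ∈ K, ∃ p ∈ P, a = k * p
  hinv : ∀ t ∈ P, t ∉ T → ∀ k ∈ K, t * k * t⁻¹ * k ∈ T
  hcardH : Nat.card H = Nat.card T * (2 * n)

/-- elementwise facts about `y` -/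
structure SetupY (H P : Subgroup G) (y : G) : Prop where
  hyP : ∀ p ∈ P, y * p * y⁻¹ ∈ P
  hyP' : ∀ p ∈ P, y⁻¹ * p * y ∈ P
  hy2 : ∃ p0 ∈ P, ∀ x ∈ P, y * y * x * y⁻¹ * y⁻¹ = p0 * x * p0⁻¹
  hyQ : ∀ Q : Subgroup G, Q ≤ P → (∀ a ∈ H, ∀ x ∈ Q, a * x * a⁻¹ ∈ Q) →
    (∀ x ∈ Q, y * x * y⁻¹ ∈ Q) → Q = ⊥

/-- all elementwise facts extracted from `Ctx` -/
structure Setup (H P T K : Subgroup G) (y ρ : G) (n : ℕ) : Prop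
    extends SetupA H P T K ρ n, SetupY H P y

/-- Case II, first part: `Z = Ω₁ Z(P)`, `V = ⟨Z^H⟩` -/
structure C2a (H P T V Z : Subgroup G) : Prop where
  hZP : ∀ z ∈ Z, z ∈ P ∧ z * z = 1 ∧ ∀ p ∈ P, p * z = z * p
  hZmem : ∀ z ∈ P, z * z = 1 → (∀ p ∈ P, p * z = z * p) → z ∈ Z
  hZV : Z ≤ V
  hVT : V ≤ T
  hVn : ∀ a ∈ H, ∀ v ∈ V, a * v * a⁻¹ ∈ V
  hVc : ∀ v ∈ V, ∀ x ∈ T, v * x = x * v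
  hV2 : ∀ v ∈ V, v * v = 1
  hVmin : ∀ N : Subgroup G, Z ≤ N → (∀ a ∈ H, ∀ x ∈ N, a * x * a⁻¹ ∈ N) → V ≤ N
  hVZ : ∃ v ∈ V, v ∉ Z

/-- the data of Case II -/
structure C2 (H P T V Z : Subgroup G) (w0 : G) : Prop extends C2a H P T V Z where
  hidx : ∀ v ∈ V, ∀ v' ∈ V, v ∉ Z → v' ∉ Z → v * v' ∈ Z
  hCPV : ∀ p ∈ P, (∀ v ∈ V, p * v = v * p) → p ∈ T
  hw0V : w0 ∈ V
  hw0 : ∀ p ∈ P, ∀ v ∈ V, p * v * p⁻¹ * v⁻¹ = 1 ∨ p * v * p⁻¹ * v⁻¹ = w0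
  hw0H : ¬ ∀ a ∈ H, a * w0 = w0 * a
  hw0Z : w0 ∈ Z
  hw01 : w0 ≠ 1

/-- Case IIa: `W = [V, O^2(H)]`, a four-group -/
structure IsW (H V W : Subgroup G) (w0 : G) : Prop where
  hWV : W ≤ V
  hWn : ∀ g ∈ H, ∀ w ∈ W, g * w * g⁻¹ ∈ W
  hw0W : w0 ∈ W
  hW4 : Nat.card W = 4

/-- Case II: the action of `ρ` on `W`, with `a = ρ w0 ρ⁻¹` -/
structure RhoW (H V Z W : Subgroup G) (ρ w0 : G) : Prop where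
  ha1 : ρ * w0 * ρ⁻¹ ≠ 1
  haw : ρ * w0 * ρ⁻¹ ≠ w0
  hρa : ρ * (ρ * w0 * ρ⁻¹) * ρ⁻¹ = (ρ * w0 * ρ⁻¹) * w0
  hlist : ∀ w ∈ W, w = 1 ∨ w = w0 ∨ w = ρ * w0 * ρ⁻¹ ∨ w = (ρ * w0 * ρ⁻¹) * w0
  hVW : ∀ g ∈ H, ∀ v ∈ V, g * v * g⁻¹ * v⁻¹ ∈ W
  haZ : ρ * w0 * ρ⁻¹ ∉ Z

/-- Case IIa: `T0 = C_T(ρ)`, `T = T0 × W` -/
structure IsT0 (H T W T0 : Subgroup G) (ρ : G) : Prop where
  hT0T : T0 ≤ T
  hT0ρ : ∀ c ∈ T0, ρ * c = c * ρ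
  hdec : ∀ x ∈ T, ∃ c ∈ T0, ∃ w ∈ W, x = c * w
  hT0n : ∀ g ∈ H, ∀ c ∈ T0, g * c * g⁻¹ ∈ T0
  hT0W : ∀ c ∈ T0, c ∈ W → c = 1

end Cfsg.Agent.Lib.Helper2.PU
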