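import Cfsg.Agent.Lib.Helper2.PUBridge3
import Cfsg.Agent.Lib.Helper2.D2NDihY
import Cfsg.Agent.Lib.Helper2.D2NIIaU
import Cfsg.Agent.Lib.Helper2.D2NIIaN
import Cfsg.Agent.Lib.Helper3.D2NCaseICard
import Cfsg.Agent.Lib.Helper4.D2NA3
import Cfsg.Agent.Lib.Helper4.D2NC1
import Cfsg.Agent.Lib.Helper4.D2NC3
import Cfsg.Agent.Lib.Helper5.D2NDihStruct
import Cfsg.Agent.Lib.Helper5.D2NRechoose
import Cfsg.Agent.Lib.Helper7.D2NIIaFin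
import Cfsg.Agent.Lib.Helper4.D2NA5

set_option autoImplicit false
open Pointwise

namespace Cfsg.Agent.Lib.Helper2.PU

variable {G : Type*} [Group G] {H P T K V Z W T0 : Subgroup G} {y ρ w0 : G} {n : ℕ}

theorem setup_of_ctx [Finite G] (c : Ctx H P n y) :
    ∃ T K : Subgroup G, ∃ ρ : G, Setup H P T K y ρ n := by
  obtain ⟨hodd, h3⟩ := Cfsg.Agent.Lib.Helper5.D2N.dih_odd c
  obtain ⟨T, hT⟩ : ∃ T : Subgroup G, T = (Cfsg.pCore 2 ↥H).map H.subtype := ⟨_, rfl⟩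
  obtain ⟨h1, h2, h3', h4, h5⟩ := Cfsg.Agent.Lib.Helper5.D2N.dih_core c hT
  obtain ⟨K, ρ, sA⟩ := Cfsg.Agent.Lib.Helper5.D2N.dih_struct c hodd h3 hT h1 h2 h3' h4 h5
  exact ⟨T, K, ρ, ⟨sA, dih_y c⟩⟩

theorem c2_build [Finite G] (s : Setup H P T K y ρ n)
    (hII : ∀ z ∈ P, (∀ x ∈ T, z * x = x * z) → z ∈ T) :
    ∃ V Z : Subgroup G, ∃ w0 : G, C2 H P T V Z w0 := by
  obtain ⟨V, Z, ca⟩ := Cfsg.Agent.Lib.Helper4.D2N.c2_ZV s hII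
  obtain ⟨A, hAP, hA2, hAT, hAmax⟩ := Cfsg.Agent.Lib.Helper4.D2N.c2_J s
  have hidx := Cfsg.Agent.Lib.Helper4.D2N.c2_idx s ca A hAP hA2 hAT hAmax
  obtain ⟨w0, hw0V, hw0, hCPV, hw0Z, hw01⟩ := Cfsg.Agent.Lib.Helper4.D2N.c2_transv s ca hidx
  have hw0H := Cfsg.Agent.Lib.Helper4.D2N.c2_w0H s ca hw0V hw0 hw0Z
  exact ⟨V, Z, w0, C2.mk ca hidx hCPV hw0V hw0 hw0H hw0Z hw01⟩

theorem caseI [Finite G] (s : Setup H P T K y ρ n)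
    (hI : ∃ z ∈ P, z ∉ T ∧ ∀ x ∈ T, z * x = x * z) :
    Nat.card P = 4 ∧
    Nonempty (↥H ⧸ Cfsg.oddCore ↥H ≃* Multiplicative (ZMod 2) × Multiplicative (ZMod 2)) := by
  obtain ⟨ρ', s', hρT⟩ := Cfsg.Agent.Lib.Helper5.D2N.caseI_rho s hI
  have hnorm := Cfsg.Agent.Lib.Helper5.D2N.caseI_norm s' hρT
  obtain ⟨hT2, hP4, hP2⟩ := Cfsg.Agent.Lib.Helper3.D2N.caseI_card s' hρT
  exact ⟨hP4, Cfsg.Agent.Lib.Helper5.D2N.caseI_fin s' hρT hnorm hT2 hP2⟩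

theorem iia_final [Finite G] (s : Setup H P T K y ρ n) (c : C2 H P T V Z w0)
    (hIIa : ∃ v ∈ V, y * v * y⁻¹ ∉ T) :
    (Nat.card P = 8 ∨ Nat.card P = 16) ∧
    (Nonempty (↥H ⧸ Cfsg.oddCore ↥H ≃* Equiv.Perm (Fin 4)) ∨
     Nonempty (↥H ⧸ Cfsg.oddCore ↥H ≃* Equiv.Perm (Fin 4) × Multiplicative (ZMod 2))) := by
  obtain ⟨hyw0, hA1⟩ := iia_u s c hIIa
  obtain ⟨W, hW⟩ := iia_W s c
  obtain ⟨v1, hv1V, hv1Z⟩ := c.hVZ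
  obtain ⟨huP, huT, hu⟩ := hA1 v1 hv1V hv1Z
  obtain ⟨ρ', s', hρW⟩ := Cfsg.Agent.Lib.Helper4.D2N.iia_rho s c hW (y * v1 * y⁻¹) huP huT hu
  have r := iia_rhoW s' c hW
  obtain ⟨T0, t0⟩ := iia_T0 s' c hW r hρW
  have hsmall := Cfsg.Agent.Lib.Helper4.D2N.iia_T0small s' c hW r hρW t0 hyw0 hA1
  obtain ⟨h3n, hρ3T, hρ3n, hself⟩ := iia_N s' c hW r hρW t0
  by_cases hT0 : ∀ c ∈ T0, c = 1
  · obtain ⟨h1, h2⟩ := Cfsg.Agent.Lib.Helper7.D2N.iia_fin24 s' c hW r t0 h3n hρ3T hρ3n hself hT0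
    exact ⟨Or.inl h1, Or.inl h2⟩
  · obtain ⟨ω, hωT0, hω1⟩ : ∃ ω ∈ T0, ω ≠ 1 := by
      by_contra hne
      exact hT0 (fun c hc => by_contra (fun h1 => hne ⟨c, hc, h1⟩))
    have hu2 : (y * v1 * y⁻¹) * (y * v1 * y⁻¹) = 1 := by
      have : (y * v1 * y⁻¹) * (y * v1 * y⁻¹) = y * (v1 * v1) * y⁻¹ := by group
      rw [this, c.hV2 v1 hv1V]; group
    obtain ⟨h1, h2⟩ := Cfsg.Agent.Lib.Helper7.D2N.iia_fin48 s' c hW r t0 h3n hρ3T hρ3n hself hsmall ω hωT0 hω1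
      (y * v1 * y⁻¹) huP huT hu2
    exact ⟨Or.inr h1, Or.inr h2⟩

theorem main [Finite G] (c : Ctx H P n y) :
    (Nat.card P = 4 ∨ Nat.card P = 8 ∨ Nat.card P = 16) ∧
    (Nonempty (↥H ⧸ Cfsg.oddCore ↥H ≃* Multiplicative (ZMod 2) × Multiplicative (ZMod 2)) ∨
     Nonempty (↥H ⧸ Cfsg.oddCore ↥H ≃* Equiv.Perm (Fin 4)) ∨
     Nonempty (↥H ⧸ Cfsg.oddCore ↥H ≃* Equiv.Perm (Fin 4) × Multiplicative (ZMod 2))) := by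
  obtain ⟨T, K, ρ, s⟩ := setup_of_ctx c
  by_cases hI : ∃ z ∈ P, z ∉ T ∧ ∀ x ∈ T, z * x = x * z
  · obtain ⟨h1, h2⟩ := caseI s hI
    exact ⟨Or.inl h1, Or.inl h2⟩
  · have hII : ∀ z ∈ P, (∀ x ∈ T, z * x = x * z) → z ∈ T := by
      intro z hz hc
      by_contra h
      exact hI ⟨z, hz, h, hc⟩
    obtain ⟨V, Z, w0, c2⟩ := c2_build s hII
    by_cases hIIa : ∃ v ∈ V, y * v * y⁻¹ ∉ T
    · obtain ⟨h1, h2⟩ := iia_final s c2 hIIa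
      refine ⟨?_, ?_⟩
      · rcases h1 with h | h
        · exact Or.inr (Or.inl h)
        · exact Or.inr (Or.inr h)
      · rcases h2 with h | h
        · exact Or.inr (Or.inl h)
        · exact Or.inr (Or.inr h)
    · exfalso
      exact caseIIb s c2 (fun v hv => by_contra (fun h => hIIa ⟨v, hv, h⟩))

end Cfsg.Agent.Lib.Helper2.PU
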