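import Cfsg.Agent.Lib.Helper2.PUBasic2
import Cfsg.Agent.Lib.Helper2.PU2bMain

set_option autoImplicit false
open Pointwise

/-!
# S4385 (farm D2N) : STUBS.  NEVER IMPORT THIS FILE (it contains `sorry`).

Every unit below is to be proved in a NEW file `Cfsg/Agent/Lib/HelperN/D2N<Unit>.lean`, in the
namespace `Cfsg.Agent.Lib.HelperN.D2N`, with the statement VERBATIM (same binder order).
Defs: `import Cfsg.Agent.Lib.Helper2.PUDefs` (structures), `PUBasic`, `PUBasic2` (basic lemmas: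
`Setup.TH`, `Setup.inv_conj_T`, `Setup.rho_pow_eq_one`, `Setup.rho_pow_of_sq`, `Setup.sq_decomp`,
`Setup.mem_T_of_sq`, `Setup.comm_decomp`, `Setup.normalizer_P`, `Setup.closure_P`).
-/

namespace Cfsg.Agent.Lib.Helper2.PU.Stub

variable {G : Type*} [Group G]

/-! ## Block GEN : Defs-free units (import Mathlib + the cited library files only) -/

/-- OC. A finite group with a self-centralizing normal 2-subgroup has trivial odd core.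
Proof: `O := pPrimeCore 2 X` is normal of odd order (`Helper1.pPrimeCore_normal`,
`Helper1.pPrimeCore_card_coprime` in Lib/Helper1/FittingCentralizer.lean, PLengthOne.lean);
`[O, Q] ≤ O ⊓ Q = ⊥` (coprime orders), so `O` centralizes `Q`, `O ≤ Q`, `O = O ⊓ Q = ⊥`. -/
theorem OC {X : Type*} [Group X] [Finite X] (Q : Subgroup X) [Q.Normal] (hQ : IsPGroup 2 Q)
    (hself : ∀ g : X, (∀ q ∈ Q, g * q = q * g) → g ∈ Q) : Cfsg.pPrimeCore 2 X = ⊥ := by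
  sorry

/-- QUOT. Proof: `Helper1.pPrimeCore_eq_comap_of_coprime_ker f hf hker`
(Lib/Helper1/PConstrainedLocal2.lean) gives `oddCore A = (⊥).comap f = f.ker`; then
`QuotientGroup.quotientMulEquivOfEq` and `QuotientGroup.quotientKerEquivOfSurjective`. -/
theorem QUOT {A X : Type*} [Group A] [Finite A] [Group X] (f : A →* X)
    (hf : Function.Surjective f) (hker : (Nat.card f.ker).Coprime 2)
    (hX : Cfsg.pPrimeCore 2 X = ⊥) : Nonempty (A ⧸ Cfsg.oddCore A ≃* X) := by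
  sorry

/-- FIN4. `X := ↥H ⧸ N.subgroupOf H` has order 4 and exponent 2, so it is a Klein four group
(`IsKleinFour`, `IsKleinFour.mulEquiv`), it is a 2-group so `pPrimeCore 2 X = ⊥` (OC with `Q = ⊤`),
then QUOT with `f = QuotientGroup.mk'` composed with the isomorphism. -/
theorem FIN4 [Finite G] {H N : Subgroup G} (hNH : N ≤ H)
    (hNn : ∀ a ∈ H, ∀ x ∈ N, a * x * a⁻¹ ∈ N) (hNodd : Odd (Nat.card N))
    (hH : Nat.card H = 4 * Nat.card N) (hsq : ∀ g ∈ H, g * g ∈ N) :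
    Nonempty (↥H ⧸ Cfsg.oddCore ↥H ≃* Multiplicative (ZMod 2) × Multiplicative (ZMod 2)) := by
  sorry

/-- FIN24. `X := ↥H ⧸ N.subgroupOf H` has order 24; `Q :=` image of `T` is normal of order 4
(`T ⊓ N = ⊥`, coprime orders), exponent 2, self-centralizing (if `g x g⁻¹ x⁻¹ ∈ N` for all
`x ∈ T` then it lies in `T ⊓ N = ⊥`, so `hself` applies).  Then
`Cfsg.Agent.Lib.Helper7.Am.recog24` (Lib/Helper7/Am6.lean), OC, QUOT. -/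
theorem FIN24 [Finite G] {H T N : Subgroup G} (hTH : T ≤ H) (hNH : N ≤ H)
    (hTn : ∀ a ∈ H, ∀ x ∈ T, a * x * a⁻¹ ∈ T) (hNn : ∀ a ∈ H, ∀ x ∈ N, a * x * a⁻¹ ∈ N)
    (hNodd : Odd (Nat.card N)) (hT4 : Nat.card T = 4) (hT2 : ∀ x ∈ T, x * x = 1)
    (hH : Nat.card H = 24 * Nat.card N)
    (hself : ∀ g ∈ H, (∀ x ∈ T, g * x = x * g) → ∃ x ∈ T, ∃ m ∈ N, g = x * m) :
    Nonempty (↥H ⧸ Cfsg.oddCore ↥H ≃* Equiv.Perm (Fin 4)) := by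
  sorry

/-- FIN48. Same with `Cfsg.Agent.Lib.Helper7.Am.recog48` (its `Q` = image of `T`, its `T` = image
of `P`), then `MulEquiv.prodComm`. -/
theorem FIN48 [Finite G] {H P T N : Subgroup G} (hTP : T ≤ P) (hPH : P ≤ H) (hNH : N ≤ H)
    (hTn : ∀ a ∈ H, ∀ x ∈ T, a * x * a⁻¹ ∈ T) (hNn : ∀ a ∈ H, ∀ x ∈ N, a * x * a⁻¹ ∈ N)
    (hNodd : Odd (Nat.card N)) (hT8 : Nat.card T = 8) (hT2 : ∀ x ∈ T, x * x = 1)
    (hP16 : Nat.card P = 16) (hH : Nat.card H = 48 * Nat.card N)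
    (hself : ∀ g ∈ H, (∀ x ∈ T, g * x = x * g) → ∃ x ∈ T, ∃ m ∈ N, g = x * m)
    (ω w a t : G) (hω : ∀ g ∈ H, g * ω = ω * g) (hω1 : ω ≠ 1) (hωT : ω ∈ T)
    (hwT : w ∈ T) (haT : a ∈ T) (htP : t ∈ P) (htT : t ∉ T) (ht2 : t * t = 1)
    (hta : t * a * t⁻¹ = a * w) (htw : t * w = w * t)
    (hωw : ω ≠ w) (hωa : ω ≠ a) (hωaw : ω ≠ a * w)
    (hdecT : ∀ b ∈ P, b ∈ T ∨ b * t ∈ T)
    (hdecQ : ∀ q ∈ T, ∃ o : G, (o = 1 ∨ o = ω) ∧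
      (q = o ∨ q = o * w ∨ q = o * a ∨ q = o * (a * w))) :
    Nonempty (↥H ⧸ Cfsg.oddCore ↥H ≃* Equiv.Perm (Fin 4) × Multiplicative (ZMod 2)) := by
  sorry

/-! ## Block D : from `Ctx` to `Setup` -/

variable {H P T K V Z W T0 : Subgroup G} {y ρ w0 : G} {n : ℕ}

/-- D1. `O_2(H / O_2(H)) = 1`; transfer to `DihedralGroup n`; for even `n` the element
`r (n/2)` is central of order 2, so `O_2 ≠ 1`.  Hence `n` odd, and `2 ≤ n` gives `3 ≤ n`. -/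
theorem dih_odd [Finite G] (c : Ctx H P n y) : Odd n ∧ 3 ≤ n := by
  sorry

/-- D2a. `O_2(H)` lies in every Sylow 2-subgroup, is normal, a 2-group, the largest such.
(`Helper9.le_pCore'`, `pCore_normal'`, `pCore_isPGroup'` in Lib/Helper9/StronglyEmbedded.lean.)
For `T ≤ P`: `T P` is a 2-subgroup of `H` containing `P`, `|T P : P|` divides the odd number
`|H : P|`. -/
theorem dih_core [Finite G] (c : Ctx H P n y) (hT : T = (Cfsg.pCore 2 ↥H).map H.subtype) :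
    T ≤ P ∧ (∀ a ∈ H, ∀ x ∈ T, a * x * a⁻¹ ∈ T) ∧ IsPGroup 2 T ∧
    (∀ N : Subgroup G, N ≤ H → IsPGroup 2 N → (∀ a ∈ H, ∀ x ∈ N, a * x * a⁻¹ ∈ N) → N ≤ T) ∧
    T ≠ ⊥ := by
  sorry

/-- D2b. Let `f : ↥H →* DihedralGroup n` be `mk'` composed with the isomorphism: surjective with
kernel `O_2(H)`.  `K :=` preimage of the rotations `{r i}`; choose `a` with `f a = r 1`, its order
is `n * 2^k`, put `ρ := a ^ (2^k * m)` with `2^k * m ≡ 1 mod n` (or `ρ := a ^ (2^k)`, still a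
generator mod `T`).  `hPK`: the image of `p ∈ P ⊓ K` has 2-power order and odd order.
`hPT`: else `P = T`, but `|H : T| = 2 n` is even.  `hidx`, `hHK`: `|H : K| = 2`, `P ⊓ K = T`.
`hinv`: a reflection inverts the rotations.  `hcardH`: `Nat.card (DihedralGroup n) = 2 * n`. -/
theorem dih_struct [Finite G] (c : Ctx H P n y) (hodd : Odd n) (h3 : 3 ≤ n)
    (hT : T = (Cfsg.pCore 2 ↥H).map H.subtype) (hTP : T ≤ P)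
    (hTn : ∀ a ∈ H, ∀ x ∈ T, a * x * a⁻¹ ∈ T) (hT2 : IsPGroup 2 T)
    (hTmax : ∀ N : Subgroup G, N ≤ H → IsPGroup 2 N →
      (∀ a ∈ H, ∀ x ∈ N, a * x * a⁻¹ ∈ N) → N ≤ T) (hTne : T ≠ ⊥) :
    ∃ K : Subgroup G, ∃ ρ : G, SetupA H P T K ρ n := by
  sorry

/-- D3. `hyP`, `hyP'` from `hyN`; `hy2`: `P ⊔ C_G(P) = P * C_G(P)` (`P` normalizes `C_G(P)`), so
`y ^ 2 = p0 * c`; `hyQ`: translate `(Q.subgroupOf H).Normal` and `MulAut.conj y • Q = Q`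
(for the latter `y Q y⁻¹ ≤ Q` suffices by finiteness, or use `≤` and cardinality). -/
theorem dih_y [Finite G] (c : Ctx H P n y) : SetupY H P y := by
  sorry

/-! ## Block R : re-choosing `ρ` -/

/-- R1. `N` an `H`-invariant subgroup containing some `z ∈ P \ T`.  Then
`c := ρ z ρ⁻¹ z⁻¹ ∈ N ⊓ K` and `c = x ρ²` (`Setup.comm_decomp`).  `ρ' := c ^ (Nat.card T)`:
`(x ρ²)^j = x_j ρ^(2j)` with `x_j ∈ T`; `ρ'^n = 1`; `ρ'^j = 1 → ρ^(2 q j) ∈ T → n ∣ j`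
(`Setup.rho_pow_eq_one`, `n` odd); `hKρ` for `ρ'` since `2 q` is invertible mod `n`. -/
theorem rechoose [Finite G] (s : Setup H P T K y ρ n) (N : Subgroup G)
    (hN : ∀ a ∈ H, ∀ x ∈ N, a * x * a⁻¹ ∈ N) (z : G) (hzP : z ∈ P) (hzT : z ∉ T)
    (hzN : z ∈ N) : ∃ ρ' : G, ρ' ∈ N ∧ Setup H P T K y ρ' n := by
  sorry

/-! ## Block I : Case I (`C_P(T) ≰ T`) -/

/-- I1. `rechoose` with `N := H ⊓ centralizer T`. -/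
theorem caseI_rho [Finite G] (s : Setup H P T K y ρ n)
    (hI : ∃ z ∈ P, z ∉ T ∧ ∀ x ∈ T, z * x = x * z) :
    ∃ ρ' : G, Setup H P T K y ρ' n ∧ ∀ x ∈ T, ρ' * x = x * ρ' := by
  sorry

/-- I2. For `p ∈ P`: `p ρ p⁻¹ = x ρ^i` (`hKρ`), `x` and `ρ^i` commute, `(x ρ^i)^n = x^n = 1`,
`x` is a 2-element and `n` is odd, so `x = 1`.  General `a = x' ρ^j p` (`hHK`, `hKρ`). -/
theorem caseI_norm [Finite G] (s : Setup H P T K y ρ n) (hρT : ∀ x ∈ T, ρ * x = x * ρ) :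
    ∀ a ∈ H, ∃ i : ℕ, a * ρ * a⁻¹ = ρ ^ i := by
  sorry

/-- I3. `D := {x ∈ T | y⁻¹ x y ∈ T}` is `≤ P`, `y`-invariant (`hy2`, `T` normal in `P`),
`H`-invariant (`H = T ⟨ρ⟩ P`, `ρ` centralizes `T`, `D` normal in `P`), so `D = ⊥` (`hyQ`).
For `x, x' ∈ T \ {1}`: `y⁻¹ x y, y⁻¹ x' y ∈ P \ T`, their product lies in `T` (`hidx`), so
`x x' ∈ D = ⊥`.  Hence `T = {1, x0}`, `Nat.card P = 2 * Nat.card T` (index 2 by `hidx`, `hPT`),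
`P = {1, x0, s, s x0}` with `s = y⁻¹ x0 y`, exponent 2. -/
theorem caseI_card [Finite G] (s : Setup H P T K y ρ n) (hρT : ∀ x ∈ T, ρ * x = x * ρ) :
    Nat.card T = 2 ∧ Nat.card P = 4 ∧ ∀ p ∈ P, p * p = 1 := by
  sorry

/-- I4. `FIN4` with `N := Subgroup.zpowers ρ` (`Nat.card N = n` odd, `Nat.card H = 4 * n` by
`hcardH`; `g = x ρ^j p = ρ^j p'`, `g * g = ρ^j (p' ρ^j p'⁻¹) (p' * p') ∈ N`). -/
theorem caseI_fin [Finite G] (s : Setup H P T K y ρ n) (hρT : ∀ x ∈ T, ρ * x = x * ρ)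
    (hnorm : ∀ a ∈ H, ∃ i : ℕ, a * ρ * a⁻¹ = ρ ^ i) (hT2 : Nat.card T = 2)
    (hP2 : ∀ p ∈ P, p * p = 1) :
    Nonempty (↥H ⧸ Cfsg.oddCore ↥H ≃* Multiplicative (ZMod 2) × Multiplicative (ZMod 2)) := by
  sorry

/-! ## Block C : Case II (`C_P(T) ≤ T`), construction of `C2` -/

/-- C1. `Z := {z ∈ P | z * z = 1 ∧ z central in P}`, `V := sInf {N | Z ≤ N ∧ N H-invariant}`.
`Z ≤ Ω₁Z(T) := {x ∈ T | x * x = 1 ∧ x central in T}` by `hII`, and `Ω₁Z(T)` is `H`-invariant, so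
`V ≤ Ω₁Z(T)`: `hVT`, `hVc`, `hV2`.  `hVZ`: else `Z` is `H`-invariant; it is `y`-invariant
(`hyP`, `hyP'`), `≤ P`, and `≠ ⊥` (`P ≠ ⊥` is a 2-group: `IsPGroup.center_nontrivial`, then an
involution in the centre), contradicting `hyQ`. -/
theorem c2_ZV [Finite G] (s : Setup H P T K y ρ n)
    (hII : ∀ z ∈ P, (∀ x ∈ T, z * x = x * z) → z ∈ T) :
    ∃ V Z : Subgroup G, C2a H P T V Z := by
  sorry

/-- C2 (J-argument). `m :=` the largest order of a subgroup of exponent 2 of `P`,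
`J := sSup {A | A ≤ P ∧ exponent 2 ∧ Nat.card A = m}`.  If all such `A` lie in `T` then `J ≤ T`,
`J` is `H`-invariant (`a A a⁻¹ ≤ T ≤ P`, same order) and `y`-invariant, `J ≠ ⊥` (`T ≠ ⊥` contains
an involution, so `m ≥ 2`): contradiction with `hyQ`. -/
theorem c2_J [Finite G] (s : Setup H P T K y ρ n) :
    ∃ A : Subgroup G, A ≤ P ∧ (∀ a ∈ A, a * a = 1) ∧ ¬ A ≤ T ∧
      ∀ B : Subgroup G, B ≤ P → (∀ b ∈ B, b * b = 1) → Nat.card B ≤ Nat.card A := by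
  sorry

/-- C3. `t ∈ A \ T`.  `A ⊓ V ≤ Z` (`v ∈ A ⊓ V` commutes with `t` and `T`, hence with
`P = T ∪ t T`; `hZmem`).  `B := A ⊓ T` has index 2 in `A`.  `E := B ⊔ V` has exponent 2
(`V` central in `T`), `E ≤ P`, so `Nat.card E ≤ Nat.card A = 2 * Nat.card B`: `B.relIndex E ≤ 2`.
If `v, v' ∈ V \ Z` then `v, v' ∉ B`, so `B.relIndex E = 2` and `v * v' ∈ B ≤ A`, `v * v' ∈ Z`. -/
theorem c2_idx [Finite G] (s : Setup H P T K y ρ n) (c : C2a H P T V Z)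
    (A : Subgroup G) (hAP : A ≤ P) (hA2 : ∀ a ∈ A, a * a = 1) (hAT : ¬ A ≤ T)
    (hAmax : ∀ B : Subgroup G, B ≤ P → (∀ b ∈ B, b * b = 1) → Nat.card B ≤ Nat.card A) :
    ∀ v ∈ V, ∀ v' ∈ V, v ∉ Z → v' ∉ Z → v * v' ∈ Z := by
  sorry

/-- C4. `t ∈ P \ T` (`hPT`), `v0 ∈ V \ Z` (`hVZ`), `w0 := t v0 t⁻¹ v0⁻¹`.  For `p ∈ T` the
commutator is 1; for `p ∉ T`, `p = t x` with `x ∈ T` and `[p, v] = [t, v]`; for `v ∈ Z` it is 1,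
for `v ∉ Z`, `v = v0 z` with `z ∈ Z` and `[t, v] = [t, v0]`.  `w0 ≠ 1` (else `v0 ∈ Z`),
`w0 ∈ Z` (`t w0 t⁻¹ = w0⁻¹ = w0`, `t * t ∈ T`). -/
theorem c2_transv (s : Setup H P T K y ρ n) (c : C2a H P T V Z)
    (hidx : ∀ v ∈ V, ∀ v' ∈ V, v ∉ Z → v' ∉ Z → v * v' ∈ Z) :
    ∃ w0 : G, w0 ∈ V ∧
      (∀ p ∈ P, ∀ v ∈ V, p * v * p⁻¹ * v⁻¹ = 1 ∨ p * v * p⁻¹ * v⁻¹ = w0) ∧
      (∀ p ∈ P, (∀ v ∈ V, p * v = v * p) → p ∈ T) ∧ w0 ∈ Z ∧ w0 ≠ 1 := by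
  sorry

/-- C5. Suppose `w0` is central in `H`.  `N1 := {g ∈ H | ∀ v ∈ V, g v g⁻¹ v⁻¹ ∈ {1, w0}}` is an
`H`-invariant subgroup containing `P`, so `H ≤ N1` (`Setup.closure_P`).  Then `ρ v ρ⁻¹ = m v`,
`ρ² v ρ⁻² = v`, `ρ` centralizes `V` (`Setup.rho_pow_of_sq` with `N := centralizer V`), so `Z` is
`H`-invariant (`hHK`, `hKρ`), `V ≤ Z` (`hVmin`): contradiction with `hVZ`. -/
theorem c2_w0H (s : Setup H P T K y ρ n) (c : C2a H P T V Z) (hw0V : w0 ∈ V)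
    (hw0 : ∀ p ∈ P, ∀ v ∈ V, p * v * p⁻¹ * v⁻¹ = 1 ∨ p * v * p⁻¹ * v⁻¹ = w0)
    (hw0Z : w0 ∈ Z) : ¬ ∀ a ∈ H, a * w0 = w0 * a := by
  sorry

/-! ## Block A : Case IIa (`y V y⁻¹ ≰ T`) -/

/-- A1. Pick `v1 ∈ V` with `u := y v1 y⁻¹ ∉ T`; `v1 ∉ Z` (`Z` is `y`-invariant, `Z ≤ T`).
`u v1 u⁻¹ v1⁻¹ = w0` (`hw0`, and `= 1` would give `v1 ∈ Z`).  `u' := y⁻¹ v1 y ∈ P \ T`
(`hy2`: `u = p0 u' p0⁻¹`).  Conjugating by `y⁻¹`: `y⁻¹ w0 y = v1 u' v1⁻¹ u'⁻¹ = w0⁻¹ = w0`.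
For `v ∈ V \ Z`: `v v1 ∈ Z ≤ T`, so `y v y⁻¹ ∉ T`; and for `x ∈ T`, `x' := y⁻¹ x y ∈ P`,
`(y v y⁻¹) x (y v y⁻¹)⁻¹ x⁻¹ = y (v x' v⁻¹ x'⁻¹) y⁻¹ ∈ {1, y w0 y⁻¹}`. -/
theorem iia_u (s : Setup H P T K y ρ n) (c : C2 H P T V Z w0)
    (hIIa : ∃ v ∈ V, y * v * y⁻¹ ∉ T) :
    y * w0 * y⁻¹ = w0 ∧ ∀ v ∈ V, v ∉ Z → (y * v * y⁻¹ ∈ P ∧ y * v * y⁻¹ ∉ T ∧
      ∀ x ∈ T, (y * v * y⁻¹) * x * (y * v * y⁻¹)⁻¹ * x⁻¹ = 1 ∨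
        (y * v * y⁻¹) * x * (y * v * y⁻¹)⁻¹ * x⁻¹ = w0) := by
  sorry

/-- A2a. `a := ρ w0 ρ⁻¹`, `W := {1, w0, a, a w0}`.  `a ≠ w0` (else `w0` is central in
`H = T ⟨ρ⟩ P`).  With `t ∈ P \ T`, `x := t ρ t⁻¹ ρ ∈ T` (`hinv`): `ρ² = (ρ t ρ⁻¹) t⁻¹ x`, so
`ρ² v ρ⁻² = v m1 m2` with `m1 ∈ {1, w0}`, `m2 ∈ {1, a}`; hence `ρ a ρ⁻¹ = ρ² w0 ρ⁻² ∈ W`, and it
is `≠ 1, a`, so `W` is `ρ`-invariant; `P`-invariant by `hw0`, `hw0Z`; `T` centralizes `V`. -/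
theorem iia_W [Finite G] (s : Setup H P T K y ρ n) (c : C2 H P T V Z w0) :
    ∃ W : Subgroup G, IsW H V W w0 := by
  sorry

/-- A2b. `a := ρ w0 ρ⁻¹ ∈ W`, `a ≠ 1`, `a ≠ w0` (`hw0H`); `hlist` by `Nat.card W = 4`;
`ρ a ρ⁻¹ ∈ W \ {1, a}`, and `= w0` would make `ρ²`, hence `ρ`, commute with `w0`.
`hVW`: `{g ∈ H | ∀ v ∈ V, g v g⁻¹ v⁻¹ ∈ W}` is an `H`-invariant subgroup containing `P`
(`hw0`), use `Setup.closure_P`.  `haZ`: `t a t⁻¹ = (t ρ t⁻¹) w0 (t ρ t⁻¹)⁻¹ = ρ⁻¹ w0 ρ`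
(`t ρ t⁻¹ = x ρ⁻¹`), so `a ∈ Z` would give `ρ a ρ⁻¹ = w0`. -/
theorem iia_rhoW [Finite G] (s : Setup H P T K y ρ n) (c : C2 H P T V Z w0)
    (hW : IsW H V W w0) : RhoW H V Z W ρ w0 := by
  sorry

/-- A3. `rechoose` with `N := {g ∈ H | ∀ x ∈ T, g x g⁻¹ x⁻¹ ∈ W}` (an `H`-invariant subgroup as
`W` and `T` are `H`-invariant), `z := u`. -/
theorem iia_rho [Finite G] (s : Setup H P T K y ρ n) (c : C2 H P T V Z w0)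
    (hW : IsW H V W w0) (u : G) (huP : u ∈ P) (huT : u ∉ T)
    (hu : ∀ x ∈ T, u * x * u⁻¹ * x⁻¹ = 1 ∨ u * x * u⁻¹ * x⁻¹ = w0) :
    ∃ ρ' : G, Setup H P T K y ρ' n ∧ ∀ x ∈ T, ρ' * x * ρ'⁻¹ * x⁻¹ ∈ W := by
  sorry

/-- A4. `T0 := T ⊓ centralizer {ρ}`.  `hdec`: `m := ρ x ρ⁻¹ x⁻¹ ∈ W`; `w ↦ ρ w ρ⁻¹ w⁻¹` is a
bijection of `W` (`1 ↦ 1, a ↦ w0, a w0 ↦ a, w0 ↦ a w0`); with `ρ w ρ⁻¹ w⁻¹ = m`, `x w ∈ T0`.
`hT0W`: no element of `W \ {1}` commutes with `ρ`.  `hT0n`: for `g ∈ H`, `c ∈ T0`: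
`k := g⁻¹ ρ g = c1 w1 ρ^i` (`hKρ`, `hdec`), `k^n = 1`, `c1` commutes with `w1 ρ^i`, so
`c1^n ∈ W ⊓ T0`, `c1 = 1`, and `c` commutes with `k`. -/
theorem iia_T0 [Finite G] (s : Setup H P T K y ρ n) (c : C2 H P T V Z w0)
    (hW : IsW H V W w0) (r : RhoW H V Z W ρ w0)
    (hρW : ∀ x ∈ T, ρ * x * ρ⁻¹ * x⁻¹ ∈ W) : ∃ T0 : Subgroup G, IsT0 H T W T0 ρ := by
  sorry

/-- A5. `a := ρ w0 ρ⁻¹ ∈ V \ Z`, `u := y a y⁻¹ ∈ P \ T`.  For `c ∈ T0`: `u c u⁻¹ c⁻¹ ∈ T0 ⊓ W`,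
so `u` centralizes `T0`.  `g := y c y⁻¹ ∈ P` commutes with `u` and with
`y u y⁻¹ = p0 a p0⁻¹ ∈ {a, a w0}`, hence with `a`, so `g ∈ T` (else `g a g⁻¹ a⁻¹ = w0`);
`g = c' w`, `w` commutes with `u`, `w ∈ W ⊓ Z = {1, w0}`: `y c y⁻¹ ∈ T0 * {1, w0}`.
`Q := {x ∈ T0 | y⁻¹ x y ∈ T0}` is `y`-invariant, `H`-invariant (`H = T0 W ⟨ρ⟩ P`), so `Q = ⊥`:
for `c ≠ 1`, `y c y⁻¹ = c' w0`.  Two such `c1, c2`: `y (c1 c2⁻¹) y⁻¹ ∈ T0`, so `c1 = c2`. -/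
theorem iia_T0small [Finite G] (s : Setup H P T K y ρ n) (c : C2 H P T V Z w0)
    (hW : IsW H V W w0) (r : RhoW H V Z W ρ w0)
    (hρW : ∀ x ∈ T, ρ * x * ρ⁻¹ * x⁻¹ ∈ W) (t0 : IsT0 H T W T0 ρ)
    (hyw0 : y * w0 * y⁻¹ = w0)
    (hA1 : ∀ v ∈ V, v ∉ Z → (y * v * y⁻¹ ∈ P ∧ y * v * y⁻¹ ∉ T ∧
      ∀ x ∈ T, (y * v * y⁻¹) * x * (y * v * y⁻¹)⁻¹ * x⁻¹ = 1 ∨
        (y * v * y⁻¹) * x * (y * v * y⁻¹)⁻¹ * x⁻¹ = w0)) :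
    ∀ c1 ∈ T0, ∀ c2 ∈ T0, c1 = 1 ∨ c2 = 1 ∨ c1 = c2 := by
  sorry

/-- A6. `ρ^i` fixes `w0` iff `3 ∣ i`; `ρ^n = 1` gives `3 ∣ n`.  `ρ³` centralizes `W` and `T0`,
so `T`.  `p ρ³ p⁻¹ = c w ρ^j` centralizes `W`, so `3 ∣ j`, `ρ^j` commutes with `c w`,
`(c w)^n = 1`, `c w = 1`.  `hself`: `g = x ρ^i p` centralizes `V`; on `w0`: `3 ∣ i`; then `p`
centralizes `W ∋ a ∉ Z`, so `p ∈ T`, and `g = (x p') ρ^i`. -/
theorem iia_N [Finite G] (s : Setup H P T K y ρ n) (c : C2 H P T V Z w0)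
    (hW : IsW H V W w0) (r : RhoW H V Z W ρ w0)
    (hρW : ∀ x ∈ T, ρ * x * ρ⁻¹ * x⁻¹ ∈ W) (t0 : IsT0 H T W T0 ρ) :
    3 ∣ n ∧ (∀ x ∈ T, ρ ^ 3 * x = x * ρ ^ 3) ∧
    (∀ g ∈ H, ∃ j : ℕ, g * ρ ^ 3 * g⁻¹ = (ρ ^ 3) ^ j) ∧
    (∀ g ∈ H, (∀ x ∈ T, g * x = x * g) → ∃ x ∈ T, ∃ j : ℕ, g = x * (ρ ^ 3) ^ j) := by
  sorry

end Cfsg.Agent.Lib.Helper2.PU.Stub
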