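import Cfsg.Agent.Lib.Helper2.PUBasic3
import Cfsg.Agent.Lib.Helper2.PU2bMain

set_option autoImplicit false
open Pointwise

/-!
# S4385 (farm D2N) : STUBS, part 2.  NEVER IMPORT THIS FILE (it contains `sorry`).
New basic lemmas in `PUBasic3.lean`: `card_mul_relIndex'`, `card_of_index_two`, `Setup.card_P`,
`Setup.inv_mul_mem_T`, `C2a.ZT`, `C2a.inv_eq`, `C2a.comm_V`, `C2a.Z_conj_y`, `C2a.Z_conj_y'`,
`C2a.mem_Z_of_comm`, `C2.comm_eq_w0`, `C2.w0_comm_P`, `C2.w0_sq`, `C2.w0_inv`.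
-/

namespace Cfsg.Agent.Lib.Helper2.PU.Stub

variable {G : Type*} [Group G] {H P T K V Z W T0 : Subgroup G} {y ρ w0 : G} {n : ℕ}

/-- A7a (case `T0 = ⊥`).  `T = W` (`hdec`, `W ≤ V ≤ T`), `Nat.card T = 4`, `Nat.card P = 8`
(`Setup.card_P`).  `N := Subgroup.zpowers (ρ ^ 3)`, `Nat.card N = n / 3` (`orderOf_pow_of_dvd`),
odd, `Nat.card H = 4 * (2 * n) = 24 * (n / 3)` (`hcardH`).  Then `FIN24` (stub in PUStubs.lean;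
cite its statement as a hypothesis-free lemma from whoever lands it, or take it as an extra
hypothesis `hFIN24` of the same type and tell helper2). -/
theorem iia_fin24 [Finite G] (s : Setup H P T K y ρ n) (c : C2 H P T V Z w0)
    (hW : IsW H V W w0) (r : RhoW H V Z W ρ w0) (t0 : IsT0 H T W T0 ρ)
    (h3n : 3 ∣ n) (hρ3T : ∀ x ∈ T, ρ ^ 3 * x = x * ρ ^ 3)
    (hρ3n : ∀ g ∈ H, ∃ j : ℕ, g * ρ ^ 3 * g⁻¹ = (ρ ^ 3) ^ j)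
    (hself : ∀ g ∈ H, (∀ x ∈ T, g * x = x * g) → ∃ x ∈ T, ∃ j : ℕ, g = x * (ρ ^ 3) ^ j)
    (hT0 : ∀ c ∈ T0, c = 1) :
    Nat.card P = 8 ∧ Nonempty (↥H ⧸ Cfsg.oddCore ↥H ≃* Equiv.Perm (Fin 4)) := by
  sorry

/-- A7b (case `T0 = {1, ω}`).  `ω * ω = 1` (`hsmall` with `ω`, `ω * ω`), `ω` is central in `H`
(`g ω g⁻¹ ∈ T0 \ {1}`), `Nat.card T = 8` (`card_of_index_two` for `W ≤ T` with `t := ω`),
`Nat.card P = 16`, `T` has exponent 2.  `FIN48` with `w := w0`, `a := ρ w0 ρ⁻¹`, `t := u`: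
`u a u⁻¹ a⁻¹ = w0` (`C2.comm_eq_w0`, `r.haZ`), `u w0 = w0 u` (`C2.w0_comm_P`);
`ω ≠ w0, a, a w0` by `hT0W`; `hdecT` by `hidx`; `hdecQ` by `hdec` and `r.hlist`. -/
theorem iia_fin48 [Finite G] (s : Setup H P T K y ρ n) (c : C2 H P T V Z w0)
    (hW : IsW H V W w0) (r : RhoW H V Z W ρ w0) (t0 : IsT0 H T W T0 ρ)
    (h3n : 3 ∣ n) (hρ3T : ∀ x ∈ T, ρ ^ 3 * x = x * ρ ^ 3)
    (hρ3n : ∀ g ∈ H, ∃ j : ℕ, g * ρ ^ 3 * g⁻¹ = (ρ ^ 3) ^ j)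
    (hself : ∀ g ∈ H, (∀ x ∈ T, g * x = x * g) → ∃ x ∈ T, ∃ j : ℕ, g = x * (ρ ^ 3) ^ j)
    (hsmall : ∀ c1 ∈ T0, ∀ c2 ∈ T0, c1 = 1 ∨ c2 = 1 ∨ c1 = c2)
    (ω : G) (hωT0 : ω ∈ T0) (hω1 : ω ≠ 1)
    (u : G) (huP : u ∈ P) (huT : u ∉ T) (hu2 : u * u = 1) :
    Nat.card P = 16 ∧
    Nonempty (↥H ⧸ Cfsg.oddCore ↥H ≃* Equiv.Perm (Fin 4) × Multiplicative (ZMod 2)) := by
  sorry

end Cfsg.Agent.Lib.Helper2.PU.Stub
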