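import Cfsg.Agent.Lib.Helper2.Sing
import Cfsg.Prelude.Def_MonsterType

set_option autoImplicit false
open Cfsg

namespace Cfsg.Agent.Lib.Helper2.LEP

open Cfsg.Agent.Lib.Helper2.ExtraSp Cfsg.Agent.Lib.Helper2.D8Syl Cfsg.Agent.Lib.Helper2.Sing

variable {G : Type*} [Group G]

theorem conj_mem_map {Q : Subgroup G} (g : G) {q : G} (hq : q ∈ Q) :
    g * q * g⁻¹ ∈ Q.map (MulAut.conj g).toMonoidHom := by
  rw [mem_map_conj_iff]
  have e : g⁻¹ * (g * q * g⁻¹) * g = q := by group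
  rw [e]; exact hq

theorem esdata_map_conj {Q : Subgroup G} {z : G} (hES : ESData Q z) (g : G) :
    ESData (Q.map (MulAut.conj g).toMonoidHom) (g * z * g⁻¹) where
  two := hES.two.map _
  zQ := conj_mem_map g hES.zQ
  z_ne := by
    intro h1
    apply hES.z_ne
    have h2 : z = g⁻¹ * (g * z * g⁻¹) * g := by group
    rw [h2, h1]; group
  z_sq := by
    calc g * z * g⁻¹ * (g * z * g⁻¹) = g * (z * z) * g⁻¹ := by group
      _ = 1 := by rw [hES.z_sq]; group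
  z_comm := by
    intro q hq
    have h1 := hES.z_comm _ (mem_map_conj_iff.mp hq)
    calc q * (g * z * g⁻¹) = g * ((g⁻¹ * q * g) * z) * g⁻¹ := by group
      _ = g * (z * (g⁻¹ * q * g)) * g⁻¹ := by rw [h1]
      _ = g * z * g⁻¹ * q := by group
  center_sub := by
    intro c hc h
    have hc' := mem_map_conj_iff.mp hc
    have h' : ∀ q ∈ Q, q * (g⁻¹ * c * g) = (g⁻¹ * c * g) * q := by
      intro q hq
      have h1 := h (g * q * g⁻¹) (conj_mem_map g hq)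
      calc q * (g⁻¹ * c * g) = g⁻¹ * ((g * q * g⁻¹) * c) * g := by group
        _ = g⁻¹ * (c * (g * q * g⁻¹)) * g := by rw [h1]
        _ = (g⁻¹ * c * g) * q := by group
    rcases hES.center_sub _ hc' h' with h2 | h2
    · left
      calc c = g * (g⁻¹ * c * g) * g⁻¹ := by group
        _ = 1 := by rw [h2]; group
    · right
      calc c = g * (g⁻¹ * c * g) * g⁻¹ := by group
        _ = g * z * g⁻¹ := by rw [h2]
  comm_mem := by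
    intro a ha b hb
    have ha' := mem_map_conj_iff.mp ha
    have hb' := mem_map_conj_iff.mp hb
    have e : a * b * a⁻¹ * b⁻¹ =
        g * ((g⁻¹ * a * g) * (g⁻¹ * b * g) * (g⁻¹ * a * g)⁻¹ * (g⁻¹ * b * g)⁻¹) * g⁻¹ := by group
    rcases hES.comm_mem _ ha' _ hb' with h | h
    · left; rw [e, h]; group
    · right; rw [e, h]
  sq_mem := by
    intro a ha
    have ha' := mem_map_conj_iff.mp ha
    have e : a * a = g * ((g⁻¹ * a * g) * (g⁻¹ * a * g)) * g⁻¹ := by group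
    rcases hES.sq_mem _ ha' with h | h
    · left; rw [e, h]; group
    · right; rw [e, h]

theorem cent_map_conj {Q : Subgroup G} (hC : Subgroup.centralizer (Q : Set G) ≤ Q) (g : G) :
    Subgroup.centralizer ((Q.map (MulAut.conj g).toMonoidHom : Subgroup G) : Set G) ≤
      Q.map (MulAut.conj g).toMonoidHom := by
  intro c hc
  rw [mem_map_conj_iff]
  apply hC
  rw [Subgroup.mem_centralizer_iff]
  intro q hq
  have h1 := Subgroup.mem_centralizer_iff.mp hc _ (conj_mem_map g hq)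
  calc q * (g⁻¹ * c * g) = g⁻¹ * ((g * q * g⁻¹) * c) * g := by group
    _ = g⁻¹ * (c * (g * q * g⁻¹)) * g := by rw [h1]
    _ = g⁻¹ * c * g * q := by group

/-- two large extraspecial subgroups with centres `z₁ ≠ z₂`, `z₂ ∈ Q₁`, `z₁ ∈ Q₂` -/
structure Pair (Q₁ Q₂ : Subgroup G) (z₁ z₂ : G) : Prop where
  es₁ : ESData Q₁ z₁
  es₂ : ESData Q₂ z₂
  c₁ : Subgroup.centralizer (Q₁ : Set G) ≤ Q₁
  c₂ : Subgroup.centralizer (Q₂ : Set G) ≤ Q₂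
  n₁ : Subgroup.centralizer ({z₁} : Set G) ≤ Subgroup.normalizer (Q₁ : Set G)
  n₂ : Subgroup.centralizer ({z₂} : Set G) ≤ Subgroup.normalizer (Q₂ : Set G)
  m₁ : z₂ ∈ Q₁
  m₂ : z₁ ∈ Q₂
  ne : z₁ ≠ z₂

theorem Pair.symm {Q₁ Q₂ : Subgroup G} {z₁ z₂ : G} (h : Pair Q₁ Q₂ z₁ z₂) : Pair Q₂ Q₁ z₂ z₁ :=
  ⟨h.es₂, h.es₁, h.c₂, h.c₁, h.n₂, h.n₁, h.m₂, h.m₁, h.ne.symm⟩

theorem large_data [Finite G] {Q : Subgroup G} (hQ : IsLargeExtraspecial Q) {z : G}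
    (hz : ((Subgroup.center ↥Q).map Q.subtype) = Subgroup.zpowers z) (hz2 : orderOf z = 2) :
    ESData Q z ∧ Subgroup.centralizer (Q : Set G) ≤ Q ∧
      Subgroup.centralizer ({z} : Set G) ≤ Subgroup.normalizer (Q : Set G) := by
  obtain ⟨hE, hCQ, hN, -⟩ := hQ
  obtain ⟨z0, hES, hmem⟩ := esdata_of_extraspecial hE
  have hz1 : z ≠ 1 := by intro h; rw [h, orderOf_one] at hz2; norm_num at hz2
  have hz0 : z0 = z := by
    have h1 : z ∈ (Subgroup.center ↥Q).map Q.subtype := by rw [hz]; exact Subgroup.mem_zpowers z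
    rcases (hmem z).mp h1 with h | h
    · exact absurd h hz1
    · exact h.symm
  rw [hz0] at hES
  refine ⟨hES, ?_, ?_⟩
  · rw [hCQ]; exact Subgroup.map_subtype_le _
  · intro c hc
    apply hN
    rw [hz, Subgroup.mem_centralizer_iff]
    intro k hk
    obtain ⟨n, rfl⟩ := Subgroup.mem_zpowers_iff.mp hk
    have hcz : z * c = c * z := mem_cent_single.mp hc
    exact (Commute.zpow_left (show Commute z c from hcz) n).eq

theorem pair_of_large [Finite G] {Q : Subgroup G} (hQ : IsLargeExtraspecial Q) {z : G}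
    (hz : ((Subgroup.center ↥Q).map Q.subtype) = Subgroup.zpowers z) (hz2 : orderOf z = 2)
    {g : G} (hgH : g ∉ Subgroup.centralizer ({z} : Set G)) (hgQ : g * z * g⁻¹ ∈ Q) :
    Pair Q (Q.map (MulAut.conj g).toMonoidHom) z (g * z * g⁻¹) := by
  obtain ⟨hES, hC, hN⟩ := large_data hQ hz hz2
  have hxz : g * z * g⁻¹ ≠ z := by
    intro h
    apply hgH
    rw [mem_cent_single]
    exact (comm_of_cj h).symm
  refine ⟨hES, esdata_map_conj hES g, hC, cent_map_conj hC g, hN, ?_, hgQ,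
    z_mem_conj hES hC hN g hgQ hxz, Ne.symm hxz⟩
  intro c hc
  haveI : Finite ↥(Q.map (MulAut.conj g).toMonoidHom) := inferInstance
  apply mem_normalizer_of_conj_le
  intro p hp
  exact conj_normalizes hN g (mem_cent_single.mp hc).symm hp

/-- `C_Q(x)` -/
def AA (Q : Subgroup G) (x : G) : Subgroup G := Q ⊓ Subgroup.centralizer ({x} : Set G)

theorem mem_AA {Q : Subgroup G} {x a : G} : a ∈ AA Q x ↔ a ∈ Q ∧ x * a = a * x := by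
  rw [AA, Subgroup.mem_inf, mem_cent_single]

section
variable {Q₁ Q₂ : Subgroup G} {z₁ z₂ : G}

theorem Pair.zz (h : Pair Q₁ Q₂ z₁ z₂) : z₁ * z₂ = z₂ * z₁ := (h.es₁.z_comm z₂ h.m₁).symm

theorem Pair.E_sq (h : Pair Q₁ Q₂ z₁ z₂) {e : G} (h1 : e ∈ Q₁) (h2 : e ∈ Q₂) : e * e = 1 := by
  rcases h.es₁.sq_mem e h1 with h3 | h3
  · exact h3
  · rcases h.es₂.sq_mem e h2 with h4 | h4
    · exact h4
    · exact absurd (h3.symm.trans h4) h.ne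

theorem Pair.E_comm (h : Pair Q₁ Q₂ z₁ z₂) {a b : G} (ha1 : a ∈ Q₁) (ha2 : a ∈ Q₂)
    (hb1 : b ∈ Q₁) (hb2 : b ∈ Q₂) : a * b = b * a := by
  rcases h.es₁.comm_mem a ha1 b hb1 with h3 | h3
  · exact eq_of_comm_one h3
  · rcases h.es₂.comm_mem a ha2 b hb2 with h4 | h4
    · exact eq_of_comm_one h4
    · exact absurd (h3.symm.trans h4) h.ne

theorem Pair.E_le_AA (h : Pair Q₁ Q₂ z₁ z₂) : Q₁ ⊓ Q₂ ≤ AA Q₁ z₂ := by
  intro e he
  obtain ⟨h1, h2⟩ := Subgroup.mem_inf.mp he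
  exact mem_AA.mpr ⟨h1, (h.es₂.z_comm e h2).symm⟩

theorem Pair.z₁_mem_E (h : Pair Q₁ Q₂ z₁ z₂) : z₁ ∈ Q₁ ⊓ Q₂ := Subgroup.mem_inf.mpr ⟨h.es₁.zQ, h.m₂⟩

theorem Pair.z₂_mem_E (h : Pair Q₁ Q₂ z₁ z₂) : z₂ ∈ Q₁ ⊓ Q₂ := Subgroup.mem_inf.mpr ⟨h.m₁, h.es₂.zQ⟩

theorem Pair.AA_norm (h : Pair Q₁ Q₂ z₁ z₂) {a : G} (ha : a ∈ AA Q₁ z₂) {p : G} (hp : p ∈ Q₂) :
    a * p * a⁻¹ ∈ Q₂ := by
  have h1 : a ∈ Subgroup.normalizer (Q₂ : Set G) := h.n₂ (mem_cent_single.mpr (mem_AA.mp ha).2)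
  exact (Subgroup.mem_normalizer_iff.mp h1 p).mp hp

theorem Pair.comm_E (h : Pair Q₁ Q₂ z₁ z₂) {a₁ a₂ : G} (h1 : a₁ ∈ AA Q₁ z₂) (h2 : a₂ ∈ AA Q₂ z₁) :
    a₁ * a₂ * a₁⁻¹ * a₂⁻¹ ∈ Q₁ ⊓ Q₂ := by
  rw [Subgroup.mem_inf]
  constructor
  · have e : a₁ * a₂ * a₁⁻¹ * a₂⁻¹ = a₁ * (a₂ * a₁⁻¹ * a₂⁻¹) := by group
    rw [e]
    exact Q₁.mul_mem (mem_AA.mp h1).1 (h.symm.AA_norm h2 (Q₁.inv_mem (mem_AA.mp h1).1))
  · exact Q₂.mul_mem (h.AA_norm h1 (mem_AA.mp h2).1) (Q₂.inv_mem (mem_AA.mp h2).1)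

theorem Pair.AA_norm_E (h : Pair Q₁ Q₂ z₁ z₂) {a : G} (ha : a ∈ AA Q₁ z₂) {e : G}
    (he : e ∈ Q₁ ⊓ Q₂) : a * e * a⁻¹ ∈ Q₁ ⊓ Q₂ := by
  obtain ⟨h1, h2⟩ := Subgroup.mem_inf.mp he
  have ha1 := (mem_AA.mp ha).1
  exact Subgroup.mem_inf.mpr ⟨Q₁.mul_mem (Q₁.mul_mem ha1 h1) (Q₁.inv_mem ha1), h.AA_norm ha h2⟩

theorem Pair.AA_le_normalizer_E [Finite G] (h : Pair Q₁ Q₂ z₁ z₂) :
    AA Q₁ z₂ ≤ Subgroup.normalizer ((Q₁ ⊓ Q₂ : Subgroup G) : Set G) := by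
  intro a ha
  apply mem_normalizer_of_conj_le
  intro e he
  exact h.AA_norm_E ha he

/-- `A₁ ≤ {g ∈ N(E) | [g, A₁] ⊆ E}` -/
theorem Pair.AA_le_commInto_self [Finite G] (h : Pair Q₁ Q₂ z₁ z₂) :
    AA Q₁ z₂ ≤ commInto (AA Q₁ z₂) (Q₁ ⊓ Q₂) := by
  intro a ha
  rw [mem_commInto]
  refine ⟨h.AA_le_normalizer_E ha, ?_⟩
  intro x hx
  rcases h.es₁.comm_mem a (mem_AA.mp ha).1 x (mem_AA.mp hx).1 with h1 | h1
  · rw [h1]; exact Subgroup.one_mem _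
  · rw [h1]; exact h.z₁_mem_E

theorem Pair.AA_le_commInto_other [Finite G] (h : Pair Q₁ Q₂ z₁ z₂) :
    AA Q₂ z₁ ≤ commInto (AA Q₁ z₂) (Q₁ ⊓ Q₂) := by
  intro a ha
  rw [mem_commInto]
  constructor
  · have h1 := h.symm.AA_le_normalizer_E ha
    rw [inf_comm] at h1
    exact h1
  · intro x hx
    have h1 := h.symm.comm_E ha hx
    rw [inf_comm] at h1
    exact h1

/-- commutators of `R = A₂ A₁` lie in `E` -/
theorem Pair.R_comm [Finite G] (h : Pair Q₁ Q₂ z₁ z₂) {x y : G}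
    (hx : x ∈ AA Q₂ z₁ ⊔ AA Q₁ z₂) (hy : y ∈ AA Q₂ z₁ ⊔ AA Q₁ z₂) :
    x * y * x⁻¹ * y⁻¹ ∈ Q₁ ⊓ Q₂ := by
  have hR1 : AA Q₂ z₁ ⊔ AA Q₁ z₂ ≤ commInto (AA Q₁ z₂) (Q₁ ⊓ Q₂) :=
    sup_le h.AA_le_commInto_other h.AA_le_commInto_self
  have hR2 : AA Q₂ z₁ ⊔ AA Q₁ z₂ ≤ commInto (AA Q₂ z₁) (Q₁ ⊓ Q₂) := by
    have h1 : AA Q₁ z₂ ⊔ AA Q₂ z₁ ≤ commInto (AA Q₂ z₁) (Q₂ ⊓ Q₁) :=
      sup_le h.symm.AA_le_commInto_other h.symm.AA_le_commInto_self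
    rw [sup_comm, inf_comm] at h1
    exact h1
  have hflip : ∀ a r : G, r * a * r⁻¹ * a⁻¹ ∈ Q₁ ⊓ Q₂ → a * r * a⁻¹ * r⁻¹ ∈ Q₁ ⊓ Q₂ := by
    intro a r h1
    have e : a * r * a⁻¹ * r⁻¹ = (r * a * r⁻¹ * a⁻¹)⁻¹ := by group
    rw [e]; exact Subgroup.inv_mem _ h1
  have hA1 : AA Q₁ z₂ ≤ commInto (AA Q₂ z₁ ⊔ AA Q₁ z₂) (Q₁ ⊓ Q₂) := by
    intro a ha
    rw [mem_commInto]
    refine ⟨h.AA_le_normalizer_E ha, ?_⟩
    intro r hr
    exact hflip a r ((mem_commInto.mp (hR1 hr)).2 a ha)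
  have hA2 : AA Q₂ z₁ ≤ commInto (AA Q₂ z₁ ⊔ AA Q₁ z₂) (Q₁ ⊓ Q₂) := by
    intro a ha
    rw [mem_commInto]
    constructor
    · have h1 := h.symm.AA_le_normalizer_E ha
      rw [inf_comm] at h1
      exact h1
    · intro r hr
      exact hflip a r ((mem_commInto.mp (hR2 hr)).2 a ha)
  exact (mem_commInto.mp ((sup_le hA2 hA1) hx)).2 y hy

/-- squares of `R` lie in `E` -/
theorem Pair.R_sq [Finite G] (h : Pair Q₁ Q₂ z₁ z₂) {x : G}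
    (hx : x ∈ AA Q₂ z₁ ⊔ AA Q₁ z₂) : x * x ∈ Q₁ ⊓ Q₂ := by
  have hcl : AA Q₂ z₁ ⊔ AA Q₁ z₂ = Subgroup.closure ((AA Q₂ z₁ : Set G) ∪ (AA Q₁ z₂ : Set G)) := by
    rw [Subgroup.closure_union, Subgroup.closure_eq, Subgroup.closure_eq]
  have key : ∀ r ∈ Subgroup.closure ((AA Q₂ z₁ : Set G) ∪ (AA Q₁ z₂ : Set G)),
      r ∈ AA Q₂ z₁ ⊔ AA Q₁ z₂ ∧ r * r ∈ Q₁ ⊓ Q₂ := by
    intro r hr
    refine Subgroup.closure_induction
      (p := fun r _ => r ∈ AA Q₂ z₁ ⊔ AA Q₁ z₂ ∧ r * r ∈ Q₁ ⊓ Q₂) ?_ ?_ ?_ ?_ hr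
    · intro r hr
      rcases hr with hr | hr
      · refine ⟨Subgroup.mem_sup_left hr, ?_⟩
        rcases h.es₂.sq_mem r (mem_AA.mp hr).1 with h1 | h1
        · rw [h1]; exact Subgroup.one_mem _
        · rw [h1]; exact h.z₂_mem_E
      · refine ⟨Subgroup.mem_sup_right hr, ?_⟩
        rcases h.es₁.sq_mem r (mem_AA.mp hr).1 with h1 | h1
        · rw [h1]; exact Subgroup.one_mem _
        · rw [h1]; exact h.z₁_mem_E
    · refine ⟨Subgroup.one_mem _, ?_⟩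
      rw [one_mul]; exact Subgroup.one_mem _
    · rintro a b _ _ ⟨haR, ha⟩ ⟨hbR, hb⟩
      refine ⟨Subgroup.mul_mem _ haR hbR, ?_⟩
      have e : a * b * (a * b) = (a * a) * (a⁻¹ * b * a⁻¹⁻¹ * b⁻¹) * (b * b) := by group
      rw [e]
      exact Subgroup.mul_mem _ (Subgroup.mul_mem _ ha (h.R_comm (Subgroup.inv_mem _ haR) hbR)) hb
    · rintro a _ ⟨haR, ha⟩
      refine ⟨Subgroup.inv_mem _ haR, ?_⟩
      have e : a⁻¹ * a⁻¹ = (a * a)⁻¹ := by group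
      rw [e]; exact Subgroup.inv_mem _ ha
  rw [hcl] at hx
  exact (key x hx).2

theorem Pair.R_le_cent (h : Pair Q₁ Q₂ z₁ z₂) :
    AA Q₂ z₁ ⊔ AA Q₁ z₂ ≤ Subgroup.centralizer ({z₁} : Set G) := by
  apply sup_le
  · intro a ha
    exact mem_cent_single.mpr (mem_AA.mp ha).2
  · intro a ha
    exact mem_cent_single.mpr (h.es₁.z_comm a (mem_AA.mp ha).1).symm

theorem Pair.z₁_mem_R (h : Pair Q₁ Q₂ z₁ z₂) : z₁ ∈ AA Q₂ z₁ ⊔ AA Q₁ z₂ :=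
  Subgroup.mem_sup_left (mem_AA.mpr ⟨h.m₂, rfl⟩)

/-- the centre of `R` is `{1, z₁, z₂, z₂ z₁}` -/
theorem Pair.center_R (h : Pair Q₁ Q₂ z₁ z₂) {c : G} (hc : c ∈ AA Q₂ z₁ ⊔ AA Q₁ z₂)
    (hcen : ∀ r ∈ AA Q₂ z₁ ⊔ AA Q₁ z₂, r * c = c * r) :
    c = 1 ∨ c = z₁ ∨ c = z₂ ∨ c = z₂ * z₁ := by
  have hcz : c * z₁ = z₁ * c := (mem_cent_single.mp (h.R_le_cent hc)).symm
  have hz₂1 : z₂ ≠ 1 := h.es₂.z_ne
  refine central_lemma h.es₁ h.c₁ h.n₁ h.m₁ hz₂1 h.ne.symm h.es₂.z_sq hcz ?_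
  intro e he hez
  exact (hcen e (Subgroup.mem_sup_right (mem_AA.mpr ⟨he, hez.symm⟩))).symm

theorem Pair.z_central_R (h : Pair Q₁ Q₂ z₁ z₂) {r : G} (hr : r ∈ AA Q₂ z₁ ⊔ AA Q₁ z₂) :
    r * z₁ = z₁ * r := (mem_cent_single.mp (h.R_le_cent hr)).symm

end

theorem closure_pair_eq {z x : G} (hz2 : z * z = 1) (hx2 : x * x = 1) (hc : x * z = z * x) :
    Subgroup.closure ({z, x} : Set G) = fourSub z x hz2 hx2 hc := by
  apply le_antisymm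
  · rw [Subgroup.closure_le]
    intro v hv
    rcases hv with h | h
    · exact Or.inr (Or.inl h)
    · exact Or.inr (Or.inr (Or.inl (Set.mem_singleton_iff.mp h)))
  · intro v hv
    have hzc : z ∈ Subgroup.closure ({z, x} : Set G) := Subgroup.subset_closure (by simp)
    have hxc : x ∈ Subgroup.closure ({z, x} : Set G) := Subgroup.subset_closure (by simp)
    rcases (mem_fourSub hz2 hx2 hc v).mp hv with h | h | h | h
    · rw [h]; exact Subgroup.one_mem _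
    · rw [h]; exact hzc
    · rw [h]; exact hxc
    · rw [h]; exact Subgroup.mul_mem _ hxc hzc

end Cfsg.Agent.Lib.Helper2.LEP
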