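import Cfsg.Agent.Lib.Helper2.Pair
import Cfsg.Agent.Lib.Helper1.DihedralRecognition
import Cfsg.Agent.Lib.Helper9.StronglyEmbedded
import Cfsg.Agent.S0444

set_option autoImplicit false
open Cfsg

namespace Cfsg.Agent.Lib.Helper2.LEP

open Cfsg.Agent.Lib.Helper2.ExtraSp Cfsg.Agent.Lib.Helper2.D8Syl Cfsg.Agent.Lib.Helper2.Sing

section S3
variable {Γ : Type*} [Group Γ]

/-- the six words `1, b, c, bc, cb, bcb` -/
def sixSet (b c : Γ) : Set Γ :=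
  {y | y = 1 ∨ y = b ∨ y = c ∨ y = b * c ∨ y = c * b ∨ y = b * c * b}

theorem six_closed {b c : Γ} (hb : b * b = 1) (hc : c * c = 1) (hbr : c * b * c = b * c * b)
    {y : Γ} (hy : y ∈ sixSet b c) : b * y ∈ sixSet b c ∧ c * y ∈ sixSet b c := by
  have e1 : b * (b * c) = c := by rw [← mul_assoc, hb, one_mul]
  have e2 : c * (b * c) = b * c * b := by rw [← mul_assoc, hbr]
  have e3 : b * (c * b) = b * c * b := (mul_assoc b c b).symm
  have e4 : c * (c * b) = b := by rw [← mul_assoc, hc, one_mul]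
  have e5 : b * (b * c * b) = c * b := by
    calc b * (b * c * b) = (b * b) * (c * b) := by group
      _ = c * b := by rw [hb, one_mul]
  have e6 : c * (b * c * b) = b * c := by
    calc c * (b * c * b) = (c * b * c) * b := by group
      _ = (b * c * b) * b := by rw [hbr]
      _ = b * c * (b * b) := by group
      _ = b * c := by rw [hb, mul_one]
  rcases hy with h | h | h | h | h | h
  · rw [h, mul_one, mul_one]
    exact ⟨Or.inr (Or.inl rfl), Or.inr (Or.inr (Or.inl rfl))⟩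
  · rw [h, hb]
    exact ⟨Or.inl rfl, Or.inr (Or.inr (Or.inr (Or.inr (Or.inl rfl))))⟩
  · rw [h, hc]
    exact ⟨Or.inr (Or.inr (Or.inr (Or.inl rfl))), Or.inl rfl⟩
  · rw [h, e1, e2]
    exact ⟨Or.inr (Or.inr (Or.inl rfl)), Or.inr (Or.inr (Or.inr (Or.inr (Or.inr rfl))))⟩
  · rw [h, e3, e4]
    exact ⟨Or.inr (Or.inr (Or.inr (Or.inr (Or.inr rfl)))), Or.inr (Or.inl rfl)⟩
  · rw [h, e5, e6]
    exact ⟨Or.inr (Or.inr (Or.inr (Or.inr (Or.inl rfl)))), Or.inr (Or.inr (Or.inr (Or.inl rfl)))⟩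

/-- the left stabilizer of a set, as a subgroup -/
def stabSub (S : Set Γ) : Subgroup Γ where
  carrier := {y | ∀ s, s ∈ S ↔ y * s ∈ S}
  one_mem' := by
    show ∀ s, s ∈ S ↔ 1 * s ∈ S
    intro s; rw [one_mul]
  mul_mem' := by
    intro a b ha hb
    have ha' : ∀ s, s ∈ S ↔ a * s ∈ S := ha
    have hb' : ∀ s, s ∈ S ↔ b * s ∈ S := hb
    show ∀ s, s ∈ S ↔ a * b * s ∈ S
    intro s
    rw [mul_assoc]
    exact (hb' s).trans (ha' (b * s))
  inv_mem' := by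
    intro a ha
    have ha' : ∀ s, s ∈ S ↔ a * s ∈ S := ha
    show ∀ s, s ∈ S ↔ a⁻¹ * s ∈ S
    intro s
    have := ha' (a⁻¹ * s)
    rw [mul_inv_cancel_left] at this
    exact this.symm

theorem mem_stabSub {S : Set Γ} {y : Γ} : y ∈ stabSub S ↔ ∀ s, s ∈ S ↔ y * s ∈ S := Iff.rfl

end S3

/-- A quotient generated by two "involutions" satisfying the braid relation, with the five
non-trivial words separated from the identity, is `S₃`. -/
theorem s3_quotient {Y : Type*} [Group Y] [Finite Y] (N : Subgroup Y) [hN : N.Normal]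
    (C : Subgroup Y) (hNC : N ≤ C) (P₁ P₂ : Subgroup Y) (hgen : P₁ ⊔ P₂ = ⊤) (q₀ s₀ : Y)
    (hq₀ : q₀ * q₀ ∈ N) (hs₀ : s₀ * s₀ ∈ N)
    (hbraid : (q₀ * s₀ * q₀⁻¹)⁻¹ * (s₀ * q₀ * s₀⁻¹) ∈ N)
    (hP₁ : ∀ q ∈ P₁, q ∈ N ∨ q₀⁻¹ * q ∈ N) (hP₂ : ∀ s ∈ P₂, s ∈ N ∨ s₀⁻¹ * s ∈ N)
    (h1 : q₀ ∉ C) (h2 : s₀ ∉ C) (h3 : q₀ * s₀ ∉ C) (h4 : s₀ * q₀ ∉ C) (h5 : q₀ * s₀ * q₀ ∉ C) :
    C = N ∧ Nonempty (Y ⧸ N ≃* Equiv.Perm (Fin 3)) ∧
      ∀ P : Subgroup Y, P.Normal → IsPGroup 2 P → P ≤ N := by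
  classical
  obtain ⟨b, hbdef⟩ : ∃ b : Y ⧸ N, b = (QuotientGroup.mk q₀ : Y ⧸ N) := ⟨_, rfl⟩
  obtain ⟨c, hcdef⟩ : ∃ c : Y ⧸ N, c = (QuotientGroup.mk s₀ : Y ⧸ N) := ⟨_, rfl⟩
  have hb : b * b = 1 := by
    rw [hbdef, ← QuotientGroup.mk_mul]
    exact (QuotientGroup.eq_one_iff _).mpr hq₀
  have hc : c * c = 1 := by
    rw [hcdef, ← QuotientGroup.mk_mul]
    exact (QuotientGroup.eq_one_iff _).mpr hs₀
  have hbi : b⁻¹ = b := inv_eq_of_mul_eq_one_left hb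
  have hci : c⁻¹ = c := inv_eq_of_mul_eq_one_left hc
  have hbr : c * b * c = b * c * b := by
    have e0 : (QuotientGroup.mk (q₀ * s₀ * q₀⁻¹) : Y ⧸ N) = QuotientGroup.mk (s₀ * q₀ * s₀⁻¹) :=
      QuotientGroup.eq.mpr hbraid
    simp only [QuotientGroup.mk_mul, QuotientGroup.mk_inv] at e0
    rw [← hbdef, ← hcdef, hbi, hci] at e0
    exact e0.symm
  have hbT : b ∈ stabSub (sixSet b c) := by
    rw [mem_stabSub]
    intro s
    constructor
    · intro hs; exact (six_closed hb hc hbr hs).1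
    · intro hs
      have := (six_closed hb hc hbr hs).1
      rwa [← mul_assoc, hb, one_mul] at this
  have hcT : c ∈ stabSub (sixSet b c) := by
    rw [mem_stabSub]
    intro s
    constructor
    · intro hs; exact (six_closed hb hc hbr hs).2
    · intro hs
      have := (six_closed hb hc hbr hs).2
      rwa [← mul_assoc, hc, one_mul] at this
  have hle : P₁ ⊔ P₂ ≤ (stabSub (sixSet b c)).comap (QuotientGroup.mk' N) := by
    apply sup_le
    · intro q hq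
      rw [Subgroup.mem_comap, QuotientGroup.mk'_apply]
      rcases hP₁ q hq with h | h
      · rw [(QuotientGroup.eq_one_iff q).mpr h]; exact Subgroup.one_mem _
      · have h' : (QuotientGroup.mk q₀ : Y ⧸ N) = QuotientGroup.mk q := QuotientGroup.eq.mpr h
        rw [← h', ← hbdef]; exact hbT
    · intro s hs
      rw [Subgroup.mem_comap, QuotientGroup.mk'_apply]
      rcases hP₂ s hs with h | h
      · rw [(QuotientGroup.eq_one_iff s).mpr h]; exact Subgroup.one_mem _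
      · have h' : (QuotientGroup.mk s₀ : Y ⧸ N) = QuotientGroup.mk s := QuotientGroup.eq.mpr h
        rw [← h', ← hcdef]; exact hcT
  have hall : ∀ γ : Y ⧸ N, γ ∈ sixSet b c := by
    intro γ
    obtain ⟨y, rfl⟩ := QuotientGroup.mk_surjective γ
    have hy : y ∈ P₁ ⊔ P₂ := by rw [hgen]; exact Subgroup.mem_top y
    have h1 := hle hy
    rw [Subgroup.mem_comap, QuotientGroup.mk'_apply, mem_stabSub] at h1
    have h2 := (h1 1).mp (Or.inl rfl)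
    rwa [mul_one] at h2
  have sep : ∀ w : Y, w ∉ C → ∀ y ∈ C,
      (QuotientGroup.mk y : Y ⧸ N) ≠ QuotientGroup.mk w := by
    intro w hw y hy heq
    have h := QuotientGroup.eq.mp heq
    apply hw
    have e : w = y * (y⁻¹ * w) := by group
    rw [e]; exact C.mul_mem hy (hNC h)
  have hb1 : b ≠ 1 := by
    intro h
    apply sep q₀ h1 1 C.one_mem
    rw [QuotientGroup.mk_one, ← hbdef, h]
  have hc1 : c ≠ 1 := by
    intro h
    apply sep s₀ h2 1 C.one_mem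
    rw [QuotientGroup.mk_one, ← hcdef, h]
  have hbc1 : b * c ≠ 1 := by
    intro h
    apply sep (q₀ * s₀) h3 1 C.one_mem
    rw [QuotientGroup.mk_one, QuotientGroup.mk_mul, ← hbdef, ← hcdef, h]
  have hcb1 : c * b ≠ 1 := by
    intro h
    apply sep (s₀ * q₀) h4 1 C.one_mem
    rw [QuotientGroup.mk_one, QuotientGroup.mk_mul, ← hbdef, ← hcdef, h]
  have hCN : C = N := by
    apply le_antisymm _ hNC
    intro y hy
    rcases hall (QuotientGroup.mk y) with h | h | h | h | h | h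
    · exact (QuotientGroup.eq_one_iff y).mp h
    · exfalso; apply sep q₀ h1 y hy; rw [h, hbdef]
    · exfalso; apply sep s₀ h2 y hy; rw [h, hcdef]
    · exfalso; apply sep (q₀ * s₀) h3 y hy; rw [h, hbdef, hcdef, QuotientGroup.mk_mul]
    · exfalso; apply sep (s₀ * q₀) h4 y hy; rw [h, hbdef, hcdef, QuotientGroup.mk_mul]
    · exfalso; apply sep (q₀ * s₀ * q₀) h5 y hy
      rw [h, hbdef, hcdef, QuotientGroup.mk_mul, QuotientGroup.mk_mul]
  have hsq : (b * c * b) * (b * c * b) = 1 := by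
    calc (b * c * b) * (b * c * b) = b * c * (b * b) * c * b := by group
      _ = b * (c * c) * b := by rw [hb]; group
      _ = 1 := by rw [hc, mul_one, hb]
  have ha3 : (b * c) ^ 3 = 1 := by
    rw [pow_three']
    calc (b * c) * (b * c) * (b * c) = (b * c * b) * (c * b * c) := by group
      _ = (b * c * b) * (b * c * b) := by rw [hbr]
      _ = 1 := hsq
  have ha3' : (c * b) ^ 3 = 1 := by
    rw [pow_three']
    calc (c * b) * (c * b) * (c * b) = (c * b * c) * (b * c * b) := by group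
      _ = (b * c * b) * (b * c * b) := by rw [hbr]
      _ = 1 := hsq
  refine ⟨hCN, ?_, ?_⟩
  · -- the isomorphism
    have hoa : orderOf (b * c) = 3 := orderOf_eq_prime ha3 hbc1
    have hob : orderOf b = 2 := orderOf_eq_prime (by rw [pow_two]; exact hb) hb1
    have h6 : 6 ∣ Nat.card (Y ⧸ N) := by
      have d2 : 2 ∣ Nat.card (Y ⧸ N) := hob ▸ orderOf_dvd_natCard b
      have d3 : 3 ∣ Nat.card (Y ⧸ N) := hoa ▸ orderOf_dvd_natCard (b * c)
      exact Nat.Coprime.mul_dvd_of_dvd_of_dvd (by norm_num) d2 d3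
    have hle6 : Nat.card (Y ⧸ N) ≤ 6 := by
      haveI : Fintype (Y ⧸ N) := Fintype.ofFinite _
      rw [Nat.card_eq_fintype_card, ← Finset.card_univ]
      refine le_trans (Finset.card_le_card
        (t := ({1, b, c, b * c, c * b, b * c * b} : Finset (Y ⧸ N))) ?_) Finset.card_le_six
      intro γ _
      simp only [Finset.mem_insert, Finset.mem_singleton]
      exact hall γ
    have hcard6 : Nat.card (Y ⧸ N) = 6 :=
      Nat.le_antisymm hle6 (Nat.le_of_dvd Nat.card_pos h6)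
    have hbz : b ∉ Subgroup.zpowers (b * c) := by
      intro hmem
      obtain ⟨k, hk⟩ := Subgroup.mem_zpowers_iff.mp hmem
      have hcomm : b * (b * c) = (b * c) * b := by
        have h := (Commute.zpow_left (Commute.refl (b * c)) k).eq
        rw [hk] at h
        exact h
      have e1 : b * (b * c) = c := by rw [← mul_assoc, hb, one_mul]
      have h2 : c * (b * c) = c * 1 := by
        rw [mul_one, ← mul_assoc, hbr, ← hcomm, e1]
      exact hbc1 (mul_left_cancel h2)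
    have hconj : b * (b * c) * b⁻¹ = (b * c)⁻¹ := by
      rw [mul_inv_rev, hbi, hci, ← mul_assoc b b c, hb, one_mul]
    obtain ⟨e1⟩ := Cfsg.Agent.Lib.Helper1.nonempty_mulEquiv_dihedralGroup 3 (b * c) b hoa hbz hb
      hconj (by rw [hcard6])
    obtain ⟨e2⟩ := Cfsg.Agent.S0444.dihedral_three
    exact ⟨e1.trans e2⟩
  · -- normal 2-subgroups lie in N
    intro P hPn hP2
    obtain ⟨Pb, hPbdef⟩ : ∃ Pb, Pb = P.map (QuotientGroup.mk' N) := ⟨_, rfl⟩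
    have hPbn : Pb.Normal := by
      rw [hPbdef]; exact hPn.map _ (QuotientGroup.mk'_surjective N)
    have hPb2 : IsPGroup 2 Pb := by rw [hPbdef]; exact hP2.map _
    have h2elt : ∀ γ ∈ Pb, γ ^ 3 = 1 → γ = 1 := by
      intro γ hγ h3
      obtain ⟨k, hk⟩ := hPb2 ⟨γ, hγ⟩
      have hk' : γ ^ (2 ^ k) = 1 := by
        have := congrArg Subtype.val hk
        simpa using this
      have d1 : orderOf γ ∣ 2 ^ k := orderOf_dvd_of_pow_eq_one hk'
      have d2 : orderOf γ ∣ 3 := orderOf_dvd_of_pow_eq_one h3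
      have hcop : Nat.gcd (2 ^ k) 3 = 1 := Nat.Coprime.pow_left k (by norm_num)
      have d3 : orderOf γ ∣ 1 := by
        have := Nat.dvd_gcd d1 d2
        rwa [hcop] at this
      exact orderOf_eq_one_iff.mp (Nat.dvd_one.mp d3)
    have hbcP : b * c ∉ Pb := fun h => hbc1 (h2elt _ h ha3)
    have hcbP : c * b ∉ Pb := fun h => hcb1 (h2elt _ h ha3')
    have hbP : b ∉ Pb := by
      intro h
      have h1 : c * b * c⁻¹ ∈ Pb := hPbn.conj_mem b h c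
      rw [hci, hbr] at h1
      have h2 : b * (b * c * b) ∈ Pb := Pb.mul_mem h h1
      have e : b * (b * c * b) = c * b := by
        calc b * (b * c * b) = (b * b) * (c * b) := by group
          _ = c * b := by rw [hb, one_mul]
      rw [e] at h2
      exact hcbP h2
    have hcP : c ∉ Pb := by
      intro h
      have h1 : b * c * b⁻¹ ∈ Pb := hPbn.conj_mem c h b
      rw [hbi, ← hbr] at h1
      have h2 : c * (c * b * c) ∈ Pb := Pb.mul_mem h h1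
      have e : c * (c * b * c) = b * c := by
        calc c * (c * b * c) = (c * c) * (b * c) := by group
          _ = b * c := by rw [hc, one_mul]
      rw [e] at h2
      exact hbcP h2
    have hbcbP : b * c * b ∉ Pb := by
      intro h
      have h1 : b * (b * c * b) * b⁻¹ ∈ Pb := hPbn.conj_mem _ h b
      have e : b * (b * c * b) * b⁻¹ = c := by
        rw [hbi]
        calc b * (b * c * b) * b = (b * b) * c * (b * b) := by group
          _ = c := by rw [hb, one_mul, mul_one]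
      rw [e] at h1
      exact hcP h1
    intro y hy
    have hyb : (QuotientGroup.mk y : Y ⧸ N) ∈ Pb := by
      rw [hPbdef]; exact Subgroup.mem_map_of_mem (QuotientGroup.mk' N) hy
    rcases hall (QuotientGroup.mk y) with h | h | h | h | h | h
    · exact (QuotientGroup.eq_one_iff y).mp h
    · rw [h] at hyb; exact absurd hyb hbP
    · rw [h] at hyb; exact absurd hyb hcP
    · rw [h] at hyb; exact absurd hyb hbcP
    · rw [h] at hyb; exact absurd hyb hcbP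
    · rw [h] at hyb; exact absurd hyb hbcbP

variable {G : Type*} [Group G]

theorem cj_mul {a b v v' v'' : G} (h1 : a * v * a⁻¹ = v') (h2 : b * v' * b⁻¹ = v'') :
    (b * a) * v * (b * a)⁻¹ = v'' := by
  rw [← h2, ← h1]; group

theorem cj_inv {a v v' : G} (h : a * v * a⁻¹ = v') : a⁻¹ * v' * a⁻¹⁻¹ = v := by
  rw [← h]; group

theorem not_comm_inv {a b : G} (hn : ¬ b * a = a * b) : ¬ b * a⁻¹ = a⁻¹ * b := by
  intro h1
  apply hn
  calc b * a = a * (a⁻¹ * b) * a := by group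
    _ = a * (b * a⁻¹) * a := by rw [h1]
    _ = a * b := by group

theorem conj_comm_of {q c v v' : G} (hq : q⁻¹ * v * q = v') (hc : c * v' = v' * c) :
    (q * c * q⁻¹) * v = v * (q * c * q⁻¹) := by
  calc (q * c * q⁻¹) * v = q * (c * (q⁻¹ * v * q)) * q⁻¹ := by group
    _ = q * (c * v') * q⁻¹ := by rw [hq]
    _ = q * (v' * c) * q⁻¹ := by rw [hc]
    _ = q * ((q⁻¹ * v * q) * c) * q⁻¹ := by rw [hq]
    _ = v * (q * c * q⁻¹) := by group

theorem not_mem_centralizer_of_cj {V : Subgroup G} {w v v' : G} (hv : v ∈ V)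
    (hw : w * v * w⁻¹ = v') (hne : v' ≠ v) : w ∉ Subgroup.centralizer (V : Set G) := by
  intro hc
  have h1 : v * w = w * v := Subgroup.mem_centralizer_iff.mp hc v hv
  apply hne
  rw [← hw, ← h1]; group

section
variable {Q₁ Q₂ : Subgroup G} {z₁ z₂ : G}

theorem Pair.conj_z₂ (h : Pair Q₁ Q₂ z₁ z₂) {q : G} (hq : q ∈ Q₁) :
    q * z₂ * q⁻¹ = z₂ ∨ q * z₂ * q⁻¹ = z₂ * z₁ := by
  rcases h.es₁.comm_mem q hq z₂ h.m₁ with h1 | h1
  · left
    calc q * z₂ * q⁻¹ = (q * z₂ * q⁻¹ * z₂⁻¹) * z₂ := by group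
      _ = z₂ := by rw [h1, one_mul]
  · right
    calc q * z₂ * q⁻¹ = (q * z₂ * q⁻¹ * z₂⁻¹) * z₂ := by group
      _ = z₁ * z₂ := by rw [h1]
      _ = z₂ * z₁ := h.zz

theorem Pair.inv_conj_z₂ (h : Pair Q₁ Q₂ z₁ z₂) {q : G} (hq : q ∈ Q₁) :
    q⁻¹ * z₂ * q = z₂ ∨ q⁻¹ * z₂ * q = z₂ * z₁ := by
  have := h.conj_z₂ (Q₁.inv_mem hq)
  rwa [inv_inv] at this

theorem Pair.swap_of_not_comm (h : Pair Q₁ Q₂ z₁ z₂) {q : G} (hq : q ∈ Q₁)
    (hn : ¬ z₂ * q = q * z₂) : q * z₂ * q⁻¹ = z₂ * z₁ := by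
  rcases h.conj_z₂ hq with h1 | h1
  · exact absurd (comm_of_cj h1).symm hn
  · exact h1

theorem Pair.inv_swap (h : Pair Q₁ Q₂ z₁ z₂) {q : G} (hq : q ∈ Q₁)
    (hn : ¬ z₂ * q = q * z₂) : q⁻¹ * z₂ * q = z₂ * z₁ := by
  have := h.swap_of_not_comm (Q₁.inv_mem hq) (not_comm_inv hn)
  rwa [inv_inv] at this

/-- the action of a non-centralizing `q ∈ Q₁` on the four-group `⟨z₁, z₂⟩` -/
theorem Pair.act (h : Pair Q₁ Q₂ z₁ z₂) {q : G} (hq : q ∈ Q₁) (hn : ¬ z₂ * q = q * z₂) :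
    q * z₁ * q⁻¹ = z₁ ∧ q * z₂ * q⁻¹ = z₂ * z₁ ∧ q * (z₂ * z₁) * q⁻¹ = z₂ := by
  have h1 : q * z₁ * q⁻¹ = z₁ := cj_of_comm (h.es₁.z_comm q hq)
  have h2 := h.swap_of_not_comm hq hn
  refine ⟨h1, h2, ?_⟩
  calc q * (z₂ * z₁) * q⁻¹ = (q * z₂ * q⁻¹) * (q * z₁ * q⁻¹) := by group
    _ = (z₂ * z₁) * z₁ := by rw [h1, h2]
    _ = z₂ * (z₁ * z₁) := by group
    _ = z₂ := by rw [h.es₁.z_sq, mul_one]

theorem Pair.conj_comm_z₂ (h : Pair Q₁ Q₂ z₁ z₂) {q : G} (hq : q ∈ Q₁) {c : G}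
    (hc1 : c * z₁ = z₁ * c) (hc2 : c * z₂ = z₂ * c) :
    (q * c * q⁻¹) * z₂ = z₂ * (q * c * q⁻¹) := by
  rcases h.inv_conj_z₂ hq with h1 | h1
  · exact conj_comm_of h1 hc2
  · apply conj_comm_of h1
    calc c * (z₂ * z₁) = (c * z₂) * z₁ := by group
      _ = z₂ * (c * z₁) := by rw [hc2]; group
      _ = z₂ * z₁ * c := by rw [hc1]; group

/-- `Q₁` normalizes `R = A₂ A₁` -/
theorem Pair.Q₁_norm_R (h : Pair Q₁ Q₂ z₁ z₂) {q : G} (hq : q ∈ Q₁) {r : G}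
    (hr : r ∈ AA Q₂ z₁ ⊔ AA Q₁ z₂) : q * r * q⁻¹ ∈ AA Q₂ z₁ ⊔ AA Q₁ z₂ := by
  have hle : AA Q₂ z₁ ⊔ AA Q₁ z₂ ≤
      (AA Q₂ z₁ ⊔ AA Q₁ z₂).comap (MulAut.conj q).toMonoidHom := by
    apply sup_le
    · intro a ha
      rw [Subgroup.mem_comap, MulEquiv.coe_toMonoidHom, MulAut.conj_apply]
      obtain ⟨haQ, haz⟩ := mem_AA.mp ha
      have hax : a * z₂ = z₂ * a := h.es₂.z_comm a haQ
      have e : q * a * q⁻¹ = (q * a * q⁻¹ * a⁻¹) * a := by group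
      rw [e]
      refine Subgroup.mul_mem _ (Subgroup.mem_sup_right ?_) (Subgroup.mem_sup_left ha)
      rw [mem_AA]
      constructor
      · have e2 : q * a * q⁻¹ * a⁻¹ = q * (a * q⁻¹ * a⁻¹) := by group
        rw [e2]
        exact Q₁.mul_mem hq (h.symm.AA_norm ha (Q₁.inv_mem hq))
      · have c1 : (q * a * q⁻¹) * z₂ = z₂ * (q * a * q⁻¹) := h.conj_comm_z₂ hq haz.symm hax
        have c2 : a⁻¹ * z₂ = z₂ * a⁻¹ := h.es₂.z_comm a⁻¹ (Q₂.inv_mem haQ)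
        calc z₂ * (q * a * q⁻¹ * a⁻¹) = (z₂ * (q * a * q⁻¹)) * a⁻¹ := by group
          _ = ((q * a * q⁻¹) * z₂) * a⁻¹ := by rw [c1]
          _ = (q * a * q⁻¹) * (z₂ * a⁻¹) := by group
          _ = (q * a * q⁻¹) * (a⁻¹ * z₂) := by rw [c2]
          _ = q * a * q⁻¹ * a⁻¹ * z₂ := by group
    · intro a ha
      rw [Subgroup.mem_comap, MulEquiv.coe_toMonoidHom, MulAut.conj_apply]
      obtain ⟨haQ, hax⟩ := mem_AA.mp ha
      apply Subgroup.mem_sup_right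
      rw [mem_AA]
      refine ⟨Q₁.mul_mem (Q₁.mul_mem hq haQ) (Q₁.inv_mem hq), ?_⟩
      exact (h.conj_comm_z₂ hq (h.es₁.z_comm a haQ) hax.symm).symm
  have := hle hr
  rwa [Subgroup.mem_comap, MulEquiv.coe_toMonoidHom, MulAut.conj_apply] at this

/-- two elements of `Q₁` outside `C(z₂)` differ by an element of `C_{Q₁}(z₂)` -/
theorem Pair.coset (h : Pair Q₁ Q₂ z₁ z₂) {q q' : G} (hq : q ∈ Q₁) (hq' : q' ∈ Q₁)
    (hn : ¬ z₂ * q = q * z₂) (hn' : ¬ z₂ * q' = q' * z₂) : q⁻¹ * q' ∈ AA Q₁ z₂ := by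
  rw [mem_AA]
  refine ⟨Q₁.mul_mem (Q₁.inv_mem hq) hq', ?_⟩
  have h1 := h.swap_of_not_comm hq' hn'
  have h2 := h.inv_swap hq hn
  have h3 : q⁻¹ * z₁ * q = z₁ := icj_of_comm (h.es₁.z_comm q hq)
  symm
  calc (q⁻¹ * q') * z₂ = q⁻¹ * (q' * z₂ * q'⁻¹) * q' := by group
    _ = q⁻¹ * (z₂ * z₁) * q' := by rw [h1]
    _ = (q⁻¹ * z₂ * q) * (q⁻¹ * z₁ * q) * (q⁻¹ * q') := by group
    _ = (z₂ * z₁) * z₁ * (q⁻¹ * q') := by rw [h2, h3]
    _ = z₂ * (z₁ * z₁) * (q⁻¹ * q') := by group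
    _ = z₂ * (q⁻¹ * q') := by rw [h.es₁.z_sq, mul_one]

theorem Pair.R_two [Finite G] (h : Pair Q₁ Q₂ z₁ z₂) : IsPGroup 2 ↥(AA Q₂ z₁ ⊔ AA Q₁ z₂) := by
  intro r
  refine ⟨2, ?_⟩
  apply Subtype.ext
  have h1 := h.R_sq r.2
  obtain ⟨h2, h3⟩ := Subgroup.mem_inf.mp h1
  have h4 := h.E_sq h2 h3
  rw [Subgroup.coe_pow, Subgroup.coe_one]
  calc (r : G) ^ 2 ^ 2 = ((r : G) * r) * (r * r) := by
        rw [show (2 : ℕ) ^ 2 = 2 + 2 from rfl, pow_add, pow_two]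
    _ = 1 := h4

end

/-- the key relation: for `q ∈ Q ∖ C(x)`, `s ∈ Q^g ∖ C(z)`, the elements `s q s⁻¹` and
`q s q⁻¹` agree modulo `R`. -/
theorem key_rel {Q Q₂ : Subgroup G} {z x g : G} (h : Pair Q Q₂ z x)
    (hQ₂ : Q₂ = Q.map (MulAut.conj g).toMonoidHom) (hx : x = g * z * g⁻¹)
    {q s : G} (hq : q ∈ Q) (hs : s ∈ Q₂) (hqn : ¬ x * q = q * x) (hsn : ¬ z * s = s * z) :
    (q * s * q⁻¹)⁻¹ * (s * q * s⁻¹) ∈ AA Q₂ z ⊔ AA Q x := by
  obtain ⟨hq_z, hq_x, hq_y⟩ := h.act hq hqn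
  obtain ⟨hs_x, hs_z, hs_y⟩ := h.symm.act hs hsn
  have hzx : z * x = x * z := h.zz
  rw [hzx] at hs_z hs_y
  have hgx : g⁻¹ * x * g = z := by rw [hx]; group
  have hn_z : (g⁻¹ * q⁻¹ * s) * z * (g⁻¹ * q⁻¹ * s)⁻¹ = z := by
    have hqi_y : q⁻¹ * (x * z) * q⁻¹⁻¹ = x := cj_inv hq_x
    have h1 : (q⁻¹ * s) * z * (q⁻¹ * s)⁻¹ = x := cj_mul hs_z hqi_y
    have hgi : g⁻¹ * x * g⁻¹⁻¹ = z := by rw [inv_inv]; exact hgx
    have h2 : (g⁻¹ * (q⁻¹ * s)) * z * (g⁻¹ * (q⁻¹ * s))⁻¹ = z := cj_mul h1 hgi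
    have e : g⁻¹ * q⁻¹ * s = g⁻¹ * (q⁻¹ * s) := mul_assoc _ _ _
    rw [e]; exact h2
  have hnC : g⁻¹ * q⁻¹ * s ∈ Subgroup.centralizer ({z} : Set G) := by
    rw [mem_cent_single]
    exact (comm_of_cj hn_z).symm
  have hnN := h.n₁ hnC
  have h3 : (g⁻¹ * q⁻¹ * s) * q * (g⁻¹ * q⁻¹ * s)⁻¹ ∈ Q :=
    (Subgroup.mem_normalizer_iff.mp hnN q).mp hq
  have hu : q⁻¹ * (s * q * s⁻¹) * q ∈ Q₂ := by
    rw [hQ₂, mem_map_conj_iff]
    have e : g⁻¹ * (q⁻¹ * (s * q * s⁻¹) * q) * g =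
        (g⁻¹ * q⁻¹ * s) * q * (g⁻¹ * q⁻¹ * s)⁻¹ := by group
    rw [e]; exact h3
  have hw : s⁻¹ * (q⁻¹ * (s * q * s⁻¹) * q) ∈ AA Q₂ z := by
    rw [mem_AA]
    refine ⟨Q₂.mul_mem (Q₂.inv_mem hs) hu, ?_⟩
    have hsi_z : s⁻¹ * z * s⁻¹⁻¹ = x * z := cj_inv hs_y
    have hsi_y : s⁻¹ * (x * z) * s⁻¹⁻¹ = z := cj_inv hs_z
    have hqi_x : q⁻¹ * x * q⁻¹⁻¹ = x * z := cj_inv hq_y
    have a3 : (s * q * s⁻¹) * z * (s * q * s⁻¹)⁻¹ = x := cj_mul hsi_z (cj_mul hq_y hs_x)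
    have a2 : (q⁻¹ * (s * q * s⁻¹)) * z * (q⁻¹ * (s * q * s⁻¹))⁻¹ = x * z := cj_mul a3 hqi_x
    have a1 : (q⁻¹ * (s * q * s⁻¹) * q) * z * (q⁻¹ * (s * q * s⁻¹) * q)⁻¹ = x * z :=
      cj_mul hq_z a2
    have a0 : (s⁻¹ * (q⁻¹ * (s * q * s⁻¹) * q)) * z *
        (s⁻¹ * (q⁻¹ * (s * q * s⁻¹) * q))⁻¹ = z := cj_mul a1 hsi_y
    exact (comm_of_cj a0).symm
  have e : (q * s * q⁻¹)⁻¹ * (s * q * s⁻¹) =
      q * (s⁻¹ * (q⁻¹ * (s * q * s⁻¹) * q)) * q⁻¹ := by group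
  rw [e]
  exact h.Q₁_norm_R hq (Subgroup.mem_sup_left hw)

end Cfsg.Agent.Lib.Helper2.LEP
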