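import Cfsg.Agent.Lib.Helper2.Marks2
import Cfsg.Agent.Lib.Helper9.FusionIso

set_option autoImplicit false

namespace Cfsg.Agent.Lib.Helper2.Park

open Cfsg Cfsg.FusionSystem Cfsg.Agent.Lib.Helper9 Cfsg.Agent.Lib.Helper2.Marks

universe u

variable {Ω : Type u} [Group Ω] {S : Subgroup Ω}

/-- the graph of `χ : R → Ω` inside `S × S` -/
def graphSub (S : Subgroup Ω) (R : Subgroup Ω) (χ : R →* Ω) : Subgroup (↥S × ↥S) where
  carrier := {z | ∃ hu : (z.1 : Ω) ∈ R, χ ⟨z.1, hu⟩ = (z.2 : Ω)}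
  mul_mem' := by
    rintro z w ⟨hz, ez⟩ ⟨hw, ew⟩
    refine ⟨R.mul_mem hz hw, ?_⟩
    show χ ⟨(z.1 : Ω) * (w.1 : Ω), R.mul_mem hz hw⟩ = (z.2 : Ω) * (w.2 : Ω)
    rw [← ez, ← ew, ← map_mul]
    rfl
  one_mem' := ⟨R.one_mem, map_one χ⟩
  inv_mem' := by
    rintro z ⟨hz, ez⟩
    refine ⟨R.inv_mem hz, ?_⟩
    show χ ⟨(z.1 : Ω)⁻¹, R.inv_mem hz⟩ = (z.2 : Ω)⁻¹
    rw [← ez, ← map_inv]
    rfl

theorem mem_graphSub (R : Subgroup Ω) (χ : R →* Ω) (z : ↥S × ↥S) :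
    z ∈ graphSub S R χ ↔ ∃ hu : (z.1 : Ω) ∈ R, χ ⟨z.1, hu⟩ = (z.2 : Ω) := Iff.rfl

/-- the subgroups of `S × S` contained in the graph of a map of the system -/
def fam (F : FusionSystem S) : Set (Subgroup (↥S × ↥S)) :=
  {D | ∃ (R : Subgroup Ω) (χ : R →* Ω), χ ∈ F.Hom R ∧ D ≤ graphSub S R χ}

theorem fam_mono (F : FusionSystem S) {D D' : Subgroup (↥S × ↥S)} (h : D' ≤ D)
    (hD : D ∈ fam F) : D' ∈ fam F := by
  obtain ⟨R, χ, hχ, hle⟩ := hD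
  exact ⟨R, χ, hχ, h.trans hle⟩

theorem diag_mem_fam (F : FusionSystem S) : graphSub S S S.subtype ∈ fam F :=
  ⟨S, S.subtype, subtype_mem F le_rfl, le_rfl⟩

theorem diag_mem (u : ↥S) : ((u, u) : ↥S × ↥S) ∈ graphSub S S S.subtype := ⟨u.2, rfl⟩

/-- the family is closed under conjugation -/
theorem fam_conj (F : FusionSystem S) {D : Subgroup (↥S × ↥S)} (hD : D ∈ fam F)
    (g : ↥S × ↥S) : cj g D ∈ fam F := by
  obtain ⟨R, χ, hχ, hle⟩ := hD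
  have hRS : R ≤ S := hom_le F hχ
  obtain ⟨a, b⟩ := g
  -- the conjugated source
  obtain ⟨R', hR'⟩ : ∃ R' : Subgroup Ω, R' = R.comap (MulAut.conj (a : Ω)).toMonoidHom := ⟨_, rfl⟩
  have hmemR' : ∀ y : Ω, y ∈ R' ↔ (a : Ω) * y * (a : Ω)⁻¹ ∈ R := by
    intro y
    rw [hR']
    exact Iff.rfl
  have hR'S : R' ≤ S := by
    intro y hy
    have h1 := hRS ((hmemR' y).mp hy)
    have h2 : y = (a : Ω)⁻¹ * ((a : Ω) * y * (a : Ω)⁻¹) * (a : Ω) := by group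
    rw [h2]
    exact S.mul_mem (S.mul_mem (S.inv_mem a.2) h1) a.2
  have hc₁ : conjHom R' (a : Ω) ∈ F.Hom R' := F.conj_mem hR'S a.2
  have hm₁ : ∀ y : R', conjHom R' (a : Ω) y ∈ R := fun y => (hmemR' y).mp y.2
  have h₁ := F.comp_mem hc₁ hχ hm₁
  have hm₂ : ∀ y : R', (χ.comp ((conjHom R' (a : Ω)).codRestrict R hm₁)) y ∈ S :=
    fun y => hom_mem F h₁ y
  have hc₂ : conjHom S ((b : Ω)⁻¹) ∈ F.Hom S := F.conj_mem le_rfl (S.inv_mem b.2)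
  have h₂ := F.comp_mem h₁ hc₂ hm₂
  refine ⟨R', _, h₂, ?_⟩
  intro x hx
  rw [mem_cj] at hx
  obtain ⟨hu, eu⟩ := hle hx
  have hu' : (a : Ω) * (x.1 : Ω) * (a : Ω)⁻¹ ∈ R := hu
  have eu' : χ ⟨(a : Ω) * (x.1 : Ω) * (a : Ω)⁻¹, hu'⟩ = (b : Ω) * (x.2 : Ω) * (b : Ω)⁻¹ := eu
  refine ⟨(hmemR' _).mpr hu', ?_⟩
  show (b : Ω)⁻¹ * χ ⟨(a : Ω) * (x.1 : Ω) * (a : Ω)⁻¹, hu'⟩ * (b : Ω)⁻¹⁻¹ = (x.2 : Ω)
  rw [eu']
  group

section Maps

variable {P : Subgroup Ω} (hP : P ≤ S) (φ : P →* Ω) (hφ : ∀ x : P, φ x ∈ S)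

/-- `P × S → S × S` through the inclusion -/
def f₁ : ↥P × ↥S →* ↥S × ↥S := MonoidHom.prodMap (Subgroup.inclusion hP) (MonoidHom.id ↥S)

/-- `P × S → S × S` through `φ` -/
def f₂ : ↥P × ↥S →* ↥S × ↥S := MonoidHom.prodMap (φ.codRestrict S hφ) (MonoidHom.id ↥S)

theorem f₁_apply (z : ↥P × ↥S) : f₁ hP z = (⟨z.1, hP z.1.2⟩, z.2) := rfl

theorem f₂_apply (z : ↥P × ↥S) : f₂ φ hφ z = (⟨φ z.1, hφ z.1⟩, z.2) := rfl

theorem f₁_injective : Function.Injective (f₁ hP) := by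
  intro z w h
  rw [f₁_apply, f₁_apply] at h
  have h1 := congrArg Prod.fst h
  have h2 := congrArg Prod.snd h
  apply Prod.ext
  · exact Subtype.ext (congrArg (fun s : ↥S => (s : Ω)) h1)
  · exact h2

theorem f₂_injective (hinj : Function.Injective φ) : Function.Injective (f₂ φ hφ) := by
  intro z w h
  rw [f₂_apply, f₂_apply] at h
  have h1 := congrArg Prod.fst h
  have h2 := congrArg Prod.snd h
  apply Prod.ext
  · exact hinj (congrArg (fun s : ↥S => (s : Ω)) h1)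
  · exact h2

theorem fam_map_iff (F : FusionSystem S) (hφF : φ ∈ F.Hom P) (H : Subgroup (↥P × ↥S)) :
    H.map (f₁ hP) ∈ fam F ↔ H.map (f₂ φ hφ) ∈ fam F := by
  constructor
  · rintro ⟨R, χ, hχ, hle⟩
    have hR₀P : R ⊓ P ≤ P := inf_le_right
    have hR₀R : R ⊓ P ≤ R := inf_le_left
    have hφ₀ := restrict_mem F hφF hR₀P
    have hχ₀ := restrict_mem F hχ hR₀R
    obtain ⟨θ, hθ, hθφ, hθr, -⟩ := inv_hom F hφ₀ rfl
    have hm : ∀ y, θ y ∈ R ⊓ P := fun y => hθr.le ⟨y, rfl⟩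
    obtain ⟨χ₂, hχ₂, hχ₂e⟩ := comp_hom F hθ hχ₀ hm
    refine ⟨_, χ₂, hχ₂, ?_⟩
    rintro _ ⟨z, hz, rfl⟩
    have h1 : f₁ hP z ∈ graphSub S R χ := hle ⟨z, hz, rfl⟩
    obtain ⟨hu, eu⟩ := h1
    have hu' : (z.1 : Ω) ∈ R := hu
    have eu' : χ ⟨(z.1 : Ω), hu'⟩ = (z.2 : Ω) := eu
    have hz₀ : (z.1 : Ω) ∈ R ⊓ P := ⟨hu', z.1.2⟩
    have hrange : φ z.1 ∈ (φ.comp (Subgroup.inclusion hR₀P)).range := ⟨⟨z.1, hz₀⟩, rfl⟩
    refine ⟨hrange, ?_⟩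
    show χ₂ ⟨φ z.1, hrange⟩ = (z.2 : Ω)
    rw [hχ₂e]
    have h2 : θ ⟨φ z.1, hrange⟩ = (z.1 : Ω) := hθφ ⟨z.1, hz₀⟩ hrange
    have h3 : (⟨θ ⟨φ z.1, hrange⟩, hm _⟩ : ↥(R ⊓ P)) = ⟨z.1, hz₀⟩ := Subtype.ext h2
    rw [h3]
    exact eu'
  · rintro ⟨R, χ, hχ, hle⟩
    obtain ⟨R₁, hR₁⟩ : ∃ R₁ : Subgroup Ω, R₁ = (R.comap φ).map P.subtype := ⟨_, rfl⟩
    have hR₁P : R₁ ≤ P := by
      rw [hR₁]
      exact Subgroup.map_subtype_le _
    have hφ₁ := restrict_mem F hφF hR₁P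
    have hmemR₁ : ∀ y : Ω, y ∈ R₁ ↔ ∃ w : P, φ w ∈ R ∧ (w : Ω) = y := by
      intro y
      rw [hR₁]
      constructor
      · rintro ⟨w, hw, rfl⟩
        exact ⟨w, hw, rfl⟩
      · rintro ⟨w, hw, rfl⟩
        exact ⟨w, hw, rfl⟩
    have hm : ∀ x : R₁, (φ.comp (Subgroup.inclusion hR₁P)) x ∈ R := by
      intro x
      obtain ⟨w, hw, hwx⟩ := (hmemR₁ x).mp x.2
      have h1 : Subgroup.inclusion hR₁P x = w := Subtype.ext hwx.symm
      show φ (Subgroup.inclusion hR₁P x) ∈ R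
      rw [h1]
      exact hw
    obtain ⟨χ₁, hχ₁, hχ₁e⟩ := comp_hom F hφ₁ hχ hm
    refine ⟨R₁, χ₁, hχ₁, ?_⟩
    rintro _ ⟨z, hz, rfl⟩
    have h1 : f₂ φ hφ z ∈ graphSub S R χ := hle ⟨z, hz, rfl⟩
    obtain ⟨hu, eu⟩ := h1
    have hu' : φ z.1 ∈ R := hu
    have eu' : χ ⟨φ z.1, hu'⟩ = (z.2 : Ω) := eu
    have hz₁ : (z.1 : Ω) ∈ R₁ := (hmemR₁ _).mpr ⟨z.1, hu', rfl⟩
    refine ⟨hz₁, ?_⟩
    show χ₁ ⟨(z.1 : Ω), hz₁⟩ = (z.2 : Ω)
    rw [hχ₁e]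
    exact eu'

end Maps

/-- fixed points of a composite action -/
theorem fixSet_comp {A Γ : Type u} [Group A] [Group Γ] {X : Type u} (ρ : Γ →* Equiv.Perm X)
    (f : A →* Γ) (H : Subgroup A) : fixSet (ρ.comp f) H = fixSet ρ (H.map f) := by
  ext x
  constructor
  · rintro h _ ⟨a, ha, rfl⟩
    exact h a ha
  · intro h a ha
    exact h (f a) ⟨a, ha, rfl⟩

/-- **Park's theorem**: every fusion system over a finite group `S` is realized inside a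
finite group. -/
theorem park [Finite S] (F : FusionSystem S) :
    ∃ (G : Type u) (_ : Group G) (_ : Finite G) (ι : ↥S →* G), F.IsRealizedBy ι := by
  classical
  letI : Fintype (↥S × ↥S) := Fintype.ofFinite _
  have hfam : (fam F).Finite := Set.toFinite _
  obtain ⟨𝒟f, h𝒟⟩ : ∃ 𝒟f : Finset (Subgroup (↥S × ↥S)), ∀ D, D ∈ 𝒟f ↔ D ∈ fam F :=
    ⟨hfam.toFinset, fun D => Set.Finite.mem_toFinset hfam⟩
  have hconj : ∀ D ∈ 𝒟f, ∀ g, cj g D ∈ 𝒟f :=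
    fun D hD g => (h𝒟 _).mpr (fam_conj F ((h𝒟 D).mp hD) g)
  obtain ⟨e, M, hM⟩ := exists_mult 𝒟f hconj
  have hstab : ∀ x : XT 𝒟f e, ∃ D ∈ fam F, ∀ γ, act 𝒟f e γ x = x ↔ γ ∈ D := by
    intro x
    obtain ⟨D, hD, h⟩ := exists_stab_act 𝒟f hconj e x
    exact ⟨D, (h𝒟 D).mp hD, h⟩
  have hmark : ∀ K, K ∈ fam F →
      (fixSet (act 𝒟f e) K).ncard = M (Nat.card K) ∧ 0 < M (Nat.card K) := by
    intro K hK
    rw [ncard_fixSet_act]
    exact hM K ((h𝒟 K).mpr hK)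
  have hmark0 : ∀ K, K ∉ fam F → (fixSet (act 𝒟f e) K).ncard = 0 := by
    intro K hK
    have h1 : fixSet (act 𝒟f e) K = ∅ := by
      apply Set.eq_empty_of_forall_notMem
      intro x hx
      obtain ⟨D, hD, h⟩ := hstab x
      exact hK (fam_mono F (fun k hk => (h k).mp (hx k hk)) hD)
    rw [h1, Set.ncard_empty]
  -- a point fixed by the diagonal
  obtain ⟨x₁, hx₁⟩ : (fixSet (act 𝒟f e) (graphSub S S S.subtype)).Nonempty := by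
    rw [← ncard_pos_iff, (hmark _ (diag_mem_fam F)).1]
    exact (hmark _ (diag_mem_fam F)).2
  -- the group
  obtain ⟨G, hG⟩ : ∃ G : Subgroup (Equiv.Perm (XT 𝒟f e)),
      G = Subgroup.centralizer (Set.range (fun s : ↥S => act 𝒟f e ((1 : ↥S), s))) := ⟨_, rfl⟩
  have hmemG : ∀ σ : Equiv.Perm (XT 𝒟f e), σ ∈ G ↔
      ∀ (t : ↥S) (x : XT 𝒟f e), act 𝒟f e ((1 : ↥S), t) (σ x) = σ (act 𝒟f e ((1 : ↥S), t) x) := by
    intro σ
    rw [hG, Subgroup.mem_centralizer_iff]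
    constructor
    · intro h t x
      have h1 := h _ ⟨t, rfl⟩
      exact congrArg (fun τ : Equiv.Perm (XT 𝒟f e) => τ x) h1
    · rintro h _ ⟨t, rfl⟩
      apply Equiv.ext
      intro x
      exact h t x
  have hιG : ∀ s : ↥S, ((act 𝒟f e).comp (MonoidHom.inl ↥S ↥S)) s ∈ G := by
    intro s
    rw [hmemG]
    intro t x
    show act 𝒟f e ((1 : ↥S), t) (act 𝒟f e (s, (1 : ↥S)) x) =
      act 𝒟f e (s, (1 : ↥S)) (act 𝒟f e ((1 : ↥S), t) x)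
    rw [← Equiv.Perm.mul_apply, ← Equiv.Perm.mul_apply, ← map_mul, ← map_mul]
    congr 2
    ext <;> simp
  obtain ⟨ι, hι⟩ : ∃ ι : ↥S →* ↥G, ∀ s, ((ι s : ↥G) : Equiv.Perm (XT 𝒟f e)) =
      act 𝒟f e (s, (1 : ↥S)) :=
    ⟨((act 𝒟f e).comp (MonoidHom.inl ↥S ↥S)).codRestrict G hιG, fun s => rfl⟩
  refine ⟨↥G, inferInstance, inferInstance, ι, ?_, ?_⟩
  · rw [injective_iff_map_eq_one]
    intro s hs
    have h1 : act 𝒟f e (s, (1 : ↥S)) = 1 := by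
      rw [← hι, hs]
      rfl
    obtain ⟨D, hD, hDx⟩ := hstab x₁
    have h2 : ((s, (1 : ↥S)) : ↥S × ↥S) ∈ D := (hDx _).mp (by rw [h1]; rfl)
    obtain ⟨R, χ, hχ, hle⟩ := hD
    obtain ⟨hu, eu⟩ := hle h2
    have hu' : (s : Ω) ∈ R := hu
    have eu' : χ ⟨(s : Ω), hu'⟩ = 1 := eu
    have h3 : (⟨(s : Ω), hu'⟩ : R) = 1 :=
      F.injective_of_mem hχ (eu'.trans (map_one χ).symm)
    exact Subtype.ext (congrArg (fun r : R => (r : Ω)) h3)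
  · intro P hP φ hφ
    constructor
    · intro hφF
      haveI : Finite P := finite_of_le hP
      have hmarks : ∀ H : Subgroup (↥P × ↥S),
          (fixSet ((act 𝒟f e).comp (f₁ hP)) H).ncard =
            (fixSet ((act 𝒟f e).comp (f₂ φ hφ)) H).ncard := by
        intro H
        rw [fixSet_comp, fixSet_comp]
        by_cases h1 : H.map (f₁ hP) ∈ fam F
        · have h2 := (fam_map_iff hP φ hφ F hφF H).mp h1
          rw [(hmark _ h1).1, (hmark _ h2).1,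
            Subgroup.card_map_of_injective (f₁_injective hP),
            Subgroup.card_map_of_injective (f₂_injective φ hφ (F.injective_of_mem hφF))]
        · have h2 : H.map (f₂ φ hφ) ∉ fam F := fun h => h1 ((fam_map_iff hP φ hφ F hφF H).mpr h)
          rw [hmark0 _ h1, hmark0 _ h2]
      obtain ⟨σ, hσ⟩ := marks_iso _ _ hmarks
      have hσG : σ ∈ G := by
        rw [hmemG]
        intro t x
        have h1 := hσ ((1 : ↥P), t) x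
        have e1 : f₁ hP ((1 : ↥P), t) = ((1 : ↥S), t) := rfl
        have e2 : f₂ φ hφ ((1 : ↥P), t) = ((1 : ↥S), t) := by
          rw [f₂_apply]
          apply Prod.ext
          · apply Subtype.ext
            show φ 1 = 1
            exact map_one φ
          · rfl
        have h2 : σ (act 𝒟f e (f₁ hP ((1 : ↥P), t)) x) =
            act 𝒟f e (f₂ φ hφ ((1 : ↥P), t)) (σ x) := h1
        rw [e1, e2] at h2
        exact h2.symm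
      refine ⟨⟨σ, hσG⟩, fun x => ?_⟩
      rw [eq_mul_inv_iff_mul_eq]
      apply Subtype.ext
      show ((ι ⟨φ x, hφ x⟩ : ↥G) : Equiv.Perm (XT 𝒟f e)) * σ =
        σ * ((ι ⟨x, hP x.2⟩ : ↥G) : Equiv.Perm (XT 𝒟f e))
      rw [hι, hι]
      apply Equiv.ext
      intro y
      have h1 : σ (act 𝒟f e (f₁ hP (x, (1 : ↥S))) y) =
          act 𝒟f e (f₂ φ hφ (x, (1 : ↥S))) (σ y) := hσ (x, (1 : ↥S)) y
      exact h1.symm
    · rintro ⟨g, hg⟩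
      have hσG := (hmemG _).mp g.2
      obtain ⟨D', hD', hD'x⟩ := hstab ((g : Equiv.Perm (XT 𝒟f e)) x₁)
      obtain ⟨R', χ', hχ', hle'⟩ := hD'
      have hconjg : ∀ (u : P) (y : XT 𝒟f e),
          act 𝒟f e ((⟨φ u, hφ u⟩ : ↥S), (1 : ↥S)) ((g : Equiv.Perm (XT 𝒟f e)) y) =
            (g : Equiv.Perm (XT 𝒟f e)) (act 𝒟f e ((⟨u, hP u.2⟩ : ↥S), (1 : ↥S)) y) := by
        intro u y
        have h1 := hg u
        rw [eq_mul_inv_iff_mul_eq] at h1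
        have h2 := congrArg (fun τ : ↥G => (τ : Equiv.Perm (XT 𝒟f e)) y) h1
        have h3 : ((ι ⟨φ u, hφ u⟩ : ↥G) : Equiv.Perm (XT 𝒟f e))
            ((g : Equiv.Perm (XT 𝒟f e)) y) =
            (g : Equiv.Perm (XT 𝒟f e)) (((ι ⟨u, hP u.2⟩ : ↥G) : Equiv.Perm (XT 𝒟f e)) y) := h2
        rw [hι, hι] at h3
        exact h3
      have key : ∀ u : P, (((⟨φ u, hφ u⟩ : ↥S), (⟨u, hP u.2⟩ : ↥S)) : ↥S × ↥S) ∈ D' := by
        intro u
        apply (hD'x _).mp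
        have e1 : (((⟨φ u, hφ u⟩ : ↥S), (⟨u, hP u.2⟩ : ↥S)) : ↥S × ↥S) =
            ((⟨φ u, hφ u⟩ : ↥S), (1 : ↥S)) * ((1 : ↥S), (⟨u, hP u.2⟩ : ↥S)) := by
          ext <;> simp
        rw [e1, map_mul, Equiv.Perm.mul_apply, hσG, hconjg]
        congr 1
        have e2 : ((⟨u, hP u.2⟩ : ↥S), (1 : ↥S)) * ((1 : ↥S), (⟨u, hP u.2⟩ : ↥S)) =
            (((⟨u, hP u.2⟩ : ↥S), (⟨u, hP u.2⟩ : ↥S)) : ↥S × ↥S) := by
          ext <;> simp
        rw [← Equiv.Perm.mul_apply, ← map_mul, e2]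
        exact hx₁ _ (diag_mem _)
      have hval : ∀ u : P, ∃ hu : φ u ∈ R', χ' ⟨φ u, hu⟩ = (u : Ω) := by
        intro u
        obtain ⟨hu, eu⟩ := hle' (key u)
        exact ⟨hu, eu⟩
      have hrange : φ.range ≤ R' := by
        rintro _ ⟨u, rfl⟩
        exact (hval u).1
      have hθ := restrict_mem F hχ' hrange
      have hθval : ∀ u : P, (χ'.comp (Subgroup.inclusion hrange)) ⟨φ u, ⟨u, rfl⟩⟩ = (u : Ω) :=
        fun u => (hval u).2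
      have hθr : (χ'.comp (Subgroup.inclusion hrange)).range = P := by
        ext y
        constructor
        · rintro ⟨⟨_, u, rfl⟩, rfl⟩
          rw [hθval u]
          exact u.2
        · intro hy
          exact ⟨⟨φ ⟨y, hy⟩, ⟨⟨y, hy⟩, rfl⟩⟩, hθval ⟨y, hy⟩⟩
      obtain ⟨θ', hθ', hθ'e, -, -⟩ := inv_hom F hθ hθr
      have hfinal : θ' = φ := by
        ext u
        have h1 := hθ'e ⟨φ u, ⟨u, rfl⟩⟩ (by rw [hθval u]; exact u.2)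
        have h2 : (⟨(χ'.comp (Subgroup.inclusion hrange)) ⟨φ u, ⟨u, rfl⟩⟩,
            (by rw [hθval u]; exact u.2)⟩ : P) = u := Subtype.ext (hθval u)
        rw [h2] at h1
        exact h1
      rw [← hfinal]
      exact hθ'

end Cfsg.Agent.Lib.Helper2.Park
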