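import Mathlib

/-! A faithful permutation group of order divisible by `p` has two disjoint nonempty sets
whose joint stabilizer has index divisible by `p`. -/

set_option autoImplicit false

open scoped Pointwise

namespace Cfsg.Agent.Lib.Helper2.Pgen

variable {H : Type*} [Group H] [Finite H] {Ω : Type*} [Fintype Ω] [MulAction H Ω]

/-- A subgroup of index prime to `p` contains a Sylow `p`-subgroup. -/
theorem exists_sylow_le_of_not_dvd_index (p : ℕ) [Fact p.Prime] (S : Subgroup H)
    (hS : ¬ p ∣ S.index) : ∃ Q : Sylow p H, (Q : Subgroup H) ≤ S := by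
  obtain P : Sylow p S := Classical.arbitrary _
  have h1 : IsPGroup p ((P : Subgroup S).map S.subtype) := P.isPGroup'.map _
  have h2 : ¬ p ∣ ((P : Subgroup S).map S.subtype).index := by
    rw [Subgroup.index_map_subtype]
    intro hdvd
    rcases (Nat.Prime.dvd_mul Fact.out).mp hdvd with h | h
    · exact P.not_dvd_index h
    · exact hS h
  refine ⟨h1.toSylow h2, ?_⟩
  intro x hx
  have hx' : x ∈ (P : Subgroup S).map S.subtype := hx
  obtain ⟨y, _, rfl⟩ := Subgroup.mem_map.mp hx'
  exact y.2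

theorem main [FaithfulSMul H Ω] (p : ℕ) [Fact p.Prime] (hp : p ∣ Nat.card H) :
    ∃ Δ₁ Δ₂ : Set Ω, Δ₁.Nonempty ∧ Δ₂.Nonempty ∧ Disjoint Δ₁ Δ₂ ∧
      p ∣ (MulAction.stabilizer H Δ₁ ⊓ MulAction.stabilizer H Δ₂).index := by
  classical
  let Good : Finset Ω → Prop := fun B => ∃ Q : Sylow p H, ∀ g ∈ Q, ∀ b ∈ B, g • b = b
  have hgood0 : Good ∅ := ⟨Classical.arbitrary _, by simp⟩
  obtain ⟨B, hB, hmax⟩ := Finset.exists_max_image (Finset.univ.filter Good) Finset.card
    ⟨∅, by simp [hgood0]⟩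
  obtain ⟨Q, hQ⟩ := (Finset.mem_filter.mp hB).2
  have hmax' : ∀ B' : Finset Ω, Good B' → B'.card ≤ B.card := fun B' hB' =>
    hmax B' (Finset.mem_filter.mpr ⟨Finset.mem_univ _, hB'⟩)
  -- Q is nontrivial
  obtain ⟨⟨g₀, hg₀Q⟩, hg₀⟩ := (Subgroup.ne_bot_iff_exists_ne_one).mp (Q.ne_bot_of_dvd_card hp)
  have hg₀1 : g₀ ≠ 1 := fun h => hg₀ (Subtype.ext h)
  -- a point outside B
  have hβ : ∃ β, β ∉ B := by
    by_contra h
    push Not at h
    apply hg₀1
    apply FaithfulSMul.eq_of_smul_eq_smul (α := Ω)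
    intro ω
    rw [one_smul]
    exact hQ g₀ hg₀Q ω (h ω)
  obtain ⟨β, hβ⟩ := hβ
  -- a point different from β
  have hα : ∃ α, α ≠ β := by
    have : ∃ ω : Ω, g₀ • ω ≠ ω := by
      by_contra h
      push Not at h
      apply hg₀1
      apply FaithfulSMul.eq_of_smul_eq_smul (α := Ω)
      intro ω
      rw [one_smul]
      exact h ω
    obtain ⟨ω, hω⟩ := this
    by_cases h : ω = β
    · exact ⟨g₀ • ω, fun h' => hω (h'.trans h.symm)⟩
    · exact ⟨ω, h⟩
  obtain ⟨α, hα⟩ := hα
  -- the core claim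
  have core : ∀ Δ₁ : Set Ω, (B.Nonempty → Δ₁ = (↑B : Set Ω)) →
      p ∣ (MulAction.stabilizer H Δ₁ ⊓ MulAction.stabilizer H ({β} : Set Ω)).index := by
    intro Δ₁ hΔ
    by_contra hnd
    obtain ⟨Q', hQ'⟩ := exists_sylow_le_of_not_dvd_index p _ hnd
    have hfixβ : ∀ g ∈ Q', g • β = β := by
      intro g hg
      have h1 : g ∈ MulAction.stabilizer H ({β} : Set Ω) := (Subgroup.mem_inf.mp (hQ' hg)).2
      rw [MulAction.mem_stabilizer_iff, Set.smul_set_singleton] at h1
      exact Set.singleton_injective h1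
    have hfixB : ∀ g ∈ Q', ∀ b ∈ B, g • b = b := by
      intro g hg b hb
      have hBne : B.Nonempty := ⟨b, hb⟩
      have hΔ' := hΔ hBne
      subst hΔ'
      set N := MulAction.stabilizer H (↑B : Set Ω) with hN
      have hQN : (Q : Subgroup H) ≤ N := by
        intro x hx
        rw [hN, MulAction.mem_stabilizer_iff]
        ext ω
        constructor
        · rintro ⟨b', hb', rfl⟩
          simp only at *
          rw [hQ x hx b' hb']
          exact hb'
        · intro hω
          exact ⟨ω, hω, hQ x hx ω hω⟩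
      have hQ'N : (Q' : Subgroup H) ≤ N := fun x hx => (Subgroup.mem_inf.mp (hQ' hx)).1
      obtain ⟨n, hn⟩ := MulAction.exists_smul_eq (↥N) (Q.subtype hQN) (Q'.subtype hQ'N)
      rw [Sylow.smul_subtype] at hn
      have hn' : (n : H) • Q = Q' := Sylow.subtype_injective hn
      have hg' : g ∈ (((n : H) • Q : Sylow p H) : Subgroup H) := by rw [hn']; exact hg
      rw [Sylow.coe_subgroup_smul, Subgroup.mem_smul_pointwise_iff_exists] at hg'
      obtain ⟨q, hq, hqg⟩ := hg'
      rw [MulAut.smul_def, MulAut.conj_apply] at hqg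
      have hninv : ((n : H)⁻¹) • b ∈ B := by
        have h0 : ((n : H)⁻¹) ∈ N := N.inv_mem n.2
        have h1 : ((n : H)⁻¹) • (↑B : Set Ω) = ↑B := MulAction.mem_stabilizer_iff.mp h0
        have h2 : ((n : H)⁻¹) • b ∈ ((n : H)⁻¹) • (↑B : Set Ω) := Set.smul_mem_smul_set hb
        rw [h1] at h2
        exact h2
      rw [← hqg, mul_smul, mul_smul, hQ q hq _ hninv, smul_inv_smul]
    have hgood : Good (insert β B) := by
      refine ⟨Q', ?_⟩
      intro g hg b hb
      rcases Finset.mem_insert.mp hb with rfl | hb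
      · exact hfixβ g hg
      · exact hfixB g hg b hb
    have := hmax' _ hgood
    rw [Finset.card_insert_of_notMem hβ] at this
    omega
  by_cases hBne : B.Nonempty
  · refine ⟨↑B, {β}, hBne, Set.singleton_nonempty β, ?_, core _ (fun _ => rfl)⟩
    rw [Set.disjoint_singleton_right]
    exact hβ
  · refine ⟨{α}, {β}, Set.singleton_nonempty α, Set.singleton_nonempty β, ?_,
      core _ (fun h => absurd h hBne)⟩
    rw [Set.disjoint_singleton]
    exact hα

end Cfsg.Agent.Lib.Helper2.Pgen
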