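import Mathlib

set_option autoImplicit false
set_option linter.style.haveILetI false

/-! A 2-transitive group of degree 13 whose point stabilizer has a normal elementary abelian
subgroup `D` of order 9, with the stabilizer transitive on `D \ 1`: the fixed point sets of the
conjugates of the non-identity elements of `D` are the lines of a 2-(13,4,1) design. -/

namespace Cfsg.Agent.Lib.Helper2.Pl3

variable {G : Type*} [Group G] [Fintype G] {Ω : Type*} [MulAction G Ω] [Fintype Ω]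
  [DecidableEq Ω]

/-- The hypotheses. -/
structure Setup (D : Subgroup G) (ω₀ : Ω) : Prop where
  card : Fintype.card Ω = 13
  two : ∀ a b c d : Ω, a ≠ b → c ≠ d → ∃ g : G, g • a = c ∧ g • b = d
  faith : ∀ g : G, (∀ x : Ω, g • x = x) → g = 1
  fixD : ∀ d ∈ D, d • ω₀ = ω₀
  normD : ∀ g : G, g • ω₀ = ω₀ → ∀ d ∈ D, g * d * g⁻¹ ∈ D
  card9 : Nat.card D = 9
  exp3 : ∀ d ∈ D, d ^ 3 = 1
  comm : ∀ a ∈ D, ∀ b ∈ D, a * b = b * a
  trans : ∀ d ∈ D, d ≠ 1 → ∀ d' ∈ D, d' ≠ 1 → ∃ g : G, g • ω₀ = ω₀ ∧ g * d * g⁻¹ = d'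

/-- stabilizer of `β` in `D`. -/
def stab (D : Subgroup G) (β : Ω) : Subgroup G := D ⊓ MulAction.stabilizer G β

theorem mem_stab {D : Subgroup G} {β : Ω} {x : G} : x ∈ stab D β ↔ x ∈ D ∧ x • β = β := by
  simp [stab, Subgroup.mem_inf, MulAction.mem_stabilizer_iff]

theorem card_stab_le {D : Subgroup G} {ω₀ : Ω} (S : Setup D ω₀) {β β' : Ω} (hβ : β ≠ ω₀)
    (hβ' : β' ≠ ω₀) : Nat.card (stab D β) ≤ Nat.card (stab D β') := by
  obtain ⟨g, hg0, hgβ⟩ := S.two ω₀ β ω₀ β' hβ.symm hβ'.symm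
  have hmem : ∀ x : stab D β, g * x.1 * g⁻¹ ∈ stab D β' := by
    intro x
    have hx := mem_stab.1 x.2
    refine mem_stab.2 ⟨S.normD g hg0 x.1 hx.1, ?_⟩
    rw [mul_smul, mul_smul, ← hgβ, inv_smul_smul, hx.2]
  refine Nat.card_le_card_of_injective (fun x : stab D β => (⟨g * x.1 * g⁻¹, hmem x⟩ : stab D β'))
    ?_
  intro x y h
  have h' : g * x.1 * g⁻¹ = g * y.1 * g⁻¹ := congrArg Subtype.val h
  exact Subtype.ext (mul_left_cancel (mul_right_cancel h'))

theorem card_stab {D : Subgroup G} {ω₀ : Ω} (S : Setup D ω₀) {β : Ω} (hβ : β ≠ ω₀) :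
    Nat.card (stab D β) = 3 := by
  classical
  have hdvd : Nat.card (stab D β) ∣ 9 := by
    rw [← S.card9]
    exact Subgroup.card_dvd_of_le inf_le_left
  have huni : ∀ β' : Ω, β' ≠ ω₀ → Nat.card (stab D β') = Nat.card (stab D β) := fun β' hβ' =>
    le_antisymm (card_stab_le S hβ' hβ) (card_stab_le S hβ hβ')
  have hk : Nat.card (stab D β) = 1 ∨ Nat.card (stab D β) = 3 ∨ Nat.card (stab D β) = 9 := by
    generalize Nat.card (stab D β) = k at hdvd
    have h9 : k ≤ 9 := Nat.le_of_dvd (by norm_num) hdvd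
    interval_cases k <;> omega
  rcases hk with h | h | h
  · -- all stabilizers trivial: two disjoint orbits of size 9
    exfalso
    have hbot : ∀ γ : Ω, γ ≠ ω₀ → stab D γ = ⊥ := fun γ hγ =>
      Subgroup.eq_bot_of_card_eq _ (by rw [huni γ hγ, h])
    have hinj : ∀ γ : Ω, γ ≠ ω₀ → Function.Injective (fun d : D => (d : G) • γ) := by
      intro γ hγ d d' hdd
      have hdd' : (d : G) • γ = (d' : G) • γ := hdd
      have hm : (d' : G)⁻¹ * d ∈ stab D γ :=
        mem_stab.2 ⟨D.mul_mem (D.inv_mem d'.2) d.2, by rw [mul_smul, hdd', inv_smul_smul]⟩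
      rw [hbot γ hγ, Subgroup.mem_bot] at hm
      exact Subtype.ext (inv_mul_eq_one.1 hm).symm
    haveI : Fintype D := Fintype.ofFinite D
    have hcardD : Fintype.card D = 9 := by
      rw [← Nat.card_eq_fintype_card]
      exact S.card9
    let O : Ω → Finset Ω := fun γ => Finset.univ.image (fun d : D => (d : G) • γ)
    have hO : ∀ γ, γ ≠ ω₀ → (O γ).card = 9 := fun γ hγ => by
      rw [Finset.card_image_of_injective _ (hinj γ hγ), Finset.card_univ, hcardD]
    have hO0 : ∀ γ, γ ≠ ω₀ → ω₀ ∉ O γ := by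
      intro γ hγ hmem
      obtain ⟨d, -, hd⟩ := Finset.mem_image.1 hmem
      apply hγ
      have h1 : γ = (d : G)⁻¹ • ω₀ := by rw [← hd, inv_smul_smul]
      rw [h1]
      exact S.fixD _ (D.inv_mem d.2)
    have hlt : (insert ω₀ (O β)).card < Fintype.card Ω := by
      rw [Finset.card_insert_of_notMem (hO0 β hβ), hO β hβ, S.card]
      norm_num
    obtain ⟨γ, hγ⟩ : ∃ γ, γ ∉ insert ω₀ (O β) := by
      by_contra hcon
      push Not at hcon
      have h1 : insert ω₀ (O β) = Finset.univ := Finset.eq_univ_iff_forall.2 hcon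
      rw [h1, Finset.card_univ] at hlt
      exact lt_irrefl _ hlt
    rw [Finset.mem_insert, not_or] at hγ
    have hγ0 : γ ≠ ω₀ := hγ.1
    have hdisj : Disjoint (O γ) (insert ω₀ (O β)) := by
      rw [Finset.disjoint_left]
      intro x hx hx'
      rw [Finset.mem_insert] at hx'
      rcases hx' with rfl | hx'
      · exact hO0 γ hγ0 hx
      · obtain ⟨d, -, hd⟩ := Finset.mem_image.1 hx
        obtain ⟨d', -, hd'⟩ := Finset.mem_image.1 hx'
        apply hγ.2
        refine Finset.mem_image.2 ⟨d⁻¹ * d', Finset.mem_univ _, ?_⟩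
        show ((d⁻¹ * d' : D) : G) • β = γ
        rw [Subgroup.coe_mul, Subgroup.coe_inv, mul_smul]
        have hd2 : (d' : G) • β = x := hd'
        have hd3 : (d : G) • γ = x := hd
        rw [hd2, ← hd3, inv_smul_smul]
    have hle : (O γ ∪ insert ω₀ (O β)).card ≤ Fintype.card Ω := Finset.card_le_univ _
    rw [Finset.card_union_of_disjoint hdisj, hO γ hγ0, Finset.card_insert_of_notMem (hO0 β hβ),
      hO β hβ, S.card] at hle
    omega
  · exact h
  · -- all of D fixes everything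
    exfalso
    have hall : ∀ d ∈ D, ∀ x : Ω, d • x = x := by
      intro d hd x
      by_cases hx : x = ω₀
      · rw [hx]
        exact S.fixD d hd
      · have h1 : stab D x = D :=
          Subgroup.eq_of_le_of_card_ge inf_le_left (by rw [huni x hx, h, S.card9])
        have hd' : d ∈ stab D x := by rw [h1]; exact hd
        exact (mem_stab.1 hd').2
    have hDbot : D = ⊥ := by
      rw [Subgroup.eq_bot_iff_forall]
      intro d hd
      exact S.faith d (hall d hd)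
    have h9 := S.card9
    rw [hDbot, Subgroup.card_bot] at h9
    omega

theorem orderOf_eq_three {D : Subgroup G} {ω₀ : Ω} (S : Setup D ω₀) {d : G} (hd : d ∈ D)
    (hd1 : d ≠ 1) : orderOf d = 3 := by
  have h := orderOf_dvd_of_pow_eq_one (S.exp3 d hd)
  rcases (Nat.dvd_prime Nat.prime_three).1 h with h1 | h3
  · exact absurd (orderOf_eq_one_iff.1 h1) hd1
  · exact h3

theorem stab_elems {D : Subgroup G} {ω₀ : Ω} (S : Setup D ω₀) {β : Ω} (hβ : β ≠ ω₀) {d : G}
    (hd : d ∈ stab D β) (hd1 : d ≠ 1) {x : G} (hx : x ∈ stab D β) :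
    x = 1 ∨ x = d ∨ x = d ^ 2 := by
  have hord : orderOf d = 3 := orderOf_eq_three S (mem_stab.1 hd).1 hd1
  have hz : Subgroup.zpowers d = stab D β := by
    apply Subgroup.eq_of_le_of_card_ge
    · rw [Subgroup.zpowers_le]
      exact hd
    · rw [card_stab S hβ, Nat.card_zpowers, hord]
  rw [← hz] at hx
  obtain ⟨k, rfl⟩ := Subgroup.mem_zpowers_iff.1 hx
  have h3 : d ^ k = d ^ (k % 3) := by
    have h := zpow_mod_orderOf d k
    rw [hord] at h
    exact h.symm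
  have hk0 : 0 ≤ k % 3 := Int.emod_nonneg _ (by norm_num)
  have hk3 : k % 3 < 3 := Int.emod_lt_of_pos _ (by norm_num)
  rw [h3]
  obtain h | h | h : k % 3 = 0 ∨ k % 3 = 1 ∨ k % 3 = 2 := by omega
  · left
    rw [h, zpow_zero]
  · right; left
    rw [h, zpow_one]
  · right; right
    rw [h]
    exact zpow_natCast d 2

/-- fixed points. -/
def Fix (x : G) : Finset Ω := Finset.univ.filter (fun a => x • a = a)

theorem mem_Fix {x : G} {a : Ω} : a ∈ (Fix x : Finset Ω) ↔ x • a = a := by simp [Fix]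

theorem Fix_conj (g x : G) :
    (Fix (g * x * g⁻¹) : Finset Ω) = (Fix x).image (fun a => g • a) := by
  ext a
  rw [mem_Fix, Finset.mem_image]
  constructor
  · intro h
    rw [mul_smul, mul_smul] at h
    exact ⟨g⁻¹ • a, mem_Fix.2 (eq_inv_smul_iff.2 h), smul_inv_smul g a⟩
  · rintro ⟨b, hb, rfl⟩
    rw [mul_smul, mul_smul, inv_smul_smul, mem_Fix.1 hb]

theorem card_Fix_conj (g x : G) :
    (Fix (g * x * g⁻¹) : Finset Ω).card = (Fix x : Finset Ω).card := by
  rw [Fix_conj, Finset.card_image_of_injective _ (MulAction.injective g)]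

theorem Fix_sq {d : G} (h3 : d ^ 3 = 1) : (Fix (d ^ 2) : Finset Ω) = Fix d := by
  ext a
  rw [mem_Fix, mem_Fix]
  constructor
  · intro h
    calc d • a = d • (d ^ 2 • a) := by rw [h]
      _ = (d * d ^ 2) • a := (mul_smul _ _ _).symm
      _ = (d ^ 3) • a := by rw [← pow_succ']
      _ = a := by rw [h3, one_smul]
  · intro h
    rw [pow_two, mul_smul, h, h]

theorem card_filter_mem (H : Subgroup G) [DecidablePred (· ∈ H)] :
    (Finset.univ.filter (fun x : G => x ∈ H)).card = Nat.card H := by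
  rw [Nat.card_eq_fintype_card]
  exact (Fintype.card_of_subtype _ (fun x => by simp)).symm

theorem card_Fix {D : Subgroup G} {ω₀ : Ω} (S : Setup D ω₀) {d : G} (hd : d ∈ D) (hd1 : d ≠ 1) :
    (Fix d : Finset Ω).card = 4 := by
  classical
  have hDne : (Finset.univ.filter (fun x : G => x ∈ D ∧ x ≠ 1)).card = 8 := by
    have h1 : Finset.univ.filter (fun x : G => x ∈ D ∧ x ≠ 1) =
        (Finset.univ.filter (fun x : G => x ∈ D)).erase 1 := by
      ext x
      simp only [Finset.mem_filter, Finset.mem_univ, true_and, Finset.mem_erase]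
      tauto
    rw [h1, Finset.card_erase_of_mem (by simp [D.one_mem]), card_filter_mem, S.card9]
  have hΩne : (Finset.univ.filter (fun b : Ω => b ≠ ω₀)).card = 12 := by
    rw [Finset.filter_ne', Finset.card_erase_of_mem (Finset.mem_univ _), Finset.card_univ, S.card]
  have hsum := Finset.sum_card_bipartiteAbove_eq_sum_card_bipartiteBelow
    (s := Finset.univ.filter (fun x : G => x ∈ D ∧ x ≠ 1))
    (t := Finset.univ.filter (fun b : Ω => b ≠ ω₀)) (fun (x : G) (b : Ω) => x • b = b)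
  have hR : ∀ b ∈ Finset.univ.filter (fun b : Ω => b ≠ ω₀),
      ((Finset.univ.filter (fun x : G => x ∈ D ∧ x ≠ 1)).bipartiteBelow
        (fun (x : G) (b : Ω) => x • b = b) b).card = 2 := by
    intro b hb
    have hb0 : b ≠ ω₀ := (Finset.mem_filter.1 hb).2
    have h1 : (Finset.univ.filter (fun x : G => x ∈ D ∧ x ≠ 1)).bipartiteBelow
        (fun (x : G) (b : Ω) => x • b = b) b =
        (Finset.univ.filter (fun x : G => x ∈ stab D b)).erase 1 := by
      ext x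
      simp only [Finset.mem_bipartiteBelow, Finset.mem_filter, Finset.mem_univ, true_and,
        Finset.mem_erase, mem_stab]
      tauto
    rw [h1, Finset.card_erase_of_mem (by simp [(stab D b).one_mem]), card_filter_mem,
      card_stab S hb0]
  have hL : ∀ x ∈ Finset.univ.filter (fun x : G => x ∈ D ∧ x ≠ 1),
      ((Finset.univ.filter (fun b : Ω => b ≠ ω₀)).bipartiteAbove
        (fun (x : G) (b : Ω) => x • b = b) x).card = (Fix d : Finset Ω).card - 1 := by
    intro x hx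
    obtain ⟨hxD, hx1⟩ := (Finset.mem_filter.1 hx).2
    have h1 : (Finset.univ.filter (fun b : Ω => b ≠ ω₀)).bipartiteAbove
        (fun (x : G) (b : Ω) => x • b = b) x = (Fix x : Finset Ω).erase ω₀ := by
      ext b
      simp only [Finset.mem_bipartiteAbove, Finset.mem_filter, Finset.mem_univ, true_and,
        Finset.mem_erase, mem_Fix]
    obtain ⟨g, -, hg⟩ := S.trans d hd hd1 x hxD hx1
    rw [h1, Finset.card_erase_of_mem (mem_Fix.2 (S.fixD x hxD)), ← hg, card_Fix_conj]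
  rw [Finset.sum_congr rfl hL, Finset.sum_congr rfl hR, Finset.sum_const, Finset.sum_const,
    hDne, hΩne] at hsum
  have hpos : 0 < (Fix d : Finset Ω).card := Finset.card_pos.2 ⟨ω₀, mem_Fix.2 (S.fixD d hd)⟩
  simp only [smul_eq_mul] at hsum
  omega

/-- `x` is a non-identity element of the conjugate of `D` attached to the point `α`. -/
def El (D : Subgroup G) (ω₀ : Ω) (x : G) (α : Ω) : Prop :=
  x ≠ 1 ∧ ∃ g : G, ∃ d ∈ D, g • ω₀ = α ∧ x = g * d * g⁻¹

theorem El.fix {D : Subgroup G} {ω₀ : Ω} (S : Setup D ω₀) {x : G} {α : Ω} (h : El D ω₀ x α) :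
    x • α = α := by
  obtain ⟨-, g, d, hd, rfl, rfl⟩ := h
  rw [mul_smul, mul_smul, inv_smul_smul, S.fixD d hd]

theorem El.pow3 {D : Subgroup G} {ω₀ : Ω} (S : Setup D ω₀) {x : G} {α : Ω} (h : El D ω₀ x α) :
    x ^ 3 = 1 := by
  obtain ⟨-, g, d, hd, -, rfl⟩ := h
  rw [conj_pow, S.exp3 d hd, mul_one, mul_inv_cancel]

theorem El.conj {D : Subgroup G} {ω₀ : Ω} {x : G} {α : Ω} (h : El D ω₀ x α) (k : G) :
    El D ω₀ (k * x * k⁻¹) (k • α) := by
  obtain ⟨hx1, g, d, hd, rfl, rfl⟩ := h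
  refine ⟨fun h1 => hx1 (conj_eq_one_iff.1 h1), k * g, d, hd, mul_smul _ _ _, ?_⟩
  simp only [mul_inv_rev, mul_assoc]

theorem El.card_Fix {D : Subgroup G} {ω₀ : Ω} (S : Setup D ω₀) {x : G} {α : Ω}
    (h : El D ω₀ x α) : (Fix x : Finset Ω).card = 4 := by
  obtain ⟨hx1, g, d, hd, -, rfl⟩ := h
  rw [card_Fix_conj]
  refine Pl3.card_Fix S hd ?_
  rintro rfl
  exact hx1 (by simp)

theorem El_base {D : Subgroup G} {ω₀ : Ω} {d : G} (hd : d ∈ D) (hd1 : d ≠ 1) :
    El D ω₀ d ω₀ :=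
  ⟨hd1, 1, d, hd, one_smul _ _, by simp⟩

/-- (E1) -/
theorem exists_El {D : Subgroup G} {ω₀ : Ω} (S : Setup D ω₀) {α γ : Ω} (hαγ : α ≠ γ) :
    ∃ x, El D ω₀ x α ∧ x • γ = γ := by
  obtain ⟨β₀, hβ₀⟩ := Fintype.exists_ne_of_one_lt_card (by rw [S.card]; norm_num) ω₀
  obtain ⟨g, hg0, hgβ⟩ := S.two ω₀ β₀ α γ hβ₀.symm hαγ
  have h3 := card_stab S hβ₀
  have hne : stab D β₀ ≠ ⊥ := by
    intro hbot
    rw [hbot, Subgroup.card_bot] at h3
    omega
  obtain ⟨d, hd1⟩ := (Subgroup.ne_bot_iff_exists_ne_one).1 hne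
  have hd' := mem_stab.1 d.2
  have hd1' : (d : G) ≠ 1 := fun h => hd1 (Subtype.ext h)
  refine ⟨g * d * g⁻¹, ⟨fun h1 => hd1' (conj_eq_one_iff.1 h1), g, d, hd'.1, hg0, rfl⟩, ?_⟩
  rw [← hgβ, mul_smul, mul_smul, inv_smul_smul, hd'.2]

/-- (E2) -/
theorem Fix_eq_of_El {D : Subgroup G} {ω₀ : Ω} (S : Setup D ω₀) {x x' : G} {α γ : Ω}
    (hx : El D ω₀ x α) (hx' : El D ω₀ x' α) (hγ : γ ≠ α) (h : x • γ = γ) (h' : x' • γ = γ) :
    (Fix x : Finset Ω) = Fix x' := by
  obtain ⟨hx1, g, d, hd, hg, rfl⟩ := hx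
  obtain ⟨hx1', g', d', hd', hg', rfl⟩ := hx'
  -- n := g⁻¹ g' fixes ω₀
  have hn : (g⁻¹ * g') • ω₀ = ω₀ := by
    rw [mul_smul, hg', ← hg, inv_smul_smul]
  have hd'' : (g⁻¹ * g') * d' * (g⁻¹ * g')⁻¹ ∈ D := S.normD _ hn d' hd'
  have hx'eq : g' * d' * g'⁻¹ = g * ((g⁻¹ * g') * d' * (g⁻¹ * g')⁻¹) * g⁻¹ := by
    group
  set e := (g⁻¹ * g') * d' * (g⁻¹ * g')⁻¹ with he
  rw [hx'eq] at h' hx1' ⊢
  have hβ : g⁻¹ • γ ≠ ω₀ := by
    intro hb
    apply hγ
    rw [← hg, ← hb, smul_inv_smul]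
  have hd1 : d ≠ 1 := by
    rintro rfl
    exact hx1 (by simp)
  have he1 : e ≠ 1 := by
    intro h1
    rw [h1] at hx1'
    exact hx1' (by simp)
  have hdst : d ∈ stab D (g⁻¹ • γ) := by
    refine mem_stab.2 ⟨hd, ?_⟩
    rw [mul_smul, mul_smul] at h
    exact eq_inv_smul_iff.2 h
  have hest : e ∈ stab D (g⁻¹ • γ) := by
    refine mem_stab.2 ⟨hd'', ?_⟩
    rw [mul_smul, mul_smul] at h'
    exact eq_inv_smul_iff.2 h'
  rcases stab_elems S hβ hdst hd1 hest with h1 | h1 | h1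
  · exact absurd h1 he1
  · rw [h1]
  · rw [h1, Fix_conj, Fix_conj, Fix_sq (S.exp3 d hd)]

/-- a permutation of order dividing 3 of a 4-set fixing two of its points fixes all four. -/
theorem four_set {s : Finset Ω} (hs : s.card = 4) (y : G) (hy3 : y ^ 3 = 1)
    (hys : ∀ γ ∈ s, y • γ ∈ s) {α β : Ω} (hα : α ∈ s) (hβ : β ∈ s) (hαβ : α ≠ β)
    (hyα : y • α = α) (hyβ : y • β = β) : ∀ γ ∈ s, y • γ = γ := by
  intro γ hγ
  by_contra hne
  have hγα : γ ≠ α := by
    rintro rfl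
    exact hne hyα
  have hγβ : γ ≠ β := by
    rintro rfl
    exact hne hyβ
  have hδα : y • γ ≠ α := by
    intro h
    rw [← hyα] at h
    exact hγα (MulAction.injective y h)
  have hδβ : y • γ ≠ β := by
    intro h
    rw [← hyβ] at h
    exact hγβ (MulAction.injective y h)
  have hsub : ({α, β, γ, y • γ} : Finset Ω) ⊆ s := by
    intro z hz
    simp only [Finset.mem_insert, Finset.mem_singleton] at hz
    rcases hz with rfl | rfl | rfl | rfl
    · exact hα
    · exact hβ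
    · exact hγ
    · exact hys _ hγ
  have hc4 : ({α, β, γ, y • γ} : Finset Ω).card = 4 := by
    rw [Finset.card_insert_of_notMem, Finset.card_insert_of_notMem,
      Finset.card_insert_of_notMem, Finset.card_singleton]
    · simp only [Finset.mem_singleton]
      exact fun h => hne h.symm
    · simp only [Finset.mem_insert, Finset.mem_singleton, not_or]
      exact ⟨hγβ.symm, hδβ.symm⟩
    · simp only [Finset.mem_insert, Finset.mem_singleton, not_or]
      exact ⟨hαβ, hγα.symm, hδα.symm⟩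
  have hseq : ({α, β, γ, y • γ} : Finset Ω) = s :=
    Finset.eq_of_subset_of_card_le hsub (by rw [hs, hc4])
  have hyδ : y • y • γ ∈ ({α, β, γ, y • γ} : Finset Ω) := by
    rw [hseq]
    exact hys _ (hys _ hγ)
  simp only [Finset.mem_insert, Finset.mem_singleton] at hyδ
  have h3 : y • y • y • γ = γ := by
    rw [← mul_smul, ← mul_smul, ← pow_two, ← pow_succ, hy3, one_smul]
  rcases hyδ with h | h | h | h
  · rw [← hyα] at h
    exact hδα (MulAction.injective y h)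
  · rw [← hyβ] at h
    exact hδβ (MulAction.injective y h)
  · rw [h] at h3
    exact hne h3
  · exact hne (MulAction.injective y h)

/-- (E4) -/
theorem Fix_eq_symm {D : Subgroup G} {ω₀ : Ω} (S : Setup D ω₀) {x y : G} {α β : Ω}
    (hx : El D ω₀ x α) (hy : El D ω₀ y β) (hαβ : α ≠ β) (hxβ : x • β = β) (hyα : y • α = α) :
    (Fix x : Finset Ω) = Fix y := by
  have hyβ : y • β = β := hy.fix S
  have hxα : x • α = α := hx.fix S
  have hc := hx.conj y
  rw [hyα] at hc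
  have hcβ : (y * x * y⁻¹) • β = β := by
    rw [mul_smul, mul_smul]
    have h1 : y⁻¹ • β = β := by
      rw [inv_smul_eq_iff, hyβ]
    rw [h1, hxβ, hyβ]
  have hFix : (Fix x : Finset Ω) = Fix (y * x * y⁻¹) :=
    Fix_eq_of_El S hx hc hαβ.symm hxβ hcβ
  have hys : ∀ γ ∈ (Fix x : Finset Ω), y • γ ∈ (Fix x : Finset Ω) := by
    intro γ hγ
    rw [hFix, Fix_conj]
    exact Finset.mem_image_of_mem _ hγ
  have hall := four_set (hx.card_Fix S) y (hy.pow3 S) hys (mem_Fix.2 hxα) (mem_Fix.2 hxβ) hαβ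
    hyα hyβ
  apply Finset.eq_of_subset_of_card_le
  · intro γ hγ
    exact mem_Fix.2 (hall γ hγ)
  · rw [hx.card_Fix S, hy.card_Fix S]

/-- the lines. -/
def IsLine (D : Subgroup G) (ω₀ : Ω) (ℓ : Finset Ω) : Prop := ∃ x α, El D ω₀ x α ∧ ℓ = Fix x

theorem IsLine.card {D : Subgroup G} {ω₀ : Ω} (S : Setup D ω₀) {ℓ : Finset Ω}
    (h : IsLine D ω₀ ℓ) : ℓ.card = 4 := by
  obtain ⟨x, α, hx, rfl⟩ := h
  exact hx.card_Fix S

theorem IsLine.smul {D : Subgroup G} {ω₀ : Ω} {ℓ : Finset Ω} (h : IsLine D ω₀ ℓ) (g : G) :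
    IsLine D ω₀ (ℓ.image (fun a => g • a)) := by
  obtain ⟨x, α, hx, rfl⟩ := h
  exact ⟨g * x * g⁻¹, g • α, hx.conj g, (Fix_conj g x).symm⟩

theorem exists_line {D : Subgroup G} {ω₀ : Ω} (S : Setup D ω₀) {α β : Ω} (hαβ : α ≠ β) :
    ∃ ℓ, IsLine D ω₀ ℓ ∧ α ∈ ℓ ∧ β ∈ ℓ := by
  obtain ⟨x, hx, hxβ⟩ := exists_El S hαβ
  exact ⟨Fix x, ⟨x, α, hx, rfl⟩, mem_Fix.2 (hx.fix S), mem_Fix.2 hxβ⟩

theorem line_eq {D : Subgroup G} {ω₀ : Ω} (S : Setup D ω₀) {x z : G} {α β γ : Ω}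
    (hx : El D ω₀ x γ) (hα : x • α = α) (hβ : x • β = β) (hαβ : α ≠ β) (hz : El D ω₀ z α)
    (hzβ : z • β = β) : (Fix x : Finset Ω) = Fix z := by
  by_cases hγα : γ = α
  · subst hγα
    exact Fix_eq_of_El S hx hz hαβ.symm hβ hzβ
  · obtain ⟨u, hu, huγ⟩ := exists_El S (Ne.symm hγα)
    have h1 : (Fix x : Finset Ω) = Fix u := Fix_eq_symm S hx hu hγα hα huγ
    have huβ : u • β = β := by
      have : β ∈ (Fix x : Finset Ω) := mem_Fix.2 hβ
      rw [h1] at this
      exact mem_Fix.1 this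
    rw [h1]
    exact Fix_eq_of_El S hu hz hαβ.symm huβ hzβ

theorem line_unique {D : Subgroup G} {ω₀ : Ω} (S : Setup D ω₀) {ℓ ℓ' : Finset Ω}
    (hℓ : IsLine D ω₀ ℓ) (hℓ' : IsLine D ω₀ ℓ') {α β : Ω} (hαβ : α ≠ β) (hα : α ∈ ℓ)
    (hβ : β ∈ ℓ) (hα' : α ∈ ℓ') (hβ' : β ∈ ℓ') : ℓ = ℓ' := by
  obtain ⟨x, γ, hx, rfl⟩ := hℓ
  obtain ⟨x', γ', hx', rfl⟩ := hℓ'
  obtain ⟨z, hz, hzβ⟩ := exists_El S hαβ
  rw [line_eq S hx (mem_Fix.1 hα) (mem_Fix.1 hβ) hαβ hz hzβ,
    line_eq S hx' (mem_Fix.1 hα') (mem_Fix.1 hβ') hαβ hz hzβ]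

end Cfsg.Agent.Lib.Helper2.Pl3
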