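import Mathlib

set_option autoImplicit false
set_option linter.style.haveILetI false

/-! The projective plane of order 3 on `Fin 13`: lines, its automorphism group `Astd`,
and the bound `|Astd| ≤ 5616` (an automorphism is determined by the image of a frame). -/

namespace Cfsg.Agent.Lib.Helper2.Pl3

/-- bit masks of the 13 lines of PG(2,3):
`{0,1,2,3}, {0,4,5,6}, {0,7,8,9}, {0,10,11,12}, {1,4,7,10}, {1,5,8,12}, {1,6,9,11}, {2,4,8,11},
{2,5,9,10}, {2,6,7,12}, {3,4,9,12}, {3,5,7,11}, {3,6,8,10}`. -/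
def masks : List ℕ := [15, 113, 897, 7169, 1170, 4386, 2626, 2324, 1572, 4292, 4632, 2216, 1352]

/-- the set of points of a mask. -/
def lineOf (m : ℕ) : Finset (Fin 13) := Finset.univ.filter (fun p => m.testBit p.val = true)

theorem mem_lineOf {m : ℕ} {p : Fin 13} : p ∈ lineOf m ↔ m.testBit p.val = true := by
  simp [lineOf]

/-- The 13 lines of PG(2,3). -/
def Lstd : Finset (Finset (Fin 13)) := (masks.map lineOf).toFinset

theorem mem_Lstd {ℓ : Finset (Fin 13)} : ℓ ∈ Lstd ↔ ∃ m ∈ masks, lineOf m = ℓ := by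
  simp [Lstd]

theorem lineOf_mem {m : ℕ} (hm : m ∈ masks) : lineOf m ∈ Lstd := mem_Lstd.2 ⟨m, hm, rfl⟩

/-- the elation with centre 0 and axis {0,4,5,6}. -/
def tau1 : Fin 13 → Fin 13 := ![0, 2, 3, 1, 4, 5, 6, 8, 9, 7, 11, 12, 10]

/-- the elation with centre 0 and axis {0,1,2,3}. -/
def tau2 : Fin 13 → Fin 13 := ![0, 1, 2, 3, 5, 6, 4, 8, 9, 7, 12, 10, 11]

theorem tau1_injective : Function.Injective tau1 := by decide +kernel

theorem tau2_injective : Function.Injective tau2 := by decide +kernel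

theorem masks_card : ∀ m ∈ masks, (lineOf m).card = 4 := by decide +kernel

theorem Lstd_card : ∀ ℓ ∈ Lstd, ℓ.card = 4 := by
  intro ℓ h
  obtain ⟨m, hm, rfl⟩ := mem_Lstd.1 h
  exact masks_card m hm

theorem masks_exists : ∀ p q : Fin 13, p ≠ q →
    ∃ m ∈ masks, m.testBit p.val = true ∧ m.testBit q.val = true := by decide +kernel

theorem Lstd_exists (p q : Fin 13) (h : p ≠ q) : ∃ ℓ ∈ Lstd, p ∈ ℓ ∧ q ∈ ℓ := by
  obtain ⟨m, hm, h1, h2⟩ := masks_exists p q h
  exact ⟨lineOf m, lineOf_mem hm, mem_lineOf.2 h1, mem_lineOf.2 h2⟩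

set_option maxRecDepth 100000 in
theorem masks_unique : ∀ m ∈ masks, ∀ m' ∈ masks, ∀ p q : Fin 13, p ≠ q →
    m.testBit p.val = true → m.testBit q.val = true → m'.testBit p.val = true →
    m'.testBit q.val = true → m = m' := by decide +kernel

theorem Lstd_unique {ℓ ℓ' : Finset (Fin 13)} (hℓ : ℓ ∈ Lstd) (hℓ' : ℓ' ∈ Lstd) {a b : Fin 13}
    (hab : a ≠ b) (ha : a ∈ ℓ) (hb : b ∈ ℓ) (ha' : a ∈ ℓ') (hb' : b ∈ ℓ') : ℓ = ℓ' := by
  obtain ⟨m, hm, rfl⟩ := mem_Lstd.1 hℓ
  obtain ⟨m', hm', rfl⟩ := mem_Lstd.1 hℓ'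
  rw [mem_lineOf] at ha hb ha' hb'
  rw [masks_unique m hm m' hm' a b hab ha hb ha' hb']

theorem lineOf_image {τ : Fin 13 → Fin 13} (hτ : Function.Injective τ) {m m' : ℕ}
    (hm : m ∈ masks) (hm' : m' ∈ masks)
    (h : ∀ p : Fin 13, m'.testBit p.val = true → m.testBit (τ p).val = true) :
    (lineOf m').image τ = lineOf m := by
  apply Finset.eq_of_subset_of_card_le
  · intro q hq
    obtain ⟨p, hp, rfl⟩ := Finset.mem_image.1 hq
    exact mem_lineOf.2 (h p (mem_lineOf.1 hp))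
  · rw [Finset.card_image_of_injective _ hτ, masks_card m hm, masks_card m' hm']

theorem steps1 : ∀ t ∈ [((1170 : ℕ), (2324 : ℕ)), (2324, 4632), (4386, 1572), (1572, 2216),
    (2626, 4292), (4292, 1352)], t.1 ∈ masks ∧ t.2 ∈ masks ∧
    ∀ p : Fin 13, t.1.testBit p.val = true → t.2.testBit (tau1 p).val = true := by decide +kernel

theorem steps2 : ∀ t ∈ [((1170 : ℕ), (4386 : ℕ)), (4386, 2626)], t.1 ∈ masks ∧ t.2 ∈ masks ∧
    ∀ p : Fin 13, t.1.testBit p.val = true → t.2.testBit (tau2 p).val = true := by decide +kernel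

theorem lineOf_15 : lineOf 15 = {0, 1, 2, 3} := by decide +kernel
theorem lineOf_113 : lineOf 113 = {0, 4, 5, 6} := by decide +kernel
theorem lineOf_897 : lineOf 897 = {0, 7, 8, 9} := by decide +kernel
theorem lineOf_7169 : lineOf 7169 = {0, 10, 11, 12} := by decide +kernel
theorem lineOf_1170 : lineOf 1170 = {1, 4, 7, 10} := by decide +kernel

/-- closure principle: a property of lines holding for the four lines through 0 and for
`{1,4,7,10}`, stable under `tau1` and `tau2`, holds for all lines. -/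
theorem Lstd_induction (P : Finset (Fin 13) → Prop) (h0 : P {0, 1, 2, 3}) (h1 : P {0, 4, 5, 6})
    (h2 : P {0, 7, 8, 9}) (h3 : P {0, 10, 11, 12}) (hm : P {1, 4, 7, 10})
    (ht1 : ∀ ℓ, P ℓ → P (ℓ.image tau1)) (ht2 : ∀ ℓ, P ℓ → P (ℓ.image tau2)) :
    ∀ ℓ ∈ Lstd, P ℓ := by
  have s1 : ∀ a b : ℕ, (a, b) ∈ [((1170 : ℕ), (2324 : ℕ)), (2324, 4632), (4386, 1572),
      (1572, 2216), (2626, 4292), (4292, 1352)] → P (lineOf a) → P (lineOf b) := by
    intro a b hab ha
    obtain ⟨h1, h2, h3⟩ := steps1 (a, b) hab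
    rw [← lineOf_image tau1_injective h2 h1 h3]
    exact ht1 _ ha
  have s2 : ∀ a b : ℕ, (a, b) ∈ [((1170 : ℕ), (4386 : ℕ)), (4386, 2626)] →
      P (lineOf a) → P (lineOf b) := by
    intro a b hab ha
    obtain ⟨h1, h2, h3⟩ := steps2 (a, b) hab
    rw [← lineOf_image tau2_injective h2 h1 h3]
    exact ht2 _ ha
  have g1170 : P (lineOf 1170) := by rw [lineOf_1170]; exact hm
  have g2324 : P (lineOf 2324) := s1 1170 2324 (by simp) g1170
  have g4632 : P (lineOf 4632) := s1 2324 4632 (by simp) g2324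
  have g4386 : P (lineOf 4386) := s2 1170 4386 (by simp) g1170
  have g2626 : P (lineOf 2626) := s2 4386 2626 (by simp) g4386
  have g1572 : P (lineOf 1572) := s1 4386 1572 (by simp) g4386
  have g2216 : P (lineOf 2216) := s1 1572 2216 (by simp) g1572
  have g4292 : P (lineOf 4292) := s1 2626 4292 (by simp) g2626
  have g1352 : P (lineOf 1352) := s1 4292 1352 (by simp) g4292
  intro ℓ hℓ
  obtain ⟨m, hm', rfl⟩ := mem_Lstd.1 hℓ
  simp only [masks, List.mem_cons, List.not_mem_nil, or_false] at hm'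
  rcases hm' with rfl | rfl | rfl | rfl | rfl | rfl | rfl | rfl | rfl | rfl | rfl | rfl | rfl
  · rw [lineOf_15]; exact h0
  · rw [lineOf_113]; exact h1
  · rw [lineOf_897]; exact h2
  · rw [lineOf_7169]; exact h3
  · exact g1170
  · exact g4386
  · exact g2626
  · exact g2324
  · exact g1572
  · exact g4292
  · exact g4632
  · exact g2216
  · exact g1352

/-- collinearity. -/
def col (p q r : Fin 13) : Prop := ∃ ℓ ∈ Lstd, p ∈ ℓ ∧ q ∈ ℓ ∧ r ∈ ℓ

/-- collinearity, mask version. -/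
def colM (p q r : Fin 13) : Prop :=
  ∃ m ∈ masks, m.testBit p.val = true ∧ m.testBit q.val = true ∧ m.testBit r.val = true

instance (p q r : Fin 13) : Decidable (colM p q r) := by unfold colM; infer_instance

theorem col_iff_colM (p q r : Fin 13) : col p q r ↔ colM p q r := by
  unfold col colM
  constructor
  · rintro ⟨ℓ, hℓ, h1, h2, h3⟩
    obtain ⟨m, hm, rfl⟩ := mem_Lstd.1 hℓ
    exact ⟨m, hm, mem_lineOf.1 h1, mem_lineOf.1 h2, mem_lineOf.1 h3⟩
  · rintro ⟨m, hm, h1, h2, h3⟩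
    exact ⟨lineOf m, lineOf_mem hm, mem_lineOf.2 h1, mem_lineOf.2 h2, mem_lineOf.2 h3⟩

/-- collinearity table: bit `169 p + 13 q + r`. -/
def tbl : ℕ := 23061834918603108830195142394308524255486463504347753333039299707463568335777689164742567203415553347566314575858898424925686280112923191744673425503510925881063924692213690344866409424258798774926399671125817430466488146552765748643077874692072342699648180922439096062582527880358112926824998529539590802792483662912003057596123064897459935799755361052704289892127452503989144010252193736713441480859660934174761559295346413160292237148905971866283830142665801668223888551037382588392266833391201614293250733184027250314956257466257829745595602279314557707277184369430333509630588372741724011341943447891466188801493936236798475909196454355211223163241469444095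

/-- fast collinearity test. -/
def colB (p q r : Fin 13) : Bool := tbl.testBit (169 * p.val + 13 * q.val + r.val)

set_option maxRecDepth 100000 in
theorem colM_iff : ∀ p q r : Fin 13, colM p q r ↔ colB p q r = true := by decide +kernel

theorem col_iff (p q r : Fin 13) : col p q r ↔ colB p q r = true :=
  (col_iff_colM p q r).trans (colM_iff p q r)

/-- no three of the four points are collinear. -/
def isFrameB (t : Fin 13 × Fin 13 × Fin 13 × Fin 13) : Bool :=
  !colB t.1 t.2.1 t.2.2.1 && !colB t.1 t.2.1 t.2.2.2 && !colB t.1 t.2.2.1 t.2.2.2 &&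
    !colB t.2.1 t.2.2.1 t.2.2.2

/-- the ordered quadrangles. -/
def Frames : Finset (Fin 13 × Fin 13 × Fin 13 × Fin 13) :=
  Finset.univ.filter (fun t => isFrameB t = true)

set_option maxRecDepth 100000 in
theorem Frames_card : Frames.card = 5616 := by decide +kernel

/-- The automorphism group of the plane. -/
def Astd : Subgroup (Equiv.Perm (Fin 13)) where
  carrier := {σ | ∀ ℓ : Finset (Fin 13), ℓ ∈ Lstd ↔ ℓ.image σ ∈ Lstd}
  one_mem' := by
    intro ℓ
    simp
  mul_mem' := by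
    intro σ τ hσ hτ ℓ
    rw [hτ ℓ, hσ (ℓ.image τ), Finset.image_image, Equiv.Perm.coe_mul]
  inv_mem' := by
    intro σ hσ ℓ
    rw [hσ (ℓ.image ⇑σ⁻¹), Finset.image_image]
    have h : (⇑σ ∘ ⇑σ⁻¹) = id := by
      ext x
      simp
    rw [h, Finset.image_id]

theorem mem_Astd {σ : Equiv.Perm (Fin 13)} :
    σ ∈ Astd ↔ ∀ ℓ : Finset (Fin 13), ℓ ∈ Lstd ↔ ℓ.image σ ∈ Lstd := Iff.rfl

theorem col_of_mem {σ : Equiv.Perm (Fin 13)} (hσ : σ ∈ Astd) {p q r : Fin 13}
    (h : col (σ p) (σ q) (σ r)) : col p q r := by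
  obtain ⟨ℓ', hℓ', hp, hq, hr⟩ := h
  have hinv := Astd.inv_mem hσ
  have hℓ : ℓ'.image ⇑σ⁻¹ ∈ Lstd := (mem_Astd.1 hinv ℓ').1 hℓ'
  refine ⟨_, hℓ, ?_, ?_, ?_⟩
  · exact Finset.mem_image.2 ⟨σ p, hp, by simp⟩
  · exact Finset.mem_image.2 ⟨σ q, hq, by simp⟩
  · exact Finset.mem_image.2 ⟨σ r, hr, by simp⟩

/-- the image of the standard frame 0, 1, 4, 8. -/
def frameOf (σ : Equiv.Perm (Fin 13)) : Fin 13 × Fin 13 × Fin 13 × Fin 13 :=
  (σ 0, σ 1, σ 4, σ 8)

theorem base_frame : ¬ col 0 1 4 ∧ ¬ col 0 1 8 ∧ ¬ col 0 4 8 ∧ ¬ col 1 4 8 := by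
  simp only [col_iff]
  decide +kernel

theorem frameOf_mem {σ : Equiv.Perm (Fin 13)} (hσ : σ ∈ Astd) : frameOf σ ∈ Frames := by
  have hb := base_frame
  have h1 : ¬ col (σ 0) (σ 1) (σ 4) := fun h => hb.1 (col_of_mem hσ h)
  have h2 : ¬ col (σ 0) (σ 1) (σ 8) := fun h => hb.2.1 (col_of_mem hσ h)
  have h3 : ¬ col (σ 0) (σ 4) (σ 8) := fun h => hb.2.2.1 (col_of_mem hσ h)
  have h4 : ¬ col (σ 1) (σ 4) (σ 8) := fun h => hb.2.2.2 (col_of_mem hσ h)
  rw [col_iff] at h1 h2 h3 h4
  simp only [Frames, Finset.mem_filter, Finset.mem_univ, true_and, isFrameB, frameOf,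
    Bool.and_eq_true, Bool.not_eq_true', Bool.not_eq_true] at h1 h2 h3 h4 ⊢
  exact ⟨⟨⟨h1, h2⟩, h3⟩, h4⟩

/-- the line `m` contains two distinct points of `S`. -/
def spans (S : List (Fin 13)) (m : ℕ) : Prop :=
  ∃ p ∈ S, ∃ q ∈ S, p ≠ q ∧ m.testBit p.val = true ∧ m.testBit q.val = true

instance (S : List (Fin 13)) (m : ℕ) : Decidable (spans S m) := by unfold spans; infer_instance

/-- `x` is the meet of two lines each spanned by two points of `S`. -/
def gen (S : List (Fin 13)) (x : Fin 13) : Prop :=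
  ∃ m ∈ masks, ∃ m' ∈ masks, m ≠ m' ∧ m.testBit x.val = true ∧ m'.testBit x.val = true ∧
    spans S m ∧ spans S m'

instance (S : List (Fin 13)) (x : Fin 13) : Decidable (gen S x) := by unfold gen; infer_instance

theorem image_eq_of_agree {σ τ : Equiv.Perm (Fin 13)} (hσ : σ ∈ Astd) (hτ : τ ∈ Astd)
    {S : List (Fin 13)} (hS : ∀ y ∈ S, σ y = τ y) {m : ℕ} (hm : m ∈ masks)
    (h2 : spans S m) :
    (lineOf m).image σ = (lineOf m).image τ := by
  obtain ⟨p, hp, q, hq, hpq, hpm, hqm⟩ := h2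
  have hℓ := lineOf_mem hm
  have hp' : p ∈ lineOf m := mem_lineOf.2 hpm
  have hq' : q ∈ lineOf m := mem_lineOf.2 hqm
  refine Lstd_unique ((mem_Astd.1 hσ _).1 hℓ) ((mem_Astd.1 hτ _).1 hℓ) (a := σ p) (b := σ q)
    (σ.injective.ne hpq) (Finset.mem_image_of_mem σ hp') (Finset.mem_image_of_mem σ hq') ?_ ?_
  · rw [hS p hp]
    exact Finset.mem_image_of_mem τ hp'
  · rw [hS q hq]
    exact Finset.mem_image_of_mem τ hq'

theorem agree_of_gen {σ τ : Equiv.Perm (Fin 13)} (hσ : σ ∈ Astd) (hτ : τ ∈ Astd)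
    {S : List (Fin 13)} (hS : ∀ y ∈ S, σ y = τ y) {x : Fin 13} (hx : gen S x) :
    σ x = τ x := by
  obtain ⟨m, hm, m', hm', hne, hxm, hxm', h2, h2'⟩ := hx
  have e1 := image_eq_of_agree hσ hτ hS hm h2
  have e2 := image_eq_of_agree hσ hτ hS hm' h2'
  have hxℓ : x ∈ lineOf m := mem_lineOf.2 hxm
  have hxℓ' : x ∈ lineOf m' := mem_lineOf.2 hxm'
  by_contra hxne
  have h : (lineOf m).image σ = (lineOf m').image σ := by
    refine Lstd_unique ((mem_Astd.1 hσ _).1 (lineOf_mem hm)) ((mem_Astd.1 hσ _).1 (lineOf_mem hm'))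
      hxne (Finset.mem_image_of_mem σ hxℓ) ?_ (Finset.mem_image_of_mem σ hxℓ') ?_
    · rw [e1]
      exact Finset.mem_image_of_mem τ hxℓ
    · rw [e2]
      exact Finset.mem_image_of_mem τ hxℓ'
  have h' := Finset.image_injective σ.injective h
  -- distinct masks give distinct lines
  obtain ⟨p, hp, q, hq, hpq, hpm, hqm⟩ := h2
  have hp' : p ∈ lineOf m' := by rw [← h']; exact mem_lineOf.2 hpm
  have hq' : q ∈ lineOf m' := by rw [← h']; exact mem_lineOf.2 hqm
  exact hne (masks_unique m hm m' hm' p q hpq hpm hqm (mem_lineOf.1 hp') (mem_lineOf.1 hq'))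

set_option maxRecDepth 100000 in
theorem gen_S0 : ∀ x ∈ ([0, 1, 2, 4, 5, 7, 8] : List (Fin 13)),
    x ∈ ([0, 1, 4, 8] : List (Fin 13)) ∨ gen [0, 1, 4, 8] x := by decide +kernel

set_option maxRecDepth 100000 in
theorem gen_S1 : ∀ x : Fin 13, x ∈ ([0, 1, 2, 4, 5, 7, 8] : List (Fin 13)) ∨
    gen [0, 1, 2, 4, 5, 7, 8] x := by decide +kernel

theorem eq_of_frame {σ τ : Equiv.Perm (Fin 13)} (hσ : σ ∈ Astd) (hτ : τ ∈ Astd)
    (h0 : σ 0 = τ 0) (h1 : σ 1 = τ 1) (h4 : σ 4 = τ 4) (h8 : σ 8 = τ 8) : σ = τ := by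
  have hS0 : ∀ y ∈ ([0, 1, 4, 8] : List (Fin 13)), σ y = τ y := by
    intro y hy
    simp only [List.mem_cons, List.not_mem_nil, or_false] at hy
    rcases hy with rfl | rfl | rfl | rfl <;> assumption
  have hS1 : ∀ y ∈ ([0, 1, 2, 4, 5, 7, 8] : List (Fin 13)), σ y = τ y := by
    intro y hy
    rcases gen_S0 y hy with h | h
    · exact hS0 y h
    · exact agree_of_gen hσ hτ hS0 h
  apply Equiv.ext
  intro x
  rcases gen_S1 x with h | h
  · exact hS1 x h
  · exact agree_of_gen hσ hτ hS1 h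

theorem card_Astd_le : Nat.card Astd ≤ 5616 := by
  classical
  have h : Nat.card Astd ≤ Nat.card {t // t ∈ Frames} :=
    Nat.card_le_card_of_injective
      (fun σ : Astd => (⟨frameOf σ.1, frameOf_mem σ.2⟩ : {t // t ∈ Frames})) (by
        intro σ τ h
        have h' := congrArg Subtype.val h
        simp only [frameOf, Prod.mk.injEq] at h'
        exact Subtype.ext (eq_of_frame σ.2 τ.2 h'.1 h'.2.1 h'.2.2.1 h'.2.2.2))
  have h2 : Nat.card {t // t ∈ Frames} = 5616 := by
    rw [Nat.card_eq_fintype_card, Fintype.card_coe, Frames_card]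
  exact h.trans h2.le

end Cfsg.Agent.Lib.Helper2.Pl3
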