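import Mathlib
import Cfsg.Agent.Lib.Helper2.Pl3S

set_option autoImplicit false
set_option linter.style.haveILetI false

/-! Coordinates on an elementary abelian group of order 9, and recognition of the plane of
order 3 from two commuting elations. -/

namespace Cfsg.Agent.Lib.Helper2.Pl3

section Basis

variable {G : Type*} [Group G]

/-- `(a, b) ↦ d₁ ^ a * d₂ ^ b`. -/
def ePow (d₁ d₂ : G) (u : ZMod 3 × ZMod 3) : G := d₁ ^ u.1.val * d₂ ^ u.2.val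

theorem pow_val_add {d : G} (h : d ^ 3 = 1) (a b : ZMod 3) :
    d ^ (a + b).val = d ^ a.val * d ^ b.val := by
  rw [ZMod.val_add, ← pow_eq_pow_mod _ h, pow_add]

theorem ePow_add {d₁ d₂ : G} (h₁ : d₁ ^ 3 = 1) (h₂ : d₂ ^ 3 = 1) (hc : d₁ * d₂ = d₂ * d₁)
    (u v : ZMod 3 × ZMod 3) : ePow d₁ d₂ (u + v) = ePow d₁ d₂ u * ePow d₁ d₂ v := by
  unfold ePow
  rw [Prod.fst_add, Prod.snd_add, pow_val_add h₁, pow_val_add h₂]
  have hc' : Commute d₁ d₂ := hc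
  have h := (hc'.pow_pow v.1.val u.2.val).eq
  calc d₁ ^ u.1.val * d₁ ^ v.1.val * (d₂ ^ u.2.val * d₂ ^ v.2.val)
      = d₁ ^ u.1.val * (d₁ ^ v.1.val * d₂ ^ u.2.val) * d₂ ^ v.2.val := by
        simp only [mul_assoc]
    _ = d₁ ^ u.1.val * (d₂ ^ u.2.val * d₁ ^ v.1.val) * d₂ ^ v.2.val := by rw [h]
    _ = d₁ ^ u.1.val * d₂ ^ u.2.val * (d₁ ^ v.1.val * d₂ ^ v.2.val) := by
        simp only [mul_assoc]

theorem ePow_zero (d₁ d₂ : G) : ePow d₁ d₂ 0 = 1 := by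
  simp [ePow]

/-- An elementary abelian group of order 9 is the bijective image of `ZMod 3 × ZMod 3`,
with a prescribed first basis element. -/
theorem exists_basis' (D : Subgroup G) (h9 : Nat.card D = 9) (h3 : ∀ d ∈ D, d ^ 3 = 1)
    (hc : ∀ a ∈ D, ∀ b ∈ D, a * b = b * a) {d₁ : G} (hd₁ : d₁ ∈ D) (hd₁1 : d₁ ≠ 1) :
    ∃ d₂ ∈ D, d₂ ∉ Subgroup.zpowers d₁ ∧ Function.Injective (ePow d₁ d₂) ∧
      ∀ x, x ∈ D ↔ ∃ u, ePow d₁ d₂ u = x := by
  classical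
  haveI : Finite D := Nat.finite_of_card_ne_zero (by rw [h9]; norm_num)
  have ho₁ : orderOf d₁ = 3 := by
    have h := orderOf_dvd_of_pow_eq_one (h3 d₁ hd₁)
    rcases (Nat.dvd_prime Nat.prime_three).1 h with h1 | h1
    · exact absurd (orderOf_eq_one_iff.1 h1) hd₁1
    · exact h1
  -- d₂ ∉ zpowers d₁
  have hz : Subgroup.zpowers d₁ ≤ D := by
    rw [Subgroup.zpowers_le]
    exact hd₁
  have hzne : Subgroup.zpowers d₁ ≠ D := by
    intro h
    have h1 : Nat.card (Subgroup.zpowers d₁) = 3 := by rw [Nat.card_zpowers, ho₁]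
    rw [h, h9] at h1
    omega
  obtain ⟨d₂, hd₂, hd₂z⟩ : ∃ d₂ ∈ D, d₂ ∉ Subgroup.zpowers d₁ := by
    by_contra hcon
    push Not at hcon
    exact hzne (le_antisymm hz hcon)
  have hd₂3 := h3 d₂ hd₂
  have hd₁3 := h3 d₁ hd₁
  have hcomm := hc d₁ hd₁ d₂ hd₂
  have hadd := ePow_add hd₁3 hd₂3 hcomm
  -- kernel trivial
  have hker : ∀ w : ZMod 3 × ZMod 3, ePow d₁ d₂ w = 1 → w = 0 := by
    rintro ⟨a, b⟩ hw
    unfold ePow at hw
    simp only at hw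
    have hb : d₂ ^ b.val ∈ Subgroup.zpowers d₁ := by
      have h1 : d₂ ^ b.val = (d₁ ^ a.val)⁻¹ := eq_inv_of_mul_eq_one_right hw
      rw [h1]
      exact Subgroup.inv_mem _ (Subgroup.pow_mem _ (Subgroup.mem_zpowers d₁) _)
    have hb0 : b = 0 := by
      by_contra hb0
      have hbv : b.val = 1 ∨ b.val = 2 := by
        have h1 : b.val < 3 := ZMod.val_lt b
        have h2 : b.val ≠ 0 := fun h => hb0 ((ZMod.val_eq_zero b).1 h)
        omega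
      rcases hbv with h | h
      · rw [h, pow_one] at hb
        exact hd₂z hb
      · rw [h] at hb
        have h4 : d₂ = (d₂ ^ 2) ^ 2 := by
          rw [← pow_mul]
          calc d₂ = d₂ ^ 3 * d₂ := by rw [hd₂3, one_mul]
            _ = d₂ ^ (2 * 2) := by rw [← pow_succ]
        rw [h4] at hd₂z
        exact hd₂z (Subgroup.pow_mem _ hb 2)
    subst hb0
    simp only [ZMod.val_zero, pow_zero, mul_one] at hw
    have ha : a.val = 0 := by
      have h1 : a.val < 3 := ZMod.val_lt a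
      have h2 : orderOf d₁ ∣ a.val := orderOf_dvd_of_pow_eq_one hw
      rw [ho₁] at h2
      omega
    rw [(ZMod.val_eq_zero a).1 ha]
    rfl
  have hinj : Function.Injective (ePow d₁ d₂) := by
    intro u v huv
    have h1 : ePow d₁ d₂ (u - v) = 1 := by
      have h2 := hadd (u - v) v
      rw [sub_add_cancel, huv] at h2
      exact mul_right_cancel (b := ePow d₁ d₂ v) (by rw [one_mul]; exact h2.symm)
    exact sub_eq_zero.1 (hker _ h1)
  have hmem : ∀ u, ePow d₁ d₂ u ∈ D := fun u =>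
    D.mul_mem (D.pow_mem hd₁ _) (D.pow_mem hd₂ _)
  refine ⟨d₂, hd₂, hd₂z, hinj, ?_⟩
  -- surjectivity onto D by counting
  have hsub : Set.range (ePow d₁ d₂) ⊆ (D : Set G) := by
    rintro x ⟨u, rfl⟩
    exact hmem u
  have hcard : (D : Set G).ncard ≤ (Set.range (ePow d₁ d₂)).ncard := by
    rw [← Nat.card_coe_set_eq, ← Nat.card_coe_set_eq,
      Nat.card_range_of_injective hinj]
    have : Nat.card (ZMod 3 × ZMod 3) = 9 := by
      rw [Nat.card_prod, Nat.card_eq_fintype_card, ZMod.card]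
    rw [this]
    exact h9.le
  have heq : Set.range (ePow d₁ d₂) = (D : Set G) :=
    Set.eq_of_subset_of_ncard_le hsub hcard (Set.toFinite _)
  intro x
  constructor
  · intro hx
    have : x ∈ Set.range (ePow d₁ d₂) := by rw [heq]; exact hx
    exact this
  · rintro ⟨u, rfl⟩
    exact hmem u

/-- An elementary abelian group of order 9 is the bijective image of `ZMod 3 × ZMod 3`. -/
theorem exists_basis (D : Subgroup G) (h9 : Nat.card D = 9) (h3 : ∀ d ∈ D, d ^ 3 = 1)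
    (hc : ∀ a ∈ D, ∀ b ∈ D, a * b = b * a) :
    ∃ d₁ ∈ D, ∃ d₂ ∈ D, Function.Injective (ePow d₁ d₂) ∧
      ∀ x, x ∈ D ↔ ∃ u, ePow d₁ d₂ u = x := by
  have hnb : D ≠ ⊥ := by
    intro hb
    rw [hb, Subgroup.card_bot] at h9
    omega
  obtain ⟨d₁', hd₁1'⟩ := (Subgroup.ne_bot_iff_exists_ne_one).1 hnb
  obtain ⟨d₁, hd₁⟩ := d₁'
  have hd₁1 : d₁ ≠ 1 := fun h => hd₁1' (Subtype.ext h)
  obtain ⟨d₂, hd₂, -, hinj, hsurj⟩ := exists_basis' D h9 h3 hc hd₁ hd₁1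
  exact ⟨d₁, hd₁, d₂, hd₂, hinj, hsurj⟩

end Basis

section Recognize

variable {G : Type*} [Group G] {Ω : Type*} [MulAction G Ω] [Fintype Ω] [DecidableEq Ω]

/-- the coordinate map. -/
def stdMap (d₁ d₂ : G) (ω₀ x₀ x₁ x₂ x₃ : Ω) : Fin 13 → Ω :=
  ![ω₀, x₀, d₁ • x₀, d₁ • d₁ • x₀, x₁, d₂ • x₁, d₂ • d₂ • x₁, x₂, d₁ • x₂, d₁ • d₁ • x₂,
    x₃, d₁ • x₃, d₁ • d₁ • x₃]

theorem recognize (hΩ : Fintype.card Ω = 13) (L : Finset Ω → Prop)
    (hL4 : ∀ ℓ, L ℓ → ℓ.card = 4)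
    (hL2 : ∀ ℓ ℓ', L ℓ → L ℓ' → ∀ a b, a ≠ b → a ∈ ℓ → b ∈ ℓ → a ∈ ℓ' → b ∈ ℓ' → ℓ = ℓ')
    (hLg : ∀ (g : G) (ℓ : Finset Ω), L ℓ → L (ℓ.image (fun a => g • a)))
    (d₁ d₂ : G) (hcomm : d₁ * d₂ = d₂ * d₁) (h₁ : d₁ ^ 3 = 1) (h₂ : d₂ ^ 3 = 1)
    (ω₀ x₀ x₁ x₂ x₃ : Ω)
    (hω₁ : d₁ • ω₀ = ω₀) (hω₂ : d₂ • ω₀ = ω₀)
    (hx₀ : d₂ • x₀ = x₀) (hx₁ : d₁ • x₁ = x₁) (hx₂ : d₂ • x₂ = d₁ • x₂)
    (hx₃ : d₂ • x₃ = d₁ • d₁ • x₃)
    (hℓ₀ : L {ω₀, x₀, d₁ • x₀, d₁ • d₁ • x₀}) (hℓ₁ : L {ω₀, x₁, d₂ • x₁, d₂ • d₂ • x₁})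
    (hℓ₂ : L {ω₀, x₂, d₁ • x₂, d₁ • d₁ • x₂}) (hℓ₃ : L {ω₀, x₃, d₁ • x₃, d₁ • d₁ • x₃})
    (hm : L {x₀, x₁, x₂, x₃}) :
    ∃ Φ : Fin 13 ≃ Ω, ∀ ℓ : Finset (Fin 13), ℓ ∈ Lstd ↔ L (ℓ.image Φ) := by
  have c : ∀ y : Ω, d₂ • d₁ • y = d₁ • d₂ • y := by
    intro y
    rw [← mul_smul, ← mul_smul, hcomm]
  have t1 : ∀ y : Ω, d₁ • d₁ • d₁ • y = y := by
    intro y
    rw [← mul_smul, ← mul_smul, ← pow_two, ← pow_succ, h₁, one_smul]
  have t2 : ∀ y : Ω, d₂ • d₂ • d₂ • y = y := by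
    intro y
    rw [← mul_smul, ← mul_smul, ← pow_two, ← pow_succ, h₂, one_smul]
  have eq1 : ∀ p, stdMap d₁ d₂ ω₀ x₀ x₁ x₂ x₃ (tau1 p) = d₁ • stdMap d₁ d₂ ω₀ x₀ x₁ x₂ x₃ p := by
    intro p
    fin_cases p
    · exact hω₁.symm
    · rfl
    · rfl
    · exact (t1 x₀).symm
    · exact hx₁.symm
    · show d₂ • x₁ = d₁ • d₂ • x₁
      rw [← c, hx₁]
    · show d₂ • d₂ • x₁ = d₁ • d₂ • d₂ • x₁
      rw [← c, ← c, hx₁]
    · rfl
    · rfl
    · exact (t1 x₂).symm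
    · rfl
    · rfl
    · exact (t1 x₃).symm
  have eq2 : ∀ p, stdMap d₁ d₂ ω₀ x₀ x₁ x₂ x₃ (tau2 p) = d₂ • stdMap d₁ d₂ ω₀ x₀ x₁ x₂ x₃ p := by
    intro p
    fin_cases p
    · exact hω₂.symm
    · exact hx₀.symm
    · show d₁ • x₀ = d₂ • d₁ • x₀
      rw [c, hx₀]
    · show d₁ • d₁ • x₀ = d₂ • d₁ • d₁ • x₀
      rw [c, c, hx₀]
    · rfl
    · rfl
    · exact (t2 x₁).symm
    · show d₁ • x₂ = d₂ • x₂
      exact hx₂.symm
    · show d₁ • d₁ • x₂ = d₂ • d₁ • x₂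
      rw [c, hx₂]
    · show x₂ = d₂ • d₁ • d₁ • x₂
      rw [c, c, hx₂, t1]
    · show d₁ • d₁ • x₃ = d₂ • x₃
      exact hx₃.symm
    · show x₃ = d₂ • d₁ • x₃
      rw [c, hx₃, t1]
    · show d₁ • x₃ = d₂ • d₁ • d₁ • x₃
      rw [c, c, hx₃, t1]
  set Φ₀ := stdMap d₁ d₂ ω₀ x₀ x₁ x₂ x₃ with hΦ₀
  have good : ∀ ℓ ∈ Lstd, L (ℓ.image Φ₀) := by
    apply Lstd_induction (fun ℓ => L (ℓ.image Φ₀))
    · have h : Finset.image Φ₀ {0, 1, 2, 3} = {ω₀, x₀, d₁ • x₀, d₁ • d₁ • x₀} := by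
        rw [Finset.image_insert, Finset.image_insert, Finset.image_insert,
          Finset.image_singleton]
        rfl
      rw [h]
      exact hℓ₀
    · have h : Finset.image Φ₀ {0, 4, 5, 6} = {ω₀, x₁, d₂ • x₁, d₂ • d₂ • x₁} := by
        rw [Finset.image_insert, Finset.image_insert, Finset.image_insert,
          Finset.image_singleton]
        rfl
      rw [h]
      exact hℓ₁
    · have h : Finset.image Φ₀ {0, 7, 8, 9} = {ω₀, x₂, d₁ • x₂, d₁ • d₁ • x₂} := by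
        rw [Finset.image_insert, Finset.image_insert, Finset.image_insert,
          Finset.image_singleton]
        rfl
      rw [h]
      exact hℓ₂
    · have h : Finset.image Φ₀ {0, 10, 11, 12} = {ω₀, x₃, d₁ • x₃, d₁ • d₁ • x₃} := by
        rw [Finset.image_insert, Finset.image_insert, Finset.image_insert,
          Finset.image_singleton]
        rfl
      rw [h]
      exact hℓ₃
    · have h : Finset.image Φ₀ {1, 4, 7, 10} = {x₀, x₁, x₂, x₃} := by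
        rw [Finset.image_insert, Finset.image_insert, Finset.image_insert,
          Finset.image_singleton]
        rfl
      rw [h]
      exact hm
    · intro ℓ hℓ
      have h : (ℓ.image tau1).image Φ₀ = (ℓ.image Φ₀).image (fun a => d₁ • a) := by
        rw [Finset.image_image, Finset.image_image]
        congr 1
        funext p
        exact eq1 p
      show L ((ℓ.image tau1).image Φ₀)
      rw [h]
      exact hLg d₁ _ hℓ
    · intro ℓ hℓ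
      have h : (ℓ.image tau2).image Φ₀ = (ℓ.image Φ₀).image (fun a => d₂ • a) := by
        rw [Finset.image_image, Finset.image_image]
        congr 1
        funext p
        exact eq2 p
      show L ((ℓ.image tau2).image Φ₀)
      rw [h]
      exact hLg d₂ _ hℓ
  have hinj : Function.Injective Φ₀ := by
    intro p q hpq
    by_contra hne
    obtain ⟨ℓ, hℓ, hp, hq⟩ := Lstd_exists p q hne
    have h4 : (ℓ.image Φ₀).card = ℓ.card := by
      rw [hL4 _ (good ℓ hℓ), Lstd_card ℓ hℓ]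
    exact hne (Finset.card_image_iff.1 h4 hp hq hpq)
  have hbij : Function.Bijective Φ₀ := by
    rw [Fintype.bijective_iff_injective_and_card]
    exact ⟨hinj, by rw [Fintype.card_fin, hΩ]⟩
  refine ⟨Equiv.ofBijective Φ₀ hbij, ?_⟩
  intro ℓ
  have hcoe : (⇑(Equiv.ofBijective Φ₀ hbij) : Fin 13 → Ω) = Φ₀ := rfl
  rw [hcoe]
  constructor
  · exact good ℓ
  · intro hℓ
    have h4 : ℓ.card = 4 := by
      rw [← hL4 _ hℓ, Finset.card_image_of_injective _ hinj]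
    obtain ⟨p, hp, q, hq, hpq⟩ := Finset.one_lt_card.1 (by rw [h4]; norm_num)
    obtain ⟨ℓ', hℓ', hp', hq'⟩ := Lstd_exists p q hpq
    have h := hL2 _ _ hℓ (good ℓ' hℓ') (Φ₀ p) (Φ₀ q) (hinj.ne hpq)
      (Finset.mem_image_of_mem _ hp) (Finset.mem_image_of_mem _ hq)
      (Finset.mem_image_of_mem _ hp') (Finset.mem_image_of_mem _ hq')
    rw [Finset.image_injective hinj h]
    exact hℓ'

end Recognize

end Cfsg.Agent.Lib.Helper2.Pl3
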