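import Mathlib
import Cfsg.Agent.Lib.Helper2.Pl3A
import Cfsg.Agent.Lib.Helper2.Pl3B

set_option autoImplicit false
set_option linter.style.haveILetI false

/-! Coordinates: the design of `Pl3A` is isomorphic to the standard plane of order 3. -/

namespace Cfsg.Agent.Lib.Helper2.Pl3

variable {G : Type*} [Group G] [Fintype G] {Ω : Type*} [MulAction G Ω] [Fintype Ω]
  [DecidableEq Ω]

/-- generators of the four subgroups of order 3. -/
def wdir : Fin 4 → ZMod 3 × ZMod 3 := ![(0, 1), (1, 0), (1, 2), (1, 1)]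

/-- transversal directions. -/
def ydir : Fin 4 → ZMod 3 × ZMod 3 := ![(1, 0), (0, 1), (1, 0), (1, 0)]

theorem wdir_cover : ∀ u : ZMod 3 × ZMod 3, u ≠ 0 → ∃ i, wdir i = u ∨ wdir i = u + u := by
  decide

theorem ydir_indep : ∀ i, ydir i ≠ 0 ∧ ydir i ≠ wdir i ∧ ydir i ≠ wdir i + wdir i := by decide

theorem wdir_ne : ∀ i, wdir i ≠ 0 := by decide

theorem line_through {D : Subgroup G} {ω₀ : Ω} (S : Setup D ω₀) {k t : G} (hk : k ∈ D)
    (hk1 : k ≠ 1) (ht : t ∈ D) (ht1 : t ≠ 1) (htk : t ≠ k) (htk2 : t ≠ k ^ 2) {x : Ω}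
    (hx0 : x ≠ ω₀) (hkx : k • x = x) : IsLine D ω₀ {ω₀, x, t • x, t • t • x} := by
  have hEl : El D ω₀ k ω₀ := El_base hk hk1
  refine ⟨k, ω₀, hEl, ?_⟩
  have htx : t • x ≠ x := by
    intro h
    have hkst : k ∈ stab D x := mem_stab.2 ⟨hk, hkx⟩
    have htst : t ∈ stab D x := mem_stab.2 ⟨ht, h⟩
    rcases stab_elems S hx0 hkst hk1 htst with h1 | h1 | h1
    · exact ht1 h1
    · exact htk h1
    · exact htk2 h1
  have ht3 : t • t • t • x = x := by
    rw [← mul_smul, ← mul_smul, ← pow_two, ← pow_succ, S.exp3 t ht, one_smul]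
  have hkt : ∀ y : Ω, k • t • y = t • k • y := by
    intro y
    rw [← mul_smul, ← mul_smul, S.comm k hk t ht]
  have ht0 : t • ω₀ = ω₀ := S.fixD t ht
  have hsub : ({ω₀, x, t • x, t • t • x} : Finset Ω) ⊆ Fix k := by
    intro z hz
    simp only [Finset.mem_insert, Finset.mem_singleton] at hz
    rw [mem_Fix]
    rcases hz with rfl | rfl | rfl | rfl
    · exact S.fixD k hk
    · exact hkx
    · rw [hkt, hkx]
    · rw [hkt, hkt, hkx]
  have hc4 : ({ω₀, x, t • x, t • t • x} : Finset Ω).card = 4 := by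
    rw [Finset.card_insert_of_notMem, Finset.card_insert_of_notMem,
      Finset.card_insert_of_notMem, Finset.card_singleton]
    · simp only [Finset.mem_singleton]
      intro h
      exact htx (MulAction.injective t h).symm
    · simp only [Finset.mem_insert, Finset.mem_singleton, not_or]
      refine ⟨fun h => htx h.symm, fun h => ?_⟩
      apply htx
      have h1 : t • x = t • t • t • x := congrArg (fun y => t • y) h
      rw [ht3] at h1
      exact h1
    · simp only [Finset.mem_insert, Finset.mem_singleton, not_or]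
      refine ⟨hx0.symm, fun h => ?_, fun h => ?_⟩
      · have h1 : t • ω₀ = t • x := by rw [ht0]; exact h
        exact hx0 (MulAction.injective t h1).symm
      · have h1 : t • ω₀ = t • t • x := by rw [ht0]; exact h
        have h2 : ω₀ = t • x := MulAction.injective t h1
        have h3 : t • ω₀ = t • x := by rw [ht0]; exact h2
        exact hx0 (MulAction.injective t h3).symm
  exact (Finset.eq_of_subset_of_card_le hsub (by rw [hc4, hEl.card_Fix S]))

theorem exists_coords {D : Subgroup G} {ω₀ : Ω} (S : Setup D ω₀) :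
    ∃ Φ : Fin 13 ≃ Ω, ∀ ℓ : Finset (Fin 13), ℓ ∈ Lstd ↔ IsLine D ω₀ (ℓ.image Φ) := by
  classical
  obtain ⟨d₁, hd₁, d₂, hd₂, hinj, hsurj⟩ := exists_basis D S.card9 S.exp3 S.comm
  have hadd := ePow_add (S.exp3 d₁ hd₁) (S.exp3 d₂ hd₂) (S.comm d₁ hd₁ d₂ hd₂)
  have he0 : ePow d₁ d₂ 0 = 1 := ePow_zero d₁ d₂
  generalize ePow d₁ d₂ = e at hinj hsurj hadd he0
  have heD : ∀ u, e u ∈ D := fun u => (hsurj _).2 ⟨u, rfl⟩
  have hene : ∀ u, u ≠ 0 → e u ≠ 1 := fun u hu h => hu (hinj (h.trans he0.symm))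
  -- covering
  have hcover : ∀ β : Ω, β ≠ ω₀ → ∃ i : Fin 4, e (wdir i) • β = β := by
    intro β hβ
    have h3 := card_stab S hβ
    have hne : stab D β ≠ ⊥ := by
      intro hb
      rw [hb, Subgroup.card_bot] at h3
      omega
    obtain ⟨x, hx1⟩ := (Subgroup.ne_bot_iff_exists_ne_one).1 hne
    obtain ⟨hxD, hxβ⟩ := mem_stab.1 x.2
    obtain ⟨u, hu⟩ := (hsurj _).1 hxD
    have hu0 : u ≠ 0 := by
      rintro rfl
      exact hx1 (Subtype.ext (hu.symm.trans he0))
    obtain ⟨i, hi | hi⟩ := wdir_cover u hu0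
    · exact ⟨i, by rw [hi, hu]; exact hxβ⟩
    · refine ⟨i, ?_⟩
      rw [hi, hadd, hu, mul_smul, hxβ, hxβ]
  -- a line missing ω₀
  obtain ⟨β₁, hβ₁⟩ := Fintype.exists_ne_of_one_lt_card (by rw [S.card]; norm_num) ω₀
  obtain ⟨ℓ₁, hℓ₁, h0ℓ₁, hβℓ₁⟩ := exists_line S hβ₁.symm
  obtain ⟨γ, hγ⟩ : ∃ γ, γ ∉ ℓ₁ := by
    by_contra hcon
    push Not at hcon
    have h1 : ℓ₁ = Finset.univ := Finset.eq_univ_iff_forall.2 hcon
    have h4 := hℓ₁.card S
    rw [h1, Finset.card_univ, S.card] at h4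
    omega
  have hβγ : β₁ ≠ γ := by
    rintro rfl
    exact hγ hβℓ₁
  obtain ⟨m₀, hm₀, hβm, hγm⟩ := exists_line S hβγ
  have h0m : ω₀ ∉ m₀ := by
    intro h
    have h1 := line_unique S hm₀ hℓ₁ hβ₁.symm h hβm h0ℓ₁ hβℓ₁
    rw [h1] at hγm
    exact hγ hγm
  have hm0' : ∀ β ∈ m₀, β ≠ ω₀ := fun β hβ h => h0m (h ▸ hβ)
  -- pigeonhole
  choose! f hf using hcover
  have hfinj : Set.InjOn f m₀ := by
    intro β hβ β' hβ' hff
    by_contra hne
    have hk : e (wdir (f β)) ∈ D := heD _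
    have hk1 : e (wdir (f β)) ≠ 1 := hene _ (wdir_ne _)
    have hline : IsLine D ω₀ (Fix (e (wdir (f β)))) := ⟨_, ω₀, El_base hk hk1, rfl⟩
    have h1 : β ∈ (Fix (e (wdir (f β))) : Finset Ω) := mem_Fix.2 (hf β (hm0' β hβ))
    have h2 : β' ∈ (Fix (e (wdir (f β))) : Finset Ω) := by
      rw [hff]
      exact mem_Fix.2 (hf β' (hm0' β' hβ'))
    have h3 := line_unique S hm₀ hline hne hβ hβ' h1 h2
    exact h0m (h3 ▸ mem_Fix.2 (S.fixD _ hk))
  have himg : m₀.image f = Finset.univ := by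
    apply Finset.eq_univ_of_card
    rw [Finset.card_image_of_injOn hfinj, hm₀.card S, Fintype.card_fin]
  have hex : ∀ i : Fin 4, ∃ x ∈ m₀, f x = i := by
    intro i
    have h1 : i ∈ m₀.image f := by
      rw [himg]
      exact Finset.mem_univ _
    obtain ⟨x, hx, hxi⟩ := Finset.mem_image.1 h1
    exact ⟨x, hx, hxi⟩
  choose x hxm hxf using hex
  have hkx : ∀ i, e (wdir i) • x i = x i := by
    intro i
    have h1 := hf (x i) (hm0' _ (hxm i))
    rwa [hxf i] at h1
  have hxinj : Function.Injective x := by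
    intro i j hij
    rw [← hxf i, ← hxf j, hij]
  have hmeq : ({x 0, x 1, x 2, x 3} : Finset Ω) = m₀ := by
    apply Finset.eq_of_subset_of_card_le
    · intro z hz
      simp only [Finset.mem_insert, Finset.mem_singleton] at hz
      rcases hz with rfl | rfl | rfl | rfl <;> exact hxm _
    · have h4 : ({x 0, x 1, x 2, x 3} : Finset Ω).card = 4 := by
        rw [Finset.card_insert_of_notMem, Finset.card_insert_of_notMem,
          Finset.card_insert_of_notMem, Finset.card_singleton]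
        · simp only [Finset.mem_singleton]
          exact hxinj.ne (by decide)
        · simp only [Finset.mem_insert, Finset.mem_singleton, not_or]
          exact ⟨hxinj.ne (by decide), hxinj.ne (by decide)⟩
        · simp only [Finset.mem_insert, Finset.mem_singleton, not_or]
          exact ⟨hxinj.ne (by decide), hxinj.ne (by decide), hxinj.ne (by decide)⟩
      rw [h4, hm₀.card S]
  -- the hypotheses of `recognize`
  have hline : ∀ i : Fin 4,
      IsLine D ω₀ {ω₀, x i, e (ydir i) • x i, e (ydir i) • e (ydir i) • x i} := by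
    intro i
    obtain ⟨hy0, hyw, hyw2⟩ := ydir_indep i
    refine line_through S (heD (wdir i)) (hene _ (wdir_ne i)) (heD (ydir i)) (hene _ hy0) ?_ ?_
      (hm0' _ (hxm i)) (hkx i)
    · intro h
      exact hyw (hinj h)
    · intro h
      rw [pow_two, ← hadd] at h
      exact hyw2 (hinj h)
  have hcomm' : e (1, 0) * e (0, 1) = e (0, 1) * e (1, 0) := S.comm _ (heD _) _ (heD _)
  have h₁' : e (1, 0) ^ 3 = 1 := S.exp3 _ (heD _)
  have h₂' : e (0, 1) ^ 3 = 1 := S.exp3 _ (heD _)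
  have c : ∀ y : Ω, e (0, 1) • e (1, 0) • y = e (1, 0) • e (0, 1) • y := by
    intro y
    rw [← mul_smul, ← mul_smul, hcomm']
  have t1 : ∀ y : Ω, e (1, 0) • e (1, 0) • e (1, 0) • y = y := by
    intro y
    rw [← mul_smul, ← mul_smul, ← pow_two, ← pow_succ, h₁', one_smul]
  have t2 : ∀ y : Ω, e (0, 1) • e (0, 1) • e (0, 1) • y = y := by
    intro y
    rw [← mul_smul, ← mul_smul, ← pow_two, ← pow_succ, h₂', one_smul]
  have hx₂ : e (0, 1) • x 2 = e (1, 0) • x 2 := by
    have h1 : e (1, 2) = e (1, 0) * (e (0, 1) * e (0, 1)) := by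
      rw [← hadd, ← hadd]
      exact congrArg e (by decide)
    have h2 : e (1, 0) • e (0, 1) • e (0, 1) • x 2 = x 2 := by
      have h3 := hkx 2
      have h4 : wdir 2 = (1, 2) := rfl
      rw [h4, h1, mul_smul, mul_smul] at h3
      exact h3
    calc e (0, 1) • x 2 = e (0, 1) • (e (1, 0) • e (0, 1) • e (0, 1) • x 2) := by rw [h2]
      _ = e (1, 0) • (e (0, 1) • e (0, 1) • e (0, 1) • x 2) := by rw [c]
      _ = e (1, 0) • x 2 := by rw [t2]
  have hx₃ : e (0, 1) • x 3 = e (1, 0) • e (1, 0) • x 3 := by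
    have h1 : e (1, 1) = e (1, 0) * e (0, 1) := by
      rw [← hadd]
      exact congrArg e (by decide)
    have h2 : e (1, 0) • e (0, 1) • x 3 = x 3 := by
      have h3 := hkx 3
      have h4 : wdir 3 = (1, 1) := rfl
      rw [h4, h1, mul_smul] at h3
      exact h3
    calc e (0, 1) • x 3 = e (1, 0) • e (1, 0) • e (1, 0) • (e (0, 1) • x 3) := (t1 _).symm
      _ = e (1, 0) • e (1, 0) • x 3 := by rw [h2]
  exact recognize S.card (IsLine D ω₀) (fun ℓ h => h.card S)
    (fun ℓ ℓ' h h' a b hab ha hb ha' hb' => line_unique S h h' hab ha hb ha' hb')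
    (fun g ℓ h => h.smul g) (e (1, 0)) (e (0, 1)) hcomm' h₁' h₂' ω₀ (x 0) (x 1) (x 2) (x 3)
    (S.fixD _ (heD _)) (S.fixD _ (heD _)) (hkx 0) (hkx 1) hx₂ hx₃ (hline 0) (hline 1) (hline 2)
    (hline 3) (hmeq ▸ hm₀)

end Cfsg.Agent.Lib.Helper2.Pl3
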