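import Mathlib
import Cfsg.Agent.Lib.Helper2.Pl3A
import Cfsg.Agent.Lib.Helper2.Pl3B

set_option autoImplicit false
set_option linter.style.haveILetI false

/-! If `D` is elementary abelian of order 9 with `C_G(D) = D` and `|N_G(D)| = 432`, then
`N_G(D)` is transitive on `D \ 1` by conjugation. -/

namespace Cfsg.Agent.Lib.Helper2.Pl3

theorem comm_of_card9 {G : Type*} [Group G] (D : Subgroup G) (h9 : Nat.card D = 9) :
    ∀ a ∈ D, ∀ b ∈ D, a * b = b * a := by
  haveI : Fact (Nat.Prime 3) := ⟨Nat.prime_three⟩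
  intro a ha b hb
  have h := IsPGroup.commutative_of_card_eq_prime_sq (p := 3) (G := D)
    (by rw [h9]; norm_num) ⟨a, ha⟩ ⟨b, hb⟩
  exact congrArg Subtype.val h

theorem conj_trans {G : Type*} [Group G] [Finite G] (D : Subgroup G) (h9 : Nat.card D = 9)
    (h3 : ∀ d ∈ D, d ^ 3 = 1) (hCD : Subgroup.centralizer (D : Set G) = D)
    (hN : Nat.card (Subgroup.normalizer (D : Set G)) = 432)
    {d d' : G} (hd : d ∈ D) (hd1 : d ≠ 1) (hd' : d' ∈ D) (hd'1 : d' ≠ 1) :
    ∃ n ∈ Subgroup.normalizer (D : Set G), n * d * n⁻¹ = d' := by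
  classical
  haveI : Fintype G := Fintype.ofFinite G
  have hc := comm_of_card9 D h9
  obtain ⟨d₂, hd₂, hd₂z, hinj, hsurj⟩ := exists_basis' D h9 h3 hc hd hd1
  have hnorm : ∀ n ∈ Subgroup.normalizer (D : Set G), ∀ x ∈ D, n * x * n⁻¹ ∈ D :=
    fun n hn x hx => (Subgroup.mem_normalizer_iff.1 hn x).1 hx
  generalize Subgroup.normalizer (D : Set G) = N at hN hnorm ⊢
  have hord : orderOf d = 3 := by
    have h := orderOf_dvd_of_pow_eq_one (h3 d hd)
    rcases (Nat.dvd_prime Nat.prime_three).1 h with h1 | h1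
    · exact absurd (orderOf_eq_one_iff.1 h1) hd1
    · exact h1
  have hDf : (Finset.univ.filter (fun x : G => x ∈ D)).card = 9 := by
    rw [card_filter_mem, h9]
  have hNf : (Finset.univ.filter (fun x : G => x ∈ N)).card = 432 := by
    rw [card_filter_mem, hN]
  have hcent : ∀ g : G, g * d = d * g → g * d₂ = d₂ * g → g ∈ D := by
    intro g h1 h2
    rw [← hCD, Subgroup.mem_centralizer_iff]
    intro x hx
    obtain ⟨u, rfl⟩ := (hsurj x).1 hx
    unfold ePow
    have c1 : Commute g d := h1
    have c2 : Commute g d₂ := h2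
    exact ((c1.pow_right _).mul_right (c2.pow_right _)).eq.symm
  -- Step A: the centralizer of `d` in `N` has at most 54 elements
  have hC : ((Finset.univ.filter (fun x : G => x ∈ N)).filter (fun n => n * d = d * n)).card
      ≤ 54 := by
    have hT : ((Finset.univ.filter (fun x : G => x ∈ D)).filter
        (fun x => x ∉ Subgroup.zpowers d)).card = 6 := by
      have h1 : ((Finset.univ.filter (fun x : G => x ∈ D)).filter
          (fun x => x ∈ Subgroup.zpowers d)).card = 3 := by
        have h2 : (Finset.univ.filter (fun x : G => x ∈ D)).filter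
            (fun x => x ∈ Subgroup.zpowers d) =
            Finset.univ.filter (fun x => x ∈ Subgroup.zpowers d) := by
          ext x
          simp only [Finset.mem_filter, Finset.mem_univ, true_and]
          constructor
          · exact fun h => h.2
          · exact fun h => ⟨(Subgroup.zpowers_le.2 hd) h, h⟩
        rw [h2, card_filter_mem, Nat.card_zpowers, hord]
      have h2 := Finset.card_filter_add_card_filter_not
        (s := Finset.univ.filter (fun x : G => x ∈ D)) (fun x => x ∈ Subgroup.zpowers d)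
      rw [h1, hDf] at h2
      omega
    have himg : ((Finset.univ.filter (fun x : G => x ∈ N)).filter
        (fun n => n * d = d * n)).image (fun n => n * d₂ * n⁻¹) ⊆
        (Finset.univ.filter (fun x : G => x ∈ D)).filter (fun x => x ∉ Subgroup.zpowers d) := by
      intro a ha
      obtain ⟨n, hn, rfl⟩ := Finset.mem_image.1 ha
      rw [Finset.mem_filter] at hn
      have hnN : n ∈ N := (Finset.mem_filter.1 hn.1).2
      refine Finset.mem_filter.2 ⟨Finset.mem_filter.2 ⟨Finset.mem_univ _, hnorm n hnN d₂ hd₂⟩, ?_⟩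
      intro hz
      apply hd₂z
      obtain ⟨k, hk⟩ := Subgroup.mem_zpowers_iff.1 hz
      have c1 : Commute n d := hn.2
      have h5 : n * d₂ * n⁻¹ = n * d ^ k * n⁻¹ := by
        rw [← hk, (c1.zpow_right k).eq, mul_inv_cancel_right]
      have h6 : d₂ = d ^ k := mul_left_cancel (mul_right_cancel h5)
      rw [h6]
      exact Subgroup.zpow_mem_zpowers d k
    have hfib : ∀ a ∈ ((Finset.univ.filter (fun x : G => x ∈ N)).filter
        (fun n => n * d = d * n)).image (fun n => n * d₂ * n⁻¹),
        (((Finset.univ.filter (fun x : G => x ∈ N)).filter (fun n => n * d = d * n)).filter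
          (fun n => n * d₂ * n⁻¹ = a)).card ≤ 9 := by
      intro a ha
      obtain ⟨n₀, hn₀, rfl⟩ := Finset.mem_image.1 ha
      rw [Finset.mem_filter] at hn₀
      have hsub : ((Finset.univ.filter (fun x : G => x ∈ N)).filter
          (fun n => n * d = d * n)).filter (fun n => n * d₂ * n⁻¹ = n₀ * d₂ * n₀⁻¹) ⊆
          (Finset.univ.filter (fun x : G => x ∈ D)).image (fun x => n₀ * x) := by
        intro n hn
        rw [Finset.mem_filter, Finset.mem_filter] at hn
        refine Finset.mem_image.2 ⟨n₀⁻¹ * n, ?_, by group⟩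
        refine Finset.mem_filter.2 ⟨Finset.mem_univ _, hcent _ ?_ ?_⟩
        · have c0 : Commute n₀ d := hn₀.2
          have c1 : Commute n d := hn.1.2
          exact (c0.inv_left.mul_left c1).eq
        · have h5 := hn.2
          calc n₀⁻¹ * n * d₂ = n₀⁻¹ * (n * d₂ * n⁻¹) * n := by group
            _ = n₀⁻¹ * (n₀ * d₂ * n₀⁻¹) * n := by rw [h5]
            _ = d₂ * (n₀⁻¹ * n) := by group
      calc _ ≤ ((Finset.univ.filter (fun x : G => x ∈ D)).image (fun x => n₀ * x)).card :=
            Finset.card_le_card hsub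
        _ ≤ (Finset.univ.filter (fun x : G => x ∈ D)).card := Finset.card_image_le
        _ = 9 := hDf
    calc _ ≤ 9 * (((Finset.univ.filter (fun x : G => x ∈ N)).filter
          (fun n => n * d = d * n)).image (fun n => n * d₂ * n⁻¹)).card :=
          Finset.card_le_mul_card_image _ 9 hfib
      _ ≤ 9 * 6 := Nat.mul_le_mul_left 9 (hT ▸ Finset.card_le_card himg)
      _ = 54 := by norm_num
  -- Step B: the orbit of `d` has at least 8 elements
  have hDne : (Finset.univ.filter (fun x : G => x ∈ D ∧ x ≠ 1)).card = 8 := by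
    have h1 : Finset.univ.filter (fun x : G => x ∈ D ∧ x ≠ 1) =
        (Finset.univ.filter (fun x : G => x ∈ D)).erase 1 := by
      ext x
      simp only [Finset.mem_filter, Finset.mem_univ, true_and, Finset.mem_erase]
      tauto
    rw [h1, Finset.card_erase_of_mem (by simp [D.one_mem]), hDf]
  have himg2 : (Finset.univ.filter (fun x : G => x ∈ N)).image (fun n => n * d * n⁻¹) ⊆
      Finset.univ.filter (fun x : G => x ∈ D ∧ x ≠ 1) := by
    intro a ha
    obtain ⟨n, hn, rfl⟩ := Finset.mem_image.1 ha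
    have hnN : n ∈ N := (Finset.mem_filter.1 hn).2
    exact Finset.mem_filter.2 ⟨Finset.mem_univ _, hnorm n hnN d hd,
      fun h => hd1 (conj_eq_one_iff.1 h)⟩
  have hfib2 : ∀ a ∈ (Finset.univ.filter (fun x : G => x ∈ N)).image (fun n => n * d * n⁻¹),
      ((Finset.univ.filter (fun x : G => x ∈ N)).filter (fun n => n * d * n⁻¹ = a)).card
        ≤ 54 := by
    intro a ha
    obtain ⟨n₀, hn₀, rfl⟩ := Finset.mem_image.1 ha
    have hn₀N : n₀ ∈ N := (Finset.mem_filter.1 hn₀).2
    have hsub : (Finset.univ.filter (fun x : G => x ∈ N)).filter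
        (fun n => n * d * n⁻¹ = n₀ * d * n₀⁻¹) ⊆
        ((Finset.univ.filter (fun x : G => x ∈ N)).filter (fun n => n * d = d * n)).image
          (fun x => n₀ * x) := by
      intro n hn
      rw [Finset.mem_filter] at hn
      have hnN : n ∈ N := (Finset.mem_filter.1 hn.1).2
      refine Finset.mem_image.2 ⟨n₀⁻¹ * n, ?_, by group⟩
      refine Finset.mem_filter.2 ⟨Finset.mem_filter.2 ⟨Finset.mem_univ _,
        N.mul_mem (N.inv_mem hn₀N) hnN⟩, ?_⟩
      calc n₀⁻¹ * n * d = n₀⁻¹ * (n * d * n⁻¹) * n := by group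
        _ = n₀⁻¹ * (n₀ * d * n₀⁻¹) * n := by rw [hn.2]
        _ = d * (n₀⁻¹ * n) := by group
    calc _ ≤ (((Finset.univ.filter (fun x : G => x ∈ N)).filter (fun n => n * d = d * n)).image
          (fun x => n₀ * x)).card := Finset.card_le_card hsub
      _ ≤ ((Finset.univ.filter (fun x : G => x ∈ N)).filter (fun n => n * d = d * n)).card :=
          Finset.card_image_le
      _ ≤ 54 := hC
  have h432 := Finset.card_le_mul_card_image (Finset.univ.filter (fun x : G => x ∈ N)) 54 hfib2
  have h8 : 8 ≤ ((Finset.univ.filter (fun x : G => x ∈ N)).image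
      (fun n => n * d * n⁻¹)).card := by
    rw [hNf] at h432
    omega
  have heq : (Finset.univ.filter (fun x : G => x ∈ N)).image (fun n => n * d * n⁻¹) =
      Finset.univ.filter (fun x : G => x ∈ D ∧ x ≠ 1) :=
    Finset.eq_of_subset_of_card_le himg2 (by rw [hDne]; exact h8)
  have hmem : d' ∈ (Finset.univ.filter (fun x : G => x ∈ N)).image (fun n => n * d * n⁻¹) := by
    rw [heq]
    exact Finset.mem_filter.2 ⟨Finset.mem_univ _, hd', hd'1⟩
  obtain ⟨n, hn, hnd⟩ := Finset.mem_image.1 hmem
  exact ⟨n, (Finset.mem_filter.1 hn).2, hnd⟩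

end Cfsg.Agent.Lib.Helper2.Pl3
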