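import Mathlib
import Cfsg.Agent.Lib.Helper2.Pl3S
import Cfsg.Agent.Lib.Helper4.SLCard
import Cfsg.Agent.Lib.Helper4.SLCenter

set_option autoImplicit false
set_option linter.style.haveILetI false

/-! `SL(3,3)` acts faithfully on the plane of order 3 on `Fin 13`; hence
`PSL(3,3) ≃* SL(3,3) ≃* Astd`. -/

namespace Cfsg.Agent.Lib.Helper2.Pl3

open Matrix

/-- representative vectors of the 13 points. -/
def rep : Fin 13 → Fin 3 → ZMod 3 :=
  ![![1, 0, 0], ![0, 1, 0], ![1, 1, 0], ![2, 1, 0], ![0, 0, 1], ![1, 0, 1], ![2, 0, 1],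
    ![0, 1, 1], ![1, 1, 1], ![2, 1, 1], ![0, 1, 2], ![1, 1, 2], ![2, 1, 2]]

/-- the point spanned by a nonzero vector. -/
def nrm (v : Fin 3 → ZMod 3) : Fin 13 :=
  ((List.finRange 13).find? (fun p => decide (rep p = v ∨ rep p = -v))).getD 0

theorem nrm_rep : ∀ p : Fin 13, nrm (rep p) = p := by decide +kernel

theorem rep_nrm : ∀ v : Fin 3 → ZMod 3, v ≠ 0 → rep (nrm v) = v ∨ rep (nrm v) = -v := by
  decide +kernel

theorem nrm_neg : ∀ v : Fin 3 → ZMod 3, nrm (-v) = nrm v := by decide +kernel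

theorem rep_ne_zero : ∀ p : Fin 13, rep p ≠ 0 := by decide +kernel

theorem masks_covector : ∀ m ∈ masks, ∃ a : Fin 3 → ZMod 3, a ≠ 0 ∧
    ∀ p : Fin 13, m.testBit p.val = true ↔ a ⬝ᵥ rep p = 0 := by decide +kernel

theorem covector_masks : ∀ a : Fin 3 → ZMod 3, a ≠ 0 → ∃ m ∈ masks,
    ∀ p : Fin 13, m.testBit p.val = true ↔ a ⬝ᵥ rep p = 0 := by decide +kernel

/-- `SL(3,3)`. -/
abbrev SL3 : Type := Matrix.SpecialLinearGroup (Fin 3) (ZMod 3)

/-- the action on points. -/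
def actS (M : SL3) (p : Fin 13) : Fin 13 :=
  nrm ((M : Matrix (Fin 3) (Fin 3) (ZMod 3)) *ᵥ rep p)

theorem inv_mulVec_mulVec (M : SL3) (v : Fin 3 → ZMod 3) :
    ((M⁻¹ : SL3) : Matrix (Fin 3) (Fin 3) (ZMod 3)) *ᵥ
      ((M : Matrix (Fin 3) (Fin 3) (ZMod 3)) *ᵥ v) = v := by
  rw [Matrix.mulVec_mulVec, ← Matrix.SpecialLinearGroup.coe_mul, inv_mul_cancel,
    Matrix.SpecialLinearGroup.coe_one, Matrix.one_mulVec]

theorem vecMul_inv_vecMul (M : SL3) (a : Fin 3 → ZMod 3) :
    (a ᵥ* ((M⁻¹ : SL3) : Matrix (Fin 3) (Fin 3) (ZMod 3))) ᵥ*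
      (M : Matrix (Fin 3) (Fin 3) (ZMod 3)) = a := by
  rw [Matrix.vecMul_vecMul, ← Matrix.SpecialLinearGroup.coe_mul, inv_mul_cancel,
    Matrix.SpecialLinearGroup.coe_one, Matrix.vecMul_one]

theorem mulVec_ne_zero (M : SL3) {v : Fin 3 → ZMod 3} (hv : v ≠ 0) :
    (M : Matrix (Fin 3) (Fin 3) (ZMod 3)) *ᵥ v ≠ 0 := by
  intro h
  apply hv
  rw [← inv_mulVec_mulVec M v, h, Matrix.mulVec_zero]

theorem actS_one (p : Fin 13) : actS 1 p = p := by
  rw [actS, Matrix.SpecialLinearGroup.coe_one, Matrix.one_mulVec, nrm_rep]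

theorem rep_actS (M : SL3) (p : Fin 13) :
    rep (actS M p) = (M : Matrix (Fin 3) (Fin 3) (ZMod 3)) *ᵥ rep p ∨
      rep (actS M p) = -((M : Matrix (Fin 3) (Fin 3) (ZMod 3)) *ᵥ rep p) :=
  rep_nrm _ (mulVec_ne_zero M (rep_ne_zero p))

theorem actS_mul (M N : SL3) (p : Fin 13) : actS (M * N) p = actS M (actS N p) := by
  have h1 : actS (M * N) p = nrm ((M : Matrix (Fin 3) (Fin 3) (ZMod 3)) *ᵥ
      ((N : Matrix (Fin 3) (Fin 3) (ZMod 3)) *ᵥ rep p)) := by
    rw [actS, Matrix.SpecialLinearGroup.coe_mul, Matrix.mulVec_mulVec]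
  have h2 : actS M (actS N p) =
      nrm ((M : Matrix (Fin 3) (Fin 3) (ZMod 3)) *ᵥ rep (actS N p)) := rfl
  rw [h1, h2]
  rcases rep_actS N p with h | h
  · rw [h]
  · rw [h, Matrix.mulVec_neg, nrm_neg]

/-- the permutation representation. -/
def rho : SL3 →* Equiv.Perm (Fin 13) where
  toFun M :=
    { toFun := actS M
      invFun := actS M⁻¹
      left_inv := fun p => by rw [← actS_mul, inv_mul_cancel, actS_one]
      right_inv := fun p => by rw [← actS_mul, mul_inv_cancel, actS_one] }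
  map_one' := by
    ext p
    simp [actS_one]
  map_mul' M N := by
    ext p
    simp [actS_mul]

theorem rho_apply (M : SL3) (p : Fin 13) : rho M p = actS M p := rfl

theorem actS_injective (M : SL3) : Function.Injective (actS M) := (rho M).injective

theorem image_actS_mem (M : SL3) {ℓ : Finset (Fin 13)} (hℓ : ℓ ∈ Lstd) :
    ℓ.image (actS M) ∈ Lstd := by
  obtain ⟨m, hm, rfl⟩ := mem_Lstd.1 hℓ
  obtain ⟨a, ha, hma⟩ := masks_covector m hm
  have ha'0 : a ᵥ* ((M⁻¹ : SL3) : Matrix (Fin 3) (Fin 3) (ZMod 3)) ≠ 0 := by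
    intro h
    apply ha
    rw [← vecMul_inv_vecMul M a, h, Matrix.zero_vecMul]
  obtain ⟨m', hm', hm'a⟩ := covector_masks _ ha'0
  have hkey : (lineOf m).image (actS M) = lineOf m' := by
    apply Finset.eq_of_subset_of_card_le
    · intro q hq
      obtain ⟨p, hp, rfl⟩ := Finset.mem_image.1 hq
      rw [mem_lineOf, hm'a]
      have hp0 : a ⬝ᵥ rep p = 0 := (hma p).1 (mem_lineOf.1 hp)
      have key : (a ᵥ* ((M⁻¹ : SL3) : Matrix (Fin 3) (Fin 3) (ZMod 3))) ⬝ᵥ
          ((M : Matrix (Fin 3) (Fin 3) (ZMod 3)) *ᵥ rep p) = 0 := by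
        rw [Matrix.dotProduct_mulVec, vecMul_inv_vecMul, hp0]
      rcases rep_actS M p with h | h
      · rw [h, key]
      · rw [h, dotProduct_neg, key, neg_zero]
    · rw [Finset.card_image_of_injective _ (actS_injective M), masks_card m hm,
        masks_card m' hm']
  rw [hkey]
  exact lineOf_mem hm'

theorem rho_mem (M : SL3) : rho M ∈ Astd := by
  rw [mem_Astd]
  intro ℓ
  constructor
  · intro h
    exact image_actS_mem M h
  · intro h
    have h2 := image_actS_mem M⁻¹ h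
    have h3 : (ℓ.image ⇑(rho M)).image (actS M⁻¹) = ℓ := by
      rw [Finset.image_image]
      have : actS M⁻¹ ∘ ⇑(rho M) = id := by
        ext p
        simp only [Function.comp_apply, rho_apply, id]
        rw [← actS_mul, inv_mul_cancel, actS_one]
      rw [this, Finset.image_id]
    rwa [h3] at h2

theorem eq_one_of_fix (A : Matrix (Fin 3) (Fin 3) (ZMod 3)) (hdet : A.det = 1)
    (h0 : A *ᵥ rep 0 = rep 0 ∨ A *ᵥ rep 0 = -rep 0)
    (h1 : A *ᵥ rep 1 = rep 1 ∨ A *ᵥ rep 1 = -rep 1)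
    (h4 : A *ᵥ rep 4 = rep 4 ∨ A *ᵥ rep 4 = -rep 4)
    (h8 : A *ᵥ rep 8 = rep 8 ∨ A *ᵥ rep 8 = -rep 8) : A = 1 := by
  have c0 : (A 0 0 = 1 ∨ A 0 0 = -1) ∧ A 1 0 = 0 ∧ A 2 0 = 0 := by
    rcases h0 with h | h
    · have a := congrFun h 0
      have b := congrFun h 1
      have c := congrFun h 2
      simp [rep, Matrix.mulVec, dotProduct, Fin.sum_univ_three] at a b c
      exact ⟨Or.inl a, b, c⟩
    · have a := congrFun h 0
      have b := congrFun h 1
      have c := congrFun h 2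
      simp [rep, Matrix.mulVec, dotProduct, Fin.sum_univ_three] at a b c
      exact ⟨Or.inr a, b, c⟩
  have c1 : A 0 1 = 0 ∧ (A 1 1 = 1 ∨ A 1 1 = -1) ∧ A 2 1 = 0 := by
    rcases h1 with h | h
    · have a := congrFun h 0
      have b := congrFun h 1
      have c := congrFun h 2
      simp [rep, Matrix.mulVec, dotProduct, Fin.sum_univ_three] at a b c
      exact ⟨a, Or.inl b, c⟩
    · have a := congrFun h 0
      have b := congrFun h 1
      have c := congrFun h 2
      simp [rep, Matrix.mulVec, dotProduct, Fin.sum_univ_three] at a b c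
      exact ⟨a, Or.inr b, c⟩
  have c2 : A 0 2 = 0 ∧ A 1 2 = 0 ∧ (A 2 2 = 1 ∨ A 2 2 = -1) := by
    rcases h4 with h | h
    · have a := congrFun h 0
      have b := congrFun h 1
      have c := congrFun h 2
      simp [rep, Matrix.mulVec, dotProduct, Fin.sum_univ_three] at a b c
      exact ⟨a, b, Or.inl c⟩
    · have a := congrFun h 0
      have b := congrFun h 1
      have c := congrFun h 2
      simp [rep, Matrix.mulVec, dotProduct, Fin.sum_univ_three] at a b c
      exact ⟨a, b, Or.inr c⟩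
  obtain ⟨c00, c10, c20⟩ := c0
  obtain ⟨c01, c11, c21⟩ := c1
  obtain ⟨c02, c12, c22⟩ := c2
  have c8 : (A 0 0 = 1 ∧ A 1 1 = 1 ∧ A 2 2 = 1) ∨ (A 0 0 = -1 ∧ A 1 1 = -1 ∧ A 2 2 = -1) := by
    rcases h8 with h | h
    · have a := congrFun h 0
      have b := congrFun h 1
      have c := congrFun h 2
      simp [rep, Matrix.mulVec, dotProduct, Fin.sum_univ_three, c10, c20, c01, c21, c02, c12] at a b c
      exact Or.inl ⟨a, b, c⟩
    · have a := congrFun h 0
      have b := congrFun h 1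
      have c := congrFun h 2
      simp [rep, Matrix.mulVec, dotProduct, Fin.sum_univ_three, c10, c20, c01, c21, c02, c12] at a b c
      exact Or.inr ⟨a, b, c⟩
  rw [Matrix.det_fin_three] at hdet
  rcases c8 with ⟨a, b, c⟩ | ⟨a, b, c⟩
  · ext i j
    fin_cases i <;> fin_cases j <;> simp [a, b, c, c10, c20, c01, c21, c02, c12]
  · exfalso
    rw [a, b, c, c10, c20, c01, c21, c02, c12] at hdet
    revert hdet
    decide

theorem rho_injective : Function.Injective rho := by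
  rw [injective_iff_map_eq_one]
  intro M hM
  have hfix : ∀ p, actS M p = p := fun p => by rw [← rho_apply, hM]; rfl
  have hrep : ∀ p, (M : Matrix (Fin 3) (Fin 3) (ZMod 3)) *ᵥ rep p = rep p ∨
      (M : Matrix (Fin 3) (Fin 3) (ZMod 3)) *ᵥ rep p = - rep p := by
    intro p
    rcases rep_actS M p with h | h
    · left
      rw [← h, hfix]
    · right
      rw [hfix] at h
      exact neg_eq_iff_eq_neg.1 h.symm
  have hdet : (M : Matrix (Fin 3) (Fin 3) (ZMod 3)).det = 1 := M.2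
  exact Subtype.ext (eq_one_of_fix _ hdet (hrep 0) (hrep 1) (hrep 4) (hrep 8))

theorem card_SL3 : Nat.card SL3 = 5616 := by
  have h := Cfsg.Agent.Lib.Helper4.card_SL_mul (F := ZMod 3) 3 (by norm_num)
  rw [Matrix.card_GL_field, ZMod.card, Fin.prod_univ_three] at h
  have e : (3 ^ 3 - 3 ^ ((0 : Fin 3) : ℕ)) * (3 ^ 3 - 3 ^ ((1 : Fin 3) : ℕ)) *
      (3 ^ 3 - 3 ^ ((2 : Fin 3) : ℕ)) = 11232 := by decide
  rw [e] at h
  change Nat.card (Matrix.SpecialLinearGroup (Fin 3) (ZMod 3)) = 5616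
  omega

theorem center_SL3 : Subgroup.center SL3 = ⊥ := by
  apply Subgroup.eq_bot_of_card_eq
  rw [Cfsg.Agent.Lib.Helper4.card_center_SL 3 (by norm_num), ZMod.card]
  rfl

/-- `SL(3,3) ≃* PSL(3,3)`: the centre is trivial. -/
noncomputable def sl3EquivPsl3 :
    SL3 ≃* Matrix.ProjectiveSpecialLinearGroup (Fin 3) (ZMod 3) :=
  MulEquiv.ofBijective (QuotientGroup.mk' (Subgroup.center SL3))
    ⟨by
      rw [← MonoidHom.ker_eq_bot_iff, QuotientGroup.ker_mk', center_SL3],
     QuotientGroup.mk'_surjective _⟩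

/-- the representation as a map into `Astd`. -/
def rhoA : SL3 →* Astd := rho.codRestrict Astd rho_mem

theorem rhoA_bijective : Function.Bijective rhoA := by
  have hinj : Function.Injective rhoA := by
    intro M N h
    apply rho_injective
    exact congrArg Subtype.val h
  haveI : Finite Astd := inferInstance
  refine hinj.bijective_of_nat_card_le ?_
  rw [card_SL3]
  exact card_Astd_le

/-- `Astd ≃* PSL(3,3)`. -/
theorem nonempty_Astd_equiv :
    Nonempty (Astd ≃* Matrix.ProjectiveSpecialLinearGroup (Fin 3) (ZMod 3)) :=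
  ⟨(MulEquiv.ofBijective rhoA rhoA_bijective).symm.trans sl3EquivPsl3⟩

end Cfsg.Agent.Lib.Helper2.Pl3
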