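import Mathlib
import Cfsg.Agent.Lib.Lead.BurnsidePrime
import Cfsg.Agent.Lib.Helper2.Pl3A
import Cfsg.Agent.Lib.Helper2.Pl3C
import Cfsg.Agent.Lib.Helper2.Pl3G
import Cfsg.Agent.Lib.Helper2.Pl3M

set_option autoImplicit false
set_option linter.style.haveILetI false

/-! A simple group of order 5616 with an elementary abelian self-centralizing subgroup `D` of
order 9 whose normalizer has order 432 is isomorphic to `PSL(3,3)`. -/

namespace Cfsg.Agent.Lib.Helper2.Pl3

theorem isLine_smul_iff {G : Type*} [Group G] [Fintype G] {Ω : Type*} [MulAction G Ω] [Fintype Ω]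
    [DecidableEq Ω] {D : Subgroup G} {ω₀ : Ω} (g : G) (ℓ : Finset Ω) :
    IsLine D ω₀ (ℓ.image (fun a => g • a)) ↔ IsLine D ω₀ ℓ := by
  constructor
  · intro h
    have h1 := h.smul g⁻¹
    rw [Finset.image_image] at h1
    have h2 : ((fun a : Ω => g⁻¹ • a) ∘ fun a => g • a) = id := by
      funext a
      simp
    rwa [h2, Finset.image_id] at h1
  · intro h
    exact h.smul g

theorem iso_psl33 {G : Type*} [Group G] [Finite G] [IsSimpleGroup G] (hG : Nat.card G = 5616)
    (D : Subgroup G) (hD : Nat.card D = 9) (hD3 : ∀ d ∈ D, d ^ 3 = 1)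
    (hCD : Subgroup.centralizer (D : Set G) = D)
    (hND : Nat.card (Subgroup.normalizer (D : Set G)) = 432) :
    Nonempty (G ≃* Matrix.ProjectiveSpecialLinearGroup (Fin 3) (ZMod 3)) := by
  classical
  haveI : Fintype G := Fintype.ofFinite G
  have hND' := hND
  obtain ⟨N, hNdef⟩ : ∃ N : Subgroup G, N = Subgroup.normalizer (D : Set G) := ⟨_, rfl⟩
  rw [← hNdef] at hND
  have hDN : D ≤ N := hNdef ▸ Subgroup.le_normalizer
  have hNnorm : ∀ g ∈ N, ∀ x ∈ D, g * x * g⁻¹ ∈ D := by
    intro g hg x hx
    rw [hNdef] at hg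
    exact (Subgroup.mem_normalizer_iff.1 hg x).1 hx
  letI : Fintype (G ⧸ N) := Fintype.ofFinite _
  have hcard : Fintype.card (G ⧸ N) = 13 := by
    have h1 := Subgroup.card_mul_index N
    rw [hND, hG] at h1
    have h2 : N.index = 13 := by omega
    rw [← Nat.card_eq_fintype_card]
    exact h2
  have hstab : ∀ g : G, g • ((1 : G) : G ⧸ N) = ((1 : G) : G ⧸ N) ↔ g ∈ N := by
    intro g
    rw [← MulAction.mem_stabilizer_iff, MulAction.stabilizer_quotient]
  have hperm : ∀ (g : G) (x : G ⧸ N), MulAction.toPermHom G (G ⧸ N) g x = g • x :=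
    fun g x => rfl
  -- `G` is not solvable
  have hns : ¬ Group.IsSolvable G := by
    intro hs
    have hcomm := IsSimpleGroup.comm_iff_isSolvable.2 hs
    have htop : N = ⊤ := by
      rw [hNdef, Subgroup.eq_top_iff']
      intro g
      rw [Subgroup.mem_normalizer_iff]
      intro h
      rw [hcomm g h, mul_inv_cancel_right]
    rw [htop, Subgroup.card_top, hG] at hND
    omega
  -- the action is faithful
  have hfaith : ∀ g : G, (∀ x : G ⧸ N, g • x = x) → g = 1 := by
    intro g hg
    have hker : g ∈ (MulAction.toPermHom G (G ⧸ N)).ker := by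
      rw [MonoidHom.mem_ker]
      ext x
      rw [hperm, hg x]
      rfl
    rcases (MonoidHom.normal_ker (MulAction.toPermHom G (G ⧸ N))).eq_bot_or_eq_top with h | h
    · rw [h, Subgroup.mem_bot] at hker
      exact hker
    · exfalso
      have htop : N = ⊤ := by
        rw [Subgroup.eq_top_iff']
        intro k
        rw [← hstab]
        have hk : k ∈ (MulAction.toPermHom G (G ⧸ N)).ker := by
          rw [h]
          trivial
        rw [MonoidHom.mem_ker] at hk
        rw [← hperm, hk]
        rfl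
      rw [htop, Subgroup.card_top, hG] at hND
      omega
  have hinjP : Function.Injective (MulAction.toPermHom G (G ⧸ N)) := by
    rw [injective_iff_map_eq_one]
    intro g hg
    apply hfaith
    intro x
    rw [← hperm, hg]
    rfl
  -- 2-transitivity by Burnside
  have htwo : ∀ a b c d : G ⧸ N, a ≠ b → c ≠ d → ∃ g : G, g • a = c ∧ g • b = d := by
    haveI : Fact (Nat.Prime 13) := ⟨by norm_num⟩
    haveI : MulAction.IsPretransitive (MulAction.toPermHom G (G ⧸ N)).range (G ⧸ N) := by
      constructor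
      intro x y
      obtain ⟨g, hg⟩ := MulAction.exists_smul_eq G x y
      exact ⟨⟨MulAction.toPermHom G (G ⧸ N) g, ⟨g, rfl⟩⟩, hg⟩
    rcases Cfsg.Agent.Lib.Lead.BurnsidePrime.affine_or_two_transitive hcard
      (MulAction.toPermHom G (G ⧸ N)).range with ⟨e, he⟩ | h2
    · exfalso
      haveI := Cfsg.Agent.Lib.Lead.BurnsidePrime.solvable_of_affine'
        (MulAction.toPermHom G (G ⧸ N)).range e he
      have hinj : Function.Injective (MulAction.toPermHom G (G ⧸ N)).rangeRestrict := by
        rw [MonoidHom.rangeRestrict_injective_iff]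
        exact hinjP
      exact hns (Group.isSolvable_of_isSolvable_injective hinj)
    · rw [MulAction.is_two_pretransitive_iff] at h2
      intro a b c d hab hcd
      obtain ⟨⟨σ, ⟨g, rfl⟩⟩, h1, h2'⟩ := h2 hab hcd
      exact ⟨g, h1, h2'⟩
  have S : Setup (G := G) (Ω := G ⧸ N) D ((1 : G) : G ⧸ N) :=
    { card := hcard
      two := htwo
      faith := hfaith
      fixD := fun d hd => (hstab d).2 (hDN hd)
      normD := fun g hg d hd => hNnorm g ((hstab g).1 hg) d hd
      card9 := hD
      exp3 := hD3
      comm := comm_of_card9 D hD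
      trans := by
        intro d hd hd1 d' hd' hd'1
        obtain ⟨n, hn, hnd⟩ := conj_trans D hD hD3 hCD hND' hd hd1 hd' hd'1
        rw [← hNdef] at hn
        exact ⟨n, (hstab n).2 hn, hnd⟩ }
  obtain ⟨Φ, hΦ⟩ := exists_coords S
  -- the permutation representation on `Fin 13`
  let ρ : G →* Equiv.Perm (Fin 13) :=
    (Φ.symm.permCongrHom : Equiv.Perm (G ⧸ N) ≃* Equiv.Perm (Fin 13)).toMonoidHom.comp
      (MulAction.toPermHom G (G ⧸ N))
  have hρ : ∀ (g : G) (p : Fin 13), Φ (ρ g p) = g • Φ p := by
    intro g p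
    show Φ (Φ.symm.permCongr (MulAction.toPermHom G (G ⧸ N) g) p) = g • Φ p
    rw [Equiv.permCongr_apply, Equiv.symm_symm, Equiv.apply_symm_apply, hperm]
  have hρinj : Function.Injective ρ := by
    rw [injective_iff_map_eq_one]
    intro g hg
    apply hfaith
    intro x
    have h1 := hρ g (Φ.symm x)
    rw [hg, Equiv.Perm.one_apply, Equiv.apply_symm_apply] at h1
    exact h1.symm
  have hρmem : ∀ g, ρ g ∈ Astd := by
    intro g
    rw [mem_Astd]
    intro ℓ
    have h1 : (ℓ.image (ρ g)).image Φ = (ℓ.image Φ).image (fun a => g • a) := by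
      rw [Finset.image_image, Finset.image_image]
      congr 1
      funext p
      exact hρ g p
    rw [hΦ ℓ, hΦ (ℓ.image (ρ g)), h1, isLine_smul_iff]
  have hbij : Function.Bijective (ρ.codRestrict Astd hρmem) := by
    have hinj : Function.Injective (ρ.codRestrict Astd hρmem) := by
      intro g h hgh
      apply hρinj
      exact congrArg Subtype.val hgh
    haveI : Finite Astd := inferInstance
    refine hinj.bijective_of_nat_card_le ?_
    rw [hG]
    exact card_Astd_le
  obtain ⟨ψ⟩ := nonempty_Astd_equiv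
  exact ⟨(MulEquiv.ofBijective (ρ.codRestrict Astd hρmem) hbij).trans ψ⟩

end Cfsg.Agent.Lib.Helper2.Pl3
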