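import Cfsg.Agent.Lib.Helper9.Steiner1
import Cfsg.Agent.Lib.Helper9.Steiner5

set_option autoImplicit false
set_option linter.unusedSectionVars false
set_option linter.unusedVariables false

/-! Projective planes of order 4 as Steiner systems S(2,5,21): basic incidence facts, arcs,
the two points off the secants of a 4-arc, existence of hyperovals. -/

namespace Cfsg.Agent.Lib.Helper2.Plane4

open Finset

variable {α : Type*} [Fintype α] [DecidableEq α]

structure IsPlane4 (L : Finset (Finset α)) : Prop where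
  card : Fintype.card α = 21
  size : ∀ l ∈ L, l.card = 5
  ex : ∀ a b : α, a ≠ b → ∃ l ∈ L, a ∈ l ∧ b ∈ l
  uniq : ∀ l ∈ L, ∀ m ∈ L, ∀ a b : α, a ≠ b → a ∈ l → b ∈ l → a ∈ m → b ∈ m → l = m
  thru : ∀ p : α, (L.filter (fun l => p ∈ l)).card = 5
  lines : L.card = 21

theorem IsPlane4.of_steiner (hα : Fintype.card α = 21) (L : Finset (Finset α))
    (hL : Cfsg.IsSteinerSystem 2 5 (L : Set (Finset α))) : IsPlane4 L := by
  have hL' := hL
  obtain ⟨hk, hu⟩ := hL
  refine ⟨hα, fun l hl => hk l (by exact_mod_cast hl), ?_, ?_, ?_, ?_⟩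
  · intro a b hab
    obtain ⟨l, ⟨hl, hs⟩, -⟩ := hu {a, b} (Finset.card_pair hab)
    exact ⟨l, by exact_mod_cast hl, hs (by simp), hs (by simp)⟩
  · intro l hl m hm a b hab hal hbl ham hbm
    obtain ⟨l0, -, h0⟩ := hu {a, b} (Finset.card_pair hab)
    have h1 : l = l0 := h0 l ⟨by exact_mod_cast hl, by
      intro x hx
      simp only [mem_insert, mem_singleton] at hx
      rcases hx with rfl | rfl <;> assumption⟩
    have h2 : m = l0 := h0 m ⟨by exact_mod_cast hm, by
      intro x hx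
      simp only [mem_insert, mem_singleton] at hx
      rcases hx with rfl | rfl <;> assumption⟩
    rw [h1, h2]
  · intro p
    have h := Cfsg.Agent.Lib.Helper9.Steiner1.card_blocks_through 2 5 L hL' {p} (by simp)
    simp only [Finset.card_singleton, hα, Finset.singleton_subset_iff] at h
    norm_num [Nat.choose] at h
    omega
  · have h := Cfsg.Agent.Lib.Helper9.Steiner1.card_blocks_through 2 5 L hL' ∅ (by simp)
    simp only [Finset.card_empty, hα, Finset.empty_subset, Finset.filter_true_of_mem,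
      implies_true] at h
    norm_num [Nat.choose] at h
    omega

/-- the line through two points. -/
noncomputable def ln (L : Finset (Finset α)) (a b : α) : Finset α :=
  if h : ∃ l ∈ L, a ∈ l ∧ b ∈ l then h.choose else ∅

section basic

variable {L : Finset (Finset α)} (hP : IsPlane4 L)
include hP

theorem ln_spec {a b : α} (hab : a ≠ b) : ln L a b ∈ L ∧ a ∈ ln L a b ∧ b ∈ ln L a b := by
  have h := hP.ex a b hab
  unfold ln
  rw [dif_pos h]
  exact h.choose_spec

theorem ln_mem {a b : α} (hab : a ≠ b) : ln L a b ∈ L := (ln_spec hP hab).1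

theorem left_mem_ln {a b : α} (hab : a ≠ b) : a ∈ ln L a b := (ln_spec hP hab).2.1

theorem right_mem_ln {a b : α} (hab : a ≠ b) : b ∈ ln L a b := (ln_spec hP hab).2.2

theorem ln_eq {a b : α} (hab : a ≠ b) {l : Finset α} (hl : l ∈ L) (ha : a ∈ l) (hb : b ∈ l) :
    ln L a b = l :=
  hP.uniq _ (ln_mem hP hab) _ hl a b hab (left_mem_ln hP hab) (right_mem_ln hP hab) ha hb

theorem ln_comm {a b : α} (hab : a ≠ b) : ln L a b = ln L b a :=
  ln_eq hP hab (ln_mem hP hab.symm) (right_mem_ln hP hab.symm) (left_mem_ln hP hab.symm)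

theorem eq_of_mem_two {l m : Finset α} (hl : l ∈ L) (hm : m ∈ L) (hlm : l ≠ m) {x y : α}
    (hxl : x ∈ l) (hxm : x ∈ m) (hyl : y ∈ l) (hym : y ∈ m) : x = y := by
  by_contra h
  exact hlm (hP.uniq l hl m hm x y h hxl hyl hxm hym)

theorem exists_mem_of_five (p : α) (Q : Finset α) (hQ : Q.card = 5) (hpQ : p ∉ Q)
    (hQ2 : ∀ l ∈ L, p ∈ l → ∀ q ∈ Q, ∀ q' ∈ Q, q ∈ l → q' ∈ l → q = q')
    {l : Finset α} (hl : l ∈ L) (hpl : p ∈ l) : ∃ q ∈ Q, q ∈ l := by
  have hne : ∀ q ∈ Q, p ≠ q := fun q hq h => hpQ (h ▸ hq)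
  have hsub : Q.image (fun q => ln L p q) ⊆ L.filter (fun k => p ∈ k) := by
    intro k hk
    obtain ⟨q, hq, rfl⟩ := mem_image.mp hk
    exact mem_filter.mpr ⟨ln_mem hP (hne q hq), left_mem_ln hP (hne q hq)⟩
  have hinj : Set.InjOn (fun q => ln L p q) (Q : Set α) := by
    intro q hq q' hq' h
    have h' : ln L p q = ln L p q' := h
    refine hQ2 _ (ln_mem hP (hne q hq)) (left_mem_ln hP (hne q hq)) q hq q' hq'
      (right_mem_ln hP (hne q hq)) ?_
    rw [h']
    exact right_mem_ln hP (hne q' hq')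
  have hcard : (Q.image (fun q => ln L p q)).card = 5 := by
    rw [card_image_of_injOn hinj, hQ]
  have heq := eq_of_subset_of_card_le hsub (by rw [hcard, hP.thru p])
  have hlmem : l ∈ Q.image (fun q => ln L p q) := by
    rw [heq]
    exact mem_filter.mpr ⟨hl, hpl⟩
  obtain ⟨q, hq, rfl⟩ := mem_image.mp hlmem
  exact ⟨q, hq, right_mem_ln hP (hne q hq)⟩

theorem exists_meet {l m : Finset α} (hl : l ∈ L) (hm : m ∈ L) : ∃ p, p ∈ l ∧ p ∈ m := by
  have hl5 := hP.size l hl
  obtain ⟨p, hp⟩ : l.Nonempty := Finset.card_pos.mp (by omega)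
  by_cases hpm : p ∈ m
  · exact ⟨p, hp, hpm⟩
  · obtain ⟨q, hq, hql⟩ := exists_mem_of_five hP p m (hP.size m hm) hpm (by
      intro l' hl' hpl' q hq q' hq' hql' hq'l'
      by_contra hne
      have : l' = m := hP.uniq l' hl' m hm q q' hne hql' hq'l' hq hq'
      exact hpm (this ▸ hpl')) hl hp
    exact ⟨q, hql, hq⟩

end basic

/-! ### arcs -/

def IsArc (L : Finset (Finset α)) (S : Finset α) : Prop := ∀ l ∈ L, (l ∩ S).card ≤ 2

theorem IsArc.three {L : Finset (Finset α)} {S : Finset α} (h : IsArc L S) {l : Finset α}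
    (hl : l ∈ L) {x y z : α} (hx : x ∈ S) (hy : y ∈ S) (hz : z ∈ S) (hxl : x ∈ l) (hyl : y ∈ l)
    (hzl : z ∈ l) : x = y ∨ x = z ∨ y = z := by
  by_contra hne
  push Not at hne
  have : 2 < (l ∩ S).card := Finset.two_lt_card.mpr
    ⟨x, mem_inter.mpr ⟨hxl, hx⟩, y, mem_inter.mpr ⟨hyl, hy⟩, z, mem_inter.mpr ⟨hzl, hz⟩,
      hne.1, hne.2.1, hne.2.2⟩
  have := h l hl
  omega

theorem isArc_of_three {L : Finset (Finset α)} {S : Finset α}
    (h : ∀ l ∈ L, ∀ x ∈ S, ∀ y ∈ S, ∀ z ∈ S, x ∈ l → y ∈ l → z ∈ l → x = y ∨ x = z ∨ y = z) :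
    IsArc L S := by
  intro l hl
  by_contra hc
  push Not at hc
  obtain ⟨x, hx, y, hy, z, hz, hxy, hxz, hyz⟩ := Finset.two_lt_card.mp hc
  simp only [Finset.mem_inter] at hx hy hz
  rcases h l hl x hx.2 y hy.2 z hz.2 hx.1 hy.1 hz.1 with h | h | h <;> contradiction

theorem IsArc.mono {L : Finset (Finset α)} {S S' : Finset α} (h : IsArc L S) (hS : S' ⊆ S) :
    IsArc L S' := fun l hl =>
  (card_le_card (inter_subset_inter (Subset.refl _) hS)).trans (h l hl)

theorem isArc_of_card_le_two {L : Finset (Finset α)} {S : Finset α} (h : S.card ≤ 2) :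
    IsArc L S := fun l _ => (card_le_card inter_subset_right).trans h

/-- `x` lies on no secant of `S`. -/
def offSec (L : Finset (Finset α)) (S : Finset α) (x : α) : Prop :=
  ∀ p ∈ S, ∀ q ∈ S, p ≠ q → x ∉ ln L p q

section arcs

variable {L : Finset (Finset α)} (hP : IsPlane4 L)
include hP

theorem offSec_notMem {S : Finset α} (hS : 2 ≤ S.card) {x : α} (hx : offSec L S x) : x ∉ S := by
  intro hxS
  obtain ⟨q, hq, hqx⟩ := Finset.exists_mem_ne (by omega : 1 < S.card) x
  exact hx x hxS q hq hqx.symm (left_mem_ln hP hqx.symm)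

theorem IsArc.insert {S : Finset α} (hS : IsArc L S) {x : α} (hx : offSec L S x) :
    IsArc L (insert x S) := by
  apply isArc_of_three
  intro l hl x1 h1 x2 h2 x3 h3 m1 m2 m3
  by_contra hne
  push Not at hne
  obtain ⟨h12, h13, h23⟩ := hne
  simp only [mem_insert] at h1 h2 h3
  have key : ∀ u v w, u = x → v ∈ S → w ∈ S → v ≠ w → v ∈ l → w ∈ l → u ∈ l → False := by
    intro u v w hu hv hw hvw hvl hwl hul
    have h := ln_eq hP hvw hl hvl hwl
    exact hx v hv w hw hvw (by rw [h, ← hu]; exact hul)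
  rcases h1 with h1 | h1 <;> rcases h2 with h2 | h2 <;> rcases h3 with h3 | h3
  · exact h12 (h1.trans h2.symm)
  · exact h12 (h1.trans h2.symm)
  · exact h13 (h1.trans h3.symm)
  · exact key x1 x2 x3 h1 h2 h3 h23 m2 m3 m1
  · exact h23 (h2.trans h3.symm)
  · exact key x2 x1 x3 h2 h1 h3 h13 m1 m3 m2
  · exact key x3 x1 x2 h3 h1 h2 h12 m1 m2 m3
  · rcases hS.three hl h1 h2 h3 m1 m2 m3 with h | h | h <;> contradiction

theorem offSec_of_isArc_insert {S : Finset α} {x : α} (hxS : x ∉ S) (h : IsArc L (insert x S)) :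
    offSec L S x := by
  intro p hp q hq hpq hx
  have hxp : x ≠ p := fun h' => hxS (h' ▸ hp)
  have hxq : x ≠ q := fun h' => hxS (h' ▸ hq)
  rcases h.three (ln_mem hP hpq) (mem_insert_self x S) (mem_insert_of_mem hp)
    (mem_insert_of_mem hq) hx (left_mem_ln hP hpq) (right_mem_ln hP hpq) with h' | h' | h'
  · exact hxp h'
  · exact hxq h'
  · exact hpq h'

theorem offSec_quad {a b c d : α} (hab : a ≠ b) (hac : a ≠ c) (had : a ≠ d) (hbc : b ≠ c)
    (hbd : b ≠ d) (hcd : c ≠ d) (x : α) :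
    offSec L {a, b, c, d} x ↔ (x ∉ ln L a b ∧ x ∉ ln L a c ∧ x ∉ ln L a d ∧ x ∉ ln L b c
      ∧ x ∉ ln L b d ∧ x ∉ ln L c d) := by
  constructor
  · intro h
    exact ⟨h a (by simp) b (by simp) hab, h a (by simp) c (by simp) hac,
      h a (by simp) d (by simp) had, h b (by simp) c (by simp) hbc,
      h b (by simp) d (by simp) hbd, h c (by simp) d (by simp) hcd⟩
  · rintro ⟨h1, h2, h3, h4, h5, h6⟩ p hp q hq hpq
    simp only [mem_insert, mem_singleton] at hp hq
    rcases hp with hp | hp | hp | hp <;> rcases hq with hq | hq | hq | hq <;> subst p <;> subst q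
    all_goals first
      | exact absurd rfl hpq
      | assumption
      | (rw [ln_comm hP hpq]; assumption)

theorem offSec_pair {a b : α} (hab : a ≠ b) (x : α) :
    offSec L {a, b} x ↔ x ∉ ln L a b := by
  constructor
  · intro h
    exact h a (by simp) b (by simp) hab
  · intro h1 p hp q hq hpq
    simp only [mem_insert, mem_singleton] at hp hq
    rcases hp with hp | hp <;> rcases hq with hq | hq <;> subst p <;> subst q
    all_goals first
      | exact absurd rfl hpq
      | assumption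
      | (rw [ln_comm hP hpq]; assumption)

theorem offSec_triple {a b c : α} (hab : a ≠ b) (hac : a ≠ c) (hbc : b ≠ c) (x : α) :
    offSec L {a, b, c} x ↔ (x ∉ ln L a b ∧ x ∉ ln L a c ∧ x ∉ ln L b c) := by
  constructor
  · intro h
    exact ⟨h a (by simp) b (by simp) hab, h a (by simp) c (by simp) hac,
      h b (by simp) c (by simp) hbc⟩
  · rintro ⟨h1, h2, h3⟩ p hp q hq hpq
    simp only [mem_insert, mem_singleton] at hp hq
    rcases hp with hp | hp | hp <;> rcases hq with hq | hq | hq <;> subst p <;> subst q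
    all_goals first
      | exact absurd rfl hpq
      | assumption
      | (rw [ln_comm hP hpq]; assumption)

/-- the two points off the secants of a quadrangle, seen from the vertex `a`. -/
theorem quad_vertex {a b c d : α} (hab : a ≠ b) (hac : a ≠ c) (had : a ≠ d) (hbc : b ≠ c)
    (hbd : b ≠ d) (hcd : c ≠ d) (harc : IsArc L {a, b, c, d}) :
    (∃ e f, e ≠ f ∧ ∀ x, offSec L {a, b, c, d} x ↔ x = e ∨ x = f) ∧
      ∀ e f, offSec L {a, b, c, d} e → offSec L {a, b, c, d} f → e ≠ f → a ∉ ln L e f := by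
  have haS : a ∈ ({a, b, c, d} : Finset α) := by simp
  have hbS : b ∈ ({a, b, c, d} : Finset α) := by simp
  have hcS : c ∈ ({a, b, c, d} : Finset α) := by simp
  have hdS : d ∈ ({a, b, c, d} : Finset α) := by simp
  have nm : ∀ x y z, x ∈ ({a, b, c, d} : Finset α) → y ∈ ({a, b, c, d} : Finset α) →
      z ∈ ({a, b, c, d} : Finset α) → x ≠ y → x ≠ z → y ≠ z → z ∉ ln L x y := by
    intro x y z hx hy hz hxy hxz hyz hzl
    rcases harc.three (ln_mem hP hxy) hx hy hz (left_mem_ln hP hxy) (right_mem_ln hP hxy) hzl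
      with h | h | h <;> contradiction
  have Lab := ln_mem hP hab
  have Lac := ln_mem hP hac
  have Lad := ln_mem hP had
  have Lbc := ln_mem hP hbc
  have Lbd := ln_mem hP hbd
  have Lcd := ln_mem hP hcd
  have c_ab : c ∉ ln L a b := nm a b c haS hbS hcS hab hac hbc
  have d_ab : d ∉ ln L a b := nm a b d haS hbS hdS hab had hbd
  have d_ac : d ∉ ln L a c := nm a c d haS hcS hdS hac had hcd
  have a_bc : a ∉ ln L b c := nm b c a hbS hcS haS hbc hab.symm hac.symm
  have a_bd : a ∉ ln L b d := nm b d a hbS hdS haS hbd hab.symm had.symm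
  have a_cd : a ∉ ln L c d := nm c d a hcS hdS haS hcd hac.symm had.symm
  have d_bc : d ∉ ln L b c := nm b c d hbS hcS hdS hbc hbd hcd
  have c_bd : c ∉ ln L b d := nm b d c hbS hdS hcS hbd hbc hcd.symm
  have ab_ac : ln L a b ≠ ln L a c := fun h => c_ab (h ▸ right_mem_ln hP hac)
  have ab_ad : ln L a b ≠ ln L a d := fun h => d_ab (h ▸ right_mem_ln hP had)
  have ac_ad : ln L a c ≠ ln L a d := fun h => d_ac (h ▸ right_mem_ln hP had)
  have bc_bd : ln L b c ≠ ln L b d := fun h => d_bc (h ▸ right_mem_ln hP hbd)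
  have bc_cd : ln L b c ≠ ln L c d := fun h => d_bc (h ▸ right_mem_ln hP hcd)
  have bd_cd : ln L b d ≠ ln L c d := fun h => c_bd (h ▸ left_mem_ln hP hcd)
  -- the two tangents at a
  have hT : ((((L.filter (fun l => a ∈ l)).erase (ln L a b)).erase (ln L a c)).erase
      (ln L a d)).card = 2 := by
    rw [card_erase_of_mem, card_erase_of_mem, card_erase_of_mem, hP.thru a]
    · exact mem_filter.mpr ⟨Lab, left_mem_ln hP hab⟩
    · exact mem_erase.mpr ⟨ab_ac.symm, mem_filter.mpr ⟨Lac, left_mem_ln hP hac⟩⟩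
    · exact mem_erase.mpr ⟨ac_ad.symm, mem_erase.mpr ⟨ab_ad.symm,
        mem_filter.mpr ⟨Lad, left_mem_ln hP had⟩⟩⟩
  obtain ⟨t1, t2, ht12, hT'⟩ := card_eq_two.mp hT
  have memT : ∀ t, t ∈ ({t1, t2} : Finset (Finset α)) ↔
      (t ≠ ln L a d ∧ t ≠ ln L a c ∧ t ≠ ln L a b ∧ t ∈ L ∧ a ∈ t) := by
    intro t
    rw [← hT']
    simp only [mem_erase, mem_filter]
  -- off6
  have off6 := offSec_quad hP hab hac had hbc hbd hcd
  -- tangent lemma
  have tang : ∀ t ∈ L, a ∈ t → t ≠ ln L a b → t ≠ ln L a c → t ≠ ln L a d →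
      ∃ e, e ∈ t ∧ offSec L {a, b, c, d} e ∧ ∀ x ∈ t, offSec L {a, b, c, d} x → x = e := by
    intro t ht hat nab nac nad
    have hbt : b ∉ t := fun h => nab (ln_eq hP hab ht hat h).symm
    have hct : c ∉ t := fun h => nac (ln_eq hP hac ht hat h).symm
    have hdt : d ∉ t := fun h => nad (ln_eq hP had ht hat h).symm
    obtain ⟨p1, hp1t, hp1⟩ := exists_meet hP ht Lbc
    obtain ⟨p2, hp2t, hp2⟩ := exists_meet hP ht Lbd
    obtain ⟨p3, hp3t, hp3⟩ := exists_meet hP ht Lcd
    have hap1 : a ≠ p1 := fun h => a_bc (h ▸ hp1)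
    have hap2 : a ≠ p2 := fun h => a_bd (h ▸ hp2)
    have hap3 : a ≠ p3 := fun h => a_cd (h ▸ hp3)
    have h12 : p1 ≠ p2 := by
      intro h
      have : p1 = b := eq_of_mem_two hP Lbc Lbd bc_bd hp1 (h ▸ hp2) (left_mem_ln hP hbc)
        (left_mem_ln hP hbd)
      exact hbt (this ▸ hp1t)
    have h13 : p1 ≠ p3 := by
      intro h
      have : p1 = c := eq_of_mem_two hP Lbc Lcd bc_cd hp1 (h ▸ hp3) (right_mem_ln hP hbc)
        (left_mem_ln hP hcd)
      exact hct (this ▸ hp1t)
    have h23 : p2 ≠ p3 := by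
      intro h
      have : p2 = d := eq_of_mem_two hP Lbd Lcd bd_cd hp2 (h ▸ hp3) (right_mem_ln hP hbd)
        (right_mem_ln hP hcd)
      exact hdt (this ▸ hp2t)
    have hK : ({a, p1, p2, p3} : Finset α).card = 4 := by
      rw [card_insert_of_notMem (by simp [hap1, hap2, hap3]),
        card_insert_of_notMem (by simp [h12, h13]), card_insert_of_notMem (by simp [h23]),
        card_singleton]
    have hKt : ({a, p1, p2, p3} : Finset α) ⊆ t := by
      intro y hy
      simp only [mem_insert, mem_singleton] at hy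
      rcases hy with rfl | rfl | rfl | rfl <;> assumption
    have hcard : (t \ {a, p1, p2, p3}).card = 1 := by
      rw [card_sdiff_of_subset hKt, hK, hP.size t ht]
    obtain ⟨e, he⟩ := card_eq_one.mp hcard
    have hoff : ∀ x ∈ t, x ≠ a → x ≠ p1 → x ≠ p2 → x ≠ p3 → offSec L {a, b, c, d} x := by
      intro x hxt hxa hx1 hx2 hx3
      rw [off6]
      refine ⟨?_, ?_, ?_, ?_, ?_, ?_⟩
      · exact fun hx => nab (hP.uniq t ht _ Lab x a hxa hxt hat hx (left_mem_ln hP hab))
      · exact fun hx => nac (hP.uniq t ht _ Lac x a hxa hxt hat hx (left_mem_ln hP hac))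
      · exact fun hx => nad (hP.uniq t ht _ Lad x a hxa hxt hat hx (left_mem_ln hP had))
      · intro hx
        have := hP.uniq t ht _ Lbc x p1 hx1 hxt hp1t hx hp1
        exact hbt (this ▸ left_mem_ln hP hbc)
      · intro hx
        have := hP.uniq t ht _ Lbd x p2 hx2 hxt hp2t hx hp2
        exact hbt (this ▸ left_mem_ln hP hbd)
      · intro hx
        have := hP.uniq t ht _ Lcd x p3 hx3 hxt hp3t hx hp3
        exact hct (this ▸ left_mem_ln hP hcd)
    have hconv : ∀ x, offSec L {a, b, c, d} x → x ≠ a ∧ x ≠ p1 ∧ x ≠ p2 ∧ x ≠ p3 := by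
      intro x hx
      rw [off6] at hx
      obtain ⟨x1, x2, x3, x4, x5, x6⟩ := hx
      refine ⟨?_, ?_, ?_, ?_⟩
      · rintro rfl
        exact x1 (left_mem_ln hP hab)
      · rintro rfl
        exact x4 hp1
      · rintro rfl
        exact x5 hp2
      · rintro rfl
        exact x6 hp3
    have hemem : e ∈ t \ {a, p1, p2, p3} := by rw [he]; exact mem_singleton_self e
    rw [mem_sdiff] at hemem
    obtain ⟨het, heK⟩ := hemem
    simp only [mem_insert, mem_singleton, not_or] at heK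
    refine ⟨e, het, hoff e het heK.1 heK.2.1 heK.2.2.1 heK.2.2.2, ?_⟩
    intro x hxt hx
    obtain ⟨y1, y2, y3, y4⟩ := hconv x hx
    have : x ∈ t \ {a, p1, p2, p3} := by
      rw [mem_sdiff]
      refine ⟨hxt, ?_⟩
      simp only [mem_insert, mem_singleton, not_or]
      exact ⟨y1, y2, y3, y4⟩
    rw [he] at this
    exact mem_singleton.mp this
  have ht1 := (memT t1).mp (by simp)
  have ht2 := (memT t2).mp (by simp)
  obtain ⟨e, het, heoff, heu⟩ := tang t1 ht1.2.2.2.1 ht1.2.2.2.2 ht1.2.2.1 ht1.2.1 ht1.1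
  obtain ⟨f, hft, hfoff, hfu⟩ := tang t2 ht2.2.2.2.1 ht2.2.2.2.2 ht2.2.2.1 ht2.2.1 ht2.1
  have hea : e ≠ a := by
    rintro rfl
    exact ((off6 e).mp heoff).1 (left_mem_ln hP hab)
  have hfa : f ≠ a := by
    rintro rfl
    exact ((off6 f).mp hfoff).1 (left_mem_ln hP hab)
  have hef : e ≠ f := by
    intro h
    exact ht12 (hP.uniq t1 ht1.2.2.2.1 t2 ht2.2.2.2.1 e a hea het ht1.2.2.2.2 (h ▸ hft)
      ht2.2.2.2.2)
  have hchar : ∀ x, offSec L {a, b, c, d} x ↔ x = e ∨ x = f := by
    intro x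
    constructor
    · intro hx
      have hx6 := (off6 x).mp hx
      have hxa : a ≠ x := by
        rintro rfl
        exact hx6.1 (left_mem_ln hP hab)
      have hm : ln L a x ∈ ({t1, t2} : Finset (Finset α)) := by
        rw [memT]
        refine ⟨?_, ?_, ?_, ln_mem hP hxa, left_mem_ln hP hxa⟩
        · intro h
          exact hx6.2.2.1 (h ▸ right_mem_ln hP hxa)
        · intro h
          exact hx6.2.1 (h ▸ right_mem_ln hP hxa)
        · intro h
          exact hx6.1 (h ▸ right_mem_ln hP hxa)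
      simp only [mem_insert, mem_singleton] at hm
      rcases hm with hm | hm
      · left
        exact heu x (hm ▸ right_mem_ln hP hxa) hx
      · right
        exact hfu x (hm ▸ right_mem_ln hP hxa) hx
    · rintro (rfl | rfl)
      · exact heoff
      · exact hfoff
  refine ⟨⟨e, f, hef, hchar⟩, ?_⟩
  have main : a ∉ ln L e f := by
    intro ha
    have h1 : ln L e f = t1 := hP.uniq _ (ln_mem hP hef) t1 ht1.2.2.2.1 e a hea
      (left_mem_ln hP hef) ha het ht1.2.2.2.2
    have h2 : ln L e f = t2 := hP.uniq _ (ln_mem hP hef) t2 ht2.2.2.2.1 f a hfa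
      (right_mem_ln hP hef) ha hft ht2.2.2.2.2
    exact ht12 (h1.symm.trans h2)
  intro e' f' he' hf' hne'
  rcases (hchar e').mp he' with h1 | h1 <;> rcases (hchar f').mp hf' with h2 | h2
  · exact absurd (h1.trans h2.symm) hne'
  · rw [h1, h2]; exact main
  · rw [h1, h2, ln_comm hP hef.symm]; exact main
  · exact absurd (h1.trans h2.symm) hne'

/-- set version, at any vertex `v` of a 4-arc `S`. -/
theorem four_arc_vertex {S : Finset α} (hS4 : S.card = 4) (hS : IsArc L S) {v : α} (hv : v ∈ S) :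
    (∃ e f, e ≠ f ∧ ∀ x, offSec L S x ↔ x = e ∨ x = f) ∧
      ∀ e f, offSec L S e → offSec L S f → e ≠ f → v ∉ ln L e f := by
  have h3 : (S.erase v).card = 3 := by rw [card_erase_of_mem hv, hS4]
  obtain ⟨b, c, d, hbc, hbd, hcd, hE⟩ := card_eq_three.mp h3
  have hSeq : S = {v, b, c, d} := by
    rw [← insert_erase hv, hE]
  have hb : b ∈ S.erase v := by rw [hE]; simp
  have hc : c ∈ S.erase v := by rw [hE]; simp
  have hd : d ∈ S.erase v := by rw [hE]; simp
  have hvb : v ≠ b := (mem_erase.mp hb).1.symm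
  have hvc : v ≠ c := (mem_erase.mp hc).1.symm
  have hvd : v ≠ d := (mem_erase.mp hd).1.symm
  subst hSeq
  exact quad_vertex hP hvb hvc hvd hbc hbd hcd hS

/-- a 4-arc lies in a hyperoval, unique. -/
theorem hyperoval_of_four {S : Finset α} (hS4 : S.card = 4) (hS : IsArc L S) :
    ∃ e f, e ≠ f ∧ e ∉ S ∧ f ∉ S ∧ (∀ x, offSec L S x ↔ x = e ∨ x = f) ∧
      IsArc L (insert f (insert e S)) := by
  obtain ⟨v, hv⟩ : S.Nonempty := Finset.card_pos.mp (by omega)
  obtain ⟨⟨e, f, hef, hchar⟩, -⟩ := four_arc_vertex hP hS4 hS hv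
  have heoff : offSec L S e := (hchar e).mpr (Or.inl rfl)
  have hfoff : offSec L S f := (hchar f).mpr (Or.inr rfl)
  refine ⟨e, f, hef, offSec_notMem hP (by omega) heoff, offSec_notMem hP (by omega) hfoff,
    hchar, ?_⟩
  apply IsArc.insert hP (IsArc.insert hP hS heoff)
  intro p hp q hq hpq hfl
  have key : ∀ w ∈ S, f ∈ ln L e w → False := by
    intro w hw hf
    have hew : e ≠ w := fun h => offSec_notMem hP (by omega) heoff (h ▸ hw)
    have h1 : ln L e w = ln L e f := (ln_eq hP hef (ln_mem hP hew) (left_mem_ln hP hew) hf).symm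
    exact (four_arc_vertex hP hS4 hS hw).2 e f heoff hfoff hef (h1 ▸ right_mem_ln hP hew)
  simp only [mem_insert] at hp hq
  rcases hp with hp | hp <;> rcases hq with hq | hq
  · exact hpq (hp.trans hq.symm)
  · subst hp
    exact key q hq hfl
  · subst hq
    rw [ln_comm hP hpq] at hfl
    exact key p hp hfl
  · exact hfoff p hp q hq hpq hfl

theorem hyperoval_unique {S : Finset α} (hS4 : S.card = 4) {e f : α} (hef : e ≠ f)
    (heS : e ∉ S) (hfS : f ∉ S)
    (hchar : ∀ x, offSec L S x ↔ x = e ∨ x = f) {H : Finset α} (hH6 : H.card = 6)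
    (hH : IsArc L H) (hSH : S ⊆ H) : H = insert f (insert e S) := by
  apply eq_of_subset_of_card_le
  · intro x hxH
    by_cases hxS : x ∈ S
    · exact mem_insert_of_mem (mem_insert_of_mem hxS)
    · have : offSec L S x :=
        offSec_of_isArc_insert hP hxS (hH.mono (insert_subset hxH hSH))
      rcases (hchar x).mp this with rfl | rfl
      · exact mem_insert_of_mem (mem_insert_self _ _)
      · exact mem_insert_self _ _
  · rw [card_insert_of_notMem, card_insert_of_notMem heS, hS4, hH6]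
    simp only [mem_insert, not_or]
    exact ⟨hef.symm, hfS⟩

theorem exists_four_arc : ∃ S : Finset α, S.card = 4 ∧ IsArc L S := by
  have h21 := hP.card
  obtain ⟨a, b, hab⟩ := Fintype.exists_pair_of_one_lt_card (α := α) (by omega)
  have hcu : (univ : Finset α).card = 21 := by rw [card_univ, h21]
  obtain ⟨c, -, hc⟩ := exists_mem_notMem_of_card_lt_card
    (s := ln L a b) (t := (univ : Finset α)) (by rw [hcu, hP.size _ (ln_mem hP hab)]; omega)
  have hac : a ≠ c := fun h => hc (h ▸ left_mem_ln hP hab)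
  have hbc : b ≠ c := fun h => hc (h ▸ right_mem_ln hP hab)
  have hlt : (ln L a b ∪ ln L a c ∪ ln L b c).card < (univ : Finset α).card := by
    have h1 := card_union_le (ln L a b ∪ ln L a c) (ln L b c)
    have h2 := card_union_le (ln L a b) (ln L a c)
    rw [hP.size _ (ln_mem hP hab), hP.size _ (ln_mem hP hac)] at h2
    rw [hP.size _ (ln_mem hP hbc)] at h1
    omega
  obtain ⟨d, -, hd⟩ := exists_mem_notMem_of_card_lt_card hlt
  simp only [mem_union, not_or] at hd
  obtain ⟨⟨hd1, hd2⟩, hd3⟩ := hd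
  have had : a ≠ d := fun h => hd1 (h ▸ left_mem_ln hP hab)
  have hbd : b ≠ d := fun h => hd1 (h ▸ right_mem_ln hP hab)
  have hcd : c ≠ d := fun h => hd2 (h ▸ right_mem_ln hP hac)
  have h2 : IsArc L ({a, b} : Finset α) := isArc_of_card_le_two (by rw [card_pair hab])
  have h3 : IsArc L ({c, a, b} : Finset α) :=
    IsArc.insert hP h2 ((offSec_pair hP hab c).mpr hc)
  have h3' : ({c, a, b} : Finset α) = {a, b, c} := by
    ext x; simp only [mem_insert, mem_singleton]; tauto
  rw [h3'] at h3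
  have h4 : IsArc L ({d, a, b, c} : Finset α) :=
    IsArc.insert hP h3 ((offSec_triple hP hab hac hbc d).mpr ⟨hd1, hd2, hd3⟩)
  refine ⟨{d, a, b, c}, ?_, h4⟩
  rw [card_insert_of_notMem (by simp [had.symm, hbd.symm, hcd.symm]),
    card_insert_of_notMem (by simp [hab, hac]), card_insert_of_notMem (by simp [hbc]),
    card_singleton]

theorem exists_hyperoval : ∃ H : Finset α, H.card = 6 ∧ IsArc L H := by
  obtain ⟨S, hS4, hS⟩ := exists_four_arc hP
  obtain ⟨e, f, hef, heS, hfS, hchar, hH⟩ := hyperoval_of_four hP hS4 hS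
  refine ⟨_, ?_, hH⟩
  rw [card_insert_of_notMem, card_insert_of_notMem heS, hS4]
  simp only [mem_insert, not_or]
  exact ⟨hef.symm, hfS⟩

end arcs

end Cfsg.Agent.Lib.Helper2.Plane4
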