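import Cfsg.Agent.Lib.Helper2.Plane4D

set_option autoImplicit false
set_option linter.unusedSectionVars false
set_option linter.unusedVariables false

/-! Baer subplanes of a plane of order 4, as 7-sets meeting every line in 1 or 3 points:
such a set is determined by any quadrangle it contains. -/

namespace Cfsg.Agent.Lib.Helper2.Plane4

open Finset

variable {α : Type*} [Fintype α] [DecidableEq α]

theorem triple_rot (a b c : α) : ({c, a, b} : Finset α) = {a, b, c} := by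
  ext x; simp only [mem_insert, mem_singleton]; tauto

section baer

variable {L : Finset (Finset α)} (hP : IsPlane4 L)
include hP

theorem IsArc.notMem_ln {Q : Finset α} (hQ : IsArc L Q) {x y z : α} (hx : x ∈ Q) (hy : y ∈ Q)
    (hz : z ∈ Q) (hxy : x ≠ y) (hxz : x ≠ z) (hyz : y ≠ z) : z ∉ ln L x y := by
  intro h
  rcases hQ.three (ln_mem hP hxy) hx hy hz (left_mem_ln hP hxy) (right_mem_ln hP hxy) h
    with h' | h' | h'
  · exact hxy h'
  · exact hxz h'
  · exact hyz h'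

/-- a 7-set meeting every line in at most 3 points contains a quadrangle. -/
theorem exists_four_arc_in {S : Finset α} (hS7 : S.card = 7)
    (hS3 : ∀ l ∈ L, (l ∩ S).card ≤ 3) : ∃ Q, Q ⊆ S ∧ Q.card = 4 ∧ IsArc L Q := by
  obtain ⟨a, ha, b, hb, hab⟩ := Finset.one_lt_card.mp (by omega : 1 < S.card)
  have Lab := ln_mem hP hab
  obtain ⟨c, hcS, hc⟩ := exists_mem_notMem_of_card_lt_card (s := ln L a b ∩ S) (t := S)
    (by have := hS3 _ Lab; omega)
  have hc' : c ∉ ln L a b := fun h => hc (mem_inter.mpr ⟨h, hcS⟩)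
  have hac : a ≠ c := fun h => hc' (by rw [← h]; exact left_mem_ln hP hab)
  have hbc : b ≠ c := fun h => hc' (by rw [← h]; exact right_mem_ln hP hab)
  have Lac := ln_mem hP hac
  have Lbc := ln_mem hP hbc
  have hlt : ((ln L a b ∩ S) ∪ (ln L a c ∩ S) ∪ (ln L b c ∩ S)).card < S.card := by
    have e1 := card_union_add_card_inter (ln L a b ∩ S) (ln L a c ∩ S)
    have e2 := card_union_add_card_inter ((ln L a b ∩ S) ∪ (ln L a c ∩ S)) (ln L b c ∩ S)
    have i1 : 1 ≤ ((ln L a b ∩ S) ∩ (ln L a c ∩ S)).card :=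
      card_pos.mpr ⟨a, mem_inter.mpr ⟨mem_inter.mpr ⟨left_mem_ln hP hab, ha⟩,
        mem_inter.mpr ⟨left_mem_ln hP hac, ha⟩⟩⟩
    have i2 : 2 ≤ (((ln L a b ∩ S) ∪ (ln L a c ∩ S)) ∩ (ln L b c ∩ S)).card := by
      have hsub : ({b, c} : Finset α)
          ⊆ ((ln L a b ∩ S) ∪ (ln L a c ∩ S)) ∩ (ln L b c ∩ S) := by
        intro x hx
        simp only [mem_insert, mem_singleton] at hx
        rcases hx with h | h <;> rw [h]
        · exact mem_inter.mpr ⟨mem_union_left _ (mem_inter.mpr ⟨right_mem_ln hP hab, hb⟩),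
            mem_inter.mpr ⟨left_mem_ln hP hbc, hb⟩⟩
        · exact mem_inter.mpr ⟨mem_union_right _ (mem_inter.mpr ⟨right_mem_ln hP hac, hcS⟩),
            mem_inter.mpr ⟨right_mem_ln hP hbc, hcS⟩⟩
      have := card_le_card hsub
      rwa [card_pair hbc] at this
    have b1 := hS3 _ Lab
    have b2 := hS3 _ Lac
    have b3 := hS3 _ Lbc
    omega
  obtain ⟨d, hdS, hd⟩ := exists_mem_notMem_of_card_lt_card hlt
  simp only [mem_union, mem_inter, not_or, not_and] at hd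
  have hd1 : d ∉ ln L a b := fun h => hd.1.1 h hdS
  have hd2 : d ∉ ln L a c := fun h => hd.1.2 h hdS
  have hd3 : d ∉ ln L b c := fun h => hd.2 h hdS
  have had : a ≠ d := fun h => hd1 (by rw [← h]; exact left_mem_ln hP hab)
  have hbd : b ≠ d := fun h => hd1 (by rw [← h]; exact right_mem_ln hP hab)
  have hcd : c ≠ d := fun h => hd2 (by rw [← h]; exact right_mem_ln hP hac)
  have h2 : IsArc L ({a, b} : Finset α) := isArc_of_card_le_two (by rw [card_pair hab])
  have h3 : IsArc L ({c, a, b} : Finset α) :=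
    IsArc.insert hP h2 ((offSec_pair hP hab c).mpr hc')
  rw [triple_rot a b c] at h3
  have h4 : IsArc L ({d, a, b, c} : Finset α) :=
    IsArc.insert hP h3 ((offSec_triple hP hab hac hbc d).mpr ⟨hd1, hd2, hd3⟩)
  refine ⟨{d, a, b, c}, ?_, ?_, h4⟩
  · intro x hx
    simp only [mem_insert, mem_singleton] at hx
    rcases hx with h | h | h | h <;> rw [h]
    · exact hdS
    · exact ha
    · exact hb
    · exact hcS
  · rw [card_insert_of_notMem (by simp [had.symm, hbd.symm, hcd.symm]),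
      card_insert_of_notMem (by simp [hab, hac]), card_insert_of_notMem (by simp [hbc]),
      card_singleton]

theorem card_three_of_two {S : Finset α}
    (hS : ∀ l ∈ L, (l ∩ S).card = 1 ∨ (l ∩ S).card = 3) {x y : α} (hx : x ∈ S) (hy : y ∈ S)
    (hxy : x ≠ y) : (ln L x y ∩ S).card = 3 := by
  rcases hS _ (ln_mem hP hxy) with h | h
  · have : 1 < (ln L x y ∩ S).card := one_lt_card.mpr
      ⟨x, mem_inter.mpr ⟨left_mem_ln hP hxy, hx⟩, y, mem_inter.mpr ⟨right_mem_ln hP hxy, hy⟩,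
        hxy⟩
    omega
  · exact h

theorem baer_cover {S : Finset α} (hS7 : S.card = 7)
    (hS : ∀ l ∈ L, (l ∩ S).card = 1 ∨ (l ∩ S).card = 3) {a b c d : α} (ha : a ∈ S)
    (hb : b ∈ S) (hc : c ∈ S) (hd : d ∈ S) (hab : a ≠ b) (hac : a ≠ c) (had : a ≠ d)
    (c_ab : c ∉ ln L a b) (d_ab : d ∉ ln L a b) (d_ac : d ∉ ln L a c) :
    (ln L a b ∩ S) ∪ (ln L a c ∩ S) ∪ (ln L a d ∩ S) = S := by
  have Lab := ln_mem hP hab
  have Lac := ln_mem hP hac
  have Lad := ln_mem hP had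
  have ab_ac : ln L a b ≠ ln L a c := fun h => c_ab (by rw [h]; exact right_mem_ln hP hac)
  have ab_ad : ln L a b ≠ ln L a d := fun h => d_ab (by rw [h]; exact right_mem_ln hP had)
  have ac_ad : ln L a c ≠ ln L a d := fun h => d_ac (by rw [h]; exact right_mem_ln hP had)
  have hi1 : (ln L a b ∩ S) ∩ (ln L a c ∩ S) = {a} := by
    ext x
    simp only [mem_inter, mem_singleton]
    constructor
    · rintro ⟨⟨h1, _⟩, h2, _⟩
      exact eq_of_mem_two hP Lab Lac ab_ac h1 h2 (left_mem_ln hP hab) (left_mem_ln hP hac)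
    · intro h
      rw [h]
      exact ⟨⟨left_mem_ln hP hab, ha⟩, left_mem_ln hP hac, ha⟩
  have hi2 : ((ln L a b ∩ S) ∪ (ln L a c ∩ S)) ∩ (ln L a d ∩ S) = {a} := by
    ext x
    simp only [mem_inter, mem_union, mem_singleton]
    constructor
    · rintro ⟨⟨h1, _⟩ | ⟨h1, _⟩, h2, _⟩
      · exact eq_of_mem_two hP Lab Lad ab_ad h1 h2 (left_mem_ln hP hab) (left_mem_ln hP had)
      · exact eq_of_mem_two hP Lac Lad ac_ad h1 h2 (left_mem_ln hP hac) (left_mem_ln hP had)
    · intro h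
      rw [h]
      exact ⟨Or.inl ⟨left_mem_ln hP hab, ha⟩, left_mem_ln hP had, ha⟩
  have e1 := card_union_add_card_inter (ln L a b ∩ S) (ln L a c ∩ S)
  have e2 := card_union_add_card_inter ((ln L a b ∩ S) ∪ (ln L a c ∩ S)) (ln L a d ∩ S)
  rw [hi1, card_singleton, card_three_of_two hP hS ha hb hab,
    card_three_of_two hP hS ha hc hac] at e1
  rw [hi2, card_singleton, card_three_of_two hP hS ha hd had] at e2
  apply eq_of_subset_of_card_le
  · intro x hx
    simp only [mem_union, mem_inter] at hx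
    rcases hx with (h | h) | h <;> exact h.2
  · omega

/-- a diagonal point of a quadrangle in a Baer set lies in the set. -/
theorem diag_mem {S : Finset α} (hS7 : S.card = 7)
    (hS : ∀ l ∈ L, (l ∩ S).card = 1 ∨ (l ∩ S).card = 3) {Q : Finset α} (hQ : IsArc L Q)
    (hQS : Q ⊆ S) {a b c d : α} (ha : a ∈ Q) (hb : b ∈ Q) (hc : c ∈ Q) (hd : d ∈ Q)
    (hab : a ≠ b) (hac : a ≠ c) (had : a ≠ d) (hbc : b ≠ c) (hbd : b ≠ d) (hcd : c ≠ d)
    {p : α} (hp1 : p ∈ ln L a b) (hp2 : p ∈ ln L c d) : p ∈ S := by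
  by_contra hpS
  have c_ab := IsArc.notMem_ln hP hQ ha hb hc hab hac hbc
  have d_ab := IsArc.notMem_ln hP hQ ha hb hd hab had hbd
  have d_ac := IsArc.notMem_ln hP hQ ha hc hd hac had hcd
  have c_ad := IsArc.notMem_ln hP hQ ha hd hc had hac hcd.symm
  have hcov := baer_cover hP hS7 hS (hQS ha) (hQS hb) (hQS hc) (hQS hd) hab hac had c_ab d_ab
    d_ac
  have h3 := card_three_of_two hP hS (hQS hc) (hQS hd) hcd
  obtain ⟨v, hv, hvn⟩ := exists_mem_notMem_of_card_lt_card (s := ({c, d} : Finset α))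
    (t := ln L c d ∩ S) (by rw [h3]; exact lt_of_le_of_lt card_le_two (by norm_num))
  rw [mem_inter] at hv
  simp only [mem_insert, mem_singleton, not_or] at hvn
  have hvS := hv.2
  rw [← hcov] at hvS
  simp only [mem_union, mem_inter] at hvS
  have Lab := ln_mem hP hab
  have Lac := ln_mem hP hac
  have Lad := ln_mem hP had
  have Lcd := ln_mem hP hcd
  rcases hvS with (⟨h, -⟩ | ⟨h, -⟩) | ⟨h, -⟩
  · have ab_cd : ln L a b ≠ ln L c d := fun h' => c_ab (by rw [h']; exact left_mem_ln hP hcd)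
    have : v = p := eq_of_mem_two hP Lab Lcd ab_cd h hv.1 hp1 hp2
    exact hpS (by rw [← this]; exact hv.2)
  · have ac_cd : ln L a c ≠ ln L c d := fun h' => d_ac (by rw [h']; exact right_mem_ln hP hcd)
    exact hvn.1 (eq_of_mem_two hP Lac Lcd ac_cd h hv.1 (right_mem_ln hP hac)
      (left_mem_ln hP hcd))
  · have ad_cd : ln L a d ≠ ln L c d := fun h' => c_ad (by rw [h']; exact left_mem_ln hP hcd)
    exact hvn.2 (eq_of_mem_two hP Lad Lcd ad_cd h hv.1 (right_mem_ln hP had)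
      (right_mem_ln hP hcd))

theorem line_inter {S : Finset α} (hS7 : S.card = 7)
    (hS : ∀ l ∈ L, (l ∩ S).card = 1 ∨ (l ∩ S).card = 3) {Q : Finset α} (hQ : IsArc L Q)
    (hQS : Q ⊆ S) {a b c d : α} (ha : a ∈ Q) (hb : b ∈ Q) (hc : c ∈ Q) (hd : d ∈ Q)
    (hab : a ≠ b) (hac : a ≠ c) (had : a ≠ d) (hbc : b ≠ c) (hbd : b ≠ d) (hcd : c ≠ d)
    {p : α} (hp1 : p ∈ ln L a b) (hp2 : p ∈ ln L c d) : ln L a b ∩ S = {a, b, p} := by
  have hpS := diag_mem hP hS7 hS hQ hQS ha hb hc hd hab hac had hbc hbd hcd hp1 hp2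
  have a_cd := IsArc.notMem_ln hP hQ hc hd ha hcd hac.symm had.symm
  have b_cd := IsArc.notMem_ln hP hQ hc hd hb hcd hbc.symm hbd.symm
  have hap : a ≠ p := fun h => a_cd (by rw [h]; exact hp2)
  have hbp : b ≠ p := fun h => b_cd (by rw [h]; exact hp2)
  symm
  apply eq_of_subset_of_card_le
  · intro x hx
    simp only [mem_insert, mem_singleton] at hx
    rcases hx with h | h | h <;> rw [h]
    · exact mem_inter.mpr ⟨left_mem_ln hP hab, hQS ha⟩
    · exact mem_inter.mpr ⟨right_mem_ln hP hab, hQS hb⟩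
    · exact mem_inter.mpr ⟨hp1, hpS⟩
  · rw [card_three_of_two hP hS (hQS ha) (hQS hb) hab,
      card_insert_of_notMem (by simp [hab, hap]), card_pair hbp]

/-- a Baer set is determined by a quadrangle in it. -/
theorem baer_unique {S S' : Finset α} (hS7 : S.card = 7) (hS'7 : S'.card = 7)
    (hS : ∀ l ∈ L, (l ∩ S).card = 1 ∨ (l ∩ S).card = 3)
    (hS' : ∀ l ∈ L, (l ∩ S').card = 1 ∨ (l ∩ S').card = 3) {Q : Finset α} (hQ4 : Q.card = 4)
    (hQ : IsArc L Q) (hQS : Q ⊆ S) (hQS' : Q ⊆ S') : S = S' := by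
  obtain ⟨a, haQ⟩ : Q.Nonempty := card_pos.mp (by omega)
  have h3 : (Q.erase a).card = 3 := by rw [card_erase_of_mem haQ, hQ4]
  obtain ⟨b, c, d, hbc, hbd, hcd, hE⟩ := card_eq_three.mp h3
  have hb' : b ∈ Q.erase a := by rw [hE]; simp
  have hc' : c ∈ Q.erase a := by rw [hE]; simp
  have hd' : d ∈ Q.erase a := by rw [hE]; simp
  have hbQ := mem_of_mem_erase hb'
  have hcQ := mem_of_mem_erase hc'
  have hdQ := mem_of_mem_erase hd'
  have hab : a ≠ b := (ne_of_mem_erase hb').symm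
  have hac : a ≠ c := (ne_of_mem_erase hc').symm
  have had : a ≠ d := (ne_of_mem_erase hd').symm
  obtain ⟨p1, hp1a, hp1b⟩ := exists_meet hP (ln_mem hP hab) (ln_mem hP hcd)
  obtain ⟨p2, hp2a, hp2b⟩ := exists_meet hP (ln_mem hP hac) (ln_mem hP hbd)
  obtain ⟨p3, hp3a, hp3b⟩ := exists_meet hP (ln_mem hP had) (ln_mem hP hbc)
  have c_ab := IsArc.notMem_ln hP hQ haQ hbQ hcQ hab hac hbc
  have d_ab := IsArc.notMem_ln hP hQ haQ hbQ hdQ hab had hbd
  have d_ac := IsArc.notMem_ln hP hQ haQ hcQ hdQ hac had hcd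
  have hcov := baer_cover hP hS7 hS (hQS haQ) (hQS hbQ) (hQS hcQ) (hQS hdQ) hab hac had c_ab
    d_ab d_ac
  have hcov' := baer_cover hP hS'7 hS' (hQS' haQ) (hQS' hbQ) (hQS' hcQ) (hQS' hdQ) hab hac had
    c_ab d_ab d_ac
  rw [← hcov, ← hcov',
    line_inter hP hS7 hS hQ hQS haQ hbQ hcQ hdQ hab hac had hbc hbd hcd hp1a hp1b,
    line_inter hP hS'7 hS' hQ hQS' haQ hbQ hcQ hdQ hab hac had hbc hbd hcd hp1a hp1b,
    line_inter hP hS7 hS hQ hQS haQ hcQ hbQ hdQ hac hab had hbc.symm hcd hbd hp2a hp2b,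
    line_inter hP hS'7 hS' hQ hQS' haQ hcQ hbQ hdQ hac hab had hbc.symm hcd hbd hp2a hp2b,
    line_inter hP hS7 hS hQ hQS haQ hdQ hbQ hcQ had hab hac hbd.symm hcd.symm hbc hp3a hp3b,
    line_inter hP hS'7 hS' hQ hQS' haQ hdQ hbQ hcQ had hab hac hbd.symm hcd.symm hbc hp3a hp3b]

end baer

end Cfsg.Agent.Lib.Helper2.Plane4
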