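import Mathlib

set_option autoImplicit false

/-! Combinatorial model of the projective plane of order 4 from a 6-set:
points = 6 symbols + 15 synthemes, lines = 15 duads + 6 totals. -/

namespace Cfsg.Agent.Lib.Helper2.Plane4

open Finset

/-- the 15 synthemes of a 6-set, as fixed-point-free involutions. -/
def syn : Fin 15 → Fin 6 → Fin 6 :=
  ![![1,0,3,2,5,4], ![1,0,4,5,2,3], ![1,0,5,4,3,2],
    ![2,3,0,1,5,4], ![2,4,0,5,1,3], ![2,5,0,4,3,1],
    ![3,2,1,0,5,4], ![3,4,5,0,1,2], ![3,5,4,0,2,1],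
    ![4,2,1,5,0,3], ![4,3,5,1,0,2], ![4,5,3,2,0,1],
    ![5,2,1,4,3,0], ![5,3,4,1,2,0], ![5,4,3,2,1,0]]

/-- the 6 synthematic totals. -/
def tot : Fin 6 → Finset (Fin 15) :=
  ![{0,4,8,10,12}, {0,5,7,9,13}, {1,3,7,11,12}, {1,5,6,10,14}, {2,3,8,9,14}, {2,4,6,11,13}]

/-- two synthemes share no duad. -/
def sdisj (s t : Fin 15) : Prop := ∀ a : Fin 6, syn s a ≠ syn t a

instance : DecidableRel sdisj := fun s t => by unfold sdisj; infer_instance

theorem syn_invol : ∀ t a, syn t (syn t a) = a := by decide +kernel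

theorem syn_ne : ∀ t a, syn t a ≠ a := by decide +kernel

theorem syn_inj : ∀ s t, (∀ a, syn s a = syn t a) → s = t := by decide +kernel

theorem syn_complete_aux : ∀ v0 : Fin 6, v0 ≠ 0 → ∀ v1 : Fin 6, v1 ≠ 1 → ∀ v2 : Fin 6, v2 ≠ 2 →
    ∀ v3 : Fin 6, v3 ≠ 3 → ∀ v4 : Fin 6, v4 ≠ 4 → ∀ v5 : Fin 6, v5 ≠ 5 →
    (∀ a, ![v0, v1, v2, v3, v4, v5] (![v0, v1, v2, v3, v4, v5] a) = a) →
    ∃ t : Fin 15, ∀ a, syn t a = ![v0, v1, v2, v3, v4, v5] a := by decide +kernel

theorem vec_eta (f : Fin 6 → Fin 6) : f = ![f 0, f 1, f 2, f 3, f 4, f 5] := by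
  funext a; fin_cases a <;> rfl

theorem syn_complete (f : Fin 6 → Fin 6) (h1 : ∀ a, f (f a) = a) (h2 : ∀ a, f a ≠ a) :
    ∃ t : Fin 15, ∀ a, syn t a = f a := by
  have h := syn_complete_aux (f 0) (h2 0) (f 1) (h2 1) (f 2) (h2 2) (f 3) (h2 3) (f 4) (h2 4)
    (f 5) (h2 5)
  rw [← vec_eta f] at h
  exact h h1

theorem tot_exists : ∀ i j, sdisj i j → ∃ t, i ∈ tot t ∧ j ∈ tot t := by decide +kernel

theorem tot_four : ∀ i j, sdisj i j → ∀ k, sdisj i k → sdisj j k → ∀ l, sdisj i l → sdisj j l →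
    sdisj k l → ∀ t, i ∈ tot t → j ∈ tot t → k ∈ tot t ∧ l ∈ tot t := by decide +kernel

theorem tot_card : ∀ t, (tot t).card = 5 := by decide +kernel

theorem exists_third : ∀ j : Fin 6, ∃ k : Fin 6, k ≠ 0 ∧ k ≠ j := by decide

/-- model points. -/
abbrev Pt := Fin 6 ⊕ Fin 15

def secLine (i j : Fin 6) : Finset Pt :=
  {Sum.inl i, Sum.inl j} ∪ (Finset.univ.filter (fun t : Fin 15 => syn t i = j)).image Sum.inr

def extLine (t : Fin 6) : Finset Pt := (tot t).image Sum.inr

def modelLines : Finset (Finset Pt) :=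
  (Finset.univ.filter (fun p : Fin 6 × Fin 6 => p.1 < p.2)).image (fun p => secLine p.1 p.2)
    ∪ Finset.univ.image extLine

theorem secLine_mem : ∀ i j : Fin 6, i ≠ j → secLine i j ∈ modelLines := by decide +kernel

theorem secLine_card : ∀ i j : Fin 6, i ≠ j → (secLine i j).card = 5 := by decide +kernel

theorem extLine_mem (t : Fin 6) : extLine t ∈ modelLines := by
  unfold modelLines
  exact mem_union_right _ (mem_image_of_mem _ (mem_univ _))

theorem extLine_card (t : Fin 6) : (extLine t).card = 5 := by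
  unfold extLine
  rw [card_image_of_injective _ Sum.inr_injective, tot_card]

theorem card_modelLines : modelLines.card ≤ 21 := by
  unfold modelLines
  refine (card_union_le _ _).trans ?_
  have h1 := card_image_le (s := univ.filter (fun p : Fin 6 × Fin 6 => p.1 < p.2))
    (f := fun p => secLine p.1 p.2)
  have h2 := card_image_le (s := (univ : Finset (Fin 6))) (f := extLine)
  have h3 : (univ.filter (fun p : Fin 6 × Fin 6 => p.1 < p.2)).card = 15 := by decide +kernel
  have h4 : (univ : Finset (Fin 6)).card = 6 := by simp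
  omega

end Cfsg.Agent.Lib.Helper2.Plane4
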