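import Cfsg.Agent.Lib.Helper2.Plane4A
import Cfsg.Agent.Lib.Helper2.Plane4M

set_option autoImplicit false
set_option linter.unusedSectionVars false
set_option linter.unusedVariables false

/-! Hyperoval coordinates on a projective plane of order 4: every plane with a labelled
hyperoval is isomorphic to the combinatorial model. -/

namespace Cfsg.Agent.Lib.Helper2.Plane4

open Finset

variable {α : Type*} [Fintype α] [DecidableEq α]

/-- a labelled hyperoval. -/
structure Frame (L : Finset (Finset α)) (lam : Fin 6 → α) : Prop where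
  inj : Function.Injective lam
  arc : ∀ l ∈ L, ∀ i j k : Fin 6, lam i ∈ l → lam j ∈ l → lam k ∈ l → i = j ∨ i = k ∨ j = k

theorem Frame.of_hyperoval {L : Finset (Finset α)} {H : Finset α} (hH : IsArc L H)
    (ε : Fin 6 ≃ ↥H) : Frame L (fun i => (ε i : α)) := by
  refine ⟨fun i j h => ε.injective (Subtype.ext h), ?_⟩
  intro l hl i j k hi hj hk
  rcases hH.three hl (ε i).2 (ε j).2 (ε k).2 hi hj hk with h | h | h
  · exact Or.inl (ε.injective (Subtype.ext h))
  · exact Or.inr (Or.inl (ε.injective (Subtype.ext h)))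
  · exact Or.inr (Or.inr (ε.injective (Subtype.ext h)))

/-- the mate of `i` seen from `x`. -/
noncomputable def mt (L : Finset (Finset α)) (lam : Fin 6 → α) (x : α) (i : Fin 6) : Fin 6 :=
  if h : ∃ j, j ≠ i ∧ lam j ∈ ln L x (lam i) then h.choose else i

/-- syntheme index of a point off the hyperoval. -/
noncomputable def idx (L : Finset (Finset α)) (lam : Fin 6 → α) (x : α) : Fin 15 :=
  if h : ∃ t, ∀ a, syn t a = mt L lam x a then h.choose else 0

/-- the coordinate map. -/
noncomputable def co (L : Finset (Finset α)) (lam : Fin 6 → α) (x : α) : Pt :=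
  if h : ∃ i, lam i = x then Sum.inl h.choose else Sum.inr (idx L lam x)

section frame

variable {L : Finset (Finset α)} (hP : IsPlane4 L) {lam : Fin 6 → α} (hF : Frame L lam)
include hP hF

theorem Frame.exists_other {l : Finset α} (hl : l ∈ L) {i : Fin 6} (hi : lam i ∈ l) :
    ∃ j, j ≠ i ∧ lam j ∈ l := by
  have h5 : ((univ.erase i).image lam).card = 5 := by
    rw [card_image_of_injective _ hF.inj, card_erase_of_mem (mem_univ _)]
    simp
  have hni : lam i ∉ (univ.erase i).image lam := by
    intro h
    obtain ⟨j, hj, hji⟩ := mem_image.mp h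
    exact (mem_erase.mp hj).1 (hF.inj hji)
  have h2 : ∀ l' ∈ L, lam i ∈ l' → ∀ q ∈ (univ.erase i).image lam,
      ∀ q' ∈ (univ.erase i).image lam, q ∈ l' → q' ∈ l' → q = q' := by
    intro l' hl' hil' q hq q' hq' hql' hq'l'
    obtain ⟨j, hj, rfl⟩ := mem_image.mp hq
    obtain ⟨j', hj', rfl⟩ := mem_image.mp hq'
    rcases hF.arc l' hl' i j j' hil' hql' hq'l' with h | h | h
    · exact absurd h.symm (mem_erase.mp hj).1
    · exact absurd h.symm (mem_erase.mp hj').1
    · rw [h]
  obtain ⟨q, hq, hql⟩ := exists_mem_of_five hP (lam i) ((univ.erase i).image lam) h5 hni h2 hl hi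
  obtain ⟨j, hj, rfl⟩ := mem_image.mp hq
  exact ⟨j, (mem_erase.mp hj).1, hql⟩

variable {x : α} (hx : ∀ i, lam i ≠ x)
include hx

theorem mt_spec (i : Fin 6) : mt L lam x i ≠ i ∧ lam (mt L lam x i) ∈ ln L x (lam i) := by
  have h : ∃ j, j ≠ i ∧ lam j ∈ ln L x (lam i) :=
    hF.exists_other hP (ln_mem hP (hx i).symm) (right_mem_ln hP (hx i).symm)
  unfold mt
  rw [dif_pos h]
  exact h.choose_spec

theorem mt_eq {i j : Fin 6} (hj : j ≠ i) (hm : lam j ∈ ln L x (lam i)) : mt L lam x i = j := by
  obtain ⟨h1, h2⟩ := mt_spec hP hF hx i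
  rcases hF.arc _ (ln_mem hP (hx i).symm) i (mt L lam x i) j (right_mem_ln hP (hx i).symm) h2 hm
    with h | h | h
  · exact absurd h.symm h1
  · exact absurd h.symm hj
  · exact h

theorem mt_invol (i : Fin 6) : mt L lam x (mt L lam x i) = i := by
  obtain ⟨h1, h2⟩ := mt_spec hP hF hx i
  apply mt_eq hP hF hx h1.symm
  have : ln L x (lam (mt L lam x i)) = ln L x (lam i) :=
    ln_eq hP (hx _).symm (ln_mem hP (hx i).symm) (left_mem_ln hP (hx i).symm) h2
  rw [this]
  exact right_mem_ln hP (hx i).symm

theorem lam_ne_mt (i : Fin 6) : lam i ≠ lam (mt L lam x i) :=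
  fun h => (mt_spec hP hF hx i).1 (hF.inj h).symm

theorem mem_sec (i : Fin 6) : x ∈ ln L (lam i) (lam (mt L lam x i)) := by
  obtain ⟨h1, h2⟩ := mt_spec hP hF hx i
  rw [ln_eq hP (lam_ne_mt hP hF hx i) (ln_mem hP (hx i).symm) (right_mem_ln hP (hx i).symm) h2]
  exact left_mem_ln hP (hx i).symm

theorem syn_idx (a : Fin 6) : syn (idx L lam x) a = mt L lam x a := by
  have h := syn_complete (mt L lam x) (fun a => mt_invol hP hF hx a)
    (fun a => (mt_spec hP hF hx a).1)
  unfold idx
  rw [dif_pos h]
  exact h.choose_spec a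

omit hx in
theorem idx_inj {x y : α} (hx : ∀ i, lam i ≠ x) (hy : ∀ i, lam i ≠ y)
    (h : idx L lam x = idx L lam y) : x = y := by
  have hm : ∀ a, mt L lam x a = mt L lam y a := fun a => by
    rw [← syn_idx hP hF hx, ← syn_idx hP hF hy, h]
  obtain ⟨k, hk0, hkj⟩ := exists_third (mt L lam x 0)
  by_contra hxy
  have h1x := mem_sec hP hF hx 0
  have h1y := mem_sec hP hF hy 0
  rw [← hm] at h1y
  have h2x := mem_sec hP hF hx k
  have h2y := mem_sec hP hF hy k
  rw [← hm] at h2y
  have hne0 := lam_ne_mt hP hF hx 0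
  have hnek := lam_ne_mt hP hF hx k
  have heq := hP.uniq _ (ln_mem hP hne0) _ (ln_mem hP hnek) x y hxy h1x h1y h2x h2y
  rcases hF.arc _ (ln_mem hP hne0) 0 (mt L lam x 0) k (left_mem_ln hP hne0)
    (right_mem_ln hP hne0) (by rw [heq]; exact left_mem_ln hP hnek) with h | h | h
  · exact (mt_spec hP hF hx 0).1 h.symm
  · exact hk0 h.symm
  · exact hkj h.symm

omit hP hx in
theorem co_lam (i : Fin 6) : co L lam (lam i) = Sum.inl i := by
  have h : ∃ j, lam j = lam i := ⟨i, rfl⟩
  unfold co
  rw [dif_pos h]
  congr 1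
  exact hF.inj h.choose_spec

omit hP hF in
theorem co_of_not : co L lam x = Sum.inr (idx L lam x) := by
  unfold co
  rw [dif_neg]
  push Not
  exact hx

omit hx in
theorem co_inj : Function.Injective (co L lam) := by
  intro x y h
  by_cases hx : ∃ i, lam i = x
  · obtain ⟨i, rfl⟩ := hx
    by_cases hy : ∃ j, lam j = y
    · obtain ⟨j, rfl⟩ := hy
      rw [co_lam hF, co_lam hF] at h
      rw [Sum.inl.inj h]
    · push Not at hy
      rw [co_lam hF, co_of_not hy] at h
      exact absurd h (by simp)
  · push Not at hx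
    by_cases hy : ∃ j, lam j = y
    · obtain ⟨j, rfl⟩ := hy
      rw [co_of_not hx, co_lam hF] at h
      exact absurd h (by simp)
    · push Not at hy
      rw [co_of_not hx, co_of_not hy] at h
      exact idx_inj hP hF hx hy (Sum.inr.inj h)

omit hx in
theorem co_bij : Function.Bijective (co L lam) :=
  (Fintype.bijective_iff_injective_and_card _).mpr ⟨co_inj hP hF, by rw [hP.card]; simp⟩

omit hx in
theorem image_line_mem {l : Finset α} (hl : l ∈ L) : l.image (co L lam) ∈ modelLines := by
  by_cases hH : ∃ i, lam i ∈ l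
  · obtain ⟨i, hi⟩ := hH
    obtain ⟨j, hji, hj⟩ := hF.exists_other hP hl hi
    have heq : l.image (co L lam) = secLine i j := by
      apply eq_of_subset_of_card_le
      · intro y hy
        obtain ⟨x, hxl, rfl⟩ := mem_image.mp hy
        by_cases hx : ∃ k, lam k = x
        · obtain ⟨k, rfl⟩ := hx
          rw [co_lam hF]
          rcases hF.arc l hl i j k hi hj hxl with h | h | h
          · exact absurd h.symm hji
          · subst h
            simp [secLine]
          · subst h
            simp [secLine]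
        · push Not at hx
          rw [co_of_not hx]
          have hm : mt L lam x i = j := mt_eq hP hF hx hji (by
            rw [ln_eq hP (hx i).symm hl hxl hi]
            exact hj)
          simp only [secLine, mem_union, mem_image, mem_filter, mem_univ, true_and]
          right
          exact ⟨idx L lam x, by rw [syn_idx hP hF hx, hm], rfl⟩
      · rw [card_image_of_injective _ (co_inj hP hF), hP.size l hl, secLine_card i j (Ne.symm hji)]
    rw [heq]
    exact secLine_mem i j (Ne.symm hji)
  · push Not at hH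
    have hnot : ∀ x ∈ l, ∀ k, lam k ≠ x := fun x hx k h => hH k (h ▸ hx)
    have hdisj : ∀ x ∈ l, ∀ y ∈ l, x ≠ y → sdisj (idx L lam x) (idx L lam y) := by
      intro x hx y hy hxy a heq
      rw [syn_idx hP hF (hnot x hx), syn_idx hP hF (hnot y hy)] at heq
      have h1 := mem_sec hP hF (hnot x hx) a
      have h2 := mem_sec hP hF (hnot y hy) a
      rw [← heq] at h2
      have hne := lam_ne_mt hP hF (hnot x hx) a
      have := hP.uniq _ (ln_mem hP hne) l hl x y hxy h1 h2 hx hy
      exact hH a (this ▸ left_mem_ln hP hne)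
    have hl5 := hP.size l hl
    obtain ⟨x1, hx1, x2, hx2, h12⟩ := Finset.one_lt_card.mp (by omega : 1 < l.card)
    obtain ⟨t, ht1, ht2⟩ := tot_exists _ _ (hdisj x1 hx1 x2 hx2 h12)
    have heq : l.image (co L lam) = extLine t := by
      apply eq_of_subset_of_card_le
      · intro y hy
        obtain ⟨x, hxl, rfl⟩ := mem_image.mp hy
        rw [co_of_not (hnot x hxl)]
        unfold extLine
        apply mem_image_of_mem
        by_cases hx1' : x = x1
        · rw [hx1']; exact ht1
        by_cases hx2' : x = x2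
        · rw [hx2']; exact ht2
        have hlt : ({x1, x2, x} : Finset α).card < l.card := by
          have := Finset.card_le_three (a := x1) (b := x2) (c := x)
          omega
        obtain ⟨z, hzl, hz⟩ := exists_mem_notMem_of_card_lt_card hlt
        simp only [mem_insert, mem_singleton, not_or] at hz
        exact (tot_four _ _ (hdisj x1 hx1 x2 hx2 h12) _ (hdisj x1 hx1 x hxl (Ne.symm hx1'))
          (hdisj x2 hx2 x hxl (Ne.symm hx2')) _ (hdisj x1 hx1 z hzl (Ne.symm hz.1))
          (hdisj x2 hx2 z hzl (Ne.symm hz.2.1)) (hdisj x hxl z hzl (Ne.symm hz.2.2)) t ht1 ht2).1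
      · rw [card_image_of_injective _ (co_inj hP hF), hl5, extLine_card]
    rw [heq]
    exact extLine_mem t

omit hx in
theorem image_lines_eq : L.image (fun l => l.image (co L lam)) = modelLines := by
  apply eq_of_subset_of_card_le
  · intro m hm
    obtain ⟨l, hl, rfl⟩ := mem_image.mp hm
    exact image_line_mem hP hF hl
  · rw [card_image_of_injective _ (image_injective (co_inj hP hF)), hP.lines]
    exact card_modelLines

end frame

/-- two framed planes are isomorphic, compatibly with the frames. -/
theorem iso_of_frames {β : Type*} [Fintype β] [DecidableEq β]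
    {L : Finset (Finset α)} (hP : IsPlane4 L) {lam : Fin 6 → α} (hF : Frame L lam)
    {L' : Finset (Finset β)} (hP' : IsPlane4 L') {lam' : Fin 6 → β} (hF' : Frame L' lam') :
    ∃ e : α ≃ β, (∀ i, e (lam i) = lam' i) ∧
      (fun b : Finset α => b.image e) '' (L : Set (Finset α)) = (L' : Set (Finset β)) := by
  obtain ⟨c1, hc1⟩ : ∃ c : α ≃ Pt, ∀ x, c x = co L lam x :=
    ⟨Equiv.ofBijective _ (co_bij hP hF), fun x => rfl⟩
  obtain ⟨c2, hc2⟩ : ∃ c : β ≃ Pt, ∀ x, c x = co L' lam' x :=
    ⟨Equiv.ofBijective _ (co_bij hP' hF'), fun x => rfl⟩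
  have hf1 : (c1 : α → Pt) = co L lam := funext hc1
  have hf2 : (c2 : β → Pt) = co L' lam' := funext hc2
  refine ⟨c1.trans c2.symm, ?_, ?_⟩
  · intro i
    rw [Equiv.trans_apply, hc1, co_lam hF, Equiv.symm_apply_eq, hc2, co_lam hF']
  · have key : ∀ (l : Finset α) (l' : Finset β), l.image c1 = l'.image c2 →
        l.image (c1.trans c2.symm) = l' := by
      intro l l' h
      have h1 : l.image (c1.trans c2.symm) = (l.image c1).image c2.symm := by
        rw [image_image]
        rfl
      rw [h1, h, image_image]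
      simp
    have e1 := image_lines_eq hP hF
    have e2 := image_lines_eq hP' hF'
    rw [← hf1] at e1
    rw [← hf2] at e2
    ext m
    simp only [Set.mem_image, mem_coe]
    constructor
    · rintro ⟨l, hl, rfl⟩
      have : l.image c1 ∈ L'.image (fun l => l.image c2) := by
        rw [e2, ← e1]
        exact mem_image_of_mem _ hl
      obtain ⟨l', hl', hll'⟩ := mem_image.mp this
      rw [key l l' hll'.symm]
      exact hl'
    · intro hm
      have : m.image c2 ∈ L.image (fun l => l.image c1) := by
        rw [e1, ← e2]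
        exact mem_image_of_mem _ hm
      obtain ⟨l, hl, hll⟩ := mem_image.mp this
      exact ⟨l, hl, key l m hll⟩

/-- every plane of order 4 has a frame. -/
theorem exists_frame {L : Finset (Finset α)} (hP : IsPlane4 L) :
    ∃ lam : Fin 6 → α, Frame L lam := by
  obtain ⟨H, hH6, hH⟩ := exists_hyperoval hP
  exact ⟨_, Frame.of_hyperoval hH (Finset.equivFinOfCardEq hH6).symm⟩

end Cfsg.Agent.Lib.Helper2.Plane4
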