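import Cfsg.Agent.Lib.Helper2.Plane4C

set_option autoImplicit false
set_option linter.unusedSectionVars false
set_option linter.unusedVariables false

/-! Counting arcs in a projective plane of order 4, and rigidity of collineations fixing a
hyperoval pointwise. -/

namespace Cfsg.Agent.Lib.Helper2.Plane4

open Finset

variable {α : Type*} [Fintype α] [DecidableEq α]

open Classical in
/-- the `k`-arcs. -/
noncomputable def arcs (L : Finset (Finset α)) (k : ℕ) : Finset (Finset α) :=
  univ.filter (fun S => S.card = k ∧ IsArc L S)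

theorem mem_arcs {L : Finset (Finset α)} {k : ℕ} {S : Finset α} :
    S ∈ arcs L k ↔ S.card = k ∧ IsArc L S := by
  unfold arcs
  simp only [mem_filter, mem_univ, true_and]

section count

variable {L : Finset (Finset α)} (hP : IsPlane4 L)
include hP

theorem below_eq {k : ℕ} {T : Finset α} (hT : IsArc L T) :
    bipartiteBelow (fun S T : Finset α => S ⊆ T) (arcs L k) T = powersetCard k T := by
  ext S
  simp only [mem_bipartiteBelow, mem_arcs, mem_powersetCard]
  constructor
  · rintro ⟨⟨h1, _⟩, h2⟩
    exact ⟨h2, h1⟩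
  · rintro ⟨h1, h2⟩
    exact ⟨⟨h2, hT.mono h1⟩, h1⟩

open Classical in
theorem card_step (k : ℕ) (hk : 2 ≤ k) (m : ℕ)
    (hm : ∀ S : Finset α, S.card = k → IsArc L S →
      (univ.filter (fun x => offSec L S x)).card = m) :
    (arcs L k).card * m = (arcs L (k + 1)).card * (k + 1) := by
  apply card_mul_eq_card_mul (fun S T : Finset α => S ⊆ T)
  · intro S hS
    rw [mem_arcs] at hS
    rw [← hm S hS.1 hS.2]
    have hEq : bipartiteAbove (fun S T : Finset α => S ⊆ T) (arcs L (k + 1)) S
        = (univ.filter (fun x => offSec L S x)).image (fun x => insert x S) := by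
      ext T
      simp only [mem_bipartiteAbove, mem_arcs, mem_image, mem_filter, mem_univ, true_and]
      constructor
      · rintro ⟨⟨hT, hTarc⟩, hST⟩
        have h1 : (T \ S).card = 1 := by
          rw [card_sdiff_of_subset hST, hT, hS.1]
          omega
        obtain ⟨x, hx⟩ := card_eq_one.mp h1
        have hxT : x ∈ T ∧ x ∉ S := by
          rw [← mem_sdiff, hx]
          exact mem_singleton_self x
        have hTeq : insert x S = T := by
          rw [insert_eq, ← hx, sdiff_union_of_subset hST]
        refine ⟨x, ?_, hTeq⟩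
        exact offSec_of_isArc_insert hP hxT.2 (hTeq ▸ hTarc)
      · rintro ⟨x, hx, rfl⟩
        have hxS := offSec_notMem hP (by omega) hx
        exact ⟨⟨by rw [card_insert_of_notMem hxS, hS.1], IsArc.insert hP hS.2 hx⟩,
          subset_insert _ _⟩
    rw [hEq, card_image_of_injOn]
    intro x hx y hy hxy
    rw [mem_coe, mem_filter] at hx hy
    have hxS := offSec_notMem hP (by omega) hx.2
    have hxy' : insert x S = insert y S := hxy
    have : x ∈ insert y S := by
      rw [← hxy']
      exact mem_insert_self _ _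
    rcases mem_insert.mp this with h | h
    · exact h
    · exact absurd h hxS
  · intro T hT
    rw [mem_arcs] at hT
    rw [below_eq hP hT.2, card_powersetCard, hT.1, Nat.choose_succ_self_right]

theorem card_arcs_two : (arcs L 2).card = 210 := by
  have : arcs L 2 = powersetCard 2 (univ : Finset α) := by
    ext S
    simp only [mem_arcs, mem_powersetCard, subset_univ, true_and]
    constructor
    · exact fun h => h.1
    · exact fun h => ⟨h, isArc_of_card_le_two (by omega)⟩
  rw [this, card_powersetCard, card_univ, hP.card]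
  rfl

open Classical in
theorem ext_two (S : Finset α) (hS : S.card = 2) (_h : IsArc L S) :
    (univ.filter (fun x => offSec L S x)).card = 16 := by
  obtain ⟨a, b, hab, rfl⟩ := card_eq_two.mp hS
  have : univ.filter (fun x => offSec L {a, b} x) = (ln L a b)ᶜ := by
    ext x
    simp only [mem_filter, mem_univ, true_and, mem_compl]
    exact offSec_pair hP hab x
  rw [this, card_compl, hP.card, hP.size _ (ln_mem hP hab)]

open Classical in
theorem ext_three (S : Finset α) (hS : S.card = 3) (h : IsArc L S) :
    (univ.filter (fun x => offSec L S x)).card = 9 := by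
  obtain ⟨a, b, c, hab, hac, hbc, rfl⟩ := card_eq_three.mp hS
  have Lab := ln_mem hP hab
  have Lac := ln_mem hP hac
  have Lbc := ln_mem hP hbc
  have c_ab : c ∉ ln L a b := by
    intro hc
    rcases h.three Lab (by simp : a ∈ ({a, b, c} : Finset α)) (by simp : b ∈ ({a, b, c} : Finset α))
      (by simp : c ∈ ({a, b, c} : Finset α)) (left_mem_ln hP hab) (right_mem_ln hP hab) hc
      with h' | h' | h' <;> contradiction
  have b_ac : b ∉ ln L a c := by
    intro hb
    rcases h.three Lac (by simp : a ∈ ({a, b, c} : Finset α)) (by simp : c ∈ ({a, b, c} : Finset α))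
      (by simp : b ∈ ({a, b, c} : Finset α)) (left_mem_ln hP hac) (right_mem_ln hP hac) hb
      with h' | h' | h'
    · exact hac h'
    · exact hab h'
    · exact hbc h'.symm
  have ab_ac : ln L a b ≠ ln L a c := fun h' => c_ab (h' ▸ right_mem_ln hP hac)
  have ab_bc : ln L a b ≠ ln L b c := fun h' => c_ab (h' ▸ right_mem_ln hP hbc)
  have ac_bc : ln L a c ≠ ln L b c := fun h' => b_ac (h' ▸ left_mem_ln hP hbc)
  have hfil : univ.filter (fun x => offSec L {a, b, c} x)
      = (ln L a b ∪ ln L a c ∪ ln L b c)ᶜ := by
    ext x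
    simp only [mem_filter, mem_univ, true_and, mem_compl, mem_union, not_or]
    rw [offSec_triple hP hab hac hbc x]
    tauto
  have hi1 : ln L a b ∩ ln L a c = {a} := by
    ext x
    simp only [mem_inter, mem_singleton]
    constructor
    · rintro ⟨h1, h2⟩
      exact eq_of_mem_two hP Lab Lac ab_ac h1 h2 (left_mem_ln hP hab) (left_mem_ln hP hac)
    · rintro rfl
      exact ⟨left_mem_ln hP hab, left_mem_ln hP hac⟩
  have hi2 : (ln L a b ∪ ln L a c) ∩ ln L b c = {b, c} := by
    ext x
    simp only [mem_inter, mem_union, mem_insert, mem_singleton]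
    constructor
    · rintro ⟨h1 | h1, h2⟩
      · left
        exact eq_of_mem_two hP Lab Lbc ab_bc h1 h2 (right_mem_ln hP hab) (left_mem_ln hP hbc)
      · right
        exact eq_of_mem_two hP Lac Lbc ac_bc h1 h2 (right_mem_ln hP hac) (right_mem_ln hP hbc)
    · rintro (rfl | rfl)
      · exact ⟨Or.inl (right_mem_ln hP hab), left_mem_ln hP hbc⟩
      · exact ⟨Or.inr (right_mem_ln hP hac), right_mem_ln hP hbc⟩
  have e1 := card_union_add_card_inter (ln L a b) (ln L a c)
  have e2 := card_union_add_card_inter (ln L a b ∪ ln L a c) (ln L b c)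
  rw [hi1, card_singleton, hP.size _ Lab, hP.size _ Lac] at e1
  rw [hi2, card_pair hbc, hP.size _ Lbc] at e2
  rw [hfil, card_compl, hP.card]
  omega

theorem card_four_six : (arcs L 4).card * 1 = (arcs L 6).card * 15 := by
  classical
  apply card_mul_eq_card_mul (fun S T : Finset α => S ⊆ T)
  · intro S hS
    rw [mem_arcs] at hS
    obtain ⟨e, f, hef, heS, hfS, hchar, hH⟩ := hyperoval_of_four hP hS.1 hS.2
    rw [card_eq_one]
    refine ⟨insert f (insert e S), ?_⟩
    ext T
    simp only [mem_bipartiteAbove, mem_arcs, mem_singleton]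
    constructor
    · rintro ⟨⟨hT6, hTarc⟩, hST⟩
      exact hyperoval_unique hP hS.1 hef heS hfS hchar hT6 hTarc hST
    · rintro rfl
      refine ⟨⟨?_, hH⟩, ?_⟩
      · rw [card_insert_of_notMem, card_insert_of_notMem heS, hS.1]
        simp only [mem_insert, not_or]
        exact ⟨hef.symm, hfS⟩
      · exact (subset_insert _ _).trans (subset_insert _ _)
  · intro T hT
    rw [mem_arcs] at hT
    rw [below_eq hP hT.2, card_powersetCard, hT.1]
    rfl

theorem card_arcs : (arcs L 4).card = 2520 ∧ (arcs L 6).card = 168 := by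
  have h2 := card_arcs_two hP
  have h23 : (arcs L 2).card * 16 = (arcs L 3).card * 3 :=
    card_step hP 2 (by omega) 16 (ext_two hP)
  have h34 : (arcs L 3).card * 9 = (arcs L 4).card * 4 :=
    card_step hP 3 (by omega) 9 (ext_three hP)
  have h46 := card_four_six hP
  omega

theorem unique_hyperoval (S : Finset α) (hS4 : S.card = 4) (hS : IsArc L S) :
    ∃! H : Finset α, (H.card = 6 ∧ IsArc L H) ∧ S ⊆ H := by
  obtain ⟨e, f, hef, heS, hfS, hchar, hH⟩ := hyperoval_of_four hP hS4 hS
  refine ⟨insert f (insert e S), ⟨⟨?_, hH⟩, ?_⟩, ?_⟩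
  · rw [card_insert_of_notMem, card_insert_of_notMem heS, hS4]
    simp only [mem_insert, not_or]
    exact ⟨hef.symm, hfS⟩
  · exact (subset_insert _ _).trans (subset_insert _ _)
  · rintro T ⟨⟨hT6, hTarc⟩, hST⟩
    exact hyperoval_unique hP hS4 hef heS hfS hchar hT6 hTarc hST

end count

open scoped Pointwise in
theorem mem_aut_iff (B : Set (Finset α)) (g : Equiv.Perm α) :
    g ∈ Cfsg.setSystemAut B ↔ (fun b : Finset α => b.image g) '' B = B := by
  rw [MulAction.mem_stabilizer_iff]
  rfl

/-- a collineation is determined by its values on a frame. -/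
theorem aut_eq_of_frame {L : Finset (Finset α)} (hP : IsPlane4 L) {lam : Fin 6 → α}
    (hF : Frame L lam) (g g' : Equiv.Perm α)
    (hg : (fun b : Finset α => b.image g) '' (L : Set (Finset α)) = (L : Set (Finset α)))
    (hg' : (fun b : Finset α => b.image g') '' (L : Set (Finset α)) = (L : Set (Finset α)))
    (h : ∀ i, g (lam i) = g' (lam i)) : g = g' := by
  have hgl : ∀ l ∈ L, l.image g ∈ L := by
    intro l hl
    have : l.image g ∈ (fun b : Finset α => b.image g) '' (L : Set (Finset α)) :=
      ⟨l, mem_coe.mpr hl, rfl⟩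
    rw [hg] at this
    exact mem_coe.mp this
  have hgl' : ∀ l ∈ L, l.image g' ∈ L := by
    intro l hl
    have : l.image g' ∈ (fun b : Finset α => b.image g') '' (L : Set (Finset α)) :=
      ⟨l, mem_coe.mpr hl, rfl⟩
    rw [hg'] at this
    exact mem_coe.mp this
  have himg : ∀ i j, lam i ≠ lam j → (ln L (lam i) (lam j)).image g
      = (ln L (lam i) (lam j)).image g' := by
    intro i j hij
    have hl := ln_mem hP hij
    refine hP.uniq _ (hgl _ hl) _ (hgl' _ hl) (g (lam i)) (g (lam j))
      (fun h' => hij (g.injective h')) (mem_image_of_mem _ (left_mem_ln hP hij))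
      (mem_image_of_mem _ (right_mem_ln hP hij)) ?_ ?_
    · rw [h i]
      exact mem_image_of_mem _ (left_mem_ln hP hij)
    · rw [h j]
      exact mem_image_of_mem _ (right_mem_ln hP hij)
  ext x
  by_cases hx : ∃ i, lam i = x
  · obtain ⟨i, rfl⟩ := hx
    exact h i
  · push Not at hx
    obtain ⟨k, hk0, hkj⟩ := exists_third (mt L lam x 0)
    have hne0 := lam_ne_mt hP hF hx 0
    have hnek := lam_ne_mt hP hF hx k
    have h1 := mem_sec hP hF hx 0
    have h2 := mem_sec hP hF hx k
    have hl1 := ln_mem hP hne0
    have hl2 := ln_mem hP hnek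
    have hne : ln L (lam 0) (lam (mt L lam x 0)) ≠ ln L (lam k) (lam (mt L lam x k)) := by
      intro heq
      rcases hF.arc _ hl1 0 (mt L lam x 0) k (left_mem_ln hP hne0)
        (right_mem_ln hP hne0) (by rw [heq]; exact left_mem_ln hP hnek) with h' | h' | h'
      · exact (mt_spec hP hF hx 0).1 h'.symm
      · exact hk0 h'.symm
      · exact hkj h'.symm
    have hne' : (ln L (lam 0) (lam (mt L lam x 0))).image g
        ≠ (ln L (lam k) (lam (mt L lam x k))).image g :=
      fun h' => hne (image_injective g.injective h')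
    refine eq_of_mem_two hP (hgl _ hl1) (hgl _ hl2) hne' (mem_image_of_mem _ h1)
      (mem_image_of_mem _ h2) ?_ ?_
    · rw [himg 0 _ hne0]
      exact mem_image_of_mem _ h1
    · rw [himg k _ hnek]
      exact mem_image_of_mem _ h2

end Cfsg.Agent.Lib.Helper2.Plane4
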