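import Cfsg.Agent.Lib.Helper2.Plane4D
import Cfsg.Agent.Lib.Helper9.Steiner3

set_option autoImplicit false
set_option linter.unusedSectionVars false
set_option linter.unusedVariables false

/-! Hyperovals through a given set, and the 56 hyperovals meeting a given one evenly. -/

namespace Cfsg.Agent.Lib.Helper2.Plane4

open Finset

variable {α : Type*} [Fintype α] [DecidableEq α]

/-- number of hyperovals through `Z`. -/
noncomputable def hh (L : Finset (Finset α)) (Z : Finset α) : ℕ :=
  ((arcs L 6).filter (fun H => Z ⊆ H)).card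

theorem hh_rec (L : Finset (Finset α)) (Z : Finset α) (j : ℕ) (hZ : Z.card = j) :
    hh L Z * (6 - j) = ∑ x ∈ Zᶜ, hh L (insert x Z) := by
  unfold hh
  simp only [card_filter]
  rw [sum_comm, sum_mul]
  refine sum_congr rfl fun H hH => ?_
  have hH6 : H.card = 6 := (mem_arcs.mp hH).1
  by_cases hZH : Z ⊆ H
  · rw [if_pos hZH, one_mul]
    rw [show (∑ x ∈ Zᶜ, if insert x Z ⊆ H then 1 else 0)
      = (Zᶜ.filter (fun x => insert x Z ⊆ H)).card from (card_filter _ _).symm]
    have : Zᶜ.filter (fun x => insert x Z ⊆ H) = H \ Z := by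
      ext x
      simp only [mem_filter, mem_compl, mem_sdiff, insert_subset_iff, hZH, and_true]
      tauto
    rw [this, card_sdiff_of_subset hZH, hH6, hZ]
  · rw [if_neg hZH, zero_mul]
    symm
    apply sum_eq_zero
    intro x _
    rw [if_neg]
    intro h
    exact hZH ((subset_insert _ _).trans h)

theorem hh_eq_zero {L : Finset (Finset α)} {Z : Finset α} (hZ : ¬ IsArc L Z) : hh L Z = 0 := by
  unfold hh
  rw [card_eq_zero, filter_eq_empty_iff]
  intro H hH hZH
  exact hZ ((mem_arcs.mp hH).2.mono hZH)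

section

variable {L : Finset (Finset α)} (hP : IsPlane4 L)
include hP

theorem hh_four (S : Finset α) (hS4 : S.card = 4) (hS : IsArc L S) : hh L S = 1 := by
  obtain ⟨H0, ⟨⟨h6, harc⟩, hSH⟩, huniq⟩ := unique_hyperoval hP S hS4 hS
  unfold hh
  rw [card_eq_one]
  refine ⟨H0, ?_⟩
  ext H
  simp only [mem_filter, mem_singleton]
  constructor
  · rintro ⟨hH, hSH'⟩
    exact huniq H ⟨mem_arcs.mp hH, hSH'⟩
  · rintro rfl
    exact ⟨mem_arcs.mpr ⟨h6, harc⟩, hSH⟩

theorem hh_of_four_le {Y : Finset α} (hY : Y ∈ arcs L 6) {Z : Finset α} (hZY : Z ⊆ Y)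
    (hZ4 : 4 ≤ Z.card) : hh L Z = 1 := by
  have hYa := mem_arcs.mp hY
  unfold hh
  rw [card_eq_one]
  refine ⟨Y, ?_⟩
  ext H
  simp only [mem_filter, mem_singleton]
  constructor
  · rintro ⟨hH, hZH⟩
    have hHa := mem_arcs.mp hH
    obtain ⟨S, hSZ, hS4⟩ := exists_subset_card_eq hZ4
    have hSarc : IsArc L S := hYa.2.mono (hSZ.trans hZY)
    obtain ⟨H0, -, huniq⟩ := unique_hyperoval hP S hS4 hSarc
    rw [huniq H ⟨hHa, hSZ.trans hZH⟩, huniq Y ⟨hYa, hSZ.trans hZY⟩]
  · rintro rfl
    exact ⟨hY, hZY⟩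

open Classical in
theorem hh_step (Z : Finset α) (j : ℕ) (hZj : Z.card = j) (hj2 : 2 ≤ j) (c m : ℕ)
    (hc : ∀ x, offSec L Z x → hh L (insert x Z) = c)
    (hm : (univ.filter (fun x => offSec L Z x)).card = m) : hh L Z * (6 - j) = m * c := by
  rw [hh_rec L Z j hZj]
  have h1 : ∑ x ∈ Zᶜ, hh L (insert x Z) = ∑ x ∈ Zᶜ, if offSec L Z x then c else 0 := by
    refine sum_congr rfl fun x hx => ?_
    rw [mem_compl] at hx
    by_cases h : offSec L Z x
    · rw [if_pos h, hc x h]
    · rw [if_neg h]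
      exact hh_eq_zero (fun harc => h (offSec_of_isArc_insert hP hx harc))
  rw [h1, ← sum_filter, sum_const, smul_eq_mul]
  have h2 : Zᶜ.filter (fun x => offSec L Z x) = univ.filter (fun x => offSec L Z x) := by
    ext x
    simp only [mem_filter, mem_compl, mem_univ, true_and, and_iff_right_iff_imp]
    exact fun h => offSec_notMem hP (by omega) h
  rw [h2, hm]

theorem hh_three (Z : Finset α) (hZ3 : Z.card = 3) (hZ : IsArc L Z) : hh L Z = 3 := by
  have h := hh_step hP Z 3 hZ3 (by omega) 1 9 (fun x hx => by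
    apply hh_four hP
    · rw [card_insert_of_notMem (offSec_notMem hP (by omega) hx), hZ3]
    · exact IsArc.insert hP hZ hx) (ext_three hP Z hZ3 hZ)
  omega

theorem hh_two (Z : Finset α) (hZ2 : Z.card = 2) : hh L Z = 12 := by
  have hZ : IsArc L Z := isArc_of_card_le_two (by omega)
  have h := hh_step hP Z 2 hZ2 (by omega) 3 16 (fun x hx => by
    apply hh_three hP
    · rw [card_insert_of_notMem (offSec_notMem hP (by omega) hx), hZ2]
    · exact IsArc.insert hP hZ hx) (ext_two hP Z hZ2 hZ)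
  omega

theorem hh_one (a : α) : hh L {a} = 48 := by
  have h := hh_rec L {a} 1 (card_singleton a)
  have h1 : ∑ x ∈ ({a} : Finset α)ᶜ, hh L (insert x {a}) = ∑ x ∈ ({a} : Finset α)ᶜ, 12 := by
    refine sum_congr rfl fun x hx => ?_
    rw [mem_compl, mem_singleton] at hx
    apply hh_two hP
    rw [card_insert_of_notMem (by rwa [mem_singleton]), card_singleton]
  rw [h1, sum_const, smul_eq_mul, card_compl, card_singleton, hP.card] at h
  omega

theorem hh_zero : hh L ∅ = 168 := by
  unfold hh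
  rw [filter_true_of_mem (fun H _ => empty_subset H)]
  exact (card_arcs hP).2

theorem even_count {Y : Finset α} (hY : Y ∈ arcs L 6) :
    ((arcs L 6).filter (fun H => Even (H ∩ Y).card)).card = 56 := by
  have hYa := mem_arcs.mp hY
  have hY6 : Y.card = 6 := hYa.1
  have hsub : ∀ j (c : ℕ), (∀ Z ∈ powersetCard j Y, hh L Z = c) →
      ∑ H ∈ arcs L 6, ((H ∩ Y).card).choose j = Nat.choose 6 j * c := by
    intro j c hc
    rw [Cfsg.Agent.Lib.Helper9.Steiner3.sum_choose_inter_eq]
    have h1 : ∑ Z ∈ powersetCard j Y, ((arcs L 6).filter (fun b => Z ⊆ b)).card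
        = ∑ Z ∈ powersetCard j Y, c := sum_congr rfl (fun Z hZ => hc Z hZ)
    rw [h1, sum_const, smul_eq_mul, card_powersetCard, hY6]
  have m0 := hsub 0 168 (fun Z hZ => by
    rw [mem_powersetCard] at hZ
    rw [card_eq_zero.mp hZ.2]
    exact hh_zero hP)
  have m1 := hsub 1 48 (fun Z hZ => by
    rw [mem_powersetCard] at hZ
    obtain ⟨a, rfl⟩ := card_eq_one.mp hZ.2
    exact hh_one hP a)
  have m2 := hsub 2 12 (fun Z hZ => by
    rw [mem_powersetCard] at hZ
    exact hh_two hP Z hZ.2)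
  have m3 := hsub 3 3 (fun Z hZ => by
    rw [mem_powersetCard] at hZ
    exact hh_three hP Z hZ.2 (hYa.2.mono hZ.1))
  have m4 := hsub 4 1 (fun Z hZ => by
    rw [mem_powersetCard] at hZ
    exact hh_of_four_le hP hY hZ.1 (by omega))
  have m5 := hsub 5 1 (fun Z hZ => by
    rw [mem_powersetCard] at hZ
    exact hh_of_four_le hP hY hZ.1 (by omega))
  have m6 := hsub 6 1 (fun Z hZ => by
    rw [mem_powersetCard] at hZ
    exact hh_of_four_le hP hY hZ.1 (by omega))
  have hev : ((arcs L 6).filter (fun H => Even (H ∩ Y).card)).card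
      = ∑ H ∈ arcs L 6, (fun k => if Even k then 1 else 0) (H ∩ Y).card := card_filter _ _
  have hev' := hev.trans (Cfsg.Agent.Lib.Helper9.Steiner3.sum_fiber_inter (arcs L 6) Y 6
    (by omega) (fun k => if Even k then 1 else 0))
  rw [hev']
  replace m0 := (Cfsg.Agent.Lib.Helper9.Steiner3.sum_fiber_inter (arcs L 6) Y 6 (by omega)
    (fun k => k.choose 0)).symm.trans m0
  replace m1 := (Cfsg.Agent.Lib.Helper9.Steiner3.sum_fiber_inter (arcs L 6) Y 6 (by omega)
    (fun k => k.choose 1)).symm.trans m1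
  replace m2 := (Cfsg.Agent.Lib.Helper9.Steiner3.sum_fiber_inter (arcs L 6) Y 6 (by omega)
    (fun k => k.choose 2)).symm.trans m2
  replace m3 := (Cfsg.Agent.Lib.Helper9.Steiner3.sum_fiber_inter (arcs L 6) Y 6 (by omega)
    (fun k => k.choose 3)).symm.trans m3
  replace m4 := (Cfsg.Agent.Lib.Helper9.Steiner3.sum_fiber_inter (arcs L 6) Y 6 (by omega)
    (fun k => k.choose 4)).symm.trans m4
  replace m5 := (Cfsg.Agent.Lib.Helper9.Steiner3.sum_fiber_inter (arcs L 6) Y 6 (by omega)
    (fun k => k.choose 5)).symm.trans m5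
  replace m6 := (Cfsg.Agent.Lib.Helper9.Steiner3.sum_fiber_inter (arcs L 6) Y 6 (by omega)
    (fun k => k.choose 6)).symm.trans m6
  simp only [sum_range_succ, sum_range_zero] at m0 m1 m2 m3 m4 m5 m6 ⊢
  generalize ((arcs L 6).filter (fun b => (b ∩ Y).card = 0)).card = n0 at *
  generalize ((arcs L 6).filter (fun b => (b ∩ Y).card = 1)).card = n1 at *
  generalize ((arcs L 6).filter (fun b => (b ∩ Y).card = 2)).card = n2 at *
  generalize ((arcs L 6).filter (fun b => (b ∩ Y).card = 3)).card = n3 at *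
  generalize ((arcs L 6).filter (fun b => (b ∩ Y).card = 4)).card = n4 at *
  generalize ((arcs L 6).filter (fun b => (b ∩ Y).card = 5)).card = n5 at *
  generalize ((arcs L 6).filter (fun b => (b ∩ Y).card = 6)).card = n6 at *
  norm_num [Nat.choose] at m0 m1 m2 m3 m4 m5 m6 ⊢
  have e0 : Even 0 := by decide
  have e2 : Even 2 := by decide
  have e4 : Even 4 := by decide
  have e6 : Even 6 := by decide
  have o1 : ¬ Even 1 := by decide
  have o3 : ¬ Even 3 := by decide
  have o5 : ¬ Even 5 := by decide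
  simp only [e0, e2, e4, e6, o1, o3, o5, if_true, if_false] at *
  omega

end

end Cfsg.Agent.Lib.Helper2.Plane4
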