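import Cfsg.Agent.Lib.Helper2.Plane4E

set_option autoImplicit false
set_option linter.unusedSectionVars false
set_option linter.unusedVariables false

/-! Collineations of planes of order 4, and an involutory collineation fixing a hyperoval and
interchanging the two classes of hyperovals meeting it oddly. -/

namespace Cfsg.Agent.Lib.Helper2.Plane4

open Finset

/-! ### the model collineation -/

def swapSyn : Fin 15 → Fin 15 := ![0,1,2,6,9,12,3,10,13,4,7,14,5,8,11]

def swapSix : Fin 6 → Fin 6 := ![1,0,2,3,4,5]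

def gmod : Pt → Pt := Sum.map swapSix swapSyn

def K0 : Finset Pt := {Sum.inl 0, Sum.inl 1, Sum.inl 2, Sum.inr 7, Sum.inr 11, Sum.inr 13}

def H0 : Finset Pt := univ.image Sum.inl

theorem gmod_invol : ∀ x, gmod (gmod x) = x := by decide +kernel

theorem mem_modelLines {l : Finset Pt} (h : l ∈ modelLines) :
    (∃ i j : Fin 6, i ≠ j ∧ l = secLine i j) ∨ ∃ t, l = extLine t := by
  unfold modelLines at h
  rcases mem_union.mp h with h | h
  · obtain ⟨p, hp, rfl⟩ := mem_image.mp h
    rw [mem_filter] at hp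
    exact Or.inl ⟨p.1, p.2, ne_of_lt hp.2, rfl⟩
  · obtain ⟨t, -, rfl⟩ := mem_image.mp h
    exact Or.inr ⟨t, rfl⟩

theorem gmod_sec : ∀ i j : Fin 6, i ≠ j → (secLine i j).image gmod ∈ modelLines := by
  decide +kernel

theorem gmod_ext : ∀ t : Fin 6, (extLine t).image gmod ∈ modelLines := by decide +kernel

theorem gmod_lines : ∀ l ∈ modelLines, l.image gmod ∈ modelLines := by
  intro l hl
  rcases mem_modelLines hl with ⟨i, j, hij, rfl⟩ | ⟨t, rfl⟩
  · exact gmod_sec i j hij
  · exact gmod_ext t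

theorem gmod_H0 : H0.image gmod = H0 := by decide +kernel

theorem K0_card : K0.card = 6 := by decide +kernel

theorem K0_sec : ∀ i j : Fin 6, i ≠ j → (secLine i j ∩ K0).card ≤ 2 := by decide +kernel

theorem K0_ext : ∀ t : Fin 6, (extLine t ∩ K0).card ≤ 2 := by decide +kernel

theorem K0_arc : ∀ l ∈ modelLines, (l ∩ K0).card ≤ 2 := by
  intro l hl
  rcases mem_modelLines hl with ⟨i, j, hij, rfl⟩ | ⟨t, rfl⟩
  · exact K0_sec i j hij
  · exact K0_ext t

theorem K0_inter : (K0 ∩ H0).card = 3 := by decide +kernel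

theorem K0_swap : (K0.image gmod ∩ K0).card = 3 := by decide +kernel

/-! ### collineations -/

variable {α : Type*} [Fintype α] [DecidableEq α] {β : Type*} [Fintype β] [DecidableEq β]

/-- `e` maps lines of `L` to lines of `L'`. -/
def IsCol (L : Finset (Finset α)) (L' : Finset (Finset β)) (e : α ≃ β) : Prop :=
  ∀ l ∈ L, l.image e ∈ L'

theorem card_inter_image (e : α ≃ β) (H K : Finset α) :
    (H.image e ∩ K.image e).card = (H ∩ K).card := by
  rw [← image_inter _ _ e.injective, card_image_of_injective _ e.injective]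

theorem image_symm_image (e : α ≃ β) (S : Finset α) : (S.image e).image e.symm = S := by
  rw [image_image]
  simp

theorem image_image_symm (e : α ≃ β) (T : Finset β) : (T.image e.symm).image e = T := by
  rw [image_image]
  simp

theorem image_trans {γ : Type*} [DecidableEq γ] (e : α ≃ β) (e' : β ≃ γ) (S : Finset α) :
    S.image (e.trans e') = (S.image e).image e' := by
  rw [image_image]
  rfl

section col

variable {L : Finset (Finset α)} {L' : Finset (Finset β)} {e : α ≃ β}

theorem IsCol.image_eq (h : IsCol L L' e) (hc : L'.card ≤ L.card) :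
    L.image (fun l => l.image e) = L' := by
  apply eq_of_subset_of_card_le
  · intro m hm
    obtain ⟨l, hl, rfl⟩ := mem_image.mp hm
    exact h l hl
  · rw [card_image_of_injective _ (image_injective e.injective)]
    exact hc

theorem IsCol.exists_preimage (h : IsCol L L' e) (hc : L'.card ≤ L.card) {l' : Finset β}
    (hl' : l' ∈ L') : ∃ l ∈ L, l.image e = l' := by
  rw [← h.image_eq hc] at hl'
  obtain ⟨l, hl, rfl⟩ := mem_image.mp hl'
  exact ⟨l, hl, rfl⟩

theorem IsCol.symm (h : IsCol L L' e) (hc : L'.card ≤ L.card) : IsCol L' L e.symm := by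
  intro l' hl'
  obtain ⟨l, hl, rfl⟩ := h.exists_preimage hc hl'
  rw [image_symm_image]
  exact hl

theorem IsCol.of_set
    (h : (fun b : Finset α => b.image e) '' (L : Set (Finset α)) = (L' : Set (Finset β))) :
    IsCol L L' e := by
  intro l hl
  have : l.image e ∈ (fun b : Finset α => b.image e) '' (L : Set (Finset α)) :=
    ⟨l, mem_coe.mpr hl, rfl⟩
  rw [h] at this
  exact mem_coe.mp this

theorem IsCol.trans {γ : Type*} [Fintype γ] [DecidableEq γ] {L'' : Finset (Finset γ)} {e' : β ≃ γ}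
    (h : IsCol L L' e) (h' : IsCol L' L'' e') : IsCol L L'' (e.trans e') := by
  intro l hl
  rw [image_trans]
  exact h' _ (h l hl)

theorem IsCol.arcs (h : IsCol L L' e) (hc : L'.card ≤ L.card) {k : ℕ} {H : Finset α}
    (hH : H ∈ arcs L k) : H.image e ∈ arcs L' k := by
  rw [mem_arcs] at hH ⊢
  refine ⟨by rw [card_image_of_injective _ e.injective]; exact hH.1, ?_⟩
  intro l' hl'
  obtain ⟨l, hl, rfl⟩ := h.exists_preimage hc hl'
  rw [card_inter_image]
  exact hH.2 l hl

end col

/-! ### the swap -/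

theorem exists_swap_frame {L : Finset (Finset α)} (hP : IsPlane4 L) {lam : Fin 6 → α}
    (hF : Frame L lam) :
    ∃ g : α ≃ α, IsCol L L g ∧ (∀ x, g (g x) = x) ∧
      (univ.image lam).image g = univ.image lam ∧
      ∃ K : Finset α, K ∈ arcs L 6 ∧ (K ∩ univ.image lam).card = 3 ∧
        (K.image g ∩ K).card = 3 := by
  obtain ⟨c, hc⟩ : ∃ c : α ≃ Pt, ∀ x, c x = co L lam x :=
    ⟨Equiv.ofBijective _ (co_bij hP hF), fun x => rfl⟩
  have hf : (c : α → Pt) = co L lam := funext hc
  have e1 := image_lines_eq hP hF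
  rw [← hf] at e1
  obtain ⟨gm, hgm⟩ : ∃ gm : Pt ≃ Pt, ∀ x, gm x = gmod x :=
    ⟨Function.Involutive.toPerm gmod gmod_invol, fun x => rfl⟩
  have hg : ∀ S : Finset α, S.image (c.trans (gm.trans c.symm))
      = ((S.image c).image gmod).image c.symm := by
    intro S
    ext y
    simp only [mem_image, Equiv.trans_apply, hgm]
    constructor
    · rintro ⟨x, hx, rfl⟩
      exact ⟨gmod (c x), ⟨c x, ⟨x, hx, rfl⟩, rfl⟩, rfl⟩
    · rintro ⟨z, ⟨w, ⟨x, hx, rfl⟩, rfl⟩, rfl⟩
      exact ⟨x, hx, rfl⟩
  have hlm : ∀ l ∈ L, l.image c ∈ modelLines := by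
    intro l hl
    rw [← e1]
    exact mem_image_of_mem _ hl
  have hH : (univ.image lam).image c = H0 := by
    rw [image_image]
    unfold H0
    apply image_congr
    intro i _
    simp only [Function.comp_apply, hc, co_lam hF]
  refine ⟨c.trans (gm.trans c.symm), ?_, ?_, ?_, K0.image c.symm, ?_, ?_, ?_⟩
  · intro l hl
    rw [hg]
    have h1 := gmod_lines _ (hlm l hl)
    rw [← e1] at h1
    obtain ⟨l', hl', hl'e⟩ := mem_image.mp h1
    rw [← hl'e, image_symm_image]
    exact hl'
  · intro x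
    simp only [Equiv.trans_apply, Equiv.apply_symm_apply, hgm, gmod_invol,
      Equiv.symm_apply_apply]
  · rw [hg, hH, gmod_H0, ← hH, image_symm_image]
  · rw [mem_arcs]
    refine ⟨by rw [card_image_of_injective _ c.symm.injective, K0_card], ?_⟩
    intro l hl
    rw [← card_inter_image c l (K0.image c.symm), image_image_symm]
    exact K0_arc _ (hlm l hl)
  · rw [← card_inter_image c (K0.image c.symm) (univ.image lam), image_image_symm, hH]
    exact K0_inter
  · rw [hg, image_image_symm, card_inter_image c.symm]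
    exact K0_swap

theorem exists_swap {L : Finset (Finset α)} (hP : IsPlane4 L) {H : Finset α}
    (hH : H ∈ arcs L 6) :
    ∃ g : α ≃ α, IsCol L L g ∧ (∀ x, g (g x) = x) ∧ H.image g = H ∧
      ∃ K : Finset α, K ∈ arcs L 6 ∧ (K ∩ H).card = 3 ∧ (K.image g ∩ K).card = 3 := by
  have hA := mem_arcs.mp hH
  obtain ⟨ε, -⟩ : ∃ ε : Fin 6 ≃ ↥H, True := ⟨(Finset.equivFinOfCardEq hA.1).symm, trivial⟩
  have hF := Frame.of_hyperoval hA.2 ε
  have himg : univ.image (fun i => (ε i : α)) = H := by
    ext y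
    simp only [mem_image, mem_univ, true_and]
    constructor
    · rintro ⟨i, rfl⟩
      exact (ε i).2
    · intro hy
      exact ⟨ε.symm ⟨y, hy⟩, by simp⟩
  have := exists_swap_frame hP hF
  rw [himg] at this
  exact this

/-- a collineation between two planes matching given hyperovals. -/
theorem exists_col_of_hyperovals {L : Finset (Finset α)} (hP : IsPlane4 L)
    {L' : Finset (Finset β)} (hP' : IsPlane4 L') {H : Finset α} (hH : H ∈ arcs L 6)
    {H' : Finset β} (hH' : H' ∈ arcs L' 6) :
    ∃ e : α ≃ β, IsCol L L' e ∧ H.image e = H' := by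
  have hA := mem_arcs.mp hH
  have hA' := mem_arcs.mp hH'
  obtain ⟨ε, -⟩ : ∃ ε : Fin 6 ≃ ↥H, True := ⟨(Finset.equivFinOfCardEq hA.1).symm, trivial⟩
  obtain ⟨ε', -⟩ : ∃ ε' : Fin 6 ≃ ↥H', True := ⟨(Finset.equivFinOfCardEq hA'.1).symm, trivial⟩
  have hF := Frame.of_hyperoval hA.2 ε
  have hF' := Frame.of_hyperoval hA'.2 ε'
  obtain ⟨e, he1, he2⟩ := iso_of_frames hP hF hP' hF'
  refine ⟨e, IsCol.of_set he2, ?_⟩
  ext y
  constructor
  · intro hy
    obtain ⟨x, hx, rfl⟩ := mem_image.mp hy
    have h1 := he1 (ε.symm ⟨x, hx⟩)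
    simp only [Equiv.apply_symm_apply] at h1
    rw [h1]
    exact (ε' _).2
  · intro hy
    have h1 := he1 (ε'.symm ⟨y, hy⟩)
    simp only [Equiv.apply_symm_apply] at h1
    rw [← h1]
    exact mem_image_of_mem _ (ε _).2

end Cfsg.Agent.Lib.Helper2.Plane4
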