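import Cfsg.Agent.Lib.Helper2.Plane4S
import Cfsg.Agent.Lib.Helper2.S22A
import Cfsg.Agent.Lib.Helper9.GolayQR5

set_option autoImplicit false
set_option linter.unusedSectionVars false
set_option linter.unusedVariables false

/-! The three classes of hyperovals of a plane of order 4 (even intersection is an equivalence
relation with three classes), and collineations matching two of the classes. -/

namespace Cfsg.Agent.Lib.Helper2.Plane4

open Finset

universe u

/-! ### derived designs -/

theorem steiner_derive {γ : Type*} [Fintype γ] [DecidableEq γ] (t k : ℕ)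
    (B : Finset (Finset (Option γ)))
    (hB : Cfsg.IsSteinerSystem (t + 1) (k + 1) (B : Set (Finset (Option γ)))) :
    Cfsg.IsSteinerSystem t k (S22.lines B : Set (Finset γ)) := by
  obtain ⟨hk, hu⟩ := hB
  constructor
  · intro l hl
    rw [mem_coe, S22.lines, mem_image] at hl
    obtain ⟨b, hb, rfl⟩ := hl
    rw [mem_filter] at hb
    have h1 := S22.card_eraseNone_of_mem hb.2
    have h2 := hk b (mem_coe.mpr hb.1)
    omega
  · intro s hs
    have h3 : (insertNone s).card = t + 1 := by rw [card_insertNone, hs]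
    obtain ⟨b, ⟨hbB, hsb⟩, hbu⟩ := hu (insertNone s) h3
    have hnb : none ∈ b := hsb none_mem_insertNone
    refine ⟨eraseNone b, ⟨?_, ?_⟩, ?_⟩
    · exact mem_coe.mpr (mem_image.mpr ⟨b, mem_filter.mpr ⟨mem_coe.mp hbB, hnb⟩, rfl⟩)
    · intro x hx
      rw [mem_eraseNone]
      exact hsb (some_mem_insertNone.mpr hx)
    · rintro l' ⟨hl', hsl'⟩
      rw [mem_coe, S22.lines, mem_image] at hl'
      obtain ⟨b', hb', rfl⟩ := hl'
      rw [mem_filter] at hb'
      have : b' = b := by
        apply hbu b' ⟨mem_coe.mpr hb'.1, ?_⟩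
        intro o ho
        cases o with
        | none => exact hb'.2
        | some x =>
          rw [some_mem_insertNone] at ho
          exact mem_eraseNone.mp (hsl' ho)
      rw [this]

theorem exists_option_model {α : Type u} [Fintype α] [DecidableEq α] (n : ℕ)
    (hα : Fintype.card α = n + 1) (t k : ℕ) (B : Set (Finset α))
    (hB : Cfsg.IsSteinerSystem t k B) :
    ∃ (γ : Type u) (_ : Fintype γ) (_ : DecidableEq γ) (B' : Finset (Finset (Option γ))),
      Fintype.card γ = n ∧ Cfsg.IsSteinerSystem t k (B' : Set (Finset (Option γ))) := by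
  obtain ⟨Bf, rfl⟩ := Cfsg.Agent.Lib.Helper9.Steiner5.exists_finset B
  obtain ⟨a⟩ : Nonempty α := Fintype.card_pos_iff.mp (by omega)
  have e0 : α ≃ Option {x // x ≠ a} := (Equiv.optionSubtypeNe a).symm
  have hγ : Fintype.card {x // x ≠ a} = n := by
    have h1 := Fintype.card_congr e0
    rw [Fintype.card_option, hα] at h1
    omega
  exact ⟨{x // x ≠ a}, inferInstance, inferInstance, _, hγ, S22.steiner_image e0 t k Bf hB⟩

theorem exists_derived {α : Type u} [Fintype α] [DecidableEq α] (n : ℕ)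
    (hα : Fintype.card α = n + 1) (t k : ℕ) (B : Set (Finset α))
    (hB : Cfsg.IsSteinerSystem (t + 1) (k + 1) B) :
    ∃ (γ : Type u) (_ : Fintype γ) (_ : DecidableEq γ) (B' : Finset (Finset γ)),
      Fintype.card γ = n ∧ Cfsg.IsSteinerSystem t k (B' : Set (Finset γ)) := by
  obtain ⟨γ, i1, i2, B', hγ, hB'⟩ := exists_option_model n hα (t + 1) (k + 1) B hB
  exact ⟨γ, i1, i2, _, hγ, steiner_derive t k B' hB'⟩

/-- a reference S(3,6,22), from the octads. -/
theorem exists_ref :
    ∃ (γ : Type) (_ : Fintype γ) (_ : DecidableEq γ) (B : Finset (Finset (Option γ))),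
      Fintype.card γ = 21 ∧ Cfsg.IsSteinerSystem 3 6 (B : Set (Finset (Option γ))) := by
  obtain ⟨γ1, i1, i2, B1, h1, hB1⟩ := exists_derived 23
    Cfsg.Agent.Lib.Helper9.GolayQR5.card_golayPt 4 7 Cfsg.octads
    Cfsg.Agent.Lib.Helper9.GolayQR5.octads_isSteiner
  obtain ⟨γ2, j1, j2, B2, h2, hB2⟩ := exists_derived 22 h1 3 6 (B1 : Set (Finset γ1)) hB1
  exact exists_option_model 21 h2 3 6 (B2 : Set (Finset γ2)) hB2

/-! ### transitivity of even intersection -/

variable {α : Type*} [Fintype α] [DecidableEq α] {β : Type*} [Fintype β] [DecidableEq β]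

/-- two hyperovals meeting a third one evenly meet evenly. -/
theorem even_trans {L : Finset (Finset α)} (hP : IsPlane4 L) {H K M : Finset α}
    (hH : H ∈ arcs L 6) (hK : K ∈ arcs L 6) (hM : M ∈ arcs L 6) (h1 : Even (K ∩ H).card)
    (h2 : Even (M ∩ H).card) : Even (K ∩ M).card := by
  obtain ⟨γ, i1, i2, B, hγ, hB⟩ := exists_ref
  have hP0 := S22.plane hγ hB
  obtain ⟨H0, hH0⟩ := S22.exists_oval hγ hB
  obtain ⟨e, hcol, hHimg⟩ := exists_col_of_hyperovals hP hP0 hH (S22.oval_mem_arcs hγ hB hH0)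
  have hc : (S22.lines B).card ≤ L.card := by rw [hP.lines, hP0.lines]
  have key : ∀ X, X ∈ arcs L 6 → Even (X ∩ H).card → X.image e ∈ S22.ovals B := by
    intro X hX hev
    rw [S22.ovals_eq hγ hB hH0, mem_filter]
    refine ⟨hcol.arcs hc hX, ?_⟩
    rw [← hHimg, card_inter_image]
    exact hev
  have := S22.oval_even hγ hB (key K hK h1) (key M hM h2)
  rwa [card_inter_image] at this

theorem class_eq {L : Finset (Finset α)} (hP : IsPlane4 L) {F : Finset (Finset α)}
    (hF : ∀ H ∈ F, H ∈ arcs L 6) (hc : F.card = 56)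
    (hev : ∀ H ∈ F, ∀ K ∈ F, Even (H ∩ K).card) {H₀ : Finset α} (h₀ : H₀ ∈ F) :
    F = (arcs L 6).filter (fun H => Even (H ∩ H₀).card) := by
  apply eq_of_subset_of_card_le
  · intro H hH
    exact mem_filter.mpr ⟨hF H hH, hev H hH H₀ h₀⟩
  · rw [even_count hP (hF H₀ h₀), hc]

/-- there are only three classes. -/
theorem three_classes {L : Finset (Finset α)} (hP : IsPlane4 L) {H K M N : Finset α}
    (hH : H ∈ arcs L 6) (hK : K ∈ arcs L 6) (hM : M ∈ arcs L 6) (hN : N ∈ arcs L 6)
    (hHK : ¬ Even (H ∩ K).card) (hHM : ¬ Even (H ∩ M).card) (hKM : ¬ Even (K ∩ M).card) :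
    Even (N ∩ H).card ∨ Even (N ∩ K).card ∨ Even (N ∩ M).card := by
  by_contra hcon
  push Not at hcon
  obtain ⟨n1, n2, n3⟩ := hcon
  have d : ∀ A B : Finset α, A ∈ arcs L 6 → B ∈ arcs L 6 → ¬ Even (A ∩ B).card →
      Disjoint ((arcs L 6).filter (fun X => Even (X ∩ A).card))
        ((arcs L 6).filter (fun X => Even (X ∩ B).card)) := by
    intro A B hA hB hAB
    rw [disjoint_left]
    intro X hXA hXB
    rw [mem_filter] at hXA hXB
    apply hAB
    have := even_trans hP hXA.1 hA hB (by rw [inter_comm]; exact hXA.2)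
      (by rw [inter_comm]; exact hXB.2)
    exact this
  have c1 := even_count hP hH
  have c2 := even_count hP hK
  have c3 := even_count hP hM
  have hsub : ((arcs L 6).filter (fun X => Even (X ∩ H).card)
      ∪ (arcs L 6).filter (fun X => Even (X ∩ K).card))
      ∪ (arcs L 6).filter (fun X => Even (X ∩ M).card) ⊆ (arcs L 6).erase N := by
    intro X hX
    rw [mem_erase]
    simp only [mem_union, mem_filter] at hX
    rcases hX with (⟨hX1, hX2⟩ | ⟨hX1, hX2⟩) | ⟨hX1, hX2⟩
    · exact ⟨fun h => n1 (h ▸ hX2), hX1⟩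
    · exact ⟨fun h => n2 (h ▸ hX2), hX1⟩
    · exact ⟨fun h => n3 (h ▸ hX2), hX1⟩
  have hcard := card_le_card hsub
  rw [card_erase_of_mem hN, (card_arcs hP).2, card_union_of_disjoint, card_union_of_disjoint
    (d H K hH hK hHK), c1, c2, c3] at hcard
  · omega
  · rw [disjoint_union_left]
    exact ⟨d H M hH hM hHM, d K M hK hM hKM⟩

/-- the swap interchanges the two classes odd to the fixed hyperoval. -/
theorem swap_class {L : Finset (Finset α)} (hP : IsPlane4 L) {A K M Z : Finset α}
    (hA : A ∈ arcs L 6) (hK : K ∈ arcs L 6) (hM : M ∈ arcs L 6) (hZ : Z ∈ arcs L 6)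
    {g : α ≃ α} (hg : IsCol L L g) (hinv : ∀ x, g (g x) = x) (hgA : A.image g = A)
    (hAK : ¬ Even (A ∩ K).card) (hAM : ¬ Even (A ∩ M).card) (hKM : ¬ Even (K ∩ M).card)
    (hZA : ¬ Even (Z ∩ A).card) (hZg : ¬ Even (Z.image g ∩ Z).card) :
    Even (K.image g ∩ M).card := by
  have hgg : ∀ X : Finset α, (X.image g).image g = X := by
    intro X
    have : ((g : α → α) ∘ (g : α → α)) = id := funext hinv
    rw [image_image, this, image_id]
  have hc : L.card ≤ L.card := le_refl _
  have hgZ := hg.arcs hc hZ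
  have hgK := hg.arcs hc hK
  have h1 : (Z.image g ∩ A).card = (Z ∩ A).card := by
    conv_lhs => rw [← hgA]
    exact card_inter_image g Z A
  have t1 := three_classes hP hA hK hM hZ hAK hAM hKM
  have t2 := three_classes hP hA hK hM hgZ hAK hAM hKM
  rw [h1] at t2
  rcases t1 with t1 | hZK | hZM
  · exact absurd t1 hZA
  · rcases t2 with t2 | h | h
    · exact absurd t2 hZA
    · exact absurd (even_trans hP hK hgZ hZ h hZK) hZg
    · -- gZ ~ M
      apply even_trans hP hgZ hgK hM
      · rw [card_inter_image, inter_comm]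
        exact hZK
      · rw [inter_comm]
        exact h
  · rcases t2 with t2 | h | h
    · exact absurd t2 hZA
    · -- gZ ~ K, so Z ~ gK
      have h2 := card_inter_image g (Z.image g) K
      rw [hgg] at h2
      apply even_trans hP hZ hgK hM
      · rw [inter_comm, h2]
        exact h
      · rw [inter_comm]
        exact hZM
    · exact absurd (even_trans hP hM hgZ hZ h hZM) hZg

/-- collineations matching two odd pairs of hyperovals, up to class. -/
theorem core_lemma {L : Finset (Finset α)} (hP : IsPlane4 L) {L' : Finset (Finset β)}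
    (hP' : IsPlane4 L') {H₁ H₂ : Finset α} (h₁ : H₁ ∈ arcs L 6) (h₂ : H₂ ∈ arcs L 6)
    (ho : ¬ Even (H₁ ∩ H₂).card) {H₁' H₂' : Finset β} (h₁' : H₁' ∈ arcs L' 6)
    (h₂' : H₂' ∈ arcs L' 6) (ho' : ¬ Even (H₁' ∩ H₂').card) :
    ∃ e : α ≃ β, IsCol L L' e ∧
      (∀ H ∈ arcs L 6, (Even (H ∩ H₁).card ↔ Even (H.image e ∩ H₁').card)) ∧
      (∀ H ∈ arcs L 6, (Even (H ∩ H₂).card ↔ Even (H.image e ∩ H₂').card)) := by
  obtain ⟨e₀, hcol₀, himg₀⟩ := exists_col_of_hyperovals hP hP' h₁ h₁'
  have hc : L'.card ≤ L.card := by rw [hP.lines, hP'.lines]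
  have hK' : H₂.image e₀ ∈ arcs L' 6 := hcol₀.arcs hc h₂
  by_cases hcase : Even (H₂.image e₀ ∩ H₂').card
  · refine ⟨e₀, hcol₀, ?_, ?_⟩
    · intro H hH
      rw [← himg₀, card_inter_image]
    · intro H hH
      have hX := hcol₀.arcs hc hH
      rw [← card_inter_image e₀ H H₂]
      constructor
      · intro h
        exact even_trans hP' hK' hX h₂' h (by rw [inter_comm]; exact hcase)
      · intro h
        exact even_trans hP' h₂' hX hK' h hcase
  · obtain ⟨g, hg, hinv, hgH, Z, hZ, hZ1, hZ2⟩ := exists_swap hP' h₁'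
    have o3 : ¬ Even 3 := by decide
    have hAK : ¬ Even (H₁' ∩ H₂.image e₀).card := by
      rw [← himg₀, card_inter_image]
      exact ho
    have hsw : Even ((H₂.image e₀).image g ∩ H₂').card :=
      swap_class hP' h₁' hK' h₂' hZ hg hinv hgH hAK ho' hcase (by rw [hZ1]; exact o3)
        (by rw [hZ2]; exact o3)
    have hc' : L'.card ≤ L'.card := le_refl _
    have hgK := hg.arcs hc' hK'
    refine ⟨e₀.trans g, hcol₀.trans hg, ?_, ?_⟩
    · intro H hH
      rw [image_trans, show H₁' = (H₁.image e₀).image g from by rw [himg₀, hgH],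
        card_inter_image, card_inter_image]
    · intro H hH
      have hX := hg.arcs hc' (hcol₀.arcs hc hH)
      rw [image_trans, ← card_inter_image e₀ H H₂, ← card_inter_image g (H.image e₀)]
      constructor
      · intro h
        exact even_trans hP' hgK hX h₂' h (by rw [inter_comm]; exact hsw)
      · intro h
        exact even_trans hP' h₂' hX hgK h hsw

end Cfsg.Agent.Lib.Helper2.Plane4
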