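import Cfsg.Agent.Lib.Helper2.StrongInv2

set_option autoImplicit false

namespace Cfsg.Agent.Lib.Helper2.PrimeIdx

open Cfsg Cfsg.FusionSystem Cfsg.Agent.Lib.Helper9 Cfsg.Agent.Lib.Helper2.StrongInv

variable {Ω : Type*} [Group Ω] {S : Subgroup Ω}

section Frattini

variable [Finite S] {p : ℕ} [Fact p.Prime] {F : FusionSystem S} {T : Subgroup Ω}
  {E : FusionSystem T}

/-- the Frattini condition from `Aut_F(T)`-invariance and a factorization of automorphisms of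
fully normalized subgroups (given the induction hypothesis) -/
theorem frattini_of_aut (hS : IsPGroup p S) (hF : F.IsSaturated p)
    (hT : F.StronglyClosed T) (hInv : Inv F E)
    (hAut : ∀ P : Subgroup Ω, P < T → F.IsFullyNormalized P →
      (∀ P₁ : Subgroup Ω, P₁ ≤ T → Nat.card P < Nat.card P₁ → ∀ φ ∈ F.Hom P₁, Fr F E P₁ φ) →
      ∀ β : MulAut P, β ∈ F.autGroup P → Fr F E P (P.subtype.comp β.toMonoidHom)) :
    ∀ (n : ℕ) (P : Subgroup Ω), P ≤ T → Nat.card T - Nat.card P = n →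
      ∀ φ ∈ F.Hom P, Fr F E P φ := by
  have hTS : T ≤ S := hT.1
  haveI : Finite T := finite_of_le hTS
  intro n
  induction n using Nat.strong_induction_on with
  | _ n ih =>
    intro P hPT hn φ hφ
    have hIH : ∀ P₁ : Subgroup Ω, P₁ ≤ T → Nat.card P < Nat.card P₁ →
        ∀ φ ∈ F.Hom P₁, Fr F E P₁ φ := by
      intro P₁ hP₁ hlt
      have hle : Nat.card P₁ ≤ Nat.card T := Subgroup.card_le_of_le hP₁
      exact ih (Nat.card T - Nat.card P₁) (by omega) P₁ hP₁ rfl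
    have hPS : P ≤ S := hPT.trans hTS
    haveI : Finite P := finite_of_le hPS
    obtain ⟨P', hP'⟩ : ∃ P', φ.range = P' := ⟨_, rfl⟩
    have hP'T : P' ≤ T := by
      rw [← hP']
      rintro _ ⟨x, rfl⟩
      exact hT.2 P hPT φ hφ x
    have hcardP' : Nat.card P' = Nat.card P := (card_eq_of_isConj F ⟨φ, hφ, hP'⟩).symm
    by_cases hPeq : P = T
    · have hr : φ.range = P := by
        rw [hP']
        haveI : Finite P' := finite_of_le (hP'T.trans hTS)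
        rw [hPeq]
        apply Subgroup.eq_of_le_of_card_ge hP'T
        rw [hcardP', hPeq]
      obtain ⟨α, hα, hαφ⟩ := exists_aut_of_hom F hφ hr
      subst hPeq
      exact ⟨α, hα, P.subtype, subtype_mem E le_rfl, fun x hx => (hαφ x).symm⟩
    · have hlt : P < T := lt_of_le_of_ne hPT hPeq
      obtain ⟨Pn, hPPn, hPnn⟩ := exists_isConj_fullyNormalized F hPS
      have hfa := fullyAutomized_of_fullyNormalized hS F hF hPnn
      have hfc := fullyCentralized_of_fullyNormalized hS F hF hPnn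
      have hrec := receptive_of_fullyCentralized hS F hF hfc
      have hP'Pn : F.IsConj P' Pn := isConj_trans F (isConj_symm F ⟨φ, hφ, hP'⟩) hPPn
      obtain ⟨χ, hχ, -, hχm⟩ := exists_normalizer_hom hS F Pn P hfa hrec hPPn
      obtain ⟨χ', hχ', -, hχ'm⟩ := exists_normalizer_hom hS F Pn P' hfa hrec hP'Pn
      have hcardPn : Nat.card Pn = Nat.card P := (card_eq_of_isConj F hPPn).symm
      have hcardlt : Nat.card P < Nat.card T := card_lt_of_lt' hlt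
      have hP'lt : P' < T := by
        refine lt_of_le_of_ne hP'T ?_
        intro h
        rw [h] at hcardP'
        omega
      have hPnT : Pn ≤ T := by
        obtain ⟨ρ, hρ, hρr⟩ := hPPn
        rw [← hρr]
        rintro _ ⟨x, rfl⟩
        exact hT.2 P hPT ρ hρ x
      have hPnlt : Pn < T := by
        refine lt_of_le_of_ne hPnT ?_
        intro h
        rw [h] at hcardPn
        omega
      have hIH' : ∀ P₁ : Subgroup Ω, P₁ ≤ T → Nat.card P' < Nat.card P₁ →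
          ∀ φ ∈ F.Hom P₁, Fr F E P₁ φ := by
        rw [hcardP']; exact hIH
      have hIHn : ∀ P₁ : Subgroup Ω, P₁ ≤ T → Nat.card Pn < Nat.card P₁ →
          ∀ φ ∈ F.Hom P₁, Fr F E P₁ φ := by
        rw [hcardPn]; exact hIH
      have hPN := self_le_normalizerIn' (S := S) hPS
      have hP'N := self_le_normalizerIn' (S := S) (hP'T.trans hTS)
      have hFrχ₀ : Fr F E P (χ.comp (Subgroup.inclusion hPN)) :=
        Fr.of_normalizer_hom hS hTS hIH hlt hχ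
      have hFrχ'₀ : Fr F E P' (χ'.comp (Subgroup.inclusion hP'N)) :=
        Fr.of_normalizer_hom hS hTS hIH' hP'lt hχ'
      have hχ₀mem := restrict_mem F hχ hPN
      have hχ'₀mem := restrict_mem F hχ' hP'N
      have hχ₀r : (χ.comp (Subgroup.inclusion hPN)).range = Pn := by
        rw [range_comp_inclusion]; exact hχm
      have hχ'₀r : (χ'.comp (Subgroup.inclusion hP'N)).range = Pn := by
        rw [range_comp_inclusion]; exact hχ'm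
      obtain ⟨θ, hθ, hθχ, hθr, -⟩ := inv_hom F hχ₀mem hχ₀r
      obtain ⟨θ', hθ', hθ'χ', hθ'r, -⟩ := inv_hom F hχ'₀mem hχ'₀r
      have hFrθ' : Fr F E Pn θ' := Fr.inv hInv hFrχ'₀ hχ'₀r hθ'χ'
      have h1 : ∀ y : Pn, θ y ∈ P := fun y => hθr.le ⟨y, rfl⟩
      obtain ⟨β₁, hβ₁, hβ₁e⟩ := comp_hom F hθ hφ h1
      have h2 : ∀ y : Pn, β₁ y ∈ P' := fun y => by
        rw [hβ₁e]; exact hP'.le ⟨_, rfl⟩
      obtain ⟨β, hβ, hβe⟩ := comp_hom F hβ₁ hχ'₀mem h2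
      haveI : Finite Pn := finite_of_le (hPnT.trans hTS)
      have hβr : β.range = Pn := by
        apply Subgroup.eq_of_le_of_card_ge
        · rintro _ ⟨y, rfl⟩
          rw [hβe]
          exact hχ'₀r.le ⟨_, rfl⟩
        · exact (Nat.card_congr (MonoidHom.ofInjective (F.injective_of_mem hβ)).toEquiv).le
      obtain ⟨βa, hβa, hβae⟩ := exists_aut_of_hom F hβ hβr
      have hFrβ : Fr F E Pn (Pn.subtype.comp βa.toMonoidHom) :=
        hAut Pn hPnlt hPnn hIHn βa hβa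
      have hm1 : ∀ x : P, (χ.comp (Subgroup.inclusion hPN)) x ∈ Pn :=
        fun x => hχ₀r.le ⟨x, rfl⟩
      have hFr1 := Fr.comp hInv hFrχ₀ hFrβ hm1
      have hm2 : ∀ x : P, ((Pn.subtype.comp βa.toMonoidHom).comp
          ((χ.comp (Subgroup.inclusion hPN)).codRestrict Pn hm1)) x ∈ Pn :=
        fun x => (βa _).2
      have hFr2 := Fr.comp hInv hFr1 hFrθ' hm2
      have e : θ'.comp (((Pn.subtype.comp βa.toMonoidHom).comp
          ((χ.comp (Subgroup.inclusion hPN)).codRestrict Pn hm1)).codRestrict Pn hm2) = φ := by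
        ext x
        have hφxP' : φ x ∈ P' := hP'.le ⟨x, rfl⟩
        have e1 : ((βa ⟨(χ.comp (Subgroup.inclusion hPN)) x, hm1 x⟩ : Pn) : Ω) =
            (χ'.comp (Subgroup.inclusion hP'N)) ⟨φ x, hφxP'⟩ := by
          rw [hβae, hβe]
          congr 1
          apply Subtype.ext
          show β₁ ⟨(χ.comp (Subgroup.inclusion hPN)) x, hm1 x⟩ = φ x
          rw [hβ₁e]
          congr 1
          apply Subtype.ext
          exact hθχ x _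
        show θ' ⟨((βa ⟨(χ.comp (Subgroup.inclusion hPN)) x, hm1 x⟩ : Pn) : Ω), hm2 x⟩ = φ x
        have e2 : (⟨((βa ⟨(χ.comp (Subgroup.inclusion hPN)) x, hm1 x⟩ : Pn) : Ω), hm2 x⟩ : Pn) =
            ⟨(χ'.comp (Subgroup.inclusion hP'N)) ⟨φ x, hφxP'⟩, hχ'₀r.le ⟨_, rfl⟩⟩ :=
          Subtype.ext e1
        rw [e2]
        exact hθ'χ' ⟨φ x, hφxP'⟩ _
      rw [e] at hFr2
      exact hFr2

end Frattini

theorem Fr.mono {F : FusionSystem S} {E₀ E : FusionSystem S} (hle : E₀.IsSubsystemOf E)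
    {P : Subgroup Ω} {φ : P →* Ω} (h : Fr F E₀ P φ) : Fr F E P φ := by
  obtain ⟨α, hα, φ₀, hφ₀, he⟩ := h
  exact ⟨α, hα, φ₀, hle P hφ₀, he⟩

/-! ### `O^{p'}(Aut_F(P))` inside `MulAut P` -/

/-- `O^{p'}(Aut_F(P))` as a subgroup of `MulAut P` -/
def OppM (F : FusionSystem S) (p : ℕ) (P : Subgroup Ω) : Subgroup (MulAut P) :=
  Subgroup.closure {a : MulAut P | a ∈ F.autGroup P ∧ ∃ k : ℕ, orderOf a = p ^ k}

theorem oppM_le_iff {F : FusionSystem S} {p : ℕ} {P : Subgroup Ω} {K : Subgroup (MulAut P)} :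
    OppM F p P ≤ K ↔
      ∀ a : MulAut P, a ∈ F.autGroup P → (∃ k : ℕ, orderOf a = p ^ k) → a ∈ K := by
  unfold OppM
  rw [Subgroup.closure_le]
  constructor
  · intro h a ha hk
    exact h ⟨ha, hk⟩
  · rintro h a ⟨ha, hk⟩
    exact h a ha hk

theorem mem_oppM_gen {F : FusionSystem S} {p : ℕ} {P : Subgroup Ω} {a : MulAut P}
    (ha : a ∈ F.autGroup P) (hk : ∃ k : ℕ, orderOf a = p ^ k) : a ∈ OppM F p P :=
  Subgroup.subset_closure ⟨ha, hk⟩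

theorem map_closure_eq_oppM (F : FusionSystem S) (p : ℕ) (P : Subgroup Ω) :
    (Subgroup.closure {α : ↥(F.autGroup P) | ∃ k : ℕ, orderOf α = p ^ k}).map
      (F.autGroup P).subtype = OppM F p P := by
  rw [MonoidHom.map_closure]
  unfold OppM
  congr 1
  ext a
  constructor
  · rintro ⟨α, ⟨k, hk⟩, rfl⟩
    exact ⟨α.2, k, (Subgroup.orderOf_coe α).trans hk⟩
  · rintro ⟨ha, k, hk⟩
    exact ⟨⟨a, ha⟩, ⟨k, (Subgroup.orderOf_coe (⟨a, ha⟩ : ↥(F.autGroup P))).symm.trans hk⟩, rfl⟩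

theorem oppM_le_autGroup (F : FusionSystem S) (p : ℕ) (P : Subgroup Ω) :
    OppM F p P ≤ F.autGroup P :=
  oppM_le_iff.mpr fun _ ha _ => ha

theorem mem_oppM_of_pow {F : FusionSystem S} {p : ℕ} [hp : Fact p.Prime] {P : Subgroup Ω}
    {a : MulAut P} (ha : a ∈ F.autGroup P) {k : ℕ} (hk : a ^ (p ^ k) = 1) : a ∈ OppM F p P := by
  apply mem_oppM_gen ha
  have h1 : orderOf a ∣ p ^ k := orderOf_dvd_of_pow_eq_one hk
  obtain ⟨j, -, hj⟩ := (Nat.dvd_prime_pow hp.out).1 h1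
  exact ⟨j, hj⟩

theorem oppM_conj_mem {F : FusionSystem S} {p : ℕ} {P : Subgroup Ω} {a k : MulAut P}
    (ha : a ∈ F.autGroup P) (hk : k ∈ OppM F p P) : a * k * a⁻¹ ∈ OppM F p P := by
  have hle : OppM F p P ≤ (OppM F p P).comap (MulAut.conj a).toMonoidHom := by
    apply oppM_le_iff.mpr
    intro x hx hxk
    show (MulAut.conj a) x ∈ OppM F p P
    apply mem_oppM_gen
    · show a * x * a⁻¹ ∈ F.autGroup P
      exact (F.autGroup P).mul_mem ((F.autGroup P).mul_mem ha hx) ((F.autGroup P).inv_mem ha)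
    · obtain ⟨j, hj⟩ := hxk
      exact ⟨j, (MulEquiv.orderOf_eq (MulAut.conj a) x).trans hj⟩
  exact hle hk

theorem oppM_congr (F : FusionSystem S) (p : ℕ) {Q P : Subgroup Ω} {ψ : Q →* Ω}
    (hψ : ψ ∈ F.Hom Q) (hP : ψ.range = P) {γ : MulAut Q} (hγ : γ ∈ OppM F p Q) :
    MulAut.congr (equivOfRange ψ (F.injective_of_mem hψ) hP) γ ∈ OppM F p P := by
  have hle : OppM F p Q ≤ (OppM F p P).comap
      (MulAut.congr (equivOfRange ψ (F.injective_of_mem hψ) hP)).toMonoidHom := by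
    apply oppM_le_iff.mpr
    intro x hx hxk
    show MulAut.congr (equivOfRange ψ (F.injective_of_mem hψ) hP) x ∈ OppM F p P
    apply mem_oppM_gen (congr_mem_autGroup F hψ hP hx)
    obtain ⟨j, hj⟩ := hxk
    exact ⟨j, (MulEquiv.orderOf_eq _ x).trans hj⟩
  exact hle hγ

/-! ### Images and conjugates under automorphisms of `S` -/

/-- `P₂` is the image of `P` under `α` -/
def IsImg (α : MulAut S) (P P₂ : Subgroup Ω) : Prop :=
  ∀ y : Ω, y ∈ P₂ ↔ ∃ (x : Ω) (_ : x ∈ P) (hxS : x ∈ S), ((α ⟨x, hxS⟩ : S) : Ω) = y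

/-- `χ` is the `α`-conjugate of `φ` -/
def ConjBy (α : MulAut S) {P P₂ : Subgroup Ω} (φ : P →* Ω) (χ : P₂ →* Ω) : Prop :=
  ∀ (x : P) (hxS : (x : Ω) ∈ S) (h2 : ((α ⟨x, hxS⟩ : S) : Ω) ∈ P₂) (hφx : φ x ∈ S),
    χ ⟨((α ⟨x, hxS⟩ : S) : Ω), h2⟩ = ((α ⟨φ x, hφx⟩ : S) : Ω)

/-- the image of `P` under `α` -/
def imgS (α : MulAut S) (P : Subgroup Ω) : Subgroup Ω :=
  (P.subgroupOf S).map (S.subtype.comp α.toMonoidHom)

theorem isImg_imgS (α : MulAut S) (P : Subgroup Ω) : IsImg α P (imgS α P) := by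
  intro y
  constructor
  · rintro ⟨s, hs, rfl⟩
    exact ⟨s.1, Subgroup.mem_subgroupOf.mp hs, s.2, rfl⟩
  · rintro ⟨x, hx, hxS, rfl⟩
    exact ⟨⟨x, hxS⟩, Subgroup.mem_subgroupOf.mpr hx, rfl⟩

theorem IsImg.le {α : MulAut S} {P P₂ : Subgroup Ω} (h : IsImg α P P₂) : P₂ ≤ S := by
  intro y hy
  obtain ⟨x, -, hxS, rfl⟩ := (h y).mp hy
  exact (α ⟨x, hxS⟩).2

theorem IsImg.mem {α : MulAut S} {P P₂ : Subgroup Ω} (h : IsImg α P P₂) {x : Ω} (hx : x ∈ P)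
    (hxS : x ∈ S) : ((α ⟨x, hxS⟩ : S) : Ω) ∈ P₂ := (h _).mpr ⟨x, hx, hxS, rfl⟩

/-- the restriction of an automorphism of `S` to `P ≤ S` -/
def resAut (α : MulAut S) {P : Subgroup Ω} (hP : P ≤ S) : P →* Ω :=
  (S.subtype.comp α.toMonoidHom).comp (Subgroup.inclusion hP)

theorem resAut_apply (α : MulAut S) {P : Subgroup Ω} (hP : P ≤ S) (x : P) :
    resAut α hP x = ((α ⟨x, hP x.2⟩ : S) : Ω) := rfl

theorem resAut_mem (F : FusionSystem S) {α : MulAut S} (hα : α ∈ F.autGroup S) {P : Subgroup Ω}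
    (hP : P ≤ S) : resAut α hP ∈ F.Hom P :=
  restrict_mem F (hom_of_mem_autGroup F le_rfl hα) hP

theorem resAut_range {α : MulAut S} {P P₂ : Subgroup Ω} (hP : P ≤ S) (h : IsImg α P P₂) :
    (resAut α hP).range = P₂ := by
  ext y
  rw [h y]
  constructor
  · rintro ⟨x, rfl⟩
    exact ⟨x.1, x.2, hP x.2, rfl⟩
  · rintro ⟨x, hx, hxS, rfl⟩
    exact ⟨⟨x, hx⟩, rfl⟩

theorem isConj_of_isImg (F : FusionSystem S) {α : MulAut S} (hα : α ∈ F.autGroup S)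
    {P P₂ : Subgroup Ω} (hP : P ≤ S) (h : IsImg α P P₂) : F.IsConj P P₂ :=
  ⟨_, resAut_mem F hα hP, resAut_range hP h⟩

/-! ### The `Aut_F(S)`-invariant part of a subsystem -/

/-- the maps of `E` all of whose `Aut_F(S)`-conjugates are maps of `E` -/
def invSub (F E : FusionSystem S) : FusionSystem S where
  Hom P := {φ | φ ∈ E.Hom P ∧ ∀ α ∈ F.autGroup S, ∀ P₂ : Subgroup Ω, IsImg α P P₂ →
      ∃ χ ∈ E.Hom P₂, ConjBy α φ χ}
  le_of_mem h := E.le_of_mem h.1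
  injective_of_mem h := E.injective_of_mem h.1
  conj_mem := by
    intro P g hP hg
    refine ⟨E.conj_mem hP hg, ?_⟩
    intro α hα P₂ hP₂
    refine ⟨conjHom P₂ ((α ⟨g, hg⟩ : S) : Ω), E.conj_mem hP₂.le (α ⟨g, hg⟩).2, ?_⟩
    intro x hxS h2 hφx
    show ((α ⟨g, hg⟩ : S) : Ω) * ((α ⟨x, hxS⟩ : S) : Ω) * ((α ⟨g, hg⟩ : S) : Ω)⁻¹ = _
    have e : (⟨conjHom P g x, hφx⟩ : S) = ⟨g, hg⟩ * ⟨x, hxS⟩ * (⟨g, hg⟩ : S)⁻¹ :=
      Subtype.ext rfl
    rw [e, map_mul, map_mul, map_inv]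
    rfl
  comp_mem := by
    rintro P Q φ ψ ⟨hφE, hφ⟩ ⟨hψE, hψ⟩ hm
    refine ⟨E.comp_mem hφE hψE hm, ?_⟩
    intro α hα P₂ hP₂
    obtain ⟨χ₁, hχ₁, hc₁⟩ := hφ α hα P₂ hP₂
    obtain ⟨χ₂, hχ₂, hc₂⟩ := hψ α hα (imgS α Q) (isImg_imgS α Q)
    have hφS : ∀ x : P, φ x ∈ S := (E.le_of_mem hφE).2
    have hm₂ : ∀ y : P₂, χ₁ y ∈ imgS α Q := by
      intro y
      obtain ⟨x, hx, hxS, hxy⟩ := (hP₂ y).mp y.2
      have e : y = ⟨((α ⟨x, hxS⟩ : S) : Ω), hP₂.mem hx hxS⟩ := Subtype.ext hxy.symm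
      rw [e, hc₁ ⟨x, hx⟩ hxS _ (hφS ⟨x, hx⟩)]
      exact (isImg_imgS α Q).mem (hm ⟨x, hx⟩) _
    refine ⟨χ₂.comp (χ₁.codRestrict (imgS α Q) hm₂), E.comp_mem hχ₁ hχ₂ hm₂, ?_⟩
    intro x hxS h2 hφx
    have e1 := hc₁ x hxS h2 (hφS x)
    have e2 := hc₂ ⟨φ x, hm x⟩ (hφS x) ((isImg_imgS α Q).mem (hm x) (hφS x)) hφx
    refine Eq.trans ?_ e2
    show χ₂ ⟨χ₁ ⟨((α ⟨x, hxS⟩ : S) : Ω), h2⟩, hm₂ _⟩ = _
    congr 1
    exact Subtype.ext e1
  inv_mem := by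
    rintro P φ ⟨hφE, hφ⟩
    obtain ⟨θ, hθ, hθφ, hθr, -⟩ := inv_hom E hφE rfl
    refine ⟨θ, ⟨hθ, ?_⟩, fun x => hθφ x ⟨x, rfl⟩⟩
    intro α hα R₂ hR₂
    have hPS : P ≤ S := (E.le_of_mem hφE).1
    have hφS : ∀ x : P, φ x ∈ S := (E.le_of_mem hφE).2
    obtain ⟨χ, hχ, hc⟩ := hφ α hα (imgS α P) (isImg_imgS α P)
    have hχr : χ.range = R₂ := by
      ext y
      constructor
      · rintro ⟨z, rfl⟩
        obtain ⟨x, hx, hxS, hxz⟩ := (isImg_imgS α P z).mp z.2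
        have e : z = ⟨((α ⟨x, hxS⟩ : S) : Ω), (isImg_imgS α P).mem hx hxS⟩ :=
          Subtype.ext hxz.symm
        rw [e, hc ⟨x, hx⟩ hxS _ (hφS ⟨x, hx⟩)]
        exact hR₂.mem ⟨⟨x, hx⟩, rfl⟩ _
      · intro hy
        obtain ⟨w, hw, hwS, rfl⟩ := (hR₂ y).mp hy
        obtain ⟨x, rfl⟩ := hw
        exact ⟨⟨((α ⟨x, hPS x.2⟩ : S) : Ω), (isImg_imgS α P).mem x.2 (hPS x.2)⟩,
          hc x (hPS x.2) _ hwS⟩
    obtain ⟨θ', hθ', hθ'χ, -, -⟩ := inv_hom E hχ hχr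
    refine ⟨θ', hθ', ?_⟩
    intro z hzS h2 hθz
    obtain ⟨x, hx⟩ := z.2
    have ez : z = ⟨φ x, ⟨x, rfl⟩⟩ := Subtype.ext hx.symm
    subst ez
    have e1 : θ ⟨φ x, ⟨x, rfl⟩⟩ = (x : Ω) := hθφ x ⟨x, rfl⟩
    have e2 := hc x (hPS x.2) ((isImg_imgS α P).mem x.2 (hPS x.2)) (hφS x)
    have h2' : χ ⟨((α ⟨x, hPS x.2⟩ : S) : Ω), (isImg_imgS α P).mem x.2 (hPS x.2)⟩ ∈ R₂ := by
      rw [e2]; exact h2
    have e3 := hθ'χ ⟨((α ⟨x, hPS x.2⟩ : S) : Ω), (isImg_imgS α P).mem x.2 (hPS x.2)⟩ h2'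
    have e4 : (⟨((α ⟨φ x, hzS⟩ : S) : Ω), h2⟩ : R₂) =
        ⟨χ ⟨((α ⟨x, hPS x.2⟩ : S) : Ω), (isImg_imgS α P).mem x.2 (hPS x.2)⟩, h2'⟩ :=
      Subtype.ext e2.symm
    rw [e4, e3]
    have e5 : (⟨(x : Ω), hPS x.2⟩ : S) = ⟨θ ⟨φ x, ⟨x, rfl⟩⟩, hθz⟩ := Subtype.ext e1.symm
    exact congrArg (fun s : S => ((α s : S) : Ω)) e5

theorem invSub_le (F E : FusionSystem S) : (invSub F E).IsSubsystemOf E := fun _ _ h => h.1

theorem invSub_inv (F E : FusionSystem S) : Inv F (invSub F E) := by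
  intro P P₂ hPT φ hφ α hα hP₂
  have hImg : IsImg α P P₂ := by
    intro y
    rw [hP₂]
    constructor
    · rintro ⟨x, hx, h⟩
      exact ⟨x, hx, hPT hx, h⟩
    · rintro ⟨x, hx, hxS, h⟩
      exact ⟨x, hx, h⟩
  obtain ⟨χ, hχ, hc⟩ := hφ.2 α hα P₂ hImg
  refine ⟨χ, ⟨hχ, ?_⟩, fun x h2 hφx => hc x (hPT x.2) h2 hφx⟩
  intro β hβ P₃ hP₃
  have hαβ : β * α ∈ F.autGroup S := mul_mem hβ hα
  have hImg3 : IsImg (β * α) P P₃ := by
    intro y
    rw [hP₃ y]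
    constructor
    · rintro ⟨w, hw, hwS, rfl⟩
      obtain ⟨x, hx, hxS, rfl⟩ := (hImg w).mp hw
      exact ⟨x, hx, hxS, rfl⟩
    · rintro ⟨x, hx, hxS, rfl⟩
      exact ⟨((α ⟨x, hxS⟩ : S) : Ω), hImg.mem hx hxS, (α ⟨x, hxS⟩).2, rfl⟩
  obtain ⟨χ', hχ', hc'⟩ := hφ.2 (β * α) hαβ P₃ hImg3
  refine ⟨χ', hχ', ?_⟩
  intro y hyS h3 hχy
  obtain ⟨x, hx, hxS, hxy⟩ := (hImg y).mp y.2
  have ey : y = ⟨((α ⟨x, hxS⟩ : S) : Ω), hImg.mem hx hxS⟩ := Subtype.ext hxy.symm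
  subst ey
  have hφS : φ ⟨x, hx⟩ ∈ S := (E.le_of_mem hφ.1).2 _
  have e1 := hc ⟨x, hx⟩ hxS (hImg.mem hx hxS) hφS
  have e2 := hc' ⟨x, hx⟩ hxS h3 hφS
  refine e2.trans ?_
  show ((β (α ⟨φ ⟨x, hx⟩, hφS⟩) : S) : Ω) = _
  have e3 : (α ⟨φ ⟨x, hx⟩, hφS⟩ : S) =
      ⟨χ ⟨((α ⟨x, hxS⟩ : S) : Ω), hImg.mem hx hxS⟩, hχy⟩ := Subtype.ext e1.symm
  rw [e3]

theorem isCentric_of_isConj (F : FusionSystem S) {R R₂ : Subgroup Ω} (hR : F.IsCentric R)
    (h : F.IsConj R R₂) : F.IsCentric R₂ :=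
  ⟨isConj_le_right F h, fun Q hQ => hR.2 Q (isConj_trans F h hQ)⟩

theorem oppM_le_invSub {p : ℕ} (F E : FusionSystem S)
    (h : ∀ P : Subgroup Ω, F.IsCentric P → OppM F p P ≤ E.autGroup P)
    {R : Subgroup Ω} (hR : F.IsCentric R) : OppM F p R ≤ (invSub F E).autGroup R := by
  have hRS : R ≤ S := hR.1
  apply oppM_le_iff.mpr
  intro γ hγA hγk
  have hγO : γ ∈ OppM F p R := mem_oppM_gen hγA hγk
  rw [mem_autGroup_iff (invSub F E) hRS]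
  refine ⟨hom_of_mem_autGroup E hRS (h R hR hγO), ?_⟩
  intro α hα R₂ hR₂
  have hρ := resAut_mem F hα hRS
  have hρr := resAut_range hRS hR₂
  have hR₂c : F.IsCentric R₂ := isCentric_of_isConj F hR ⟨_, hρ, hρr⟩
  have hγ₂ := oppM_congr F p hρ hρr hγO
  have hγ₂E := h R₂ hR₂c hγ₂
  refine ⟨_, hom_of_mem_autGroup E hR₂.le hγ₂E, ?_⟩
  intro x hxS h2 hφx
  have e1 : (equivOfRange _ (F.injective_of_mem hρ) hρr).symm ⟨((α ⟨x, hxS⟩ : S) : Ω), h2⟩ = x := by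
    apply (equivOfRange _ (F.injective_of_mem hρ) hρr).injective
    rw [MulEquiv.apply_symm_apply]
    apply Subtype.ext
    rfl
  show (((equivOfRange _ (F.injective_of_mem hρ) hρr)
    (γ ((equivOfRange _ (F.injective_of_mem hρ) hρr).symm ⟨((α ⟨x, hxS⟩ : S) : Ω), h2⟩)) : R₂) : Ω) = _
  rw [e1]
  rfl

end Cfsg.Agent.Lib.Helper2.PrimeIdx
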