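import Cfsg.Agent.Lib.Helper2.PrimeIdx1

set_option autoImplicit false

namespace Cfsg.Agent.Lib.Helper2.PrimeIdx

open Cfsg Cfsg.FusionSystem Cfsg.Agent.Lib.Helper9 Cfsg.Agent.Lib.Helper2.StrongInv

variable {Ω : Type*} [Group Ω] {S : Subgroup Ω}

section Main

variable [Finite S] {p : ℕ} [Fact p.Prime] {F : FusionSystem S}

/-- automorphisms of a fully normalized proper subgroup factorize, given the induction
hypothesis -/
theorem fr_of_autGroup {E₀ : FusionSystem S} (hS : IsPGroup p S) (hF : F.IsSaturated p)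
    (hInv : Inv F E₀) (hO : ∀ R : Subgroup Ω, F.IsCentric R → OppM F p R ≤ E₀.autGroup R)
    {P : Subgroup Ω} (hlt : P < S) (hPn : F.IsFullyNormalized P)
    (hIH : ∀ P₁ : Subgroup Ω, P₁ ≤ S → Nat.card P < Nat.card P₁ →
      ∀ φ ∈ F.Hom P₁, Fr F E₀ P₁ φ)
    (β : MulAut P) (hβ : β ∈ F.autGroup P) : Fr F E₀ P (P.subtype.comp β.toMonoidHom) := by
  have hPS : P ≤ S := hlt.le
  haveI : Finite P := finite_of_le hPS
  by_cases hc : F.IsCentric P
  · have hfa := fullyAutomized_of_fullyNormalized hS F hF hPn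
    have hfc := fullyCentralized_of_fullyNormalized hS F hF hPn
    have hrec := receptive_of_fullyCentralized hS F hF hfc
    obtain ⟨-, R, hR⟩ := hfa
    have hKn : ((OppM F p P).subgroupOf (F.autGroup P)).Normal := by
      refine ⟨fun k hk a => ?_⟩
      rw [Subgroup.mem_subgroupOf] at hk ⊢
      exact oppM_conj_mem a.2 hk
    haveI := hKn
    have hfr := Cfsg.Agent.Lib.Helper8.WC.frattini_inf_normal R
      ((OppM F p P).subgroupOf (F.autGroup P))
    have hb : (⟨β, hβ⟩ : ↥(F.autGroup P)) ∈ (⊤ : Subgroup ↥(F.autGroup P)) := Subgroup.mem_top _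
    rw [← hfr, Subgroup.mem_sup_of_normal_right] at hb
    obtain ⟨n, hn, k, hk, hnk⟩ := hb
    have hFrk : Fr F E₀ P (P.subtype.comp (k : MulAut P).toMonoidHom) :=
      Fr.of_mem (hom_of_mem_autGroup E₀ hPS (hO P hc (Subgroup.mem_subgroupOf.mp hk)))
    have hFrn : Fr F E₀ P (P.subtype.comp (n : MulAut P).toMonoidHom) := by
      have hNX : normalizerIn S P ≤
          extender S P (P.subtype.comp (n : MulAut P).toMonoidHom) := by
        intro g hg
        obtain ⟨tg, htg⟩ : ∃ tg : MulAut P, ∀ x : P, ((tg x : P) : Ω) = g * x * g⁻¹ :=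
          ⟨conjAut P ⟨g, hg.2⟩, fun x => rfl⟩
        have htgS : tg ∈ autInducedBy S P :=
          (mem_autInducedBy_iff S P tg).mpr ⟨g, hg.1, htg⟩
        have htgF : tg ∈ F.autGroup P := autInducedBy_le_autGroup F hPS htgS
        have htgO : tg ∈ OppM F p P := by
          obtain ⟨j, hj⟩ := (isPGroup_autInducedBy hS P) ⟨tg, htgS⟩
          apply mem_oppM_of_pow htgF (k := j)
          have h6 := congrArg Subtype.val hj
          simpa using h6
        have hmem : (⟨tg, htgF⟩ : ↥(F.autGroup P)) ∈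
            (R : Subgroup ↥(F.autGroup P)) ⊓ (OppM F p P).subgroupOf (F.autGroup P) := by
          refine ⟨?_, Subgroup.mem_subgroupOf.mpr htgO⟩
          rw [hR]
          exact Subgroup.mem_subgroupOf.mpr htgS
        have hconj := (Subgroup.mem_normalizer_iff.mp hn ⟨tg, htgF⟩).mp hmem
        have h3 : ((n * ⟨tg, htgF⟩ * n⁻¹ : ↥(F.autGroup P)) : MulAut P) ∈ autInducedBy S P := by
          have h4 := hconj.1
          rw [hR] at h4
          exact Subgroup.mem_subgroupOf.mp h4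
        obtain ⟨h, hhS, hh⟩ := (mem_autInducedBy_iff S P _).mp h3
        apply mem_extender_of_conj (n : MulAut P) hg hhS
        intro x hx
        have e := hh ((n : MulAut P) x)
        rw [← e]
        show (((n : MulAut P) ⟨g * x * g⁻¹, hx⟩ : P) : Ω) =
          (((n : MulAut P) (tg ((n : MulAut P)⁻¹ ((n : MulAut P) x))) : P) : Ω)
        rw [MulAut.inv_apply_self]
        have e6 : (⟨g * x * g⁻¹, hx⟩ : P) = tg x := Subtype.ext (htg x).symm
        rw [e6]
      have hrange : (P.subtype.comp (n : MulAut P).toMonoidHom).range = P := by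
        apply le_antisymm
        · rintro _ ⟨x, rfl⟩
          exact ((n : MulAut P) x).2
        · intro y hy
          refine ⟨(n : MulAut P)⁻¹ ⟨y, hy⟩, ?_⟩
          show (((n : MulAut P) ((n : MulAut P)⁻¹ ⟨y, hy⟩) : P) : Ω) = y
          rw [MulAut.apply_inv_self]
      obtain ⟨ψ, hψ, hψe⟩ := hrec.2 P _ (hom_of_mem_autGroup F hPS n.2) hrange
      have hPN : P ≤ normalizerIn S P := self_le_normalizerIn' hPS
      have hNS : normalizerIn S P ≤ S := inf_le_left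
      obtain ⟨g, hgN, hgP⟩ := exists_mem_normalizerIn_not_mem hS hlt
      haveI : Finite ↥(normalizerIn S P) := finite_of_le hNS
      have hPltN : P < normalizerIn S P := lt_of_le_of_ne hPN (fun h => hgP (h ▸ hgN))
      have hcard : Nat.card P < Nat.card ↥(normalizerIn S P) := card_lt_of_lt' hPltN
      have h1 := hIH _ hNS hcard _ (restrict_mem F hψ hNX)
      have h2 := h1.restrict hPN
      have e : (ψ.comp (Subgroup.inclusion hNX)).comp (Subgroup.inclusion hPN) =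
          P.subtype.comp (n : MulAut P).toMonoidHom := by
        ext x
        exact hψe x x.2 (hNX (hPN x.2))
      rw [e] at h2
      exact h2
    have hm : ∀ x : P, (P.subtype.comp (k : MulAut P).toMonoidHom) x ∈ P :=
      fun x => ((k : MulAut P) x).2
    have hFr := Fr.comp hInv hFrk hFrn hm
    have e : (P.subtype.comp (n : MulAut P).toMonoidHom).comp
        ((P.subtype.comp (k : MulAut P).toMonoidHom).codRestrict P hm) =
        P.subtype.comp β.toMonoidHom := by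
      have hβnk : β = (n : MulAut P) * (k : MulAut P) := (congrArg Subtype.val hnk).symm
      rw [hβnk]
      ext x
      rfl
    rw [e] at hFr
    exact hFr
  · obtain ⟨Q, hPQ, φ, hφ, hφβ⟩ := autGroup_subset_extGen_of_not_centric hS F hF hPn hc hβ
    have hQS : Q ≤ S := hom_le F hφ
    haveI : Finite Q := finite_of_le hQS
    have h1 := hIH Q hQS (card_lt_of_lt' hPQ) φ hφ
    have h2 := h1.restrict hPQ.le
    have e : φ.comp (Subgroup.inclusion hPQ.le) = P.subtype.comp β.toMonoidHom := by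
      ext x
      exact hφβ x
    rw [e] at h2
    exact h2

/-- the Frattini factorization with respect to the invariant part of `E` -/
theorem frattini_main (hS : IsPGroup p S) (hF : F.IsSaturated p) (E : FusionSystem S)
    (h : ∀ P : Subgroup Ω, F.IsCentric P → OppM F p P ≤ E.autGroup P)
    (P : Subgroup Ω) (φ : P →* Ω) (hφ : φ ∈ F.Hom P) : Fr F (invSub F E) P φ :=
  frattini_of_aut hS hF ⟨le_rfl, fun _ _ _ hψ x => hom_mem F hψ x⟩ (invSub_inv F E)
    (fun _ hlt hPn hIH β hβ => fr_of_autGroup hS hF (invSub_inv F E)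
      (fun _ hR => oppM_le_invSub F E h hR) hlt hPn hIH β hβ)
    _ P (hom_le F hφ) rfl φ hφ

/-- `P C_S(P)` is centric when `P` is fully centralized -/
theorem centric_sup_centralizer (F : FusionSystem S) {P : Subgroup Ω}
    (hP : F.IsFullyCentralized P) : F.IsCentric (P ⊔ centralizerIn S P) := by
  obtain ⟨hPS, hPc⟩ := hP
  have hCS : centralizerIn S P ≤ S := inf_le_left
  have hDS : P ⊔ centralizerIn S P ≤ S := sup_le hPS hCS
  have hPD : P ≤ P ⊔ centralizerIn S P := le_sup_left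
  have hCD : centralizerIn S P ≤ P ⊔ centralizerIn S P := le_sup_right
  refine ⟨hDS, ?_⟩
  rintro Q ⟨φ, hφ, rfl⟩
  have hρ := restrict_mem F hφ hPD
  obtain ⟨P₁, hP₁⟩ : ∃ P₁, (φ.comp (Subgroup.inclusion hPD)).range = P₁ := ⟨_, rfl⟩
  have hcard := hPc P₁ ⟨_, hρ, hP₁⟩
  have hmap : ∀ (c : Ω) (hc : c ∈ centralizerIn S P), φ ⟨c, hCD hc⟩ ∈ centralizerIn S P₁ := by
    intro c hc
    refine ⟨hom_mem F hφ _, ?_⟩
    show _ ∈ Subgroup.centralizer (P₁ : Set Ω)
    rw [Subgroup.mem_centralizer_iff]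
    intro y hy
    have hy' : y ∈ (φ.comp (Subgroup.inclusion hPD)).range := hP₁ ▸ hy
    obtain ⟨x, rfl⟩ := hy'
    show φ (Subgroup.inclusion hPD x) * φ ⟨c, hCD hc⟩ =
      φ ⟨c, hCD hc⟩ * φ (Subgroup.inclusion hPD x)
    rw [← map_mul, ← map_mul]
    congr 1
    apply Subtype.ext
    exact hc.2 x x.2
  haveI := finite_centralizerIn (S := S) P
  haveI := finite_centralizerIn (S := S) P₁
  obtain ⟨f, hf⟩ : ∃ f : ↥(centralizerIn S P) → ↥(centralizerIn S P₁),
      ∀ c, ((f c : ↥(centralizerIn S P₁)) : Ω) = φ ⟨c.1, hCD c.2⟩ :=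
    ⟨fun c => ⟨φ ⟨c.1, hCD c.2⟩, hmap c.1 c.2⟩, fun c => rfl⟩
  have hfinj : Function.Injective f := by
    intro a b hab
    have h1 : φ ⟨a.1, hCD a.2⟩ = φ ⟨b.1, hCD b.2⟩ := by rw [← hf a, ← hf b, hab]
    have h2 := F.injective_of_mem hφ h1
    exact Subtype.ext (congrArg (fun z : ↥(P ⊔ centralizerIn S P) => (z : Ω)) h2)
  have hfsurj : Function.Surjective f :=
    ((Nat.bijective_iff_injective_and_card f).mpr
      ⟨hfinj, le_antisymm (Nat.card_le_card_of_injective f hfinj) hcard⟩).2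
  intro z hz
  have hz₁ : z ∈ centralizerIn S P₁ := by
    refine ⟨hz.1, ?_⟩
    show z ∈ Subgroup.centralizer (P₁ : Set Ω)
    rw [Subgroup.mem_centralizer_iff]
    intro y hy
    apply (Subgroup.mem_centralizer_iff.mp hz.2) y
    have hy' : y ∈ (φ.comp (Subgroup.inclusion hPD)).range := hP₁ ▸ hy
    obtain ⟨x, rfl⟩ := hy'
    exact ⟨_, rfl⟩
  obtain ⟨c, hc⟩ := hfsurj ⟨z, hz₁⟩
  have h3 : φ ⟨c.1, hCD c.2⟩ = z := by rw [← hf c, hc]
  rw [← h3]
  exact ⟨_, rfl⟩

theorem card_normalizerIn_le_of_isImg (α : MulAut S) {P₀ P₁ : Subgroup Ω} (hP₀ : P₀ ≤ S)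
    (h : IsImg α P₀ P₁) : Nat.card (normalizerIn S P₁) ≤ Nat.card (normalizerIn S P₀) := by
  haveI := finite_normalizerIn (S := S) P₀
  haveI : Finite P₀ := finite_of_le hP₀
  have hmem : ∀ g : ↥(normalizerIn S P₁),
      ((α⁻¹ ⟨g.1, g.2.1⟩ : S) : Ω) ∈ normalizerIn S P₀ := by
    intro g
    refine ⟨(α⁻¹ ⟨g.1, g.2.1⟩).2, ?_⟩
    haveI : Finite ((P₀ : Subgroup Ω) : Set Ω) := ‹Finite P₀›
    apply Subgroup.mem_normalizer_fintype
    intro n hn
    have hnS : n ∈ S := hP₀ hn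
    have h1 : ((α ⟨n, hnS⟩ : S) : Ω) ∈ P₁ := h.mem hn hnS
    have h2 : g.1 * ((α ⟨n, hnS⟩ : S) : Ω) * g.1⁻¹ ∈ P₁ :=
      (Subgroup.mem_normalizer_iff.mp g.2.2 _).mp h1
    obtain ⟨x, hx, hxS, hxe⟩ := (h _).mp h2
    have e : α⁻¹ ⟨g.1, g.2.1⟩ * ⟨n, hnS⟩ * (α⁻¹ ⟨g.1, g.2.1⟩)⁻¹ = (⟨x, hxS⟩ : S) := by
      apply α.injective
      rw [map_mul, map_mul, map_inv, MulAut.apply_inv_self]
      apply Subtype.ext
      exact hxe.symm
    have e' : ((α⁻¹ ⟨g.1, g.2.1⟩ : S) : Ω) * n * ((α⁻¹ ⟨g.1, g.2.1⟩ : S) : Ω)⁻¹ = x :=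
      congrArg Subtype.val e
    rw [e']
    exact hx
  obtain ⟨f, hf⟩ : ∃ f : ↥(normalizerIn S P₁) → ↥(normalizerIn S P₀),
      ∀ g, ((f g : ↥(normalizerIn S P₀)) : Ω) = ((α⁻¹ ⟨g.1, g.2.1⟩ : S) : Ω) :=
    ⟨fun g => ⟨_, hmem g⟩, fun g => rfl⟩
  apply Nat.card_le_card_of_injective f
  intro a b hab
  have h1 : ((α⁻¹ ⟨a.1, a.2.1⟩ : S) : Ω) = ((α⁻¹ ⟨b.1, b.2.1⟩ : S) : Ω) := by
    rw [← hf a, ← hf b, hab]
  have h2 := (α⁻¹).injective (Subtype.ext h1)
  exact Subtype.ext (congrArg (fun s : S => (s : Ω)) h2)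

theorem fullyNormalized_of_isImg (F : FusionSystem S) {α : MulAut S} (hα : α ∈ F.autGroup S)
    {P₀ P₁ : Subgroup Ω} (hP₀ : P₀ ≤ S) (h : IsImg α P₀ P₁) (hP₁ : F.IsFullyNormalized P₁) :
    F.IsFullyNormalized P₀ := by
  refine ⟨hP₀, fun Q hQ => ?_⟩
  have hconj := isConj_of_isImg F hα hP₀ h
  exact (hP₁.2 Q (isConj_trans F (isConj_symm F hconj) hQ)).trans
    (card_normalizerIn_le_of_isImg α hP₀ h)

/-- Step B: for fully normalized `P`, the `p`-elements of `Aut_F(P)` lie in `Aut_E(P)` -/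
theorem oppM_le_of_fullyNormalized (hS : IsPGroup p S) (hF : F.IsSaturated p)
    (E : FusionSystem S)
    (h : ∀ P : Subgroup Ω, F.IsCentric P → OppM F p P ≤ E.autGroup P)
    {P : Subgroup Ω} (hPn : F.IsFullyNormalized P) : OppM F p P ≤ E.autGroup P := by
  have hPS : P ≤ S := hPn.1
  haveI : Finite P := finite_of_le hPS
  have hfc := fullyCentralized_of_fullyNormalized hS F hF hPn
  have hrec := receptive_of_fullyCentralized hS F hF hfc
  apply oppM_le_iff.mpr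
  intro γ hγA hγk
  obtain ⟨k, hk⟩ := hγk
  have hγhom := hom_of_mem_autGroup F hPS hγA
  have hrange : (P.subtype.comp γ.toMonoidHom).range = P := by
    apply le_antisymm
    · rintro _ ⟨x, rfl⟩
      exact (γ x).2
    · intro y hy
      refine ⟨γ⁻¹ ⟨y, hy⟩, ?_⟩
      show ((γ (γ⁻¹ ⟨y, hy⟩) : P) : Ω) = y
      rw [MulAut.apply_inv_self]
  obtain ⟨ψ, hψ, hψe⟩ := hrec.2 P _ hγhom hrange
  have hPX : P ≤ extender S P (P.subtype.comp γ.toMonoidHom) :=
    le_extender hPS _ (fun x => hPS (γ x).2)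
  have hCX : centralizerIn S P ≤ extender S P (P.subtype.comp γ.toMonoidHom) :=
    centralizerIn_le_extender P _
  have hDX : P ⊔ centralizerIn S P ≤ extender S P (P.subtype.comp γ.toMonoidHom) :=
    sup_le hPX hCX
  have hPD : P ≤ P ⊔ centralizerIn S P := le_sup_left
  have hCD : centralizerIn S P ≤ P ⊔ centralizerIn S P := le_sup_right
  have hDS : P ⊔ centralizerIn S P ≤ S := sup_le hPS inf_le_left
  haveI : Finite ↥(P ⊔ centralizerIn S P) := finite_of_le hDS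
  have hψD := restrict_mem F hψ hDX
  have hψP : ∀ x : P, (ψ.comp (Subgroup.inclusion hDX)) (Subgroup.inclusion hPD x) =
      ((γ x : P) : Ω) := fun x => hψe x x.2 (hDX (hPD x.2))
  have hDD : ∀ d : ↥(P ⊔ centralizerIn S P),
      (ψ.comp (Subgroup.inclusion hDX)) d ∈ P ⊔ centralizerIn S P := by
    have key : P ⊔ centralizerIn S P ≤
        ((P ⊔ centralizerIn S P).comap (ψ.comp (Subgroup.inclusion hDX))).map
          (P ⊔ centralizerIn S P).subtype := by
      apply sup_le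
      · intro x hx
        refine ⟨⟨x, hPD hx⟩, ?_, rfl⟩
        show (ψ.comp (Subgroup.inclusion hDX)) ⟨x, hPD hx⟩ ∈ P ⊔ centralizerIn S P
        have h5 := hψP ⟨x, hx⟩
        have h6 : (ψ.comp (Subgroup.inclusion hDX)) ⟨x, hPD hx⟩ = ((γ ⟨x, hx⟩ : P) : Ω) := h5
        rw [h6]
        exact hPD (γ ⟨x, hx⟩).2
      · intro c hc
        refine ⟨⟨c, hCD hc⟩, ?_, rfl⟩
        show (ψ.comp (Subgroup.inclusion hDX)) ⟨c, hCD hc⟩ ∈ P ⊔ centralizerIn S P
        exact hCD (extension_centralizer_mem F hγhom hrange hψ hψe c hc)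
    intro d
    obtain ⟨d', hd', hdd⟩ := key d.2
    have h7 : d' = d := Subtype.ext hdd
    rw [← h7]
    exact hd'
  have hψDr : (ψ.comp (Subgroup.inclusion hDX)).range = P ⊔ centralizerIn S P := by
    apply Subgroup.eq_of_le_of_card_ge
    · rintro _ ⟨y, rfl⟩
      exact hDD y
    · exact (Nat.card_congr (MonoidHom.ofInjective (F.injective_of_mem hψD)).toEquiv).le
  obtain ⟨γt, hγt, hγte⟩ := exists_aut_of_hom F hψD hψDr
  have hres : ∀ x : P, γt (Subgroup.inclusion hPD x) = Subgroup.inclusion hPD (γ x) := by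
    intro x
    apply Subtype.ext
    rw [hγte]
    exact hψP x
  have hpow : ∀ (m : ℕ) (x : P),
      (γt ^ m) (Subgroup.inclusion hPD x) = Subgroup.inclusion hPD ((γ ^ m) x) := by
    intro m
    induction m with
    | zero =>
      intro x
      rw [pow_zero, pow_zero]
      rfl
    | succ m ih =>
      intro x
      rw [pow_succ', pow_succ', MulAut.mul_apply, MulAut.mul_apply, ih, hres]
  have hDc : F.IsCentric (P ⊔ centralizerIn S P) := centric_sup_centralizer F hfc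
  have ho : orderOf γt ≠ 0 := (orderOf_pos γt).ne'
  obtain ⟨a, b, hb, hab⟩ := Nat.exists_eq_pow_mul_and_not_dvd ho p (Fact.out : p.Prime).ne_one
  have hcop : Nat.Coprime b (p ^ k) :=
    (((Nat.Prime.coprime_iff_not_dvd (Fact.out : p.Prime)).2 hb).symm).pow_right k
  obtain ⟨c, hc⟩ := exists_pow_eq_self_of_coprime (x := γ) (n := b) (by rw [hk]; exact hcop)
  have hγm : γ ^ (b * c) = γ := by rw [pow_mul]; exact hc
  have hm1 : (γt ^ (b * c)) ^ (p ^ a) = 1 := by
    rw [← pow_mul]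
    have h8 : b * c * p ^ a = orderOf γt * c := by rw [hab]; ring
    rw [h8, pow_mul, pow_orderOf_eq_one, one_pow]
  have hmem : γt ^ (b * c) ∈ OppM F p (P ⊔ centralizerIn S P) :=
    mem_oppM_of_pow (pow_mem hγt _) hm1
  have hE := h _ hDc hmem
  have hEhom := hom_of_mem_autGroup E hDS hE
  have hEres := restrict_mem E hEhom hPD
  rw [mem_autGroup_iff E hPS]
  have e : ((P ⊔ centralizerIn S P).subtype.comp (γt ^ (b * c)).toMonoidHom).comp
      (Subgroup.inclusion hPD) = P.subtype.comp γ.toMonoidHom := by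
    ext x
    show (((γt ^ (b * c)) (Subgroup.inclusion hPD x) : ↥(P ⊔ centralizerIn S P)) : Ω) =
      ((γ x : P) : Ω)
    rw [hpow, hγm]
    rfl
  rw [← e]
  exact hEres

/-- Step A: all subgroups -/
theorem oppM_le_all (hS : IsPGroup p S) (hF : F.IsSaturated p) (E : FusionSystem S)
    (hEF : E.IsSubsystemOf F)
    (h : ∀ P : Subgroup Ω, F.IsCentric P → OppM F p P ≤ E.autGroup P)
    (hFr : ∀ (P : Subgroup Ω) (φ : P →* Ω), φ ∈ F.Hom P → Fr F E P φ)
    {P : Subgroup Ω} (hPS : P ≤ S) : OppM F p P ≤ E.autGroup P := by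
  obtain ⟨Pn, ⟨ρ, hρ, hρr⟩, hPnn⟩ := exists_isConj_fullyNormalized F hPS
  obtain ⟨α, hα, φ₀, hφ₀, he⟩ := hFr P ρ hρ
  have hφ₀S : ∀ x : P, φ₀ x ∈ S := (E.le_of_mem hφ₀).2
  have hφ₀F : φ₀ ∈ F.Hom P := hEF P hφ₀
  obtain ⟨P₂, hP₂⟩ : ∃ P₂, φ₀.range = P₂ := ⟨_, rfl⟩
  have hP₂S : P₂ ≤ S := by rw [← hP₂]; exact range_le F hφ₀F
  have hImg : IsImg α P₂ Pn := by
    intro y
    constructor
    · intro hy
      rw [← hρr] at hy
      obtain ⟨x, rfl⟩ := hy
      exact ⟨φ₀ x, hP₂.le ⟨x, rfl⟩, hφ₀S x, (he x (hφ₀S x)).symm⟩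
    · rintro ⟨w, hw, hwS, rfl⟩
      rw [← hP₂] at hw
      obtain ⟨x, rfl⟩ := hw
      rw [← hρr]
      exact ⟨x, he x hwS⟩
  have hP₂n := fullyNormalized_of_isImg F hα hP₂S hImg hPnn
  have hB := oppM_le_of_fullyNormalized hS hF E h hP₂n
  apply oppM_le_iff.mpr
  intro γ hγA hγk
  have hγO : γ ∈ OppM F p P := mem_oppM_gen hγA hγk
  have hγ₂ := oppM_congr F p hφ₀F hP₂ hγO
  have hγ₂E := hB hγ₂
  obtain ⟨θ, hθ, hθφ, hθr, -⟩ := inv_hom E hφ₀ hP₂
  have hfin := congr_mem_autGroup E hθ hθr hγ₂E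
  have hcongr : MulAut.congr (equivOfRange θ (E.injective_of_mem hθ) hθr)
      (MulAut.congr (equivOfRange φ₀ (F.injective_of_mem hφ₀F) hP₂) γ) = γ := by
    apply MulEquiv.ext
    intro x
    have e1 : (equivOfRange θ (E.injective_of_mem hθ) hθr).symm x =
        (equivOfRange φ₀ (F.injective_of_mem hφ₀F) hP₂) x := by
      apply (equivOfRange θ (E.injective_of_mem hθ) hθr).injective
      rw [MulEquiv.apply_symm_apply]
      apply Subtype.ext
      exact (hθφ x _).symm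
    show (equivOfRange θ (E.injective_of_mem hθ) hθr)
      ((MulAut.congr (equivOfRange φ₀ (F.injective_of_mem hφ₀F) hP₂) γ)
        ((equivOfRange θ (E.injective_of_mem hθ) hθr).symm x)) = γ x
    rw [e1]
    show (equivOfRange θ (E.injective_of_mem hθ) hθr)
      ((equivOfRange φ₀ (F.injective_of_mem hφ₀F) hP₂) (γ
        ((equivOfRange φ₀ (F.injective_of_mem hφ₀F) hP₂).symm
          ((equivOfRange φ₀ (F.injective_of_mem hφ₀F) hP₂) x)))) = γ x
    rw [MulEquiv.symm_apply_apply]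
    apply Subtype.ext
    exact hθφ (γ x) _
  rw [hcongr] at hfin
  exact hfin

omit [Finite S] in
/-- centric subgroups of `E` and of `F` coincide, given the Frattini factorization -/
theorem centric_iff (E : FusionSystem S) (hEF : E.IsSubsystemOf F)
    (hFr : ∀ (P : Subgroup Ω) (φ : P →* Ω), φ ∈ F.Hom P → Fr F E P φ) (P : Subgroup Ω) :
    E.IsCentric P ↔ F.IsCentric P := by
  constructor
  · rintro ⟨hPS, hE⟩
    refine ⟨hPS, ?_⟩
    rintro Q ⟨φ, hφ, rfl⟩
    obtain ⟨α, hα, φ₀, hφ₀, he⟩ := hFr P φ hφ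
    have hφ₀S : ∀ x : P, φ₀ x ∈ S := (E.le_of_mem hφ₀).2
    have hE₂ := hE φ₀.range ⟨φ₀, hφ₀, rfl⟩
    intro c hc
    have hc' : ((α⁻¹ ⟨c, hc.1⟩ : S) : Ω) ∈ centralizerIn S φ₀.range := by
      refine ⟨(α⁻¹ ⟨c, hc.1⟩).2, ?_⟩
      show _ ∈ Subgroup.centralizer (φ₀.range : Set Ω)
      rw [Subgroup.mem_centralizer_iff]
      rintro _ ⟨x, rfl⟩
      have h1 : φ x * c = c * φ x := (Subgroup.mem_centralizer_iff.mp hc.2) (φ x) ⟨x, rfl⟩
      have h2 : (⟨φ₀ x, hφ₀S x⟩ : S) * α⁻¹ ⟨c, hc.1⟩ =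
          α⁻¹ ⟨c, hc.1⟩ * ⟨φ₀ x, hφ₀S x⟩ := by
        apply α.injective
        rw [map_mul, map_mul, MulAut.apply_inv_self]
        apply Subtype.ext
        show ((α ⟨φ₀ x, hφ₀S x⟩ : S) : Ω) * c = c * ((α ⟨φ₀ x, hφ₀S x⟩ : S) : Ω)
        rw [← he x (hφ₀S x)]
        exact h1
      exact congrArg Subtype.val h2
    obtain ⟨x, hx⟩ := hE₂ hc'
    refine ⟨x, ?_⟩
    rw [he x (hφ₀S x)]
    have h3 : (⟨φ₀ x, hφ₀S x⟩ : S) = α⁻¹ ⟨c, hc.1⟩ := Subtype.ext hx
    rw [h3, MulAut.apply_inv_self]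
  · rintro ⟨hPS, hF'⟩
    exact ⟨hPS, fun Q ⟨φ, hφ, hr⟩ => hF' Q ⟨φ, hEF P hφ, hr⟩⟩

end Main

end Cfsg.Agent.Lib.Helper2.PrimeIdx
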