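import Mathlib
import Cfsg.Agent.Lib.Helper1.Fitting

/-!
# Elements are generated by their primary parts
-/

set_option autoImplicit false

namespace Cfsg.Agent.Lib.Helper2

open Cfsg.Agent.Lib.Helper1

variable {G : Type*} [Group G]

/-- If all elements of prime power order of `⟨g⟩` lie in `H`, so does `g`. -/
theorem mem_of_forall_prime_pow_mem [Finite G] (H : Subgroup G) (g : G)
    (h : ∀ z ∈ Subgroup.zpowers g, ∀ r k : ℕ, r.Prime → orderOf z = r ^ k → z ∈ H) : g ∈ H := by
  have htop : H.subgroupOf (Subgroup.zpowers g) = ⊤ := by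
    apply eq_top_of_forall_sylow_le
    intro r hr
    obtain ⟨R⟩ : Nonempty (Sylow r (Subgroup.zpowers g)) := inferInstance
    refine ⟨R, ?_⟩
    intro y hy
    rw [Subgroup.mem_subgroupOf]
    obtain ⟨k, hk⟩ := R.isPGroup' ⟨y, hy⟩
    have hk' : (y : G) ^ r ^ k = 1 := by
      have h1 := congrArg Subtype.val hk
      rw [Subgroup.coe_pow] at h1
      have h2 := congrArg Subtype.val h1
      rw [Subgroup.coe_pow] at h2
      exact h2
    obtain ⟨k', -, hk''⟩ := (Nat.dvd_prime_pow hr.out).1 (orderOf_dvd_of_pow_eq_one hk')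
    exact h y y.2 r k' hr.out hk''
  rw [Subgroup.subgroupOf_eq_top] at htop
  exact htop (Subgroup.mem_zpowers g)

/-- the `p'`-part of an element: `g ^ ordProj[p] (orderOf g)` has order coprime to `p` -/
theorem orderOf_pow_ordProj_coprime [Finite G] (g : G) {p : ℕ} (hp : p.Prime) :
    (orderOf (g ^ ordProj[p] (orderOf g))).Coprime p := by
  have h1 : (g ^ ordProj[p] (orderOf g)) ^ ordCompl[p] (orderOf g) = 1 := by
    rw [← pow_mul, Nat.ordProj_mul_ordCompl_eq_self, pow_orderOf_eq_one]
  have h2 := orderOf_dvd_of_pow_eq_one h1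
  exact (Nat.Coprime.coprime_dvd_right h2
    (Nat.coprime_ordCompl hp (orderOf_pos g).ne')).symm

end Cfsg.Agent.Lib.Helper2
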