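import Cfsg.Agent.Lib.Helper2.KNorm2
import Cfsg.Agent.Lib.Helper9.ProductSystem

/-!
# Direct products of fusion systems: basic tools
-/

set_option autoImplicit false

namespace Cfsg.Agent.Lib.Helper2.ProdSat

open Cfsg Cfsg.FusionSystem Cfsg.Agent.Lib.Helper9 Cfsg.Agent.Lib.Helper2.KNorm

variable {Ω₁ Ω₂ : Type*} [Group Ω₁] [Group Ω₂]

/-- first projection of a subgroup of the product -/
abbrev p1 (P : Subgroup (Ω₁ × Ω₂)) : Subgroup Ω₁ := P.map (MonoidHom.fst Ω₁ Ω₂)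

/-- second projection of a subgroup of the product -/
abbrev p2 (P : Subgroup (Ω₁ × Ω₂)) : Subgroup Ω₂ := P.map (MonoidHom.snd Ω₁ Ω₂)

theorem p1_prod (A : Subgroup Ω₁) (B : Subgroup Ω₂) : p1 (A.prod B) = A := by
  ext a
  constructor
  · rintro ⟨x, hx, rfl⟩
    exact (Subgroup.mem_prod.mp hx).1
  · intro ha
    exact ⟨(a, 1), Subgroup.mem_prod.mpr ⟨ha, B.one_mem⟩, rfl⟩

theorem p2_prod (A : Subgroup Ω₁) (B : Subgroup Ω₂) : p2 (A.prod B) = B := by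
  ext b
  constructor
  · rintro ⟨x, hx, rfl⟩
    exact (Subgroup.mem_prod.mp hx).2
  · intro hb
    exact ⟨(1, b), Subgroup.mem_prod.mpr ⟨A.one_mem, hb⟩, rfl⟩

/-- the product of the two projections -/
abbrev hat (P : Subgroup (Ω₁ × Ω₂)) : Subgroup (Ω₁ × Ω₂) := (p1 P).prod (p2 P)

theorem le_hat (P : Subgroup (Ω₁ × Ω₂)) : P ≤ hat P :=
  fun x hx => Subgroup.mem_prod.mpr ⟨⟨x, hx, rfl⟩, ⟨x, hx, rfl⟩⟩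

theorem isPGroup_prod {p : ℕ} {S₁ : Subgroup Ω₁} {S₂ : Subgroup Ω₂} (h₁ : IsPGroup p S₁)
    (h₂ : IsPGroup p S₂) : IsPGroup p (S₁.prod S₂) := by
  rintro ⟨⟨a, b⟩, hab⟩
  obtain ⟨ha, hb⟩ := Subgroup.mem_prod.mp hab
  obtain ⟨k₁, hk₁⟩ := h₁ ⟨a, ha⟩
  obtain ⟨k₂, hk₂⟩ := h₂ ⟨b, hb⟩
  have ha' : a ^ p ^ k₁ = 1 := by
    have h := congrArg (fun s : S₁ => (s : Ω₁)) hk₁
    simpa using h
  have hb' : b ^ p ^ k₂ = 1 := by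
    have h := congrArg (fun s : S₂ => (s : Ω₂)) hk₂
    simpa using h
  refine ⟨k₁ + k₂, ?_⟩
  have h1 : a ^ p ^ (k₁ + k₂) = 1 := by rw [pow_add, pow_mul, ha', one_pow]
  have h2 : b ^ p ^ (k₁ + k₂) = 1 := by rw [pow_add, mul_comm, pow_mul, hb', one_pow]
  apply Subtype.ext
  rw [Subgroup.coe_pow, Subgroup.coe_one]
  show ((a, b) : Ω₁ × Ω₂) ^ p ^ (k₁ + k₂) = 1
  rw [Prod.pow_mk, h1, h2]
  rfl

theorem finite_prod {S₁ : Subgroup Ω₁} {S₂ : Subgroup Ω₂} [Finite S₁] [Finite S₂] :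
    Finite ↥(S₁.prod S₂) :=
  Finite.of_equiv _ (Subgroup.prodEquiv S₁ S₂).symm.toEquiv

theorem fst_mem_normalizer {P : Subgroup (Ω₁ × Ω₂)} {g : Ω₁ × Ω₂}
    (hg : g ∈ Subgroup.normalizer (P : Set (Ω₁ × Ω₂))) :
    g.1 ∈ Subgroup.normalizer ((p1 P : Subgroup Ω₁) : Set Ω₁) := by
  have key : ∀ g : Ω₁ × Ω₂, g ∈ Subgroup.normalizer (P : Set (Ω₁ × Ω₂)) →
      ∀ y ∈ p1 P, g.1 * y * g.1⁻¹ ∈ p1 P := by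
    rintro g hg _ ⟨x, hx, rfl⟩
    exact ⟨g * x * g⁻¹, (Subgroup.mem_normalizer_iff.mp hg x).mp hx, rfl⟩
  rw [Subgroup.mem_normalizer_iff]
  intro y
  constructor
  · exact key g hg y
  · intro hy
    have h := key g⁻¹ (Subgroup.inv_mem _ hg) _ hy
    have e : (g⁻¹).1 * (g.1 * y * g.1⁻¹) * ((g⁻¹).1)⁻¹ = y := by
      show g.1⁻¹ * (g.1 * y * g.1⁻¹) * (g.1⁻¹)⁻¹ = y
      group
    rwa [e] at h

theorem snd_mem_normalizer {P : Subgroup (Ω₁ × Ω₂)} {g : Ω₁ × Ω₂}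
    (hg : g ∈ Subgroup.normalizer (P : Set (Ω₁ × Ω₂))) :
    g.2 ∈ Subgroup.normalizer ((p2 P : Subgroup Ω₂) : Set Ω₂) := by
  have key : ∀ g : Ω₁ × Ω₂, g ∈ Subgroup.normalizer (P : Set (Ω₁ × Ω₂)) →
      ∀ y ∈ p2 P, g.2 * y * g.2⁻¹ ∈ p2 P := by
    rintro g hg _ ⟨x, hx, rfl⟩
    exact ⟨g * x * g⁻¹, (Subgroup.mem_normalizer_iff.mp hg x).mp hx, rfl⟩
  rw [Subgroup.mem_normalizer_iff]
  intro y
  constructor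
  · exact key g hg y
  · intro hy
    have h := key g⁻¹ (Subgroup.inv_mem _ hg) _ hy
    have e : (g⁻¹).2 * (g.2 * y * g.2⁻¹) * ((g⁻¹).2)⁻¹ = y := by
      show g.2⁻¹ * (g.2 * y * g.2⁻¹) * (g.2⁻¹)⁻¹ = y
      group
    rwa [e] at h

theorem mem_normalizer_prod {A : Subgroup Ω₁} {B : Subgroup Ω₂} {g : Ω₁ × Ω₂}
    (h1 : g.1 ∈ Subgroup.normalizer (A : Set Ω₁)) (h2 : g.2 ∈ Subgroup.normalizer (B : Set Ω₂)) :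
    g ∈ Subgroup.normalizer ((A.prod B : Subgroup (Ω₁ × Ω₂)) : Set (Ω₁ × Ω₂)) := by
  rw [Subgroup.mem_normalizer_iff]
  intro x
  rw [Subgroup.mem_prod, Subgroup.mem_prod]
  exact and_congr (Subgroup.mem_normalizer_iff.mp h1 x.1) (Subgroup.mem_normalizer_iff.mp h2 x.2)

/-! ### product maps -/

/-- the product of two homomorphisms, on the product subgroup -/
def prodMap {A : Subgroup Ω₁} {B : Subgroup Ω₂} (f₁ : A →* Ω₁) (f₂ : B →* Ω₂) :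
    ↥(A.prod B) →* Ω₁ × Ω₂ :=
  MonoidHom.prod
    (f₁.comp (((MonoidHom.fst Ω₁ Ω₂).comp (A.prod B).subtype).codRestrict A
      (fun x => (Subgroup.mem_prod.mp x.2).1)))
    (f₂.comp (((MonoidHom.snd Ω₁ Ω₂).comp (A.prod B).subtype).codRestrict B
      (fun x => (Subgroup.mem_prod.mp x.2).2)))

theorem prodMap_apply {A : Subgroup Ω₁} {B : Subgroup Ω₂} (f₁ : A →* Ω₁) (f₂ : B →* Ω₂)
    (x : ↥(A.prod B)) :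
    prodMap f₁ f₂ x = (f₁ ⟨(x : Ω₁ × Ω₂).1, (Subgroup.mem_prod.mp x.2).1⟩,
      f₂ ⟨(x : Ω₁ × Ω₂).2, (Subgroup.mem_prod.mp x.2).2⟩) := rfl

theorem prodMap_range {A : Subgroup Ω₁} {B : Subgroup Ω₂} (f₁ : A →* Ω₁) (f₂ : B →* Ω₂) :
    (prodMap f₁ f₂).range = f₁.range.prod f₂.range := by
  ext y
  constructor
  · rintro ⟨x, rfl⟩
    exact Subgroup.mem_prod.mpr ⟨⟨_, rfl⟩, ⟨_, rfl⟩⟩
  · intro hy
    obtain ⟨⟨a, ha⟩, ⟨b, hb⟩⟩ := Subgroup.mem_prod.mp hy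
    refine ⟨⟨((a : Ω₁), (b : Ω₂)), Subgroup.mem_prod.mpr ⟨a.2, b.2⟩⟩, ?_⟩
    rw [prodMap_apply]
    exact Prod.ext ha hb

variable {S₁ : Subgroup Ω₁} {S₂ : Subgroup Ω₂}

theorem mem_hom_iff {F₁ : FusionSystem S₁} {F₂ : FusionSystem S₂}
    {E : FusionSystem (S₁.prod S₂)} (hE : IsProductSystem F₁ F₂ E) (P : Subgroup (Ω₁ × Ω₂))
    (φ : P →* Ω₁ × Ω₂) :
    φ ∈ E.Hom P ↔ P ≤ S₁.prod S₂ ∧ ∃ φ₁ ∈ F₁.Hom (p1 P), ∃ φ₂ ∈ F₂.Hom (p2 P),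
      ∀ x : P, φ x = (φ₁ ⟨(x : Ω₁ × Ω₂).1, fst_mem_map P x⟩,
        φ₂ ⟨(x : Ω₁ × Ω₂).2, snd_mem_map P x⟩) := by
  rw [hE P φ]
  constructor
  · rintro ⟨hP, φ₁, hφ₁, φ₂, hφ₂, h⟩
    exact ⟨hP, φ₁, hφ₁, φ₂, hφ₂, fun x => h x _ _⟩
  · rintro ⟨hP, φ₁, hφ₁, φ₂, hφ₂, h⟩
    exact ⟨hP, φ₁, hφ₁, φ₂, hφ₂, fun x _ _ => h x⟩

theorem p1_range {P : Subgroup (Ω₁ × Ω₂)} {φ : P →* Ω₁ × Ω₂} {φ₁ : ↥(p1 P) →* Ω₁}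
    {φ₂ : ↥(p2 P) →* Ω₂}
    (h : ∀ x : P, φ x = (φ₁ ⟨(x : Ω₁ × Ω₂).1, fst_mem_map P x⟩,
      φ₂ ⟨(x : Ω₁ × Ω₂).2, snd_mem_map P x⟩)) : p1 φ.range = φ₁.range := by
  ext y
  constructor
  · rintro ⟨_, ⟨x, rfl⟩, rfl⟩
    rw [h x]
    exact ⟨_, rfl⟩
  · rintro ⟨⟨a, x, hx, rfl⟩, rfl⟩
    refine ⟨φ ⟨x, hx⟩, ⟨_, rfl⟩, ?_⟩
    rw [h]
    rfl

theorem p2_range {P : Subgroup (Ω₁ × Ω₂)} {φ : P →* Ω₁ × Ω₂} {φ₁ : ↥(p1 P) →* Ω₁}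
    {φ₂ : ↥(p2 P) →* Ω₂}
    (h : ∀ x : P, φ x = (φ₁ ⟨(x : Ω₁ × Ω₂).1, fst_mem_map P x⟩,
      φ₂ ⟨(x : Ω₁ × Ω₂).2, snd_mem_map P x⟩)) : p2 φ.range = φ₂.range := by
  ext y
  constructor
  · rintro ⟨_, ⟨x, rfl⟩, rfl⟩
    rw [h x]
    exact ⟨_, rfl⟩
  · rintro ⟨⟨a, x, hx, rfl⟩, rfl⟩
    refine ⟨φ ⟨x, hx⟩, ⟨_, rfl⟩, ?_⟩
    rw [h]
    rfl

theorem prodMap_mem {F₁ : FusionSystem S₁} {F₂ : FusionSystem S₂}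
    {E : FusionSystem (S₁.prod S₂)} (hE : IsProductSystem F₁ F₂ E) {A : Subgroup Ω₁}
    {B : Subgroup Ω₂} {f₁ : A →* Ω₁} {f₂ : B →* Ω₂} (hf₁ : f₁ ∈ F₁.Hom A) (hf₂ : f₂ ∈ F₂.Hom B) :
    prodMap f₁ f₂ ∈ E.Hom (A.prod B) := by
  rw [mem_hom_iff hE]
  exact ⟨Subgroup.prod_mono (hom_le F₁ hf₁) (hom_le F₂ hf₂),
    f₁.comp (Subgroup.inclusion (p1_prod A B).le), restrict_mem F₁ hf₁ _,
    f₂.comp (Subgroup.inclusion (p2_prod A B).le), restrict_mem F₂ hf₂ _, fun x => rfl⟩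

/-- maps of the product system on a product subgroup are product maps -/
theorem exists_prodMap_of_mem {F₁ : FusionSystem S₁} {F₂ : FusionSystem S₂}
    {E : FusionSystem (S₁.prod S₂)} (hE : IsProductSystem F₁ F₂ E) {A : Subgroup Ω₁}
    {B : Subgroup Ω₂} {φ : ↥(A.prod B) →* Ω₁ × Ω₂} (hφ : φ ∈ E.Hom (A.prod B)) :
    ∃ f₁ ∈ F₁.Hom A, ∃ f₂ ∈ F₂.Hom B, ∀ x, φ x = prodMap f₁ f₂ x := by
  obtain ⟨-, φ₁, hφ₁, φ₂, hφ₂, hφe⟩ := (mem_hom_iff hE _ _).mp hφ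
  refine ⟨φ₁.comp (Subgroup.inclusion (p1_prod A B).ge), restrict_mem F₁ hφ₁ _,
    φ₂.comp (Subgroup.inclusion (p2_prod A B).ge), restrict_mem F₂ hφ₂ _, fun x => ?_⟩
  rw [hφe x]
  rfl

/-! ### receptivity -/

theorem receptive_of_proj {F₁ : FusionSystem S₁} {F₂ : FusionSystem S₂}
    {E : FusionSystem (S₁.prod S₂)} (hE : IsProductSystem F₁ F₂ E) {P : Subgroup (Ω₁ × Ω₂)}
    (hP : P ≤ S₁.prod S₂) (h₁ : F₁.IsReceptive (p1 P)) (h₂ : F₂.IsReceptive (p2 P)) :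
    E.IsReceptive P := by
  refine ⟨hP, ?_⟩
  intro R φ hφ hφr
  obtain ⟨hRS, φ₁, hφ₁, φ₂, hφ₂, hφe⟩ := (mem_hom_iff hE R φ).mp hφ
  have hr₁ : φ₁.range = p1 P := by rw [← hφr, p1_range hφe]
  have hr₂ : φ₂.range = p2 P := by rw [← hφr, p2_range hφe]
  obtain ⟨ψ₁, hψ₁, hψ₁e⟩ := h₁.2 (p1 R) φ₁ hφ₁ hr₁
  obtain ⟨ψ₂, hψ₂, hψ₂e⟩ := h₂.2 (p2 R) φ₂ hφ₂ hr₂
  have hN₁' : extender (S₁.prod S₂) R φ ≤
      (extender S₁ (p1 R) φ₁).comap (MonoidHom.fst Ω₁ Ω₂) := by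
    rw [extender, Subgroup.closure_le]
    rintro g ⟨hgS, hgN, h, hhS, hgh⟩
    show g.1 ∈ extender S₁ (p1 R) φ₁
    apply Subgroup.subset_closure
    refine ⟨(Subgroup.mem_prod.mp hgS).1, fst_mem_normalizer hgN, h.1,
      (Subgroup.mem_prod.mp hhS).1, ?_⟩
    rintro ⟨_, x, hx, rfl⟩ hy
    have hgx : g * x * g⁻¹ ∈ R := (Subgroup.mem_normalizer_iff.mp hgN x).mp hx
    have h1 := hgh ⟨x, hx⟩ hgx
    rw [hφe, hφe] at h1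
    have h2 := congrArg Prod.fst h1
    exact h2
  have hN₂' : extender (S₁.prod S₂) R φ ≤
      (extender S₂ (p2 R) φ₂).comap (MonoidHom.snd Ω₁ Ω₂) := by
    rw [extender, Subgroup.closure_le]
    rintro g ⟨hgS, hgN, h, hhS, hgh⟩
    show g.2 ∈ extender S₂ (p2 R) φ₂
    apply Subgroup.subset_closure
    refine ⟨(Subgroup.mem_prod.mp hgS).2, snd_mem_normalizer hgN, h.2,
      (Subgroup.mem_prod.mp hhS).2, ?_⟩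
    rintro ⟨_, x, hx, rfl⟩ hy
    have hgx : g * x * g⁻¹ ∈ R := (Subgroup.mem_normalizer_iff.mp hgN x).mp hx
    have h1 := hgh ⟨x, hx⟩ hgx
    rw [hφe, hφe] at h1
    have h2 := congrArg Prod.snd h1
    exact h2
  have hN₁ : ∀ g : ↥(extender (S₁.prod S₂) R φ), (g : Ω₁ × Ω₂).1 ∈ extender S₁ (p1 R) φ₁ :=
    fun g => hN₁' g.2
  have hN₂ : ∀ g : ↥(extender (S₁.prod S₂) R φ), (g : Ω₁ × Ω₂).2 ∈ extender S₂ (p2 R) φ₂ :=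
    fun g => hN₂' g.2
  obtain ⟨f₁, hf₁⟩ : ∃ f₁ : ↥(extender (S₁.prod S₂) R φ) →* ↥(extender S₁ (p1 R) φ₁),
      ∀ g, ((f₁ g : ↥(extender S₁ (p1 R) φ₁)) : Ω₁) = (g : Ω₁ × Ω₂).1 :=
    ⟨((MonoidHom.fst Ω₁ Ω₂).comp (extender (S₁.prod S₂) R φ).subtype).codRestrict _ hN₁,
      fun _ => rfl⟩
  obtain ⟨f₂, hf₂⟩ : ∃ f₂ : ↥(extender (S₁.prod S₂) R φ) →* ↥(extender S₂ (p2 R) φ₂),
      ∀ g, ((f₂ g : ↥(extender S₂ (p2 R) φ₂)) : Ω₂) = (g : Ω₁ × Ω₂).2 :=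
    ⟨((MonoidHom.snd Ω₁ Ω₂).comp (extender (S₁.prod S₂) R φ).subtype).codRestrict _ hN₂,
      fun _ => rfl⟩
  have hle₁ : p1 (extender (S₁.prod S₂) R φ) ≤ extender S₁ (p1 R) φ₁ := by
    rintro _ ⟨g, hg, rfl⟩
    exact hN₁' hg
  have hle₂ : p2 (extender (S₁.prod S₂) R φ) ≤ extender S₂ (p2 R) φ₂ := by
    rintro _ ⟨g, hg, rfl⟩
    exact hN₂' hg
  have hNS : extender (S₁.prod S₂) R φ ≤ S₁.prod S₂ :=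
    (extender_le_normalizerIn R φ).trans (normalizerIn_le _ _)
  refine ⟨MonoidHom.prod (ψ₁.comp f₁) (ψ₂.comp f₂), ?_, ?_⟩
  · rw [mem_hom_iff hE]
    refine ⟨hNS, ψ₁.comp (Subgroup.inclusion hle₁), restrict_mem F₁ hψ₁ hle₁,
      ψ₂.comp (Subgroup.inclusion hle₂), restrict_mem F₂ hψ₂ hle₂, fun g => ?_⟩
    show (ψ₁ (f₁ g), ψ₂ (f₂ g)) = _
    have e1 : f₁ g = Subgroup.inclusion hle₁ ⟨(g : Ω₁ × Ω₂).1, fst_mem_map _ g⟩ :=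
      Subtype.ext (hf₁ g)
    have e2 : f₂ g = Subgroup.inclusion hle₂ ⟨(g : Ω₁ × Ω₂).2, snd_mem_map _ g⟩ :=
      Subtype.ext (hf₂ g)
    rw [e1, e2]
    rfl
  · intro x hxR hxN
    show (ψ₁ (f₁ ⟨x, hxN⟩), ψ₂ (f₂ ⟨x, hxN⟩)) = φ ⟨x, hxR⟩
    have e1 : f₁ ⟨x, hxN⟩ = ⟨x.1, hN₁ ⟨x, hxN⟩⟩ := Subtype.ext (hf₁ _)
    have e2 : f₂ ⟨x, hxN⟩ = ⟨x.2, hN₂ ⟨x, hxN⟩⟩ := Subtype.ext (hf₂ _)
    rw [e1, e2, hφe, hψ₁e x.1 (fst_mem_map R ⟨x, hxR⟩), hψ₂e x.2 (snd_mem_map R ⟨x, hxR⟩)]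

end Cfsg.Agent.Lib.Helper2.ProdSat
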