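import Cfsg.Agent.Lib.Helper2.ProdSat1

/-!
# Direct products of saturated fusion systems are saturated
-/

set_option autoImplicit false

namespace Cfsg.Agent.Lib.Helper2.ProdSat

open Cfsg Cfsg.FusionSystem Cfsg.Agent.Lib.Helper9 Cfsg.Agent.Lib.Helper2.KNorm

variable {Ω₁ Ω₂ : Type*} [Group Ω₁] [Group Ω₂]

/-! ### product automorphisms -/

/-- the product of two automorphisms, as an automorphism of the product type -/
def prodCongrHom (A : Type*) (B : Type*) [Group A] [Group B] :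
    MulAut A × MulAut B →* MulAut (A × B) where
  toFun α := MulEquiv.prodCongr α.1 α.2
  map_one' := by
    apply MulEquiv.ext
    intro x
    rfl
  map_mul' := by
    intro α β
    apply MulEquiv.ext
    intro x
    rfl

/-- the product of two automorphisms, as an automorphism of the product subgroup -/
def prodAut (A : Subgroup Ω₁) (B : Subgroup Ω₂) : MulAut A × MulAut B →* MulAut ↥(A.prod B) :=
  (MulAut.congr (Subgroup.prodEquiv A B).symm).toMonoidHom.comp (prodCongrHom A B)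

theorem prodAut_apply (A : Subgroup Ω₁) (B : Subgroup Ω₂) (α : MulAut A × MulAut B)
    (x : ↥(A.prod B)) :
    ((prodAut A B α x : ↥(A.prod B)) : Ω₁ × Ω₂) =
      (((α.1 ⟨(x : Ω₁ × Ω₂).1, (Subgroup.mem_prod.mp x.2).1⟩ : A) : Ω₁),
        ((α.2 ⟨(x : Ω₁ × Ω₂).2, (Subgroup.mem_prod.mp x.2).2⟩ : B) : Ω₂)) := rfl

theorem prodAut_injective (A : Subgroup Ω₁) (B : Subgroup Ω₂) :
    Function.Injective (prodAut A B) := by
  rw [injective_iff_map_eq_one]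
  intro α hα
  apply Prod.ext
  · apply MulEquiv.ext
    intro a
    have h1 := prodAut_apply A B α ⟨((a : Ω₁), 1), Subgroup.mem_prod.mpr ⟨a.2, B.one_mem⟩⟩
    rw [hα] at h1
    have h2 := congrArg Prod.fst h1
    exact Subtype.ext h2.symm
  · apply MulEquiv.ext
    intro b
    have h1 := prodAut_apply A B α ⟨(1, (b : Ω₂)), Subgroup.mem_prod.mpr ⟨A.one_mem, b.2⟩⟩
    rw [hα] at h1
    have h2 := congrArg Prod.snd h1
    exact Subtype.ext h2.symm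

variable {S₁ : Subgroup Ω₁} {S₂ : Subgroup Ω₂}

theorem prodAut_mem_autGroup {F₁ : FusionSystem S₁} {F₂ : FusionSystem S₂}
    {E : FusionSystem (S₁.prod S₂)} (hE : IsProductSystem F₁ F₂ E) {A : Subgroup Ω₁}
    {B : Subgroup Ω₂} (hAS : A ≤ S₁) (hBS : B ≤ S₂) {α₁ : MulAut A} {α₂ : MulAut B}
    (h₁ : α₁ ∈ F₁.autGroup A) (h₂ : α₂ ∈ F₂.autGroup B) :
    prodAut A B (α₁, α₂) ∈ E.autGroup (A.prod B) := by
  rw [mem_autGroup_iff E (Subgroup.prod_mono hAS hBS)]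
  have h := prodMap_mem hE (hom_of_mem_autGroup F₁ hAS h₁) (hom_of_mem_autGroup F₂ hBS h₂)
  have e : (A.prod B).subtype.comp (prodAut A B (α₁, α₂)).toMonoidHom =
      prodMap (A.subtype.comp α₁.toMonoidHom) (B.subtype.comp α₂.toMonoidHom) := by
    ext x <;> rfl
  rw [e]
  exact h

theorem exists_prodAut_of_mem_autGroup {F₁ : FusionSystem S₁} {F₂ : FusionSystem S₂}
    {E : FusionSystem (S₁.prod S₂)} (hE : IsProductSystem F₁ F₂ E) {A : Subgroup Ω₁}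
    {B : Subgroup Ω₂} (hAS : A ≤ S₁) (hBS : B ≤ S₂) {γ : MulAut ↥(A.prod B)}
    (hγ : γ ∈ E.autGroup (A.prod B)) :
    ∃ α₁ ∈ F₁.autGroup A, ∃ α₂ ∈ F₂.autGroup B, prodAut A B (α₁, α₂) = γ := by
  have hABS : A.prod B ≤ S₁.prod S₂ := Subgroup.prod_mono hAS hBS
  have h := hom_of_mem_autGroup E hABS hγ
  obtain ⟨f₁, hf₁, f₂, hf₂, hfe⟩ := exists_prodMap_of_mem hE h
  have hr : ((A.prod B).subtype.comp γ.toMonoidHom).range = A.prod B := by
    ext y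
    constructor
    · rintro ⟨x, rfl⟩
      exact (γ x).2
    · intro hy
      refine ⟨γ⁻¹ ⟨y, hy⟩, ?_⟩
      show ((γ (γ⁻¹ ⟨y, hy⟩) : ↥(A.prod B)) : Ω₁ × Ω₂) = y
      rw [MulAut.apply_inv_self]
  have hr' : (prodMap f₁ f₂).range = A.prod B := by
    have hfun : prodMap f₁ f₂ = (A.prod B).subtype.comp γ.toMonoidHom :=
      MonoidHom.ext (fun x => (hfe x).symm)
    rw [hfun]
    exact hr
  rw [prodMap_range] at hr'
  have hr₁ : f₁.range = A := by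
    have := congrArg p1 hr'
    rwa [p1_prod, p1_prod] at this
  have hr₂ : f₂.range = B := by
    have := congrArg p2 hr'
    rwa [p2_prod, p2_prod] at this
  obtain ⟨α₁, hα₁, hα₁e⟩ := exists_aut_of_hom F₁ hf₁ hr₁
  obtain ⟨α₂, hα₂, hα₂e⟩ := exists_aut_of_hom F₂ hf₂ hr₂
  refine ⟨α₁, hα₁, α₂, hα₂, ?_⟩
  apply MulEquiv.ext
  intro x
  apply Subtype.ext
  rw [prodAut_apply]
  have h1 := hfe x
  rw [prodMap_apply] at h1
  show _ = ((A.prod B).subtype.comp γ.toMonoidHom) x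
  rw [h1, hα₁e, hα₂e]

theorem prodAut_mem_autInducedBy {A : Subgroup Ω₁} {B : Subgroup Ω₂} {α₁ : MulAut A}
    {α₂ : MulAut B} (h₁ : α₁ ∈ autInducedBy S₁ A) (h₂ : α₂ ∈ autInducedBy S₂ B) :
    prodAut A B (α₁, α₂) ∈ autInducedBy (S₁.prod S₂) (A.prod B) := by
  obtain ⟨g₁, hg₁, hg₁e⟩ := (mem_autInducedBy_iff _ _ _).mp h₁
  obtain ⟨g₂, hg₂, hg₂e⟩ := (mem_autInducedBy_iff _ _ _).mp h₂
  rw [mem_autInducedBy_iff]
  refine ⟨(g₁, g₂), Subgroup.mem_prod.mpr ⟨hg₁, hg₂⟩, fun x => ?_⟩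
  rw [prodAut_apply, hg₁e, hg₂e]
  rfl

theorem fullyAutomized_prod [Finite S₁] [Finite S₂] {p : ℕ} [Fact p.Prime]
    (h₁ : IsPGroup p S₁) (h₂ : IsPGroup p S₂) {F₁ : FusionSystem S₁} {F₂ : FusionSystem S₂}
    {E : FusionSystem (S₁.prod S₂)} (hE : IsProductSystem F₁ F₂ E) {A : Subgroup Ω₁}
    {B : Subgroup Ω₂} (hA : F₁.IsFullyAutomized p A) (hB : F₂.IsFullyAutomized p B) :
    E.IsFullyAutomized p (A.prod B) := by
  obtain ⟨hAS, SyA, hSyA⟩ := hA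
  obtain ⟨hBS, SyB, hSyB⟩ := hB
  have hABS : A.prod B ≤ S₁.prod S₂ := Subgroup.prod_mono hAS hBS
  haveI : Finite A := finite_of_le hAS
  haveI : Finite B := finite_of_le hBS
  haveI : Finite ↥(A.prod B) := finite_prod
  have hsylA : IsSyl p (autInducedBy S₁ A) (F₁.autGroup A) :=
    ⟨autInducedBy_le_autGroup F₁ hAS, SyA, hSyA⟩
  have hsylB : IsSyl p (autInducedBy S₂ B) (F₂.autGroup B) :=
    ⟨autInducedBy_le_autGroup F₂ hBS, SyB, hSyB⟩
  have hp : IsPGroup p (S₁.prod S₂) := isPGroup_prod h₁ h₂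
  have hsyl : IsSyl p (autInducedBy (S₁.prod S₂) (A.prod B)) (E.autGroup (A.prod B)) := by
    apply IsSyl.of_conj (autInducedBy_le_autGroup E hABS) (isPGroup_autInducedBy hp _)
    intro U hU hpU
    have hU'p : IsPGroup p (U.comap (prodAut A B)) :=
      hpU.comap_of_injective (prodAut A B) (prodAut_injective A B)
    have hU₁p : IsPGroup p ((U.comap (prodAut A B)).map (MonoidHom.fst (MulAut A) (MulAut B))) :=
      hU'p.map _
    have hU₂p : IsPGroup p ((U.comap (prodAut A B)).map (MonoidHom.snd (MulAut A) (MulAut B))) :=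
      hU'p.map _
    have hdec : ∀ α : MulAut A × MulAut B, prodAut A B α ∈ E.autGroup (A.prod B) →
        α.1 ∈ F₁.autGroup A ∧ α.2 ∈ F₂.autGroup B := by
      intro α hα
      obtain ⟨α₁, hα₁, α₂, hα₂, he⟩ := exists_prodAut_of_mem_autGroup hE hAS hBS hα
      have := prodAut_injective A B he
      rw [← this]
      exact ⟨hα₁, hα₂⟩
    have hU₁A : (U.comap (prodAut A B)).map (MonoidHom.fst (MulAut A) (MulAut B)) ≤
        F₁.autGroup A := by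
      rintro _ ⟨α, hα, rfl⟩
      exact (hdec α (hU hα)).1
    have hU₂A : (U.comap (prodAut A B)).map (MonoidHom.snd (MulAut A) (MulAut B)) ≤
        F₂.autGroup B := by
      rintro _ ⟨α, hα, rfl⟩
      exact (hdec α (hU hα)).2
    obtain ⟨a₁, ha₁, hc₁⟩ := hsylA.conj hU₁A hU₁p
    obtain ⟨a₂, ha₂, hc₂⟩ := hsylB.conj hU₂A hU₂p
    refine ⟨prodAut A B (a₁, a₂), prodAut_mem_autGroup hE hAS hBS ha₁ ha₂, fun u hu => ?_⟩
    obtain ⟨α₁, -, α₂, -, rfl⟩ := exists_prodAut_of_mem_autGroup hE hAS hBS (hU hu)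
    have h1 : prodAut A B (a₁, a₂) * prodAut A B (α₁, α₂) * (prodAut A B (a₁, a₂))⁻¹ =
        prodAut A B (a₁ * α₁ * a₁⁻¹, a₂ * α₂ * a₂⁻¹) := by
      rw [← map_inv, ← map_mul, ← map_mul]
      rfl
    rw [h1]
    apply prodAut_mem_autInducedBy
    · exact hc₁ α₁ ⟨(α₁, α₂), hu, rfl⟩
    · exact hc₂ α₂ ⟨(α₁, α₂), hu, rfl⟩
  exact ⟨hABS, hsyl.2⟩

/-! ### fully automized images -/

theorem fullyAutomized_of_good [Finite S₁] [Finite S₂] {p : ℕ} [Fact p.Prime]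
    {F₁ : FusionSystem S₁} {F₂ : FusionSystem S₂}
    {E : FusionSystem (S₁.prod S₂)} (hE : IsProductSystem F₁ F₂ E) {P : Subgroup (Ω₁ × Ω₂)}
    {φ : ↥(hat P) →* Ω₁ × Ω₂} (hφ : φ ∈ E.Hom (hat P)) {μ : P →* Ω₁ × Ω₂}
    (hμa : ∀ x : P, μ x = φ (Subgroup.inclusion (le_hat P) x)) (hhat : φ.range = hat μ.range)
    (hsyl : IsSyl p (AS (S₁.prod S₂) φ ⊓ Stab P (hat P)) (E.autGroup (hat P) ⊓ Stab P (hat P))) :
    E.IsFullyAutomized p μ.range := by
  haveI : Finite ↥(S₁.prod S₂) := finite_prod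
  have hφinj := E.injective_of_mem hφ
  have hR'S : hat μ.range ≤ S₁.prod S₂ := hhat ▸ range_le E hφ
  have hP'R' : μ.range ≤ hat μ.range := le_hat _
  have hP'S : μ.range ≤ S₁.prod S₂ := hP'R'.trans hR'S
  haveI : Finite ↥(hat μ.range) := finite_of_le hR'S
  obtain ⟨e, he⟩ : ∃ e : ↥(hat P) ≃* ↥(hat μ.range),
      ∀ z, ((e z : ↥(hat μ.range)) : Ω₁ × Ω₂) = φ z :=
    ⟨equivOfRange φ hφinj hhat, fun _ => rfl⟩
  have hF1 : ∀ z : ↥(hat P), (z : Ω₁ × Ω₂) ∈ P ↔ ((e z : ↥(hat μ.range)) : Ω₁ × Ω₂) ∈ μ.range := by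
    intro z
    rw [he]
    constructor
    · intro hz
      refine ⟨⟨z, hz⟩, ?_⟩
      rw [hμa]
      congr 1
    · rintro ⟨a, ha⟩
      rw [hμa] at ha
      have h1 := hφinj ha
      rw [← h1]
      exact a.2
  have hsyl' : IsSyl p (autInducedBy (S₁.prod S₂) (hat μ.range) ⊓ Stab μ.range (hat μ.range))
      (E.autGroup (hat μ.range) ⊓ Stab μ.range (hat μ.range)) :=
    isSyl_transport E hφ hhat e he (Stab P (hat P)) (Stab μ.range (hat μ.range))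
      (Stab_congr_iff e hF1) hsyl
  refine ⟨hP'S, ?_⟩
  refine sylow_image hsyl' ((resStab hP'R').comp (Subgroup.inclusion inf_le_right)) ?_ ?_ ?_ ?_
  · -- (1)
    intro γ
    rw [mem_autGroup_iff E hP'S]
    have h0 : μ.range.subtype.comp
        (((resStab hP'R').comp (Subgroup.inclusion inf_le_right)) γ).toMonoidHom =
        ((hat μ.range).subtype.comp (γ.1).toMonoidHom).comp (Subgroup.inclusion hP'R') := by
      ext x <;> rfl
    rw [h0]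
    exact restrict_mem E (hom_of_mem_autGroup E hR'S γ.2.1) hP'R'
  · -- (2)
    intro a ha
    have h := hom_of_mem_autGroup E hP'S ha
    obtain ⟨-, a₁, ha₁, a₂, ha₂, hae⟩ := (mem_hom_iff hE _ _).mp h
    have hr : (μ.range.subtype.comp a.toMonoidHom).range = μ.range := by
      ext y
      constructor
      · rintro ⟨x, rfl⟩
        exact (a x).2
      · intro hy
        refine ⟨a⁻¹ ⟨y, hy⟩, ?_⟩
        show ((a (a⁻¹ ⟨y, hy⟩) : ↥μ.range) : Ω₁ × Ω₂) = y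
        rw [MulAut.apply_inv_self]
    have hext := prodMap_mem hE ha₁ ha₂
    have hextr : (prodMap a₁ a₂).range = hat μ.range := by
      rw [prodMap_range, ← p1_range hae, ← p2_range hae, hr]
    obtain ⟨γ, hγA, hγe⟩ := exists_aut_of_hom E hext hextr
    have hkey : ∀ x : ↥μ.range,
        ((γ (Subgroup.inclusion hP'R' x) : ↥(hat μ.range)) : Ω₁ × Ω₂) = ((a x : ↥μ.range) : Ω₁ × Ω₂) := by
      intro x
      rw [hγe, prodMap_apply]
      exact (hae x).symm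
    have hγinj : Function.Injective γ := γ.injective
    have hγS : γ ∈ Stab μ.range (hat μ.range) := by
      intro z
      constructor
      · intro hz
        have h1 : z = Subgroup.inclusion hP'R' ⟨z, hz⟩ := Subtype.ext rfl
        rw [h1, hkey]
        exact (a _).2
      · intro hz
        have h1 := hkey (a⁻¹ ⟨_, hz⟩)
        rw [MulAut.apply_inv_self] at h1
        have h2 : γ (Subgroup.inclusion hP'R' (a⁻¹ ⟨_, hz⟩)) = γ z := Subtype.ext h1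
        have h3 := hγinj h2
        rw [← h3]
        exact (a⁻¹ ⟨_, hz⟩).2
    refine ⟨⟨γ, hγA, hγS⟩, ?_⟩
    apply MulEquiv.ext
    intro x
    apply Subtype.ext
    exact hkey x
  · -- (3)
    intro γ hγ
    obtain ⟨g, hgS, hg⟩ := (mem_autInducedBy_iff _ _ _).mp hγ.1
    rw [mem_autInducedBy_iff]
    refine ⟨g, hgS, fun x => ?_⟩
    show ((γ.1 (Subgroup.inclusion hP'R' x) : ↥(hat μ.range)) : Ω₁ × Ω₂) = g * x * g⁻¹
    rw [hg]
    rfl
  · -- (4)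
    intro a ha
    obtain ⟨g, hgS, hg⟩ := (mem_autInducedBy_iff _ _ _).mp ha
    have hgN : g ∈ Subgroup.normalizer ((μ.range : Subgroup (Ω₁ × Ω₂)) : Set (Ω₁ × Ω₂)) :=
      mem_normalizer_of_induces a hg
    have hgN' : g ∈ Subgroup.normalizer ((hat μ.range : Subgroup (Ω₁ × Ω₂)) : Set (Ω₁ × Ω₂)) :=
      mem_normalizer_prod (fst_mem_normalizer hgN) (snd_mem_normalizer hgN)
    have hc1 : conjAut (hat μ.range) ⟨g, hgN'⟩ ∈ autInducedBy (S₁.prod S₂) (hat μ.range) :=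
      (mem_autInducedBy_iff _ _ _).mpr ⟨g, hgS, fun x => rfl⟩
    have hc2 : conjAut (hat μ.range) ⟨g, hgN'⟩ ∈ Stab μ.range (hat μ.range) := by
      intro z
      show (z : Ω₁ × Ω₂) ∈ μ.range ↔ g * z * g⁻¹ ∈ μ.range
      exact Subgroup.mem_normalizer_iff.mp hgN z
    refine ⟨⟨conjAut (hat μ.range) ⟨g, hgN'⟩, autInducedBy_le_autGroup E hR'S hc1, hc2⟩,
      ⟨hc1, hc2⟩, ?_⟩
    apply MulEquiv.ext
    intro x
    apply Subtype.ext
    show g * x * g⁻¹ = ((a x : ↥μ.range) : Ω₁ × Ω₂)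
    exact (hg x).symm

/-! ### the main theorem -/

theorem prod_saturated [Finite S₁] [Finite S₂] (p : ℕ) [Fact p.Prime]
    (h₁ : IsPGroup p S₁) (h₂ : IsPGroup p S₂) (F₁ : FusionSystem S₁) (F₂ : FusionSystem S₂)
    (hF₁ : F₁.IsSaturated p) (hF₂ : F₂.IsSaturated p) (E : FusionSystem (S₁.prod S₂))
    (hE : IsProductSystem F₁ F₂ E) : E.IsSaturated p := by
  haveI : Finite ↥(S₁.prod S₂) := finite_prod
  have hS := isPGroup_prod h₁ h₂
  intro P hP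
  have hP₁ : p1 P ≤ S₁ := by
    rintro _ ⟨x, hx, rfl⟩
    exact (Subgroup.mem_prod.mp (hP hx)).1
  have hP₂ : p2 P ≤ S₂ := by
    rintro _ ⟨x, hx, rfl⟩
    exact (Subgroup.mem_prod.mp (hP hx)).2
  obtain ⟨A, hPA, hAa, hAr⟩ := hF₁ (p1 P) hP₁
  obtain ⟨B, hPB, hBa, hBr⟩ := hF₂ (p2 P) hP₂
  obtain ⟨f₁, hf₁, hf₁r⟩ := hPA
  obtain ⟨f₂, hf₂, hf₂r⟩ := hPB
  have hφ₀ : prodMap f₁ f₂ ∈ E.Hom (hat P) := prodMap_mem hE hf₁ hf₂
  have hφ₀r : (prodMap f₁ f₂).range = A.prod B := by rw [prodMap_range, hf₁r, hf₂r]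
  have hABa : E.IsFullyAutomized p (A.prod B) := fullyAutomized_prod h₁ h₂ hE hAa hBa
  have hsyl₀ : IsSyl p (AS (S₁.prod S₂) (prodMap f₁ f₂)) (E.autGroup (hat P)) := by
    apply isSyl_AS_of_fullyAutomized E hφ₀
    rw [hφ₀r]
    exact hABa
  obtain ⟨φ, hφ, hφr, hsyl⟩ := exists_good_of hS E (Stab P (hat P)) hφ₀ hsyl₀
  rw [hφ₀r] at hφr
  have hPR : P ≤ hat P := le_hat P
  obtain ⟨μ, hμdef⟩ : ∃ μ : P →* Ω₁ × Ω₂, μ = φ.comp (Subgroup.inclusion hPR) := ⟨_, rfl⟩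
  have hμ : μ ∈ E.Hom P := by
    rw [hμdef]; exact restrict_mem E hφ hPR
  have hμa : ∀ x : P, μ x = φ (Subgroup.inclusion hPR x) := fun x => by rw [hμdef]; rfl
  obtain ⟨-, φ₁, hφ₁, φ₂, hφ₂, hφe⟩ := (mem_hom_iff hE _ _).mp hφ
  have hμle : μ.range ≤ φ.range := by
    rintro _ ⟨x, rfl⟩
    rw [hμa]
    exact ⟨_, rfl⟩
  have hp1 : p1 μ.range = A := by
    have h1 : p1 φ.range = A := by rw [hφr, p1_prod]
    rw [← h1]
    apply le_antisymm (Subgroup.map_mono hμle)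
    rintro _ ⟨_, ⟨z, rfl⟩, rfl⟩
    obtain ⟨x, hx, hxz⟩ := (Subgroup.mem_prod.mp z.2).1
    refine ⟨μ ⟨x, hx⟩, ⟨_, rfl⟩, ?_⟩
    rw [hμa, hφe, hφe]
    show φ₁ ⟨x.1, _⟩ = φ₁ ⟨(z : Ω₁ × Ω₂).1, _⟩
    congr 1
    exact Subtype.ext hxz
  have hp2 : p2 μ.range = B := by
    have h1 : p2 φ.range = B := by rw [hφr, p2_prod]
    rw [← h1]
    apply le_antisymm (Subgroup.map_mono hμle)
    rintro _ ⟨_, ⟨z, rfl⟩, rfl⟩
    obtain ⟨x, hx, hxz⟩ := (Subgroup.mem_prod.mp z.2).2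
    refine ⟨μ ⟨x, hx⟩, ⟨_, rfl⟩, ?_⟩
    rw [hμa, hφe, hφe]
    show φ₂ ⟨x.2, _⟩ = φ₂ ⟨(z : Ω₁ × Ω₂).2, _⟩
    congr 1
    exact Subtype.ext hxz
  have hhat : φ.range = hat μ.range := by
    rw [hφr]
    show A.prod B = (p1 μ.range).prod (p2 μ.range)
    rw [hp1, hp2]
  refine ⟨μ.range, ⟨μ, hμ, rfl⟩, fullyAutomized_of_good hE hφ hμa hhat hsyl, ?_⟩
  apply receptive_of_proj hE (range_le E hμ)
  · rw [hp1]; exact hAr
  · rw [hp2]; exact hBr

end Cfsg.Agent.Lib.Helper2.ProdSat
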