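import Mathlib
import Cfsg.Agent.Lib.Helper2.Pronormal1

set_option autoImplicit false

/-! Pronormality of overgroups of Sylow subgroups in extensions (S4270, S4271): transfer lemmas
and the main theorems. -/

namespace Cfsg.Agent.Lib.Helper2.Pronorm

open scoped Pointwise

universe u

variable {G : Type u} [Group G] {p : ℕ}

/-- all overgroups of Sylow `p`-subgroups are pronormal -/
def AllPrn (p : ℕ) (X : Type u) [Group X] : Prop :=
  ∀ K : Subgroup X, (∃ P : Sylow p X, (P : Subgroup X) ≤ K) → Cfsg.IsPronormal K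

theorem transA [Fact p.Prime] [Finite G] (A : Subgroup G) (hA : AllPrn p ↥A)
    (T : Subgroup G) (hT : SylIn p T A) :
    ∀ B : Subgroup G, B ≤ A → T ≤ B → ∀ a ∈ A,
      ∃ y ∈ B ⊔ MulAut.conj a • B, MulAut.conj a • B = MulAut.conj y • B := by
  intro B hBA hTB a ha
  have h1 : Prn (B.subgroupOf A) :=
    hA (B.subgroupOf A) ⟨hT.toSylow, by rw [hT.coe_toSylow]; exact Subgroup.comap_mono hTB⟩
  have h2 := h1.map_apply A.subtype ⟨a, ha⟩
  rw [Subgroup.map_subgroupOf_eq_of_le hBA] at h2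
  exact h2

theorem transN [Fact p.Prime] [Finite G] (T : Subgroup G)
    [hn : (T.subgroupOf (Subgroup.normalizer (T : Set G))).Normal]
    (hQ : AllPrn p (↥(Subgroup.normalizer (T : Set G)) ⧸
      T.subgroupOf (Subgroup.normalizer (T : Set G)))) :
    ∀ K : Subgroup G, T ≤ K → K ≤ Subgroup.normalizer (T : Set G) →
      (∃ S', SylIn p S' (Subgroup.normalizer (T : Set G)) ∧ S' ≤ K) →
      ∀ n ∈ Subgroup.normalizer (T : Set G),
        ∃ x ∈ K ⊔ MulAut.conj n • K, MulAut.conj n • K = MulAut.conj x • K := by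
  rintro K hTK hKN ⟨S', hS', hS'K⟩ n hnN
  have hπ : Function.Surjective
      (QuotientGroup.mk' (T.subgroupOf (Subgroup.normalizer (T : Set G)))) :=
    QuotientGroup.mk'_surjective _
  have h1 : Prn ((K.subgroupOf (Subgroup.normalizer (T : Set G))).map
      (QuotientGroup.mk' (T.subgroupOf (Subgroup.normalizer (T : Set G))))) :=
    hQ _ ⟨hS'.toSylow.mapSurjective hπ, by
      rw [Sylow.coe_mapSurjective, hS'.coe_toSylow]
      exact Subgroup.map_mono (Subgroup.comap_mono hS'K)⟩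
  have h2 : Prn (K.subgroupOf (Subgroup.normalizer (T : Set G))) :=
    Prn.of_map _ (by rw [QuotientGroup.ker_mk']; exact Subgroup.comap_mono hTK) h1
  have h3 := h2.map_apply (Subgroup.normalizer (T : Set G)).subtype ⟨n, hnN⟩
  rw [Subgroup.map_subgroupOf_eq_of_le hKN] at h3
  exact h3

/-- a Sylow subgroup of `G` normalising the Sylow subgroup `T` of the normal subgroup `A` -/
theorem exists_sylow_le_normalizer [Fact p.Prime] [Finite G] (A : Subgroup G) [A.Normal]
    (T : Subgroup G) (hT : SylIn p T A) :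
    ∃ Q : Sylow p G, (Q : Subgroup G) ⊓ A = T ∧
      (Q : Subgroup G) ≤ Subgroup.normalizer (T : Set G) := by
  obtain ⟨Q, hTQ⟩ := hT.2.1.exists_le_sylow
  have hQA : (Q : Subgroup G) ⊓ A = T :=
    hT.eq_of_le (le_inf hTQ hT.1) inf_le_right (Q.2.to_le inf_le_left)
  refine ⟨Q, hQA, ?_⟩
  intro s hs
  rw [mem_normalizer_iff_smul, ← hQA, Subgroup.smul_inf, conj_smul_self_of_mem hs,
    conj_smul_normal]

theorem quotN_of_all [Fact p.Prime] [Finite G] (A : Subgroup G) [A.Normal] (T : Subgroup G)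
    (hT : SylIn p T A)
    [hn : (T.subgroupOf (Subgroup.normalizer (T : Set G))).Normal]
    (hG : AllPrn p G) :
    AllPrn p (↥(Subgroup.normalizer (T : Set G)) ⧸
      T.subgroupOf (Subgroup.normalizer (T : Set G))) := by
  rintro Kb ⟨Pb, hPb⟩
  have hπ : Function.Surjective
      (QuotientGroup.mk' (T.subgroupOf (Subgroup.normalizer (T : Set G)))) :=
    QuotientGroup.mk'_surjective _
  obtain ⟨Q, -, hQN⟩ := exists_sylow_le_normalizer A T hT
  have hQsyl : SylIn p (Q : Subgroup G) (Subgroup.normalizer (T : Set G)) :=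
    (SylIn.of_sylow_top Q).mono hQN le_top
  obtain ⟨qb, hqb⟩ := MulAction.exists_smul_eq
    (↥(Subgroup.normalizer (T : Set G)) ⧸ T.subgroupOf (Subgroup.normalizer (T : Set G)))
    (hQsyl.toSylow.mapSurjective hπ) Pb
  obtain ⟨n, rfl⟩ := hπ qb
  have h1 : ((n • hQsyl.toSylow : Sylow p ↥(Subgroup.normalizer (T : Set G))) :
      Subgroup ↥(Subgroup.normalizer (T : Set G))).map
      (QuotientGroup.mk' (T.subgroupOf (Subgroup.normalizer (T : Set G)))) =
      (Pb : Subgroup _) := by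
    rw [Sylow.coe_subgroup_smul, map_conj_smul, ← Sylow.coe_mapSurjective hπ,
      ← Sylow.coe_subgroup_smul, hqb]
  have h2 : ((n • hQsyl.toSylow : Sylow p ↥(Subgroup.normalizer (T : Set G))) :
      Subgroup ↥(Subgroup.normalizer (T : Set G))) ≤
      Kb.comap (QuotientGroup.mk' (T.subgroupOf (Subgroup.normalizer (T : Set G)))) := by
    rw [← Subgroup.map_le_iff_le_comap, h1]; exact hPb
  have h3 : SylIn p (((n • hQsyl.toSylow : Sylow p ↥(Subgroup.normalizer (T : Set G))) :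
      Subgroup ↥(Subgroup.normalizer (T : Set G))).map
      (Subgroup.normalizer (T : Set G)).subtype) ⊤ := by
    rw [Sylow.coe_subgroup_smul, map_conj_smul, hQsyl.coe_toSylow,
      Subgroup.map_subgroupOf_eq_of_le hQN]
    have h4 := (SylIn.of_sylow_top Q).smul ((Subgroup.normalizer (T : Set G)).subtype n)
    rwa [conj_smul_normal _ ⊤] at h4
  have h4 : Prn ((Kb.comap
      (QuotientGroup.mk' (T.subgroupOf (Subgroup.normalizer (T : Set G))))).map
      (Subgroup.normalizer (T : Set G)).subtype) :=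
    hG _ ⟨h3.toSylowTop, by rw [h3.coe_toSylowTop]; exact Subgroup.map_mono h2⟩
  have h5 : Prn (Kb.comap
      (QuotientGroup.mk' (T.subgroupOf (Subgroup.normalizer (T : Set G))))) :=
    Prn.of_map _ (by rw [Subgroup.ker_subtype]; exact bot_le) h4
  have h6 := h5.map_surj _ hπ
  rwa [Subgroup.map_comap_eq_self_of_surjective hπ] at h6

theorem mem_mul_of_selfnorm [Fact p.Prime] [Finite G] (A : Subgroup G) [A.Normal]
    (hQ : ∀ P : Sylow p (G ⧸ A),
      Subgroup.normalizer ((P : Subgroup (G ⧸ A)) : Set (G ⧸ A)) = P)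
    (S : Subgroup G) (hS : SylIn p S ⊤) (g : G) (hg : g ∈ Subgroup.normalizer (S : Set G)) :
    ∃ a ∈ A, ∃ s ∈ S, g = a * s := by
  have hπ : Function.Surjective (QuotientGroup.mk' A) := QuotientGroup.mk'_surjective _
  have h1 : QuotientGroup.mk' A g ∈
      Subgroup.normalizer ((S.map (QuotientGroup.mk' A) : Subgroup (G ⧸ A)) : Set (G ⧸ A)) :=
    Subgroup.le_normalizer_map (QuotientGroup.mk' A) ⟨g, hg, rfl⟩
  have h2 := hQ (hS.toSylowTop.mapSurjective hπ)
  rw [Sylow.coe_mapSurjective, hS.coe_toSylowTop] at h2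
  rw [h2] at h1
  obtain ⟨s, hs, hsg⟩ := h1
  refine ⟨g * s⁻¹, ?_, s, hs, by group⟩
  have h3 : QuotientGroup.mk' A (g * s⁻¹) = 1 := by
    rw [map_mul, map_inv, hsg, mul_inv_cancel]
  exact (QuotientGroup.eq_one_iff _).1 h3

/-- reduction: it suffices to treat overgroups `H` of Sylow subgroups `S` with `S ⊓ A = T`. -/
theorem allPrn_of_normalised [Fact p.Prime] [Finite G] (A : Subgroup G) [A.Normal] (T : Subgroup G)
    (hT : SylIn p T A)
    (h : ∀ H S : Subgroup G, SylIn p S ⊤ → S ≤ H → S ⊓ A = T → Prn H) : AllPrn p G := by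
  rintro K ⟨P, hPK⟩
  have hPA : SylIn p ((P : Subgroup G) ⊓ A) A := (SylIn.of_sylow_top P).inf_normal
  obtain ⟨u, -, hu⟩ := hPA.exists_conj hT
  have hS : SylIn p (MulAut.conj u • (P : Subgroup G)) ⊤ := by
    have h1 := (SylIn.of_sylow_top P).smul u
    rwa [conj_smul_normal _ ⊤] at h1
  have hSA : MulAut.conj u • (P : Subgroup G) ⊓ A = T := by
    rw [← hu, Subgroup.smul_inf, conj_smul_normal u A]
  have h1 := h (MulAut.conj u • K) (MulAut.conj u • (P : Subgroup G)) hS (conj_smul_mono u hPK) hSA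
  have h2 := h1.conj u⁻¹
  rwa [conj_inv_smul_smul] at h2

/-- S4271, the nontrivial direction. -/
theorem allPrn_of_selfnorm [Fact p.Prime] [Finite G] (A : Subgroup G) [A.Normal]
    (hA : AllPrn p ↥A)
    (hQ : ∀ P : Sylow p (G ⧸ A),
      Subgroup.normalizer ((P : Subgroup (G ⧸ A)) : Set (G ⧸ A)) = P)
    (T : Subgroup G) (hT : SylIn p T A)
    [hn : (T.subgroupOf (Subgroup.normalizer (T : Set G))).Normal]
    (hN : AllPrn p (↥(Subgroup.normalizer (T : Set G)) ⧸
      T.subgroupOf (Subgroup.normalizer (T : Set G)))) : AllPrn p G := by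
  refine allPrn_of_normalised A T hT ?_
  intro H S hS hSH hSA g
  have c1 : SylIn p S (H ⊔ MulAut.conj g • H) := hS.mono (hSH.trans le_sup_left) le_top
  have c2 : SylIn p (MulAut.conj g • S) (H ⊔ MulAut.conj g • H) := by
    have h1 := hS.smul g
    rw [conj_smul_normal _ ⊤] at h1
    exact h1.mono ((conj_smul_mono g hSH).trans le_sup_right) le_top
  obtain ⟨j, hj, hjS⟩ := c2.exists_conj c1
  have hg' : j * g ∈ Subgroup.normalizer (S : Set G) :=
    mem_normalizer_iff_smul.2 (by rw [conj_mul_smul, hjS])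
  obtain ⟨a, ha, s, hs, hgas⟩ := mem_mul_of_selfnorm A hQ S hS (j * g) hg'
  obtain ⟨z, hz, haz⟩ := core A T hT (transA A hA T hT) (transN T hN) H S hS hSH hSA a ha
  have h1 : MulAut.conj (j * g) • H = MulAut.conj a • H := by
    rw [hgas, conj_mul_smul, conj_smul_self_of_mem (hSH hs)]
  have h2 : MulAut.conj a • H ≤ H ⊔ MulAut.conj g • H := by
    rw [← h1, conj_mul_smul]
    exact conj_smul_le_of_mem hj le_sup_right
  refine ⟨j⁻¹ * z, ?_, ?_⟩
  · exact Subgroup.mul_mem _ (Subgroup.inv_mem _ hj) ((sup_le le_sup_left h2) hz)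
  · rw [conj_mul_smul, ← haz, ← h1, ← conj_mul_smul]
    congr 2
    group

/-- S4270, the nontrivial direction. -/
theorem allPrn_of_quot [Fact p.Prime] [Finite G] (A : Subgroup G) [A.Normal]
    (hA : AllPrn p ↥A) (hQ : AllPrn p (G ⧸ A))
    (T : Subgroup G) (hT : SylIn p T A)
    [hn : (T.subgroupOf (Subgroup.normalizer (T : Set G))).Normal]
    (hN : AllPrn p (↥(Subgroup.normalizer (T : Set G)) ⧸
      T.subgroupOf (Subgroup.normalizer (T : Set G))))
    (hii : ∀ K : Subgroup G, (∃ P : Sylow p G, (P : Subgroup G) ≤ K) →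
      (Subgroup.normalizer (K : Set G)).map (QuotientGroup.mk' A) =
        Subgroup.normalizer ((K.map (QuotientGroup.mk' A) : Subgroup (G ⧸ A)) : Set (G ⧸ A))) :
    AllPrn p G := by
  refine allPrn_of_normalised A T hT ?_
  intro H S hS hSH hSA g
  have hπ : Function.Surjective (QuotientGroup.mk' A) := QuotientGroup.mk'_surjective _
  have hHsyl : ∃ P : Sylow p G, (P : Subgroup G) ≤ H :=
    ⟨hS.toSylowTop, by rw [hS.coe_toSylowTop]; exact hSH⟩
  have h1 : Prn (H.map (QuotientGroup.mk' A)) :=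
    hQ _ ⟨hS.toSylowTop.mapSurjective hπ, by
      rw [Sylow.coe_mapSurjective, hS.coe_toSylowTop]; exact Subgroup.map_mono hSH⟩
  obtain ⟨xb, hxb, hgx⟩ := h1 (QuotientGroup.mk' A g)
  rw [← map_conj_smul, ← Subgroup.map_sup] at hxb
  obtain ⟨x, hx, rfl⟩ := hxb
  have h2 : QuotientGroup.mk' A (x⁻¹ * g) ∈ Subgroup.normalizer
      ((H.map (QuotientGroup.mk' A) : Subgroup (G ⧸ A)) : Set (G ⧸ A)) := by
    rw [mem_normalizer_iff_smul, map_mul, conj_mul_smul, hgx, map_inv, conj_inv_smul_smul]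
  rw [← hii H hHsyl] at h2
  obtain ⟨n, hn', hnx⟩ := h2
  have ha : x⁻¹ * g * n⁻¹ ∈ A := by
    have h3 : QuotientGroup.mk' A (x⁻¹ * g * n⁻¹) = 1 := by
      rw [map_mul, map_inv, hnx, mul_inv_cancel]
    exact (QuotientGroup.eq_one_iff _).1 h3
  obtain ⟨z, hz, haz⟩ := core A T hT (transA A hA T hT) (transN T hN) H S hS hSH hSA _ ha
  have hnH : MulAut.conj n • H = H := mem_normalizer_iff_smul.1 hn'
  have h3 : MulAut.conj g • H = MulAut.conj x • (MulAut.conj (x⁻¹ * g * n⁻¹) • H) := by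
    have e : g = x * ((x⁻¹ * g * n⁻¹) * n) := by group
    conv_lhs => rw [e, conj_mul_smul, conj_mul_smul, hnH]
  have h4 : MulAut.conj (x⁻¹ * g * n⁻¹) • H ≤ H ⊔ MulAut.conj g • H := by
    have h5 : MulAut.conj (x⁻¹ * g * n⁻¹) • H = MulAut.conj x⁻¹ • (MulAut.conj g • H) := by
      rw [h3, conj_inv_smul_smul]
    rw [h5]
    exact conj_smul_le_of_mem (Subgroup.inv_mem _ hx) le_sup_right
  refine ⟨x * z, ?_, ?_⟩
  · exact Subgroup.mul_mem _ hx ((sup_le le_sup_left h4) hz)
  · rw [h3, haz, ← conj_mul_smul]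

/-- S4270 (ii) from pronormality. -/
theorem normalizer_map_of_prn (A : Subgroup G) [A.Normal] (K : Subgroup G) (hK : Prn K) :
    (Subgroup.normalizer (K : Set G)).map (QuotientGroup.mk' A) =
      Subgroup.normalizer ((K.map (QuotientGroup.mk' A) : Subgroup (G ⧸ A)) : Set (G ⧸ A)) := by
  apply le_antisymm (Subgroup.le_normalizer_map _)
  intro gb hgb
  obtain ⟨g, rfl⟩ := QuotientGroup.mk'_surjective A gb
  rw [mem_normalizer_iff_smul, ← map_conj_smul] at hgb
  have h1 : MulAut.conj g • K ≤ K ⊔ A := by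
    have h2 : MulAut.conj g • K ≤ ((MulAut.conj g • K).map (QuotientGroup.mk' A)).comap
        (QuotientGroup.mk' A) := Subgroup.le_comap_map _ _
    rw [hgb, Subgroup.comap_map_eq, QuotientGroup.ker_mk'] at h2
    exact h2
  obtain ⟨x, hx, hgx⟩ := hK g
  have hx' : x ∈ K ⊔ A := (sup_le le_sup_left h1) hx
  obtain ⟨k, hk, a, ha, rfl⟩ := Subgroup.mem_sup_of_normal_right.1 hx'
  have h3 : (k * a)⁻¹ * g ∈ Subgroup.normalizer (K : Set G) := by
    rw [mem_normalizer_iff_smul, conj_mul_smul, hgx, conj_inv_smul_smul]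
  have h4 : k * ((k * a)⁻¹ * g) ∈ Subgroup.normalizer (K : Set G) :=
    Subgroup.mul_mem _ (Subgroup.le_normalizer hk) h3
  refine ⟨k * ((k * a)⁻¹ * g), h4, ?_⟩
  have h5 : QuotientGroup.mk' A a = 1 := (QuotientGroup.eq_one_iff _).2 ha
  rw [map_mul, map_mul, map_inv, map_mul, h5, mul_one, mul_inv_cancel_left]

end Cfsg.Agent.Lib.Helper2.Pronorm
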