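import Mathlib
import Cfsg.Agent.Lib.Helper2.QDFusB
import Cfsg.Agent.Lib.Lead.QDIso

/-!
# Consequences of fusion / non-fusion in groups with quasi-dihedral Sylow 2-subgroups

Counting classes of involutions and of elements of order 4; groups without subgroups of index 2;
normal subgroups of index 2 from the focal subgroup theorem.
-/

set_option autoImplicit false

namespace Cfsg.Agent.Lib.Helper2.QDFusC

open Cfsg Cfsg.Agent.Lib.Lead.QDArith Cfsg.Agent.Lib.Lead.QDCore Cfsg.Agent.Lib.Helper7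
open Cfsg.Agent.Lib.Helper2.FourGroup Cfsg.Agent.Lib.Helper2.QDFour Cfsg.Agent.Lib.Helper2.QDQuat
open Cfsg.Agent.Lib.Helper2.AutIndex Cfsg.Agent.Lib.Helper2.QuatAut
open Cfsg.Agent.Lib.Helper2.QDSylow Cfsg.Agent.Lib.Helper2.QDFusA Cfsg.Agent.Lib.Helper2.QDFusB

section General

variable {G : Type*} [Group G] [Finite G]

theorem exists_conj_mem_sylow_of_orderOf_pow (P : Sylow 2 G) {g : G} (k : ℕ)
    (hg : orderOf g = 2 ^ k) : ∃ c : G, c * g * c⁻¹ ∈ (P : Subgroup G) := by
  have hz : IsPGroup 2 ↥(Subgroup.zpowers g) :=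
    IsPGroup.of_card (n := k) (by rw [Nat.card_zpowers, hg])
  obtain ⟨h, hh⟩ := exists_conj_le_of_not_dvd_index hz P.not_dvd_index
  refine ⟨h⁻¹, ?_⟩
  have := hh g (Subgroup.mem_zpowers g)
  rwa [inv_inv]

end General

section QDsec

variable {G : Type*} [Group G] [Finite G] (S : Sylow 2 G) {n : ℕ} {x y : ↥(S : Subgroup G)}
  (hq : QD ↥(S : Subgroup G) n x y)

include hq in
/-- every involution of `G` is conjugate to `z` or to `y` -/
theorem invol_conj_cases (t : G) (ht : orderOf t = 2) :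
    IsConj t ((r n x (hh n) : ↥(S : Subgroup G)) : G) ∨ IsConj t (y : G) := by
  obtain ⟨c, hc⟩ := exists_conj_mem_sylow_of_orderOf_pow S 1 (by rw [ht, pow_one])
  have h1 : IsConj t (c * t * c⁻¹) := isConj_iff.2 ⟨c, rfl⟩
  have ho : orderOf (⟨_, hc⟩ : ↥(S : Subgroup G)) = 2 := by
    rw [← Subgroup.orderOf_coe]
    show orderOf (c * t * c⁻¹) = 2
    rw [orderOf_conj_eq', ht]
  rcases hq.involution_cases ho with h | ⟨i, hi, h⟩
  · left
    have : c * t * c⁻¹ = ((r n x (hh n) : ↥(S : Subgroup G)) : G) := congrArg Subtype.val h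
    rw [← this]; exact h1
  · right
    have h2 : c * t * c⁻¹ = ((s n x y i : ↥(S : Subgroup G)) : G) := congrArg Subtype.val h
    have h3 : IsConj (y : G) ((s n x y i : ↥(S : Subgroup G)) : G) :=
      (S : Subgroup G).subtype.map_isConj (hq.isConj_s_even hi)
    rw [h2] at h1
    exact h1.trans h3.symm

include hq in
/-- every element of order 4 of `G` is conjugate to `v` or to `s 1` -/
theorem order4_conj_cases (t : G) (ht : orderOf t = 4) :
    IsConj t ((r n x (qq n) : ↥(S : Subgroup G)) : G) ∨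
      IsConj t ((s n x y 1 : ↥(S : Subgroup G)) : G) := by
  obtain ⟨c, hc⟩ := exists_conj_mem_sylow_of_orderOf_pow S 2 (by rw [ht]; norm_num)
  have h1 : IsConj t (c * t * c⁻¹) := isConj_iff.2 ⟨c, rfl⟩
  have ho : orderOf (⟨_, hc⟩ : ↥(S : Subgroup G)) = 4 := by
    rw [← Subgroup.orderOf_coe]
    show orderOf (c * t * c⁻¹) = 4
    rw [orderOf_conj_eq', ht]
  rcases hq.order4_cases ho with h | h | ⟨i, hi, h⟩
  · left
    have : c * t * c⁻¹ = ((r n x (qq n) : ↥(S : Subgroup G)) : G) := congrArg Subtype.val h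
    rw [← this]; exact h1
  · left
    have h2 : c * t * c⁻¹ = ((r n x (qq n + hh n) : ↥(S : Subgroup G)) : G) :=
      congrArg Subtype.val h
    have h3 : IsConj ((r n x (qq n) : ↥(S : Subgroup G)) : G)
        ((r n x (qq n + hh n) : ↥(S : Subgroup G)) : G) :=
      (S : Subgroup G).subtype.map_isConj hq.isConj_rq
    rw [h2] at h1
    exact h1.trans h3.symm
  · right
    have h2 : c * t * c⁻¹ = ((s n x y i : ↥(S : Subgroup G)) : G) := congrArg Subtype.val h
    have h3 : IsConj ((s n x y 1 : ↥(S : Subgroup G)) : G) ((s n x y i : ↥(S : Subgroup G)) : G) :=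
      (S : Subgroup G).subtype.map_isConj (hq.isConj_s_odd hi)
    rw [h2] at h1
    exact h1.trans h3.symm

include hq in
theorem orderOf_coe_z : orderOf ((r n x (hh n) : ↥(S : Subgroup G)) : G) = 2 := by
  rw [Subgroup.orderOf_coe]; exact hq.orderOf_rh

include hq in
theorem orderOf_coe_y : orderOf (y : G) = 2 := by
  rw [Subgroup.orderOf_coe]; exact hq.oy

include hq in
theorem orderOf_coe_v : orderOf ((r n x (qq n) : ↥(S : Subgroup G)) : G) = 4 := by
  rw [Subgroup.orderOf_coe]; exact hq.orderOf_rq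

include hq in
theorem orderOf_coe_s1 : orderOf ((s n x y 1 : ↥(S : Subgroup G)) : G) = 4 := by
  rw [Subgroup.orderOf_coe]; exact hq.orderOf_s_odd ⟨0, by ring⟩

include hq in
theorem card_invol_classes_one
    (h : IsConj ((r n x (hh n) : ↥(S : Subgroup G)) : G) (y : G)) :
    Nat.card {C : ConjClasses G // ∃ t : G, orderOf t = 2 ∧ ConjClasses.mk t = C} = 1 := by
  apply card_classes_eq_one 2 _ (orderOf_coe_z S hq)
  intro t ht
  rcases invol_conj_cases S hq t ht with h1 | h1
  · exact h1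
  · exact h1.trans h.symm

include hq in
theorem card_invol_classes_two
    (h : ∀ i, Even i → ∀ (g : G) (j : ZMod (2 ^ n)),
      g * ((s n x y i : ↥(S : Subgroup G)) : G) * g⁻¹ ≠ ((r n x j : ↥(S : Subgroup G)) : G)) :
    Nat.card {C : ConjClasses G // ∃ t : G, orderOf t = 2 ∧ ConjClasses.mk t = C} = 2 := by
  apply card_classes_eq_two 2 _ _ (orderOf_coe_z S hq) (orderOf_coe_y S hq) _
    (invol_conj_cases S hq)
  intro hc
  obtain ⟨c, hc⟩ := isConj_iff.1 hc.symm
  apply h 0 ⟨0, by ring⟩ c (hh n)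
  rw [hq.s_zero]
  exact hc

include hq in
theorem card_order4_classes_one
    (h : IsConj ((r n x (qq n) : ↥(S : Subgroup G)) : G) ((s n x y 1 : ↥(S : Subgroup G)) : G)) :
    Nat.card {C : ConjClasses G // ∃ t : G, orderOf t = 4 ∧ ConjClasses.mk t = C} = 1 := by
  apply card_classes_eq_one 4 _ (orderOf_coe_v S hq)
  intro t ht
  rcases order4_conj_cases S hq t ht with h1 | h1
  · exact h1
  · exact h1.trans h.symm

include hq in
theorem card_order4_classes_two
    (h : ∀ l, Odd l → ∀ (g : G) (j : ZMod (2 ^ n)),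
      g * ((s n x y l : ↥(S : Subgroup G)) : G) * g⁻¹ ≠ ((r n x j : ↥(S : Subgroup G)) : G)) :
    Nat.card {C : ConjClasses G // ∃ t : G, orderOf t = 4 ∧ ConjClasses.mk t = C} = 2 := by
  apply card_classes_eq_two 4 _ _ (orderOf_coe_v S hq) (orderOf_coe_s1 S hq) _
    (order4_conj_cases S hq)
  intro hc
  obtain ⟨c, hc⟩ := isConj_iff.1 hc.symm
  exact h 1 ⟨0, by ring⟩ c (qq n) hc

include hq in
/-- every element of `S` lies in a subgroup containing `x` and `y` -/
theorem S_le_of_x_y_mem (H : Subgroup G) (hx : (x : G) ∈ H) (hy : (y : G) ∈ H) :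
    (S : Subgroup G) ≤ H := by
  intro g hg
  have hr : ∀ i : ZMod (2 ^ n), ((r n x i : ↥(S : Subgroup G)) : G) ∈ H := by
    intro i
    show ((x ^ i.val : ↥(S : Subgroup G)) : G) ∈ H
    rw [Subgroup.coe_pow]
    exact H.pow_mem hx _
  rcases hq.exists_rep (⟨g, hg⟩ : ↥(S : Subgroup G)) with ⟨i, hi⟩ | ⟨i, hi⟩
  · have : g = ((r n x i : ↥(S : Subgroup G)) : G) := congrArg Subtype.val hi
    rw [this]; exact hr i
  · have : g = ((s n x y i : ↥(S : Subgroup G)) : G) := congrArg Subtype.val hi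
    rw [this, s_eq, Subgroup.coe_mul]
    exact H.mul_mem (hr i) hy

include hq in
/-- If `z ~ y` and `v ~ s 1`, then `G` has no subgroup of index 2. -/
theorem no_index_two_of_fus
    (h1 : IsConj ((r n x (hh n) : ↥(S : Subgroup G)) : G) (y : G))
    (h2 : IsConj ((r n x (qq n) : ↥(S : Subgroup G)) : G) ((s n x y 1 : ↥(S : Subgroup G)) : G))
    (H : Subgroup G) : H.index ≠ 2 := by
  intro hH
  haveI : H.Normal := Subgroup.normal_of_index_eq_two hH
  have hsq : ∀ a : G, a ^ 2 ∈ H := Subgroup.sq_mem_of_index_two hH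
  have hv : ((r n x (qq n) : ↥(S : Subgroup G)) : G) ∈ H := by
    have h3 : r n x (qq n) = r n x (ee n) ^ 2 := by
      rw [hq.r_pow]; congr 1; rw [← two_ee hq.hn]; push_cast; ring
    rw [h3, Subgroup.coe_pow]
    exact hsq _
  have hz : ((r n x (hh n) : ↥(S : Subgroup G)) : G) ∈ H := by
    have h3 : r n x (hh n) = r n x (qq n) ^ 2 := by
      rw [hq.r_pow]; congr 1; rw [← two_qq hq.n2]; push_cast; ring
    rw [h3, Subgroup.coe_pow]
    exact hsq _
  have hy : (y : G) ∈ H := by
    obtain ⟨c, hc⟩ := isConj_iff.1 h1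
    rw [← hc]
    exact Subgroup.Normal.conj_mem inferInstance _ hz c
  have hs1 : ((s n x y 1 : ↥(S : Subgroup G)) : G) ∈ H := by
    obtain ⟨c, hc⟩ := isConj_iff.1 h2
    rw [← hc]
    exact Subgroup.Normal.conj_mem inferInstance _ hv c
  have hx : (x : G) ∈ H := by
    have h3 : x = s n x y 1 * s n x y 0 := by
      rw [hq.s_mul_s, mul_zero, add_zero, hq.r_one]
    rw [h3, Subgroup.coe_mul, hq.s_zero]
    exact H.mul_mem hs1 hy
  have hle := S_le_of_x_y_mem S hq H hx hy
  have := Subgroup.index_dvd_of_le hle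
  rw [hH] at this
  exact S.not_dvd_index this

end QDsec

end Cfsg.Agent.Lib.Helper2.QDFusC
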