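import Mathlib
import Cfsg.Agent.Lib.Helper2.QDFusC
import Cfsg.Agent.Lib.Helper2.DihedralSub
import Cfsg.Agent.Lib.Helper1.FusionControl
import Cfsg.Agent.Lib.Helper7.SylowIn

/-!
# Normal subgroups of index 2 and normal 2-complements for quasi-dihedral Sylow 2-subgroups
-/

set_option autoImplicit false

namespace Cfsg.Agent.Lib.Helper2.QDFusD

open Cfsg Cfsg.Agent.Lib.Lead.QDArith Cfsg.Agent.Lib.Lead.QDCore Cfsg.Agent.Lib.Helper7
open Cfsg.Agent.Lib.Helper2.FourGroup Cfsg.Agent.Lib.Helper2.QDFour Cfsg.Agent.Lib.Helper2.QDQuat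
open Cfsg.Agent.Lib.Helper2.AutIndex Cfsg.Agent.Lib.Helper2.QuatAut
open Cfsg.Agent.Lib.Helper2.QDSylow Cfsg.Agent.Lib.Helper2.QDFusA Cfsg.Agent.Lib.Helper2.QDFusB
open Cfsg.Agent.Lib.Helper2.QDFusC Cfsg.Agent.Lib.Helper2.DihedralSub

local notation:max Q "⋏" g:max => Subgroup.map (MulEquiv.toMonoidHom (MulAut.conj g)) Q

section IndexTwo

variable {G : Type*} [Group G]

theorem mem_zpowers_two {v a : G} (hv : orderOf v = 2) (ha : a ∈ Subgroup.zpowers v) :
    a = 1 ∨ a = v := by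
  obtain ⟨k, rfl⟩ := Subgroup.mem_zpowers_iff.mp ha
  rw [← zpow_mod_orderOf, hv]
  have h : k % ((2 : ℕ) : ℤ) = 0 ∨ k % ((2 : ℕ) : ℤ) = 1 := by omega
  rcases h with h | h
  · left; rw [h, zpow_zero]
  · right; rw [h, zpow_one]

theorem conj_mem_of_P1 {H' K : Subgroup G}
    (hP1 : ∀ a ∈ K, ∀ b ∈ K, (a * b ∈ H' ↔ (a ∈ H' ↔ b ∈ H'))) {k h : G} (hk : k ∈ K)
    (hh : h ∈ K) : k * h * k⁻¹ ∈ H' ↔ h ∈ H' := by
  rw [hP1 (k * h) (K.mul_mem hk hh) k⁻¹ (K.inv_mem hk), hP1 k hk h hh, inv_mem_iff]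
  tauto

/-- A quaternion subgroup of order 8 of `K` with an automorphism of order 3 induced from `K` lies
in every subgroup of index 2 of `K`. -/
theorem quat_le_of_index_two (Q' : Subgroup G) (eQ' : ↥Q' ≃* QuaternionGroup 2)
    (H' K : Subgroup G) (hQK : Q' ≤ K)
    (hP1 : ∀ a ∈ K, ∀ b ∈ K, (a * b ∈ H' ↔ (a ∈ H' ↔ b ∈ H')))
    (n₀ : G) (hn₀N : n₀ ∈ Subgroup.normalizer (Q' : Set G)) (hn₀K : n₀ ∈ K)
    (hodd : Odd (orderOf n₀)) (hn₀M : n₀ ∉ QC Q') : Q' ≤ H' := by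
  have hconj : ∀ q : ↥Q', n₀ * (q : G) * n₀⁻¹ ∈ Q' :=
    fun q => (Subgroup.mem_normalizer_iff.mp hn₀N _).mp q.2
  have key : ∀ q : ↥Q', q * q ≠ 1 →
      (⟨_, hconj q⟩ : ↥Q') * ⟨_, hconj q⟩ ≠ 1 ∧ (⟨_, hconj q⟩ : ↥Q') ≠ q ∧
      (⟨_, hconj q⟩ : ↥Q') ≠ q⁻¹ ∧ ((q : G) ∈ H' ↔ n₀ * (q : G) * n₀⁻¹ ∈ H') := by
    intro q hq2
    refine ⟨?_, ?_, ?_, ?_⟩
    · intro h
      apply hq2
      have h1 : n₀ * (q : G) * n₀⁻¹ * (n₀ * (q : G) * n₀⁻¹) = 1 := congrArg Subtype.val h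
      apply Subtype.ext
      show (q : G) * (q : G) = 1
      have : (q : G) * (q : G) = n₀⁻¹ * (n₀ * (q : G) * n₀⁻¹ * (n₀ * (q : G) * n₀⁻¹)) * n₀ := by
        group
      rw [this, h1]; group
    · intro h
      apply hn₀M
      apply mem_QC_of_odd_fix Q' eQ' hn₀N hodd q hq2
      have h1 : n₀ * (q : G) * n₀⁻¹ = (q : G) := congrArg Subtype.val h
      rw [h1]; exact Subgroup.mem_zpowers _
    · intro h
      apply hn₀M
      apply mem_QC_of_odd_fix Q' eQ' hn₀N hodd q hq2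
      have h1 : n₀ * (q : G) * n₀⁻¹ = (q : G)⁻¹ := congrArg Subtype.val h
      rw [h1]; exact Subgroup.inv_mem _ (Subgroup.mem_zpowers _)
    · exact (conj_mem_of_P1 hP1 hn₀K (hQK q.2)).symm
  obtain ⟨g, _, hg2, _, _, _⟩ := k_exists_pair' eQ'
  obtain ⟨hg₁2, hg₁a, hg₁b, hgH⟩ := key g hg2
  set g₁ : ↥Q' := ⟨_, hconj g⟩ with hg₁
  obtain ⟨hp2, -, -, -, -⟩ := k_prod eQ' hg2 hg₁2 hg₁a hg₁b
  have hpH : ((g * g₁ : ↥Q') : G) ∈ H' := by
    rw [Subgroup.coe_mul, hP1 _ (hQK g.2) _ (hQK g₁.2)]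
    exact hgH
  obtain ⟨hp₁2, hp₁a, hp₁b, hpH'⟩ := key (g * g₁) hp2
  set p₁ : ↥Q' := ⟨_, hconj (g * g₁)⟩ with hp₁
  have hp₁H : (p₁ : G) ∈ H' := hpH'.1 hpH
  intro k hk
  obtain ⟨i, j, hij⟩ := k_gen eQ' hp2 hp₁2 hp₁a hp₁b ⟨k, hk⟩
  have : k = ((g * g₁ : ↥Q') : G) ^ i * (p₁ : G) ^ j := by
    have := congrArg Subtype.val hij
    simpa using this
  rw [this]
  exact H'.mul_mem (H'.pow_mem hpH _) (H'.pow_mem hp₁H _)

/-- A four-subgroup of `K` with an automorphism of order 3 induced from `K` lies in every subgroup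
of index 2 of `K`. -/
theorem four_le_of_index_two (T : Subgroup G) [hT : IsKleinFour ↥T]
    (H' K : Subgroup G) (hTK : T ≤ K)
    (hP1 : ∀ a ∈ K, ∀ b ∈ K, (a * b ∈ H' ↔ (a ∈ H' ↔ b ∈ H')))
    (n₀ : G) (hn₀N : n₀ ∈ Subgroup.normalizer (T : Set G)) (hn₀K : n₀ ∈ K)
    (hodd : Odd (orderOf n₀)) (hn₀C : n₀ ∉ Subgroup.centralizer (T : Set G)) : T ≤ H' := by
  have hconj : ∀ t ∈ T, n₀ * t * n₀⁻¹ ∈ T :=
    fun t ht => (Subgroup.mem_normalizer_iff.mp hn₀N _).mp ht
  have hne1 : ∀ t : G, t ≠ 1 → n₀ * t * n₀⁻¹ ≠ 1 := by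
    intro t ht h
    apply ht
    have : t = n₀⁻¹ * (n₀ * t * n₀⁻¹) * n₀ := by group
    rw [this, h]; group
  have hmove : ∀ t ∈ T, t ≠ 1 → n₀ * t * n₀⁻¹ ≠ t := by
    intro t ht ht1 h
    exact hn₀C (mem_centralizer_of_odd_fix T hn₀N hodd ht ht1 h)
  intro c hc
  by_cases hc1 : c = 1
  · rw [hc1]; exact H'.one_mem
  set a := n₀ * c * n₀⁻¹ with ha
  have haT : a ∈ T := hconj c hc
  have ha1 : a ≠ 1 := hne1 c hc1
  have hac : a ≠ c := hmove c hc hc1
  set a₁ := n₀ * a * n₀⁻¹ with ha₁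
  have ha₁T : a₁ ∈ T := hconj a haT
  have ha₁1 : a₁ ≠ 1 := hne1 a ha1
  have ha₁a : a₁ ≠ a := hmove a haT ha1
  have ha₁c : a₁ ≠ c := by
    intro h
    apply hn₀C
    apply mem_of_sq_mem_of_odd hodd
    have hsqN : n₀ ^ 2 ∈ Subgroup.normalizer (T : Set G) := Subgroup.pow_mem _ hn₀N 2
    have hsqodd : Odd (orderOf (n₀ ^ 2)) := Odd.of_dvd_nat hodd (orderOf_pow_dvd 2)
    apply mem_centralizer_of_odd_fix T hsqN hsqodd hc hc1
    have : n₀ ^ 2 * c * (n₀ ^ 2)⁻¹ = n₀ * (n₀ * c * n₀⁻¹) * n₀⁻¹ := by rw [pow_two]; group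
    rw [this]
    exact h
  have hcase := mem_cases T hc haT hc1 ha1 (fun h => hac h.symm) ha₁T
  have ha₁eq : a₁ = c * a := by
    rcases hcase with h | h | h | h
    · exact absurd h ha₁1
    · exact absurd h ha₁c
    · exact absurd h ha₁a
    · exact h
  have hprod : a * a₁ = c := by
    rw [ha₁eq, comm_of_mem T hc haT, ← mul_assoc, mul_self_of_mem T haT, one_mul]
  have h1 : a * a₁ ∈ H' := by
    rw [hP1 a (hTK haT) a₁ (hTK ha₁T)]
    exact (conj_mem_of_P1 hP1 hn₀K (hTK haT)).symm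
  rwa [hprod] at h1

/-- The intersection of a Sylow 2-subgroup with a normal subgroup `K` is not contained in a
subgroup of index 2 of `K`. -/
theorem sylow_inf_not_le [Finite G] (S : Sylow 2 G) (K : Subgroup G) [K.Normal]
    (H' : Subgroup G) (hH'K : H' ≤ K) (hidx : H'.relIndex K = 2) :
    ¬ ((S : Subgroup G) ⊓ K ≤ H') := by
  intro hle
  have h1 : ((S : Subgroup G) ⊓ K).relIndex K = (S : Subgroup G).relIndex ((S : Subgroup G) ⊔ K) := by
    rw [Subgroup.inf_relIndex_right, relIndex_sup_eq_of_normal]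
  have h2 := Subgroup.relIndex_mul_relIndex _ _ _ hle hH'K
  rw [hidx, h1] at h2
  have h3 : 2 ∣ (S : Subgroup G).relIndex ((S : Subgroup G) ⊔ K) := ⟨_, by rw [← h2, mul_comm]⟩
  exact S.not_dvd_index (h3.trans (Subgroup.relIndex_dvd_index_of_le le_sup_left))

/-- transfer of the index-2 property from `Subgroup ↥K` to `Subgroup G` -/
theorem index_two_data {K : Subgroup G} (H : Subgroup ↥K) (hH : H.index = 2) :
    H.map K.subtype ≤ K ∧ (H.map K.subtype).relIndex K = 2 ∧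
    ∀ a ∈ K, ∀ b ∈ K, (a * b ∈ H.map K.subtype ↔ (a ∈ H.map K.subtype ↔ b ∈ H.map K.subtype)) := by
  refine ⟨Subgroup.map_subtype_le _, ?_, ?_⟩
  · unfold Subgroup.relIndex
    rw [subgroupOf_map_subtype_eq]; exact hH
  · intro a ha b hb
    have h1 := Subgroup.mul_mem_iff_of_index_two hH (a := (⟨a, ha⟩ : ↥K)) (b := ⟨b, hb⟩)
    have e1 := mem_map_subtype_iff H (⟨a, ha⟩ : ↥K)
    have e2 := mem_map_subtype_iff H (⟨b, hb⟩ : ↥K)
    have e3 := mem_map_subtype_iff H ((⟨a, ha⟩ : ↥K) * ⟨b, hb⟩)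
    rw [Subgroup.coe_mul] at e3
    simp only [] at e1 e2 e3
    rw [e1, e2, e3]
    exact h1

end IndexTwo

section QDsec

variable {G : Type*} [Group G] [Finite G] (S : Sylow 2 G) {n : ℕ} {x y : ↥(S : Subgroup G)}
  (hq : QD ↥(S : Subgroup G) n x y)

include hq in
theorem r_even_iff_pow (i : ZMod (2 ^ n)) : Even i ↔ (r n x i) ^ (2 ^ (n - 1)) = 1 := by
  rw [hq.r_pow, hq.r_eq_one_iff]
  have e : ((2 ^ (n - 1) : ℕ) : ZMod (2 ^ n)) = hh n := rfl
  rw [e]
  constructor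
  · intro h; exact hh_mul_even hq.n1 h
  · intro h
    rcases even_or_odd i with he | ho
    · exact he
    · rw [hh_mul_odd hq.n1 ho] at h
      exact absurd h (hh_ne_zero hq.n1)

include hq in
theorem coe_r_even_iff_pow (i : ZMod (2 ^ n)) :
    Even i ↔ ((r n x i : ↥(S : Subgroup G)) : G) ^ (2 ^ (n - 1)) = 1 := by
  rw [r_even_iff_pow S hq, ← Subgroup.coe_pow]
  constructor
  · intro h; rw [h]; rfl
  · intro h; exact Subtype.ext h

include hq in
theorem s_even_iff_orderOf (i : ZMod (2 ^ n)) : Even i ↔ orderOf (s n x y i) = 2 := by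
  constructor
  · intro h; exact hq.orderOf_s_even h
  · intro h
    rcases even_or_odd i with he | ho
    · exact he
    · rw [hq.orderOf_s_odd ho] at h; omega

include hq in
/-- `r i ~ r j` in `G` implies that `i` and `j` have the same parity -/
theorem rr_parity {g : G} {i j : ZMod (2 ^ n)}
    (h : g * ((r n x i : ↥(S : Subgroup G)) : G) * g⁻¹ = ((r n x j : ↥(S : Subgroup G)) : G)) :
    Even i ↔ Even j := by
  rw [coe_r_even_iff_pow S hq, coe_r_even_iff_pow S hq, ← h, conj_pow]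
  constructor
  · intro h1; rw [h1]; group
  · intro h1
    have : ((r n x i : ↥(S : Subgroup G)) : G) ^ (2 ^ (n - 1)) =
        g⁻¹ * (g * ((r n x i : ↥(S : Subgroup G)) : G) ^ (2 ^ (n - 1)) * g⁻¹) * g := by group
    rw [this, h1]; group

include hq in
/-- `s i ~ s j` in `G` implies that `i` and `j` have the same parity -/
theorem ss_parity {g : G} {i j : ZMod (2 ^ n)}
    (h : g * ((s n x y i : ↥(S : Subgroup G)) : G) * g⁻¹ = ((s n x y j : ↥(S : Subgroup G)) : G)) :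
    Even i ↔ Even j := by
  rw [s_even_iff_orderOf S hq, s_even_iff_orderOf S hq, ← Subgroup.orderOf_coe,
    ← Subgroup.orderOf_coe (a := s n x y j), ← h, orderOf_conj_eq']

include hq in
/-- `s j ~ r i` in `G` implies that `i` is even -/
theorem sr_even {g : G} {i j : ZMod (2 ^ n)}
    (h : g * ((s n x y j : ↥(S : Subgroup G)) : G) * g⁻¹ = ((r n x i : ↥(S : Subgroup G)) : G)) :
    Even i := by
  have ho : orderOf (r n x i) = orderOf (s n x y j) := by
    rw [← Subgroup.orderOf_coe, ← h, orderOf_conj_eq', Subgroup.orderOf_coe]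
  rcases even_or_odd j with he | ho'
  · rw [hq.orderOf_s_even he] at ho
    rcases hq.involution_cases ho with h1 | ⟨i', _, h1⟩
    · rw [hq.r_inj h1]; exact even_hh hq.n2
    · exact absurd h1.symm (hq.s_ne_r _ _)
  · rw [hq.orderOf_s_odd ho'] at ho
    rcases hq.order4_cases ho with h1 | h1 | ⟨i', _, h1⟩
    · rw [hq.r_inj h1]; exact even_qq hq.hn
    · rw [hq.r_inj h1]; exact (even_qq hq.hn).add (even_hh hq.n2)
    · exact absurd h1.symm (hq.s_ne_r _ _)

include hq in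
/-- If no `s l` with `l` odd fuses into `⟨x⟩`, then `G` has a normal subgroup of index 2 meeting
`S` in the dihedral maximal subgroup. -/
theorem exists_K_D
    (hno : ∀ l, Odd l → ∀ (g : G) (j : ZMod (2 ^ n)),
      g * ((s n x y l : ↥(S : Subgroup G)) : G) * g⁻¹ ≠ ((r n x j : ↥(S : Subgroup G)) : G)) :
    ∃ K : Subgroup G, K.Normal ∧ K.index = 2 ∧
      ∀ h : ↥(S : Subgroup G), (h : G) ∈ K ↔ h ∈ hq.D := by
  apply exists_normal_index_two_of_fusion S hq.D hq.index_D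
  intro h hh g hg
  rcases hq.exists_rep (⟨h, hh⟩ : ↥(S : Subgroup G)) with ⟨i, hi⟩ | ⟨i, hi⟩ <;>
  rcases hq.exists_rep (⟨g⁻¹ * h * g, hg⟩ : ↥(S : Subgroup G)) with ⟨j, hj⟩ | ⟨j, hj⟩
  · rw [hi, hj, hq.mem_D_r, hq.mem_D_r]
    have h1 : h = ((r n x i : ↥(S : Subgroup G)) : G) := congrArg Subtype.val hi
    have h2 : g⁻¹ * h * g = ((r n x j : ↥(S : Subgroup G)) : G) := congrArg Subtype.val hj
    apply rr_parity S hq (g := g⁻¹)
    rw [← h1, inv_inv]; exact h2
  · rw [hi, hj, hq.mem_D_r, hq.mem_D_s]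
    have h1 : h = ((r n x i : ↥(S : Subgroup G)) : G) := congrArg Subtype.val hi
    have h2 : g⁻¹ * h * g = ((s n x y j : ↥(S : Subgroup G)) : G) := congrArg Subtype.val hj
    have h3 : g * ((s n x y j : ↥(S : Subgroup G)) : G) * g⁻¹ =
        ((r n x i : ↥(S : Subgroup G)) : G) := by rw [← h2, ← h1]; group
    have hie := sr_even S hq h3
    constructor
    · intro _
      rcases even_or_odd j with he | ho
      · exact he
      · exact absurd h3 (hno j ho g i)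
    · intro _; exact hie
  · rw [hi, hj, hq.mem_D_s, hq.mem_D_r]
    have h1 : h = ((s n x y i : ↥(S : Subgroup G)) : G) := congrArg Subtype.val hi
    have h2 : g⁻¹ * h * g = ((r n x j : ↥(S : Subgroup G)) : G) := congrArg Subtype.val hj
    have h3 : g⁻¹ * ((s n x y i : ↥(S : Subgroup G)) : G) * g⁻¹⁻¹ =
        ((r n x j : ↥(S : Subgroup G)) : G) := by rw [← h2, ← h1]; group
    have hje := sr_even S hq h3
    constructor
    · intro _; exact hje
    · intro _
      rcases even_or_odd i with he | ho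
      · exact he
      · exact absurd h3 (hno i ho g⁻¹ j)
  · rw [hi, hj, hq.mem_D_s, hq.mem_D_s]
    have h1 : h = ((s n x y i : ↥(S : Subgroup G)) : G) := congrArg Subtype.val hi
    have h2 : g⁻¹ * h * g = ((s n x y j : ↥(S : Subgroup G)) : G) := congrArg Subtype.val hj
    apply ss_parity S hq (g := g⁻¹)
    rw [← h1, inv_inv]; exact h2

include hq in
/-- If no `s i` with `i` even fuses into `⟨x⟩`, then `G` has a normal subgroup of index 2 meeting
`S` in the generalized quaternion maximal subgroup. -/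
theorem exists_K_Q
    (hno : ∀ i, Even i → ∀ (g : G) (j : ZMod (2 ^ n)),
      g * ((s n x y i : ↥(S : Subgroup G)) : G) * g⁻¹ ≠ ((r n x j : ↥(S : Subgroup G)) : G)) :
    ∃ K : Subgroup G, K.Normal ∧ K.index = 2 ∧
      ∀ h : ↥(S : Subgroup G), (h : G) ∈ K ↔ h ∈ hq.Q := by
  apply exists_normal_index_two_of_fusion S hq.Q hq.index_Q
  intro h hh g hg
  rcases hq.exists_rep (⟨h, hh⟩ : ↥(S : Subgroup G)) with ⟨i, hi⟩ | ⟨i, hi⟩ <;>
  rcases hq.exists_rep (⟨g⁻¹ * h * g, hg⟩ : ↥(S : Subgroup G)) with ⟨j, hj⟩ | ⟨j, hj⟩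
  · rw [hi, hj, hq.mem_Q_r, hq.mem_Q_r]
    have h1 : h = ((r n x i : ↥(S : Subgroup G)) : G) := congrArg Subtype.val hi
    have h2 : g⁻¹ * h * g = ((r n x j : ↥(S : Subgroup G)) : G) := congrArg Subtype.val hj
    apply rr_parity S hq (g := g⁻¹)
    rw [← h1, inv_inv]; exact h2
  · rw [hi, hj, hq.mem_Q_r, hq.mem_Q_s]
    have h1 : h = ((r n x i : ↥(S : Subgroup G)) : G) := congrArg Subtype.val hi
    have h2 : g⁻¹ * h * g = ((s n x y j : ↥(S : Subgroup G)) : G) := congrArg Subtype.val hj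
    have h3 : g * ((s n x y j : ↥(S : Subgroup G)) : G) * g⁻¹ =
        ((r n x i : ↥(S : Subgroup G)) : G) := by rw [← h2, ← h1]; group
    have hie := sr_even S hq h3
    constructor
    · intro _
      rcases even_or_odd j with he | ho
      · exact absurd h3 (hno j he g i)
      · exact ho
    · intro _; exact hie
  · rw [hi, hj, hq.mem_Q_s, hq.mem_Q_r]
    have h1 : h = ((s n x y i : ↥(S : Subgroup G)) : G) := congrArg Subtype.val hi
    have h2 : g⁻¹ * h * g = ((r n x j : ↥(S : Subgroup G)) : G) := congrArg Subtype.val hj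
    have h3 : g⁻¹ * ((s n x y i : ↥(S : Subgroup G)) : G) * g⁻¹⁻¹ =
        ((r n x j : ↥(S : Subgroup G)) : G) := by rw [← h2, ← h1]; group
    have hje := sr_even S hq h3
    constructor
    · intro _; exact hje
    · intro _
      rcases even_or_odd i with he | ho
      · exact absurd h3 (hno i he g⁻¹ j)
      · exact ho
  · rw [hi, hj, hq.mem_Q_s, hq.mem_Q_s, odd_iff_not_even hq.n1, odd_iff_not_even hq.n1]
    have h1 : h = ((s n x y i : ↥(S : Subgroup G)) : G) := congrArg Subtype.val hi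
    have h2 : g⁻¹ * h * g = ((s n x y j : ↥(S : Subgroup G)) : G) := congrArg Subtype.val hj
    apply not_congr
    apply ss_parity S hq (g := g⁻¹)
    rw [← h1, inv_inv]; exact h2

include hq in
/-- if `r (-2) ∈ H'` then every `r i` with `i` even lies in `H'` -/
theorem r_even_mem_of_r_neg_two (H' : Subgroup G)
    (h : ((r n x (-2) : ↥(S : Subgroup G)) : G) ∈ H') {i : ZMod (2 ^ n)} (hi : Even i) :
    ((r n x i : ↥(S : Subgroup G)) : G) ∈ H' := by
  obtain ⟨c, rfl⟩ := hi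
  have h1 : r n x (c + c) = r n x (-2) ^ (-c).val := by
    rw [hq.r_pow, ZMod.natCast_zmod_val]
    congr 1; ring
  rw [h1, Subgroup.coe_pow]
  exact H'.pow_mem h _

omit [Finite G] in
theorem mem_of_conj_mem_map {A : Subgroup G} {σ : ↥(S : Subgroup G)} {t : ↥(S : Subgroup G)}
    (ht : (t : G) ∈ A) : ((σ * t * σ⁻¹ : ↥(S : Subgroup G)) : G) ∈ A ⋏ (σ : G) :=
  ⟨_, ht, rfl⟩

include hq in
/-- In the case `b = 6`, a normal subgroup `K` of index 2 meeting `S` in the generalized quaternion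
maximal subgroup has no subgroup of index 2. -/
theorem no_index_two_K_Q (K : Subgroup G) [hKn : K.Normal] (hK2 : K.index = 2)
    (hKQ : ∀ h : ↥(S : Subgroup G), (h : G) ∈ K ↔ h ∈ hq.Q)
    (Q : Subgroup G) (hQS : Q ≤ (S : Subgroup G)) (eQ : ↥Q ≃* QuaternionGroup 2)
    (h₂ : (QC Q).relIndex (Subgroup.normalizer (Q : Set G)) = 6)
    (H : Subgroup ↥K) : H.index ≠ 2 := by
  intro hH
  obtain ⟨hH'K, hidx, hP1⟩ := index_two_data H hH
  set H' : Subgroup G := H.map K.subtype with hH'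
  have e' : ↥(Q.subgroupOf (S : Subgroup G)) ≃* QuaternionGroup 2 :=
    (Subgroup.subgroupOfEquivOfLe hQS).trans eQ
  obtain ⟨k, hk, hr, hs⟩ := quat_struct hq (Q.subgroupOf (S : Subgroup G)) (quat_card _ e')
    (quat_unique_invol _ e') (quat_noncomm _ e')
  have hoddK : ∀ m : G, Odd (orderOf m) → m ∈ K := by
    intro m hm
    exact mem_of_sq_mem_of_odd hm (Subgroup.sq_mem_of_index_two hK2 m)
  -- `Q ≤ K`
  have hQK : Q ≤ K := by
    intro q hq'
    have hqS := hQS hq'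
    have hq'' : (⟨q, hqS⟩ : ↥(S : Subgroup G)) ∈ Q.subgroupOf (S : Subgroup G) := hq'
    rcases hq.exists_rep (⟨q, hqS⟩ : ↥(S : Subgroup G)) with ⟨j, hj⟩ | ⟨l, hl⟩
    · rw [hj, hr] at hq''
      have : (⟨q, hqS⟩ : ↥(S : Subgroup G)) ∈ hq.Q := by
        rw [hj, hq.mem_Q_r]
        rcases (four_mul_eq_zero_iff hq.hn j).1 hq'' with (h | h) | (h | h)
        · rw [h]; exact ⟨0, by ring⟩
        · rw [h]; exact even_hh hq.n2
        · rw [h]; exact even_qq hq.hn
        · rw [h]; exact (even_qq hq.hn).add (even_hh hq.n2)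
      exact (hKQ _).2 this
    · rw [hl, hs] at hq''
      have : (⟨q, hqS⟩ : ↥(S : Subgroup G)) ∈ hq.Q := by
        rw [hl, hq.mem_Q_s]
        exact odd_of_four_sub S hq hk hq''
      exact (hKQ _).2 this
  -- `Q ≤ H'`
  have hQH : Q ≤ H' := by
    obtain ⟨n₀, hn₀N, hodd, hn₀M⟩ := exists_odd_not_mem (QC_le_normalizer Q)
      (normalizer_le_normalizer_QC Q) (by rw [h₂]; norm_num)
    exact quat_le_of_index_two Q eQ H' K hQK hP1 n₀ hn₀N (hoddK n₀ hodd) hodd hn₀M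
  -- the conjugate `Q₂` of `Q` under `x`
  have hQ₂K : Q ⋏ (x : G) ≤ K := by
    rintro _ ⟨q, hq', rfl⟩
    exact hKn.conj_mem q (hQK hq') _
  have eQ₂ : ↥(Q ⋏ (x : G)) ≃* QuaternionGroup 2 :=
    (Q.equivMapOfInjective _ (MulAut.conj (x : G)).injective).symm.trans eQ
  have hQ₂H : Q ⋏ (x : G) ≤ H' := by
    have h₂' : (QC (Q ⋏ (x : G))).relIndex
        (Subgroup.normalizer ((Q ⋏ (x : G) : Subgroup G) : Set G)) = 6 := by
      rw [relIndex_conj_quat, h₂]
    obtain ⟨n₀, hn₀N, hodd, hn₀M⟩ := exists_odd_not_mem (QC_le_normalizer (Q ⋏ (x : G)))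
      (normalizer_le_normalizer_QC (Q ⋏ (x : G))) (by rw [h₂']; norm_num)
    exact quat_le_of_index_two _ eQ₂ H' K hQ₂K hP1 n₀ hn₀N (hoddK n₀ hodd) hodd hn₀M
  -- `s k` and `x (s k) x⁻¹` lie in `H'`
  have hskQ : ((s n x y k : ↥(S : Subgroup G)) : G) ∈ Q := by
    have : s n x y k ∈ Q.subgroupOf (S : Subgroup G) := (hs k).2 (by ring)
    exact this
  have h1 : ((s n x y k : ↥(S : Subgroup G)) : G) ∈ H' := hQH hskQ
  have h2 : ((s n x y (k + (1 - mm n) * 1) : ↥(S : Subgroup G)) : G) ∈ H' := by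
    apply hQ₂H
    have h3 := mem_of_conj_mem_map S (σ := r n x 1) hskQ
    rw [hq.r_conj_s, hq.r_one] at h3
    exact h3
  have h3 : ((r n x (-2) : ↥(S : Subgroup G)) : G) ∈ H' := by
    have h4 := H'.mul_mem h1 h2
    rw [← Subgroup.coe_mul, hq.s_mul_s] at h4
    have e1 := hh_mul_odd (n := n) hq.n1 hk
    have e2 := two_hh (n := n) hq.n1
    have e3 := hh_sq (n := n) hq.n2
    have e : k + mm n * (k + (1 - mm n) * 1) = -2 := by
      rw [mm_eq]
      linear_combination e1 + 2 * e2 - e3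
    rwa [e] at h4
  -- hence `S ⊓ K ≤ H'`
  apply sylow_inf_not_le S K H' hH'K hidx
  intro g hg
  obtain ⟨hgS, hgK⟩ := Subgroup.mem_inf.mp hg
  have hgQ := (hKQ ⟨g, hgS⟩).1 hgK
  rcases hq.exists_rep (⟨g, hgS⟩ : ↥(S : Subgroup G)) with ⟨i, hi⟩ | ⟨l, hl⟩
  · rw [hi, hq.mem_Q_r] at hgQ
    have : g = ((r n x i : ↥(S : Subgroup G)) : G) := congrArg Subtype.val hi
    rw [this]
    exact r_even_mem_of_r_neg_two S hq H' h3 hgQ
  · rw [hl, hq.mem_Q_s] at hgQ
    have : g = ((s n x y l : ↥(S : Subgroup G)) : G) := congrArg Subtype.val hl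
    rw [this]
    have hd : Even (l - k) := by
      obtain ⟨a, rfl⟩ := hgQ
      obtain ⟨b, rfl⟩ := hk
      exact ⟨a - b, by ring⟩
    have e : s n x y l = r n x (l - k) * s n x y k := by
      rw [hq.r_mul_s]; congr 1; ring
    rw [e, Subgroup.coe_mul]
    exact H'.mul_mem (r_even_mem_of_r_neg_two S hq H' h3 hd) h1

include hq in
/-- In the case `a = 6`, a normal subgroup `K` of index 2 meeting `S` in the dihedral maximal
subgroup has no subgroup of index 2. -/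
theorem no_index_two_K_D (K : Subgroup G) [hKn : K.Normal] (hK2 : K.index = 2)
    (hKD : ∀ h : ↥(S : Subgroup G), (h : G) ∈ K ↔ h ∈ hq.D)
    (T : Subgroup G) [hT : IsKleinFour ↥T] (hTS : T ≤ (S : Subgroup G))
    (h₁ : (Subgroup.centralizer (T : Set G)).relIndex (Subgroup.normalizer (T : Set G)) = 6)
    (H : Subgroup ↥K) : H.index ≠ 2 := by
  intro hH
  obtain ⟨hH'K, hidx, hP1⟩ := index_two_data H hH
  set H' : Subgroup G := H.map K.subtype with hH'
  haveI := isKleinFour_subgroupOf hTS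
  obtain ⟨i, hi, hTi⟩ := eq_fourT hq (T.subgroupOf (S : Subgroup G))
  have hoddK : ∀ m : G, Odd (orderOf m) → m ∈ K := by
    intro m hm
    exact mem_of_sq_mem_of_odd hm (Subgroup.sq_mem_of_index_two hK2 m)
  have hTK : T ≤ K := by
    intro t ht
    have htS := hTS ht
    have ht' : (⟨t, htS⟩ : ↥(S : Subgroup G)) ∈ T.subgroupOf (S : Subgroup G) := ht
    rw [hTi] at ht'
    rcases hq.exists_rep (⟨t, htS⟩ : ↥(S : Subgroup G)) with ⟨j, hj⟩ | ⟨l, hl⟩
    · rw [hj, r_mem_fourT_iff] at ht'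
      have : (⟨t, htS⟩ : ↥(S : Subgroup G)) ∈ hq.D := by
        rw [hj, hq.mem_D_r]
        rcases ht' with h | h
        · rw [h]; exact ⟨0, by ring⟩
        · rw [h]; exact even_hh hq.n2
      exact (hKD _).2 this
    · rw [hl, s_mem_fourT_iff] at ht'
      have : (⟨t, htS⟩ : ↥(S : Subgroup G)) ∈ hq.D := by
        rw [hl, hq.mem_D_s]
        have e : l = (l - i) + i := by ring
        rw [e]
        rcases ht' with h | h
        · rw [h, zero_add]; exact hi
        · rw [h]; exact (even_hh hq.n2).add hi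
      exact (hKD _).2 this
  have hTH : T ≤ H' := by
    obtain ⟨n₀, hn₀N, hodd, hn₀C⟩ := exists_odd_not_mem (Subgroup.centralizer_le_normalizer _)
      (normalizer_le_normalizer_centralizer T) (by rw [h₁]; norm_num)
    exact four_le_of_index_two T H' K hTK hP1 n₀ hn₀N (hoddK n₀ hodd) hodd hn₀C
  have hT₂K : T ⋏ (x : G) ≤ K := by
    rintro _ ⟨t, ht, rfl⟩
    exact hKn.conj_mem t (hTK ht) _
  haveI : IsKleinFour ↥(T ⋏ (x : G)) :=
    Cfsg.Agent.Lib.Helper2.DihedralFour.isKleinFour_map _ (MulAut.conj (x : G)).injective T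
  have hT₂H : T ⋏ (x : G) ≤ H' := by
    have h₁' : (Subgroup.centralizer ((T ⋏ (x : G) : Subgroup G) : Set G)).relIndex
        (Subgroup.normalizer ((T ⋏ (x : G) : Subgroup G) : Set G)) = 6 := by
      rw [relIndex_conj_four, h₁]
    obtain ⟨n₀, hn₀N, hodd, hn₀C⟩ := exists_odd_not_mem (Subgroup.centralizer_le_normalizer _)
      (normalizer_le_normalizer_centralizer (T ⋏ (x : G))) (by rw [h₁']; norm_num)
    exact four_le_of_index_two _ H' K hT₂K hP1 n₀ hn₀N (hoddK n₀ hodd) hodd hn₀C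
  have hsiT : ((s n x y i : ↥(S : Subgroup G)) : G) ∈ T := by
    have : s n x y i ∈ T.subgroupOf (S : Subgroup G) := by rw [hTi]; exact s_mem_fourT hq i hi
    exact this
  have hzT : ((r n x (hh n) : ↥(S : Subgroup G)) : G) ∈ T := by
    have : r n x (hh n) ∈ T.subgroupOf (S : Subgroup G) := by rw [hTi]; exact rh_mem_fourT hq i hi
    exact this
  have h1 : ((s n x y i : ↥(S : Subgroup G)) : G) ∈ H' := hTH hsiT
  have h2 : ((s n x y (i + (1 - mm n) * 1) : ↥(S : Subgroup G)) : G) ∈ H' := by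
    apply hT₂H
    have h3 := mem_of_conj_mem_map S (σ := r n x 1) hsiT
    rw [hq.r_conj_s, hq.r_one] at h3
    exact h3
  have h3 : ((r n x (-2) : ↥(S : Subgroup G)) : G) ∈ H' := by
    have h4 := H'.mul_mem (H'.mul_mem h1 h2) (hTH hzT)
    rw [← Subgroup.coe_mul, ← Subgroup.coe_mul, hq.s_mul_s, ← hq.r_add] at h4
    have e1 := hh_mul_even (n := n) hq.n1 hi
    have e2 := two_hh (n := n) hq.n1
    have e3 := hh_sq (n := n) hq.n2
    have e : i + mm n * (i + (1 - mm n) * 1) + hh n = -2 := by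
      rw [mm_eq]
      linear_combination e1 + 2 * e2 - e3
    rwa [e] at h4
  apply sylow_inf_not_le S K H' hH'K hidx
  intro g hg
  obtain ⟨hgS, hgK⟩ := Subgroup.mem_inf.mp hg
  have hgD := (hKD ⟨g, hgS⟩).1 hgK
  rcases hq.exists_rep (⟨g, hgS⟩ : ↥(S : Subgroup G)) with ⟨j, hj⟩ | ⟨l, hl⟩
  · rw [hj, hq.mem_D_r] at hgD
    have : g = ((r n x j : ↥(S : Subgroup G)) : G) := congrArg Subtype.val hj
    rw [this]
    exact r_even_mem_of_r_neg_two S hq H' h3 hgD
  · rw [hl, hq.mem_D_s] at hgD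
    have : g = ((s n x y l : ↥(S : Subgroup G)) : G) := congrArg Subtype.val hl
    rw [this]
    have hd : Even (l - i) := by
      obtain ⟨a, rfl⟩ := hgD
      obtain ⟨b, rfl⟩ := hi
      exact ⟨a - b, by ring⟩
    have e : s n x y l = r n x (l - i) * s n x y i := by
      rw [hq.r_mul_s]; congr 1; ring
    rw [e, Subgroup.coe_mul]
    exact H'.mul_mem (r_even_mem_of_r_neg_two S hq H' h3 hd) h1

include hq in
/-- If no `s i` with `i` even fuses into `⟨x⟩`, then `Z(S)` is weakly closed in `S`. -/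
theorem center_weaklyClosed
    (hno : ∀ i, Even i → ∀ (g : G) (j : ZMod (2 ^ n)),
      g * ((s n x y i : ↥(S : Subgroup G)) : G) * g⁻¹ ≠ ((r n x j : ↥(S : Subgroup G)) : G)) :
    Cfsg.IsWeaklyClosed ((Subgroup.center ↥(S : Subgroup G)).map (S : Subgroup G).subtype)
      (S : Subgroup G) := by
  refine ⟨Subgroup.map_subtype_le _, ?_⟩
  intro g hg
  have hzW : ((r n x (hh n) : ↥(S : Subgroup G)) : G) ∈
      (Subgroup.center ↥(S : Subgroup G)).map (S : Subgroup G).subtype :=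
    ⟨_, hq.rh_mem_center, rfl⟩
  have hgz : g * ((r n x (hh n) : ↥(S : Subgroup G)) : G) * g⁻¹ ∈ (S : Subgroup G) :=
    hg ⟨_, hzW, rfl⟩
  have ho : orderOf (⟨_, hgz⟩ : ↥(S : Subgroup G)) = 2 := by
    rw [← Subgroup.orderOf_coe]
    show orderOf (g * ((r n x (hh n) : ↥(S : Subgroup G)) : G) * g⁻¹) = 2
    rw [orderOf_conj_eq', orderOf_coe_z S hq]
  have hfix : g * ((r n x (hh n) : ↥(S : Subgroup G)) : G) * g⁻¹ =
      ((r n x (hh n) : ↥(S : Subgroup G)) : G) := by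
    rcases hq.involution_cases ho with h | ⟨i, hi, h⟩
    · exact congrArg Subtype.val h
    · exfalso
      have h1 : g * ((r n x (hh n) : ↥(S : Subgroup G)) : G) * g⁻¹ =
          ((s n x y i : ↥(S : Subgroup G)) : G) := congrArg Subtype.val h
      apply hno i hi g⁻¹ (hh n)
      rw [← h1]; group
  apply Subgroup.eq_of_le_of_card_ge
  · rintro _ ⟨_, ⟨c, hc, rfl⟩, rfl⟩
    rw [hq.center_eq] at hc
    rcases mem_zpowers_two hq.orderOf_rh hc
      with h | h
    · rw [h]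
      simp
    · rw [h]
      show g * ((r n x (hh n) : ↥(S : Subgroup G)) : G) * g⁻¹ ∈ _
      rw [hfix]; exact hzW
  · exact le_of_eq (Subgroup.card_map_of_injective (MulAut.conj g).injective).symm

include hq in
/-- `S` controls fusion of elements of `⟨x⟩` inside `⟨x⟩`. -/
theorem rr_control {g : G} {i j : ZMod (2 ^ n)}
    (h : g * ((r n x i : ↥(S : Subgroup G)) : G) * g⁻¹ = ((r n x j : ↥(S : Subgroup G)) : G)) :
    ∃ σ ∈ (S : Subgroup G), σ * ((r n x i : ↥(S : Subgroup G)) : G) * σ⁻¹ =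
      ((r n x j : ↥(S : Subgroup G)) : G) := by
  have hmemX : ∀ k : ZMod (2 ^ n), ((r n x k : ↥(S : Subgroup G)) : G) ∈
      Subgroup.zpowers (x : G) := by
    intro k
    show ((x ^ k.val : ↥(S : Subgroup G)) : G) ∈ _
    rw [Subgroup.coe_pow]
    exact Subgroup.pow_mem _ (Subgroup.mem_zpowers _) _
  have hord : orderOf ((r n x i : ↥(S : Subgroup G)) : G) =
      orderOf ((r n x j : ↥(S : Subgroup G)) : G) := by
    rw [← h, orderOf_conj_eq']
  have hY := zpowers_eq_of_orderOf_eq (Subgroup.zpowers (x : G)) inferInstance _ _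
    (hmemX i) (hmemX j) hord
  set Y : Subgroup G := Subgroup.zpowers ((r n x i : ↥(S : Subgroup G)) : G) with hYdef
  have hYS : Y ≤ (S : Subgroup G) := Subgroup.zpowers_le.mpr (r n x i).2
  have hgN : g ∈ Subgroup.normalizer (Y : Set G) := by
    apply mem_normalizer_of_map_conj_le
    rw [hYdef, MonoidHom.map_zpowers]
    show Subgroup.zpowers (g * ((r n x i : ↥(S : Subgroup G)) : G) * g⁻¹) ≤ _
    rw [h]
    exact le_of_eq hY.symm
  have hSN : (S : Subgroup G) ≤ Subgroup.normalizer (Y : Set G) := by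
    intro σ hσ
    apply mem_normalizer_of_map_conj_le
    rw [hYdef, MonoidHom.map_zpowers, Subgroup.zpowers_le]
    show σ * ((r n x i : ↥(S : Subgroup G)) : G) * σ⁻¹ ∈ _
    rcases hq.exists_rep (⟨σ, hσ⟩ : ↥(S : Subgroup G)) with ⟨k, hk⟩ | ⟨k, hk⟩
    · have := hq.r_conj_r k i
      rw [← hk] at this
      have h1 : σ * ((r n x i : ↥(S : Subgroup G)) : G) * σ⁻¹ =
          ((r n x i : ↥(S : Subgroup G)) : G) := congrArg Subtype.val this
      rw [h1]; exact Subgroup.mem_zpowers _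
    · have := hq.s_conj_r k i
      rw [← hk] at this
      have h1 : σ * ((r n x i : ↥(S : Subgroup G)) : G) * σ⁻¹ =
          ((r n x (mm n * i) : ↥(S : Subgroup G)) : G) := congrArg Subtype.val this
      have h2 : r n x (mm n * i) = r n x i ^ (mm n).val := by
        rw [hq.r_pow, ZMod.natCast_zmod_val]
      rw [h1, h2, Subgroup.coe_pow]
      exact Subgroup.pow_mem _ (Subgroup.mem_zpowers _) _
  have hsyl := isSylowIn_of_sylow S hSN
  have hY2 : IsPGroup 2 ↥Y := S.2.to_le hYS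
  have hpow : ∀ d ∈ Subgroup.normalizer (Y : Set G), ∃ k : ℕ,
      d ^ (2 ^ k) ∈ Subgroup.centralizer (Y : Set G) := by
    intro d hd
    obtain ⟨k, m, hm, hkm⟩ := Nat.exists_eq_two_pow_mul_odd (orderOf_pos d).ne'
    refine ⟨k, ?_⟩
    apply centralizes_of_isCyclic_two_group Y (by rw [hYdef]; infer_instance) hY2 _
      (Subgroup.pow_mem _ hd _)
    have h1 : (d ^ 2 ^ k) ^ m = 1 := by rw [← pow_mul, ← hkm, pow_orderOf_eq_one]
    exact Odd.of_dvd_nat hm (orderOf_dvd_of_pow_eq_one h1)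
  have hle := le_sup_inf_sylowIn hsyl le_rfl Subgroup.le_normalizer
    (Subgroup.centralizer_le_normalizer _) (normalizer_le_normalizer_centralizer Y) hpow
  have hg' := hle hgN
  rw [sup_comm] at hg'
  have hnorm : Subgroup.normalizer (Y : Set G) ⊓ (S : Subgroup G) ≤
      Subgroup.normalizer ((Subgroup.centralizer (Y : Set G) : Subgroup G) : Set G) :=
    inf_le_left.trans (normalizer_le_normalizer_centralizer Y)
  have hset := Subgroup.coe_mul_of_left_le_normalizer_right _ _ hnorm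
  have hg'' : g ∈ ((Subgroup.normalizer (Y : Set G) ⊓ (S : Subgroup G) ⊔
      Subgroup.centralizer (Y : Set G) : Subgroup G) : Set G) := hg'
  rw [hset, Set.mem_mul] at hg''
  obtain ⟨σ, hσ, c, hc, rfl⟩ := hg''
  refine ⟨σ, (Subgroup.mem_inf.mp hσ).2, ?_⟩
  have hcr : c * ((r n x i : ↥(S : Subgroup G)) : G) * c⁻¹ =
      ((r n x i : ↥(S : Subgroup G)) : G) := by
    have := Subgroup.mem_centralizer_iff.mp hc _ (Subgroup.mem_zpowers
      ((r n x i : ↥(S : Subgroup G)) : G))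
    rw [← this]; group
  rw [← h]
  have e : σ * c * ((r n x i : ↥(S : Subgroup G)) : G) * (σ * c)⁻¹ =
      σ * (c * ((r n x i : ↥(S : Subgroup G)) : G) * c⁻¹) * σ⁻¹ := by group
  rw [e, hcr]

include hq in
/-- If neither class of `s`-elements fuses into `⟨x⟩`, then `S` controls its own fusion. -/
theorem controlsOwnFusion_of_no_fus
    (hE : ∀ i, Even i → ∀ (g : G) (j : ZMod (2 ^ n)),
      g * ((s n x y i : ↥(S : Subgroup G)) : G) * g⁻¹ ≠ ((r n x j : ↥(S : Subgroup G)) : G))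
    (hO : ∀ l, Odd l → ∀ (g : G) (j : ZMod (2 ^ n)),
      g * ((s n x y l : ↥(S : Subgroup G)) : G) * g⁻¹ ≠ ((r n x j : ↥(S : Subgroup G)) : G)) :
    Cfsg.Agent.Lib.Helper1.ControlsOwnFusion S := by
  have hno : ∀ (l : ZMod (2 ^ n)) (g : G) (j : ZMod (2 ^ n)),
      g * ((s n x y l : ↥(S : Subgroup G)) : G) * g⁻¹ ≠ ((r n x j : ↥(S : Subgroup G)) : G) := by
    intro l g j
    rcases even_or_odd l with he | ho
    · exact hE l he g j
    · exact hO l ho g j
  intro a ha g hg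
  rcases hq.exists_rep (⟨a, ha⟩ : ↥(S : Subgroup G)) with ⟨i, hi⟩ | ⟨i, hi⟩ <;>
  rcases hq.exists_rep (⟨g * a * g⁻¹, hg⟩ : ↥(S : Subgroup G)) with ⟨j, hj⟩ | ⟨j, hj⟩
  · have h1 : a = ((r n x i : ↥(S : Subgroup G)) : G) := congrArg Subtype.val hi
    have h2 : g * a * g⁻¹ = ((r n x j : ↥(S : Subgroup G)) : G) := congrArg Subtype.val hj
    rw [h1] at h2 ⊢
    obtain ⟨σ, hσ, h3⟩ := rr_control S hq h2
    exact ⟨σ, hσ, by rw [h3, h2]⟩
  · exfalso
    have h1 : a = ((r n x i : ↥(S : Subgroup G)) : G) := congrArg Subtype.val hi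
    have h2 : g * a * g⁻¹ = ((s n x y j : ↥(S : Subgroup G)) : G) := congrArg Subtype.val hj
    apply hno j g⁻¹ i
    rw [← h2, h1]; group
  · exfalso
    have h1 : a = ((s n x y i : ↥(S : Subgroup G)) : G) := congrArg Subtype.val hi
    have h2 : g * a * g⁻¹ = ((r n x j : ↥(S : Subgroup G)) : G) := congrArg Subtype.val hj
    apply hno i g j
    rw [← h2, h1]
  · have h1 : a = ((s n x y i : ↥(S : Subgroup G)) : G) := congrArg Subtype.val hi
    have h2 : g * a * g⁻¹ = ((s n x y j : ↥(S : Subgroup G)) : G) := congrArg Subtype.val hj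
    rw [h1] at h2 ⊢
    have hpar := ss_parity S hq h2
    have hc : IsConj (s n x y i) (s n x y j) := by
      rcases even_or_odd i with he | ho
      · exact (hq.isConj_s_even he).symm.trans (hq.isConj_s_even (hpar.1 he))
      · have hoj : Odd j := by
          rw [odd_iff_not_even hq.n1] at ho ⊢
          exact fun h => ho (hpar.2 h)
        exact (hq.isConj_s_odd ho).symm.trans (hq.isConj_s_odd hoj)
    obtain ⟨σ, hσ⟩ := isConj_iff.1 hc
    refine ⟨(σ : G), σ.2, ?_⟩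
    rw [h2]
    exact congrArg Subtype.val hσ

end QDsec

end Cfsg.Agent.Lib.Helper2.QDFusD
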