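import Mathlib

set_option autoImplicit false

/-!
# Generic lemmas on odd-order automorphisms of 2-groups
-/

namespace Cfsg.Agent.Lib.Helper2.WRA

variable {G : Type*} [Group G]

/-- If `δ = g⁻¹ * α g` is fixed by `α`, then `(α^j) g = g * δ^j`. -/
theorem aut_pow_apply_of_fix (α : MulAut G) (g : G) (hδ : α (g⁻¹ * α g) = g⁻¹ * α g) (j : ℕ) :
    (α ^ j) g = g * (g⁻¹ * α g) ^ j := by
  induction j with
  | zero => simp
  | succ j ih =>
    rw [pow_succ', MulAut.mul_apply, ih, map_mul, map_pow, hδ, pow_succ', ← mul_assoc g,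
      mul_inv_cancel_left]

/-- Stability: an automorphism of odd order `k` fixing `δ = g⁻¹ * α g` of 2-power order fixes `g`. -/
theorem aut_apply_eq_of_stab (α : MulAut G) (k : ℕ) (hk : Odd k) (hα : α ^ k = 1) (g : G)
    (hfix : α (g⁻¹ * α g) = g⁻¹ * α g) (h2 : ∃ e : ℕ, (g⁻¹ * α g) ^ (2 ^ e) = 1) : α g = g := by
  obtain ⟨e, he⟩ := h2
  have h1 := aut_pow_apply_of_fix α g hfix k
  rw [hα, MulAut.one_apply] at h1
  have h3 : (g⁻¹ * α g) ^ k = 1 := by
    have : g * (g⁻¹ * α g) ^ k = g * 1 := by rw [mul_one]; exact h1.symm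
    exact mul_left_cancel this
  have h4 : orderOf (g⁻¹ * α g) ∣ Nat.gcd k (2 ^ e) :=
    Nat.dvd_gcd (orderOf_dvd_of_pow_eq_one h3) (orderOf_dvd_of_pow_eq_one he)
  have h5 : Nat.gcd k (2 ^ e) = 1 := by
    apply Nat.Coprime.pow_right
    exact (Nat.coprime_two_right.mpr hk)
  rw [h5, Nat.dvd_one, orderOf_eq_one_iff] at h4
  have : α g = g * (g⁻¹ * α g) := by group
  rw [this, h4, mul_one]

/-- An automorphism of odd order of a group, preserving a commutative 2-subgroup `H` and fixing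
the involutions of `H`, fixes `H` elementwise. -/
theorem aut_fix_of_fix_invol (α : MulAut G) (k : ℕ) (hk : Odd k) (hα : α ^ k = 1) (H : Subgroup G)
    (hH : ∀ g ∈ H, α g ∈ H) (hcomm : ∀ a ∈ H, ∀ b ∈ H, a * b = b * a)
    (hinv : ∀ g ∈ H, g * g = 1 → α g = g) :
    ∀ (e : ℕ) (g : G), g ∈ H → g ^ (2 ^ e) = 1 → α g = g := by
  intro e
  induction e with
  | zero =>
    intro g _ hg
    rw [pow_zero, pow_one] at hg
    rw [hg, map_one]
  | succ e ih =>
    intro g hgH hg
    have hδH : g⁻¹ * α g ∈ H := H.mul_mem (H.inv_mem hgH) (hH g hgH)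
    have hs : α (g ^ (2 ^ e)) = g ^ (2 ^ e) := by
      apply hinv _ (H.pow_mem hgH _)
      rw [← pow_add, ← two_mul, ← pow_succ']
      exact hg
    have hδ : (g⁻¹ * α g) ^ (2 ^ e) = 1 := by
      have hc : Commute g⁻¹ (α g) := hcomm _ (H.inv_mem hgH) _ (hH g hgH)
      rw [hc.mul_pow, ← map_pow, hs, inv_pow, inv_mul_cancel]
    exact aut_apply_eq_of_stab α k hk hα g (ih _ hδH hδ) ⟨e, hδ⟩

/-- If every automorphism-like element of odd order is trivial, the group is a 2-group. -/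
theorem isPGroup_two_of_odd_trivial {A : Type*} [Group A] [Finite A]
    (h : ∀ α : A, Odd (orderOf α) → α = 1) : IsPGroup 2 A := by
  intro α
  obtain ⟨e, m, hm, hem⟩ := Nat.exists_eq_two_pow_mul_odd (orderOf_pos α).ne'
  refine ⟨e, ?_⟩
  apply h
  have h1 : (α ^ 2 ^ e) ^ m = 1 := by rw [← pow_mul, ← hem, pow_orderOf_eq_one]
  exact Odd.of_dvd_nat hm (orderOf_dvd_of_pow_eq_one h1)

/-- A non-2-group has a nontrivial element of odd order. -/
theorem exists_odd_of_not_isPGroup {A : Type*} [Group A] [Finite A] (h : ¬ IsPGroup 2 A) :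
    ∃ α : A, Odd (orderOf α) ∧ α ≠ 1 := by
  by_contra hcon
  push Not at hcon
  exact h (isPGroup_two_of_odd_trivial hcon)

/-- An odd-order permutation-like swap is trivial. -/
theorem eq_of_swap_of_odd {X : Type*} (α : Equiv.Perm X) (k : ℕ) (hk : Odd k) (hα : α ^ k = 1)
    (u v : X) (huv : α u = v) (hvu : α v = u) : u = v := by
  obtain ⟨m, rfl⟩ := hk
  have h2 : (α ^ 2) u = u := by
    rw [pow_two, Equiv.Perm.mul_apply, huv, hvu]
  have h3 : ∀ j : ℕ, ((α ^ 2) ^ j) u = u := by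
    intro j
    induction j with
    | zero => simp
    | succ j ih => rw [pow_succ, Equiv.Perm.mul_apply, h2, ih]
  have h4 : (α ^ (2 * m + 1)) u = v := by
    rw [pow_succ', Equiv.Perm.mul_apply, pow_mul, h3, huv]
  rw [hα, Equiv.Perm.one_apply] at h4
  exact h4

/-- version for `MulAut`. -/
theorem eq_of_swap_of_odd' (α : MulAut G) (k : ℕ) (hk : Odd k) (hα : α ^ k = 1)
    (u v : G) (huv : α u = v) (hvu : α v = u) : u = v := by
  obtain ⟨m, rfl⟩ := hk
  have h2 : (α ^ 2) u = u := by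
    rw [pow_two, MulAut.mul_apply, huv, hvu]
  have h3 : ∀ j : ℕ, ((α ^ 2) ^ j) u = u := by
    intro j
    induction j with
    | zero => simp
    | succ j ih => rw [pow_succ, MulAut.mul_apply, h2, ih]
  have h4 : (α ^ (2 * m + 1)) u = v := by
    rw [pow_succ', MulAut.mul_apply, pow_mul, h3, huv]
  rw [hα, MulAut.one_apply] at h4
  exact h4

end Cfsg.Agent.Lib.Helper2.WRA
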