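import Mathlib
import Cfsg.Agent.Lib.Lead.WRCore2
import Cfsg.Agent.Lib.Helper2.WRA

set_option autoImplicit false

/-!
# Wreathed 2-groups: subgroups containing the centre, in coordinates
-/

namespace Cfsg.Agent.Lib.Helper2.WRB

open Cfsg.Agent.Lib.Lead.QDArith Cfsg.Agent.Lib.Lead.WRCore Cfsg.Agent.Lib.Helper2.WRA

theorem exists_mul_eq_hh {n : ℕ} (hn : 1 ≤ n) {k : ZMod (2 ^ n)} (hk : k ≠ 0) :
    ∃ c : ℕ, (c : ZMod (2 ^ n)) * k = hh n := by
  haveI : NeZero (2 ^ n) := ⟨by positivity⟩
  have h1 : addOrderOf k ∣ 2 ^ n := by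
    have := addOrderOf_dvd_card (x := k)
    rwa [ZMod.card] at this
  obtain ⟨e, he, hek⟩ := (Nat.dvd_prime_pow Nat.prime_two).1 h1
  have he1 : 1 ≤ e := by
    rcases Nat.eq_zero_or_pos e with h0 | h0
    · exfalso
      rw [h0, pow_zero, AddMonoid.addOrderOf_eq_one_iff] at hek
      exact hk hek
    · exact h0
  refine ⟨2 ^ (e - 1), ?_⟩
  have h2 : (2 : ZMod (2 ^ n)) * (((2 ^ (e - 1) : ℕ) : ZMod (2 ^ n)) * k) = 0 := by
    have h3 : (2 ^ e) • k = 0 := by rw [← hek]; exact addOrderOf_nsmul_eq_zero k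
    rw [nsmul_eq_mul] at h3
    have h4 : (2 ^ e : ℕ) = 2 * 2 ^ (e - 1) := by rw [← pow_succ']; congr 1; omega
    rw [h4] at h3
    push_cast at h3 ⊢
    linear_combination h3
  rcases (two_mul_eq_zero_iff hn _).1 h2 with h5 | h5
  · exfalso
    have h6 : (2 ^ (e - 1)) • k = 0 := by rw [nsmul_eq_mul]; exact h5
    have h7 := addOrderOf_dvd_of_nsmul_eq_zero h6
    rw [hek] at h7
    have h8 := Nat.le_of_dvd (by positivity) h7
    have h9 : 2 ^ (e - 1) < 2 ^ e := Nat.pow_lt_pow_right (by norm_num) (by omega)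
    omega
  · exact h5

theorem exists_mul_eq_qq {n : ℕ} (hn : 2 ≤ n) {k : ZMod (2 ^ n)} (hk0 : k ≠ 0) (hkh : k ≠ hh n) :
    ∃ c : ℕ, (c : ZMod (2 ^ n)) * k = qq n ∨ (c : ZMod (2 ^ n)) * k = - qq n := by
  have hn1 : 1 ≤ n := by omega
  have h2k : (2 : ZMod (2 ^ n)) * k ≠ 0 := by
    intro h
    rcases (two_mul_eq_zero_iff hn1 _).1 h with h | h
    · exact hk0 h
    · exact hkh h
  obtain ⟨c, hc⟩ := exists_mul_eq_hh hn1 h2k
  refine ⟨c, ?_⟩
  have h1 : (2 : ZMod (2 ^ n)) * ((c : ZMod (2 ^ n)) * k - qq n) = 0 := by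
    have := two_qq (n := n) hn
    linear_combination hc - this
  rcases (two_mul_eq_zero_iff hn1 _).1 h1 with h | h
  · left; linear_combination h
  · right
    have h2 := two_qq (n := n) hn
    have h3 := two_hh (n := n) hn1
    linear_combination h + h2 + h3

/-- `4 i = 0` iff `i` is a multiple of `q`. -/
theorem four_mul_eq_zero {n : ℕ} (hn : 2 ≤ n) {i : ZMod (2 ^ n)} (h : 4 * i = 0) :
    i = 0 ∨ i = qq n ∨ i = hh n ∨ i = hh n + qq n := by
  have hn1 : 1 ≤ n := by omega
  have h2q := two_qq (n := n) hn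
  have h2h := two_hh (n := n) hn1
  have h1 : (2 : ZMod (2 ^ n)) * (2 * i) = 0 := by linear_combination h
  rcases (two_mul_eq_zero_iff hn1 _).1 h1 with h3 | h3
  · rcases (two_mul_eq_zero_iff hn1 _).1 h3 with h4 | h4
    · exact Or.inl h4
    · exact Or.inr (Or.inr (Or.inl h4))
  · have h4 : (2 : ZMod (2 ^ n)) * (i - qq n) = 0 := by linear_combination h3 - h2q
    rcases (two_mul_eq_zero_iff hn1 _).1 h4 with h5 | h5
    · exact Or.inr (Or.inl (by linear_combination h5))
    · exact Or.inr (Or.inr (Or.inr (by linear_combination h5)))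

theorem qq_ne_zero {n : ℕ} (hn : 2 ≤ n) : qq n ≠ 0 := by
  intro h
  have h2q := two_qq (n := n) hn
  rw [h, mul_zero] at h2q
  exact hh_ne_zero (by omega) h2q.symm

theorem qq_ne_hh {n : ℕ} (hn : 2 ≤ n) : qq n ≠ hh n := by
  intro h
  have h2q := two_qq (n := n) hn
  have h2h := two_hh (n := n) (by omega)
  rw [h, h2h] at h2q
  exact hh_ne_zero (by omega) h2q.symm

variable {S : Type*} [Group S] {n : ℕ} {x y z : S} (hw : WR S n x y z)
include hw

theorem a_mem_iff [Finite S] {X : Subgroup S} (hD : Subgroup.center S ≤ X) (i j : ZMod (2 ^ n)) :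
    a n x y i j ∈ X ↔ a n x y (i - j) 0 ∈ X := by
  have h1 : a n x y i j = a n x y (i - j) 0 * a n x y j j := by
    rw [← hw.a_add]; congr 1 <;> ring
  rw [h1]
  exact X.mul_mem_cancel_right (hD (hw.diag_mem_center j))

theorem b_mem_iff [Finite S] {X : Subgroup S} (hD : Subgroup.center S ≤ X) {d : ZMod (2 ^ n)}
    (hd : b n x y z d 0 ∈ X) (i j : ZMod (2 ^ n)) :
    b n x y z i j ∈ X ↔ a n x y (i - j - d) 0 ∈ X := by
  have h1 : b n x y z i j = a n x y (i - d) j * b n x y z d 0 := by
    rw [hw.a_mul_b]; congr 1 <;> ring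
  rw [h1, X.mul_mem_cancel_right hd, a_mem_iff hw hD]
  have : i - d - j = i - j - d := by ring
  rw [this]

theorem exists_b_mem [Finite S] {X : Subgroup S} (hD : Subgroup.center S ≤ X)
    (hXA : ¬ X ≤ hw.A) : ∃ d, b n x y z d 0 ∈ X := by
  obtain ⟨g, hgX, hgA⟩ := SetLike.not_le_iff_exists.1 hXA
  rcases hw.exists_rep g with ⟨i, j, rfl⟩ | ⟨i, j, rfl⟩
  · exact absurd (hw.a_mem i j) hgA
  · refine ⟨i - j, ?_⟩
    have h1 : b n x y z (i - j) 0 = b n x y z i j * a n x y (-j) (-j) := by
      rw [hw.b_mul_a]; congr 1 <;> ring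
    rw [h1]
    exact X.mul_mem hgX (hD (hw.diag_mem_center _))

omit hw in
theorem center_le_of_centric {X : Subgroup S} (hC : Subgroup.centralizer (X : Set S) ≤ X) :
    Subgroup.center S ≤ X :=
  (Subgroup.center_le_centralizer _).trans hC

/-- The subgroups `V_d`. -/
def Vd (d : ZMod (2 ^ n)) : Subgroup S where
  carrier := {g | ∃ i j, (g = a n x y i j ∧ 2 * (i - j) = 0) ∨
    (g = b n x y z i j ∧ 2 * (i - j - d) = 0)}
  one_mem' := ⟨0, 0, Or.inl ⟨hw.a_zero.symm, by ring⟩⟩
  mul_mem' := by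
    rintro _ _ ⟨i, j, (⟨rfl, h1⟩ | ⟨rfl, h1⟩)⟩ ⟨k, l, (⟨rfl, h2⟩ | ⟨rfl, h2⟩)⟩
    · exact ⟨i + k, j + l, Or.inl ⟨(hw.a_add _ _ _ _).symm, by linear_combination h1 + h2⟩⟩
    · exact ⟨i + k, j + l, Or.inr ⟨hw.a_mul_b _ _ _ _, by linear_combination h1 + h2⟩⟩
    · exact ⟨i + l, j + k, Or.inr ⟨hw.b_mul_a _ _ _ _, by linear_combination h1 - h2⟩⟩
    · exact ⟨i + l, j + k, Or.inl ⟨hw.b_mul_b _ _ _ _, by linear_combination h1 - h2⟩⟩
  inv_mem' := by
    rintro _ ⟨i, j, (⟨rfl, h1⟩ | ⟨rfl, h1⟩)⟩
    · exact ⟨-i, -j, Or.inl ⟨(hw.a_neg _ _).symm, by linear_combination -h1⟩⟩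
    · exact ⟨-j, -i, Or.inr ⟨hw.b_inv _ _, by linear_combination h1⟩⟩

theorem a_mem_Vd (d i j : ZMod (2 ^ n)) : a n x y i j ∈ Vd hw d ↔ 2 * (i - j) = 0 := by
  constructor
  · rintro ⟨k, l, (⟨h, h1⟩ | ⟨h, h1⟩)⟩
    · obtain ⟨rfl, rfl⟩ := hw.a_inj h
      exact h1
    · exact absurd h.symm (hw.b_ne_a _ _ _ _)
  · intro h
    exact ⟨i, j, Or.inl ⟨rfl, h⟩⟩

theorem b_mem_Vd (d i j : ZMod (2 ^ n)) : b n x y z i j ∈ Vd hw d ↔ 2 * (i - j - d) = 0 := by
  constructor
  · rintro ⟨k, l, (⟨h, h1⟩ | ⟨h, h1⟩)⟩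
    · exact absurd h (hw.b_ne_a _ _ _ _)
    · obtain ⟨rfl, rfl⟩ := hw.b_inj h
      exact h1
  · intro h
    exact ⟨i, j, Or.inr ⟨rfl, h⟩⟩

theorem exists_two_pow_eq_one [Finite S] (g : S) : ∃ e : ℕ, g ^ (2 ^ e) = 1 :=
  (IsPGroup.of_card hw.card) g

/-- Central elements of `X` (non-abelian case) are diagonal. -/
theorem central_eq_diag [Finite S] {X : Subgroup S} {d : ZMod (2 ^ n)}
    (hd : b n x y z d 0 ∈ X) (hP1 : a n x y (hh n) 0 ∈ X) (g : X)
    (hg : g ∈ Subgroup.center X) : ∃ k, (g : S) = a n x y k k := by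
  rw [Subgroup.mem_center_iff] at hg
  rcases hw.exists_rep (g : S) with ⟨i, j, h⟩ | ⟨i, j, h⟩
  · have h1 := congrArg Subtype.val (hg ⟨b n x y z d 0, hd⟩)
    rw [Subgroup.coe_mul, Subgroup.coe_mul, h] at h1
    simp only [] at h1
    rw [hw.b_mul_a, hw.a_mul_b] at h1
    have h2 := (hw.b_inj h1).1
    have h3 : i = j := by linear_combination -h2
    exact ⟨j, by rw [h, h3]⟩
  · exfalso
    have h1 := congrArg Subtype.val (hg ⟨a n x y (hh n) 0, hP1⟩)
    rw [Subgroup.coe_mul, Subgroup.coe_mul, h] at h1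
    simp only [] at h1
    rw [hw.b_mul_a, hw.a_mul_b] at h1
    have h2 := (hw.b_inj h1).1
    exact hh_ne_zero hw.n1 (by linear_combination h2)

theorem tt_ne_one : a n x y (hh n) (hh n) ≠ 1 := by
  intro h
  exact hh_ne_zero hw.n1 ((hw.a_eq_one_iff _ _).1 h).1

theorem tt_sq : a n x y (hh n) (hh n) * a n x y (hh n) (hh n) = 1 := by
  rw [hw.a_mul_self_eq_one_iff]
  exact ⟨Or.inr rfl, Or.inr rfl⟩

/-- Any automorphism of a non-abelian `X ⊇ Z(S)` fixes the central involution. -/
theorem aut_fix_tt [Finite S] {X : Subgroup S} (hD : Subgroup.center S ≤ X) {d : ZMod (2 ^ n)}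
    (hd : b n x y z d 0 ∈ X) (hP1 : a n x y (hh n) 0 ∈ X) (α : MulAut X) :
    α ⟨a n x y (hh n) (hh n), hD (hw.diag_mem_center _)⟩ =
      ⟨a n x y (hh n) (hh n), hD (hw.diag_mem_center _)⟩ := by
  set t' : X := ⟨a n x y (hh n) (hh n), hD (hw.diag_mem_center _)⟩ with ht'
  have htc : t' ∈ Subgroup.center X := by
    rw [Subgroup.mem_center_iff]
    intro g
    apply Subtype.ext
    rw [Subgroup.coe_mul, Subgroup.coe_mul]
    exact Subgroup.mem_center_iff.1 (hw.diag_mem_center (hh n)) g
  have hαc : α t' ∈ Subgroup.center X := by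
    have := Subgroup.characteristic_iff_comap_eq.mp
      (inferInstance : (Subgroup.center X).Characteristic) α
    rw [← this] at htc
    exact htc
  obtain ⟨k, hk⟩ := central_eq_diag hw hd hP1 (α t') hαc
  have hsq : α t' * α t' = 1 := by
    rw [← map_mul]
    have : t' * t' = 1 := Subtype.ext (tt_sq hw)
    rw [this, map_one]
  have hsq' : a n x y k k * a n x y k k = 1 := by
    have := congrArg Subtype.val hsq
    rwa [Subgroup.coe_mul, hk] at this
  have hne : α t' ≠ 1 := by
    intro h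
    have h1 : t' = 1 := by
      apply α.injective
      rw [h, map_one]
    exact tt_ne_one hw (congrArg Subtype.val h1)
  rcases ((hw.a_mul_self_eq_one_iff k k).1 hsq').1 with h0 | h0
  · exfalso
    apply hne
    apply Subtype.ext
    rw [hk, h0]
    exact hw.a_zero
  · apply Subtype.ext
    rw [hk, h0]

theorem hh_add_hh : hh n + hh n = 0 := by
  have := two_hh (n := n) hw.n1
  linear_combination this

/-- An odd-order automorphism of a non-abelian `X ⊇ Z(S)`, `X ⊄ A`, preserving `X ∩ A` is trivial. -/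
theorem aut_trivial_of_preserves [Finite S] {X : Subgroup S} (hD : Subgroup.center S ≤ X)
    {d : ZMod (2 ^ n)} (hd : b n x y z d 0 ∈ X) (hP1 : a n x y (hh n) 0 ∈ X)
    (α : MulAut X) (k : ℕ) (hk : Odd k) (hα : α ^ k = 1)
    (hpres : ∀ g : X, (g : S) ∈ hw.A → ((α g : X) : S) ∈ hw.A) : α = 1 := by
  have hhne := hh_ne_zero (n := n) hw.n1
  have h2h := hh_add_hh hw
  set t' : X := ⟨a n x y (hh n) (hh n), hD (hw.diag_mem_center _)⟩ with ht'
  have ht : α t' = t' := aut_fix_tt hw hD hd hP1 α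
  have htne : t' ≠ 1 := fun h => tt_ne_one hw (congrArg Subtype.val h)
  have htsq : t' * t' = 1 := Subtype.ext (tt_sq hw)
  -- involutions of `X ∩ A` are fixed
  have key : ∀ (g : X) (i j : ZMod (2 ^ n)), (g : S) = a n x y i j → (i = 0 ∨ i = hh n) →
      (j = 0 ∨ j = hh n) → α g = g := by
    intro g i j hij hi hj
    obtain ⟨i', j', h'⟩ := hpres g ⟨i, j, hij⟩
    have hgsq : g * g = 1 := by
      apply Subtype.ext
      rw [Subgroup.coe_mul, hij]
      exact (hw.a_mul_self_eq_one_iff i j).2 ⟨hi, hj⟩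
    have hsq' : a n x y i' j' * a n x y i' j' = 1 := by
      have h1 : α g * α g = 1 := by rw [← map_mul, hgsq, map_one]
      have := congrArg Subtype.val h1
      rwa [Subgroup.coe_mul, h'] at this
    obtain ⟨hi', hj'⟩ := (hw.a_mul_self_eq_one_iff i' j').1 hsq'
    by_cases hs : i = j
    · subst hs
      rcases hi with rfl | rfl
      · have : g = 1 := Subtype.ext (hij.trans hw.a_zero)
        rw [this, map_one]
      · have : g = t' := Subtype.ext hij
        rw [this]; exact ht
    · have hs' : i' ≠ j' := by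
        intro e
        subst e
        rcases hi' with rfl | rfl
        · have h1 : α g = 1 := Subtype.ext (h'.trans hw.a_zero)
          have h2 : g = 1 := by
            apply α.injective; rw [h1, map_one]
          have h3 := congrArg Subtype.val h2
          rw [hij] at h3
          have h4 := (hw.a_eq_one_iff _ _).1 h3
          exact hs (h4.1.trans h4.2.symm)
        · have h1 : α g = α t' := by rw [ht]; exact Subtype.ext h'
          have h2 : g = t' := α.injective h1
          have h3 := congrArg Subtype.val h2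
          rw [hij] at h3
          have h4 := hw.a_inj h3
          exact hs (h4.1.trans h4.2.symm)
      have hc : (i = 0 ∧ j = hh n) ∨ (i = hh n ∧ j = 0) := by
        rcases hi with rfl | rfl <;> rcases hj with rfl | rfl
        · exact absurd rfl hs
        · exact Or.inl ⟨rfl, rfl⟩
        · exact Or.inr ⟨rfl, rfl⟩
        · exact absurd rfl hs
      have hc' : (i' = 0 ∧ j' = hh n) ∨ (i' = hh n ∧ j' = 0) := by
        rcases hi' with rfl | rfl <;> rcases hj' with rfl | rfl
        · exact absurd rfl hs'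
        · exact Or.inl ⟨rfl, rfl⟩
        · exact Or.inr ⟨rfl, rfl⟩
        · exact absurd rfl hs'
      have hor : (i' = i ∧ j' = j) ∨ (i' = i + hh n ∧ j' = j + hh n) := by
        rcases hc with ⟨rfl, rfl⟩ | ⟨rfl, rfl⟩ <;> rcases hc' with ⟨rfl, rfl⟩ | ⟨rfl, rfl⟩
        · exact Or.inl ⟨rfl, rfl⟩
        · exact Or.inr ⟨by rw [zero_add], h2h.symm⟩
        · exact Or.inr ⟨h2h.symm, by rw [zero_add]⟩
        · exact Or.inl ⟨rfl, rfl⟩
      rcases hor with ⟨rfl, rfl⟩ | ⟨rfl, rfl⟩
      · exact Subtype.ext (h'.trans hij.symm)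
      · exfalso
        have h1 : α g = g * t' := by
          apply Subtype.ext
          rw [Subgroup.coe_mul, h', hij, ← hw.a_add]
        have h2 : α (g * t') = g := by
          rw [map_mul, ht, h1, mul_assoc, htsq, mul_one]
        have h3 := eq_of_swap_of_odd' α k hk hα g (g * t') h1 h2
        apply htne
        have : g * t' = g * 1 := by rw [mul_one]; exact h3.symm
        exact mul_left_cancel this
  -- `α` fixes `X ∩ A`
  have hfixA : ∀ g : X, (g : S) ∈ hw.A → α g = g := by
    intro g hg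
    obtain ⟨e, he⟩ := exists_two_pow_eq_one hw (g : S)
    have he' : g ^ (2 ^ e) = 1 := by
      apply Subtype.ext
      rw [Subgroup.coe_pow]; exact he
    apply aut_fix_of_fix_invol α k hk hα (hw.A.subgroupOf X) ?_ ?_ ?_ e g hg he'
    · intro g' hg'
      exact hpres g' hg'
    · rintro ⟨g₁, hg₁X⟩ ⟨i, j, h1⟩ ⟨g₂, hg₂X⟩ ⟨k', l, h2⟩
      apply Subtype.ext
      simp only [Subgroup.coe_subtype] at h1 h2
      subst h1 h2
      exact hw.a_comm _ _ _ _
    · intro g' hg' hsq
      obtain ⟨i, j, hij⟩ := hg'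
      have hsq' := congrArg Subtype.val hsq
      rw [Subgroup.coe_mul] at hsq'
      simp only [Subgroup.coe_subtype] at hij
      rw [hij] at hsq'
      obtain ⟨hi, hj⟩ := (hw.a_mul_self_eq_one_iff i j).1 hsq'
      exact key g' i j hij hi hj
  -- stability
  ext g
  have hδ : ((g⁻¹ * α g : X) : S) ∈ hw.A := by
    rcases hw.exists_rep (g : S) with ⟨i, j, hij⟩ | ⟨i, j, hij⟩
    · rw [Subgroup.coe_mul, Subgroup.coe_inv]
      exact hw.A.mul_mem (hw.A.inv_mem ⟨i, j, hij⟩) (hpres g ⟨i, j, hij⟩)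
    · rcases hw.exists_rep ((α g : X) : S) with ⟨i', j', h'⟩ | ⟨i', j', h'⟩
      · exfalso
        have h1 : α (α g) = α g := hfixA (α g) ⟨i', j', h'⟩
        have h2 : α g = g := α.injective h1
        rw [h2, hij] at h'
        exact hw.b_ne_a _ _ _ _ h'
      · rw [Subgroup.coe_mul, Subgroup.coe_inv, hij, h', hw.b_inv, hw.b_mul_b]
        exact hw.a_mem _ _
  have hfix : α (g⁻¹ * α g) = g⁻¹ * α g := hfixA _ hδ
  obtain ⟨e, he⟩ := exists_two_pow_eq_one hw ((g⁻¹ * α g : X) : S)
  have he' : (g⁻¹ * α g) ^ (2 ^ e) = 1 := by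
    apply Subtype.ext
    rw [Subgroup.coe_pow]; exact he
  have := aut_apply_eq_of_stab α k hk hα g hfix ⟨e, he'⟩
  rw [this]; rfl

/-- If `a(q,0) ∈ X`, every automorphism of `X` preserves `X ∩ A`. -/
theorem preserves_of_qq [Finite S] {X : Subgroup S} (hQ : a n x y (qq n) 0 ∈ X) (α : MulAut X) :
    ∀ g : X, (g : S) ∈ hw.A → ((α g : X) : S) ∈ hw.A := by
  intro g hgA
  rcases hw.exists_rep ((α g : X) : S) with ⟨i, j, hij⟩ | ⟨i, j, hij⟩
  · exact ⟨i, j, hij⟩
  · exfalso
    set s : X := ⟨a n x y (qq n) 0, hQ⟩ with hs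
    set r : X := α.symm s with hr
    have hrr : ((r * r : X) : S) ∈ hw.A := by
      rw [Subgroup.coe_mul]
      rcases hw.exists_rep (r : S) with ⟨k, l, h⟩ | ⟨k, l, h⟩
      · rw [h]; exact hw.A.mul_mem (hw.a_mem _ _) (hw.a_mem _ _)
      · rw [h, hw.b_mul_b]; exact hw.a_mem _ _
    have hAc : ∀ u v : X, (u : S) ∈ hw.A → (v : S) ∈ hw.A → u * v = v * u := by
      rintro u v ⟨k, l, h1⟩ ⟨k', l', h2⟩
      apply Subtype.ext
      rw [Subgroup.coe_mul, Subgroup.coe_mul, h1, h2]
      exact hw.a_comm _ _ _ _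
    have hcomm : g * (r * r) = (r * r) * g := hAc g (r * r) hgA hrr
    have h1 := congrArg α hcomm
    simp only [map_mul] at h1
    have h2 : α r = s := by rw [hr]; exact α.apply_symm_apply s
    rw [h2] at h1
    have h3 := congrArg Subtype.val h1
    simp only [Subgroup.coe_mul, hs] at h3
    rw [hij, ← hw.a_add, hw.b_mul_a, hw.a_mul_b] at h3
    have h4 := (hw.b_inj h3).1
    have h5 : qq n + qq n = hh n := by
      have := two_qq (n := n) hw.hn
      linear_combination this
    rw [h5] at h4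
    exact hh_ne_zero hw.n1 (by linear_combination -h4)

/-- If `X ∩ A = Z(S) × ⟨a(h,0)⟩` and `d` is odd, every automorphism of `X` preserves `X ∩ A`. -/
theorem preserves_of_odd [Finite S] {X : Subgroup S} (hD : Subgroup.center S ≤ X)
    {d : ZMod (2 ^ n)} (hd : b n x y z d 0 ∈ X) (hP1 : a n x y (hh n) 0 ∈ X)
    (hI : ∀ k, a n x y k 0 ∈ X → k = 0 ∨ k = hh n) (hdodd : Odd d) (α : MulAut X) :
    ∀ g : X, (g : S) ∈ hw.A → ((α g : X) : S) ∈ hw.A := by
  intro g hgA
  have h2h := two_hh (n := n) hw.n1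
  rcases hw.exists_rep ((α g : X) : S) with ⟨i', j', h'⟩ | ⟨i', j', h'⟩
  · exact ⟨i', j', h'⟩
  · exfalso
    obtain ⟨i, j, hij⟩ := hgA
    have hgX : a n x y i j ∈ X := hij ▸ g.2
    have h1 : 2 * (i - j) = 0 := by
      rcases hI _ ((a_mem_iff hw hD i j).1 hgX) with h | h
      · rw [h, mul_zero]
      · rw [h]; exact h2h
    set c : X := ⟨a n x y j j, hD (hw.diag_mem_center j)⟩ with hc
    have hcc : c ∈ Subgroup.center X := by
      rw [Subgroup.mem_center_iff]
      intro g'
      apply Subtype.ext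
      rw [Subgroup.coe_mul, Subgroup.coe_mul]
      exact Subgroup.mem_center_iff.1 (hw.diag_mem_center j) g'
    have hαc : α c ∈ Subgroup.center X := by
      have := Subgroup.characteristic_iff_comap_eq.mp
        (inferInstance : (Subgroup.center X).Characteristic) α
      rw [← this] at hcc
      exact hcc
    obtain ⟨k, hk⟩ := central_eq_diag hw hd hP1 (α c) hαc
    have hsq : g * g = c * c := by
      apply Subtype.ext
      rw [Subgroup.coe_mul, Subgroup.coe_mul, hij]
      simp only [hc]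
      rw [hw.a_sq, hw.a_sq]
      congr 1
      linear_combination h1
    have hsq' := congrArg Subtype.val (congrArg α hsq)
    rw [map_mul, map_mul, Subgroup.coe_mul, Subgroup.coe_mul, h', hk, hw.b_sq, hw.a_sq] at hsq'
    have h3 := (hw.a_inj hsq').1
    have hbX : b n x y z i' j' ∈ X := h' ▸ (α g).2
    have h4 := hI _ ((b_mem_iff hw hD hd i' j').1 hbX)
    have hodd : Odd (i' + j') := by
      have hev : Even (hh n) := even_hh hw.hn
      rcases h4 with h | h
      · have : i' + j' = d + 2 * j' := by linear_combination h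
        rw [this]
        exact hdodd.add_even (even_two_mul j')
      · have : i' + j' = d + (hh n + 2 * j') := by linear_combination h
        rw [this]
        exact hdodd.add_even (hev.add (even_two_mul j'))
    have heven : Even (i' + j') := by rw [h3]; exact even_two_mul k
    exact not_even_and_odd hw.n1 _ ⟨heven, hodd⟩

/-- The abelian case `X = Z(S)⟨b(d,0)⟩`: odd-order automorphisms are trivial. -/
theorem aut_trivial_of_abelian [Finite S] {X : Subgroup S} (hD : Subgroup.center S ≤ X)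
    {d : ZMod (2 ^ n)} (hd : b n x y z d 0 ∈ X) (hI : ∀ k, a n x y k 0 ∈ X → k = 0)
    (α : MulAut X) (k : ℕ) (hk : Odd k) (hα : α ^ k = 1) : α = 1 := by
  have hhne := hh_ne_zero (n := n) hw.n1
  have h2h := hh_add_hh hw
  have h2q := two_qq (n := n) hw.hn
  have hn1 := hw.n1
  -- elements of `X`
  have haX : ∀ i j, a n x y i j ∈ X → i = j := by
    intro i j h
    have := hI _ ((a_mem_iff hw hD i j).1 h)
    exact sub_eq_zero.1 this
  have hbX : ∀ i j, b n x y z i j ∈ X → i - j = d := by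
    intro i j h
    have := hI _ ((b_mem_iff hw hD hd i j).1 h)
    linear_combination this
  set t' : X := ⟨a n x y (hh n) (hh n), hD (hw.diag_mem_center _)⟩ with ht'
  have htne : t' ≠ 1 := fun h => tt_ne_one hw (congrArg Subtype.val h)
  have htsq : t' * t' = 1 := Subtype.ext (tt_sq hw)
  -- squares are diagonal
  have hsqd : ∀ r : X, ∃ k', ((r * r : X) : S) = a n x y k' k' := by
    intro r
    rw [Subgroup.coe_mul]
    rcases hw.exists_rep (r : S) with ⟨i, j, h⟩ | ⟨i, j, h⟩
    · have hij := haX i j (h ▸ r.2)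
      subst hij
      exact ⟨2 * i, by rw [h, hw.a_sq]⟩
    · exact ⟨i + j, by rw [h, hw.b_sq]⟩
  have ht : α t' = t' := by
    set c₀ : X := ⟨a n x y (qq n) (qq n), hD (hw.diag_mem_center _)⟩ with hc₀
    have h1 : t' = c₀ * c₀ := by
      apply Subtype.ext
      rw [Subgroup.coe_mul]
      simp only [ht', hc₀]
      rw [hw.a_sq, h2q]
    obtain ⟨k', hk'⟩ := hsqd (α c₀)
    have h2 : α t' = α c₀ * α c₀ := by rw [h1, map_mul]
    have h3 : ((α t' : X) : S) = a n x y k' k' := by rw [h2]; exact hk'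
    have hsq : α t' * α t' = 1 := by rw [← map_mul, htsq, map_one]
    have hsq' : a n x y k' k' * a n x y k' k' = 1 := by
      have := congrArg Subtype.val hsq
      rwa [Subgroup.coe_mul, h3] at this
    have hne : α t' ≠ 1 := by
      intro h
      apply htne
      apply α.injective
      rw [h, map_one]
    rcases ((hw.a_mul_self_eq_one_iff k' k').1 hsq').1 with h0 | h0
    · exfalso
      apply hne
      apply Subtype.ext
      rw [h3, h0]
      exact hw.a_zero
    · apply Subtype.ext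
      rw [h3, h0]
  -- `X` is commutative
  have hcomm : ∀ u v : X, u * v = v * u := by
    intro u v
    apply Subtype.ext
    rw [Subgroup.coe_mul, Subgroup.coe_mul]
    rcases hw.exists_rep (u : S) with ⟨i, j, h⟩ | ⟨i, j, h⟩
    · have hij := haX i j (h ▸ u.2)
      subst hij
      rw [h]
      exact ((Subgroup.mem_center_iff.1 (hw.diag_mem_center i)) _).symm
    · rcases hw.exists_rep (v : S) with ⟨i', j', h'⟩ | ⟨i', j', h'⟩
      · have hij := haX i' j' (h' ▸ v.2)
        subst hij
        rw [h']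
        exact (Subgroup.mem_center_iff.1 (hw.diag_mem_center i')) _
      · have e1 := hbX i j (h ▸ u.2)
        have e2 := hbX i' j' (h' ▸ v.2)
        rw [h, h', hw.b_mul_b, hw.b_mul_b]
        congr 1
        · linear_combination e1 - e2
        · linear_combination e2 - e1
  -- involutions are fixed
  have hinv : ∀ g : X, g * g = 1 → α g = g := by
    intro g hg
    have hg' := congrArg Subtype.val hg
    rw [Subgroup.coe_mul, Subgroup.coe_one] at hg'
    have hαsq : α g * α g = 1 := by rw [← map_mul, hg, map_one]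
    have hαsq' := congrArg Subtype.val hαsq
    rw [Subgroup.coe_mul, Subgroup.coe_one] at hαsq'
    -- diagonal involutions
    have hdiag : ∀ (u : X) (i : ZMod (2 ^ n)), (u : S) = a n x y i i →
        (u : S) * (u : S) = 1 → u = 1 ∨ u = t' := by
      intro u i hu hsq
      rw [hu] at hsq
      rcases ((hw.a_mul_self_eq_one_iff i i).1 hsq).1 with h0 | h0
      · left; apply Subtype.ext; rw [hu, h0]; exact hw.a_zero
      · right; apply Subtype.ext; rw [hu, h0]
    rcases hw.exists_rep (g : S) with ⟨i, j, h⟩ | ⟨i, j, h⟩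
    · have hij := haX i j (h ▸ g.2)
      subst hij
      rcases hdiag g i h hg' with h1 | h1
      · rw [h1, map_one]
      · rw [h1]; exact ht
    · rcases hw.exists_rep ((α g : X) : S) with ⟨i', j', h'⟩ | ⟨i', j', h'⟩
      · exfalso
        have hij := haX i' j' (h' ▸ (α g).2)
        subst hij
        rcases hdiag (α g) i' h' hαsq' with h1 | h1
        · have h2 : g = 1 := by apply α.injective; rw [h1, map_one]
          have h3 := congrArg Subtype.val h2
          rw [h] at h3
          exact hw.b_ne_one _ _ h3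
        · have h2 : g = t' := by apply α.injective; rw [h1, ht]
          have h3 := congrArg Subtype.val h2
          rw [h] at h3
          exact hw.b_ne_a _ _ _ _ h3
      · have e1 := hbX i j (h ▸ g.2)
        have e2 := hbX i' j' (h' ▸ (α g).2)
        rw [h, hw.b_mul_self_eq_one_iff] at hg'
        rw [h', hw.b_mul_self_eq_one_iff] at hαsq'
        have e3 : 2 * (i' - i) = 0 := by linear_combination e2 - e1 + hαsq' - hg'
        rcases (two_mul_eq_zero_iff hn1 _).1 e3 with e4 | e4
        · apply Subtype.ext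
          rw [h', h]
          congr 1
          · linear_combination e4
          · linear_combination hαsq' - hg' - e4
        · exfalso
          have h1 : α g = g * t' := by
            apply Subtype.ext
            rw [Subgroup.coe_mul, h', h]
            simp only [ht']
            rw [hw.b_mul_a]
            congr 1
            · linear_combination e4
            · linear_combination hαsq' - hg' - e4 - (hh_add_hh hw)
          have h2 : α (g * t') = g := by
            rw [map_mul, ht, h1, mul_assoc, htsq, mul_one]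
          have h3 := eq_of_swap_of_odd' α k hk hα g (g * t') h1 h2
          apply htne
          have : g * t' = g * 1 := by rw [mul_one]; exact h3.symm
          exact mul_left_cancel this
  ext g
  obtain ⟨e, he⟩ := exists_two_pow_eq_one hw (g : S)
  have he' : g ^ (2 ^ e) = 1 := by
    apply Subtype.ext
    rw [Subgroup.coe_pow]; exact he
  have := aut_fix_of_fix_invol α k hk hα ⊤ (fun _ _ => Subgroup.mem_top _)
    (fun u _ v _ => hcomm u v) (fun g _ hg => hinv g hg) e g (Subgroup.mem_top _) he'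
  rw [this]; rfl

end Cfsg.Agent.Lib.Helper2.WRB
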