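import Mathlib
import Cfsg.Agent.Lib.Helper2.QDFusD
import Cfsg.Agent.Lib.Helper2.WRB
import Cfsg.Agent.Lib.Helper2.WRJ
import Cfsg.Agent.Lib.Lead.QuatRecog

set_option autoImplicit false

/-!
# Quasi-dihedral Sylow 2-subgroups: a quaternion subgroup of order 8, and the centralizer of an
involution in a group without subgroups of index 2
-/

namespace Cfsg.Agent.Lib.Helper2.QDFusE

open Cfsg Cfsg.Agent.Lib.Lead.QDArith Cfsg.Agent.Lib.Lead.QDCore Cfsg.Agent.Lib.Helper7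
open Cfsg.Agent.Lib.Helper2.QDFusA Cfsg.Agent.Lib.Helper2.QDFusB Cfsg.Agent.Lib.Helper2.QDFusC
open Cfsg.Agent.Lib.Helper2.QDFusD Cfsg.Agent.Lib.Helper2.QDSylow Cfsg.Agent.Lib.Helper2.QDQuat
open Cfsg.Agent.Lib.Helper2.QDFour
open Cfsg.Agent.Lib.Helper2.WRJ Cfsg.Agent.Lib.Helper2.QuatAut

section QDtype

variable {S : Type*} [Group S] {n : ℕ} {x y : S} (hq : QD S n x y)

/-- A quaternion subgroup of order 8 of a quasi-dihedral group. -/
def Q8 : Subgroup S where
  carrier := {g | (∃ j, 4 * j = 0 ∧ g = r n x j) ∨ (∃ l, 4 * (l - 1) = 0 ∧ g = s n x y l)}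
  one_mem' := Or.inl ⟨0, by ring, hq.r_zero.symm⟩
  mul_mem' := by
    have h4h : (4 : ZMod (2 ^ n)) * hh n = 0 := by
      have := two_hh (n := n) hq.n1; linear_combination 2 * this
    have hm := one_add_mm (n := n)
    rintro _ _ (⟨j, hj, rfl⟩ | ⟨l, hl, rfl⟩) (⟨j', hj', rfl⟩ | ⟨l', hl', rfl⟩)
    · exact Or.inl ⟨j + j', by linear_combination hj + hj', (hq.r_add j j').symm⟩
    · exact Or.inr ⟨j + l', by linear_combination hj + hl', hq.r_mul_s j l'⟩
    · exact Or.inr ⟨l + mm n * j', by linear_combination hl + mm n * hj', hq.s_mul_r l j'⟩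
    · exact Or.inl ⟨l + mm n * l', by linear_combination hl + mm n * hl' + 4 * hm + h4h,
        hq.s_mul_s l l'⟩
  inv_mem' := by
    have h4h : (4 : ZMod (2 ^ n)) * hh n = 0 := by
      have := two_hh (n := n) hq.n1; linear_combination 2 * this
    have hm := one_add_mm (n := n)
    rintro _ (⟨j, hj, rfl⟩ | ⟨l, hl, rfl⟩)
    · exact Or.inl ⟨-j, by linear_combination -hj, (hq.r_neg j).symm⟩
    · exact Or.inr ⟨-(mm n * l), by linear_combination (-mm n) * hl - 4 * hm - h4h, hq.s_inv l⟩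

theorem r_mem_Q8 (j : ZMod (2 ^ n)) : r n x j ∈ Q8 hq ↔ 4 * j = 0 := by
  constructor
  · rintro (⟨j', hj', h⟩ | ⟨l, _, h⟩)
    · rw [hq.r_inj h]; exact hj'
    · exact absurd h.symm (hq.s_ne_r _ _)
  · intro h; exact Or.inl ⟨j, h, rfl⟩

theorem s_mem_Q8 (l : ZMod (2 ^ n)) : s n x y l ∈ Q8 hq ↔ 4 * (l - 1) = 0 := by
  constructor
  · rintro (⟨j', _, h⟩ | ⟨l', hl', h⟩)
    · exact absurd h (hq.s_ne_r _ _)
    · rw [hq.s_inj h]; exact hl'
  · intro h; exact Or.inr ⟨l, h, rfl⟩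

include hq in
theorem r_mem_zpowers_rq (j : ZMod (2 ^ n)) (h : 4 * j = 0) :
    r n x j ∈ Subgroup.zpowers (r n x (qq n)) := by
  have h2q := two_qq (n := n) hq.n2
  rcases Cfsg.Agent.Lib.Helper2.WRB.four_mul_eq_zero hq.n2 h with h | h | h | h
  · rw [h, hq.r_zero]; exact Subgroup.one_mem _
  · rw [h]; exact Subgroup.mem_zpowers _
  · have : r n x (hh n) = r n x (qq n) ^ 2 := by
      rw [hq.r_pow]; congr 1; push_cast; linear_combination -h2q
    rw [h, this]; exact Subgroup.pow_mem _ (Subgroup.mem_zpowers _) _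
  · have : r n x (hh n + qq n) = r n x (qq n) ^ 3 := by
      rw [hq.r_pow]; congr 1; push_cast; linear_combination -h2q
    rw [h, this]; exact Subgroup.pow_mem _ (Subgroup.mem_zpowers _) _

include hq in
theorem zpowers_rq_le_zpowers : Subgroup.zpowers (r n x (qq n)) ≤ Subgroup.zpowers x :=
  Subgroup.zpowers_le.mpr (hq.r_mem _)

theorem card_Q8 [Finite S] : Nat.card (Q8 hq) = 8 := by
  have hm := one_add_mm (n := n)
  have h4h : (4 : ZMod (2 ^ n)) * hh n = 0 := by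
    have := two_hh (n := n) hq.n1; linear_combination 2 * this
  have h4q : (4 : ZMod (2 ^ n)) * qq n = 0 := by
    have := two_qq (n := n) hq.n2
    have h2 := two_hh (n := n) hq.n1
    linear_combination 2 * this + h2
  have hCQ : Subgroup.zpowers (r n x (qq n)) ≤ Q8 hq :=
    Subgroup.zpowers_le.mpr ((r_mem_Q8 hq _).2 h4q)
  have hrel : (Subgroup.zpowers (r n x (qq n))).relIndex (Q8 hq) = 2 := by
    rw [Subgroup.relIndex_eq_two_iff]
    refine ⟨s n x y 1, (s_mem_Q8 hq 1).2 (by ring), ?_⟩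
    intro g hg
    rcases hq.exists_rep g with ⟨j, rfl⟩ | ⟨l, rfl⟩
    · right
      refine ⟨r_mem_zpowers_rq hq j ((r_mem_Q8 hq j).1 hg), ?_⟩
      intro h
      rw [hq.r_mul_s] at h
      exact hq.s_not_mem _ (zpowers_rq_le_zpowers hq h)
    · left
      refine ⟨?_, fun h => hq.s_not_mem _ (zpowers_rq_le_zpowers hq h)⟩
      rw [hq.s_mul_s]
      apply r_mem_zpowers_rq hq
      have hl := (s_mem_Q8 hq l).1 hg
      linear_combination hl + 4 * hm + h4h
  have h1 := Subgroup.relIndex_mul_relIndex ⊥ (Subgroup.zpowers (r n x (qq n))) (Q8 hq) bot_le hCQ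
  rw [Subgroup.relIndex_bot_left, Subgroup.relIndex_bot_left, hrel, Nat.card_zpowers,
    hq.orderOf_rq] at h1
  omega

/-- `Q8 ≅ Q_8`. -/
theorem Q8_quat [Finite S] : Nonempty (Q8 hq ≃* QuaternionGroup 2) := by
  have h2q := two_qq (n := n) hq.n2
  have h2h := two_hh (n := n) hq.n1
  have h4q : (4 : ZMod (2 ^ n)) * qq n = 0 := by linear_combination 2 * h2q + h2h
  apply Cfsg.Agent.Lib.Lead.QuatRecog.nonempty_mulEquiv_quaternionGroup 2
    (⟨r n x (qq n), (r_mem_Q8 hq _).2 h4q⟩ : Q8 hq)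
    ⟨s n x y 1, (s_mem_Q8 hq 1).2 (by ring)⟩
  · rw [Subgroup.orderOf_mk, hq.orderOf_rq]
  · intro h
    obtain ⟨k, hk⟩ := Subgroup.mem_zpowers_iff.1 h
    have h1 := congrArg Subtype.val hk
    rw [Subgroup.coe_zpow] at h1
    have h3 : (r n x (qq n)) ^ k = s n x y 1 := h1
    have h2 : r n x (qq n) ^ k ∈ Subgroup.zpowers x :=
      Subgroup.zpow_mem _ (hq.r_mem _) k
    rw [h3] at h2
    exact hq.s_not_mem _ h2
  · apply Subtype.ext
    rw [Subgroup.coe_mul, Subgroup.coe_pow]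
    show s n x y 1 * s n x y 1 = r n x (qq n) ^ 2
    rw [hq.s_sq, hq.r_pow]
    congr 1
    push_cast; linear_combination -h2q
  · apply Subtype.ext
    rw [Subgroup.coe_mul, Subgroup.coe_mul, Subgroup.coe_inv, Subgroup.coe_inv]
    show s n x y 1 * r n x (qq n) * (s n x y 1)⁻¹ = (r n x (qq n))⁻¹
    rw [hq.s_conj_r, ← hq.r_neg, hq.mm_qq]
    congr 1
    linear_combination h2q + h2h
  · exact card_Q8 hq

end QDtype

section QDsec

variable {G : Type*} [Group G] [Finite G] (S : Sylow 2 G) {n : ℕ} {x y : ↥(S : Subgroup G)}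
  (hq : QD ↥(S : Subgroup G) n x y)

include hq in
/-- Without subgroups of index 2, `|N_G(T) : C_G(T)| = 6` for every four-subgroup `T` of `S`. -/
theorem a_six (hG : ∀ H : Subgroup G, H.index ≠ 2) (T : Subgroup G) [hT : IsKleinFour ↥T]
    (hTS : T ≤ (S : Subgroup G)) :
    (Subgroup.centralizer (T : Set G)).relIndex (Subgroup.normalizer (T : Set G)) = 6 := by
  rcases four_relIndex_cases (S : Subgroup G) hq T hTS with h | h
  · exfalso
    have hE := no_fus_even_of_two S hq T hTS h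
    obtain ⟨K, -, hK2, -⟩ := exists_K_Q S hq hE
    exact hG K hK2
  · exact h

include hq in
/-- Without subgroups of index 2, `|N_G(Q) : Q C_G(Q)| = 6` for every quaternion subgroup `Q` of
order 8 of `S`. -/
theorem b_six (hG : ∀ H : Subgroup G, H.index ≠ 2) (Q : Subgroup G)
    (hQS : Q ≤ (S : Subgroup G)) (eQ : ↥Q ≃* QuaternionGroup 2) :
    (QC Q).relIndex (Subgroup.normalizer (Q : Set G)) = 6 := by
  rcases quat_relIndex_cases (S : Subgroup G) hq Q hQS eQ with h | h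
  · exfalso
    have hO := no_fus_odd_of_two S hq Q hQS eQ h
    obtain ⟨K, -, hK2, -⟩ := exists_K_D S hq hO
    exact hG K hK2
  · exact h

include hq in
/-- Without subgroups of index 2, all involutions are conjugate. -/
theorem all_invol_conj (hG : ∀ H : Subgroup G, H.index ≠ 2) (t' : G) (ht : orderOf t' = 2) :
    IsConj ((r n x (hh n) : ↥(S : Subgroup G)) : G) t' := by
  haveI := isKleinFour_fourT hq 0 ⟨0, by ring⟩
  haveI : IsKleinFour ↥((fourT hq 0 ⟨0, by ring⟩).map (S : Subgroup G).subtype) :=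
    Cfsg.Agent.Lib.Helper2.DihedralFour.isKleinFour_map _ (Subgroup.subtype_injective _) _
  have hA := isConj_z_y_of_six S hq _ (Subgroup.map_subtype_le _)
    (a_six S hq hG ((fourT hq 0 ⟨0, by ring⟩).map (S : Subgroup G).subtype)
      (Subgroup.map_subtype_le _))
  rcases invol_conj_cases S hq t' ht with h | h
  · exact h.symm
  · exact hA.trans h.symm

end QDsec

section Cent

variable {G : Type*} [Group G] [Finite G]

/-- The centralizer of a central involution of a quasi-dihedral Sylow 2-subgroup of a group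
without subgroups of index 2. -/
theorem centralizer_of_central (S : Sylow 2 G) (hS : Cfsg.IsQuasiDihedral ↥(S : Subgroup G))
    (hG : ∀ H : Subgroup G, H.index ≠ 2) (x₀ : G) (hx : orderOf x₀ = 2)
    (hxS : x₀ ∈ (S : Subgroup G)) (hxZ : ∀ s ∈ (S : Subgroup G), s * x₀ = x₀ * s) :
    ∃ R : Sylow 2 ↥(Subgroup.centralizer ({x₀} : Set G)),
      Nonempty (↥(R : Subgroup ↥(Subgroup.centralizer ({x₀} : Set G))) ≃* ↥(S : Subgroup G)) ∧
      (∃ K : Subgroup ↥(Subgroup.centralizer ({x₀} : Set G)), K.Normal ∧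
        (∃ a : ℕ, K.index = 2 ^ a) ∧ (∀ H : Subgroup ↥K, H.index ≠ 2) ∧
        (∀ P : Sylow 2 ↥K, ∃ m : ℕ, 1 ≤ m ∧
          Nonempty ((P : Subgroup ↥K) ≃* QuaternionGroup (2 ^ m)))) ∧
      (∀ Z₀ : Subgroup ↥(Subgroup.centralizer ({x₀} : Set G)),
        Z₀ ≤ ((Subgroup.center (R : Subgroup ↥(Subgroup.centralizer ({x₀} : Set G)))).map
          (R : Subgroup ↥(Subgroup.centralizer ({x₀} : Set G))).subtype) →
        Cfsg.IsWeaklyClosed Z₀ (R : Subgroup ↥(Subgroup.centralizer ({x₀} : Set G)))) := by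
  set C := Subgroup.centralizer ({x₀} : Set G) with hC
  have hle : (S : Subgroup G) ≤ C := by
    intro s hs
    exact Subgroup.mem_centralizer_singleton_iff.2 (hxZ s hs)
  have hxC : x₀ ∈ C := hle hxS
  set R : Sylow 2 ↥C := S.subtype hle with hR
  have eR : ↥(R : Subgroup ↥C) ≃* ↥(S : Subgroup G) := Subgroup.subgroupOfEquivOfLe hle
  have hRQ : Cfsg.IsQuasiDihedral ↥(R : Subgroup ↥C) := isQuasiDihedral_of_mulEquiv eR.symm hS
  obtain ⟨n, x, y, hq⟩ := exists_QD hS
  obtain ⟨n', x', y', hq'⟩ := exists_QD hRQ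
  -- the involution `x₀`, inside `C`
  set xb : ↥C := ⟨x₀, hxC⟩ with hxb
  have hxbZ : ∀ c : ↥C, c * xb = xb * c := by
    intro c
    apply Subtype.ext
    exact Subgroup.mem_centralizer_singleton_iff.1 c.2
  have hxbR : xb ∈ (R : Subgroup ↥C) := hxS
  have hxbo : orderOf xb = 2 := by
    rw [← Subgroup.orderOf_coe]; exact hx
  -- elements of the centre of `R`
  have hcen : ∀ ρ : ↥(R : Subgroup ↥C), ρ ∈ Subgroup.center ↥(R : Subgroup ↥C) →
      ρ = 1 ∨ ρ = r n' x' (hh n') := by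
    intro ρ hρ
    rw [hq'.center_eq] at hρ
    exact mem_zpowers_two hq'.orderOf_rh hρ
  have hxbz : xb = ((r n' x' (hh n') : ↥(R : Subgroup ↥C)) : ↥C) := by
    have h1 : (⟨xb, hxbR⟩ : ↥(R : Subgroup ↥C)) ∈ Subgroup.center ↥(R : Subgroup ↥C) := by
      rw [Subgroup.mem_center_iff]
      intro ρ
      apply Subtype.ext
      exact hxbZ ρ
    rcases hcen _ h1 with h | h
    · exfalso
      have h2 : xb = 1 := congrArg Subtype.val h
      rw [h2, orderOf_one] at hxbo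
      omega
    · exact congrArg Subtype.val h
  -- no involution outside `⟨x'⟩` fuses into `⟨x'⟩`
  have hE : ∀ i, Even i → ∀ (g : ↥C) (j : ZMod (2 ^ n')),
      g * ((s n' x' y' i : ↥(R : Subgroup ↥C)) : ↥C) * g⁻¹ ≠
        ((r n' x' j : ↥(R : Subgroup ↥C)) : ↥C) := by
    intro i hi g j hgj
    have hou : orderOf ((s n' x' y' i : ↥(R : Subgroup ↥C)) : ↥C) = 2 := by
      rw [Subgroup.orderOf_coe]; exact hq'.orderOf_s_even hi
    have hoj : orderOf (r n' x' j) = 2 := by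
      rw [← Subgroup.orderOf_coe, ← hgj, orderOf_conj_eq', hou]
    have hjz : r n' x' j = r n' x' (hh n') := by
      rcases hq'.involution_cases hoj with h | ⟨i', _, h⟩
      · exact h
      · exact absurd h.symm (hq'.s_ne_r _ _)
    rw [hjz, ← hxbz] at hgj
    have h1 : ((s n' x' y' i : ↥(R : Subgroup ↥C)) : ↥C) = xb := by
      have : ((s n' x' y' i : ↥(R : Subgroup ↥C)) : ↥C) =
          g⁻¹ * (g * ((s n' x' y' i : ↥(R : Subgroup ↥C)) : ↥C) * g⁻¹) * g := by group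
      rw [this, hgj, mul_assoc, ← hxbZ g, ← mul_assoc, inv_mul_cancel, one_mul]
    rw [hxbz] at h1
    exact hq'.s_ne_r _ _ (Subtype.ext h1)
  obtain ⟨K, hKn, hK2, hKQ⟩ := exists_K_Q R hq' hE
  haveI := hKn
  -- a quaternion subgroup of order 8
  set QC' : Subgroup ↥C := (Q8 hq').map (R : Subgroup ↥C).subtype with hQC'
  have hQR : QC' ≤ (R : Subgroup ↥C) := Subgroup.map_subtype_le _
  obtain ⟨e0⟩ := Q8_quat hq'
  have eQC : ↥QC' ≃* QuaternionGroup 2 :=
    ((Q8 hq').equivMapOfInjective _ (Subgroup.subtype_injective _)).symm.trans e0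
  have hxbQ : xb ∈ QC' := by
    rw [hxbz]
    refine ⟨_, (r_mem_Q8 hq' _).2 ?_, rfl⟩
    have := two_hh (n := n') hq'.n1
    linear_combination 2 * this
  have hb : (QC QC').relIndex (Subgroup.normalizer (QC' : Set ↥C)) = 6 := by
    rcases quat_relIndex_cases (R : Subgroup ↥C) hq' QC' hQR eQC with h | h
    · exfalso
      set Q' : Subgroup G := QC'.map C.subtype with hQ'
      have hQ'S : Q' ≤ (S : Subgroup G) := by
        rintro _ ⟨q, hq1, rfl⟩
        exact hQR hq1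
      have eQ' : ↥Q' ≃* QuaternionGroup 2 :=
        (QC'.equivMapOfInjective _ (Subgroup.subtype_injective _)).symm.trans eQC
      have hx₀Q : x₀ ∈ Q' := ⟨xb, hxbQ, rfl⟩
      obtain ⟨z₀, hz₀⟩ := quat_unique_invol Q' eQ'
      have hN : Subgroup.normalizer ((Q' : Subgroup G) : Set G) ≤ C := by
        intro g hg
        have h1 : g * x₀ * g⁻¹ ∈ Q' := (Subgroup.mem_normalizer_iff.mp hg _).mp hx₀Q
        have h2 := hz₀ _ h1 (by rw [orderOf_conj_eq', hx])
        have h3 := hz₀ _ hx₀Q hx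
        apply Subgroup.mem_centralizer_singleton_iff.2
        have h4 : g * x₀ * g⁻¹ = x₀ := by rw [h2, h3]
        calc g * x₀ = (g * x₀ * g⁻¹) * g := by group
          _ = x₀ * g := by rw [h4]
      have h5 := relIndex_QC_map_subtype C QC' hN
      rw [h, b_six S hq hG Q' hQ'S eQ'] at h5
      omega
    · exact h
  refine ⟨R, ⟨eR⟩, ⟨K, hKn, ⟨1, by rw [hK2, pow_one]⟩, ?_, ?_⟩, ?_⟩
  · exact no_index_two_K_Q R hq' K hK2 hKQ QC' hQR eQC hb
  · intro P
    obtain ⟨e1⟩ := sylow_equiv_of_inf R K hq'.Q hKQ P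
    obtain ⟨e2⟩ := hq'.Q_iso
    exact ⟨n' - 2, by have := hq'.hn; omega, ⟨e1.trans e2⟩⟩
  · intro Z₀ hZ
    refine ⟨hZ.trans (Subgroup.map_subtype_le _), ?_⟩
    intro g _
    have hfix : ∀ v ∈ Z₀, g * v * g⁻¹ = v := by
      intro v hv
      obtain ⟨ρ, hρ, rfl⟩ := hZ hv
      have hρ : ρ ∈ Subgroup.center ↥(R : Subgroup ↥C) := hρ
      rcases hcen ρ hρ with h | h
      · rw [h]; simp
      · rw [h]
        have h' : ((R : Subgroup ↥C).subtype (r n' x' (hh n'))) = xb := hxbz.symm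
        rw [h', hxbZ g]; group
    ext w
    constructor
    · rintro ⟨v, hv, rfl⟩
      show g * v * g⁻¹ ∈ Z₀
      rw [hfix v hv]; exact hv
    · intro hw'
      exact ⟨w, hw', hfix w hw'⟩

/-- The statement for a quasi-dihedral Sylow 2-subgroup. -/
theorem qd_centralizer (S : Sylow 2 G) (hS : Cfsg.IsQuasiDihedral ↥(S : Subgroup G))
    (hG : ∀ H : Subgroup G, H.index ≠ 2) (x₀ : G) (hx : orderOf x₀ = 2) :
    ∃ R : Sylow 2 ↥(Subgroup.centralizer ({x₀} : Set G)),
      Nat.card ↥(R : Subgroup ↥(Subgroup.centralizer ({x₀} : Set G))) =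
        Nat.card ↥(S : Subgroup G) ∧
      (∃ K : Subgroup ↥(Subgroup.centralizer ({x₀} : Set G)), K.Normal ∧
        (∃ a : ℕ, K.index = 2 ^ a) ∧ (∀ H : Subgroup ↥K, H.index ≠ 2) ∧
        (∀ P : Sylow 2 ↥K, ∃ m : ℕ, 1 ≤ m ∧
          Nonempty ((P : Subgroup ↥K) ≃* QuaternionGroup (2 ^ m)))) ∧
      (∀ Z₀ : Subgroup ↥(Subgroup.centralizer ({x₀} : Set G)),
        Z₀ ≤ ((Subgroup.center (R : Subgroup ↥(Subgroup.centralizer ({x₀} : Set G)))).map
          (R : Subgroup ↥(Subgroup.centralizer ({x₀} : Set G))).subtype) →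
        Cfsg.IsWeaklyClosed Z₀ (R : Subgroup ↥(Subgroup.centralizer ({x₀} : Set G)))) := by
  obtain ⟨n, x, y, hq⟩ := exists_QD hS
  obtain ⟨g, hg⟩ := isConj_iff.1 (all_invol_conj S hq hG x₀ hx)
  have htS : ((r n x (hh n) : ↥(S : Subgroup G)) : G) ∈ (S : Subgroup G) :=
    (r n x (hh n) : ↥(S : Subgroup G)).2
  have htZ : ∀ s ∈ (S : Subgroup G),
      s * ((r n x (hh n) : ↥(S : Subgroup G)) : G) =
        ((r n x (hh n) : ↥(S : Subgroup G)) : G) * s := by
    intro s hs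
    have := Subgroup.mem_center_iff.1 hq.rh_mem_center ⟨s, hs⟩
    exact congrArg Subtype.val this
  obtain ⟨S', ⟨e⟩, hxS', hxZ'⟩ := exists_sylow_central S _ htS htZ g
  rw [hg] at hxS' hxZ'
  obtain ⟨R, ⟨eR⟩, hK, hZ⟩ := centralizer_of_central S' (isQuasiDihedral_of_mulEquiv e hS) hG
    x₀ hx hxS' hxZ'
  exact ⟨R, by rw [Nat.card_congr eR.toEquiv, ← Nat.card_congr e.toEquiv], hK, hZ⟩

end Cent

end Cfsg.Agent.Lib.Helper2.QDFusE
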