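import Mathlib
import Cfsg.Agent.Lib.Helper7.LB2

set_option autoImplicit false
set_option linter.style.haveILetI false

/-!
A perfect subnormal subgroup is normalized by every normal `p`-subgroup.
-/

namespace Cfsg.Agent.Lib.Helper2.QT

variable {X : Type*} [Group X]

/-- If `X = K P` with `P` a normal `p`-subgroup and `K` perfect and subnormal, then `K` is normal. -/
theorem normal_of_isSubnormal_perfect_sup_eq_top {p : ℕ} [Fact p.Prime] [Finite X]
    {K P : Subgroup X} (hK : K.IsSubnormal) (hperf : ⁅K, K⁆ = K) (hP : IsPGroup p P)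
    [hPn : P.Normal] (hKP : K ⊔ P = ⊤) : K.Normal := by
  set M := Subgroup.normalClosure (K : Set X) with hM
  have hMn : M.Normal := Subgroup.normalClosure_normal
  have hKM : K ≤ M := Subgroup.le_normalClosure
  have hMperf : ⁅M, M⁆ = M := by
    apply le_antisymm (Subgroup.commutator_le_left M M)
    haveI : (⁅M, M⁆).Normal := Subgroup.commutator_normal M M
    apply Subgroup.normalClosure_le_normal
    have h1 : ⁅K, K⁆ ≤ ⁅M, M⁆ := Subgroup.commutator_mono hKM hKM
    rw [hperf] at h1
    exact h1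
  by_contra hKn
  have hne : K ≠ M := fun h => hKn (h ▸ hMn)
  have hsub : (K.subgroupOf M).IsSubnormal := hK.subgroupOf
  have hne' : K.subgroupOf M ≠ ⊤ := by
    intro h
    rw [Subgroup.subgroupOf_eq_top] at h
    exact hne (le_antisymm hKM h)
  obtain ⟨M', hM'n, hKM', hM'lt⟩ := hsub.exists_normal_and_le_and_lt_top_of_ne hne'
  haveI := hM'n
  have hq : IsPGroup p (↥M ⧸ M') := by
    intro x
    obtain ⟨m, rfl⟩ := QuotientGroup.mk_surjective x
    have hm : (m : X) ∈ K ⊔ P := by rw [hKP]; trivial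
    have hm' : (m : X) ∈ ((K ⊔ P : Subgroup X) : Set X) := hm
    rw [Subgroup.mul_normal K P] at hm'
    obtain ⟨k, hk, u, hu, hku⟩ := Set.mem_mul.1 hm'
    have hkM : k ∈ M := hKM hk
    have huM : u ∈ M := by
      have : u = k⁻¹ * (m : X) := by rw [← hku]; group
      rw [this]
      exact M.mul_mem (M.inv_mem hkM) m.2
    obtain ⟨n, hn⟩ := hP ⟨u, hu⟩
    have hun : u ^ (p ^ n) = 1 := by
      have := congrArg Subtype.val hn
      simpa using this
    refine ⟨n, ?_⟩
    have hmk : m = ⟨k, hkM⟩ * ⟨u, huM⟩ := Subtype.ext hku.symm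
    have hk1 : ((⟨k, hkM⟩ : ↥M) : ↥M ⧸ M') = 1 := by
      rw [QuotientGroup.eq_one_iff]
      exact hKM' (Subgroup.mem_subgroupOf.2 hk)
    rw [hmk, QuotientGroup.mk_mul, hk1, one_mul, ← QuotientGroup.mk_pow]
    rw [QuotientGroup.eq_one_iff]
    have : (⟨u, huM⟩ : ↥M) ^ (p ^ n) = 1 := Subtype.ext (by simpa using hun)
    rw [this]
    exact M'.one_mem
  haveI : Finite (↥M ⧸ M') := inferInstance
  haveI : Group.IsNilpotent (↥M ⧸ M') := hq.isNilpotent
  haveI : Group.IsSolvable (↥M ⧸ M') := inferInstance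
  have htop := Cfsg.Agent.Lib.Helper7.LB.top_perfect_of_perfect hMperf
  have hall : ∀ m : ↥M, m ∈ M' := by
    intro m
    have := Cfsg.Agent.Lib.Helper7.LB.perfect_map_eq_bot_of_solvable htop (QuotientGroup.mk' M') m
    rwa [QuotientGroup.mk'_apply, QuotientGroup.eq_one_iff] at this
  exact hM'lt.ne (eq_top_iff.2 (fun m _ => hall m))

/-- A perfect subnormal subgroup is normalized by every normal `p`-subgroup. -/
theorem le_normalizer_of_isSubnormal_perfect {p : ℕ} [Fact p.Prime] [Finite X]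
    {K P : Subgroup X} (hK : K.IsSubnormal) (hperf : ⁅K, K⁆ = K) (hP : IsPGroup p P)
    [hPn : P.Normal] : P ≤ Subgroup.normalizer (K : Set X) := by
  set Y := K ⊔ P with hY
  have hKY : K ≤ Y := le_sup_left
  have hPY : P ≤ Y := le_sup_right
  have h1 : (K.subgroupOf Y).IsSubnormal := hK.subgroupOf
  have h2 : ⁅K.subgroupOf Y, K.subgroupOf Y⁆ = K.subgroupOf Y := by
    apply Subgroup.map_injective Y.subtype_injective
    rw [Subgroup.map_commutator, Subgroup.map_subgroupOf_eq_of_le hKY, hperf]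
  have h3 : IsPGroup p (P.subgroupOf Y) := hP.comap_subtype
  haveI : (P.subgroupOf Y).Normal := inferInstance
  have h4 : K.subgroupOf Y ⊔ P.subgroupOf Y = ⊤ := by
    rw [← Subgroup.subgroupOf_sup hKY hPY, Subgroup.subgroupOf_self]
  have h5 := normal_of_isSubnormal_perfect_sup_eq_top h1 h2 h3 h4
  exact hPY.trans ((Subgroup.normal_subgroupOf_iff_le_normalizer hKY).1 h5)

end Cfsg.Agent.Lib.Helper2.QT
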