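import Mathlib
import Cfsg.Prelude.Def_QuasithinSetup
import Cfsg.Agent.Lib.Helper2.QTW
import Cfsg.Agent.Lib.Helper7.LB3
import Cfsg.Agent.Lib.Helper7.Subnormal
import Cfsg.Agent.Lib.Helper8.CharP3
import Cfsg.Agent.Lib.Helper1.Coprime

set_option autoImplicit false
set_option linter.style.haveILetI false

/-!
Tools for the faithful members `ℒ_f(G, T)`: characteristic 2 of overgroups of a Sylow 2-subgroup in a
group of even characteristic, inheritance by subnormal subgroups, and `Ω₁(Z(O₂(X)))`.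
-/

namespace Cfsg.Agent.Lib.Helper2.QT

open Cfsg
open Cfsg.Agent.Lib.Helper7 (pCoreIn CharPIn)

variable {G : Type*} [Group G]

/-- `Ω₁(Z(O₂(X)))` as a subgroup of the ambient group. -/
def zOmega (X : Subgroup G) : Subgroup G :=
  omegaOne 2 (pCoreIn 2 X ⊓ Subgroup.centralizer (pCoreIn 2 X : Set G))

theorem moduleV_eq (X : Subgroup G) : moduleV X = ⁅zOmega X, X⁆ := rfl

theorem zOmega_le (X : Subgroup G) :
    zOmega X ≤ pCoreIn 2 X ⊓ Subgroup.centralizer (pCoreIn 2 X : Set G) := by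
  unfold zOmega omegaOne
  rw [Subgroup.closure_le]
  rintro x ⟨hx, _⟩
  exact hx

theorem mem_zOmega {X : Subgroup G} {x : G} (h1 : x ∈ pCoreIn 2 X)
    (h2 : x ∈ Subgroup.centralizer (pCoreIn 2 X : Set G)) (h3 : x ^ 2 = 1) : x ∈ zOmega X :=
  Subgroup.subset_closure ⟨⟨h1, h2⟩, h3⟩

theorem zOmega_le_pCoreIn (X : Subgroup G) : zOmega X ≤ pCoreIn 2 X :=
  (zOmega_le X).trans inf_le_left

theorem zOmega_le_centralizer (X : Subgroup G) :
    zOmega X ≤ Subgroup.centralizer (pCoreIn 2 X : Set G) :=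
  (zOmega_le X).trans inf_le_right

theorem zOmega_isPGroup (X : Subgroup G) : IsPGroup 2 (zOmega X) :=
  (Cfsg.Agent.Lib.Helper7.pCoreIn_isPGroup 2 X).to_le (zOmega_le_pCoreIn X)

theorem zOmega_sq {X : Subgroup G} {z : G} (hz : z ∈ zOmega X) : z ^ 2 = 1 := by
  have hcomm : ∀ a ∈ zOmega X, ∀ b ∈ zOmega X, a * b = b * a := by
    intro a ha b hb
    have h1 := zOmega_le_centralizer X ha
    have h2 := zOmega_le_pCoreIn X hb
    exact (Subgroup.mem_centralizer_iff.1 h1 b h2).symm
  unfold zOmega omegaOne at hz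
  induction hz using Subgroup.closure_induction'' with
  | one => simp
  | mem x hx => exact hx.2
  | inv_mem x hx => rw [inv_pow, hx.2, inv_one]
  | mul x y hx hy hx2 hy2 =>
    have hx' : x ∈ zOmega X := hx
    have hy' : y ∈ zOmega X := hy
    have hc := hcomm x hx' y hy'
    have : Commute x y := hc
    rw [this.mul_pow, hx2, hy2, one_mul]

theorem normalizer_le_normalizer_zOmega [Finite G] (X : Subgroup G) :
    Subgroup.normalizer (X : Set G) ≤ Subgroup.normalizer (zOmega X : Set G) := by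
  have key : ∀ g ∈ Subgroup.normalizer (X : Set G), ∀ z ∈ zOmega X, g * z * g⁻¹ ∈ zOmega X := by
    intro g hg z hz
    have hgQ : g ∈ Subgroup.normalizer (pCoreIn 2 X : Set G) :=
      Cfsg.Agent.Lib.Helper7.normalizer_le_normalizer_pCoreIn 2 X hg
    have hgC : g ∈ Subgroup.normalizer
        ((Subgroup.centralizer (pCoreIn 2 X : Set G) : Subgroup G) : Set G) :=
      Cfsg.Agent.Lib.Helper7.normalizer_le_normalizer_centralizer _ hgQ
    unfold zOmega omegaOne at hz ⊢
    induction hz using Subgroup.closure_induction'' with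
    | one => simp
    | mem x hx =>
      apply Subgroup.subset_closure
      refine ⟨⟨?_, ?_⟩, ?_⟩
      · exact (Subgroup.mem_normalizer_iff.1 hgQ x).1 hx.1.1
      · exact (Subgroup.mem_normalizer_iff.1 hgC x).1 hx.1.2
      · rw [conj_pow, hx.2]; simp
    | inv_mem x hx =>
      apply Subgroup.subset_closure
      refine ⟨⟨?_, ?_⟩, ?_⟩
      · exact (Subgroup.mem_normalizer_iff.1 hgQ x⁻¹).1 (Subgroup.inv_mem _ hx.1.1)
      · exact (Subgroup.mem_normalizer_iff.1 hgC x⁻¹).1 (Subgroup.inv_mem _ hx.1.2)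
      · rw [conj_pow, inv_pow, hx.2]; simp
    | mul x y _ _ hx2 hy2 =>
      have : g * (x * y) * g⁻¹ = (g * x * g⁻¹) * (g * y * g⁻¹) := by group
      rw [this]
      exact Subgroup.mul_mem _ hx2 hy2
  intro g hg
  rw [Subgroup.mem_normalizer_iff]
  intro z
  constructor
  · exact key g hg z
  · intro h
    have hg' : g⁻¹ ∈ Subgroup.normalizer (X : Set G) := Subgroup.inv_mem _ hg
    have := key g⁻¹ hg' _ h
    have e : g⁻¹ * (g * z * g⁻¹) * g⁻¹⁻¹ = z := by group
    rwa [e] at this

/-- A perfect finite group is generated by its elements of odd order. -/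
theorem oddGenerated_eq_of_perfect [Finite G] {K : Subgroup G} (hK : ⁅K, K⁆ = K) :
    oddGenerated K = K := by
  apply le_antisymm
  · unfold oddGenerated
    rw [Subgroup.closure_le]
    rintro x ⟨hx, _⟩
    exact hx
  · haveI : Fact (Nat.Prime 2) := ⟨Nat.prime_two⟩
    apply Cfsg.Agent.Lib.Helper7.LB.perfect_le_of_pprime_mem hK 2
    intro w hw m hm hwm
    apply Subgroup.subset_closure
    refine ⟨hw, ?_⟩
    have h1 : orderOf w ∣ m := orderOf_dvd_of_pow_eq_one hwm
    have h2 : Odd m := Nat.coprime_two_right.1 hm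
    exact Odd.of_dvd_nat h2 h1

end Cfsg.Agent.Lib.Helper2.QT
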