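import Mathlib
import Cfsg.Agent.Lib.Helper2.QTX

set_option autoImplicit false
set_option linter.style.haveILetI false

/-!
Characteristic 2 of overgroups of a Sylow 2-subgroup, inheritance along subnormal chains, and the
behaviour of `O₂` with respect to perfect subnormal subgroups.
-/

namespace Cfsg.Agent.Lib.Helper2.QT

open Cfsg
open Cfsg.Agent.Lib.Helper7 (pCoreIn CharPIn)

variable {G : Type*} [Group G]

/-- In a group of even characteristic, every subgroup `H` with `O₂(H) ≠ 1` containing a Sylow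
2-subgroup has characteristic 2. -/
theorem charPIn_of_evenChar [Finite G] (hE : IsOfEvenCharacteristic G) (T : Sylow 2 G)
    {H : Subgroup G} (hTH : (T : Subgroup G) ≤ H) (hne : pCoreIn 2 H ≠ ⊥) : CharPIn 2 H := by
  haveI : Fact (Nat.Prime 2) := ⟨Nat.prime_two⟩
  set M := Subgroup.normalizer (pCoreIn 2 H : Set G) with hM
  have hHM : H ≤ M := Cfsg.Agent.Lib.Helper7.le_normalizer_pCoreIn 2 H
  have hTM : (T : Subgroup G) ≤ M := hTH.trans hHM
  have hloc : IsTwoLocal M := ⟨pCoreIn 2 H, Cfsg.Agent.Lib.Helper7.pCoreIn_isPGroup 2 H, hne, rfl⟩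
  have hMc : CharPIn 2 M := by
    rw [Cfsg.Agent.Lib.Helper7.charPIn_iff]
    exact hE M hloc ⟨T, hTM⟩
  have hRT : pCoreIn 2 M ≤ (T : Subgroup G) := by
    have h := Cfsg.Agent.Lib.Helper7.pCoreIn_le_sylow (p := 2) (N := M) (T.subtype hTM)
    rw [Sylow.coe_subtype, Subgroup.map_subgroupOf_eq_of_le hTM] at h
    exact h
  apply Cfsg.Agent.Lib.Helper7.charPIn_of_normalized (pCoreIn 2 M) H
    (Cfsg.Agent.Lib.Helper7.pCoreIn_isPGroup 2 M)
  · exact hHM.trans (Cfsg.Agent.Lib.Helper7.le_normalizer_pCoreIn 2 M)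
  · exact (hRT.trans hTH).trans Subgroup.le_normalizer
  · intro x hx
    exact hMc ⟨hHM hx.1, hx.2⟩

/-- Characteristic `p` passes to subnormal subgroups. -/
theorem charPIn_of_isSubnormal [Finite G] {p : ℕ} [Fact p.Prime] {H : Subgroup G}
    (hH : CharPIn p H) {J : Subgroup ↥H} (hJ : J.IsSubnormal) : CharPIn p (J.map H.subtype) := by
  induction hJ with
  | top =>
    rw [← MonoidHom.range_eq_map, Subgroup.range_subtype]
    exact hH
  | step J J1 hle _ hnorm ih =>
    apply Cfsg.Agent.Lib.Helper8.charPIn_of_normal p (Subgroup.map_mono hle) _ ih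
    have h1 : J1 ≤ Subgroup.normalizer (J : Set ↥H) :=
      (Subgroup.normal_subgroupOf_iff_le_normalizer hle).1 hnorm
    exact (Subgroup.map_mono h1).trans (Subgroup.le_normalizer_map _)

theorem charPIn_of_subgroupOf_isSubnormal [Finite G] {p : ℕ} [Fact p.Prime] {H K : Subgroup G}
    (hKH : K ≤ H) (hH : CharPIn p H) (hK : (K.subgroupOf H).IsSubnormal) : CharPIn p K := by
  have := charPIn_of_isSubnormal hH hK
  rwa [Subgroup.map_subgroupOf_eq_of_le hKH] at this

theorem perfect_subgroupOf {H K : Subgroup G} (hKH : K ≤ H) (hperf : ⁅K, K⁆ = K) :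
    ⁅K.subgroupOf H, K.subgroupOf H⁆ = K.subgroupOf H := by
  apply Subgroup.map_injective H.subtype_injective
  rw [Subgroup.map_commutator, Subgroup.map_subgroupOf_eq_of_le hKH, hperf]

/-- `O_p(H)` normalizes every perfect subnormal subgroup of `H`. -/
theorem pCoreIn_le_normalizer_of_perfect [Finite G] {p : ℕ} [Fact p.Prime] {H K : Subgroup G}
    (hKH : K ≤ H) (hK : (K.subgroupOf H).IsSubnormal) (hperf : ⁅K, K⁆ = K) :
    pCoreIn p H ≤ Subgroup.normalizer (K : Set G) := by
  haveI : (pCore p ↥H).Normal := Cfsg.Agent.Lib.Helper7.pCore_normal p ↥H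
  have h1 : pCore p ↥H ≤ Subgroup.normalizer ((K.subgroupOf H : Subgroup ↥H) : Set ↥H) :=
    le_normalizer_of_isSubnormal_perfect hK (perfect_subgroupOf hKH hperf)
      (Cfsg.Agent.Lib.Helper7.pCore_isPGroup p ↥H)
  have h2 := (Subgroup.map_mono (f := H.subtype) h1).trans (Subgroup.le_normalizer_map _)
  rwa [Subgroup.map_subgroupOf_eq_of_le hKH] at h2

/-- `O_p(K) ≤ O_p(H)` for `K` subnormal in `H`. -/
theorem pCoreIn_le_pCoreIn_of_isSubnormal [Finite G] {p : ℕ} [Fact p.Prime] {H K : Subgroup G}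
    (hKH : K ≤ H) (hK : (K.subgroupOf H).IsSubnormal) : pCoreIn p K ≤ pCoreIn p H := by
  have hQK : pCoreIn p K ≤ K := Cfsg.Agent.Lib.Helper7.pCoreIn_le p K
  have hle : (pCoreIn p K).subgroupOf H ≤ K.subgroupOf H := by
    intro x hx
    exact Subgroup.mem_subgroupOf.2 (hQK (Subgroup.mem_subgroupOf.1 hx))
  have hn : (((pCoreIn p K).subgroupOf H).subgroupOf (K.subgroupOf H)).Normal := by
    rw [Subgroup.normal_subgroupOf_iff_le_normalizer hle]
    intro k hk
    have hk' : (k : G) ∈ Subgroup.normalizer (pCoreIn p K : Set G) :=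
      Cfsg.Agent.Lib.Helper7.le_normalizer_pCoreIn p K (Subgroup.mem_subgroupOf.1 hk)
    rw [Subgroup.mem_normalizer_iff]
    intro z
    rw [Subgroup.mem_subgroupOf, Subgroup.mem_subgroupOf]
    have := (Subgroup.mem_normalizer_iff.1 hk') (z : G)
    simpa using this
  have hsub : ((pCoreIn p K).subgroupOf H).IsSubnormal :=
    Subgroup.IsSubnormal.trans hle hn.isSubnormal hK
  have hp : IsPGroup p ((pCoreIn p K).subgroupOf H) :=
    (Cfsg.Agent.Lib.Helper7.pCoreIn_isPGroup p K).comap_subtype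
  have h3 := Cfsg.Agent.Lib.Helper7.subnormal_pGroup_le_pCore hsub hp
  intro x hx
  have hxH : x ∈ H := hKH (hQK hx)
  rw [Cfsg.Agent.Lib.Helper7.mem_pCoreIn_iff hxH]
  exact h3 (Subgroup.mem_subgroupOf.2 hx)

end Cfsg.Agent.Lib.Helper2.QT
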