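import Mathlib
import Cfsg.Agent.Lib.Helper2.QTY

set_option autoImplicit false
set_option linter.style.haveILetI false

/-!
The module `V(Y) = [Ω₁(Z(O₂(Y))), Y]` and perfect subnormal subgroups of groups of characteristic 2:
if `K` is perfect and subnormal in `H` (of characteristic 2) and `K` centralizes `Ω₁(Z(O₂(K)))`,
then `K` centralizes `Ω₁(Z(O₂(H)))`, and conversely (Thompson's `A × B` lemma).
-/

namespace Cfsg.Agent.Lib.Helper2.QT

open Cfsg
open Cfsg.Agent.Lib.Helper7 (pCoreIn CharPIn)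
open scoped commutatorElement

variable {G : Type*} [Group G] [Finite G]

theorem commutator_zOmega_le {H K : Subgroup G} (hKH : K ≤ H)
    (hK : (K.subgroupOf H).IsSubnormal) (hperf : ⁅K, K⁆ = K) : ⁅zOmega H, K⁆ ≤ zOmega K := by
  haveI : Fact (Nat.Prime 2) := ⟨Nat.prime_two⟩
  have hQN : pCoreIn 2 H ≤ Subgroup.normalizer (K : Set G) :=
    pCoreIn_le_normalizer_of_perfect hKH hK hperf
  have hQle : pCoreIn 2 K ≤ pCoreIn 2 H := pCoreIn_le_pCoreIn_of_isSubnormal hKH hK
  have hHW : H ≤ Subgroup.normalizer (zOmega H : Set G) :=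
    Subgroup.le_normalizer.trans (normalizer_le_normalizer_zOmega H)
  rw [Subgroup.commutator_le]
  intro w hw k hk
  have hc : ⁅w, k⁆ = w * k * w⁻¹ * k⁻¹ := commutatorElement_def w k
  have hcK : ⁅w, k⁆ ∈ K := by
    rw [hc]
    have hwn := hQN (zOmega_le_pCoreIn H hw)
    have := (Subgroup.mem_normalizer_iff.1 hwn k).1 hk
    exact K.mul_mem this (K.inv_mem hk)
  have hcW : ⁅w, k⁆ ∈ zOmega H := by
    have hkn := hHW (hKH hk)
    have h1 : k * w⁻¹ * k⁻¹ ∈ zOmega H :=
      (Subgroup.mem_normalizer_iff.1 hkn w⁻¹).1 ((zOmega H).inv_mem hw)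
    have : ⁅w, k⁆ = w * (k * w⁻¹ * k⁻¹) := by rw [hc]; group
    rw [this]
    exact (zOmega H).mul_mem hw h1
  have hN : zOmega H ⊓ K ≤ pCoreIn 2 K := by
    apply Cfsg.Agent.Lib.Helper7.le_pCoreIn inf_le_right ((zOmega_isPGroup H).to_le inf_le_left)
    exact Cfsg.Agent.Lib.Helper1.le_normalizer_inf (hKH.trans hHW) Subgroup.le_normalizer
  apply mem_zOmega (hN ⟨hcW, hcK⟩)
  · have h1 : ⁅w, k⁆ ∈ Subgroup.centralizer (pCoreIn 2 H : Set G) := zOmega_le_centralizer H hcW
    exact Subgroup.centralizer_le (by exact_mod_cast hQle) h1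
  · exact zOmega_sq hcW

theorem commutator_zOmega_eq_bot {H K : Subgroup G} (hKH : K ≤ H)
    (hK : (K.subgroupOf H).IsSubnormal) (hperf : ⁅K, K⁆ = K) (hV : ⁅zOmega K, K⁆ = ⊥) :
    ⁅zOmega H, K⁆ = ⊥ := by
  haveI : Fact (Nat.Prime 2) := ⟨Nat.prime_two⟩
  have h3 := commutator_zOmega_le hKH hK hperf
  have hHW : H ≤ Subgroup.normalizer (zOmega H : Set G) :=
    Subgroup.le_normalizer.trans (normalizer_le_normalizer_zOmega H)
  have hKc : oddGenerated K ≤ Subgroup.centralizer (zOmega H : Set G) := by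
    unfold oddGenerated
    rw [Subgroup.closure_le]
    rintro y ⟨hyK, hyodd⟩
    have hA : (Nat.card (Subgroup.zpowers y)).Coprime 2 := by
      rw [Nat.card_zpowers]; exact Nat.coprime_two_right.2 hyodd
    have hAK : Subgroup.zpowers y ≤ K := (Subgroup.zpowers_le).2 hyK
    have hAR : Subgroup.zpowers y ≤ Subgroup.normalizer (zOmega H : Set G) :=
      hAK.trans (hKH.trans hHW)
    have hq : ⁅⁅zOmega H, Subgroup.zpowers y⁆, Subgroup.zpowers y⁆ = ⊥ := by
      rw [eq_bot_iff, ← hV]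
      exact Subgroup.commutator_mono ((Subgroup.commutator_mono le_rfl hAK).trans h3) hAK
    have h4 := Cfsg.Agent.Lib.Helper7.commutator_eq_bot_of_quadratic_coprime (zOmega H)
      (Subgroup.zpowers y) (zOmega_isPGroup H) hA hAR hq
    rw [Subgroup.commutator_eq_bot_iff_le_centralizer] at h4
    rw [SetLike.mem_coe, Subgroup.mem_centralizer_iff]
    intro w hw
    have h5 := h4 hw
    exact (Subgroup.mem_centralizer_iff.1 h5 y (Subgroup.mem_zpowers y)).symm
  rw [oddGenerated_eq_of_perfect hperf] at hKc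
  rw [Subgroup.commutator_comm, Subgroup.commutator_eq_bot_iff_le_centralizer]
  exact hKc

theorem zOmega_mono {H H' : Subgroup G} (hle : H' ≤ H) (hQ : pCoreIn 2 H ≤ H')
    (hH : CharPIn 2 H) : zOmega H' ≤ zOmega H := by
  have hQQ : pCoreIn 2 H ≤ pCoreIn 2 H' :=
    Cfsg.Agent.Lib.Helper7.le_pCoreIn hQ (Cfsg.Agent.Lib.Helper7.pCoreIn_isPGroup 2 H)
      (hle.trans (Cfsg.Agent.Lib.Helper7.le_normalizer_pCoreIn 2 H))
  have e : zOmega H' = Subgroup.closure {x : G | x ∈ (pCoreIn 2 H' ⊓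
      Subgroup.centralizer (pCoreIn 2 H' : Set G) : Subgroup G) ∧ x ^ 2 = 1} := rfl
  rw [e, Subgroup.closure_le]
  rintro x ⟨⟨hx1, hx2⟩, hx3⟩
  have hxH : x ∈ H := hle (Cfsg.Agent.Lib.Helper7.pCoreIn_le 2 H' hx1)
  have hxC : x ∈ Subgroup.centralizer (pCoreIn 2 H : Set G) :=
    Subgroup.centralizer_le (by exact_mod_cast hQQ) hx2
  have hxQ : x ∈ pCoreIn 2 H := hH ⟨hxH, hxC⟩
  exact mem_zOmega hxQ hxC hx3

theorem commutator_zOmega_self_eq_bot {H L : Subgroup G} (hLH : L ≤ H)
    (hL : (L.subgroupOf H).IsSubnormal) (hperf : ⁅L, L⁆ = L) (hH : CharPIn 2 H)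
    (hW : ⁅zOmega H, L⁆ = ⊥) : ⁅zOmega L, L⁆ = ⊥ := by
  haveI : Fact (Nat.Prime 2) := ⟨Nat.prime_two⟩
  set P := pCoreIn 2 H with hPdef
  have hPN : P ≤ Subgroup.normalizer (L : Set G) := pCoreIn_le_normalizer_of_perfect hLH hL hperf
  have hLZ : Subgroup.normalizer (L : Set G) ≤ Subgroup.normalizer (zOmega L : Set G) :=
    normalizer_le_normalizer_zOmega L
  have hHP : H ≤ Subgroup.normalizer (P : Set G) := Cfsg.Agent.Lib.Helper7.le_normalizer_pCoreIn 2 H
  have hPp : IsPGroup 2 P := Cfsg.Agent.Lib.Helper7.pCoreIn_isPGroup 2 H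
  have hPL : P ⊓ L ≤ pCoreIn 2 L :=
    Cfsg.Agent.Lib.Helper7.le_pCoreIn inf_le_right (hPp.to_le inf_le_left)
      (Cfsg.Agent.Lib.Helper1.le_normalizer_inf (hLH.trans hHP) Subgroup.le_normalizer)
  have hWc : zOmega H ≤ Subgroup.centralizer (L : Set G) := by
    rwa [Subgroup.commutator_eq_bot_iff_le_centralizer] at hW
  have hLc : oddGenerated L ≤ Subgroup.centralizer (zOmega L : Set G) := by
    unfold oddGenerated
    rw [Subgroup.closure_le]
    rintro y ⟨hyL, hyodd⟩
    set A := Subgroup.zpowers y with hAdef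
    have hAL : A ≤ L := (Subgroup.zpowers_le).2 hyL
    have hAcard : (Nat.card A).Coprime 2 := by
      rw [hAdef, Nat.card_zpowers]; exact Nat.coprime_two_right.2 hyodd
    set B := P ⊓ Subgroup.centralizer (A : Set G) with hBdef
    have hB : IsPGroup 2 B := hPp.to_le inf_le_left
    have hAB : ⁅A, B⁆ = ⊥ := by
      rw [Subgroup.commutator_comm, Subgroup.commutator_eq_bot_iff_le_centralizer]
      exact inf_le_right
    have hAQ : A ≤ Subgroup.normalizer (zOmega L : Set G) :=
      hAL.trans (Subgroup.le_normalizer.trans hLZ)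
    have hBQ : B ≤ Subgroup.normalizer (zOmega L : Set G) := inf_le_left.trans (hPN.trans hLZ)
    have hAP : A ≤ Subgroup.normalizer (P : Set G) := hAL.trans (hLH.trans hHP)
    have hcop : (Nat.card A).Coprime (Nat.card P) := by
      obtain ⟨k, hk⟩ := hPp.exists_card_eq
      rw [hk]; exact Nat.Coprime.pow_right k hAcard
    have hPsolv : Group.IsSolvable ↥P := by
      haveI := hPp.isNilpotent
      infer_instance
    have hdecomp : ⁅P, A⁆ ⊔ (P ⊓ Subgroup.centralizer (A : Set G)) = P :=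
      Cfsg.Agent.Lib.Helper1.coprime_commutator_sup_centralizer A P hAP hcop (Or.inr hPsolv)
    have hPA : ⁅P, A⁆ ≤ pCoreIn 2 L := by
      refine le_trans (le_inf ?_ ?_) hPL
      · exact Subgroup.le_normalizer_iff_commutator_le_left.mp hAP
      · exact (Subgroup.commutator_mono le_rfl hAL).trans
          (Subgroup.le_normalizer_iff_commutator_le_right.mp hPN)
    have hC : zOmega L ⊓ Subgroup.centralizer (B : Set G) ≤ Subgroup.centralizer (A : Set G) := by
      rintro q ⟨hqZ, hqB⟩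
      have hqcL : q ∈ Subgroup.centralizer (pCoreIn 2 L : Set G) := zOmega_le_centralizer L hqZ
      have h1 : ⁅P, A⁆ ≤ Subgroup.centralizer ({q} : Set G) := by
        intro x hx
        rw [Subgroup.mem_centralizer_iff]
        intro h hh
        rw [Set.mem_singleton_iff] at hh
        subst hh
        exact (Subgroup.mem_centralizer_iff.1 hqcL x (hPA hx)).symm
      have h2 : B ≤ Subgroup.centralizer ({q} : Set G) := by
        intro x hx
        rw [Subgroup.mem_centralizer_iff]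
        intro h hh
        rw [Set.mem_singleton_iff] at hh
        subst hh
        exact (Subgroup.mem_centralizer_iff.1 hqB x hx).symm
      have h3 : P ≤ Subgroup.centralizer ({q} : Set G) := by
        rw [← hdecomp]
        exact sup_le h1 h2
      have hqP : q ∈ Subgroup.centralizer (P : Set G) := by
        rw [Subgroup.mem_centralizer_iff]
        intro h hh
        have := Subgroup.mem_centralizer_iff.1 (h3 hh) q (Set.mem_singleton q)
        exact this.symm
      have hqH : q ∈ H := hLH (Cfsg.Agent.Lib.Helper7.pCoreIn_le 2 L (zOmega_le_pCoreIn L hqZ))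
      have hqPm : q ∈ P := hH ⟨hqH, hqP⟩
      have hqW : q ∈ zOmega H := mem_zOmega hqPm hqP (zOmega_sq hqZ)
      exact Subgroup.centralizer_le (by exact_mod_cast hAL) (hWc hqW)
    have h6 := Cfsg.Agent.Lib.Helper8.thompson_AxB 2 A B hB hAcard hAB (Nat.card (zOmega L))
      (zOmega L) rfl (zOmega_isPGroup L) hAQ hBQ hC
    rw [Subgroup.commutator_eq_bot_iff_le_centralizer] at h6
    rw [SetLike.mem_coe, Subgroup.mem_centralizer_iff]
    intro w hw
    have h7 := h6 hw
    exact (Subgroup.mem_centralizer_iff.1 h7 y (Subgroup.mem_zpowers y)).symm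
  rw [oddGenerated_eq_of_perfect hperf] at hLc
  rw [Subgroup.commutator_comm, Subgroup.commutator_eq_bot_iff_le_centralizer]
  exact hLc

end Cfsg.Agent.Lib.Helper2.QT
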