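import Mathlib
import Cfsg.Prelude.Def_RootSubgroups

/-!
# Quadratic pairs (Timmesfeld), part 1: the set `QSet G` of square-zero endomorphisms `N`
with `1 + k N ⊆ G`, its closure properties, and the bridge to the Prelude definitions.
-/

set_option autoImplicit false
universe u v
open Module

namespace Cfsg.Agent.Lib.Helper2.Qp

variable {k : Type u} [Field k] {M : Type v} [AddCommGroup M] [Module k M]

/-- the unit `1 + c N` for a square-zero endomorphism `N` (and `1` if `N` is not square-zero) -/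
theorem one_add_mul_one_sub {N : Module.End k M} (h : N * N = 0) (c : k) :
    (1 + c • N) * (1 - c • N) = 1 := by
  have key : ∀ x : Module.End k M, (1 + x) * (1 - x) = 1 - x * x := fun x => by noncomm_ring
  rw [key, smul_mul_assoc, mul_smul_comm, h, smul_zero, smul_zero, sub_zero]

theorem one_sub_mul_one_add {N : Module.End k M} (h : N * N = 0) (c : k) :
    (1 - c • N) * (1 + c • N) = 1 := by
  have key : ∀ x : Module.End k M, (1 - x) * (1 + x) = 1 - x * x := fun x => by noncomm_ring
  rw [key, smul_mul_assoc, mul_smul_comm, h, smul_zero, smul_zero, sub_zero]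

/-- the unit `1 + c N` for a square-zero endomorphism `N` (and `1` if `N` is not square-zero) -/
noncomputable def uN (N : Module.End k M) (c : k) : LinearMap.GeneralLinearGroup k M := by
  classical
  exact if h : N * N = 0 then
    ⟨1 + c • N, 1 - c • N, one_add_mul_one_sub h c, one_sub_mul_one_add h c⟩
  else 1

theorem uN_val {N : Module.End k M} (h : N * N = 0) (c : k) :
    ((uN N c : LinearMap.GeneralLinearGroup k M) : Module.End k M) = 1 + c • N := by
  unfold uN
  rw [dif_pos h]

theorem uN_inv_val {N : Module.End k M} (h : N * N = 0) (c : k) :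
    (((uN N c)⁻¹ : LinearMap.GeneralLinearGroup k M) : Module.End k M) = 1 - c • N := by
  unfold uN
  rw [dif_pos h]
  rfl

theorem uN_inv {N : Module.End k M} (h : N * N = 0) (c : k) : (uN N c)⁻¹ = uN N (-c) := by
  apply Units.ext
  rw [uN_inv_val h, uN_val h, neg_smul, sub_eq_add_neg]

theorem uN_zero_right (N : Module.End k M) : uN N 0 = 1 := by
  by_cases h : N * N = 0
  · apply Units.ext
    rw [uN_val h, zero_smul, add_zero]
    rfl
  · unfold uN
    rw [dif_neg h]

theorem uN_add {N : Module.End k M} (h : N * N = 0) (c c' : k) :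
    uN N (c + c') = uN N c * uN N c' := by
  apply Units.ext
  rw [Units.val_mul, uN_val h, uN_val h, uN_val h]
  simp only [mul_add, add_mul, mul_one, one_mul, smul_mul_assoc, mul_smul_comm, h, smul_zero,
    add_zero, add_smul]
  abel

theorem smul_sq_zero {N : Module.End k M} (h : N * N = 0) (t : k) : (t • N) * (t • N) = 0 := by
  rw [smul_mul_assoc, mul_smul_comm, h, smul_zero, smul_zero]

theorem uN_smul {N : Module.End k M} (h : N * N = 0) (t c : k) : uN (t • N) c = uN N (c * t) := by
  apply Units.ext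
  rw [uN_val (smul_sq_zero h t), uN_val h, smul_smul]

theorem conj_sq_zero {N : Module.End k M} (h : N * N = 0) (g : LinearMap.GeneralLinearGroup k M) :
    ((g : Module.End k M) * N * ((g⁻¹ : LinearMap.GeneralLinearGroup k M) : Module.End k M)) *
      ((g : Module.End k M) * N * ((g⁻¹ : LinearMap.GeneralLinearGroup k M) : Module.End k M)) = 0 := by
  have h1 : ((g⁻¹ : LinearMap.GeneralLinearGroup k M) : Module.End k M) * (g : Module.End k M) = 1 := by
    rw [← Units.val_mul, inv_mul_cancel]; rfl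
  calc _ = (g : Module.End k M) * N * (((g⁻¹ : LinearMap.GeneralLinearGroup k M) : Module.End k M) *
        (g : Module.End k M)) * N * ((g⁻¹ : LinearMap.GeneralLinearGroup k M) : Module.End k M) := by
        simp only [mul_assoc]
    _ = 0 := by rw [h1, mul_one, mul_assoc (g : Module.End k M), h, mul_zero, zero_mul]

theorem uN_conj {N : Module.End k M} (h : N * N = 0) (g : LinearMap.GeneralLinearGroup k M) (c : k) :
    g * uN N c * g⁻¹ =
      uN ((g : Module.End k M) * N * ((g⁻¹ : LinearMap.GeneralLinearGroup k M) : Module.End k M)) c := by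
  have h1 : (g : Module.End k M) * ((g⁻¹ : LinearMap.GeneralLinearGroup k M) : Module.End k M) = 1 := by
    rw [← Units.val_mul, mul_inv_cancel]; rfl
  apply Units.ext
  rw [Units.val_mul, Units.val_mul, uN_val h, uN_val (conj_sq_zero h g)]
  simp only [mul_add, add_mul, mul_one, smul_mul_assoc, mul_smul_comm, h1]

theorem uN_mul_orth {N₁ N₂ : Module.End k M} (h₁ : N₁ * N₁ = 0) (h₂ : N₂ * N₂ = 0)
    (h₁₂ : N₁ * N₂ = 0) (h₂₁ : N₂ * N₁ = 0) :
    (N₁ + N₂) * (N₁ + N₂) = 0 ∧ ∀ c : k, uN N₁ c * uN N₂ c = uN (N₁ + N₂) c := by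
  have hs : (N₁ + N₂) * (N₁ + N₂) = 0 := by
    simp only [mul_add, add_mul, h₁, h₂, h₁₂, h₂₁, add_zero]
  refine ⟨hs, fun c => ?_⟩
  apply Units.ext
  rw [Units.val_mul, uN_val h₁, uN_val h₂, uN_val hs]
  simp only [mul_add, add_mul, mul_one, one_mul, smul_mul_assoc, mul_smul_comm, h₁₂, smul_zero,
    add_zero, smul_add]
  abel

/-- `QSet G`: square-zero endomorphisms `N` with `1 + c N ∈ G` for all `c` -/
def QSet (G : Subgroup (LinearMap.GeneralLinearGroup k M)) : Set (Module.End k M) :=
  {N | N * N = 0 ∧ ∀ c : k, uN N c ∈ G}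

variable {G : Subgroup (LinearMap.GeneralLinearGroup k M)}

theorem QSet.sq {N : Module.End k M} (h : N ∈ QSet G) : N * N = 0 := h.1

theorem QSet.mem {N : Module.End k M} (h : N ∈ QSet G) (c : k) : uN N c ∈ G := h.2 c

theorem QSet.zero_mem : (0 : Module.End k M) ∈ QSet G := by
  refine ⟨mul_zero _, fun c => ?_⟩
  have : uN (0 : Module.End k M) c = 1 := by
    apply Units.ext
    rw [uN_val (mul_zero _), smul_zero, add_zero]; rfl
  rw [this]; exact one_mem _

theorem QSet.smul {N : Module.End k M} (h : N ∈ QSet G) (t : k) : t • N ∈ QSet G :=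
  ⟨smul_sq_zero h.1 t, fun c => by rw [uN_smul h.1]; exact h.2 _⟩

theorem QSet.neg {N : Module.End k M} (h : N ∈ QSet G) : -N ∈ QSet G := by
  have := QSet.smul h (-1); rwa [neg_one_smul] at this

theorem QSet.conj {N : Module.End k M} (h : N ∈ QSet G) {g : LinearMap.GeneralLinearGroup k M}
    (hg : g ∈ G) :
    (g : Module.End k M) * N * ((g⁻¹ : LinearMap.GeneralLinearGroup k M) : Module.End k M) ∈ QSet G :=
  ⟨conj_sq_zero h.1 g, fun c => by
    rw [← uN_conj h.1]
    exact G.mul_mem (G.mul_mem hg (h.2 c)) (G.inv_mem hg)⟩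

theorem QSet.add_orth {N₁ N₂ : Module.End k M} (h₁ : N₁ ∈ QSet G) (h₂ : N₂ ∈ QSet G)
    (h₁₂ : N₁ * N₂ = 0) (h₂₁ : N₂ * N₁ = 0) : N₁ + N₂ ∈ QSet G := by
  obtain ⟨hs, hm⟩ := uN_mul_orth (k := k) h₁.1 h₂.1 h₁₂ h₂₁
  exact ⟨hs, fun c => by rw [← hm]; exact G.mul_mem (h₁.2 c) (h₂.2 c)⟩

theorem QSet.sub_orth {N₁ N₂ : Module.End k M} (h₁ : N₁ ∈ QSet G) (h₂ : N₂ ∈ QSet G)
    (h₁₂ : N₁ * N₂ = 0) (h₂₁ : N₂ * N₁ = 0) : N₁ - N₂ ∈ QSet G := by
  rw [sub_eq_add_neg]
  exact QSet.add_orth h₁ (QSet.neg h₂) (by rw [mul_neg, h₁₂, neg_zero]) (by rw [neg_mul, h₂₁, neg_zero])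

/-- general criterion: if `1 + c N` is the value of an element of `G` for all `c` -/
theorem QSet.of_forall {N : Module.End k M} (hN : N * N = 0)
    (h : ∀ c : k, ∃ g ∈ G, ((g : LinearMap.GeneralLinearGroup k M) : Module.End k M) = 1 + c • N) :
    N ∈ QSet G := by
  refine ⟨hN, fun c => ?_⟩
  obtain ⟨g, hg, hgv⟩ := h c
  have : uN N c = g := by
    apply Units.ext
    rw [uN_val hN, hgv]
  rw [this]; exact hg

/-! ### rank -/

/-- the rank of an endomorphism -/
noncomputable def rk (N : Module.End k M) : ℕ := Module.finrank k (LinearMap.range N)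

theorem rk_zero : rk (0 : Module.End k M) = 0 := by
  unfold rk
  rw [LinearMap.range_zero]
  exact finrank_bot k M

theorem rk_smul (N : Module.End k M) {t : k} (ht : t ≠ 0) : rk (t • N) = rk N := by
  unfold rk
  rw [LinearMap.range_smul N t ht]

theorem rk_neg (N : Module.End k M) : rk (-N) = rk N := by
  have := rk_smul N (t := (-1 : k)) (by simp)
  rwa [neg_one_smul] at this

section fd
variable [FiniteDimensional k M]

theorem rk_eq_zero_iff (N : Module.End k M) : rk N = 0 ↔ N = 0 := by
  unfold rk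
  rw [Submodule.finrank_eq_zero, LinearMap.range_eq_bot]

theorem rk_mul_le_left (A B : Module.End k M) : rk (A * B) ≤ rk A := by
  unfold rk
  apply Submodule.finrank_mono
  rintro x ⟨y, rfl⟩
  exact ⟨B y, rfl⟩

theorem rk_mul_le_right (A B : Module.End k M) : rk (A * B) ≤ rk B := by
  unfold rk
  have : LinearMap.range (A * B) = Submodule.map A (LinearMap.range B) := by
    rw [Module.End.mul_eq_comp, LinearMap.range_comp]
  rw [this]
  exact Submodule.finrank_map_le A _

theorem rk_conj (N : Module.End k M) (g : LinearMap.GeneralLinearGroup k M) :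
    rk ((g : Module.End k M) * N * ((g⁻¹ : LinearMap.GeneralLinearGroup k M) : Module.End k M)) = rk N := by
  have h1 : ((g⁻¹ : LinearMap.GeneralLinearGroup k M) : Module.End k M) * (g : Module.End k M) = 1 := by
    rw [← Units.val_mul, inv_mul_cancel]; rfl
  apply le_antisymm
  · exact (rk_mul_le_left _ _).trans (rk_mul_le_right _ _)
  · have : N = ((g⁻¹ : LinearMap.GeneralLinearGroup k M) : Module.End k M) *
        ((g : Module.End k M) * N * ((g⁻¹ : LinearMap.GeneralLinearGroup k M) : Module.End k M)) *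
        (g : Module.End k M) := by
      simp only [mul_assoc, h1, mul_one]
      rw [← mul_assoc, h1, one_mul]
    conv_lhs => rw [this]
    exact (rk_mul_le_left _ _).trans (rk_mul_le_right _ _)

theorem rk_add_le (A B : Module.End k M) : rk (A + B) ≤ rk A + rk B := by
  unfold rk
  have : LinearMap.range (A + B) ≤ LinearMap.range A ⊔ LinearMap.range B := by
    rintro x ⟨y, rfl⟩
    exact Submodule.add_mem_sup ⟨y, rfl⟩ ⟨y, rfl⟩
  exact (Submodule.finrank_mono this).trans (Submodule.finrank_add_le_finrank_add_finrank _ _)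

end fd

/-! ### minimal rank -/

/-- `d` is a lower bound for the rank of the non-zero members of `QSet G` -/
def IsMinRank (G : Subgroup (LinearMap.GeneralLinearGroup k M)) (d : ℕ) : Prop :=
  ∀ N ∈ QSet G, N ≠ 0 → d ≤ rk N

theorem IsMinRank.eq_zero [FiniteDimensional k M] {d : ℕ} (h : IsMinRank G d)
    {N : Module.End k M} (hN : N ∈ QSet G) (hr : rk N < d) : N = 0 := by
  by_contra h0
  exact absurd (h N hN h0) (not_le.mpr hr)

/-! ### bridge to the Prelude -/

theorem sub_one_mem_QSet {σ : LinearMap.GeneralLinearGroup k M} (h : σ ∈ Cfsg.quadraticElements G) :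
    (σ : Module.End k M) - 1 ∈ QSet G ∧ (σ : Module.End k M) - 1 ≠ 0 := by
  obtain ⟨-, ⟨h2, h3⟩, h4⟩ := h
  refine ⟨⟨h2, fun c => ?_⟩, h3⟩
  apply h4
  exact ⟨c, uN_val h2 c⟩

theorem mem_quadraticElements_of {N : Module.End k M} (h : N ∈ QSet G) (h0 : N ≠ 0) :
    uN N 1 ∈ Cfsg.quadraticElements G := by
  have hv : ((uN N 1 : LinearMap.GeneralLinearGroup k M) : Module.End k M) - 1 = N := by
    rw [uN_val h.1, one_smul, add_sub_cancel_left]
  refine ⟨h.2 1, ⟨?_, ?_⟩, ?_⟩
  · show (((uN N 1 : LinearMap.GeneralLinearGroup k M) : M →ₗ[k] M) - 1) *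
      (((uN N 1 : LinearMap.GeneralLinearGroup k M) : M →ₗ[k] M) - 1) = 0
    rw [hv]; exact h.1
  · show ((uN N 1 : LinearMap.GeneralLinearGroup k M) : M →ₗ[k] M) - 1 ≠ 0
    rw [hv]; exact h0
  · rintro τ ⟨c, hc⟩
    have : τ = uN N c := by
      apply Units.ext
      rw [hc, hv, uN_val h.1]
    rw [this]; exact h.2 c

theorem commutatorRank_eq (σ : LinearMap.GeneralLinearGroup k M) :
    Cfsg.commutatorRank σ = rk ((σ : Module.End k M) - 1) := rfl

theorem isMinRank_of_minimal {σ : LinearMap.GeneralLinearGroup k M}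
    (h : σ ∈ Cfsg.minimalQuadraticElements G) :
    IsMinRank G (rk ((σ : Module.End k M) - 1)) := by
  intro N hN h0
  have := h.2 _ (mem_quadraticElements_of hN h0)
  rw [commutatorRank_eq, commutatorRank_eq, uN_val hN.1, one_smul, add_sub_cancel_left] at this
  exact this

theorem scalarFamily_eq {σ : LinearMap.GeneralLinearGroup k M}
    (h : ((σ : Module.End k M) - 1) * ((σ : Module.End k M) - 1) = 0) :
    Cfsg.scalarFamily σ = Set.range (uN ((σ : Module.End k M) - 1)) := by
  ext τ
  constructor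
  · rintro ⟨c, hc⟩
    refine ⟨c, ?_⟩
    apply Units.ext
    rw [uN_val h, hc]
  · rintro ⟨c, rfl⟩
    exact ⟨c, uN_val h c⟩

end Cfsg.Agent.Lib.Helper2.Qp
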