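import Mathlib
import Cfsg.Agent.Lib.Helper2.Qp1

/-!
# Quadratic pairs, part 2: the algebra of a pair `a, b` of square-zero endomorphisms,
the central element `th a b = a b + b a`, the group `XG a b` and the descending chain `chainF`.
-/

set_option autoImplicit false
universe u v
open Module

namespace Cfsg.Agent.Lib.Helper2.Qp

variable {k : Type u} [Field k] {M : Type v} [AddCommGroup M] [Module k M]

/-- `θ(a,b) = a b + b a` -/
def th (a b : Module.End k M) : Module.End k M := a * b + b * a

/-- the group generated by the two scalar families -/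
noncomputable def XG (a b : Module.End k M) : Subgroup (LinearMap.GeneralLinearGroup k M) :=
  Subgroup.closure (Set.range (uN a) ∪ Set.range (uN b))

theorem th_symm (a b : Module.End k M) : th a b = th b a := by
  unfold th; rw [add_comm]

theorem XG_symm (a b : Module.End k M) : XG a b = XG b a := by
  unfold XG; rw [Set.union_comm]

theorem uN_mem_XG_left (a b : Module.End k M) (c : k) : uN a c ∈ XG a b :=
  Subgroup.subset_closure (Or.inl ⟨c, rfl⟩)

theorem uN_mem_XG_right (a b : Module.End k M) (c : k) : uN b c ∈ XG a b :=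
  Subgroup.subset_closure (Or.inr ⟨c, rfl⟩)

theorem XG_le {a b : Module.End k M} {G : Subgroup (LinearMap.GeneralLinearGroup k M)}
    (ha : a ∈ QSet G) (hb : b ∈ QSet G) : XG a b ≤ G := by
  unfold XG
  rw [Subgroup.closure_le]
  rintro g (⟨c, rfl⟩ | ⟨c, rfl⟩)
  · exact ha.2 c
  · exact hb.2 c

section pair
variable {a b : Module.End k M}

theorem th_mul_left (haa : a * a = 0) : th a b * a = a * b * a := by
  unfold th
  rw [add_mul, mul_assoc b a a, haa, mul_zero, add_zero]

theorem mul_th_left (haa : a * a = 0) : a * th a b = a * b * a := by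
  unfold th
  rw [mul_add, ← mul_assoc a a b, haa, zero_mul, zero_add, mul_assoc]

theorem th_mul_right (hbb : b * b = 0) : th a b * b = b * a * b := by
  rw [th_symm]; exact th_mul_left hbb

theorem mul_th_right (hbb : b * b = 0) : b * th a b = b * a * b := by
  rw [th_symm]; exact mul_th_left hbb

theorem th_comm_left (haa : a * a = 0) : Commute (th a b) a := by
  unfold Commute SemiconjBy
  rw [th_mul_left haa, mul_th_left haa]

theorem th_comm_right (hbb : b * b = 0) : Commute (th a b) b := by
  unfold Commute SemiconjBy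
  rw [th_mul_right hbb, mul_th_right hbb]

theorem th_pow_comm_left (haa : a * a = 0) (n : ℕ) : Commute (th a b ^ n) a :=
  (th_comm_left haa).pow_left n

theorem th_pow_comm_right (hbb : b * b = 0) (n : ℕ) : Commute (th a b ^ n) b :=
  (th_comm_right hbb).pow_left n

end pair

/-! ### the chain -/

/-- `chainF a b n`: the span of the images of all words of length `n` in `a, b` -/
def chainF (a b : Module.End k M) : ℕ → Submodule k M
  | 0 => ⊤
  | n + 1 => (chainF a b n).map a ⊔ (chainF a b n).map b

theorem chainF_zero (a b : Module.End k M) : chainF a b 0 = ⊤ := rfl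

theorem chainF_succ (a b : Module.End k M) (n : ℕ) :
    chainF a b (n + 1) = (chainF a b n).map a ⊔ (chainF a b n).map b := rfl

theorem chainF_symm (a b : Module.End k M) (n : ℕ) : chainF a b n = chainF b a n := by
  induction n with
  | zero => rfl
  | succ n ih => rw [chainF_succ, chainF_succ, ih, sup_comm]

theorem left_mem_chainF {a b : Module.End k M} {n : ℕ} {x : M} (hx : x ∈ chainF a b n) :
    a x ∈ chainF a b (n + 1) :=
  Submodule.mem_sup_left (Submodule.mem_map_of_mem hx)

theorem right_mem_chainF {a b : Module.End k M} {n : ℕ} {x : M} (hx : x ∈ chainF a b n) :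
    b x ∈ chainF a b (n + 1) :=
  Submodule.mem_sup_right (Submodule.mem_map_of_mem hx)

theorem chainF_succ_le (a b : Module.End k M) (n : ℕ) : chainF a b (n + 1) ≤ chainF a b n := by
  induction n with
  | zero => rw [chainF_zero]; exact le_top
  | succ n ih =>
    rw [chainF_succ a b (n + 1)]
    apply sup_le
    · rintro x ⟨y, hy, rfl⟩
      exact left_mem_chainF (ih hy)
    · rintro x ⟨y, hy, rfl⟩
      exact right_mem_chainF (ih hy)

theorem chainF_anti (a b : Module.End k M) {m n : ℕ} (h : m ≤ n) : chainF a b n ≤ chainF a b m := by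
  induction h with
  | refl => exact le_rfl
  | step _ ih => exact (chainF_succ_le a b _).trans ih

/-- `T` lowers the chain by one step -/
def Lowers (a b T : Module.End k M) : Prop := ∀ n, ∀ x ∈ chainF a b n, T x ∈ chainF a b (n + 1)

theorem lowers_left (a b : Module.End k M) : Lowers a b a := fun _ _ hx => left_mem_chainF hx

theorem lowers_right (a b : Module.End k M) : Lowers a b b := fun _ _ hx => right_mem_chainF hx

theorem Lowers.add {a b T S : Module.End k M} (hT : Lowers a b T) (hS : Lowers a b S) :
    Lowers a b (T + S) := fun n x hx => by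
  rw [LinearMap.add_apply]; exact Submodule.add_mem _ (hT n x hx) (hS n x hx)

theorem Lowers.smul {a b T : Module.End k M} (hT : Lowers a b T) (c : k) :
    Lowers a b (c • T) := fun n x hx => by
  rw [LinearMap.smul_apply]; exact Submodule.smul_mem _ _ (hT n x hx)

theorem Lowers.neg {a b T : Module.End k M} (hT : Lowers a b T) : Lowers a b (-T) := fun n x hx => by
  rw [LinearMap.neg_apply]; exact Submodule.neg_mem _ (hT n x hx)

theorem Lowers.sub {a b T S : Module.End k M} (hT : Lowers a b T) (hS : Lowers a b S) :
    Lowers a b (T - S) := by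
  rw [sub_eq_add_neg]; exact hT.add hS.neg

/-- `T` preserves the chain -/
def Pres (a b T : Module.End k M) : Prop := ∀ n, ∀ x ∈ chainF a b n, T x ∈ chainF a b n

theorem Lowers.pres {a b T : Module.End k M} (hT : Lowers a b T) : Pres a b T :=
  fun n x hx => chainF_succ_le a b n (hT n x hx)

theorem pres_one (a b : Module.End k M) : Pres a b 1 := fun _ _ hx => hx

theorem Pres.add {a b T S : Module.End k M} (hT : Pres a b T) (hS : Pres a b S) :
    Pres a b (T + S) := fun n x hx => by
  rw [LinearMap.add_apply]; exact Submodule.add_mem _ (hT n x hx) (hS n x hx)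

theorem Pres.mul {a b T S : Module.End k M} (hT : Pres a b T) (hS : Pres a b S) :
    Pres a b (T * S) := fun n x hx => by
  rw [Module.End.mul_apply]; exact hT n _ (hS n x hx)

theorem Lowers.mul_pres {a b T S : Module.End k M} (hT : Lowers a b T) (hS : Pres a b S) :
    Lowers a b (T * S) := fun n x hx => by
  rw [Module.End.mul_apply]; exact hT n _ (hS n x hx)

theorem Pres.mul_lowers {a b T S : Module.End k M} (hT : Pres a b T) (hS : Lowers a b S) :
    Lowers a b (T * S) := fun n x hx => by
  rw [Module.End.mul_apply]; exact hT (n + 1) _ (hS n x hx)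

/-- the symmetric property used in the closure induction -/
def LowG (a b : Module.End k M) (g : LinearMap.GeneralLinearGroup k M) : Prop :=
  Lowers a b ((g : Module.End k M) - 1) ∧
    Lowers a b (((g⁻¹ : LinearMap.GeneralLinearGroup k M) : Module.End k M) - 1)

theorem lowG_of_mem_XG {a b : Module.End k M} (haa : a * a = 0) (hbb : b * b = 0)
    {g : LinearMap.GeneralLinearGroup k M} (hg : g ∈ XG a b) : LowG a b g := by
  unfold XG at hg
  induction hg using Subgroup.closure_induction with
  | mem g hg =>
    rcases hg with ⟨c, rfl⟩ | ⟨c, rfl⟩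
    · constructor
      · rw [uN_val haa, add_sub_cancel_left]; exact (lowers_left a b).smul c
      · rw [uN_inv_val haa, sub_sub_cancel_left]; exact ((lowers_left a b).smul c).neg
    · constructor
      · rw [uN_val hbb, add_sub_cancel_left]; exact (lowers_right a b).smul c
      · rw [uN_inv_val hbb, sub_sub_cancel_left]; exact ((lowers_right a b).smul c).neg
  | one =>
    constructor
    · intro n x _
      simp
    · intro n x _
      simp
  | mul g h _ _ ihg ihh =>
    have key : ∀ S T : Module.End k M, Lowers a b (S - 1) → Lowers a b (T - 1) →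
        Lowers a b (S * T - 1) := by
      intro S T hS hT
      have e : S * T - 1 = (S - 1) * T + (T - 1) := by noncomm_ring
      rw [e]
      have hTp : Pres a b T := by
        have : T = (T - 1) + 1 := by abel
        rw [this]; exact hT.pres.add (pres_one a b)
      exact (hS.mul_pres hTp).add hT
    constructor
    · rw [Units.val_mul]; exact key _ _ ihg.1 ihh.1
    · rw [mul_inv_rev, Units.val_mul]; exact key _ _ ihh.2 ihg.2
  | inv g _ ih =>
    constructor
    · exact ih.2
    · rw [inv_inv]; exact ih.1

theorem pres_of_mem_XG {a b : Module.End k M} (haa : a * a = 0) (hbb : b * b = 0)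
    {g : LinearMap.GeneralLinearGroup k M} (hg : g ∈ XG a b) :
    Pres a b (g : Module.End k M) := by
  have h := (lowG_of_mem_XG haa hbb hg).1
  have : (g : Module.End k M) = ((g : Module.End k M) - 1) + 1 := by abel
  rw [this]; exact h.pres.add (pres_one a b)

theorem lowers_conj {a b T : Module.End k M} (haa : a * a = 0) (hbb : b * b = 0)
    {g : LinearMap.GeneralLinearGroup k M} (hg : g ∈ XG a b) (hT : Lowers a b T) :
    Lowers a b ((g : Module.End k M) * T * ((g⁻¹ : LinearMap.GeneralLinearGroup k M) : Module.End k M)) :=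
  ((pres_of_mem_XG haa hbb hg).mul_lowers hT).mul_pres (pres_of_mem_XG haa hbb ((XG a b).inv_mem hg))

/-- three steps down the chain factor through `θ` -/
theorem chainF_three_le {a b : Module.End k M} (haa : a * a = 0) (hbb : b * b = 0) (n : ℕ) :
    chainF a b (n + 3) ≤ (chainF a b (n + 1)).map (th a b) := by
  have haax : ∀ x, a (a x) = 0 := fun x => by
    have := LinearMap.congr_fun haa x; simpa using this
  have hbbx : ∀ x, b (b x) = 0 := fun x => by
    have := LinearMap.congr_fun hbb x; simpa using this
  have hta : ∀ x, th a b (a x) = a (b (a x)) := fun x => by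
    have := LinearMap.congr_fun (th_mul_left (b := b) haa) x; simpa using this
  have htb : ∀ x, th a b (b x) = b (a (b x)) := fun x => by
    have := LinearMap.congr_fun (th_mul_right (a := a) hbb) x; simpa using this
  -- a typical element of chainF (n+2)
  have h2 : ∀ y ∈ chainF a b (n + 2), ∃ z₁ ∈ chainF a b n, ∃ z₂ ∈ chainF a b n,
      a y = a (b (a z₁)) ∧ b y = b (a (b z₂)) := by
    intro y hy
    have hy' : y ∈ (chainF a b (n + 1)).map a ⊔ (chainF a b (n + 1)).map b := hy
    obtain ⟨y₁, ⟨w₁, hw₁, rfl⟩, y₂, ⟨w₂, hw₂, rfl⟩, rfl⟩ := Submodule.mem_sup.mp hy'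
    have hw₁' : w₁ ∈ (chainF a b n).map a ⊔ (chainF a b n).map b := hw₁
    have hw₂' : w₂ ∈ (chainF a b n).map a ⊔ (chainF a b n).map b := hw₂
    obtain ⟨p₁, ⟨z₁, hz₁, rfl⟩, p₂, ⟨z₂, hz₂, rfl⟩, rfl⟩ := Submodule.mem_sup.mp hw₁'
    obtain ⟨q₁, ⟨z₃, hz₃, rfl⟩, q₂, ⟨z₄, hz₄, rfl⟩, rfl⟩ := Submodule.mem_sup.mp hw₂'
    refine ⟨z₃, hz₃, z₂, hz₂, ?_, ?_⟩
    · simp only [map_add, haax, hbbx, zero_add, add_zero, map_zero]
    · simp only [map_add, haax, hbbx, zero_add, add_zero, map_zero]
  rw [chainF_succ a b (n + 2)]
  apply sup_le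
  · rintro x ⟨y, hy, rfl⟩
    obtain ⟨z₁, hz₁, -, -, h1, -⟩ := h2 y hy
    exact ⟨a z₁, left_mem_chainF hz₁, by rw [hta, ← h1]⟩
  · rintro x ⟨y, hy, rfl⟩
    obtain ⟨-, -, z₂, hz₂, -, h1⟩ := h2 y hy
    exact ⟨b z₂, right_mem_chainF hz₂, by rw [htb, ← h1]⟩

theorem chainF_odd_le {a b : Module.End k M} (haa : a * a = 0) (hbb : b * b = 0) (m : ℕ) :
    chainF a b (2 * m + 1) ≤ LinearMap.range (th a b ^ m) := by
  induction m with
  | zero => rw [pow_zero]; intro x _; exact ⟨x, rfl⟩
  | succ m ih =>
    have : 2 * (m + 1) + 1 = 2 * m + 3 := by ring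
    rw [this]
    refine (chainF_three_le haa hbb (2 * m)).trans ?_
    rintro x ⟨y, hy, rfl⟩
    obtain ⟨z, rfl⟩ := ih hy
    refine ⟨z, ?_⟩
    rw [pow_succ', Module.End.mul_apply]

/-- a product of `n` lowering maps sends `chainF j` into `chainF (j + n)` -/
theorem lowers_list_prod {a b : Module.End k M} (l : List (Module.End k M))
    (hl : ∀ T ∈ l, Lowers a b T) (j : ℕ) (x : M) (hx : x ∈ chainF a b j) :
    l.prod x ∈ chainF a b (j + l.length) := by
  induction l generalizing j x with
  | nil => simpa using hx
  | cons T l ih =>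
    rw [List.prod_cons, Module.End.mul_apply, List.length_cons]
    have h1 := ih (fun S hS => hl S (List.mem_cons_of_mem _ hS)) j x hx
    have h2 := hl T List.mem_cons_self _ _ h1
    rwa [add_assoc] at h2

theorem lowers_pow {a b T : Module.End k M} (hT : Lowers a b T) (n j : ℕ) (x : M)
    (hx : x ∈ chainF a b j) : (T ^ n) x ∈ chainF a b (j + n) := by
  have := lowers_list_prod (List.replicate n T) (fun S hS => by
    rw [List.eq_of_mem_replicate hS]; exact hT) j x hx
  rwa [List.prod_replicate, List.length_replicate] at this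

theorem flatMap_single {α β : Type*} (f : α → β) (l : List α) :
    List.flatMap (fun a => [f a]) l = l.map f := by
  induction l with
  | nil => rfl
  | cons x l ih => simp [List.flatMap_cons, ih]

/-- unfolding of `IsUnipotentOn` with the coercion inside the `map` -/
theorem isUnipotentOn_iff (H : Subgroup (LinearMap.GeneralLinearGroup k M)) :
    Cfsg.IsUnipotentOn H ↔ ∃ n : ℕ, ∀ l : List (LinearMap.GeneralLinearGroup k M),
      (∀ g ∈ l, g ∈ H) → l.length = n →
      (l.map fun g : LinearMap.GeneralLinearGroup k M => (g : M →ₗ[k] M) - 1).prod = 0 := by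
  unfold Cfsg.IsUnipotentOn
  simp only [List.bind_eq_flatMap, List.pure_def]
  constructor
  · rintro ⟨n, h⟩
    refine ⟨n, fun l hl hlen => ?_⟩
    have := h l hl hlen
    rw [flatMap_single, List.map_map] at this
    exact this
  · rintro ⟨n, h⟩
    refine ⟨n, fun l hl hlen => ?_⟩
    have := h l hl hlen
    rw [flatMap_single, List.map_map]
    exact this

/-- if `θ(a,b)` is nilpotent then `XG a b` acts unipotently -/
theorem unipotent_of_nilpotent {a b : Module.End k M} (haa : a * a = 0) (hbb : b * b = 0)
    (h : IsNilpotent (th a b)) : Cfsg.IsUnipotentOn (XG a b) := by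
  rw [isUnipotentOn_iff]
  obtain ⟨m, hm⟩ := h
  refine ⟨2 * m + 1, fun l hl hlen => ?_⟩
  have hbot : chainF a b (2 * m + 1) = ⊥ := by
    rw [eq_bot_iff]
    refine (chainF_odd_le haa hbb m).trans ?_
    rw [hm, LinearMap.range_zero]
  ext x
  have := lowers_list_prod (a := a) (b := b)
    (l.map fun g : LinearMap.GeneralLinearGroup k M => (g : M →ₗ[k] M) - 1) (fun T hT => by
    rw [List.mem_map] at hT
    obtain ⟨g, hg, rfl⟩ := hT
    exact (lowG_of_mem_XG haa hbb (hl g hg)).1) 0 x (by rw [chainF_zero]; trivial)
  rw [List.length_map, hlen, zero_add, hbot, Submodule.mem_bot] at this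
  rw [this]; rfl

/-! ### Fitting components -/

/-- the Fitting one-component `⋂ range θ^n` -/
def fitOne (θ : Module.End k M) : Submodule k M := ⨅ n : ℕ, LinearMap.range (θ ^ n)

/-- the Fitting zero-component `⋃ ker θ^n` -/
def fitZero (θ : Module.End k M) : Submodule k M := ⨆ n : ℕ, LinearMap.ker (θ ^ n)

theorem range_le_fitOne_of_lowers {a b a' : Module.End k M} (haa : a * a = 0) (hbb : b * b = 0)
    (ha' : Lowers a b a') (h : a = a * a' * a) : LinearMap.range a ≤ fitOne (th a b) := by
  have hpow : ∀ n : ℕ, a = a * (a' * a) ^ n := by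
    intro n
    induction n with
    | zero => simp
    | succ n ih =>
      rw [pow_succ', ← mul_assoc, ← mul_assoc, ← h]
      exact ih
  unfold fitOne
  rw [le_iInf_iff]
  intro n
  rintro x ⟨y, rfl⟩
  apply chainF_odd_le haa hbb n
  have e : a y = a (((a' * a) ^ n) y) := by
    have := LinearMap.congr_fun (hpow n) y
    rwa [Module.End.mul_apply] at this
  rw [e]
  have h4 : ((a' * a) ^ n) y ∈ chainF a b (2 * n) := by
    have h5 : Lowers a b a' := ha'
    -- two steps per factor
    have : ∀ (n : ℕ) (z : M), ((a' * a) ^ n) z ∈ chainF a b (2 * n) := by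
      intro n
      induction n with
      | zero => intro z; simp [chainF_zero]
      | succ n ih =>
        intro z
        rw [pow_succ', Module.End.mul_apply, Module.End.mul_apply]
        have := h5 _ _ (lowers_left a b _ _ (ih z))
        have e : 2 * (n + 1) = 2 * n + 1 + 1 := by ring
        rwa [e]
    exact this n y
  exact left_mem_chainF h4

theorem fitOne_th_le {a b a' : Module.End k M} (haa : a * a = 0) (hbb : b * b = 0)
    (ha' : Lowers a b a') : fitOne (th a a') ≤ fitOne (th a b) := by
  unfold fitOne
  rw [le_iInf_iff]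
  intro n
  refine (iInf_le _ (n + 1)).trans ?_
  rintro x ⟨y, rfl⟩
  have h1 : Lowers a b (th a a') := by
    unfold th
    exact ((lowers_left a b).pres.mul_lowers ha').add (ha'.pres.mul_lowers (lowers_left a b))
  have h2 : ∀ (n : ℕ) (z : M), ((th a a') ^ n) z ∈ chainF a b (2 * n) := by
    intro n
    induction n with
    | zero => intro z; simp [chainF_zero]
    | succ n ih =>
      intro z
      rw [pow_succ', Module.End.mul_apply]
      have h3 : ∀ w ∈ chainF a b (2 * n), th a a' w ∈ chainF a b (2 * n + 2) := by
        intro w hw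
        unfold th
        rw [LinearMap.add_apply, Module.End.mul_apply, Module.End.mul_apply]
        exact Submodule.add_mem _ (left_mem_chainF (ha' _ _ hw)) (ha' _ _ (left_mem_chainF hw))
      have e : 2 * (n + 1) = 2 * n + 2 := by ring
      rw [e]; exact h3 _ (ih z)
  apply chainF_odd_le haa hbb n
  have := h2 (n + 1) y
  exact chainF_anti a b (by omega) this

end Cfsg.Agent.Lib.Helper2.Qp
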