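import Mathlib
import Cfsg.Agent.Lib.Helper2.Qp2

/-!
# Quadratic pairs, part 3: unipotent pairs of minimal rank are of class at most two.
-/

set_option autoImplicit false
universe u v
open Module

namespace Cfsg.Agent.Lib.Helper2.Qp

variable {k : Type u} [Field k] {M : Type v} [AddCommGroup M] [Module k M]

/-! ### rank lemmas -/

section rank
variable [FiniteDimensional k M]

/-- a nilpotent endomorphism commuting with `a ≠ 0` strictly lowers the rank -/
theorem rk_mul_lt_of_nilpotent {θ a : Module.End k M} (hθ : IsNilpotent θ) (hc : Commute θ a)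
    (ha : a ≠ 0) : rk (θ * a) < rk a := by
  have hle : rk (θ * a) ≤ rk a := by
    rw [hc.eq]; exact rk_mul_le_left a θ
  rcases lt_or_eq_of_le hle with h | h
  · exact h
  exfalso
  have hr : LinearMap.range (θ * a) = LinearMap.range a := by
    apply Submodule.eq_of_le_of_finrank_eq _ h
    rw [hc.eq]
    rintro x ⟨y, rfl⟩
    exact ⟨θ y, rfl⟩
  have hall : ∀ n : ℕ, LinearMap.range (θ ^ n * a) = LinearMap.range a := by
    intro n
    induction n with
    | zero => rw [pow_zero, one_mul]
    | succ n ih =>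
      rw [pow_succ', mul_assoc, Module.End.mul_eq_comp, LinearMap.range_comp, ih,
        ← LinearMap.range_comp, ← Module.End.mul_eq_comp, hr]
  obtain ⟨m, hm⟩ := hθ
  have := hall m
  rw [hm, zero_mul, LinearMap.range_zero] at this
  exact ha (LinearMap.range_eq_bot.mp this.symm)

/-- `rk (a b) + rk (b a) ≤ rk a` when `b a b = 0` -/
theorem rk_add_rk_le {a b : Module.End k M} (h : b * a * b = 0) :
    rk (a * b) + rk (b * a) ≤ rk a := by
  unfold rk
  let f : LinearMap.range a →ₗ[k] M := b.comp (LinearMap.range a).subtype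
  have h1 : LinearMap.range f = LinearMap.range (b * a) := by
    rw [LinearMap.range_comp, Submodule.range_subtype, ← LinearMap.range_comp]
    rfl
  have h2 : (LinearMap.range (a * b)) ≤ (LinearMap.ker f).map (LinearMap.range a).subtype := by
    rintro x ⟨y, rfl⟩
    refine ⟨⟨a (b y), LinearMap.mem_range_self a (b y)⟩, ?_, rfl⟩
    apply SetLike.mem_coe.mpr
    apply LinearMap.mem_ker.mpr
    show b (a (b y)) = 0
    have := LinearMap.congr_fun h y
    simpa using this
  have h3 := LinearMap.finrank_range_add_finrank_ker f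
  have h4 : Module.finrank k ((LinearMap.ker f).map (LinearMap.range a).subtype) =
      Module.finrank k (LinearMap.ker f) :=
    Submodule.finrank_map_subtype_eq (LinearMap.range a) (LinearMap.ker f)
  have h5 := Submodule.finrank_mono h2
  rw [h1] at h3
  omega

theorem rk_comm_le {a b : Module.End k M} (h : b * a * b = 0) : rk (a * b - b * a) ≤ rk a := by
  have := rk_add_le (a * b) (-(b * a))
  rw [rk_neg, ← sub_eq_add_neg] at this
  exact this.trans (rk_add_rk_le h)

end rank

/-! ### class two pairs -/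

variable {G : Subgroup (LinearMap.GeneralLinearGroup k M)}

theorem comm_sq_zero {a b : Module.End k M} (haa : a * a = 0) (hbb : b * b = 0)
    (h1 : a * b * a = 0) (h2 : b * a * b = 0) : (a * b - b * a) * (a * b - b * a) = 0 := by
  have ka : ∀ x : Module.End k M, x * a * a = 0 := fun x => by rw [mul_assoc, haa, mul_zero]
  have kb : ∀ x : Module.End k M, x * b * b = 0 := fun x => by rw [mul_assoc, hbb, mul_zero]
  have k1 : ∀ x : Module.End k M, x * a * b * a = 0 := fun x => by
    rw [mul_assoc, mul_assoc, ← mul_assoc a, h1, mul_zero]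
  have k2 : ∀ x : Module.End k M, x * b * a * b = 0 := fun x => by
    rw [mul_assoc, mul_assoc, ← mul_assoc b, h2, mul_zero]
  simp only [mul_sub, sub_mul, ← mul_assoc, haa, hbb, ka, kb, h1, h2, k1, k2, sub_zero, zero_mul]

/-- in the class two case the commutator `a b - b a` lies in `QSet G` -/
theorem comm_mem_QSet {a b : Module.End k M} (ha : a ∈ QSet G) (hb : b ∈ QSet G)
    (h1 : a * b * a = 0) (h2 : b * a * b = 0) : a * b - b * a ∈ QSet G := by
  have haa := ha.1
  have hbb := hb.1
  apply QSet.of_forall (comm_sq_zero haa hbb h1 h2)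
  intro c
  refine ⟨uN a c * uN b 1 * (uN a c)⁻¹ * (uN b 1)⁻¹,
    G.mul_mem (G.mul_mem (G.mul_mem (ha.2 c) (hb.2 1)) (G.inv_mem (ha.2 c))) (G.inv_mem (hb.2 1)), ?_⟩
  have ka : ∀ x : Module.End k M, x * a * a = 0 := fun x => by rw [mul_assoc, haa, mul_zero]
  have kb : ∀ x : Module.End k M, x * b * b = 0 := fun x => by rw [mul_assoc, hbb, mul_zero]
  have k1 : ∀ x : Module.End k M, x * a * b * a = 0 := fun x => by
    rw [mul_assoc, mul_assoc, ← mul_assoc a, h1, mul_zero]
  have k2 : ∀ x : Module.End k M, x * b * a * b = 0 := fun x => by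
    rw [mul_assoc, mul_assoc, ← mul_assoc b, h2, mul_zero]
  simp only [Units.val_mul, uN_val haa, uN_inv_val haa, uN_val hbb, uN_inv_val hbb, one_smul]
  simp only [mul_add, add_mul, mul_sub, sub_mul, mul_one, one_mul, smul_mul_assoc, mul_smul_comm,
    ← mul_assoc, haa, hbb, ka, kb, h1, h2, k1, k2, smul_zero, zero_mul, mul_zero, add_zero,
    zero_add, sub_zero, zero_sub, smul_add, smul_sub, neg_zero, smul_neg, neg_neg]
  module

/-! ### the conjugate pair `(a, (1+b) a (1-b))` -/

section conjpair
variable {a b : Module.End k M}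

/-- `a₁ = (1 + b) a (1 - b)` -/
def conjA (a b : Module.End k M) : Module.End k M := (1 + b) * a * (1 - b)

theorem conjA_eq (hbb : b * b = 0) :
    conjA a b = ((uN b 1 : LinearMap.GeneralLinearGroup k M) : Module.End k M) * a *
      (((uN b 1)⁻¹ : LinearMap.GeneralLinearGroup k M) : Module.End k M) := by
  rw [uN_val hbb, uN_inv_val hbb, one_smul]; rfl

theorem th_conjA (haa : a * a = 0) (hbb : b * b = 0) : th a (conjA a b) = -(th a b ^ 2) := by
  have ka : ∀ x : Module.End k M, x * a * a = 0 := fun x => by rw [mul_assoc, haa, mul_zero]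
  have kb : ∀ x : Module.End k M, x * b * b = 0 := fun x => by rw [mul_assoc, hbb, mul_zero]
  unfold th conjA
  rw [pow_two]
  simp only [mul_add, add_mul, mul_sub, sub_mul, mul_one, one_mul,
    ← mul_assoc, haa, hbb, ka, kb, zero_mul, mul_zero, add_zero,
    zero_add, sub_zero, zero_sub]
  abel

theorem mul_conjA_mul (haa : a * a = 0) (hbb : b * b = 0) :
    a * conjA a b * a = -(a * b * a * b * a) := by
  have ka : ∀ x : Module.End k M, x * a * a = 0 := fun x => by rw [mul_assoc, haa, mul_zero]
  have kb : ∀ x : Module.End k M, x * b * b = 0 := fun x => by rw [mul_assoc, hbb, mul_zero]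
  unfold conjA
  simp only [mul_add, add_mul, mul_sub, sub_mul, mul_one, one_mul,
    ← mul_assoc, haa, hbb, ka, kb, zero_mul, mul_zero, add_zero,
    zero_add, sub_zero, zero_sub]

end conjpair

/-! ### the main identity -/

/-- the element `N = 2 a b a - (a b a b - b a b a)` -/
def upN (a b : Module.End k M) : Module.End k M :=
  (2 : k) • (a * b * a) - (a * b * a * b - b * a * b * a)

section ident
variable {a b : Module.End k M}

theorem upN_sq (haa : a * a = 0) (hbb : b * b = 0) (h5a : a * b * a * b * a = 0)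
    (h5b : b * a * b * a * b = 0) : upN a b * upN a b = 0 := by
  have ka : ∀ x : Module.End k M, x * a * a = 0 := fun x => by rw [mul_assoc, haa, mul_zero]
  have kb : ∀ x : Module.End k M, x * b * b = 0 := fun x => by rw [mul_assoc, hbb, mul_zero]
  have k5a : ∀ x : Module.End k M, x * a * b * a * b * a = 0 := fun x => by
    rw [mul_assoc, mul_assoc, mul_assoc, mul_assoc, ← mul_assoc a, ← mul_assoc (a*b),
      ← mul_assoc (a*b*a), h5a, mul_zero]
  have k5b : ∀ x : Module.End k M, x * b * a * b * a * b = 0 := fun x => by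
    rw [mul_assoc, mul_assoc, mul_assoc, mul_assoc, ← mul_assoc b, ← mul_assoc (b*a),
      ← mul_assoc (b*a*b), h5b, mul_zero]
  unfold upN
  simp only [mul_add, add_mul, mul_sub, sub_mul, mul_one, one_mul, smul_mul_assoc, mul_smul_comm,
    ← mul_assoc, haa, hbb, ka, kb, h5a, h5b, k5a, k5b, smul_zero, zero_mul, mul_zero, add_zero,
    zero_add, sub_zero, zero_sub, smul_add, smul_sub, neg_zero, smul_neg, neg_neg]

theorem upN_ident (haa : a * a = 0) (hbb : b * b = 0) (h5a : a * b * a * b * a = 0)
    (h5b : b * a * b * a * b = 0) (c : k) :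
    (1 + c • a) * ((1 + b) * (1 + a) * (1 - b) * (1 - a)) * (1 - c • a) *
      ((1 + a) * (1 + b) * (1 - a) * (1 - b)) = 1 + c • upN a b := by
  have ka : ∀ x : Module.End k M, x * a * a = 0 := fun x => by rw [mul_assoc, haa, mul_zero]
  have kb : ∀ x : Module.End k M, x * b * b = 0 := fun x => by rw [mul_assoc, hbb, mul_zero]
  have k5a : ∀ x : Module.End k M, x * a * b * a * b * a = 0 := fun x => by
    rw [mul_assoc, mul_assoc, mul_assoc, mul_assoc, ← mul_assoc a, ← mul_assoc (a*b),
      ← mul_assoc (a*b*a), h5a, mul_zero]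
  have k5b : ∀ x : Module.End k M, x * b * a * b * a * b = 0 := fun x => by
    rw [mul_assoc, mul_assoc, mul_assoc, mul_assoc, ← mul_assoc b, ← mul_assoc (b*a),
      ← mul_assoc (b*a*b), h5b, mul_zero]
  unfold upN
  simp only [mul_add, add_mul, mul_sub, sub_mul, mul_one, one_mul, smul_mul_assoc, mul_smul_comm,
    ← mul_assoc, haa, hbb, ka, kb, h5a, h5b, k5a, k5b, smul_zero, zero_mul, mul_zero, add_zero,
    zero_add, sub_zero, zero_sub, smul_add, smul_sub, neg_zero, smul_neg, neg_neg]
  module

theorem upN_conj (h2 : (2 : k) ≠ 0) (haa : a * a = 0) (hbb : b * b = 0)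
    (h5b : b * a * b * a * b = 0) :
    upN a b = (1 + (2 : k)⁻¹ • b) * ((2 : k) • (a * b * a)) * (1 - (2 : k)⁻¹ • b) := by
  have ka : ∀ x : Module.End k M, x * a * a = 0 := fun x => by rw [mul_assoc, haa, mul_zero]
  have kb : ∀ x : Module.End k M, x * b * b = 0 := fun x => by rw [mul_assoc, hbb, mul_zero]
  have k5b : ∀ x : Module.End k M, x * b * a * b * a * b = 0 := fun x => by
    rw [mul_assoc, mul_assoc, mul_assoc, mul_assoc, ← mul_assoc b, ← mul_assoc (b*a),
      ← mul_assoc (b*a*b), h5b, mul_zero]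
  unfold upN
  simp only [mul_add, add_mul, mul_sub, sub_mul, mul_one, one_mul, smul_mul_assoc, mul_smul_comm,
    ← mul_assoc, haa, hbb, ka, kb, h5b, k5b, smul_zero, zero_mul, mul_zero, add_zero,
    zero_add, sub_zero, zero_sub, smul_add, smul_sub, neg_zero, smul_neg, neg_neg, smul_smul,
    inv_mul_cancel₀ h2, mul_inv_cancel₀ h2, one_smul]
  module

end ident

theorem upN_mem_QSet {a b : Module.End k M} (ha : a ∈ QSet G) (hb : b ∈ QSet G)
    (h5a : a * b * a * b * a = 0) (h5b : b * a * b * a * b = 0) : upN a b ∈ QSet G := by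
  have haa := ha.1
  have hbb := hb.1
  apply QSet.of_forall (upN_sq haa hbb h5a h5b)
  intro c
  refine ⟨uN a c * (uN b 1 * uN a 1 * (uN b 1)⁻¹ * (uN a 1)⁻¹) * (uN a c)⁻¹ *
    (uN a 1 * uN b 1 * (uN a 1)⁻¹ * (uN b 1)⁻¹), ?_, ?_⟩
  · have hκ : uN b 1 * uN a 1 * (uN b 1)⁻¹ * (uN a 1)⁻¹ ∈ G :=
      G.mul_mem (G.mul_mem (G.mul_mem (hb.2 1) (ha.2 1)) (G.inv_mem (hb.2 1))) (G.inv_mem (ha.2 1))
    have hκ' : uN a 1 * uN b 1 * (uN a 1)⁻¹ * (uN b 1)⁻¹ ∈ G :=
      G.mul_mem (G.mul_mem (G.mul_mem (ha.2 1) (hb.2 1)) (G.inv_mem (ha.2 1))) (G.inv_mem (hb.2 1))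
    exact G.mul_mem (G.mul_mem (G.mul_mem (ha.2 c) hκ) (G.inv_mem (ha.2 c))) hκ'
  · simp only [Units.val_mul, uN_val haa, uN_inv_val haa, uN_val hbb, uN_inv_val hbb, one_smul]
    exact upN_ident haa hbb h5a h5b c

/-- **Unipotent pairs of minimal rank have class at most two.** -/
theorem upt [FiniteDimensional k M] (h2 : (2 : k) ≠ 0) {d : ℕ} (hmin : IsMinRank G d) :
    ∀ m : ℕ, ∀ a b : Module.End k M, a ∈ QSet G → b ∈ QSet G → rk a ≤ d → rk b ≤ d →
      th a b ^ m = 0 → a * b * a = 0 ∧ b * a * b = 0 := by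
  intro m
  induction m using Nat.strong_induction_on with
  | _ m ih =>
  intro a b ha hb hra hrb hm
  have haa := ha.1
  have hbb := hb.1
  -- words of length five vanish
  have h5 : ∀ a b : Module.End k M, a ∈ QSet G → b ∈ QSet G → rk a ≤ d → rk b ≤ d →
      th a b ^ m = 0 → a * b * a * b * a = 0 := by
    intro a b ha hb hra hrb hm
    have haa := ha.1
    have hbb := hb.1
    by_cases hm2 : m < 2
    · -- θ = 0 or M trivial
      have h1 : th a b = 0 := by
        interval_cases m
        · rw [pow_zero] at hm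
          have : th a b = th a b * 1 := (mul_one _).symm
          rw [this, hm, mul_zero]
        · rwa [pow_one] at hm
      have : a * b * a = 0 := by rw [← th_mul_left (b := b) haa, h1, zero_mul]
      rw [this, zero_mul, zero_mul]
    · push Not at hm2
      have hc : conjA a b ∈ QSet G := by
        rw [conjA_eq hbb]; exact QSet.conj ha (hb.2 1)
      have hrc : rk (conjA a b) ≤ d := by
        rw [conjA_eq hbb, rk_conj]; exact hra
      have hpow : th a (conjA a b) ^ ((m + 1) / 2) = 0 := by
        rw [th_conjA haa hbb, neg_pow, ← pow_mul]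
        have : th a b ^ (2 * ((m + 1) / 2)) = 0 := by
          have hle : m ≤ 2 * ((m + 1) / 2) := by omega
          rw [← Nat.sub_add_cancel hle, pow_add, hm, mul_zero]
        rw [this, mul_zero]
      have := (ih ((m + 1) / 2) (by omega) a (conjA a b) ha hc hra hrc hpow).1
      rw [mul_conjA_mul haa hbb, neg_eq_zero] at this
      exact this
  have h5a := h5 a b ha hb hra hrb hm
  have h5b := h5 b a hb ha hrb hra (by rw [th_symm]; exact hm)
  -- the class computation
  have key : ∀ a b : Module.End k M, a ∈ QSet G → b ∈ QSet G → rk a ≤ d →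
      th a b ^ m = 0 → a * b * a * b * a = 0 → b * a * b * a * b = 0 → a * b * a = 0 := by
    intro a b ha hb hra hm h5a h5b
    have haa := ha.1
    have hbb := hb.1
    by_cases ha0 : a = 0
    · rw [ha0, zero_mul, zero_mul]
    have hN := upN_mem_QSet ha hb h5a h5b
    have hrN : rk (upN a b) = rk (a * b * a) := by
      rw [upN_conj h2 haa hbb h5b]
      have e1 : (1 + (2 : k)⁻¹ • b) = ((uN b (2 : k)⁻¹ : LinearMap.GeneralLinearGroup k M) : Module.End k M) :=
        (uN_val hbb _).symm
      have e2 : (1 - (2 : k)⁻¹ • b) =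
          (((uN b (2 : k)⁻¹)⁻¹ : LinearMap.GeneralLinearGroup k M) : Module.End k M) :=
        (uN_inv_val hbb _).symm
      rw [e1, e2, rk_conj, rk_smul _ h2]
    have hlt : rk (a * b * a) < rk a := by
      rw [← th_mul_left (b := b) haa]
      exact rk_mul_lt_of_nilpotent ⟨m, hm⟩ (th_comm_left haa) ha0
    have hN0 : upN a b = 0 := hmin.eq_zero hN (by rw [hrN]; omega)
    rw [hN0, rk_zero] at hrN
    exact (rk_eq_zero_iff _).mp hrN.symm
  exact ⟨key a b ha hb hra hm h5a h5b, key b a hb ha hrb (by rw [th_symm]; exact hm) h5b h5a⟩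

/-- version with nilpotency hypothesis -/
theorem upt' [FiniteDimensional k M] (h2 : (2 : k) ≠ 0) {d : ℕ} (hmin : IsMinRank G d)
    {a b : Module.End k M} (ha : a ∈ QSet G) (hb : b ∈ QSet G) (hra : rk a ≤ d) (hrb : rk b ≤ d)
    (hn : IsNilpotent (th a b)) : a * b * a = 0 ∧ b * a * b = 0 := by
  obtain ⟨m, hm⟩ := hn
  exact upt h2 hmin m a b ha hb hra hrb hm

end Cfsg.Agent.Lib.Helper2.Qp
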