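import Mathlib
import Cfsg.Agent.Lib.Helper2.Qp2
import Cfsg.Agent.Lib.Helper1.SL2Q8c

/-!
# Quadratic pairs, part 4: the matrix model.  From a multiplicative linear map
`ρ : R → End N` commuting with `a, b` and with `a b + b a = ρ ϑ`, `ϑ` a unit, we get matrix units,
a multiplicative map `Φ : M₂(R) → End N` and a group homomorphism `Ψ : SL₂(R) → GL(N)`.
-/

set_option autoImplicit false
universe u v w
open Module Matrix

namespace Cfsg.Agent.Lib.Helper2.Qp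

open Cfsg.Agent.Lib.Helper1.SL2Three

variable {k : Type u} [Field k] {N : Type v} [AddCommGroup N] [Module k N]

/-- the data of a matrix model for the pair `a, b` over the commutative `k`-algebra `R` -/
structure Model (R : Type w) [CommRing R] [Algebra k R] (a b : Module.End k N) where
  ρ : R →ₗ[k] Module.End k N
  ρ_mul : ∀ r s, ρ (r * s) = ρ r * ρ s
  ρ_a : ∀ r, ρ r * a = a * ρ r
  ρ_b : ∀ r, ρ r * b = b * ρ r
  one_a : ρ 1 * a = a
  one_b : ρ 1 * b = b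
  aa : a * a = 0
  bb : b * b = 0
  ϑ : R
  ϑi : R
  hϑ : ϑ * ϑi = 1
  th_eq : a * b + b * a = ρ ϑ

namespace Model

variable {R : Type w} [CommRing R] [Algebra k R] {a b : Module.End k N} (m : Model R a b)

theorem ρ_comm (r s : R) : m.ρ r * m.ρ s = m.ρ s * m.ρ r := by
  rw [← m.ρ_mul, ← m.ρ_mul, mul_comm]

theorem ρ_ab (r : R) : m.ρ r * (a * b) = (a * b) * m.ρ r := by
  rw [← mul_assoc, m.ρ_a, mul_assoc, m.ρ_b, mul_assoc]

theorem ρ_ba (r : R) : m.ρ r * (b * a) = (b * a) * m.ρ r := by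
  rw [← mul_assoc, m.ρ_b, mul_assoc, m.ρ_a, mul_assoc]

theorem aba : a * b * a = m.ρ m.ϑ * a := by
  rw [← m.th_eq, add_mul, mul_assoc b a a, m.aa, mul_zero, add_zero]

theorem bab : b * a * b = m.ρ m.ϑ * b := by
  rw [← m.th_eq, add_mul, mul_assoc a b b, m.bb, mul_zero, zero_add]

theorem ρ_ϑi_ϑ : m.ρ m.ϑi * m.ρ m.ϑ = m.ρ 1 := by
  rw [← m.ρ_mul, mul_comm, m.hϑ]

/-! simp lemmas for the right-associated normal form -/

theorem n1 (r : R) (x : Module.End k N) : a * (m.ρ r * x) = m.ρ r * (a * x) := by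
  rw [← mul_assoc, ← m.ρ_a, mul_assoc]
theorem n1' (r : R) : a * m.ρ r = m.ρ r * a := (m.ρ_a r).symm
theorem n2 (r : R) (x : Module.End k N) : b * (m.ρ r * x) = m.ρ r * (b * x) := by
  rw [← mul_assoc, ← m.ρ_b, mul_assoc]
theorem n2' (r : R) : b * m.ρ r = m.ρ r * b := (m.ρ_b r).symm
theorem n3 (r s : R) (x : Module.End k N) : m.ρ r * (m.ρ s * x) = m.ρ (r * s) * x := by
  rw [← mul_assoc, ← m.ρ_mul]
theorem n3' (r s : R) : m.ρ r * m.ρ s = m.ρ (r * s) := (m.ρ_mul r s).symm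
theorem n4 (m : Model R a b) (x : Module.End k N) : a * (a * x) = 0 := by
  rw [← mul_assoc, m.aa, zero_mul]
theorem n4' (m : Model R a b) (x : Module.End k N) : b * (b * x) = 0 := by
  rw [← mul_assoc, m.bb, zero_mul]
theorem n5 (x : Module.End k N) : a * (b * (a * x)) = m.ρ m.ϑ * (a * x) := by
  rw [← mul_assoc, ← mul_assoc, m.aba, mul_assoc]
theorem n5' : a * (b * a) = m.ρ m.ϑ * a := by rw [← mul_assoc, m.aba]
theorem n6 (x : Module.End k N) : b * (a * (b * x)) = m.ρ m.ϑ * (b * x) := by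
  rw [← mul_assoc, ← mul_assoc, m.bab, mul_assoc]
theorem n6' : b * (a * b) = m.ρ m.ϑ * b := by rw [← mul_assoc, m.bab]
theorem n7 : m.ϑi * m.ϑ = 1 := by rw [mul_comm, m.hϑ]
theorem n7' (r : R) : m.ϑi * (m.ϑ * r) = r := by rw [← mul_assoc, m.n7, one_mul]
theorem n8 (r : R) : m.ϑ * (m.ϑi * r) = r := by rw [← mul_assoc, m.hϑ, one_mul]
theorem n9 (x : Module.End k N) : m.ρ 1 * (a * x) = a * x := by rw [← mul_assoc, m.one_a]
theorem n9' (x : Module.End k N) : m.ρ 1 * (b * x) = b * x := by rw [← mul_assoc, m.one_b]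

/-- the matrix units -/
def eU : Fin 2 → Fin 2 → Module.End k N :=
  ![![m.ρ m.ϑi * (a * b), a], ![m.ρ m.ϑi * b, m.ρ m.ϑi * (b * a)]]

theorem eU00 : m.eU 0 0 = m.ρ m.ϑi * (a * b) := rfl
theorem eU01 : m.eU 0 1 = a := rfl
theorem eU10 : m.eU 1 0 = m.ρ m.ϑi * b := rfl
theorem eU11 : m.eU 1 1 = m.ρ m.ϑi * (b * a) := rfl

theorem ρ_eU (r : R) (i j : Fin 2) : m.ρ r * m.eU i j = m.eU i j * m.ρ r := by
  fin_cases i <;> fin_cases j <;>
  simp only [Fin.zero_eta, Fin.mk_one, Fin.isValue, eU00, eU01, eU10, eU11, mul_assoc, m.n1, m.n1',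
    m.n2, m.n2', m.n3, m.n3', mul_comm m.ϑi r]

theorem one_eU (i j : Fin 2) : m.ρ 1 * m.eU i j = m.eU i j := by
  fin_cases i <;> fin_cases j <;>
  simp only [Fin.zero_eta, Fin.mk_one, Fin.isValue, eU00, eU01, eU10, eU11, mul_assoc, m.n3,
    one_mul, m.one_a]

theorem eU_mul (i j l : Fin 2) : m.eU i j * m.eU j l = m.eU i l := by
  fin_cases i <;> fin_cases j <;> fin_cases l <;>
  simp only [Fin.zero_eta, Fin.mk_one, Fin.isValue, eU00, eU01, eU10, eU11, mul_assoc, m.n1, m.n1',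
    m.n2, m.n2', m.n3, m.n3', m.n4, m.n4', m.n5, m.n5', m.n6, m.n6', m.n7, m.n7', m.n8, m.hϑ,
    m.n9, m.n9', m.aa, m.bb, mul_zero, zero_mul, mul_one, one_mul, m.one_a, m.one_b]

theorem eU_mul_ne (i j j' l : Fin 2) (h : j ≠ j') : m.eU i j * m.eU j' l = 0 := by
  fin_cases i <;> fin_cases j <;> fin_cases j' <;> fin_cases l <;>
  first
  | exact absurd rfl h
  | simp only [Fin.zero_eta, Fin.mk_one, Fin.isValue, eU00, eU01, eU10, eU11, mul_assoc, m.n1, m.n1',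
      m.n2, m.n2', m.n3, m.n3', m.n4, m.n4', m.n5, m.n5', m.n6, m.n6', m.n7, m.n7', m.n8, m.hϑ,
      m.n9, m.n9', m.aa, m.bb, mul_zero, zero_mul, mul_one, one_mul, m.one_a, m.one_b]

/-! ### the map `Φ` -/

/-- `Φ x = ∑ ρ(x i j) e i j` -/
def Φ (x : Matrix (Fin 2) (Fin 2) R) : Module.End k N := ∑ i, ∑ j, m.ρ (x i j) * m.eU i j

theorem Φ_apply (x : Matrix (Fin 2) (Fin 2) R) :
    m.Φ x = m.ρ (x 0 0) * m.eU 0 0 + m.ρ (x 0 1) * m.eU 0 1 +
      (m.ρ (x 1 0) * m.eU 1 0 + m.ρ (x 1 1) * m.eU 1 1) := by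
  unfold Φ
  rw [Fin.sum_univ_two, Fin.sum_univ_two, Fin.sum_univ_two]

theorem Φ_add (x y : Matrix (Fin 2) (Fin 2) R) : m.Φ (x + y) = m.Φ x + m.Φ y := by
  simp only [Φ_apply, Matrix.add_apply, map_add, add_mul]
  abel

theorem Φ_zero : m.Φ 0 = 0 := by
  simp only [Φ_apply, Matrix.zero_apply, map_zero, zero_mul, add_zero]

theorem Φ_neg (x : Matrix (Fin 2) (Fin 2) R) : m.Φ (-x) = -m.Φ x := by
  simp only [Φ_apply, Matrix.neg_apply, map_neg, neg_mul]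
  abel

theorem Φ_sub (x y : Matrix (Fin 2) (Fin 2) R) : m.Φ (x - y) = m.Φ x - m.Φ y := by
  rw [sub_eq_add_neg, Φ_add, Φ_neg, ← sub_eq_add_neg]

theorem Φ_smul (c : k) (x : Matrix (Fin 2) (Fin 2) R) : m.Φ (c • x) = c • m.Φ x := by
  simp only [Φ_apply, Matrix.smul_apply, map_smul, smul_mul_assoc, smul_add]

theorem term_mul (r s : R) (i j j' l : Fin 2) :
    (m.ρ r * m.eU i j) * (m.ρ s * m.eU j' l) =
      if j = j' then m.ρ (r * s) * m.eU i l else 0 := by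
  have : (m.ρ r * m.eU i j) * (m.ρ s * m.eU j' l) = m.ρ (r * s) * (m.eU i j * m.eU j' l) := by
    rw [mul_assoc, ← mul_assoc (m.eU i j), ← m.ρ_eU s, m.ρ_mul]
    simp only [mul_assoc]
  rw [this]
  by_cases h : j = j'
  · subst h
    rw [if_pos rfl, m.eU_mul]
  · rw [if_neg h, m.eU_mul_ne _ _ _ _ h, mul_zero]

theorem Φ_mul (x y : Matrix (Fin 2) (Fin 2) R) : m.Φ (x * y) = m.Φ x * m.Φ y := by
  rw [Φ_apply m x, Φ_apply m y, Φ_apply m (x * y)]
  simp only [mul_add, add_mul, term_mul, Matrix.mul_apply, Fin.sum_univ_two, map_add, if_true,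
    Fin.isValue, if_false, zero_ne_one, one_ne_zero, add_zero, zero_add]
  abel

theorem Φ_one : m.Φ 1 = m.ρ 1 := by
  rw [Φ_apply]
  simp only [Matrix.one_apply_eq, Matrix.one_apply_ne, ne_eq, zero_ne_one, one_ne_zero,
    not_false_eq_true, map_zero, zero_mul, add_zero, zero_add, Fin.isValue]
  rw [m.one_eU, m.one_eU, eU00, eU11, ← mul_add, m.th_eq, m.ρ_ϑi_ϑ]

theorem Φ_E12 (t : R) : m.Φ !![0, t; 0, 0] = m.ρ t * a := by
  rw [Φ_apply]
  simp [eU01]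

theorem Φ_E21 (t : R) : m.Φ !![0, 0; t, 0] = m.ρ (t * m.ϑi) * b := by
  rw [Φ_apply]
  simp [eU10, m.ρ_mul, mul_assoc]

/-! ### the homomorphism `Ψ` -/

/-- `g ↦ 1 + Φ(g - 1)` -/
def Ψfun (g : Matrix.SpecialLinearGroup (Fin 2) R) : Module.End k N :=
  1 + m.Φ ((g : Matrix (Fin 2) (Fin 2) R) - 1)

theorem Ψfun_one : m.Ψfun 1 = 1 := by
  unfold Ψfun
  rw [Matrix.SpecialLinearGroup.coe_one, sub_self, Φ_zero, add_zero]

theorem Ψfun_mul (g h : Matrix.SpecialLinearGroup (Fin 2) R) :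
    m.Ψfun (g * h) = m.Ψfun g * m.Ψfun h := by
  unfold Ψfun
  rw [Matrix.SpecialLinearGroup.coe_mul]
  have e : (g : Matrix (Fin 2) (Fin 2) R) * (h : Matrix (Fin 2) (Fin 2) R) - 1 =
      ((g : Matrix (Fin 2) (Fin 2) R) - 1) + ((h : Matrix (Fin 2) (Fin 2) R) - 1) +
      ((g : Matrix (Fin 2) (Fin 2) R) - 1) * ((h : Matrix (Fin 2) (Fin 2) R) - 1) := by
    noncomm_ring
  rw [e, Φ_add, Φ_add, Φ_mul]
  noncomm_ring

/-- the group homomorphism `SL₂(R) → GL(N)` -/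
def Ψ : Matrix.SpecialLinearGroup (Fin 2) R →* LinearMap.GeneralLinearGroup k N where
  toFun g := ⟨m.Ψfun g, m.Ψfun g⁻¹, by rw [← Ψfun_mul, mul_inv_cancel, Ψfun_one],
    by rw [← Ψfun_mul, inv_mul_cancel, Ψfun_one]⟩
  map_one' := by
    apply Units.ext
    exact m.Ψfun_one
  map_mul' g h := by
    apply Units.ext
    exact m.Ψfun_mul g h

theorem Ψ_val (g : Matrix.SpecialLinearGroup (Fin 2) R) :
    ((m.Ψ g : LinearMap.GeneralLinearGroup k N) : Module.End k N) =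
      1 + m.Φ ((g : Matrix (Fin 2) (Fin 2) R) - 1) := rfl

theorem Ψ_xmat (t : R) :
    ((m.Ψ (xmat R t) : LinearMap.GeneralLinearGroup k N) : Module.End k N) = 1 + m.ρ t * a := by
  rw [Ψ_val, coe_xmat, ← Φ_E12]
  congr 2
  ext i j
  fin_cases i <;> fin_cases j <;> simp

theorem Ψ_ymat (t : R) :
    ((m.Ψ (ymat R t) : LinearMap.GeneralLinearGroup k N) : Module.End k N) =
      1 + m.ρ (t * m.ϑi) * b := by
  rw [Ψ_val, coe_ymat, ← Φ_E21]
  congr 2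
  ext i j
  fin_cases i <;> fin_cases j <;> simp

theorem ρ_algebraMap (c : k) : m.ρ (algebraMap k R c) = c • m.ρ 1 := by
  rw [Algebra.algebraMap_eq_smul_one, map_smul]

theorem Ψ_xmat_alg (c : k) : m.Ψ (xmat R (algebraMap k R c)) = uN a c := by
  apply Units.ext
  rw [Ψ_xmat, uN_val m.aa, ρ_algebraMap, smul_mul_assoc, m.one_a]

theorem Ψ_ymat_alg (c : k) : m.Ψ (ymat R (algebraMap k R c * m.ϑ)) = uN b c := by
  apply Units.ext
  rw [Ψ_ymat, uN_val m.bb, mul_assoc, m.hϑ, mul_one, ρ_algebraMap, smul_mul_assoc, m.one_b]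

/-- the subgroup of `SL₂(R)` generated by `x(c)`, `y(c ϑ)`, `c ∈ k` -/
def XR (k : Type u) [Field k] (R : Type w) [CommRing R] [Algebra k R] (ϑ : R) :
    Subgroup (Matrix.SpecialLinearGroup (Fin 2) R) :=
  Subgroup.closure ({g | ∃ c : k, g = xmat R (algebraMap k R c)} ∪
    {g | ∃ c : k, g = ymat R (algebraMap k R c * ϑ)})

theorem map_XR : (XR k R m.ϑ).map m.Ψ = XG a b := by
  unfold XR XG
  rw [MonoidHom.map_closure]
  congr 1
  ext g
  constructor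
  · rintro ⟨h, (⟨c, rfl⟩ | ⟨c, rfl⟩), rfl⟩
    · exact Or.inl ⟨c, (m.Ψ_xmat_alg c).symm⟩
    · exact Or.inr ⟨c, (m.Ψ_ymat_alg c).symm⟩
  · rintro (⟨c, rfl⟩ | ⟨c, rfl⟩)
    · exact ⟨_, Or.inl ⟨c, rfl⟩, m.Ψ_xmat_alg c⟩
    · exact ⟨_, Or.inr ⟨c, rfl⟩, m.Ψ_ymat_alg c⟩

theorem Ψ_mem_XG {g : Matrix.SpecialLinearGroup (Fin 2) R} (hg : g ∈ XR k R m.ϑ) :
    m.Ψ g ∈ XG a b := by
  rw [← m.map_XR]; exact Subgroup.mem_map_of_mem _ hg

theorem exists_of_mem_XG {g : LinearMap.GeneralLinearGroup k N} (hg : g ∈ XG a b) :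
    ∃ h ∈ XR k R m.ϑ, m.Ψ h = g := by
  rw [← m.map_XR] at hg; exact hg

/-- conjugation formula -/
theorem Ψ_conj (g : Matrix.SpecialLinearGroup (Fin 2) R) (x : Matrix (Fin 2) (Fin 2) R) :
    ((m.Ψ g : LinearMap.GeneralLinearGroup k N) : Module.End k N) * m.Φ x *
      (((m.Ψ g)⁻¹ : LinearMap.GeneralLinearGroup k N) : Module.End k N) =
    m.Φ ((g : Matrix (Fin 2) (Fin 2) R) * x * ((g⁻¹ : Matrix.SpecialLinearGroup (Fin 2) R) :
      Matrix (Fin 2) (Fin 2) R)) := by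
  rw [← map_inv, Ψ_val, Ψ_val]
  have e : (g : Matrix (Fin 2) (Fin 2) R) * x * ((g⁻¹ : Matrix.SpecialLinearGroup (Fin 2) R) :
      Matrix (Fin 2) (Fin 2) R) =
      x + ((g : Matrix (Fin 2) (Fin 2) R) - 1) * x +
      x * (((g⁻¹ : Matrix.SpecialLinearGroup (Fin 2) R) : Matrix (Fin 2) (Fin 2) R) - 1) +
      ((g : Matrix (Fin 2) (Fin 2) R) - 1) * x *
        (((g⁻¹ : Matrix.SpecialLinearGroup (Fin 2) R) : Matrix (Fin 2) (Fin 2) R) - 1) := by
    noncomm_ring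
  rw [e, Φ_add, Φ_add, Φ_add, Φ_mul, Φ_mul, Φ_mul, Φ_mul]
  noncomm_ring

end Model

end Cfsg.Agent.Lib.Helper2.Qp
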