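import Mathlib
import Cfsg.Agent.Lib.Helper2.Qp4
import Cfsg.Agent.Lib.Helper8.Slk6

/-!
# Quadratic pairs, part 5: a non-unipotent pair `(a, b)` has a partner `a'` of `a`
(a scalar multiple of a conjugate of `a` under `XG a b`) with `ker (θ(a,a') - 1) ≠ 0`.
-/

set_option autoImplicit false
universe u v
open Module Matrix Polynomial

namespace Cfsg.Agent.Lib.Helper2.Qp

open Cfsg.Agent.Lib.Helper1.SL2Three

variable {k : Type u} [Field k]

/-! ### generalities -/

/-- lift to `AdjoinRoot` with a non-commutative target -/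
noncomputable def liftNC {B : Type v} [Ring B] [Algebra k B] (f : k[X]) (x : B) (h : aeval x f = 0) :
    AdjoinRoot f →ₐ[k] B :=
  Ideal.Quotient.liftₐ (Ideal.span {f}) (aeval x) (fun p hp => by
    rw [Ideal.mem_span_singleton] at hp
    obtain ⟨q, rfl⟩ := hp
    rw [map_mul, h, zero_mul])

theorem liftNC_mk {B : Type v} [Ring B] [Algebra k B] (f : k[X]) (x : B) (h : aeval x f = 0)
    (p : k[X]) : liftNC f x h (AdjoinRoot.mk f p) = aeval x p := rfl

theorem liftNC_root {B : Type v} [Ring B] [Algebra k B] (f : k[X]) (x : B) (h : aeval x f = 0) :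
    liftNC f x h (AdjoinRoot.root f) = x := by
  rw [← AdjoinRoot.mk_X, liftNC_mk, aeval_X]

theorem commute_aeval {A : Type v} [Ring A] [Algebra k A] {x y : A} (h : Commute x y) (p : k[X]) :
    Commute (aeval x p) y := by
  induction p using Polynomial.induction_on' with
  | add p q hp hq => rw [map_add]; exact hp.add_left hq
  | monomial n c =>
    rw [aeval_monomial]
    exact (Algebra.commute_algebraMap_left c y).mul_left (h.pow_left n)

theorem liftNC_commute {B : Type v} [Ring B] [Algebra k B] (f : k[X]) (x : B) (h : aeval x f = 0)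
    {y : B} (hy : Commute x y) (r : AdjoinRoot f) : Commute (liftNC f x h r) y := by
  induction r using AdjoinRoot.induction_on with
  | ih p => rw [liftNC_mk]; exact commute_aeval hy p

variable {M : Type v} [AddCommGroup M] [Module k M]

/-- an irreducible factor of the minimal polynomial of a non-nilpotent endomorphism, prime to `X` -/
theorem exists_irreducible_factor [FiniteDimensional k M] {θ : Module.End k M}
    (hθ : ¬ IsNilpotent θ) :
    ∃ π : k[X], Irreducible π ∧ π ∣ minpoly k θ ∧ π.eval 0 ≠ 0 := by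
  have hint : IsIntegral k θ := Algebra.IsIntegral.isIntegral θ
  have hμ0 : minpoly k θ ≠ 0 := minpoly.ne_zero hint
  obtain ⟨q, hq, hq0⟩ := Polynomial.exists_eq_pow_rootMultiplicity_mul_and_not_dvd (minpoly k θ) hμ0 0
  rw [C_0, sub_zero] at hq hq0
  have hqne : q ≠ 0 := by
    rintro rfl
    rw [mul_zero] at hq
    exact hμ0 hq
  have hqu : ¬ IsUnit q := by
    intro hu
    apply hθ
    refine ⟨(minpoly k θ).rootMultiplicity 0, ?_⟩
    have h1 := minpoly.aeval k θ
    rw [hq, map_mul, map_pow, aeval_X] at h1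
    obtain ⟨c, hc, rfl⟩ := Polynomial.isUnit_iff.mp hu
    rw [aeval_C] at h1
    have hc' : IsUnit (algebraMap k (Module.End k M) c) := hc.map _
    exact (hc'.mul_left_eq_zero).mp h1
  obtain ⟨π, hπ, hπq⟩ := WfDvdMonoid.exists_irreducible_factor hqu hqne
  refine ⟨π, hπ, ?_, ?_⟩
  · rw [hq]; exact Dvd.dvd.mul_left hπq _
  · intro h0
    apply hq0
    have : X ∣ π := by
      rw [X_dvd_iff, coeff_zero_eq_eval_zero]; exact h0
    exact this.trans hπq

theorem ker_aeval_ne_bot [FiniteDimensional k M] {θ : Module.End k M} {π : k[X]}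
    (hπ : Irreducible π) (hd : π ∣ minpoly k θ) : LinearMap.ker (aeval θ π) ≠ ⊥ := by
  have hint : IsIntegral k θ := Algebra.IsIntegral.isIntegral θ
  obtain ⟨q, hq⟩ := hd
  intro hbot
  have h1 := minpoly.aeval k θ
  rw [hq, map_mul] at h1
  have h2 : aeval θ q = 0 := by
    ext v
    have : (aeval θ π) ((aeval θ q) v) = 0 := by
      have := LinearMap.congr_fun h1 v
      simpa using this
    have h3 : (aeval θ q) v ∈ LinearMap.ker (aeval θ π) := this
    rw [hbot, Submodule.mem_bot] at h3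
    rw [h3]; rfl
  have h3 := minpoly.dvd k θ h2
  rw [hq] at h3
  have hq0 : q ≠ 0 := by
    rintro rfl
    rw [mul_zero] at hq
    exact minpoly.ne_zero hint hq
  have : IsUnit π := by
    have h4 : π * q ∣ 1 * q := by rwa [one_mul]
    exact isUnit_of_dvd_one ((mul_dvd_mul_iff_right hq0).mp h4)
  exact hπ.not_isUnit this

/-! ### restriction to an invariant subspace -/

section restrict
variable {S : Submodule k M}

theorem restrict_sq_zero {a : Module.End k M} (haa : a * a = 0) (hSa : ∀ x ∈ S, a x ∈ S) :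
    a.restrict hSa * a.restrict hSa = 0 := by
  ext v
  have := LinearMap.congr_fun haa v
  simpa using this

theorem th_restrict_apply {a b : Module.End k M} (hSa : ∀ x ∈ S, a x ∈ S) (hSb : ∀ x ∈ S, b x ∈ S)
    (v : S) : ((th (a.restrict hSa) (b.restrict hSb)) v : M) = th a b v := rfl

theorem th_pow_restrict_apply {a b : Module.End k M} (hSa : ∀ x ∈ S, a x ∈ S)
    (hSb : ∀ x ∈ S, b x ∈ S) (n : ℕ) (v : S) :
    ((th (a.restrict hSa) (b.restrict hSb) ^ n) v : M) = (th a b ^ n) v := by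
  induction n generalizing v with
  | zero => simp
  | succ n ih =>
    rw [pow_succ, pow_succ, Module.End.mul_apply, Module.End.mul_apply, ih, th_restrict_apply]

theorem aeval_th_restrict_apply {a b : Module.End k M} (hSa : ∀ x ∈ S, a x ∈ S)
    (hSb : ∀ x ∈ S, b x ∈ S) (p : k[X]) (v : S) :
    ((aeval (th (a.restrict hSa) (b.restrict hSb)) p) v : M) = (aeval (th a b) p) v := by
  induction p using Polynomial.induction_on' with
  | add p q hp hq => simp [hp, hq]
  | monomial n c =>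
    rw [aeval_monomial, aeval_monomial]
    simp [th_pow_restrict_apply]

/-- the elements of `XG` of the restricted pair lift to `XG` of the pair -/
theorem exists_lift_of_mem_XG {a b : Module.End k M} (haa : a * a = 0) (hbb : b * b = 0)
    (hSa : ∀ x ∈ S, a x ∈ S) (hSb : ∀ x ∈ S, b x ∈ S)
    {h : LinearMap.GeneralLinearGroup k S} (hh : h ∈ XG (a.restrict hSa) (b.restrict hSb)) :
    ∃ g ∈ XG a b, (∀ v : S, (g : Module.End k M) v = ((h : Module.End k S) v : M)) ∧
      (∀ v : S, ((g⁻¹ : LinearMap.GeneralLinearGroup k M) : Module.End k M) v =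
        (((h⁻¹ : LinearMap.GeneralLinearGroup k S) : Module.End k S) v : M)) := by
  have haaS := restrict_sq_zero haa hSa
  have hbbS := restrict_sq_zero hbb hSb
  unfold XG at hh
  induction hh using Subgroup.closure_induction with
  | mem h hh =>
    rcases hh with ⟨c, rfl⟩ | ⟨c, rfl⟩
    · refine ⟨uN a c, uN_mem_XG_left a b c, fun v => ?_, fun v => ?_⟩
      · rw [uN_val haa, uN_val haaS]; simp
      · rw [uN_inv_val haa, uN_inv_val haaS]; simp
    · refine ⟨uN b c, uN_mem_XG_right a b c, fun v => ?_, fun v => ?_⟩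
      · rw [uN_val hbb, uN_val hbbS]; simp
      · rw [uN_inv_val hbb, uN_inv_val hbbS]; simp
  | one => exact ⟨1, one_mem _, fun v => by simp, fun v => by simp⟩
  | mul h₁ h₂ _ _ ih₁ ih₂ =>
    obtain ⟨g₁, hg₁, e₁, e₁'⟩ := ih₁
    obtain ⟨g₂, hg₂, e₂, e₂'⟩ := ih₂
    refine ⟨g₁ * g₂, mul_mem hg₁ hg₂, fun v => ?_, fun v => ?_⟩
    · rw [Units.val_mul, Units.val_mul, Module.End.mul_apply, Module.End.mul_apply, e₂, e₁]
    · rw [_root_.mul_inv_rev, _root_.mul_inv_rev, Units.val_mul, Units.val_mul, Module.End.mul_apply,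
        Module.End.mul_apply, e₁', e₂']
  | inv h _ ih =>
    obtain ⟨g, hg, e, e'⟩ := ih
    exact ⟨g⁻¹, inv_mem hg, e', by rw [inv_inv, inv_inv]; exact e⟩

end restrict

/-! ### the matrix identity -/

theorem mat_ident {K : Type u} [Field K] (g : Matrix.SpecialLinearGroup (Fin 2) K) (t : K) :
    (!![0, 1; 0, 0] : Matrix (Fin 2) (Fin 2) K) *
        (t • ((g : Matrix (Fin 2) (Fin 2) K) * !![0, 1; 0, 0] *
          ((g⁻¹ : Matrix.SpecialLinearGroup (Fin 2) K) : Matrix (Fin 2) (Fin 2) K))) +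
      (t • ((g : Matrix (Fin 2) (Fin 2) K) * !![0, 1; 0, 0] *
          ((g⁻¹ : Matrix.SpecialLinearGroup (Fin 2) K) : Matrix (Fin 2) (Fin 2) K))) *
        (!![0, 1; 0, 0] : Matrix (Fin 2) (Fin 2) K) =
      (-(t * ((g : Matrix (Fin 2) (Fin 2) K) 1 0) ^ 2)) • (1 : Matrix (Fin 2) (Fin 2) K) := by
  have hg : (g : Matrix (Fin 2) (Fin 2) K) =
      !![(g : Matrix (Fin 2) (Fin 2) K) 0 0, (g : Matrix (Fin 2) (Fin 2) K) 0 1;
      (g : Matrix (Fin 2) (Fin 2) K) 1 0, (g : Matrix (Fin 2) (Fin 2) K) 1 1] := Matrix.eta_fin_two _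
  rw [Matrix.SpecialLinearGroup.coe_inv, Matrix.adjugate_fin_two]
  generalize (g : Matrix (Fin 2) (Fin 2) K) 0 0 = p at hg ⊢
  generalize (g : Matrix (Fin 2) (Fin 2) K) 0 1 = q at hg ⊢
  generalize (g : Matrix (Fin 2) (Fin 2) K) 1 0 = r at hg ⊢
  generalize (g : Matrix (Fin 2) (Fin 2) K) 1 1 = s at hg ⊢
  rw [hg]
  ext i j
  fin_cases i <;> fin_cases j <;>
    simp [Matrix.mul_apply, Fin.sum_univ_two] <;> first | ring1 | (left; ring1)

/-! ### the partner -/

/-- **T2**: a non-unipotent pair has a `λ = 1` partner -/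
theorem exists_partner [FiniteDimensional k M] (hk2 : (2 : k) ≠ 0) {a b : Module.End k M}
    (haa : a * a = 0) (hbb : b * b = 0) (hnn : ¬ IsNilpotent (th a b)) :
    ∃ g ∈ XG a b, ∃ δ : k, δ ≠ 0 ∧
      LinearMap.ker (th a ((-δ⁻¹) • ((g : Module.End k M) * a *
        ((g⁻¹ : LinearMap.GeneralLinearGroup k M) : Module.End k M))) - 1) ≠ ⊥ := by
  obtain ⟨π, hπ, hπd, hπ0⟩ := exists_irreducible_factor hnn
  haveI : Fact (Irreducible π) := ⟨hπ⟩
  set θ := th a b with hθ
  set S := LinearMap.ker (aeval θ π) with hS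
  have hSne : S ≠ ⊥ := ker_aeval_ne_bot hπ hπd
  have hca : Commute (aeval θ π) a := commute_aeval (th_comm_left haa) π
  have hcb : Commute (aeval θ π) b := commute_aeval (th_comm_right hbb) π
  have hSa : ∀ x ∈ S, a x ∈ S := by
    intro x hx
    rw [hS, LinearMap.mem_ker] at hx ⊢
    have := LinearMap.congr_fun hca.eq x
    rw [Module.End.mul_apply, Module.End.mul_apply, hx, map_zero] at this
    exact this
  have hSb : ∀ x ∈ S, b x ∈ S := by
    intro x hx
    rw [hS, LinearMap.mem_ker] at hx ⊢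
    have := LinearMap.congr_fun hcb.eq x
    rw [Module.End.mul_apply, Module.End.mul_apply, hx, map_zero] at this
    exact this
  have haaS := restrict_sq_zero haa hSa
  have hbbS := restrict_sq_zero hbb hSb
  have hπS : aeval (th (a.restrict hSa) (b.restrict hSb)) π = 0 := by
    ext v
    rw [aeval_th_restrict_apply]
    have h1 : (v : M) ∈ LinearMap.ker (aeval θ π) := v.2
    rw [LinearMap.mem_ker.mp h1]; rfl
  set aS := a.restrict hSa with haS
  set bS := b.restrict hSb with hbS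
  -- the model on S
  let K := AdjoinRoot π
  let ρ := liftNC π (th aS bS) hπS
  have hα0 : AdjoinRoot.root π ≠ 0 := by
    intro h0
    rw [← AdjoinRoot.mk_X, AdjoinRoot.mk_eq_zero] at h0
    obtain ⟨q, hq⟩ := h0
    apply hπ0
    have := congrArg (Polynomial.eval 0) hq
    rw [eval_X, eval_mul] at this
    rcases mul_eq_zero.mp this.symm with h | h
    · exact h
    · exfalso
      have hXirr : Irreducible (X : k[X]) := Polynomial.irreducible_X
      have hq' : IsUnit q := by
        rcases hXirr.isUnit_or_isUnit hq with h1 | h1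
        · exact absurd h1 hπ.not_isUnit
        · exact h1
      obtain ⟨c, hc, rfl⟩ := Polynomial.isUnit_iff.mp hq'
      rw [eval_C] at h
      exact hc.ne_zero h
  let mdl : Model K aS bS :=
    { ρ := ρ.toLinearMap
      ρ_mul := fun r s => map_mul ρ r s
      ρ_a := fun r => (liftNC_commute π _ hπS (th_comm_left haaS) r).eq
      ρ_b := fun r => (liftNC_commute π _ hπS (th_comm_right hbbS) r).eq
      one_a := by
        show ρ 1 * aS = aS
        rw [map_one, one_mul]
      one_b := by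
        show ρ 1 * bS = bS
        rw [map_one, one_mul]
      aa := haaS
      bb := hbbS
      ϑ := AdjoinRoot.root π
      ϑi := (AdjoinRoot.root π)⁻¹
      hϑ := mul_inv_cancel₀ hα0
      th_eq := by
        show aS * bS + bS * aS = ρ (AdjoinRoot.root π)
        rw [liftNC_root]; rfl }
  -- helper8's element
  have halg : IsAlgebraic k (AdjoinRoot.root π) := AdjoinRoot.isAlgebraic_root hπ.ne_zero
  have hex : ∃ g ∈ Cfsg.Agent.Lib.Helper8.Slk.XX k (AdjoinRoot.root π), ∃ d : k, d ≠ 0 ∧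
      Cfsg.Agent.Lib.Helper1.Dickson.ec g ^ 2 = algebraMap k K d := by
    cases finite_or_infinite k with
    | inl h => exact Cfsg.Agent.Lib.Helper8.Slk.exists_of_finite hk2 _ halg hα0
    | inr h => exact Cfsg.Agent.Lib.Helper8.Slk.exists_of_infinite _ halg hα0
  obtain ⟨g, hg, δ, hδ, hgδ⟩ := hex
  have hg' : g ∈ Model.XR k K mdl.ϑ := hg
  obtain ⟨gM, hgM, e1, e2⟩ := exists_lift_of_mem_XG haa hbb hSa hSb (mdl.Ψ_mem_XG hg')
  refine ⟨gM, hgM, δ, hδ, ?_⟩
  intro hbot
  apply hSne
  rw [eq_bot_iff, ← hbot]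
  intro v hv
  rw [LinearMap.mem_ker, LinearMap.sub_apply, Module.End.one_apply, sub_eq_zero]
  -- compute on S
  set a'S : Module.End k S := (-δ⁻¹) • ((mdl.Ψ g : Module.End k S) * aS *
    (((mdl.Ψ g)⁻¹ : LinearMap.GeneralLinearGroup k S) : Module.End k S)) with ha'S
  set a'M : Module.End k M := (-δ⁻¹) • ((gM : Module.End k M) * a *
      ((gM⁻¹ : LinearMap.GeneralLinearGroup k M) : Module.End k M)) with ha'M
  have hcomp : ∀ w : S, a'M (w : M) = (a'S w : M) := by
    intro w
    rw [ha'S, ha'M, LinearMap.smul_apply, LinearMap.smul_apply, Module.End.mul_apply,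
      Module.End.mul_apply, Module.End.mul_apply, Module.End.mul_apply, e2 w]
    have : a ((((mdl.Ψ g)⁻¹ : LinearMap.GeneralLinearGroup k S) : Module.End k S) w : M) =
        ((aS ((((mdl.Ψ g)⁻¹ : LinearMap.GeneralLinearGroup k S) : Module.End k S) w) : S) : M) := rfl
    rw [this, e1]
    rfl
  have hE12 : mdl.Φ !![0, 1; 0, 0] = aS := by
    rw [mdl.Φ_E12]
    show ρ 1 * aS = aS
    rw [map_one, one_mul]
  have ha'Φ : a'S = mdl.Φ ((-δ⁻¹) • ((g : Matrix (Fin 2) (Fin 2) K) * !![0, 1; 0, 0] *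
      ((g⁻¹ : Matrix.SpecialLinearGroup (Fin 2) K) : Matrix (Fin 2) (Fin 2) K))) := by
    rw [ha'S, mdl.Φ_smul, ← mdl.Ψ_conj, hE12]
  have hthS : th aS a'S = 1 := by
    have h0 : th aS a'S = mdl.Φ !![0, 1; 0, 0] * mdl.Φ ((-δ⁻¹) • ((g : Matrix (Fin 2) (Fin 2) K) *
        !![0, 1; 0, 0] * ((g⁻¹ : Matrix.SpecialLinearGroup (Fin 2) K) : Matrix (Fin 2) (Fin 2) K))) +
        mdl.Φ ((-δ⁻¹) • ((g : Matrix (Fin 2) (Fin 2) K) *
        !![0, 1; 0, 0] * ((g⁻¹ : Matrix.SpecialLinearGroup (Fin 2) K) : Matrix (Fin 2) (Fin 2) K))) *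
        mdl.Φ !![0, 1; 0, 0] := by
      rw [← ha'Φ, hE12]; rfl
    rw [h0, ← mdl.Φ_mul, ← mdl.Φ_mul, ← mdl.Φ_add]
    have hsm : ((-δ⁻¹ : k) • ((g : Matrix (Fin 2) (Fin 2) K) * !![0, 1; 0, 0] *
        ((g⁻¹ : Matrix.SpecialLinearGroup (Fin 2) K) : Matrix (Fin 2) (Fin 2) K))) =
        ((algebraMap k K (-δ⁻¹)) • ((g : Matrix (Fin 2) (Fin 2) K) * !![0, 1; 0, 0] *
        ((g⁻¹ : Matrix.SpecialLinearGroup (Fin 2) K) : Matrix (Fin 2) (Fin 2) K))) := by
      rw [algebraMap_smul]
    rw [hsm, mat_ident]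
    have hec : (g : Matrix (Fin 2) (Fin 2) K) 1 0 ^ 2 = algebraMap k K δ := hgδ
    rw [hec, ← map_mul, neg_mul, inv_mul_cancel₀ hδ, map_neg, neg_neg, map_one, one_smul, mdl.Φ_one]
    show ρ 1 = 1
    exact map_one ρ
  have hth : ∀ w : S, (th a a'M) (w : M) = ((th aS a'S) w : M) := by
    intro w
    unfold th
    rw [LinearMap.add_apply, Module.End.mul_apply, Module.End.mul_apply, hcomp w,
      show a (w : M) = ((aS w : S) : M) from rfl, hcomp (aS w)]
    rfl
  have hvS : v ∈ S := hv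
  have := hth ⟨v, hvS⟩
  rw [hthS] at this
  exact this

end Cfsg.Agent.Lib.Helper2.Qp
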