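import Mathlib
import Cfsg.Agent.Lib.Helper2.Qp5

/-!
# Quadratic pairs, part 6: identities for the Weyl-conjugate `bpp a b = -ν a ν⁻¹`, Fitting lemmas,
and the torus argument (T1).
-/

set_option autoImplicit false
universe u v
open Module Matrix

namespace Cfsg.Agent.Lib.Helper2.Qp

open Cfsg.Agent.Lib.Helper1.SL2Three

variable {k : Type u} [Field k] {M : Type v} [AddCommGroup M] [Module k M]

/-! ### identities -/

/-- `ν = (1+a)(1-b)(1+a)` -/
def nuE (a b : Module.End k M) : Module.End k M := (1 + a) * (1 - b) * (1 + a)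
/-- `ν⁻¹` -/
def nuEi (a b : Module.End k M) : Module.End k M := (1 - a) * (1 + b) * (1 - a)
/-- `b'' = -ν a ν⁻¹` -/
def bpp (a b : Module.End k M) : Module.End k M := -(nuE a b * a * nuEi a b)

section ident
variable {a b : Module.End k M}

theorem bpp_eq (haa : a * a = 0) (hbb : b * b = 0) :
    bpp a b = th a b * b - (1 - th a b) * (a * b - b * a) - (1 - th a b) * (1 - th a b) * a := by
  have ka : ∀ x : Module.End k M, x * a * a = 0 := fun x => by rw [mul_assoc, haa, mul_zero]
  have kb : ∀ x : Module.End k M, x * b * b = 0 := fun x => by rw [mul_assoc, hbb, mul_zero]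
  unfold bpp nuE nuEi th
  simp only [mul_add, add_mul, mul_sub, sub_mul, mul_one, one_mul, neg_mul, mul_neg,
    ← mul_assoc, haa, hbb, ka, kb, zero_mul, mul_zero, add_zero,
    zero_add, sub_zero, zero_sub, neg_zero, neg_neg, neg_add, neg_sub]
  abel

theorem th_bpp (haa : a * a = 0) (hbb : b * b = 0) :
    th b (bpp a b) = -((1 - th a b) * (1 - th a b) * th a b) := by
  have ka : ∀ x : Module.End k M, x * a * a = 0 := fun x => by rw [mul_assoc, haa, mul_zero]
  have kb : ∀ x : Module.End k M, x * b * b = 0 := fun x => by rw [mul_assoc, hbb, mul_zero]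
  rw [bpp_eq haa hbb]
  unfold th
  simp only [mul_add, add_mul, mul_sub, sub_mul, mul_one, one_mul, neg_mul, mul_neg,
    ← mul_assoc, haa, hbb, ka, kb, zero_mul, mul_zero, add_zero,
    zero_add, sub_zero, zero_sub, neg_zero, neg_neg, neg_add, neg_sub]
  abel

theorem comm_bpp (haa : a * a = 0) (hbb : b * b = 0) :
    b * bpp a b - bpp a b * b =
      -((2 : k) • ((1 - th a b) * th a b * b)) +
        (1 - th a b) * (1 - th a b) * (a * b - b * a) := by
  have ka : ∀ x : Module.End k M, x * a * a = 0 := fun x => by rw [mul_assoc, haa, mul_zero]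
  have kb : ∀ x : Module.End k M, x * b * b = 0 := fun x => by rw [mul_assoc, hbb, mul_zero]
  rw [bpp_eq haa hbb]
  unfold th
  simp only [mul_add, add_mul, mul_sub, sub_mul, mul_one, one_mul, neg_mul, mul_neg,
    ← mul_assoc, haa, hbb, ka, kb, zero_mul, mul_zero, add_zero,
    zero_add, sub_zero, zero_sub, neg_zero, neg_neg, neg_add, neg_sub, smul_add, smul_sub, smul_neg]
  module

theorem th_comm_bpp (haa : a * a = 0) (hbb : b * b = 0) :
    th a (b * bpp a b - bpp a b * b) = -((2 : k) • ((1 - th a b) * th a b * th a b)) := by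
  have ka : ∀ x : Module.End k M, x * a * a = 0 := fun x => by rw [mul_assoc, haa, mul_zero]
  have kb : ∀ x : Module.End k M, x * b * b = 0 := fun x => by rw [mul_assoc, hbb, mul_zero]
  rw [comm_bpp haa hbb]
  unfold th
  simp only [mul_add, add_mul, mul_sub, sub_mul, mul_one, one_mul, neg_mul, mul_neg,
    ← mul_assoc, haa, hbb, ka, kb, zero_mul, mul_zero, add_zero, smul_mul_assoc, mul_smul_comm,
    zero_add, sub_zero, zero_sub, neg_zero, neg_neg, neg_add, neg_sub, smul_add, smul_sub, smul_neg]
  module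

end ident

/-- the Weyl-type element `x(1) y(-1) x(1)` of `XG a b` -/
noncomputable def nuG (a b : Module.End k M) : LinearMap.GeneralLinearGroup k M :=
  uN a 1 * uN b (-1) * uN a 1

theorem nuG_mem (a b : Module.End k M) : nuG a b ∈ XG a b :=
  mul_mem (mul_mem (uN_mem_XG_left a b 1) (uN_mem_XG_right a b (-1))) (uN_mem_XG_left a b 1)

theorem nuG_val {a b : Module.End k M} (haa : a * a = 0) (hbb : b * b = 0) :
    ((nuG a b : LinearMap.GeneralLinearGroup k M) : Module.End k M) = nuE a b := by
  unfold nuG nuE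
  rw [Units.val_mul, Units.val_mul, uN_val haa, uN_val hbb, one_smul, neg_one_smul, ← sub_eq_add_neg]

theorem nuG_inv_val {a b : Module.End k M} (haa : a * a = 0) (hbb : b * b = 0) :
    (((nuG a b)⁻¹ : LinearMap.GeneralLinearGroup k M) : Module.End k M) = nuEi a b := by
  unfold nuG nuEi
  rw [_root_.mul_inv_rev, _root_.mul_inv_rev, Units.val_mul, Units.val_mul, uN_inv_val haa,
    uN_inv_val hbb, one_smul, neg_one_smul, sub_neg_eq_add, mul_assoc]

theorem bpp_conj {a b : Module.End k M} (haa : a * a = 0) (hbb : b * b = 0) :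
    bpp a b = -(((nuG a b : LinearMap.GeneralLinearGroup k M) : Module.End k M) * a *
      (((nuG a b)⁻¹ : LinearMap.GeneralLinearGroup k M) : Module.End k M)) := by
  rw [nuG_val haa hbb, nuG_inv_val haa hbb]; rfl

variable {G : Subgroup (LinearMap.GeneralLinearGroup k M)}

theorem bpp_mem_QSet {a b : Module.End k M} (ha : a ∈ QSet G) (hb : b ∈ QSet G) :
    bpp a b ∈ QSet G := by
  rw [bpp_conj ha.1 hb.1]
  exact QSet.neg (QSet.conj ha (XG_le ha hb (nuG_mem a b)))

theorem rk_bpp [FiniteDimensional k M] {a b : Module.End k M} (haa : a * a = 0) (hbb : b * b = 0) :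
    rk (bpp a b) = rk a := by
  rw [bpp_conj haa hbb, rk_neg, rk_conj]

theorem lowers_bpp {a b : Module.End k M} (haa : a * a = 0) (hbb : b * b = 0) :
    Lowers a b (bpp a b) := by
  rw [bpp_conj haa hbb]
  exact (lowers_conj haa hbb (nuG_mem a b) (lowers_left a b)).neg

/-! ### Fitting lemmas -/

section fitting
variable [FiniteDimensional k M]

theorem fitOne_inf_ker {T : Module.End k M} {x : M} (hx : x ∈ fitOne T) (h0 : T x = 0) : x = 0 := by
  obtain ⟨n, hn⟩ := Filter.eventually_atTop.mp (T.eventually_isCompl_ker_pow_range_pow)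
  have hc := hn (n + 1) (by omega)
  have h1 : x ∈ LinearMap.range (T ^ (n + 1)) := by
    unfold fitOne at hx
    exact (Submodule.mem_iInf _).mp hx (n + 1)
  have h2 : x ∈ LinearMap.ker (T ^ (n + 1)) := by
    rw [LinearMap.mem_ker, pow_succ, Module.End.mul_apply, h0, map_zero]
  have := hc.disjoint.le_bot (Submodule.mem_inf.mpr ⟨h2, h1⟩)
  exact (Submodule.mem_bot k).mp this

theorem mem_fitOne_of_fixed {T : Module.End k M} {v : M} (h : T v = v) : v ∈ fitOne T := by
  unfold fitOne
  rw [Submodule.mem_iInf]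
  intro n
  refine ⟨v, ?_⟩
  induction n with
  | zero => simp
  | succ n ih => rw [pow_succ, Module.End.mul_apply, h, ih]

theorem fitOne_mul_le {T S : Module.End k M} (h : Commute T S) : fitOne (T * S) ≤ fitOne T := by
  unfold fitOne
  rw [le_iInf_iff]
  intro n
  refine (iInf_le _ n).trans ?_
  rw [h.mul_pow]
  rintro x ⟨y, rfl⟩
  exact ⟨(S ^ n) y, rfl⟩

theorem fitOne_neg (T : Module.End k M) : fitOne (-T) = fitOne T := by
  unfold fitOne
  congr 1
  ext n
  rw [neg_pow]
  rcases neg_one_pow_eq_or (Module.End k M) n with h | h <;> rw [h]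
  · rw [one_mul]
  · rw [neg_one_mul, LinearMap.range_neg]

end fitting

end Cfsg.Agent.Lib.Helper2.Qp
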