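import Mathlib
import Cfsg.Agent.Lib.Helper2.Qp6

/-!
# Quadratic pairs, part 7: the torus argument (T1).
-/

set_option autoImplicit false
universe u v
open Module Matrix

namespace Cfsg.Agent.Lib.Helper2.Qp

open Cfsg.Agent.Lib.Helper1.SL2Three

variable {k : Type u} [Field k] {M : Type v} [AddCommGroup M] [Module k M]

theorem commute_of_mem_XG {a b T : Module.End k M} (haa : a * a = 0) (hbb : b * b = 0)
    (hTa : Commute a T) (hTb : Commute b T) {g : LinearMap.GeneralLinearGroup k M}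
    (hg : g ∈ XG a b) :
    Commute (g : Module.End k M) T ∧
      Commute (((g⁻¹ : LinearMap.GeneralLinearGroup k M)) : Module.End k M) T := by
  unfold XG at hg
  induction hg using Subgroup.closure_induction with
  | mem g hg =>
    rcases hg with ⟨c, rfl⟩ | ⟨c, rfl⟩
    · rw [uN_val haa, uN_inv_val haa]
      exact ⟨(Commute.one_left T).add_left (hTa.smul_left c),
        (Commute.one_left T).sub_left (hTa.smul_left c)⟩
    · rw [uN_val hbb, uN_inv_val hbb]
      exact ⟨(Commute.one_left T).add_left (hTb.smul_left c),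
        (Commute.one_left T).sub_left (hTb.smul_left c)⟩
  | one => exact ⟨Commute.one_left T, by rw [inv_one]; exact Commute.one_left T⟩
  | mul g h _ _ ihg ihh =>
    constructor
    · rw [Units.val_mul]; exact ihg.1.mul_left ihh.1
    · rw [_root_.mul_inv_rev, Units.val_mul]; exact ihh.2.mul_left ihg.2
  | inv g _ ih => exact ⟨ih.2, by rw [inv_inv]; exact ih.1⟩

theorem commute_zero {x y : Module.End k M} (h1 : x * y = 0) (h2 : y * x = 0) : Commute x y := by
  unfold Commute SemiconjBy; rw [h1, h2]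

/-- decomposition of `XG a b` along an orthogonal splitting `a = a₁ + a₀`, `b = b₁ + b₀` with commuting
zero-parts -/
theorem exists_decomp {a b a₁ b₁ a₀ b₀ : Module.End k M} (ha : a = a₁ + a₀) (hb : b = b₁ + b₀)
    (s1 : a₁ * a₁ = 0) (s2 : a₀ * a₀ = 0) (s3 : b₁ * b₁ = 0) (s4 : b₀ * b₀ = 0)
    (o1 : a₁ * a₀ = 0) (o2 : a₀ * a₁ = 0) (o3 : b₁ * b₀ = 0) (o4 : b₀ * b₁ = 0)
    (o5 : a₁ * b₀ = 0) (o6 : b₀ * a₁ = 0) (o7 : b₁ * a₀ = 0) (o8 : a₀ * b₁ = 0)
    (hc : a₀ * b₀ = b₀ * a₀) {g₁ : LinearMap.GeneralLinearGroup k M} (hg₁ : g₁ ∈ XG a₁ b₁) :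
    ∃ h ∈ XG a b, ∃ h₀ ∈ XG a₀ b₀, h = g₁ * h₀ := by
  -- commutation
  have C1 : ∀ g ∈ XG a₁ b₁, ∀ h₀ ∈ XG a₀ b₀, g * h₀ = h₀ * g := by
    intro g hg h₀ hh₀
    have e1 := (commute_of_mem_XG s1 s3 (commute_zero o1 o2) (commute_zero o7 o8) hg).1
    have e2 := (commute_of_mem_XG s1 s3 (commute_zero o5 o6) (commute_zero o3 o4) hg).1
    have e3 := (commute_of_mem_XG s2 s4 e1.symm e2.symm hh₀).1
    apply Units.ext
    rw [Units.val_mul, Units.val_mul]
    exact e3.symm.eq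
  have C2 : ∀ h ∈ XG a₀ b₀, ∀ h₀ ∈ XG a₀ b₀, h * h₀ = h₀ * h := by
    intro h hh h₀ hh₀
    have e1 := (commute_of_mem_XG s2 s4 (Commute.refl a₀) (show Commute b₀ a₀ from hc.symm) hh).1
    have e2 := (commute_of_mem_XG s2 s4 (show Commute a₀ b₀ from hc) (Commute.refl b₀) hh).1
    have e3 := (commute_of_mem_XG s2 s4 e1.symm e2.symm hh₀).1
    apply Units.ext
    rw [Units.val_mul, Units.val_mul]
    exact e3.symm.eq
  have haa : a * a = 0 := by
    rw [ha]; simp only [mul_add, add_mul, s1, s2, o1, o2, add_zero]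
  have hbb : b * b = 0 := by
    rw [hb]; simp only [mul_add, add_mul, s3, s4, o3, o4, add_zero]
  unfold XG at hg₁
  induction hg₁ using Subgroup.closure_induction with
  | mem g hg =>
    rcases hg with ⟨c, rfl⟩ | ⟨c, rfl⟩
    · refine ⟨uN a c, uN_mem_XG_left a b c, uN a₀ c, uN_mem_XG_left a₀ b₀ c, ?_⟩
      rw [ha]; exact ((uN_mul_orth s1 s2 o1 o2).2 c).symm
    · refine ⟨uN b c, uN_mem_XG_right a b c, uN b₀ c, uN_mem_XG_right a₀ b₀ c, ?_⟩
      rw [hb]; exact ((uN_mul_orth s3 s4 o3 o4).2 c).symm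
  | one => exact ⟨1, one_mem _, 1, one_mem _, by rw [mul_one]⟩
  | mul g g' hg hg' ihg ihg' =>
    obtain ⟨h, hh, h₀, hh₀, e⟩ := ihg
    obtain ⟨h', hh', h₀', hh₀', e'⟩ := ihg'
    refine ⟨h * h', mul_mem hh hh', h₀ * h₀', mul_mem hh₀ hh₀', ?_⟩
    have hg'' : g' ∈ XG a₁ b₁ := hg'
    rw [e, e', mul_assoc g, ← mul_assoc h₀, ← C1 g' hg'' h₀ hh₀]
    simp only [mul_assoc]
  | inv g hg ih =>
    obtain ⟨h, hh, h₀, hh₀, e⟩ := ih
    refine ⟨h⁻¹, inv_mem hh, h₀⁻¹, inv_mem hh₀, ?_⟩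
    have hg'' : g ∈ XG a₁ b₁ := hg
    rw [e, _root_.mul_inv_rev, C1 g⁻¹ (inv_mem hg'') h₀⁻¹ (inv_mem hh₀)]

theorem dgk_conj_E12 (l : k) (hl : l ≠ 0) :
    ((Cfsg.Agent.Lib.Helper8.Slk.dgk (K := k) l hl : Matrix.SpecialLinearGroup (Fin 2) k) :
        Matrix (Fin 2) (Fin 2) k) * !![0, 1; 0, 0] *
      (((Cfsg.Agent.Lib.Helper8.Slk.dgk (K := k) l hl)⁻¹ : Matrix.SpecialLinearGroup (Fin 2) k) :
        Matrix (Fin 2) (Fin 2) k) = (l ^ 2) • !![0, 1; 0, 0] := by
  rw [Matrix.SpecialLinearGroup.coe_inv, Matrix.adjugate_fin_two]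
  unfold Cfsg.Agent.Lib.Helper8.Slk.dgk Cfsg.Agent.Lib.Helper8.Slk.dg
  ext i j
  fin_cases i <;> fin_cases j <;>
    simp [Matrix.mul_apply, Fin.sum_univ_two, Algebra.algebraMap_self] <;> first | ring1 | skip

variable {G : Subgroup (LinearMap.GeneralLinearGroup k M)}

/-- **T1**: the torus argument -/
theorem torus_kill [FiniteDimensional k M] (hk : ∃ l : k, l ≠ 0 ∧ l ^ 2 ≠ 1) {d : ℕ}
    (hmin : IsMinRank G d) {a b : Module.End k M} (ha : a ∈ QSet G) (hb : b ∈ QSet G)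
    (hra : rk a ≤ d)
    (h1 : (1 - th a b) * th a b * a = 0) (h2 : (1 - th a b) * th a b * b = 0)
    (hcomm : ((1 - th a b) * a) * ((1 - th a b) * b) = ((1 - th a b) * b) * ((1 - th a b) * a))
    (hne : th a b * a ≠ 0) : (1 - th a b) * a = 0 := by
  have haa := ha.1
  have hbb := hb.1
  set θ := th a b with hθ
  have hθa : Commute θ a := th_comm_left haa
  have hθb : Commute θ b := th_comm_right hbb
  have hεa : Commute (1 - θ) a := (Commute.one_left a).sub_left hθa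
  have hεb : Commute (1 - θ) b := (Commute.one_left b).sub_left hθb
  have hεθ : Commute (1 - θ) θ := (Commute.one_left θ).sub_left (Commute.refl θ)
  -- basic relations
  have r1 : θ * θ * a = θ * a := by
    have : (1 - θ) * θ * a = θ * a - θ * θ * a := by noncomm_ring
    rw [this, sub_eq_zero] at h1
    exact h1.symm
  have r2 : θ * θ * b = θ * b := by
    have : (1 - θ) * θ * b = θ * b - θ * θ * b := by noncomm_ring
    rw [this, sub_eq_zero] at h2
    exact h2.symm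
  have r3 : θ * θ * θ = θ * θ := by
    have e : θ * θ * θ = θ * θ * a * b + θ * θ * b * a := by
      have : θ * θ * θ = θ * θ * (a * b + b * a) := rfl
      rw [this, mul_add, ← mul_assoc, ← mul_assoc]
    rw [e, r1, r2]
    have : θ * θ = θ * (a * b + b * a) := rfl
    rw [this, mul_add, ← mul_assoc, ← mul_assoc]
  have r4 : θ * θ * θ * θ = θ * θ := by rw [r3, r3]
  -- the pieces
  set a₁ := θ * a with ha₁
  set b₁ := θ * b with hb₁
  set a₀ := (1 - θ) * a with ha₀
  set b₀ := (1 - θ) * b with hb₀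
  have hsa : a = a₁ + a₀ := by rw [ha₁, ha₀]; noncomm_ring
  have hsb : b = b₁ + b₀ := by rw [hb₁, hb₀]; noncomm_ring
  -- products: move central elements to the left
  have mv : ∀ (p q : Module.End k M) (x y : Module.End k M), Commute q x →
      (p * x) * (q * y) = p * q * (x * y) := by
    intro p q x y h
    rw [mul_assoc p x, ← mul_assoc x q, ← h.eq]
    simp only [mul_assoc]
  have εθ0a : (1 - θ) * θ * a = 0 := h1
  have εθ0b : (1 - θ) * θ * b = 0 := h2
  have θε0a : θ * (1 - θ) * a = 0 := by rw [← hεθ.eq]; exact h1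
  have θε0b : θ * (1 - θ) * b = 0 := by rw [← hεθ.eq]; exact h2
  have s1 : a₁ * a₁ = 0 := by rw [ha₁, mv θ θ a a hθa, haa, mul_zero]
  have s2 : a₀ * a₀ = 0 := by rw [ha₀, mv _ _ a a hεa, haa, mul_zero]
  have s3 : b₁ * b₁ = 0 := by rw [hb₁, mv θ θ b b hθb, hbb, mul_zero]
  have s4 : b₀ * b₀ = 0 := by rw [hb₀, mv _ _ b b hεb, hbb, mul_zero]
  have o1 : a₁ * a₀ = 0 := by rw [ha₁, ha₀, mv θ _ a a hεa, haa, mul_zero]
  have o2 : a₀ * a₁ = 0 := by rw [ha₁, ha₀, mv _ θ a a hθa, haa, mul_zero]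
  have o3 : b₁ * b₀ = 0 := by rw [hb₁, hb₀, mv θ _ b b hεb, hbb, mul_zero]
  have o4 : b₀ * b₁ = 0 := by rw [hb₁, hb₀, mv _ θ b b hθb, hbb, mul_zero]
  have o5 : a₁ * b₀ = 0 := by
    calc a₁ * b₀ = θ * (a * (1 - θ)) * b := by rw [ha₁, hb₀]; simp only [mul_assoc]
      _ = θ * ((1 - θ) * a) * b := by rw [hεa.eq]
      _ = (θ * (1 - θ) * a) * b := by simp only [mul_assoc]
      _ = 0 := by rw [θε0a, zero_mul]
  have o6 : b₀ * a₁ = 0 := by
    calc b₀ * a₁ = (1 - θ) * (b * θ) * a := by rw [ha₁, hb₀]; simp only [mul_assoc]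
      _ = (1 - θ) * (θ * b) * a := by rw [hθb.eq]
      _ = ((1 - θ) * θ * b) * a := by simp only [mul_assoc]
      _ = 0 := by rw [εθ0b, zero_mul]
  have o7 : b₁ * a₀ = 0 := by
    calc b₁ * a₀ = θ * (b * (1 - θ)) * a := by rw [hb₁, ha₀]; simp only [mul_assoc]
      _ = θ * ((1 - θ) * b) * a := by rw [hεb.eq]
      _ = (θ * (1 - θ) * b) * a := by simp only [mul_assoc]
      _ = 0 := by rw [θε0b, zero_mul]
  have o8 : a₀ * b₁ = 0 := by
    calc a₀ * b₁ = (1 - θ) * (a * θ) * b := by rw [hb₁, ha₀]; simp only [mul_assoc]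
      _ = (1 - θ) * (θ * a) * b := by rw [hθa.eq]
      _ = ((1 - θ) * θ * a) * b := by simp only [mul_assoc]
      _ = 0 := by rw [εθ0a, zero_mul]
  -- the model over k
  have hθθa : Commute (θ * θ) a₁ := by
    rw [ha₁]; exact ((Commute.refl θ).mul_right hθa).mul_left ((Commute.refl θ).mul_right hθa)
  have hθθb : Commute (θ * θ) b₁ := by
    rw [hb₁]; exact ((Commute.refl θ).mul_right hθb).mul_left ((Commute.refl θ).mul_right hθb)
  have one_a : θ * θ * a₁ = a₁ := by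
    rw [ha₁, ← mul_assoc, r3, r1]
  have one_b : θ * θ * b₁ = b₁ := by
    rw [hb₁, ← mul_assoc, r3, r2]
  have hth1 : a₁ * b₁ + b₁ * a₁ = θ * θ := by
    rw [ha₁, hb₁, mv θ θ a b hθa, mv θ θ b a hθb, ← mul_add]
    have : a * b + b * a = θ := rfl
    rw [this, r3]
  let mdl : Model k a₁ b₁ :=
    { ρ := LinearMap.toSpanSingleton k (Module.End k M) (θ * θ)
      ρ_mul := fun r s => by
        simp only [LinearMap.toSpanSingleton_apply]
        rw [smul_mul_assoc, mul_smul_comm, smul_smul, ← mul_assoc, r4]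
      ρ_a := fun r => by
        simp only [LinearMap.toSpanSingleton_apply]
        rw [smul_mul_assoc, mul_smul_comm, hθθa.eq]
      ρ_b := fun r => by
        simp only [LinearMap.toSpanSingleton_apply]
        rw [smul_mul_assoc, mul_smul_comm, hθθb.eq]
      one_a := by
        simp only [LinearMap.toSpanSingleton_apply]
        rw [one_smul, one_a]
      one_b := by
        simp only [LinearMap.toSpanSingleton_apply]
        rw [one_smul, one_b]
      aa := s1
      bb := s3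
      ϑ := 1
      ϑi := 1
      hϑ := mul_one 1
      th_eq := by
        simp only [LinearMap.toSpanSingleton_apply]
        rw [one_smul, hth1] }
  obtain ⟨l, hl0, hl1⟩ := hk
  -- the torus element
  have hdg : Cfsg.Agent.Lib.Helper8.Slk.dgk (K := k) l hl0 ∈ Model.XR k k mdl.ϑ :=
    Cfsg.Agent.Lib.Helper8.Slk.dgk_mem_one (K := k) l hl0
  set g₁ := mdl.Ψ (Cfsg.Agent.Lib.Helper8.Slk.dgk (K := k) l hl0) with hg₁
  have hg₁mem : g₁ ∈ XG a₁ b₁ := mdl.Ψ_mem_XG hdg
  obtain ⟨h, hh, h₀, hh₀, e⟩ := exists_decomp hsa hsb s1 s2 s3 s4 o1 o2 o3 o4 o5 o6 o7 o8 hcomm hg₁mem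
  -- Φ E12 = a₁
  have hE12 : mdl.Φ !![0, 1; 0, 0] = a₁ := by
    rw [mdl.Φ_E12]
    show (LinearMap.toSpanSingleton k (Module.End k M) (θ * θ)) 1 * a₁ = a₁
    rw [LinearMap.toSpanSingleton_apply, one_smul, one_a]
  have hconj1 : (g₁ : Module.End k M) * a₁ = (l ^ 2) • a₁ * (g₁ : Module.End k M) := by
    have := mdl.Ψ_conj (Cfsg.Agent.Lib.Helper8.Slk.dgk (K := k) l hl0) !![0, 1; 0, 0]
    rw [dgk_conj_E12, mdl.Φ_smul, hE12, ← hg₁] at this
    have h3 : ((g₁⁻¹ : LinearMap.GeneralLinearGroup k M) : Module.End k M) * (g₁ : Module.End k M) = 1 := by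
      rw [← Units.val_mul, inv_mul_cancel]; rfl
    calc (g₁ : Module.End k M) * a₁ = (g₁ : Module.End k M) * a₁ *
          (((g₁⁻¹ : LinearMap.GeneralLinearGroup k M) : Module.End k M) * (g₁ : Module.End k M)) := by
            rw [h3, mul_one]
      _ = ((g₁ : Module.End k M) * a₁ * ((g₁⁻¹ : LinearMap.GeneralLinearGroup k M) : Module.End k M)) *
          (g₁ : Module.End k M) := by simp only [mul_assoc]
      _ = _ := by rw [this]
  -- commutations
  have c1 : Commute (h₀ : Module.End k M) a₁ :=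
    (commute_of_mem_XG s2 s4 (commute_zero o2 o1) (commute_zero o6 o5) hh₀).1
  have c2 : Commute (h₀ : Module.End k M) a₀ :=
    (commute_of_mem_XG s2 s4 (Commute.refl a₀) (show Commute b₀ a₀ from hcomm.symm) hh₀).1
  have c3 : Commute (g₁ : Module.End k M) a₀ :=
    (commute_of_mem_XG s1 s3 (commute_zero o1 o2) (commute_zero o7 o8) hg₁mem).1
  have hha : (h : Module.End k M) * a = ((l ^ 2) • a₁ + a₀) * (h : Module.End k M) := by
    rw [e, Units.val_mul, hsa, mul_add, add_mul]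
    congr 1
    · rw [mul_assoc, c1.eq, ← mul_assoc, hconj1, mul_assoc]
    · rw [mul_assoc, c2.eq, ← mul_assoc, c3.eq, mul_assoc]
  have hhinv : (h : Module.End k M) * ((h⁻¹ : LinearMap.GeneralLinearGroup k M) : Module.End k M) = 1 := by
    rw [← Units.val_mul, mul_inv_cancel]; rfl
  have hconj : (h : Module.End k M) * a * ((h⁻¹ : LinearMap.GeneralLinearGroup k M) : Module.End k M) =
      (l ^ 2) • a₁ + a₀ := by
    rw [hha, mul_assoc, hhinv, mul_one]
  -- the orthogonal difference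
  have hhG : h ∈ G := XG_le ha hb hh
  have hN1 : (l ^ 2) • a₁ + a₀ ∈ QSet G := by rw [← hconj]; exact QSet.conj ha hhG
  have hN2 : (l ^ 2) • a ∈ QSet G := QSet.smul ha _
  have p1 : ((l ^ 2) • a₁ + a₀) * ((l ^ 2) • a) = 0 := by
    rw [hsa]
    simp only [mul_add, add_mul, smul_mul_assoc, mul_smul_comm, s1, s2, o1, o2, smul_zero, add_zero]
  have p2 : ((l ^ 2) • a) * ((l ^ 2) • a₁ + a₀) = 0 := by
    rw [hsa]
    simp only [mul_add, add_mul, smul_mul_assoc, mul_smul_comm, s1, s2, o1, o2, smul_zero, add_zero]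
  have hN : (l ^ 2) • a₁ + a₀ - (l ^ 2) • a ∈ QSet G := QSet.sub_orth hN1 hN2 p1 p2
  have hNeq : (l ^ 2) • a₁ + a₀ - (l ^ 2) • a = (1 - l ^ 2) • a₀ := by
    rw [hsa]; module
  rw [hNeq] at hN
  have hl2 : (1 : k) - l ^ 2 ≠ 0 := by
    intro h0; apply hl1; linear_combination -h0
  have ha₀Q : a₀ ∈ QSet G := by
    have := QSet.smul hN (1 - l ^ 2)⁻¹
    rwa [smul_smul, inv_mul_cancel₀ hl2, one_smul] at this
  -- rank
  have hrank : rk a₀ + rk a₁ ≤ rk a := by
    unfold rk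
    have hle : LinearMap.range a₀ ⊔ LinearMap.range a₁ ≤ LinearMap.range a := by
      apply sup_le
      · rintro x ⟨y, rfl⟩
        refine ⟨(1 - θ) y, ?_⟩
        have := LinearMap.congr_fun hεa.eq y
        simpa [ha₀] using this.symm
      · rintro x ⟨y, rfl⟩
        refine ⟨θ y, ?_⟩
        have := LinearMap.congr_fun hθa.eq y
        simpa [ha₁] using this.symm
    have hdisj : LinearMap.range a₀ ⊓ LinearMap.range a₁ = ⊥ := by
      rw [eq_bot_iff]
      rintro x ⟨⟨y, rfl⟩, ⟨z, hz⟩⟩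
      -- θ x = x and θ x = 0
      have e1 : θ (a₀ y) = 0 := by
        have := LinearMap.congr_fun θε0a y
        simpa [ha₀, mul_assoc] using this
      have e2 : θ (a₁ z) = a₁ z := by
        have := LinearMap.congr_fun r1 z
        simpa [ha₁, mul_assoc] using this
      rw [Submodule.mem_bot]
      rw [← hz, e2] at e1
      rw [← hz]; exact e1
    have h3 := Submodule.finrank_sup_add_finrank_inf_eq (LinearMap.range a₀) (LinearMap.range a₁)
    rw [hdisj, finrank_bot, add_zero] at h3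
    rw [← h3]
    exact Submodule.finrank_mono hle
  have ha₁pos : 0 < rk a₁ := by
    rw [Nat.pos_iff_ne_zero, Ne, rk_eq_zero_iff]
    exact hne
  exact hmin.eq_zero ha₀Q (by omega)

end Cfsg.Agent.Lib.Helper2.Qp
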