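import Mathlib
import Cfsg.Agent.Lib.Helper2.Qp7
import Cfsg.Agent.Lib.Helper2.Qp3

/-!
# Quadratic pairs, part 8: the `λ = 1` case.
-/

set_option autoImplicit false
universe u v
open Module Matrix

namespace Cfsg.Agent.Lib.Helper2.Qp

variable {k : Type u} [Field k] {M : Type v} [AddCommGroup M] [Module k M]
variable {G : Subgroup (LinearMap.GeneralLinearGroup k M)}

theorem step_A [FiniteDimensional k M] (h2 : (2 : k) ≠ 0) {d : ℕ} (hmin : IsMinRank G d)
    {a b : Module.End k M} (ha : a ∈ QSet G) (hb : b ∈ QSet G) (hra : rk a ≤ d) (hrb : rk b ≤ d)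
    (hnil : IsNilpotent ((1 - th a b) * (1 - th a b) * th a b)) :
    (1 - th a b) * (1 - th a b) * th a b * b = 0 ∧
      (b * bpp a b - bpp a b * b) ∈ QSet G ∧ rk (b * bpp a b - bpp a b * b) ≤ rk b := by
  have haa := ha.1
  have hbb := hb.1
  have hbpp := bpp_mem_QSet ha hb
  have hrbpp : rk (bpp a b) ≤ d := by rw [rk_bpp haa hbb]; exact hra
  have hn : IsNilpotent (th b (bpp a b)) := by
    rw [th_bpp haa hbb]; exact hnil.neg
  obtain ⟨u1, u2⟩ := upt' h2 hmin hb hbpp hrb hrbpp hn
  refine ⟨?_, comm_mem_QSet hb hbpp u1 u2, rk_comm_le u2⟩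
  have := th_mul_left (a := b) (b := bpp a b) hbb
  rw [u1, th_bpp haa hbb, neg_mul, neg_eq_zero] at this
  exact this

theorem rk_split [FiniteDimensional k M] {θ a : Module.End k M} (hθa : Commute θ a)
    (h1 : (1 - θ) * θ * a = 0) : rk ((1 - θ) * a) + rk (θ * a) ≤ rk a := by
  have hεa : Commute (1 - θ) a := (Commute.one_left a).sub_left hθa
  have hεθ : Commute (1 - θ) θ := (Commute.one_left θ).sub_left (Commute.refl θ)
  have r1 : θ * θ * a = θ * a := by
    have : (1 - θ) * θ * a = θ * a - θ * θ * a := by noncomm_ring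
    rw [this, sub_eq_zero] at h1
    exact h1.symm
  have θε0a : θ * (1 - θ) * a = 0 := by rw [← hεθ.eq]; exact h1
  unfold rk
  have hle : LinearMap.range ((1 - θ) * a) ⊔ LinearMap.range (θ * a) ≤ LinearMap.range a := by
    apply sup_le
    · rintro x ⟨y, rfl⟩
      refine ⟨(1 - θ) y, ?_⟩
      have := LinearMap.congr_fun hεa.eq y
      simpa using this.symm
    · rintro x ⟨y, rfl⟩
      refine ⟨θ y, ?_⟩
      have := LinearMap.congr_fun hθa.eq y
      simpa using this.symm
  have hdisj : LinearMap.range ((1 - θ) * a) ⊓ LinearMap.range (θ * a) = ⊥ := by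
    rw [eq_bot_iff]
    rintro x ⟨⟨y, rfl⟩, ⟨z, hz⟩⟩
    have e1 : θ (((1 - θ) * a) y) = 0 := by
      have := LinearMap.congr_fun θε0a y
      simpa [mul_assoc] using this
    have e2 : θ ((θ * a) z) = (θ * a) z := by
      have := LinearMap.congr_fun r1 z
      simpa [mul_assoc] using this
    rw [Submodule.mem_bot]
    rw [← hz, e2] at e1
    rw [← hz]; exact e1
  have h3 := Submodule.finrank_sup_add_finrank_inf_eq (LinearMap.range ((1 - θ) * a))
    (LinearMap.range (θ * a))
  rw [hdisj, finrank_bot, add_zero] at h3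
  rw [← h3]
  exact Submodule.finrank_mono hle

theorem th_mul_ne_zero {a b : Module.End k M} (haa : a * a = 0) (hbb : b * b = 0)
    (hker : LinearMap.ker (th a b - 1) ≠ ⊥) : th a b * a ≠ 0 := by
  intro h0
  apply hker
  rw [eq_bot_iff]
  intro v hv
  rw [LinearMap.mem_ker, LinearMap.sub_apply, Module.End.one_apply, sub_eq_zero] at hv
  rw [Submodule.mem_bot]
  have hθa : Commute (th a b) a := th_comm_left haa
  have hθb : Commute (th a b) b := th_comm_right hbb
  have key : ∀ w : M, th a b w = w → a w = 0 := by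
    intro w hw
    have := LinearMap.congr_fun h0 w
    rw [hθa.eq, Module.End.mul_apply, hw] at this
    simpa using this
  have h1 : a v = 0 := key v hv
  have h2 : a (b v) = 0 := by
    apply key
    have := LinearMap.congr_fun hθb.eq v
    rw [Module.End.mul_apply, Module.End.mul_apply, hv] at this
    exact this
  have h3 : th a b v = a (b v) + b (a v) := rfl
  rw [← hv, h3, h1, h2, map_zero, add_zero]

/-- the local analysis: if `(1-θ)²θ` is nilpotent then `θ = 1` on the supports -/
theorem local_step [FiniteDimensional k M] (h2 : (2 : k) ≠ 0) (hk : ∃ l : k, l ≠ 0 ∧ l ^ 2 ≠ 1)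
    {d : ℕ} (hmin : IsMinRank G d) {a b : Module.End k M} (ha : a ∈ QSet G) (hb : b ∈ QSet G)
    (hra : rk a = d) (hrb : rk b = d) (hker : LinearMap.ker (th a b - 1) ≠ ⊥)
    (hnil : IsNilpotent ((1 - th a b) * (1 - th a b) * th a b)) :
    (th a b - 1) * a = 0 ∧ (th a b - 1) * b = 0 := by
  have haa := ha.1
  have hbb := hb.1
  obtain ⟨A1, hD, hrD⟩ := step_A h2 hmin ha hb hra.le hrb.le hnil
  have hnil' : IsNilpotent ((1 - th b a) * (1 - th b a) * th b a) := by rw [th_symm b a]; exact hnil
  obtain ⟨A2, -, -⟩ := step_A h2 hmin hb ha hrb.le hra.le hnil'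
  rw [th_symm b a] at A2
  have hDf := comm_bpp (k := k) haa hbb
  have hthD := th_comm_bpp (k := k) haa hbb
  set θ := th a b with hθ
  set D := b * bpp a b - bpp a b * b with hDdef
  have hθa : Commute θ a := th_comm_left haa
  have hθb : Commute θ b := th_comm_right hbb
  have hεa : Commute (1 - θ) a := (Commute.one_left a).sub_left hθa
  have hεb : Commute (1 - θ) b := (Commute.one_left b).sub_left hθb
  have hεθ : Commute (1 - θ) θ := (Commute.one_left θ).sub_left (Commute.refl θ)
  have hθdef : θ = a * b + b * a := rfl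
  -- S2
  have S2 : (1 - θ) * (1 - θ) * θ * θ = 0 := by
    have : (1 - θ) * (1 - θ) * θ * θ = (1 - θ) * (1 - θ) * θ * a * b + (1 - θ) * (1 - θ) * θ * b * a := by
      nth_rewrite 4 [hθdef]
      rw [mul_add, ← mul_assoc, ← mul_assoc]
    rw [this, A1, A2, zero_mul, zero_mul, add_zero]
  -- the splitting identity
  have split : (1 - θ) * θ = (1 - θ) * (1 - θ) * θ + (1 - θ) * θ * θ := by noncomm_ring
  -- F4'
  have F4 : (1 - θ) * θ * a = 0 ∧ (1 - θ) * θ * b = 0 := by
    have hεθa : Commute ((1 - θ) * θ) a := hεa.mul_left hθa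
    have hεθb : Commute ((1 - θ) * θ) b := hεb.mul_left hθb
    have expand : (1 - θ) * θ * θ = (1 - θ) * θ * a * b + (1 - θ) * θ * b * a := by
      nth_rewrite 3 [hθdef]
      rw [mul_add, ← mul_assoc, ← mul_assoc]
    by_cases hD0 : D = 0
    · -- D = 0
      have e1 : (2 : k) • ((1 - θ) * θ * b) = (1 - θ) * (1 - θ) * (a * b - b * a) := by
        rw [hD0] at hDf
        have := hDf.symm
        rw [neg_add_eq_zero] at this
        exact this
      have e2 : θ * ((1 - θ) * (1 - θ) * (a * b - b * a)) = 0 := by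
        have c : θ * ((1 - θ) * (1 - θ)) = (1 - θ) * (1 - θ) * θ := by noncomm_ring
        rw [← mul_assoc, c, mul_sub, ← mul_assoc, ← mul_assoc, A2, A1, zero_mul, zero_mul, sub_zero]
      have e3 : (1 - θ) * θ * θ * b = 0 := by
        have : θ * ((2 : k) • ((1 - θ) * θ * b)) = 0 := by rw [e1, e2]
        rw [mul_smul_comm, smul_eq_zero] at this
        rcases this with h | h
        · exact absurd h h2
        · have c : θ * ((1 - θ) * θ * b) = (1 - θ) * θ * θ * b := by
            rw [← mul_assoc, ← mul_assoc]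
            congr 1
            noncomm_ring
          rwa [c] at h
      have hb0 : (1 - θ) * θ * b = 0 := by rw [split, add_mul, A1, e3, add_zero]
      have hz : (1 - θ) * θ * θ = 0 := by
        rw [expand, hεθa.eq, mul_assoc a, hb0, mul_zero, zero_mul, add_zero]
      exact ⟨by rw [split, add_mul, A2, hz, zero_mul, add_zero], hb0⟩
    · -- D ≠ 0
      have hrD' : rk D ≤ d := hrD.trans hrb.le
      have hnD : IsNilpotent (th a D) := by
        refine ⟨2, ?_⟩
        rw [hthD, pow_two, neg_mul_neg, smul_mul_assoc, mul_smul_comm]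
        have : (1 - θ) * θ * θ * ((1 - θ) * θ * θ) = (1 - θ) * (1 - θ) * θ * θ * (θ * θ) := by
          noncomm_ring
        rw [this, S2, zero_mul, smul_zero, smul_zero]
      obtain ⟨u1, -⟩ := upt' h2 hmin ha hD hra.le hrD' hnD
      have e1 := th_mul_left (a := a) (b := D) haa
      rw [u1, hthD, neg_mul, neg_eq_zero, smul_mul_assoc, smul_eq_zero] at e1
      have e3 : (1 - θ) * θ * θ * a = 0 := by
        rcases e1 with h | h
        · exact absurd h h2
        · exact h
      have ha0 : (1 - θ) * θ * a = 0 := by rw [split, add_mul, A2, e3, add_zero]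
      have hz : (1 - θ) * θ * θ = 0 := by
        rw [expand, hεθb.eq, mul_assoc b, ha0, mul_zero, zero_mul, add_zero]
      exact ⟨ha0, by rw [split, add_mul, A1, hz, zero_mul, add_zero]⟩
  obtain ⟨F4a, F4b⟩ := F4
  -- D in terms of the zero parts
  have mv : ∀ (p q : Module.End k M) (x y : Module.End k M), Commute q x →
      (p * x) * (q * y) = p * q * (x * y) := by
    intro p q x y h
    rw [mul_assoc p x, ← mul_assoc x q, ← h.eq]
    simp only [mul_assoc]
  have hDz : D = ((1 - θ) * a) * ((1 - θ) * b) - ((1 - θ) * b) * ((1 - θ) * a) := by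
    rw [hDf, F4b, smul_zero, neg_zero, zero_add, mv _ _ a b hεa, mv _ _ b a hεb, mul_sub]
  have hbab : ((1 - θ) * b) * ((1 - θ) * a) * ((1 - θ) * b) = 0 := by
    rw [mv _ _ b a hεb, mul_assoc, ← mul_assoc (b * a), mul_assoc b a, ← hεa.eq, ← mul_assoc b, ← hεb.eq,
      mul_assoc (1 - θ) b a, mul_assoc (1 - θ) (b * a) b, ← th_mul_right (a := a) hbb, ← hθ]
    have : (1 - θ) * (1 - θ) * ((1 - θ) * (θ * b)) = (1 - θ) * (1 - θ) * ((1 - θ) * θ * b) := by
      simp only [mul_assoc]
    rw [this, F4b, mul_zero]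
  have hne_a : θ * a ≠ 0 := th_mul_ne_zero haa hbb hker
  have hne_b : θ * b ≠ 0 := by
    have hker' : LinearMap.ker (th b a - 1) ≠ ⊥ := by rw [th_symm b a]; exact hker
    have := th_mul_ne_zero hbb haa hker'
    rwa [th_symm b a] at this
  have hrk0 : rk ((1 - θ) * a) < d := by
    have h1 := rk_split hθa F4a
    have h3 : 0 < rk (θ * a) := by
      rw [Nat.pos_iff_ne_zero, Ne, rk_eq_zero_iff]; exact hne_a
    omega
  have hD0 : D = 0 := by
    apply hmin.eq_zero hD
    rw [hDz]
    exact (rk_comm_le hbab).trans_lt hrk0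
  have hcomm : ((1 - θ) * a) * ((1 - θ) * b) = ((1 - θ) * b) * ((1 - θ) * a) := by
    rw [hDz, sub_eq_zero] at hD0; exact hD0
  have Ta := torus_kill hk hmin ha hb hra.le F4a F4b hcomm hne_a
  have Tb : (1 - θ) * b = 0 := by
    have := torus_kill (a := b) (b := a) hk hmin hb ha hrb.le
      (by rw [th_symm b a]; exact F4b) (by rw [th_symm b a]; exact F4a)
      (by rw [th_symm b a]; exact hcomm.symm) (by rw [th_symm b a]; exact hne_b)
    rwa [th_symm b a] at this
  constructor
  · have : (θ - 1) * a = -((1 - θ) * a) := by noncomm_ring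
    rw [this, Ta, neg_zero]
  · have : (θ - 1) * b = -((1 - θ) * b) := by noncomm_ring
    rw [this, Tb, neg_zero]

/-- statement (α), one-sided, for all pairs whose Fitting-one part has dimension at most `n` -/
def AlphaUpTo (G : Subgroup (LinearMap.GeneralLinearGroup k M)) (d n : ℕ) : Prop :=
  ∀ a b : Module.End k M, a ∈ QSet G → b ∈ QSet G → rk a = d → rk b = d →
    ¬ IsNilpotent (th a b) → Module.finrank k (fitOne (th a b)) ≤ n →
    LinearMap.range a ≤ fitOne (th a b)

/-- the `λ = 1` case, assuming (α) for smaller Fitting-one parts -/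
theorem lam_one_of [FiniteDimensional k M] (h2 : (2 : k) ≠ 0) (hk : ∃ l : k, l ≠ 0 ∧ l ^ 2 ≠ 1)
    {d : ℕ} (hmin : IsMinRank G d) (n : ℕ) (IH : ∀ m < n, AlphaUpTo G d m)
    {a b : Module.End k M} (ha : a ∈ QSet G) (hb : b ∈ QSet G)
    (hra : rk a = d) (hrb : rk b = d) (hker : LinearMap.ker (th a b - 1) ≠ ⊥)
    (hn : Module.finrank k (fitOne (th a b)) ≤ n) :
    (th a b - 1) * a = 0 ∧ (th a b - 1) * b = 0 := by
  by_cases hnil : IsNilpotent ((1 - th a b) * (1 - th a b) * th a b)
  · exact local_step h2 hk hmin ha hb hra hrb hker hnil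
  exfalso
  have haa := ha.1
  have hbb := hb.1
  have hθa : Commute (th a b) a := th_comm_left haa
  have hθb : Commute (th a b) b := th_comm_right hbb
  obtain ⟨v, hv, hv0⟩ := Submodule.exists_mem_ne_zero_of_ne_bot hker
  rw [LinearMap.mem_ker, LinearMap.sub_apply, Module.End.one_apply, sub_eq_zero] at hv
  have hbpp := bpp_mem_QSet ha hb
  have hrbpp : rk (bpp a b) = d := by rw [rk_bpp haa hbb]; exact hra
  have hth := th_bpp (k := k) haa hbb
  have hnn : ¬ IsNilpotent (th b (bpp a b)) := by
    rw [hth]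
    intro h
    apply hnil
    have := h.neg
    rwa [neg_neg] at this
  -- vectors fixed by θ are killed by θ''
  have kill : ∀ w : M, th a b w = w → th b (bpp a b) w = 0 := by
    intro w hw
    have e : (1 - th a b) w = 0 := by
      rw [LinearMap.sub_apply, Module.End.one_apply, hw, sub_self]
    rw [hth, LinearMap.neg_apply, Module.End.mul_apply, Module.End.mul_apply, hw, e, map_zero,
      neg_zero]
  -- the measure decreases
  have hle : fitOne (th b (bpp a b)) ≤ fitOne (th a b) := by
    rw [hth, fitOne_neg]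
    have c : (1 - th a b) * (1 - th a b) * th a b = th a b * ((1 - th a b) * (1 - th a b)) := by
      noncomm_ring
    rw [c]
    apply fitOne_mul_le
    exact ((Commute.one_right _).sub_right (Commute.refl _)).mul_right
      ((Commute.one_right _).sub_right (Commute.refl _))
  have hlt : fitOne (th b (bpp a b)) < fitOne (th a b) := by
    refine lt_of_le_of_ne hle ?_
    intro heq
    apply hv0
    have h1 : v ∈ fitOne (th b (bpp a b)) := by rw [heq]; exact mem_fitOne_of_fixed hv
    exact fitOne_inf_ker h1 (kill v hv)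
  have hfin := Submodule.finrank_lt_finrank_of_lt hlt
  have hα := IH (Module.finrank k (fitOne (th b (bpp a b)))) (by omega) b (bpp a b) hb hbpp hrb hrbpp
    hnn le_rfl
  -- contradiction
  have key : ∀ w : M, th a b w = w → b w = 0 := by
    intro w hw
    have h1 : b w ∈ fitOne (th b (bpp a b)) := hα ⟨w, rfl⟩
    have h2' : th a b (b w) = b w := by
      have := LinearMap.congr_fun hθb.eq w
      rw [Module.End.mul_apply, Module.End.mul_apply, hw] at this
      exact this
    exact fitOne_inf_ker h1 (kill _ h2')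
  have h1 : b v = 0 := key v hv
  have h2' : b (a v) = 0 := by
    apply key
    have := LinearMap.congr_fun hθa.eq v
    rw [Module.End.mul_apply, Module.End.mul_apply, hv] at this
    exact this
  apply hv0
  have h3 : th a b v = a (b v) + b (a v) := rfl
  rw [← hv, h3, h1, h2', map_zero, add_zero]

/-- (α) for all pairs -/
theorem alpha_all [FiniteDimensional k M] (h2 : (2 : k) ≠ 0) (hk : ∃ l : k, l ≠ 0 ∧ l ^ 2 ≠ 1)
    {d : ℕ} (hmin : IsMinRank G d) : ∀ n, AlphaUpTo G d n := by
  intro n
  induction n using Nat.strong_induction_on with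
  | _ n IH =>
  intro a b ha hb hra hrb hnn hn
  have haa := ha.1
  have hbb := hb.1
  obtain ⟨g, hg, δ, hδ, hker⟩ := exists_partner h2 haa hbb hnn
  set a' := (-δ⁻¹) • ((g : Module.End k M) * a *
    ((g⁻¹ : LinearMap.GeneralLinearGroup k M) : Module.End k M)) with ha'
  have hδ' : (-δ⁻¹ : k) ≠ 0 := neg_ne_zero.mpr (inv_ne_zero hδ)
  have ha'Q : a' ∈ QSet G := QSet.smul (QSet.conj ha (XG_le ha hb hg)) _
  have hra' : rk a' = d := by rw [ha', rk_smul _ hδ', rk_conj]; exact hra
  have hLow : Lowers a b a' := (lowers_conj haa hbb hg (lowers_left a b)).smul _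
  have hle := fitOne_th_le haa hbb hLow
  have hn' : Module.finrank k (fitOne (th a a')) ≤ n := (Submodule.finrank_mono hle).trans hn
  obtain ⟨h1, -⟩ := lam_one_of h2 hk hmin n IH ha ha'Q hra hra' hker hn'
  have h3 : a = a * a' * a := by
    rw [sub_mul, one_mul, sub_eq_zero, th_mul_left haa] at h1
    exact h1.symm
  exact range_le_fitOne_of_lowers haa hbb hLow h3

/-- **(α)**: the members of a non-unipotent pair of minimal rank are supported on the Fitting-one
part of `θ` -/
theorem alpha [FiniteDimensional k M] (h2 : (2 : k) ≠ 0) (hk : ∃ l : k, l ≠ 0 ∧ l ^ 2 ≠ 1)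
    {d : ℕ} (hmin : IsMinRank G d) {a b : Module.End k M} (ha : a ∈ QSet G) (hb : b ∈ QSet G)
    (hra : rk a = d) (hrb : rk b = d) (hnn : ¬ IsNilpotent (th a b)) :
    LinearMap.range a ≤ fitOne (th a b) ∧ LinearMap.range b ≤ fitOne (th a b) := by
  refine ⟨alpha_all h2 hk hmin _ a b ha hb hra hrb hnn le_rfl, ?_⟩
  have := alpha_all h2 hk hmin _ b a hb ha hrb hra (by rw [th_symm b a]; exact hnn) le_rfl
  rwa [th_symm b a] at this

/-- the `λ = 1` case, unconditionally -/
theorem lam_one [FiniteDimensional k M] (h2 : (2 : k) ≠ 0) (hk : ∃ l : k, l ≠ 0 ∧ l ^ 2 ≠ 1)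
    {d : ℕ} (hmin : IsMinRank G d) {a b : Module.End k M} (ha : a ∈ QSet G) (hb : b ∈ QSet G)
    (hra : rk a = d) (hrb : rk b = d) (hker : LinearMap.ker (th a b - 1) ≠ ⊥) :
    (th a b - 1) * a = 0 ∧ (th a b - 1) * b = 0 :=
  lam_one_of h2 hk hmin _ (fun m _ => alpha_all h2 hk hmin m) ha hb hra hrb hker le_rfl

end Cfsg.Agent.Lib.Helper2.Qp
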