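import Mathlib
import Cfsg.Agent.Lib.Helper2.Qp4

/-!
# Quadratic pairs, part 9: the key lemma over a commutative ring.  For a commutative `k`-algebra
`R` with a unit `ϑ`, let `X = ⟨x(c), y(c ϑ) : c ∈ k⟩ ≤ SL₂(R)`.  If some `g ∈ X` has lower-left entry
squaring to a non-zero scalar then `x(p(ϑ)) ∈ X` for every polynomial `p`.
(Port of helper8's field version.)
-/

set_option autoImplicit false
universe u w
open Matrix Polynomial

namespace Cfsg.Agent.Lib.Helper2.Qp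

open Cfsg.Agent.Lib.Helper1.SL2Three

variable {k : Type u} [Field k] {R : Type w} [CommRing R] [Algebra k R]

local notation "SLR" => Matrix.SpecialLinearGroup (Fin 2) R
local notation "M2R" => Matrix (Fin 2) (Fin 2) R

theorem coe_mkR (A : M2R) (h : A.det = 1) : ((⟨A, h⟩ : SLR) : M2R) = A := rfl

theorem xmat_negR (t : R) : xmat R (-t) = (xmat R t)⁻¹ := by
  rw [eq_inv_iff_mul_eq_one, ← xmat_add, neg_add_cancel, xmat_zero]

theorem ymat_addR (s t : R) : ymat R (s + t) = ymat R s * ymat R t := by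
  ext i j
  rw [Matrix.SpecialLinearGroup.coe_mul, coe_ymat, coe_ymat, coe_ymat]
  fin_cases i <;> fin_cases j <;> simp [Matrix.mul_apply, Fin.sum_univ_two, add_comm]

theorem ymat_zeroR : ymat R (0 : R) = 1 := by
  ext i j
  rw [coe_ymat, Matrix.SpecialLinearGroup.coe_one]
  fin_cases i <;> fin_cases j <;> simp

theorem ymat_negR (t : R) : ymat R (-t) = (ymat R t)⁻¹ := by
  rw [eq_inv_iff_mul_eq_one, ← ymat_addR, neg_add_cancel, ymat_zeroR]

/-- `diag(l, li)` with `l li = 1` -/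
def dgR (l li : R) (h : l * li = 1) : SLR := ⟨!![l, 0; 0, li], by simp [Matrix.det_fin_two, h]⟩

@[simp] theorem coe_dgR (l li : R) (h : l * li = 1) :
    ((dgR l li h : SLR) : M2R) = !![l, 0; 0, li] := rfl

theorem dgR_mul_xmat (l li : R) (h : l * li = 1) (t : R) :
    dgR l li h * xmat R t = xmat R (l ^ 2 * t) * dgR l li h := by
  ext i j
  rw [Matrix.SpecialLinearGroup.coe_mul, Matrix.SpecialLinearGroup.coe_mul, coe_xmat, coe_xmat,
    coe_dgR]
  fin_cases i <;> fin_cases j <;> simp [Matrix.mul_apply, Fin.sum_univ_two]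
  linear_combination (-(l * t)) * h

theorem dgR_mul_ymat (l li : R) (h : l * li = 1) (t : R) :
    dgR l li h * ymat R t = ymat R (li ^ 2 * t) * dgR l li h := by
  ext i j
  rw [Matrix.SpecialLinearGroup.coe_mul, Matrix.SpecialLinearGroup.coe_mul, coe_ymat, coe_ymat,
    coe_dgR]
  fin_cases i <;> fin_cases j <;> simp [Matrix.mul_apply, Fin.sum_univ_two]
  linear_combination (-(li * t)) * h

theorem dgR_conj_xmat (l li : R) (h : l * li = 1) (t : R) :
    dgR l li h * xmat R t * (dgR l li h)⁻¹ = xmat R (l ^ 2 * t) := by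
  rw [mul_inv_eq_iff_eq_mul, dgR_mul_xmat]

theorem dgR_conj_ymat (l li : R) (h : l * li = 1) (t : R) :
    dgR l li h * ymat R t * (dgR l li h)⁻¹ = ymat R (li ^ 2 * t) := by
  rw [mul_inv_eq_iff_eq_mul, dgR_mul_ymat]

theorem dgR_inv (l li : R) (h : l * li = 1) :
    (dgR l li h)⁻¹ = dgR li l (by rw [mul_comm]; exact h) := by
  rw [inv_eq_iff_mul_eq_one]
  ext i j
  rw [Matrix.SpecialLinearGroup.coe_mul, coe_dgR, coe_dgR, Matrix.SpecialLinearGroup.coe_one]
  fin_cases i <;> fin_cases j <;> simp [Matrix.mul_apply, Fin.sum_univ_two, h, mul_comm li l]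

theorem wmat_eqR : wmat R = xmat R (-1) * ymat R 1 * xmat R (-1) := by
  ext i j
  rw [Matrix.SpecialLinearGroup.coe_mul, Matrix.SpecialLinearGroup.coe_mul, coe_xmat, coe_ymat,
    coe_wmat]
  fin_cases i <;> fin_cases j <;> simp [Matrix.mul_apply, Fin.sum_univ_two]

theorem dgR_eq (l li : R) (h : l * li = 1) :
    dgR l li h = xmat R l * ymat R (-li) * xmat R l * wmat R := by
  ext i j
  rw [Matrix.SpecialLinearGroup.coe_mul, Matrix.SpecialLinearGroup.coe_mul,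
    Matrix.SpecialLinearGroup.coe_mul, coe_xmat, coe_ymat, coe_wmat, coe_dgR]
  fin_cases i <;> fin_cases j <;> simp [Matrix.mul_apply, Fin.sum_univ_two]
  · linear_combination (-l) * h
  · linear_combination (-1 : R) * h
  · linear_combination h

theorem wmat_inv_conj_ymatR (t : R) : (wmat R)⁻¹ * ymat R t * wmat R = xmat R (-t) := by
  rw [mul_assoc, inv_mul_eq_iff_eq_mul]
  ext i j
  rw [Matrix.SpecialLinearGroup.coe_mul, Matrix.SpecialLinearGroup.coe_mul, coe_xmat, coe_ymat,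
    coe_wmat]
  fin_cases i <;> fin_cases j <;> simp [Matrix.mul_apply, Fin.sum_univ_two]

theorem xmat_conj_xmatR (a s : R) : xmat R a * xmat R s * (xmat R a)⁻¹ = xmat R s := by
  rw [mul_inv_eq_iff_eq_mul, ← xmat_add, ← xmat_add, add_comm]

/-- conjugating `x(u)` by an element whose first column is `(ξ r, r)` -/
theorem conj_xmat_eqR (g : SLR) (ξ : R) (hξ : (g : M2R) 0 0 = ξ * (g : M2R) 1 0) (u : R) :
    g * xmat R u * g⁻¹ =
      xmat R ξ * ymat R (-(((g : M2R) 1 0) ^ 2 * u)) * (xmat R ξ)⁻¹ := by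
  rw [mul_inv_eq_iff_eq_mul, ← xmat_negR]
  have hdet := det_entries g
  rw [hξ] at hdet
  ext i j
  rw [Matrix.SpecialLinearGroup.coe_mul, Matrix.SpecialLinearGroup.coe_mul,
    Matrix.SpecialLinearGroup.coe_mul, Matrix.SpecialLinearGroup.coe_mul, coe_xmat, coe_xmat,
    coe_xmat, coe_ymat]
  fin_cases i <;> fin_cases j <;> simp [Matrix.mul_apply, Fin.sum_univ_two, hξ]
  · ring
  · linear_combination (-(ξ * (g : M2R) 1 0 * u)) * hdet
  · ring
  · linear_combination (-((g : M2R) 1 0 * u)) * hdet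

/-- the symmetry swapping the two root groups, as a function -/
def phiFunR (ϑ ϑi : R) (h : ϑ * ϑi = 1) (g : SLR) : SLR :=
  ⟨!![(g : M2R) 1 1, -(ϑi * (g : M2R) 1 0); -(ϑ * (g : M2R) 0 1), (g : M2R) 0 0], by
    have := det_entries g
    rw [Matrix.det_fin_two_of]
    linear_combination this - ((g : M2R) 0 1 * (g : M2R) 1 0) * h⟩

theorem coe_phiFunR (ϑ ϑi : R) (h : ϑ * ϑi = 1) (g : SLR) :
    ((phiFunR ϑ ϑi h g : SLR) : M2R) =
      !![(g : M2R) 1 1, -(ϑi * (g : M2R) 1 0); -(ϑ * (g : M2R) 0 1), (g : M2R) 0 0] := rfl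

/-- the symmetry swapping the two root groups -/
def phiR (ϑ ϑi : R) (h : ϑ * ϑi = 1) : SLR →* SLR where
  toFun := phiFunR ϑ ϑi h
  map_one' := by
    ext i j
    rw [coe_phiFunR]
    fin_cases i <;> fin_cases j <;> simp
  map_mul' g g' := by
    ext i j
    rw [Matrix.SpecialLinearGroup.coe_mul, coe_phiFunR, coe_phiFunR, coe_phiFunR]
    fin_cases i <;> fin_cases j <;>
      simp [Matrix.mul_apply, Fin.sum_univ_two]
    · linear_combination (-((g : M2R) 1 0 * (g' : M2R) 0 1)) * h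
    · ring
    · ring
    · linear_combination (-((g : M2R) 0 1 * (g' : M2R) 1 0)) * h

theorem phiR_apply (ϑ ϑi : R) (h : ϑ * ϑi = 1) (g : SLR) : phiR ϑ ϑi h g = phiFunR ϑ ϑi h g := rfl

theorem phiR_xmat (ϑ ϑi : R) (h : ϑ * ϑi = 1) (s : R) :
    phiR ϑ ϑi h (xmat R s) = ymat R (-(ϑ * s)) := by
  ext i j
  rw [phiR_apply, coe_phiFunR]
  fin_cases i <;> fin_cases j <;> simp

theorem phiR_ymat (ϑ ϑi : R) (h : ϑ * ϑi = 1) (s : R) :
    phiR ϑ ϑi h (ymat R s) = xmat R (-(ϑi * s)) := by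
  ext i j
  rw [phiR_apply, coe_phiFunR]
  fin_cases i <;> fin_cases j <;> simp

/-! ### the group `X` -/

theorem xmat_mem_XR (ϑ : R) (c : k) : xmat R (algebraMap k R c) ∈ Model.XR k R ϑ :=
  Subgroup.subset_closure (Or.inl ⟨c, rfl⟩)

theorem ymat_mem_XR (ϑ : R) (c : k) : ymat R (algebraMap k R c * ϑ) ∈ Model.XR k R ϑ :=
  Subgroup.subset_closure (Or.inr ⟨c, rfl⟩)

theorem map_mem_of_gensR (ϑ : R) (ψ : SLR →* SLR) (Z : Subgroup SLR)
    (h1 : ∀ c : k, ψ (xmat R (algebraMap k R c)) ∈ Z)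
    (h2 : ∀ c : k, ψ (ymat R (algebraMap k R c * ϑ)) ∈ Z) {g : SLR}
    (hg : g ∈ Model.XR k R ϑ) : ψ g ∈ Z := by
  have : Model.XR k R ϑ ≤ Z.comap ψ := by
    unfold Model.XR
    rw [Subgroup.closure_le]
    rintro s (⟨c, rfl⟩ | ⟨c, rfl⟩)
    · exact h1 c
    · exact h2 c
  exact this hg

theorem phiR_mem (ϑ ϑi : R) (h : ϑ * ϑi = 1) {g : SLR} (hg : g ∈ Model.XR k R ϑ) :
    phiR ϑ ϑi h g ∈ Model.XR k R ϑ := by
  refine map_mem_of_gensR ϑ (phiR ϑ ϑi h) _ ?_ ?_ hg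
  · intro c
    rw [phiR_xmat]
    have := ymat_mem_XR (k := k) ϑ (-c)
    convert this using 2
    rw [map_neg]
    ring
  · intro c
    rw [phiR_ymat]
    have := xmat_mem_XR (k := k) ϑ (-c)
    convert this using 2
    rw [map_neg]
    linear_combination (-(algebraMap k R c)) * h

/-- `diag(l, l⁻¹)` for `l ∈ k` -/
def dgkR (R' : Type w) [CommRing R'] [Algebra k R'] (l : k) (hl : l ≠ 0) :
    Matrix.SpecialLinearGroup (Fin 2) R' :=
  dgR (algebraMap k R' l) (algebraMap k R' l⁻¹) (by rw [← map_mul, mul_inv_cancel₀ hl, map_one])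

theorem dgkR_inv (l : k) (hl : l ≠ 0) : (dgkR R l hl)⁻¹ = dgkR R l⁻¹ (inv_ne_zero hl) := by
  unfold dgkR
  rw [dgR_inv]
  congr 1
  rw [inv_inv]

theorem dgkR_conj_mem (ϑ : R) (l : k) (hl : l ≠ 0) {g : SLR} (hg : g ∈ Model.XR k R ϑ) :
    dgkR R l hl * g * (dgkR R l hl)⁻¹ ∈ Model.XR k R ϑ := by
  have := map_mem_of_gensR ϑ ((MulAut.conj (dgkR R l hl)).toMonoidHom) (Model.XR k R ϑ) ?_ ?_ hg
  · simpa using this
  · intro c
    simp only [MulEquiv.coe_toMonoidHom, MulAut.conj_apply]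
    rw [dgkR, dgR_conj_xmat, ← map_pow, ← map_mul]
    exact xmat_mem_XR ϑ _
  · intro c
    simp only [MulEquiv.coe_toMonoidHom, MulAut.conj_apply]
    rw [dgkR, dgR_conj_ymat, ← map_pow, ← mul_assoc, ← map_mul]
    exact ymat_mem_XR ϑ _

theorem dgkR_mem_normalizer (ϑ : R) (l : k) (hl : l ≠ 0) :
    dgkR R l hl ∈ Subgroup.normalizer (Model.XR k R ϑ : Set SLR) := by
  rw [Subgroup.mem_normalizer_iff]
  intro h
  constructor
  · exact dgkR_conj_mem ϑ l hl
  · intro hh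
    have := dgkR_conj_mem ϑ l⁻¹ (inv_ne_zero hl) hh
    have h2 : dgkR R l⁻¹ (inv_ne_zero hl) = (dgkR R l hl)⁻¹ := (dgkR_inv l hl).symm
    rw [h2] at this
    simpa [mul_assoc] using this

/-- a subgroup normalized by the `k`-torus has `k`-linear root parameters -/
theorem smul_closedR (hk2 : (2 : k) ≠ 0) (Y : Subgroup SLR)
    (hY : ∀ (l : k) (hl : l ≠ 0) (g : SLR), g ∈ Y → dgkR R l hl * g * (dgkR R l hl)⁻¹ ∈ Y)
    (c : k) {t : R} (ht : xmat R t ∈ Y) : xmat R (algebraMap k R c * t) ∈ Y := by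
  have hsq : ∀ p : k, xmat R (algebraMap k R p ^ 2 * t) ∈ Y := by
    intro p
    by_cases hp : p = 0
    · subst hp
      simp [xmat_zero, Y.one_mem]
    · have := hY p hp _ ht
      rwa [dgkR, dgR_conj_xmat] at this
  have h1 := hsq ((c + 1) / 2)
  have h2 := hsq ((c - 1) / 2)
  have h3 := Y.mul_mem h1 (Y.inv_mem h2)
  rw [← xmat_negR, ← xmat_add] at h3
  convert h3 using 2
  rw [← map_pow, ← map_pow, ← neg_mul, ← add_mul, ← map_neg, ← map_add]
  congr 2
  field_simp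
  ring

theorem xmat_smul_memR (hk2 : (2 : k) ≠ 0) (ϑ : R) (c : k) {t : R}
    (ht : xmat R t ∈ Model.XR k R ϑ) : xmat R (algebraMap k R c * t) ∈ Model.XR k R ϑ :=
  smul_closedR hk2 (Model.XR k R ϑ) (fun l hl _ hg => dgkR_conj_mem ϑ l hl hg) c ht

theorem xmat_smul_mem_normalizerR (hk2 : (2 : k) ≠ 0) (ϑ : R) (c : k) {t : R}
    (ht : xmat R t ∈ Subgroup.normalizer (Model.XR k R ϑ : Set SLR)) :
    xmat R (algebraMap k R c * t) ∈ Subgroup.normalizer (Model.XR k R ϑ : Set SLR) :=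
  smul_closedR hk2 (Subgroup.normalizer (Model.XR k R ϑ : Set SLR))
    (fun l hl _ hg => Subgroup.mul_mem _ (Subgroup.mul_mem _ (dgkR_mem_normalizer ϑ l hl) hg)
      (Subgroup.inv_mem _ (dgkR_mem_normalizer ϑ l hl))) c ht

theorem wmat_mem_oneR : wmat R ∈ Model.XR k R (1 : R) := by
  rw [wmat_eqR]
  have h1 : xmat R (-1) ∈ Model.XR k R (1 : R) := by
    have := xmat_mem_XR (k := k) (1 : R) (-1)
    simpa using this
  have h2 : ymat R 1 ∈ Model.XR k R (1 : R) := by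
    have := ymat_mem_XR (k := k) (1 : R) 1
    simpa using this
  exact Subgroup.mul_mem _ (Subgroup.mul_mem _ h1 h2) h1

theorem dgkR_mem_one (l : k) (hl : l ≠ 0) : dgkR R l hl ∈ Model.XR k R (1 : R) := by
  unfold dgkR
  rw [dgR_eq]
  have h1 : xmat R (algebraMap k R l) ∈ Model.XR k R (1 : R) := xmat_mem_XR 1 l
  have h2 : ymat R (-(algebraMap k R l⁻¹)) ∈ Model.XR k R (1 : R) := by
    have := ymat_mem_XR (k := k) (1 : R) (-l⁻¹)
    simpa using this
  exact Subgroup.mul_mem _ (Subgroup.mul_mem _ (Subgroup.mul_mem _ h1 h2) h1) wmat_mem_oneR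

/-- **Key lemma** over a ring: an element of `X` whose lower-left entry squares into `k^×` forces
the lower root parameters into the upper ones. -/
theorem keyR (hk2 : (2 : k) ≠ 0) (hk : ∃ l : k, l ≠ 0 ∧ l ^ 2 ≠ 1) (ϑ : R) (g : SLR)
    (hg : g ∈ Model.XR k R ϑ) (δ : k) (hδ : δ ≠ 0)
    (hgd : ((g : M2R) 1 0) ^ 2 = algebraMap k R δ) (t : R)
    (ht : ymat R t ∈ Model.XR k R ϑ) : xmat R t ∈ Model.XR k R ϑ := by
  obtain ⟨ξ, hξ⟩ : ∃ ξ : R, ξ = (g : M2R) 0 0 * ((g : M2R) 1 0 * algebraMap k R δ⁻¹) := ⟨_, rfl⟩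
  have hξ' : (g : M2R) 0 0 = ξ * (g : M2R) 1 0 := by
    have e : algebraMap k R δ * algebraMap k R δ⁻¹ = 1 := by
      rw [← map_mul, mul_inv_cancel₀ hδ, map_one]
    rw [hξ]
    linear_combination (-(g : M2R) 0 0 * algebraMap k R δ⁻¹) * hgd - ((g : M2R) 0 0) * e
  -- conjugation by x(ξ) maps SL₂(k) into X
  have hS : ∀ h : SLR, h ∈ Model.XR k R (1 : R) → xmat R ξ * h * (xmat R ξ)⁻¹ ∈ Model.XR k R ϑ := by
    intro h hh
    have := map_mem_of_gensR (1 : R) ((MulAut.conj (xmat R ξ)).toMonoidHom) (Model.XR k R ϑ) ?_ ?_ hh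
    · simpa using this
    · intro c
      simp only [MulEquiv.coe_toMonoidHom, MulAut.conj_apply]
      rw [xmat_conj_xmatR]
      exact xmat_mem_XR ϑ c
    · intro c
      simp only [MulEquiv.coe_toMonoidHom, MulAut.conj_apply]
      have e := conj_xmat_eqR g ξ hξ' (algebraMap k R (-c / δ))
      have e2 : -(((g : M2R) 1 0) ^ 2 * algebraMap k R (-c / δ)) = algebraMap k R c * 1 := by
        rw [hgd, ← map_mul, mul_one, ← map_neg]
        congr 1
        field_simp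
      rw [e2] at e
      rw [← e]
      refine Subgroup.mul_mem _ (Subgroup.mul_mem _ hg ?_) (Subgroup.inv_mem _ hg)
      exact xmat_mem_XR ϑ _
  obtain ⟨l, hl0, hl1⟩ := hk
  -- x(ξ) normalizes X
  have hN : xmat R ξ ∈ Subgroup.normalizer (Model.XR k R ϑ : Set SLR) := by
    have h1 : xmat R ξ * dgkR R l hl0 * (xmat R ξ)⁻¹ ∈
        Subgroup.normalizer (Model.XR k R ϑ : Set SLR) :=
      Subgroup.le_normalizer (hS _ (dgkR_mem_one l hl0))
    have h2 := Subgroup.mul_mem _ h1 (Subgroup.inv_mem _ (dgkR_mem_normalizer (k := k) ϑ l hl0))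
    have h3 : xmat R ξ * dgkR R l hl0 * (xmat R ξ)⁻¹ * (dgkR R l hl0)⁻¹ =
        xmat R (algebraMap k R (1 - l ^ 2) * ξ) := by
      have : xmat R ξ * dgkR R l hl0 * (xmat R ξ)⁻¹ * (dgkR R l hl0)⁻¹ =
          xmat R ξ * (dgkR R l hl0 * xmat R (-ξ) * (dgkR R l hl0)⁻¹) := by
        rw [xmat_negR]
        group
      rw [this, dgkR, dgR_conj_xmat, ← xmat_add]
      congr 1
      rw [map_sub, map_one, map_pow]
      ring
    rw [h3] at h2
    have h4 := xmat_smul_mem_normalizerR hk2 ϑ (1 - l ^ 2)⁻¹ h2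
    have h5 : (1 : k) - l ^ 2 ≠ 0 := by
      intro h
      apply hl1
      linear_combination -h
    rw [← mul_assoc, ← map_mul, inv_mul_cancel₀ h5, map_one, one_mul] at h4
    exact h4
  rw [Subgroup.mem_normalizer_iff] at hN
  have h1 := (hN _).mp ht
  have hn : xmat R ξ * wmat R * (xmat R ξ)⁻¹ ∈ Model.XR k R ϑ := hS _ wmat_mem_oneR
  have h2 := Subgroup.mul_mem _ (Subgroup.mul_mem _ (Subgroup.inv_mem _ hn) h1) hn
  have h3 : (xmat R ξ * wmat R * (xmat R ξ)⁻¹)⁻¹ * (xmat R ξ * ymat R t * (xmat R ξ)⁻¹) *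
      (xmat R ξ * wmat R * (xmat R ξ)⁻¹) =
      xmat R ξ * ((wmat R)⁻¹ * ymat R t * wmat R) * (xmat R ξ)⁻¹ := by
    group
  rw [h3, wmat_inv_conj_ymatR, xmat_conj_xmatR, xmat_negR, inv_mem_iff] at h2
  exact h2

/-- all polynomial root parameters lie in `X` -/
theorem xmat_aeval_mem (hk2 : (2 : k) ≠ 0) (hk : ∃ l : k, l ≠ 0 ∧ l ^ 2 ≠ 1) (ϑ ϑi : R)
    (hϑ : ϑ * ϑi = 1) (g : SLR) (hg : g ∈ Model.XR k R ϑ) (δ : k) (hδ : δ ≠ 0)
    (hgd : ((g : M2R) 1 0) ^ 2 = algebraMap k R δ) (p : k[X]) :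
    xmat R (aeval ϑ p) ∈ Model.XR k R ϑ := by
  have hmul : ∀ t : R, xmat R t ∈ Model.XR k R ϑ → xmat R (t * ϑ) ∈ Model.XR k R ϑ := by
    intro t ht
    have h1 := phiR_mem (k := k) ϑ ϑi hϑ ht
    rw [phiR_xmat] at h1
    have h2 := keyR hk2 hk ϑ g hg δ hδ hgd _ h1
    rw [xmat_negR, inv_mem_iff, mul_comm] at h2
    exact h2
  induction p using Polynomial.induction_on with
  | C c =>
    rw [aeval_C]
    exact xmat_mem_XR ϑ c
  | add p q hp hq =>
    rw [map_add, xmat_add]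
    exact Subgroup.mul_mem _ hp hq
  | monomial n c ih =>
    rw [pow_succ, ← mul_assoc, map_mul, aeval_X]
    exact hmul _ ih

end Cfsg.Agent.Lib.Helper2.Qp
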