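import Mathlib
import Cfsg.Agent.Lib.Helper2.Qp8
import Cfsg.Agent.Lib.Helper2.Qp9

/-!
# Quadratic pairs, part 10: the model over `k[X]/(μ)` for a monic `μ` with `μ(0) ≠ 0` killing
`a` and `b` through `θ`, injectivity of `Φ`, and the irreducibility of the annihilating polynomial.
-/

set_option autoImplicit false
universe u v w
open Module Polynomial

namespace Cfsg.Agent.Lib.Helper2.Qp

open Cfsg.Agent.Lib.Helper1.SL2Three

variable {k : Type u} [Field k] {M : Type v} [AddCommGroup M] [Module k M]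

/-! ### injectivity of `Φ` -/

namespace Model

variable {R : Type w} [CommRing R] [Algebra k R] {a b : Module.End k M} (m : Model R a b)

theorem Φ_single (i j : Fin 2) (r : R) : m.Φ (Matrix.single i j r) = m.ρ r * m.eU i j := by
  rw [Φ_apply]
  fin_cases i <;> fin_cases j <;> simp [Matrix.single_apply]

theorem Φ_scalar (r : R) : m.Φ (r • (1 : Matrix (Fin 2) (Fin 2) R)) = m.ρ r := by
  rw [Φ_apply]
  simp only [Matrix.smul_apply, Matrix.one_apply_eq, Matrix.one_apply_ne, ne_eq, zero_ne_one,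
    one_ne_zero, not_false_eq_true, smul_eq_mul, mul_one, mul_zero, map_zero, zero_mul, add_zero,
    zero_add, Fin.isValue]
  rw [eU00, eU11, ← mul_add, ← mul_add, m.th_eq, m.ρ_ϑi_ϑ, ← m.ρ_mul, mul_one]

theorem Φ_injective (hf : ∀ r : R, m.ρ r * a = 0 → r = 0) : Function.Injective m.Φ := by
  have key : ∀ x, m.Φ x = 0 → x = 0 := by
    intro x hx
    ext i j
    have h1 : m.Φ (Matrix.single 0 i 1 * x * Matrix.single j 1 1) = 0 := by
      rw [Φ_mul, Φ_mul, hx, mul_zero, zero_mul]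
    rw [Matrix.single_mul_mul_single, one_mul, mul_one, Φ_single, eU01] at h1
    exact hf _ h1
  intro x y hxy
  have := key (x - y) (by rw [Φ_sub, hxy, sub_self])
  exact sub_eq_zero.mp this

theorem Ψ_injective (hf : ∀ r : R, m.ρ r * a = 0 → r = 0) : Function.Injective m.Ψ := by
  rw [injective_iff_map_eq_one]
  intro g hg
  have h1 : ((m.Ψ g : LinearMap.GeneralLinearGroup k M) : Module.End k M) = 1 := by rw [hg]; rfl
  rw [Ψ_val, add_eq_left] at h1
  have h2 := m.Φ_injective hf (h1.trans m.Φ_zero.symm)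
  apply Subtype.ext
  rw [Matrix.SpecialLinearGroup.coe_one]
  exact sub_eq_zero.mp h2

end Model

/-! ### the model over `k[X]/(μ)` -/

section mk

variable {a b : Module.End k M} {μ : k[X]}

theorem aeval_comm (θ : Module.End k M) (p q : k[X]) :
    aeval θ p * aeval θ q = aeval θ q * aeval θ p := by
  rw [← map_mul, ← map_mul, mul_comm]

theorem aeval_mul_th (hμa : aeval (th a b) μ * a = 0) (hμb : aeval (th a b) μ * b = 0) :
    aeval (th a b) μ * th a b = 0 := by
  show aeval (th a b) μ * (a * b + b * a) = 0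
  rw [mul_add, ← mul_assoc, ← mul_assoc, hμa, hμb, zero_mul, zero_mul, add_zero]

theorem aeval_eq_divX (θ : Module.End k M) (μ : k[X]) :
    aeval θ μ = aeval θ (divX μ) * θ + algebraMap k _ (μ.coeff 0) := by
  conv_lhs => rw [← divX_mul_X_add μ]
  rw [map_add, map_mul, aeval_X, aeval_C]

theorem aeval_sq (hμa : aeval (th a b) μ * a = 0) (hμb : aeval (th a b) μ * b = 0) :
    aeval (th a b) μ * aeval (th a b) μ = μ.coeff 0 • aeval (th a b) μ := by
  have e := aeval_eq_divX (th a b) μ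
  have h0 := aeval_mul_th hμa hμb
  calc aeval (th a b) μ * aeval (th a b) μ
      = aeval (th a b) μ * (aeval (th a b) (divX μ) * th a b + algebraMap k _ (μ.coeff 0)) := by
        rw [← e]
    _ = aeval (th a b) (divX μ) * (aeval (th a b) μ * th a b) +
          μ.coeff 0 • aeval (th a b) μ := by
        rw [mul_add, ← mul_assoc, aeval_comm, mul_assoc, Algebra.algebraMap_eq_smul_one,
          mul_smul_comm, mul_one]
    _ = μ.coeff 0 • aeval (th a b) μ := by rw [h0, mul_zero, zero_add]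

/-- the idempotent `1 - μ(0)⁻¹ μ(θ)` -/
noncomputable def idem (a b : Module.End k M) (μ : k[X]) : Module.End k M :=
  1 - (μ.coeff 0)⁻¹ • aeval (th a b) μ

theorem idem_mul_a (hμa : aeval (th a b) μ * a = 0) : idem a b μ * a = a := by
  unfold idem
  rw [sub_mul, one_mul, smul_mul_assoc, hμa, smul_zero, sub_zero]

theorem aeval_mul_idem (h0 : μ.coeff 0 ≠ 0) (hμa : aeval (th a b) μ * a = 0)
    (hμb : aeval (th a b) μ * b = 0) : aeval (th a b) μ * idem a b μ = 0 := by
  unfold idem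
  rw [mul_sub, mul_one, mul_smul_comm, aeval_sq hμa hμb, smul_smul, inv_mul_cancel₀ h0, one_smul,
    sub_self]

theorem idem_mul_idem (h0 : μ.coeff 0 ≠ 0) (hμa : aeval (th a b) μ * a = 0)
    (hμb : aeval (th a b) μ * b = 0) : idem a b μ * idem a b μ = idem a b μ := by
  have := aeval_mul_idem h0 hμa hμb
  calc idem a b μ * idem a b μ
      = (1 - (μ.coeff 0)⁻¹ • aeval (th a b) μ) * idem a b μ := rfl
    _ = idem a b μ := by rw [sub_mul, one_mul, smul_mul_assoc, this, smul_zero, sub_zero]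

theorem idem_comm_aeval (p : k[X]) :
    idem a b μ * aeval (th a b) p = aeval (th a b) p * idem a b μ := by
  unfold idem
  rw [sub_mul, mul_sub, one_mul, mul_one, smul_mul_assoc, mul_smul_comm, aeval_comm]

theorem th_mul_idem (hμa : aeval (th a b) μ * a = 0) (hμb : aeval (th a b) μ * b = 0) :
    th a b * idem a b μ = th a b := by
  have h0 := aeval_mul_th hμa hμb
  have h1 : th a b * aeval (th a b) μ = 0 := by
    have := aeval_comm (th a b) X μ
    rw [aeval_X] at this
    rw [this, h0]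
  unfold idem
  rw [mul_sub, mul_one, mul_smul_comm, h1, smul_zero, sub_zero]

theorem a_mul_idem (haa : a * a = 0) (hμa : aeval (th a b) μ * a = 0) : a * idem a b μ = a := by
  unfold idem
  rw [mul_sub, mul_one, mul_smul_comm, ← (commute_aeval (th_comm_left haa) μ).eq, hμa, smul_zero,
    sub_zero]

theorem idem_mul_b (hμb : aeval (th a b) μ * b = 0) : idem a b μ * b = b := by
  unfold idem
  rw [sub_mul, one_mul, smul_mul_assoc, hμb, smul_zero, sub_zero]

theorem b_mul_idem (hbb : b * b = 0) (hμb : aeval (th a b) μ * b = 0) : b * idem a b μ = b := by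
  unfold idem
  rw [mul_sub, mul_one, mul_smul_comm, ← (commute_aeval (th_comm_right hbb) μ).eq, hμb, smul_zero,
    sub_zero]

/-- `p ↦ p(θ) e` on polynomials -/
noncomputable def rho0 (a b : Module.End k M) (μ : k[X]) : k[X] →ₗ[k] Module.End k M :=
  (LinearMap.mulRight k (idem a b μ)).comp (aeval (th a b)).toLinearMap

theorem rho0_apply (p : k[X]) : rho0 a b μ p = aeval (th a b) p * idem a b μ := rfl

/-- `ρ : k[X]/(μ) → End M` -/
noncomputable def rhoM (a b : Module.End k M) (μ : k[X]) (hμ : μ.Monic) :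
    AdjoinRoot μ →ₗ[k] Module.End k M :=
  (rho0 a b μ).comp (AdjoinRoot.modByMonicHom hμ)

theorem rhoM_mk (hμ : μ.Monic) (h0 : μ.coeff 0 ≠ 0) (hμa : aeval (th a b) μ * a = 0)
    (hμb : aeval (th a b) μ * b = 0) (p : k[X]) :
    rhoM a b μ hμ (AdjoinRoot.mk μ p) = aeval (th a b) p * idem a b μ := by
  unfold rhoM
  rw [LinearMap.comp_apply, AdjoinRoot.modByMonicHom_mk, rho0_apply, modByMonic_eq_sub_mul_div,
    map_sub, map_mul, sub_mul, aeval_comm, mul_assoc, aeval_mul_idem h0 hμa hμb, mul_zero, sub_zero]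

/-- the model -/
noncomputable def mkModel (hμ : μ.Monic) (h0 : μ.coeff 0 ≠ 0) (haa : a * a = 0) (hbb : b * b = 0)
    (hμa : aeval (th a b) μ * a = 0) (hμb : aeval (th a b) μ * b = 0) :
    Model (AdjoinRoot μ) a b where
  ρ := rhoM a b μ hμ
  ρ_mul := by
    intro r s
    induction r using AdjoinRoot.induction_on with
    | ih p =>
      induction s using AdjoinRoot.induction_on with
      | ih q =>
        rw [← map_mul, rhoM_mk hμ h0 hμa hμb, rhoM_mk hμ h0 hμa hμb, rhoM_mk hμ h0 hμa hμb, map_mul]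
        have e : idem a b μ * (aeval (th a b) q * idem a b μ) = aeval (th a b) q * idem a b μ := by
          rw [← mul_assoc, idem_comm_aeval, mul_assoc, idem_mul_idem h0 hμa hμb]
        rw [mul_assoc (aeval (th a b) p) (idem a b μ), e, mul_assoc]
  ρ_a := by
    intro r
    induction r using AdjoinRoot.induction_on with
    | ih p =>
      rw [rhoM_mk hμ h0 hμa hμb, mul_assoc, idem_mul_a hμa, ← mul_assoc,
        ← (commute_aeval (th_comm_left haa) p).eq, mul_assoc, a_mul_idem haa hμa]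
  ρ_b := by
    intro r
    induction r using AdjoinRoot.induction_on with
    | ih p =>
      rw [rhoM_mk hμ h0 hμa hμb, mul_assoc, idem_mul_b hμb, ← mul_assoc,
        ← (commute_aeval (th_comm_right hbb) p).eq, mul_assoc, b_mul_idem hbb hμb]
  one_a := by
    rw [← map_one (AdjoinRoot.mk μ), rhoM_mk hμ h0 hμa hμb, map_one, one_mul, idem_mul_a hμa]
  one_b := by
    rw [← map_one (AdjoinRoot.mk μ), rhoM_mk hμ h0 hμa hμb, map_one, one_mul, idem_mul_b hμb]
  aa := haa
  bb := hbb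
  ϑ := AdjoinRoot.root μ
  ϑi := AdjoinRoot.mk μ (C (-(μ.coeff 0)⁻¹) * divX μ)
  hϑ := by
    have e : divX μ * X = μ - C (μ.coeff 0) := by
      rw [eq_sub_iff_add_eq, divX_mul_X_add]
    have e2 : X * (C (-(μ.coeff 0)⁻¹) * divX μ) = 1 - C (μ.coeff 0)⁻¹ * μ := by
      calc X * (C (-(μ.coeff 0)⁻¹) * divX μ) = C (-(μ.coeff 0)⁻¹) * (divX μ * X) := by ring
        _ = 1 - C (μ.coeff 0)⁻¹ * μ := by
          rw [e, mul_sub, ← C_mul, neg_mul, inv_mul_cancel₀ h0, C_neg, C_neg, C_1, neg_mul]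
          ring
    rw [← AdjoinRoot.mk_X, ← map_mul, e2, map_sub, map_mul, AdjoinRoot.mk_self, mul_zero, sub_zero,
      map_one]
  th_eq := by
    rw [← AdjoinRoot.mk_X, rhoM_mk hμ h0 hμa hμb, aeval_X, th_mul_idem hμa hμb]
    rfl

end mk

/-! ### the matrix identity over a ring -/

theorem mat_identR {R : Type w} [CommRing R] (g : Matrix.SpecialLinearGroup (Fin 2) R) (t : R) :
    (!![0, 1; 0, 0] : Matrix (Fin 2) (Fin 2) R) *
        (t • ((g : Matrix (Fin 2) (Fin 2) R) * !![0, 1; 0, 0] *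
          ((g⁻¹ : Matrix.SpecialLinearGroup (Fin 2) R) : Matrix (Fin 2) (Fin 2) R))) +
      (t • ((g : Matrix (Fin 2) (Fin 2) R) * !![0, 1; 0, 0] *
          ((g⁻¹ : Matrix.SpecialLinearGroup (Fin 2) R) : Matrix (Fin 2) (Fin 2) R))) *
        (!![0, 1; 0, 0] : Matrix (Fin 2) (Fin 2) R) =
      (-(t * ((g : Matrix (Fin 2) (Fin 2) R) 1 0) ^ 2)) • (1 : Matrix (Fin 2) (Fin 2) R) := by
  have hg : (g : Matrix (Fin 2) (Fin 2) R) =
      !![(g : Matrix (Fin 2) (Fin 2) R) 0 0, (g : Matrix (Fin 2) (Fin 2) R) 0 1;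
      (g : Matrix (Fin 2) (Fin 2) R) 1 0, (g : Matrix (Fin 2) (Fin 2) R) 1 1] := Matrix.eta_fin_two _
  rw [Matrix.SpecialLinearGroup.coe_inv, Matrix.adjugate_fin_two]
  generalize (g : Matrix (Fin 2) (Fin 2) R) 0 0 = p at hg ⊢
  generalize (g : Matrix (Fin 2) (Fin 2) R) 0 1 = q at hg ⊢
  generalize (g : Matrix (Fin 2) (Fin 2) R) 1 0 = r at hg ⊢
  generalize (g : Matrix (Fin 2) (Fin 2) R) 1 1 = s at hg ⊢
  rw [hg]
  ext i j
  fin_cases i <;> fin_cases j <;>
    simp [Matrix.mul_apply, Fin.sum_univ_two] <;> ring1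

/-! ### the annihilator -/

section ann

variable [FiniteDimensional k M]

/-- the annihilator of `a` in `k[θ]` -/
def annIdeal (θ a : Module.End k M) : Ideal k[X] where
  carrier := {p | aeval θ p * a = 0}
  add_mem' := by
    intro p q hp hq
    simp only [Set.mem_setOf_eq] at hp hq ⊢
    rw [map_add, add_mul, hp, hq, add_zero]
  zero_mem' := by simp
  smul_mem' := by
    intro c p hp
    simp only [Set.mem_setOf_eq, smul_eq_mul] at hp ⊢
    rw [map_mul, mul_assoc, hp, mul_zero]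

theorem mem_annIdeal {θ a : Module.End k M} {p : k[X]} :
    p ∈ annIdeal θ a ↔ aeval θ p * a = 0 := Iff.rfl

theorem exists_gen (θ a : Module.End k M) :
    ∃ μ : k[X], μ.Monic ∧ ∀ p, aeval θ p * a = 0 ↔ μ ∣ p := by
  set I := annIdeal θ a with hI
  have hmem : minpoly k θ ∈ I := by
    rw [hI, mem_annIdeal, minpoly.aeval, zero_mul]
  have hne : minpoly k θ ≠ 0 := minpoly.ne_zero (Algebra.IsIntegral.isIntegral θ)
  have hIne : I ≠ ⊥ := by
    intro h
    rw [h, Ideal.mem_bot] at hmem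
    exact hne hmem
  have hg0 : Submodule.IsPrincipal.generator I ≠ 0 := by
    intro h
    exact hIne ((Submodule.IsPrincipal.eq_bot_iff_generator_eq_zero I).mpr h)
  set g₀ := Submodule.IsPrincipal.generator I with hg₀
  have hlc : g₀.leadingCoeff ≠ 0 := mt leadingCoeff_eq_zero.1 hg0
  refine ⟨g₀ * C g₀.leadingCoeff⁻¹, monic_mul_leadingCoeff_inv hg0, fun p => ?_⟩
  rw [← mem_annIdeal, ← hI, Submodule.IsPrincipal.mem_iff_generator_dvd I, ← hg₀]
  constructor
  · rintro ⟨q, rfl⟩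
    refine ⟨C g₀.leadingCoeff * q, ?_⟩
    have : C g₀.leadingCoeff⁻¹ * C g₀.leadingCoeff = 1 := by
      rw [← C_mul, inv_mul_cancel₀ hlc, C_1]
    calc g₀ * q = g₀ * (C g₀.leadingCoeff⁻¹ * C g₀.leadingCoeff) * q := by rw [this, mul_one]
      _ = _ := by ring
  · intro h
    exact (Dvd.intro _ rfl).trans h

theorem exists_irreducible_ann (h2 : (2 : k) ≠ 0) (hk : ∃ l : k, l ≠ 0 ∧ l ^ 2 ≠ 1)
    {G : Subgroup (LinearMap.GeneralLinearGroup k M)} {d : ℕ} (hmin : IsMinRank G d)
    {a b : Module.End k M} (ha : a ∈ QSet G) (hb : b ∈ QSet G)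
    (hra : rk a = d) (hrb : rk b = d) (hnn : ¬ IsNilpotent (th a b)) :
    ∃ π : k[X], π.Monic ∧ Irreducible π ∧ π.coeff 0 ≠ 0 ∧
      aeval (th a b) π * a = 0 ∧ aeval (th a b) π * b = 0 := by
  have haa := ha.1
  have hbb := hb.1
  obtain ⟨hRa, hRb⟩ := alpha h2 hk hmin ha hb hra hrb hnn
  have hθa : Commute (th a b) a := th_comm_left haa
  have hθb : Commute (th a b) b := th_comm_right hbb
  have ha0 : a ≠ 0 := by
    intro h
    apply hnn
    have : th a b = 0 := by
      unfold th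
      rw [h, zero_mul, mul_zero, add_zero]
    rw [this]
    exact IsNilpotent.zero
  obtain ⟨μ, hμm, hμ⟩ := exists_gen (th a b) a
  have hμa : aeval (th a b) μ * a = 0 := (hμ μ).mpr dvd_rfl
  have hμne : μ ≠ 0 := hμm.ne_zero
  -- vanishing principle
  have hvan : ∀ x : Module.End k M, LinearMap.range x ≤ fitOne (th a b) → th a b * x = 0 →
      x = 0 := by
    intro x hx h0
    ext v
    have h1 : x v ∈ fitOne (th a b) := hx ⟨v, rfl⟩
    have h2' : th a b (x v) = 0 := by
      have := LinearMap.congr_fun h0 v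
      rwa [Module.End.mul_apply] at this
    exact fitOne_inf_ker h1 h2'
  have hrange : ∀ p : k[X], LinearMap.range (aeval (th a b) p * a) ≤ LinearMap.range a := by
    intro p
    rw [(commute_aeval hθa p).eq]
    rintro _ ⟨v, rfl⟩
    exact ⟨_, rfl⟩
  -- μ(0) ≠ 0
  have h0 : μ.coeff 0 ≠ 0 := by
    intro hc
    have e : divX μ * X = μ := by
      have := divX_mul_X_add μ
      rwa [hc, C_0, add_zero] at this
    have h1 : aeval (th a b) (divX μ) * a = 0 := by
      apply hvan _ ((hrange _).trans hRa)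
      have : th a b * aeval (th a b) (divX μ) = aeval (th a b) μ := by
        conv_rhs => rw [← e, map_mul, aeval_X]
        have := aeval_comm (th a b) X (divX μ)
        rwa [aeval_X] at this
      rw [← mul_assoc, this, hμa]
    have h2' := (hμ _).mp h1
    have hd0 : divX μ ≠ 0 := by
      intro h
      rw [h, zero_mul] at e
      exact hμne e.symm
    have h3 := natDegree_le_of_dvd h2' hd0
    have h4 : μ.natDegree = (divX μ).natDegree + 1 := by
      conv_lhs => rw [← e]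
      exact natDegree_mul_X hd0
    omega
  -- μ(θ) b = 0
  have hμb : aeval (th a b) μ * b = 0 := by
    apply hvan
    · rw [(commute_aeval hθb μ).eq]
      rintro _ ⟨v, rfl⟩
      exact hRb ⟨_, rfl⟩
    · have e1 : th a b * aeval (th a b) μ = aeval (th a b) μ * th a b := by
        have := aeval_comm (th a b) X μ
        rwa [aeval_X] at this
      rw [← mul_assoc, e1, mul_assoc, th_mul_right hbb, ← mul_assoc, ← mul_assoc,
        (commute_aeval hθb μ).eq, mul_assoc b, hμa, mul_zero, zero_mul]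
  -- the model
  let m := mkModel hμm h0 haa hbb hμa hμb
  have hρ : ∀ p : k[X], m.ρ (AdjoinRoot.mk μ p) * a = aeval (th a b) p * a := by
    intro p
    show rhoM a b μ hμm (AdjoinRoot.mk μ p) * a = _
    rw [rhoM_mk hμm h0 hμa hμb, mul_assoc, idem_mul_a hμa]
  have hfaith : ∀ r : AdjoinRoot μ, m.ρ r * a = 0 → r = 0 := by
    intro r hr
    induction r using AdjoinRoot.induction_on with
    | ih p =>
      rw [hρ] at hr
      rw [AdjoinRoot.mk_eq_zero]
      exact (hμ p).mp hr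
  -- the partner
  obtain ⟨g, hg, δ, hδ, hker⟩ := exists_partner h2 haa hbb hnn
  have hδ' : (-δ⁻¹ : k) ≠ 0 := neg_ne_zero.mpr (inv_ne_zero hδ)
  have ha'Q : (-δ⁻¹) • ((g : Module.End k M) * a *
      ((g⁻¹ : LinearMap.GeneralLinearGroup k M) : Module.End k M)) ∈ QSet G :=
    QSet.smul (QSet.conj ha (XG_le ha hb hg)) _
  have hra' : rk ((-δ⁻¹) • ((g : Module.End k M) * a *
      ((g⁻¹ : LinearMap.GeneralLinearGroup k M) : Module.End k M))) = d := by
    rw [rk_smul _ hδ', rk_conj]; exact hra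
  obtain ⟨h1, -⟩ := lam_one h2 hk hmin ha ha'Q hra hra' hker
  obtain ⟨gt, hgt, hΨ⟩ := m.exists_of_mem_XG hg
  have hE12 : m.Φ !![0, 1; 0, 0] = a := by rw [m.Φ_E12, m.one_a]
  have ha'Φ : (-δ⁻¹) • ((g : Module.End k M) * a *
      ((g⁻¹ : LinearMap.GeneralLinearGroup k M) : Module.End k M)) =
      m.Φ ((-δ⁻¹) • ((gt : Matrix (Fin 2) (Fin 2) (AdjoinRoot μ)) * !![0, 1; 0, 0] *
      ((gt⁻¹ : Matrix.SpecialLinearGroup (Fin 2) (AdjoinRoot μ)) :
        Matrix (Fin 2) (Fin 2) (AdjoinRoot μ)))) := by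
    rw [m.Φ_smul, ← m.Ψ_conj, hE12, hΨ]
  have hth : th a ((-δ⁻¹) • ((g : Module.End k M) * a *
      ((g⁻¹ : LinearMap.GeneralLinearGroup k M) : Module.End k M))) =
      m.ρ (algebraMap k (AdjoinRoot μ) δ⁻¹ *
        (gt : Matrix (Fin 2) (Fin 2) (AdjoinRoot μ)) 1 0 ^ 2) := by
    rw [ha'Φ]
    have h0' : th a (m.Φ ((-δ⁻¹) • ((gt : Matrix (Fin 2) (Fin 2) (AdjoinRoot μ)) * !![0, 1; 0, 0] *
        ((gt⁻¹ : Matrix.SpecialLinearGroup (Fin 2) (AdjoinRoot μ)) :
          Matrix (Fin 2) (Fin 2) (AdjoinRoot μ))))) =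
        m.Φ !![0, 1; 0, 0] * m.Φ ((-δ⁻¹) • ((gt : Matrix (Fin 2) (Fin 2) (AdjoinRoot μ)) *
          !![0, 1; 0, 0] * ((gt⁻¹ : Matrix.SpecialLinearGroup (Fin 2) (AdjoinRoot μ)) :
          Matrix (Fin 2) (Fin 2) (AdjoinRoot μ)))) +
        m.Φ ((-δ⁻¹) • ((gt : Matrix (Fin 2) (Fin 2) (AdjoinRoot μ)) *
          !![0, 1; 0, 0] * ((gt⁻¹ : Matrix.SpecialLinearGroup (Fin 2) (AdjoinRoot μ)) :
          Matrix (Fin 2) (Fin 2) (AdjoinRoot μ)))) * m.Φ !![0, 1; 0, 0] := by
      rw [hE12]; rfl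
    rw [h0', ← m.Φ_mul, ← m.Φ_mul, ← m.Φ_add]
    have hsm : ((-δ⁻¹ : k) • ((gt : Matrix (Fin 2) (Fin 2) (AdjoinRoot μ)) * !![0, 1; 0, 0] *
        ((gt⁻¹ : Matrix.SpecialLinearGroup (Fin 2) (AdjoinRoot μ)) :
          Matrix (Fin 2) (Fin 2) (AdjoinRoot μ)))) =
        ((algebraMap k (AdjoinRoot μ) (-δ⁻¹)) •
          ((gt : Matrix (Fin 2) (Fin 2) (AdjoinRoot μ)) * !![0, 1; 0, 0] *
        ((gt⁻¹ : Matrix.SpecialLinearGroup (Fin 2) (AdjoinRoot μ)) :
          Matrix (Fin 2) (Fin 2) (AdjoinRoot μ)))) := by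
      rw [algebraMap_smul]
    rw [hsm, mat_identR, m.Φ_scalar]
    congr 1
    rw [map_neg, neg_mul, neg_neg]
  have hgd : (gt : Matrix (Fin 2) (Fin 2) (AdjoinRoot μ)) 1 0 ^ 2 =
      algebraMap k (AdjoinRoot μ) δ := by
    have e1 : m.ρ (algebraMap k (AdjoinRoot μ) δ⁻¹ *
        (gt : Matrix (Fin 2) (Fin 2) (AdjoinRoot μ)) 1 0 ^ 2 - 1) * a = 0 := by
      rw [map_sub, sub_mul, m.one_a, ← hth]
      rw [sub_mul, one_mul] at h1
      exact h1
    have e2 := hfaith _ e1
    have e3 : algebraMap k (AdjoinRoot μ) δ * algebraMap k (AdjoinRoot μ) δ⁻¹ = 1 := by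
      rw [← map_mul, mul_inv_cancel₀ hδ, map_one]
    linear_combination (algebraMap k (AdjoinRoot μ) δ) * e2 -
      ((gt : Matrix (Fin 2) (Fin 2) (AdjoinRoot μ)) 1 0 ^ 2) * e3
  -- all polynomial multiples lie in the quadratic set
  have hall : ∀ p : k[X], aeval (th a b) p * a ∈ QSet G := by
    intro p
    apply QSet.of_forall
    · rw [mul_assoc, ← mul_assoc a, ← (commute_aeval hθa p).eq, mul_assoc, haa, mul_zero, mul_zero]
    · intro c
      have hx := xmat_aeval_mem h2 hk m.ϑ m.ϑi m.hϑ gt hgt δ hδ hgd (c • p)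
      refine ⟨m.Ψ _, XG_le ha hb (m.Ψ_mem_XG hx), ?_⟩
      rw [m.Ψ_xmat, show m.ϑ = AdjoinRoot.root μ from rfl, AdjoinRoot.aeval_eq, hρ, map_smul,
        smul_mul_assoc]
  -- irreducibility
  refine ⟨μ, hμm, ?_, h0, hμa, hμb⟩
  rw [irreducible_iff]
  constructor
  · intro hu
    have h3 := (hμ 1).mpr hu.dvd
    rw [map_one, one_mul] at h3
    exact ha0 h3
  · intro p q hpq
    have hunit : ∀ p q : k[X], μ = p * q → aeval (th a b) q * a = 0 → IsUnit p := by
      intro p q hpq hq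
      obtain ⟨s, hs⟩ := (hμ q).mp hq
      have h3 : μ * 1 = μ * (p * s) := by
        rw [mul_one]
        calc μ = p * q := hpq
          _ = p * (μ * s) := by rw [← hs]
          _ = μ * (p * s) := by ring
      have h4 := mul_left_cancel₀ hμne h3
      exact IsUnit.of_mul_eq_one _ h4.symm
    by_cases hq : aeval (th a b) q * a = 0
    · exact Or.inl (hunit p q hpq hq)
    · right
      apply hunit q p (by rw [hpq, mul_comm])
      have hxQ : aeval (th a b) q * a ∈ QSet G := hall q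
      have hdx : d ≤ rk (aeval (th a b) q * a) := hmin _ hxQ hq
      have hle : LinearMap.range (aeval (th a b) q * a) ≤ LinearMap.range a := hrange q
      have heq : LinearMap.range (aeval (th a b) q * a) = LinearMap.range a := by
        apply Submodule.eq_of_le_of_finrank_le hle
        show rk a ≤ rk (aeval (th a b) q * a)
        rw [hra]; exact hdx
      have hpx : aeval (th a b) p * (aeval (th a b) q * a) = 0 := by
        rw [← mul_assoc, ← map_mul, ← hpq]; exact hμa
      ext v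
      have hv : a v ∈ LinearMap.range (aeval (th a b) q * a) := by rw [heq]; exact ⟨v, rfl⟩
      obtain ⟨w, hw⟩ := hv
      rw [Module.End.mul_apply, ← hw, ← Module.End.mul_apply, hpx]
      rfl

end ann

end Cfsg.Agent.Lib.Helper2.Qp
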