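import Mathlib
import Cfsg.Agent.Lib.Helper2.Qp10
import Cfsg.Agent.Lib.Helper8.Slk6

/-!
# Quadratic pairs, part 11: a non-unipotent pair of minimal rank generates `SL₂(k[X]/(π))`.
-/

set_option autoImplicit false
universe u v
open Module Polynomial

namespace Cfsg.Agent.Lib.Helper2.Qp

open Cfsg.Agent.Lib.Helper1.SL2Three

variable {k : Type u} [Field k] {M : Type v} [AddCommGroup M] [Module k M]

theorem adjoin_root_eq_top {π : k[X]} [Fact (Irreducible π)] :
    IsAlgebraic k (AdjoinRoot.root π) ∧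
    IntermediateField.adjoin k ({AdjoinRoot.root π} : Set (AdjoinRoot π)) = ⊤ := by
  have hπ : Irreducible π := Fact.out
  have halg : IsAlgebraic k (AdjoinRoot.root π) := AdjoinRoot.isAlgebraic_root hπ.ne_zero
  refine ⟨halg, ?_⟩
  apply IntermediateField.toSubalgebra_injective
  rw [IntermediateField.adjoin_simple_toSubalgebra_of_isAlgebraic halg,
    IntermediateField.top_toSubalgebra, AdjoinRoot.adjoinRoot_eq_top]

/-- the structure theorem: the group generated by a non-unipotent pair of minimal rank is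
`SL₂` over a simple algebraic extension; with the model and its properties -/
theorem exists_model [FiniteDimensional k M] (h2 : (2 : k) ≠ 0)
    (hk : ∃ l : k, l ≠ 0 ∧ l ^ 2 ≠ 1)
    {G : Subgroup (LinearMap.GeneralLinearGroup k M)} {d : ℕ} (hmin : IsMinRank G d)
    {a b : Module.End k M} (ha : a ∈ QSet G) (hb : b ∈ QSet G)
    (hra : rk a = d) (hrb : rk b = d) (hnn : ¬ IsNilpotent (th a b)) :
    ∃ (π : k[X]) (_ : Fact (Irreducible π)) (m : Model (AdjoinRoot π) a b),
      m.ϑ = AdjoinRoot.root π ∧ Function.Injective m.Ψ ∧ m.Ψ.range = XG a b ∧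
      (∀ p : k[X], m.ρ (AdjoinRoot.mk π p) * a = aeval (th a b) p * a) ∧
      (∀ p : k[X], m.ρ (AdjoinRoot.mk π p) * b = aeval (th a b) p * b) := by
  have haa := ha.1
  have hbb := hb.1
  have ha0 : a ≠ 0 := by
    intro h
    apply hnn
    have : th a b = 0 := by
      unfold th
      rw [h, zero_mul, mul_zero, add_zero]
    rw [this]
    exact IsNilpotent.zero
  obtain ⟨π, hπm, hπi, h0, hπa, hπb⟩ := exists_irreducible_ann h2 hk hmin ha hb hra hrb hnn
  haveI hF : Fact (Irreducible π) := ⟨hπi⟩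
  let m := mkModel hπm h0 haa hbb hπa hπb
  have hϑ : m.ϑ = AdjoinRoot.root π := rfl
  have hroot0 : AdjoinRoot.root π ≠ 0 := left_ne_zero_of_mul_eq_one m.hϑ
  obtain ⟨halg, hadj⟩ := adjoin_root_eq_top (π := π)
  have hex : ∃ g ∈ Cfsg.Agent.Lib.Helper8.Slk.XX k (AdjoinRoot.root π), ∃ d : k, d ≠ 0 ∧
      Cfsg.Agent.Lib.Helper1.Dickson.ec g ^ 2 = algebraMap k (AdjoinRoot π) d := by
    cases finite_or_infinite k with
    | inl h => exact Cfsg.Agent.Lib.Helper8.Slk.exists_of_finite h2 _ halg hroot0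
    | inr h => exact Cfsg.Agent.Lib.Helper8.Slk.exists_of_infinite _ halg hroot0
  have hmain := Cfsg.Agent.Lib.Helper8.Slk.main_of_exists h2 hk (AdjoinRoot.root π) halg hroot0 hex
  have hX : Model.XR k (AdjoinRoot π) m.ϑ = ⊤ := by
    rw [eq_top_iff]
    intro g _
    have : g ∈ (Cfsg.Agent.Lib.Helper8.Slk.XX k (AdjoinRoot.root π) :
        Set (Matrix.SpecialLinearGroup (Fin 2) (AdjoinRoot π))) := by
      rw [hmain]
      intro i j
      rw [hadj]
      trivial
    exact this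
  have hfaith : ∀ r : AdjoinRoot π, m.ρ r * a = 0 → r = 0 := by
    intro r hr
    by_contra hr0
    apply ha0
    calc a = m.ρ 1 * a := m.one_a.symm
      _ = m.ρ (r⁻¹ * r) * a := by rw [inv_mul_cancel₀ hr0]
      _ = m.ρ r⁻¹ * (m.ρ r * a) := by rw [m.ρ_mul, mul_assoc]
      _ = 0 := by rw [hr, mul_zero]
  have hinj := m.Ψ_injective hfaith
  have hrange : m.Ψ.range = XG a b := by
    rw [← m.map_XR, hX, MonoidHom.range_eq_map]
  refine ⟨π, hF, m, hϑ, hinj, hrange, ?_, ?_⟩
  · intro p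
    show rhoM a b π hπm (AdjoinRoot.mk π p) * a = _
    rw [rhoM_mk hπm h0 hπa hπb, mul_assoc, idem_mul_a hπa]
  · intro p
    show rhoM a b π hπm (AdjoinRoot.mk π p) * b = _
    rw [rhoM_mk hπm h0 hπa hπb, mul_assoc, idem_mul_b hπb]

theorem exists_sl2_equiv [FiniteDimensional k M] (h2 : (2 : k) ≠ 0)
    (hk : ∃ l : k, l ≠ 0 ∧ l ^ 2 ≠ 1)
    {G : Subgroup (LinearMap.GeneralLinearGroup k M)} {d : ℕ} (hmin : IsMinRank G d)
    {a b : Module.End k M} (ha : a ∈ QSet G) (hb : b ∈ QSet G)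
    (hra : rk a = d) (hrb : rk b = d) (hnn : ¬ IsNilpotent (th a b)) :
    ∃ (π : k[X]) (_ : Fact (Irreducible π)),
      Nonempty (XG a b ≃* Matrix.SpecialLinearGroup (Fin 2) (AdjoinRoot π)) := by
  obtain ⟨π, hF, m, -, hinj, hrange, -, -⟩ := exists_model h2 hk hmin ha hb hra hrb hnn
  exact ⟨π, hF, ⟨(MulEquiv.subgroupCongr hrange.symm).trans (MonoidHom.ofInjective hinj).symm⟩⟩

end Cfsg.Agent.Lib.Helper2.Qp
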