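import Mathlib
import Cfsg.Agent.Lib.Helper2.Qp1

/-!
# Quadratic pairs, part 12: the structure of `E(σ)`.
`E(σ) = {g : g - 1 ∈ SCR G C R}` where `C = ker (σ - 1)`, `R = range (σ - 1)` and `SCR G C R` is the
additive group of members of `QSet G` that vanish or have kernel `C` and range `R`.
Conjugation: `g E(σ) g⁻¹ = E(g σ g⁻¹)` for `g ∈ G`.
-/

set_option autoImplicit false
universe u v
open Module

namespace Cfsg.Agent.Lib.Helper2.Qp

variable {k : Type u} [Field k] {M : Type v} [AddCommGroup M] [Module k M]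
variable {G : Subgroup (LinearMap.GeneralLinearGroup k M)}

/-- the members of `QSet G` that vanish or have kernel `C` and range `R` -/
def SCR (G : Subgroup (LinearMap.GeneralLinearGroup k M)) (C R : Submodule k M) :
    Set (Module.End k M) :=
  {N | N ∈ QSet G ∧ (N = 0 ∨ (LinearMap.ker N = C ∧ LinearMap.range N = R))}

variable {C R : Submodule k M}

theorem SCR.zero_mem : (0 : Module.End k M) ∈ SCR G C R := ⟨QSet.zero_mem, Or.inl rfl⟩

theorem SCR.neg {N : Module.End k M} (h : N ∈ SCR G C R) : -N ∈ SCR G C R := by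
  refine ⟨QSet.neg h.1, ?_⟩
  rcases h.2 with h0 | ⟨h1, h2⟩
  · left; rw [h0, neg_zero]
  · right
    refine ⟨?_, ?_⟩
    · rw [← h1]; ext v; simp
    · rw [← h2, LinearMap.range_neg]

theorem SCR.smul {N : Module.End k M} (h : N ∈ SCR G C R) (t : k) : t • N ∈ SCR G C R := by
  refine ⟨QSet.smul h.1 t, ?_⟩
  by_cases ht : t = 0
  · left; rw [ht, zero_smul]
  rcases h.2 with h0 | ⟨h1, h2⟩
  · left; rw [h0, smul_zero]
  · right
    refine ⟨?_, ?_⟩
    · rw [← h1, LinearMap.ker_smul N t ht]
    · rw [← h2, LinearMap.range_smul N t ht]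

theorem SCR.mul_eq_zero {N N' : Module.End k M} (h : N ∈ SCR G C R) (h' : N' ∈ SCR G C R) :
    N * N' = 0 := by
  rcases h.2 with h0 | ⟨h1, h2⟩
  · rw [h0, zero_mul]
  rcases h'.2 with h0' | ⟨h1', h2'⟩
  · rw [h0', mul_zero]
  ext v
  rw [Module.End.mul_apply, LinearMap.zero_apply, ← LinearMap.mem_ker, h1]
  have hv : N' v ∈ LinearMap.range N := by rw [h2, ← h2']; exact ⟨v, rfl⟩
  obtain ⟨w, hw⟩ := hv
  rw [← h1, LinearMap.mem_ker, ← hw, ← Module.End.mul_apply, h.1.1, LinearMap.zero_apply]

theorem SCR.add [FiniteDimensional k M] {d : ℕ} (hmin : IsMinRank G d) (hd : finrank k R = d)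
    {N N' : Module.End k M} (h : N ∈ SCR G C R) (h' : N' ∈ SCR G C R) : N + N' ∈ SCR G C R := by
  have hQ : N + N' ∈ QSet G :=
    QSet.add_orth h.1 h'.1 (SCR.mul_eq_zero h h') (SCR.mul_eq_zero h' h)
  refine ⟨hQ, ?_⟩
  rcases h.2 with h0 | ⟨h1, h2⟩
  · rw [h0, zero_add]; exact h'.2
  rcases h'.2 with h0' | ⟨h1', h2'⟩
  · rw [h0', add_zero]; exact Or.inr ⟨h1, h2⟩
  by_cases hs : N + N' = 0
  · exact Or.inl hs
  right
  have hr : LinearMap.range (N + N') = R := by
    apply Submodule.eq_of_le_of_finrank_le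
    · rintro _ ⟨v, rfl⟩
      rw [LinearMap.add_apply]
      exact Submodule.add_mem _ (h2 ▸ ⟨v, rfl⟩) (h2' ▸ ⟨v, rfl⟩)
    · rw [hd]; exact hmin _ hQ hs
  refine ⟨?_, hr⟩
  symm
  apply Submodule.eq_of_le_of_finrank_le
  · intro v hv
    have hv1 : N v = 0 := by rw [← LinearMap.mem_ker, h1]; exact hv
    have hv2 : N' v = 0 := by rw [← LinearMap.mem_ker, h1']; exact hv
    rw [LinearMap.mem_ker, LinearMap.add_apply, hv1, hv2, add_zero]
  · have e1 := LinearMap.finrank_range_add_finrank_ker (N + N')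
    have e2 := LinearMap.finrank_range_add_finrank_ker N
    rw [hr] at e1
    rw [h2, h1] at e2
    omega

/-! ### kernels and ranges of conjugates -/

theorem inv_mul_val (g : LinearMap.GeneralLinearGroup k M) :
    ((g⁻¹ : LinearMap.GeneralLinearGroup k M) : Module.End k M) * (g : Module.End k M) = 1 := by
  rw [← Units.val_mul, inv_mul_cancel]; rfl

theorem mul_inv_val (g : LinearMap.GeneralLinearGroup k M) :
    (g : Module.End k M) * ((g⁻¹ : LinearMap.GeneralLinearGroup k M) : Module.End k M) = 1 := by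
  rw [← Units.val_mul, mul_inv_cancel]; rfl

theorem inv_apply_apply (g : LinearMap.GeneralLinearGroup k M) (v : M) :
    ((g⁻¹ : LinearMap.GeneralLinearGroup k M) : Module.End k M) ((g : Module.End k M) v) = v := by
  rw [← Module.End.mul_apply, inv_mul_val]; rfl

theorem apply_inv_apply (g : LinearMap.GeneralLinearGroup k M) (v : M) :
    (g : Module.End k M) (((g⁻¹ : LinearMap.GeneralLinearGroup k M) : Module.End k M) v) = v := by
  rw [← Module.End.mul_apply, mul_inv_val]; rfl

theorem ker_conj (g : LinearMap.GeneralLinearGroup k M) (N : Module.End k M) :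
    LinearMap.ker ((g : Module.End k M) * N *
      ((g⁻¹ : LinearMap.GeneralLinearGroup k M) : Module.End k M)) =
      (LinearMap.ker N).map (g : Module.End k M) := by
  ext v
  rw [LinearMap.mem_ker, Submodule.mem_map]
  constructor
  · intro hv
    refine ⟨((g⁻¹ : LinearMap.GeneralLinearGroup k M) : Module.End k M) v, ?_, apply_inv_apply g v⟩
    rw [LinearMap.mem_ker]
    rw [Module.End.mul_apply, Module.End.mul_apply] at hv
    have := congrArg (((g⁻¹ : LinearMap.GeneralLinearGroup k M) : Module.End k M)) hv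
    rwa [inv_apply_apply, map_zero] at this
  · rintro ⟨w, hw, rfl⟩
    rw [LinearMap.mem_ker] at hw
    rw [Module.End.mul_apply, Module.End.mul_apply, inv_apply_apply, hw, map_zero]

theorem range_conj (g : LinearMap.GeneralLinearGroup k M) (N : Module.End k M) :
    LinearMap.range ((g : Module.End k M) * N *
      ((g⁻¹ : LinearMap.GeneralLinearGroup k M) : Module.End k M)) =
      (LinearMap.range N).map (g : Module.End k M) := by
  ext v
  rw [Submodule.mem_map]
  constructor
  · rintro ⟨w, rfl⟩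
    exact ⟨N (((g⁻¹ : LinearMap.GeneralLinearGroup k M) : Module.End k M) w), ⟨_, rfl⟩, rfl⟩
  · rintro ⟨_, ⟨w, rfl⟩, rfl⟩
    refine ⟨(g : Module.End k M) w, ?_⟩
    rw [Module.End.mul_apply, Module.End.mul_apply, inv_apply_apply]

theorem conj_sub_one (g σ : LinearMap.GeneralLinearGroup k M) :
    ((g * σ * g⁻¹ : LinearMap.GeneralLinearGroup k M) : Module.End k M) - 1 =
      (g : Module.End k M) * ((σ : Module.End k M) - 1) *
        ((g⁻¹ : LinearMap.GeneralLinearGroup k M) : Module.End k M) := by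
  rw [Units.val_mul, Units.val_mul, mul_sub, sub_mul, mul_one, mul_inv_val]

/-! ### `E(σ)` -/

section fd

variable [FiniteDimensional k M]

theorem eq_uN_of_sub_one (g : LinearMap.GeneralLinearGroup k M)
    (h : ((g : Module.End k M) - 1) * ((g : Module.End k M) - 1) = 0) :
    g = uN ((g : Module.End k M) - 1) 1 := by
  apply Units.ext
  rw [uN_val h, one_smul, add_sub_cancel]

theorem mem_sameActionClass_iff {σ : LinearMap.GeneralLinearGroup k M}
    (hσ : σ ∈ Cfsg.minimalQuadraticElements G) (g : LinearMap.GeneralLinearGroup k M) :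
    g ∈ Cfsg.sameActionClass G σ ↔
      ((g : Module.End k M) - 1 ∈ SCR G (LinearMap.ker ((σ : Module.End k M) - 1))
        (LinearMap.range ((σ : Module.End k M) - 1)) ∧ (g : Module.End k M) - 1 ≠ 0) := by
  constructor
  · rintro ⟨hg, h1, h2⟩
    obtain ⟨hQ, h0⟩ := sub_one_mem_QSet hg.1
    exact ⟨⟨hQ, Or.inr ⟨h1, h2⟩⟩, h0⟩
  · rintro ⟨⟨hQ, h⟩, h0⟩
    rcases h with h | ⟨h1, h2⟩
    · exact absurd h h0
    have hgq : g ∈ Cfsg.quadraticElements G := by
      rw [eq_uN_of_sub_one g hQ.1]
      exact mem_quadraticElements_of hQ h0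
    refine ⟨⟨hgq, fun τ hτ => ?_⟩, h1, h2⟩
    have e : Cfsg.commutatorRank g = Cfsg.commutatorRank σ := by
      unfold Cfsg.commutatorRank
      exact congrArg (fun S : Submodule k M => finrank k S) h2
    rw [e]
    exact hσ.2 τ hτ

theorem inv_val_of_sq_zero (g : LinearMap.GeneralLinearGroup k M)
    (h : ((g : Module.End k M) - 1) * ((g : Module.End k M) - 1) = 0) :
    ((g⁻¹ : LinearMap.GeneralLinearGroup k M) : Module.End k M) - 1 = -((g : Module.End k M) - 1) := by
  have e : (g : Module.End k M) * (1 - ((g : Module.End k M) - 1)) = 1 := by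
    have : (g : Module.End k M) * (1 - ((g : Module.End k M) - 1)) =
        1 - ((g : Module.End k M) - 1) * ((g : Module.End k M) - 1) := by noncomm_ring
    rw [this, h, sub_zero]
  have e2 : ((g⁻¹ : LinearMap.GeneralLinearGroup k M) : Module.End k M) =
      1 - ((g : Module.End k M) - 1) := by
    calc ((g⁻¹ : LinearMap.GeneralLinearGroup k M) : Module.End k M)
        = ((g⁻¹ : LinearMap.GeneralLinearGroup k M) : Module.End k M) *
          ((g : Module.End k M) * (1 - ((g : Module.End k M) - 1))) := by rw [e, mul_one]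
      _ = 1 - ((g : Module.End k M) - 1) := by rw [← mul_assoc, inv_mul_val, one_mul]
  rw [e2]; abel

theorem mem_sameActionSubgroup_iff {σ : LinearMap.GeneralLinearGroup k M}
    (hσ : σ ∈ Cfsg.minimalQuadraticElements G) (g : LinearMap.GeneralLinearGroup k M) :
    g ∈ Cfsg.sameActionSubgroup G σ ↔
      (g : Module.End k M) - 1 ∈ SCR G (LinearMap.ker ((σ : Module.End k M) - 1))
        (LinearMap.range ((σ : Module.End k M) - 1)) := by
  have hmin := isMinRank_of_minimal hσ
  constructor
  · intro hg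
    unfold Cfsg.sameActionSubgroup at hg
    induction hg using Subgroup.closure_induction with
    | mem g hg => exact ((mem_sameActionClass_iff hσ g).mp hg).1
    | one =>
      have : ((1 : LinearMap.GeneralLinearGroup k M) : Module.End k M) - 1 = 0 := by
        rw [Units.val_one, sub_self]
      rw [this]; exact SCR.zero_mem
    | mul g h _ _ ihg ihh =>
      have e : ((g * h : LinearMap.GeneralLinearGroup k M) : Module.End k M) - 1 =
          ((g : Module.End k M) - 1) + ((h : Module.End k M) - 1) +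
            ((g : Module.End k M) - 1) * ((h : Module.End k M) - 1) := by
        rw [Units.val_mul]; noncomm_ring
      rw [e, SCR.mul_eq_zero ihg ihh, add_zero]
      exact SCR.add hmin rfl ihg ihh
    | inv g _ ih =>
      rw [inv_val_of_sq_zero g ih.1.1]
      exact SCR.neg ih
  · intro hg
    by_cases h0 : (g : Module.End k M) - 1 = 0
    · have : g = 1 := by
        apply Units.ext
        rw [Units.val_one]
        exact sub_eq_zero.mp h0
      rw [this]; exact Subgroup.one_mem _
    · exact Subgroup.subset_closure ((mem_sameActionClass_iff hσ g).mpr ⟨hg, h0⟩)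

/-- conjugates of minimal quadratic elements -/
theorem conj_mem_minimal {σ g : LinearMap.GeneralLinearGroup k M}
    (hσ : σ ∈ Cfsg.minimalQuadraticElements G) (hg : g ∈ G) :
    g * σ * g⁻¹ ∈ Cfsg.minimalQuadraticElements G := by
  obtain ⟨hQ, h0⟩ := sub_one_mem_QSet hσ.1
  have hQ' := QSet.conj hQ hg
  rw [← conj_sub_one] at hQ'
  have h0' : ((g * σ * g⁻¹ : LinearMap.GeneralLinearGroup k M) : Module.End k M) - 1 ≠ 0 := by
    intro h
    apply h0
    rw [conj_sub_one] at h
    have := congrArg (fun T => ((g⁻¹ : LinearMap.GeneralLinearGroup k M) : Module.End k M) * T *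
      (g : Module.End k M)) h
    simp only [mul_zero, zero_mul] at this
    rw [← mul_assoc, ← mul_assoc, inv_mul_val, one_mul, mul_assoc, inv_mul_val, mul_one] at this
    exact this
  have hq : g * σ * g⁻¹ ∈ Cfsg.quadraticElements G := by
    rw [eq_uN_of_sub_one _ hQ'.1]
    exact mem_quadraticElements_of hQ' h0'
  refine ⟨hq, fun τ hτ => ?_⟩
  have e : Cfsg.commutatorRank (g * σ * g⁻¹) = Cfsg.commutatorRank σ := by
    rw [commutatorRank_eq, commutatorRank_eq, conj_sub_one, rk_conj]
  rw [e]
  exact hσ.2 τ hτ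

theorem conj_mem_sameActionClass {σ ρ g : LinearMap.GeneralLinearGroup k M}
    (hρ : ρ ∈ Cfsg.sameActionClass G σ) (hg : g ∈ G) :
    g * ρ * g⁻¹ ∈ Cfsg.sameActionClass G (g * σ * g⁻¹) := by
  obtain ⟨h1, h2, h3⟩ := hρ
  refine ⟨conj_mem_minimal h1 hg, ?_, ?_⟩
  · show LinearMap.ker (((g * ρ * g⁻¹ : LinearMap.GeneralLinearGroup k M) : Module.End k M) - 1) =
      LinearMap.ker (((g * σ * g⁻¹ : LinearMap.GeneralLinearGroup k M) : Module.End k M) - 1)
    rw [conj_sub_one, conj_sub_one, ker_conj, ker_conj]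
    exact congrArg _ h2
  · show LinearMap.range (((g * ρ * g⁻¹ : LinearMap.GeneralLinearGroup k M) : Module.End k M) - 1) =
      LinearMap.range (((g * σ * g⁻¹ : LinearMap.GeneralLinearGroup k M) : Module.End k M) - 1)
    rw [conj_sub_one, conj_sub_one, range_conj, range_conj]
    exact congrArg _ h3

theorem conjBy_sameActionSubgroup {σ g : LinearMap.GeneralLinearGroup k M} (hg : g ∈ G) :
    Cfsg.conjBy (Cfsg.sameActionSubgroup G σ) g = Cfsg.sameActionSubgroup G (g * σ * g⁻¹) := by
  unfold Cfsg.conjBy Cfsg.sameActionSubgroup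
  rw [MonoidHom.map_closure]
  congr 1
  ext ρ
  constructor
  · rintro ⟨ρ', hρ', rfl⟩
    exact conj_mem_sameActionClass hρ' hg
  · intro hρ
    refine ⟨g⁻¹ * ρ * g, ?_, ?_⟩
    · have := conj_mem_sameActionClass hρ (G.inv_mem hg)
      rw [inv_inv] at this
      have e : g⁻¹ * (g * σ * g⁻¹) * g = σ := by group
      rwa [e] at this
    · simp only [MulEquiv.coe_toMonoidHom, MulAut.conj_apply]
      group

/-- `E(σ)` only depends on the kernel and the range -/
theorem sameActionSubgroup_congr {σ τ : LinearMap.GeneralLinearGroup k M}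
    (h1 : LinearMap.ker ((σ : Module.End k M) - 1) = LinearMap.ker ((τ : Module.End k M) - 1))
    (h2 : LinearMap.range ((σ : Module.End k M) - 1) = LinearMap.range ((τ : Module.End k M) - 1)) :
    Cfsg.sameActionSubgroup G σ = Cfsg.sameActionSubgroup G τ := by
  unfold Cfsg.sameActionSubgroup Cfsg.sameActionClass
  have e1 : LinearMap.ker ((σ : M →ₗ[k] M) - 1) = LinearMap.ker ((τ : M →ₗ[k] M) - 1) := h1
  have e2 : LinearMap.range ((σ : M →ₗ[k] M) - 1) = LinearMap.range ((τ : M →ₗ[k] M) - 1) := h2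
  rw [e1, e2]

end fd

end Cfsg.Agent.Lib.Helper2.Qp
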