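import Mathlib
import Cfsg.Agent.Lib.Helper2.Qp11
import Cfsg.Agent.Lib.Helper2.Qp12

/-!
# Quadratic pairs, part 13: a general flag criterion for unipotent action; the dichotomy for two
classes `SCR G C₁ R₁`, `SCR G C₂ R₂`; existence of partners.
-/

set_option autoImplicit false
universe u v
open Module

namespace Cfsg.Agent.Lib.Helper2.Qp

open Cfsg.Agent.Lib.Helper1.SL2Three

variable {k : Type u} [Field k] {M : Type v} [AddCommGroup M] [Module k M]

/-! ### the flag criterion -/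

/-- `T` lowers the flag `F` by one step -/
def LowersF (F : ℕ → Submodule k M) (T : Module.End k M) : Prop :=
  ∀ n, ∀ x ∈ F n, T x ∈ F (n + 1)

theorem LowersF.neg {F : ℕ → Submodule k M} {T : Module.End k M} (hT : LowersF F T) :
    LowersF F (-T) := fun n x hx => by
  rw [LinearMap.neg_apply]; exact Submodule.neg_mem _ (hT n x hx)

theorem LowersF.add {F : ℕ → Submodule k M} {T S : Module.End k M} (hT : LowersF F T)
    (hS : LowersF F S) : LowersF F (T + S) := fun n x hx => by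
  rw [LinearMap.add_apply]; exact Submodule.add_mem _ (hT n x hx) (hS n x hx)

theorem LowersF.zero (F : ℕ → Submodule k M) : LowersF F 0 := fun n x _ => by
  rw [LinearMap.zero_apply]; exact Submodule.zero_mem _

/-- the property used in the closure induction -/
def LowGF (F : ℕ → Submodule k M) (g : LinearMap.GeneralLinearGroup k M) : Prop :=
  LowersF F ((g : Module.End k M) - 1) ∧
    LowersF F (((g⁻¹ : LinearMap.GeneralLinearGroup k M) : Module.End k M) - 1)

theorem lowGF_of_mem_closure {F : ℕ → Submodule k M} (hanti : ∀ n, F (n + 1) ≤ F n)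
    {S : Set (LinearMap.GeneralLinearGroup k M)} (hS : ∀ g ∈ S, LowGF F g)
    {g : LinearMap.GeneralLinearGroup k M} (hg : g ∈ Subgroup.closure S) : LowGF F g := by
  induction hg using Subgroup.closure_induction with
  | mem g hg => exact hS g hg
  | one =>
    constructor
    · intro n x _
      simp
    · intro n x _
      simp
  | mul g h _ _ ihg ihh =>
    have key : ∀ A B : Module.End k M, LowersF F (A - 1) → LowersF F (B - 1) →
        LowersF F (A * B - 1) := by
      intro A B hA hB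
      have e : A * B - 1 = (A - 1) * (B - 1) + (A - 1) + (B - 1) := by noncomm_ring
      rw [e]
      refine LowersF.add (LowersF.add ?_ hA) hB
      intro n x hx
      rw [Module.End.mul_apply]
      exact hA n _ (hanti n (hB n x hx))
    constructor
    · rw [Units.val_mul]; exact key _ _ ihg.1 ihh.1
    · rw [_root_.mul_inv_rev, Units.val_mul]; exact key _ _ ihh.2 ihg.2
  | inv g _ ih =>
    constructor
    · exact ih.2
    · rw [inv_inv]; exact ih.1

theorem lowersF_list_prod {F : ℕ → Submodule k M} (l : List (Module.End k M))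
    (hl : ∀ T ∈ l, LowersF F T) (j : ℕ) (x : M) (hx : x ∈ F j) :
    l.prod x ∈ F (j + l.length) := by
  induction l generalizing j x with
  | nil => simpa using hx
  | cons T l ih =>
    rw [List.prod_cons, Module.End.mul_apply, List.length_cons]
    have h1 := ih (fun S hS => hl S (List.mem_cons_of_mem _ hS)) j x hx
    have h2 := hl T List.mem_cons_self _ _ h1
    rwa [add_assoc] at h2

/-- a group generated by elements lowering a finite flag acts unipotently -/
theorem unipotent_of_flag {F : ℕ → Submodule k M} (hanti : ∀ n, F (n + 1) ≤ F n)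
    (h0 : F 0 = ⊤) (n₀ : ℕ) (hbot : F n₀ = ⊥)
    {S : Set (LinearMap.GeneralLinearGroup k M)} (hS : ∀ g ∈ S, LowGF F g) :
    Cfsg.IsUnipotentOn (Subgroup.closure S) := by
  rw [isUnipotentOn_iff]
  refine ⟨n₀, fun l hl hlen => ?_⟩
  ext x
  have h1 := lowersF_list_prod
    (l.map fun g : LinearMap.GeneralLinearGroup k M => (g : M →ₗ[k] M) - 1)
    (by
      intro T hT
      rw [List.mem_map] at hT
      obtain ⟨g, hg, rfl⟩ := hT
      exact (lowGF_of_mem_closure hanti hS (hl g hg)).1) 0 x (by rw [h0]; trivial)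
  rw [List.length_map, hlen, zero_add, hbot, Submodule.mem_bot] at h1
  rw [h1]; rfl

/-! ### membership in `SCR` from inclusions -/

section fd

variable [FiniteDimensional k M] {G : Subgroup (LinearMap.GeneralLinearGroup k M)}

theorem SCR.of_le {d : ℕ} (hmin : IsMinRank G d) {C R : Submodule k M} (hd : finrank k R = d)
    (hCR : finrank k C + finrank k R = finrank k M) {N : Module.End k M} (hN : N ∈ QSet G)
    (hC : C ≤ LinearMap.ker N) (hR : LinearMap.range N ≤ R) : N ∈ SCR G C R := by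
  refine ⟨hN, ?_⟩
  by_cases h0 : N = 0
  · exact Or.inl h0
  right
  have hr : LinearMap.range N = R := by
    apply Submodule.eq_of_le_of_finrank_le hR
    rw [hd]; exact hmin _ hN h0
  refine ⟨?_, hr⟩
  symm
  apply Submodule.eq_of_le_of_finrank_le hC
  have e1 := LinearMap.finrank_range_add_finrank_ker N
  rw [hr] at e1
  omega

theorem SCR.finrank_add {C R : Submodule k M} {N : Module.End k M} (hN : N ∈ SCR G C R)
    (h0 : N ≠ 0) : finrank k C + finrank k R = finrank k M := by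
  rcases hN.2 with h | ⟨h1, h2⟩
  · exact absurd h h0
  · have := LinearMap.finrank_range_add_finrank_ker N
    rw [h1, h2] at this
    omega

theorem SCR.ker_eq {C R : Submodule k M} {N : Module.End k M} (hN : N ∈ SCR G C R)
    (h0 : N ≠ 0) : LinearMap.ker N = C := by
  rcases hN.2 with h | ⟨h1, h2⟩
  · exact absurd h h0
  · exact h1

theorem SCR.range_eq {C R : Submodule k M} {N : Module.End k M} (hN : N ∈ SCR G C R)
    (h0 : N ≠ 0) : LinearMap.range N = R := by
  rcases hN.2 with h | ⟨h1, h2⟩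
  · exact absurd h h0
  · exact h2

theorem SCR.rk_eq {C R : Submodule k M} {N : Module.End k M} (hN : N ∈ SCR G C R)
    (h0 : N ≠ 0) : rk N = finrank k R := by
  unfold rk
  rw [SCR.range_eq hN h0]

/-! ### the dichotomy -/

variable {C₁ R₁ C₂ R₂ : Submodule k M}

/-- a non-unipotent pair forces the two classes to be in general position -/
theorem nd_of_not_nilpotent (h2 : (2 : k) ≠ 0) (hk : ∃ l : k, l ≠ 0 ∧ l ^ 2 ≠ 1) {d : ℕ}
    (hmin : IsMinRank G d) (hd₁ : finrank k R₁ = d) (hd₂ : finrank k R₂ = d)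
    {x y : Module.End k M} (hx : x ∈ SCR G C₁ R₁) (hy : y ∈ SCR G C₂ R₂)
    (hnn : ¬ IsNilpotent (th x y)) : R₁ ⊓ C₂ = ⊥ ∧ R₂ ⊓ C₁ = ⊥ := by
  have hx0 : x ≠ 0 := by
    intro h
    apply hnn
    have : th x y = 0 := by unfold th; rw [h, zero_mul, mul_zero, add_zero]
    rw [this]; exact IsNilpotent.zero
  have hy0 : y ≠ 0 := by
    intro h
    apply hnn
    have : th x y = 0 := by unfold th; rw [h, zero_mul, mul_zero, add_zero]
    rw [this]; exact IsNilpotent.zero
  have hrx : rk x = d := by rw [SCR.rk_eq hx hx0, hd₁]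
  have hry : rk y = d := by rw [SCR.rk_eq hy hy0, hd₂]
  obtain ⟨hRa, hRb⟩ := alpha h2 hk hmin hx.1 hy.1 hrx hry hnn
  have hxx : ∀ v, x (x v) = 0 := fun v => by
    have := LinearMap.congr_fun hx.1.1 v; simpa using this
  have hyy : ∀ v, y (y v) = 0 := fun v => by
    have := LinearMap.congr_fun hy.1.1 v; simpa using this
  constructor
  · rw [eq_bot_iff]
    rintro v ⟨hv1, hv2⟩
    rw [← SCR.range_eq hx hx0] at hv1
    rw [← SCR.ker_eq hy hy0] at hv2
    obtain ⟨w, rfl⟩ := hv1
    have hv2' : y (x w) = 0 := hv2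
    rw [Submodule.mem_bot]
    apply fitOne_inf_ker (hRa ⟨w, rfl⟩)
    show x (y (x w)) + y (x (x w)) = 0
    rw [hv2', hxx, map_zero, map_zero, add_zero]
  · rw [eq_bot_iff]
    rintro v ⟨hv1, hv2⟩
    rw [← SCR.range_eq hy hy0] at hv1
    rw [← SCR.ker_eq hx hx0] at hv2
    obtain ⟨w, rfl⟩ := hv1
    have hv2' : x (y w) = 0 := hv2
    rw [Submodule.mem_bot]
    apply fitOne_inf_ker (hRb ⟨w, rfl⟩)
    show x (y (y w)) + y (x (y w)) = 0
    rw [hv2', hyy, map_zero, map_zero, add_zero]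

/-- in general position every non-zero pair is non-unipotent -/
theorem not_nilpotent_of_nd (hnd : R₁ ⊓ C₂ = ⊥ ∧ R₂ ⊓ C₁ = ⊥)
    {x y : Module.End k M} (hx : x ∈ SCR G C₁ R₁) (hy : y ∈ SCR G C₂ R₂) (hx0 : x ≠ 0)
    (hy0 : y ≠ 0) : ¬ IsNilpotent (th x y) := by
  rintro ⟨m, hm⟩
  have hxx : ∀ v, x (x v) = 0 := fun v => by
    have := LinearMap.congr_fun hx.1.1 v; simpa using this
  -- θ maps R₁ \ 0 into R₁ \ 0
  have step : ∀ r ∈ R₁, r ≠ 0 → th x y r ∈ R₁ ∧ th x y r ≠ 0 := by
    intro r hr hr0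
    have hr' := hr
    rw [← SCR.range_eq hx hx0] at hr'
    obtain ⟨w, rfl⟩ := hr'
    have e : th x y (x w) = x (y (x w)) := by
      show x (y (x w)) + y (x (x w)) = _
      rw [hxx, map_zero, add_zero]
    rw [e]
    refine ⟨by rw [← SCR.range_eq hx hx0]; exact ⟨_, rfl⟩, ?_⟩
    intro h0
    have h1 : y (x w) ∈ R₂ ⊓ C₁ := by
      refine ⟨by rw [← SCR.range_eq hy hy0]; exact ⟨_, rfl⟩, ?_⟩
      rw [← SCR.ker_eq hx hx0]; exact h0
    rw [hnd.2, Submodule.mem_bot] at h1
    have h2 : x w ∈ R₁ ⊓ C₂ := by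
      refine ⟨hr, ?_⟩
      rw [← SCR.ker_eq hy hy0]; exact h1
    rw [hnd.1, Submodule.mem_bot] at h2
    exact hr0 h2
  have hpow : ∀ n : ℕ, ∀ r ∈ R₁, r ≠ 0 → (th x y ^ n) r ∈ R₁ ∧ (th x y ^ n) r ≠ 0 := by
    intro n
    induction n with
    | zero => intro r hr hr0; simpa using ⟨hr, hr0⟩
    | succ n ih =>
      intro r hr hr0
      obtain ⟨h1, h2⟩ := ih r hr hr0
      rw [pow_succ', Module.End.mul_apply]
      exact step _ h1 h2
  have hR₁ : R₁ ≠ ⊥ := by
    rw [← SCR.range_eq hx hx0]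
    intro h
    exact hx0 (LinearMap.range_eq_bot.mp h)
  obtain ⟨r, hr, hr0⟩ := Submodule.exists_mem_ne_zero_of_ne_bot hR₁
  have := (hpow m r hr hr0).2
  rw [hm] at this
  exact this rfl

/-- **partners**: in a non-unipotent pair, `x` has an inverse in the class of `y` -/
theorem exists_partner_in (h2 : (2 : k) ≠ 0) (hk : ∃ l : k, l ≠ 0 ∧ l ^ 2 ≠ 1) {d : ℕ}
    (hmin : IsMinRank G d) (hd₁ : finrank k R₁ = d) (hd₂ : finrank k R₂ = d)
    {x y₀ : Module.End k M} (hx : x ∈ SCR G C₁ R₁) (hy₀ : y₀ ∈ SCR G C₂ R₂)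
    (hnn : ¬ IsNilpotent (th x y₀)) :
    ∃ y ∈ SCR G C₂ R₂, x * y * x = x ∧ y * x * y = y := by
  have hx0 : x ≠ 0 := by
    intro h
    apply hnn
    have : th x y₀ = 0 := by unfold th; rw [h, zero_mul, mul_zero, add_zero]
    rw [this]; exact IsNilpotent.zero
  have hy0 : y₀ ≠ 0 := by
    intro h
    apply hnn
    have : th x y₀ = 0 := by unfold th; rw [h, zero_mul, mul_zero, add_zero]
    rw [this]; exact IsNilpotent.zero
  have hrx : rk x = d := by rw [SCR.rk_eq hx hx0, hd₁]
  have hry : rk y₀ = d := by rw [SCR.rk_eq hy₀ hy0, hd₂]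
  obtain ⟨π, hF, m, -, -, hrange, -, -⟩ := exists_model h2 hk hmin hx.1 hy₀.1 hrx hry hnn
  have e01 : m.eU 0 1 = x := rfl
  have e10 : m.eU 1 0 = m.ρ m.ϑi * y₀ := rfl
  refine ⟨m.eU 1 0, ?_, ?_, ?_⟩
  · apply SCR.of_le hmin hd₂ (SCR.finrank_add hy₀ hy0)
    · apply QSet.of_forall
      · exact m.eU_mul_ne 1 0 1 0 (by decide)
      · intro c
        refine ⟨m.Ψ (ymat (AdjoinRoot π) (algebraMap k _ c)), ?_, ?_⟩
        · apply XG_le hx.1 hy₀.1
          rw [← hrange]
          exact ⟨_, rfl⟩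
        · rw [m.Ψ_ymat, e10, Algebra.algebraMap_eq_smul_one, smul_mul_assoc, one_mul, map_smul,
            smul_mul_assoc]
    · intro v hv
      rw [← SCR.ker_eq hy₀ hy0] at hv
      rw [LinearMap.mem_ker, e10, Module.End.mul_apply, LinearMap.mem_ker.mp hv, map_zero]
    · rintro _ ⟨v, rfl⟩
      rw [e10, m.ρ_b, Module.End.mul_apply, ← SCR.range_eq hy₀ hy0]
      exact ⟨_, rfl⟩
  · show m.eU 0 1 * m.eU 1 0 * m.eU 0 1 = m.eU 0 1
    rw [m.eU_mul, m.eU_mul]
  · show m.eU 1 0 * m.eU 0 1 * m.eU 1 0 = m.eU 1 0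
    rw [m.eU_mul, m.eU_mul]

end fd

end Cfsg.Agent.Lib.Helper2.Qp
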