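import Mathlib
import Cfsg.Agent.Lib.Helper2.Qp13

/-!
# Quadratic pairs, part 14: partner pairs `x y x = x`, `y x y = y` and the rank one structure of
`⟨E(σ), E(τ)⟩` in the non-unipotent case.
-/

set_option autoImplicit false
universe u v
open Module

namespace Cfsg.Agent.Lib.Helper2.Qp

variable {k : Type u} [Field k] {M : Type v} [AddCommGroup M] [Module k M]

/-- a partner pair -/
structure PP (x y : Module.End k M) : Prop where
  xx : x * x = 0
  yy : y * y = 0
  xyx : x * y * x = x
  yxy : y * x * y = y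

namespace PP

variable {x y : Module.End k M}

theorem symm (h : PP x y) : PP y x := ⟨h.yy, h.xx, h.yxy, h.xyx⟩

theorem kx (h : PP x y) (z : Module.End k M) : z * x * x = 0 := by rw [mul_assoc, h.xx, mul_zero]
theorem ky (h : PP x y) (z : Module.End k M) : z * y * y = 0 := by rw [mul_assoc, h.yy, mul_zero]
theorem kxyx (h : PP x y) (z : Module.End k M) : z * x * y * x = z * x := by
  rw [mul_assoc, mul_assoc, ← mul_assoc x, h.xyx]
theorem kyxy (h : PP x y) (z : Module.End k M) : z * y * x * y = z * y := by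
  rw [mul_assoc, mul_assoc, ← mul_assoc y, h.yxy]

/-- the idempotent `x y + y x` -/
theorem idem (h : PP x y) : (x * y + y * x) * (x * y + y * x) = x * y + y * x := by
  simp only [mul_add, add_mul, ← mul_assoc, h.kx, h.ky, h.kxyx, h.kyxy, h.xyx, h.yxy, h.xx, h.yy,
    zero_mul, mul_zero, add_zero, zero_add]

theorem e_mul_x (h : PP x y) : (x * y + y * x) * x = x := by
  simp only [add_mul, ← mul_assoc, h.kx, h.xyx, add_zero]

theorem x_mul_e (h : PP x y) : x * (x * y + y * x) = x := by
  simp only [mul_add, ← mul_assoc, h.xx, zero_mul, h.xyx, zero_add]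

/-- conjugation identity -/
theorem conj_eq (h : PP x y) : (1 - y) * x * (1 + y) = -((1 - x) * y * (1 + x)) := by
  simp only [mul_add, add_mul, mul_sub, sub_mul, mul_one, one_mul, ← mul_assoc, h.kx, h.ky, h.kxyx,
    h.kyxy, h.xyx, h.yxy, h.xx, h.yy, zero_mul, mul_zero, add_zero, zero_add, sub_zero]
  abel

/-- the `special' identity -/
theorem special (h : PP x y) : (1 - y) * (1 + x) * (1 + y) = (1 - x) * (1 - y) * (1 + x) := by
  simp only [mul_add, add_mul, mul_sub, sub_mul, mul_one, one_mul, ← mul_assoc, h.kx, h.ky, h.kxyx,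
    h.kyxy, h.xyx, h.yxy, h.xx, h.yy, zero_mul, mul_zero, add_zero, zero_add, sub_zero]
  abel

/-- the square of the Weyl element -/
theorem weyl_sq (h : PP x y) :
    ((1 + x) * (1 - y) * (1 + x)) * ((1 + x) * (1 - y) * (1 + x)) =
      1 - (2 : k) • (x * y + y * x) := by
  simp only [mul_add, add_mul, mul_sub, sub_mul, mul_one, one_mul, ← mul_assoc, h.kx, h.ky, h.kxyx,
    h.kyxy, h.xyx, h.yxy, h.xx, h.yy, zero_mul, mul_zero, add_zero, zero_add, sub_zero, two_smul]
  abel

end PP

/-! ### the corner decomposition -/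

section struct

variable [FiniteDimensional k M] {G : Subgroup (LinearMap.GeneralLinearGroup k M)}
variable {C₁ R₁ C₂ R₂ : Submodule k M}

theorem SCR.corner {x y N : Module.End k M} (h : PP x y) (hx : x ∈ SCR G C₁ R₁) (hx0 : x ≠ 0)
    (hN : N ∈ SCR G C₁ R₁) : x * y * N = N ∧ N * (y * x) = N := by
  by_cases hN0 : N = 0
  · rw [hN0, mul_zero, zero_mul]; exact ⟨rfl, rfl⟩
  constructor
  · ext v
    have hv : N v ∈ LinearMap.range x := by
      rw [SCR.range_eq hx hx0, ← SCR.range_eq hN hN0]; exact ⟨v, rfl⟩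
    obtain ⟨w, hw⟩ := hv
    rw [Module.End.mul_apply, ← hw, ← Module.End.mul_apply, h.xyx]
  · ext v
    have hv : v - y (x v) ∈ LinearMap.ker N := by
      rw [SCR.ker_eq hN hN0, ← SCR.ker_eq hx hx0, LinearMap.mem_ker, map_sub, sub_eq_zero]
      have := LinearMap.congr_fun h.xyx v
      simp only [Module.End.mul_apply] at this
      exact this.symm
    rw [LinearMap.mem_ker, map_sub, sub_eq_zero] at hv
    rw [Module.End.mul_apply, Module.End.mul_apply]
    exact hv.symm

theorem SCR.absorb_left {x y N : Module.End k M} (h : PP x y) (hx : x ∈ SCR G C₁ R₁) (hx0 : x ≠ 0)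
    (hN : N ∈ SCR G C₁ R₁) : (x * y + y * x) * N = N ∧ N * (x * y + y * x) = N := by
  obtain ⟨h1, h2⟩ := SCR.corner h hx hx0 hN
  constructor
  · rw [add_mul, h1]
    have : y * x * N = 0 := by
      calc y * x * N = y * x * (x * y * N) := by rw [h1]
        _ = y * (x * x) * y * N := by simp only [mul_assoc]
        _ = 0 := by rw [h.xx, mul_zero, zero_mul, zero_mul]
    rw [this, add_zero]
  · rw [mul_add, h2]
    have : N * (x * y) = 0 := by
      calc N * (x * y) = N * (y * x) * (x * y) := by rw [h2]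
        _ = N * y * (x * x) * y := by simp only [mul_assoc]
        _ = 0 := by rw [h.xx, mul_zero, zero_mul]
    rw [this, zero_add]

theorem SCR.absorb_right {x y N : Module.End k M} (h : PP x y) (hy : y ∈ SCR G C₂ R₂) (hy0 : y ≠ 0)
    (hN : N ∈ SCR G C₂ R₂) : (x * y + y * x) * N = N ∧ N * (x * y + y * x) = N := by
  have := SCR.absorb_left h.symm hy hy0 hN
  rwa [add_comm (y * x) (x * y)] at this

/-- the subgroup of elements `g` with `e (g - 1) = g - 1 = (g - 1) e` -/
def absorbSubgroup (e : Module.End k M) : Subgroup (LinearMap.GeneralLinearGroup k M) where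
  carrier := {g | e * ((g : Module.End k M) - 1) = (g : Module.End k M) - 1 ∧
    ((g : Module.End k M) - 1) * e = (g : Module.End k M) - 1}
  one_mem' := by
    simp only [Set.mem_setOf_eq, Units.val_one, sub_self, mul_zero, zero_mul, and_self]
  mul_mem' := by
    rintro g h ⟨hg1, hg2⟩ ⟨hh1, hh2⟩
    have e1 : ((g * h : LinearMap.GeneralLinearGroup k M) : Module.End k M) - 1 =
        ((g : Module.End k M) - 1) * ((h : Module.End k M) - 1) + ((g : Module.End k M) - 1) +
          ((h : Module.End k M) - 1) := by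
      rw [Units.val_mul]; noncomm_ring
    simp only [Set.mem_setOf_eq]
    rw [e1]
    constructor
    · rw [mul_add, mul_add, ← mul_assoc, hg1, hh1]
    · rw [add_mul, add_mul, mul_assoc, hh2, hg2]
  inv_mem' := by
    rintro g ⟨hg1, hg2⟩
    have e1 : ((g⁻¹ : LinearMap.GeneralLinearGroup k M) : Module.End k M) - 1 =
        -(((g : Module.End k M) - 1) *
          ((g⁻¹ : LinearMap.GeneralLinearGroup k M) : Module.End k M)) := by
      rw [sub_mul, one_mul, mul_inv_val]; abel
    have e2 : ((g⁻¹ : LinearMap.GeneralLinearGroup k M) : Module.End k M) - 1 =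
        -(((g⁻¹ : LinearMap.GeneralLinearGroup k M) : Module.End k M) *
          ((g : Module.End k M) - 1)) := by
      rw [mul_sub, mul_one, inv_mul_val]; abel
    simp only [Set.mem_setOf_eq]
    constructor
    · rw [e1, mul_neg, ← mul_assoc, hg1]
    · rw [e2, neg_mul, mul_assoc, hg2]

theorem mem_absorbSubgroup {e : Module.End k M} {g : LinearMap.GeneralLinearGroup k M} :
    g ∈ absorbSubgroup e ↔ e * ((g : Module.End k M) - 1) = (g : Module.End k M) - 1 ∧
      ((g : Module.End k M) - 1) * e = (g : Module.End k M) - 1 := Iff.rfl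

/-! ### basic facts on `E(σ)` -/

theorem sameActionSubgroup_le (σ : LinearMap.GeneralLinearGroup k M) :
    Cfsg.sameActionSubgroup G σ ≤ G := by
  unfold Cfsg.sameActionSubgroup
  rw [Subgroup.closure_le]
  intro g hg
  exact hg.1.1.1

theorem self_sub_one_mem_SCR {σ : LinearMap.GeneralLinearGroup k M}
    (hσ : σ ∈ Cfsg.minimalQuadraticElements G) :
    (σ : Module.End k M) - 1 ∈ SCR G (LinearMap.ker ((σ : Module.End k M) - 1))
      (LinearMap.range ((σ : Module.End k M) - 1)) ∧ (σ : Module.End k M) - 1 ≠ 0 := by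
  obtain ⟨hQ, h0⟩ := sub_one_mem_QSet hσ.1
  exact ⟨⟨hQ, Or.inr ⟨rfl, rfl⟩⟩, h0⟩

theorem uN_mem_sameAction {σ : LinearMap.GeneralLinearGroup k M}
    (hσ : σ ∈ Cfsg.minimalQuadraticElements G) {N : Module.End k M}
    (hN : N ∈ SCR G (LinearMap.ker ((σ : Module.End k M) - 1))
      (LinearMap.range ((σ : Module.End k M) - 1))) :
    uN N 1 ∈ Cfsg.sameActionSubgroup G σ := by
  rw [mem_sameActionSubgroup_iff hσ, uN_val hN.1.1, one_smul, add_sub_cancel_left]
  exact hN

theorem uN_one_ne_one {N : Module.End k M} (hNN : N * N = 0) (h0 : N ≠ 0) :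
    uN N 1 ≠ 1 := by
  intro h
  apply h0
  have := congrArg (fun g : LinearMap.GeneralLinearGroup k M => (g : Module.End k M)) h
  simp only [uN_val hNN, one_smul, Units.val_one] at this
  exact add_eq_left.mp this

theorem sub_one_ne_zero {g : LinearMap.GeneralLinearGroup k M} (h : g ≠ 1) :
    (g : Module.End k M) - 1 ≠ 0 := by
  intro h0
  apply h
  apply Units.ext
  rw [Units.val_one]
  exact sub_eq_zero.mp h0

/-- conjugates of `E(σ)` and `E(τ)` agree when kernels and ranges of conjugated members agree -/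
theorem conjBy_eq_of_ker_range {σ τ g h : LinearMap.GeneralLinearGroup k M} (hg : g ∈ G)
    (hh : h ∈ G) {x y : Module.End k M}
    (hx : x ∈ SCR G (LinearMap.ker ((σ : Module.End k M) - 1))
      (LinearMap.range ((σ : Module.End k M) - 1))) (hx0 : x ≠ 0)
    (hy : y ∈ SCR G (LinearMap.ker ((τ : Module.End k M) - 1))
      (LinearMap.range ((τ : Module.End k M) - 1))) (hy0 : y ≠ 0)
    (hker : LinearMap.ker ((g : Module.End k M) * x *
        ((g⁻¹ : LinearMap.GeneralLinearGroup k M) : Module.End k M)) =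
      LinearMap.ker ((h : Module.End k M) * y *
        ((h⁻¹ : LinearMap.GeneralLinearGroup k M) : Module.End k M)))
    (hran : LinearMap.range ((g : Module.End k M) * x *
        ((g⁻¹ : LinearMap.GeneralLinearGroup k M) : Module.End k M)) =
      LinearMap.range ((h : Module.End k M) * y *
        ((h⁻¹ : LinearMap.GeneralLinearGroup k M) : Module.End k M))) :
    Cfsg.conjBy (Cfsg.sameActionSubgroup G σ) g = Cfsg.conjBy (Cfsg.sameActionSubgroup G τ) h := by
  rw [conjBy_sameActionSubgroup hg, conjBy_sameActionSubgroup hh]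
  apply sameActionSubgroup_congr
  · rw [conj_sub_one, conj_sub_one, ker_conj, ker_conj, ← SCR.ker_eq hx hx0, ← SCR.ker_eq hy hy0,
      ← ker_conj, ← ker_conj]
    exact hker
  · rw [conj_sub_one, conj_sub_one, range_conj, range_conj, ← SCR.range_eq hx hx0,
      ← SCR.range_eq hy hy0, ← range_conj, ← range_conj]
    exact hran

theorem ker_range_of_conjBy_eq {σ τ g h : LinearMap.GeneralLinearGroup k M}
    (hσ : σ ∈ Cfsg.minimalQuadraticElements G) (hτ : τ ∈ Cfsg.minimalQuadraticElements G)
    (hg : g ∈ G) (hh : h ∈ G) {x y : Module.End k M}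
    (hx : x ∈ SCR G (LinearMap.ker ((σ : Module.End k M) - 1))
      (LinearMap.range ((σ : Module.End k M) - 1))) (hx0 : x ≠ 0)
    (hy : y ∈ SCR G (LinearMap.ker ((τ : Module.End k M) - 1))
      (LinearMap.range ((τ : Module.End k M) - 1))) (hy0 : y ≠ 0)
    (hE : Cfsg.conjBy (Cfsg.sameActionSubgroup G σ) g =
      Cfsg.conjBy (Cfsg.sameActionSubgroup G τ) h) :
    LinearMap.ker ((g : Module.End k M) * x *
        ((g⁻¹ : LinearMap.GeneralLinearGroup k M) : Module.End k M)) =
      LinearMap.ker ((h : Module.End k M) * y *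
        ((h⁻¹ : LinearMap.GeneralLinearGroup k M) : Module.End k M)) ∧
    LinearMap.range ((g : Module.End k M) * x *
        ((g⁻¹ : LinearMap.GeneralLinearGroup k M) : Module.End k M)) =
      LinearMap.range ((h : Module.End k M) * y *
        ((h⁻¹ : LinearMap.GeneralLinearGroup k M) : Module.End k M)) := by
  rw [conjBy_sameActionSubgroup hg, conjBy_sameActionSubgroup hh] at hE
  have hσ' := conj_mem_minimal hσ hg
  have hτ' := conj_mem_minimal hτ hh
  have h1 : h * τ * h⁻¹ ∈ Cfsg.sameActionSubgroup G (g * σ * g⁻¹) := by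
    rw [hE]
    exact Subgroup.subset_closure ⟨hτ', rfl, rfl⟩
  rw [mem_sameActionSubgroup_iff hσ'] at h1
  have h0 := (self_sub_one_mem_SCR hτ').2
  have e1 := SCR.ker_eq h1 h0
  have e2 := SCR.range_eq h1 h0
  rw [conj_sub_one, conj_sub_one, ker_conj, ker_conj, ← SCR.ker_eq hx hx0, ← SCR.ker_eq hy hy0,
    ← ker_conj, ← ker_conj] at e1
  rw [conj_sub_one, conj_sub_one, range_conj, range_conj, ← SCR.range_eq hx hx0,
    ← SCR.range_eq hy hy0, ← range_conj, ← range_conj] at e2
  exact ⟨e1.symm, e2.symm⟩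

end struct

end Cfsg.Agent.Lib.Helper2.Qp
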