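import Mathlib
import Cfsg.Agent.Lib.Helper2.Qp14

/-!
# Quadratic pairs, part 15: `⟨E(σ), E(τ)⟩` in general position is a special rank one group.
-/

set_option autoImplicit false
universe u v
open Module

namespace Cfsg.Agent.Lib.Helper2.Qp

variable {k : Type u} [Field k] {M : Type v} [AddCommGroup M] [Module k M]
variable [FiniteDimensional k M] {G : Subgroup (LinearMap.GeneralLinearGroup k M)}
variable {σ τ : LinearMap.GeneralLinearGroup k M}

theorem finrank_range_eq (hσ : σ ∈ Cfsg.minimalQuadraticElements G)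
    (hτ : τ ∈ Cfsg.minimalQuadraticElements G) :
    finrank k (LinearMap.range ((τ : Module.End k M) - 1)) = rk ((σ : Module.End k M) - 1) :=
  le_antisymm (hτ.2 σ hσ.1) (hσ.2 τ hτ.1)

/-- partners exist in general position -/
theorem partner_of_mem (h2 : (2 : k) ≠ 0) (hk : ∃ l : k, l ≠ 0 ∧ l ^ 2 ≠ 1)
    (hσ : σ ∈ Cfsg.minimalQuadraticElements G) (hτ : τ ∈ Cfsg.minimalQuadraticElements G)
    (hnd : LinearMap.range ((σ : Module.End k M) - 1) ⊓ LinearMap.ker ((τ : Module.End k M) - 1) = ⊥ ∧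
      LinearMap.range ((τ : Module.End k M) - 1) ⊓ LinearMap.ker ((σ : Module.End k M) - 1) = ⊥)
    {x : Module.End k M}
    (hx : x ∈ SCR G (LinearMap.ker ((σ : Module.End k M) - 1))
      (LinearMap.range ((σ : Module.End k M) - 1))) (hx0 : x ≠ 0) :
    ∃ y ∈ SCR G (LinearMap.ker ((τ : Module.End k M) - 1))
      (LinearMap.range ((τ : Module.End k M) - 1)), PP x y ∧ y ≠ 0 := by
  obtain ⟨hy₀, hy₀0⟩ := self_sub_one_mem_SCR hτ
  have hnn := not_nilpotent_of_nd hnd hx hy₀ hx0 hy₀0
  obtain ⟨y, hy, h1, h2'⟩ := exists_partner_in h2 hk (isMinRank_of_minimal hσ) rfl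
    (finrank_range_eq hσ hτ) hx hy₀ hnn
  refine ⟨y, hy, ⟨hx.1.1, hy.1.1, h1, h2'⟩, ?_⟩
  intro h
  apply hx0
  rw [← h1, h, mul_zero, zero_mul]

theorem rankOneCondition_of_nd (h2 : (2 : k) ≠ 0) (hk : ∃ l : k, l ≠ 0 ∧ l ^ 2 ≠ 1)
    (hσ : σ ∈ Cfsg.minimalQuadraticElements G) (hτ : τ ∈ Cfsg.minimalQuadraticElements G)
    (hnd : LinearMap.range ((σ : Module.End k M) - 1) ⊓ LinearMap.ker ((τ : Module.End k M) - 1) = ⊥ ∧
      LinearMap.range ((τ : Module.End k M) - 1) ⊓ LinearMap.ker ((σ : Module.End k M) - 1) = ⊥) :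
    Cfsg.RankOneCondition (Cfsg.sameActionSubgroup G σ) (Cfsg.sameActionSubgroup G τ) := by
  intro a ha ha1
  have haG : a ∈ G := sameActionSubgroup_le σ ha
  have hx := (mem_sameActionSubgroup_iff hσ a).mp ha
  have hx0 := sub_one_ne_zero ha1
  obtain ⟨y, hy, hpp, hy0⟩ := partner_of_mem h2 hk hσ hτ hnd hx hx0
  have hb := uN_mem_sameAction hτ hy
  have hbG : uN y 1 ∈ G := sameActionSubgroup_le τ hb
  refine ⟨uN y 1, hb, uN_one_ne_one hy.1.1 hy0, ?_⟩
  have eai : ((a⁻¹ : LinearMap.GeneralLinearGroup k M) : Module.End k M) =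
      1 - ((a : Module.End k M) - 1) := by
    have := inv_val_of_sq_zero a hx.1.1
    rw [sub_eq_iff_eq_add] at this
    rw [this]; abel
  have key : (((uN y 1)⁻¹ : LinearMap.GeneralLinearGroup k M) : Module.End k M) *
      ((a : Module.End k M) - 1) *
      ((((uN y 1)⁻¹)⁻¹ : LinearMap.GeneralLinearGroup k M) : Module.End k M) =
      -(((a⁻¹ : LinearMap.GeneralLinearGroup k M) : Module.End k M) * y *
        (((a⁻¹)⁻¹ : LinearMap.GeneralLinearGroup k M) : Module.End k M)) := by
    rw [inv_inv, inv_inv, uN_inv_val hy.1.1, uN_val hy.1.1, one_smul, eai]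
    have e' : (1 - ((a : Module.End k M) - 1)) * y * (a : Module.End k M) =
        (1 - ((a : Module.End k M) - 1)) * y * (1 + ((a : Module.End k M) - 1)) := by
      rw [add_sub_cancel]
    rw [e']
    exact hpp.conj_eq
  apply conjBy_eq_of_ker_range (G.inv_mem hbG) (G.inv_mem haG) hx hx0 hy hy0
  · rw [key]
    ext v
    simp
  · rw [key, LinearMap.range_neg]

theorem val_eq_one_add (a : LinearMap.GeneralLinearGroup k M) :
    (a : Module.End k M) = 1 + ((a : Module.End k M) - 1) := by abel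

theorem inv_val_eq_one_sub (a : LinearMap.GeneralLinearGroup k M)
    (h : ((a : Module.End k M) - 1) * ((a : Module.End k M) - 1) = 0) :
    ((a⁻¹ : LinearMap.GeneralLinearGroup k M) : Module.End k M) = 1 - ((a : Module.End k M) - 1) := by
  have := inv_val_of_sq_zero a h
  rw [sub_eq_iff_eq_add] at this
  rw [this]; abel

theorem special_of_nd (h2 : (2 : k) ≠ 0) (hk : ∃ l : k, l ≠ 0 ∧ l ^ 2 ≠ 1)
    (hσ : σ ∈ Cfsg.minimalQuadraticElements G) (hτ : τ ∈ Cfsg.minimalQuadraticElements G)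
    (hnd : LinearMap.range ((σ : Module.End k M) - 1) ⊓ LinearMap.ker ((τ : Module.End k M) - 1) = ⊥ ∧
      LinearMap.range ((τ : Module.End k M) - 1) ⊓ LinearMap.ker ((σ : Module.End k M) - 1) = ⊥) :
    ∀ a ∈ Cfsg.sameActionSubgroup G σ, a ≠ 1 → ∀ b ∈ Cfsg.sameActionSubgroup G τ, b ≠ 1 →
      Cfsg.conjBy (Cfsg.sameActionSubgroup G σ) b⁻¹ = Cfsg.conjBy (Cfsg.sameActionSubgroup G τ) a⁻¹ →
      b⁻¹ * a * b = a⁻¹ * b⁻¹ * a := by
  intro a ha ha1 b hb hb1 hconj
  have haG : a ∈ G := sameActionSubgroup_le σ ha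
  have hbG : b ∈ G := sameActionSubgroup_le τ hb
  have hx := (mem_sameActionSubgroup_iff hσ a).mp ha
  have hx0 := sub_one_ne_zero ha1
  have hz := (mem_sameActionSubgroup_iff hτ b).mp hb
  have hz0 := sub_one_ne_zero hb1
  obtain ⟨y, hy, hpp, hy0⟩ := partner_of_mem h2 hk hσ hτ hnd hx hx0
  obtain ⟨-, hran⟩ := ker_range_of_conjBy_eq hσ hτ (G.inv_mem hbG) (G.inv_mem haG) hx hx0 hz hz0
    hconj
  rw [inv_inv, inv_inv, inv_val_eq_one_sub b hz.1.1, inv_val_eq_one_sub a hx.1.1] at hran
  obtain ⟨c1, c2⟩ := SCR.corner hpp.symm hy hy0 hz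
  -- abbreviations
  obtain ⟨x, hxdef⟩ : ∃ x : Module.End k M, x = (a : Module.End k M) - 1 := ⟨_, rfl⟩
  obtain ⟨z, hzdef⟩ : ∃ z : Module.End k M, z = (b : Module.End k M) - 1 := ⟨_, rfl⟩
  rw [← hxdef] at hx hx0 hpp hran c1 c2
  rw [← hzdef] at hz hz0 hran c1 c2
  have hzz : ∀ v, z (z v) = 0 := fun v => by
    have := LinearMap.congr_fun hz.1.1 v; simpa using this
  have hxx : ∀ v, x (x v) = 0 := fun v => by
    have := LinearMap.congr_fun hpp.xx v; simpa using this
  have hyy : ∀ v, y (y v) = 0 := fun v => by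
    have := LinearMap.congr_fun hpp.yy v; simpa using this
  have hxyx : ∀ v, x (y (x v)) = x v := fun v => by
    have := LinearMap.congr_fun hpp.xyx v; simpa using this
  have hyxy : ∀ v, y (x (y v)) = y v := fun v => by
    have := LinearMap.congr_fun hpp.yxy v; simpa using this
  have hc1 : ∀ v, y (x (z v)) = z v := fun v => by
    have := LinearMap.congr_fun c1 v; simpa using this
  have hc2 : ∀ v, z (x (y v)) = z v := fun v => by
    have := LinearMap.congr_fun c2 v; simpa using this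
  have hyz : ∀ v, y (z v) = 0 := fun v => by rw [← hc1, hyy]
  -- x z x = x
  have hxzx : ∀ w, x (z (x w)) = x w := by
    intro w
    have hmem : ((1 - z) * x * (b : Module.End k M)) ((1 - z) w) ∈
        LinearMap.range ((1 - x) * z * (a : Module.End k M)) := by
      rw [← hran]; exact ⟨_, rfl⟩
    obtain ⟨u, hu⟩ := hmem
    have eb : (b : Module.End k M) = 1 + z := by rw [hzdef]; abel
    have ea : (a : Module.End k M) = 1 + x := by rw [hxdef]; abel
    rw [eb, ea] at hu
    simp only [Module.End.mul_apply, LinearMap.sub_apply, LinearMap.add_apply, Module.End.one_apply,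
      map_sub, map_add, hzz, hxx, sub_zero, add_zero] at hu
    -- hu : z (u + x u) - x (z (u + x u)) = x w - z (x w)   (up to normal form)
    have h1 := congrArg (fun t => x (y t)) hu
    have h2' := congrArg (fun t => y (x t)) hu
    simp only [map_sub, map_add, hxyx, hyxy, hc1, hxx, hyz, hzz, sub_zero, zero_sub, add_zero,
      map_zero, map_neg, zero_add] at h1 h2'
    have e : z (x w) = -(z u + z (x u)) := by rw [h2']; abel
    rw [e, map_neg, map_add, neg_add, h1]
    abel
  -- z = y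
  have hzy : z = y := by
    ext v
    have e1 : z v = z (x (y v)) := (hc2 v).symm
    rw [e1, ← hc1, hxzx, hyxy]
  have hpp' : PP x z := by rw [hzy]; exact hpp
  apply Units.ext
  rw [Units.val_mul, Units.val_mul, Units.val_mul, Units.val_mul,
    inv_val_eq_one_sub b (hzdef ▸ hz.1.1), inv_val_eq_one_sub a (hxdef ▸ hx.1.1),
    val_eq_one_add a, val_eq_one_add b, ← hxdef, ← hzdef]
  simp only [add_sub_cancel_left]
  exact hpp'.special

theorem sameAction_comm (hσ : σ ∈ Cfsg.minimalQuadraticElements G)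
    {g h : LinearMap.GeneralLinearGroup k M} (hg : g ∈ Cfsg.sameActionSubgroup G σ)
    (hh : h ∈ Cfsg.sameActionSubgroup G σ) : g * h = h * g := by
  have h1 := (mem_sameActionSubgroup_iff hσ g).mp hg
  have h2 := (mem_sameActionSubgroup_iff hσ h).mp hh
  have e1 := SCR.mul_eq_zero h1 h2
  have e2 := SCR.mul_eq_zero h2 h1
  apply Units.ext
  rw [Units.val_mul, Units.val_mul]
  have key : ∀ A B : Module.End k M, A * B = (A - 1) * (B - 1) + (A - 1) + (B - 1) + 1 := by
    intro A B; noncomm_ring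
  rw [key (g : Module.End k M), key (h : Module.End k M), e1, e2]
  abel

theorem self_mem_sameAction (hσ : σ ∈ Cfsg.minimalQuadraticElements G) :
    σ ∈ Cfsg.sameActionSubgroup G σ :=
  Subgroup.subset_closure ⟨hσ, rfl, rfl⟩

theorem isRankOnePair_of_nd (h2 : (2 : k) ≠ 0) (hk : ∃ l : k, l ≠ 0 ∧ l ^ 2 ≠ 1)
    (hσ : σ ∈ Cfsg.minimalQuadraticElements G) (hτ : τ ∈ Cfsg.minimalQuadraticElements G)
    (hnd : LinearMap.range ((σ : Module.End k M) - 1) ⊓ LinearMap.ker ((τ : Module.End k M) - 1) = ⊥ ∧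
      LinearMap.range ((τ : Module.End k M) - 1) ⊓ LinearMap.ker ((σ : Module.End k M) - 1) = ⊥) :
    Cfsg.IsRankOnePair (Cfsg.sameActionSubgroup G σ) (Cfsg.sameActionSubgroup G τ) := by
  have hnil : ∀ {ρ : LinearMap.GeneralLinearGroup k M}, ρ ∈ Cfsg.minimalQuadraticElements G →
      Group.IsNilpotent ↥(Cfsg.sameActionSubgroup G ρ) := by
    intro ρ hρ
    let _ : CommGroup ↥(Cfsg.sameActionSubgroup G ρ) :=
      { (inferInstance : Group ↥(Cfsg.sameActionSubgroup G ρ)) with
        mul_comm := fun a b => Subtype.ext (sameAction_comm hρ a.2 b.2) }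
    exact CommGroup.isNilpotent
  refine ⟨?_, hnil hσ, hnil hτ, rankOneCondition_of_nd h2 hk hσ hτ hnd,
    rankOneCondition_of_nd h2 hk hτ hσ ⟨hnd.2, hnd.1⟩⟩
  intro hAB
  have h1 : τ ∈ Cfsg.sameActionSubgroup G σ := by rw [hAB]; exact self_mem_sameAction hτ
  rw [mem_sameActionSubgroup_iff hσ] at h1
  obtain ⟨-, h0⟩ := self_sub_one_mem_SCR hτ
  have hr := SCR.range_eq h1 h0
  obtain ⟨hQ, hσ0⟩ := sub_one_mem_QSet hσ.1
  have hle : LinearMap.range ((σ : Module.End k M) - 1) ≤ LinearMap.ker ((σ : Module.End k M) - 1) := by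
    rintro _ ⟨v, rfl⟩
    rw [LinearMap.mem_ker, ← Module.End.mul_apply, hQ.1]; rfl
  have hbot := hnd.2
  rw [hr, inf_eq_left.mpr hle] at hbot
  exact hσ0 (LinearMap.range_eq_bot.mp hbot)

theorem involution_of_nd (h2 : (2 : k) ≠ 0) (hk : ∃ l : k, l ≠ 0 ∧ l ^ 2 ≠ 1)
    (hσ : σ ∈ Cfsg.minimalQuadraticElements G) (hτ : τ ∈ Cfsg.minimalQuadraticElements G)
    (hnd : LinearMap.range ((σ : Module.End k M) - 1) ⊓ LinearMap.ker ((τ : Module.End k M) - 1) = ⊥ ∧
      LinearMap.range ((τ : Module.End k M) - 1) ⊓ LinearMap.ker ((σ : Module.End k M) - 1) = ⊥) :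
    (∃! i : LinearMap.GeneralLinearGroup k M,
      i ∈ Cfsg.sameActionSubgroup G σ ⊔ Cfsg.sameActionSubgroup G τ ∧ i ≠ 1 ∧ i * i = 1 ∧
      (∀ x ∈ Cfsg.sameActionSubgroup G σ ⊔ Cfsg.sameActionSubgroup G τ, i * x = x * i) ∧
      (∀ m ∈ Cfsg.commutatorSubmodule (Cfsg.sameActionSubgroup G σ ⊔ Cfsg.sameActionSubgroup G τ),
        (i : M →ₗ[k] M) m = -m) ∧
      (∀ m ∈ Cfsg.fixedSubmodule (Cfsg.sameActionSubgroup G σ ⊔ Cfsg.sameActionSubgroup G τ),
        (i : M →ₗ[k] M) m = m)) ∧
    IsCompl (Cfsg.fixedSubmodule (Cfsg.sameActionSubgroup G σ ⊔ Cfsg.sameActionSubgroup G τ))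
      (Cfsg.commutatorSubmodule (Cfsg.sameActionSubgroup G σ ⊔ Cfsg.sameActionSubgroup G τ)) := by
  obtain ⟨hx, hx0⟩ := self_sub_one_mem_SCR hσ
  obtain ⟨y, hy, hpp, hy0⟩ := partner_of_mem h2 hk hσ hτ hnd hx hx0
  obtain ⟨x, hxdef⟩ : ∃ x : Module.End k M, x = (σ : Module.End k M) - 1 := ⟨_, rfl⟩
  rw [← hxdef] at hx0 hpp
  obtain ⟨e, hedef⟩ : ∃ e : Module.End k M, e = x * y + y * x := ⟨_, rfl⟩
  have hee : e * e = e := by rw [hedef]; exact hpp.idem
  have hσval : (σ : Module.End k M) = 1 + x := by rw [hxdef]; abel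
  -- every element of X is absorbed by e
  have hle : Cfsg.sameActionSubgroup G σ ⊔ Cfsg.sameActionSubgroup G τ ≤ absorbSubgroup e := by
    apply sup_le
    · intro g hg
      have hN := (mem_sameActionSubgroup_iff hσ g).mp hg
      rw [mem_absorbSubgroup, hedef]
      exact SCR.absorb_left hpp (hxdef ▸ hx) hx0 hN
    · intro g hg
      have hN := (mem_sameActionSubgroup_iff hτ g).mp hg
      rw [mem_absorbSubgroup, hedef]
      exact SCR.absorb_right hpp hy hy0 hN
  have hσX : σ ∈ Cfsg.sameActionSubgroup G σ ⊔ Cfsg.sameActionSubgroup G τ :=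
    Subgroup.mem_sup_left (self_mem_sameAction hσ)
  have hbX : uN y 1 ∈ Cfsg.sameActionSubgroup G σ ⊔ Cfsg.sameActionSubgroup G τ :=
    Subgroup.mem_sup_right (uN_mem_sameAction hτ hy)
  have hbval : ((uN y 1 : LinearMap.GeneralLinearGroup k M) : Module.End k M) - 1 = y := by
    rw [uN_val hpp.yy, one_smul, add_sub_cancel_left]
  -- fixed points and commutator
  have hfix : Cfsg.fixedSubmodule (Cfsg.sameActionSubgroup G σ ⊔ Cfsg.sameActionSubgroup G τ) =
      LinearMap.ker e := by
    ext v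
    simp only [Cfsg.fixedSubmodule, Submodule.mem_iInf, LinearMap.mem_ker]
    constructor
    · intro hv
      have h1 : x v = 0 := by
        have := hv σ hσX
        rwa [← hxdef] at this
      have h2' : y v = 0 := by
        have := hv _ hbX
        have e' : ((uN y 1 : LinearMap.GeneralLinearGroup k M) : M →ₗ[k] M) - 1 = y := hbval
        rwa [e'] at this
      rw [hedef, LinearMap.add_apply, Module.End.mul_apply, Module.End.mul_apply, h1, h2', map_zero,
        map_zero, add_zero]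
    · intro hv g hg
      have := ((mem_absorbSubgroup).mp (hle hg)).2
      have e' : ((g : M →ₗ[k] M) - 1) v = (((g : Module.End k M) - 1) * e) v := by rw [this]
      rw [e', Module.End.mul_apply, hv, map_zero]
  have hcomm : Cfsg.commutatorSubmodule
      (Cfsg.sameActionSubgroup G σ ⊔ Cfsg.sameActionSubgroup G τ) = LinearMap.range e := by
    apply le_antisymm
    · unfold Cfsg.commutatorSubmodule
      apply iSup₂_le
      rintro g hg _ ⟨v, rfl⟩
      have := ((mem_absorbSubgroup).mp (hle hg)).1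
      refine ⟨((g : Module.End k M) - 1) v, ?_⟩
      rw [← Module.End.mul_apply, this]
    · rintro _ ⟨v, rfl⟩
      rw [hedef, LinearMap.add_apply, Module.End.mul_apply, Module.End.mul_apply]
      apply Submodule.add_mem
      · have : LinearMap.range ((σ : M →ₗ[k] M) - 1) ≤ Cfsg.commutatorSubmodule
            (Cfsg.sameActionSubgroup G σ ⊔ Cfsg.sameActionSubgroup G τ) :=
          le_iSup₂ (f := fun g (_ : g ∈ Cfsg.sameActionSubgroup G σ ⊔ Cfsg.sameActionSubgroup G τ) =>
            LinearMap.range ((g : M →ₗ[k] M) - 1)) σ hσX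
        apply this
        refine ⟨y v, ?_⟩
        show ((σ : Module.End k M) - 1) (y v) = x (y v)
        rw [← hxdef]
      · have : LinearMap.range (((uN y 1 : LinearMap.GeneralLinearGroup k M) : M →ₗ[k] M) - 1) ≤
            Cfsg.commutatorSubmodule
            (Cfsg.sameActionSubgroup G σ ⊔ Cfsg.sameActionSubgroup G τ) :=
          le_iSup₂ (f := fun g (_ : g ∈ Cfsg.sameActionSubgroup G σ ⊔ Cfsg.sameActionSubgroup G τ) =>
            LinearMap.range ((g : M →ₗ[k] M) - 1)) (uN y 1) hbX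
        apply this
        refine ⟨x v, ?_⟩
        show (((uN y 1 : LinearMap.GeneralLinearGroup k M) : Module.End k M) - 1) (x v) = y (x v)
        rw [hbval]
  have hcompl : IsCompl (LinearMap.ker e) (LinearMap.range e) :=
    (LinearMap.IsIdempotentElem.isCompl (f := e) hee).symm
  refine ⟨?_, by rw [hfix, hcomm]; exact hcompl⟩
  -- the involution
  obtain ⟨i, hidef⟩ : ∃ i : LinearMap.GeneralLinearGroup k M,
      i = (σ * (uN y 1)⁻¹ * σ) * (σ * (uN y 1)⁻¹ * σ) := ⟨_, rfl⟩
  have hiX : i ∈ Cfsg.sameActionSubgroup G σ ⊔ Cfsg.sameActionSubgroup G τ := by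
    rw [hidef]
    have hn := Subgroup.mul_mem _ (Subgroup.mul_mem _ hσX (Subgroup.inv_mem _ hbX)) hσX
    exact Subgroup.mul_mem _ hn hn
  have hival : (i : Module.End k M) = 1 - (2 : k) • e := by
    rw [hidef, Units.val_mul, Units.val_mul, Units.val_mul, uN_inv_val hpp.yy, one_smul, hσval,
      hpp.weyl_sq, hedef]
  have he0 : e ≠ 0 := by
    intro h
    apply hx0
    have := hpp.e_mul_x
    rw [← hedef, h, zero_mul] at this
    exact this.symm
  have hprops : ∀ j : LinearMap.GeneralLinearGroup k M, (j : Module.End k M) = 1 - (2 : k) • e →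
      (∀ m ∈ LinearMap.range e, (j : M →ₗ[k] M) m = -m) ∧
      (∀ m ∈ LinearMap.ker e, (j : M →ₗ[k] M) m = m) := by
    intro j hj
    constructor
    · rintro _ ⟨v, rfl⟩
      show (j : Module.End k M) (e v) = -(e v)
      rw [hj, LinearMap.sub_apply, LinearMap.smul_apply, Module.End.one_apply,
        ← Module.End.mul_apply, hee, two_smul]
      abel
    · intro m hm
      show (j : Module.End k M) m = m
      rw [hj, LinearMap.sub_apply, LinearMap.smul_apply, Module.End.one_apply,
        LinearMap.mem_ker.mp hm, smul_zero, sub_zero]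
  refine ⟨i, ⟨hiX, ?_, ?_, ?_, ?_, ?_⟩, ?_⟩
  · intro h1
    have := congrArg (fun g : LinearMap.GeneralLinearGroup k M => (g : Module.End k M)) h1
    simp only [hival, Units.val_one] at this
    have h3 : (2 : k) • e = 0 := by
      have := sub_eq_self.mp this
      exact this
    rcases smul_eq_zero.mp h3 with h | h
    · exact h2 h
    · exact he0 h
  · apply Units.ext
    rw [Units.val_mul, hival, Units.val_one]
    have : (1 - (2 : k) • e) * (1 - (2 : k) • e) =
        1 - (2 : k) • e - (2 : k) • e + (2 : k) • ((2 : k) • (e * e)) := by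
      rw [mul_sub, sub_mul, sub_mul, one_mul, mul_one, one_mul, smul_mul_assoc, mul_smul_comm]
      abel
    rw [this, hee, two_smul, two_smul]
    abel
  · intro g hg
    obtain ⟨hg1, hg2⟩ := (mem_absorbSubgroup).mp (hle hg)
    apply Units.ext
    rw [Units.val_mul, Units.val_mul, hival]
    have e1 : e * (g : Module.End k M) = (g : Module.End k M) * e := by
      have a1 : e * (g : Module.End k M) = e * ((g : Module.End k M) - 1) + e := by
        rw [mul_sub, mul_one]; abel
      have a2 : (g : Module.End k M) * e = ((g : Module.End k M) - 1) * e + e := by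
        rw [sub_mul, one_mul]; abel
      rw [a1, a2, hg1, hg2]
    rw [sub_mul, mul_sub, one_mul, mul_one, smul_mul_assoc, mul_smul_comm, e1]
  · intro m hm
    rw [hcomm] at hm
    exact (hprops i hival).1 m hm
  · intro m hm
    rw [hfix] at hm
    exact (hprops i hival).2 m hm
  · rintro j ⟨-, -, -, -, hj1, hj2⟩
    rw [hcomm] at hj1
    rw [hfix] at hj2
    apply Units.ext
    apply LinearMap.ext
    intro v
    have hv : v = (v - e v) + e v := by abel
    have hker : v - e v ∈ LinearMap.ker e := by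
      rw [LinearMap.mem_ker, map_sub, ← Module.End.mul_apply, hee, sub_self]
    have hran : e v ∈ LinearMap.range e := ⟨v, rfl⟩
    have e1 : (j : Module.End k M) v = (v - e v) + -(e v) := by
      conv_lhs => rw [hv]
      rw [map_add]
      have a1 : (j : Module.End k M) (v - e v) = v - e v := hj2 _ hker
      have a2 : (j : Module.End k M) (e v) = -(e v) := hj1 _ hran
      rw [a1, a2]
    have e2 : (i : Module.End k M) v = (v - e v) + -(e v) := by
      conv_lhs => rw [hv]
      rw [map_add]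
      have a1 : (i : Module.End k M) (v - e v) = v - e v := (hprops i hival).2 _ hker
      have a2 : (i : Module.End k M) (e v) = -(e v) := (hprops i hival).1 _ hran
      rw [a1, a2]
    rw [e1, e2]

end Cfsg.Agent.Lib.Helper2.Qp
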