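import Mathlib
import Cfsg.Agent.Lib.Helper2.Qp15

/-!
# Quadratic pairs, part 16: the unipotent case for `⟨E(σ), E(τ)⟩` and the dichotomy.
-/

set_option autoImplicit false
universe u v
open Module

namespace Cfsg.Agent.Lib.Helper2.Qp

variable {k : Type u} [Field k] {M : Type v} [AddCommGroup M] [Module k M]

/-- the flag `M ≥ R₁ + R₂ ≥ (R₁ ∩ C₂) + (R₂ ∩ C₁) ≥ 0` -/
def flagF (R₁ C₁ R₂ C₂ : Submodule k M) : ℕ → Submodule k M
  | 0 => ⊤
  | 1 => R₁ ⊔ R₂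
  | 2 => (R₁ ⊓ C₂) ⊔ (R₂ ⊓ C₁)
  | _ + 3 => ⊥

theorem flagF_anti (R₁ C₁ R₂ C₂ : Submodule k M) (n : ℕ) :
    flagF R₁ C₁ R₂ C₂ (n + 1) ≤ flagF R₁ C₁ R₂ C₂ n := by
  match n with
  | 0 => exact le_top
  | 1 => exact sup_le (inf_le_left.trans le_sup_left) (inf_le_left.trans le_sup_right)
  | 2 => exact bot_le
  | n + 3 => exact bot_le

variable [FiniteDimensional k M] {G : Subgroup (LinearMap.GeneralLinearGroup k M)}

/-- a member of the first class lowers the flag, if it is killed on both sides by a non-zero member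
of the second class -/
theorem lowersF_of_mem {C₁ R₁ C₂ R₂ : Submodule k M} (hRC : R₁ ≤ C₁) {N y : Module.End k M}
    (hN : N ∈ SCR G C₁ R₁) (hy : y ∈ SCR G C₂ R₂) (hy0 : y ≠ 0) (hyNy : y * N * y = 0) :
    LowersF (flagF R₁ C₁ R₂ C₂) N := by
  by_cases hN0 : N = 0
  · rw [hN0]; exact LowersF.zero _
  have hker := SCR.ker_eq hN hN0
  have hran := SCR.range_eq hN hN0
  have hk1 : ∀ v ∈ C₁, N v = 0 := fun v hv => by
    rw [← hker] at hv; exact hv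
  intro n v hv
  match n with
  | 0 =>
    show N v ∈ R₁ ⊔ R₂
    exact Submodule.mem_sup_left (hran ▸ ⟨v, rfl⟩)
  | 1 =>
    show N v ∈ (R₁ ⊓ C₂) ⊔ (R₂ ⊓ C₁)
    have hv' : v ∈ R₁ ⊔ R₂ := hv
    obtain ⟨r₁, hr₁, r₂, hr₂, rfl⟩ := Submodule.mem_sup.mp hv'
    rw [map_add, hk1 r₁ (hRC hr₁), zero_add]
    apply Submodule.mem_sup_left
    refine ⟨hran ▸ ⟨r₂, rfl⟩, ?_⟩
    rw [← SCR.range_eq hy hy0] at hr₂
    obtain ⟨w, rfl⟩ := hr₂
    rw [← SCR.ker_eq hy hy0]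
    show N (y w) ∈ LinearMap.ker y
    rw [LinearMap.mem_ker]
    have := LinearMap.congr_fun hyNy w
    simpa using this
  | 2 =>
    show N v ∈ (⊥ : Submodule k M)
    have hv' : v ∈ (R₁ ⊓ C₂) ⊔ (R₂ ⊓ C₁) := hv
    obtain ⟨u₁, hu₁, u₂, hu₂, rfl⟩ := Submodule.mem_sup.mp hv'
    rw [map_add, hk1 u₁ (hRC hu₁.1), hk1 u₂ hu₂.2, add_zero]
    exact Submodule.zero_mem _
  | n + 3 =>
    show N v ∈ flagF R₁ C₁ R₂ C₂ (n + 3 + 1)
    have hv' : v ∈ (⊥ : Submodule k M) := hv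
    rw [Submodule.mem_bot] at hv'
    rw [hv', map_zero]
    exact Submodule.zero_mem _

theorem flagF_swap (R₁ C₁ R₂ C₂ : Submodule k M) : flagF R₁ C₁ R₂ C₂ = flagF R₂ C₂ R₁ C₁ := by
  funext n
  match n with
  | 0 => rfl
  | 1 => exact sup_comm _ _
  | 2 => exact sup_comm _ _
  | n + 3 => rfl

variable {σ τ : LinearMap.GeneralLinearGroup k M}

theorem range_le_ker (hσ : σ ∈ Cfsg.minimalQuadraticElements G) :
    LinearMap.range ((σ : Module.End k M) - 1) ≤ LinearMap.ker ((σ : Module.End k M) - 1) := by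
  obtain ⟨hQ, -⟩ := sub_one_mem_QSet hσ.1
  rintro _ ⟨v, rfl⟩
  rw [LinearMap.mem_ker, ← Module.End.mul_apply, hQ.1]; rfl

theorem unipotent_of_not_nd (h2 : (2 : k) ≠ 0) (hk : ∃ l : k, l ≠ 0 ∧ l ^ 2 ≠ 1)
    (hσ : σ ∈ Cfsg.minimalQuadraticElements G) (hτ : τ ∈ Cfsg.minimalQuadraticElements G)
    (hnnd : ¬ (LinearMap.range ((σ : Module.End k M) - 1) ⊓
        LinearMap.ker ((τ : Module.End k M) - 1) = ⊥ ∧
      LinearMap.range ((τ : Module.End k M) - 1) ⊓ LinearMap.ker ((σ : Module.End k M) - 1) = ⊥)) :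
    Cfsg.IsUnipotentOn (Cfsg.sameActionSubgroup G σ ⊔ Cfsg.sameActionSubgroup G τ) := by
  have hmin := isMinRank_of_minimal hσ
  have hd₂ := finrank_range_eq hσ hτ
  -- all pairs are unipotent
  have hupt : ∀ x ∈ SCR G (LinearMap.ker ((σ : Module.End k M) - 1))
      (LinearMap.range ((σ : Module.End k M) - 1)),
      ∀ y ∈ SCR G (LinearMap.ker ((τ : Module.End k M) - 1))
      (LinearMap.range ((τ : Module.End k M) - 1)), x * y * x = 0 ∧ y * x * y = 0 := by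
    intro x hx y hy
    have hnil : IsNilpotent (th x y) := by
      by_contra hnn
      exact hnnd (nd_of_not_nilpotent h2 hk hmin rfl hd₂ hx hy hnn)
    have hrx : rk x ≤ rk ((σ : Module.End k M) - 1) := by
      by_cases hx0 : x = 0
      · rw [hx0, rk_zero]; exact Nat.zero_le _
      · rw [SCR.rk_eq hx hx0]; exact le_rfl
    have hry : rk y ≤ rk ((σ : Module.End k M) - 1) := by
      by_cases hy0 : y = 0
      · rw [hy0, rk_zero]; exact Nat.zero_le _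
      · rw [SCR.rk_eq hy hy0, hd₂]
    exact upt' h2 hmin hx.1 hy.1 hrx hry hnil
  obtain ⟨hx₀, hx₀0⟩ := self_sub_one_mem_SCR hσ
  obtain ⟨hy₀, hy₀0⟩ := self_sub_one_mem_SCR hτ
  have hSup : Cfsg.sameActionSubgroup G σ ⊔ Cfsg.sameActionSubgroup G τ =
      Subgroup.closure (Cfsg.sameActionClass G σ ∪ Cfsg.sameActionClass G τ) := by
    unfold Cfsg.sameActionSubgroup
    rw [Subgroup.closure_union]
  rw [hSup]
  apply unipotent_of_flag (flagF_anti (LinearMap.range ((σ : Module.End k M) - 1))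
    (LinearMap.ker ((σ : Module.End k M) - 1)) (LinearMap.range ((τ : Module.End k M) - 1))
    (LinearMap.ker ((τ : Module.End k M) - 1))) rfl 3 rfl
  rintro g (hg | hg)
  · have hN := ((mem_sameActionClass_iff hσ g).mp hg).1
    have hl := lowersF_of_mem (range_le_ker hσ) hN hy₀ hy₀0 (hupt _ hN _ hy₀).2
    refine ⟨hl, ?_⟩
    rw [inv_val_of_sq_zero g hN.1.1]
    exact hl.neg
  · have hN := ((mem_sameActionClass_iff hτ g).mp hg).1
    have hl := lowersF_of_mem (range_le_ker hτ) hN hx₀ hx₀0 (hupt _ hx₀ _ hN).1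
    rw [← flagF_swap] at hl
    refine ⟨hl, ?_⟩
    rw [inv_val_of_sq_zero g hN.1.1]
    exact hl.neg

/-- the dichotomy for `⟨E(σ), E(τ)⟩` -/
theorem dichotomy (h2 : (2 : k) ≠ 0) (hk : ∃ l : k, l ≠ 0 ∧ l ^ 2 ≠ 1)
    (hσ : σ ∈ Cfsg.minimalQuadraticElements G) (hτ : τ ∈ Cfsg.minimalQuadraticElements G) :
    Cfsg.IsUnipotentOn (Cfsg.sameActionSubgroup G σ ⊔ Cfsg.sameActionSubgroup G τ) ∨
    (Cfsg.IsSpecialRankOnePair (Cfsg.sameActionSubgroup G σ) (Cfsg.sameActionSubgroup G τ) ∧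
      (∃! i : LinearMap.GeneralLinearGroup k M,
        i ∈ Cfsg.sameActionSubgroup G σ ⊔ Cfsg.sameActionSubgroup G τ ∧ i ≠ 1 ∧ i * i = 1 ∧
        (∀ x ∈ Cfsg.sameActionSubgroup G σ ⊔ Cfsg.sameActionSubgroup G τ, i * x = x * i) ∧
        (∀ m ∈ Cfsg.commutatorSubmodule
          (Cfsg.sameActionSubgroup G σ ⊔ Cfsg.sameActionSubgroup G τ), (i : M →ₗ[k] M) m = -m) ∧
        (∀ m ∈ Cfsg.fixedSubmodule (Cfsg.sameActionSubgroup G σ ⊔ Cfsg.sameActionSubgroup G τ),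
          (i : M →ₗ[k] M) m = m)) ∧
      IsCompl (Cfsg.fixedSubmodule (Cfsg.sameActionSubgroup G σ ⊔ Cfsg.sameActionSubgroup G τ))
        (Cfsg.commutatorSubmodule (Cfsg.sameActionSubgroup G σ ⊔ Cfsg.sameActionSubgroup G τ))) := by
  by_cases hnd : LinearMap.range ((σ : Module.End k M) - 1) ⊓
        LinearMap.ker ((τ : Module.End k M) - 1) = ⊥ ∧
      LinearMap.range ((τ : Module.End k M) - 1) ⊓ LinearMap.ker ((σ : Module.End k M) - 1) = ⊥
  · right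
    obtain ⟨h3, h4⟩ := involution_of_nd h2 hk hσ hτ hnd
    exact ⟨⟨isRankOnePair_of_nd h2 hk hσ hτ hnd, special_of_nd h2 hk hσ hτ hnd⟩, h3, h4⟩
  · left
    exact unipotent_of_not_nd h2 hk hσ hτ hnd

end Cfsg.Agent.Lib.Helper2.Qp
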