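import Mathlib
import Cfsg.Agent.Lib.Helper2.Qp16

/-!
# Quadratic pairs, part 17: the commuting criterion for two root subgroups `E(σ)`, `E(τ)`.
If a non-identity element of `E(σ)` commutes with a non-identity element of `E(τ)`, or a
non-identity element of `E(σ)` normalizes `E(τ)`, then `[E(σ), E(τ)] = 1`.
-/

set_option autoImplicit false
universe u v
open Module

namespace Cfsg.Agent.Lib.Helper2.Qp

variable {k : Type u} [Field k] {M : Type v} [AddCommGroup M] [Module k M]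

/-- rank-nullity for a product -/
theorem rk_mul_add_finrank [FiniteDimensional k M] (a b : Module.End k M) :
    rk (a * b) + finrank k ↥(LinearMap.range b ⊓ LinearMap.ker a) = rk b := by
  unfold rk
  let f : LinearMap.range b →ₗ[k] M := a.comp (LinearMap.range b).subtype
  have h1 : LinearMap.range f = LinearMap.range (a * b) := by
    rw [LinearMap.range_comp, Submodule.range_subtype, ← LinearMap.range_comp]
    rfl
  have h2 : (LinearMap.ker f).map (LinearMap.range b).subtype =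
      LinearMap.range b ⊓ LinearMap.ker a := by
    ext v
    constructor
    · rintro ⟨w, hw, rfl⟩
      exact ⟨w.2, hw⟩
    · rintro ⟨hv1, hv2⟩
      exact ⟨⟨v, hv1⟩, hv2, rfl⟩
  have h3 := LinearMap.finrank_range_add_finrank_ker f
  have h4 : finrank k ((LinearMap.ker f).map (LinearMap.range b).subtype) =
      finrank k (LinearMap.ker f) :=
    Submodule.finrank_map_subtype_eq (LinearMap.range b) (LinearMap.ker f)
  rw [h1] at h3
  rw [← h2, h4]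
  exact h3

section fd

variable [FiniteDimensional k M] {G : Subgroup (LinearMap.GeneralLinearGroup k M)}
variable {C₁ R₁ C₂ R₂ : Submodule k M}

theorem SCR.range_le_ker' {C R : Submodule k M} {N : Module.End k M} (hN : N ∈ SCR G C R)
    (h0 : N ≠ 0) : R ≤ C := by
  rw [← SCR.range_eq hN h0, ← SCR.ker_eq hN h0]
  rintro _ ⟨v, rfl⟩
  rw [LinearMap.mem_ker, ← Module.End.mul_apply, hN.1.1]; rfl

/-- `x y = 0` when `R₂ ≤ C₁` -/
theorem SCR.mul_eq_zero_of_le {x y : Module.End k M} (hx : x ∈ SCR G C₁ R₁)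
    (hy : y ∈ SCR G C₂ R₂) (hle : R₂ ≤ C₁) : x * y = 0 := by
  by_cases hx0 : x = 0
  · rw [hx0, zero_mul]
  by_cases hy0 : y = 0
  · rw [hy0, mul_zero]
  ext v
  have : y v ∈ C₁ := hle (by rw [← SCR.range_eq hy hy0]; exact ⟨v, rfl⟩)
  rw [← SCR.ker_eq hx hx0] at this
  exact this

/-- `R₂ ≤ C₁` when `x y = 0` for non-zero members -/
theorem SCR.le_of_mul_eq_zero {x y : Module.End k M} (hx : x ∈ SCR G C₁ R₁)
    (hy : y ∈ SCR G C₂ R₂) (hx0 : x ≠ 0) (hy0 : y ≠ 0) (h : x * y = 0) : R₂ ≤ C₁ := by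
  rw [← SCR.range_eq hy hy0, ← SCR.ker_eq hx hx0]
  rintro _ ⟨v, rfl⟩
  rw [LinearMap.mem_ker, ← Module.End.mul_apply, h]; rfl

/-- outside general position all triple products vanish -/
theorem triple_zero_of_not_nd (h2 : (2 : k) ≠ 0) (hk : ∃ l : k, l ≠ 0 ∧ l ^ 2 ≠ 1) {d : ℕ}
    (hmin : IsMinRank G d) (hd₁ : finrank k R₁ = d) (hd₂ : finrank k R₂ = d)
    (hnnd : ¬ (R₁ ⊓ C₂ = ⊥ ∧ R₂ ⊓ C₁ = ⊥))
    {x y : Module.End k M} (hx : x ∈ SCR G C₁ R₁) (hy : y ∈ SCR G C₂ R₂) :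
    x * y * x = 0 ∧ y * x * y = 0 := by
  have hnil : IsNilpotent (th x y) := by
    by_contra hnn
    exact hnnd (nd_of_not_nilpotent h2 hk hmin hd₁ hd₂ hx hy hnn)
  have hrx : rk x ≤ d := by
    by_cases hx0 : x = 0
    · rw [hx0, rk_zero]; exact Nat.zero_le _
    · rw [SCR.rk_eq hx hx0, hd₁]
  have hry : rk y ≤ d := by
    by_cases hy0 : y = 0
    · rw [hy0, rk_zero]; exact Nat.zero_le _
    · rw [SCR.rk_eq hy hy0, hd₂]
  exact upt' h2 hmin hx.1 hy.1 hrx hry hnil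

/-- a commuting pair of non-zero members forces the two classes to commute -/
theorem scr_commute_of_pair (h2 : (2 : k) ≠ 0) (hk : ∃ l : k, l ≠ 0 ∧ l ^ 2 ≠ 1) {d : ℕ}
    (hmin : IsMinRank G d) (hd₁ : finrank k R₁ = d) (hd₂ : finrank k R₂ = d)
    {x₀ y₀ : Module.End k M} (hx₀ : x₀ ∈ SCR G C₁ R₁) (hy₀ : y₀ ∈ SCR G C₂ R₂)
    (hx₀0 : x₀ ≠ 0) (hy₀0 : y₀ ≠ 0) (hc : x₀ * y₀ = y₀ * x₀)
    {x y : Module.End k M} (hx : x ∈ SCR G C₁ R₁) (hy : y ∈ SCR G C₂ R₂) : x * y = y * x := by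
  have hRC₁ : R₁ ≤ C₁ := SCR.range_le_ker' hx₀ hx₀0
  have hRC₂ : R₂ ≤ C₂ := SCR.range_le_ker' hy₀ hy₀0
  -- not in general position
  have hnnd : ¬ (R₁ ⊓ C₂ = ⊥ ∧ R₂ ⊓ C₁ = ⊥) := by
    intro hnd
    apply not_nilpotent_of_nd hnd hx₀ hy₀ hx₀0 hy₀0
    refine ⟨2, ?_⟩
    unfold th
    rw [← hc, pow_two]
    have e : x₀ * y₀ * (x₀ * y₀) = 0 := by
      calc x₀ * y₀ * (x₀ * y₀) = x₀ * (y₀ * x₀) * y₀ := by simp only [mul_assoc]
        _ = x₀ * (x₀ * y₀) * y₀ := by rw [hc]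
        _ = (x₀ * x₀) * y₀ * y₀ := by simp only [mul_assoc]
        _ = 0 := by rw [hx₀.1.1, zero_mul, zero_mul]
    simp only [mul_add, add_mul, e, add_zero]
  by_contra hD
  have hx0 : x ≠ 0 := by rintro rfl; exact hD (by rw [zero_mul, mul_zero])
  have hy0 : y ≠ 0 := by rintro rfl; exact hD (by rw [zero_mul, mul_zero])
  obtain ⟨hxyx, hyxy⟩ := triple_zero_of_not_nd h2 hk hmin hd₁ hd₂ hnnd hx hy
  have hDQ : x * y - y * x ∈ QSet G := comm_mem_QSet hx.1 hy.1 hxyx hyxy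
  have hD0 : x * y - y * x ≠ 0 := fun h => hD (sub_eq_zero.mp h)
  have hdD : d ≤ rk (x * y - y * x) := hmin _ hDQ hD0
  -- ranks
  have hA1 := rk_mul_add_finrank x y
  have hA2 := rk_mul_add_finrank y x
  rw [SCR.range_eq hy hy0, SCR.ker_eq hx hx0, SCR.rk_eq hy hy0, hd₂] at hA1
  rw [SCR.range_eq hx hx0, SCR.ker_eq hy hy0, SCR.rk_eq hx hx0, hd₁] at hA2
  have hP : LinearMap.range (x * y) ≤ R₁ ⊓ C₂ := by
    rintro _ ⟨v, rfl⟩
    refine ⟨?_, ?_⟩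
    · rw [← SCR.range_eq hx hx0]; exact ⟨y v, rfl⟩
    · rw [← SCR.ker_eq hy hy0]
      have := LinearMap.congr_fun hyxy v
      exact this
  have hQ : LinearMap.range (y * x) ≤ R₂ ⊓ C₁ := by
    rintro _ ⟨v, rfl⟩
    refine ⟨?_, ?_⟩
    · rw [← SCR.range_eq hy hy0]; exact ⟨x v, rfl⟩
    · rw [← SCR.ker_eq hx hx0]
      have := LinearMap.congr_fun hxyx v
      exact this
  have hDr : LinearMap.range (x * y - y * x) ≤ (R₁ ⊓ C₂) ⊔ (R₂ ⊓ C₁) := by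
    rintro _ ⟨v, rfl⟩
    rw [LinearMap.sub_apply]
    exact Submodule.sub_mem _ (Submodule.mem_sup_left (hP ⟨v, rfl⟩))
      (Submodule.mem_sup_right (hQ ⟨v, rfl⟩))
  have h5 : rk (x * y - y * x) ≤ finrank k ↥((R₁ ⊓ C₂) ⊔ (R₂ ⊓ C₁)) :=
    Submodule.finrank_mono hDr
  have h6 := Submodule.finrank_sup_add_finrank_inf_eq (R₁ ⊓ C₂) (R₂ ⊓ C₁)
  have h7 : rk (x * y - y * x) ≤ rk (x * y) + rk (y * x) := by
    have := rk_add_le (x * y) (-(y * x))
    rwa [rk_neg, ← sub_eq_add_neg] at this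
  have h8 : finrank k ↥((R₁ ⊓ C₂) ⊓ (R₂ ⊓ C₁)) = 0 := by omega
  have h9 : (R₁ ⊓ C₂) ⊓ (R₂ ⊓ C₁) = ⊥ := Submodule.finrank_eq_zero.mp h8
  have hz : LinearMap.range (x₀ * y₀) ≤ (R₁ ⊓ C₂) ⊓ (R₂ ⊓ C₁) := by
    rintro _ ⟨v, rfl⟩
    have m1 : (x₀ * y₀) v ∈ R₁ := by rw [← SCR.range_eq hx₀ hx₀0]; exact ⟨y₀ v, rfl⟩
    have m2 : (x₀ * y₀) v ∈ R₂ := by rw [hc, ← SCR.range_eq hy₀ hy₀0]; exact ⟨x₀ v, rfl⟩
    exact ⟨⟨m1, hRC₂ m2⟩, ⟨m2, hRC₁ m1⟩⟩
  rw [h9, le_bot_iff, LinearMap.range_eq_bot] at hz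
  have hz' : y₀ * x₀ = 0 := by rw [← hc]; exact hz
  have hR₂C₁ : R₂ ≤ C₁ := SCR.le_of_mul_eq_zero hx₀ hy₀ hx₀0 hy₀0 hz
  have hR₁C₂ : R₁ ≤ C₂ := SCR.le_of_mul_eq_zero hy₀ hx₀ hy₀0 hx₀0 hz'
  apply hD
  rw [SCR.mul_eq_zero_of_le hx hy hR₂C₁, SCR.mul_eq_zero_of_le hy hx hR₁C₂]

/-- a non-zero member `x₀` of the first class with `1 + x₀` normalizing the second class commutes
with the second class -/
theorem scr_commute_of_normalize (h2 : (2 : k) ≠ 0) (hk : ∃ l : k, l ≠ 0 ∧ l ^ 2 ≠ 1) {d : ℕ}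
    (hmin : IsMinRank G d) (hd₁ : finrank k R₁ = d) (hd₂ : finrank k R₂ = d)
    {x₀ y₀ : Module.End k M} (hx₀ : x₀ ∈ SCR G C₁ R₁) (hy₀ : y₀ ∈ SCR G C₂ R₂)
    (hx₀0 : x₀ ≠ 0) (hy₀0 : y₀ ≠ 0)
    (hnorm : ∀ y ∈ SCR G C₂ R₂, (1 + x₀) * y * (1 - x₀) ∈ SCR G C₂ R₂) :
    x₀ * y₀ = y₀ * x₀ := by
  have hxx := hx₀.1.1
  have hRC₁ : R₁ ≤ C₁ := SCR.range_le_ker' hx₀ hx₀0
  have hRC₂ : R₂ ≤ C₂ := SCR.range_le_ker' hy₀ hy₀0
  have hN := hnorm y₀ hy₀
  have hinv : (1 - x₀) * (1 + x₀) = 1 := by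
    have := one_sub_mul_one_add hxx 1
    rwa [one_smul] at this
  by_cases hnd : R₁ ⊓ C₂ = ⊥ ∧ R₂ ⊓ C₁ = ⊥
  · exfalso
    have hN0 : (1 + x₀) * y₀ * (1 - x₀) ≠ 0 := by
      intro h
      apply hy₀0
      calc y₀ = (1 - x₀) * ((1 + x₀) * y₀ * (1 - x₀)) * (1 + x₀) := by
            rw [← mul_assoc, ← mul_assoc, hinv, one_mul, mul_assoc, hinv, mul_one]
        _ = 0 := by rw [h, mul_zero, zero_mul]
    have hrN := SCR.range_eq hN hN0
    have hR₂ : R₂ = ⊥ := by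
      rw [eq_bot_iff]
      intro r hr
      have hr' := hr
      rw [← SCR.range_eq hy₀ hy₀0] at hr'
      obtain ⟨w, rfl⟩ := hr'
      have m1 : ((1 + x₀) * y₀ * (1 - x₀)) ((1 + x₀) w) ∈ R₂ := by
        rw [← hrN]; exact ⟨_, rfl⟩
      have e1 : ((1 + x₀) * y₀ * (1 - x₀)) ((1 + x₀) w) = y₀ w + x₀ (y₀ w) := by
        have e0 : (1 + x₀) * y₀ * (1 - x₀) * (1 + x₀) = (1 + x₀) * y₀ := by
          rw [mul_assoc, hinv, mul_one]
        have := LinearMap.congr_fun e0 w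
        rw [Module.End.mul_apply] at this
        rw [this, Module.End.mul_apply, LinearMap.add_apply, Module.End.one_apply]
      rw [e1] at m1
      have m2 : x₀ (y₀ w) ∈ R₂ := by
        have := Submodule.sub_mem _ m1 hr
        rwa [add_sub_cancel_left] at this
      have m3 : x₀ (y₀ w) ∈ R₁ := by rw [← SCR.range_eq hx₀ hx₀0]; exact ⟨_, rfl⟩
      have m4 : x₀ (y₀ w) ∈ R₁ ⊓ C₂ := ⟨m3, hRC₂ m2⟩
      rw [hnd.1, Submodule.mem_bot] at m4
      have m5 : y₀ w ∈ R₂ ⊓ C₁ := ⟨hr, by rw [← SCR.ker_eq hx₀ hx₀0]; exact m4⟩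
      rw [hnd.2, Submodule.mem_bot] at m5
      rw [Submodule.mem_bot]; exact m5
    apply hy₀0
    have := SCR.range_eq hy₀ hy₀0
    rw [hR₂] at this
    exact LinearMap.range_eq_bot.mp this
  · obtain ⟨hxyx, hyxy⟩ := triple_zero_of_not_nd h2 hk hmin hd₁ hd₂ hnd hx₀ hy₀
    have hD : x₀ * y₀ - y₀ * x₀ ∈ SCR G C₂ R₂ := by
      have e : x₀ * y₀ - y₀ * x₀ = (1 + x₀) * y₀ * (1 - x₀) + -y₀ := by
        simp only [mul_add, add_mul, mul_sub, sub_mul, mul_one, one_mul, hxyx]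
        abel
      rw [e]
      exact SCR.add hmin hd₂ hN (SCR.neg hy₀)
    by_contra hne
    have hD0 : x₀ * y₀ - y₀ * x₀ ≠ 0 := fun h => hne (sub_eq_zero.mp h)
    have hrD := SCR.range_eq hD hD0
    have hkD := SCR.ker_eq hD hD0
    have hxD : x₀ * (x₀ * y₀ - y₀ * x₀) = 0 := by
      rw [mul_sub, ← mul_assoc, hxx, zero_mul, ← mul_assoc, hxyx, sub_zero]
    have hR₂C₁ : R₂ ≤ C₁ := SCR.le_of_mul_eq_zero hx₀ hD hx₀0 hD0 hxD
    have hxy : x₀ * y₀ = 0 := SCR.mul_eq_zero_of_le hx₀ hy₀ hR₂C₁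
    have hC₁C₂ : C₁ ≤ C₂ := by
      rw [← hkD, ← SCR.ker_eq hx₀ hx₀0]
      intro v hv
      rw [LinearMap.mem_ker] at hv ⊢
      rw [hxy, zero_sub, LinearMap.neg_apply, Module.End.mul_apply, hv, map_zero, neg_zero]
    have hfin : finrank k C₂ ≤ finrank k C₁ := by
      have e1 := SCR.finrank_add hx₀ hx₀0
      have e2 := SCR.finrank_add hy₀ hy₀0
      omega
    have hCeq : C₁ = C₂ := Submodule.eq_of_le_of_finrank_le hC₁C₂ hfin
    have hyx : y₀ * x₀ = 0 := by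
      apply SCR.mul_eq_zero_of_le hy₀ hx₀
      rw [← hCeq]; exact hRC₁
    apply hD0
    rw [hxy, hyx, sub_zero]

variable {σ τ : LinearMap.GeneralLinearGroup k M}

/-- **the commuting criterion** -/
theorem commutator_eq_bot_of (h2 : (2 : k) ≠ 0) (hk : ∃ l : k, l ≠ 0 ∧ l ^ 2 ≠ 1)
    (hσ : σ ∈ Cfsg.minimalQuadraticElements G) (hτ : τ ∈ Cfsg.minimalQuadraticElements G)
    (h : (∃ e ∈ Cfsg.sameActionSubgroup G σ, e ≠ 1 ∧ ∃ f ∈ Cfsg.sameActionSubgroup G τ,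
        f ≠ 1 ∧ e * f = f * e) ∨
      Cfsg.sameActionSubgroup G σ ⊓ Subgroup.normalizer
        (Cfsg.sameActionSubgroup G τ : Set (LinearMap.GeneralLinearGroup k M)) ≠ ⊥) :
    ⁅Cfsg.sameActionSubgroup G σ, Cfsg.sameActionSubgroup G τ⁆ = ⊥ := by
  have hmin := isMinRank_of_minimal hσ
  have hd₂ := finrank_range_eq hσ hτ
  obtain ⟨hy₁, hy₁0⟩ := self_sub_one_mem_SCR hτ
  have key : ∀ A B : Module.End k M, A * B = (A - 1) * (B - 1) + (A - 1) + (B - 1) + 1 := by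
    intro A B; noncomm_ring
  have hpair : ∃ x₀ ∈ SCR G (LinearMap.ker ((σ : Module.End k M) - 1))
      (LinearMap.range ((σ : Module.End k M) - 1)),
      ∃ y₀ ∈ SCR G (LinearMap.ker ((τ : Module.End k M) - 1))
      (LinearMap.range ((τ : Module.End k M) - 1)), x₀ ≠ 0 ∧ y₀ ≠ 0 ∧ x₀ * y₀ = y₀ * x₀ := by
    rcases h with ⟨e, he, he1, f, hf, hf1, hef⟩ | hne
    · refine ⟨(e : Module.End k M) - 1, (mem_sameActionSubgroup_iff hσ e).mp he,
        (f : Module.End k M) - 1, (mem_sameActionSubgroup_iff hτ f).mp hf,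
        sub_one_ne_zero he1, sub_one_ne_zero hf1, ?_⟩
      have := congrArg (fun g : LinearMap.GeneralLinearGroup k M => (g : Module.End k M)) hef
      simp only [Units.val_mul] at this
      rw [key (e : Module.End k M), key (f : Module.End k M)] at this
      have e3 : ((e : Module.End k M) - 1) * ((f : Module.End k M) - 1) =
          (((e : Module.End k M) - 1) * ((f : Module.End k M) - 1) + ((e : Module.End k M) - 1) +
            ((f : Module.End k M) - 1) + 1) - ((e : Module.End k M) - 1) -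
            ((f : Module.End k M) - 1) - 1 := by abel
      rw [e3, this]; abel
    · rw [Ne, Subgroup.eq_bot_iff_forall] at hne
      push Not at hne
      obtain ⟨e, he, he1⟩ := hne
      obtain ⟨he₁, he₂⟩ := Subgroup.mem_inf.mp he
      have hx₀ := (mem_sameActionSubgroup_iff hσ e).mp he₁
      have hx₀0 := sub_one_ne_zero he1
      refine ⟨(e : Module.End k M) - 1, hx₀, (τ : Module.End k M) - 1, hy₁, hx₀0, hy₁0, ?_⟩
      apply scr_commute_of_normalize h2 hk hmin rfl hd₂ hx₀ hy₁ hx₀0 hy₁0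
      intro y hy
      have hf : uN y 1 ∈ Cfsg.sameActionSubgroup G τ := uN_mem_sameAction hτ hy
      have := (Subgroup.mem_normalizer_iff.mp he₂ (uN y 1)).mp hf
      rw [mem_sameActionSubgroup_iff hτ, conj_sub_one, uN_val hy.1.1, one_smul,
        add_sub_cancel_left, inv_val_eq_one_sub e hx₀.1.1] at this
      rw [← val_eq_one_add]; exact this
  obtain ⟨x₀, hx₀, y₀, hy₀, hx₀0, hy₀0, hc⟩ := hpair
  rw [Subgroup.commutator_eq_bot_iff_le_centralizer]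
  intro e he
  rw [Subgroup.mem_centralizer_iff]
  intro f hf
  have hx := (mem_sameActionSubgroup_iff hσ e).mp he
  have hy := (mem_sameActionSubgroup_iff hτ f).mp hf
  have hcomm := scr_commute_of_pair h2 hk hmin rfl hd₂ hx₀ hy₀ hx₀0 hy₀0 hc hx hy
  apply Units.ext
  rw [Units.val_mul, Units.val_mul, key (f : Module.End k M), key (e : Module.End k M), hcomm]
  abel

end fd

end Cfsg.Agent.Lib.Helper2.Qp
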