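import Mathlib
import Cfsg.Agent.Lib.Helper2.Qp17

/-!
# Quadratic pairs, part 18: class two pairs of classes `SCR G C₁ R₁`, `SCR G C₂ R₂`:
the commutators `x y - y x` all lie in one class `SCR G C₃ R₃` with
`C₃ = (C₁ ⊔ R₂) ⊓ (C₂ ⊔ R₁)` and `R₃ = (R₁ ⊓ C₂) ⊔ (R₂ ⊓ C₁)`.
-/

set_option autoImplicit false
universe u v
open Module

namespace Cfsg.Agent.Lib.Helper2.Qp

variable {k : Type u} [Field k] {M : Type v} [AddCommGroup M] [Module k M]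

/-- the common kernel of the commutators of a class two pair -/
def commKer (C₁ R₁ C₂ R₂ : Submodule k M) : Submodule k M := (C₁ ⊔ R₂) ⊓ (C₂ ⊔ R₁)

/-- the common range of the commutators of a class two pair -/
def commRange (C₁ R₁ C₂ R₂ : Submodule k M) : Submodule k M := (R₁ ⊓ C₂) ⊔ (R₂ ⊓ C₁)

theorem commKer_swap (C₁ R₁ C₂ R₂ : Submodule k M) :
    commKer C₂ R₂ C₁ R₁ = commKer C₁ R₁ C₂ R₂ := by
  unfold commKer; exact inf_comm _ _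

theorem commRange_swap (C₁ R₁ C₂ R₂ : Submodule k M) :
    commRange C₂ R₂ C₁ R₁ = commRange C₁ R₁ C₂ R₂ := by
  unfold commRange; exact sup_comm _ _

section fd

variable [FiniteDimensional k M] {G : Subgroup (LinearMap.GeneralLinearGroup k M)}
variable {C₁ R₁ C₂ R₂ : Submodule k M}

/-- the structure of a non-vanishing commutator outside general position -/
theorem comm_structure (h2 : (2 : k) ≠ 0) (hk : ∃ l : k, l ≠ 0 ∧ l ^ 2 ≠ 1) {d : ℕ}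
    (hmin : IsMinRank G d) (hd₁ : finrank k R₁ = d) (hd₂ : finrank k R₂ = d)
    (hnnd : ¬ (R₁ ⊓ C₂ = ⊥ ∧ R₂ ⊓ C₁ = ⊥))
    {x y : Module.End k M} (hx : x ∈ SCR G C₁ R₁) (hy : y ∈ SCR G C₂ R₂)
    (hD : x * y - y * x ≠ 0) :
    LinearMap.ker (x * y - y * x) = commKer C₁ R₁ C₂ R₂ ∧
    LinearMap.range (x * y - y * x) = commRange C₁ R₁ C₂ R₂ ∧
    finrank k ↥(commRange C₁ R₁ C₂ R₂) = d ∧ rk (x * y - y * x) = d := by
  have hx0 : x ≠ 0 := by rintro rfl; exact hD (by rw [zero_mul, mul_zero, sub_zero])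
  have hy0 : y ≠ 0 := by rintro rfl; exact hD (by rw [zero_mul, mul_zero, sub_zero])
  obtain ⟨hxyx, hyxy⟩ := triple_zero_of_not_nd h2 hk hmin hd₁ hd₂ hnnd hx hy
  have hDQ : x * y - y * x ∈ QSet G := comm_mem_QSet hx.1 hy.1 hxyx hyxy
  have hdD : d ≤ rk (x * y - y * x) := hmin _ hDQ hD
  have hA1 := rk_mul_add_finrank x y
  have hA2 := rk_mul_add_finrank y x
  rw [SCR.range_eq hy hy0, SCR.ker_eq hx hx0, SCR.rk_eq hy hy0, hd₂] at hA1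
  rw [SCR.range_eq hx hx0, SCR.ker_eq hy hy0, SCR.rk_eq hx hx0, hd₁] at hA2
  have hP : LinearMap.range (x * y) ≤ R₁ ⊓ C₂ := by
    rintro _ ⟨v, rfl⟩
    refine ⟨?_, ?_⟩
    · rw [← SCR.range_eq hx hx0]; exact ⟨y v, rfl⟩
    · rw [← SCR.ker_eq hy hy0]
      have := LinearMap.congr_fun hyxy v
      exact this
  have hQ : LinearMap.range (y * x) ≤ R₂ ⊓ C₁ := by
    rintro _ ⟨v, rfl⟩
    refine ⟨?_, ?_⟩
    · rw [← SCR.range_eq hy hy0]; exact ⟨x v, rfl⟩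
    · rw [← SCR.ker_eq hx hx0]
      have := LinearMap.congr_fun hxyx v
      exact this
  have hDr : LinearMap.range (x * y - y * x) ≤ commRange C₁ R₁ C₂ R₂ := by
    rintro _ ⟨v, rfl⟩
    rw [LinearMap.sub_apply]
    exact Submodule.sub_mem _ (Submodule.mem_sup_left (hP ⟨v, rfl⟩))
      (Submodule.mem_sup_right (hQ ⟨v, rfl⟩))
  have h5 : rk (x * y - y * x) ≤ finrank k ↥(commRange C₁ R₁ C₂ R₂) :=
    Submodule.finrank_mono hDr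
  have h6 := Submodule.finrank_sup_add_finrank_inf_eq (R₁ ⊓ C₂) (R₂ ⊓ C₁)
  have h6' : finrank k ↥(commRange C₁ R₁ C₂ R₂) = finrank k ↥((R₁ ⊓ C₂) ⊔ (R₂ ⊓ C₁)) := rfl
  have h7 : rk (x * y - y * x) ≤ rk (x * y) + rk (y * x) := by
    have := rk_add_le (x * y) (-(y * x))
    rwa [rk_neg, ← sub_eq_add_neg] at this
  have hs : finrank k ↥(commRange C₁ R₁ C₂ R₂) = d := by omega
  have hrD : rk (x * y - y * x) = d := by omega
  have hrange : LinearMap.range (x * y - y * x) = commRange C₁ R₁ C₂ R₂ := by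
    apply Submodule.eq_of_le_of_finrank_le hDr
    rw [hs]; exact hdD
  -- the kernel
  have hRC₁ : R₁ ≤ C₁ := SCR.range_le_ker' hx hx0
  have hRC₂ : R₂ ≤ C₂ := SCR.range_le_ker' hy hy0
  have hkx : ∀ v ∈ C₁, x v = 0 := fun v hv => by
    rw [← SCR.ker_eq hx hx0] at hv; exact hv
  have hky : ∀ v ∈ C₂, y v = 0 := fun v hv => by
    rw [← SCR.ker_eq hy hy0] at hv; exact hv
  have hKle : commKer C₁ R₁ C₂ R₂ ≤ LinearMap.ker (x * y - y * x) := by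
    rintro v ⟨hv1, hv2⟩
    obtain ⟨c₁, hc₁, r₂, hr₂, rfl⟩ := Submodule.mem_sup.mp hv1
    obtain ⟨c₂, hc₂, r₁, hr₁, e⟩ := Submodule.mem_sup.mp hv2
    rw [LinearMap.mem_ker, LinearMap.sub_apply, Module.End.mul_apply, Module.End.mul_apply]
    have e1 : y (c₁ + r₂) = y r₁ := by
      rw [← e, map_add, hky c₂ hc₂, zero_add]
    have e2 : x (c₁ + r₂) = x r₂ := by
      rw [map_add, hkx c₁ hc₁, zero_add]
    rw [e1, e2]
    rw [← SCR.range_eq hx hx0] at hr₁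
    rw [← SCR.range_eq hy hy0] at hr₂
    obtain ⟨w₁, rfl⟩ := hr₁
    obtain ⟨w₂, rfl⟩ := hr₂
    have t1 : x (y (x w₁)) = 0 := LinearMap.congr_fun hxyx w₁
    have t2 : y (x (y w₂)) = 0 := LinearMap.congr_fun hyxy w₂
    rw [t1, t2, sub_zero]
  have hker : LinearMap.ker (x * y - y * x) = commKer C₁ R₁ C₂ R₂ := by
    symm
    apply Submodule.eq_of_le_of_finrank_le hKle
    have e1 := LinearMap.finrank_range_add_finrank_ker (x * y - y * x)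
    have e2 := SCR.finrank_add hx hx0
    have e3 := SCR.finrank_add hy hy0
    have e4 := Submodule.finrank_sup_add_finrank_inf_eq C₁ R₂
    have e5 := Submodule.finrank_sup_add_finrank_inf_eq C₂ R₁
    have e6 := Submodule.finrank_sup_add_finrank_inf_eq (C₁ ⊔ R₂) (C₂ ⊔ R₁)
    have e7 : finrank k ↥((C₁ ⊔ R₂) ⊔ (C₂ ⊔ R₁)) ≤ finrank k M := Submodule.finrank_le _
    have e8 : finrank k ↥(C₁ ⊓ R₂) = finrank k ↥(R₂ ⊓ C₁) := by rw [inf_comm]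
    have e9 : finrank k ↥(C₂ ⊓ R₁) = finrank k ↥(R₁ ⊓ C₂) := by rw [inf_comm]
    have e10 : finrank k ↥(commKer C₁ R₁ C₂ R₂) = finrank k ↥((C₁ ⊔ R₂) ⊓ (C₂ ⊔ R₁)) := rfl
    have e11 : finrank k ↥(LinearMap.range (x * y - y * x)) = d := hrD
    omega
  exact ⟨hker, hrange, hs, hrD⟩

/-- all commutators lie in one class -/
theorem comm_mem_SCR (h2 : (2 : k) ≠ 0) (hk : ∃ l : k, l ≠ 0 ∧ l ^ 2 ≠ 1) {d : ℕ}
    (hmin : IsMinRank G d) (hd₁ : finrank k R₁ = d) (hd₂ : finrank k R₂ = d)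
    (hnnd : ¬ (R₁ ⊓ C₂ = ⊥ ∧ R₂ ⊓ C₁ = ⊥))
    {x y : Module.End k M} (hx : x ∈ SCR G C₁ R₁) (hy : y ∈ SCR G C₂ R₂) :
    x * y - y * x ∈ SCR G (commKer C₁ R₁ C₂ R₂) (commRange C₁ R₁ C₂ R₂) := by
  obtain ⟨hxyx, hyxy⟩ := triple_zero_of_not_nd h2 hk hmin hd₁ hd₂ hnnd hx hy
  refine ⟨comm_mem_QSet hx.1 hy.1 hxyx hyxy, ?_⟩
  by_cases hD : x * y - y * x = 0
  · exact Or.inl hD
  · obtain ⟨h1, h2', -, -⟩ := comm_structure h2 hk hmin hd₁ hd₂ hnnd hx hy hD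
    exact Or.inr ⟨h1, h2'⟩

/-- in a non-commuting pair of classes no two non-zero members commute -/
theorem comm_ne_zero (h2 : (2 : k) ≠ 0) (hk : ∃ l : k, l ≠ 0 ∧ l ^ 2 ≠ 1) {d : ℕ}
    (hmin : IsMinRank G d) (hd₁ : finrank k R₁ = d) (hd₂ : finrank k R₂ = d)
    {x₀ y₀ : Module.End k M} (hx₀ : x₀ ∈ SCR G C₁ R₁) (hy₀ : y₀ ∈ SCR G C₂ R₂)
    (hD₀ : x₀ * y₀ - y₀ * x₀ ≠ 0)
    {x y : Module.End k M} (hx : x ∈ SCR G C₁ R₁) (hy : y ∈ SCR G C₂ R₂) (hx0 : x ≠ 0)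
    (hy0 : y ≠ 0) : x * y - y * x ≠ 0 := by
  intro h
  apply hD₀
  rw [sub_eq_zero]
  exact scr_commute_of_pair h2 hk hmin hd₁ hd₂ hx hy hx0 hy0 (sub_eq_zero.mp h) hx₀ hy₀

/-- annihilation relations between the three classes -/
theorem comm_annihilate (h2 : (2 : k) ≠ 0) (hk : ∃ l : k, l ≠ 0 ∧ l ^ 2 ≠ 1) {d : ℕ}
    (hmin : IsMinRank G d) (hd₁ : finrank k R₁ = d) (hd₂ : finrank k R₂ = d)
    (hnnd : ¬ (R₁ ⊓ C₂ = ⊥ ∧ R₂ ⊓ C₁ = ⊥))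
    {x y : Module.End k M} (hx : x ∈ SCR G C₁ R₁) (hy : y ∈ SCR G C₂ R₂)
    (hx0 : x ≠ 0) (hy0 : y ≠ 0) :
    commRange C₁ R₁ C₂ R₂ ≤ C₁ ∧ commRange C₁ R₁ C₂ R₂ ≤ C₂ ∧
    R₁ ≤ commKer C₁ R₁ C₂ R₂ ∧ R₂ ≤ commKer C₁ R₁ C₂ R₂ ∧
    (∀ v ∈ commKer C₁ R₁ C₂ R₂, x v ∈ commRange C₁ R₁ C₂ R₂) ∧
    (∀ v ∈ commKer C₁ R₁ C₂ R₂, y v ∈ commRange C₁ R₁ C₂ R₂) := by
  obtain ⟨hxyx, hyxy⟩ := triple_zero_of_not_nd h2 hk hmin hd₁ hd₂ hnnd hx hy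
  have hRC₁ : R₁ ≤ C₁ := SCR.range_le_ker' hx hx0
  have hRC₂ : R₂ ≤ C₂ := SCR.range_le_ker' hy hy0
  have hkx : ∀ v ∈ C₁, x v = 0 := fun v hv => by
    rw [← SCR.ker_eq hx hx0] at hv; exact hv
  have hky : ∀ v ∈ C₂, y v = 0 := fun v hv => by
    rw [← SCR.ker_eq hy hy0] at hv; exact hv
  refine ⟨sup_le (inf_le_left.trans hRC₁) inf_le_right,
    sup_le inf_le_right (inf_le_left.trans hRC₂),
    le_inf (hRC₁.trans le_sup_left) le_sup_right,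
    le_inf le_sup_right (hRC₂.trans le_sup_left), ?_, ?_⟩
  · rintro v ⟨hv1, -⟩
    obtain ⟨c₁, hc₁, r₂, hr₂, rfl⟩ := Submodule.mem_sup.mp hv1
    rw [map_add, hkx c₁ hc₁, zero_add]
    apply Submodule.mem_sup_left
    rw [← SCR.range_eq hy hy0] at hr₂
    obtain ⟨w, rfl⟩ := hr₂
    refine ⟨?_, ?_⟩
    · rw [← SCR.range_eq hx hx0]; exact ⟨_, rfl⟩
    · rw [← SCR.ker_eq hy hy0]
      exact LinearMap.congr_fun hyxy w
  · rintro v ⟨-, hv2⟩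
    obtain ⟨c₂, hc₂, r₁, hr₁, rfl⟩ := Submodule.mem_sup.mp hv2
    rw [map_add, hky c₂ hc₂, zero_add]
    apply Submodule.mem_sup_right
    rw [← SCR.range_eq hx hx0] at hr₁
    obtain ⟨w, rfl⟩ := hr₁
    refine ⟨?_, ?_⟩
    · rw [← SCR.range_eq hy hy0]; exact ⟨_, rfl⟩
    · rw [← SCR.ker_eq hx hx0]
      exact LinearMap.congr_fun hxyx w

end fd

end Cfsg.Agent.Lib.Helper2.Qp
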