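import Mathlib
import Cfsg.Agent.Lib.Helper2.Qp18
import Cfsg.Agent.Lib.Helper8.Bs4

/-!
# Quadratic pairs, part 19: conjugation of classes, existence of opposite classes (via the
unipotent-pairs lemma of `Helper8.Bs`), conjugacy of classes in general position.
-/

set_option autoImplicit false
universe u v
open Module

namespace Cfsg.Agent.Lib.Helper2.Qp

variable {k : Type u} [Field k] {M : Type v} [AddCommGroup M] [Module k M]

/-! ### conjugation -/

theorem conjBy_conjBy {H : Type*} [Group H] (A : Subgroup H) (g h : H) :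
    Cfsg.conjBy (Cfsg.conjBy A h) g = Cfsg.conjBy A (g * h) := by
  ext x
  constructor
  · rintro ⟨_, ⟨z, hz, rfl⟩, rfl⟩
    refine ⟨z, hz, ?_⟩
    simp only [MulEquiv.coe_toMonoidHom, MulAut.conj_apply]
    group
  · rintro ⟨z, hz, rfl⟩
    refine ⟨h * z * h⁻¹, ⟨z, hz, ?_⟩, ?_⟩
    · simp only [MulEquiv.coe_toMonoidHom, MulAut.conj_apply]
    · simp only [MulEquiv.coe_toMonoidHom, MulAut.conj_apply]
      group

theorem conjBy_one {H : Type*} [Group H] (A : Subgroup H) : Cfsg.conjBy A 1 = A := by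
  ext x
  constructor
  · rintro ⟨z, hz, rfl⟩
    simpa using hz
  · intro hx
    exact ⟨x, hx, by simp⟩

theorem map_val_injective (g : LinearMap.GeneralLinearGroup k M) :
    Function.Injective (g : Module.End k M) := by
  intro v w h
  have := congrArg (((g⁻¹ : LinearMap.GeneralLinearGroup k M) : Module.End k M)) h
  rwa [inv_apply_apply, inv_apply_apply] at this

theorem nd_map_iff (g : LinearMap.GeneralLinearGroup k M) (C₁ R₁ C₂ R₂ : Submodule k M) :
    (R₁.map (g : Module.End k M) ⊓ C₂.map (g : Module.End k M) = ⊥ ∧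
      R₂.map (g : Module.End k M) ⊓ C₁.map (g : Module.End k M) = ⊥) ↔
    (R₁ ⊓ C₂ = ⊥ ∧ R₂ ⊓ C₁ = ⊥) := by
  have hinj := map_val_injective g
  have key : ∀ A B : Submodule k M,
      A.map (g : Module.End k M) ⊓ B.map (g : Module.End k M) = ⊥ ↔ A ⊓ B = ⊥ := by
    intro A B
    rw [← Submodule.map_inf _ hinj]
    constructor
    · intro h
      rw [eq_bot_iff]
      intro v hv
      have hgv : (g : Module.End k M) v ∈ (A ⊓ B).map (g : Module.End k M) :=
        Submodule.mem_map_of_mem hv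
      rw [h, Submodule.mem_bot] at hgv
      rw [Submodule.mem_bot]
      exact hinj (hgv.trans (map_zero _).symm)
    · intro h
      rw [h, Submodule.map_bot]
  rw [key, key]

section fd

variable [FiniteDimensional k M] {G : Subgroup (LinearMap.GeneralLinearGroup k M)}

theorem SCR.conj {C R : Submodule k M} {N : Module.End k M} (hN : N ∈ SCR G C R)
    {g : LinearMap.GeneralLinearGroup k M} (hg : g ∈ G) :
    (g : Module.End k M) * N * ((g⁻¹ : LinearMap.GeneralLinearGroup k M) : Module.End k M) ∈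
      SCR G (C.map (g : Module.End k M)) (R.map (g : Module.End k M)) := by
  refine ⟨QSet.conj hN.1 hg, ?_⟩
  rcases hN.2 with h | ⟨h1, h2⟩
  · left; rw [h, mul_zero, zero_mul]
  · right; rw [ker_conj, range_conj, h1, h2]; exact ⟨rfl, rfl⟩

theorem ker_sub_one_conj (g σ : LinearMap.GeneralLinearGroup k M) :
    LinearMap.ker (((g * σ * g⁻¹ : LinearMap.GeneralLinearGroup k M) : Module.End k M) - 1) =
      (LinearMap.ker ((σ : Module.End k M) - 1)).map (g : Module.End k M) := by
  rw [conj_sub_one, ker_conj]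

theorem range_sub_one_conj (g σ : LinearMap.GeneralLinearGroup k M) :
    LinearMap.range (((g * σ * g⁻¹ : LinearMap.GeneralLinearGroup k M) : Module.End k M) - 1) =
      (LinearMap.range ((σ : Module.End k M) - 1)).map (g : Module.End k M) := by
  rw [conj_sub_one, range_conj]

/-- general position is invariant under simultaneous conjugation -/
theorem nd_conj_iff (g σ τ : LinearMap.GeneralLinearGroup k M) :
    (LinearMap.range (((g * σ * g⁻¹ : LinearMap.GeneralLinearGroup k M) : Module.End k M) - 1) ⊓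
        LinearMap.ker (((g * τ * g⁻¹ : LinearMap.GeneralLinearGroup k M) : Module.End k M) - 1) = ⊥ ∧
      LinearMap.range (((g * τ * g⁻¹ : LinearMap.GeneralLinearGroup k M) : Module.End k M) - 1) ⊓
        LinearMap.ker (((g * σ * g⁻¹ : LinearMap.GeneralLinearGroup k M) : Module.End k M) - 1) = ⊥) ↔
    (LinearMap.range ((σ : Module.End k M) - 1) ⊓ LinearMap.ker ((τ : Module.End k M) - 1) = ⊥ ∧
      LinearMap.range ((τ : Module.End k M) - 1) ⊓ LinearMap.ker ((σ : Module.End k M) - 1) = ⊥) := by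
  rw [ker_sub_one_conj, ker_sub_one_conj, range_sub_one_conj, range_sub_one_conj]
  exact nd_map_iff g _ _ _ _

/-! ### fixed vectors of unipotent groups -/

theorem exists_fixed_of_unipotent {H : Subgroup (LinearMap.GeneralLinearGroup k M)}
    (hH : Cfsg.IsUnipotentOn H) (hM : ∃ m : M, m ≠ 0) :
    ∃ v : M, v ≠ 0 ∧ ∀ g ∈ H, (g : Module.End k M) v = v := by
  classical
  have hP : ∃ n, ∀ l : List (LinearMap.GeneralLinearGroup k M), (∀ g ∈ l, g ∈ H) →
    l.length = n → (l.map fun g : LinearMap.GeneralLinearGroup k M => (g : M →ₗ[k] M) - 1).prod = 0 :=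
    (isUnipotentOn_iff H).mp hH
  have hfind : ∀ l : List (LinearMap.GeneralLinearGroup k M), (∀ g ∈ l, g ∈ H) →
    l.length = Nat.find hP → (l.map fun g : LinearMap.GeneralLinearGroup k M => (g : M →ₗ[k] M) - 1).prod = 0 := Nat.find_spec hP
  rcases Nat.eq_zero_or_pos (Nat.find hP) with h0 | hpos
  · exfalso
    have h1 := hfind [] (by simp) (by rw [h0]; rfl)
    rw [List.map_nil, List.prod_nil] at h1
    obtain ⟨m, hm⟩ := hM
    apply hm
    have h3 := LinearMap.congr_fun h1 m
    rw [Module.End.one_apply, LinearMap.zero_apply] at h3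
    exact h3
  · have hnot : ¬ (∀ l : List (LinearMap.GeneralLinearGroup k M), (∀ g ∈ l, g ∈ H) →
        l.length = Nat.find hP - 1 → (l.map fun g : LinearMap.GeneralLinearGroup k M => (g : M →ₗ[k] M) - 1).prod = 0) :=
      Nat.find_min hP (by omega)
    push Not at hnot
    obtain ⟨l, hl, hlen, hprod⟩ := hnot
    obtain ⟨v, hv⟩ : ∃ v, (l.map fun g : LinearMap.GeneralLinearGroup k M => (g : M →ₗ[k] M) - 1).prod v ≠ 0 := by
      by_contra hcon
      push Not at hcon
      apply hprod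
      ext v
      exact hcon v
    refine ⟨_, hv, ?_⟩
    intro g hg
    have hgl : ∀ g' ∈ g :: l, g' ∈ H := by
      intro g' hg'
      rcases List.mem_cons.mp hg' with rfl | h
      · exact hg
      · exact hl g' h
    have hlen' : (g :: l).length = Nat.find hP := by
      rw [List.length_cons, hlen]; omega
    have h1 := hfind (g :: l) hgl hlen'
    rw [List.map_cons, List.prod_cons] at h1
    have h3 := LinearMap.congr_fun h1 v
    rw [Module.End.mul_apply, LinearMap.sub_apply, LinearMap.zero_apply, sub_eq_zero] at h3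
    exact h3

/-! ### opposite classes -/

variable {σ τ : LinearMap.GeneralLinearGroup k M}

theorem ne_one_of_minimal (hσ : σ ∈ Cfsg.minimalQuadraticElements G) : σ ≠ 1 := by
  intro h
  apply (sub_one_mem_QSet hσ.1).2
  rw [h, Units.val_one, sub_self]

/-- every class has an opposite class (this uses the irreducibility of `M`) -/
theorem exists_opposite (hirr : Cfsg.IsIrreducibleFor G) (h2 : (2 : k) ≠ 0)
    (hk : ∃ l : k, l ≠ 0 ∧ l ^ 2 ≠ 1) (hσ : σ ∈ Cfsg.minimalQuadraticElements G) :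
    ∃ τ ∈ Cfsg.minimalQuadraticElements G,
      LinearMap.range ((σ : Module.End k M) - 1) ⊓ LinearMap.ker ((τ : Module.End k M) - 1) = ⊥ ∧
      LinearMap.range ((τ : Module.End k M) - 1) ⊓ LinearMap.ker ((σ : Module.End k M) - 1) = ⊥ := by
  by_contra hcon
  have hcon' : ∀ τ ∈ Cfsg.minimalQuadraticElements G,
      ¬ (LinearMap.range ((σ : Module.End k M) - 1) ⊓ LinearMap.ker ((τ : Module.End k M) - 1) = ⊥ ∧
      LinearMap.range ((τ : Module.End k M) - 1) ⊓ LinearMap.ker ((σ : Module.End k M) - 1) = ⊥) :=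
    fun τ hτ h => hcon ⟨τ, hτ, h⟩
  let W : Set (Subgroup (LinearMap.GeneralLinearGroup k M)) :=
    {A | ∃ g ∈ G, A = Cfsg.sameActionSubgroup G (g * σ * g⁻¹)}
  have hWG : ∀ A ∈ W, A ≤ G := by
    rintro A ⟨g, hg, rfl⟩
    exact sameActionSubgroup_le _
  have hWconj : ∀ A ∈ W, ∀ g ∈ G, Cfsg.conjBy A g ∈ W := by
    rintro A ⟨g, hg, rfl⟩ h hh
    refine ⟨h * g, G.mul_mem hh hg, ?_⟩
    rw [conjBy_sameActionSubgroup hh]
    have e : h * (g * σ * g⁻¹) * h⁻¹ = h * g * σ * (h * g)⁻¹ := by group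
    rw [e]
  have hWW : ∀ A ∈ W, ∀ B ∈ W, Cfsg.IsUnipotentOn (A ⊔ B) := by
    rintro A ⟨g₁, hg₁, rfl⟩ B ⟨g₂, hg₂, rfl⟩
    apply unipotent_of_not_nd h2 hk (conj_mem_minimal hσ hg₁) (conj_mem_minimal hσ hg₂)
    intro hnd
    have e : g₂ * σ * g₂⁻¹ = g₁ * (g₁⁻¹ * g₂ * σ * (g₁⁻¹ * g₂)⁻¹) * g₁⁻¹ := by group
    rw [e, nd_conj_iff] at hnd
    exact hcon' _ (conj_mem_minimal hσ (G.mul_mem (G.inv_mem hg₁) hg₂)) hnd
  have hU := Cfsg.Agent.Lib.Helper8.Bs.main hWG hWW hWconj
  have hN := Cfsg.Agent.Lib.Helper8.Bs.normal_part (G := G) hWconj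
  obtain ⟨v, hv0, hv⟩ := exists_fixed_of_unipotent hU hirr.1
  let Fx : Submodule k M :=
    { carrier := {w | ∀ g ∈ (⨆ A ∈ W, A), (g : Module.End k M) w = w}
      add_mem' := fun {a b} ha hb g hg => by rw [map_add, ha g hg, hb g hg]
      zero_mem' := fun g _ => map_zero _
      smul_mem' := fun c w hw g hg => by rw [map_smul, hw g hg] }
  have hinv : ∀ h ∈ G, ∀ w ∈ Fx, (h : M →ₗ[k] M) w ∈ Fx := by
    intro h hh w hw g hg
    have hg' : h⁻¹ * g * h ∈ (⨆ A ∈ W, A) := by
      have := hN h⁻¹ (G.inv_mem hh)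
      rw [← this]
      refine ⟨g, hg, ?_⟩
      simp only [MulEquiv.coe_toMonoidHom, MulAut.conj_apply, inv_inv]
    have e1 := hw _ hg'
    rw [Units.val_mul, Units.val_mul, Module.End.mul_apply, Module.End.mul_apply] at e1
    have e2 := congrArg (h : Module.End k M) e1
    rw [apply_inv_apply] at e2
    exact e2
  have hσU : σ ∈ (⨆ A ∈ W, A) := by
    have hmem : Cfsg.sameActionSubgroup G σ ∈ W := by
      refine ⟨1, G.one_mem, ?_⟩
      rw [one_mul, inv_one, mul_one]
    exact (le_iSup₂ (f := fun (A : Subgroup (LinearMap.GeneralLinearGroup k M)) (_ : A ∈ W) => A)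
      _ hmem) (self_mem_sameAction hσ)
  rcases hirr.2 Fx hinv with hbot | htop
  · have : v ∈ Fx := hv
    rw [hbot, Submodule.mem_bot] at this
    exact hv0 this
  · apply (sub_one_mem_QSet hσ.1).2
    ext w
    have hw : w ∈ Fx := by rw [htop]; trivial
    have := hw σ hσU
    rw [LinearMap.sub_apply, this, Module.End.one_apply, sub_self, LinearMap.zero_apply]

/-! ### conjugacy inside `G` -/

/-- `A` and `B` are conjugate under `G` -/
def ConjIn (G : Subgroup (LinearMap.GeneralLinearGroup k M))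
    (A B : Subgroup (LinearMap.GeneralLinearGroup k M)) : Prop :=
  ∃ g ∈ G, Cfsg.conjBy A g = B

theorem ConjIn.refl (A : Subgroup (LinearMap.GeneralLinearGroup k M)) : ConjIn G A A :=
  ⟨1, G.one_mem, conjBy_one A⟩

theorem ConjIn.symm {A B : Subgroup (LinearMap.GeneralLinearGroup k M)} (h : ConjIn G A B) :
    ConjIn G B A := by
  obtain ⟨g, hg, rfl⟩ := h
  refine ⟨g⁻¹, G.inv_mem hg, ?_⟩
  rw [conjBy_conjBy, inv_mul_cancel, conjBy_one]

theorem ConjIn.trans {A B C : Subgroup (LinearMap.GeneralLinearGroup k M)} (h : ConjIn G A B)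
    (h' : ConjIn G B C) : ConjIn G A C := by
  obtain ⟨g, hg, rfl⟩ := h
  obtain ⟨g', hg', rfl⟩ := h'
  exact ⟨g' * g, G.mul_mem hg' hg, (conjBy_conjBy A g' g).symm⟩

/-- classes in general position are conjugate -/
theorem conjIn_of_nd (h2 : (2 : k) ≠ 0) (hk : ∃ l : k, l ≠ 0 ∧ l ^ 2 ≠ 1)
    (hσ : σ ∈ Cfsg.minimalQuadraticElements G) (hτ : τ ∈ Cfsg.minimalQuadraticElements G)
    (hnd : LinearMap.range ((σ : Module.End k M) - 1) ⊓ LinearMap.ker ((τ : Module.End k M) - 1) = ⊥ ∧
      LinearMap.range ((τ : Module.End k M) - 1) ⊓ LinearMap.ker ((σ : Module.End k M) - 1) = ⊥) :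
    ConjIn G (Cfsg.sameActionSubgroup G σ) (Cfsg.sameActionSubgroup G τ) := by
  have hc := rankOneCondition_of_nd h2 hk hσ hτ hnd
  obtain ⟨b, hb, -, hconj⟩ := hc σ (self_mem_sameAction hσ) (ne_one_of_minimal hσ)
  refine ⟨σ * b⁻¹, G.mul_mem hσ.1.1 (G.inv_mem (sameActionSubgroup_le τ hb)), ?_⟩
  rw [← conjBy_conjBy, hconj, conjBy_conjBy, mul_inv_cancel, conjBy_one]

/-- transport of classes along a conjugation -/
theorem SCR.of_conjBy (hσ : σ ∈ Cfsg.minimalQuadraticElements G)
    (hτ : τ ∈ Cfsg.minimalQuadraticElements G) {g : LinearMap.GeneralLinearGroup k M}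
    (hconj : Cfsg.conjBy (Cfsg.sameActionSubgroup G σ) g = Cfsg.sameActionSubgroup G τ)
    {N : Module.End k M}
    (hN : N ∈ SCR G (LinearMap.ker ((σ : Module.End k M) - 1))
      (LinearMap.range ((σ : Module.End k M) - 1))) :
    (g : Module.End k M) * N * ((g⁻¹ : LinearMap.GeneralLinearGroup k M) : Module.End k M) ∈
      SCR G (LinearMap.ker ((τ : Module.End k M) - 1)) (LinearMap.range ((τ : Module.End k M) - 1)) := by
  have h1 : uN N 1 ∈ Cfsg.sameActionSubgroup G σ := uN_mem_sameAction hσ hN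
  have h3 : g * uN N 1 * g⁻¹ ∈ Cfsg.sameActionSubgroup G τ := by
    rw [← hconj]
    exact ⟨uN N 1, h1, rfl⟩
  rw [mem_sameActionSubgroup_iff hτ, conj_sub_one, uN_val hN.1.1, one_smul,
    add_sub_cancel_left] at h3
  exact h3

/-- the class `SCR G C R` as a subspace of `End M` -/
def SCRsub {d : ℕ} (hmin : IsMinRank G d) {C R : Submodule k M} (hd : finrank k R = d) :
    Submodule k (Module.End k M) where
  carrier := SCR G C R
  add_mem' := fun ha hb => SCR.add hmin hd ha hb
  zero_mem' := SCR.zero_mem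
  smul_mem' := fun t _ h => SCR.smul h t

theorem mem_SCRsub {d : ℕ} (hmin : IsMinRank G d) {C R : Submodule k M} (hd : finrank k R = d)
    (N : Module.End k M) : N ∈ SCRsub (C := C) hmin hd ↔ N ∈ SCR G C R := Iff.rfl


end fd

end Cfsg.Agent.Lib.Helper2.Qp
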