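import Mathlib
import Cfsg.Agent.Lib.Helper2.Qp19

/-!
# Quadratic pairs, part 20: for a class two pair `E(σ)`, `E(τ)` with commutator class `E(ρ)`
the three root subgroups are conjugate in `G`, and for a fixed non-zero `x` the commutator map
`y ↦ x y - y x` is onto the third class.
-/

set_option autoImplicit false
universe u v
open Module

namespace Cfsg.Agent.Lib.Helper2.Qp

variable {k : Type u} [Field k] {M : Type v} [AddCommGroup M] [Module k M]

theorem th_sq_zero_of {a b : Module.End k M} (haa : a * a = 0) (hbb : b * b = 0)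
    (hbab : b * a * b = 0) : IsNilpotent (th a b) := by
  refine ⟨2, ?_⟩
  unfold th
  rw [pow_two]
  have e1 : a * b * (a * b) = 0 := by
    calc a * b * (a * b) = a * (b * a * b) := by simp only [mul_assoc]
      _ = 0 := by rw [hbab, mul_zero]
  have e2 : a * b * (b * a) = 0 := by
    calc a * b * (b * a) = a * (b * b) * a := by simp only [mul_assoc]
      _ = 0 := by rw [hbb, mul_zero, zero_mul]
  have e3 : b * a * (a * b) = 0 := by
    calc b * a * (a * b) = b * (a * a) * b := by simp only [mul_assoc]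
      _ = 0 := by rw [haa, mul_zero, zero_mul]
  have e4 : b * a * (b * a) = 0 := by
    calc b * a * (b * a) = (b * a * b) * a := by simp only [mul_assoc]
      _ = 0 := by rw [hbab, zero_mul]
  simp only [mul_add, add_mul, e1, e2, e3, e4, add_zero]

section fd

variable [FiniteDimensional k M] {G : Subgroup (LinearMap.GeneralLinearGroup k M)}
variable {σ τ ρ : LinearMap.GeneralLinearGroup k M}

/-- the second root subgroup of a class two pair is conjugate to the commutator root subgroup -/
theorem conjIn_third (hirr : Cfsg.IsIrreducibleFor G) (h2 : (2 : k) ≠ 0)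
    (hk : ∃ l : k, l ≠ 0 ∧ l ^ 2 ≠ 1)
    (hσ : σ ∈ Cfsg.minimalQuadraticElements G) (hτ : τ ∈ Cfsg.minimalQuadraticElements G)
    (hρ : ρ ∈ Cfsg.minimalQuadraticElements G)
    (hnnd : ¬ (LinearMap.range ((σ : Module.End k M) - 1) ⊓
        LinearMap.ker ((τ : Module.End k M) - 1) = ⊥ ∧
      LinearMap.range ((τ : Module.End k M) - 1) ⊓ LinearMap.ker ((σ : Module.End k M) - 1) = ⊥))
    {x₀ y₀ : Module.End k M}
    (hx₀ : x₀ ∈ SCR G (LinearMap.ker ((σ : Module.End k M) - 1))
      (LinearMap.range ((σ : Module.End k M) - 1)))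
    (hy₀ : y₀ ∈ SCR G (LinearMap.ker ((τ : Module.End k M) - 1))
      (LinearMap.range ((τ : Module.End k M) - 1)))
    (hD₀ : x₀ * y₀ - y₀ * x₀ ≠ 0)
    (hρk : LinearMap.ker ((ρ : Module.End k M) - 1) =
      commKer (LinearMap.ker ((σ : Module.End k M) - 1)) (LinearMap.range ((σ : Module.End k M) - 1))
        (LinearMap.ker ((τ : Module.End k M) - 1)) (LinearMap.range ((τ : Module.End k M) - 1)))
    (hρr : LinearMap.range ((ρ : Module.End k M) - 1) =
      commRange (LinearMap.ker ((σ : Module.End k M) - 1))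
        (LinearMap.range ((σ : Module.End k M) - 1))
        (LinearMap.ker ((τ : Module.End k M) - 1)) (LinearMap.range ((τ : Module.End k M) - 1))) :
    ConjIn G (Cfsg.sameActionSubgroup G τ) (Cfsg.sameActionSubgroup G ρ) := by
  have hmin := isMinRank_of_minimal hσ
  have hd₂ := finrank_range_eq hσ hτ
  obtain ⟨ρ', hρ', hnd'⟩ := exists_opposite hirr h2 hk hρ
  have hCρ : ConjIn G (Cfsg.sameActionSubgroup G ρ) (Cfsg.sameActionSubgroup G ρ') :=
    conjIn_of_nd h2 hk hρ hρ' hnd'
  have hD₀S : x₀ * y₀ - y₀ * x₀ ∈ SCR G (LinearMap.ker ((ρ : Module.End k M) - 1))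
      (LinearMap.range ((ρ : Module.End k M) - 1)) := by
    rw [hρk, hρr]
    exact comm_mem_SCR h2 hk hmin rfl hd₂ hnnd hx₀ hy₀
  obtain ⟨hN', hN'0⟩ := self_sub_one_mem_SCR hρ'
  have hdρ' := finrank_range_eq hσ hρ'
  by_cases hnd2 : LinearMap.range ((τ : Module.End k M) - 1) ⊓
        LinearMap.ker ((ρ' : Module.End k M) - 1) = ⊥ ∧
      LinearMap.range ((ρ' : Module.End k M) - 1) ⊓ LinearMap.ker ((τ : Module.End k M) - 1) = ⊥
  · exact (conjIn_of_nd h2 hk hτ hρ' hnd2).trans hCρ.symm
  · have he : uN x₀ (-1) ∈ G := hx₀.1.2 (-1)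
    have hτ' : uN x₀ (-1) * τ * (uN x₀ (-1))⁻¹ ∈ Cfsg.minimalQuadraticElements G :=
      conj_mem_minimal hτ he
    have hconj1 : ConjIn G (Cfsg.sameActionSubgroup G τ)
        (Cfsg.sameActionSubgroup G (uN x₀ (-1) * τ * (uN x₀ (-1))⁻¹)) :=
      ⟨_, he, conjBy_sameActionSubgroup he⟩
    have hdτ' := finrank_range_eq hσ hτ'
    have hnd3 : LinearMap.range (((uN x₀ (-1) * τ * (uN x₀ (-1))⁻¹ :
          LinearMap.GeneralLinearGroup k M) : Module.End k M) - 1) ⊓
          LinearMap.ker ((ρ' : Module.End k M) - 1) = ⊥ ∧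
        LinearMap.range ((ρ' : Module.End k M) - 1) ⊓
          LinearMap.ker (((uN x₀ (-1) * τ * (uN x₀ (-1))⁻¹ :
          LinearMap.GeneralLinearGroup k M) : Module.End k M) - 1) = ⊥ := by
      by_contra hnd3
      have t1 := (triple_zero_of_not_nd h2 hk hmin hd₂ hdρ' hnd2 hy₀ hN').2
      have hy' : (uN x₀ (-1) : Module.End k M) * y₀ *
          (((uN x₀ (-1))⁻¹ : LinearMap.GeneralLinearGroup k M) : Module.End k M) ∈
          SCR G (LinearMap.ker (((uN x₀ (-1) * τ * (uN x₀ (-1))⁻¹ :
            LinearMap.GeneralLinearGroup k M) : Module.End k M) - 1))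
          (LinearMap.range (((uN x₀ (-1) * τ * (uN x₀ (-1))⁻¹ :
            LinearMap.GeneralLinearGroup k M) : Module.End k M) - 1)) := by
        rw [ker_sub_one_conj, range_sub_one_conj]
        exact SCR.conj hy₀ he
      have t2 := (triple_zero_of_not_nd h2 hk hmin hdτ' hdρ' hnd3 hy' hN').2
      have hxyx := (triple_zero_of_not_nd h2 hk hmin rfl hd₂ hnnd hx₀ hy₀).1
      have hxx := hx₀.1.1
      have e1 : (uN x₀ (-1) : Module.End k M) * y₀ *
          (((uN x₀ (-1))⁻¹ : LinearMap.GeneralLinearGroup k M) : Module.End k M) =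
          y₀ - (x₀ * y₀ - y₀ * x₀) := by
        rw [uN_val hxx, uN_inv_val hxx]
        simp only [neg_smul, one_smul, sub_neg_eq_add, mul_add, add_mul, mul_one, one_mul,
          neg_mul, mul_neg, hxyx]
        abel
      rw [e1] at t2
      have t3 : ((ρ' : Module.End k M) - 1) * (x₀ * y₀ - y₀ * x₀) * ((ρ' : Module.End k M) - 1) =
          ((ρ' : Module.End k M) - 1) * y₀ * ((ρ' : Module.End k M) - 1) -
          ((ρ' : Module.End k M) - 1) * (y₀ - (x₀ * y₀ - y₀ * x₀)) *
            ((ρ' : Module.End k M) - 1) := by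
        generalize ((ρ' : Module.End k M) - 1) = N'
        generalize (x₀ * y₀ - y₀ * x₀) = D
        noncomm_ring
      rw [t1, t2, sub_zero] at t3
      exact not_nilpotent_of_nd hnd' hD₀S hN' hD₀ hN'0
        (th_sq_zero_of hD₀S.1.1 hN'.1.1 t3)
    exact hconj1.trans ((conjIn_of_nd h2 hk hτ' hρ' hnd3).trans hCρ.symm)

/-- **surjectivity of the commutator map** -/
theorem comm_surj (hirr : Cfsg.IsIrreducibleFor G) (h2 : (2 : k) ≠ 0)
    (hk : ∃ l : k, l ≠ 0 ∧ l ^ 2 ≠ 1)
    (hσ : σ ∈ Cfsg.minimalQuadraticElements G) (hτ : τ ∈ Cfsg.minimalQuadraticElements G)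
    (hρ : ρ ∈ Cfsg.minimalQuadraticElements G)
    (hnnd : ¬ (LinearMap.range ((σ : Module.End k M) - 1) ⊓
        LinearMap.ker ((τ : Module.End k M) - 1) = ⊥ ∧
      LinearMap.range ((τ : Module.End k M) - 1) ⊓ LinearMap.ker ((σ : Module.End k M) - 1) = ⊥))
    {x₀ y₀ : Module.End k M}
    (hx₀ : x₀ ∈ SCR G (LinearMap.ker ((σ : Module.End k M) - 1))
      (LinearMap.range ((σ : Module.End k M) - 1)))
    (hy₀ : y₀ ∈ SCR G (LinearMap.ker ((τ : Module.End k M) - 1))
      (LinearMap.range ((τ : Module.End k M) - 1)))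
    (hD₀ : x₀ * y₀ - y₀ * x₀ ≠ 0)
    (hρk : LinearMap.ker ((ρ : Module.End k M) - 1) =
      commKer (LinearMap.ker ((σ : Module.End k M) - 1)) (LinearMap.range ((σ : Module.End k M) - 1))
        (LinearMap.ker ((τ : Module.End k M) - 1)) (LinearMap.range ((τ : Module.End k M) - 1)))
    (hρr : LinearMap.range ((ρ : Module.End k M) - 1) =
      commRange (LinearMap.ker ((σ : Module.End k M) - 1))
        (LinearMap.range ((σ : Module.End k M) - 1))
        (LinearMap.ker ((τ : Module.End k M) - 1)) (LinearMap.range ((τ : Module.End k M) - 1)))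
    {x : Module.End k M}
    (hx : x ∈ SCR G (LinearMap.ker ((σ : Module.End k M) - 1))
      (LinearMap.range ((σ : Module.End k M) - 1))) (hx0 : x ≠ 0)
    {N : Module.End k M}
    (hN : N ∈ SCR G (LinearMap.ker ((ρ : Module.End k M) - 1))
      (LinearMap.range ((ρ : Module.End k M) - 1))) :
    ∃ y ∈ SCR G (LinearMap.ker ((τ : Module.End k M) - 1))
      (LinearMap.range ((τ : Module.End k M) - 1)), x * y - y * x = N := by
  have hmin := isMinRank_of_minimal hσ
  have hd₂ := finrank_range_eq hσ hτ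
  have hd₃ := finrank_range_eq hσ hρ
  obtain ⟨g, hg, hconj⟩ := (conjIn_third hirr h2 hk hσ hτ hρ hnnd hx₀ hy₀ hD₀ hρk hρr).symm
  let cg : Module.End k M →ₗ[k] Module.End k M :=
    (LinearMap.mulLeft k (g : Module.End k M)).comp
      (LinearMap.mulRight k (((g⁻¹ : LinearMap.GeneralLinearGroup k M) : Module.End k M)))
  let φ : Module.End k M →ₗ[k] Module.End k M :=
    (LinearMap.mulLeft k x).comp cg - (LinearMap.mulRight k x).comp cg
  have hφ_apply : ∀ T : Module.End k M, φ T =
      x * ((g : Module.End k M) * T * ((g⁻¹ : LinearMap.GeneralLinearGroup k M) : Module.End k M)) -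
      ((g : Module.End k M) * T * ((g⁻¹ : LinearMap.GeneralLinearGroup k M) : Module.End k M)) * x := by
    intro T
    simp only [φ, cg, LinearMap.sub_apply, LinearMap.comp_apply, LinearMap.mulLeft_apply,
      LinearMap.mulRight_apply, mul_assoc]
  have hconjmem : ∀ T ∈ SCR G (LinearMap.ker ((ρ : Module.End k M) - 1))
      (LinearMap.range ((ρ : Module.End k M) - 1)),
      (g : Module.End k M) * T * ((g⁻¹ : LinearMap.GeneralLinearGroup k M) : Module.End k M) ∈
      SCR G (LinearMap.ker ((τ : Module.End k M) - 1))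
        (LinearMap.range ((τ : Module.End k M) - 1)) :=
    fun T hT => SCR.of_conjBy hρ hτ hconj hT
  have hφ : ∀ T ∈ SCRsub (C := LinearMap.ker ((ρ : Module.End k M) - 1)) hmin hd₃,
      φ T ∈ SCRsub (C := LinearMap.ker ((ρ : Module.End k M) - 1)) hmin hd₃ := by
    intro T hT
    rw [mem_SCRsub] at hT ⊢
    rw [hφ_apply, hρk, hρr]
    exact comm_mem_SCR h2 hk hmin rfl hd₂ hnnd hx (hconjmem T hT)
  let ψ := φ.restrict hφ
  have hinj : Function.Injective ψ := by
    rw [injective_iff_map_eq_zero]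
    rintro ⟨T, hT⟩ h0
    have h1 : φ T = 0 := by
      have := congrArg Subtype.val h0
      exact this
    rw [hφ_apply] at h1
    rw [mem_SCRsub] at hT
    have hy := hconjmem T hT
    have hy0 : (g : Module.End k M) * T *
        ((g⁻¹ : LinearMap.GeneralLinearGroup k M) : Module.End k M) = 0 := by
      by_contra hy0
      exact comm_ne_zero h2 hk hmin rfl hd₂ hx₀ hy₀ hD₀ hx hy hx0 hy0 h1
    have hT0 : T = 0 := by
      have := congrArg (fun S => ((g⁻¹ : LinearMap.GeneralLinearGroup k M) : Module.End k M) * S *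
        (g : Module.End k M)) hy0
      simp only [mul_zero, zero_mul] at this
      rw [← mul_assoc, ← mul_assoc, inv_mul_val, one_mul, mul_assoc, inv_mul_val, mul_one] at this
      exact this
    apply Subtype.ext
    exact hT0
  have hsurj : Function.Surjective ψ := LinearMap.surjective_of_injective hinj
  obtain ⟨⟨T, hT⟩, hTeq⟩ := hsurj ⟨N, hN⟩
  have h1 : φ T = N := by
    have := congrArg Subtype.val hTeq
    exact this
  rw [hφ_apply] at h1
  exact ⟨_, hconjmem T hT, h1⟩

end fd

end Cfsg.Agent.Lib.Helper2.Qp
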