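import Mathlib
import Cfsg.Agent.Lib.Helper2.Qp20

/-!
# Quadratic pairs, part 21: group level consequences for a class two pair `E(σ)`, `E(τ)`.
-/

set_option autoImplicit false
universe u v
open Module

namespace Cfsg.Agent.Lib.Helper2.Qp

open scoped commutatorElement

/-! ### a general lemma on commutators of a join -/

theorem commutator_sup_le' {H : Type*} [Group H] {A B L : Subgroup H}
    (hA : ∀ a ∈ A, ∀ a' ∈ A, a * a' = a' * a) (hB : ∀ b ∈ B, ∀ b' ∈ B, b * b' = b' * b)
    (hAB : ⁅A, B⁆ ≤ L) (hLA : ∀ c ∈ L, ∀ a ∈ A, c * a = a * c)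
    (hLB : ∀ c ∈ L, ∀ b ∈ B, c * b = b * c) : ⁅A ⊔ B, A ⊔ B⁆ ≤ L := by
  have hsup : A ⊔ B = Subgroup.closure ((A : Set H) ∪ B) := by
    rw [Subgroup.closure_union, Subgroup.closure_eq, Subgroup.closure_eq]
  have hLX : ∀ c ∈ L, ∀ g ∈ A ⊔ B, c * g = g * c := by
    intro c hc g hg
    have hle : A ⊔ B ≤ Subgroup.centralizer {c} := by
      apply sup_le
      · intro a ha
        rw [Subgroup.mem_centralizer_iff]
        intro h hh
        rw [Set.mem_singleton_iff] at hh
        rw [hh]; exact hLA c hc a ha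
      · intro b hb
        rw [Subgroup.mem_centralizer_iff]
        intro h hh
        rw [Set.mem_singleton_iff] at hh
        rw [hh]; exact hLB c hc b hb
    have := hle hg
    rw [Subgroup.mem_centralizer_iff] at this
    exact this c rfl
  have right : ∀ g : H, (∀ a ∈ A, ⁅g, a⁆ ∈ L) → (∀ b ∈ B, ⁅g, b⁆ ∈ L) →
      ∀ h ∈ A ⊔ B, ⁅g, h⁆ ∈ L := by
    intro g hgA hgB h hh
    rw [hsup] at hh
    induction hh using Subgroup.closure_induction with
    | mem h hh =>
      rcases hh with hh | hh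
      · exact hgA h hh
      · exact hgB h hh
    | one => rw [commutatorElement_one_right]; exact L.one_mem
    | mul h₁ h₂ hh₁ hh₂ ih₁ ih₂ =>
      have e : ⁅g, h₁ * h₂⁆ = ⁅g, h₁⁆ * (h₁ * ⁅g, h₂⁆ * h₁⁻¹) := by
        simp only [commutatorElement_def]; group
      rw [e]
      have hc : h₁ * ⁅g, h₂⁆ * h₁⁻¹ = ⁅g, h₂⁆ := by
        have := hLX _ ih₂ h₁ (hsup ▸ hh₁)
        rw [← this, mul_inv_cancel_right]
      rw [hc]; exact L.mul_mem ih₁ ih₂
    | inv h hh ih =>
      have e : ⁅g, h⁻¹⁆ = h⁻¹ * ⁅g, h⁆⁻¹ * h := by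
        simp only [commutatorElement_def]; group
      rw [e]
      have := hLX _ (L.inv_mem ih) h (hsup ▸ hh)
      rw [mul_assoc, this, inv_mul_cancel_left]; exact L.inv_mem ih
  have left : ∀ h : H, (∀ a ∈ A, ⁅a, h⁆ ∈ L) → (∀ b ∈ B, ⁅b, h⁆ ∈ L) →
      ∀ g ∈ A ⊔ B, ⁅g, h⁆ ∈ L := by
    intro h hhA hhB g hg
    rw [hsup] at hg
    induction hg using Subgroup.closure_induction with
    | mem g hg =>
      rcases hg with hg | hg
      · exact hhA g hg
      · exact hhB g hg
    | one => rw [commutatorElement_one_left]; exact L.one_mem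
    | mul g₁ g₂ hg₁ hg₂ ih₁ ih₂ =>
      have e : ⁅g₁ * g₂, h⁆ = (g₁ * ⁅g₂, h⁆ * g₁⁻¹) * ⁅g₁, h⁆ := by
        simp only [commutatorElement_def]; group
      rw [e]
      have hc : g₁ * ⁅g₂, h⁆ * g₁⁻¹ = ⁅g₂, h⁆ := by
        have := hLX _ ih₂ g₁ (hsup ▸ hg₁)
        rw [← this, mul_inv_cancel_right]
      rw [hc]; exact L.mul_mem ih₂ ih₁
    | inv g hg ih =>
      have e : ⁅g⁻¹, h⁆ = g⁻¹ * ⁅g, h⁆⁻¹ * g := by
        simp only [commutatorElement_def]; group
      rw [e]
      have := hLX _ (L.inv_mem ih) g (hsup ▸ hg)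
      rw [mul_assoc, this, inv_mul_cancel_left]; exact L.inv_mem ih
  rw [Subgroup.commutator_le]
  intro g hg h hh
  apply left h _ _ g hg
  · intro a ha
    apply right a _ _ h hh
    · intro a' ha'
      rw [commutatorElement_eq_one_iff_commute.mpr (hA a ha a' ha')]
      exact L.one_mem
    · intro b hb
      exact hAB (Subgroup.commutator_mem_commutator ha hb)
  · intro b hb
    apply right b _ _ h hh
    · intro a ha
      rw [← commutatorElement_inv]
      exact L.inv_mem (hAB (Subgroup.commutator_mem_commutator ha hb))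
    · intro b' hb'
      rw [commutatorElement_eq_one_iff_commute.mpr (hB b hb b' hb')]
      exact L.one_mem

variable {k : Type u} [Field k] {M : Type v} [AddCommGroup M] [Module k M]

/-- the group commutator of two class two elements -/
theorem comm_elt_eq [FiniteDimensional k M] (e f : LinearMap.GeneralLinearGroup k M)
    (hxx : ((e : Module.End k M) - 1) * ((e : Module.End k M) - 1) = 0)
    (hyy : ((f : Module.End k M) - 1) * ((f : Module.End k M) - 1) = 0)
    (hxyx : ((e : Module.End k M) - 1) * ((f : Module.End k M) - 1) * ((e : Module.End k M) - 1) = 0)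
    (hyxy : ((f : Module.End k M) - 1) * ((e : Module.End k M) - 1) * ((f : Module.End k M) - 1) = 0) :
    e * f * e⁻¹ * f⁻¹ = uN (((e : Module.End k M) - 1) * ((f : Module.End k M) - 1) -
      ((f : Module.End k M) - 1) * ((e : Module.End k M) - 1)) 1 := by
  apply Units.ext
  rw [Units.val_mul, Units.val_mul, Units.val_mul, inv_val_eq_one_sub e hxx,
    inv_val_eq_one_sub f hyy, uN_val (comm_sq_zero hxx hyy hxyx hyxy), one_smul]
  have he := val_eq_one_add e
  have hf := val_eq_one_add f
  generalize ((e : Module.End k M) - 1) = x at *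
  generalize ((f : Module.End k M) - 1) = y at *
  rw [he, hf]
  have ka : ∀ z : Module.End k M, z * x * x = 0 := fun z => by rw [mul_assoc, hxx, mul_zero]
  have kb : ∀ z : Module.End k M, z * y * y = 0 := fun z => by rw [mul_assoc, hyy, mul_zero]
  have k1 : ∀ z : Module.End k M, z * x * y * x = 0 := fun z => by
    rw [mul_assoc, mul_assoc, ← mul_assoc x, hxyx, mul_zero]
  have k2 : ∀ z : Module.End k M, z * y * x * y = 0 := fun z => by
    rw [mul_assoc, mul_assoc, ← mul_assoc y, hyxy, mul_zero]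
  simp only [mul_add, add_mul, mul_sub, sub_mul, mul_one, one_mul, ← mul_assoc, hxx, hyy, ka, kb,
    hxyx, hyxy, k1, k2, zero_mul, mul_zero, add_zero, zero_add, sub_zero]
  abel

/-- a three step flag -/
def flag3 (C R : Submodule k M) : ℕ → Submodule k M
  | 0 => ⊤
  | 1 => C
  | 2 => R
  | _ + 3 => ⊥

theorem flag3_anti {C R : Submodule k M} (h : R ≤ C) (n : ℕ) : flag3 C R (n + 1) ≤ flag3 C R n := by
  match n with
  | 0 => exact le_top
  | 1 => exact h
  | 2 => exact bot_le
  | n + 3 => exact bot_le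

theorem lowersF_flag3 {C R : Submodule k M} {T : Module.End k M}
    (h1 : ∀ v, T v ∈ C) (h2 : ∀ v ∈ C, T v ∈ R) (h3 : ∀ v ∈ R, T v = 0) :
    LowersF (flag3 C R) T := by
  intro n v hv
  match n with
  | 0 => exact h1 v
  | 1 => exact h2 v hv
  | 2 =>
    show T v ∈ (⊥ : Submodule k M)
    rw [Submodule.mem_bot]; exact h3 v hv
  | n + 3 =>
    have hv' : v ∈ (⊥ : Submodule k M) := hv
    rw [Submodule.mem_bot] at hv'
    show T v ∈ (⊥ : Submodule k M)
    rw [hv', map_zero]; exact Submodule.zero_mem _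

section fd

variable [FiniteDimensional k M] {G : Subgroup (LinearMap.GeneralLinearGroup k M)}
variable {σ τ ρ : LinearMap.GeneralLinearGroup k M}

theorem fixedSubmodule_sameAction (hρ : ρ ∈ Cfsg.minimalQuadraticElements G) :
    Cfsg.fixedSubmodule (Cfsg.sameActionSubgroup G ρ) = LinearMap.ker ((ρ : Module.End k M) - 1) := by
  unfold Cfsg.fixedSubmodule
  apply le_antisymm
  · exact iInf₂_le (f := fun (g : LinearMap.GeneralLinearGroup k M)
      (_ : g ∈ Cfsg.sameActionSubgroup G ρ) => LinearMap.ker ((g : M →ₗ[k] M) - 1)) ρ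
      (self_mem_sameAction hρ)
  · apply le_iInf₂
    intro g hg
    have h := (mem_sameActionSubgroup_iff hρ g).mp hg
    by_cases h0 : (g : Module.End k M) - 1 = 0
    · have : (g : M →ₗ[k] M) - 1 = 0 := h0
      rw [this, LinearMap.ker_zero]; exact le_top
    · have := SCR.ker_eq h h0
      exact this.symm.le

theorem commutatorSubmodule_sameAction (hρ : ρ ∈ Cfsg.minimalQuadraticElements G) :
    Cfsg.commutatorSubmodule (Cfsg.sameActionSubgroup G ρ) =
      LinearMap.range ((ρ : Module.End k M) - 1) := by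
  unfold Cfsg.commutatorSubmodule
  apply le_antisymm
  · apply iSup₂_le
    intro g hg
    have h := (mem_sameActionSubgroup_iff hρ g).mp hg
    by_cases h0 : (g : Module.End k M) - 1 = 0
    · have : (g : M →ₗ[k] M) - 1 = 0 := h0
      rw [this, LinearMap.range_zero]; exact bot_le
    · have := SCR.range_eq h h0
      exact this.le
  · exact le_iSup₂ (f := fun (g : LinearMap.GeneralLinearGroup k M)
      (_ : g ∈ Cfsg.sameActionSubgroup G ρ) => LinearMap.range ((g : M →ₗ[k] M) - 1)) ρ
      (self_mem_sameAction hρ)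

end fd

end Cfsg.Agent.Lib.Helper2.Qp
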