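import Mathlib
import Cfsg.Agent.Lib.Helper2.Qp21

/-!
# Quadratic pairs, part 22: the main theorem on class two pairs of root subgroups.
-/

set_option autoImplicit false
universe u v
open Module

namespace Cfsg.Agent.Lib.Helper2.Qp

open scoped commutatorElement

variable {k : Type u} [Field k] {M : Type v} [AddCommGroup M] [Module k M]

section fd

variable [FiniteDimensional k M] {G : Subgroup (LinearMap.GeneralLinearGroup k M)}
variable {σ τ ρ : LinearMap.GeneralLinearGroup k M}

theorem SCR.apply_mem {C R : Submodule k M} {N : Module.End k M} (hN : N ∈ SCR G C R) (v : M) :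
    N v ∈ R := by
  rcases hN.2 with h | ⟨-, h⟩
  · rw [h, LinearMap.zero_apply]; exact Submodule.zero_mem _
  · rw [← h]; exact ⟨v, rfl⟩

theorem SCR.apply_eq_zero {C R : Submodule k M} {N : Module.End k M} (hN : N ∈ SCR G C R)
    {v : M} (hv : v ∈ C) : N v = 0 := by
  rcases hN.2 with h | ⟨h, -⟩
  · rw [h, LinearMap.zero_apply]
  · rw [← h] at hv; exact hv

theorem units_comm_of {e f : LinearMap.GeneralLinearGroup k M}
    (h : ((e : Module.End k M) - 1) * ((f : Module.End k M) - 1) =
      ((f : Module.End k M) - 1) * ((e : Module.End k M) - 1)) : e * f = f * e := by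
  have key : ∀ A B : Module.End k M, A * B = (A - 1) * (B - 1) + (A - 1) + (B - 1) + 1 := by
    intro A B; noncomm_ring
  apply Units.ext
  rw [Units.val_mul, Units.val_mul, key (e : Module.End k M), key (f : Module.End k M), h]
  abel

/-- **class two pairs** -/
theorem class_two_core (hirr : Cfsg.IsIrreducibleFor G) (h2 : (2 : k) ≠ 0)
    (hk : ∃ l : k, l ≠ 0 ∧ l ^ 2 ≠ 1)
    (hσ : σ ∈ Cfsg.minimalQuadraticElements G) (hτ : τ ∈ Cfsg.minimalQuadraticElements G)
    (hnnd : ¬ (LinearMap.range ((σ : Module.End k M) - 1) ⊓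
        LinearMap.ker ((τ : Module.End k M) - 1) = ⊥ ∧
      LinearMap.range ((τ : Module.End k M) - 1) ⊓ LinearMap.ker ((σ : Module.End k M) - 1) = ⊥))
    (hne : ⁅Cfsg.sameActionSubgroup G σ, Cfsg.sameActionSubgroup G τ⁆ ≠ ⊥) :
    ⁅Cfsg.sameActionSubgroup G σ, Cfsg.sameActionSubgroup G τ⁆ ∈ Cfsg.quadraticRootSubgroups G ∧
    (∀ e ∈ Cfsg.sameActionSubgroup G σ, e ≠ 1 →
      Subgroup.closure ((fun f : LinearMap.GeneralLinearGroup k M => e * f * e⁻¹ * f⁻¹) ''
        (Cfsg.sameActionSubgroup G τ : Set (LinearMap.GeneralLinearGroup k M))) =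
        ⁅Cfsg.sameActionSubgroup G σ, Cfsg.sameActionSubgroup G τ⁆) ∧
    (∀ f ∈ Cfsg.sameActionSubgroup G τ, f ≠ 1 →
      Subgroup.closure ((fun e : LinearMap.GeneralLinearGroup k M => e * f * e⁻¹ * f⁻¹) ''
        (Cfsg.sameActionSubgroup G σ : Set (LinearMap.GeneralLinearGroup k M))) =
        ⁅Cfsg.sameActionSubgroup G σ, Cfsg.sameActionSubgroup G τ⁆) ∧
    ⁅Cfsg.sameActionSubgroup G σ ⊔ Cfsg.sameActionSubgroup G τ,
      Cfsg.sameActionSubgroup G σ ⊔ Cfsg.sameActionSubgroup G τ⁆ ≠ ⊥ ∧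
    ⁅⁅Cfsg.sameActionSubgroup G σ ⊔ Cfsg.sameActionSubgroup G τ,
      Cfsg.sameActionSubgroup G σ ⊔ Cfsg.sameActionSubgroup G τ⁆,
      Cfsg.sameActionSubgroup G σ ⊔ Cfsg.sameActionSubgroup G τ⁆ = ⊥ ∧
    ((Cfsg.sameActionSubgroup G σ ⊔ Cfsg.sameActionSubgroup G τ :
      Subgroup (LinearMap.GeneralLinearGroup k M)) : Set (LinearMap.GeneralLinearGroup k M)) ⊆
      Cfsg.quadraticUnipotentCore G ⁅Cfsg.sameActionSubgroup G σ, Cfsg.sameActionSubgroup G τ⁆ := by
  have hmin := isMinRank_of_minimal hσ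
  have hd₂ := finrank_range_eq hσ hτ
  -- a non-commuting pair
  have hex : ∃ e₀ ∈ Cfsg.sameActionSubgroup G σ, ∃ f₀ ∈ Cfsg.sameActionSubgroup G τ,
      f₀ * e₀ ≠ e₀ * f₀ := by
    by_contra hall
    push Not at hall
    apply hne
    rw [Subgroup.commutator_eq_bot_iff_le_centralizer]
    intro e he
    rw [Subgroup.mem_centralizer_iff]
    intro f hf
    exact hall e he f hf
  obtain ⟨e₀, he₀, f₀, hf₀, hef₀⟩ := hex
  have hx₀ := (mem_sameActionSubgroup_iff hσ e₀).mp he₀
  have hy₀ := (mem_sameActionSubgroup_iff hτ f₀).mp hf₀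
  have hD₀ : ((e₀ : Module.End k M) - 1) * ((f₀ : Module.End k M) - 1) -
      ((f₀ : Module.End k M) - 1) * ((e₀ : Module.End k M) - 1) ≠ 0 := by
    intro h
    apply hef₀
    exact (units_comm_of (sub_eq_zero.mp h)).symm
  generalize hx₀def : (e₀ : Module.End k M) - 1 = x₀ at hx₀ hD₀
  generalize hy₀def : (f₀ : Module.End k M) - 1 = y₀ at hy₀ hD₀
  have hx₀0 : x₀ ≠ 0 := by rintro rfl; exact hD₀ (by rw [zero_mul, mul_zero, sub_zero])
  have hy₀0 : y₀ ≠ 0 := by rintro rfl; exact hD₀ (by rw [zero_mul, mul_zero, sub_zero])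
  have hDS := comm_mem_SCR h2 hk hmin rfl hd₂ hnnd hx₀ hy₀
  obtain ⟨hker, hrange, hd₃, hrk⟩ := comm_structure h2 hk hmin rfl hd₂ hnnd hx₀ hy₀ hD₀
  have hρq : uN (x₀ * y₀ - y₀ * x₀) 1 ∈ Cfsg.quadraticElements G :=
    mem_quadraticElements_of hDS.1 hD₀
  have hρv : ((uN (x₀ * y₀ - y₀ * x₀) 1 : LinearMap.GeneralLinearGroup k M) : Module.End k M) - 1 =
      x₀ * y₀ - y₀ * x₀ := by
    rw [uN_val hDS.1.1, one_smul, add_sub_cancel_left]
  have hρ : uN (x₀ * y₀ - y₀ * x₀) 1 ∈ Cfsg.minimalQuadraticElements G := by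
    refine ⟨hρq, fun τ' hτ' => ?_⟩
    rw [commutatorRank_eq, hρv, hrk]
    exact hσ.2 τ' hτ'
  have hρk : LinearMap.ker (((uN (x₀ * y₀ - y₀ * x₀) 1 : LinearMap.GeneralLinearGroup k M) :
      Module.End k M) - 1) = commKer (LinearMap.ker ((σ : Module.End k M) - 1))
        (LinearMap.range ((σ : Module.End k M) - 1)) (LinearMap.ker ((τ : Module.End k M) - 1))
        (LinearMap.range ((τ : Module.End k M) - 1)) := by
    rw [hρv]; exact hker
  have hρr : LinearMap.range (((uN (x₀ * y₀ - y₀ * x₀) 1 : LinearMap.GeneralLinearGroup k M) :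
      Module.End k M) - 1) = commRange (LinearMap.ker ((σ : Module.End k M) - 1))
        (LinearMap.range ((σ : Module.End k M) - 1)) (LinearMap.ker ((τ : Module.End k M) - 1))
        (LinearMap.range ((τ : Module.End k M) - 1)) := by
    rw [hρv]; exact hrange
  generalize uN (x₀ * y₀ - y₀ * x₀) 1 = ρ at hρq hρv hρ hρk hρr
  -- facts on pairs
  have htriple : ∀ {x y : Module.End k M},
      x ∈ SCR G (LinearMap.ker ((σ : Module.End k M) - 1))
        (LinearMap.range ((σ : Module.End k M) - 1)) →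
      y ∈ SCR G (LinearMap.ker ((τ : Module.End k M) - 1))
        (LinearMap.range ((τ : Module.End k M) - 1)) → x * y * x = 0 ∧ y * x * y = 0 :=
    fun hx hy => triple_zero_of_not_nd h2 hk hmin rfl hd₂ hnnd hx hy
  have hcommS : ∀ {x y : Module.End k M},
      x ∈ SCR G (LinearMap.ker ((σ : Module.End k M) - 1))
        (LinearMap.range ((σ : Module.End k M) - 1)) →
      y ∈ SCR G (LinearMap.ker ((τ : Module.End k M) - 1))
        (LinearMap.range ((τ : Module.End k M) - 1)) →
      x * y - y * x ∈ SCR G (LinearMap.ker ((ρ : Module.End k M) - 1))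
        (LinearMap.range ((ρ : Module.End k M) - 1)) := by
    intro x y hx hy
    rw [hρk, hρr]
    exact comm_mem_SCR h2 hk hmin rfl hd₂ hnnd hx hy
  -- the commutator of two elements
  have hcommelt : ∀ e ∈ Cfsg.sameActionSubgroup G σ, ∀ f ∈ Cfsg.sameActionSubgroup G τ,
      e * f * e⁻¹ * f⁻¹ = uN (((e : Module.End k M) - 1) * ((f : Module.End k M) - 1) -
        ((f : Module.End k M) - 1) * ((e : Module.End k M) - 1)) 1 := by
    intro e he f hf
    have hx := (mem_sameActionSubgroup_iff hσ e).mp he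
    have hy := (mem_sameActionSubgroup_iff hτ f).mp hf
    obtain ⟨h1, h2'⟩ := htriple hx hy
    exact comm_elt_eq e f hx.1.1 hy.1.1 h1 h2'
  have hcomm_le : ⁅Cfsg.sameActionSubgroup G σ, Cfsg.sameActionSubgroup G τ⁆ ≤
      Cfsg.sameActionSubgroup G ρ := by
    rw [Subgroup.commutator_le]
    intro e he f hf
    rw [commutatorElement_def, hcommelt e he f hf]
    apply uN_mem_sameAction hρ
    exact hcommS ((mem_sameActionSubgroup_iff hσ e).mp he) ((mem_sameActionSubgroup_iff hτ f).mp hf)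
  -- the first closure statement
  have hcl1 : ∀ e ∈ Cfsg.sameActionSubgroup G σ, e ≠ 1 →
      Cfsg.sameActionSubgroup G ρ ≤
      Subgroup.closure ((fun f : LinearMap.GeneralLinearGroup k M => e * f * e⁻¹ * f⁻¹) ''
        (Cfsg.sameActionSubgroup G τ : Set (LinearMap.GeneralLinearGroup k M))) := by
    intro e he he1 g hg
    have hx := (mem_sameActionSubgroup_iff hσ e).mp he
    have hx0 := sub_one_ne_zero he1
    have hN := (mem_sameActionSubgroup_iff hρ g).mp hg
    obtain ⟨y, hy, hxy⟩ := comm_surj hirr h2 hk hσ hτ hρ hnnd hx₀ hy₀ hD₀ hρk hρr hx hx0 hN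
    apply Subgroup.subset_closure
    refine ⟨uN y 1, uN_mem_sameAction hτ hy, ?_⟩
    have hfv : ((uN y 1 : LinearMap.GeneralLinearGroup k M) : Module.End k M) - 1 = y := by
      rw [uN_val hy.1.1, one_smul, add_sub_cancel_left]
    show e * uN y 1 * e⁻¹ * (uN y 1)⁻¹ = g
    rw [hcommelt e he (uN y 1) (uN_mem_sameAction hτ hy), hfv, hxy]
    exact (eq_uN_of_sub_one g hN.1.1).symm
  have hcl1' : ∀ e ∈ Cfsg.sameActionSubgroup G σ,
      Subgroup.closure ((fun f : LinearMap.GeneralLinearGroup k M => e * f * e⁻¹ * f⁻¹) ''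
        (Cfsg.sameActionSubgroup G τ : Set (LinearMap.GeneralLinearGroup k M))) ≤
      ⁅Cfsg.sameActionSubgroup G σ, Cfsg.sameActionSubgroup G τ⁆ := by
    intro e he
    rw [Subgroup.closure_le]
    rintro _ ⟨f, hf, rfl⟩
    show e * f * e⁻¹ * f⁻¹ ∈ _
    rw [← commutatorElement_def]
    exact Subgroup.commutator_mem_commutator he hf
  have hEq : ⁅Cfsg.sameActionSubgroup G σ, Cfsg.sameActionSubgroup G τ⁆ =
      Cfsg.sameActionSubgroup G ρ :=
    le_antisymm hcomm_le ((hcl1 σ (self_mem_sameAction hσ) (ne_one_of_minimal hσ)).trans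
      (hcl1' σ (self_mem_sameAction hσ)))
  -- the second closure statement
  have hnnd' : ¬ (LinearMap.range ((τ : Module.End k M) - 1) ⊓
        LinearMap.ker ((σ : Module.End k M) - 1) = ⊥ ∧
      LinearMap.range ((σ : Module.End k M) - 1) ⊓ LinearMap.ker ((τ : Module.End k M) - 1) = ⊥) :=
    fun h => hnnd ⟨h.2, h.1⟩
  have hD₀' : y₀ * x₀ - x₀ * y₀ ≠ 0 := by
    intro h
    apply hD₀
    rw [← neg_sub, h, neg_zero]
  have hρk' : LinearMap.ker ((ρ : Module.End k M) - 1) =
      commKer (LinearMap.ker ((τ : Module.End k M) - 1)) (LinearMap.range ((τ : Module.End k M) - 1))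
        (LinearMap.ker ((σ : Module.End k M) - 1)) (LinearMap.range ((σ : Module.End k M) - 1)) := by
    rw [commKer_swap]; exact hρk
  have hρr' : LinearMap.range ((ρ : Module.End k M) - 1) =
      commRange (LinearMap.ker ((τ : Module.End k M) - 1))
        (LinearMap.range ((τ : Module.End k M) - 1))
        (LinearMap.ker ((σ : Module.End k M) - 1)) (LinearMap.range ((σ : Module.End k M) - 1)) := by
    rw [commRange_swap]; exact hρr
  have hcl2 : ∀ f ∈ Cfsg.sameActionSubgroup G τ, f ≠ 1 →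
      Cfsg.sameActionSubgroup G ρ ≤
      Subgroup.closure ((fun e : LinearMap.GeneralLinearGroup k M => e * f * e⁻¹ * f⁻¹) ''
        (Cfsg.sameActionSubgroup G σ : Set (LinearMap.GeneralLinearGroup k M))) := by
    intro f hf hf1 g hg
    have hy := (mem_sameActionSubgroup_iff hτ f).mp hf
    have hy0 := sub_one_ne_zero hf1
    have hN := (mem_sameActionSubgroup_iff hρ g).mp hg
    obtain ⟨x, hx, hxy⟩ := comm_surj hirr h2 hk hτ hσ hρ hnnd' hy₀ hx₀ hD₀' hρk' hρr' hy hy0
      (SCR.neg hN)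
    apply Subgroup.subset_closure
    refine ⟨uN x 1, uN_mem_sameAction hσ hx, ?_⟩
    have hev : ((uN x 1 : LinearMap.GeneralLinearGroup k M) : Module.End k M) - 1 = x := by
      rw [uN_val hx.1.1, one_smul, add_sub_cancel_left]
    show uN x 1 * f * (uN x 1)⁻¹ * f⁻¹ = g
    rw [hcommelt (uN x 1) (uN_mem_sameAction hσ hx) f hf, hev]
    have : x * ((f : Module.End k M) - 1) - ((f : Module.End k M) - 1) * x =
        (g : Module.End k M) - 1 := by
      rw [← neg_sub, hxy, neg_neg]
    rw [this]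
    exact (eq_uN_of_sub_one g hN.1.1).symm
  have hcl2' : ∀ f ∈ Cfsg.sameActionSubgroup G τ,
      Subgroup.closure ((fun e : LinearMap.GeneralLinearGroup k M => e * f * e⁻¹ * f⁻¹) ''
        (Cfsg.sameActionSubgroup G σ : Set (LinearMap.GeneralLinearGroup k M))) ≤
      ⁅Cfsg.sameActionSubgroup G σ, Cfsg.sameActionSubgroup G τ⁆ := by
    intro f hf
    rw [Subgroup.closure_le]
    rintro _ ⟨e, he, rfl⟩
    show e * f * e⁻¹ * f⁻¹ ∈ _
    rw [← commutatorElement_def]
    exact Subgroup.commutator_mem_commutator he hf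
  -- `E(ρ)` centralizes both root subgroups
  obtain ⟨hR₃C₁, hR₃C₂, hR₁C₃, hR₂C₃, hxC₃, hyC₃⟩ :=
    comm_annihilate h2 hk hmin rfl hd₂ hnnd hx₀ hy₀ hx₀0 hy₀0
  rw [← hρk] at hR₁C₃ hR₂C₃
  rw [← hρr] at hR₃C₁ hR₃C₂
  have hLA : ∀ c ∈ Cfsg.sameActionSubgroup G ρ, ∀ a ∈ Cfsg.sameActionSubgroup G σ,
      c * a = a * c := by
    intro c hc a ha
    have hN := (mem_sameActionSubgroup_iff hρ c).mp hc
    have hx := (mem_sameActionSubgroup_iff hσ a).mp ha
    apply units_comm_of
    rw [SCR.mul_eq_zero_of_le hN hx hR₁C₃, SCR.mul_eq_zero_of_le hx hN hR₃C₁]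
  have hLB : ∀ c ∈ Cfsg.sameActionSubgroup G ρ, ∀ b ∈ Cfsg.sameActionSubgroup G τ,
      c * b = b * c := by
    intro c hc b hb
    have hN := (mem_sameActionSubgroup_iff hρ c).mp hc
    have hy := (mem_sameActionSubgroup_iff hτ b).mp hb
    apply units_comm_of
    rw [SCR.mul_eq_zero_of_le hN hy hR₂C₃, SCR.mul_eq_zero_of_le hy hN hR₃C₂]
  have hXcent : Cfsg.sameActionSubgroup G σ ⊔ Cfsg.sameActionSubgroup G τ ≤
      Subgroup.centralizer (Cfsg.sameActionSubgroup G ρ :
        Set (LinearMap.GeneralLinearGroup k M)) := by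
    apply sup_le
    · intro a ha
      rw [Subgroup.mem_centralizer_iff]
      intro c hc
      exact hLA c hc a ha
    · intro b hb
      rw [Subgroup.mem_centralizer_iff]
      intro c hc
      exact hLB c hc b hb
  have hXL : ⁅Cfsg.sameActionSubgroup G σ ⊔ Cfsg.sameActionSubgroup G τ,
      Cfsg.sameActionSubgroup G σ ⊔ Cfsg.sameActionSubgroup G τ⁆ ≤
      Cfsg.sameActionSubgroup G ρ :=
    commutator_sup_le' (fun a ha a' ha' => sameAction_comm hσ ha ha')
      (fun b hb b' hb' => sameAction_comm hτ hb hb') hcomm_le hLA hLB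
  refine ⟨?_, ?_, ?_, ?_, ?_, ?_⟩
  · rw [hEq]; exact ⟨ρ, hρ, rfl⟩
  · intro e he he1
    exact le_antisymm (hcl1' e he) (hcomm_le.trans (hcl1 e he he1))
  · intro f hf hf1
    exact le_antisymm (hcl2' f hf) (hcomm_le.trans (hcl2 f hf hf1))
  · intro h
    apply hne
    rw [eq_bot_iff, ← h]
    exact Subgroup.commutator_mono le_sup_left le_sup_right
  · rw [Subgroup.commutator_eq_bot_iff_le_centralizer]
    intro c hc
    rw [Subgroup.mem_centralizer_iff]
    intro g hg
    have := hXcent hg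
    rw [Subgroup.mem_centralizer_iff] at this
    exact (this c (hXL hc)).symm
  · rw [hEq]
    intro g hg
    have hg' : g ∈ Cfsg.sameActionSubgroup G σ ⊔ Cfsg.sameActionSubgroup G τ := hg
    have hR₃C₃ : LinearMap.range ((ρ : Module.End k M) - 1) ≤
        LinearMap.ker ((ρ : Module.End k M) - 1) := range_le_ker hρ
    have hlow : LowGF (flag3 (LinearMap.ker ((ρ : Module.End k M) - 1))
        (LinearMap.range ((ρ : Module.End k M) - 1))) g := by
      have hsup : Cfsg.sameActionSubgroup G σ ⊔ Cfsg.sameActionSubgroup G τ =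
          Subgroup.closure ((Cfsg.sameActionSubgroup G σ : Set (LinearMap.GeneralLinearGroup k M)) ∪
            (Cfsg.sameActionSubgroup G τ : Set (LinearMap.GeneralLinearGroup k M))) := by
        rw [Subgroup.closure_union, Subgroup.closure_eq, Subgroup.closure_eq]
      rw [hsup] at hg'
      apply lowGF_of_mem_closure (flag3_anti hR₃C₃) _ hg'
      rintro a (ha | ha)
      · have hx := (mem_sameActionSubgroup_iff hσ a).mp ha
        have hl : LowersF (flag3 (LinearMap.ker ((ρ : Module.End k M) - 1))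
            (LinearMap.range ((ρ : Module.End k M) - 1))) ((a : Module.End k M) - 1) := by
          apply lowersF_flag3
          · intro v; exact hR₁C₃ (SCR.apply_mem hx v)
          · intro v hv
            by_cases hx0 : (a : Module.End k M) - 1 = 0
            · rw [hx0, LinearMap.zero_apply]; exact Submodule.zero_mem _
            · rw [hρk] at hv
              rw [hρr]
              exact (comm_annihilate h2 hk hmin rfl hd₂ hnnd hx hy₀ hx0 hy₀0).2.2.2.2.1 v hv
          · intro v hv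
            exact SCR.apply_eq_zero hx (hR₃C₁ hv)
        refine ⟨hl, ?_⟩
        rw [inv_val_of_sq_zero a hx.1.1]
        exact hl.neg
      · have hy := (mem_sameActionSubgroup_iff hτ a).mp ha
        have hl : LowersF (flag3 (LinearMap.ker ((ρ : Module.End k M) - 1))
            (LinearMap.range ((ρ : Module.End k M) - 1))) ((a : Module.End k M) - 1) := by
          apply lowersF_flag3
          · intro v; exact hR₂C₃ (SCR.apply_mem hy v)
          · intro v hv
            by_cases hy0 : (a : Module.End k M) - 1 = 0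
            · rw [hy0, LinearMap.zero_apply]; exact Submodule.zero_mem _
            · rw [hρk] at hv
              rw [hρr]
              exact (comm_annihilate h2 hk hmin rfl hd₂ hnnd hx₀ hy hx₀0 hy0).2.2.2.2.2 v hv
          · intro v hv
            exact SCR.apply_eq_zero hy (hR₃C₂ hv)
        refine ⟨hl, ?_⟩
        rw [inv_val_of_sq_zero a hy.1.1]
        exact hl.neg
    refine ⟨sup_le (sameActionSubgroup_le σ) (sameActionSubgroup_le τ) hg',
      Subgroup.centralizer_le_normalizer _ (hXcent hg'), ?_, ?_, ?_⟩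
    · intro m
      rw [fixedSubmodule_sameAction hρ]
      have := hlow.1 0 m (by show m ∈ (⊤ : Submodule k M); trivial)
      exact this
    · intro m hm
      rw [fixedSubmodule_sameAction hρ] at hm
      rw [commutatorSubmodule_sameAction hρ]
      have := hlow.1 1 m hm
      exact this
    · intro m hm
      rw [commutatorSubmodule_sameAction hρ] at hm
      have := hlow.1 2 m hm
      have h0 : ((g : Module.End k M) - 1) m = 0 := by
        have : ((g : Module.End k M) - 1) m ∈ (⊥ : Submodule k M) := this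
        rwa [Submodule.mem_bot] at this
      rw [LinearMap.sub_apply, Module.End.one_apply, sub_eq_zero] at h0
      exact h0

end fd

end Cfsg.Agent.Lib.Helper2.Qp
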