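import Mathlib
import Cfsg.Agent.Lib.Helper2.Qp22

/-!
# Quadratic pairs, part 23: a pair in general position does not act unipotently and is not
nilpotent of class two; the final statements on unipotent pairs and class two pairs.
-/

set_option autoImplicit false
universe u v
open Module

namespace Cfsg.Agent.Lib.Helper2.Qp

open scoped commutatorElement

variable {k : Type u} [Field k] {M : Type v} [AddCommGroup M] [Module k M]

/-- alternating products `x y x y ...` with `n` factors -/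
def altProd (x y : Module.End k M) : ℕ → Module.End k M
  | 0 => 1
  | n + 1 => x * altProd y x n

/-- alternating lists `[e, f, e, f, ...]` with `n` entries -/
def altList (e f : LinearMap.GeneralLinearGroup k M) : ℕ → List (LinearMap.GeneralLinearGroup k M)
  | 0 => []
  | n + 1 => e :: altList f e n

theorem altList_length (e f : LinearMap.GeneralLinearGroup k M) (n : ℕ) :
    (altList e f n).length = n := by
  induction n generalizing e f with
  | zero => rfl
  | succ n ih => rw [altList, List.length_cons, ih]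

theorem altList_mem (e f : LinearMap.GeneralLinearGroup k M) (n : ℕ) :
    ∀ g ∈ altList e f n, g = e ∨ g = f := by
  induction n generalizing e f with
  | zero => intro g hg; simp [altList] at hg
  | succ n ih =>
    intro g hg
    rw [altList, List.mem_cons] at hg
    rcases hg with rfl | hg
    · exact Or.inl rfl
    · exact (ih f e g hg).symm

theorem altList_prod (e f : LinearMap.GeneralLinearGroup k M) (n : ℕ) :
    ((altList e f n).map fun g : LinearMap.GeneralLinearGroup k M => (g : M →ₗ[k] M) - 1).prod =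
      altProd ((e : Module.End k M) - 1) ((f : Module.End k M) - 1) n := by
  induction n generalizing e f with
  | zero => rfl
  | succ n ih =>
    rw [altList, List.map_cons, List.prod_cons, ih f e, altProd]

theorem altProd_partner {x y : Module.End k M} (h : PP x y) (n : ℕ) (hn : 1 ≤ n) :
    ∃ r : Module.End k M, altProd x y n * r = x := by
  induction n generalizing x y with
  | zero => omega
  | succ n ih =>
    rcases Nat.eq_zero_or_pos n with h0 | hpos
    · refine ⟨1, ?_⟩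
      rw [h0, altProd, altProd, mul_one, mul_one]
    · obtain ⟨r', hr'⟩ := ih h.symm hpos
      refine ⟨r' * x, ?_⟩
      rw [altProd, mul_assoc, ← mul_assoc (altProd y x n), hr', ← mul_assoc, h.xyx]

section fd

variable [FiniteDimensional k M] {G : Subgroup (LinearMap.GeneralLinearGroup k M)}
variable {σ τ : LinearMap.GeneralLinearGroup k M}

/-- a pair in general position does not act unipotently -/
theorem not_unipotent_of_nd (h2 : (2 : k) ≠ 0) (hk : ∃ l : k, l ≠ 0 ∧ l ^ 2 ≠ 1)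
    (hσ : σ ∈ Cfsg.minimalQuadraticElements G) (hτ : τ ∈ Cfsg.minimalQuadraticElements G)
    (hnd : LinearMap.range ((σ : Module.End k M) - 1) ⊓ LinearMap.ker ((τ : Module.End k M) - 1) = ⊥ ∧
      LinearMap.range ((τ : Module.End k M) - 1) ⊓ LinearMap.ker ((σ : Module.End k M) - 1) = ⊥) :
    ¬ Cfsg.IsUnipotentOn (Cfsg.sameActionSubgroup G σ ⊔ Cfsg.sameActionSubgroup G τ) := by
  intro hu
  obtain ⟨hx, hx0⟩ := self_sub_one_mem_SCR hσ
  obtain ⟨y, hy, hpp, -⟩ := partner_of_mem h2 hk hσ hτ hnd hx hx0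
  obtain ⟨n₀, hn₀⟩ := (isUnipotentOn_iff _).mp hu
  have hfv : ((uN y 1 : LinearMap.GeneralLinearGroup k M) : Module.End k M) - 1 = y := by
    rw [uN_val hy.1.1, one_smul, add_sub_cancel_left]
  have h1 := hn₀ (altList σ (uN y 1) n₀) (by
    intro g hg
    rcases altList_mem σ (uN y 1) n₀ g hg with rfl | rfl
    · exact Subgroup.mem_sup_left (self_mem_sameAction hσ)
    · exact Subgroup.mem_sup_right (uN_mem_sameAction hτ hy)) (altList_length _ _ _)
  rw [altList_prod, hfv] at h1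
  apply hx0
  rcases Nat.eq_zero_or_pos n₀ with h0 | hpos
  · rw [h0, altProd] at h1
    calc (σ : Module.End k M) - 1 = 1 * ((σ : Module.End k M) - 1) := (one_mul _).symm
      _ = 0 := by rw [h1, zero_mul]
  · obtain ⟨r, hr⟩ := altProd_partner hpp n₀ hpos
    rw [← hr, h1, zero_mul]

/-- a pair in general position is not nilpotent of class at most two -/
theorem not_class_two_of_nd (h2 : (2 : k) ≠ 0) (hk : ∃ l : k, l ≠ 0 ∧ l ^ 2 ≠ 1)
    (hσ : σ ∈ Cfsg.minimalQuadraticElements G) (hτ : τ ∈ Cfsg.minimalQuadraticElements G)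
    (hnd : LinearMap.range ((σ : Module.End k M) - 1) ⊓ LinearMap.ker ((τ : Module.End k M) - 1) = ⊥ ∧
      LinearMap.range ((τ : Module.End k M) - 1) ⊓ LinearMap.ker ((σ : Module.End k M) - 1) = ⊥)
    (hcl : ⁅⁅Cfsg.sameActionSubgroup G σ ⊔ Cfsg.sameActionSubgroup G τ,
      Cfsg.sameActionSubgroup G σ ⊔ Cfsg.sameActionSubgroup G τ⁆,
      Cfsg.sameActionSubgroup G σ ⊔ Cfsg.sameActionSubgroup G τ⁆ = ⊥) :
    ⁅Cfsg.sameActionSubgroup G σ, Cfsg.sameActionSubgroup G τ⁆ = ⊥ := by
  have hc := rankOneCondition_of_nd h2 hk hσ hτ hnd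
  obtain ⟨b, hb, -, hconj⟩ := hc σ (self_mem_sameAction hσ) (ne_one_of_minimal hσ)
  have hconj' : Cfsg.conjBy (Cfsg.sameActionSubgroup G σ) (σ * b⁻¹) =
      Cfsg.sameActionSubgroup G τ := by
    rw [← conjBy_conjBy, hconj, conjBy_conjBy, mul_inv_cancel, conjBy_one]
  have hσX : σ ∈ Cfsg.sameActionSubgroup G σ ⊔ Cfsg.sameActionSubgroup G τ :=
    Subgroup.mem_sup_left (self_mem_sameAction hσ)
  have hgX : σ * b⁻¹ ∈ Cfsg.sameActionSubgroup G σ ⊔ Cfsg.sameActionSubgroup G τ :=
    Subgroup.mul_mem _ hσX (Subgroup.inv_mem _ (Subgroup.mem_sup_right hb))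
  have hf' : σ * b⁻¹ * σ * (σ * b⁻¹)⁻¹ ∈ Cfsg.sameActionSubgroup G τ := by
    rw [← hconj']
    exact ⟨σ, self_mem_sameAction hσ, rfl⟩
  have hf'1 : σ * b⁻¹ * σ * (σ * b⁻¹)⁻¹ ≠ 1 := by
    intro h
    apply ne_one_of_minimal hσ
    have := congrArg (fun t => (σ * b⁻¹)⁻¹ * t * (σ * b⁻¹)) h
    simp only [mul_one, inv_mul_cancel] at this
    rw [← this]; group
  have hcent : ⁅σ * b⁻¹, σ⁆ ∈ Subgroup.centralizer
      ((Cfsg.sameActionSubgroup G σ ⊔ Cfsg.sameActionSubgroup G τ :
        Subgroup (LinearMap.GeneralLinearGroup k M)) : Set (LinearMap.GeneralLinearGroup k M)) :=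
    (Subgroup.commutator_eq_bot_iff_le_centralizer.mp hcl)
      (Subgroup.commutator_mem_commutator hgX hσX)
  rw [Subgroup.mem_centralizer_iff] at hcent
  have h1 := hcent σ hσX
  rw [commutatorElement_def] at h1
  apply commutator_eq_bot_of h2 hk hσ hτ
  left
  refine ⟨σ, self_mem_sameAction hσ, ne_one_of_minimal hσ, _, hf', hf'1, ?_⟩
  have e1 : σ * b⁻¹ * σ * (σ * b⁻¹)⁻¹ = (σ * b⁻¹ * σ * (σ * b⁻¹)⁻¹ * σ⁻¹) * σ := by group
  rw [e1, ← mul_assoc, h1]

/-- **unipotent pairs** -/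
theorem unipotent_pair_core (hirr : Cfsg.IsIrreducibleFor G) (h2 : (2 : k) ≠ 0)
    (hk : ∃ l : k, l ≠ 0 ∧ l ^ 2 ≠ 1)
    (hσ : σ ∈ Cfsg.minimalQuadraticElements G) (hτ : τ ∈ Cfsg.minimalQuadraticElements G)
    (hu : Cfsg.IsUnipotentOn (Cfsg.sameActionSubgroup G σ ⊔ Cfsg.sameActionSubgroup G τ)) :
    ¬ (LinearMap.range ((σ : Module.End k M) - 1) ⊓
        LinearMap.ker ((τ : Module.End k M) - 1) = ⊥ ∧
      LinearMap.range ((τ : Module.End k M) - 1) ⊓ LinearMap.ker ((σ : Module.End k M) - 1) = ⊥) :=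
  fun hnd => not_unipotent_of_nd h2 hk hσ hτ hnd hu

/-- a pair which is nilpotent of class exactly two is not in general position and does not
commute -/
theorem class_two_pair_core (h2 : (2 : k) ≠ 0) (hk : ∃ l : k, l ≠ 0 ∧ l ^ 2 ≠ 1)
    (hσ : σ ∈ Cfsg.minimalQuadraticElements G) (hτ : τ ∈ Cfsg.minimalQuadraticElements G)
    (hcl : ⁅Cfsg.sameActionSubgroup G σ ⊔ Cfsg.sameActionSubgroup G τ,
      Cfsg.sameActionSubgroup G σ ⊔ Cfsg.sameActionSubgroup G τ⁆ ≠ ⊥ ∧
      ⁅⁅Cfsg.sameActionSubgroup G σ ⊔ Cfsg.sameActionSubgroup G τ,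
      Cfsg.sameActionSubgroup G σ ⊔ Cfsg.sameActionSubgroup G τ⁆,
      Cfsg.sameActionSubgroup G σ ⊔ Cfsg.sameActionSubgroup G τ⁆ = ⊥) :
    ⁅Cfsg.sameActionSubgroup G σ, Cfsg.sameActionSubgroup G τ⁆ ≠ ⊥ ∧
    ¬ (LinearMap.range ((σ : Module.End k M) - 1) ⊓
        LinearMap.ker ((τ : Module.End k M) - 1) = ⊥ ∧
      LinearMap.range ((τ : Module.End k M) - 1) ⊓ LinearMap.ker ((σ : Module.End k M) - 1) = ⊥) := by
  have hne : ⁅Cfsg.sameActionSubgroup G σ, Cfsg.sameActionSubgroup G τ⁆ ≠ ⊥ := by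
    intro h
    apply hcl.1
    rw [eq_bot_iff]
    apply commutator_sup_le' (fun a ha a' ha' => sameAction_comm hσ ha ha')
      (fun b hb b' hb' => sameAction_comm hτ hb hb') (le_of_eq h)
    · intro c hc a _
      rw [Subgroup.mem_bot] at hc
      rw [hc, one_mul, mul_one]
    · intro c hc b _
      rw [Subgroup.mem_bot] at hc
      rw [hc, one_mul, mul_one]
  exact ⟨hne, fun hnd => hne (not_class_two_of_nd h2 hk hσ hτ hnd hcl.2)⟩

end fd

end Cfsg.Agent.Lib.Helper2.Qp
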