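import Mathlib
import Cfsg.Agent.Lib.Helper2.Qp23
import Cfsg.Agent.S5016

/-!
# Quadratic pairs, part 24: transfer of the root subgroup conditions to a subgroup containing the
members; the `PSL₂` pair inside a rank one pair of root subgroups.
-/

set_option autoImplicit false
universe u v
open Module

namespace Cfsg.Agent.Lib.Helper2.Qp

open scoped commutatorElement

section transfer

variable {H : Type*} [Group H]

theorem mem_conjBy' {A : Subgroup H} {g x : H} :
    x ∈ Cfsg.conjBy A g ↔ ∃ a ∈ A, g * a * g⁻¹ = x := by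
  constructor
  · rintro ⟨a, ha, rfl⟩
    exact ⟨a, ha, rfl⟩
  · rintro ⟨a, ha, rfl⟩
    exact ⟨a, ha, rfl⟩

theorem conjBy_subgroupOf' (K A : Subgroup H) (g : ↥K) :
    Cfsg.conjBy (A.subgroupOf K) g = (Cfsg.conjBy A (g : H)).subgroupOf K := by
  ext x
  rw [mem_conjBy', Subgroup.mem_subgroupOf, mem_conjBy']
  constructor
  · rintro ⟨a, ha, rfl⟩
    exact ⟨a, ha, rfl⟩
  · rintro ⟨a, ha, h⟩
    have haK : a ∈ K := by
      have : a = (g : H)⁻¹ * (x : H) * (g : H) := by rw [← h]; group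
      rw [this]
      exact K.mul_mem (K.mul_mem (K.inv_mem g.2) x.2) g.2
    exact ⟨⟨a, haK⟩, ha, Subtype.ext h⟩

theorem commutator_subgroupOf {A B K : Subgroup H} (hA : A ≤ K) (hB : B ≤ K) :
    ⁅A.subgroupOf K, B.subgroupOf K⁆ = ⁅A, B⁆.subgroupOf K := by
  have hAB : ⁅A, B⁆ ≤ K := by
    rw [Subgroup.commutator_le]
    intro a ha b hb
    rw [commutatorElement_def]
    exact K.mul_mem (K.mul_mem (K.mul_mem (hA ha) (hB hb)) (K.inv_mem (hA ha))) (K.inv_mem (hB hb))
  apply Subgroup.map_injective K.subtype_injective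
  rw [Subgroup.map_commutator, Subgroup.map_subgroupOf_eq_of_le hA,
    Subgroup.map_subgroupOf_eq_of_le hB, Subgroup.map_subgroupOf_eq_of_le hAB]

theorem closure_image_subgroupOf {B K : Subgroup H} (hB : B ≤ K) (a : ↥K) :
    (Subgroup.closure ((fun b : ↥K => a * b * a⁻¹ * b⁻¹) '' (B.subgroupOf K : Set ↥K))).map
      K.subtype =
    Subgroup.closure ((fun b : H => (a : H) * b * (a : H)⁻¹ * b⁻¹) '' (B : Set H)) := by
  rw [MonoidHom.map_closure]
  congr 1
  ext x
  constructor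
  · rintro ⟨_, ⟨b, hb, rfl⟩, rfl⟩
    exact ⟨b, hb, rfl⟩
  · rintro ⟨b, hb, rfl⟩
    exact ⟨_, ⟨⟨b, hB hb⟩, hb, rfl⟩, rfl⟩

theorem closure_image_subgroupOf' {A K : Subgroup H} (hA : A ≤ K) (b : ↥K) :
    (Subgroup.closure ((fun a : ↥K => a * b * a⁻¹ * b⁻¹) '' (A.subgroupOf K : Set ↥K))).map
      K.subtype =
    Subgroup.closure ((fun a : H => a * (b : H) * a⁻¹ * (b : H)⁻¹) '' (A : Set H)) := by
  rw [MonoidHom.map_closure]
  congr 1
  ext x
  constructor
  · rintro ⟨_, ⟨a, ha, rfl⟩, rfl⟩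
    exact ⟨a, ha, rfl⟩
  · rintro ⟨a, ha, rfl⟩
    exact ⟨_, ⟨⟨a, hA ha⟩, ha, rfl⟩, rfl⟩

/-- transfer of the commutator case -/
theorem rootCommutatorCase_subgroupOf {S : Set (Subgroup H)} {A B K : Subgroup H} (hA : A ≤ K)
    (hB : B ≤ K) (h : Cfsg.RootCommutatorCase S A B) :
    Cfsg.RootCommutatorCase ((fun C : Subgroup H => C.subgroupOf K) '' S) (A.subgroupOf K)
      (B.subgroupOf K) := by
  obtain ⟨h1, h2, h3, h4⟩ := h
  have hAB : ⁅A, B⁆ ≤ K := by
    rw [Subgroup.commutator_le]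
    intro a ha b hb
    rw [commutatorElement_def]
    exact K.mul_mem (K.mul_mem (K.mul_mem (hA ha) (hB hb)) (K.inv_mem (hA ha))) (K.inv_mem (hB hb))
  refine ⟨⟨_, h1, (commutator_subgroupOf hA hB).symm⟩, ?_, ?_, ?_⟩
  · intro c hc x hx
    rw [commutator_subgroupOf hA hB, Subgroup.mem_subgroupOf] at hc
    rw [← Subgroup.subgroupOf_sup hA hB, Subgroup.mem_subgroupOf] at hx
    exact Subtype.ext (h2 _ hc _ hx)
  · intro a ha ha1
    apply Subgroup.map_injective K.subtype_injective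
    rw [closure_image_subgroupOf hB, commutator_subgroupOf hA hB,
      Subgroup.map_subgroupOf_eq_of_le hAB]
    apply h3 _ ha
    intro h
    apply ha1
    exact Subtype.ext h
  · intro b hb hb1
    apply Subgroup.map_injective K.subtype_injective
    rw [closure_image_subgroupOf' hA, commutator_subgroupOf hA hB,
      Subgroup.map_subgroupOf_eq_of_le hAB]
    apply h4 _ hb
    intro h
    apply hb1
    exact Subtype.ext h

theorem rankOneCondition_subgroupOf {A B K : Subgroup H} (hB : B ≤ K)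
    (h : Cfsg.RankOneCondition A B) :
    Cfsg.RankOneCondition (A.subgroupOf K) (B.subgroupOf K) := by
  intro a ha ha1
  obtain ⟨b, hb, hb1, hconj⟩ := h (a : H) ha (fun h => ha1 (Subtype.ext h))
  refine ⟨⟨b, hB hb⟩, hb, fun h => hb1 (congrArg Subtype.val h), ?_⟩
  rw [conjBy_subgroupOf', conjBy_subgroupOf']
  exact congrArg (fun C : Subgroup H => C.subgroupOf K) hconj

/-- transfer of rank one pairs of abelian subgroups -/
theorem rankOnePair_subgroupOf {A B K : Subgroup H} (hA : A ≤ K) (hB : B ≤ K)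
    (hAc : ∀ x ∈ A, ∀ y ∈ A, x * y = y * x) (hBc : ∀ x ∈ B, ∀ y ∈ B, x * y = y * x)
    (h : Cfsg.IsRankOnePair A B) : Cfsg.IsRankOnePair (A.subgroupOf K) (B.subgroupOf K) where
  ne := by
    intro he
    apply h.ne
    have := congrArg (Subgroup.map K.subtype) he
    rwa [Subgroup.map_subgroupOf_eq_of_le hA, Subgroup.map_subgroupOf_eq_of_le hB] at this
  nilpotent_left := Cfsg.Agent.S5016.nilpotent_of _
    (fun x hx y hy => Subtype.ext (hAc _ hx _ hy))
  nilpotent_right := Cfsg.Agent.S5016.nilpotent_of _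
    (fun x hx y hy => Subtype.ext (hBc _ hx _ hy))
  cond_left := rankOneCondition_subgroupOf hB h.cond_left
  cond_right := rankOneCondition_subgroupOf hA h.cond_right

end transfer

end Cfsg.Agent.Lib.Helper2.Qp
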