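import Mathlib
import Cfsg.Agent.Lib.Helper2.Qp24

/-!
# Quadratic pairs, part 25: `Σ` is a set of abstract root subgroups of `⟨Σ⟩`; no isolated
vertices; `PSL₂` pairs inside rank one pairs.
-/

set_option autoImplicit false
universe u v
open Module Polynomial

namespace Cfsg.Agent.Lib.Helper2.Qp

open scoped commutatorElement
open Cfsg.Agent.Lib.Helper1.SL2Three

theorem three_lt_card {k : Type u} [Field k] (h2 : (2 : k) ≠ 0)
    (hk : ∃ l : k, l ≠ 0 ∧ l ^ 2 ≠ 1) : 3 < ENat.card k := by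
  classical
  obtain ⟨l, hl0, hl⟩ := hk
  cases finite_or_infinite k with
  | inr h => rw [ENat.card_eq_top_of_infinite]; exact ENat.coe_lt_top 3
  | inl h =>
    haveI := Fintype.ofFinite k
    rw [ENat.card_eq_coe_fintype_card]
    have h1 : (1 : k) ≠ -1 := by
      intro h
      apply h2
      linear_combination h
    have hl1 : l ≠ 1 := by
      intro h
      apply hl
      rw [h, one_pow]
    have hl2 : l ≠ -1 := by
      intro h
      apply hl
      rw [h]; ring
    have hcard : ({0, 1, -1, l} : Finset k).card = 4 := by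
      rw [Finset.card_insert_of_notMem, Finset.card_insert_of_notMem,
        Finset.card_insert_of_notMem, Finset.card_singleton]
      · simp only [Finset.mem_singleton]; exact hl2.symm
      · simp only [Finset.mem_insert, Finset.mem_singleton, not_or]
        exact ⟨h1, hl1.symm⟩
      · simp only [Finset.mem_insert, Finset.mem_singleton, not_or]
        refine ⟨zero_ne_one, ?_, hl0.symm⟩
        intro h
        have : (1 : k) = 0 := by linear_combination h
        exact one_ne_zero this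
    have := Finset.card_le_univ ({0, 1, -1, l} : Finset k)
    rw [hcard] at this
    have h4 : (3 : ℕ∞) < ((Fintype.card k : ℕ) : ℕ∞) := by
      exact_mod_cast this
    exact h4

theorem conjBy_eq_self_of_comm {H : Type*} [Group H] {A : Subgroup H} {g : H}
    (h : ∀ a ∈ A, g * a = a * g) : Cfsg.conjBy A g = A := by
  ext x
  rw [mem_conjBy']
  constructor
  · rintro ⟨a, ha, rfl⟩
    rw [h a ha, mul_inv_cancel_right]
    exact ha
  · intro hx
    exact ⟨x, hx, by rw [h x hx, mul_inv_cancel_right]⟩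

variable {k : Type u} [Field k] {M : Type v} [AddCommGroup M] [Module k M]

section fd

variable [FiniteDimensional k M] {G : Subgroup (LinearMap.GeneralLinearGroup k M)}
variable {σ τ : LinearMap.GeneralLinearGroup k M}

theorem SCR.of_commuting {d : ℕ} (hmin : IsMinRank G d) {C R : Submodule k M}
    (hd : finrank k R = d) {z : Module.End k M} (hz : z ∈ SCR G C R) (hz0 : z ≠ 0)
    {T : Module.End k M} (hT : T * z = z * T)
    (hG : ∀ c : k, ∃ g ∈ G, ((g : LinearMap.GeneralLinearGroup k M) : Module.End k M) =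
      1 + c • (T * z)) : T * z ∈ SCR G C R := by
  apply SCR.of_le hmin hd (SCR.finrank_add hz hz0)
  · apply QSet.of_forall _ hG
    calc T * z * (T * z) = T * (z * T) * z := by simp only [mul_assoc]
      _ = T * (T * z) * z := by rw [hT]
      _ = T * T * (z * z) := by simp only [mul_assoc]
      _ = 0 := by rw [hz.1.1, mul_zero]
  · intro v hv
    rw [LinearMap.mem_ker, Module.End.mul_apply, SCR.apply_eq_zero hz hv, map_zero]
  · rintro _ ⟨v, rfl⟩
    rw [hT, Module.End.mul_apply]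
    exact SCR.apply_mem hz _

/-- a rank one pair condition together with class two forces commuting -/
theorem comm_of_cond_class_two (h2 : (2 : k) ≠ 0) (hk : ∃ l : k, l ≠ 0 ∧ l ^ 2 ≠ 1)
    (hσ : σ ∈ Cfsg.minimalQuadraticElements G) (hτ : τ ∈ Cfsg.minimalQuadraticElements G)
    (hc : Cfsg.RankOneCondition (Cfsg.sameActionSubgroup G σ) (Cfsg.sameActionSubgroup G τ))
    (hcl : ⁅⁅Cfsg.sameActionSubgroup G σ ⊔ Cfsg.sameActionSubgroup G τ,
      Cfsg.sameActionSubgroup G σ ⊔ Cfsg.sameActionSubgroup G τ⁆,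
      Cfsg.sameActionSubgroup G σ ⊔ Cfsg.sameActionSubgroup G τ⁆ = ⊥) :
    ⁅Cfsg.sameActionSubgroup G σ, Cfsg.sameActionSubgroup G τ⁆ = ⊥ := by
  obtain ⟨b, hb, -, hconj⟩ := hc σ (self_mem_sameAction hσ) (ne_one_of_minimal hσ)
  have hconj' : Cfsg.conjBy (Cfsg.sameActionSubgroup G σ) (σ * b⁻¹) =
      Cfsg.sameActionSubgroup G τ := by
    rw [← conjBy_conjBy, hconj, conjBy_conjBy, mul_inv_cancel, conjBy_one]
  have hσX : σ ∈ Cfsg.sameActionSubgroup G σ ⊔ Cfsg.sameActionSubgroup G τ :=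
    Subgroup.mem_sup_left (self_mem_sameAction hσ)
  have hgX : σ * b⁻¹ ∈ Cfsg.sameActionSubgroup G σ ⊔ Cfsg.sameActionSubgroup G τ :=
    Subgroup.mul_mem _ hσX (Subgroup.inv_mem _ (Subgroup.mem_sup_right hb))
  have hf' : σ * b⁻¹ * σ * (σ * b⁻¹)⁻¹ ∈ Cfsg.sameActionSubgroup G τ := by
    rw [← hconj']
    exact ⟨σ, self_mem_sameAction hσ, rfl⟩
  have hf'1 : σ * b⁻¹ * σ * (σ * b⁻¹)⁻¹ ≠ 1 := by
    intro h
    apply ne_one_of_minimal hσ
    have := congrArg (fun t => (σ * b⁻¹)⁻¹ * t * (σ * b⁻¹)) h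
    simp only [mul_one, inv_mul_cancel] at this
    rw [← this]; group
  have hcent : ⁅σ * b⁻¹, σ⁆ ∈ Subgroup.centralizer
      ((Cfsg.sameActionSubgroup G σ ⊔ Cfsg.sameActionSubgroup G τ :
        Subgroup (LinearMap.GeneralLinearGroup k M)) : Set (LinearMap.GeneralLinearGroup k M)) :=
    (Subgroup.commutator_eq_bot_iff_le_centralizer.mp hcl)
      (Subgroup.commutator_mem_commutator hgX hσX)
  rw [Subgroup.mem_centralizer_iff] at hcent
  have h1 := hcent σ hσX
  rw [commutatorElement_def] at h1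
  apply commutator_eq_bot_of h2 hk hσ hτ
  left
  refine ⟨σ, self_mem_sameAction hσ, ne_one_of_minimal hσ, _, hf', hf'1, ?_⟩
  have e1 : σ * b⁻¹ * σ * (σ * b⁻¹)⁻¹ = (σ * b⁻¹ * σ * (σ * b⁻¹)⁻¹ * σ⁻¹) * σ := by group
  rw [e1, ← mul_assoc, h1]

/-- an abstract rank one pair of root subgroups is in general position -/
theorem nd_of_rankOnePair (hirr : Cfsg.IsIrreducibleFor G) (h2 : (2 : k) ≠ 0)
    (hk : ∃ l : k, l ≠ 0 ∧ l ^ 2 ≠ 1)
    (hσ : σ ∈ Cfsg.minimalQuadraticElements G) (hτ : τ ∈ Cfsg.minimalQuadraticElements G)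
    (h : Cfsg.IsRankOnePair (Cfsg.sameActionSubgroup G σ) (Cfsg.sameActionSubgroup G τ)) :
    LinearMap.range ((σ : Module.End k M) - 1) ⊓ LinearMap.ker ((τ : Module.End k M) - 1) = ⊥ ∧
      LinearMap.range ((τ : Module.End k M) - 1) ⊓ LinearMap.ker ((σ : Module.End k M) - 1) = ⊥ := by
  by_contra hnnd
  have hcomm : ⁅Cfsg.sameActionSubgroup G σ, Cfsg.sameActionSubgroup G τ⁆ = ⊥ := by
    by_contra hne
    obtain ⟨-, -, -, -, c5, -⟩ := class_two_core hirr h2 hk hσ hτ hnnd hne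
    exact hne (comm_of_cond_class_two h2 hk hσ hτ h.cond_left c5)
  obtain ⟨b, hb, -, hconj⟩ := h.cond_left σ (self_mem_sameAction hσ) (ne_one_of_minimal hσ)
  have hcent := Subgroup.commutator_eq_bot_iff_le_centralizer.mp hcomm
  apply h.ne
  have e1 : Cfsg.conjBy (Cfsg.sameActionSubgroup G σ) b⁻¹ = Cfsg.sameActionSubgroup G σ := by
    apply conjBy_eq_self_of_comm
    intro a ha
    have := hcent ha
    rw [Subgroup.mem_centralizer_iff] at this
    have h3 := this b hb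
    -- b * a = a * b
    calc b⁻¹ * a = b⁻¹ * (a * b) * b⁻¹ := by group
      _ = b⁻¹ * (b * a) * b⁻¹ := by rw [h3]
      _ = a * b⁻¹ := by group
  have e2 : Cfsg.conjBy (Cfsg.sameActionSubgroup G τ) σ⁻¹ = Cfsg.sameActionSubgroup G τ := by
    apply conjBy_eq_self_of_comm
    intro f hf
    have := hcent (self_mem_sameAction hσ)
    rw [Subgroup.mem_centralizer_iff] at this
    have h3 := this f hf
    calc σ⁻¹ * f = σ⁻¹ * (f * σ) * σ⁻¹ := by group
      _ = σ⁻¹ * (σ * f) * σ⁻¹ := by rw [h3]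
      _ = f * σ⁻¹ := by group
  rw [← e1, hconj, e2]

/-- the `PSL₂` pair inside a pair of root subgroups in general position -/
theorem psl2_pair_of_nd {k : Type u} [Field k] {M : Type v} [AddCommGroup M] [Module k M]
    [FiniteDimensional k M] {G : Subgroup (LinearMap.GeneralLinearGroup k M)}
    {σ τ : LinearMap.GeneralLinearGroup k M} (h2 : (2 : k) ≠ 0)
    (hk : ∃ l : k, l ≠ 0 ∧ l ^ 2 ≠ 1)
    (hσ : σ ∈ Cfsg.minimalQuadraticElements G) (hτ : τ ∈ Cfsg.minimalQuadraticElements G)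
    (hnd : LinearMap.range ((σ : Module.End k M) - 1) ⊓ LinearMap.ker ((τ : Module.End k M) - 1) = ⊥ ∧
      LinearMap.range ((τ : Module.End k M) - 1) ⊓ LinearMap.ker ((σ : Module.End k M) - 1) = ⊥) :
    ∃ A₀ B₀ : Subgroup (LinearMap.GeneralLinearGroup k M),
      A₀ ≤ Cfsg.sameActionSubgroup G σ ∧ B₀ ≤ Cfsg.sameActionSubgroup G τ ∧
      ∃ (k₁ : Type u) (_ : Field k₁), 3 < ENat.card k₁ ∧ Cfsg.IsPSL2PairOver k₁ A₀ B₀ := by
  obtain ⟨hx, hx0⟩ := self_sub_one_mem_SCR hσ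
  obtain ⟨hy, hy0⟩ := self_sub_one_mem_SCR hτ
  have hmin := isMinRank_of_minimal hσ
  have hd₂ := finrank_range_eq hσ hτ
  have hnn := not_nilpotent_of_nd hnd hx hy hx0 hy0
  have hry : rk ((τ : Module.End k M) - 1) = rk ((σ : Module.End k M) - 1) := hd₂
  obtain ⟨π, hF, m, -, hinj, hrange, -, -⟩ := exists_model h2 hk hmin hx.1 hy.1 rfl hry hnn
  have hΨG : ∀ g, m.Ψ g ∈ G := by
    intro g
    apply XG_le hx.1 hy.1
    rw [← hrange]
    exact ⟨g, rfl⟩
  refine ⟨(Cfsg.upperUnipotentSL2 (AdjoinRoot π)).map m.Ψ,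
    (Cfsg.lowerUnipotentSL2 (AdjoinRoot π)).map m.Ψ, ?_, ?_, AdjoinRoot π, inferInstance, ?_, ?_⟩
  · rintro _ ⟨g, hg, rfl⟩
    obtain ⟨t, rfl⟩ := Cfsg.Agent.S5016.mem_upper.mp hg
    have e : Cfsg.Agent.S5016.Um t = xmat (AdjoinRoot π) t := rfl
    rw [e, mem_sameActionSubgroup_iff hσ, m.Ψ_xmat, add_sub_cancel_left]
    apply SCR.of_commuting hmin rfl hx hx0 (m.ρ_a t)
    intro c
    refine ⟨m.Ψ (xmat (AdjoinRoot π) (c • t)), hΨG _, ?_⟩
    rw [m.Ψ_xmat, map_smul, smul_mul_assoc]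
  · rintro _ ⟨g, hg, rfl⟩
    obtain ⟨t, rfl⟩ := Cfsg.Agent.S5016.mem_lower.mp hg
    have e : Cfsg.Agent.S5016.Lm t = ymat (AdjoinRoot π) t := rfl
    rw [e, mem_sameActionSubgroup_iff hτ, m.Ψ_ymat, add_sub_cancel_left]
    apply SCR.of_commuting hmin hd₂ hy hy0 (m.ρ_b _)
    intro c
    refine ⟨m.Ψ (ymat (AdjoinRoot π) (c • t)), hΨG _, ?_⟩
    rw [m.Ψ_ymat, smul_mul_assoc, map_smul, smul_mul_assoc]
  · exact lt_of_lt_of_le (three_lt_card h2 hk)
      (ENat.card_le_card_of_injective (algebraMap k (AdjoinRoot π)).injective)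
  · refine ⟨m.Ψ, ?_, ?_, rfl, rfl⟩
    · rw [MonoidHom.range_eq_map, ← Cfsg.Agent.S5016.sup_eq_top (k := AdjoinRoot π),
        Subgroup.map_sup, sup_comm]
    · rw [(MonoidHom.ker_eq_bot_iff m.Ψ).2 hinj]
      exact bot_le

end fd

end Cfsg.Agent.Lib.Helper2.Qp
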