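import Mathlib
import Cfsg.Agent.Lib.Helper2.Qp25

/-!
# Quadratic pairs, part 26: the theorem on the set `Σ` of root subgroups of a quadratic pair.
-/

set_option autoImplicit false
universe u v
open Module

namespace Cfsg.Agent.Lib.Helper2.Qp

open scoped commutatorElement

variable {k : Type u} [Field k] {M : Type v} [AddCommGroup M] [Module k M]

section fd

variable [FiniteDimensional k M] {G : Subgroup (LinearMap.GeneralLinearGroup k M)}
variable {σ τ : LinearMap.GeneralLinearGroup k M}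

/-- the three cases for a pair of root subgroups -/
theorem pair_trichotomy (hirr : Cfsg.IsIrreducibleFor G) (h2 : (2 : k) ≠ 0)
    (hk : ∃ l : k, l ≠ 0 ∧ l ^ 2 ≠ 1)
    (hσ : σ ∈ Cfsg.minimalQuadraticElements G) (hτ : τ ∈ Cfsg.minimalQuadraticElements G) :
    ⁅Cfsg.sameActionSubgroup G σ, Cfsg.sameActionSubgroup G τ⁆ = ⊥ ∨
    Cfsg.IsRankOnePair (Cfsg.sameActionSubgroup G σ) (Cfsg.sameActionSubgroup G τ) ∨
    Cfsg.RootCommutatorCase (Cfsg.quadraticRootSubgroups G) (Cfsg.sameActionSubgroup G σ)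
      (Cfsg.sameActionSubgroup G τ) := by
  by_cases hnd : LinearMap.range ((σ : Module.End k M) - 1) ⊓
        LinearMap.ker ((τ : Module.End k M) - 1) = ⊥ ∧
      LinearMap.range ((τ : Module.End k M) - 1) ⊓ LinearMap.ker ((σ : Module.End k M) - 1) = ⊥
  · exact Or.inr (Or.inl (isRankOnePair_of_nd h2 hk hσ hτ hnd))
  by_cases hne : ⁅Cfsg.sameActionSubgroup G σ, Cfsg.sameActionSubgroup G τ⁆ = ⊥
  · exact Or.inl hne
  right; right
  obtain ⟨c1, c2, c3, -, c5, -⟩ := class_two_core hirr h2 hk hσ hτ hnd hne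
  refine ⟨c1, ?_, c2, c3⟩
  intro c hc x hx
  have hc' := (Subgroup.commutator_mono (le_sup_left (b := Cfsg.sameActionSubgroup G τ))
    (le_sup_right (a := Cfsg.sameActionSubgroup G σ))) hc
  have := (Subgroup.commutator_eq_bot_iff_le_centralizer.mp c5) hc'
  rw [Subgroup.mem_centralizer_iff] at this
  exact (this x hx).symm

/-- **the root subgroups of a quadratic pair** -/
theorem root_subgroups_main (hirr : Cfsg.IsIrreducibleFor G) (h2 : (2 : k) ≠ 0)
    (hk : ∃ l : k, l ≠ 0 ∧ l ^ 2 ≠ 1) :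
    Cfsg.IsRootSubgroupSet ((fun A : Subgroup (LinearMap.GeneralLinearGroup k M) =>
      A.subgroupOf (⨆ B ∈ Cfsg.quadraticRootSubgroups G, B)) '' Cfsg.quadraticRootSubgroups G) ∧
    (∀ A ∈ Cfsg.quadraticRootSubgroups G, ¬ Cfsg.IsIsolatedIn
      (Cfsg.FAdj (Cfsg.quadraticRootSubgroups G)) (Cfsg.quadraticRootSubgroups G) A) ∧
    (∀ A ∈ Cfsg.quadraticRootSubgroups G,
      ∀ B ∈ Cfsg.rankOnePartners (Cfsg.quadraticRootSubgroups G) A,
      ∃ A₀ B₀ : Subgroup (LinearMap.GeneralLinearGroup k M), A₀ ≤ A ∧ B₀ ≤ B ∧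
        ∃ (k₁ : Type u) (_ : Field k₁), 3 < ENat.card k₁ ∧ Cfsg.IsPSL2PairOver k₁ A₀ B₀) := by
  have hle : ∀ A ∈ Cfsg.quadraticRootSubgroups G,
      A ≤ ⨆ B ∈ Cfsg.quadraticRootSubgroups G, B := fun A hA =>
    le_iSup₂ (f := fun (B : Subgroup (LinearMap.GeneralLinearGroup k M))
      (_ : B ∈ Cfsg.quadraticRootSubgroups G) => B) A hA
  have hKG : (⨆ B ∈ Cfsg.quadraticRootSubgroups G, B) ≤ G := by
    apply iSup₂_le
    rintro A ⟨σ, -, rfl⟩
    exact sameActionSubgroup_le σ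
  refine ⟨?_, ?_, ?_⟩
  · refine ⟨?_, ?_, ?_, ?_, ?_⟩
    · rintro _ ⟨A, ⟨σ, hσ, rfl⟩, rfl⟩
      exact Cfsg.Agent.S5016.isMulComm_of _
        (fun x hx y hy => Subtype.ext (sameAction_comm hσ hx hy))
    · rintro _ ⟨A, ⟨σ, hσ, rfl⟩, rfl⟩ h0
      replace h0 : (Cfsg.sameActionSubgroup G σ).subgroupOf
        (⨆ B ∈ Cfsg.quadraticRootSubgroups G, B) = ⊥ := h0
      have hσK : σ ∈ ⨆ B ∈ Cfsg.quadraticRootSubgroups G, B :=
        hle _ ⟨σ, hσ, rfl⟩ (self_mem_sameAction hσ)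
      have h1 : (⟨σ, hσK⟩ : ↥(⨆ B ∈ Cfsg.quadraticRootSubgroups G, B)) ∈
          (Cfsg.sameActionSubgroup G σ).subgroupOf (⨆ B ∈ Cfsg.quadraticRootSubgroups G, B) :=
        self_mem_sameAction hσ
      rw [h0, Subgroup.mem_bot] at h1
      exact ne_one_of_minimal hσ (congrArg Subtype.val h1)
    · rw [eq_top_iff]
      intro x _
      obtain ⟨T, hT⟩ : ∃ T : Subgroup ↥(⨆ B ∈ Cfsg.quadraticRootSubgroups G, B),
          T = ⨆ A' ∈ ((fun A : Subgroup (LinearMap.GeneralLinearGroup k M) =>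
            A.subgroupOf (⨆ B ∈ Cfsg.quadraticRootSubgroups G, B)) ''
              Cfsg.quadraticRootSubgroups G), A' := ⟨_, rfl⟩
      rw [← hT]
      have h1 : (⨆ B ∈ Cfsg.quadraticRootSubgroups G, B) ≤
          T.map (⨆ B ∈ Cfsg.quadraticRootSubgroups G, B).subtype := by
        refine iSup₂_le ?_
        intro A hA
        have h2' : A.subgroupOf (⨆ B ∈ Cfsg.quadraticRootSubgroups G, B) ≤ T := by
          rw [hT]
          exact le_iSup₂ (f := fun (A' : Subgroup ↥(⨆ B ∈ Cfsg.quadraticRootSubgroups G, B))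
            (_ : A' ∈ ((fun A : Subgroup (LinearMap.GeneralLinearGroup k M) =>
              A.subgroupOf (⨆ B ∈ Cfsg.quadraticRootSubgroups G, B)) ''
                Cfsg.quadraticRootSubgroups G)) => A') _ ⟨A, hA, rfl⟩
        have h3 := Subgroup.map_mono (f := (⨆ B ∈ Cfsg.quadraticRootSubgroups G, B).subtype) h2'
        rwa [Subgroup.map_subgroupOf_eq_of_le (hle A hA)] at h3
      obtain ⟨t, ht, htx⟩ := h1 x.2
      have : t = x := Subtype.ext htx
      rwa [this] at ht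
    · rintro _ ⟨A, ⟨σ, hσ, rfl⟩, rfl⟩ g
      have hgG : (g : LinearMap.GeneralLinearGroup k M) ∈ G := hKG g.2
      exact ⟨Cfsg.conjBy (Cfsg.sameActionSubgroup G σ) (g : LinearMap.GeneralLinearGroup k M),
        ⟨_, conj_mem_minimal hσ hgG, conjBy_sameActionSubgroup hgG⟩,
        (conjBy_subgroupOf' _ _ g).symm⟩
    · rintro _ ⟨A, ⟨σ, hσ, rfl⟩, rfl⟩ _ ⟨B, ⟨τ, hτ, rfl⟩, rfl⟩
      have hA := hle _ ⟨σ, hσ, rfl⟩
      have hB := hle _ ⟨τ, hτ, rfl⟩
      rcases pair_trichotomy hirr h2 hk hσ hτ with h | h | h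
      · left
        show ⁅(Cfsg.sameActionSubgroup G σ).subgroupOf _, (Cfsg.sameActionSubgroup G τ).subgroupOf _⁆
          = ⊥
        rw [commutator_subgroupOf hA hB, h, Subgroup.bot_subgroupOf]
      · right; left
        exact rankOnePair_subgroupOf hA hB (fun x hx y hy => sameAction_comm hσ hx hy)
          (fun x hx y hy => sameAction_comm hτ hx hy) h
      · right; right
        exact rootCommutatorCase_subgroupOf hA hB h
  · rintro A ⟨σ, hσ, rfl⟩ hiso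
    obtain ⟨τ, hτ, hnd⟩ := exists_opposite hirr h2 hk hσ
    exact (hiso.2 (Cfsg.sameActionSubgroup G τ)).1
      ⟨⟨σ, hσ, rfl⟩, ⟨τ, hτ, rfl⟩, isRankOnePair_of_nd h2 hk hσ hτ hnd⟩
  · rintro A ⟨σ, hσ, rfl⟩ B ⟨⟨τ, hτ, rfl⟩, hpair⟩
    exact psl2_pair_of_nd h2 hk hσ hτ (nd_of_rankOnePair hirr h2 hk hσ hτ hpair)

end fd

end Cfsg.Agent.Lib.Helper2.Qp
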