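import Mathlib
import Cfsg.Agent.Lib.Helper2.Qp26

/-!
# Quadratic pairs, part 27: an abstract quasisimplicity criterion for a group generated by a
conjugacy class of abelian subgroups.
-/

set_option autoImplicit false

namespace Cfsg.Agent.Lib.Helper2.Qp

open scoped commutatorElement

section abstract

variable {H : Type*} [Group H]

/-- for a normal subgroup `N` and a commutative subgroup `A`, the commutator of `A ⊔ N` lies in `N` -/
theorem commutator_sup_normal_le {A N : Subgroup H} [hN : N.Normal]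
    (hA : ∀ a ∈ A, ∀ a' ∈ A, a * a' = a' * a) : ⁅A ⊔ N, A ⊔ N⁆ ≤ N := by
  have h1 : (⁅A ⊔ N, A ⊔ N⁆).map (QuotientGroup.mk' N) = ⊥ := by
    rw [Subgroup.map_commutator, Subgroup.map_sup]
    have hNb : N.map (QuotientGroup.mk' N) = ⊥ := QuotientGroup.map_mk'_self N
    rw [hNb, sup_bot_eq, Subgroup.commutator_eq_bot_iff_le_centralizer]
    rintro _ ⟨a, ha, rfl⟩
    rw [Subgroup.mem_centralizer_iff]
    rintro _ ⟨a', ha', rfl⟩
    rw [← map_mul, ← map_mul, hA a ha a' ha']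
  intro x hx
  have h2 : QuotientGroup.mk' N x ∈ (⁅A ⊔ N, A ⊔ N⁆).map (QuotientGroup.mk' N) :=
    Subgroup.mem_map_of_mem _ hx
  rw [h1, Subgroup.mem_bot] at h2
  exact (QuotientGroup.eq_one_iff x).mp h2

/-- a conjugate of `A` by an element of the normal subgroup `N` lies in `A ⊔ N` -/
theorem conjBy_le_sup_normal {A N : Subgroup H} [hN : N.Normal] {n : H} (hn : n ∈ N) :
    Cfsg.conjBy A n ≤ A ⊔ N := by
  rintro _ ⟨a, ha, rfl⟩
  show n * a * n⁻¹ ∈ A ⊔ N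
  have h1 : n * a * n⁻¹ = a * (a⁻¹ * n * a * n⁻¹) := by group
  rw [h1]
  refine Subgroup.mul_mem _ (Subgroup.mem_sup_left ha) (Subgroup.mem_sup_right ?_)
  have h2 : a⁻¹ * n * a ∈ N := by
    have := hN.conj_mem n hn a⁻¹
    rwa [inv_inv] at this
  exact N.mul_mem h2 (N.inv_mem hn)

theorem conjBy_mem_iff {A : Subgroup H} {g x : H} :
    x ∈ Cfsg.conjBy A g ↔ ∃ a ∈ A, g * a * g⁻¹ = x := mem_conjBy'

/-- **abstract quasisimplicity criterion** -/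
theorem isQuasisimple_of_class (S : Set (Subgroup H))
    (hgen : (⨆ A ∈ S, A) = ⊤)
    (hab : ∀ A ∈ S, ∀ a ∈ A, ∀ a' ∈ A, a * a' = a' * a)
    (hne : ∃ A ∈ S, A ≠ ⊥)
    (hconj : ∀ A ∈ S, ∀ g : H, Cfsg.conjBy A g ∈ S)
    (hclass : ∀ A ∈ S, ∀ B ∈ S, ∃ g : H, B = Cfsg.conjBy A g)
    (hperf : ∀ A ∈ S, ∃ B ∈ S, A ≤ ⁅A ⊔ B, A ⊔ B⁆)
    (hpair : ∀ A ∈ S, ∀ B ∈ S, (∀ a ∈ A, ∀ b ∈ B, a * b = b * a) ∨ A ≤ ⁅A ⊔ B, A ⊔ B⁆ ∨
      ∃ C ∈ S, C ≤ ⁅A, B⁆)
    (huni : ∀ N : Subgroup H, N.Normal → ∀ A ∈ S,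
      (∀ n ∈ N, ∀ n' ∈ N, ∀ a ∈ Cfsg.conjBy A n, ∀ b ∈ Cfsg.conjBy A n', a * b = b * a) →
      ∀ n ∈ N, ∀ a ∈ A, n * a = a * n) :
    Cfsg.IsQuasisimple H := by
  have hperfect : commutator H = ⊤ := by
    rw [eq_top_iff, ← hgen]
    refine iSup₂_le ?_
    intro A hA
    obtain ⟨B, -, hAB⟩ := hperf A hA
    exact hAB.trans (Subgroup.commutator_mono le_top le_top)
  -- a proper normal subgroup contains no member of `S`
  have hnomem : ∀ N : Subgroup H, N.Normal → N ≠ ⊤ → ∀ A ∈ S, ¬ A ≤ N := by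
    intro N hN hNtop A hA hAN
    apply hNtop
    rw [eq_top_iff, ← hgen]
    refine iSup₂_le ?_
    intro B hB
    obtain ⟨g, rfl⟩ := hclass A hA B hB
    rintro _ ⟨a, ha, rfl⟩
    exact hN.conj_mem a (hAN ha) g
  -- a proper normal subgroup is central
  have hcentral : ∀ N : Subgroup H, N.Normal → N ≠ ⊤ → N ≤ Subgroup.center H := by
    intro N hN hNtop
    have hcomm1 : ∀ A ∈ S, ∀ n ∈ N, ∀ a ∈ A, ∀ b ∈ Cfsg.conjBy A n, a * b = b * a := by
      intro A hA n hn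
      have hB : Cfsg.conjBy A n ∈ S := hconj A hA n
      have hBle : Cfsg.conjBy A n ≤ A ⊔ N := conjBy_le_sup_normal hn
      have hsup : A ⊔ Cfsg.conjBy A n ≤ A ⊔ N := sup_le le_sup_left hBle
      have hcomN : ⁅A ⊔ Cfsg.conjBy A n, A ⊔ Cfsg.conjBy A n⁆ ≤ N :=
        (Subgroup.commutator_mono hsup hsup).trans (commutator_sup_normal_le (hab A hA))
      rcases hpair A hA _ hB with h | h | ⟨C, hC, hCle⟩
      · exact h
      · exact absurd (h.trans hcomN) (hnomem N hN hNtop A hA)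
      · exact absurd ((hCle.trans (Subgroup.commutator_mono le_sup_left le_sup_right)).trans hcomN)
          (hnomem N hN hNtop C hC)
    have hcomm2 : ∀ A ∈ S, ∀ n ∈ N, ∀ n' ∈ N, ∀ a ∈ Cfsg.conjBy A n, ∀ b ∈ Cfsg.conjBy A n',
        a * b = b * a := by
      intro A hA n hn n' hn' a ha b hb
      have hA' : Cfsg.conjBy A n ∈ S := hconj A hA n
      have hnn : n' * n⁻¹ ∈ N := N.mul_mem hn' (N.inv_mem hn)
      have hb' : b ∈ Cfsg.conjBy (Cfsg.conjBy A n) (n' * n⁻¹) := by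
        rw [conjBy_conjBy, inv_mul_cancel_right]
        exact hb
      exact hcomm1 _ hA' _ hnn a ha b hb'
    have hcent : ∀ A ∈ S, ∀ n ∈ N, ∀ a ∈ A, n * a = a * n := fun A hA =>
      huni N hN A hA (hcomm2 A hA)
    intro n hn
    rw [Subgroup.mem_center_iff]
    intro g
    have hg : g ∈ (⨆ A ∈ S, A) := by rw [hgen]; trivial
    have hle : (⨆ A ∈ S, A) ≤ Subgroup.centralizer ({n} : Set H) := by
      refine iSup₂_le ?_
      intro A hA a ha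
      rw [Subgroup.mem_centralizer_iff]
      intro m hm
      rw [Set.mem_singleton_iff] at hm
      subst hm
      exact hcent A hA m hn a ha
    have := hle hg
    rw [Subgroup.mem_centralizer_iff] at this
    exact (this n rfl).symm
  refine ⟨⟨hperfect⟩, ?_⟩
  have hZtop : Subgroup.center H ≠ ⊤ := by
    intro hZ
    obtain ⟨A, hA, hAne⟩ := hne
    apply hAne
    have hcomm : commutator H = ⊥ := by
      rw [commutator_def, Subgroup.commutator_eq_bot_iff_le_centralizer]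
      intro x _
      rw [Subgroup.mem_centralizer_iff]
      intro y _
      have hy : y ∈ Subgroup.center H := by rw [hZ]; trivial
      rw [Subgroup.mem_center_iff] at hy
      exact (hy x).symm
    rw [hperfect] at hcomm
    rw [eq_bot_iff, ← hcomm]
    exact le_top
  have hnt : Nontrivial (H ⧸ Subgroup.center H) := by
    rw [← not_subsingleton_iff_nontrivial]
    intro hsub
    apply hZtop
    rw [eq_top_iff]
    intro x _
    have := Subsingleton.elim (QuotientGroup.mk' (Subgroup.center H) x) 1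
    exact (QuotientGroup.eq_one_iff x).mp this
  refine ⟨?_⟩
  intro K hK
  have hN : (K.comap (QuotientGroup.mk' (Subgroup.center H))).Normal := hK.comap _
  have hsurj : Function.Surjective (QuotientGroup.mk' (Subgroup.center H)) :=
    QuotientGroup.mk'_surjective _
  by_cases htop : K.comap (QuotientGroup.mk' (Subgroup.center H)) = ⊤
  · right
    rw [← Subgroup.map_comap_eq_self_of_surjective hsurj K, htop, ← MonoidHom.range_eq_map,
      MonoidHom.range_eq_top]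
    exact hsurj
  · left
    have hle := hcentral _ hN htop
    rw [← Subgroup.map_comap_eq_self_of_surjective hsurj K, eq_bot_iff]
    rintro _ ⟨x, hx, rfl⟩
    rw [Subgroup.mem_bot]
    exact (QuotientGroup.eq_one_iff x).mpr (hle hx)

/-- the criterion for a subgroup `K` of an ambient group -/
theorem isQuasisimple_subgroup_of_class (K : Subgroup H) (S : Set (Subgroup H))
    (hgen : (⨆ A ∈ S, A) = K)
    (hab : ∀ A ∈ S, ∀ a ∈ A, ∀ a' ∈ A, a * a' = a' * a)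
    (hne : ∃ A ∈ S, A ≠ ⊥)
    (hconj : ∀ A ∈ S, ∀ g ∈ K, Cfsg.conjBy A g ∈ S)
    (hclass : ∀ A ∈ S, ∀ B ∈ S, ∃ g ∈ K, B = Cfsg.conjBy A g)
    (hperf : ∀ A ∈ S, ∃ B ∈ S, A ≤ ⁅A ⊔ B, A ⊔ B⁆)
    (hpair : ∀ A ∈ S, ∀ B ∈ S, (∀ a ∈ A, ∀ b ∈ B, a * b = b * a) ∨ A ≤ ⁅A ⊔ B, A ⊔ B⁆ ∨
      ∃ C ∈ S, C ≤ ⁅A, B⁆)
    (huni : ∀ N : Subgroup H, N ≤ K → (∀ g ∈ K, ∀ n ∈ N, g * n * g⁻¹ ∈ N) → ∀ A ∈ S,
      (∀ n ∈ N, ∀ n' ∈ N, ∀ a ∈ Cfsg.conjBy A n, ∀ b ∈ Cfsg.conjBy A n', a * b = b * a) →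
      ∀ n ∈ N, ∀ a ∈ A, n * a = a * n) :
    Cfsg.IsQuasisimple ↥K := by
  have hSK : ∀ A ∈ S, A ≤ K := fun A hA => by
    rw [← hgen]
    exact le_iSup₂ (f := fun (B : Subgroup H) (_ : B ∈ S) => B) A hA
  have hsupK : ∀ A ∈ S, ∀ B ∈ S, A ⊔ B ≤ K := fun A hA B hB => sup_le (hSK A hA) (hSK B hB)
  have hmono : ∀ {X Y : Subgroup H}, X ≤ Y → X.subgroupOf K ≤ Y.subgroupOf K :=
    fun h => Subgroup.comap_mono h
  have hsupof : ∀ A ∈ S, ∀ B ∈ S, A.subgroupOf K ⊔ B.subgroupOf K = (A ⊔ B).subgroupOf K := by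
    intro A hA B hB
    exact (Subgroup.subgroupOf_sup (hSK A hA) (hSK B hB)).symm
  refine isQuasisimple_of_class ((fun A : Subgroup H => A.subgroupOf K) '' S) ?_ ?_ ?_ ?_ ?_ ?_ ?_ ?_
  · rw [eq_top_iff]
    intro x _
    obtain ⟨T, hT⟩ : ∃ T : Subgroup ↥K,
        T = ⨆ A' ∈ ((fun A : Subgroup H => A.subgroupOf K) '' S), A' := ⟨_, rfl⟩
    rw [← hT]
    have h1 : K ≤ T.map K.subtype := by
      refine hgen.symm.le.trans ?_
      refine iSup₂_le ?_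
      intro A hA
      have h2' : A.subgroupOf K ≤ T := by
        rw [hT]
        exact le_iSup₂ (f := fun (A' : Subgroup ↥K)
          (_ : A' ∈ ((fun A : Subgroup H => A.subgroupOf K) '' S)) => A') _ ⟨A, hA, rfl⟩
      have h3 := Subgroup.map_mono (f := K.subtype) h2'
      rwa [Subgroup.map_subgroupOf_eq_of_le (hSK A hA)] at h3
    obtain ⟨t, ht, htx⟩ := h1 x.2
    have : t = x := Subtype.ext htx
    rwa [this] at ht
  · rintro _ ⟨A, hA, rfl⟩ a ha a' ha'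
    exact Subtype.ext (hab A hA a ha a' ha')
  · obtain ⟨A, hA, hA0⟩ := hne
    refine ⟨_, ⟨A, hA, rfl⟩, ?_⟩
    intro h
    replace h : A.subgroupOf K = ⊥ := h
    apply hA0
    rw [eq_bot_iff]
    intro a ha
    have : (⟨a, hSK A hA ha⟩ : ↥K) ∈ A.subgroupOf K := ha
    rw [h, Subgroup.mem_bot] at this
    rw [Subgroup.mem_bot]
    exact congrArg Subtype.val this
  · rintro _ ⟨A, hA, rfl⟩ g
    exact ⟨_, hconj A hA g g.2, (conjBy_subgroupOf' K A g).symm⟩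
  · rintro _ ⟨A, hA, rfl⟩ _ ⟨B, hB, rfl⟩
    obtain ⟨g, hg, rfl⟩ := hclass A hA B hB
    exact ⟨⟨g, hg⟩, (conjBy_subgroupOf' K A ⟨g, hg⟩).symm⟩
  · rintro _ ⟨A, hA, rfl⟩
    obtain ⟨B, hB, hAB⟩ := hperf A hA
    refine ⟨_, ⟨B, hB, rfl⟩, ?_⟩
    show A.subgroupOf K ≤ ⁅A.subgroupOf K ⊔ B.subgroupOf K, A.subgroupOf K ⊔ B.subgroupOf K⁆
    rw [hsupof A hA B hB, commutator_subgroupOf (hsupK A hA B hB) (hsupK A hA B hB)]
    exact hmono hAB
  · rintro _ ⟨A, hA, rfl⟩ _ ⟨B, hB, rfl⟩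
    rcases hpair A hA B hB with h | h | ⟨C, hC, hCle⟩
    · left
      intro a ha b hb
      exact Subtype.ext (h a ha b hb)
    · right; left
      show A.subgroupOf K ≤ ⁅A.subgroupOf K ⊔ B.subgroupOf K, A.subgroupOf K ⊔ B.subgroupOf K⁆
      rw [hsupof A hA B hB, commutator_subgroupOf (hsupK A hA B hB) (hsupK A hA B hB)]
      exact hmono h
    · right; right
      refine ⟨_, ⟨C, hC, rfl⟩, ?_⟩
      show C.subgroupOf K ≤ ⁅A.subgroupOf K, B.subgroupOf K⁆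
      rw [commutator_subgroupOf (hSK A hA) (hSK B hB)]
      exact hmono hCle
  · rintro N' hN' _ ⟨A, hA, rfl⟩ hcomm n' hn' a' ha'
    have hNK : N'.map K.subtype ≤ K := by
      rintro _ ⟨n, -, rfl⟩
      exact n.2
    have hNnorm : ∀ g ∈ K, ∀ n ∈ N'.map K.subtype, g * n * g⁻¹ ∈ N'.map K.subtype := by
      rintro g hg _ ⟨n, hn, rfl⟩
      exact ⟨⟨g, hg⟩ * n * ⟨g, hg⟩⁻¹, hN'.conj_mem n hn ⟨g, hg⟩, rfl⟩
    have hcomm' : ∀ n ∈ N'.map K.subtype, ∀ m ∈ N'.map K.subtype, ∀ a ∈ Cfsg.conjBy A n,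
        ∀ b ∈ Cfsg.conjBy A m, a * b = b * a := by
      rintro _ ⟨n, hn, rfl⟩ _ ⟨m, hm, rfl⟩ a ha b hb
      obtain ⟨a₀, ha₀, rfl⟩ := mem_conjBy'.mp ha
      obtain ⟨b₀, hb₀, rfl⟩ := mem_conjBy'.mp hb
      have h1 : n * ⟨a₀, hSK A hA ha₀⟩ * n⁻¹ ∈ Cfsg.conjBy (A.subgroupOf K) n :=
        mem_conjBy'.mpr ⟨⟨a₀, hSK A hA ha₀⟩, ha₀, rfl⟩
      have h2 : m * ⟨b₀, hSK A hA hb₀⟩ * m⁻¹ ∈ Cfsg.conjBy (A.subgroupOf K) m :=
        mem_conjBy'.mpr ⟨⟨b₀, hSK A hA hb₀⟩, hb₀, rfl⟩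
      have := hcomm n hn m hm _ h1 _ h2
      exact congrArg Subtype.val this
    have := huni (N'.map K.subtype) hNK hNnorm A hA hcomm' n' ⟨n', hn', rfl⟩ a' ha'
    exact Subtype.ext this

end abstract

end Cfsg.Agent.Lib.Helper2.Qp
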