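import Mathlib
import Cfsg.Agent.Lib.Helper2.Qp27

/-!
# Quadratic pairs, part 28: a Clifford-type lemma (a module that is a sum of irreducible submodules
for `K` is also one for every normal subgroup of `K`), and its consequence that a commutative
subgroup of unipotent elements acting semisimply is trivial.
-/

set_option autoImplicit false
universe u v
open Module

namespace Cfsg.Agent.Lib.Helper2.Qp

variable {k : Type u} [Field k] {M : Type v} [AddCommGroup M] [Module k M]

/-- `W` is invariant under the group `H` of linear maps -/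
def InvSub (H : Subgroup (LinearMap.GeneralLinearGroup k M)) (W : Submodule k M) : Prop :=
  ∀ g ∈ H, ∀ w ∈ W, (g : Module.End k M) w ∈ W

/-- `W` is an irreducible `H`-submodule -/
def IrrSub (H : Subgroup (LinearMap.GeneralLinearGroup k M)) (W : Submodule k M) : Prop :=
  W ≠ ⊥ ∧ InvSub H W ∧ ∀ W' : Submodule k M, W' ≤ W → InvSub H W' → W' = ⊥ ∨ W' = W

/-- `M` is the sum of its irreducible `H`-submodules -/
def SSFor (H : Subgroup (LinearMap.GeneralLinearGroup k M)) : Prop :=
  (⨆ W ∈ {W : Submodule k M | IrrSub H W}, W) = ⊤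

theorem ssFor_of_irreducible {G : Subgroup (LinearMap.GeneralLinearGroup k M)}
    (hirr : Cfsg.IsIrreducibleFor G) : SSFor G := by
  unfold SSFor
  rw [eq_top_iff]
  refine le_iSup₂_of_le (⊤ : Submodule k M) ?_ le_rfl
  refine ⟨?_, fun _ _ _ _ => Submodule.mem_top, fun W' _ hW' => ?_⟩
  · obtain ⟨m, hm⟩ := hirr.1
    intro h
    apply hm
    have : m ∈ (⊤ : Submodule k M) := Submodule.mem_top
    rw [h] at this
    exact (Submodule.mem_bot k).mp this
  · exact hirr.2 W' hW'

theorem InvSub.mono {H K : Subgroup (LinearMap.GeneralLinearGroup k M)} (hHK : H ≤ K)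
    {W : Submodule k M} (h : InvSub K W) : InvSub H W := fun g hg w hw => h g (hHK hg) w hw

/-- the image of an invariant subspace under an element normalizing `H` is invariant -/
theorem InvSub.map {H : Subgroup (LinearMap.GeneralLinearGroup k M)}
    {g : LinearMap.GeneralLinearGroup k M} (hg : ∀ h ∈ H, g⁻¹ * h * g ∈ H)
    {W : Submodule k M} (hW : InvSub H W) : InvSub H (W.map (g : Module.End k M)) := by
  rintro h hh _ ⟨w, hw, rfl⟩
  refine ⟨((g⁻¹ * h * g : LinearMap.GeneralLinearGroup k M) : Module.End k M) w,
    hW _ (hg h hh) w hw, ?_⟩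
  rw [Units.val_mul, Units.val_mul, Module.End.mul_apply, Module.End.mul_apply, apply_inv_apply]

theorem map_map_inv (g : LinearMap.GeneralLinearGroup k M) (W : Submodule k M) :
    (W.map (g : Module.End k M)).map
      ((g⁻¹ : LinearMap.GeneralLinearGroup k M) : Module.End k M) = W := by
  ext v
  constructor
  · rintro ⟨_, ⟨w, hw, rfl⟩, rfl⟩
    rw [inv_apply_apply]
    exact hw
  · intro hv
    exact ⟨(g : Module.End k M) v, ⟨v, hv, rfl⟩, inv_apply_apply g v⟩

theorem map_inv_map (g : LinearMap.GeneralLinearGroup k M) (W : Submodule k M) :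
    (W.map ((g⁻¹ : LinearMap.GeneralLinearGroup k M) : Module.End k M)).map
      (g : Module.End k M) = W := by
  have := map_map_inv g⁻¹ W
  rwa [inv_inv] at this

/-- the image of an irreducible submodule under an element normalizing `H` is irreducible -/
theorem IrrSub.map {H : Subgroup (LinearMap.GeneralLinearGroup k M)}
    {g : LinearMap.GeneralLinearGroup k M} (hg : ∀ h ∈ H, g⁻¹ * h * g ∈ H)
    (hg' : ∀ h ∈ H, g * h * g⁻¹ ∈ H)
    {W : Submodule k M} (hW : IrrSub H W) : IrrSub H (W.map (g : Module.End k M)) := by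
  refine ⟨?_, hW.2.1.map hg, ?_⟩
  · intro h
    apply hW.1
    have := map_map_inv g W
    rw [h, Submodule.map_bot] at this
    exact this.symm
  · intro W' hle hinv
    have hinv' : InvSub H (W'.map ((g⁻¹ : LinearMap.GeneralLinearGroup k M) : Module.End k M)) := by
      refine InvSub.map (g := g⁻¹) ?_ hinv
      intro h hh
      rw [inv_inv]
      exact hg' h hh
    have hle' : W'.map ((g⁻¹ : LinearMap.GeneralLinearGroup k M) : Module.End k M) ≤ W := by
      have := Submodule.map_mono (f := ((g⁻¹ : LinearMap.GeneralLinearGroup k M) : Module.End k M)) hle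
      rwa [map_map_inv] at this
    rcases hW.2.2 _ hle' hinv' with h | h
    · left
      have := map_inv_map g W'
      rw [h, Submodule.map_bot] at this
      exact this.symm
    · right
      have := map_inv_map g W'
      rw [h] at this
      exact this.symm

section fd

variable [FiniteDimensional k M]

/-- a non-zero invariant subspace contains an irreducible one -/
theorem exists_irrSub_le {H : Subgroup (LinearMap.GeneralLinearGroup k M)} {W : Submodule k M}
    (hW0 : W ≠ ⊥) (hW : InvSub H W) : ∃ W₀ : Submodule k M, W₀ ≤ W ∧ IrrSub H W₀ := by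
  have hwf : WellFounded ((· < ·) : Submodule k M → Submodule k M → Prop) := wellFounded_lt
  let T : Set (Submodule k M) := {W' | W' ≠ ⊥ ∧ W' ≤ W ∧ InvSub H W'}
  have hT : T.Nonempty := ⟨W, hW0, le_rfl, hW⟩
  obtain ⟨W₀, ⟨h0, hle, hinv⟩, hmin⟩ := hwf.has_min T hT
  refine ⟨W₀, hle, h0, hinv, ?_⟩
  intro W' hW'le hW'inv
  by_cases hb : W' = ⊥
  · exact Or.inl hb
  · right
    by_contra hne
    exact hmin W' ⟨hb, hW'le.trans hle, hW'inv⟩ (lt_of_le_of_ne hW'le hne)

/-- **Clifford**: a sum of irreducibles for `K` is a sum of irreducibles for a normal subgroup -/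
theorem clifford {H K : Subgroup (LinearMap.GeneralLinearGroup k M)} (hHK : H ≤ K)
    (hnorm : ∀ g ∈ K, ∀ h ∈ H, g * h * g⁻¹ ∈ H) (hK : SSFor K) : SSFor H := by
  unfold SSFor at hK ⊢
  rw [eq_top_iff, ← hK]
  refine iSup₂_le ?_
  intro W hW
  obtain ⟨W₀, hW₀le, hW₀⟩ := exists_irrSub_le hW.1 (hW.2.1.mono hHK)
  -- the sum of the translates of `W₀`
  let T : Submodule k M := ⨆ g ∈ K, W₀.map ((g : LinearMap.GeneralLinearGroup k M) : Module.End k M)
  have hTle : T ≤ W := by
    refine iSup₂_le ?_
    intro g hg
    rintro _ ⟨w, hw, rfl⟩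
    exact hW.2.1 g hg w (hW₀le hw)
  have hTinv : InvSub K T := by
    intro g hg t ht
    have : T.map (g : Module.End k M) ≤ T := by
      rw [Submodule.map_iSup]
      refine iSup_le ?_
      intro g'
      rw [Submodule.map_iSup]
      refine iSup_le ?_
      intro hg'
      refine le_iSup₂_of_le (g * g') (K.mul_mem hg hg') ?_
      rintro _ ⟨_, ⟨w, hw, rfl⟩, rfl⟩
      exact ⟨w, hw, by rw [Units.val_mul, Module.End.mul_apply]⟩
    exact this ⟨t, ht, rfl⟩
  have hT0 : T ≠ ⊥ := by
    intro h
    apply hW₀.1
    rw [eq_bot_iff, ← h]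
    refine le_iSup₂_of_le (1 : LinearMap.GeneralLinearGroup k M) K.one_mem ?_
    intro w hw
    exact ⟨w, hw, rfl⟩
  have hTW : T = W := by
    rcases hW.2.2 T hTle hTinv with h | h
    · exact absurd h hT0
    · exact h
  rw [← hTW]
  refine iSup₂_le ?_
  intro g hg
  refine le_iSup₂_of_le (W₀.map (g : Module.End k M)) ?_ le_rfl
  refine IrrSub.map ?_ (hnorm g hg) hW₀
  intro h hh
  have := hnorm g⁻¹ (K.inv_mem hg) h hh
  rwa [inv_inv] at this

/-- a commutative group of unipotent elements acting semisimply is trivial -/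
theorem eq_bot_of_unipotent_ss {U : Subgroup (LinearMap.GeneralLinearGroup k M)}
    (hab : ∀ u ∈ U, ∀ u' ∈ U, u * u' = u' * u)
    (hnil : ∀ u ∈ U, IsNilpotent ((u : Module.End k M) - 1)) (hss : SSFor U) : U = ⊥ := by
  rw [eq_bot_iff]
  intro u hu
  rw [Subgroup.mem_bot]
  -- `u` acts trivially on every irreducible submodule
  have hfix : ∀ W : Submodule k M, IrrSub U W → ∀ w ∈ W, ((u : Module.End k M) - 1) w = 0 := by
    intro W hW
    let W' : Submodule k M := W.map ((u : Module.End k M) - 1)
    have hW'le : W' ≤ W := by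
      rintro _ ⟨w, hw, rfl⟩
      rw [LinearMap.sub_apply, Module.End.one_apply]
      exact W.sub_mem (hW.2.1 u hu w hw) hw
    have hW'inv : InvSub U W' := by
      rintro g hg _ ⟨w, hw, rfl⟩
      refine ⟨(g : Module.End k M) w, hW.2.1 g hg w hw, ?_⟩
      have hc : (g : Module.End k M) * (u : Module.End k M) = (u : Module.End k M) * (g : Module.End k M) := by
        rw [← Units.val_mul, ← Units.val_mul, hab g hg u hu]
      have : ((u : Module.End k M) - 1) * (g : Module.End k M) =
          (g : Module.End k M) * ((u : Module.End k M) - 1) := by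
        rw [sub_mul, mul_sub, hc, one_mul, mul_one]
      have := LinearMap.congr_fun this w
      simpa only [Module.End.mul_apply] using this
    rcases hW.2.2 W' hW'le hW'inv with h | h
    · intro w hw
      have : ((u : Module.End k M) - 1) w ∈ W' := ⟨w, hw, rfl⟩
      rw [h] at this
      exact (Submodule.mem_bot k).mp this
    · exfalso
      obtain ⟨n, hn⟩ := hnil u hu
      -- `(u-1)^n W = W`
      have hpow : ∀ j : ℕ, W.map (((u : Module.End k M) - 1) ^ j) = W := by
        intro j
        induction j with
        | zero =>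
          rw [pow_zero]
          exact Submodule.map_id W
        | succ j ih =>
          rw [pow_succ, Module.End.mul_eq_comp, Submodule.map_comp]
          show Submodule.map (((u : Module.End k M) - 1) ^ j) W' = W
          rw [h, ih]
      have := hpow n
      rw [hn] at this
      apply hW.1
      rw [← this]
      ext v
      simp
  have hall : ∀ v : M, ((u : Module.End k M) - 1) v = 0 := by
    intro v
    have hv : v ∈ (⨆ W ∈ {W : Submodule k M | IrrSub U W}, W) := by
      rw [hss]; exact Submodule.mem_top
    have hle : (⨆ W ∈ {W : Submodule k M | IrrSub U W}, W) ≤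
        LinearMap.ker ((u : Module.End k M) - 1) := by
      refine iSup₂_le ?_
      intro W hW w hw
      exact LinearMap.mem_ker.mpr (hfix W hW w hw)
    exact LinearMap.mem_ker.mp (hle hv)
  apply Units.ext
  have : (u : Module.End k M) - 1 = 0 := LinearMap.ext hall
  rw [sub_eq_zero] at this
  exact this

end fd

end Cfsg.Agent.Lib.Helper2.Qp
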