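import Mathlib
import Cfsg.Agent.Lib.Helper2.Qp28

/-!
# Quadratic pairs, part 29: the torus of a partner pair; a non-degenerate pair `E(σ)`, `E(τ)`
satisfies `E(σ) ≤ ⁅E(σ) ⊔ E(τ), E(σ) ⊔ E(τ)⁆`.
-/

set_option autoImplicit false
universe u v
open Module

namespace Cfsg.Agent.Lib.Helper2.Qp

open scoped commutatorElement

variable {k : Type u} [Field k] {M : Type v} [AddCommGroup M] [Module k M]

namespace PP

variable {x y : Module.End k M}

theorem smul (h : PP x y) {t s : k} (hts : t * s = 1) : PP (t • x) (s • y) := by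
  have hst : s * t = 1 := by rw [mul_comm]; exact hts
  refine ⟨?_, ?_, ?_, ?_⟩
  · rw [smul_mul_assoc, mul_smul_comm, h.xx, smul_zero, smul_zero]
  · rw [smul_mul_assoc, mul_smul_comm, h.yy, smul_zero, smul_zero]
  · simp only [smul_mul_assoc, mul_smul_comm, smul_smul, h.xyx]
    rw [hst, mul_one]
  · simp only [smul_mul_assoc, mul_smul_comm, smul_smul, h.yxy]
    rw [hts, mul_one]

/-- the value of the Weyl element -/
theorem weyl_val (h : PP x y) : (1 + x) * (1 - y) * (1 + x) = 1 - (x * y + y * x) + x - y := by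
  simp only [mul_add, add_mul, mul_sub, sub_mul, mul_one, one_mul, ← mul_assoc, h.kxyx, h.xyx,
    h.xx, zero_mul, add_zero, sub_zero]
  abel

theorem y_mul_e (h : PP x y) : y * (x * y + y * x) = y := by
  simp only [mul_add, ← mul_assoc, h.yy, zero_mul, h.yxy, add_zero]

theorem e_mul_y (h : PP x y) : (x * y + y * x) * y = y := by
  rw [add_mul, mul_assoc x y y, h.yy, mul_zero, zero_add, h.yxy]

end PP

/-- the torus element attached to a partner pair -/
noncomputable def torG (x y : Module.End k M) (l : k) : LinearMap.GeneralLinearGroup k M :=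
  (uN x l * uN y (-l⁻¹) * uN x l) * (uN x (-1) * uN y 1 * uN x (-1))

theorem torG_mem {x y : Module.End k M} (l : k) {A B : Subgroup (LinearMap.GeneralLinearGroup k M)}
    (hx : ∀ c : k, uN x c ∈ A) (hy : ∀ c : k, uN y c ∈ B) : torG x y l ∈ A ⊔ B := by
  unfold torG
  have hxA : ∀ c : k, uN x c ∈ A ⊔ B := fun c => Subgroup.mem_sup_left (hx c)
  have hyB : ∀ c : k, uN y c ∈ A ⊔ B := fun c => Subgroup.mem_sup_right (hy c)
  exact mul_mem (mul_mem (mul_mem (hxA _) (hyB _)) (hxA _)) (mul_mem (mul_mem (hxA _) (hyB _)) (hxA _))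

theorem torG_val {x y : Module.End k M} (h : PP x y) {l : k} (hl : l ≠ 0) :
    ((torG x y l : LinearMap.GeneralLinearGroup k M) : Module.End k M) =
      1 - (x * y + y * x) + l • (x * y) + l⁻¹ • (y * x) := by
  unfold torG
  have h1 : PP (l • x) (l⁻¹ • y) := h.smul (mul_inv_cancel₀ hl)
  have h2 : PP ((-1 : k) • x) ((-1 : k) • y) := h.smul (by norm_num)
  rw [Units.val_mul, Units.val_mul, Units.val_mul, Units.val_mul, Units.val_mul, uN_val h.xx,
    uN_val h.yy, uN_val h.xx, uN_val h.yy]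
  have e1 : (1 + l • x) * (1 + -l⁻¹ • y) * (1 + l • x) =
      (1 + l • x) * (1 - l⁻¹ • y) * (1 + l • x) := by
    rw [neg_smul, ← sub_eq_add_neg]
  have e2 : (1 + (-1 : k) • x) * (1 + (1 : k) • y) * (1 + (-1 : k) • x) =
      (1 + (-1 : k) • x) * (1 - (-1 : k) • y) * (1 + (-1 : k) • x) := by
    rw [neg_one_smul k y, sub_neg_eq_add, one_smul]
  rw [e1, e2, h1.weyl_val, h2.weyl_val]
  have e3 : l • x * (l⁻¹ • y) + l⁻¹ • y * (l • x) = x * y + y * x := by
    rw [smul_mul_assoc, mul_smul_comm, smul_smul, mul_inv_cancel₀ hl, one_smul,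
      smul_mul_assoc, mul_smul_comm, smul_smul, inv_mul_cancel₀ hl, one_smul]
  have e4 : (-1 : k) • x * ((-1 : k) • y) + (-1 : k) • y * ((-1 : k) • x) = x * y + y * x := by
    rw [smul_mul_assoc, mul_smul_comm, smul_smul, smul_mul_assoc, mul_smul_comm, smul_smul]
    norm_num
  rw [e3, e4]
  have ex := h.e_mul_x
  have xe := h.x_mul_e
  have ey := h.e_mul_y
  have ye := h.y_mul_e
  have ee := h.idem
  generalize x * y + y * x = e at *
  simp only [mul_add, add_mul, mul_sub, sub_mul, mul_one, one_mul, smul_mul_assoc, mul_smul_comm,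
    neg_smul, one_smul, mul_neg, neg_mul, ex, xe, ey, ye, ee, h.xx, h.yy, smul_zero, neg_zero,
    smul_neg, sub_neg_eq_add]
  abel

theorem torG_semiconj {x y : Module.End k M} (h : PP x y) {l : k} (hl : l ≠ 0) :
    ((torG x y l : LinearMap.GeneralLinearGroup k M) : Module.End k M) * x =
      (l ^ 2 • x) * ((torG x y l : LinearMap.GeneralLinearGroup k M) : Module.End k M) := by
  rw [torG_val h hl]
  have ex := h.e_mul_x
  have xe := h.x_mul_e
  have e1 : x * y * x = x := h.xyx
  have e2 : y * x * x = 0 := h.kx y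
  have e3 : x * (x * y) = 0 := by rw [← mul_assoc, h.xx, zero_mul]
  have e4 : x * (y * x) = x := by rw [← mul_assoc, h.xyx]
  generalize x * y + y * x = e at *
  simp only [mul_add, add_mul, mul_sub, sub_mul, mul_one, one_mul, smul_mul_assoc, mul_smul_comm,
    ex, xe, e1, e2, e3, e4, smul_zero, add_zero, sub_self, zero_add, smul_smul]
  congr 1
  field_simp

theorem torG_conj_uN {x y : Module.End k M} (h : PP x y) {l : k} (hl : l ≠ 0) (c : k) :
    torG x y l * uN x c * (torG x y l)⁻¹ = uN x (c * l ^ 2) := by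
  rw [uN_conj h.xx, torG_semiconj h hl, mul_assoc, mul_inv_val, mul_one, uN_smul h.xx]

section fd

variable [FiniteDimensional k M] {G : Subgroup (LinearMap.GeneralLinearGroup k M)}
variable {σ τ : LinearMap.GeneralLinearGroup k M}

/-- a non-degenerate pair: `E(σ)` lies in the commutator subgroup of `⟨E(σ), E(τ)⟩` -/
theorem le_commutator_of_nd (h2 : (2 : k) ≠ 0) (hk : ∃ l : k, l ≠ 0 ∧ l ^ 2 ≠ 1)
    (hσ : σ ∈ Cfsg.minimalQuadraticElements G) (hτ : τ ∈ Cfsg.minimalQuadraticElements G)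
    (hnd : LinearMap.range ((σ : Module.End k M) - 1) ⊓
        LinearMap.ker ((τ : Module.End k M) - 1) = ⊥ ∧
      LinearMap.range ((τ : Module.End k M) - 1) ⊓ LinearMap.ker ((σ : Module.End k M) - 1) = ⊥) :
    Cfsg.sameActionSubgroup G σ ≤
      ⁅Cfsg.sameActionSubgroup G σ ⊔ Cfsg.sameActionSubgroup G τ,
        Cfsg.sameActionSubgroup G σ ⊔ Cfsg.sameActionSubgroup G τ⁆ := by
  intro a ha
  have hx := (mem_sameActionSubgroup_iff hσ a).mp ha
  by_cases hx0 : (a : Module.End k M) - 1 = 0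
  · have : a = 1 := by
      apply Units.ext
      rw [sub_eq_zero] at hx0
      exact hx0
    rw [this]
    exact Subgroup.one_mem _
  obtain ⟨y, hy, hpp, hy0⟩ := partner_of_mem h2 hk hσ hτ hnd hx hx0
  obtain ⟨l, hl, hl2⟩ := hk
  have hxx := hpp.xx
  have hd : l ^ 2 - 1 ≠ 0 := sub_ne_zero.mpr hl2
  have hxA : ∀ c : k, uN ((a : Module.End k M) - 1) c ∈ Cfsg.sameActionSubgroup G σ := by
    intro c
    have := uN_mem_sameAction hσ (SCR.smul hx c)
    rwa [uN_smul hxx, one_mul] at this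
  have hyB : ∀ c : k, uN y c ∈ Cfsg.sameActionSubgroup G τ := by
    intro c
    have := uN_mem_sameAction hτ (SCR.smul hy c)
    rwa [uN_smul hpp.yy, one_mul] at this
  have ht := torG_mem (x := (a : Module.End k M) - 1) (y := y) l hxA hyB
  have hcm : ⁅torG ((a : Module.End k M) - 1) y l, uN ((a : Module.End k M) - 1) (l ^ 2 - 1)⁻¹⁆ ∈
      ⁅Cfsg.sameActionSubgroup G σ ⊔ Cfsg.sameActionSubgroup G τ,
        Cfsg.sameActionSubgroup G σ ⊔ Cfsg.sameActionSubgroup G τ⁆ :=
    Subgroup.commutator_mem_commutator ht (Subgroup.mem_sup_left (hxA _))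
  have heq : ⁅torG ((a : Module.End k M) - 1) y l, uN ((a : Module.End k M) - 1) (l ^ 2 - 1)⁻¹⁆ = a := by
    rw [commutatorElement_def, torG_conj_uN hpp hl, uN_inv hxx, ← uN_add hxx]
    have : (l ^ 2 - 1)⁻¹ * l ^ 2 + -(l ^ 2 - 1)⁻¹ = 1 := by
      field_simp
      ring
    rw [this]
    exact (eq_uN_of_sub_one a hxx).symm
  rwa [heq] at hcm

end fd

end Cfsg.Agent.Lib.Helper2.Qp
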