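import Mathlib
import Cfsg.Agent.Lib.Helper2.Qp29

/-!
# Quadratic pairs, part 30: connectivity in the graph `𝓕(Σ)`: two root subgroups which do not
commute lie in the same connectivity component.
-/

set_option autoImplicit false
universe u v
open Module

namespace Cfsg.Agent.Lib.Helper2.Qp

open scoped commutatorElement

variable {k : Type u} [Field k] {M : Type v} [AddCommGroup M] [Module k M]

/-- connectivity in `𝓕(Σ)` -/
def FConn (G : Subgroup (LinearMap.GeneralLinearGroup k M))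
    (A B : Subgroup (LinearMap.GeneralLinearGroup k M)) : Prop :=
  Relation.ReflTransGen (Cfsg.FAdj (Cfsg.quadraticRootSubgroups G)) A B

section fd

variable [FiniteDimensional k M] {G : Subgroup (LinearMap.GeneralLinearGroup k M)}
variable {σ τ ρ : LinearMap.GeneralLinearGroup k M}

theorem fadj_symm {A B : Subgroup (LinearMap.GeneralLinearGroup k M)}
    (h : Cfsg.FAdj (Cfsg.quadraticRootSubgroups G) A B) :
    Cfsg.FAdj (Cfsg.quadraticRootSubgroups G) B A :=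
  ⟨h.2.1, h.1, Cfsg.RankOnePair_symm h.2.2⟩

theorem FConn.refl (A : Subgroup (LinearMap.GeneralLinearGroup k M)) : FConn G A A :=
  Relation.ReflTransGen.refl

theorem FConn.trans {A B C : Subgroup (LinearMap.GeneralLinearGroup k M)} (h : FConn G A B)
    (h' : FConn G B C) : FConn G A C := Relation.ReflTransGen.trans h h'

theorem FConn.symm {A B : Subgroup (LinearMap.GeneralLinearGroup k M)} (h : FConn G A B) :
    FConn G B A := by
  unfold FConn at h ⊢
  induction h with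
  | refl => exact Relation.ReflTransGen.refl
  | tail _ hbc ih => exact Relation.ReflTransGen.head (fadj_symm hbc) ih

theorem fadj_of_nd (h2 : (2 : k) ≠ 0) (hk : ∃ l : k, l ≠ 0 ∧ l ^ 2 ≠ 1)
    (hσ : σ ∈ Cfsg.minimalQuadraticElements G) (hτ : τ ∈ Cfsg.minimalQuadraticElements G)
    (hnd : LinearMap.range ((σ : Module.End k M) - 1) ⊓
        LinearMap.ker ((τ : Module.End k M) - 1) = ⊥ ∧
      LinearMap.range ((τ : Module.End k M) - 1) ⊓ LinearMap.ker ((σ : Module.End k M) - 1) = ⊥) :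
    Cfsg.FAdj (Cfsg.quadraticRootSubgroups G) (Cfsg.sameActionSubgroup G σ)
      (Cfsg.sameActionSubgroup G τ) :=
  ⟨⟨σ, hσ, rfl⟩, ⟨τ, hτ, rfl⟩, isRankOnePair_of_nd h2 hk hσ hτ hnd⟩

theorem fconn_of_nd (h2 : (2 : k) ≠ 0) (hk : ∃ l : k, l ≠ 0 ∧ l ^ 2 ≠ 1)
    (hσ : σ ∈ Cfsg.minimalQuadraticElements G) (hτ : τ ∈ Cfsg.minimalQuadraticElements G)
    (hnd : LinearMap.range ((σ : Module.End k M) - 1) ⊓
        LinearMap.ker ((τ : Module.End k M) - 1) = ⊥ ∧
      LinearMap.range ((τ : Module.End k M) - 1) ⊓ LinearMap.ker ((σ : Module.End k M) - 1) = ⊥) :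
    FConn G (Cfsg.sameActionSubgroup G σ) (Cfsg.sameActionSubgroup G τ) :=
  Relation.ReflTransGen.single (fadj_of_nd h2 hk hσ hτ hnd)

theorem nd_symm
    (hnd : LinearMap.range ((σ : Module.End k M) - 1) ⊓
        LinearMap.ker ((τ : Module.End k M) - 1) = ⊥ ∧
      LinearMap.range ((τ : Module.End k M) - 1) ⊓ LinearMap.ker ((σ : Module.End k M) - 1) = ⊥) :
    LinearMap.range ((τ : Module.End k M) - 1) ⊓
        LinearMap.ker ((σ : Module.End k M) - 1) = ⊥ ∧
      LinearMap.range ((σ : Module.End k M) - 1) ⊓ LinearMap.ker ((τ : Module.End k M) - 1) = ⊥ :=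
  ⟨hnd.2, hnd.1⟩

/-- conjugation by an element of `G` preserves adjacency -/
theorem fadj_conj (hirr : Cfsg.IsIrreducibleFor G) (h2 : (2 : k) ≠ 0)
    (hk : ∃ l : k, l ≠ 0 ∧ l ^ 2 ≠ 1) {A B : Subgroup (LinearMap.GeneralLinearGroup k M)}
    (h : Cfsg.FAdj (Cfsg.quadraticRootSubgroups G) A B) {g : LinearMap.GeneralLinearGroup k M}
    (hg : g ∈ G) :
    Cfsg.FAdj (Cfsg.quadraticRootSubgroups G) (Cfsg.conjBy A g) (Cfsg.conjBy B g) := by
  obtain ⟨⟨σ, hσ, rfl⟩, ⟨τ, hτ, rfl⟩, hpair⟩ := h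
  have hnd := nd_of_rankOnePair hirr h2 hk hσ hτ hpair
  rw [conjBy_sameActionSubgroup hg, conjBy_sameActionSubgroup hg]
  exact fadj_of_nd h2 hk (conj_mem_minimal hσ hg) (conj_mem_minimal hτ hg)
    ((nd_conj_iff g σ τ).mpr hnd)

theorem fconn_conj (hirr : Cfsg.IsIrreducibleFor G) (h2 : (2 : k) ≠ 0)
    (hk : ∃ l : k, l ≠ 0 ∧ l ^ 2 ≠ 1) {A B : Subgroup (LinearMap.GeneralLinearGroup k M)}
    (h : FConn G A B) {g : LinearMap.GeneralLinearGroup k M} (hg : g ∈ G) :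
    FConn G (Cfsg.conjBy A g) (Cfsg.conjBy B g) := by
  unfold FConn at h ⊢
  induction h with
  | refl => exact Relation.ReflTransGen.refl
  | tail _ hbc ih => exact Relation.ReflTransGen.tail ih (fadj_conj hirr h2 hk hbc hg)

/-- in a class two pair the second root subgroup is connected to the commutator root subgroup -/
theorem fconn_third (hirr : Cfsg.IsIrreducibleFor G) (h2 : (2 : k) ≠ 0)
    (hk : ∃ l : k, l ≠ 0 ∧ l ^ 2 ≠ 1)
    (hσ : σ ∈ Cfsg.minimalQuadraticElements G) (hτ : τ ∈ Cfsg.minimalQuadraticElements G)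
    (hρ : ρ ∈ Cfsg.minimalQuadraticElements G)
    (hnnd : ¬ (LinearMap.range ((σ : Module.End k M) - 1) ⊓
        LinearMap.ker ((τ : Module.End k M) - 1) = ⊥ ∧
      LinearMap.range ((τ : Module.End k M) - 1) ⊓ LinearMap.ker ((σ : Module.End k M) - 1) = ⊥))
    (hne : ⁅Cfsg.sameActionSubgroup G σ, Cfsg.sameActionSubgroup G τ⁆ ≠ ⊥)
    (hEq : ⁅Cfsg.sameActionSubgroup G σ, Cfsg.sameActionSubgroup G τ⁆ =
      Cfsg.sameActionSubgroup G ρ) :
    FConn G (Cfsg.sameActionSubgroup G τ) (Cfsg.sameActionSubgroup G ρ) := by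
  have hmin := isMinRank_of_minimal hσ
  have hd₂ := finrank_range_eq hσ hτ
  have hd₃ := finrank_range_eq hσ hρ
  -- a non-commuting pair
  have hex : ∃ e₀ ∈ Cfsg.sameActionSubgroup G σ, ∃ f₀ ∈ Cfsg.sameActionSubgroup G τ,
      f₀ * e₀ ≠ e₀ * f₀ := by
    by_contra hall
    push Not at hall
    apply hne
    rw [Subgroup.commutator_eq_bot_iff_le_centralizer]
    intro e he
    rw [Subgroup.mem_centralizer_iff]
    intro f hf
    exact hall e he f hf
  obtain ⟨e₀, he₀, f₀, hf₀, hef₀⟩ := hex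
  have hx₀ := (mem_sameActionSubgroup_iff hσ e₀).mp he₀
  have hy₀ := (mem_sameActionSubgroup_iff hτ f₀).mp hf₀
  have hD₀ : ((e₀ : Module.End k M) - 1) * ((f₀ : Module.End k M) - 1) -
      ((f₀ : Module.End k M) - 1) * ((e₀ : Module.End k M) - 1) ≠ 0 := by
    intro h
    apply hef₀
    exact (units_comm_of (sub_eq_zero.mp h)).symm
  obtain ⟨hxyx, hyxy⟩ := triple_zero_of_not_nd h2 hk hmin rfl hd₂ hnnd hx₀ hy₀
  have hcomm := comm_elt_eq e₀ f₀ hx₀.1.1 hy₀.1.1 hxyx hyxy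
  have hcm : e₀ * f₀ * e₀⁻¹ * f₀⁻¹ ∈ Cfsg.sameActionSubgroup G ρ := by
    rw [← hEq, ← commutatorElement_def]
    exact Subgroup.commutator_mem_commutator he₀ hf₀
  -- the class-two centrality
  obtain ⟨-, -, -, -, c5, -⟩ := class_two_core hirr h2 hk hσ hτ hnnd hne
  have hcent : ∀ c ∈ Cfsg.sameActionSubgroup G ρ, ∀ x ∈ Cfsg.sameActionSubgroup G σ,
      x * c = c * x := by
    intro c hc x hx
    rw [← hEq] at hc
    have hc' := (Subgroup.commutator_mono (le_sup_left (b := Cfsg.sameActionSubgroup G τ))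
      (le_sup_right (a := Cfsg.sameActionSubgroup G σ))) hc
    have := (Subgroup.commutator_eq_bot_iff_le_centralizer.mp c5) hc'
    rw [Subgroup.mem_centralizer_iff] at this
    exact (this x (Subgroup.mem_sup_left hx))
  generalize hx₀def : (e₀ : Module.End k M) - 1 = x₀ at hx₀ hD₀ hxyx hyxy hcomm
  generalize hy₀def : (f₀ : Module.End k M) - 1 = y₀ at hy₀ hD₀ hxyx hyxy hcomm
  rw [hcomm] at hcm
  have hDS0 := (mem_sameActionSubgroup_iff hρ _).mp hcm
  have hDD : (x₀ * y₀ - y₀ * x₀) * (x₀ * y₀ - y₀ * x₀) = 0 :=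
    comm_sq_zero hx₀.1.1 hy₀.1.1 hxyx hyxy
  have hD₀S : x₀ * y₀ - y₀ * x₀ ∈ SCR G (LinearMap.ker ((ρ : Module.End k M) - 1))
      (LinearMap.range ((ρ : Module.End k M) - 1)) := by
    rw [uN_val hDD, one_smul, add_sub_cancel_left] at hDS0
    exact hDS0
  obtain ⟨ρ', hρ', hnd'⟩ := exists_opposite hirr h2 hk hρ
  obtain ⟨hN', hN'0⟩ := self_sub_one_mem_SCR hρ'
  have hdρ' := finrank_range_eq hσ hρ'
  by_cases hnd2 : LinearMap.range ((τ : Module.End k M) - 1) ⊓
        LinearMap.ker ((ρ' : Module.End k M) - 1) = ⊥ ∧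
      LinearMap.range ((ρ' : Module.End k M) - 1) ⊓ LinearMap.ker ((τ : Module.End k M) - 1) = ⊥
  · exact (fconn_of_nd h2 hk hτ hρ' hnd2).trans (fconn_of_nd h2 hk hρ hρ' hnd').symm
  · have he : uN x₀ (-1) ∈ G := hx₀.1.2 (-1)
    have heσ : uN x₀ (-1) ∈ Cfsg.sameActionSubgroup G σ := by
      have := uN_mem_sameAction hσ (SCR.smul hx₀ (-1))
      rwa [uN_smul hx₀.1.1, one_mul] at this
    have hτ' : uN x₀ (-1) * τ * (uN x₀ (-1))⁻¹ ∈ Cfsg.minimalQuadraticElements G :=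
      conj_mem_minimal hτ he
    have hdτ' := finrank_range_eq hσ hτ'
    have hnd3 : LinearMap.range (((uN x₀ (-1) * τ * (uN x₀ (-1))⁻¹ :
          LinearMap.GeneralLinearGroup k M) : Module.End k M) - 1) ⊓
          LinearMap.ker ((ρ' : Module.End k M) - 1) = ⊥ ∧
        LinearMap.range ((ρ' : Module.End k M) - 1) ⊓
          LinearMap.ker (((uN x₀ (-1) * τ * (uN x₀ (-1))⁻¹ :
          LinearMap.GeneralLinearGroup k M) : Module.End k M) - 1) = ⊥ := by
      by_contra hnd3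
      have t1 := (triple_zero_of_not_nd h2 hk hmin hd₂ hdρ' hnd2 hy₀ hN').2
      have hy' : (uN x₀ (-1) : Module.End k M) * y₀ *
          (((uN x₀ (-1))⁻¹ : LinearMap.GeneralLinearGroup k M) : Module.End k M) ∈
          SCR G (LinearMap.ker (((uN x₀ (-1) * τ * (uN x₀ (-1))⁻¹ :
            LinearMap.GeneralLinearGroup k M) : Module.End k M) - 1))
          (LinearMap.range (((uN x₀ (-1) * τ * (uN x₀ (-1))⁻¹ :
            LinearMap.GeneralLinearGroup k M) : Module.End k M) - 1)) := by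
        rw [ker_sub_one_conj, range_sub_one_conj]
        exact SCR.conj hy₀ he
      have t2 := (triple_zero_of_not_nd h2 hk hmin hdτ' hdρ' hnd3 hy' hN').2
      have hxx := hx₀.1.1
      have e1 : (uN x₀ (-1) : Module.End k M) * y₀ *
          (((uN x₀ (-1))⁻¹ : LinearMap.GeneralLinearGroup k M) : Module.End k M) =
          y₀ - (x₀ * y₀ - y₀ * x₀) := by
        rw [uN_val hxx, uN_inv_val hxx]
        simp only [neg_smul, one_smul, sub_neg_eq_add, mul_add, add_mul, mul_one, one_mul,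
          neg_mul, mul_neg, hxyx]
        abel
      rw [e1] at t2
      have t3 : ((ρ' : Module.End k M) - 1) * (x₀ * y₀ - y₀ * x₀) * ((ρ' : Module.End k M) - 1) =
          ((ρ' : Module.End k M) - 1) * y₀ * ((ρ' : Module.End k M) - 1) -
          ((ρ' : Module.End k M) - 1) * (y₀ - (x₀ * y₀ - y₀ * x₀)) *
            ((ρ' : Module.End k M) - 1) := by
        generalize ((ρ' : Module.End k M) - 1) = N'
        generalize (x₀ * y₀ - y₀ * x₀) = D
        noncomm_ring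
      rw [t1, t2, sub_zero] at t3
      exact not_nilpotent_of_nd hnd' hD₀S hN' hD₀ hN'0
        (th_sq_zero_of hD₀S.1.1 hN'.1.1 t3)
    -- conjugate back by `e⁻¹`
    have hei : (uN x₀ (-1))⁻¹ ∈ G := G.inv_mem he
    have hρ'' : (uN x₀ (-1))⁻¹ * ρ' * ((uN x₀ (-1))⁻¹)⁻¹ ∈ Cfsg.minimalQuadraticElements G :=
      conj_mem_minimal hρ' hei
    have hτeq : (uN x₀ (-1))⁻¹ * (uN x₀ (-1) * τ * (uN x₀ (-1))⁻¹) * ((uN x₀ (-1))⁻¹)⁻¹ = τ := by
      group
    have hρeq : (uN x₀ (-1))⁻¹ * ρ * ((uN x₀ (-1))⁻¹)⁻¹ = ρ := by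
      have := hcent ρ (self_mem_sameAction hρ) _ heσ
      rw [inv_inv, mul_assoc, ← this, ← mul_assoc, inv_mul_cancel, one_mul]
    have hnd4 := (nd_conj_iff (uN x₀ (-1))⁻¹ (uN x₀ (-1) * τ * (uN x₀ (-1))⁻¹) ρ').mpr hnd3
    rw [hτeq] at hnd4
    have hnd5 := (nd_conj_iff (uN x₀ (-1))⁻¹ ρ ρ').mpr hnd'
    rw [hρeq] at hnd5
    exact (fconn_of_nd h2 hk hτ hρ'' hnd4).trans (fconn_of_nd h2 hk hρ hρ'' hnd5).symm

/-- two root subgroups which do not commute lie in the same component of `𝓕(Σ)` -/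
theorem fconn_of_not_comm (hirr : Cfsg.IsIrreducibleFor G) (h2 : (2 : k) ≠ 0)
    (hk : ∃ l : k, l ≠ 0 ∧ l ^ 2 ≠ 1)
    (hσ : σ ∈ Cfsg.minimalQuadraticElements G) (hτ : τ ∈ Cfsg.minimalQuadraticElements G)
    (hne : ⁅Cfsg.sameActionSubgroup G σ, Cfsg.sameActionSubgroup G τ⁆ ≠ ⊥) :
    FConn G (Cfsg.sameActionSubgroup G σ) (Cfsg.sameActionSubgroup G τ) := by
  by_cases hnd : LinearMap.range ((σ : Module.End k M) - 1) ⊓
        LinearMap.ker ((τ : Module.End k M) - 1) = ⊥ ∧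
      LinearMap.range ((τ : Module.End k M) - 1) ⊓ LinearMap.ker ((σ : Module.End k M) - 1) = ⊥
  · exact fconn_of_nd h2 hk hσ hτ hnd
  · obtain ⟨⟨ρ, hρ, hEq⟩, -⟩ := class_two_core hirr h2 hk hσ hτ hnd hne
    have h1 := fconn_third hirr h2 hk hσ hτ hρ hnd hne hEq
    have hnd' : ¬ (LinearMap.range ((τ : Module.End k M) - 1) ⊓
        LinearMap.ker ((σ : Module.End k M) - 1) = ⊥ ∧
      LinearMap.range ((σ : Module.End k M) - 1) ⊓ LinearMap.ker ((τ : Module.End k M) - 1) = ⊥) :=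
      fun h => hnd ⟨h.2, h.1⟩
    have hne' : ⁅Cfsg.sameActionSubgroup G τ, Cfsg.sameActionSubgroup G σ⁆ ≠ ⊥ := by
      rw [Subgroup.commutator_comm]; exact hne
    have hEq' : ⁅Cfsg.sameActionSubgroup G τ, Cfsg.sameActionSubgroup G σ⁆ =
        Cfsg.sameActionSubgroup G ρ := by
      rw [Subgroup.commutator_comm]; exact hEq
    have h2' := fconn_third hirr h2 hk hτ hσ hρ hnd' hne' hEq'
    exact h2'.trans h1.symm

end fd

end Cfsg.Agent.Lib.Helper2.Qp
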