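import Mathlib
import Cfsg.Agent.Lib.Helper2.Qp30

/-!
# Quadratic pairs, part 31: the connectivity components of `𝓕(Σ)` and the subgroups they generate.
-/

set_option autoImplicit false
universe u v
open Module

namespace Cfsg.Agent.Lib.Helper2.Qp

open scoped commutatorElement

variable {k : Type u} [Field k] {M : Type v} [AddCommGroup M] [Module k M]

/-- the component of `A` in `𝓕(Σ)` -/
def Comp (G : Subgroup (LinearMap.GeneralLinearGroup k M))
    (A : Subgroup (LinearMap.GeneralLinearGroup k M)) :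
    Set (Subgroup (LinearMap.GeneralLinearGroup k M)) :=
  {B | B ∈ Cfsg.quadraticRootSubgroups G ∧ FConn G A B}

/-- the subgroup generated by the component of `A` -/
def GComp (G : Subgroup (LinearMap.GeneralLinearGroup k M))
    (A : Subgroup (LinearMap.GeneralLinearGroup k M)) :
    Subgroup (LinearMap.GeneralLinearGroup k M) := ⨆ B ∈ Comp G A, B

section fd

variable [FiniteDimensional k M] {G : Subgroup (LinearMap.GeneralLinearGroup k M)}
variable {A B : Subgroup (LinearMap.GeneralLinearGroup k M)}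

theorem comp_eq_componentOf (A : Subgroup (LinearMap.GeneralLinearGroup k M)) :
    Comp G A = Cfsg.componentOf (Cfsg.FAdj (Cfsg.quadraticRootSubgroups G))
      (Cfsg.quadraticRootSubgroups G) A := rfl

theorem self_mem_comp (hA : A ∈ Cfsg.quadraticRootSubgroups G) : A ∈ Comp G A :=
  ⟨hA, FConn.refl A⟩

theorem comp_eq_of_mem (hB : B ∈ Comp G A) : Comp G B = Comp G A := by
  ext C
  constructor
  · rintro ⟨hC, hBC⟩
    exact ⟨hC, hB.2.trans hBC⟩
  · rintro ⟨hC, hAC⟩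
    exact ⟨hC, hB.2.symm.trans hAC⟩

theorem le_gcomp (hB : B ∈ Comp G A) : B ≤ GComp G A :=
  le_iSup₂ (f := fun (C : Subgroup (LinearMap.GeneralLinearGroup k M)) (_ : C ∈ Comp G A) => C) B hB

theorem gcomp_le (A : Subgroup (LinearMap.GeneralLinearGroup k M)) : GComp G A ≤ G := by
  refine iSup₂_le ?_
  rintro C ⟨⟨σ, -, rfl⟩, -⟩
  exact sameActionSubgroup_le σ

theorem gcomp_le_sup (A : Subgroup (LinearMap.GeneralLinearGroup k M)) :
    GComp G A ≤ ⨆ C ∈ Cfsg.quadraticRootSubgroups G, C := by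
  refine iSup₂_le ?_
  intro C hC
  exact le_iSup₂ (f := fun (C : Subgroup (LinearMap.GeneralLinearGroup k M))
    (_ : C ∈ Cfsg.quadraticRootSubgroups G) => C) C hC.1

/-- members of different components commute -/
theorem comm_of_not_mem (hirr : Cfsg.IsIrreducibleFor G) (h2 : (2 : k) ≠ 0)
    (hk : ∃ l : k, l ≠ 0 ∧ l ^ 2 ≠ 1) (hB : B ∉ Comp G A)
    {A' B' : Subgroup (LinearMap.GeneralLinearGroup k M)} (hA' : A' ∈ Comp G A)
    (hB' : B' ∈ Comp G B) : ⁅A', B'⁆ = ⊥ := by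
  by_contra hne
  obtain ⟨⟨σ, hσ, rfl⟩, hAA'⟩ := hA'
  obtain ⟨⟨τ, hτ, rfl⟩, hBB'⟩ := hB'
  have h := fconn_of_not_comm hirr h2 hk hσ hτ hne
  have hBS : B ∈ Cfsg.quadraticRootSubgroups G := by
    have := hBB'
    unfold FConn at this
    rcases Relation.ReflTransGen.cases_head this with h1 | ⟨C, hC, -⟩
    · rw [h1]; exact ⟨τ, hτ, rfl⟩
    · exact hC.1
  exact hB ⟨hBS, (hAA'.trans h).trans hBB'.symm⟩

/-- the subgroups generated by different components commute -/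
theorem gcomp_comm (hirr : Cfsg.IsIrreducibleFor G) (h2 : (2 : k) ≠ 0)
    (hk : ∃ l : k, l ≠ 0 ∧ l ^ 2 ≠ 1) (hB : B ∉ Comp G A) :
    ⁅GComp G A, GComp G B⁆ = ⊥ := by
  rw [Subgroup.commutator_eq_bot_iff_le_centralizer]
  refine iSup₂_le ?_
  intro A' hA'
  have h1 : GComp G B ≤ Subgroup.centralizer (A' : Set (LinearMap.GeneralLinearGroup k M)) := by
    refine iSup₂_le ?_
    intro B' hB'
    have := comm_of_not_mem hirr h2 hk hB hA' hB'
    rw [Subgroup.commutator_comm, Subgroup.commutator_eq_bot_iff_le_centralizer] at this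
    exact this
  intro a ha
  rw [Subgroup.mem_centralizer_iff]
  intro b hb
  have := h1 hb
  rw [Subgroup.mem_centralizer_iff] at this
  exact (this a ha).symm

theorem conjBy_mem_roots {C : Subgroup (LinearMap.GeneralLinearGroup k M)}
    (hC : C ∈ Cfsg.quadraticRootSubgroups G) {g : LinearMap.GeneralLinearGroup k M} (hg : g ∈ G) :
    Cfsg.conjBy C g ∈ Cfsg.quadraticRootSubgroups G := by
  obtain ⟨σ, hσ, rfl⟩ := hC
  exact ⟨_, conj_mem_minimal hσ hg, conjBy_sameActionSubgroup hg⟩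

theorem root_comm {C : Subgroup (LinearMap.GeneralLinearGroup k M)}
    (hC : C ∈ Cfsg.quadraticRootSubgroups G) : ∀ a ∈ C, ∀ b ∈ C, a * b = b * a := by
  obtain ⟨σ, hσ, rfl⟩ := hC
  exact fun a ha b hb => sameAction_comm hσ ha hb

theorem root_ne_bot {C : Subgroup (LinearMap.GeneralLinearGroup k M)}
    (hC : C ∈ Cfsg.quadraticRootSubgroups G) : ∃ c ∈ C, c ≠ 1 := by
  obtain ⟨σ, hσ, rfl⟩ := hC
  exact ⟨σ, self_mem_sameAction hσ, ne_one_of_minimal hσ⟩

/-- the subgroup of elements of `G` stabilising the component of `A` -/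
def compStab (G : Subgroup (LinearMap.GeneralLinearGroup k M))
    (A : Subgroup (LinearMap.GeneralLinearGroup k M)) :
    Subgroup (LinearMap.GeneralLinearGroup k M) where
  carrier := {g | g ∈ G ∧ ∀ C ∈ Comp G A, Cfsg.conjBy C g ∈ Comp G A ∧ Cfsg.conjBy C g⁻¹ ∈ Comp G A}
  one_mem' := ⟨G.one_mem, fun C hC => by rw [inv_one, conjBy_one]; exact ⟨hC, hC⟩⟩
  mul_mem' := by
    rintro g h ⟨hg, hg'⟩ ⟨hh, hh'⟩
    refine ⟨G.mul_mem hg hh, fun C hC => ⟨?_, ?_⟩⟩
    · rw [← conjBy_conjBy]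
      exact (hg' _ (hh' C hC).1).1
    · rw [_root_.mul_inv_rev, ← conjBy_conjBy]
      exact (hh' _ (hg' C hC).2).2
  inv_mem' := by
    rintro g ⟨hg, hg'⟩
    refine ⟨G.inv_mem hg, fun C hC => ⟨(hg' C hC).2, ?_⟩⟩
    rw [inv_inv]
    exact (hg' C hC).1

theorem le_compStab (hirr : Cfsg.IsIrreducibleFor G) (h2 : (2 : k) ≠ 0)
    (hk : ∃ l : k, l ≠ 0 ∧ l ^ 2 ≠ 1) {C : Subgroup (LinearMap.GeneralLinearGroup k M)}
    (hC : C ∈ Comp G A) : C ≤ compStab G A := by
  have hCG : C ≤ G := by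
    obtain ⟨⟨σ, -, rfl⟩, -⟩ := hC
    exact sameActionSubgroup_le σ
  have key : ∀ c ∈ C, ∀ D ∈ Comp G A, Cfsg.conjBy D c ∈ Comp G A := by
    intro c hc D hD
    have hcG := hCG hc
    have h1 : FConn G (Cfsg.conjBy C c) (Cfsg.conjBy D c) :=
      fconn_conj hirr h2 hk (hC.2.symm.trans hD.2) hcG
    have h3 : Cfsg.conjBy C c = C :=
      conjBy_eq_self_of_comm (fun a ha => root_comm hC.1 c hc a ha)
    rw [h3] at h1
    exact ⟨conjBy_mem_roots hD.1 hcG, hC.2.trans h1⟩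
  intro c hc
  exact ⟨hCG hc, fun D hD => ⟨key c hc D hD, key c⁻¹ (C.inv_mem hc) D hD⟩⟩

theorem gcomp_le_compStab (hirr : Cfsg.IsIrreducibleFor G) (h2 : (2 : k) ≠ 0)
    (hk : ∃ l : k, l ≠ 0 ∧ l ^ 2 ≠ 1) (A : Subgroup (LinearMap.GeneralLinearGroup k M)) :
    GComp G A ≤ compStab G A :=
  iSup₂_le fun _ hC => le_compStab hirr h2 hk hC

/-- the component is stable under conjugation by the subgroup it generates -/
theorem conj_mem_comp (hirr : Cfsg.IsIrreducibleFor G) (h2 : (2 : k) ≠ 0)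
    (hk : ∃ l : k, l ≠ 0 ∧ l ^ 2 ≠ 1) {C : Subgroup (LinearMap.GeneralLinearGroup k M)}
    (hC : C ∈ Comp G A) {g : LinearMap.GeneralLinearGroup k M} (hg : g ∈ GComp G A) :
    Cfsg.conjBy C g ∈ Comp G A :=
  ((gcomp_le_compStab hirr h2 hk A hg).2 C hC).1

/-- adjacent root subgroups are conjugate under the subgroup they generate -/
theorem exists_conj_of_fadj {C D : Subgroup (LinearMap.GeneralLinearGroup k M)}
    (h : Cfsg.FAdj (Cfsg.quadraticRootSubgroups G) C D) : ∃ g ∈ C ⊔ D, D = Cfsg.conjBy C g := by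
  obtain ⟨a, ha, ha1⟩ := root_ne_bot h.1
  obtain ⟨b, hb, -, hab⟩ := h.2.2.cond_left a ha ha1
  refine ⟨a * b⁻¹, Subgroup.mul_mem _ (Subgroup.mem_sup_left ha)
    (Subgroup.mem_sup_right (D.inv_mem hb)), ?_⟩
  have h1 : Cfsg.conjBy (Cfsg.conjBy D a⁻¹) a = D := by
    rw [conjBy_conjBy, mul_inv_cancel, conjBy_one]
  rw [← h1, ← hab, conjBy_conjBy]

/-- every member of the component of `A` is conjugate to `A` under the subgroup generated by the
component -/
theorem exists_conj_of_mem_comp (hB : B ∈ Comp G A) : ∃ g ∈ GComp G A, B = Cfsg.conjBy A g := by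
  obtain ⟨-, hAB⟩ := hB
  unfold FConn at hAB
  induction hAB with
  | refl => exact ⟨1, Subgroup.one_mem _, (conjBy_one A).symm⟩
  | @tail C D hAC hCD ih =>
    obtain ⟨g, hg, rfl⟩ := ih
    have hC : Cfsg.conjBy A g ∈ Comp G A := ⟨hCD.1, hAC⟩
    have hD : D ∈ Comp G A := ⟨hCD.2.1, Relation.ReflTransGen.tail hAC hCD⟩
    obtain ⟨x, hx, rfl⟩ := exists_conj_of_fadj hCD
    refine ⟨x * g, Subgroup.mul_mem _ ((sup_le (le_gcomp hC) (le_gcomp hD)) hx) hg, ?_⟩
    rw [conjBy_conjBy]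

end fd

end Cfsg.Agent.Lib.Helper2.Qp
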