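import Mathlib
import Cfsg.Agent.Lib.Helper2.Qp31

/-!
# Quadratic pairs, part 32: the subgroup generated by a connectivity component of `𝓕(Σ)` is
quasisimple.
-/

set_option autoImplicit false
universe u v
open Module

namespace Cfsg.Agent.Lib.Helper2.Qp

open scoped commutatorElement

variable {k : Type u} [Field k] {M : Type v} [AddCommGroup M] [Module k M]

/-- a subgroup generated by pairwise commuting elements is commutative -/
theorem closure_comm {H : Type*} [Group H] {T : Set H} (hT : ∀ x ∈ T, ∀ y ∈ T, x * y = y * x) :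
    ∀ x ∈ Subgroup.closure T, ∀ y ∈ Subgroup.closure T, x * y = y * x := by
  have h1 : ∀ x ∈ T, Subgroup.closure T ≤ Subgroup.centralizer ({x} : Set H) := by
    intro x hx
    rw [Subgroup.closure_le]
    intro y hy
    show y ∈ Subgroup.centralizer ({x} : Set H)
    rw [Subgroup.mem_centralizer_iff]
    intro z hz
    rw [Set.mem_singleton_iff] at hz
    subst hz
    exact hT z hx y hy
  have h2 : ∀ y ∈ Subgroup.closure T, Subgroup.closure T ≤ Subgroup.centralizer ({y} : Set H) := by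
    intro y hy
    rw [Subgroup.closure_le]
    intro x hx
    show x ∈ Subgroup.centralizer ({y} : Set H)
    rw [Subgroup.mem_centralizer_iff]
    intro z hz
    rw [Set.mem_singleton_iff] at hz
    subst hz
    have := h1 x hx hy
    rw [Subgroup.mem_centralizer_iff] at this
    exact (this x rfl).symm
  intro x hx y hy
  have := h2 y hy hx
  rw [Subgroup.mem_centralizer_iff] at this
  exact (this y rfl).symm

/-- in a commutative group generated by unipotent elements every element is unipotent -/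
theorem nilpotent_of_closure {T : Set (LinearMap.GeneralLinearGroup k M)}
    (hT : ∀ x ∈ T, ∀ y ∈ T, x * y = y * x)
    (hnil : ∀ x ∈ T, IsNilpotent ((x : Module.End k M) - 1)) :
    ∀ x ∈ Subgroup.closure T, IsNilpotent ((x : Module.End k M) - 1) := by
  have hcomm := closure_comm hT
  have hcommE : ∀ x ∈ Subgroup.closure T, ∀ y ∈ Subgroup.closure T,
      Commute (x : Module.End k M) (y : Module.End k M) := by
    intro x hx y hy
    unfold Commute SemiconjBy
    rw [← Units.val_mul, ← Units.val_mul, hcomm x hx y hy]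
  intro x hx
  induction hx using Subgroup.closure_induction with
  | mem x hx => exact hnil x hx
  | one =>
    rw [Units.val_one, sub_self]
    exact IsNilpotent.zero
  | mul x y hx hy ihx ihy =>
    have e : ((x * y : LinearMap.GeneralLinearGroup k M) : Module.End k M) - 1 =
        ((x : Module.End k M) - 1) * (y : Module.End k M) + ((y : Module.End k M) - 1) := by
      rw [Units.val_mul]; noncomm_ring
    rw [e]
    have c1 : Commute ((x : Module.End k M) - 1) (y : Module.End k M) :=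
      ((hcommE x hx y hy).sub_left (Commute.one_left _))
    have c2 : Commute (((x : Module.End k M) - 1) * (y : Module.End k M))
        ((y : Module.End k M) - 1) := by
      apply Commute.mul_left
      · exact (c1.sub_right (Commute.one_right _))
      · exact ((Commute.refl _).sub_right (Commute.one_right _))
    exact Commute.isNilpotent_add c2 (c1.isNilpotent_mul_right ihx) ihy
  | inv x hx ihx =>
    have e : ((x⁻¹ : LinearMap.GeneralLinearGroup k M) : Module.End k M) - 1 =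
        -(((x⁻¹ : LinearMap.GeneralLinearGroup k M) : Module.End k M) *
          ((x : Module.End k M) - 1)) := by
      rw [mul_sub, inv_mul_val, mul_one]; abel
    rw [e]
    have c1 : Commute ((x⁻¹ : LinearMap.GeneralLinearGroup k M) : Module.End k M)
        ((x : Module.End k M) - 1) :=
      ((hcommE _ ((Subgroup.closure T).inv_mem hx) x hx).sub_right (Commute.one_right _))
    exact (c1.isNilpotent_mul_left ihx).neg

section fd

variable [FiniteDimensional k M] {G : Subgroup (LinearMap.GeneralLinearGroup k M)}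
variable {A : Subgroup (LinearMap.GeneralLinearGroup k M)}

theorem ssFor_sup_roots (hirr : Cfsg.IsIrreducibleFor G) :
    SSFor (⨆ C ∈ Cfsg.quadraticRootSubgroups G, C) := by
  have hle : (⨆ C ∈ Cfsg.quadraticRootSubgroups G, C) ≤ G := by
    refine iSup₂_le ?_
    rintro C ⟨σ, -, rfl⟩
    exact sameActionSubgroup_le σ
  refine clifford hle ?_ (ssFor_of_irreducible hirr)
  intro g hg h hh
  have h1 : (⨆ C ∈ Cfsg.quadraticRootSubgroups G, C) ≤
      (⨆ C ∈ Cfsg.quadraticRootSubgroups G, C).comap (MulAut.conj g).toMonoidHom := by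
    refine iSup₂_le ?_
    intro C hC c hc
    rw [Subgroup.mem_comap]
    have h2 : Cfsg.conjBy C g ≤ ⨆ C ∈ Cfsg.quadraticRootSubgroups G, C :=
      le_iSup₂ (f := fun (C : Subgroup (LinearMap.GeneralLinearGroup k M))
        (_ : C ∈ Cfsg.quadraticRootSubgroups G) => C) _ (conjBy_mem_roots hC hg)
    exact h2 ⟨c, hc, rfl⟩
  have := h1 hh
  rw [Subgroup.mem_comap] at this
  exact this

theorem ssFor_gcomp (hirr : Cfsg.IsIrreducibleFor G) (h2 : (2 : k) ≠ 0)
    (hk : ∃ l : k, l ≠ 0 ∧ l ^ 2 ≠ 1) (A : Subgroup (LinearMap.GeneralLinearGroup k M)) :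
    SSFor (GComp G A) := by
  refine clifford (gcomp_le_sup A) ?_ (ssFor_sup_roots hirr)
  have h1 : (⨆ C ∈ Cfsg.quadraticRootSubgroups G, C) ≤
      Subgroup.normalizer (GComp G A : Set (LinearMap.GeneralLinearGroup k M)) := by
    refine iSup₂_le ?_
    intro C hC
    by_cases hCA : C ∈ Comp G A
    · exact (le_gcomp hCA).trans Subgroup.le_normalizer
    · have h3 := gcomp_comm hirr h2 hk hCA
      rw [Subgroup.commutator_eq_bot_iff_le_centralizer] at h3
      have h4 : C ≤ Subgroup.centralizer (GComp G A : Set (LinearMap.GeneralLinearGroup k M)) := by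
        intro c hc
        rw [Subgroup.mem_centralizer_iff]
        intro x hx
        have := h3 hx
        rw [Subgroup.mem_centralizer_iff] at this
        exact (this c (le_gcomp (self_mem_comp hC) hc)).symm
      exact h4.trans (Subgroup.centralizer_le_normalizer _)
  intro g hg h hh
  have := h1 hg
  rw [Subgroup.mem_normalizer_iff] at this
  exact (this h).mp hh

/-- the alternatives for a pair in a component -/
theorem comp_pair (hirr : Cfsg.IsIrreducibleFor G) (h2 : (2 : k) ≠ 0)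
    (hk : ∃ l : k, l ≠ 0 ∧ l ^ 2 ≠ 1) {A' B' : Subgroup (LinearMap.GeneralLinearGroup k M)}
    (hA' : A' ∈ Comp G A) (hB' : B' ∈ Comp G A) :
    (∀ a ∈ A', ∀ b ∈ B', a * b = b * a) ∨ A' ≤ ⁅A' ⊔ B', A' ⊔ B'⁆ ∨
      ∃ C ∈ Comp G A, C ≤ ⁅A', B'⁆ := by
  obtain ⟨⟨σ, hσ, rfl⟩, hAA'⟩ := hA'
  obtain ⟨⟨τ, hτ, rfl⟩, hAB'⟩ := hB'
  by_cases hnd : LinearMap.range ((σ : Module.End k M) - 1) ⊓
        LinearMap.ker ((τ : Module.End k M) - 1) = ⊥ ∧
      LinearMap.range ((τ : Module.End k M) - 1) ⊓ LinearMap.ker ((σ : Module.End k M) - 1) = ⊥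
  · exact Or.inr (Or.inl (le_commutator_of_nd h2 hk hσ hτ hnd))
  by_cases hne : ⁅Cfsg.sameActionSubgroup G σ, Cfsg.sameActionSubgroup G τ⁆ = ⊥
  · left
    rw [Subgroup.commutator_eq_bot_iff_le_centralizer] at hne
    intro a ha b hb
    have := hne ha
    rw [Subgroup.mem_centralizer_iff] at this
    exact (this b hb).symm
  right; right
  obtain ⟨⟨ρ, hρ, hEq⟩, -⟩ := class_two_core hirr h2 hk hσ hτ hnd hne
  refine ⟨_, ⟨⟨ρ, hρ, hEq⟩, ?_⟩, le_rfl⟩
  rw [hEq]
  exact hAB'.trans (fconn_third hirr h2 hk hσ hτ hρ hnd hne hEq)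

theorem comp_partner (hirr : Cfsg.IsIrreducibleFor G) (h2 : (2 : k) ≠ 0)
    (hk : ∃ l : k, l ≠ 0 ∧ l ^ 2 ≠ 1) {A' : Subgroup (LinearMap.GeneralLinearGroup k M)}
    (hA' : A' ∈ Comp G A) : ∃ B' ∈ Comp G A, A' ≤ ⁅A' ⊔ B', A' ⊔ B'⁆ := by
  obtain ⟨⟨σ, hσ, rfl⟩, hAA'⟩ := hA'
  obtain ⟨τ, hτ, hnd⟩ := exists_opposite hirr h2 hk hσ
  exact ⟨_, ⟨⟨τ, hτ, rfl⟩, hAA'.trans (fconn_of_nd h2 hk hσ hτ hnd)⟩,
    le_commutator_of_nd h2 hk hσ hτ hnd⟩

/-- a normal subgroup `N` of the group of a component centralizes a member whose `N`-conjugates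
pairwise commute -/
theorem centralizes_of_comm_conj (hirr : Cfsg.IsIrreducibleFor G) (h2 : (2 : k) ≠ 0)
    (hk : ∃ l : k, l ≠ 0 ∧ l ^ 2 ≠ 1) {N : Subgroup (LinearMap.GeneralLinearGroup k M)}
    (hNK : N ≤ GComp G A) (hNn : ∀ g ∈ GComp G A, ∀ n ∈ N, g * n * g⁻¹ ∈ N)
    {A' : Subgroup (LinearMap.GeneralLinearGroup k M)} (hA' : A' ∈ Comp G A)
    (hcomm : ∀ n ∈ N, ∀ n' ∈ N, ∀ a ∈ Cfsg.conjBy A' n, ∀ b ∈ Cfsg.conjBy A' n', a * b = b * a) :
    ∀ n ∈ N, ∀ a ∈ A', n * a = a * n := by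
  -- the set of generators
  let T : Set (LinearMap.GeneralLinearGroup k M) := {a | ∃ n ∈ N, a ∈ Cfsg.conjBy A' n}
  have hTcomm : ∀ x ∈ T, ∀ y ∈ T, x * y = y * x := by
    rintro x ⟨n, hn, hx⟩ y ⟨n', hn', hy⟩
    exact hcomm n hn n' hn' x hx y hy
  have hTnil : ∀ x ∈ T, IsNilpotent ((x : Module.End k M) - 1) := by
    rintro x ⟨n, hn, hx⟩
    obtain ⟨a₀, ha₀, rfl⟩ := mem_conjBy'.mp hx
    obtain ⟨⟨σ, hσ, rfl⟩, -⟩ := hA'
    have hs := ((mem_sameActionSubgroup_iff hσ a₀).mp ha₀).1.1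
    refine ⟨2, ?_⟩
    rw [conj_sub_one, pow_two]
    exact conj_sq_zero hs n
  let U : Subgroup (LinearMap.GeneralLinearGroup k M) := Subgroup.closure T ⊓ N
  have hUN : U ≤ N := inf_le_right
  have hUab : ∀ u ∈ U, ∀ u' ∈ U, u * u' = u' * u := fun u hu u' hu' =>
    closure_comm hTcomm u hu.1 u' hu'.1
  have hUnil : ∀ u ∈ U, IsNilpotent ((u : Module.End k M) - 1) := fun u hu =>
    nilpotent_of_closure hTcomm hTnil u hu.1
  -- `U` is normal in `N`
  have hUnorm : ∀ g ∈ N, ∀ h ∈ U, g * h * g⁻¹ ∈ U := by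
    intro g hg h hh
    refine ⟨?_, N.mul_mem (N.mul_mem hg hh.2) (N.inv_mem hg)⟩
    have h1 : Subgroup.closure T ≤ (Subgroup.closure T).comap (MulAut.conj g).toMonoidHom := by
      rw [Subgroup.closure_le]
      rintro x ⟨n, hn, hx⟩
      show (MulAut.conj g).toMonoidHom x ∈ Subgroup.closure T
      apply Subgroup.subset_closure
      refine ⟨g * n, N.mul_mem hg hn, ?_⟩
      rw [← conjBy_conjBy]
      exact ⟨x, hx, rfl⟩
    have := h1 hh.1
    rw [Subgroup.mem_comap] at this
    exact this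
  have hssN : SSFor N := clifford hNK hNn (ssFor_gcomp hirr h2 hk A)
  have hssU : SSFor U := clifford hUN hUnorm hssN
  have hU : U = ⊥ := eq_bot_of_unipotent_ss hUab hUnil hssU
  intro n hn a ha
  have hc : n * a * n⁻¹ * a⁻¹ ∈ U := by
    refine ⟨?_, ?_⟩
    · refine Subgroup.mul_mem _ ?_ ?_
      · exact Subgroup.subset_closure ⟨n, hn, mem_conjBy'.mpr ⟨a, ha, rfl⟩⟩
      · refine Subgroup.subset_closure ⟨1, N.one_mem, ?_⟩
        rw [conjBy_one]
        exact A'.inv_mem ha
    · have h1 : n * a * n⁻¹ * a⁻¹ = n * (a * n⁻¹ * a⁻¹) := by group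
      rw [h1]
      exact N.mul_mem hn (hNn a (le_gcomp hA' ha) _ (N.inv_mem hn))
  rw [hU, Subgroup.mem_bot] at hc
  have h2' : n * a = (n * a * n⁻¹ * a⁻¹) * (a * n) := by group
  rw [h2', hc, one_mul]

/-- **the subgroup generated by a component is quasisimple** -/
theorem isQuasisimple_gcomp (hirr : Cfsg.IsIrreducibleFor G) (h2 : (2 : k) ≠ 0)
    (hk : ∃ l : k, l ≠ 0 ∧ l ^ 2 ≠ 1) (hA : A ∈ Cfsg.quadraticRootSubgroups G) :
    Cfsg.IsQuasisimple ↥(GComp G A) := by
  refine isQuasisimple_subgroup_of_class (GComp G A) (Comp G A) rfl ?_ ?_ ?_ ?_ ?_ ?_ ?_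
  · exact fun C hC => root_comm hC.1
  · refine ⟨A, self_mem_comp hA, ?_⟩
    intro h
    obtain ⟨c, hc, hc1⟩ := root_ne_bot hA
    rw [h, Subgroup.mem_bot] at hc
    exact hc1 hc
  · exact fun C hC g hg => conj_mem_comp hirr h2 hk hC hg
  · intro C hC D hD
    obtain ⟨g, hg, rfl⟩ := exists_conj_of_mem_comp hC
    obtain ⟨g', hg', rfl⟩ := exists_conj_of_mem_comp hD
    refine ⟨g' * g⁻¹, Subgroup.mul_mem _ hg' (Subgroup.inv_mem _ hg), ?_⟩
    rw [conjBy_conjBy, inv_mul_cancel_right]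
  · exact fun C hC => comp_partner hirr h2 hk hC
  · exact fun C hC D hD => comp_pair hirr h2 hk hC hD
  · exact fun N hNK hNn C hC hcomm => centralizes_of_comm_conj hirr h2 hk hNK hNn hC hcomm

end fd

end Cfsg.Agent.Lib.Helper2.Qp
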