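import Mathlib
import Cfsg.Agent.Lib.Helper2.Qp32

/-!
# Quadratic pairs, part 33: the components form classes of abstract root subgroups, there are
finitely many of them, and the theorem on the decomposition of `Σ` into quasisimple classes.
-/

set_option autoImplicit false
universe u v
open Module

namespace Cfsg.Agent.Lib.Helper2.Qp

open scoped commutatorElement

variable {k : Type u} [Field k] {M : Type v} [AddCommGroup M] [Module k M]

theorem sub_one_comm_of_comm {e f : LinearMap.GeneralLinearGroup k M} (h : e * f = f * e) :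
    ((e : Module.End k M) - 1) * ((f : Module.End k M) - 1) =
      ((f : Module.End k M) - 1) * ((e : Module.End k M) - 1) := by
  have h' : (e : Module.End k M) * (f : Module.End k M) = (f : Module.End k M) * (e : Module.End k M) := by
    rw [← Units.val_mul, ← Units.val_mul, h]
  simp only [sub_mul, mul_sub, mul_one, one_mul, h']
  abel

section fd

variable [FiniteDimensional k M] {G : Subgroup (LinearMap.GeneralLinearGroup k M)}
variable {A : Subgroup (LinearMap.GeneralLinearGroup k M)}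

/-- **the members of a component form a class of abstract root subgroups of the subgroup they
generate** -/
theorem isRootSubgroupClass_comp (hirr : Cfsg.IsIrreducibleFor G) (h2 : (2 : k) ≠ 0)
    (hk : ∃ l : k, l ≠ 0 ∧ l ^ 2 ≠ 1) (hA : A ∈ Cfsg.quadraticRootSubgroups G) :
    Cfsg.IsRootSubgroupClass ((fun C : Subgroup (LinearMap.GeneralLinearGroup k M) =>
      C.subgroupOf (GComp G A)) '' Comp G A) := by
  have hle : ∀ C ∈ Comp G A, C ≤ GComp G A := fun C hC => le_gcomp hC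
  refine ⟨⟨?_, ?_, ?_, ?_, ?_⟩, ⟨?_, ?_⟩⟩
  · rintro _ ⟨C, hC, rfl⟩
    exact Cfsg.Agent.S5016.isMulComm_of _
      (fun x hx y hy => Subtype.ext (root_comm hC.1 x hx y hy))
  · rintro _ ⟨C, hC, rfl⟩ h0
    replace h0 : C.subgroupOf (GComp G A) = ⊥ := h0
    obtain ⟨c, hc, hc1⟩ := root_ne_bot hC.1
    have h1 : (⟨c, hle C hC hc⟩ : ↥(GComp G A)) ∈ C.subgroupOf (GComp G A) := hc
    rw [h0, Subgroup.mem_bot] at h1
    exact hc1 (congrArg Subtype.val h1)
  · rw [eq_top_iff]
    intro x _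
    obtain ⟨T, hT⟩ : ∃ T : Subgroup ↥(GComp G A),
        T = ⨆ A' ∈ ((fun C : Subgroup (LinearMap.GeneralLinearGroup k M) =>
          C.subgroupOf (GComp G A)) '' Comp G A), A' := ⟨_, rfl⟩
    rw [← hT]
    have h1 : GComp G A ≤ T.map (GComp G A).subtype := by
      refine iSup₂_le ?_
      intro C hC
      have h2' : C.subgroupOf (GComp G A) ≤ T := by
        rw [hT]
        exact le_iSup₂ (f := fun (A' : Subgroup ↥(GComp G A))
          (_ : A' ∈ ((fun C : Subgroup (LinearMap.GeneralLinearGroup k M) =>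
            C.subgroupOf (GComp G A)) '' Comp G A)) => A') _ ⟨C, hC, rfl⟩
      have h3 := Subgroup.map_mono (f := (GComp G A).subtype) h2'
      rwa [Subgroup.map_subgroupOf_eq_of_le (hle C hC)] at h3
    obtain ⟨t, ht, htx⟩ := h1 x.2
    have : t = x := Subtype.ext htx
    rwa [this] at ht
  · rintro _ ⟨C, hC, rfl⟩ g
    exact ⟨_, conj_mem_comp hirr h2 hk hC g.2, (conjBy_subgroupOf' _ _ g).symm⟩
  · rintro _ ⟨C, hC, rfl⟩ _ ⟨D, hD, rfl⟩
    have hCle := hle C hC
    have hDle := hle D hD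
    obtain ⟨⟨σ, hσ, rfl⟩, hAC⟩ := hC
    obtain ⟨⟨τ, hτ, rfl⟩, hAD⟩ := hD
    by_cases hnd : LinearMap.range ((σ : Module.End k M) - 1) ⊓
          LinearMap.ker ((τ : Module.End k M) - 1) = ⊥ ∧
        LinearMap.range ((τ : Module.End k M) - 1) ⊓ LinearMap.ker ((σ : Module.End k M) - 1) = ⊥
    · right; left
      exact rankOnePair_subgroupOf hCle hDle (fun x hx y hy => sameAction_comm hσ hx hy)
        (fun x hx y hy => sameAction_comm hτ hx hy) (isRankOnePair_of_nd h2 hk hσ hτ hnd)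
    by_cases hne : ⁅Cfsg.sameActionSubgroup G σ, Cfsg.sameActionSubgroup G τ⁆ = ⊥
    · left
      show ⁅(Cfsg.sameActionSubgroup G σ).subgroupOf _, (Cfsg.sameActionSubgroup G τ).subgroupOf _⁆
        = ⊥
      rw [commutator_subgroupOf hCle hDle, hne, Subgroup.bot_subgroupOf]
    right; right
    obtain ⟨⟨ρ, hρ, hEq⟩, c2, c3, -, c5, -⟩ := class_two_core hirr h2 hk hσ hτ hnd hne
    have hmem : ⁅Cfsg.sameActionSubgroup G σ, Cfsg.sameActionSubgroup G τ⁆ ∈ Comp G A := by
      refine ⟨⟨ρ, hρ, hEq⟩, ?_⟩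
      rw [hEq]
      exact hAD.trans (fconn_third hirr h2 hk hσ hτ hρ hnd hne hEq)
    have hcase : Cfsg.RootCommutatorCase (Comp G A) (Cfsg.sameActionSubgroup G σ)
        (Cfsg.sameActionSubgroup G τ) := by
      refine ⟨hmem, ?_, c2, c3⟩
      intro c hc x hx
      have hc' := (Subgroup.commutator_mono (le_sup_left (b := Cfsg.sameActionSubgroup G τ))
        (le_sup_right (a := Cfsg.sameActionSubgroup G σ))) hc
      have := (Subgroup.commutator_eq_bot_iff_le_centralizer.mp c5) hc'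
      rw [Subgroup.mem_centralizer_iff] at this
      exact (this x hx).symm
    exact rootCommutatorCase_subgroupOf hCle hDle hcase
  · exact ⟨_, ⟨A, self_mem_comp hA, rfl⟩⟩
  · rintro _ ⟨C, hC, rfl⟩ _ ⟨D, hD, rfl⟩
    obtain ⟨g, hg, rfl⟩ := exists_conj_of_mem_comp hC
    obtain ⟨g', hg', rfl⟩ := exists_conj_of_mem_comp hD
    refine ⟨⟨g' * g⁻¹, Subgroup.mul_mem _ hg' (Subgroup.inv_mem _ hg)⟩, ?_⟩
    rw [conjBy_subgroupOf']
    show (Cfsg.conjBy A g').subgroupOf (GComp G A) =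
      (Cfsg.conjBy (Cfsg.conjBy A g) (g' * g⁻¹)).subgroupOf (GComp G A)
    rw [conjBy_conjBy, inv_mul_cancel_right]

/-- the `PSL₂`-pairs inside rank one pairs of a component -/
theorem psl2_of_comp (hirr : Cfsg.IsIrreducibleFor G) (h2 : (2 : k) ≠ 0)
    (hk : ∃ l : k, l ≠ 0 ∧ l ^ 2 ≠ 1) :
    ∀ A' ∈ Comp G A, ∀ B' ∈ Cfsg.rankOnePartners (Comp G A) A',
      ∃ A₀ B₀ : Subgroup (LinearMap.GeneralLinearGroup k M), A₀ ≤ A' ∧ B₀ ≤ B' ∧
        ∃ (k₁ : Type u) (_ : Field k₁), 3 < ENat.card k₁ ∧ Cfsg.IsPSL2PairOver k₁ A₀ B₀ := by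
  rintro A' ⟨⟨σ, hσ, rfl⟩, -⟩ B' ⟨⟨⟨τ, hτ, rfl⟩, -⟩, hpair⟩
  exact psl2_pair_of_nd h2 hk hσ hτ (nd_of_rankOnePair hirr h2 hk hσ hτ hpair)

/-- the equivalence relation `same component` on `Σ` -/
def compSetoid (G : Subgroup (LinearMap.GeneralLinearGroup k M)) :
    Setoid ↥(Cfsg.quadraticRootSubgroups G) where
  r a b := FConn G a.1 b.1
  iseqv := ⟨fun a => FConn.refl a.1, fun h => h.symm, fun h h' => h.trans h'⟩

/-- there are only finitely many components -/
theorem finite_components (hirr : Cfsg.IsIrreducibleFor G) (h2 : (2 : k) ≠ 0)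
    (hk : ∃ l : k, l ≠ 0 ∧ l ^ 2 ≠ 1) : Finite (Quotient (compSetoid G)) := by
  have hdata : ∀ q : Quotient (compSetoid G), ∃ p : Module.End k M × Module.End k M,
      ∃ a : ↥(Cfsg.quadraticRootSubgroups G), ∃ σ τ : LinearMap.GeneralLinearGroup k M,
        σ ∈ Cfsg.minimalQuadraticElements G ∧ τ ∈ Cfsg.minimalQuadraticElements G ∧
        Quotient.mk (compSetoid G) a = q ∧ a.1 = Cfsg.sameActionSubgroup G σ ∧
        FConn G (Cfsg.sameActionSubgroup G σ) (Cfsg.sameActionSubgroup G τ) ∧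
        p.1 ∈ SCR G (LinearMap.ker ((σ : Module.End k M) - 1))
          (LinearMap.range ((σ : Module.End k M) - 1)) ∧
        p.2 ∈ SCR G (LinearMap.ker ((τ : Module.End k M) - 1))
          (LinearMap.range ((τ : Module.End k M) - 1)) ∧ PP p.1 p.2 ∧ p.2 ≠ 0 := by
    intro q
    obtain ⟨a, rfl⟩ := Quotient.exists_rep q
    obtain ⟨σ, hσ, haσ⟩ := a.2
    obtain ⟨τ, hτ, hnd⟩ := exists_opposite hirr h2 hk hσ
    obtain ⟨hx, hx0⟩ := self_sub_one_mem_SCR hσ
    obtain ⟨y, hy, hpp, hy0⟩ := partner_of_mem h2 hk hσ hτ hnd hx hx0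
    exact ⟨((σ : Module.End k M) - 1, y), a, σ, τ, hσ, hτ, rfl, haσ, fconn_of_nd h2 hk hσ hτ hnd,
      hx, hy, hpp, hy0⟩
  choose p a σ τ hσ hτ haq haσ hconn hx hy hpp hy0 using hdata
  have hli : LinearIndependent k (fun q : Quotient (compSetoid G) => (p q).1) := by
    rw [linearIndependent_iff']
    intro s g hsum i₀ hi₀
    -- the products `y x_i y`
    have hprod : ∀ i : Quotient (compSetoid G), i ≠ i₀ → (p i₀).2 * (p i).1 * (p i₀).2 = 0 := by
      intro i hi
      have hnot : Cfsg.sameActionSubgroup G (τ i₀) ∉ Comp G (Cfsg.sameActionSubgroup G (σ i)) := by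
        rintro ⟨-, hc⟩
        apply hi
        rw [← haq i, ← haq i₀]
        apply Quotient.sound
        show FConn G (a i).1 (a i₀).1
        rw [haσ i, haσ i₀]
        exact hc.trans (hconn i₀).symm
      have hcm := comm_of_not_mem hirr h2 hk hnot (self_mem_comp ⟨σ i, hσ i, rfl⟩)
        (self_mem_comp ⟨τ i₀, hτ i₀, rfl⟩)
      rw [Subgroup.commutator_eq_bot_iff_le_centralizer] at hcm
      have h1 : uN (p i).1 1 ∈ Cfsg.sameActionSubgroup G (σ i) := uN_mem_sameAction (hσ i) (hx i)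
      have h2' : uN (p i₀).2 1 ∈ Cfsg.sameActionSubgroup G (τ i₀) :=
        uN_mem_sameAction (hτ i₀) (hy i₀)
      have h3 := hcm h1
      rw [Subgroup.mem_centralizer_iff] at h3
      have h4 := sub_one_comm_of_comm (h3 _ h2')
      rw [uN_val (hx i).1.1, uN_val (hy i₀).1.1, one_smul, one_smul, add_sub_cancel_left,
        add_sub_cancel_left] at h4
      rw [h4, mul_assoc, (hpp i₀).yy, mul_zero]
    have h1 : (p i₀).2 * (∑ i ∈ s, g i • (p i).1) * (p i₀).2 = g i₀ • (p i₀).2 := by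
      rw [Finset.mul_sum, Finset.sum_mul]
      rw [Finset.sum_eq_single i₀]
      · rw [mul_smul_comm, smul_mul_assoc, (hpp i₀).yxy]
      · intro i _ hi
        rw [mul_smul_comm, smul_mul_assoc, hprod i hi, smul_zero]
      · intro h
        exact absurd hi₀ h
    rw [hsum, mul_zero, zero_mul] at h1
    rcases smul_eq_zero.mp h1.symm with h | h
    · exact h
    · exact absurd h (hy0 i₀)
  exact hli.finite

end fd

end Cfsg.Agent.Lib.Helper2.Qp
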