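import Mathlib
import Cfsg.Agent.Lib.Helper2.Qp33

/-!
# Quadratic pairs, part 34: `Σ` is the disjoint union of finitely many classes generating pairwise
commuting quasisimple subgroups.
-/

set_option autoImplicit false
universe u v
open Module

namespace Cfsg.Agent.Lib.Helper2.Qp

open scoped commutatorElement

variable {k : Type u} [Field k] {M : Type v} [AddCommGroup M] [Module k M]

section fd

variable [FiniteDimensional k M] {G : Subgroup (LinearMap.GeneralLinearGroup k M)}

/-- **`Σ` splits into finitely many quasisimple classes** -/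
theorem quasisimple_classes_main (hirr : Cfsg.IsIrreducibleFor G) (h2 : (2 : k) ≠ 0)
    (hk : ∃ l : k, l ≠ 0 ∧ l ^ 2 ≠ 1) :
    ∃ (r : ℕ) (part : Fin r → Set (Subgroup (LinearMap.GeneralLinearGroup k M))),
      (⋃ i, part i) = Cfsg.quadraticRootSubgroups G ∧
      (∀ i j, i ≠ j → Disjoint (part i) (part j)) ∧ (∀ i, (part i).Nonempty) ∧
      (∀ i j, i ≠ j → ⁅(⨆ A ∈ part i, A), (⨆ A ∈ part j, A)⁆ = ⊥) ∧
      (∀ i, Cfsg.IsQuasisimple ↥(⨆ A ∈ part i, A) ∧
        Cfsg.IsRootSubgroupClass ((fun A : Subgroup (LinearMap.GeneralLinearGroup k M) =>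
          A.subgroupOf (⨆ B ∈ part i, B)) '' (part i)) ∧
        ∀ A ∈ part i, ∀ B ∈ Cfsg.rankOnePartners (part i) A,
          ∃ A₀ B₀ : Subgroup (LinearMap.GeneralLinearGroup k M), A₀ ≤ A ∧ B₀ ≤ B ∧
          ∃ (k₁ : Type u) (_ : Field k₁), 3 < ENat.card k₁ ∧ Cfsg.IsPSL2PairOver k₁ A₀ B₀) := by
  haveI hfin : Finite (Quotient (compSetoid G)) := finite_components hirr h2 hk
  let e : Quotient (compSetoid G) ≃ Fin (Nat.card (Quotient (compSetoid G))) := Finite.equivFin _
  let rep : Fin (Nat.card (Quotient (compSetoid G))) → ↥(Cfsg.quadraticRootSubgroups G) :=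
    fun i => (e.symm i).out
  have hrep : ∀ i, Quotient.mk (compSetoid G) (rep i) = e.symm i := fun i => Quotient.out_eq _
  have hmem : ∀ a : ↥(Cfsg.quadraticRootSubgroups G),
      a.1 ∈ Comp G (rep (e (Quotient.mk (compSetoid G) a))).1 := by
    intro a
    refine ⟨a.2, ?_⟩
    have h1 : Quotient.mk (compSetoid G) (rep (e (Quotient.mk (compSetoid G) a))) =
        Quotient.mk (compSetoid G) a := by
      rw [hrep, Equiv.symm_apply_apply]
    exact Quotient.exact h1
  have hdisj : ∀ i j, (∃ B, B ∈ Comp G (rep i).1 ∧ B ∈ Comp G (rep j).1) → i = j := by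
    rintro i j ⟨B, hBi, hBj⟩
    have h1 : Quotient.mk (compSetoid G) (rep i) = Quotient.mk (compSetoid G) (rep j) :=
      Quotient.sound (hBi.2.trans hBj.2.symm)
    rw [hrep, hrep] at h1
    exact e.symm.injective h1
  refine ⟨Nat.card (Quotient (compSetoid G)), fun i => Comp G (rep i).1, ?_, ?_, ?_, ?_, ?_⟩
  · ext B
    rw [Set.mem_iUnion]
    constructor
    · rintro ⟨i, hB⟩
      exact hB.1
    · intro hB
      exact ⟨_, hmem ⟨B, hB⟩⟩
  · intro i j hij
    rw [Set.disjoint_left]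
    intro B hBi hBj
    exact hij (hdisj i j ⟨B, hBi, hBj⟩)
  · intro i
    exact ⟨_, self_mem_comp (rep i).2⟩
  · intro i j hij
    have hB : (rep j).1 ∉ Comp G (rep i).1 := by
      intro h
      exact hij (hdisj i j ⟨_, h, self_mem_comp (rep j).2⟩)
    exact gcomp_comm hirr h2 hk hB
  · intro i
    exact ⟨isQuasisimple_gcomp hirr h2 hk (rep i).2, isRootSubgroupClass_comp hirr h2 hk (rep i).2,
      psl2_of_comp hirr h2 hk⟩

end fd

end Cfsg.Agent.Lib.Helper2.Qp
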