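import Cfsg.Agent.Lib.Helper2.R4Defs
import Cfsg.Agent.Lib.Helper1.GlaubermanRepl3

/-! S3814 farm piece A1: basics on `Fpf`, `IsSq`, `E2`. -/

set_option autoImplicit false
set_option linter.style.haveILetI false

namespace Cfsg.Agent.Lib.Helper2.R4

open scoped Pointwise

variable {G : Type*} [Group G]

theorem fpf_iff_inf (y : G) (X : Subgroup G) :
    Fpf y X ↔ X ⊓ Subgroup.centralizer {y} = ⊥ := by
  constructor
  · intro h
    rw [eq_bot_iff]
    intro x hx
    rw [Subgroup.mem_inf, Subgroup.mem_centralizer_iff] at hx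
    rw [Subgroup.mem_bot]
    exact h x hx.1 (hx.2 y rfl).symm
  · intro h x hx hxy
    have : x ∈ X ⊓ Subgroup.centralizer {y} := by
      rw [Subgroup.mem_inf, Subgroup.mem_centralizer_iff]
      refine ⟨hx, ?_⟩
      intro z hz
      rw [Set.mem_singleton_iff] at hz
      subst hz
      exact hxy.symm
    rw [h, Subgroup.mem_bot] at this
    exact this

theorem Fpf.mono {y : G} {X Y : Subgroup G} (h : Fpf y Y) (hXY : X ≤ Y) : Fpf y X :=
  fun x hx hxy => h x (hXY hx) hxy

theorem Fpf.of_pow {y : G} {X : Subgroup G} {k : ℕ} (h : Fpf (y ^ k) X) : Fpf y X := by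
  intro x hx hxy
  apply h x hx
  have : Commute x y := hxy
  exact (this.pow_right k).eq

theorem Fpf.pow {y : G} {X : Subgroup G} (hy : (orderOf y).Prime) (h : Fpf y X) {k : ℕ}
    (hk : ¬ orderOf y ∣ k) : Fpf (y ^ k) X := by
  intro x hx hxy
  apply h x hx
  have hcop : Nat.Coprime k (orderOf y) := ((Nat.Prime.coprime_iff_not_dvd hy).2 hk).symm
  obtain ⟨m, hm⟩ := exists_pow_eq_self_of_coprime hcop
  have hc : Commute x (y ^ k) := hxy
  have := hc.pow_right m
  rw [hm] at this
  exact this.eq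

theorem Fpf.conj {y : G} {X : Subgroup G} (h : Fpf y X) (g : G)
    (hg : g ∈ Subgroup.normalizer (X : Set G)) : Fpf (g * y * g⁻¹) X := by
  intro x hx hxy
  have hginv : g⁻¹ ∈ Subgroup.normalizer (X : Set G) := Subgroup.inv_mem _ hg
  have hx' : g⁻¹ * x * g⁻¹⁻¹ ∈ X := (Subgroup.mem_normalizer_iff.1 hginv x).1 hx
  rw [inv_inv] at hx'
  have h1 : g⁻¹ * x * g * y = y * (g⁻¹ * x * g) := by
    have e1 : g⁻¹ * x * g * y = g⁻¹ * (x * (g * y * g⁻¹)) * g := by group
    have e2 : y * (g⁻¹ * x * g) = g⁻¹ * ((g * y * g⁻¹) * x) * g := by group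
    rw [e1, e2, hxy]
  have := h _ hx' h1
  have : x = g * (g⁻¹ * x * g) * g⁻¹ := by group
  rw [this, ‹g⁻¹ * x * g = 1›]
  group

theorem E2.mono {p : ℕ} {K K' : Subgroup G} (h : E2 p K) (hK : K ≤ K') : E2 p K' := by
  obtain ⟨A, hA, hsq⟩ := h
  exact ⟨A, hA.trans hK, hsq⟩

theorem IsSq.isPGroup {p : ℕ} (hp : p.Prime) {A : Subgroup G} (h : IsSq p A) : IsPGroup p A := by
  haveI : Fact p.Prime := ⟨hp⟩
  exact IsPGroup.of_card h.1

theorem IsSq.commute {p : ℕ} (hp : p.Prime) {A : Subgroup G} (h : IsSq p A) :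
    ∀ a ∈ A, ∀ b ∈ A, a * b = b * a := by
  haveI : Fact p.Prime := ⟨hp⟩
  intro a ha b hb
  have := IsPGroup.commutative_of_card_eq_prime_sq h.1
  have h2 : (⟨a, ha⟩ : A) * ⟨b, hb⟩ = ⟨b, hb⟩ * ⟨a, ha⟩ := this _ _
  exact congrArg Subtype.val h2

theorem IsSq.orderOf_eq {p : ℕ} (hp : p.Prime) {A : Subgroup G} (h : IsSq p A) {a : G}
    (ha : a ∈ A) (ha1 : a ≠ 1) : orderOf a = p := by
  have h1 : orderOf a ∣ p := orderOf_dvd_of_pow_eq_one (h.2 a ha)
  rcases (Nat.dvd_prime hp).1 h1 with h2 | h2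
  · exact absurd (orderOf_eq_one_iff.1 h2) ha1
  · exact h2

theorem IsSq.not_isCyclic {p : ℕ} (hp : p.Prime) {A : Subgroup G} (h : IsSq p A) :
    ¬ IsCyclic A := by
  intro hc
  obtain ⟨g, hg⟩ := hc.exists_generator
  have hfin : Finite A := Nat.finite_of_card_ne_zero (by rw [h.1]; exact pow_ne_zero _ hp.ne_zero)
  have h1 : orderOf g = Nat.card A := orderOf_eq_card_of_forall_mem_zpowers hg
  have h2 : g ^ p = 1 := by
    apply Subtype.ext
    rw [Subgroup.coe_pow]
    exact h.2 _ g.2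
  have h3 : orderOf g ∣ p := orderOf_dvd_of_pow_eq_one h2
  rw [h1, h.1] at h3
  have := Nat.le_of_dvd hp.pos h3
  have hp2 := hp.two_le
  nlinarith

theorem IsSq.ne_bot {p : ℕ} (hp : p.Prime) {A : Subgroup G} (h : IsSq p A) : A ≠ ⊥ := by
  intro hA
  have := h.1
  rw [hA, Subgroup.card_bot] at this
  have hp2 := hp.two_le
  nlinarith

theorem IsSq.exists_not_mem_zpowers {p : ℕ} (hp : p.Prime) {A : Subgroup G} (h : IsSq p A) (x : G) :
    ∃ a ∈ A, a ∉ Subgroup.zpowers x := by
  by_contra hcon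
  push Not at hcon
  have hle : A ≤ Subgroup.zpowers x := hcon
  apply h.not_isCyclic hp
  have : IsCyclic (A.subgroupOf (Subgroup.zpowers x)) := inferInstance
  exact isCyclic_of_surjective (Subgroup.subgroupOfEquivOfLe hle).toMonoidHom
    (Subgroup.subgroupOfEquivOfLe hle).surjective

theorem mem_closure_pair_iff {x y : G} (hxy : x * y = y * x) (g : G) :
    g ∈ Subgroup.closure {x, y} ↔ ∃ i j : ℤ, g = x ^ i * y ^ j := by
  have hc : Commute x y := hxy
  constructor
  · intro hg
    induction hg using Subgroup.closure_induction with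
    | mem z hz =>
      rcases hz with rfl | hz
      · exact ⟨1, 0, by simp⟩
      · rw [Set.mem_singleton_iff] at hz
        subst hz
        exact ⟨0, 1, by simp⟩
    | one => exact ⟨0, 0, by simp⟩
    | mul a b _ _ ha hb =>
      obtain ⟨i, j, rfl⟩ := ha
      obtain ⟨k, l, rfl⟩ := hb
      refine ⟨i + k, j + l, ?_⟩
      have h1 : Commute (y ^ j) (x ^ k) := (hc.symm.zpow_zpow j k)
      calc x ^ i * y ^ j * (x ^ k * y ^ l) = x ^ i * (y ^ j * x ^ k) * y ^ l := by group
        _ = x ^ i * (x ^ k * y ^ j) * y ^ l := by rw [h1.eq]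
        _ = x ^ (i + k) * y ^ (j + l) := by rw [zpow_add, zpow_add]; group
    | inv a _ ha =>
      obtain ⟨i, j, rfl⟩ := ha
      refine ⟨-i, -j, ?_⟩
      have h1 : Commute (y ^ (-j)) (x ^ (-i)) := (hc.symm.zpow_zpow (-j) (-i))
      rw [mul_inv_rev, ← zpow_neg, ← zpow_neg, h1.eq]
  · rintro ⟨i, j, rfl⟩
    exact Subgroup.mul_mem _
      (Subgroup.zpow_mem _ (Subgroup.subset_closure (by simp)) i)
      (Subgroup.zpow_mem _ (Subgroup.subset_closure (by simp)) j)

theorem isSq_closure_pair {p : ℕ} (hp : p.Prime) {x y : G} (hx : orderOf x = p) (hy : orderOf y = p)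
    (hxy : x * y = y * x) (hne : y ∉ Subgroup.zpowers x) :
    IsSq p (Subgroup.closure {x, y}) := by
  have hc : Commute x y := hxy
  constructor
  · -- cardinality
    have hcl : Subgroup.closure {x, y} = Subgroup.zpowers x ⊔ Subgroup.zpowers y := by
      rw [Subgroup.zpowers_eq_closure, Subgroup.zpowers_eq_closure, ← Subgroup.closure_union]
      rfl
    have hnorm : Subgroup.zpowers x ≤ Subgroup.normalizer ((Subgroup.zpowers y : Subgroup G) : Set G) := by
      rw [Subgroup.zpowers_le]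
      rw [Subgroup.mem_normalizer_iff]
      intro h
      have : ∀ h ∈ Subgroup.zpowers y, x * h * x⁻¹ = h := by
        intro h hh
        obtain ⟨k, rfl⟩ := Subgroup.mem_zpowers_iff.1 hh
        have := (hc.zpow_right k).eq
        rw [this]; group
      constructor
      · intro hh
        rw [this h hh]; exact hh
      · intro hh
        have h2 := this _ hh
        have : x * h * x⁻¹ = h := by
          have h3 : x * (x * h * x⁻¹) * x⁻¹ = x * h * x⁻¹ := h2
          have : x * h * x⁻¹ = x⁻¹ * (x * (x * h * x⁻¹) * x⁻¹) * x := by group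
          rw [this, h3]; group
        rw [← this]; exact hh
    have hinf : Subgroup.zpowers x ⊓ Subgroup.zpowers y = ⊥ := by
      by_contra hcon
      haveI : Fact p.Prime := ⟨hp⟩
      have hcardy : Nat.card (Subgroup.zpowers y) = p := by rw [Nat.card_zpowers, hy]
      have hle : Subgroup.zpowers x ⊓ Subgroup.zpowers y ≤ Subgroup.zpowers y := inf_le_right
      have hdvd := Subgroup.card_dvd_of_le hle
      rw [hcardy] at hdvd
      rcases (Nat.dvd_prime hp).1 hdvd with h1 | h1
      · exact hcon (Subgroup.card_eq_one.1 h1)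
      · have : Subgroup.zpowers x ⊓ Subgroup.zpowers y = Subgroup.zpowers y := by
          haveI : Finite (Subgroup.zpowers y) :=
            Nat.finite_of_card_ne_zero (by rw [hcardy]; exact hp.ne_zero)
          exact Subgroup.eq_of_le_of_card_ge hle (by rw [h1, hcardy])
        apply hne
        have h2 : y ∈ Subgroup.zpowers x ⊓ Subgroup.zpowers y := by
          rw [this]; exact Subgroup.mem_zpowers y
        exact h2.1
    have := Cfsg.Agent.Lib.Helper1.GlaubermanRepl.card_sup_mul_card_inf_of_le_normalizer _ _ hnorm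
    rw [hinf, Subgroup.card_bot, mul_one, Nat.card_zpowers, Nat.card_zpowers, hx, hy] at this
    rw [hcl, this, sq]
  · intro a ha
    obtain ⟨i, j, rfl⟩ := (mem_closure_pair_iff hxy a).1 ha
    have h1 : Commute (x ^ i) (y ^ j) := hc.zpow_zpow i j
    rw [h1.mul_pow, ← zpow_natCast, ← zpow_natCast, ← zpow_mul, ← zpow_mul, mul_comm i, mul_comm j,
      zpow_mul, zpow_mul, zpow_natCast, zpow_natCast, ← hx]
    nth_rewrite 2 [hx]
    rw [← hy, pow_orderOf_eq_one, pow_orderOf_eq_one]
    simp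

theorem IsSq.conj {p : ℕ} {A : Subgroup G} (h : IsSq p A) (g : G) : IsSq p (MulAut.conj g • A) := by
  constructor
  · rw [← h.1]
    exact Nat.card_congr (Subgroup.equivSMul (MulAut.conj g) A).symm.toEquiv
  · intro a ha
    obtain ⟨b, hb, rfl⟩ := (Subgroup.mem_smul_pointwise_iff_exists _ _ _).1 ha
    rw [MulAut.smul_def, MulAut.conj_apply, conj_pow, h.2 b hb]
    group

theorem E2.conj {p : ℕ} {K : Subgroup G} (h : E2 p K) (g : G) : E2 p (MulAut.conj g • K) := by
  obtain ⟨A, hA, hsq⟩ := h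
  exact ⟨MulAut.conj g • A, Subgroup.pointwise_smul_le_pointwise_smul_iff.2 hA, hsq.conj g⟩

theorem E2_map_subtype_iff {p : ℕ} (K : Subgroup G) (M : Subgroup K) :
    E2 p (M.map K.subtype) ↔ E2 p M := by
  constructor
  · rintro ⟨A, hA, hsq⟩
    have hAK : A ≤ K := hA.trans (Subgroup.map_subtype_le M)
    refine ⟨A.subgroupOf K, ?_, ?_, ?_⟩
    · intro x hx
      have hx' : (x : G) ∈ A := hx
      obtain ⟨m, hm, hmx⟩ := hA hx'
      have : m = x := Subtype.ext hmx
      rw [← this]; exact hm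
    · rw [Cfsg.Agent.Lib.Helper1.card_subgroupOf_of_le hAK]; exact hsq.1
    · intro a ha
      apply Subtype.ext
      rw [Subgroup.coe_pow]
      exact hsq.2 _ ha
  · rintro ⟨A, hA, hsq⟩
    refine ⟨A.map K.subtype, Subgroup.map_mono hA, ?_, ?_⟩
    · rw [← hsq.1]
      exact Nat.card_congr (A.equivMapOfInjective K.subtype K.subtype_injective).symm.toEquiv
    · rintro _ ⟨a, ha, rfl⟩
      have := hsq.2 a ha
      have h2 := congrArg Subtype.val this
      simpa using h2

theorem E2_top_subtype_iff {p : ℕ} (K : Subgroup G) : E2 p (⊤ : Subgroup K) ↔ E2 p K := by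
  rw [← E2_map_subtype_iff K ⊤]
  have : (⊤ : Subgroup K).map K.subtype = K := by
    rw [← MonoidHom.range_eq_map, Subgroup.range_subtype]
  rw [this]

theorem E2.sq_dvd_card [Finite G] {p : ℕ} {K : Subgroup G} (h : E2 p K) : p ^ 2 ∣ Nat.card K := by
  obtain ⟨A, hA, hsq⟩ := h
  rw [← hsq.1]
  exact Subgroup.card_dvd_of_le hA

end Cfsg.Agent.Lib.Helper2.R4
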