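import Cfsg.Agent.Lib.Helper2.R4A2
import Cfsg.Agent.Lib.Helper2.R4A5
import Cfsg.Agent.Lib.Helper2.R4B3a
import Cfsg.Agent.Lib.Helper7.Lucido
import Cfsg.Agent.Lib.Helper1.MinimalNormal

/-! S3814 farm piece A8: mixed elements in solvable groups. -/

set_option autoImplicit false
set_option linter.style.haveILetI false

namespace Cfsg.Agent.Lib.Helper2.R4

open scoped Pointwise
open Cfsg.Agent.Lib.Helper7

variable {G : Type*} [Group G]

theorem exists_mixed_of_three_primes {X : Type*} [Group X] [Finite X] (hs : Group.IsSolvable X)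
    {p q r : ℕ} (hp : p.Prime) (hq : q.Prime) (hr : r.Prime) (hpq : p ≠ q) (hpr : p ≠ r)
    (hqr : q ≠ r) (hpX : p ∣ Nat.card X) (hqX : q ∣ Nat.card X) (hrX : r ∣ Nat.card X) :
    ∃ g : X, p * q ∣ orderOf g ∨ p * r ∣ orderOf g ∨ q * r ∣ orderOf g := by
  by_contra hcon
  push Not at hcon
  have hno : Lucido.NoMix ({p, q, r} : Set ℕ) X := by
    intro a ha b hb _ _ hab z hz
    obtain ⟨h1, h2, h3⟩ := hcon z
    simp only [Set.mem_insert_iff, Set.mem_singleton_iff] at ha hb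
    rcases ha with rfl | rfl | rfl <;> rcases hb with rfl | rfl | rfl
    · exact hab rfl
    · exact h1 (by rw [hz])
    · exact h2 (by rw [hz])
    · exact h1 (by rw [hz, mul_comm])
    · exact hab rfl
    · exact h3 (by rw [hz])
    · exact h2 (by rw [hz, mul_comm])
    · exact h3 (by rw [hz, mul_comm])
    · exact hab rfl
  exact Lucido.three_primes hno hp hq hr (by simp) (by simp) (by simp) hpq hpr hqr hpX hqX hrX

/-- the core of Lemma E, for a `{p,q}`-group -/
theorem h2_r4_mixed_aux {X : Type*} [Group X] [Finite X] (hs : Group.IsSolvable X) {p q : ℕ}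
    (hp : p.Prime) (hq : q.Prime) (hpq : p ≠ q)
    (hX : ∀ s : ℕ, s.Prime → s ∣ Nat.card X → s = p ∨ s = q)
    (h1 : E2 p (⊤ : Subgroup X))
    (h2 : E2 q (⊤ : Subgroup X)) : ∃ g : X, p * q ∣ orderOf g := by
  have hX1 : (⊤ : Subgroup X) ≠ ⊥ := by
    intro h
    obtain ⟨A, hA, hsq⟩ := h1
    rw [h] at hA
    exact hsq.ne_bot hp (le_bot_iff.1 hA)
  obtain ⟨N, hNn, hN1, -, hmin⟩ := exists_minNormal_le (inferInstance : (⊤ : Subgroup X).Normal) hX1
  haveI := hNn
  obtain ⟨-, s, hs', hexp⟩ := Cfsg.Agent.Lib.Helper1.minimal_normal_of_solvable N hN1 hmin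
  have hNs : IsPGroup s N := by
    intro v
    refine ⟨1, ?_⟩
    apply Subtype.ext
    rw [pow_one, Subgroup.coe_pow]
    exact hexp _ v.2
  have hsdvd : s ∣ Nat.card X := by
    haveI : Fact s.Prime := ⟨hs'⟩
    obtain ⟨n, hn⟩ := IsPGroup.iff_card.1 hNs
    have hn0 : n ≠ 0 := by
      rintro rfl
      rw [pow_zero] at hn
      exact hN1 (Subgroup.card_eq_one.1 hn)
    exact (dvd_pow_self s hn0).trans (hn ▸ Subgroup.card_subgroup_dvd_card N)
  have hnorm : ∀ A : Subgroup X, A ≤ Subgroup.normalizer (N : Set X) := by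
    intro A
    rw [Subgroup.normalizer_eq_top]
    exact le_top
  have key : ∀ t : ℕ, t.Prime → t ≠ s → E2 t (⊤ : Subgroup X) → ∃ g : X, orderOf g = s * t := by
    intro t ht hts hE
    obtain ⟨A, -, hsq⟩ := hE
    obtain ⟨a, -, hao, w, -, hwo, hc⟩ := exists_commute_of_sq' ht hs' hsq hN1 hNs (hnorm A)
    refine ⟨w * a, ?_⟩
    have hcc : Commute w a := hc.symm
    rw [hcc.orderOf_mul_eq_mul_orderOf_of_coprime, hwo, hao]
    rw [hwo, hao]
    exact (Nat.coprime_primes hs' ht).2 (Ne.symm hts)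
  rcases hX s hs' hsdvd with rfl | rfl
  · obtain ⟨g, hg⟩ := key q hq (Ne.symm hpq) h2
    exact ⟨g, by rw [hg]⟩
  · obtain ⟨g, hg⟩ := key p hp hpq h1
    exact ⟨g, by rw [hg, mul_comm]⟩

theorem exists_mixed_of_E2 {X : Type*} [Group X] [Finite X] (hs : Group.IsSolvable X) {p q : ℕ}
    (hp : p.Prime) (hq : q.Prime) (hpq : p ≠ q) (h1 : E2 p (⊤ : Subgroup X))
    (h2 : E2 q (⊤ : Subgroup X)) : ∃ g : X, p * q ∣ orderOf g := by
  obtain ⟨H, hH, hHi⟩ := PG.exists_hall (X := X) ({p, q} : Set ℕ)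
  have hpi : ¬ p ∣ H.index := fun h => hHi p hp h (by simp)
  have hqi : ¬ q ∣ H.index := fun h => hHi q hq h (by simp)
  have e1 : E2 p (⊤ : Subgroup H) := (E2_top_subtype_iff H).2 (E2.of_not_dvd_index hp hpi h1)
  have e2 : E2 q (⊤ : Subgroup H) := (E2_top_subtype_iff H).2 (E2.of_not_dvd_index hq hqi h2)
  have hsH : Group.IsSolvable H := inferInstance
  obtain ⟨g, hg⟩ := h2_r4_mixed_aux hsH hp hq hpq (fun s hs' hsd => by
    have := hH s hs' hsd
    simpa using this) e1 e2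
  exact ⟨(g : X), by rwa [Subgroup.orderOf_coe]⟩

end Cfsg.Agent.Lib.Helper2.R4
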