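import Cfsg.Agent.Lib.Helper7.R4C1a
import Cfsg.Agent.Lib.Helper7.R4C1b
import Cfsg.Agent.Lib.Helper1.GlaubermanRepl3

/-! S3814 farm pieces C3a, C3b: the `{v,w}`-group `L` in Case I; (F12). -/

set_option autoImplicit false
set_option linter.style.haveILetI false

namespace Cfsg.Agent.Lib.Helper2.R4

open scoped Pointwise

variable {G : Type*} [Group G]

/-- a `u`-subgroup meets a subgroup of order prime to `u` trivially -/
theorem h2_r4_inf_eq_bot_of_coprime [Finite G] {u : ℕ} (hu : u.Prime) {Q M : Subgroup G}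
    (hQ : IsPGroup u Q) (hM : (Nat.card M).Coprime u) : Q ⊓ M = ⊥ := by
  haveI : Fact u.Prime := ⟨hu⟩
  have h1 : IsPGroup u (Q ⊓ M : Subgroup G) := hQ.to_le inf_le_left
  obtain ⟨n, hn⟩ := IsPGroup.iff_card.1 h1
  have h2 : Nat.card (Q ⊓ M : Subgroup G) ∣ Nat.card M := Subgroup.card_dvd_of_le inf_le_right
  rw [hn] at h2
  have h3 : (u ^ n).Coprime u := Nat.Coprime.coprime_dvd_left h2 hM
  have hn0 : n = 0 := by
    by_contra hne
    have : u ∣ u ^ n := dvd_pow_self u hne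
    have h4 := Nat.Coprime.eq_one_of_dvd h3.symm this
    exact hu.one_lt.ne' h4
  rw [hn0, pow_zero] at hn
  exact Subgroup.card_eq_one.1 hn

theorem h2_r4_card_sup_of_coprime [Finite G] {u : ℕ} (hu : u.Prime) {Q M : Subgroup G}
    (hQ : IsPGroup u Q) (hM : (Nat.card M).Coprime u)
    (hMQ : M ≤ Subgroup.normalizer (Q : Set G)) :
    Nat.card (Q ⊔ M : Subgroup G) = Nat.card Q * Nat.card M := by
  have := Cfsg.Agent.Lib.Helper1.GlaubermanRepl.card_sup_mul_card_inf_of_le_normalizer M Q hMQ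
  rw [inf_comm, h2_r4_inf_eq_bot_of_coprime hu hQ hM, Subgroup.card_bot, mul_one, sup_comm,
    mul_comm] at this
  exact this

theorem CaseIb.card_mul [Finite G] {σ : Finset ℕ} {a u : ℕ} {V H Q L : Subgroup G}
    (h : CaseIb σ a u V H Q L) : Nat.card Q * Nat.card L = Nat.card H := by
  have hu := h.c1.mc.prime u h.hu
  rw [← h2_r4_card_sup_of_coprime hu h.Qu h.Lcop (h.LH.trans h.HQ), h.sup]

theorem CaseIb.prime_mem [Finite G] {σ : Finset ℕ} {a u : ℕ} {V H Q L : Subgroup G}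
    (h : CaseIb σ a u V H Q L) {p : ℕ} (hp : p.Prime) (hpL : p ∣ Nat.card L) :
    p ∈ σ ∧ p ≠ a ∧ p ≠ u := by
  have h1 := h.c1.prime_mem hp (hpL.trans (Subgroup.card_dvd_of_le h.LH))
  refine ⟨h1.1, h1.2, ?_⟩
  rintro rfl
  have := Nat.Coprime.eq_one_of_dvd h.Lcop.symm hpL
  exact hp.one_lt.ne' this

theorem CaseIb.relIndex_eq [Finite G] {σ : Finset ℕ} {a u : ℕ} {V H Q L : Subgroup G}
    (h : CaseIb σ a u V H Q L) : L.relIndex H = Nat.card Q := by
  have h1 := Subgroup.card_mul_index (L.subgroupOf H)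
  rw [Cfsg.Agent.Lib.Helper1.card_subgroupOf_of_le h.LH] at h1
  have h2 := h.card_mul
  have hL : 0 < Nat.card L := Nat.card_pos
  rw [← h2, mul_comm (Nat.card Q)] at h1
  exact Nat.eq_of_mul_eq_mul_left hL h1

theorem CaseIb.E2L [Finite G] {σ : Finset ℕ} {a u : ℕ} {V H Q L : Subgroup G}
    (h : CaseIb σ a u V H Q L) {p : ℕ} (hp : p ∈ σ) (hpa : p ≠ a) (hpu : p ≠ u) : E2 p L := by
  have hpp := h.c1.mc.prime p hp
  have hu := h.c1.mc.prime u h.hu
  haveI : Fact u.Prime := ⟨hu⟩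
  apply E2.of_not_dvd_relIndex hpp h.LH _ (h.c1.E2H hp hpa)
  rw [h.relIndex_eq]
  obtain ⟨n, hn⟩ := IsPGroup.iff_card.1 h.Qu
  rw [hn]
  intro hd
  exact hpu ((Nat.prime_dvd_prime_iff_eq hpp hu).1 (hpp.dvd_of_dvd_pow hd))

theorem CaseIb.gen [Finite G] {σ : Finset ℕ} {a u : ℕ} {V H Q L : Subgroup G}
    (h : CaseIb σ a u V H Q L) {M : Subgroup G} (hM : M ≤ L)
    (hE : ∀ p ∈ σ, p ≠ a → p ≠ u → E2 p M) : M = L := by
  have hu := h.c1.mc.prime u h.hu
  have hK : Q ⊔ M ≤ H := sup_le h.QH (hM.trans h.LH)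
  have hgen : Q ⊔ M = H := by
    apply h.c1.gen hK
    intro p hp hpa
    by_cases hpu : p = u
    · rw [hpu]; exact h.QE2.mono le_sup_left
    · exact (hE p hp hpa hpu).mono le_sup_right
  have hMcop : (Nat.card M).Coprime u :=
    Nat.Coprime.coprime_dvd_left (Subgroup.card_dvd_of_le hM) h.Lcop
  have h1 := h2_r4_card_sup_of_coprime hu h.Qu hMcop ((hM.trans h.LH).trans h.HQ)
  rw [hgen, ← h.card_mul] at h1
  have hQ : 0 < Nat.card Q := Nat.card_pos
  have h2 : Nat.card L = Nat.card M := Nat.eq_of_mul_eq_mul_left hQ h1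
  exact Subgroup.eq_of_le_of_card_ge hM (by rw [h2])

/-- `B` centralizing `z` and normalizing `Q` normalizes `Q ⊓ centralizer {z}` -/
theorem h2_r4_le_normalizer_inf_centralizer {Q B : Subgroup G} {z : G}
    (hBQ : B ≤ Subgroup.normalizer (Q : Set G)) (hBz : ∀ b ∈ B, b * z = z * b) :
    B ≤ Subgroup.normalizer ((Q ⊓ Subgroup.centralizer {z} : Subgroup G) : Set G) := by
  have hfwd : ∀ b ∈ B, ∀ c ∈ Q ⊓ Subgroup.centralizer {z}, b * c * b⁻¹ ∈ Q ⊓ Subgroup.centralizer {z} := by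
    intro b hb c hc
    rw [Subgroup.mem_inf, Subgroup.mem_centralizer_iff] at hc ⊢
    refine ⟨(Subgroup.mem_normalizer_iff.1 (hBQ hb) c).1 hc.1, ?_⟩
    intro y hy
    rw [Set.mem_singleton_iff] at hy
    subst hy
    have h1 := hc.2 y rfl
    have h2 := hBz b hb
    calc y * (b * c * b⁻¹) = b * (b⁻¹ * (y * b)) * c * b⁻¹ := by group
      _ = b * (b⁻¹ * (b * y)) * c * b⁻¹ := by rw [h2]
      _ = b * (y * c) * b⁻¹ := by group
      _ = b * (c * y) * b⁻¹ := by rw [h1]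
      _ = b * c * (b⁻¹ * (b * y)) * b⁻¹ := by group
      _ = b * c * (b⁻¹ * (y * b)) * b⁻¹ := by rw [h2]
      _ = b * c * b⁻¹ * y := by group
  intro b hb
  rw [Subgroup.mem_normalizer_iff]
  intro c
  constructor
  · exact hfwd b hb c
  · intro hc
    have := hfwd b⁻¹ (Subgroup.inv_mem _ hb) _ hc
    have e : b⁻¹ * (b * c * b⁻¹) * b⁻¹⁻¹ = c := by group
    rwa [e] at this

/-- (F12) -/
theorem CaseIb.F12 [Finite G] {σ : Finset ℕ} {a u : ℕ} {V H Q L : Subgroup G}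
    (h : CaseIb σ a u V H Q L) {p q : ℕ} (hp : p ∈ σ) (hq : q ∈ σ) (hpa : p ≠ a) (hpu : p ≠ u)
    (hqa : q ≠ a) (hqu : q ≠ u) (hpq : p ≠ q) {z : G} (hzL : z ∈ L) (hz : orderOf z = p)
    {B : Subgroup G} (hBL : B ≤ L) (hB : IsSq q B) (hBz : ∀ b ∈ B, b * z = z * b) : False := by
  have mc := h.c1.mc
  haveI := h.c1.Vn
  have hnV : ∀ K : Subgroup G, K ≤ Subgroup.normalizer (V : Set G) := by
    intro K
    rw [Subgroup.normalizer_eq_top]; exact le_top
  have hzV : Fpf z V := mc.fpf_of_centralizes_sq h.c1.ha hp hq (Ne.symm hpa) (Ne.symm hqa) hpq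
    h.c1.Va hz (hnV ⊤ (Subgroup.mem_top z)) hB (hnV B) hBz
  have hzH : z ∈ H := h.LH hzL
  have hQ1 : Q ≠ ⊥ := by
    obtain ⟨A, hA, hsq⟩ := h.QE2
    intro hb
    rw [hb] at hA
    exact hsq.ne_bot (mc.prime u h.hu) (le_bot_iff.1 hA)
  by_cases hfQ : Fpf z Q
  · exact h.c1.not_fpf_of_fpf hzH (by rw [hz]; exact mc.prime p hp) h.QH hQ1 (h.HQ hzH) hfQ hzV
  · set C : Subgroup G := Q ⊓ Subgroup.centralizer {z} with hC
    have hC1 : C ≠ ⊥ := by
      rw [hC]; intro hb; exact hfQ ((fpf_iff_inf z Q).2 hb)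
    have hCu : IsPGroup u C := h.Qu.to_le inf_le_left
    have hBC : B ≤ Subgroup.normalizer (C : Set G) :=
      h2_r4_le_normalizer_inf_centralizer ((hBL.trans h.LH).trans h.HQ) hBz
    obtain ⟨b₀, hb₀, hb₀o, c₀, hc₀, hc₀o, hcomm⟩ :=
      exists_commute_of_sq' (mc.prime q hq) (mc.prime u h.hu) hB hC1 hCu hBC
    have hc₀z : c₀ * z = z * c₀ := by
      rw [hC, Subgroup.mem_inf, Subgroup.mem_centralizer_iff] at hc₀
      exact (hc₀.2 z rfl).symm
    exact mc.no_commute3 h.hu hp hq (Ne.symm hpu) (Ne.symm hqu) hpq hc₀o hz hb₀o hc₀z hcomm.symm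
      (hBz b₀ hb₀).symm

end Cfsg.Agent.Lib.Helper2.R4
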