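import Cfsg.Agent.Lib.Helper2.R4C3a

/-! S3814 farm piece C3c: `caseA_structure`. -/

set_option autoImplicit false
set_option linter.style.haveILetI false

namespace Cfsg.Agent.Lib.Helper2.R4

open scoped Pointwise

variable {G : Type*} [Group G]

/-- a nonidentity element of a `q`-group has a power of order `q` -/
theorem h2_r4_exists_pow_orderOf [Finite G] {q : ℕ} (hq : q.Prime) {S : Subgroup G}
    (hS : IsPGroup q S) {s : G} (hs : s ∈ S) (hs1 : s ≠ 1) :
    ∃ k : ℕ, orderOf (s ^ k) = q := by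
  obtain ⟨k, hk⟩ := hS ⟨s, hs⟩
  have hk' : s ^ q ^ k = 1 := by
    have := congrArg Subtype.val hk
    simpa using this
  have hdvd : orderOf s ∣ q ^ k := orderOf_dvd_of_pow_eq_one hk'
  obtain ⟨m, hm, hmo⟩ := (Nat.dvd_prime_pow hq).1 hdvd
  have hm0 : m ≠ 0 := by
    rintro rfl
    rw [pow_zero] at hmo
    exact hs1 (orderOf_eq_one_iff.1 hmo)
  obtain ⟨m', rfl⟩ := Nat.exists_eq_succ_of_ne_zero hm0
  refine ⟨q ^ m', ?_⟩
  rw [orderOf_pow_of_dvd (pow_ne_zero _ hq.ne_zero) (by rw [hmo]; exact pow_dvd_pow q (Nat.le_succ m')),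
    hmo, pow_succ]
  exact Nat.mul_div_cancel_left q (pow_pos hq.pos m')

theorem CaseIb.caseA_structure [Finite G] {σ : Finset ℕ} {a u : ℕ} {V H Q L : Subgroup G}
    (h : CaseIb σ a u V H Q L) {q r : ℕ} (hq : q ∈ σ) (hr : r ∈ σ) (hqa : q ≠ a) (hqu : q ≠ u)
    (hra : r ≠ a) (hru : r ≠ u) (hqr : q ≠ r) {S : Subgroup G} (hSL : S ≤ L)
    (hLS : L ≤ Subgroup.normalizer (S : Set G)) (hS : IsPGroup q S) (hSE : E2 q S)
    {E : Subgroup G} (hEL : E ≤ L) (hE : IsSq r E) :
    (∀ e ∈ E, e ≠ 1 → ∃ s ∈ S, e * s ≠ s * e) ∧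
    (∀ s ∈ S, (∀ e ∈ E, e * s = s * e) → s = 1) ∧
    (∀ Y : Subgroup G, Y ≤ S → E ≤ Subgroup.normalizer (Y : Set G) → E2 q Y → Y = S) := by
  have mc := h.c1.mc
  have hqp := mc.prime q hq
  have hrp := mc.prime r hr
  refine ⟨?_, ?_, ?_⟩
  · intro e he he1
    by_contra hcon
    push Not at hcon
    obtain ⟨B, hBS, hB⟩ := hSE
    exact h.F12 hr hq hra hru hqa hqu (Ne.symm hqr) (hEL he) (hE.orderOf_eq hrp he he1)
      (hBS.trans hSL) hB (fun b hb => (hcon b (hBS hb)).symm)
  · intro s hs hcomm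
    by_contra hs1
    obtain ⟨k, hk⟩ := h2_r4_exists_pow_orderOf hqp hS hs hs1
    refine h.F12 hq hr hqa hqu hra hru hqr (hSL (Subgroup.pow_mem _ hs k)) hk hEL hE ?_
    intro e he
    have hc : Commute e s := hcomm e he
    exact (hc.pow_right k).eq
  · intro Y hYS hEY hYE
    -- Y ⊔ E = L by generation
    have hgen : Y ⊔ E = L := by
      apply h.gen (sup_le (hYS.trans hSL) hEL)
      intro p hp hpa hpu
      obtain ⟨c, hc, d, hd, hcd, hca, hcu, hda, hdu, hall⟩ := mc.exists_two_others h.c1.ha h.hu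
        (Ne.symm h.hua)
      have hp' : p = q ∨ p = r := by
        have hq' := hall q hq
        have hr' := hall r hr
        have hpp := hall p hp
        rcases hpp with h1 | h1 | h1 | h1
        · exact absurd h1 hpa
        · exact absurd h1 hpu
        · rcases hq' with h2 | h2 | h2 | h2
          · exact absurd h2 hqa
          · exact absurd h2 hqu
          · left; rw [h1, h2]
          · rcases hr' with h3 | h3 | h3 | h3
            · exact absurd h3 hra
            · exact absurd h3 hru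
            · right; rw [h1, h3]
            · exact absurd (h2.trans h3.symm) hqr
        · rcases hq' with h2 | h2 | h2 | h2
          · exact absurd h2 hqa
          · exact absurd h2 hqu
          · rcases hr' with h3 | h3 | h3 | h3
            · exact absurd h3 hra
            · exact absurd h3 hru
            · exact absurd (h2.trans h3.symm) hqr
            · right; rw [h1, h3]
          · left; rw [h1, h2]
      rcases hp' with rfl | rfl
      · exact hYE.mono le_sup_left
      · exact ⟨E, le_sup_right, hE⟩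
    -- compare orders
    have hEcop : (Nat.card E).Coprime q := by
      rw [hE.1]
      exact Nat.Coprime.pow_left 2 ((Nat.coprime_primes hrp hqp).2 (Ne.symm hqr))
    have h1 := h2_r4_card_sup_of_coprime hqp (hS.to_le hYS) hEcop hEY
    have h2 := h2_r4_card_sup_of_coprime hqp hS hEcop (hEL.trans hLS)
    have h3 : Nat.card (S ⊔ E : Subgroup G) ≤ Nat.card (Y ⊔ E : Subgroup G) := by
      rw [hgen]
      exact Nat.le_of_dvd Nat.card_pos (Subgroup.card_dvd_of_le (sup_le hSL hEL))
    rw [h1, h2] at h3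
    have hEpos : 0 < Nat.card E := Nat.card_pos
    have h4 : Nat.card S ≤ Nat.card Y := Nat.le_of_mul_le_mul_right h3 hEpos
    exact Subgroup.eq_of_le_of_card_ge hYS h4

end Cfsg.Agent.Lib.Helper2.R4
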