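import Cfsg.Agent.Lib.Helper2.R4C3c
import Cfsg.Agent.Lib.Helper2.R4A3
import Cfsg.Agent.Lib.Helper2.R4A9
import Cfsg.Agent.Lib.Helper1.R4A7

/-! S3814 farm piece C3e: `caseA_half`. -/

set_option autoImplicit false
set_option linter.style.haveILetI false

namespace Cfsg.Agent.Lib.Helper2.R4

open scoped Pointwise

variable {G : Type*} [Group G]

theorem h2_r4_mem_normalizer_zpowers {t x : G} (ht : t * x * t⁻¹ ∈ Subgroup.zpowers x)
    (ht' : t⁻¹ * x * t ∈ Subgroup.zpowers x) :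
    t ∈ Subgroup.normalizer ((Subgroup.zpowers x : Subgroup G) : Set G) := by
  rw [Subgroup.mem_normalizer_iff]
  intro g
  constructor
  · intro hg
    obtain ⟨k, rfl⟩ := Subgroup.mem_zpowers_iff.1 hg
    have : t * x ^ k * t⁻¹ = (t * x * t⁻¹) ^ k := by rw [conj_zpow]
    rw [this]
    exact Subgroup.zpow_mem _ ht k
  · intro hg
    obtain ⟨k, hk⟩ := Subgroup.mem_zpowers_iff.1 hg
    have : g = (t⁻¹ * x * t) ^ k := by
      have e : (t⁻¹ * x * t) ^ k = t⁻¹ * x ^ k * t := by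
        have := conj_zpow (a := t⁻¹) (b := x) (i := k)
        rw [inv_inv] at this
        exact this
      rw [e, hk]; group
    rw [this]
    exact Subgroup.zpow_mem _ ht' k

/-- an element normalizing a `u`-group `C` without `E2` normalizes its subgroup of order `u` -/
theorem h2_r4_normalizes_unique [Finite G] {u : ℕ} (hu : u.Prime) {C : Subgroup G}
    (hC : IsPGroup u C) (hE : ¬ E2 u C) {x : G} (hx : x ∈ C) (hxo : orderOf x = u) {t : G}
    (ht : t ∈ Subgroup.normalizer (C : Set G)) :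
    t ∈ Subgroup.normalizer ((Subgroup.zpowers x : Subgroup G) : Set G) := by
  have key : ∀ s ∈ Subgroup.normalizer (C : Set G), s * x * s⁻¹ ∈ Subgroup.zpowers x := by
    intro s hs
    have h1 : s * x * s⁻¹ ∈ C := (Subgroup.mem_normalizer_iff.1 hs x).1 hx
    have h2 : orderOf (s * x * s⁻¹) = u := by
      have := (MulAut.conj s).orderOf_eq x
      rw [MulAut.conj_apply] at this
      rw [this]; exact hxo
    rw [← zpowers_eq_of_not_E2 hu hC hE h1 hx h2 hxo]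
    exact Subgroup.mem_zpowers _
  apply h2_r4_mem_normalizer_zpowers (key t ht)
  have := key t⁻¹ (Subgroup.inv_mem _ ht)
  rwa [inv_inv] at this

theorem CaseIb.caseA_half [Finite G] {σ : Finset ℕ} {a u : ℕ} {V H Q L : Subgroup G}
    (h : CaseIb σ a u V H Q L) {q r : ℕ} (hq : q ∈ σ) (hr : r ∈ σ) (hqa : q ≠ a) (hqu : q ≠ u)
    (hra : r ≠ a) (hru : r ≠ u) (hqr : q ≠ r) {y₁ y₂ z₁ z₂ : G} (hy₁ : y₁ ∈ L) (hy₂ : y₂ ∈ L)
    (hz₁ : z₁ ∈ L) (hz₂ : z₂ ∈ L) (hoy₁ : orderOf y₁ = q) (hoy₂ : orderOf y₂ = q)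
    (hoz₁ : orderOf z₁ = r) (hoz₂ : orderOf z₂ = r) (hzz : z₁ * z₂ = z₂ * z₁)
    (hz₁y₂ : z₁ * y₂ = y₂ * z₁) (hz₁y₁ : z₁ * y₁ ≠ y₁ * z₁) (hz₂y₂ : z₂ * y₂ ≠ y₂ * z₂)
    (hn₁ : z₁ ∈ Subgroup.normalizer ((Subgroup.zpowers y₁ : Subgroup G) : Set G))
    (hn₂ : z₂ ∈ Subgroup.normalizer ((Subgroup.zpowers y₂ : Subgroup G) : Set G))
    (hQ : ∃ x ∈ Q, y₁ * x ≠ x * y₁) : False := by
  have mc := h.c1.mc
  have hqp := mc.prime q hq
  have hrp := mc.prime r hr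
  have hup := mc.prime u h.hu
  have hLQ : L ≤ Subgroup.normalizer (Q : Set G) := h.LH.trans h.HQ
  haveI := h.c1.Vn
  have hnV : ∀ K : Subgroup G, K ≤ Subgroup.normalizer (V : Set G) := by
    intro K
    rw [Subgroup.normalizer_eq_top]; exact le_top
  -- (0)
  have hfK : Fpf z₁ (Subgroup.zpowers y₁) :=
    fpf_zpowers_of_not_commute (by rw [hoy₁]; exact hqp) hz₁y₁
  have hK1 : Subgroup.zpowers y₁ ≠ ⊥ := by
    intro hb
    have : y₁ ∈ (⊥ : Subgroup G) := hb ▸ Subgroup.mem_zpowers y₁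
    rw [Subgroup.mem_bot] at this
    rw [this, orderOf_one] at hoy₁
    exact hqp.one_lt.ne hoy₁
  have hKL : Subgroup.zpowers y₁ ≤ L := by rwa [Subgroup.zpowers_le]
  -- (i)
  have hnfQ : ¬ Fpf z₁ Q := by
    intro hfQ
    obtain ⟨x, hx, hne⟩ := hQ
    apply hne
    refine frob_centralizes_pgroup hup (by rw [hoz₁]; exact hrp) hn₁ hfK h.Qu (hKL.trans hLQ)
      (hLQ hz₁) ?_ hfQ y₁ (Subgroup.mem_zpowers y₁) x hx
    rw [Nat.card_zpowers, hoy₁]
    exact (Nat.coprime_primes hqp hup).2 hqu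
  -- (ii)
  have hnfV : ¬ Fpf z₁ V :=
    h.c1.not_fpf_of_fpf (h.LH hz₁) (by rw [hoz₁]; exact hrp) (hKL.trans h.LH) hK1 hn₁ hfK
  -- (iii)
  set C : Subgroup G := Q ⊓ Subgroup.centralizer {z₁} with hC
  have hC1 : C ≠ ⊥ := by
    rw [hC]; intro hb; exact hnfQ ((fpf_iff_inf z₁ Q).2 hb)
  have hCu : IsPGroup u C := h.Qu.to_le inf_le_left
  have hCE : ¬ E2 u C := by
    rintro ⟨B, hBC, hB⟩
    apply hnfV
    refine mc.fpf_of_centralizes_sq h.c1.ha hr h.hu (Ne.symm hra) (Ne.symm h.hua) hru h.c1.Va hoz₁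
      (hnV ⊤ (Subgroup.mem_top z₁)) hB (hnV B) ?_
    intro b hb
    have := hBC hb
    rw [hC, Subgroup.mem_inf, Subgroup.mem_centralizer_iff] at this
    exact (this.2 z₁ rfl).symm
  -- (iv)
  obtain ⟨c, hc, hc1⟩ : ∃ c ∈ C, c ≠ 1 := by
    by_contra hcon
    push Not at hcon
    apply hC1
    rw [eq_bot_iff]
    intro v hv
    rw [Subgroup.mem_bot]
    exact hcon v hv
  obtain ⟨k, hk⟩ := h2_r4_exists_pow_orderOf hup hCu hc hc1
  set x : G := c ^ k with hx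
  have hxC : x ∈ C := Subgroup.pow_mem _ hc k
  have hy₂C : y₂ ∈ Subgroup.normalizer (C : Set G) := by
    have := h2_r4_le_normalizer_inf_centralizer (Q := Q) (B := Subgroup.zpowers y₂) (z := z₁)
      (by rw [Subgroup.zpowers_le]; exact hLQ hy₂)
      (by
        intro b hb
        obtain ⟨m, rfl⟩ := Subgroup.mem_zpowers_iff.1 hb
        have hc : Commute y₂ z₁ := hz₁y₂.symm
        exact (hc.zpow_left m).eq)
    exact this (Subgroup.mem_zpowers y₂)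
  have hz₂C : z₂ ∈ Subgroup.normalizer (C : Set G) := by
    have := h2_r4_le_normalizer_inf_centralizer (Q := Q) (B := Subgroup.zpowers z₂) (z := z₁)
      (by rw [Subgroup.zpowers_le]; exact hLQ hz₂)
      (by
        intro b hb
        obtain ⟨m, rfl⟩ := Subgroup.mem_zpowers_iff.1 hb
        have hc : Commute z₂ z₁ := hzz.symm
        exact (hc.zpow_left m).eq)
    exact this (Subgroup.mem_zpowers z₂)
  have hy₂x := h2_r4_normalizes_unique hup hCu hCE hxC hk hy₂C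
  have hz₂x := h2_r4_normalizes_unique hup hCu hCE hxC hk hz₂C
  -- (v)
  have hκ := commutator_centralizes_zpowers hy₂x hz₂x
  have hκmem : y₂ * z₂ * y₂⁻¹ * z₂⁻¹ ∈ Subgroup.zpowers y₂ := by
    have h1 : z₂ * y₂⁻¹ * z₂⁻¹ ∈ Subgroup.zpowers y₂ :=
      (Subgroup.mem_normalizer_iff.1 hn₂ y₂⁻¹).1 (Subgroup.inv_mem _ (Subgroup.mem_zpowers y₂))
    have : y₂ * z₂ * y₂⁻¹ * z₂⁻¹ = y₂ * (z₂ * y₂⁻¹ * z₂⁻¹) := by group
    rw [this]
    exact Subgroup.mul_mem _ (Subgroup.mem_zpowers y₂) h1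
  have hκ1 : y₂ * z₂ * y₂⁻¹ * z₂⁻¹ ≠ 1 := by
    intro h1
    apply hz₂y₂
    have : y₂ * z₂ = (y₂ * z₂ * y₂⁻¹ * z₂⁻¹) * (z₂ * y₂) := by group
    rw [this, h1, one_mul]
  have hxy₂ : x * y₂ = y₂ * x := by
    by_contra hne
    have hf := fpf_zpowers_of_not_commute (e := x) (z := y₂) (by rw [hoy₂]; exact hqp) hne
    exact hκ1 (hf _ hκmem hκ)
  -- (vi)
  have hxz₁ : x * z₁ = z₁ * x := by
    have := hxC
    rw [hC, Subgroup.mem_inf, Subgroup.mem_centralizer_iff] at this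
    exact (this.2 z₁ rfl).symm
  exact mc.no_commute3 h.hu hq hr (Ne.symm hqu) (Ne.symm hru) hqr hk hoy₂ hoz₁ hxy₂ hxz₁ hz₁y₂.symm

end Cfsg.Agent.Lib.Helper2.R4
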