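import Cfsg.Agent.Lib.Helper2.R4C3e
import Cfsg.Agent.Lib.Helper5.R4C3d

/-! S3814 farm piece C3f: `caseA_false`. -/

set_option autoImplicit false
set_option linter.style.haveILetI false

namespace Cfsg.Agent.Lib.Helper2.R4

open scoped Pointwise

variable {G : Type*} [Group G]

theorem CaseIb.caseA_false [Finite G] {σ : Finset ℕ} {a u : ℕ} {V H Q L : Subgroup G}
    (h : CaseIb σ a u V H Q L) {q r : ℕ} (hq : q ∈ σ) (hr : r ∈ σ) (hqa : q ≠ a) (hqu : q ≠ u)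
    (hra : r ≠ a) (hru : r ≠ u) (hqr : q ≠ r) {S : Subgroup G} (hSL : S ≤ L)
    (hLS : L ≤ Subgroup.normalizer (S : Set G)) (hS : IsPGroup q S) (hSE : E2 q S) : False := by
  have mc := h.c1.mc
  have hqp := mc.prime q hq
  have hrp := mc.prime r hr
  have hup := mc.prime u h.hu
  haveI := h.c1.Vn
  have hnV : ∀ K : Subgroup G, K ≤ Subgroup.normalizer (V : Set G) := by
    intro K
    rw [Subgroup.normalizer_eq_top]; exact le_top
  obtain ⟨E, hEL, hE⟩ := h.E2L hr hra hru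
  obtain ⟨h1, h2, h3⟩ := h.caseA_structure hq hr hqa hqu hra hru hqr hSL hLS hS hSE hEL hE
  obtain ⟨y₁, hy₁, y₂, hy₂, z₁, hz₁, z₂, hz₂, hoy₁, hoy₂, hoz₁, hoz₂, hyy, hzz, hz₁y₂, hz₂y₁,
    hz₁y₁, hz₂y₂, hn₁, hn₂⟩ :=
    sq_on_pgroup_structure hqp hrp hqr hS hSE hE (hEL.trans hLS) h1 h2 h3
  by_cases hc1 : ∃ x ∈ Q, y₁ * x ≠ x * y₁
  · exact h.caseA_half hq hr hqa hqu hra hru hqr (hSL hy₁) (hSL hy₂) (hEL hz₁) (hEL hz₂) hoy₁ hoy₂
      hoz₁ hoz₂ hzz hz₁y₂ hz₁y₁ hz₂y₂ hn₁ hn₂ hc1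
  · by_cases hc2 : ∃ x ∈ Q, y₂ * x ≠ x * y₂
    · exact h.caseA_half hq hr hqa hqu hra hru hqr (hSL hy₂) (hSL hy₁) (hEL hz₂) (hEL hz₁) hoy₂
        hoy₁ hoz₂ hoz₁ hzz.symm hz₂y₁ hz₂y₂ hz₁y₁ hn₂ hn₁ hc2
    · push Not at hc1 hc2
      -- both centralize Q: commuting squares
      have hne : y₂ ∉ Subgroup.zpowers y₁ := by
        intro hmem
        -- then z₂ centralizes y₂ (as it centralizes y₁)
        obtain ⟨k, hk⟩ := Subgroup.mem_zpowers_iff.1 hmem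
        apply hz₂y₂
        rw [← hk]
        have hc : Commute z₂ y₁ := hz₂y₁
        exact (hc.zpow_right k).eq
      have hA : IsSq q (Subgroup.closure {y₁, y₂}) := isSq_closure_pair hqp hoy₁ hoy₂ hyy hne
      obtain ⟨B, hBQ, hB⟩ := h.QE2
      refine mc.no_commuting_squares h.c1.ha hq h.hu (Ne.symm hqa) (Ne.symm h.hua) hqu h.c1.Va
        h.c1.Vne hA hB (hnV _) (hnV _) ?_
      intro x hx b hb
      obtain ⟨i, j, rfl⟩ := (mem_closure_pair_iff hyy x).1 hx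
      have c1 : Commute y₁ b := hc1 b (hBQ hb)
      have c2 : Commute y₂ b := hc2 b (hBQ hb)
      exact ((c1.zpow_left i).mul_left (c2.zpow_left j)).eq

end Cfsg.Agent.Lib.Helper2.R4
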