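import Mathlib
import Cfsg.Prelude.Def_Solvable

/-! S3814 (four primes, pairwise products are element orders, no triple product => not solvable):
shared definitions for the farm.  See `tools/helper2/S3814_plan.md`. -/

set_option autoImplicit false

namespace Cfsg.Agent.Lib.Helper2.R4

variable {G : Type*} [Group G]

/-- `A` is elementary abelian of order `p ^ 2` (a group of order `p^2` is automatically abelian). -/
def IsSq (p : ℕ) (A : Subgroup G) : Prop :=
  Nat.card A = p ^ 2 ∧ ∀ a ∈ A, a ^ p = 1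

/-- `K` contains an elementary abelian subgroup of order `p ^ 2`. -/
def E2 (p : ℕ) (K : Subgroup G) : Prop :=
  ∃ A : Subgroup G, A ≤ K ∧ IsSq p A

/-- the order of `g` is divisible by three distinct members of `σ`. -/
def Tri (σ : Finset ℕ) (g : G) : Prop :=
  ∃ p ∈ σ, ∃ q ∈ σ, ∃ r ∈ σ, p ≠ q ∧ p ≠ r ∧ q ≠ r ∧ p * q * r ∣ orderOf g

/-- `y` acts fixed-point-freely on `X` (by conjugation): no nonidentity element of `X` commutes
with `y`. -/
def Fpf (y : G) (X : Subgroup G) : Prop :=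
  ∀ x ∈ X, x * y = y * x → x = 1

/-- `P` is the largest normal `p`-subgroup `O_p(L)` of the subgroup `L`. -/
def IsCoreIn (p : ℕ) (P L : Subgroup G) : Prop :=
  P ≤ L ∧ L ≤ Subgroup.normalizer (P : Set G) ∧ IsPGroup p P ∧
    ∀ P' : Subgroup G, P' ≤ L → L ≤ Subgroup.normalizer (P' : Set G) → IsPGroup p P' → P' ≤ P

/-- A minimal counterexample to Theorem R: a finite solvable group with an `E_{p^2}` for each of the
four primes `p ∈ σ`, no element of order divisible by three primes of `σ`, and no proper subgroup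
with the same rank property. -/
structure MinCex (σ : Finset ℕ) (G : Type*) [Group G] : Prop where
  fin : Finite G
  solv : Group.IsSolvable G
  card4 : σ.card = 4
  prime : ∀ p ∈ σ, p.Prime
  rank : ∀ p ∈ σ, E2 p (⊤ : Subgroup G)
  notri : ∀ g : G, ¬ Tri σ g
  min : ∀ K : Subgroup G, K ≠ ⊤ → ∃ p ∈ σ, ¬ E2 p K

/-- Case I: a normal abelian Sylow `a`-subgroup `V` with a complement `H` acting faithfully. -/
structure CaseI (σ : Finset ℕ) (a : ℕ) (V H : Subgroup G) : Prop where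
  mc : MinCex σ G
  ha : a ∈ σ
  Vn : V.Normal
  Va : IsPGroup a V
  Vab : ∀ v ∈ V, ∀ w ∈ V, v * w = w * v
  Vne : V ≠ ⊥
  Hcop : (Nat.card H).Coprime a
  sup : V ⊔ H = ⊤
  faith : ∀ h ∈ H, (∀ v ∈ V, h * v = v * h) → h = 1

/-- Case I, second stage: `H = Q ⋊ L` with `Q` a normal Sylow `u`-subgroup of `H` containing an
`E_{u^2}` and `L` a `u'`-complement. -/
structure CaseIb (σ : Finset ℕ) (a u : ℕ) (V H Q L : Subgroup G) : Prop where
  c1 : CaseI σ a V H
  hu : u ∈ σ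
  hua : u ≠ a
  QH : Q ≤ H
  LH : L ≤ H
  HQ : H ≤ Subgroup.normalizer (Q : Set G)
  Qu : IsPGroup u Q
  QE2 : E2 u Q
  Lcop : (Nat.card L).Coprime u
  sup : Q ⊔ L = H

/-- Case II: two minimal normal subgroups `V` (Sylow `a`) and `V'` (Sylow `b`), both abelian, with a
Hall `{a,b}'`-subgroup `L` acting faithfully on `V × V'`. -/
structure CaseII (σ : Finset ℕ) (a b : ℕ) (V V' L : Subgroup G) : Prop where
  mc : MinCex σ G
  ha : a ∈ σ
  hb : b ∈ σ
  hab : a ≠ b
  Vn : V.Normal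
  Vn' : V'.Normal
  Va : IsPGroup a V
  Vb : IsPGroup b V'
  Vab : ∀ v ∈ V, ∀ w ∈ V, v * w = w * v
  Vab' : ∀ v ∈ V', ∀ w ∈ V', v * w = w * v
  Vne : V ≠ ⊥
  Vne' : V' ≠ ⊥
  Vmin : ∀ N : Subgroup G, N.Normal → N ≤ V → N = ⊥ ∨ N = V
  Vmin' : ∀ N : Subgroup G, N.Normal → N ≤ V' → N = ⊥ ∨ N = V'
  Lcop : (Nat.card L).Coprime a
  Lcop' : (Nat.card L).Coprime b
  sup : V ⊔ V' ⊔ L = ⊤
  faith : ∀ h ∈ L, (∀ v ∈ V, h * v = v * h) → (∀ v ∈ V', h * v = v * h) → h = 1

end Cfsg.Agent.Lib.Helper2.R4
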