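import Cfsg.Agent.Lib.Helper4.R4B3d
import Cfsg.Agent.Lib.Helper9.R4C3h
import Cfsg.Agent.Lib.Helper8.R4D4c
import Cfsg.Agent.Lib.Helper2.R4A1

/-! S3814 farm piece E1: `MinCex.false`, Theorem R. -/

set_option autoImplicit false
set_option linter.style.haveILetI false

namespace Cfsg.Agent.Lib.Helper2.R4

open scoped Pointwise

theorem MinCex.false {G : Type*} [Group G] {σ : Finset ℕ} (h : MinCex σ G) : False := by
  haveI := h.fin
  rcases h.exists_case with ⟨a, V, H, hc⟩ | ⟨a, b, V, V', L, hc⟩
  · exact hc.false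
  · exact hc.false

theorem h2_r4_thmR_aux.{u} (σ : Finset ℕ) (hσ : σ.card = 4) (hp : ∀ p ∈ σ, p.Prime) :
    ∀ (n : ℕ) (G : Type u) [Group G] [Finite G], Nat.card G = n → Group.IsSolvable G →
      (∀ p ∈ σ, E2 p (⊤ : Subgroup G)) → ∃ g : G, Tri σ g := by
  intro n
  induction n using Nat.strong_induction_on with
  | _ n ih =>
    intro G _ _ hn hs hr
    by_contra hno
    push Not at hno
    by_cases hK : ∃ K : Subgroup G, K ≠ ⊤ ∧ ∀ p ∈ σ, E2 p K
    · obtain ⟨K, hKtop, hKE⟩ := hK
      have hlt : Nat.card K < n := by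
        rw [← hn]
        have hle : Nat.card K ≤ Nat.card G := Nat.le_of_dvd Nat.card_pos (Subgroup.card_subgroup_dvd_card K)
        rcases Nat.lt_or_ge (Nat.card K) (Nat.card G) with h | h
        · exact h
        · exact absurd (Subgroup.card_eq_iff_eq_top K |>.1 (le_antisymm hle h)) hKtop
      haveI : Group.IsSolvable K := inferInstance
      obtain ⟨g, p, hp', q, hq, r, hr', hpq, hpr, hqr, hd⟩ := ih (Nat.card K) hlt K rfl inferInstance
        (fun p hp' => (E2_top_subtype_iff K).2 (hKE p hp'))
      exact hno (g : G) ⟨p, hp', q, hq, r, hr', hpq, hpr, hqr, by rwa [Subgroup.orderOf_coe]⟩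
    · push Not at hK
      have hmc : MinCex σ G :=
        { fin := inferInstance
          solv := hs
          card4 := hσ
          prime := hp
          rank := hr
          notri := hno
          min := by
            intro K hKtop
            by_contra hcon
            push Not at hcon
            obtain ⟨p, hp', hE⟩ := hK K hKtop
            exact hE (hcon p hp') }
      exact hmc.false

/-- Theorem R -/
theorem thmR {G : Type*} [Group G] [Finite G] (hs : Group.IsSolvable G) (σ : Finset ℕ)
    (hσ : σ.card = 4) (hp : ∀ p ∈ σ, p.Prime) (hr : ∀ p ∈ σ, E2 p (⊤ : Subgroup G)) :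
    ∃ g : G, Tri σ g :=
  h2_r4_thmR_aux σ hσ hp (Nat.card G) G rfl hs hr

end Cfsg.Agent.Lib.Helper2.R4
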