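import Cfsg.Agent.Lib.Helper2.R4A3
import Cfsg.Agent.Lib.Helper2.R4A4
import Cfsg.Agent.Lib.Helper2.R4A8

/-! S3814 farm piece E2: `E2_of_hyp`. -/

set_option autoImplicit false
set_option linter.style.haveILetI false

namespace Cfsg.Agent.Lib.Helper2.R4

open scoped Pointwise

/-- (Rk) -/
theorem E2_of_hyp {G : Type*} [Group G] [Finite G] (hs : Group.IsSolvable G) (σ : Finset ℕ)
    (hσ : 4 ≤ σ.card) (hprime : ∀ p ∈ σ, p.Prime)
    (h2 : ∀ p ∈ σ, ∀ q ∈ σ, p ≠ q → ∃ g : G, orderOf g = p * q)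
    (h3 : ∀ p ∈ σ, ∀ q ∈ σ, ∀ r ∈ σ, p ≠ q → q ≠ r → p ≠ r → ∀ g : G, orderOf g ≠ p * q * r)
    {p : ℕ} (hp : p ∈ σ) : E2 p (⊤ : Subgroup G) := by
  by_contra hE
  have hpp := hprime p hp
  haveI : Fact p.Prime := ⟨hpp⟩
  -- three other primes
  have hcard : 2 < (σ.erase p).card := by
    rw [Finset.card_erase_of_mem hp]; omega
  obtain ⟨q₁, q₂, q₃, hq₁, hq₂, hq₃, h12, h13, h23⟩ := Finset.two_lt_card_iff.1 hcard
  rw [Finset.mem_erase] at hq₁ hq₂ hq₃
  -- an element of order p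
  obtain ⟨g₀, hg₀⟩ := h2 p hp q₁ hq₁.2 (Ne.symm hq₁.1)
  set x₀ : G := g₀ ^ q₁ with hx₀
  have hx₀o : orderOf x₀ = p := by
    rw [hx₀, orderOf_pow_of_dvd (hprime q₁ hq₁.2).ne_zero (by rw [hg₀]; exact dvd_mul_left _ _), hg₀]
    exact Nat.mul_div_cancel p (hprime q₁ hq₁.2).pos
  have hx₀p : IsPGroup p (Subgroup.zpowers x₀) := by
    apply IsPGroup.of_card (n := 1)
    rw [Nat.card_zpowers, hx₀o, pow_one]
  obtain ⟨P₂, hP₂⟩ := hx₀p.exists_le_sylow
  have hx₀P : x₀ ∈ (P₂ : Subgroup G) := hP₂ (Subgroup.mem_zpowers x₀)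
  have hP₂E : ¬ E2 p (P₂ : Subgroup G) := fun h => hE (h.mono le_top)
  -- each other prime divides the order of the centralizer
  have key : ∀ q ∈ σ, q ≠ p → q ∣ Nat.card (Subgroup.centralizer ({x₀} : Set G)) := by
    intro q hq hqp
    have hqq := hprime q hq
    obtain ⟨g, hg⟩ := h2 p hp q hq (Ne.symm hqp)
    set s : G := g ^ q with hs'
    set t : G := g ^ p with ht
    have hso : orderOf s = p := by
      rw [hs', orderOf_pow_of_dvd hqq.ne_zero (by rw [hg]; exact dvd_mul_left _ _), hg]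
      exact Nat.mul_div_cancel p hqq.pos
    have hto : orderOf t = q := by
      rw [ht, orderOf_pow_of_dvd hpp.ne_zero (by rw [hg]; exact dvd_mul_right _ _), hg]
      exact Nat.mul_div_cancel_left q hpp.pos
    have hst : Commute s t := (Commute.refl g).pow_pow q p
    have hsp : IsPGroup p (Subgroup.zpowers s) := by
      apply IsPGroup.of_card (n := 1)
      rw [Nat.card_zpowers, hso, pow_one]
    obtain ⟨P₁, hP₁⟩ := hsp.exists_le_sylow
    obtain ⟨c, hc⟩ := MulAction.exists_smul_eq G P₁ P₂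
    have hcs : c * s * c⁻¹ ∈ (P₂ : Subgroup G) := by
      rw [← hc, Sylow.coe_subgroup_smul]
      have := Subgroup.smul_mem_pointwise_smul s (MulAut.conj c) (P₁ : Subgroup G)
        (hP₁ (Subgroup.mem_zpowers s))
      rwa [MulAut.smul_def, MulAut.conj_apply] at this
    have hcso : orderOf (c * s * c⁻¹) = p := by
      have := (MulAut.conj c).orderOf_eq s
      rw [MulAut.conj_apply] at this
      rw [this]; exact hso
    have hz := zpowers_eq_of_not_E2 hpp P₂.2 hP₂E hcs hx₀P hcso hx₀o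
    have hx₀m : x₀ ∈ Subgroup.zpowers (c * s * c⁻¹) := by rw [hz]; exact Subgroup.mem_zpowers x₀
    obtain ⟨k, hk⟩ := Subgroup.mem_zpowers_iff.1 hx₀m
    have hcomm : Commute (c * t * c⁻¹) (c * s * c⁻¹) := by
      have : (c * t * c⁻¹) * (c * s * c⁻¹) = (c * s * c⁻¹) * (c * t * c⁻¹) := by
        have e1 : (c * t * c⁻¹) * (c * s * c⁻¹) = c * (t * s) * c⁻¹ := by group
        have e2 : (c * s * c⁻¹) * (c * t * c⁻¹) = c * (s * t) * c⁻¹ := by group
        rw [e1, e2, hst.eq]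
      exact this
    have hmem : c * t * c⁻¹ ∈ Subgroup.centralizer ({x₀} : Set G) := by
      rw [Subgroup.mem_centralizer_iff]
      intro y hy
      rw [Set.mem_singleton_iff] at hy
      subst hy
      rw [← hk]
      exact ((hcomm.zpow_right k).eq).symm
    have hcto : orderOf (c * t * c⁻¹) = q := by
      have := (MulAut.conj c).orderOf_eq t
      rw [MulAut.conj_apply] at this
      rw [this]; exact hto
    rw [← hcto]
    exact Subgroup.orderOf_dvd_natCard _ hmem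
  have hq₁p := hprime q₁ hq₁.2
  have hq₂p := hprime q₂ hq₂.2
  have hq₃p := hprime q₃ hq₃.2
  haveI : Group.IsSolvable (Subgroup.centralizer ({x₀} : Set G)) := inferInstance
  obtain ⟨g', hg'⟩ := exists_mixed_of_three_primes (X := Subgroup.centralizer ({x₀} : Set G))
    inferInstance hq₁p hq₂p hq₃p h12 h13 h23 (key q₁ hq₁.2 hq₁.1) (key q₂ hq₂.2 hq₂.1)
    (key q₃ hq₃.2 hq₃.1)
  have hcomm : x₀ * (g' : G) = (g' : G) * x₀ := by
    have := g'.2
    rw [Subgroup.mem_centralizer_iff] at this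
    exact this x₀ rfl
  have fin : ∀ a b : ℕ, a ∈ σ → b ∈ σ → a ≠ p → b ≠ p → a ≠ b → a * b ∣ orderOf (g' : G) → False := by
    intro a b ha hb hap hbp hab hd
    obtain ⟨g'', hg''⟩ := exists_dvd_orderOf3 hpp (hprime a ha) (hprime b hb) (Ne.symm hap)
      (Ne.symm hbp) hab hx₀o hcomm hd
    obtain ⟨g₃, hg₃, -⟩ := exists_orderOf_eq_of_dvd
      (Nat.mul_pos (Nat.mul_pos hpp.pos (hprime a ha).pos) (hprime b hb).pos) hg''
    exact h3 p hp a ha b hb (Ne.symm hap) hab (Ne.symm hbp) g₃ hg₃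
  rw [Subgroup.orderOf_coe] at fin
  rcases hg' with h | h | h
  · exact fin q₁ q₂ hq₁.2 hq₂.2 hq₁.1 hq₂.1 h12 h
  · exact fin q₁ q₃ hq₁.2 hq₃.2 hq₁.1 hq₃.1 h13 h
  · exact fin q₂ q₃ hq₂.2 hq₃.2 hq₂.1 hq₃.1 h23 h

end Cfsg.Agent.Lib.Helper2.R4
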