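import Cfsg.Agent.Lib.Helper2.R4E1
import Cfsg.Agent.Lib.Helper2.R4E2

/-! S3814 farm piece E3: the statement of S3814. -/

set_option autoImplicit false
set_option linter.style.haveILetI false

namespace Cfsg.Agent.Lib.Helper2.R4

theorem s3814 {G : Type*} [Group G] [Finite G]
    (σ : Finset ℕ) (hσ : 4 ≤ σ.card) (hprime : ∀ p ∈ σ, p.Prime)
    (h2 : ∀ p ∈ σ, ∀ q ∈ σ, p ≠ q → ∃ g : G, orderOf g = p * q)
    (h3 : ∀ p ∈ σ, ∀ q ∈ σ, ∀ r ∈ σ, p ≠ q → q ≠ r → p ≠ r → ∀ g : G, orderOf g ≠ p * q * r) :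
    ¬ Group.IsSolvable G := by
  intro hs
  obtain ⟨τ, hτσ, hτ⟩ := Finset.exists_subset_card_eq hσ
  obtain ⟨g, p, hp, q, hq, r, hr, hpq, hpr, hqr, hd⟩ := thmR hs τ hτ (fun p hp => hprime p (hτσ hp))
    (fun p hp => E2_of_hyp hs σ hσ hprime h2 h3 (hτσ hp))
  have hpp := hprime p (hτσ hp)
  have hqp := hprime q (hτσ hq)
  have hrp := hprime r (hτσ hr)
  obtain ⟨g', hg', -⟩ := exists_orderOf_eq_of_dvd
    (Nat.mul_pos (Nat.mul_pos hpp.pos hqp.pos) hrp.pos) hd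
  exact h3 p (hτσ hp) q (hτσ hq) r (hτσ hr) hpq hqr hpr g' hg'

end Cfsg.Agent.Lib.Helper2.R4
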