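import Mathlib
import Cfsg.Agent.Lib.Lead.RVDefs

/-!
# Farm RV (S3175), unit B4a: a complement modulo `D` in the elementary abelian `Y / D`.
-/

set_option autoImplicit false

namespace Cfsg.Agent.Lib.Helper2.RVB4a

theorem conj_mem_of_comm {P : Type*} [Group P] (Y D U : Subgroup P) (hDU : D ≤ U) (hUY : U ≤ Y)
    (hcomm : ∀ a ∈ Y, ∀ b ∈ Y, a * b * a⁻¹ * b⁻¹ ∈ D) (y : P) (hy : y ∈ Y) (u : P)
    (hu : u ∈ U) : y * u * y⁻¹ ∈ U := by
  have h1 : y * u * y⁻¹ * u⁻¹ ∈ U := hDU (hcomm y hy u (hUY hu))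
  have h2 := U.mul_mem h1 hu
  simpa using h2

theorem le_normalizer_of_comm {P : Type*} [Group P] (Y D U : Subgroup P) (hDU : D ≤ U)
    (hUY : U ≤ Y) (hcomm : ∀ a ∈ Y, ∀ b ∈ Y, a * b * a⁻¹ * b⁻¹ ∈ D) : Y ≤ Subgroup.normalizer (U : Set P) := by
  intro y hy
  rw [Subgroup.mem_normalizer_iff]
  intro u
  constructor
  · exact conj_mem_of_comm Y D U hDU hUY hcomm y hy u
  · intro h
    have := conj_mem_of_comm Y D U hDU hUY hcomm y⁻¹ (inv_mem hy) _ h
    simpa [mul_assoc] using this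

theorem zpow_mem_or {P : Type*} [Group P] (D : Subgroup P) (y : P) (hy : y ^ 2 ∈ D) (k : ℤ) :
    y ^ k ∈ D ∨ ∃ d ∈ D, y ^ k = d * y := by
  have h2 : y ^ (2 : ℤ) ∈ D := by
    have : y ^ (2 : ℤ) = y ^ 2 := zpow_ofNat y 2
    rw [this]; exact hy
  obtain ⟨j, rfl | rfl⟩ := Int.even_or_odd' k
  · left
    rw [zpow_mul]
    exact D.zpow_mem h2 j
  · right
    refine ⟨(y ^ (2 : ℤ)) ^ j, D.zpow_mem h2 j, ?_⟩
    rw [zpow_add, zpow_mul, zpow_one]

/-- UNIT B4a (complement modulo `D` in the elementary abelian `Y / D`; maximality argument). -/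
theorem exists_compl_mod {P : Type*} [Group P] [Finite P] (Y Z D : Subgroup P) (hDZ : D ≤ Z)
    (hZY : Z ≤ Y) (hsq : ∀ y ∈ Y, y ^ 2 ∈ D) (hcomm : ∀ a ∈ Y, ∀ b ∈ Y, a * b * a⁻¹ * b⁻¹ ∈ D) :
    ∃ U : Subgroup P, D ≤ U ∧ U ≤ Y ∧ U ⊓ Z = D ∧ U.relIndex Y = D.relIndex Z := by
  classical
  obtain ⟨U, -, hmax⟩ := Finite.exists_le_maximal
    (p := fun U : Subgroup P => D ≤ U ∧ U ≤ Y ∧ U ⊓ Z = D) (a := D)
    ⟨le_rfl, hDZ.trans hZY, inf_eq_left.mpr hDZ⟩
  obtain ⟨⟨hDU, hUY, hUZ⟩, hmax2⟩ := hmax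
  have hYUZ : Y ≤ U ⊔ Z := by
    intro y hy
    by_contra hyn
    have hnorm : Subgroup.zpowers y ≤ Subgroup.normalizer (U : Set P) := by
      rw [Subgroup.zpowers_le]
      exact le_normalizer_of_comm Y D U hDU hUY hcomm hy
    have hU' : D ≤ U ⊔ Subgroup.zpowers y ∧ U ⊔ Subgroup.zpowers y ≤ Y ∧
        (U ⊔ Subgroup.zpowers y) ⊓ Z = D := by
      refine ⟨hDU.trans le_sup_left, sup_le hUY (by rw [Subgroup.zpowers_le]; exact hy), ?_⟩
      apply le_antisymm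
      · intro x hx
        obtain ⟨hx1, hxZ⟩ := Subgroup.mem_inf.mp hx
        have hx2 : x ∈ ((U ⊔ Subgroup.zpowers y : Subgroup P) : Set P) := hx1
        rw [Subgroup.coe_mul_of_right_le_normalizer_left U _ hnorm] at hx2
        obtain ⟨u, hu, w, hw, rfl⟩ := Set.mem_mul.mp hx2
        obtain ⟨k, rfl⟩ := Subgroup.mem_zpowers_iff.mp hw
        rcases zpow_mem_or D y (hsq y hy) k with hk | ⟨d, hd, hk⟩
        · have : u * y ^ k ∈ U ⊓ Z := ⟨U.mul_mem hu (hDU hk), hxZ⟩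
          rw [hUZ] at this
          exact this
        · exfalso
          apply hyn
          have hyeq : y = (u * d)⁻¹ * (u * y ^ k) := by rw [hk]; group
          rw [hyeq]
          exact Subgroup.mul_mem _
            (Subgroup.inv_mem _ (Subgroup.mem_sup_left (U.mul_mem hu (hDU hd))))
            (Subgroup.mem_sup_right hxZ)
      · exact le_inf (hDU.trans le_sup_left) hDZ
    have hle := hmax2 hU' le_sup_left
    exact hyn (Subgroup.mem_sup_left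
      (hle (Subgroup.mem_sup_right (Subgroup.mem_zpowers y))))
  have hY : U ⊔ Z = Y := le_antisymm (sup_le hUY hZY) hYUZ
  refine ⟨U, hDU, hUY, hUZ, ?_⟩
  have : (U.subgroupOf Y).Normal := by
    constructor
    intro n hn g
    rw [Subgroup.mem_subgroupOf] at hn ⊢
    simpa using conj_mem_of_comm Y D U hDU hUY hcomm g g.2 n hn
  have h1 := Subgroup.relIndex_sup_right (Z.subgroupOf Y) (U.subgroupOf Y)
  rw [← Subgroup.subgroupOf_sup hZY hUY, sup_comm, hY, Subgroup.subgroupOf_self,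
    Subgroup.relIndex_top_right, Subgroup.relIndex_subgroupOf hZY] at h1
  rw [← hUZ, Subgroup.inf_relIndex_right]
  exact h1

end Cfsg.Agent.Lib.Helper2.RVB4a
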