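import Mathlib
import Cfsg.Agent.Lib.Lead.RVDefs
import Cfsg.Agent.Lib.Helper1.Nilpotent
import Cfsg.Agent.Lib.Helper2.RVB4a

/-!
# Farm RV (S3175), unit B4: the core of Part 2 (`X = W`).
-/

set_option autoImplicit false

namespace Cfsg.Agent.Lib.Helper2.RVB4

open Cfsg.Agent.Lib.Lead.RVD

theorem card_mul_relIndex_of_le {P : Type*} [Group P] (H K : Subgroup P) (h : H ≤ K) :
    Nat.card H * H.relIndex K = Nat.card K := by
  have := Subgroup.relIndex_mul_relIndex (⊥ : Subgroup P) H K bot_le h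
  rwa [Subgroup.relIndex_bot_left, Subgroup.relIndex_bot_left] at this

theorem inf_ne_bot_of_normal {P : Type*} [Group P] [Finite P] (X C Z : Subgroup P)
    (hX : Shape X C) [Z.Normal] (hZX : Z ≤ X) (hZ : Z ≠ ⊥) : C ⊓ Z ≠ ⊥ := by
  have : Fact (Nat.Prime 2) := ⟨Nat.prime_two⟩
  have hp : IsPGroup 2 ↥X := IsPGroup.of_card (n := 11) hX.cardV
  have : Group.IsNilpotent ↥X := hp.isNilpotent
  have hne : Z.subgroupOf X ≠ ⊥ := by
    intro h
    rw [Subgroup.subgroupOf_eq_bot] at h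
    apply hZ
    have := h.eq_bot
    rwa [inf_eq_left.mpr hZX] at this
  have h1 := Cfsg.Agent.Lib.Helper1.normal_inf_center_ne_bot (Z.subgroupOf X) hne
  intro hbot
  apply h1
  rw [Subgroup.eq_bot_iff_forall]
  intro x hx
  obtain ⟨hxZ, hxc⟩ := Subgroup.mem_inf.mp hx
  rw [Subgroup.mem_subgroupOf] at hxZ
  have hxC : (x : P) ∈ C := by
    apply hX.center _ x.2
    intro v hv
    have h2 := Subgroup.mem_center_iff.mp hxc ⟨v, hv⟩
    have h3 := congrArg Subtype.val h2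
    simpa using h3.symm
  have hmem : (x : P) ∈ C ⊓ Z := ⟨hxC, hxZ⟩
  rw [hbot, Subgroup.mem_bot] at hmem
  exact Subtype.ext hmem

/-- UNIT B4 (THE CORE of Part 2; see blueprint steps (i)-(iv); uses B4a). -/
theorem wc_core {P : Type*} [Group P] [Finite P] (W Z X C : Subgroup P) (hW : Shape W Z)
    (hX : Shape X C) [W.Normal] [Z.Normal]
    (hcent : ∀ x : P, (∀ z ∈ Z, x * z = z * x) → x ∈ W) (hidx : W.index = 8)
    (hnonab : ∃ a b : P, a * b * a⁻¹ * b⁻¹ ∉ W) : X = W := by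
  classical
  obtain ⟨Y, hYdef⟩ : ∃ Y : Subgroup P, Y = X ⊓ W := ⟨_, rfl⟩
  have hYX : Y ≤ X := hYdef ▸ inf_le_left
  have hYW : Y ≤ W := hYdef ▸ inf_le_right
  obtain ⟨e, he⟩ : ∃ e : ℕ, e = W.relIndex X := ⟨_, rfl⟩
  have he8 : e ∣ 8 := by
    rw [he, ← hidx]
    exact Subgroup.relIndex_dvd_index_of_normal W X
  have hYXe : Y.relIndex X = e := by
    rw [hYdef, he]
    exact Subgroup.inf_relIndex_left X W
  have hcY1 := card_mul_relIndex_of_le Y X hYX
  have hcY2 := card_mul_relIndex_of_le Y W hYW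
  have hYpos : 0 < Nat.card Y := Nat.card_pos
  have hYWe : Y.relIndex W = e := by
    rw [hYXe, hX.cardV] at hcY1
    rw [hW.cardV, ← hcY1] at hcY2
    exact Nat.eq_of_mul_eq_mul_left hYpos hcY2
  have he_le : e ≤ 8 := Nat.le_of_dvd (by norm_num) he8
  have hZY : Z ≤ Y := hW.hd Y hYW (by rw [hYWe]; omega)
  have hCY : C ≤ Y := hX.hd Y hYX (by rw [hYXe]; omega)
  obtain ⟨D, hDdef⟩ : ∃ D : Subgroup P, D = C ⊓ Z := ⟨_, rfl⟩
  have hDZ : D ≤ Z := hDdef ▸ inf_le_right
  have hDC : D ≤ C := hDdef ▸ inf_le_left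
  by_cases hDeq : D = Z
  · -- (iii)
    have hZC : Z ≤ C := hDeq ▸ hDC
    have hZeqC : Z = C :=
      Subgroup.eq_of_le_of_card_ge hZC (by rw [hX.cardC, hW.cardC])
    have hXW : X ≤ W := by
      intro x hx
      apply hcent
      intro z hz
      exact (hX.central z (hZeqC ▸ hz) x hx).symm
    exact Subgroup.eq_of_le_of_card_ge hXW (by rw [hX.cardV, hW.cardV])
  · exfalso
    have hZne : Z ≠ ⊥ := by
      intro h
      have h8 := hW.cardC
      rw [h] at h8
      simp at h8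
    have hDne : D ≠ ⊥ := hDdef ▸ inf_ne_bot_of_normal X C Z hX (hZY.trans hYX) hZne
    obtain ⟨U, hDU, hUY, hUZ, hUidx⟩ :=
      Cfsg.Agent.Lib.Helper2.RVB4a.exists_compl_mod Y Z D hDZ hZY
        (fun y hy => hDdef ▸ Subgroup.mem_inf.mpr ⟨hX.sq y (hYX hy), hW.sq y (hYW hy)⟩)
        (fun a ha b hb => hDdef ▸ Subgroup.mem_inf.mpr
          ⟨hX.comm a (hYX ha) b (hYX hb), hW.comm a (hYW ha) b (hYW hb)⟩)
    have hZU : ¬ Z ≤ U := by
      intro h
      apply hDeq
      rw [← hUZ]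
      exact inf_eq_right.mpr h
    have hUW : U ≤ W := hUY.trans hYW
    have hbig : 16 < U.relIndex W := by
      by_contra hle
      exact hZU (hW.hd U hUW (not_lt.mp hle))
    have hmul := Subgroup.relIndex_mul_relIndex U Y W hUY hYW
    rw [hUidx, hYWe] at hmul
    have hcD := card_mul_relIndex_of_le D Z hDZ
    rw [hW.cardC] at hcD
    have hD2 : 2 ≤ Nat.card D := by
      have := (Subgroup.one_lt_card_iff_ne_bot (H := D)).mpr hDne
      omega
    have hDZ4 : D.relIndex Z ≤ 4 := by nlinarith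
    have he8' : e = 8 := by
      have he4 : 4 < e := by nlinarith
      have hmemd : e ∈ Nat.divisors 8 := Nat.mem_divisors.mpr ⟨he8, by norm_num⟩
      have hdiv : Nat.divisors 8 = {1, 2, 4, 8} := by decide
      rw [hdiv] at hmemd
      simp at hmemd
      omega
    have htop : X ⊔ W = ⊤ := by
      have h1 := Subgroup.relIndex_sup_right X W
      have h2 := Subgroup.relIndex_mul_index (H := W) (K := X ⊔ W) le_sup_right
      rw [h1, ← he, he8', hidx] at h2
      have h3 : (X ⊔ W).index = 1 := by omega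
      exact Subgroup.index_eq_one.mp h3
    obtain ⟨a, b, hab⟩ := hnonab
    apply hab
    have hmem : ∀ g : P, ∃ x ∈ X, (QuotientGroup.mk' W) g = (QuotientGroup.mk' W) x := by
      intro g
      have hg : g ∈ ((X ⊔ W : Subgroup P) : Set P) := by rw [htop]; trivial
      rw [Subgroup.mul_normal] at hg
      obtain ⟨x, hx, w, hw, rfl⟩ := Set.mem_mul.mp hg
      refine ⟨x, hx, ?_⟩
      rw [map_mul]
      have hw1 : (QuotientGroup.mk' W) w = 1 := (QuotientGroup.eq_one_iff w).mpr hw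
      rw [hw1, mul_one]
    obtain ⟨x1, hx1, ha⟩ := hmem a
    obtain ⟨x2, hx2, hb⟩ := hmem b
    rw [← QuotientGroup.eq_one_iff]
    have hq : (QuotientGroup.mk' W) (a * b * a⁻¹ * b⁻¹) =
        (QuotientGroup.mk' W) (x1 * x2 * x1⁻¹ * x2⁻¹) := by
      simp only [map_mul, map_inv, ha, hb]
    have hq1 : (QuotientGroup.mk' W) (x1 * x2 * x1⁻¹ * x2⁻¹) = 1 :=
      (QuotientGroup.eq_one_iff _).mpr (hYW (hCY (hX.comm x1 hx1 x2 hx2)))
    exact hq.trans hq1

end Cfsg.Agent.Lib.Helper2.RVB4
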