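import Mathlib

/-! The orbital graph of a transitive group whose point stabiliser has exactly three orbits
(helper2, for S1666): it is a strongly regular graph on which the group acts. -/

set_option autoImplicit false
set_option linter.style.haveILetI false
set_option linter.unusedSectionVars false

namespace Cfsg.Agent.Lib.Helper2.Rk3

section orbital

variable (M : Type*) {Ω : Type*} [Group M] [MulAction M Ω] (a b : Ω)

/-- the orbital of the pair `(a, b)` -/
def oAdj (x y : Ω) : Prop := ∃ g : M, g • a = x ∧ g • b = y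

variable {M a b}

theorem oAdj_smul_iff (g : M) {x y : Ω} : oAdj M a b (g • x) (g • y) ↔ oAdj M a b x y := by
  constructor
  · rintro ⟨k, hk1, hk2⟩
    exact ⟨g⁻¹ * k, by rw [mul_smul, hk1, inv_smul_smul], by rw [mul_smul, hk2, inv_smul_smul]⟩
  · rintro ⟨k, hk1, hk2⟩
    exact ⟨g * k, by rw [mul_smul, hk1], by rw [mul_smul, hk2]⟩

theorem oAdj_base_iff {y : Ω} :
    oAdj M a b a y ↔ y ∈ MulAction.orbit (MulAction.stabilizer M a) b := by
  constructor
  · rintro ⟨g, hg1, hg2⟩
    exact ⟨⟨g, hg1⟩, hg2⟩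
  · rintro ⟨h, hh⟩
    exact ⟨h.1, h.2, hh⟩

theorem oAdj_irrefl (hba : b ≠ a) (x : Ω) : ¬ oAdj M a b x x := by
  rintro ⟨g, hg1, hg2⟩
  exact hba (MulAction.injective g (hg2.trans hg1.symm))

/-- the hypotheses: the stabiliser of `a` has the three orbits `{a}`, `b^H`, `c^H`, and some
involution moves `a` -/
structure Rank3 (M : Type*) {Ω : Type*} [Group M] [MulAction M Ω] (a b c : Ω) : Prop where
  trans : MulAction.IsPretransitive M Ω
  hba : b ≠ a
  hcb : c ∉ MulAction.orbit (MulAction.stabilizer M a) b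
  cover : ∀ x : Ω, x = a ∨ x ∈ MulAction.orbit (MulAction.stabilizer M a) b ∨
    x ∈ MulAction.orbit (MulAction.stabilizer M a) c
  invol : ∃ t : M, t * t = 1 ∧ t • a ≠ a

variable {c : Ω}

/-- a conjugate of the involution -/
theorem conj_aux {t h : M} {z w : Ω} (ht : t * t = 1) (hz : t • a = z) (hh : h • w = z)
    (ha : h • a = a) : (h⁻¹ * t * h) • a = w ∧ (h⁻¹ * t * h) • w = a := by
  constructor
  · rw [mul_smul, mul_smul, ha, hz, ← hh, inv_smul_smul]
  · have h2 : t • t • a = a := by rw [← mul_smul, ht, one_smul]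
    rw [mul_smul, mul_smul, hh, ← hz, h2, inv_smul_eq_iff, ha]

theorem Rank3.swap (h : Rank3 M a b c) : oAdj M a b b a := by
  haveI := h.trans
  obtain ⟨t, ht, hta⟩ := h.invol
  obtain ⟨g, hg⟩ := MulAction.exists_smul_eq M b a
  have hy : g • a ≠ a := by
    intro h1
    exact h.hba (MulAction.injective g (hg.trans h1.symm))
  rcases h.cover (t • a) with h1 | ⟨k, hk⟩ | ⟨k, hk⟩
  · exact absurd h1 hta
  · obtain ⟨h2, h3⟩ := conj_aux (h := (k : M)) ht rfl hk k.2
    exact ⟨_, h2, h3⟩
  · obtain ⟨h2, h3⟩ := conj_aux (h := (k : M)) ht rfl hk k.2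
    rcases h.cover (g • a) with h4 | ⟨k', hk'⟩ | ⟨k', hk'⟩
    · exact absurd h4 hy
    · refine ⟨(k' : M)⁻¹ * g, ?_, ?_⟩
      · rw [mul_smul, ← hk', inv_smul_eq_iff]; rfl
      · rw [mul_smul, hg, inv_smul_eq_iff]; exact k'.2.symm
    · exfalso
      apply h.hcb
      have e1 : ((k' : M)⁻¹ * g) • a = c := by
        rw [mul_smul, ← hk', inv_smul_eq_iff]; rfl
      have e2 : ((k' : M)⁻¹ * g) • b = a := by
        rw [mul_smul, hg, inv_smul_eq_iff]; exact k'.2.symm
      refine ⟨⟨((k : M)⁻¹ * t * k) * ((k' : M)⁻¹ * g), ?_⟩, ?_⟩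
      · rw [MulAction.mem_stabilizer_iff, mul_smul, e1, h3]
      · show (((k : M)⁻¹ * t * k) * ((k' : M)⁻¹ * g)) • b = c
        rw [mul_smul, e2, h2]

theorem Rank3.symm (h : Rank3 M a b c) {x y : Ω} (hxy : oAdj M a b x y) : oAdj M a b y x := by
  obtain ⟨g, rfl, rfl⟩ := hxy
  exact (oAdj_smul_iff g).mpr h.swap

/-- non-adjacent distinct points form the other orbital -/
theorem Rank3.other (h : Rank3 M a b c) {x y : Ω} (hne : x ≠ y) (hxy : ¬ oAdj M a b x y) :
    ∃ g : M, g • a = x ∧ g • c = y := by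
  haveI := h.trans
  obtain ⟨g, hg⟩ := MulAction.exists_smul_eq M a x
  rcases h.cover (g⁻¹ • y) with h1 | h1 | ⟨k, hk⟩
  · exfalso
    apply hne
    rw [← hg, ← h1, smul_inv_smul]
  · exfalso
    apply hxy
    have := (oAdj_smul_iff (a := a) (b := b) g).mpr (oAdj_base_iff.mpr h1)
    rwa [hg, smul_inv_smul] at this
  · refine ⟨g * k, ?_, ?_⟩
    · rw [mul_smul]
      have : (k : M) • a = a := k.2
      rw [this, hg]
    · rw [mul_smul]
      have : (k : M) • c = g⁻¹ • y := hk
      rw [this, smul_inv_smul]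

variable (M a b)

/-- the orbital graph -/
def oGraph (h : ∃ c, Rank3 M a b c) : SimpleGraph Ω where
  Adj x y := oAdj M a b x y
  symm := ⟨fun _ _ hxy => by
    obtain ⟨c, hc⟩ := h
    exact hc.symm hxy⟩
  loopless := ⟨fun x hx => by
    obtain ⟨c, hc⟩ := h
    exact oAdj_irrefl hc.hba x hx⟩

variable {M a b}

theorem oGraph_adj (h : ∃ c, Rank3 M a b c) {x y : Ω} :
    (oGraph M a b h).Adj x y ↔ oAdj M a b x y := Iff.rfl

theorem oGraph_adj_smul (h : ∃ c, Rank3 M a b c) (g : M) {x y : Ω} :
    (oGraph M a b h).Adj (g • x) (g • y) ↔ (oGraph M a b h).Adj x y := oAdj_smul_iff g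

theorem neighborSet_base (h : ∃ c, Rank3 M a b c) :
    (oGraph M a b h).neighborSet a = MulAction.orbit (MulAction.stabilizer M a) b := by
  ext y
  exact oAdj_base_iff

theorem neighborSet_smul (h : ∃ c, Rank3 M a b c) (g : M) (x : Ω) :
    (oGraph M a b h).neighborSet (g • x) = (fun y => g • y) '' (oGraph M a b h).neighborSet x := by
  ext y
  simp only [SimpleGraph.mem_neighborSet, Set.mem_image]
  constructor
  · intro hy
    refine ⟨g⁻¹ • y, ?_, smul_inv_smul g y⟩
    rw [← oGraph_adj_smul h g, smul_inv_smul]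
    exact hy
  · rintro ⟨z, hz, rfl⟩
    exact (oGraph_adj_smul h g).mpr hz

theorem commonNeighbors_smul (h : ∃ c, Rank3 M a b c) (g : M) (x y : Ω) :
    (oGraph M a b h).commonNeighbors (g • x) (g • y) =
      (fun z => g • z) '' (oGraph M a b h).commonNeighbors x y := by
  unfold SimpleGraph.commonNeighbors
  rw [neighborSet_smul, neighborSet_smul, Set.image_inter (MulAction.injective g)]

theorem ncard_neighborSet [Finite Ω] (h : ∃ c, Rank3 M a b c) (x : Ω) :
    ((oGraph M a b h).neighborSet x).ncard =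
      (MulAction.orbit (MulAction.stabilizer M a) b).ncard := by
  obtain ⟨c, hc⟩ := h
  haveI := hc.trans
  obtain ⟨g, rfl⟩ := MulAction.exists_smul_eq M a x
  rw [neighborSet_smul, Set.ncard_image_of_injective _ (MulAction.injective g), neighborSet_base]

theorem ncard_commonNeighbors_adj [Finite Ω] (h : ∃ c, Rank3 M a b c) {x y : Ω}
    (hxy : (oGraph M a b h).Adj x y) :
    ((oGraph M a b h).commonNeighbors x y).ncard =
      ((oGraph M a b h).commonNeighbors a b).ncard := by
  obtain ⟨g, rfl, rfl⟩ := (oGraph_adj h).mp hxy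
  rw [commonNeighbors_smul, Set.ncard_image_of_injective _ (MulAction.injective g)]

theorem ncard_commonNeighbors_not_adj [Finite Ω] (h : ∃ c, Rank3 M a b c) {c : Ω}
    (hc : Rank3 M a b c) {x y : Ω} (hne : x ≠ y) (hxy : ¬ (oGraph M a b h).Adj x y) :
    ((oGraph M a b h).commonNeighbors x y).ncard =
      ((oGraph M a b h).commonNeighbors a c).ncard := by
  obtain ⟨g, rfl, rfl⟩ := hc.other hne (fun h1 => hxy ((oGraph_adj h).mpr h1))
  rw [commonNeighbors_smul, Set.ncard_image_of_injective _ (MulAction.injective g)]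

/-- the orbital graph is strongly regular -/
theorem isSRGWith [Fintype Ω] (h : ∃ c, Rank3 M a b c) [DecidableRel (oGraph M a b h).Adj]
    {c : Ω} (hc : Rank3 M a b c) :
    (oGraph M a b h).IsSRGWith (Fintype.card Ω)
      (MulAction.orbit (MulAction.stabilizer M a) b).ncard
      ((oGraph M a b h).commonNeighbors a b).ncard
      ((oGraph M a b h).commonNeighbors a c).ncard where
  card := rfl
  regular := by
    intro x
    rw [← SimpleGraph.card_neighborSet_eq_degree, ← Nat.card_eq_fintype_card,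
      Nat.card_coe_set_eq]
    exact ncard_neighborSet h x
  of_adj := by
    intro v w hvw
    rw [← ncard_commonNeighbors_adj h hvw, ← Nat.card_eq_fintype_card, Nat.card_coe_set_eq]
  of_not_adj := by
    intro v w hne hvw
    rw [← ncard_commonNeighbors_not_adj h hc hne hvw, ← Nat.card_eq_fintype_card,
      Nat.card_coe_set_eq]

end orbital

end Cfsg.Agent.Lib.Helper2.Rk3
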