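import Mathlib

/-! Two divisibility conditions on the parameters of a strongly regular graph (helper2, for
S1666): the number of ordered triangles `n k ℓ` is divisible by `3`, and `μ = 0` forces
`k + 1 ∣ n`. Hence a strongly regular graph `(100, 22, ℓ, μ)` has `ℓ = 0`, `μ = 6`. -/

set_option autoImplicit false
set_option linter.style.haveILetI false
set_option linter.unusedSectionVars false

namespace Cfsg.Agent.Lib.Helper2.Rk3

open Finset

variable {V : Type*} [Fintype V] [DecidableEq V] (Γ : SimpleGraph V) [DecidableRel Γ.Adj]
  {n k l m : ℕ}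

/-- the triangle predicate -/
def Tri (p : V × V × V) : Prop := Γ.Adj p.1 p.2.1 ∧ Γ.Adj p.1 p.2.2 ∧ Γ.Adj p.2.1 p.2.2

instance : DecidablePred (Tri Γ) := fun p => by unfold Tri; infer_instance

variable {Γ}

theorem card_filter_common (h : Γ.IsSRGWith n k l m) {x y : V} (hxy : Γ.Adj x y) :
    (univ.filter (fun z => Γ.Adj x z ∧ Γ.Adj y z)).card = l := by
  rw [← h.of_adj x y hxy, ← Nat.card_eq_fintype_card, Nat.card_coe_set_eq,
    Set.ncard_eq_toFinset_card']
  congr 1
  ext z
  simp [SimpleGraph.mem_commonNeighbors]

theorem card_filter_adj (h : Γ.IsSRGWith n k l m) (x : V) :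
    (univ.filter (fun y => Γ.Adj x y)).card = k := by
  rw [← h.regular x, SimpleGraph.degree]
  congr 1
  ext y
  simp

theorem card_tri (h : Γ.IsSRGWith n k l m) : (univ.filter (Tri Γ)).card = n * k * l := by
  rw [Finset.card_filter, Fintype.sum_prod_type]
  have h1 : ∀ x : V, ∑ yz : V × V, (if Tri Γ (x, yz) then 1 else 0) = k * l := by
    intro x
    rw [Fintype.sum_prod_type]
    have h2 : ∀ y : V, ∑ z : V, (if Tri Γ (x, (y, z)) then 1 else 0) =
        if Γ.Adj x y then l else 0 := by
      intro y
      by_cases hxy : Γ.Adj x y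
      · rw [if_pos hxy, ← Finset.card_filter, ← card_filter_common h hxy]
        congr 1
        ext z
        simp [Tri, hxy]
      · rw [if_neg hxy]
        apply Finset.sum_eq_zero
        intro z _
        rw [if_neg]
        intro ht
        exact hxy ht.1
    simp_rw [h2]
    rw [← Finset.sum_filter, Finset.sum_const, smul_eq_mul, card_filter_adj h x]
  simp_rw [h1]
  rw [Finset.sum_const, Finset.card_univ, h.card, smul_eq_mul, mul_assoc]

/-- the rotation of triangles -/
def rot (p : {p : V × V × V // Tri Γ p}) : {p : V × V × V // Tri Γ p} :=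
  ⟨(p.1.2.1, p.1.2.2, p.1.1), p.2.2.2, p.2.1.symm, p.2.2.1.symm⟩

theorem rot_rot_rot (p : {p : V × V × V // Tri Γ p}) : rot (rot (rot p)) = p := rfl

theorem three_dvd (h : Γ.IsSRGWith n k l m) : 3 ∣ n * k * l := by
  haveI : Fact (Nat.Prime 3) := ⟨Nat.prime_three⟩
  let f : Function.End {p : V × V × V // Tri Γ p} := rot
  have hf : f ^ 3 ^ 1 = 1 := by
    rw [pow_one, pow_succ, pow_succ, pow_one]
    rfl
  have h1 := Equiv.Perm.card_fixedPoints_modEq hf
  have h2 : Fintype.card (Function.fixedPoints f) = 0 := by
    rw [Fintype.card_eq_zero_iff]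
    refine ⟨fun ⟨p, hp⟩ => ?_⟩
    have h3 : (rot p).1.1 = p.1.1 := congrArg (fun q => q.1.1) hp
    have h4 : p.1.2.1 = p.1.1 := h3
    have h5 := p.2.1
    rw [h4] at h5
    exact Γ.loopless.irrefl _ h5
  rw [h2, Fintype.card_subtype, card_tri h] at h1
  exact (Nat.modEq_zero_iff_dvd).mp h1

/-- `μ = 0`: the graph is a disjoint union of complete graphs -/
theorem dvd_of_mu_zero (h : Γ.IsSRGWith n k l 0) : (k + 1) ∣ n := by
  classical
  let s : Setoid V :=
    { r := fun x y => x = y ∨ Γ.Adj x y
      iseqv :=
        { refl := fun x => Or.inl rfl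
          symm := by
            rintro x y (rfl | hxy)
            · exact Or.inl rfl
            · exact Or.inr hxy.symm
          trans := by
            rintro x y z (rfl | hxy) (rfl | hyz)
            · exact Or.inl rfl
            · exact Or.inr hyz
            · exact Or.inr hxy
            · by_cases hxz : x = z
              · exact Or.inl hxz
              · right
                by_contra hn
                have h0 := h.of_not_adj hxz hn
                rw [Fintype.card_eq_zero_iff] at h0
                exact h0.false ⟨y, hxy, hyz.symm⟩ } }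
  have hparts : ∀ p ∈ (Finpartition.ofSetoid s).parts, p.card = k + 1 := by
    intro p hp
    rw [Finpartition.ofSetoid, Finpartition.ofSetSetoid_parts, Finset.mem_image] at hp
    obtain ⟨x, -, rfl⟩ := hp
    have : (univ.filter (fun y => s.r x y)) = insert x (univ.filter (fun y => Γ.Adj x y)) := by
      ext y
      simp only [Finset.mem_filter, Finset.mem_univ, true_and, Finset.mem_insert]
      constructor
      · rintro (rfl | hxy)
        · exact Or.inl rfl
        · exact Or.inr hxy
      · rintro (rfl | hxy)
        · exact Or.inl rfl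
        · exact Or.inr hxy
    rw [this, Finset.card_insert_of_notMem, card_filter_adj h x]
    simp
  have hsum := (Finpartition.ofSetoid s).sum_card_parts
  rw [Finset.sum_const_nat hparts, Finset.card_univ, h.card] at hsum
  exact Dvd.intro_left _ hsum

/-- the parameters of a strongly regular graph on 100 points of valency 22 -/
theorem params_100_22 (h : Γ.IsSRGWith 100 22 l m) : l = 0 ∧ m = 6 := by
  have hp := SimpleGraph.IsSRGWith.param_eq Γ h (by norm_num)
  have h3 := three_dvd h
  have h4 : (l = 0 ∧ m = 6) ∨ m = 0 := by omega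
  rcases h4 with h4 | rfl
  · exact h4
  · exfalso
    have := dvd_of_mu_zero h
    omega

end Cfsg.Agent.Lib.Helper2.Rk3
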