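import Mathlib
import Cfsg.Agent.Lib.Helper2.Rk3C
import Cfsg.Agent.Lib.Helper2.Srg100
import Cfsg.Agent.Lib.Helper2.Hs4
import Cfsg.Agent.Lib.Helper9.HSe

/-! The Higman–Sims graph on `Fin 100` (helper2, for S1666): strongly regular `(100, 22, 0, 6)`,
its automorphism group has order `88704000` and contains helper9's simple permutation group `K`
of order `44352000`. -/

set_option autoImplicit false
set_option maxRecDepth 100000
set_option linter.style.haveILetI false
set_option linter.unusedSectionVars false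

namespace Cfsg.Agent.Lib.Helper2.Rk3

open Cfsg Cfsg.Agent.Lib.Helper8.SS Cfsg.Agent.Lib.Helper9.HSa

theorem gen_ok : ∀ i ∈ [1, 2, 3], ∀ x < 100, ∀ y < 100,
    adjB (get (pN i) x) (get (pN i) y) = adjB x y := by
  decide +kernel

/-- the Higman–Sims graph on `Fin 100` -/
def hsGraph : SimpleGraph (Fin 100) where
  Adj i j := adjB i.1 j.1 = true
  symm := ⟨fun i j h => by rw [adjB_symm j.1 j.2 i.1 i.2]; exact h⟩
  loopless := ⟨fun i h => by
    rw [adjB_irrefl i.1 i.2] at h
    exact Bool.false_ne_true h⟩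

instance : DecidableRel hsGraph.Adj :=
  fun i j => inferInstanceAs (Decidable (adjB i.1 j.1 = true))

theorem hsGraph_adj {i j : Fin 100} : hsGraph.Adj i j ↔ adjB i.1 j.1 = true := Iff.rfl

theorem sum_range_ite (pB : ℕ → Bool) (n : ℕ) :
    ∑ i ∈ Finset.range n, (if pB i = true then 1 else 0) =
      ((List.range n).filter pB).length := by
  induction n with
  | zero => simp
  | succ n ih =>
    rw [Finset.sum_range_succ, ih, List.range_succ, List.filter_append, List.length_append]
    by_cases h : pB n = true <;> simp [h]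

theorem card_filter_fin (n : ℕ) (pB : ℕ → Bool) :
    (Finset.univ.filter (fun j : Fin n => pB j.1 = true)).card =
      ((List.range n).filter pB).length := by
  rw [Finset.card_filter, Fin.sum_univ_eq_sum_range (fun i => if pB i = true then 1 else 0),
    sum_range_ite]

theorem card_common (v w : Fin 100) :
    Fintype.card (hsGraph.commonNeighbors v w) =
      ((List.range 100).filter (fun z => adjB v.1 z && adjB w.1 z)).length := by
  rw [← card_filter_fin, ← Nat.card_eq_fintype_card, Nat.card_coe_set_eq,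
    Set.ncard_eq_toFinset_card']
  congr 1
  ext z
  simp [SimpleGraph.mem_commonNeighbors, hsGraph_adj]

theorem hsGraph_srg : hsGraph.IsSRGWith 100 22 0 6 where
  card := by simp
  regular := by
    intro v
    rw [SimpleGraph.degree]
    have : hsGraph.neighborFinset v =
        Finset.univ.filter (fun j : Fin 100 => adjB v.1 j.1 = true) := by
      ext j
      simp [hsGraph_adj]
    rw [this, card_filter_fin]
    exact adjB_deg v.1 v.2
  of_adj := by
    intro v w hvw
    have hne : v.1 ≠ w.1 := fun h => hsGraph.loopless.irrefl v (by rwa [← Fin.ext h] at hvw)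
    rw [card_common, adjB_common v.1 v.2 w.1 w.2 hne, if_pos (hsGraph_adj.mp hvw)]
  of_not_adj := by
    intro v w hne hvw
    have hne' : v.1 ≠ w.1 := fun h => hne (Fin.ext h)
    rw [card_common, adjB_common v.1 v.2 w.1 w.2 hne', if_neg (fun h => hvw (hsGraph_adj.mpr h))]

/-- the automorphism group of the graph inside `Perm (Fin 100)` -/
def AutS : Subgroup (Equiv.Perm (Fin 100)) where
  carrier := {σ | ∀ x y, hsGraph.Adj (σ x) (σ y) ↔ hsGraph.Adj x y}
  mul_mem' := fun {σ τ} hσ hτ x y => by
    rw [Equiv.Perm.mul_apply, Equiv.Perm.mul_apply, hσ, hτ]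
  one_mem' := fun _ _ => Iff.rfl
  inv_mem' := fun {σ} hσ x y => by
    rw [← hσ, Equiv.Perm.inv_def, Equiv.apply_symm_apply, Equiv.apply_symm_apply]

theorem mem_AutS {σ : Equiv.Perm (Fin 100)} :
    σ ∈ AutS ↔ ∀ x y, hsGraph.Adj (σ x) (σ y) ↔ hsGraph.Adj x y := Iff.rfl

theorem K_le_AutS : K ≤ AutS := by
  rw [K_eq]
  unfold grp
  rw [Subgroup.closure_le]
  rintro g ⟨i, hi, rfl⟩
  have hi' : i < 273 := by
    simp only [List.mem_cons, List.not_mem_nil, or_false] at hi
    omega
  intro x y
  rw [hsGraph_adj, hsGraph_adj]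
  unfold P
  rw [perm_apply 100 (valid_all i hi') x, perm_apply 100 (valid_all i hi') y,
    gen_ok i hi x.1 x.2 y.1 y.2]

/-- `AutS` as the type of graph automorphisms -/
def autEquiv : ↥AutS ≃ (hsGraph ≃g hsGraph) where
  toFun σ := ⟨σ.1, fun {x y} => σ.2 x y⟩
  invFun f := ⟨f.toEquiv, fun _ _ => f.map_rel_iff⟩
  left_inv _ := rfl
  right_inv _ := rfl

theorem card_AutS : Nat.card ↥AutS = 88704000 := by
  classical
  rw [Nat.card_congr autEquiv]
  obtain ⟨B, hB, ⟨e⟩⟩ := Cfsg.Agent.Lib.Helper2.Srg100.exists_iso hsGraph_srg (0 : Fin 100)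
  have hα : Fintype.card (Cfsg.Agent.Lib.Helper2.Srg100.Pt hsGraph (0 : Fin 100)) = 22 := by
    rw [Fintype.card_coe]
    exact Cfsg.Agent.Lib.Helper2.Srg100.card_nb hsGraph_srg 0
  rw [← Cfsg.Agent.Lib.Helper2.Hs.card_aut hα hB]
  apply Nat.card_congr
  exact ⟨fun f => (e.trans f).trans e.symm, fun f => (e.symm.trans f).trans e,
    fun f => by ext x; simp, fun f => by ext x; simp⟩

theorem card_K' : Nat.card ↥K = 44352000 := card_K

instance simple_K : IsSimpleGroup ↥K := by
  exact (Cfsg.Agent.Lib.Helper9.HSe.iso3.isSimpleGroup_congr).mp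
    Cfsg.Agent.Lib.Helper9.HSsimple3.simple_G0

end Cfsg.Agent.Lib.Helper2.Rk3
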