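import Mathlib
import Cfsg.Agent.Lib.Helper2.Rk3A
import Cfsg.Agent.Lib.Helper2.Rk3B
import Cfsg.Agent.Lib.Helper2.Rk3D
import Cfsg.Agent.Lib.Helper9.Syl2M22b

/-! Recognition of the Higman–Sims group as a rank 3 permutation group of degree 100 with point
stabiliser `M₂₂` (helper2, for S1666). -/

set_option autoImplicit false
set_option maxRecDepth 100000
set_option linter.style.haveILetI false
set_option linter.unusedSectionVars false

namespace Cfsg.Agent.Lib.Helper2.Rk3

open Cfsg Cfsg.Agent.Lib.Helper9.HSa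

/-- two subgroups of index two, one of them simple, coincide -/
theorem eq_of_index_two {P : Type*} [Group P] (A K L : Subgroup P) [Finite A] (hK : K ≤ A)
    (hL : L ≤ A) [IsSimpleGroup K] (hA : Nat.card A = 2 * Nat.card K)
    (hLK : Nat.card L = Nat.card K) (h2 : 2 < Nat.card K) : K = L := by
  haveI : Finite L := Finite.of_injective (Subgroup.inclusion hL) (Subgroup.inclusion_injective hL)
  have hcK : Nat.card (K.subgroupOf A) = Nat.card K :=
    Nat.card_congr (Subgroup.subgroupOfEquivOfLe hK).toEquiv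
  have hcL : Nat.card (L.subgroupOf A) = Nat.card K := by
    rw [← hLK]
    exact Nat.card_congr (Subgroup.subgroupOfEquivOfLe hL).toEquiv
  have hidx : (L.subgroupOf A).index = 2 := by
    have h1 := Subgroup.card_mul_index (L.subgroupOf A)
    rw [hcL, hA] at h1
    have hpos : 0 < Nat.card K := by omega
    exact Nat.eq_of_mul_eq_mul_left hpos (by rw [h1]; ring)
  haveI : (L.subgroupOf A).Normal := Subgroup.normal_of_index_eq_two hidx
  haveI : IsSimpleGroup (K.subgroupOf A) :=
    ((Subgroup.subgroupOfEquivOfLe hK).isSimpleGroup_congr).mpr inferInstance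
  have hn : ((L.subgroupOf A).subgroupOf (K.subgroupOf A)).Normal := inferInstance
  have hle : K ≤ L := by
    rcases hn.eq_bot_or_eq_top with h | h
    · exfalso
      have h3 := Subgroup.relIndex_dvd_index_of_normal (L.subgroupOf A) (K.subgroupOf A)
      rw [Subgroup.relIndex, h, Subgroup.index_bot, hcK, hidx] at h3
      have := Nat.le_of_dvd (by norm_num) h3
      omega
    · rw [Subgroup.subgroupOf_eq_top] at h
      intro x hx
      have h4 : (⟨x, hK hx⟩ : ↥A) ∈ K.subgroupOf A := Subgroup.mem_subgroupOf.mpr hx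
      exact Subgroup.mem_subgroupOf.mp (h h4)
  exact Subgroup.eq_of_le_of_card_ge hle (by rw [hLK])

section main

variable {Ω : Type*} [Fintype Ω] [DecidableEq Ω] (G : Subgroup (Equiv.Perm Ω))
  [MulAction.IsPretransitive G Ω] (a b c : Ω)

theorem smul_eq (g : ↥G) (x : Ω) : g • x = (g : Equiv.Perm Ω) x := rfl

/-- an involution moving `a` -/
theorem exists_invol (h2 : 2 ∣ Nat.card G) : ∃ t : ↥G, t * t = 1 ∧ t • a ≠ a := by
  haveI : Fact (Nat.Prime 2) := ⟨Nat.prime_two⟩
  obtain ⟨t, ht⟩ := exists_prime_orderOf_dvd_card' (G := ↥G) 2 h2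
  have ht2 : t * t = 1 := by
    rw [← pow_two, ← ht]
    exact pow_orderOf_eq_one t
  have ht1 : t ≠ 1 := by
    rintro rfl
    rw [orderOf_one] at ht
    omega
  have hx : ∃ x : Ω, t • x ≠ x := by
    by_contra hcon
    push Not at hcon
    apply ht1
    apply Subtype.ext
    ext x
    exact hcon x
  obtain ⟨x, hx⟩ := hx
  obtain ⟨g, hg⟩ := MulAction.exists_smul_eq G a x
  refine ⟨g⁻¹ * t * g, ?_, ?_⟩
  · calc g⁻¹ * t * g * (g⁻¹ * t * g) = g⁻¹ * (t * t) * g := by group
      _ = 1 := by rw [ht2]; group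
  · rw [mul_smul, mul_smul, hg]
    intro h1
    apply hx
    rw [inv_smul_eq_iff] at h1
    rw [h1, hg]

variable {G a b c}

/-- the rank 3 hypotheses from the orbit sizes -/
theorem rank3_of_sizes (hΩ : Fintype.card Ω = 100)
    (hb : (MulAction.orbit (MulAction.stabilizer G a) b).ncard = 22)
    (hc : (MulAction.orbit (MulAction.stabilizer G a) c).ncard = 77)
    (h2 : 2 ∣ Nat.card G) : Rank3 (↥G) a b c := by
  have horb_a : MulAction.orbit (MulAction.stabilizer G a) a = {a} := by
    ext x
    constructor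
    · rintro ⟨h, rfl⟩
      exact h.2
    · rintro rfl
      exact MulAction.mem_orbit_self _
  have hba : b ≠ a := by
    rintro rfl
    rw [horb_a, Set.ncard_singleton] at hb
    omega
  have hca : c ≠ a := by
    rintro rfl
    rw [horb_a, Set.ncard_singleton] at hc
    omega
  have hcb : c ∉ MulAction.orbit (MulAction.stabilizer G a) b := by
    intro h
    rw [← MulAction.orbit_eq_iff] at h
    rw [h, hb] at hc
    omega
  have hab : a ∉ MulAction.orbit (MulAction.stabilizer G a) b := by
    intro h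
    rw [← MulAction.orbit_eq_iff, horb_a] at h
    have : b ∈ ({a} : Set Ω) := h ▸ MulAction.mem_orbit_self _
    exact hba this
  have hac : a ∉ MulAction.orbit (MulAction.stabilizer G a) c := by
    intro h
    rw [← MulAction.orbit_eq_iff, horb_a] at h
    have : c ∈ ({a} : Set Ω) := h ▸ MulAction.mem_orbit_self _
    exact hca this
  have hdisj : Disjoint (MulAction.orbit (MulAction.stabilizer G a) b)
      (MulAction.orbit (MulAction.stabilizer G a) c) := by
    rcases MulAction.orbit.eq_or_disjoint (G := ↥(MulAction.stabilizer G a)) b c with h | h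
    · exfalso
      rw [h, hc] at hb
      omega
    · exact h
  have hcover : ({a} ∪ MulAction.orbit (MulAction.stabilizer G a) b ∪
      MulAction.orbit (MulAction.stabilizer G a) c : Set Ω) = Set.univ := by
    apply Set.eq_of_subset_of_ncard_le (Set.subset_univ _)
    rw [Set.ncard_univ, Nat.card_eq_fintype_card, hΩ, Set.ncard_union_eq, Set.ncard_union_eq, hb,
      hc, Set.ncard_singleton]
    · exact Set.disjoint_singleton_left.mpr hab
    · rw [Set.disjoint_union_left]
      exact ⟨Set.disjoint_singleton_left.mpr hac, hdisj⟩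
  refine ⟨inferInstance, hba, hcb, ?_, exists_invol G a h2⟩
  intro x
  have hx : x ∈ (Set.univ : Set Ω) := Set.mem_univ x
  rw [← hcover] at hx
  rcases hx with (hx | hx) | hx
  · exact Or.inl hx
  · exact Or.inr (Or.inl hx)
  · exact Or.inr (Or.inr hx)

/-- the order of the group -/
theorem card_G (hΩ : Fintype.card Ω = 100) (e : MulAction.stabilizer G a ≃* Cfsg.Spor.M22) :
    Nat.card G = 44352000 := by
  have h1 := Subgroup.card_mul_index (MulAction.stabilizer G a)
  rw [MulAction.index_stabilizer_of_transitive, Nat.card_eq_fintype_card (α := Ω), hΩ,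
    Nat.card_congr e.toEquiv, Cfsg.Agent.Lib.Helper9.Syl2M22.card_G] at h1
  omega

/-- S1666 -/
theorem isoHS_of_rank3 (hΩ : Fintype.card Ω = 100)
    (e : MulAction.stabilizer G a ≃* Cfsg.Spor.M22)
    (hb : (MulAction.orbit (MulAction.stabilizer G a) b).ncard = 22)
    (hc : (MulAction.orbit (MulAction.stabilizer G a) c).ncard = 77) : Cfsg.Spor.IsoHS G := by
  classical
  have hcard := card_G hΩ e
  have hR : Rank3 (↥G) a b c := rank3_of_sizes hΩ hb hc (by rw [hcard]; norm_num)
  have hex : ∃ c, Rank3 (↥G) a b c := ⟨c, hR⟩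
  have hsrg := isSRGWith hex hR
  rw [hΩ, hb] at hsrg
  obtain ⟨hl, hm⟩ := params_100_22 hsrg
  rw [hl, hm] at hsrg
  obtain ⟨φ⟩ := Cfsg.Agent.Lib.Helper2.Srg100.srg_unique hsrg hsGraph_srg
  -- the image of `G` in `Perm (Fin 100)`
  let L : Subgroup (Equiv.Perm (Fin 100)) := G.map (φ.toEquiv.permCongrHom : _ →* _)
  have eL : ↥G ≃* ↥L := φ.toEquiv.permCongrHom.subgroupMap G
  have hLA : L ≤ AutS := by
    rintro σ ⟨g, hg, rfl⟩
    intro x y
    show hsGraph.Adj (φ.toEquiv.permCongr g x) (φ.toEquiv.permCongr g y) ↔ _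
    rw [Equiv.permCongr_apply, Equiv.permCongr_apply]
    show hsGraph.Adj (φ (g (φ.symm x))) (φ (g (φ.symm y))) ↔ _
    rw [φ.map_rel_iff]
    have h1 := oGraph_adj_smul hex (⟨g, hg⟩ : ↥G) (x := φ.symm x) (y := φ.symm y)
    rw [smul_eq, smul_eq] at h1
    rw [h1, φ.symm.map_rel_iff]
  haveI : Finite ↥AutS := Nat.finite_of_card_ne_zero (by rw [card_AutS]; norm_num)
  have hKL : K = L := eq_of_index_two AutS K L K_le_AutS hLA
    (by rw [card_AutS, card_K'])
    (by rw [← Nat.card_congr eL.toEquiv, hcard, card_K']) (by rw [card_K']; norm_num)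
  obtain ⟨eK⟩ := Cfsg.Agent.Lib.Helper9.HSe.iso_K
  exact ⟨(eL.trans (MulEquiv.subgroupCongr hKL.symm)).trans eK.symm⟩

end main

end Cfsg.Agent.Lib.Helper2.Rk3
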