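import Mathlib
import Cfsg.Agent.Lib.Helper2.S168B
import Cfsg.Agent.Lib.Lead.SEInvol

set_option autoImplicit false

/-!
# Simple groups of order 168, part C: conjugacy classes
-/

namespace Cfsg.Agent.Lib.Helper2.S168

open Cfsg.Agent.S3864 Cfsg.Agent.Lib.Helper1 Cfsg.Agent.Lib.Helper2
open Cfsg.Agent.Lib.Helper2.DihedralFusion
open scoped Pointwise

section General

variable {G : Type*} [Group G] [Finite G]

/-- class equation for a single class -/
theorem card_isConj_mul (s : G) :
    Nat.card {g : G // IsConj s g} * Nat.card (Subgroup.centralizer ({s} : Set G)) =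
      Nat.card G := by
  have h := Cfsg.Agent.Lib.Lead.SE.card_conjOrbit_mul (⊤ : Subgroup G) s
  rw [inf_top_eq, Subgroup.card_top] at h
  rw [← h]
  congr 1
  apply Nat.card_congr
  apply Equiv.subtypeEquivRight
  intro b
  rw [isConj_iff]
  constructor
  · rintro ⟨c, hc⟩; exact ⟨c, Subgroup.mem_top c, hc⟩
  · rintro ⟨c, -, hc⟩; exact ⟨c, hc⟩

omit [Finite G] in
theorem orderOf_conj_eq'' (c s : G) : orderOf (c * s * c⁻¹) = orderOf s :=
  (MulAut.conj c).orderOf_eq s

/-- if all elements of order `n` are conjugate to `s`, count them. -/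
theorem card_orderOf_eq_of_conj {n : ℕ} (s : G) (hs : orderOf s = n)
    (hconj : ∀ t : G, orderOf t = n → IsConj s t) :
    Nat.card {g : G // orderOf g = n} * Nat.card (Subgroup.centralizer ({s} : Set G)) =
      Nat.card G := by
  rw [← card_isConj_mul s]
  congr 1
  apply Nat.card_congr
  apply Equiv.subtypeEquivRight
  intro b
  constructor
  · exact hconj b
  · intro hb
    obtain ⟨c, rfl⟩ := isConj_iff.mp hb
    rw [orderOf_conj_eq'', hs]

omit [Finite G] in
theorem mem_zpowers_three {t x : G} (ht : orderOf t = 3) (hx : x ∈ Subgroup.zpowers t) :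
    x = 1 ∨ x = t ∨ x = t⁻¹ := by
  obtain ⟨i, rfl⟩ := Subgroup.mem_zpowers_iff.mp hx
  have h1 := zpow_mod_orderOf t i
  rw [ht] at h1
  have h0 : 0 ≤ i % 3 := Int.emod_nonneg _ (by norm_num)
  have h3 : i % 3 < 3 := Int.emod_lt_of_pos _ (by norm_num)
  rw [← h1]
  have ht3 : t ^ 3 = 1 := by rw [← ht]; exact pow_orderOf_eq_one t
  generalize i % 3 = j at *
  interval_cases j
  · left; simp
  · right; left; simp
  · right; right
    rw [eq_inv_iff_mul_eq_one]
    calc t ^ (2 : ℤ) * t = t ^ 3 := by group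
      _ = 1 := ht3

end General

variable {G : Type*} [Group G] [Finite G] [IsSimpleGroup G]

omit [IsSimpleGroup G] in
theorem z_comm (T : Sylow 2 G) (D : DihData (T : Subgroup G) 4 2) :
    ∀ t ∈ (T : Subgroup G), t * D.z = D.z * t := by
  intro t ht
  have hle := Cfsg.Agent.S3864.le_of_x_y_mem T D (N := Subgroup.centralizer ({D.z} : Set G))
    (by rw [Subgroup.mem_centralizer_singleton_iff, D.z_eq]; group)
    (by rw [Subgroup.mem_centralizer_singleton_iff]; exact (z_mul_y T D).symm)
  have := hle ht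
  rw [Subgroup.mem_centralizer_singleton_iff] at this
  exact this

theorem centralizer_z (h : Nat.card G = 168) (T : Sylow 2 G) (D : DihData (T : Subgroup G) 4 2) :
    Subgroup.centralizer ({D.z} : Set G) = T :=
  centralizer_central h T D.z_mem (ne_one_of_orderOf_two D.orderOf_z) (z_comm T D)

theorem card_invol (h : Nat.card G = 168) : Nat.card {g : G // orderOf g = 2} = 21 := by
  obtain ⟨T⟩ : Nonempty (Sylow 2 G) := inferInstance
  obtain ⟨D⟩ := exists_dihData h T
  have h1 := card_orderOf_eq_of_conj D.z D.orderOf_z (fun t ht => isConj_invol h D.orderOf_z ht)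
  rw [centralizer_z h T D, show Nat.card (T : Subgroup G) = 8 from card_sylow2 h T, h] at h1
  omega

/-- the centralizer of any involution has order 8 -/
theorem card_centralizer_invol (h : Nat.card G = 168) {s : G} (hs : orderOf s = 2) :
    Nat.card (Subgroup.centralizer ({s} : Set G)) = 8 := by
  have h1 := card_orderOf_eq_of_conj s hs (fun t ht => isConj_invol h hs ht)
  rw [card_invol h, h] at h1
  omega

theorem isConj_inv_three (h : Nat.card G = 168) {t : G} (ht : orderOf t = 3) : IsConj t t⁻¹ := by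
  haveI : Fact (Nat.Prime 3) := ⟨by norm_num⟩
  obtain ⟨P, hP⟩ := exists_sylow_eq_zpowers (card_sylow3 h) ht
  have hN := card_normalizer3 h P
  have hPc : Nat.card (P : Subgroup G) = 3 := card_sylow3 h P
  obtain ⟨n, hnN, hnP⟩ : ∃ n ∈ Subgroup.normalizer ((P : Subgroup G) : Set G),
      n ∉ (P : Subgroup G) := by
    by_contra hno
    push Not at hno
    have hle : Subgroup.normalizer ((P : Subgroup G) : Set G) ≤ (P : Subgroup G) := hno
    have := Subgroup.card_le_of_le hle
    rw [hN, hPc] at this
    omega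
  have htP : t ∈ (P : Subgroup G) := by rw [hP]; exact Subgroup.mem_zpowers t
  have hmem : n * t * n⁻¹ ∈ Subgroup.zpowers t := by
    rw [← hP]
    exact (Subgroup.mem_normalizer_iff.mp hnN t).mp htP
  rcases mem_zpowers_three ht hmem with h1 | h1 | h1
  · exfalso
    have : t = 1 := by
      have : t = n⁻¹ * (n * t * n⁻¹) * n := by group
      rw [this, h1]; group
    rw [this, orderOf_one] at ht
    omega
  · exfalso
    apply hnP
    rw [hP, ← centralizer_of_orderOf_three h ht, Subgroup.mem_centralizer_singleton_iff]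
    calc n * t = n * t * n⁻¹ * n := by group
      _ = t * n := by rw [h1]
  · exact isConj_iff.mpr ⟨n, h1⟩

theorem isConj_three (h : Nat.card G = 168) {s t : G} (hs : orderOf s = 3) (ht : orderOf t = 3) :
    IsConj s t := by
  haveI : Fact (Nat.Prime 3) := ⟨by norm_num⟩
  obtain ⟨P, hP⟩ := exists_sylow_eq_zpowers (card_sylow3 h) hs
  obtain ⟨Q, hQ⟩ := exists_sylow_eq_zpowers (card_sylow3 h) ht
  obtain ⟨g, hg⟩ := MulAction.exists_smul_eq G P Q
  have hmem : g * s * g⁻¹ ∈ Subgroup.zpowers t := by
    rw [← hQ, ← hg, Sylow.smul_def, Sylow.pointwise_smul_def]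
    have hsP : s ∈ (P : Subgroup G) := by rw [hP]; exact Subgroup.mem_zpowers s
    exact Subgroup.smul_mem_pointwise_smul s (MulAut.conj g) _ hsP
  rcases mem_zpowers_three ht hmem with h1 | h1 | h1
  · exfalso
    have : s = 1 := by
      have : s = g⁻¹ * (g * s * g⁻¹) * g := by group
      rw [this, h1]; group
    rw [this, orderOf_one] at hs
    omega
  · exact isConj_iff.mpr ⟨g, h1⟩
  · exact (isConj_iff.mpr ⟨g, h1⟩).trans (isConj_inv_three h ht).symm

theorem card_three (h : Nat.card G = 168) : Nat.card {g : G // orderOf g = 3} = 56 := by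
  haveI : Fact (Nat.Prime 3) := ⟨by norm_num⟩
  obtain ⟨s, hs⟩ := exists_prime_orderOf_dvd_card' (G := G) 3 (by rw [h]; norm_num)
  have h1 := card_orderOf_eq_of_conj s hs (fun t ht => isConj_three h hs ht)
  rw [centralizer_of_orderOf_three h hs, Nat.card_zpowers, hs, h] at h1
  omega

theorem dih4_sq_ne_one : ∀ d : DihedralGroup 4, d * d ≠ 1 →
    d = DihedralGroup.r 1 ∨ d = DihedralGroup.r 3 := by decide

theorem dih4_r3 : (DihedralGroup.r 3 : DihedralGroup 4) = (DihedralGroup.r 1)⁻¹ := by decide

omit [IsSimpleGroup G] [Finite G] in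
theorem orderOf_x (T : Sylow 2 G) (D : DihData (T : Subgroup G) 4 2) : orderOf D.x = 4 := by
  unfold DihData.x
  rw [D.orderOf_e, DihedralGroup.orderOf_r_one]

omit [IsSimpleGroup G] [Finite G] in
theorem eq_x_or_inv (T : Sylow 2 G) (D : DihData (T : Subgroup G) 4 2) {g : G}
    (hg : g ∈ (T : Subgroup G)) (ho : orderOf g = 4) : g = D.x ∨ g = D.x⁻¹ := by
  obtain ⟨d, rfl⟩ := D.exists_of_mem hg
  rw [D.orderOf_e] at ho
  have hd : d * d ≠ 1 := by
    intro hd
    have := orderOf_dvd_of_pow_eq_one (x := d) (n := 2) (by rw [pow_two]; exact hd)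
    rw [ho] at this
    omega
  rcases dih4_sq_ne_one d hd with rfl | rfl
  · left; rfl
  · right
    unfold DihData.x
    rw [← map_inv, dih4_r3]

omit [IsSimpleGroup G] in
theorem isConj_x (T : Sylow 2 G) (D : DihData (T : Subgroup G) 4 2) {u : G}
    (hu : orderOf u = 4) : IsConj u D.x := by
  haveI : Fact (Nat.Prime 2) := ⟨Nat.prime_two⟩
  have hz : IsPGroup 2 ↥(Subgroup.zpowers u) :=
    IsPGroup.of_card (n := 2) (by rw [Nat.card_zpowers, hu]; norm_num)
  obtain ⟨c, hc⟩ := exists_conj_le_of_not_dvd_index hz T.not_dvd_index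
  have hu' := hc u (Subgroup.mem_zpowers u)
  have ho : orderOf (c⁻¹ * u * c) = 4 := by
    have := orderOf_conj_eq'' c⁻¹ u
    rw [inv_inv] at this
    rw [this, hu]
  rcases eq_x_or_inv T D hu' ho with h1 | h1
  · exact isConj_iff.mpr ⟨c⁻¹, by rw [inv_inv]; exact h1⟩
  · have h2 : IsConj u D.x⁻¹ := isConj_iff.mpr ⟨c⁻¹, by rw [inv_inv]; exact h1⟩
    have h3 : IsConj D.x D.x⁻¹ := isConj_iff.mpr ⟨D.y, D.conj_x⟩
    exact h2.trans h3.symm

theorem isConj_four (h : Nat.card G = 168) {s t : G} (hs : orderOf s = 4) (ht : orderOf t = 4) :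
    IsConj s t := by
  obtain ⟨T⟩ : Nonempty (Sylow 2 G) := inferInstance
  obtain ⟨D⟩ := exists_dihData h T
  exact (isConj_x T D hs).trans (isConj_x T D ht).symm

theorem card_centralizer_x (h : Nat.card G = 168) (T : Sylow 2 G)
    (D : DihData (T : Subgroup G) 4 2) :
    Nat.card (Subgroup.centralizer ({D.x} : Set G)) = 4 := by
  have hx4 := orderOf_x T D
  have hx1 : D.x ≠ 1 := by
    intro h1
    rw [h1, orderOf_one] at hx4
    omega
  have hd8 := card_centralizer_dvd_eight h hx1 (by rw [hx4]; norm_num)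
  have h4d : 4 ∣ Nat.card (Subgroup.centralizer ({D.x} : Set G)) := by
    have hle : Subgroup.zpowers D.x ≤ Subgroup.centralizer ({D.x} : Set G) := by
      rw [Subgroup.zpowers_le, Subgroup.mem_centralizer_singleton_iff]
    have := Subgroup.card_dvd_of_le hle
    rwa [Nat.card_zpowers, hx4] at this
  have hleT : Subgroup.centralizer ({D.x} : Set G) ≤ (T : Subgroup G) := by
    intro g hg
    have hgz : g ∈ Subgroup.centralizer ({D.z} : Set G) := by
      rw [Subgroup.mem_centralizer_singleton_iff] at hg ⊢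
      rw [D.z_eq]
      have hc : Commute g D.x := hg
      exact (hc.pow_right 2).eq
    rw [centralizer_z h T D] at hgz
    exact hgz
  have hne : Subgroup.centralizer ({D.x} : Set G) ≠ (T : Subgroup G) := by
    intro he
    have hy : D.y ∈ Subgroup.centralizer ({D.x} : Set G) := by rw [he]; exact D.y_mem
    rw [Subgroup.mem_centralizer_singleton_iff] at hy
    have h1 := D.conj_x
    rw [hy, mul_inv_cancel_right] at h1
    have h2 : D.x ^ 2 = 1 := by
      rw [pow_two]
      nth_rewrite 2 [h1]
      exact mul_inv_cancel _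
    have := orderOf_dvd_of_pow_eq_one h2
    rw [hx4] at this
    omega
  have hlt : Nat.card (Subgroup.centralizer ({D.x} : Set G)) < 8 := by
    by_contra hge
    push Not at hge
    apply hne
    apply Subgroup.eq_of_le_of_card_ge hleT
    rw [show Nat.card (T : Subgroup G) = 8 from card_sylow2 h T]
    exact hge
  have hle8 := Nat.le_of_dvd (by norm_num) hd8
  obtain ⟨k, hk⟩ := h4d
  generalize Nat.card (Subgroup.centralizer ({D.x} : Set G)) = c at *
  have hpos : 0 < c := Nat.pos_of_dvd_of_pos hd8 (by norm_num)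
  omega

theorem card_four (h : Nat.card G = 168) : Nat.card {g : G // orderOf g = 4} = 42 := by
  obtain ⟨T⟩ : Nonempty (Sylow 2 G) := inferInstance
  obtain ⟨D⟩ := exists_dihData h T
  have h1 := card_orderOf_eq_of_conj D.x (orderOf_x T D)
    (fun t ht => (isConj_x T D ht).symm)
  rw [card_centralizer_x h T D, h] at h1
  omega

omit [IsSimpleGroup G] [Finite G] in
theorem card_orderOf_one : Nat.card {g : G // orderOf g = 1} = 1 := by
  rw [Nat.card_eq_one_iff_unique]
  refine ⟨⟨?_⟩, ⟨⟨1, orderOf_one⟩⟩⟩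
  rintro ⟨a, ha⟩ ⟨b, hb⟩
  apply Subtype.ext
  show a = b
  rw [orderOf_eq_one_iff] at ha hb
  rw [ha, hb]

theorem card_seven (h : Nat.card G = 168) : Nat.card {g : G // orderOf g = 7} = 48 := by
  classical
  haveI : Fintype G := Fintype.ofFinite G
  have key : Nat.card G = ∑ n ∈ ({1, 2, 3, 4, 7} : Finset ℕ), Nat.card {g : G // orderOf g = n} := by
    rw [Nat.card_eq_fintype_card, ← Finset.card_univ,
      Finset.card_eq_sum_card_fiberwise (f := orderOf) (t := ({1, 2, 3, 4, 7} : Finset ℕ))
        (by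
          intro x _
          have := orderOf_mem h x
          simp only [Finset.coe_insert, Finset.coe_singleton, Set.mem_insert_iff,
            Set.mem_singleton_iff]
          exact this)]
    apply Finset.sum_congr rfl
    intro n _
    rw [Nat.card_eq_fintype_card, Fintype.card_subtype]
  rw [h, Finset.sum_insert (by decide), Finset.sum_insert (by decide), Finset.sum_insert (by decide),
    Finset.sum_insert (by decide), Finset.sum_singleton, card_orderOf_one, card_invol h,
    card_three h, card_four h] at key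
  omega

theorem card_class_seven (h : Nat.card G = 168) {x : G} (hx : orderOf x = 7) :
    Nat.card {g : G // IsConj x g} = 24 := by
  have h1 := card_isConj_mul x
  rw [centralizer_of_orderOf_seven h hx, Nat.card_zpowers, hx, h] at h1
  omega

theorem not_isConj_inv_seven (h : Nat.card G = 168) {x : G} (hx : orderOf x = 7) :
    ¬ IsConj x x⁻¹ := by
  haveI : Fact (Nat.Prime 7) := ⟨by norm_num⟩
  intro hc
  obtain ⟨g, hg⟩ := isConj_iff.mp hc
  obtain ⟨P, hP⟩ := exists_sylow_eq_zpowers (card_sylow7 h) hx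
  have hgN : g ∈ Subgroup.normalizer ((P : Subgroup G) : Set G) := by
    suffices hsm : g • P = P from Sylow.smul_eq_iff_mem_normalizer.mp hsm
    apply Sylow.ext
    rw [Sylow.smul_def, Sylow.pointwise_smul_def, hP]
    have : MulAut.conj g • Subgroup.zpowers x = Subgroup.zpowers (g * x * g⁻¹) :=
      MonoidHom.map_zpowers (MulAut.conj g).toMonoidHom x
    rw [this, hg, Subgroup.zpowers_inv]
  have h21 : g ^ 21 = 1 := by
    have := pow_card_eq_one' (G := ↥(Subgroup.normalizer ((P : Subgroup G) : Set G)))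
      (x := ⟨g, hgN⟩)
    rw [card_normalizer7 h P] at this
    exact congrArg Subtype.val this
  have hs : SemiconjBy g x x⁻¹ := by
    unfold SemiconjBy; rw [← hg]; group
  have hs' : SemiconjBy g x⁻¹ x := by
    have := hs.inv_right; rwa [inv_inv] at this
  have hc2 : Commute (g * g) x := hs'.mul_left hs
  have hc20 : Commute ((g * g) ^ 10) x⁻¹ := (hc2.pow_left 10).inv_right
  have hs21 : SemiconjBy ((g * g) ^ 10 * g) x x⁻¹ := SemiconjBy.mul_left hc20 hs
  have e21 : (g * g) ^ 10 * g = 1 := by
    calc (g * g) ^ 10 * g = g ^ 21 := by rw [← pow_two, ← pow_mul, ← pow_succ]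
      _ = 1 := h21
  rw [e21] at hs21
  have hxx : x = x⁻¹ := by
    have := hs21.eq
    rwa [one_mul, mul_one] at this
  have h2 : x ^ 2 = 1 := by
    rw [pow_two]
    nth_rewrite 2 [hxx]
    exact mul_inv_cancel _
  have := orderOf_dvd_of_pow_eq_one h2
  rw [hx] at this
  omega

end Cfsg.Agent.Lib.Helper2.S168
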