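import Mathlib
import Cfsg.Agent.Lib.Helper2.S168C
import Cfsg.Agent.S1012

set_option autoImplicit false

/-!
# Simple groups of order 168, part D: four-subgroups and their normalizers
-/

namespace Cfsg.Agent.Lib.Helper2.S168

open Cfsg.Agent.S3864 Cfsg.Agent.Lib.Helper1 Cfsg.Agent.Lib.Helper2
open Cfsg.Agent.Lib.Helper2.DihedralFusion Cfsg.Agent.Lib.Helper2.DihedralFour
open Cfsg.Agent.Lib.Helper2.FourGroup

section General

variable {G : Type*} [Group G]

/-- a subgroup of index 2 (by cardinality) is normalized -/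
theorem le_normalizer_of_card [Finite G] {U T : Subgroup G} (hUT : U ≤ T)
    (hc : Nat.card T = 2 * Nat.card U) : T ≤ Subgroup.normalizer (U : Set G) := by
  rw [← Subgroup.normal_subgroupOf_iff_le_normalizer hUT]
  apply Subgroup.normal_of_index_eq_two
  have h1 := Cfsg.Agent.Lib.Helper2.card_mul_relIndex hUT
  have hpos : 0 < Nat.card U := Nat.card_pos
  show U.relIndex T = 2
  exact Nat.eq_of_mul_eq_mul_left hpos (by rw [h1, hc]; ring)

theorem map_conj_symm {H K : Subgroup G} {g : G} (hHK : H.map (MulAut.conj g).toMonoidHom = K) :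
    K.map (MulAut.conj g⁻¹).toMonoidHom = H := by
  subst hHK
  rw [Subgroup.map_map]
  convert Subgroup.map_id H
  ext x
  simp [MulAut.conj_apply, mul_assoc]

theorem map_conj_of_mem_normalizer {H : Subgroup G} {g : G}
    (hg : g ∈ Subgroup.normalizer (H : Set G)) : H.map (MulAut.conj g).toMonoidHom = H :=
  Subgroup.mem_normalizer_iff_map_conj_eq.mp hg

theorem mem_normalizer_of_map_conj {H : Subgroup G} {g : G}
    (hg : H.map (MulAut.conj g).toMonoidHom = H) : g ∈ Subgroup.normalizer (H : Set G) :=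
  Subgroup.mem_normalizer_iff_map_conj_eq.mpr hg

theorem map_conj_inv_cancel (K : Subgroup G) (g : G) :
    (K.map (MulAut.conj g).toMonoidHom).map (MulAut.conj g⁻¹).toMonoidHom = K :=
  map_conj_symm rfl

theorem map_conj_cancel_inv (K : Subgroup G) (g : G) :
    (K.map (MulAut.conj g⁻¹).toMonoidHom).map (MulAut.conj g).toMonoidHom = K := by
  have := map_conj_inv_cancel K g⁻¹
  rwa [inv_inv] at this

/-- normalizer of a conjugate -/
theorem normalizer_map_conj (H : Subgroup G) (g : G) :
    Subgroup.normalizer ((H.map (MulAut.conj g).toMonoidHom : Subgroup G) : Set G) =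
      (Subgroup.normalizer (H : Set G)).map (MulAut.conj g).toMonoidHom := by
  have key : ∀ (K : Subgroup G) (c : G),
      (Subgroup.normalizer (K : Set G)).map (MulAut.conj c).toMonoidHom ≤
        Subgroup.normalizer ((K.map (MulAut.conj c).toMonoidHom : Subgroup G) : Set G) :=
    fun K c => Subgroup.le_normalizer_map _
  apply le_antisymm
  · calc Subgroup.normalizer ((H.map (MulAut.conj g).toMonoidHom : Subgroup G) : Set G)
        = ((Subgroup.normalizer ((H.map (MulAut.conj g).toMonoidHom : Subgroup G) : Set G)).map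
            (MulAut.conj g⁻¹).toMonoidHom).map (MulAut.conj g).toMonoidHom :=
          (map_conj_cancel_inv _ g).symm
      _ ≤ (Subgroup.normalizer (((H.map (MulAut.conj g).toMonoidHom).map
            (MulAut.conj g⁻¹).toMonoidHom : Subgroup G) : Set G)).map
            (MulAut.conj g).toMonoidHom := Subgroup.map_mono (key _ g⁻¹)
      _ = (Subgroup.normalizer (H : Set G)).map (MulAut.conj g).toMonoidHom := by
          rw [map_conj_inv_cancel]
  · exact key H g

end General


theorem dih4_central : ∀ d : DihedralGroup 4, d * DihedralGroup.r 1 = DihedralGroup.r 1 * d →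
    d * d = 1 → d = 1 ∨ d = DihedralGroup.r ((2 : ℕ) : ZMod 4) := by decide

variable {G : Type*} [Group G] [Finite G] [IsSimpleGroup G]

omit [IsSimpleGroup G] in
theorem card_U₁ (T : Sylow 2 G) (D : DihData (T : Subgroup G) 4 2) : Nat.card (U₁ T D) = 4 := by
  haveI := isKleinFour_U₁ T D
  exact IsKleinFour.card_four

omit [IsSimpleGroup G] in
theorem card_U₂ (T : Sylow 2 G) (D : DihData (T : Subgroup G) 4 2) : Nat.card (U₂ T D) = 4 := by
  haveI := isKleinFour_U₂ T D
  exact IsKleinFour.card_four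

/-- a Sylow 2-subgroup normalizes each of its subgroups of order 4 -/
theorem sylow2_le_normalizer (h : Nat.card G = 168) (T : Sylow 2 G) {U : Subgroup G}
    (hUT : U ≤ (T : Subgroup G)) (hU : Nat.card U = 4) :
    (T : Subgroup G) ≤ Subgroup.normalizer (U : Set G) :=
  le_normalizer_of_card hUT (by rw [show Nat.card (T : Subgroup G) = 8 from card_sylow2 h T, hU])

theorem four_eq_U (h : Nat.card G = 168) (T : Sylow 2 G) (D : DihData (T : Subgroup G) 4 2)
    (V : Subgroup G) (hVT : V ≤ (T : Subgroup G)) (hV : IsKleinFour V) :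
    V = U₁ T D ∨ V = U₂ T D := by
  haveI := hV
  obtain ⟨s, hs, h1 | h1⟩ := four_conj_U T D V hVT
  · left
    have hn := map_conj_of_mem_normalizer
      (sylow2_le_normalizer h T (U₁_le T D) (card_U₁ T D) hs)
    exact Subgroup.map_injective (MulAut.conj s).injective (h1.trans hn.symm)
  · right
    have hn := map_conj_of_mem_normalizer
      (sylow2_le_normalizer h T (U₂_le T D) (card_U₂ T D) hs)
    exact Subgroup.map_injective (MulAut.conj s).injective (h1.trans hn.symm)

omit [IsSimpleGroup G] in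
theorem U₁_ne_U₂ (T : Sylow 2 G) (D : DihData (T : Subgroup G) 4 2) : U₁ T D ≠ U₂ T D := by
  intro he
  apply not_conj_U₁_U₂ T D
  refine ⟨1, ?_⟩
  rw [← he]
  convert Subgroup.map_id (U₁ T D)
  ext x
  simp

theorem card_four_subgroups (h : Nat.card G = 168) (T : Sylow 2 G) :
    Nat.card {U : Subgroup G // U ≤ (T : Subgroup G) ∧ IsKleinFour ↥U} = 2 := by
  obtain ⟨D⟩ := exists_dihData h T
  have hset : {U : Subgroup G | U ≤ (T : Subgroup G) ∧ IsKleinFour ↥U} = {U₁ T D, U₂ T D} := by
    ext V
    simp only [Set.mem_ofPred_eq, Set.mem_insert_iff, Set.mem_singleton_iff]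
    constructor
    · rintro ⟨hVT, hV⟩
      exact four_eq_U h T D V hVT hV
    · rintro (rfl | rfl)
      · exact ⟨U₁_le T D, isKleinFour_U₁ T D⟩
      · exact ⟨U₂_le T D, isKleinFour_U₂ T D⟩
  have hc : Nat.card {U : Subgroup G // U ≤ (T : Subgroup G) ∧ IsKleinFour ↥U} =
      Set.ncard {U : Subgroup G | U ≤ (T : Subgroup G) ∧ IsKleinFour ↥U} :=
    Nat.card_coe_set_eq _
  rw [hc, hset, Set.ncard_pair (U₁_ne_U₂ T D)]

theorem not_conj_four (h : Nat.card G = 168) (T : Sylow 2 G) (U W : Subgroup G)
    (hU : U ≤ (T : Subgroup G)) (hW : W ≤ (T : Subgroup G)) (hUk : IsKleinFour ↥U)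
    (hWk : IsKleinFour ↥W) (hne : U ≠ W) (g : G) : U.map (MulAut.conj g).toMonoidHom ≠ W := by
  obtain ⟨D⟩ := exists_dihData h T
  intro hg
  rcases four_eq_U h T D U hU hUk with rfl | rfl <;> rcases four_eq_U h T D W hW hWk with rfl | rfl
  · exact hne rfl
  · exact not_conj_U₁_U₂ T D ⟨g, hg⟩
  · exact not_conj_U₁_U₂ T D ⟨g⁻¹, map_conj_symm hg⟩
  · exact hne rfl

/-- the normalizer of a four-subgroup has order 24 -/
theorem card_normalizer_four (h : Nat.card G = 168) (U : Subgroup G) (hU : IsKleinFour ↥U) :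
    Nat.card (Subgroup.normalizer (U : Set G)) = 24 := by
  haveI : Fact (Nat.Prime 2) := ⟨Nat.prime_two⟩
  haveI := hU
  have hU4 : Nat.card U = 4 := IsKleinFour.card_four
  have hUp : IsPGroup 2 U := IsPGroup.of_card (n := 2) (by rw [hU4]; norm_num)
  obtain ⟨T, hUT⟩ := hUp.exists_le_sylow
  obtain ⟨D⟩ := exists_dihData h T
  have hT8 : Nat.card (T : Subgroup G) = 8 := card_sylow2 h T
  have hTN := sylow2_le_normalizer h T hUT hU4
  have hle := card_normalizer_le h U (by rw [hU4]; norm_num) (by rw [hU4]; norm_num)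
  have hd1 : 8 ∣ Nat.card (Subgroup.normalizer (U : Set G)) := by
    rw [← hT8]; exact Subgroup.card_dvd_of_le hTN
  have hd2 : Nat.card (Subgroup.normalizer (U : Set G)) ∣ 168 := by
    rw [← h]; exact Subgroup.card_subgroup_dvd_card _
  by_contra hne
  have h8 : Nat.card (Subgroup.normalizer (U : Set G)) = 8 := by
    obtain ⟨k, hk⟩ := hd1
    rw [hk] at hd2 hle hne ⊢
    have hk3 : k ≤ 3 := by omega
    interval_cases k
    · simp at hd2
    · rfl
    · norm_num at hd2
    · exact absurd rfl hne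
  have hNT : Subgroup.normalizer (U : Set G) = (T : Subgroup G) :=
    (Subgroup.eq_of_le_of_card_ge hTN (by rw [h8, hT8])).symm
  -- a non-central involution of `U`
  obtain ⟨s, hsU, hs1, hsz⟩ : ∃ s ∈ U, s ≠ 1 ∧ s ≠ D.z := by
    by_cases hz : D.z ∈ U
    · exact exists_third U hz
    · obtain ⟨u, hu, hu1, -⟩ := exists_third U U.one_mem
      exact ⟨u, hu, hu1, fun h => hz (h ▸ hu)⟩
  have hs2 : orderOf s = 2 := orderOf_of_mem U hsU hs1
  have hC8 := card_centralizer_invol h hs2
  have hUC : U ≤ Subgroup.centralizer ({s} : Set G) := by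
    intro u hu
    rw [Subgroup.mem_centralizer_singleton_iff]
    exact comm_of_mem U hu hsU
  have hCN : Subgroup.centralizer ({s} : Set G) ≤ Subgroup.normalizer (U : Set G) :=
    le_normalizer_of_card hUC (by rw [hC8, hU4])
  rw [hNT] at hCN
  have hCT : Subgroup.centralizer ({s} : Set G) = (T : Subgroup G) :=
    Subgroup.eq_of_le_of_card_ge hCN (by rw [hC8, hT8])
  have hx : D.x ∈ Subgroup.centralizer ({s} : Set G) := by rw [hCT]; exact D.x_mem
  rw [Subgroup.mem_centralizer_singleton_iff] at hx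
  obtain ⟨d, hd⟩ := D.exists_of_mem (hUT hsU)
  have hdx : d * DihedralGroup.r 1 = DihedralGroup.r 1 * d := by
    apply D.inj
    rw [map_mul, map_mul, hd]
    exact hx.symm
  have hdd : d * d = 1 := by
    apply D.inj
    rw [map_mul, map_one, hd]
    exact mul_self_of_mem U hsU
  rcases dih4_central d hdx hdd with rfl | rfl
  · rw [map_one] at hd
    exact hs1 hd.symm
  · exact hsz hd.symm

theorem normalizer_four_equiv (h : Nat.card G = 168) (U : Subgroup G) (hU : IsKleinFour ↥U) :
    Nonempty (↥(Subgroup.normalizer (U : Set G)) ≃* Equiv.Perm (Fin 4)) := by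
  apply Cfsg.Agent.S1012.result (card_normalizer_four h U hU)
  intro g hg
  have h1 : orderOf (g : G) = 6 := by rw [Subgroup.orderOf_coe]; exact hg
  rcases orderOf_mem h (g : G) with h2 | h2 | h2 | h2 | h2 <;> omega

end Cfsg.Agent.Lib.Helper2.S168
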