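import Mathlib
import Cfsg.Agent.Lib.Helper2.S168D

set_option autoImplicit false

/-!
# Simple groups of order 168, part E: maximal subgroups
-/

namespace Cfsg.Agent.Lib.Helper2.S168

open Cfsg.Agent.S3864 Cfsg.Agent.Lib.Helper1 Cfsg.Agent.Lib.Helper2
open Cfsg.Agent.Lib.Helper2.DihedralFusion Cfsg.Agent.Lib.Helper2.DihedralFour
open Cfsg.Agent.Lib.Helper2.FourGroup
open Cfsg.Agent.Lib.Lead.SylowCount
open scoped Pointwise

section General

variable {G : Type*} [Group G] [Finite G]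

/-- a subgroup of prime order `p` is normalized by any subgroup containing it of order `< p²` -/
theorem le_normalizer_of_card_lt_sq {p : ℕ} (hp : p.Prime) {x : G} (hx : orderOf x = p)
    (M : Subgroup G) (hxM : x ∈ M) (hM : Nat.card M < p * p) :
    M ≤ Subgroup.normalizer ((Subgroup.zpowers x : Subgroup G) : Set G) := by
  intro m hm
  by_contra hn
  have hPM : Subgroup.zpowers x ≤ M := Subgroup.zpowers_le.mpr hxM
  have hPc : Nat.card (Subgroup.zpowers x) = p := by rw [Nat.card_zpowers, hx]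
  have hP'c : Nat.card ((Subgroup.zpowers x).map (MulAut.conj m).toMonoidHom) = p := by
    rw [Subgroup.card_map_of_injective (MulAut.conj m).injective, hPc]
  have hne : (Subgroup.zpowers x).map (MulAut.conj m).toMonoidHom ≠ Subgroup.zpowers x :=
    fun he => hn (mem_normalizer_of_map_conj he)
  have hinf : Nat.card (Subgroup.zpowers x ⊓ (Subgroup.zpowers x).map (MulAut.conj m).toMonoidHom :
      Subgroup G) = 1 := by
    have hd : Nat.card (Subgroup.zpowers x ⊓ (Subgroup.zpowers x).map (MulAut.conj m).toMonoidHom :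
        Subgroup G) ∣ p := by
      rw [← hPc]; exact Subgroup.card_dvd_of_le inf_le_left
    rcases (Nat.dvd_prime hp).mp hd with h1 | h1
    · exact h1
    · exfalso
      have e1 : (Subgroup.zpowers x ⊓ (Subgroup.zpowers x).map (MulAut.conj m).toMonoidHom :
          Subgroup G) = Subgroup.zpowers x :=
        Subgroup.eq_of_le_of_card_ge inf_le_left (by rw [h1, hPc])
      have hle : Subgroup.zpowers x ≤ (Subgroup.zpowers x).map (MulAut.conj m).toMonoidHom := by
        intro y hy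
        have hy' : y ∈ (Subgroup.zpowers x ⊓
            (Subgroup.zpowers x).map (MulAut.conj m).toMonoidHom : Subgroup G) := by
          rw [e1]; exact hy
        exact (Subgroup.mem_inf.mp hy').2
      exact hne (Subgroup.eq_of_le_of_card_ge hle (by rw [hPc, hP'c])).symm
  have hprod := Cfsg.Agent.Lib.Helper7.card_mul_set_mul_card_inf (Subgroup.zpowers x)
    ((Subgroup.zpowers x).map (MulAut.conj m).toMonoidHom)
  rw [hinf, hPc, hP'c, mul_one] at hprod
  have hsub : (((Subgroup.zpowers x : Subgroup G) : Set G) *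
      (((Subgroup.zpowers x).map (MulAut.conj m).toMonoidHom : Subgroup G) : Set G)) ⊆
      (M : Set G) := by
    rintro _ ⟨a, ha, b, hb, rfl⟩
    obtain ⟨c, hc, rfl⟩ := hb
    exact M.mul_mem (hPM ha) (M.mul_mem (M.mul_mem hm (hPM hc)) (M.inv_mem hm))
  have := Nat.card_mono (Set.toFinite _) hsub
  rw [hprod] at this
  exact absurd this (not_le.mpr hM)

/-- a subgroup of prime order `p`, when Sylow `p`-subgroups have order `p`, is Sylow. -/
theorem exists_sylow_eq_of_card {p : ℕ} [Fact p.Prime] (hS : ∀ P : Sylow p G, Nat.card P = p)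
    (H : Subgroup G) (hH : Nat.card H = p) : ∃ P : Sylow p G, (P : Subgroup G) = H := by
  have hp : IsPGroup p H := IsPGroup.of_card (n := 1) (by rw [hH, pow_one])
  obtain ⟨Q, hQ⟩ := hp.exists_le_sylow
  exact ⟨Q, (Subgroup.eq_of_le_of_card_ge hQ (by rw [hH]; exact (hS Q).le)).symm⟩

omit [Finite G] in
/-- the image in `G` of a normal subgroup of `M` is normalized by `M` -/
theorem le_normalizer_map_subtype (M : Subgroup G) (K : Subgroup ↥M) [hK : K.Normal] :
    M ≤ Subgroup.normalizer ((K.map M.subtype : Subgroup G) : Set G) := by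
  rw [Subgroup.le_normalizer_iff]
  rintro m hm _ ⟨k, hk, rfl⟩
  exact ⟨⟨m, hm⟩ * k * ⟨m, hm⟩⁻¹, hK.conj_mem k hk ⟨m, hm⟩, rfl⟩

omit [Finite G] in
theorem sylow_smul_coe {p : ℕ} [Fact p.Prime] (g : G) (P : Sylow p G) :
    ((g • P : Sylow p G) : Subgroup G) = (P : Subgroup G).map (MulAut.conj g).toMonoidHom := by
  rw [Sylow.smul_def, Sylow.pointwise_smul_def]
  rfl

end General

variable {G : Type*} [Group G] [Finite G] [IsSimpleGroup G]

theorem isCoatom_of_card_24 (h : Nat.card G = 168) (K : Subgroup G) (hK : Nat.card K = 24) :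
    IsCoatom K := by
  rw [isCoatom_iff_ge_of_le]
  refine ⟨ne_top_of_card_lt h K (by rw [hK]; norm_num), ?_⟩
  intro b hb hKb
  have h1 := card_le_of_ne_top h b hb
  exact (Subgroup.eq_of_le_of_card_ge hKb (by rw [hK]; exact h1)).ge

theorem isCoatom_of_card_21 (h : Nat.card G = 168) (K : Subgroup G) (hK : Nat.card K = 21) :
    IsCoatom K := by
  rw [isCoatom_iff_ge_of_le]
  refine ⟨ne_top_of_card_lt h K (by rw [hK]; norm_num), ?_⟩
  intro b hb hKb
  have h1 := card_le_of_ne_top h b hb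
  have h2 := Subgroup.card_dvd_of_le hKb
  rw [hK] at h2
  have h3 : Nat.card b = 21 := by
    obtain ⟨k, hk⟩ := h2
    have hpos : 0 < Nat.card b := Nat.card_pos
    rw [hk] at h1 hpos ⊢
    have : k = 1 := by omega
    rw [this]
  exact (Subgroup.eq_of_le_of_card_ge hKb (by rw [hK, h3])).ge

theorem not_isCoatom_of_le (h : Nat.card G = 168) {M K : Subgroup G} (hMK : M ≤ K)
    (hK : Nat.card K = 24) (hM : Nat.card M < 24) : ¬ IsCoatom M := by
  intro hc
  have hKt : K ≠ ⊤ := ne_top_of_card_lt h K (by rw [hK]; norm_num)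
  have := (hc.le_iff_eq hKt).mp hMK
  rw [this] at hK
  omega

theorem eq_normalizer_of_isCoatom {M : Subgroup G} (hM : IsCoatom M) (A : Subgroup G)
    (hA1 : A ≠ ⊥) (hA2 : A ≠ ⊤) (hle : M ≤ Subgroup.normalizer (A : Set G)) :
    Subgroup.normalizer (A : Set G) = M :=
  (hM.le_iff_eq (normalizer_ne_top A hA1 hA2)).mp hle

theorem ne_bot_top_of_card (h : Nat.card G = 168) (A : Subgroup G) (h1 : 1 < Nat.card A)
    (h2 : Nat.card A < 168) : A ≠ ⊥ ∧ A ≠ ⊤ :=
  ⟨ne_bot_of_one_lt_card A h1, ne_top_of_card_lt h A h2⟩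

/-- coatoms of order divisible by 7 are normalizers of Sylow 7-subgroups -/
theorem coatom_seven (h : Nat.card G = 168) (M : Subgroup G) (hM : IsCoatom M)
    (h7 : 7 ∣ Nat.card M) : ∃ P : Sylow 7 G, Subgroup.normalizer ((P : Subgroup G) : Set G) = M := by
  haveI : Fact (Nat.Prime 7) := ⟨by norm_num⟩
  obtain ⟨x, hx⟩ := exists_prime_orderOf_dvd_card' (G := M) 7 h7
  have hxG : orderOf (x : G) = 7 := by rw [Subgroup.orderOf_coe]; exact hx
  obtain ⟨P, hP⟩ := exists_sylow_eq_zpowers (card_sylow7 h) hxG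
  have hle : M ≤ Subgroup.normalizer ((P : Subgroup G) : Set G) := by
    rw [hP]
    apply le_normalizer_of_card_lt_sq (by norm_num) hxG M x.2
    have := card_le_of_ne_top h M hM.1
    omega
  have hPc : Nat.card (P : Subgroup G) = 7 := card_sylow7 h P
  obtain ⟨hb, ht⟩ := ne_bot_top_of_card h (P : Subgroup G) (by rw [hPc]; norm_num)
    (by rw [hPc]; norm_num)
  exact ⟨P, eq_normalizer_of_isCoatom hM _ hb ht hle⟩

theorem normalizer7_not_comm (h : Nat.card G = 168) (P : Sylow 7 G) :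
    ¬ IsMulCommutative ↥(Subgroup.normalizer ((P : Subgroup G) : Set G)) := by
  intro hc
  have hle : Subgroup.normalizer ((P : Subgroup G) : Set G) ≤ (P : Subgroup G) := by
    intro m hm
    rw [← centralizer7 h P, Subgroup.mem_centralizer_iff]
    intro y hy
    have := hc.is_comm.comm ⟨y, Subgroup.le_normalizer hy⟩ ⟨m, hm⟩
    exact congrArg Subtype.val this
  have := Subgroup.card_le_of_le hle
  rw [card_normalizer7 h P, show Nat.card (P : Subgroup G) = 7 from card_sylow7 h P] at this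
  omega

omit [IsSimpleGroup G] in
theorem normalizer7_conj (P Q : Sylow 7 G) :
    ∃ g : G, Subgroup.normalizer ((Q : Subgroup G) : Set G) =
      (Subgroup.normalizer ((P : Subgroup G) : Set G)).map (MulAut.conj g).toMonoidHom := by
  haveI : Fact (Nat.Prime 7) := ⟨by norm_num⟩
  obtain ⟨g, hg⟩ := MulAction.exists_smul_eq G P Q
  refine ⟨g, ?_⟩
  rw [← normalizer_map_conj, ← sylow_smul_coe, hg]


/-! ### facts about `Perm (Fin 4)` -/

/-- a 3-cycle -/
def τ3 : Equiv.Perm (Fin 4) := Equiv.swap 0 1 * Equiv.swap 1 2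
/-- a transposition inverting it -/
def σ2 : Equiv.Perm (Fin 4) := Equiv.swap 0 1
/-- double transpositions -/
def va : Equiv.Perm (Fin 4) := Equiv.swap 0 1 * Equiv.swap 2 3
/-- double transpositions -/
def vb : Equiv.Perm (Fin 4) := Equiv.swap 0 2 * Equiv.swap 1 3

theorem perm_facts1 : τ3 * τ3 * τ3 = 1 ∧ τ3 ≠ 1 ∧ σ2 * σ2 = 1 ∧ σ2 ≠ 1 ∧ σ2 * τ3 * σ2⁻¹ = τ3⁻¹ := by
  decide

theorem perm_facts2 : va * va = 1 ∧ vb * vb = 1 ∧ va * vb = vb * va ∧ va ≠ 1 ∧ vb ≠ 1 ∧ va ≠ vb := by
  decide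

theorem perm_facts3 : ∀ τ : Equiv.Perm (Fin 4),
    (τ * va * τ⁻¹ = va ∨ τ * va * τ⁻¹ = vb ∨ τ * va * τ⁻¹ = va * vb) ∧
    (τ * vb * τ⁻¹ = va ∨ τ * vb * τ⁻¹ = vb ∨ τ * vb * τ⁻¹ = va * vb) := by decide

/-- the normal four-subgroup of `S₄` -/
def V4 : Subgroup (Equiv.Perm (Fin 4)) :=
  fourSub va vb perm_facts2.1 perm_facts2.2.1 perm_facts2.2.2.1

instance isKleinFour_V4 : IsKleinFour ↥V4 :=
  isKleinFour_fourSub perm_facts2.2.2.2.1 perm_facts2.2.2.2.2.1 perm_facts2.2.2.2.2.2

theorem V4_conj_mem (τ v : Equiv.Perm (Fin 4)) (hv : v ∈ V4) : τ * v * τ⁻¹ ∈ V4 := by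
  have ha : τ * va * τ⁻¹ ∈ V4 := by
    rcases (perm_facts3 τ).1 with h | h | h <;> rw [h]
    · exact left_mem_fourSub
    · exact right_mem_fourSub
    · exact V4.mul_mem left_mem_fourSub right_mem_fourSub
  have hb : τ * vb * τ⁻¹ ∈ V4 := by
    rcases (perm_facts3 τ).2 with h | h | h <;> rw [h]
    · exact left_mem_fourSub
    · exact right_mem_fourSub
    · exact V4.mul_mem left_mem_fourSub right_mem_fourSub
  rcases hv with rfl | rfl | rfl | rfl
  · simp [V4.one_mem]
  · exact ha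
  · exact hb
  · have : τ * (va * vb) * τ⁻¹ = (τ * va * τ⁻¹) * (τ * vb * τ⁻¹) := by group
    rw [this]
    exact V4.mul_mem ha hb

section General2

variable {G : Type*} [Group G]

/-- a subgroup isomorphic to `S₄` normalizes a four-subgroup it contains -/
theorem exists_normal_four (M : Subgroup G) (e : ↥M ≃* Equiv.Perm (Fin 4)) :
    ∃ W : Subgroup G, IsKleinFour ↥W ∧ W ≤ M ∧ M ≤ Subgroup.normalizer (W : Set G) := by
  have hf : Function.Injective (M.subtype.comp e.symm.toMonoidHom) :=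
    M.subtype_injective.comp e.symm.injective
  refine ⟨V4.map (M.subtype.comp e.symm.toMonoidHom), isKleinFour_map _ hf V4, ?_, ?_⟩
  · rintro _ ⟨v, -, rfl⟩
    exact (e.symm v).2
  · rw [Subgroup.le_normalizer_iff]
    rintro m hm _ ⟨v, hv, rfl⟩
    refine ⟨e ⟨m, hm⟩ * v * (e ⟨m, hm⟩)⁻¹, V4_conj_mem _ v hv, ?_⟩
    simp

end General2

variable {G : Type*} [Group G] [Finite G] [IsSimpleGroup G]

theorem equiv_perm_of_card_24 (h : Nat.card G = 168) (K : Subgroup G) (hK : Nat.card K = 24) :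
    Nonempty (↥K ≃* Equiv.Perm (Fin 4)) := by
  apply Cfsg.Agent.S1012.result hK
  intro g hg
  have h1 : orderOf (g : G) = 6 := by rw [Subgroup.orderOf_coe]; exact hg
  rcases orderOf_mem h (g : G) with h2 | h2 | h2 | h2 | h2 <;> omega

/-- the normalizer of a Sylow 3-subgroup lies in a subgroup of order 24 -/
theorem normalizer3_le_card24 (h : Nat.card G = 168) (Q : Sylow 3 G) :
    ∃ K : Subgroup G, Nat.card K = 24 ∧ Subgroup.normalizer ((Q : Subgroup G) : Set G) ≤ K := by
  haveI : Fact (Nat.Prime 3) := ⟨by norm_num⟩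
  haveI : Fact (Nat.Prime 2) := ⟨by norm_num⟩
  obtain ⟨T⟩ : Nonempty (Sylow 2 G) := inferInstance
  obtain ⟨D⟩ := exists_dihData h T
  have hK₀c : Nat.card (Subgroup.normalizer ((U₁ T D : Subgroup G) : Set G)) = 24 :=
    card_normalizer_four h _ (isKleinFour_U₁ T D)
  obtain ⟨e⟩ := normalizer_four_equiv h _ (isKleinFour_U₁ T D)
  obtain ⟨h1, h2, h3, h4, h5⟩ := perm_facts1
  have ht3 : ((e.symm τ3 : ↥(Subgroup.normalizer ((U₁ T D : Subgroup G) : Set G))) : G) ^ 3 = 1 := by
    have : (e.symm τ3) ^ 3 = 1 := by rw [← map_pow, pow_succ, pow_two, h1, map_one]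
    exact congrArg Subtype.val this
  have ht1 : ((e.symm τ3 : ↥(Subgroup.normalizer ((U₁ T D : Subgroup G) : Set G))) : G) ≠ 1 := by
    intro h0
    apply h2
    have h0' : e.symm τ3 = 1 := Subtype.ext h0
    have := congrArg e h0'
    simpa using this
  have hu2 : ((e.symm σ2 : ↥(Subgroup.normalizer ((U₁ T D : Subgroup G) : Set G))) : G) ^ 2 = 1 := by
    have : (e.symm σ2) ^ 2 = 1 := by rw [← map_pow, pow_two, h3, map_one]
    exact congrArg Subtype.val this
  have hu1 : ((e.symm σ2 : ↥(Subgroup.normalizer ((U₁ T D : Subgroup G) : Set G))) : G) ≠ 1 := by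
    intro h0
    apply h4
    have h0' : e.symm σ2 = 1 := Subtype.ext h0
    have := congrArg e h0'
    simpa using this
  have hconj : ((e.symm σ2 : ↥(Subgroup.normalizer ((U₁ T D : Subgroup G) : Set G))) : G) *
      (e.symm τ3 : ↥(Subgroup.normalizer ((U₁ T D : Subgroup G) : Set G))) *
      ((e.symm σ2 : ↥(Subgroup.normalizer ((U₁ T D : Subgroup G) : Set G))) : G)⁻¹ =
      ((e.symm τ3 : ↥(Subgroup.normalizer ((U₁ T D : Subgroup G) : Set G))) : G)⁻¹ := by
    have : e.symm σ2 * e.symm τ3 * (e.symm σ2)⁻¹ = (e.symm τ3)⁻¹ := by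
      rw [← map_inv, ← map_mul, ← map_mul, h5, map_inv]
    exact congrArg Subtype.val this
  have htK := (e.symm τ3).2
  have huK := (e.symm σ2).2
  generalize ((e.symm τ3 : ↥(Subgroup.normalizer ((U₁ T D : Subgroup G) : Set G))) : G) = t at *
  generalize ((e.symm σ2 : ↥(Subgroup.normalizer ((U₁ T D : Subgroup G) : Set G))) : G) = u at *
  have hto : orderOf t = 3 := orderOf_eq_prime ht3 ht1
  have huo : orderOf u = 2 := orderOf_eq_prime hu2 hu1
  obtain ⟨Q₀, hQ₀⟩ := exists_sylow_eq_zpowers (card_sylow3 h) hto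
  have huN : u ∈ Subgroup.normalizer ((Q₀ : Subgroup G) : Set G) := by
    apply mem_normalizer_of_map_conj
    rw [hQ₀, MonoidHom.map_zpowers]
    show Subgroup.zpowers (u * t * u⁻¹) = _
    rw [hconj, Subgroup.zpowers_inv]
  have huQ : u ∉ (Q₀ : Subgroup G) := by
    intro hmem
    rw [hQ₀] at hmem
    have := orderOf_dvd_of_mem_zpowers hmem
    rw [huo, hto] at this
    omega
  have hQK : (Q₀ : Subgroup G) ≤ Subgroup.normalizer ((U₁ T D : Subgroup G) : Set G) := by
    rw [hQ₀, Subgroup.zpowers_le]; exact htK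
  have hN6 := card_normalizer3 h Q₀
  have hQ3 : Nat.card (Q₀ : Subgroup G) = 3 := card_sylow3 h Q₀
  have hQL : (Q₀ : Subgroup G) ≤ Subgroup.normalizer ((Q₀ : Subgroup G) : Set G) ⊓
      Subgroup.normalizer ((U₁ T D : Subgroup G) : Set G) := le_inf Subgroup.le_normalizer hQK
  have huL : u ∈ Subgroup.normalizer ((Q₀ : Subgroup G) : Set G) ⊓
      Subgroup.normalizer ((U₁ T D : Subgroup G) : Set G) := Subgroup.mem_inf.mpr ⟨huN, huK⟩
  have hLN : Nat.card (Subgroup.normalizer ((Q₀ : Subgroup G) : Set G) ⊓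
      Subgroup.normalizer ((U₁ T D : Subgroup G) : Set G) : Subgroup G) = 6 := by
    have d1 : 3 ∣ Nat.card (Subgroup.normalizer ((Q₀ : Subgroup G) : Set G) ⊓
      Subgroup.normalizer ((U₁ T D : Subgroup G) : Set G) : Subgroup G) := by
      have := Subgroup.card_dvd_of_le hQL
      rwa [hQ3] at this
    have d2 : Nat.card (Subgroup.normalizer ((Q₀ : Subgroup G) : Set G) ⊓
      Subgroup.normalizer ((U₁ T D : Subgroup G) : Set G) : Subgroup G) ∣ 6 := by
      have := Subgroup.card_dvd_of_le (inf_le_left : Subgroup.normalizer ((Q₀ : Subgroup G) : Set G) ⊓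
        Subgroup.normalizer ((U₁ T D : Subgroup G) : Set G) ≤ _)
      rwa [hN6] at this
    have hne3 : Nat.card (Subgroup.normalizer ((Q₀ : Subgroup G) : Set G) ⊓
      Subgroup.normalizer ((U₁ T D : Subgroup G) : Set G) : Subgroup G) ≠ 3 := by
      intro h3'
      have := Subgroup.eq_of_le_of_card_ge hQL (by rw [h3', hQ3])
      exact huQ (this ▸ huL)
    have hle6 := Nat.le_of_dvd (by norm_num) d2
    obtain ⟨k, hk⟩ := d1
    rw [hk] at d2 hne3 hle6 ⊢
    have hk2 : k ≤ 2 := by omega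
    interval_cases k
    · simp at d2
    · exact absurd rfl hne3
    · rfl
  have hNK : Subgroup.normalizer ((Q₀ : Subgroup G) : Set G) ≤
      Subgroup.normalizer ((U₁ T D : Subgroup G) : Set G) := by
    have := Subgroup.eq_of_le_of_card_ge (inf_le_left :
      Subgroup.normalizer ((Q₀ : Subgroup G) : Set G) ⊓
      Subgroup.normalizer ((U₁ T D : Subgroup G) : Set G) ≤ _) (by rw [hLN, hN6])
    intro y hy
    rw [← this] at hy
    exact (Subgroup.mem_inf.mp hy).2
  obtain ⟨g, hg⟩ := MulAction.exists_smul_eq G Q₀ Q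
  refine ⟨(Subgroup.normalizer ((U₁ T D : Subgroup G) : Set G)).map (MulAut.conj g).toMonoidHom,
    ?_, ?_⟩
  · rw [Subgroup.card_map_of_injective (MulAut.conj g).injective, hK₀c]
  · rw [← hg, sylow_smul_coe, normalizer_map_conj]
    exact Subgroup.map_mono hNK

end Cfsg.Agent.Lib.Helper2.S168
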