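import Mathlib
import Cfsg.Agent.Lib.Helper2.S168E

set_option autoImplicit false

/-!
# Simple groups of order 168, part F: maximal subgroups (continued)
-/

namespace Cfsg.Agent.Lib.Helper2.S168

open Cfsg.Agent.S3864 Cfsg.Agent.Lib.Helper1 Cfsg.Agent.Lib.Helper2
open Cfsg.Agent.Lib.Helper2.DihedralFusion Cfsg.Agent.Lib.Helper2.DihedralFour
open Cfsg.Agent.Lib.Helper2.FourGroup
open Cfsg.Agent.Lib.Lead.SylowCount
open scoped Pointwise

theorem arith_coatom (c : ℕ) (hc : c ≤ 24) (hd : c ∣ 168) (h7 : ¬ 7 ∣ c) :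
    c = 1 ∨ c = 2 ∨ c = 4 ∨ c = 8 ∨ c = 3 ∨ c = 6 ∨ c = 12 ∨ c = 24 := by
  interval_cases c <;> omega

variable {G : Type*} [Group G] [Finite G] [IsSimpleGroup G]

theorem not_isCoatom_of_card_12 (h : Nat.card G = 168) (M : Subgroup G) (hc : Nat.card M = 12) :
    ¬ IsCoatom M := by
  haveI : Fact (Nat.Prime 3) := ⟨by norm_num⟩
  haveI : Fact (Nat.Prime 2) := ⟨by norm_num⟩
  intro hM
  obtain ⟨Q'⟩ : Nonempty (Sylow 3 ↥M) := inferInstance
  have hQ'c : Nat.card Q' = 3 := card_sylow_of_card_eq 3 4 (by rw [hc]) (by norm_num) Q'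
  have hQ'c' : Nat.card (Q' : Subgroup ↥M) = 3 := hQ'c
  have hdvd : Nat.card (Sylow 3 ↥M) ∣ 4 :=
    card_sylow_dvd_of_card Q' hQ'c (by rw [hc]) (by norm_num)
  have hmod : Nat.card (Sylow 3 ↥M) ≡ 1 [MOD 3] := card_sylow_modEq_one 3 ↥M
  have hmul : Nat.card (Sylow 3 ↥M) *
      Nat.card (Subgroup.normalizer ((Q' : Subgroup ↥M) : Set ↥M)) = Nat.card ↥M :=
    card_sylow_mul_card_normalizer 3 Q'
  rw [hc] at hmul
  have hQc : Nat.card ((Q' : Subgroup ↥M).map M.subtype) = 3 := by
    rw [Subgroup.card_map_of_injective M.subtype_injective]; exact hQ'c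
  obtain ⟨Q, hQ⟩ := exists_sylow_eq_of_card (card_sylow3 h) _ hQc
  have hn : Nat.card (Sylow 3 ↥M) = 1 ∨ Nat.card (Sylow 3 ↥M) = 4 := by
    have hle := Nat.le_of_dvd (by norm_num) hdvd
    unfold Nat.ModEq at hmod
    generalize Nat.card (Sylow 3 ↥M) = n at *
    interval_cases n <;> omega
  rcases hn with hn | hn
  · rw [hn, one_mul] at hmul
    have htop : Subgroup.normalizer ((Q' : Subgroup ↥M) : Set ↥M) = ⊤ :=
      (Subgroup.card_eq_iff_eq_top _).mp (by rw [hmul, hc])
    haveI hnorm : (Q' : Subgroup ↥M).Normal := Subgroup.normalizer_eq_top_iff.mp htop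
    have hle := le_normalizer_map_subtype M (Q' : Subgroup ↥M)
    rw [← hQ] at hle
    have := Subgroup.card_le_of_le hle
    rw [hc, card_normalizer3 h Q] at this
    omega
  · rw [hn] at hmul
    have hN3 : Nat.card (Subgroup.normalizer ((Q' : Subgroup ↥M) : Set ↥M)) = 3 := by omega
    have hNQ : Subgroup.normalizer ((Q' : Subgroup ↥M) : Set ↥M) = (Q' : Subgroup ↥M) :=
      (Subgroup.eq_of_le_of_card_ge Subgroup.le_normalizer (by rw [hN3, hQ'c'])).symm
    have hP : Subgroup.normalizer (Q' : Set ↥M) ≤ Subgroup.centralizer (Q' : Set ↥M) := by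
      intro a ha
      have ha' : a ∈ (Q' : Subgroup ↥M) := by
        have : a ∈ Subgroup.normalizer ((Q' : Subgroup ↥M) : Set ↥M) := ha
        rwa [hNQ] at this
      rw [Subgroup.mem_centralizer_iff]
      intro b hb
      exact commute_of_card_prime (Q' : Subgroup ↥M) hQ'c hb ha'
    have hcompl := MonoidHom.ker_transferSylow_isComplement' Q' hP
    have hcard := hcompl.card_mul_card
    rw [hQ'c', hc] at hcard
    have hK4 : Nat.card (MonoidHom.transferSylow Q' hP).ker = 4 := by omega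
    have hV4 : Nat.card ((MonoidHom.transferSylow Q' hP).ker.map M.subtype) = 4 := by
      rw [Subgroup.card_map_of_injective M.subtype_injective]; exact hK4
    have hMV := le_normalizer_map_subtype M (MonoidHom.transferSylow Q' hP).ker
    have hVp : IsPGroup 2 ((MonoidHom.transferSylow Q' hP).ker.map M.subtype) :=
      IsPGroup.of_card (n := 2) (by rw [hV4]; norm_num)
    obtain ⟨T, hVT⟩ := hVp.exists_le_sylow
    have hTV := sylow2_le_normalizer h T hVT hV4
    obtain ⟨hb, ht⟩ := ne_bot_top_of_card h ((MonoidHom.transferSylow Q' hP).ker.map M.subtype)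
      (by rw [hV4]; norm_num) (by rw [hV4]; norm_num)
    have hNM := eq_normalizer_of_isCoatom hM _ hb ht hMV
    rw [hNM] at hTV
    have := Subgroup.card_dvd_of_le hTV
    rw [show Nat.card (T : Subgroup G) = 8 from card_sylow2 h T, hc] at this
    omega

/-- distinct four-subgroups have distinct normalizers -/
theorem four_eq_of_normalizer_eq (h : Nat.card G = 168) (U W : Subgroup G) (hU : IsKleinFour ↥U)
    (hW : IsKleinFour ↥W)
    (hN : Subgroup.normalizer (U : Set G) = Subgroup.normalizer (W : Set G)) : U = W := by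
  haveI : Fact (Nat.Prime 2) := ⟨by norm_num⟩
  by_contra hne
  haveI := hU
  haveI := hW
  have hU4 : Nat.card U = 4 := IsKleinFour.card_four
  have hW4 : Nat.card W = 4 := IsKleinFour.card_four
  have hUle : U ≤ Subgroup.normalizer (W : Set G) := by rw [← hN]; exact Subgroup.le_normalizer
  have hcoe : ((U ⊔ W : Subgroup G) : Set G) = (U : Set G) * (W : Set G) :=
    Subgroup.coe_mul_of_left_le_normalizer_right U W hUle
  have hprod := Cfsg.Agent.Lib.Helper7.card_mul_set_mul_card_inf U W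
  rw [← hcoe, hU4, hW4] at hprod
  have hprod' : Nat.card (U ⊔ W : Subgroup G) * Nat.card (U ⊓ W : Subgroup G) = 16 := hprod
  have hinf : Nat.card (U ⊓ W : Subgroup G) ∣ 4 := by
    have := Subgroup.card_dvd_of_le (inf_le_left : U ⊓ W ≤ U)
    rwa [hU4] at this
  have hinf4 : Nat.card (U ⊓ W : Subgroup G) ≠ 4 := by
    intro h4
    have e1 : (U ⊓ W : Subgroup G) = U :=
      Subgroup.eq_of_le_of_card_ge inf_le_left (by rw [h4, hU4])
    have hle : U ≤ W := by
      intro y hy
      have hy' : y ∈ (U ⊓ W : Subgroup G) := by rw [e1]; exact hy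
      exact (Subgroup.mem_inf.mp hy').2
    exact hne (Subgroup.eq_of_le_of_card_ge hle (by rw [hU4, hW4]))
  have hJd : Nat.card (U ⊔ W : Subgroup G) ∣ 168 := by
    rw [← h]; exact Subgroup.card_subgroup_dvd_card _
  have hJ8 : Nat.card (U ⊔ W : Subgroup G) = 8 := by
    have hle4 := Nat.le_of_dvd (by norm_num) hinf
    generalize Nat.card (U ⊓ W : Subgroup G) = i at *
    generalize Nat.card (U ⊔ W : Subgroup G) = j at *
    interval_cases i
    · omega
    · have : j = 16 := by omega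
      rw [this] at hJd
      norm_num at hJd
    · omega
    · norm_num at hinf
    · exact absurd rfl hinf4
  have hJp : IsPGroup 2 (U ⊔ W : Subgroup G) := IsPGroup.of_card (n := 3) (by rw [hJ8]; norm_num)
  obtain ⟨T, hJT⟩ := hJp.exists_le_sylow
  have hJeq : (U ⊔ W : Subgroup G) = (T : Subgroup G) :=
    Subgroup.eq_of_le_of_card_ge hJT
      (by rw [hJ8, show Nat.card (T : Subgroup G) = 8 from card_sylow2 h T])
  have hNJ : Subgroup.normalizer (U : Set G) ≤
      Subgroup.normalizer (((U ⊔ W : Subgroup G) : Subgroup G) : Set G) := by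
    intro n hn
    apply mem_normalizer_of_map_conj
    have hn' : n ∈ Subgroup.normalizer (W : Set G) := by rw [← hN]; exact hn
    rw [Subgroup.map_sup, map_conj_of_mem_normalizer hn, map_conj_of_mem_normalizer hn']
  rw [hJeq, normalizer2 h T] at hNJ
  have := Subgroup.card_le_of_le hNJ
  rw [card_normalizer_four h U hU, show Nat.card (T : Subgroup G) = 8 from card_sylow2 h T] at this
  omega

theorem not_isCoatom_of_two_group (h : Nat.card G = 168) (M : Subgroup G) (k : ℕ)
    (hk : Nat.card M = 2 ^ k) (hlt : Nat.card M < 24) : ¬ IsCoatom M := by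
  haveI : Fact (Nat.Prime 2) := ⟨by norm_num⟩
  have hMp : IsPGroup 2 M := IsPGroup.of_card hk
  obtain ⟨T, hMT⟩ := hMp.exists_le_sylow
  obtain ⟨D⟩ := exists_dihData h T
  have hTK := sylow2_le_normalizer h T (U₁_le T D) (card_U₁ T D)
  exact not_isCoatom_of_le h (hMT.trans hTK) (card_normalizer_four h _ (isKleinFour_U₁ T D)) hlt

theorem not_isCoatom_of_three (h : Nat.card G = 168) (M : Subgroup G) (h3 : 3 ∣ Nat.card M)
    (hlt : Nat.card M < 9) : ¬ IsCoatom M := by
  haveI : Fact (Nat.Prime 3) := ⟨by norm_num⟩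
  obtain ⟨x, hx⟩ := exists_prime_orderOf_dvd_card' (G := M) 3 h3
  have hxG : orderOf (x : G) = 3 := by rw [Subgroup.orderOf_coe]; exact hx
  obtain ⟨Q, hQ⟩ := exists_sylow_eq_zpowers (card_sylow3 h) hxG
  have hle' := le_normalizer_of_card_lt_sq (by norm_num) hxG M x.2 (by omega)
  rw [← hQ] at hle'
  obtain ⟨K, hK24, hNK⟩ := normalizer3_le_card24 h Q
  exact not_isCoatom_of_le h (hle'.trans hNK) hK24 (by omega)

theorem coatom_cases (h : Nat.card G = 168) (M : Subgroup G) (hM : IsCoatom M) :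
    Nat.card M = 24 ∨ ∃ P : Sylow 7 G, Subgroup.normalizer ((P : Subgroup G) : Set G) = M := by
  by_cases h7 : 7 ∣ Nat.card M
  · exact Or.inr (coatom_seven h M hM h7)
  left
  have hle := card_le_of_ne_top h M hM.1
  have hd : Nat.card M ∣ 168 := by rw [← h]; exact Subgroup.card_subgroup_dvd_card M
  rcases arith_coatom _ hle hd h7 with hc | hc | hc | hc | hc | hc | hc | hc
  · exact absurd hM (not_isCoatom_of_two_group h M 0 (by rw [hc]; norm_num) (by omega))
  · exact absurd hM (not_isCoatom_of_two_group h M 1 (by rw [hc]; norm_num) (by omega))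
  · exact absurd hM (not_isCoatom_of_two_group h M 2 (by rw [hc]; norm_num) (by omega))
  · exact absurd hM (not_isCoatom_of_two_group h M 3 (by rw [hc]; norm_num) (by omega))
  · exact absurd hM (not_isCoatom_of_three h M (by rw [hc]) (by omega))
  · exact absurd hM (not_isCoatom_of_three h M (by rw [hc]; norm_num) (by omega))
  · exact absurd hM (not_isCoatom_of_card_12 h M hc)
  · exact hc

omit [IsSimpleGroup G] in
/-- every four-subgroup is conjugate to `U₁` or `U₂` -/
theorem four_conj_global (T : Sylow 2 G) (D : DihData (T : Subgroup G) 4 2) (V : Subgroup G)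
    (hV : IsKleinFour ↥V) :
    ∃ x : G, V.map (MulAut.conj x).toMonoidHom = U₁ T D ∨
      V.map (MulAut.conj x).toMonoidHom = U₂ T D := by
  haveI : Fact (Nat.Prime 2) := ⟨Nat.prime_two⟩
  haveI := hV
  have hV2 : IsPGroup 2 ↥V := IsPGroup.of_card (n := 2) (by rw [IsKleinFour.card_four]; norm_num)
  obtain ⟨g, hg⟩ := exists_conj_le_of_not_dvd_index hV2 T.not_dvd_index
  have hV'P : V.map (MulAut.conj g⁻¹).toMonoidHom ≤ (T : Subgroup G) := by
    rintro _ ⟨v, hv, rfl⟩
    have := hg v hv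
    simpa [MulAut.conj_apply] using this
  haveI hV' : IsKleinFour ↥(V.map (MulAut.conj g⁻¹).toMonoidHom) :=
    isKleinFour_map _ (MulAut.conj g⁻¹).injective V
  obtain ⟨s, -, hs⟩ := four_conj_U T D _ hV'P
  refine ⟨s * g⁻¹, ?_⟩
  have e : (V.map (MulAut.conj g⁻¹).toMonoidHom).map (MulAut.conj s).toMonoidHom =
      V.map (MulAut.conj (s * g⁻¹)).toMonoidHom := by
    rw [Subgroup.map_map]
    congr 1
    ext y
    simp [MulAut.conj_apply, mul_assoc]
  rw [← e]
  exact hs

theorem main (h : Nat.card G = 168) :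
    (∀ M : Subgroup G, IsCoatom M → Nonempty (↥M ≃* Equiv.Perm (Fin 4)) ∨
      (Nat.card ↥M = 21 ∧ ¬ IsMulCommutative ↥M)) ∧
    (∀ M M' : Subgroup G, IsCoatom M → IsCoatom M' → Nat.card ↥M = 21 → Nat.card ↥M' = 21 →
      ∃ g : G, M' = M.map (MulAut.conj g).toMonoidHom) ∧
    ∃ M₁ M₂ : Subgroup G, IsCoatom M₁ ∧ IsCoatom M₂ ∧ Nonempty (↥M₁ ≃* Equiv.Perm (Fin 4)) ∧
      Nonempty (↥M₂ ≃* Equiv.Perm (Fin 4)) ∧
      (∀ g : G, M₂ ≠ M₁.map (MulAut.conj g).toMonoidHom) ∧
      ∀ M : Subgroup G, IsCoatom M → Nonempty (↥M ≃* Equiv.Perm (Fin 4)) →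
        ∃ g : G, M = M₁.map (MulAut.conj g).toMonoidHom ∨
          M = M₂.map (MulAut.conj g).toMonoidHom := by
  refine ⟨?_, ?_, ?_⟩
  · intro M hM
    rcases coatom_cases h M hM with hc | ⟨P, rfl⟩
    · exact Or.inl (equiv_perm_of_card_24 h M hc)
    · exact Or.inr ⟨card_normalizer7 h P, normalizer7_not_comm h P⟩
  · intro M M' hM hM' hc hc'
    rcases coatom_cases h M hM with hc24 | ⟨P, rfl⟩
    · omega
    rcases coatom_cases h M' hM' with hc24 | ⟨P', rfl⟩
    · omega
    exact normalizer7_conj P P'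
  · obtain ⟨T⟩ : Nonempty (Sylow 2 G) := inferInstance
    obtain ⟨D⟩ := exists_dihData h T
    refine ⟨Subgroup.normalizer ((U₁ T D : Subgroup G) : Set G),
      Subgroup.normalizer ((U₂ T D : Subgroup G) : Set G),
      isCoatom_of_card_24 h _ (card_normalizer_four h _ (isKleinFour_U₁ T D)),
      isCoatom_of_card_24 h _ (card_normalizer_four h _ (isKleinFour_U₂ T D)),
      normalizer_four_equiv h _ (isKleinFour_U₁ T D),
      normalizer_four_equiv h _ (isKleinFour_U₂ T D), ?_, ?_⟩
    · intro g hg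
      rw [← normalizer_map_conj] at hg
      haveI := isKleinFour_U₁ T D
      have := four_eq_of_normalizer_eq h _ _ (isKleinFour_U₂ T D)
        (isKleinFour_map _ (MulAut.conj g).injective (U₁ T D)) hg
      exact not_conj_U₁_U₂ T D ⟨g, this.symm⟩
    · intro M hM ⟨e⟩
      obtain ⟨W, hWk, hWM, hMW⟩ := exists_normal_four M e
      haveI := hWk
      have hW4 : Nat.card W = 4 := IsKleinFour.card_four
      obtain ⟨hb, ht⟩ := ne_bot_top_of_card h W (by rw [hW4]; norm_num) (by rw [hW4]; norm_num)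
      have hNM := eq_normalizer_of_isCoatom hM W hb ht hMW
      obtain ⟨x, hx | hx⟩ := four_conj_global T D W hWk
      · refine ⟨x⁻¹, Or.inl ?_⟩
        rw [← hx, normalizer_map_conj, hNM, map_conj_inv_cancel]
      · refine ⟨x⁻¹, Or.inr ?_⟩
        rw [← hx, normalizer_map_conj, hNM, map_conj_inv_cancel]

end Cfsg.Agent.Lib.Helper2.S168
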