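import Mathlib

set_option autoImplicit false
set_option linter.unusedVariables false
set_option linter.unusedSectionVars false
set_option linter.style.longLine false
set_option linter.unusedSimpArgs false
set_option maxHeartbeats 800000

/-! # S1932, unit C: the `F₂` linear algebra core -/

namespace Cfsg.Agent.Lib.Helper2.S1932C

variable {V : Type*} [AddCommGroup V]

theorem mul_ap (α β : AddMonoid.End V) (v : V) : (α * β) v = α (β v) := rfl
theorem one_ap (v : V) : (1 : AddMonoid.End V) v = v := rfl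
theorem add_ap (α β : AddMonoid.End V) (v : V) : (α + β) v = α v + β v := rfl
theorem zero_ap (v : V) : (0 : AddMonoid.End V) v = 0 := rfl

theorem X_ap (α β : AddMonoid.End V) (v : V) :
    ((1 + α) * (1 + β)) v = v + β v + α v + α (β v) := by
  rw [mul_ap, add_ap, add_ap, one_ap, one_ap, map_add]
  abel

section pair

variable (h2 : ∀ v : V, v + v = 0) {α β : AddMonoid.End V}
  (ha : ∀ v, α (α v) = 0) (hb : ∀ v, β (β v) = 0)
  {n : ℕ} (hn : Odd n) (hx : ((1 + α) * (1 + β)) ^ n = 1)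

include h2 in
theorem eq_of_add_eq_zero {a b : V} (h : a + b = 0) : a = b := by
  have : a = a + (b + b) := by rw [h2 b, add_zero]
  rw [this, ← add_assoc, h, zero_add]

include h2 ha hb hn hx in
/-- (DEC) -/
theorem dec (v : V) (h : α (α v + β v) + β (α v + β v) = 0) : α v + β v = 0 := by
  set y : V := α v + β v with hy
  set u : V := v + β v with hu
  set X : AddMonoid.End V := (1 + α) * (1 + β) with hX
  have hβy : α y = β y := eq_of_add_eq_zero h2 h
  have hXy : X y = y := by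
    rw [hX, X_ap, ← hβy, ha y, add_zero, add_assoc, h2 (α y), add_zero]
  have hXu : X u = u + y := by
    rw [hX, X_ap]
    have e1 : β u = β v := by rw [hu, map_add, hb v, add_zero]
    have e2 : α u = α v + α (β v) := by rw [hu, map_add]
    rw [e1, e2, hy]
    have := h2 (α (β v))
    calc u + β v + (α v + α (β v)) + α (β v) = u + (α v + β v) + (α (β v) + α (β v)) := by abel
      _ = u + (α v + β v) := by rw [this, add_zero]
  have hpow : ∀ k : ℕ, (X ^ k) u = u + k • y := by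
    intro k
    induction k with
    | zero => simp [one_ap]
    | succ k ih =>
      rw [pow_succ', mul_ap, ih, map_add, map_nsmul, hXu, hXy, succ_nsmul]
      abel
  have h1 := hpow n
  rw [hx, one_ap] at h1
  obtain ⟨m, rfl⟩ := hn
  have h3 : (2 * m + 1) • y = y := by
    rw [add_nsmul, mul_nsmul, one_nsmul, two_nsmul, h2 y, nsmul_zero, zero_add]
  rw [h3] at h1
  have : y = 0 := by
    have h4 : u + y = u + 0 := by rw [add_zero]; exact h1.symm
    exact add_left_cancel h4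
  exact this

include h2 ha hb hn hx in
/-- (SP1) -/
theorem sp1 (u : V) (h1 : β u = 0) (h3 : β (α u) = 0) : α u = 0 := by
  have := dec h2 ha hb hn hx u (by rw [h1, add_zero, ha u, h3, add_zero])
  rw [h1, add_zero] at this
  exact this

include h2 ha hb hn hx in
/-- (SP2) -/
theorem sp2 (u : V) (h1 : α u = 0) (h3 : α (β u) = 0) : β u = 0 := by
  have := dec h2 ha hb hn hx u (by rw [h1, zero_add, hb u, h3, add_zero])
  rw [h1, zero_add] at this
  exact this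

include h2 ha hb hn hx in
/-- (NZ) -/
theorem nz (hne : α ≠ β) : ∃ v, β (α v) ≠ 0 := by
  by_contra hcon
  push Not at hcon
  apply hne
  ext v
  apply eq_of_add_eq_zero h2
  -- γ v = 0
  have hγγ : ∀ w : V, α (α w + β w) + β (α w + β w) = α (β w) := by
    intro w
    rw [map_add, map_add, ha w, hb w, hcon w, zero_add, add_zero, add_zero]
  apply dec h2 ha hb hn hx v
  rw [hγγ v]
  -- α (β v) = γ (γ v) = 0 by DEC at γ v
  have h5 := dec h2 ha hb hn hx (α v + β v) (by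
    rw [hγγ (α v + β v), map_add, hcon v, hb v, add_zero, map_zero])
  rw [← hγγ v]
  exact h5

end pair

/-- **UNIT C** (core) -/
theorem core {V : Type*} [AddCommGroup V] [Finite V] (h2 : ∀ v : V, v + v = 0)
    (𝔄 𝔅 : AddSubgroup (AddMonoid.End V))
    (hqA : ∀ α ∈ 𝔄, ∀ α' ∈ 𝔄, α * α' = 0) (hqB : ∀ β ∈ 𝔅, ∀ β' ∈ 𝔅, β * β' = 0)
    (hA0 : 𝔄 ≠ ⊥) (hB0 : 𝔅 ≠ ⊥)
    (hodd : ∀ α ∈ 𝔄, ∀ β ∈ 𝔅, α ≠ 0 → β ≠ 0 → α ≠ β ∧ ∃ n : ℕ, Odd n ∧ ((1 + α) * (1 + β)) ^ n = 1)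
    (hoff : Nat.card V ≤ Nat.card 𝔄 * Nat.card {v : V // ∀ α ∈ 𝔄, α v = 0}) :
    ∃ α ∈ 𝔄, ∃ β ∈ 𝔅, α ≠ 0 ∧ β ≠ 0 ∧ ∀ n : ℕ, ((1 + α) * (1 + β)) ^ n = 1 → 3 ∣ n := by
  classical
  haveI : Finite (AddMonoid.End V) := DFunLike.finite _
  -- elementwise forms of the quadratic hypotheses
  have hqA' : ∀ α ∈ 𝔄, ∀ α' ∈ 𝔄, ∀ v : V, α (α' v) = 0 := by
    intro α hα α' hα' v
    rw [← mul_ap, hqA α hα α' hα', zero_ap]
  have hqB' : ∀ β ∈ 𝔅, ∀ β' ∈ 𝔅, ∀ v : V, β (β' v) = 0 := by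
    intro β hβ β' hβ' v
    rw [← mul_ap, hqB β hβ β' hβ', zero_ap]
  -- nonzero elements
  obtain ⟨α1, hα1, hα1ne⟩ : ∃ α ∈ 𝔄, α ≠ 0 := by
    by_contra hcon
    push Not at hcon
    apply hA0
    rw [eq_bot_iff]
    intro α hα
    rw [AddSubgroup.mem_bot]
    exact hcon α hα
  obtain ⟨β0, hβ0, hβ0ne⟩ : ∃ β ∈ 𝔅, β ≠ 0 := by
    by_contra hcon
    push Not at hcon
    apply hB0
    rw [eq_bot_iff]
    intro β hβ
    rw [AddSubgroup.mem_bot]
    exact hcon β hβ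
  -- pair facts for (α, β0)
  have hSP1 : ∀ α ∈ 𝔄, α ≠ 0 → ∀ u : V, β0 u = 0 → β0 (α u) = 0 → α u = 0 := by
    intro α hα hαne u h1 h3
    obtain ⟨_, n, hn, hx⟩ := hodd α hα β0 hβ0 hαne hβ0ne
    exact sp1 h2 (hqA' α hα α hα) (hqB' β0 hβ0 β0 hβ0) hn hx u h1 h3
  have hSP2 : ∀ α ∈ 𝔄, α ≠ 0 → ∀ u : V, α u = 0 → α (β0 u) = 0 → β0 u = 0 := by
    intro α hα hαne u h1 h3
    obtain ⟨_, n, hn, hx⟩ := hodd α hα β0 hβ0 hαne hβ0ne
    exact sp2 h2 (hqA' α hα α hα) (hqB' β0 hβ0 β0 hβ0) hn hx u h1 h3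
  have hNZ : ∃ v, β0 (α1 v) ≠ 0 := by
    obtain ⟨hne, n, hn, hx⟩ := hodd α1 hα1 β0 hβ0 hα1ne hβ0ne
    exact nz h2 (hqA' α1 hα1 α1 hα1) (hqB' β0 hβ0 β0 hβ0) hn hx hne
  -- the sets
  let C : Set V := {v | ∀ α ∈ 𝔄, α v = 0}
  let I0 : Set V := {w | ∃ c ∈ C, β0 c = w}
  let K1 : Set V := {v | α1 v = 0}
  have hCK : C ⊆ K1 := fun v hv => hv α1 hα1
  have hsubI0 : ∀ i ∈ I0, ∀ i' ∈ I0, i - i' ∈ I0 := by
    rintro i ⟨c, hc, rfl⟩ i' ⟨c', hc', rfl⟩
    refine ⟨c - c', ?_, map_sub β0 c c'⟩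
    intro α hα
    rw [map_sub, hc α hα, hc' α hα, sub_zero]
  -- (i)
  have hi : ∀ α ∈ 𝔄, α ≠ 0 → ∀ w ∈ I0, α w = 0 → w = 0 := by
    rintro α hα hαne w ⟨c, hc, rfl⟩ hw
    exact hSP2 α hα hαne c (hc α hα) hw
  -- (ii)
  obtain ⟨w0, hw0I, hw0ne⟩ : ∃ w0 ∈ I0, w0 ≠ 0 := by
    obtain ⟨v, hv⟩ := hNZ
    refine ⟨β0 (α1 v), ⟨α1 v, ?_, rfl⟩, hv⟩
    intro α hα
    exact hqA' α hα α1 hα1 v
  -- (iii)
  have hcard1 : Nat.card I0 * Nat.card K1 ≤ Nat.card V := by
    rw [← Nat.card_prod]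
    apply Nat.card_le_card_of_injective (fun p : I0 × K1 => (p.1 : V) + (p.2 : V))
    rintro ⟨⟨i, hi1⟩, ⟨k, hk⟩⟩ ⟨⟨i', hi1'⟩, ⟨k', hk'⟩⟩ h
    simp only at h
    have h3 : i - i' = k' - k := by
      have : i - i' = (i + k) - (i' + k') + (k' - k) := by abel
      rw [this, h]; abel
    have h4 : i - i' ∈ I0 := hsubI0 i hi1 i' hi1'
    have h5 : α1 (i - i') = 0 := by
      rw [h3, map_sub]
      have hk0 : α1 k = 0 := hk
      have hk0' : α1 k' = 0 := hk'
      rw [hk0, hk0', sub_zero]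
    have h6 := hi α1 hα1 hα1ne _ h4 h5
    have h7 : i = i' := sub_eq_zero.mp h6
    have h8 : k = k' := by
      rw [h6] at h3
      exact (sub_eq_zero.mp h3.symm).symm
    subst h7; subst h8; rfl
  have hcard2 : Nat.card {v : V // ∀ α ∈ 𝔄, α v = 0} ≤ Nat.card K1 := by
    apply Nat.card_le_card_of_injective (fun c : {v : V // ∀ α ∈ 𝔄, α v = 0} => (⟨c.1, hCK c.2⟩ : K1))
    intro c c' h
    apply Subtype.ext
    have := congrArg Subtype.val h
    exact this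
  have hK1pos : 0 < Nat.card K1 := by
    haveI : Nonempty K1 := ⟨⟨0, map_zero α1⟩⟩
    exact Nat.card_pos
  have hcard3 : Nat.card I0 ≤ Nat.card 𝔄 := by
    have h1 : Nat.card I0 * Nat.card K1 ≤ Nat.card 𝔄 * Nat.card K1 :=
      hcard1.trans (hoff.trans (Nat.mul_le_mul_left _ hcard2))
    exact Nat.le_of_mul_le_mul_right h1 hK1pos
  -- (iv) θ
  have hθmem : ∀ α ∈ 𝔄, β0 (α w0) ∈ I0 := by
    intro α hα
    refine ⟨α w0, ?_, rfl⟩
    intro α' hα'
    exact hqA' α' hα' α hα w0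
  let θ : 𝔄 → I0 := fun α => ⟨β0 ((α : AddMonoid.End V) w0), hθmem α.1 α.2⟩
  have hβ0w0 : β0 w0 = 0 := by
    obtain ⟨c, hc, rfl⟩ := hw0I
    exact hqB' β0 hβ0 β0 hβ0 c
  have hθinj : Function.Injective θ := by
    intro a a' h
    have h1 : β0 ((a : AddMonoid.End V) w0) = β0 ((a' : AddMonoid.End V) w0) := congrArg Subtype.val h
    by_contra hne
    have hd : ((a : AddMonoid.End V) - (a' : AddMonoid.End V)) ∈ 𝔄 := 𝔄.sub_mem a.2 a'.2
    have hdne : ((a : AddMonoid.End V) - (a' : AddMonoid.End V)) ≠ 0 := by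
      intro h0
      apply hne
      exact Subtype.ext (sub_eq_zero.mp h0)
    have hdap : ∀ v : V, ((a : AddMonoid.End V) - (a' : AddMonoid.End V)) v = (a : AddMonoid.End V) v - (a' : AddMonoid.End V) v := fun v => rfl
    have h3 : β0 (((a : AddMonoid.End V) - (a' : AddMonoid.End V)) w0) = 0 := by
      rw [hdap, map_sub, h1, sub_self]
    have h4 := hSP1 _ hd hdne w0 hβ0w0 h3
    exact hw0ne (hi _ hd hdne w0 hw0I h4)
  have hθbij : Function.Bijective θ := hθinj.bijective_of_nat_card_le hcard3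
  obtain ⟨⟨α, hα⟩, hαθ⟩ := hθbij.2 ⟨w0, hw0I⟩
  have hαw : β0 (α w0) = w0 := congrArg Subtype.val hαθ
  have hαne : α ≠ 0 := by
    intro h0
    rw [h0, zero_ap, map_zero] at hαw
    exact hw0ne hαw.symm
  refine ⟨α, hα, β0, hβ0, hαne, hβ0ne, ?_⟩
  -- (vi)
  set u : V := α w0 with hu
  set X : AddMonoid.End V := (1 + α) * (1 + β0) with hX
  have hαu : α u = 0 := hqA' α hα α hα w0
  have hXw : X w0 = w0 + u := by
    rw [hX, X_ap, hβ0w0, map_zero, add_zero, add_zero]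
  have hXu : X u = w0 := by
    rw [hX, X_ap, hαw, hαu, add_zero, ← hu]
    rw [add_assoc, add_comm w0 u, ← add_assoc, h2 u, zero_add]
  have hXwu : X (w0 + u) = u := by
    rw [map_add, hXw, hXu]
    rw [add_assoc, add_comm u w0, ← add_assoc, h2 w0, zero_add]
  have hune : u ≠ w0 := by
    intro h
    apply hw0ne
    have : α w0 = 0 := by
      have h1 := hαu
      rw [h] at h1
      exact h1
    rw [← h, hu, this]
  have hcyc : ∀ k : ℕ, (X ^ (3 * k)) u = u ∧ (X ^ (3 * k + 1)) u = w0 ∧ (X ^ (3 * k + 2)) u = w0 + u := by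
    intro k
    induction k with
    | zero =>
      refine ⟨by simp [one_ap], ?_, ?_⟩
      · rw [Nat.mul_zero, zero_add, pow_one, hXu]
      · rw [Nat.mul_zero, zero_add, pow_succ', pow_one, mul_ap, hXu, hXw]
    | succ k ih =>
      obtain ⟨h0, h1, h2'⟩ := ih
      have e0 : (X ^ (3 * (k + 1))) u = u := by
        have : 3 * (k + 1) = (3 * k + 2) + 1 := by ring
        rw [this, pow_succ', mul_ap, h2', hXwu]
      have e1 : (X ^ (3 * (k + 1) + 1)) u = w0 := by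
        rw [pow_succ', mul_ap, e0, hXu]
      have e2 : (X ^ (3 * (k + 1) + 2)) u = w0 + u := by
        have : 3 * (k + 1) + 2 = (3 * (k + 1) + 1) + 1 := by ring
        rw [this, pow_succ', mul_ap, e1, hXw]
      exact ⟨e0, e1, e2⟩
  intro n hn
  have hnu : (X ^ n) u = u := by rw [hn, one_ap]
  obtain ⟨h0, h1, h2'⟩ := hcyc (n / 3)
  have hdm := Nat.div_add_mod n 3
  have hlt := Nat.mod_lt n (show 0 < 3 by norm_num)
  rcases (show n % 3 = 0 ∨ n % 3 = 1 ∨ n % 3 = 2 by omega) with h | h | h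
  · exact Nat.dvd_of_mod_eq_zero h
  · exfalso
    have : n = 3 * (n / 3) + 1 := by omega
    rw [this, h1] at hnu
    exact hune hnu.symm
  · exfalso
    have : n = 3 * (n / 3) + 2 := by omega
    rw [this, h2'] at hnu
    apply hw0ne
    have h9 : w0 + u = 0 + u := by rw [zero_add]; exact hnu
    exact add_right_cancel h9

end Cfsg.Agent.Lib.Helper2.S1932C
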