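import Mathlib

set_option autoImplicit false
set_option linter.unusedVariables false
set_option linter.unusedSectionVars false
set_option linter.style.longLine false
set_option linter.unusedSimpArgs false
set_option maxHeartbeats 800000

/-! # S1932, unit D: control of centralisers mod `U` forces odd products -/

namespace Cfsg.Agent.Lib.Helper2.S1932D

universe u

open scoped commutatorElement Pointwise

variable {G : Type u} [Group G] [Finite G]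

/-- relative Sylow: a 2-subgroup of `H ≥ S` is `H`-conjugate into `S` -/
theorem conj_into_sylow (S : Sylow 2 G) (H : Subgroup G) (hSH : (S : Subgroup G) ≤ H) (R : Subgroup G)
    (hRH : R ≤ H) (hR : IsPGroup 2 R) : ∃ d ∈ H, ∀ x ∈ R, d * x * d⁻¹ ∈ (S : Subgroup G) := by
  haveI : Fact (Nat.Prime 2) := ⟨Nat.prime_two⟩
  have hR' : IsPGroup 2 (R.subgroupOf H) := hR.comap_subtype
  obtain ⟨Q, hQ⟩ := hR'.exists_le_sylow
  obtain ⟨d, hd⟩ := MulAction.exists_smul_eq ↥H Q (S.subtype hSH)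
  refine ⟨d, d.2, ?_⟩
  intro x hx
  have h1 : (⟨x, hRH hx⟩ : ↥H) ∈ (Q : Subgroup ↥H) := hQ (by rw [Subgroup.mem_subgroupOf]; exact hx)
  have h2 : MulAut.conj d • (⟨x, hRH hx⟩ : ↥H) ∈ MulAut.conj d • (Q : Subgroup ↥H) :=
    Subgroup.smul_mem_pointwise_smul _ _ _ h1
  rw [← Sylow.coe_subgroup_smul, hd, Sylow.coe_subtype, Subgroup.mem_subgroupOf] at h2
  simpa [MulAut.smul_def] using h2

/-- an element conjugating the finite subgroup `T` into itself normalises it -/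
theorem mem_normalizer_of_conj_mem (T : Subgroup G) (n : G) (h : ∀ x ∈ T, n * x * n⁻¹ ∈ T) :
    n ∈ Subgroup.normalizer (T : Set G) := by
  rw [Subgroup.mem_normalizer_iff]
  intro x
  constructor
  · exact h x
  · intro hx
    let f : T → T := fun y => ⟨n * y.1 * n⁻¹, h y.1 y.2⟩
    have hinj : Function.Injective f := by
      intro y y' hyy
      have : n * y.1 * n⁻¹ = n * y'.1 * n⁻¹ := congrArg Subtype.val hyy
      apply Subtype.ext
      have h1 := mul_right_cancel this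
      exact mul_left_cancel h1
    have hsurj : Function.Surjective f := Finite.injective_iff_surjective.mp hinj
    obtain ⟨y, hy⟩ := hsurj ⟨n * x * n⁻¹, hx⟩
    have : n * y.1 * n⁻¹ = n * x * n⁻¹ := congrArg Subtype.val hy
    have h1 := mul_left_cancel (mul_right_cancel this)
    rw [← h1]
    exact y.2

section main

variable (U : Subgroup G) [U.Normal]

/-- the preimage of the centraliser of `y` in `G ⧸ U` -/
def Hs (y : G ⧸ U) : Subgroup G := (Subgroup.centralizer {y}).comap (QuotientGroup.mk' U)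

theorem mem_Hs (y : G ⧸ U) (h : G) : h ∈ Hs U y ↔ (h : G ⧸ U) * y = y * (h : G ⧸ U) := by
  unfold Hs
  rw [Subgroup.mem_comap, Subgroup.mem_centralizer_singleton_iff]
  rfl

theorem mem_Hs_of_comm (h t : G) (hc : ⁅h, t⁆ ∈ U) : h ∈ Hs U (t : G ⧸ U) := by
  rw [mem_Hs]
  have h1 : ((⁅h, t⁆ : G) : G ⧸ U) = 1 := (QuotientGroup.eq_one_iff _).mpr hc
  have h2 : ((⁅h, t⁆ : G) : G ⧸ U) = ⁅(h : G ⧸ U), (t : G ⧸ U)⁆ := by
    rw [commutatorElement_def, commutatorElement_def]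
    simp
  rw [h2, commutatorElement_eq_one_iff_mul_comm] at h1
  exact h1

theorem comm_of_mem_Hs (h t : G) (hh : h ∈ Hs U (t : G ⧸ U)) : ⁅h, t⁆ ∈ U := by
  rw [mem_Hs] at hh
  rw [← QuotientGroup.eq_one_iff]
  have h2 : ((⁅h, t⁆ : G) : G ⧸ U) = ⁅(h : G ⧸ U), (t : G ⧸ U)⁆ := by
    rw [commutatorElement_def, commutatorElement_def]
    simp
  rw [h2, commutatorElement_eq_one_iff_mul_comm]
  exact hh

/-- conjugation -/
theorem conj_mem_Hs (c h t : G) (hh : h ∈ Hs U (t : G ⧸ U)) :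
    c * h * c⁻¹ ∈ Hs U ((c * t * c⁻¹ : G) : G ⧸ U) := by
  rw [mem_Hs] at hh ⊢
  simp only [QuotientGroup.mk_mul, QuotientGroup.mk_inv]
  calc (c : G ⧸ U) * h * (c : G ⧸ U)⁻¹ * ((c : G ⧸ U) * t * (c : G ⧸ U)⁻¹)
      = (c : G ⧸ U) * ((h : G ⧸ U) * t) * (c : G ⧸ U)⁻¹ := by group
    _ = (c : G ⧸ U) * ((t : G ⧸ U) * h) * (c : G ⧸ U)⁻¹ := by rw [hh]
    _ = _ := by group

variable (S : Sylow 2 G) (M : Subgroup G)
  (hSab : ∀ x ∈ (S : Subgroup G), ∀ y ∈ (S : Subgroup G), ⁅x, y⁆ ∈ U)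
  (hUM : U ≤ M) (hNS : Subgroup.normalizer ((S : Subgroup G) : Set G) ≤ M)
  (hH : ∀ t ∈ (S : Subgroup G), t ∉ U → ∀ h : G, ⁅h, t⁆ ∈ U → h ∈ M)

include hSab in
theorem S_le_Hs (t : G) (ht : t ∈ (S : Subgroup G)) : (S : Subgroup G) ≤ Hs U (t : G ⧸ U) :=
  fun x hx => mem_Hs_of_comm U x t (hSab x hx t ht)

include hH in
theorem Hs_le_M (t : G) (ht : t ∈ (S : Subgroup G)) (htU : t ∉ U) : Hs U (t : G ⧸ U) ≤ M :=
  fun h hh => hH t ht htU h (comm_of_mem_Hs U h t hh)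

include hNS in
/-- the common final step -/
theorem mem_M_of_conj (H : Subgroup G) (hSH : (S : Subgroup G) ≤ H) (hHM : H ≤ M) (k : G)
    (hk : ∀ y ∈ (S : Subgroup G), k * y * k⁻¹ ∈ H) : k ∈ M := by
  set R : Subgroup G := (S : Subgroup G).map (MulAut.conj k).toMonoidHom with hRdef
  have hR : IsPGroup 2 R := S.2.map _
  have hRH : R ≤ H := by
    rintro x ⟨y, hy, rfl⟩
    exact hk y hy
  obtain ⟨d, hd, hdR⟩ := conj_into_sylow S H hSH R hRH hR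
  have hn : d * k ∈ Subgroup.normalizer ((S : Subgroup G) : Set G) := by
    apply mem_normalizer_of_conj_mem
    intro y hy
    have : k * y * k⁻¹ ∈ R := ⟨y, hy, rfl⟩
    have h1 := hdR _ this
    have h2 : d * k * y * (d * k)⁻¹ = d * (k * y * k⁻¹) * d⁻¹ := by group
    rw [h2]; exact h1
  have h1 : d * k ∈ M := hNS hn
  have h2 : d ∈ M := hHM hd
  have h3 : k = d⁻¹ * (d * k) := by group
  rw [h3]
  exact M.mul_mem (M.inv_mem h2) h1

end main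

/-- **UNIT D** -/
theorem odd_of_control {G : Type u} [Group G] [Finite G] (U : Subgroup G) [U.Normal]
    (S : Sylow 2 G) (M : Subgroup G)
    (hSab : ∀ x ∈ (S : Subgroup G), ∀ y ∈ (S : Subgroup G), ⁅x, y⁆ ∈ U)
    (hUM : U ≤ M) (hNS : Subgroup.normalizer ((S : Subgroup G) : Set G) ≤ M)
    (hH : ∀ t ∈ (S : Subgroup G), t ∉ U → ∀ h : G, ⁅h, t⁆ ∈ U → h ∈ M)
    (g : G) (hg : g ∉ M) (a b : G) (ha : a ∈ (S : Subgroup G)) (haU : a ∉ U) (ha2 : a * a = 1)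
    (hb : g * b * g⁻¹ ∈ (S : Subgroup G)) (hbU : b ∉ U) (hb2 : b * b = 1) :
    a * b⁻¹ ∉ U ∧ ∃ n : ℕ, Odd n ∧ (a * b) ^ n ∈ U := by
  have hUn : U.Normal := inferInstance
  have hgbU : g * b * g⁻¹ ∉ U := by
    intro h
    apply hbU
    have := hUn.conj_mem _ h g⁻¹
    have e : g⁻¹ * (g * b * g⁻¹) * g⁻¹⁻¹ = b := by group
    rw [e] at this
    exact this
  have hSb : ∀ y ∈ (S : Subgroup G), g⁻¹ * y * g ∈ Hs U (b : G ⧸ U) := by
    intro y hy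
    have h1 := S_le_Hs U S hSab (g * b * g⁻¹) hb hy
    have h2 := conj_mem_Hs U g⁻¹ y (g * b * g⁻¹) h1
    have e1 : g⁻¹ * (g * b * g⁻¹) * g⁻¹⁻¹ = b := by group
    rw [e1, inv_inv] at h2
    exact h2
  have part1 : a * b⁻¹ ∉ U := by
    intro hab
    have heq : (a : G ⧸ U) = (b : G ⧸ U) := by
      rw [QuotientGroup.eq]
      have h1 := U.inv_mem hab
      have h2 := hUn.conj_mem _ h1 a⁻¹
      have e : a⁻¹ * (a * b⁻¹)⁻¹ * a⁻¹⁻¹ = a⁻¹ * b := by group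
      rw [e] at h2
      exact h2
    apply hg
    have hk := mem_M_of_conj S M hNS (Hs U (a : G ⧸ U)) (S_le_Hs U S hSab a ha)
      (Hs_le_M U S M hH a ha haU) g⁻¹ (by
        intro y hy
        rw [heq, inv_inv]
        exact hSb y hy)
    have := M.inv_mem hk
    rw [inv_inv] at this
    exact this
  refine ⟨part1, ?_⟩
  -- part 2
  have haa : (a : G ⧸ U) * (a : G ⧸ U) = 1 := by
    rw [← QuotientGroup.mk_mul, ha2]; rfl
  have hbb : (b : G ⧸ U) * (b : G ⧸ U) = 1 := by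
    rw [← QuotientGroup.mk_mul, hb2]; rfl
  have hopos : 0 < orderOf ((a : G ⧸ U) * (b : G ⧸ U)) := orderOf_pos _
  rcases Nat.even_or_odd (orderOf ((a : G ⧸ U) * (b : G ⧸ U))) with heven | hodd
  swap
  · refine ⟨_, hodd, ?_⟩
    rw [← QuotientGroup.eq_one_iff, QuotientGroup.mk_pow, QuotientGroup.mk_mul]
    exact pow_orderOf_eq_one _
  exfalso
  obtain ⟨e, he⟩ := heven
  have hepos : 0 < e := by omega
  have hzne : ((a : G ⧸ U) * (b : G ⧸ U)) ^ e ≠ 1 :=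
    pow_ne_one_of_lt_orderOf hepos.ne' (by omega)
  have hzz : ((a : G ⧸ U) * (b : G ⧸ U)) ^ e * ((a : G ⧸ U) * (b : G ⧸ U)) ^ e = 1 := by
    rw [← pow_add, ← he]; exact pow_orderOf_eq_one _
  have hinv : (b : G ⧸ U) * (a : G ⧸ U) = ((a : G ⧸ U) * (b : G ⧸ U))⁻¹ := by
    rw [eq_inv_iff_mul_eq_one]
    calc (b : G ⧸ U) * a * (a * b) = b * (a * a) * b := by group
      _ = 1 := by rw [haa, mul_one, hbb]
  have hzinv : (((a : G ⧸ U) * (b : G ⧸ U)) ^ e)⁻¹ = ((a : G ⧸ U) * (b : G ⧸ U)) ^ e :=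
    inv_eq_of_mul_eq_one_right hzz
  have ainv : (a : G ⧸ U)⁻¹ = a := inv_eq_of_mul_eq_one_right haa
  have hcomma : ((a : G ⧸ U) * (b : G ⧸ U)) ^ e * (a : G ⧸ U) = (a : G ⧸ U) * ((a : G ⧸ U) * (b : G ⧸ U)) ^ e := by
    have h1 : (a : G ⧸ U) * ((a : G ⧸ U) * (b : G ⧸ U)) ^ e * (a : G ⧸ U)⁻¹ = ((a : G ⧸ U) * (b : G ⧸ U)) ^ e := by
      rw [← conj_pow]
      have h3 : (a : G ⧸ U) * ((a : G ⧸ U) * (b : G ⧸ U)) * (a : G ⧸ U)⁻¹ = (b : G ⧸ U) * a := by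
        rw [ainv]
        calc (a : G ⧸ U) * (a * b) * a = (a * a) * b * a := by group
          _ = b * a := by rw [haa, one_mul]
      rw [h3, hinv, inv_pow, hzinv]
    calc ((a : G ⧸ U) * (b : G ⧸ U)) ^ e * (a : G ⧸ U)
        = ((a : G ⧸ U) * ((a : G ⧸ U) * (b : G ⧸ U)) ^ e * (a : G ⧸ U)⁻¹) * a := by rw [h1]
      _ = (a : G ⧸ U) * ((a : G ⧸ U) * (b : G ⧸ U)) ^ e := by group
  have hcommb : ((a : G ⧸ U) * (b : G ⧸ U)) ^ e * (b : G ⧸ U) = (b : G ⧸ U) * ((a : G ⧸ U) * (b : G ⧸ U)) ^ e := by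
    have h1 : (b : G ⧸ U) * ((a : G ⧸ U) * (b : G ⧸ U)) ^ e * (b : G ⧸ U)⁻¹ = ((a : G ⧸ U) * (b : G ⧸ U)) ^ e := by
      rw [← conj_pow]
      have h3 : (b : G ⧸ U) * ((a : G ⧸ U) * (b : G ⧸ U)) * (b : G ⧸ U)⁻¹ = (b : G ⧸ U) * a := by group
      rw [h3, hinv, inv_pow, hzinv]
    calc ((a : G ⧸ U) * (b : G ⧸ U)) ^ e * (b : G ⧸ U)
        = ((b : G ⧸ U) * ((a : G ⧸ U) * (b : G ⧸ U)) ^ e * (b : G ⧸ U)⁻¹) * b := by rw [h1]
      _ = (b : G ⧸ U) * ((a : G ⧸ U) * (b : G ⧸ U)) ^ e := by group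
  -- the 2-element r over the central involution
  have hzo : orderOf ((a * b) ^ e) ≠ 0 := (orderOf_pos _).ne'
  obtain ⟨k, m, hm, hkm⟩ := Nat.exists_eq_two_pow_mul_odd hzo
  have hπr : ((((a * b) ^ e) ^ m : G) : G ⧸ U) = ((a : G ⧸ U) * (b : G ⧸ U)) ^ e := by
    rw [QuotientGroup.mk_pow, QuotientGroup.mk_pow, QuotientGroup.mk_mul]
    obtain ⟨j, rfl⟩ := hm
    rw [pow_succ, pow_mul, pow_two, hzz, one_pow, one_mul]
  have hr2 : (((a * b) ^ e) ^ m) ^ (2 ^ k) = 1 := by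
    rw [← pow_mul, mul_comm, ← hkm]; exact pow_orderOf_eq_one _
  have hrU : ((a * b) ^ e) ^ m ∉ U := by
    intro h
    apply hzne
    rw [← hπr]
    exact (QuotientGroup.eq_one_iff _).mpr h
  have hrA : ((a * b) ^ e) ^ m ∈ Hs U (a : G ⧸ U) := by
    rw [mem_Hs, hπr]; exact hcomma
  have hrB : ((a * b) ^ e) ^ m ∈ Hs U (b : G ⧸ U) := by
    rw [mem_Hs, hπr]; exact hcommb
  have hpgroup : ∀ x : G, x ^ (2 ^ k) = 1 → IsPGroup 2 (Subgroup.zpowers x) := by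
    intro x hx
    rintro ⟨y, hy⟩
    obtain ⟨i, rfl⟩ := Subgroup.mem_zpowers_iff.mp hy
    refine ⟨k, ?_⟩
    apply Subtype.ext
    simp only [Subgroup.coe_pow, Subgroup.coe_one]
    rw [← zpow_natCast, ← zpow_mul, mul_comm, zpow_mul, zpow_natCast, hx, one_zpow]
  generalize hrdef : ((a * b) ^ e) ^ m = r at hπr hr2 hrU hrA hrB
  -- first conjugation
  obtain ⟨c, hcH, hcR⟩ := conj_into_sylow S (Hs U (a : G ⧸ U)) (S_le_Hs U S hSab a ha)
    (Subgroup.zpowers r) ((Subgroup.zpowers_le).mpr hrA) (hpgroup r hr2)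
  have hs : c * r * c⁻¹ ∈ (S : Subgroup G) := hcR r (Subgroup.mem_zpowers r)
  have hsU : c * r * c⁻¹ ∉ U := by
    intro h
    apply hrU
    have := hUn.conj_mem _ h c⁻¹
    have e1 : c⁻¹ * (c * r * c⁻¹) * c⁻¹⁻¹ = r := by group
    rw [e1] at this
    exact this
  have hcM : c ∈ M := Hs_le_M U S M hH a ha haU hcH
  -- second conjugation
  have hr' : g * r * g⁻¹ ∈ Hs U ((g * b * g⁻¹ : G) : G ⧸ U) := conj_mem_Hs U g r b hrB
  have hr'2 : (g * r * g⁻¹) ^ (2 ^ k) = 1 := by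
    rw [conj_pow, hr2]; group
  obtain ⟨c₂, hc₂H, hc₂R⟩ := conj_into_sylow S (Hs U ((g * b * g⁻¹ : G) : G ⧸ U))
    (S_le_Hs U S hSab (g * b * g⁻¹) hb)
    (Subgroup.zpowers (g * r * g⁻¹)) ((Subgroup.zpowers_le).mpr hr') (hpgroup _ hr'2)
  have hs₂ : c₂ * (g * r * g⁻¹) * c₂⁻¹ ∈ (S : Subgroup G) := hc₂R _ (Subgroup.mem_zpowers _)
  have hc₂M : c₂ ∈ M := Hs_le_M U S M hH (g * b * g⁻¹) hb hgbU hc₂H
  -- final
  apply hg
  have hk := mem_M_of_conj S M hNS (Hs U ((c * r * c⁻¹ : G) : G ⧸ U)) (S_le_Hs U S hSab _ hs)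
    (Hs_le_M U S M hH _ hs hsU) (c * g⁻¹ * c₂⁻¹) (by
      intro y hy
      have h1 := S_le_Hs U S hSab _ hs₂ hy
      have h2 := conj_mem_Hs U (c₂ * g)⁻¹ y _ h1
      have e1 : (c₂ * g)⁻¹ * (c₂ * (g * r * g⁻¹) * c₂⁻¹) * (c₂ * g)⁻¹⁻¹ = r := by group
      rw [e1] at h2
      have h3 := conj_mem_Hs U c _ r h2
      have e2 : c * ((c₂ * g)⁻¹ * y * (c₂ * g)⁻¹⁻¹) * c⁻¹ = c * g⁻¹ * c₂⁻¹ * y * (c * g⁻¹ * c₂⁻¹)⁻¹ := by group
      rw [e2] at h3
      exact h3)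
  have h5 : g = c₂⁻¹ * (c * g⁻¹ * c₂⁻¹)⁻¹ * c := by group
  rw [h5]
  exact M.mul_mem (M.mul_mem (M.inv_mem hc₂M) (M.inv_mem hk)) hcM

end Cfsg.Agent.Lib.Helper2.S1932D
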