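import Mathlib
import Cfsg.Agent.Lib.Helper1.CoprimeAut
import Cfsg.Agent.Lib.Helper1.CriticalExists
import Cfsg.Agent.Lib.Helper2.OmegaTwoAut
import Cfsg.Agent.Lib.Lead.Fus13
import Cfsg.Agent.Lib.Helper9.StabChain

/-! Small-exponent characteristic subgroups detecting `p'`-automorphisms, and a chain lemma. -/
set_option autoImplicit false
open scoped commutatorElement
universe u

namespace Cfsg.Agent.Lib.Helper2.SE

open Cfsg

/-- the small exponent: `p` for odd `p`, `4` for `p = 2` -/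
def qexp (p : ℕ) : ℕ := if p = 2 then 4 else p

theorem qexp_two : qexp 2 = 4 := by simp [qexp]

theorem qexp_of_ne {p : ℕ} (h : p ≠ 2) : qexp p = p := by simp [qexp, h]

theorem dvd_choose_qexp {p : ℕ} (hp : p.Prime) : p ∣ (qexp p).choose 2 := by
  by_cases h2 : p = 2
  · subst h2
    rw [qexp_two]
    decide
  · rw [qexp_of_ne h2]
    have h3 : 2 < p := lt_of_le_of_ne hp.two_le (Ne.symm h2)
    exact hp.dvd_choose_self (by norm_num) h3

/-- a nontrivial element of exponent `qexp p` has order `p` or `4` -/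
theorem orderOf_eq_of_pow_qexp {G : Type*} [Group G] {p : ℕ} (hp : p.Prime) {x : G}
    (hx : x ^ qexp p = 1) (hx1 : x ≠ 1) : orderOf x = p ∨ orderOf x = 4 := by
  have hdvd : orderOf x ∣ qexp p := orderOf_dvd_of_pow_eq_one hx
  have hne1 : orderOf x ≠ 1 := fun h => hx1 (orderOf_eq_one_iff.mp h)
  by_cases h2 : p = 2
  · subst h2
    rw [qexp_two] at hdvd
    have hle : orderOf x ≤ 4 := Nat.le_of_dvd (by norm_num) hdvd
    have hpos : 0 < orderOf x := Nat.pos_of_dvd_of_pos hdvd (by norm_num)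
    interval_cases h : orderOf x
    · exact absurd rfl hne1
    · exact Or.inl rfl
    · norm_num at hdvd
    · exact Or.inr rfl
  · rw [qexp_of_ne h2] at hdvd
    rcases (Nat.dvd_prime hp).mp hdvd with h | h
    · exact absurd h hne1
    · exact Or.inl h

theorem pow_apply_fixed {G : Type*} [Group G] (a : MulAut G) {x : G} (h : a x = x) (r : ℕ) :
    (a ^ r) x = x := by
  induction r with
  | zero => simp
  | succ r ih => rw [pow_succ, MulAut.mul_apply, h, ih]

/-- a finite group whose elements of order prime to `p` are trivial is a `p`-group -/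
theorem isPGroup_of_coprime_trivial {A : Type*} [Group A] [Finite A] {p : ℕ} (hp : p.Prime)
    (h : ∀ a : A, Nat.Coprime (orderOf a) p → a = 1) : IsPGroup p A := by
  intro g
  obtain ⟨e, m', hm', hn⟩ := Nat.exists_eq_pow_mul_and_not_dvd (orderOf_pos g).ne' p hp.ne_one
  refine ⟨e, ?_⟩
  apply h
  have h1 : (g ^ p ^ e) ^ m' = 1 := by
    rw [← pow_mul, ← hn, pow_orderOf_eq_one]
  have h2 : orderOf (g ^ p ^ e) ∣ m' := orderOf_dvd_of_pow_eq_one h1
  have h3 : Nat.Coprime m' p := ((Nat.Prime.coprime_iff_not_dvd hp).mpr hm').symm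
  exact Nat.Coprime.coprime_dvd_left h2 h3

section critical
variable {Q : Type u} [Group Q]

/-- a characteristic subgroup of exponent `qexp p` on which `p'`-automorphisms act faithfully -/
theorem exists_omega_critical [Finite Q] {p : ℕ} [hp : Fact p.Prime] (hQ : IsPGroup p Q) :
    ∃ D : Subgroup Q, D.Characteristic ∧ (∀ x ∈ D, x ^ qexp p = 1) ∧
      ∀ a : MulAut Q, Nat.Coprime (orderOf a) p → (∀ x ∈ D, a x = x) → a = 1 := by
  classical
  obtain ⟨H, hHchar, hfr, hcomm, hcent⟩ := Cfsg.Agent.Lib.Helper1.exists_critical_subgroup hQ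
  have hHp : IsPGroup p H := hQ.to_subgroup H
  -- commutators of elements of `H` centralize `H`
  have hcz : ∀ x ∈ H, ∀ y ∈ H, ∀ z ∈ H, z * (y⁻¹ * x⁻¹ * y * x) = (y⁻¹ * x⁻¹ * y * x) * z := by
    intro x hx y hy z hz
    have h1 : ⁅y⁻¹, x⁻¹⁆ ∈ ⁅H, (⊤ : Subgroup Q)⁆ :=
      Subgroup.commutator_mem_commutator (H.inv_mem hy) (Subgroup.mem_top _)
    have h2 : ⁅y⁻¹, x⁻¹⁆ ∈ Subgroup.centralizer (H : Set Q) := (hcomm h1).2
    rw [Subgroup.mem_centralizer_iff] at h2
    have h3 := h2 z hz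
    rw [commutatorElement_def, inv_inv, inv_inv] at h3
    exact h3
  -- `p`-th powers of elements of `H` centralize `H`
  have hpz : ∀ y ∈ H, ∀ z ∈ H, z * y ^ p = y ^ p * z := by
    intro y hy z hz
    have h1 : (⟨y, hy⟩ : H) ^ p ∈ frattini H :=
      Cfsg.Agent.Lib.Helper1.pow_prime_mem_frattini_of_isPGroup p hHp ⟨y, hy⟩
    have h2 : y ^ p ∈ (frattini H).map H.subtype := ⟨_, h1, by simp⟩
    have h3 := hfr h2
    rw [Subgroup.mem_centralizer_iff] at h3
    exact h3 z hz
  -- the commutator has order dividing `p`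
  have hcp : ∀ x ∈ H, ∀ y ∈ H, (y⁻¹ * x⁻¹ * y * x) ^ p = 1 := by
    intro x hx y hy
    set c := y⁻¹ * x⁻¹ * y * x with hc
    have hyc : Commute y c := (hcz x hx y hy y hy)
    have h1 : x⁻¹ * y * x = y * c := by rw [hc]; group
    have h2 : (x⁻¹ * y * x) ^ p = x⁻¹ * y ^ p * x := by
      have := conj_pow (a := x⁻¹) (b := y) (i := p)
      rw [inv_inv] at this
      exact this
    have h3 : x⁻¹ * y ^ p * x = y ^ p := by
      have := hpz y hy x hx
      rw [mul_assoc, ← this, inv_mul_cancel_left]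
    have h4 : (y * c) ^ p = y ^ p * c ^ p := hyc.mul_pow p
    rw [h1, h4] at h2
    rw [h3] at h2
    have h5 : y ^ p * c ^ p = y ^ p * 1 := by rw [h2, mul_one]
    exact mul_left_cancel h5
  -- the power map on `H`
  have hmulpow : ∀ x ∈ H, ∀ y ∈ H, (x * y) ^ qexp p = x ^ qexp p * y ^ qexp p := by
    intro x hx y hy
    have hcH : ∀ g : H, g * ((⟨y, hy⟩ : H)⁻¹ * (⟨x, hx⟩ : H)⁻¹ * ⟨y, hy⟩ * ⟨x, hx⟩) =
        ((⟨y, hy⟩ : H)⁻¹ * (⟨x, hx⟩ : H)⁻¹ * ⟨y, hy⟩ * ⟨x, hx⟩) * g := by
      intro g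
      apply Subtype.ext
      exact hcz x hx y hy g g.2
    have h1 := Cfsg.Agent.Lib.Lead.Fus.mul_pow_class_two (⟨x, hx⟩ : H) ⟨y, hy⟩ hcH (qexp p)
    have h2 := congrArg (Subtype.val) h1
    simp only [Subgroup.coe_mul, Subgroup.coe_pow, Subgroup.coe_inv] at h2
    rw [h2]
    obtain ⟨k, hk⟩ := dvd_choose_qexp hp.out
    rw [hk, pow_mul, hcp x hx y hy, one_pow, mul_one]
  let D : Subgroup Q :=
    { carrier := {x | x ∈ H ∧ x ^ qexp p = 1}
      one_mem' := ⟨H.one_mem, one_pow _⟩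
      mul_mem' := by
        rintro x y ⟨hx, hx'⟩ ⟨hy, hy'⟩
        exact ⟨H.mul_mem hx hy, by rw [hmulpow x hx y hy, hx', hy', one_mul]⟩
      inv_mem' := by
        rintro x ⟨hx, hx'⟩
        exact ⟨H.inv_mem hx, by rw [inv_pow, hx', inv_one]⟩ }
  have hDmem : ∀ x : Q, x ∈ D ↔ x ∈ H ∧ x ^ qexp p = 1 := fun x => Iff.rfl
  have hHinv : ∀ (φ : Q ≃* Q) (x : Q), x ∈ H → φ x ∈ H := by
    intro φ x hx
    have := Subgroup.characteristic_iff_le_comap.mp hHchar φ
    exact this hx
  refine ⟨D, ?_, fun x hx => hx.2, ?_⟩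
  · rw [Subgroup.characteristic_iff_le_comap]
    intro φ x hx
    show φ x ∈ D
    rw [hDmem] at hx ⊢
    exact ⟨hHinv φ x hx.1, by rw [← map_pow, hx.2, map_one]⟩
  · intro a ha hfix
    have hHa : ∀ x ∈ H, a x ∈ H := fun x hx => hHinv a x hx
    set aH := Cfsg.Agent.Lib.Helper1.restrictAut a H hHa with haH
    have hcop : Nat.Coprime (orderOf aH) p :=
      Nat.Coprime.coprime_dvd_left (Cfsg.Agent.Lib.Helper1.orderOf_restrictAut_dvd a H hHa) ha
    have haH1 : aH = 1 := by
      by_cases h2 : p = 2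
      · subst h2
        apply Cfsg.Agent.Lib.Helper2.coprime_aut_trivial_of_fix_omega_two hHp aH hcop
        intro x hx
        apply Subtype.ext
        rw [haH, Cfsg.Agent.Lib.Helper1.restrictAut_apply]
        apply hfix
        rw [hDmem]
        refine ⟨x.2, ?_⟩
        rw [qexp_two, ← Subgroup.coe_pow, hx, Subgroup.coe_one]
      · apply Cfsg.Agent.Lib.Helper1.coprime_aut_trivial_of_fix_omega h2 hHp aH hcop
        intro x hx
        apply Subtype.ext
        rw [haH, Cfsg.Agent.Lib.Helper1.restrictAut_apply]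
        apply hfix
        rw [hDmem]
        refine ⟨x.2, ?_⟩
        rw [qexp_of_ne h2, ← Subgroup.coe_pow, hx, Subgroup.coe_one]
    apply Cfsg.Agent.Lib.Helper1.coprime_aut_trivial_of_fix_self_centralizing hQ H hHchar hcent a ha
    intro x hx
    have h1 : aH ⟨x, hx⟩ = ⟨x, hx⟩ := by rw [haH1, MulAut.one_apply]
    have h2 := congrArg Subtype.val h1
    rw [haH, Cfsg.Agent.Lib.Helper1.restrictAut_apply] at h2
    exact h2

end critical

section chain
variable {P : Type*} [Group P]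

open Cfsg.Agent.Lib.Helper9

/-- an automorphism stabilizing an `A`-invariant chain up to `D`, where `p'`-elements of `A`
act faithfully on `D`, lies in `O_p(A)` -/
theorem mem_pCore_of_stabilizes_faithful [Finite P] {p : ℕ} [hp : Fact p.Prime]
    (hP : IsPGroup p P) (A : Subgroup (MulAut P)) (D : Subgroup P) (e : ℕ → Subgroup P)
    (hinv : ∀ α ∈ A, ∀ j, ∀ x ∈ e j, α x ∈ e j) (h0 : e 0 = ⊥) (m : ℕ) (hm : e m = D)
    (hfaith : ∀ γ ∈ A, Nat.Coprime (orderOf γ) p → (∀ x ∈ D, γ x = x) → γ = 1)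
    {β : MulAut P} (hβA : β ∈ A) (hβ : ∀ j, ∀ x ∈ e (j + 1), x⁻¹ * β x ∈ e j) :
    β ∈ (pCore p A).map A.subtype := by
  obtain ⟨k, hk⟩ := IsPGroup.iff_card.mp hP
  have key : ∀ j : ℕ, ∀ α ∈ stabChain A e hinv, ∀ x ∈ e j, (α ^ (Nat.card P ^ j)) x = x := by
    intro j
    induction j with
    | zero =>
      intro α _ x hx
      rw [h0, Subgroup.mem_bot] at hx
      rw [hx, map_one]
    | succ j ih =>
      intro α hα x hx
      set β' := α ^ (Nat.card P ^ j) with hβ'
      have hβmem : β' ∈ stabChain A e hinv := Subgroup.pow_mem _ hα _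
      have hy : x⁻¹ * β' x ∈ e j := hβmem.2 j x hx
      have hβy : β' (x⁻¹ * β' x) = x⁻¹ * β' x := ih α hα _ hy
      have hpow : ∀ r : ℕ, (β' ^ r) x = x * (x⁻¹ * β' x) ^ r := by
        intro r
        induction r with
        | zero => simp
        | succ r ihr =>
          rw [pow_succ', MulAut.mul_apply, ihr, map_mul, map_pow, hβy, pow_succ', ← mul_assoc,
            mul_inv_cancel_left]
      have h1 : α ^ (Nat.card P ^ (j + 1)) = β' ^ Nat.card P := by
        rw [hβ', ← pow_mul, pow_succ]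
      rw [h1, hpow, pow_card_eq_one', mul_one]
  have hpg : IsPGroup p (stabChain A e hinv) := by
    haveI : Finite (stabChain A e hinv) := inferInstance
    apply isPGroup_of_coprime_trivial hp.out
    rintro ⟨γ, hγ⟩ hcop
    have hcop' : Nat.Coprime (orderOf γ) p := by
      have : orderOf γ = orderOf (⟨γ, hγ⟩ : stabChain A e hinv) := by
        rw [← Subgroup.orderOf_coe]
      rw [this]
      exact hcop
    apply Subtype.ext
    show γ = 1
    apply hfaith γ hγ.1 hcop'
    intro x hx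
    have h1 : (γ ^ (Nat.card P ^ m)) x = x := key m γ hγ x (by rw [hm]; exact hx)
    have h2 : Nat.Coprime (Nat.card P ^ m) (orderOf γ) := by
      rw [hk]
      exact (Nat.Coprime.pow_right k hcop').symm.pow_left m
    obtain ⟨r, hr⟩ := exists_pow_eq_self_of_coprime h2
    have h3 := pow_apply_fixed (γ ^ (Nat.card P ^ m)) h1 r
    rw [hr] at h3
    exact h3
  have h1 : (stabChain A e hinv).subgroupOf A ≤ pCore p A :=
    le_pCore' (stabChain_normal A e hinv) hpg.comap_subtype
  exact ⟨⟨β, hβA⟩, h1 (show β ∈ stabChain A e hinv from ⟨hβA, hβ⟩), rfl⟩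

end chain

end Cfsg.Agent.Lib.Helper2.SE
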