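import Cfsg.Agent.Lib.Helper2.SE1
import Cfsg.Agent.Lib.Helper9.Hyperfocal3
import Cfsg.Agent.Lib.Helper9.FusionIso
import Cfsg.Agent.Lib.Helper9.FusionAut

/-! A small-exponent subgroup of `[P, O^p(Aut_F(P))]` detecting `p'`-automorphisms. -/
set_option autoImplicit false

namespace Cfsg.Agent.Lib.Helper2.SE

open Cfsg Cfsg.FusionSystem Cfsg.Agent.Lib.Helper9

variable {Ω : Type*} [Group Ω] {S : Subgroup Ω}

/-- For `P ≤ S` there is an `Aut_F(P)`-invariant subgroup `D` of `P`, contained in the hyperfocal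
subgroup, of exponent `qexp p`, on which the `p'`-elements of `Aut_F(P)` act faithfully. -/
theorem exists_detecting [Finite S] (p : ℕ) [hp : Fact p.Prime] (hS : IsPGroup p S)
    (F : FusionSystem S) {P : Subgroup Ω} (hPS : P ≤ S) :
    ∃ D : Subgroup ↥P,
      (∀ x ∈ D, ((x : ↥P) : Ω) ∈ F.hyperfocalSubgroup p) ∧
      (∀ x ∈ D, x ^ qexp p = 1) ∧
      (∀ γ ∈ F.autGroup P, ∀ x ∈ D, γ x ∈ D) ∧
      (∀ γ ∈ F.autGroup P, Nat.Coprime (orderOf γ) p → (∀ x ∈ D, γ x = x) → γ = 1) := by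
  classical
  haveI hfinP : Finite P := finite_of_le hPS
  have hPp : IsPGroup p P := isPGroup_of_le hS hPS
  obtain ⟨P₀, hP₀⟩ : ∃ P₀ : Subgroup ↥P, P₀ = Subgroup.closure
      {y : ↥P | ∃ (α : F.autGroup P) (x : ↥P), α ∈ pResidual p (F.autGroup P) ∧
        y = x⁻¹ * (α : MulAut ↥P) x} := ⟨_, rfl⟩
  have hgen : ∀ (α : F.autGroup P) (x : ↥P), α ∈ pResidual p (F.autGroup P) →
      x⁻¹ * (α : MulAut ↥P) x ∈ P₀ := by
    intro α x hα
    rw [hP₀]
    exact Subgroup.subset_closure ⟨α, x, hα, rfl⟩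
  have hP₀hyp : ∀ y ∈ P₀, ((y : ↥P) : Ω) ∈ F.hyperfocalSubgroup p := by
    intro y hy
    rw [hP₀] at hy
    induction hy using Subgroup.closure_induction with
    | mem y hy =>
      obtain ⟨α, x, hα, rfl⟩ := hy
      apply Subgroup.subset_closure
      refine ⟨P, α, x, hPS, hα, ?_⟩
      rw [Subgroup.coe_mul, Subgroup.coe_inv]
    | one => exact Subgroup.one_mem _
    | mul a b _ _ iha ihb =>
      rw [Subgroup.coe_mul]
      exact Subgroup.mul_mem _ iha ihb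
    | inv a _ iha =>
      rw [Subgroup.coe_inv]
      exact Subgroup.inv_mem _ iha
  have hP₀inv : ∀ γ ∈ F.autGroup P, ∀ y ∈ P₀, γ y ∈ P₀ := by
    intro γ hγ y hy
    rw [hP₀] at hy
    induction hy using Subgroup.closure_induction with
    | mem y hy =>
      obtain ⟨α, x, hα, rfl⟩ := hy
      have hn : (pResidual p (F.autGroup P)).Normal := pResidual_normal p _
      have hα' : (⟨γ, hγ⟩ : F.autGroup P) * α * (⟨γ, hγ⟩ : F.autGroup P)⁻¹ ∈
          pResidual p (F.autGroup P) := hn.conj_mem α hα ⟨γ, hγ⟩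
      have h1 := hgen _ (γ x) hα'
      have h2 : (γ x)⁻¹ * (((⟨γ, hγ⟩ : F.autGroup P) * α * (⟨γ, hγ⟩ : F.autGroup P)⁻¹ :
          F.autGroup P) : MulAut ↥P) (γ x) = γ (x⁻¹ * (α : MulAut ↥P) x) := by
        rw [map_mul, map_inv]
        congr 1
        show (γ * (α : MulAut ↥P) * γ⁻¹) (γ x) = _
        rw [MulAut.mul_apply, MulAut.mul_apply, MulAut.inv_apply_self]
      rw [← h2]
      exact h1
    | one => rw [map_one]; exact Subgroup.one_mem _
    | mul a b _ _ iha ihb => rw [map_mul]; exact Subgroup.mul_mem _ iha ihb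
    | inv a _ iha => rw [map_inv]; exact Subgroup.inv_mem _ iha
  haveI : Finite P₀ := inferInstance
  have hP₀p : IsPGroup p P₀ := hPp.to_subgroup P₀
  obtain ⟨D₀, hD₀char, hD₀exp, hD₀faith⟩ := exists_omega_critical hP₀p
  refine ⟨D₀.map P₀.subtype, ?_, ?_, ?_, ?_⟩
  · rintro _ ⟨d, -, rfl⟩
    exact hP₀hyp d d.2
  · rintro _ ⟨d, hd, rfl⟩
    have := hD₀exp d hd
    show (P₀.subtype d) ^ qexp p = 1
    rw [← map_pow, this, map_one]
  · rintro γ hγ _ ⟨d, hd, rfl⟩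
    set γ₀ := Cfsg.Agent.Lib.Helper1.restrictAut γ P₀ (hP₀inv γ hγ) with hγ₀
    have h1 : γ₀ d ∈ D₀ := (Subgroup.characteristic_iff_le_comap.mp hD₀char γ₀) hd
    exact ⟨γ₀ d, h1, rfl⟩
  · intro γ hγ hcop hfix
    set γ₀ := Cfsg.Agent.Lib.Helper1.restrictAut γ P₀ (hP₀inv γ hγ) with hγ₀
    have hcop₀ : Nat.Coprime (orderOf γ₀) p :=
      Nat.Coprime.coprime_dvd_left
        (Cfsg.Agent.Lib.Helper1.orderOf_restrictAut_dvd γ P₀ (hP₀inv γ hγ)) hcop
    have hγ₀1 : γ₀ = 1 := by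
      apply hD₀faith γ₀ hcop₀
      intro d hd
      apply Subtype.ext
      rw [hγ₀, Cfsg.Agent.Lib.Helper1.restrictAut_apply]
      exact hfix _ ⟨d, hd, rfl⟩
    have hfix₀ : ∀ y ∈ P₀, γ y = y := by
      intro y hy
      have h1 : γ₀ ⟨y, hy⟩ = ⟨y, hy⟩ := by rw [hγ₀1, MulAut.one_apply]
      have h2 := congrArg Subtype.val h1
      rw [hγ₀, Cfsg.Agent.Lib.Helper1.restrictAut_apply] at h2
      exact h2
    have hres : (⟨γ, hγ⟩ : F.autGroup P) ∈ pResidual p (F.autGroup P) := by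
      apply Subgroup.subset_closure
      show Nat.Coprime (orderOf (⟨γ, hγ⟩ : F.autGroup P)) p
      rw [← Subgroup.orderOf_coe]
      exact hcop
    ext g
    rw [MulAut.one_apply]
    have h3 := Cfsg.Agent.Lib.Helper1.aut_apply_eq_of_fixed_commutator hPp γ hcop g
      (hfix₀ _ (hgen ⟨γ, hγ⟩ g hres))
    rw [h3]

end Cfsg.Agent.Lib.Helper2.SE
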