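import Cfsg.Agent.Lib.Helper2.SE2
import Cfsg.Agent.Lib.Helper2.Ex4
import Cfsg.Agent.Lib.Helper2.EssGen2
import Cfsg.Agent.Lib.Helper9.NormalCrit
import Cfsg.Agent.Lib.Helper9.Alperin1
import Cfsg.Agent.Lib.Helper9.GroupFusionAut
import Cfsg.Agent.S5080

/-! If `N_F(S)` controls fusion of the cyclic subgroups of order `p` or `4` of the hyperfocal
subgroup, then `S` is normal in `F`. -/
set_option autoImplicit false
open scoped commutatorElement

namespace Cfsg.Agent.Lib.Helper2.SE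

open Cfsg Cfsg.FusionSystem Cfsg.Agent.Lib.Helper9

variable {Ω : Type*} [Group Ω] {S : Subgroup Ω}

/-- the upper central series of `S`, inside `Ω` -/
def ZS (S : Subgroup Ω) (i : ℕ) : Subgroup Ω :=
  (Subgroup.upperCentralSeries ↥S i).map S.subtype

theorem mem_ZS {i : ℕ} {y : Ω} :
    y ∈ ZS S i ↔ ∃ hy : y ∈ S, (⟨y, hy⟩ : S) ∈ Subgroup.upperCentralSeries ↥S i := by
  constructor
  · rintro ⟨s, hs, rfl⟩
    exact ⟨s.2, hs⟩
  · rintro ⟨hy, h⟩
    exact ⟨⟨y, hy⟩, h, rfl⟩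

theorem aut_mem_ZS (α : MulAut ↥S) {i : ℕ} {y : Ω} (hy : y ∈ ZS S i) (hyS : y ∈ S) :
    ((α ⟨y, hyS⟩ : S) : Ω) ∈ ZS S i := by
  obtain ⟨_, h⟩ := mem_ZS.mp hy
  rw [mem_ZS]
  refine ⟨(α ⟨y, hyS⟩).2, ?_⟩
  have hc := Subgroup.characteristic_iff_comap_eq.mp
    (inferInstance : (Subgroup.upperCentralSeries ↥S i).Characteristic) α
  have h1 : (⟨y, hyS⟩ : S) ∈ (Subgroup.upperCentralSeries ↥S i).comap α.toMonoidHom := by
    rw [hc]; exact h
  exact h1

theorem no_essential_of_cyclic_control [Finite S] (p : ℕ) [hp : Fact p.Prime]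
    (hS : IsPGroup p S) (F : FusionSystem S) (hF : F.IsSaturated p)
    (h : ∀ A B : Subgroup Ω, A ≤ F.hyperfocalSubgroup p → B ≤ F.hyperfocalSubgroup p →
      IsCyclic ↥A → (Nat.card ↥A = p ∨ Nat.card ↥A = 4) → IsCyclic ↥B →
      (Nat.card ↥B = p ∨ Nat.card ↥B = 4) → F.homSet A B ⊆ F.normalizerHom S A)
    {P : Subgroup Ω} (hP : F.IsEssential p P) : False := by
  classical
  have hPS : P ≤ S := hP.1.1
  have hlt : P < S := Cfsg.Agent.Lib.Helper2.EssGen.essential_lt hS F hF hP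
  have hrad := Cfsg.Agent.S5080.result p hS F hF P hP
  have hcen : centralizerIn S P ≤ P := hP.1.2 P (isConj_refl F hPS)
  haveI hfinP : Finite P := finite_of_le hPS
  have hPp : IsPGroup p P := isPGroup_of_le hS hPS
  obtain ⟨D, hDhyp, hDexp, hDinv, hDfaith⟩ := exists_detecting p hS F hPS
  obtain ⟨W, hW⟩ : ∃ W : ℕ → Subgroup ↥P, W = fun i => D ⊓ (ZS S i).comap P.subtype := ⟨_, rfl⟩
  have hWmem : ∀ i (x : ↥P), x ∈ W i ↔ x ∈ D ∧ (x : Ω) ∈ ZS S i := by
    intro i x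
    rw [hW]
    exact Iff.rfl
  have hinvW : ∀ γ ∈ F.autGroup P, ∀ j, ∀ x ∈ W j, γ x ∈ W j := by
    intro γ hγ j x hx
    rw [hWmem] at hx ⊢
    obtain ⟨hxD, hxZ⟩ := hx
    refine ⟨hDinv γ hγ x hxD, ?_⟩
    by_cases hx1 : x = 1
    · rw [hx1, map_one, Subgroup.coe_one]
      exact Subgroup.one_mem _
    · have hxq := hDexp x hxD
      have hγxD := hDinv γ hγ x hxD
      have hord : orderOf x = p ∨ orderOf x = 4 := orderOf_eq_of_pow_qexp hp.out hxq hx1
      have hord' : orderOf (γ x) = orderOf x := MulEquiv.orderOf_eq γ x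
      have hyo : orderOf (x : Ω) = orderOf x := Subgroup.orderOf_coe x
      have hy'o : orderOf ((γ x : ↥P) : Ω) = orderOf x := by
        rw [Subgroup.orderOf_coe, hord']
      have hAP : Subgroup.zpowers (x : Ω) ≤ P := Subgroup.zpowers_le.mpr x.2
      have hAS : Subgroup.zpowers (x : Ω) ≤ S := hAP.trans hPS
      have hA : Subgroup.zpowers (x : Ω) ≤ F.hyperfocalSubgroup p :=
        Subgroup.zpowers_le.mpr (hDhyp x hxD)
      have hB : Subgroup.zpowers ((γ x : ↥P) : Ω) ≤ F.hyperfocalSubgroup p :=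
        Subgroup.zpowers_le.mpr (hDhyp _ hγxD)
      have hcA : Nat.card (Subgroup.zpowers (x : Ω)) = p ∨
          Nat.card (Subgroup.zpowers (x : Ω)) = 4 := by
        rw [Nat.card_zpowers, hyo]; exact hord
      have hcB : Nat.card (Subgroup.zpowers ((γ x : ↥P) : Ω)) = p ∨
          Nat.card (Subgroup.zpowers ((γ x : ↥P) : Ω)) = 4 := by
        rw [Nat.card_zpowers, hy'o]; exact hord
      have hγF := hom_of_mem_autGroup F hPS hγ
      have hφF := restrict_mem F hγF hAP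
      have hφB : ∀ a : Subgroup.zpowers (x : Ω),
          ((P.subtype.comp γ.toMonoidHom).comp (Subgroup.inclusion hAP)) a ∈
            Subgroup.zpowers ((γ x : ↥P) : Ω) := by
        rintro ⟨a, ha⟩
        obtain ⟨k, hk⟩ := Subgroup.mem_zpowers_iff.mp ha
        have h1 : (⟨a, hAP ha⟩ : ↥P) = x ^ k := Subtype.ext (by rw [Subgroup.coe_zpow]; exact hk.symm)
        show ((γ ⟨a, hAP ha⟩ : ↥P) : Ω) ∈ _
        rw [h1, map_zpow, Subgroup.coe_zpow]
        exact Subgroup.zpow_mem_zpowers _ k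
      have hnorm := h _ _ hA hB inferInstance hcA inferInstance hcB ⟨hφF, hφB⟩
      obtain ⟨-, -, -, ψ, hψ, hψφ, -⟩ := hnorm
      obtain ⟨α, hα, hαφ⟩ := Cfsg.Agent.Lib.Helper2.Ex.aut_of_hom_top F hAS _
        (Subgroup.zpowers (x : Ω) ⊔ S) (sup_eq_right.mpr hAS).symm ψ hψ
        (fun z hz hN => hψφ ⟨z, hz⟩)
      have h1 := hαφ ⟨(x : Ω), Subgroup.mem_zpowers _⟩
      have h2 := aut_mem_ZS α hxZ (hPS x.2)
      have h3 : ((α ⟨(x : Ω), hPS x.2⟩ : S) : Ω) = ((γ x : ↥P) : Ω) := h1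
      rw [h3] at h2
      exact h2
  have hstab : ∀ β ∈ autInducedBy S P, ∀ j, ∀ x ∈ W (j + 1), x⁻¹ * β x ∈ W j := by
    intro β hβ j x hx
    obtain ⟨g, hgS, hgβ⟩ := (mem_autInducedBy_iff S P β).mp hβ
    rw [hWmem] at hx ⊢
    obtain ⟨hxD, hxZ⟩ := hx
    have hβΓ := autInducedBy_le_autGroup F hPS hβ
    refine ⟨D.mul_mem (D.inv_mem hxD) (hDinv β hβΓ x hxD), ?_⟩
    obtain ⟨hxS, hxu⟩ := mem_ZS.mp hxZ
    rw [Subgroup.coe_mul, Subgroup.coe_inv, hgβ x, mem_ZS]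
    have hinvu : (⟨(x : Ω), hxS⟩ : S)⁻¹ ∈ Subgroup.upperCentralSeries ↥S (j + 1) :=
      Subgroup.inv_mem _ hxu
    have h1 := Subgroup.mem_upperCentralSeries_succ_iff.mp hinvu ⟨g, hgS⟩
    refine ⟨S.mul_mem (S.inv_mem hxS) (S.mul_mem (S.mul_mem hgS hxS) (S.inv_mem hgS)), ?_⟩
    convert h1 using 1
    apply Subtype.ext
    simp [commutatorElement_def, mul_assoc]
  have h0 : W 0 = ⊥ := by
    rw [eq_bot_iff]
    intro x hx
    rw [hWmem] at hx
    obtain ⟨hxS, hxu⟩ := mem_ZS.mp hx.2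
    rw [Subgroup.upperCentralSeries_zero, Subgroup.mem_bot] at hxu
    rw [Subgroup.mem_bot]
    apply Subtype.ext
    have := congrArg Subtype.val hxu
    exact this
  haveI hnil : Group.IsNilpotent S := hS.isNilpotent
  obtain ⟨m, hm⟩ := (Group.IsNilpotent.nilpotent' : ∃ n, Subgroup.upperCentralSeries ↥S n = ⊤)
  have hWm : W m = D := by
    apply le_antisymm
    · intro x hx
      exact ((hWmem m x).mp hx).1
    · intro x hx
      rw [hWmem]
      refine ⟨hx, mem_ZS.mpr ⟨hPS x.2, ?_⟩⟩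
      rw [hm]
      exact Subgroup.mem_top _
  obtain ⟨g, hgN, hgP⟩ := exists_mem_normalizerIn_not_mem hS hlt
  have hgS : g ∈ S := hgN.1
  obtain ⟨β, hβdef⟩ : ∃ β : MulAut ↥P, β = conjAut P ⟨g, hgN.2⟩ := ⟨_, rfl⟩
  have hβval : ∀ x : ↥P, ((β x : ↥P) : Ω) = g * x * g⁻¹ := fun x => by rw [hβdef]; rfl
  have hβT : β ∈ autInducedBy S P := (mem_autInducedBy_iff S P β).mpr ⟨g, hgS, hβval⟩
  have hβΓ := autInducedBy_le_autGroup F hPS hβT
  have hcore := mem_pCore_of_stabilizes_faithful hPp (F.autGroup P) D W hinvW h0 m hWm hDfaith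
    hβΓ (hstab β hβT)
  rw [hrad.2] at hcore
  exact not_mem_inn_of_not_mem hcen hgS hgP hPS hβval hcore

theorem normal_top_of_cyclic_control [Finite S] (p : ℕ) [hp : Fact p.Prime]
    (hS : IsPGroup p S) (F : FusionSystem S) (hF : F.IsSaturated p)
    (h : ∀ A B : Subgroup Ω, A ≤ F.hyperfocalSubgroup p → B ≤ F.hyperfocalSubgroup p →
      IsCyclic ↥A → (Nat.card ↥A = p ∨ Nat.card ↥A = 4) → IsCyclic ↥B →
      (Nat.card ↥B = p ∨ Nat.card ↥B = 4) → F.homSet A B ⊆ F.normalizerHom S A) :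
    F.IsNormal S := by
  rw [normal_iff_essential_invariant p hS F hF S]
  rintro P (rfl | hess)
  · refine ⟨le_rfl, fun α _ => ?_⟩
    rw [Subgroup.subgroupOf_self]
    exact Subgroup.map_top_of_surjective _ α.surjective
  · exact (no_essential_of_cyclic_control p hS F hF h hess).elim

end Cfsg.Agent.Lib.Helper2.SE
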