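import Cfsg.Agent.Lib.Helper2.SE3
import Cfsg.Agent.Lib.Helper1.Rk1
import Cfsg.Agent.Lib.Helper1.CoprimeAut
import Cfsg.Agent.Lib.Helper1.KN2
import Cfsg.Agent.Lib.Helper9.Alperin3

/-! Small-exponent abelian subgroups detecting `Aut_S(Q)` inside `Aut_F(Q)`. -/
set_option autoImplicit false

namespace Cfsg.Agent.Lib.Helper2.SE

open Cfsg Cfsg.FusionSystem Cfsg.Agent.Lib.Helper9

variable {Ω : Type*} [Group Ω] {S : Subgroup Ω}

/-- abelian of exponent dividing `qexp p` -/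
def Small (p : ℕ) (A : Subgroup Ω) : Prop :=
  (∀ a ∈ A, ∀ b ∈ A, a * b = b * a) ∧ ∀ a ∈ A, a ^ qexp p = 1

/-- a group with a central subgroup of prime index is commutative -/
theorem comm_of_central_index_prime {G : Type*} [Group G] [Finite G] {p : ℕ} [hp : Fact p.Prime]
    (A : Subgroup G) (hc : ∀ a ∈ A, ∀ g : G, g * a = a * g)
    (hcard : Nat.card G = Nat.card A * p) : ∀ x y : G, x * y = y * x := by
  haveI hAn : A.Normal := ⟨fun a ha g => by rw [hc a ha g, mul_inv_cancel_right]; exact ha⟩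
  have h1 := Subgroup.card_eq_card_quotient_mul_card_subgroup A
  have hpos : 0 < Nat.card A := Nat.card_pos
  have h2 : Nat.card (G ⧸ A) = p := by
    have h3 : Nat.card (G ⧸ A) * Nat.card A = p * Nat.card A := by
      rw [← h1, hcard, mul_comm]
    exact Nat.eq_of_mul_eq_mul_right hpos h3
  haveI : IsCyclic (G ⧸ A) := isCyclic_of_prime_card h2
  apply commutative_of_cyclic_center_quotient (QuotientGroup.mk' A)
  rw [QuotientGroup.ker_mk']
  intro a ha
  rw [Subgroup.mem_center_iff]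
  intro g
  exact hc a ha g

/-- a maximal invariant abelian subgroup of an invariant subgroup `D` of a `p`-group `K` contains
its centralizer in `D` -/
theorem exists_max_abelian_invariant {K : Subgroup Ω} [Finite K] {p : ℕ} [hp : Fact p.Prime]
    (hK : IsPGroup p K) (D : Subgroup Ω) (hDK : D ≤ K)
    (hDinv : ∀ g ∈ K, ∀ x ∈ D, g * x * g⁻¹ ∈ D) :
    ∃ B : Subgroup Ω, B ≤ D ∧ (∀ a ∈ B, ∀ b ∈ B, a * b = b * a) ∧
      (∀ g ∈ K, ∀ x ∈ B, g * x * g⁻¹ ∈ B) ∧
      ∀ y ∈ D, (∀ b ∈ B, y * b = b * y) → y ∈ B := by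
  classical
  obtain ⟨fam, hfam⟩ : ∃ fam : Set (Subgroup Ω), fam = {B : Subgroup Ω | B ≤ D ∧
      (∀ a ∈ B, ∀ b ∈ B, a * b = b * a) ∧ (∀ g ∈ K, ∀ x ∈ B, g * x * g⁻¹ ∈ B)} := ⟨_, rfl⟩
  have hfin : fam.Finite := by
    apply (finite_subgroups_le K).subset
    intro B hB
    rw [hfam] at hB
    exact hB.1.trans hDK
  have hne : fam.Nonempty := by
    refine ⟨⊥, ?_⟩
    rw [hfam]
    refine ⟨bot_le, ?_, ?_⟩
    · intro a ha b hb
      rw [Subgroup.mem_bot] at ha hb
      rw [ha, hb]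
    · intro g _ x hx
      rw [Subgroup.mem_bot] at hx
      rw [hx, mul_one, mul_inv_cancel]
      exact Subgroup.one_mem _
  obtain ⟨B, hBmax⟩ := hfin.exists_maximal hne
  have hBfam : B ∈ fam := hBmax.prop
  rw [hfam] at hBfam
  obtain ⟨hBD, hBab, hBinv⟩ := hBfam
  refine ⟨B, hBD, hBab, hBinv, ?_⟩
  intro y hyD hyB
  by_contra hyn
  obtain ⟨C, hC⟩ : ∃ C : Subgroup Ω, C = D ⊓ Subgroup.centralizer (B : Set Ω) := ⟨_, rfl⟩
  have hmemC : ∀ x, x ∈ C ↔ x ∈ D ∧ ∀ b ∈ B, b * x = x * b := by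
    intro x
    rw [hC, Subgroup.mem_inf, Subgroup.mem_centralizer_iff]
    exact Iff.rfl
  have hBC : B ≤ C := by
    intro b hb
    rw [hmemC]
    exact ⟨hBD hb, fun b' hb' => hBab b' hb' b hb⟩
  have hyC : y ∈ C := by
    rw [hmemC]
    exact ⟨hyD, fun b hb => (hyB b hb).symm⟩
  have hCD : C ≤ D := fun x hx => ((hmemC x).mp hx).1
  have hCinv : ∀ g ∈ K, ∀ x ∈ C, g * x * g⁻¹ ∈ C := by
    intro g hg x hx
    rw [hmemC] at hx ⊢
    refine ⟨hDinv g hg x hx.1, ?_⟩
    intro b hb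
    have h1 : g⁻¹ * b * g⁻¹⁻¹ ∈ B := hBinv g⁻¹ (K.inv_mem hg) b hb
    have h2 := hx.2 _ h1
    calc b * (g * x * g⁻¹) = g * ((g⁻¹ * b * g⁻¹⁻¹) * x) * g⁻¹ := by group
      _ = g * (x * (g⁻¹ * b * g⁻¹⁻¹)) * g⁻¹ := by rw [h2]
      _ = g * x * g⁻¹ * b := by group
  haveI hBn : (B.subgroupOf K).Normal := by
    constructor
    intro n hn g
    rw [Subgroup.mem_subgroupOf] at hn ⊢
    exact hBinv (g : Ω) g.2 (n : Ω) hn
  haveI hCn : (C.subgroupOf K).Normal := by
    constructor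
    intro n hn g
    rw [Subgroup.mem_subgroupOf] at hn ⊢
    exact hCinv (g : Ω) g.2 (n : Ω) hn
  have hle : B.subgroupOf K ≤ C.subgroupOf K := by
    intro n hn
    rw [Subgroup.mem_subgroupOf] at hn ⊢
    exact hBC hn
  have hneq : B.subgroupOf K ≠ C.subgroupOf K := by
    intro h
    apply hyn
    have hyK : y ∈ K := hDK hyD
    have h1 : (⟨y, hyK⟩ : K) ∈ C.subgroupOf K := by
      rw [Subgroup.mem_subgroupOf]
      exact hyC
    rw [← h, Subgroup.mem_subgroupOf] at h1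
    exact h1
  obtain ⟨N, hNn, hBN, hNC, hNcard⟩ := Cfsg.Agent.Lib.Helper1.Rk.exists_normal_step hK
    (B.subgroupOf K) (C.subgroupOf K) hle hneq
  have hcomm : ∀ x y : N, x * y = y * x := by
    apply comm_of_central_index_prime (p := p) ((B.subgroupOf K).subgroupOf N)
    · intro a ha g
      rw [Subgroup.mem_subgroupOf, Subgroup.mem_subgroupOf] at ha
      have hgC : ((g : K) : Ω) ∈ C := by
        have h1 := hNC g.2
        rw [Subgroup.mem_subgroupOf] at h1
        exact h1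
      have h2 := ((hmemC _).mp hgC).2 _ ha
      apply Subtype.ext
      apply Subtype.ext
      exact h2.symm
    · rw [Nat.card_congr (Subgroup.subgroupOfEquivOfLe hBN).toEquiv]
      exact hNcard
  obtain ⟨B₁, hB₁⟩ : ∃ B₁ : Subgroup Ω, B₁ = N.map K.subtype := ⟨_, rfl⟩
  have hB₁fam : B₁ ∈ fam := by
    rw [hfam, hB₁]
    refine ⟨?_, ?_, ?_⟩
    · rintro _ ⟨n, hn, rfl⟩
      have h1 := hNC hn
      rw [Subgroup.mem_subgroupOf] at h1
      exact hCD h1
    · rintro _ ⟨n, hn, rfl⟩ _ ⟨m, hm, rfl⟩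
      have h1 := hcomm ⟨n, hn⟩ ⟨m, hm⟩
      have h2 := congrArg (fun z : N => ((z : K) : Ω)) h1
      exact h2
    · rintro g hg _ ⟨n, hn, rfl⟩
      exact ⟨⟨g, hg⟩ * n * ⟨g, hg⟩⁻¹, hNn.conj_mem n hn ⟨g, hg⟩, rfl⟩
  have hBB₁ : B ≤ B₁ := by
    intro b hb
    rw [hB₁]
    have hbK : b ∈ K := hDK (hBD hb)
    refine ⟨⟨b, hbK⟩, hBN ?_, rfl⟩
    rw [Subgroup.mem_subgroupOf]
    exact hb
  have hB₁B : B₁ ≤ B := hBmax.le_of_ge hB₁fam hBB₁
  have hNB : N ≤ B.subgroupOf K := by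
    intro n hn
    rw [Subgroup.mem_subgroupOf]
    apply hB₁B
    rw [hB₁]
    exact ⟨n, hn, rfl⟩
  have hNeq : N = B.subgroupOf K := le_antisymm hNB hBN
  rw [hNeq] at hNcard
  have hpos : 0 < Nat.card (B.subgroupOf K) := Nat.card_pos
  have hp1 : p = 1 := Nat.eq_of_mul_eq_mul_left hpos (hNcard.symm.trans (mul_one _).symm)
  exact absurd hp1 hp.out.one_lt.ne'

/-- Thompson's `A × B` lemma in the form needed: a `p'`-automorphism `a` of a `p`-group `G`
that leaves `D` invariant and fixes pointwise a subset `B` of `D` containing its centralizer in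
`D` fixes `D` pointwise. -/
theorem fix_of_fix_self_centralizing {G : Type*} [Group G] [Finite G] {p : ℕ} [hp : Fact p.Prime]
    (hG : IsPGroup p G) (D : Subgroup G) (B : Set G) (hBD : ∀ b ∈ B, b ∈ D)
    (hself : ∀ y ∈ D, (∀ b ∈ B, y * b = b * y) → y ∈ B)
    (a : MulAut G) (ha : Nat.Coprime (orderOf a) p) (hD : ∀ x ∈ D, a x ∈ D)
    (hB : ∀ b ∈ B, a b = b) : ∀ x ∈ D, a x = x := by
  classical
  obtain ⟨H, hH⟩ : ∃ H : Subgroup G, ∀ x, x ∈ H ↔ x ∈ D ∧ a x = x :=
    ⟨{ carrier := {x | x ∈ D ∧ a x = x}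
       one_mem' := ⟨D.one_mem, map_one a⟩
       mul_mem' := by
         rintro x y ⟨hx, hx'⟩ ⟨hy, hy'⟩
         exact ⟨D.mul_mem hx hy, by rw [map_mul, hx', hy']⟩
       inv_mem' := by
         rintro x ⟨hx, hx'⟩
         exact ⟨D.inv_mem hx, by rw [map_inv, hx']⟩ }, fun x => Iff.rfl⟩
  have hHD : H ≤ D := fun x hx => ((hH x).mp hx).1
  by_cases hHeq : H = D
  · intro x hx
    rw [← hHeq] at hx
    exact ((hH x).mp hx).2
  · exfalso
    have hlt : H < D := lt_of_le_of_ne hHD hHeq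
    have hDp : IsPGroup p D := hG.to_subgroup D
    obtain ⟨g, hgN, hgH⟩ := exists_mem_normalizerIn_not_mem (S := D) hDp hlt
    have hgD : g ∈ D := hgN.1
    have hgn : g ∈ Subgroup.normalizer (H : Set G) := hgN.2
    apply hgH
    rw [hH]
    refine ⟨hgD, ?_⟩
    apply Cfsg.Agent.Lib.Helper1.aut_apply_eq_of_fixed_commutator hG a ha g
    apply hB
    apply hself
    · exact D.mul_mem (D.inv_mem hgD) (hD g hgD)
    · intro b hb
      have hbH : b ∈ H := (hH b).mpr ⟨hBD b hb, hB b hb⟩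
      have h1 : g * b * g⁻¹ ∈ H := (Subgroup.mem_normalizer_iff.mp hgn b).mp hbH
      have h2 : a (g * b * g⁻¹) = g * b * g⁻¹ := ((hH _).mp h1).2
      rw [map_mul, map_mul, map_inv, hB b hb] at h2
      calc g⁻¹ * a g * b = g⁻¹ * (a g * b * (a g)⁻¹) * a g := by group
        _ = g⁻¹ * (g * b * g⁻¹) * a g := by rw [h2]
        _ = b * (g⁻¹ * a g) := by group

/-- In a fully normalized `Q` there is a small abelian subgroup `B` of the hyperfocal subgroup,
invariant under `N_S(Q)`, such that every automorphism in `Aut_F(Q)` fixing `B` pointwise is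
induced by an element of `S`. -/
theorem exists_small_selfcentralizing [Finite S] (p : ℕ) [hp : Fact p.Prime] (hS : IsPGroup p S)
    (F : FusionSystem S) (hF : F.IsSaturated p) {Q : Subgroup Ω} (hQn : F.IsFullyNormalized Q) :
    ∃ B : Subgroup Ω, B ≤ Q ∧ B ≤ F.hyperfocalSubgroup p ∧ Small p B ∧
      (∀ g ∈ normalizerIn S Q, ∀ b ∈ B, g * b * g⁻¹ ∈ B) ∧
      ∀ γ ∈ F.autGroup Q, (∀ x : Q, (x : Ω) ∈ B → γ x = x) → γ ∈ autInducedBy S Q := by
  classical
  have hQS : Q ≤ S := hQn.1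
  haveI hfinQ : Finite Q := finite_of_le hQS
  have hQp : IsPGroup p Q := isPGroup_of_le hS hQS
  haveI hfinK : Finite (normalizerIn S Q) := finite_normalizerIn Q
  have hKp : IsPGroup p (normalizerIn S Q) := isPGroup_of_le hS (normalizerIn_le S Q)
  have hQK : Q ≤ normalizerIn S Q := self_le_normalizerIn' hQS
  obtain ⟨D, hDhyp, hDexp, hDinv, hDfaith⟩ := exists_detecting p hS F hQS
  obtain ⟨DΩ, hDΩ⟩ : ∃ DΩ : Subgroup Ω, DΩ = D.map Q.subtype := ⟨_, rfl⟩
  have hmemDΩ : ∀ x : Q, (x : Ω) ∈ DΩ ↔ x ∈ D := by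
    intro x
    rw [hDΩ]
    constructor
    · rintro ⟨d, hd, hdx⟩
      have h1 : d = x := Subtype.ext hdx
      rw [← h1]
      exact hd
    · intro hx
      exact ⟨x, hx, rfl⟩
  have hDΩQ : DΩ ≤ Q := by
    rw [hDΩ]
    rintro _ ⟨d, -, rfl⟩
    exact d.2
  have hDΩinv : ∀ g ∈ normalizerIn S Q, ∀ x ∈ DΩ, g * x * g⁻¹ ∈ DΩ := by
    intro g hg x hx
    have hxQ : x ∈ Q := hDΩQ hx
    have hd : (⟨x, hxQ⟩ : Q) ∈ D := (hmemDΩ ⟨x, hxQ⟩).mp hx
    have hα : conjAut Q ⟨g, hg.2⟩ ∈ F.autGroup Q := by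
      apply autInducedBy_le_autGroup F hQS
      rw [mem_autInducedBy_iff]
      exact ⟨g, hg.1, fun x => rfl⟩
    have h2 := hDinv _ hα _ hd
    have h3 := (hmemDΩ _).mpr h2
    exact h3
  obtain ⟨B, hBD, hBab, hBinv, hBself⟩ :=
    exists_max_abelian_invariant hKp DΩ (hDΩQ.trans hQK) hDΩinv
  have hBQ : B ≤ Q := hBD.trans hDΩQ
  have hBmemD : ∀ x : Q, (x : Ω) ∈ B → x ∈ D := fun x hx => (hmemDΩ x).mp (hBD hx)
  refine ⟨B, hBQ, ?_, ⟨hBab, ?_⟩, hBinv, ?_⟩
  · intro b hb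
    exact hDhyp _ (hBmemD ⟨b, hBQ hb⟩ hb)
  · intro b hb
    have h1 := hDexp _ (hBmemD ⟨b, hBQ hb⟩ hb)
    have h2 := congrArg (fun z : Q => (z : Ω)) h1
    simpa using h2
  · intro γ hγ hγB
    obtain ⟨Fx, hFx⟩ : ∃ Fx : Subgroup (F.autGroup Q), ∀ a : F.autGroup Q,
        a ∈ Fx ↔ ∀ x : Q, (x : Ω) ∈ B → (a : MulAut Q) x = x :=
      ⟨{ carrier := {a | ∀ x : Q, (x : Ω) ∈ B → (a : MulAut Q) x = x}
         one_mem' := fun x _ => rfl
         mul_mem' := by
           intro a b ha hb x hx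
           show (a : MulAut Q) ((b : MulAut Q) x) = x
           rw [hb x hx, ha x hx]
         inv_mem' := by
           intro a ha x hx
           show ((a : MulAut Q))⁻¹ x = x
           have h1 := ha x hx
           calc ((a : MulAut Q))⁻¹ x = ((a : MulAut Q))⁻¹ ((a : MulAut Q) x) := by rw [h1]
             _ = x := MulAut.inv_apply_self _ _ _ }, fun a => Iff.rfl⟩
    have hFxp : IsPGroup p Fx := by
      apply isPGroup_of_coprime_trivial hp.out
      intro a ha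
      have hγ' : ((a : F.autGroup Q) : MulAut Q) ∈ F.autGroup Q := (a : F.autGroup Q).2
      have hord : orderOf ((a : F.autGroup Q) : MulAut Q) = orderOf a := by
        rw [Subgroup.orderOf_coe, Subgroup.orderOf_coe]
      have hcop : Nat.Coprime (orderOf ((a : F.autGroup Q) : MulAut Q)) p := by
        rw [hord]
        exact ha
      have hfixB : ∀ x : Q, (x : Ω) ∈ B → ((a : F.autGroup Q) : MulAut Q) x = x :=
        (hFx a).mp a.2
      have h1 : ((a : F.autGroup Q) : MulAut Q) = 1 := by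
        apply hDfaith _ hγ' hcop
        apply fix_of_fix_self_centralizing hQp D {x : Q | (x : Ω) ∈ B} hBmemD ?_ _ hcop
          (hDinv _ hγ') hfixB
        intro y hy hyB
        apply hBself (y : Ω) ((hmemDΩ y).mpr hy)
        intro b hb
        have h2 := hyB ⟨b, hBQ hb⟩ hb
        exact congrArg (fun z : Q => (z : Ω)) h2
      apply Subtype.ext
      apply Subtype.ext
      exact h1
    obtain ⟨-, R, hR⟩ := fullyAutomized_of_fullyNormalized hS F hF hQn
    have hTp : IsPGroup p ((autInducedBy S Q).subgroupOf (F.autGroup Q)) := by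
      rw [← hR]
      exact R.isPGroup'
    have key : ∀ t ∈ (autInducedBy S Q).subgroupOf (F.autGroup Q), ∀ a ∈ Fx,
        t * a * t⁻¹ ∈ Fx := by
      intro t ht a ha
      rw [Subgroup.mem_subgroupOf, mem_autInducedBy_iff] at ht
      obtain ⟨g, hgS, hg⟩ := ht
      have hgN : g ∈ Subgroup.normalizer (Q : Set Ω) := mem_normalizer_of_induces _ hg
      rw [hFx] at ha ⊢
      intro x hx
      show (t : MulAut Q) ((a : MulAut Q) ((t : MulAut Q)⁻¹ x)) = x
      obtain ⟨z, hz⟩ : ∃ z : Q, z = (t : MulAut Q)⁻¹ x := ⟨_, rfl⟩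
      have htz : (t : MulAut Q) z = x := by
        rw [hz, MulAut.apply_inv_self]
      have hzB : (z : Ω) ∈ B := by
        have h1 := hg z
        rw [htz] at h1
        have h2 : (z : Ω) = g⁻¹ * (x : Ω) * g⁻¹⁻¹ := by
          rw [h1]
          group
        rw [h2]
        exact hBinv g⁻¹ (Subgroup.inv_mem _ ⟨hgS, hgN⟩) _ hx
      rw [← hz, ha z hzB, htz]
    have hTnorm : (autInducedBy S Q).subgroupOf (F.autGroup Q) ≤
        Subgroup.normalizer (Fx : Set (F.autGroup Q)) := by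
      intro t ht
      rw [Subgroup.mem_normalizer_iff]
      intro a
      constructor
      · exact key t ht a
      · intro h
        have h1 := key t⁻¹ (Subgroup.inv_mem _ ht) _ h
        have e : t⁻¹ * (t * a * t⁻¹) * t⁻¹⁻¹ = a := by group
        rw [e] at h1
        exact h1
    have hsup : IsPGroup p ↥(Fx ⊔ (autInducedBy S Q).subgroupOf (F.autGroup Q)) :=
      IsPGroup.to_sup_of_normal_left' hFxp hTp hTnorm
    have hle : (R : Subgroup (F.autGroup Q)) ≤
        Fx ⊔ (autInducedBy S Q).subgroupOf (F.autGroup Q) := by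
      rw [hR]
      exact le_sup_right
    have heq := R.is_maximal' hsup hle
    have hFxT : Fx ≤ (autInducedBy S Q).subgroupOf (F.autGroup Q) := by
      rw [← hR, ← heq]
      exact le_sup_left
    have hmem : (⟨γ, hγ⟩ : F.autGroup Q) ∈ Fx := (hFx _).mpr hγB
    have h1 := hFxT hmem
    rw [Subgroup.mem_subgroupOf] at h1
    exact h1

end Cfsg.Agent.Lib.Helper2.SE
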