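import Cfsg.Agent.Lib.Helper2.SE4
import Cfsg.Agent.Lib.Helper9.Hyperfocal2

/-! The key extension step: automorphisms of a fully normalized `Q` carrying a "nice" small
abelian subgroup lie in the subsystem. -/
set_option autoImplicit false

namespace Cfsg.Agent.Lib.Helper2.SE

open Cfsg Cfsg.FusionSystem Cfsg.Agent.Lib.Helper9

variable {Ω : Type*} [Group Ω] {S : Subgroup Ω}

/-- elements of `P ⊔ C` are products when `P` normalizes `C` -/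
theorem exists_mul_of_mem_sup {P C : Subgroup Ω}
    (hn : ∀ x ∈ P, ∀ c ∈ C, x * c * x⁻¹ ∈ C) {g : Ω} (hg : g ∈ P ⊔ C) :
    ∃ x ∈ P, ∃ c ∈ C, g = x * c := by
  rw [Subgroup.sup_eq_closure] at hg
  induction hg using Subgroup.closure_induction with
  | mem g hg =>
    rcases hg with hg | hg
    · exact ⟨g, hg, 1, C.one_mem, (mul_one g).symm⟩
    · exact ⟨1, P.one_mem, g, hg, (one_mul g).symm⟩
  | one => exact ⟨1, P.one_mem, 1, C.one_mem, (mul_one 1).symm⟩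
  | mul a b _ _ iha ihb =>
    obtain ⟨x₁, hx₁, c₁, hc₁, rfl⟩ := iha
    obtain ⟨x₂, hx₂, c₂, hc₂, rfl⟩ := ihb
    refine ⟨x₁ * x₂, P.mul_mem hx₁ hx₂, (x₂⁻¹ * c₁ * x₂⁻¹⁻¹) * c₂,
      C.mul_mem (hn _ (P.inv_mem hx₂) _ hc₁) hc₂, ?_⟩
    group
  | inv a _ iha =>
    obtain ⟨x, hx, c, hc, rfl⟩ := iha
    refine ⟨x⁻¹, P.inv_mem hx, x * c⁻¹ * x⁻¹, hn _ hx _ (C.inv_mem hc), ?_⟩
    group

theorem aut_le_of_nice [Finite S] (p : ℕ) [hp : Fact p.Prime] (hS : IsPGroup p S)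
    (E F : FusionSystem S) (hE : E.IsSaturated p) (hF : F.IsSaturated p)
    (hEF : E.IsSubsystemOf F)
    (hsm : ∀ A B : Subgroup Ω, A ≤ F.hyperfocalSubgroup p → B ≤ F.hyperfocalSubgroup p →
      Small p A → Small p B → E.homSet A B = F.homSet A B)
    {Q B : Subgroup Ω} (hQn : F.IsFullyNormalized Q) (hBQ : B ≤ Q)
    (hBhyp : B ≤ F.hyperfocalSubgroup p) (hBsm : Small p B)
    (hBinv : ∀ g ∈ normalizerIn S Q, ∀ b ∈ B, g * b * g⁻¹ ∈ B)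
    (hBT : ∀ γ ∈ F.autGroup Q, (∀ x : Q, (x : Ω) ∈ B → γ x = x) → γ ∈ autInducedBy S Q)
    (hBn : F.IsFullyNormalized B)
    (hIH : ∀ Q₁ : Subgroup Ω, Q₁ ≤ S → Nat.card Q < Nat.card Q₁ → F.Hom Q₁ ⊆ E.Hom Q₁) :
    F.autGroup Q ≤ E.autGroup Q := by
  classical
  have hQS : Q ≤ S := hQn.1
  have hBS : B ≤ S := hBQ.trans hQS
  haveI hfinQ : Finite Q := finite_of_le hQS
  have hsc := hyperfocal_stronglyClosed p hS F hF
  have hQK : Q ≤ normalizerIn S Q := self_le_normalizerIn' hQS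
  have hBnormQ : ∀ g ∈ Q, ∀ b ∈ B, g * b * g⁻¹ ∈ B := fun g hg b hb => hBinv g (hQK hg) b hb
  have hBnE : E.IsFullyNormalized B := by
    refine ⟨hBS, fun R hR => hBn.2 R ?_⟩
    obtain ⟨φ, hφ, hr⟩ := hR
    exact ⟨φ, hEF B hφ, hr⟩
  have hBrecE : E.IsReceptive B := receptive_of_fullyCentralized hS E hE
    (fullyCentralized_of_fullyNormalized hS E hE hBnE)
  have hQrecF : F.IsReceptive Q := receptive_of_fullyCentralized hS F hF
    (fullyCentralized_of_fullyNormalized hS F hF hQn)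
  intro δ hδ
  rw [mem_autGroup_iff E hQS]
  have hδF : Q.subtype.comp δ.toMonoidHom ∈ F.Hom Q := hom_of_mem_autGroup F hQS hδ
  have hδinvF : Q.subtype.comp (δ⁻¹).toMonoidHom ∈ F.Hom Q :=
    hom_of_mem_autGroup F hQS (Subgroup.inv_mem _ hδ)
  -- the preimage `B'` of `B` under `δ`
  obtain ⟨B', hB'⟩ : ∃ B' : Subgroup Ω,
      B' = ((B.subgroupOf Q).comap δ.toMonoidHom).map Q.subtype := ⟨_, rfl⟩
  have hmemB' : ∀ x : Q, (x : Ω) ∈ B' ↔ ((δ x : Q) : Ω) ∈ B := by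
    intro x
    rw [hB']
    constructor
    · rintro ⟨y, hy, hyx⟩
      have h1 : y = x := Subtype.ext hyx
      rw [← h1]
      exact hy
    · intro hx
      exact ⟨x, hx, rfl⟩
  have hB'Q : B' ≤ Q := by
    rw [hB']
    rintro _ ⟨y, -, rfl⟩
    exact y.2
  have hB'S : B' ≤ S := hB'Q.trans hQS
  have hB'hyp : B' ≤ F.hyperfocalSubgroup p := by
    intro x hx
    have hxQ : x ∈ Q := hB'Q hx
    have h1 : ((δ ⟨x, hxQ⟩ : Q) : Ω) ∈ B := (hmemB' ⟨x, hxQ⟩).mp hx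
    have h2 := hsc.2 B hBhyp _ (restrict_mem F hδinvF hBQ) ⟨_, h1⟩
    have h3 : ((Q.subtype.comp (δ⁻¹).toMonoidHom).comp (Subgroup.inclusion hBQ)) ⟨_, h1⟩ = x := by
      show ((δ⁻¹ (δ ⟨x, hxQ⟩) : Q) : Ω) = x
      rw [MulAut.inv_apply_self]
    rw [h3] at h2
    exact h2
  have hB'sm : Small p B' := by
    constructor
    · intro a ha b hb
      have haQ := hB'Q ha
      have hbQ := hB'Q hb
      have h1 := (hmemB' ⟨a, haQ⟩).mp ha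
      have h2 := (hmemB' ⟨b, hbQ⟩).mp hb
      have h3 := hBsm.1 _ h1 _ h2
      have h4 : δ (⟨a, haQ⟩ * ⟨b, hbQ⟩) = δ (⟨b, hbQ⟩ * ⟨a, haQ⟩) := by
        rw [map_mul, map_mul]
        exact Subtype.ext h3
      have h5 := δ.injective h4
      exact congrArg (fun z : Q => (z : Ω)) h5
    · intro a ha
      have haQ := hB'Q ha
      have h1 := (hmemB' ⟨a, haQ⟩).mp ha
      have h3 := hBsm.2 _ h1
      have h4 : δ (⟨a, haQ⟩ ^ qexp p) = δ 1 := by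
        rw [map_pow, map_one]
        apply Subtype.ext
        rw [Subgroup.coe_pow]
        exact h3
      have h5 := δ.injective h4
      have h6 := congrArg (fun z : Q => (z : Ω)) h5
      simpa using h6
  have hB'norm : ∀ g ∈ Q, ∀ y ∈ B', g * y * g⁻¹ ∈ B' := by
    intro g hg y hy
    have hyQ := hB'Q hy
    have h1 := (hmemB' ⟨y, hyQ⟩).mp hy
    have hmQ : g * y * g⁻¹ ∈ Q := Q.mul_mem (Q.mul_mem hg hyQ) (Q.inv_mem hg)
    have e : (⟨g * y * g⁻¹, hmQ⟩ : Q) = ⟨g, hg⟩ * ⟨y, hyQ⟩ * ⟨g, hg⟩⁻¹ := Subtype.ext rfl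
    apply (hmemB' ⟨g * y * g⁻¹, hmQ⟩).mpr
    rw [e, map_mul, map_mul, map_inv]
    exact hBnormQ _ (δ ⟨g, hg⟩).2 _ h1
  -- the restriction of `δ` to `B'`
  obtain ⟨θ', hθ'def⟩ : ∃ θ' : B' →* Ω,
      θ' = (Q.subtype.comp δ.toMonoidHom).comp (Subgroup.inclusion hB'Q) := ⟨_, rfl⟩
  have hθ'apply : ∀ (x : Ω) (hx : x ∈ B'), θ' ⟨x, hx⟩ = ((δ ⟨x, hB'Q hx⟩ : Q) : Ω) := by
    intro x hx
    exact (DFunLike.congr_fun hθ'def ⟨x, hx⟩).trans rfl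
  have hθ'F : θ' ∈ F.Hom B' := by
    rw [hθ'def]
    exact restrict_mem F hδF hB'Q
  have hθ'B : ∀ x : B', θ' x ∈ B := by
    rintro ⟨x, hx⟩
    rw [hθ'apply]
    exact (hmemB' ⟨x, hB'Q hx⟩).mp hx
  have hθ'E : θ' ∈ E.Hom B' := by
    have h1 : θ' ∈ F.homSet B' B := ⟨hθ'F, hθ'B⟩
    rw [← hsm B' B hB'hyp hBhyp hB'sm hBsm] at h1
    exact h1.1
  have hθ'r : θ'.range = B := by
    apply le_antisymm
    · rintro _ ⟨x, rfl⟩
      exact hθ'B x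
    · intro b hb
      have hbQ : b ∈ Q := hBQ hb
      obtain ⟨z, hz⟩ : ∃ z : Q, δ z = ⟨b, hbQ⟩ := δ.surjective _
      have hzB' : (z : Ω) ∈ B' := by
        rw [hmemB', hz]
        exact hb
      refine ⟨⟨z, hzB'⟩, ?_⟩
      rw [hθ'apply]
      have e : (⟨(z : Ω), hB'Q hzB'⟩ : Q) = z := Subtype.ext rfl
      rw [e, hz]
  have hQext : Q ≤ extender S B' θ' := by
    intro g hg
    apply Subgroup.subset_closure
    refine ⟨hQS hg, ?_, ((δ ⟨g, hg⟩ : Q) : Ω), hQS (δ ⟨g, hg⟩).2, ?_⟩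
    · haveI : Finite B' := finite_of_le hB'S
      exact Cfsg.Agent.Lib.Helper1.KN.mem_normalizer_of_forall_conj_mem (hB'norm g hg)
    · rintro ⟨x, hxB'⟩ hx
      rw [hθ'apply, hθ'apply]
      have e : δ (⟨g, hg⟩ * ⟨x, hB'Q hxB'⟩ * ⟨g, hg⟩⁻¹) =
          δ ⟨g, hg⟩ * δ ⟨x, hB'Q hxB'⟩ * (δ ⟨g, hg⟩)⁻¹ := by
        rw [map_mul, map_mul, map_inv]
      exact congrArg (fun z : Q => (z : Ω)) e
  obtain ⟨θt, hθt, hθte⟩ := hBrecE.2 B' θ' hθ'E hθ'r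
  obtain ⟨ρ₁, hρ₁def⟩ : ∃ ρ₁ : Q →* Ω, ρ₁ = θt.comp (Subgroup.inclusion hQext) := ⟨_, rfl⟩
  have hρ₁E : ρ₁ ∈ E.Hom Q := by
    rw [hρ₁def]
    exact restrict_mem E hθt hQext
  have hρ₁F : ρ₁ ∈ F.Hom Q := hEF Q hρ₁E
  have hρ₁B' : ∀ (x : Ω) (hx : x ∈ B'), ρ₁ ⟨x, hB'Q hx⟩ = ((δ ⟨x, hB'Q hx⟩ : Q) : Ω) := by
    intro x hx
    have h1 : ρ₁ ⟨x, hB'Q hx⟩ = θt ⟨x, hQext (hB'Q hx)⟩ :=
      (DFunLike.congr_fun hρ₁def ⟨x, hB'Q hx⟩).trans rfl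
    rw [h1, hθte x hx, hθ'apply]
  obtain ⟨P₁, hP₁⟩ : ∃ P₁ : Subgroup Ω, ρ₁.range = P₁ := ⟨_, rfl⟩
  have hP₁S : P₁ ≤ S := hP₁ ▸ range_le F hρ₁F
  have hcardP₁ : Nat.card P₁ = Nat.card Q :=
    (Cfsg.Agent.Lib.Helper9.card_eq_of_isConj F ⟨ρ₁, hρ₁F, hP₁⟩).symm
  have hρP₁ : ∀ x : Q, ρ₁ x ∈ P₁ := fun x => hP₁.le ⟨x, rfl⟩
  obtain ⟨κ, hκF, hκρ, hκr, -⟩ := inv_hom F hρ₁F hP₁
  have hκQ : ∀ y : P₁, κ y ∈ Q := fun y => hκr.le ⟨y, rfl⟩
  obtain ⟨υ, hυF, hυe⟩ := comp_hom F hκF hδF hκQ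
  have hυapply : ∀ y : P₁, υ y = ((δ ⟨κ y, hκQ y⟩ : Q) : Ω) := fun y => (hυe y).trans rfl
  have hυr : υ.range = Q := by
    apply le_antisymm
    · rintro _ ⟨y, rfl⟩
      rw [hυapply]
      exact (δ _).2
    · intro q hq
      obtain ⟨z, hz⟩ : ∃ z : Q, δ z = ⟨q, hq⟩ := δ.surjective _
      refine ⟨⟨ρ₁ z, hρP₁ z⟩, ?_⟩
      rw [hυapply]
      have h1 : (⟨κ ⟨ρ₁ z, hρP₁ z⟩, hκQ _⟩ : Q) = z := Subtype.ext (hκρ z (hρP₁ z))
      rw [h1, hz]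
  have hBP₁ : B ≤ P₁ := by
    intro b hb
    obtain ⟨⟨x, hx⟩, hxb⟩ := hθ'r.ge hb
    rw [← hxb, hθ'apply, ← hρ₁B' x hx]
    exact hρP₁ _
  have hυB : ∀ (b : Ω) (hb : b ∈ B), υ ⟨b, hBP₁ hb⟩ = b := by
    intro b hb
    obtain ⟨⟨x, hx⟩, hxb⟩ := hθ'r.ge hb
    have hb2 : b = ρ₁ ⟨x, hB'Q hx⟩ := by
      rw [← hxb, hθ'apply, hρ₁B' x hx]
    have hb3 : b = ((δ ⟨x, hB'Q hx⟩ : Q) : Ω) := by
      rw [← hxb, hθ'apply]
    rw [hυapply]
    have h2 : κ ⟨ρ₁ ⟨x, hB'Q hx⟩, hρP₁ _⟩ = x := hκρ ⟨x, hB'Q hx⟩ _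
    have h1 : (⟨κ ⟨b, hBP₁ hb⟩, hκQ _⟩ : Q) = ⟨x, hB'Q hx⟩ := by
      apply Subtype.ext
      show κ ⟨b, hBP₁ hb⟩ = x
      have e : (⟨b, hBP₁ hb⟩ : P₁) = ⟨ρ₁ ⟨x, hB'Q hx⟩, hρP₁ _⟩ := Subtype.ext hb2
      rw [e]
      exact h2
    rw [h1]
    exact hb3.symm
  -- it suffices to show that `υ` lies in `E`
  have hfinal : υ ∈ E.Hom P₁ → Q.subtype.comp δ.toMonoidHom ∈ E.Hom Q := by
    intro hυE
    obtain ⟨χ, hχE, hχe⟩ := comp_hom E hρ₁E hυE hρP₁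
    have h0 : χ = Q.subtype.comp δ.toMonoidHom := by
      ext x
      rw [hχe, hυapply]
      have h1 : (⟨κ ⟨ρ₁ x, hρP₁ x⟩, hκQ _⟩ : Q) = x := Subtype.ext (hκρ x (hρP₁ x))
      rw [h1]
      rfl
    rw [← h0]
    exact hχE
  apply hfinal
  by_cases hPQ : P₁ = Q
  · have hPQ' : Q = P₁ := hPQ.symm
    subst hPQ'
    obtain ⟨α, hα, hαυ⟩ := exists_aut_of_hom F hυF hυr
    have hαT : α ∈ autInducedBy S Q := by
      apply hBT α hα
      intro x hx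
      apply Subtype.ext
      rw [hαυ]
      exact hυB x hx
    have hαE : α ∈ E.autGroup Q := autInducedBy_le_autGroup E hQS hαT
    have h1 := hom_of_mem_autGroup E hQS hαE
    have h2 : Q.subtype.comp α.toMonoidHom = υ := by
      ext x
      exact hαυ x
    rw [← h2]
    exact h1
  · have hBnormP₁ : ∀ y ∈ P₁, ∀ b ∈ B, y * b * y⁻¹ ∈ B := by
      intro y hy b hb
      obtain ⟨x, rfl⟩ := hP₁.ge hy
      obtain ⟨⟨b', hb'⟩, hb'b⟩ := hθ'r.ge hb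
      have hb'Q := hB'Q hb'
      have hw : (x : Ω) * b' * (x : Ω)⁻¹ ∈ B' := hB'norm x x.2 b' hb'
      have h1 : ρ₁ ⟨(x : Ω) * b' * (x : Ω)⁻¹, hB'Q hw⟩ ∈ B := by
        rw [hρ₁B' _ hw]
        exact (hmemB' ⟨_, hB'Q hw⟩).mp hw
      have h2 : ρ₁ ⟨(x : Ω) * b' * (x : Ω)⁻¹, hB'Q hw⟩ = ρ₁ x * b * (ρ₁ x)⁻¹ := by
        have e : (⟨(x : Ω) * b' * (x : Ω)⁻¹, hB'Q hw⟩ : Q) = x * ⟨b', hb'Q⟩ * x⁻¹ :=
          Subtype.ext rfl
        rw [e, map_mul, map_mul, map_inv, hρ₁B' b' hb', ← hθ'apply b' hb', hb'b]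
      rw [← h2]
      exact h1
    have hPnC : ∀ x ∈ P₁, ∀ c ∈ centralizerIn S B, x * c * x⁻¹ ∈ centralizerIn S B := by
      intro x hx c hc
      refine ⟨S.mul_mem (S.mul_mem (hP₁S hx) hc.1) (S.inv_mem (hP₁S hx)), ?_⟩
      show x * c * x⁻¹ ∈ Subgroup.centralizer (B : Set Ω)
      rw [Subgroup.mem_centralizer_iff]
      intro b hb
      have hb' : x⁻¹ * b * x⁻¹⁻¹ ∈ B := hBnormP₁ x⁻¹ (P₁.inv_mem hx) b hb
      have hc2 := (Subgroup.mem_centralizer_iff.mp hc.2) _ hb'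
      calc b * (x * c * x⁻¹) = x * ((x⁻¹ * b * x⁻¹⁻¹) * c) * x⁻¹ := by group
        _ = x * (c * (x⁻¹ * b * x⁻¹⁻¹)) * x⁻¹ := by rw [hc2]
        _ = x * c * x⁻¹ * b := by group
    have hexg : ∃ g ∈ normalizerIn S P₁, g ∈ centralizerIn S B ∧ g ∉ P₁ := by
      by_contra hcon
      push_neg at hcon
      have hCP₁ : centralizerIn S B ≤ P₁ := by
        by_contra hnle
        have hltM : P₁ < P₁ ⊔ centralizerIn S B := by
          apply lt_of_le_of_ne le_sup_left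
          intro h
          apply hnle
          have h1 : centralizerIn S B ≤ P₁ ⊔ centralizerIn S B := le_sup_right
          rw [← h] at h1
          exact h1
        have hMS : P₁ ⊔ centralizerIn S B ≤ S := sup_le hP₁S inf_le_left
        haveI : Finite ↥(P₁ ⊔ centralizerIn S B) := finite_of_le hMS
        obtain ⟨g, hgN, hgP⟩ := exists_mem_normalizerIn_not_mem (isPGroup_of_le hS hMS) hltM
        obtain ⟨x, hx, c, hc, hgxc⟩ := exists_mul_of_mem_sup hPnC hgN.1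
        have hcN : c ∈ normalizerIn S P₁ := by
          refine ⟨hc.1, ?_⟩
          have h1 : c = x⁻¹ * g := by
            rw [hgxc]
            group
          rw [h1]
          exact Subgroup.mul_mem _ (Subgroup.inv_mem _ (Subgroup.le_normalizer hx)) hgN.2
        have hcP := hcon c hcN hc
        apply hgP
        rw [hgxc]
        exact P₁.mul_mem hx hcP
      apply hPQ
      have hQP₁ : Q ≤ P₁ := by
        intro q hq
        obtain ⟨y, hy⟩ := hυr.ge hq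
        have hcen : (y : Ω)⁻¹ * υ y ∈ centralizerIn S B := by
          refine ⟨S.mul_mem (S.inv_mem (hP₁S y.2)) (hom_mem F hυF y), ?_⟩
          show (y : Ω)⁻¹ * υ y ∈ Subgroup.centralizer (B : Set Ω)
          rw [Subgroup.mem_centralizer_iff]
          intro b hb
          have hyb : (y : Ω) * b * (y : Ω)⁻¹ ∈ B := hBnormP₁ y y.2 b hb
          have h1 := hυB _ hyb
          have e : (⟨(y : Ω) * b * (y : Ω)⁻¹, hBP₁ hyb⟩ : P₁) = y * ⟨b, hBP₁ hb⟩ * y⁻¹ :=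
            Subtype.ext rfl
          rw [e, map_mul, map_mul, map_inv, hυB b hb] at h1
          calc b * ((y : Ω)⁻¹ * υ y) = (y : Ω)⁻¹ * ((y : Ω) * b * (y : Ω)⁻¹) * υ y := by group
            _ = (y : Ω)⁻¹ * (υ y * b * (υ y)⁻¹) * υ y := by rw [h1]
            _ = (y : Ω)⁻¹ * υ y * b := by group
        have h2 := hCP₁ hcen
        have h3 := P₁.mul_mem y.2 h2
        rw [mul_inv_cancel_left] at h3
        rw [← hy]
        exact h3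
      haveI : Finite P₁ := finite_of_le hP₁S
      exact (Subgroup.eq_of_le_of_card_ge hQP₁ hcardP₁.le).symm
    obtain ⟨g, hgN, hgC, hgP⟩ := hexg
    have hgext : g ∈ extender S P₁ υ := by
      have hcg : conjHom P₁ g ∈ F.Hom P₁ := F.conj_mem hP₁S hgN.1
      obtain ⟨ι, hιF, hιυ, hιr, -⟩ := inv_hom F hυF hυr
      have hιP₁ : ∀ q : Q, ι q ∈ P₁ := fun q => hιr.le ⟨q, rfl⟩
      obtain ⟨μ₁, hμ₁F, hμ₁e⟩ := comp_hom F hιF hcg hιP₁
      have hμ₁apply : ∀ q : Q, μ₁ q = g * ι q * g⁻¹ := fun q => (hμ₁e q).trans rfl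
      have hμ₁P₁ : ∀ q : Q, μ₁ q ∈ P₁ := by
        intro q
        rw [hμ₁apply]
        exact conj_mem_of_mem_normalizer hgN.2 (hιP₁ q)
      obtain ⟨μ₂, hμ₂F, hμ₂e⟩ := comp_hom F hμ₁F hυF hμ₁P₁
      have hμ₂r : μ₂.range = Q := by
        apply Subgroup.eq_of_le_of_card_ge
        · rintro _ ⟨q, rfl⟩
          rw [hμ₂e]
          exact hυr.le ⟨_, rfl⟩
        · exact (Nat.card_congr (MonoidHom.ofInjective (F.injective_of_mem hμ₂F)).toEquiv).le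
      obtain ⟨α, hα, hαμ⟩ := exists_aut_of_hom F hμ₂F hμ₂r
      have hαT : α ∈ autInducedBy S Q := by
        apply hBT α hα
        intro x hx
        apply Subtype.ext
        rw [hαμ, hμ₂e]
        have hq : υ ⟨(x : Ω), hBP₁ hx⟩ ∈ Q := by
          rw [hυB _ hx]
          exact x.2
        have hιx : ι x = (x : Ω) := by
          have h1 := hιυ ⟨(x : Ω), hBP₁ hx⟩ hq
          have h2 : (⟨υ ⟨(x : Ω), hBP₁ hx⟩, hq⟩ : Q) = x := Subtype.ext (hυB _ hx)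
          rw [h2] at h1
          exact h1
        have hcomm : (x : Ω) * g = g * (x : Ω) :=
          Subgroup.mem_centralizer_iff.mp hgC.2 (x : Ω) hx
        have hμ₁x : μ₁ x = (x : Ω) := by
          rw [hμ₁apply, hιx, ← hcomm, mul_inv_cancel_right]
        have e : (⟨μ₁ x, hμ₁P₁ x⟩ : P₁) = ⟨(x : Ω), hBP₁ hx⟩ := Subtype.ext hμ₁x
        rw [e]
        exact hυB _ hx
      obtain ⟨h, hhS, hh⟩ := (mem_autInducedBy_iff S Q α).mp hαT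
      apply Subgroup.subset_closure
      refine ⟨hgN.1, hgN.2, h, hhS, ?_⟩
      intro y hy
      have hq : υ y ∈ Q := hυr.le ⟨y, rfl⟩
      have h1 := hh ⟨υ y, hq⟩
      rw [hαμ, hμ₂e] at h1
      have hμ₁y : μ₁ ⟨υ y, hq⟩ = g * y * g⁻¹ := by
        rw [hμ₁apply, hιυ y hq]
      have e : (⟨μ₁ ⟨υ y, hq⟩, hμ₁P₁ _⟩ : P₁) = ⟨g * y * g⁻¹, hy⟩ := Subtype.ext hμ₁y
      rw [e] at h1
      exact h1
    have hP₁ext : P₁ ≤ extender S P₁ υ := le_extender hP₁S υ (fun y => hom_mem F hυF y)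
    obtain ⟨υt, hυtF, hυte⟩ := hQrecF.2 P₁ υ hυF hυr
    have hextS : extender S P₁ υ ≤ S :=
      (extender_le_normalizerIn P₁ υ).trans (normalizerIn_le S P₁)
    have hcardlt : Nat.card Q < Nat.card (extender S P₁ υ) := by
      rw [← hcardP₁]
      haveI : Finite (extender S P₁ υ) := finite_of_le hextS
      apply card_lt_of_lt'
      exact lt_of_le_of_ne hP₁ext (fun h => hgP (h.ge hgext))
    have hυtE : υt ∈ E.Hom (extender S P₁ υ) := hIH _ hextS hcardlt hυtF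
    have h1 := restrict_mem E hυtE hP₁ext
    have h2 : υt.comp (Subgroup.inclusion hP₁ext) = υ := by
      ext y
      exact hυte y y.2 (hP₁ext y.2)
    rw [← h2]
    exact h1

end Cfsg.Agent.Lib.Helper2.SE
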