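import Cfsg.Agent.Lib.Helper2.SE5
import Cfsg.Agent.Lib.Helper9.AlperinCor
import Cfsg.Prelude.Def_Transfer

/-! Small-exponent abelian subgroups of the hyperfocal subgroup control fusion. -/
set_option autoImplicit false

namespace Cfsg.Agent.Lib.Helper2.SE

open Cfsg Cfsg.FusionSystem Cfsg.Agent.Lib.Helper9

variable {Ω : Type*} [Group Ω] {S : Subgroup Ω}

theorem aut_le_of_fullyNormalized [Finite S] (p : ℕ) [hp : Fact p.Prime] (hS : IsPGroup p S)
    (E F : FusionSystem S) (hE : E.IsSaturated p) (hF : F.IsSaturated p)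
    (hEF : E.IsSubsystemOf F)
    (hsm : ∀ A B : Subgroup Ω, A ≤ F.hyperfocalSubgroup p → B ≤ F.hyperfocalSubgroup p →
      Small p A → Small p B → E.homSet A B = F.homSet A B)
    {Q : Subgroup Ω} (hQn : F.IsFullyNormalized Q)
    (hIH : ∀ Q₁ : Subgroup Ω, Q₁ ≤ S → Nat.card Q < Nat.card Q₁ → F.Hom Q₁ ⊆ E.Hom Q₁) :
    F.autGroup Q ≤ E.autGroup Q := by
  classical
  have hQS : Q ≤ S := hQn.1
  haveI hfinQ : Finite Q := finite_of_le hQS
  have hsc := hyperfocal_stronglyClosed p hS F hF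
  obtain ⟨B₀, hB₀Q, hB₀hyp, hB₀sm, hB₀inv, hB₀T⟩ := exists_small_selfcentralizing p hS F hF hQn
  have hB₀S : B₀ ≤ S := hB₀Q.trans hQS
  haveI hfinB₀ : Finite B₀ := finite_of_le hB₀S
  by_cases hQeq : Q = S
  · have hSK : ∀ s ∈ S, s ∈ normalizerIn S Q := by
      intro s hs
      refine ⟨hs, ?_⟩
      rw [hQeq]
      exact Subgroup.le_normalizer hs
    have hNB₀ : normalizerIn S B₀ = S :=
      le_antisymm (normalizerIn_le S B₀) (fun s hs => ⟨hs,
        Cfsg.Agent.Lib.Helper1.KN.mem_normalizer_of_forall_conj_mem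
          (fun x hx => hB₀inv s (hSK s hs) x hx)⟩)
    have hB₀n : F.IsFullyNormalized B₀ := by
      refine ⟨hB₀S, fun R _ => ?_⟩
      rw [hNB₀]
      exact Subgroup.card_le_of_le (normalizerIn_le S R)
    exact aut_le_of_nice p hS E F hE hF hEF hsm hQn hB₀Q hB₀hyp hB₀sm hB₀inv hB₀T hB₀n hIH
  · have hQlt : Q < S := lt_of_le_of_ne hQS hQeq
    obtain ⟨g₀, hg₀K, hg₀Q⟩ := exists_mem_normalizerIn_not_mem hS hQlt
    haveI hfinK : Finite (normalizerIn S Q) := finite_normalizerIn Q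
    have hQK : Q ≤ normalizerIn S Q := self_le_normalizerIn' hQS
    have hcardQK : Nat.card Q < Nat.card (normalizerIn S Q) := by
      apply card_lt_of_lt'
      exact lt_of_le_of_ne hQK (fun h => hg₀Q (h.ge hg₀K))
    have hKN : normalizerIn S Q ≤ normalizerIn S B₀ := by
      intro g hg
      exact ⟨hg.1, Cfsg.Agent.Lib.Helper1.KN.mem_normalizer_of_forall_conj_mem (hB₀inv g hg)⟩
    haveI hfinN : Finite (normalizerIn S B₀) := finite_normalizerIn B₀
    have hQN : Q ≤ normalizerIn S B₀ := hQK.trans hKN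
    have hB₀N : B₀ ≤ normalizerIn S B₀ := self_le_normalizerIn' hB₀S
    obtain ⟨Bs, hconj, hBsn⟩ := exists_isConj_fullyNormalized F hB₀S
    have hBsa := fullyAutomized_of_fullyNormalized hS F hF hBsn
    have hBsr := receptive_of_fullyCentralized hS F hF
      (fullyCentralized_of_fullyNormalized hS F hF hBsn)
    obtain ⟨χ, hχF, hχN, hχB⟩ := exists_normalizer_hom hS F Bs B₀ hBsa hBsr hconj
    have hχE : χ ∈ E.Hom (normalizerIn S B₀) := by
      apply hIH _ (normalizerIn_le S B₀) _ hχF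
      exact lt_of_lt_of_le hcardQK (Subgroup.card_le_of_le hKN)
    have hχinj := F.injective_of_mem hχF
    have hχconj : ∀ (k x : Ω) (hk : k ∈ normalizerIn S B₀) (hx : x ∈ normalizerIn S B₀)
        (hkx : k * x * k⁻¹ ∈ normalizerIn S B₀),
        χ ⟨k * x * k⁻¹, hkx⟩ = χ ⟨k, hk⟩ * χ ⟨x, hx⟩ * (χ ⟨k, hk⟩)⁻¹ := by
      intro k x hk hx hkx
      have e : (⟨k * x * k⁻¹, hkx⟩ : normalizerIn S B₀) = ⟨k, hk⟩ * ⟨x, hx⟩ * ⟨k, hk⟩⁻¹ :=
        Subtype.ext rfl
      rw [e, map_mul, map_mul, map_inv]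
    obtain ⟨ρ, hρdef⟩ : ∃ ρ : Q →* Ω, ρ = χ.comp (Subgroup.inclusion hQN) := ⟨_, rfl⟩
    have hρapply : ∀ (x : Ω) (hx : x ∈ Q), ρ ⟨x, hx⟩ = χ ⟨x, hQN hx⟩ :=
      fun x hx => (DFunLike.congr_fun hρdef ⟨x, hx⟩).trans rfl
    have hρF : ρ ∈ F.Hom Q := by
      rw [hρdef]
      exact restrict_mem F hχF hQN
    have hρE : ρ ∈ E.Hom Q := by
      rw [hρdef]
      exact restrict_mem E hχE hQN
    obtain ⟨Qs, hQs⟩ : ∃ Qs : Subgroup Ω, ρ.range = Qs := ⟨_, rfl⟩
    have hQsS : Qs ≤ S := hQs ▸ range_le F hρF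
    haveI hfinQs : Finite Qs := finite_of_le hQsS
    have hconjQ : F.IsConj Q Qs := ⟨ρ, hρF, hQs⟩
    have hcardQs : Nat.card Qs = Nat.card Q :=
      (Cfsg.Agent.Lib.Helper9.card_eq_of_isConj F hconjQ).symm
    have hρQs : ∀ x : Q, ρ x ∈ Qs := fun x => hQs.le ⟨x, rfl⟩
    have hχKN : ∀ (k : Ω) (hk : k ∈ normalizerIn S Q),
        χ ⟨k, hKN hk⟩ ∈ normalizerIn S Qs := by
      intro k hk
      refine ⟨hom_mem F hχF _, ?_⟩
      apply Cfsg.Agent.Lib.Helper1.KN.mem_normalizer_of_forall_conj_mem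
      intro y hy
      obtain ⟨⟨x, hx⟩, rfl⟩ := hQs.ge hy
      rw [hρapply]
      have hkx : k * x * k⁻¹ ∈ Q := conj_mem_of_mem_normalizer hk.2 hx
      rw [← hχconj k x (hKN hk) (hQN hx) (hQN hkx), ← hρapply _ hkx]
      exact hρQs _
    obtain ⟨KK, hKK⟩ : ∃ KK : Subgroup Ω,
        KK = ((normalizerIn S Q).subgroupOf (normalizerIn S B₀)).map χ := ⟨_, rfl⟩
    have hKKle : KK ≤ normalizerIn S Qs := by
      rw [hKK]
      rintro _ ⟨n, hn, rfl⟩
      exact hχKN n hn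
    have hcardKK : Nat.card KK = Nat.card (normalizerIn S Q) := by
      rw [hKK, Subgroup.card_map_of_injective hχinj]
      exact Nat.card_congr (Subgroup.subgroupOfEquivOfLe hKN).toEquiv
    haveI : Finite (normalizerIn S Qs) := finite_normalizerIn Qs
    have hNQs : KK = normalizerIn S Qs := by
      apply Subgroup.eq_of_le_of_card_ge hKKle
      rw [hcardKK]
      exact hQn.2 Qs hconjQ
    have hQsn : F.IsFullyNormalized Qs := by
      refine ⟨hQsS, fun R hR => ?_⟩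
      have h1 := hQn.2 R (isConj_trans F hconjQ hR)
      rw [← hNQs, hcardKK]
      exact h1
    have hBsmem : ∀ b ∈ Bs, ∃ (x : Ω) (hx : x ∈ B₀), χ ⟨x, hB₀N hx⟩ = b := by
      intro b hb
      rw [← hχB] at hb
      obtain ⟨n, hn, rfl⟩ := hb
      exact ⟨n, hn, rfl⟩
    have hχB₀ : ∀ (x : Ω) (hx : x ∈ B₀), χ ⟨x, hB₀N hx⟩ ∈ Bs := by
      intro x hx
      rw [← hχB]
      exact ⟨⟨x, hB₀N hx⟩, hx, rfl⟩
    have hBsQs : Bs ≤ Qs := by
      intro b hb
      obtain ⟨x, hx, rfl⟩ := hBsmem b hb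
      rw [← hρapply x (hB₀Q hx)]
      exact hρQs _
    have hBshyp : Bs ≤ F.hyperfocalSubgroup p := by
      intro b hb
      obtain ⟨x, hx, rfl⟩ := hBsmem b hb
      exact hsc.2 B₀ hB₀hyp _ (restrict_mem F hχF hB₀N) ⟨x, hx⟩
    have hBssm : Small p Bs := by
      constructor
      · intro a ha b hb
        obtain ⟨x, hx, rfl⟩ := hBsmem a ha
        obtain ⟨y, hy, rfl⟩ := hBsmem b hb
        have e : (⟨x, hB₀N hx⟩ : normalizerIn S B₀) * ⟨y, hB₀N hy⟩ =
            ⟨y, hB₀N hy⟩ * ⟨x, hB₀N hx⟩ := Subtype.ext (hB₀sm.1 x hx y hy)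
        have h1 := congrArg χ e
        rw [map_mul, map_mul] at h1
        exact h1
      · intro a ha
        obtain ⟨x, hx, rfl⟩ := hBsmem a ha
        have e : (⟨x, hB₀N hx⟩ : normalizerIn S B₀) ^ qexp p = 1 := by
          apply Subtype.ext
          rw [Subgroup.coe_pow]
          exact hB₀sm.2 x hx
        have h1 := congrArg χ e
        rw [map_pow, map_one] at h1
        exact h1
    have hBsinv : ∀ g ∈ normalizerIn S Qs, ∀ b ∈ Bs, g * b * g⁻¹ ∈ Bs := by
      intro g hg b hb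
      rw [← hNQs, hKK] at hg
      obtain ⟨n, hn, rfl⟩ := hg
      obtain ⟨x, hx, rfl⟩ := hBsmem b hb
      have hn' : (n : Ω) ∈ normalizerIn S Q := hn
      have hkx : (n : Ω) * x * (n : Ω)⁻¹ ∈ B₀ := hB₀inv _ hn' x hx
      have h1 := hχconj (n : Ω) x n.2 (hB₀N hx) (hB₀N hkx)
      have h2 : χ ⟨(n : Ω), n.2⟩ = χ n := rfl
      rw [h2] at h1
      rw [← h1]
      exact hχB₀ _ hkx
    obtain ⟨κ, hκF, hκρ, hκr, hρκ⟩ := inv_hom F hρF hQs
    have hκQ : ∀ y : Qs, κ y ∈ Q := fun y => hκr.le ⟨y, rfl⟩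
    have hBsT : ∀ γ ∈ F.autGroup Qs, (∀ x : Qs, (x : Ω) ∈ Bs → γ x = x) →
        γ ∈ autInducedBy S Qs := by
      intro γ hγ hγB
      have hγF := hom_of_mem_autGroup F hQsS hγ
      obtain ⟨ψ₁, hψ₁F, hψ₁e⟩ := comp_hom F hρF hγF hρQs
      have hψ₁apply : ∀ x : Q, ψ₁ x = ((γ ⟨ρ x, hρQs x⟩ : Qs) : Ω) :=
        fun x => (hψ₁e x).trans rfl
      have hψ₁Qs : ∀ x : Q, ψ₁ x ∈ Qs := fun x => by
        rw [hψ₁apply]
        exact (γ _).2
      obtain ⟨ψ, hψF, hψe⟩ := comp_hom F hψ₁F hκF hψ₁Qs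
      have hψr : ψ.range = Q := by
        apply Subgroup.eq_of_le_of_card_ge
        · rintro _ ⟨x, rfl⟩
          rw [hψe]
          exact hκQ _
        · exact (Nat.card_congr (MonoidHom.ofInjective (F.injective_of_mem hψF)).toEquiv).le
      obtain ⟨α, hα, hαψ⟩ := exists_aut_of_hom F hψF hψr
      have hαT : α ∈ autInducedBy S Q := by
        apply hB₀T α hα
        intro x hx
        apply Subtype.ext
        rw [hαψ, hψe]
        have hρxBs : ρ x ∈ Bs := by
          have h1 := hχB₀ (x : Ω) hx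
          rw [← hρapply (x : Ω) x.2] at h1
          exact h1
        have h2 : γ ⟨ρ x, hρQs x⟩ = ⟨ρ x, hρQs x⟩ := hγB ⟨ρ x, hρQs x⟩ hρxBs
        have h3 : ψ₁ x = ρ x := by
          rw [hψ₁apply, h2]
        have e : (⟨ψ₁ x, hψ₁Qs x⟩ : Qs) = ⟨ρ x, hρQs x⟩ := Subtype.ext h3
        rw [e]
        exact hκρ x (hρQs x)
      obtain ⟨k, hkS, hk⟩ := (mem_autInducedBy_iff S Q α).mp hαT
      have hkN : k ∈ Subgroup.normalizer (Q : Set Ω) := mem_normalizer_of_induces α hk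
      have hkK : k ∈ normalizerIn S Q := ⟨hkS, hkN⟩
      rw [mem_autInducedBy_iff]
      refine ⟨χ ⟨k, hKN hkK⟩, hom_mem F hχF _, ?_⟩
      intro y
      obtain ⟨hκy, hρκy⟩ := hρκ y
      obtain ⟨x, hx⟩ : ∃ x : Q, x = ⟨κ y, hκy⟩ := ⟨_, rfl⟩
      have hρx : ρ x = (y : Ω) := by
        rw [hx]
        exact hρκy
      have hyx : y = ⟨ρ x, hρQs x⟩ := Subtype.ext hρx.symm
      have h1 := hk x
      rw [hαψ, hψe] at h1
      obtain ⟨h2, h3⟩ := hρκ ⟨ψ₁ x, hψ₁Qs x⟩
      have hkx : k * (x : Ω) * k⁻¹ ∈ Q := conj_mem_of_mem_normalizer hkN x.2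
      have e : (⟨κ ⟨ψ₁ x, hψ₁Qs x⟩, h2⟩ : Q) = ⟨k * (x : Ω) * k⁻¹, hkx⟩ := Subtype.ext h1
      rw [e, hρapply, hχconj k (x : Ω) (hKN hkK) (hQN x.2) (hQN hkx),
        ← hρapply (x : Ω) x.2] at h3
      have h4 : ψ₁ x = ((γ ⟨ρ x, hρQs x⟩ : Qs) : Ω) := hψ₁apply x
      rw [hyx]
      show ((γ ⟨ρ x, hρQs x⟩ : Qs) : Ω) = χ ⟨k, hKN hkK⟩ * ρ x * (χ ⟨k, hKN hkK⟩)⁻¹
      rw [← h4]
      exact h3.symm
    have hIH' : ∀ Q₁ : Subgroup Ω, Q₁ ≤ S → Nat.card Qs < Nat.card Q₁ →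
        F.Hom Q₁ ⊆ E.Hom Q₁ := by
      intro Q₁ h1 h2
      rw [hcardQs] at h2
      exact hIH Q₁ h1 h2
    have hAut : F.autGroup Qs ≤ E.autGroup Qs :=
      aut_le_of_nice p hS E F hE hF hEF hsm hQsn hBsQs hBshyp hBssm hBsinv hBsT hBsn hIH'
    intro δ hδ
    rw [mem_autGroup_iff E hQS]
    have hδF := hom_of_mem_autGroup F hQS hδ
    have hδr : (Q.subtype.comp δ.toMonoidHom).range = Q := by
      apply le_antisymm
      · rintro _ ⟨x, rfl⟩
        exact (δ x).2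
      · intro q hq
        obtain ⟨z, hz⟩ := δ.surjective ⟨q, hq⟩
        exact ⟨z, congrArg (fun w : Q => (w : Ω)) hz⟩
    exact hom_of_factor F E hδF hδr hρF hρE hQs hρF hρE hQs hAut

theorem hom_subset_aux [Finite S] (p : ℕ) [hp : Fact p.Prime] (hS : IsPGroup p S)
    (E F : FusionSystem S) (hE : E.IsSaturated p) (hF : F.IsSaturated p)
    (hEF : E.IsSubsystemOf F)
    (hsm : ∀ A B : Subgroup Ω, A ≤ F.hyperfocalSubgroup p → B ≤ F.hyperfocalSubgroup p →
      Small p A → Small p B → E.homSet A B = F.homSet A B) :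
    ∀ (n : ℕ) (P : Subgroup Ω), P ≤ S → Nat.card S - Nat.card P = n → F.Hom P ⊆ E.Hom P := by
  intro n
  induction n using Nat.strong_induction_on with
  | _ n ih =>
    intro P hPS hn φ hφ
    have hIH : ∀ P₁ : Subgroup Ω, P₁ ≤ S → Nat.card P < Nat.card P₁ → F.Hom P₁ ⊆ E.Hom P₁ := by
      intro P₁ hP₁ hlt
      have hle : Nat.card P₁ ≤ Nat.card S := Subgroup.card_le_of_le hP₁
      exact ih (Nat.card S - Nat.card P₁) (by omega) P₁ hP₁ rfl
    by_cases hPeq : P = S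
    · subst hPeq
      have hr : φ.range = P := by
        apply Subgroup.eq_of_le_of_card_ge (range_le F hφ)
        exact (Nat.card_congr (MonoidHom.ofInjective (F.injective_of_mem hφ)).toEquiv).le
      obtain ⟨α, hα, hαφ⟩ := exists_aut_of_hom F hφ hr
      have hαE := aut_le_of_fullyNormalized p hS E F hE hF hEF hsm (fullyNormalized_top F) hIH hα
      have h1 := hom_of_mem_autGroup E le_rfl hαE
      have h2 : P.subtype.comp α.toMonoidHom = φ := by
        ext x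
        exact hαφ x
      rw [← h2]
      exact h1
    · have hlt : P < S := lt_of_le_of_ne hPS hPeq
      obtain ⟨Q, hPQ, hQn⟩ := exists_isConj_fullyNormalized F hPS
      have hQa := fullyAutomized_of_fullyNormalized hS F hF hQn
      have hQr := receptive_of_fullyCentralized hS F hF
        (fullyCentralized_of_fullyNormalized hS F hF hQn)
      have hPP' : F.IsConj P φ.range := ⟨φ, hφ, rfl⟩
      have hP'Q : F.IsConj φ.range Q := isConj_trans F (isConj_symm F hPP') hPQ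
      have hP'S : φ.range ≤ S := range_le F hφ
      obtain ⟨χ, hχ, -, hχQ⟩ := exists_normalizer_hom hS F Q P hQa hQr hPQ
      obtain ⟨χ', hχ', -, hχ'Q⟩ := exists_normalizer_hom hS F Q φ.range hQa hQr hP'Q
      have hcP' : Nat.card φ.range = Nat.card P :=
        (Cfsg.Agent.Lib.Helper9.card_eq_of_isConj F hPP').symm
      have hcQ : Nat.card Q = Nat.card P :=
        (Cfsg.Agent.Lib.Helper9.card_eq_of_isConj F hPQ).symm
      have hcS : Nat.card P < Nat.card S := card_lt_of_lt' hlt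
      have hP'lt : φ.range < S := lt_of_card_lt' hP'S (hcP' ▸ hcS)
      have hN : ∀ R : Subgroup Ω, R < S → Nat.card R < Nat.card (normalizerIn S R) := by
        intro R hR
        have := finite_normalizerIn (S := S) R
        obtain ⟨g, hg, hgR⟩ := exists_mem_normalizerIn_not_mem hS hR
        apply card_lt_of_lt'
        exact lt_of_le_of_ne (self_le_normalizerIn' hR.le) (fun h => hgR (h ▸ hg))
      have hχE : χ ∈ E.Hom (normalizerIn S P) := hIH _ inf_le_left (hN P hlt) hχ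
      have hχ'E : χ' ∈ E.Hom (normalizerIn S φ.range) :=
        hIH _ inf_le_left (hcP' ▸ hN φ.range hP'lt) hχ'
      have hPN : P ≤ normalizerIn S P := self_le_normalizerIn' hPS
      have hP'N : φ.range ≤ normalizerIn S φ.range := self_le_normalizerIn' hP'S
      have hAut : F.autGroup Q ≤ E.autGroup Q := by
        apply aut_le_of_fullyNormalized p hS E F hE hF hEF hsm hQn
        intro Q₁ hQ₁ h2
        rw [hcQ] at h2
        exact hIH Q₁ hQ₁ h2
      exact hom_of_factor F E hφ rfl (restrict_mem F hχ hPN) (restrict_mem E hχE hPN)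
        ((range_comp_inclusion hPN χ).trans hχQ)
        (restrict_mem F hχ' hP'N) (restrict_mem E hχ'E hP'N)
        ((range_comp_inclusion hP'N χ').trans hχ'Q) hAut

/-- the main theorem in terms of `Small` -/
theorem hom_eq_of_small [Finite S] (p : ℕ) [hp : Fact p.Prime] (hS : IsPGroup p S)
    (E F : FusionSystem S) (hE : E.IsSaturated p) (hF : F.IsSaturated p)
    (hEF : E.IsSubsystemOf F)
    (hsm : ∀ A B : Subgroup Ω, A ≤ F.hyperfocalSubgroup p → B ≤ F.hyperfocalSubgroup p →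
      Small p A → Small p B → E.homSet A B = F.homSet A B) :
    ∀ P : Subgroup Ω, E.Hom P = F.Hom P := by
  intro P
  apply Set.Subset.antisymm (hEF P)
  intro φ hφ
  exact hom_subset_aux p hS E F hE hF hEF hsm _ P (hom_le F hφ) rfl hφ

/-- translating the hypotheses of the statements into `Small` -/
theorem hsm_of_hyps (p : ℕ) [hp : Fact p.Prime] (E F : FusionSystem S) (T : Subgroup Ω)
    (hodd : p ≠ 2 → ∀ A B : Subgroup Ω, A ≤ T → B ≤ T →
      Cfsg.IsElementaryAbelian p A → Cfsg.IsElementaryAbelian p B → E.homSet A B = F.homSet A B)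
    (htwo : p = 2 → ∀ A B : Subgroup Ω, A ≤ T → B ≤ T →
      IsMulCommutative ↥A → IsMulCommutative ↥B → (∀ a ∈ A, a ^ 4 = 1) → (∀ b ∈ B, b ^ 4 = 1) →
      E.homSet A B = F.homSet A B) :
    ∀ A B : Subgroup Ω, A ≤ T → B ≤ T → Small p A → Small p B →
      E.homSet A B = F.homSet A B := by
  intro A B hA hB hAs hBs
  have hcA : IsMulCommutative ↥A := ⟨⟨fun a b => Subtype.ext (hAs.1 a a.2 b b.2)⟩⟩
  have hcB : IsMulCommutative ↥B := ⟨⟨fun a b => Subtype.ext (hBs.1 a a.2 b b.2)⟩⟩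
  by_cases h2 : p = 2
  · have hq : qexp p = 4 := by
      rw [h2]
      exact qexp_two
    apply htwo h2 A B hA hB hcA hcB
    · intro a ha
      have h1 := hAs.2 a ha
      rw [hq] at h1
      exact h1
    · intro b hb
      have h1 := hBs.2 b hb
      rw [hq] at h1
      exact h1
  · have hq : qexp p = p := qexp_of_ne h2
    apply hodd h2 A B hA hB
    · refine ⟨hcA, fun a ha => ?_⟩
      have h1 := hAs.2 a ha
      rw [hq] at h1
      exact h1
    · refine ⟨hcB, fun b hb => ?_⟩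
      have h1 := hBs.2 b hb
      rw [hq] at h1
      exact h1

end Cfsg.Agent.Lib.Helper2.SE
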