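import Mathlib
import Cfsg.Agent.Lib.Helper1.SL2Q8f
import Cfsg.Agent.Lib.Helper8.QQ1
import Cfsg.Agent.Lib.Helper2.SL2ThreeSub
set_option autoImplicit false
open Matrix
open scoped commutatorElement Pointwise
universe u
namespace Cfsg.Agent.Lib.Helper2.SL2Q8R

open Cfsg.Agent.Lib.Helper1.SL2Three Cfsg.Agent.Lib.Helper5.SL2Cyclic Cfsg.Agent.Lib.Helper1.SL2Odd

variable {K : Type u} [Field K]

local notation "SL2" => Matrix.SpecialLinearGroup (Fin 2) K
local notation "M2" => Matrix (Fin 2) (Fin 2) K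

/-- an element commuting with a nontrivial unipotent element has trace `±2` -/
theorem trace_sq_of_commute_unipotent (y u : SL2) (hu : u ≠ 1)
    (hN : ((u : M2) - 1) * ((u : M2) - 1) = 0) (htr : ((u : M2) - 1).trace = 0)
    (hc : y * u = u * y) : (y : M2).trace * (y : M2).trace = 4 := by
  obtain ⟨N, hNdef⟩ : ∃ N : M2, N = (u : M2) - 1 := ⟨_, rfl⟩
  rw [← hNdef] at hN htr
  have hcN : (y : M2) * N = N * (y : M2) := by
    have h1 : (y : M2) * (u : M2) = (u : M2) * (y : M2) := by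
      rw [← Matrix.SpecialLinearGroup.coe_mul, hc, Matrix.SpecialLinearGroup.coe_mul]
    rw [hNdef, mul_sub, sub_mul, h1, mul_one, one_mul]
  have hN0 : N ≠ 0 := by
    intro h0
    apply hu
    apply Subtype.ext
    have : (u : M2) = 1 := by rw [← sub_eq_zero, ← hNdef, h0]
    rw [this]; rfl
  have hdet := y.det_coe
  rw [Matrix.det_fin_two] at hdet
  have t11 : N 1 1 = - N 0 0 := by
    rw [Matrix.trace_fin_two] at htr; linear_combination htr
  have e00 := congrFun (congrFun hN 0) 0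
  have c00 := congrFun (congrFun hcN 0) 0
  have c01 := congrFun (congrFun hcN 0) 1
  have c10 := congrFun (congrFun hcN 1) 0
  simp only [Matrix.mul_apply, Fin.sum_univ_two, Matrix.zero_apply] at e00 c00 c01 c10
  rw [t11] at c01 c10
  rw [Matrix.trace_fin_two]
  by_cases hb : N 0 1 = 0
  · by_cases hcc : N 1 0 = 0
    · exfalso
      apply hN0
      have h00 : N 0 0 = 0 := by
        rw [hb, zero_mul, add_zero] at e00
        exact mul_self_eq_zero.mp e00
      ext i j
      fin_cases i <;> fin_cases j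
      · exact h00
      · exact hb
      · exact hcc
      · show N 1 1 = 0
        rw [t11, h00, neg_zero]
    · have key : (N 1 0) ^ 2 * (((y : M2) 0 0 + (y : M2) 1 1) * ((y : M2) 0 0 + (y : M2) 1 1) - 4) = 0 := by
        linear_combination (-(2 * N 0 0 * (y : M2) 1 0 + N 1 0 * ((y : M2) 0 0 - (y : M2) 1 1))) * c10
          + 4 * N 1 0 * (y : M2) 1 0 * c00 + 4 * ((y : M2) 1 0) ^ 2 * e00 + 4 * (N 1 0) ^ 2 * hdet
      rcases mul_eq_zero.mp key with h | h
      · exact absurd (pow_eq_zero_iff (two_ne_zero)|>.mp h) hcc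
      · exact sub_eq_zero.mp h
  · have key : (N 0 1) ^ 2 * (((y : M2) 0 0 + (y : M2) 1 1) * ((y : M2) 0 0 + (y : M2) 1 1) - 4) = 0 := by
      linear_combination (N 0 1 * ((y : M2) 0 0 - (y : M2) 1 1) + 2 * N 0 0 * (y : M2) 0 1) * c01
        - 4 * N 0 1 * (y : M2) 0 1 * c00 + 4 * ((y : M2) 0 1) ^ 2 * e00 + 4 * (N 0 1) ^ 2 * hdet
    rcases mul_eq_zero.mp key with h | h
    · exact absurd (pow_eq_zero_iff (two_ne_zero)|>.mp h) hb
    · exact sub_eq_zero.mp h

/-- the inverse of an element of `SL_2` as a matrix -/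
theorem coe_inv_eq (g : SL2) :
    ((g⁻¹ : SL2) : M2) = (g : M2).trace • (1 : M2) - (g : M2) := by
  have hc := cayley_sl g
  obtain ⟨t, ht⟩ : ∃ t : K, t = (g : M2).trace := ⟨_, rfl⟩
  rw [← ht] at hc ⊢
  have h1 : ((g⁻¹ : SL2) : M2) * (g : M2) = 1 := by
    rw [← Matrix.SpecialLinearGroup.coe_mul, inv_mul_cancel]; rfl
  have h2 : ((g⁻¹ : SL2) : M2) * ((g : M2) * (g : M2)) =
      ((g⁻¹ : SL2) : M2) * (t • (g : M2) - 1) := by rw [hc]
  rw [← mul_assoc, h1, one_mul, mul_sub, mul_one, mul_smul_comm, h1] at h2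
  rw [h2]; abel

/-- `tr(g N g⁻¹ N) = -tr(gN)²` for `N² = 0` -/
theorem tau_eq (g : SL2) (N : M2) (hN : N * N = 0) :
    ((g : M2) * N * ((g⁻¹ : SL2) : M2) * N).trace =
      -(((g : M2) * N).trace * ((g : M2) * N).trace) := by
  obtain ⟨G, hG⟩ : ∃ G : M2, G = (g : M2) := ⟨_, rfl⟩
  have hdetG : G.det = 1 := by rw [hG]; exact g.det_coe
  rw [coe_inv_eq, ← hG]
  obtain ⟨t, ht⟩ : ∃ t : K, t = G.trace := ⟨_, rfl⟩
  rw [← ht]
  have e1 : G * N * (t • (1 : M2) - G) * N = -((G * N) * (G * N)) := by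
    have : G * N * (t • (1 : M2) - G) * N = t • (G * (N * N)) - (G * N) * (G * N) := by
      rw [mul_sub, sub_mul, mul_smul_comm, mul_one, smul_mul_assoc]
      simp only [mul_assoc]
    rw [this, hN, mul_zero, smul_zero, zero_sub]
  have hdN : N.det = 0 := by
    have := congrArg Matrix.det hN
    rw [Matrix.det_mul, Matrix.det_zero] at this
    exact mul_self_eq_zero.mp this
  have e2 : (G * N) * (G * N) = (G * N).trace • (G * N) := by
    rw [cayley2, Matrix.det_mul, hdN, mul_zero, zero_smul, sub_zero]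
  rw [e1, e2, Matrix.trace_neg, Matrix.trace_smul, smul_eq_mul]

/-- the trace of `g a g⁻¹ a` for unipotent `a` -/
theorem trace_conj_mul (a g : SL2) (hN : ((a : M2) - 1) * ((a : M2) - 1) = 0)
    (htr : ((a : M2) - 1).trace = 0) :
    ((g * a * g⁻¹ * a : SL2) : M2).trace =
      2 - ((g : M2) * ((a : M2) - 1)).trace * ((g : M2) * ((a : M2) - 1)).trace := by
  obtain ⟨N, hNdef⟩ : ∃ N : M2, N = (a : M2) - 1 := ⟨_, rfl⟩
  rw [← hNdef] at hN htr ⊢
  have hA : (a : M2) = 1 + N := by rw [hNdef]; abel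
  have hgg : (g : M2) * ((g⁻¹ : SL2) : M2) = 1 := by
    rw [← Matrix.SpecialLinearGroup.coe_mul, mul_inv_cancel]; rfl
  have hgg' : ((g⁻¹ : SL2) : M2) * (g : M2) = 1 := by
    rw [← Matrix.SpecialLinearGroup.coe_mul, inv_mul_cancel]; rfl
  have h1 : ((g * a * g⁻¹ * a : SL2) : M2) =
      1 + (g : M2) * N * ((g⁻¹ : SL2) : M2) + N + (g : M2) * N * ((g⁻¹ : SL2) : M2) * N := by
    rw [Matrix.SpecialLinearGroup.coe_mul, Matrix.SpecialLinearGroup.coe_mul,
      Matrix.SpecialLinearGroup.coe_mul, hA]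
    have h0 : (g : M2) * (1 + N) * ((g⁻¹ : SL2) : M2) = 1 + (g : M2) * N * ((g⁻¹ : SL2) : M2) := by
      rw [mul_add, mul_one, add_mul, hgg]
    rw [h0, mul_add, mul_one, add_mul, one_mul]
    abel
  have h3 : ((g : M2) * N * ((g⁻¹ : SL2) : M2)).trace = 0 := by
    rw [Matrix.trace_mul_comm, ← mul_assoc, hgg', one_mul, htr]
  rw [h1, Matrix.trace_add, Matrix.trace_add, Matrix.trace_add, h3, htr, tau_eq g N hN,
    Matrix.trace_one, Fintype.card_fin]
  push_cast
  ring

/-- `tr(g² N) = tr(g) tr(g N)` when `tr N = 0` -/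
theorem zeta_sq_eq (g : SL2) (N : M2) (htr : N.trace = 0) :
    (((g * g : SL2) : M2) * N).trace = (g : M2).trace * ((g : M2) * N).trace := by
  rw [Matrix.SpecialLinearGroup.coe_mul, cayley_sl, sub_mul, one_mul, smul_mul_assoc,
    Matrix.trace_sub, Matrix.trace_smul, htr, sub_zero, smul_eq_mul]

theorem finite_sl2 [Finite K] : Finite SL2 := by
  haveI : Fintype K := Fintype.ofFinite K
  classical
  infer_instance

/-- `x ^ p = 1` for a `p`-element -/
theorem pow_char_eq_one_of_pow_char_pow {p : ℕ} [hp : Fact p.Prime] [CharP K p] (x : SL2)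
    (k : ℕ) (hx : x ^ (p ^ k) = 1) : x ^ p = 1 := by
  have hc : Commute (x : M2) 1 := Commute.one_right _
  have h1 : ((x : M2) - 1) ^ (p ^ k) = 0 := by
    rw [sub_pow_char_pow_of_commute (p := p) (n := k) (h := hc), one_pow, ← Matrix.SpecialLinearGroup.coe_pow, hx]
    simp
  have h2 : ((x : M2) - 1).det = 0 := by
    have := congrArg Matrix.det h1
    rw [Matrix.det_pow, Matrix.det_zero] at this
    exact (pow_eq_zero_iff (pow_ne_zero k hp.out.ne_zero)).mp this
  obtain ⟨v, hv, hv2⟩ := Matrix.exists_mulVec_eq_zero_iff.mpr h2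
  apply pow_char_eq_one_of_fix x v hv
  rw [smul_vec_def]
  rw [Matrix.sub_mulVec, Matrix.one_mulVec, sub_eq_zero] at hv2
  exact hv2

section main

variable [Finite K] [CharP K 3]

omit [Finite K] [CharP K 3] in
theorem three_dvd_orderOf_conj_mul (R : Subgroup SL2) (hR : (Nat.card R).Coprime 3)
    (a : SL2) (ha3 : a ^ 3 = 1) (ha1 : a ≠ 1) (haR : a ∈ Subgroup.normalizer (R : Set SL2))
    (g : SL2) (hg : g ∈ R) : 3 ∣ orderOf (g * a * g⁻¹ * a) := by
  obtain ⟨r₀, hr₀⟩ : ∃ r₀ : SL2, r₀ = g * (a * g⁻¹ * a⁻¹) := ⟨_, rfl⟩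
  have hr₀R : r₀ ∈ R := by
    rw [hr₀]
    exact R.mul_mem hg ((Subgroup.mem_normalizer_iff.mp haR g⁻¹).mp (R.inv_mem hg))
  have hh : g * a * g⁻¹ * a = r₀ * a ^ 2 := by rw [hr₀, pow_two]; group
  have hpow : ∀ n : ℕ, ∃ r ∈ R, (r₀ * a ^ 2) ^ n = r * a ^ (2 * n) := by
    intro n
    induction n with
    | zero => exact ⟨1, R.one_mem, by simp⟩
    | succ n ih =>
      obtain ⟨r, hr, hrn⟩ := ih
      have hn : a ^ (2 * n) ∈ Subgroup.normalizer (R : Set SL2) := Subgroup.pow_mem _ haR _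
      refine ⟨r * (a ^ (2 * n) * r₀ * (a ^ (2 * n))⁻¹),
        R.mul_mem hr ((Subgroup.mem_normalizer_iff.mp hn r₀).mp hr₀R), ?_⟩
      rw [pow_succ, hrn, show 2 * (n + 1) = 2 * n + 2 by ring, pow_add]
      generalize a ^ (2 * n) = A
      generalize a ^ 2 = B
      group
  obtain ⟨r, hr, hrm⟩ := hpow (orderOf (g * a * g⁻¹ * a))
  rw [← hh, pow_orderOf_eq_one] at hrm
  obtain ⟨m, hm⟩ : ∃ m : ℕ, m = orderOf (g * a * g⁻¹ * a) := ⟨_, rfl⟩
  rw [← hm] at hrm ⊢
  have hmem : a ^ (2 * m) ∈ R := by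
    have : a ^ (2 * m) = r⁻¹ := eq_inv_of_mul_eq_one_right hrm.symm
    rw [this]; exact R.inv_mem hr
  have hcard : (a ^ (2 * m)) ^ (Nat.card R) = 1 := by
    have h := congrArg Subtype.val (pow_card_eq_one' (x := (⟨a ^ (2 * m), hmem⟩ : R)))
    rw [Subgroup.coe_pow] at h
    exact h
  have hoa : orderOf a = 3 := orderOf_eq_prime ha3 ha1
  have hd : 3 ∣ 2 * m * Nat.card R := by
    rw [← hoa]; apply orderOf_dvd_of_pow_eq_one; rw [pow_mul]; exact hcard
  rcases (Nat.Prime.dvd_mul Nat.prime_three).mp hd with h | h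
  · rcases (Nat.Prime.dvd_mul Nat.prime_three).mp h with h' | h'
    · exact absurd h' (by norm_num)
    · exact h'
  · exfalso
    have := Nat.dvd_gcd h (dvd_refl 3)
    rw [Nat.Coprime.gcd_eq_one hR] at this
    exact absurd this (by norm_num)

theorem trace_sq_conj_mul (R : Subgroup SL2) (hR : (Nat.card R).Coprime 3)
    (a : SL2) (ha3 : a ^ 3 = 1) (ha1 : a ≠ 1) (haR : a ∈ Subgroup.normalizer (R : Set SL2))
    (g : SL2) (hg : g ∈ R) :
    ((g * a * g⁻¹ * a : SL2) : M2).trace * ((g * a * g⁻¹ * a : SL2) : M2).trace = 4 := by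
  haveI : Finite SL2 := finite_sl2
  haveI : Fact (Nat.Prime 3) := ⟨Nat.prime_three⟩
  have h3 := three_dvd_orderOf_conj_mul R hR a ha3 ha1 haR g hg
  obtain ⟨h, hh⟩ : ∃ h : SL2, h = g * a * g⁻¹ * a := ⟨_, rfl⟩
  rw [← hh] at h3 ⊢
  obtain ⟨m, hm⟩ := h3
  have hpos : 0 < orderOf h := orderOf_pos h
  have hm0 : 0 < m := by
    rcases Nat.eq_zero_or_pos m with h0 | h0
    · rw [h0, mul_zero] at hm; omega
    · exact h0
  obtain ⟨u, hu⟩ : ∃ u : SL2, u = h ^ m := ⟨_, rfl⟩
  have hu3 : u ^ 3 = 1 := by rw [hu, ← pow_mul, mul_comm, ← hm, pow_orderOf_eq_one]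
  have hu1 : u ≠ 1 := by
    rw [hu]; intro h1
    have hd := orderOf_dvd_of_pow_eq_one h1
    rw [hm] at hd
    have := Nat.le_of_dvd hm0 hd
    omega
  have hc : h * u = u * h := by rw [hu, ← pow_succ', ← pow_succ]
  exact trace_sq_of_commute_unipotent h u hu1 (sub_one_sq_eq_zero_of_pow_char (p := 3) u hu3)
    (trace_sub_one_of_pow_char (p := 3) u hu3) hc

omit [Finite K] in
theorem four_eq_one : (4 : K) = 1 := by
  have h : ((3 : ℕ) : K) = 0 := CharP.cast_eq_zero K 3
  push_cast at h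
  linear_combination h

theorem zeta_sq (R : Subgroup SL2) (hR : (Nat.card R).Coprime 3)
    (a : SL2) (ha3 : a ^ 3 = 1) (ha1 : a ≠ 1) (haR : a ∈ Subgroup.normalizer (R : Set SL2))
    (g : SL2) (hg : g ∈ R) :
    ((g : M2) * ((a : M2) - 1)).trace * ((g : M2) * ((a : M2) - 1)).trace = 0 ∨
      ((g : M2) * ((a : M2) - 1)).trace * ((g : M2) * ((a : M2) - 1)).trace = 1 := by
  haveI : Fact (Nat.Prime 3) := ⟨Nat.prime_three⟩
  have hN := sub_one_sq_eq_zero_of_pow_char (p := 3) a ha3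
  have htr := trace_sub_one_of_pow_char (p := 3) a ha3
  have h1 := trace_sq_conj_mul R hR a ha3 ha1 haR g hg
  rw [trace_conj_mul a g hN htr] at h1
  obtain ⟨s, hs⟩ : ∃ s : K, s = ((g : M2) * ((a : M2) - 1)).trace *
      ((g : M2) * ((a : M2) - 1)).trace := ⟨_, rfl⟩
  rw [← hs] at h1 ⊢
  have h2 : s * (s - 4) = 0 := by linear_combination h1
  rcases mul_eq_zero.mp h2 with h | h
  · exact Or.inl h
  · right
    rw [← four_eq_one (K := K)]
    exact sub_eq_zero.mp h

omit [Finite K] in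
theorem mem_pmOne_of_trace_sq (R : Subgroup SL2) (hR : (Nat.card R).Coprime 3)
    (r : SL2) (hr : r ∈ R) (ht : (r : M2).trace * (r : M2).trace = 4) : r ∈ pmOne K := by
  haveI : Fact (Nat.Prime 3) := ⟨Nat.prime_three⟩
  have h2 : (2 : K) ≠ 0 := two_ne_zero_of_charP (p := 3) (by norm_num)
  have h6 := pow_two_mul_char_of_trace_sq (p := 3) r ht
  have hc : r ^ (Nat.card R) = 1 := by
    have h := congrArg Subtype.val (pow_card_eq_one' (x := (⟨r, hr⟩ : R)))
    rw [Subgroup.coe_pow] at h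
    exact h
  have hd : orderOf r ∣ 2 := by
    have d1 : orderOf r ∣ 2 * 3 := orderOf_dvd_of_pow_eq_one h6
    have d2 : orderOf r ∣ Nat.card R := orderOf_dvd_of_pow_eq_one hc
    have hcop : (orderOf r).Coprime 3 := Nat.Coprime.coprime_dvd_left d2 hR
    exact hcop.dvd_of_dvd_mul_right d1
  apply mem_pmOne_of_sq h2
  rw [← pow_two]
  exact orderOf_dvd_iff_pow_eq_one.mp hd

omit [Finite K] in
theorem mem_pmOne_of_zeta_zero (R : Subgroup SL2) (hR : (Nat.card R).Coprime 3)
    (a : SL2) (ha3 : a ^ 3 = 1) (ha1 : a ≠ 1) (haR : a ∈ Subgroup.normalizer (R : Set SL2))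
    (g : SL2) (hg : g ∈ R) (hz : ((g : M2) * ((a : M2) - 1)).trace = 0) : g ∈ pmOne K := by
  haveI : Fact (Nat.Prime 3) := ⟨Nat.prime_three⟩
  have h2 : (2 : K) ≠ 0 := two_ne_zero_of_charP (p := 3) (by norm_num)
  have hN := sub_one_sq_eq_zero_of_pow_char (p := 3) a ha3
  have htr := trace_sub_one_of_pow_char (p := 3) a ha3
  have htc := trace_commutator_pow a g hN htr 1
  rw [tau_eq g _ hN, hz, pow_one] at htc
  have hcR : ⁅g, a⁆ ∈ R := by
    have h1 : a * g⁻¹ * a⁻¹ ∈ R := (Subgroup.mem_normalizer_iff.mp haR g⁻¹).mp (R.inv_mem hg)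
    have : ⁅g, a⁆ = g * (a * g⁻¹ * a⁻¹) := by rw [commutatorElement_def]; group
    rw [this]; exact R.mul_mem hg h1
  have htc2 : ((⁅g, a⁆ : SL2) : M2).trace = 2 := by rw [htc]; ring
  have hcp : ⁅g, a⁆ ∈ pmOne K := by
    apply mem_pmOne_of_trace_sq R hR _ hcR
    rw [htc2]; norm_num
  have hc1 : ⁅g, a⁆ = 1 := by
    rcases hcp with h | h
    · exact h
    · exfalso
      rw [h, Matrix.trace_neg, Matrix.trace_one, Fintype.card_fin] at htc2
      have h4 : (4 : K) = 0 := by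
        push_cast at htc2
        linear_combination -htc2
      rw [four_eq_one] at h4
      exact one_ne_zero h4
  have hcomm : g * a = a * g := (commutatorElement_eq_one_iff_commute.mp hc1).eq
  exact mem_pmOne_of_trace_sq R hR g hg (trace_sq_of_commute_unipotent g a ha1 hN htr hcomm)

theorem sq_eq_neg_one (R : Subgroup SL2) (hR : (Nat.card R).Coprime 3)
    (a : SL2) (ha3 : a ^ 3 = 1) (ha1 : a ≠ 1) (haR : a ∈ Subgroup.normalizer (R : Set SL2))
    (g : SL2) (hg : g ∈ R) (hgp : g ∉ pmOne K) : ((g * g : SL2) : M2) = -1 := by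
  haveI : Fact (Nat.Prime 3) := ⟨Nat.prime_three⟩
  have htr := trace_sub_one_of_pow_char (p := 3) a ha3
  obtain ⟨ζ, hζ⟩ : ∃ ζ : K, ζ = ((g : M2) * ((a : M2) - 1)).trace := ⟨_, rfl⟩
  have hz1 : ζ * ζ = 1 := by
    rcases zeta_sq R hR a ha3 ha1 haR g hg with h | h
    · exfalso
      apply hgp
      apply mem_pmOne_of_zeta_zero R hR a ha3 ha1 haR g hg
      exact mul_self_eq_zero.mp h
    · rw [hζ]; exact h
  have hz2 := zeta_sq R hR a ha3 ha1 haR (g * g) (R.mul_mem hg hg)
  rw [zeta_sq_eq g _ htr, ← hζ] at hz2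
  obtain ⟨t, ht⟩ : ∃ t : K, t = (g : M2).trace := ⟨_, rfl⟩
  rw [← ht] at hz2
  have ht0 : t = 0 := by
    rcases hz2 with h | h
    · have : t * t = 0 := by linear_combination h - t * t * hz1
      exact mul_self_eq_zero.mp this
    · exfalso
      apply hgp
      apply mem_pmOne_of_trace_sq R hR g hg
      rw [← ht, four_eq_one]
      linear_combination h - t * t * hz1
  rw [Matrix.SpecialLinearGroup.coe_mul, cayley_sl, ← ht, ht0, zero_smul, zero_sub]

theorem ncard_insert_le_succ {α : Type*} (x : α) (s : Set α) (n : ℕ) (h : s.ncard ≤ n) :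
    (insert x s).ncard ≤ n + 1 := (Set.ncard_insert_le x s).trans (Nat.succ_le_succ h)

theorem main (R : Subgroup SL2) (hR : (Nat.card R).Coprime 3) (a : SL2)
    (ha3 : a ^ 3 = 1) (haR : a ∈ Subgroup.normalizer (R : Set SL2))
    (hnc : ¬ ∀ q ∈ R, a * q = q * a) :
    Nonempty (↥R ≃* QuaternionGroup 2) ∧
      Nonempty (↥(R ⊔ Subgroup.zpowers a) ≃* Matrix.SpecialLinearGroup (Fin 2) (ZMod 3)) := by
  haveI : Fact (Nat.Prime 3) := ⟨Nat.prime_three⟩
  haveI : Fact (Nat.Prime 2) := ⟨Nat.prime_two⟩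
  haveI : Finite SL2 := finite_sl2
  have h2 : (2 : K) ≠ 0 := two_ne_zero_of_charP (p := 3) (by norm_num)
  have ha1 : a ≠ 1 := by
    rintro rfl
    apply hnc
    intro q _
    rw [one_mul, mul_one]
  have hdich : ∀ x ∈ R, x ∈ pmOne K ∨ ((x * x : SL2) : M2) = -1 := by
    intro x hx
    by_cases hxp : x ∈ pmOne K
    · exact Or.inl hxp
    · exact Or.inr (sq_eq_neg_one R hR a ha3 ha1 haR x hx hxp)
  have hsq4 : ∀ x ∈ R, (x * x) * (x * x) = 1 := by
    intro x hx
    rcases hdich x hx with h | h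
    · rcases h with rfl | h
      · simp
      · apply Subtype.ext
        show ((x * x * (x * x) : SL2) : M2) = ((1 : SL2) : M2)
        simp only [Matrix.SpecialLinearGroup.coe_mul, h, Matrix.SpecialLinearGroup.coe_one]
        simp
    · apply Subtype.ext
      show ((x * x * (x * x) : SL2) : M2) = ((1 : SL2) : M2)
      rw [Matrix.SpecialLinearGroup.coe_mul, h, Matrix.SpecialLinearGroup.coe_one]
      simp
  have hpow4 : ∀ x ∈ R, x ^ (2 ^ 2) = 1 := by
    intro x hx
    rw [show (2 : ℕ) ^ 2 = 2 + 2 from rfl, pow_add, pow_two]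
    exact hsq4 x hx
  have hRp : IsPGroup 2 ↥R := by
    intro x
    refine ⟨2, ?_⟩
    apply Subtype.ext
    rw [Subgroup.coe_pow]
    exact hpow4 x.1 x.2
  have hoa : orderOf a = 3 := orderOf_eq_prime ha3 ha1
  have hodd : Odd (orderOf a) := by rw [hoa]; exact ⟨1, rfl⟩
  have hainv : ∀ h ∈ R, a * h * a⁻¹ ∈ R := fun h hh =>
    (Subgroup.mem_normalizer_iff.mp haR h).mp hh
  have h2grp : ∀ h ∈ R, ∃ k : ℕ, h ^ (2 ^ k) = 1 := fun h hh => ⟨2, hpow4 h hh⟩
  have hpair : ∃ g ∈ R, ∃ h ∈ R, g * h ≠ h * g := by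
    by_contra hcon
    push Not at hcon
    exact hnc (centralizes_abelian_two_subgroup (p := 3) (by norm_num) R hcon h2grp a hainv hodd)
  obtain ⟨g₁, hg₁, g₂, hg₂, hne⟩ := hpair
  have hg₁p : g₁ ∉ pmOne K := fun hp => hne (pmOne_central g₁ hp g₂)
  have hg₂p : g₂ ∉ pmOne K := fun hp => hne (pmOne_central g₂ hp g₁).symm
  have hgg : ((g₁ * g₁ : SL2) : M2) = -1 := (hdich g₁ hg₁).resolve_left hg₁p
  obtain ⟨z, hzdef⟩ : ∃ z : SL2, z = g₁ * g₁ := ⟨_, rfl⟩
  have hzc : (z : M2) = -1 := by rw [hzdef]; exact hgg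
  have hzR : z ∈ R := by rw [hzdef]; exact R.mul_mem hg₁ hg₁
  have hzp : z ∈ pmOne K := Or.inr hzc
  have hzz : z * z = 1 := by
    apply Subtype.ext
    rw [Matrix.SpecialLinearGroup.coe_mul, hzc, Matrix.SpecialLinearGroup.coe_one]
    simp
  have hz1 : z ≠ 1 := by
    intro h1
    rw [h1, Matrix.SpecialLinearGroup.coe_one] at hzc
    have h00 := congrFun (congrFun hzc 0) 0
    simp at h00
    apply h2
    linear_combination h00
  have hsqz : ∀ x ∈ R, x ∉ pmOne K → x * x = z := by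
    intro x hx hxp
    apply Subtype.ext
    exact ((hdich x hx).resolve_left hxp).trans hzc.symm
  -- unique involution
  have huniq : ∃! x : ↥R, orderOf x = 2 := by
    refine ⟨⟨z, hzR⟩, ?_, ?_⟩
    · apply orderOf_eq_prime
      · apply Subtype.ext
        rw [Subgroup.coe_pow, pow_two]
        exact hzz
      · intro h1
        exact hz1 (congrArg Subtype.val h1)
    · intro y hy
      have hy2 : y ^ 2 = 1 := by
        have h := pow_orderOf_eq_one y
        rwa [hy] at h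
      have hy1 : y ≠ 1 := by
        intro h1
        rw [h1, orderOf_one] at hy
        omega
      have hyy : (y : SL2) * (y : SL2) = 1 := by
        have h := congrArg Subtype.val hy2
        rw [Subgroup.coe_pow, pow_two] at h
        exact h
      have hy1' : (y : SL2) ≠ 1 := fun h1 => hy1 (Subtype.ext h1)
      have hyc := eq_neg_one_of_sq_eq_one h2 (y : SL2) hyy hy1'
      apply Subtype.ext
      apply Subtype.ext
      exact hyc.trans hzc.symm
  have hna : ¬ IsMulCommutative ↥R := by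
    intro hc
    apply hne
    have h := hc.is_comm.comm (⟨g₁, hg₁⟩ : ↥R) ⟨g₂, hg₂⟩
    exact congrArg Subtype.val h
  obtain ⟨k, ⟨e⟩⟩ := Cfsg.Agent.Lib.Helper8.QQ.exists_quaternion_iso hRp hna huniq
  have hg₁₂p : g₁ * g₂ ∉ pmOne K := by
    intro hp
    apply hne
    have h := pmOne_central (g₁ * g₂) hp g₁
    rw [mul_assoc] at h
    exact (mul_left_cancel h).symm
  -- the eight elements
  have hmem8 : ∀ x ∈ R, x = 1 ∨ x = z ∨ x = g₁ ∨ x = z * g₁ ∨ x = g₂ ∨ x = z * g₂ ∨
      x = g₁ * g₂ ∨ x = z * (g₁ * g₂) := by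
    intro x hx
    by_cases hxp : x ∈ pmOne K
    · rcases hxp with rfl | hx1
      · exact Or.inl rfl
      · right; left
        apply Subtype.ext
        exact hx1.trans hzc.symm
    · have hgen : ∀ w ∈ R, w ∉ pmOne K → w * x ∈ pmOne K → x = w ∨ x = z * w := by
        intro w hw hwp hwx
        have hww := hsqz w hw hwp
        rcases hwx with h1 | h1
        · right
          have h3 : w * (z * w) = 1 := by
            rw [← mul_assoc, ← pmOne_central z hzp w, mul_assoc, hww, hzz]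
          exact mul_left_cancel (h1.trans h3.symm)
        · left
          have h3 : w * x = z := by
            apply Subtype.ext
            exact h1.trans hzc.symm
          exact mul_left_cancel (h3.trans hww.symm)
      by_cases h1 : g₁ * x ∈ pmOne K
      · rcases hgen g₁ hg₁ hg₁p h1 with e' | e'
        · exact Or.inr (Or.inr (Or.inl e'))
        · exact Or.inr (Or.inr (Or.inr (Or.inl e')))
      by_cases h2' : g₂ * x ∈ pmOne K
      · rcases hgen g₂ hg₂ hg₂p h2' with e' | e'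
        · exact Or.inr (Or.inr (Or.inr (Or.inr (Or.inl e'))))
        · exact Or.inr (Or.inr (Or.inr (Or.inr (Or.inr (Or.inl e')))))
      by_cases h3 : (g₁ * g₂) * x ∈ pmOne K
      · rcases hgen (g₁ * g₂) (R.mul_mem hg₁ hg₂) hg₁₂p h3 with e' | e'
        · exact Or.inr (Or.inr (Or.inr (Or.inr (Or.inr (Or.inr (Or.inl e'))))))
        · exact Or.inr (Or.inr (Or.inr (Or.inr (Or.inr (Or.inr (Or.inr e'))))))
      exfalso
      have hX : ((x * x : SL2) : M2) = -1 := (hdich x hx).resolve_left hxp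
      have hG := hgg
      have hH : ((g₂ * g₂ : SL2) : M2) = -1 := (hdich g₂ hg₂).resolve_left hg₂p
      have hGH : (((g₁ * g₂) * (g₁ * g₂) : SL2) : M2) = -1 :=
        (hdich _ (R.mul_mem hg₁ hg₂)).resolve_left hg₁₂p
      have hGX : (((g₁ * x) * (g₁ * x) : SL2) : M2) = -1 :=
        (hdich _ (R.mul_mem hg₁ hx)).resolve_left h1
      have hHX : (((g₂ * x) * (g₂ * x) : SL2) : M2) = -1 :=
        (hdich _ (R.mul_mem hg₂ hx)).resolve_left h2'
      have hGHX : ((((g₁ * g₂) * x) * ((g₁ * g₂) * x) : SL2) : M2) = -1 :=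
        (hdich _ (R.mul_mem (R.mul_mem hg₁ hg₂) hx)).resolve_left h3
      simp only [Matrix.SpecialLinearGroup.coe_mul] at hX hG hH hGH hGX hHX hGHX
      have a2 := anticommute_aux (g₁ : M2) (x : M2) hG hX hGX
      have a3 := anticommute_aux (g₂ : M2) (x : M2) hH hX hHX
      have a4 := anticommute_aux ((g₁ : M2) * (g₂ : M2)) (x : M2) hGH hX hGHX
      have a5 : (g₁ : M2) * (g₂ : M2) * (x : M2) = (x : M2) * ((g₁ : M2) * (g₂ : M2)) := by
        calc (g₁ : M2) * (g₂ : M2) * (x : M2) = (g₁ : M2) * ((g₂ : M2) * (x : M2)) :=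
              mul_assoc _ _ _
          _ = (g₁ : M2) * (-((x : M2) * (g₂ : M2))) := by rw [a3]
          _ = -(((g₁ : M2) * (x : M2)) * (g₂ : M2)) := by rw [mul_neg, mul_assoc]
          _ = -((-((x : M2) * (g₁ : M2))) * (g₂ : M2)) := by rw [a2]
          _ = (x : M2) * ((g₁ : M2) * (g₂ : M2)) := by rw [neg_mul, neg_neg, mul_assoc]
      have a6 : (x : M2) * ((g₁ : M2) * (g₂ : M2)) = -((x : M2) * ((g₁ : M2) * (g₂ : M2))) :=
        a5.symm.trans a4
      have a7 : (x : M2) * ((g₁ : M2) * (g₂ : M2)) = 0 := by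
        have h7 : (2 : K) • ((x : M2) * ((g₁ : M2) * (g₂ : M2))) = 0 := by
          rw [two_smul]
          nth_rewrite 2 [a6]
          exact add_neg_cancel _
        exact (smul_eq_zero.mp h7).resolve_left h2
      have a8 := congrArg Matrix.det a7
      rw [Matrix.det_mul, Matrix.det_mul, x.det_coe, g₁.det_coe, g₂.det_coe, Matrix.det_zero]
        at a8
      norm_num at a8
  have hsub : (R : Set SL2) ⊆
      ({1, z, g₁, z * g₁, g₂, z * g₂, g₁ * g₂, z * (g₁ * g₂)} : Set SL2) := by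
    intro x hx
    rcases hmem8 x hx with e' | e' | e' | e' | e' | e' | e' | e' <;> simp [e']
  have hcard8 : Nat.card R ≤ 8 := by
    have h1 : Nat.card R = (R : Set SL2).ncard := rfl
    rw [h1]
    refine (Set.ncard_le_ncard hsub (Set.toFinite _)).trans ?_
    exact ncard_insert_le_succ _ _ 7 (ncard_insert_le_succ _ _ 6 (ncard_insert_le_succ _ _ 5
      (ncard_insert_le_succ _ _ 4 (ncard_insert_le_succ _ _ 3 (ncard_insert_le_succ _ _ 2
      (ncard_insert_le_succ _ _ 1 (Set.ncard_singleton _).le))))))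
  have hcardk : Nat.card R = 4 * 2 ^ k := by
    rw [Nat.card_congr e.toEquiv, Nat.card_eq_fintype_card, QuaternionGroup.card]
  have hk1 : k = 1 := by
    rcases Nat.lt_or_ge k 1 with hk | hk
    · exfalso
      have hk0 : k = 0 := by omega
      rw [hk0] at hcardk
      have hc4 : Nat.card ↥R = 2 ^ 2 := by rw [hcardk]; norm_num
      exact hna (IsPGroup.isMulCommutative_of_card_eq_prime_sq (p := 2) hc4)
    · rcases Nat.lt_or_ge 1 k with hk' | hk'
      · exfalso
        have : 2 ^ 2 ≤ 2 ^ k := Nat.pow_le_pow_right (by norm_num) hk'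
        rw [hcardk] at hcard8
        omega
      · omega
  have hR8 : Nat.card R = 8 := by rw [hcardk, hk1]; norm_num
  refine ⟨?_, ?_⟩
  · subst hk1
    exact ⟨e⟩
  · obtain ⟨i, hiR, ⟨φ⟩⟩ := exists_sl2_three_of_coprime_action R hR a ha3 haR hnc
    have hLle : Subgroup.closure ({i, a} : Set SL2) ≤ R ⊔ Subgroup.zpowers a := by
      rw [Subgroup.closure_le]
      intro x hx
      rcases hx with rfl | hx
      · exact (le_sup_left : R ≤ R ⊔ Subgroup.zpowers a) hiR
      · rw [Set.mem_singleton_iff] at hx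
        rw [hx]
        exact (le_sup_right : Subgroup.zpowers a ≤ R ⊔ Subgroup.zpowers a)
          (Subgroup.mem_zpowers a)
    have hLcard : Nat.card (Subgroup.closure ({i, a} : Set SL2)) = 24 := by
      rw [Nat.card_congr φ.toEquiv]
      exact Cfsg.Agent.Lib.Helper2.SL2ThreeSub.card_sl2_three
    have hHcard : Nat.card ↥(R ⊔ Subgroup.zpowers a) ≤ 24 := by
      have hle : Subgroup.zpowers a ≤ Subgroup.normalizer (R : Set SL2) := by
        rw [Subgroup.zpowers_le]; exact haR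
      have hcoe := Subgroup.coe_mul_of_right_le_normalizer_left R (Subgroup.zpowers a) hle
      have h1 : Nat.card ↥(R ⊔ Subgroup.zpowers a) =
          Nat.card (((R : Set SL2) * (Subgroup.zpowers a : Set SL2) : Set SL2)) := by
        rw [← hcoe]; rfl
      rw [h1]
      refine Set.natCard_mul_le.trans ?_
      have h3 : Nat.card (R : Set SL2) = 8 := hR8
      have h4 : Nat.card (Subgroup.zpowers a : Set SL2) = 3 := by
        have : Nat.card (Subgroup.zpowers a) = 3 := by rw [Nat.card_zpowers, hoa]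
        exact this
      rw [h3, h4]
    have hEq : Subgroup.closure ({i, a} : Set SL2) = R ⊔ Subgroup.zpowers a :=
      Subgroup.eq_of_le_of_card_ge hLle (by rw [hLcard]; exact hHcard)
    rw [← hEq]
    exact ⟨φ⟩

end main

end Cfsg.Agent.Lib.Helper2.SL2Q8R
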