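import Cfsg.Agent.Lib.Helper2.SimpCrit2
import Cfsg.Agent.Lib.Helper1.Nilpotent

set_option autoImplicit false

/-! Abstract tools for the `2`-fusion systems of groups like `PSL₃(q)`, `q` odd:
a variant of the cover criterion where the Sylow normalizer acts by inner automorphisms,
and the `2`-part of the normalizer of a torus. -/

namespace Cfsg.Agent.Lib.Helper2.SL3Fus

open Cfsg Cfsg.FusionSystem Cfsg.Agent.Lib.Helper9 Cfsg.Agent.Lib.Helper2.StrongInv
  Cfsg.Agent.Lib.Helper2.SimpCrit Cfsg.Agent.Lib.Helper2.SimpCrit2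

section Cover

variable {G : Type*} [Group G] [Finite G] {p : ℕ} [Fact p.Prime] {L : Type*} [Group L]

/-- the simplicity criterion along a central cover of `p'`-kernel, when the normalizer of the
Sylow subgroup induces only inner automorphisms -/
theorem simple_of_cover_inner (ψ : L →* G) (hψ : Function.Surjective ψ)
    (hkc : ψ.ker ≤ Subgroup.center L)
    (hkp : ∀ z ∈ ψ.ker, ∀ k : ℕ, z ^ p ^ k = 1 → z = 1)
    (U : Subgroup L) (hU : IsPGroup p U) (hU1 : U ≠ ⊥)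
    (S : Sylow p G) (hSU : (S : Subgroup G) = U.map ψ)
    (ha : ∀ T : Subgroup L, T ≤ U → T ≠ ⊥ →
      (∀ t ∈ T, ∀ x : L, x * t * x⁻¹ ∈ U → x * t * x⁻¹ ∈ T) → T = U)
    (hN : ∀ g ∈ Subgroup.normalizer (U : Set L), ∃ u ∈ U, ∀ x ∈ U,
      g * x * g⁻¹ = u * x * u⁻¹) :
    (groupFusionSystem (S : Subgroup G)).IsSimple p := by
  have hinj : ∀ u ∈ U, ψ u = 1 → u = 1 := by
    intro u hu h1
    obtain ⟨k, hk⟩ := hU ⟨u, hu⟩
    refine hkp u h1 k ?_
    have h2 := congrArg Subtype.val hk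
    simpa using h2
  have hS1 : (S : Subgroup G) ≠ ⊥ := by
    intro hb
    apply hU1
    rw [Subgroup.eq_bot_iff_forall]
    intro u hu
    apply hinj u hu
    have h2 : ψ u ∈ (S : Subgroup G) := by rw [hSU]; exact Subgroup.mem_map_of_mem ψ hu
    rw [hb] at h2
    exact Subgroup.mem_bot.mp h2
  have ha' : ∀ T : Subgroup G, (groupFusionSystem (S : Subgroup G)).StronglyClosed T →
      T = ⊥ ∨ T = (S : Subgroup G) := by
    intro T hT
    by_cases hbot : T = ⊥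
    · exact Or.inl hbot
    right
    apply le_antisymm hT.1
    have hne : U ⊓ T.comap ψ ≠ ⊥ := by
      intro h0
      apply hbot
      rw [Subgroup.eq_bot_iff_forall]
      intro s hs
      have hsS : s ∈ U.map ψ := by rw [← hSU]; exact hT.1 hs
      obtain ⟨u, hu, rfl⟩ := Subgroup.mem_map.mp hsS
      have h2 : u ∈ U ⊓ T.comap ψ := Subgroup.mem_inf.mpr ⟨hu, Subgroup.mem_comap.mpr hs⟩
      rw [h0] at h2
      rw [Subgroup.mem_bot.mp h2, map_one]
    have hcl : ∀ t ∈ U ⊓ T.comap ψ, ∀ x : L, x * t * x⁻¹ ∈ U →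
        x * t * x⁻¹ ∈ U ⊓ T.comap ψ := by
      intro t ht x hx
      obtain ⟨htU, htT⟩ := Subgroup.mem_inf.mp ht
      refine Subgroup.mem_inf.mpr ⟨hx, ?_⟩
      rw [Subgroup.mem_comap, map_mul, map_mul, map_inv]
      apply stronglyClosed_conj_mem hT (Subgroup.mem_comap.mp htT)
      rw [hSU, ← map_inv, ← map_mul, ← map_mul]
      exact Subgroup.mem_map_of_mem ψ hx
    have hTU := ha _ inf_le_left hne hcl
    rw [hSU]
    rintro _ ⟨u, hu, rfl⟩
    have h2 : u ∈ U ⊓ T.comap ψ := by rw [hTU]; exact hu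
    exact (Subgroup.mem_inf.mp h2).2
  have hp : p.Prime := Fact.out
  apply simple_of_fn_centric S hS1 ha'
  intro α hα
  obtain ⟨g, -, hgα⟩ := (mem_autInducedBy_iff ⊤ _ α).mp hα
  have hgN : g ∈ Subgroup.normalizer (((S : Subgroup G)) : Set G) :=
    mem_normalizer_of_induces α hgα
  obtain ⟨x, rfl⟩ := hψ g
  have hxN : x ∈ Subgroup.normalizer (U : Set L) :=
    lift_mem_normalizer ψ hkc hkp U hU (by rw [← hSU]; exact hgN)
  obtain ⟨u, hu, hux⟩ := hN x hxN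
  have huS : ψ u ∈ (S : Subgroup G) := by rw [hSU]; exact Subgroup.mem_map_of_mem ψ hu
  refine Subgroup.mem_iSup_of_mem (S : Subgroup G)
    (Subgroup.mem_iSup_of_mem ⟨fullyNormalized_top _, centric_top _⟩ ?_)
  rw [mem_autInducedBy_iff]
  refine ⟨ψ u, ?_, ?_⟩
  · apply Subgroup.subset_closure
    refine ⟨Subgroup.le_normalizer huS, ?_⟩
    obtain ⟨k, hk⟩ := S.isPGroup' ⟨ψ u, huS⟩
    have hd : orderOf (ψ u) ∣ p ^ k := by
      apply orderOf_dvd_of_pow_eq_one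
      have h2 := congrArg Subtype.val hk
      simpa using h2
    obtain ⟨j, -, hj⟩ := (Nat.dvd_prime_pow hp).1 hd
    exact ⟨j, hj⟩
  · intro s
    rw [hgα s]
    have hs : ((s : ↥(S : Subgroup G)) : G) ∈ U.map ψ := by rw [← hSU]; exact s.2
    obtain ⟨v, hv, hvs⟩ := Subgroup.mem_map.mp hs
    rw [← hvs, ← map_inv, ← map_mul, ← map_mul, hux v hv, map_mul, map_mul, map_inv]

end Cover

section Central

/-- a nontrivial subgroup of a finite `2`-group `U`, normalized by `U`, contains a central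
involution of `U` -/
theorem exists_central_involution {L : Type*} [Group L] (U : Subgroup L) [Finite U]
    (hU : IsPGroup 2 U) (T : Subgroup L) (hTU : T ≤ U) (hT1 : T ≠ ⊥)
    (hcl : ∀ t ∈ T, ∀ u ∈ U, u * t * u⁻¹ ∈ T) :
    ∃ s ∈ T, s ≠ 1 ∧ s * s = 1 ∧ ∀ u ∈ U, u * s = s * u := by
  haveI : Group.IsNilpotent ↥U := hU.isNilpotent
  haveI hnorm : (T.subgroupOf U).Normal := by
    constructor
    intro t ht u
    rw [Subgroup.mem_subgroupOf] at ht ⊢
    exact hcl t.1 ht u.1 u.2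
  have hne : T.subgroupOf U ≠ ⊥ := by
    intro h0
    apply hT1
    rw [Subgroup.eq_bot_iff_forall]
    intro t ht
    have h2 : (⟨t, hTU ht⟩ : ↥U) ∈ T.subgroupOf U := by
      rw [Subgroup.mem_subgroupOf]
      exact ht
    rw [h0, Subgroup.mem_bot] at h2
    exact congrArg Subtype.val h2
  have h1 := Cfsg.Agent.Lib.Helper1.normal_inf_center_ne_bot (T.subgroupOf U) hne
  have hex : ∃ t ∈ T, t ≠ 1 ∧ ∀ u ∈ U, u * t = t * u := by
    by_contra hno
    apply h1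
    rw [Subgroup.eq_bot_iff_forall]
    intro w hw
    obtain ⟨hwT, hwZ⟩ := Subgroup.mem_inf.mp hw
    by_contra hw1
    apply hno
    refine ⟨w.1, Subgroup.mem_subgroupOf.mp hwT, fun h => hw1 (Subtype.ext h), ?_⟩
    intro u hu
    have h2 := Subgroup.mem_center_iff.mp hwZ ⟨u, hu⟩
    exact congrArg Subtype.val h2
  obtain ⟨t₀, ht₀T, ht₀1, ht₀c⟩ := hex
  obtain ⟨k, hk⟩ := hU ⟨t₀, hTU ht₀T⟩
  have hk' : t₀ ^ 2 ^ k = 1 := by
    have h2 := congrArg Subtype.val hk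
    simpa using h2
  have hd : orderOf t₀ ∣ 2 ^ k := orderOf_dvd_of_pow_eq_one hk'
  obtain ⟨j, -, hj⟩ := (Nat.dvd_prime_pow Nat.prime_two).1 hd
  have hj0 : j ≠ 0 := by
    rintro rfl
    rw [pow_zero, orderOf_eq_one_iff] at hj
    exact ht₀1 hj
  obtain ⟨i, rfl⟩ := Nat.exists_eq_succ_of_ne_zero hj0
  have hu2 : t₀ ^ 2 ^ i * t₀ ^ 2 ^ i = 1 := by
    rw [← pow_add, ← two_mul, ← pow_succ', ← hj, pow_orderOf_eq_one]
  have hu1 : t₀ ^ 2 ^ i ≠ 1 := by
    intro h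
    have h2 := orderOf_dvd_of_pow_eq_one h
    rw [hj, Nat.pow_dvd_pow_iff_le_right (by norm_num)] at h2
    omega
  have huc : ∀ y ∈ U, y * t₀ ^ 2 ^ i = t₀ ^ 2 ^ i * y := by
    intro y hy
    have hcm : Commute y t₀ := ht₀c y hy
    exact hcm.pow_right _
  exact ⟨t₀ ^ 2 ^ i, Subgroup.pow_mem _ ht₀T _, hu1, hu2, huc⟩

end Central

section Torus

variable {H : Type*} [Group H]

/-- an abelian subgroup `D` with an involution `y ∉ D` normalizing it -/
structure TD (D : Subgroup H) (y : H) : Prop where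
  comm : ∀ a ∈ D, ∀ b ∈ D, a * b = b * a
  ysq : y * y = 1
  ynot : y ∉ D
  ynorm : ∀ d ∈ D, y * d * y ∈ D

variable {D : Subgroup H} {y : H}

theorem TD.yinv (h : TD D y) : y⁻¹ = y := inv_eq_of_mul_eq_one_left h.ysq

/-- the `2`-elements of `D` -/
def BB (h : TD D y) : Subgroup H where
  carrier := {d | d ∈ D ∧ ∃ k : ℕ, d ^ 2 ^ k = 1}
  one_mem' := ⟨D.one_mem, 0, one_pow _⟩
  mul_mem' := by
    rintro a b ⟨ha, j, hj⟩ ⟨hb, k, hk⟩
    refine ⟨D.mul_mem ha hb, j + k, ?_⟩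
    have hc : Commute a b := h.comm a ha b hb
    rw [hc.mul_pow, pow_add, pow_mul, hj, one_pow, one_mul, mul_comm (2 ^ j), pow_mul, hk,
      one_pow]
  inv_mem' := by
    rintro a ⟨ha, j, hj⟩
    exact ⟨D.inv_mem ha, j, by rw [inv_pow, hj, inv_one]⟩

theorem mem_BB (h : TD D y) {d : H} : d ∈ BB h ↔ d ∈ D ∧ ∃ k : ℕ, d ^ 2 ^ k = 1 := Iff.rfl

theorem ydy_mem (h : TD D y) {d : H} (hd : d ∈ BB h) : y * d * y ∈ BB h := by
  obtain ⟨hdD, k, hk⟩ := hd
  refine ⟨h.ynorm d hdD, k, ?_⟩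
  have e : y * d * y = y * d * y⁻¹ := by rw [h.yinv]
  rw [e, conj_pow, hk, mul_one, mul_inv_cancel]

/-- the `2`-part of `D ⋊ ⟨y⟩` -/
def UU (h : TD D y) : Subgroup H where
  carrier := {g | g ∈ BB h ∨ g * y ∈ BB h}
  one_mem' := Or.inl (BB h).one_mem
  mul_mem' := by
    rintro a b (ha | ha) (hb | hb)
    · exact Or.inl ((BB h).mul_mem ha hb)
    · right
      rw [mul_assoc]
      exact (BB h).mul_mem ha hb
    · right
      have e : a * b * y = (a * y) * (y⁻¹ * b * y) := by group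
      rw [e, h.yinv]
      exact (BB h).mul_mem ha (ydy_mem h hb)
    · left
      have e : a * b = (a * y) * (y⁻¹ * (b * y) * y⁻¹) := by group
      rw [e, h.yinv]
      exact (BB h).mul_mem ha (ydy_mem h hb)
  inv_mem' := by
    rintro a (ha | ha)
    · exact Or.inl ((BB h).inv_mem ha)
    · right
      have e : a⁻¹ * y = y * (a * y)⁻¹ * y := by group
      rw [e]
      exact ydy_mem h ((BB h).inv_mem ha)

theorem mem_UU (h : TD D y) {g : H} : g ∈ UU h ↔ g ∈ BB h ∨ g * y ∈ BB h := Iff.rfl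

theorem y_mem_UU (h : TD D y) : y ∈ UU h := Or.inr (by rw [h.ysq]; exact (BB h).one_mem)

theorem BB_le_UU (h : TD D y) : BB h ≤ UU h := fun _ hx => Or.inl hx

theorem sq_mem_BB (h : TD D y) {g : H} (hg : g ∈ UU h) : g * g ∈ BB h := by
  rcases hg with hg | hg
  · exact (BB h).mul_mem hg hg
  · have e : g * g = (g * y) * (y⁻¹ * (g * y) * y⁻¹) := by group
    rw [e, h.yinv]
    exact (BB h).mul_mem hg (ydy_mem h hg)

theorem UU_isPGroup (h : TD D y) : IsPGroup 2 (UU h) := by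
  rintro ⟨g, hg⟩
  obtain ⟨-, k, hk⟩ := sq_mem_BB h hg
  refine ⟨k + 1, Subtype.ext ?_⟩
  rw [Subgroup.coe_pow, Subgroup.coe_one, pow_succ', pow_mul, pow_two]
  exact hk

/-- central elements of `UU` lie in `BB` and are fixed by `y` -/
theorem central_mem (h : TD D y) {e₀ : H} (he₀ : e₀ ∈ BB h) (hne : y * e₀ * y ≠ e₀)
    {u : H} (hu : u ∈ UU h) (hc : ∀ v ∈ UU h, v * u = u * v) :
    u ∈ BB h ∧ y * u * y = u := by
  have hy := hc y (y_mem_UU h)
  have h1 : u ∈ BB h := by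
    rcases hu with hu | hu
    · exact hu
    · exfalso
      apply hne
      have h2 := hc e₀ (BB_le_UU h he₀)
      have h3 : (u * y) * e₀ = e₀ * (u * y) := h.comm _ hu.1 _ he₀.1
      have h4 : u * (y * e₀) = u * (e₀ * y) := by
        calc u * (y * e₀) = (u * y) * e₀ := by rw [mul_assoc]
          _ = e₀ * (u * y) := h3
          _ = (e₀ * u) * y := by rw [mul_assoc]
          _ = (u * e₀) * y := by rw [h2]
          _ = u * (e₀ * y) := by rw [mul_assoc]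
      have h5 : y * e₀ = e₀ * y := mul_left_cancel h4
      rw [h5, mul_assoc, h.ysq, mul_one]
  refine ⟨h1, ?_⟩
  rw [hy, mul_assoc, h.ysq, mul_one]

/-- the normalizer of `UU` lies in `UU` times the centre -/
theorem normalizer_UU (h : TD D y) [Finite D] (Z : Subgroup H) (hZ : Z ≤ Subgroup.center H)
    (hfix : ∀ d ∈ D, y * d * y = d → d ∈ Z)
    (hN : ∀ A : H, (∀ b ∈ BB h, A * b * A⁻¹ ∈ BB h) → A ∈ D ∨ A * y ∈ D)
    {e₀ : H} (he₀ : e₀ ∈ BB h) (hne : y * (e₀ * e₀) * y ≠ e₀ * e₀)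
    {A : H} (hA : A ∈ Subgroup.normalizer ((UU h : Subgroup H) : Set H)) :
    ∃ u ∈ UU h, ∃ z ∈ Z, A = u * z := by
  have key : ∀ A' ∈ Subgroup.normalizer ((UU h : Subgroup H) : Set H),
      ∀ b ∈ BB h, A' * b * A'⁻¹ ∈ BB h := by
    intro A' hA' b hb
    have h1 : A' * b * A'⁻¹ ∈ UU h :=
      (Subgroup.mem_normalizer_iff.mp hA' b).mp (BB_le_UU h hb)
    rcases h1 with h1 | h1
    · exact h1
    · exfalso
      apply hne
      have hu' : A'⁻¹ * e₀ * A' ∈ UU h := by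
        have h2 := (Subgroup.mem_normalizer_iff.mp (Subgroup.inv_mem _ hA') e₀).mp
          (BB_le_UU h he₀)
        rwa [inv_inv] at h2
      have hs := sq_mem_BB h hu'
      have hcomm : b * ((A'⁻¹ * e₀ * A') * (A'⁻¹ * e₀ * A')) =
          ((A'⁻¹ * e₀ * A') * (A'⁻¹ * e₀ * A')) * b := h.comm _ hb.1 _ hs.1
      have hcomm2 : (A' * b * A'⁻¹) * (e₀ * e₀) = (e₀ * e₀) * (A' * b * A'⁻¹) := by
        have e1 : (A' * b * A'⁻¹) * (e₀ * e₀) =
            A' * (b * ((A'⁻¹ * e₀ * A') * (A'⁻¹ * e₀ * A'))) * A'⁻¹ := by group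
        have e2 : (e₀ * e₀) * (A' * b * A'⁻¹) =
            A' * (((A'⁻¹ * e₀ * A') * (A'⁻¹ * e₀ * A')) * b) * A'⁻¹ := by group
        rw [e1, e2, hcomm]
      have hc3 : (A' * b * A'⁻¹ * y) * (e₀ * e₀) = (e₀ * e₀) * (A' * b * A'⁻¹ * y) :=
        h.comm _ h1.1 _ ((BB h).mul_mem he₀ he₀).1
      obtain ⟨g, hgdef⟩ : ∃ g, g = A' * b * A'⁻¹ := ⟨_, rfl⟩
      obtain ⟨s, hsdef⟩ : ∃ s, s = e₀ * e₀ := ⟨_, rfl⟩
      rw [← hgdef, ← hsdef] at hcomm2 hc3
      rw [← hsdef]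
      have h4 : g * (y * s) = g * (s * y) := by
        calc g * (y * s) = (g * y) * s := by rw [mul_assoc]
          _ = s * (g * y) := hc3
          _ = (s * g) * y := by rw [mul_assoc]
          _ = (g * s) * y := by rw [hcomm2]
          _ = g * (s * y) := by rw [mul_assoc]
      have h5 : y * s = s * y := mul_left_cancel h4
      rw [h5, mul_assoc, h.ysq, mul_one]
  have main : ∀ d ∈ D, d ∈ Subgroup.normalizer ((UU h : Subgroup H) : Set H) →
      ∃ u ∈ BB h, ∃ z ∈ Z, d = u * z := by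
    intro d hd hdN
    have h1 : d * y * d⁻¹ ∈ UU h := (Subgroup.mem_normalizer_iff.mp hdN y).mp (y_mem_UU h)
    have hb : d * (y * d⁻¹ * y) ∈ BB h := by
      rcases h1 with h1 | h1
      · exfalso
        apply h.ynot
        have e : y = d⁻¹ * (d * y * d⁻¹) * d := by group
        rw [e]
        exact D.mul_mem (D.mul_mem (D.inv_mem hd) h1.1) hd
      · have e : d * (y * d⁻¹ * y) = d * y * d⁻¹ * y := by group
        rw [e]
        exact h1
    obtain ⟨k, m, hm, hkm⟩ := Nat.exists_eq_two_pow_mul_odd (Nat.card_pos (α := D)).ne'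
    have hcard : ∀ x ∈ D, x ^ (2 ^ k * m) = 1 := by
      intro x hx
      have h2 : (⟨x, hx⟩ : D) ^ Nat.card D = 1 := pow_card_eq_one'
      rw [hkm] at h2
      have h3 := congrArg Subtype.val h2
      simpa using h3
    have hcop : Nat.Coprime 2 m := Nat.coprime_two_left.mpr hm
    obtain ⟨b, hbdef⟩ : ∃ b, b = d * (y * d⁻¹ * y) := ⟨_, rfl⟩
    rw [← hbdef] at hb
    have hb2k : b ^ 2 ^ k = 1 := by
      obtain ⟨hbD, j, hj⟩ := hb
      have h3 : orderOf b ∣ 2 ^ j := orderOf_dvd_of_pow_eq_one hj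
      have h4 : orderOf b ∣ 2 ^ k * m := orderOf_dvd_of_pow_eq_one (hcard b hbD)
      obtain ⟨i, -, hi⟩ := (Nat.dvd_prime_pow Nat.prime_two).1 h3
      rw [hi] at h4
      have h5 : 2 ^ i ∣ 2 ^ k := (Nat.Coprime.pow_left i hcop).dvd_of_dvd_mul_right h4
      rw [← hi] at h5
      exact orderOf_dvd_iff_pow_eq_one.mp h5
    have hyd : y * d⁻¹ * y ∈ D := h.ynorm _ (D.inv_mem hd)
    have hfix2 : y * d ^ 2 ^ k * y = d ^ 2 ^ k := by
      have hc : Commute d (y * d⁻¹ * y) := h.comm d hd _ hyd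
      have h6 : b ^ 2 ^ k = d ^ 2 ^ k * (y * d⁻¹ * y) ^ 2 ^ k := by
        rw [hbdef]
        exact hc.mul_pow _
      have h7 : (y * d⁻¹ * y) ^ 2 ^ k = y * (d ^ 2 ^ k)⁻¹ * y := by
        have e : y * d⁻¹ * y = y * d⁻¹ * y⁻¹ := by rw [h.yinv]
        rw [e, conj_pow, inv_pow, h.yinv]
      rw [hb2k, h7] at h6
      obtain ⟨x, hxdef⟩ : ∃ x, x = d ^ 2 ^ k := ⟨_, rfl⟩
      rw [← hxdef] at h6 ⊢
      have h8 : y * x⁻¹ * y = x⁻¹ := eq_inv_of_mul_eq_one_right h6.symm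
      have h9 : y * x * y = (y * x⁻¹ * y)⁻¹ := by
        rw [mul_inv_rev, mul_inv_rev, inv_inv, h.yinv, mul_assoc]
      rw [h9, h8, inv_inv]
    have hz : d ^ 2 ^ k ∈ Z := hfix _ (D.pow_mem hd _) hfix2
    have hcop2 : Nat.Coprime m (2 ^ k) := (Nat.Coprime.pow_left k hcop).symm
    have hbez := Nat.gcd_eq_gcd_ab m (2 ^ k)
    rw [hcop2.gcd_eq_one] at hbez
    have hd1 : d = (d ^ m) ^ (m.gcdA (2 ^ k)) * (d ^ 2 ^ k) ^ (m.gcdB (2 ^ k)) := by
      rw [← zpow_natCast d m, ← zpow_natCast d (2 ^ k), ← zpow_mul, ← zpow_mul, ← zpow_add,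
        ← hbez]
      simp
    have hdm : d ^ m ∈ BB h :=
      ⟨D.pow_mem hd m, k, by rw [← pow_mul, mul_comm]; exact hcard d hd⟩
    exact ⟨_, (BB h).zpow_mem hdm _, _, Z.zpow_mem hz _, hd1⟩
  rcases hN A (key A hA) with hAD | hAD
  · obtain ⟨u, hu, z, hz, e⟩ := main A hAD hA
    exact ⟨u, BB_le_UU h hu, z, hz, e⟩
  · have hAyN : A * y ∈ Subgroup.normalizer ((UU h : Subgroup H) : Set H) :=
      Subgroup.mul_mem _ hA (Subgroup.le_normalizer (y_mem_UU h))
    obtain ⟨u, hu, z, hz, e⟩ := main (A * y) hAD hAyN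
    refine ⟨u * y, ?_, z, hz, ?_⟩
    · right
      rw [mul_assoc, h.ysq, mul_one]
      exact hu
    · have hzc : z * y = y * z := (Subgroup.mem_center_iff.mp (hZ hz) y).symm
      calc A = (A * y) * y := by rw [mul_assoc, h.ysq, mul_one]
        _ = u * z * y := by rw [e]
        _ = u * y * z := by rw [mul_assoc, hzc, ← mul_assoc]

end Torus

end Cfsg.Agent.Lib.Helper2.SL3Fus
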