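import Cfsg.Agent.Lib.Lead.PSL3Inv
import Cfsg.Agent.Lib.Helper2.SL3Fus1

set_option autoImplicit false

/-! Two tori of `GL₂(F)` with their Weyl involutions: the diagonal one and the centralizer of
the matrix `i` with `i² = -1`. -/

namespace Cfsg.Agent.Lib.Helper2.SL3Fus

open Matrix Cfsg.Agent.Lib.Lead.PSL3Inv

variable {F : Type*} [Field F]

local notation "GL2" => GL (Fin 2) F

theorem gl2_ext {A B : GL2} (h00 : A.1 0 0 = B.1 0 0) (h01 : A.1 0 1 = B.1 0 1)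
    (h10 : A.1 1 0 = B.1 1 0) (h11 : A.1 1 1 = B.1 1 1) : A = B := by
  apply Units.ext
  ext i j
  fin_cases i <;> fin_cases j
  · exact h00
  · exact h01
  · exact h10
  · exact h11

theorem mul_val (A B : GL2) (i j : Fin 2) :
    (A * B).1 i j = A.1 i 0 * B.1 0 j + A.1 i 1 * B.1 1 j := by
  rw [Units.val_mul, Matrix.mul_apply, Fin.sum_univ_two]

theorem one_00 : (1 : GL2).1 0 0 = 1 := by simp
theorem one_01 : (1 : GL2).1 0 1 = 0 := by simp
theorem one_10 : (1 : GL2).1 1 0 = 0 := by simp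
theorem one_11 : (1 : GL2).1 1 1 = 1 := by simp

theorem det_ne (A : GL2) : A.1 0 0 * A.1 1 1 - A.1 0 1 * A.1 1 0 ≠ 0 := by
  rw [← Matrix.det_fin_two]
  exact (Matrix.isUnits_det_units A).ne_zero

/-- the invertible matrix with the given entries -/
def mk2 (a b c d : F) (h : a * d - b * c ≠ 0) : GL2 :=
  Matrix.GeneralLinearGroup.mkOfDetNeZero !![a, b; c, d]
    (by rw [Matrix.det_fin_two_of]; exact h)

theorem mk2_00 (a b c d : F) (h : a * d - b * c ≠ 0) : (mk2 a b c d h).1 0 0 = a := rfl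
theorem mk2_01 (a b c d : F) (h : a * d - b * c ≠ 0) : (mk2 a b c d h).1 0 1 = b := rfl
theorem mk2_10 (a b c d : F) (h : a * d - b * c ≠ 0) : (mk2 a b c d h).1 1 0 = c := rfl
theorem mk2_11 (a b c d : F) (h : a * d - b * c ≠ 0) : (mk2 a b c d h).1 1 1 = d := rfl

theorem sc_00 (c : Fˣ) : (sc c : GL2).1 0 0 = c := by rw [sc_val, scalar2]; rfl
theorem sc_01 (c : Fˣ) : (sc c : GL2).1 0 1 = 0 := by rw [sc_val, scalar2]; rfl
theorem sc_10 (c : Fˣ) : (sc c : GL2).1 1 0 = 0 := by rw [sc_val, scalar2]; rfl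
theorem sc_11 (c : Fˣ) : (sc c : GL2).1 1 1 = c := by rw [sc_val, scalar2]; rfl

theorem sc_center : (sc : Fˣ →* GL2).range ≤ Subgroup.center GL2 := by
  rintro _ ⟨c, rfl⟩
  rw [Subgroup.mem_center_iff]
  intro g
  apply Units.ext
  show (g : Matrix (Fin 2) (Fin 2) F) * Matrix.scalar (Fin 2) (c : F)
    = Matrix.scalar (Fin 2) (c : F) * (g : Matrix (Fin 2) (Fin 2) F)
  exact ((Matrix.scalar_commute (c : F) (fun r' => Commute.all _ _)
    (g : Matrix (Fin 2) (Fin 2) F)).eq).symm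

theorem sc_comm (c : Fˣ) (g : GL2) : sc c * g = g * sc c :=
  (Subgroup.mem_center_iff.mp (sc_center ⟨c, rfl⟩) g).symm

theorem mem_sc_range {A : GL2} (h01 : A.1 0 1 = 0) (h10 : A.1 1 0 = 0)
    (h : A.1 0 0 = A.1 1 1) : A ∈ (sc : Fˣ →* GL2).range := by
  have hd := det_ne A
  rw [h01, zero_mul, sub_zero] at hd
  have h0 : A.1 0 0 ≠ 0 := left_ne_zero_of_mul hd
  refine ⟨Units.mk0 _ h0, ?_⟩
  apply gl2_ext
  · rw [sc_00]; rfl
  · rw [sc_01, h01]
  · rw [sc_10, h10]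
  · rw [sc_11, ← h]; rfl

/-! ### the diagonal torus -/

/-- diagonal matrices -/
def dg (a b : Fˣ) : GL2 := mk2 a 0 0 b (by simp)

theorem dg_00 (a b : Fˣ) : (dg a b : GL2).1 0 0 = a := rfl
theorem dg_01 (a b : Fˣ) : (dg a b : GL2).1 0 1 = 0 := rfl
theorem dg_10 (a b : Fˣ) : (dg a b : GL2).1 1 0 = 0 := rfl
theorem dg_11 (a b : Fˣ) : (dg a b : GL2).1 1 1 = b := rfl

theorem dg_mul (a b c d : Fˣ) : (dg a b : GL2) * dg c d = dg (a * c) (b * d) := by
  apply gl2_ext <;> simp [mul_val, dg_00, dg_01, dg_10, dg_11]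

theorem dg_one : (dg 1 1 : GL2) = 1 := by
  apply gl2_ext <;> simp [dg_00, dg_01, dg_10, dg_11]

theorem dg_inv (a b : Fˣ) : (dg a b : GL2)⁻¹ = dg a⁻¹ b⁻¹ := by
  apply inv_eq_of_mul_eq_one_right
  rw [dg_mul, mul_inv_cancel, mul_inv_cancel, dg_one]

theorem dg_pow (a b : Fˣ) (n : ℕ) : (dg a b : GL2) ^ n = dg (a ^ n) (b ^ n) := by
  induction n with
  | zero => rw [pow_zero, pow_zero, pow_zero, dg_one]
  | succ n ih => rw [pow_succ, ih, dg_mul, ← pow_succ, ← pow_succ]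

theorem dg_inj {a b c d : Fˣ} (h : (dg a b : GL2) = dg c d) : a = c ∧ b = d := by
  constructor
  · apply Units.ext
    have h1 := congrArg (fun A : GL2 => A.1 0 0) h
    exact h1
  · apply Units.ext
    have h1 := congrArg (fun A : GL2 => A.1 1 1) h
    exact h1

/-- the diagonal torus -/
def D1 : Subgroup GL2 where
  carrier := {A | ∃ a b : Fˣ, A = dg a b}
  one_mem' := ⟨1, 1, dg_one.symm⟩
  mul_mem' := by
    rintro _ _ ⟨a, b, rfl⟩ ⟨c, d, rfl⟩
    exact ⟨a * c, b * d, dg_mul a b c d⟩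
  inv_mem' := by
    rintro _ ⟨a, b, rfl⟩
    exact ⟨a⁻¹, b⁻¹, dg_inv a b⟩

theorem mem_D1 {A : GL2} : A ∈ (D1 : Subgroup GL2) ↔ ∃ a b : Fˣ, A = dg a b := Iff.rfl

theorem mem_D1_of_entries {A : GL2} (h01 : A.1 0 1 = 0) (h10 : A.1 1 0 = 0) :
    A ∈ (D1 : Subgroup GL2) := by
  have hd := det_ne A
  rw [h01, zero_mul, sub_zero] at hd
  have h0 : A.1 0 0 ≠ 0 := left_ne_zero_of_mul hd
  have h1 : A.1 1 1 ≠ 0 := right_ne_zero_of_mul hd
  refine ⟨Units.mk0 _ h0, Units.mk0 _ h1, ?_⟩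
  apply gl2_ext
  · rfl
  · rw [h01]; rfl
  · rw [h10]; rfl
  · rfl

/-- the swap -/
def w2 : GL2 := mk2 0 1 1 0 (by simp)

theorem w2_00 : (w2 : GL2).1 0 0 = 0 := rfl
theorem w2_01 : (w2 : GL2).1 0 1 = 1 := rfl
theorem w2_10 : (w2 : GL2).1 1 0 = 1 := rfl
theorem w2_11 : (w2 : GL2).1 1 1 = 0 := rfl

theorem w2_sq : (w2 : GL2) * w2 = 1 := by
  apply gl2_ext <;> simp [mul_val, w2_00, w2_01, w2_10, w2_11]

theorem w2_dg (a b : Fˣ) : (w2 : GL2) * dg a b * w2 = dg b a := by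
  apply gl2_ext <;>
    simp [mul_val, w2_00, w2_01, w2_10, w2_11, dg_00, dg_01, dg_10, dg_11]

theorem td1 : TD (D1 : Subgroup GL2) w2 where
  comm := by
    rintro _ ⟨a, b, rfl⟩ _ ⟨c, d, rfl⟩
    rw [dg_mul, dg_mul, mul_comm a c, mul_comm b d]
  ysq := w2_sq
  ynot := by
    rintro ⟨a, b, hab⟩
    have h1 := congrArg (fun A : GL2 => A.1 0 0) hab
    have h2 : (0 : F) = (a : F) := h1
    exact a.ne_zero h2.symm
  ynorm := by
    rintro _ ⟨a, b, rfl⟩
    exact ⟨b, a, w2_dg a b⟩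

theorem sc_mem_D1 (c : Fˣ) : (sc c : GL2) ∈ (D1 : Subgroup GL2) := by
  refine ⟨c, c, ?_⟩
  apply gl2_ext
  · rw [sc_00]; rfl
  · rw [sc_01]; rfl
  · rw [sc_10]; rfl
  · rw [sc_11]; rfl

theorem hfix1 : ∀ d ∈ (D1 : Subgroup GL2), w2 * d * w2 = d → d ∈ (sc : Fˣ →* GL2).range := by
  rintro _ ⟨a, b, rfl⟩ h
  rw [w2_dg] at h
  obtain ⟨h1, -⟩ := dg_inj h
  subst h1
  exact mem_sc_range rfl rfl rfl

theorem dg_mem_BB {a b : Fˣ} (ha : ∃ k : ℕ, a ^ 2 ^ k = 1) (hb : ∃ k : ℕ, b ^ 2 ^ k = 1) :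
    (dg a b : GL2) ∈ BB (td1 (F := F)) := by
  obtain ⟨j, hj⟩ := ha
  obtain ⟨k, hk⟩ := hb
  refine ⟨⟨a, b, rfl⟩, j + k, ?_⟩
  rw [dg_pow, pow_add, pow_mul, hj, one_pow, mul_comm (2 ^ j), pow_mul, hk, one_pow, dg_one]

theorem of_mem_BB1 {A : GL2} (hA : A ∈ BB (td1 (F := F))) :
    ∃ a b : Fˣ, A = dg a b ∧ (∃ k : ℕ, a ^ 2 ^ k = 1) ∧ (∃ k : ℕ, b ^ 2 ^ k = 1) := by
  obtain ⟨⟨a, b, rfl⟩, k, hk⟩ := hA
  rw [dg_pow, ← dg_one] at hk
  obtain ⟨h1, h2⟩ := dg_inj hk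
  exact ⟨a, b, rfl, ⟨k, h1⟩, ⟨k, h2⟩⟩

theorem hN1 (h2 : (2 : F) ≠ 0) : ∀ A : GL2,
    (∀ b ∈ BB (td1 (F := F)), A * b * A⁻¹ ∈ BB (td1 (F := F))) →
      A ∈ (D1 : Subgroup GL2) ∨ A * w2 ∈ (D1 : Subgroup GL2) := by
  intro A hA
  have hb₀ : (dg (-1) 1 : GL2) ∈ BB (td1 (F := F)) :=
    dg_mem_BB ⟨1, by simp⟩ ⟨0, by simp⟩
  obtain ⟨⟨c, e, hce⟩, -⟩ := hA _ hb₀
  have heq : A * dg (-1) 1 = dg c e * A := mul_inv_eq_iff_eq_mul.mp hce
  have e00 := congrArg (fun X : GL2 => X.1 0 0) heq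
  have e01 := congrArg (fun X : GL2 => X.1 0 1) heq
  have e10 := congrArg (fun X : GL2 => X.1 1 0) heq
  have e11 := congrArg (fun X : GL2 => X.1 1 1) heq
  simp only [mul_val, dg_00, dg_01, dg_10, dg_11, Units.val_neg, Units.val_one, mul_zero,
    zero_mul, add_zero, zero_add, mul_one, mul_neg] at e00 e01 e10 e11
  have hd := det_ne A
  have zero_of : ∀ a : F, a = -a → a = 0 := by
    intro a ha
    have h3 : (2 : F) * a = 0 := by linear_combination ha
    rcases mul_eq_zero.mp h3 with h | h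
    · exact absurd h h2
    · exact h
  by_cases hp : A.1 0 0 = 0
  · right
    rw [hp, zero_mul, zero_sub, neg_ne_zero] at hd
    have hq : A.1 0 1 ≠ 0 := left_ne_zero_of_mul hd
    have hr : A.1 1 0 ≠ 0 := right_ne_zero_of_mul hd
    have he : (e : F) = -1 := by
      apply mul_right_cancel₀ hr
      linear_combination -e10
    have hs : A.1 1 1 = 0 := by
      apply zero_of
      rw [he] at e11
      linear_combination e11
    apply mem_D1_of_entries
    · rw [mul_val, w2_01, w2_11, hp]; ring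
    · rw [mul_val, w2_00, w2_10, hs]; ring
  · left
    have hc : (c : F) = -1 := by
      apply mul_right_cancel₀ hp
      linear_combination -e00
    have hq : A.1 0 1 = 0 := by
      apply zero_of
      rw [hc] at e01
      linear_combination e01
    rw [hq, zero_mul, sub_zero] at hd
    have hs : A.1 1 1 ≠ 0 := right_ne_zero_of_mul hd
    have he : (e : F) = 1 := by
      apply mul_right_cancel₀ hs
      linear_combination -e11
    have hr : A.1 1 0 = 0 := by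
      apply zero_of
      rw [he] at e10
      linear_combination -e10
    exact mem_D1_of_entries hq hr

/-- the element `e₀` for the diagonal torus, given a square root of `-1` -/
theorem he1 (h2 : (2 : F) ≠ 0) {ι : F} (hι : ι * ι = -1) :
    ∃ e₀ : GL2, e₀ ∈ BB (td1 (F := F)) ∧ w2 * (e₀ * e₀) * w2 ≠ e₀ * e₀ := by
  have hι0 : ι ≠ 0 := by
    rintro rfl
    rw [mul_zero] at hι
    exact one_ne_zero (neg_eq_zero.mp hι.symm)
  have h4 : (Units.mk0 ι hι0) ^ 2 ^ 2 = 1 := by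
    apply Units.ext
    rw [Units.val_pow_eq_pow_val, Units.val_mk0, Units.val_one]
    have : ι ^ 2 ^ 2 = (ι * ι) * (ι * ι) := by ring
    rw [this, hι]
    ring
  refine ⟨dg (Units.mk0 ι hι0) 1, dg_mem_BB ⟨2, h4⟩ ⟨0, by simp⟩, ?_⟩
  rw [dg_mul, w2_dg]
  intro h
  obtain ⟨h1, -⟩ := dg_inj h
  have h3 := congrArg Units.val h1
  simp only [Units.val_mul, Units.val_mk0, Units.val_one, mul_one] at h3
  rw [hι] at h3
  apply h2
  linear_combination h3

/-! ### the torus centralizing `i` -/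

/-- the matrix `i` with `i² = -1` -/
def iG : GL2 := mk2 0 (-1) 1 0 (by simp)

theorem iG_00 : (iG : GL2).1 0 0 = 0 := rfl
theorem iG_01 : (iG : GL2).1 0 1 = -1 := rfl
theorem iG_10 : (iG : GL2).1 1 0 = 1 := rfl
theorem iG_11 : (iG : GL2).1 1 1 = 0 := rfl

/-- the reflection conjugating `i` to `-i` -/
def yG : GL2 := mk2 1 0 0 (-1) (by simp)

theorem yG_00 : (yG : GL2).1 0 0 = 1 := rfl
theorem yG_01 : (yG : GL2).1 0 1 = 0 := rfl
theorem yG_10 : (yG : GL2).1 1 0 = 0 := rfl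
theorem yG_11 : (yG : GL2).1 1 1 = -1 := rfl

/-- the torus `C(i)` -/
def D2 : Subgroup GL2 := Subgroup.centralizer {iG}

theorem mem_D2 {A : GL2} :
    A ∈ (D2 : Subgroup GL2) ↔ A.1 0 0 = A.1 1 1 ∧ A.1 0 1 = -A.1 1 0 := by
  unfold D2
  rw [Subgroup.mem_centralizer_singleton_iff]
  constructor
  · intro h
    have e00 := congrArg (fun X : GL2 => X.1 0 0) h
    have e01 := congrArg (fun X : GL2 => X.1 0 1) h
    simp only [mul_val, iG_00, iG_01, iG_10, iG_11, mul_zero, zero_mul, add_zero, zero_add,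
      mul_one, mul_neg, neg_mul, one_mul] at e00 e01
    exact ⟨neg_injective e01, e00⟩
  · rintro ⟨h1, h2⟩
    apply gl2_ext <;>
      simp only [mul_val, iG_00, iG_01, iG_10, iG_11, mul_zero, zero_mul, add_zero, zero_add,
        mul_one, mul_neg, neg_mul, one_mul]
    · exact h2
    · rw [h1]
    · exact h1.symm
    · rw [h2]

theorem yAy_00 (A : GL2) : (yG * A * yG).1 0 0 = A.1 0 0 := by
  simp [mul_val, yG_00, yG_01, yG_10, yG_11]
theorem yAy_01 (A : GL2) : (yG * A * yG).1 0 1 = -A.1 0 1 := by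
  simp [mul_val, yG_00, yG_01, yG_10, yG_11]
theorem yAy_10 (A : GL2) : (yG * A * yG).1 1 0 = -A.1 1 0 := by
  simp [mul_val, yG_00, yG_01, yG_10, yG_11]
theorem yAy_11 (A : GL2) : (yG * A * yG).1 1 1 = A.1 1 1 := by
  simp [mul_val, yG_00, yG_01, yG_10, yG_11]

theorem yG_sq : (yG : GL2) * yG = 1 := by
  apply gl2_ext <;> simp [mul_val, yG_00, yG_01, yG_10, yG_11]

theorem td2 (h2 : (2 : F) ≠ 0) : TD (D2 : Subgroup GL2) yG where
  comm := by
    intro A hA B hB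
    obtain ⟨a1, a2⟩ := mem_D2.mp hA
    obtain ⟨b1, b2⟩ := mem_D2.mp hB
    apply gl2_ext <;> simp only [mul_val, a1, a2, b1, b2] <;> ring
  ysq := yG_sq
  ynot := by
    intro h
    obtain ⟨h1, -⟩ := mem_D2.mp h
    rw [yG_00, yG_11] at h1
    apply h2
    linear_combination h1
  ynorm := by
    intro A hA
    obtain ⟨a1, a2⟩ := mem_D2.mp hA
    rw [mem_D2, yAy_00, yAy_11, yAy_01, yAy_10]
    exact ⟨a1, by rw [a2]⟩

theorem sc_mem_D2 (c : Fˣ) : (sc c : GL2) ∈ (D2 : Subgroup GL2) := by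
  rw [mem_D2, sc_00, sc_11, sc_01, sc_10, neg_zero]
  exact ⟨rfl, rfl⟩

theorem hfix2 (h2 : (2 : F) ≠ 0) :
    ∀ d ∈ (D2 : Subgroup GL2), yG * d * yG = d → d ∈ (sc : Fˣ →* GL2).range := by
  intro A hA h
  obtain ⟨a1, a2⟩ := mem_D2.mp hA
  have e01 := congrArg (fun X : GL2 => X.1 0 1) h
  simp only [yAy_01] at e01
  have hq : A.1 0 1 = 0 := by
    have h3 : (2 : F) * A.1 0 1 = 0 := by linear_combination -e01
    rcases mul_eq_zero.mp h3 with h | h
    · exact absurd h h2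
    · exact h
  have hr : A.1 1 0 = 0 := by
    rw [hq] at a2
    exact neg_eq_zero.mp a2.symm
  exact mem_sc_range hq hr a1

theorem iG_sq : (iG : GL2) * iG = sc (-1) := by
  apply gl2_ext <;>
    simp [mul_val, iG_00, iG_01, iG_10, iG_11, sc_00, sc_01, sc_10, sc_11]

theorem sc_neg_sq : (sc (-1) : GL2) * sc (-1) = 1 := by
  rw [← map_mul, neg_mul_neg, one_mul, map_one]

theorem iG_mem_D2 : (iG : GL2) ∈ (D2 : Subgroup GL2) := by
  rw [mem_D2, iG_00, iG_11, iG_01, iG_10]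
  exact ⟨rfl, rfl⟩

theorem iG_pow4 : (iG : GL2) ^ 2 ^ 2 = 1 := by
  have e : (iG : GL2) ^ 2 ^ 2 = (iG * iG) * (iG * iG) := by
    rw [show (2 : ℕ) ^ 2 = 2 + 2 from rfl, pow_add, pow_two]
  rw [e, iG_sq, sc_neg_sq]

theorem iG_mem_BB (h2 : (2 : F) ≠ 0) : (iG : GL2) ∈ BB (td2 h2) :=
  ⟨iG_mem_D2, 2, iG_pow4⟩

theorem hN2 (h2 : (2 : F) ≠ 0) (hns : ¬ IsSquare (-1 : F)) : ∀ A : GL2,
    (∀ b ∈ BB (td2 h2), A * b * A⁻¹ ∈ BB (td2 h2)) →
      A ∈ (D2 : Subgroup GL2) ∨ A * yG ∈ (D2 : Subgroup GL2) := by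
  intro A hA
  obtain ⟨e, hedef⟩ : ∃ e : GL2, e = A * iG * A⁻¹ := ⟨_, rfl⟩
  have heBB : e ∈ BB (td2 h2) := by rw [hedef]; exact hA _ (iG_mem_BB h2)
  obtain ⟨a1, a2⟩ := mem_D2.mp heBB.1
  have hee : e * e = sc (-1) := by
    have e1 : e * e = A * (iG * iG) * A⁻¹ := by rw [hedef]; group
    rw [e1, iG_sq, ← sc_comm, mul_inv_cancel_right]
  have heA : e * A = A * iG := by rw [hedef]; group
  have s00 := congrArg (fun X : GL2 => X.1 0 0) hee
  have s10 := congrArg (fun X : GL2 => X.1 1 0) hee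
  simp only [mul_val, sc_00, sc_10, Units.val_neg, Units.val_one] at s00 s10
  rw [a2] at s00
  rw [a1] at s00 s10
  -- s00 : e11 * e11 + -e10 * e10 = -1 ;  s10 : e10 * e11 + e11 * e10 = 0
  have hab : e.1 1 0 * e.1 1 1 = 0 := by
    have h3 : (2 : F) * (e.1 1 0 * e.1 1 1) = 0 := by linear_combination s10
    rcases mul_eq_zero.mp h3 with h | h
    · exact absurd h h2
    · exact h
  have ha0 : e.1 1 1 = 0 := by
    by_contra hne
    have hb0 : e.1 1 0 = 0 := by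
      rcases mul_eq_zero.mp hab with h | h
      · exact h
      · exact absurd h hne
    apply hns
    refine ⟨e.1 1 1, ?_⟩
    rw [hb0] at s00
    linear_combination -s00
  rw [ha0] at s00
  have hb1 : (e.1 1 0 - 1) * (e.1 1 0 + 1) = 0 := by linear_combination -s00
  have f00 := congrArg (fun X : GL2 => X.1 0 0) heA
  have f01 := congrArg (fun X : GL2 => X.1 0 1) heA
  have f10 := congrArg (fun X : GL2 => X.1 1 0) heA
  have f11 := congrArg (fun X : GL2 => X.1 1 1) heA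
  simp only [mul_val, iG_00, iG_01, iG_10, iG_11, mul_zero, zero_mul, add_zero, zero_add,
    mul_one, mul_neg, neg_mul, one_mul] at f00 f01 f10 f11
  rw [a1, ha0, a2, zero_mul, zero_add] at f00 f01
  rw [ha0, zero_mul, add_zero] at f10 f11
  rcases mul_eq_zero.mp hb1 with hb | hb
  · left
    have hb' : e.1 1 0 = 1 := by linear_combination hb
    rw [hb'] at f00 f01 f10 f11
    rw [mem_D2]
    constructor
    · linear_combination f10
    · linear_combination -f00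
  · right
    have hb' : e.1 1 0 = -1 := by linear_combination hb
    rw [hb'] at f00 f01 f10 f11
    rw [mem_D2]
    simp only [mul_val, yG_00, yG_01, yG_10, yG_11, mul_zero, zero_mul, add_zero, zero_add,
      mul_one, mul_neg, neg_mul, one_mul]
    constructor
    · linear_combination -f10
    · linear_combination f00

/-- the element `e₀` with `e₀² = i` -/
theorem he2 [Fintype F] (h2 : (2 : F) ≠ 0) (hq : Fintype.card F % 4 = 3) :
    ∃ e₀ : GL2, e₀ ∈ BB (td2 h2) ∧ yG * (e₀ * e₀) * yG ≠ e₀ * e₀ := by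
  have hex : ∃ a b : F, 2 * (a * b) = 1 ∧ a * a = b * b := by
    have h8 : Fintype.card F % 8 = 3 ∨ Fintype.card F % 8 = 7 := by omega
    rcases h8 with h8 | h8
    · have hsq : IsSquare (-2 : F) := by
        rw [FiniteField.isSquare_neg_two_iff]
        omega
      obtain ⟨c, hc⟩ := hsq
      have hc0 : c ≠ 0 := by
        rintro rfl
        rw [mul_zero] at hc
        exact h2 (neg_eq_zero.mp hc)
      refine ⟨c⁻¹, -c⁻¹, ?_, by ring⟩
      have h3 : c * c * (c⁻¹ * c⁻¹) = 1 := by field_simp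
      rw [← hc] at h3
      linear_combination h3
    · have hsq : IsSquare (2 : F) := by
        rw [FiniteField.isSquare_two_iff]
        omega
      obtain ⟨c, hc⟩ := hsq
      have hc0 : c ≠ 0 := by
        rintro rfl
        rw [mul_zero] at hc
        exact h2 hc
      refine ⟨c⁻¹, c⁻¹, ?_, rfl⟩
      have h3 : c * c * (c⁻¹ * c⁻¹) = 1 := by field_simp
      rw [← hc] at h3
      linear_combination h3
  obtain ⟨a, b, hab, haa⟩ := hex
  have hdet : a * a - (-b) * b ≠ 0 := by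
    intro h
    have h3 : a * a = 0 := by
      have : (2 : F) * (a * a) = 0 := by linear_combination h + haa
      rcases mul_eq_zero.mp this with h' | h'
      · exact absurd h' h2
      · exact h'
    have ha0 : a = 0 := mul_self_eq_zero.mp h3
    rw [ha0, zero_mul, mul_zero] at hab
    exact zero_ne_one hab
  obtain ⟨e₀, he₀def⟩ : ∃ e₀ : GL2, e₀ = mk2 a (-b) b a hdet := ⟨_, rfl⟩
  have h00 : e₀.1 0 0 = a := by rw [he₀def]; rfl
  have h01 : e₀.1 0 1 = -b := by rw [he₀def]; rfl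
  have h10 : e₀.1 1 0 = b := by rw [he₀def]; rfl
  have h11 : e₀.1 1 1 = a := by rw [he₀def]; rfl
  have hsq : e₀ * e₀ = iG := by
    apply gl2_ext <;> simp only [mul_val, h00, h01, h10, h11, iG_00, iG_01, iG_10, iG_11]
    · linear_combination haa
    · linear_combination -hab
    · linear_combination hab
    · linear_combination haa
  have hD : e₀ ∈ (D2 : Subgroup GL2) := by
    rw [mem_D2, h00, h11, h01, h10]
    exact ⟨rfl, rfl⟩
  have h8 : e₀ ^ 2 ^ 3 = 1 := by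
    have e : e₀ ^ 2 ^ 3 = ((e₀ * e₀) * (e₀ * e₀)) * ((e₀ * e₀) * (e₀ * e₀)) := by
      rw [show (2 : ℕ) ^ 3 = (2 + 2) + (2 + 2) from rfl, pow_add, pow_add, pow_two]
    rw [e, hsq, iG_sq, sc_neg_sq]
  refine ⟨e₀, ⟨hD, 3, h8⟩, ?_⟩
  rw [hsq]
  intro h
  have e01 := congrArg (fun X : GL2 => X.1 0 1) h
  simp only [yAy_01, iG_01, neg_neg] at e01
  apply h2
  linear_combination e01

/-- `e * (y e y)` is the scalar `det e` for `e` in the torus -/
theorem mul_yAy {A : GL2} (hA : A ∈ (D2 : Subgroup GL2)) (c : Fˣ)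
    (hc : A.1 1 1 * A.1 1 1 + A.1 1 0 * A.1 1 0 = c) : A * (yG * A * yG) = sc c := by
  obtain ⟨a1, a2⟩ := mem_D2.mp hA
  apply gl2_ext <;>
    simp only [mul_val A, yAy_00, yAy_01, yAy_10, yAy_11, sc_00, sc_01, sc_10, sc_11, a1, a2]
  · linear_combination hc
  · ring
  · ring
  · linear_combination hc

/-- the determinant of a `2`-element of the torus is `±1` when `q ≡ 3 mod 4` -/
theorem det_BB2 [Fintype F] (h2 : (2 : F) ≠ 0) (hq : Fintype.card F % 4 = 3) {A : GL2}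
    (hA : A ∈ BB (td2 h2)) :
    A.1 1 1 * A.1 1 1 + A.1 1 0 * A.1 1 0 = 1 ∨
      A.1 1 1 * A.1 1 1 + A.1 1 0 * A.1 1 0 = -1 := by
  obtain ⟨hAD, k, hk⟩ := hA
  obtain ⟨a1, a2⟩ := mem_D2.mp hAD
  have hdet : A.1.det = A.1 1 1 * A.1 1 1 + A.1 1 0 * A.1 1 0 := by
    rw [Matrix.det_fin_two, a1, a2]
    ring
  rw [← hdet]
  obtain ⟨δ, hδdef⟩ : ∃ δ : F, δ = A.1.det := ⟨_, rfl⟩
  rw [← hδdef]
  have hδ0 : δ ≠ 0 := by rw [hδdef]; exact (Matrix.isUnits_det_units A).ne_zero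
  have hδk : δ ^ 2 ^ k = 1 := by
    have h3 := congrArg (fun X : GL2 => X.1.det) hk
    simp only [Units.val_pow_eq_pow_val, Matrix.det_pow, Units.val_one, Matrix.det_one] at h3
    rw [hδdef]
    exact h3
  have h3 : orderOf δ ∣ 2 ^ k := orderOf_dvd_of_pow_eq_one hδk
  have h4 : orderOf δ ∣ Fintype.card F - 1 :=
    orderOf_dvd_of_pow_eq_one (FiniteField.pow_card_sub_one_eq_one δ hδ0)
  obtain ⟨i, -, hi⟩ := (Nat.dvd_prime_pow Nat.prime_two).1 h3
  have hi1 : i ≤ 1 := by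
    by_contra hcon
    have h5 : 2 ^ 2 ∣ 2 ^ i := pow_dvd_pow 2 (by omega)
    rw [hi] at h4
    have h6 : 2 ^ 2 ∣ Fintype.card F - 1 := h5.trans h4
    omega
  have h6 : δ ^ 2 = 1 := by
    apply orderOf_dvd_iff_pow_eq_one.mp
    rw [hi]
    have := pow_dvd_pow 2 hi1
    rwa [pow_one] at this
  have h7 : (δ - 1) * (δ + 1) = 0 := by linear_combination h6
  rcases mul_eq_zero.mp h7 with h | h
  · left; linear_combination h
  · right; linear_combination h

/-- an element with square `-1` is conjugate to `i`, if `-1` is not a square -/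
theorem exists_conj_iG (hns : ¬ IsSquare (-1 : F)) {g : GL2} (hg : g * g = sc (-1)) :
    ∃ A : GL2, A * iG = g * A := by
  have s00 := congrArg (fun X : GL2 => X.1 0 0) hg
  have s10 := congrArg (fun X : GL2 => X.1 1 0) hg
  simp only [mul_val, sc_00, sc_10, Units.val_neg, Units.val_one] at s00 s10
  have h10 : g.1 1 0 ≠ 0 := by
    intro h
    apply hns
    refine ⟨g.1 0 0, ?_⟩
    rw [h, mul_zero, add_zero] at s00
    exact s00.symm
  have hdet : (1 : F) * g.1 1 0 - g.1 0 0 * 0 ≠ 0 := by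
    rw [one_mul, mul_zero, sub_zero]
    exact h10
  refine ⟨mk2 1 (g.1 0 0) 0 (g.1 1 0) hdet, ?_⟩
  apply gl2_ext <;>
    simp only [mul_val, mk2_00, mk2_01, mk2_10, mk2_11, iG_00, iG_01, iG_10, iG_11, mul_zero,
      zero_mul, add_zero, zero_add, mul_one, mul_neg, neg_mul, one_mul]
  · linear_combination -s00
  · linear_combination -s10

end Cfsg.Agent.Lib.Helper2.SL3Fus
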