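import Cfsg.Agent.Lib.Helper2.SL3Fus2

set_option autoImplicit false

/-! The `2`-fusion system of `PSL₃(F)`, `F` a finite field of odd order, is simple. -/

namespace Cfsg.Agent.Lib.Helper2.SL3Fus

open Matrix Cfsg Cfsg.Agent.Lib.Lead.PSL3Inv Cfsg.Agent.Lib.Helper2.SimpCrit2
open scoped Pointwise

variable {F : Type*} [Field F]

local notation "GL2" => GL (Fin 2) F
local notation "SL3" => Matrix.SpecialLinearGroup (Fin 3) F
local notation "PSL3" => Matrix.ProjectiveSpecialLinearGroup (Fin 3) F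

theorem psi_inj : Function.Injective (psi : GL2 →* SL3) := by
  intro A B hAB
  have h := congrArg Subtype.val hAB
  rw [psi_val, psi_val] at h
  apply gl2_ext
  · exact congrFun (congrFun h 1) 1
  · exact congrFun (congrFun h 1) 2
  · exact congrFun (congrFun h 2) 1
  · exact congrFun (congrFun h 2) 2

theorem psi_neg : (psi (sc (-1)) : SL3) = Ds := by
  apply Subtype.ext
  rw [psi_val, sc_val, scalar2]
  show iotaM !![((-1 : Fˣ) : F), 0; 0, ((-1 : Fˣ) : F)] = Dm
  ext i j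
  fin_cases i <;> fin_cases j <;> simp [iotaM, Dm, Matrix.det_fin_two_of]

theorem Ds_ne_one (h2 : (2 : F) ≠ 0) : (Ds : SL3) ≠ 1 := by
  intro h
  have h1 : (Dm : Matrix (Fin 3) (Fin 3) F) = 1 := congrArg Subtype.val h
  have h3 := congrFun (congrFun h1 1) 1
  have h4 : (-1 : F) = 1 := by simpa [Dm] using h3
  apply h2
  linear_combination -h4

theorem psi_dg_val (a b : Fˣ) : ((psi (dg a b) : SL3)).val =
    !![((a : F) * (b : F))⁻¹, 0, 0; 0, (a : F), 0; 0, 0, (b : F)] := by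
  rw [psi_val]
  ext i j
  fin_cases i <;> fin_cases j <;>
    simp [iotaM, Matrix.det_fin_two, dg_00, dg_01, dg_10, dg_11]

/-- the signed permutation matrix swapping the coordinates `0` and `2` -/
def P02 : SL3 := ⟨!![0, 0, 1; 0, 1, 0; -1, 0, 0], by simp [Matrix.det_fin_three]⟩

/-- the signed permutation matrix swapping the coordinates `0` and `1` -/
def P01 : SL3 := ⟨!![0, 1, 0; -1, 0, 0; 0, 0, 1], by simp [Matrix.det_fin_three]⟩

theorem P02_conj (α β : Fˣ) (hαβ : α * β = 1) :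
    (P02 : SL3) * psi (dg α β) = psi (dg α 1) * P02 := by
  apply Subtype.ext
  show (!![0, 0, 1; 0, 1, 0; -1, 0, 0] : Matrix (Fin 3) (Fin 3) F) * (psi (dg α β) : SL3).val
    = (psi (dg α 1) : SL3).val * !![0, 0, 1; 0, 1, 0; -1, 0, 0]
  rw [psi_dg_val, psi_dg_val]
  have hab : (α : F) * β = 1 := by rw [← Units.val_mul, hαβ, Units.val_one]
  have hβ : (β : F) = (α : F)⁻¹ := eq_inv_of_mul_eq_one_right hab
  rw [hab, inv_one, Units.val_one, mul_one, hβ]
  ext i j
  fin_cases i <;> fin_cases j <;> simp [Matrix.mul_apply, Fin.sum_univ_three]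

theorem P01_conj (α β : Fˣ) (hαβ : α * β = 1) :
    (P01 : SL3) * psi (dg α β) = psi (dg 1 β) * P01 := by
  apply Subtype.ext
  show (!![0, 1, 0; -1, 0, 0; 0, 0, 1] : Matrix (Fin 3) (Fin 3) F) * (psi (dg α β) : SL3).val
    = (psi (dg 1 β) : SL3).val * !![0, 1, 0; -1, 0, 0; 0, 0, 1]
  rw [psi_dg_val, psi_dg_val]
  have hab : (α : F) * β = 1 := by rw [← Units.val_mul, hαβ, Units.val_one]
  have hα : (α : F) = (β : F)⁻¹ := eq_inv_of_mul_eq_one_left hab
  rw [hab, inv_one, Units.val_one, one_mul, hα]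
  ext i j
  fin_cases i <;> fin_cases j <;> simp [Matrix.mul_apply, Fin.sum_univ_three]

section Main

variable [Fintype F]

/-- the generic theorem: a torus model gives simplicity of the `2`-fusion system -/
theorem sl3_simple_of_model (h2 : (2 : F) ≠ 0) {D : Subgroup GL2} {y : GL2} (h : TD D y)
    (hZD : ∀ c : Fˣ, (sc c : GL2) ∈ D)
    (hfix : ∀ d ∈ D, y * d * y = d → d ∈ (sc : Fˣ →* GL2).range)
    (hN : ∀ A : GL2, (∀ b ∈ BB h, A * b * A⁻¹ ∈ BB h) → A ∈ D ∨ A * y ∈ D)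
    {e₀ : GL2} (he₀ : e₀ ∈ BB h) (hne : y * (e₀ * e₀) * y ≠ e₀ * e₀)
    (hgen : ∀ T : Subgroup SL3,
      (∀ s ∈ (UU h).map (psi : GL2 →* SL3), s * s = 1 → s ∈ T) →
      (∀ t ∈ T, ∀ x : SL3, x * t * x⁻¹ ∈ (UU h).map (psi : GL2 →* SL3) → x * t * x⁻¹ ∈ T) →
      (UU h).map (psi : GL2 →* SL3) ≤ T)
    (S : Sylow 2 PSL3) : (groupFusionSystem (S : Subgroup PSL3)).IsSimple 2 := by
  classical
  obtain ⟨U, hUdef⟩ : ∃ U : Subgroup SL3, U = (UU h).map (psi : GL2 →* SL3) := ⟨_, rfl⟩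
  rw [← hUdef] at hgen
  have hUp : IsPGroup 2 U := by rw [hUdef]; exact (UU_isPGroup h).map psi
  have hneg : (sc (-1) : GL2) ∈ BB h := ⟨hZD _, 1, by
    rw [pow_one, pow_two]; exact sc_neg_sq⟩
  have hDsU : (Ds : SL3) ∈ U := by
    rw [hUdef, ← psi_neg]
    exact Subgroup.mem_map_of_mem _ (BB_le_UU h hneg)
  have hU1 : U ≠ ⊥ := by
    intro hb
    rw [hb, Subgroup.mem_bot] at hDsU
    exact Ds_ne_one h2 hDsU
  have he₁ : e₀ * e₀ ∈ BB h := (BB h).mul_mem he₀ he₀
  -- central involutions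
  have hcent : ∀ s ∈ U, s * s = 1 → s ≠ 1 → (∀ u ∈ U, u * s = s * u) → s = Ds := by
    intro s hs hs2 hs1 hsc
    rw [hUdef] at hs
    obtain ⟨v, hv, rfl⟩ := Subgroup.mem_map.mp hs
    have hvc : ∀ w ∈ UU h, w * v = v * w := by
      intro w hw
      apply psi_inj
      rw [map_mul, map_mul]
      exact hsc _ (by rw [hUdef]; exact Subgroup.mem_map_of_mem _ hw)
    obtain ⟨hvB, hvy⟩ := central_mem h he₁ hne hv hvc
    obtain ⟨c, hc⟩ := hfix v hvB.1 hvy
    have hcc : c * c = 1 := by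
      apply sc_inj
      rw [map_mul, hc, map_one]
      apply psi_inj
      rw [map_mul, map_one]
      exact hs2
    have hc1 : c ≠ 1 := by
      rintro rfl
      apply hs1
      rw [← hc, map_one, map_one]
    have hcneg : c = -1 := by
      have h3 : ((c : F) - 1) * ((c : F) + 1) = 0 := by
        have h4 := congrArg Units.val hcc
        rw [Units.val_mul, Units.val_one] at h4
        linear_combination h4
      rcases mul_eq_zero.mp h3 with h5 | h5
      · exfalso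
        apply hc1
        apply Units.ext
        rw [Units.val_one]
        linear_combination h5
      · apply Units.ext
        rw [Units.val_neg, Units.val_one]
        linear_combination h5
    rw [← hc, hcneg, psi_neg]
  -- the normalizer
  have hdecomp : ∀ g ∈ Subgroup.normalizer (U : Set SL3),
      ∃ u ∈ UU h, ∃ c : Fˣ, g = psi (u * sc c) := by
    intro g hg
    have hgi : g⁻¹ ∈ Subgroup.normalizer (U : Set SL3) := Subgroup.inv_mem _ hg
    have h1 : g * Ds * g⁻¹ = Ds := by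
      apply hcent
      · exact (Subgroup.mem_normalizer_iff.mp hg Ds).mp hDsU
      · have e : g * Ds * g⁻¹ * (g * Ds * g⁻¹) = g * (Ds * Ds) * g⁻¹ := by group
        rw [e, Ds_mul_self, mul_one, mul_inv_cancel]
      · intro h3
        apply Ds_ne_one h2
        have e : (Ds : SL3) = g⁻¹ * (g * Ds * g⁻¹) * g := by group
        rw [e, h3, mul_one, inv_mul_cancel]
      · intro u hu
        have hu' : g⁻¹ * u * g ∈ U := by
          have h4 := (Subgroup.mem_normalizer_iff.mp hgi u).mp hu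
          rwa [inv_inv] at h4
        rw [hUdef] at hu'
        obtain ⟨w, -, hw⟩ := Subgroup.mem_map.mp hu'
        have h4 : Ds * (g⁻¹ * u * g) = (g⁻¹ * u * g) * Ds := by
          rw [← hw]
          exact psi_comm w
        calc u * (g * Ds * g⁻¹) = g * ((g⁻¹ * u * g) * Ds) * g⁻¹ := by group
          _ = g * (Ds * (g⁻¹ * u * g)) * g⁻¹ := by rw [h4]
          _ = g * Ds * g⁻¹ * u := by group
    have h5 : Ds * g = g * Ds := by
      calc Ds * g = (g * Ds * g⁻¹) * g := by rw [h1]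
        _ = g * Ds := by group
    obtain ⟨A, rfl⟩ := exists_psi_eq h2 g h5
    have hAN : A ∈ Subgroup.normalizer ((UU h : Subgroup GL2) : Set GL2) := by
      apply Cfsg.Agent.Lib.Helper2.SimpCrit.mem_normalizer_of_conj_mem
      · intro v hv
        have h6 : psi A * psi v * (psi A)⁻¹ ∈ U :=
          (Subgroup.mem_normalizer_iff.mp hg _).mp
            (by rw [hUdef]; exact Subgroup.mem_map_of_mem _ hv)
        rw [hUdef] at h6
        obtain ⟨w, hw, hw2⟩ := Subgroup.mem_map.mp h6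
        have e : w = A * v * A⁻¹ := by
          apply psi_inj
          rw [hw2, map_mul, map_mul, map_inv]
        rw [← e]
        exact hw
      · intro v hv
        have h6 : (psi A)⁻¹ * psi v * (psi A)⁻¹⁻¹ ∈ U :=
          (Subgroup.mem_normalizer_iff.mp hgi _).mp
            (by rw [hUdef]; exact Subgroup.mem_map_of_mem _ hv)
        rw [hUdef] at h6
        obtain ⟨w, hw, hw2⟩ := Subgroup.mem_map.mp h6
        have e : w = A⁻¹ * v * A := by
          apply psi_inj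
          rw [hw2, map_mul, map_mul, map_inv, inv_inv]
        rw [← e]
        exact hw
    obtain ⟨u, hu, z, ⟨c, rfl⟩, hAuz⟩ := normalizer_UU h _ sc_center hfix hN he₀ hne hAN
    exact ⟨u, hu, c, by rw [hAuz]⟩
  have hN' : ∀ g ∈ Subgroup.normalizer (U : Set SL3), ∃ u ∈ U, ∀ x ∈ U,
      g * x * g⁻¹ = u * x * u⁻¹ := by
    intro g hg
    obtain ⟨u, hu, c, rfl⟩ := hdecomp g hg
    refine ⟨psi u, by rw [hUdef]; exact Subgroup.mem_map_of_mem _ hu, ?_⟩
    intro x hx
    rw [hUdef] at hx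
    obtain ⟨v, -, rfl⟩ := Subgroup.mem_map.mp hx
    have e1 : psi (u * sc c) * psi v * (psi (u * sc c))⁻¹ =
        psi (u * sc c * v * (u * sc c)⁻¹) := by simp only [map_mul, map_inv]
    have e2 : psi u * psi v * (psi u)⁻¹ = psi (u * v * u⁻¹) := by simp only [map_mul, map_inv]
    have hcv : sc c * v = v * sc c := sc_comm c v
    have e3 : u * sc c * v * (u * sc c)⁻¹ = u * v * u⁻¹ := by
      calc u * sc c * v * (u * sc c)⁻¹ = u * (sc c * v) * (sc c)⁻¹ * u⁻¹ := by group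
        _ = u * (v * sc c) * (sc c)⁻¹ * u⁻¹ := by rw [hcv]
        _ = u * v * u⁻¹ := by group
    rw [e1, e2, e3]
  -- `U` is a Sylow subgroup
  obtain ⟨Q, hQ⟩ : ∃ Q : Sylow 2 SL3, (Q : Subgroup SL3) = U := by
    apply exists_sylow_eq U hUp
    intro x hx hxp
    obtain ⟨u, hu, c, rfl⟩ := hdecomp x hx
    obtain ⟨k, hk⟩ := hxp
    obtain ⟨j, hj⟩ := UU_isPGroup h ⟨u, hu⟩
    have hj' : u ^ 2 ^ j = 1 := by
      have h3 := congrArg Subtype.val hj
      simpa using h3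
    have hAk : (u * sc c) ^ 2 ^ k = 1 := by
      apply psi_inj
      rw [map_pow, hk, map_one]
    have hcomm : Commute u (sc c) := (sc_comm c u).symm
    have hck : (sc c : GL2) ^ 2 ^ (j + k) = 1 := by
      have h3 := hcomm.mul_pow (2 ^ (j + k))
      have h4 : (u * sc c) ^ 2 ^ (j + k) = 1 := by
        rw [pow_add, mul_comm (2 ^ j) (2 ^ k), pow_mul, hAk, one_pow]
      have h5 : u ^ 2 ^ (j + k) = 1 := by
        rw [pow_add, pow_mul, hj', one_pow]
      rw [h4, h5, one_mul] at h3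
      exact h3.symm
    have hscB : (sc c : GL2) ∈ BB h := ⟨hZD c, j + k, hck⟩
    rw [hUdef]
    exact Subgroup.mem_map_of_mem _ ((UU h).mul_mem hu (BB_le_UU h hscB))
  -- the projection
  obtain ⟨π, hπdef⟩ : ∃ π : SL3 →* PSL3, π = QuotientGroup.mk' (Subgroup.center SL3) :=
    ⟨_, rfl⟩
  have hπker : π.ker = Subgroup.center SL3 := by rw [hπdef]; exact QuotientGroup.ker_mk' _
  have hπsurj : Function.Surjective π := by rw [hπdef]; exact QuotientGroup.mk'_surjective _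
  have hkp0 : ∀ z ∈ Subgroup.center SL3, ∀ k : ℕ, z ^ 2 ^ k = 1 → z = 1 := by
    intro z hz k hk
    have h3 := center_pow_three hz
    have h4 : orderOf z ∣ Nat.gcd (2 ^ k) 3 :=
      Nat.dvd_gcd (orderOf_dvd_of_pow_eq_one hk) (orderOf_dvd_of_pow_eq_one h3)
    have h5 : Nat.gcd (2 ^ k) 3 = 1 := Nat.Coprime.pow_left k (by norm_num)
    rw [h5, Nat.dvd_one] at h4
    exact orderOf_eq_one_iff.mp h4
  obtain ⟨Q', hQ'⟩ : ∃ Q' : Sylow 2 PSL3, (Q' : Subgroup PSL3) = U.map π :=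
    ⟨Q.mapSurjective hπsurj, by rw [Sylow.coe_mapSurjective, hQ]⟩
  obtain ⟨g, hg⟩ := MulAction.exists_smul_eq PSL3 Q' S
  obtain ⟨ψ, hψdef⟩ : ∃ ψ : SL3 →* PSL3, ψ = (MulAut.conj g).toMonoidHom.comp π := ⟨_, rfl⟩
  have hψker : ψ.ker = Subgroup.center SL3 := by
    ext x
    have h1 : x ∈ ψ.ker ↔ x ∈ π.ker := by
      rw [MonoidHom.mem_ker, MonoidHom.mem_ker, hψdef, MonoidHom.comp_apply]
      exact (MulAut.conj g).map_eq_one_iff
    rw [h1, hπker]
  have hψsurj : Function.Surjective ψ := by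
    rw [hψdef]
    exact (MulAut.conj g).surjective.comp hπsurj
  have hSU : (S : Subgroup PSL3) = U.map ψ := by
    rw [← hg, Sylow.coe_subgroup_smul, hψdef, ← Subgroup.map_map, ← hQ']
    rfl
  have hkpψ : ∀ z ∈ ψ.ker, ∀ k : ℕ, z ^ 2 ^ k = 1 → z = 1 := by
    intro z hz k hk
    rw [hψker] at hz
    exact hkp0 z hz k hk
  apply simple_of_cover_inner ψ hψsurj (le_of_eq hψker) hkpψ U hUp hU1 S hSU ?_ hN'
  intro T hTU hT1 hcl
  apply le_antisymm hTU
  obtain ⟨s, hsT, hs1, hs2, hsc⟩ := exists_central_involution U hUp T hTU hT1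
    (fun t ht u hu => hcl t ht u (U.mul_mem (U.mul_mem hu (hTU ht)) (U.inv_mem hu)))
  have hsDs : s = Ds := hcent s (hTU hsT) hs2 hs1 hsc
  have hDsT : (Ds : SL3) ∈ T := by rw [← hsDs]; exact hsT
  apply hgen T
  · intro s' hs' hs'2
    by_cases hs'1 : s' = 1
    · rw [hs'1]; exact T.one_mem
    · obtain ⟨P, hP⟩ := exists_conj h2 s' hs'2 hs'1
      have e : s' = P * Ds * P⁻¹ := by rw [← hP]; group
      rw [e]
      apply hcl Ds hDsT P
      rw [← e]
      exact hs'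
  · exact hcl

omit [Fintype F] in
/-- generation in the split case -/
theorem hgen1 (T : Subgroup SL3)
    (hinv : ∀ s ∈ (UU (td1 (F := F))).map (psi : GL2 →* SL3), s * s = 1 → s ∈ T)
    (hcl : ∀ t ∈ T, ∀ x : SL3, x * t * x⁻¹ ∈ (UU (td1 (F := F))).map (psi : GL2 →* SL3) →
      x * t * x⁻¹ ∈ T) :
    (UU (td1 (F := F))).map (psi : GL2 →* SL3) ≤ T := by
  have hone : ∃ k : ℕ, (1 : Fˣ) ^ 2 ^ k = 1 := ⟨0, one_pow _⟩
  have hw : psi w2 ∈ T := hinv _ (Subgroup.mem_map_of_mem _ (y_mem_UU td1))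
    (by rw [← map_mul, w2_sq, map_one])
  have h1 : ∀ α β : Fˣ, α * β = 1 → (∃ k : ℕ, α ^ 2 ^ k = 1) → (∃ k : ℕ, β ^ 2 ^ k = 1) →
      psi (dg α β) ∈ T := by
    intro α β hαβ hα hβ
    have hB : dg α β ∈ BB (td1 (F := F)) := dg_mem_BB hα hβ
    have hmem : dg α β * w2 ∈ UU (td1 (F := F)) := by
      right
      rw [mul_assoc, w2_sq, mul_one]
      exact hB
    have hsq : (dg α β * w2) * (dg α β * w2) = 1 := by
      have e : (dg α β * w2) * (dg α β * w2) = dg α β * (w2 * dg α β * w2) := by group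
      rw [e, w2_dg, dg_mul, hαβ, mul_comm β α, hαβ, dg_one]
    have h3 : psi (dg α β * w2) ∈ T := hinv _ (Subgroup.mem_map_of_mem _ hmem)
      (by rw [← map_mul, hsq, map_one])
    have e : psi (dg α β) = psi (dg α β * w2) * psi w2 := by
      rw [← map_mul, mul_assoc, w2_sq, mul_one]
    rw [e]
    exact T.mul_mem h3 hw
  have hinvp : ∀ α : Fˣ, (∃ k : ℕ, α ^ 2 ^ k = 1) → ∃ k : ℕ, α⁻¹ ^ 2 ^ k = 1 := by
    rintro α ⟨k, hk⟩
    exact ⟨k, by rw [inv_pow, hk, inv_one]⟩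
  have h2a : ∀ α : Fˣ, (∃ k : ℕ, α ^ 2 ^ k = 1) → psi (dg α 1) ∈ T := by
    intro α hα
    have e : psi (dg α 1) = P02 * psi (dg α α⁻¹) * P02⁻¹ :=
      (mul_inv_eq_of_eq_mul (P02_conj α α⁻¹ (mul_inv_cancel α))).symm
    rw [e]
    apply hcl _ (h1 α α⁻¹ (mul_inv_cancel α) hα (hinvp α hα))
    rw [← e]
    exact Subgroup.mem_map_of_mem _ (BB_le_UU _ (dg_mem_BB hα hone))
  have h2b : ∀ β : Fˣ, (∃ k : ℕ, β ^ 2 ^ k = 1) → psi (dg 1 β) ∈ T := by
    intro β hβ
    have e : psi (dg 1 β) = P01 * psi (dg β⁻¹ β) * P01⁻¹ :=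
      (mul_inv_eq_of_eq_mul (P01_conj β⁻¹ β (inv_mul_cancel β))).symm
    rw [e]
    apply hcl _ (h1 β⁻¹ β (inv_mul_cancel β) (hinvp β hβ) hβ)
    rw [← e]
    exact Subgroup.mem_map_of_mem _ (BB_le_UU _ (dg_mem_BB hone hβ))
  have h3 : ∀ v ∈ BB (td1 (F := F)), psi v ∈ T := by
    intro v hv
    obtain ⟨a, b, rfl, ha, hb⟩ := of_mem_BB1 hv
    have e : (dg a b : GL2) = dg a 1 * dg 1 b := by rw [dg_mul, mul_one, one_mul]
    rw [e, map_mul]
    exact T.mul_mem (h2a a ha) (h2b b hb)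
  rintro _ ⟨v, hv, rfl⟩
  rcases hv with hv | hv
  · exact h3 v hv
  · have e2 : psi v = psi (v * w2) * psi w2 := by
      rw [← map_mul, mul_assoc, w2_sq, mul_one]
    rw [e2]
    exact T.mul_mem (h3 _ hv) hw

/-- generation in the non-split case -/
theorem hgen2 (h2 : (2 : F) ≠ 0) (hq : Fintype.card F % 4 = 3) (hns : ¬ IsSquare (-1 : F))
    (T : Subgroup SL3)
    (hinv : ∀ s ∈ (UU (td2 h2)).map (psi : GL2 →* SL3), s * s = 1 → s ∈ T)
    (hcl : ∀ t ∈ T, ∀ x : SL3, x * t * x⁻¹ ∈ (UU (td2 h2)).map (psi : GL2 →* SL3) →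
      x * t * x⁻¹ ∈ T) :
    (UU (td2 h2)).map (psi : GL2 →* SL3) ≤ T := by
  have hy : psi yG ∈ T := hinv _ (Subgroup.mem_map_of_mem _ (y_mem_UU (td2 h2)))
    (by rw [← map_mul, yG_sq, map_one])
  have hmemy : ∀ e ∈ BB (td2 h2), e * yG ∈ UU (td2 h2) := by
    intro e he
    right
    rw [mul_assoc, yG_sq, mul_one]
    exact he
  have hsplit : ∀ e : GL2, psi e = psi (e * yG) * psi yG := by
    intro e
    rw [← map_mul, mul_assoc, yG_sq, mul_one]
  have hesq : ∀ e : GL2, (e * yG) * (e * yG) = e * (yG * e * yG) := by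
    intro e
    group
  have h1 : ∀ e ∈ BB (td2 h2), e.1 1 1 * e.1 1 1 + e.1 1 0 * e.1 1 0 = 1 → psi e ∈ T := by
    intro e he hdet
    have hsq : (e * yG) * (e * yG) = 1 := by
      rw [hesq, mul_yAy he.1 1 (by rw [hdet, Units.val_one]), map_one]
    have h3 : psi (e * yG) ∈ T := hinv _ (Subgroup.mem_map_of_mem _ (hmemy e he))
      (by rw [← map_mul, hsq, map_one])
    rw [hsplit e]
    exact T.mul_mem h3 hy
  have hi : psi iG ∈ T := h1 iG (iG_mem_BB h2) (by rw [iG_11, iG_10]; ring)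
  have h3 : ∀ e ∈ BB (td2 h2), psi e ∈ T := by
    intro e he
    rcases det_BB2 h2 hq he with hdet | hdet
    · exact h1 e he hdet
    · have hsq : (e * yG) * (e * yG) = sc (-1) := by
        rw [hesq, mul_yAy he.1 (-1) (by rw [hdet, Units.val_neg, Units.val_one])]
      obtain ⟨A, hA⟩ := exists_conj_iG hns hsq
      have e3 : psi (e * yG) = psi A * psi iG * (psi A)⁻¹ := by
        have h5 : psi A * psi iG = psi (e * yG) * psi A := by rw [← map_mul, hA, map_mul]
        rw [h5, mul_inv_cancel_right]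
      have h4 : psi (e * yG) ∈ T := by
        rw [e3]
        apply hcl _ hi
        rw [← e3]
        exact Subgroup.mem_map_of_mem _ (hmemy e he)
      rw [hsplit e]
      exact T.mul_mem h4 hy
  rintro _ ⟨v, hv, rfl⟩
  rcases hv with hv | hv
  · exact h3 v hv
  · rw [hsplit v]
    exact T.mul_mem (h3 _ hv) hy

/-- the `2`-fusion system of `PSL₃(F)`, `|F|` odd, is simple -/
theorem psl3_simple (hodd : Fintype.card F % 2 = 1) (S : Sylow 2 PSL3) :
    (groupFusionSystem (S : Subgroup PSL3)).IsSimple 2 := by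
  have h2 : (2 : F) ≠ 0 := two_ne_zero_of_odd (Nat.odd_iff.mpr hodd)
  have h4 : Fintype.card F % 4 = 1 ∨ Fintype.card F % 4 = 3 := by omega
  rcases h4 with h4 | h4
  · have hsq : IsSquare (-1 : F) := by
      rw [FiniteField.isSquare_neg_one_iff]
      omega
    obtain ⟨ι, hι⟩ := hsq
    obtain ⟨e₀, he₀, hne⟩ := he1 h2 hι.symm
    exact sl3_simple_of_model h2 td1 sc_mem_D1 hfix1 (hN1 h2) he₀ hne
      (fun T => hgen1 T) S
  · have hns : ¬ IsSquare (-1 : F) := by
      rw [FiniteField.isSquare_neg_one_iff]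
      omega
    obtain ⟨e₀, he₀, hne⟩ := he2 h2 h4
    exact sl3_simple_of_model h2 (td2 h2) sc_mem_D2 (hfix2 h2) (hN2 h2 hns) he₀ hne
      (fun T => hgen2 h2 h4 hns T) S

end Main

end Cfsg.Agent.Lib.Helper2.SL3Fus
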