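import Cfsg.Agent.Lib.Helper2.SOT3Defs

/-!
# Same-order type with three values: the odd order case (arithmetic)
-/

set_option autoImplicit false
set_option linter.style.haveILetI false

namespace Cfsg.Agent.Lib.Helper2.SOT3

theorem sum_divisors_mul_coprime' {m n : ℕ} (h : m.Coprime n) (f : ℕ → ℕ) :
    ∑ d ∈ (m * n).divisors, f d = ∑ a ∈ m.divisors, ∑ b ∈ n.divisors, f (a * b) := by
  rw [Nat.divisors_mul, Finset.mul_def, Finset.sum_image h.mul_injOn_divisors, Finset.sum_product]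

theorem sum_prime (c : ℕ → ℕ) {p : ℕ} (hp : p.Prime) :
    ∑ d ∈ p.divisors, c d = c 1 + c p := by
  rw [hp.sum_divisors, add_comm]

theorem sum_two_primes (c : ℕ → ℕ) {p q : ℕ} (hp : p.Prime) (hq : q.Prime) (hpq : p ≠ q) :
    ∑ d ∈ (p * q).divisors, c d = c 1 + c p + c q + c (p * q) := by
  rw [sum_divisors_mul_coprime' ((Nat.coprime_primes hp hq).mpr hpq), hp.sum_divisors,
    hq.sum_divisors, hq.sum_divisors]
  simp only [one_mul, mul_one]
  ring

theorem sum_three_primes (c : ℕ → ℕ) {p q r : ℕ} (hp : p.Prime) (hq : q.Prime) (hr : r.Prime)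
    (hpq : p ≠ q) (hpr : p ≠ r) (hqr : q ≠ r) :
    ∑ d ∈ (p * q * r).divisors, c d =
      c 1 + c p + c q + c r + c (p * q) + c (p * r) + c (q * r) + c (p * q * r) := by
  have hcop : (p * q).Coprime r :=
    Nat.Coprime.mul_left ((Nat.coprime_primes hp hr).mpr hpr) ((Nat.coprime_primes hq hr).mpr hqr)
  rw [sum_divisors_mul_coprime' hcop,
    sum_divisors_mul_coprime' (f := fun a => ∑ b ∈ r.divisors, c (a * b))
      ((Nat.coprime_primes hp hq).mpr hpq), hp.sum_divisors, hq.sum_divisors, hq.sum_divisors,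
    hr.sum_divisors, hr.sum_divisors, hr.sum_divisors, hr.sum_divisors]
  simp only [one_mul, mul_one]
  ring

variable {N : ℕ} {c : ℕ → ℕ}

theorem neg_one_mod (hC : Cnt N c) {p : ℕ} (hp : p.Prime) (hpN : p ∣ N) :
    (p : ℤ) ∣ (c p : ℤ) + 1 := by
  have h := hC.frob p hpN
  rw [sum_prime c hp, hC.c1] at h
  have h' : (p : ℤ) ∣ ((1 + c p : ℕ) : ℤ) := Int.natCast_dvd_natCast.mpr h
  push_cast at h'
  rw [add_comm]
  exact h'

theorem pair_mod (hC : Cnt N c) {p q : ℕ} (hp : p.Prime) (hq : q.Prime) (hpq : p ≠ q)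
    (hpN : p ∣ N) (hqN : q ∣ N) : (p : ℤ) ∣ (c q : ℤ) + c (p * q) := by
  have hcop : p.Coprime q := (Nat.coprime_primes hp hq).mpr hpq
  have h := hC.frob (p * q) (hcop.mul_dvd_of_dvd_of_dvd hpN hqN)
  rw [sum_two_primes c hp hq hpq, hC.c1] at h
  have h1 : (p : ℤ) ∣ ((1 + c p + c q + c (p * q) : ℕ) : ℤ) :=
    Int.natCast_dvd_natCast.mpr ((Dvd.intro _ rfl).trans h)
  push_cast at h1
  have h2 := neg_one_mod hC hp hpN
  have e : (c q : ℤ) + c (p * q) = (1 + (c p : ℤ) + c q + c (p * q)) - ((c p : ℤ) + 1) := by ring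
  rw [e]
  exact dvd_sub h1 h2

theorem pair_mod' (hC : Cnt N c) {p q : ℕ} (hp : p.Prime) (hq : q.Prime) (hpq : p ≠ q)
    (hpN : p ∣ N) (hqN : q ∣ N) : (q : ℤ) ∣ (c p : ℤ) + c (p * q) := by
  have := pair_mod hC hq hp (Ne.symm hpq) hqN hpN
  rwa [mul_comm q p] at this

theorem not_dvd_one {p : ℕ} (hp : p.Prime) : ¬ (p : ℤ) ∣ 1 := by
  intro h
  have := Int.natCast_dvd_natCast.mp (by exact_mod_cast h : ((p : ℕ) : ℤ) ∣ ((1 : ℕ) : ℤ))
  exact hp.one_lt.ne' (Nat.dvd_one.mp this)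

theorem not_dvd_two {p : ℕ} (hp : p.Prime) (hp2 : p ≠ 2) : ¬ (p : ℤ) ∣ 2 := by
  intro h
  have h' := Int.natCast_dvd_natCast.mp (by exact_mod_cast h : ((p : ℕ) : ℤ) ∣ ((2 : ℕ) : ℤ))
  exact hp2 ((Nat.prime_dvd_prime_iff_eq hp Nat.prime_two).mp h')

/-- values at `d ≥ 3` are even. -/
theorem even_val (hC : Cnt N c) {d : ℕ} (hd : 3 ≤ d) : 2 ∣ c d :=
  (Nat.totient_even (by omega)).two_dvd.trans (hC.tot d)

theorem val_ne_one (hC : Cnt N c) {d : ℕ} (hd : 3 ≤ d) : c d ≠ 1 := by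
  intro h
  have := even_val hC hd
  rw [h] at this
  omega

theorem odd_prime_ge {N p : ℕ} (hodd : Odd N) (hp : p.Prime) (hpN : p ∣ N) : p ≠ 2 ∧ 3 ≤ p := by
  have hp2 : p ≠ 2 := by
    rintro rfl
    exact (Nat.not_even_iff_odd.mpr hodd) (even_iff_two_dvd.mpr hpN)
  have := hp.two_le
  exact ⟨hp2, by omega⟩

/-- two primes with the same value `μ`: the value at `p q` is a different nonzero value, `≡ 1`. -/
theorem same_pair (hC : Cnt N c) {p q : ℕ} (hp : p.Prime) (hq : q.Prime) (hp2 : p ≠ 2)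
    (hpq : p ≠ q) (hpN : p ∣ N) (hqN : q ∣ N) (h : c p = c q) :
    c (p * q) ≠ 0 ∧ c (p * q) ≠ c p ∧ (p : ℤ) ∣ (c (p * q) : ℤ) - 1 := by
  have h1 := pair_mod hC hp hq hpq hpN hqN
  have h2 := neg_one_mod hC hp hpN
  rw [← h] at h1
  have h3 : (p : ℤ) ∣ (c (p * q) : ℤ) - 1 := by
    have e : (c (p * q) : ℤ) - 1 = ((c p : ℤ) + c (p * q)) - ((c p : ℤ) + 1) := by ring
    rw [e]; exact dvd_sub h1 h2
  refine ⟨?_, ?_, h3⟩
  · intro h0
    rw [h0] at h3
    apply not_dvd_one hp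
    have : (p : ℤ) ∣ -(((0 : ℕ) : ℤ) - 1) := (dvd_neg).mpr h3
    simpa using this
  · intro h0
    rw [h0] at h3
    apply not_dvd_two hp hp2
    have e : (2 : ℤ) = ((c p : ℤ) + 1) - ((c p : ℤ) - 1) := by ring
    rw [e]; exact dvd_sub h2 h3

/-- values at `d ≥ 3`. -/
theorem val3 (hC : Cnt N c) {m n : ℕ} (hval : ∀ d, c d = 0 ∨ c d = 1 ∨ c d = m ∨ c d = n) {d : ℕ}
    (hd : 3 ≤ d) : c d = 0 ∨ c d = m ∨ c d = n := by
  rcases hval d with h | h | h | h
  · exact Or.inl h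
  · exact absurd h (val_ne_one hC hd)
  · exact Or.inr (Or.inl h)
  · exact Or.inr (Or.inr h)

theorem dvd_of_dvd_two_mul {r x : ℕ} (hr : r.Prime) (hr2 : r ≠ 2) (h : (r : ℤ) ∣ (x : ℤ) + x) :
    (r : ℤ) ∣ (x : ℤ) := by
  have h' : r ∣ 2 * x := by
    apply Int.natCast_dvd_natCast.mp
    push_cast
    rw [two_mul]; exact h
  rcases (Nat.Prime.dvd_mul hr).mp h' with h2 | h2
  · exact absurd ((Nat.prime_dvd_prime_iff_eq hr Nat.prime_two).mp h2) hr2
  · exact Int.natCast_dvd_natCast.mpr h2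

/-- two primes with the same value force every third prime to have that value. -/
theorem third_prime (hC : Cnt N c) (hodd : Odd N) {m n : ℕ}
    (hval : ∀ d, c d = 0 ∨ c d = 1 ∨ c d = m ∨ c d = n)
    {p q r : ℕ} (hp : p.Prime) (hq : q.Prime) (hr : r.Prime) (hpq : p ≠ q) (hpr : p ≠ r)
    (hqr : q ≠ r) (hpN : p ∣ N) (hqN : q ∣ N) (hrN : r ∣ N) (h : c p = c q) : c r = c p := by
  by_contra hne
  obtain ⟨hp2, hp3⟩ := odd_prime_ge hodd hp hpN
  obtain ⟨hq2, hq3⟩ := odd_prime_ge hodd hq hqN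
  obtain ⟨hr2, hr3⟩ := odd_prime_ge hodd hr hrN
  obtain ⟨hν0, hνμ, hpν⟩ := same_pair hC hp hq hp2 hpq hpN hqN h
  obtain ⟨-, -, hqν⟩ := same_pair hC hq hp hq2 (Ne.symm hpq) hqN hpN h.symm
  rw [mul_comm q p] at hqν
  have hcp := hC.cauchy p hp hpN
  have hcr := hC.cauchy r hr hrN
  have vp := val3 hC hval hp3
  have vr := val3 hC hval hr3
  have vpq := val3 hC hval (d := p * q) (by nlinarith)
  have hrν : c r = c (p * q) := by omega
  have hr1 : (r : ℤ) ∣ (c (p * q) : ℤ) + 1 := by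
    have := neg_one_mod hC hr hrN
    rwa [hrν] at this
  -- the pair (p, r)
  have key : ∀ {s : ℕ}, s.Prime → s ≠ 2 → 3 ≤ s → s ≠ r → s ∣ N → c s = c p →
      (s : ℤ) ∣ (c (p * q) : ℤ) - 1 → c (s * r) = c p ∧ (r : ℤ) ∣ (c p : ℤ) := by
    intro s hs hs2 hs3 hsr hsN hcs hsν
    have h1 := pair_mod hC hs hr hsr hsN hrN
    rw [hrν] at h1
    have h2 : (s : ℤ) ∣ (c (s * r) : ℤ) + 1 := by
      have e : (c (s * r) : ℤ) + 1 = ((c (p * q) : ℤ) + c (s * r)) - ((c (p * q) : ℤ) - 1) := by ring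
      rw [e]; exact dvd_sub h1 hsν
    have h30 : c (s * r) ≠ 0 := by
      intro h0
      rw [h0] at h2
      apply not_dvd_one hs
      simpa using h2
    have h3ν : c (s * r) ≠ c (p * q) := by
      intro h0
      rw [h0] at h2
      apply not_dvd_two hs hs2
      have e : (2 : ℤ) = ((c (p * q) : ℤ) + 1) - ((c (p * q) : ℤ) - 1) := by ring
      rw [e]; exact dvd_sub h2 hsν
    have vsr := val3 hC hval (d := s * r) (by nlinarith)
    have h4 : c (s * r) = c p := by omega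
    refine ⟨h4, ?_⟩
    have h5 := pair_mod' hC hs hr hsr hsN hrN
    rw [h4, hcs] at h5
    exact dvd_of_dvd_two_mul hr hr2 h5
  obtain ⟨hpr', hrμ⟩ := key hp hp2 hp3 hpr hpN rfl hpν
  obtain ⟨hqr', -⟩ := key hq hq2 hq3 hqr hqN h.symm hqν
  -- Frobenius at p q r
  have hcop : (p * q).Coprime r :=
    Nat.Coprime.mul_left ((Nat.coprime_primes hp hr).mpr hpr) ((Nat.coprime_primes hq hr).mpr hqr)
  have hpqN : p * q ∣ N := ((Nat.coprime_primes hp hq).mpr hpq).mul_dvd_of_dvd_of_dvd hpN hqN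
  have hF := hC.frob (p * q * r) (hcop.mul_dvd_of_dvd_of_dvd hpqN hrN)
  rw [sum_three_primes c hp hq hr hpq hpr hqr, hC.c1, ← h, hrν, hpr', hqr'] at hF
  have hF' : (r : ℤ) ∣ ((1 + c p + c p + c (p * q) + c (p * q) + c p + c p + c (p * q * r) : ℕ) : ℤ) :=
    Int.natCast_dvd_natCast.mpr ((Dvd.intro_left _ rfl).trans hF)
  push_cast at hF'
  have hx : (r : ℤ) ∣ (c (p * q * r) : ℤ) - 1 := by
    have e : (c (p * q * r) : ℤ) - 1 =
        (1 + (c p : ℤ) + c p + c (p * q) + c (p * q) + c p + c p + c (p * q * r))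
          - 4 * (c p : ℤ) - 2 * ((c (p * q) : ℤ) + 1) := by ring
    rw [e]
    exact dvd_sub (dvd_sub hF' (Dvd.dvd.mul_left hrμ 4)) (Dvd.dvd.mul_left hr1 2)
  have vx := val3 hC hval (d := p * q * r) (by nlinarith [Nat.mul_le_mul hp3 hq3])
  have hx' : c (p * q * r) = 0 ∨ c (p * q * r) = c p ∨ c (p * q * r) = c (p * q) := by omega
  rcases hx' with h0 | h0 | h0
  · rw [h0] at hx
    apply not_dvd_one hr
    have : (r : ℤ) ∣ -(((0 : ℕ) : ℤ) - 1) := (dvd_neg).mpr hx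
    simpa using this
  · rw [h0] at hx
    apply not_dvd_one hr
    have e : (1 : ℤ) = (c p : ℤ) - ((c p : ℤ) - 1) := by ring
    rw [e]; exact dvd_sub hrμ hx
  · rw [h0] at hx
    apply not_dvd_two hr hr2
    have e : (2 : ℤ) = ((c (p * q) : ℤ) + 1) - ((c (p * q) : ℤ) - 1) := by ring
    rw [e]; exact dvd_sub hr1 hx

/-- the divisor sum at a prime power when nothing has order `t ^ i`, `i ≥ 2`. -/
theorem sum_prime_pow_of_sq_zero (c : ℕ → ℕ) {t : ℕ} (ht : t.Prime)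
    (hz : ∀ i, 2 ≤ i → c (t ^ i) = 0) (k : ℕ) :
    ∑ d ∈ (t ^ (k + 1)).divisors, c d = c 1 + c t := by
  rw [Nat.sum_divisors_prime_pow ht]
  induction k with
  | zero =>
    rw [Finset.sum_range_succ, Finset.sum_range_one, pow_zero, pow_one]
  | succ k ih =>
    rw [Finset.sum_range_succ, ih, hz (k + 1 + 1) (by omega), add_zero]

/-- (C) odd order: no three distinct primes divide `N`. -/
theorem odd_no_three {N : ℕ} {c : ℕ → ℕ} (m n : ℕ) (hC : Cnt N c) (hodd : Odd N)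
    (hval : ∀ d, c d = 0 ∨ c d = 1 ∨ c d = m ∨ c d = n)
    (p q r : ℕ) (hp : p.Prime) (hq : q.Prime) (hr : r.Prime) (hpq : p ≠ q) (hpr : p ≠ r)
    (hqr : q ≠ r) (hpN : p ∣ N) (hqN : q ∣ N) (hrN : r ∣ N) : False := by
  -- reduce to `c p = c q`
  have main : ∀ p q : ℕ, p.Prime → q.Prime → p ≠ q → p ∣ N → q ∣ N → c p = c q →
      (∃ r : ℕ, r.Prime ∧ r ≠ p ∧ r ≠ q ∧ r ∣ N) → False := by
    clear hp hq hr hpq hpr hqr hpN hqN hrN p q r
    intro p q hp hq hpq hpN hqN h hex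
    obtain ⟨hp2, hp3⟩ := odd_prime_ge hodd hp hpN
    obtain ⟨hq2, hq3⟩ := odd_prime_ge hodd hq hqN
    obtain ⟨hν0, hνμ, -⟩ := same_pair hC hp hq hp2 hpq hpN hqN h
    have hcp := hC.cauchy p hp hpN
    have vp := val3 hC hval hp3
    have vpq := val3 hC hval (d := p * q) (by nlinarith)
    -- every prime has the value `c p`
    have hall : ∀ t : ℕ, t.Prime → t ∣ N → c t = c p := by
      intro t ht htN
      by_cases h1 : t = p
      · rw [h1]
      · by_cases h2 : t = q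
        · rw [h2, h]
        · exact third_prime hC hodd hval hp hq ht hpq (Ne.symm h1) (Ne.symm h2) hpN hqN htN h
    -- congruences for every prime
    have hcong : ∀ t : ℕ, t.Prime → t ∣ N →
        (t : ℤ) ∣ (c p : ℤ) + 1 ∧ (t : ℤ) ∣ (c (p * q) : ℤ) - 1 := by
      intro t ht htN
      obtain ⟨ht2, ht3⟩ := odd_prime_ge hodd ht htN
      have h1 := neg_one_mod hC ht htN
      rw [hall t ht htN] at h1
      refine ⟨h1, ?_⟩
      obtain ⟨t', ht', htt', ht'N⟩ : ∃ t' : ℕ, t'.Prime ∧ t ≠ t' ∧ t' ∣ N := by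
        by_cases h1 : t = p
        · exact ⟨q, hq, by rw [h1]; exact hpq, hqN⟩
        · exact ⟨p, hp, h1, hpN⟩
      obtain ⟨ht'2, ht'3⟩ := odd_prime_ge hodd ht' ht'N
      obtain ⟨k0, kμ, kd⟩ := same_pair hC ht ht' ht2 htt' htN ht'N
        ((hall t ht htN).trans (hall t' ht' ht'N).symm)
      have vtt := val3 hC hval (d := t * t') (by nlinarith)
      rw [hall t ht htN] at kμ
      have : c (t * t') = c (p * q) := by omega
      rwa [this] at kd
    -- nothing has order `t ^ 2`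
    have hsq : ∀ t : ℕ, t.Prime → t ∣ N → ∀ i, 2 ≤ i → c (t ^ i) = 0 := by
      intro t ht htN i hi
      obtain ⟨ht2, ht3⟩ := odd_prime_ge hodd ht htN
      obtain ⟨k1, k2⟩ := hcong t ht htN
      by_contra hne
      have hpos : 0 < c (t ^ 2) :=
        hC.pow (t ^ 2) (t ^ i) (pow_dvd_pow t hi) (Nat.pos_of_ne_zero hne)
      have htot : t ∣ c (t ^ 2) := by
        have h1 := hC.tot (t ^ 2)
        rw [Nat.totient_prime_pow ht (by norm_num : 0 < 2)] at h1
        have h2 : t ∣ t ^ (2 - 1) * (t - 1) := by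
          rw [show 2 - 1 = 1 from rfl, pow_one]; exact Dvd.intro _ rfl
        exact h2.trans h1
      have htot' : (t : ℤ) ∣ (c (t ^ 2) : ℤ) := Int.natCast_dvd_natCast.mpr htot
      have vsq := val3 hC hval (d := t ^ 2) (by nlinarith)
      have : c (t ^ 2) = c p ∨ c (t ^ 2) = c (p * q) := by omega
      rcases this with h0 | h0
      · rw [h0] at htot'
        apply not_dvd_one ht
        have e : (1 : ℤ) = ((c p : ℤ) + 1) - (c p : ℤ) := by ring
        rw [e]; exact dvd_sub k1 htot'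
      · rw [h0] at htot'
        apply not_dvd_one ht
        have e : (1 : ℤ) = (c (p * q) : ℤ) - ((c (p * q) : ℤ) - 1) := by ring
        rw [e]; exact dvd_sub htot' k2
    -- `N ∣ 1 + c p`
    have hdvd : N ∣ 1 + c p := by
      rw [Nat.dvd_iff_prime_pow_dvd_dvd]
      intro t k ht hk
      rcases Nat.eq_zero_or_pos k with rfl | hkpos
      · simp
      · have htN : t ∣ N := (dvd_pow_self t hkpos.ne').trans hk
        obtain ⟨k', rfl⟩ : ∃ k', k = k' + 1 := ⟨k - 1, by omega⟩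
        have h1 := hC.frob _ hk
        rw [sum_prime_pow_of_sq_zero c ht (hsq t ht htN) k', hC.c1, hall t ht htN] at h1
        exact h1
    -- but `1 + c p < N`
    have hlt : 1 + c p < N := by
      have hsub : ({1, p, q} : Finset ℕ) ⊆ N.divisors := by
        intro d hd
        simp only [Finset.mem_insert, Finset.mem_singleton] at hd
        rw [Nat.mem_divisors]
        refine ⟨?_, hC.npos.ne'⟩
        rcases hd with rfl | rfl | rfl
        · exact one_dvd _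
        · exact hpN
        · exact hqN
      have h1 := Finset.sum_le_sum_of_subset (f := c) hsub
      rw [hC.total, Finset.sum_insert (by
        simp only [Finset.mem_insert, Finset.mem_singleton]
        rintro (h1 | h1)
        · exact hp.one_lt.ne h1
        · exact hq.one_lt.ne h1), Finset.sum_insert (by
        simp only [Finset.mem_singleton]; exact hpq), Finset.sum_singleton, hC.c1, ← h] at h1
      omega
    have := Nat.le_of_dvd (by omega) hdvd
    omega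
  -- pigeonhole
  obtain ⟨hp2, hp3⟩ := odd_prime_ge hodd hp hpN
  obtain ⟨hq2, hq3⟩ := odd_prime_ge hodd hq hqN
  obtain ⟨hr2, hr3⟩ := odd_prime_ge hodd hr hrN
  have hcp := hC.cauchy p hp hpN
  have hcq := hC.cauchy q hq hqN
  have hcr := hC.cauchy r hr hrN
  have vp := val3 hC hval hp3
  have vq := val3 hC hval hq3
  have vr := val3 hC hval hr3
  by_cases h1 : c p = c q
  · exact main p q hp hq hpq hpN hqN h1 ⟨r, hr, Ne.symm hpr, Ne.symm hqr, hrN⟩
  · by_cases h2 : c p = c r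
    · exact main p r hp hr hpr hpN hrN h2 ⟨q, hq, Ne.symm hpq, hqr, hqN⟩
    · have h3 : c q = c r := by omega
      exact main q r hq hr hqr hqN hrN h3 ⟨p, hp, hpq, hpr, hpN⟩

end Cfsg.Agent.Lib.Helper2.SOT3
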