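import Cfsg.Agent.Lib.Helper2.SOT3C

/-!
# Same-order type with three values: the even order cases (arithmetic)
-/

set_option autoImplicit false
set_option linter.style.haveILetI false

namespace Cfsg.Agent.Lib.Helper2.SOT3

variable {N : ℕ} {c : ℕ → ℕ}

theorem odd_prime_three {p : ℕ} (hp : p.Prime) (hp2 : p ≠ 2) : 3 ≤ p := by
  have := hp.two_le
  omega

/-- (D) even order, more than one involution: no two distinct odd primes divide `N`. -/
theorem even_many_no_two {N : ℕ} {c : ℕ → ℕ} (m n : ℕ) (hC : Cnt N c) (h2 : 2 ∣ N)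
    (hc2 : c 2 ≠ 1)
    (hval : ∀ d, c d = 0 ∨ c d = 1 ∨ c d = m ∨ c d = n)
    (p q : ℕ) (hp : p.Prime) (hq : q.Prime) (hp2 : p ≠ 2) (hq2 : q ≠ 2) (hpq : p ≠ q)
    (hpN : p ∣ N) (hqN : q ∣ N) : False := by
  have hp3 := odd_prime_three hp hp2
  have hq3 := odd_prime_three hq hq2
  have h2odd : c 2 % 2 = 1 := by
    have h := hC.frob 2 h2
    rw [sum_prime c Nat.prime_two, hC.c1] at h
    omega
  have hc2pos := hC.cauchy 2 Nat.prime_two h2
  have hcp := hC.cauchy p hp hpN
  have hcq := hC.cauchy q hq hqN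
  have ep := even_val hC hp3
  have eq := even_val hC hq3
  have epq := even_val hC (d := p * q) (by nlinarith)
  have v2 := hval 2
  have vp := hval p
  have vq := hval q
  have vpq := hval (p * q)
  have hsame : c p = c q ∧ (c (p * q) = 0 ∨ c (p * q) = c p) := by omega
  obtain ⟨h1, h3⟩ := hsame
  have k1 := neg_one_mod hC hp hpN
  have k2 := pair_mod hC hp hq hpq hpN hqN
  rw [← h1] at k2
  rcases h3 with h0 | h0
  · rw [h0] at k2
    apply not_dvd_one hp
    have e : (1 : ℤ) = ((c p : ℤ) + 1) - ((c p : ℤ) + ((0 : ℕ) : ℤ)) := by push_cast; ring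
    rw [e]; exact dvd_sub k1 k2
  · rw [h0] at k2
    have k3 := dvd_of_dvd_two_mul hp hp2 k2
    apply not_dvd_one hp
    have e : (1 : ℤ) = ((c p : ℤ) + 1) - (c p : ℤ) := by ring
    rw [e]; exact dvd_sub k1 k3

theorem sum_four (c : ℕ → ℕ) : ∑ d ∈ (4 : ℕ).divisors, c d = c 1 + c 2 + c 4 := by
  have : (4 : ℕ) = 2 ^ 2 := by norm_num
  rw [this, Nat.sum_divisors_prime_pow Nat.prime_two, Finset.sum_range_succ, Finset.sum_range_succ,
    Finset.sum_range_one]
  norm_num

theorem sum_four_mul {k : ℕ} (hk : Nat.Coprime 4 k) (f : ℕ → ℕ) :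
    ∑ d ∈ (4 * k).divisors, f d =
      ∑ b ∈ k.divisors, f (1 * b) + ∑ b ∈ k.divisors, f (2 * b) + ∑ b ∈ k.divisors, f (4 * b) := by
  rw [sum_divisors_mul_coprime' hk]
  have : (4 : ℕ) = 2 ^ 2 := by norm_num
  rw [this, Nat.sum_divisors_prime_pow Nat.prime_two, Finset.sum_range_succ, Finset.sum_range_succ,
    Finset.sum_range_one]
  norm_num

theorem coprime_four_of_odd {k : ℕ} (hodd : Odd k) : Nat.Coprime 4 k := by
  have : (4 : ℕ) = 2 ^ 2 := by norm_num
  rw [this]
  exact Nat.Coprime.pow_left 2 (Nat.coprime_two_left.mpr hodd)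

theorem four_dvd_totient_four_mul {k : ℕ} (hk : 3 ≤ k) (hodd : Odd k) :
    4 ∣ Nat.totient (4 * k) := by
  rw [Nat.totient_mul (coprime_four_of_odd hodd), show Nat.totient 4 = 2 by decide]
  obtain ⟨j, hj⟩ := (Nat.totient_even (by omega : 2 < k)).two_dvd
  rw [hj]
  exact ⟨j, by ring⟩

theorem four_dvd_totient_mul {p q : ℕ} (hp : p.Prime) (hq : q.Prime) (hp2 : p ≠ 2) (hq2 : q ≠ 2)
    (hpq : p ≠ q) : 4 ∣ Nat.totient (p * q) := by
  rw [Nat.totient_mul ((Nat.coprime_primes hp hq).mpr hpq)]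
  obtain ⟨i, hi⟩ := (Nat.totient_even (by have := odd_prime_three hp hp2; omega : 2 < p)).two_dvd
  obtain ⟨j, hj⟩ := (Nat.totient_even (by have := odd_prime_three hq hq2; omega : 2 < q)).two_dvd
  rw [hi, hj]
  exact ⟨i * j, by ring⟩

theorem odd_of_prime_ne_two {p : ℕ} (hp : p.Prime) (hp2 : p ≠ 2) : Odd p :=
  hp.odd_of_ne_two hp2

/-- core of (E): `α = c 4`. -/
theorem four_unique_core {N : ℕ} {c : ℕ → ℕ} (α β : ℕ) (hC : Cnt N c) (h4 : 4 ∣ N)
    (hc2 : c 2 = 1) (hdouble : ∀ d, Odd d → c (2 * d) = c d) (hα : c 4 = α)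
    (hval : ∀ d, c d = 0 ∨ c d = 1 ∨ c d = α ∨ c d = β)
    (p q : ℕ) (hp : p.Prime) (hq : q.Prime) (hp2 : p ≠ 2) (hq2 : q ≠ 2) (hpq : p ≠ q)
    (hpN : p ∣ N) (hqN : q ∣ N) : False := by
  have hp3 := odd_prime_three hp hp2
  have hq3 := odd_prime_three hq hq2
  have hpo := odd_of_prime_ne_two hp hp2
  have hqo := odd_of_prime_ne_two hq hq2
  have hpqo : Odd (p * q) := hpo.mul hqo
  -- `α ≡ 2 mod 4`
  have hα4 : α % 4 = 2 := by
    have h := hC.frob 4 h4
    rw [sum_four, hC.c1, hc2, hα] at h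
    omega
  -- values divisible by four
  have hfour : ∀ d, 4 ∣ Nat.totient d → c d = 0 ∨ c d = β := by
    intro d hd
    have h1 : 4 ∣ c d := hd.trans (hC.tot d)
    rcases hval d with h | h | h | h
    · exact Or.inl h
    · rw [h] at h1; omega
    · rw [h] at h1; omega
    · exact Or.inr h
  have v4p := hfour (4 * p) (four_dvd_totient_four_mul hp3 hpo)
  have v4q := hfour (4 * q) (four_dvd_totient_four_mul hq3 hqo)
  have vpq := hfour (p * q) (four_dvd_totient_mul hp hq hp2 hq2 hpq)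
  have v4pq := hfour (4 * (p * q)) (four_dvd_totient_four_mul (by nlinarith) hpqo)
  -- values at the primes
  have hcp := hC.cauchy p hp hpN
  have hcq := hC.cauchy q hq hqN
  have vp : c p = α ∨ c p = β := by
    rcases hval p with h | h | h | h
    · omega
    · exact absurd h (val_ne_one hC hp3)
    · exact Or.inl h
    · exact Or.inr h
  have vq : c q = α ∨ c q = β := by
    rcases hval q with h | h | h | h
    · omega
    · exact absurd h (val_ne_one hC hq3)
    · exact Or.inl h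
    · exact Or.inr h
  -- Frobenius at `4 p`
  have E1 : ∀ {s : ℕ}, s.Prime → s ≠ 2 → s ∣ N → (s : ℤ) ∣ (α : ℤ) + c (4 * s) := by
    intro s hs hs2 hsN
    have hso := odd_of_prime_ne_two hs hs2
    have hcop := coprime_four_of_odd hso
    have h := hC.frob (4 * s) (hcop.mul_dvd_of_dvd_of_dvd h4 hsN)
    rw [sum_four_mul hcop, hs.sum_divisors, hs.sum_divisors, hs.sum_divisors] at h
    simp only [one_mul, mul_one] at h
    rw [hC.c1, hc2, hdouble s hso, hα] at h
    have h1 : (s : ℤ) ∣ ((c s + 1 + (c s + 1) + (c (4 * s) + α) : ℕ) : ℤ) :=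
      Int.natCast_dvd_natCast.mpr ((Dvd.intro_left _ rfl).trans h)
    push_cast at h1
    have h2 := neg_one_mod hC hs hsN
    have e : (α : ℤ) + c (4 * s) =
        ((c s : ℤ) + 1 + ((c s : ℤ) + 1) + ((c (4 * s) : ℤ) + α)) - 2 * ((c s : ℤ) + 1) := by ring
    rw [e]
    exact dvd_sub h1 (Dvd.dvd.mul_left h2 2)
  have k1p := neg_one_mod hC hp hpN
  have k1q := neg_one_mod hC hq hqN
  have k2p := pair_mod hC hp hq hpq hpN hqN
  have k2q := pair_mod' hC hp hq hpq hpN hqN
  have k3p := E1 hp hp2 hpN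
  have k3q := E1 hq hq2 hqN
  -- the generic "mixed" contradiction: `c s = α`, `c s' = β`
  have mixed : ∀ {s s' : ℕ}, s.Prime → s ≠ 2 → (s : ℤ) ∣ (c s : ℤ) + 1 → c s = α →
      (s : ℤ) ∣ (c s' : ℤ) + c (s * s') → c s' = β → (c (s * s') = 0 ∨ c (s * s') = β) →
      (s : ℤ) ∣ (α : ℤ) + c (4 * s) → (c (4 * s) = 0 ∨ c (4 * s) = β) → False := by
    intro s s' hs hs2 k1 hsα k2 hs'β vss k3 v4s
    rw [hsα] at k1
    rw [hs'β] at k2
    have hβ : (s : ℤ) ∣ (β : ℤ) := by
      rcases vss with h0 | h0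
      · rw [h0] at k2; simpa using k2
      · rw [h0] at k2; exact dvd_of_dvd_two_mul hs hs2 k2
    apply not_dvd_one hs
    rcases v4s with h0 | h0
    · rw [h0] at k3
      have e : (1 : ℤ) = ((α : ℤ) + 1) - ((α : ℤ) + ((0 : ℕ) : ℤ)) := by push_cast; ring
      rw [e]; exact dvd_sub k1 k3
    · rw [h0] at k3
      have e : (1 : ℤ) = ((α : ℤ) + 1) - ((α : ℤ) + β) + β := by ring
      rw [e]; exact dvd_add (dvd_sub k1 k3) hβ
  rcases vp with hpα | hpβ
  · rcases vq with hqα | hqβ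
    · -- Case 1
      rw [hpα] at k1p
      rw [hqα] at k1q k2p
      have hpq1 : (p : ℤ) ∣ (c (p * q) : ℤ) - 1 := by
        have e : (c (p * q) : ℤ) - 1 = ((α : ℤ) + c (p * q)) - ((α : ℤ) + 1) := by ring
        rw [e]; exact dvd_sub k2p k1p
      have hpqβ : c (p * q) = β := by
        rcases vpq with h0 | h0
        · exfalso
          rw [h0] at hpq1
          apply not_dvd_one hp
          have : (p : ℤ) ∣ -(((0 : ℕ) : ℤ) - 1) := (dvd_neg).mpr hpq1
          simpa using this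
        · exact h0
      rw [hpqβ] at hpq1
      have h4p1 : (p : ℤ) ∣ (c (4 * p) : ℤ) - 1 := by
        have e : (c (4 * p) : ℤ) - 1 = ((α : ℤ) + c (4 * p)) - ((α : ℤ) + 1) := by ring
        rw [e]; exact dvd_sub k3p k1p
      have h4pβ : c (4 * p) = β := by
        rcases v4p with h0 | h0
        · exfalso
          rw [h0] at h4p1
          apply not_dvd_one hp
          have : (p : ℤ) ∣ -(((0 : ℕ) : ℤ) - 1) := (dvd_neg).mpr h4p1
          simpa using this
        · exact h0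
      have h4q1 : (q : ℤ) ∣ (c (4 * q) : ℤ) - 1 := by
        have e : (c (4 * q) : ℤ) - 1 = ((α : ℤ) + c (4 * q)) - ((α : ℤ) + 1) := by ring
        rw [e]; exact dvd_sub k3q k1q
      have h4qβ : c (4 * q) = β := by
        rcases v4q with h0 | h0
        · exfalso
          rw [h0] at h4q1
          apply not_dvd_one hq
          have : (q : ℤ) ∣ -(((0 : ℕ) : ℤ) - 1) := (dvd_neg).mpr h4q1
          simpa using this
        · exact h0
      -- Frobenius at `4 p q`
      have hcop := coprime_four_of_odd hpqo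
      have hpqN : p * q ∣ N := ((Nat.coprime_primes hp hq).mpr hpq).mul_dvd_of_dvd_of_dvd hpN hqN
      have h := hC.frob (4 * (p * q)) (hcop.mul_dvd_of_dvd_of_dvd h4 hpqN)
      rw [sum_four_mul hcop] at h
      have hs1 : ∑ b ∈ (p * q).divisors, c (1 * b) = 1 + α + α + β := by
        simp only [one_mul]
        rw [sum_two_primes c hp hq hpq, hC.c1, hpα, hqα, hpqβ]
      have hs2 : ∑ b ∈ (p * q).divisors, c (2 * b) = 1 + α + α + β := by
        rw [sum_two_primes (fun b => c (2 * b)) hp hq hpq]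
        simp only [mul_one]
        rw [hc2, hdouble p hpo, hdouble q hqo, hdouble (p * q) hpqo, hpα, hqα, hpqβ]
      have hs4 : ∑ b ∈ (p * q).divisors, c (4 * b) = α + β + β + c (4 * (p * q)) := by
        rw [sum_two_primes (fun b => c (4 * b)) hp hq hpq]
        simp only [mul_one]
        rw [hα, h4pβ, h4qβ]
      rw [hs1, hs2, hs4] at h
      have h1 : (p : ℤ) ∣ ((1 + α + α + β + (1 + α + α + β) + (α + β + β + c (4 * (p * q))) : ℕ) : ℤ) :=
        Int.natCast_dvd_natCast.mpr (((Dvd.intro _ rfl : p ∣ p * q).trans (Dvd.intro_left _ rfl)).trans h)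
      push_cast at h1
      have hx : (p : ℤ) ∣ (c (4 * (p * q)) : ℤ) + 1 := by
        have e : (c (4 * (p * q)) : ℤ) + 1 =
            (1 + (α : ℤ) + α + β + (1 + (α : ℤ) + α + β) + ((α : ℤ) + β + β + c (4 * (p * q))))
              - 5 * ((α : ℤ) + 1) - 4 * ((β : ℤ) - 1) := by ring
        rw [e]
        exact dvd_sub (dvd_sub h1 (Dvd.dvd.mul_left k1p 5)) (Dvd.dvd.mul_left hpq1 4)
      rcases v4pq with h0 | h0
      · rw [h0] at hx
        apply not_dvd_one hp
        simpa using hx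
      · rw [h0] at hx
        apply not_dvd_two hp hp2
        have e : (2 : ℤ) = ((β : ℤ) + 1) - ((β : ℤ) - 1) := by ring
        rw [e]; exact dvd_sub hx hpq1
    · -- Case 3
      exact mixed hp hp2 k1p hpα k2p hqβ vpq k3p v4p
  · rcases vq with hqα | hqβ
    · -- Case 4
      have vqp : c (q * p) = 0 ∨ c (q * p) = β := by rw [mul_comm]; exact vpq
      have k2q' : (q : ℤ) ∣ (c p : ℤ) + c (q * p) := by rw [mul_comm q p]; exact k2q
      exact mixed hq hq2 k1q hqα k2q' hpβ vqp k3q v4q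
    · -- Case 2
      rw [hpβ] at k1p
      rw [hqβ] at k2p
      apply not_dvd_one hp
      have hβ : (p : ℤ) ∣ (β : ℤ) := by
        rcases vpq with h0 | h0
        · rw [h0] at k2p; simpa using k2p
        · rw [h0] at k2p; exact dvd_of_dvd_two_mul hp hp2 k2p
      have e : (1 : ℤ) = ((β : ℤ) + 1) - β := by ring
      rw [e]; exact dvd_sub k1p hβ

/-- (E) order divisible by four, a unique involution: no two distinct odd primes divide `N`. -/
theorem four_unique_no_two {N : ℕ} {c : ℕ → ℕ} (m n : ℕ) (hC : Cnt N c) (h4 : 4 ∣ N)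
    (hc2 : c 2 = 1) (hdouble : ∀ d, Odd d → c (2 * d) = c d)
    (hval : ∀ d, c d = 0 ∨ c d = 1 ∨ c d = m ∨ c d = n)
    (p q : ℕ) (hp : p.Prime) (hq : q.Prime) (hp2 : p ≠ 2) (hq2 : q ≠ 2) (hpq : p ≠ q)
    (hpN : p ∣ N) (hqN : q ∣ N) : False := by
  have hα4 : c 4 % 4 = 2 := by
    have h := hC.frob 4 h4
    rw [sum_four, hC.c1, hc2] at h
    omega
  rcases hval 4 with h | h | h | h
  · omega
  · omega
  · exact four_unique_core m n hC h4 hc2 hdouble h hval p q hp hq hp2 hq2 hpq hpN hqN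
  · refine four_unique_core n m hC h4 hc2 hdouble h (fun d => ?_) p q hp hq hp2 hq2 hpq hpN hqN
    rcases hval d with h' | h' | h' | h'
    · exact Or.inl h'
    · exact Or.inr (Or.inl h')
    · exact Or.inr (Or.inr (Or.inr h'))
    · exact Or.inr (Or.inr (Or.inl h'))

end Cfsg.Agent.Lib.Helper2.SOT3
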