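import Mathlib

/-!
# Same-order type with three values: the abstract counting data

`Cnt N c` records the arithmetic facts about the function `c d = #{g : G // orderOf g = d}`
of a finite group `G` of order `N` that are used in the proof of S3996 / S4004.
-/

set_option autoImplicit false

namespace Cfsg.Agent.Lib.Helper2.SOT3

/-- abstract counting data of a finite group of order `N` : `c d` is the number of elements of order `d`. -/
structure Cnt (N : ℕ) (c : ℕ → ℕ) : Prop where
  npos : 0 < N
  c1 : c 1 = 1
  frob : ∀ k, k ∣ N → k ∣ ∑ d ∈ k.divisors, c d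
  cauchy : ∀ p, p.Prime → p ∣ N → 0 < c p
  dvd : ∀ d, 0 < c d → d ∣ N
  pow : ∀ d e, d ∣ e → 0 < c e → 0 < c d
  tot : ∀ d, Nat.totient d ∣ c d
  total : ∑ d ∈ N.divisors, c d = N

end Cfsg.Agent.Lib.Helper2.SOT3
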