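import Cfsg.Agent.Lib.Helper2.SOT3D

/-!
# Same-order type with three values, odd order, two primes: arithmetic
-/

set_option autoImplicit false
set_option linter.style.haveILetI false

namespace Cfsg.Agent.Lib.Helper2.SOT4

open Cfsg.Agent.Lib.Helper2.SOT3

/-- (A1) odd order: two distinct primes have distinct counts. -/
theorem odd_values_ne {N : ℕ} {c : ℕ → ℕ} (m n : ℕ) (hC : Cnt N c) (hodd : Odd N)
    (hval : ∀ d, c d = 0 ∨ c d = 1 ∨ c d = m ∨ c d = n)
    (p q : ℕ) (hp : p.Prime) (hq : q.Prime) (hpq : p ≠ q) (hpN : p ∣ N) (hqN : q ∣ N) :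
    c p ≠ c q := by
  intro h
  obtain ⟨hp2, hp3⟩ := odd_prime_ge hodd hp hpN
  obtain ⟨hq2, hq3⟩ := odd_prime_ge hodd hq hqN
  obtain ⟨hν0, hνμ, -⟩ := same_pair hC hp hq hp2 hpq hpN hqN h
  have hcp := hC.cauchy p hp hpN
  have vp := val3 hC hval hp3
  have vpq := val3 hC hval (d := p * q) (by nlinarith)
  -- every prime has the value `c p`
  have hall : ∀ t : ℕ, t.Prime → t ∣ N → c t = c p := by
    intro t ht htN
    by_cases h1 : t = p
    · rw [h1]
    · by_cases h2 : t = q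
      · rw [h2, h]
      · exact third_prime hC hodd hval hp hq ht hpq (Ne.symm h1) (Ne.symm h2) hpN hqN htN h
  -- congruences for every prime
  have hcong : ∀ t : ℕ, t.Prime → t ∣ N →
      (t : ℤ) ∣ (c p : ℤ) + 1 ∧ (t : ℤ) ∣ (c (p * q) : ℤ) - 1 := by
    intro t ht htN
    obtain ⟨ht2, ht3⟩ := odd_prime_ge hodd ht htN
    have h1 := neg_one_mod hC ht htN
    rw [hall t ht htN] at h1
    refine ⟨h1, ?_⟩
    obtain ⟨t', ht', htt', ht'N⟩ : ∃ t' : ℕ, t'.Prime ∧ t ≠ t' ∧ t' ∣ N := by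
      by_cases h1 : t = p
      · exact ⟨q, hq, by rw [h1]; exact hpq, hqN⟩
      · exact ⟨p, hp, h1, hpN⟩
    obtain ⟨ht'2, ht'3⟩ := odd_prime_ge hodd ht' ht'N
    obtain ⟨k0, kμ, kd⟩ := same_pair hC ht ht' ht2 htt' htN ht'N
      ((hall t ht htN).trans (hall t' ht' ht'N).symm)
    have vtt := val3 hC hval (d := t * t') (by nlinarith)
    rw [hall t ht htN] at kμ
    have : c (t * t') = c (p * q) := by omega
    rwa [this] at kd
  -- nothing has order `t ^ 2`
  have hsq : ∀ t : ℕ, t.Prime → t ∣ N → ∀ i, 2 ≤ i → c (t ^ i) = 0 := by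
    intro t ht htN i hi
    obtain ⟨ht2, ht3⟩ := odd_prime_ge hodd ht htN
    obtain ⟨k1, k2⟩ := hcong t ht htN
    by_contra hne
    have hpos : 0 < c (t ^ 2) :=
      hC.pow (t ^ 2) (t ^ i) (pow_dvd_pow t hi) (Nat.pos_of_ne_zero hne)
    have htot : t ∣ c (t ^ 2) := by
      have h1 := hC.tot (t ^ 2)
      rw [Nat.totient_prime_pow ht (by norm_num : 0 < 2)] at h1
      have h2 : t ∣ t ^ (2 - 1) * (t - 1) := by
        rw [show 2 - 1 = 1 from rfl, pow_one]; exact Dvd.intro _ rfl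
      exact h2.trans h1
    have htot' : (t : ℤ) ∣ (c (t ^ 2) : ℤ) := Int.natCast_dvd_natCast.mpr htot
    have vsq := val3 hC hval (d := t ^ 2) (by nlinarith)
    have : c (t ^ 2) = c p ∨ c (t ^ 2) = c (p * q) := by omega
    rcases this with h0 | h0
    · rw [h0] at htot'
      apply not_dvd_one ht
      have e : (1 : ℤ) = ((c p : ℤ) + 1) - (c p : ℤ) := by ring
      rw [e]; exact dvd_sub k1 htot'
    · rw [h0] at htot'
      apply not_dvd_one ht
      have e : (1 : ℤ) = (c (p * q) : ℤ) - ((c (p * q) : ℤ) - 1) := by ring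
      rw [e]; exact dvd_sub htot' k2
  -- `N ∣ 1 + c p`
  have hdvd : N ∣ 1 + c p := by
    rw [Nat.dvd_iff_prime_pow_dvd_dvd]
    intro t k ht hk
    rcases Nat.eq_zero_or_pos k with rfl | hkpos
    · simp
    · have htN : t ∣ N := (dvd_pow_self t hkpos.ne').trans hk
      obtain ⟨k', rfl⟩ : ∃ k', k = k' + 1 := ⟨k - 1, by omega⟩
      have h1 := hC.frob _ hk
      rw [sum_prime_pow_of_sq_zero c ht (hsq t ht htN) k', hC.c1, hall t ht htN] at h1
      exact h1
  -- but `1 + c p < N`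
  have hlt : 1 + c p < N := by
    have hsub : ({1, p, q} : Finset ℕ) ⊆ N.divisors := by
      intro d hd
      simp only [Finset.mem_insert, Finset.mem_singleton] at hd
      rw [Nat.mem_divisors]
      refine ⟨?_, hC.npos.ne'⟩
      rcases hd with rfl | rfl | rfl
      · exact one_dvd _
      · exact hpN
      · exact hqN
    have h1 := Finset.sum_le_sum_of_subset (f := c) hsub
    rw [hC.total, Finset.sum_insert (by
      simp only [Finset.mem_insert, Finset.mem_singleton]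
      rintro (h1 | h1)
      · exact hp.one_lt.ne h1
      · exact hq.one_lt.ne h1), Finset.sum_insert (by
      simp only [Finset.mem_singleton]; exact hpq), Finset.sum_singleton, hC.c1, ← h] at h1
    omega
  have := Nat.le_of_dvd (by omega) hdvd
  omega

/-- values at the two primes and at `d ≥ 3`. -/
theorem val_two {N : ℕ} {c : ℕ → ℕ} (m n : ℕ) (hC : Cnt N c) (hodd : Odd N)
    (hval : ∀ d, c d = 0 ∨ c d = 1 ∨ c d = m ∨ c d = n)
    (p q : ℕ) (hp : p.Prime) (hq : q.Prime) (hpq : p ≠ q) (hpN : p ∣ N) (hqN : q ∣ N)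
    {d : ℕ} (hd : 3 ≤ d) : c d = 0 ∨ c d = c p ∨ c d = c q := by
  have hne := odd_values_ne m n hC hodd hval p q hp hq hpq hpN hqN
  obtain ⟨hp2, hp3⟩ := odd_prime_ge hodd hp hpN
  obtain ⟨hq2, hq3⟩ := odd_prime_ge hodd hq hqN
  have hcp := hC.cauchy p hp hpN
  have hcq := hC.cauchy q hq hqN
  have vp := val3 hC hval hp3
  have vq := val3 hC hval hq3
  have vd := val3 hC hval hd
  omega

/-- (A2) arithmetic: no elements of order `p q`. -/
theorem no_mixed_arith {N : ℕ} {c : ℕ → ℕ} (m n : ℕ) (hC : Cnt N c) (hodd : Odd N)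
    (hval : ∀ d, c d = 0 ∨ c d = 1 ∨ c d = m ∨ c d = n)
    (p q : ℕ) (hp : p.Prime) (hq : q.Prime) (hpq : p ≠ q) (hpN : p ∣ N) (hqN : q ∣ N)
    (h1 : (p : ℤ) ∣ (c q : ℤ) - 1 → (q - 1) * c p ≤ c (p * q))
    (h2 : (q : ℤ) ∣ (c p : ℤ) - 1 → (p - 1) * c q ≤ c (p * q)) : c (p * q) = 0 := by
  obtain ⟨hp2, hp3⟩ := odd_prime_ge hodd hp hpN
  obtain ⟨hq2, hq3⟩ := odd_prime_ge hodd hq hqN
  have hcp := hC.cauchy p hp hpN
  have hcq := hC.cauchy q hq hqN
  have k1p := neg_one_mod hC hp hpN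
  have k1q := neg_one_mod hC hq hqN
  have k2p := pair_mod hC hp hq hpq hpN hqN
  have k2q := pair_mod' hC hp hq hpq hpN hqN
  rcases val_two m n hC hodd hval p q hp hq hpq hpN hqN (d := p * q) (by nlinarith) with h0 | h0 | h0
  · exact h0
  · exfalso
    rw [h0] at k2p
    have h3 : (p : ℤ) ∣ (c q : ℤ) - 1 := by
      have e : (c q : ℤ) - 1 = ((c q : ℤ) + c p) - ((c p : ℤ) + 1) := by ring
      rw [e]; exact dvd_sub k2p k1p
    have h4 := h1 h3
    rw [h0] at h4
    have : 2 * c p ≤ (q - 1) * c p := Nat.mul_le_mul_right _ (by omega)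
    omega
  · exfalso
    rw [h0] at k2q
    have h3 : (q : ℤ) ∣ (c p : ℤ) - 1 := by
      have e : (c p : ℤ) - 1 = ((c p : ℤ) + c q) - ((c q : ℤ) + 1) := by ring
      rw [e]; exact dvd_sub k2q k1q
    have h4 := h2 h3
    rw [h0] at h4
    have : 2 * c q ≤ (p - 1) * c q := Nat.mul_le_mul_right _ (by omega)
    omega

/-- (A3) arithmetic: no elements of order `p ^ 2`. -/
theorem sq_zero_arith {N : ℕ} {c : ℕ → ℕ} (m n : ℕ) (hC : Cnt N c) (hodd : Odd N)
    (hval : ∀ d, c d = 0 ∨ c d = 1 ∨ c d = m ∨ c d = n)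
    (p q : ℕ) (hp : p.Prime) (hq : q.Prime) (hpq : p ≠ q) (hpN : p ∣ N) (hqN : q ∣ N)
    (hfree : q ∣ c (p ^ 2)) : c (p ^ 2) = 0 := by
  obtain ⟨hp2, hp3⟩ := odd_prime_ge hodd hp hpN
  have k1p := neg_one_mod hC hp hpN
  have k1q := neg_one_mod hC hq hqN
  have htot : p ∣ c (p ^ 2) := by
    have h1 := hC.tot (p ^ 2)
    rw [Nat.totient_prime_pow hp (by norm_num : 0 < 2)] at h1
    have h2 : p ∣ p ^ (2 - 1) * (p - 1) := by
      rw [show 2 - 1 = 1 from rfl, pow_one]; exact Dvd.intro _ rfl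
    exact h2.trans h1
  rcases val_two m n hC hodd hval p q hp hq hpq hpN hqN (d := p ^ 2) (by nlinarith) with h0 | h0 | h0
  · exact h0
  · exfalso
    rw [h0] at htot
    apply not_dvd_one hp
    have e : (1 : ℤ) = ((c p : ℤ) + 1) - (c p : ℤ) := by ring
    rw [e]; exact dvd_sub k1p (Int.natCast_dvd_natCast.mpr htot)
  · exfalso
    rw [h0] at hfree
    apply not_dvd_one hq
    have e : (1 : ℤ) = ((c q : ℤ) + 1) - (c q : ℤ) := by ring
    rw [e]; exact dvd_sub k1q (Int.natCast_dvd_natCast.mpr hfree)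

end Cfsg.Agent.Lib.Helper2.SOT4
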