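import Mathlib

/-!
# Same-order type: all elements have prime order (G3), Sylow exponents (G8)
-/

set_option autoImplicit false
set_option linter.style.haveILetI false

namespace Cfsg.Agent.Lib.Helper2.SOT4

theorem cnt_ne_zero_of_orderOf {G : Type*} [Group G] [Finite G] (g : G) :
    Nat.card {h : G // orderOf h = orderOf g} ≠ 0 := by
  intro h0
  rw [Nat.card_eq_zero] at h0
  rcases h0 with h0 | h0
  · exact h0.elim ⟨g, rfl⟩
  · exact h0.not_finite inferInstance

/-- (G3) all elements have prime order. -/
theorem epo_of_counts {G : Type*} [Group G] [Finite G] (p q : ℕ) (hp : p.Prime) (hq : q.Prime)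
    (hpq : p ≠ q) (hdiv : ∀ r : ℕ, r.Prime → r ∣ Nat.card G → r = p ∨ r = q)
    (h0 : Nat.card {g : G // orderOf g = p * q} = 0)
    (hp2 : Nat.card {g : G // orderOf g = p ^ 2} = 0)
    (hq2 : Nat.card {g : G // orderOf g = q ^ 2} = 0) :
    ∀ g : G, g ≠ 1 → orderOf g = p ∨ orderOf g = q := by
  intro g hg
  -- no element has order `d` when `c d = 0`
  have key : ∀ d : ℕ, Nat.card {g : G // orderOf g = d} = 0 → d ∣ orderOf g → False := by
    intro d hd hdvd
    obtain ⟨k, hk⟩ := hdvd
    have hpos := orderOf_pos g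
    have hk0 : k ≠ 0 := by
      rintro rfl
      rw [mul_zero] at hk
      omega
    have hord : orderOf (g ^ k) = d := by
      rw [orderOf_pow_of_dvd hk0 ⟨d, by rw [hk]; ring⟩, hk]
      exact Nat.mul_div_cancel _ (Nat.pos_of_ne_zero hk0)
    have := cnt_ne_zero_of_orderOf (g ^ k)
    rw [hord] at this
    exact this hd
  have hd1 : orderOf g ≠ 1 := fun h => hg (orderOf_eq_one_iff.mp h)
  have hprimes : ∀ r : ℕ, r.Prime → r ∣ orderOf g → r = p ∨ r = q := fun r hr hrd =>
    hdiv r hr (hrd.trans (orderOf_dvd_natCard g))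
  -- the order is a prime power
  obtain ⟨r, hr, hrd⟩ := Nat.exists_prime_and_dvd hd1
  have huniq : ∀ {s : ℕ}, s.Prime → s ∣ orderOf g → s = r := by
    intro s hs hsd
    by_contra hne
    have hcop : Nat.Coprime s r := (Nat.coprime_primes hs hr).mpr hne
    have hsr : s * r ∣ orderOf g := hcop.mul_dvd_of_dvd_of_dvd hsd hrd
    rcases hprimes s hs hsd with rfl | rfl <;> rcases hprimes r hr hrd with rfl | rfl
    · exact hne rfl
    · exact key _ h0 hsr
    · exact key _ h0 (by rw [mul_comm]; exact hsr)
    · exact hne rfl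
  have hpow := Nat.eq_prime_pow_of_unique_prime_dvd (orderOf_pos g).ne' huniq
  set k := (orderOf g).primeFactorsList.length with hk
  have hk1 : k ≠ 0 := by
    intro h
    rw [h, pow_zero] at hpow
    exact hd1 hpow
  have hk2 : k < 2 := by
    by_contra hge
    have h2 : r ^ 2 ∣ orderOf g := by
      rw [hpow]; exact pow_dvd_pow r (by omega)
    rcases hprimes r hr hrd with rfl | rfl
    · exact key _ hp2 h2
    · exact key _ hq2 h2
  have hk3 : k = 1 := by omega
  rw [hk3, pow_one] at hpow
  rw [hpow]
  exact hprimes r hr hrd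

/-- (G8) the Sylow subgroups have prime exponent. -/
theorem exponent_sylow_of_epo {G : Type*} [Group G] [Finite G] (p q : ℕ) (hp : p.Prime)
    (hq : q.Prime) (hepo : ∀ g : G, g ≠ 1 → orderOf g = p ∨ orderOf g = q)
    (r : ℕ) [Fact r.Prime] (P : Sylow r G) (hr : r ∣ Nat.card G) :
    Monoid.exponent ↥(P : Subgroup G) = r := by
  have hrp : r.Prime := Fact.out
  -- every element of `P` has order dividing `r`
  have hpow : ∀ x : ↥(P : Subgroup G), x ^ r = 1 := by
    intro x
    by_cases hx : x = 1
    · rw [hx, one_pow]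
    · obtain ⟨k, hk⟩ := (IsPGroup.iff_orderOf.mp P.isPGroup') x
      have hx' : (x : G) ≠ 1 := fun h => hx (Subtype.ext h)
      have hord : orderOf (x : G) = r ^ k := by rw [Subgroup.orderOf_coe]; exact hk
      have hk0 : k ≠ 0 := by
        rintro rfl
        rw [pow_zero, orderOf_eq_one_iff] at hk
        exact hx hk
      have hrk : r ∣ r ^ k := dvd_pow_self r hk0
      have : orderOf (x : G) = r := by
        rcases hepo (x : G) hx' with h | h
        · rw [h] at hord
          have : r = p := (Nat.prime_dvd_prime_iff_eq hrp hp).mp (by rw [hord]; exact hrk)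
          rw [h, this]
        · rw [h] at hord
          have : r = q := (Nat.prime_dvd_prime_iff_eq hrp hq).mp (by rw [hord]; exact hrk)
          rw [h, this]
      apply Subtype.ext
      rw [Subgroup.coe_pow, Subgroup.coe_one]
      exact orderOf_dvd_iff_pow_eq_one.mp (by rw [this])
  have hdvd : Monoid.exponent ↥(P : Subgroup G) ∣ r := Monoid.exponent_dvd_of_forall_pow_eq_one hpow
  rcases (Nat.dvd_prime hrp).mp hdvd with h1 | h1
  · exfalso
    have htriv : ∀ x : ↥(P : Subgroup G), x = 1 := by
      intro x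
      have := Monoid.pow_exponent_eq_one x
      rwa [h1, pow_one] at this
    have hcard : Nat.card ↥(P : Subgroup G) = 1 := by
      rw [Nat.card_eq_one_iff_exists]
      exact ⟨1, fun x => htriv x⟩
    have h2 := P.card_eq_multiplicity
    rw [hcard] at h2
    have hpos : 0 < (Nat.card G).factorization r :=
      hrp.factorization_pos_of_dvd Nat.card_pos.ne' hr
    have : 1 < r ^ (Nat.card G).factorization r := Nat.one_lt_pow hpos.ne' hrp.one_lt
    omega
  · exact h1

end Cfsg.Agent.Lib.Helper2.SOT4
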