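import Cfsg.Prelude.Def_Solvable
import Cfsg.Agent.Lib.Helper5.SOT4x
import Cfsg.Agent.Lib.Helper3.SOT4G5

set_option autoImplicit false
set_option linter.style.haveILetI false

namespace Cfsg.Agent.Lib.Helper2.SOT4

open Cfsg.Agent.Lib.Helper5.SOT4 (not_sq_dvd_card_of_epo)
open Cfsg.Agent.Lib.Helper3.SOT4 (false_of_normalizing_p_element)
open Pointwise

/-- (G6) a Frobenius complement of order `q`. -/
theorem frobenius_complement_of_epo {G : Type*} [Group G] [Finite G] (p q : ℕ) (hp : p.Prime)
    (hq : q.Prime) (hpq : p ≠ q) (hqG : q ∣ Nat.card G)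
    (hepo : ∀ g : G, g ≠ 1 → orderOf g = p ∨ orderOf g = q)
    (V : Subgroup G) [V.Normal] (hVab : ∀ u ∈ V, ∀ v ∈ V, u * v = v * u) (hVp : IsPGroup p V)
    (hV1 : V ≠ ⊥) :
    ∃ C : Subgroup G, Cfsg.IsFrobeniusComplement C ∧ Nat.card C = q := by
  haveI : Fact q.Prime := ⟨hq⟩
  haveI : Fact p.Prime := ⟨hp⟩
  have hq2 := not_sq_dvd_card_of_epo p q hp hq hpq hepo V hVab hVp hV1
  let Q : Sylow q G := default
  have hfac : (Nat.card G).factorization q = 1 := by
    have h1 : 0 < (Nat.card G).factorization q :=
      hq.factorization_pos_of_dvd Nat.card_pos.ne' hqG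
    have h2 : ¬ 2 ≤ (Nat.card G).factorization q := by
      intro h
      exact hq2 ((hq.pow_dvd_iff_le_factorization Nat.card_pos.ne').mpr h)
    omega
  have hQcard : Nat.card (Q : Subgroup G) = q := by
    rw [Q.card_eq_multiplicity, hfac, pow_one]
  have hpG : p ∣ Nat.card G := by
    have hVnt : Nontrivial V := (Subgroup.nontrivial_iff_ne_bot V).mpr hV1
    obtain ⟨k, hk⟩ := hVp.exists_card_eq
    have hk0 : k ≠ 0 := by
      rintro rfl
      rw [pow_zero] at hk
      have := Finite.one_lt_card_iff_nontrivial.mpr hVnt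
      omega
    have h1 : p ∣ Nat.card V := by rw [hk]; exact dvd_pow_self p hk0
    exact h1.trans (Subgroup.card_subgroup_dvd_card V)
  refine ⟨(Q : Subgroup G), ⟨?_, ?_, ?_⟩, hQcard⟩
  · intro h
    rw [h, Subgroup.card_bot] at hQcard
    exact hq.one_lt.ne hQcard
  · intro h
    rw [h, Subgroup.card_top] at hQcard
    rw [hQcard] at hpG
    exact hpq ((Nat.prime_dvd_prime_iff_eq hp hq).mp hpG)
  · intro g hg
    by_contra hne
    -- `Q ⊓ g • Q = Q`
    have hle : (Q : Subgroup G) ⊓ (MulAut.conj g • (Q : Subgroup G)) ≤ (Q : Subgroup G) := inf_le_left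
    have hK : (Q : Subgroup G) ⊓ (MulAut.conj g • (Q : Subgroup G)) = (Q : Subgroup G) := by
      have hd := Subgroup.card_dvd_of_le hle
      rw [hQcard] at hd
      rcases (Nat.dvd_prime hq).mp hd with h1 | h1
      · exact absurd (Subgroup.card_eq_one.mp h1) hne
      · exact Subgroup.eq_of_le_of_card_ge hle (by rw [h1, hQcard])
    have hQle : (Q : Subgroup G) ≤ MulAut.conj g • (Q : Subgroup G) := by
      intro z hz
      rw [← hK] at hz
      exact (Subgroup.mem_inf.mp hz).2
    have hQeq : (Q : Subgroup G) = MulAut.conj g • (Q : Subgroup G) :=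
      Subgroup.eq_of_le_of_card_ge hQle
        (le_of_eq (Nat.card_congr (Subgroup.equivSMul (MulAut.conj g) (Q : Subgroup G)).toEquiv).symm)
    have hconj : ∀ h : G, h ∈ (Q : Subgroup G) ↔ g * h * g⁻¹ ∈ (Q : Subgroup G) := by
      intro h
      constructor
      · intro hh
        rw [hQeq]
        exact (Subgroup.mem_smul_pointwise_iff_exists _ _ _).mpr ⟨h, hh, by simp [MulAut.smul_def]⟩
      · intro hh
        rw [hQeq] at hh
        obtain ⟨s, hs, hsg⟩ := (Subgroup.mem_smul_pointwise_iff_exists _ _ _).mp hh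
        simp only [MulAut.smul_def, MulAut.conj_apply] at hsg
        have : s = h := by
          have := mul_left_cancel (mul_right_cancel hsg)
          exact this
        rw [← this]; exact hs
    have hg1 : g ≠ 1 := by
      rintro rfl
      exact hg (Subgroup.one_mem _)
    rcases hepo g hg1 with ho | ho
    · -- order `p`
      haveI : IsCyclic (Q : Subgroup G) := isCyclic_of_prime_card hQcard
      obtain ⟨y, hy⟩ := IsCyclic.exists_generator (α := (Q : Subgroup G))
      have hyord : orderOf (y : G) = q := by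
        rw [Subgroup.orderOf_coe, orderOf_eq_card_of_forall_mem_zpowers hy, hQcard]
      have hQz : (Q : Subgroup G) = Subgroup.zpowers (y : G) := by
        apply le_antisymm
        · intro h hh
          obtain ⟨k, hk⟩ := Subgroup.mem_zpowers_iff.mp (hy ⟨h, hh⟩)
          exact Subgroup.mem_zpowers_iff.mpr ⟨k, by
            have := congrArg Subtype.val hk
            simpa using this⟩
        · exact (Subgroup.zpowers_le).mpr y.2
      apply false_of_normalizing_p_element p q hp hq hpq hepo hq2 V hVab hVp hV1 g (y : G) ho hyord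
      rw [← hQz]
      exact (hconj y).mp y.2
    · -- order `q`
      apply hg
      have hPg : IsPGroup q (Subgroup.zpowers g) := by
        apply IsPGroup.of_card (n := 1)
        rw [Nat.card_zpowers, ho, pow_one]
      have hnorm : g ∈ Subgroup.normalizer ((Q : Subgroup G) : Set G) := by
        rw [Subgroup.mem_normalizer_iff]
        exact hconj
      have h1 := hPg.inf_normalizer_sylow Q
      have h2 : g ∈ Subgroup.zpowers g ⊓ Subgroup.normalizer (Q : Set G) :=
        Subgroup.mem_inf.mpr ⟨Subgroup.mem_zpowers g, hnorm⟩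
      rw [h1] at h2
      exact (Subgroup.mem_inf.mp h2).2

end Cfsg.Agent.Lib.Helper2.SOT4
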