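import Mathlib
import Cfsg.Agent.Lib.Helper5.SympPrimitive
import Cfsg.Agent.Lib.Helper6.WlC

set_option autoImplicit false
set_option linter.unusedSectionVars false
set_option linter.unusedVariables false
set_option linter.unusedSimpArgs false
set_option linter.style.haveILetI false

/-!
Farm SPE (statement S2333), unit N, part 1: generic facts.
* `trace_sym_mul_alt`: in characteristic two `tr (T S) = 0` for `T` symmetric and `S` symmetric
  with zero diagonal;
* `uQ_alt_not_central`: `uQ (E₀₁ + E₁₀)` is not central in `Sp_{2n}`, `n ≥ 2`;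
* `ker_eq_top`: a normal subgroup of a perfect `Sp_{2n}` containing it is everything.
-/

namespace Cfsg.Agent.Lib.Helper2.SPE

open Matrix Cfsg Cfsg.Agent.Lib.Helper6.Wl

variable {F : Type*} [Field F] {n : ℕ}

/-- the strictly upper triangular part -/
def upperPart (S : Matrix (Fin n) (Fin n) F) : Matrix (Fin n) (Fin n) F :=
  Matrix.of fun i j => if i < j then S i j else 0

theorem upperPart_add_transpose (S : Matrix (Fin n) (Fin n) F) (hS : Sᵀ = S)
    (hd : ∀ i, S i i = 0) : upperPart S + (upperPart S)ᵀ = S := by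
  ext i j
  simp only [upperPart, Matrix.add_apply, of_apply, transpose_apply]
  rcases lt_trichotomy i j with h | h | h
  · rw [if_pos h, if_neg (not_lt.mpr h.le), add_zero]
  · subst h
    rw [if_neg (lt_irrefl _), add_zero, hd]
  · rw [if_neg (not_lt.mpr h.le), if_pos h, zero_add]
    have := congrFun (congrFun hS i) j
    rw [transpose_apply] at this
    exact this

theorem trace_sym_mul_alt (h2 : (2 : F) = 0) (T S : Matrix (Fin n) (Fin n) F) (hT : Tᵀ = T)
    (hS : Sᵀ = S) (hd : ∀ i, S i i = 0) : Matrix.trace (T * S) = 0 := by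
  conv_lhs => rw [← upperPart_add_transpose S hS hd]
  rw [Matrix.mul_add, Matrix.trace_add]
  have h1 : Matrix.trace (T * (upperPart S)ᵀ) = Matrix.trace (T * upperPart S) := by
    rw [← Matrix.trace_transpose, transpose_mul, transpose_transpose, hT, Matrix.trace_mul_comm]
  rw [h1, ← two_mul, h2, zero_mul]

/-- the alternating matrix `E₀₁ + E₁₀` -/
def altUnit (hn : 2 ≤ n) : symAdd F n :=
  ⟨symUnit ⟨0, by omega⟩ ⟨1, by omega⟩, symUnit_mem _ _⟩

theorem altUnit_diag (hn : 2 ≤ n) (i : Fin n) :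
    ((altUnit hn : symAdd F n) : Matrix (Fin n) (Fin n) F) i i = 0 := by
  show symUnit (⟨0, by omega⟩ : Fin n) ⟨1, by omega⟩ i i = 0
  unfold symUnit
  rw [Matrix.add_apply, Matrix.single_apply, Matrix.single_apply]
  have h01 : ¬ ((⟨0, by omega⟩ : Fin n) = i ∧ (⟨1, by omega⟩ : Fin n) = i) := by
    rintro ⟨h, h'⟩
    have := h.trans h'.symm
    simp at this
  have h10 : ¬ ((⟨1, by omega⟩ : Fin n) = i ∧ (⟨0, by omega⟩ : Fin n) = i) := by
    rintro ⟨h, h'⟩
    have := h.trans h'.symm
    simp at this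
  rw [if_neg h01, if_neg h10, add_zero]

/-- `E₀₀` as a symmetric matrix -/
def diagUnit (hn : 2 ≤ n) : symAdd F n :=
  ⟨Matrix.single (⟨0, by omega⟩ : Fin n) (⟨0, by omega⟩ : Fin n) (1 : F), by
    show (Matrix.single (⟨0, by omega⟩ : Fin n) (⟨0, by omega⟩ : Fin n) (1 : F))ᵀ = _
    rw [Matrix.transpose_single]⟩

theorem uQ_alt_not_comm (hn : 2 ≤ n) :
    uQ (altUnit hn : symAdd F n) * lQ (diagUnit hn) ≠ lQ (diagUnit hn) * uQ (altUnit hn) := by
  intro h
  have h1 := congrArg (fun g : symplecticGroup (Fin n) F =>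
    (g : Matrix (Fin n ⊕ Fin n) (Fin n ⊕ Fin n) F) (Sum.inl ⟨1, by omega⟩) (Sum.inl ⟨0, by omega⟩)) h
  simp only [Submonoid.coe_mul, uQ_coe, lQ_coe, fromBlocks_multiply] at h1
  simp only [Matrix.one_mul, Matrix.mul_one, Matrix.mul_zero, Matrix.zero_mul, add_zero, zero_add,
    fromBlocks_apply₁₁, Matrix.add_apply] at h1
  have h2 : ((altUnit hn : symAdd F n) : Matrix (Fin n) (Fin n) F) *
      ((diagUnit hn : symAdd F n) : Matrix (Fin n) (Fin n) F) =
      Matrix.single ⟨1, by omega⟩ ⟨0, by omega⟩ 1 := by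
    show symUnit (⟨0, by omega⟩ : Fin n) ⟨1, by omega⟩ *
      Matrix.single (⟨0, by omega⟩ : Fin n) ⟨0, by omega⟩ (1 : F) = _
    unfold symUnit
    rw [Matrix.add_mul, Matrix.single_mul_single_of_ne, Matrix.single_mul_single_same, zero_add,
      mul_one]
    intro h
    have := congrArg Fin.val h
    simp at this
  rw [h2] at h1
  simp [Matrix.one_apply, Matrix.single_apply] at h1

/-- a normal subgroup of a perfect `Sp_{2n}` containing `uQ (E₀₁ + E₁₀)` is everything -/
theorem eq_top_of_uQ_alt_mem (hn : 2 ≤ n)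
    (hperf : commutator (symplecticGroup (Fin n) F) = ⊤)
    (N : Subgroup (symplecticGroup (Fin n) F)) [N.Normal]
    (h : uQ (altUnit hn : symAdd F n) ∈ N) : N = ⊤ := by
  rcases Cfsg.Agent.Lib.Helper5.SympPrimitive.normal_le_center_or_eq_top n hperf N with hc | ht
  · exfalso
    have h1 := hc h
    rw [Subgroup.mem_center_iff] at h1
    exact uQ_alt_not_comm hn (h1 (lQ (diagUnit hn))).symm
  · exact ht

end Cfsg.Agent.Lib.Helper2.SPE
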