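import Mathlib
import Cfsg.Agent.Lib.Helper5.SPEDefs
import Cfsg.Agent.Lib.Helper2.SPEN1

set_option autoImplicit false
set_option linter.unusedSectionVars false
set_option linter.unusedVariables false
set_option linter.unusedSimpArgs false
set_option linter.style.haveILetI false

/-!
Farm SPE (statement S2333), unit N, part 2: a projector with nonzero polar form, with the two facts of unit P used
(`rho_mul_eC`, `sum_eC`) as hypotheses.
-/

namespace Cfsg.Agent.Lib.Helper2.SPE

open Matrix Cfsg Cfsg.Agent.Lib.Helper6.Wl Cfsg.Agent.Lib.Helper5.SPE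

variable {F : Type*} [Field F] [Fintype F] [DecidableEq F] {n : ℕ}
variable {V : Type*} [AddCommGroup V] [Module ℂ V] [FiniteDimensional ℂ V]
variable (ρ : Representation ℂ (symplecticGroup (Fin n) F) V) (ψ : AddChar F ℂ)

theorem trace_mul_single (C : Matrix (Fin n) (Fin n) F) (i j : Fin n) :
    Matrix.trace (C * Matrix.single i j (1 : F)) = C j i := by
  rw [Matrix.trace_mul_comm]
  simp only [Matrix.trace, Matrix.diag_apply, Matrix.mul_apply, Matrix.single_apply, ite_mul,
    one_mul, zero_mul]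
  rw [Finset.sum_eq_single i]
  · rw [Finset.sum_eq_single j]
    · rw [if_pos ⟨rfl, rfl⟩]
    · intro b _ hb
      rw [if_neg (fun h => hb h.2.symm)]
    · intro h
      exact absurd (Finset.mem_univ _) h
  · intro b _ hb
    apply Finset.sum_eq_zero
    intro c _
    rw [if_neg (fun h => hb h.1.symm)]
  · intro h
    exact absurd (Finset.mem_univ _) h

theorem trace_mul_altUnit (hn : 2 ≤ n) (C : Matrix (Fin n) (Fin n) F) :
    Matrix.trace (C * ((altUnit hn : symAdd F n) : Matrix (Fin n) (Fin n) F)) =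
      (C + Cᵀ) ⟨0, by omega⟩ ⟨1, by omega⟩ := by
  show Matrix.trace (C * symUnit (⟨0, by omega⟩ : Fin n) ⟨1, by omega⟩) = _
  unfold symUnit
  rw [Matrix.mul_add, Matrix.trace_add, trace_mul_single, trace_mul_single, Matrix.add_apply,
    Matrix.transpose_apply, add_comm]

/-- (N) some projector with nonzero polar form is not zero -/
theorem exists_C_polar_of (hn : 2 ≤ n) (hperf : commutator (symplecticGroup (Fin n) F) = ⊤)
    (hψ : ψ ≠ 1) (hirr : ρ.IsIrreducible) (hdim : 2 ≤ Module.finrank ℂ V)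
    (hrho : ∀ (S0 : symAdd F n) (C : Matrix (Fin n) (Fin n) F),
      ρ (uQ S0) * eC ρ ψ C =
        ψ (Matrix.trace (C * (S0 : Matrix (Fin n) (Fin n) F))) • eC ρ ψ C)
    (hsum : ∑ C : Matrix (Fin n) (Fin n) F, eC ρ ψ C =
      ((Fintype.card (Matrix (Fin n) (Fin n) F) : ℂ) * ((Fintype.card (symAdd F n) : ℂ))⁻¹) •
        (1 : Module.End ℂ V)) :
    ∃ C : Matrix (Fin n) (Fin n) F, eC ρ ψ C ≠ 0 ∧ C + Cᵀ ≠ 0 := by
  classical
  -- `ρ (uQ S0) ≠ 1`
  have hne : ρ (uQ (altUnit hn : symAdd F n)) ≠ 1 := by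
    intro h1
    have hmem : uQ (altUnit hn : symAdd F n) ∈ MonoidHom.ker ρ := MonoidHom.mem_ker.2 h1
    have htop := eq_top_of_uQ_alt_mem hn hperf (MonoidHom.ker ρ) hmem
    have htriv : ∀ g, ρ g = 1 := by
      intro g
      have : g ∈ MonoidHom.ker ρ := by rw [htop]; exact Subgroup.mem_top g
      exact MonoidHom.mem_ker.1 this
    exact not_irreducible_of_trivial ρ htriv hdim hirr
  by_contra hcon
  push Not at hcon
  apply hne
  -- all occurring characters are trivial on `uQ S0`
  have h1 : ∀ C : Matrix (Fin n) (Fin n) F,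
      ρ (uQ (altUnit hn : symAdd F n)) * eC ρ ψ C = eC ρ ψ C := by
    intro C
    by_cases hC : eC ρ ψ C = 0
    · rw [hC, mul_zero]
    · rw [hrho, trace_mul_altUnit, hcon C hC, Matrix.zero_apply, AddChar.map_zero_eq_one,
        one_smul]
  have h2 : ρ (uQ (altUnit hn : symAdd F n)) * ∑ C : Matrix (Fin n) (Fin n) F, eC ρ ψ C =
      ∑ C : Matrix (Fin n) (Fin n) F, eC ρ ψ C := by
    rw [Finset.mul_sum]
    exact Finset.sum_congr rfl (fun C _ => h1 C)
  rw [hsum, mul_smul_comm, mul_one] at h2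
  have hc : ((Fintype.card (Matrix (Fin n) (Fin n) F) : ℂ) *
      ((Fintype.card (symAdd F n) : ℂ))⁻¹) ≠ 0 := by
    apply mul_ne_zero
    · exact Nat.cast_ne_zero.2 Fintype.card_ne_zero
    · exact inv_ne_zero (Nat.cast_ne_zero.2 Fintype.card_ne_zero)
  exact smul_right_injective _ hc h2

end Cfsg.Agent.Lib.Helper2.SPE
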