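import Mathlib
import Cfsg.Agent.Lib.Helper5.SPEDefs
import Cfsg.Agent.Lib.Helper6.SPEP
import Cfsg.Agent.Lib.Helper2.SPEN2

set_option autoImplicit false
set_option linter.unusedSectionVars false
set_option linter.unusedVariables false

/-!
Farm SPE (statement S2333), unit N: a projector with nonzero polar form, verbatim (the core
`exists_C_polar_of` with the facts of unit P plugged in).
-/

namespace Cfsg.Agent.Lib.Helper2.SPE

open Matrix Cfsg Cfsg.Agent.Lib.Helper6.Wl Cfsg.Agent.Lib.Helper5.SPE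
open Cfsg.Agent.Lib.Helper6.SPE

variable {F : Type*} [Field F] [Fintype F] [DecidableEq F] {n : ℕ}
variable {V : Type*} [AddCommGroup V] [Module ℂ V] [FiniteDimensional ℂ V]
variable (ρ : Representation ℂ (symplecticGroup (Fin n) F) V) (ψ : AddChar F ℂ)

/-- (N) some projector with nonzero polar form is not zero -/
theorem exists_C_polar (hn : 2 ≤ n) (hperf : commutator (symplecticGroup (Fin n) F) = ⊤)
    (hψ : ψ ≠ 1) (hirr : ρ.IsIrreducible) (hdim : 2 ≤ Module.finrank ℂ V) :
    ∃ C : Matrix (Fin n) (Fin n) F, eC ρ ψ C ≠ 0 ∧ C + Cᵀ ≠ 0 :=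
  exists_C_polar_of ρ ψ hn hperf hψ hirr hdim (rho_mul_eC ρ ψ) (sum_eC ρ ψ hψ)

end Cfsg.Agent.Lib.Helper2.SPE
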