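import Mathlib
import Cfsg.Prelude.Def_Local
import Cfsg.Agent.Lib.Helper2.Commutator
import Cfsg.Agent.Lib.Helper2.Components
import Cfsg.Agent.Lib.Helper2.Components2
import Cfsg.Agent.Lib.Helper2.Components3
import Cfsg.Agent.Lib.Helper8.LayerSub

/-!
# Farm SSX (S3164): units V7 and V9
-/

set_option autoImplicit false

namespace Cfsg.Agent.Lib.Helper2.SSX

open Cfsg

/-- V7: a perfect normal subgroup inside the layer is its own layer. -/
theorem V7 {G : Type*} [Group G] [Finite G] (X : Subgroup G) [X.Normal]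
    (hXE : X ≤ Cfsg.layer G) (hperf : ⁅X, X⁆ = X) : Cfsg.layer ↥X = ⊤ := by
  -- the components of `G` inside `X`
  have hE1n : (sSup {L : Subgroup G | IsComponent L ∧ L ≤ X}).Normal := by
    apply Cfsg.Agent.Lib.Helper8.sSup_normal_of_conj
    rintro K ⟨hK, hKX⟩ g
    refine ⟨Cfsg.Agent.Lib.Helper2.isComponent_conj g hK, ?_⟩
    rintro _ ⟨k, hk, rfl⟩
    exact ‹X.Normal›.conj_mem k (hKX hk) g
  have hXsub : X.IsSubnormal := Subgroup.Normal.isSubnormal inferInstance
  -- `X = [X, X] ≤ [layer G, X] ≤ E₁`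
  have h1 : ⁅Cfsg.layer G, X⁆ ≤ sSup {L : Subgroup G | IsComponent L ∧ L ≤ X} := by
    haveI := hE1n
    unfold Cfsg.layer
    apply Cfsg.Agent.Lib.Helper2.commutator_sSup_le
    intro L hL
    rcases Cfsg.Agent.Lib.Helper2.isComponent_le_or_commutator_eq_bot hL hXsub with h | h
    · have hLE : L ≤ sSup {L : Subgroup G | IsComponent L ∧ L ≤ X} := le_sSup ⟨hL, h⟩
      calc ⁅L, X⁆ ≤ ⁅sSup {L : Subgroup G | IsComponent L ∧ L ≤ X}, X⁆ :=
            Subgroup.commutator_mono hLE le_rfl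
        _ ≤ sSup {L : Subgroup G | IsComponent L ∧ L ≤ X} := Subgroup.commutator_le_left _ _
    · rw [Subgroup.commutator_comm, h]
      exact bot_le
  have h2 : X ≤ sSup {L : Subgroup G | IsComponent L ∧ L ≤ X} := by
    calc X = ⁅X, X⁆ := hperf.symm
      _ ≤ ⁅Cfsg.layer G, X⁆ := Subgroup.commutator_mono hXE le_rfl
      _ ≤ _ := h1
  have h3 : sSup {L : Subgroup G | IsComponent L ∧ L ≤ X} ≤ (Cfsg.layer ↥X).map X.subtype := by
    apply sSup_le
    rintro L ⟨hL, hLX⟩
    exact Cfsg.Agent.Lib.Helper8.le_layer_map hL hLX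
  rw [eq_top_iff]
  intro x _
  obtain ⟨y, hy, hyx⟩ := (h2.trans h3) x.2
  have : y = x := Subtype.ext hyx
  rw [← this]
  exact hy

/-- V9: KEY implies there is no nontrivial normal 2-subgroup. -/
theorem V9 {G : Type*} [Group G] [Finite G] (A : Subgroup G) (hq : Cfsg.IsQuasisimple ↥A)
    (hkey : ∀ M : Subgroup G, M.Normal → Even (Nat.card ↥M) → A ≤ M)
    (Q : Subgroup G) (hQn : Q.Normal) (hQ : IsPGroup 2 ↥Q) : Q = ⊥ := by
  haveI : Fact (Nat.Prime 2) := ⟨Nat.prime_two⟩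
  by_contra hne
  obtain ⟨n, hn⟩ := hQ.exists_card_eq
  have hn0 : n ≠ 0 := by
    intro h0
    rw [h0, pow_zero] at hn
    exact hne (Subgroup.card_eq_one.mp hn)
  have heven : Even (Nat.card ↥Q) := by
    rw [hn]
    exact (Nat.even_pow' hn0).mpr even_two
  have hAQ : A ≤ Q := hkey Q hQn heven
  have hA2 : IsPGroup 2 ↥A := hQ.to_le hAQ
  haveI : Group.IsNilpotent ↥A := hA2.isNilpotent
  haveI : Group.IsPerfect ↥A := hq.1
  haveI : IsSimpleGroup (↥A ⧸ Subgroup.center ↥A) := hq.2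
  haveI : Nontrivial ↥A := by
    by_contra hnt
    rw [not_nontrivial_iff_subsingleton] at hnt
    haveI := hnt
    have : Subsingleton (↥A ⧸ Subgroup.center ↥A) := inferInstance
    exact not_subsingleton (↥A ⧸ Subgroup.center ↥A) this
  exact Group.IsPerfect.not_isNilpotent (G := ↥A) inferInstance

end Cfsg.Agent.Lib.Helper2.SSX
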