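import Cfsg.Agent.Lib.Helper2.SL3Fus3

set_option autoImplicit false

/-! Generic tools for the `2`-fusion system of `PSU₃(q)`: the cover criterion relative to a
subgroup, the torus normalizer relative to a subgroup, and the norm map of `F_{q²}/F_q`. -/

namespace Cfsg.Agent.Lib.Helper2.SU3Fus

open Cfsg Cfsg.Agent.Lib.Helper2.SL3Fus Cfsg.Agent.Lib.Helper2.SimpCrit2

section Sub

variable {G : Type*} [Group G] [Finite G] {M : Type*} [Group M]

/-- `simple_of_cover_inner` for a subgroup `K` of an ambient group `M` -/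
theorem simple_of_cover_inner_sub (K : Subgroup M) (ψ : ↥K →* G) (hψ : Function.Surjective ψ)
    (hkc : ψ.ker ≤ Subgroup.center ↥K)
    (hkp : ∀ z ∈ ψ.ker, ∀ k : ℕ, z ^ 2 ^ k = 1 → z = 1)
    (U₀ : Subgroup M) (hU₀K : U₀ ≤ K) (hU₀p : IsPGroup 2 U₀) (hU₀1 : U₀ ≠ ⊥)
    (S : Sylow 2 G) (hSU : (S : Subgroup G) = (U₀.subgroupOf K).map ψ)
    (ha : ∀ T : Subgroup M, T ≤ U₀ → T ≠ ⊥ →
      (∀ t ∈ T, ∀ x ∈ K, x * t * x⁻¹ ∈ U₀ → x * t * x⁻¹ ∈ T) → T = U₀)
    (hN : ∀ g ∈ K, (∀ x ∈ U₀, g * x * g⁻¹ ∈ U₀) → (∀ x ∈ U₀, g⁻¹ * x * g ∈ U₀) →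
      ∃ u ∈ U₀, ∀ x ∈ U₀, g * x * g⁻¹ = u * x * u⁻¹) :
    (groupFusionSystem (S : Subgroup G)).IsSimple 2 := by
  apply simple_of_cover_inner ψ hψ hkc hkp (U₀.subgroupOf K) ?_ ?_ S hSU ?_ ?_
  · exact hU₀p.comap_subtype
  · intro hb
    apply hU₀1
    rw [Subgroup.eq_bot_iff_forall]
    intro x hx
    have h2 : (⟨x, hU₀K hx⟩ : ↥K) ∈ U₀.subgroupOf K := Subgroup.mem_subgroupOf.mpr hx
    rw [hb, Subgroup.mem_bot] at h2
    exact congrArg Subtype.val h2
  · intro T hTU hT1 hcl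
    have h3 := ha (T.map K.subtype) ?_ ?_ ?_
    · ext x
      rw [Subgroup.mem_subgroupOf, ← h3]
      constructor
      · intro hx
        exact Subgroup.mem_map_of_mem K.subtype hx
      · rintro ⟨y, hy, hyx⟩
        have e : y = x := Subtype.ext hyx
        rw [← e]
        exact hy
    · rintro _ ⟨y, hy, rfl⟩
      exact Subgroup.mem_subgroupOf.mp (hTU hy)
    · intro hb
      apply hT1
      rw [Subgroup.eq_bot_iff_forall]
      intro y hy
      have h4 : K.subtype y ∈ T.map K.subtype := Subgroup.mem_map_of_mem _ hy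
      rw [hb, Subgroup.mem_bot] at h4
      exact Subtype.ext h4
    · rintro _ ⟨t, ht, rfl⟩ x hxK hx
      have h5 := hcl t ht ⟨x, hxK⟩ (Subgroup.mem_subgroupOf.mpr hx)
      exact ⟨_, h5, rfl⟩
  · intro g hg
    have h1 : ∀ x ∈ U₀, (g : M) * x * (g : M)⁻¹ ∈ U₀ := by
      intro x hx
      have h6 := (Subgroup.mem_normalizer_iff.mp hg ⟨x, hU₀K hx⟩).mp
        (Subgroup.mem_subgroupOf.mpr hx)
      exact Subgroup.mem_subgroupOf.mp h6
    have h2 : ∀ x ∈ U₀, (g : M)⁻¹ * x * (g : M) ∈ U₀ := by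
      intro x hx
      have h6 := (Subgroup.mem_normalizer_iff.mp (Subgroup.inv_mem _ hg) ⟨x, hU₀K hx⟩).mp
        (Subgroup.mem_subgroupOf.mpr hx)
      have h7 := Subgroup.mem_subgroupOf.mp h6
      simpa using h7
    obtain ⟨u, hu, hux⟩ := hN g.1 g.2 h1 h2
    refine ⟨⟨u, hU₀K hu⟩, Subgroup.mem_subgroupOf.mpr hu, ?_⟩
    intro x hx
    apply Subtype.ext
    exact hux x.1 (Subgroup.mem_subgroupOf.mp hx)

end Sub

section Torus

variable {H : Type*} [Group H] {D : Subgroup H} {y : H}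

theorem TD.inf (h : TD D y) (K : Subgroup H) (hy : y ∈ K) : TD (D ⊓ K) y where
  comm := fun a ha b hb => h.comm a (Subgroup.mem_inf.mp ha).1 b (Subgroup.mem_inf.mp hb).1
  ysq := h.ysq
  ynot := fun hc => h.ynot (Subgroup.mem_inf.mp hc).1
  ynorm := fun d hd => Subgroup.mem_inf.mpr
    ⟨h.ynorm d (Subgroup.mem_inf.mp hd).1, K.mul_mem (K.mul_mem hy (Subgroup.mem_inf.mp hd).2) hy⟩

/-- the normalizer of `UU` inside a subgroup `K` lies in `UU` times the centre -/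
theorem normalizer_UU_rel (h : TD D y) [Finite D] (Z : Subgroup H)
    (hZ : Z ≤ Subgroup.center H)
    (hfix : ∀ d ∈ D, y * d * y = d → d ∈ Z) (K : Subgroup H)
    (hN : ∀ A ∈ K, (∀ b ∈ BB h, A * b * A⁻¹ ∈ BB h) → A ∈ D ∨ A * y ∈ D)
    {e₀ : H} (he₀ : e₀ ∈ BB h) (hne : y * (e₀ * e₀) * y ≠ e₀ * e₀)
    {A : H} (hAK : A ∈ K) (hA : A ∈ Subgroup.normalizer ((UU h : Subgroup H) : Set H)) :
    ∃ u ∈ UU h, ∃ z ∈ Z, A = u * z := by
  have key : ∀ A' ∈ Subgroup.normalizer ((UU h : Subgroup H) : Set H),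
      ∀ b ∈ BB h, A' * b * A'⁻¹ ∈ BB h := by
    intro A' hA' b hb
    have h1 : A' * b * A'⁻¹ ∈ UU h :=
      (Subgroup.mem_normalizer_iff.mp hA' b).mp (BB_le_UU h hb)
    rcases h1 with h1 | h1
    · exact h1
    · exfalso
      apply hne
      have hu' : A'⁻¹ * e₀ * A' ∈ UU h := by
        have h2 := (Subgroup.mem_normalizer_iff.mp (Subgroup.inv_mem _ hA') e₀).mp
          (BB_le_UU h he₀)
        rwa [inv_inv] at h2
      have hs := sq_mem_BB h hu'
      have hcomm : b * ((A'⁻¹ * e₀ * A') * (A'⁻¹ * e₀ * A')) =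
          ((A'⁻¹ * e₀ * A') * (A'⁻¹ * e₀ * A')) * b := h.comm _ hb.1 _ hs.1
      have hcomm2 : (A' * b * A'⁻¹) * (e₀ * e₀) = (e₀ * e₀) * (A' * b * A'⁻¹) := by
        have e1 : (A' * b * A'⁻¹) * (e₀ * e₀) =
            A' * (b * ((A'⁻¹ * e₀ * A') * (A'⁻¹ * e₀ * A'))) * A'⁻¹ := by group
        have e2 : (e₀ * e₀) * (A' * b * A'⁻¹) =
            A' * (((A'⁻¹ * e₀ * A') * (A'⁻¹ * e₀ * A')) * b) * A'⁻¹ := by group
        rw [e1, e2, hcomm]
      have hc3 : (A' * b * A'⁻¹ * y) * (e₀ * e₀) = (e₀ * e₀) * (A' * b * A'⁻¹ * y) :=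
        h.comm _ h1.1 _ ((BB h).mul_mem he₀ he₀).1
      obtain ⟨g, hgdef⟩ : ∃ g, g = A' * b * A'⁻¹ := ⟨_, rfl⟩
      obtain ⟨s, hsdef⟩ : ∃ s, s = e₀ * e₀ := ⟨_, rfl⟩
      rw [← hgdef, ← hsdef] at hcomm2 hc3
      rw [← hsdef]
      have h4 : g * (y * s) = g * (s * y) := by
        calc g * (y * s) = (g * y) * s := by rw [mul_assoc]
          _ = s * (g * y) := hc3
          _ = (s * g) * y := by rw [mul_assoc]
          _ = (g * s) * y := by rw [hcomm2]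
          _ = g * (s * y) := by rw [mul_assoc]
      have h5 : y * s = s * y := mul_left_cancel h4
      rw [h5, mul_assoc, h.ysq, mul_one]
  have main : ∀ d ∈ D, d ∈ Subgroup.normalizer ((UU h : Subgroup H) : Set H) →
      ∃ u ∈ BB h, ∃ z ∈ Z, d = u * z := by
    intro d hd hdN
    have h1 : d * y * d⁻¹ ∈ UU h := (Subgroup.mem_normalizer_iff.mp hdN y).mp (y_mem_UU h)
    have hb : d * (y * d⁻¹ * y) ∈ BB h := by
      rcases h1 with h1 | h1
      · exfalso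
        apply h.ynot
        have e : y = d⁻¹ * (d * y * d⁻¹) * d := by group
        rw [e]
        exact D.mul_mem (D.mul_mem (D.inv_mem hd) h1.1) hd
      · have e : d * (y * d⁻¹ * y) = d * y * d⁻¹ * y := by group
        rw [e]
        exact h1
    obtain ⟨k, m, hm, hkm⟩ := Nat.exists_eq_two_pow_mul_odd (Nat.card_pos (α := D)).ne'
    have hcard : ∀ x ∈ D, x ^ (2 ^ k * m) = 1 := by
      intro x hx
      have h2 : (⟨x, hx⟩ : D) ^ Nat.card D = 1 := pow_card_eq_one'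
      rw [hkm] at h2
      have h3 := congrArg Subtype.val h2
      simpa using h3
    have hcop : Nat.Coprime 2 m := Nat.coprime_two_left.mpr hm
    obtain ⟨b, hbdef⟩ : ∃ b, b = d * (y * d⁻¹ * y) := ⟨_, rfl⟩
    rw [← hbdef] at hb
    have hb2k : b ^ 2 ^ k = 1 := by
      obtain ⟨hbD, j, hj⟩ := hb
      have h3 : orderOf b ∣ 2 ^ j := orderOf_dvd_of_pow_eq_one hj
      have h4 : orderOf b ∣ 2 ^ k * m := orderOf_dvd_of_pow_eq_one (hcard b hbD)
      obtain ⟨i, -, hi⟩ := (Nat.dvd_prime_pow Nat.prime_two).1 h3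
      rw [hi] at h4
      have h5 : 2 ^ i ∣ 2 ^ k := (Nat.Coprime.pow_left i hcop).dvd_of_dvd_mul_right h4
      rw [← hi] at h5
      exact orderOf_dvd_iff_pow_eq_one.mp h5
    have hyd : y * d⁻¹ * y ∈ D := h.ynorm _ (D.inv_mem hd)
    have hfix2 : y * d ^ 2 ^ k * y = d ^ 2 ^ k := by
      have hc : Commute d (y * d⁻¹ * y) := h.comm d hd _ hyd
      have h6 : b ^ 2 ^ k = d ^ 2 ^ k * (y * d⁻¹ * y) ^ 2 ^ k := by
        rw [hbdef]
        exact hc.mul_pow _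
      have h7 : (y * d⁻¹ * y) ^ 2 ^ k = y * (d ^ 2 ^ k)⁻¹ * y := by
        have e : y * d⁻¹ * y = y * d⁻¹ * y⁻¹ := by rw [h.yinv]
        rw [e, conj_pow, inv_pow, h.yinv]
      rw [hb2k, h7] at h6
      obtain ⟨x, hxdef⟩ : ∃ x, x = d ^ 2 ^ k := ⟨_, rfl⟩
      rw [← hxdef] at h6 ⊢
      have h8 : y * x⁻¹ * y = x⁻¹ := eq_inv_of_mul_eq_one_right h6.symm
      have h9 : y * x * y = (y * x⁻¹ * y)⁻¹ := by
        rw [mul_inv_rev, mul_inv_rev, inv_inv, h.yinv, mul_assoc]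
      rw [h9, h8, inv_inv]
    have hz : d ^ 2 ^ k ∈ Z := hfix _ (D.pow_mem hd _) hfix2
    have hcop2 : Nat.Coprime m (2 ^ k) := (Nat.Coprime.pow_left k hcop).symm
    have hbez := Nat.gcd_eq_gcd_ab m (2 ^ k)
    rw [hcop2.gcd_eq_one] at hbez
    have hd1 : d = (d ^ m) ^ (m.gcdA (2 ^ k)) * (d ^ 2 ^ k) ^ (m.gcdB (2 ^ k)) := by
      rw [← zpow_natCast d m, ← zpow_natCast d (2 ^ k), ← zpow_mul, ← zpow_mul, ← zpow_add,
        ← hbez]
      simp
    have hdm : d ^ m ∈ BB h :=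
      ⟨D.pow_mem hd m, k, by rw [← pow_mul, mul_comm]; exact hcard d hd⟩
    exact ⟨_, (BB h).zpow_mem hdm _, _, Z.zpow_mem hz _, hd1⟩
  rcases hN A hAK (key A hA) with hAD | hAD
  · obtain ⟨u, hu, z, hz, e⟩ := main A hAD hA
    exact ⟨u, BB_le_UU h hu, z, hz, e⟩
  · have hAyN : A * y ∈ Subgroup.normalizer ((UU h : Subgroup H) : Set H) :=
      Subgroup.mul_mem _ hA (Subgroup.le_normalizer (y_mem_UU h))
    obtain ⟨u, hu, z, hz, e⟩ := main (A * y) hAD hAyN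
    refine ⟨u * y, ?_, z, hz, ?_⟩
    · right
      rw [mul_assoc, h.ysq, mul_one]
      exact hu
    · have hzc : z * y = y * z := (Subgroup.mem_center_iff.mp (hZ hz) y).symm
      calc A = (A * y) * y := by rw [mul_assoc, h.ysq, mul_one]
        _ = u * z * y := by rw [e]
        _ = u * y * z := by rw [mul_assoc, hzc, ← mul_assoc]

end Torus

section Frob

variable {F : Type*} [Field F] [Fintype F]

/-- the `q`-power map is a ring homomorphism when `|F| = q²` -/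
theorem exists_frob (q : ℕ) (hq : Fintype.card F = q ^ 2) :
    ∃ φ : F →+* F, ∀ x, φ x = x ^ q := by
  obtain ⟨p, hchar⟩ := CharP.exists F
  haveI := hchar
  obtain ⟨n, hp, hn⟩ := FiniteField.card F p
  haveI : Fact p.Prime := ⟨hp⟩
  haveI : ExpChar F p := ExpChar.prime hp
  have hdiv : q ∣ p ^ (n : ℕ) := by
    rw [← hn, hq]
    exact dvd_pow_self q (by norm_num)
  obtain ⟨m, -, hm⟩ := (Nat.dvd_prime_pow hp).1 hdiv
  refine ⟨iterateFrobenius F p m, fun x => ?_⟩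
  rw [iterateFrobenius_def, hm]

theorem one_lt_q (q : ℕ) (hq : Fintype.card F = q ^ 2) : 1 < q := by
  by_contra hcon
  have h1 : q ≤ 1 := by omega
  have h2 : 1 < Fintype.card F := Fintype.one_lt_card
  rw [hq] at h2
  have h3 : q ^ 2 ≤ 1 := by
    calc q ^ 2 ≤ 1 ^ 2 := Nat.pow_le_pow_left h1 2
      _ = 1 := one_pow 2
  omega

theorem card_units_eq (q : ℕ) (hq : Fintype.card F = q ^ 2) :
    Nat.card Fˣ = (q + 1) * (q - 1) := by
  have hq1 := one_lt_q q hq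
  rw [Nat.card_units, Nat.card_eq_fintype_card, hq]
  obtain ⟨t, rfl⟩ : ∃ t, q = t + 1 := ⟨q - 1, by omega⟩
  have e : (t + 1) ^ 2 = (t + 1 + 1) * t + 1 := by ring
  rw [e, Nat.add_sub_cancel, Nat.add_sub_cancel]

/-- the norm `s ↦ s^(q+1)` is onto the fixed field -/
theorem norm_surj (q : ℕ) (hq : Fintype.card F = q ^ 2) {r : F} (hr0 : r ≠ 0)
    (hr : r ^ q = r) : ∃ s : F, s * s ^ q = r := by
  have hq1 := one_lt_q q hq
  have hcard := card_units_eq q hq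
  obtain ⟨N, hNdef⟩ : ∃ N : Fˣ →* Fˣ, N = powMonoidHom (q + 1) := ⟨_, rfl⟩
  obtain ⟨R, hRdef⟩ : ∃ R : Subgroup Fˣ, R = (powMonoidHom (q - 1) : Fˣ →* Fˣ).ker := ⟨_, rfl⟩
  have hle : N.range ≤ R := by
    rintro _ ⟨s, rfl⟩
    rw [hRdef, MonoidHom.mem_ker, hNdef, powMonoidHom_apply, powMonoidHom_apply, ← pow_mul,
      ← hcard]
    exact pow_card_eq_one'
  have hcR : Nat.card R = q - 1 := by
    rw [hRdef, IsCyclic.card_powMonoidHom_ker, hcard]
    exact Nat.gcd_eq_right (Dvd.intro_left _ rfl)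
  have hcN : Nat.card N.range = q - 1 := by
    rw [hNdef, IsCyclic.card_powMonoidHom_range, hcard,
      Nat.gcd_eq_right (Dvd.intro _ rfl)]
    exact Nat.mul_div_cancel_left _ (by omega)
  have heq : N.range = R := Subgroup.eq_of_le_of_card_ge hle (by rw [hcR, hcN])
  have hrR : Units.mk0 r hr0 ∈ R := by
    rw [hRdef, MonoidHom.mem_ker, powMonoidHom_apply]
    apply Units.ext
    rw [Units.val_pow_eq_pow_val, Units.val_mk0, Units.val_one]
    have h3 : r ^ (q - 1) * r = r := by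
      rw [← pow_succ, Nat.sub_add_cancel hq1.le, hr]
    have h4 : (r ^ (q - 1) - 1) * r = 0 := by linear_combination h3
    rcases mul_eq_zero.mp h4 with h5 | h5
    · linear_combination h5
    · exact absurd h5 hr0
  rw [← heq] at hrR
  obtain ⟨s, hs⟩ := hrR
  refine ⟨(s : F), ?_⟩
  have h6 := congrArg Units.val hs
  rw [hNdef, powMonoidHom_apply, Units.val_pow_eq_pow_val, Units.val_mk0] at h6
  rw [← h6, pow_succ']

end Frob

end Cfsg.Agent.Lib.Helper2.SU3Fus
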