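import Cfsg.Agent.Lib.Helper2.SU3Fus1
import Cfsg.Prelude.Def_Classical

set_option autoImplicit false

/-! Unitary matrices for the form `Σ uᵢ vᵢ^q`: matrix criterion, the subgroup `GU₂` of `GL₂`
mapping into `SU₃`, and basic unitary elements. -/

namespace Cfsg.Agent.Lib.Helper2.SU3Fus

open Matrix Cfsg Cfsg.Agent.Lib.Lead.PSL3Inv Cfsg.Agent.Lib.Helper2.SL3Fus

variable {F : Type*} [Field F] (q : ℕ) (φ : F →+* F)

local notation "GL2" => GL (Fin 2) F
local notation "SL3" => Matrix.SpecialLinearGroup (Fin 3) F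

/-- unitary matrices with respect to `φ` -/
def IsU {n : ℕ} (φ : F →+* F) (X : Matrix (Fin n) (Fin n) F) : Prop := Xᵀ * X.map φ = 1

theorem IsU.mul {n : ℕ} {X Y : Matrix (Fin n) (Fin n) F} (hX : IsU φ X) (hY : IsU φ Y) :
    IsU φ (X * Y) := by
  unfold IsU at *
  rw [Matrix.transpose_mul, Matrix.map_mul, Matrix.mul_assoc, ← Matrix.mul_assoc Xᵀ, hX,
    Matrix.one_mul, hY]

section

variable (hφ : ∀ x, φ x = x ^ q)

include hφ in
theorem herm_eq {n : ℕ} (u v : Fin n → F) : hermForm n F q u v = u ⬝ᵥ (φ ∘ v) := by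
  unfold hermForm dotProduct
  apply Finset.sum_congr rfl
  intro i _
  rw [Function.comp_apply, hφ]

include hφ in
theorem herm_mulVec {n : ℕ} (X : Matrix (Fin n) (Fin n) F) (u v : Fin n → F) :
    hermForm n F q (X *ᵥ u) (X *ᵥ v) = u ⬝ᵥ ((Xᵀ * X.map φ) *ᵥ (φ ∘ v)) := by
  have e1 : φ ∘ (X *ᵥ v) = (X.map φ) *ᵥ (φ ∘ v) := by
    ext i
    exact RingHom.map_mulVec φ X v i
  rw [herm_eq q φ hφ, e1, Matrix.dotProduct_mulVec, ← Matrix.vecMul_transpose X u,
    Matrix.vecMul_vecMul, ← Matrix.dotProduct_mulVec]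

include hφ in
theorem mem_SU_iff (X : SL3) : X ∈ SU 3 F q ↔ IsU φ X.1 := by
  unfold IsU
  constructor
  · intro hX
    have hX' : ∀ u v : Fin 3 → F, hermForm 3 F q (X.1 *ᵥ u) (X.1 *ᵥ v) = hermForm 3 F q u v := hX
    ext j k
    have h1 := hX' (Pi.single j 1) (Pi.single k 1)
    have e2 : φ ∘ (Pi.single k (1 : F) : Fin 3 → F) = Pi.single k 1 := by
      ext i
      simp [Pi.single_apply, apply_ite φ]
    rw [herm_mulVec q φ hφ, herm_eq q φ hφ, e2, single_one_dotProduct, single_one_dotProduct,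
      Matrix.mulVec_single_one] at h1
    rw [Matrix.one_apply, ← Pi.single_apply]
    exact h1
  · intro hX
    have hX' : ∀ u v : Fin 3 → F, hermForm 3 F q (X.1 *ᵥ u) (X.1 *ᵥ v) = hermForm 3 F q u v := by
      intro u v
      rw [herm_mulVec q φ hφ, hX, Matrix.one_mulVec, herm_eq q φ hφ]
    exact hX'

/-- the subgroup of `GL₂` mapping into `SU₃` -/
def GU2 : Subgroup GL2 := (SU 3 F q).comap psi

include hφ in
theorem mem_GU2_iff (A : GL2) : A ∈ (GU2 q : Subgroup GL2) ↔ IsU φ A.1 := by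
  unfold GU2
  rw [Subgroup.mem_comap, mem_SU_iff q φ hφ, psi_val]
  unfold IsU
  constructor
  · intro h
    ext i j
    fin_cases i <;> fin_cases j
    · have h1 := congrFun (congrFun h 1) 1
      simpa [Matrix.mul_apply, Fin.sum_univ_three, Fin.sum_univ_two, iotaM] using h1
    · have h1 := congrFun (congrFun h 1) 2
      simpa [Matrix.mul_apply, Fin.sum_univ_three, Fin.sum_univ_two, iotaM] using h1
    · have h1 := congrFun (congrFun h 2) 1
      simpa [Matrix.mul_apply, Fin.sum_univ_three, Fin.sum_univ_two, iotaM] using h1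
    · have h1 := congrFun (congrFun h 2) 2
      simpa [Matrix.mul_apply, Fin.sum_univ_three, Fin.sum_univ_two, iotaM] using h1
  · intro h
    have h00 := congrFun (congrFun h 0) 0
    have h01 := congrFun (congrFun h 0) 1
    have h10 := congrFun (congrFun h 1) 0
    have h11 := congrFun (congrFun h 1) 1
    simp only [Matrix.mul_apply, Fin.sum_univ_two, Matrix.transpose_apply, Matrix.map_apply,
      Matrix.one_apply_eq, Matrix.one_apply_ne, ne_eq, Fin.reduceEq, not_false_eq_true,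
      zero_ne_one, one_ne_zero] at h00 h01 h10 h11
    have hdet : A.1.det * φ A.1.det = 1 := by
      have h3 := congrArg Matrix.det h
      rw [Matrix.det_mul, Matrix.det_transpose, Matrix.det_one] at h3
      rw [RingHom.map_det, RingHom.mapMatrix_apply]
      exact h3
    have hd : A.1.det⁻¹ * (φ A.1.det)⁻¹ = 1 := by
      rw [← mul_inv, hdet, inv_one]
    ext i j
    fin_cases i <;> fin_cases j <;>
      simp [Matrix.mul_apply, Fin.sum_univ_three, iotaM]
    · exact hd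
    · exact h00
    · exact h01
    · exact h10
    · exact h11

theorem isU2_iff (A : Matrix (Fin 2) (Fin 2) F) : IsU φ A ↔
    (A 0 0 * φ (A 0 0) + A 1 0 * φ (A 1 0) = 1 ∧ A 0 0 * φ (A 0 1) + A 1 0 * φ (A 1 1) = 0 ∧
      A 0 1 * φ (A 0 0) + A 1 1 * φ (A 1 0) = 0 ∧ A 0 1 * φ (A 0 1) + A 1 1 * φ (A 1 1) = 1) := by
  unfold IsU
  constructor
  · intro h
    have h00 := congrFun (congrFun h 0) 0
    have h01 := congrFun (congrFun h 0) 1
    have h10 := congrFun (congrFun h 1) 0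
    have h11 := congrFun (congrFun h 1) 1
    simp only [Matrix.mul_apply, Fin.sum_univ_two, Matrix.transpose_apply, Matrix.map_apply,
      Matrix.one_apply_eq, Matrix.one_apply_ne, ne_eq, Fin.reduceEq, not_false_eq_true,
      zero_ne_one, one_ne_zero] at h00 h01 h10 h11
    exact ⟨h00, h01, h10, h11⟩
  · rintro ⟨h00, h01, h10, h11⟩
    ext i j
    fin_cases i <;> fin_cases j <;> simp [Matrix.mul_apply, Fin.sum_univ_two]
    · exact h00
    · exact h01
    · exact h10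
    · exact h11

include hφ in
theorem mem_GU2_iff' (A : GL2) : A ∈ (GU2 q : Subgroup GL2) ↔
    (A.1 0 0 * φ (A.1 0 0) + A.1 1 0 * φ (A.1 1 0) = 1 ∧
      A.1 0 0 * φ (A.1 0 1) + A.1 1 0 * φ (A.1 1 1) = 0 ∧
      A.1 0 1 * φ (A.1 0 0) + A.1 1 1 * φ (A.1 1 0) = 0 ∧
      A.1 0 1 * φ (A.1 0 1) + A.1 1 1 * φ (A.1 1 1) = 1) := by
  rw [mem_GU2_iff q φ hφ, isU2_iff]

include hφ in
theorem dg_mem_GU2 {a b : Fˣ} (ha : (a : F) * φ a = 1) (hb : (b : F) * φ b = 1) :
    (dg a b : GL2) ∈ (GU2 q : Subgroup GL2) := by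
  rw [mem_GU2_iff' q φ hφ, dg_00, dg_01, dg_10, dg_11]
  refine ⟨by simpa using ha, by simp, by simp, by simpa using hb⟩

include hφ in
theorem of_dg_mem_GU2 {a b : Fˣ} (h : (dg a b : GL2) ∈ (GU2 q : Subgroup GL2)) :
    (a : F) * φ a = 1 ∧ (b : F) * φ b = 1 := by
  rw [mem_GU2_iff' q φ hφ, dg_00, dg_01, dg_10, dg_11] at h
  obtain ⟨h1, -, -, h4⟩ := h
  exact ⟨by simpa using h1, by simpa using h4⟩

include hφ in
theorem w2_mem_GU2 : (w2 : GL2) ∈ (GU2 q : Subgroup GL2) := by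
  rw [mem_GU2_iff' q φ hφ, w2_00, w2_01, w2_10, w2_11]
  simp

include hφ in
theorem iG_mem_GU2 : (iG : GL2) ∈ (GU2 q : Subgroup GL2) := by
  rw [mem_GU2_iff' q φ hφ, iG_00, iG_01, iG_10, iG_11]
  simp

include hφ in
theorem yG_mem_GU2 : (yG : GL2) ∈ (GU2 q : Subgroup GL2) := by
  rw [mem_GU2_iff' q φ hφ, yG_00, yG_01, yG_10, yG_11]
  simp

include hφ in
theorem sc_mem_GU2_iff (c : Fˣ) : (sc c : GL2) ∈ (GU2 q : Subgroup GL2) ↔ (c : F) * φ c = 1 := by
  rw [mem_GU2_iff' q φ hφ, sc_00, sc_01, sc_10, sc_11]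
  simp

include hφ in
theorem frob_frob [Fintype F] (hq : Fintype.card F = q ^ 2) (x : F) : φ (φ x) = x := by
  rw [hφ, hφ, ← pow_mul, ← pow_two, ← hq]
  exact FiniteField.pow_card x

end

section Generic

variable {H : Type*} [Group H] {D : Subgroup H} {y : H}

theorem mem_BB_inf' (h : TD D y) (K : Subgroup H) (h' : TD (D ⊓ K) y) {d : H} :
    d ∈ BB h' ↔ d ∈ BB h ∧ d ∈ K := by
  constructor
  · rintro ⟨hd, hk⟩
    exact ⟨⟨(Subgroup.mem_inf.mp hd).1, hk⟩, (Subgroup.mem_inf.mp hd).2⟩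
  · rintro ⟨⟨hd, hk⟩, hK⟩
    exact ⟨Subgroup.mem_inf.mpr ⟨hd, hK⟩, hk⟩

theorem UU_inf_le (K : Subgroup H) (h' : TD (D ⊓ K) y) (hy : y ∈ K) : UU h' ≤ K := by
  intro g hg
  rcases hg with hg | hg
  · exact (Subgroup.mem_inf.mp hg.1).2
  · have h1 : g * y ∈ K := (Subgroup.mem_inf.mp hg.1).2
    have e : g = (g * y) * y⁻¹ := by group
    rw [e]
    exact K.mul_mem h1 (K.inv_mem hy)

end Generic

/-! ### cores of the normalizer computations -/

theorem hN1_core (h2 : (2 : F) ≠ 0) (A : GL2) (c e : Fˣ)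
    (hce : A * dg (-1) 1 * A⁻¹ = dg c e) :
    A ∈ (D1 : Subgroup GL2) ∨ A * w2 ∈ (D1 : Subgroup GL2) := by
  have heq : A * dg (-1) 1 = dg c e * A := mul_inv_eq_iff_eq_mul.mp hce
  have e00 := congrArg (fun X : GL2 => X.1 0 0) heq
  have e01 := congrArg (fun X : GL2 => X.1 0 1) heq
  have e10 := congrArg (fun X : GL2 => X.1 1 0) heq
  have e11 := congrArg (fun X : GL2 => X.1 1 1) heq
  simp only [mul_val, dg_00, dg_01, dg_10, dg_11, Units.val_neg, Units.val_one, mul_zero,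
    zero_mul, add_zero, zero_add, mul_one, mul_neg] at e00 e01 e10 e11
  have hd := det_ne A
  have zero_of : ∀ a : F, a = -a → a = 0 := by
    intro a ha
    have h3 : (2 : F) * a = 0 := by linear_combination ha
    rcases mul_eq_zero.mp h3 with h | h
    · exact absurd h h2
    · exact h
  by_cases hp : A.1 0 0 = 0
  · right
    rw [hp, zero_mul, zero_sub, neg_ne_zero] at hd
    have hq : A.1 0 1 ≠ 0 := left_ne_zero_of_mul hd
    have hr : A.1 1 0 ≠ 0 := right_ne_zero_of_mul hd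
    have he : (e : F) = -1 := by
      apply mul_right_cancel₀ hr
      linear_combination -e10
    have hs : A.1 1 1 = 0 := by
      apply zero_of
      rw [he] at e11
      linear_combination e11
    apply mem_D1_of_entries
    · rw [mul_val, w2_01, w2_11, hp]; ring
    · rw [mul_val, w2_00, w2_10, hs]; ring
  · left
    have hc : (c : F) = -1 := by
      apply mul_right_cancel₀ hp
      linear_combination -e00
    have hq : A.1 0 1 = 0 := by
      apply zero_of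
      rw [hc] at e01
      linear_combination e01
    rw [hq, zero_mul, sub_zero] at hd
    have hs : A.1 1 1 ≠ 0 := right_ne_zero_of_mul hd
    have he : (e : F) = 1 := by
      apply mul_right_cancel₀ hs
      linear_combination -e11
    have hr : A.1 1 0 = 0 := by
      apply zero_of
      rw [he] at e10
      linear_combination -e10
    exact mem_D1_of_entries hq hr

theorem hN2_core (h2 : (2 : F) ≠ 0) (A : GL2) (he : A * iG * A⁻¹ ∈ (D2 : Subgroup GL2)) :
    A ∈ (D2 : Subgroup GL2) ∨ A * yG ∈ (D2 : Subgroup GL2) := by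
  obtain ⟨e, hedef⟩ : ∃ e : GL2, e = A * iG * A⁻¹ := ⟨_, rfl⟩
  rw [← hedef] at he
  obtain ⟨a1, a2⟩ := mem_D2.mp he
  have hee : e * e = sc (-1) := by
    have e1 : e * e = A * (iG * iG) * A⁻¹ := by rw [hedef]; group
    rw [e1, iG_sq, ← sc_comm, mul_inv_cancel_right]
  have heA : e * A = A * iG := by rw [hedef]; group
  have s00 := congrArg (fun X : GL2 => X.1 0 0) hee
  have s10 := congrArg (fun X : GL2 => X.1 1 0) hee
  simp only [mul_val, sc_00, sc_10, Units.val_neg, Units.val_one] at s00 s10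
  rw [a2] at s00
  rw [a1] at s00 s10
  have hab : e.1 1 0 * e.1 1 1 = 0 := by
    have h3 : (2 : F) * (e.1 1 0 * e.1 1 1) = 0 := by linear_combination s10
    rcases mul_eq_zero.mp h3 with h | h
    · exact absurd h h2
    · exact h
  have ha0 : e.1 1 1 = 0 := by
    by_contra hne
    have hb0 : e.1 1 0 = 0 := by
      rcases mul_eq_zero.mp hab with h | h
      · exact h
      · exact absurd h hne
    have hsc : e ∈ (sc : Fˣ →* GL2).range :=
      mem_sc_range (by rw [a2, hb0, neg_zero]) hb0 a1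
    obtain ⟨c, hc⟩ := hsc
    have h5 : A * e = A * iG := by
      rw [← heA, ← hc, sc_comm]
    have h6 : e = iG := mul_left_cancel h5
    have h7 : e.1 1 0 = 1 := by rw [h6]; rfl
    rw [hb0] at h7
    exact zero_ne_one h7
  rw [ha0] at s00
  have hb1 : (e.1 1 0 - 1) * (e.1 1 0 + 1) = 0 := by linear_combination -s00
  have f00 := congrArg (fun X : GL2 => X.1 0 0) heA
  have f01 := congrArg (fun X : GL2 => X.1 0 1) heA
  have f10 := congrArg (fun X : GL2 => X.1 1 0) heA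
  have f11 := congrArg (fun X : GL2 => X.1 1 1) heA
  simp only [mul_val, iG_00, iG_01, iG_10, iG_11, mul_zero, zero_mul, add_zero, zero_add,
    mul_one, mul_neg, neg_mul, one_mul] at f00 f01 f10 f11
  rw [a1, ha0, a2, zero_mul, zero_add] at f00 f01
  rw [ha0, zero_mul, add_zero] at f10 f11
  rcases mul_eq_zero.mp hb1 with hb | hb
  · left
    have hb' : e.1 1 0 = 1 := by linear_combination hb
    rw [hb'] at f00 f01 f10 f11
    rw [mem_D2]
    constructor
    · linear_combination f10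
    · linear_combination -f00
  · right
    have hb' : e.1 1 0 = -1 := by linear_combination hb
    rw [hb'] at f00 f01 f10 f11
    rw [mem_D2]
    simp only [mul_val, yG_00, yG_01, yG_10, yG_11, mul_zero, zero_mul, add_zero, zero_add,
      mul_one, mul_neg, neg_mul, one_mul]
    constructor
    · linear_combination -f10
    · linear_combination f00

/-- the algebra behind the unitary conjugation of an element of square `-1` to `i` -/
theorem conj_alg (h2 : (2 : F) ≠ 0) {ι a b c d : F} (hι : ι * ι = -1) (hιφ : φ ι = ι)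
    (s00 : a * a + b * c = -1) (s10 : c * a + d * c = 0)
    (U1 : a * φ a + c * φ c = 1) (U3 : b * φ a + d * φ c = 0) :
    ∃ x z : F, x * x + z * z ≠ 0 ∧ c ≠ 0 ∧
      (x + a * z) * φ (x + a * z) + (c * z) * φ (c * z) = 1 ∧
      (x + a * z) * φ (-z + a * x) + (c * z) * φ (c * x) = 0 ∧
      (-z + a * x) * φ (x + a * z) + (c * x) * φ (c * z) = 0 ∧
      (-z + a * x) * φ (-z + a * x) + (c * x) * φ (c * x) = 1 := by
  have hφa : φ a = -a := by linear_combination φ a * s00 - a * U1 - c * U3 + φ c * s10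
  have hι0 : ι ≠ 0 := by
    rintro rfl
    rw [mul_zero] at hι
    exact one_ne_zero (neg_eq_zero.mp hι.symm)
  have hne : 1 + a * a ≠ 0 := by
    intro h0
    have h5 : (a - ι) * (a + ι) = 0 := by linear_combination h0 - hι
    have h6 : φ a = a := by
      rcases mul_eq_zero.mp h5 with h | h
      · have e : a = ι := by linear_combination h
        rw [e, hιφ]
      · have e : a = -ι := by linear_combination h
        rw [e, map_neg, hιφ]
    have h7 : (2 : F) * a = 0 := by linear_combination hφa - h6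
    have h8 : a = 0 := by
      rcases mul_eq_zero.mp h7 with h | h
      · exact absurd h h2
      · exact h
    rw [h8, mul_zero, add_zero] at h0
    exact one_ne_zero h0
  have hcc : c * φ c = 1 + a * a := by linear_combination U1 - a * hφa
  have hc0 : c ≠ 0 := by
    intro h
    rw [h, zero_mul] at hcc
    exact hne hcc.symm
  have hprod : (1 + ι * a) * (1 - ι * a) = 1 + a * a := by
    linear_combination (-(a * a)) * hι
  have hp : 1 + ι * a ≠ 0 := by
    intro h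
    rw [h, zero_mul] at hprod
    exact hne hprod.symm
  have hm : 1 - ι * a ≠ 0 := by
    intro h
    rw [h, mul_zero] at hprod
    exact hne hprod.symm
  obtain ⟨μ, hμdef⟩ : ∃ μ : F, μ = (1 + ι * a)⁻¹ := ⟨_, rfl⟩
  have hμ : μ * (1 + ι * a) = 1 := by rw [hμdef]; exact inv_mul_cancel₀ hp
  obtain ⟨ν, hνdef⟩ : ∃ ν : F, ν = φ μ := ⟨_, rfl⟩
  have hν : ν * (1 - ι * a) = 1 := by
    rw [hνdef, hμdef, map_inv₀, map_add, map_one, map_mul, hιφ, hφa]
    have e : 1 + ι * -a = 1 - ι * a := by ring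
    rw [e]
    exact inv_mul_cancel₀ hm
  obtain ⟨t, htdef⟩ : ∃ t : F, t = 2⁻¹ := ⟨_, rfl⟩
  have ht : 2 * t = 1 := by rw [htdef]; exact mul_inv_cancel₀ h2
  have hφt : φ t = t := by rw [htdef, map_inv₀, map_ofNat]
  obtain ⟨x, hxdef⟩ : ∃ x : F, x = t * (1 + μ) := ⟨_, rfl⟩
  obtain ⟨z, hzdef⟩ : ∃ z : F, z = -ι * t * (1 - μ) := ⟨_, rfl⟩
  have hφx : φ x = t * (1 + ν) := by rw [hxdef, map_mul, map_add, map_one, hφt, hνdef]
  have hφz : φ z = -ι * t * (1 - ν) := by
    rw [hzdef, map_mul, map_mul, map_neg, map_sub, map_one, hιφ, hφt, hνdef]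
  have R1 : x + ι * z = 1 := by
    rw [hxdef, hzdef]; linear_combination ht - (t * (1 - μ)) * hι
  have R2 : x - ι * z = μ := by
    rw [hxdef, hzdef]; linear_combination μ * ht + (t * (1 - μ)) * hι
  have R3 : φ x + ι * φ z = 1 := by
    rw [hφx, hφz]; linear_combination ht - (t * (1 - ν)) * hι
  have R4 : φ x - ι * φ z = ν := by
    rw [hφx, hφz]; linear_combination ν * ht + (t * (1 - ν)) * hι
  have M1 : (x + a * z) + ι * (z - a * x) = 1 - ι * a := by
    linear_combination (1 - ι * a) * R1 + (a * z) * hι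
  have M2 : (x + a * z) - ι * (z - a * x) = 1 := by
    linear_combination (1 + ι * a) * R2 + hμ + (a * z) * hι
  have Ep : ((x + a * z) + ι * (z - a * x)) * (φ x - ι * φ z) = 1 := by
    rw [M1, R4]; linear_combination hν
  have Em : ((x + a * z) - ι * (z - a * x)) * (φ x + ι * φ z) = 1 := by
    rw [M2, R3, one_mul]
  have P : (x + a * z) * φ x + (z - a * x) * φ z = 1 := by
    have h3 : 2 * ((x + a * z) * φ x + (z - a * x) * φ z) = 2 * 1 := by
      linear_combination Ep + Em + (2 * (z - a * x) * φ z) * hι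
    exact mul_left_cancel₀ h2 h3
  have Q : (z - a * x) * φ x - (x + a * z) * φ z = 0 := by
    have h3 : (2 * ι) * ((z - a * x) * φ x - (x + a * z) * φ z) = 0 := by
      linear_combination Ep - Em
    rcases mul_eq_zero.mp h3 with h | h
    · exfalso
      rcases mul_eq_zero.mp h with h' | h'
      · exact h2 h'
      · exact hι0 h'
    · exact h
  refine ⟨x, z, ?_, hc0, ?_, ?_, ?_, ?_⟩
  · have hxz : x * x + z * z = μ := by
      linear_combination (x - ι * z) * R1 + R2 + (z * z) * hι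
    rw [hxz]
    exact left_ne_zero_of_mul_eq_one hμ
  · simp only [map_add, map_mul, map_neg, hφa]
    linear_combination P + (z * φ z) * hcc
  · simp only [map_add, map_mul, map_neg, hφa]
    linear_combination Q + (z * φ x) * hcc
  · simp only [map_add, map_mul, map_neg, hφa]
    linear_combination -Q + (x * φ z) * hcc
  · simp only [map_add, map_mul, map_neg, hφa]
    linear_combination P + (x * φ x) * hcc

/-- the algebra behind the element `e₀` of the cyclic torus -/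
theorem e0_alg (h2 : (2 : F) ≠ 0) (hφφ : ∀ x, φ (φ x) = x) {ι L : F} (hι : ι * ι = -1)
    (hιφ : φ ι = ι) (hL : ι = L * L) :
    ∃ a b : F, a * a = b * b ∧ 2 * (a * b) = 1 ∧ a * φ a + b * φ b = 1 ∧
      b * φ a - a * φ b = 0 := by
  have hι0 : ι ≠ 0 := by
    rintro rfl
    rw [mul_zero] at hι
    exact one_ne_zero (neg_eq_zero.mp hι.symm)
  have hL0 : L ≠ 0 := by
    rintro rfl
    rw [mul_zero] at hL
    exact hι0 hL
  have hφL0 : φ L ≠ 0 := (map_ne_zero φ).mpr hL0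
  obtain ⟨M, hMdef⟩ : ∃ M : F, M = (φ L)⁻¹ := ⟨_, rfl⟩
  have hML' : M * φ L = 1 := by rw [hMdef]; exact inv_mul_cancel₀ hφL0
  have hLM' : L * φ M = 1 := by
    rw [hMdef, map_inv₀, hφφ]
    exact mul_inv_cancel₀ hL0
  have hMM : M * M = -ι := by
    have h3 : M * M * ι = 1 := by
      have h4 : φ (L * L) = ι := by rw [← hL, hιφ]
      rw [← h4, map_mul]
      linear_combination (M * φ L + 1) * hML'
    have h4 : ι * (-ι) = 1 := by linear_combination -hι
    calc M * M = (M * M * ι) * (-ι) := by rw [mul_assoc, h4, mul_one]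
      _ = -ι := by rw [h3, one_mul]
  obtain ⟨t, htdef⟩ : ∃ t : F, t = 2⁻¹ := ⟨_, rfl⟩
  have ht : 2 * t = 1 := by rw [htdef]; exact mul_inv_cancel₀ h2
  have hφt : φ t = t := by rw [htdef, map_inv₀, map_ofNat]
  refine ⟨t * (L + M), -ι * t * (L - M), ?_, ?_, ?_, ?_⟩
  · linear_combination (2 * t * t) * hMM - (2 * t * t) * hL - (t * t * (L - M) * (L - M)) * hι
  · linear_combination (2 * t + 1) * ht - (4 * t * t) * hι + (2 * ι * t * t) * hL
      + (2 * ι * t * t) * hMM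
  · simp only [map_add, map_sub, map_mul, map_neg, hιφ, hφt]
    linear_combination (2 * t + 1) * ht + (2 * t * t) * hLM' + (2 * t * t) * hML'
      + (t * t * (L - M) * (φ L - φ M)) * hι
  · simp only [map_add, map_sub, map_mul, map_neg, hιφ, hφt]
    linear_combination (-2 * ι * t * t) * hLM' + (2 * ι * t * t) * hML'

section

variable (hφ : ∀ x, φ x = x ^ q)

include hφ in
theorem td1u : TD (D1 ⊓ GU2 q : Subgroup GL2) w2 := TD.inf td1 (GU2 q) (w2_mem_GU2 q φ hφ)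

include hφ in
theorem td2u (h2 : (2 : F) ≠ 0) : TD (D2 ⊓ GU2 q : Subgroup GL2) yG :=
  TD.inf (td2 h2) (GU2 q) (yG_mem_GU2 q φ hφ)

include hφ in
theorem dg_mem_BBu {a b : Fˣ} (ha : ∃ k : ℕ, a ^ 2 ^ k = 1) (hb : ∃ k : ℕ, b ^ 2 ^ k = 1)
    (hau : (a : F) * φ a = 1) (hbu : (b : F) * φ b = 1) :
    (dg a b : GL2) ∈ BB (td1u q φ hφ) :=
  (mem_BB_inf' td1 (GU2 q) _).mpr ⟨dg_mem_BB ha hb, dg_mem_GU2 q φ hφ hau hbu⟩

include hφ in
theorem of_mem_BB1u {A : GL2} (hA : A ∈ BB (td1u q φ hφ)) :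
    ∃ a b : Fˣ, A = dg a b ∧ (∃ k : ℕ, a ^ 2 ^ k = 1) ∧ (∃ k : ℕ, b ^ 2 ^ k = 1) ∧
      (a : F) * φ a = 1 ∧ (b : F) * φ b = 1 := by
  obtain ⟨hB, hG⟩ := (mem_BB_inf' td1 (GU2 q) _).mp hA
  obtain ⟨a, b, rfl, ha, hb⟩ := of_mem_BB1 hB
  obtain ⟨h1, h2⟩ := of_dg_mem_GU2 q φ hφ hG
  exact ⟨a, b, rfl, ha, hb, h1, h2⟩

include hφ in
theorem hN1u (h2 : (2 : F) ≠ 0) : ∀ A ∈ (GU2 q : Subgroup GL2),
    (∀ b ∈ BB (td1u q φ hφ), A * b * A⁻¹ ∈ BB (td1u q φ hφ)) →
      A ∈ (D1 ⊓ GU2 q : Subgroup GL2) ∨ A * w2 ∈ (D1 ⊓ GU2 q : Subgroup GL2) := by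
  intro A hA hcl
  have hb₀ : (dg (-1) 1 : GL2) ∈ BB (td1u q φ hφ) :=
    dg_mem_BBu q φ hφ ⟨1, by simp⟩ ⟨0, by simp⟩ (by simp) (by simp)
  obtain ⟨hD, -⟩ := hcl _ hb₀
  obtain ⟨c, e, hce⟩ := (Subgroup.mem_inf.mp hD).1
  rcases hN1_core h2 A c e hce with h | h
  · left
    exact Subgroup.mem_inf.mpr ⟨h, hA⟩
  · right
    exact Subgroup.mem_inf.mpr ⟨h, (GU2 q).mul_mem hA (w2_mem_GU2 q φ hφ)⟩

include hφ in
theorem hN2u (h2 : (2 : F) ≠ 0) : ∀ A ∈ (GU2 q : Subgroup GL2),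
    (∀ b ∈ BB (td2u q φ hφ h2), A * b * A⁻¹ ∈ BB (td2u q φ hφ h2)) →
      A ∈ (D2 ⊓ GU2 q : Subgroup GL2) ∨ A * yG ∈ (D2 ⊓ GU2 q : Subgroup GL2) := by
  intro A hA hcl
  have hi : (iG : GL2) ∈ BB (td2u q φ hφ h2) :=
    (mem_BB_inf' (td2 h2) (GU2 q) _).mpr ⟨iG_mem_BB h2, iG_mem_GU2 q φ hφ⟩
  obtain ⟨hD, -⟩ := hcl _ hi
  rcases hN2_core h2 A (Subgroup.mem_inf.mp hD).1 with h | h
  · left
    exact Subgroup.mem_inf.mpr ⟨h, hA⟩
  · right
    exact Subgroup.mem_inf.mpr ⟨h, (GU2 q).mul_mem hA (yG_mem_GU2 q φ hφ)⟩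

variable [Fintype F]

omit hφ in
theorem card_mod_four (hq : Fintype.card F = q ^ 2) (hodd : q % 2 = 1) :
    Fintype.card F % 4 = 1 := by
  rw [hq]
  have h4 : q % 4 = 1 ∨ q % 4 = 3 := by omega
  rcases h4 with h | h <;> rw [Nat.pow_mod, h]

omit hφ in
theorem exists_sq_neg_one (hq : Fintype.card F = q ^ 2) (hodd : q % 2 = 1) :
    ∃ ι : F, ι * ι = -1 := by
  have hsq : IsSquare (-1 : F) := by
    rw [FiniteField.isSquare_neg_one_iff, card_mod_four q hq hodd]
    omega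
  obtain ⟨ι, hι⟩ := hsq
  exact ⟨ι, hι.symm⟩

omit [Fintype F] hφ in
theorem pow_four_of {ι : F} (hι : ι * ι = -1) : ι ^ 4 = 1 := by
  have e : ι ^ 4 = (ι * ι) * (ι * ι) := by ring
  rw [e, hι]
  ring

include hφ in
theorem exists_iota (hq : Fintype.card F = q ^ 2) (hq4 : q % 4 = 1) :
    ∃ ι : F, ι * ι = -1 ∧ φ ι = ι := by
  obtain ⟨ι, hι⟩ := exists_sq_neg_one q hq (by omega)
  refine ⟨ι, hι, ?_⟩
  rw [hφ]
  obtain ⟨m, rfl⟩ : ∃ m, q = 4 * m + 1 := ⟨q / 4, by omega⟩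
  rw [pow_succ, pow_mul, pow_four_of hι, one_pow, one_mul]

include hφ in
/-- the element `e₀` for the diagonal unitary torus, `q ≡ 3 mod 4` -/
theorem he1u (h2 : (2 : F) ≠ 0) (hq : Fintype.card F = q ^ 2) (hq4 : q % 4 = 3) :
    ∃ e₀ : GL2, e₀ ∈ BB (td1u q φ hφ) ∧ w2 * (e₀ * e₀) * w2 ≠ e₀ * e₀ := by
  obtain ⟨ι, hι⟩ := exists_sq_neg_one q hq (by omega)
  have hι0 : ι ≠ 0 := by
    rintro rfl
    rw [mul_zero] at hι
    exact one_ne_zero (neg_eq_zero.mp hι.symm)
  have hιu : ι * φ ι = 1 := by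
    rw [hφ, ← pow_succ']
    obtain ⟨m, rfl⟩ : ∃ m, q = 4 * m + 3 := ⟨q / 4, by omega⟩
    rw [show 4 * m + 3 + 1 = 4 * (m + 1) by ring, pow_mul, pow_four_of hι, one_pow]
  have h4 : (Units.mk0 ι hι0) ^ 2 ^ 2 = 1 := by
    apply Units.ext
    rw [Units.val_pow_eq_pow_val, Units.val_mk0, Units.val_one]
    exact pow_four_of hι
  refine ⟨dg (Units.mk0 ι hι0) 1,
    dg_mem_BBu q φ hφ ⟨2, h4⟩ ⟨0, by simp⟩ hιu (by simp), ?_⟩
  rw [dg_mul, w2_dg]
  intro h
  obtain ⟨h1, -⟩ := dg_inj h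
  have h3 := congrArg Units.val h1
  simp only [Units.val_mul, Units.val_mk0, Units.val_one, mul_one] at h3
  rw [hι] at h3
  apply h2
  linear_combination h3

include hφ in
/-- the element `e₀` with `e₀² = i` in the cyclic unitary torus, `q ≡ 1 mod 4` -/
theorem he2u (h2 : (2 : F) ≠ 0) (hq : Fintype.card F = q ^ 2) (hq4 : q % 4 = 1) :
    ∃ e₀ : GL2, e₀ ∈ BB (td2u q φ hφ h2) ∧ yG * (e₀ * e₀) * yG ≠ e₀ * e₀ := by
  obtain ⟨ι, hι, hιφ⟩ := exists_iota q φ hφ hq hq4
  have hι0 : ι ≠ 0 := by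
    rintro rfl
    rw [mul_zero] at hι
    exact one_ne_zero (neg_eq_zero.mp hι.symm)
  have hchar : ringChar F ≠ 2 := by
    intro hc
    apply h2
    have h3 : ((ringChar F : ℕ) : F) = 0 := ringChar.Nat.cast_ringChar
    rw [hc] at h3
    exact_mod_cast h3
  have hsq : IsSquare ι := by
    rw [FiniteField.isSquare_iff hchar hι0, hq]
    obtain ⟨m, rfl⟩ : ∃ m, q = 4 * m + 1 := ⟨q / 4, by omega⟩
    have e : (4 * m + 1) ^ 2 / 2 = 4 * (2 * m * m + m) := by
      have e2 : (4 * m + 1) ^ 2 = 2 * (4 * (2 * m * m + m)) + 1 := by ring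
      rw [e2]
      omega
    rw [e, pow_mul, pow_four_of hι, one_pow]
  obtain ⟨L, hL⟩ := hsq
  obtain ⟨a, b, haa, hab, V1, V2⟩ := e0_alg φ h2 (frob_frob q φ hφ hq) hι hιφ hL
  have hdet : a * a - (-b) * b ≠ 0 := by
    intro h
    have h3 : a * a = 0 := by
      have : (2 : F) * (a * a) = 0 := by linear_combination h + haa
      rcases mul_eq_zero.mp this with h' | h'
      · exact absurd h' h2
      · exact h'
    have ha0 : a = 0 := mul_self_eq_zero.mp h3
    rw [ha0, zero_mul, mul_zero] at hab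
    exact zero_ne_one hab
  obtain ⟨e₀, he₀def⟩ : ∃ e₀ : GL2, e₀ = mk2 a (-b) b a hdet := ⟨_, rfl⟩
  have h00 : e₀.1 0 0 = a := by rw [he₀def]; rfl
  have h01 : e₀.1 0 1 = -b := by rw [he₀def]; rfl
  have h10 : e₀.1 1 0 = b := by rw [he₀def]; rfl
  have h11 : e₀.1 1 1 = a := by rw [he₀def]; rfl
  have hsq : e₀ * e₀ = iG := by
    apply gl2_ext <;> simp only [mul_val, h00, h01, h10, h11, iG_00, iG_01, iG_10, iG_11]
    · linear_combination haa
    · linear_combination -hab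
    · linear_combination hab
    · linear_combination haa
  have hD : e₀ ∈ (D2 : Subgroup GL2) := by
    rw [mem_D2, h00, h11, h01, h10]
    exact ⟨rfl, rfl⟩
  have hG : e₀ ∈ (GU2 q : Subgroup GL2) := by
    rw [mem_GU2_iff' q φ hφ, h00, h01, h10, h11]
    simp only [map_neg]
    refine ⟨V1, ?_, ?_, ?_⟩
    · linear_combination V2
    · linear_combination -V2
    · linear_combination V1
  have h8 : e₀ ^ 2 ^ 3 = 1 := by
    have e : e₀ ^ 2 ^ 3 = ((e₀ * e₀) * (e₀ * e₀)) * ((e₀ * e₀) * (e₀ * e₀)) := by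
      rw [show (2 : ℕ) ^ 3 = (2 + 2) + (2 + 2) from rfl, pow_add, pow_add, pow_two]
    rw [e, hsq, iG_sq, sc_neg_sq]
  refine ⟨e₀, (mem_BB_inf' (td2 h2) (GU2 q) _).mpr ⟨⟨hD, 3, h8⟩, hG⟩, ?_⟩
  rw [hsq]
  intro h
  have e01 := congrArg (fun X : GL2 => X.1 0 1) h
  simp only [yAy_01, iG_01, neg_neg] at e01
  apply h2
  linear_combination e01

include hφ in
/-- the determinant of a `2`-element of the cyclic unitary torus is `±1` when `q ≡ 1 mod 4` -/
theorem det_BB2u (h2 : (2 : F) ≠ 0) (hq4 : q % 4 = 1) {A : GL2}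
    (hA : A ∈ BB (td2u q φ hφ h2)) :
    A.1 1 1 * A.1 1 1 + A.1 1 0 * A.1 1 0 = 1 ∨
      A.1 1 1 * A.1 1 1 + A.1 1 0 * A.1 1 0 = -1 := by
  obtain ⟨hAD', k, hk⟩ := hA
  obtain ⟨hAD, hAG⟩ := Subgroup.mem_inf.mp hAD'
  obtain ⟨a1, a2⟩ := mem_D2.mp hAD
  have hdet : A.1.det = A.1 1 1 * A.1 1 1 + A.1 1 0 * A.1 1 0 := by
    rw [Matrix.det_fin_two, a1, a2]
    ring
  rw [← hdet]
  obtain ⟨δ, hδdef⟩ : ∃ δ : F, δ = A.1.det := ⟨_, rfl⟩
  rw [← hδdef]
  have hδk : δ ^ 2 ^ k = 1 := by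
    have h3 := congrArg (fun X : GL2 => X.1.det) hk
    simp only [Units.val_pow_eq_pow_val, Matrix.det_pow, Units.val_one, Matrix.det_one] at h3
    rw [hδdef]
    exact h3
  have hδφ : δ * φ δ = 1 := by
    have h3 := (mem_GU2_iff q φ hφ A).mp hAG
    unfold IsU at h3
    have h4 := congrArg Matrix.det h3
    rw [Matrix.det_mul, Matrix.det_transpose, Matrix.det_one] at h4
    rw [hδdef, RingHom.map_det, RingHom.mapMatrix_apply]
    exact h4
  have hδq : δ ^ (q + 1) = 1 := by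
    rw [pow_succ', ← hφ]
    exact hδφ
  have h3 : orderOf δ ∣ 2 ^ k := orderOf_dvd_of_pow_eq_one hδk
  have h4 : orderOf δ ∣ q + 1 := orderOf_dvd_of_pow_eq_one hδq
  obtain ⟨i, -, hi⟩ := (Nat.dvd_prime_pow Nat.prime_two).1 h3
  have hi1 : i ≤ 1 := by
    by_contra hcon
    have h5 : 2 ^ 2 ∣ 2 ^ i := pow_dvd_pow 2 (by omega)
    rw [hi] at h4
    have h6 : 2 ^ 2 ∣ q + 1 := h5.trans h4
    omega
  have h6 : δ ^ 2 = 1 := by
    apply orderOf_dvd_iff_pow_eq_one.mp
    rw [hi]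
    have := pow_dvd_pow 2 hi1
    rwa [pow_one] at this
  have h7 : (δ - 1) * (δ + 1) = 0 := by linear_combination h6
  rcases mul_eq_zero.mp h7 with h | h
  · left; linear_combination h
  · right; linear_combination h

include hφ in
/-- a unitary element with square `-1` is unitarily conjugate to `i`, `q ≡ 1 mod 4` -/
theorem exists_conj_iG_u (h2 : (2 : F) ≠ 0) (hq : Fintype.card F = q ^ 2) (hq4 : q % 4 = 1)
    {g : GL2} (hgG : g ∈ (GU2 q : Subgroup GL2)) (hg : g * g = sc (-1)) :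
    ∃ A ∈ (GU2 q : Subgroup GL2), A * iG = g * A := by
  obtain ⟨ι, hι, hιφ⟩ := exists_iota q φ hφ hq hq4
  obtain ⟨U1, -, U3, -⟩ := (mem_GU2_iff' q φ hφ g).mp hgG
  have s00 := congrArg (fun X : GL2 => X.1 0 0) hg
  have s10 := congrArg (fun X : GL2 => X.1 1 0) hg
  simp only [mul_val, sc_00, sc_10, Units.val_neg, Units.val_one] at s00 s10
  obtain ⟨x, z, hxz, hc0, G1, G2, G3, G4⟩ := conj_alg φ h2 hι hιφ s00 s10 U1 U3
  have hdet : (x + g.1 0 0 * z) * (g.1 1 0 * x) - (-z + g.1 0 0 * x) * (g.1 1 0 * z) ≠ 0 := by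
    have e : (x + g.1 0 0 * z) * (g.1 1 0 * x) - (-z + g.1 0 0 * x) * (g.1 1 0 * z)
        = g.1 1 0 * (x * x + z * z) := by ring
    rw [e]
    exact mul_ne_zero hc0 hxz
  refine ⟨mk2 _ _ _ _ hdet, ?_, ?_⟩
  · rw [mem_GU2_iff' q φ hφ, mk2_00, mk2_01, mk2_10, mk2_11]
    exact ⟨G1, G2, G3, G4⟩
  · apply gl2_ext <;>
      simp only [mul_val, mk2_00, mk2_01, mk2_10, mk2_11, iG_00, iG_01, iG_10, iG_11, mul_zero,
        zero_mul, add_zero, zero_add, mul_one, mul_neg, neg_mul, one_mul]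
    · linear_combination (-z) * s00
    · linear_combination (-x) * s00
    · linear_combination (-z) * s10
    · linear_combination (-x) * s10

end

end Cfsg.Agent.Lib.Helper2.SU3Fus
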