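import Cfsg.Agent.Lib.Helper2.SU3Fus2

set_option autoImplicit false

/-! Inside `SU₃(q)`: standard elements, unitary conjugacy of involutions, `2`-elements of the
centre. -/

namespace Cfsg.Agent.Lib.Helper2.SU3Fus

open Matrix Cfsg Cfsg.Agent.Lib.Lead.PSL3Inv Cfsg.Agent.Lib.Helper2.SL3Fus

variable {F : Type*} [Field F] (q : ℕ) (φ : F →+* F)

local notation "GL2" => GL (Fin 2) F
local notation "SL3" => Matrix.SpecialLinearGroup (Fin 3) F

theorem P02_conj' (α β : Fˣ) :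
    (P02 : SL3) * psi (dg α β) = psi (dg α (α * β)⁻¹) * P02 := by
  apply Subtype.ext
  show (!![0, 0, 1; 0, 1, 0; -1, 0, 0] : Matrix (Fin 3) (Fin 3) F) * (psi (dg α β) : SL3).val
    = (psi (dg α (α * β)⁻¹) : SL3).val * !![0, 0, 1; 0, 1, 0; -1, 0, 0]
  rw [psi_dg_val, psi_dg_val]
  have e : ((α : F) * ((α * β)⁻¹ : Fˣ))⁻¹ = β := by
    rw [Units.val_inv_eq_inv_val, Units.val_mul, _root_.mul_inv_rev, inv_inv, mul_comm (α : F) β,
      mul_assoc, mul_inv_cancel₀ α.ne_zero, mul_one]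
  rw [e, Units.val_inv_eq_inv_val, Units.val_mul]
  ext i j
  fin_cases i <;> fin_cases j <;> simp [Matrix.mul_apply, Fin.sum_univ_three]

/-- the Gram matrix of a block matrix -/
theorem iotaM_gram (A : Matrix (Fin 2) (Fin 2) F) (γ r s s' t : F) :
    (iotaM A)ᵀ * (!![γ, 0, 0; 0, r, s; 0, s', t] * (iotaM A).map φ) =
      !![A.det⁻¹ * γ * φ (A.det⁻¹), 0, 0;
        0, A 0 0 * (r * φ (A 0 0) + s * φ (A 1 0)) + A 1 0 * (s' * φ (A 0 0) + t * φ (A 1 0)),
          A 0 0 * (r * φ (A 0 1) + s * φ (A 1 1)) + A 1 0 * (s' * φ (A 0 1) + t * φ (A 1 1));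
        0, A 0 1 * (r * φ (A 0 0) + s * φ (A 1 0)) + A 1 1 * (s' * φ (A 0 0) + t * φ (A 1 0)),
          A 0 1 * (r * φ (A 0 1) + s * φ (A 1 1)) + A 1 1 * (s' * φ (A 0 1) + t * φ (A 1 1))] := by
  ext i j
  fin_cases i <;> fin_cases j <;>
    simp only [Matrix.mul_apply, Fin.sum_univ_three, Matrix.transpose_apply,
      Matrix.map_apply] <;>
    simp [iotaM] <;> ring

section

variable (hφ : ∀ x, φ x = x ^ q)

include hφ in
theorem Ds_mem : (Ds : SL3) ∈ SU 3 F q := by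
  rw [← psi_neg]
  exact (sc_mem_GU2_iff q φ hφ (-1)).mpr (by simp)

include hφ in
theorem P02_mem : (P02 : SL3) ∈ SU 3 F q := by
  rw [mem_SU_iff q φ hφ]
  unfold IsU
  ext i j
  fin_cases i <;> fin_cases j <;> simp [P02, Matrix.mul_apply, Fin.sum_univ_three]

include hφ in
theorem P01_mem : (P01 : SL3) ∈ SU 3 F q := by
  rw [mem_SU_iff q φ hφ]
  unfold IsU
  ext i j
  fin_cases i <;> fin_cases j <;> simp [P01, Matrix.mul_apply, Fin.sum_univ_three]

variable [Fintype F]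

include hφ in
/-- diagonalizing a nondegenerate hermitian `2 × 2` matrix, given a non-isotropic vector -/
theorem herm2_of (hq : Fintype.card F = q ^ 2) (r s s' t a c : F) (hr : φ r = r) (ht : φ t = t)
    (hs : φ s = s') (hs' : φ s' = s) (hdet : r * t - s * s' ≠ 0)
    (hN : a * (r * φ a + s * φ c) + c * (s' * φ a + t * φ c) ≠ 0) :
    ∃ C : GL2,
      C.1 0 0 * (r * φ (C.1 0 0) + s * φ (C.1 1 0))
        + C.1 1 0 * (s' * φ (C.1 0 0) + t * φ (C.1 1 0)) = 1 ∧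
      C.1 0 0 * (r * φ (C.1 0 1) + s * φ (C.1 1 1))
        + C.1 1 0 * (s' * φ (C.1 0 1) + t * φ (C.1 1 1)) = 0 ∧
      C.1 0 1 * (r * φ (C.1 0 0) + s * φ (C.1 1 0))
        + C.1 1 1 * (s' * φ (C.1 0 0) + t * φ (C.1 1 0)) = 0 ∧
      C.1 0 1 * (r * φ (C.1 0 1) + s * φ (C.1 1 1))
        + C.1 1 1 * (s' * φ (C.1 0 1) + t * φ (C.1 1 1)) = 1 ∧
      C.1.det * φ C.1.det * (r * t - s * s') = 1 := by
  have hφφ := frob_frob q φ hφ hq
  obtain ⟨N, hNdef⟩ : ∃ N : F, N = a * (r * φ a + s * φ c) + c * (s' * φ a + t * φ c) :=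
    ⟨_, rfl⟩
  have hφN : φ N = N := by
    rw [hNdef]
    simp only [map_add, map_mul, hφφ, hr, ht, hs, hs']
    ring
  have hN0 : N ≠ 0 := by rw [hNdef]; exact hN
  obtain ⟨x, hx⟩ := norm_surj q hq (inv_ne_zero hN0) (by rw [inv_pow, ← hφ, hφN])
  have hx' : x * φ x * N = 1 := by rw [hφ, hx]; exact inv_mul_cancel₀ hN0
  obtain ⟨Δ, hΔdef⟩ : ∃ Δ : F, Δ = r * t - s * s' := ⟨_, rfl⟩
  have hφΔ : φ Δ = Δ := by
    rw [hΔdef]
    simp only [map_sub, map_mul, hr, ht, hs, hs']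
    ring
  have hΔN0 : Δ * N ≠ 0 := mul_ne_zero (by rw [hΔdef]; exact hdet) hN0
  obtain ⟨y, hy⟩ := norm_surj q hq (inv_ne_zero hΔN0)
    (by rw [inv_pow, ← hφ, map_mul, hφΔ, hφN])
  have hy' : y * φ y * (Δ * N) = 1 := by rw [hφ, hy]; exact inv_mul_cancel₀ hΔN0
  have hx0 : x ≠ 0 := left_ne_zero_of_mul (left_ne_zero_of_mul_eq_one hx')
  have hy0 : y ≠ 0 := left_ne_zero_of_mul (left_ne_zero_of_mul_eq_one hy')
  subst hNdef hΔdef
  have hdetC : (a * x) * ((r * φ a + s * φ c) * y) - (-(s' * φ a + t * φ c) * y) * (c * x)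
      ≠ 0 := by
    have e : (a * x) * ((r * φ a + s * φ c) * y) - (-(s' * φ a + t * φ c) * y) * (c * x)
        = x * y * (a * (r * φ a + s * φ c) + c * (s' * φ a + t * φ c)) := by ring
    rw [e]
    exact mul_ne_zero (mul_ne_zero hx0 hy0) hN
  refine ⟨mk2 _ _ _ _ hdetC, ?_, ?_, ?_, ?_, ?_⟩
  · simp only [mk2_00, mk2_01, mk2_10, mk2_11, map_add, map_mul, map_neg, hφφ, hr, ht, hs, hs']
    linear_combination hx'
  · simp only [mk2_00, mk2_01, mk2_10, mk2_11, map_add, map_mul, map_neg, hφφ, hr, ht, hs, hs']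
    ring
  · simp only [mk2_00, mk2_01, mk2_10, mk2_11, map_add, map_mul, map_neg, hφφ, hr, ht, hs, hs']
    ring
  · simp only [mk2_00, mk2_01, mk2_10, mk2_11, map_add, map_mul, map_neg, hφφ, hr, ht, hs, hs']
    linear_combination hy'
  · rw [Matrix.det_fin_two]
    simp only [mk2_00, mk2_01, mk2_10, mk2_11, map_add, map_sub, map_mul, map_neg, hφφ, hr, ht,
      hs, hs']
    linear_combination (y * φ y * ((r * t - s * s')
      * (a * (r * φ a + s * φ c) + c * (s' * φ a + t * φ c)))) * hx' + hy'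

include hφ in
/-- diagonalizing a nondegenerate hermitian `2 × 2` matrix -/
theorem herm2 (hq : Fintype.card F = q ^ 2) (h2 : (2 : F) ≠ 0) (r s s' t : F) (hr : φ r = r)
    (ht : φ t = t) (hs : φ s = s') (hs' : φ s' = s) (hdet : r * t - s * s' ≠ 0) :
    ∃ C : GL2,
      C.1 0 0 * (r * φ (C.1 0 0) + s * φ (C.1 1 0))
        + C.1 1 0 * (s' * φ (C.1 0 0) + t * φ (C.1 1 0)) = 1 ∧
      C.1 0 0 * (r * φ (C.1 0 1) + s * φ (C.1 1 1))
        + C.1 1 0 * (s' * φ (C.1 0 1) + t * φ (C.1 1 1)) = 0 ∧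
      C.1 0 1 * (r * φ (C.1 0 0) + s * φ (C.1 1 0))
        + C.1 1 1 * (s' * φ (C.1 0 0) + t * φ (C.1 1 0)) = 0 ∧
      C.1 0 1 * (r * φ (C.1 0 1) + s * φ (C.1 1 1))
        + C.1 1 1 * (s' * φ (C.1 0 1) + t * φ (C.1 1 1)) = 1 ∧
      C.1.det * φ C.1.det * (r * t - s * s') = 1 := by
  by_cases h1 : r = 0
  · by_cases h3 : t = 0
    · refine herm2_of q φ hφ hq r s s' t 1 s hr ht hs hs' hdet ?_
      rw [map_one, hs, h1, h3]
      intro h
      have h5 : (2 : F) * (s * s') = 0 := by linear_combination h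
      apply hdet
      rcases mul_eq_zero.mp h5 with h6 | h6
      · exact absurd h6 h2
      · linear_combination t * h1 - h6
    · refine herm2_of q φ hφ hq r s s' t 0 1 hr ht hs hs' hdet ?_
      rw [map_zero, map_one]
      intro h
      apply h3
      linear_combination h
  · refine herm2_of q φ hφ hq r s s' t 1 0 hr ht hs hs' hdet ?_
    rw [map_one, map_zero]
    intro h
    apply h1
    linear_combination h

include hφ in
/-- an involution of `SU₃(q)` is conjugate in `SU₃(q)` to the standard one -/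
theorem inv_conj (hq : Fintype.card F = q ^ 2) (h2 : (2 : F) ≠ 0) (T : SL3)
    (hT : T ∈ SU 3 F q) (hTT : T * T = 1) (hT1 : T ≠ 1) :
    ∃ P ∈ SU 3 F q, T * P = P * Ds := by
  obtain ⟨P₀, hP₀⟩ := exists_conj h2 T hTT hT1
  have hφφ := frob_frob q φ hφ hq
  have hTU : T.1ᵀ * T.1.map φ = 1 := (mem_SU_iff q φ hφ T).mp hT
  obtain ⟨M, hMdef⟩ : ∃ M : Matrix (Fin 3) (Fin 3) F, M = P₀.1 := ⟨_, rfl⟩
  have hTP : T.1 * M = M * Dm := by
    rw [hMdef]
    exact congrArg Subtype.val hP₀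
  have hdM : M.det = 1 := by rw [hMdef]; exact P₀.2
  obtain ⟨Γ, hΓdef⟩ : ∃ Γ : Matrix (Fin 3) (Fin 3) F, Γ = Mᵀ * M.map φ := ⟨_, rfl⟩
  have hDmT : (Dm : Matrix (Fin 3) (Fin 3) F)ᵀ = Dm := by rw [Dm, Matrix.diagonal_transpose]
  have hDmφ : (Dm : Matrix (Fin 3) (Fin 3) F).map φ = Dm := by
    rw [Dm, Matrix.diagonal_map (map_zero φ)]
    congr 1
    ext i
    fin_cases i <;> simp
  have hΓ : Γ = Dm * Γ * Dm := by
    have e1 : (T.1 * M)ᵀ * (T.1 * M).map φ = Γ := by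
      rw [Matrix.transpose_mul, Matrix.map_mul, Matrix.mul_assoc, ← Matrix.mul_assoc (T.1ᵀ),
        hTU, Matrix.one_mul, hΓdef]
    rw [hTP, Matrix.transpose_mul, Matrix.map_mul, hDmT, hDmφ] at e1
    have e2 : Dm * Mᵀ * (M.map φ * Dm) = Dm * (Mᵀ * M.map φ) * Dm := by
      simp only [Matrix.mul_assoc]
    rw [← hΓdef] at e2
    exact e1.symm.trans e2
  have key : ∀ i j, Γ i j =
      (![1, -1, -1] : Fin 3 → F) i * Γ i j * (![1, -1, -1] : Fin 3 → F) j := by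
    intro i j
    have h := congrFun (congrFun hΓ i) j
    rwa [Dm, Matrix.mul_diagonal, Matrix.diagonal_mul] at h
  have zero_of : ∀ a : F, a = -a → a = 0 := by
    intro a ha
    have h3 : (2 : F) * a = 0 := by linear_combination ha
    rcases mul_eq_zero.mp h3 with h | h
    · exact absurd h h2
    · exact h
  have ε0 : (![1, -1, -1] : Fin 3 → F) 0 = 1 := rfl
  have ε1 : (![1, -1, -1] : Fin 3 → F) 1 = -1 := rfl
  have ε2 : (![1, -1, -1] : Fin 3 → F) 2 = -1 := rfl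
  have g01 : Γ 0 1 = 0 := by
    have h := key 0 1
    rw [ε0, ε1] at h
    apply zero_of
    linear_combination h
  have g02 : Γ 0 2 = 0 := by
    have h := key 0 2
    rw [ε0, ε2] at h
    apply zero_of
    linear_combination h
  have g10 : Γ 1 0 = 0 := by
    have h := key 1 0
    rw [ε0, ε1] at h
    apply zero_of
    linear_combination h
  have g20 : Γ 2 0 = 0 := by
    have h := key 2 0
    rw [ε0, ε2] at h
    apply zero_of
    linear_combination h
  have hΓh : ∀ i j, φ (Γ i j) = Γ j i := by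
    intro i j
    rw [hΓdef]
    simp only [Matrix.mul_apply, Matrix.transpose_apply, Matrix.map_apply, map_sum, map_mul,
      hφφ]
    apply Finset.sum_congr rfl
    intro k _
    rw [mul_comm]
  have hΓdet : Γ.det = 1 := by
    have e : (M.map φ).det = φ M.det := by rw [RingHom.map_det, RingHom.mapMatrix_apply]
    rw [hΓdef, Matrix.det_mul, Matrix.det_transpose, e, hdM, map_one, one_mul]
  rw [Matrix.det_fin_three, g01, g02, g10, g20] at hΓdet
  have hγ0 : Γ 0 0 * (Γ 1 1 * Γ 2 2 - Γ 1 2 * Γ 2 1) = 1 := by linear_combination hΓdet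
  obtain ⟨γ, r, s, s', t, hΓform, hr, ht, hs, hs', hγ⟩ : ∃ γ r s s' t : F,
      Γ = !![γ, 0, 0; 0, r, s; 0, s', t] ∧ φ r = r ∧ φ t = t ∧ φ s = s' ∧ φ s' = s ∧
        γ * (r * t - s * s') = 1 := by
    refine ⟨Γ 0 0, Γ 1 1, Γ 1 2, Γ 2 1, Γ 2 2, ?_, hΓh 1 1, hΓh 2 2, hΓh 1 2, hΓh 2 1, hγ0⟩
    ext i j
    fin_cases i <;> fin_cases j <;> simp [g01, g02, g10, g20]
  have hΔ0 : r * t - s * s' ≠ 0 := right_ne_zero_of_mul_eq_one hγ
  obtain ⟨C, E00, E01, E10, E11, Edet⟩ := herm2 q φ hφ hq h2 r s s' t hr ht hs hs' hΔ0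
  have hδ0 : C.1.det ≠ 0 := (Matrix.isUnits_det_units C).ne_zero
  have hφδ0 : φ C.1.det ≠ 0 := (map_ne_zero φ).mpr hδ0
  have hγ' : γ = C.1.det * φ C.1.det := by
    apply mul_right_cancel₀ hΔ0
    rw [hγ, Edet]
  have h00 : C.1.det⁻¹ * γ * φ (C.1.det⁻¹) = 1 := by
    rw [hγ', map_inv₀]
    field_simp
  refine ⟨P₀ * psi C, ?_, ?_⟩
  · rw [mem_SU_iff q φ hφ]
    unfold IsU
    show (P₀.1 * iotaM C.1)ᵀ * (P₀.1 * iotaM C.1).map φ = 1
    rw [← hMdef, Matrix.transpose_mul, Matrix.map_mul, Matrix.mul_assoc, ← Matrix.mul_assoc Mᵀ,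
      ← hΓdef, hΓform, iotaM_gram, E00, E01, E10, E11, h00]
    exact Matrix.one_fin_three.symm
  · rw [← mul_assoc, hP₀, mul_assoc, psi_comm, ← mul_assoc]

include hφ in
/-- a `2`-element of the centre of `SU₃(q)` is trivial -/
theorem center_two (h2 : (2 : F) ≠ 0) (z : ↥(SU 3 F q))
    (hz : z ∈ Subgroup.center ↥(SU 3 F q)) (k : ℕ) (hk : z ^ 2 ^ k = 1) : z = 1 := by
  have hcomm : ∀ X : SL3, X ∈ SU 3 F q → X * z.1 = z.1 * X := by
    intro X hX
    have h := Subgroup.mem_center_iff.mp hz ⟨X, hX⟩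
    exact congrArg Subtype.val h
  obtain ⟨A, hA⟩ := exists_psi_eq h2 z.1 (hcomm Ds (Ds_mem q φ hφ))
  have hd1 : (dg (-1) 1 : GL2) ∈ GU2 q := dg_mem_GU2 q φ hφ (by simp) (by simp)
  have h4 : dg (-1) 1 * A = A * dg (-1) 1 := by
    apply psi_inj
    rw [map_mul, map_mul, hA]
    exact hcomm _ hd1
  have zero_of : ∀ a : F, a = -a → a = 0 := by
    intro a ha
    have h3 : (2 : F) * a = 0 := by linear_combination ha
    rcases mul_eq_zero.mp h3 with h | h
    · exact absurd h h2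
    · exact h
  have e01 := congrArg (fun X : GL2 => X.1 0 1) h4
  have e10 := congrArg (fun X : GL2 => X.1 1 0) h4
  simp only [mul_val, dg_00, dg_01, dg_10, dg_11, Units.val_neg, Units.val_one, mul_zero,
    zero_mul, add_zero, zero_add, mul_one, one_mul, mul_neg, neg_mul] at e01 e10
  have hA01 : A.1 0 1 = 0 := by
    apply zero_of
    linear_combination -e01
  have hA10 : A.1 1 0 = 0 := by
    apply zero_of
    linear_combination e10
  obtain ⟨a, b, rfl⟩ := mem_D1_of_entries hA01 hA10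
  have h5 : w2 * dg a b = dg a b * w2 := by
    apply psi_inj
    rw [map_mul, map_mul, hA]
    exact hcomm _ (w2_mem_GU2 q φ hφ)
  have hab : b = a := by
    have h6 : w2 * dg a b * w2 = dg a b := by rw [h5, mul_assoc, w2_sq, mul_one]
    rw [w2_dg] at h6
    exact (dg_inj h6).1
  subst hab
  have h7 : P02 * psi (dg b b) = psi (dg b b) * P02 := by
    rw [hA]
    exact hcomm _ (P02_mem q φ hφ)
  rw [P02_conj'] at h7
  have h8 : dg b (b * b)⁻¹ = dg b b := psi_inj (mul_right_cancel h7)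
  have h9 : (b * b)⁻¹ = b := (dg_inj h8).2
  have hb3 : b ^ 3 = 1 := by
    have h10 : b * (b * b) = 1 := by
      calc b * (b * b) = (b * b)⁻¹ * (b * b) := by rw [h9]
        _ = 1 := inv_mul_cancel _
    calc b ^ 3 = b * (b * b) := by rw [pow_succ, pow_two, mul_assoc]
      _ = 1 := h10
  have hz3 : z ^ 3 = 1 := by
    apply Subtype.ext
    rw [Subgroup.coe_pow, Subgroup.coe_one, ← hA, ← map_pow, dg_pow, hb3, dg_one, map_one]
  have h11 : orderOf z ∣ Nat.gcd (2 ^ k) 3 :=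
    Nat.dvd_gcd (orderOf_dvd_of_pow_eq_one hk) (orderOf_dvd_of_pow_eq_one hz3)
  have h12 : Nat.gcd (2 ^ k) 3 = 1 := Nat.Coprime.pow_left k (by norm_num)
  rw [h12, Nat.dvd_one] at h11
  exact orderOf_eq_one_iff.mp h11

end

end Cfsg.Agent.Lib.Helper2.SU3Fus
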