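import Cfsg.Agent.Lib.Helper2.SU3Fus3

set_option autoImplicit false

/-! The `2`-fusion system of `PSU₃(q)`, `q` odd, is simple. -/

namespace Cfsg.Agent.Lib.Helper2.SU3Fus

open Matrix Cfsg Cfsg.Agent.Lib.Lead.PSL3Inv Cfsg.Agent.Lib.Helper2.SimpCrit2
  Cfsg.Agent.Lib.Helper2.SL3Fus
open scoped Pointwise

section Norm

variable {M : Type*} [Group M]

theorem normalizer_subgroupOf_conj (K U : Subgroup M) (hUK : U ≤ K) (g : ↥K)
    (hg : g ∈ Subgroup.normalizer ((U.subgroupOf K : Subgroup ↥K) : Set ↥K)) :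
    (∀ x ∈ U, (g : M) * x * (g : M)⁻¹ ∈ U) ∧ (∀ x ∈ U, (g : M)⁻¹ * x * (g : M) ∈ U) := by
  constructor
  · intro x hx
    have h6 := (Subgroup.mem_normalizer_iff.mp hg ⟨x, hUK hx⟩).mp
      (Subgroup.mem_subgroupOf.mpr hx)
    exact Subgroup.mem_subgroupOf.mp h6
  · intro x hx
    have h6 := (Subgroup.mem_normalizer_iff.mp (Subgroup.inv_mem _ hg) ⟨x, hUK hx⟩).mp
      (Subgroup.mem_subgroupOf.mpr hx)
    have h7 := Subgroup.mem_subgroupOf.mp h6
    simpa using h7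

end Norm

variable {F : Type*} [Field F]

local notation "GL2" => GL (Fin 2) F
local notation "SL3" => Matrix.SpecialLinearGroup (Fin 3) F

section Main

variable [Fintype F] (q : ℕ) (φ : F →+* F) (hφ : ∀ x, φ x = x ^ q)

include hφ in
/-- the generic theorem: a unitary torus model gives simplicity of the `2`-fusion system -/
theorem su3_simple_of_model (hq : Fintype.card F = q ^ 2) (h2 : (2 : F) ≠ 0)
    {D : Subgroup GL2} {y : GL2} (h : TD D y)
    (hDG : D ≤ GU2 q) (hyG : y ∈ (GU2 q : Subgroup GL2))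
    (hZD : ∀ c : Fˣ, (sc c : GL2) ∈ (GU2 q : Subgroup GL2) → (sc c : GL2) ∈ D)
    (hfix : ∀ d ∈ D, y * d * y = d → d ∈ (sc : Fˣ →* GL2).range)
    (hN : ∀ A ∈ (GU2 q : Subgroup GL2), (∀ b ∈ BB h, A * b * A⁻¹ ∈ BB h) → A ∈ D ∨ A * y ∈ D)
    {e₀ : GL2} (he₀ : e₀ ∈ BB h) (hne : y * (e₀ * e₀) * y ≠ e₀ * e₀)
    (hgen : ∀ T : Subgroup SL3,
      (∀ s ∈ (UU h).map (psi : GL2 →* SL3), s * s = 1 → s ∈ T) →
      (∀ t ∈ T, ∀ x ∈ SU 3 F q, x * t * x⁻¹ ∈ (UU h).map (psi : GL2 →* SL3) →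
        x * t * x⁻¹ ∈ T) →
      (UU h).map (psi : GL2 →* SL3) ≤ T)
    (S : Sylow 2 (PSU 3 F q)) : (groupFusionSystem (S : Subgroup (PSU 3 F q))).IsSimple 2 := by
  classical
  obtain ⟨U, hUdef⟩ : ∃ U : Subgroup SL3, U = (UU h).map (psi : GL2 →* SL3) := ⟨_, rfl⟩
  rw [← hUdef] at hgen
  have hUUG : UU h ≤ GU2 q := by
    intro g hg
    rcases hg with hg | hg
    · exact hDG hg.1
    · have h1 : g * y ∈ GU2 q := hDG hg.1
      have e : g = (g * y) * y⁻¹ := by group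
      rw [e]
      exact (GU2 q).mul_mem h1 ((GU2 q).inv_mem hyG)
  have hUK : U ≤ SU 3 F q := by
    rw [hUdef]
    rintro _ ⟨v, hv, rfl⟩
    exact hUUG hv
  have hUp : IsPGroup 2 U := by rw [hUdef]; exact (UU_isPGroup h).map psi
  have hnegG : (sc (-1) : GL2) ∈ (GU2 q : Subgroup GL2) :=
    (sc_mem_GU2_iff q φ hφ (-1)).mpr (by simp)
  have hneg : (sc (-1) : GL2) ∈ BB h := ⟨hZD _ hnegG, 1, by
    rw [pow_one, pow_two]; exact sc_neg_sq⟩
  have hDsU : (Ds : SL3) ∈ U := by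
    rw [hUdef, ← psi_neg]
    exact Subgroup.mem_map_of_mem _ (BB_le_UU h hneg)
  have hU1 : U ≠ ⊥ := by
    intro hb
    rw [hb, Subgroup.mem_bot] at hDsU
    exact Ds_ne_one h2 hDsU
  have he₁ : e₀ * e₀ ∈ BB h := (BB h).mul_mem he₀ he₀
  -- central involutions
  have hcent : ∀ s ∈ U, s * s = 1 → s ≠ 1 → (∀ u ∈ U, u * s = s * u) → s = Ds := by
    intro s hs hs2 hs1 hsc
    rw [hUdef] at hs
    obtain ⟨v, hv, rfl⟩ := Subgroup.mem_map.mp hs
    have hvc : ∀ w ∈ UU h, w * v = v * w := by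
      intro w hw
      apply psi_inj
      rw [map_mul, map_mul]
      exact hsc _ (by rw [hUdef]; exact Subgroup.mem_map_of_mem _ hw)
    obtain ⟨hvB, hvy⟩ := central_mem h he₁ hne hv hvc
    obtain ⟨c, hc⟩ := hfix v hvB.1 hvy
    have hcc : c * c = 1 := by
      apply sc_inj
      rw [map_mul, hc, map_one]
      apply psi_inj
      rw [map_mul, map_one]
      exact hs2
    have hc1 : c ≠ 1 := by
      rintro rfl
      apply hs1
      rw [← hc, map_one, map_one]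
    have hcneg : c = -1 := by
      have h3 : ((c : F) - 1) * ((c : F) + 1) = 0 := by
        have h4 := congrArg Units.val hcc
        rw [Units.val_mul, Units.val_one] at h4
        linear_combination h4
      rcases mul_eq_zero.mp h3 with h5 | h5
      · exfalso
        apply hc1
        apply Units.ext
        rw [Units.val_one]
        linear_combination h5
      · apply Units.ext
        rw [Units.val_neg, Units.val_one]
        linear_combination h5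
    rw [← hc, hcneg, psi_neg]
  -- the normalizer
  have hdecomp : ∀ g ∈ SU 3 F q, (∀ x ∈ U, g * x * g⁻¹ ∈ U) → (∀ x ∈ U, g⁻¹ * x * g ∈ U) →
      ∃ u ∈ UU h, ∃ c : Fˣ, g = psi (u * sc c) := by
    intro g hgK hg1 hg2
    have h1 : g * Ds * g⁻¹ = Ds := by
      apply hcent
      · exact hg1 Ds hDsU
      · have e : g * Ds * g⁻¹ * (g * Ds * g⁻¹) = g * (Ds * Ds) * g⁻¹ := by group
        rw [e, Ds_mul_self, mul_one, mul_inv_cancel]
      · intro h3
        apply Ds_ne_one h2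
        have e : (Ds : SL3) = g⁻¹ * (g * Ds * g⁻¹) * g := by group
        rw [e, h3, mul_one, inv_mul_cancel]
      · intro u hu
        have hu' : g⁻¹ * u * g ∈ U := hg2 u hu
        rw [hUdef] at hu'
        obtain ⟨w, -, hw⟩ := Subgroup.mem_map.mp hu'
        have h4 : Ds * (g⁻¹ * u * g) = (g⁻¹ * u * g) * Ds := by
          rw [← hw]
          exact psi_comm w
        calc u * (g * Ds * g⁻¹) = g * ((g⁻¹ * u * g) * Ds) * g⁻¹ := by group
          _ = g * (Ds * (g⁻¹ * u * g)) * g⁻¹ := by rw [h4]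
          _ = g * Ds * g⁻¹ * u := by group
    have h5 : Ds * g = g * Ds := by
      calc Ds * g = (g * Ds * g⁻¹) * g := by rw [h1]
        _ = g * Ds := by group
    obtain ⟨A, rfl⟩ := exists_psi_eq h2 g h5
    have hAG : A ∈ (GU2 q : Subgroup GL2) := hgK
    have hAN : A ∈ Subgroup.normalizer ((UU h : Subgroup GL2) : Set GL2) := by
      apply Cfsg.Agent.Lib.Helper2.SimpCrit.mem_normalizer_of_conj_mem
      · intro v hv
        have h6 : psi A * psi v * (psi A)⁻¹ ∈ U :=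
          hg1 _ (by rw [hUdef]; exact Subgroup.mem_map_of_mem _ hv)
        rw [hUdef] at h6
        obtain ⟨w, hw, hw2⟩ := Subgroup.mem_map.mp h6
        have e : w = A * v * A⁻¹ := by
          apply psi_inj
          rw [hw2, map_mul, map_mul, map_inv]
        rw [← e]
        exact hw
      · intro v hv
        have h6 : (psi A)⁻¹ * psi v * psi A ∈ U :=
          hg2 _ (by rw [hUdef]; exact Subgroup.mem_map_of_mem _ hv)
        rw [hUdef] at h6
        obtain ⟨w, hw, hw2⟩ := Subgroup.mem_map.mp h6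
        have e : w = A⁻¹ * v * A := by
          apply psi_inj
          rw [hw2, map_mul, map_mul, map_inv]
        rw [← e]
        exact hw
    obtain ⟨u, hu, z, ⟨c, rfl⟩, hAuz⟩ :=
      normalizer_UU_rel h _ sc_center hfix (GU2 q) hN he₀ hne hAG hAN
    exact ⟨u, hu, c, by rw [hAuz]⟩
  have hN' : ∀ g ∈ SU 3 F q, (∀ x ∈ U, g * x * g⁻¹ ∈ U) → (∀ x ∈ U, g⁻¹ * x * g ∈ U) →
      ∃ u ∈ U, ∀ x ∈ U, g * x * g⁻¹ = u * x * u⁻¹ := by
    intro g hgK hg1 hg2
    obtain ⟨u, hu, c, rfl⟩ := hdecomp g hgK hg1 hg2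
    refine ⟨psi u, by rw [hUdef]; exact Subgroup.mem_map_of_mem _ hu, ?_⟩
    intro x hx
    rw [hUdef] at hx
    obtain ⟨v, -, rfl⟩ := Subgroup.mem_map.mp hx
    have e1 : psi (u * sc c) * psi v * (psi (u * sc c))⁻¹ =
        psi (u * sc c * v * (u * sc c)⁻¹) := by simp only [map_mul, map_inv]
    have e2 : psi u * psi v * (psi u)⁻¹ = psi (u * v * u⁻¹) := by simp only [map_mul, map_inv]
    have hcv : sc c * v = v * sc c := sc_comm c v
    have e3 : u * sc c * v * (u * sc c)⁻¹ = u * v * u⁻¹ := by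
      calc u * sc c * v * (u * sc c)⁻¹ = u * (sc c * v) * (sc c)⁻¹ * u⁻¹ := by group
        _ = u * (v * sc c) * (sc c)⁻¹ * u⁻¹ := by rw [hcv]
        _ = u * v * u⁻¹ := by group
    rw [e1, e2, e3]
  -- `U` is a Sylow subgroup of `SU₃`
  obtain ⟨Q, hQ⟩ : ∃ Q : Sylow 2 ↥(SU 3 F q),
      (Q : Subgroup ↥(SU 3 F q)) = U.subgroupOf (SU 3 F q) := by
    apply exists_sylow_eq (U.subgroupOf (SU 3 F q)) hUp.comap_subtype
    intro x hx hxp
    obtain ⟨hx1, hx2⟩ := normalizer_subgroupOf_conj (SU 3 F q) U hUK x hx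
    obtain ⟨u, hu, c, hxe⟩ := hdecomp x.1 x.2 hx1 hx2
    obtain ⟨k, hk⟩ := hxp
    obtain ⟨j, hj⟩ := UU_isPGroup h ⟨u, hu⟩
    have hj' : u ^ 2 ^ j = 1 := by
      have h3 := congrArg Subtype.val hj
      simpa using h3
    have hAk : (u * sc c) ^ 2 ^ k = 1 := by
      apply psi_inj
      rw [map_pow, ← hxe, map_one]
      have h3 := congrArg Subtype.val hk
      simpa using h3
    have hcomm : Commute u (sc c) := (sc_comm c u).symm
    have hck : (sc c : GL2) ^ 2 ^ (j + k) = 1 := by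
      have h3 := hcomm.mul_pow (2 ^ (j + k))
      have h4 : (u * sc c) ^ 2 ^ (j + k) = 1 := by
        rw [pow_add, mul_comm (2 ^ j) (2 ^ k), pow_mul, hAk, one_pow]
      have h5 : u ^ 2 ^ (j + k) = 1 := by
        rw [pow_add, pow_mul, hj', one_pow]
      rw [h4, h5, one_mul] at h3
      exact h3.symm
    have hscG : (sc c : GL2) ∈ (GU2 q : Subgroup GL2) := by
      have h3 : u * sc c ∈ (GU2 q : Subgroup GL2) := by
        show psi (u * sc c) ∈ SU 3 F q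
        rw [← hxe]
        exact x.2
      have e : (sc c : GL2) = u⁻¹ * (u * sc c) := by group
      rw [e]
      exact (GU2 q).mul_mem ((GU2 q).inv_mem (hUUG hu)) h3
    have hscB : (sc c : GL2) ∈ BB h := ⟨hZD c hscG, j + k, hck⟩
    rw [Subgroup.mem_subgroupOf, hxe, hUdef]
    exact Subgroup.mem_map_of_mem _ ((UU h).mul_mem hu (BB_le_UU h hscB))
  -- the projection
  obtain ⟨π, hπdef⟩ : ∃ π : ↥(SU 3 F q) →* PSU 3 F q,
      π = QuotientGroup.mk' (Subgroup.center ↥(SU 3 F q)) := ⟨_, rfl⟩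
  have hπker : π.ker = Subgroup.center ↥(SU 3 F q) := by
    rw [hπdef]; exact QuotientGroup.ker_mk' _
  have hπsurj : Function.Surjective π := by rw [hπdef]; exact QuotientGroup.mk'_surjective _
  obtain ⟨Q', hQ'⟩ : ∃ Q' : Sylow 2 (PSU 3 F q),
      (Q' : Subgroup (PSU 3 F q)) = (U.subgroupOf (SU 3 F q)).map π :=
    ⟨Q.mapSurjective hπsurj, by rw [Sylow.coe_mapSurjective, hQ]⟩
  obtain ⟨g, hg⟩ := MulAction.exists_smul_eq (PSU 3 F q) Q' S
  obtain ⟨ψ, hψdef⟩ : ∃ ψ : ↥(SU 3 F q) →* PSU 3 F q,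
      ψ = (MulAut.conj g).toMonoidHom.comp π := ⟨_, rfl⟩
  have hψker : ψ.ker = Subgroup.center ↥(SU 3 F q) := by
    ext x
    have h1 : x ∈ ψ.ker ↔ x ∈ π.ker := by
      rw [MonoidHom.mem_ker, MonoidHom.mem_ker, hψdef, MonoidHom.comp_apply]
      exact (MulAut.conj g).map_eq_one_iff
    rw [h1, hπker]
  have hψsurj : Function.Surjective ψ := by
    rw [hψdef]
    exact (MulAut.conj g).surjective.comp hπsurj
  have hSU : (S : Subgroup (PSU 3 F q)) = (U.subgroupOf (SU 3 F q)).map ψ := by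
    rw [← hg, Sylow.coe_subgroup_smul, hψdef, ← Subgroup.map_map, ← hQ']
    rfl
  have hkpψ : ∀ z ∈ ψ.ker, ∀ k : ℕ, z ^ 2 ^ k = 1 → z = 1 := by
    intro z hz k hk
    rw [hψker] at hz
    exact center_two q φ hφ h2 z hz k hk
  apply simple_of_cover_inner_sub (SU 3 F q) ψ hψsurj (le_of_eq hψker) hkpψ U hUK hUp hU1 S hSU
    ?_ hN'
  intro T hTU hT1 hcl
  apply le_antisymm hTU
  obtain ⟨s, hsT, hs1, hs2, hsc⟩ := exists_central_involution U hUp T hTU hT1
    (fun t ht u hu => hcl t ht u (hUK hu) (U.mul_mem (U.mul_mem hu (hTU ht)) (U.inv_mem hu)))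
  have hsDs : s = Ds := hcent s (hTU hsT) hs2 hs1 hsc
  have hDsT : (Ds : SL3) ∈ T := by rw [← hsDs]; exact hsT
  apply hgen T
  · intro s' hs' hs'2
    by_cases hs'1 : s' = 1
    · rw [hs'1]; exact T.one_mem
    · obtain ⟨P, hPK, hP⟩ := inv_conj q φ hφ hq h2 s' (hUK hs') hs'2 hs'1
      have e : s' = P * Ds * P⁻¹ := by rw [← hP]; group
      rw [e]
      apply hcl Ds hDsT P hPK
      rw [← e]
      exact hs'
  · exact hcl

include hφ in
/-- generation in the case `q ≡ 3 mod 4` -/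
theorem hgen1u (T : Subgroup SL3)
    (hinv : ∀ s ∈ (UU (td1u q φ hφ)).map (psi : GL2 →* SL3), s * s = 1 → s ∈ T)
    (hcl : ∀ t ∈ T, ∀ x ∈ SU 3 F q,
      x * t * x⁻¹ ∈ (UU (td1u q φ hφ)).map (psi : GL2 →* SL3) → x * t * x⁻¹ ∈ T) :
    (UU (td1u q φ hφ)).map (psi : GL2 →* SL3) ≤ T := by
  have hone : ∃ k : ℕ, (1 : Fˣ) ^ 2 ^ k = 1 := ⟨0, one_pow _⟩
  have hone_u : ((1 : Fˣ) : F) * φ ((1 : Fˣ) : F) = 1 := by simp
  have hw : psi w2 ∈ T := hinv _ (Subgroup.mem_map_of_mem _ (y_mem_UU (td1u q φ hφ)))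
    (by rw [← map_mul, w2_sq, map_one])
  have h1 : ∀ α β : Fˣ, α * β = 1 → (∃ k : ℕ, α ^ 2 ^ k = 1) → (∃ k : ℕ, β ^ 2 ^ k = 1) →
      (α : F) * φ α = 1 → (β : F) * φ β = 1 → psi (dg α β) ∈ T := by
    intro α β hαβ hα hβ hαu hβu
    have hB : dg α β ∈ BB (td1u q φ hφ) := dg_mem_BBu q φ hφ hα hβ hαu hβu
    have hmem : dg α β * w2 ∈ UU (td1u q φ hφ) := by
      right
      rw [mul_assoc, w2_sq, mul_one]
      exact hB
    have hsq : (dg α β * w2) * (dg α β * w2) = 1 := by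
      have e : (dg α β * w2) * (dg α β * w2) = dg α β * (w2 * dg α β * w2) := by group
      rw [e, w2_dg, dg_mul, hαβ, mul_comm β α, hαβ, dg_one]
    have h3 : psi (dg α β * w2) ∈ T := hinv _ (Subgroup.mem_map_of_mem _ hmem)
      (by rw [← map_mul, hsq, map_one])
    have e : psi (dg α β) = psi (dg α β * w2) * psi w2 := by
      rw [← map_mul, mul_assoc, w2_sq, mul_one]
    rw [e]
    exact T.mul_mem h3 hw
  have hinvp : ∀ α : Fˣ, (∃ k : ℕ, α ^ 2 ^ k = 1) → ∃ k : ℕ, α⁻¹ ^ 2 ^ k = 1 := by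
    rintro α ⟨k, hk⟩
    exact ⟨k, by rw [inv_pow, hk, inv_one]⟩
  have hinvu : ∀ α : Fˣ, (α : F) * φ α = 1 →
      ((α⁻¹ : Fˣ) : F) * φ ((α⁻¹ : Fˣ) : F) = 1 := by
    intro α hα
    rw [Units.val_inv_eq_inv_val, map_inv₀, ← mul_inv, hα, inv_one]
  have h2a : ∀ α : Fˣ, (∃ k : ℕ, α ^ 2 ^ k = 1) → (α : F) * φ α = 1 → psi (dg α 1) ∈ T := by
    intro α hα hαu
    have e : psi (dg α 1) = P02 * psi (dg α α⁻¹) * P02⁻¹ :=
      (mul_inv_eq_of_eq_mul (P02_conj α α⁻¹ (mul_inv_cancel α))).symm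
    rw [e]
    apply hcl _ (h1 α α⁻¹ (mul_inv_cancel α) hα (hinvp α hα) hαu (hinvu α hαu)) P02
      (P02_mem q φ hφ)
    rw [← e]
    exact Subgroup.mem_map_of_mem _ (BB_le_UU _ (dg_mem_BBu q φ hφ hα hone hαu hone_u))
  have h2b : ∀ β : Fˣ, (∃ k : ℕ, β ^ 2 ^ k = 1) → (β : F) * φ β = 1 → psi (dg 1 β) ∈ T := by
    intro β hβ hβu
    have e : psi (dg 1 β) = P01 * psi (dg β⁻¹ β) * P01⁻¹ :=
      (mul_inv_eq_of_eq_mul (P01_conj β⁻¹ β (inv_mul_cancel β))).symm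
    rw [e]
    apply hcl _ (h1 β⁻¹ β (inv_mul_cancel β) (hinvp β hβ) hβ (hinvu β hβu) hβu) P01
      (P01_mem q φ hφ)
    rw [← e]
    exact Subgroup.mem_map_of_mem _ (BB_le_UU _ (dg_mem_BBu q φ hφ hone hβ hone_u hβu))
  have h3 : ∀ v ∈ BB (td1u q φ hφ), psi v ∈ T := by
    intro v hv
    obtain ⟨a, b, rfl, ha, hb, hau, hbu⟩ := of_mem_BB1u q φ hφ hv
    have e : (dg a b : GL2) = dg a 1 * dg 1 b := by rw [dg_mul, mul_one, one_mul]
    rw [e, map_mul]
    exact T.mul_mem (h2a a ha hau) (h2b b hb hbu)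
  rintro _ ⟨v, hv, rfl⟩
  rcases hv with hv | hv
  · exact h3 v hv
  · have e2 : psi v = psi (v * w2) * psi w2 := by
      rw [← map_mul, mul_assoc, w2_sq, mul_one]
    rw [e2]
    exact T.mul_mem (h3 _ hv) hw

include hφ in
/-- generation in the case `q ≡ 1 mod 4` -/
theorem hgen2u (h2 : (2 : F) ≠ 0) (hq : Fintype.card F = q ^ 2) (hq4 : q % 4 = 1)
    (T : Subgroup SL3)
    (hinv : ∀ s ∈ (UU (td2u q φ hφ h2)).map (psi : GL2 →* SL3), s * s = 1 → s ∈ T)
    (hcl : ∀ t ∈ T, ∀ x ∈ SU 3 F q,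
      x * t * x⁻¹ ∈ (UU (td2u q φ hφ h2)).map (psi : GL2 →* SL3) → x * t * x⁻¹ ∈ T) :
    (UU (td2u q φ hφ h2)).map (psi : GL2 →* SL3) ≤ T := by
  have hGU : UU (td2u q φ hφ h2) ≤ GU2 q :=
    UU_inf_le (GU2 q) (td2u q φ hφ h2) (yG_mem_GU2 q φ hφ)
  have hy : psi yG ∈ T := hinv _ (Subgroup.mem_map_of_mem _ (y_mem_UU (td2u q φ hφ h2)))
    (by rw [← map_mul, yG_sq, map_one])
  have hmemy : ∀ e ∈ BB (td2u q φ hφ h2), e * yG ∈ UU (td2u q φ hφ h2) := by
    intro e he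
    right
    rw [mul_assoc, yG_sq, mul_one]
    exact he
  have hsplit : ∀ e : GL2, psi e = psi (e * yG) * psi yG := by
    intro e
    rw [← map_mul, mul_assoc, yG_sq, mul_one]
  have hesq : ∀ e : GL2, (e * yG) * (e * yG) = e * (yG * e * yG) := by
    intro e
    group
  have h1 : ∀ e ∈ BB (td2u q φ hφ h2), e.1 1 1 * e.1 1 1 + e.1 1 0 * e.1 1 0 = 1 →
      psi e ∈ T := by
    intro e he hdet
    have hsq : (e * yG) * (e * yG) = 1 := by
      rw [hesq, mul_yAy (Subgroup.mem_inf.mp he.1).1 1 (by rw [hdet, Units.val_one]), map_one]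
    have h3 : psi (e * yG) ∈ T := hinv _ (Subgroup.mem_map_of_mem _ (hmemy e he))
      (by rw [← map_mul, hsq, map_one])
    rw [hsplit e]
    exact T.mul_mem h3 hy
  have hiB : (iG : GL2) ∈ BB (td2u q φ hφ h2) :=
    (mem_BB_inf' (td2 h2) (GU2 q) _).mpr ⟨iG_mem_BB h2, iG_mem_GU2 q φ hφ⟩
  have hi : psi iG ∈ T := h1 iG hiB (by rw [iG_11, iG_10]; ring)
  have h3 : ∀ e ∈ BB (td2u q φ hφ h2), psi e ∈ T := by
    intro e he
    rcases det_BB2u q φ hφ h2 hq4 he with hdet | hdet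
    · exact h1 e he hdet
    · have hsq : (e * yG) * (e * yG) = sc (-1) := by
        rw [hesq, mul_yAy (Subgroup.mem_inf.mp he.1).1 (-1)
          (by rw [hdet, Units.val_neg, Units.val_one])]
      obtain ⟨A, hAG, hA⟩ := exists_conj_iG_u q φ hφ h2 hq hq4 (hGU (hmemy e he)) hsq
      have e3 : psi (e * yG) = psi A * psi iG * (psi A)⁻¹ := by
        have h5 : psi A * psi iG = psi (e * yG) * psi A := by rw [← map_mul, hA, map_mul]
        rw [h5, mul_inv_cancel_right]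
      have h4 : psi (e * yG) ∈ T := by
        rw [e3]
        apply hcl _ hi (psi A) hAG
        rw [← e3]
        exact Subgroup.mem_map_of_mem _ (hmemy e he)
      rw [hsplit e]
      exact T.mul_mem h4 hy
  rintro _ ⟨v, hv, rfl⟩
  rcases hv with hv | hv
  · exact h3 v hv
  · rw [hsplit v]
    exact T.mul_mem (h3 _ hv) hy

end Main

section Final

variable [Fintype F]

/-- the `2`-fusion system of `PSU₃(q)`, `q` odd, is simple -/
theorem psu3_simple (q : ℕ) (hq : Fintype.card F = q ^ 2) (hodd : q % 2 = 1)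
    (S : Sylow 2 (PSU 3 F q)) : (groupFusionSystem (S : Subgroup (PSU 3 F q))).IsSimple 2 := by
  obtain ⟨φ, hφ⟩ := exists_frob q hq
  have hcard : Fintype.card F % 2 = 1 := by rw [hq, Nat.pow_mod, hodd]
  have h2 : (2 : F) ≠ 0 := two_ne_zero_of_odd (Nat.odd_iff.mpr hcard)
  have h4 : q % 4 = 1 ∨ q % 4 = 3 := by omega
  rcases h4 with h4 | h4
  · obtain ⟨e₀, he₀, hne⟩ := he2u q φ hφ h2 hq h4
    exact su3_simple_of_model q φ hφ hq h2 (td2u q φ hφ h2) inf_le_right (yG_mem_GU2 q φ hφ)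
      (fun c hc => Subgroup.mem_inf.mpr ⟨sc_mem_D2 c, hc⟩)
      (fun d hd => hfix2 h2 d (Subgroup.mem_inf.mp hd).1)
      (hN2u q φ hφ h2) he₀ hne (fun T => hgen2u q φ hφ h2 hq h4 T) S
  · obtain ⟨e₀, he₀, hne⟩ := he1u q φ hφ h2 hq h4
    exact su3_simple_of_model q φ hφ hq h2 (td1u q φ hφ) inf_le_right (w2_mem_GU2 q φ hφ)
      (fun c hc => Subgroup.mem_inf.mpr ⟨sc_mem_D1 c, hc⟩)
      (fun d hd => hfix1 d (Subgroup.mem_inf.mp hd).1)
      (hN1u q φ hφ h2) he₀ hne (fun T => hgen1u q φ hφ T) S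

end Final

end Cfsg.Agent.Lib.Helper2.SU3Fus
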