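import Cfsg.Agent.Lib.Helper2.KNorm2
import Cfsg.Agent.Lib.Helper9.Alperin1
import Cfsg.Agent.Lib.Helper9.Hyperfocal3
import Cfsg.Agent.Lib.Helper9.ExtenderIff

/-!
# Saturation from generation and saturation on a family (AKO I.3.10): basic tools
-/

set_option autoImplicit false

namespace Cfsg.Agent.Lib.Helper2.Sat310

open Cfsg Cfsg.FusionSystem Cfsg.Agent.Lib.Helper9 Cfsg.Agent.Lib.Helper2.KNorm

variable {Ω : Type*} [Group Ω] {S : Subgroup Ω}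

/-! ### Images of subgroups -/

/-- the image of `P ∩ Q` under a map defined on `Q` -/
def img {Q : Subgroup Ω} (φ : Q →* Ω) (P : Subgroup Ω) : Subgroup Ω := (P.subgroupOf Q).map φ

theorem mem_img {Q : Subgroup Ω} {φ : Q →* Ω} {P : Subgroup Ω} {y : Ω} :
    y ∈ img φ P ↔ ∃ x : Q, (x : Ω) ∈ P ∧ φ x = y := by
  unfold img
  rw [Subgroup.mem_map]
  constructor
  · rintro ⟨x, hx, rfl⟩
    exact ⟨x, Subgroup.mem_subgroupOf.mp hx, rfl⟩
  · rintro ⟨x, hx, rfl⟩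
    exact ⟨x, Subgroup.mem_subgroupOf.mpr hx, rfl⟩

theorem apply_mem_img {Q : Subgroup Ω} (φ : Q →* Ω) {P : Subgroup Ω} {x : Q} (hx : (x : Ω) ∈ P) :
    φ x ∈ img φ P := mem_img.mpr ⟨x, hx, rfl⟩

theorem img_le_range {Q : Subgroup Ω} (φ : Q →* Ω) (P : Subgroup Ω) : img φ P ≤ φ.range := by
  intro y hy
  obtain ⟨x, -, rfl⟩ := mem_img.mp hy
  exact ⟨x, rfl⟩

theorem img_self {Q : Subgroup Ω} (φ : Q →* Ω) : img φ Q = φ.range := by
  ext y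
  rw [mem_img]
  constructor
  · rintro ⟨x, -, rfl⟩
    exact ⟨x, rfl⟩
  · rintro ⟨x, rfl⟩
    exact ⟨x, x.2, rfl⟩

theorem img_subtype {P Q : Subgroup Ω} (h : P ≤ Q) : img Q.subtype P = P := by
  ext y
  rw [mem_img]
  constructor
  · rintro ⟨x, hx, rfl⟩
    exact hx
  · intro hy
    exact ⟨⟨y, h hy⟩, hy, rfl⟩

theorem img_restrict {R Q : Subgroup Ω} (hRQ : R ≤ Q) (φ : Q →* Ω) {P : Subgroup Ω} (hP : P ≤ R) :
    img (φ.comp (Subgroup.inclusion hRQ)) P = img φ P := by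
  ext y
  simp only [mem_img]
  constructor
  · rintro ⟨x, hx, rfl⟩
    exact ⟨Subgroup.inclusion hRQ x, hx, rfl⟩
  · rintro ⟨x, hx, rfl⟩
    exact ⟨⟨x, hP hx⟩, hx, rfl⟩

theorem range_restrict {Q : Subgroup Ω} (φ : Q →* Ω) {P : Subgroup Ω} (hP : P ≤ Q) :
    (φ.comp (Subgroup.inclusion hP)).range = img φ P := by
  ext y
  rw [mem_img]
  constructor
  · rintro ⟨x, rfl⟩
    exact ⟨Subgroup.inclusion hP x, x.2, rfl⟩
  · rintro ⟨x, hx, rfl⟩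
    exact ⟨⟨x, hx⟩, rfl⟩

theorem img_comp {P Q : Subgroup Ω} {φ : P →* Ω} {ψ : Q →* Ω} {χ : P →* Ω}
    (h : ∀ x : P, φ x ∈ Q) (hχ : ∀ x : P, χ x = ψ ⟨φ x, h x⟩) (P₁ : Subgroup Ω) :
    img χ P₁ = img ψ (img φ P₁) := by
  ext y
  simp only [mem_img]
  constructor
  · rintro ⟨x, hx, rfl⟩
    exact ⟨⟨φ x, h x⟩, ⟨x, hx, rfl⟩, (hχ x).symm⟩
  · rintro ⟨q, ⟨x, hx, hxq⟩, rfl⟩
    refine ⟨x, hx, ?_⟩
    rw [hχ]
    congr 1
    exact Subtype.ext hxq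

theorem img_inv {Q : Subgroup Ω} {φ : Q →* Ω} {θ : φ.range →* Ω}
    (hθ : ∀ (x : Q) (h : φ x ∈ φ.range), θ ⟨φ x, h⟩ = x) {P : Subgroup Ω} (hP : P ≤ Q) :
    img θ (img φ P) = P := by
  ext y
  rw [mem_img]
  constructor
  · rintro ⟨q, hq, rfl⟩
    obtain ⟨x, hx, hxq⟩ := mem_img.mp hq
    have h1 : q = ⟨φ x, ⟨x, rfl⟩⟩ := Subtype.ext hxq.symm
    have h2 : θ q = x := by
      rw [h1]
      exact hθ x _
    rw [h2]
    exact hx
  · intro hy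
    exact ⟨⟨φ ⟨y, hP hy⟩, ⟨_, rfl⟩⟩, apply_mem_img φ hy, hθ _ _⟩

theorem mem_img_iff_of_injective {Q : Subgroup Ω} {φ : Q →* Ω} (hinj : Function.Injective φ)
    {P : Subgroup Ω} (z : Q) : φ z ∈ img φ P ↔ (z : Ω) ∈ P := by
  constructor
  · intro h
    obtain ⟨x, hx, hxz⟩ := mem_img.mp h
    have h1 : x = z := hinj hxz
    rw [← h1]
    exact hx
  · exact apply_mem_img φ

theorem card_range_eq (F : FusionSystem S) {Q : Subgroup Ω} {φ : Q →* Ω} (hφ : φ ∈ F.Hom Q) :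
    Nat.card φ.range = Nat.card Q :=
  (Nat.card_congr (equivOfRange φ (F.injective_of_mem hφ) rfl).toEquiv).symm

theorem card_img_eq (F : FusionSystem S) {Q : Subgroup Ω} {φ : Q →* Ω} (hφ : φ ∈ F.Hom Q)
    {P : Subgroup Ω} (hP : P ≤ Q) : Nat.card (img φ P) = Nat.card P := by
  unfold img
  rw [Subgroup.card_map_of_injective (F.injective_of_mem hφ)]
  exact Nat.card_congr (Subgroup.subgroupOfEquivOfLe hP).toEquiv

theorem isConj_img (F : FusionSystem S) {Q : Subgroup Ω} {φ : Q →* Ω} (hφ : φ ∈ F.Hom Q)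
    {P : Subgroup Ω} (hP : P ≤ Q) : F.IsConj P (img φ P) :=
  ⟨_, restrict_mem F hφ hP, range_restrict φ hP⟩

theorem card_eq_of_isConj (F : FusionSystem S) {P Q : Subgroup Ω} (h : F.IsConj P Q) :
    Nat.card Q = Nat.card P := by
  obtain ⟨φ, hφ, rfl⟩ := h
  exact card_range_eq F hφ

theorem card_lt_of_not_mem' {A B : Subgroup Ω} [Finite B] (h : A ≤ B) {g : Ω} (hgB : g ∈ B)
    (hgA : g ∉ A) : Nat.card A < Nat.card B := by
  by_contra hlt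
  have h1 : A = B := Subgroup.eq_of_le_of_card_ge h (not_lt.mp hlt)
  rw [h1] at hgA
  exact hgA hgB

/-! ### Normalizers -/

theorem hom_maps_normalizer (F : FusionSystem S) {R : Subgroup Ω} {ψ : R →* Ω} (hψ : ψ ∈ F.Hom R)
    {P : Subgroup Ω} (hR : R ≤ normalizerIn S P) (r : R) : ψ r ∈ normalizerIn S (img ψ P) := by
  refine ⟨hom_mem F hψ r, ?_⟩
  have hrN : (r : Ω) ∈ Subgroup.normalizer (P : Set Ω) := (hR r.2).2
  show ψ r ∈ Subgroup.normalizer ((img ψ P : Subgroup Ω) : Set Ω)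
  rw [Subgroup.mem_normalizer_iff]
  intro y
  constructor
  · intro hy
    obtain ⟨x, hx, rfl⟩ := mem_img.mp hy
    have h1 : ψ r * ψ x * (ψ r)⁻¹ = ψ (r * x * r⁻¹) := by rw [map_mul, map_mul, map_inv]
    rw [h1]
    apply apply_mem_img
    exact (Subgroup.mem_normalizer_iff.mp hrN x).mp hx
  · intro hy
    obtain ⟨x, hx, hxy⟩ := mem_img.mp hy
    have h1 : y = ψ (r⁻¹ * x * r) := by
      rw [map_mul, map_mul, map_inv, hxy]
      group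
    rw [h1]
    apply apply_mem_img
    have h2 := (Subgroup.mem_normalizer_iff.mp (Subgroup.inv_mem _ hrN) x).mp hx
    rw [inv_inv] at h2
    exact h2

theorem exists_normalizes_not_mem [Finite S] {p : ℕ} [Fact p.Prime] (hS : IsPGroup p S)
    {Q R : Subgroup Ω} (hR : R ≤ S) (hlt : Q < R) :
    ∃ g ∈ R, g ∈ Subgroup.normalizer (Q : Set Ω) ∧ g ∉ Q := by
  haveI : Finite R := finite_of_le hR
  obtain ⟨g, hg, hgQ⟩ := exists_mem_normalizerIn_not_mem (S := R) (isPGroup_of_le hS hR) hlt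
  exact ⟨g, hg.1, hg.2, hgQ⟩

theorem exists_mul_of_mem_sup {A B : Subgroup Ω} (h : ∀ a ∈ A, ∀ b ∈ B, a * b * a⁻¹ ∈ B) {g : Ω}
    (hg : g ∈ A ⊔ B) : ∃ a ∈ A, ∃ b ∈ B, g = a * b := by
  obtain ⟨M, hM⟩ : ∃ M : Subgroup Ω, ∀ g, g ∈ M ↔ ∃ a ∈ A, ∃ b ∈ B, g = a * b := by
    refine ⟨{ carrier := {g | ∃ a ∈ A, ∃ b ∈ B, g = a * b}
              one_mem' := ⟨1, A.one_mem, 1, B.one_mem, by simp⟩
              mul_mem' := ?_
              inv_mem' := ?_ }, fun g => Iff.rfl⟩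
    · rintro _ _ ⟨a, ha, b, hb, rfl⟩ ⟨a', ha', b', hb', rfl⟩
      refine ⟨a * a', A.mul_mem ha ha', (a'⁻¹ * b * a'⁻¹⁻¹) * b',
        B.mul_mem (h _ (A.inv_mem ha') _ hb) hb', ?_⟩
      group
    · rintro _ ⟨a, ha, b, hb, rfl⟩
      refine ⟨a⁻¹, A.inv_mem ha, a * b⁻¹ * a⁻¹, h _ ha _ (B.inv_mem hb), ?_⟩
      group
  have hle : A ⊔ B ≤ M := by
    apply sup_le
    · intro a ha
      exact (hM a).mpr ⟨a, ha, 1, B.one_mem, by simp⟩
    · intro b hb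
      exact (hM b).mpr ⟨1, A.one_mem, b, hb, by simp⟩
  exact (hM g).mp (hle hg)

/-! ### Good subgroups -/

/-- `P` is conjugate to a fully automized receptive subgroup -/
def Good (p : ℕ) (F : FusionSystem S) (P : Subgroup Ω) : Prop :=
  ∃ Q, F.IsConj P Q ∧ F.IsFullyAutomized p Q ∧ F.IsReceptive Q

theorem Good.le {p : ℕ} {F : FusionSystem S} {P : Subgroup Ω} (h : Good p F P) : P ≤ S := by
  obtain ⟨Q, hQ, -, -⟩ := h
  exact isConj_le_left F hQ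

theorem Good.of_isConj {p : ℕ} {F : FusionSystem S} {P P' : Subgroup Ω} (h : F.IsConj P P')
    (hP : Good p F P) : Good p F P' := by
  obtain ⟨Q, hQ, hfa, hrec⟩ := hP
  exact ⟨Q, isConj_trans F (isConj_symm F h) hQ, hfa, hrec⟩

theorem exists_goodFor [Finite S] {p : ℕ} [Fact p.Prime] (hS : IsPGroup p S) (F : FusionSystem S)
    {Q : Subgroup Ω} (hQ : Good p F Q) (L : Subgroup (MulAut Q)) :
    ∃ φg ∈ F.Hom Q, F.IsReceptive φg.range ∧ IsSyl p (AS S φg ⊓ L) (F.autGroup Q ⊓ L) := by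
  obtain ⟨Q', ⟨φ₀, hφ₀, rfl⟩, hfa, hrec⟩ := hQ
  obtain ⟨φ, hφ, hφr, hsyl⟩ := exists_good_of hS F L hφ₀ (isSyl_AS_of_fullyAutomized F hφ₀ hfa)
  refine ⟨φ, hφ, ?_, hsyl⟩
  rw [hφr]
  exact hrec

/-! ### Subsystems cut out by a predicate -/

/-- the maps of `F` satisfying a predicate closed under the operations of a fusion system -/
def predSys (F : FusionSystem S) (Pr : ∀ P : Subgroup Ω, (P →* Ω) → Prop)
    (hconj : ∀ {P : Subgroup Ω} {g : Ω}, P ≤ S → g ∈ S → Pr P (conjHom P g))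
    (hcomp : ∀ {P Q : Subgroup Ω} {φ : P →* Ω} {ψ : Q →* Ω}, φ ∈ F.Hom P → ψ ∈ F.Hom Q →
      Pr P φ → Pr Q ψ → ∀ h : ∀ x : P, φ x ∈ Q, Pr P (ψ.comp (φ.codRestrict Q h)))
    (hinv : ∀ {P : Subgroup Ω} {φ : P →* Ω}, φ ∈ F.Hom P → Pr P φ →
      ∀ ψ ∈ F.Hom φ.range, (∀ x : P, ψ ⟨φ x, ⟨x, rfl⟩⟩ = (x : Ω)) → Pr φ.range ψ) :
    FusionSystem S where
  Hom P := {φ | φ ∈ F.Hom P ∧ Pr P φ}
  le_of_mem h := F.le_of_mem h.1
  injective_of_mem h := F.injective_of_mem h.1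
  conj_mem hP hg := ⟨F.conj_mem hP hg, hconj hP hg⟩
  comp_mem hφ hψ h := ⟨F.comp_mem hφ.1 hψ.1 h, hcomp hφ.1 hψ.1 hφ.2 hψ.2 h⟩
  inv_mem hφ := by
    obtain ⟨ψ, hψ, hψe⟩ := F.inv_mem hφ.1
    exact ⟨ψ, ⟨hψ, hinv hφ.1 hφ.2 ψ hψ hψe⟩, hψe⟩

theorem pred_of_gen (F : FusionSystem S) (G : Subgroup Ω → Prop)
    (hgen : ∀ E : FusionSystem S, (∀ P, G P → F.Hom P ⊆ E.Hom P) → F ≤ E)
    (Pr : ∀ P : Subgroup Ω, (P →* Ω) → Prop)
    (hconj : ∀ {P : Subgroup Ω} {g : Ω}, P ≤ S → g ∈ S → Pr P (conjHom P g))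
    (hcomp : ∀ {P Q : Subgroup Ω} {φ : P →* Ω} {ψ : Q →* Ω}, φ ∈ F.Hom P → ψ ∈ F.Hom Q →
      Pr P φ → Pr Q ψ → ∀ h : ∀ x : P, φ x ∈ Q, Pr P (ψ.comp (φ.codRestrict Q h)))
    (hinv : ∀ {P : Subgroup Ω} {φ : P →* Ω}, φ ∈ F.Hom P → Pr P φ →
      ∀ ψ ∈ F.Hom φ.range, (∀ x : P, ψ ⟨φ x, ⟨x, rfl⟩⟩ = (x : Ω)) → Pr φ.range ψ)
    (hgood : ∀ (P : Subgroup Ω) (φ : P →* Ω), G P → φ ∈ F.Hom P → Pr P φ) :
    ∀ (P : Subgroup Ω) (φ : P →* Ω), φ ∈ F.Hom P → Pr P φ := by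
  intro P φ hφ
  have h := hgen (predSys F Pr hconj hcomp hinv) (fun P hP φ hφ => ⟨hφ, hgood P φ hP hφ⟩)
  exact (h P hφ).2

/-! ### Witnesses for maps of normalizers -/

/-- `ψ` maps `N_S(P)` into `N_S(P̂)` and `P` onto `P̂` -/
def AW (F : FusionSystem S) (Phat P : Subgroup Ω) (ψ : normalizerIn S P →* Ω) : Prop :=
  ψ ∈ F.Hom (normalizerIn S P) ∧ (∀ x, ψ x ∈ normalizerIn S Phat) ∧ img ψ P = Phat

/-- some map of the system maps `N_S(P)` into `N_S(P̂)` and `P` onto `P̂` -/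
def A (F : FusionSystem S) (Phat P : Subgroup Ω) : Prop := ∃ ψ, AW F Phat P ψ

theorem AW_self (F : FusionSystem S) {Phat : Subgroup Ω} (h : Phat ≤ S) :
    AW F Phat Phat (normalizerIn S Phat).subtype :=
  ⟨subtype_mem F inf_le_left, fun x => x.2, img_subtype (self_le_normalizerIn' h)⟩

/-! ### `NS` for stabilizers -/

theorem NS_mono {R : Subgroup Ω} (φ : R →* Ω) {L L' : Subgroup (MulAut R)} (h : L ≤ L') :
    NS S φ L ≤ NS S φ L' := by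
  rintro g ⟨hg, α, hα, h'⟩
  exact ⟨hg, α, h hα, h'⟩

theorem NS_Stab_le {Q : Subgroup Ω} (φ : Q →* Ω) (P : Subgroup Ω) :
    NS S φ (Stab P Q) ≤ normalizerIn S (img φ P) := by
  rintro g ⟨hgS, α, hα, hg⟩
  refine ⟨hgS, ?_⟩
  show g ∈ Subgroup.normalizer ((img φ P : Subgroup Ω) : Set Ω)
  rw [Subgroup.mem_normalizer_iff]
  intro y
  constructor
  · intro hy
    obtain ⟨x, hx, rfl⟩ := mem_img.mp hy
    rw [← hg]
    exact apply_mem_img φ ((mem_Stab.mp hα x).mp hx)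
  · intro hy
    obtain ⟨x', hx', hxy⟩ := mem_img.mp hy
    have h1 : ((α⁻¹ x' : Q) : Ω) ∈ P := (mem_Stab.mp ((Stab P Q).inv_mem hα) x').mp hx'
    have h2 := hg (α⁻¹ x')
    rw [MulAut.apply_inv_self, hxy] at h2
    have h3 : y = φ (α⁻¹ x') := mul_left_cancel (mul_right_cancel h2)
    rw [h3]
    exact apply_mem_img φ h1

theorem mem_NS_Stab {Q : Subgroup Ω} {φ : Q →* Ω} (hinj : Function.Injective φ) {P : Subgroup Ω}
    {g : Ω} (hgS : g ∈ S) (hgR : g ∈ Subgroup.normalizer ((φ.range : Subgroup Ω) : Set Ω))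
    (hgP : g ∈ Subgroup.normalizer ((img φ P : Subgroup Ω) : Set Ω)) :
    g ∈ NS S φ (Stab P Q) := by
  obtain ⟨α, hα⟩ := exists_pullback_conj hinj hgR
  refine ⟨hgS, α, ?_, hα⟩
  rw [mem_Stab]
  intro z
  rw [← mem_img_iff_of_injective hinj (P := P) z, ← mem_img_iff_of_injective hinj (P := P) (α z),
    hα]
  exact Subgroup.mem_normalizer_iff.mp hgP (φ z)

theorem img_of_twist {R Q : Subgroup Ω} {ψ : R →* Ω} {φ φg : Q →* Ω} {χ : MulAut Q}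
    {P : Subgroup Ω} (hχ : χ ∈ Stab P Q) (hle : φ.range ≤ R)
    (h : ∀ (x : Q) (hx : φ x ∈ R), ψ ⟨φ x, hx⟩ = φg (χ x)) : img ψ (img φ P) = img φg P := by
  ext y
  rw [mem_img]
  constructor
  · rintro ⟨r, hr, rfl⟩
    obtain ⟨x, hx, hxr⟩ := mem_img.mp hr
    have hxR : φ x ∈ R := by rw [hxr]; exact r.2
    have h1 : r = ⟨φ x, hxR⟩ := Subtype.ext hxr.symm
    rw [h1, h]
    exact apply_mem_img φg ((mem_Stab.mp hχ x).mp hx)
  · intro hy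
    obtain ⟨x, hx, rfl⟩ := mem_img.mp hy
    have h1 : ((χ⁻¹ x : Q) : Ω) ∈ P := (mem_Stab.mp ((Stab P Q).inv_mem hχ) x).mp hx
    refine ⟨⟨φ (χ⁻¹ x), hle ⟨_, rfl⟩⟩, apply_mem_img φ h1, ?_⟩
    rw [h, MulAut.apply_inv_self]

theorem mem_normalizer_of_twist {Q : Subgroup Ω} {φg : Q →* Ω} {P : Subgroup Ω} (hPQ : P ≤ Q)
    {χ : MulAut Q} (hχ : χ ∈ Stab P Q) {s : Ω}
    (h : ∀ x : P, φg (χ (Subgroup.inclusion hPQ x)) = s * φg (Subgroup.inclusion hPQ x) * s⁻¹) :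
    s ∈ Subgroup.normalizer ((img φg P : Subgroup Ω) : Set Ω) := by
  rw [Subgroup.mem_normalizer_iff]
  intro y
  constructor
  · intro hy
    obtain ⟨q, hq, rfl⟩ := mem_img.mp hy
    have h1 := h ⟨q, hq⟩
    have h2 : Subgroup.inclusion hPQ ⟨(q : Ω), hq⟩ = q := Subtype.ext rfl
    rw [h2] at h1
    rw [← h1]
    exact apply_mem_img φg ((mem_Stab.mp hχ q).mp hq)
  · intro hy
    obtain ⟨x', hx', hxy⟩ := mem_img.mp hy
    have h1 : ((χ⁻¹ x' : Q) : Ω) ∈ P := (mem_Stab.mp ((Stab P Q).inv_mem hχ) x').mp hx'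
    have h2 := h ⟨_, h1⟩
    have h3 : Subgroup.inclusion hPQ ⟨((χ⁻¹ x' : Q) : Ω), h1⟩ = χ⁻¹ x' := Subtype.ext rfl
    rw [h3, MulAut.apply_inv_self, hxy] at h2
    have h4 : y = φg (χ⁻¹ x') := mul_left_cancel (mul_right_cancel h2)
    rw [h4]
    exact apply_mem_img φg h1

/-- a map defined on the normalizer of a fully normalized subgroup is onto the normalizer of the
image -/
theorem surj_normalizer [Finite S] (F : FusionSystem S) {Phat : Subgroup Ω}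
    (hfn : F.IsFullyNormalized Phat) {R : Subgroup Ω} {ψ : R →* Ω} (hψ : ψ ∈ F.Hom R)
    (hR : R ≤ normalizerIn S Phat) (hR' : normalizerIn S Phat ≤ R) {g : Ω}
    (hg : g ∈ normalizerIn S (img ψ Phat)) : ∃ r : R, ψ r = g := by
  have hRS : R ≤ S := hom_le F hψ
  haveI : Finite R := finite_of_le hRS
  haveI : Finite (normalizerIn S (img ψ Phat)) := finite_normalizerIn _
  have hPR : Phat ≤ R := (self_le_normalizerIn' hfn.1).trans hR'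
  have hle : ψ.range ≤ normalizerIn S (img ψ Phat) := by
    rintro _ ⟨r, rfl⟩
    exact hom_maps_normalizer F hψ hR r
  have h1 : Nat.card (normalizerIn S (img ψ Phat)) ≤ Nat.card (normalizerIn S Phat) :=
    hfn.2 _ (isConj_img F hψ hPR)
  have h2 : Nat.card (normalizerIn S Phat) ≤ Nat.card R := Subgroup.card_le_of_le hR'
  have h3 : Nat.card ψ.range = Nat.card R := card_range_eq F hψ
  have h4 : ψ.range = normalizerIn S (img ψ Phat) :=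
    Subgroup.eq_of_le_of_card_ge hle (by omega)
  rw [← h4] at hg
  exact hg

end Cfsg.Agent.Lib.Helper2.Sat310
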