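import Cfsg.Agent.Lib.Helper2.Sat310a

/-!
# Saturation from generation (AKO I.3.10): maps of normalizers onto the fully normalized member
-/

set_option autoImplicit false

namespace Cfsg.Agent.Lib.Helper2.Sat310

open Cfsg Cfsg.FusionSystem Cfsg.Agent.Lib.Helper9 Cfsg.Agent.Lib.Helper2.KNorm

variable {Ω : Type*} [Group Ω] {S : Subgroup Ω}

theorem img_inv' {Q : Subgroup Ω} {φ : Q →* Ω} {θ : φ.range →* Ω}
    (hθ : ∀ x : Q, θ ⟨φ x, ⟨x, rfl⟩⟩ = x) {P₂ : Subgroup Ω} (hP₂ : P₂ ≤ φ.range) :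
    img θ P₂ ≤ Q ∧ img φ (img θ P₂) = P₂ := by
  have key : ∀ q : φ.range, ∃ x : Q, θ q = x ∧ φ x = q := by
    intro q
    obtain ⟨x, hx⟩ := q.2
    have h1 : q = ⟨φ x, ⟨x, rfl⟩⟩ := Subtype.ext hx.symm
    refine ⟨x, ?_, hx⟩
    rw [h1]
    exact hθ x
  constructor
  · intro y hy
    obtain ⟨q, -, rfl⟩ := mem_img.mp hy
    obtain ⟨x, hx, -⟩ := key q
    rw [hx]
    exact x.2
  · ext y
    rw [mem_img]
    constructor
    · rintro ⟨x, hx, rfl⟩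
      obtain ⟨q, hq, hqx⟩ := mem_img.mp hx
      obtain ⟨x', hx', hx'q⟩ := key q
      have h5 : x' = x := Subtype.ext (hx'.symm.trans hqx)
      rw [← h5, hx'q]
      exact hq
    · intro hy
      obtain ⟨x, rfl⟩ := hP₂ hy
      refine ⟨x, ?_, rfl⟩
      have h1 := apply_mem_img θ (x := ⟨φ x, ⟨x, rfl⟩⟩) hy
      rw [hθ] at h1
      exact h1

variable [Finite S] {p : ℕ} [Fact p.Prime]

theorem exists_extension_abs (hS : IsPGroup p S) (F : FusionSystem S)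
    {R : Subgroup Ω} {L : Subgroup (MulAut R)} {φg φ : R →* Ω} (hφg : φg ∈ F.Hom R)
    (hφ : φ ∈ F.Hom R) (hrec : F.IsReceptive φg.range)
    (hsyl : IsSyl p (AS S φg ⊓ L) (F.autGroup R ⊓ L)) :
    ∃ R' : Subgroup Ω, φ.range ≤ R' ∧ NS S φ L ≤ R' ∧ R' ≤ NS S φ L ⊔ φ.range ∧
      ∃ χ ∈ F.autGroup R ⊓ L, ∃ ψ ∈ F.Hom R',
        ∀ (x : R) (hx : φ x ∈ R'), ψ ⟨φ x, hx⟩ = φg (χ x) := by
  obtain ⟨χ, hχ, ψ, hψ, hψe⟩ := exists_extension hS F hφg hφ hrec hsyl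
  exact ⟨_, le_sup_right, le_sup_left, le_rfl, χ, hχ, ψ, hψ, hψe⟩

/-- a map from an intermediate subgroup `P ≤ Q ≤ N_S(P)` into `N_S(P̂)` carrying `P` onto `P̂`
gives a map defined on all of `N_S(P)` -/
theorem lemmaT (hS : IsPGroup p S) (F : FusionSystem S) {Phat : Subgroup Ω}
    (hfn : F.IsFullyNormalized Phat)
    (hlarge : ∀ Q : Subgroup Ω, Q ≤ S → Nat.card Phat < Nat.card Q → Good p F Q) :
    ∀ (k : ℕ) (P Q : Subgroup Ω) (φ : Q →* Ω), Nat.card S - Nat.card Q = k → P ≤ Q →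
      Q ≤ normalizerIn S P → Nat.card Phat < Nat.card Q → φ ∈ F.Hom Q →
      (∀ x, φ x ∈ normalizerIn S Phat) → img φ P = Phat → A F Phat P := by
  intro k
  induction k using Nat.strong_induction_on with
  | _ k ih =>
  intro P Q φ hk hPQ hQN hcard hφ hφN hφP
  by_cases hQeq : Q = normalizerIn S P
  · subst hQeq
    exact ⟨φ, hφ, hφN, hφP⟩
  have hQS : Q ≤ S := hom_le F hφ
  have hNS : normalizerIn S P ≤ S := inf_le_left
  have hQlt : Q < normalizerIn S P := lt_of_le_of_ne hQN hQeq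
  haveI : Finite Q := finite_of_le hQS
  haveI : Finite (normalizerIn S P) := finite_normalizerIn P
  haveI : Finite (normalizerIn S Phat) := finite_normalizerIn Phat
  have hinj := F.injective_of_mem hφ
  obtain ⟨φg, hφg, hrec, hsyl⟩ := exists_goodFor hS F (hlarge Q hQS hcard) (Stab P Q)
  have hι : Q.subtype ∈ F.Hom Q := subtype_mem F hQS
  obtain ⟨R₁, hιR₁, hNSR₁, hR₁le, χ₁, hχ₁, ψ₁, hψ₁, hψ₁e⟩ :=
    exists_extension_abs hS F hφg hι hrec hsyl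
  obtain ⟨R₂, hφR₂, hNSR₂, hR₂le, χ₂, hχ₂, ψ₂, hψ₂, hψ₂e⟩ :=
    exists_extension_abs hS F hφg hφ hrec hsyl
  have hQR₁ : Q ≤ R₁ := fun x hx => hιR₁ ⟨⟨x, hx⟩, rfl⟩
  have himgι : img Q.subtype P = P := img_subtype hPQ
  have hR₁N : R₁ ≤ normalizerIn S P := by
    refine hR₁le.trans (sup_le ?_ ?_)
    · have h1 := NS_Stab_le (S := S) Q.subtype P
      rw [himgι] at h1
      exact h1
    · rintro _ ⟨x, rfl⟩
      exact hQN x.2
  obtain ⟨g, hgN, hgQ, hgnQ⟩ := exists_normalizes_not_mem hS hNS hQlt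
  have hgR₁ : g ∈ R₁ := by
    apply hNSR₁
    apply mem_NS_Stab Q.subtype_injective hgN.1
    · rw [Subgroup.range_subtype]
      exact hgQ
    · rw [himgι]
      exact hgN.2
  have hR₁S : R₁ ≤ S := hom_le F hψ₁
  haveI : Finite R₁ := finite_of_le hR₁S
  have hcard₁ : Nat.card Q < Nat.card R₁ := card_lt_of_not_mem' hQR₁ hgR₁ hgnQ
  have hR₂N : R₂ ≤ normalizerIn S Phat := by
    refine hR₂le.trans (sup_le ?_ ?_)
    · have h1 := NS_Stab_le (S := S) φ P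
      rw [hφP] at h1
      exact h1
    · rintro _ ⟨x, rfl⟩
      exact hφN x
  have hcr : Nat.card φ.range = Nat.card Q := card_range_eq F hφ
  have hrN : φ.range ≤ normalizerIn S Phat := by
    rintro _ ⟨x, rfl⟩
    exact hφN x
  have hconj : F.IsConj Phat P := by
    have h1 := isConj_img F hφ hPQ
    rw [hφP] at h1
    exact isConj_symm F h1
  have hNN : Nat.card (normalizerIn S P) ≤ Nat.card (normalizerIn S Phat) := hfn.2 P hconj
  have hQNlt : Nat.card Q < Nat.card (normalizerIn S P) := card_lt_of_not_mem' hQN hgN hgnQ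
  have hrlt : φ.range < normalizerIn S Phat := by
    refine lt_of_le_of_ne hrN ?_
    intro heq
    have h5 : Nat.card φ.range = Nat.card (normalizerIn S Phat) := by rw [heq]
    omega
  obtain ⟨g', hg'N, hg'Q, hg'nQ⟩ := exists_normalizes_not_mem hS inf_le_left hrlt
  have hg'R₂ : g' ∈ R₂ := by
    apply hNSR₂
    apply mem_NS_Stab hinj hg'N.1 hg'Q
    rw [hφP]
    exact hg'N.2
  have hR₂S : R₂ ≤ S := hom_le F hψ₂
  haveI : Finite R₂ := finite_of_le hR₂S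
  have hcard₂ : Nat.card φ.range < Nat.card R₂ := card_lt_of_not_mem' hφR₂ hg'R₂ hg'nQ
  have hP₃₁ : img ψ₁ P = img φg P := by
    have h1 := img_of_twist (ψ := ψ₁) (φ := Q.subtype) (φg := φg) (P := P) hχ₁.2 hιR₁ hψ₁e
    rw [himgι] at h1
    exact h1
  have hP₃₂ : img ψ₂ Phat = img φg P := by
    have h1 := img_of_twist (ψ := ψ₂) (φ := φ) (φg := φg) (P := P) hχ₂.2 hφR₂ hψ₂e
    rw [hφP] at h1
    exact h1
  obtain ⟨θ₂, hθ₂, hθ₂e, hθ₂r, -⟩ := inv_hom F hψ₂ rfl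
  have hPhR₂ : Phat ≤ R₂ := by
    rw [← hφP]
    exact (img_le_range φ P).trans hφR₂
  have hA₃ : A F Phat (img φg P) := by
    have hc : Nat.card ψ₂.range = Nat.card R₂ := card_range_eq F hψ₂
    have hrS : ψ₂.range ≤ S := range_le F hψ₂
    haveI : Finite ψ₂.range := finite_of_le hrS
    have hcS : Nat.card ψ₂.range ≤ Nat.card S := Subgroup.card_le_of_le hrS
    apply ih (Nat.card S - Nat.card ψ₂.range) (by omega) (img φg P) ψ₂.range θ₂ rfl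
    · rw [← hP₃₂]
      exact img_le_range ψ₂ Phat
    · rintro _ ⟨r, rfl⟩
      have h1 := hom_maps_normalizer F hψ₂ hR₂N r
      rw [hP₃₂] at h1
      exact h1
    · omega
    · exact hθ₂
    · intro y
      apply hR₂N
      have h1 : θ₂ y ∈ θ₂.range := ⟨y, rfl⟩
      rw [hθ₂r] at h1
      exact h1
    · rw [← hP₃₂]
      exact img_inv hθ₂e hPhR₂
  obtain ⟨ψ₃, hψ₃, hψ₃N, hψ₃P⟩ := hA₃
  have hψ₁N : ∀ r : R₁, ψ₁ r ∈ normalizerIn S (img φg P) := by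
    intro r
    have h1 := hom_maps_normalizer F hψ₁ hR₁N r
    rw [hP₃₁] at h1
    exact h1
  obtain ⟨ξ, hξ, hξe⟩ := comp_hom F hψ₁ hψ₃ hψ₁N
  have hcS : Nat.card R₁ ≤ Nat.card S := Subgroup.card_le_of_le hR₁S
  apply ih (Nat.card S - Nat.card R₁) (by omega) P R₁ ξ rfl (hPQ.trans hQR₁) hR₁N (by omega) hξ
  · intro r
    rw [hξe]
    exact hψ₃N _
  · rw [img_comp hψ₁N hξe P, hP₃₁, hψ₃P]

/-! ### The first generation argument -/

/-- the predicate for the first generation argument -/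
def PrA (F : FusionSystem S) (Phat : Subgroup Ω) (R : Subgroup Ω) (φ : R →* Ω) : Prop :=
  ∀ P₁ P₂ : Subgroup Ω, P₁ ≤ R → F.IsConj Phat P₁ → img φ P₁ = P₂ →
    (A F Phat P₁ ↔ A F Phat P₂)

theorem prA_restrict {F : FusionSystem S} {Phat : Subgroup Ω} {Q R : Subgroup Ω} {φ : Q →* Ω}
    (h : PrA F Phat Q φ) (hRQ : R ≤ Q) : PrA F Phat R (φ.comp (Subgroup.inclusion hRQ)) := by
  intro P₁ P₂ hP₁ hc himg
  rw [img_restrict hRQ φ hP₁] at himg
  exact h P₁ P₂ (hP₁.trans hRQ) hc himg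

theorem prA_good (hS : IsPGroup p S) (F : FusionSystem S) {Phat : Subgroup Ω}
    (hfn : F.IsFullyNormalized Phat)
    (hlarge : ∀ Q : Subgroup Ω, Q ≤ S → Nat.card Phat < Nat.card Q → Good p F Q)
    (hng : ¬ Good p F Phat) {R : Subgroup Ω} {φ : R →* Ω} (hR : Good p F R)
    (hφ : φ ∈ F.Hom R) : PrA F Phat R φ := by
  intro P₁ P₂ hP₁R hc himg
  have hRS : R ≤ S := hom_le F hφ
  have hP₁ne : P₁ ≠ R := by
    rintro rfl
    exact hng (Good.of_isConj (isConj_symm F hc) hR)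
  have hlt : P₁ < R := lt_of_le_of_ne hP₁R hP₁ne
  obtain ⟨g, hgR, hgN, hgP⟩ := exists_normalizes_not_mem hS hRS hlt
  obtain ⟨Q₁, hQ₁def⟩ : ∃ Q₁, Q₁ = R ⊓ normalizerIn S P₁ := ⟨_, rfl⟩
  have hQ₁R : Q₁ ≤ R := by rw [hQ₁def]; exact inf_le_left
  have hQ₁N : Q₁ ≤ normalizerIn S P₁ := by rw [hQ₁def]; exact inf_le_right
  have hP₁S : P₁ ≤ S := hP₁R.trans hRS
  have hP₁Q₁ : P₁ ≤ Q₁ := by rw [hQ₁def]; exact le_inf hP₁R (self_le_normalizerIn' hP₁S)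
  have hgQ₁ : g ∈ Q₁ := by
    rw [hQ₁def]
    exact ⟨hgR, hRS hgR, hgN⟩
  have hQ₁S : Q₁ ≤ S := hQ₁R.trans hRS
  haveI : Finite Q₁ := finite_of_le hQ₁S
  have hcP : Nat.card P₁ = Nat.card Phat := card_eq_of_isConj F hc
  have hcard0 : Nat.card P₁ < Nat.card Q₁ := card_lt_of_not_mem' hP₁Q₁ hgQ₁ hgP
  have hcard : Nat.card Phat < Nat.card Q₁ := by omega
  have hφ₁ := restrict_mem F hφ hQ₁R
  have himg₁ : img (φ.comp (Subgroup.inclusion hQ₁R)) P₁ = P₂ := by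
    rw [img_restrict hQ₁R φ hP₁Q₁]
    exact himg
  have hφ₁N : ∀ q : Q₁, (φ.comp (Subgroup.inclusion hQ₁R)) q ∈ normalizerIn S P₂ := by
    intro q
    have h1 := hom_maps_normalizer F hφ₁ hQ₁N q
    rw [himg₁] at h1
    exact h1
  constructor
  · rintro ⟨ψ₁, hψ₁, hψ₁N, hψ₁P⟩
    obtain ⟨θ, hθ, hθe, hθr, -⟩ := inv_hom F hφ₁ rfl
    have hψ₁' := restrict_mem F hψ₁ hQ₁N
    have hθQ₁ : ∀ y, θ y ∈ Q₁ := by
      intro y
      have h1 : θ y ∈ θ.range := ⟨y, rfl⟩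
      rw [hθr] at h1
      exact h1
    obtain ⟨ξ, hξ, hξe⟩ := comp_hom F hθ hψ₁' hθQ₁
    have hrS := range_le F hφ₁
    haveI : Finite (φ.comp (Subgroup.inclusion hQ₁R)).range := finite_of_le hrS
    have hcr := card_range_eq F hφ₁
    apply lemmaT hS F hfn hlarge _ P₂ _ ξ rfl
    · rw [← himg₁]
      exact img_le_range _ _
    · rintro _ ⟨q, rfl⟩
      exact hφ₁N q
    · omega
    · exact hξ
    · intro y
      rw [hξe]
      exact hψ₁N _
    · rw [img_comp hθQ₁ hξe P₂, ← himg₁, img_inv hθe hP₁Q₁, img_restrict hQ₁N ψ₁ hP₁Q₁, hψ₁P]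
  · rintro ⟨ψ₂, hψ₂, hψ₂N, hψ₂P⟩
    obtain ⟨ξ, hξ, hξe⟩ := comp_hom F hφ₁ hψ₂ hφ₁N
    apply lemmaT hS F hfn hlarge _ P₁ Q₁ ξ rfl hP₁Q₁ hQ₁N hcard hξ
    · intro q
      rw [hξe]
      exact hψ₂N _
    · rw [img_comp hφ₁N hξe P₁, himg₁, hψ₂P]

theorem prA_comp (F : FusionSystem S) {Phat : Subgroup Ω} {P Q : Subgroup Ω} {φ : P →* Ω}
    {ψ : Q →* Ω} (hφ : φ ∈ F.Hom P) (h1 : PrA F Phat P φ)
    (h2 : PrA F Phat Q ψ) (h : ∀ x : P, φ x ∈ Q) :
    PrA F Phat P (ψ.comp (φ.codRestrict Q h)) := by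
  intro P₁ P₃ hP₁ hc himg
  have e := img_comp (χ := ψ.comp (φ.codRestrict Q h)) h (fun _ => rfl) P₁
  rw [e] at himg
  have hP₂Q : img φ P₁ ≤ Q := by
    intro y hy
    obtain ⟨x, -, rfl⟩ := mem_img.mp hy
    exact h x
  have hc₂ : F.IsConj Phat (img φ P₁) := isConj_trans F hc (isConj_img F hφ hP₁)
  exact (h1 P₁ _ hP₁ hc rfl).trans (h2 _ P₃ hP₂Q hc₂ himg)

theorem prA_inv (F : FusionSystem S) {Phat : Subgroup Ω} {P : Subgroup Ω} {φ : P →* Ω}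
    (h1 : PrA F Phat P φ) (ψ : φ.range →* Ω) (hψ : ψ ∈ F.Hom φ.range)
    (hψe : ∀ x : P, ψ ⟨φ x, ⟨x, rfl⟩⟩ = (x : Ω)) : PrA F Phat φ.range ψ := by
  intro P₂ P₁ hP₂ hc himg
  obtain ⟨hle, himg'⟩ := img_inv' hψe hP₂
  rw [himg] at hle himg'
  have hc₁ : F.IsConj Phat P₁ := by
    rw [← himg]
    exact isConj_trans F hc (isConj_img F hψ hP₂)
  exact (h1 P₁ P₂ hle hc₁ himg').symm

/-- every member of the class of `P̂` has its normalizer mapped into that of `P̂` -/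
theorem claimA (hS : IsPGroup p S) (F : FusionSystem S)
    (hgen' : ∀ E : FusionSystem S, (∀ P, Good p F P → F.Hom P ⊆ E.Hom P) → F ≤ E)
    {Phat : Subgroup Ω} (hfn : F.IsFullyNormalized Phat)
    (hlarge : ∀ Q : Subgroup Ω, Q ≤ S → Nat.card Phat < Nat.card Q → Good p F Q)
    (hng : ¬ Good p F Phat) (hPS : Nat.card Phat < Nat.card S) :
    ∀ P, F.IsConj Phat P → A F Phat P := by
  have hSg : Good p F S := hlarge S le_rfl hPS
  have hall := pred_of_gen F (Good p F) hgen' (PrA F Phat)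
    (fun {P g} hP hg => by
      have h1 := prA_good hS F hfn hlarge hng hSg (F.conj_mem le_rfl hg)
      have h2 := prA_restrict h1 hP
      have h3 : (conjHom S g).comp (Subgroup.inclusion hP) = conjHom P g := by
        ext x
        rfl
      rw [h3] at h2
      exact h2)
    (fun hφ _ h1 h2 h => prA_comp F hφ h1 h2 h)
    (fun _ h1 ψ hψ hψe => prA_inv F h1 ψ hψ hψe)
    (fun P φ hP hφ => prA_good hS F hfn hlarge hng hP hφ)
  rintro P ⟨φ, hφ, hr⟩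
  have h1 := hall Phat φ hφ Phat P le_rfl (isConj_refl F hfn.1) (by rw [img_self]; exact hr)
  exact h1.mp ⟨_, AW_self F hfn.1⟩

end Cfsg.Agent.Lib.Helper2.Sat310
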