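import Cfsg.Agent.Lib.Helper2.Sat310b

/-!
# Saturation from generation (AKO I.3.10): the subgroup `Q₀` and extension of automorphisms to it
-/

set_option autoImplicit false

namespace Cfsg.Agent.Lib.Helper2.Sat310

open Cfsg Cfsg.FusionSystem Cfsg.Agent.Lib.Helper9 Cfsg.Agent.Lib.Helper2.KNorm

variable {Ω : Type*} [Group Ω] {S : Subgroup Ω}

/-- automorphisms of `Q` restricting on `P̂` to a member of `Θ` -/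
def LΘ {Phat Q : Subgroup Ω} (hPQ : Phat ≤ Q) (Θ : Subgroup (MulAut Phat)) :
    Subgroup (MulAut Q) where
  carrier := {γ | ∃ θ ∈ Θ, ∀ x : Phat, ((γ (Subgroup.inclusion hPQ x) : Q) : Ω) = θ x}
  one_mem' := ⟨1, Θ.one_mem, fun _ => rfl⟩
  mul_mem' := by
    rintro γ δ ⟨θ, hθ, h1⟩ ⟨η, hη, h2⟩
    refine ⟨θ * η, Θ.mul_mem hθ hη, fun x => ?_⟩
    have h3 : δ (Subgroup.inclusion hPQ x) = Subgroup.inclusion hPQ (η x) := Subtype.ext (h2 x)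
    show ((γ (δ (Subgroup.inclusion hPQ x)) : Q) : Ω) = θ (η x)
    rw [h3]
    exact h1 (η x)
  inv_mem' := by
    rintro γ ⟨θ, hθ, h1⟩
    refine ⟨θ⁻¹, Θ.inv_mem hθ, fun x => ?_⟩
    have h3 : γ (Subgroup.inclusion hPQ (θ⁻¹ x)) = Subgroup.inclusion hPQ x := by
      apply Subtype.ext
      rw [h1, MulAut.apply_inv_self]
      rfl
    have h4 : γ⁻¹ (Subgroup.inclusion hPQ x) = Subgroup.inclusion hPQ (θ⁻¹ x) := by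
      rw [← h3, MulAut.inv_apply_self]
    rw [h4]
    rfl

theorem mem_LΘ {Phat Q : Subgroup Ω} {hPQ : Phat ≤ Q} {Θ : Subgroup (MulAut Phat)}
    {γ : MulAut Q} : γ ∈ LΘ hPQ Θ ↔
      ∃ θ ∈ Θ, ∀ x : Phat, ((γ (Subgroup.inclusion hPQ x) : Q) : Ω) = θ x := Iff.rfl

theorem LΘ_le_Stab {Phat Q : Subgroup Ω} (hPQ : Phat ≤ Q) (Θ : Subgroup (MulAut Phat)) :
    LΘ hPQ Θ ≤ Stab Phat Q := by
  rintro γ ⟨θ, -, h⟩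
  rw [mem_Stab]
  intro z
  constructor
  · intro hz
    have h1 := h ⟨z, hz⟩
    have h2 : Subgroup.inclusion hPQ ⟨(z : Ω), hz⟩ = z := Subtype.ext rfl
    rw [h2] at h1
    rw [h1]
    exact (θ ⟨z, hz⟩).2
  · intro hz
    have h1 := h (θ⁻¹ ⟨γ z, hz⟩)
    rw [MulAut.apply_inv_self] at h1
    have h2 : γ (Subgroup.inclusion hPQ (θ⁻¹ ⟨γ z, hz⟩)) = γ z := Subtype.ext h1
    have h3 := γ.injective h2
    rw [← h3]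
    exact (θ⁻¹ ⟨γ z, hz⟩).2

/-- the elements of `N_S(P̂)` inducing on `P̂` a member of `Θ` -/
def Q0 (S Phat : Subgroup Ω) (Θ : Subgroup (MulAut Phat)) : Subgroup Ω := NS S Phat.subtype Θ

theorem mem_Q0 {Phat : Subgroup Ω} {Θ : Subgroup (MulAut Phat)} {g : Ω} :
    g ∈ Q0 S Phat Θ ↔ g ∈ S ∧ ∃ θ ∈ Θ, ∀ x : Phat, ((θ x : Phat) : Ω) = g * x * g⁻¹ := Iff.rfl

theorem Q0_le_normalizerIn (Phat : Subgroup Ω) (Θ : Subgroup (MulAut Phat)) :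
    Q0 S Phat Θ ≤ normalizerIn S Phat := by
  intro g hg
  refine ⟨hg.1, ?_⟩
  have h1 := NS_le_normalizer (S := S) hg
  rw [Subgroup.range_subtype] at h1
  exact h1

theorem le_Q0 {Phat : Subgroup Ω} {Θ : Subgroup (MulAut Phat)} (hPS : Phat ≤ S)
    (hΘ2 : Inn Phat ≤ Θ) : Phat ≤ Q0 S Phat Θ := by
  intro u hu
  refine ⟨hPS hu, MulAut.conj ⟨u, hu⟩, hΘ2 ⟨⟨u, hu⟩, rfl⟩, fun x => ?_⟩
  rfl

/-- the hypotheses on the fully normalized member `P̂` and the subgroup `Θ` of `Aut(P̂)` -/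
structure Setup (p : ℕ) (F : FusionSystem S) (Phat : Subgroup Ω) (Θ : Subgroup (MulAut Phat)) :
    Prop where
  hfn : F.IsFullyNormalized Phat
  hlarge : ∀ Q : Subgroup Ω, Q ≤ S → Nat.card Phat < Nat.card Q → Good p F Q
  hA : ∀ P, F.IsConj Phat P → A F Phat P
  hΘ1 : ∀ γ ∈ F.autGroup Phat, ∀ θ ∈ Θ, γ * θ * γ⁻¹ ∈ Θ
  hΘ2 : Inn Phat ≤ Θ
  hΘ3 : Nat.card Phat < Nat.card (Q0 S Phat Θ)
  hH : ∀ (Q : Subgroup Ω) (hPQ : Phat ≤ Q), Q ≤ normalizerIn S Phat →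
    Nat.card Phat < Nat.card Q → ∀ φg ∈ F.Hom Q,
    IsSyl p (AS S φg ⊓ LΘ hPQ Θ) (F.autGroup Q ⊓ LΘ hPQ Θ) →
    ∀ χ ∈ F.autGroup Q ⊓ LΘ hPQ Θ, ∃ s ∈ S, ∀ x : Phat,
      φg (χ (Subgroup.inclusion hPQ x)) = s * φg (Subgroup.inclusion hPQ x) * s⁻¹

theorem exists_restrict_aut (F : FusionSystem S) {Phat R : Subgroup Ω} {ω : R →* Ω}
    (hω : ω ∈ F.Hom R) (hPR : Phat ≤ R) (himg : img ω Phat = Phat) :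
    ∃ γ ∈ F.autGroup Phat, ∀ x : Phat, ((γ x : Phat) : Ω) = ω (Subgroup.inclusion hPR x) := by
  have h1 := restrict_mem F hω hPR
  have h2 : (ω.comp (Subgroup.inclusion hPR)).range = Phat := by
    rw [range_restrict]
    exact himg
  obtain ⟨γ, hγ, hγe⟩ := exists_aut_of_hom F h1 h2
  exact ⟨γ, hγ, fun x => hγe x⟩

/-- maps of the system preserving `P̂` preserve `Q₀` -/
theorem map_mem_Q0 (F : FusionSystem S) {Phat : Subgroup Ω} {Θ : Subgroup (MulAut Phat)}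
    (hΘ1 : ∀ γ ∈ F.autGroup Phat, ∀ θ ∈ Θ, γ * θ * γ⁻¹ ∈ Θ) {R : Subgroup Ω} {ω : R →* Ω}
    (hω : ω ∈ F.Hom R) (hPR : Phat ≤ R) (himg : img ω Phat = Phat) (r : R)
    (hr : (r : Ω) ∈ Q0 S Phat Θ) : ω r ∈ Q0 S Phat Θ := by
  obtain ⟨γ, hγ, hγe⟩ := exists_restrict_aut F hω hPR himg
  obtain ⟨hrS, θ, hθ, hθe⟩ := hr
  refine ⟨hom_mem F hω r, γ * θ * γ⁻¹, hΘ1 γ hγ θ hθ, fun y => ?_⟩
  show ((γ (θ (γ⁻¹ y)) : Phat) : Ω) = ω r * y * (ω r)⁻¹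
  have h1 : Subgroup.inclusion hPR (θ (γ⁻¹ y)) = r * Subgroup.inclusion hPR (γ⁻¹ y) * r⁻¹ :=
    Subtype.ext (hθe (γ⁻¹ y))
  rw [hγe, h1, map_mul, map_mul, map_inv, ← hγe, MulAut.apply_inv_self]

theorem conj_mem_Q0 (F : FusionSystem S) {Phat : Subgroup Ω} {Θ : Subgroup (MulAut Phat)}
    (hPS : Phat ≤ S) (hΘ1 : ∀ γ ∈ F.autGroup Phat, ∀ θ ∈ Θ, γ * θ * γ⁻¹ ∈ Θ) {g q : Ω}
    (hg : g ∈ normalizerIn S Phat) (hq : q ∈ Q0 S Phat Θ) : g * q * g⁻¹ ∈ Q0 S Phat Θ := by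
  have hN : normalizerIn S Phat ≤ S := inf_le_left
  have hω : conjHom (normalizerIn S Phat) g ∈ F.Hom (normalizerIn S Phat) := F.conj_mem hN hg.1
  have himg : img (conjHom (normalizerIn S Phat) g) Phat = Phat := by
    ext y
    rw [mem_img]
    constructor
    · rintro ⟨x, hx, rfl⟩
      exact (Subgroup.mem_normalizer_iff.mp hg.2 x).mp hx
    · intro hy
      have h1 : g⁻¹ * y * g⁻¹⁻¹ ∈ Phat :=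
        (Subgroup.mem_normalizer_iff.mp (Subgroup.inv_mem _ hg.2) y).mp hy
      refine ⟨⟨g⁻¹ * y * g⁻¹⁻¹, self_le_normalizerIn' hPS h1⟩, h1, ?_⟩
      show g * (g⁻¹ * y * g⁻¹⁻¹) * g⁻¹ = y
      group
  exact map_mem_Q0 F hΘ1 hω (self_le_normalizerIn' hPS) himg ⟨q, Q0_le_normalizerIn Phat Θ hq⟩ hq

theorem normalizerIn_le_normalizer_Q0 (F : FusionSystem S) {Phat : Subgroup Ω}
    {Θ : Subgroup (MulAut Phat)} (hPS : Phat ≤ S)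
    (hΘ1 : ∀ γ ∈ F.autGroup Phat, ∀ θ ∈ Θ, γ * θ * γ⁻¹ ∈ Θ) :
    normalizerIn S Phat ≤ Subgroup.normalizer ((Q0 S Phat Θ : Subgroup Ω) : Set Ω) := by
  intro g hg
  rw [Subgroup.mem_normalizer_iff]
  intro q
  constructor
  · exact conj_mem_Q0 F hPS hΘ1 hg
  · intro h
    have h1 := conj_mem_Q0 F hPS hΘ1 ((normalizerIn S Phat).inv_mem hg) h
    have e : g⁻¹ * (g * q * g⁻¹) * g⁻¹⁻¹ = q := by group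
    rwa [e] at h1

theorem NS_LΘ_le_Q0 (F : FusionSystem S) {Phat : Subgroup Ω} {Θ : Subgroup (MulAut Phat)}
    (hΘ1 : ∀ γ ∈ F.autGroup Phat, ∀ θ ∈ Θ, γ * θ * γ⁻¹ ∈ Θ) {Q : Subgroup Ω} {φ : Q →* Ω}
    (hφ : φ ∈ F.Hom Q) (hPQ : Phat ≤ Q) (himg : img φ Phat = Phat) :
    NS S φ (LΘ hPQ Θ) ≤ Q0 S Phat Θ := by
  rintro g ⟨hgS, α, ⟨θ₀, hθ₀, hθ₀e⟩, hα⟩
  obtain ⟨γ, hγ, hγe⟩ := exists_restrict_aut F hφ hPQ himg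
  refine ⟨hgS, γ * θ₀ * γ⁻¹, hΘ1 γ hγ θ₀ hθ₀, fun y => ?_⟩
  show ((γ (θ₀ (γ⁻¹ y)) : Phat) : Ω) = g * y * g⁻¹
  have h1 : Subgroup.inclusion hPQ (θ₀ (γ⁻¹ y)) = α (Subgroup.inclusion hPQ (γ⁻¹ y)) :=
    Subtype.ext (hθ₀e (γ⁻¹ y)).symm
  rw [hγe, h1, hα, ← hγe, MulAut.apply_inv_self]

theorem mem_NS_LΘ (F : FusionSystem S) {Phat : Subgroup Ω} {Θ : Subgroup (MulAut Phat)}
    (hΘ1 : ∀ γ ∈ F.autGroup Phat, ∀ θ ∈ Θ, γ * θ * γ⁻¹ ∈ Θ) {Q : Subgroup Ω} {φ : Q →* Ω}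
    (hφ : φ ∈ F.Hom Q) (hPQ : Phat ≤ Q) (himg : img φ Phat = Phat) {g : Ω}
    (hg : g ∈ Q0 S Phat Θ)
    (hgR : g ∈ Subgroup.normalizer ((φ.range : Subgroup Ω) : Set Ω)) :
    g ∈ NS S φ (LΘ hPQ Θ) := by
  have hinj := F.injective_of_mem hφ
  obtain ⟨α, hα⟩ := exists_pullback_conj hinj hgR
  obtain ⟨γ, hγ, hγe⟩ := exists_restrict_aut F hφ hPQ himg
  obtain ⟨hgS, θ, hθ, hθe⟩ := hg
  refine ⟨hgS, α, ⟨γ⁻¹ * θ * γ⁻¹⁻¹, hΘ1 γ⁻¹ ((F.autGroup Phat).inv_mem hγ) θ hθ, fun x => ?_⟩, hα⟩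
  have h1 : α (Subgroup.inclusion hPQ x) =
      Subgroup.inclusion hPQ ((γ⁻¹ * θ * γ⁻¹⁻¹) x) := by
    apply hinj
    rw [hα, ← hγe, ← hγe]
    show g * ((γ x : Phat) : Ω) * g⁻¹ = ((γ (γ⁻¹ (θ (γ⁻¹⁻¹ x))) : Phat) : Ω)
    rw [MulAut.apply_inv_self, inv_inv]
    exact (hθe (γ x)).symm
  rw [h1]
  rfl

variable [Finite S] {p : ℕ} [Fact p.Prime]

/-- maps between overgroups of `P̂` in `N_S(P̂)` preserving `P̂` agree on `P̂` with a map defined on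
`Q₀` -/
theorem lemmaT' (hS : IsPGroup p S) (F : FusionSystem S) {Phat : Subgroup Ω}
    {Θ : Subgroup (MulAut Phat)} (st : Setup p F Phat Θ) :
    ∀ (k : ℕ) (Q : Subgroup Ω) (φ : Q →* Ω), Nat.card S - Nat.card Q = k → Phat ≤ Q →
      Q ≤ normalizerIn S Phat → Nat.card Phat < Nat.card Q → φ ∈ F.Hom Q →
      (∀ x, φ x ∈ normalizerIn S Phat) → img φ Phat = Phat →
      ∃ β ∈ F.Hom (Q0 S Phat Θ), (∀ a, β a ∈ Q0 S Phat Θ) ∧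
        ∀ (a : Q0 S Phat Θ) (q : Q), (a : Ω) = q → (q : Ω) ∈ Phat → β a = φ q := by
  intro k
  induction k using Nat.strong_induction_on with
  | _ k ih =>
  intro Q φ hk hPQ hQN hcard hφ hφN hφP
  have hPS : Phat ≤ S := st.hfn.1
  have hQ0N : Q0 S Phat Θ ≤ normalizerIn S Phat := Q0_le_normalizerIn Phat Θ
  have hPQ0 : Phat ≤ Q0 S Phat Θ := le_Q0 hPS st.hΘ2
  have hQ0S : Q0 S Phat Θ ≤ S := hQ0N.trans inf_le_left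
  have hQS : Q ≤ S := hom_le F hφ
  have hinj := F.injective_of_mem hφ
  have hPr : Phat ≤ φ.range := hφP.ge.trans (img_le_range φ Phat)
  have hφPhat : ∀ q : Q, (q : Ω) ∈ Phat → φ q ∈ Phat := by
    intro q hq
    have h1 := apply_mem_img φ hq
    rw [hφP] at h1
    exact h1
  by_cases hc1 : Q0 S Phat Θ ≤ Q
  · refine ⟨φ.comp (Subgroup.inclusion hc1), restrict_mem F hφ hc1, ?_, ?_⟩
    · intro a
      exact map_mem_Q0 F st.hΘ1 hφ hPQ hφP (Subgroup.inclusion hc1 a) a.2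
    · intro a q haq _
      show φ (Subgroup.inclusion hc1 a) = φ q
      congr 1
      exact Subtype.ext haq
  by_cases hc2 : Q0 S Phat Θ ≤ φ.range
  · obtain ⟨θ, hθ, hθe, hθr, -⟩ := inv_hom F hφ rfl
    have hθP : img θ Phat = Phat := by
      have h1 := img_inv hθe hPQ
      rw [hφP] at h1
      exact h1
    have hβ₀ := restrict_mem F hθ hc2
    have hβ₀Q0 : ∀ a, (θ.comp (Subgroup.inclusion hc2)) a ∈ Q0 S Phat Θ := by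
      intro a
      exact map_mem_Q0 F st.hΘ1 hθ hPr hθP (Subgroup.inclusion hc2 a) a.2
    have hβ₀r := range_eq_of_forall_mem F hβ₀ hβ₀Q0
    obtain ⟨β, hβ, hβe, hβr, -⟩ := inv_hom F hβ₀ hβ₀r
    refine ⟨β, hβ, ?_, ?_⟩
    · intro a
      have h1 : β a ∈ β.range := ⟨a, rfl⟩
      rw [hβr] at h1
      exact h1
    · intro a q haq hq
      have hφq : φ q ∈ Phat := hφPhat q hq
      have h2 : (θ.comp (Subgroup.inclusion hc2)) ⟨φ q, hPQ0 hφq⟩ = q := hθe q _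
      have hmem : (θ.comp (Subgroup.inclusion hc2)) ⟨φ q, hPQ0 hφq⟩ ∈ Q0 S Phat Θ := hβ₀Q0 _
      have h4 := hβe ⟨φ q, hPQ0 hφq⟩ hmem
      have h3 : a = ⟨(θ.comp (Subgroup.inclusion hc2)) ⟨φ q, hPQ0 hφq⟩, hmem⟩ :=
        Subtype.ext (haq.trans h2.symm)
      rw [h3]
      exact h4
  -- the main case
  haveI : Finite Q := finite_of_le hQS
  have hside : ∀ Q' : Subgroup Ω, Q' ≤ normalizerIn S Phat → ¬ Q0 S Phat Θ ≤ Q' →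
      ∃ g₀ ∈ Q0 S Phat Θ, g₀ ∈ Subgroup.normalizer (Q' : Set Ω) ∧ g₀ ∉ Q' := by
    intro Q' hQ'N hnle
    have hsupS : Q' ⊔ Q0 S Phat Θ ≤ S := sup_le (hQ'N.trans inf_le_left) hQ0S
    have hlt : Q' < Q' ⊔ Q0 S Phat Θ := by
      refine lt_of_le_of_ne le_sup_left ?_
      intro heq
      apply hnle
      have h1 : Q0 S Phat Θ ≤ Q' ⊔ Q0 S Phat Θ := le_sup_right
      rwa [← heq] at h1
    obtain ⟨g, hgM, hgN, hgQ'⟩ := exists_normalizes_not_mem hS hsupS hlt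
    obtain ⟨a, ha, b, hb, rfl⟩ := exists_mul_of_mem_sup (A := Q') (B := Q0 S Phat Θ)
      (fun a ha b hb => conj_mem_Q0 F hPS st.hΘ1 (hQ'N ha) hb) hgM
    refine ⟨b, hb, ?_, ?_⟩
    · have h1 : a⁻¹ ∈ Subgroup.normalizer (Q' : Set Ω) := Subgroup.le_normalizer (Q'.inv_mem ha)
      have h2 := Subgroup.mul_mem _ h1 hgN
      rwa [inv_mul_cancel_left] at h2
    · intro hbQ'
      exact hgQ' (Q'.mul_mem ha hbQ')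
  obtain ⟨g₀, hg₀Q0, hg₀N, hg₀Q⟩ := hside Q hQN hc1
  have hrN : φ.range ≤ normalizerIn S Phat := by
    rintro _ ⟨x, rfl⟩
    exact hφN x
  obtain ⟨g₀', hg₀'Q0, hg₀'N, hg₀'Q⟩ := hside φ.range hrN hc2
  obtain ⟨φg, hφg, hrec, hsyl⟩ := exists_goodFor hS F (st.hlarge Q hQS hcard) (LΘ hPQ Θ)
  have hι : Q.subtype ∈ F.Hom Q := subtype_mem F hQS
  have himgι : img Q.subtype Phat = Phat := img_subtype hPQ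
  obtain ⟨R₁, hιR₁, hNSR₁, hR₁le, χ₁, hχ₁, ψ₁, hψ₁, hψ₁e⟩ :=
    exists_extension_abs hS F hφg hι hrec hsyl
  obtain ⟨R₂, hφR₂, hNSR₂, hR₂le, χ₂, hχ₂, ψ₂, hψ₂, hψ₂e⟩ :=
    exists_extension_abs hS F hφg hφ hrec hsyl
  have hQR₁ : Q ≤ R₁ := fun x hx => hιR₁ ⟨⟨x, hx⟩, rfl⟩
  have hR₁N : R₁ ≤ normalizerIn S Phat := by
    refine hR₁le.trans (sup_le ?_ ?_)
    · exact (NS_LΘ_le_Q0 F st.hΘ1 hι hPQ himgι).trans hQ0N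
    · rintro _ ⟨x, rfl⟩
      exact hQN x.2
  have hg₀R₁ : g₀ ∈ R₁ := by
    apply hNSR₁
    apply mem_NS_LΘ F st.hΘ1 hι hPQ himgι hg₀Q0
    rw [Subgroup.range_subtype]
    exact hg₀N
  have hR₁S : R₁ ≤ S := hom_le F hψ₁
  haveI : Finite R₁ := finite_of_le hR₁S
  have hcard₁ : Nat.card Q < Nat.card R₁ := card_lt_of_not_mem' hQR₁ hg₀R₁ hg₀Q
  have hR₂N : R₂ ≤ normalizerIn S Phat := by
    refine hR₂le.trans (sup_le ?_ hrN)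
    exact (NS_LΘ_le_Q0 F st.hΘ1 hφ hPQ hφP).trans hQ0N
  have hg₀'R₂ : g₀' ∈ R₂ := hNSR₂ (mem_NS_LΘ F st.hΘ1 hφ hPQ hφP hg₀'Q0 hg₀'N)
  have hR₂S : R₂ ≤ S := hom_le F hψ₂
  haveI : Finite R₂ := finite_of_le hR₂S
  have hcr : Nat.card φ.range = Nat.card Q := card_range_eq F hφ
  have hcard₂ : Nat.card φ.range < Nat.card R₂ := card_lt_of_not_mem' hφR₂ hg₀'R₂ hg₀'Q
  have hPR₁ : Phat ≤ R₁ := hPQ.trans hQR₁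
  have hPR₂ : Phat ≤ R₂ := hPr.trans hφR₂
  have hχ₁S : χ₁ ∈ Stab Phat Q := LΘ_le_Stab hPQ Θ hχ₁.2
  have hχ₂S : χ₂ ∈ Stab Phat Q := LΘ_le_Stab hPQ Θ hχ₂.2
  have hP₃₁ : img ψ₁ Phat = img φg Phat := by
    have h1 := img_of_twist (ψ := ψ₁) (φ := Q.subtype) (φg := φg) (P := Phat) hχ₁S hιR₁ hψ₁e
    rw [himgι] at h1
    exact h1
  have hP₃₂ : img ψ₂ Phat = img φg Phat := by
    have h1 := img_of_twist (ψ := ψ₂) (φ := φ) (φg := φg) (P := Phat) hχ₂S hφR₂ hψ₂e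
    rw [hφP] at h1
    exact h1
  obtain ⟨s₁, hs₁S, hs₁⟩ := st.hH Q hPQ hQN hcard φg hφg hsyl χ₁ hχ₁
  obtain ⟨s₂, hs₂S, hs₂⟩ := st.hH Q hPQ hQN hcard φg hφg hsyl χ₂ hχ₂
  have hs₁N : s₁ ∈ normalizerIn S (img φg Phat) :=
    ⟨hs₁S, mem_normalizer_of_twist hPQ hχ₁S hs₁⟩
  have hs₂N : s₂ ∈ normalizerIn S (img φg Phat) :=
    ⟨hs₂S, mem_normalizer_of_twist hPQ hχ₂S hs₂⟩
  have hc₃ : F.IsConj Phat (img φg Phat) := isConj_img F hφg hPQ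
  obtain ⟨ψ₃, hψ₃, hψ₃N, hψ₃P⟩ := st.hA _ hc₃
  have hψ₁N : ∀ r : R₁, ψ₁ r ∈ normalizerIn S (img φg Phat) := by
    intro r
    have h1 := hom_maps_normalizer F hψ₁ hR₁N r
    rw [hP₃₁] at h1
    exact h1
  have hψ₂N : ∀ r : R₂, ψ₂ r ∈ normalizerIn S (img φg Phat) := by
    intro r
    have h1 := hom_maps_normalizer F hψ₂ hR₂N r
    rw [hP₃₂] at h1
    exact h1
  obtain ⟨ξ₁, hξ₁, hξ₁e⟩ := comp_hom F hψ₁ hψ₃ hψ₁N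
  obtain ⟨ξ₂, hξ₂, hξ₂e⟩ := comp_hom F hψ₂ hψ₃ hψ₂N
  have hcS₁ : Nat.card R₁ ≤ Nat.card S := Subgroup.card_le_of_le hR₁S
  have hcS₂ : Nat.card R₂ ≤ Nat.card S := Subgroup.card_le_of_le hR₂S
  obtain ⟨β₁, hβ₁, hβ₁Q0, hβ₁e⟩ := ih (Nat.card S - Nat.card R₁) (by omega) R₁ ξ₁ rfl hPR₁ hR₁N
    (by omega) hξ₁ (fun r => by rw [hξ₁e]; exact hψ₃N _)
    (by rw [img_comp hψ₁N hξ₁e Phat, hP₃₁, hψ₃P])
  obtain ⟨β₂, hβ₂, hβ₂Q0, hβ₂e⟩ := ih (Nat.card S - Nat.card R₂) (by omega) R₂ ξ₂ rfl hPR₂ hR₂N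
    (by omega) hξ₂ (fun r => by rw [hξ₂e]; exact hψ₃N _)
    (by rw [img_comp hψ₂N hξ₂e Phat, hP₃₂, hψ₃P])
  obtain ⟨h, hhdef⟩ : ∃ h : Ω, h = ψ₃ ⟨s₂, hs₂N⟩ * (ψ₃ ⟨s₁, hs₁N⟩)⁻¹ := ⟨_, rfl⟩
  have hhN : h ∈ normalizerIn S Phat := by
    rw [hhdef]
    exact (normalizerIn S Phat).mul_mem (hψ₃N _) ((normalizerIn S Phat).inv_mem (hψ₃N _))
  have hkey : ∀ (q : Q) (hq : (q : Ω) ∈ Phat) (hφq : φ q ∈ Phat),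
      β₂ ⟨φ q, hPQ0 hφq⟩ = h * β₁ ⟨q, hPQ0 hq⟩ * h⁻¹ := by
    intro q hq hφq
    have hb1 : β₁ ⟨q, hPQ0 hq⟩ = ξ₁ ⟨q, hQR₁ q.2⟩ :=
      hβ₁e ⟨q, hPQ0 hq⟩ ⟨q, hQR₁ q.2⟩ rfl hq
    have hb2 : β₂ ⟨φ q, hPQ0 hφq⟩ = ξ₂ ⟨φ q, hφR₂ ⟨q, rfl⟩⟩ :=
      hβ₂e ⟨φ q, hPQ0 hφq⟩ ⟨φ q, hφR₂ ⟨q, rfl⟩⟩ rfl hφq
    have hq' : Subgroup.inclusion hPQ ⟨(q : Ω), hq⟩ = q := Subtype.ext rfl
    have e1 : ψ₁ ⟨q, hQR₁ q.2⟩ = s₁ * φg q * s₁⁻¹ := by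
      have h1 := hψ₁e q (hQR₁ q.2)
      have h2 := hs₁ ⟨q, hq⟩
      rw [hq'] at h2
      exact h1.trans h2
    have e2 : ψ₂ ⟨φ q, hφR₂ ⟨q, rfl⟩⟩ = s₂ * φg q * s₂⁻¹ := by
      have h1 := hψ₂e q (hφR₂ ⟨q, rfl⟩)
      have h2 := hs₂ ⟨q, hq⟩
      rw [hq'] at h2
      exact h1.trans h2
    have hφgq : φg q ∈ normalizerIn S (img φg Phat) :=
      self_le_normalizerIn' (isConj_le_right F hc₃) (apply_mem_img φg hq)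
    have h5 : (⟨ψ₁ ⟨q, hQR₁ q.2⟩, hψ₁N _⟩ : normalizerIn S (img φg Phat)) =
        ⟨s₁, hs₁N⟩ * ⟨φg q, hφgq⟩ * ⟨s₁, hs₁N⟩⁻¹ := Subtype.ext e1
    have h6 : (⟨ψ₂ ⟨φ q, hφR₂ ⟨q, rfl⟩⟩, hψ₂N _⟩ : normalizerIn S (img φg Phat)) =
        ⟨s₂, hs₂N⟩ * ⟨φg q, hφgq⟩ * ⟨s₂, hs₂N⟩⁻¹ := Subtype.ext e2
    have e3 : ξ₁ ⟨q, hQR₁ q.2⟩ =
        ψ₃ ⟨s₁, hs₁N⟩ * ψ₃ ⟨φg q, hφgq⟩ * (ψ₃ ⟨s₁, hs₁N⟩)⁻¹ := by
      rw [hξ₁e, h5, map_mul, map_mul, map_inv]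
    have e4 : ξ₂ ⟨φ q, hφR₂ ⟨q, rfl⟩⟩ =
        ψ₃ ⟨s₂, hs₂N⟩ * ψ₃ ⟨φg q, hφgq⟩ * (ψ₃ ⟨s₂, hs₂N⟩)⁻¹ := by
      rw [hξ₂e, h6, map_mul, map_mul, map_inv]
    rw [hb1, hb2, e3, e4, hhdef]
    group
  have hβ₂r := range_eq_of_forall_mem F hβ₂ hβ₂Q0
  obtain ⟨θ₂, hθ₂, hθ₂e, hθ₂r, -⟩ := inv_hom F hβ₂ hβ₂r
  have hcj : conjHom (Q0 S Phat Θ) h ∈ F.Hom (Q0 S Phat Θ) := F.conj_mem hQ0S hhN.1
  obtain ⟨ζ₁, hζ₁, hζ₁e⟩ := comp_hom F hβ₁ hcj hβ₁Q0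
  have hζ₁Q0 : ∀ a, ζ₁ a ∈ Q0 S Phat Θ := by
    intro a
    rw [hζ₁e]
    exact conj_mem_Q0 F hPS st.hΘ1 hhN (hβ₁Q0 a)
  obtain ⟨β, hβ, hβe⟩ := comp_hom F hζ₁ hθ₂ hζ₁Q0
  refine ⟨β, hβ, ?_, ?_⟩
  · intro a
    rw [hβe]
    have h1 : θ₂ ⟨ζ₁ a, hζ₁Q0 a⟩ ∈ θ₂.range := ⟨_, rfl⟩
    rw [hθ₂r] at h1
    exact h1
  · intro a q haq hq
    have hφq : φ q ∈ Phat := hφPhat q hq
    have ha : a = ⟨q, hPQ0 hq⟩ := Subtype.ext haq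
    subst ha
    have h1 : ζ₁ ⟨q, hPQ0 hq⟩ = β₂ ⟨φ q, hPQ0 hφq⟩ := by
      rw [hζ₁e, hkey q hq hφq]
      rfl
    have hmem : β₂ ⟨φ q, hPQ0 hφq⟩ ∈ Q0 S Phat Θ := hβ₂Q0 _
    have h2 : (⟨ζ₁ ⟨q, hPQ0 hq⟩, hζ₁Q0 _⟩ : Q0 S Phat Θ) = ⟨β₂ ⟨φ q, hPQ0 hφq⟩, hmem⟩ :=
      Subtype.ext h1
    rw [hβe, h2]
    exact hθ₂e _ hmem

end Cfsg.Agent.Lib.Helper2.Sat310
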