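import Cfsg.Agent.Lib.Helper2.Sat310c

/-!
# Saturation from generation (AKO I.3.10): every automorphism of `P̂` extends to `Q₀`
-/

set_option autoImplicit false

namespace Cfsg.Agent.Lib.Helper2.Sat310

open Cfsg Cfsg.FusionSystem Cfsg.Agent.Lib.Helper9 Cfsg.Agent.Lib.Helper2.KNorm

variable {Ω : Type*} [Group Ω] {S : Subgroup Ω}

/-- the predicate for the second generation argument -/
def PrB (F : FusionSystem S) (Phat : Subgroup Ω) (Θ : Subgroup (MulAut Phat)) (R : Subgroup Ω)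
    (φ : R →* Ω) : Prop :=
  ∀ P₁ P₂ : Subgroup Ω, P₁ ≤ R → F.IsConj Phat P₁ → img φ P₁ = P₂ →
    ∀ (ψ₁ : normalizerIn S P₁ →* Ω) (ψ₂ : normalizerIn S P₂ →* Ω),
      AW F Phat P₁ ψ₁ → AW F Phat P₂ ψ₂ →
      ∃ β ∈ F.Hom (Q0 S Phat Θ), (∀ a, β a ∈ Q0 S Phat Θ) ∧
        ∀ (r : R) (n₁ : normalizerIn S P₁) (n₂ : normalizerIn S P₂) (a : Q0 S Phat Θ),
          (r : Ω) ∈ P₁ → (n₁ : Ω) = r → (n₂ : Ω) = φ r → (a : Ω) = ψ₁ n₁ → β a = ψ₂ n₂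

theorem prB_restrict {F : FusionSystem S} {Phat : Subgroup Ω} {Θ : Subgroup (MulAut Phat)}
    {Q R : Subgroup Ω} {φ : Q →* Ω} (h : PrB F Phat Θ Q φ) (hRQ : R ≤ Q) :
    PrB F Phat Θ R (φ.comp (Subgroup.inclusion hRQ)) := by
  intro P₁ P₂ hP₁ hc himg ψ₁ ψ₂ hψ₁ hψ₂
  rw [img_restrict hRQ φ hP₁] at himg
  obtain ⟨β, hβ, hβQ0, hβe⟩ := h P₁ P₂ (hP₁.trans hRQ) hc himg ψ₁ ψ₂ hψ₁ hψ₂
  exact ⟨β, hβ, hβQ0, fun r n₁ n₂ a hr hn₁ hn₂ ha =>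
    hβe (Subgroup.inclusion hRQ r) n₁ n₂ a hr hn₁ hn₂ ha⟩

theorem prB_comp (F : FusionSystem S) {Phat : Subgroup Ω} {Θ : Subgroup (MulAut Phat)}
    (hA : ∀ P, F.IsConj Phat P → A F Phat P) {P Q : Subgroup Ω} {φ : P →* Ω}
    {ψ : Q →* Ω} (hφ : φ ∈ F.Hom P) (h1 : PrB F Phat Θ P φ)
    (h2 : PrB F Phat Θ Q ψ) (h : ∀ x : P, φ x ∈ Q) :
    PrB F Phat Θ P (ψ.comp (φ.codRestrict Q h)) := by
  intro P₁ P₃ hP₁ hc himg ψ₁ ψ₃ hψ₁ hψ₃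
  have e := img_comp (χ := ψ.comp (φ.codRestrict Q h)) h (fun _ => rfl) P₁
  rw [e] at himg
  have hP₂Q : img φ P₁ ≤ Q := by
    intro y hy
    obtain ⟨x, -, rfl⟩ := mem_img.mp hy
    exact h x
  have hc₂ : F.IsConj Phat (img φ P₁) := isConj_trans F hc (isConj_img F hφ hP₁)
  obtain ⟨ψ₂, hψ₂⟩ := hA _ hc₂
  obtain ⟨β₁, hβ₁, hβ₁Q0, hβ₁e⟩ := h1 P₁ _ hP₁ hc rfl ψ₁ ψ₂ hψ₁ hψ₂
  obtain ⟨β₂, hβ₂, hβ₂Q0, hβ₂e⟩ := h2 _ P₃ hP₂Q hc₂ himg ψ₂ ψ₃ hψ₂ hψ₃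
  obtain ⟨β, hβ, hβe⟩ := comp_hom F hβ₁ hβ₂ hβ₁Q0
  refine ⟨β, hβ, fun a => by rw [hβe]; exact hβ₂Q0 _, ?_⟩
  intro r n₁ n₃ a hr hn₁ hn₃ ha
  have hφr : φ r ∈ img φ P₁ := apply_mem_img φ hr
  have hP₂S : img φ P₁ ≤ S := isConj_le_right F hc₂
  have hn₂mem : φ r ∈ normalizerIn S (img φ P₁) := self_le_normalizerIn' hP₂S hφr
  have hb1 : β₁ a = ψ₂ ⟨φ r, hn₂mem⟩ := hβ₁e r n₁ ⟨φ r, hn₂mem⟩ a hr hn₁ rfl ha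
  have hb2 : β₂ ⟨β₁ a, hβ₁Q0 a⟩ = ψ₃ n₃ :=
    hβ₂e ⟨φ r, h r⟩ ⟨φ r, hn₂mem⟩ n₃ ⟨β₁ a, hβ₁Q0 a⟩ hφr rfl hn₃ hb1
  rw [hβe]
  exact hb2

variable [Finite S]

theorem prB_inv (F : FusionSystem S) {Phat : Subgroup Ω} {Θ : Subgroup (MulAut Phat)}
    (hPS : Phat ≤ S) (hΘ2 : Inn Phat ≤ Θ) {P : Subgroup Ω} {φ : P →* Ω}
    (h1 : PrB F Phat Θ P φ) (ψ : φ.range →* Ω) (hψ : ψ ∈ F.Hom φ.range)
    (hψe : ∀ x : P, ψ ⟨φ x, ⟨x, rfl⟩⟩ = (x : Ω)) : PrB F Phat Θ φ.range ψ := by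
  intro P₂ P₁ hP₂ hc himg ψ₂ ψ₁ hψ₂ hψ₁
  obtain ⟨hle, himg'⟩ := img_inv' hψe hP₂
  rw [himg] at hle himg'
  have hc₁ : F.IsConj Phat P₁ := by
    rw [← himg]
    exact isConj_trans F hc (isConj_img F hψ hP₂)
  obtain ⟨β, hβ, hβQ0, hβe⟩ := h1 P₁ P₂ hle hc₁ himg' ψ₁ ψ₂ hψ₁ hψ₂
  have hβr := range_eq_of_forall_mem F hβ hβQ0
  obtain ⟨β', hβ', hβ'e, hβ'r, -⟩ := inv_hom F hβ hβr
  refine ⟨β', hβ', ?_, ?_⟩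
  · intro a
    have h2 : β' a ∈ β'.range := ⟨a, rfl⟩
    rw [hβ'r] at h2
    exact h2
  · intro y n₂ n₁ a' hy hn₂ hn₁ ha'
    have hψy : ψ y ∈ P₁ := by
      rw [← himg]
      exact apply_mem_img ψ hy
    have hr : ψ y ∈ P := hle hψy
    have hφr : φ ⟨ψ y, hr⟩ = y := by
      obtain ⟨x, hx⟩ := y.2
      have hy' : y = ⟨φ x, ⟨x, rfl⟩⟩ := Subtype.ext hx.symm
      have h2 : ψ y = x := by
        rw [hy']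
        exact hψe x
      have h3 : (⟨ψ y, hr⟩ : P) = x := Subtype.ext h2
      rw [h3, hx]
    have hψ₁n₁ : ψ₁ n₁ ∈ Phat := by
      have h2 := apply_mem_img ψ₁ (x := n₁) (P := P₁) (by rw [hn₁]; exact hψy)
      rw [hψ₁.2.2] at h2
      exact h2
    have hb := hβe ⟨ψ y, hr⟩ n₁ n₂ ⟨ψ₁ n₁, le_Q0 hPS hΘ2 hψ₁n₁⟩ hψy hn₁
      (hn₂.trans hφr.symm) rfl
    have hmem : β ⟨ψ₁ n₁, le_Q0 hPS hΘ2 hψ₁n₁⟩ ∈ Q0 S Phat Θ := hβQ0 _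
    have h4 : a' = ⟨β ⟨ψ₁ n₁, le_Q0 hPS hΘ2 hψ₁n₁⟩, hmem⟩ := Subtype.ext (ha'.trans hb.symm)
    rw [h4]
    exact hβ'e _ hmem

variable {p : ℕ} [Fact p.Prime]

theorem prB_good (hS : IsPGroup p S) (F : FusionSystem S) {Phat : Subgroup Ω}
    {Θ : Subgroup (MulAut Phat)} (st : Setup p F Phat Θ) (hng : ¬ Good p F Phat)
    {R : Subgroup Ω} {φ : R →* Ω} (hR : Good p F R) (hφ : φ ∈ F.Hom R) :
    PrB F Phat Θ R φ := by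
  rintro P₁ P₂ hP₁R hc himg ψ₁ ψ₂ ⟨hψ₁, hψ₁N, hψ₁P⟩ ⟨hψ₂, hψ₂N, hψ₂P⟩
  have hRS : R ≤ S := hom_le F hφ
  have hP₁ne : P₁ ≠ R := by
    rintro rfl
    exact hng (Good.of_isConj (isConj_symm F hc) hR)
  have hlt : P₁ < R := lt_of_le_of_ne hP₁R hP₁ne
  obtain ⟨g, hgR, hgN, hgP⟩ := exists_normalizes_not_mem hS hRS hlt
  obtain ⟨Q₁, hQ₁def⟩ : ∃ Q₁, Q₁ = R ⊓ normalizerIn S P₁ := ⟨_, rfl⟩
  have hQ₁R : Q₁ ≤ R := by rw [hQ₁def]; exact inf_le_left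
  have hQ₁N : Q₁ ≤ normalizerIn S P₁ := by rw [hQ₁def]; exact inf_le_right
  have hP₁S : P₁ ≤ S := hP₁R.trans hRS
  have hP₁Q₁ : P₁ ≤ Q₁ := by rw [hQ₁def]; exact le_inf hP₁R (self_le_normalizerIn' hP₁S)
  have hgQ₁ : g ∈ Q₁ := by
    rw [hQ₁def]
    exact ⟨hgR, hRS hgR, hgN⟩
  have hQ₁S : Q₁ ≤ S := hQ₁R.trans hRS
  haveI : Finite Q₁ := finite_of_le hQ₁S
  have hcP : Nat.card P₁ = Nat.card Phat := card_eq_of_isConj F hc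
  have hcard0 : Nat.card P₁ < Nat.card Q₁ := card_lt_of_not_mem' hP₁Q₁ hgQ₁ hgP
  have hcard : Nat.card Phat < Nat.card Q₁ := by omega
  -- the restrictions of `φ` and `ψ₁` to `Q₁`
  obtain ⟨φ₁, hφ₁def⟩ : ∃ φ₁ : Q₁ →* Ω, φ₁ = φ.comp (Subgroup.inclusion hQ₁R) := ⟨_, rfl⟩
  have hφ₁ : φ₁ ∈ F.Hom Q₁ := by rw [hφ₁def]; exact restrict_mem F hφ hQ₁R
  have hφ₁e : ∀ q : Q₁, φ₁ q = φ (Subgroup.inclusion hQ₁R q) := fun q => by rw [hφ₁def]; rfl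
  have himg₁ : img φ₁ P₁ = P₂ := by
    rw [hφ₁def, img_restrict hQ₁R φ hP₁Q₁]
    exact himg
  have hφ₁N : ∀ q : Q₁, φ₁ q ∈ normalizerIn S P₂ := by
    intro q
    have h1 := hom_maps_normalizer F hφ₁ hQ₁N q
    rw [himg₁] at h1
    exact h1
  obtain ⟨μ, hμdef⟩ : ∃ μ : Q₁ →* Ω, μ = ψ₁.comp (Subgroup.inclusion hQ₁N) := ⟨_, rfl⟩
  have hμ : μ ∈ F.Hom Q₁ := by rw [hμdef]; exact restrict_mem F hψ₁ hQ₁N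
  have hμe : ∀ q : Q₁, μ q = ψ₁ (Subgroup.inclusion hQ₁N q) := fun q => by rw [hμdef]; rfl
  have hμP : img μ P₁ = Phat := by
    rw [hμdef, img_restrict hQ₁N ψ₁ hP₁Q₁]
    exact hψ₁P
  obtain ⟨ν, hν, hνe, hνr, -⟩ := inv_hom F hμ rfl
  have hνQ₁ : ∀ y, ν y ∈ Q₁ := by
    intro y
    have h1 : ν y ∈ ν.range := ⟨y, rfl⟩
    rw [hνr] at h1
    exact h1
  obtain ⟨ω₁, hω₁, hω₁e⟩ := comp_hom F hν hφ₁ hνQ₁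
  have hω₁N : ∀ y, ω₁ y ∈ normalizerIn S P₂ := fun y => by rw [hω₁e]; exact hφ₁N _
  obtain ⟨ω, hω, hωe⟩ := comp_hom F hω₁ hψ₂ hω₁N
  have hPμ : Phat ≤ μ.range := hμP.ge.trans (img_le_range μ P₁)
  have hμN : μ.range ≤ normalizerIn S Phat := by
    rintro _ ⟨q, rfl⟩
    rw [hμe]
    exact hψ₁N _
  have hcμ : Nat.card μ.range = Nat.card Q₁ := card_range_eq F hμ
  have hνP : img ν Phat = P₁ := by
    have h2 := img_inv hνe hP₁Q₁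
    rw [hμP] at h2
    exact h2
  have hωP : img ω Phat = Phat := by
    rw [img_comp hω₁N hωe Phat, img_comp hνQ₁ hω₁e Phat, hνP, himg₁, hψ₂P]
  obtain ⟨β, hβ, hβQ0, hβe⟩ := lemmaT' hS F st _ μ.range ω rfl hPμ hμN (by omega) hω
    (fun y => by rw [hωe]; exact hψ₂N _) hωP
  refine ⟨β, hβ, hβQ0, ?_⟩
  intro r n₁ n₂ a hr hn₁ hn₂ ha
  have hq₁ : (r : Ω) ∈ Q₁ := hP₁Q₁ hr
  have hμr : μ ⟨r, hq₁⟩ = ψ₁ n₁ := by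
    rw [hμe]
    congr 1
    exact Subtype.ext hn₁.symm
  have hμrP : μ ⟨r, hq₁⟩ ∈ Phat := by
    have h3 := apply_mem_img μ (x := ⟨r, hq₁⟩) (P := P₁) hr
    rw [hμP] at h3
    exact h3
  have hy : β a = ω ⟨μ ⟨r, hq₁⟩, ⟨⟨r, hq₁⟩, rfl⟩⟩ :=
    hβe a ⟨μ ⟨r, hq₁⟩, ⟨⟨r, hq₁⟩, rfl⟩⟩ (ha.trans hμr.symm) hμrP
  have h4 : ν ⟨μ ⟨r, hq₁⟩, ⟨⟨r, hq₁⟩, rfl⟩⟩ = (r : Ω) := hνe ⟨r, hq₁⟩ _
  have h5 : (⟨ν ⟨μ ⟨r, hq₁⟩, ⟨⟨r, hq₁⟩, rfl⟩⟩, hνQ₁ _⟩ : Q₁) = ⟨r, hq₁⟩ := Subtype.ext h4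
  have h6 : ω₁ ⟨μ ⟨r, hq₁⟩, ⟨⟨r, hq₁⟩, rfl⟩⟩ = φ r := by
    rw [hω₁e, h5, hφ₁e]
    rfl
  have h7 : (⟨ω₁ ⟨μ ⟨r, hq₁⟩, ⟨⟨r, hq₁⟩, rfl⟩⟩, hω₁N _⟩ : normalizerIn S P₂) = n₂ :=
    Subtype.ext (h6.trans hn₂.symm)
  rw [hy, hωe, h7]

/-- every map of the system satisfies the second predicate -/
theorem extend_all (hS : IsPGroup p S) (F : FusionSystem S)
    (hgen' : ∀ E : FusionSystem S, (∀ P, Good p F P → F.Hom P ⊆ E.Hom P) → F ≤ E)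
    {Phat : Subgroup Ω} {Θ : Subgroup (MulAut Phat)} (st : Setup p F Phat Θ)
    (hng : ¬ Good p F Phat) (hPS : Nat.card Phat < Nat.card S) :
    ∀ (R : Subgroup Ω) (φ : R →* Ω), φ ∈ F.Hom R → PrB F Phat Θ R φ := by
  have hSg : Good p F S := st.hlarge S le_rfl hPS
  exact pred_of_gen F (Good p F) hgen' (PrB F Phat Θ)
    (fun {P g} hP hg => by
      have h1 := prB_good hS F st hng hSg (F.conj_mem le_rfl hg)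
      have h2 := prB_restrict h1 hP
      have h3 : (conjHom S g).comp (Subgroup.inclusion hP) = conjHom P g := by
        ext x
        rfl
      rw [h3] at h2
      exact h2)
    (fun hφ _ h1 h2 h => prB_comp F st.hA hφ h1 h2 h)
    (fun _ h1 ψ hψ hψe => prB_inv F st.hfn.1 st.hΘ2 h1 ψ hψ hψe)
    (fun P φ hP hφ => prB_good hS F st hng hP hφ)

omit [Finite S] [Fact p.Prime] in
theorem exists_extend_aut {F : FusionSystem S} {Phat : Subgroup Ω} {Θ : Subgroup (MulAut Phat)}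
    (hall : ∀ (R : Subgroup Ω) (φ : R →* Ω), φ ∈ F.Hom R → PrB F Phat Θ R φ) (hPS : Phat ≤ S)
    {α : MulAut Phat} (hα : α ∈ F.autGroup Phat) :
    ∃ β ∈ F.Hom (Q0 S Phat Θ), (∀ a, β a ∈ Q0 S Phat Θ) ∧
      ∀ (a : Q0 S Phat Θ) (x : Phat), (a : Ω) = x → β a = α x := by
  have hφ := hom_of_mem_autGroup F hPS hα
  have himg : img (Phat.subtype.comp α.toMonoidHom) Phat = Phat := by
    rw [img_self]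
    ext y
    constructor
    · rintro ⟨x, rfl⟩
      exact (α x).2
    · intro hy
      refine ⟨α⁻¹ ⟨y, hy⟩, ?_⟩
      show ((α (α⁻¹ ⟨y, hy⟩) : Phat) : Ω) = y
      rw [MulAut.apply_inv_self]
  obtain ⟨β, hβ, hβQ0, hβe⟩ := hall Phat _ hφ Phat Phat le_rfl (isConj_refl F hPS) himg _ _
    (AW_self F hPS) (AW_self F hPS)
  refine ⟨β, hβ, hβQ0, fun a x hax => ?_⟩
  have hxN : (x : Ω) ∈ normalizerIn S Phat := self_le_normalizerIn' hPS x.2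
  have hαxN : ((α x : Phat) : Ω) ∈ normalizerIn S Phat := self_le_normalizerIn' hPS (α x).2
  exact hβe x ⟨x, hxN⟩ ⟨α x, hαxN⟩ a x.2 rfl rfl hax

end Cfsg.Agent.Lib.Helper2.Sat310
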