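import Cfsg.Agent.Lib.Helper2.Sat310d

/-!
# Saturation from generation (AKO I.3.10): `P̂` is fully automized and receptive
-/

set_option autoImplicit false

namespace Cfsg.Agent.Lib.Helper2.Sat310

open Cfsg Cfsg.FusionSystem Cfsg.Agent.Lib.Helper9 Cfsg.Agent.Lib.Helper2.KNorm

variable {Ω : Type*} [Group Ω] {S : Subgroup Ω}

theorem normalizes_of_conj_hom {P : Subgroup Ω} {φ : P →* Ω} {u h : Ω}
    (huN : u ∈ Subgroup.normalizer (P : Set Ω))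
    (hh : ∀ (x : P) (hx : u * (x : Ω) * u⁻¹ ∈ P), φ ⟨u * x * u⁻¹, hx⟩ = h * φ x * h⁻¹) :
    h ∈ Subgroup.normalizer ((φ.range : Subgroup Ω) : Set Ω) := by
  rw [Subgroup.mem_normalizer_iff]
  intro y
  constructor
  · rintro ⟨z, rfl⟩
    have hx : u * (z : Ω) * u⁻¹ ∈ P := (Subgroup.mem_normalizer_iff.mp huN z).mp z.2
    exact ⟨⟨_, hx⟩, hh z hx⟩
  · rintro ⟨z', hz'⟩
    have hz : u⁻¹ * (z' : Ω) * u ∈ P := conj_inv_mem_of_mem_normalizer huN z'.2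
    have e : u * (u⁻¹ * (z' : Ω) * u) * u⁻¹ = z' := by group
    have hx : u * ((⟨u⁻¹ * (z' : Ω) * u, hz⟩ : P) : Ω) * u⁻¹ ∈ P := by
      show u * (u⁻¹ * (z' : Ω) * u) * u⁻¹ ∈ P
      rw [e]
      exact z'.2
    have h1 := hh ⟨_, hz⟩ hx
    have h2 : (⟨u * ((⟨u⁻¹ * (z' : Ω) * u, hz⟩ : P) : Ω) * u⁻¹, hx⟩ : P) = z' :=
      Subtype.ext e
    rw [h2, hz'] at h1
    have h3 : y = φ ⟨_, hz⟩ := mul_left_cancel (mul_right_cancel h1)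
    rw [h3]
    exact ⟨_, rfl⟩

variable [Finite S] {p : ℕ} [Fact p.Prime]

/-- `Aut_S(Q₀) ∩ N(P̂)` is a Sylow subgroup of `Aut_F(Q₀) ∩ N(P̂)` -/
theorem isSyl_K (hS : IsPGroup p S) (F : FusionSystem S) {Phat : Subgroup Ω}
    {Θ : Subgroup (MulAut Phat)} (st : Setup p F Phat Θ) :
    IsSyl p (AS S (Q0 S Phat Θ).subtype ⊓ Stab Phat (Q0 S Phat Θ))
      (F.autGroup (Q0 S Phat Θ) ⊓ Stab Phat (Q0 S Phat Θ)) := by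
  have hPS : Phat ≤ S := st.hfn.1
  have hQ0N : Q0 S Phat Θ ≤ normalizerIn S Phat := Q0_le_normalizerIn Phat Θ
  have hPQ0 : Phat ≤ Q0 S Phat Θ := le_Q0 hPS st.hΘ2
  have hQ0S : Q0 S Phat Θ ≤ S := hQ0N.trans inf_le_left
  haveI : Finite (Q0 S Phat Θ) := finite_of_le hQ0S
  have hgood : Good p F (Q0 S Phat Θ) := st.hlarge _ hQ0S st.hΘ3
  obtain ⟨φg, hφg, hrec, hsyl⟩ := exists_goodFor hS F hgood (Stab Phat (Q0 S Phat Θ))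
  have hι : (Q0 S Phat Θ).subtype ∈ F.Hom (Q0 S Phat Θ) := subtype_mem F hQ0S
  obtain ⟨R₁, hιR₁, hNSR₁, hR₁le, χ, hχ, ψ₁, hψ₁, hψ₁e⟩ :=
    exists_extension_abs hS F hφg hι hrec hsyl
  have himgι : img (Q0 S Phat Θ).subtype Phat = Phat := img_subtype hPQ0
  have hR₁S : R₁ ≤ S := hom_le F hψ₁
  have hR₁N : R₁ ≤ normalizerIn S Phat := by
    refine hR₁le.trans (sup_le ?_ ?_)
    · have h1 := NS_Stab_le (S := S) (Q0 S Phat Θ).subtype Phat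
      rw [himgι] at h1
      exact h1
    · rintro _ ⟨x, rfl⟩
      exact hQ0N x.2
  have hNR₁ : normalizerIn S Phat ≤ R₁ := by
    intro g hg
    apply hNSR₁
    apply mem_NS_Stab (Q0 S Phat Θ).subtype_injective hg.1
    · rw [Subgroup.range_subtype]
      exact normalizerIn_le_normalizer_Q0 F hPS st.hΘ1 hg
    · rw [himgι]
      exact hg.2
  have hP₃ : img ψ₁ Phat = img φg Phat := by
    have h1 := img_of_twist (ψ := ψ₁) (φ := (Q0 S Phat Θ).subtype) (φg := φg) (P := Phat)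
      hχ.2 hιR₁ hψ₁e
    rw [himgι] at h1
    exact h1
  have hclaim : ∀ α ∈ AS S φg ⊓ Stab Phat (Q0 S Phat Θ),
      χ⁻¹ * α * χ ∈ AS S (Q0 S Phat Θ).subtype ⊓ Stab Phat (Q0 S Phat Θ) := by
    rintro α ⟨⟨g, hgS, hg⟩, hαK⟩
    have hα'K : χ⁻¹ * α * χ ∈ Stab Phat (Q0 S Phat Θ) :=
      Subgroup.mul_mem _ (Subgroup.mul_mem _ (Subgroup.inv_mem _ hχ.2) hαK) hχ.2
    refine ⟨?_, hα'K⟩
    have hgN : g ∈ normalizerIn S (img ψ₁ Phat) := by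
      rw [hP₃]
      exact NS_Stab_le φg Phat ⟨hgS, α, hαK, hg⟩
    obtain ⟨m, hm⟩ := surj_normalizer F st.hfn hψ₁ hR₁N hNR₁ hgN
    refine ⟨m, hR₁S m.2, fun x => ?_⟩
    have hxR : ((Q0 S Phat Θ).subtype x) ∈ R₁ := hιR₁ ⟨x, rfl⟩
    have hx'R : ((Q0 S Phat Θ).subtype ((χ⁻¹ * α * χ) x)) ∈ R₁ := hιR₁ ⟨_, rfl⟩
    have e1 : ψ₁ ⟨_, hx'R⟩ = φg (χ ((χ⁻¹ * α * χ) x)) := hψ₁e _ hx'R
    have e2 : ψ₁ ⟨_, hxR⟩ = φg (χ x) := hψ₁e x hxR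
    have e3 : χ ((χ⁻¹ * α * χ) x) = α (χ x) := by
      show χ (χ⁻¹ (α (χ x))) = α (χ x)
      rw [MulAut.apply_inv_self]
    have h1 : ψ₁ ⟨_, hx'R⟩ = ψ₁ (m * ⟨_, hxR⟩ * m⁻¹) := by
      rw [map_mul, map_mul, map_inv, e1, e2, e3, hm, hg]
    have h2 := F.injective_of_mem hψ₁ h1
    exact congrArg (fun r : R₁ => (r : Ω)) h2
  have hTH : AS S (Q0 S Phat Θ).subtype ⊓ Stab Phat (Q0 S Phat Θ) ≤
      F.autGroup (Q0 S Phat Θ) ⊓ Stab Phat (Q0 S Phat Θ) :=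
    inf_le_inf_right _ (AS_le_autGroup F hι)
  have hTp : IsPGroup p ↥(AS S (Q0 S Phat Θ).subtype ⊓ Stab Phat (Q0 S Phat Θ)) :=
    (isPGroup_AS hS (Q0 S Phat Θ).subtype_injective).to_le inf_le_left
  apply IsSyl.of_card_le hTH hTp
  intro U _ hUH hUp
  refine (hsyl.card_le hUH hUp).trans ?_
  apply Nat.card_le_card_of_injective
    (fun α : ↥(AS S φg ⊓ Stab Phat (Q0 S Phat Θ)) =>
      (⟨χ⁻¹ * α * χ, hclaim α α.2⟩ : ↥(AS S (Q0 S Phat Θ).subtype ⊓ Stab Phat (Q0 S Phat Θ))))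
  intro α β hαβ
  have h2 : χ⁻¹ * (α : MulAut (Q0 S Phat Θ)) * χ = χ⁻¹ * (β : MulAut (Q0 S Phat Θ)) * χ :=
    congrArg Subtype.val hαβ
  exact Subtype.ext (mul_left_cancel (mul_right_cancel h2))

/-- `P̂` is fully automized -/
theorem fullyAutomized_Phat (hS : IsPGroup p S) (F : FusionSystem S) {Phat : Subgroup Ω}
    {Θ : Subgroup (MulAut Phat)} (st : Setup p F Phat Θ)
    (hall : ∀ (R : Subgroup Ω) (φ : R →* Ω), φ ∈ F.Hom R → PrB F Phat Θ R φ) :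
    F.IsFullyAutomized p Phat := by
  have hPS : Phat ≤ S := st.hfn.1
  have hQ0N : Q0 S Phat Θ ≤ normalizerIn S Phat := Q0_le_normalizerIn Phat Θ
  have hPQ0 : Phat ≤ Q0 S Phat Θ := le_Q0 hPS st.hΘ2
  have hQ0S : Q0 S Phat Θ ≤ S := hQ0N.trans inf_le_left
  haveI : Finite (Q0 S Phat Θ) := finite_of_le hQ0S
  have hι : (Q0 S Phat Θ).subtype ∈ F.Hom (Q0 S Phat Θ) := subtype_mem F hQ0S
  have hsylK := isSyl_K hS F st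
  refine ⟨hPS, ?_⟩
  obtain ⟨ρ, hρ⟩ : ∃ ρ : ↥(F.autGroup (Q0 S Phat Θ) ⊓ Stab Phat (Q0 S Phat Θ)) →* MulAut Phat,
      ∀ γ, ρ γ = resStab hPQ0 ⟨γ.1, γ.2.2⟩ :=
    ⟨(resStab hPQ0).comp (Subgroup.inclusion inf_le_right), fun γ => rfl⟩
  apply sylow_image hsylK ρ
  · intro γ
    rw [hρ, mem_autGroup_iff F hPS]
    have h1 := hom_of_mem_autGroup F hQ0S γ.2.1
    have h2 := restrict_mem F h1 hPQ0
    have h3 : ((Q0 S Phat Θ).subtype.comp γ.1.toMonoidHom).comp (Subgroup.inclusion hPQ0) =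
        Phat.subtype.comp (resStab hPQ0 ⟨γ.1, γ.2.2⟩).toMonoidHom := by
      ext x
      rfl
    rw [← h3]
    exact h2
  · intro a ha
    obtain ⟨β, hβ, hβQ0, hβe⟩ := exists_extend_aut hall hPS ha
    have hβr := range_eq_of_forall_mem F hβ hβQ0
    obtain ⟨γ, hγ, hγe⟩ := exists_aut_of_hom F hβ hβr
    have hγK : γ ∈ Stab Phat (Q0 S Phat Θ) := by
      rw [mem_Stab]
      intro z
      constructor
      · intro hz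
        rw [hγe, hβe z ⟨z, hz⟩ rfl]
        exact (a ⟨z, hz⟩).2
      · intro hz
        have h1 := hβe (Subgroup.inclusion hPQ0 (a⁻¹ ⟨γ z, hz⟩)) (a⁻¹ ⟨γ z, hz⟩) rfl
        rw [MulAut.apply_inv_self] at h1
        have h2 : β (Subgroup.inclusion hPQ0 (a⁻¹ ⟨γ z, hz⟩)) = β z := h1.trans (hγe z)
        have h3 := F.injective_of_mem hβ h2
        rw [← h3]
        exact (a⁻¹ ⟨γ z, hz⟩).2
    refine ⟨⟨γ, hγ, hγK⟩, ?_⟩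
    rw [hρ]
    apply MulEquiv.ext
    intro x
    apply Subtype.ext
    rw [resStab_apply, hγe]
    exact hβe (Subgroup.inclusion hPQ0 x) x rfl
  · intro γ hγT
    rw [hρ, mem_autInducedBy_iff]
    obtain ⟨⟨g, hgS, hg⟩, -⟩ := hγT
    refine ⟨g, hgS, fun x => ?_⟩
    rw [resStab_apply]
    exact hg (Subgroup.inclusion hPQ0 x)
  · intro a ha
    obtain ⟨g, hgS, hg⟩ := (mem_autInducedBy_iff S Phat a).mp ha
    have hgNP : g ∈ Subgroup.normalizer (Phat : Set Ω) := mem_normalizer_of_induces a hg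
    have hgN : g ∈ normalizerIn S Phat := ⟨hgS, hgNP⟩
    have hgQ0 : g ∈ Subgroup.normalizer ((Q0 S Phat Θ : Subgroup Ω) : Set Ω) :=
      normalizerIn_le_normalizer_Q0 F hPS st.hΘ1 hgN
    have hγAS : conjAut (Q0 S Phat Θ) ⟨g, hgQ0⟩ ∈ AS S (Q0 S Phat Θ).subtype :=
      ⟨g, hgS, fun x => rfl⟩
    have hγK : conjAut (Q0 S Phat Θ) ⟨g, hgQ0⟩ ∈ Stab Phat (Q0 S Phat Θ) := by
      rw [mem_Stab]
      intro z
      exact Subgroup.mem_normalizer_iff.mp hgNP z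
    refine ⟨⟨conjAut (Q0 S Phat Θ) ⟨g, hgQ0⟩, AS_le_autGroup F hι hγAS, hγK⟩, ⟨hγAS, hγK⟩, ?_⟩
    rw [hρ]
    apply MulEquiv.ext
    intro x
    apply Subtype.ext
    rw [resStab_apply, hg]
    rfl

/-- `P̂` is receptive -/
theorem receptive_Phat (hS : IsPGroup p S) (F : FusionSystem S) {Phat : Subgroup Ω}
    {Θ : Subgroup (MulAut Phat)} (st : Setup p F Phat Θ)
    (hall : ∀ (R : Subgroup Ω) (φ : R →* Ω), φ ∈ F.Hom R → PrB F Phat Θ R φ) :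
    F.IsReceptive Phat := by
  have hPS : Phat ≤ S := st.hfn.1
  have hQ0N : Q0 S Phat Θ ≤ normalizerIn S Phat := Q0_le_normalizerIn Phat Θ
  have hPQ0 : Phat ≤ Q0 S Phat Θ := le_Q0 hPS st.hΘ2
  have hQ0S : Q0 S Phat Θ ≤ S := hQ0N.trans inf_le_left
  haveI : Finite (Q0 S Phat Θ) := finite_of_le hQ0S
  have hgood : Good p F (Q0 S Phat Θ) := st.hlarge _ hQ0S st.hΘ3
  refine ⟨hPS, ?_⟩
  intro P φ hφ hr
  have hc : F.IsConj Phat P := isConj_symm F ⟨φ, hφ, hr⟩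
  have hPle : P ≤ S := hom_le F hφ
  obtain ⟨ψP, hψP⟩ := st.hA P hc
  obtain ⟨hψPm, hψPN, hψPP⟩ := hψP
  have himg : img φ P = Phat := by
    rw [img_self]
    exact hr
  obtain ⟨β, hβ, hβQ0, hβe⟩ := hall P φ hφ P Phat le_rfl hc himg ψP _
    ⟨hψPm, hψPN, hψPP⟩ (AW_self F hPS)
  have hβr := range_eq_of_forall_mem F hβ hβQ0
  obtain ⟨ϑ, hϑ, hϑe, hϑr, -⟩ := inv_hom F hβ hβr
  have hPN : P ≤ normalizerIn S P := self_le_normalizerIn' hPle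
  have hψPz : ∀ z : P, ψP ⟨z, hPN z.2⟩ ∈ Phat := by
    intro z
    have h1 := apply_mem_img ψP (x := ⟨z, hPN z.2⟩) (P := P) z.2
    rw [hψPP] at h1
    exact h1
  have hφz : ∀ z : P, φ z ∈ Phat := fun z => hr.le ⟨z, rfl⟩
  have hβψ : ∀ z : P, β ⟨ψP ⟨z, hPN z.2⟩, hPQ0 (hψPz z)⟩ = φ z := by
    intro z
    exact hβe z ⟨z, hPN z.2⟩ ⟨φ z, self_le_normalizerIn' hPS (hφz z)⟩ _ z.2 rfl rfl rfl
  have hϑφ : ∀ z : P, ϑ ⟨φ z, hPQ0 (hφz z)⟩ = ψP ⟨z, hPN z.2⟩ := by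
    intro z
    have h1 := hϑe ⟨ψP ⟨z, hPN z.2⟩, hPQ0 (hψPz z)⟩ (hβQ0 _)
    have h2 : (⟨β ⟨ψP ⟨z, hPN z.2⟩, hPQ0 (hψPz z)⟩, hβQ0 _⟩ : Q0 S Phat Θ) =
        ⟨φ z, hPQ0 (hφz z)⟩ := Subtype.ext (hβψ z)
    rw [h2] at h1
    exact h1
  obtain ⟨φg, hφg, hrec, hsyl⟩ :=
    exists_goodFor hS F hgood (LΘ hPQ0 (autInducedBy S Phat))
  have hι : (Q0 S Phat Θ).subtype ∈ F.Hom (Q0 S Phat Θ) := subtype_mem F hQ0S
  obtain ⟨R₁, hιR₁, hNSR₁, hR₁le, χ₁, hχ₁, ψ₁, hψ₁, hψ₁e⟩ :=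
    exists_extension_abs hS F hφg hι hrec hsyl
  obtain ⟨R₂, hϑR₂, hNSR₂, hR₂le, χ₂, hχ₂, ψ₂, hψ₂, hψ₂e⟩ :=
    exists_extension_abs hS F hφg hϑ hrec hsyl
  have hLS : LΘ hPQ0 (autInducedBy S Phat) ≤ Stab Phat (Q0 S Phat Θ) := LΘ_le_Stab hPQ0 _
  have himgι : img (Q0 S Phat Θ).subtype Phat = Phat := img_subtype hPQ0
  have hϑP : img ϑ Phat = Phat := by
    ext y
    rw [mem_img]
    constructor
    · rintro ⟨a, ha, rfl⟩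
      obtain ⟨z, hz⟩ := hr.ge ha
      have h1 : a = ⟨φ z, hPQ0 (hφz z)⟩ := Subtype.ext hz.symm
      rw [h1, hϑφ]
      exact hψPz z
    · intro hy
      obtain ⟨n, hn, rfl⟩ := mem_img.mp (hψPP.ge hy)
      exact ⟨⟨φ ⟨n, hn⟩, hPQ0 (hφz _)⟩, hφz _, hϑφ ⟨n, hn⟩⟩
  have hR₁N : R₁ ≤ normalizerIn S Phat := by
    refine hR₁le.trans (sup_le ?_ ?_)
    · have h1 := (NS_mono (S := S) (Q0 S Phat Θ).subtype hLS).trans
        (NS_Stab_le (S := S) (Q0 S Phat Θ).subtype Phat)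
      rw [himgι] at h1
      exact h1
    · rintro _ ⟨x, rfl⟩
      exact hQ0N x.2
  have hNR₁ : normalizerIn S Phat ≤ R₁ := by
    intro g hg
    apply hNSR₁
    have hgQ0 : g ∈ Subgroup.normalizer ((Q0 S Phat Θ : Subgroup Ω) : Set Ω) :=
      normalizerIn_le_normalizer_Q0 F hPS st.hΘ1 hg
    refine ⟨hg.1, conjAut (Q0 S Phat Θ) ⟨g, hgQ0⟩,
      ⟨conjAut Phat ⟨g, hg.2⟩, ?_, fun x => rfl⟩, fun x => rfl⟩
    rw [mem_autInducedBy_iff]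
    exact ⟨g, hg.1, fun x => rfl⟩
  have hR₂N : R₂ ≤ normalizerIn S Phat := by
    refine hR₂le.trans (sup_le ?_ (hϑr.le.trans hQ0N))
    have h1 := (NS_mono (S := S) ϑ hLS).trans (NS_Stab_le (S := S) ϑ Phat)
    rw [hϑP] at h1
    exact h1
  have hQ0R₂ : Q0 S Phat Θ ≤ R₂ := hϑr.ge.trans hϑR₂
  have hPR₂ : Phat ≤ R₂ := hPQ0.trans hQ0R₂
  have hP₃₁ : img ψ₁ Phat = img φg Phat := by
    have h1 := img_of_twist (ψ := ψ₁) (φ := (Q0 S Phat Θ).subtype) (φg := φg) (P := Phat)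
      (hLS hχ₁.2) hιR₁ hψ₁e
    rw [himgι] at h1
    exact h1
  have hP₃₂ : img ψ₂ Phat = img φg Phat := by
    have h1 := img_of_twist (ψ := ψ₂) (φ := ϑ) (φg := φg) (P := Phat) (hLS hχ₂.2) hϑR₂ hψ₂e
    rw [hϑP] at h1
    exact h1
  have hNφ : extender S P φ ≤ normalizerIn S P := extender_le_normalizerIn P φ
  -- the image of the extender lies in `R₂`
  have hkey : ∀ (u : Ω) (hu : u ∈ extender S P φ), ψP ⟨u, hNφ hu⟩ ∈ R₂ := by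
    intro u hu
    apply hNSR₂
    obtain ⟨huS, huN, h, hhS, hh⟩ := (mem_extender_iff φ u).mp hu
    have hgN : ψP ⟨u, hNφ hu⟩ ∈ normalizerIn S Phat := hψPN _
    have hgR : ψP ⟨u, hNφ hu⟩ ∈ Subgroup.normalizer ((ϑ.range : Subgroup Ω) : Set Ω) := by
      rw [hϑr]
      exact normalizerIn_le_normalizer_Q0 F hPS st.hΘ1 hgN
    obtain ⟨α, hα⟩ := exists_pullback_conj (F.injective_of_mem hϑ) hgR
    have hhN : h ∈ Subgroup.normalizer (Phat : Set Ω) := by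
      have h1 := normalizes_of_conj_hom huN hh
      rwa [hr] at h1
    refine ⟨hgN.1, α, ⟨conjAut Phat ⟨h, hhN⟩, ?_, ?_⟩, hα⟩
    · rw [mem_autInducedBy_iff]
      exact ⟨h, hhS, fun x => rfl⟩
    · intro x
      obtain ⟨z, hz⟩ := hr.ge x.2
      have hx : u * (z : Ω) * u⁻¹ ∈ P := (Subgroup.mem_normalizer_iff.mp huN z).mp z.2
      have e1 : Subgroup.inclusion hPQ0 x = ⟨φ z, hPQ0 (hφz z)⟩ := Subtype.ext hz.symm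
      have e2 : ϑ (α (Subgroup.inclusion hPQ0 x)) =
          ψP ⟨u, hNφ hu⟩ * ψP ⟨z, hPN z.2⟩ * (ψP ⟨u, hNφ hu⟩)⁻¹ := by
        rw [hα, e1, hϑφ]
      have e3 : (⟨u, hNφ hu⟩ : normalizerIn S P) * ⟨z, hPN z.2⟩ * ⟨u, hNφ hu⟩⁻¹ =
          ⟨((⟨u * z * u⁻¹, hx⟩ : P) : Ω), hPN hx⟩ := Subtype.ext rfl
      have e4 : ψP ⟨u, hNφ hu⟩ * ψP ⟨z, hPN z.2⟩ * (ψP ⟨u, hNφ hu⟩)⁻¹ =
          ϑ ⟨φ ⟨u * z * u⁻¹, hx⟩, hPQ0 (hφz _)⟩ := by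
        rw [hϑφ, ← map_inv, ← map_mul, ← map_mul, e3]
      have e5 : φ ⟨u * z * u⁻¹, hx⟩ = h * x * h⁻¹ := by rw [hh z hx, hz]
      have e6 := F.injective_of_mem hϑ (e2.trans e4)
      have e7 := congrArg (fun a : Q0 S Phat Θ => (a : Ω)) e6
      exact e7.trans e5
  obtain ⟨ϖ, hϖ, hϖe, hϖr, -⟩ := inv_hom F hψ₁ rfl
  have hψ₂r : ∀ r : R₂, ψ₂ r ∈ ψ₁.range := by
    intro r
    have h1 := hom_maps_normalizer F hψ₂ hR₂N r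
    rw [hP₃₂, ← hP₃₁] at h1
    obtain ⟨m, hm⟩ := surj_normalizer F st.hfn hψ₁ hR₁N hNR₁ h1
    exact ⟨m, hm⟩
  obtain ⟨ω₀, hω₀, hω₀e⟩ := comp_hom F hψ₂ hϖ hψ₂r
  obtain ⟨σ, hσ, hσe⟩ := (LΘ hPQ0 (autInducedBy S Phat)).mul_mem
    ((LΘ hPQ0 (autInducedBy S Phat)).inv_mem hχ₁.2) hχ₂.2
  obtain ⟨t, htS, ht⟩ := (mem_autInducedBy_iff S Phat σ).mp hσ
  have hβP : ∀ a : Q0 S Phat Θ, (a : Ω) ∈ Phat → β a ∈ Phat := by
    intro a ha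
    obtain ⟨n, hn, hna⟩ := mem_img.mp (hψPP.ge ha)
    have h1 : a = ⟨ψP ⟨(⟨n, hn⟩ : P), hPN hn⟩, hPQ0 (hψPz ⟨n, hn⟩)⟩ := Subtype.ext hna.symm
    rw [h1, hβψ]
    exact hφz _
  have hω₀P : ∀ y : Phat,
      ω₀ ⟨y, hPR₂ y.2⟩ = t * β (Subgroup.inclusion hPQ0 y) * t⁻¹ := by
    intro y
    have hβy : β (Subgroup.inclusion hPQ0 y) ∈ Phat := hβP _ y.2
    have hx1 : ϑ ⟨β (Subgroup.inclusion hPQ0 y), hβQ0 _⟩ = (y : Ω) :=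
      hϑe (Subgroup.inclusion hPQ0 y) (hβQ0 _)
    have hx2 : ψ₂ ⟨y, hPR₂ y.2⟩ = φg (χ₂ ⟨β (Subgroup.inclusion hPQ0 y), hβQ0 _⟩) := by
      have h1 := hψ₂e ⟨β (Subgroup.inclusion hPQ0 y), hβQ0 _⟩ (by rw [hx1]; exact hPR₂ y.2)
      rw [← h1]
      congr 1
      exact Subtype.ext hx1.symm
    have hwR : (Q0 S Phat Θ).subtype (χ₁⁻¹ (χ₂ ⟨β (Subgroup.inclusion hPQ0 y), hβQ0 _⟩)) ∈ R₁ :=
      hιR₁ ⟨_, rfl⟩
    have hw := hψ₁e (χ₁⁻¹ (χ₂ ⟨β (Subgroup.inclusion hPQ0 y), hβQ0 _⟩)) hwR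
    rw [MulAut.apply_inv_self] at hw
    have hmem1 : ψ₁ ⟨_, hwR⟩ ∈ ψ₁.range := ⟨_, rfl⟩
    have h3 : (⟨ψ₂ ⟨y, hPR₂ y.2⟩, hψ₂r _⟩ : ψ₁.range) = ⟨ψ₁ ⟨_, hwR⟩, hmem1⟩ :=
      Subtype.ext (hx2.trans hw.symm)
    have h6 := hϖe _ hmem1
    rw [hω₀e, h3, h6]
    have h4 := hσe ⟨β (Subgroup.inclusion hPQ0 y), hβy⟩
    have h5 := ht ⟨β (Subgroup.inclusion hPQ0 y), hβy⟩
    exact h4.trans h5
  have hcj : conjHom S t⁻¹ ∈ F.Hom S := F.conj_mem le_rfl (S.inv_mem htS)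
  obtain ⟨ω, hω, hωe⟩ := comp_hom F hω₀ hcj (fun r => hom_mem F hω₀ r)
  have hωe' : ∀ r : R₂, ω r = t⁻¹ * ω₀ r * t⁻¹⁻¹ := fun r => hωe r
  have hψP' := restrict_mem F hψPm hNφ
  obtain ⟨ψ, hψ, hψe⟩ := comp_hom F hψP' hω (fun u => hkey u.1 u.2)
  refine ⟨ψ, hψ, ?_⟩
  intro x hP hN
  rw [hψe]
  have hx1 : ψP ⟨x, hNφ hN⟩ ∈ Phat := hψPz ⟨x, hP⟩
  have h1 : (⟨(ψP.comp (Subgroup.inclusion hNφ)) ⟨x, hN⟩, hkey x hN⟩ : R₂) =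
      ⟨((⟨ψP ⟨x, hNφ hN⟩, hx1⟩ : Phat) : Ω), hPR₂ hx1⟩ := Subtype.ext rfl
  have h2 : β (Subgroup.inclusion hPQ0 ⟨ψP ⟨x, hNφ hN⟩, hx1⟩) = φ ⟨x, hP⟩ := hβψ ⟨x, hP⟩
  rw [h1, hωe', hω₀P, h2]
  group

end Cfsg.Agent.Lib.Helper2.Sat310
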