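import Mathlib
set_option linter.style.haveILetI false

/-! Helper lemmas for S4277 (Schreier conjecture for simple groups with a subgroup of prime index). -/

namespace Cfsg.Agent.Lib.Helper2.Sch

/-- If a solvable group maps onto a subgroup of the finite group `Q` that contains every element of odd order,
then `Q` is solvable. -/
theorem solvable_of_odd_range {Q S' : Type*} [Group Q] [Finite Q] [Group S'] [Group.IsSolvable S'] (f : S' →* Q)
    (h : ∀ x : Q, Odd (orderOf x) → x ∈ f.range) : Group.IsSolvable Q := by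
  classical
  let s : Set Q := {x | Odd (orderOf x)}
  let K : Subgroup Q := Subgroup.normalClosure s
  have hKle : K ≤ f.range := by
    change Subgroup.closure (Group.conjugatesOfSet s) ≤ f.range
    rw [Subgroup.closure_le]
    intro y hy
    obtain ⟨x, hx, hxy⟩ := Group.mem_conjugatesOfSet_iff.mp hy
    apply h
    obtain ⟨c, hc⟩ := isConj_iff.mp hxy
    rw [← hc]
    have : orderOf (c * x * c⁻¹) = orderOf x := by
      have := orderOf_injective (MulAut.conj c).toMonoidHom (MulAut.conj c).injective x
      simpa [MulAut.conj_apply] using this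
    rw [this]
    exact hx
  have hKn : K.Normal := Subgroup.normalClosure_normal
  have h2 : IsPGroup 2 (Q ⧸ K) := by
    intro y
    obtain ⟨x, rfl⟩ := QuotientGroup.mk_surjective y
    have hpos : 0 < orderOf x := orderOf_pos x
    obtain ⟨a, b, hb, hab⟩ := Nat.exists_eq_two_pow_mul_odd (n := orderOf x) hpos.ne'
    refine ⟨a, ?_⟩
    rw [← QuotientGroup.mk_pow, QuotientGroup.eq_one_iff]
    apply Subgroup.subset_normalClosure
    show Odd (orderOf (x ^ 2 ^ a))
    have : orderOf (x ^ 2 ^ a) = b := by
      rw [orderOf_pow' x (by positivity), hab]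
      rw [Nat.gcd_eq_right (Dvd.intro _ rfl)]
      exact Nat.mul_div_cancel_left b (by positivity)
    rw [this]; exact hb
  haveI : Fact (Nat.Prime 2) := ⟨Nat.prime_two⟩
  haveI : Group.IsNilpotent (Q ⧸ K) := h2.isNilpotent
  haveI : Group.IsSolvable (Q ⧸ K) := inferInstance
  refine Group.isSolvable_of_ker_le_range f (QuotientGroup.mk' K) ?_
  rw [QuotientGroup.ker_mk']
  exact hKle

/-- A permutation normalizing the cyclic group generated by the translation `x ↦ x + 1` is affine. -/
theorem affine_of_normalizes {Ω : Type*} {p : ℕ} [Fact p.Prime] (e : Ω ≃ ZMod p) (σ τ : Equiv.Perm Ω)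
    (hσ : ∀ x, e (σ x) = e x + 1) (hτ : τ * σ * τ⁻¹ ∈ Subgroup.zpowers σ) :
    ∃ a b : ZMod p, ∀ x, e (τ x) = a * e x + b := by
  obtain ⟨k, hk⟩ := Subgroup.mem_zpowers_iff.mp hτ
  have hcomm : ∀ x, τ (σ x) = (σ ^ k) (τ x) := by
    intro x
    have : τ * σ = σ ^ k * τ := by rw [hk]; group
    have := congrArg (fun f : Equiv.Perm Ω => f x) this
    simpa using this
  have hpow : ∀ (k : ℤ) (y : Ω), e ((σ ^ k) y) = e y + (k : ZMod p) := by
    intro k
    induction k using Int.induction_on with
    | zero => intro y; simp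
    | succ n ih =>
      intro y
      rw [zpow_add_one, Equiv.Perm.mul_apply, ih, hσ]; push_cast; ring
    | pred n ih =>
      intro y
      have h1 : e (σ⁻¹ y) = e y - 1 := by
        have := hσ (σ⁻¹ y)
        have h2 : σ (σ⁻¹ y) = y := by simp
        rw [h2] at this
        rw [this]; ring
      rw [zpow_sub_one, Equiv.Perm.mul_apply, ih, h1]; push_cast; ring
  let g : ZMod p → ZMod p := fun y => e (τ (e.symm y))
  have hstep : ∀ y, g (y + 1) = g y + (k : ZMod p) := by
    intro y
    have h1 : e.symm (y + 1) = σ (e.symm y) := by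
      apply e.injective
      rw [hσ]; simp
    show e (τ (e.symm (y + 1))) = e (τ (e.symm y)) + (k : ZMod p)
    rw [h1, hcomm, hpow]
  have hnat : ∀ n : ℕ, g (n : ZMod p) = g 0 + (n : ZMod p) * (k : ZMod p) := by
    intro n
    induction n with
    | zero => simp
    | succ n ih => push_cast; rw [hstep, ih]; ring
  refine ⟨(k : ZMod p), g 0, fun x => ?_⟩
  have h1 : e (τ x) = g (e x) := by simp [g]
  rw [h1]
  have h2 := hnat (e x).val
  rw [ZMod.natCast_zmod_val] at h2
  rw [h2]; ring

end Cfsg.Agent.Lib.Helper2.Sch
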