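import Mathlib
import Cfsg.Agent.Lib.Helper2.Sch1
import Cfsg.Agent.Lib.Lead.BurnsidePrime2
set_option linter.style.haveILetI false

/-! For a transitive group `G` of prime degree, `N_Sym(G)/G` is solvable (Frattini argument). -/

namespace Cfsg.Agent.Lib.Helper2.Sch

open scoped Pointwise
open Cfsg.Agent.Lib.Lead.BurnsidePrime

theorem normalizer_quot_solvable {Ω : Type*} [Fintype Ω] [DecidableEq Ω] {p : ℕ} [Fact p.Prime]
    (hΩ : Fintype.card Ω = p) (G : Subgroup (Equiv.Perm Ω)) [MulAction.IsPretransitive G Ω] :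
    Group.IsSolvable (↥(Subgroup.normalizer (G : Set (Equiv.Perm Ω))) ⧸
      (G.subgroupOf (Subgroup.normalizer (G : Set (Equiv.Perm Ω))))) := by
  classical
  have hp := (Fact.out : p.Prime)
  set N : Subgroup (Equiv.Perm Ω) := Subgroup.normalizer (G : Set (Equiv.Perm Ω)) with hN
  have hGN : G ≤ N := Subgroup.le_normalizer
  set GN : Subgroup ↥N := G.subgroupOf N with hGNdef
  haveI : GN.Normal := Subgroup.normal_in_normalizer
  let P : Sylow p ↥GN := default
  let P₀ : Sylow p ↥G := default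
  have hfrat := Sylow.normalizer_sup_eq_top P
  set P' : Subgroup ↥N := (P : Subgroup ↥GN).map GN.subtype with hP'
  set A : Subgroup ↥N := Subgroup.normalizer (P' : Set ↥N) with hA
  -- order of P
  have hcardP : Nat.card (P : Subgroup ↥GN) = p := by
    have h1 : Nat.card (P₀ : Subgroup ↥G) = p := card_sylow_eq hΩ G P₀
    have h2 := P₀.card_eq_multiplicity
    have h3 := P.card_eq_multiplicity
    have h4 : Nat.card ↥GN = Nat.card ↥G := Nat.card_congr (Subgroup.subgroupOfEquivOfLe hGN).toEquiv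
    rw [h4] at h3
    rw [h3, ← h2, h1]
  set P'' : Subgroup (Equiv.Perm Ω) := P'.map N.subtype with hP''
  have hcardP'' : Nat.card ↥P'' = p := by
    rw [hP'', Subgroup.card_map_of_injective N.subtype_injective, hP',
      Subgroup.card_map_of_injective GN.subtype_injective, hcardP]
  -- a generator
  have hne : P'' ≠ ⊥ := by
    intro h
    rw [h, Subgroup.card_bot] at hcardP''
    exact hp.one_lt.ne hcardP''
  obtain ⟨σ, hσP⟩ := (Subgroup.ne_bot_iff_exists_ne_one.mp hne)
  have hσ1' : (σ : Equiv.Perm Ω) ≠ 1 := fun h => hσP (Subtype.ext h)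
  have hgen : ∀ x ∈ P'', x ∈ Subgroup.zpowers (σ : Equiv.Perm Ω) := by
    intro x hx
    have := mem_zpowers_of_prime_card (G := ↥P'') hcardP'' (g := σ) (g' := ⟨x, hx⟩) hσP
    obtain ⟨k, hk⟩ := Subgroup.mem_zpowers_iff.mp this
    refine Subgroup.mem_zpowers_iff.mpr ⟨k, ?_⟩
    have := congrArg Subtype.val hk
    simpa using this
  have hord : orderOf (σ : Equiv.Perm Ω) = p := by
    have h1 : orderOf σ ∣ p := by
      have := orderOf_dvd_natCard σ
      rwa [hcardP''] at this
    rcases (Nat.dvd_prime hp).mp h1 with h | h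
    · exact absurd (orderOf_eq_one_iff.mp h) hσP
    · rw [Subgroup.orderOf_coe]; exact h
  obtain ⟨e, he⟩ := exists_equiv_of_orderOf hΩ (σ : Equiv.Perm Ω) hord
  -- σ as an element of P'
  obtain ⟨s, hsP', hsσ⟩ := Subgroup.mem_map.mp σ.2
  -- A is solvable
  have hAsolv : Group.IsSolvable ↥A := by
    set A' : Subgroup (Equiv.Perm Ω) := A.map N.subtype with hA'
    haveI : Group.IsSolvable ↥A' := by
      apply solvable_of_affine' A' e
      rintro τ ⟨a, ha, rfl⟩
      apply affine_of_normalizes e (σ : Equiv.Perm Ω) _ he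
      apply hgen
      have h1 : a * s * a⁻¹ ∈ P' := (Subgroup.mem_normalizer_iff.mp ha s).mp hsP'
      refine Subgroup.mem_map.mpr ⟨a * s * a⁻¹, h1, ?_⟩
      simp [← hsσ]
    exact Group.isSolvable_of_isSolvable_injective
      (f := (A.equivMapOfInjective N.subtype N.subtype_injective).toMonoidHom)
      (A.equivMapOfInjective N.subtype N.subtype_injective).injective
  haveI := hAsolv
  refine Group.isSolvable_of_surjective (f := (QuotientGroup.mk' GN).comp A.subtype) ?_
  intro y
  obtain ⟨n, rfl⟩ := QuotientGroup.mk_surjective y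
  have hn : n ∈ ((A ⊔ GN : Subgroup ↥N) : Set ↥N) := by
    rw [hfrat]; exact Subgroup.mem_top n
  rw [Subgroup.mul_normal] at hn
  obtain ⟨a, ha, g, hg, rfl⟩ := Set.mem_mul.mp hn
  refine ⟨⟨a, ha⟩, ?_⟩
  show (QuotientGroup.mk a : ↥N ⧸ GN) = QuotientGroup.mk (a * g)
  rw [QuotientGroup.eq]
  simpa using hg

end Cfsg.Agent.Lib.Helper2.Sch
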