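import Mathlib
import Cfsg.Prelude.Def_KGroupFacts
import Cfsg.Agent.Lib.Helper2.Sch2
import Cfsg.Agent.S0675
set_option linter.style.haveILetI false

/-! Schreier conjecture for a simple group with a subgroup of prime index, from Burnside's prime-degree
theorem (S0675) and the statement of S4290 (taken as a hypothesis here). -/

namespace Cfsg.Agent.Lib.Helper2.Sch

universe u

/-- The statement of S4290. -/
def Hyp4290 : Prop :=
  ∀ {Ω : Type u} [Fintype Ω] (G : Subgroup (Equiv.Perm Ω)) (_ : MulAction.IsMultiplyPretransitive G Ω 2) (o : Ω)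
    (_ : (Nat.card (MulAction.stabilizer G o)).Coprime (MulAction.stabilizer G o).index) (α : MulAut G)
    (_ : Odd (orderOf α)),
    ∃ σ : Equiv.Perm Ω, σ ∈ Subgroup.normalizer (G : Set (Equiv.Perm Ω)) ∧
      ∀ g : G, ((α g : G) : Equiv.Perm Ω) = σ * (g : Equiv.Perm Ω) * σ⁻¹

/-- the automorphism group of a commutative simple group is commutative -/
theorem mulAut_comm_of_comm {G : Type*} [Group G] [IsSimpleGroup G] (hcomm : ∀ a b : G, a * b = b * a)
    (a b : MulAut G) : a * b = b * a := by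
  obtain ⟨g₀, hg₀⟩ := exists_ne (1 : G)
  have hn : (Subgroup.zpowers g₀).Normal :=
    ⟨fun n hn g => by rw [hcomm g n, mul_inv_cancel_right]; exact hn⟩
  have htop : Subgroup.zpowers g₀ = ⊤ := by
    rcases hn.eq_bot_or_eq_top with h | h
    · exact absurd (Subgroup.zpowers_eq_bot.mp h) hg₀
    · exact h
  haveI : IsCyclic G := ⟨g₀, fun x => Subgroup.mem_zpowers_iff.mp (htop ▸ Subgroup.mem_top x)⟩
  obtain ⟨m, hm⟩ := MonoidHom.map_cyclic a.toMonoidHom
  obtain ⟨n, hn⟩ := MonoidHom.map_cyclic b.toMonoidHom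
  ext x
  have h1 : (a * b) x = a (b x) := rfl
  have h2 : (b * a) x = b (a x) := rfl
  have ha : ∀ y, a y = y ^ m := hm
  have hb : ∀ y, b y = y ^ n := hn
  rw [h1, h2, ha, hb, ha, hb, ← zpow_mul, ← zpow_mul, mul_comm]

theorem out_solvable (h4290 : Hyp4290.{u}) {G : Type u} [Group G] [Finite G] [IsSimpleGroup G]
    (H : Subgroup G) (hH : H.index.Prime) : Group.IsSolvable (Cfsg.Out G) := by
  classical
  set p := H.index with hp
  haveI : Fact p.Prime := ⟨hH⟩
  haveI : Fintype (G ⧸ H) := Fintype.ofFinite (G ⧸ H)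
  have hΩ : Fintype.card (G ⧸ H) = p := by
    rw [← Nat.card_eq_fintype_card]; exact (Subgroup.index_eq_card H).symm
  let φ : G →* Equiv.Perm (G ⧸ H) := MulAction.toPermHom G (G ⧸ H)
  have hφ : Function.Injective φ := by
    rw [← MonoidHom.ker_eq_bot_iff]
    rcases (inferInstance : φ.ker.Normal).eq_bot_or_eq_top with h | h
    · exact h
    · exfalso
      have h1 : φ.ker ≤ H := by
        rw [← Subgroup.normalCore_eq_ker]; exact Subgroup.normalCore_le H
      rw [h] at h1
      have h2 := top_le_iff.mp h1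
      rw [hp, h2, Subgroup.index_top] at hH
      exact Nat.not_prime_one hH
  set Ĝ : Subgroup (Equiv.Perm (G ⧸ H)) := φ.range with hĜ
  let e : G ≃* Ĝ := MonoidHom.ofInjective hφ
  haveI : MulAction.IsPretransitive Ĝ (G ⧸ H) := ⟨fun x y => by
    obtain ⟨g, hg⟩ := MulAction.exists_smul_eq G x y
    exact ⟨⟨φ g, g, rfl⟩, hg⟩⟩
  rcases Cfsg.Agent.S0675.result (hΩ ▸ hH) Ĝ with hsolv | h2
  · -- solvable case
    haveI := hsolv
    haveI : Group.IsSolvable G :=
      Group.isSolvable_of_isSolvable_injective (f := e.toMonoidHom) e.injective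
    have hcomm : ∀ a b : G, a * b = b * a := IsSimpleGroup.comm_iff_isSolvable.mpr inferInstance
    haveI : Group.IsSolvable (MulAut G) := Group.isSolvable_of_comm (mulAut_comm_of_comm hcomm)
    exact Group.isSolvable_of_surjective (QuotientGroup.mk'_surjective (Cfsg.Inn G))
  · -- doubly transitive case
    have hpp : p.Prime := hH
    let o : G ⧸ H := QuotientGroup.mk 1
    have hHall : (Nat.card (MulAction.stabilizer Ĝ o)).Coprime (MulAction.stabilizer Ĝ o).index := by
      have hidx : (MulAction.stabilizer Ĝ o).index = p := by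
        rw [MulAction.index_stabilizer_of_transitive, Nat.card_eq_fintype_card, hΩ]
      rw [hidx]
      apply Nat.Coprime.symm
      rw [Nat.Prime.coprime_iff_not_dvd hpp]
      intro hdvd
      have h1 : Nat.card (MulAction.stabilizer Ĝ o) * p = Nat.card Ĝ := by
        rw [← hidx]; exact Subgroup.card_mul_index _
      have h2 : Nat.card Ĝ ∣ p.factorial := by
        have := Subgroup.card_subgroup_dvd_card Ĝ
        have hc : Nat.card (G ⧸ H) = p := by rw [Nat.card_eq_fintype_card, hΩ]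
        rwa [Nat.card_perm, hc] at this
      have h3 : p * p ∣ p.factorial := by
        refine dvd_trans ?_ h2
        rw [← h1]; exact Nat.mul_dvd_mul_right hdvd p
      obtain ⟨k, hk⟩ : ∃ k, p = k + 1 := ⟨p - 1, (Nat.succ_pred_eq_of_pos hpp.pos).symm⟩
      rw [hk, Nat.factorial_succ] at h3
      have h4 : k + 1 ∣ k.factorial := Nat.dvd_of_mul_dvd_mul_left (Nat.succ_pos k) h3
      have h5 := (Nat.Prime.dvd_factorial (hk ▸ hpp)).mp h4
      omega
    set N : Subgroup (Equiv.Perm (G ⧸ H)) := Subgroup.normalizer (Ĝ : Set (Equiv.Perm (G ⧸ H))) with hN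
    have hGN : Ĝ ≤ N := Subgroup.le_normalizer
    set GN : Subgroup ↥N := Ĝ.subgroupOf N with hGNdef
    haveI : GN.Normal := Subgroup.normal_in_normalizer
    haveI hsolvQ : Group.IsSolvable (↥N ⧸ GN) := normalizer_quot_solvable hΩ Ĝ
    let e' : ↥GN ≃* G := (Subgroup.subgroupOfEquivOfLe hGN).trans e.symm
    have he' : ∀ x : ↥GN, φ (e' x) = ((x : ↥N) : Equiv.Perm (G ⧸ H)) := by
      intro x
      show φ (e.symm (Subgroup.subgroupOfEquivOfLe hGN x)) = _
      rw [MonoidHom.apply_ofInjective_symm]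
      rfl
    let ψ : ↥N →* MulAut G := (MulAut.congr e').toMonoidHom.comp MulAut.conjNormal
    have hψ : ∀ (n : ↥N) (g : G), φ (ψ n g) = (n : Equiv.Perm (G ⧸ H)) * φ g * (n : Equiv.Perm (G ⧸ H))⁻¹ := by
      intro n g
      show φ (e' ((MulAut.conjNormal n : MulAut ↥GN) (e'.symm g))) = _
      rw [he']
      have h1 : (((MulAut.conjNormal n : MulAut ↥GN) (e'.symm g) : ↥GN) : ↥N) = n * (e'.symm g : ↥N) * n⁻¹ :=
        MulAut.conjNormal_apply n (e'.symm g)
      rw [h1]
      have h2 := he' (e'.symm g)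
      rw [MulEquiv.apply_symm_apply] at h2
      simp [h2]
    let ρ : ↥N →* Cfsg.Out G := (QuotientGroup.mk' (Cfsg.Inn G)).comp ψ
    have hker : GN ≤ ρ.ker := by
      intro n hn
      rw [MonoidHom.mem_ker]
      show (QuotientGroup.mk (ψ n) : Cfsg.Out G) = 1
      rw [QuotientGroup.eq_one_iff]
      have hn' : (n : Equiv.Perm (G ⧸ H)) ∈ Ĝ := Subgroup.mem_subgroupOf.mp hn
      obtain ⟨h, hh⟩ := hn'
      refine ⟨h, ?_⟩
      ext g
      apply hφ
      rw [hψ, ← hh]
      simp [MulAut.conj_apply]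
    let f : ↥N ⧸ GN →* Cfsg.Out G := QuotientGroup.lift GN ρ hker
    apply solvable_of_odd_range f
    intro x hx
    obtain ⟨α, rfl⟩ := QuotientGroup.mk_surjective x
    have hpos : 0 < orderOf α := orderOf_pos α
    obtain ⟨a, b, hb, hab⟩ := Nat.exists_eq_two_pow_mul_odd (n := orderOf α) hpos.ne'
    set β : MulAut G := α ^ 2 ^ a with hβ
    have hβord : orderOf β = b := by
      rw [hβ, orderOf_pow' α (by positivity), hab, Nat.gcd_eq_right (Dvd.intro _ rfl)]
      exact Nat.mul_div_cancel_left b (by positivity)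
    set β' : MulAut Ĝ := MulAut.congr e β with hβ'
    have hβ'ord : Odd (orderOf β') := by
      rw [hβ', MulEquiv.orderOf_eq, hβord]; exact hb
    obtain ⟨σ, hσN, hσ⟩ := h4290 Ĝ h2 o hHall β' hβ'ord
    have hψσ : ψ ⟨σ, hσN⟩ = β := by
      ext g
      apply hφ
      rw [hψ]
      have h1 := hσ (e g)
      have h2 : β' (e g) = e (β g) := by
        show e (β (e.symm (e g))) = _
        rw [MulEquiv.symm_apply_apply]
      rw [h2] at h1
      have h3 : ∀ y : G, ((e y : Ĝ) : Equiv.Perm (G ⧸ H)) = φ y := fun y => rfl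
      rw [h3, h3] at h1
      exact h1.symm
    have hmem : (QuotientGroup.mk β : Cfsg.Out G) ∈ f.range :=
      ⟨QuotientGroup.mk ⟨σ, hσN⟩, by
        show (QuotientGroup.mk (ψ ⟨σ, hσN⟩) : Cfsg.Out G) = _
        rw [hψσ]⟩
    have hcop : Nat.Coprime (2 ^ a) (orderOf (QuotientGroup.mk α : Cfsg.Out G)) :=
      Nat.Coprime.pow_left a (Nat.coprime_two_left.mpr hx)
    obtain ⟨m, hm⟩ := exists_pow_eq_self_of_coprime hcop
    rw [← hm]
    apply pow_mem
    have : (QuotientGroup.mk α : Cfsg.Out G) ^ 2 ^ a = QuotientGroup.mk β := by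
      rw [hβ]; rfl
    rw [this]
    exact hmem

end Cfsg.Agent.Lib.Helper2.Sch
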