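import Mathlib
import Cfsg.Prelude.Def_Local
import Cfsg.Agent.Lib.Lead.SchSyl
import Cfsg.Agent.Lib.Helper1.PConstrainedOfPSolvable
import Cfsg.Agent.Lib.Helper1.PSolvSub
import Cfsg.Agent.Lib.Helper1.CoprimeGenCentralizers
import Cfsg.Agent.Lib.Helper1.PCore
import Cfsg.Agent.Lib.Helper2.HHDual
import Cfsg.Agent.Lib.Helper2.Cores

/-!
# S4394, piece M: a Sylow `p`-subgroup with the Schmidt–Sylow property is normal
in a `p`-solvable group with trivial `p'`-core (modulo the cyclic-quotient case M-c,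
taken as a hypothesis).
-/

set_option autoImplicit false
set_option linter.style.haveILetI false

open scoped commutatorElement

universe u v

namespace Cfsg.Agent.Lib.Helper2.SchSylM

open Cfsg Cfsg.Agent.Lib.Lead.SchSyl Cfsg.Agent.Lib.Helper1 Cfsg.Agent.Lib.Helper2
  Cfsg.Agent.Lib.Helper1.PSolvSub

/-- If `C_G(O_p(G)) ≤ O_p(G)` then every subgroup containing `O_p(G)` has trivial `p'`-core. -/
theorem pPrimeCore_subgroup_eq_bot {G : Type*} [Group G] [Finite G] {p : ℕ} [Fact p.Prime]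
    (hC : Subgroup.centralizer (pCore p G : Set G) ≤ pCore p G) (H : Subgroup G)
    (hQH : pCore p G ≤ H) : pPrimeCore p ↥H = ⊥ := by
  obtain ⟨N, hN⟩ : ∃ N, N = pPrimeCore p ↥H := ⟨_, rfl⟩
  rw [← hN]
  have hNn : N.Normal := by rw [hN]; exact (pPrimeCore_mem p).1
  have hNc : (Nat.card N).Coprime p := by rw [hN]; exact pPrimeCore_card_coprime p
  have hQn : (pCore p G).Normal := (pCore_mem p).1
  obtain ⟨Q', hQ'⟩ : ∃ Q', Q' = (pCore p G).subgroupOf H := ⟨_, rfl⟩
  have hQ'n : Q'.Normal := by rw [hQ']; infer_instance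
  have hQ'p : IsPGroup p Q' := by rw [hQ']; exact (pCore_isPGroup p).comap_subtype
  have hinf : N ⊓ Q' = ⊥ := by
    apply Subgroup.inf_eq_bot_of_coprime
    obtain ⟨k, hk⟩ := IsPGroup.iff_card.mp hQ'p
    rw [hk]
    exact Nat.Coprime.pow_right k hNc
  have hcomm : ⁅N, Q'⁆ ≤ N ⊓ Q' := Subgroup.commutator_le_inf N Q'
  rw [hinf, le_bot_iff, Subgroup.commutator_eq_bot_iff_le_centralizer] at hcomm
  have hNQ' : N ≤ Q' := by
    intro n hn
    rw [hQ', Subgroup.mem_subgroupOf]
    apply hC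
    rw [Subgroup.mem_centralizer_iff]
    intro q hq
    have hq' : (⟨q, hQH hq⟩ : ↥H) ∈ Q' := by rw [hQ', Subgroup.mem_subgroupOf]; exact hq
    have := Subgroup.mem_centralizer_iff.mp (hcomm hn) ⟨q, hQH hq⟩ hq'
    exact congrArg Subtype.val this
  have : N ≤ N ⊓ Q' := le_inf le_rfl hNQ'
  rw [hinf] at this
  exact le_bot_iff.mp this

theorem card_lt_of_ne_top {G : Type*} [Group G] [Finite G] (H : Subgroup G) (h : H ≠ ⊤) :
    Nat.card ↥H < Nat.card G := by
  apply lt_of_le_of_ne (Subgroup.card_le_card_group H)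
  intro h'
  exact h (H.eq_top_of_card_eq h')

/-- The statement of piece M-c, for a fixed model `R`, for all groups in universe `u`. -/
def HypMc (p : ℕ) [Fact p.Prime] (R : Type v) [Group R] : Prop :=
  ∀ (G : Type u) [Group G] [Finite G], IsPSolvable p G → pPrimeCore p G = ⊥ →
    ∀ S : Sylow p G, Nonempty (↥(S : Subgroup G) ≃* R) → ∀ w ∈ (S : Subgroup G),
      (S : Subgroup G) = pCore p G ⊔ Subgroup.zpowers w → w ∉ pCore p G → False

theorem sylow_normal_aux {p : ℕ} [hp : Fact p.Prime] {R : Type v} [Group R] (hR : SSP p R)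
    (hMc : HypMc.{u, v} p R) :
    ∀ (n : ℕ) (G : Type u) [Group G] [Finite G], Nat.card G = n → IsPSolvable p G →
      pPrimeCore p G = ⊥ → ∀ S : Sylow p G, Nonempty (↥(S : Subgroup G) ≃* R) →
        (S : Subgroup G).Normal := by
  intro n
  induction n using Nat.strong_induction_on with
  | _ n ih =>
  intro G _ _ hn hG hcore S hS
  obtain ⟨e⟩ := hS
  have hSS : SSP p ↥(S : Subgroup G) := SSP.of_mulEquiv e.symm hR
  obtain ⟨Q, hQdef⟩ : ∃ Q, Q = pCore p G := ⟨_, rfl⟩
  have hQn : Q.Normal := by rw [hQdef]; exact (pCore_mem p).1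
  have hQS : Q ≤ S := by rw [hQdef]; exact pCore_le_sylow p S
  have hCQ : Subgroup.centralizer (Q : Set G) ≤ Q := by
    rw [hQdef]
    exact centralizer_pCore_le_of_isPSolvable hcore (isPSolvable_subgroup hG _)
  -- the induction hypothesis, for subgroups containing `S`
  have IH : ∀ H : Subgroup G, H ≠ ⊤ → (S : Subgroup G) ≤ H →
      H ≤ Subgroup.normalizer ((S : Subgroup G) : Set G) := by
    intro H hH hSH
    have hlt : Nat.card ↥H < n := by rw [← hn]; exact card_lt_of_ne_top H hH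
    have hcoreH : pPrimeCore p ↥H = ⊥ := by
      apply pPrimeCore_subgroup_eq_bot _ H
      · rw [← hQdef]; exact hQS.trans hSH
      · rw [← hQdef]; exact hCQ
    have hnorm := ih (Nat.card ↥H) hlt ↥H rfl (isPSolvable_subgroup hG H) hcoreH
      (S.subtype hSH) ⟨(Subgroup.subgroupOfEquivOfLe hSH).trans e⟩
    rw [Sylow.coe_subtype] at hnorm
    exact (Subgroup.normal_subgroupOf_iff_le_normalizer hSH).mp hnorm
  by_contra hSn
  have hSQ : ¬ (S : Subgroup G) ≤ Q := by
    intro h
    have : (S : Subgroup G) = Q := le_antisymm h hQS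
    apply hSn; rw [this]; exact hQn
  -- the quotient by `Q`
  obtain ⟨π, hπdef⟩ : ∃ π : G →* G ⧸ Q, π = QuotientGroup.mk' Q := ⟨_, rfl⟩
  have hπ : Function.Surjective π := by rw [hπdef]; exact QuotientGroup.mk'_surjective Q
  have hker : ∀ x, π x = 1 ↔ x ∈ Q := by
    intro x; rw [hπdef]; exact QuotientGroup.eq_one_iff x
  have hGb : IsPSolvable p (G ⧸ Q) := isPSolvable_of_surjective p π hπ hG
  have hcoreb : pCore p (G ⧸ Q) = ⊥ := by
    subst hQdef; exact pCore_quotient_pCore_eq_bot p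
  obtain ⟨K, hKdef⟩ : ∃ K, K = pPrimeCore p (G ⧸ Q) := ⟨_, rfl⟩
  have hKn : K.Normal := by rw [hKdef]; exact (pPrimeCore_mem p).1
  have hKc : (Nat.card K).Coprime p := by rw [hKdef]; exact pPrimeCore_card_coprime p
  have hCK : Subgroup.centralizer (K : Set (G ⧸ Q)) ≤ K := by
    rw [hKdef]; exact centralizer_pPrimeCore_le p hGb hcoreb
  obtain ⟨T, hTdef⟩ : ∃ T, T = (S : Subgroup G).map π := ⟨_, rfl⟩
  have hTp : IsPGroup p T := by rw [hTdef]; exact S.isPGroup'.map π
  have hcop : (Nat.card T).Coprime (Nat.card K) := by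
    obtain ⟨k, hk⟩ := IsPGroup.iff_card.mp hTp
    rw [hk]
    exact Nat.Coprime.pow_left k hKc.symm
  have hTK : T ⊓ K = ⊥ := Subgroup.inf_eq_bot_of_coprime hcop
  have hTmem : ∀ s ∈ (S : Subgroup G), π s ∈ T := by
    intro s hs; rw [hTdef]; exact Subgroup.mem_map_of_mem π hs
  have hTne : T ≠ ⊥ := by
    intro h
    apply hSQ
    intro s hs
    have := hTmem s hs
    rw [h, Subgroup.mem_bot] at this
    exact (hker s).mp this
  have hcommQ : ∀ a ∈ (S : Subgroup G), ∀ b ∈ (S : Subgroup G), ⁅a, b⁆ ∈ Q := by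
    intro a ha b hb
    apply hCQ
    rw [Subgroup.mem_centralizer_iff]
    intro q hq
    have h1 := hSS.comm_central ⟨a, ha⟩ ⟨b, hb⟩
    rw [Subgroup.mem_center_iff] at h1
    have h2 := h1 ⟨q, hQS hq⟩
    exact congrArg Subtype.val h2
  have hTcomm : ∀ x ∈ T, ∀ y ∈ T, x * y = y * x := by
    intro x hx y hy
    rw [hTdef] at hx hy
    obtain ⟨a, ha, rfl⟩ := hx
    obtain ⟨b, hb, rfl⟩ := hy
    have := (hker _).mpr (hcommQ a ha b hb)
    rw [map_commutatorElement, commutatorElement_eq_one_iff_mul_comm] at this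
    exact this
  obtain ⟨M, hMdef⟩ : ∃ M, M = K.comap π := ⟨_, rfl⟩
  have hMn : M.Normal := by rw [hMdef]; infer_instance
  have hMmem : ∀ x, x ∈ M ↔ π x ∈ K := by intro x; rw [hMdef, Subgroup.mem_comap]
  have hMS : M ⊓ (S : Subgroup G) ≤ Q := by
    intro x hx
    rw [Subgroup.mem_inf] at hx
    have : π x ∈ T ⊓ K := Subgroup.mem_inf.mpr ⟨hTmem x hx.2, (hMmem x).mp hx.1⟩
    rw [hTK, Subgroup.mem_bot] at this
    exact (hker x).mp this
  have hT1 : ∀ t ∈ T, t ∈ Subgroup.centralizer (K : Set (G ⧸ Q)) → t = 1 := by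
    intro t ht htc
    have : t ∈ T ⊓ K := Subgroup.mem_inf.mpr ⟨ht, hCK htc⟩
    rw [hTK, Subgroup.mem_bot] at this
    exact this
  -- Step 1: `G = M S`
  have hMStop : M ⊔ (S : Subgroup G) = ⊤ := by
    by_contra hne
    have hN := IH (M ⊔ (S : Subgroup G)) hne le_sup_right
    apply hTne
    rw [eq_bot_iff]
    intro t ht
    rw [Subgroup.mem_bot]
    apply hT1 t ht
    rw [hTdef] at ht
    obtain ⟨s, hs, rfl⟩ := ht
    rw [Subgroup.mem_centralizer_iff]
    intro k hk
    obtain ⟨m, rfl⟩ := hπ k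
    have hm : m ∈ M := (hMmem m).mpr hk
    have hmN : m ∈ Subgroup.normalizer ((S : Subgroup G) : Set G) := hN (Subgroup.mem_sup_left hm)
    have h1 : ⁅m, s⁆ ∈ (S : Subgroup G) := by
      rw [commutatorElement_def]
      exact Subgroup.mul_mem _ ((Subgroup.mem_normalizer_iff.mp hmN s).mp hs)
        (Subgroup.inv_mem _ hs)
    have h2 : ⁅m, s⁆ ∈ M := by
      rw [commutatorElement_def, mul_assoc, mul_assoc]
      apply Subgroup.mul_mem _ hm
      rw [← mul_assoc]
      exact hMn.conj_mem _ (Subgroup.inv_mem _ hm) s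
    have h3 := (hker _).mpr (hMS (Subgroup.mem_inf.mpr ⟨h2, h1⟩))
    rw [map_commutatorElement, commutatorElement_eq_one_iff_mul_comm] at h3
    exact h3
  by_cases hcyc : IsCyclic ↥T
  · -- Step 3: cyclic quotient, piece M-c
    obtain ⟨g, hg⟩ := hcyc.exists_generator
    have hg1 : (g : G ⧸ Q) ∈ (S : Subgroup G).map π := by rw [← hTdef]; exact g.2
    obtain ⟨w, hw, hwg⟩ := hg1
    have hSeq : (S : Subgroup G) = Q ⊔ Subgroup.zpowers w := by
      apply le_antisymm
      · intro s hs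
        obtain ⟨k, hk⟩ := Subgroup.mem_zpowers_iff.mp (hg ⟨π s, hTmem s hs⟩)
        have hk' : (π w) ^ k = π s := by
          have := congrArg Subtype.val hk
          rw [Subgroup.coe_zpow, ← hwg] at this
          exact this
        have h1 : s * (w ^ k)⁻¹ ∈ Q := by
          rw [← hker, map_mul, map_inv, map_zpow, hk', mul_inv_cancel]
        have : s = s * (w ^ k)⁻¹ * w ^ k := by group
        rw [this]
        exact Subgroup.mul_mem_sup h1 (Subgroup.zpow_mem_zpowers w k)
      · exact sup_le hQS (Subgroup.zpowers_le.mpr hw)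
    have hwQ : w ∉ Q := by
      intro h
      apply hSQ
      rw [hSeq]
      exact sup_le le_rfl (Subgroup.zpowers_le.mpr h)
    subst hQdef
    exact hMc G hG hcore S ⟨e⟩ w hw hSeq hwQ
  · -- Step 2: noncyclic quotient, coprime generation
    haveI : IsMulCommutative ↥T := ⟨⟨fun a b => Subtype.ext (hTcomm a.1 a.2 b.1 b.2)⟩⟩
    have hTKn : T ≤ Subgroup.normalizer (K : Set (G ⧸ Q)) := by
      rw [Subgroup.normalizer_eq_top_iff.mpr hKn]; exact le_top
    have hgen := coprime_generated_by_centralizers T K hcyc hTKn hcop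
    have key : ∀ t ∈ T, t ≠ 1 → K ⊓ Subgroup.centralizer {t} ≤
        (Subgroup.normalizer ((S : Subgroup G) : Set G)).map π := by
      intro t ht ht1
      have hne : (Subgroup.centralizer ({t} : Set (G ⧸ Q))).comap π ≠ ⊤ := by
        intro htop
        apply ht1
        apply hT1 t ht
        rw [Subgroup.mem_centralizer_iff]
        intro k _
        obtain ⟨m, rfl⟩ := hπ k
        have : m ∈ (Subgroup.centralizer ({t} : Set (G ⧸ Q))).comap π := by
          rw [htop]; exact Subgroup.mem_top m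
        rw [Subgroup.mem_comap, Subgroup.mem_centralizer_singleton_iff] at this
        exact this
      have hSle : (S : Subgroup G) ≤ (Subgroup.centralizer ({t} : Set (G ⧸ Q))).comap π := by
        intro s hs
        rw [Subgroup.mem_comap, Subgroup.mem_centralizer_singleton_iff]
        exact hTcomm _ (hTmem s hs) t ht
      have hN := IH _ hne hSle
      intro x hx
      rw [Subgroup.mem_inf] at hx
      obtain ⟨g, rfl⟩ := hπ x
      exact Subgroup.mem_map_of_mem π (hN (Subgroup.mem_comap.mpr hx.2))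
    have hKN : K ≤ (Subgroup.normalizer ((S : Subgroup G) : Set G)).map π := by
      rw [← hgen]
      exact iSup₂_le (fun t ht => key t ht.1 ht.2)
    have hMN : M ≤ Subgroup.normalizer ((S : Subgroup G) : Set G) := by
      intro m hm
      obtain ⟨n', hn', hnm⟩ := hKN ((hMmem m).mp hm)
      have h1 : n'⁻¹ * m ∈ Q := by
        rw [← hker, map_mul, map_inv, hnm, inv_mul_cancel]
      have : m = n' * (n'⁻¹ * m) := by group
      rw [this]
      exact Subgroup.mul_mem _ hn' (Subgroup.le_normalizer (hQS h1))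
    apply hSn
    rw [← Subgroup.normalizer_eq_top_iff, eq_top_iff, ← hMStop]
    exact sup_le hMN Subgroup.le_normalizer

/-- **Piece M of S4394.** -/
theorem sylow_normal_of_SSP {p : ℕ} [hp : Fact p.Prime] {R : Type v} [Group R] (hR : SSP p R)
    (hMc : HypMc.{u, v} p R) (G : Type u) [Group G] [Finite G] (hG : IsPSolvable p G)
    (hcore : pPrimeCore p G = ⊥) (S : Sylow p G) (hS : Nonempty (↥(S : Subgroup G) ≃* R)) :
    (S : Subgroup G).Normal :=
  sylow_normal_aux hR hMc (Nat.card G) G rfl hG hcore S hS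

end Cfsg.Agent.Lib.Helper2.SchSylM
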