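import Mathlib
import Cfsg.Agent.Lib.Helper2.SchurBasic

/-!
# Stem extensions of dihedral groups
-/

set_option autoImplicit false

namespace Cfsg.Agent.Lib.Helper2

open DihedralGroup
open scoped commutatorElement

theorem dihedral_mem_zpowers_r_one {n : ℕ} (g : DihedralGroup n) :
    g ∈ Subgroup.zpowers (r 1 : DihedralGroup n) ↔ ∃ i : ZMod n, g = r i := by
  rw [Subgroup.mem_zpowers_iff]
  constructor
  · rintro ⟨k, rfl⟩
    exact ⟨(k : ZMod n), r_one_zpow k⟩
  · rintro ⟨i, rfl⟩
    obtain ⟨k, rfl⟩ := ZMod.intCast_surjective i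
    exact ⟨k, r_one_zpow k⟩

instance dihedral_zpowers_r_one_normal {n : ℕ} :
    (Subgroup.zpowers (r 1 : DihedralGroup n)).Normal := by
  constructor
  intro g hg h
  rw [dihedral_mem_zpowers_r_one] at hg ⊢
  obtain ⟨i, rfl⟩ := hg
  cases h with
  | r j => exact ⟨i, by simp⟩
  | sr j => exact ⟨-i, by simp⟩

theorem dihedral_zpowers_sup {n : ℕ} :
    Subgroup.zpowers (r 1 : DihedralGroup n) ⊔ Subgroup.zpowers (sr 0) = ⊤ := by
  rw [eq_top_iff]
  intro g _
  cases g with
  | r i =>
    exact Subgroup.mem_sup_left ((dihedral_mem_zpowers_r_one _).2 ⟨i, rfl⟩)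
  | sr i =>
    have : (sr i : DihedralGroup n) = r (-i) * sr 0 := by simp
    rw [this]
    exact Subgroup.mul_mem_sup ((dihedral_mem_zpowers_r_one _).2 ⟨-i, rfl⟩)
      (Subgroup.mem_zpowers _)

/-- Stem extension of a dihedral group: kernel elements are `a (t a t⁻¹)⁻¹` with `σ a = r i`,
`i + i = 0`. -/
theorem dihedral_stem_ker {n : ℕ} {Γ : Type*} [Group Γ] (σ : Γ →* DihedralGroup n)
    (hσ : Cfsg.IsStemExtension σ) (t : Γ) (ht : σ t = sr 0) (k : Γ) (hk : k ∈ σ.ker) :
    ∃ (a : Γ) (i : ZMod n), σ a = r i ∧ i + i = 0 ∧ k = a * (t * a * t⁻¹)⁻¹ := by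
  obtain ⟨a, ha, hka⟩ := stem_cyclic_by_cyclic σ hσ (r 1) (sr 0) dihedral_zpowers_sup t ht k hk
  obtain ⟨i, hi⟩ := (dihedral_mem_zpowers_r_one _).1 ha
  refine ⟨a, i, hi, ?_, hka⟩
  have h1 : σ k = 1 := MonoidHom.mem_ker.1 hk
  rw [hka, map_mul, map_inv, map_mul, map_mul, map_inv, ht, hi] at h1
  simp only [sr_mul_r, inv_sr, sr_mul_sr, inv_r, r_mul_r, one_def, zero_add, zero_sub, neg_neg,
    r.injEq] at h1
  exact h1



/-- the natural map `D_{2n} → D_n`. -/
def dihedralCast (n : ℕ) : DihedralGroup (2 * n) →* DihedralGroup n where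
  toFun g := match g with
    | r i => r (ZMod.castHom (dvd_mul_left n 2) (ZMod n) i)
    | sr i => sr (ZMod.castHom (dvd_mul_left n 2) (ZMod n) i)
  map_one' := by
    show (match (r 0 : DihedralGroup (2 * n)) with
      | r i => r (ZMod.castHom (dvd_mul_left n 2) (ZMod n) i)
      | sr i => sr (ZMod.castHom (dvd_mul_left n 2) (ZMod n) i)) = (1 : DihedralGroup n)
    show r (ZMod.castHom (dvd_mul_left n 2) (ZMod n) 0) = (1 : DihedralGroup n)
    rw [map_zero]; rfl
  map_mul' := by
    rintro (i | i) (j | j) <;> simp [map_add, map_sub]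

@[simp] theorem dihedralCast_r (n : ℕ) (i : ZMod (2 * n)) :
    dihedralCast n (r i) = r (ZMod.castHom (dvd_mul_left n 2) (ZMod n) i) := rfl

@[simp] theorem dihedralCast_sr (n : ℕ) (i : ZMod (2 * n)) :
    dihedralCast n (sr i) = sr (ZMod.castHom (dvd_mul_left n 2) (ZMod n) i) := rfl

theorem dihedralCast_surjective (n : ℕ) : Function.Surjective (dihedralCast n) := by
  have hs : Function.Surjective (ZMod.castHom (dvd_mul_left n 2) (ZMod n)) :=
    ZMod.castHom_surjective _
  rintro (i | i)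
  · obtain ⟨j, rfl⟩ := hs i
    exact ⟨r j, rfl⟩
  · obtain ⟨j, rfl⟩ := hs i
    exact ⟨sr j, rfl⟩



theorem dihedralCast_ker_aux (n : ℕ) [NeZero n] (i : ZMod (2 * n))
    (h : ZMod.castHom (dvd_mul_left n 2) (ZMod n) i = 0) : ∃ e : ℕ, i = ((n * e : ℕ) : ZMod (2 * n)) := by
  have h1 : ((i.val : ℕ) : ZMod n) = 0 := by
    rw [ZMod.castHom_apply, ZMod.cast_eq_val] at h
    exact h
  rw [ZMod.natCast_eq_zero_iff] at h1
  obtain ⟨e, he⟩ := h1
  refine ⟨e, ?_⟩
  rw [← he, ZMod.natCast_zmod_val]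

theorem dihedralCast_isStemExtension (n : ℕ) [NeZero n] (hn : Even n) :
    Cfsg.IsStemExtension (dihedralCast n) := by
  refine ⟨dihedralCast_surjective n, ?_, ?_⟩
  · intro g hg
    rw [MonoidHom.mem_ker] at hg
    cases g with
    | r i =>
      rw [dihedralCast_r, one_def, r.injEq] at hg
      obtain ⟨e, rfl⟩ := dihedralCast_ker_aux n i hg
      have h2 : ((n * e : ℕ) : ZMod (2 * n)) + ((n * e : ℕ) : ZMod (2 * n)) = 0 := by
        rw [← Nat.cast_add, ZMod.natCast_eq_zero_iff]
        exact ⟨e, by ring⟩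
      rw [Subgroup.mem_center_iff]
      rintro (j | j)
      · simp [add_comm]
      · simp only [sr_mul_r, r_mul_sr, sr.injEq]
        rw [sub_eq_add_neg]
        congr 1
        exact (neg_eq_of_add_eq_zero_left h2).symm
    | sr i =>
      rw [dihedralCast_sr, one_def] at hg
      exact absurd hg (by intro h; cases h)
  · intro g hg
    rw [MonoidHom.mem_ker] at hg
    cases g with
    | r i =>
      rw [dihedralCast_r, one_def, r.injEq] at hg
      obtain ⟨e, rfl⟩ := dihedralCast_ker_aux n i hg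
      obtain ⟨m, hm⟩ := hn
      have h3 : (r ((n * e : ℕ) : ZMod (2 * n)) : DihedralGroup (2 * n)) =
          ⁅(sr (0 : ZMod (2 * n)) : DihedralGroup (2 * n)), r (-((m * e : ℕ) : ZMod (2 * n)))⁆ := by
        rw [commutatorElement_def]
        simp only [sr_mul_r, inv_sr, sr_mul_sr, inv_r, r_mul_r, zero_add, zero_sub, neg_neg,
          r.injEq]
        rw [← Nat.cast_add]
        congr 1
        rw [hm]; ring
      rw [h3]
      exact Subgroup.commutator_mem_commutator (Subgroup.mem_top _) (Subgroup.mem_top _)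
    | sr i =>
      rw [dihedralCast_sr, one_def] at hg
      exact absurd hg (by intro h; cases h)

theorem dihedralCast_card_ker (n : ℕ) [NeZero n] : Nat.card (dihedralCast n).ker = 2 := by
  have h1 := Subgroup.card_mul_index (dihedralCast n).ker
  rw [Subgroup.index_ker, MonoidHom.range_eq_top.2 (dihedralCast_surjective n),
    Subgroup.card_top, DihedralGroup.nat_card, DihedralGroup.nat_card] at h1
  have hn : 0 < n := Nat.pos_of_ne_zero (NeZero.ne n)
  nlinarith


end Cfsg.Agent.Lib.Helper2
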