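import Mathlib
import Cfsg.Prelude.Def_CaseTheorems

set_option autoImplicit false

/-!
# Sectional 2-rank at most 2 and subgroups `D₈`, `Q₈`: they contain their centralizer
-/

namespace Cfsg.Agent.Lib.Helper2.SectRank

universe u

variable {S : Type u} [Group S] [Finite S]

omit [Finite S] in
/-- a subgroup `K` of order more than 8 which is elementary abelian modulo a central subgroup of
order at most 2 contradicts sectional 2-rank at most 2 -/
theorem not_sectional_of_central (K : Subgroup S) (z : S) (hzK : z ∈ K) (hz2 : z * z = 1)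
    (hzc : ∀ k ∈ K, k * z = z * k)
    (hsq : ∀ k ∈ K, k * k ∈ Subgroup.zpowers z)
    (hcomm : ∀ k ∈ K, ∀ k' ∈ K, k * k' * (k' * k)⁻¹ ∈ Subgroup.zpowers z)
    (hcard : 8 < Nat.card K) : ¬ Cfsg.SectionalPRankLE 2 2 S := by
  intro hr
  haveI hNn : ((Subgroup.zpowers z).subgroupOf K).Normal := by
    constructor
    intro n hn g
    rw [Subgroup.mem_subgroupOf] at hn ⊢
    obtain ⟨i, hi⟩ := Subgroup.mem_zpowers_iff.mp hn
    have hc : Commute (g : S) z := hzc g g.2
    have h1 : ((g * n * g⁻¹ : ↥K) : S) = (n : S) := by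
      rw [Subgroup.coe_mul, Subgroup.coe_mul, Subgroup.coe_inv, ← hi, (hc.zpow_right i).eq]
      group
    rw [h1]; exact hn
  have hq : ∀ x y : ↥K ⧸ (Subgroup.zpowers z).subgroupOf K, x * y = y * x := by
    intro x y
    induction x using QuotientGroup.induction_on with
    | H a =>
      induction y using QuotientGroup.induction_on with
      | H b =>
        rw [← QuotientGroup.mk_mul, ← QuotientGroup.mk_mul, QuotientGroup.eq_iff_div_mem,
          Subgroup.mem_subgroupOf, div_eq_mul_inv]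
        exact hcomm a a.2 b b.2
  have h1 := hr K ((Subgroup.zpowers z).subgroupOf K) ⊤
    ⟨⟨fun a b => Subtype.ext (hq a.1 b.1)⟩⟩
    (by
      intro a _
      induction a using QuotientGroup.induction_on with
      | H k =>
        rw [← QuotientGroup.mk_pow, QuotientGroup.eq_one_iff, Subgroup.mem_subgroupOf, pow_two]
        exact hsq k k.2)
  rw [Subgroup.card_top, ← Subgroup.index_eq_card] at h1
  have h2 := Subgroup.card_mul_index ((Subgroup.zpowers z).subgroupOf K)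
  have h3 : Nat.card ((Subgroup.zpowers z).subgroupOf K) ≤ 2 := by
    have hle : Subgroup.zpowers z ≤ K := Subgroup.zpowers_le.mpr hzK
    rw [Nat.card_congr (Subgroup.subgroupOfEquivOfLe hle).toEquiv, Nat.card_zpowers]
    exact orderOf_le_of_pow_eq_one (by norm_num) (by rw [pow_two]; exact hz2)
  have h4 : Nat.card ↥K ≤ 2 * 4 := by
    rw [← h2]; exact Nat.mul_le_mul h3 (by simpa using h1)
  omega

/-- an element `c ∉ B` centralizing `B` with `c² ∈ ⟨z⟩` contradicts sectional 2-rank at most 2 -/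
theorem not_sectional_of_centralizing (B : Subgroup S) (z c : S) (hzB : z ∈ B) (hz2 : z * z = 1)
    (hzc : ∀ b ∈ B, b * z = z * b)
    (hsq : ∀ b ∈ B, b * b ∈ Subgroup.zpowers z)
    (hcomm : ∀ b ∈ B, ∀ b' ∈ B, b * b' * (b' * b)⁻¹ ∈ Subgroup.zpowers z)
    (hcard : Nat.card B = 8) (hcB : c ∉ B) (hcc : ∀ b ∈ B, b * c = c * b)
    (hc2 : c * c ∈ Subgroup.zpowers z) : ¬ Cfsg.SectionalPRankLE 2 2 S := by
  have hcC : c ∈ Subgroup.centralizer (B : Set S) := by
    rw [Subgroup.mem_centralizer_iff]; exact hcc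
  have hnorm : Subgroup.zpowers c ≤ Subgroup.normalizer (B : Set S) :=
    (Subgroup.zpowers_le.mpr hcC).trans (Subgroup.centralizer_le_normalizer _)
  have hcoe := Subgroup.coe_mul_of_right_le_normalizer_left B (Subgroup.zpowers c) hnorm
  have hK : ∀ k ∈ B ⊔ Subgroup.zpowers c, ∃ b ∈ B, ∃ i : ℤ, k = b * c ^ i := by
    intro k hk
    have hk' : k ∈ ((B ⊔ Subgroup.zpowers c : Subgroup S) : Set S) := hk
    rw [hcoe] at hk'
    obtain ⟨b, hb, w, hw, rfl⟩ := Set.mem_mul.mp hk'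
    obtain ⟨i, rfl⟩ := Subgroup.mem_zpowers_iff.mp hw
    exact ⟨b, hb, i, rfl⟩
  have hcomB : ∀ b ∈ B, ∀ i : ℤ, Commute b (c ^ i) := fun b hb i =>
    (show Commute b c from hcc b hb).zpow_right i
  apply not_sectional_of_central (B ⊔ Subgroup.zpowers c) z (le_sup_left (a := B) hzB) hz2
  · intro k hk
    obtain ⟨b, hb, i, rfl⟩ := hK k hk
    have h1 : Commute b z := hzc b hb
    have h2 : Commute (c ^ i) z := (hcomB z hzB i).symm
    exact (h1.mul_left h2).eq
  · intro k hk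
    obtain ⟨b, hb, i, rfl⟩ := hK k hk
    have h1 : c ^ i * b = b * c ^ i := (hcomB b hb i).eq.symm
    have h2 : b * c ^ i * (b * c ^ i) = (b * b) * (c * c) ^ i := by
      calc b * c ^ i * (b * c ^ i) = b * (c ^ i * b) * c ^ i := by simp only [mul_assoc]
        _ = b * (b * c ^ i) * c ^ i := by rw [h1]
        _ = (b * b) * (c ^ i * c ^ i) := by simp only [mul_assoc]
        _ = (b * b) * (c * c) ^ i := by rw [(Commute.refl c).mul_zpow]
    rw [h2]
    exact Subgroup.mul_mem _ (hsq b hb) (Subgroup.zpow_mem _ hc2 i)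
  · intro k hk k' hk'
    obtain ⟨b, hb, i, rfl⟩ := hK k hk
    obtain ⟨b', hb', j, rfl⟩ := hK k' hk'
    have h1 : c ^ i * b' = b' * c ^ i := (hcomB b' hb' i).eq.symm
    have h2 : c ^ j * b = b * c ^ j := (hcomB b hb j).eq.symm
    have h3 : c ^ j * c ^ i = c ^ i * c ^ j := (Commute.zpow_zpow_self c j i).eq
    have h4 : b * c ^ i * (b' * c ^ j) = (b * b') * (c ^ i * c ^ j) := by
      calc b * c ^ i * (b' * c ^ j) = b * (c ^ i * b') * c ^ j := by simp only [mul_assoc]
        _ = b * (b' * c ^ i) * c ^ j := by rw [h1]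
        _ = (b * b') * (c ^ i * c ^ j) := by simp only [mul_assoc]
    have h5 : b' * c ^ j * (b * c ^ i) = (b' * b) * (c ^ i * c ^ j) := by
      calc b' * c ^ j * (b * c ^ i) = b' * (c ^ j * b) * c ^ i := by simp only [mul_assoc]
        _ = b' * (b * c ^ j) * c ^ i := by rw [h2]
        _ = (b' * b) * (c ^ j * c ^ i) := by simp only [mul_assoc]
        _ = (b' * b) * (c ^ i * c ^ j) := by rw [h3]
    rw [h4, h5]
    have h6 : b * b' * (c ^ i * c ^ j) * (b' * b * (c ^ i * c ^ j))⁻¹ = b * b' * (b' * b)⁻¹ := by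
      group
    rw [h6]
    exact hcomm b hb b' hb'
  · rw [← hcard]
    by_contra hle
    push Not at hle
    have heq : B = B ⊔ Subgroup.zpowers c := Subgroup.eq_of_le_of_card_ge le_sup_left hle
    apply hcB
    rw [heq]
    exact le_sup_right (a := B) (Subgroup.mem_zpowers c)

/-- the main lemma: a subgroup `B` isomorphic to a group `D` of order 8 with `D₈`/`Q₈`-like
structure contains its centralizer, if the sectional 2-rank of `S` is at most 2 -/
theorem centralizer_le_of_equiv {D : Type} [Group D] (z₀ : D)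
    (h1 : z₀ * z₀ = 1) (h2 : ∀ d : D, d * z₀ = z₀ * d)
    (h3 : ∀ d : D, d * d = 1 ∨ d * d = z₀)
    (h4 : ∀ d d' : D, d * d' * (d' * d)⁻¹ = 1 ∨ d * d' * (d' * d)⁻¹ = z₀)
    (h5 : ∀ d : D, (∀ d', d' * d = d * d') → d = 1 ∨ d = z₀)
    (h7 : Nat.card D = 8)
    (hS : IsPGroup 2 S) (hr : Cfsg.SectionalPRankLE 2 2 S) (B : Subgroup S) (e : ↥B ≃* D) :
    Subgroup.centralizer (B : Set S) ≤ B := by
  classical
  have hcard : Nat.card B = 8 := by rw [Nat.card_congr e.toEquiv, h7]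
  have hz1 : e.symm 1 = 1 := map_one e.symm
  have hzB : ((e.symm z₀ : ↥B) : S) ∈ B := (e.symm z₀).2
  have hmem : ∀ d : D, d = 1 ∨ d = z₀ → ((e.symm d : ↥B) : S) ∈
      Subgroup.zpowers ((e.symm z₀ : ↥B) : S) := by
    rintro d (rfl | rfl)
    · rw [hz1]; exact Subgroup.one_mem _
    · exact Subgroup.mem_zpowers _
  have hval : ∀ b (hb : b ∈ B), ((e.symm (e ⟨b, hb⟩) : ↥B) : S) = b := by
    intro b hb; rw [e.symm_apply_apply]
  by_contra hne
  obtain ⟨c₀, hc₀C, hc₀B⟩ := SetLike.not_le_iff_exists.mp hne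
  have hex : ∃ j : ℕ, c₀ ^ (2 ^ j) ∈ B := by
    obtain ⟨m, hm⟩ := hS c₀
    exact ⟨m, by rw [hm]; exact B.one_mem⟩
  have hj0 : Nat.find hex ≠ 0 := by
    intro h0
    have := Nat.find_spec hex
    rw [h0, pow_zero, pow_one] at this
    exact hc₀B this
  obtain ⟨j, hj⟩ := Nat.exists_eq_succ_of_ne_zero hj0
  have hcB : c₀ ^ (2 ^ j) ∉ B := Nat.find_min hex (by omega)
  have hccB : c₀ ^ (2 ^ j) * c₀ ^ (2 ^ j) ∈ B := by
    have := Nat.find_spec hex
    rw [hj, Nat.succ_eq_add_one, pow_succ, mul_two, pow_add] at this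
    exact this
  have hcC : c₀ ^ (2 ^ j) ∈ Subgroup.centralizer (B : Set S) := Subgroup.pow_mem _ hc₀C _
  have hcc : ∀ b ∈ B, b * c₀ ^ (2 ^ j) = c₀ ^ (2 ^ j) * b :=
    Subgroup.mem_centralizer_iff.mp hcC
  refine not_sectional_of_centralizing B ((e.symm z₀ : ↥B) : S) (c₀ ^ (2 ^ j)) hzB ?_ ?_ ?_ ?_
    hcard hcB hcc ?_ hr
  · rw [← Subgroup.coe_mul, ← map_mul, h1, hz1]; rfl
  · intro b hb
    have := congrArg (fun x : ↥B => (x : S)) (congrArg e.symm (h2 (e ⟨b, hb⟩)))
    simp only [map_mul, Subgroup.coe_mul, e.symm_apply_apply] at this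
    exact this
  · intro b hb
    have := hmem _ (h3 (e ⟨b, hb⟩))
    rw [map_mul, Subgroup.coe_mul, hval] at this
    exact this
  · intro b hb b' hb'
    have := hmem _ (h4 (e ⟨b, hb⟩) (e ⟨b', hb'⟩))
    simp only [map_mul, map_inv, Subgroup.coe_mul, Subgroup.coe_inv, e.symm_apply_apply] at this
    exact this
  · have hcen : ∀ d', d' * e ⟨_, hccB⟩ = e ⟨_, hccB⟩ * d' := by
      intro d'
      obtain ⟨b', rfl⟩ := e.surjective d'
      rw [← map_mul, ← map_mul]
      congr 1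
      apply Subtype.ext
      rw [Subgroup.coe_mul, Subgroup.coe_mul]
      have h6 := hcc b'.1 b'.2
      calc (b' : S) * (c₀ ^ 2 ^ j * c₀ ^ 2 ^ j) = ((b' : S) * c₀ ^ 2 ^ j) * c₀ ^ 2 ^ j := by
            rw [mul_assoc]
        _ = c₀ ^ 2 ^ j * ((b' : S) * c₀ ^ 2 ^ j) := by rw [h6, mul_assoc, h6]
        _ = c₀ ^ 2 ^ j * c₀ ^ 2 ^ j * (b' : S) := by rw [h6, mul_assoc]
    have := hmem _ (h5 _ hcen)
    rw [hval] at this
    exact this

theorem dihedral_facts : ((DihedralGroup.r 2 : DihedralGroup 4) * DihedralGroup.r 2 = 1) ∧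
    (∀ d : DihedralGroup 4, d * DihedralGroup.r 2 = DihedralGroup.r 2 * d) ∧
    (∀ d : DihedralGroup 4, d * d = 1 ∨ d * d = DihedralGroup.r 2) ∧
    (∀ d d' : DihedralGroup 4, d * d' * (d' * d)⁻¹ = 1 ∨ d * d' * (d' * d)⁻¹ = DihedralGroup.r 2) ∧
    (∀ d : DihedralGroup 4, (∀ d', d' * d = d * d') → d = 1 ∨ d = DihedralGroup.r 2) ∧
    (∃ d d' : DihedralGroup 4, d * d' ≠ d' * d) := by
  refine ⟨by decide, by decide, by decide, by decide, by decide, by decide⟩

theorem quaternion_facts : ((QuaternionGroup.a 2 : QuaternionGroup 2) * QuaternionGroup.a 2 = 1) ∧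
    (∀ d : QuaternionGroup 2, d * QuaternionGroup.a 2 = QuaternionGroup.a 2 * d) ∧
    (∀ d : QuaternionGroup 2, d * d = 1 ∨ d * d = QuaternionGroup.a 2) ∧
    (∀ d d' : QuaternionGroup 2, d * d' * (d' * d)⁻¹ = 1 ∨
      d * d' * (d' * d)⁻¹ = QuaternionGroup.a 2) ∧
    (∀ d : QuaternionGroup 2, (∀ d', d' * d = d * d') → d = 1 ∨ d = QuaternionGroup.a 2) ∧
    (∃ d d' : QuaternionGroup 2, d * d' ≠ d' * d) := by
  refine ⟨by decide, by decide, by decide, by decide, by decide, by decide⟩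

end Cfsg.Agent.Lib.Helper2.SectRank
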