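import Mathlib
import Cfsg.Prelude.Def_CaseTheorems
import Cfsg.Agent.Lib.Helper1.Nilpotent
import Cfsg.Agent.Lib.Helper2.PGroup
import Cfsg.Agent.Lib.Helper7.ProdSet

set_option autoImplicit false

/-!
# 2-groups of sectional rank at most 4: two normal nonabelian subgroups with distinct centres of
order 2 commute, meet trivially, and their product is self-centralizing
-/

namespace Cfsg.Agent.Lib.Helper2.SectRankFour

open scoped Pointwise

universe u

/-- if all squares of `K` lie in `M ≤ K` normalized by `K` then `|K : M| ≤ 2 ^ r` -/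
theorem card_le_of_sq_mem {S : Type u} [Group S] (r : ℕ)
    (hr : Cfsg.SectionalPRankLE 2 r S) (K M : Subgroup S) (hMK : M ≤ K)
    (hn : ∀ k ∈ K, ∀ m ∈ M, k * m * k⁻¹ ∈ M) (hsq : ∀ k ∈ K, k * k ∈ M) :
    Nat.card K ≤ 2 ^ r * Nat.card M := by
  haveI hNn : (M.subgroupOf K).Normal := by
    constructor
    intro n hn' g
    rw [Subgroup.mem_subgroupOf] at hn' ⊢
    rw [Subgroup.coe_mul, Subgroup.coe_mul, Subgroup.coe_inv]
    exact hn g g.2 n hn'
  have hsq' : ∀ x : ↥K ⧸ M.subgroupOf K, x * x = 1 := by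
    intro x
    induction x using QuotientGroup.induction_on with
    | H k =>
      rw [← QuotientGroup.mk_mul, QuotientGroup.eq_one_iff, Subgroup.mem_subgroupOf,
        Subgroup.coe_mul]
      exact hsq k k.2
  have hq : ∀ x y : ↥K ⧸ M.subgroupOf K, x * y = y * x := by
    intro x y
    have hx : x⁻¹ = x := inv_eq_of_mul_eq_one_left (hsq' x)
    have hy : y⁻¹ = y := inv_eq_of_mul_eq_one_left (hsq' y)
    have hxy : (x * y)⁻¹ = x * y := inv_eq_of_mul_eq_one_left (hsq' (x * y))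
    rw [mul_inv_rev, hx, hy] at hxy
    exact hxy.symm
  have h1 := hr K (M.subgroupOf K) ⊤ ⟨⟨fun a b => Subtype.ext (hq a.1 b.1)⟩⟩
    (by intro a _; rw [pow_two]; exact hsq' a)
  rw [Subgroup.card_top, ← Subgroup.index_eq_card] at h1
  have h2 := Subgroup.card_mul_index (M.subgroupOf K)
  rw [Nat.card_congr (Subgroup.subgroupOfEquivOfLe hMK).toEquiv] at h2
  rw [← h2, mul_comm]
  exact Nat.mul_le_mul_right _ h1

/-- a proper subgroup has at most half the order -/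
theorem two_mul_card_le {S : Type u} [Group S] [Finite S] {H K : Subgroup S} (hle : H ≤ K)
    (hne : ¬ K ≤ H) : 2 * Nat.card H ≤ Nat.card K := by
  have h1 := Cfsg.Agent.Lib.Helper2.card_mul_relIndex hle
  have h2 : H.relIndex K ≠ 1 := fun h => hne (Subgroup.relIndex_eq_one.mp h)
  have h3 : H.relIndex K ≠ 0 := by
    intro h0
    rw [h0, mul_zero] at h1
    exact (Nat.card_pos (α := ↥K)).ne h1
  have h4 : 2 ≤ H.relIndex K := by omega
  calc 2 * Nat.card H = Nat.card H * 2 := mul_comm _ _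
    _ ≤ Nat.card H * H.relIndex K := Nat.mul_le_mul_left _ h4
    _ = Nat.card K := h1

/-- in a 2-group, if `C ≰ B` there is `c ∈ C ∖ B` with `c² ∈ B` -/
theorem exists_sq_mem {S : Type u} [Group S] (hS : IsPGroup 2 S) (C B : Subgroup S)
    (h : ¬ C ≤ B) : ∃ c ∈ C, c ∉ B ∧ c * c ∈ B := by
  classical
  obtain ⟨c₀, hc₀C, hc₀B⟩ := SetLike.not_le_iff_exists.mp h
  have hex : ∃ j : ℕ, c₀ ^ (2 ^ j) ∈ B := by
    obtain ⟨m, hm⟩ := hS c₀
    exact ⟨m, by rw [hm]; exact B.one_mem⟩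
  have hj0 : Nat.find hex ≠ 0 := by
    intro h0
    have := Nat.find_spec hex
    rw [h0, pow_zero, pow_one] at this
    exact hc₀B this
  obtain ⟨j, hj⟩ := Nat.exists_eq_succ_of_ne_zero hj0
  refine ⟨c₀ ^ (2 ^ j), Subgroup.pow_mem _ hc₀C _, Nat.find_min hex (by omega), ?_⟩
  have := Nat.find_spec hex
  rw [hj, Nat.succ_eq_add_one, pow_succ, mul_two, pow_add] at this
  exact this

/-- the generator of a centre of order 2 of a normal subgroup -/
theorem exists_center_gen {S : Type u} [Group S] (P : Subgroup S) [hPn : P.Normal]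
    (hZP : Nat.card (Subgroup.center ↥P) = 2) :
    ∃ z : S, z ∈ P ∧ z ≠ 1 ∧ z * z = 1 ∧ (∀ g : S, g * z = z * g) ∧
      (∀ x ∈ P, (∀ y ∈ P, y * x = x * y) → x = 1 ∨ x = z) ∧
      (∀ x : S, x ∈ (Subgroup.center ↥P).map P.subtype ↔ x = 1 ∨ x = z) := by
  obtain ⟨w, hw1, hwu⟩ := (Nat.card_eq_two_iff' (1 : Subgroup.center ↥P)).mp hZP
  have hu : ∀ x ∈ P, (∀ y ∈ P, y * x = x * y) → x = 1 ∨ x = ((w : ↥P) : S) := by
    intro x hx hc
    have hxc : (⟨x, hx⟩ : ↥P) ∈ Subgroup.center ↥P := by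
      rw [Subgroup.mem_center_iff]
      intro g
      exact Subtype.ext (hc g.1 g.2)
    by_cases h1 : x = 1
    · exact Or.inl h1
    · right
      have h2 := hwu ⟨⟨x, hx⟩, hxc⟩ (by
        intro h
        apply h1
        exact congrArg (fun t : Subgroup.center ↥P => ((t : ↥P) : S)) h)
      exact congrArg (fun t : Subgroup.center ↥P => ((t : ↥P) : S)) h2
  have hwP : ((w : ↥P) : S) ∈ P := (w : ↥P).2
  have hw1' : ((w : ↥P) : S) ≠ 1 := by
    intro h
    apply hw1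
    apply Subtype.ext
    apply Subtype.ext
    exact h
  have hwc : ∀ y ∈ P, y * ((w : ↥P) : S) = ((w : ↥P) : S) * y := by
    intro y hy
    have := Subgroup.mem_center_iff.mp w.2 ⟨y, hy⟩
    exact congrArg Subtype.val this
  obtain ⟨z, hz⟩ : ∃ z : S, z = ((w : ↥P) : S) := ⟨_, rfl⟩
  rw [← hz] at hu hwP hw1' hwc
  have hcen : ∀ g : S, g * z = z * g := by
    intro g
    have hconj : g * z * g⁻¹ ∈ P := hPn.conj_mem z hwP g
    have hc : ∀ y ∈ P, y * (g * z * g⁻¹) = (g * z * g⁻¹) * y := by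
      intro y hy
      have hy' : g⁻¹ * y * g ∈ P := by
        have := hPn.conj_mem y hy g⁻¹
        rwa [inv_inv] at this
      have h1 := hwc _ hy'
      calc y * (g * z * g⁻¹) = g * ((g⁻¹ * y * g) * z) * g⁻¹ := by group
        _ = g * (z * (g⁻¹ * y * g)) * g⁻¹ := by rw [h1]
        _ = (g * z * g⁻¹) * y := by group
    rcases hu _ hconj hc with h | h
    · exfalso
      apply hw1'
      have : z = g⁻¹ * (g * z * g⁻¹) * g := by group
      rw [this, h]; group
    · calc g * z = (g * z * g⁻¹) * g := by group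
        _ = z * g := by rw [h]
  have hzz : z * z = 1 := by
    have hc : ∀ y ∈ P, y * (z * z) = (z * z) * y := by
      intro y hy
      rw [← mul_assoc, hwc y hy, mul_assoc, hwc y hy, mul_assoc]
    rcases hu _ (P.mul_mem hwP hwP) hc with h | h
    · exact h
    · exfalso
      apply hw1'
      have : z * z = z * 1 := by rw [h, mul_one]
      exact mul_left_cancel this
  refine ⟨z, hwP, hw1', hzz, hcen, hu, ?_⟩
  intro x
  constructor
  · rintro ⟨y, hy, rfl⟩
    apply hu _ y.2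
    intro t ht
    have := Subgroup.mem_center_iff.mp hy ⟨t, ht⟩
    exact congrArg Subtype.val this
  · rintro (rfl | rfl)
    · exact Subgroup.one_mem _
    · exact ⟨(w : ↥P), w.2, hz.symm⟩

theorem comm_of_isCyclic {P : Type u} [Group P] [IsCyclic P] (a b : P) : a * b = b * a := by
  obtain ⟨g, hg⟩ := IsCyclic.exists_generator (α := P)
  obtain ⟨i, rfl⟩ := Subgroup.mem_zpowers_iff.mp (hg a)
  obtain ⟨k, rfl⟩ := Subgroup.mem_zpowers_iff.mp (hg b)
  exact (Commute.zpow_zpow_self g i k).eq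

/-- a nonabelian 2-group whose centre is `{1, z}` has a normal subgroup `D` of index at least 4
containing all squares and `z` -/
theorem exists_frattini_like {P : Type u} [Group P] [Finite P] (hP2 : IsPGroup 2 P)
    (hP : ¬ IsMulCommutative P) (z : P) (hzu : ∀ x ∈ Subgroup.center P, x = 1 ∨ x = z) :
    ∃ D : Subgroup P, D.Normal ∧ 4 * Nat.card D ≤ Nat.card P ∧ (∀ a : P, a * a ∈ D) ∧ z ∈ D := by
  classical
  haveI : Fact (Nat.Prime 2) := ⟨Nat.prime_two⟩
  haveI : Group.IsNilpotent P := hP2.isNilpotent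
  obtain ⟨n, hn⟩ := hP2.exists_card_eq
  have hn1 : 1 ≤ n := by
    by_contra h
    have h0 : n = 0 := by omega
    rw [h0, pow_zero] at hn
    haveI : Subsingleton P := (Nat.card_eq_one_iff_unique.mp hn).1
    exact hP ⟨⟨fun a b => Subsingleton.elim _ _⟩⟩
  have hdvd : 2 ^ (n - 1) ∣ Nat.card P := by rw [hn]; exact pow_dvd_pow 2 (by omega)
  obtain ⟨H₁, hH₁⟩ := Sylow.exists_subgroup_card_pow_prime 2 hdvd
  have hidx : ∀ H : Subgroup P, Nat.card H = 2 ^ (n - 1) → H.index = 2 := by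
    intro H hH
    have h1 := Subgroup.card_mul_index H
    rw [hH, hn] at h1
    have h2 : 2 ^ n = 2 ^ (n - 1) * 2 := by rw [← pow_succ, Nat.sub_add_cancel hn1]
    rw [h2] at h1
    exact Nat.eq_of_mul_eq_mul_left (by positivity) h1
  have hH₁top : H₁ ≠ ⊤ := by
    intro h
    have := hidx H₁ hH₁
    rw [h, Subgroup.index_top] at this
    omega
  obtain ⟨x, hx⟩ : ∃ x : P, x ∉ H₁ := by
    by_contra hall
    push Not at hall
    exact hH₁top (eq_top_iff.mpr fun y _ => hall y)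
  obtain ⟨j, hj⟩ := (hP2.to_subgroup (Subgroup.zpowers x)).exists_card_eq
  have hjn : j ≤ n - 1 := by
    by_contra hlt
    push Not at hlt
    have hdvd' : 2 ^ j ∣ 2 ^ n := by
      rw [← hj, ← hn]; exact Subgroup.card_subgroup_dvd_card _
    have hjle : j ≤ n := (Nat.pow_dvd_pow_iff_le_right (by norm_num)).mp hdvd'
    have hjn' : j = n := by omega
    have htop : Subgroup.zpowers x = ⊤ :=
      (Subgroup.card_eq_iff_eq_top _).mp (by rw [hj, hjn', hn])
    apply hP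
    refine ⟨⟨fun a b => ?_⟩⟩
    have ha : a ∈ Subgroup.zpowers x := by rw [htop]; trivial
    have hb : b ∈ Subgroup.zpowers x := by rw [htop]; trivial
    obtain ⟨i, rfl⟩ := Subgroup.mem_zpowers_iff.mp ha
    obtain ⟨k, rfl⟩ := Subgroup.mem_zpowers_iff.mp hb
    exact (Commute.zpow_zpow_self x i k).eq
  obtain ⟨H₂, hH₂, hxH₂⟩ :=
    Sylow.exists_subgroup_card_pow_prime_le 2 hdvd (Subgroup.zpowers x) hj hjn
  have hne : H₁ ≠ H₂ := by
    intro h
    apply hx
    rw [h]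
    exact hxH₂ (Subgroup.mem_zpowers x)
  have hi1 := hidx H₁ hH₁
  have hi2 := hidx H₂ hH₂
  haveI hn1' : H₁.Normal := Subgroup.normal_of_index_eq_two hi1
  haveI hn2' : H₂.Normal := Subgroup.normal_of_index_eq_two hi2
  have hzH : ∀ H : Subgroup P, H.Normal → Nat.card H = 2 ^ (n - 1) → z ∈ H := by
    intro H hHn hH
    haveI := hHn
    have hHbot : H ≠ ⊥ := by
      intro hb
      rw [hb, Subgroup.card_bot] at hH
      have hn0 : n - 1 = 0 := by
        by_contra h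
        have : 2 ≤ 2 ^ (n - 1) := by
          calc 2 = 2 ^ 1 := (pow_one 2).symm
            _ ≤ 2 ^ (n - 1) := Nat.pow_le_pow_right (by norm_num) (by omega)
        omega
      have hn' : n = 1 := by omega
      rw [hn', pow_one] at hn
      haveI : IsCyclic P := isCyclic_of_prime_card (p := 2) hn
      exact hP ⟨⟨fun a b => comm_of_isCyclic a b⟩⟩
    have hne' := Cfsg.Agent.Lib.Helper1.normal_inf_center_ne_bot H hHbot
    obtain ⟨⟨w, hw⟩, hw1⟩ := (Subgroup.ne_bot_iff_exists_ne_one).mp hne'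
    obtain ⟨hwH, hwc⟩ := Subgroup.mem_inf.mp hw
    rcases hzu w hwc with h | h
    · exfalso; apply hw1; exact Subtype.ext h
    · rw [← h]; exact hwH
  refine ⟨H₁ ⊓ H₂, inferInstance, ?_, ?_, ?_⟩
  · have h1 : 2 * Nat.card (H₁ ⊓ H₂ : Subgroup P) ≤ Nat.card H₁ := by
      apply two_mul_card_le inf_le_left
      intro hle
      apply hne
      exact Subgroup.eq_of_le_of_card_ge (hle.trans inf_le_right) (by rw [hH₁, hH₂])
    have h2 : 2 * Nat.card H₁ = Nat.card P := by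
      have := Subgroup.card_mul_index H₁
      rw [hi1] at this
      omega
    omega
  · intro a
    exact Subgroup.mem_inf.mpr ⟨Subgroup.mul_self_mem_of_index_two hi1 a,
      Subgroup.mul_self_mem_of_index_two hi2 a⟩
  · exact Subgroup.mem_inf.mpr ⟨hzH H₁ hn1' hH₁, hzH H₂ hn2' hH₂⟩

/-- the same for a subgroup `P` of `S` -/
theorem exists_frattini_sub {S : Type u} [Group S] [Finite S] (hS : IsPGroup 2 S)
    (P : Subgroup S) (hP : ¬ IsMulCommutative ↥P) (z : S) (hzP : z ∈ P)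
    (hzu : ∀ x ∈ P, (∀ y ∈ P, y * x = x * y) → x = 1 ∨ x = z) :
    ∃ D : Subgroup S, D ≤ P ∧ 4 * Nat.card D ≤ Nat.card P ∧ (∀ a ∈ P, a * a ∈ D) ∧
      (∀ a ∈ P, ∀ d ∈ D, a * d * a⁻¹ ∈ D) ∧ z ∈ D := by
  obtain ⟨D', hD'n, hD'card, hD'sq, hzD'⟩ :=
    exists_frattini_like (hS.to_subgroup P) hP ⟨z, hzP⟩ (by
      intro x hx
      rcases hzu x.1 x.2 (fun y hy =>
        congrArg Subtype.val (Subgroup.mem_center_iff.mp hx ⟨y, hy⟩)) with h | h
      · left; exact Subtype.ext h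
      · right; exact Subtype.ext h)
  refine ⟨D'.map P.subtype, Subgroup.map_subtype_le _, ?_, ?_, ?_, ?_⟩
  · rw [Subgroup.card_map_of_injective (Subgroup.subtype_injective P)]; exact hD'card
  · intro a ha
    exact ⟨⟨a, ha⟩ * ⟨a, ha⟩, hD'sq _, rfl⟩
  · rintro a ha d ⟨d', hd', rfl⟩
    exact ⟨⟨a, ha⟩ * d' * ⟨a, ha⟩⁻¹, hD'n.conj_mem d' hd' ⟨a, ha⟩, rfl⟩
  · exact ⟨⟨z, hzP⟩, hzD', rfl⟩

/-- if `P ∩ Q ≠ 1` then the generator of `Z(P)` lies in `Q` -/
theorem gen_mem_of_inf_ne_bot {S : Type u} [Group S] [Finite S] (h2 : IsPGroup 2 S)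
    (P Q : Subgroup S) [P.Normal] [Q.Normal] (z : S)
    (hzu : ∀ x ∈ P, (∀ y ∈ P, y * x = x * y) → x = 1 ∨ x = z) (hI : P ⊓ Q ≠ ⊥) : z ∈ Q := by
  haveI : Fact (Nat.Prime 2) := ⟨Nat.prime_two⟩
  haveI : Group.IsNilpotent ↥P := (h2.to_subgroup P).isNilpotent
  have hNbot : (P ⊓ Q).subgroupOf P ≠ ⊥ := by
    intro hb
    apply hI
    rw [eq_bot_iff]
    intro x hx
    have hxP : x ∈ P := (Subgroup.mem_inf.mp hx).1
    have hmem : (⟨x, hxP⟩ : ↥P) ∈ (P ⊓ Q).subgroupOf P := by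
      rw [Subgroup.mem_subgroupOf]; exact hx
    rw [hb, Subgroup.mem_bot] at hmem
    rw [Subgroup.mem_bot]
    exact congrArg Subtype.val hmem
  have hne' := Cfsg.Agent.Lib.Helper1.normal_inf_center_ne_bot ((P ⊓ Q).subgroupOf P) hNbot
  obtain ⟨⟨w, hw⟩, hw1⟩ := (Subgroup.ne_bot_iff_exists_ne_one).mp hne'
  obtain ⟨hwI, hwc⟩ := Subgroup.mem_inf.mp hw
  rw [Subgroup.mem_subgroupOf] at hwI
  rcases hzu w.1 w.2 (fun y hy =>
    congrArg Subtype.val (Subgroup.mem_center_iff.mp hwc ⟨y, hy⟩)) with h | h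
  · exfalso
    apply hw1
    apply Subtype.ext
    apply Subtype.ext
    exact h
  · rw [← h]; exact (Subgroup.mem_inf.mp hwI).2

theorem main {S : Type u} [Group S] [Finite S] (h2 : IsPGroup 2 S)
    (hr : Cfsg.SectionalPRankLE 2 4 S)
    (P Q : Subgroup S) [hPn : P.Normal] [hQn : Q.Normal] (hP : ¬ IsMulCommutative ↥P)
    (hQ : ¬ IsMulCommutative ↥Q)
    (hZP : Nat.card ↥(Subgroup.center ↥P) = 2) (hZQ : Nat.card ↥(Subgroup.center ↥Q) = 2)
    (hne : (Subgroup.center ↥P).map P.subtype ≠ (Subgroup.center ↥Q).map Q.subtype) :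
    ⁅P, Q⁆ = ⊥ ∧ P ⊓ Q = ⊥ ∧
      Subgroup.centralizer ((P ⊔ Q : Subgroup S) : Set S) ≤ P ⊔ Q := by
  classical
  haveI : Fact (Nat.Prime 2) := ⟨Nat.prime_two⟩
  obtain ⟨zP, hzPP, hzP1, hzP2, hzPc, hzPu, hzPm⟩ := exists_center_gen P hZP
  obtain ⟨zQ, hzQQ, hzQ1, hzQ2, hzQc, hzQu, hzQm⟩ := exists_center_gen Q hZQ
  have hzne : zP ≠ zQ := by
    intro h
    apply hne
    ext x
    rw [hzPm, hzQm, h]
  have hPQ : P ⊓ Q = ⊥ := by
    by_contra hI
    have hI' : Q ⊓ P ≠ ⊥ := by rwa [inf_comm]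
    have h3 : zQ ∈ P := gen_mem_of_inf_ne_bot h2 Q P zQ hzQu hI'
    rcases hzPu zQ h3 (fun y _ => hzQc y) with h | h
    · exact hzQ1 h
    · exact hzne h.symm
  have hcomm : ⁅P, Q⁆ = ⊥ := by
    rw [eq_bot_iff, ← hPQ]; exact Subgroup.commutator_le_inf P Q
  have hF1 : ∀ a ∈ P, ∀ b ∈ Q, a * b = b * a := by
    intro a ha b hb
    have := (Subgroup.commutator_eq_bot_iff_le_centralizer.mp hcomm) ha
    exact ((Subgroup.mem_centralizer_iff.mp this) b hb).symm
  refine ⟨hcomm, hPQ, ?_⟩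
  by_contra hC
  obtain ⟨c, hcC, hcPQ, hccPQ⟩ := exists_sq_mem h2 _ _ hC
  have hcc : ∀ x ∈ P ⊔ Q, x * c = c * x := Subgroup.mem_centralizer_iff.mp hcC
  have hcP : ∀ a ∈ P, a * c = c * a := fun a ha => hcc a (le_sup_left (a := P) (b := Q) ha)
  have hcQ : ∀ b ∈ Q, b * c = c * b := fun b hb => hcc b (le_sup_right (a := P) (b := Q) hb)
  obtain ⟨DP, hDPP, hDPcard, hDPsq, hDPn, hzDP⟩ := exists_frattini_sub h2 P hP zP hzPP hzPu
  obtain ⟨DQ, hDQQ, hDQcard, hDQsq, hDQn, hzDQ⟩ := exists_frattini_sub h2 Q hQ zQ hzQQ hzQu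
  have hdecPQ : ∀ x ∈ P ⊔ Q, ∃ a ∈ P, ∃ b ∈ Q, x = a * b := by
    intro x hx
    have hx' : x ∈ ((P ⊔ Q : Subgroup S) : Set S) := hx
    rw [Subgroup.normal_mul] at hx'
    obtain ⟨a, ha, b, hb, rfl⟩ := Set.mem_mul.mp hx'
    exact ⟨a, ha, b, hb, rfl⟩
  -- `c²` lies in `DP ⊔ DQ`
  have hccM : c * c ∈ DP ⊔ DQ := by
    obtain ⟨a, ha, b, hb, hab⟩ := hdecPQ _ hccPQ
    have hccc : ∀ x ∈ P ⊔ Q, x * (c * c) = (c * c) * x := by
      intro x hx
      rw [← mul_assoc, hcc x hx, mul_assoc, hcc x hx, mul_assoc]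
    have haZ : ∀ y ∈ P, y * a = a * y := by
      intro y hy
      have h1 := hccc y (le_sup_left (a := P) (b := Q) hy)
      rw [hab] at h1
      have h2' := hF1 y hy b hb
      have h3 : y * a * b = a * y * b := by
        calc y * a * b = y * (a * b) := mul_assoc _ _ _
          _ = a * b * y := h1
          _ = a * (b * y) := mul_assoc _ _ _
          _ = a * (y * b) := by rw [h2']
          _ = a * y * b := (mul_assoc _ _ _).symm
      exact mul_right_cancel h3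
    have hbZ : ∀ y ∈ Q, y * b = b * y := by
      intro y hy
      have h1 := hccc y (le_sup_right (a := P) (b := Q) hy)
      rw [hab] at h1
      have h2' := hF1 a ha y hy
      have h3 : a * (y * b) = a * (b * y) := by
        calc a * (y * b) = a * y * b := (mul_assoc _ _ _).symm
          _ = y * a * b := by rw [h2']
          _ = y * (a * b) := mul_assoc _ _ _
          _ = a * b * y := h1
          _ = a * (b * y) := mul_assoc _ _ _
      exact mul_left_cancel h3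
    have ha' : a ∈ DP := by
      rcases hzPu a ha haZ with h | h
      · rw [h]; exact DP.one_mem
      · rw [h]; exact hzDP
    have hb' : b ∈ DQ := by
      rcases hzQu b hb hbZ with h | h
      · rw [h]; exact DQ.one_mem
      · rw [h]; exact hzDQ
    rw [hab]
    exact Subgroup.mul_mem _ (le_sup_left (a := DP) (b := DQ) ha')
      (le_sup_right (a := DP) (b := DQ) hb')
  have hcN : Subgroup.zpowers c ≤ Subgroup.normalizer ((P ⊔ Q : Subgroup S) : Set S) :=
    (Subgroup.zpowers_le.mpr hcC).trans (Subgroup.centralizer_le_normalizer _)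
  have hcoeK := Subgroup.coe_mul_of_right_le_normalizer_left (P ⊔ Q) (Subgroup.zpowers c) hcN
  have hdecK : ∀ k ∈ (P ⊔ Q) ⊔ Subgroup.zpowers c,
      ∃ a ∈ P, ∃ b ∈ Q, ∃ i : ℤ, k = a * b * c ^ i := by
    intro k hk
    have hk' : k ∈ (((P ⊔ Q) ⊔ Subgroup.zpowers c : Subgroup S) : Set S) := hk
    rw [hcoeK] at hk'
    obtain ⟨x, hx, w, hw, rfl⟩ := Set.mem_mul.mp hk'
    obtain ⟨i, rfl⟩ := Subgroup.mem_zpowers_iff.mp hw
    obtain ⟨a, ha, b, hb, rfl⟩ := hdecPQ x hx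
    exact ⟨a, ha, b, hb, i, rfl⟩
  have hMK : DP ⊔ DQ ≤ (P ⊔ Q) ⊔ Subgroup.zpowers c :=
    (sup_le_sup hDPP hDQQ).trans le_sup_left
  -- conjugation by `K` preserves `DP` and `DQ`
  have hconjP : ∀ k ∈ (P ⊔ Q) ⊔ Subgroup.zpowers c, ∀ d ∈ DP, k * d * k⁻¹ ∈ DP := by
    intro k hk d hd
    obtain ⟨a, ha, b, hb, i, rfl⟩ := hdecK k hk
    have hdP : d ∈ P := hDPP hd
    have h1 : Commute b d := (hF1 d hdP b hb).symm
    have h2' : Commute (c ^ i) d := ((show Commute d c from hcP d hdP).zpow_right i).symm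
    have h3 : (b * c ^ i) * d = d * (b * c ^ i) := (h1.mul_left h2').eq
    have h4 : a * b * c ^ i * d * (a * b * c ^ i)⁻¹ = a * d * a⁻¹ := by
      calc a * b * c ^ i * d * (a * b * c ^ i)⁻¹
          = a * ((b * c ^ i) * d) * (b * c ^ i)⁻¹ * a⁻¹ := by group
        _ = a * (d * (b * c ^ i)) * (b * c ^ i)⁻¹ * a⁻¹ := by rw [h3]
        _ = a * d * a⁻¹ := by group
    rw [h4]
    exact hDPn a ha d hd
  have hconjQ : ∀ k ∈ (P ⊔ Q) ⊔ Subgroup.zpowers c, ∀ d ∈ DQ, k * d * k⁻¹ ∈ DQ := by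
    intro k hk d hd
    obtain ⟨a, ha, b, hb, i, rfl⟩ := hdecK k hk
    have hdQ : d ∈ Q := hDQQ hd
    have h1 : Commute a d := hF1 a ha d hdQ
    have h2' : Commute (c ^ i) d := ((show Commute d c from hcQ d hdQ).zpow_right i).symm
    have h0 : a * b = b * a := hF1 a ha b hb
    have h3 : (a * c ^ i) * d = d * (a * c ^ i) := (h1.mul_left h2').eq
    have h4 : a * b * c ^ i * d * (a * b * c ^ i)⁻¹ = b * d * b⁻¹ := by
      calc a * b * c ^ i * d * (a * b * c ^ i)⁻¹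
          = b * a * c ^ i * d * (b * a * c ^ i)⁻¹ := by rw [h0]
        _ = b * ((a * c ^ i) * d) * (a * c ^ i)⁻¹ * b⁻¹ := by group
        _ = b * (d * (a * c ^ i)) * (a * c ^ i)⁻¹ * b⁻¹ := by rw [h3]
        _ = b * d * b⁻¹ := by group
    rw [h4]
    exact hDQn b hb d hd
  have hn : ∀ k ∈ (P ⊔ Q) ⊔ Subgroup.zpowers c, ∀ m ∈ DP ⊔ DQ, k * m * k⁻¹ ∈ DP ⊔ DQ := by
    intro k hk m hm
    have hle : (DP ⊔ DQ).map (MulAut.conj k).toMonoidHom ≤ DP ⊔ DQ := by
      rw [Subgroup.map_sup]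
      apply sup_le_sup
      · rintro _ ⟨d, hd, rfl⟩
        exact hconjP k hk d hd
      · rintro _ ⟨d, hd, rfl⟩
        exact hconjQ k hk d hd
    exact hle ⟨m, hm, rfl⟩
  have hsq : ∀ k ∈ (P ⊔ Q) ⊔ Subgroup.zpowers c, k * k ∈ DP ⊔ DQ := by
    intro k hk
    obtain ⟨a, ha, b, hb, i, rfl⟩ := hdecK k hk
    have hab : Commute a b := hF1 a ha b hb
    have hac : Commute a (c ^ i) := (show Commute a c from hcP a ha).zpow_right i
    have hbc : Commute b (c ^ i) := (show Commute b c from hcQ b hb).zpow_right i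
    have h1 : a * b * c ^ i * (a * b * c ^ i) = (a * b) * (a * b) * (c ^ i * c ^ i) :=
      Commute.mul_mul_mul_comm (hac.mul_left hbc).symm (a * b) (c ^ i)
    have h2' : (a * b) * (a * b) = (a * a) * (b * b) :=
      Commute.mul_mul_mul_comm hab.symm a b
    have h3 : c ^ i * c ^ i = (c * c) ^ i := ((Commute.refl c).mul_zpow i).symm
    rw [h1, h2', h3]
    refine Subgroup.mul_mem _ (Subgroup.mul_mem _ ?_ ?_) (Subgroup.zpow_mem _ hccM i)
    · exact le_sup_left (a := DP) (b := DQ) (hDPsq a ha)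
    · exact le_sup_right (a := DP) (b := DQ) (hDQsq b hb)
  have hA := card_le_of_sq_mem 4 hr _ _ hMK hn hsq
  -- counting
  have hK2 : 2 * Nat.card (P ⊔ Q : Subgroup S) ≤
      Nat.card ((P ⊔ Q) ⊔ Subgroup.zpowers c : Subgroup S) := by
    apply two_mul_card_le le_sup_left
    intro hle
    exact hcPQ (hle (le_sup_right (a := P ⊔ Q) (b := Subgroup.zpowers c)
      (Subgroup.mem_zpowers c)))
  have hPQcard : Nat.card (P ⊔ Q : Subgroup S) = Nat.card P * Nat.card Q := by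
    have h1 := Cfsg.Agent.Lib.Helper7.card_mul_set_mul_card_inf P Q
    rw [hPQ, Subgroup.card_bot, mul_one] at h1
    rw [← h1]
    exact Nat.card_congr (Equiv.setCongr (Subgroup.normal_mul P Q))
  have hMcard : Nat.card (DP ⊔ DQ : Subgroup S) ≤ Nat.card DP * Nat.card DQ := by
    have hnorm : DP ≤ Subgroup.normalizer (DQ : Set S) := by
      refine le_trans ?_ (Subgroup.centralizer_le_normalizer _)
      intro d hd
      rw [Subgroup.mem_centralizer_iff]
      intro e he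
      exact (hF1 d (hDPP hd) e (hDQQ he)).symm
    have hcoe := Subgroup.coe_mul_of_left_le_normalizer_right DP DQ hnorm
    have h1 := Cfsg.Agent.Lib.Helper7.card_mul_set_mul_card_inf DP DQ
    have h2' : Nat.card (DP ⊔ DQ : Subgroup S) = Nat.card ((DP : Set S) * (DQ : Set S) : Set S) :=
      Nat.card_congr (Equiv.setCongr hcoe)
    rw [h2', ← h1]
    exact Nat.le_mul_of_pos_right _ Nat.card_pos
  have hpos1 : 0 < Nat.card DP := Nat.card_pos
  have hpos2 : 0 < Nat.card DQ := Nat.card_pos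
  have h16 : 16 * (Nat.card DP * Nat.card DQ) ≤ Nat.card P * Nat.card Q := by
    calc 16 * (Nat.card DP * Nat.card DQ) = (4 * Nat.card DP) * (4 * Nat.card DQ) := by ring
      _ ≤ Nat.card P * Nat.card Q := Nat.mul_le_mul hDPcard hDQcard
  have hY : 1 ≤ Nat.card DP * Nat.card DQ := Nat.mul_pos hpos1 hpos2
  rw [hPQcard] at hK2
  obtain ⟨X, hX⟩ : ∃ X, X = Nat.card P * Nat.card Q := ⟨_, rfl⟩
  obtain ⟨Y, hYdef⟩ : ∃ Y, Y = Nat.card DP * Nat.card DQ := ⟨_, rfl⟩
  rw [← hX] at hK2 h16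
  rw [← hYdef] at h16 hY hMcard
  norm_num at hA
  omega

end Cfsg.Agent.Lib.Helper2.SectRankFour
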