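import Mathlib
import Cfsg.Prelude.Def_CaseTheorems
import Cfsg.Agent.Lib.Helper2.SectRankFour

set_option autoImplicit false

/-!
# Relative version of the `SectRankFour` main theorem, conjugation transport
-/

namespace Cfsg.Agent.Lib.Helper2.SectRankFour

open scoped Pointwise

universe u

/-- `P ≤ S₀` is normalized by `S₀`, nonabelian, with centre `{1, z}`, `z` central in `S₀` -/
structure Dat {S : Type u} [Group S] (S₀ P : Subgroup S) (z : S) : Prop where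
  le : P ≤ S₀
  norm : ∀ s ∈ S₀, ∀ x ∈ P, s * x * s⁻¹ ∈ P
  nonab : ¬ IsMulCommutative ↥P
  zmem : z ∈ P
  zne : z ≠ 1
  zcen : ∀ g ∈ S₀, g * z = z * g
  zuniq : ∀ x ∈ P, (∀ y ∈ P, y * x = x * y) → x = 1 ∨ x = z

theorem Dat.conj {S : Type u} [Group S] {S₀ P : Subgroup S} {z : S} (hP : Dat S₀ P z) (g : S)
    (hg : ∀ s ∈ S₀, g⁻¹ * s * g ∈ S₀) (hg' : ∀ s ∈ S₀, g * s * g⁻¹ ∈ S₀) :
    Dat S₀ (P.map (MulAut.conj g).toMonoidHom) (g * z * g⁻¹) where
  le := by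
    rintro _ ⟨x, hx, rfl⟩
    exact hg' x (hP.le hx)
  norm := by
    rintro s hs _ ⟨x, hx, rfl⟩
    refine ⟨(g⁻¹ * s * g) * x * (g⁻¹ * s * g)⁻¹, hP.norm _ (hg s hs) x hx, ?_⟩
    show g * ((g⁻¹ * s * g) * x * (g⁻¹ * s * g)⁻¹) * g⁻¹ = s * (g * x * g⁻¹) * s⁻¹
    group
  nonab := by
    intro h
    apply hP.nonab
    refine ⟨⟨fun a b => ?_⟩⟩
    have ha : g * a.1 * g⁻¹ ∈ P.map (MulAut.conj g).toMonoidHom := ⟨a.1, a.2, rfl⟩
    have hb : g * b.1 * g⁻¹ ∈ P.map (MulAut.conj g).toMonoidHom := ⟨b.1, b.2, rfl⟩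
    have h1 := h.is_comm.comm (⟨_, ha⟩ : ↥(P.map (MulAut.conj g).toMonoidHom)) ⟨_, hb⟩
    have h2 : (g * a.1 * g⁻¹) * (g * b.1 * g⁻¹) = (g * b.1 * g⁻¹) * (g * a.1 * g⁻¹) :=
      congrArg Subtype.val h1
    apply Subtype.ext
    show a.1 * b.1 = b.1 * a.1
    calc a.1 * b.1 = g⁻¹ * ((g * a.1 * g⁻¹) * (g * b.1 * g⁻¹)) * g := by group
      _ = g⁻¹ * ((g * b.1 * g⁻¹) * (g * a.1 * g⁻¹)) * g := by rw [h2]
      _ = b.1 * a.1 := by group
  zmem := ⟨z, hP.zmem, rfl⟩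
  zne := by
    intro h
    apply hP.zne
    calc z = g⁻¹ * (g * z * g⁻¹) * g := by group
      _ = 1 := by rw [h]; group
  zcen := by
    intro s hs
    have h1 := hP.zcen _ (hg s hs)
    calc s * (g * z * g⁻¹) = g * ((g⁻¹ * s * g) * z) * g⁻¹ := by group
      _ = g * (z * (g⁻¹ * s * g)) * g⁻¹ := by rw [h1]
      _ = g * z * g⁻¹ * s := by group
  zuniq := by
    rintro _ ⟨x, hx, rfl⟩ hc
    have hc' : ∀ y ∈ P, y * x = x * y := by
      intro y hy
      have h1 := hc (g * y * g⁻¹) ⟨y, hy, rfl⟩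
      have h2 : (g * y * g⁻¹) * (g * x * g⁻¹) = (g * x * g⁻¹) * (g * y * g⁻¹) := h1
      calc y * x = g⁻¹ * ((g * y * g⁻¹) * (g * x * g⁻¹)) * g := by group
        _ = g⁻¹ * ((g * x * g⁻¹) * (g * y * g⁻¹)) * g := by rw [h2]
        _ = x * y := by group
    rcases hP.zuniq x hx hc' with h | h
    · left
      show g * x * g⁻¹ = 1
      rw [h]; group
    · right
      show g * x * g⁻¹ = g * z * g⁻¹
      rw [h]

theorem gen_mem_of_inf_ne_bot_rel {S : Type u} [Group S] [Finite S] (h2 : IsPGroup 2 S)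
    {S₀ P Q : Subgroup S} {zP zQ : S} (hP : Dat S₀ P zP) (hQ : Dat S₀ Q zQ)
    (hI : P ⊓ Q ≠ ⊥) : zP ∈ Q := by
  haveI : Fact (Nat.Prime 2) := ⟨Nat.prime_two⟩
  haveI : Group.IsNilpotent ↥P := (h2.to_subgroup P).isNilpotent
  haveI hNn : ((P ⊓ Q).subgroupOf P).Normal := by
    constructor
    intro n hn g
    rw [Subgroup.mem_subgroupOf] at hn ⊢
    rw [Subgroup.coe_mul, Subgroup.coe_mul, Subgroup.coe_inv]
    exact Subgroup.mem_inf.mpr ⟨P.mul_mem (P.mul_mem g.2 n.2) (P.inv_mem g.2),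
      hQ.norm g.1 (hP.le g.2) n.1 (Subgroup.mem_inf.mp hn).2⟩
  have hNbot : (P ⊓ Q).subgroupOf P ≠ ⊥ := by
    intro hb
    apply hI
    rw [eq_bot_iff]
    intro x hx
    have hxP : x ∈ P := (Subgroup.mem_inf.mp hx).1
    have hmem : (⟨x, hxP⟩ : ↥P) ∈ (P ⊓ Q).subgroupOf P := by
      rw [Subgroup.mem_subgroupOf]; exact hx
    rw [hb, Subgroup.mem_bot] at hmem
    rw [Subgroup.mem_bot]
    exact congrArg Subtype.val hmem
  have hne' := Cfsg.Agent.Lib.Helper1.normal_inf_center_ne_bot ((P ⊓ Q).subgroupOf P) hNbot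
  obtain ⟨⟨w, hw⟩, hw1⟩ := (Subgroup.ne_bot_iff_exists_ne_one).mp hne'
  obtain ⟨hwI, hwc⟩ := Subgroup.mem_inf.mp hw
  rw [Subgroup.mem_subgroupOf] at hwI
  rcases hP.zuniq w.1 w.2 (fun y hy =>
    congrArg Subtype.val (Subgroup.mem_center_iff.mp hwc ⟨y, hy⟩)) with h | h
  · exfalso
    apply hw1
    apply Subtype.ext
    apply Subtype.ext
    exact h
  · rw [← h]; exact (Subgroup.mem_inf.mp hwI).2

/-- the counting argument: a subgroup `K ≥ PQ` all of whose squares lie in `DP·DQ` and which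
normalizes `DP` and `DQ` equals `PQ` -/
theorem rank_bound {S : Type u} [Group S] [Finite S] (hr : Cfsg.SectionalPRankLE 2 4 S)
    (P Q DP DQ K : Subgroup S) (hF1 : ∀ a ∈ P, ∀ b ∈ Q, a * b = b * a) (hPQ : P ⊓ Q = ⊥)
    (hDPP : DP ≤ P) (hDQQ : DQ ≤ Q) (hDPcard : 4 * Nat.card DP ≤ Nat.card P)
    (hDQcard : 4 * Nat.card DQ ≤ Nat.card Q) (hK : P ⊔ Q ≤ K)
    (hconjP : ∀ k ∈ K, ∀ d ∈ DP, k * d * k⁻¹ ∈ DP)
    (hconjQ : ∀ k ∈ K, ∀ d ∈ DQ, k * d * k⁻¹ ∈ DQ)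
    (hsq : ∀ k ∈ K, k * k ∈ DP ⊔ DQ) : K ≤ P ⊔ Q := by
  by_contra hKle
  have hMK : DP ⊔ DQ ≤ K := (sup_le_sup hDPP hDQQ).trans hK
  have hn : ∀ k ∈ K, ∀ m ∈ DP ⊔ DQ, k * m * k⁻¹ ∈ DP ⊔ DQ := by
    intro k hk m hm
    have hle : (DP ⊔ DQ).map (MulAut.conj k).toMonoidHom ≤ DP ⊔ DQ := by
      rw [Subgroup.map_sup]
      apply sup_le_sup
      · rintro _ ⟨d, hd, rfl⟩
        exact hconjP k hk d hd
      · rintro _ ⟨d, hd, rfl⟩
        exact hconjQ k hk d hd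
    exact hle ⟨m, hm, rfl⟩
  have hA := card_le_of_sq_mem 4 hr _ _ hMK hn hsq
  have hK2 : 2 * Nat.card (P ⊔ Q : Subgroup S) ≤ Nat.card K := two_mul_card_le hK hKle
  have hPQcard : Nat.card (P ⊔ Q : Subgroup S) = Nat.card P * Nat.card Q := by
    have hnorm : P ≤ Subgroup.normalizer (Q : Set S) := by
      refine le_trans ?_ (Subgroup.centralizer_le_normalizer _)
      intro d hd
      rw [Subgroup.mem_centralizer_iff]
      intro e he
      exact (hF1 d hd e he).symm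
    have hcoe := Subgroup.coe_mul_of_left_le_normalizer_right P Q hnorm
    have h1 := Cfsg.Agent.Lib.Helper7.card_mul_set_mul_card_inf P Q
    rw [hPQ, Subgroup.card_bot, mul_one] at h1
    rw [← h1]
    exact Nat.card_congr (Equiv.setCongr hcoe)
  have hMcard : Nat.card (DP ⊔ DQ : Subgroup S) ≤ Nat.card DP * Nat.card DQ := by
    have hnorm : DP ≤ Subgroup.normalizer (DQ : Set S) := by
      refine le_trans ?_ (Subgroup.centralizer_le_normalizer _)
      intro d hd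
      rw [Subgroup.mem_centralizer_iff]
      intro e he
      exact (hF1 d (hDPP hd) e (hDQQ he)).symm
    have hcoe := Subgroup.coe_mul_of_left_le_normalizer_right DP DQ hnorm
    have h1 := Cfsg.Agent.Lib.Helper7.card_mul_set_mul_card_inf DP DQ
    have h2' : Nat.card (DP ⊔ DQ : Subgroup S) =
        Nat.card ((DP : Set S) * (DQ : Set S) : Set S) :=
      Nat.card_congr (Equiv.setCongr hcoe)
    rw [h2', ← h1]
    exact Nat.le_mul_of_pos_right _ Nat.card_pos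
  have hpos1 : 0 < Nat.card DP := Nat.card_pos
  have hpos2 : 0 < Nat.card DQ := Nat.card_pos
  have h16 : 16 * (Nat.card DP * Nat.card DQ) ≤ Nat.card P * Nat.card Q := by
    calc 16 * (Nat.card DP * Nat.card DQ) = (4 * Nat.card DP) * (4 * Nat.card DQ) := by ring
      _ ≤ Nat.card P * Nat.card Q := Nat.mul_le_mul hDPcard hDQcard
  have hY : 1 ≤ Nat.card DP * Nat.card DQ := Nat.mul_pos hpos1 hpos2
  rw [hPQcard] at hK2
  obtain ⟨X, hX⟩ : ∃ X, X = Nat.card P * Nat.card Q := ⟨_, rfl⟩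
  obtain ⟨Y, hYdef⟩ : ∃ Y, Y = Nat.card DP * Nat.card DQ := ⟨_, rfl⟩
  rw [← hX] at hK2 h16
  rw [← hYdef] at h16 hY hMcard
  norm_num at hA
  omega

/-- decomposition of elements of `P ⊔ Q` for commuting `P`, `Q` -/
theorem exists_mul_of_mem_sup {S : Type u} [Group S] (P Q : Subgroup S)
    (hF1 : ∀ a ∈ P, ∀ b ∈ Q, a * b = b * a) :
    ∀ x ∈ P ⊔ Q, ∃ a ∈ P, ∃ b ∈ Q, x = a * b := by
  intro x hx
  have hnorm : P ≤ Subgroup.normalizer (Q : Set S) := by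
    refine le_trans ?_ (Subgroup.centralizer_le_normalizer _)
    intro d hd
    rw [Subgroup.mem_centralizer_iff]
    intro e he
    exact (hF1 d hd e he).symm
  have hx' : x ∈ ((P ⊔ Q : Subgroup S) : Set S) := hx
  rw [Subgroup.coe_mul_of_left_le_normalizer_right P Q hnorm] at hx'
  obtain ⟨a, ha, b, hb, rfl⟩ := Set.mem_mul.mp hx'
  exact ⟨a, ha, b, hb, rfl⟩

theorem main_rel {S : Type u} [Group S] [Finite S] (h2 : IsPGroup 2 S)
    (hr : Cfsg.SectionalPRankLE 2 4 S) {S₀ P Q : Subgroup S} {zP zQ : S}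
    (hP : Dat S₀ P zP) (hQ : Dat S₀ Q zQ) (hzne : zP ≠ zQ) :
    (∀ a ∈ P, ∀ b ∈ Q, a * b = b * a) ∧ P ⊓ Q = ⊥ ∧
      ∀ c ∈ S₀, (∀ a ∈ P, a * c = c * a) → (∀ b ∈ Q, b * c = c * b) → c ∈ P ⊔ Q := by
  classical
  haveI : Fact (Nat.Prime 2) := ⟨Nat.prime_two⟩
  have hPQ : P ⊓ Q = ⊥ := by
    by_contra hI
    have hI' : Q ⊓ P ≠ ⊥ := by rwa [inf_comm]
    have h3 : zQ ∈ P := gen_mem_of_inf_ne_bot_rel h2 hQ hP hI'
    rcases hP.zuniq zQ h3 (fun y hy => hQ.zcen y (hP.le hy)) with h | h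
    · exact hQ.zne h
    · exact hzne h.symm
  have hF1 : ∀ a ∈ P, ∀ b ∈ Q, a * b = b * a := by
    intro a ha b hb
    have h1 : a * b * a⁻¹ * b⁻¹ ∈ P ⊓ Q := by
      refine Subgroup.mem_inf.mpr ⟨?_, ?_⟩
      · have : a * b * a⁻¹ * b⁻¹ = a * (b * a⁻¹ * b⁻¹) := by group
        rw [this]
        exact P.mul_mem ha (hP.norm b (hQ.le hb) a⁻¹ (P.inv_mem ha))
      · exact Q.mul_mem (hQ.norm a (hP.le ha) b hb) (Q.inv_mem hb)
    rw [hPQ, Subgroup.mem_bot] at h1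
    calc a * b = (a * b * a⁻¹ * b⁻¹) * (b * a) := by group
      _ = b * a := by rw [h1, one_mul]
  refine ⟨hF1, hPQ, ?_⟩
  intro c₁ hc₁S hc₁P hc₁Q
  by_contra hc₁
  have hC : ¬ (Subgroup.centralizer (P : Set S) ⊓ Subgroup.centralizer (Q : Set S)) ≤ P ⊔ Q := by
    intro hle
    apply hc₁
    apply hle
    exact Subgroup.mem_inf.mpr ⟨Subgroup.mem_centralizer_iff.mpr hc₁P,
      Subgroup.mem_centralizer_iff.mpr hc₁Q⟩
  obtain ⟨c, hcC, hcPQ, hccPQ⟩ := exists_sq_mem h2 _ _ hC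
  have hcP : ∀ a ∈ P, a * c = c * a := Subgroup.mem_centralizer_iff.mp (Subgroup.mem_inf.mp hcC).1
  have hcQ : ∀ b ∈ Q, b * c = c * b := Subgroup.mem_centralizer_iff.mp (Subgroup.mem_inf.mp hcC).2
  obtain ⟨DP, hDPP, hDPcard, hDPsq, hDPn, hzDP⟩ :=
    exists_frattini_sub h2 P hP.nonab zP hP.zmem hP.zuniq
  obtain ⟨DQ, hDQQ, hDQcard, hDQsq, hDQn, hzDQ⟩ :=
    exists_frattini_sub h2 Q hQ.nonab zQ hQ.zmem hQ.zuniq
  have hdecPQ := exists_mul_of_mem_sup P Q hF1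
  have hcc : ∀ x ∈ P ⊔ Q, x * c = c * x := by
    intro x hx
    obtain ⟨a, ha, b, hb, rfl⟩ := hdecPQ x hx
    rw [mul_assoc, hcQ b hb, ← mul_assoc, hcP a ha, mul_assoc]
  have hccM : c * c ∈ DP ⊔ DQ := by
    obtain ⟨a, ha, b, hb, hab⟩ := hdecPQ _ hccPQ
    have hccc : ∀ x ∈ P ⊔ Q, x * (c * c) = (c * c) * x := by
      intro x hx
      rw [← mul_assoc, hcc x hx, mul_assoc, hcc x hx, mul_assoc]
    have haZ : ∀ y ∈ P, y * a = a * y := by
      intro y hy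
      have h1 := hccc y (le_sup_left (a := P) (b := Q) hy)
      rw [hab] at h1
      have h2' := hF1 y hy b hb
      have h3 : y * a * b = a * y * b := by
        calc y * a * b = y * (a * b) := mul_assoc _ _ _
          _ = a * b * y := h1
          _ = a * (b * y) := mul_assoc _ _ _
          _ = a * (y * b) := by rw [h2']
          _ = a * y * b := (mul_assoc _ _ _).symm
      exact mul_right_cancel h3
    have hbZ : ∀ y ∈ Q, y * b = b * y := by
      intro y hy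
      have h1 := hccc y (le_sup_right (a := P) (b := Q) hy)
      rw [hab] at h1
      have h2' := hF1 a ha y hy
      have h3 : a * (y * b) = a * (b * y) := by
        calc a * (y * b) = a * y * b := (mul_assoc _ _ _).symm
          _ = y * a * b := by rw [h2']
          _ = y * (a * b) := mul_assoc _ _ _
          _ = a * b * y := h1
          _ = a * (b * y) := mul_assoc _ _ _
      exact mul_left_cancel h3
    have ha' : a ∈ DP := by
      rcases hP.zuniq a ha haZ with h | h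
      · rw [h]; exact DP.one_mem
      · rw [h]; exact hzDP
    have hb' : b ∈ DQ := by
      rcases hQ.zuniq b hb hbZ with h | h
      · rw [h]; exact DQ.one_mem
      · rw [h]; exact hzDQ
    rw [hab]
    exact Subgroup.mul_mem _ (le_sup_left (a := DP) (b := DQ) ha')
      (le_sup_right (a := DP) (b := DQ) hb')
  have hcC' : c ∈ Subgroup.centralizer ((P ⊔ Q : Subgroup S) : Set S) :=
    Subgroup.mem_centralizer_iff.mpr hcc
  have hcN : Subgroup.zpowers c ≤ Subgroup.normalizer ((P ⊔ Q : Subgroup S) : Set S) :=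
    (Subgroup.zpowers_le.mpr hcC').trans (Subgroup.centralizer_le_normalizer _)
  have hcoeK := Subgroup.coe_mul_of_right_le_normalizer_left (P ⊔ Q) (Subgroup.zpowers c) hcN
  have hdecK : ∀ k ∈ (P ⊔ Q) ⊔ Subgroup.zpowers c,
      ∃ a ∈ P, ∃ b ∈ Q, ∃ i : ℤ, k = a * b * c ^ i := by
    intro k hk
    have hk' : k ∈ (((P ⊔ Q) ⊔ Subgroup.zpowers c : Subgroup S) : Set S) := hk
    rw [hcoeK] at hk'
    obtain ⟨x, hx, w, hw, rfl⟩ := Set.mem_mul.mp hk'
    obtain ⟨i, rfl⟩ := Subgroup.mem_zpowers_iff.mp hw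
    obtain ⟨a, ha, b, hb, rfl⟩ := hdecPQ x hx
    exact ⟨a, ha, b, hb, i, rfl⟩
  have hconjP : ∀ k ∈ (P ⊔ Q) ⊔ Subgroup.zpowers c, ∀ d ∈ DP, k * d * k⁻¹ ∈ DP := by
    intro k hk d hd
    obtain ⟨a, ha, b, hb, i, rfl⟩ := hdecK k hk
    have hdP : d ∈ P := hDPP hd
    have h1 : Commute b d := (hF1 d hdP b hb).symm
    have h2' : Commute (c ^ i) d := ((show Commute d c from hcP d hdP).zpow_right i).symm
    have h3 : (b * c ^ i) * d = d * (b * c ^ i) := (h1.mul_left h2').eq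
    have h4 : a * b * c ^ i * d * (a * b * c ^ i)⁻¹ = a * d * a⁻¹ := by
      calc a * b * c ^ i * d * (a * b * c ^ i)⁻¹
          = a * ((b * c ^ i) * d) * (b * c ^ i)⁻¹ * a⁻¹ := by group
        _ = a * (d * (b * c ^ i)) * (b * c ^ i)⁻¹ * a⁻¹ := by rw [h3]
        _ = a * d * a⁻¹ := by group
    rw [h4]
    exact hDPn a ha d hd
  have hconjQ : ∀ k ∈ (P ⊔ Q) ⊔ Subgroup.zpowers c, ∀ d ∈ DQ, k * d * k⁻¹ ∈ DQ := by
    intro k hk d hd
    obtain ⟨a, ha, b, hb, i, rfl⟩ := hdecK k hk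
    have hdQ : d ∈ Q := hDQQ hd
    have h1 : Commute a d := hF1 a ha d hdQ
    have h2' : Commute (c ^ i) d := ((show Commute d c from hcQ d hdQ).zpow_right i).symm
    have h0 : a * b = b * a := hF1 a ha b hb
    have h3 : (a * c ^ i) * d = d * (a * c ^ i) := (h1.mul_left h2').eq
    have h4 : a * b * c ^ i * d * (a * b * c ^ i)⁻¹ = b * d * b⁻¹ := by
      calc a * b * c ^ i * d * (a * b * c ^ i)⁻¹
          = b * a * c ^ i * d * (b * a * c ^ i)⁻¹ := by rw [h0]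
        _ = b * ((a * c ^ i) * d) * (a * c ^ i)⁻¹ * b⁻¹ := by group
        _ = b * (d * (a * c ^ i)) * (a * c ^ i)⁻¹ * b⁻¹ := by rw [h3]
        _ = b * d * b⁻¹ := by group
    rw [h4]
    exact hDQn b hb d hd
  have hsq : ∀ k ∈ (P ⊔ Q) ⊔ Subgroup.zpowers c, k * k ∈ DP ⊔ DQ := by
    intro k hk
    obtain ⟨a, ha, b, hb, i, rfl⟩ := hdecK k hk
    have hab : Commute a b := hF1 a ha b hb
    have hac : Commute a (c ^ i) := (show Commute a c from hcP a ha).zpow_right i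
    have hbc : Commute b (c ^ i) := (show Commute b c from hcQ b hb).zpow_right i
    have h1 : a * b * c ^ i * (a * b * c ^ i) = (a * b) * (a * b) * (c ^ i * c ^ i) :=
      Commute.mul_mul_mul_comm (hac.mul_left hbc).symm (a * b) (c ^ i)
    have h2' : (a * b) * (a * b) = (a * a) * (b * b) :=
      Commute.mul_mul_mul_comm hab.symm a b
    have h3 : c ^ i * c ^ i = (c * c) ^ i := ((Commute.refl c).mul_zpow i).symm
    rw [h1, h2', h3]
    refine Subgroup.mul_mem _ (Subgroup.mul_mem _ ?_ ?_) (Subgroup.zpow_mem _ hccM i)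
    · exact le_sup_left (a := DP) (b := DQ) (hDPsq a ha)
    · exact le_sup_right (a := DP) (b := DQ) (hDQsq b hb)
  have hle := rank_bound hr P Q DP DQ _ hF1 hPQ hDPP hDQQ hDPcard hDQcard le_sup_left
    hconjP hconjQ hsq
  exact hcPQ (hle (le_sup_right (a := P ⊔ Q) (b := Subgroup.zpowers c)
    (Subgroup.mem_zpowers c)))

end Cfsg.Agent.Lib.Helper2.SectRankFour
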