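import Mathlib
import Cfsg.Prelude.Def_CaseTheorems
import Cfsg.Agent.Lib.Helper2.SectRankFourB
import Cfsg.Agent.Lib.Helper2.S168D

set_option autoImplicit false

/-!
# Nonabelian `P` with centre of order 2, normal in `S₀ = C_S(Z(P))`, sectional rank at most 4
-/

namespace Cfsg.Agent.Lib.Helper2.SectRankFour

open scoped Pointwise

universe u

theorem exists_center_gen' {S : Type u} [Group S] (P : Subgroup S)
    (hZP : Nat.card (Subgroup.center ↥P) = 2) :
    ∃ z : S, z ∈ P ∧ z ≠ 1 ∧ z * z = 1 ∧ (∀ y ∈ P, y * z = z * y) ∧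
      (∀ x ∈ P, (∀ y ∈ P, y * x = x * y) → x = 1 ∨ x = z) ∧
      (∀ x : S, x ∈ (Subgroup.center ↥P).map P.subtype ↔ x = 1 ∨ x = z) := by
  obtain ⟨w, hw1, hwu⟩ := (Nat.card_eq_two_iff' (1 : Subgroup.center ↥P)).mp hZP
  have hu : ∀ x ∈ P, (∀ y ∈ P, y * x = x * y) → x = 1 ∨ x = ((w : ↥P) : S) := by
    intro x hx hc
    have hxc : (⟨x, hx⟩ : ↥P) ∈ Subgroup.center ↥P := by
      rw [Subgroup.mem_center_iff]
      intro g
      exact Subtype.ext (hc g.1 g.2)
    by_cases h1 : x = 1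
    · exact Or.inl h1
    · right
      have h2 := hwu ⟨⟨x, hx⟩, hxc⟩ (by
        intro h
        apply h1
        exact congrArg (fun t : Subgroup.center ↥P => ((t : ↥P) : S)) h)
      exact congrArg (fun t : Subgroup.center ↥P => ((t : ↥P) : S)) h2
  have hwP : ((w : ↥P) : S) ∈ P := (w : ↥P).2
  have hw1' : ((w : ↥P) : S) ≠ 1 := by
    intro h
    apply hw1
    apply Subtype.ext
    apply Subtype.ext
    exact h
  have hwc : ∀ y ∈ P, y * ((w : ↥P) : S) = ((w : ↥P) : S) * y := by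
    intro y hy
    have := Subgroup.mem_center_iff.mp w.2 ⟨y, hy⟩
    exact congrArg Subtype.val this
  obtain ⟨z, hz⟩ : ∃ z : S, z = ((w : ↥P) : S) := ⟨_, rfl⟩
  rw [← hz] at hu hwP hw1' hwc
  have hzz : z * z = 1 := by
    have hc : ∀ y ∈ P, y * (z * z) = (z * z) * y := by
      intro y hy
      rw [← mul_assoc, hwc y hy, mul_assoc, hwc y hy, mul_assoc]
    rcases hu _ (P.mul_mem hwP hwP) hc with h | h
    · exact h
    · exfalso
      apply hw1'
      have : z * z = z * 1 := by rw [h, mul_one]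
      exact mul_left_cancel this
  refine ⟨z, hwP, hw1', hzz, hwc, hu, ?_⟩
  intro x
  constructor
  · rintro ⟨y, hy, rfl⟩
    apply hu _ y.2
    intro t ht
    have := Subgroup.mem_center_iff.mp hy ⟨t, ht⟩
    exact congrArg Subtype.val this
  · rintro (rfl | rfl)
    · exact Subgroup.one_mem _
    · exact ⟨(w : ↥P), w.2, hz.symm⟩

theorem norm_facts {S : Type u} [Group S] (S₀ : Subgroup S) (g : S)
    (hg : g ∈ Subgroup.normalizer (S₀ : Set S)) :
    (∀ s ∈ S₀, g⁻¹ * s * g ∈ S₀) ∧ (∀ s ∈ S₀, g * s * g⁻¹ ∈ S₀) := by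
  have h := Subgroup.mem_normalizer_iff.mp hg
  refine ⟨fun s hs => ?_, fun s hs => (h s).mp hs⟩
  rw [h (g⁻¹ * s * g)]
  have : g * (g⁻¹ * s * g) * g⁻¹ = s := by group
  rw [this]; exact hs

theorem ne_conj_of_not_mem {S : Type u} [Group S] {S₀ : Subgroup S} {z : S}
    (hS₀ : ∀ s, s ∈ S₀ ↔ s * z = z * s) {g : S} (hgS : g ∉ S₀) : z ≠ g * z * g⁻¹ := by
  intro he
  apply hgS
  rw [hS₀]
  calc g * z = (g * z * g⁻¹) * g := by group
    _ = z * g := by rw [← he]

/-- all elements of `N_S(S₀) ∖ S₀` conjugate `z` to the same element -/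
theorem conj_gen_eq {S : Type u} [Group S] [Finite S] (h2 : IsPGroup 2 S)
    (hr : Cfsg.SectionalPRankLE 2 4 S) {S₀ P : Subgroup S} {z : S} (hP : Dat S₀ P z)
    (hS₀ : ∀ s, s ∈ S₀ ↔ s * z = z * s) (g h : S)
    (hg : g ∈ Subgroup.normalizer (S₀ : Set S)) (hh : h ∈ Subgroup.normalizer (S₀ : Set S))
    (hgS : g ∉ S₀) (hhS : h ∉ S₀) : g * z * g⁻¹ = h * z * h⁻¹ := by
  by_contra hne
  obtain ⟨hg1, hg2⟩ := norm_facts S₀ g hg
  obtain ⟨hh1, hh2⟩ := norm_facts S₀ h hh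
  have Dg := hP.conj g hg1 hg2
  have Dh := hP.conj h hh1 hh2
  have hzg : z ≠ g * z * g⁻¹ := ne_conj_of_not_mem hS₀ hgS
  have hzh : z ≠ h * z * h⁻¹ := ne_conj_of_not_mem hS₀ hhS
  obtain ⟨m1c, m1i, m1z⟩ := main_rel h2 hr hP Dg hzg
  obtain ⟨m2c, _, _⟩ := main_rel h2 hr hP Dh hzh
  obtain ⟨m3c, _, _⟩ := main_rel h2 hr Dg Dh hne
  apply Dh.nonab
  refine ⟨⟨fun a b => Subtype.ext ?_⟩⟩
  show a.1 * b.1 = b.1 * a.1
  have ha : a.1 ∈ P ⊔ P.map (MulAut.conj g).toMonoidHom :=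
    m1z a.1 (Dh.le a.2) (fun p hp => m2c p hp a.1 a.2) (fun q hq => m3c q hq a.1 a.2)
  have hb : P ⊔ P.map (MulAut.conj g).toMonoidHom ≤ Subgroup.centralizer ({b.1} : Set S) := by
    apply sup_le
    · intro p hp
      rw [Subgroup.mem_centralizer_singleton_iff]
      exact m2c p hp b.1 b.2
    · intro q hq
      rw [Subgroup.mem_centralizer_singleton_iff]
      exact m3c q hq b.1 b.2
  exact Subgroup.mem_centralizer_singleton_iff.mp (hb ha)

/-- an involution `w` normalizing `P`, centralizing all squares of `P`, whose centralizer in `P`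
has index at most 2, acts on `P` by `p ↦ p` or `p ↦ p z` -/
theorem conj_eq_or {S : Type u} [Group S] (P : Subgroup S) (z w : S) (hww : w * w = 1)
    (hwP : ∀ p ∈ P, w * p * w⁻¹ ∈ P)
    (hzu : ∀ x ∈ P, (∀ y ∈ P, y * x = x * y) → x = 1 ∨ x = z)
    (hsq : ∀ p ∈ P, (p * p) * w = w * (p * p))
    (hidx : ∀ g ∈ P, ∀ h ∈ P, g * w ≠ w * g → h * w ≠ w * h →
      (h⁻¹ * g) * w = w * (h⁻¹ * g)) :
    ∀ p ∈ P, w * p * w⁻¹ = p ∨ w * p * w⁻¹ = p * z := by
  by_cases hall : ∀ p ∈ P, p * w = w * p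
  · intro p hp
    left
    rw [← hall p hp]; group
  push Not at hall
  obtain ⟨b, hbP, hbw⟩ := hall
  obtain ⟨c, hc⟩ : ∃ c, c = b⁻¹ * (w * b * w⁻¹) := ⟨_, rfl⟩
  have hcP : c ∈ P := by rw [hc]; exact P.mul_mem (P.inv_mem hbP) (hwP b hbP)
  have hbc : w * b * w⁻¹ = b * c := by rw [hc]; group
  have hinv_ne : ∀ q : S, q * w ≠ w * q → q⁻¹ * w ≠ w * q⁻¹ := by
    intro q hq h
    apply hq
    calc q * w = q * (w * q⁻¹) * q := by group
      _ = q * (q⁻¹ * w) * q := by rw [h]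
      _ = w * q := by group
  have hstar : ∀ q ∈ P, q * w ≠ w * q → w * q * w⁻¹ = q * c := by
    intro q hq hqw
    have h1 := hidx b⁻¹ (P.inv_mem hbP) q⁻¹ (P.inv_mem hq) (hinv_ne b hbw) (hinv_ne q hqw)
    rw [inv_inv] at h1
    calc w * q * w⁻¹ = (w * (q * b⁻¹)) * b * w⁻¹ := by group
      _ = ((q * b⁻¹) * w) * b * w⁻¹ := by rw [h1]
      _ = q * (b⁻¹ * (w * b * w⁻¹)) := by group
      _ = q * c := by rw [hc]
  have hcw : c * w = w * c := by
    have hg' : (w * b * w⁻¹) * w ≠ w * (w * b * w⁻¹) := by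
      intro h
      apply hbw
      have h3 : w * b = w * (w * b * w⁻¹) := by rw [← h]; group
      have h4 : b = w * b * w⁻¹ := mul_left_cancel h3
      calc b * w = (w * b * w⁻¹) * w := by rw [← h4]
        _ = w * b := by group
    have := hidx _ (hwP b hbP) b hbP hg' hbw
    rw [← hc] at this
    exact this
  have hwc : w * c * w⁻¹ = c := by rw [← hcw]; group
  have hcc : c * c = 1 := by
    have h3 : w * (w * b * w⁻¹) * w⁻¹ = b := by
      calc w * (w * b * w⁻¹) * w⁻¹ = (w * w) * b * (w * w)⁻¹ := by group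
        _ = b := by rw [hww]; group
    rw [hbc] at h3
    have h4 : w * (b * c) * w⁻¹ = (w * b * w⁻¹) * (w * c * w⁻¹) := by group
    rw [h4, hbc, hwc] at h3
    have : b * (c * c) = b * 1 := by rw [mul_one, ← mul_assoc]; exact h3
    exact mul_left_cancel this
  have hc0 : ∀ p ∈ P, p * w = w * p → p * c = c * p := by
    intro p hp hpw
    have hbp : (b * p) * w ≠ w * (b * p) := by
      intro h
      apply hbw
      have : b * w * p = w * b * p := by
        calc b * w * p = b * (w * p) := mul_assoc _ _ _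
          _ = b * (p * w) := by rw [hpw]
          _ = (b * p) * w := by group
          _ = w * (b * p) := h
          _ = w * b * p := by group
      exact mul_right_cancel this
    have h1 := hstar (b * p) (P.mul_mem hbP hp) hbp
    have h2 : w * (b * p) * w⁻¹ = (w * b * w⁻¹) * (w * p * w⁻¹) := by group
    have h3 : w * p * w⁻¹ = p := by rw [← hpw]; group
    rw [h2, h3, hbc] at h1
    have : b * (c * p) = b * (p * c) := by rw [← mul_assoc, ← mul_assoc]; exact h1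
    exact (mul_left_cancel this).symm
  have hcb : b * c = c * b := by
    have h1 := hsq b hbP
    have h2 : w * (b * b) * w⁻¹ = b * b := by rw [← h1]; group
    have h3 : w * (b * b) * w⁻¹ = (w * b * w⁻¹) * (w * b * w⁻¹) := by group
    rw [h3, hbc] at h2
    have h5 : c * b * c = b := by
      have : b * (c * b * c) = b * b := by
        calc b * (c * b * c) = b * c * (b * c) := by group
          _ = b * b := h2
      exact mul_left_cancel this
    calc b * c = (c * b * c) * c := by rw [h5]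
      _ = c * b * (c * c) := by group
      _ = c * b := by rw [hcc, mul_one]
  have hccen : ∀ y ∈ P, y * c = c * y := by
    intro y hy
    by_cases hyw : y * w = w * y
    · exact hc0 y hy hyw
    · have h1 := hidx y hy b hbP hyw hbw
      have h2 := hc0 (b⁻¹ * y) (P.mul_mem (P.inv_mem hbP) hy) h1
      calc y * c = b * ((b⁻¹ * y) * c) := by group
        _ = b * (c * (b⁻¹ * y)) := by rw [h2]
        _ = (b * c) * (b⁻¹ * y) := by group
        _ = (c * b) * (b⁻¹ * y) := by rw [hcb]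
        _ = c * y := by group
  have hcz : c = z := by
    rcases hzu c hcP hccen with h | h
    · exfalso
      apply hbw
      have h6 : w * b * w⁻¹ = b := by rw [hbc, h, mul_one]
      calc b * w = (w * b * w⁻¹) * w := by rw [h6]
        _ = w * b := by group
    · exact h
  intro p hp
  by_cases hpw : p * w = w * p
  · left
    rw [← hpw]; group
  · right
    rw [← hcz]; exact hstar p hp hpw

/-- an involution of `S₀` acting as in `conj_eq_or` on `P` and `Q` lies in `P ⊔ Q` -/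
theorem involution_mem_sup {S : Type u} [Group S] [Finite S] (h2 : IsPGroup 2 S)
    (hr : Cfsg.SectionalPRankLE 2 4 S) {S₀ P Q : Subgroup S} {zP zQ : S}
    (hP : Dat S₀ P zP) (hQ : Dat S₀ Q zQ)
    (mc : ∀ a ∈ P, ∀ b ∈ Q, a * b = b * a) (mi : P ⊓ Q = ⊥)
    (w : S) (hwS : w ∈ S₀) (hww : w * w = 1)
    (LP : ∀ p ∈ P, w * p * w⁻¹ = p ∨ w * p * w⁻¹ = p * zP)
    (LQ : ∀ q ∈ Q, w * q * w⁻¹ = q ∨ w * q * w⁻¹ = q * zQ) : w ∈ P ⊔ Q := by
  classical
  obtain ⟨DP, hDPP, hDPcard, hDPsq, hDPn, hzDP⟩ :=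
    exists_frattini_sub h2 P hP.nonab zP hP.zmem hP.zuniq
  obtain ⟨DQ, hDQQ, hDQcard, hDQsq, hDQn, hzDQ⟩ :=
    exists_frattini_sub h2 Q hQ.nonab zQ hQ.zmem hQ.zuniq
  have hdecPQ := exists_mul_of_mem_sup P Q mc
  have hwinv : w⁻¹ = w := inv_eq_of_mul_eq_one_left hww
  have hwpow : ∀ i : ℤ, w ^ i = 1 ∨ w ^ i = w := by
    intro i
    have h1 : w ^ i = w ^ (i % 2) := by
      conv_lhs => rw [← Int.emod_add_mul_ediv i 2]
      rw [zpow_add, zpow_mul]
      have : w ^ (2 : ℤ) = 1 := by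
        rw [show (2 : ℤ) = ((2 : ℕ) : ℤ) from rfl, zpow_natCast, pow_two]; exact hww
      rw [this, one_zpow, mul_one]
    rcases Int.emod_two_eq_zero_or_one i with h | h
    · left; rw [h1, h, zpow_zero]
    · right; rw [h1, h, zpow_one]
  have hS₀N : S₀ ≤ Subgroup.normalizer ((P ⊔ Q : Subgroup S) : Set S) := by
    rw [Subgroup.le_normalizer_iff]
    intro s hs r hr'
    obtain ⟨a, ha, b, hb, rfl⟩ := hdecPQ r hr'
    have : s * (a * b) * s⁻¹ = (s * a * s⁻¹) * (s * b * s⁻¹) := by group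
    rw [this]
    exact Subgroup.mul_mem _ (le_sup_left (a := P) (b := Q) (hP.norm s hs a ha))
      (le_sup_right (a := P) (b := Q) (hQ.norm s hs b hb))
  have hwN : Subgroup.zpowers w ≤ Subgroup.normalizer ((P ⊔ Q : Subgroup S) : Set S) :=
    (Subgroup.zpowers_le.mpr hwS).trans hS₀N
  have hcoeK := Subgroup.coe_mul_of_right_le_normalizer_left (P ⊔ Q) (Subgroup.zpowers w) hwN
  have hdecK : ∀ k ∈ (P ⊔ Q) ⊔ Subgroup.zpowers w,
      ∃ a ∈ P, ∃ b ∈ Q, k = a * b ∨ k = a * b * w := by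
    intro k hk
    have hk' : k ∈ (((P ⊔ Q) ⊔ Subgroup.zpowers w : Subgroup S) : Set S) := hk
    rw [hcoeK] at hk'
    obtain ⟨x, hx, u, hu, rfl⟩ := Set.mem_mul.mp hk'
    obtain ⟨i, rfl⟩ := Subgroup.mem_zpowers_iff.mp hu
    obtain ⟨a, ha, b, hb, rfl⟩ := hdecPQ x hx
    rcases hwpow i with h | h
    · exact ⟨a, ha, b, hb, Or.inl (by rw [h, mul_one])⟩
    · exact ⟨a, ha, b, hb, Or.inr (by rw [h])⟩
  have hwDP : ∀ d ∈ DP, w * d * w⁻¹ ∈ DP := by
    intro d hd
    rcases LP d (hDPP hd) with h | h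
    · rw [h]; exact hd
    · rw [h]; exact DP.mul_mem hd hzDP
  have hwDQ : ∀ d ∈ DQ, w * d * w⁻¹ ∈ DQ := by
    intro d hd
    rcases LQ d (hDQQ hd) with h | h
    · rw [h]; exact hd
    · rw [h]; exact DQ.mul_mem hd hzDQ
  have hab_DP : ∀ a ∈ P, ∀ b ∈ Q, ∀ d ∈ DP, (a * b) * d * (a * b)⁻¹ ∈ DP := by
    intro a ha b hb d hd
    have h1 : b * d = d * b := (mc d (hDPP hd) b hb).symm
    have h4 : (a * b) * d * (a * b)⁻¹ = a * d * a⁻¹ := by
      calc (a * b) * d * (a * b)⁻¹ = a * (b * d) * b⁻¹ * a⁻¹ := by group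
        _ = a * (d * b) * b⁻¹ * a⁻¹ := by rw [h1]
        _ = a * d * a⁻¹ := by group
    rw [h4]
    exact hDPn a ha d hd
  have hab_DQ : ∀ a ∈ P, ∀ b ∈ Q, ∀ d ∈ DQ, (a * b) * d * (a * b)⁻¹ ∈ DQ := by
    intro a ha b hb d hd
    have h0 : a * b = b * a := mc a ha b hb
    have h1 : a * d = d * a := mc a ha d (hDQQ hd)
    have h4 : (a * b) * d * (a * b)⁻¹ = b * d * b⁻¹ := by
      calc (a * b) * d * (a * b)⁻¹ = (b * a) * d * (b * a)⁻¹ := by rw [h0]
        _ = b * (a * d) * a⁻¹ * b⁻¹ := by group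
        _ = b * (d * a) * a⁻¹ * b⁻¹ := by rw [h1]
        _ = b * d * b⁻¹ := by group
    rw [h4]
    exact hDQn b hb d hd
  have hconjP : ∀ k ∈ (P ⊔ Q) ⊔ Subgroup.zpowers w, ∀ d ∈ DP, k * d * k⁻¹ ∈ DP := by
    intro k hk d hd
    obtain ⟨a, ha, b, hb, rfl | rfl⟩ := hdecK k hk
    · exact hab_DP a ha b hb d hd
    · have : a * b * w * d * (a * b * w)⁻¹ = (a * b) * (w * d * w⁻¹) * (a * b)⁻¹ := by group
      rw [this]
      exact hab_DP a ha b hb _ (hwDP d hd)
  have hconjQ : ∀ k ∈ (P ⊔ Q) ⊔ Subgroup.zpowers w, ∀ d ∈ DQ, k * d * k⁻¹ ∈ DQ := by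
    intro k hk d hd
    obtain ⟨a, ha, b, hb, rfl | rfl⟩ := hdecK k hk
    · exact hab_DQ a ha b hb d hd
    · have : a * b * w * d * (a * b * w)⁻¹ = (a * b) * (w * d * w⁻¹) * (a * b)⁻¹ := by group
      rw [this]
      exact hab_DQ a ha b hb _ (hwDQ d hd)
  have hsq0 : ∀ a ∈ P, ∀ a' ∈ P, ∀ b ∈ Q, ∀ b' ∈ Q, a * b * (a' * b') = (a * a') * (b * b') := by
    intro a _ a' ha' b hb b' _
    exact Commute.mul_mul_mul_comm (show Commute b a' from (mc a' ha' b hb).symm) a b'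
  have hsq : ∀ k ∈ (P ⊔ Q) ⊔ Subgroup.zpowers w, k * k ∈ DP ⊔ DQ := by
    intro k hk
    obtain ⟨a, ha, b, hb, rfl | rfl⟩ := hdecK k hk
    · rw [hsq0 a ha a ha b hb b hb]
      exact Subgroup.mul_mem _ (le_sup_left (a := DP) (b := DQ) (hDPsq a ha))
        (le_sup_right (a := DP) (b := DQ) (hDQsq b hb))
    · have h1 : a * b * w * (a * b * w) = a * b * ((w * a * w⁻¹) * (w * b * w⁻¹)) * (w * w) := by
        group
      rw [h1, hww, mul_one]
      have ha' : w * a * w⁻¹ ∈ P := hP.norm w hwS a ha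
      have hb' : w * b * w⁻¹ ∈ Q := hQ.norm w hwS b hb
      rw [hsq0 a ha _ ha' b hb _ hb']
      refine Subgroup.mul_mem _ (le_sup_left (a := DP) (b := DQ) ?_)
        (le_sup_right (a := DP) (b := DQ) ?_)
      · rcases LP a ha with h | h
        · rw [h]; exact hDPsq a ha
        · rw [h, ← mul_assoc]; exact DP.mul_mem (hDPsq a ha) hzDP
      · rcases LQ b hb with h | h
        · rw [h]; exact hDQsq b hb
        · rw [h, ← mul_assoc]; exact DQ.mul_mem (hDQsq b hb) hzDQ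
  have hle := rank_bound hr P Q DP DQ _ mc mi hDPP hDQQ hDPcard hDQcard le_sup_left
    hconjP hconjQ hsq
  exact hle (le_sup_right (a := P ⊔ Q) (b := Subgroup.zpowers w) (Subgroup.mem_zpowers w))

end Cfsg.Agent.Lib.Helper2.SectRankFour
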