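import Mathlib
import Cfsg.Prelude.Def_CaseTheorems
import Cfsg.Agent.Lib.Helper2.SectRankFourC

set_option autoImplicit false

/-!
# Proof of the theorem on `S₀ = C_S(Z(P))`
-/

namespace Cfsg.Agent.Lib.Helper2.SectRankFour

open scoped Pointwise

universe u

/-- if `P` and a conjugate of `P` commute and meet trivially, and the sectional rank of `S` is at
most 4, then the sectional rank of `P` is at most 2 -/
theorem sectional_of_double {S : Type u} [Group S] [Finite S]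
    (hr : Cfsg.SectionalPRankLE 2 4 S) (P : Subgroup S) (x : S)
    (hcomm : ∀ a ∈ P, ∀ b ∈ P.map (MulAut.conj x).toMonoidHom, a * b = b * a)
    (hinf : P ⊓ P.map (MulAut.conj x).toMonoidHom = ⊥) : Cfsg.SectionalPRankLE 2 2 ↥P := by
  intro H N hN A _ hAexp
  classical
  obtain ⟨φ, hφ⟩ : ∃ φ : ↥H →* S, φ = P.subtype.comp H.subtype := ⟨_, rfl⟩
  have hφinj : Function.Injective φ := by
    rw [hφ]; exact (Subgroup.subtype_injective P).comp (Subgroup.subtype_injective H)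
  have hφP : ∀ h : ↥H, φ h ∈ P := by intro h; rw [hφ]; exact h.1.2
  obtain ⟨c, hc⟩ : ∃ c : S →* S, c = (MulAut.conj x).toMonoidHom := ⟨_, rfl⟩
  have hcinj : Function.Injective c := by rw [hc]; exact (MulAut.conj x).injective
  rw [← hc] at hcomm hinf
  obtain ⟨A', hA'⟩ : ∃ A' : Subgroup ↥H, A' = A.comap (QuotientGroup.mk' N) := ⟨_, rfl⟩
  have hNA' : N ≤ A' := by
    intro n hn
    rw [hA', Subgroup.mem_comap]
    have : QuotientGroup.mk' N n = 1 := (QuotientGroup.eq_one_iff n).mpr hn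
    rw [this]; exact A.one_mem
  obtain ⟨H₁, hH₁⟩ : ∃ H₁ : Subgroup S, H₁ = A'.map φ := ⟨_, rfl⟩
  obtain ⟨N₁, hN₁⟩ : ∃ N₁ : Subgroup S, N₁ = N.map φ := ⟨_, rfl⟩
  have hN₁H₁ : N₁ ≤ H₁ := by rw [hN₁, hH₁]; exact Subgroup.map_mono hNA'
  have hH₁P : H₁ ≤ P := by
    rw [hH₁]; rintro _ ⟨h, _, rfl⟩; exact hφP h
  have hcH₁ : H₁.map c ≤ P.map c := Subgroup.map_mono hH₁P
  have hF : ∀ a ∈ H₁, ∀ b ∈ H₁.map c, a * b = b * a :=
    fun a ha b hb => hcomm a (hH₁P ha) b (hcH₁ hb)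
  have hdec := exists_mul_of_mem_sup H₁ (H₁.map c) hF
  have hsqH : ∀ a ∈ H₁, a * a ∈ N₁ := by
    rw [hH₁, hN₁]
    rintro _ ⟨h, hh, rfl⟩
    refine ⟨h * h, ?_, map_mul φ h h⟩
    rw [hA'] at hh
    have hh' : QuotientGroup.mk' N h ∈ A := hh
    have h1 := hAexp _ hh'
    rw [← map_pow, pow_two] at h1
    exact (QuotientGroup.eq_one_iff _).mp h1
  have hnH : ∀ a ∈ H₁, ∀ d ∈ N₁, a * d * a⁻¹ ∈ N₁ := by
    rw [hH₁, hN₁]
    rintro _ ⟨h, _, rfl⟩ _ ⟨n, hn, rfl⟩
    refine ⟨h * n * h⁻¹, hN.conj_mem n hn h, ?_⟩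
    rw [map_mul, map_mul, map_inv]
  have hconj1 : ∀ k ∈ H₁ ⊔ H₁.map c, ∀ d ∈ N₁, k * d * k⁻¹ ∈ N₁ := by
    intro k hk d hd
    obtain ⟨a, ha, b, hb, rfl⟩ := hdec k hk
    have h1 : b * d = d * b := (hF d (hN₁H₁ hd) b hb).symm
    have h4 : (a * b) * d * (a * b)⁻¹ = a * d * a⁻¹ := by
      calc (a * b) * d * (a * b)⁻¹ = a * (b * d) * b⁻¹ * a⁻¹ := by group
        _ = a * (d * b) * b⁻¹ * a⁻¹ := by rw [h1]
        _ = a * d * a⁻¹ := by group
    rw [h4]
    exact hnH a ha d hd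
  have hconj2 : ∀ k ∈ H₁ ⊔ H₁.map c, ∀ d ∈ N₁.map c, k * d * k⁻¹ ∈ N₁.map c := by
    intro k hk d hd
    obtain ⟨a, ha, b, hb, rfl⟩ := hdec k hk
    have hdH : d ∈ H₁.map c := Subgroup.map_mono hN₁H₁ hd
    have h0 : a * b = b * a := hF a ha b hb
    have h1 : a * d = d * a := hF a ha d hdH
    have h4 : (a * b) * d * (a * b)⁻¹ = b * d * b⁻¹ := by
      calc (a * b) * d * (a * b)⁻¹ = (b * a) * d * (b * a)⁻¹ := by rw [h0]
        _ = b * (a * d) * a⁻¹ * b⁻¹ := by group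
        _ = b * (d * a) * a⁻¹ * b⁻¹ := by rw [h1]
        _ = b * d * b⁻¹ := by group
    rw [h4]
    obtain ⟨a', ha', rfl⟩ := hb
    obtain ⟨d', hd', rfl⟩ := hd
    refine ⟨a' * d' * a'⁻¹, hnH a' ha' d' hd', ?_⟩
    rw [map_mul, map_mul, map_inv]
  have hMK : N₁ ⊔ N₁.map c ≤ H₁ ⊔ H₁.map c := sup_le_sup hN₁H₁ (Subgroup.map_mono hN₁H₁)
  have hn : ∀ k ∈ H₁ ⊔ H₁.map c, ∀ m ∈ N₁ ⊔ N₁.map c, k * m * k⁻¹ ∈ N₁ ⊔ N₁.map c := by
    intro k hk m hm
    have hle : (N₁ ⊔ N₁.map c).map (MulAut.conj k).toMonoidHom ≤ N₁ ⊔ N₁.map c := by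
      rw [Subgroup.map_sup]
      apply sup_le_sup
      · rintro _ ⟨d, hd, rfl⟩
        exact hconj1 k hk d hd
      · rintro _ ⟨d, hd, rfl⟩
        exact hconj2 k hk d hd
    exact hle ⟨m, hm, rfl⟩
  have hsq : ∀ k ∈ H₁ ⊔ H₁.map c, k * k ∈ N₁ ⊔ N₁.map c := by
    intro k hk
    obtain ⟨a, ha, b, hb, rfl⟩ := hdec k hk
    have h1 : a * b * (a * b) = (a * a) * (b * b) :=
      Commute.mul_mul_mul_comm (show Commute b a from (hF a ha b hb).symm) a b
    rw [h1]
    refine Subgroup.mul_mem _ (le_sup_left (a := N₁) (b := N₁.map c) (hsqH a ha))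
      (le_sup_right (a := N₁) (b := N₁.map c) ?_)
    obtain ⟨a', ha', rfl⟩ := hb
    exact ⟨a' * a', hsqH a' ha', map_mul c a' a'⟩
  have hA := card_le_of_sq_mem 4 hr _ _ hMK hn hsq
  -- cardinalities
  have hcardmap : ∀ L : Subgroup S, Nat.card (L.map c) = Nat.card L :=
    fun L => Subgroup.card_map_of_injective hcinj
  have hKcard : Nat.card (H₁ ⊔ H₁.map c : Subgroup S) = Nat.card H₁ * Nat.card H₁ := by
    have hnorm : H₁ ≤ Subgroup.normalizer ((H₁.map c : Subgroup S) : Set S) := by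
      refine le_trans ?_ (Subgroup.centralizer_le_normalizer _)
      intro d hd
      rw [Subgroup.mem_centralizer_iff]
      intro e he
      exact (hF d hd e he).symm
    have hcoe := Subgroup.coe_mul_of_left_le_normalizer_right H₁ (H₁.map c) hnorm
    have h1 := Cfsg.Agent.Lib.Helper7.card_mul_set_mul_card_inf H₁ (H₁.map c)
    have hbot : H₁ ⊓ H₁.map c = ⊥ := by
      rw [eq_bot_iff, ← hinf]; exact inf_le_inf hH₁P hcH₁
    rw [hbot, Subgroup.card_bot, mul_one, hcardmap] at h1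
    rw [← h1]
    exact Nat.card_congr (Equiv.setCongr hcoe)
  have hMcard : Nat.card (N₁ ⊔ N₁.map c : Subgroup S) ≤ Nat.card N₁ * Nat.card N₁ := by
    have hnorm : N₁ ≤ Subgroup.normalizer ((N₁.map c : Subgroup S) : Set S) := by
      refine le_trans ?_ (Subgroup.centralizer_le_normalizer _)
      intro d hd
      rw [Subgroup.mem_centralizer_iff]
      intro e he
      exact (hF d (hN₁H₁ hd) e (Subgroup.map_mono hN₁H₁ he)).symm
    have hcoe := Subgroup.coe_mul_of_left_le_normalizer_right N₁ (N₁.map c) hnorm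
    have h1 := Cfsg.Agent.Lib.Helper7.card_mul_set_mul_card_inf N₁ (N₁.map c)
    rw [hcardmap] at h1
    have h2' : Nat.card (N₁ ⊔ N₁.map c : Subgroup S) =
        Nat.card ((N₁ : Set S) * ((N₁.map c : Subgroup S) : Set S) : Set S) :=
      Nat.card_congr (Equiv.setCongr hcoe)
    rw [h2', ← h1]
    exact Nat.le_mul_of_pos_right _ Nat.card_pos
  have hH₁card : Nat.card H₁ = Nat.card A * Nat.card N := by
    rw [hH₁, Subgroup.card_map_of_injective hφinj]
    have h1 : A'.index = A.index := by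
      rw [hA']; exact Subgroup.index_comap_of_surjective A (QuotientGroup.mk'_surjective N)
    have h2' := Subgroup.card_mul_index A'
    have h3 := Subgroup.card_mul_index A
    have h4 := Subgroup.card_eq_card_quotient_mul_card_subgroup N
    have hpos : 0 < A.index := Nat.pos_of_ne_zero Subgroup.index_ne_zero_of_finite
    rw [h1, h4, ← h3] at h2'
    have h5 : Nat.card A' * A.index = (Nat.card A * Nat.card N) * A.index := by
      rw [h2']; ring
    exact Nat.eq_of_mul_eq_mul_right hpos h5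
  have hN₁card : Nat.card N₁ = Nat.card N := by
    rw [hN₁, Subgroup.card_map_of_injective hφinj]
  rw [hKcard, hH₁card] at hA
  have hA2 : Nat.card A * Nat.card N * (Nat.card A * Nat.card N) ≤
      2 ^ 4 * (Nat.card N * Nat.card N) := by
    refine hA.trans (Nat.mul_le_mul_left _ ?_)
    rw [← hN₁card]; exact hMcard
  have hNpos : 0 < Nat.card N := Nat.card_pos
  show Nat.card A ≤ 2 ^ 2
  by_contra hlt
  push Not at hlt
  have h5 : 5 * Nat.card N ≤ Nat.card A * Nat.card N := Nat.mul_le_mul_right _ (by omega)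
  have h6 := Nat.mul_le_mul h5 h5
  have h7 : 5 * Nat.card N * (5 * Nat.card N) = 25 * (Nat.card N * Nat.card N) := by ring
  rw [h7] at h6
  have h8 : 0 < Nat.card N * Nat.card N := Nat.mul_pos hNpos hNpos
  have h9 := h6.trans hA2
  have h10 : (2 : ℕ) ^ 4 = 16 := by norm_num
  rw [h10] at h9
  generalize Nat.card N * Nat.card N = m at h9 h8
  omega

/-- `N_S(S₀) = S` -/
theorem normalizer_eq_top {S : Type u} [Group S] [Finite S] (h2 : IsPGroup 2 S)
    (hr : Cfsg.SectionalPRankLE 2 4 S) {S₀ P : Subgroup S} {z : S} (hD : Dat S₀ P z)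
    (hS₀' : ∀ s, s ∈ S₀ ↔ s * z = z * s) (hzz : z * z = 1)
    (x : S) (hxT : x ∈ Subgroup.normalizer (S₀ : Set S)) (hxS : x ∉ S₀)
    (hcoset : ∀ g ∈ Subgroup.normalizer (S₀ : Set S), ∀ h ∈ Subgroup.normalizer (S₀ : Set S),
      g ∉ S₀ → h ∉ S₀ → h⁻¹ * g ∈ S₀) :
    Subgroup.normalizer (S₀ : Set S) = ⊤ := by
  classical
  haveI : Fact (Nat.Prime 2) := ⟨Nat.prime_two⟩
  haveI : Group.IsNilpotent S := h2.isNilpotent
  by_contra hTne
  have hlt := Group.normalizerCondition_of_isNilpotent (Subgroup.normalizer (S₀ : Set S))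
    (lt_top_iff_ne_top.mpr hTne)
  obtain ⟨v, hvN, hvT⟩ := SetLike.exists_of_lt hlt
  obtain ⟨T, hT⟩ : ∃ T : Subgroup S, T = Subgroup.normalizer (S₀ : Set S) := ⟨_, rfl⟩
  rw [← hT] at hvN hvT hxT hcoset
  have hS₀T : S₀ ≤ T := by rw [hT]; exact Subgroup.le_normalizer
  have hvT1 : ∀ t ∈ T, v * t * v⁻¹ ∈ T :=
    fun t ht => ((Subgroup.mem_normalizer_iff.mp hvN) t).mp ht
  have hvT2 : ∀ t ∈ T, v⁻¹ * t * v ∈ T := by
    intro t ht
    rw [(Subgroup.mem_normalizer_iff.mp hvN) (v⁻¹ * t * v)]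
    have : v * (v⁻¹ * t * v) * v⁻¹ = t := by group
    rw [this]; exact ht
  obtain ⟨w, hw⟩ : ∃ w, w = v * z * v⁻¹ := ⟨_, rfl⟩
  have hww : w * w = 1 := by
    rw [hw]
    calc v * z * v⁻¹ * (v * z * v⁻¹) = v * (z * z) * v⁻¹ := by group
      _ = 1 := by rw [hzz]; group
  have hw1 : w ≠ 1 := by
    intro h
    apply hD.zne
    calc z = v⁻¹ * (v * z * v⁻¹) * v := by group
      _ = 1 := by rw [← hw, h]; group
  have hwT : w ∈ T := by rw [hw]; exact hvT1 z (hS₀T (hD.le hD.zmem))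
  have hcomm_iff : ∀ t : S, (v * t * v⁻¹) * w = w * (v * t * v⁻¹) ↔ t ∈ S₀ := by
    intro t
    rw [hS₀' t, hw]
    constructor
    · intro h
      have : v * (t * z) * v⁻¹ = v * (z * t) * v⁻¹ := by
        calc v * (t * z) * v⁻¹ = (v * t * v⁻¹) * (v * z * v⁻¹) := by group
          _ = (v * z * v⁻¹) * (v * t * v⁻¹) := h
          _ = v * (z * t) * v⁻¹ := by group
      exact mul_left_cancel (mul_right_cancel this)
    · intro h
      calc (v * t * v⁻¹) * (v * z * v⁻¹) = v * (t * z) * v⁻¹ := by group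
        _ = v * (z * t) * v⁻¹ := by rw [h]
        _ = (v * z * v⁻¹) * (v * t * v⁻¹) := by group
  have hcomm_iff' : ∀ t : S, t * w = w * t ↔ v⁻¹ * t * v ∈ S₀ := by
    intro t
    rw [← hcomm_iff]
    have : v * (v⁻¹ * t * v) * v⁻¹ = t := by group
    rw [this]
  have hsqS₀ : ∀ t ∈ T, t * t ∈ S₀ := by
    intro t ht
    by_cases htS : t ∈ S₀
    · exact S₀.mul_mem htS htS
    · have ht' : t⁻¹ ∉ S₀ := fun h => htS ((S₀.inv_mem_iff).mp h)
      have := hcoset t ht t⁻¹ (T.inv_mem ht) htS ht'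
      rwa [inv_inv] at this
  have hsqw : ∀ t ∈ T, (t * t) * w = w * (t * t) := by
    intro t ht
    rw [hcomm_iff']
    have : v⁻¹ * (t * t) * v = (v⁻¹ * t * v) * (v⁻¹ * t * v) := by group
    rw [this]
    exact hsqS₀ _ (hvT2 t ht)
  have hidxw : ∀ g ∈ T, ∀ h ∈ T, g * w ≠ w * g → h * w ≠ w * h →
      (h⁻¹ * g) * w = w * (h⁻¹ * g) := by
    intro g hg h hh hgw hhw
    rw [Ne, hcomm_iff'] at hgw hhw
    rw [hcomm_iff']
    have := hcoset _ (hvT2 g hg) _ (hvT2 h hh) hgw hhw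
    have e : v⁻¹ * (h⁻¹ * g) * v = (v⁻¹ * h * v)⁻¹ * (v⁻¹ * g * v) := by group
    rw [e]; exact this
  have hPT : P ≤ T := hD.le.trans hS₀T
  by_cases hwS : w ∈ S₀
  swap
  · -- Case A: `w ∉ S₀`
    obtain ⟨hw1', hw2'⟩ := norm_facts S₀ w (by rw [← hT]; exact hwT)
    have Dw := hD.conj w hw1' hw2'
    have hzw : z ≠ w * z * w⁻¹ := ne_conj_of_not_mem hS₀' hwS
    obtain ⟨_, mi, _⟩ := main_rel h2 hr hD Dw hzw
    have hexp : ∀ p ∈ P, p * p = 1 := by
      intro p hp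
      have h1 : p * p ∈ P := P.mul_mem hp hp
      have h2' : p * p ∈ P.map (MulAut.conj w).toMonoidHom := by
        refine ⟨p * p, h1, ?_⟩
        show w * (p * p) * w⁻¹ = p * p
        rw [← hsqw p (hPT hp)]; group
      have : p * p ∈ P ⊓ P.map (MulAut.conj w).toMonoidHom := Subgroup.mem_inf.mpr ⟨h1, h2'⟩
      rwa [mi, Subgroup.mem_bot] at this
    apply hD.nonab
    refine ⟨⟨fun a b => Subtype.ext ?_⟩⟩
    show a.1 * b.1 = b.1 * a.1
    have ha := hexp a.1 a.2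
    have hb := hexp b.1 b.2
    have hba := hexp (b.1 * a.1) (P.mul_mem b.2 a.2)
    calc a.1 * b.1 = (b.1 * b.1) * (a.1 * b.1) * (a.1 * a.1) := by rw [ha, hb]; group
      _ = b.1 * (b.1 * a.1 * (b.1 * a.1)) * a.1 := by group
      _ = b.1 * a.1 := by rw [hba]; group
  · -- Case B: `w ∈ S₀`
    have hexy : ∃ s₁ ∈ S₀, v * s₁ * v⁻¹ ∉ S₀ := by
      by_contra hall
      push Not at hall
      apply hvT
      rw [hT]
      apply Cfsg.Agent.Lib.Helper2.S168.mem_normalizer_of_map_conj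
      refine (Subgroup.eq_of_le_of_card_ge ?_ ?_)
      · rintro _ ⟨s, hs, rfl⟩
        exact hall s hs
      · rw [Subgroup.card_map_of_injective (MulAut.conj v).injective]
    obtain ⟨s₁, hs₁, hyS⟩ := hexy
    obtain ⟨y, hy⟩ : ∃ y, y = v * s₁ * v⁻¹ := ⟨_, rfl⟩
    rw [← hy] at hyS
    have hyT : y ∈ T := by rw [hy]; exact hvT1 s₁ (hS₀T hs₁)
    have hyw : y * w = w * y := by rw [hy]; exact (hcomm_iff s₁).mpr hs₁
    obtain ⟨hy1, hy2⟩ := norm_facts S₀ y (by rw [← hT]; exact hyT)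
    have Dy := hD.conj y hy1 hy2
    have hzy : z ≠ y * z * y⁻¹ := ne_conj_of_not_mem hS₀' hyS
    obtain ⟨mc, mi, mz⟩ := main_rel h2 hr hD Dy hzy
    have hyy : y * y ∈ S₀ := hsqS₀ y hyT
    obtain ⟨Q, hQ⟩ : ∃ Q : Subgroup S, Q = P.map (MulAut.conj y).toMonoidHom := ⟨_, rfl⟩
    rw [← hQ] at Dy mc mi mz
    have hQT : Q ≤ T := Dy.le.trans hS₀T
    have huniq : ∀ a ∈ P, ∀ a' ∈ P, ∀ b ∈ Q, ∀ b' ∈ Q, a * b = a' * b' → a = a' ∧ b = b' := by
      intro a ha a' ha' b hb b' hb' h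
      have h1 : a'⁻¹ * a = b' * b⁻¹ := by
        calc a'⁻¹ * a = a'⁻¹ * (a * b) * b⁻¹ := by group
          _ = a'⁻¹ * (a' * b') * b⁻¹ := by rw [h]
          _ = b' * b⁻¹ := by group
      have h2' : a'⁻¹ * a ∈ P ⊓ Q := Subgroup.mem_inf.mpr
        ⟨P.mul_mem (P.inv_mem ha') ha, by rw [h1]; exact Q.mul_mem hb' (Q.inv_mem hb)⟩
      rw [mi, Subgroup.mem_bot] at h2'
      have h3 : b' * b⁻¹ = 1 := by rw [← h1]; exact h2'
      refine ⟨?_, ?_⟩
      · calc a = a' * (a'⁻¹ * a) := by group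
          _ = a' := by rw [h2', mul_one]
      · calc b = (b' * b⁻¹)⁻¹ * b' := by group
          _ = b' := by rw [h3]; group
    have LP := conj_eq_or P z w hww (fun p hp => hD.norm w hwS p hp) hD.zuniq
      (fun p hp => hsqw p (hPT hp)) (fun g hg h hh => hidxw g (hPT hg) h (hPT hh))
    have LQ := conj_eq_or Q (y * z * y⁻¹) w hww (fun p hp => Dy.norm w hwS p hp) Dy.zuniq
      (fun p hp => hsqw p (hQT hp)) (fun g hg h hh => hidxw g (hQT hg) h (hQT hh))
    have hwR : w ∈ P ⊔ Q := involution_mem_sup h2 hr hD Dy mc mi w hwS hww LP LQ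
    obtain ⟨a, ha, b, hb, hwab⟩ := exists_mul_of_mem_sup P Q mc w hwR
    have hya : y * a * y⁻¹ ∈ Q := by rw [hQ]; exact ⟨a, ha, rfl⟩
    have hyb : y * b * y⁻¹ ∈ P := by
      rw [hQ] at hb
      obtain ⟨b₀, hb₀, rfl⟩ := hb
      show y * (y * b₀ * y⁻¹) * y⁻¹ ∈ P
      have : y * (y * b₀ * y⁻¹) * y⁻¹ = (y * y) * b₀ * (y * y)⁻¹ := by group
      rw [this]; exact hD.norm _ hyy b₀ hb₀
    have hconj : (y * b * y⁻¹) * (y * a * y⁻¹) = a * b := by
      have h1 : y * w * y⁻¹ = w := by rw [hyw]; group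
      rw [hwab] at h1
      calc (y * b * y⁻¹) * (y * a * y⁻¹) = (y * a * y⁻¹) * (y * b * y⁻¹) := mc _ hyb _ hya
        _ = y * (a * b) * y⁻¹ := by group
        _ = a * b := h1
    obtain ⟨hba, hab'⟩ := huniq _ hyb a ha _ hya b hb hconj
    have hanc : ¬ ∀ p ∈ P, p * a = a * p := by
      intro hcen
      rcases hD.zuniq a ha hcen with h | h
      · apply hw1
        rw [hwab, ← hab', h]; group
      · -- `w = z * (y z y⁻¹)` would be central in `T`
        have hwu : w = z * (y * z * y⁻¹) := by rw [hwab, ← hab', h]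
        have hzyS : y * z * y⁻¹ ∈ S₀ := Dy.le Dy.zmem
        have hzzy : (y * z * y⁻¹) * z = z * (y * z * y⁻¹) := hD.zcen _ hzyS
        have hS₀w : ∀ s ∈ S₀, s * w = w * s := by
          intro s hs
          rw [hwu]
          calc s * (z * (y * z * y⁻¹)) = (s * z) * (y * z * y⁻¹) := by group
            _ = (z * s) * (y * z * y⁻¹) := by rw [hD.zcen s hs]
            _ = z * (s * (y * z * y⁻¹)) := by group
            _ = z * ((y * z * y⁻¹) * s) := by rw [Dy.zcen s hs]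
            _ = z * (y * z * y⁻¹) * s := by group
        have hyw' : y * (y * z * y⁻¹) * y⁻¹ = z := by
          have h3 := hD.zcen _ hyy
          calc y * (y * z * y⁻¹) * y⁻¹ = ((y * y) * z) * (y * y)⁻¹ := by group
            _ = (z * (y * y)) * (y * y)⁻¹ := by rw [h3]
            _ = z := by group
        -- take `t = v x v⁻¹`
        have htT : v * x * v⁻¹ ∈ T := hvT1 x hxT
        have hcomm : (v * x * v⁻¹) * w = w * (v * x * v⁻¹) := by
          by_cases htS : v * x * v⁻¹ ∈ S₀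
          · exact hS₀w _ htS
          · have h4 := hcoset _ htT y hyT htS hyS
            have h5 := hS₀w _ h4
            calc (v * x * v⁻¹) * w = y * ((y⁻¹ * (v * x * v⁻¹)) * w) := by group
              _ = y * (w * (y⁻¹ * (v * x * v⁻¹))) := by rw [h5]
              _ = (y * w) * (y⁻¹ * (v * x * v⁻¹)) := by group
              _ = (w * y) * (y⁻¹ * (v * x * v⁻¹)) := by rw [hyw]
              _ = w * (v * x * v⁻¹) := by group
        exact hxS ((hcomm_iff x).mp hcomm)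
    push Not at hanc
    obtain ⟨p, hp, hpa⟩ := hanc
    obtain ⟨q, hq⟩ : ∃ q, q = y * p * y⁻¹ := ⟨_, rfl⟩
    have hqQ : q ∈ Q := by rw [hq, hQ]; exact ⟨p, hp, rfl⟩
    have hqb : q * b ≠ b * q := by
      intro h
      apply hpa
      rw [hq, ← hab'] at h
      have : y * (p * a) * y⁻¹ = y * (a * p) * y⁻¹ := by
        calc y * (p * a) * y⁻¹ = (y * p * y⁻¹) * (y * a * y⁻¹) := by group
          _ = (y * a * y⁻¹) * (y * p * y⁻¹) := h
          _ = y * (a * p) * y⁻¹ := by group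
      exact mul_left_cancel (mul_right_cancel this)
    have hpw : p * w ≠ w * p := by
      intro h
      apply hpa
      rw [hwab] at h
      have h1 : p * b = b * p := mc p hp b hb
      have : p * a * b = a * p * b := by
        calc p * a * b = p * (a * b) := mul_assoc _ _ _
          _ = a * b * p := h
          _ = a * (b * p) := mul_assoc _ _ _
          _ = a * (p * b) := by rw [h1]
          _ = a * p * b := (mul_assoc _ _ _).symm
      exact mul_right_cancel this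
    have hqw : q * w ≠ w * q := by
      intro h
      apply hqb
      rw [hwab] at h
      have h1 : a * q = q * a := mc a ha q hqQ
      have : a * (q * b) = a * (b * q) := by
        calc a * (q * b) = a * q * b := (mul_assoc _ _ _).symm
          _ = q * a * b := by rw [h1]
          _ = q * (a * b) := mul_assoc _ _ _
          _ = a * b * q := h
          _ = a * (b * q) := mul_assoc _ _ _
      exact mul_left_cancel this
    have h6 := hidxw p (hPT hp) q (hQT hqQ) hpw hqw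
    rw [hwab] at h6
    -- `(q⁻¹ p)(a b) = (a b)(q⁻¹ p)` gives `(p a)(q⁻¹ b) = (a p)(b q⁻¹)`
    have hq' : q⁻¹ ∈ Q := Q.inv_mem hqQ
    have h7 : (p * a) * (q⁻¹ * b) = (a * p) * (b * q⁻¹) := by
      have e1 : (p * a) * q⁻¹ = q⁻¹ * (p * a) := mc _ (P.mul_mem hp ha) _ hq'
      have e2 : p * (b * q⁻¹) = (b * q⁻¹) * p := mc p hp _ (Q.mul_mem hb hq')
      calc (p * a) * (q⁻¹ * b) = ((p * a) * q⁻¹) * b := by group
        _ = (q⁻¹ * (p * a)) * b := by rw [e1]
        _ = q⁻¹ * p * (a * b) := by group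
        _ = a * b * (q⁻¹ * p) := h6
        _ = a * ((b * q⁻¹) * p) := by group
        _ = a * (p * (b * q⁻¹)) := by rw [e2]
        _ = (a * p) * (b * q⁻¹) := by group
    exact hpa (huniq _ (P.mul_mem hp ha) _ (P.mul_mem ha hp) _ (Q.mul_mem hq' hb) _
      (Q.mul_mem hb hq') h7).1

theorem main401 {S : Type u} [Group S] [Finite S] (h2 : IsPGroup 2 S)
    (hr : Cfsg.SectionalPRankLE 2 4 S) (P : Subgroup S) (hP : ¬ IsMulCommutative ↥P)
    (hZP : Nat.card ↥(Subgroup.center ↥P) = 2) (S₀ : Subgroup S)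
    (hS₀ : S₀ = Subgroup.centralizer
      (((Subgroup.center ↥P).map P.subtype : Subgroup S) : Set S))
    (hPn : ∀ s ∈ S₀, ∀ x ∈ P, s * x * s⁻¹ ∈ P) :
    S₀ = ⊤ ∨ (Cfsg.SectionalPRankLE 2 2 ↥P ∧ S₀.index = 2) := by
  classical
  haveI : Fact (Nat.Prime 2) := ⟨Nat.prime_two⟩
  haveI : Group.IsNilpotent S := h2.isNilpotent
  obtain ⟨z, hzP, hz1, hzz, hzc, hzu, hzm⟩ := exists_center_gen' P hZP
  have hS₀' : ∀ s, s ∈ S₀ ↔ s * z = z * s := by
    intro s
    rw [hS₀, Subgroup.mem_centralizer_iff]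
    constructor
    · intro h
      exact (h z ((hzm z).mpr (Or.inr rfl))).symm
    · intro h y hy
      rcases (hzm y).mp hy with rfl | rfl
      · rw [one_mul, mul_one]
      · exact h.symm
  by_cases htop : S₀ = ⊤
  · exact Or.inl htop
  right
  have hD : Dat S₀ P z :=
    { le := fun p hp => (hS₀' p).mpr (hzc p hp)
      norm := hPn
      nonab := hP
      zmem := hzP
      zne := hz1
      zcen := fun g hg => (hS₀' g).mp hg
      zuniq := hzu }
  have hlt : S₀ < Subgroup.normalizer (S₀ : Set S) :=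
    Group.normalizerCondition_of_isNilpotent S₀ (lt_top_iff_ne_top.mpr htop)
  obtain ⟨x, hxT, hxS⟩ := SetLike.exists_of_lt hlt
  have hcoset : ∀ g ∈ Subgroup.normalizer (S₀ : Set S),
      ∀ h ∈ Subgroup.normalizer (S₀ : Set S), g ∉ S₀ → h ∉ S₀ → h⁻¹ * g ∈ S₀ := by
    intro g hg h hh hgS hhS
    have h1 := conj_gen_eq h2 hr hD hS₀' g h hg hh hgS hhS
    rw [hS₀']
    calc h⁻¹ * g * z = h⁻¹ * (g * z * g⁻¹) * g := by group
      _ = h⁻¹ * (h * z * h⁻¹) * g := by rw [h1]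
      _ = z * (h⁻¹ * g) := by group
  have hTtop := normalizer_eq_top h2 hr hD hS₀' hzz x hxT hxS hcoset
  have hmemT : ∀ g : S, g ∈ Subgroup.normalizer (S₀ : Set S) := fun g => by
    rw [hTtop]; trivial
  refine ⟨?_, ?_⟩
  · obtain ⟨hx1, hx2⟩ := norm_facts S₀ x hxT
    have Dx := hD.conj x hx1 hx2
    have hzx : z ≠ x * z * x⁻¹ := ne_conj_of_not_mem hS₀' hxS
    obtain ⟨mc, mi, _⟩ := main_rel h2 hr hD Dx hzx
    exact sectional_of_double hr P x mc mi
  · rw [Subgroup.index_eq_two_iff]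
    refine ⟨x⁻¹, fun b => ?_⟩
    by_cases hb : b ∈ S₀
    · refine Or.inr ⟨hb, ?_⟩
      intro h
      apply hxS
      have e : x⁻¹ = b⁻¹ * (b * x⁻¹) := by group
      have h3 : x⁻¹ ∈ S₀ := by rw [e]; exact S₀.mul_mem (S₀.inv_mem hb) h
      exact (S₀.inv_mem_iff).mp h3
    · refine Or.inl ⟨?_, hb⟩
      have hb' : b⁻¹ ∉ S₀ := fun h => hb ((S₀.inv_mem_iff).mp h)
      have hx' : x⁻¹ ∉ S₀ := fun h => hxS ((S₀.inv_mem_iff).mp h)
      have := hcoset x⁻¹ (hmemT _) b⁻¹ (hmemT _) hx' hb'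
      rwa [inv_inv] at this

end Cfsg.Agent.Lib.Helper2.SectRankFour
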