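import Mathlib
import Cfsg.Agent.Lib.Helper2.SfmA
set_option autoImplicit false
set_option maxHeartbeats 1000000
set_option linter.unusedVariables false
set_option linter.unusedSectionVars false
set_option linter.style.longLine false
set_option linter.unusedSimpArgs false
set_option linter.deprecated false
set_option linter.style.haveILetI false

/-! Subfield subgroups of `SL_n` are maximal (part B): the field of parameters of the elementary
transvections of an overgroup; a non-rational transvection with rational centre and axis forces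
the overgroup to be everything. -/

namespace Cfsg.Agent.Lib.Helper2.Sfm

open Matrix Cfsg.Agent.Lib.Helper5.TvGL Cfsg.Agent.Lib.Helper5.SLSubspaceMax

universe u

section Fld

variable {F : Type u} [Field F] [Fintype F]

/-- no intermediate fields in an extension of prime degree -/
theorem subfield_eq_or_eq_top (F₀ A : Subfield F) (hle : F₀ ≤ A) (r : ℕ) (hr : r.Prime)
    (hcard : Fintype.card F = Nat.card F₀ ^ r) : A = F₀ ∨ A = ⊤ := by
  classical
  letI := (Subfield.inclusion hle).toAlgebra
  have h1 : Nat.card F = Nat.card A ^ Module.finrank A F := Module.natCard_eq_pow_finrank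
  have h2 : Nat.card A = Nat.card F₀ ^ Module.finrank F₀ A := Module.natCard_eq_pow_finrank
  have hq : 2 ≤ Nat.card F₀ := by
    have : 1 < Nat.card F₀ := Finite.one_lt_card
    omega
  rw [← Nat.card_eq_fintype_card, h1, h2, ← pow_mul] at hcard
  have h3 : Module.finrank F₀ A * Module.finrank A F = r := Nat.pow_right_injective hq hcard
  have h4 : r.Prime := hr
  rw [← h3, Nat.prime_mul_iff] at h4
  rcases h4 with ⟨_, h5⟩ | ⟨_, h5⟩
  · right
    rw [h5, pow_one] at h1
    have : (A : Set F) = Set.univ := by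
      apply Set.eq_of_subset_of_ncard_le (Set.subset_univ _)
      · rw [Set.ncard_univ, h1, ← Nat.card_coe_set_eq]; rfl
    exact SetLike.coe_injective (by rw [this]; rfl)
  · left
    rw [h5, pow_one] at h2
    have : (F₀ : Set F) = (A : Set F) := by
      apply Set.eq_of_subset_of_ncard_le hle
      · rw [← Nat.card_coe_set_eq, ← Nat.card_coe_set_eq]
        exact le_of_eq h2
    exact (SetLike.coe_injective this).symm

end Fld

section Elem

variable {F : Type u} [Field F] {n : ℕ} (F₀ : Subfield F) (H : Subgroup (GL (Fin n) F))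

/-- `H` contains all rational transvections -/
def HasRat : Prop :=
  ∀ u ψ : Fin n → F, IsRat F₀ u → IsRat F₀ ψ → ψ ⬝ᵥ u = 0 → TvIn H u ψ

/-- no non-rational multiples of rational transvections -/
def NoBad : Prop :=
  ∀ w ξ : Fin n → F, IsRat F₀ w → IsRat F₀ ξ → w ≠ 0 → ξ ≠ 0 → ξ ⬝ᵥ w = 0 →
    ∀ c : F, TvIn H (c • w) ξ → c ∈ F₀

theorem exists_ne_ne (hn : 3 ≤ n) (a b : Fin n) : ∃ m : Fin n, m ≠ a ∧ m ≠ b := by
  classical
  by_contra hcon
  push Not at hcon
  have h1 : (Finset.univ : Finset (Fin n)) ⊆ {a, b} := by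
    intro m _
    by_cases hm : m = a
    · simp [hm]
    · simp [hcon m hm]
  have h2 := Finset.card_le_card h1
  rw [Finset.card_univ, Fintype.card_fin] at h2
  have h3 := Finset.card_le_two (a := a) (b := b)
  omega

theorem single_dot_smul_single {i j : Fin n} (hij : i ≠ j) (a : F) :
    (Pi.single j (1 : F) : Fin n → F) ⬝ᵥ (a • (Pi.single i (1 : F) : Fin n → F)) = 0 := by
  rw [dotProduct_smul, single_one_dotProduct, Pi.single_eq_of_ne hij.symm, smul_zero]

theorem smul_single_dot_single {i j : Fin n} (hij : i ≠ j) (a : F) :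
    (a • (Pi.single j (1 : F) : Fin n → F)) ⬝ᵥ (Pi.single i (1 : F) : Fin n → F) = 0 := by
  rw [smul_dotProduct, single_one_dotProduct, Pi.single_eq_of_ne hij.symm, smul_zero]

variable {F₀ H}

/-- the elementary transvection `1 + c E_ij` in `H` -/
def EIn (H : Subgroup (GL (Fin n) F)) (i j : Fin n) (c : F) : Prop :=
  TvIn H (c • (Pi.single i (1 : F) : Fin n → F)) (Pi.single j (1 : F))

theorem EIn.comm {i j k : Fin n} {a b : F} (hij : i ≠ j) (hjk : j ≠ k) (hik : i ≠ k)
    (h1 : EIn H i j a) (h2 : EIn H j k b) : EIn H i k (a * b) := by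
  have h := TvIn.comm h1 h2 (single_dot_smul_single hij a) (single_dot_smul_single hjk b)
    (single_dot_smul_single hik a)
  unfold EIn
  rw [dotProduct_smul, single_one_dotProduct, Pi.single_eq_same, smul_eq_mul, mul_one,
    smul_smul, mul_comm] at h
  exact h

theorem HasRat.eIn (hS : HasRat F₀ H) {i j : Fin n} (hij : i ≠ j) {c : F} (hc : c ∈ F₀) :
    EIn H i j c := by
  apply hS
  · exact (isRat_single i F₀.one_mem).smul hc
  · exact isRat_single j F₀.one_mem
  · exact single_dot_smul_single hij c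

/-- spreading an elementary transvection to all positions -/
theorem EIn.spread (hn : 3 ≤ n) (hS : HasRat F₀ H) {a b : Fin n} (hab : a ≠ b) {c : F}
    (h : EIn H a b c) : ∀ i j : Fin n, i ≠ j → EIn H i j c := by
  have one := F₀.one_mem
  -- step 1: first index `a`
  have s1 : ∀ j, j ≠ a → EIn H a j c := by
    intro j hj
    by_cases hjb : j = b
    · rw [hjb]; exact h
    · have := EIn.comm hab (Ne.symm hjb) (Ne.symm hj) h (hS.eIn (Ne.symm hjb) one)
      rwa [mul_one] at this
  -- step 2
  have s2 : ∀ i j, i ≠ a → j ≠ a → i ≠ j → EIn H i j c := by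
    intro i j hi hj hij
    have := EIn.comm hi (Ne.symm hj) hij (hS.eIn hi one) (s1 j hj)
    rwa [one_mul] at this
  -- step 3
  have s3 : ∀ i, i ≠ a → EIn H i a c := by
    intro i hi
    obtain ⟨m, hma, hmi⟩ := exists_ne_ne hn a i
    have := EIn.comm (Ne.symm hmi) hma hi (s2 i m hi hma (Ne.symm hmi)) (hS.eIn hma one)
    rwa [mul_one] at this
  intro i j hij
  by_cases hi : i = a
  · rw [hi]; exact s1 j (by rw [← hi]; exact Ne.symm hij)
  · by_cases hj : j = a
    · rw [hj]; exact s3 i hi
    · exact s2 i j hi hj hij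

theorem EIn.add {i j : Fin n} (hij : i ≠ j) {a b : F} (h1 : EIn H i j a) (h2 : EIn H i j b) :
    EIn H i j (a + b) := by
  unfold EIn at *
  have h := TvIn.mul_same h1.smul_comm h2.smul_comm (smul_single_dot_single hij a)
  rw [← add_smul] at h
  exact h.smul_comm'

theorem EIn.neg {i j : Fin n} (hij : i ≠ j) {a : F} (h1 : EIn H i j a) : EIn H i j (-a) := by
  unfold EIn at *
  have h := TvIn.neg h1.smul_comm (smul_single_dot_single hij a)
  rw [← neg_smul] at h
  exact h.smul_comm'

theorem eIn_zero (i j : Fin n) : EIn H i j 0 := by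
  refine ⟨1, H.one_mem, ?_⟩
  rw [zero_smul, tvMat_eq, zero_vecMulVec, add_zero, Units.val_one]

theorem EIn.mul (hn : 3 ≤ n) (hS : HasRat F₀ H) {i j : Fin n} (hij : i ≠ j) {a b : F}
    (h1 : EIn H i j a) (h2 : EIn H i j b) : EIn H i j (a * b) := by
  obtain ⟨k, hki, hkj⟩ := exists_ne_ne hn i j
  have e1 : EIn H i k a := EIn.spread hn hS hij h1 i k (Ne.symm hki)
  have e2 : EIn H k j b := EIn.spread hn hS hij h2 k j hkj
  exact EIn.comm (Ne.symm hki) hkj hij e1 e2

end Elem

section Par

variable {F : Type u} [Field F] [Fintype F] {n : ℕ} (F₀ : Subfield F)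
  (H : Subgroup (GL (Fin n) F))

/-- the field of parameters of the elementary transvections of `H` in position `(i, j)` -/
def parField (hn : 3 ≤ n) (hS : HasRat F₀ H) (i j : Fin n) (hij : i ≠ j) : Subfield F where
  carrier := {c | EIn H i j c}
  mul_mem' := fun h1 h2 => EIn.mul hn hS hij h1 h2
  one_mem' := hS.eIn hij F₀.one_mem
  add_mem' := fun h1 h2 => EIn.add hij h1 h2
  zero_mem' := eIn_zero i j
  neg_mem' := fun h1 => EIn.neg hij h1
  inv_mem' := by
    intro x hx
    by_cases hx0 : x = 0
    · rw [hx0, _root_.inv_zero]; exact eIn_zero i j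
    · have h1 : ∀ k : ℕ, EIn H i j (x ^ k) := by
        intro k
        induction k with
        | zero => rw [pow_zero]; exact hS.eIn hij F₀.one_mem
        | succ k ih => rw [pow_succ]; exact EIn.mul hn hS hij ih hx
      have h2 : x * x ^ (Fintype.card F - 2) = 1 := by
        rw [← pow_succ']
        have : Fintype.card F - 2 + 1 = Fintype.card F - 1 := by
          have : 1 < Fintype.card F := Fintype.one_lt_card
          omega
        rw [this]
        exact FiniteField.pow_card_sub_one_eq_one x hx0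
      have h3 : x ^ (Fintype.card F - 2) = x⁻¹ := eq_inv_of_mul_eq_one_right h2
      show EIn H i j x⁻¹
      rw [← h3]
      exact h1 _

theorem mem_parField (hn : 3 ≤ n) (hS : HasRat F₀ H) (i j : Fin n) (hij : i ≠ j) (c : F) :
    c ∈ parField F₀ H hn hS i j hij ↔ EIn H i j c := Iff.rfl

theorem le_parField (hn : 3 ≤ n) (hS : HasRat F₀ H) (i j : Fin n) (hij : i ≠ j) :
    F₀ ≤ parField F₀ H hn hS i j hij := fun c hc => hS.eIn hij hc

end Par

section Top

variable {F : Type u} [Field F] {n : ℕ} (F₀ : Subfield F) (H : Subgroup (GL (Fin n) F))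

theorem transvection_eq (i j : Fin n) (c : F) :
    Matrix.transvection i j c = tvMat (Pi.single j (1 : F)) (c • (Pi.single i (1 : F) : Fin n → F)) := by
  unfold Matrix.transvection tvMat
  congr 1
  ext a b
  rw [vecMulVec_apply, Matrix.single_apply, Pi.smul_apply, Pi.single_apply, Pi.single_apply]
  by_cases ha : a = i <;> by_cases hb : b = j
  · simp [ha, hb]
  · have hb' : ¬ j = b := fun h => hb h.symm
    simp [ha, hb, hb']
  · have ha' : ¬ i = a := fun h => ha h.symm
    simp [ha, hb, ha']
  · have ha' : ¬ i = a := fun h => ha h.symm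
    simp [ha, hb, ha']

/-- all elementary transvections in `H` give `SL ≤ H` -/
theorem specialLinear_le_of_eIn (hn : 3 ≤ n) (h : ∀ i j : Fin n, i ≠ j → ∀ c : F, EIn H i j c) :
    Cfsg.Geo.specialLinear (Fin n) F ≤ H := by
  have : Nontrivial (Fin n) := Fin.nontrivial_iff_two_le.mpr (by omega)
  intro g hg
  rw [mem_specialLinear_iff] at hg
  have key : ∀ A : Matrix.SpecialLinearGroup (Fin n) F, ∀ g : GL (Fin n) F,
      (g : Matrix (Fin n) (Fin n) F) = A.1 → g ∈ H := by
    intro A
    refine Cfsg.Agent.Lib.Helper4.transvection_induction_gen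
      (fun A => ∀ g : GL (Fin n) F, (g : Matrix (Fin n) (Fin n) F) = A.1 → g ∈ H) ?_ ?_ A
    · intro i j hij c g hg
      obtain ⟨t, ht, htv⟩ := h i j hij c
      have : g = t := by
        apply Units.ext
        rw [hg, htv]
        show Matrix.transvection i j c = _
        exact transvection_eq i j c
      rw [this]; exact ht
    · intro A B hA hB g hg
      have e : g = Matrix.SpecialLinearGroup.toGL A * Matrix.SpecialLinearGroup.toGL B := by
        apply Units.ext
        rw [hg, Units.val_mul]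
        rfl
      rw [e]
      exact H.mul_mem (hA _ rfl) (hB _ rfl)
  exact key ⟨g.1, hg⟩ g rfl

theorem vecMul_tvMat (ψ φ c : Fin n → F) : ψ ᵥ* tvMat φ c = ψ + (ψ ⬝ᵥ c) • φ := by
  rw [tvMat_eq, vecMul_add, vecMul_one, vecMul_vecMulVec]

variable {F₀ H}

/-- a non-rational multiple of a rational transvection gives a non-rational elementary one -/
theorem exists_eIn_of_bad (hn : 3 ≤ n) (hS : HasRat F₀ H) {w ξ : Fin n → F} (hw : IsRat F₀ w)
    (hξ : IsRat F₀ ξ) (hw0 : w ≠ 0) (hξ0 : ξ ≠ 0) (hξw : ξ ⬝ᵥ w = 0) {c : F} (hc : c ∉ F₀)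
    (h : TvIn H (c • w) ξ) : ∃ (a k : Fin n) (c' : F), a ≠ k ∧ c' ∉ F₀ ∧ EIn H a k c' := by
  classical
  obtain ⟨a, ha⟩ : ∃ a, w a ≠ 0 := by
    by_contra hcon
    push Not at hcon
    exact hw0 (funext hcon)
  -- the rational transvection moving `w` to a multiple of `e_a`
  set x : Fin n → F := Pi.single a 1 - (w a)⁻¹ • w with hx
  have hxr : IsRat F₀ x := (isRat_single a F₀.one_mem).sub (hw.smul (F₀.inv_mem (hw a)))
  have hax : (Pi.single a (1 : F) : Fin n → F) ⬝ᵥ x = 0 := by
    rw [hx, dotProduct_sub, dotProduct_smul, single_one_dotProduct, single_one_dotProduct,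
      Pi.single_eq_same, smul_eq_mul, inv_mul_cancel₀ ha, sub_self]
  have hs := hS x (Pi.single a 1) hxr (isRat_single a F₀.one_mem) hax
  have hsm := tvG_mem_of_tvIn H x _ hax hs
  have h1 := h.conj _ hsm
  rw [tvG_inv_val, tvG_val, tvMat_mulVec, vecMul_tvMat] at h1
  have e1 : c • w + ((Pi.single a (1 : F) : Fin n → F) ⬝ᵥ c • w) • x = (c * w a) • Pi.single a 1 := by
    rw [single_one_dotProduct, Pi.smul_apply, smul_eq_mul, hx, smul_sub, smul_smul,
      mul_assoc, mul_inv_cancel₀ ha, mul_one]
    abel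
  have e2 : ξ ⬝ᵥ x = ξ a := by
    rw [hx, dotProduct_sub, dotProduct_smul, hξw, smul_zero, sub_zero, dotProduct_single_one]
  rw [e1, e2] at h1
  set ξ' : Fin n → F := ξ + ξ a • -(Pi.single a (1 : F) : Fin n → F) with hξ'
  have hξ'r : IsRat F₀ ξ' := hξ.add ((isRat_single a F₀.one_mem).neg.smul (hξ a))
  have hξ'a : ξ' a = 0 := by
    rw [hξ', Pi.add_apply, Pi.smul_apply, Pi.neg_apply, Pi.single_eq_same, smul_eq_mul]
    ring
  obtain ⟨b, hb⟩ : ∃ b, ξ' b ≠ 0 := by
    by_contra hcon
    push Not at hcon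
    have h0 : ξ' = 0 := funext hcon
    have h2 : ξ = ξ a • (Pi.single a (1 : F) : Fin n → F) := by
      have : ξ = ξ' + ξ a • (Pi.single a (1 : F) : Fin n → F) := by
        rw [hξ', smul_neg]; abel
      calc ξ = ξ' + ξ a • (Pi.single a (1 : F) : Fin n → F) := this
        _ = ξ a • (Pi.single a (1 : F) : Fin n → F) := by rw [h0, zero_add]
    have h3 : ξ a * w a = 0 := by
      rw [h2, smul_dotProduct, single_one_dotProduct] at hξw
      simpa using hξw
    rcases mul_eq_zero.1 h3 with h4 | h4
    · apply hξ0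
      rw [h2, h4, zero_smul]
    · exact ha h4
  have hba : b ≠ a := fun hh => hb (by rw [hh]; exact hξ'a)
  obtain ⟨k, hka, hkb⟩ := exists_ne_ne hn a b
  have h2 : TvIn H (Pi.single b (1 : F) : Fin n → F) (Pi.single k 1) :=
    hS _ _ (isRat_single b F₀.one_mem) (isRat_single k F₀.one_mem)
      (by rw [single_one_dotProduct, Pi.single_eq_of_ne hkb])
  have h3 := TvIn.comm h1 h2
    (by rw [dotProduct_smul, dotProduct_single_one, hξ'a, smul_zero])
    (by rw [single_one_dotProduct, Pi.single_eq_of_ne hkb])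
    (by rw [dotProduct_smul, single_one_dotProduct, Pi.single_eq_of_ne hka, smul_zero])
  rw [dotProduct_single_one, smul_smul] at h3
  refine ⟨a, k, ξ' b * (c * w a), Ne.symm hka, ?_, h3⟩
  intro hmem
  apply hc
  have h4 : c = (ξ' b * (c * w a)) * ((ξ' b)⁻¹ * (w a)⁻¹) := by
    field_simp
  rw [h4]
  exact F₀.mul_mem hmem (F₀.mul_mem (F₀.inv_mem (hξ'r b)) (F₀.inv_mem (hw a)))

end Top

section Main

variable {F : Type u} [Field F] [Fintype F] {n : ℕ} (F₀ : Subfield F)
  (H : Subgroup (GL (Fin n) F))

/-- an overgroup of the rational transvections has no bad transvections or contains `SL` -/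
theorem noBad_or_le (hn : 3 ≤ n) (hS : HasRat F₀ H) (r : ℕ) (hr : r.Prime)
    (hcard : Fintype.card F = Nat.card F₀ ^ r) :
    NoBad F₀ H ∨ Cfsg.Geo.specialLinear (Fin n) F ≤ H := by
  classical
  by_cases hbad : NoBad F₀ H
  · exact Or.inl hbad
  right
  unfold NoBad at hbad
  push Not at hbad
  obtain ⟨w, ξ, hw, hξ, hw0, hξ0, hξw, c, hc, hcn⟩ := hbad
  obtain ⟨a, k, c', hak, hc', he⟩ := exists_eIn_of_bad hn hS hw hξ hw0 hξ0 hξw hcn hc
  have htop : parField F₀ H hn hS a k hak = ⊤ := by
    rcases subfield_eq_or_eq_top F₀ _ (le_parField F₀ H hn hS a k hak) r hr hcard with h | h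
    · exfalso
      apply hc'
      rw [← h]
      exact he
    · exact h
  apply specialLinear_le_of_eIn H hn
  intro i j hij x
  have hx : EIn H a k x := by
    rw [← mem_parField F₀ H hn hS a k hak, htop]
    exact Subfield.mem_top x
  exact EIn.spread hn hS hak hx i j hij

end Main

end Cfsg.Agent.Lib.Helper2.Sfm
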