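import Mathlib
import Cfsg.Agent.Lib.Helper2.SfmB
set_option autoImplicit false
set_option maxHeartbeats 1000000
set_option linter.unusedVariables false
set_option linter.unusedSectionVars false
set_option linter.style.longLine false
set_option linter.unusedSimpArgs false
set_option linter.deprecated false
set_option linter.style.haveILetI false

/-! Subfield subgroups of `SL_n` are maximal (part C): an element of an overgroup without bad
transvections which sends some rational vector into a rational hyperplane lies in the subfield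
group. -/

namespace Cfsg.Agent.Lib.Helper2.Sfm

open Matrix Cfsg.Agent.Lib.Helper5.TvGL Cfsg.Agent.Lib.Helper5.SLSubspaceMax

universe u

variable {F : Type u} [Field F] {n : ℕ} {F₀ : Subfield F} {H : Subgroup (GL (Fin n) F)}

/-- a transvection of `H` with rational centre has rational axis -/
theorem isRat_axis (hn : 3 ≤ n) (hS : HasRat F₀ H) (hN : NoBad F₀ H) {w ψ : Fin n → F}
    (h : TvIn H w ψ) (hw : IsRat F₀ w) (hw0 : w ≠ 0) (hψw : ψ ⬝ᵥ w = 0) : IsRat F₀ ψ := by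
  classical
  intro j
  obtain ⟨ξ', hξ'r, hξ'0, h1, h2⟩ := exists_rat_ker_two hn hw (isRat_single j F₀.one_mem)
  rw [dotProduct_comm] at h1 h2
  have ht : TvIn H (Pi.single j (1 : F) : Fin n → F) ξ' :=
    hS _ _ (isRat_single j F₀.one_mem) hξ'r h2
  have hc := TvIn.comm h ht hψw h2 h1
  have := hN w ξ' hw hξ'r hw0 hξ'0 h1 _ hc
  rwa [dotProduct_single_one] at this

/-- a transvection of `H` with rational axis has rational centre -/
theorem isRat_centre (hn : 3 ≤ n) (hS : HasRat F₀ H) (hN : NoBad F₀ H) {u ξ : Fin n → F}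
    (h : TvIn H u ξ) (hξ : IsRat F₀ ξ) (hξ0 : ξ ≠ 0) (hξu : ξ ⬝ᵥ u = 0) : IsRat F₀ u := by
  classical
  intro i
  obtain ⟨w', hw'r, hw'0, h1, h2⟩ := exists_rat_ker_two hn hξ (isRat_single i F₀.one_mem)
  have ht : TvIn H w' (Pi.single i (1 : F) : Fin n → F) :=
    hS _ _ hw'r (isRat_single i F₀.one_mem) h2
  have hc := TvIn.comm ht h h2 hξu h1
  have := hN w' ξ hw'r hξ hw'0 hξ0 h1 _ hc
  rwa [single_one_dotProduct] at this

/-- moving the axis of a transvection to a rational hyperplane through its centre -/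
theorem isRat_smul_centre (hn : 3 ≤ n) (hS : HasRat F₀ H) (hN : NoBad F₀ H) {u ψ ξ w : Fin n → F}
    (h : TvIn H u ψ) (hψu : ψ ⬝ᵥ u = 0) (hξ : IsRat F₀ ξ) (hξ0 : ξ ≠ 0) (hξu : ξ ⬝ᵥ u = 0)
    (hw : IsRat F₀ w) (hξw : ξ ⬝ᵥ w = 0) : IsRat F₀ ((ψ ⬝ᵥ w) • u) := by
  have ht : TvIn H w ξ := hS _ _ hw hξ hξw
  have hc := TvIn.comm h ht hψu hξw hξu
  exact isRat_centre hn hS hN hc hξ hξ0 (by rw [dotProduct_smul, hξu, smul_zero])

theorem mulVec_inv_cancel (g : GL (Fin n) F) (x : Fin n → F) :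
    (g⁻¹ : GL (Fin n) F).1 *ᵥ (g.1 *ᵥ x) = x := by
  rw [mulVec_mulVec, ← Units.val_mul, inv_mul_cancel, Units.val_one, one_mulVec]

theorem mulVec_cancel_inv (g : GL (Fin n) F) (x : Fin n → F) :
    g.1 *ᵥ ((g⁻¹ : GL (Fin n) F).1 *ᵥ x) = x := by
  rw [mulVec_mulVec, ← Units.val_mul, mul_inv_cancel, Units.val_one, one_mulVec]

theorem mulVec_eq_zero_iff (g : GL (Fin n) F) (x : Fin n → F) : g.1 *ᵥ x = 0 ↔ x = 0 := by
  constructor
  · intro h
    have := mulVec_inv_cancel g x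
    rw [h, mulVec_zero] at this
    exact this.symm
  · intro h
    rw [h, mulVec_zero]

theorem vecMul_eq_zero_iff (g : GL (Fin n) F) (x : Fin n → F) : x ᵥ* g.1 = 0 ↔ x = 0 := by
  constructor
  · intro h
    have h1 : (x ᵥ* g.1) ᵥ* (g⁻¹ : GL (Fin n) F).1 = x := by
      rw [vecMul_vecMul, ← Units.val_mul, mul_inv_cancel, Units.val_one, vecMul_one]
    rw [h, zero_vecMul] at h1
    exact h1.symm
  · intro h
    rw [h, zero_vecMul]

/-- a non-degenerate pairing between the rational hyperplanes attached to `v₀` and `ξ₀` -/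
theorem exists_pairing (hn : 3 ≤ n) (B : GL (Fin n) F) {v₀ ξ₀ : Fin n → F} (hv₀ : IsRat F₀ v₀)
    (hξ₀ : IsRat F₀ ξ₀) (hv0 : v₀ ≠ 0) (hξ0 : ξ₀ ≠ 0) :
    ∃ φ₁ w₁ : Fin n → F, IsRat F₀ φ₁ ∧ IsRat F₀ w₁ ∧ φ₁ ⬝ᵥ v₀ = 0 ∧ ξ₀ ⬝ᵥ w₁ = 0 ∧
      φ₁ ⬝ᵥ (B.1 *ᵥ w₁) ≠ 0 := by
  classical
  by_contra hcon
  push Not at hcon
  obtain ⟨i₀, hi₀⟩ : ∃ i, v₀ i ≠ 0 := by
    by_contra h; push Not at h; exact hv0 (funext h)
  obtain ⟨j₀, hj₀⟩ : ∃ j, ξ₀ j ≠ 0 := by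
    by_contra h; push Not at h; exact hξ0 (funext h)
  have one := F₀.one_mem
  -- every image of a rational vector of the hyperplane is a multiple of `v₀`
  have key : ∀ w : Fin n → F, IsRat F₀ w → ξ₀ ⬝ᵥ w = 0 →
      B.1 *ᵥ w = ((B.1 *ᵥ w) i₀ / v₀ i₀) • v₀ := by
    intro w hw hξw
    ext i
    set φ : Fin n → F := v₀ i₀ • Pi.single i 1 - v₀ i • Pi.single i₀ 1 with hφ
    have hφr : IsRat F₀ φ :=
      ((isRat_single i one).smul (hv₀ i₀)).sub ((isRat_single i₀ one).smul (hv₀ i))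
    have hφv : φ ⬝ᵥ v₀ = 0 := by
      rw [hφ, sub_dotProduct, smul_dotProduct, smul_dotProduct, single_one_dotProduct,
        single_one_dotProduct, smul_eq_mul, smul_eq_mul]
      ring
    have h1 := hcon φ w hφr hw hφv hξw
    rw [hφ, sub_dotProduct, smul_dotProduct, smul_dotProduct, single_one_dotProduct,
      single_one_dotProduct, smul_eq_mul, smul_eq_mul] at h1
    rw [Pi.smul_apply, smul_eq_mul]
    field_simp
    linear_combination h1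
  -- two independent rational vectors of the hyperplane
  obtain ⟨j, hj, -⟩ := exists_ne_ne hn j₀ j₀
  obtain ⟨j', hj'0, hj'j⟩ := exists_ne_ne hn j₀ j
  set wv : Fin n → Fin n → F := fun k => ξ₀ j₀ • Pi.single k 1 - ξ₀ k • Pi.single j₀ 1 with hwv
  have hwr : ∀ k, IsRat F₀ (wv k) := fun k =>
    ((isRat_single k one).smul (hξ₀ j₀)).sub ((isRat_single j₀ one).smul (hξ₀ k))
  have hwξ : ∀ k, ξ₀ ⬝ᵥ wv k = 0 := by
    intro k
    rw [hwv]
    simp only [dotProduct_sub, dotProduct_smul, dotProduct_single_one, smul_eq_mul]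
    ring
  have hwkk : ∀ k, k ≠ j₀ → wv k k = ξ₀ j₀ := by
    intro k hk
    simp only [hwv, Pi.sub_apply, Pi.smul_apply, Pi.single_eq_same, smul_eq_mul, mul_one]
    rw [Pi.single_eq_of_ne hk, mul_zero, sub_zero]
  have hwkl : wv j' j = 0 := by
    simp only [hwv, Pi.sub_apply, Pi.smul_apply, smul_eq_mul]
    rw [Pi.single_eq_of_ne (Ne.symm hj'j), Pi.single_eq_of_ne hj, mul_zero, mul_zero, sub_zero]
  have k1 := key (wv j) (hwr j) (hwξ j)
  have k2 := key (wv j') (hwr j') (hwξ j')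
  set l := (B.1 *ᵥ wv j) i₀ / v₀ i₀ with hl
  set l' := (B.1 *ᵥ wv j') i₀ / v₀ i₀ with hl'
  have h3 : B.1 *ᵥ (l' • wv j - l • wv j') = 0 := by
    rw [mulVec_sub, mulVec_smul, mulVec_smul, k1, k2, smul_smul, smul_smul, mul_comm, sub_self]
  rw [mulVec_eq_zero_iff] at h3
  have h4 := congrFun h3 j
  rw [Pi.sub_apply, Pi.smul_apply, Pi.smul_apply, hwkk j hj, hwkl, smul_eq_mul, smul_eq_mul,
    mul_zero, sub_zero, Pi.zero_apply] at h4
  have hl'0 : l' = 0 := by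
    rcases mul_eq_zero.1 h4 with h | h
    · exact h
    · exact absurd h hj₀
  rw [hl'0, zero_smul] at k2
  rw [mulVec_eq_zero_iff] at k2
  have h5 := congrFun k2 j'
  rw [hwkk j' hj'0, Pi.zero_apply] at h5
  exact hj₀ h5

/-- `c` sends no non-zero rational vector into a rational hyperplane -/
def Generic (F₀ : Subfield F) (c : GL (Fin n) F) : Prop :=
  ∀ ξ v : Fin n → F, IsRat F₀ ξ → IsRat F₀ v → ξ ≠ 0 → v ≠ 0 → ξ ⬝ᵥ (c.1 *ᵥ v) ≠ 0

/-- a non-generic element of an overgroup without bad transvections is in the subfield group -/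
theorem mem_of_not_generic (hn : 3 ≤ n) (hS : HasRat F₀ H) (hN : NoBad F₀ H) (c : GL (Fin n) F)
    (hc : c ∈ H) {ξ₀ v₀ : Fin n → F} (hξ₀ : IsRat F₀ ξ₀) (hv₀ : IsRat F₀ v₀) (hξ0 : ξ₀ ≠ 0)
    (hv0 : v₀ ≠ 0) (h0 : ξ₀ ⬝ᵥ (c.1 *ᵥ v₀) = 0) : c ∈ Cfsg.Geo.subfieldSubgroup F₀ 1 := by
  classical
  obtain ⟨φ₁, w₁, hφ₁, hw₁, hφ₁v, hξw₁, hne⟩ := exists_pairing hn c⁻¹ hv₀ hξ₀ hv0 hξ0
  -- conjugates of rational transvections
  have hconj : ∀ v φ : Fin n → F, IsRat F₀ v → IsRat F₀ φ → φ ⬝ᵥ v = 0 →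
      TvIn H (c.1 *ᵥ v) (φ ᵥ* (c⁻¹ : GL (Fin n) F).1) :=
    fun v φ hv hφ hφv => (hS v φ hv hφ hφv).conj c hc
  have hdot : ∀ v φ : Fin n → F, (φ ᵥ* (c⁻¹ : GL (Fin n) F).1) ⬝ᵥ (c.1 *ᵥ v) = φ ⬝ᵥ v := by
    intro v φ
    rw [← dotProduct_mulVec, mulVec_inv_cancel]
  set μ : F := (φ₁ ᵥ* (c⁻¹ : GL (Fin n) F).1) ⬝ᵥ w₁ with hμ
  have hμ0 : μ ≠ 0 := by
    rw [hμ, ← dotProduct_mulVec]; exact hne
  have hw₀ : IsRat F₀ (μ • (c.1 *ᵥ v₀)) :=
    isRat_smul_centre hn hS hN (hconj v₀ φ₁ hv₀ hφ₁ hφ₁v) (by rw [hdot, hφ₁v]) hξ₀ hξ0 h0 hw₁ hξw₁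
  have hw₀0 : μ • (c.1 *ᵥ v₀) ≠ 0 := by
    intro h
    rcases smul_eq_zero.1 h with h | h
    · exact hμ0 h
    · exact hv0 ((mulVec_eq_zero_iff c v₀).1 h)
  -- axes of the conjugates with centre `c v₀`
  have hR1 : ∀ φ : Fin n → F, IsRat F₀ φ → φ ⬝ᵥ v₀ = 0 →
      IsRat F₀ (μ⁻¹ • (φ ᵥ* (c⁻¹ : GL (Fin n) F).1)) := by
    intro φ hφ hφv
    have h1 := hconj v₀ φ hv₀ hφ hφv
    have h2 : c.1 *ᵥ v₀ = μ⁻¹ • (μ • (c.1 *ᵥ v₀)) := by
      rw [smul_smul, inv_mul_cancel₀ hμ0, one_smul]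
    rw [h2] at h1
    refine isRat_axis hn hS hN h1.smul_comm hw₀ hw₀0 ?_
    rw [smul_dotProduct, dotProduct_smul, hdot, hφv, smul_zero, smul_zero]
  -- images of rational vectors
  have hR2 : ∀ v : Fin n → F, IsRat F₀ v → IsRat F₀ (μ • (c.1 *ᵥ v)) := by
    intro v hv
    obtain ⟨φ, hφr, hφ0, h1, h2⟩ := exists_rat_ker_two hn hv hv₀
    rw [dotProduct_comm] at h1 h2
    have h3 := hconj v φ hv hφr h1
    have h4 : c.1 *ᵥ v = μ⁻¹ • (μ • (c.1 *ᵥ v)) := by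
      rw [smul_smul, inv_mul_cancel₀ hμ0, one_smul]
    rw [h4] at h3
    refine isRat_centre hn hS hN h3.smul_comm (hR1 φ hφr h2) ?_ ?_
    · intro h
      rcases smul_eq_zero.1 h with h | h
      · exact inv_ne_zero hμ0 h
      · exact hφ0 ((vecMul_eq_zero_iff _ φ).1 h)
    · rw [smul_dotProduct, dotProduct_smul, hdot, h1, smul_zero, smul_zero]
  rw [mem_subfield_iff]
  refine ⟨μ, hμ0, fun i j => ?_⟩
  have := hR2 (Pi.single j 1) (isRat_single j F₀.one_mem) i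
  rwa [Pi.smul_apply, mulVec_single_one, smul_eq_mul] at this

/-- elements of the overgroup outside the subfield group are generic -/
theorem generic_of_not_mem (hn : 3 ≤ n) (hS : HasRat F₀ H) (hN : NoBad F₀ H) (c : GL (Fin n) F)
    (hc : c ∈ H) (hcM : c ∉ Cfsg.Geo.subfieldSubgroup F₀ 1) : Generic F₀ c := by
  intro ξ v hξ hv hξ0 hv0 h0
  exact hcM (mem_of_not_generic hn hS hN c hc hξ hv hξ0 hv0 h0)

end Cfsg.Agent.Lib.Helper2.Sfm
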