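import Mathlib
import Cfsg.Agent.Lib.Helper2.SfmC
import Cfsg.Agent.S0801
set_option autoImplicit false
set_option maxHeartbeats 1000000
set_option linter.unusedVariables false
set_option linter.unusedSectionVars false
set_option linter.style.longLine false
set_option linter.unusedSimpArgs false
set_option linter.deprecated false
set_option linter.style.haveILetI false

/-! Subfield subgroups of `SL_n` are maximal (part D): odd characteristic.  Two transvections
generate a copy of `SL_2` over the field generated by their parameter (Dickson's lemma), which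
forces every element of an overgroup without bad transvections to be non-generic. -/

namespace Cfsg.Agent.Lib.Helper2.Sfm

open Matrix Cfsg.Agent.Lib.Helper5.TvGL Cfsg.Agent.Lib.Helper5.SLSubspaceMax

universe u

section Emb

variable {F : Type u} [Field F] {n : ℕ}

/-- the embedding of `2 × 2` matrices attached to a pair of vectors and a dual pair -/
def embHom (A : Matrix (Fin n) (Fin 2) F) (B : Matrix (Fin 2) (Fin n) F) (hBA : B * A = 1) :
    Matrix (Fin 2) (Fin 2) F →* Matrix (Fin n) (Fin n) F where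
  toFun X := 1 + A * (X - 1) * B
  map_one' := by simp
  map_mul' := fun X Y => by
    have h1 : A * (X - 1) * B * (A * (Y - 1) * B) = A * ((X - 1) * (Y - 1)) * B := by
      calc A * (X - 1) * B * (A * (Y - 1) * B) = A * (X - 1) * (B * A) * (Y - 1) * B := by
            simp only [Matrix.mul_assoc]
        _ = A * ((X - 1) * (Y - 1)) * B := by
            rw [hBA, Matrix.mul_one]; simp only [Matrix.mul_assoc]
    have h2 : X * Y - 1 = (X - 1) + (Y - 1) + (X - 1) * (Y - 1) := by noncomm_ring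
    rw [mul_add, add_mul, add_mul, one_mul, mul_one, one_mul, h1, h2, Matrix.mul_add, Matrix.mul_add,
      Matrix.add_mul, Matrix.add_mul]
    abel

theorem embHom_apply (A : Matrix (Fin n) (Fin 2) F) (B : Matrix (Fin 2) (Fin n) F)
    (hBA : B * A = 1) (X : Matrix (Fin 2) (Fin 2) F) : embHom A B hBA X = 1 + A * (X - 1) * B := rfl

/-- the matrix with columns `b₁, b₂` -/
def colMat (b₁ b₂ : Fin n → F) : Matrix (Fin n) (Fin 2) F := Matrix.of fun i a => ![b₁, b₂] a i

/-- the matrix with rows `ε₁, ε₂` -/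
def rowMat (ε₁ ε₂ : Fin n → F) : Matrix (Fin 2) (Fin n) F := Matrix.of ![ε₁, ε₂]

theorem rowMat_mul_colMat (b₁ b₂ ε₁ ε₂ : Fin n → F) (h11 : ε₁ ⬝ᵥ b₁ = 1) (h12 : ε₁ ⬝ᵥ b₂ = 0)
    (h21 : ε₂ ⬝ᵥ b₁ = 0) (h22 : ε₂ ⬝ᵥ b₂ = 1) : rowMat ε₁ ε₂ * colMat b₁ b₂ = 1 := by
  ext a b
  have key : (rowMat ε₁ ε₂ * colMat b₁ b₂) a b = (![ε₁, ε₂] a) ⬝ᵥ (![b₁, b₂] b) := rfl
  rw [key]
  fin_cases a <;> fin_cases b <;> simp [h11, h12, h21, h22]

theorem emb_upper (b₁ b₂ ε₁ ε₂ : Fin n → F) (x : F) :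
    colMat b₁ b₂ * (!![1, x; 0, 1] - 1) * rowMat ε₁ ε₂ = vecMulVec b₁ (x • ε₂) := by
  ext i j
  simp [Matrix.mul_apply, Fin.sum_univ_two, vecMulVec_apply, colMat, rowMat]
  ring

theorem emb_lower (b₁ b₂ ε₁ ε₂ : Fin n → F) (x : F) :
    colMat b₁ b₂ * (!![1, 0; x, 1] - 1) * rowMat ε₁ ε₂ = vecMulVec b₂ (x • ε₁) := by
  ext i j
  simp [Matrix.mul_apply, Fin.sum_univ_two, vecMulVec_apply, colMat, rowMat]
  ring

/-- matrices of `SL_2` over a subfield, as matrices over the field -/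
def slToMat (K' : Subfield F) : Matrix.SpecialLinearGroup (Fin 2) K' →* Matrix (Fin 2) (Fin 2) F where
  toFun g := K'.subtype.mapMatrix g.1
  map_one' := by simp
  map_mul' := fun g h => by rw [Matrix.SpecialLinearGroup.coe_mul, map_mul]

theorem slToMat_apply (K' : Subfield F) (g : Matrix.SpecialLinearGroup (Fin 2) K') :
    slToMat K' g = K'.subtype.mapMatrix g.1 := rfl

theorem mapMatrix_two (K' : Subfield F) (a b c d : K') :
    K'.subtype.mapMatrix !![a, b; c, d] = !![(a : F), (b : F); (c : F), (d : F)] := by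
  ext i j
  fin_cases i <;> fin_cases j <;> simp

end Emb

section Dickson

variable {F : Type u} [Field F] [Fintype F] {n : ℕ} {F₀ : Subfield F}
  {H : Subgroup (GL (Fin n) F)}

theorem closure_singleton_top (lam : F) :
    Subfield.closure ({⟨lam, Subfield.subset_closure rfl⟩} :
      Set (Subfield.closure ({lam} : Set F))) = ⊤ := by
  rw [eq_top_iff]
  intro x _
  have h1 : Subfield.closure ({lam} : Set F) ≤
      (Subfield.closure ({⟨lam, Subfield.subset_closure rfl⟩} :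
        Set (Subfield.closure ({lam} : Set F)))).map
        (Subfield.closure ({lam} : Set F)).subtype := by
    apply Subfield.closure_le.2
    intro y hy
    rw [Set.mem_singleton_iff] at hy
    rw [SetLike.mem_coe, Subfield.mem_map]
    exact ⟨⟨lam, Subfield.subset_closure rfl⟩, Subfield.subset_closure rfl, by rw [hy]; rfl⟩
  obtain ⟨y, hy, hyx⟩ := Subfield.mem_map.1 (h1 x.2)
  have : y = x := Subtype.ext hyx
  rw [← this]
  exact hy

/-- Dickson's lemma applied to a transvection of `H` and a rational transvection: the product of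
the two parameters is rational or a square root of `-1` -/
theorem dickson_step (h2 : (2 : F) ≠ 0) (hS : HasRat F₀ H) (hN : NoBad F₀ H) {u ψ w ξ : Fin n → F}
    (hT : TvIn H u ψ) (hψu : ψ ⬝ᵥ u = 0) (hw : IsRat F₀ w) (hξ : IsRat F₀ ξ) (hξw : ξ ⬝ᵥ w = 0) :
    (ξ ⬝ᵥ u) * (ψ ⬝ᵥ w) ∈ F₀ ∨ ((ξ ⬝ᵥ u) * (ψ ⬝ᵥ w)) ^ 2 = -1 := by
  classical
  set α := ξ ⬝ᵥ u with hα
  set β := ψ ⬝ᵥ w with hβ
  set lam := α * β with hlam
  by_cases hl0 : lam = 0
  · left; rw [hl0]; exact F₀.zero_mem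
  have hα0 : α ≠ 0 := left_ne_zero_of_mul hl0
  have hβ0 : β ≠ 0 := right_ne_zero_of_mul hl0
  have hw0 : w ≠ 0 := by
    intro h; apply hβ0; rw [hβ, h, dotProduct_zero]
  have hξ0 : ξ ≠ 0 := by
    intro h; apply hα0; rw [hα, h, zero_dotProduct]
  -- the embedding
  set b₂ : Fin n → F := β • u with hb₂
  set ε₁ : Fin n → F := β⁻¹ • ψ with hε₁
  set ε₂ : Fin n → F := lam⁻¹ • ξ with hε₂
  have hBA : rowMat ε₁ ε₂ * colMat w b₂ = 1 := by
    apply rowMat_mul_colMat
    · rw [hε₁, smul_dotProduct, ← hβ, smul_eq_mul, inv_mul_cancel₀ hβ0]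
    · rw [hε₁, hb₂, smul_dotProduct, dotProduct_smul, hψu, smul_zero, smul_zero]
    · rw [hε₂, smul_dotProduct, hξw, smul_zero]
    · rw [hε₂, hb₂, smul_dotProduct, dotProduct_smul, ← hα, smul_eq_mul, smul_eq_mul, hlam]
      field_simp
  set K' := Subfield.closure ({lam} : Set F) with hK'
  set lam' : K' := ⟨lam, Subfield.subset_closure rfl⟩ with hlam'
  set Ψ : Matrix.SpecialLinearGroup (Fin 2) K' →* GL (Fin n) F :=
    ((embHom (colMat w b₂) (rowMat ε₁ ε₂) hBA).comp (slToMat K')).toHomUnits with hΨ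
  have hΨv : ∀ g, (Ψ g : Matrix (Fin n) (Fin n) F) =
      1 + colMat w b₂ * (K'.subtype.mapMatrix g.1 - 1) * rowMat ε₁ ε₂ := by
    intro g
    rw [hΨ, MonoidHom.coe_toHomUnits]
    rfl
  have h2' : (2 : K') ≠ 0 := by
    intro h
    apply h2
    have := congrArg K'.subtype h
    rwa [map_ofNat, map_zero] at this
  have hlam'0 : lam' ≠ 0 := by
    intro h
    apply hl0
    have := congrArg (fun x : K' => (x : F)) h
    simpa [hlam'] using this
  rcases Cfsg.Agent.S0801.result h2' lam' hlam'0 (closure_singleton_top lam) with ⟨hgen, -⟩ | ⟨-, hsq, -⟩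
  · left
    -- the whole `SL_2` maps into `H`
    have hle : Subgroup.closure {g : Matrix.SpecialLinearGroup (Fin 2) K' |
        (g : Matrix (Fin 2) (Fin 2) K') = !![1, 0; 1, 1] ∨
        (g : Matrix (Fin 2) (Fin 2) K') = !![1, lam'; 0, 1]} ≤ H.comap Ψ := by
      rw [Subgroup.closure_le]
      rintro g (hg | hg)
      · -- the lower generator is the transvection of `H`
        obtain ⟨t, ht, htv⟩ := hT
        have : Ψ g = t := by
          apply Units.ext
          rw [hΨv, hg, mapMatrix_two, htv, tvMat_eq]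
          have e := emb_lower w b₂ ε₁ ε₂ (1 : F)
          simp only [OneMemClass.coe_one, ZeroMemClass.coe_zero]
          rw [e, one_smul, hb₂, hε₁, smul_vecMulVec, vecMulVec_smul, smul_smul,
            mul_inv_cancel₀ hβ0, one_smul]
        show Ψ g ∈ H
        rw [this]; exact ht
      · obtain ⟨t, ht, htv⟩ := hS w ξ hw hξ hξw
        have : Ψ g = t := by
          apply Units.ext
          rw [hΨv, hg, mapMatrix_two, htv, tvMat_eq]
          have e := emb_upper w b₂ ε₁ ε₂ lam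
          simp only [OneMemClass.coe_one, ZeroMemClass.coe_zero]
          rw [e, hε₂, smul_smul, mul_inv_cancel₀ hl0, one_smul]
        show Ψ g ∈ H
        rw [this]; exact ht
    rw [hgen] at hle
    -- the upper unipotent element with parameter `lam ^ 2`
    have hdet : (!![1, lam' * lam'; 0, 1] : Matrix (Fin 2) (Fin 2) K').det = 1 := by
      rw [Matrix.det_fin_two_of]; ring
    obtain ⟨g₀, hg₀⟩ : ∃ g₀ : Matrix.SpecialLinearGroup (Fin 2) K',
        (g₀ : Matrix (Fin 2) (Fin 2) K') = !![1, lam' * lam'; 0, 1] := ⟨⟨_, hdet⟩, rfl⟩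
    have hmem : Ψ g₀ ∈ H := hle (Subgroup.mem_top _)
    have hval : (Ψ g₀ : Matrix (Fin n) (Fin n) F) = tvMat ξ (lam • w) := by
      rw [hΨv, hg₀, mapMatrix_two, tvMat_eq]
      have e := emb_upper w b₂ ε₁ ε₂ (lam * lam)
      simp only [OneMemClass.coe_one, ZeroMemClass.coe_zero, MulMemClass.coe_mul]
      rw [e, hε₂, smul_smul, mul_assoc, mul_inv_cancel₀ hl0, mul_one, smul_vecMulVec, vecMulVec_smul]
    exact hN w ξ hw hξ hw0 hξ0 hξw lam ⟨_, hmem, hval⟩
  · right
    have := congrArg (fun x : K' => (x : F)) hsq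
    simpa [hlam'] using this

end Dickson

section Odd

variable {F : Type u} [Field F] [Fintype F] {n : ℕ} {F₀ : Subfield F}
  {H : Subgroup (GL (Fin n) F)}

theorem alg_aux (h2 : (2 : F) ≠ 0) (a b : F) (ha0 : a ≠ 0) (hb0 : b ≠ 0) (hab : a + b ≠ 0)
    (hab' : a - b ≠ 0) (Qa : a ∈ F₀ ∨ a ^ 2 = -1) (Qb : b ∈ F₀ ∨ b ^ 2 = -1)
    (Qab : a + b ∈ F₀ ∨ (a + b) ^ 2 = -1) (hboth : ¬ (a ∈ F₀ ∧ b ∈ F₀)) : False := by
  have two : (2 : F) ∈ F₀ := by
    have : (2 : F) = 1 + 1 := by norm_num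
    rw [this]; exact F₀.add_mem F₀.one_mem F₀.one_mem
  rcases Qa with ha | ha
  · rcases Qb with hb | hb
    · exact hboth ⟨ha, hb⟩
    · have hbn : b ∉ F₀ := fun h => hboth ⟨ha, h⟩
      rcases Qab with h | h
      · apply hbn
        have : b = (a + b) - a := by ring
        rw [this]; exact F₀.sub_mem h ha
      · have h1 : a * (a + 2 * b) = 0 := by linear_combination h - hb
        rcases mul_eq_zero.1 h1 with h3 | h3
        · exact ha0 h3
        · apply hbn
          have : b = -a * 2⁻¹ := by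
            field_simp
            linear_combination h3
          rw [this]; exact F₀.mul_mem (F₀.neg_mem ha) (F₀.inv_mem two)
  · rcases Qb with hb | hb
    · have han : a ∉ F₀ := fun h => hboth ⟨h, hb⟩
      rcases Qab with h | h
      · apply han
        have : a = (a + b) - b := by ring
        rw [this]; exact F₀.sub_mem h hb
      · have h1 : b * (2 * a + b) = 0 := by linear_combination h - ha
        rcases mul_eq_zero.1 h1 with h3 | h3
        · exact hb0 h3
        · apply han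
          have : a = -b * 2⁻¹ := by
            field_simp
            linear_combination h3
          rw [this]; exact F₀.mul_mem (F₀.neg_mem hb) (F₀.inv_mem two)
    · have h1 : (a + b) * (a - b) = 0 := by linear_combination ha - hb
      rcases mul_eq_zero.1 h1 with h3 | h3
      · exact hab h3
      · exact hab' h3

/-- in odd characteristic no element of an overgroup without bad transvections is generic -/
theorem not_generic_odd (h2 : (2 : F) ≠ 0) (hn : 3 ≤ n) (hS : HasRat F₀ H) (hN : NoBad F₀ H)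
    (c : GL (Fin n) F) (hc : c ∈ H) : ¬ Generic F₀ c := by
  classical
  intro hgen
  have one := F₀.one_mem
  -- a non-zero entry of the inverse
  obtain ⟨j, k, hjk⟩ : ∃ j k, (c⁻¹ : GL (Fin n) F).1 j k ≠ 0 := by
    by_contra hcon
    push Not at hcon
    have h0 : (c⁻¹ : GL (Fin n) F).1 = 0 := by ext j k; exact hcon j k
    have h1 : (c⁻¹ : GL (Fin n) F).1 * c.1 = 1 := by
      rw [← Units.val_mul, inv_mul_cancel, Units.val_one]
    rw [h0, zero_mul] at h1
    have h3 := congrFun (congrFun h1 ⟨0, by omega⟩) ⟨0, by omega⟩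
    simp at h3
  obtain ⟨j', hj', -⟩ := exists_ne_ne hn j j
  obtain ⟨k', hk', -⟩ := exists_ne_ne hn k k
  obtain ⟨k'', hk''k, hk''k'⟩ := exists_ne_ne hn k k'
  set v : Fin n → F := Pi.single j' 1 with hv
  set φ₁ : Fin n → F := Pi.single j 1 with hφ₁
  set w₁ : Fin n → F := Pi.single k 1 with hw₁
  have hφv : φ₁ ⬝ᵥ v = 0 := by
    rw [hφ₁, hv, single_one_dotProduct, Pi.single_eq_of_ne hj'.symm]
  set u := c.1 *ᵥ v with hu
  set ψ := φ₁ ᵥ* (c⁻¹ : GL (Fin n) F).1 with hψ
  have hT : TvIn H u ψ :=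
    (hS v φ₁ (isRat_single j' one) (isRat_single j one) hφv).conj c hc
  have hψu : ψ ⬝ᵥ u = 0 := by
    rw [hψ, hu, ← dotProduct_mulVec, mulVec_inv_cancel, hφv]
  have hβ : ψ ⬝ᵥ w₁ = (c⁻¹ : GL (Fin n) F).1 j k := by
    rw [hψ, hw₁, dotProduct_single_one, hφ₁, single_one_vecMul]
    rfl
  set β := (c⁻¹ : GL (Fin n) F).1 j k with hβdef
  have hv0 : v ≠ 0 := by
    intro h
    have := congrFun h j'
    rw [hv, Pi.single_eq_same, Pi.zero_apply] at this
    exact one_ne_zero this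
  -- the property for rational functionals vanishing on `w₁`
  have hQ : ∀ ξ : Fin n → F, IsRat F₀ ξ → ξ k = 0 →
      (ξ ⬝ᵥ u) * β ∈ F₀ ∨ ((ξ ⬝ᵥ u) * β) ^ 2 = -1 := by
    intro ξ hξ hξk
    have := dickson_step h2 hS hN hT hψu (isRat_single k one) hξ
      (by rw [dotProduct_single_one]; exact hξk)
    rwa [hβ] at this
  have hne : ∀ ξ : Fin n → F, IsRat F₀ ξ → ξ ≠ 0 → (ξ ⬝ᵥ u) * β ≠ 0 := by
    intro ξ hξ hξ0
    exact mul_ne_zero (hgen ξ v hξ (isRat_single j' one) hξ0 hv0) hjk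
  set ξ₁ : Fin n → F := Pi.single k' 1 with hξ₁
  set ξ₂ : Fin n → F := Pi.single k'' 1 with hξ₂
  have r1 : IsRat F₀ ξ₁ := isRat_single k' one
  have r2 : IsRat F₀ ξ₂ := isRat_single k'' one
  have z1 : ξ₁ k = 0 := by rw [hξ₁, Pi.single_eq_of_ne hk'.symm]
  have z2 : ξ₂ k = 0 := by rw [hξ₂, Pi.single_eq_of_ne hk''k.symm]
  have v11 : ξ₁ k' = 1 := by rw [hξ₁, Pi.single_eq_same]
  have v21 : ξ₂ k' = 0 := by rw [hξ₂, Pi.single_eq_of_ne hk''k'.symm]
  have nz : ∀ s t : F, s ≠ 0 → s • ξ₁ + t • ξ₂ ≠ 0 := by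
    intro s t hs h
    have := congrFun h k'
    rw [Pi.add_apply, Pi.smul_apply, Pi.smul_apply, v11, v21, smul_eq_mul, smul_eq_mul, mul_one,
      mul_zero, add_zero, Pi.zero_apply] at this
    exact hs this
  have ratc : ∀ s t : F, s ∈ F₀ → t ∈ F₀ → IsRat F₀ (s • ξ₁ + t • ξ₂) :=
    fun s t hs ht => (r1.smul hs).add (r2.smul ht)
  have zc : ∀ s t : F, (s • ξ₁ + t • ξ₂) k = 0 := by
    intro s t
    rw [Pi.add_apply, Pi.smul_apply, Pi.smul_apply, z1, z2, smul_zero, smul_zero, add_zero]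
  have dotc : ∀ s t : F, ((s • ξ₁ + t • ξ₂) ⬝ᵥ u) * β =
      s * ((ξ₁ ⬝ᵥ u) * β) + t * ((ξ₂ ⬝ᵥ u) * β) := by
    intro s t
    rw [add_dotProduct, smul_dotProduct, smul_dotProduct, smul_eq_mul, smul_eq_mul]
    ring
  set a := (ξ₁ ⬝ᵥ u) * β with ha
  set b := (ξ₂ ⬝ᵥ u) * β with hb
  have Qa : a ∈ F₀ ∨ a ^ 2 = -1 := hQ ξ₁ r1 z1
  have Qb : b ∈ F₀ ∨ b ^ 2 = -1 := hQ ξ₂ r2 z2
  have ha0 : a ≠ 0 := by
    have := hne (1 • ξ₁ + 0 • ξ₂) (ratc 1 0 one F₀.zero_mem) (nz 1 0 one_ne_zero)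
    rwa [dotc, one_mul, zero_mul, add_zero] at this
  have hb0 : b ≠ 0 := by
    have h3 : ξ₂ ≠ 0 := by
      intro h
      have := congrFun h k''
      rw [hξ₂, Pi.single_eq_same, Pi.zero_apply] at this
      exact one_ne_zero this
    exact hne ξ₂ r2 h3
  have hab : a + b ≠ 0 := by
    have := hne (1 • ξ₁ + 1 • ξ₂) (ratc 1 1 one one) (nz 1 1 one_ne_zero)
    rwa [dotc, one_mul, one_mul] at this
  have hab' : a - b ≠ 0 := by
    have := hne (1 • ξ₁ + (-1 : F) • ξ₂) (ratc 1 (-1) one (F₀.neg_mem one)) (nz 1 (-1) one_ne_zero)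
    rw [dotc, one_mul, neg_one_mul] at this
    rwa [sub_eq_add_neg]
  have Qab : a + b ∈ F₀ ∨ (a + b) ^ 2 = -1 := by
    have := hQ (1 • ξ₁ + 1 • ξ₂) (ratc 1 1 one one) (zc 1 1)
    rwa [dotc, one_mul, one_mul] at this
  have hboth : ¬ (a ∈ F₀ ∧ b ∈ F₀) := by
    rintro ⟨haF, hbF⟩
    have := hne (b • ξ₁ + (-a) • ξ₂) (ratc b (-a) hbF (F₀.neg_mem haF)) (nz b (-a) hb0)
    rw [dotc] at this
    apply this
    ring
  exact alg_aux h2 a b ha0 hb0 hab hab' Qa Qb Qab hboth

end Odd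

end Cfsg.Agent.Lib.Helper2.Sfm
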