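import Mathlib
import Cfsg.Agent.Lib.Helper2.SfmC
set_option autoImplicit false
set_option maxHeartbeats 1000000
set_option linter.unusedVariables false
set_option linter.unusedSectionVars false
set_option linter.style.longLine false
set_option linter.unusedSimpArgs false
set_option linter.deprecated false
set_option linter.style.haveILetI false

/-! Subfield subgroups of `SL_n` are maximal (part E): characteristic two.  If every element of
an overgroup outside the subfield group were generic, the subfield group would contain the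
centralizer of each of its involutions, and a rank two rational involution would be fused to a
transvection. -/

namespace Cfsg.Agent.Lib.Helper2.Sfm

open Matrix Cfsg.Agent.Lib.Helper5.TvGL Cfsg.Agent.Lib.Helper5.SLSubspaceMax

universe u

section Dih

variable {G : Type*} [Group G]

/-- two involutions are conjugate by a power of their product, or a power of their product is an
involution commuting with both -/
theorem dihedral_cases (x y : G) (hx : x * x = 1) (hy : y * y = 1) (hfin : 0 < orderOf (x * y)) :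
    (∃ k : ℕ, (x * y) ^ k * x * ((x * y) ^ k)⁻¹ = y) ∨
    (∃ k : ℕ, (x * y) ^ k ≠ 1 ∧ (x * y) ^ k * (x * y) ^ k = 1 ∧
      (x * y) ^ k * x = x * (x * y) ^ k ∧ (x * y) ^ k * y = y * (x * y) ^ k) := by
  set r := x * y with hr
  have hxinv : x⁻¹ = x := inv_eq_of_mul_eq_one_right hx
  have hyinv : y⁻¹ = y := inv_eq_of_mul_eq_one_right hy
  have hconj : x * r * x⁻¹ = r⁻¹ := by
    rw [hr, _root_.mul_inv_rev, hxinv, hyinv, ← mul_assoc, hx, one_mul]
  have hpow : ∀ k : ℕ, x * r ^ k * x⁻¹ = (r ^ k)⁻¹ := by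
    intro k
    rw [← conj_pow, hconj, inv_pow]
  have hxr : ∀ k : ℕ, x * r ^ k = (r ^ k)⁻¹ * x := by
    intro k
    have := hpow k
    rw [hxinv] at this
    calc x * r ^ k = x * r ^ k * (x * x) := by rw [hx, mul_one]
      _ = (x * r ^ k * x) * x := by group
      _ = (r ^ k)⁻¹ * x := by rw [this]
  obtain ⟨k, hk | hk⟩ := Nat.even_or_odd' (orderOf r)
  · right
    have hk0 : k ≠ 0 := by omega
    have hklt : k < orderOf r := by omega
    have hz2 : r ^ k * r ^ k = 1 := by
      rw [← pow_add, ← two_mul, ← hk, pow_orderOf_eq_one]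
    have hzinv : (r ^ k)⁻¹ = r ^ k := inv_eq_of_mul_eq_one_right hz2
    have hzx : r ^ k * x = x * r ^ k := by
      rw [hxr k, hzinv]
    refine ⟨k, pow_ne_one_of_lt_orderOf hk0 hklt, hz2, hzx, ?_⟩
    have hyr : y = x * r := by rw [hr, ← mul_assoc, hx, one_mul]
    rw [hyr, ← mul_assoc, hzx, mul_assoc, mul_assoc, ← pow_succ, ← pow_succ']
  · left
    refine ⟨k, ?_⟩
    have h1 : r ^ k * x * (r ^ k)⁻¹ = r ^ k * r ^ k * x := by
      rw [mul_assoc (r ^ k) x, mul_assoc (r ^ k) (r ^ k)]
      congr 1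
      have := hxr k
      calc x * (r ^ k)⁻¹ = r ^ k * ((r ^ k)⁻¹ * x) * (r ^ k)⁻¹ := by group
        _ = r ^ k * (x * r ^ k) * (r ^ k)⁻¹ := by rw [this]
        _ = r ^ k * x := by group
    have h2 : r ^ k * r ^ k * r = 1 := by
      rw [← pow_add, ← pow_succ, ← two_mul, ← hk, pow_orderOf_eq_one]
    have h3 : r ^ k * r ^ k = r⁻¹ := eq_inv_of_mul_eq_one_left h2
    rw [h1, h3, hr, _root_.mul_inv_rev, hxinv, hyinv, mul_assoc, hx, mul_one]

end Dih

section Even

variable {F : Type u} [Field F] [Fintype F] {n : ℕ} {F₀ : Subfield F}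
  {H : Subgroup (GL (Fin n) F)}

/-- in characteristic two an element whose square is rational is rational -/
theorem mem_of_sq_mem (h2 : (2 : F) = 0) (c : F) (hc : c * c ∈ F₀) : c ∈ F₀ := by
  have hchar : ringChar F₀ = 2 := by
    apply CharP.ringChar_of_prime_eq_zero Nat.prime_two
    apply Subtype.ext
    push_cast
    exact h2
  obtain ⟨b, hb⟩ := FiniteField.isSquare_of_char_two hchar (⟨c * c, hc⟩ : F₀)
  have hb' : c * c = (b : F) * (b : F) := by
    have := congrArg (fun x : F₀ => (x : F)) hb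
    simpa using this
  have h3 : (c - b) * (c - b) = 0 := by
    have : (c - b) * (c - b) = c * c + b * b - 2 * (c * b) := by ring
    rw [this, h2, zero_mul, sub_zero, ← hb']
    have : c * c + c * c = 2 * (c * c) := by ring
    rw [this, h2, zero_mul]
  have h4 : c - b = 0 := by
    rcases mul_eq_zero.1 h3 with h | h <;> exact h
  have : c = b := by linear_combination h4
  rw [this]; exact b.2

/-- an involution of the subfield group has rational entries in characteristic two -/
theorem entries_of_invol (h2 : (2 : F) = 0) (hn : 1 ≤ n) (t : GL (Fin n) F)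
    (ht : t ∈ Cfsg.Geo.subfieldSubgroup F₀ 1) (ht2 : t * t = 1) : ∀ i j, t.1 i j ∈ F₀ := by
  obtain ⟨c, hc0, hc⟩ := (mem_subfield_iff F₀ t).1 ht
  have hsq : c * c ∈ F₀ := by
    have h1 : (c • t.1) * (c • t.1) = (c * c) • (1 : Matrix (Fin n) (Fin n) F) := by
      rw [Matrix.smul_mul, Matrix.mul_smul, smul_smul, ← Units.val_mul, ht2, Units.val_one]
    have h3 := congrFun (congrFun h1 ⟨0, by omega⟩) ⟨0, by omega⟩
    rw [Matrix.smul_apply, Matrix.one_apply_eq, smul_eq_mul, mul_one, Matrix.mul_apply] at h3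
    rw [← h3]
    refine F₀.sum_mem fun l _ => F₀.mul_mem ?_ ?_
    · rw [Matrix.smul_apply, smul_eq_mul]; exact hc _ _
    · rw [Matrix.smul_apply, smul_eq_mul]; exact hc _ _
  have hcm := mem_of_sq_mem h2 c hsq
  intro i j
  have : t.1 i j = c⁻¹ * (c * t.1 i j) := by
    rw [← mul_assoc, inv_mul_cancel₀ hc0, one_mul]
  rw [this]
  exact F₀.mul_mem (F₀.inv_mem hcm) (hc i j)

/-- if the elements outside the subfield group are generic, the subfield group contains the
centralizer of each of its involutions -/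
theorem mem_of_commute (h2 : (2 : F) = 0) (hn : 1 ≤ n)
    (hgen : ∀ d ∈ H, d ∉ Cfsg.Geo.subfieldSubgroup F₀ 1 → Generic F₀ d) (t : GL (Fin n) F)
    (ht : t ∈ Cfsg.Geo.subfieldSubgroup F₀ 1) (ht1 : t ≠ 1) (ht2 : t * t = 1) (d : GL (Fin n) F)
    (hd : d ∈ H) (hdt : d * t = t * d) : d ∈ Cfsg.Geo.subfieldSubgroup F₀ 1 := by
  classical
  by_contra hdM
  have hG := hgen d hd hdM
  have hrat := entries_of_invol h2 hn t ht ht2
  set N : Matrix (Fin n) (Fin n) F := t.1 - 1 with hN
  have hNN : N * N = 0 := by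
    have h1 : t.1 * t.1 = 1 := by rw [← Units.val_mul, ht2, Units.val_one]
    have : N * N = t.1 * t.1 - 2 • t.1 + 1 := by rw [hN]; noncomm_ring
    rw [this, h1]
    have h3 : (2 : ℕ) • t.1 = (2 : F) • t.1 := by
      rw [two_smul, two_smul]
    rw [h3, h2, zero_smul, sub_zero]
    have : (1 : Matrix (Fin n) (Fin n) F) + 1 = (2 : F) • 1 := by rw [two_smul]
    rw [this, h2, zero_smul]
  have hNd : N * d.1 = d.1 * N := by
    have h1 : t.1 * d.1 = d.1 * t.1 := by rw [← Units.val_mul, ← Units.val_mul, hdt]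
    rw [hN, sub_mul, mul_sub, h1, one_mul, mul_one]
  obtain ⟨i, j, hij⟩ : ∃ i j, N i j ≠ 0 := by
    by_contra hcon
    push Not at hcon
    apply ht1
    apply Units.ext
    have : N = 0 := by ext i j; exact hcon i j
    rw [hN, sub_eq_zero] at this
    rw [this, Units.val_one]
  have hNr : ∀ a b, N a b ∈ F₀ := by
    intro a b
    rw [hN, Matrix.sub_apply, Matrix.one_apply]
    refine F₀.sub_mem (hrat a b) ?_
    split_ifs
    · exact F₀.one_mem
    · exact F₀.zero_mem
  set v' : Fin n → F := N *ᵥ Pi.single j 1 with hv'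
  set ξ : Fin n → F := Pi.single i 1 ᵥ* N with hξ
  have hv'r : IsRat F₀ v' := by
    intro a
    rw [hv', mulVec_single_one]; exact hNr a j
  have hξr : IsRat F₀ ξ := by
    intro b
    rw [hξ, single_one_vecMul]; exact hNr i b
  have hv'0 : v' ≠ 0 := by
    intro h
    have := congrFun h i
    rw [hv', mulVec_single_one, Pi.zero_apply] at this
    exact hij this
  have hξ0 : ξ ≠ 0 := by
    intro h
    have := congrFun h j
    rw [hξ, single_one_vecMul, Pi.zero_apply] at this
    exact hij this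
  apply hG ξ v' hξr hv'r hξ0 hv'0
  rw [hξ, hv', ← dotProduct_mulVec, mulVec_mulVec, mulVec_mulVec, hNd,
    Matrix.mul_assoc, hNN, Matrix.mul_zero, zero_mulVec, dotProduct_zero]

/-- a conjugate of a rational transvection by a generic element is not in the subfield group -/
theorem conj_not_mem (hn : 3 ≤ n) (c₀ : GL (Fin n) F) (hc₀ : Generic F₀ c₀) (y : GL (Fin n) F)
    (u ψ : Fin n → F) (hy : y.1 = tvMat ψ u) (hψ0 : ψ ≠ 0) (v₁ : Fin n → F) (hv₁ : IsRat F₀ v₁)
    (hv₁0 : v₁ ≠ 0) (hu : u = c₀.1 *ᵥ v₁) : y ∉ Cfsg.Geo.subfieldSubgroup F₀ 1 := by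
  classical
  intro hyM
  obtain ⟨c, hc0, hc⟩ := (mem_subfield_iff F₀ y).1 hyM
  obtain ⟨j, hj⟩ : ∃ j, ψ j ≠ 0 := by
    by_contra h; push Not at h; exact hψ0 (funext h)
  set v : Fin n → F := Pi.single j 1 with hv
  have hvr : IsRat F₀ v := isRat_single j F₀.one_mem
  have hRv : IsRat F₀ ((c • y.1) *ᵥ v) := by
    intro a
    rw [hv, mulVec_single_one]
    show (c • y.1) a j ∈ F₀
    rw [Matrix.smul_apply, smul_eq_mul]
    exact hc a j
  obtain ⟨ξ, hξr, hξ0, h1, h2⟩ := exists_rat_ker_two hn hvr hRv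
  rw [dotProduct_comm] at h1 h2
  have h3 : (c • y.1) *ᵥ v = c • (v + (ψ ⬝ᵥ v) • u) := by
    rw [smul_mulVec, hy, tvMat_mulVec]
  rw [h3, dotProduct_smul, dotProduct_add, h1, zero_add, dotProduct_smul, smul_eq_mul, smul_eq_mul,
    hv, dotProduct_single_one] at h2
  have h4 : ξ ⬝ᵥ u = 0 := by
    rcases mul_eq_zero.1 h2 with h | h
    · exact absurd h hc0
    · rcases mul_eq_zero.1 h with h | h
      · exact absurd h hj
      · exact h
  rw [hu] at h4
  exact hc₀ ξ v₁ hξr hv₁ hξ0 hv₁0 h4

theorem tvMat_sq (h2 : (2 : F) = 0) (u ψ : Fin n → F) (h : ψ ⬝ᵥ u = 0) :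
    tvMat ψ u * tvMat ψ u = 1 := by
  rw [tvMat_mul_same u ψ ψ h, ← two_smul F ψ, h2, zero_smul, tvMat_eq, vecMulVec_zero, add_zero]

end Even

end Cfsg.Agent.Lib.Helper2.Sfm
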