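import Mathlib
import Cfsg.Agent.Lib.Helper2.SfmD
import Cfsg.Agent.Lib.Helper2.SfmE
set_option autoImplicit false
set_option maxHeartbeats 1000000
set_option linter.unusedVariables false
set_option linter.unusedSectionVars false
set_option linter.style.longLine false
set_option linter.unusedSimpArgs false
set_option linter.deprecated false
set_option linter.style.haveILetI false

/-! Subfield subgroups of `SL_n` are maximal (part F): assembly. -/

namespace Cfsg.Agent.Lib.Helper2.Sfm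

open Matrix Cfsg.Agent.Lib.Helper5.TvGL Cfsg.Agent.Lib.Helper5.SLSubspaceMax

universe u

section NotConj

variable {F : Type u} [Field F] {n : ℕ}

theorem single_dot_single {i j : Fin n} (hij : i ≠ j) :
    (Pi.single i (1 : F) : Fin n → F) ⬝ᵥ (Pi.single j (1 : F) : Fin n → F) = 0 := by
  rw [single_one_dotProduct, Pi.single_eq_of_ne hij]

/-- the product of two disjoint elementary transvections -/
theorem two_tv_val (i₀ i₁ i₂ i₃ : Fin n) (h12 : i₁ ≠ i₂) :
    tvMat (Pi.single i₁ (1 : F)) (Pi.single i₀ (1 : F)) *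
      tvMat (Pi.single i₃ (1 : F)) (Pi.single i₂ (1 : F)) =
    1 + vecMulVec (Pi.single i₀ (1 : F)) (Pi.single i₁ (1 : F)) +
      vecMulVec (Pi.single i₂ (1 : F)) (Pi.single i₃ (1 : F)) := by
  have hab : vecMulVec (Pi.single i₀ (1 : F)) (Pi.single i₁ (1 : F)) *
      vecMulVec (Pi.single i₂ (1 : F)) (Pi.single i₃ (1 : F)) = (0 : Matrix (Fin n) (Fin n) F) := by
    rw [vecMulVec_mul_vecMulVec, single_dot_single h12, zero_smul, vecMulVec_zero]
  rw [tvMat_eq, tvMat_eq]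
  have h1 : ∀ a b : Matrix (Fin n) (Fin n) F, (1 + a) * (1 + b) = 1 + a + b + a * b := by
    intro a b; noncomm_ring
  rw [h1, hab, add_zero]

/-- a product of two disjoint elementary transvections is not conjugate to a transvection -/
theorem not_conj (i₀ i₁ i₂ i₃ : Fin n) (h01 : i₀ ≠ i₁) (h02 : i₀ ≠ i₂) (h03 : i₀ ≠ i₃)
    (h12 : i₁ ≠ i₂) (h13 : i₁ ≠ i₃) (h23 : i₂ ≠ i₃) (x y d : GL (Fin n) F)
    (hx : x.1 = tvMat (Pi.single i₁ (1 : F)) (Pi.single i₀ (1 : F)) *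
      tvMat (Pi.single i₃ (1 : F)) (Pi.single i₂ (1 : F)))
    (u ψ : Fin n → F) (hy : y.1 = tvMat ψ u) (hd : d * x * d⁻¹ = y) : False := by
  have h1 : x = d⁻¹ * y * (d⁻¹)⁻¹ := by rw [← hd]; group
  have h2 : x.1 = tvMat (ψ ᵥ* ((d⁻¹)⁻¹ : GL (Fin n) F).1) ((d⁻¹ : GL (Fin n) F).1 *ᵥ u) := by
    rw [h1, Units.val_mul, Units.val_mul, hy, conj_tvMat]
  rw [hx, two_tv_val i₀ i₁ i₂ i₃ h12, tvMat_eq] at h2
  set u' := (d⁻¹ : GL (Fin n) F).1 *ᵥ u
  set ψ' := ψ ᵥ* ((d⁻¹)⁻¹ : GL (Fin n) F).1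
  have e01 := congrFun (congrFun h2 i₀) i₁
  have e23 := congrFun (congrFun h2 i₂) i₃
  have e03 := congrFun (congrFun h2 i₀) i₃
  simp only [Matrix.add_apply, vecMulVec_apply, Matrix.one_apply_ne h01, Matrix.one_apply_ne h23,
    Matrix.one_apply_ne h03, Pi.single_eq_same, Pi.single_eq_of_ne h02, Pi.single_eq_of_ne h02.symm,
    Pi.single_eq_of_ne h13, Pi.single_eq_of_ne h13.symm, Pi.single_eq_of_ne h03,
    Pi.single_eq_of_ne h03.symm, Pi.single_eq_of_ne h12, Pi.single_eq_of_ne h12.symm,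
    mul_one, mul_zero, zero_mul, zero_add, add_zero] at e01 e23 e03
  have hu0 : u' i₀ ≠ 0 := by
    intro h; rw [h, zero_mul] at e01; exact one_ne_zero e01
  have hψ3 : ψ' i₃ ≠ 0 := by
    intro h; rw [h, mul_zero] at e23; exact one_ne_zero e23
  exact mul_ne_zero hu0 hψ3 e03.symm

end NotConj

section Main

variable {F : Type u} [Field F] [Fintype F] {n : ℕ} (F₀ : Subfield F)

/-- characteristic two: no element of the overgroup lies outside the subfield group -/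
theorem le_of_noBad_even (h2 : (2 : F) = 0) (hn : 4 ≤ n) (H : Subgroup (GL (Fin n) F))
    (hS : HasRat F₀ H) (hN : NoBad F₀ H) : H ≤ Cfsg.Geo.subfieldSubgroup F₀ 1 := by
  classical
  intro c₀ hc₀
  by_contra hc₀M
  have hn3 : 3 ≤ n := by omega
  have hgen : ∀ d ∈ H, d ∉ Cfsg.Geo.subfieldSubgroup F₀ 1 → Generic F₀ d :=
    fun d hd hdM => generic_of_not_mem hn3 hS hN d hd hdM
  have one := F₀.one_mem
  set i₀ : Fin n := ⟨0, by omega⟩ with hi₀
  set i₁ : Fin n := ⟨1, by omega⟩ with hi₁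
  set i₂ : Fin n := ⟨2, by omega⟩ with hi₂
  set i₃ : Fin n := ⟨3, by omega⟩ with hi₃
  have h01 : i₀ ≠ i₁ := by rw [hi₀, hi₁]; intro h; simp [Fin.ext_iff] at h
  have h02 : i₀ ≠ i₂ := by rw [hi₀, hi₂]; intro h; simp [Fin.ext_iff] at h
  have h03 : i₀ ≠ i₃ := by rw [hi₀, hi₃]; intro h; simp [Fin.ext_iff] at h
  have h12 : i₁ ≠ i₂ := by rw [hi₁, hi₂]; intro h; simp [Fin.ext_iff] at h
  have h13 : i₁ ≠ i₃ := by rw [hi₁, hi₃]; intro h; simp [Fin.ext_iff] at h
  have h23 : i₂ ≠ i₃ := by rw [hi₂, hi₃]; intro h; simp [Fin.ext_iff] at h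
  have d10 : (Pi.single i₁ (1 : F) : Fin n → F) ⬝ᵥ Pi.single i₀ 1 = 0 := single_dot_single h01.symm
  have d32 : (Pi.single i₃ (1 : F) : Fin n → F) ⬝ᵥ Pi.single i₂ 1 = 0 := single_dot_single h23.symm
  set t₁ := tvG (Pi.single i₀ (1 : F)) (Pi.single i₁ (1 : F)) d10 with ht₁
  set t₂ := tvG (Pi.single i₂ (1 : F)) (Pi.single i₃ (1 : F)) d32 with ht₂
  have r0 : IsRat F₀ (Pi.single i₀ (1 : F) : Fin n → F) := isRat_single i₀ one
  have r1 : IsRat F₀ (Pi.single i₁ (1 : F) : Fin n → F) := isRat_single i₁ one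
  have r2 : IsRat F₀ (Pi.single i₂ (1 : F) : Fin n → F) := isRat_single i₂ one
  have r3 : IsRat F₀ (Pi.single i₃ (1 : F) : Fin n → F) := isRat_single i₃ one
  have t₁H : t₁ ∈ H := tvG_mem_of_tvIn H _ _ d10 (hS _ _ r0 r1 d10)
  have t₂H : t₂ ∈ H := tvG_mem_of_tvIn H _ _ d32 (hS _ _ r2 r3 d32)
  have t₁M : t₁ ∈ Cfsg.Geo.subfieldSubgroup F₀ 1 :=
    (Subgroup.mem_inf.1 (tvG_mem_of_tvIn _ _ _ d10 (rat_tvIn F₀ r0 r1 d10))).1
  have t₂M : t₂ ∈ Cfsg.Geo.subfieldSubgroup F₀ 1 :=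
    (Subgroup.mem_inf.1 (tvG_mem_of_tvIn _ _ _ d32 (rat_tvIn F₀ r2 r3 d32))).1
  have t₁sq : t₁ * t₁ = 1 := by
    apply Units.ext
    rw [Units.val_mul, ht₁, tvG_val, Units.val_one]
    exact tvMat_sq h2 _ _ d10
  have t₂sq : t₂ * t₂ = 1 := by
    apply Units.ext
    rw [Units.val_mul, ht₂, tvG_val, Units.val_one]
    exact tvMat_sq h2 _ _ d32
  have hcomm : t₁ * t₂ = t₂ * t₁ := by
    have h1 : t₁ * t₂ * t₁⁻¹ * t₂⁻¹ = 1 := by
      apply Units.ext
      rw [Units.val_mul, Units.val_mul, Units.val_mul, ht₁, ht₂, tvG_inv_val, tvG_inv_val, tvG_val,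
        tvG_val, comm_tvMat _ _ _ _ d10 d32 (single_dot_single h03.symm), single_dot_single h12,
        zero_smul, tvMat_eq, zero_vecMulVec, add_zero, Units.val_one]
    calc t₁ * t₂ = (t₁ * t₂ * t₁⁻¹ * t₂⁻¹) * (t₂ * t₁) := by group
      _ = t₂ * t₁ := by rw [h1, one_mul]
  set x := t₁ * t₂ with hx
  have xH : x ∈ H := H.mul_mem t₁H t₂H
  have xM : x ∈ Cfsg.Geo.subfieldSubgroup F₀ 1 := Subgroup.mul_mem _ t₁M t₂M
  have xsq : x * x = 1 := by
    calc x * x = t₁ * (t₂ * t₁) * t₂ := by rw [hx]; group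
      _ = t₁ * (t₁ * t₂) * t₂ := by rw [← hcomm]
      _ = (t₁ * t₁) * (t₂ * t₂) := by group
      _ = 1 := by rw [t₁sq, t₂sq, one_mul]
  have xval : x.1 = tvMat (Pi.single i₁ (1 : F)) (Pi.single i₀ (1 : F)) *
      tvMat (Pi.single i₃ (1 : F)) (Pi.single i₂ (1 : F)) := by
    rw [hx, Units.val_mul, ht₁, ht₂, tvG_val, tvG_val]
  have x1 : x ≠ 1 := by
    intro h
    have h3 := congrArg (fun g : GL (Fin n) F => g.1 i₀ i₁) h
    simp only [xval, two_tv_val i₀ i₁ i₂ i₃ h12, Matrix.add_apply, vecMulVec_apply,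
      Matrix.one_apply_ne h01, Pi.single_eq_same, Pi.single_eq_of_ne h02, Units.val_one, mul_one,
      zero_mul, zero_add, add_zero] at h3
    exact one_ne_zero h3
  -- the conjugate transvection
  set y := c₀ * t₁ * c₀⁻¹ with hy
  have yH : y ∈ H := H.mul_mem (H.mul_mem hc₀ t₁H) (H.inv_mem hc₀)
  have ysq : y * y = 1 := by
    calc y * y = c₀ * (t₁ * t₁) * c₀⁻¹ := by rw [hy]; group
      _ = 1 := by rw [t₁sq]; group
  set u := c₀.1 *ᵥ (Pi.single i₀ (1 : F) : Fin n → F) with hu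
  set ψ := (Pi.single i₁ (1 : F) : Fin n → F) ᵥ* (c₀⁻¹ : GL (Fin n) F).1 with hψ
  have yval : y.1 = tvMat ψ u := by
    rw [hy, Units.val_mul, Units.val_mul, ht₁, tvG_val, conj_tvMat]
  have hψ0 : ψ ≠ 0 := by
    intro h
    rw [hψ, vecMul_eq_zero_iff] at h
    have := congrFun h i₁
    rw [Pi.single_eq_same, Pi.zero_apply] at this
    exact one_ne_zero this
  have e0 : (Pi.single i₀ (1 : F) : Fin n → F) ≠ 0 := by
    intro h
    have := congrFun h i₀
    rw [Pi.single_eq_same, Pi.zero_apply] at this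
    exact one_ne_zero this
  have yM : y ∉ Cfsg.Geo.subfieldSubgroup F₀ 1 :=
    conj_not_mem hn3 c₀ (hgen c₀ hc₀ hc₀M) y u ψ yval hψ0 _ r0 e0 hu
  rcases dihedral_cases x y xsq ysq (orderOf_pos _) with ⟨k, hk⟩ | ⟨k, hz1, hz2, hzx, hzy⟩
  · exact not_conj i₀ i₁ i₂ i₃ h01 h02 h03 h12 h13 h23 x y ((x * y) ^ k) xval u ψ yval hk
  · have zH : (x * y) ^ k ∈ H := H.pow_mem (H.mul_mem xH yH) k
    have zM := mem_of_commute h2 (by omega) hgen x xM x1 xsq _ zH hzx
    exact yM (mem_of_commute h2 (by omega) hgen _ zM hz1 hz2 y yH hzy.symm)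

/-- odd characteristic: the overgroup is contained in the subfield group -/
theorem le_of_noBad_odd (h2 : (2 : F) ≠ 0) (hn : 3 ≤ n) (H : Subgroup (GL (Fin n) F))
    (hS : HasRat F₀ H) (hN : NoBad F₀ H) : H ≤ Cfsg.Geo.subfieldSubgroup F₀ 1 := by
  intro c hc
  have h := not_generic_odd h2 hn hS hN c hc
  unfold Generic at h
  push Not at h
  obtain ⟨ξ, v, hξ, hv, hξ0, hv0, h0⟩ := h
  exact mem_of_not_generic hn hS hN c hc hξ hv hξ0 hv0 h0

/-- the subfield group with trivial base change is maximal -/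
theorem isMaximalIn_one (hn : 4 ≤ n) (r : ℕ) (hr : r.Prime)
    (hcard : Fintype.card F = Nat.card F₀ ^ r) :
    Cfsg.Geo.IsMaximalIn (Cfsg.Geo.specialLinear (Fin n) F)
      (Cfsg.Geo.subfieldSubgroup F₀ 1 ⊓ Cfsg.Geo.specialLinear (Fin n) F) := by
  classical
  have hn3 : 3 ≤ n := by omega
  refine ⟨lt_of_le_of_ne inf_le_right ?_, ?_⟩
  · intro heq
    -- an element of `F` outside `F₀`
    obtain ⟨c, hc⟩ : ∃ c : F, c ∉ F₀ := by
      by_contra hcon
      push Not at hcon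
      have h1 : Nat.card F₀ = Fintype.card F := by
        rw [← Nat.card_eq_fintype_card]
        exact Nat.card_congr ⟨fun x => x.1, fun x => ⟨x, hcon x⟩, fun x => rfl, fun x => rfl⟩
      have hq : 2 ≤ Nat.card F₀ := by
        have : 1 < Nat.card F₀ := Finite.one_lt_card
        omega
      rw [← h1] at hcard
      have h3 : Nat.card F₀ ^ 1 = Nat.card F₀ ^ r := by rw [pow_one]; exact hcard
      have := Nat.pow_right_injective hq h3
      exact hr.one_lt.ne this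
    set i₀ : Fin n := ⟨0, by omega⟩ with hi₀
    set i₁ : Fin n := ⟨1, by omega⟩ with hi₁
    have h01 : i₀ ≠ i₁ := by rw [hi₀, hi₁]; intro h; simp [Fin.ext_iff] at h
    have hd : (Pi.single i₁ (1 : F) : Fin n → F) ⬝ᵥ (c • (Pi.single i₀ (1 : F) : Fin n → F)) = 0 :=
      single_dot_smul_single h01 c
    have hg : tvG (c • (Pi.single i₀ (1 : F) : Fin n → F)) (Pi.single i₁ 1) hd ∈
        Cfsg.Geo.specialLinear (Fin n) F := by
      rw [mem_specialLinear_iff, tvG_val]; exact det_tvMat _ _ hd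
    rw [← heq] at hg
    obtain ⟨c', hc'0, hc'⟩ := (mem_subfield_iff F₀ _).1 (Subgroup.mem_inf.1 hg).1
    have e00 := hc' i₀ i₀
    have e01 := hc' i₀ i₁
    rw [tvG_val, tvMat_eq, Matrix.add_apply, vecMulVec_apply, Pi.smul_apply, Pi.single_eq_same,
      Pi.single_eq_of_ne h01, mul_zero, add_zero, Matrix.one_apply_eq, mul_one] at e00
    rw [tvG_val, tvMat_eq, Matrix.add_apply, vecMulVec_apply, Pi.smul_apply, Pi.single_eq_same,
      Pi.single_eq_same, Matrix.one_apply_ne h01, zero_add, smul_eq_mul, mul_one, mul_one] at e01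
    apply hc
    have : c = c'⁻¹ * (c' * c) := by rw [← mul_assoc, inv_mul_cancel₀ hc'0, one_mul]
    rw [this]
    exact F₀.mul_mem (F₀.inv_mem e00) e01
  · intro H hMH hHS
    have hS : HasRat F₀ H := by
      intro u ψ hu hψ h
      obtain ⟨g, hg, hgv⟩ := rat_tvIn F₀ hu hψ h
      exact ⟨g, hMH hg, hgv⟩
    rcases noBad_or_le F₀ H hn3 hS r hr hcard with hN | hle
    · left
      apply le_antisymm _ hMH
      intro c hc
      refine Subgroup.mem_inf.2 ⟨?_, hHS hc⟩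
      by_cases h2 : (2 : F) = 0
      · exact le_of_noBad_even F₀ h2 hn H hS hN hc
      · exact le_of_noBad_odd F₀ h2 hn3 H hS hN hc
    · right
      exact le_antisymm hHS hle

end Main

section Conj

theorem isMaximalIn_map {G : Type*} [Group G] (e : G ≃* G) {K H : Subgroup G}
    (h : Cfsg.Geo.IsMaximalIn K H) :
    Cfsg.Geo.IsMaximalIn (K.map e.toMonoidHom) (H.map e.toMonoidHom) := by
  have hinj : Function.Injective e.toMonoidHom := e.injective
  have hsurj : Function.Surjective e.toMonoidHom := e.surjective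
  refine ⟨(Subgroup.map_lt_map_iff_of_injective hinj).2 h.1, ?_⟩
  intro M' h1 h2
  have h3 : H ≤ M'.comap e.toMonoidHom := Subgroup.map_le_iff_le_comap.1 h1
  have h4 : M'.comap e.toMonoidHom ≤ K := by
    have := Subgroup.comap_mono (f := e.toMonoidHom) h2
    rwa [Subgroup.comap_map_eq_self_of_injective hinj] at this
  rcases h.2 _ h3 h4 with h5 | h5
  · left
    rw [← h5, Subgroup.map_comap_eq_self_of_surjective hsurj]
  · right
    rw [← h5, Subgroup.map_comap_eq_self_of_surjective hsurj]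

variable {F : Type u} [Field F] [Fintype F] {n : ℕ} (F₀ : Subfield F)

theorem subfieldSubgroup_eq_map (P : GL (Fin n) F) :
    Cfsg.Geo.subfieldSubgroup F₀ P =
      (Cfsg.Geo.subfieldSubgroup F₀ 1).map (MulAut.conj P).toMonoidHom := by
  unfold Cfsg.Geo.subfieldSubgroup
  congr 1
  ext x
  rw [Subgroup.mem_map]
  constructor
  · intro hx
    refine ⟨x, hx, ?_⟩
    show (MulAut.conj (1 : GL (Fin n) F)) x = x
    rw [MulAut.conj_apply, one_mul, inv_one, mul_one]
  · rintro ⟨y, hy, hyx⟩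
    have : (MulAut.conj (1 : GL (Fin n) F)) y = y := by
      rw [MulAut.conj_apply, one_mul, inv_one, mul_one]
    rw [← hyx]
    show (MulAut.conj (1 : GL (Fin n) F)) y ∈ _
    rw [this]; exact hy

theorem specialLinear_map_conj (P : GL (Fin n) F) :
    (Cfsg.Geo.specialLinear (Fin n) F).map (MulAut.conj P).toMonoidHom =
      Cfsg.Geo.specialLinear (Fin n) F := by
  have hN : (Cfsg.Geo.specialLinear (Fin n) F).Normal := by
    unfold Cfsg.Geo.specialLinear
    exact MonoidHom.normal_ker _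
  ext x
  rw [Subgroup.mem_map]
  constructor
  · rintro ⟨y, hy, hyx⟩
    rw [← hyx]
    show (MulAut.conj P) y ∈ _
    rw [MulAut.conj_apply]
    exact hN.conj_mem y hy P
  · intro hx
    refine ⟨P⁻¹ * x * (P⁻¹)⁻¹, hN.conj_mem x hx P⁻¹, ?_⟩
    show (MulAut.conj P) (P⁻¹ * x * (P⁻¹)⁻¹) = x
    rw [MulAut.conj_apply]
    group

/-- the subfield group of `SL_n` is maximal -/
theorem isMaximalIn_subfield (hn : 4 ≤ n) (r : ℕ) (hr : r.Prime)
    (hcard : Fintype.card F = Nat.card F₀ ^ r) (P : GL (Fin n) F) :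
    Cfsg.Geo.IsMaximalIn (Cfsg.Geo.specialLinear (Fin n) F)
      (Cfsg.Geo.subfieldSubgroup F₀ P ⊓ Cfsg.Geo.specialLinear (Fin n) F) := by
  have h := isMaximalIn_map (MulAut.conj P) (isMaximalIn_one F₀ hn r hr hcard)
  rw [Subgroup.map_inf _ _ _ (MulAut.conj P).injective, specialLinear_map_conj,
    ← subfieldSubgroup_eq_map] at h
  exact h

end Conj

end Cfsg.Agent.Lib.Helper2.Sfm
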