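import Mathlib
import Cfsg.Agent.Lib.Helper2.SfrA
set_option autoImplicit false
set_option maxHeartbeats 1000000
set_option linter.unusedVariables false
set_option linter.unusedSectionVars false
set_option linter.style.longLine false
set_option linter.unusedSimpArgs false
set_option linter.deprecated false
set_option linter.style.haveILetI false

/-! Elements of odd prime order `r ≠ p` of `PSL_n(q)` and subfield subgroups (part B):
the index of the subfield subgroup is prime to `r` when the `r`-parts of the orders agree. -/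

namespace Cfsg.Agent.Lib.Helper2.Sfr

open Module Polynomial Cfsg.Agent.Lib.Helper2 Cfsg.Agent.Lib.Helper2.Subf

universe u v

theorem geom_fac (a k : ℕ) (ha : 1 ≤ a) :
    a ^ k - 1 = (a - 1) * ∑ i ∈ Finset.range k, a ^ i := by
  have hak : 1 ≤ a ^ k := Nat.one_le_pow _ _ ha
  zify [ha, hak]
  rw [mul_comm]
  exact (geom_sum_mul (a : ℤ) k).symm

theorem factor_geom (q₀ k N i : ℕ) (hq₀ : 1 ≤ q₀) (hi : i < N) :
    ((q₀ ^ k) ^ N - (q₀ ^ k) ^ i) * q₀ ^ i =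
      (q₀ ^ N - q₀ ^ i) * ((q₀ ^ k) ^ i * ∑ l ∈ Finset.range k, (q₀ ^ (N - i)) ^ l) := by
  obtain ⟨j, rfl⟩ : ∃ j, N = i + j := ⟨N - i, by omega⟩
  have h1 : (q₀ ^ k) ^ (i + j) - (q₀ ^ k) ^ i = (q₀ ^ k) ^ i * ((q₀ ^ j) ^ k - 1) := by
    rw [pow_add, Nat.mul_sub_one, pow_right_comm q₀ j k]
  have h2 : q₀ ^ (i + j) - q₀ ^ i = q₀ ^ i * (q₀ ^ j - 1) := by
    rw [pow_add, Nat.mul_sub_one]
  have h3 : i + j - i = j := by omega
  rw [h1, h2, h3, geom_fac (q₀ ^ j) k (Nat.one_le_pow _ _ hq₀)]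
  ring

theorem index_not_dvd {F : Type u} [Field F] [Fintype F] (F₀ : Subfield F) (n : ℕ) (hn : 1 ≤ n)
    (q₀ k r : ℕ) [hr : Fact r.Prime] (hF₀ : Nat.card F₀ = q₀) (hq : Fintype.card F = q₀ ^ k)
    (hrq₀ : ¬ r ∣ q₀)
    (hα : ∀ j, 2 ≤ j → j ≤ n → ¬ r ∣ ∑ l ∈ Finset.range k, (q₀ ^ j) ^ l) :
    ¬ r ∣ ((Cfsg.Geo.subfieldSubgroup F₀ 1).comap
      (Matrix.SpecialLinearGroup.toGL :
        Matrix.SpecialLinearGroup (Fin n) F →* GL (Fin n) F)).index := by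
  classical
  obtain ⟨m', rfl⟩ : ∃ m', n = m' + 1 := ⟨n - 1, by omega⟩
  haveI : Fintype F₀ := Fintype.ofFinite _
  have hcard : Fintype.card F₀ = q₀ := by rw [Fintype.card_eq_nat_card, hF₀]
  have hq₀1 : 1 ≤ q₀ := by
    rw [← hcard]
    exact Fintype.card_pos
  obtain ⟨φ, hφ⟩ : ∃ φ : Matrix.SpecialLinearGroup (Fin (m' + 1)) F₀ →*
      Matrix.SpecialLinearGroup (Fin (m' + 1)) F,
      φ = Matrix.SpecialLinearGroup.map (F₀.subtype : F₀ →+* F) := ⟨_, rfl⟩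
  have hinj : Function.Injective φ := by
    intro A B hAB
    apply Subtype.ext
    apply Matrix.ext
    intro i j
    have h1 := congrArg (fun M : Matrix.SpecialLinearGroup (Fin (m' + 1)) F =>
      (M : Matrix (Fin (m' + 1)) (Fin (m' + 1)) F) i j) hAB
    simp only [hφ, Matrix.SpecialLinearGroup.map_apply_coe, RingHom.mapMatrix_apply,
      Matrix.map_apply] at h1
    exact Subtype.ext h1
  have hle : φ.range ≤ (Cfsg.Geo.subfieldSubgroup F₀ 1).comap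
      (Matrix.SpecialLinearGroup.toGL :
        Matrix.SpecialLinearGroup (Fin (m' + 1)) F →* GL (Fin (m' + 1)) F) := by
    rintro _ ⟨A, rfl⟩
    apply mem_of_entries F₀ _ 1 one_ne_zero
    intro i j
    rw [inv_one, one_mul, hφ, Matrix.SpecialLinearGroup.map_apply_coe, RingHom.mapMatrix_apply,
      Matrix.map_apply]
    exact ((A : Matrix (Fin (m' + 1)) (Fin (m' + 1)) F₀) i j).2
  have hcardK : Nat.card φ.range = Nat.card (Matrix.SpecialLinearGroup (Fin (m' + 1)) F₀) :=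
    Nat.card_congr (MonoidHom.ofInjective hinj).symm.toEquiv
  have hN := Cfsg.Agent.Lib.Helper4.PSLCent.card_SL_succ (F := F) m'
  have hN₀ := Cfsg.Agent.Lib.Helper4.PSLCent.card_SL_succ (F := F₀) m'
  rw [hq] at hN
  rw [hcard] at hN₀
  obtain ⟨t, ht⟩ : ∃ t : Fin m' → ℕ, t = fun i : Fin m' =>
      (q₀ ^ k) ^ (i : ℕ) * ∑ l ∈ Finset.range k, (q₀ ^ (m' + 1 - (i : ℕ))) ^ l := ⟨_, rfl⟩
  obtain ⟨u, hu⟩ : ∃ u : Fin m' → ℕ, u = fun i : Fin m' => q₀ ^ (i : ℕ) := ⟨_, rfl⟩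
  have htu : ∀ i : Fin m', ((q₀ ^ k) ^ (m' + 1) - (q₀ ^ k) ^ (i : ℕ)) * u i =
      (q₀ ^ (m' + 1) - q₀ ^ (i : ℕ)) * t i := by
    intro i
    rw [ht, hu]
    exact factor_geom q₀ k (m' + 1) i hq₀1 (by omega)
  have hrpow : ∀ e : ℕ, ¬ r ∣ q₀ ^ e := fun e h => hrq₀ (hr.out.dvd_of_dvd_pow h)
  have htr : ∀ i : Fin m', ¬ r ∣ t i := by
    intro i h
    rw [ht] at h
    rcases (Nat.Prime.dvd_mul hr.out).mp h with h1 | h1
    · exact hrpow k (hr.out.dvd_of_dvd_pow h1)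
    · exact hα (m' + 1 - (i : ℕ)) (by omega) (by omega) h1
  obtain ⟨A, hA⟩ : ∃ A, A = ∏ i : Fin m', ((q₀ ^ k) ^ (m' + 1) - (q₀ ^ k) ^ (i : ℕ)) :=
    ⟨_, rfl⟩
  obtain ⟨B, hB⟩ : ∃ B, B = ∏ i : Fin m', (q₀ ^ (m' + 1) - q₀ ^ (i : ℕ)) := ⟨_, rfl⟩
  obtain ⟨U, hU⟩ : ∃ U, U = ∏ i : Fin m', u i := ⟨_, rfl⟩
  obtain ⟨T, hT⟩ : ∃ T, T = ∏ i : Fin m', t i := ⟨_, rfl⟩
  have hprod : A * U = B * T := by
    rw [hA, hB, hU, hT, ← Finset.prod_mul_distrib, ← Finset.prod_mul_distrib]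
    exact Finset.prod_congr rfl (fun i _ => htu i)
  have hTr : ¬ r ∣ T := by
    rw [hT]
    exact Finset.prod_induction _ (fun x => ¬ r ∣ x)
      (fun a b ha hb h => (((Nat.Prime.dvd_mul hr.out).mp h).elim ha hb))
      (fun h => hr.out.one_lt.ne' (Nat.dvd_one.mp h)) (fun i _ => htr i)
  rw [← hA] at hN
  rw [← hB] at hN₀
  intro h2
  have h3 : r ∣ φ.range.index := dvd_trans h2 (Subgroup.index_dvd_of_le hle)
  obtain ⟨e, he⟩ := h3
  have h4 := Subgroup.index_mul_card φ.range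
  have hpos : 0 < B * q₀ ^ m' := by
    rw [← hN₀]
    exact Nat.card_pos
  rw [hcardK, he, hN, hN₀] at h4
  have h6 : (B * q₀ ^ m') * (r * e * (U * q₀ ^ m')) = (B * q₀ ^ m') * (T * (q₀ ^ k) ^ m') := by
    calc (B * q₀ ^ m') * (r * e * (U * q₀ ^ m')) = (r * e * (B * q₀ ^ m')) * (U * q₀ ^ m') := by
          ring
      _ = (A * (q₀ ^ k) ^ m') * (U * q₀ ^ m') := by rw [h4]
      _ = (A * U) * ((q₀ ^ k) ^ m' * q₀ ^ m') := by ring
      _ = (B * T) * ((q₀ ^ k) ^ m' * q₀ ^ m') := by rw [hprod]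
      _ = (B * q₀ ^ m') * (T * (q₀ ^ k) ^ m') := by ring
  have h7 := Nat.eq_of_mul_eq_mul_left hpos h6
  have h8 : r ∣ T * (q₀ ^ k) ^ m' := ⟨e * (U * q₀ ^ m'), by rw [← h7]; ring⟩
  rcases (Nat.Prime.dvd_mul hr.out).mp h8 with h9 | h9
  · exact hTr h9
  · exact hrpow k (hr.out.dvd_of_dvd_pow h9)

end Cfsg.Agent.Lib.Helper2.Sfr
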