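import Mathlib
import Cfsg.Agent.Lib.Helper2.SfrA
set_option autoImplicit false
set_option maxHeartbeats 1000000
set_option linter.unusedVariables false
set_option linter.unusedSectionVars false
set_option linter.style.longLine false
set_option linter.unusedSimpArgs false
set_option linter.deprecated false
set_option linter.style.haveILetI false

/-! Elements of odd prime order `r ≠ p` of `PSL_n(q)` and subfield subgroups (part C):
the rank of a rational matrix does not change under extension of the field, and semisimple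
elements of order `r` with a fixed space of the wrong codimension are not conjugate into the
subfield group. -/

namespace Cfsg.Agent.Lib.Helper2.Sfr

open Module Polynomial Cfsg.Agent.Lib.Helper2

universe u v

section Transfer

variable {F : Type u} [Field F]

theorem li_transfer (F₀ : Subfield F) {n : ℕ} {ι : Type*} (v : ι → (Fin n → F₀))
    (hv : LinearIndependent F₀ v) :
    LinearIndependent F (fun i => (fun l => ((v i l : F₀) : F))) := by
  classical
  obtain ⟨ρ, hρ⟩ := LinearMap.exists_leftInverse_of_injective (Algebra.linearMap F₀ F)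
    (LinearMap.ker_eq_bot.mpr (FaithfulSMul.algebraMap_injective F₀ F))
  have hρ1 : ρ (1 : F) = 1 := by
    have h1 := LinearMap.congr_fun hρ (1 : F₀)
    rw [LinearMap.comp_apply, Algebra.linearMap_apply, map_one, LinearMap.id_apply] at h1
    exact h1
  rw [linearIndependent_iff']
  intro s c hsum i₀ hi₀
  by_contra hc
  have h1 : ∑ i ∈ s, (ρ ((c i₀)⁻¹ * c i)) • v i = 0 := by
    funext l
    rw [Finset.sum_apply]
    simp only [Pi.smul_apply, smul_eq_mul, Pi.zero_apply]
    have h2 := congrFun hsum l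
    rw [Finset.sum_apply] at h2
    simp only [Pi.smul_apply, smul_eq_mul, Pi.zero_apply] at h2
    have h3 : ρ ((c i₀)⁻¹ * ∑ i ∈ s, c i * ((v i l : F₀) : F)) = 0 := by
      rw [h2, mul_zero, map_zero]
    rw [Finset.mul_sum, map_sum] at h3
    rw [← h3]
    apply Finset.sum_congr rfl
    intro i _
    have h4 : (c i₀)⁻¹ * (c i * ((v i l : F₀) : F)) = (v i l : F₀) • ((c i₀)⁻¹ * c i) := by
      rw [Subfield.smul_def]
      ring
    rw [h4, map_smul, smul_eq_mul, mul_comm]
  have h5 := (linearIndependent_iff'.mp hv) s _ h1 i₀ hi₀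
  rw [inv_mul_cancel₀ hc, hρ1] at h5
  exact one_ne_zero h5

theorem card_le_finrank_of_li_mem {K : Type*} [Field K] {M : Type*} [AddCommGroup M] [Module K M]
    [FiniteDimensional K M] {ι : Type*} [Fintype ι] {v : ι → M} (hv : LinearIndependent K v)
    (S : Submodule K M) (hmem : ∀ i, v i ∈ S) : Fintype.card ι ≤ finrank K S := by
  rw [← finrank_span_eq_card hv]
  exact Submodule.finrank_mono (Submodule.span_le.mpr (by
    rintro _ ⟨i, rfl⟩
    exact hmem i))

/-- the nullity of a rational matrix is the same over the subfield and over the field -/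
theorem finrank_ker_map (F₀ : Subfield F) {n : ℕ} (N₀ : Matrix (Fin n) (Fin n) F₀) :
    finrank F₀ (LinearMap.ker (Matrix.toLin' N₀)) =
      finrank F (LinearMap.ker (Matrix.toLin' (N₀.map F₀.subtype))) := by
  classical
  obtain ⟨N, hN⟩ : ∃ N : Matrix (Fin n) (Fin n) F, N = N₀.map F₀.subtype := ⟨_, rfl⟩
  rw [← hN]
  have hcoe : ∀ u : Fin n → F₀, N.mulVec (fun l => ((u l : F₀) : F)) =
      fun l => (((N₀.mulVec u) l : F₀) : F) := by
    intro u
    funext l
    rw [hN]
    exact (RingHom.map_mulVec F₀.subtype N₀ u l).symm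
  have h1 : finrank F₀ (LinearMap.ker (Matrix.toLin' N₀)) ≤
      finrank F (LinearMap.ker (Matrix.toLin' N)) := by
    obtain ⟨bK, -⟩ : ∃ bK : Basis (Fin (finrank F₀ (LinearMap.ker (Matrix.toLin' N₀)))) F₀
        (LinearMap.ker (Matrix.toLin' N₀)), True := ⟨Module.finBasis _ _, trivial⟩
    have hli : LinearIndependent F₀ (⇑(LinearMap.ker (Matrix.toLin' N₀)).subtype ∘ ⇑bK) :=
      bK.linearIndependent.map' _ (Submodule.ker_subtype _)
    have hli' := li_transfer F₀ _ hli
    have h2 := card_le_finrank_of_li_mem hli' (LinearMap.ker (Matrix.toLin' N)) (fun i => by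
      rw [LinearMap.mem_ker, Matrix.toLin'_apply, hcoe]
      have hb : N₀.mulVec ((⇑(LinearMap.ker (Matrix.toLin' N₀)).subtype ∘ ⇑bK) i) = 0 := by
        have h3 := (bK i).2
        rw [LinearMap.mem_ker, Matrix.toLin'_apply] at h3
        exact h3
      rw [hb]
      funext l
      simp)
    rw [Fintype.card_fin] at h2
    exact h2
  have h2 : finrank F₀ (LinearMap.range (Matrix.toLin' N₀)) ≤
      finrank F (LinearMap.range (Matrix.toLin' N)) := by
    obtain ⟨bR, -⟩ : ∃ bR : Basis (Fin (finrank F₀ (LinearMap.range (Matrix.toLin' N₀)))) F₀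
        (LinearMap.range (Matrix.toLin' N₀)), True := ⟨Module.finBasis _ _, trivial⟩
    have hli : LinearIndependent F₀ (⇑(LinearMap.range (Matrix.toLin' N₀)).subtype ∘ ⇑bR) :=
      bR.linearIndependent.map' _ (Submodule.ker_subtype _)
    have hli' := li_transfer F₀ _ hli
    have h3 := card_le_finrank_of_li_mem hli' (LinearMap.range (Matrix.toLin' N)) (fun i => by
      obtain ⟨t, ht⟩ := (bR i).2
      refine ⟨fun l => ((t l : F₀) : F), ?_⟩
      rw [Matrix.toLin'_apply, hcoe]
      rw [Matrix.toLin'_apply] at ht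
      rw [ht]
      rfl)
    rw [Fintype.card_fin] at h3
    exact h3
  have h3 := LinearMap.finrank_range_add_finrank_ker (Matrix.toLin' N₀)
  have h4 := LinearMap.finrank_range_add_finrank_ker (Matrix.toLin' N)
  rw [Module.finrank_fin_fun] at h3 h4
  omega

end Transfer

section Bad

variable {F : Type u} [Field F] [Fintype F]

/-- in the case where the order of `q` modulo `r` is at least two and properly divides the order
of `q₀`, an element of order `r` not conjugate into the subfield group -/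
theorem bad_ss (F₀ : Subfield F) {p : ℕ} [hp : Fact p.Prime] [CharP F p] (q₀ k r n : ℕ)
    [hr : Fact r.Prime] (hrp : r ≠ p) (hk : 2 ≤ k) (hF₀ : Nat.card F₀ = q₀)
    (hq : Fintype.card F = q₀ ^ k)
    (hd2 : 2 ≤ orderOf ((Fintype.card F : ℕ) : ZMod r))
    (hdn : orderOf ((Fintype.card F : ℕ) : ZMod r) ≤ n)
    (hd₀ : orderOf ((q₀ : ℕ) : ZMod r) = k * orderOf ((Fintype.card F : ℕ) : ZMod r)) :
    ∃ x : Matrix.SpecialLinearGroup (Fin n) F,
      ((x ^ r : Matrix.SpecialLinearGroup (Fin n) F) : Matrix (Fin n) (Fin n) F) =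
        (1 : F) • (1 : Matrix (Fin n) (Fin n) F) ∧
      (∀ z : F, (x : Matrix (Fin n) (Fin n) F) ≠ z • (1 : Matrix (Fin n) (Fin n) F)) ∧
      ∀ P : Matrix.SpecialLinearGroup (Fin n) F, P⁻¹ * x * P ∉
        (Cfsg.Geo.subfieldSubgroup F₀ 1).comap
        (Matrix.SpecialLinearGroup.toGL :
          Matrix.SpecialLinearGroup (Fin n) F →* GL (Fin n) F) := by
  classical
  obtain ⟨d, hddef⟩ : ∃ d, d = orderOf ((Fintype.card F : ℕ) : ZMod r) := ⟨_, rfl⟩
  rw [← hddef] at hd2 hdn hd₀
  obtain ⟨f, -, hf⟩ := FiniteField.card F p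
  have hqpos : 0 < Fintype.card F := Fintype.card_pos
  have hrq1 : ¬ r ∣ Fintype.card F - 1 := by
    rw [← Elus.ord_eq_one_iff r _ hqpos, ← hddef]
    omega
  haveI : Fintype F₀ := Fintype.ofFinite _
  have hcard₀ : Fintype.card F₀ = q₀ := by rw [Fintype.card_eq_nat_card, hF₀]
  have hq₀pos : 0 < q₀ := by
    rw [← hcard₀]
    exact Fintype.card_pos
  have hkd : 4 ≤ k * d := Nat.mul_le_mul hk hd2
  have hrq₀1 : ¬ r ∣ Fintype.card F₀ - 1 := by
    rw [hcard₀, ← Elus.ord_eq_one_iff r _ hq₀pos, hd₀]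
    omega
  have hrqF₀ : ¬ r ∣ Fintype.card F₀ := by
    rw [hcard₀]
    intro h
    apply not_dvd_card (F := F) r hrp
    rw [hq]
    exact dvd_pow h (by omega)
  have hn0 : 0 < n := by omega
  obtain ⟨y, hy, hker⟩ := Imp.exists_ss_map' hf r hrp n (n - d) 1
    (by rw [← hddef]; exact hd2) (by rw [← hddef]; omega)
  have hdet : LinearMap.det y = 1 :=
    Elus.eq_one_of_pow r hrq1 _ (by rw [← map_pow, hy, map_one])
  obtain ⟨x, hxdef⟩ : ∃ x : Matrix.SpecialLinearGroup (Fin n) F, x = Elus.toSL y hdet :=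
    ⟨_, rfl⟩
  have hxy : Matrix.toLin' (x : Matrix (Fin n) (Fin n) F) = y := by
    rw [hxdef]
    exact Elus.toLin'_toSL y hdet
  have hxr : ((x ^ r : Matrix.SpecialLinearGroup (Fin n) F) : Matrix (Fin n) (Fin n) F) =
      (1 : F) • (1 : Matrix (Fin n) (Fin n) F) := by
    rw [hxdef]
    exact Elus.toSL_pow y hdet r 1 (by rw [hy, one_smul])
  have hx1 : x ^ r = 1 := by
    apply Subtype.ext
    rw [hxr, one_smul]
    rfl
  refine ⟨x, hxr, ?_, ?_⟩
  · intro z hz
    have hyz : y = z • 1 := by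
      rw [← hxy, hz, Elus.toLin'_smul_one]
    have hzr : z ^ r = 1 := by
      have h1 : (z ^ r) • (1 : Module.End F (Fin n → F)) = (1 : F) • 1 := by
        calc (z ^ r) • (1 : Module.End F (Fin n → F))
            = (z • (1 : Module.End F (Fin n → F))) ^ r := by rw [_root_.smul_pow, one_pow]
          _ = y ^ r := by rw [← hyz]
          _ = 1 := hy
          _ = (1 : F) • 1 := (one_smul _ _).symm
      exact Elus.smul_one_inj hn0 h1
    have hz1 := Elus.eq_one_of_pow r hrq1 z hzr
    rw [hz1, one_smul] at hyz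
    rw [hyz, sub_self, LinearMap.ker_zero, finrank_top, Module.finrank_fin_fun] at hker
    omega
  · intro P hP
    obtain ⟨w, hw0, hw⟩ := Subf.entries_of_mem F₀ _ hP
    obtain ⟨X', hX'⟩ : ∃ X' : Matrix (Fin n) (Fin n) F,
        X' = ((P⁻¹ * x * P : Matrix.SpecialLinearGroup (Fin n) F) :
          Matrix (Fin n) (Fin n) F) := ⟨_, rfl⟩
    have hX'r : X' ^ r = 1 := by
      rw [hX', ← Matrix.SpecialLinearGroup.coe_pow]
      have h1 : (P⁻¹ * x * P) ^ r = 1 := by
        have h2 := conj_pow (i := r) (a := P⁻¹) (b := x)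
        rw [inv_inv] at h2
        rw [h2, hx1, mul_one, inv_mul_cancel]
      rw [h1]
      rfl
    obtain ⟨M₀, hM₀⟩ : ∃ M₀ : Matrix (Fin n) (Fin n) F₀,
        M₀ = fun i j => ⟨w * X' i j, by rw [hX']; exact hw i j⟩ := ⟨_, rfl⟩
    have hM₀map : M₀.map F₀.subtype = w • X' := by
      ext i j
      rw [hM₀]
      rfl
    obtain ⟨i₀, -⟩ : ∃ i₀ : Fin n, True := ⟨⟨0, hn0⟩, trivial⟩
    have hwr : w ^ r ∈ F₀ := by
      have h1 : (M₀ ^ r).map F₀.subtype = (w ^ r) • (1 : Matrix (Fin n) (Fin n) F) := by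
        rw [Matrix.map_pow, hM₀map, _root_.smul_pow, hX'r]
      have h2 := congrFun (congrFun h1 i₀) i₀
      rw [Matrix.map_apply, Matrix.smul_apply, Matrix.one_apply_eq, smul_eq_mul, mul_one] at h2
      rw [← h2]
      exact ((M₀ ^ r) i₀ i₀).2
    have hw_mem : w ∈ F₀ := by
      have hwr0 : (⟨w ^ r, hwr⟩ : F₀) ≠ 0 := by
        intro h
        exact (pow_ne_zero r hw0) (congrArg Subtype.val h)
      obtain ⟨s₀, hs₀⟩ := Elus.exists_root (F := F₀) r hrq₀1 ⟨w ^ r, hwr⟩ hwr0
      have hs₀' : (s₀ : F) ^ r = w ^ r := by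
        have h1 := congrArg Subtype.val hs₀
        simpa using h1
      have hs₀0 : (s₀ : F) ≠ 0 := by
        intro h
        rw [h, zero_pow hr.out.ne_zero] at hs₀'
        exact pow_ne_zero r hw0 hs₀'.symm
      have h1 : (w / (s₀ : F)) ^ r = 1 := by
        rw [div_pow, hs₀', div_self (pow_ne_zero r hw0)]
      have h2 := Elus.eq_one_of_pow r hrq1 _ h1
      have h3 : w = (s₀ : F) := (div_eq_one_iff_eq hs₀0).mp h2
      rw [h3]
      exact s₀.2
    have hX'mem : ∀ i j, X' i j ∈ F₀ := by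
      intro i j
      have h1 : X' i j = w⁻¹ * (w * X' i j) := by
        rw [← mul_assoc, inv_mul_cancel₀ hw0, one_mul]
      rw [h1]
      exact F₀.mul_mem (F₀.inv_mem hw_mem) (by rw [hX']; exact hw i j)
    obtain ⟨Y₀, hY₀⟩ : ∃ Y₀ : Matrix (Fin n) (Fin n) F₀,
        Y₀ = fun i j => ⟨X' i j, hX'mem i j⟩ := ⟨_, rfl⟩
    have hY₀map : Y₀.map F₀.subtype = X' := by
      ext i j
      rw [hY₀]
      rfl
    have hY₀r : Y₀ ^ r = 1 := by
      apply Matrix.map_injective F₀.subtype.injective
      show (Y₀ ^ r).map F₀.subtype = (1 : Matrix (Fin n) (Fin n) F₀).map F₀.subtype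
      rw [Matrix.map_pow, hY₀map, hX'r, Matrix.map_one _ (map_zero _) (map_one _)]
    obtain ⟨g₀, hg₀⟩ : ∃ g₀ : Module.End F₀ (Fin n → F₀), g₀ = Matrix.toLin' Y₀ := ⟨_, rfl⟩
    have hg₀r : g₀ ^ r = 1 := by
      rw [hg₀, ← Elus.toLin'_pow, hY₀r, Matrix.toLin'_one]
      rfl
    have hdvd := Elus.orderOf_dvd_sub (F := F₀) g₀ r hg₀r hrqF₀
    rw [hcard₀, hd₀, Module.finrank_fin_fun] at hdvd
    have hk1 : finrank F₀ (LinearMap.ker (g₀ - 1)) =
        finrank F (LinearMap.ker (Matrix.toLin' X' - 1)) := by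
      have h1 := finrank_ker_map F₀ (Y₀ - 1)
      rw [Matrix.map_sub _ (map_sub _), Matrix.map_one _ (map_zero _) (map_one _), hY₀map,
        map_sub, map_sub, Matrix.toLin'_one, Matrix.toLin'_one, ← hg₀] at h1
      exact h1
    obtain ⟨A, hA⟩ : ∃ A : Matrix (Fin n) (Fin n) F, A = (P : Matrix (Fin n) (Fin n) F) :=
      ⟨_, rfl⟩
    obtain ⟨Ai, hAi⟩ : ∃ Ai : Matrix (Fin n) (Fin n) F,
        Ai = ((P⁻¹ : Matrix.SpecialLinearGroup (Fin n) F) : Matrix (Fin n) (Fin n) F) :=
      ⟨_, rfl⟩
    have hAiA : Ai * A = 1 := by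
      rw [hAi, hA, ← Matrix.SpecialLinearGroup.coe_mul, inv_mul_cancel]
      rfl
    have hAAi : A * Ai = 1 := by
      rw [hAi, hA, ← Matrix.SpecialLinearGroup.coe_mul, mul_inv_cancel]
      rfl
    have hX'mat : X' = Ai * (x : Matrix (Fin n) (Fin n) F) * A := by
      rw [hX', Matrix.SpecialLinearGroup.coe_mul, Matrix.SpecialLinearGroup.coe_mul, hAi, hA]
    have hk2 : finrank F (LinearMap.ker (Matrix.toLin' X' - 1)) =
        finrank F (LinearMap.ker (y - 1)) := by
      have hclaim : LinearMap.ker (Matrix.toLin' X' - 1) = Submodule.comap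
          ((Matrix.SpecialLinearGroup.toLin' P : (Fin n → F) ≃ₗ[F] (Fin n → F)) :
            (Fin n → F) →ₗ[F] (Fin n → F)) (LinearMap.ker (y - 1)) := by
        ext u
        rw [Submodule.mem_comap, LinearMap.mem_ker, LinearMap.mem_ker, LinearMap.sub_apply,
          LinearMap.sub_apply, Module.End.one_apply, Module.End.one_apply, sub_eq_zero,
          sub_eq_zero, LinearEquiv.coe_coe, Matrix.SpecialLinearGroup.toLin'_apply,
          Matrix.toLin'_apply, Matrix.toLin'_apply, ← hxy, Matrix.toLin'_apply, ← hA]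
        constructor
        · intro h
          calc (x : Matrix (Fin n) (Fin n) F).mulVec (A.mulVec u)
              = (A * (Ai * (x : Matrix (Fin n) (Fin n) F) * A)).mulVec u := by
                rw [← mul_assoc, ← mul_assoc, hAAi, one_mul, Matrix.mulVec_mulVec]
            _ = A.mulVec (X'.mulVec u) := by rw [← hX'mat, Matrix.mulVec_mulVec]
            _ = A.mulVec u := by rw [h]
        · intro h
          calc X'.mulVec u = Ai.mulVec ((x : Matrix (Fin n) (Fin n) F).mulVec (A.mulVec u)) := by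
                rw [hX'mat, Matrix.mulVec_mulVec, Matrix.mulVec_mulVec]
            _ = Ai.mulVec (A.mulVec u) := by rw [h]
            _ = u := by rw [Matrix.mulVec_mulVec, hAiA, Matrix.one_mulVec]
      rw [hclaim, Submodule.comap_equiv_eq_map_symm, LinearEquiv.finrank_map_eq]
    rw [hk1, hk2, hker] at hdvd
    have h5 : n - (n - d) = d := by omega
    rw [h5] at hdvd
    have h6 := Nat.le_of_dvd (by omega) hdvd
    have h7 : 2 * d ≤ k * d := Nat.mul_le_mul_right d hk
    omega

end Bad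

end Cfsg.Agent.Lib.Helper2.Sfr
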