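import Mathlib
import Cfsg.Agent.Lib.Helper2.SfrA
set_option autoImplicit false
set_option maxHeartbeats 1000000
set_option linter.unusedVariables false
set_option linter.unusedSectionVars false
set_option linter.style.longLine false
set_option linter.unusedSimpArgs false
set_option linter.deprecated false
set_option linter.style.haveILetI false

/-! Elements of odd prime order `r ≠ p` of `PSL_n(q)` and subfield subgroups (part D):
diagonal elements with entries `r`-th roots of unity, and the symmetry of their exponents when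
they are conjugate into the subfield group. -/

namespace Cfsg.Agent.Lib.Helper2.Sfr

open Module Polynomial Cfsg.Agent.Lib.Helper2

universe u v

section Pw

variable {F : Type u} [Field F]

/-- powers of a root of unity indexed by `ZMod r` -/
def pw (ζ : F) (r : ℕ) (b : ZMod r) : F := ζ ^ b.val

theorem pw_zero (ζ : F) (r : ℕ) : pw ζ r 0 = 1 := by
  rw [pw, ZMod.val_zero, pow_zero]

theorem pw_add (ζ : F) (r : ℕ) [NeZero r] (hζ : ζ ^ r = 1) (a b : ZMod r) :
    pw ζ r (a + b) = pw ζ r a * pw ζ r b := by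
  rw [pw, pw, pw, ZMod.val_add, ← pow_eq_pow_mod _ hζ, pow_add]

theorem pw_natCast (ζ : F) (r : ℕ) (hζ : ζ ^ r = 1) (m : ℕ) :
    pw ζ r (m : ZMod r) = ζ ^ m := by
  rw [pw, ZMod.val_natCast, ← pow_eq_pow_mod _ hζ]

theorem pw_ne_zero (ζ : F) (r : ℕ) [NeZero r] (hζ : ζ ^ r = 1) (a : ZMod r) : pw ζ r a ≠ 0 := by
  have hζ0 : ζ ≠ 0 := by
    rintro rfl
    rw [zero_pow (NeZero.ne r)] at hζ
    exact zero_ne_one hζ
  exact pow_ne_zero _ hζ0

theorem pw_neg (ζ : F) (r : ℕ) [NeZero r] (hζ : ζ ^ r = 1) (a : ZMod r) :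
    pw ζ r (-a) = (pw ζ r a)⁻¹ := by
  apply eq_inv_of_mul_eq_one_left
  rw [← pw_add ζ r hζ, neg_add_cancel, pw_zero]

theorem pw_pow (ζ : F) (r : ℕ) (hζ : ζ ^ r = 1) (a : ZMod r) : (pw ζ r a) ^ r = 1 := by
  rw [pw, ← pow_mul, mul_comm, pow_mul, hζ, one_pow]

theorem pw_injective (ζ : F) (r : ℕ) [NeZero r] (hζ : orderOf ζ = r) :
    Function.Injective (pw ζ r) := by
  intro a b hab
  apply ZMod.val_injective r
  have ha : a.val ∈ Set.Iio (orderOf ζ) := by
    rw [hζ]
    exact ZMod.val_lt a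
  have hb : b.val ∈ Set.Iio (orderOf ζ) := by
    rw [hζ]
    exact ZMod.val_lt b
  exact pow_injOn_Iio_orderOf ha hb hab

theorem pw_nat_mul (ζ : F) (r : ℕ) [NeZero r] (hζ : ζ ^ r = 1) (m : ℕ) (b : ZMod r) :
    pw ζ r ((m : ZMod r) * b) = (pw ζ r b) ^ m := by
  have h1 : (m : ZMod r) * b = ((m * b.val : ℕ) : ZMod r) := by
    rw [Nat.cast_mul, ZMod.natCast_zmod_val]
  rw [h1, pw_natCast ζ r hζ, pw, mul_comm, pow_mul]

theorem pw_sum (ζ : F) (r : ℕ) [NeZero r] (hζ : ζ ^ r = 1) {ι : Type*} (s : Finset ι)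
    (a : ι → ZMod r) : ∏ i ∈ s, pw ζ r (a i) = pw ζ r (∑ i ∈ s, a i) := by
  classical
  induction s using Finset.induction_on with
  | empty => rw [Finset.prod_empty, Finset.sum_empty, pw_zero]
  | insert i s hi ih => rw [Finset.prod_insert hi, Finset.sum_insert hi, ih, pw_add ζ r hζ]

end Pw

section Diag

variable {F : Type u} [Field F]

/-- diagonal elements of `SL_n` whose `r`-th power is a scalar -/
theorem exists_diag_elt (ζ : F) (r n : ℕ) [NeZero r] (hζ : orderOf ζ = r) (c : F)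
    (a : Fin n → ZMod r) (hdet : c ^ n * pw ζ r (∑ i, a i) = 1) (i₁ i₂ : Fin n)
    (hne : a i₁ ≠ a i₂) :
    ∃ x : Matrix.SpecialLinearGroup (Fin n) F,
      (x : Matrix (Fin n) (Fin n) F) = c • Matrix.diagonal (fun i => pw ζ r (a i)) ∧
      ((x ^ r : Matrix.SpecialLinearGroup (Fin n) F) : Matrix (Fin n) (Fin n) F) =
        (c ^ r) • (1 : Matrix (Fin n) (Fin n) F) ∧
      ∀ z : F, (x : Matrix (Fin n) (Fin n) F) ≠ z • (1 : Matrix (Fin n) (Fin n) F) := by
  classical
  have hζr : ζ ^ r = 1 := by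
    rw [← hζ]
    exact pow_orderOf_eq_one ζ
  have hn0 : n ≠ 0 := by
    rintro rfl
    exact i₁.elim0
  have hc0 : c ≠ 0 := by
    rintro rfl
    rw [zero_pow hn0, zero_mul] at hdet
    exact zero_ne_one hdet
  have hdetM : (c • Matrix.diagonal (fun i => pw ζ r (a i))).det = 1 := by
    rw [Matrix.det_smul, Matrix.det_diagonal, Fintype.card_fin, pw_sum ζ r hζr]
    exact hdet
  obtain ⟨x, hxdef⟩ : ∃ x : Matrix.SpecialLinearGroup (Fin n) F,
      x = ⟨c • Matrix.diagonal (fun i => pw ζ r (a i)), hdetM⟩ := ⟨_, rfl⟩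
  have hxv : (x : Matrix (Fin n) (Fin n) F) = c • Matrix.diagonal (fun i => pw ζ r (a i)) := by
    rw [hxdef]
  refine ⟨x, hxv, ?_, ?_⟩
  · rw [Matrix.SpecialLinearGroup.coe_pow, hxv, _root_.smul_pow, Matrix.diagonal_pow]
    have h1 : ((fun i => pw ζ r (a i)) ^ r : Fin n → F) = fun _ => 1 := by
      funext i
      rw [Pi.pow_apply, pw_pow ζ r hζr]
    rw [h1, Matrix.diagonal_one]
  · intro z hz
    have hz' : c • Matrix.diagonal (fun i => pw ζ r (a i)) =
        z • (1 : Matrix (Fin n) (Fin n) F) := by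
      rw [← hxv]
      exact hz
    have h1 := congrFun (congrFun hz' i₁) i₁
    have h2 := congrFun (congrFun hz' i₂) i₂
    rw [Matrix.smul_apply, Matrix.diagonal_apply_eq, Matrix.smul_apply, Matrix.one_apply_eq]
      at h1 h2
    have h3 : pw ζ r (a i₁) = pw ζ r (a i₂) := by
      have h4 : c • pw ζ r (a i₁) = c • pw ζ r (a i₂) := by rw [h1, h2]
      rw [smul_eq_mul, smul_eq_mul] at h4
      exact mul_left_cancel₀ hc0 h4
    exact hne (pw_injective ζ r hζ h3)

end Diag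

section Inv

variable {F : Type u} [Field F] [Fintype F]

/-- if a diagonal element with entries `c ζ^{a_i}` is conjugate into the subfield group then the
multiset of the exponents is invariant under an affine map `b ↦ q₀ b + t` -/
theorem diag_inv (F₀ : Subfield F) {p : ℕ} [hp : Fact p.Prime] [CharP F p] (q₀ k r n : ℕ)
    [hr : Fact r.Prime] (hk : 0 < k) (hF₀ : Nat.card F₀ = q₀) (hq : Fintype.card F = q₀ ^ k)
    (ζ : F) (hζ : orderOf ζ = r) (c : F) (hc : c ≠ 0) (a : Fin n → ZMod r) (hn : 0 < n)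
    (x P : Matrix.SpecialLinearGroup (Fin n) F)
    (hx : (x : Matrix (Fin n) (Fin n) F) = c • Matrix.diagonal (fun i => pw ζ r (a i)))
    (hP : P⁻¹ * x * P ∈ (Cfsg.Geo.subfieldSubgroup F₀ 1).comap
      (Matrix.SpecialLinearGroup.toGL : Matrix.SpecialLinearGroup (Fin n) F →* GL (Fin n) F)) :
    ∃ t : ZMod r, Multiset.map (fun b => ((q₀ : ℕ) : ZMod r) * b + t)
      (Multiset.map a Finset.univ.val) = Multiset.map a Finset.univ.val := by
  classical
  have hζr : ζ ^ r = 1 := by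
    rw [← hζ]
    exact pow_orderOf_eq_one ζ
  obtain ⟨f₀, hf₀⟩ := exists_exp (F := F) (p := p) q₀ k hk hq
  obtain ⟨σ, hσ⟩ : ∃ σ : F →+* F, ∀ b, σ b = b ^ q₀ :=
    ⟨iterateFrobenius F p f₀, fun b => by rw [iterateFrobenius_def, hf₀]⟩
  have hσsub : σ.comp F₀.subtype = F₀.subtype := by
    ext b
    rw [RingHom.comp_apply, hσ]
    exact (mem_iff_pow F₀ q₀ hF₀ _).mp b.2
  obtain ⟨w, hw0, hw⟩ := Subf.entries_of_mem F₀ _ hP
  obtain ⟨u, hu⟩ : ∃ u : F, u = w * c := ⟨_, rfl⟩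
  have hu0 : u ≠ 0 := by
    rw [hu]
    exact mul_ne_zero hw0 hc
  obtain ⟨d, hd⟩ : ∃ d : Fin n → F, d = fun i => u * pw ζ r (a i) := ⟨_, rfl⟩
  obtain ⟨A, hA⟩ : ∃ A : Matrix (Fin n) (Fin n) F, A = (P : Matrix (Fin n) (Fin n) F) :=
    ⟨_, rfl⟩
  obtain ⟨Ai, hAi⟩ : ∃ Ai : Matrix (Fin n) (Fin n) F,
      Ai = ((P⁻¹ : Matrix.SpecialLinearGroup (Fin n) F) : Matrix (Fin n) (Fin n) F) :=
    ⟨_, rfl⟩
  have hAiA : Ai * A = 1 := by
    rw [hAi, hA, ← Matrix.SpecialLinearGroup.coe_mul, inv_mul_cancel]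
    rfl
  have hAAi : A * Ai = 1 := by
    rw [hAi, hA, ← Matrix.SpecialLinearGroup.coe_mul, mul_inv_cancel]
    rfl
  obtain ⟨M₀, hM₀⟩ : ∃ M₀ : Matrix (Fin n) (Fin n) F₀, M₀ = fun i j =>
      ⟨w * ((P⁻¹ * x * P : Matrix.SpecialLinearGroup (Fin n) F) :
        Matrix (Fin n) (Fin n) F) i j, hw i j⟩ := ⟨_, rfl⟩
  have hM₀map : M₀.map F₀.subtype = Ai * Matrix.diagonal d * A := by
    have h1 : M₀.map F₀.subtype = w • ((P⁻¹ * x * P : Matrix.SpecialLinearGroup (Fin n) F) :
        Matrix (Fin n) (Fin n) F) := by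
      ext i j
      rw [hM₀]
      rfl
    have h2 : Matrix.diagonal d = u • Matrix.diagonal (fun i => pw ζ r (a i)) := by
      rw [← Matrix.diagonal_smul, hd]
      rfl
    rw [h1, Matrix.SpecialLinearGroup.coe_mul, Matrix.SpecialLinearGroup.coe_mul, hx, ← hAi,
      ← hA, h2, hu, Matrix.mul_smul, Matrix.smul_mul, Matrix.mul_smul, Matrix.smul_mul, smul_smul]
  have hchar : (M₀.map F₀.subtype).charpoly = ∏ i, (X - C (d i)) := by
    rw [hM₀map, ← Matrix.charpoly_diagonal, ← Matrix.inv_eq_right_inv hAiA]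
    exact Matrix.charpoly_units_conj ⟨Ai, A, hAiA, hAAi⟩ (Matrix.diagonal d)
  have hfix : ((M₀.map F₀.subtype).charpoly).map σ = (M₀.map F₀.subtype).charpoly := by
    rw [Matrix.charpoly_map, Polynomial.map_map, hσsub]
  rw [hchar, Polynomial.map_prod] at hfix
  have hfix' : ∏ i, (X - C (σ (d i))) = ∏ i, (X - C (d i)) := by
    rw [← hfix]
    apply Finset.prod_congr rfl
    intro i _
    rw [Polynomial.map_sub, map_X, map_C]
  have hms : Multiset.map (fun i => σ (d i)) Finset.univ.val = Multiset.map d Finset.univ.val := by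
    have h1 := congrArg Polynomial.roots hfix'
    rw [Finset.prod_eq_multiset_prod, Finset.prod_eq_multiset_prod] at h1
    have h2 : Multiset.map (fun i => X - C (σ (d i))) (Finset.univ : Finset (Fin n)).val =
        Multiset.map (fun b => X - C b) (Multiset.map (fun i => σ (d i)) Finset.univ.val) := by
      rw [Multiset.map_map]
      rfl
    have h3 : Multiset.map (fun i => X - C (d i)) (Finset.univ : Finset (Fin n)).val =
        Multiset.map (fun b => X - C b) (Multiset.map d Finset.univ.val) := by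
      rw [Multiset.map_map]
      rfl
    rw [h2, h3, roots_multiset_prod_X_sub_C, roots_multiset_prod_X_sub_C] at h1
    exact h1
  have hσd : ∀ i, σ (d i) = σ u * pw ζ r (((q₀ : ℕ) : ZMod r) * a i) := by
    intro i
    rw [hd, map_mul, hσ (pw ζ r (a i)), pw_nat_mul ζ r hζr]
  obtain ⟨i₀, -⟩ : ∃ i₀ : Fin n, True := ⟨⟨0, hn⟩, trivial⟩
  have hmem : σ (d i₀) ∈ Multiset.map d Finset.univ.val := by
    rw [← hms]
    exact Multiset.mem_map.mpr ⟨i₀, Finset.mem_univ_val i₀, rfl⟩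
  obtain ⟨j, -, hj⟩ := Multiset.mem_map.mp hmem
  obtain ⟨t, ht⟩ : ∃ t : ZMod r, t = a j - ((q₀ : ℕ) : ZMod r) * a i₀ := ⟨_, rfl⟩
  have hσu : σ u = u * pw ζ r t := by
    have hj' : u * pw ζ r (a j) = σ u * pw ζ r (((q₀ : ℕ) : ZMod r) * a i₀) := by
      rw [← hσd i₀, ← hj, hd]
    have h1 : pw ζ r t = pw ζ r (a j) * (pw ζ r (((q₀ : ℕ) : ZMod r) * a i₀))⁻¹ := by
      rw [ht, sub_eq_add_neg, pw_add ζ r hζr, pw_neg ζ r hζr]
    have h2 := pw_ne_zero ζ r hζr (((q₀ : ℕ) : ZMod r) * a i₀)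
    rw [h1, ← mul_assoc, hj', mul_assoc, mul_inv_cancel₀ h2, mul_one]
  refine ⟨t, ?_⟩
  have hinj : Function.Injective (fun b : ZMod r => u * pw ζ r b) := by
    intro b₁ b₂ hb
    exact pw_injective ζ r hζ (mul_left_cancel₀ hu0 hb)
  apply Multiset.map_injective hinj
  rw [Multiset.map_map, Multiset.map_map, Multiset.map_map]
  have h4 : Multiset.map (fun i => σ (d i)) (Finset.univ : Finset (Fin n)).val =
      Multiset.map (((fun b : ZMod r => u * pw ζ r b) ∘
        fun b => ((q₀ : ℕ) : ZMod r) * b + t) ∘ a) Finset.univ.val := by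
    apply Multiset.map_congr rfl
    intro i _
    rw [hσd, hσu, Function.comp_apply, Function.comp_apply, pw_add ζ r hζr]
    ring
  have h5 : Multiset.map d (Finset.univ : Finset (Fin n)).val =
      Multiset.map ((fun b : ZMod r => u * pw ζ r b) ∘ a) Finset.univ.val := by
    rw [hd]
    rfl
  rw [← h4, ← h5]
  exact hms

end Inv

end Cfsg.Agent.Lib.Helper2.Sfr
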