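import Mathlib
import Cfsg.Agent.Lib.Helper2.SfrD
set_option autoImplicit false
set_option maxHeartbeats 1000000
set_option linter.unusedVariables false
set_option linter.unusedSectionVars false
set_option linter.style.longLine false
set_option linter.unusedSimpArgs false
set_option linter.deprecated false
set_option linter.style.haveILetI false

/-! Elements of odd prime order `r ≠ p` of `PSL_n(q)` and subfield subgroups (part E):
diagonal elements not conjugate into the subfield group when `r` divides `q - 1` but not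
`q₀ - 1`. -/

namespace Cfsg.Agent.Lib.Helper2.Sfr

open Module Polynomial Cfsg.Agent.Lib.Helper2

universe u v

theorem univ_map_cons {α : Type*} {m : ℕ} (x : α) (f : Fin m → α) :
    Multiset.map (Matrix.vecCons x f) (Finset.univ : Finset (Fin (m + 1))).val =
      x ::ₘ Multiset.map f Finset.univ.val := by
  rw [Fin.univ_succ, Finset.cons_val, Multiset.map_cons, Finset.map_val, Multiset.map_map]
  simp [Function.comp]

theorem univ_map_const {α : Type*} {m : ℕ} (x : α) :
    Multiset.map (fun _ : Fin m => x) (Finset.univ : Finset (Fin m)).val =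
      Multiset.replicate m x := by
  rw [Multiset.map_const']
  simp

section Comb

variable {r : ℕ} [hr : Fact r.Prime]

theorem count_inv {A : Multiset (ZMod r)} (g t : ZMod r) (hg0 : g ≠ 0)
    (h : Multiset.map (fun b => g * b + t) A = A) (b : ZMod r) :
    Multiset.count (g * b + t) A = Multiset.count b A := by
  have hinj : Function.Injective (fun b : ZMod r => g * b + t) := by
    intro b₁ b₂ hb
    exact mul_left_cancel₀ hg0 (add_right_cancel hb)
  conv_lhs => rw [← h]
  exact Multiset.count_map_eq_count' _ A hinj b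

theorem shape1 (m : ℕ) (hm : 1 ≤ m) (g t : ZMod r) (hg0 : g ≠ 0) (hg1 : g ≠ 1)
    (hcase : 2 ≤ m ∨ g ^ 2 ≠ 1)
    (h : Multiset.map (fun b => g * b + t) (1 ::ₘ Multiset.replicate m 0) =
      1 ::ₘ Multiset.replicate m 0) : False := by
  have h01 : (0 : ZMod r) ≠ 1 := zero_ne_one
  have c0 : Multiset.count (0 : ZMod r) (1 ::ₘ Multiset.replicate m 0) = m := by
    rw [Multiset.count_cons, Multiset.count_replicate, if_pos rfl, if_neg h01, add_zero]
  have c1 : Multiset.count (1 : ZMod r) (1 ::ₘ Multiset.replicate m 0) = 1 := by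
    rw [Multiset.count_cons, Multiset.count_replicate, if_neg h01, if_pos rfl, zero_add]
  have co : ∀ b : ZMod r, b ≠ 0 → b ≠ 1 →
      Multiset.count b (1 ::ₘ Multiset.replicate m 0) = 0 := by
    intro b hb0 hb1
    rw [Multiset.count_cons, Multiset.count_replicate, if_neg (Ne.symm hb0), if_neg hb1]
  have h0 := count_inv g t hg0 h 0
  have h1 := count_inv g t hg0 h 1
  rw [mul_zero, zero_add, c0] at h0
  rw [mul_one, c1] at h1
  by_cases ht0 : t = 0
  · rw [ht0, add_zero] at h1
    by_cases hg : g = 1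
    · exact hg1 hg
    · rw [co g hg0 hg] at h1
      omega
  · by_cases ht1 : t = 1
    · rw [ht1, c1] at h0
      rcases hcase with hc | hc
      · omega
      · by_cases hgt0 : g + t = 0
        · apply hc
          have : g = -1 := by
            rw [ht1] at hgt0
            exact eq_neg_of_add_eq_zero_left hgt0
          rw [this]
          ring
        · by_cases hgt1 : g + t = 1
          · rw [ht1] at hgt1
            exact hg0 (by simpa using hgt1)
          · rw [co _ hgt0 hgt1] at h1
            omega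
    · rw [co t ht0 ht1] at h0
      omega

theorem shape3 (m : ℕ) (hm : 1 ≤ m) (hm3 : m ≠ 3) (g t : ZMod r) (hg0 : g ≠ 0) (hg1 : g ≠ 1)
    (h : Multiset.map (fun b => g * b + t) (1 ::ₘ 1 ::ₘ 1 ::ₘ Multiset.replicate m 0) =
      1 ::ₘ 1 ::ₘ 1 ::ₘ Multiset.replicate m 0) : False := by
  have h01 : (0 : ZMod r) ≠ 1 := zero_ne_one
  have c0 : Multiset.count (0 : ZMod r) (1 ::ₘ 1 ::ₘ 1 ::ₘ Multiset.replicate m 0) = m := by
    rw [Multiset.count_cons, Multiset.count_cons, Multiset.count_cons, Multiset.count_replicate,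
      if_pos rfl, if_neg h01]
    all_goals omega
  have c1 : Multiset.count (1 : ZMod r) (1 ::ₘ 1 ::ₘ 1 ::ₘ Multiset.replicate m 0) = 3 := by
    rw [Multiset.count_cons, Multiset.count_cons, Multiset.count_cons, Multiset.count_replicate,
      if_neg h01, if_pos rfl]
  have co : ∀ b : ZMod r, b ≠ 0 → b ≠ 1 →
      Multiset.count b (1 ::ₘ 1 ::ₘ 1 ::ₘ Multiset.replicate m 0) = 0 := by
    intro b hb0 hb1
    rw [Multiset.count_cons, Multiset.count_cons, Multiset.count_cons, Multiset.count_replicate,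
      if_neg (Ne.symm hb0), if_neg hb1]
  have h0 := count_inv g t hg0 h 0
  have h1 := count_inv g t hg0 h 1
  rw [mul_zero, zero_add, c0] at h0
  rw [mul_one, c1] at h1
  by_cases ht0 : t = 0
  · rw [ht0, add_zero] at h1
    rw [co g hg0 hg1] at h1
    omega
  · by_cases ht1 : t = 1
    · rw [ht1, c1] at h0
      omega
    · rw [co t ht0 ht1] at h0
      omega

theorem shape2 (hr5 : 5 ≤ r) (m : ℕ) (hm : 3 ≤ m) (g t : ZMod r) (hg0 : g ≠ 0) (hg1 : g ≠ 1)
    (h : Multiset.map (fun b => g * b + t) (1 ::ₘ 1 ::ₘ (-2) ::ₘ Multiset.replicate m 0) =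
      1 ::ₘ 1 ::ₘ (-2) ::ₘ Multiset.replicate m 0) : False := by
  have h01 : (0 : ZMod r) ≠ 1 := zero_ne_one
  have h20 : (-2 : ZMod r) ≠ 0 := by
    intro h2
    have h3 : ((2 : ℕ) : ZMod r) = 0 := by
      push_cast
      exact neg_eq_zero.mp h2
    have h4 := (ZMod.natCast_eq_zero_iff _ r).mp h3
    have := Nat.le_of_dvd (by norm_num) h4
    omega
  have h21 : (-2 : ZMod r) ≠ 1 := by
    intro h2
    have h3 : ((3 : ℕ) : ZMod r) = 0 := by
      push_cast
      linear_combination -h2
    have h4 := (ZMod.natCast_eq_zero_iff _ r).mp h3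
    have := Nat.le_of_dvd (by norm_num) h4
    omega
  have c0 : Multiset.count (0 : ZMod r) (1 ::ₘ 1 ::ₘ (-2) ::ₘ Multiset.replicate m 0) = m := by
    rw [Multiset.count_cons, Multiset.count_cons, Multiset.count_cons, Multiset.count_replicate,
      if_pos rfl, if_neg h01, if_neg (Ne.symm h20)]
    all_goals omega
  have c1 : Multiset.count (1 : ZMod r) (1 ::ₘ 1 ::ₘ (-2) ::ₘ Multiset.replicate m 0) = 2 := by
    rw [Multiset.count_cons, Multiset.count_cons, Multiset.count_cons, Multiset.count_replicate,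
      if_neg h01, if_pos rfl, if_neg (Ne.symm h21)]
  have c2 : Multiset.count (-2 : ZMod r) (1 ::ₘ 1 ::ₘ (-2) ::ₘ Multiset.replicate m 0) = 1 := by
    rw [Multiset.count_cons, Multiset.count_cons, Multiset.count_cons, Multiset.count_replicate,
      if_neg (Ne.symm h20), if_neg h21, if_pos rfl]
  have co : ∀ b : ZMod r, b ≠ 0 → b ≠ 1 → b ≠ -2 →
      Multiset.count b (1 ::ₘ 1 ::ₘ (-2) ::ₘ Multiset.replicate m 0) = 0 := by
    intro b hb0 hb1 hb2
    rw [Multiset.count_cons, Multiset.count_cons, Multiset.count_cons, Multiset.count_replicate,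
      if_neg (Ne.symm hb0), if_neg hb1, if_neg hb2]
  have h0 := count_inv g t hg0 h 0
  have h1 := count_inv g t hg0 h 1
  rw [mul_zero, zero_add, c0] at h0
  rw [mul_one, c1] at h1
  by_cases ht0 : t = 0
  · rw [ht0, add_zero] at h1
    by_cases hg2 : g = -2
    · rw [hg2, c2] at h1
      omega
    · rw [co g hg0 hg1 hg2] at h1
      omega
  · by_cases ht1 : t = 1
    · rw [ht1, c1] at h0
      omega
    · by_cases ht2 : t = -2
      · rw [ht2, c2] at h0
        omega
      · rw [co t ht0 ht1 ht2] at h0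
        omega

end Comb

section BadDiag

variable {F : Type u} [Field F] [Fintype F]

theorem bad_of_shape (F₀ : Subfield F) {p : ℕ} [hp : Fact p.Prime] [CharP F p] (q₀ k r n : ℕ)
    [hr : Fact r.Prime] (hk : 0 < k) (hF₀ : Nat.card F₀ = q₀) (hq : Fintype.card F = q₀ ^ k)
    (ζ : F) (hζ : orderOf ζ = r) (c : F) (a : Fin n → ZMod r)
    (hdet : c ^ n * pw ζ r (∑ i, a i) = 1) (i₁ i₂ : Fin n) (hne : a i₁ ≠ a i₂)
    (hbad : ∀ t : ZMod r, Multiset.map (fun b => ((q₀ : ℕ) : ZMod r) * b + t)
      (Multiset.map a Finset.univ.val) = Multiset.map a Finset.univ.val → False) :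
    ∃ x : Matrix.SpecialLinearGroup (Fin n) F,
      (∃ z : F, ((x ^ r : Matrix.SpecialLinearGroup (Fin n) F) : Matrix (Fin n) (Fin n) F) =
        z • (1 : Matrix (Fin n) (Fin n) F)) ∧
      (∀ z : F, (x : Matrix (Fin n) (Fin n) F) ≠ z • (1 : Matrix (Fin n) (Fin n) F)) ∧
      ∀ P : Matrix.SpecialLinearGroup (Fin n) F, P⁻¹ * x * P ∉
        (Cfsg.Geo.subfieldSubgroup F₀ 1).comap
        (Matrix.SpecialLinearGroup.toGL :
          Matrix.SpecialLinearGroup (Fin n) F →* GL (Fin n) F) := by
  haveI : NeZero r := ⟨hr.out.ne_zero⟩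
  obtain ⟨x, hxv, hxr, hxns⟩ := exists_diag_elt ζ r n hζ c a hdet i₁ i₂ hne
  refine ⟨x, ⟨c ^ r, hxr⟩, hxns, ?_⟩
  intro P hP
  have hn0 : 0 < n := Fin.pos i₁
  have hc0 : c ≠ 0 := by
    rintro rfl
    rw [zero_pow hn0.ne', zero_mul] at hdet
    exact zero_ne_one hdet
  obtain ⟨t, ht⟩ := diag_inv F₀ q₀ k r n hk hF₀ hq ζ hζ c hc0 a hn0 x P hxv hP
  exact hbad t ht

/-- in the case where `r` divides `q - 1` but not `q₀ - 1`, an element whose `r`-th power is a
scalar and which is not conjugate into the subfield group, outside the exceptional cases -/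
theorem bad_diag (F₀ : Subfield F) {p : ℕ} [hp : Fact p.Prime] [CharP F p] (q₀ k r n : ℕ)
    [hr : Fact r.Prime] (hn : 2 ≤ n) (hk : k.Prime) (hrp : r ≠ p) (hr2 : r ≠ 2)
    (hF₀ : Nat.card F₀ = q₀) (hq : Fintype.card F = q₀ ^ k)
    (hrq : r ∣ Fintype.card F - 1) (hd₀ : orderOf ((q₀ : ℕ) : ZMod r) = k)
    (hnk : n = 2 → 3 ≤ k) (hgap : ¬ (n = 6 ∧ r = 3))
    (hnsp : ¬ (k = 2 ∧ r = n ∧ (n = 3 ∨ n = 5) ∧ padicValNat r (q₀ + 1) = 1)) :
    ∃ x : Matrix.SpecialLinearGroup (Fin n) F,
      (∃ z : F, ((x ^ r : Matrix.SpecialLinearGroup (Fin n) F) : Matrix (Fin n) (Fin n) F) =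
        z • (1 : Matrix (Fin n) (Fin n) F)) ∧
      (∀ z : F, (x : Matrix (Fin n) (Fin n) F) ≠ z • (1 : Matrix (Fin n) (Fin n) F)) ∧
      ∀ P : Matrix.SpecialLinearGroup (Fin n) F, P⁻¹ * x * P ∉
        (Cfsg.Geo.subfieldSubgroup F₀ 1).comap
        (Matrix.SpecialLinearGroup.toGL :
          Matrix.SpecialLinearGroup (Fin n) F →* GL (Fin n) F) := by
  classical
  haveI : NeZero r := ⟨hr.out.ne_zero⟩
  obtain ⟨g, hg⟩ : ∃ g : ZMod r, g = ((q₀ : ℕ) : ZMod r) := ⟨_, rfl⟩
  have hrq₀ : ¬ r ∣ q₀ := by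
    intro h
    apply not_dvd_card (F := F) r hrp
    rw [hq]
    exact dvd_pow h hk.ne_zero
  have hg0 : g ≠ 0 := by
    rw [hg, Ne, ZMod.natCast_eq_zero_iff]
    exact hrq₀
  have hgord : orderOf g = k := by
    rw [hg]
    exact hd₀
  have hg1 : g ≠ 1 := by
    intro h
    rw [h, orderOf_one] at hgord
    have := hk.two_le
    omega
  have hq1 : Fintype.card F - 1 ≠ 0 := by
    have := Fintype.one_lt_card (α := F)
    omega
  have hn0 : n ≠ 0 := by omega
  have ha1 : 1 ≤ padicValNat r (Fintype.card F - 1) := one_le_padicValNat_of_dvd hq1 hrq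
  by_cases hea : padicValNat r n < padicValNat r (Fintype.card F - 1)
  · obtain ⟨e, he⟩ : ∃ e, e = padicValNat r n := ⟨_, rfl⟩
    rw [← he] at hea
    have hdv : r ^ (e + 1) ∣ Fintype.card F - 1 :=
      (padicValNat_dvd_iff_le hq1).mpr (by omega)
    obtain ⟨ξ, hξ⟩ := exists_elt_of_order (F := F) (r ^ (e + 1)) hdv
    have hord : orderOf (ξ ^ n) = r := by
      rw [orderOf_pow' ξ hn0, hξ]
      have h1 : Nat.gcd (r ^ (e + 1)) n = r ^ e := by
        apply Nat.dvd_antisymm
        · obtain ⟨j, hj, hj'⟩ := (Nat.dvd_prime_pow hr.out).mp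
            (Nat.gcd_dvd_left (r ^ (e + 1)) n)
          rw [hj']
          apply pow_dvd_pow
          have h2 : r ^ j ∣ n := by
            rw [← hj']
            exact Nat.gcd_dvd_right _ _
          rw [he]
          exact (padicValNat_dvd_iff_le hn0).mp h2
        · apply Nat.dvd_gcd (pow_dvd_pow r (by omega))
          rw [he]
          exact pow_padicValNat_dvd
      rw [h1, pow_succ, Nat.mul_div_cancel_left _ (pow_pos hr.out.pos e)]
    have hξn : ξ ^ n ≠ 0 := by
      intro h0
      have h2 := pow_orderOf_eq_one (ξ ^ n)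
      rw [hord, h0, zero_pow hr.out.ne_zero] at h2
      exact zero_ne_one h2
    obtain ⟨ζ, hζdef⟩ : ∃ ζ : F, ζ = ξ ^ n := ⟨_, rfl⟩
    have hζ : orderOf ζ = r := by
      rw [hζdef, hord]
    have hζr : ζ ^ r = 1 := by
      rw [← hζ]
      exact pow_orderOf_eq_one ζ
    obtain ⟨m, rfl⟩ : ∃ m, n = m + 1 := ⟨n - 1, by omega⟩
    have hm : 1 ≤ m := by omega
    obtain ⟨a, hadef⟩ : ∃ a : Fin (m + 1) → ZMod r,
        a = Matrix.vecCons 1 (fun _ => 0) := ⟨_, rfl⟩
    have hA : Multiset.map a Finset.univ.val = 1 ::ₘ Multiset.replicate m 0 := by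
      rw [hadef, univ_map_cons, univ_map_const]
    have hsum : ∑ i, a i = 1 := by
      rw [hadef, Fin.sum_univ_succ]
      simp
    have hpw1 : pw ζ r 1 = ζ := by
      have h1 := pw_natCast ζ r hζr 1
      simpa using h1
    have hdet : ξ⁻¹ ^ (m + 1) * pw ζ r (∑ i, a i) = 1 := by
      rw [hsum, hpw1, hζdef, inv_pow]
      exact inv_mul_cancel₀ hξn
    have hi : a 0 ≠ a (Fin.succ ⟨0, hm⟩) := by
      rw [hadef]
      simp
    apply bad_of_shape F₀ q₀ k r (m + 1) hk.pos hF₀ hq ζ hζ ξ⁻¹ a hdet 0 (Fin.succ ⟨0, hm⟩) hi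
    intro t ht
    rw [hA, ← hg] at ht
    apply shape1 m hm g t hg0 hg1 _ ht
    by_cases hm2 : 2 ≤ m
    · left
      exact hm2
    · right
      intro hg2
      have h1 := orderOf_dvd_of_pow_eq_one hg2
      rw [hgord] at h1
      have h2 := Nat.le_of_dvd (by norm_num) h1
      have h3 := hnk (by omega)
      omega
  · push Not at hea
    have hrn : r ∣ n := dvd_of_one_le_padicValNat (by omega)
    obtain ⟨ζ, hζ⟩ := exists_elt_of_order (F := F) r hrq
    have hζr : ζ ^ r = 1 := by
      rw [← hζ]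
      exact pow_orderOf_eq_one ζ
    have hkr : k ∣ r - 1 := by
      rw [← hgord]
      exact orderOf_dvd_of_pow_eq_one (ZMod.pow_card_sub_one_eq_one hg0)
    have hspor : k = 2 → padicValNat r (q₀ + 1) = padicValNat r (Fintype.card F - 1) := by
      intro hk2
      rw [hq, hk2]
      have hq₀2 : 2 ≤ q₀ := by
        by_contra hlt
        have h1 : q₀ = 0 ∨ q₀ = 1 := by omega
        have h2 := Fintype.one_lt_card (α := F)
        rcases h1 with h1 | h1
        · rw [hq, h1, zero_pow hk.ne_zero] at h2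
          omega
        · rw [hq, h1, one_pow] at h2
          omega
      obtain ⟨s, rfl⟩ : ∃ s, q₀ = s + 1 := ⟨q₀ - 1, by omega⟩
      have h1 : (s + 1) ^ 2 - 1 = s * (s + 1 + 1) := by
        have h2 : (s + 1) ^ 2 = s * (s + 1 + 1) + 1 := by ring
        rw [h2, Nat.add_sub_cancel]
      have hnd : ¬ r ∣ s := by
        intro h
        apply hg1
        rw [hg]
        have h3 := (ZMod.natCast_eq_zero_iff s r).mpr h
        push_cast
        rw [h3, zero_add]
      rw [h1, padicValNat.mul (by omega) (by omega), padicValNat.eq_zero_of_not_dvd hnd, zero_add]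
    by_cases hr3 : r = 3
    · have hk2 : k = 2 := by
        rw [hr3] at hkr
        exact (Nat.prime_dvd_prime_iff_eq hk Nat.prime_two).mp hkr
      by_cases hn3 : n = 3
      · exfalso
        apply hnsp
        refine ⟨hk2, by omega, Or.inl hn3, ?_⟩
        rw [hspor hk2]
        have h1 : padicValNat r n = 1 := by
          have h2 : n = r := by omega
          rw [h2]
          exact padicValNat_self
        omega
      · have hn6 : n ≠ 6 := fun h => hgap ⟨h, hr3⟩
        have hn9 : 9 ≤ n := by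
          obtain ⟨s, hs⟩ := hrn
          rw [hr3] at hs
          omega
        obtain ⟨m, rfl⟩ : ∃ m, n = m + 3 := ⟨n - 3, by omega⟩
        have hm0 : 0 < m := by omega
        obtain ⟨a, hadef⟩ : ∃ a : Fin (m + 3) → ZMod r,
            a = Matrix.vecCons 1 (Matrix.vecCons 1 (Matrix.vecCons 1 (fun _ => 0))) :=
          ⟨_, rfl⟩
        have hA : Multiset.map a Finset.univ.val =
            1 ::ₘ 1 ::ₘ 1 ::ₘ Multiset.replicate m 0 := by
          rw [hadef, univ_map_cons, univ_map_cons, univ_map_cons, univ_map_const]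
        have h3z : ((3 : ℕ) : ZMod r) = 0 := by
          rw [ZMod.natCast_eq_zero_iff, hr3]
        have hsum : ∑ i, a i = 0 := by
          rw [hadef, Fin.sum_univ_succ, Fin.sum_univ_succ, Fin.sum_univ_succ]
          simp
          push_cast at h3z
          linear_combination h3z
        have hdet : (1 : F) ^ (m + 3) * pw ζ r (∑ i, a i) = 1 := by
          rw [hsum, pw_zero, one_pow, one_mul]
        have hi : a 0 ≠ a (Fin.succ (Fin.succ (Fin.succ ⟨0, hm0⟩))) := by
          rw [hadef]
          simp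
        apply bad_of_shape F₀ q₀ k r (m + 3) hk.pos hF₀ hq ζ hζ 1 a hdet 0
          (Fin.succ (Fin.succ (Fin.succ ⟨0, hm0⟩))) hi
        intro t ht
        rw [hA, ← hg] at ht
        exact shape3 m (by omega) (by omega) g t hg0 hg1 ht
    · have hr5 : 5 ≤ r := by
        have h2 := hr.out.two_le
        by_contra hlt
        have h4 : r = 4 := by omega
        have h5 := hr.out
        rw [h4] at h5
        exact absurd h5 (by norm_num)
      have hn5 : 5 ≤ n := le_trans hr5 (Nat.le_of_dvd (by omega) hrn)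
      by_cases hn5' : n = 5
      · exfalso
        apply hnsp
        have hr5' : r = 5 := by
          rw [hn5'] at hrn
          exact (Nat.prime_dvd_prime_iff_eq hr.out Nat.prime_five).mp hrn
        have hk2 : k = 2 := by
          rw [hr5'] at hkr
          have h4 : k ∣ 2 ^ 2 := by
            norm_num at hkr ⊢
            exact hkr
          exact (Nat.prime_dvd_prime_iff_eq hk Nat.prime_two).mp (hk.dvd_of_dvd_pow h4)
        refine ⟨hk2, by omega, Or.inr hn5', ?_⟩
        rw [hspor hk2]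
        have h1 : padicValNat r n = 1 := by
          have h2 : n = r := by omega
          rw [h2]
          exact padicValNat_self
        omega
      · obtain ⟨m, rfl⟩ : ∃ m, n = m + 3 := ⟨n - 3, by omega⟩
        have hm0 : 0 < m := by omega
        obtain ⟨a, hadef⟩ : ∃ a : Fin (m + 3) → ZMod r,
            a = Matrix.vecCons 1 (Matrix.vecCons 1 (Matrix.vecCons (-2) (fun _ => 0))) :=
          ⟨_, rfl⟩
        have hA : Multiset.map a Finset.univ.val =
            1 ::ₘ 1 ::ₘ (-2) ::ₘ Multiset.replicate m 0 := by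
          rw [hadef, univ_map_cons, univ_map_cons, univ_map_cons, univ_map_const]
        have hsum : ∑ i, a i = 0 := by
          rw [hadef, Fin.sum_univ_succ, Fin.sum_univ_succ, Fin.sum_univ_succ]
          simp
          ring
        have hdet : (1 : F) ^ (m + 3) * pw ζ r (∑ i, a i) = 1 := by
          rw [hsum, pw_zero, one_pow, one_mul]
        have hi : a 0 ≠ a (Fin.succ (Fin.succ (Fin.succ ⟨0, hm0⟩))) := by
          rw [hadef]
          simp
        apply bad_of_shape F₀ q₀ k r (m + 3) hk.pos hF₀ hq ζ hζ 1 a hdet 0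
          (Fin.succ (Fin.succ (Fin.succ ⟨0, hm0⟩))) hi
        intro t ht
        rw [hA, ← hg] at ht
        exact shape2 hr5 m (by omega) g t hg0 hg1 ht

end BadDiag

end Cfsg.Agent.Lib.Helper2.Sfr
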