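import Mathlib
import Cfsg.Agent.Lib.Helper2.SfrA
set_option autoImplicit false
set_option maxHeartbeats 1000000
set_option linter.unusedVariables false
set_option linter.unusedSectionVars false
set_option linter.style.longLine false
set_option linter.unusedSimpArgs false
set_option linter.deprecated false
set_option linter.style.haveILetI false

/-! Elements of odd prime order `r ≠ p` of `PSL_n(q)` and subfield subgroups (part F):
simple modules of a semisimple operator as extension fields, rational bases, and centralizing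
elements of prescribed determinant. -/

namespace Cfsg.Agent.Lib.Helper2.Sfr

open Module Polynomial Cfsg.Agent.Lib.Helper2

universe u v

section Simple

variable {F : Type u} [Field F] {V : Type v} [AddCommGroup V] [Module F V] [FiniteDimensional F V]

theorem inv_ker_aeval (T : Module.End F V) (g : F[X]) :
    ∀ x ∈ LinearMap.ker (aeval T g), T x ∈ LinearMap.ker (aeval T g) := by
  intro x hx
  rw [LinearMap.mem_ker] at hx ⊢
  have hcomm : (aeval T g) * T = T * (aeval T g) := by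
    have h1 : (aeval T) (g * X) = (aeval T) (X * g) := by rw [mul_comm]
    rw [map_mul, map_mul, aeval_X] at h1
    exact h1
  have h2 := LinearMap.congr_fun hcomm x
  rw [Module.End.mul_apply, Module.End.mul_apply, hx, map_zero] at h2
  exact h2

theorem minpoly_irreducible_of_simple [Nontrivial V] (T : Module.End F V)
    (hsimple : ∀ X : Submodule F V, (∀ x ∈ X, T x ∈ X) → X = ⊥ ∨ X = ⊤) :
    Irreducible (minpoly F T) := by
  have hint : IsIntegral F T := Algebra.IsIntegral.isIntegral T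
  have hμ0 : minpoly F T ≠ 0 := minpoly.ne_zero hint
  rw [irreducible_iff]
  refine ⟨minpoly.not_isUnit F T, ?_⟩
  intro g h hgh
  have hprod : (aeval T g) * (aeval T h) = 0 := by
    rw [← map_mul, ← hgh, minpoly.aeval]
  rcases hsimple _ (inv_ker_aeval T g) with hK | hK
  · left
    have hh : aeval T h = 0 := by
      apply LinearMap.ext
      intro x
      have h1 := LinearMap.congr_fun hprod x
      rw [Module.End.mul_apply, LinearMap.zero_apply] at h1
      have h2 : (aeval T h) x ∈ LinearMap.ker (aeval T g) := LinearMap.mem_ker.mpr h1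
      rw [hK, Submodule.mem_bot] at h2
      rw [h2, LinearMap.zero_apply]
    obtain ⟨c, hc⟩ := minpoly.dvd F T hh
    have h3 : minpoly F T * 1 = minpoly F T * (g * c) := by
      calc minpoly F T * 1 = g * h := by rw [mul_one]; exact hgh
        _ = g * (minpoly F T * c) := by rw [← hc]
        _ = minpoly F T * (g * c) := by ring
    have h4 := mul_left_cancel₀ hμ0 h3
    exact isUnit_iff_exists_inv.mpr ⟨c, h4.symm⟩
  · right
    have hg : aeval T g = 0 := by
      apply LinearMap.ext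
      intro x
      have h2 : x ∈ LinearMap.ker (aeval T g) := by
        rw [hK]
        trivial
      rw [LinearMap.mem_ker.mp h2, LinearMap.zero_apply]
    obtain ⟨c, hc⟩ := minpoly.dvd F T hg
    have h3 : minpoly F T * 1 = minpoly F T * (h * c) := by
      calc minpoly F T * 1 = g * h := by rw [mul_one]; exact hgh
        _ = (minpoly F T * c) * h := by rw [← hc]
        _ = minpoly F T * (h * c) := by ring
    have h4 := mul_left_cancel₀ hμ0 h3
    exact isUnit_iff_exists_inv.mpr ⟨c, h4.symm⟩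

/-- a simple module of an operator is the extension field generated by a root of its minimal
polynomial -/
theorem simple_model [Nontrivial V] (T : Module.End F V)
    (hsimple : ∀ X : Submodule F V, (∀ x ∈ X, T x ∈ X) → X = ⊥ ∨ X = ⊤) :
    ∃ (μ : F[X]) (hirr : Irreducible μ), μ.Monic ∧ (∀ g : F[X], aeval T g = 0 → μ ∣ g) ∧
      aeval T μ = 0 ∧
      ∃ ψ : AdjoinRoot μ ≃ₗ[F] V, ∀ a, T (ψ a) = ψ (AdjoinRoot.root μ * a) := by
  have hint : IsIntegral F T := Algebra.IsIntegral.isIntegral T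
  obtain ⟨μ, hμ⟩ : ∃ μ : F[X], μ = minpoly F T := ⟨_, rfl⟩
  have hirr : Irreducible μ := by
    rw [hμ]
    exact minpoly_irreducible_of_simple T hsimple
  have haev : aeval T μ = 0 := by
    rw [hμ]
    exact minpoly.aeval F T
  haveI : Fact (Irreducible μ) := ⟨hirr⟩
  obtain ⟨lift, hlift⟩ : ∃ lift : AdjoinRoot μ →ₐ[F] Module.End F V,
      ∀ g : F[X], lift (AdjoinRoot.mk μ g) = aeval T g := by
    refine ⟨Ideal.Quotient.liftₐ (Ideal.span {μ}) (aeval T) (by
      intro a ha
      obtain ⟨b, rfl⟩ := Ideal.mem_span_singleton.mp ha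
      rw [map_mul, haev, zero_mul]), ?_⟩
    intro g
    rfl
  obtain ⟨v, hv⟩ := exists_ne (0 : V)
  obtain ⟨ψ₀, hψ₀⟩ : ∃ ψ₀ : AdjoinRoot μ →ₗ[F] V, ∀ a, ψ₀ a = lift a v :=
    ⟨(LinearMap.applyₗ v) ∘ₗ lift.toLinearMap, fun a => rfl⟩
  have hroot : lift (AdjoinRoot.root μ) = T := by
    rw [← AdjoinRoot.mk_X, hlift, aeval_X]
  have hT : ∀ a, T (ψ₀ a) = ψ₀ (AdjoinRoot.root μ * a) := by
    intro a
    rw [hψ₀, hψ₀, map_mul, Module.End.mul_apply, hroot]
  have hinj : Function.Injective ψ₀ := by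
    rw [← LinearMap.ker_eq_bot, LinearMap.ker_eq_bot']
    intro a ha
    by_contra ha0
    apply hv
    have h1 : lift (a⁻¹ * a) v = 0 := by
      rw [map_mul, Module.End.mul_apply, ← hψ₀ a, ha, map_zero]
    rw [inv_mul_cancel₀ ha0, map_one, Module.End.one_apply] at h1
    exact h1
  have hsurj : Function.Surjective ψ₀ := by
    rw [← LinearMap.range_eq_top]
    have hinv : ∀ x ∈ LinearMap.range ψ₀, T x ∈ LinearMap.range ψ₀ := by
      rintro _ ⟨a, rfl⟩
      exact ⟨AdjoinRoot.root μ * a, (hT a).symm⟩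
    rcases hsimple _ hinv with h | h
    · exfalso
      apply hv
      have h1 : ψ₀ 1 ∈ LinearMap.range ψ₀ := ⟨1, rfl⟩
      rw [h, Submodule.mem_bot, hψ₀, map_one, Module.End.one_apply] at h1
      exact h1
    · exact h
  refine ⟨μ, hirr, by rw [hμ]; exact minpoly.monic hint,
    fun g hg => by rw [hμ]; exact minpoly.dvd F T hg, haev,
    LinearEquiv.ofBijective ψ₀ ⟨hinj, hsurj⟩, fun a => ?_⟩
  exact hT a

theorem aeval_monic_expand {A : Type*} [Ring A] [Algebra F A] (μ : F[X]) (hμ : μ.Monic) (x : A) :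
    aeval x μ = x ^ μ.natDegree + ∑ i ∈ Finset.range μ.natDegree, μ.coeff i • x ^ i := by
  rw [aeval_eq_sum_range, Finset.sum_range_succ, hμ.coeff_natDegree, one_smul, add_comm]

/-- a rational basis of a simple module whose minimal polynomial is rational -/
theorem simple_rat [Nontrivial V] (F₀ : Subfield F) (T : Module.End F V)
    (hsimple : ∀ X : Submodule F V, (∀ x ∈ X, T x ∈ X) → X = ⊥ ∨ X = ⊤)
    (hrat : ∀ μ : F[X], μ.Monic → Irreducible μ → (∀ g : F[X], aeval T g = 0 → μ ∣ g) →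
      ∃ m₀ : F₀[X], m₀.map F₀.subtype = μ) :
    ∃ (ι : Type) (_ : Fintype ι) (b : Basis ι F V),
      ∀ j, ∃ c : ι → F₀, T (b j) = ∑ i, (c i : F) • b i := by
  classical
  obtain ⟨μ, hirr, hmonic, hmin, haev, ψ, hψ⟩ := simple_model T hsimple
  obtain ⟨m₀, hm₀⟩ := hrat μ hmonic hirr hmin
  have hμ0 : μ ≠ 0 := hmonic.ne_zero
  obtain ⟨pb, hpb⟩ : ∃ pb : PowerBasis F (AdjoinRoot μ), pb = AdjoinRoot.powerBasis hμ0 :=
    ⟨_, rfl⟩
  have hgen : pb.gen = AdjoinRoot.root μ := by
    rw [hpb]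
    exact AdjoinRoot.powerBasis_gen hμ0
  have hdim : pb.dim = μ.natDegree := by
    rw [hpb]
    exact AdjoinRoot.powerBasis_dim hμ0
  have hb : ∀ j : Fin pb.dim, (pb.basis.map ψ) j = ψ (AdjoinRoot.root μ ^ (j : ℕ)) := by
    intro j
    rw [Basis.map_apply, PowerBasis.basis_eq_pow, hgen]
  have hTb : ∀ j : Fin pb.dim, T ((pb.basis.map ψ) j) =
      ψ (AdjoinRoot.root μ ^ ((j : ℕ) + 1)) := by
    intro j
    rw [hb, hψ, pow_succ']
  have hcoef : ∀ i, μ.coeff i = ((m₀.coeff i : F₀) : F) := by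
    intro i
    rw [← hm₀, coeff_map]
    rfl
  have hrel : AdjoinRoot.root μ ^ pb.dim =
      ∑ i : Fin pb.dim, (((-(m₀.coeff (i : ℕ)) : F₀)) : F) • AdjoinRoot.root μ ^ (i : ℕ) := by
    have h1 : aeval (AdjoinRoot.root μ) μ = 0 := by
      rw [AdjoinRoot.aeval_eq, AdjoinRoot.mk_self]
    rw [aeval_monic_expand μ hmonic, ← hdim, Finset.sum_range] at h1
    rw [eq_neg_of_add_eq_zero_left h1, ← Finset.sum_neg_distrib]
    apply Finset.sum_congr rfl
    intro i _
    rw [hcoef, ← neg_smul]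
    rfl
  refine ⟨Fin pb.dim, inferInstance, pb.basis.map ψ, ?_⟩
  intro j
  by_cases hj : (j : ℕ) + 1 < pb.dim
  · refine ⟨fun i => if i = ⟨(j : ℕ) + 1, hj⟩ then 1 else 0, ?_⟩
    rw [hTb, Finset.sum_eq_single (⟨(j : ℕ) + 1, hj⟩ : Fin pb.dim)]
    · rw [hb]
      simp
    · intro i _ hi
      simp [hi]
    · intro h
      exact absurd (Finset.mem_univ _) h
  · have hj' : (j : ℕ) + 1 = pb.dim := by
      have := j.2
      omega
    refine ⟨fun i => -(m₀.coeff (i : ℕ)), ?_⟩
    rw [hTb, hj', hrel, map_sum]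
    apply Finset.sum_congr rfl
    intro i _
    rw [map_smul, hb]

end Simple

section Glue

variable {F : Type u} [Field F] {V : Type v} [AddCommGroup V] [Module F V] [FiniteDimensional F V]

theorem glue_basis {U W : Submodule F V} (hc : IsCompl U W) {ι₁ ι₂ : Type*}
    (b₁ : Basis ι₁ F U) (b₂ : Basis ι₂ F W) :
    ∃ b : Basis (ι₁ ⊕ ι₂) F V, (∀ j, b (Sum.inl j) = (b₁ j : V)) ∧
      (∀ j, b (Sum.inr j) = (b₂ j : V)) := by
  refine ⟨(b₁.prod b₂).map (Submodule.prodEquivOfIsCompl U W hc), ?_, ?_⟩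
  · intro j
    rw [Basis.map_apply, Submodule.coe_prodEquivOfIsCompl']
    simp
  · intro j
    rw [Basis.map_apply, Submodule.coe_prodEquivOfIsCompl']
    simp

theorem glue (F₀ : Subfield F) (T : Module.End F V) (U W : Submodule F V)
    (hU : ∀ x ∈ U, T x ∈ U) (hW : ∀ x ∈ W, T x ∈ W) (hc : IsCompl U W)
    {ι₁ ι₂ : Type} [Fintype ι₁] [Fintype ι₂] (b₁ : Basis ι₁ F U) (b₂ : Basis ι₂ F W)
    (h₁ : ∀ j, ∃ c : ι₁ → F₀, (T.restrict hU) (b₁ j) = ∑ i, (c i : F) • b₁ i)
    (h₂ : ∀ j, ∃ c : ι₂ → F₀, (T.restrict hW) (b₂ j) = ∑ i, (c i : F) • b₂ i) :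
    ∃ (ι : Type) (_ : Fintype ι) (b : Basis ι F V),
      ∀ j, ∃ c : ι → F₀, T (b j) = ∑ i, (c i : F) • b i := by
  classical
  obtain ⟨b, hbl, hbr⟩ := glue_basis hc b₁ b₂
  refine ⟨ι₁ ⊕ ι₂, inferInstance, b, ?_⟩
  rintro (j | j)
  · obtain ⟨c, hc'⟩ := h₁ j
    refine ⟨Sum.elim c (fun _ => 0), ?_⟩
    have h1 := congrArg (Subtype.val) hc'
    rw [LinearMap.restrict_coe_apply] at h1
    rw [Fintype.sum_sum_type, hbl, h1]
    simp only [Sum.elim_inl, Sum.elim_inr, hbl, hbr, Submodule.coe_sum, Submodule.coe_smul,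
      ZeroMemClass.coe_zero, zero_smul, Finset.sum_const_zero, add_zero]
  · obtain ⟨c, hc'⟩ := h₂ j
    refine ⟨Sum.elim (fun _ => 0) c, ?_⟩
    have h1 := congrArg (Subtype.val) hc'
    rw [LinearMap.restrict_coe_apply] at h1
    rw [Fintype.sum_sum_type, hbr, h1]
    simp only [Sum.elim_inl, Sum.elim_inr, hbl, hbr, Submodule.coe_sum, Submodule.coe_smul,
      ZeroMemClass.coe_zero, zero_smul, Finset.sum_const_zero, zero_add]

theorem simple_of_minimal (T : Module.End F V) (U : Submodule F V) (hU : ∀ x ∈ U, T x ∈ U)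
    (hUmin : ∀ X : Submodule F V, X ≤ U → (∀ x ∈ X, T x ∈ X) → X = ⊥ ∨ X = U) :
    ∀ X : Submodule F U, (∀ x ∈ X, (T.restrict hU) x ∈ X) → X = ⊥ ∨ X = ⊤ := by
  intro X hX
  have h1 : ∀ x ∈ X.map U.subtype, T x ∈ X.map U.subtype := by
    rintro _ ⟨x, hx, rfl⟩
    exact ⟨T.restrict hU x, hX x hx, rfl⟩
  rcases hUmin _ (Submodule.map_subtype_le U X) h1 with h2 | h2
  · left
    rw [eq_bot_iff]
    intro x hx
    have h3 : (x : V) ∈ X.map U.subtype := ⟨x, hx, rfl⟩
    rw [h2, Submodule.mem_bot] at h3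
    rw [Submodule.mem_bot]
    exact Subtype.ext h3
  · right
    rw [eq_top_iff]
    intro x _
    have h3 : (x : V) ∈ X.map U.subtype := by
      rw [h2]
      exact x.2
    obtain ⟨x', hx', hxx⟩ := h3
    have h4 : x' = x := Subtype.ext hxx
    rw [← h4]
    exact hx'

/-- a semisimple operator of order dividing `r` all of whose irreducible constituents are
rational has a rational basis -/
theorem exists_rat_basis (F₀ : Subfield F) (r : ℕ) (hrF : (r : F) ≠ 0)
    (hirr : ∀ m : F[X], m.Monic → Irreducible m → m ∣ X ^ r - 1 →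
      ∃ m₀ : F₀[X], m₀.map F₀.subtype = m) :
    ∀ (N : ℕ) (V : Type v) [AddCommGroup V] [Module F V] [FiniteDimensional F V]
      (T : Module.End F V), T ^ r = 1 → finrank F V = N →
      ∃ (ι : Type) (_ : Fintype ι) (b : Basis ι F V),
        ∀ j, ∃ c : ι → F₀, T (b j) = ∑ i, (c i : F) • b i := by
  intro N
  induction N using Nat.strong_induction_on with
  | _ N ih =>
    intro V _ _ _ T hT hfin
    rcases Nat.eq_zero_or_pos N with hN | hN
    · haveI : Subsingleton V := Module.finrank_zero_iff.mp (by rw [hfin, hN])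
      exact ⟨Empty, inferInstance, Basis.empty V, fun j => j.elim⟩
    · haveI : Nontrivial V := Module.nontrivial_of_finrank_pos (R := F) (by rw [hfin]; exact hN)
      have hss := Elus.isSemisimple_of_pow_eq_one T r hrF hT
      obtain ⟨U, -, hU0, hU, hUmin⟩ := Elus.exists_minimal_inv T N ⊤
        (by rw [finrank_top, hfin]) top_ne_bot (fun x _ => Submodule.mem_top)
      obtain ⟨W, hW, -, hdisj, hsup⟩ := Imp.exists_rel_compl hss (D := U) (W := ⊤) hU
        (fun x _ => Submodule.mem_top) le_top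
      have hUW : IsCompl U W := ⟨hdisj, codisjoint_iff.mpr hsup⟩
      have hU' : ∀ x ∈ U, T x ∈ U := hU
      have hW' : ∀ x ∈ W, T x ∈ W := hW
      have hT1 : T ^ r = (1 : F) • 1 := by rw [hT, one_smul]
      have hTU : (T.restrict hU') ^ r = 1 := by
        rw [Elus.restrict_pow_smul hT1 hU, one_smul]
      have hTW : (T.restrict hW') ^ r = 1 := by
        rw [Elus.restrict_pow_smul hT1 hW, one_smul]
      haveI : Nontrivial U := Submodule.nontrivial_iff_ne_bot.mpr hU0
      have hsimple := simple_of_minimal T U hU' hUmin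
      obtain ⟨ι₁, _, b₁, h₁⟩ := simple_rat F₀ (T.restrict hU') hsimple
        (fun μ hm hi hmin => hirr μ hm hi (hmin _ (by
          rw [map_sub, map_pow, aeval_X, map_one, hTU, sub_self])))
      have hfinW : finrank F W < N := by
        have h1 := Submodule.finrank_add_eq_of_isCompl hUW
        have h2 : 0 < finrank F U := Module.finrank_pos
        omega
      obtain ⟨ι₂, _, b₂, h₂⟩ := ih (finrank F W) hfinW W (T.restrict hW') hTW rfl
      exact glue F₀ T U W hU' hW' hUW b₁ b₂ h₁ h₂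

end Glue

section Cent

variable {F : Type u} [Field F] [Fintype F] {V : Type v} [AddCommGroup V] [Module F V]
  [FiniteDimensional F V]

/-- centralizing elements of every determinant for a semisimple operator over a finite field -/
theorem exists_cent_det [Nontrivial V] (T : Module.End F V) (hss : T.IsSemisimple) (δ : F) :
    ∃ h : Module.End F V, h * T = T * h ∧ LinearMap.det h = δ := by
  obtain ⟨U, -, hU0, hU, hUmin⟩ := Elus.exists_minimal_inv T (finrank F V) ⊤
    (finrank_top F V) top_ne_bot (fun x _ => Submodule.mem_top)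
  obtain ⟨W, hW, -, hdisj, hsup⟩ := Imp.exists_rel_compl hss (D := U) (W := ⊤) hU
    (fun x _ => Submodule.mem_top) le_top
  have hUW : IsCompl U W := ⟨hdisj, codisjoint_iff.mpr hsup⟩
  have hU' : ∀ x ∈ U, T x ∈ U := hU
  have hW' : ∀ x ∈ W, T x ∈ W := hW
  haveI : Nontrivial U := Submodule.nontrivial_iff_ne_bot.mpr hU0
  have hsimple := simple_of_minimal T U hU' hUmin
  obtain ⟨μ, hirr, hmonic, hmin, haev, ψ, hψ⟩ := simple_model (T.restrict hU') hsimple
  haveI : Fact (Irreducible μ) := ⟨hirr⟩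
  haveI : Module.Finite F (AdjoinRoot μ) := (AdjoinRoot.powerBasis hmonic.ne_zero).finite
  haveI : Finite (AdjoinRoot μ) := Module.finite_of_finite F
  obtain ⟨a, ha⟩ := FiniteField.norm_surjective F (AdjoinRoot μ) δ
  obtain ⟨hh, hhdef⟩ : ∃ hh : Module.End F U, hh = (ψ : AdjoinRoot μ →ₗ[F] U) ∘ₗ
      (Algebra.lmul F (AdjoinRoot μ) a) ∘ₗ (ψ.symm : U →ₗ[F] AdjoinRoot μ) := ⟨_, rfl⟩
  have hhψ : ∀ b, hh (ψ b) = ψ (a * b) := by
    intro b
    rw [hhdef]
    simp
  have hdet : LinearMap.det hh = δ := by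
    rw [hhdef, LinearMap.det_conj, ← Algebra.norm_apply, ha]
  have hcomm : hh * T.restrict hU' = T.restrict hU' * hh := by
    apply LinearMap.ext
    intro x
    obtain ⟨b, rfl⟩ := ψ.surjective x
    rw [Module.End.mul_apply, Module.End.mul_apply, hψ, hhψ, hhψ, hψ]
    congr 1
    ring
  obtain ⟨h, h1, h2⟩ := SpInv.exists_cent hUW T hU' hW' hh hcomm
  exact ⟨h, h1, by rw [h2, hdet]⟩

/-- conjugating into the subfield group from a rational basis -/
theorem conj_of_rat_basis {n : ℕ} (hn : 0 < n) (F₀ : Subfield F)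
    (x : Matrix.SpecialLinearGroup (Fin n) F) (c : F) (hc : c ≠ 0)
    (y' : Module.End F (Fin n → F))
    (hxy : Matrix.toLin' (x : Matrix (Fin n) (Fin n) F) = c • y') (hss : y'.IsSemisimple)
    (hb : ∃ (ι : Type) (_ : Fintype ι) (b : Basis ι F (Fin n → F)),
      ∀ j, ∃ c' : ι → F₀, y' (b j) = ∑ i, (c' i : F) • b i) :
    ∃ P : Matrix.SpecialLinearGroup (Fin n) F, P⁻¹ * x * P ∈
      (Cfsg.Geo.subfieldSubgroup F₀ 1).comap
      (Matrix.SpecialLinearGroup.toGL : Matrix.SpecialLinearGroup (Fin n) F →* GL (Fin n) F) := by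
  classical
  obtain ⟨ι, _, b, hb⟩ := hb
  haveI : NeZero n := ⟨hn.ne'⟩
  have hcard : Fintype.card ι = n := by
    rw [← Module.finrank_eq_card_basis b, Module.finrank_fin_fun]
  obtain ⟨e, -⟩ : ∃ e : ι ≃ Fin n, True := ⟨Fintype.equivFinOfCardEq hcard, trivial⟩
  obtain ⟨b', hb'⟩ : ∃ b' : Basis (Fin n) F (Fin n → F), b' = b.reindex e := ⟨_, rfl⟩
  have hrep : ∀ i j, b'.repr (y' (b' j)) i ∈ F₀ := by
    intro i j
    obtain ⟨c', hc'⟩ := hb (e.symm j)
    have h1 : y' (b' j) = ∑ i' : Fin n, ((c' (e.symm i') : F₀) : F) • b' i' := by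
      rw [hb', Basis.reindex_apply, hc', ← Equiv.sum_comp e.symm]
      apply Finset.sum_congr rfl
      intro i' _
      rw [Basis.reindex_apply]
    rw [h1, Basis.repr_sum_self]
    exact (c' (e.symm i)).2
  have hcent : ∀ δ : F, δ ≠ 0 → ∃ h : Module.End F (Fin n → F),
      h * Matrix.toLin' (x : Matrix (Fin n) (Fin n) F) =
        Matrix.toLin' (x : Matrix (Fin n) (Fin n) F) * h ∧ LinearMap.det h = δ := by
    intro δ _
    obtain ⟨h, h1, h2⟩ := exists_cent_det y' hss δ
    refine ⟨h, ?_, h2⟩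
    rw [hxy, mul_smul_comm, smul_mul_assoc, h1]
  obtain ⟨g, hg1, hg2⟩ := Subf.exists_conj_of_basis
    (Matrix.toLin' (x : Matrix (Fin n) (Fin n) F)) b' hcent
  apply Subf.conj_rat F₀ x g hg1 c hc
  intro i j
  rw [hg2, hxy, LinearMap.smul_apply, map_smul, Finsupp.smul_apply, smul_eq_mul, ← mul_assoc,
    inv_mul_cancel₀ hc, one_mul]
  exact hrep i j

end Cent

end Cfsg.Agent.Lib.Helper2.Sfr
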