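import Mathlib
import Cfsg.Agent.Lib.Helper2.SfrF
set_option autoImplicit false
set_option maxHeartbeats 1000000
set_option linter.unusedVariables false
set_option linter.unusedSectionVars false
set_option linter.style.longLine false
set_option linter.unusedSimpArgs false
set_option linter.deprecated false
set_option linter.style.haveILetI false

/-! Elements of odd prime order `r ≠ p` of `PSL_n(q)` and subfield subgroups (part G):
the case `r = k` of the degree of the extension. -/

namespace Cfsg.Agent.Lib.Helper2.Sfr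

open Module Polynomial Cfsg.Agent.Lib.Helper2

universe u v

section Hirr

variable {F : Type u} [Field F] [Fintype F]

/-- for an extension of prime degree `r`, the irreducible factors of `X ^ r - 1` are rational -/
theorem irr_rational (F₀ : Subfield F) {p : ℕ} [hp : Fact p.Prime] [CharP F p] (q₀ r : ℕ)
    [hr : Fact r.Prime] (hF₀ : Nat.card F₀ = q₀) (hq : Fintype.card F = q₀ ^ r)
    (m : F[X]) (hm : m.Monic) (hirr : Irreducible m) (hdvd : m ∣ (X ^ r - 1 : F[X])) :
    ∃ m₀ : F₀[X], m₀.map F₀.subtype = m := by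
  classical
  obtain ⟨f₀, hf₀⟩ := exists_exp (F := F) (p := p) q₀ r hr.out.pos hq
  obtain ⟨σ, hσ⟩ : ∃ σ : F →+* F, ∀ a, σ a = a ^ q₀ :=
    ⟨iterateFrobenius F p f₀, fun a => by rw [iterateFrobenius_def, hf₀]⟩
  haveI : Fact (Irreducible m) := ⟨hirr⟩
  haveI : CharP (AdjoinRoot m) p :=
    charP_of_injective_algebraMap (algebraMap F (AdjoinRoot m)).injective p
  obtain ⟨φ, hφ⟩ : ∃ φ : AdjoinRoot m →+* AdjoinRoot m, ∀ a, φ a = a ^ q₀ :=
    ⟨iterateFrobenius (AdjoinRoot m) p f₀, fun a => by rw [iterateFrobenius_def, hf₀]⟩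
  obtain ⟨f, -, hf⟩ := FiniteField.card F p
  obtain ⟨φq, hφq⟩ : ∃ φq : AdjoinRoot m →+* AdjoinRoot m, ∀ a, φq a = a ^ (Fintype.card F) :=
    ⟨iterateFrobenius (AdjoinRoot m) p f, fun a => by rw [iterateFrobenius_def, hf]⟩
  obtain ⟨β, hβ⟩ : ∃ β : AdjoinRoot m, β = AdjoinRoot.root m := ⟨_, rfl⟩
  have hβm : aeval β m = 0 := by
    rw [hβ, AdjoinRoot.aeval_eq, AdjoinRoot.mk_self]
  have hβr : β ^ r = 1 := by
    obtain ⟨c, hc⟩ := hdvd
    have h1 : aeval β (X ^ r - 1 : F[X]) = 0 := by rw [hc, map_mul, hβm, zero_mul]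
    rw [map_sub, map_pow, aeval_X, map_one, sub_eq_zero] at h1
    exact h1
  have hcomp1 : φ.comp (algebraMap F (AdjoinRoot m)) = (algebraMap F (AdjoinRoot m)).comp σ := by
    ext a
    rw [RingHom.comp_apply, RingHom.comp_apply, hφ, hσ, map_pow]
  have hcomp2 : φq.comp (algebraMap F (AdjoinRoot m)) = algebraMap F (AdjoinRoot m) := by
    ext a
    rw [RingHom.comp_apply, hφq, ← map_pow, FiniteField.pow_card]
  have h1 : aeval (β ^ Fintype.card F) m = 0 := by
    have h := congrArg φq hβm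
    rw [aeval_def, hom_eval₂, hcomp2, hφq, map_zero] at h
    exact h
  have h2 : aeval (β ^ q₀) (m.map σ) = 0 := by
    have h := congrArg φ hβm
    rw [aeval_def, hom_eval₂, hcomp1, hφ, map_zero, ← eval₂_map] at h
    exact h
  have hpow : β ^ Fintype.card F = β ^ q₀ := by
    rw [pow_eq_pow_mod _ hβr, pow_eq_pow_mod q₀ hβr]
    congr 1
    rw [hq]
    have h3 : ((q₀ ^ r : ℕ) : ZMod r) = ((q₀ : ℕ) : ZMod r) := by
      push_cast
      exact ZMod.pow_card _
    exact (ZMod.natCast_eq_natCast_iff' _ _ _).mp h3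
  rw [hpow] at h1
  have hmin := minpoly.eq_of_irreducible_of_monic hirr h1 hm
  have hdvd2 : m ∣ m.map σ := by
    have h := minpoly.dvd F _ h2
    rw [← hmin] at h
    exact h
  have heq : m.map σ = m :=
    Polynomial.eq_of_monic_of_dvd_of_natDegree_le hm (hm.map σ) hdvd2
      (by rw [hm.natDegree_map])
  have hmem : m ∈ Polynomial.lifts F₀.subtype := by
    rw [lifts_iff_coeff_lifts]
    intro i
    have h3 : (m.coeff i) ^ q₀ = m.coeff i := by
      have h4 := congrArg (fun g => coeff g i) heq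
      simp only [coeff_map, hσ] at h4
      exact h4
    exact ⟨⟨m.coeff i, (mem_iff_pow F₀ q₀ hF₀ _).mpr h3⟩, rfl⟩
  exact (mem_lifts m).mp hmem

end Hirr

section CaseA

variable {F : Type u} [Field F] [Fintype F]

theorem dvd_sub_one_of_pow (r q₀ : ℕ) [hr : Fact r.Prime] (hq₀ : 0 < q₀)
    (h : r ∣ q₀ ^ r - 1) : r ∣ q₀ - 1 := by
  have h1 := (ZMod.natCast_eq_zero_iff _ r).mpr h
  rw [Nat.cast_sub (Nat.one_le_pow _ _ hq₀)] at h1
  push_cast at h1
  rw [ZMod.pow_card, sub_eq_zero] at h1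
  rw [← ZMod.natCast_eq_zero_iff, Nat.cast_sub hq₀, Nat.cast_one, h1, sub_self]

/-- the case `r = k`: every element whose `r`-th power is a scalar is conjugate into the
subfield group -/
theorem good_of_eq (F₀ : Subfield F) {p : ℕ} [hp : Fact p.Prime] [CharP F p] (q₀ r n : ℕ)
    [hr : Fact r.Prime] (hn : 2 ≤ n) (hrp : r ≠ p) (hr2 : r ≠ 2)
    (hF₀ : Nat.card F₀ = q₀) (hq : Fintype.card F = q₀ ^ r)
    (hgapk : r ∣ q₀ - 1 → padicValNat r n ≤ padicValNat r (Fintype.card F - 1))
    (x : Matrix.SpecialLinearGroup (Fin n) F) (z : F)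
    (hx : ((x ^ r : Matrix.SpecialLinearGroup (Fin n) F) : Matrix (Fin n) (Fin n) F) =
      z • (1 : Matrix (Fin n) (Fin n) F)) :
    ∃ P : Matrix.SpecialLinearGroup (Fin n) F, P⁻¹ * x * P ∈
      (Cfsg.Geo.subfieldSubgroup F₀ 1).comap
      (Matrix.SpecialLinearGroup.toGL : Matrix.SpecialLinearGroup (Fin n) F →* GL (Fin n) F) := by
  classical
  have hrF : (r : F) ≠ 0 := natCast_ne_zero r hrp
  obtain ⟨y, hydef⟩ : ∃ y : Module.End F (Fin n → F),
      y = Matrix.toLin' (x : Matrix (Fin n) (Fin n) F) := ⟨_, rfl⟩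
  have hy : y ^ r = z • 1 := by
    rw [hydef]
    exact Elus.pow_of_SL x r z hx
  have hdety : LinearMap.det y = 1 := by
    rw [hydef, LinearMap.det_toLin']
    exact x.2
  have hfin : finrank F (Fin n → F) = n := Module.finrank_fin_fun F
  have hz0 : z ≠ 0 := by
    have h1 := congrArg LinearMap.det hy
    rw [map_pow, hdety, one_pow, LinearMap.det_smul, hfin, map_one, mul_one] at h1
    rintro rfl
    rw [zero_pow (by omega)] at h1
    exact one_ne_zero h1
  by_cases hz : ∃ c : F, c ^ r = z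
  · obtain ⟨c, hc⟩ := hz
    have hc0 : c ≠ 0 := by
      rintro rfl
      rw [zero_pow hr.out.ne_zero] at hc
      exact hz0 hc.symm
    obtain ⟨y', hy'def⟩ : ∃ y' : Module.End F (Fin n → F), y' = c⁻¹ • y := ⟨_, rfl⟩
    have hy' : y' ^ r = 1 := by
      rw [hy'def, _root_.smul_pow, hy, smul_smul, inv_pow, hc, inv_mul_cancel₀ hz0, one_smul]
    have hxy : Matrix.toLin' (x : Matrix (Fin n) (Fin n) F) = c • y' := by
      rw [hy'def, smul_smul, mul_inv_cancel₀ hc0, one_smul, hydef]
    have hss := Elus.isSemisimple_of_pow_eq_one y' r hrF hy'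
    have hb := exists_rat_basis F₀ r hrF
      (fun m hm hi hd => irr_rational F₀ q₀ r hF₀ hq m hm hi hd) n (Fin n → F) y' hy' hfin
    exact conj_of_rat_basis (by omega) F₀ x c hc0 y' hxy hss hb
  · exfalso
    push Not at hz
    have hq₀pos : 0 < q₀ := by
      rcases Nat.eq_zero_or_pos q₀ with h | h
      · rw [h, zero_pow hr.out.ne_zero] at hq
        have := Fintype.card_pos (α := F)
        omega
      · exact h
    have hrq : r ∣ Fintype.card F - 1 := by
      by_contra hrq
      obtain ⟨l, hl⟩ := Elus.exists_root r hrq z hz0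
      exact hz l hl
    have hrq₀ : r ∣ q₀ - 1 := by
      rw [hq] at hrq
      exact dvd_sub_one_of_pow r q₀ hq₀pos hrq
    have hle := hgapk hrq₀
    have htop : Elus.Inv y ⊤ := fun x _ => Submodule.mem_top
    obtain ⟨m, hm⟩ := Elus.dvd_finrank_of_inv y r z hy hz ⊤ htop
    rw [finrank_top, hfin] at hm
    have hdet := Elus.det_of_pow_eq_smul r z hz m (Fin n → F) y hy (by rw [hfin, hm])
    have hodd : Odd r := hr.out.eq_two_or_odd'.resolve_left hr2
    have heven : Even (r + 1) := by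
      obtain ⟨t, ht⟩ := hodd
      exact ⟨t + 1, by omega⟩
    rw [hdety, heven.neg_one_pow, one_mul] at hdet
    have hdv := Elus.pow_dvd_of_nonpow r z hz m hdet.symm
    have hn0 : n ≠ 0 := by omega
    have h5 : r ^ (padicValNat r (Fintype.card F - 1) + 1) ∣ n := by
      rw [hm, pow_succ, mul_comm]
      exact Nat.mul_dvd_mul_left r hdv
    have h6 := (padicValNat_dvd_iff_le hn0).mp h5
    omega

end CaseA

end Cfsg.Agent.Lib.Helper2.Sfr
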