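import Mathlib
import Cfsg.Agent.Lib.Helper2.SfrF
import Cfsg.Agent.Lib.Helper2.SfrD
set_option autoImplicit false
set_option maxHeartbeats 1000000
set_option linter.unusedVariables false
set_option linter.unusedSectionVars false
set_option linter.style.longLine false
set_option linter.unusedSimpArgs false
set_option linter.deprecated false
set_option linter.style.haveILetI false

/-! Elements of odd prime order `r ≠ p` of `PSL_n(q)` and subfield subgroups (part H):
diagonalization of operators of order `r` when `r` divides `q - 1`, and rational bases for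
operators whose eigenvalues are symmetric under inversion (quadratic extensions). -/

namespace Cfsg.Agent.Lib.Helper2.Sfr

open Module Polynomial Cfsg.Agent.Lib.Helper2

universe u v

section Eig

variable {F : Type u} [Field F]

theorem exists_eigvec {V : Type v} [AddCommGroup V] [Module F V] [FiniteDimensional F V]
    (ζ : F) (r : ℕ) [hr : Fact r.Prime] (hζ : orderOf ζ = r) [Nontrivial V]
    (T : Module.End F V) (hT : T ^ r = 1) :
    ∃ (c : ZMod r) (u : V), u ≠ 0 ∧ T u = pw ζ r c • u := by
  classical
  haveI : NeZero r := ⟨hr.out.ne_zero⟩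
  have hζr : ζ ^ r = 1 := by
    rw [← hζ]
    exact pow_orderOf_eq_one ζ
  have hprim : IsPrimitiveRoot ζ r := by
    rw [← hζ]
    exact IsPrimitiveRoot.orderOf ζ
  have hint : IsIntegral F T := Algebra.IsIntegral.isIntegral T
  have hμ0 : minpoly F T ≠ 0 := minpoly.ne_zero hint
  have hnu : ¬ IsUnit (minpoly F T) := minpoly.not_isUnit F T
  have hdvd : minpoly F T ∣ (X ^ r - 1 : F[X]) := minpoly.dvd F T (by
    rw [map_sub, map_pow, aeval_X, map_one, hT, sub_self])
  obtain ⟨g, hgirr, hgdvd⟩ := WfDvdMonoid.exists_irreducible_factor hnu hμ0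
  have h1 : g ∣ ∏ ζ' ∈ nthRootsFinset r (1 : F), (X - C ζ') := by
    rw [← X_pow_sub_one_eq_prod hr.out.pos hprim]
    exact hgdvd.trans hdvd
  obtain ⟨ζ', hζ'mem, hg'⟩ := (Prime.dvd_finset_prod_iff hgirr.prime _).mp h1
  obtain ⟨c, hc⟩ := hg'
  have hcu : IsUnit c :=
    ((irreducible_X_sub_C ζ').isUnit_or_isUnit hc).resolve_left hgirr.not_isUnit
  have h2 : (X - C ζ') ∣ g := (hcu.dvd_mul_right).mp (by rw [← hc])
  have hroot : (minpoly F T).IsRoot ζ' := dvd_iff_isRoot.mp (h2.trans hgdvd)
  obtain ⟨u, hu⟩ := (Module.End.hasEigenvalue_of_isRoot hroot).exists_hasEigenvector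
  have hζ'r : ζ' ^ r = 1 := (mem_nthRootsFinset hr.out.pos (1 : F)).mp hζ'mem
  obtain ⟨i, -, hiζ⟩ := hprim.eq_pow_of_pow_eq_one hζ'r
  refine ⟨(i : ZMod r), u, hu.2, ?_⟩
  rw [pw_natCast ζ r hζr, hiζ]
  exact hu.apply_eq_smul

/-- an operator of order dividing `r` is diagonalizable when the field contains the `r`-th roots
of unity -/
theorem exists_eigenbasis (ζ : F) (r : ℕ) [hr : Fact r.Prime] (hζ : orderOf ζ = r)
    (hrF : (r : F) ≠ 0) :
    ∀ (N : ℕ) (V : Type v) [AddCommGroup V] [Module F V] [FiniteDimensional F V]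
      (T : Module.End F V), T ^ r = 1 → finrank F V = N →
      ∃ (ι : Type) (_ : Fintype ι) (b : Basis ι F V) (e : ι → ZMod r),
        ∀ i, T (b i) = pw ζ r (e i) • b i := by
  intro N
  induction N using Nat.strong_induction_on with
  | _ N ih =>
    intro V _ _ _ T hT hfin
    rcases Nat.eq_zero_or_pos N with hN | hN
    · haveI : Subsingleton V := Module.finrank_zero_iff.mp (by rw [hfin, hN])
      exact ⟨Empty, inferInstance, Basis.empty V, fun j => j.elim, fun j => j.elim⟩
    · haveI : Nontrivial V := Module.nontrivial_of_finrank_pos (R := F) (by rw [hfin]; exact hN)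
      have hss := Elus.isSemisimple_of_pow_eq_one T r hrF hT
      obtain ⟨c₀, u, hu0, hTu⟩ := exists_eigvec ζ r hζ T hT
      obtain ⟨L, hLdef⟩ : ∃ L : Submodule F V, L = Submodule.span F {u} := ⟨_, rfl⟩
      have hLT : ∀ x ∈ L, T x = pw ζ r c₀ • x := by
        intro x hx
        rw [hLdef] at hx
        obtain ⟨s, rfl⟩ := Submodule.mem_span_singleton.mp hx
        rw [map_smul, hTu, smul_comm]
      have hL : ∀ x ∈ L, T x ∈ L := fun x hx => by
        rw [hLT x hx]
        exact L.smul_mem _ hx
      obtain ⟨W, hW, -, hdisj, hsup⟩ := Imp.exists_rel_compl hss (D := L) (W := ⊤) hL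
        (fun x _ => Submodule.mem_top) le_top
      have hLW : IsCompl L W := ⟨hdisj, codisjoint_iff.mpr hsup⟩
      have hW' : ∀ x ∈ W, T x ∈ W := hW
      have hT1 : T ^ r = (1 : F) • 1 := by rw [hT, one_smul]
      have hTW : (T.restrict hW') ^ r = 1 := by
        rw [Elus.restrict_pow_smul hT1 hW, one_smul]
      have hL0 : 0 < finrank F L := by
        rw [hLdef, finrank_span_singleton hu0]
        exact one_pos
      have hfinW : finrank F W < N := by
        have h1 := Submodule.finrank_add_eq_of_isCompl hLW
        omega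
      obtain ⟨ι₂, _, b₂, e₂, h₂⟩ := ih (finrank F W) hfinW W (T.restrict hW') hTW rfl
      obtain ⟨b₁, -⟩ : ∃ b₁ : Basis (Fin (finrank F L)) F L, True :=
        ⟨Module.finBasis F L, trivial⟩
      obtain ⟨b, hbl, hbr⟩ := glue_basis hLW b₁ b₂
      refine ⟨Fin (finrank F L) ⊕ ι₂, inferInstance, b, Sum.elim (fun _ => c₀) e₂, ?_⟩
      rintro (j | j)
      · rw [hbl, Sum.elim_inl]
        exact hLT _ (b₁ j).2
      · rw [hbr, Sum.elim_inr]
        have h1 := congrArg Subtype.val (h₂ j)
        rw [LinearMap.restrict_coe_apply] at h1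
        rw [h1]
        rfl

end Eig

section Pfin

variable {F : Type u} [Field F] {V : Type v} [AddCommGroup V] [Module F V]

/-- rational independent families spanned by pairs of eigenvectors with inverse eigenvalues -/
theorem pair_rat (F₀ : Subfield F) (ζ : F) (r : ℕ) [hr : Fact r.Prime] (hζ : orderOf ζ = r)
    (hr2 : r ≠ 2) (hτ : ∀ c : ZMod r, pw ζ r c + pw ζ r (-c) ∈ F₀)
    {ι : Type} [Fintype ι] [DecidableEq ι] (b : Basis ι F V) (e : ι → ZMod r)
    (T : Module.End F V) (hT : ∀ i, T (b i) = pw ζ r (e i) • b i) :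
    ∀ (N : ℕ) (S : Finset ι), S.card = N →
      (∀ c : ZMod r, (S.filter (fun i => e i = c)).card =
        (S.filter (fun i => e i = -c)).card) →
      ∃ (κ : Type) (_ : Fintype κ) (w : κ → V), LinearIndependent F w ∧
        Fintype.card κ = S.card ∧
        (∀ j, w j ∈ Submodule.span F (b '' (S : Set ι))) ∧
        ∀ j, ∃ c : κ → F₀, T (w j) = ∑ i, (c i : F) • w i := by
  classical
  haveI : NeZero r := ⟨hr.out.ne_zero⟩
  have hζr : ζ ^ r = 1 := by
    rw [← hζ]
    exact pow_orderOf_eq_one ζ
  have hneg : ∀ c : ZMod r, c ≠ 0 → -c ≠ c := by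
    intro c hc h
    have h1 : ((2 : ℕ) : ZMod r) * c = 0 := by
      push_cast
      linear_combination -h
    rcases mul_eq_zero.mp h1 with h2 | h2
    · have h3 := (ZMod.natCast_eq_zero_iff 2 r).mp h2
      have h4 := Nat.le_of_dvd (by norm_num) h3
      have h5 := hr.out.two_le
      omega
    · exact hc h2
  intro N
  induction N using Nat.strong_induction_on with
  | _ N ih =>
    intro S hcard hsym
    by_cases hall : ∀ i ∈ S, e i = 0
    · refine ⟨{i // i ∈ S}, inferInstance, fun j => b j.1, ?_, ?_, ?_, ?_⟩
      · exact b.linearIndependent.comp Subtype.val Subtype.val_injective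
      · exact Fintype.card_coe S
      · intro j
        exact Submodule.subset_span ⟨j.1, Finset.mem_coe.mpr j.2, rfl⟩
      · intro j
        refine ⟨fun i => if i = j then 1 else 0, ?_⟩
        rw [hT, hall j.1 j.2, pw_zero, one_smul, Finset.sum_eq_single j]
        · simp
        · intro i _ hi
          simp [hi]
        · intro h
          exact absurd (Finset.mem_univ _) h
    · push Not at hall
      obtain ⟨i₀, hi₀S, hi₀⟩ := hall
      have hcard1 : 0 < (S.filter (fun i => e i = -e i₀)).card := by
        rw [← hsym (e i₀)]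
        exact Finset.card_pos.mpr ⟨i₀, Finset.mem_filter.mpr ⟨hi₀S, rfl⟩⟩
      obtain ⟨i₁, hi₁⟩ := Finset.card_pos.mp hcard1
      obtain ⟨hi₁S, hi₁e⟩ := Finset.mem_filter.mp hi₁
      have hne : i₁ ≠ i₀ := by
        rintro rfl
        exact hneg (e i₁) hi₀ hi₁e.symm
      obtain ⟨S', hS'⟩ : ∃ S' : Finset ι, S' = (S.erase i₀).erase i₁ := ⟨_, rfl⟩
      have hi₁S' : i₁ ∈ S.erase i₀ := Finset.mem_erase.mpr ⟨hne, hi₁S⟩
      have hcardS : S.card = S'.card + 2 := by
        rw [hS', Finset.card_erase_of_mem hi₁S', Finset.card_erase_of_mem hi₀S]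
        have h1 : 0 < S.card := Finset.card_pos.mpr ⟨i₀, hi₀S⟩
        have h2 : 0 < (S.erase i₀).card := Finset.card_pos.mpr ⟨i₁, hi₁S'⟩
        rw [Finset.card_erase_of_mem hi₀S] at h2
        omega
      have hsplit : ∀ f : ι → ℕ, ∑ i ∈ S, f i = f i₀ + (f i₁ + ∑ i ∈ S', f i) := by
        intro f
        rw [hS', Finset.add_sum_erase _ f hi₁S', Finset.add_sum_erase _ f hi₀S]
      have hsym' : ∀ c : ZMod r, (S'.filter (fun i => e i = c)).card =
          (S'.filter (fun i => e i = -c)).card := by
        intro c
        have h1 := hsym c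
        rw [Finset.card_filter, Finset.card_filter, hsplit, hsplit, hi₁e] at h1
        rw [Finset.card_filter, Finset.card_filter]
        by_cases h2 : e i₀ = c
        · have h3 : ¬ (-e i₀ = c) := by
            rw [← h2]
            exact hneg (e i₀) hi₀
          have h4 : ¬ (e i₀ = -c) := by
            rw [← h2]
            exact fun h => hneg (e i₀) hi₀ h.symm
          have h5 : -e i₀ = -c := by rw [h2]
          rw [if_pos h2, if_neg h3, if_neg h4, if_pos h5] at h1
          omega
        · by_cases h3 : -e i₀ = c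
          · have h4 : e i₀ = -c := by rw [← h3, neg_neg]
            have h5 : ¬ (-e i₀ = -c) := fun h => h2 (neg_injective h)
            rw [if_neg h2, if_pos h3, if_pos h4, if_neg h5] at h1
            omega
          · have h4 : ¬ (e i₀ = -c) := by
              intro h
              apply h3
              rw [h, neg_neg]
            have h5 : ¬ (-e i₀ = -c) := fun h => h2 (neg_injective h)
            rw [if_neg h2, if_neg h3, if_neg h4, if_neg h5] at h1
            omega
      obtain ⟨κ', _, w', hli', hcard', hmem', hrat'⟩ := ih S'.card (by omega) S' rfl hsym'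
      obtain ⟨lam, hlam⟩ : ∃ lam : F, lam = pw ζ r (e i₀) := ⟨_, rfl⟩
      obtain ⟨lam', hlam'⟩ : ∃ lam' : F, lam' = pw ζ r (-e i₀) := ⟨_, rfl⟩
      have hll : lam * lam' = 1 := by
        rw [hlam, hlam', ← pw_add ζ r hζr, add_neg_cancel, pw_zero]
      have hlne : lam ≠ lam' := by
        rw [hlam, hlam']
        intro h
        exact hneg (e i₀) hi₀ (pw_injective ζ r hζ h).symm
      have hTb₀ : T (b i₀) = lam • b i₀ := by rw [hT, hlam]
      have hTb₁ : T (b i₁) = lam' • b i₁ := by rw [hT, hi₁e, hlam']
      obtain ⟨u, hu⟩ : ∃ u : V, u = b i₀ + b i₁ := ⟨_, rfl⟩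
      obtain ⟨u', hu'⟩ : ∃ u' : V, u' = lam • b i₀ + lam' • b i₁ := ⟨_, rfl⟩
      have hTu : T u = u' := by
        rw [hu, hu', map_add, hTb₀, hTb₁]
      have hTu' : T u' = (lam + lam') • u' - u := by
        have h1 : T u' = (lam + lam') • u' -
            ((lam * lam') • b i₀ + (lam * lam') • b i₁) := by
          rw [hu', map_add, map_smul, map_smul, hTb₀, hTb₁]
          simp only [smul_add, smul_smul, add_smul, add_mul]
          rw [mul_comm lam' lam]
          abel
        rw [h1, hll, one_smul, one_smul, hu]
      have hli2 : LinearIndependent F ![u, u'] := by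
        rw [LinearIndependent.pair_iff]
        intro s t hst
        have h0 : (s + t * lam) • b i₀ + (s + t * lam') • b i₁ = 0 := by
          rw [← hst, hu, hu']
          module
        have h1 := congrArg (fun v => b.repr v i₀) h0
        have h2 := congrArg (fun v => b.repr v i₁) h0
        simp only [map_add, map_smul, Basis.repr_self, Finsupp.coe_add, Finsupp.coe_smul,
          Pi.add_apply, Pi.smul_apply, Finsupp.single_apply, smul_eq_mul, map_zero,
          Finsupp.coe_zero, Pi.zero_apply, if_pos rfl, if_neg hne, if_neg hne.symm, mul_one,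
          mul_zero, add_zero, zero_add, if_true, ite_true, eq_self_iff_true] at h1 h2
        have h3 : t * (lam - lam') = 0 := by linear_combination h1 - h2
        have ht : t = 0 := (mul_eq_zero.mp h3).resolve_right (sub_ne_zero.mpr hlne)
        refine ⟨?_, ht⟩
        rw [ht, zero_mul, add_zero] at h1
        exact h1
      have hmem2 : ∀ x : Fin 2, ![u, u'] x ∈
          Submodule.span F (b '' ({i₀, i₁} : Set ι)) := by
        have hb₀ : b i₀ ∈ Submodule.span F (b '' ({i₀, i₁} : Set ι)) :=
          Submodule.subset_span ⟨i₀, by simp, rfl⟩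
        have hb₁ : b i₁ ∈ Submodule.span F (b '' ({i₀, i₁} : Set ι)) :=
          Submodule.subset_span ⟨i₁, by simp, rfl⟩
        intro x
        fin_cases x
        · show u ∈ _
          rw [hu]
          exact Submodule.add_mem _ hb₀ hb₁
        · show u' ∈ _
          rw [hu']
          exact Submodule.add_mem _ (Submodule.smul_mem _ _ hb₀) (Submodule.smul_mem _ _ hb₁)
      have hdisjS : Disjoint ({i₀, i₁} : Set ι) (S' : Set ι) := by
        rw [Set.disjoint_left]
        intro x hx hxS
        rw [hS', Finset.mem_coe] at hxS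
        rcases hx with rfl | hx
        · exact (Finset.mem_erase.mp (Finset.mem_erase.mp hxS).2).1 rfl
        · rw [Set.mem_singleton_iff] at hx
          exact (Finset.mem_erase.mp hxS).1 hx
      have hdisj : Disjoint (Submodule.span F (Set.range ![u, u']))
          (Submodule.span F (Set.range w')) := by
        have hD := b.linearIndependent.disjoint_span_image hdisjS
        refine hD.mono (Submodule.span_le.mpr ?_) (Submodule.span_le.mpr ?_)
        · rintro _ ⟨x, rfl⟩
          exact hmem2 x
        · rintro _ ⟨j, rfl⟩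
          exact hmem' j
      have hsub1 : ({i₀, i₁} : Set ι) ⊆ (S : Set ι) := by
        intro x hx
        rcases hx with rfl | hx
        · exact Finset.mem_coe.mpr hi₀S
        · rw [Set.mem_singleton_iff] at hx
          rw [hx]
          exact Finset.mem_coe.mpr hi₁S
      have hsub2 : (S' : Set ι) ⊆ (S : Set ι) := by
        intro x hx
        rw [hS', Finset.mem_coe] at hx
        exact Finset.mem_coe.mpr (Finset.mem_of_mem_erase (Finset.mem_of_mem_erase hx))
      refine ⟨Fin 2 ⊕ κ', inferInstance, Sum.elim ![u, u'] w',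
        LinearIndependent.sum_type hli2 hli' hdisj, ?_, ?_, ?_⟩
      · rw [Fintype.card_sum, Fintype.card_fin, hcard', hcardS]
        omega
      · rintro (x | j)
        · rw [Sum.elim_inl]
          exact Submodule.span_mono (Set.image_mono hsub1) (hmem2 x)
        · rw [Sum.elim_inr]
          exact Submodule.span_mono (Set.image_mono hsub2) (hmem' j)
      · rintro (x | j)
        · fin_cases x
          · refine ⟨fun i => if i = Sum.inl 1 then 1 else 0, ?_⟩
            show T u = _
            rw [hTu, Finset.sum_eq_single (Sum.inl 1 : Fin 2 ⊕ κ')]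
            · simp
            · intro i _ hi
              simp [hi]
            · intro h
              exact absurd (Finset.mem_univ _) h
          · refine ⟨Sum.elim ![-1, ⟨lam + lam', by rw [hlam, hlam']; exact hτ (e i₀)⟩]
              (fun _ => 0), ?_⟩
            show T u' = _
            rw [hTu', Fintype.sum_sum_type, Fin.sum_univ_two]
            simp only [Sum.elim_inl, Sum.elim_inr, Matrix.cons_val_zero, Matrix.cons_val_one,
              ZeroMemClass.coe_zero, zero_smul, Finset.sum_const_zero, add_zero]
            simp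
            module
        · obtain ⟨c', hc'⟩ := hrat' j
          refine ⟨Sum.elim (fun _ => 0) c', ?_⟩
          rw [Sum.elim_inr, hc', Fintype.sum_sum_type]
          simp

end Pfin

end Cfsg.Agent.Lib.Helper2.Sfr
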