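import Mathlib
import Cfsg.Agent.Lib.Helper2.SfrH
import Cfsg.Agent.Lib.Helper2.SfrG
set_option autoImplicit false
set_option maxHeartbeats 1000000
set_option linter.unusedVariables false
set_option linter.unusedSectionVars false
set_option linter.style.longLine false
set_option linter.unusedSimpArgs false
set_option linter.deprecated false
set_option linter.style.haveILetI false

/-! Elements of odd prime order `r ≠ p` of `PSL_n(q)` and subfield subgroups (part I):
the sporadic good case `k = 2`, `r = n ∈ {3, 5}`, `(q₀ + 1)_r = r`. -/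

namespace Cfsg.Agent.Lib.Helper2.Sfr

open Module Polynomial Cfsg.Agent.Lib.Helper2

universe u v

section Comb

theorem comb5 (c : ZMod 5 → ℕ) (hs : ∑ b, c b = 5) (hw : ∑ b, c b • b = 0)
    (hne : ∀ b, c b ≠ 5) :
    ∃ t' : ZMod 5, c (t' + 1) = c (t' - 1) ∧ c (t' + 2) = c (t' - 2) := by
  have hs' : c 0 + c 1 + c 2 + c 3 + c 4 = 5 := (Fin.sum_univ_five c).symm.trans hs
  have hw' : c 0 • (0 : ZMod 5) + c 1 • 1 + c 2 • 2 + c 3 • 3 + c 4 • 4 = 0 :=
    (Fin.sum_univ_five (fun b : ZMod 5 => c b • b)).symm.trans hw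
  have hcast : ((c 1 + 2 * c 2 + 3 * c 3 + 4 * c 4 : ℕ) : ZMod 5) = 0 := by
    push_cast
    simp only [nsmul_eq_mul, mul_zero, mul_one, zero_add] at hw'
    linear_combination hw'
  obtain ⟨j, hj⟩ := (ZMod.natCast_eq_zero_iff _ 5).mp hcast
  have h0 := hne 0
  have h1 := hne 1
  have h2 := hne 2
  have h3 := hne 3
  have h4 := hne 4
  have key : (c 1 = c 4 ∧ c 2 = c 3) ∨ (c 2 = c 0 ∧ c 3 = c 4) ∨ (c 3 = c 1 ∧ c 4 = c 0) ∨
      (c 4 = c 2 ∧ c 0 = c 1) ∨ (c 0 = c 3 ∧ c 1 = c 2) := by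
    generalize c 0 = c0 at *
    generalize c 1 = c1 at *
    generalize c 2 = c2 at *
    generalize c 3 = c3 at *
    generalize c 4 = c4 at *
    have b2 : c2 ≤ 4 := by omega
    have b3 : c3 ≤ 4 := by omega
    have b4 : c4 ≤ 4 := by omega
    interval_cases c4 <;> interval_cases c3 <;> interval_cases c2 <;> omega
  rcases key with h | h | h | h | h
  · exact ⟨0, h.1, h.2⟩
  · exact ⟨1, h.1, h.2⟩
  · exact ⟨2, h.1, h.2⟩
  · exact ⟨3, h.1, h.2⟩
  · exact ⟨4, h.1, h.2⟩

theorem comb3 (c : ZMod 3 → ℕ) (hs : ∑ b, c b = 3) (hw : ∑ b, c b • b = 0)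
    (hne : ∀ b, c b ≠ 3) :
    ∃ t' : ZMod 3, c (t' + 1) = c (t' - 1) := by
  have hs' : c 0 + c 1 + c 2 = 3 := (Fin.sum_univ_three c).symm.trans hs
  have hw' : c 0 • (0 : ZMod 3) + c 1 • 1 + c 2 • 2 = 0 :=
    (Fin.sum_univ_three (fun b : ZMod 3 => c b • b)).symm.trans hw
  have hcast : ((c 1 + 2 * c 2 : ℕ) : ZMod 3) = 0 := by
    push_cast
    simp only [nsmul_eq_mul, mul_zero, mul_one, zero_add] at hw'
    linear_combination hw'
  obtain ⟨j, hj⟩ := (ZMod.natCast_eq_zero_iff _ 3).mp hcast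
  have h0 := hne 0
  have h1 := hne 1
  have h2 := hne 2
  have key : c 1 = c 2 := by omega
  exact ⟨0, key⟩

theorem sym_of_two {r : ℕ} (c : ZMod r → ℕ) (t' : ZMod r) (S : Set (ZMod r))
    (hS : ∀ b : ZMod r, b = 0 ∨ b ∈ S ∨ -b ∈ S)
    (h : ∀ b ∈ S, c (t' + b) = c (t' - b)) : ∀ b, c (t' + b) = c (t' - b) := by
  intro b
  rcases hS b with rfl | hb | hb
  · rw [add_zero, sub_zero]
  · exact h b hb
  · have h1 := h (-b) hb
    rw [sub_neg_eq_add, ← sub_eq_add_neg] at h1
    exact h1.symm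

theorem exists_shift (r : ℕ) [NeZero r] (hr35 : r = 3 ∨ r = 5) (c : ZMod r → ℕ)
    (hs : ∑ b, c b = r) (hw : ∑ b, c b • b = 0) (hne : ∀ b, c b ≠ r) :
    ∃ t' : ZMod r, ∀ b, c (t' + b) = c (t' - b) := by
  rcases hr35 with rfl | rfl
  · obtain ⟨t', h1⟩ := comb3 c hs hw hne
    refine ⟨t', sym_of_two c t' ({1} : Set (ZMod 3)) (by decide) ?_⟩
    intro b hb
    rw [Set.mem_singleton_iff] at hb
    rw [hb]
    exact h1
  · obtain ⟨t', h1, h2⟩ := comb5 c hs hw hne
    refine ⟨t', sym_of_two c t' ({1, 2} : Set (ZMod 5)) (by decide) ?_⟩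
    intro b hb
    rcases hb with hb | hb
    · rw [hb]
      exact h1
    · rw [Set.mem_singleton_iff] at hb
      rw [hb]
      exact h2

theorem count_facts {ι : Type*} [Fintype ι] [DecidableEq ι] {r : ℕ} [NeZero r]
    (e : ι → ZMod r) :
    (∑ b : ZMod r, (Finset.univ.filter (fun i => e i = b)).card = Fintype.card ι) ∧
    (∑ b : ZMod r, (Finset.univ.filter (fun i => e i = b)).card • b = ∑ i, e i) := by
  constructor
  · rw [← Finset.card_univ (α := ι)]
    exact (Finset.card_eq_sum_card_fiberwise (fun x _ => Finset.mem_univ _)).symm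
  · rw [← Finset.sum_fiberwise Finset.univ e e]
    refine Finset.sum_congr rfl ?_
    intro b _
    rw [Finset.sum_congr rfl (fun i hi => (Finset.mem_filter.mp hi).2), Finset.sum_const]

end Comb

section Spor

variable {F : Type u} [Field F] [Fintype F]

theorem tau_mem (F₀ : Subfield F) {p : ℕ} [hp : Fact p.Prime] [CharP F p] (q₀ r : ℕ)
    [hr : Fact r.Prime] (hF₀ : Nat.card F₀ = q₀) (hq : Fintype.card F = q₀ ^ 2)
    (hrq : r ∣ q₀ + 1) (ζ : F) (hζr : ζ ^ r = 1) (c : ZMod r) :
    pw ζ r c + pw ζ r (-c) ∈ F₀ := by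
  haveI : NeZero r := ⟨hr.out.ne_zero⟩
  obtain ⟨f₀, hf₀⟩ := exists_exp (F := F) (p := p) q₀ 2 (by norm_num) hq
  rw [mem_iff_pow F₀ q₀ hF₀]
  have h1 : ∀ c : ZMod r, (pw ζ r c) ^ q₀ = pw ζ r (-c) := by
    intro c
    rw [← pw_nat_mul ζ r hζr]
    congr 1
    have h2 : ((q₀ + 1 : ℕ) : ZMod r) = 0 := (ZMod.natCast_eq_zero_iff _ _).mpr hrq
    push_cast at h2
    linear_combination c * h2
  have h3 : (pw ζ r c + pw ζ r (-c)) ^ q₀ = (pw ζ r c) ^ q₀ + (pw ζ r (-c)) ^ q₀ := by
    rw [hf₀]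
    exact add_pow_char_pow _ _ p f₀
  rw [h3, h1, h1, neg_neg, add_comm]

omit [Fintype F] in
theorem det_eig {V : Type v} [AddCommGroup V] [Module F V] (ζ : F) (r : ℕ) [NeZero r]
    (hζr : ζ ^ r = 1) {ι : Type*} [Fintype ι] [DecidableEq ι] (b : Basis ι F V)
    (e : ι → ZMod r) (T : Module.End F V) (hT : ∀ i, T (b i) = pw ζ r (e i) • b i) :
    LinearMap.det T = pw ζ r (∑ i, e i) := by
  have h1 : LinearMap.toMatrix b b T = Matrix.diagonal (fun i => pw ζ r (e i)) := by
    ext i j
    rw [LinearMap.toMatrix_apply, hT, map_smul, Basis.repr_self, Finsupp.smul_apply,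
      Finsupp.single_apply, Matrix.diagonal_apply]
    by_cases h : i = j
    · subst h
      simp
    · rw [if_neg h, if_neg (Ne.symm h)]
      simp
  rw [← LinearMap.det_toMatrix b, h1, Matrix.det_diagonal, pw_sum ζ r hζr]

theorem good_of_sporadic (F₀ : Subfield F) {p : ℕ} [hp : Fact p.Prime] [CharP F p] (q₀ r n : ℕ)
    [hr : Fact r.Prime] (hrp : r ≠ p) (hr2 : r ≠ 2) (hrn : r = n) (hn35 : n = 3 ∨ n = 5)
    (hF₀ : Nat.card F₀ = q₀) (hq : Fintype.card F = q₀ ^ 2)
    (hval : padicValNat r (q₀ + 1) = 1)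
    (x : Matrix.SpecialLinearGroup (Fin n) F) (z : F)
    (hx : ((x ^ r : Matrix.SpecialLinearGroup (Fin n) F) : Matrix (Fin n) (Fin n) F) =
      z • (1 : Matrix (Fin n) (Fin n) F))
    (hns : ∀ z' : F, (x : Matrix (Fin n) (Fin n) F) ≠ z' • (1 : Matrix (Fin n) (Fin n) F)) :
    ∃ P : Matrix.SpecialLinearGroup (Fin n) F, P⁻¹ * x * P ∈
      (Cfsg.Geo.subfieldSubgroup F₀ 1).comap
      (Matrix.SpecialLinearGroup.toGL : Matrix.SpecialLinearGroup (Fin n) F →* GL (Fin n) F) := by
  classical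
  subst hrn
  haveI : NeZero r := ⟨hr.out.ne_zero⟩
  have hrF : (r : F) ≠ 0 := natCast_ne_zero r hrp
  have hr3 : 3 ≤ r := by
    rcases hn35 with h | h <;> omega
  -- arithmetic
  have hrq1 : r ∣ q₀ + 1 := by
    have h1 : 1 ≤ padicValNat r (q₀ + 1) := by omega
    exact dvd_of_one_le_padicValNat h1
  have hq₀pos : 0 < q₀ := by
    rcases Nat.eq_zero_or_pos q₀ with h | h
    · rw [h, zero_pow (by norm_num)] at hq
      exact absurd hq Fintype.card_ne_zero
    · exact h
  have hrq₀ : ¬ r ∣ q₀ - 1 := by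
    intro h
    have h2 : r ∣ (q₀ + 1) - (q₀ - 1) := Nat.dvd_sub hrq1 h
    have h3 : (q₀ + 1) - (q₀ - 1) = 2 := by omega
    rw [h3] at h2
    have := Nat.le_of_dvd (by norm_num) h2
    omega
  have hfac : Fintype.card F - 1 = (q₀ - 1) * (q₀ + 1) := by
    rw [hq]
    obtain ⟨a, rfl⟩ : ∃ a, q₀ = a + 1 := ⟨q₀ - 1, by omega⟩
    simp only [Nat.add_sub_cancel]
    have : (a + 1) ^ 2 = a * (a + 1 + 1) + 1 := by ring
    rw [this, Nat.add_sub_cancel]
  have hrq : r ∣ Fintype.card F - 1 := by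
    rw [hfac]
    exact Dvd.dvd.mul_left hrq1 _
  obtain ⟨M, hM⟩ := hrq1
  have hrM : ¬ r ∣ M := by
    intro h
    obtain ⟨M', rfl⟩ := h
    have h1 : r ^ 2 ∣ q₀ + 1 := ⟨M', by rw [hM]; ring⟩
    have h2 := (padicValNat_dvd_iff_le (by omega : q₀ + 1 ≠ 0)).mp h1
    omega
  have hrM' : ¬ r ∣ (q₀ - 1) * M := by
    intro h
    rcases (Nat.Prime.dvd_mul hr.out).mp h with h | h
    · exact hrq₀ h
    · exact hrM h
  have hfac' : Fintype.card F - 1 = r * ((q₀ - 1) * M) := by
    rw [hfac, hM]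
    ring
  obtain ⟨ζ, hζ⟩ := exists_elt_of_order (F := F) r hrq
  have hζr : ζ ^ r = 1 := by
    rw [← hζ]
    exact pow_orderOf_eq_one ζ
  have hτ : ∀ c : ZMod r, pw ζ r c + pw ζ r (-c) ∈ F₀ :=
    fun c => tau_mem F₀ q₀ r hF₀ hq ⟨M, hM⟩ ζ hζr c
  obtain ⟨y, hydef⟩ : ∃ y : Module.End F (Fin r → F),
      y = Matrix.toLin' (x : Matrix (Fin r) (Fin r) F) := ⟨_, rfl⟩
  have hy : y ^ r = z • 1 := by
    rw [hydef]
    exact Elus.pow_of_SL x r z hx
  have hdety : LinearMap.det y = 1 := by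
    rw [hydef, LinearMap.det_toLin']
    exact x.2
  have hfin : finrank F (Fin r → F) = r := Module.finrank_fin_fun F
  have hzr : z ^ r = 1 := by
    have h1 := congrArg LinearMap.det hy
    rw [map_pow, hdety, one_pow, LinearMap.det_smul, hfin, map_one, mul_one] at h1
    exact h1.symm
  have hz0 : z ≠ 0 := by
    rintro rfl
    rw [zero_pow hr.out.ne_zero] at hzr
    exact zero_ne_one hzr
  by_cases hz : ∃ c : F, c ^ r = z
  · obtain ⟨c, hc⟩ := hz
    have hc0 : c ≠ 0 := by
      rintro rfl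
      rw [zero_pow hr.out.ne_zero] at hc
      exact hz0 hc.symm
    obtain ⟨y', hy'def⟩ : ∃ y' : Module.End F (Fin r → F), y' = c⁻¹ • y := ⟨_, rfl⟩
    have hy' : y' ^ r = 1 := by
      rw [hy'def, _root_.smul_pow, hy, smul_smul, inv_pow, hc, inv_mul_cancel₀ hz0, one_smul]
    have hxy : Matrix.toLin' (x : Matrix (Fin r) (Fin r) F) = c • y' := by
      rw [hy'def, smul_smul, mul_inv_cancel₀ hc0, one_smul, hydef]
    -- det y' = 1
    have hdety' : LinearMap.det y' = 1 := by
      have h1 : LinearMap.det y' = (c⁻¹) ^ r := by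
        rw [hy'def, LinearMap.det_smul, hfin, hdety, mul_one]
      have h2 : (LinearMap.det y') ^ r = 1 := by
        rw [h1, inv_pow, hc, inv_pow, hzr, inv_one]
      have h3 : (LinearMap.det y') ^ ((q₀ - 1) * M) = 1 := by
        rw [h1, ← pow_mul, ← hfac']
        exact FiniteField.pow_card_sub_one_eq_one _ (inv_ne_zero hc0)
      have h4 := orderOf_dvd_of_pow_eq_one h2
      have h5 := orderOf_dvd_of_pow_eq_one h3
      have h6 : orderOf (LinearMap.det y') ∣ Nat.gcd r ((q₀ - 1) * M) := Nat.dvd_gcd h4 h5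
      rw [(Nat.Prime.coprime_iff_not_dvd hr.out).mpr hrM'] at h6
      exact orderOf_eq_one_iff.mp (Nat.dvd_one.mp h6)
    obtain ⟨ι, _, b, e, he⟩ := exists_eigenbasis ζ r hζ hrF r (Fin r → F) y' hy' hfin
    have hcardι : Fintype.card ι = r := by
      rw [← Module.finrank_eq_card_basis b, hfin]
    have hsum : ∑ i, e i = 0 := by
      have h1 := det_eig ζ r hζr b e y' he
      rw [hdety', ← pw_zero ζ r] at h1
      exact (pw_injective ζ r hζ h1).symm
    obtain ⟨cnt, hcnt⟩ : ∃ cnt : ZMod r → ℕ,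
        cnt = fun b' => (Finset.univ.filter (fun i => e i = b')).card := ⟨_, rfl⟩
    have hcs : ∑ b', cnt b' = r := by
      rw [hcnt, (count_facts e).1, hcardι]
    have hcw : ∑ b', cnt b' • b' = 0 := by
      rw [hcnt, (count_facts e).2, hsum]
    have hcne : ∀ b', cnt b' ≠ r := by
      intro b' hb'
      have hb'' : (Finset.univ.filter (fun i => e i = b')).card = r := by
        rw [hcnt] at hb'
        exact hb'
      have h1 : Finset.univ.filter (fun i => e i = b') = Finset.univ := by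
        apply Finset.eq_univ_of_card
        rw [hb'', hcardι]
      have h2 : ∀ i, e i = b' := by
        intro i
        have h3 : i ∈ Finset.univ.filter (fun i => e i = b') := by
          rw [h1]
          exact Finset.mem_univ i
        exact (Finset.mem_filter.mp h3).2
      have h4 : y' = pw ζ r b' • 1 := by
        apply b.ext
        intro i
        rw [he, h2, LinearMap.smul_apply, Module.End.one_apply]
      apply hns (c * pw ζ r b')
      have h5 : Matrix.toLin' (x : Matrix (Fin r) (Fin r) F) =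
          Matrix.toLin' ((c * pw ζ r b') • (1 : Matrix (Fin r) (Fin r) F)) := by
        rw [hxy, h4, smul_smul, Elus.toLin'_smul_one]
      exact Matrix.toLin'.injective h5
    obtain ⟨t', ht'⟩ := exists_shift r hn35 cnt hcs hcw hcne
    obtain ⟨y'', hy''def⟩ : ∃ y'' : Module.End F (Fin r → F), y'' = pw ζ r (-t') • y' :=
      ⟨_, rfl⟩
    have hy'' : y'' ^ r = 1 := by
      rw [hy''def, _root_.smul_pow, hy', pw_pow ζ r hζr, one_smul]
    have he'' : ∀ i, y'' (b i) = pw ζ r (e i - t') • b i := by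
      intro i
      rw [hy''def, LinearMap.smul_apply, he, smul_smul, ← pw_add ζ r hζr, neg_add_eq_sub]
    have hsym : ∀ c' : ZMod r,
        ((Finset.univ : Finset ι).filter (fun i => e i - t' = c')).card =
        ((Finset.univ : Finset ι).filter (fun i => e i - t' = -c')).card := by
      intro c'
      have h1 := ht' c'
      rw [hcnt] at h1
      have h2 : (Finset.univ : Finset ι).filter (fun i => e i - t' = c') =
          Finset.univ.filter (fun i => e i = t' + c') := by
        ext i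
        simp only [Finset.mem_filter, Finset.mem_univ, true_and]
        constructor
        · intro h
          rw [← h]
          ring
        · intro h
          rw [h]
          ring
      have h3 : (Finset.univ : Finset ι).filter (fun i => e i - t' = -c') =
          Finset.univ.filter (fun i => e i = t' - c') := by
        ext i
        simp only [Finset.mem_filter, Finset.mem_univ, true_and]
        constructor
        · intro h
          have : e i = (e i - t') + t' := by ring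
          rw [this, h]
          ring
        · intro h
          rw [h]
          ring
      rw [h2, h3]
      exact h1
    obtain ⟨κ, _, w, hli, hcardκ, -, hrat⟩ := pair_rat F₀ ζ r hζ hr2 hτ b (fun i => e i - t')
      y'' he'' (Finset.univ : Finset ι).card Finset.univ rfl hsym
    have hcardκ' : Fintype.card κ = finrank F (Fin r → F) := by
      rw [hcardκ, Finset.card_univ, hcardι, hfin]
    have hss := Elus.isSemisimple_of_pow_eq_one y'' r hrF hy''
    have hxy'' : Matrix.toLin' (x : Matrix (Fin r) (Fin r) F) = (c * pw ζ r t') • y'' := by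
      rw [hxy, hy''def, smul_smul, mul_assoc, ← pw_add ζ r hζr, add_neg_cancel, pw_zero, mul_one]
    have hcne0 : c * pw ζ r t' ≠ 0 := mul_ne_zero hc0 (pw_ne_zero ζ r hζr t')
    haveI : Nonempty κ := Fintype.card_pos_iff.mp (by rw [hcardκ', hfin]; omega)
    refine conj_of_rat_basis (by omega) F₀ x (c * pw ζ r t') hcne0 y'' hxy'' hss
      ⟨κ, inferInstance, basisOfLinearIndependentOfCardEqFinrank hli hcardκ', ?_⟩
    intro j
    obtain ⟨c', hc'⟩ := hrat j
    refine ⟨c', ?_⟩
    simp only [coe_basisOfLinearIndependentOfCardEqFinrank]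
    exact hc'
  · exfalso
    push Not at hz
    have htop : Elus.Inv y ⊤ := fun x _ => Submodule.mem_top
    have hdet := Elus.det_of_pow_eq_smul r z hz 1 (Fin r → F) y hy (by rw [hfin, mul_one])
    have hodd : Odd r := hr.out.eq_two_or_odd'.resolve_left hr2
    have heven : Even (r + 1) := by
      obtain ⟨t, ht⟩ := hodd
      exact ⟨t + 1, by omega⟩
    rw [hdety, heven.neg_one_pow, one_mul, pow_one] at hdet
    apply hz 1
    rw [one_pow, hdet]

end Spor

end Cfsg.Agent.Lib.Helper2.Sfr
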