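import Mathlib

/-!
# Points and hyperplanes of `ℙ(Fⁿ)` (helper2, for S2531)

Hyperplanes are indexed by "dual points" `k : ℙ F (Fin n → F)`; the incidence relation is
`Inc p k : p.rep ⬝ᵥ k.rep = 0`.
-/

set_option autoImplicit false

namespace Cfsg.Agent.Lib.Helper2.Sht

open scoped LinearAlgebra.Projectivization

variable {F : Type*} [Field F] {n : ℕ}

/-- the functional `v ↦ v ⬝ᵥ w`. -/
def dotL (w : Fin n → F) : (Fin n → F) →ₗ[F] F where
  toFun v := dotProduct v w
  map_add' v v' := add_dotProduct v v' w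
  map_smul' c v := by simp [smul_dotProduct]

@[simp] lemma dotL_apply (w v : Fin n → F) : dotL w v = dotProduct v w := rfl

lemma exists_ne_zero_coord {w : Fin n → F} (hw : w ≠ 0) : ∃ i, w i ≠ 0 := by
  by_contra hcon
  push Not at hcon
  exact hw (funext hcon)

lemma dotL_surjective {w : Fin n → F} (hw : w ≠ 0) : Function.Surjective (dotL w) := by
  obtain ⟨i, hi⟩ := exists_ne_zero_coord hw
  intro x
  refine ⟨Pi.single i (x / w i), ?_⟩
  rw [dotL_apply, single_dotProduct]
  field_simp

lemma exists_dot_zero_ne {w w' : Fin n → F} (hw : w ≠ 0) (h : ∀ c : F, w' ≠ c • w) :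
    ∃ v, dotProduct v w = 0 ∧ dotProduct v w' ≠ 0 := by
  obtain ⟨i, hi⟩ := exists_ne_zero_coord hw
  by_contra hcon
  push Not at hcon
  apply h (w' i / w i)
  funext j
  have h1 := hcon (Pi.single j (w i) - Pi.single i (w j))
    (by rw [sub_dotProduct, single_dotProduct, single_dotProduct]; ring)
  rw [sub_dotProduct, single_dotProduct, single_dotProduct] at h1
  rw [Pi.smul_apply, smul_eq_mul]
  field_simp
  linear_combination h1

lemma dotL_prod_surjective {w w' : Fin n → F} (hw : w ≠ 0) (hw' : w' ≠ 0)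
    (h : ∀ c : F, w' ≠ c • w) (h' : ∀ c : F, w ≠ c • w') :
    Function.Surjective ((dotL w).prod (dotL w')) := by
  obtain ⟨v, hv0, hv1⟩ := exists_dot_zero_ne hw h
  obtain ⟨v', hv0', hv1'⟩ := exists_dot_zero_ne hw' h'
  rintro ⟨x, y⟩
  refine ⟨(x / dotProduct v' w) • v' + (y / dotProduct v w') • v, ?_⟩
  refine Prod.ext ?_ ?_
  · show dotProduct ((x / dotProduct v' w) • v' + (y / dotProduct v w') • v) w = x
    rw [add_dotProduct, smul_dotProduct, smul_dotProduct, hv0]
    simp only [smul_eq_mul, mul_zero, add_zero]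
    field_simp
  · show dotProduct ((x / dotProduct v' w) • v' + (y / dotProduct v w') • v) w' = y
    rw [add_dotProduct, smul_dotProduct, smul_dotProduct, hv0']
    simp only [smul_eq_mul, mul_zero, zero_add]
    field_simp

lemma finrank_ker_dotL {w : Fin n → F} (hw : w ≠ 0) :
    Module.finrank F (LinearMap.ker (dotL w)) + 1 = n := by
  have h1 := LinearMap.finrank_range_add_finrank_ker (dotL w)
  rw [LinearMap.range_eq_top.mpr (dotL_surjective hw), finrank_top, Module.finrank_self,
    Module.finrank_fin_fun] at h1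
  omega

lemma finrank_ker_dotL_inf {w w' : Fin n → F} (hw : w ≠ 0) (hw' : w' ≠ 0)
    (h : ∀ c : F, w' ≠ c • w) (h' : ∀ c : F, w ≠ c • w') :
    Module.finrank F (LinearMap.ker (dotL w) ⊓ LinearMap.ker (dotL w') :
      Submodule F (Fin n → F)) + 2 = n := by
  have h1 := LinearMap.finrank_range_add_finrank_ker ((dotL w).prod (dotL w'))
  rw [LinearMap.range_eq_top.mpr (dotL_prod_surjective hw hw' h h'), finrank_top,
    Module.finrank_prod, Module.finrank_self, Module.finrank_fin_fun, LinearMap.ker_prod] at h1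
  omega

/-- Incidence of a point `p` with the hyperplane dual to `k`. -/
def Inc (p k : ℙ F (Fin n → F)) : Prop := dotProduct p.rep k.rep = 0

lemma inc_mk_left {v : Fin n → F} (hv : v ≠ 0) (k : ℙ F (Fin n → F)) :
    Inc (Projectivization.mk F v hv) k ↔ dotProduct v k.rep = 0 := by
  obtain ⟨a, ha⟩ := Projectivization.exists_smul_eq_mk_rep F v hv
  unfold Inc
  rw [← ha, Units.smul_def, smul_dotProduct, smul_eq_mul]
  constructor
  · intro h0
    rcases mul_eq_zero.mp h0 with h1 | h1
    · exact absurd h1 a.ne_zero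
    · exact h1
  · intro h0
    rw [h0, mul_zero]

lemma inc_mk_right (p : ℙ F (Fin n → F)) {w : Fin n → F} (hw : w ≠ 0) :
    Inc p (Projectivization.mk F w hw) ↔ dotProduct p.rep w = 0 := by
  obtain ⟨a, ha⟩ := Projectivization.exists_smul_eq_mk_rep F w hw
  unfold Inc
  rw [← ha, Units.smul_def, dotProduct_smul, smul_eq_mul]
  constructor
  · intro h0
    rcases mul_eq_zero.mp h0 with h1 | h1
    · exact absurd h1 a.ne_zero
    · exact h1
  · intro h0
    rw [h0, mul_zero]

lemma inc_mk_mk {v w : Fin n → F} (hv : v ≠ 0) (hw : w ≠ 0) :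
    Inc (Projectivization.mk F v hv) (Projectivization.mk F w hw) ↔ dotProduct v w = 0 := by
  obtain ⟨a, ha⟩ := Projectivization.exists_smul_eq_mk_rep F w hw
  rw [inc_mk_left, ← ha, Units.smul_def, dotProduct_smul, smul_eq_mul]
  constructor
  · intro h0
    rcases mul_eq_zero.mp h0 with h1 | h1
    · exact absurd h1 a.ne_zero
    · exact h1
  · intro h0
    rw [h0, mul_zero]

lemma inc_iff_mem_ker (p k : ℙ F (Fin n → F)) :
    Inc p k ↔ p.rep ∈ LinearMap.ker (dotL k.rep) := by
  rw [LinearMap.mem_ker, dotL_apply]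
  rfl

/-- The points of `ℙ(V)` lying in a subspace `W` correspond to the points of `ℙ(W)`. -/
lemma card_points_in (W : Submodule F (Fin n → F)) :
    Nat.card {p : ℙ F (Fin n → F) // p.rep ∈ W} * (Nat.card F - 1) = Nat.card W - 1 := by
  rw [Projectivization.card F W]
  congr 1
  symm
  refine Nat.card_congr (Equiv.ofBijective
    (fun x => ⟨Projectivization.map W.subtype W.injective_subtype x, ?_⟩) ⟨?_, ?_⟩)
  · induction x using Projectivization.ind with
    | h u hu =>
      rw [Projectivization.map_mk]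
      obtain ⟨a, ha⟩ := Projectivization.exists_smul_eq_mk_rep F (W.subtype u)
        (by simpa using hu)
      rw [← ha]
      exact W.smul_mem _ u.2
  · intro x y hxy
    have := congrArg Subtype.val hxy
    exact Projectivization.map_injective W.subtype W.injective_subtype this
  · rintro ⟨p, hp⟩
    refine ⟨Projectivization.mk F ⟨p.rep, hp⟩ ?_, ?_⟩
    · intro h0
      exact p.rep_nonzero (congrArg Subtype.val h0)
    · apply Subtype.ext
      simp only
      rw [Projectivization.map_mk]
      exact p.mk_rep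

lemma rep_not_smul {h k : ℙ F (Fin n → F)} (hne : h ≠ k) (c : F) : k.rep ≠ c • h.rep := by
  intro heq
  apply hne
  have hc : c ≠ 0 := by
    rintro rfl
    rw [zero_smul] at heq
    exact k.rep_nonzero heq
  rw [← h.mk_rep, ← k.mk_rep, Projectivization.mk_eq_mk_iff]
  refine ⟨(Units.mk0 c hc)⁻¹, ?_⟩
  rw [heq, Units.smul_def, smul_smul]
  simp [hc]

variable [Finite F]

lemma card_inc (k : ℙ F (Fin n → F)) :
    Nat.card {p : ℙ F (Fin n → F) // Inc p k} * (Nat.card F - 1) + 1 = Nat.card F ^ (n - 1) := by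
  have h1 := card_points_in (LinearMap.ker (dotL k.rep))
  have h2 := finrank_ker_dotL k.rep_nonzero
  have h3 : Nat.card (LinearMap.ker (dotL k.rep)) = Nat.card F ^ (n - 1) := by
    rw [Module.natCard_eq_pow_finrank (K := F)]
    congr 1
    omega
  have h4 : Nat.card {p : ℙ F (Fin n → F) // Inc p k}
      = Nat.card {p : ℙ F (Fin n → F) // p.rep ∈ LinearMap.ker (dotL k.rep)} :=
    Nat.card_congr (Equiv.subtypeEquivRight (fun p => inc_iff_mem_ker p k))
  rw [h4, h1, h3]
  have : 0 < Nat.card F ^ (n - 1) := pow_pos Nat.card_pos _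
  omega

lemma card_inc2 {h k : ℙ F (Fin n → F)} (hne : h ≠ k) :
    Nat.card {p : ℙ F (Fin n → F) // Inc p h ∧ Inc p k} * (Nat.card F - 1) + 1
      = Nat.card F ^ (n - 2) := by
  have h1 := card_points_in (LinearMap.ker (dotL h.rep) ⊓ LinearMap.ker (dotL k.rep))
  have h2 := finrank_ker_dotL_inf h.rep_nonzero k.rep_nonzero (rep_not_smul hne)
    (rep_not_smul hne.symm)
  have h3 : Nat.card (LinearMap.ker (dotL h.rep) ⊓ LinearMap.ker (dotL k.rep) :
      Submodule F (Fin n → F)) = Nat.card F ^ (n - 2) := by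
    rw [Module.natCard_eq_pow_finrank (K := F)]
    congr 1
    omega
  have h4 : Nat.card {p : ℙ F (Fin n → F) // Inc p h ∧ Inc p k}
      = Nat.card {p : ℙ F (Fin n → F) //
          p.rep ∈ LinearMap.ker (dotL h.rep) ⊓ LinearMap.ker (dotL k.rep)} :=
    Nat.card_congr (Equiv.subtypeEquivRight (fun p => by
      rw [Submodule.mem_inf, inc_iff_mem_ker, inc_iff_mem_ker]))
  rw [h4, h1, h3]
  have : 0 < Nat.card F ^ (n - 2) := pow_pos Nat.card_pos _
  omega

lemma card_all :
    Nat.card (ℙ F (Fin n → F)) * (Nat.card F - 1) + 1 = Nat.card F ^ n := by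
  have h1 := Projectivization.card F (Fin n → F)
  have h2 : Nat.card (Fin n → F) = Nat.card F ^ n := by
    rw [Nat.card_fun, Nat.card_fin]
  rw [← h1, h2]
  have : 0 < Nat.card F ^ n := pow_pos Nat.card_pos _
  omega

/-- The dual of a bijective semilinear map. -/
lemma exists_dual_vec (σ : F ≃+* F)
    (f : (Fin n → F) →ₛₗ[(σ : F →+* F)] (Fin n → F)) (hf : Function.Injective f)
    (w : Fin n → F) (hw : w ≠ 0) :
    ∃ w' : Fin n → F, w' ≠ 0 ∧ ∀ v, dotProduct (f v) w' = σ (dotProduct v w) := by
  classical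
  have hbij : Function.Bijective f := ⟨hf, Finite.surjective_of_injective hf⟩
  let e := Equiv.ofBijective f hbij
  have he : ∀ v, e v = f v := fun _ => rfl
  have hadd : ∀ u u', e.symm (u + u') = e.symm u + e.symm u' := by
    intro u u'
    rw [Equiv.symm_apply_eq, he, map_add, ← he, ← he, e.apply_symm_apply, e.apply_symm_apply]
  have hsmul : ∀ (c : F) u, e.symm (c • u) = σ.symm c • e.symm u := by
    intro c u
    rw [Equiv.symm_apply_eq, he, map_smulₛₗ, ← he, e.apply_symm_apply]
    congr 1
    exact (σ.apply_symm_apply c).symm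
  let φ : (Fin n → F) →ₗ[F] F :=
    { toFun := fun u => σ (dotProduct (e.symm u) w)
      map_add' := by
        intro u u'
        rw [hadd, add_dotProduct, map_add]
      map_smul' := by
        intro c u
        rw [hsmul, smul_dotProduct, smul_eq_mul, map_mul, RingEquiv.apply_symm_apply]
        rfl }
  have hφ : ∀ u, φ u = σ (dotProduct (e.symm u) w) := fun _ => rfl
  refine ⟨fun i => φ (fun j => if i = j then 1 else 0), ?_, ?_⟩
  · intro h0
    obtain ⟨v, hv⟩ := dotL_surjective hw 1
    rw [dotL_apply] at hv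
    have h1 := LinearMap.pi_apply_eq_sum_univ φ (f v)
    have h2 : φ (f v) = 1 := by
      rw [hφ, ← he, e.symm_apply_apply, hv, map_one]
    have h3 : ∀ i, φ (fun j => if i = j then (1 : F) else 0) = 0 := fun i => congrFun h0 i
    rw [h2] at h1
    simp only [h3, smul_zero, Finset.sum_const_zero] at h1
    exact one_ne_zero h1
  · intro v
    have h1 := LinearMap.pi_apply_eq_sum_univ φ (f v)
    have h2 : φ (f v) = σ (dotProduct v w) := by
      rw [hφ, ← he, e.symm_apply_apply]
    rw [← h2, h1]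
    rfl

lemma exists_dual_point (s : Equiv.Perm (ℙ F (Fin n → F))) (σ : F ≃+* F)
    (f : (Fin n → F) →ₛₗ[(σ : F →+* F)] (Fin n → F)) (hf : Function.Injective f)
    (hs : ∀ x, s x = Projectivization.map f hf x) (h : ℙ F (Fin n → F)) :
    ∃ k : ℙ F (Fin n → F), ∀ p, Inc (s p) k ↔ Inc p h := by
  obtain ⟨w', hw', hdual⟩ := exists_dual_vec σ f hf h.rep h.rep_nonzero
  refine ⟨Projectivization.mk F w' hw', ?_⟩
  intro p
  induction p using Projectivization.ind with
  | h v hv =>
    rw [hs, Projectivization.map_mk, inc_mk_mk, inc_mk_left, hdual]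
    exact EmbeddingLike.map_eq_zero_iff

omit [Finite F] in
lemma exists_antiflag (hn : 0 < n) :
    ∃ a h : ℙ F (Fin n → F), ¬ Inc a h := by
  classical
  have hne : (Pi.single (⟨0, hn⟩ : Fin n) (1 : F) : Fin n → F) ≠ 0 := by
    intro h0
    have := congrFun h0 ⟨0, hn⟩
    simp at this
  refine ⟨Projectivization.mk F _ hne, Projectivization.mk F _ hne, ?_⟩
  rw [inc_mk_mk, single_dotProduct]
  simp

end Cfsg.Agent.Lib.Helper2.Sht
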