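import Mathlib

/-!
# Counting with a sharply 2-transitive set of automorphisms of a symmetric design
(helper2, for S2531)
-/

set_option autoImplicit false

namespace Cfsg.Agent.Lib.Helper2.Sht

section Count

variable {P : Type*} [Fintype P] [DecidableEq P]

/-- Sharp 2-transitivity: the members of `T` fixing `a` and sending some point of `B` (`a ∉ B`) to
`d ≠ a` are in bijection with `B`. -/
lemma card_filter_symm_mem (T : Finset (Equiv.Perm P))
    (hsharp : ∀ a b c d : P, a ≠ b → c ≠ d → ∃! s, s ∈ T ∧ s a = c ∧ s b = d)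
    (a d : P) (had : a ≠ d) (B : Finset P) (haB : a ∉ B) :
    ((T.filter (fun s => s a = a)).filter (fun s => s.symm d ∈ B)).card = B.card := by
  refine Finset.card_bij (fun s _ => s.symm d) ?_ ?_ ?_
  · intro s hs
    exact (Finset.mem_filter.mp hs).2
  · intro s₁ hs₁ s₂ hs₂ heq
    rw [Finset.mem_filter, Finset.mem_filter] at hs₁ hs₂
    have hb : a ≠ s₁.symm d := by
      intro h0
      exact haB (h0 ▸ hs₁.2)
    have h1 : s₁ (s₁.symm d) = d := s₁.apply_symm_apply d
    have h2 : s₂ (s₁.symm d) = d := by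
      rw [heq]
      exact s₂.apply_symm_apply d
    exact (hsharp a (s₁.symm d) a d hb had).unique ⟨hs₁.1.1, hs₁.1.2, h1⟩ ⟨hs₂.1.1, hs₂.1.2, h2⟩
  · intro b hb
    have hab : a ≠ b := by
      rintro rfl
      exact haB hb
    obtain ⟨s, ⟨hsT, hsa, hsb⟩, -⟩ := hsharp a b a d hab had
    have h1 : s.symm d = b := by
      rw [Equiv.symm_apply_eq, hsb]
    refine ⟨s, ?_, h1⟩
    rw [Finset.mem_filter, Finset.mem_filter]
    exact ⟨⟨hsT, hsa⟩, h1 ▸ hb⟩

theorem count_identity (inc : P → P → Prop) [DecidableRel inc]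
    (T : Finset (Equiv.Perm P)) (star : Equiv.Perm P → P → P)
    (hsharp : ∀ a b c d : P, a ≠ b → c ≠ d → ∃! s, s ∈ T ∧ s a = c ∧ s b = d)
    (hstar : ∀ s ∈ T, ∀ h p, inc (s p) (star s h) ↔ inc p h)
    (M L : ℕ)
    (hM : ∀ k, (Finset.univ.filter (fun p => inc p k)).card = M)
    (hL : ∀ h k, h ≠ k → (Finset.univ.filter (fun p => inc p h ∧ inc p k)).card = L)
    (a h : P) (hah : ¬ inc a h) (hMpos : 0 < M) :
    ∃ f₀ g₀ : ℕ, f₀ + g₀ + 1 = Fintype.card P ∧ M * M = f₀ * M + g₀ * L := by
  classical
  set A := T.filter (fun s => s a = a) with hA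
  set B := Finset.univ.filter (fun p => inc p h) with hB
  have hBcard : B.card = M := hM h
  have haB : a ∉ B := by
    rw [hB, Finset.mem_filter]
    exact fun h0 => hah h0.2
  -- `|A| = N - 1`
  have hAcard : A.card + 1 = Fintype.card P := by
    obtain ⟨d, hd⟩ : ∃ d, d ∈ B := by
      apply Finset.card_pos.mp
      rw [hBcard]
      exact hMpos
    have had : a ≠ d := by
      rintro rfl
      exact haB hd
    have h1 := card_filter_symm_mem T hsharp a d had (Finset.univ.erase a)
      (Finset.notMem_erase a _)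
    have h2 : A.filter (fun s => s.symm d ∈ Finset.univ.erase a) = A := by
      apply Finset.filter_true_of_mem
      intro s hs
      rw [Finset.mem_erase]
      refine ⟨?_, Finset.mem_univ _⟩
      intro h0
      rw [Equiv.symm_apply_eq] at h0
      rw [hA, Finset.mem_filter] at hs
      exact had (by rw [h0, hs.2])
    rw [h2] at h1
    rw [h1, Finset.card_erase_of_mem (Finset.mem_univ a), Finset.card_univ]
    have : 0 < Fintype.card P := Fintype.card_pos_iff.mpr ⟨a⟩
    omega
  -- double counting
  have hdc := Finset.sum_card_bipartiteAbove_eq_sum_card_bipartiteBelow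
    (fun (d : P) (s : Equiv.Perm P) => inc d (star s h)) (s := B) (t := A)
  -- the left side
  have hleft : ∀ d ∈ B, (Finset.bipartiteAbove
      (fun (d : P) (s : Equiv.Perm P) => inc d (star s h)) A d).card = M := by
    intro d hd
    have had : a ≠ d := by
      rintro rfl
      exact haB hd
    have h1 := card_filter_symm_mem T hsharp a d had B haB
    rw [← hBcard, ← h1]
    congr 1
    unfold Finset.bipartiteAbove
    apply Finset.filter_congr
    intro s hs
    have hsT : s ∈ T := (Finset.mem_filter.mp hs).1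
    rw [hB, Finset.mem_filter]
    have h2 := hstar s hsT h (s.symm d)
    rw [s.apply_symm_apply] at h2
    show inc d (star s h) ↔ _
    rw [h2]
    simp
  -- the right side
  have hright : ∀ s ∈ A, (Finset.bipartiteBelow
      (fun (d : P) (s : Equiv.Perm P) => inc d (star s h)) B s).card
      = if star s h = h then M else L := by
    intro s hs
    unfold Finset.bipartiteBelow
    rw [hB, Finset.filter_filter]
    split_ifs with h0
    · rw [← hM h]
      congr 1
      apply Finset.filter_congr
      intro p _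
      show inc p h ∧ inc p (star s h) ↔ inc p h
      rw [h0]
      simp
    · exact hL h (star s h) (Ne.symm h0)
  rw [Finset.sum_congr rfl hleft, Finset.sum_congr rfl hright, Finset.sum_const, hBcard,
    Finset.sum_ite, Finset.sum_const, Finset.sum_const, smul_eq_mul, smul_eq_mul, smul_eq_mul]
    at hdc
  refine ⟨(A.filter (fun s => star s h = h)).card, (A.filter (fun s => ¬ star s h = h)).card,
    ?_, hdc⟩
  rw [Finset.card_filter_add_card_filter_not, hAcard]

end Count

/-- The final arithmetic. -/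
lemma arith_contra (q m M L N f₀ g₀ : ℕ) (hq : 2 ≤ q)
    (hM : M * (q - 1) + 1 = q ^ (m + 2)) (hL : L * (q - 1) + 1 = q ^ (m + 1))
    (hN : N * (q - 1) + 1 = q ^ (m + 3)) (hfg : f₀ + g₀ + 1 = N)
    (hid : M * M = f₀ * M + g₀ * L) : False := by
  obtain ⟨t, rfl⟩ : ∃ t, q = t + 1 := ⟨q - 1, by omega⟩
  have ht : 1 ≤ t := by omega
  rw [Nat.add_sub_cancel] at hM hL hN
  set x := (t + 1) ^ (m + 1) with hx
  have hM' : M * t + 1 = (t + 1) * x := by rw [hM, hx]; ring
  have hN' : N * t + 1 = (t + 1) * (t + 1) * x := by rw [hN, hx]; ring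
  have hx2 : 2 ≤ x := by
    calc 2 ≤ t + 1 := by omega
      _ = (t + 1) ^ 1 := (pow_one _).symm
      _ ≤ (t + 1) ^ (m + 1) := Nat.pow_le_pow_right (by omega) (by omega)
  zify at hM' hL hN' hfg hid ht hx2
  have htz : (t : ℤ) ≠ 0 := by omega
  -- `(q x - 1) * t = f₀ t² x`
  have key : ((t : ℤ) + 1) * x - 1 = f₀ * t * x := by
    have h1 : (((t : ℤ) + 1) * x - 1) * t * t = (f₀ * t * x) * t * t := by
      have eM : (M : ℤ) * t = (t + 1) * x - 1 := by linarith
      have eL : (L : ℤ) * t = x - 1 := by linarith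
      have eN : (N : ℤ) * t = (t + 1) * (t + 1) * x - 1 := by linarith
      have eg : (g₀ : ℤ) = N - 1 - f₀ := by linarith
      have h2 : ((M : ℤ) * t) * (M * t) = f₀ * t * (M * t) + (g₀ * t) * (L * t) := by
        linear_combination (t : ℤ) * t * hid
      rw [eg] at h2
      have h3 : ((N : ℤ) - 1 - f₀) * t = N * t - t - f₀ * t := by ring
      rw [h3, eM, eL, eN] at h2
      linear_combination (t : ℤ) * h2
    exact mul_right_cancel₀ htz (mul_right_cancel₀ htz h1)
  have h4 : (x : ℤ) * ((t + 1) - f₀ * t) = 1 := by linear_combination key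
  have h5 : (x : ℤ) ∣ 1 := Dvd.intro _ h4
  have h6 := Int.le_of_dvd one_pos h5
  omega

end Cfsg.Agent.Lib.Helper2.Sht
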