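import Cfsg.Agent.S5119
import Cfsg.Agent.Lib.Helper9.CentricAgree2
import Cfsg.Agent.Lib.Helper9.GroupFusionSat
import Cfsg.Agent.Lib.Helper9.SylowConj2
import Cfsg.Agent.Lib.Helper9.ExtenderIff
import Cfsg.Agent.Lib.Helper9.Alperin3

set_option autoImplicit false

namespace Cfsg.Agent.Lib.Helper2.SimpCrit

open Cfsg Cfsg.FusionSystem Cfsg.Agent.Lib.Helper9 Cfsg.Agent.Lib.Helper2.StrongInv

section General

variable {Ω : Type*} [Group Ω] {S : Subgroup Ω}

theorem mem_normalizer_of_conj_mem {H : Subgroup Ω} {n : Ω} (h1 : ∀ y ∈ H, n * y * n⁻¹ ∈ H)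
    (h2 : ∀ y ∈ H, n⁻¹ * y * n ∈ H) : n ∈ Subgroup.normalizer (H : Set Ω) := by
  rw [Subgroup.mem_normalizer_iff]
  intro y
  constructor
  · exact h1 y
  · intro hy
    have h3 := h2 _ hy
    have e : n⁻¹ * (n * y * n⁻¹) * n = y := by group
    rw [e] at h3
    exact h3

/-- `Aut_E(R)` is normalized by `Aut_F(R)` under strong invariance -/
theorem aut_conj_mem {F E : FusionSystem S} (hSI : SI F E) {R : Subgroup Ω} (hRS : R ≤ S)
    {α β : MulAut R} (hα : α ∈ E.autGroup R) (hβ : β ∈ F.autGroup R) :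
    β * α * β⁻¹ ∈ E.autGroup R := by
  have hφ := hom_of_mem_autGroup E hRS hα
  have hψ := hom_of_mem_autGroup F hRS hβ
  have hφR : ∀ x : R, (R.subtype.comp α.toMonoidHom) x ∈ R := fun x => (α x).2
  obtain ⟨χ, hχ, hχe⟩ := hSI R R le_rfl hRS _ hφ hφR _ hψ
  have hmap : (R.subgroupOf R).map (R.subtype.comp β.toMonoidHom) = R := by
    ext y
    constructor
    · rintro ⟨x, -, rfl⟩
      exact (β x).2
    · intro hy
      refine ⟨β⁻¹ ⟨y, hy⟩, Subgroup.mem_subgroupOf.mpr (β⁻¹ ⟨y, hy⟩).2, ?_⟩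
      show ((β (β⁻¹ ⟨y, hy⟩) : R) : Ω) = y
      rw [MulAut.apply_inv_self]
  obtain ⟨χ', hχ', hχ'e⟩ := transport_hom E hmap hχ
  rw [mem_autGroup_iff E hRS]
  have e : R.subtype.comp (β * α * β⁻¹).toMonoidHom = χ' := by
    ext y
    show (((β * α * β⁻¹) y : R) : Ω) = χ' y
    have hy1 : ((β (β⁻¹ y) : R) : Ω) = y := by rw [MulAut.apply_inv_self]
    have hmem : (R.subtype.comp β.toMonoidHom) (Subgroup.inclusion le_rfl (β⁻¹ y)) ∈
        (R.subgroupOf R).map (R.subtype.comp β.toMonoidHom) :=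
      ⟨_, Subgroup.mem_subgroupOf.mpr (Subgroup.inclusion le_rfl (β⁻¹ y)).2, rfl⟩
    have h1 := hχe (β⁻¹ y) hmem
    have hy2 : (y : Ω) ∈ (R.subgroupOf R).map (R.subtype.comp β.toMonoidHom) := by
      rw [hmap]; exact y.2
    have h2 := hχ'e (y : Ω) hy2 y.2
    have e3 : (⟨(R.subtype.comp β.toMonoidHom) (Subgroup.inclusion le_rfl (β⁻¹ y)), hmem⟩ :
        ↥((R.subgroupOf R).map (R.subtype.comp β.toMonoidHom))) = ⟨(y : Ω), hy2⟩ :=
      Subtype.ext hy1
    rw [e3] at h1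
    have h3 : χ' y = χ' ⟨(y : Ω), y.2⟩ := rfl
    rw [h3, h2, h1]
    rfl
  rw [e]
  exact hχ'

/-- for fully normalized `R`, the `p`-elements of `Aut_F(R)` lie in `Aut_E(R)` -/
theorem pelt_mem [Finite S] {p : ℕ} [Fact p.Prime] (hS : IsPGroup p S)
    (F E : FusionSystem S) (hF : F.IsSaturated p) (hSI : SI F E) {R : Subgroup Ω}
    (hRn : F.IsFullyNormalized R) {a : MulAut R} (ha : a ∈ F.autGroup R) {k : ℕ}
    (hk : orderOf a = p ^ k) : a ∈ E.autGroup R := by
  have hRS : R ≤ S := hRn.1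
  haveI : Finite R := finite_of_le hRS
  obtain ⟨-, Q, hQ⟩ := fullyAutomized_of_fullyNormalized hS F hF hRn
  have hU : Subgroup.zpowers a ≤ F.autGroup R := Subgroup.zpowers_le.mpr ha
  have hpU : IsPGroup p (Subgroup.zpowers a) :=
    IsPGroup.of_card (n := k) ((Nat.card_zpowers a).trans hk)
  obtain ⟨h, hh, hle⟩ := exists_cj_le_of_sylowIn Q hQ hU hpU
  have h1 : h * a * h⁻¹ ∈ autInducedBy S R := hle (cj_mem_cj (Subgroup.mem_zpowers a))
  have h2 : h * a * h⁻¹ ∈ E.autGroup R := autInducedBy_le_autGroup E hRS h1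
  have h3 := aut_conj_mem hSI hRS h2 ((F.autGroup R).inv_mem hh)
  have e : h⁻¹ * (h * a * h⁻¹) * h⁻¹⁻¹ = a := by group
  rw [e] at h3
  exact h3

/-- a map of `F` on `S` whose restriction to an `F`-centric subgroup lies in `E` lies in `E` -/
theorem hom_mem_of_centric [Finite S] {p : ℕ} [Fact p.Prime] (hS : IsPGroup p S)
    (F E : FusionSystem S) (hF : F.IsSaturated p) (hE : E.IsSaturated p)
    (hEF : E.IsSubsystemOf F) :
    ∀ (n : ℕ) (R : Subgroup Ω), F.IsCentric R → Nat.card S - Nat.card R = n →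
      ∀ γ ∈ F.Hom S, (∀ hRS : R ≤ S, γ.comp (Subgroup.inclusion hRS) ∈ E.Hom R) →
        γ ∈ E.Hom S := by
  intro n
  induction n using Nat.strong_induction_on with
  | _ n ih =>
    intro R hRc hn γ hγ hγR
    have hRS : R ≤ S := hRc.1
    by_cases hRe : R = S
    · have hSR : S ≤ R := hRe.ge
      have h1 := restrict_mem E (hγR hRS) hSR
      have e : (γ.comp (Subgroup.inclusion hRS)).comp (Subgroup.inclusion hSR) = γ := by
        ext x
        rfl
      rw [e] at h1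
      exact h1
    · have hlt : R < S := lt_of_le_of_ne hRS hRe
      obtain ⟨g₀, hg₀N, hg₀R⟩ := exists_mem_normalizerIn_not_mem hS hlt
      have hRN : R ≤ normalizerIn S R := self_le_normalizerIn' hRS
      have hNS : normalizerIn S R ≤ S := inf_le_left
      haveI : Finite ↥(normalizerIn S R) := finite_of_le hNS
      have hRltN : R < normalizerIn S R :=
        lt_of_le_of_ne hRN (fun h => hg₀R (h.symm ▸ hg₀N))
      have hcard1 : Nat.card R < Nat.card ↥(normalizerIn S R) := card_lt_of_lt' hRltN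
      have hcard2 : Nat.card ↥(normalizerIn S R) ≤ Nat.card S := Subgroup.card_le_of_le hNS
      have hNc : F.IsCentric (normalizerIn S R) := centric_of_le F hRc hRN hNS
      suffices hγN : γ.comp (Subgroup.inclusion hNS) ∈ E.Hom (normalizerIn S R) from
        ih (Nat.card S - Nat.card ↥(normalizerIn S R)) (by omega) (normalizerIn S R) hNc rfl γ hγ
          (fun _ => hγN)
      have hω : γ.comp (Subgroup.inclusion hRS) ∈ E.Hom R := hγR hRS
      obtain ⟨R', hR'⟩ : ∃ R', (γ.comp (Subgroup.inclusion hRS)).range = R' := ⟨_, rfl⟩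
      have hωR' : ∀ x : R, (γ.comp (Subgroup.inclusion hRS)) x ∈ R' := fun x => hR'.le ⟨x, rfl⟩
      have hR'S : R' ≤ S := by rw [← hR']; exact range_le E hω
      obtain ⟨R'', hconj, hfa, hrec⟩ := hE R' hR'S
      obtain ⟨χ, hχ, hχN, hχR⟩ := exists_normalizer_hom hS E R'' R' hfa hrec hconj
      have hR'N' : R' ≤ normalizerIn S R' := self_le_normalizerIn' hR'S
      have hχ₀ := restrict_mem E hχ hR'N'
      obtain ⟨ω', hω', hω'e⟩ := comp_hom E hω hχ₀ hωR'
      have hω'r : ω'.range = R'' := by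
        apply le_antisymm
        · rintro _ ⟨x, rfl⟩
          rw [hω'e, ← hχR]
          exact ⟨Subgroup.inclusion hR'N' ⟨_, hωR' x⟩, Subgroup.mem_subgroupOf.mpr (hωR' x), rfl⟩
        · intro y hy
          rw [← hχR] at hy
          obtain ⟨z, hz, rfl⟩ := hy
          have hz' : (z : Ω) ∈ R' := Subgroup.mem_subgroupOf.mp hz
          obtain ⟨x, hx⟩ := hR'.ge hz'
          refine ⟨x, ?_⟩
          rw [hω'e]
          show χ (Subgroup.inclusion hR'N' ⟨_, hωR' x⟩) = χ z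
          exact congrArg χ (Subtype.ext hx)
      obtain ⟨ψ, hψ, hψe⟩ := hrec.2 R ω' hω' hω'r
      have hγNF := restrict_mem F hγ hNS
      have hγmul : ∀ (g : Ω) (hg : g ∈ S) (x : Ω) (hx : x ∈ S),
          γ ⟨g, hg⟩ * γ ⟨x, hx⟩ * (γ ⟨g, hg⟩)⁻¹ =
            γ ⟨g * x * g⁻¹, S.mul_mem (S.mul_mem hg hx) (S.inv_mem hg)⟩ := by
        intro g hg x hx
        rw [← map_inv, ← map_mul, ← map_mul]
        exact congrArg γ (Subtype.ext rfl)
      have hγmul' : ∀ (g : Ω) (hg : g ∈ S) (x : Ω) (hx : x ∈ S),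
          (γ ⟨g, hg⟩)⁻¹ * γ ⟨x, hx⟩ * γ ⟨g, hg⟩ =
            γ ⟨g⁻¹ * x * g, S.mul_mem (S.mul_mem (S.inv_mem hg) hx) hg⟩ := by
        intro g hg x hx
        rw [← map_inv, ← map_mul, ← map_mul]
        exact congrArg γ (Subtype.ext rfl)
      have hγN' : ∀ n : ↥(normalizerIn S R),
          (γ.comp (Subgroup.inclusion hNS)) n ∈ normalizerIn S R' := by
        intro n
        refine ⟨hom_mem F hγ _, ?_⟩
        apply mem_normalizer_of_conj_mem
        · intro y hy
          rw [← hR'] at hy ⊢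
          obtain ⟨x, rfl⟩ := hy
          refine ⟨⟨(n : Ω) * x * (n : Ω)⁻¹, conj_mem_of_mem_normalizer n.2.2 x.2⟩, ?_⟩
          exact (hγmul (n : Ω) (hNS n.2) (x : Ω) (hRS x.2)).symm
        · intro y hy
          rw [← hR'] at hy ⊢
          obtain ⟨x, rfl⟩ := hy
          refine ⟨⟨(n : Ω)⁻¹ * x * (n : Ω), conj_inv_mem_of_mem_normalizer n.2.2 x.2⟩, ?_⟩
          exact (hγmul' (n : Ω) (hNS n.2) (x : Ω) (hRS x.2)).symm
      obtain ⟨δ, hδ, hδe⟩ := comp_hom F hγNF (hEF _ hχ) hγN'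
      have hω'δ : ∀ x : R, ω' x = δ (Subgroup.inclusion hRN x) := by
        intro x
        rw [hω'e, hδe]
        rfl
      have hNX : normalizerIn S R ≤ extender S R ω' := by
        intro g hg
        rw [mem_extender_iff]
        refine ⟨hg.1, hg.2, δ ⟨g, hg⟩, hom_mem F hδ _, ?_⟩
        intro x hx
        have e : (Subgroup.inclusion hRN ⟨g * (x : Ω) * g⁻¹, hx⟩ : ↥(normalizerIn S R)) =
            ⟨g, hg⟩ * Subgroup.inclusion hRN x * ⟨g, hg⟩⁻¹ := Subtype.ext rfl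
        rw [hω'δ, hω'δ, e, map_mul, map_mul, map_inv]
      have hψN := restrict_mem E hψ hNX
      have hagree : ∀ n : ↥(normalizerIn S R), (n : Ω) ∈ R →
          (ψ.comp (Subgroup.inclusion hNX)) n = δ n := by
        intro n hn
        have h1 := hψe (n : Ω) hn (hNX n.2)
        have h2 := hω'δ ⟨(n : Ω), hn⟩
        have e : Subgroup.inclusion hRN ⟨(n : Ω), hn⟩ = n := Subtype.ext rfl
        rw [e] at h2
        rw [← h2, ← h1]
        rfl
      obtain ⟨z, hzR, hzC, hz⟩ := maps_agreeing_on_centric p hS F hF (normalizerIn S R) R hRN hRc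
        (ψ.comp (Subgroup.inclusion hNX)) δ (hEF _ hψN) hδ hagree
      have hcz := E.conj_mem (P := normalizerIn S R) (g := (z : Ω)) hNS (hNS z.2)
      have hczN : ∀ y : ↥(normalizerIn S R),
          conjHom (normalizerIn S R) (z : Ω) y ∈ normalizerIn S R := by
        intro y
        exact (z * y * z⁻¹).2
      obtain ⟨δ', hδ', hδ'e⟩ := comp_hom E hcz hψN hczN
      have hδδ' : δ' = δ := by
        ext y
        rw [hδ'e, hz]
        exact congrArg (ψ.comp (Subgroup.inclusion hNX)) (Subtype.ext rfl)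
      have hδE : δ ∈ E.Hom (normalizerIn S R) := hδδ' ▸ hδ'
      obtain ⟨M, hM⟩ : ∃ M, (γ.comp (Subgroup.inclusion hNS)).range = M := ⟨_, rfl⟩
      have hmemM : ∀ n, (γ.comp (Subgroup.inclusion hNS)) n ∈ M := fun n => hM.le ⟨n, rfl⟩
      have hMN' : M ≤ normalizerIn S R' := by
        rw [← hM]
        rintro _ ⟨n, rfl⟩
        exact hγN' n
      have hχM := restrict_mem E hχ hMN'
      obtain ⟨M₂, hM₂⟩ : ∃ M₂, (χ.comp (Subgroup.inclusion hMN')).range = M₂ := ⟨_, rfl⟩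
      obtain ⟨θ, hθ, hθχ, -, -⟩ := inv_hom E hχM hM₂
      have hδM₂ : ∀ n, δ n ∈ M₂ := by
        intro n
        rw [← hM₂, hδe]
        exact ⟨⟨_, hmemM n⟩, rfl⟩
      obtain ⟨ε, hε, hεe⟩ := comp_hom E hδE hθ hδM₂
      have hεγ : ε = γ.comp (Subgroup.inclusion hNS) := by
        ext n
        rw [hεe]
        have hh : (χ.comp (Subgroup.inclusion hMN')) ⟨_, hmemM n⟩ ∈ M₂ := by
          rw [← hM₂]; exact ⟨_, rfl⟩
        have h1 := hθχ ⟨_, hmemM n⟩ hh
        have e2 : (⟨δ n, hδM₂ n⟩ : M₂) =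
            ⟨(χ.comp (Subgroup.inclusion hMN')) ⟨_, hmemM n⟩, hh⟩ := Subtype.ext (hδe n)
        rw [e2]
        exact h1
      rw [← hεγ]
      exact hε

/-- if `Aut_F(S) ≤ Aut_E(S)` and the Frattini condition holds then `E = F` -/
theorem hom_eq_of_aut_le (F E : FusionSystem S) (hEF : E.IsSubsystemOf F)
    (hFr : ∀ (P : Subgroup Ω), P ≤ S → ∀ (φ : P →* Ω), φ ∈ F.Hom P →
      ∃ α ∈ F.autGroup S, ∃ φ₀ ∈ E.Hom P, ∀ (x : P) (hx : φ₀ x ∈ S),
        φ x = ((α ⟨φ₀ x, hx⟩ : S) : Ω))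
    (hA : F.autGroup S ≤ E.autGroup S) (P : Subgroup Ω) : E.Hom P = F.Hom P := by
  apply Set.Subset.antisymm (hEF P)
  intro φ hφ
  have hPS : P ≤ S := hom_le F hφ
  obtain ⟨α, hα, φ₀, hφ₀, he⟩ := hFr P hPS φ hφ
  have hαhom := hom_of_mem_autGroup E le_rfl (hA hα)
  have hφ₀S : ∀ x, φ₀ x ∈ S := (E.le_of_mem hφ₀).2
  obtain ⟨χ, hχ, hχe⟩ := comp_hom E hφ₀ hαhom hφ₀S
  have e : χ = φ := by
    ext x
    rw [hχe, he x (hφ₀S x)]
    rfl
  rw [← e]
  exact hχ

end General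

section GroupCase

variable {G : Type*} [Group G] [Finite G] {p : ℕ} [Fact p.Prime]

theorem conjAut_mem_of_closure (S : Sylow p G) (E : FusionSystem (S : Subgroup G))
    (hSI : SI (groupFusionSystem (S : Subgroup G)) E) {R : Subgroup G}
    (hRn : (groupFusionSystem (S : Subgroup G)).IsFullyNormalized R) {g : G}
    (hg : g ∈ Subgroup.closure {g : G | g ∈ Subgroup.normalizer (R : Set G) ∧
      ∃ k : ℕ, orderOf g = p ^ k}) :
    ∃ hN : g ∈ Subgroup.normalizer (R : Set G), conjAut R ⟨g, hN⟩ ∈ E.autGroup R := by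
  have hF := groupFusion_saturated S
  have hRS : R ≤ S := hRn.1
  induction hg using Subgroup.closure_induction with
  | mem x hx =>
    obtain ⟨hxN, k, hk⟩ := hx
    refine ⟨hxN, ?_⟩
    have hmemF : conjAut R ⟨x, hxN⟩ ∈ (groupFusionSystem (S : Subgroup G)).autGroup R := by
      rw [groupFusion_autGroup_eq hRS, mem_autInducedBy_iff]
      exact ⟨x, Subgroup.mem_top x, fun y => rfl⟩
    have hord : orderOf (conjAut R ⟨x, hxN⟩) ∣ p ^ k := by
      have h1 : orderOf (conjAut R ⟨x, hxN⟩) ∣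
          orderOf (⟨x, hxN⟩ : ↥(Subgroup.normalizer (R : Set G))) := orderOf_map_dvd _ _
      have h2 : orderOf (⟨x, hxN⟩ : ↥(Subgroup.normalizer (R : Set G))) = orderOf x :=
        (Subgroup.orderOf_coe (⟨x, hxN⟩ : ↥(Subgroup.normalizer (R : Set G)))).symm
      rw [h2, hk] at h1
      exact h1
    obtain ⟨j, -, hj⟩ := (Nat.dvd_prime_pow (Fact.out : p.Prime)).1 hord
    exact pelt_mem S.isPGroup' _ E hF hSI hRn hmemF hj
  | one =>
    refine ⟨Subgroup.one_mem _, ?_⟩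
    have e : (⟨1, Subgroup.one_mem _⟩ : ↥(Subgroup.normalizer (R : Set G))) = 1 := rfl
    rw [e, map_one]
    exact Subgroup.one_mem _
  | mul x y _ _ ihx ihy =>
    obtain ⟨hx, hx'⟩ := ihx
    obtain ⟨hy, hy'⟩ := ihy
    refine ⟨Subgroup.mul_mem _ hx hy, ?_⟩
    have e : (⟨x * y, Subgroup.mul_mem _ hx hy⟩ : ↥(Subgroup.normalizer (R : Set G))) =
        ⟨x, hx⟩ * ⟨y, hy⟩ := rfl
    rw [e, map_mul]
    exact Subgroup.mul_mem _ hx' hy'
  | inv x _ ihx =>
    obtain ⟨hx, hx'⟩ := ihx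
    refine ⟨Subgroup.inv_mem _ hx, ?_⟩
    have e : (⟨x⁻¹, Subgroup.inv_mem _ hx⟩ : ↥(Subgroup.normalizer (R : Set G))) =
        ⟨x, hx⟩⁻¹ := rfl
    rw [e, map_inv]
    exact Subgroup.inv_mem _ hx'

theorem hom_eq (S : Sylow p G) (E : FusionSystem (S : Subgroup G)) (hE : E.IsSaturated p)
    (hinv : E.IsInvariantIn (groupFusionSystem (S : Subgroup G)))
    (hb : Cfsg.autInducedBy ⊤ (S : Subgroup G) = ⨆ (R : Subgroup G) (_ : (Cfsg.groupFusionSystem (S : Subgroup G)).IsFullyNormalized R ∧ (Cfsg.groupFusionSystem (S : Subgroup G)).IsRadical p R ∧ (Cfsg.groupFusionSystem (S : Subgroup G)).IsCentric R), Cfsg.autInducedBy (Subgroup.closure {g : G | g ∈ Subgroup.normalizer (R : Set G) ∧ ∃ k : ℕ, orderOf g = p ^ k}) (S : Subgroup G))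
    (P : Subgroup G) : E.Hom P = (groupFusionSystem (S : Subgroup G)).Hom P := by
  have hSp : IsPGroup p (S : Subgroup G) := S.isPGroup'
  have hF := groupFusion_saturated S
  have hEF : E.IsSubsystemOf (groupFusionSystem (S : Subgroup G)) := hinv.1
  have hT : (groupFusionSystem (S : Subgroup G)).StronglyClosed (S : Subgroup G) := hinv.2.1
  have hSI : SI (groupFusionSystem (S : Subgroup G)) E :=
    (Cfsg.Agent.S5119.result p hSp _ hF E hEF hT).mp hinv
  have hFr := hinv.2.2.2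
  have hA : (groupFusionSystem (S : Subgroup G)).autGroup (S : Subgroup G) ≤
      E.autGroup (S : Subgroup G) := by
    rw [groupFusion_autGroup_eq le_rfl, hb]
    apply iSup_le
    intro R
    apply iSup_le
    rintro ⟨hRn, -, hRc⟩
    intro α hα
    obtain ⟨g, hg, hgα⟩ := (mem_autInducedBy_iff _ _ α).mp hα
    obtain ⟨hgN, hgE⟩ := conjAut_mem_of_closure S E hSI hRn hg
    have hRS : R ≤ S := hRn.1
    have hαF : α ∈ (groupFusionSystem (S : Subgroup G)).autGroup (S : Subgroup G) := by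
      rw [groupFusion_autGroup_eq le_rfl, mem_autInducedBy_iff]
      exact ⟨g, Subgroup.mem_top g, hgα⟩
    have hγ := hom_of_mem_autGroup _ le_rfl hαF
    rw [mem_autGroup_iff E le_rfl]
    apply hom_mem_of_centric hSp _ E hF hE hEF _ R hRc rfl _ hγ
    intro hRS'
    have h1 := hom_of_mem_autGroup E hRS hgE
    have e : ((S : Subgroup G).subtype.comp α.toMonoidHom).comp (Subgroup.inclusion hRS') =
        R.subtype.comp (conjAut R ⟨g, hgN⟩).toMonoidHom := by
      ext x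
      exact hgα (Subgroup.inclusion hRS' x)
    rw [e]
    exact h1
  exact hom_eq_of_aut_le _ E hEF hFr hA P

end GroupCase

end Cfsg.Agent.Lib.Helper2.SimpCrit
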