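import Cfsg.Agent.S5160
import Cfsg.Agent.Lib.Helper9.SubsystemExt2
import Cfsg.Agent.Lib.Helper9.FusionSat4
import Cfsg.Agent.Lib.Helper9.Alperin1
import Cfsg.Agent.Lib.Helper9.AlperinCor

set_option autoImplicit false

/-! A variant of the simplicity criterion for group fusion systems, pushed forward along a
central cover. -/

namespace Cfsg.Agent.Lib.Helper2.SimpCrit2

open Cfsg Cfsg.FusionSystem Cfsg.Agent.Lib.Helper9 Cfsg.Agent.Lib.Helper2.StrongInv
  Cfsg.Agent.Lib.Helper2.SimpCrit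

section GroupCase

variable {G : Type*} [Group G] [Finite G] {p : ℕ} [Fact p.Prime]

theorem hom_eq' (S : Sylow p G) (E : FusionSystem (S : Subgroup G)) (hE : E.IsSaturated p)
    (hinv : E.IsInvariantIn (groupFusionSystem (S : Subgroup G)))
    (hb : Cfsg.autInducedBy ⊤ (S : Subgroup G) ≤ ⨆ (R : Subgroup G) (_ : (Cfsg.groupFusionSystem (S : Subgroup G)).IsFullyNormalized R ∧ (Cfsg.groupFusionSystem (S : Subgroup G)).IsCentric R), Cfsg.autInducedBy (Subgroup.closure {g : G | g ∈ Subgroup.normalizer (R : Set G) ∧ ∃ k : ℕ, orderOf g = p ^ k}) (S : Subgroup G))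
    (P : Subgroup G) : E.Hom P = (groupFusionSystem (S : Subgroup G)).Hom P := by
  have hSp : IsPGroup p (S : Subgroup G) := S.isPGroup'
  have hF := groupFusion_saturated S
  have hEF : E.IsSubsystemOf (groupFusionSystem (S : Subgroup G)) := hinv.1
  have hT : (groupFusionSystem (S : Subgroup G)).StronglyClosed (S : Subgroup G) := hinv.2.1
  have hSI : SI (groupFusionSystem (S : Subgroup G)) E :=
    (Cfsg.Agent.S5119.result p hSp _ hF E hEF hT).mp hinv
  have hFr := hinv.2.2.2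
  have hA : (groupFusionSystem (S : Subgroup G)).autGroup (S : Subgroup G) ≤
      E.autGroup (S : Subgroup G) := by
    rw [groupFusion_autGroup_eq le_rfl]
    refine hb.trans ?_
    apply iSup_le
    intro R
    apply iSup_le
    rintro ⟨hRn, hRc⟩
    intro α hα
    obtain ⟨g, hg, hgα⟩ := (mem_autInducedBy_iff _ _ α).mp hα
    obtain ⟨hgN, hgE⟩ := conjAut_mem_of_closure S E hSI hRn hg
    have hRS : R ≤ S := hRn.1
    have hαF : α ∈ (groupFusionSystem (S : Subgroup G)).autGroup (S : Subgroup G) := by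
      rw [groupFusion_autGroup_eq le_rfl, mem_autInducedBy_iff]
      exact ⟨g, Subgroup.mem_top g, hgα⟩
    have hγ := hom_of_mem_autGroup _ le_rfl hαF
    rw [mem_autGroup_iff E le_rfl]
    apply hom_mem_of_centric hSp _ E hF hE hEF _ R hRc rfl _ hγ
    intro hRS'
    have h1 := hom_of_mem_autGroup E hRS hgE
    have e : ((S : Subgroup G).subtype.comp α.toMonoidHom).comp (Subgroup.inclusion hRS') =
        R.subtype.comp (conjAut R ⟨g, hgN⟩).toMonoidHom := by
      ext x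
      exact hgα (Subgroup.inclusion hRS' x)
    rw [e]
    exact h1
  exact hom_eq_of_aut_le _ E hEF hFr hA P

/-- the simplicity criterion, without the radical condition and with an inclusion -/
theorem simple_of_fn_centric (S : Sylow p G) (hS1 : (S : Subgroup G) ≠ ⊥)
    (ha : ∀ T : Subgroup G, (Cfsg.groupFusionSystem (S : Subgroup G)).StronglyClosed T →
      T = ⊥ ∨ T = (S : Subgroup G))
    (hb : Cfsg.autInducedBy ⊤ (S : Subgroup G) ≤ ⨆ (R : Subgroup G) (_ : (Cfsg.groupFusionSystem (S : Subgroup G)).IsFullyNormalized R ∧ (Cfsg.groupFusionSystem (S : Subgroup G)).IsCentric R), Cfsg.autInducedBy (Subgroup.closure {g : G | g ∈ Subgroup.normalizer (R : Set G) ∧ ∃ k : ℕ, orderOf g = p ^ k}) (S : Subgroup G)) :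
    (Cfsg.groupFusionSystem (S : Subgroup G)).IsSimple p := by
  have hF := groupFusion_saturated S
  refine ⟨hF, hS1, ?_⟩
  intro T E hEn
  obtain ⟨⟨hEsat, -, hinv⟩, -⟩ := hEn
  rcases ha T hinv.2.1 with h | h
  · exact Or.inl h
  · refine Or.inr ⟨h, ?_⟩
    subst h
    exact hom_eq' S E hEsat hinv hb

omit [Finite G] [Fact p.Prime] in
theorem stronglyClosed_conj_mem {S T : Subgroup G}
    (hT : (groupFusionSystem S).StronglyClosed T)
    {x : G} (hx : x ∈ T) {g : G} (hg : g * x * g⁻¹ ∈ S) : g * x * g⁻¹ ∈ T := by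
  obtain ⟨hTS, hcl⟩ := hT
  have hzT : Subgroup.zpowers x ≤ T := Subgroup.zpowers_le.mpr hx
  have hφ : conjHom (Subgroup.zpowers x) g ∈ (groupFusionSystem S).Hom (Subgroup.zpowers x) := by
    refine ⟨hzT.trans hTS, ?_, g, fun y => rfl⟩
    rintro ⟨y, hy⟩
    obtain ⟨i, rfl⟩ := Subgroup.mem_zpowers_iff.mp hy
    show g * x ^ i * g⁻¹ ∈ S
    rw [← conj_zpow]
    exact Subgroup.zpow_mem _ hg i
  exact hcl _ hzT _ hφ ⟨x, Subgroup.mem_zpowers _⟩

omit [Fact p.Prime] in
theorem fullyNormalized_of_le_normalizer {S : Subgroup G} (F : FusionSystem S) {R : Subgroup G}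
    (hRS : R ≤ S) (hN : S ≤ Subgroup.normalizer (R : Set G)) : F.IsFullyNormalized R := by
  refine ⟨hRS, fun Q _ => ?_⟩
  have h1 : normalizerIn S R = S := by
    unfold normalizerIn
    exact inf_eq_left.mpr hN
  rw [h1]
  apply Subgroup.card_le_of_le
  unfold normalizerIn
  exact inf_le_left

theorem centric_of_selfCentralizing (S : Sylow p G) {R : Subgroup G} (hRS : R ≤ S)
    (hN : (S : Subgroup G) ≤ Subgroup.normalizer (R : Set G))
    (hC : ∀ x ∈ (S : Subgroup G), (∀ r ∈ R, x * r = r * x) → x ∈ R) :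
    (groupFusionSystem (S : Subgroup G)).IsCentric R := by
  have hF := groupFusion_saturated S
  have hfn := fullyNormalized_of_le_normalizer (groupFusionSystem (S : Subgroup G)) hRS hN
  have hfc := fullyCentralized_of_fullyNormalized S.isPGroup' _ hF hfn
  apply centric_of_fullyCentralized S.isPGroup' _ hF hfc
  intro x hx
  obtain ⟨hxS, hxC⟩ := Subgroup.mem_inf.mp hx
  apply hC x hxS
  intro r hr
  exact (Subgroup.mem_centralizer_iff.mp hxC r hr).symm

/-- a `p`-subgroup whose normalizer has no further `p`-elements is a Sylow subgroup -/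
theorem exists_sylow_eq (P : Subgroup G) (hP : IsPGroup p P)
    (h : ∀ x ∈ Subgroup.normalizer (P : Set G), (∃ k : ℕ, x ^ p ^ k = 1) → x ∈ P) :
    ∃ Q : Sylow p G, (Q : Subgroup G) = P := by
  obtain ⟨Q, hPQ⟩ := hP.exists_le_sylow
  refine ⟨Q, ?_⟩
  by_contra hne
  have hlt : P < (Q : Subgroup G) := lt_of_le_of_ne hPQ (Ne.symm hne)
  obtain ⟨g, hg, hgP⟩ := exists_mem_normalizerIn_not_mem Q.isPGroup' hlt
  obtain ⟨hgQ, hgN⟩ := Subgroup.mem_inf.mp hg
  apply hgP
  apply h g hgN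
  obtain ⟨k, hk⟩ := Q.isPGroup' ⟨g, hgQ⟩
  refine ⟨k, ?_⟩
  have h2 := congrArg Subtype.val hk
  simpa using h2

variable {L : Type*} [Group L]

omit [Finite G] [Fact p.Prime] in
theorem lift_conj_mem (ψ : L →* G) (hkc : ψ.ker ≤ Subgroup.center L)
    (hkp : ∀ z ∈ ψ.ker, ∀ k : ℕ, z ^ p ^ k = 1 → z = 1) (U : Subgroup L) (hU : IsPGroup p U)
    {x u : L} (hu : u ∈ U) (hx : ψ (x * u * x⁻¹) ∈ U.map ψ) : x * u * x⁻¹ ∈ U := by
  obtain ⟨u', hu', he⟩ := Subgroup.mem_map.mp hx
  obtain ⟨z, hzdef⟩ : ∃ z, z = u'⁻¹ * (x * u * x⁻¹) := ⟨_, rfl⟩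
  have hz : z ∈ ψ.ker := by
    rw [hzdef, MonoidHom.mem_ker, map_mul, map_inv, he, inv_mul_cancel]
  have hzc := hkc hz
  obtain ⟨a, ha⟩ := hU ⟨u, hu⟩
  obtain ⟨b, hb⟩ := hU ⟨u', hu'⟩
  have ha' : u ^ p ^ a = 1 := by
    have h2 := congrArg Subtype.val ha
    simpa using h2
  have hb' : u' ^ p ^ b = 1 := by
    have h2 := congrArg Subtype.val hb
    simpa using h2
  have h1 : (x * u * x⁻¹) ^ p ^ (a + b) = 1 := by
    rw [conj_pow, pow_add, pow_mul, ha', one_pow, mul_one, mul_inv_cancel]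
  have h2 : u' ^ p ^ (a + b) = 1 := by
    rw [pow_add, mul_comm, pow_mul, hb', one_pow]
  have h3 : x * u * x⁻¹ = u' * z := by rw [hzdef]; group
  have hcomm : Commute u' z := Subgroup.mem_center_iff.mp hzc u'
  have h4 : z ^ p ^ (a + b) = 1 := by
    have h5 := hcomm.mul_pow (p ^ (a + b))
    rw [← h3, h1, h2, one_mul] at h5
    exact h5.symm
  have hz1 : z = 1 := hkp z hz _ h4
  rw [h3, hz1, mul_one]
  exact hu'

omit [Finite G] in
theorem lift_mem_normalizer (ψ : L →* G) (hkc : ψ.ker ≤ Subgroup.center L)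
    (hkp : ∀ z ∈ ψ.ker, ∀ k : ℕ, z ^ p ^ k = 1 → z = 1) (U : Subgroup L) (hU : IsPGroup p U)
    {x : L} (hx : ψ x ∈ Subgroup.normalizer ((U.map ψ : Subgroup G) : Set G)) :
    x ∈ Subgroup.normalizer (U : Set L) := by
  have key : ∀ y : L, ψ y ∈ Subgroup.normalizer ((U.map ψ : Subgroup G) : Set G) →
      ∀ u ∈ U, y * u * y⁻¹ ∈ U := by
    intro y hy u hu
    apply lift_conj_mem ψ hkc hkp U hU hu
    rw [map_mul, map_mul, map_inv]
    exact (Subgroup.mem_normalizer_iff.mp hy (ψ u)).mp (Subgroup.mem_map_of_mem ψ hu)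
  apply mem_normalizer_of_conj_mem (key x hx)
  intro u hu
  have h1 := key x⁻¹ (by rw [map_inv]; exact Subgroup.inv_mem _ hx) u hu
  rwa [inv_inv] at h1

/-- the simplicity criterion pushed forward along a central cover of `p'`-kernel -/
theorem simple_of_cover (ψ : L →* G) (hψ : Function.Surjective ψ)
    (hkc : ψ.ker ≤ Subgroup.center L)
    (hkp : ∀ z ∈ ψ.ker, ∀ k : ℕ, z ^ p ^ k = 1 → z = 1)
    (U : Subgroup L) (hU : IsPGroup p U) (hU1 : U ≠ ⊥)
    (S : Sylow p G) (hSU : (S : Subgroup G) = U.map ψ)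
    (ha : ∀ T : Subgroup L, T ≤ U → T ≠ ⊥ →
      (∀ t ∈ T, ∀ x : L, x * t * x⁻¹ ∈ U → x * t * x⁻¹ ∈ T) → T = U)
    (𝓡 : Set (Subgroup L))
    (h𝓡 : ∀ R ∈ 𝓡, R ≤ U ∧ (∀ u ∈ U, ∀ r ∈ R, u * r * u⁻¹ ∈ R) ∧
      ∀ u ∈ U, (∀ r ∈ R, u * r = r * u) → u ∈ R)
    (Y : Set L)
    (hY : ∀ y ∈ Y, y ∈ Subgroup.normalizer (U : Set L) ∧ ∃ R ∈ 𝓡,
      y ∈ Subgroup.closure {z : L | z ∈ Subgroup.normalizer (R : Set L) ∧
        ∃ k : ℕ, z ^ p ^ k = 1})
    (hN : Subgroup.normalizer (U : Set L) ≤ Subgroup.closure (Y ∪ (U : Set L))) :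
    (groupFusionSystem (S : Subgroup G)).IsSimple p := by
  have hinj : ∀ u ∈ U, ψ u = 1 → u = 1 := by
    intro u hu h1
    obtain ⟨k, hk⟩ := hU ⟨u, hu⟩
    refine hkp u h1 k ?_
    have h2 := congrArg Subtype.val hk
    simpa using h2
  have hS1 : (S : Subgroup G) ≠ ⊥ := by
    intro hb
    apply hU1
    rw [Subgroup.eq_bot_iff_forall]
    intro u hu
    apply hinj u hu
    have h2 : ψ u ∈ (S : Subgroup G) := by rw [hSU]; exact Subgroup.mem_map_of_mem ψ hu
    rw [hb] at h2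
    exact Subgroup.mem_bot.mp h2
  have ha' : ∀ T : Subgroup G, (groupFusionSystem (S : Subgroup G)).StronglyClosed T →
      T = ⊥ ∨ T = (S : Subgroup G) := by
    intro T hT
    by_cases hbot : T = ⊥
    · exact Or.inl hbot
    right
    apply le_antisymm hT.1
    have hne : U ⊓ T.comap ψ ≠ ⊥ := by
      intro h0
      apply hbot
      rw [Subgroup.eq_bot_iff_forall]
      intro s hs
      have hsS : s ∈ U.map ψ := by rw [← hSU]; exact hT.1 hs
      obtain ⟨u, hu, rfl⟩ := Subgroup.mem_map.mp hsS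
      have h2 : u ∈ U ⊓ T.comap ψ := Subgroup.mem_inf.mpr ⟨hu, Subgroup.mem_comap.mpr hs⟩
      rw [h0] at h2
      rw [Subgroup.mem_bot.mp h2, map_one]
    have hcl : ∀ t ∈ U ⊓ T.comap ψ, ∀ x : L, x * t * x⁻¹ ∈ U →
        x * t * x⁻¹ ∈ U ⊓ T.comap ψ := by
      intro t ht x hx
      obtain ⟨htU, htT⟩ := Subgroup.mem_inf.mp ht
      refine Subgroup.mem_inf.mpr ⟨hx, ?_⟩
      rw [Subgroup.mem_comap, map_mul, map_mul, map_inv]
      apply stronglyClosed_conj_mem hT (Subgroup.mem_comap.mp htT)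
      rw [hSU, ← map_inv, ← map_mul, ← map_mul]
      exact Subgroup.mem_map_of_mem ψ hx
    have hTU := ha _ inf_le_left hne hcl
    rw [hSU]
    rintro _ ⟨u, hu, rfl⟩
    have h2 : u ∈ U ⊓ T.comap ψ := by rw [hTU]; exact hu
    exact (Subgroup.mem_inf.mp h2).2
  have hF := groupFusion_saturated S
  have hRimg : ∀ R ∈ 𝓡, (groupFusionSystem (S : Subgroup G)).IsFullyNormalized (R.map ψ) ∧
      (groupFusionSystem (S : Subgroup G)).IsCentric (R.map ψ) := by
    intro R hR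
    obtain ⟨hRU, hRn, hRc⟩ := h𝓡 R hR
    have hRS : R.map ψ ≤ (S : Subgroup G) := by rw [hSU]; exact Subgroup.map_mono hRU
    have hNS : (S : Subgroup G) ≤ Subgroup.normalizer ((R.map ψ : Subgroup G) : Set G) := by
      rw [hSU]
      rintro _ ⟨u, hu, rfl⟩
      apply mem_normalizer_of_conj_mem
      · rintro _ ⟨r, hr, rfl⟩
        rw [← map_inv, ← map_mul, ← map_mul]
        exact Subgroup.mem_map_of_mem ψ (hRn u hu r hr)
      · rintro _ ⟨r, hr, rfl⟩
        rw [← map_inv, ← map_mul, ← map_mul]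
        have h2 := hRn u⁻¹ (U.inv_mem hu) r hr
        rw [inv_inv] at h2
        exact Subgroup.mem_map_of_mem ψ h2
    refine ⟨fullyNormalized_of_le_normalizer _ hRS hNS,
      centric_of_selfCentralizing S hRS hNS ?_⟩
    intro s hs hcomm
    rw [hSU] at hs
    obtain ⟨u, hu, rfl⟩ := Subgroup.mem_map.mp hs
    apply Subgroup.mem_map_of_mem ψ
    apply hRc u hu
    intro r hr
    have h1 : ψ (u * r * u⁻¹ * r⁻¹) = 1 := by
      rw [map_mul, map_mul, map_mul, map_inv, map_inv,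
        hcomm (ψ r) (Subgroup.mem_map_of_mem ψ hr)]
      group
    have h2 : u * r * u⁻¹ * r⁻¹ ∈ U :=
      U.mul_mem (U.mul_mem (U.mul_mem hu (hRU hr)) (U.inv_mem hu)) (U.inv_mem (hRU hr))
    have h3 := hinj _ h2 h1
    calc u * r = u * r * u⁻¹ * r⁻¹ * (r * u) := by group
      _ = r * u := by rw [h3, one_mul]
  apply simple_of_fn_centric S hS1 ha'
  obtain ⟨A, hAdef⟩ : ∃ A : Subgroup (MulAut ↥(S : Subgroup G)), A = ⨆ (R : Subgroup G) (_ : (Cfsg.groupFusionSystem (S : Subgroup G)).IsFullyNormalized R ∧ (Cfsg.groupFusionSystem (S : Subgroup G)).IsCentric R), Cfsg.autInducedBy (Subgroup.closure {g : G | g ∈ Subgroup.normalizer (R : Set G) ∧ ∃ k : ℕ, orderOf g = p ^ k}) (S : Subgroup G) := ⟨_, rfl⟩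
  rw [← hAdef]
  have hp : p.Prime := Fact.out
  have key : ∀ g ∈ Subgroup.closure (ψ '' (Y ∪ (U : Set L))),
      ∃ hg : g ∈ Subgroup.normalizer (((S : Subgroup G)) : Set G),
        conjAut (S : Subgroup G) ⟨g, hg⟩ ∈ A := by
    intro g hg
    induction hg using Subgroup.closure_induction with
    | mem g hg =>
      obtain ⟨y, hy, rfl⟩ := hg
      rcases hy with hyY | hyU
      · obtain ⟨hyN, R, hR, hyR⟩ := hY y hyY
        have hyN' : ψ y ∈ Subgroup.normalizer (((S : Subgroup G)) : Set G) := by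
          rw [hSU]
          exact Subgroup.le_normalizer_map ψ (Subgroup.mem_map_of_mem ψ hyN)
        refine ⟨hyN', ?_⟩
        rw [hAdef]
        obtain ⟨hfn, hce⟩ := hRimg R hR
        refine Subgroup.mem_iSup_of_mem (R.map ψ) (Subgroup.mem_iSup_of_mem ⟨hfn, hce⟩ ?_)
        rw [mem_autInducedBy_iff]
        refine ⟨ψ y, ?_, fun s => rfl⟩
        have hle : (Subgroup.closure {z : L | z ∈ Subgroup.normalizer (R : Set L) ∧
            ∃ k : ℕ, z ^ p ^ k = 1}).map ψ ≤
            Subgroup.closure {g : G | g ∈ Subgroup.normalizer ((R.map ψ : Subgroup G) : Set G) ∧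
              ∃ k : ℕ, orderOf g = p ^ k} := by
          rw [MonoidHom.map_closure, Subgroup.closure_le]
          rintro _ ⟨z, ⟨hzN, k, hk⟩, rfl⟩
          apply Subgroup.subset_closure
          refine ⟨Subgroup.le_normalizer_map ψ (Subgroup.mem_map_of_mem ψ hzN), ?_⟩
          have hd : orderOf (ψ z) ∣ p ^ k := by
            apply orderOf_dvd_of_pow_eq_one
            rw [← map_pow, hk, map_one]
          obtain ⟨j, -, hj⟩ := (Nat.dvd_prime_pow hp).1 hd
          exact ⟨j, hj⟩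
        exact hle (Subgroup.mem_map_of_mem ψ hyR)
      · have hyS : ψ y ∈ (S : Subgroup G) := by
          rw [hSU]; exact Subgroup.mem_map_of_mem ψ hyU
        refine ⟨Subgroup.le_normalizer hyS, ?_⟩
        rw [hAdef]
        refine Subgroup.mem_iSup_of_mem (S : Subgroup G)
          (Subgroup.mem_iSup_of_mem ⟨fullyNormalized_top _, centric_top _⟩ ?_)
        rw [mem_autInducedBy_iff]
        refine ⟨ψ y, ?_, fun s => rfl⟩
        apply Subgroup.subset_closure
        refine ⟨Subgroup.le_normalizer hyS, ?_⟩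
        obtain ⟨k, hk⟩ := S.isPGroup' ⟨ψ y, hyS⟩
        have hd : orderOf (ψ y) ∣ p ^ k := by
          apply orderOf_dvd_of_pow_eq_one
          have h2 := congrArg Subtype.val hk
          simpa using h2
        obtain ⟨j, -, hj⟩ := (Nat.dvd_prime_pow hp).1 hd
        exact ⟨j, hj⟩
    | one =>
      refine ⟨Subgroup.one_mem _, ?_⟩
      have e : (⟨1, Subgroup.one_mem _⟩ :
          ↥(Subgroup.normalizer (((S : Subgroup G)) : Set G))) = 1 := rfl
      rw [e, map_one]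
      exact Subgroup.one_mem _
    | mul x y _ _ ihx ihy =>
      obtain ⟨hx, hx'⟩ := ihx
      obtain ⟨hy, hy'⟩ := ihy
      refine ⟨Subgroup.mul_mem _ hx hy, ?_⟩
      have e : (⟨x * y, Subgroup.mul_mem _ hx hy⟩ :
          ↥(Subgroup.normalizer (((S : Subgroup G)) : Set G))) = ⟨x, hx⟩ * ⟨y, hy⟩ := rfl
      rw [e, map_mul]
      exact Subgroup.mul_mem _ hx' hy'
    | inv x _ ihx =>
      obtain ⟨hx, hx'⟩ := ihx
      refine ⟨Subgroup.inv_mem _ hx, ?_⟩
      have e : (⟨x⁻¹, Subgroup.inv_mem _ hx⟩ :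
          ↥(Subgroup.normalizer (((S : Subgroup G)) : Set G))) = ⟨x, hx⟩⁻¹ := rfl
      rw [e, map_inv]
      exact Subgroup.inv_mem _ hx'
  intro α hα
  obtain ⟨g, -, hgα⟩ := (mem_autInducedBy_iff ⊤ _ α).mp hα
  have hgN : g ∈ Subgroup.normalizer (((S : Subgroup G)) : Set G) :=
    mem_normalizer_of_induces α hgα
  obtain ⟨x, rfl⟩ := hψ g
  have hxN : x ∈ Subgroup.normalizer (U : Set L) :=
    lift_mem_normalizer ψ hkc hkp U hU (by rw [← hSU]; exact hgN)
  have hxc := hN hxN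
  have hmem : ψ x ∈ Subgroup.closure (ψ '' (Y ∪ (U : Set L))) := by
    rw [← MonoidHom.map_closure]
    exact Subgroup.mem_map_of_mem ψ hxc
  obtain ⟨hy, hmem'⟩ := key _ hmem
  have e : α = conjAut (S : Subgroup G) ⟨ψ x, hy⟩ := by
    ext s
    rw [hgα s]
    rfl
  rw [e]
  exact hmem'

end GroupCase

end Cfsg.Agent.Lib.Helper2.SimpCrit2
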