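import Cfsg.Agent.Lib.Helper2.ExtraSp3
import Cfsg.Agent.Lib.Helper2.D8Syl

set_option autoImplicit false
open Cfsg

namespace Cfsg.Agent.Lib.Helper2.Sing

open Cfsg.Agent.Lib.Helper2.ExtraSp Cfsg.Agent.Lib.Helper2.D8Syl

variable {G : Type*} [Group G]

theorem mem_QQ_conj_iff [Finite G] (x g q : G) :
    q ∈ QQ (g * x * g⁻¹) ↔ g⁻¹ * q * g ∈ QQ x := by
  constructor
  · intro hq
    have h := QQ_conj (g * x * g⁻¹) g⁻¹ hq
    have e1 : g⁻¹ * (g * x * g⁻¹) * g⁻¹⁻¹ = x := by group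
    have e2 : g⁻¹ * q * g⁻¹⁻¹ = g⁻¹ * q * g := by group
    rw [e1, e2] at h; exact h
  · intro hq
    have h := QQ_conj x g hq
    have e : g * (g⁻¹ * q * g) * g⁻¹ = q := by group
    rw [e] at h; exact h

theorem esdata_QQ [Finite G] {z : G} (hz : orderOf z = 2) (hE : IsExtraspecial 2 ↥(QQ z)) :
    ESData (QQ z) z := by
  obtain ⟨z0, hES, -⟩ := esdata_of_extraspecial hE
  have hz1 : z ≠ 1 := by intro h; rw [h, orderOf_one] at hz; norm_num at hz
  have hzQ : z ∈ QQ z := by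
    have hle : Subgroup.zpowers z ≤ QQ z := by
      apply le_QQ
      · rw [Subgroup.zpowers_le, mem_cent_single]
      · apply IsPGroup.of_card (n := 1)
        rw [Nat.card_zpowers, hz]; rfl
      · intro c hc n hn
        obtain ⟨k, rfl⟩ := Subgroup.mem_zpowers_iff.mp hn
        have hcz : c * z = z * c := (mem_cent_single.mp hc).symm
        have hcomm : c * z ^ k = z ^ k * c := (Commute.zpow_right (show Commute c z from hcz) k).eq
        rw [cj_of_comm hcomm]; exact hn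
    exact hle (Subgroup.mem_zpowers z)
  have hzc : ∀ q ∈ QQ z, q * z = z * q := fun q hq => (mem_cent_single.mp (QQ_le z hq)).symm
  have hz0 : z0 = z := by
    rcases hES.center_sub z hzQ hzc with h | h
    · exact absurd h hz1
    · exact h.symm
  rw [hz0] at hES
  exact hES

theorem esdata_QQ_conj [Finite G] {z : G} (hES : ESData (QQ z) z) (g : G) :
    ESData (QQ (g * z * g⁻¹)) (g * z * g⁻¹) where
  two := QQ_two _
  zQ := QQ_conj z g hES.zQ
  z_ne := by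
    intro h1
    apply hES.z_ne
    have h2 : z = g⁻¹ * (g * z * g⁻¹) * g := by group
    rw [h2, h1]; group
  z_sq := by
    calc g * z * g⁻¹ * (g * z * g⁻¹) = g * (z * z) * g⁻¹ := by group
      _ = 1 := by rw [hES.z_sq]; group
  z_comm := fun q hq => (mem_cent_single.mp (QQ_le _ hq)).symm
  center_sub := by
    intro c hc h
    have hc' := (mem_QQ_conj_iff z g c).mp hc
    have h' : ∀ q ∈ QQ z, q * (g⁻¹ * c * g) = (g⁻¹ * c * g) * q := by
      intro q hq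
      have h1 := h (g * q * g⁻¹) (QQ_conj z g hq)
      calc q * (g⁻¹ * c * g) = g⁻¹ * ((g * q * g⁻¹) * c) * g := by group
        _ = g⁻¹ * (c * (g * q * g⁻¹)) * g := by rw [h1]
        _ = (g⁻¹ * c * g) * q := by group
    rcases hES.center_sub _ hc' h' with h2 | h2
    · left
      calc c = g * (g⁻¹ * c * g) * g⁻¹ := by group
        _ = 1 := by rw [h2]; group
    · right
      calc c = g * (g⁻¹ * c * g) * g⁻¹ := by group
        _ = g * z * g⁻¹ := by rw [h2]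
  comm_mem := by
    intro a ha b hb
    have ha' := (mem_QQ_conj_iff z g a).mp ha
    have hb' := (mem_QQ_conj_iff z g b).mp hb
    have e : a * b * a⁻¹ * b⁻¹ =
        g * ((g⁻¹ * a * g) * (g⁻¹ * b * g) * (g⁻¹ * a * g)⁻¹ * (g⁻¹ * b * g)⁻¹) * g⁻¹ := by group
    rcases hES.comm_mem _ ha' _ hb' with h | h
    · left; rw [e, h]; group
    · right; rw [e, h]
  sq_mem := by
    intro a ha
    have ha' := (mem_QQ_conj_iff z g a).mp ha
    have e : a * a = g * ((g⁻¹ * a * g) * (g⁻¹ * a * g)) * g⁻¹ := by group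
    rcases hES.sq_mem _ ha' with h | h
    · left; rw [e, h]; group
    · right; rw [e, h]

/-- In an extraspecial 2-group, an element outside a subgroup `B ∋ z` is moved by some element
centralizing `B` (the double centralizer property). -/
theorem exists_centralizing_swap [Finite G] {Q : Subgroup G} {z : G} (hES : ESData Q z)
    (B : Subgroup G) : B ≤ Q → z ∈ B → ∀ y ∈ Q, y ∉ B →
      ∃ g ∈ Q, (∀ b ∈ B, g * b = b * g) ∧ g * y * g⁻¹ = y * z := by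
  refine WellFoundedLT.induction (motive := fun B : Subgroup G => B ≤ Q → z ∈ B → ∀ y ∈ Q, y ∉ B →
      ∃ g ∈ Q, (∀ b ∈ B, g * b = b * g) ∧ g * y * g⁻¹ = y * z) B ?_
  intro B ih hBQ hzB y hyQ hyB
  have hzo : orderOf z = 2 := by
    apply orderOf_eq_prime
    · rw [pow_two]; exact hES.z_sq
    · exact hES.z_ne
  by_cases hsmall : ∀ b ∈ B, b = 1 ∨ b = z
  · have hy1 : y ≠ 1 := fun h => hyB (h ▸ B.one_mem)
    have hyz : y ≠ z := fun h => hyB (h ▸ hzB)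
    obtain ⟨q, hq, hqy⟩ := exists_swap hES hyQ hy1 hyz
    refine ⟨q, hq, ?_, hqy⟩
    intro b hb
    rcases hsmall b hb with h | h
    · rw [h, mul_one, one_mul]
    · rw [h]; exact hES.z_comm q hq
  · push Not at hsmall
    obtain ⟨b₀, hb₀B, hb₀1, hb₀z⟩ := hsmall
    have hgood : Good B (Subgroup.zpowers z) := by
      refine ⟨?_, ?_, ?_⟩
      · rw [Subgroup.zpowers_le]; exact hzB
      · intro a ha
        rcases hES.sq_mem a (hBQ ha) with h | h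
        · rw [h]; exact Subgroup.one_mem _
        · rw [h]; exact Subgroup.mem_zpowers z
      · intro a ha b hb
        rcases hES.comm_mem a (hBQ ha) b (hBQ hb) with h | h
        · rw [h]; exact Subgroup.one_mem _
        · rw [h]; exact Subgroup.mem_zpowers z
    have hb₀Z : b₀ ∉ Subgroup.zpowers z := by
      intro h
      rcases mem_zpowers_two hzo h with h1 | h1
      · exact hb₀1 h1
      · exact hb₀z h1
    obtain ⟨B₀, hZB₀, hB₀B, hb₀B₀, hidx⟩ := exists_relIndex_two hgood b₀ hb₀B hb₀Z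
    have hzB₀ : z ∈ B₀ := hZB₀ (Subgroup.mem_zpowers z)
    have hlt : B₀ < B := lt_of_le_of_ne hB₀B (fun h => hb₀B₀ (h ▸ hb₀B))
    obtain ⟨a, haB, haB₀, hcos⟩ := Subgroup.relIndex_eq_two_iff_exists_notMem_and.mp hidx
    have haQ := hBQ haB
    have hyB₀ : y ∉ B₀ := fun h => hyB (hB₀B h)
    have hayB₀ : a * y ∉ B₀ := by
      intro h
      apply hyB
      have e : y = a⁻¹ * (a * y) := by group
      rw [e]
      exact B.mul_mem (B.inv_mem haB) (hB₀B h)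
    obtain ⟨g₁, hg₁Q, hg₁c, hg₁y⟩ := ih B₀ hlt (hB₀B.trans hBQ) hzB₀ y hyQ hyB₀
    obtain ⟨g₃, hg₃Q, hg₃c, hg₃y⟩ :=
      ih B₀ hlt (hB₀B.trans hBQ) hzB₀ (a * y) (Q.mul_mem haQ hyQ) hayB₀
    have hall : ∀ g, (∀ b ∈ B₀, g * b = b * g) → g * a = a * g → ∀ b ∈ B, g * b = b * g := by
      intro g hg hga b hb
      rcases hcos b hb with h | h
      · have h1 := hg _ h
        calc g * b = (g * (b * a)) * a⁻¹ := by group
          _ = ((b * a) * g) * a⁻¹ := by rw [h1]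
          _ = b * (a * g) * a⁻¹ := by group
          _ = b * (g * a) * a⁻¹ := by rw [hga]
          _ = b * g := by group
      · exact hg b h
    have hmove : ∀ g ∈ Q, g * a ≠ a * g → g * a * g⁻¹ = a * z := by
      intro g hgQ hga
      rcases hES.comm_mem g hgQ a haQ with h | h
      · exact absurd (eq_of_comm_one h) hga
      · calc g * a * g⁻¹ = (g * a * g⁻¹ * a⁻¹) * a := by group
          _ = z * a := by rw [h]
          _ = a * z := (hES.z_comm a haQ).symm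
    by_cases h1a : g₁ * a = a * g₁
    · exact ⟨g₁, hg₁Q, hall g₁ hg₁c h1a, hg₁y⟩
    · have e1 := hmove g₁ hg₁Q h1a
      by_cases h3a : g₃ * a = a * g₃
      · refine ⟨g₃, hg₃Q, hall g₃ hg₃c h3a, ?_⟩
        have e3 : g₃ * a * g₃⁻¹ = a := cj_of_comm h3a
        calc g₃ * y * g₃⁻¹ = (g₃ * a * g₃⁻¹)⁻¹ * (g₃ * (a * y) * g₃⁻¹) := by group
          _ = a⁻¹ * (a * y * z) := by rw [e3, hg₃y]
          _ = y * z := by group
      · have e3 := hmove g₃ hg₃Q h3a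
        have e4 : g₃ * y * g₃⁻¹ = y := by
          calc g₃ * y * g₃⁻¹ = (g₃ * a * g₃⁻¹)⁻¹ * (g₃ * (a * y) * g₃⁻¹) := by group
            _ = (a * z)⁻¹ * (a * y * z) := by rw [e3, hg₃y]
            _ = z⁻¹ * (y * z) := by group
            _ = z⁻¹ * (z * y) := by rw [hES.z_comm y hyQ]
            _ = y := by group
        refine ⟨g₁ * g₃, Q.mul_mem hg₁Q hg₃Q, hall (g₁ * g₃) ?_ ?_, ?_⟩
        · intro b hb
          calc g₁ * g₃ * b = g₁ * (g₃ * b) := by group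
            _ = g₁ * (b * g₃) := by rw [hg₃c b hb]
            _ = (g₁ * b) * g₃ := by group
            _ = (b * g₁) * g₃ := by rw [hg₁c b hb]
            _ = b * (g₁ * g₃) := by group
        · apply comm_of_cj
          calc g₁ * g₃ * a * (g₁ * g₃)⁻¹ = g₁ * (g₃ * a * g₃⁻¹) * g₁⁻¹ := by group
            _ = g₁ * (a * z) * g₁⁻¹ := by rw [e3]
            _ = (g₁ * a * g₁⁻¹) * (g₁ * z * g₁⁻¹) := by group
            _ = (a * z) * z := by rw [e1, cj_of_comm (hES.z_comm g₁ hg₁Q)]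
            _ = a := by rw [mul_assoc, hES.z_sq, mul_one]
        · calc g₁ * g₃ * y * (g₁ * g₃)⁻¹ = g₁ * (g₃ * y * g₃⁻¹) * g₁⁻¹ := by group
            _ = g₁ * y * g₁⁻¹ := by rw [e4]
            _ = y * z := hg₁y

/-- the singular-subgroup setting (with `Q = QQ`) -/
structure Setting (z : G) (U : Subgroup G) : Prop where
  hES : ESData (QQ z) z
  hU2 : ∀ u ∈ U, u * u = 1
  hS : ∀ u ∈ U, u ≠ 1 → ∃ g : G, g * z * g⁻¹ = u
  hO : ∀ u ∈ U, ∀ v ∈ U, u ≠ 1 → v ≠ 1 → v ∈ QQ u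

theorem Setting.es [Finite G] {z : G} {U : Subgroup G} (h : Setting z U) {u : G} (hu : u ∈ U)
    (hu1 : u ≠ 1) : ESData (QQ u) u := by
  obtain ⟨g, hg⟩ := h.hS u hu hu1
  rw [← hg]
  exact esdata_QQ_conj h.hES g

theorem Setting.le {z : G} {U : Subgroup G} (h : Setting z U) {u : G} (hu : u ∈ U)
    (hu1 : u ≠ 1) : U ≤ QQ u := by
  intro v hv
  by_cases hv1 : v = 1
  · rw [hv1]; exact Subgroup.one_mem _
  · exact h.hO u hu v hv hu1 hv1

theorem Setting.comm [Finite G] {z : G} {U : Subgroup G} (h : Setting z U) :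
    ∀ a ∈ U, ∀ b ∈ U, a * b = b * a := by
  intro a ha b hb
  by_cases ha1 : a = 1
  · rw [ha1, one_mul, mul_one]
  · exact ((h.es ha ha1).z_comm b (h.le ha ha1 hb)).symm

theorem Setting.inv_eq {z : G} {U : Subgroup G} (h : Setting z U) {u : G} (hu : u ∈ U) :
    u⁻¹ = u := inv_eq_of_mul_eq_one_right (h.hU2 u hu)

theorem Setting.conj_mem [Finite G] {z : G} {U : Subgroup G} (h : Setting z U) {u : G}
    (hu : u ∈ U) (hu1 : u ≠ 1) {q : G} (hq : q ∈ QQ u) {v : G} (hv : v ∈ U) :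
    q * v * q⁻¹ ∈ U := by
  have hes := h.es hu hu1
  rcases hes.comm_mem q hq v (h.le hu hu1 hv) with h1 | h1
  · have e : q * v * q⁻¹ = (q * v * q⁻¹ * v⁻¹) * v := by group
    rw [e, h1, one_mul]; exact hv
  · have e : q * v * q⁻¹ = (q * v * q⁻¹ * v⁻¹) * v := by group
    rw [e, h1]; exact U.mul_mem hu hv

theorem Setting.normalizes [Finite G] {z : G} {U : Subgroup G} (h : Setting z U) {u : G}
    (hu : u ∈ U) (hu1 : u ≠ 1) : QQ u ≤ Subgroup.normalizer (U : Set G) := by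
  intro q hq
  apply mem_normalizer_of_conj_le
  intro v hv
  exact h.conj_mem hu hu1 hq hv

/-- the line lemma: `Q u ∩ Q v ≤ Q (u v)` -/
theorem Setting.line [Finite G] {z : G} {U : Subgroup G} (h : Setting z U) {u v : G}
    (hu : u ∈ U) (hv : v ∈ U) (hu1 : u ≠ 1) (hv1 : v ≠ 1) (huv : u ≠ v) :
    QQ u ⊓ QQ v ≤ QQ (u * v) := by
  intro a ha
  obtain ⟨hau, hav⟩ := Subgroup.mem_inf.mp ha
  have hes := h.es hu hu1
  have hvQ : v ∈ QQ u := h.le hu hu1 hv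
  obtain ⟨q, hq, hqv⟩ := exists_swap hes hvQ hv1 (Ne.symm huv)
  -- q v q⁻¹ = v * u
  have huvc : v * u = u * v := h.comm v hv u hu
  have h1 : q * a * q⁻¹ ∈ QQ (q * v * q⁻¹) := QQ_conj v q hav
  rw [hqv, huvc] at h1
  have huv1 : u * v ≠ 1 := by
    intro h2
    apply huv
    calc u = (u * v) * v⁻¹ := by group
      _ = v⁻¹ := by rw [h2, one_mul]
      _ = v := h.inv_eq hv
  have huQ : u ∈ QQ (u * v) := h.le (U.mul_mem hu hv) huv1 hu
  rcases hes.comm_mem q hq a hau with h2 | h2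
  · have e : a = (q * a * q⁻¹ * a⁻¹)⁻¹ * (q * a * q⁻¹) := by group
    rw [e, h2, inv_one, one_mul]; exact h1
  · have e : a = (q * a * q⁻¹ * a⁻¹)⁻¹ * (q * a * q⁻¹) := by group
    rw [e, h2]
    exact Subgroup.mul_mem _ (Subgroup.inv_mem _ huQ) h1

/-- elements normalizing `U` whose commutators with `A` lie in `U` -/
def commInto (A U : Subgroup G) : Subgroup G where
  carrier := {g | g ∈ Subgroup.normalizer (U : Set G) ∧ ∀ x ∈ A, g * x * g⁻¹ * x⁻¹ ∈ U}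
  one_mem' := ⟨Subgroup.one_mem _, fun x _ => by
    have e : (1 : G) * x * 1⁻¹ * x⁻¹ = 1 := by group
    rw [e]; exact U.one_mem⟩
  mul_mem' := by
    rintro g k ⟨hg, hg'⟩ ⟨hk, hk'⟩
    refine ⟨Subgroup.mul_mem _ hg hk, ?_⟩
    intro x hx
    have e : g * k * x * (g * k)⁻¹ * x⁻¹ =
        (g * (k * x * k⁻¹ * x⁻¹) * g⁻¹) * (g * x * g⁻¹ * x⁻¹) := by group
    rw [e]
    exact U.mul_mem ((Subgroup.mem_normalizer_iff.mp hg _).mp (hk' x hx)) (hg' x hx)
  inv_mem' := by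
    rintro g ⟨hg, hg'⟩
    have hgi : g⁻¹ ∈ Subgroup.normalizer (U : Set G) := Subgroup.inv_mem _ hg
    refine ⟨hgi, ?_⟩
    intro x hx
    have e : g⁻¹ * x * g⁻¹⁻¹ * x⁻¹ = g⁻¹ * (g * x * g⁻¹ * x⁻¹)⁻¹ * g⁻¹⁻¹ := by group
    rw [e]
    exact (Subgroup.mem_normalizer_iff.mp hgi _).mp (U.inv_mem (hg' x hx))

theorem mem_commInto {A U : Subgroup G} {g : G} : g ∈ commInto A U ↔
    (g ∈ Subgroup.normalizer (U : Set G) ∧ ∀ x ∈ A, g * x * g⁻¹ * x⁻¹ ∈ U) := Iff.rfl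

/-- the subgroup of `U` fixed by `u ↦ g₀ φ(u) g₀⁻¹` -/
def fixSub (U : Subgroup G) (φ : ↥U ≃* ↥U) (g₀ : G) : Subgroup G where
  carrier := {u | ∃ hu : u ∈ U, g₀ * ((φ ⟨u, hu⟩ : ↥U) : G) * g₀⁻¹ = u}
  one_mem' := ⟨U.one_mem, by
    have e : (⟨1, U.one_mem⟩ : ↥U) = 1 := rfl
    rw [e, map_one, Subgroup.coe_one]; group⟩
  mul_mem' := by
    rintro a b ⟨ha, ha'⟩ ⟨hb, hb'⟩
    refine ⟨U.mul_mem ha hb, ?_⟩
    have e : (⟨a * b, U.mul_mem ha hb⟩ : ↥U) = ⟨a, ha⟩ * ⟨b, hb⟩ := rfl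
    rw [e, map_mul, Subgroup.coe_mul]
    calc g₀ * (((φ ⟨a, ha⟩ : ↥U) : G) * ((φ ⟨b, hb⟩ : ↥U) : G)) * g₀⁻¹
        = (g₀ * ((φ ⟨a, ha⟩ : ↥U) : G) * g₀⁻¹) * (g₀ * ((φ ⟨b, hb⟩ : ↥U) : G) * g₀⁻¹) := by group
      _ = a * b := by rw [ha', hb']
  inv_mem' := by
    rintro a ⟨ha, ha'⟩
    refine ⟨U.inv_mem ha, ?_⟩
    have e : (⟨a⁻¹, U.inv_mem ha⟩ : ↥U) = (⟨a, ha⟩ : ↥U)⁻¹ := rfl
    rw [e, map_inv, Subgroup.coe_inv]
    calc g₀ * (((φ ⟨a, ha⟩ : ↥U) : G))⁻¹ * g₀⁻¹ = (g₀ * ((φ ⟨a, ha⟩ : ↥U) : G) * g₀⁻¹)⁻¹ := by group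
      _ = a⁻¹ := by rw [ha']

theorem mem_fixSub {U : Subgroup G} {φ : ↥U ≃* ↥U} {g₀ u : G} : u ∈ fixSub U φ g₀ ↔
    ∃ hu : u ∈ U, g₀ * ((φ ⟨u, hu⟩ : ↥U) : G) * g₀⁻¹ = u := Iff.rfl

theorem induce_all [Finite G] {z : G} {U : Subgroup G} (h : Setting z U) (LU : Subgroup G)
    (hLU : ∀ u ∈ U, u ≠ 1 → QQ u ≤ LU) (hLUN : LU ≤ Subgroup.normalizer (U : Set G))
    (φ : ↥U ≃* ↥U) (F : Subgroup G) : ∀ g₀ : G, g₀ ∈ LU → fixSub U φ g₀ = F →
      ∃ g ∈ LU, ∀ u : ↥U, g * ((φ u : ↥U) : G) * g⁻¹ = (u : G) := by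
  refine WellFoundedGT.induction (motive := fun F : Subgroup G => ∀ g₀ : G, g₀ ∈ LU →
    fixSub U φ g₀ = F → ∃ g ∈ LU, ∀ u : ↥U, g * ((φ u : ↥U) : G) * g⁻¹ = (u : G)) F ?_
  intro F ih g₀ hg₀ hF
  by_cases hall : ∀ u ∈ U, u ∈ F
  · refine ⟨g₀, hg₀, ?_⟩
    intro u
    have h1 := hall u.1 u.2
    rw [← hF] at h1
    obtain ⟨hu, hu'⟩ := mem_fixSub.mp h1
    exact hu'
  · push Not at hall
    obtain ⟨a, haU, haF⟩ := hall
    obtain ⟨v, hvdef⟩ : ∃ v, v = g₀ * ((φ ⟨a, haU⟩ : ↥U) : G) * g₀⁻¹ := ⟨_, rfl⟩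
    have hvU : v ∈ U := by
      rw [hvdef]
      exact (Subgroup.mem_normalizer_iff.mp (hLUN hg₀) _).mp (φ ⟨a, haU⟩).2
    have hva : v ≠ a := by
      intro hva
      apply haF
      rw [← hF]
      exact mem_fixSub.mpr ⟨haU, by rw [← hvdef, hva]⟩
    have hvF : v ∉ F := by
      intro hvF
      rw [← hF] at hvF
      obtain ⟨hv', hv''⟩ := mem_fixSub.mp hvF
      have h1 : ((φ ⟨v, hv'⟩ : ↥U) : G) = ((φ ⟨a, haU⟩ : ↥U) : G) := by
        have h2 : g₀ * ((φ ⟨v, hv'⟩ : ↥U) : G) * g₀⁻¹ = g₀ * ((φ ⟨a, haU⟩ : ↥U) : G) * g₀⁻¹ := by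
          rw [hv'']; exact hvdef
        exact mul_left_cancel (mul_right_cancel h2)
      have h3 : (⟨v, hv'⟩ : ↥U) = ⟨a, haU⟩ := φ.injective (Subtype.ext h1)
      exact hva (congrArg Subtype.val h3)
    have hcomm := h.comm
    have hvv : v * v = 1 := h.hU2 v hvU
    have haa : a * a = 1 := h.hU2 a haU
    obtain ⟨w, hwdef⟩ : ∃ w, w = v * a := ⟨_, rfl⟩
    have hwU : w ∈ U := by rw [hwdef]; exact U.mul_mem hvU haU
    have hw1 : w ≠ 1 := by
      intro hw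
      apply hva
      rw [hwdef] at hw
      calc v = (v * a) * a⁻¹ := by group
        _ = a⁻¹ := by rw [hw, one_mul]
        _ = a := inv_eq_of_mul_eq_one_right haa
    have hFU : F ≤ U := by
      rw [← hF]
      intro u hu
      obtain ⟨hu', -⟩ := mem_fixSub.mp hu
      exact hu'
    have hgoodF : Good U F := by
      refine ⟨hFU, ?_, ?_⟩
      · intro b hb
        rw [h.hU2 b hb]; exact F.one_mem
      · intro b hb c hc
        have e : b * c * b⁻¹ * c⁻¹ = 1 := by rw [hcomm b hb c hc]; group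
        rw [e]; exact F.one_mem
    obtain ⟨N, hNdef⟩ : ∃ N, N = adj hgoodF w hwU := ⟨_, rfl⟩
    have hgoodN : Good U N := by rw [hNdef]; exact good_adj hgoodF w hwU
    have hNmem : ∀ b, b ∈ N ↔ (b ∈ F ∨ w * b ∈ F) := by
      intro b; rw [hNdef]; exact mem_adj hgoodF w hwU b
    have hvN : v ∉ N := by
      rw [hNmem]
      rintro (h1 | h1)
      · exact hvF h1
      · apply haF
        have e : w * v = a := by
          rw [hwdef, hcomm v hvU a haU, mul_assoc, hvv, mul_one]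
        rw [e] at h1; exact h1
    obtain ⟨H, hNH, hHU, hvH, -⟩ := exists_relIndex_two hgoodN v hvU hvN
    have hwH : w ∈ H := hNH ((hNmem w).mpr (Or.inr (by rw [h.hU2 w hwU]; exact F.one_mem)))
    have hFH : F ≤ H := fun b hb => hNH ((hNmem b).mpr (Or.inl hb))
    have hesw := h.es hwU hw1
    obtain ⟨g₁, hg₁Q, hg₁c, hg₁v⟩ := exists_centralizing_swap hesw H
      (hHU.trans (h.le hwU hw1)) hwH v (h.le hwU hw1 hvU) hvH
    have hg₁a : g₁ * v * g₁⁻¹ = a := by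
      rw [hg₁v, hwdef, ← mul_assoc, hvv, one_mul]
    have hg₁LU : g₁ ∈ LU := hLU w hwU hw1 hg₁Q
    have hgt : F < fixSub U φ (g₁ * g₀) := by
      refine lt_of_le_of_ne ?_ ?_
      · intro b hb
        have hb' := hb
        rw [← hF] at hb'
        obtain ⟨hbU, hb''⟩ := mem_fixSub.mp hb'
        refine mem_fixSub.mpr ⟨hbU, ?_⟩
        calc g₁ * g₀ * ((φ ⟨b, hbU⟩ : ↥U) : G) * (g₁ * g₀)⁻¹
            = g₁ * (g₀ * ((φ ⟨b, hbU⟩ : ↥U) : G) * g₀⁻¹) * g₁⁻¹ := by group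
          _ = g₁ * b * g₁⁻¹ := by rw [hb'']
          _ = b := cj_of_comm (hg₁c b (hFH hb))
      · intro heq
        apply haF
        rw [heq]
        refine mem_fixSub.mpr ⟨haU, ?_⟩
        calc g₁ * g₀ * ((φ ⟨a, haU⟩ : ↥U) : G) * (g₁ * g₀)⁻¹
            = g₁ * (g₀ * ((φ ⟨a, haU⟩ : ↥U) : G) * g₀⁻¹) * g₁⁻¹ := by group
          _ = g₁ * v * g₁⁻¹ := by rw [← hvdef]
          _ = a := hg₁a
    exact ih _ hgt (g₁ * g₀) (LU.mul_mem hg₁LU hg₀) rfl

end Cfsg.Agent.Lib.Helper2.Sing
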