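import Mathlib

/-!
# Soft subgroups of `p`-groups (Héthelyi)

`E ≤ P` is *soft* when `E` is abelian, `C_P(E) ≤ E` and `|N_P(E) : E| = p`.
-/

set_option autoImplicit false

namespace Cfsg.Agent.Lib.Helper2.SoftLib

variable {P : Type*} [Group P]

structure Soft (p : ℕ) (E : Subgroup P) : Prop where
  comm : IsMulCommutative E
  cent : Subgroup.centralizer (E : Set P) ≤ E
  idx : E.relIndex (Subgroup.normalizer (E : Set P)) = p

/-- No subgroup lies strictly between `E` and `N` when `|N : E|` is prime. -/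
theorem le_of_relIndex_prime {p : ℕ} (hp : p.Prime) {E D N : Subgroup P} (hED : E ≤ D)
    (hDN : D ≤ N) (hidx : E.relIndex N = p) (hne : ¬ D ≤ E) : N ≤ D := by
  have hmul := Subgroup.relIndex_mul_relIndex E D N hED hDN
  rw [hidx] at hmul
  have h1 : E.relIndex D ∣ p := ⟨_, hmul.symm⟩
  rcases (Nat.dvd_prime hp).mp h1 with h2 | h2
  · exact absurd (Subgroup.relIndex_eq_one.mp h2) hne
  · rw [h2] at hmul
    have h3 : D.relIndex N = 1 := by
      have : p * D.relIndex N = p * 1 := by rw [hmul, mul_one]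
      exact Nat.eq_of_mul_eq_mul_left hp.pos this
    exact Subgroup.relIndex_eq_one.mp h3

/-- In a finite `p`-group, a proper subgroup of `K` is properly contained in its normalizer in `K`. -/
theorem exists_mem_normalizer_not_mem [Finite P] {p : ℕ} [hp : Fact p.Prime] (hP : IsPGroup p P)
    {D K : Subgroup P} (hDK : D < K) :
    ∃ k ∈ K, k ∈ Subgroup.normalizer (D : Set P) ∧ k ∉ D := by
  haveI : Group.IsNilpotent ↥K := (hP.to_subgroup K).isNilpotent
  have hnc := Group.normalizerCondition_of_isNilpotent (G := ↥K)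
  have hlt : D.subgroupOf K < ⊤ := by
    rw [lt_top_iff_ne_top, Ne, Subgroup.subgroupOf_eq_top]
    exact not_le_of_gt hDK
  have h1 := hnc _ hlt
  obtain ⟨k, hk1, hk2⟩ := SetLike.exists_of_lt h1
  rw [← Subgroup.subgroupOf_normalizer_eq hDK.le, Subgroup.mem_subgroupOf] at hk1
  rw [Subgroup.mem_subgroupOf] at hk2
  exact ⟨k, k.2, hk1, hk2⟩

variable [Finite P] {p : ℕ} [hp : Fact p.Prime]

/-- Every subgroup properly containing a soft subgroup contains its normalizer. -/
theorem Soft.normalizer_le {E K : Subgroup P} (hP : IsPGroup p P) (h : Soft p E) (hEK : E < K) :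
    Subgroup.normalizer (E : Set P) ≤ K := by
  obtain ⟨k, hkK, hkN, hkE⟩ := exists_mem_normalizer_not_mem hP hEK
  have h1 : Subgroup.normalizer (E : Set P) ≤ K ⊓ Subgroup.normalizer (E : Set P) := by
    apply le_of_relIndex_prime hp.out (le_inf hEK.le Subgroup.le_normalizer) inf_le_right h.idx
    intro hle
    exact hkE (hle ⟨hkK, hkN⟩)
  exact h1.trans inf_le_left

/-- Elements of `E` outside `Z(N_P(E))` have centralizer exactly `E`. -/
theorem Soft.centralizer_singleton {E : Subgroup P} (hP : IsPGroup p P) (h : Soft p E) {s : P}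
    (hsE : s ∈ E) (hs : s ∉ Subgroup.centralizer ((Subgroup.normalizer (E : Set P) : Subgroup P) : Set P))
    (w : P) : w * s = s * w ↔ w ∈ E := by
  haveI := h.comm
  constructor
  · intro hw
    have hEC : E ≤ Subgroup.centralizer {s} := by
      intro e he
      rw [Subgroup.mem_centralizer_singleton_iff]
      exact congrArg Subtype.val (mul_comm' (⟨e, he⟩ : E) ⟨s, hsE⟩)
    by_contra hwE
    have hlt : E < Subgroup.centralizer {s} := by
      refine lt_of_le_of_ne hEC ?_
      intro heq
      apply hwE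
      rw [heq, Subgroup.mem_centralizer_singleton_iff]
      exact hw
    have h1 := h.normalizer_le hP hlt
    apply hs
    rw [Subgroup.mem_centralizer_iff]
    intro n hn
    exact Subgroup.mem_centralizer_singleton_iff.mp (h1 hn)
  · intro hw
    exact congrArg Subtype.val (mul_comm' (⟨w, hw⟩ : E) ⟨s, hsE⟩)

/-- Counting lemma: a subgroup `K ≥ E` has index at most `p` in its normalizer. -/
theorem Soft.relIndex_normalizer_dvd {E K : Subgroup P} (hP : IsPGroup p P) (h : Soft p E)
    (hEK : E ≤ K) : K.relIndex (Subgroup.normalizer (K : Set P)) ∣ p := by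
  classical
  by_cases hEq : K = E
  · rw [hEq, h.idx]
  have hlt : E < K := lt_of_le_of_ne hEK (Ne.symm hEq)
  obtain ⟨N₁, hN₁⟩ : ∃ N₁, N₁ = Subgroup.normalizer (E : Set P) := ⟨_, rfl⟩
  have hEN₁ : E ≤ N₁ := hN₁ ▸ Subgroup.le_normalizer
  have hN₁K : N₁ ≤ K := hN₁ ▸ h.normalizer_le hP hlt
  obtain ⟨G, hG⟩ : ∃ G, G = Subgroup.normalizer (K : Set P) := ⟨_, rfl⟩
  rw [← hG]
  have hKG : K ≤ G := hG ▸ Subgroup.le_normalizer
  have hidx : E.relIndex N₁ = p := hN₁ ▸ h.idx
  -- the proper subgroup `Z = E ∩ C(N₁)`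
  obtain ⟨Z, hZ⟩ : ∃ Z, Z = E ⊓ Subgroup.centralizer (N₁ : Set P) := ⟨_, rfl⟩
  have hZE : Z ≤ E := hZ ▸ inf_le_left
  have hZne : ¬ E ≤ Z := by
    intro hle
    have h1 : E ≤ Subgroup.centralizer (N₁ : Set P) := fun e he => (hZ ▸ hle he : e ∈ E ⊓ _).2
    have h2 : N₁ ≤ Subgroup.centralizer (E : Set P) := Subgroup.le_centralizer_iff.mp h1
    have h3 : N₁ ≤ E := h2.trans h.cent
    have h4 : E.relIndex N₁ = 1 := Subgroup.relIndex_eq_one.mpr h3
    rw [hidx] at h4
    exact hp.out.one_lt.ne' h4
  -- the set `S = E \ Z`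
  obtain ⟨S, hS⟩ : ∃ S : Set P, S = (E : Set P) \ (Z : Set P) := ⟨_, rfl⟩
  have hSmem : ∀ s ∈ S, s ∈ E ∧ s ∉ Subgroup.centralizer (N₁ : Set P) := by
    intro s hs
    rw [hS] at hs
    refine ⟨hs.1, fun hc => hs.2 ?_⟩
    rw [hZ]
    exact ⟨hs.1, hc⟩
  have hScent : ∀ s ∈ S, ∀ w : P, w * s = s * w ↔ w ∈ E := by
    intro s hs w
    exact h.centralizer_singleton hP (hSmem s hs).1 (hN₁ ▸ (hSmem s hs).2) w
  have hS1 : ∀ s ∈ S, s ≠ 1 := by
    rintro s hs rfl
    rw [hS] at hs
    exact hs.2 (Z.one_mem)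
  -- cardinalities
  obtain ⟨a, ha⟩ : ∃ a, a = Nat.card E := ⟨_, rfl⟩
  obtain ⟨z, hz⟩ : ∃ z, z = Nat.card Z := ⟨_, rfl⟩
  have hScard : Nat.card S = a - z := by
    rw [Nat.card_coe_set_eq, hS, Set.ncard_sdiff (show (Z : Set P) ⊆ E from hZE) (Set.toFinite _),
      ← Nat.card_coe_set_eq, ← Nat.card_coe_set_eq, ha, hz]
    rfl
  have hzp : z * p ≤ a := by
    have h1 : z * Z.relIndex E = a := by
      have := Subgroup.relIndex_mul_relIndex ⊥ Z E bot_le hZE
      rwa [Subgroup.relIndex_bot_left, Subgroup.relIndex_bot_left, ← hz, ← ha] at this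
    have h2 : Z.relIndex E ≠ 1 := fun h3 => hZne (Subgroup.relIndex_eq_one.mp h3)
    have h3 : Z.relIndex E ∣ Nat.card E := Subgroup.relIndex_dvd_card Z E
    obtain ⟨k, hk⟩ := IsPGroup.iff_card.mp (hP.to_subgroup E)
    rw [hk] at h3
    obtain ⟨j, _, hj⟩ := (Nat.dvd_prime_pow hp.out).mp h3
    have hj0 : j ≠ 0 := by
      rintro rfl
      exact h2 (by rw [hj, pow_zero])
    have h4 : p ≤ Z.relIndex E := by
      rw [hj]
      calc p = p ^ 1 := (pow_one p).symm
        _ ≤ p ^ j := Nat.pow_le_pow_right hp.out.pos (Nat.one_le_iff_ne_zero.mpr hj0)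
    calc z * p ≤ z * Z.relIndex E := Nat.mul_le_mul_left z h4
      _ = a := h1
  -- the injection
  let Q := ↥G ⧸ N₁.subgroupOf G
  have hΦmem : ∀ (q : Q) (s : S), ((q.out : ↥G) : P) * s * ((q.out : ↥G) : P)⁻¹ ∈ K := by
    intro q s
    have h1 : ((q.out : ↥G) : P) ∈ Subgroup.normalizer (K : Set P) := hG ▸ (q.out : ↥G).2
    exact (Subgroup.mem_normalizer_iff.mp h1 _).mp (hEK (hSmem s s.2).1)
  let Φ : Q × S → ↥K := fun x => ⟨_, hΦmem x.1 x.2⟩
  have hΦinj : Function.Injective Φ := by
    rintro ⟨q, s⟩ ⟨q', s'⟩ heq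
    have heq' : ((q.out : ↥G) : P) * s * ((q.out : ↥G) : P)⁻¹ =
        ((q'.out : ↥G) : P) * s' * ((q'.out : ↥G) : P)⁻¹ := congrArg Subtype.val heq
    obtain ⟨g, hg⟩ : ∃ g : P, g = ((q.out : ↥G) : P) := ⟨_, rfl⟩
    obtain ⟨g', hg'⟩ : ∃ g' : P, g' = ((q'.out : ↥G) : P) := ⟨_, rfl⟩
    rw [← hg, ← hg'] at heq'
    -- `g⁻¹ w g ∈ E ↔ g'⁻¹ w g' ∈ E`
    have hkey : ∀ w : P, g⁻¹ * w * g ∈ E ↔ g'⁻¹ * w * g' ∈ E := by
      intro w
      rw [← hScent s s.2, ← hScent s' s'.2]
      constructor
      · intro h1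
        have h2 : w * (g * s * g⁻¹) = (g * s * g⁻¹) * w := by
          calc w * (g * s * g⁻¹) = g * ((g⁻¹ * w * g) * s) * g⁻¹ := by group
            _ = g * (s * (g⁻¹ * w * g)) * g⁻¹ := by rw [h1]
            _ = (g * s * g⁻¹) * w := by group
        rw [heq'] at h2
        calc g'⁻¹ * w * g' * s' = g'⁻¹ * (w * (g' * s' * g'⁻¹)) * g' := by group
          _ = g'⁻¹ * ((g' * s' * g'⁻¹) * w) * g' := by rw [h2]
          _ = s' * (g'⁻¹ * w * g') := by group
      · intro h1
        have h2 : w * (g' * s' * g'⁻¹) = (g' * s' * g'⁻¹) * w := by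
          calc w * (g' * s' * g'⁻¹) = g' * ((g'⁻¹ * w * g') * s') * g'⁻¹ := by group
            _ = g' * (s' * (g'⁻¹ * w * g')) * g'⁻¹ := by rw [h1]
            _ = (g' * s' * g'⁻¹) * w := by group
        rw [← heq'] at h2
        calc g⁻¹ * w * g * s = g⁻¹ * (w * (g * s * g⁻¹)) * g := by group
          _ = g⁻¹ * ((g * s * g⁻¹) * w) * g := by rw [h2]
          _ = s * (g⁻¹ * w * g) := by group
    have hn : g'⁻¹ * g ∈ N₁ := by
      rw [hN₁, Subgroup.mem_normalizer_iff]
      intro e
      have h1 := hkey (g * e * g⁻¹)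
      have e1 : g⁻¹ * (g * e * g⁻¹) * g = e := by group
      have e2 : g'⁻¹ * (g * e * g⁻¹) * g' = g'⁻¹ * g * e * (g'⁻¹ * g)⁻¹ := by group
      rw [e1, e2] at h1
      exact h1
    have hqq : q' = q := by
      rw [← QuotientGroup.out_eq' q, ← QuotientGroup.out_eq' q', QuotientGroup.eq,
        Subgroup.mem_subgroupOf]
      show ((q'.out : ↥G) : P)⁻¹ * ((q.out : ↥G) : P) ∈ N₁
      rw [← hg, ← hg']
      exact hn
    subst hqq
    have hgg : g = g' := by rw [hg, hg']
    rw [hgg] at heq'
    have hss : (s : P) = s' := by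
      have := mul_left_cancel (mul_right_cancel heq')
      exact this
    exact Prod.ext rfl (Subtype.ext hss)
  have hΦ1 : (1 : ↥K) ∉ Set.range Φ := by
    rintro ⟨⟨q, s⟩, hqs⟩
    have h1 : ((q.out : ↥G) : P) * s * ((q.out : ↥G) : P)⁻¹ = 1 := congrArg Subtype.val hqs
    apply hS1 s s.2
    have h2 := congrArg (fun y => ((q.out : ↥G) : P)⁻¹ * y * ((q.out : ↥G) : P)) h1
    simp only [mul_one, inv_mul_cancel] at h2
    rw [← h2]; group
  have hlt2 : Nat.card (Q × S) < Nat.card K := by
    haveI : Fintype (Q × S) := Fintype.ofFinite _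
    haveI : Fintype ↥K := Fintype.ofFinite _
    rw [Nat.card_eq_fintype_card, Nat.card_eq_fintype_card]
    exact Fintype.card_lt_of_injective_of_notMem Φ hΦinj hΦ1
  rw [Nat.card_prod, hScard] at hlt2
  -- arithmetic
  have hQ : Nat.card Q = N₁.relIndex G := rfl
  obtain ⟨k, hk⟩ : ∃ k, k = N₁.relIndex K := ⟨_, rfl⟩
  obtain ⟨j, hj⟩ : ∃ j, j = K.relIndex G := ⟨_, rfl⟩
  rw [← hj]
  have hQ2 : Nat.card Q = k * j := by
    rw [hQ, hk, hj]; exact (Subgroup.relIndex_mul_relIndex N₁ K G hN₁K hKG).symm
  have hK : Nat.card K = a * p * k := by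
    have h1 := Subgroup.relIndex_mul_relIndex ⊥ E N₁ bot_le hEN₁
    have h2 := Subgroup.relIndex_mul_relIndex ⊥ N₁ K bot_le hN₁K
    rw [Subgroup.relIndex_bot_left, Subgroup.relIndex_bot_left] at h1 h2
    rw [← h2, ← h1, hidx, ← ha, ← hk]
  rw [hQ2, hK] at hlt2
  have hkpos : 0 < k := by
    rw [hk]; exact Nat.pos_of_ne_zero Subgroup.index_ne_zero_of_finite
  have h3 : j * (a - z) < a * p := by
    have : k * (j * (a - z)) < k * (a * p) := by
      calc k * (j * (a - z)) = k * j * (a - z) := by ring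
        _ < a * p * k := hlt2
        _ = k * (a * p) := by ring
    exact Nat.lt_of_mul_lt_mul_left this
  have hapos : 0 < a := by rw [ha]; exact Nat.card_pos
  have hza : z ≤ a := le_trans (Nat.le_mul_of_pos_right z hp.out.pos) hzp
  have h4 : j * (p - 1) < p * p := by
    have h5 : a * (p - 1) ≤ (a - z) * p := by
      have hp1 := hp.out.pos
      zify [hza, hp1]
      have hzp' : (z : ℤ) * p ≤ a := by exact_mod_cast hzp
      nlinarith
    have h6 : a * (j * (p - 1)) < a * (p * p) := by
      calc a * (j * (p - 1)) = j * (a * (p - 1)) := by ring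
        _ ≤ j * ((a - z) * p) := Nat.mul_le_mul_left j h5
        _ = j * (a - z) * p := by ring
        _ < a * p * p := Nat.mul_lt_mul_of_pos_right h3 hp.out.pos
        _ = a * (p * p) := by ring
    exact Nat.lt_of_mul_lt_mul_left h6
  -- `j` is a power of `p`
  have hjdvd : j ∣ Nat.card P := by
    rw [hj]
    exact (Subgroup.relIndex_dvd_card K G).trans (Subgroup.card_subgroup_dvd_card G)
  obtain ⟨N, hN⟩ := IsPGroup.iff_card.mp hP
  rw [hN] at hjdvd
  obtain ⟨t, _, ht⟩ := (Nat.dvd_prime_pow hp.out).mp hjdvd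
  have ht1 : t ≤ 1 := by
    by_contra hcon
    push Not at hcon
    have h7 : p ^ 2 ≤ p ^ t := Nat.pow_le_pow_right hp.out.pos hcon
    rw [ht] at h4
    have h8 : 1 ≤ p - 1 := by have := hp.out.two_le; omega
    have h9 : p * p * 1 ≤ p ^ t * (p - 1) := by
      rw [← pow_two]; exact Nat.mul_le_mul h7 h8
    omega
  rw [ht]
  interval_cases t
  · simp
  · simp

/-- A proper subgroup containing a soft subgroup has index exactly `p` in its normalizer. -/
theorem Soft.relIndex_normalizer_eq {E K : Subgroup P} (hP : IsPGroup p P) (h : Soft p E)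
    (hEK : E ≤ K) (hK : K ≠ ⊤) : K.relIndex (Subgroup.normalizer (K : Set P)) = p := by
  rcases (Nat.dvd_prime hp.out).mp (h.relIndex_normalizer_dvd hP hEK) with h1 | h1
  · exfalso
    have h2 : Subgroup.normalizer (K : Set P) ≤ K := Subgroup.relIndex_eq_one.mp h1
    obtain ⟨k, -, hk1, hk2⟩ := exists_mem_normalizer_not_mem hP (lt_top_iff_ne_top.mpr hK)
    exact hk2 (h2 hk1)
  · exact h1

/-- The subgroups containing a soft subgroup form a chain. -/
theorem Soft.le_total {E K L : Subgroup P} (hP : IsPGroup p P) (h : Soft p E)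
    (hEK : E ≤ K) (hEL : E ≤ L) : K ≤ L ∨ L ≤ K := by
  by_contra hcon
  push Not at hcon
  obtain ⟨hKL, hLK⟩ := hcon
  obtain ⟨D, hD⟩ : ∃ D, D = K ⊓ L := ⟨_, rfl⟩
  have hED : E ≤ D := hD ▸ le_inf hEK hEL
  have hDK : D < K := by
    refine lt_of_le_of_ne (hD ▸ inf_le_left) ?_
    intro heq
    exact hKL (heq ▸ (hD ▸ inf_le_right : D ≤ L))
  have hDL : D < L := by
    refine lt_of_le_of_ne (hD ▸ inf_le_right) ?_
    intro heq
    exact hLK (heq ▸ (hD ▸ inf_le_left : D ≤ K))
  have hDtop : D ≠ ⊤ := fun h0 => by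
    rw [h0] at hDK
    exact absurd (le_top : K ≤ ⊤) (not_le_of_gt hDK)
  have hidx := h.relIndex_normalizer_eq hP hED hDtop
  obtain ⟨k, hkK, hkN, hkD⟩ := exists_mem_normalizer_not_mem hP hDK
  obtain ⟨l, hlL, hlN, hlD⟩ := exists_mem_normalizer_not_mem hP hDL
  have h1 : Subgroup.normalizer (D : Set P) ≤ K ⊓ Subgroup.normalizer (D : Set P) :=
    le_of_relIndex_prime hp.out (le_inf hDK.le Subgroup.le_normalizer) inf_le_right hidx
      (fun hle => hkD (hle ⟨hkK, hkN⟩))
  have h2 : l ∈ K := (h1 hlN).1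
  exact hlD (hD ▸ ⟨h2, hlL⟩)

/-- A maximal-index normal overgroup of a soft subgroup is its normal closure. -/
theorem Soft.normalClosure_eq {E M : Subgroup P} (hP : IsPGroup p P) (h : Soft p E)
    (hEM : E ≤ M) [hMn : M.Normal] (hMidx : M.index = p) :
    Subgroup.normalClosure (E : Set P) = M := by
  have hle : Subgroup.normalClosure (E : Set P) ≤ M := Subgroup.normalClosure_le_normal hEM
  have h1 := h.relIndex_normalizer_dvd hP (Subgroup.le_normalClosure (H := E))
  rw [Subgroup.normalizer_eq_top, Subgroup.relIndex_top_right] at h1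
  have h2 := Subgroup.relIndex_mul_index hle
  rw [hMidx] at h2
  rw [← h2] at h1
  have h3 : (Subgroup.normalClosure (E : Set P)).relIndex M = 1 := by
    have h4 : (Subgroup.normalClosure (E : Set P)).relIndex M * p ∣ 1 * p := by
      rw [one_mul]; exact h1
    exact Nat.dvd_one.mp (Nat.dvd_of_mul_dvd_mul_right hp.out.pos h4)
  exact le_antisymm hle (Subgroup.relIndex_eq_one.mp h3)

omit [Finite P] hp in
/-- `H ⊔ ⟨w⟩` is commutative when `H` is and `w` centralizes `H`. -/
theorem commute_of_mem_sup_zpowers {H : Subgroup P} {w : P}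
    (hH : ∀ a ∈ H, ∀ b ∈ H, a * b = b * a) (hw : ∀ a ∈ H, w * a = a * w) :
    ∀ a ∈ H ⊔ Subgroup.zpowers w, ∀ b ∈ H ⊔ Subgroup.zpowers w, a * b = b * a := by
  have h1 : H ⊔ Subgroup.zpowers w ≤ Subgroup.centralizer (H : Set P) := by
    apply sup_le
    · intro a ha
      rw [Subgroup.mem_centralizer_iff]
      intro b hb
      exact hH b hb a ha
    · rw [Subgroup.zpowers_le, Subgroup.mem_centralizer_iff]
      intro b hb
      exact (hw b hb).symm
  have h2 : H ⊔ Subgroup.zpowers w ≤ Subgroup.centralizer {w} := by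
    apply sup_le
    · intro a ha
      rw [Subgroup.mem_centralizer_singleton_iff]
      exact (hw a ha).symm
    · rw [Subgroup.zpowers_le, Subgroup.mem_centralizer_singleton_iff]
  have h3 : H ⊔ Subgroup.zpowers w ≤
      Subgroup.centralizer ((H ⊔ Subgroup.zpowers w : Subgroup P) : Set P) := by
    rw [Subgroup.le_centralizer_iff]
    apply sup_le
    · exact Subgroup.le_centralizer_iff.mp h1
    · rw [Subgroup.zpowers_le, Subgroup.mem_centralizer_iff]
      intro b hb
      exact (Subgroup.mem_centralizer_singleton_iff.mp (h2 hb))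
  intro a ha b hb
  exact (Subgroup.mem_centralizer_iff.mp (h3 hb) a ha)

omit [Finite P] hp in
/-- An element commuting with `H` modulo a normal subgroup `Z ≤ H` normalizes `H`. -/
theorem mem_normalizer_of_comm_mod (Z H : Subgroup P) [Z.Normal] (hZH : Z ≤ H) (w : P)
    (hw : ∀ h ∈ H, QuotientGroup.mk' Z w * QuotientGroup.mk' Z h =
      QuotientGroup.mk' Z h * QuotientGroup.mk' Z w) :
    w ∈ Subgroup.normalizer (H : Set P) := by
  have key : ∀ (v : P), (∀ h ∈ H, QuotientGroup.mk' Z v * QuotientGroup.mk' Z h =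
      QuotientGroup.mk' Z h * QuotientGroup.mk' Z v) → ∀ h ∈ H, v * h * v⁻¹ ∈ H := by
    intro v hv h hh
    have h1 : v * h * v⁻¹ * h⁻¹ ∈ Z := by
      rw [← QuotientGroup.eq_one_iff]
      show QuotientGroup.mk' Z (v * h * v⁻¹ * h⁻¹) = 1
      rw [map_mul, map_mul, map_mul, map_inv, map_inv, hv h hh]
      group
    have e : v * h * v⁻¹ = (v * h * v⁻¹ * h⁻¹) * h := by group
    rw [e]
    exact H.mul_mem (hZH h1) hh
  have hw' : ∀ h ∈ H, QuotientGroup.mk' Z w⁻¹ * QuotientGroup.mk' Z h =
      QuotientGroup.mk' Z h * QuotientGroup.mk' Z w⁻¹ := by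
    intro h hh
    have := hw h hh
    rw [map_inv]
    rw [inv_mul_eq_iff_eq_mul, ← mul_assoc, this, mul_assoc, mul_inv_cancel, mul_one]
  rw [Subgroup.mem_normalizer_iff]
  intro h
  constructor
  · exact key w hw h
  · intro hh
    have := key w⁻¹ hw' _ hh
    have e : w⁻¹ * (w * h * w⁻¹) * w⁻¹⁻¹ = h := by group
    rwa [e] at this

end Cfsg.Agent.Lib.Helper2.SoftLib

namespace Cfsg.Agent.Lib.Helper2.SoftLib

universe u

/-- The class of the maximal subgroup above a soft subgroup of index `p^n` is `n`. -/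
theorem Soft.class_aux (p : ℕ) [hp : Fact p.Prime] : ∀ (n : ℕ), 1 ≤ n →
    ∀ (P : Type u) [Group P] [Finite P] (_ : IsPGroup p P) (E M : Subgroup P),
      Soft p E → E.index = p ^ n → E ≤ M → M.index = p → Group.nilpotencyClass ↥M = n := by
  intro n
  induction n with
  | zero => intro h; omega
  | succ n ih =>
    intro _ P _ _ hP E M h hEidx hEM hMidx
    haveI hMnil : Group.IsNilpotent ↥M := (hP.to_subgroup M).isNilpotent
    haveI := h.comm
    have hMtop : M ≠ ⊤ := by
      intro h0
      rw [h0, Subgroup.index_top] at hMidx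
      exact hp.out.one_lt.ne hMidx
    by_cases hn : n = 0
    · -- base case: `M = E`
      subst hn
      rw [zero_add, pow_one] at hEidx
      have hME : M ≤ E := by
        have h1 := Subgroup.relIndex_mul_index hEM
        rw [hMidx, hEidx] at h1
        have h2 : E.relIndex M = 1 := by
          have : E.relIndex M * p = 1 * p := by rw [h1, one_mul]
          exact Nat.eq_of_mul_eq_mul_right hp.out.pos this
        exact Subgroup.relIndex_eq_one.mp h2
      have hle : Group.nilpotencyClass ↥M ≤ 1 := by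
        rw [← Subgroup.upperCentralSeries_eq_top_iff_nilpotencyClass_le, Subgroup.upperCentralSeries_one,
          Subgroup.eq_top_iff']
        intro x
        rw [Subgroup.mem_center_iff]
        intro g
        apply Subtype.ext
        have := congrArg Subtype.val (mul_comm' (⟨g, hME g.2⟩ : E) ⟨x, hME x.2⟩)
        exact this
      have hne : Group.nilpotencyClass ↥M ≠ 0 := by
        intro h0
        rw [Group.nilpotencyClass_zero_iff_subsingleton] at h0
        have h1 : M = ⊥ := by
          rw [Subgroup.eq_bot_iff_forall]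
          intro x hx
          have := Subsingleton.elim (⟨x, hx⟩ : ↥M) 1
          exact congrArg Subtype.val this
        have h2 : E = ⊥ := le_bot_iff.mp (h1 ▸ hEM)
        have h3 : (⊤ : Subgroup P) ≤ E := by
          refine le_trans ?_ h.cent
          intro x _
          rw [h2, Subgroup.mem_centralizer_iff]
          intro y hy
          have : y = 1 := hy
          rw [this, one_mul, mul_one]
        exact hMtop (top_le_iff.mp (h3.trans hEM))
      omega
    · -- inductive step
      have hn1 : 1 ≤ n := Nat.one_le_iff_ne_zero.mpr hn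
      -- `M` is normal
      haveI hMn : M.Normal := by
        rw [← Subgroup.normalizer_eq_top_iff]
        obtain ⟨k, -, hkN, hkM⟩ := exists_mem_normalizer_not_mem hP (lt_top_iff_ne_top.mpr hMtop)
        have h1 : M.relIndex ⊤ = p := by rw [Subgroup.relIndex_top_right]; exact hMidx
        exact top_le_iff.mp (le_of_relIndex_prime hp.out Subgroup.le_normalizer le_top h1
          (fun hle => hkM (hle hkN)))
      have hEltM : E < M := by
        refine lt_of_le_of_ne hEM ?_
        intro h0
        rw [h0, hMidx] at hEidx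
        have : p ^ 1 < p ^ (n + 1) := Nat.pow_lt_pow_right hp.out.one_lt (by omega)
        rw [pow_one] at this
        omega
      obtain ⟨N₁, hN₁⟩ : ∃ N₁, N₁ = Subgroup.normalizer (E : Set P) := ⟨_, rfl⟩
      have hEN₁ : E ≤ N₁ := hN₁ ▸ Subgroup.le_normalizer
      have hN₁M : N₁ ≤ M := hN₁ ▸ h.normalizer_le hP hEltM
      have hidx₁ : E.relIndex N₁ = p := hN₁ ▸ h.idx
      have hN₁idx : N₁.index = p ^ n := by
        have h1 := Subgroup.relIndex_mul_index hEN₁
        rw [hidx₁, hEidx, pow_succ, mul_comm] at h1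
        exact Nat.eq_of_mul_eq_mul_right hp.out.pos h1
      have hN₁top : N₁ ≠ ⊤ := fun h0 => hMtop (top_le_iff.mp (h0 ▸ hN₁M))
      -- the centre of `M`
      obtain ⟨Z, hZ⟩ : ∃ Z, Z = M ⊓ Subgroup.centralizer (M : Set P) := ⟨_, rfl⟩
      haveI hZn : Z.Normal := by
        rw [hZ]; exact Subgroup.normal_inf_normal _ _
      have hZM : Z ≤ M := hZ ▸ inf_le_left
      have hZE : Z ≤ E := by
        intro z hz
        rw [hZ] at hz
        exact h.cent (Subgroup.centralizer_le (show (E : Set P) ⊆ M from hEM) hz.2)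
      have hZN₁ : Z ≤ N₁ := hZE.trans hEN₁
      have hπs : Function.Surjective (QuotientGroup.mk' Z) := QuotientGroup.mk'_surjective Z
      have hπ1 : ∀ x : P, QuotientGroup.mk' Z x = 1 ↔ x ∈ Z := fun x => QuotientGroup.eq_one_iff x
      have hEcomm : ∀ a ∈ E, ∀ b ∈ E, QuotientGroup.mk' Z a * QuotientGroup.mk' Z b =
          QuotientGroup.mk' Z b * QuotientGroup.mk' Z a := by
        intro a ha b hb
        rw [← map_mul, ← map_mul]
        congr 1
        exact congrArg Subtype.val (mul_comm' (⟨a, ha⟩ : E) ⟨b, hb⟩)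
      -- (a) `N₁ / Z` is abelian
      have hab : ∀ a ∈ N₁, ∀ b ∈ N₁, QuotientGroup.mk' Z a * QuotientGroup.mk' Z b =
          QuotientGroup.mk' Z b * QuotientGroup.mk' Z a := by
        by_contra hnab
        have B1 : ∀ w : P, (∀ e ∈ E, QuotientGroup.mk' Z w * QuotientGroup.mk' Z e =
            QuotientGroup.mk' Z e * QuotientGroup.mk' Z w) → w ∈ E := by
          intro w hw
          have hwN : w ∈ N₁ := hN₁ ▸ mem_normalizer_of_comm_mod Z E hZE w hw
          by_contra hwE
          apply hnab
          have h1 : N₁ ≤ E ⊔ Subgroup.zpowers w := by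
            apply le_of_relIndex_prime hp.out le_sup_left
              (sup_le hEN₁ (by rw [Subgroup.zpowers_le]; exact hwN)) hidx₁
            intro hle
            exact hwE (hle (le_sup_right (a := E) (Subgroup.mem_zpowers w)))
          have h2 := commute_of_mem_sup_zpowers (H := E.map (QuotientGroup.mk' Z))
            (w := QuotientGroup.mk' Z w)
            (by
              rintro _ ⟨a, ha, rfl⟩ _ ⟨b, hb, rfl⟩
              exact hEcomm a ha b hb)
            (by
              rintro _ ⟨a, ha, rfl⟩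
              exact hw a ha)
          have h3 : N₁.map (QuotientGroup.mk' Z) ≤
              E.map (QuotientGroup.mk' Z) ⊔ Subgroup.zpowers (QuotientGroup.mk' Z w) := by
            rw [← MonoidHom.map_zpowers, ← Subgroup.map_sup]
            exact Subgroup.map_mono h1
          intro a ha b hb
          exact h2 _ (h3 (Subgroup.mem_map_of_mem _ ha)) _ (h3 (Subgroup.mem_map_of_mem _ hb))
        have B2 : ∀ z ∈ M, (∀ m ∈ M, QuotientGroup.mk' Z z * QuotientGroup.mk' Z m =
            QuotientGroup.mk' Z m * QuotientGroup.mk' Z z) → z ∈ Z := by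
          intro z hzM hz
          have hconj : ∀ t : P, t⁻¹ * z * t ∈ E := by
            intro t
            apply B1
            intro e he
            have h1 := hz (t * e * t⁻¹) (hMn.conj_mem e (hEM he) t)
            calc QuotientGroup.mk' Z (t⁻¹ * z * t) * QuotientGroup.mk' Z e
                = (QuotientGroup.mk' Z t)⁻¹ * (QuotientGroup.mk' Z z *
                    QuotientGroup.mk' Z (t * e * t⁻¹)) * QuotientGroup.mk' Z t := by
                  simp only [map_mul, map_inv]; group
              _ = (QuotientGroup.mk' Z t)⁻¹ * (QuotientGroup.mk' Z (t * e * t⁻¹) *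
                    QuotientGroup.mk' Z z) * QuotientGroup.mk' Z t := by rw [h1]
              _ = QuotientGroup.mk' Z e * QuotientGroup.mk' Z (t⁻¹ * z * t) := by
                  simp only [map_mul, map_inv]; group
          have h2 : M ≤ Subgroup.centralizer {z} := by
            rw [← h.normalClosure_eq hP hEM hMidx, Subgroup.normalClosure, Subgroup.closure_le]
            intro y hy
            rw [Group.mem_conjugatesOfSet_iff] at hy
            obtain ⟨e, he, hconj'⟩ := hy
            obtain ⟨t, rfl⟩ := isConj_iff.mp hconj'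
            rw [SetLike.mem_coe, Subgroup.mem_centralizer_singleton_iff]
            have h3 := congrArg Subtype.val (mul_comm' (⟨t⁻¹ * z * t, hconj t⟩ : E) ⟨e, he⟩)
            have h4 : t⁻¹ * z * t * e = e * (t⁻¹ * z * t) := h3
            calc t * e * t⁻¹ * z = t * (e * (t⁻¹ * z * t)) * t⁻¹ := by group
              _ = t * (t⁻¹ * z * t * e) * t⁻¹ := by rw [h4]
              _ = z * (t * e * t⁻¹) := by group
          rw [hZ]
          refine ⟨hzM, ?_⟩
          show z ∈ Subgroup.centralizer (M : Set P)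
          rw [Subgroup.mem_centralizer_iff]
          intro m hm
          exact Subgroup.mem_centralizer_singleton_iff.mp (h2 hm)
        -- the image of `M` is trivial
        have B3 : M.map (QuotientGroup.mk' Z) = ⊥ := by
          by_contra hne
          haveI : Nontrivial ↥(M.map (QuotientGroup.mk' Z)) :=
            (Subgroup.nontrivial_iff_ne_bot _).mpr hne
          have hpq : IsPGroup p ↥(M.map (QuotientGroup.mk' Z)) :=
            (hP.to_quotient Z).to_subgroup _
          haveI := hpq.center_nontrivial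
          obtain ⟨c, hc⟩ := exists_ne (1 : Subgroup.center ↥(M.map (QuotientGroup.mk' Z)))
          obtain ⟨z, hzM, hzc⟩ := (c : ↥(M.map (QuotientGroup.mk' Z))).2
          have hzZ : z ∈ Z := by
            apply B2 z hzM
            intro m hm
            have h1 := Subgroup.mem_center_iff.mp c.2
              ⟨QuotientGroup.mk' Z m, Subgroup.mem_map_of_mem _ hm⟩
            have h2 := congrArg Subtype.val h1
            simp only [Subgroup.coe_mul] at h2
            rw [hzc]
            exact h2.symm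
          apply hc
          apply Subtype.ext
          apply Subtype.ext
          show ((c : ↥(M.map (QuotientGroup.mk' Z))) : P ⧸ Z) = 1
          rw [← hzc]
          exact (hπ1 z).mpr hzZ
        have hMZ : M ≤ Z := by
          intro m hm
          have h1 : QuotientGroup.mk' Z m ∈ M.map (QuotientGroup.mk' Z) :=
            Subgroup.mem_map_of_mem _ hm
          rw [B3, Subgroup.mem_bot] at h1
          exact (hπ1 m).mp h1
        exact absurd (hMZ.trans hZE) (not_le_of_gt hEltM)
      -- the second normalizer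
      obtain ⟨N₂, hN₂⟩ : ∃ N₂, N₂ = Subgroup.normalizer (N₁ : Set P) := ⟨_, rfl⟩
      have hN₁N₂ : N₁ ≤ N₂ := hN₂ ▸ Subgroup.le_normalizer
      have hidx₂ : N₁.relIndex N₂ = p := hN₂ ▸ h.relIndex_normalizer_eq hP hEN₁ hN₁top
      -- (b) `N₁ / Z` is self-centralizing
      have hcent : Subgroup.centralizer ((N₁.map (QuotientGroup.mk' Z) : Subgroup (P ⧸ Z)) :
          Set (P ⧸ Z)) ≤ N₁.map (QuotientGroup.mk' Z) := by
        intro wb hwb
        obtain ⟨w, rfl⟩ := hπs wb
        have hw : ∀ a ∈ N₁, QuotientGroup.mk' Z w * QuotientGroup.mk' Z a =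
            QuotientGroup.mk' Z a * QuotientGroup.mk' Z w := by
          intro a ha
          exact (Subgroup.mem_centralizer_iff.mp hwb _ (Subgroup.mem_map_of_mem _ ha)).symm
        have hwN₂ : w ∈ N₂ := hN₂ ▸ mem_normalizer_of_comm_mod Z N₁ hZN₁ w hw
        by_contra hwN
        have hwN₁ : w ∉ N₁ := fun h0 => hwN (Subgroup.mem_map_of_mem _ h0)
        have h1 : N₂ ≤ N₁ ⊔ Subgroup.zpowers w := by
          apply le_of_relIndex_prime hp.out le_sup_left
            (sup_le hN₁N₂ (by rw [Subgroup.zpowers_le]; exact hwN₂)) hidx₂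
          intro hle
          exact hwN₁ (hle (le_sup_right (a := N₁) (Subgroup.mem_zpowers w)))
        have h2 := commute_of_mem_sup_zpowers (H := N₁.map (QuotientGroup.mk' Z))
          (w := QuotientGroup.mk' Z w)
          (by
            rintro _ ⟨a, ha, rfl⟩ _ ⟨b, hb, rfl⟩
            exact hab a ha b hb)
          (by
            rintro _ ⟨a, ha, rfl⟩
            exact hw a ha)
        have h3 : N₂.map (QuotientGroup.mk' Z) ≤
            N₁.map (QuotientGroup.mk' Z) ⊔ Subgroup.zpowers (QuotientGroup.mk' Z w) := by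
          rw [← MonoidHom.map_zpowers, ← Subgroup.map_sup]
          exact Subgroup.map_mono h1
        -- then `N₂` normalizes `E`
        have h4 : N₂ ≤ N₁ := by
          intro g hg
          rw [hN₁]
          apply mem_normalizer_of_comm_mod Z E hZE g
          intro e he
          exact h2 _ (h3 (Subgroup.mem_map_of_mem _ hg)) _
            (h3 (Subgroup.mem_map_of_mem _ (hN₁N₂ (hEN₁ he))))
        exact hwN₁ (h4 hwN₂)
      -- (c) index of `N₁ / Z` in its normalizer
      have hcomap : ∀ H : Subgroup P, Z ≤ H →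
          (H.map (QuotientGroup.mk' Z)).comap (QuotientGroup.mk' Z) = H := by
        intro H hH
        rw [Subgroup.comap_map_eq, QuotientGroup.ker_mk', sup_eq_left.mpr hH]
      have hnorm : Subgroup.normalizer ((N₁.map (QuotientGroup.mk' Z) : Subgroup (P ⧸ Z)) :
          Set (P ⧸ Z)) = N₂.map (QuotientGroup.mk' Z) := by
        have h1 := Subgroup.comap_normalizer_eq_of_surjective (N₁.map (QuotientGroup.mk' Z)) hπs
        rw [hcomap N₁ hZN₁, ← hN₂] at h1
        rw [← h1, Subgroup.map_comap_eq_self_of_surjective hπs]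
      have hsoft : Soft p (N₁.map (QuotientGroup.mk' Z)) := by
        refine ⟨⟨⟨?_⟩⟩, hcent, ?_⟩
        · rintro ⟨_, a, ha, rfl⟩ ⟨_, b, hb, rfl⟩
          exact Subtype.ext (hab a ha b hb)
        · rw [hnorm, ← Subgroup.relIndex_comap, hcomap N₁ hZN₁]
          exact hidx₂
      have hidxb : (N₁.map (QuotientGroup.mk' Z)).index = p ^ n := by
        rw [← Subgroup.index_comap_of_surjective _ hπs, hcomap N₁ hZN₁]
        exact hN₁idx
      have hMidxb : (M.map (QuotientGroup.mk' Z)).index = p := by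
        rw [← Subgroup.index_comap_of_surjective _ hπs, hcomap M hZM]
        exact hMidx
      have hclb := ih hn1 (P ⧸ Z) (hP.to_quotient Z) (N₁.map (QuotientGroup.mk' Z))
        (M.map (QuotientGroup.mk' Z)) hsoft hidxb (Subgroup.map_mono hN₁M) hMidxb
      -- the class of `M`
      haveI hMbnil : Group.IsNilpotent ↥(M.map (QuotientGroup.mk' Z)) :=
        ((hP.to_quotient Z).to_subgroup _).isNilpotent
      obtain ⟨f, hf⟩ : ∃ f : ↥M →* ↥(M.map (QuotientGroup.mk' Z)),
          f = (QuotientGroup.mk' Z).subgroupMap M := ⟨_, rfl⟩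
      have hfs : Function.Surjective f := hf ▸ (QuotientGroup.mk' Z).subgroupMap_surjective M
      have hfker : ∀ x : ↥M, f x = 1 ↔ x ∈ Subgroup.center ↥M := by
        intro x
        have h1 : f x = 1 ↔ (x : P) ∈ Z := by
          rw [← hπ1, hf]
          constructor
          · intro h0
            exact congrArg Subtype.val h0
          · intro h0
            exact Subtype.ext h0
        rw [h1, hZ, Subgroup.mem_inf, Subgroup.mem_center_iff, Subgroup.mem_centralizer_iff]
        constructor
        · rintro ⟨_, h2⟩ g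
          exact Subtype.ext (h2 g g.2)
        · intro h2
          exact ⟨x.2, fun m hm => congrArg Subtype.val (h2 ⟨m, hm⟩)⟩
      have hle : Group.nilpotencyClass ↥M ≤ n + 1 := by
        have h1 : f.ker ≤ Subgroup.center ↥M := fun x hx => (hfker x).mp hx
        have := Group.nilpotencyClass_le_of_ker_le_center f h1
        rwa [hclb] at this
      have hge : n ≤ Group.nilpotencyClass ↥M - 1 := by
        have h1 : Subgroup.center ↥M ≤ f.ker := fun x hx => (hfker x).mpr hx
        have hg : Function.Surjective (QuotientGroup.lift (Subgroup.center ↥M) f h1) := by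
          intro y
          obtain ⟨x, rfl⟩ := hfs y
          exact ⟨(x : ↥M ⧸ Subgroup.center ↥M), rfl⟩
        haveI : Group.IsNilpotent (↥M ⧸ Subgroup.center ↥M) :=
          Group.nilpotent_of_surjective (QuotientGroup.mk' (Subgroup.center ↥M))
            (QuotientGroup.mk'_surjective _)
        have := Group.nilpotencyClass_le_of_surjective _ hg
        rwa [hclb, Group.nilpotencyClass_quotient_center] at this
      omega

/-- Softness passes to a subgroup containing the normalizer. -/
theorem Soft.subgroupOf {P : Type u} [Group P] {p : ℕ} {E G : Subgroup P} (h : Soft p E)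
    (hNG : Subgroup.normalizer (E : Set P) ≤ G) : Soft p (E.subgroupOf G) := by
  haveI := h.comm
  have hEG : E ≤ G := Subgroup.le_normalizer.trans hNG
  refine ⟨⟨⟨?_⟩⟩, ?_, ?_⟩
  · intro a b
    apply Subtype.ext
    apply Subtype.ext
    have := congrArg Subtype.val (mul_comm' (⟨a.1.1, a.2⟩ : E) ⟨b.1.1, b.2⟩)
    exact this
  · intro w hw
    rw [Subgroup.mem_subgroupOf]
    apply h.cent
    rw [Subgroup.mem_centralizer_iff]
    intro e he
    have h1 := Subgroup.mem_centralizer_iff.mp hw ⟨e, hEG he⟩ (Subgroup.mem_subgroupOf.mpr he)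
    exact congrArg Subtype.val h1
  · rw [← Subgroup.subgroupOf_normalizer_eq hEG, Subgroup.relIndex_subgroupOf hNG]
    exact h.idx

/-- Main class theorem: a proper subgroup `K` with `|K : E| = p^i` has class `i + 1`. -/
theorem Soft.nilpotencyClass_eq {P : Type u} [Group P] [Finite P] {p : ℕ} [hp : Fact p.Prime]
    (hP : IsPGroup p P) {E K : Subgroup P} (h : Soft p E) (hEK : E ≤ K) (hK : K ≠ ⊤) (i : ℕ)
    (hidx : K.index * p ^ i = E.index) : Group.nilpotencyClass ↥K = i + 1 := by
  obtain ⟨G, hG⟩ : ∃ G, G = Subgroup.normalizer (K : Set P) := ⟨_, rfl⟩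
  have hKG : K ≤ G := hG ▸ Subgroup.le_normalizer
  have hidxK : K.relIndex G = p := hG ▸ h.relIndex_normalizer_eq hP hEK hK
  have hNG : Subgroup.normalizer (E : Set P) ≤ G := by
    by_cases hEq : K = E
    · rw [hG, hEq]
    · exact (h.normalizer_le hP (lt_of_le_of_ne hEK (Ne.symm hEq))).trans hKG
  have hsoft := h.subgroupOf hNG
  have hEG : E ≤ G := hEK.trans hKG
  have hGidx : G.index ≠ 0 := Subgroup.index_ne_zero_of_finite
  have h1 : (E.subgroupOf G).index = p ^ (i + 1) := by
    show E.relIndex G = p ^ (i + 1)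
    have h2 := Subgroup.relIndex_mul_index hEG
    have h3 := Subgroup.relIndex_mul_index hKG
    rw [hidxK] at h3
    rw [← hidx, ← h3] at h2
    have h4 : E.relIndex G * G.index = p ^ (i + 1) * G.index := by
      rw [h2, pow_succ]; ring
    exact Nat.eq_of_mul_eq_mul_right (Nat.pos_of_ne_zero hGidx) h4
  have h5 : (K.subgroupOf G).index = p := hidxK
  have h6 : E.subgroupOf G ≤ K.subgroupOf G := fun x hx => hEK hx
  have hcl := Soft.class_aux p (i + 1) (by omega) ↥G (hP.to_subgroup G) (E.subgroupOf G)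
    (K.subgroupOf G) hsoft h1 h6 h5
  -- transport along `K.subgroupOf G ≃* K`
  haveI : Group.IsNilpotent ↥K := (hP.to_subgroup K).isNilpotent
  haveI : Group.IsNilpotent ↥(K.subgroupOf G) :=
    ((hP.to_subgroup G).to_subgroup _).isNilpotent
  let e : ↥(K.subgroupOf G) ≃* ↥K := Subgroup.subgroupOfEquivOfLe hKG
  have hle1 := Group.nilpotencyClass_le_of_surjective e.toMonoidHom e.surjective
  have hle2 := Group.nilpotencyClass_le_of_surjective e.symm.toMonoidHom e.symm.surjective
  omega

end Cfsg.Agent.Lib.Helper2.SoftLib
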