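import Mathlib
import Cfsg.Prelude.Def_CaseTheorems
import Cfsg.Agent.Lib.Helper2.MaxCycTwo
import Cfsg.Agent.Lib.Helper2.SL2ThreeSub
import Cfsg.Agent.Lib.Helper2.MinNormal
import Cfsg.Agent.Lib.Helper1.MinimalNormal
import Cfsg.Agent.Lib.Helper1.FittingCentralizer
import Cfsg.Agent.Lib.Helper1.PCore
set_option autoImplicit false
universe u
namespace Cfsg.Agent.Lib.Helper2.SolvDihSL

open Cfsg.Agent.Lib.Helper2.MaxCycTwo

variable {G : Type u} [Group G]

theorem card_quat_sq_ne : Nat.card {w : QuaternionGroup 2 // w ^ 2 ≠ 1} = 6 := by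
  rw [Nat.card_eq_fintype_card]
  decide

theorem main [Finite G] (hsol : IsSolvable G) (hO : Cfsg.oddCore G = ⊥) (T : Sylow 2 G)
    {x z : G} (hD : TData (T : Subgroup G) x z) (hne : (T : Subgroup G) ≠ ⊤)
    (hZ : ((T : Subgroup G) ⊓ Subgroup.centralizer ((T : Subgroup G) : Set G)).Normal) :
    ∃ U : Subgroup G, U.Normal ∧
      Nonempty (U ≃* Matrix.SpecialLinearGroup (Fin 2) (ZMod 3)) := by
  classical
  haveI : Fact (Nat.Prime 2) := ⟨Nat.prime_two⟩
  haveI : Group.IsSolvable G := hsol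
  -- `z` is central in `G`
  have hzc : ∀ g : G, g * z * g⁻¹ = z := by
    intro g
    have h1 := hZ.conj_mem z hD.z_mem g
    rcases hD.cen _ h1 with h | h
    · exfalso; apply hD.z_ne
      have : z = g⁻¹ * (g * z * g⁻¹) * g := by group
      rw [this, h]; group
    · exact h
  obtain ⟨Q, hQ⟩ : ∃ Q : Subgroup G, Q = Cfsg.pCore 2 G := ⟨_, rfl⟩
  haveI hQn : Q.Normal := by rw [hQ]; exact Cfsg.Agent.Lib.Helper1.pCore_normal 2
  have hQ2 : IsPGroup 2 Q := by rw [hQ]; exact Cfsg.Agent.Lib.Helper1.pCore_isPGroup 2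
  have hQT : Q ≤ T := by rw [hQ]; exact Cfsg.Agent.Lib.Helper1.pCore_le_sylow 2 T
  have hCQ : Subgroup.centralizer (Q : Set G) ≤ Q := by
    rw [hQ]; exact Cfsg.Agent.Lib.Helper1.centralizer_pCore_le 2 hO
  have hQtop : Q ≠ ⊤ := fun h => hne (top_le_iff.mp (h ▸ hQT))
  have hnormQ : ∀ g : G, g ∈ Subgroup.normalizer (Q : Set G) := by
    intro g; rw [Subgroup.normalizer_eq_top]; exact Subgroup.mem_top g
  -- the quotient and a minimal normal subgroup
  haveI : Nontrivial (G ⧸ Q) := by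
    by_contra h
    rw [not_nontrivial_iff_subsingleton] at h
    exact hQtop (QuotientGroup.subgroup_eq_top_of_subsingleton Q h)
  obtain ⟨Bb, -, hBne, hBmin⟩ :=
    Cfsg.Agent.Lib.Helper2.exists_isMinNormal_le (⊤ : Subgroup (G ⧸ Q)) top_ne_bot
  haveI hBn : Bb.Normal := hBmin.1
  obtain ⟨-, p, hp, hexp⟩ :=
    Cfsg.Agent.Lib.Helper1.minimal_normal_of_solvable Bb hBne hBmin.2
  haveI : Fact p.Prime := ⟨hp⟩
  obtain ⟨R, hR⟩ : ∃ R : Subgroup G, R = Bb.comap (QuotientGroup.mk' Q) := ⟨_, rfl⟩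
  haveI hRn : R.Normal := by rw [hR]; exact hBn.comap _
  have hmemR : ∀ r : G, r ∈ R ↔ (r : G ⧸ Q) ∈ Bb := by
    intro r; rw [hR]; rfl
  have hQR : Q ≤ R := by
    intro q hq
    rw [hmemR, (QuotientGroup.eq_one_iff q).mpr hq]
    exact Bb.one_mem
  -- `p ≠ 2`
  have hp2 : p ≠ 2 := by
    rintro rfl
    have hR2 : IsPGroup 2 R := by
      intro r
      have h1 : ((r : G) : G ⧸ Q) ^ 2 = 1 := hexp _ ((hmemR _).mp r.2)
      have h2 : (r : G) ^ 2 ∈ Q := by
        rw [← QuotientGroup.eq_one_iff, QuotientGroup.mk_pow]; exact h1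
      obtain ⟨k, hk⟩ := hQ2 ⟨(r : G) ^ 2, h2⟩
      refine ⟨k + 1, Subtype.ext ?_⟩
      have h3 := congrArg Subtype.val hk
      rw [Subgroup.coe_pow, Subgroup.coe_one] at h3
      rw [Subgroup.coe_pow, Subgroup.coe_one, pow_succ', pow_mul]
      exact h3
    have hRQ : R ≤ Q := by rw [hQ]; exact Cfsg.Agent.Lib.Helper1.le_pCore hRn hR2
    apply hBne
    rw [eq_bot_iff]
    intro b hb
    obtain ⟨r, rfl⟩ := QuotientGroup.mk'_surjective Q b
    have h1 : r ∈ Q := hRQ ((hmemR r).mpr hb)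
    rw [Subgroup.mem_bot]
    exact (QuotientGroup.eq_one_iff r).mpr h1
  -- cardinalities
  have hBp : IsPGroup p Bb := by
    intro b
    exact ⟨1, by rw [pow_one]; exact Subtype.ext (hexp b b.2)⟩
  obtain ⟨a, ha⟩ := IsPGroup.iff_card.mp hBp
  have hcardR : Nat.card R = Nat.card Q * p ^ a := by
    have h1 : R.index = Bb.index := by
      rw [hR]; exact Subgroup.index_comap_of_surjective Bb (QuotientGroup.mk'_surjective Q)
    have h2 := Subgroup.card_mul_index R
    have h3 := Subgroup.card_mul_index Bb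
    have h4 := Subgroup.card_eq_card_quotient_mul_card_subgroup Q
    have hpos : 0 < Bb.index := Nat.pos_of_ne_zero Subgroup.index_ne_zero_of_finite
    rw [h1] at h2
    rw [h4, ← h3, ha] at h2
    have : Nat.card R * Bb.index = (Nat.card Q * p ^ a) * Bb.index := by rw [h2]; ring
    exact Nat.eq_of_mul_eq_mul_right hpos this
  have ha0 : a ≠ 0 := by
    rintro rfl
    rw [pow_zero] at ha
    exact hBne (Subgroup.card_eq_one.mp ha)
  -- a Sylow `p`-subgroup of `R`
  obtain ⟨K', hK'⟩ := Sylow.exists_subgroup_card_pow_prime (G := R) p (n := a)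
    (by rw [hcardR]; exact Dvd.intro_left _ rfl)
  obtain ⟨K, hK⟩ : ∃ K : Subgroup G, K = K'.map R.subtype := ⟨_, rfl⟩
  have hKR : K ≤ R := by rw [hK]; exact Subgroup.map_subtype_le K'
  have hcardK : Nat.card K = p ^ a := by
    rw [hK, Subgroup.card_map_of_injective R.subtype_injective, hK']
  have hpodd : Nat.Coprime p 2 := (Nat.coprime_primes hp Nat.prime_two).mpr hp2
  have hKodd : ∀ k ∈ K, (orderOf k).Coprime 2 := by
    intro k hk
    have h1 : orderOf k ∣ p ^ a := by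
      rw [← hcardK]
      have := orderOf_dvd_natCard (⟨k, hk⟩ : K)
      rwa [Subgroup.orderOf_mk] at this
    exact Nat.Coprime.coprime_dvd_left h1 (Nat.Coprime.pow_left a hpodd)
  have hKQ : K ⊓ Q = ⊥ := by
    apply (Subgroup.disjoint_of_coprime_natCard _).eq_bot
    obtain ⟨j, hj⟩ := IsPGroup.iff_card.mp hQ2
    rw [hcardK, hj]
    exact Nat.Coprime.pow _ _ hpodd
  have hKnc : ∀ k ∈ K, k ≠ 1 → ¬ ∀ q ∈ Q, k * q * k⁻¹ = q := by
    intro k hk hk1 hc
    apply hk1
    have h1 : k ∈ Subgroup.centralizer (Q : Set G) := by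
      rw [Subgroup.mem_centralizer_iff]
      intro q hq
      have := hc q hq
      calc q * k = (k * q * k⁻¹) * k := by rw [this]
        _ = k * q := by group
    have h2 : k ∈ K ⊓ Q := ⟨hk, hCQ h1⟩
    rw [hKQ] at h2
    exact Subgroup.mem_bot.mp h2
  -- a nontrivial element of `K`
  have hKne : K ≠ ⊥ := by
    intro h
    have h1 : Nat.card K = 1 := by rw [h]; exact Subgroup.card_bot
    rw [hcardK] at h1
    have : 2 ≤ p := hp.two_le
    have h2 : p ^ 1 ≤ p ^ a := Nat.pow_le_pow_right (by omega) (by omega)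
    rw [pow_one] at h2
    omega
  obtain ⟨k₀, hk₀⟩ := (Subgroup.ne_bot_iff_exists_ne_one).mp hKne
  obtain ⟨g, hgdef⟩ : ∃ g : G, g = (k₀ : G) := ⟨_, rfl⟩
  have hgK : g ∈ K := by rw [hgdef]; exact k₀.2
  have hg1 : g ≠ 1 := by
    intro h
    apply hk₀
    apply Subtype.ext
    rw [← hgdef, h]; rfl
  -- `Q` is quaternion
  obtain ⟨φ⟩ := q8_of_tdata hD hzc Q hQT hQ2 g (hnormQ g) (hKodd g hgK) (hKnc g hgK hg1)
  have hcQ8 : Nat.card Q = 8 := by
    rw [Nat.card_congr φ.toEquiv, Nat.card_eq_fintype_card, QuaternionGroup.card]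
  -- an element of order four
  obtain ⟨u₀, hu₀⟩ : ∃ u₀ : Q, u₀ ^ 2 ≠ 1 := by
    refine ⟨φ.symm (QuaternionGroup.a 1), ?_⟩
    intro h
    have h1 := congrArg φ h
    rw [map_pow, MulEquiv.apply_symm_apply, map_one] at h1
    exact absurd h1 (by decide)
  obtain ⟨u, hu⟩ : ∃ u : G, u = (u₀ : G) := ⟨_, rfl⟩
  have huQ : u ∈ Q := by rw [hu]; exact u₀.2
  have hu2 : u ^ 2 ≠ 1 := by
    intro h
    apply hu₀
    apply Subtype.ext
    rw [Subgroup.coe_pow, ← hu, h]; rfl
  have huinv : u ≠ u⁻¹ := by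
    intro h
    apply hu2
    rw [pow_two]
    calc u * u = u * u⁻¹ := by rw [← h]
      _ = 1 := mul_inv_cancel u
  have hstep : ∀ h ∈ K, h ≠ 1 → h * u * h⁻¹ ≠ u ∧ h * u * h⁻¹ ≠ u⁻¹ := by
    intro h hh hh1
    exact Cfsg.Agent.Lib.Helper1.QS.step1 Q φ h (hnormQ h) (hKodd h hh) (hKnc h hh hh1) u huQ hu2
  -- `|K| ≤ 3`
  obtain ⟨S, hS⟩ : ∃ S : Set G, S = {q : G | q ∈ Q ∧ q ^ 2 ≠ 1} := ⟨_, rfl⟩
  have hSfin : S.Finite := Set.toFinite S
  have hScard : S.ncard ≤ 6 := by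
    obtain ⟨F0, hF0⟩ : ∃ F0 : {w : QuaternionGroup 2 // w ^ 2 ≠ 1} → G,
        F0 = fun w => ((φ.symm w.1 : Q) : G) := ⟨_, rfl⟩
    have hsub : S ⊆ Set.range F0 := by
      intro q hq
      rw [hS] at hq
      obtain ⟨hqQ, hq2⟩ := hq
      have hw : (φ ⟨q, hqQ⟩) ^ 2 ≠ 1 := by
        intro h
        apply hq2
        have h1 : φ (⟨q, hqQ⟩ ^ 2) = φ 1 := by rw [map_pow, h, map_one]
        have h2 := φ.injective h1
        have h3 := congrArg Subtype.val h2
        rw [Subgroup.coe_pow, Subgroup.coe_one] at h3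
        exact h3
      refine ⟨⟨φ ⟨q, hqQ⟩, hw⟩, ?_⟩
      rw [hF0]
      show ((φ.symm (φ ⟨q, hqQ⟩) : Q) : G) = q
      rw [MulEquiv.symm_apply_apply]
    calc S.ncard ≤ (Set.range F0).ncard := Set.ncard_le_ncard hsub (Set.toFinite _)
      _ ≤ Nat.card {w : QuaternionGroup 2 // w ^ 2 ≠ 1} := by
          rw [← Set.image_univ]
          calc (F0 '' Set.univ).ncard ≤ (Set.univ : Set {w : QuaternionGroup 2 // w ^ 2 ≠ 1}).ncard :=
                Set.ncard_image_le (Set.toFinite _)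
            _ = _ := Set.ncard_univ _
      _ = 6 := card_quat_sq_ne
  obtain ⟨F, hF⟩ : ∃ F : K × Bool → G,
      F = fun kb => (kb.1 : G) * (if kb.2 then u else u⁻¹) * (kb.1 : G)⁻¹ := ⟨_, rfl⟩
  have hFinj : Function.Injective F := by
    rintro ⟨k₁, ε₁⟩ ⟨k₂, ε₂⟩ heq
    rw [hF] at heq
    simp only at heq
    obtain ⟨h, hh⟩ : ∃ h : G, h = (k₂ : G)⁻¹ * (k₁ : G) := ⟨_, rfl⟩
    have hhK : h ∈ K := by rw [hh]; exact K.mul_mem (K.inv_mem k₂.2) k₁.2
    have key : ∀ v₁ v₂ : G, (k₁ : G) * v₁ * (k₁ : G)⁻¹ = (k₂ : G) * v₂ * (k₂ : G)⁻¹ →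
        h * v₁ * h⁻¹ = v₂ := by
      intro v₁ v₂ hv
      rw [hh]
      calc (k₂ : G)⁻¹ * (k₁ : G) * v₁ * ((k₂ : G)⁻¹ * (k₁ : G))⁻¹
          = (k₂ : G)⁻¹ * ((k₁ : G) * v₁ * (k₁ : G)⁻¹) * (k₂ : G) := by group
        _ = v₂ := by rw [hv]; group
    have hinvconj : ∀ v w : G, h * v⁻¹ * h⁻¹ = w → h * v * h⁻¹ = w⁻¹ := by
      intro v w hvw
      rw [← hvw]; group
    have hh1 : h = 1 := by
      by_contra hne1
      obtain ⟨hs1, hs2⟩ := hstep h hhK hne1
      rcases ε₁ with _ | _ <;> rcases ε₂ with _ | _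
      · have := key _ _ heq
        simp only [Bool.false_eq_true, if_false] at this
        have h3 := hinvconj _ _ this
        rw [inv_inv] at h3
        exact hs1 h3
      · have := key _ _ heq
        simp only [Bool.false_eq_true, if_false, if_true] at this
        have h3 := hinvconj _ _ this
        exact hs2 h3
      · have := key _ _ heq
        simp only [Bool.false_eq_true, if_false, if_true] at this
        exact hs2 this
      · have := key _ _ heq
        simp only [if_true] at this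
        exact hs1 this
    have hk12 : k₁ = k₂ := by
      apply Subtype.ext
      have : (k₂ : G)⁻¹ * (k₁ : G) = 1 := by rw [← hh, hh1]
      calc (k₁ : G) = (k₂ : G) * ((k₂ : G)⁻¹ * (k₁ : G)) := by group
        _ = (k₂ : G) := by rw [this, mul_one]
    subst hk12
    have hv : (if ε₁ = true then u else u⁻¹) = (if ε₂ = true then u else u⁻¹) :=
      mul_left_cancel (mul_right_cancel heq)
    rcases ε₁ with _ | _ <;> rcases ε₂ with _ | _
    · rfl
    · simp only [Bool.false_eq_true, if_false, if_true] at hv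
      exact absurd hv.symm huinv
    · simp only [Bool.false_eq_true, if_false, if_true] at hv
      exact absurd hv huinv
    · rfl
  have hFS : ∀ kb, F kb ∈ S := by
    rintro ⟨k, ε⟩
    rw [hF, hS]
    have hv : ∀ v ∈ Q, v ^ 2 ≠ 1 → (k : G) * v * (k : G)⁻¹ ∈ {q : G | q ∈ Q ∧ q ^ 2 ≠ 1} := by
      intro v hvQ hv2
      refine ⟨hQn.conj_mem v hvQ _, ?_⟩
      intro h
      apply hv2
      rw [conj_pow] at h
      have : v ^ 2 = (k : G)⁻¹ * ((k : G) * v ^ 2 * (k : G)⁻¹) * (k : G) := by group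
      rw [this, h]; group
    rcases ε with _ | _
    · simp only [Bool.false_eq_true, if_false]
      refine hv _ (Q.inv_mem huQ) ?_
      rw [inv_pow]
      intro h
      exact hu2 (inv_eq_one.mp h)
    · simp only [if_true]
      exact hv _ huQ hu2
  have hK3 : Nat.card K * 2 ≤ 6 := by
    have h1 : Nat.card (K × Bool) = Nat.card K * 2 := by
      rw [Nat.card_prod, Nat.card_eq_fintype_card (α := Bool), Fintype.card_bool]
    rw [← h1]
    have h2 : (Set.range F).ncard = Nat.card (K × Bool) := by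
      rw [← Set.image_univ, Set.ncard_image_of_injective _ hFinj, Set.ncard_univ]
    rw [← h2]
    have h3 : Set.range F ⊆ S := by
      rintro _ ⟨kb, rfl⟩; exact hFS kb
    exact (Set.ncard_le_ncard h3 hSfin).trans hScard
  have hK3' : p ^ a = 3 := by
    rw [hcardK] at hK3
    have h1 : 3 ≤ p := by
      have := hp.two_le
      rcases Nat.lt_or_ge p 3 with h | h
      · exfalso; apply hp2; omega
      · exact h
    have h2 : p ^ 1 ≤ p ^ a := Nat.pow_le_pow_right (by omega) (by omega)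
    rw [pow_one] at h2
    omega
  have hcardR24 : Nat.card R = 24 := by rw [hcardR, hcQ8, hK3']
  -- `g` has order three
  have hg3 : g ^ 3 = 1 := by
    have h1 : orderOf g ∣ 3 := by
      rw [← hK3', ← hcardK]
      have := orderOf_dvd_natCard (⟨g, hgK⟩ : K)
      rwa [Subgroup.orderOf_mk] at this
    exact orderOf_dvd_iff_pow_eq_one.mp h1
  obtain ⟨b, c, hbQ, hcQ, hb4, hb2, hcc, hcb, hgb, hgc, hgen⟩ :=
    Cfsg.Agent.Lib.Helper1.QS.exists_adapted Q φ g (hnormQ g) (hKodd g hgK) (hKnc g hgK hg1)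
  obtain ⟨U, hUcard, hUmin, hUiso⟩ := Cfsg.Agent.Lib.Helper2.SL2ThreeSub.sl2_three_subgroup Q b c g
    hbQ hcQ hb4 hb2 hcc hcb hgb hgc hgen (hnormQ g) hg3
  have hUR : U ≤ R := hUmin R hQR (hKR hgK)
  have hUeq : U = R := Subgroup.eq_of_le_of_card_ge hUR (by rw [hUcard, hcardR24])
  exact ⟨U, by rw [hUeq]; exact hRn, hUiso⟩

end Cfsg.Agent.Lib.Helper2.SolvDihSL
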