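import Cfsg.Agent.Lib.Helper2.SimpCrit2

set_option autoImplicit false

/-! The simplicity criterion for group fusion systems, pushed forward along a cover whose
kernel lies in the chosen `p`-subgroup. -/

namespace Cfsg.Agent.Lib.Helper2.Sp4

open Cfsg Cfsg.FusionSystem Cfsg.Agent.Lib.Helper9 Cfsg.Agent.Lib.Helper2.StrongInv
  Cfsg.Agent.Lib.Helper2.SimpCrit Cfsg.Agent.Lib.Helper2.SimpCrit2

section GroupCase

variable {G : Type*} [Group G] [Finite G] {p : ℕ} [Fact p.Prime] {L : Type*} [Group L]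

omit [Finite G] [Fact p.Prime] in
/-- preimages of normalizing elements normalize, when the kernel lies in `U` -/
theorem lift_normalizer_ker (ψ : L →* G) (U : Subgroup L) (hkU : ψ.ker ≤ U) (x : L)
    (hx : ψ x ∈ Subgroup.normalizer ((U.map ψ : Subgroup G) : Set G)) :
    x ∈ Subgroup.normalizer (U : Set L) := by
  have hcomap : ∀ x : L, ψ x ∈ U.map ψ → x ∈ U := by
    intro x hx
    obtain ⟨u, hu, he⟩ := Subgroup.mem_map.mp hx
    have hz : u⁻¹ * x ∈ ψ.ker := by
      rw [MonoidHom.mem_ker, map_mul, map_inv, he, inv_mul_cancel]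
    have e : x = u * (u⁻¹ * x) := by group
    rw [e]
    exact U.mul_mem hu (hkU hz)
  have key : ∀ y : L, ψ y ∈ Subgroup.normalizer ((U.map ψ : Subgroup G) : Set G) →
      ∀ u ∈ U, y * u * y⁻¹ ∈ U := by
    intro y hy u hu
    apply hcomap
    rw [map_mul, map_mul, map_inv]
    exact (Subgroup.mem_normalizer_iff.mp hy (ψ u)).mp (Subgroup.mem_map_of_mem ψ hu)
  apply mem_normalizer_of_conj_mem (key x hx)
  intro u hu
  have h1 := key x⁻¹ (by rw [map_inv]; exact Subgroup.inv_mem _ hx) u hu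
  rwa [inv_inv] at h1

/-- the simplicity criterion pushed forward along a cover with kernel inside `U` -/
theorem simple_of_cover_ker (ψ : L →* G) (hψ : Function.Surjective ψ)
    (U : Subgroup L) (hU : IsPGroup p U) (hkU : ψ.ker ≤ U) (hU1 : ∃ u ∈ U, u ∉ ψ.ker)
    (S : Sylow p G) (hSU : (S : Subgroup G) = U.map ψ)
    (ha : ∀ T : Subgroup L, T ≤ U → ψ.ker ≤ T → (∃ t ∈ T, t ∉ ψ.ker) →
      (∀ t ∈ T, ∀ x : L, x * t * x⁻¹ ∈ U → x * t * x⁻¹ ∈ T) → T = U)
    (𝓡 : Set (Subgroup L))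
    (h𝓡 : ∀ R ∈ 𝓡, R ≤ U ∧ (∀ u ∈ U, ∀ r ∈ R, u * r * u⁻¹ ∈ R) ∧
      ∀ u ∈ U, (∀ r ∈ R, u * r * u⁻¹ * r⁻¹ ∈ ψ.ker) → u ∈ R)
    (Y : Set L)
    (hY : ∀ y ∈ Y, y ∈ Subgroup.normalizer (U : Set L) ∧ ∃ R ∈ 𝓡,
      y ∈ Subgroup.closure {z : L | z ∈ Subgroup.normalizer (R : Set L) ∧
        ∃ k : ℕ, z ^ p ^ k = 1})
    (hN : Subgroup.normalizer (U : Set L) ≤ Subgroup.closure (Y ∪ (U : Set L))) :
    (groupFusionSystem (S : Subgroup G)).IsSimple p := by
  have hcomap : ∀ x : L, ψ x ∈ U.map ψ → x ∈ U := by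
    intro x hx
    obtain ⟨u, hu, he⟩ := Subgroup.mem_map.mp hx
    have hz : u⁻¹ * x ∈ ψ.ker := by
      rw [MonoidHom.mem_ker, map_mul, map_inv, he, inv_mul_cancel]
    have e : x = u * (u⁻¹ * x) := by group
    rw [e]
    exact U.mul_mem hu (hkU hz)
  have hlift : ∀ x : L, ψ x ∈ Subgroup.normalizer ((U.map ψ : Subgroup G) : Set G) →
      x ∈ Subgroup.normalizer (U : Set L) := by
    intro x hx
    have key : ∀ y : L, ψ y ∈ Subgroup.normalizer ((U.map ψ : Subgroup G) : Set G) →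
        ∀ u ∈ U, y * u * y⁻¹ ∈ U := by
      intro y hy u hu
      apply hcomap
      rw [map_mul, map_mul, map_inv]
      exact (Subgroup.mem_normalizer_iff.mp hy (ψ u)).mp (Subgroup.mem_map_of_mem ψ hu)
    apply mem_normalizer_of_conj_mem (key x hx)
    intro u hu
    have h1 := key x⁻¹ (by rw [map_inv]; exact Subgroup.inv_mem _ hx) u hu
    rwa [inv_inv] at h1
  have hS1 : (S : Subgroup G) ≠ ⊥ := by
    intro hb
    obtain ⟨u, hu, hun⟩ := hU1
    apply hun
    rw [MonoidHom.mem_ker]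
    have h2 : ψ u ∈ (S : Subgroup G) := by rw [hSU]; exact Subgroup.mem_map_of_mem ψ hu
    rw [hb] at h2
    exact Subgroup.mem_bot.mp h2
  have ha' : ∀ T : Subgroup G, (groupFusionSystem (S : Subgroup G)).StronglyClosed T →
      T = ⊥ ∨ T = (S : Subgroup G) := by
    intro T hT
    by_cases hbot : T = ⊥
    · exact Or.inl hbot
    right
    apply le_antisymm hT.1
    have hker : ψ.ker ≤ U ⊓ T.comap ψ := by
      intro z hz
      refine Subgroup.mem_inf.mpr ⟨hkU hz, ?_⟩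
      rw [Subgroup.mem_comap, MonoidHom.mem_ker.mp hz]
      exact T.one_mem
    have hne : ∃ t ∈ U ⊓ T.comap ψ, t ∉ ψ.ker := by
      by_contra hno
      apply hbot
      rw [Subgroup.eq_bot_iff_forall]
      intro s hs
      have hsS : s ∈ U.map ψ := by rw [← hSU]; exact hT.1 hs
      obtain ⟨u, hu, rfl⟩ := Subgroup.mem_map.mp hsS
      have h2 : u ∈ U ⊓ T.comap ψ := Subgroup.mem_inf.mpr ⟨hu, Subgroup.mem_comap.mpr hs⟩
      by_contra h1
      exact hno ⟨u, h2, fun hk => h1 (MonoidHom.mem_ker.mp hk)⟩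
    have hcl : ∀ t ∈ U ⊓ T.comap ψ, ∀ x : L, x * t * x⁻¹ ∈ U →
        x * t * x⁻¹ ∈ U ⊓ T.comap ψ := by
      intro t ht x hx
      obtain ⟨htU, htT⟩ := Subgroup.mem_inf.mp ht
      refine Subgroup.mem_inf.mpr ⟨hx, ?_⟩
      rw [Subgroup.mem_comap, map_mul, map_mul, map_inv]
      apply stronglyClosed_conj_mem hT (Subgroup.mem_comap.mp htT)
      rw [hSU, ← map_inv, ← map_mul, ← map_mul]
      exact Subgroup.mem_map_of_mem ψ hx
    have hTU := ha _ inf_le_left hker hne hcl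
    rw [hSU]
    rintro _ ⟨u, hu, rfl⟩
    have h2 : u ∈ U ⊓ T.comap ψ := by rw [hTU]; exact hu
    exact (Subgroup.mem_inf.mp h2).2
  have hF := groupFusion_saturated S
  have hRimg : ∀ R ∈ 𝓡, (groupFusionSystem (S : Subgroup G)).IsFullyNormalized (R.map ψ) ∧
      (groupFusionSystem (S : Subgroup G)).IsCentric (R.map ψ) := by
    intro R hR
    obtain ⟨hRU, hRn, hRc⟩ := h𝓡 R hR
    have hRS : R.map ψ ≤ (S : Subgroup G) := by rw [hSU]; exact Subgroup.map_mono hRU
    have hNS : (S : Subgroup G) ≤ Subgroup.normalizer ((R.map ψ : Subgroup G) : Set G) := by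
      rw [hSU]
      rintro _ ⟨u, hu, rfl⟩
      apply mem_normalizer_of_conj_mem
      · rintro _ ⟨r, hr, rfl⟩
        rw [← map_inv, ← map_mul, ← map_mul]
        exact Subgroup.mem_map_of_mem ψ (hRn u hu r hr)
      · rintro _ ⟨r, hr, rfl⟩
        rw [← map_inv, ← map_mul, ← map_mul]
        have h2 := hRn u⁻¹ (U.inv_mem hu) r hr
        rw [inv_inv] at h2
        exact Subgroup.mem_map_of_mem ψ h2
    refine ⟨fullyNormalized_of_le_normalizer _ hRS hNS,
      centric_of_selfCentralizing S hRS hNS ?_⟩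
    intro s hs hcomm
    rw [hSU] at hs
    obtain ⟨u, hu, rfl⟩ := Subgroup.mem_map.mp hs
    apply Subgroup.mem_map_of_mem ψ
    apply hRc u hu
    intro r hr
    rw [MonoidHom.mem_ker, map_mul, map_mul, map_mul, map_inv, map_inv,
      hcomm (ψ r) (Subgroup.mem_map_of_mem ψ hr)]
    group
  apply simple_of_fn_centric S hS1 ha'
  obtain ⟨A, hAdef⟩ : ∃ A : Subgroup (MulAut ↥(S : Subgroup G)), A = ⨆ (R : Subgroup G) (_ : (Cfsg.groupFusionSystem (S : Subgroup G)).IsFullyNormalized R ∧ (Cfsg.groupFusionSystem (S : Subgroup G)).IsCentric R), Cfsg.autInducedBy (Subgroup.closure {g : G | g ∈ Subgroup.normalizer (R : Set G) ∧ ∃ k : ℕ, orderOf g = p ^ k}) (S : Subgroup G) := ⟨_, rfl⟩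
  rw [← hAdef]
  have hp : p.Prime := Fact.out
  have key : ∀ g ∈ Subgroup.closure (ψ '' (Y ∪ (U : Set L))),
      ∃ hg : g ∈ Subgroup.normalizer (((S : Subgroup G)) : Set G),
        conjAut (S : Subgroup G) ⟨g, hg⟩ ∈ A := by
    intro g hg
    induction hg using Subgroup.closure_induction with
    | mem g hg =>
      obtain ⟨y, hy, rfl⟩ := hg
      rcases hy with hyY | hyU
      · obtain ⟨hyN, R, hR, hyR⟩ := hY y hyY
        have hyN' : ψ y ∈ Subgroup.normalizer (((S : Subgroup G)) : Set G) := by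
          rw [hSU]
          exact Subgroup.le_normalizer_map ψ (Subgroup.mem_map_of_mem ψ hyN)
        refine ⟨hyN', ?_⟩
        rw [hAdef]
        obtain ⟨hfn, hce⟩ := hRimg R hR
        refine Subgroup.mem_iSup_of_mem (R.map ψ) (Subgroup.mem_iSup_of_mem ⟨hfn, hce⟩ ?_)
        rw [mem_autInducedBy_iff]
        refine ⟨ψ y, ?_, fun s => rfl⟩
        have hle : (Subgroup.closure {z : L | z ∈ Subgroup.normalizer (R : Set L) ∧
            ∃ k : ℕ, z ^ p ^ k = 1}).map ψ ≤
            Subgroup.closure {g : G | g ∈ Subgroup.normalizer ((R.map ψ : Subgroup G) : Set G) ∧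
              ∃ k : ℕ, orderOf g = p ^ k} := by
          rw [MonoidHom.map_closure, Subgroup.closure_le]
          rintro _ ⟨z, ⟨hzN, k, hk⟩, rfl⟩
          apply Subgroup.subset_closure
          refine ⟨Subgroup.le_normalizer_map ψ (Subgroup.mem_map_of_mem ψ hzN), ?_⟩
          have hd : orderOf (ψ z) ∣ p ^ k := by
            apply orderOf_dvd_of_pow_eq_one
            rw [← map_pow, hk, map_one]
          obtain ⟨j, -, hj⟩ := (Nat.dvd_prime_pow hp).1 hd
          exact ⟨j, hj⟩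
        exact hle (Subgroup.mem_map_of_mem ψ hyR)
      · have hyS : ψ y ∈ (S : Subgroup G) := by
          rw [hSU]; exact Subgroup.mem_map_of_mem ψ hyU
        refine ⟨Subgroup.le_normalizer hyS, ?_⟩
        rw [hAdef]
        refine Subgroup.mem_iSup_of_mem (S : Subgroup G)
          (Subgroup.mem_iSup_of_mem ⟨fullyNormalized_top _, centric_top _⟩ ?_)
        rw [mem_autInducedBy_iff]
        refine ⟨ψ y, ?_, fun s => rfl⟩
        apply Subgroup.subset_closure
        refine ⟨Subgroup.le_normalizer hyS, ?_⟩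
        obtain ⟨k, hk⟩ := S.isPGroup' ⟨ψ y, hyS⟩
        have hd : orderOf (ψ y) ∣ p ^ k := by
          apply orderOf_dvd_of_pow_eq_one
          have h2 := congrArg Subtype.val hk
          simpa using h2
        obtain ⟨j, -, hj⟩ := (Nat.dvd_prime_pow hp).1 hd
        exact ⟨j, hj⟩
    | one =>
      refine ⟨Subgroup.one_mem _, ?_⟩
      have e : (⟨1, Subgroup.one_mem _⟩ :
          ↥(Subgroup.normalizer (((S : Subgroup G)) : Set G))) = 1 := rfl
      rw [e, map_one]
      exact Subgroup.one_mem _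
    | mul x y _ _ ihx ihy =>
      obtain ⟨hx, hx'⟩ := ihx
      obtain ⟨hy, hy'⟩ := ihy
      refine ⟨Subgroup.mul_mem _ hx hy, ?_⟩
      have e : (⟨x * y, Subgroup.mul_mem _ hx hy⟩ :
          ↥(Subgroup.normalizer (((S : Subgroup G)) : Set G))) = ⟨x, hx⟩ * ⟨y, hy⟩ := rfl
      rw [e, map_mul]
      exact Subgroup.mul_mem _ hx' hy'
    | inv x _ ihx =>
      obtain ⟨hx, hx'⟩ := ihx
      refine ⟨Subgroup.inv_mem _ hx, ?_⟩
      have e : (⟨x⁻¹, Subgroup.inv_mem _ hx⟩ :
          ↥(Subgroup.normalizer (((S : Subgroup G)) : Set G))) = ⟨x, hx⟩⁻¹ := rfl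
      rw [e, map_inv]
      exact Subgroup.inv_mem _ hx'
  intro α hα
  obtain ⟨g, -, hgα⟩ := (mem_autInducedBy_iff ⊤ _ α).mp hα
  have hgN : g ∈ Subgroup.normalizer (((S : Subgroup G)) : Set G) :=
    mem_normalizer_of_induces α hgα
  obtain ⟨x, rfl⟩ := hψ g
  have hxN : x ∈ Subgroup.normalizer (U : Set L) := by
    rw [hSU] at hgN
    exact hlift x hgN
  have hxc := hN hxN
  have hmem : ψ x ∈ Subgroup.closure (ψ '' (Y ∪ (U : Set L))) := by
    rw [← MonoidHom.map_closure]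
    exact Subgroup.mem_map_of_mem ψ hxc
  obtain ⟨hy, hmem'⟩ := key _ hmem
  have e : α = conjAut (S : Subgroup G) ⟨ψ x, hy⟩ := by
    ext s
    rw [hgα s]
    rfl
  rw [e]
  exact hmem'


end GroupCase

end Cfsg.Agent.Lib.Helper2.Sp4
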