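import Mathlib

set_option autoImplicit false

/-! Facts on `SL₂(F)` in odd characteristic used for the `2`-fusion of `PSp₄(F)`. -/

namespace Cfsg.Agent.Lib.Helper2.Sp4

open Matrix

variable {F : Type*} [Field F]

local notation "H2" => Matrix (Fin 2) (Fin 2) F
local notation "SL2" => Matrix.SpecialLinearGroup (Fin 2) F

theorem sl2_ext {A B : SL2} (h00 : A.1 0 0 = B.1 0 0) (h01 : A.1 0 1 = B.1 0 1)
    (h10 : A.1 1 0 = B.1 1 0) (h11 : A.1 1 1 = B.1 1 1) : A = B := by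
  apply Subtype.ext
  ext i j
  fin_cases i <;> fin_cases j
  · exact h00
  · exact h01
  · exact h10
  · exact h11

theorem eq_iff_e {A B : SL2} : A = B ↔ A.1 0 0 = B.1 0 0 ∧ A.1 0 1 = B.1 0 1 ∧
    A.1 1 0 = B.1 1 0 ∧ A.1 1 1 = B.1 1 1 :=
  ⟨fun h => by subst h; exact ⟨rfl, rfl, rfl, rfl⟩, fun ⟨h0, h1, h2, h3⟩ => sl2_ext h0 h1 h2 h3⟩

theorem mul_e (A B : SL2) (i j : Fin 2) :
    (A * B).1 i j = A.1 i 0 * B.1 0 j + A.1 i 1 * B.1 1 j := by
  rw [Matrix.SpecialLinearGroup.coe_mul, Matrix.mul_apply, Fin.sum_univ_two]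

theorem one_00 : (1 : SL2).1 0 0 = 1 := by simp
theorem one_01 : (1 : SL2).1 0 1 = 0 := by simp
theorem one_10 : (1 : SL2).1 1 0 = 0 := by simp
theorem one_11 : (1 : SL2).1 1 1 = 1 := by simp

theorem det_e (A : SL2) : A.1 0 0 * A.1 1 1 - A.1 0 1 * A.1 1 0 = 1 := by
  rw [← Matrix.det_fin_two]
  exact A.2

theorem inv_00 (A : SL2) : (A⁻¹).1 0 0 = A.1 1 1 := by
  rw [Matrix.SpecialLinearGroup.coe_inv, Matrix.adjugate_fin_two]
  rfl
theorem inv_01 (A : SL2) : (A⁻¹).1 0 1 = -A.1 0 1 := by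
  rw [Matrix.SpecialLinearGroup.coe_inv, Matrix.adjugate_fin_two]
  rfl
theorem inv_10 (A : SL2) : (A⁻¹).1 1 0 = -A.1 1 0 := by
  rw [Matrix.SpecialLinearGroup.coe_inv, Matrix.adjugate_fin_two]
  rfl
theorem inv_11 (A : SL2) : (A⁻¹).1 1 1 = A.1 0 0 := by
  rw [Matrix.SpecialLinearGroup.coe_inv, Matrix.adjugate_fin_two]
  rfl

/-- the matrix `-1` -/
def nI : SL2 := ⟨-1, by rw [Matrix.det_neg, Matrix.det_one, Fintype.card_fin]; norm_num⟩

theorem nI_val : (nI : SL2).1 = -1 := rfl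
theorem nI_00 : (nI : SL2).1 0 0 = -1 := by simp [nI]
theorem nI_01 : (nI : SL2).1 0 1 = 0 := by simp [nI]
theorem nI_10 : (nI : SL2).1 1 0 = 0 := by simp [nI]
theorem nI_11 : (nI : SL2).1 1 1 = -1 := by simp [nI]

theorem nI_comm (A : SL2) : nI * A = A * nI := by
  apply sl2_ext <;> simp only [mul_e, nI_00, nI_01, nI_10, nI_11] <;> ring

theorem nI_sq : (nI : SL2) * nI = 1 := by
  apply sl2_ext <;> simp only [mul_e, nI_00, nI_01, nI_10, nI_11, one_00, one_01, one_10, one_11] <;>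
    ring

theorem nI_ne_one (h2 : (2 : F) ≠ 0) : (nI : SL2) ≠ 1 := by
  intro h
  have h1 := (eq_iff_e.mp h).1
  rw [nI_00, one_00] at h1
  apply h2
  linear_combination -h1

theorem invol (h2 : (2 : F) ≠ 0) (A : SL2) (h : A * A = 1) : A = 1 ∨ A = nI := by
  have hd := det_e A
  have h' := eq_iff_e.mp h
  simp only [mul_e, one_00, one_01, one_10, one_11] at h'
  obtain ⟨h00, h01, h10, h11⟩ := h'
  have hb : A.1 0 1 = 0 := by grind
  have hc : A.1 1 0 = 0 := by grind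
  have hd' : A.1 1 1 = A.1 0 0 := by grind
  have hs : (A.1 0 0 - 1) * (A.1 0 0 + 1) = 0 := by grind
  rcases mul_eq_zero.mp hs with hs | hs
  · left
    apply sl2_ext <;> simp only [one_00, one_01, one_10, one_11] <;> grind
  · right
    apply sl2_ext <;> simp only [nI_00, nI_01, nI_10, nI_11] <;> grind

theorem tr_ne_two (h2 : (2 : F) ≠ 0) (A : SL2) (k : ℕ) (hk : A ^ 2 ^ k = 1) (hA : A ≠ 1) :
    A.1 0 0 + A.1 1 1 ≠ 2 := by
  intro htr
  apply hA
  have hd := det_e A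
  obtain ⟨N, hNdef⟩ : ∃ N : H2, N = A.1 - 1 := ⟨_, rfl⟩
  have hAN : A.1 = 1 + N := by rw [hNdef]; abel
  have hNN : N * N = 0 := by
    rw [hNdef]
    ext i j
    fin_cases i <;> fin_cases j <;>
      simp [Matrix.mul_apply, Fin.sum_univ_two, Matrix.sub_apply] <;> grind
  have hpow' : ∀ m : ℕ, (1 + N) ^ m = 1 + (m : F) • N := by
    intro m
    induction m with
    | zero => simp
    | succ m ih =>
      rw [pow_succ, ih, add_mul, one_mul, smul_mul_assoc, mul_add, mul_one, hNN, add_zero,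
        Nat.cast_succ, add_smul, one_smul]
      abel
  have hpow : ∀ m : ℕ, A.1 ^ m = 1 + (m : F) • N := by
    intro m
    rw [hAN]
    exact hpow' m
  have h1 : A.1 ^ 2 ^ k = 1 := by
    have h3 := congrArg Subtype.val hk
    rwa [Matrix.SpecialLinearGroup.coe_pow] at h3
  rw [hpow] at h1
  have h3 : ((2 ^ k : ℕ) : F) • N = 0 := by
    have h4 : (1 : H2) + ((2 ^ k : ℕ) : F) • N = 1 + 0 := by rw [h1, add_zero]
    exact add_left_cancel h4
  have h4 : ((2 ^ k : ℕ) : F) ≠ 0 := by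
    push_cast
    exact pow_ne_zero _ h2
  have hN0 : N = 0 := by
    rcases smul_eq_zero.mp h3 with h | h
    · exact absurd h h4
    · exact h
  apply Subtype.ext
  rw [hAN, hN0, add_zero]
  rfl

theorem mul_eq_one_of_comm (x x' : SL2) (hc : x * x' = x' * x)
    (htr : x'.1 0 0 + x'.1 1 1 = x.1 0 0 + x.1 1 1)
    (h1 : (x' * x⁻¹).1 0 0 + (x' * x⁻¹).1 1 1 ≠ 2) : x' * x = 1 := by
  have hd := det_e x
  have hd' := det_e x'
  have hc' := eq_iff_e.mp hc
  simp only [mul_e] at hc'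
  simp only [mul_e, inv_00, inv_01, inv_10, inv_11] at h1
  obtain ⟨c0, c1, c2, c3⟩ := hc'
  apply sl2_ext <;> simp only [mul_e, one_00, one_01, one_10, one_11] <;> grind

theorem trace_conj (n x : SL2) :
    (n * x * n⁻¹).1 0 0 + (n * x * n⁻¹).1 1 1 = x.1 0 0 + x.1 1 1 := by
  simp only [mul_e, inv_00, inv_01, inv_10, inv_11]
  linear_combination (x.1 0 0 + x.1 1 1) * det_e n

theorem eq_or_eq_inv (h2 : (2 : F) ≠ 0) (x x' : SL2) (hc : x * x' = x' * x)
    (htr : x'.1 0 0 + x'.1 1 1 = x.1 0 0 + x.1 1 1) (k : ℕ) (hk : (x' * x⁻¹) ^ 2 ^ k = 1) :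
    x' = x ∨ x' = x⁻¹ := by
  by_cases h : x' * x⁻¹ = 1
  · left
    exact mul_inv_eq_one.mp h
  · right
    have h3 := mul_eq_one_of_comm x x' hc htr (tr_ne_two h2 _ k hk h)
    exact eq_inv_of_mul_eq_one_left h3

theorem inv_of_comm (h2 : (2 : F) ≠ 0) (c n y : SL2) (hc : c * c = nI) (hn : n * c = c * n)
    (hy : y * c = c⁻¹ * y) : y * n = n⁻¹ * y := by
  have dc := det_e c
  have dn := det_e n
  have dy := det_e y
  have hc' := eq_iff_e.mp hc
  have hn' := eq_iff_e.mp hn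
  have hy' := eq_iff_e.mp hy
  simp only [mul_e, nI_00, nI_01, nI_10, nI_11, inv_00, inv_01, inv_10, inv_11] at hc' hn' hy'
  obtain ⟨a0, a1, a2, a3⟩ := hc'
  obtain ⟨b0, b1, b2, b3⟩ := hn'
  obtain ⟨e0, e1, e2, e3⟩ := hy'
  apply sl2_ext <;> simp only [mul_e, inv_00, inv_01, inv_10, inv_11] <;> grind

theorem trace_zero (a : SL2) (ha : a * a = nI) : a.1 0 0 + a.1 1 1 = 0 := by
  have da := det_e a
  have ha' := eq_iff_e.mp ha
  simp only [mul_e, nI_00, nI_01, nI_10, nI_11] at ha'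
  obtain ⟨a0, a1, a2, a3⟩ := ha'
  grind

theorem comm_xy (h2 : (2 : F) ≠ 0) (c y g : SL2) (hc : c * c = nI) (hyc : y * c = c⁻¹ * y)
    (hgc : g * c = c * g) (hgy : g * y = y * g) : g = 1 ∨ g = nI := by
  have dc := det_e c
  have dg := det_e g
  have dy := det_e y
  have hc' := eq_iff_e.mp hc
  have hyc' := eq_iff_e.mp hyc
  have hgc' := eq_iff_e.mp hgc
  have hgy' := eq_iff_e.mp hgy
  simp only [mul_e, nI_00, nI_01, nI_10, nI_11, inv_00, inv_01, inv_10, inv_11]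
    at hc' hyc' hgc' hgy'
  obtain ⟨a0, a1, a2, a3⟩ := hc'
  obtain ⟨b0, b1, b2, b3⟩ := hyc'
  obtain ⟨e0, e1, e2, e3⟩ := hgc'
  obtain ⟨f0, f1, f2, f3⟩ := hgy'
  have hb : g.1 0 1 = 0 := by grind
  have hc : g.1 1 0 = 0 := by grind
  have hd' : g.1 1 1 = g.1 0 0 := by grind
  have hs : (g.1 0 0 - 1) * (g.1 0 0 + 1) = 0 := by grind
  rcases mul_eq_zero.mp hs with hs | hs
  · left
    apply sl2_ext <;> simp only [one_00, one_01, one_10, one_11] <;> grind
  · right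
    apply sl2_ext <;> simp only [nI_00, nI_01, nI_10, nI_11] <;> grind

theorem val_sq (a : SL2) (ha : a * a = nI) : a.1 * a.1 = -1 := by
  have h := congrArg Subtype.val ha
  rw [Matrix.SpecialLinearGroup.coe_mul] at h
  rw [h]
  rfl

theorem conj4 [Fintype F] (hF : Fintype.card F % 2 = 1) (a b : SL2) (ha : a * a = nI)
    (hb : b * b = nI) (htr : (b * a).1 0 0 + (b * a).1 1 1 ≠ 2) :
    ∃ k : SL2, k * a = b * k := by
  obtain ⟨δ, hδdef⟩ : ∃ δ : F, δ = 2 - ((b * a).1 0 0 + (b * a).1 1 1) := ⟨_, rfl⟩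
  have hδ : δ ≠ 0 := by
    rw [hδdef]
    intro h
    apply htr
    linear_combination -h
  obtain ⟨s, t, hst⟩ := FiniteField.exists_root_sum_quadratic
    (f := (Polynomial.X : Polynomial F) ^ 2)
    (g := (Polynomial.X : Polynomial F) ^ 2 - Polynomial.C δ⁻¹)
    (Polynomial.degree_X_pow 2) (Polynomial.degree_X_pow_sub_C (by decide) _) hF
  have hst' : (s ^ 2 + t ^ 2) * δ = 1 := by
    simp only [Polynomial.eval_pow, Polynomial.eval_X, Polynomial.eval_sub,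
      Polynomial.eval_C] at hst
    have h1 : s ^ 2 + t ^ 2 = δ⁻¹ := by linear_combination hst
    rw [h1, inv_mul_cancel₀ hδ]
  have tb := trace_zero b hb
  have da := det_e a
  have db := det_e b
  simp only [mul_e] at hδdef
  obtain ⟨Km, hKm⟩ : ∃ Km : H2, Km = (s • (1 : H2) + t • b.1) * (1 - b.1 * a.1) := ⟨_, rfl⟩
  have e1 : (s • (1 : H2) + t • b.1).det = s ^ 2 + t ^ 2 := by
    rw [Matrix.det_fin_two]
    simp only [Matrix.add_apply, Matrix.smul_apply, Matrix.one_apply_eq, smul_eq_mul,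
      Matrix.one_apply_ne (show (0 : Fin 2) ≠ 1 by decide),
      Matrix.one_apply_ne (show (1 : Fin 2) ≠ 0 by decide)]
    grind
  have e2 : (1 - b.1 * a.1 : H2).det = δ := by
    rw [Matrix.det_fin_two]
    simp only [Matrix.sub_apply, Matrix.one_apply_eq, Matrix.mul_apply, Fin.sum_univ_two,
      Matrix.one_apply_ne (show (0 : Fin 2) ≠ 1 by decide),
      Matrix.one_apply_ne (show (1 : Fin 2) ≠ 0 by decide)]
    grind
  have hdet : Km.det = 1 := by rw [hKm, Matrix.det_mul, e1, e2, hst']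
  have haa := val_sq a ha
  have hbb := val_sq b hb
  refine ⟨⟨Km, hdet⟩, ?_⟩
  apply Subtype.ext
  show Km * a.1 = b.1 * Km
  have hcomm : b.1 * (s • (1 : H2) + t • b.1) = (s • (1 : H2) + t • b.1) * b.1 := by
    rw [mul_add, add_mul, mul_smul_comm, smul_mul_assoc, mul_one, one_mul, mul_smul_comm,
      smul_mul_assoc]
  have e3 : Km * a.1 = (s • (1 : H2) + t • b.1) * (a.1 + b.1) := by
    rw [hKm, mul_assoc, sub_mul, one_mul, mul_assoc, haa, mul_neg, mul_one, sub_neg_eq_add]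
  have e4 : b.1 * Km = (s • (1 : H2) + t • b.1) * (a.1 + b.1) := by
    rw [hKm, ← mul_assoc, hcomm, mul_assoc, mul_sub, mul_one, ← mul_assoc b.1 b.1, hbb,
      neg_mul, one_mul, sub_neg_eq_add, add_comm b.1 a.1]
  rw [e3, e4]

theorem hh_det (h2 : (2 : F) ≠ 0) (a b : SL2) (ha : a * a = nI) (hb : b * b = nI) :
    ((1 / 2 : F) • ((1 + b.1) * (1 - a.1))).det = 1 := by
  have ta := trace_zero a ha
  have tb := trace_zero b hb
  have da := det_e a
  have db := det_e b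
  rw [Matrix.det_smul, Matrix.det_mul, Matrix.det_fin_two, Matrix.det_fin_two, Fintype.card_fin]
  simp only [Matrix.add_apply, Matrix.sub_apply, Matrix.one_apply_eq,
    Matrix.one_apply_ne (show (0 : Fin 2) ≠ 1 by decide),
    Matrix.one_apply_ne (show (1 : Fin 2) ≠ 0 by decide)]
  grind

/-- the element `(1 + b)(1 + a)⁻¹` for `a² = b² = -1` -/
def hh (h2 : (2 : F) ≠ 0) (a b : SL2) (ha : a * a = nI) (hb : b * b = nI) : SL2 :=
  ⟨(1 / 2 : F) • ((1 + b.1) * (1 - a.1)), hh_det h2 a b ha hb⟩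

theorem hh_e (h2 : (2 : F) ≠ 0) (a b : SL2) (ha : a * a = nI) (hb : b * b = nI) (i j : Fin 2) :
    (hh h2 a b ha hb).1 i j = (1 / 2 : F) * ((1 + b.1) i 0 * (1 - a.1) 0 j +
      (1 + b.1) i 1 * (1 - a.1) 1 j) := by
  show ((1 / 2 : F) • ((1 + b.1) * (1 - a.1))) i j = _
  rw [Matrix.smul_apply, Matrix.mul_apply, Fin.sum_univ_two, smul_eq_mul]

theorem hh_x (h2 : (2 : F) ≠ 0) (x y : SL2) (hx : x * x = nI) (hy : y * y = nI)
    (hyx : y * x = x⁻¹ * y) : hh h2 x y hx hy * x = (nI * (x * y)) * hh h2 x y hx hy := by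
  have dx := det_e x
  have dy := det_e y
  have hx' := eq_iff_e.mp hx
  have hy' := eq_iff_e.mp hy
  have hyx' := eq_iff_e.mp hyx
  simp only [mul_e, nI_00, nI_01, nI_10, nI_11, inv_00, inv_01, inv_10, inv_11] at hx' hy' hyx'
  obtain ⟨a0, a1, a2, a3⟩ := hx'
  obtain ⟨b0, b1, b2, b3⟩ := hy'
  obtain ⟨e0, e1, e2, e3⟩ := hyx'
  apply sl2_ext <;> simp only [mul_e, hh_e, nI_00, nI_01, nI_10, nI_11, Matrix.add_apply,
    Matrix.sub_apply, Matrix.one_apply_eq,
    Matrix.one_apply_ne (show (0 : Fin 2) ≠ 1 by decide),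
    Matrix.one_apply_ne (show (1 : Fin 2) ≠ 0 by decide)] <;> grind

theorem hh_y (h2 : (2 : F) ≠ 0) (x y : SL2) (hx : x * x = nI) (hy : y * y = nI)
    (hyx : y * x = x⁻¹ * y) : hh h2 x y hx hy * y = (nI * x) * hh h2 x y hx hy := by
  have dx := det_e x
  have dy := det_e y
  have hx' := eq_iff_e.mp hx
  have hy' := eq_iff_e.mp hy
  have hyx' := eq_iff_e.mp hyx
  simp only [mul_e, nI_00, nI_01, nI_10, nI_11, inv_00, inv_01, inv_10, inv_11] at hx' hy' hyx'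
  obtain ⟨a0, a1, a2, a3⟩ := hx'
  obtain ⟨b0, b1, b2, b3⟩ := hy'
  obtain ⟨e0, e1, e2, e3⟩ := hyx'
  apply sl2_ext <;> simp only [mul_e, hh_e, nI_00, nI_01, nI_10, nI_11, Matrix.add_apply,
    Matrix.sub_apply, Matrix.one_apply_eq,
    Matrix.one_apply_ne (show (0 : Fin 2) ≠ 1 by decide),
    Matrix.one_apply_ne (show (1 : Fin 2) ≠ 0 by decide)] <;> grind

end Cfsg.Agent.Lib.Helper2.Sp4
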