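import Cfsg.Agent.Lib.Helper2.Sp4B
import Cfsg.Agent.Lib.Helper5.SL2Quat
import Cfsg.Agent.Lib.Helper8.QQ1

set_option autoImplicit false

/-! The structure of a Sylow `2`-subgroup of `SL₂(F)`, `F` finite of odd order, and its
normalizer. -/

namespace Cfsg.Agent.Lib.Helper2.Sp4

open Matrix

variable {F : Type*} [Field F]

local notation "SL2" => Matrix.SpecialLinearGroup (Fin 2) F

/-- generators and relations of a generalized quaternion Sylow subgroup of `SL₂` -/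
structure QS (Q : Subgroup SL2) (N : ℕ) (x y : SL2) : Prop where
  two_le : 2 ≤ N
  even : Even N
  hx : x ∈ Q
  hy : y ∈ Q
  ord : orderOf x = 2 * N
  xN : x ^ N = nI
  yy : y * y = nI
  yx : y * x = x⁻¹ * y
  gen : ∀ r ∈ Q, ∃ k : ℕ, r = x ^ k ∨ r = y * x ^ k
  two : ∀ r ∈ Q, ∃ k : ℕ, r ^ 2 ^ k = 1
  syl : ∀ n : SL2, (∀ r ∈ Q, n * r * n⁻¹ ∈ Q) → (∃ k : ℕ, n ^ 2 ^ k = 1) → n ∈ Q

theorem exists_QS [Fintype F] (hF : Odd (Fintype.card F)) (h2 : (2 : F) ≠ 0)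
    (P : Sylow 2 SL2) : ∃ (N : ℕ) (x y : SL2), QS (P : Subgroup SL2) N x y := by
  haveI : Finite SL2 := Finite.of_injective (fun A : SL2 => A.1) Subtype.val_injective
  obtain ⟨k, hk, ⟨e⟩⟩ := Cfsg.Agent.Lib.Helper5.SL2Quat.sylow_two_quaternion hF P
  haveI : NeZero (2 ^ k) := ⟨by positivity⟩
  obtain ⟨x0, hx0⟩ : ∃ x0 : ↥(P : Subgroup SL2), x0 = e.symm (QuaternionGroup.a 1) := ⟨_, rfl⟩
  obtain ⟨y0, hy0⟩ : ∃ y0 : ↥(P : Subgroup SL2), y0 = e.symm (QuaternionGroup.xa 0) := ⟨_, rfl⟩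
  have hord0 : orderOf x0 = 2 * 2 ^ k := by
    rw [hx0, MulEquiv.orderOf_eq, QuaternionGroup.orderOf_a_one]
  have hord : orderOf (x0 : SL2) = 2 * 2 ^ k := by rw [Subgroup.orderOf_coe, hord0]
  have hyx0 : y0 * x0 * y0⁻¹ = x0⁻¹ := by
    rw [hx0, hy0, ← map_inv, ← map_mul, ← map_mul, ← map_inv,
      Cfsg.Agent.Lib.Helper8.QQ.xa_zero_conj_a_one]
  have hyy0 : y0 * y0 = x0 ^ (2 ^ k) := by
    rw [hx0, hy0, ← map_mul, ← map_pow, QuaternionGroup.xa_mul_xa, QuaternionGroup.a_one_pow]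
    congr 2
    ring
  have hgen0 : ∀ r : ↥(P : Subgroup SL2), ∃ j : ℕ, r = x0 ^ j ∨ r = y0 * x0 ^ j := by
    intro r
    have hr : r = e.symm (e r) := (e.symm_apply_apply r).symm
    rcases hq : e r with i | i
    · refine ⟨i.val, Or.inl ?_⟩
      rw [hr, hq, hx0, ← map_pow, ← Cfsg.Agent.Lib.Helper8.QQ.a_eq_pow]
    · refine ⟨i.val, Or.inr ?_⟩
      rw [hr, hq, hx0, hy0, ← map_pow, ← map_mul, ← Cfsg.Agent.Lib.Helper8.QQ.xa_eq]
  have h2k : 2 ≤ 2 ^ k := by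
    calc 2 = 2 ^ 1 := rfl
      _ ≤ 2 ^ k := Nat.pow_le_pow_right (by norm_num) hk
  have hxN1 : (x0 : SL2) ^ (2 ^ k) ≠ 1 := by
    intro h
    have h3 := orderOf_dvd_of_pow_eq_one h
    rw [hord] at h3
    have h4 := Nat.le_of_dvd (by positivity) h3
    omega
  have hxN : (x0 : SL2) ^ (2 ^ k) = nI := by
    have h3 : (x0 : SL2) ^ (2 ^ k) * (x0 : SL2) ^ (2 ^ k) = 1 := by
      rw [← pow_add, ← two_mul, ← hord, pow_orderOf_eq_one]
    rcases invol h2 _ h3 with h | h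
    · exact absurd h hxN1
    · exact h
  refine ⟨2 ^ k, (x0 : SL2), (y0 : SL2), h2k, (Nat.even_pow' (by omega)).mpr even_two, x0.2, y0.2,
    hord, hxN, ?_, ?_, ?_, ?_, ?_⟩
  · rw [← hxN]
    have h3 := congrArg Subtype.val hyy0
    simpa using h3
  · have h3 : y0 * x0 = x0⁻¹ * y0 := by
      rw [← hyx0]
      group
    have h4 := congrArg Subtype.val h3
    simpa using h4
  · intro r hr
    obtain ⟨j, hj | hj⟩ := hgen0 ⟨r, hr⟩
    · refine ⟨j, Or.inl ?_⟩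
      have h4 := congrArg Subtype.val hj
      simpa using h4
    · refine ⟨j, Or.inr ?_⟩
      have h4 := congrArg Subtype.val hj
      simpa using h4
  · intro r hr
    obtain ⟨j, hj⟩ := P.isPGroup' ⟨r, hr⟩
    refine ⟨j, ?_⟩
    have h4 := congrArg Subtype.val hj
    simpa using h4
  · intro n hn hn2
    obtain ⟨j, hj⟩ := hn2
    have hnN : n ∈ Subgroup.normalizer ((P : Subgroup SL2) : Set SL2) := by
      apply Subgroup.mem_normalizer_fintype
      intro r hr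
      exact hn r hr
    have hPz : IsPGroup 2 (Subgroup.zpowers n) := by
      rintro ⟨g, hg⟩
      obtain ⟨i, rfl⟩ := Subgroup.mem_zpowers_iff.mp hg
      refine ⟨j, Subtype.ext ?_⟩
      rw [Subgroup.coe_pow, Subgroup.coe_one]
      show (n ^ i) ^ 2 ^ j = 1
      rw [← zpow_natCast, ← _root_.zpow_mul, mul_comm i, _root_.zpow_mul, zpow_natCast, hj, _root_.one_zpow]
    have hsup := IsPGroup.to_sup_of_normal_right' hPz P.isPGroup'
      (Subgroup.zpowers_le.mpr hnN)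
    have h5 := P.is_maximal' hsup le_sup_right
    have h6 : n ∈ Subgroup.zpowers n ⊔ (P : Subgroup SL2) :=
      Subgroup.mem_sup_left (Subgroup.mem_zpowers n)
    rw [h5] at h6
    exact h6

theorem exists_pow_eq_nI (h2 : (2 : F) ≠ 0) (a : SL2) (ha1 : a ≠ 1) :
    ∀ k : ℕ, a ^ 2 ^ k = 1 → ∃ j : ℕ, a ^ 2 ^ j = nI := by
  intro k
  induction k with
  | zero =>
    intro h
    rw [pow_zero, pow_one] at h
    exact absurd h ha1
  | succ k ih =>
    intro h
    have h3 : a ^ 2 ^ k * a ^ 2 ^ k = 1 := by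
      rw [← pow_add, ← two_mul, ← pow_succ']
      exact h
    rcases invol h2 _ h3 with h4 | h4
    · exact ih h4
    · exact ⟨k, h4⟩

theorem conj_comm {G : Type*} [Group G] (g a b : G) (h : a * b = b * a) :
    (g * a * g⁻¹) * (g * b * g⁻¹) = (g * b * g⁻¹) * (g * a * g⁻¹) := by
  have e1 : (g * a * g⁻¹) * (g * b * g⁻¹) = g * (a * b) * g⁻¹ := by group
  have e2 : (g * b * g⁻¹) * (g * a * g⁻¹) = g * (b * a) * g⁻¹ := by group
  rw [e1, e2, h]

namespace QS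

theorem nI_mem {Q : Subgroup SL2} {N : ℕ} {x y : SL2} (h : QS Q N x y) : nI ∈ Q := by
  rw [← h.xN]
  exact Q.pow_mem h.hx N

theorem x_sq_ne {Q : Subgroup SL2} {N : ℕ} {x y : SL2} (h : QS Q N x y) : x * x ≠ 1 := by
  intro h1
  have h3 : orderOf x ∣ 2 := orderOf_dvd_of_pow_eq_one (by rw [pow_two]; exact h1)
  rw [h.ord] at h3
  have h4 := Nat.le_of_dvd (by norm_num) h3
  have := h.two_le
  omega

theorem conj_x {Q : Subgroup SL2} {N : ℕ} {x y : SL2} (h : QS Q N x y) : y * x * y⁻¹ = x⁻¹ := by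
  rw [h.yx]
  group

theorem conj_x_pow {Q : Subgroup SL2} {N : ℕ} {x y : SL2} (h : QS Q N x y) (k : ℕ) : y * x ^ k = (x ^ k)⁻¹ * y := by
  have h1 : y * x ^ k * y⁻¹ = (x ^ k)⁻¹ := by
    rw [← conj_pow, h.conj_x, inv_pow]
  rw [← h1]
  group

theorem cc {Q : Subgroup SL2} {N : ℕ} {x y : SL2} (h : QS Q N x y) : x ^ (N / 2) * x ^ (N / 2) = nI := by
  rw [← pow_add, ← h.xN]
  congr 1
  obtain ⟨m, hm⟩ := h.even
  omega

theorem sq_yx {Q : Subgroup SL2} {N : ℕ} {x y : SL2} (h : QS Q N x y) (k : ℕ) : (y * x ^ k) * (y * x ^ k) = nI := by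
  calc (y * x ^ k) * (y * x ^ k) = ((x ^ k)⁻¹ * y) * (y * x ^ k) := by rw [← h.conj_x_pow k]
    _ = (x ^ k)⁻¹ * (y * y) * x ^ k := by group
    _ = (x ^ k)⁻¹ * (nI * x ^ k) := by rw [h.yy, mul_assoc]
    _ = (x ^ k)⁻¹ * (x ^ k * nI) := by rw [nI_comm]
    _ = nI := by group

theorem noncomm {Q : Subgroup SL2} {N : ℕ} {x y : SL2} (h : QS Q N x y) (h2 : (2 : F) ≠ 0) (a : SL2) (ha1 : a ≠ 1) (ha2 : a ≠ nI) :
    a * x ≠ x * a ∨ a * y ≠ y * a := by
  by_contra hno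
  have hax : a * x = x * a := by
    by_contra h3
    exact hno (Or.inl h3)
  have hay : a * y = y * a := by
    by_contra h3
    exact hno (Or.inr h3)
  have hac : a * x ^ (N / 2) = x ^ (N / 2) * a := (Commute.pow_right hax _)
  rcases comm_xy h2 (x ^ (N / 2)) y a h.cc (h.conj_x_pow _) hac hay with h3 | h3
  · exact ha1 h3
  · exact ha2 h3

/-- a normalizing element centralizing `x` lies in `Q` -/
theorem norm_core1 {Q : Subgroup SL2} {N : ℕ} {x y : SL2} (h : QS Q N x y) (h2 : (2 : F) ≠ 0) (n : SL2)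
    (hn : ∀ r ∈ Q, n * r * n⁻¹ ∈ Q) (hnx : n * x = x * n) : n ∈ Q := by
  have hnc : n * x ^ (N / 2) = x ^ (N / 2) * n := (Commute.pow_right hnx _)
  have h3 := inv_of_comm h2 (x ^ (N / 2)) n y h.cc hnc (h.conj_x_pow _)
  have h4 : n * y * n⁻¹ = y * (n * n)⁻¹ := by
    have e1 : n * y * n⁻¹ = n * (y * n) * (n * n)⁻¹ := by group
    rw [e1, h3]
    group
  have h5 : y * (n * n)⁻¹ ∈ Q := by
    rw [← h4]
    exact hn y h.hy
  have h6 : (n * n)⁻¹ ∈ Q := by
    have e1 : (n * n)⁻¹ = y⁻¹ * (y * (n * n)⁻¹) := by group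
    rw [e1]
    exact Q.mul_mem (Q.inv_mem h.hy) h5
  have h7 : n * n ∈ Q := by
    have := Q.inv_mem h6
    rwa [inv_inv] at this
  obtain ⟨k, hk⟩ := h.two _ h7
  apply h.syl n hn
  refine ⟨k + 1, ?_⟩
  rw [pow_succ', pow_mul, pow_two]
  exact hk

theorem norm_core {Q : Subgroup SL2} {N : ℕ} {x y : SL2} (h : QS Q N x y) (h2 : (2 : F) ≠ 0) (n : SL2)
    (hn : ∀ r ∈ Q, n * r * n⁻¹ ∈ Q) (hnx : n * x * n⁻¹ = x ∨ n * x * n⁻¹ = x⁻¹) : n ∈ Q := by
  rcases hnx with hnx | hnx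
  · apply h.norm_core1 h2 n hn
    calc n * x = (n * x * n⁻¹) * n := by group
      _ = x * n := by rw [hnx]
  · have h3 : y * n ∈ Q := by
      apply h.norm_core1 h2 (y * n)
      · intro r hr
        have e1 : y * n * r * (y * n)⁻¹ = y * (n * r * n⁻¹) * y⁻¹ := by group
        rw [e1]
        exact Q.mul_mem (Q.mul_mem h.hy (hn r hr)) (Q.inv_mem h.hy)
      · have e1 : y * n * x = y * (n * x * n⁻¹) * n := by group
        rw [e1, hnx]
        have e2 : y * x⁻¹ = x * y := by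
          have := h.yx
          calc y * x⁻¹ = x * (x⁻¹ * y) * x⁻¹ := by group
            _ = x * (y * x) * x⁻¹ := by rw [h.yx]
            _ = x * y := by group
        rw [e2]
        group
    have e1 : n = y⁻¹ * (y * n) := by group
    rw [e1]
    exact Q.mul_mem (Q.inv_mem h.hy) h3

/-- a normalizing element sending `x` to something commuting with `x` lies in `Q` -/
theorem norm_comm {Q : Subgroup SL2} {N : ℕ} {x y : SL2} (h : QS Q N x y) (h2 : (2 : F) ≠ 0) (n : SL2)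
    (hn : ∀ r ∈ Q, n * r * n⁻¹ ∈ Q) (hc : x * (n * x * n⁻¹) = (n * x * n⁻¹) * x) : n ∈ Q := by
  apply h.norm_core h2 n hn
  have hx' : n * x * n⁻¹ ∈ Q := hn x h.hx
  obtain ⟨k, hk⟩ := h.two _ (Q.mul_mem hx' (Q.inv_mem h.hx))
  exact eq_or_eq_inv h2 x (n * x * n⁻¹) hc (trace_conj n x) k hk

theorem norm_big {Q : Subgroup SL2} {N : ℕ} {x y : SL2} (h : QS Q N x y) (h2 : (2 : F) ≠ 0) (hN : 4 ≤ N) (n : SL2)
    (hn : ∀ r ∈ Q, n * r * n⁻¹ ∈ Q) : n ∈ Q := by
  apply h.norm_comm h2 n hn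
  obtain ⟨k, hk | hk⟩ := h.gen _ (hn x h.hx)
  · rw [hk]
    exact ((Commute.refl x).pow_right k).eq
  · exfalso
    have h3 : (n * x * n⁻¹) * (n * x * n⁻¹) = nI := by rw [hk]; exact h.sq_yx k
    have h4 : x * x = nI := by
      have e1 : x * x = n⁻¹ * ((n * x * n⁻¹) * (n * x * n⁻¹)) * n := by group
      rw [e1, h3, mul_assoc, nI_comm]
      group
    have h5 : x ^ 4 = 1 := by
      have e1 : x ^ 4 = (x * x) * (x * x) := by
        rw [show (4 : ℕ) = 2 + 2 from rfl, pow_add, pow_two]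
      rw [e1, h4, nI_sq]
    have h6 := orderOf_dvd_of_pow_eq_one h5
    rw [h.ord] at h6
    have h7 := Nat.le_of_dvd (by norm_num) h6
    omega

theorem comm_of_comm_nI_mul (x z : SL2) (hz : z * (nI * x) = (nI * x) * z) : z * x = x * z := by
  have e : x = nI * (nI * x) := by rw [← mul_assoc, nI_sq, one_mul]
  calc z * x = z * (nI * (nI * x)) := by rw [← e]
    _ = nI * (z * (nI * x)) := by rw [← mul_assoc, ← nI_comm z, mul_assoc]
    _ = nI * ((nI * x) * z) := by rw [hz]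
    _ = x * z := by rw [← mul_assoc, ← e]

theorem hh_conj_x {Q : Subgroup SL2} {N : ℕ} {x y : SL2} (h : QS Q N x y) (h2 : (2 : F) ≠ 0)
    (hxx : x * x = nI) :
    hh h2 x y hxx h.yy * x * (hh h2 x y hxx h.yy)⁻¹ = nI * (x * y) :=
  mul_inv_eq_of_eq_mul (hh_x h2 x y hxx h.yy h.yx)

theorem hh_conj_y {Q : Subgroup SL2} {N : ℕ} {x y : SL2} (h : QS Q N x y) (h2 : (2 : F) ≠ 0)
    (hxx : x * x = nI) :
    hh h2 x y hxx h.yy * y * (hh h2 x y hxx h.yy)⁻¹ = nI * x :=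
  mul_inv_eq_of_eq_mul (hh_y h2 x y hxx h.yy h.yx)

theorem hh_conj_xy {Q : Subgroup SL2} {N : ℕ} {x y : SL2} (h : QS Q N x y) (h2 : (2 : F) ≠ 0)
    (hxx : x * x = nI) :
    hh h2 x y hxx h.yy * (x * y) * (hh h2 x y hxx h.yy)⁻¹ = y := by
  have e : hh h2 x y hxx h.yy * (x * y) * (hh h2 x y hxx h.yy)⁻¹ =
      (hh h2 x y hxx h.yy * x * (hh h2 x y hxx h.yy)⁻¹) *
        (hh h2 x y hxx h.yy * y * (hh h2 x y hxx h.yy)⁻¹) := by group
  rw [e, h.hh_conj_x h2 hxx, h.hh_conj_y h2 hxx]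
  calc (nI * (x * y)) * (nI * x) = nI * (((x * y) * nI) * x) := by group
    _ = nI * ((nI * (x * y)) * x) := by rw [nI_comm (x * y)]
    _ = (nI * nI) * (x * (y * x)) := by group
    _ = y := by rw [nI_sq, h.yx]; group

theorem hh_norm {Q : Subgroup SL2} {N : ℕ} {x y : SL2} (h : QS Q N x y) (h2 : (2 : F) ≠ 0)
    (hxx : x * x = nI) : ∀ r ∈ Q,
    hh h2 x y hxx h.yy * r * (hh h2 x y hxx h.yy)⁻¹ ∈ Q := by
  have hX : nI * (x * y) ∈ Q := Q.mul_mem h.nI_mem (Q.mul_mem h.hx h.hy)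
  have hY : nI * x ∈ Q := Q.mul_mem h.nI_mem h.hx
  have hpow : ∀ k : ℕ, hh h2 x y hxx h.yy * x ^ k * (hh h2 x y hxx h.yy)⁻¹ ∈ Q := by
    intro k
    rw [← conj_pow, h.hh_conj_x h2 hxx]
    exact Q.pow_mem hX k
  intro r hr
  obtain ⟨k, hk | hk⟩ := h.gen r hr
  · rw [hk]
    exact hpow k
  · rw [hk]
    have e : hh h2 x y hxx h.yy * (y * x ^ k) * (hh h2 x y hxx h.yy)⁻¹ =
        (hh h2 x y hxx h.yy * y * (hh h2 x y hxx h.yy)⁻¹) *
          (hh h2 x y hxx h.yy * x ^ k * (hh h2 x y hxx h.yy)⁻¹) := by group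
    rw [e, h.hh_conj_y h2 hxx]
    exact Q.mul_mem hY (hpow k)

theorem norm_small {Q : Subgroup SL2} {N : ℕ} {x y : SL2} (h : QS Q N x y) (h2 : (2 : F) ≠ 0)
    (hxx : x * x = nI) (n : SL2) (hn : ∀ r ∈ Q, n * r * n⁻¹ ∈ Q) :
    n ∈ Q ∨ hh h2 x y hxx h.yy * n ∈ Q ∨
      hh h2 x y hxx h.yy * (hh h2 x y hxx h.yy * n) ∈ Q := by
  obtain ⟨g, hgdef⟩ : ∃ g : SL2, g = hh h2 x y hxx h.yy := ⟨_, rfl⟩
  rw [← hgdef]
  have hgn : ∀ r ∈ Q, g * r * g⁻¹ ∈ Q := by rw [hgdef]; exact h.hh_norm h2 hxx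
  have hgx : g * x * g⁻¹ = nI * (x * y) := by rw [hgdef]; exact h.hh_conj_x h2 hxx
  have hgy : g * y * g⁻¹ = nI * x := by rw [hgdef]; exact h.hh_conj_y h2 hxx
  have hgxy : g * (x * y) * g⁻¹ = y := by rw [hgdef]; exact h.hh_conj_xy h2 hxx
  obtain ⟨x', hx'⟩ : ∃ x' : SL2, x' = n * x * n⁻¹ := ⟨_, rfl⟩
  obtain ⟨k, hk | hk⟩ := h.gen _ (hn x h.hx)
  · left
    apply h.norm_comm h2 n hn
    rw [hk]
    exact ((Commute.refl x).pow_right k).eq
  · rcases Nat.even_or_odd' k with ⟨m, hm | hm⟩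
    · right
      left
      have hc1 : (n * x * n⁻¹) * y = y * (n * x * n⁻¹) := by
        rw [hk, hm, pow_mul, pow_two, hxx, mul_assoc, (Commute.pow_left (nI_comm y) m).eq]
      apply h.norm_comm h2 (g * n)
      · intro r hr
        have e1 : g * n * r * (g * n)⁻¹ = g * (n * r * n⁻¹) * g⁻¹ := by group
        rw [e1]
        exact hgn _ (hn r hr)
      · have e1 : g * n * x * (g * n)⁻¹ = g * (n * x * n⁻¹) * g⁻¹ := by group
        rw [e1]
        have h3 := conj_comm g _ _ hc1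
        rw [hgy] at h3
        exact (comm_of_comm_nI_mul x _ h3).symm
    · right
      right
      obtain ⟨c, hcdef⟩ : ∃ c : SL2, c = nI ^ m := ⟨_, rfl⟩
      have hcz : ∀ z : SL2, c * z = z * c := by
        intro z
        rw [hcdef]
        exact (Commute.pow_left (nI_comm z) m).eq
      have hxk : x ^ k = c * x := by
        rw [hm, pow_succ, pow_mul, pow_two, hxx, hcdef]
      have hc1 : (n * x * n⁻¹) * (x * y) = (x * y) * (n * x * n⁻¹) := by
        rw [hk, hxk]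
        have e1 : y * (c * x) * (x * y) = c := by
          calc y * (c * x) * (x * y) = (y * c) * (x * x) * y := by group
            _ = (c * y) * nI * y := by rw [hcz y, hxx]
            _ = c * ((y * nI) * y) := by group
            _ = c * ((nI * y) * y) := by rw [nI_comm y]
            _ = c * (nI * (y * y)) := by group
            _ = c := by rw [h.yy, nI_sq, mul_one]
        have e2 : (x * y) * (y * (c * x)) = c := by
          calc (x * y) * (y * (c * x)) = x * (y * y) * (c * x) := by group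
            _ = (x * nI) * (c * x) := by rw [h.yy]
            _ = (nI * x) * (x * c) := by rw [nI_comm x, hcz x]
            _ = nI * (x * x) * c := by group
            _ = c := by rw [hxx, nI_sq, one_mul]
        rw [e1, e2]
      apply h.norm_comm h2 (g * (g * n))
      · intro r hr
        have e1 : g * (g * n) * r * (g * (g * n))⁻¹ = g * (g * (n * r * n⁻¹) * g⁻¹) * g⁻¹ := by
          group
        rw [e1]
        exact hgn _ (hgn _ (hn r hr))
      · have e1 : g * (g * n) * x * (g * (g * n))⁻¹ = g * (g * (n * x * n⁻¹) * g⁻¹) * g⁻¹ := by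
          group
        rw [e1]
        have h3 := conj_comm g _ _ hc1
        rw [hgxy] at h3
        have h4 := conj_comm g _ _ h3
        rw [hgy] at h4
        exact (comm_of_comm_nI_mul x _ h4).symm

end QS

end Cfsg.Agent.Lib.Helper2.Sp4
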