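import Cfsg.Agent.Lib.Helper2.Sp4C

set_option autoImplicit false

/-! `Sp₄(F)` as `2 × 2` block matrices over `M₂(F)`: the subgroup `SL₂ ≀ C₂` and some further
elements. -/

namespace Cfsg.Agent.Lib.Helper2.Sp4

open Matrix

variable {F : Type*} [Field F]

local notation "H2" => Matrix (Fin 2) (Fin 2) F
local notation "SL2" => Matrix.SpecialLinearGroup (Fin 2) F
local notation "M4" => Matrix (Fin 2 ⊕ Fin 2) (Fin 2 ⊕ Fin 2) F
set_option quotPrecheck false in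
local notation "L4" => ↥(Matrix.symplecticGroup (Fin 2) F)

/-- the `4 × 4` matrix with the given `2 × 2` blocks with respect to the decomposition into the
two hyperbolic planes `⟨e_{inl i}, e_{inr i}⟩` -/
def mk4 (A B C D : H2) : M4 :=
  Matrix.fromBlocks !![A 0 0, B 0 0; C 0 0, D 0 0] !![A 0 1, B 0 1; C 0 1, D 0 1]
    !![A 1 0, B 1 0; C 1 0, D 1 0] !![A 1 1, B 1 1; C 1 1, D 1 1]

theorem mk4_mul (A B C D A' B' C' D' : H2) :
    mk4 A B C D * mk4 A' B' C' D' =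
      mk4 (A * A' + B * C') (A * B' + B * D') (C * A' + D * C') (C * B' + D * D') := by
  unfold mk4
  rw [Matrix.fromBlocks_multiply]
  congr 1 <;>
  · ext i j
    fin_cases i <;> fin_cases j <;>
      simp [Matrix.mul_apply, Fin.sum_univ_two, Matrix.add_apply] <;> ring

theorem of2_inj {a b c d a' b' c' d' : F} (h : !![a, b; c, d] = !![a', b'; c', d']) :
    a = a' ∧ b = b' ∧ c = c' ∧ d = d' :=
  ⟨congrFun (congrFun h 0) 0, congrFun (congrFun h 0) 1, congrFun (congrFun h 1) 0,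
    congrFun (congrFun h 1) 1⟩

theorem mk4_inj {A B C D A' B' C' D' : H2} (h : mk4 A B C D = mk4 A' B' C' D') :
    A = A' ∧ B = B' ∧ C = C' ∧ D = D' := by
  unfold mk4 at h
  rw [Matrix.fromBlocks_inj] at h
  obtain ⟨h1, h2, h3, h4⟩ := h
  obtain ⟨a1, b1, c1, d1⟩ := of2_inj h1
  obtain ⟨a2, b2, c2, d2⟩ := of2_inj h2
  obtain ⟨a3, b3, c3, d3⟩ := of2_inj h3
  obtain ⟨a4, b4, c4, d4⟩ := of2_inj h4
  refine ⟨?_, ?_, ?_, ?_⟩ <;>
  · ext i j
    fin_cases i <;> fin_cases j <;> assumption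

theorem mk4_surj (M : M4) : ∃ A B C D : H2, M = mk4 A B C D := by
  refine ⟨!![M (Sum.inl 0) (Sum.inl 0), M (Sum.inl 0) (Sum.inr 0);
      M (Sum.inr 0) (Sum.inl 0), M (Sum.inr 0) (Sum.inr 0)],
    !![M (Sum.inl 0) (Sum.inl 1), M (Sum.inl 0) (Sum.inr 1);
      M (Sum.inr 0) (Sum.inl 1), M (Sum.inr 0) (Sum.inr 1)],
    !![M (Sum.inl 1) (Sum.inl 0), M (Sum.inl 1) (Sum.inr 0);
      M (Sum.inr 1) (Sum.inl 0), M (Sum.inr 1) (Sum.inr 0)],
    !![M (Sum.inl 1) (Sum.inl 1), M (Sum.inl 1) (Sum.inr 1);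
      M (Sum.inr 1) (Sum.inl 1), M (Sum.inr 1) (Sum.inr 1)], ?_⟩
  ext (i | i) (j | j) <;> fin_cases i <;> fin_cases j <;> simp [mk4]

theorem mk4_one : mk4 (1 : H2) 0 0 1 = 1 := by
  ext (i | i) (j | j) <;> fin_cases i <;> fin_cases j <;> simp [mk4]

theorem mk4_neg_one : mk4 (-1 : H2) 0 0 (-1) = -1 := by
  ext (i | i) (j | j) <;> fin_cases i <;> fin_cases j <;> simp [mk4]

theorem mk4_transpose (A B C D : H2) : (mk4 A B C D)ᵀ = mk4 Aᵀ Cᵀ Bᵀ Dᵀ := by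
  ext (i | i) (j | j) <;> fin_cases i <;> fin_cases j <;> simp [mk4]

/-- the `2 × 2` symplectic form -/
def J2 : H2 := !![0, -1; 1, 0]

theorem J_eq : Matrix.J (Fin 2) F = mk4 J2 0 0 J2 := by
  ext (i | i) (j | j) <;> fin_cases i <;> fin_cases j <;> simp [mk4, Matrix.J, J2]

theorem two_J (X : H2) : X * J2 * Xᵀ = X.det • J2 := by
  ext i j
  fin_cases i <;> fin_cases j <;>
    simp [J2, Matrix.mul_apply, Fin.sum_univ_two, Matrix.det_fin_two] <;> ring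

theorem mk4_mem_iff (A B C D : H2) : mk4 A B C D ∈ Matrix.symplecticGroup (Fin 2) F ↔
    A * J2 * Aᵀ + B * J2 * Bᵀ = J2 ∧ A * J2 * Cᵀ + B * J2 * Dᵀ = 0 ∧
      C * J2 * Aᵀ + D * J2 * Bᵀ = 0 ∧ C * J2 * Cᵀ + D * J2 * Dᵀ = J2 := by
  rw [SymplecticGroup.mem_iff, J_eq, mk4_transpose, mk4_mul, mk4_mul]
  simp only [mul_zero, add_zero, zero_add]
  constructor
  · intro h
    exact mk4_inj h
  · rintro ⟨h1, h2, h3, h4⟩
    rw [h1, h2, h3, h4]

theorem mk4_diag_mul (a b A B C D : H2) :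
    mk4 a 0 0 b * mk4 A B C D = mk4 (a * A) (a * B) (b * C) (b * D) := by
  rw [mk4_mul]
  simp only [zero_mul, add_zero, zero_add]

theorem mk4_mul_diag (a b A B C D : H2) :
    mk4 A B C D * mk4 a 0 0 b = mk4 (A * a) (B * b) (C * a) (D * b) := by
  rw [mk4_mul]
  simp only [mul_zero, add_zero, zero_add]

theorem mk4_mul_sw (A B C D : H2) : mk4 A B C D * mk4 0 1 1 0 = mk4 B A D C := by
  rw [mk4_mul]
  simp only [mul_zero, mul_one, add_zero, zero_add]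

theorem mk4_sw_mul (A B C D : H2) : mk4 0 1 1 0 * mk4 A B C D = mk4 C D A B := by
  rw [mk4_mul]
  simp only [zero_mul, one_mul, add_zero, zero_add]

theorem dg_mem (a b : SL2) : mk4 a.1 0 0 b.1 ∈ Matrix.symplecticGroup (Fin 2) F := by
  rw [mk4_mem_iff]
  simp only [two_J, a.2, b.2, one_smul, Matrix.transpose_zero, mul_zero, zero_mul, add_zero,
    zero_add, and_self]

/-- the block diagonal element -/
def dg (a b : SL2) : L4 := ⟨mk4 a.1 0 0 b.1, dg_mem a b⟩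

theorem dg_val (a b : SL2) : (dg a b : L4).1 = mk4 a.1 0 0 b.1 := rfl

theorem dg_mul (a b a' b' : SL2) : dg a b * dg a' b' = dg (a * a') (b * b') := by
  apply Subtype.ext
  show mk4 a.1 0 0 b.1 * mk4 a'.1 0 0 b'.1 = mk4 (a * a').1 0 0 (b * b').1
  rw [mk4_diag_mul, mul_zero, mul_zero]
  rfl

theorem dg_one : dg (1 : SL2) 1 = 1 := by
  apply Subtype.ext
  show mk4 (1 : SL2).1 0 0 (1 : SL2).1 = 1
  rw [Matrix.SpecialLinearGroup.coe_one, mk4_one]

theorem dg_inv (a b : SL2) : (dg a b)⁻¹ = dg a⁻¹ b⁻¹ := by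
  apply inv_eq_of_mul_eq_one_right
  rw [dg_mul, mul_inv_cancel, mul_inv_cancel, dg_one]

theorem dg_pow (a b : SL2) (n : ℕ) : (dg a b) ^ n = dg (a ^ n) (b ^ n) := by
  induction n with
  | zero => rw [pow_zero, pow_zero, pow_zero, dg_one]
  | succ n ih => rw [pow_succ, ih, dg_mul, ← pow_succ, ← pow_succ]

theorem dg_inj {a b a' b' : SL2} (h : dg a b = dg a' b') : a = a' ∧ b = b' := by
  have h1 := congrArg Subtype.val h
  rw [dg_val, dg_val] at h1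
  obtain ⟨ha, -, -, hb⟩ := mk4_inj h1
  exact ⟨Subtype.ext ha, Subtype.ext hb⟩

theorem sg_mem : mk4 (0 : H2) 1 1 0 ∈ Matrix.symplecticGroup (Fin 2) F := by
  rw [mk4_mem_iff]
  simp only [Matrix.transpose_zero, Matrix.transpose_one, mul_zero, zero_mul, mul_one, one_mul,
    add_zero, zero_add, and_self]

/-- the swap of the two hyperbolic planes -/
def sg : L4 := ⟨mk4 0 1 1 0, sg_mem⟩

theorem sg_val : (sg : L4).1 = mk4 0 1 1 0 := rfl

theorem sg_sq : (sg : L4) * sg = 1 := by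
  apply Subtype.ext
  show mk4 (0 : H2) 1 1 0 * mk4 0 1 1 0 = 1
  rw [mk4_mul_sw, mk4_one]

theorem sg_inv : (sg : L4)⁻¹ = sg := inv_eq_of_mul_eq_one_right sg_sq

theorem sg_dg (a b : SL2) : sg * dg a b = dg b a * sg := by
  apply Subtype.ext
  show mk4 (0 : H2) 1 1 0 * mk4 a.1 0 0 b.1 = mk4 b.1 0 0 a.1 * mk4 0 1 1 0
  rw [mk4_sw_mul, mk4_mul_sw]

theorem dg_sg_val (a b : SL2) : (dg a b * sg : L4).1 = mk4 0 a.1 b.1 0 := by
  show mk4 a.1 0 0 b.1 * mk4 0 1 1 0 = _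
  rw [mk4_mul_sw]

theorem dg_ne_dg_sg (a b a' b' : SL2) : dg a b ≠ dg a' b' * sg := by
  intro h
  have h1 := congrArg Subtype.val h
  rw [dg_val, dg_sg_val] at h1
  obtain ⟨ha, -, -, -⟩ := mk4_inj h1
  have h3 := a.2
  rw [ha, Matrix.det_fin_two] at h3
  simp at h3

theorem dg_sg_inj {a b a' b' : SL2} (h : dg a b * sg = dg a' b' * sg) : a = a' ∧ b = b' :=
  dg_inj (mul_right_cancel h)

theorem neg_one_val : (dg (nI : SL2) nI : L4).1 = -1 := by
  rw [dg_val, nI_val, mk4_neg_one]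

theorem neg_one_comm (g : L4) : dg nI nI * g = g * dg nI nI := by
  apply Subtype.ext
  show (dg (nI : SL2) nI : L4).1 * g.1 = g.1 * (dg (nI : SL2) nI : L4).1
  rw [neg_one_val, neg_mul, one_mul, mul_neg, mul_one]

theorem eq_zero_of_eq_neg (h2 : (2 : F) ≠ 0) (B : H2) (h : B = -B) : B = 0 := by
  ext i j
  have h1 := congrFun (congrFun h i) j
  rw [Matrix.neg_apply] at h1
  have h3 : (2 : F) * B i j = 0 := by linear_combination h1
  rcases mul_eq_zero.mp h3 with h4 | h4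
  · exact absurd h4 h2
  · exact h4

theorem det_of_J {A : H2} (h : A * J2 * Aᵀ = J2) : A.det = 1 := by
  rw [two_J] at h
  have h1 := congrFun (congrFun h 1) 0
  simpa [J2] using h1

theorem cent_z1 (h2 : (2 : F) ≠ 0) (g : L4) (hg : g * dg nI 1 = dg nI 1 * g) :
    ∃ a b : SL2, g = dg a b := by
  obtain ⟨A, B, C, D, hM⟩ := mk4_surj g.1
  have h1 : g.1 * (dg (nI : SL2) 1 : L4).1 = (dg (nI : SL2) 1 : L4).1 * g.1 :=
    congrArg Subtype.val hg
  rw [dg_val, hM, mk4_mul_diag, mk4_diag_mul, nI_val, Matrix.SpecialLinearGroup.coe_one] at h1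
  simp only [mul_neg, mul_one, neg_mul, one_mul] at h1
  obtain ⟨-, hB, hC, -⟩ := mk4_inj h1
  have hB0 : B = 0 := eq_zero_of_eq_neg h2 B hB
  have hC0 : C = 0 := eq_zero_of_eq_neg h2 C hC.symm
  have hmem := g.2
  rw [hM, hB0, hC0, mk4_mem_iff] at hmem
  simp only [Matrix.transpose_zero, mul_zero, zero_mul, add_zero, zero_add] at hmem
  obtain ⟨hA, -, -, hD⟩ := hmem
  refine ⟨⟨A, det_of_J hA⟩, ⟨D, det_of_J hD⟩, ?_⟩
  apply Subtype.ext
  rw [hM, hB0, hC0]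
  rfl

theorem anti_z1 (h2 : (2 : F) ≠ 0) (g : L4) (hg : g * dg nI 1 = dg 1 nI * g) :
    ∃ a b : SL2, g = dg a b * sg := by
  obtain ⟨A, B, C, D, hM⟩ := mk4_surj g.1
  have h1 : g.1 * (dg (nI : SL2) 1 : L4).1 = (dg (1 : SL2) nI : L4).1 * g.1 :=
    congrArg Subtype.val hg
  rw [dg_val, dg_val, hM, mk4_mul_diag, mk4_diag_mul, nI_val,
    Matrix.SpecialLinearGroup.coe_one] at h1
  simp only [mul_neg, mul_one, neg_mul, one_mul] at h1
  obtain ⟨hA, -, -, hD⟩ := mk4_inj h1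
  have hA0 : A = 0 := eq_zero_of_eq_neg h2 A hA.symm
  have hD0 : D = 0 := eq_zero_of_eq_neg h2 D hD
  have hmem := g.2
  rw [hM, hA0, hD0, mk4_mem_iff] at hmem
  simp only [Matrix.transpose_zero, mul_zero, zero_mul, add_zero, zero_add] at hmem
  obtain ⟨hB, -, -, hC⟩ := hmem
  refine ⟨⟨B, det_of_J hB⟩, ⟨C, det_of_J hC⟩, ?_⟩
  apply Subtype.ext
  rw [hM, hA0, hD0]
  exact (dg_sg_val (⟨B, det_of_J hB⟩ : SL2) (⟨C, det_of_J hC⟩ : SL2)).symm

end Cfsg.Agent.Lib.Helper2.Sp4
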