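import Cfsg.Agent.Lib.Helper2.Sp4D

set_option autoImplicit false

/-! Elements of order four of `Sp₄(F)` fusing the two kinds of involutions of `SL₂ ≀ C₂`. -/

namespace Cfsg.Agent.Lib.Helper2.Sp4

open Matrix

variable {F : Type*} [Field F]

local notation "H2" => Matrix (Fin 2) (Fin 2) F
local notation "SL2" => Matrix.SpecialLinearGroup (Fin 2) F
local notation "M4" => Matrix (Fin 2 ⊕ Fin 2) (Fin 2 ⊕ Fin 2) F
set_option quotPrecheck false in
local notation "L4" => ↥(Matrix.symplecticGroup (Fin 2) F)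

/-- the matrix `½(1 + a)` -/
def uu (a : SL2) : H2 := (1 / 2 : F) • (1 + a.1)

theorem uu_det (h2 : (2 : F) ≠ 0) (a : SL2) (ha : a * a = nI) : (uu a).det = 1 / 2 := by
  have ta := trace_zero a ha
  have da := det_e a
  unfold uu
  rw [Matrix.det_smul, Matrix.det_fin_two, Fintype.card_fin]
  simp only [Matrix.add_apply, Matrix.one_apply_eq,
    Matrix.one_apply_ne (show (0 : Fin 2) ≠ 1 by decide),
    Matrix.one_apply_ne (show (1 : Fin 2) ≠ 0 by decide)]
  grind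

theorem half_add_half (h2 : (2 : F) ≠ 0) : (1 / 2 : F) + 1 / 2 = 1 := by
  rw [← two_mul]
  exact mul_one_div_cancel h2

theorem xx_mem (h2 : (2 : F) ≠ 0) (a : SL2) (ha : a * a = nI) :
    mk4 (uu a) (uu a) (-uu a) (uu a) ∈ Matrix.symplecticGroup (Fin 2) F := by
  rw [mk4_mem_iff]
  simp only [Matrix.transpose_neg, mul_neg, neg_mul, neg_neg, two_J, uu_det h2 a ha]
  refine ⟨?_, ?_, ?_, ?_⟩
  · rw [← add_smul, half_add_half h2, one_smul]
  · rw [neg_add_cancel]
  · rw [neg_add_cancel]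
  · rw [← add_smul, half_add_half h2, one_smul]

/-- an element of order four conjugating `diag(-1, 1)` to the swap -/
def xx (h2 : (2 : F) ≠ 0) (a : SL2) (ha : a * a = nI) : L4 :=
  ⟨mk4 (uu a) (uu a) (-uu a) (uu a), xx_mem h2 a ha⟩

theorem xx_val (h2 : (2 : F) ≠ 0) (a : SL2) (ha : a * a = nI) :
    (xx h2 a ha : L4).1 = mk4 (uu a) (uu a) (-uu a) (uu a) := rfl

theorem xx_z1 (h2 : (2 : F) ≠ 0) (a : SL2) (ha : a * a = nI) :
    xx h2 a ha * dg nI 1 = sg * xx h2 a ha := by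
  apply Subtype.ext
  show mk4 (uu a) (uu a) (-uu a) (uu a) * mk4 (nI : SL2).1 0 0 (1 : SL2).1 =
    mk4 0 1 1 0 * mk4 (uu a) (uu a) (-uu a) (uu a)
  rw [mk4_mul_diag, mk4_sw_mul, nI_val, Matrix.SpecialLinearGroup.coe_one]
  simp only [mul_neg, mul_one, neg_neg]

theorem xx_sg (h2 : (2 : F) ≠ 0) (a : SL2) (ha : a * a = nI) :
    xx h2 a ha * sg = dg 1 nI * xx h2 a ha := by
  apply Subtype.ext
  show mk4 (uu a) (uu a) (-uu a) (uu a) * mk4 0 1 1 0 =
    mk4 (1 : SL2).1 0 0 (nI : SL2).1 * mk4 (uu a) (uu a) (-uu a) (uu a)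
  rw [mk4_mul_sw, mk4_diag_mul, nI_val, Matrix.SpecialLinearGroup.coe_one]
  simp only [neg_mul, one_mul, neg_neg]

theorem xx_dg (h2 : (2 : F) ≠ 0) (a : SL2) (ha : a * a = nI) (r r' : SL2)
    (h : uu a * r.1 = r'.1 * uu a) : xx h2 a ha * dg r r = dg r' r' * xx h2 a ha := by
  apply Subtype.ext
  show mk4 (uu a) (uu a) (-uu a) (uu a) * mk4 r.1 0 0 r.1 =
    mk4 r'.1 0 0 r'.1 * mk4 (uu a) (uu a) (-uu a) (uu a)
  rw [mk4_mul_diag, mk4_diag_mul]
  simp only [neg_mul, mul_neg, h]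

theorem uu_comm (a r : SL2) (h : r * a = a * r) : uu a * r.1 = r.1 * uu a := by
  have h1 : r.1 * a.1 = a.1 * r.1 := by
    have := congrArg Subtype.val h
    simpa using this
  unfold uu
  rw [smul_mul_assoc, mul_smul_comm, add_mul, mul_add, one_mul, mul_one, h1]

theorem uu_anti (a r : SL2) (h : r * a = a⁻¹ * r) : uu a * r.1 = (a * r).1 * uu a := by
  have h0 : a * r * a = r := by rw [mul_assoc, h]; group
  have h1 : a.1 * r.1 * a.1 = r.1 := by
    have := congrArg Subtype.val h0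
    simpa using this
  unfold uu
  rw [smul_mul_assoc, mul_smul_comm, add_mul, mul_add, one_mul, mul_one,
    Matrix.SpecialLinearGroup.coe_mul, h1, add_comm]

theorem xx_hh (h2 : (2 : F) ≠ 0) (a b : SL2) (ha : a * a = nI) (hb : b * b = nI) :
    xx h2 b hb = dg (hh h2 a b ha hb) (hh h2 a b ha hb) * xx h2 a ha := by
  have haa := val_sq a ha
  have key : (hh h2 a b ha hb).1 * uu a = uu b := by
    show ((1 / 2 : F) • ((1 + b.1) * (1 - a.1))) * uu a = uu b
    unfold uu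
    have e1 : (1 - a.1) * (1 + a.1) = (2 : F) • (1 : H2) := by
      have e0 : (1 - a.1) * (1 + a.1) = 1 - a.1 * a.1 := by noncomm_ring
      rw [e0, haa, sub_neg_eq_add, two_smul]
    rw [smul_mul_assoc, mul_smul_comm, mul_assoc, e1, mul_smul_comm, mul_one, smul_smul,
      smul_smul]
    congr 1
    field_simp
  apply Subtype.ext
  show mk4 (uu b) (uu b) (-uu b) (uu b) =
    mk4 (hh h2 a b ha hb).1 0 0 (hh h2 a b ha hb).1 * mk4 (uu a) (uu a) (-uu a) (uu a)
  rw [mk4_diag_mul]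
  simp only [mul_neg, key]

theorem uu_sq (h2 : (2 : F) ≠ 0) (a : SL2) (ha : a * a = nI) :
    uu a * uu a = (1 / 2 : F) • a.1 := by
  have haa := val_sq a ha
  unfold uu
  have e0 : (1 + a.1) * (1 + a.1) = 1 + (2 : F) • a.1 + a.1 * a.1 := by
    rw [two_smul]
    noncomm_ring
  have e1 : (1 : H2) + (2 : F) • a.1 + -1 = (2 : F) • a.1 := by abel
  rw [smul_mul_assoc, mul_smul_comm, e0, haa, e1, smul_smul, smul_smul]
  congr 1
  field_simp

theorem xx_sq (h2 : (2 : F) ≠ 0) (a : SL2) (ha : a * a = nI) :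
    xx h2 a ha * xx h2 a ha = dg a (nI * a) * sg := by
  apply Subtype.ext
  rw [dg_sg_val]
  show mk4 (uu a) (uu a) (-uu a) (uu a) * mk4 (uu a) (uu a) (-uu a) (uu a) = _
  rw [mk4_mul]
  simp only [mul_neg, neg_mul, uu_sq h2 a ha, Matrix.SpecialLinearGroup.coe_mul, nI_val, one_mul]
  congr 1
  · rw [add_neg_cancel]
  · rw [← add_smul, half_add_half h2, one_smul]
  · rw [← neg_add, ← add_smul, half_add_half h2, one_smul]
  · rw [neg_add_cancel]

theorem xx_pow (h2 : (2 : F) ≠ 0) (a : SL2) (ha : a * a = nI) : (xx h2 a ha) ^ 2 ^ 2 = 1 := by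
  have e1 : (xx h2 a ha) ^ 2 ^ 2 = (xx h2 a ha * xx h2 a ha) * (xx h2 a ha * xx h2 a ha) := by
    rw [show (2 : ℕ) ^ 2 = 2 + 2 from rfl, pow_add, pow_two]
  rw [e1, xx_sq]
  calc dg a (nI * a) * sg * (dg a (nI * a) * sg)
      = dg a (nI * a) * (sg * dg a (nI * a)) * sg := by group
    _ = dg a (nI * a) * (dg (nI * a) a * sg) * sg := by rw [sg_dg]
    _ = dg a (nI * a) * dg (nI * a) a * (sg * sg) := by group
    _ = 1 := by
      rw [sg_sq, mul_one, dg_mul]
      have e2 : a * (nI * a) = 1 := by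
        rw [← mul_assoc, ← nI_comm a, mul_assoc, ha, nI_sq]
      have e3 : nI * a * a = 1 := by rw [mul_assoc, ha, nI_sq]
      rw [e2, e3, dg_one]

end Cfsg.Agent.Lib.Helper2.Sp4
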