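import Cfsg.Agent.Lib.Helper2.Sp4E

set_option autoImplicit false

/-! The subgroup `(Q × Q) ⋊ C₂` of `Sp₄(F)` for a Sylow `2`-subgroup `Q` of `SL₂(F)`, and its
normalizer. -/

namespace Cfsg.Agent.Lib.Helper2.Sp4

open Matrix

variable {F : Type*} [Field F]

local notation "H2" => Matrix (Fin 2) (Fin 2) F
local notation "SL2" => Matrix.SpecialLinearGroup (Fin 2) F
local notation "M4" => Matrix (Fin 2 ⊕ Fin 2) (Fin 2 ⊕ Fin 2) F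
set_option quotPrecheck false in
local notation "L4" => ↥(Matrix.symplecticGroup (Fin 2) F)

theorem sq_dg_sg (a b : SL2) : (dg a b * sg) * (dg a b * sg) = dg (a * b) (b * a) := by
  calc dg a b * sg * (dg a b * sg) = dg a b * (sg * dg a b) * sg := by group
    _ = dg a b * (dg b a * sg) * sg := by rw [sg_dg]
    _ = dg a b * dg b a * (sg * sg) := by group
    _ = dg (a * b) (b * a) := by rw [sg_sq, mul_one, dg_mul]

/-- the subgroup `(Q × Q) ⋊ ⟨σ⟩` -/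
def WW (Q : Subgroup SL2) : Subgroup L4 where
  carrier := {g | ∃ a ∈ Q, ∃ b ∈ Q, g = dg a b ∨ g = dg a b * sg}
  one_mem' := ⟨1, Q.one_mem, 1, Q.one_mem, Or.inl dg_one.symm⟩
  mul_mem' := by
    rintro g g' ⟨a, ha, b, hb, rfl | rfl⟩ ⟨a', ha', b', hb', rfl | rfl⟩
    · exact ⟨a * a', Q.mul_mem ha ha', b * b', Q.mul_mem hb hb', Or.inl (dg_mul a b a' b')⟩
    · refine ⟨a * a', Q.mul_mem ha ha', b * b', Q.mul_mem hb hb', Or.inr ?_⟩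
      rw [← mul_assoc, dg_mul]
    · refine ⟨a * b', Q.mul_mem ha hb', b * a', Q.mul_mem hb ha', Or.inr ?_⟩
      rw [mul_assoc, sg_dg, ← mul_assoc, dg_mul]
    · refine ⟨a * b', Q.mul_mem ha hb', b * a', Q.mul_mem hb ha', Or.inl ?_⟩
      calc dg a b * sg * (dg a' b' * sg) = dg a b * (sg * dg a' b') * sg := by group
        _ = dg a b * (dg b' a' * sg) * sg := by rw [sg_dg]
        _ = dg a b * dg b' a' * (sg * sg) := by group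
        _ = dg (a * b') (b * a') := by rw [sg_sq, mul_one, dg_mul]
  inv_mem' := by
    rintro g ⟨a, ha, b, hb, rfl | rfl⟩
    · exact ⟨a⁻¹, Q.inv_mem ha, b⁻¹, Q.inv_mem hb, Or.inl (dg_inv a b)⟩
    · refine ⟨b⁻¹, Q.inv_mem hb, a⁻¹, Q.inv_mem ha, Or.inr ?_⟩
      rw [_root_.mul_inv_rev, sg_inv, dg_inv, sg_dg]

theorem mem_WW {Q : Subgroup SL2} {g : L4} :
    g ∈ WW Q ↔ ∃ a ∈ Q, ∃ b ∈ Q, g = dg a b ∨ g = dg a b * sg := Iff.rfl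

theorem dg_mem_WW {Q : Subgroup SL2} {a b : SL2} : dg a b ∈ WW Q ↔ a ∈ Q ∧ b ∈ Q := by
  constructor
  · rintro ⟨a', ha', b', hb', h | h⟩
    · obtain ⟨rfl, rfl⟩ := dg_inj h
      exact ⟨ha', hb'⟩
    · exact absurd h (dg_ne_dg_sg _ _ _ _)
  · rintro ⟨ha, hb⟩
    exact ⟨a, ha, b, hb, Or.inl rfl⟩

theorem dg_sg_mem_WW {Q : Subgroup SL2} {a b : SL2} : dg a b * sg ∈ WW Q ↔ a ∈ Q ∧ b ∈ Q := by
  constructor
  · rintro ⟨a', ha', b', hb', h | h⟩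
    · exact absurd h.symm (dg_ne_dg_sg _ _ _ _)
    · obtain ⟨rfl, rfl⟩ := dg_sg_inj h
      exact ⟨ha', hb'⟩
  · rintro ⟨ha, hb⟩
    exact ⟨a, ha, b, hb, Or.inr rfl⟩

theorem sg_mem_WW (Q : Subgroup SL2) : (sg : L4) ∈ WW Q :=
  ⟨1, Q.one_mem, 1, Q.one_mem, Or.inr (by rw [dg_one, one_mul])⟩

theorem WW_isPGroup {Q : Subgroup SL2} (hQ : ∀ r ∈ Q, ∃ k : ℕ, r ^ 2 ^ k = 1) :
    IsPGroup 2 (WW Q) := by
  have key : ∀ a ∈ Q, ∀ b ∈ Q, ∃ k : ℕ, (dg a b) ^ 2 ^ k = 1 := by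
    intro a ha b hb
    obtain ⟨i, hi⟩ := hQ a ha
    obtain ⟨j, hj⟩ := hQ b hb
    refine ⟨i + j, ?_⟩
    have e1 : a ^ 2 ^ (i + j) = 1 := by rw [pow_add, pow_mul, hi, one_pow]
    have e2 : b ^ 2 ^ (i + j) = 1 := by rw [pow_add, mul_comm, pow_mul, hj, one_pow]
    rw [dg_pow, e1, e2, dg_one]
  intro g
  obtain ⟨a, ha, b, hb, h | h⟩ := g.2
  · obtain ⟨k, hk⟩ := key a ha b hb
    refine ⟨k, Subtype.ext ?_⟩
    rw [Subgroup.coe_pow, Subgroup.coe_one, h]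
    exact hk
  · obtain ⟨k, hk⟩ := key (a * b) (Q.mul_mem ha hb) (b * a) (Q.mul_mem hb ha)
    refine ⟨k + 1, Subtype.ext ?_⟩
    rw [Subgroup.coe_pow, Subgroup.coe_one, h, pow_succ', pow_mul, pow_two, sq_dg_sg]
    exact hk

theorem norm_form {Q : Subgroup SL2} {N : ℕ} {x y : SL2} (h : QS Q N x y) (h2 : (2 : F) ≠ 0)
    (g : L4) (hg : ∀ u ∈ WW Q, g * u * g⁻¹ ∈ WW Q) :
    ∃ a b : SL2, g = dg a b ∨ g = dg a b * sg := by
  obtain ⟨c, hcdef⟩ : ∃ c : SL2, c = x ^ (N / 2) := ⟨_, rfl⟩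
  have hcc : c * c = nI := by rw [hcdef]; exact h.cc
  have hcQ : c ∈ Q := by rw [hcdef]; exact Q.pow_mem h.hx _
  have hu0 := hg (dg c 1) (dg_mem_WW.mpr ⟨hcQ, Q.one_mem⟩)
  have hw : (g * dg c 1 * g⁻¹) * (g * dg c 1 * g⁻¹) = g * dg nI 1 * g⁻¹ := by
    have e : (g * dg c 1 * g⁻¹) * (g * dg c 1 * g⁻¹) = g * (dg c 1 * dg c 1) * g⁻¹ := by group
    rw [e, dg_mul, hcc, one_mul]
  have hpq : ∃ p q : SL2, g * dg nI 1 * g⁻¹ = dg p q := by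
    rw [← hw]
    obtain ⟨a', -, b', -, h1 | h1⟩ := hu0
    · rw [h1, dg_mul]
      exact ⟨_, _, rfl⟩
    · rw [h1, sq_dg_sg]
      exact ⟨_, _, rfl⟩
  obtain ⟨p, q, hpq⟩ := hpq
  have hww : dg p q * dg p q = 1 := by
    rw [← hpq]
    have e : g * dg nI 1 * g⁻¹ * (g * dg nI 1 * g⁻¹) = g * (dg nI 1 * dg nI 1) * g⁻¹ := by group
    rw [e, dg_mul, nI_sq, one_mul, dg_one]
    group
  rw [dg_mul, ← dg_one] at hww
  obtain ⟨hp, hq⟩ := dg_inj hww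
  have hz : dg (nI : SL2) 1 = g⁻¹ * (g * dg nI 1 * g⁻¹) * g := by group
  rcases invol h2 p hp with hp | hp <;> rcases invol h2 q hq with hq | hq
  · exfalso
    rw [hp, hq, dg_one] at hpq
    have h3 : dg (nI : SL2) 1 = 1 := by
      rw [hz, hpq]
      group
    rw [← dg_one] at h3
    exact nI_ne_one h2 (dg_inj h3).1
  · rw [hp, hq] at hpq
    have h3 : g * dg nI 1 = dg 1 nI * g := by
      calc g * dg nI 1 = (g * dg nI 1 * g⁻¹) * g := by group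
        _ = dg 1 nI * g := by rw [hpq]
    obtain ⟨a, b, hab⟩ := anti_z1 h2 g h3
    exact ⟨a, b, Or.inr hab⟩
  · rw [hp, hq] at hpq
    have h3 : g * dg nI 1 = dg nI 1 * g := by
      calc g * dg nI 1 = (g * dg nI 1 * g⁻¹) * g := by group
        _ = dg nI 1 * g := by rw [hpq]
    obtain ⟨a, b, hab⟩ := cent_z1 h2 g h3
    exact ⟨a, b, Or.inl hab⟩
  · exfalso
    rw [hp, hq] at hpq
    have h3 : dg (nI : SL2) 1 = dg nI nI := by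
      rw [hz, hpq, mul_assoc, neg_one_comm g, ← mul_assoc, inv_mul_cancel, one_mul]
    exact nI_ne_one h2 (dg_inj h3).2.symm

theorem norm_dg {Q : Subgroup SL2} (a b : SL2)
    (hg : ∀ u ∈ WW Q, dg a b * u * (dg a b)⁻¹ ∈ WW Q) :
    (∀ r ∈ Q, a * r * a⁻¹ ∈ Q) ∧ (∀ r ∈ Q, b * r * b⁻¹ ∈ Q) ∧ a * b⁻¹ ∈ Q := by
  refine ⟨?_, ?_, ?_⟩
  · intro r hr
    have h1 := hg (dg r 1) (dg_mem_WW.mpr ⟨hr, Q.one_mem⟩)
    rw [dg_inv, dg_mul, dg_mul] at h1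
    exact (dg_mem_WW.mp h1).1
  · intro r hr
    have h1 := hg (dg 1 r) (dg_mem_WW.mpr ⟨Q.one_mem, hr⟩)
    rw [dg_inv, dg_mul, dg_mul] at h1
    exact (dg_mem_WW.mp h1).2
  · have h1 := hg sg (sg_mem_WW Q)
    have e : dg a b * sg * (dg a b)⁻¹ = dg (a * b⁻¹) (b * a⁻¹) * sg := by
      rw [dg_inv, mul_assoc, sg_dg, ← mul_assoc, dg_mul]
    rw [e] at h1
    exact (dg_sg_mem_WW.mp h1).1

theorem norm_sg_reduce {Q : Subgroup SL2} (a b : SL2)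
    (hg : ∀ u ∈ WW Q, (dg a b * sg) * u * (dg a b * sg)⁻¹ ∈ WW Q) :
    ∀ u ∈ WW Q, dg a b * u * (dg a b)⁻¹ ∈ WW Q := by
  intro u hu
  have h1 := hg (sg * u * sg) (mul_mem (mul_mem (sg_mem_WW Q) hu) (sg_mem_WW Q))
  have e : (dg a b * sg) * (sg * u * sg) * (dg a b * sg)⁻¹ =
      dg a b * ((sg * sg) * u * (sg * sg⁻¹)) * (dg a b)⁻¹ := by group
  rw [e, sg_sq, mul_inv_cancel, one_mul, mul_one] at h1
  exact h1

theorem two_elt_norm_mem {Q : Subgroup SL2} {N : ℕ} {x y : SL2} (h : QS Q N x y)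
    (h2 : (2 : F) ≠ 0) (g : L4) (hg : ∀ u ∈ WW Q, g * u * g⁻¹ ∈ WW Q) (k : ℕ)
    (hk : g ^ 2 ^ k = 1) : g ∈ WW Q := by
  obtain ⟨a, b, rfl | rfl⟩ := norm_form h h2 g hg
  · obtain ⟨hna, hnb, -⟩ := norm_dg a b hg
    rw [dg_pow, ← dg_one] at hk
    obtain ⟨hka, hkb⟩ := dg_inj hk
    exact dg_mem_WW.mpr ⟨h.syl a hna ⟨k, hka⟩, h.syl b hnb ⟨k, hkb⟩⟩
  · obtain ⟨hna, hnb, hab⟩ := norm_dg a b (norm_sg_reduce a b hg)
    have hk2 : (dg (a * b) (b * a)) ^ 2 ^ k = 1 := by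
      rw [← sq_dg_sg, ← pow_two, ← pow_mul, mul_comm, pow_mul, hk, one_pow]
    rw [dg_pow, ← dg_one] at hk2
    obtain ⟨hkab, -⟩ := dg_inj hk2
    have habn : ∀ r ∈ Q, (a * b) * r * (a * b)⁻¹ ∈ Q := by
      intro r hr
      have e1 : a * b * r * (a * b)⁻¹ = a * (b * r * b⁻¹) * a⁻¹ := by group
      rw [e1]
      exact hna _ (hnb r hr)
    have habQ : a * b ∈ Q := h.syl _ habn ⟨k, hkab⟩
    have hbb : b * b ∈ Q := by
      have e1 : b * b = (a * b⁻¹)⁻¹ * (a * b) := by group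
      rw [e1]
      exact Q.mul_mem (Q.inv_mem hab) habQ
    obtain ⟨j, hj⟩ := h.two _ hbb
    have hbQ : b ∈ Q := h.syl b hnb ⟨j + 1, by rw [pow_succ', pow_mul, pow_two]; exact hj⟩
    have haQ : a ∈ Q := by
      have e1 : a = (a * b⁻¹) * b := by group
      rw [e1]
      exact Q.mul_mem hab hbQ
    exact dg_sg_mem_WW.mpr ⟨haQ, hbQ⟩

theorem WW_norm_big {Q : Subgroup SL2} {N : ℕ} {x y : SL2} (h : QS Q N x y)
    (h2 : (2 : F) ≠ 0) (hN : 4 ≤ N) (g : L4) (hg : ∀ u ∈ WW Q, g * u * g⁻¹ ∈ WW Q) :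
    g ∈ WW Q := by
  obtain ⟨a, b, rfl | rfl⟩ := norm_form h h2 g hg
  · obtain ⟨hna, hnb, -⟩ := norm_dg a b hg
    exact dg_mem_WW.mpr ⟨h.norm_big h2 hN a hna, h.norm_big h2 hN b hnb⟩
  · obtain ⟨hna, hnb, -⟩ := norm_dg a b (norm_sg_reduce a b hg)
    exact dg_sg_mem_WW.mpr ⟨h.norm_big h2 hN a hna, h.norm_big h2 hN b hnb⟩

theorem WW_norm_small {Q : Subgroup SL2} {N : ℕ} {x y : SL2} (h : QS Q N x y)
    (h2 : (2 : F) ≠ 0) (hxx : x * x = nI) (g : L4) (hg : ∀ u ∈ WW Q, g * u * g⁻¹ ∈ WW Q) :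
    g ∈ Subgroup.closure (({dg (hh h2 x y hxx h.yy) (hh h2 x y hxx h.yy)} : Set L4) ∪
      (WW Q : Set L4)) := by
  obtain ⟨k', hk'def⟩ : ∃ k' : SL2, k' = hh h2 x y hxx h.yy := ⟨_, rfl⟩
  rw [← hk'def]
  have hkn : ∀ r ∈ Q, k' * r * k'⁻¹ ∈ Q := by rw [hk'def]; exact h.hh_norm h2 hxx
  obtain ⟨𝒞, h𝒞⟩ : ∃ 𝒞 : Subgroup L4, 𝒞 = Subgroup.closure (({dg k' k'} : Set L4) ∪
      (WW Q : Set L4)) := ⟨_, rfl⟩
  rw [← h𝒞]
  have hy0 : dg k' k' ∈ 𝒞 := by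
    rw [h𝒞]
    exact Subgroup.subset_closure (Or.inl rfl)
  have hW : WW Q ≤ 𝒞 := by
    rw [h𝒞]
    intro u hu
    exact Subgroup.subset_closure (Or.inr hu)
  have key : ∀ a b : SL2, (∀ u ∈ WW Q, dg a b * u * (dg a b)⁻¹ ∈ WW Q) → dg a b ∈ 𝒞 := by
    intro a b hgab
    obtain ⟨hna, hnb, hab⟩ := norm_dg a b hgab
    have hba : b * a⁻¹ ∈ Q := by
      have e1 : b * a⁻¹ = (a * b⁻¹)⁻¹ := by group
      rw [e1]
      exact Q.inv_mem hab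
    rcases h.norm_small h2 hxx a hna with ha | ha | ha
    · have hb : b ∈ Q := by
        have e1 : b = (b * a⁻¹) * a := by group
        rw [e1]
        exact Q.mul_mem hba ha
      exact hW (dg_mem_WW.mpr ⟨ha, hb⟩)
    · rw [← hk'def] at ha
      have hb : k' * b ∈ Q := by
        have e1 : k' * b = (k' * (b * a⁻¹) * k'⁻¹) * (k' * a) := by group
        rw [e1]
        exact Q.mul_mem (hkn _ hba) ha
      have e2 : dg a b = (dg k' k')⁻¹ * dg (k' * a) (k' * b) := by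
        rw [← dg_mul]
        group
      rw [e2]
      exact 𝒞.mul_mem (𝒞.inv_mem hy0) (hW (dg_mem_WW.mpr ⟨ha, hb⟩))
    · rw [← hk'def] at ha
      have hb : k' * (k' * b) ∈ Q := by
        have e1 : k' * (k' * b) = (k' * (k' * (b * a⁻¹) * k'⁻¹) * k'⁻¹) * (k' * (k' * a)) := by
          group
        rw [e1]
        exact Q.mul_mem (hkn _ (hkn _ hba)) ha
      have e2 : dg a b = (dg k' k')⁻¹ * ((dg k' k')⁻¹ * dg (k' * (k' * a)) (k' * (k' * b))) := by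
        rw [← dg_mul, ← dg_mul]
        group
      rw [e2]
      exact 𝒞.mul_mem (𝒞.inv_mem hy0)
        (𝒞.mul_mem (𝒞.inv_mem hy0) (hW (dg_mem_WW.mpr ⟨ha, hb⟩)))
  obtain ⟨a, b, rfl | rfl⟩ := norm_form h h2 g hg
  · exact key a b hg
  · exact 𝒞.mul_mem (key a b (norm_sg_reduce a b hg)) (hW (sg_mem_WW Q))

theorem center_cases {Q : Subgroup SL2} {N : ℕ} {x y : SL2} (h : QS Q N x y)
    (h2 : (2 : F) ≠ 0) (g : L4) (hg : ∀ u : L4, g * u = u * g) : g = 1 ∨ g = dg nI nI := by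
  obtain ⟨a, b, rfl⟩ := cent_z1 h2 g (hg _)
  have hcc := h.cc
  have hyc := h.conj_x_pow (N / 2)
  have h1 := hg (dg (x ^ (N / 2)) 1)
  rw [dg_mul, dg_mul] at h1
  have h3 := hg (dg y 1)
  rw [dg_mul, dg_mul] at h3
  have h4 := hg (dg 1 (x ^ (N / 2)))
  rw [dg_mul, dg_mul] at h4
  have h5 := hg (dg 1 y)
  rw [dg_mul, dg_mul] at h5
  have h6 := hg sg
  rw [sg_dg] at h6
  obtain ⟨hab, -⟩ := dg_sg_inj h6
  rcases comm_xy h2 (x ^ (N / 2)) y a hcc hyc (dg_inj h1).1 (dg_inj h3).1 with ha | ha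
  · left
    rw [← hab, ha, dg_one]
  · right
    rw [← hab, ha]

end Cfsg.Agent.Lib.Helper2.Sp4
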