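import Cfsg.Agent.Lib.Helper2.Sp4F

set_option autoImplicit false

/-! Strongly closed subgroups of `(Q × Q) ⋊ C₂` in `Sp₄(F)`, and the extraspecial subgroup of
order `32` when `Q` is quaternion of order `8`. -/

namespace Cfsg.Agent.Lib.Helper2.Sp4

open Matrix

variable {F : Type*} [Field F]

local notation "H2" => Matrix (Fin 2) (Fin 2) F
local notation "SL2" => Matrix.SpecialLinearGroup (Fin 2) F
local notation "M4" => Matrix (Fin 2 ⊕ Fin 2) (Fin 2 ⊕ Fin 2) F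
set_option quotPrecheck false in
local notation "L4" => ↥(Matrix.symplecticGroup (Fin 2) F)

theorem sg_conj (p q : SL2) : sg * dg p q * sg⁻¹ = dg q p := by
  rw [sg_dg]
  group

theorem z1_of_left {Q : Subgroup SL2} {N : ℕ} {x y : SL2} (h : QS Q N x y) (h2 : (2 : F) ≠ 0)
    (T : Subgroup L4) (hTn : ∀ t ∈ T, ∀ u ∈ WW Q, u * t * u⁻¹ ∈ T)
    (a b : SL2) (ha : a ∈ Q) (ht : dg a b ∈ T) (ha1 : a ≠ 1) (ha2 : a ≠ nI) :
    dg nI 1 ∈ T := by
  have key : ∀ r ∈ Q, a * r ≠ r * a → dg nI 1 ∈ T := by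
    intro r hr hne
    have h1 := hTn _ ht (dg r 1) (dg_mem_WW.mpr ⟨hr, Q.one_mem⟩)
    have h3 := T.mul_mem h1 (T.inv_mem ht)
    have e : dg r 1 * dg a b * (dg r 1)⁻¹ * (dg a b)⁻¹ = dg (r * a * r⁻¹ * a⁻¹) 1 := by
      rw [dg_inv, dg_inv, dg_mul, dg_mul, dg_mul]
      congr 1
      group
    rw [e] at h3
    have ha'1 : r * a * r⁻¹ * a⁻¹ ≠ 1 := by
      intro h4
      apply hne
      calc a * r = (r * a * r⁻¹ * a⁻¹)⁻¹ * (r * a) := by group
        _ = r * a := by rw [h4, inv_one, one_mul]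
    have ha'Q : r * a * r⁻¹ * a⁻¹ ∈ Q :=
      Q.mul_mem (Q.mul_mem (Q.mul_mem hr ha) (Q.inv_mem hr)) (Q.inv_mem ha)
    obtain ⟨k, hk⟩ := h.two _ ha'Q
    obtain ⟨j, hj⟩ := exists_pow_eq_nI h2 _ ha'1 k hk
    have h5 := T.pow_mem h3 (2 ^ j)
    rw [dg_pow, hj, one_pow] at h5
    exact h5
  rcases h.noncomm h2 a ha1 ha2 with hr | hr
  · exact key x h.hx hr
  · exact key y h.hy hr

theorem z1_of_dg {Q : Subgroup SL2} {N : ℕ} {x y : SL2} (h : QS Q N x y) (h2 : (2 : F) ≠ 0)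
    (T : Subgroup L4) (hTn : ∀ t ∈ T, ∀ u ∈ WW Q, u * t * u⁻¹ ∈ T) (hneg : dg nI nI ∈ T)
    (a b : SL2) (ha : a ∈ Q) (hb : b ∈ Q) (ht : dg a b ∈ T) (hne1 : dg a b ≠ 1)
    (hne2 : dg a b ≠ dg nI nI) : dg nI 1 ∈ T := by
  by_cases ha1 : a = 1
  · by_cases hb1 : b = 1
    · exfalso
      apply hne1
      rw [ha1, hb1, dg_one]
    · by_cases hb2 : b = nI
      · have h3 := T.mul_mem ht hneg
        rw [ha1, hb2, dg_mul, one_mul, nI_sq] at h3
        exact h3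
      · have h3 := hTn _ ht sg (sg_mem_WW Q)
        rw [sg_conj] at h3
        exact z1_of_left h h2 T hTn b a hb h3 hb1 hb2
  · by_cases ha2 : a = nI
    · by_cases hb1 : b = 1
      · rw [ha2, hb1] at ht
        exact ht
      · by_cases hb2 : b = nI
        · exfalso
          apply hne2
          rw [ha2, hb2]
        · have h3 := hTn _ ht sg (sg_mem_WW Q)
          rw [sg_conj] at h3
          exact z1_of_left h h2 T hTn b a hb h3 hb1 hb2
    · exact z1_of_left h h2 T hTn a b ha ht ha1 ha2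

theorem sc_eq [Fintype F] (hF : Fintype.card F % 2 = 1) {Q : Subgroup SL2} {N : ℕ} {x y : SL2}
    (h : QS Q N x y) (h2 : (2 : F) ≠ 0) (T : Subgroup L4) (hTU : T ≤ WW Q)
    (hneg : dg nI nI ∈ T) (hne : ∃ t ∈ T, t ≠ 1 ∧ t ≠ dg nI nI)
    (hcl : ∀ t ∈ T, ∀ g : L4, g * t * g⁻¹ ∈ WW Q → g * t * g⁻¹ ∈ T) : T = WW Q := by
  have hTn : ∀ t ∈ T, ∀ u ∈ WW Q, u * t * u⁻¹ ∈ T := fun t ht u hu =>
    hcl t ht u ((WW Q).mul_mem ((WW Q).mul_mem hu (hTU ht)) ((WW Q).inv_mem hu))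
  obtain ⟨c, hcdef⟩ : ∃ c : SL2, c = x ^ (N / 2) := ⟨_, rfl⟩
  have hcc : c * c = nI := by rw [hcdef]; exact h.cc
  have hcQ : c ∈ Q := by rw [hcdef]; exact Q.pow_mem h.hx _
  have hc1 : c ≠ 1 := by
    intro h1
    rw [h1, one_mul] at hcc
    exact nI_ne_one h2 hcc.symm
  have hc2 : c ≠ nI := by
    intro h1
    rw [h1, nI_sq] at hcc
    exact nI_ne_one h2 hcc.symm
  -- step 1
  have hz1 : dg nI 1 ∈ T := by
    obtain ⟨t, htT, ht1, ht2⟩ := hne
    obtain ⟨a, ha, b, hb, rfl | rfl⟩ := hTU htT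
    · exact z1_of_dg h h2 T hTn hneg a b ha hb htT ht1 ht2
    · have h1 := hTn _ htT (dg c 1) (dg_mem_WW.mpr ⟨hcQ, Q.one_mem⟩)
      have h3 := T.mul_mem h1 (T.inv_mem htT)
      have e : dg c 1 * (dg a b * sg) * (dg c 1)⁻¹ * (dg a b * sg)⁻¹ =
          dg c (b * c⁻¹ * b⁻¹) := by
        have e1 : dg c 1 * (dg a b * sg) * (dg c 1)⁻¹ * (dg a b * sg)⁻¹ =
            dg c 1 * dg a b * (sg * (dg c 1)⁻¹ * sg⁻¹) * (dg a b)⁻¹ := by group
        rw [e1, dg_inv, sg_conj, dg_inv, dg_mul, dg_mul, dg_mul]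
        congr 1
        · group
        · group
      rw [e] at h3
      have hdQ : b * c⁻¹ * b⁻¹ ∈ Q := Q.mul_mem (Q.mul_mem hb (Q.inv_mem hcQ)) (Q.inv_mem hb)
      apply z1_of_dg h h2 T hTn hneg c _ hcQ hdQ h3
      · intro h4
        rw [← dg_one] at h4
        exact hc1 (dg_inj h4).1
      · intro h4
        exact hc2 (dg_inj h4).1
  -- step 2
  have hsg : (sg : L4) ∈ T := by
    have e : xx h2 c hcc * dg nI 1 * (xx h2 c hcc)⁻¹ = sg :=
      mul_inv_eq_of_eq_mul (xx_z1 h2 c hcc)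
    have h1 := hcl _ hz1 (xx h2 c hcc) (by rw [e]; exact sg_mem_WW Q)
    rwa [e] at h1
  -- step 3
  have hdd : ∀ r ∈ Q, dg r r⁻¹ ∈ T := by
    intro r hr
    have h1 := hTn _ hsg (dg r 1) (dg_mem_WW.mpr ⟨hr, Q.one_mem⟩)
    have e : dg r 1 * sg * (dg r 1)⁻¹ = dg r r⁻¹ * sg := by
      rw [dg_inv, mul_assoc, sg_dg, ← mul_assoc, dg_mul, inv_one, mul_one, one_mul]
    rw [e] at h1
    have h3 := T.mul_mem h1 (T.inv_mem hsg)
    rwa [mul_inv_cancel_right] at h3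
  -- step 4
  have hfuse : ∀ a ∈ Q, ∀ b ∈ Q, a * a = nI → b * b = nI → b * a ≠ 1 →
      dg 1 (a * b⁻¹) ∈ T := by
    intro a ha b hb haa hbb hba
    obtain ⟨k0, hk0⟩ := h.two _ (Q.mul_mem hb ha)
    have htr := tr_ne_two h2 (b * a) k0 hk0 hba
    obtain ⟨k, hk⟩ := conj4 hF a b haa hbb htr
    have hkak : k * a * k⁻¹ = b := mul_inv_eq_of_eq_mul hk
    have e : dg k 1 * dg a a⁻¹ * (dg k 1)⁻¹ = dg b a⁻¹ := by
      rw [dg_inv, dg_mul, dg_mul, hkak, inv_one, mul_one, one_mul]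
    have h1 := hcl _ (hdd a ha) (dg k 1)
      (by rw [e]; exact dg_mem_WW.mpr ⟨hb, Q.inv_mem ha⟩)
    rw [e] at h1
    have h3 := T.mul_mem (T.inv_mem h1) (hdd b hb)
    rw [dg_inv, dg_mul, inv_mul_cancel, inv_inv] at h3
    exact h3
  have hx1 : dg 1 x ∈ T := by
    have haa : (y * x) * (y * x) = nI := by
      have := h.sq_yx 1
      rwa [pow_one] at this
    have hba : y * (y * x) ≠ 1 := by
      intro h4
      rw [← mul_assoc, h.yy] at h4
      apply h.x_sq_ne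
      have h5 : x = nI := by
        calc x = nI * (nI * x) := by rw [← mul_assoc, nI_sq, one_mul]
          _ = nI := by rw [h4, mul_one]
      rw [h5, nI_sq]
    have h1 := hfuse (y * x) (Q.mul_mem h.hy h.hx) y h.hy haa h.yy hba
    rw [h.conj_x] at h1
    have h3 := T.inv_mem h1
    rwa [dg_inv, inv_one, inv_inv] at h3
  have hxy : x * y ≠ x⁻¹ * y := by
    intro h4
    apply h.x_sq_ne
    have h5 : x = x⁻¹ := mul_right_cancel h4
    calc x * x = x * x⁻¹ := by rw [← h5]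
      _ = 1 := mul_inv_cancel x
  have hy1 : dg 1 y ∈ T := by
    have hba : c * y ≠ 1 := by
      intro h4
      have h5 : y = c⁻¹ := eq_inv_of_mul_eq_one_right h4
      apply hxy
      have hcx : Commute c x := by
        rw [hcdef]
        exact (Commute.refl x).pow_left _
      calc x * y = x * c⁻¹ := by rw [h5]
        _ = c⁻¹ * x := (hcx.inv_left.eq).symm
        _ = y * x := by rw [h5]
        _ = x⁻¹ * y := h.yx
    have h1 := hfuse y h.hy c hcQ h.yy hcc hba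
    have h3 : dg 1 c ∈ T := by
      have h4 := T.pow_mem hx1 (N / 2)
      rwa [dg_pow, one_pow, ← hcdef] at h4
    have h5 := T.mul_mem h1 h3
    rwa [dg_mul, one_mul, inv_mul_cancel_right] at h5
  have h1r : ∀ r ∈ Q, dg 1 r ∈ T := by
    intro r hr
    have hp : ∀ k : ℕ, dg 1 (x ^ k) ∈ T := by
      intro k
      have h4 := T.pow_mem hx1 k
      rwa [dg_pow, one_pow] at h4
    obtain ⟨k, hk | hk⟩ := h.gen r hr
    · rw [hk]
      exact hp k
    · rw [hk]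
      have h4 := T.mul_mem hy1 (hp k)
      rwa [dg_mul, one_mul] at h4
  have hr1 : ∀ r ∈ Q, dg r 1 ∈ T := by
    intro r hr
    have h4 := T.mul_mem (T.mul_mem hsg (h1r r hr)) (T.inv_mem hsg)
    rwa [sg_conj] at h4
  apply le_antisymm hTU
  intro u hu
  obtain ⟨a, ha, b, hb, rfl | rfl⟩ := hu
  · have h4 := T.mul_mem (hr1 a ha) (h1r b hb)
    rwa [dg_mul, mul_one, one_mul] at h4
  · have h4 := T.mul_mem (hr1 a ha) (h1r b hb)
    rw [dg_mul, mul_one, one_mul] at h4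
    exact T.mul_mem h4 hsg

end Cfsg.Agent.Lib.Helper2.Sp4
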