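import Cfsg.Agent.Lib.Helper2.Sp4A
import Cfsg.Agent.Lib.Helper2.Sp4G

set_option autoImplicit false

/-! The `2`-fusion system of `PSp₄(F)`, `F` finite of odd order, is simple. -/

namespace Cfsg.Agent.Lib.Helper2.Sp4

open Matrix

variable {F : Type*} [Field F]

local notation "H2" => Matrix (Fin 2) (Fin 2) F
local notation "SL2" => Matrix.SpecialLinearGroup (Fin 2) F
local notation "M4" => Matrix (Fin 2 ⊕ Fin 2) (Fin 2 ⊕ Fin 2) F
set_option quotPrecheck false in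
local notation "L4" => ↥(Matrix.symplecticGroup (Fin 2) F)

theorem nI_inv : (nI : SL2)⁻¹ = nI := inv_eq_of_mul_eq_one_right nI_sq

theorem nI_pow_cases (k : ℕ) : (nI : SL2) ^ k = 1 ∨ (nI : SL2) ^ k = nI := by
  induction k with
  | zero =>
    left
    exact pow_zero _
  | succ k ih =>
    rcases ih with ih | ih
    · right
      rw [pow_succ, ih, one_mul]
    · left
      rw [pow_succ, ih, nI_sq]

theorem sq_cases {Q : Subgroup SL2} {N : ℕ} {x y : SL2} (h : QS Q N x y) (hxx : x * x = nI) :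
    ∀ s ∈ Q, s * s = 1 ∨ s * s = nI := by
  intro s hs
  obtain ⟨k, hk | hk⟩ := h.gen s hs
  · rw [hk, ← (Commute.refl x).mul_pow k, hxx]
    exact nI_pow_cases k
  · right
    rw [hk]
    exact h.sq_yx k

theorem inv_cases {Q : Subgroup SL2} {N : ℕ} {x y : SL2} (h : QS Q N x y) (hxx : x * x = nI) :
    ∀ s ∈ Q, s⁻¹ = s ∨ s⁻¹ = nI * s := by
  intro s hs
  rcases sq_cases h hxx s hs with h1 | h1
  · left
    exact inv_eq_of_mul_eq_one_right h1
  · right
    apply inv_eq_of_mul_eq_one_right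
    rw [← mul_assoc, ← nI_comm s, mul_assoc, h1, nI_sq]

theorem conj_cases {Q : Subgroup SL2} {N : ℕ} {x y : SL2} (h : QS Q N x y) (hxx : x * x = nI) :
    ∀ g ∈ Q, ∀ r ∈ Q, g * r * g⁻¹ = r ∨ g * r * g⁻¹ = nI * r := by
  intro g hg r hr
  have e0 : g * r * g⁻¹ = ((g * r) * (g * r)) * r⁻¹ * (g * g)⁻¹ := by group
  have hA : ∀ z : SL2, nI * z * nI = z := by
    intro z
    rw [mul_assoc, ← nI_comm z, ← mul_assoc, nI_sq, one_mul]
  have hB : ∀ z : SL2, nI * (nI * z) = z := by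
    intro z
    rw [← mul_assoc, nI_sq, one_mul]
  rw [e0]
  rcases sq_cases h hxx _ (Q.mul_mem hg hr) with h1 | h1
  · rcases sq_cases h hxx g hg with h3 | h3
    · rcases inv_cases h hxx r hr with h4 | h4
      · left
        rw [h1, h3, h4, one_mul, inv_one, mul_one]
      · right
        rw [h1, h3, h4, one_mul, inv_one, mul_one]
    · rcases inv_cases h hxx r hr with h4 | h4
      · right
        rw [h1, h3, h4, one_mul, nI_inv]
        exact (nI_comm r).symm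
      · left
        rw [h1, h3, h4, one_mul, nI_inv]
        exact hA r
  · rcases sq_cases h hxx g hg with h3 | h3
    · rcases inv_cases h hxx r hr with h4 | h4
      · right
        rw [h1, h3, h4, inv_one, mul_one]
      · left
        rw [h1, h3, h4, inv_one, mul_one]
        exact hB r
    · rcases inv_cases h hxx r hr with h4 | h4
      · left
        rw [h1, h3, h4, nI_inv]
        exact hA r
      · right
        rw [h1, h3, h4, nI_inv, hB]
        exact (nI_comm r).symm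

/-- generators of the extraspecial subgroup -/
def RRgen (Q : Subgroup SL2) : Set L4 := {g | (∃ r ∈ Q, g = dg r r) ∨ g = dg nI 1 ∨ g = sg}

/-- the subgroup `Q ∘ D₈` -/
def RR (Q : Subgroup SL2) : Subgroup L4 := Subgroup.closure (RRgen Q)

theorem conj_closure {G : Type*} [Group G] (g : G) (S : Set G)
    (hS : ∀ s ∈ S, g * s * g⁻¹ ∈ Subgroup.closure S) :
    ∀ r ∈ Subgroup.closure S, g * r * g⁻¹ ∈ Subgroup.closure S := by
  intro r hr
  induction hr using Subgroup.closure_induction with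
  | mem s hs => exact hS s hs
  | one =>
    rw [mul_one, mul_inv_cancel]
    exact Subgroup.one_mem _
  | mul a b _ _ iha ihb =>
    have e : g * (a * b) * g⁻¹ = (g * a * g⁻¹) * (g * b * g⁻¹) := by group
    rw [e]
    exact Subgroup.mul_mem _ iha ihb
  | inv a _ iha =>
    have e : g * a⁻¹ * g⁻¹ = (g * a * g⁻¹)⁻¹ := by group
    rw [e]
    exact Subgroup.inv_mem _ iha

theorem dgrr_mem {Q : Subgroup SL2} {r : SL2} (hr : r ∈ Q) : dg r r ∈ RR Q :=
  Subgroup.subset_closure (Or.inl ⟨r, hr, rfl⟩)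

theorem z1_mem_RR (Q : Subgroup SL2) : dg nI 1 ∈ RR Q :=
  Subgroup.subset_closure (Or.inr (Or.inl rfl))

theorem sg_mem_RR (Q : Subgroup SL2) : (sg : L4) ∈ RR Q :=
  Subgroup.subset_closure (Or.inr (Or.inr rfl))

theorem mem_RR_of {Q : Subgroup SL2} (hnI : nI ∈ Q) {r : SL2} (hr : r ∈ Q) {a b : SL2}
    (ha : a = r ∨ a = nI * r) (hb : b = r ∨ b = nI * r) : dg a b ∈ RR Q := by
  rcases ha with ha | ha <;> rcases hb with hb | hb
  · rw [ha, hb]
    exact dgrr_mem hr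
  · have e : dg a b = dg nI nI * dg nI 1 * dg r r := by
      rw [ha, hb, dg_mul, dg_mul, nI_sq, mul_one, one_mul]
    rw [e]
    exact mul_mem (mul_mem (dgrr_mem hnI) (z1_mem_RR Q)) (dgrr_mem hr)
  · have e : dg a b = dg nI 1 * dg r r := by rw [ha, hb, dg_mul, one_mul]
    rw [e]
    exact mul_mem (z1_mem_RR Q) (dgrr_mem hr)
  · have e : dg a b = dg nI nI * dg r r := by rw [ha, hb, dg_mul]
    rw [e]
    exact mul_mem (dgrr_mem hnI) (dgrr_mem hr)

theorem RR_le_WW {Q : Subgroup SL2} (hnI : nI ∈ Q) : RR Q ≤ WW Q := by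
  unfold RR
  rw [Subgroup.closure_le]
  rintro g (⟨r, hr, rfl⟩ | rfl | rfl)
  · exact dg_mem_WW.mpr ⟨hr, hr⟩
  · exact dg_mem_WW.mpr ⟨hnI, Q.one_mem⟩
  · exact sg_mem_WW Q

theorem WW_norm_RR {Q : Subgroup SL2} {N : ℕ} {x y : SL2} (h : QS Q N x y)
    (hxx : x * x = nI) : ∀ u ∈ WW Q, ∀ r ∈ RR Q, u * r * u⁻¹ ∈ RR Q := by
  have hnI := h.nI_mem
  have key : ∀ a ∈ Q, ∀ b ∈ Q, ∀ r ∈ RR Q, dg a b * r * (dg a b)⁻¹ ∈ RR Q := by
    intro a ha b hb
    show ∀ r ∈ Subgroup.closure (RRgen Q), dg a b * r * (dg a b)⁻¹ ∈ Subgroup.closure (RRgen Q)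
    apply conj_closure
    rintro s (⟨r, hr, rfl⟩ | rfl | rfl)
    · rw [dg_inv, dg_mul, dg_mul]
      exact mem_RR_of hnI hr (conj_cases h hxx a ha r hr) (conj_cases h hxx b hb r hr)
    · rw [dg_inv, dg_mul, dg_mul]
      have e1 : a * nI * a⁻¹ = nI := by rw [← nI_comm a, mul_assoc, mul_inv_cancel, mul_one]
      rw [e1, mul_one, mul_inv_cancel]
      exact z1_mem_RR Q
    · have e : dg a b * sg * (dg a b)⁻¹ = dg (a * b⁻¹) (b * a⁻¹) * sg := by
        rw [dg_inv, mul_assoc, sg_dg, ← mul_assoc, dg_mul]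
      rw [e]
      have hs : a * b⁻¹ ∈ Q := Q.mul_mem ha (Q.inv_mem hb)
      have e2 : b * a⁻¹ = (a * b⁻¹)⁻¹ := by group
      rw [e2]
      exact mul_mem (mem_RR_of hnI hs (Or.inl rfl) (inv_cases h hxx _ hs)) (sg_mem_RR Q)
  intro u hu r hr
  obtain ⟨a, ha, b, hb, rfl | rfl⟩ := hu
  · exact key a ha b hb r hr
  · have e : dg a b * sg * r * (dg a b * sg)⁻¹ = dg a b * (sg * r * sg⁻¹) * (dg a b)⁻¹ := by
      group
    rw [e]
    exact key a ha b hb _ (mul_mem (mul_mem (sg_mem_RR Q) hr) (inv_mem (sg_mem_RR Q)))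

theorem RR_centric {Q : Subgroup SL2} (hnI : nI ∈ Q) : ∀ u ∈ WW Q,
    (u * sg * u⁻¹ * sg⁻¹ = 1 ∨ u * sg * u⁻¹ * sg⁻¹ = dg nI nI) → u ∈ RR Q := by
  intro u hu hc
  have key : ∀ a ∈ Q, ∀ b ∈ Q, (dg (a * b⁻¹) (b * a⁻¹) = 1 ∨
      dg (a * b⁻¹) (b * a⁻¹) = dg nI nI) → dg a b ∈ RR Q := by
    intro a _ b hb hc
    rcases hc with hc | hc
    · rw [← dg_one] at hc
      have h1 : a = b := mul_inv_eq_one.mp (dg_inj hc).1
      rw [h1]
      exact dgrr_mem hb
    · have h1 : a = nI * b := mul_inv_eq_iff_eq_mul.mp (dg_inj hc).1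
      exact mem_RR_of hnI hb (Or.inr h1) (Or.inl rfl)
  obtain ⟨a, ha, b, hb, rfl | rfl⟩ := hu
  · apply key a ha b hb
    have e : dg a b * sg * (dg a b)⁻¹ * sg⁻¹ = dg (a * b⁻¹) (b * a⁻¹) := by
      have e1 : dg a b * sg * (dg a b)⁻¹ * sg⁻¹ = dg a b * (sg * (dg a b)⁻¹ * sg⁻¹) := by group
      rw [e1, dg_inv, sg_conj, dg_mul]
    rw [e] at hc
    exact hc
  · refine mul_mem (key a ha b hb ?_) (sg_mem_RR Q)
    have e : dg a b * sg * sg * (dg a b * sg)⁻¹ * sg⁻¹ = dg (a * b⁻¹) (b * a⁻¹) := by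
      have e1 : dg a b * sg * sg * (dg a b * sg)⁻¹ * sg⁻¹ =
          dg a b * (sg * (dg a b)⁻¹ * sg⁻¹) := by group
      rw [e1, dg_inv, sg_conj, dg_mul]
    rw [e] at hc
    exact hc

theorem xx_norm_RR {Q : Subgroup SL2} {N : ℕ} {x y : SL2} (h : QS Q N x y) (h2 : (2 : F) ≠ 0)
    (hxx : x * x = nI) (a : SL2) (ha : a ∈ Q) (haa : a * a = nI) :
    ∀ r ∈ RR Q, xx h2 a haa * r * (xx h2 a haa)⁻¹ ∈ RR Q := by
  have hnI := h.nI_mem
  show ∀ r ∈ Subgroup.closure (RRgen Q),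
    xx h2 a haa * r * (xx h2 a haa)⁻¹ ∈ Subgroup.closure (RRgen Q)
  apply conj_closure
  rintro s (⟨r, hr, rfl⟩ | rfl | rfl)
  · rcases conj_cases h hxx a ha r hr with h1 | h1
    · have hra : r * a = a * r := by
        calc r * a = (a * r * a⁻¹) * a := by rw [h1]
          _ = a * r := by group
      have e := xx_dg h2 a haa r r (uu_comm a r hra)
      rw [mul_inv_eq_of_eq_mul e]
      exact dgrr_mem hr
    · have hra : r * a = a⁻¹ * r := by
        have hainv : a⁻¹ = nI * a := by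
          apply inv_eq_of_mul_eq_one_right
          rw [← mul_assoc, ← nI_comm a, mul_assoc, haa, nI_sq]
        have h3 : a * r = nI * r * a := by
          calc a * r = (a * r * a⁻¹) * a := by group
            _ = nI * r * a := by rw [h1]
        rw [hainv, mul_assoc, h3, ← mul_assoc, ← mul_assoc, nI_sq, one_mul]
      have e := xx_dg h2 a haa r (a * r) (uu_anti a r hra)
      rw [mul_inv_eq_of_eq_mul e]
      exact dgrr_mem (Q.mul_mem ha hr)
  · rw [mul_inv_eq_of_eq_mul (xx_z1 h2 a haa)]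
    exact sg_mem_RR Q
  · rw [mul_inv_eq_of_eq_mul (xx_sg h2 a haa)]
    exact mem_RR_of hnI Q.one_mem (Or.inl rfl) (Or.inr (mul_one nI).symm)

theorem y0_mem_closure [Fintype F] {Q : Subgroup SL2} {N : ℕ} {x y : SL2} (h : QS Q N x y)
    (h2 : (2 : F) ≠ 0) (hxx : x * x = nI) :
    dg (hh h2 x y hxx h.yy) (hh h2 x y hxx h.yy) ∈ Subgroup.closure
      {z : L4 | z ∈ Subgroup.normalizer ((RR Q : Subgroup L4) : Set L4) ∧
        ∃ k : ℕ, z ^ 2 ^ k = 1} := by
  haveI : Finite L4 := Finite.of_injective (fun g : L4 => g.1) Subtype.val_injective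
  have e : dg (hh h2 x y hxx h.yy) (hh h2 x y hxx h.yy) =
      xx h2 y h.yy * (xx h2 x hxx)⁻¹ := eq_mul_inv_of_mul_eq (xx_hh h2 x y hxx h.yy).symm
  rw [e]
  refine Subgroup.mul_mem _ (Subgroup.subset_closure ⟨?_, 2, xx_pow h2 y h.yy⟩)
    (Subgroup.inv_mem _ (Subgroup.subset_closure ⟨?_, 2, xx_pow h2 x hxx⟩))
  · apply Subgroup.mem_normalizer_fintype
    intro r hr
    exact xx_norm_RR h h2 hxx y h.hy h.yy r hr
  · apply Subgroup.mem_normalizer_fintype
    intro r hr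
    exact xx_norm_RR h h2 hxx x h.hx hxx r hr

theorem y0_norm {Q : Subgroup SL2} {N : ℕ} {x y : SL2} (h : QS Q N x y) (h2 : (2 : F) ≠ 0)
    (hxx : x * x = nI) : ∀ u ∈ WW Q,
    dg (hh h2 x y hxx h.yy) (hh h2 x y hxx h.yy) * u *
      (dg (hh h2 x y hxx h.yy) (hh h2 x y hxx h.yy))⁻¹ ∈ WW Q := by
  obtain ⟨k, hkdef⟩ : ∃ k : SL2, k = hh h2 x y hxx h.yy := ⟨_, rfl⟩
  rw [← hkdef]
  have hkn : ∀ r ∈ Q, k * r * k⁻¹ ∈ Q := by rw [hkdef]; exact h.hh_norm h2 hxx
  intro u hu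
  obtain ⟨a, ha, b, hb, rfl | rfl⟩ := hu
  · rw [dg_inv, dg_mul, dg_mul]
    exact dg_mem_WW.mpr ⟨hkn a ha, hkn b hb⟩
  · have e1 : dg k k * (dg a b * sg) * (dg k k)⁻¹ = dg k k * dg a b * (sg * (dg k k)⁻¹) := by
      group
    rw [e1, dg_inv, sg_dg, ← mul_assoc, dg_mul, dg_mul]
    exact dg_sg_mem_WW.mpr ⟨hkn a ha, hkn b hb⟩

theorem psp4_simple [Fintype F] (hodd : Fintype.card F % 2 = 1) (S : Sylow 2 (Cfsg.PSp 2 F)) :
    (Cfsg.groupFusionSystem (S : Subgroup (Cfsg.PSp 2 F))).IsSimple 2 := by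
  haveI : Fact (Nat.Prime 2) := ⟨Nat.prime_two⟩
  have hF : Odd (Fintype.card F) := Nat.odd_iff.mpr hodd
  have h2 : (2 : F) ≠ 0 := by
    have hchar : ringChar F ≠ 2 := by
      intro h
      have := FiniteField.even_card_of_char_two h
      omega
    exact Ring.two_ne_zero hchar
  haveI : Finite SL2 := Finite.of_injective (fun A : SL2 => A.1) Subtype.val_injective
  haveI : Finite L4 := Finite.of_injective (fun g : L4 => g.1) Subtype.val_injective
  obtain ⟨P0⟩ : Nonempty (Sylow 2 SL2) := inferInstance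
  obtain ⟨N, x, y, h⟩ := exists_QS hF h2 P0
  obtain ⟨Q, hQdef⟩ : ∃ Q : Subgroup SL2, Q = (P0 : Subgroup SL2) := ⟨_, rfl⟩
  rw [← hQdef] at h
  have hnI := h.nI_mem
  obtain ⟨π, hπdef⟩ : ∃ π : L4 →* Cfsg.PSp 2 F,
      π = QuotientGroup.mk' (Subgroup.center L4) := ⟨_, rfl⟩
  have hπsurj : Function.Surjective π := by
    rw [hπdef]
    exact QuotientGroup.mk'_surjective _
  have hπker : ∀ z : L4, z ∈ π.ker ↔ (z = 1 ∨ z = dg nI nI) := by
    intro z
    rw [hπdef, QuotientGroup.ker_mk', Subgroup.mem_center_iff]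
    constructor
    · intro hz
      exact center_cases h h2 z (fun u => (hz u).symm)
    · rintro (rfl | rfl) u
      · rw [mul_one, one_mul]
      · exact (neg_one_comm u).symm
  have hUp : IsPGroup 2 (WW Q) := WW_isPGroup h.two
  have hπkU : π.ker ≤ WW Q := by
    intro z hz
    rcases (hπker z).mp hz with rfl | rfl
    · exact one_mem _
    · exact dg_mem_WW.mpr ⟨hnI, hnI⟩
  obtain ⟨Q0, hQ0⟩ : ∃ Q0 : Sylow 2 (Cfsg.PSp 2 F),
      (Q0 : Subgroup (Cfsg.PSp 2 F)) = (WW Q).map π := by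
    apply Cfsg.Agent.Lib.Helper2.SimpCrit2.exists_sylow_eq _ (hUp.map π)
    intro xb hxb hxp
    obtain ⟨g, rfl⟩ := hπsurj xb
    have hgN := lift_normalizer_ker π (WW Q) hπkU g hxb
    obtain ⟨k, hk⟩ := hxp
    have hgk : g ^ 2 ^ k ∈ π.ker := by
      rw [MonoidHom.mem_ker, map_pow]
      exact hk
    have hg2 : g ^ 2 ^ (k + 1) = 1 := by
      rw [pow_succ, pow_mul]
      rcases (hπker _).mp hgk with h1 | h1
      · rw [h1, one_pow]
      · rw [h1, pow_two, dg_mul, nI_sq, dg_one]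
    apply Subgroup.mem_map_of_mem
    apply two_elt_norm_mem h h2 g _ (k + 1) hg2
    intro u hu
    exact (Subgroup.mem_normalizer_iff.mp hgN u).mp hu
  obtain ⟨g0, hg0⟩ := MulAction.exists_smul_eq (Cfsg.PSp 2 F) Q0 S
  obtain ⟨ψ, hψdef⟩ : ∃ ψ : L4 →* Cfsg.PSp 2 F,
      ψ = (MulAut.conj g0).toMonoidHom.comp π := ⟨_, rfl⟩
  have hψker : ψ.ker = π.ker := by
    ext z
    rw [MonoidHom.mem_ker, MonoidHom.mem_ker, hψdef, MonoidHom.comp_apply]
    exact (MulAut.conj g0).map_eq_one_iff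
  have hψsurj : Function.Surjective ψ := by
    rw [hψdef]
    exact (MulAut.conj g0).surjective.comp hπsurj
  have hSU : (S : Subgroup (Cfsg.PSp 2 F)) = (WW Q).map ψ := by
    rw [← hg0, Sylow.coe_subgroup_smul, hψdef, ← Subgroup.map_map, ← hQ0]
    rfl
  have hker' : ∀ z : L4, z ∈ ψ.ker ↔ (z = 1 ∨ z = dg nI nI) := by
    intro z
    rw [hψker]
    exact hπker z
  have hψkU : ψ.ker ≤ WW Q := by
    rw [hψker]
    exact hπkU
  have hU1 : ∃ u ∈ WW Q, u ∉ ψ.ker := by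
    refine ⟨sg, sg_mem_WW Q, ?_⟩
    rw [hker']
    rintro (h1 | h1)
    · have h3 : dg (1 : SL2) 1 = dg 1 1 * sg := by rw [h1, mul_one]
      exact dg_ne_dg_sg _ _ _ _ h3
    · have h3 : dg (nI : SL2) nI = dg 1 1 * sg := by rw [dg_one, one_mul, h1]
      exact dg_ne_dg_sg _ _ _ _ h3
  have ha : ∀ T : Subgroup L4, T ≤ WW Q → ψ.ker ≤ T → (∃ t ∈ T, t ∉ ψ.ker) →
      (∀ t ∈ T, ∀ g : L4, g * t * g⁻¹ ∈ WW Q → g * t * g⁻¹ ∈ T) → T = WW Q := by
    intro T hTU hkT hne hcl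
    apply sc_eq hodd h h2 T hTU (hkT ((hker' _).mpr (Or.inr rfl))) _ hcl
    obtain ⟨t, htT, htk⟩ := hne
    exact ⟨t, htT, fun h1 => htk ((hker' t).mpr (Or.inl h1)),
      fun h1 => htk ((hker' t).mpr (Or.inr h1))⟩
  by_cases hN4 : 4 ≤ N
  · apply simple_of_cover_ker ψ hψsurj (WW Q) hUp hψkU hU1 S hSU ha ∅
      (fun R hR => absurd hR (Set.notMem_empty R)) ∅
      (fun y hy => absurd hy (Set.notMem_empty y))
    intro g hg
    rw [Set.empty_union]
    apply Subgroup.subset_closure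
    exact WW_norm_big h h2 hN4 g (fun u hu => (Subgroup.mem_normalizer_iff.mp hg u).mp hu)
  · have hN2 : N = 2 := by
      obtain ⟨m, hm⟩ := h.even
      have := h.two_le
      omega
    have hxx : x * x = nI := by
      have := h.xN
      rw [hN2, pow_two] at this
      exact this
    apply simple_of_cover_ker ψ hψsurj (WW Q) hUp hψkU hU1 S hSU ha {RR Q} ?_
      {dg (hh h2 x y hxx h.yy) (hh h2 x y hxx h.yy)} ?_ ?_
    · intro R hR
      rw [Set.mem_singleton_iff] at hR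
      subst hR
      refine ⟨RR_le_WW hnI, WW_norm_RR h hxx, ?_⟩
      intro u hu hc
      apply RR_centric hnI u hu
      exact (hker' _).mp (hc sg (sg_mem_RR Q))
    · intro y0 hy0
      rw [Set.mem_singleton_iff] at hy0
      subst hy0
      refine ⟨?_, RR Q, rfl, y0_mem_closure h h2 hxx⟩
      apply Subgroup.mem_normalizer_fintype
      intro u hu
      exact y0_norm h h2 hxx u hu
    · intro g hg
      exact WW_norm_small h h2 hxx g
        (fun u hu => (Subgroup.mem_normalizer_iff.mp hg u).mp hu)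

end Cfsg.Agent.Lib.Helper2.Sp4
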