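import Cfsg.Agent.Lib.Helper2.SimpCrit2
import Cfsg.Agent.Lib.Helper2.SpFus7

set_option autoImplicit false

/-! The fusion system of `PSp_{2m}(K)` in the defining characteristic is simple. -/

namespace Cfsg.Agent.Lib.Helper2.SpFus

open Matrix Cfsg Cfsg.Agent.Lib.Helper2.UniTri Cfsg.Agent.Lib.Helper2.SimpCrit2
open scoped Pointwise

section Sub

variable {G : Type*} [Group G] [Finite G] {M : Type*} [Group M] [Finite M] {p : ℕ}
  [Fact p.Prime]

/-- `simple_of_cover` for a subgroup `K` of an ambient group `M` -/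
theorem simple_of_cover_sub (K : Subgroup M) (ψ : ↥K →* G) (hψ : Function.Surjective ψ)
    (hkc : ψ.ker ≤ Subgroup.center ↥K)
    (hkp : ∀ z ∈ ψ.ker, ∀ k : ℕ, z ^ p ^ k = 1 → z = 1)
    (U₀ : Subgroup M) (hU₀K : U₀ ≤ K) (hU₀p : IsPGroup p U₀) (hU₀1 : U₀ ≠ ⊥)
    (S : Sylow p G) (hSU : (S : Subgroup G) = (U₀.subgroupOf K).map ψ)
    (ha : ∀ T : Subgroup M, T ≤ U₀ → T ≠ ⊥ →
      (∀ t ∈ T, ∀ x ∈ K, x * t * x⁻¹ ∈ U₀ → x * t * x⁻¹ ∈ T) → T = U₀)
    (𝓡 : Set (Subgroup M))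
    (h𝓡 : ∀ R ∈ 𝓡, R ≤ U₀ ∧ (∀ u ∈ U₀, ∀ r ∈ R, u * r * u⁻¹ ∈ R) ∧
      ∀ u ∈ U₀, (∀ r ∈ R, u * r = r * u) → u ∈ R)
    (Y : Set M)
    (hY : ∀ y ∈ Y, y ∈ K ∧ (∀ u ∈ U₀, y * u * y⁻¹ ∈ U₀) ∧ ∃ R ∈ 𝓡,
      y ∈ Subgroup.closure {z : M | z ∈ K ∧ (∀ r ∈ R, z * r * z⁻¹ ∈ R) ∧
        ∃ k : ℕ, z ^ p ^ k = 1})
    (hN : ∀ g ∈ K, (∀ u ∈ U₀, g * u * g⁻¹ ∈ U₀) → (∀ u ∈ U₀, g⁻¹ * u * g ∈ U₀) →
      g ∈ Subgroup.closure (Y ∪ (U₀ : Set M))) :
    (groupFusionSystem (S : Subgroup G)).IsSimple p := by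
  have hnorm : ∀ (R : Subgroup M) (y : ↥K), (∀ r ∈ R, (y : M) * r * (y : M)⁻¹ ∈ R) →
      y ∈ Subgroup.normalizer ((R.subgroupOf K : Subgroup ↥K) : Set ↥K) := by
    intro R y hy
    apply Subgroup.mem_normalizer_fintype
    intro n hn
    have hn' : n ∈ R.subgroupOf K := hn
    show y * n * y⁻¹ ∈ R.subgroupOf K
    exact Subgroup.mem_subgroupOf.mpr (hy n.1 (Subgroup.mem_subgroupOf.mp hn'))
  apply simple_of_cover ψ hψ hkc hkp (U₀.subgroupOf K) hU₀p.comap_subtype ?_ S hSU ?_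
    ((fun R : Subgroup M => R.subgroupOf K) '' 𝓡) ?_ {y : ↥K | (y : M) ∈ Y} ?_ ?_
  · intro hb
    apply hU₀1
    rw [Subgroup.eq_bot_iff_forall]
    intro x hx
    have h2 : (⟨x, hU₀K hx⟩ : ↥K) ∈ U₀.subgroupOf K := Subgroup.mem_subgroupOf.mpr hx
    rw [hb, Subgroup.mem_bot] at h2
    exact congrArg Subtype.val h2
  · intro T hTU hT1 hcl
    have h3 := ha (T.map K.subtype) ?_ ?_ ?_
    · ext x
      rw [Subgroup.mem_subgroupOf, ← h3]
      constructor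
      · intro hx
        exact Subgroup.mem_map_of_mem K.subtype hx
      · rintro ⟨y, hy, hyx⟩
        have e : y = x := Subtype.ext hyx
        rw [← e]
        exact hy
    · rintro _ ⟨y, hy, rfl⟩
      exact Subgroup.mem_subgroupOf.mp (hTU hy)
    · intro hb
      apply hT1
      rw [Subgroup.eq_bot_iff_forall]
      intro y hy
      have h4 : K.subtype y ∈ T.map K.subtype := Subgroup.mem_map_of_mem _ hy
      rw [hb, Subgroup.mem_bot] at h4
      exact Subtype.ext h4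
    · rintro _ ⟨t, ht, rfl⟩ x hxK hx
      have h5 := hcl t ht ⟨x, hxK⟩ (Subgroup.mem_subgroupOf.mpr hx)
      exact ⟨_, h5, rfl⟩
  · rintro _ ⟨R, hR, rfl⟩
    obtain ⟨h1, h2, h3⟩ := h𝓡 R hR
    refine ⟨?_, ?_, ?_⟩
    · intro x hx
      have hx' : x ∈ R.subgroupOf K := hx
      exact Subgroup.mem_subgroupOf.mpr (h1 (Subgroup.mem_subgroupOf.mp hx'))
    · intro u hu r hr
      have hr' : r ∈ R.subgroupOf K := hr
      show u * r * u⁻¹ ∈ R.subgroupOf K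
      exact Subgroup.mem_subgroupOf.mpr
        (h2 u.1 (Subgroup.mem_subgroupOf.mp hu) r.1 (Subgroup.mem_subgroupOf.mp hr'))
    · intro u hu hc
      show u ∈ R.subgroupOf K
      apply Subgroup.mem_subgroupOf.mpr
      apply h3 u.1 (Subgroup.mem_subgroupOf.mp hu)
      intro r hr
      have hr' : (⟨r, hU₀K (h1 hr)⟩ : ↥K) ∈ R.subgroupOf K := Subgroup.mem_subgroupOf.mpr hr
      have h4 := hc ⟨r, hU₀K (h1 hr)⟩ hr'
      exact congrArg Subtype.val h4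
  · intro y hy
    obtain ⟨-, h2, R, hR, h3⟩ := hY y.1 hy
    refine ⟨hnorm U₀ y h2, R.subgroupOf K, ⟨R, hR, rfl⟩, ?_⟩
    have key : ∀ w ∈ Subgroup.closure {z : M | z ∈ K ∧ (∀ r ∈ R, z * r * z⁻¹ ∈ R) ∧
        ∃ k : ℕ, z ^ p ^ k = 1}, ∃ hw : w ∈ K, (⟨w, hw⟩ : ↥K) ∈ Subgroup.closure
          {z : ↥K | z ∈ Subgroup.normalizer ((R.subgroupOf K : Subgroup ↥K) : Set ↥K) ∧
            ∃ k : ℕ, z ^ p ^ k = 1} := by
      intro w hw
      induction hw using Subgroup.closure_induction with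
      | mem x hx =>
        obtain ⟨hxK, hxR, k, hk⟩ := hx
        refine ⟨hxK, Subgroup.subset_closure ⟨hnorm R ⟨x, hxK⟩ hxR, k, Subtype.ext ?_⟩⟩
        rw [Subgroup.coe_pow]
        exact hk
      | one => exact ⟨K.one_mem, Subgroup.one_mem _⟩
      | mul x y _ _ hx hy =>
        obtain ⟨hxK, hx'⟩ := hx
        obtain ⟨hyK, hy'⟩ := hy
        exact ⟨K.mul_mem hxK hyK, Subgroup.mul_mem _ hx' hy'⟩
      | inv x _ hx =>
        obtain ⟨hxK, hx'⟩ := hx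
        exact ⟨K.inv_mem hxK, Subgroup.inv_mem _ hx'⟩
    obtain ⟨hw, h4⟩ := key y.1 h3
    exact h4
  · intro g hg
    have h1 : ∀ x ∈ U₀, (g : M) * x * (g : M)⁻¹ ∈ U₀ := by
      intro x hx
      have h6 := (Subgroup.mem_normalizer_iff.mp hg ⟨x, hU₀K hx⟩).mp
        (Subgroup.mem_subgroupOf.mpr hx)
      exact Subgroup.mem_subgroupOf.mp h6
    have h2 : ∀ x ∈ U₀, (g : M)⁻¹ * x * (g : M) ∈ U₀ := by
      intro x hx
      have h6 := (Subgroup.mem_normalizer_iff.mp (Subgroup.inv_mem _ hg) ⟨x, hU₀K hx⟩).mp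
        (Subgroup.mem_subgroupOf.mpr hx)
      have h7 := Subgroup.mem_subgroupOf.mp h6
      simpa using h7
    have h3 := hN g.1 g.2 h1 h2
    have key : ∀ w ∈ Subgroup.closure (Y ∪ (U₀ : Set M)), ∃ hw : w ∈ K,
        (⟨w, hw⟩ : ↥K) ∈ Subgroup.closure ({y : ↥K | (y : M) ∈ Y} ∪
          ((U₀.subgroupOf K : Subgroup ↥K) : Set ↥K)) := by
      intro w hw
      induction hw using Subgroup.closure_induction with
      | mem x hx =>
        rcases hx with hx | hx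
        · have hxK := (hY x hx).1
          have hx' : (⟨x, hxK⟩ : ↥K) ∈ {y : ↥K | (y : M) ∈ Y} := hx
          exact ⟨hxK, Subgroup.subset_closure (Set.mem_union_left _ hx')⟩
        · have hxK := hU₀K hx
          have hx' : (⟨x, hxK⟩ : ↥K) ∈ ((U₀.subgroupOf K : Subgroup ↥K) : Set ↥K) :=
            Subgroup.mem_subgroupOf.mpr hx
          exact ⟨hxK, Subgroup.subset_closure (Set.mem_union_right _ hx')⟩
      | one => exact ⟨K.one_mem, Subgroup.one_mem _⟩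
      | mul x y _ _ hx hy =>
        obtain ⟨hxK, hx'⟩ := hx
        obtain ⟨hyK, hy'⟩ := hy
        exact ⟨K.mul_mem hxK hyK, Subgroup.mul_mem _ hx' hy'⟩
      | inv x _ hx =>
        obtain ⟨hxK, hx'⟩ := hx
        exact ⟨K.inv_mem hxK, Subgroup.inv_mem _ hx'⟩
    obtain ⟨hw, h4⟩ := key g.1 h3
    exact h4

end Sub

section Main

variable {K : Type*} [Field K] [Fintype K] {m : ℕ}

local notation "SLn" => Matrix.SpecialLinearGroup (Fin (2 * m)) K

theorem psp_simple (p : ℕ) [Fact p.Prime] [CharP K p] (hm : 2 ≤ m)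
    (hex : m = 2 → 3 ≤ Fintype.card K) (S : Sylow p (Cfsg.PSp m K)) :
    (groupFusionSystem (S : Subgroup (Cfsg.PSp m K))).IsSimple p := by
  haveI : NeZero (2 * m) := ⟨by omega⟩
  have hp : p.Prime := Fact.out
  obtain ⟨z, hzdef⟩ : ∃ z : Fin (2 * m), z = ⟨0, by omega⟩ := ⟨_, rfl⟩
  obtain ⟨o, hodef⟩ : ∃ o : Fin (2 * m), o = ⟨1, by omega⟩ := ⟨_, rfl⟩
  have hz : (z : ℕ) = 0 := by rw [hzdef]
  have ho : (o : ℕ) = 1 := by rw [hodef]
  have hz' : (z : ℕ) < m := by omega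
  have ho' : (o : ℕ) < m := by omega
  have hzo : z ≠ o := by
    intro h
    rw [h] at hz
    omega
  -- the covering map
  obtain ⟨π, hπdef⟩ : ∃ π : ↥(Spn : Subgroup SLn) →* Cfsg.PSp m K,
      π = (QuotientGroup.mk' (Subgroup.center (Matrix.symplecticGroup (Fin m) K))).comp phi :=
    ⟨_, rfl⟩
  have hπsurj : Function.Surjective π := by
    rw [hπdef]
    exact (QuotientGroup.mk'_surjective _).comp phi_surjective
  have hπker : ∀ x : ↥(Spn : Subgroup SLn), x ∈ π.ker →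
      ∀ g ∈ (Spn : Subgroup SLn), g * x.1 = x.1 * g := by
    intro x hx g hg
    rw [hπdef, MonoidHom.mem_ker, MonoidHom.comp_apply, QuotientGroup.mk'_apply,
      QuotientGroup.eq_one_iff] at hx
    have h1 := Subgroup.mem_center_iff.mp hx (phi ⟨g, hg⟩)
    rw [← map_mul, ← map_mul] at h1
    have h2 := phi_injective h1
    exact congrArg Subtype.val h2
  have hkc : π.ker ≤ Subgroup.center ↥(Spn : Subgroup SLn) := by
    intro x hx
    rw [Subgroup.mem_center_iff]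
    intro g
    apply Subtype.ext
    exact hπker x hx g.1 g.2
  have hkp : ∀ x ∈ π.ker, ∀ k : ℕ, x ^ p ^ k = 1 → x = 1 := by
    intro x hx k hk
    apply Subtype.ext
    show x.1 = 1
    apply central_p_trivial p (hπker x hx) k
    have h1 := congrArg Subtype.val hk
    rw [Subgroup.coe_pow] at h1
    exact h1
  have hUp : IsPGroup p ↥(UU : Subgroup SLn) := (UT_isPGroup p).to_le inf_le_left
  have hUK : (UU : Subgroup SLn) ≤ Spn := inf_le_right
  have hUp' : IsPGroup p ↥((UU : Subgroup SLn).subgroupOf Spn) := hUp.comap_subtype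
  -- the image of the unitriangular group is a Sylow subgroup
  obtain ⟨Q, hQ⟩ : ∃ Q : Sylow p (Cfsg.PSp m K),
      (Q : Subgroup (Cfsg.PSp m K)) = ((UU : Subgroup SLn).subgroupOf Spn).map π := by
    apply exists_sylow_eq _ (hUp'.map π)
    intro xb hxb hxp
    obtain ⟨x, rfl⟩ := hπsurj xb
    have hxN := lift_mem_normalizer π hkc hkp _ hUp' hxb
    have h2 : ∀ u ∈ (UU : Subgroup SLn), (x : SLn)⁻¹ * u * (x : SLn) ∈ (UU : Subgroup SLn) := by
      intro u hu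
      have h6 := (Subgroup.mem_normalizer_iff.mp (Subgroup.inv_mem _ hxN) ⟨u, hUK hu⟩).mp
        (Subgroup.mem_subgroupOf.mpr hu)
      have h7 := Subgroup.mem_subgroupOf.mp h6
      simpa using h7
    obtain ⟨d, hd, u, hu, hxdu⟩ := decomp_of_upper x.2 (upper_of_conj h2)
    obtain ⟨hdD, hdS⟩ := Subgroup.mem_inf.mp hd
    obtain ⟨d', hd'def⟩ : ∃ d' : ↥(Spn : Subgroup SLn), d' = ⟨d, hdS⟩ := ⟨_, rfl⟩
    obtain ⟨u', hu'def⟩ : ∃ u' : ↥(Spn : Subgroup SLn), u' = ⟨u, hUK hu⟩ := ⟨_, rfl⟩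
    have hx' : x = d' * u' := by
      apply Subtype.ext
      rw [hd'def, hu'def]
      exact hxdu
    have hu'U : u' ∈ (UU : Subgroup SLn).subgroupOf Spn := by
      rw [hu'def]
      exact Subgroup.mem_subgroupOf.mpr hu
    have hd'pow : d' ^ (Fintype.card K - 1) = 1 := by
      apply Subtype.ext
      rw [Subgroup.coe_pow, hd'def]
      exact DD_pow hdD
    obtain ⟨k, hk⟩ := hxp
    rw [hx'] at hk hxb ⊢
    have hPz : IsPGroup p (Subgroup.zpowers (π (d' * u'))) := by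
      rintro ⟨y, hy⟩
      obtain ⟨i, rfl⟩ := Subgroup.mem_zpowers_iff.mp hy
      refine ⟨k, Subtype.ext ?_⟩
      rw [Subgroup.coe_pow, Subgroup.coe_one]
      show (π (d' * u') ^ i) ^ p ^ k = 1
      rw [← zpow_natCast, ← _root_.zpow_mul, mul_comm i, _root_.zpow_mul, zpow_natCast, hk,
        _root_.one_zpow]
    have hPsup := IsPGroup.to_sup_of_normal_right' hPz (hUp'.map π)
      (Subgroup.zpowers_le.mpr hxb)
    have hdmem : π d' ∈ Subgroup.zpowers (π (d' * u')) ⊔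
        ((UU : Subgroup SLn).subgroupOf Spn).map π := by
      have h1 : π d' = π (d' * u') * (π u')⁻¹ := by rw [map_mul, mul_inv_cancel_right]
      rw [h1]
      exact Subgroup.mul_mem _ (Subgroup.mem_sup_left (Subgroup.mem_zpowers _))
        (Subgroup.inv_mem _ (Subgroup.mem_sup_right (Subgroup.mem_map_of_mem π hu'U)))
    obtain ⟨j, hj⟩ := hPsup ⟨π d', hdmem⟩
    have hj' : (π d') ^ p ^ j = 1 := by
      have h2 := congrArg Subtype.val hj
      simpa using h2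
    have hq' : (π d') ^ (Fintype.card K - 1) = 1 := by rw [← map_pow, hd'pow, map_one]
    have hd1 : π d' = 1 := eq_one_of_pow_eq_one (K := K) p hj' hq'
    rw [map_mul, hd1, one_mul]
    exact Subgroup.mem_map_of_mem π hu'U
  -- an arbitrary Sylow subgroup is a conjugate
  obtain ⟨g, hg⟩ := MulAction.exists_smul_eq (Cfsg.PSp m K) Q S
  obtain ⟨ψ, hψdef⟩ : ∃ ψ : ↥(Spn : Subgroup SLn) →* Cfsg.PSp m K,
      ψ = (MulAut.conj g).toMonoidHom.comp π := ⟨_, rfl⟩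
  have hψker : ψ.ker = π.ker := by
    ext x
    rw [MonoidHom.mem_ker, MonoidHom.mem_ker, hψdef, MonoidHom.comp_apply]
    exact (MulAut.conj g).map_eq_one_iff
  have hψsurj : Function.Surjective ψ := by
    rw [hψdef]
    exact (MulAut.conj g).surjective.comp hπsurj
  have hSU : (S : Subgroup (Cfsg.PSp m K)) = ((UU : Subgroup SLn).subgroupOf Spn).map ψ := by
    rw [← hg, Sylow.coe_subgroup_smul, hψdef, ← Subgroup.map_map, ← hQ]
    rfl
  have hkcψ : ψ.ker ≤ Subgroup.center ↥(Spn : Subgroup SLn) := by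
    rw [hψker]
    exact hkc
  have hkpψ : ∀ x ∈ ψ.ker, ∀ k : ℕ, x ^ p ^ k = 1 → x = 1 := by
    intro x hx k hk
    rw [hψker] at hx
    exact hkp x hx k hk
  have hU1 : (UU : Subgroup SLn) ≠ ⊥ := by
    intro h
    have h1 : (Zl z 1 : SLn) ∈ (UU : Subgroup SLn) := Zl_mem_UU hz' 1
    rw [h, Subgroup.mem_bot] at h1
    have h2 : (Zl z (1 : K) : SLn).1 z z.rev = (1 : SLn).1 z z.rev := by rw [h1]
    unfold Zl at h2
    rw [tv_apply, if_pos ⟨rfl, rfl⟩, Matrix.SpecialLinearGroup.coe_one,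
      Matrix.one_apply_ne (ne_rev z), zero_add] at h2
    exact one_ne_zero h2
  have h𝓡 : ∀ R ∈ ({Q1 z ⊓ Spn, Qm ⊓ Spn} : Set (Subgroup SLn)), R ≤ UU ∧
      (∀ u ∈ (UU : Subgroup SLn), ∀ r ∈ R, u * r * u⁻¹ ∈ R) ∧
      ∀ u ∈ (UU : Subgroup SLn), (∀ r ∈ R, u * r = r * u) → u ∈ R := by
    intro R hR
    rcases hR with rfl | hR
    · refine ⟨?_, ?_, ?_⟩
      · intro x hx
        exact mem_UU.mpr ⟨Q1_le_UT hz (Subgroup.mem_inf.mp hx).1, (Subgroup.mem_inf.mp hx).2⟩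
      · intro u hu r hr
        exact Subgroup.mem_inf.mpr ⟨Q1_conj_UT hz (mem_UU.mp hu).1 (Subgroup.mem_inf.mp hr).1,
          Subgroup.mul_mem _ (Subgroup.mul_mem _ (mem_UU.mp hu).2 (Subgroup.mem_inf.mp hr).2)
            (Subgroup.inv_mem _ (mem_UU.mp hu).2)⟩
      · intro u hu hc
        exact Subgroup.mem_inf.mpr ⟨Q1_selfCentralizing hz (by omega) (mem_UU.mp hu).1 hc,
          (mem_UU.mp hu).2⟩
    · rw [Set.mem_singleton_iff] at hR
      subst hR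
      refine ⟨?_, ?_, ?_⟩
      · intro x hx
        exact mem_UU.mpr ⟨Qm_le_UT (Subgroup.mem_inf.mp hx).1, (Subgroup.mem_inf.mp hx).2⟩
      · intro u hu r hr
        exact Subgroup.mem_inf.mpr ⟨Qm_conj_UT (mem_UU.mp hu).1 (Subgroup.mem_inf.mp hr).1,
          Subgroup.mul_mem _ (Subgroup.mul_mem _ (mem_UU.mp hu).2 (Subgroup.mem_inf.mp hr).2)
            (Subgroup.inv_mem _ (mem_UU.mp hu).2)⟩
      · intro u hu hc
        exact Subgroup.mem_inf.mpr ⟨Qm_selfCentralizing (mem_UU.mp hu).1 hc, (mem_UU.mp hu).2⟩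
  obtain ⟨Y, hYdef⟩ : ∃ Y : Set SLn, Y = {y | (∃ i : Fin (2 * m), (i : ℕ) < m ∧ i ≠ z ∧
      ∃ s : K, s ≠ 0 ∧ y = hl i s) ∨ ∃ s : K, s ≠ 0 ∧ y = hY z o hzo s} := ⟨_, rfl⟩
  have hDnorm : ∀ d ∈ (DD ⊓ Spn : Subgroup SLn), ∀ u ∈ (UU : Subgroup SLn),
      d * u * d⁻¹ ∈ (UU : Subgroup SLn) := by
    intro d hd u hu
    obtain ⟨hdD, hdS⟩ := Subgroup.mem_inf.mp hd
    exact mem_UU.mpr ⟨(Subgroup.mem_normalizer_iff.mp (DD_le_normalizer hdD) u).mp
      (mem_UU.mp hu).1, Subgroup.mul_mem _ (Subgroup.mul_mem _ hdS (mem_UU.mp hu).2)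
        (Subgroup.inv_mem _ hdS)⟩
  have hYp : ∀ y ∈ Y, y ∈ (Spn : Subgroup SLn) ∧
      (∀ u ∈ (UU : Subgroup SLn), y * u * y⁻¹ ∈ (UU : Subgroup SLn)) ∧
      ∃ R ∈ ({Q1 z ⊓ Spn, Qm ⊓ Spn} : Set (Subgroup SLn)),
        y ∈ Subgroup.closure {w : SLn | w ∈ (Spn : Subgroup SLn) ∧
          (∀ r ∈ R, w * r * w⁻¹ ∈ R) ∧ ∃ k : ℕ, w ^ p ^ k = 1} := by
    intro y hy
    rw [hYdef] at hy
    rcases hy with ⟨i, hi, hiz, s, hs, rfl⟩ | ⟨s, hs, rfl⟩
    · refine ⟨hl_mem_Spn i s, hDnorm _ (Subgroup.mem_inf.mpr ⟨hl_mem_DD i s hs,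
        hl_mem_Spn i s⟩), Q1 z ⊓ Spn, Set.mem_insert _ _, ?_⟩
      have h1 : ∀ c : K, tv i i.rev (ne_rev i) c ∈ Subgroup.closure
          {w : SLn | w ∈ (Spn : Subgroup SLn) ∧
            (∀ r ∈ (Q1 z ⊓ Spn : Subgroup SLn), w * r * w⁻¹ ∈ (Q1 z ⊓ Spn : Subgroup SLn)) ∧
            ∃ k : ℕ, w ^ p ^ k = 1} := by
        intro c
        apply Subgroup.subset_closure
        refine ⟨Zl_mem_Spn i c, ?_, 1, by rw [pow_one]; exact tv_pow_char p i i.rev _ c⟩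
        intro r hr
        exact Subgroup.mem_inf.mpr ⟨Q1_conj_tv (ne_rev i) (ne_rev_of_lt hi hz')
          (ne_rev_of_lt hz' hi).symm c (Subgroup.mem_inf.mp hr).1,
          Subgroup.mul_mem _ (Subgroup.mul_mem _ (Zl_mem_Spn i c) (Subgroup.mem_inf.mp hr).2)
            (Subgroup.inv_mem _ (Zl_mem_Spn i c))⟩
      have h2 : ∀ c : K, tv i.rev i (ne_rev i).symm c ∈ Subgroup.closure
          {w : SLn | w ∈ (Spn : Subgroup SLn) ∧
            (∀ r ∈ (Q1 z ⊓ Spn : Subgroup SLn), w * r * w⁻¹ ∈ (Q1 z ⊓ Spn : Subgroup SLn)) ∧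
            ∃ k : ℕ, w ^ p ^ k = 1} := by
        intro c
        apply Subgroup.subset_closure
        refine ⟨Zn_mem_Spn i c, ?_, 1, by rw [pow_one]; exact tv_pow_char p i.rev i _ c⟩
        intro r hr
        exact Subgroup.mem_inf.mpr ⟨Q1_conj_tv (ne_rev i).symm (rev_ne_rev hiz) hiz c
          (Subgroup.mem_inf.mp hr).1,
          Subgroup.mul_mem _ (Subgroup.mul_mem _ (Zn_mem_Spn i c) (Subgroup.mem_inf.mp hr).2)
            (Subgroup.inv_mem _ (Zn_mem_Spn i c))⟩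
      unfold hl hh
      exact Subgroup.mul_mem _ (Subgroup.mul_mem _ (Subgroup.mul_mem _ (h1 _) (h2 _)) (h1 _))
        (h2 _)
    · refine ⟨hY_mem_Spn hzo hz' ho' s, hDnorm _ (Subgroup.mem_inf.mpr
        ⟨hY_mem_DD hzo hz' ho' s hs, hY_mem_Spn hzo hz' ho' s⟩), Qm ⊓ Spn,
        Set.mem_insert_of_mem _ (Set.mem_singleton _), ?_⟩
      have h1 : ∀ (a b : Fin (2 * m)) (hab : a ≠ b), (a : ℕ) < m → (b : ℕ) < m → ∀ c : K,
          Ym a b hab c ∈ Subgroup.closure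
          {w : SLn | w ∈ (Spn : Subgroup SLn) ∧
            (∀ r ∈ (Qm ⊓ Spn : Subgroup SLn), w * r * w⁻¹ ∈ (Qm ⊓ Spn : Subgroup SLn)) ∧
            ∃ k : ℕ, w ^ p ^ k = 1} := by
        intro a b hab ha hb c
        apply Subgroup.subset_closure
        refine ⟨Ym_mem_Spn hab ha hb c, ?_, 1, by rw [pow_one]; exact Ym_pow_char p a b hab c⟩
        intro r hr
        exact Subgroup.mem_inf.mpr ⟨Qm_conj_Ym hab ha c (Subgroup.mem_inf.mp hr).1,
          Subgroup.mul_mem _ (Subgroup.mul_mem _ (Ym_mem_Spn hab ha hb c)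
            (Subgroup.mem_inf.mp hr).2) (Subgroup.inv_mem _ (Ym_mem_Spn hab ha hb c))⟩
      unfold hY
      exact Subgroup.mul_mem _ (Subgroup.mul_mem _ (Subgroup.mul_mem _ (h1 z o hzo hz' ho' _)
        (h1 o z hzo.symm ho' hz' _)) (h1 z o hzo hz' ho' _)) (h1 o z hzo.symm ho' hz' _)
  have hgen : ∀ i : Fin (2 * m), (i : ℕ) < m → ∀ s : K, s ≠ 0 →
      hl i s ∈ Subgroup.closure (Y ∪ ((UU : Subgroup SLn) : Set SLn)) := by
    intro i hi s hs
    have hmemY : ∀ j : Fin (2 * m), (j : ℕ) < m → j ≠ z →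
        hl j s ∈ Subgroup.closure (Y ∪ ((UU : Subgroup SLn) : Set SLn)) := by
      intro j hj hjz
      apply Subgroup.subset_closure
      apply Set.mem_union_left
      rw [hYdef]
      exact Or.inl ⟨j, hj, hjz, s, hs, rfl⟩
    by_cases hiz : i = z
    · rw [hiz, hl_eq hzo hz' ho' s hs]
      apply Subgroup.mul_mem
      · apply Subgroup.subset_closure
        apply Set.mem_union_left
        rw [hYdef]
        exact Or.inr ⟨s, hs, rfl⟩
      · exact hmemY o ho' hzo.symm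
    · exact hmemY i hi hiz
  have hNp : ∀ g ∈ (Spn : Subgroup SLn),
      (∀ u ∈ (UU : Subgroup SLn), g * u * g⁻¹ ∈ (UU : Subgroup SLn)) →
      (∀ u ∈ (UU : Subgroup SLn), g⁻¹ * u * g ∈ (UU : Subgroup SLn)) →
      g ∈ Subgroup.closure (Y ∪ ((UU : Subgroup SLn) : Set SLn)) := by
    intro g hgS _ h2
    obtain ⟨d, hd, u, hu, hgdu⟩ := decomp_of_upper hgS (upper_of_conj h2)
    rw [hgdu]
    apply Subgroup.mul_mem
    · have h3 := HH_le_closure hd
      refine (Subgroup.closure_le _).mpr ?_ h3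
      rintro y ⟨i, hi, s, hs, rfl⟩
      exact hgen i hi s hs
    · exact Subgroup.subset_closure (Set.mem_union_right _ hu)
  exact simple_of_cover_sub Spn ψ hψsurj hkcψ hkpψ UU hUK hUp hU1 S hSU
    (fun T h1 h2 h3 => UU_closed_eq p hm hex T h1 h2 h3)
    {Q1 z ⊓ Spn, Qm ⊓ Spn} h𝓡 Y hYp hNp

end Main

end Cfsg.Agent.Lib.Helper2.SpFus
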