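import Mathlib
import Cfsg.Agent.Lib.Helper3.SpMinDefs
import Cfsg.Agent.Lib.Helper5.SympBridge
set_option autoImplicit false
set_option maxHeartbeats 4000000
set_option linter.unusedVariables false
set_option linter.unusedSectionVars false
set_option linter.style.longLine false
set_option linter.style.haveILetI false
open Matrix Cfsg

/-! # S2142 farm, unit A3: character sums over `F₂^{2m}` -/

namespace Cfsg.Agent.Lib.Helper2.SpMin

open Cfsg.Agent.Lib.Helper5 Cfsg.Agent.Lib.Helper5.SympTv Cfsg.Agent.Lib.Helper3.SpMin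

variable {F : Type*} [Field F] [Fintype F]

theorem chi_zero : chi (0 : F) = 1 := by
  unfold chi
  rw [if_pos rfl]

theorem chi_one : chi (1 : F) = -1 := by
  unfold chi
  rw [if_neg one_ne_zero]

theorem chi_add (hF : Fintype.card F = 2) (a b : F) : chi (a + b) = chi a * chi b := by
  rcases eq_zero_or_one hF a with rfl | rfl <;> rcases eq_zero_or_one hF b with rfl | rfl
  · rw [add_zero, chi_zero, one_mul]
  · rw [zero_add, chi_zero, one_mul]
  · rw [add_zero, chi_zero, mul_one]
  · rw [add_self_eq_zero' hF, chi_zero, chi_one]; norm_num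

theorem chi_mul_self (hF : Fintype.card F = 2) (a : F) : chi a * chi a = 1 := by
  rw [← chi_add hF, add_self_eq_zero' hF, chi_zero]

theorem qf_zero (hF : Fintype.card F = 2) {m : ℕ} (φ : QF m F) : φ.1 0 = 0 := by
  have h := φ.2 0 0
  rw [add_zero, sympForm_self, add_zero] at h
  have h2 : φ.1 0 + φ.1 0 = φ.1 0 + 0 := by rw [← h, add_zero]
  exact add_left_cancel h2

theorem sympForm_comm (hF : Fintype.card F = 2) (m : ℕ) (u v : Fin m ⊕ Fin m → F) :
    sympForm m F u v = sympForm m F v u := by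
  rw [sympForm_swap, neg_eq' hF]

theorem sympForm_zero_left (m : ℕ) (v : Fin m ⊕ Fin m → F) : sympForm m F 0 v = 0 := by
  unfold sympForm
  rw [zero_dotProduct]

theorem sympForm_zero_right (m : ℕ) (v : Fin m ⊕ Fin m → F) : sympForm m F v 0 = 0 := by
  unfold sympForm
  rw [mulVec_zero, dotProduct_zero]

theorem card_vec (hF : Fintype.card F = 2) (m : ℕ) :
    Fintype.card (Fin m ⊕ Fin m → F) = 4 ^ m := by
  rw [Fintype.card_fun, hF, Fintype.card_sum, Fintype.card_fin, ← two_mul, pow_mul]
  norm_num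

open Classical in
/-- orthogonality: `Σ_w χ(B(u,w))` is `4^m` for `u = 0` and `0` otherwise -/
theorem sum_chi_form (hF : Fintype.card F = 2) (m : ℕ) (u : Fin m ⊕ Fin m → F) :
    ∑ w : Fin m ⊕ Fin m → F, chi (sympForm m F u w) = if u = 0 then 4 ^ m else 0 := by
  classical
  by_cases hu : u = 0
  · rw [if_pos hu, hu]
    simp only [sympForm_zero_left, chi_zero, Finset.sum_const, Finset.card_univ, card_vec hF,
      nsmul_eq_mul, mul_one]
    norm_cast
  · rw [if_neg hu]
    obtain ⟨v, hv⟩ : ∃ v, sympForm m F u v ≠ 0 := by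
      by_contra hcon
      push Not at hcon
      exact hu (SympBridge.eq_zero_of_sympForm_right m u hcon)
    have hv1 : sympForm m F u v = 1 := by
      rcases eq_zero_or_one hF (sympForm m F u v) with h | h
      · exact absurd h hv
      · exact h
    have hre : ∑ w : Fin m ⊕ Fin m → F, chi (sympForm m F u w)
        = ∑ w : Fin m ⊕ Fin m → F, chi (sympForm m F u (w + v)) :=
      (Fintype.sum_equiv (Equiv.addRight v) _ _ (fun w => rfl)).symm
    have h2 : ∑ w : Fin m ⊕ Fin m → F, chi (sympForm m F u (w + v))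
        = - ∑ w : Fin m ⊕ Fin m → F, chi (sympForm m F u w) := by
      rw [← Finset.sum_neg_distrib]
      apply Finset.sum_congr rfl
      intro w _
      rw [sympForm_add_right, chi_add hF, hv1, chi_one]
      ring
    rw [h2] at hre
    linarith

open Classical in
theorem sum_chi_form' (hF : Fintype.card F = 2) (m : ℕ) (u : Fin m ⊕ Fin m → F) :
    ∑ w : Fin m ⊕ Fin m → F, chi (sympForm m F w u) = if u = 0 then 4 ^ m else 0 := by
  rw [← sum_chi_form hF m u]
  apply Finset.sum_congr rfl
  intro w _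
  rw [sympForm_comm hF]

/-- A3a -/
theorem sgn_shift (hF : Fintype.card F = 2) {m : ℕ} (φ : QF m F) (a : Fin m ⊕ Fin m → F) :
    sgn (shift φ a) = chi (φ.1 a) * sgn φ := by
  unfold sgn
  rw [Finset.mul_sum]
  rw [← Fintype.sum_equiv (Equiv.addRight a) (fun x => chi (φ.1 a) * chi (φ.1 (x + a)))
    (fun x => chi (φ.1 a) * chi (φ.1 x)) (fun x => rfl)]
  apply Finset.sum_congr rfl
  intro x _
  rw [shift_apply, φ.2, ← chi_add hF]
  congr 1
  rw [sympForm_comm hF m a x]
  have := add_self_eq_zero' hF (φ.1 a)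
  linear_combination -this

/-- A3c -/
theorem sum_sgn_shift (hF : Fintype.card F = 2) {m : ℕ} (φ : QF m F) :
    ∑ a : Fin m ⊕ Fin m → F, sgn (shift φ a) = 4 ^ m := by
  classical
  unfold sgn
  rw [Finset.sum_comm]
  have h : ∀ x : Fin m ⊕ Fin m → F, ∑ a : Fin m ⊕ Fin m → F, chi ((shift φ a).1 x)
      = chi (φ.1 x) * (if x = 0 then 4 ^ m else 0) := by
    intro x
    rw [← sum_chi_form' hF m x, Finset.mul_sum]
    apply Finset.sum_congr rfl
    intro a _
    rw [shift_apply, chi_add hF]
  rw [Finset.sum_congr rfl (fun x _ => h x)]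
  simp only [mul_ite, mul_zero, Finset.sum_ite_eq', Finset.mem_univ, if_true]
  rw [qf_zero hF, chi_zero, one_mul]

/-- A3b -/
theorem sgn_mul_self (hF : Fintype.card F = 2) {m : ℕ} (φ : QF m F) : sgn φ * sgn φ = 4 ^ m := by
  rw [← sum_sgn_shift hF φ]
  rw [Finset.sum_congr rfl (fun a _ => sgn_shift hF φ a), ← Finset.sum_mul]
  rfl

end Cfsg.Agent.Lib.Helper2.SpMin
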