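import Mathlib
import Cfsg.Agent.Lib.Helper3.SpMinDefs
import Cfsg.Agent.Lib.Helper2.SpMinA3
import Cfsg.Agent.Lib.Helper8.SpMinA1
set_option autoImplicit false
set_option maxHeartbeats 4000000
set_option linter.unusedVariables false
set_option linter.unusedSectionVars false
set_option linter.style.longLine false
set_option linter.style.haveILetI false
open Matrix Cfsg

/-! # S2142 farm, unit A4: the number of quadratic forms of each sign -/

namespace Cfsg.Agent.Lib.Helper2.SpMin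

open Cfsg.Agent.Lib.Helper5 Cfsg.Agent.Lib.Helper5.SympTv Cfsg.Agent.Lib.Helper3.SpMin

variable {F : Type*} [Field F] [Fintype F]

/-- A4a -/
theorem sgn_eq (hF : Fintype.card F = 2) {m : ℕ} (φ : QF m F) :
    sgn φ = 2 ^ m ∨ sgn φ = -2 ^ m := by
  have h := sgn_mul_self hF φ
  have h4 : (4 : ℤ) ^ m = 2 ^ m * 2 ^ m := by
    rw [← mul_pow]; norm_num
  have h2 : (sgn φ - 2 ^ m) * (sgn φ + 2 ^ m) = 0 := by
    linear_combination h + h4
  rcases mul_eq_zero.1 h2 with h3 | h3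
  · left; linarith
  · right; linarith

theorem card_arith (m : ℕ) (hm : 1 ≤ m) (p q : ℕ) (hsum : (p : ℤ) + q = 2 ^ m * 2 ^ m)
    (hdiff : (p : ℤ) - q = 2 ^ m) :
    q = 2 ^ (m - 1) * (2 ^ m - 1) ∧ p = 2 ^ (m - 1) * (2 ^ m + 1) := by
  obtain ⟨k, rfl⟩ : ∃ k, m = k + 1 := ⟨m - 1, by omega⟩
  rw [Nat.add_sub_cancel]
  have e : (2 : ℤ) ^ (k + 1) = 2 * 2 ^ k := by rw [pow_succ]; ring
  have hq : (q : ℤ) = 2 ^ k * (2 ^ (k + 1) - 1) := by
    have : (2 : ℤ) * (q : ℤ) = 2 * (2 ^ k * (2 ^ (k + 1) - 1)) := by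
      linear_combination hsum - hdiff - (2 ^ (k + 1) - 1 : ℤ) * e
    linarith
  have hp : (p : ℤ) = 2 ^ k * (2 ^ (k + 1) + 1) := by
    linear_combination hdiff + hq
  have h1 : (1 : ℕ) ≤ 2 ^ (k + 1) := Nat.one_le_two_pow
  constructor
  · have : ((q : ℕ) : ℤ) = ((2 ^ k * (2 ^ (k + 1) - 1) : ℕ) : ℤ) := by
      rw [hq]
      push_cast [h1]
      ring
    exact_mod_cast this
  · have : ((p : ℕ) : ℤ) = ((2 ^ k * (2 ^ (k + 1) + 1) : ℕ) : ℤ) := by
      rw [hp]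
      push_cast
      ring
    exact_mod_cast this

/-- the counting core of A4, from a base form `φ₀` for which `shift φ₀` is bijective -/
theorem card_QFs_aux (hF : Fintype.card F = 2) (m : ℕ) (hm : 1 ≤ m) (φ₀ : QF m F)
    (hsurj : ∀ ψ : QF m F, ∃ a, ψ = shift φ₀ a) (hinj : Function.Injective (shift φ₀)) :
    Nat.card (QFs m F (-2 ^ m)) = n0 m ∧ Nat.card (QFs m F (2 ^ m)) = 2 ^ (m - 1) * (2 ^ m + 1) := by
  classical
  have h2pos : (0 : ℤ) < 2 ^ m := by positivity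
  -- the two classes, as finsets of vectors
  have hMeq : Finset.univ.filter (fun a : Fin m ⊕ Fin m → F => sgn (shift φ₀ a) = -2 ^ m)
      = Finset.univ.filter (fun a => ¬ sgn (shift φ₀ a) = 2 ^ m) := by
    apply Finset.filter_congr
    intro a _
    constructor
    · intro h h'
      rw [h] at h'
      linarith
    · intro h
      rcases sgn_eq hF (shift φ₀ a) with h' | h'
      · exact absurd h' h
      · exact h'
  obtain ⟨P, hP⟩ : ∃ P, P = Finset.univ.filter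
      (fun a : Fin m ⊕ Fin m → F => sgn (shift φ₀ a) = 2 ^ m) := ⟨_, rfl⟩
  obtain ⟨M, hM⟩ : ∃ M, M = Finset.univ.filter
      (fun a : Fin m ⊕ Fin m → F => sgn (shift φ₀ a) = -2 ^ m) := ⟨_, rfl⟩
  have hsumcard : P.card + M.card = 4 ^ m := by
    rw [hM, hMeq, hP, Finset.card_filter_add_card_filter_not, Finset.card_univ, card_vec hF]
  have hsum : ∑ a : Fin m ⊕ Fin m → F, sgn (shift φ₀ a)
      = 2 ^ m * (P.card : ℤ) - 2 ^ m * (M.card : ℤ) := by
    rw [← Finset.sum_filter_add_sum_filter_not Finset.univ (fun a => sgn (shift φ₀ a) = 2 ^ m)]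
    rw [← hP, ← hMeq, ← hM]
    have e1 : ∑ a ∈ P, sgn (shift φ₀ a) = 2 ^ m * (P.card : ℤ) := by
      have : ∀ a ∈ P, sgn (shift φ₀ a) = 2 ^ m := by
        intro a ha
        rw [hP] at ha
        exact (Finset.mem_filter.1 ha).2
      rw [Finset.sum_congr rfl this, Finset.sum_const, nsmul_eq_mul]
      ring
    have e2 : ∑ a ∈ M, sgn (shift φ₀ a) = -(2 ^ m * (M.card : ℤ)) := by
      have : ∀ a ∈ M, sgn (shift φ₀ a) = -2 ^ m := by
        intro a ha
        rw [hM] at ha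
        exact (Finset.mem_filter.1 ha).2
      rw [Finset.sum_congr rfl this, Finset.sum_const, nsmul_eq_mul]
      ring
    rw [e1, e2]
    ring
  rw [sum_sgn_shift hF φ₀] at hsum
  have h4 : (4 : ℤ) ^ m = 2 ^ m * 2 ^ m := by
    rw [← mul_pow]; norm_num
  have hdiff : (P.card : ℤ) - (M.card : ℤ) = 2 ^ m := by
    have : (2 : ℤ) ^ m * ((P.card : ℤ) - (M.card : ℤ)) = 2 ^ m * 2 ^ m := by
      rw [← h4, hsum]; ring
    exact mul_left_cancel₀ h2pos.ne' this
  have hsumZ : (P.card : ℤ) + (M.card : ℤ) = 2 ^ m * 2 ^ m := by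
    rw [← h4]
    exact_mod_cast hsumcard
  obtain ⟨hMc, hPc⟩ := card_arith m hm P.card M.card hsumZ hdiff
  -- transfer to the types of forms
  have hcard : ∀ ε : ℤ, Nat.card (QFs m F ε)
      = (Finset.univ.filter (fun a : Fin m ⊕ Fin m → F => sgn (shift φ₀ a) = ε)).card := by
    intro ε
    rw [← Fintype.card_subtype, ← Nat.card_eq_fintype_card]
    apply Nat.card_congr
    symm
    refine Equiv.ofBijective
      (fun a : {a : Fin m ⊕ Fin m → F // sgn (shift φ₀ a) = ε} => (⟨shift φ₀ a.1, a.2⟩ : QFs m F ε))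
      ⟨?_, ?_⟩
    · intro a b hab
      apply Subtype.ext
      apply hinj
      exact congrArg Subtype.val hab
    · rintro ⟨ψ, hψ⟩
      obtain ⟨a, rfl⟩ := hsurj ψ
      exact ⟨⟨a, hψ⟩, rfl⟩
  constructor
  · rw [hcard, ← hM, hMc]
    rfl
  · rw [hcard, ← hP, hPc]

/-- A4b -/
theorem card_QFs_minus (hF : Fintype.card F = 2) (m : ℕ) (hm : 1 ≤ m) :
    Nat.card (QFs m F (-2 ^ m)) = n0 m := by
  obtain ⟨φ₀⟩ := Cfsg.Agent.Lib.Helper8.SpMin.qf_nonempty (F := F) hF m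
  exact (card_QFs_aux hF m hm φ₀ (fun ψ => Cfsg.Agent.Lib.Helper8.SpMin.exists_shift hF φ₀ ψ)
    (Cfsg.Agent.Lib.Helper8.SpMin.shift_injective φ₀)).1

/-- A4c -/
theorem card_QFs_plus (hF : Fintype.card F = 2) (m : ℕ) (hm : 1 ≤ m) :
    Nat.card (QFs m F (2 ^ m)) = 2 ^ (m - 1) * (2 ^ m + 1) := by
  obtain ⟨φ₀⟩ := Cfsg.Agent.Lib.Helper8.SpMin.qf_nonempty (F := F) hF m
  exact (card_QFs_aux hF m hm φ₀ (fun ψ => Cfsg.Agent.Lib.Helper8.SpMin.exists_shift hF φ₀ ψ)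
    (Cfsg.Agent.Lib.Helper8.SpMin.shift_injective φ₀)).2

end Cfsg.Agent.Lib.Helper2.SpMin
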