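import Mathlib
import Cfsg.Agent.Lib.Helper3.SpMinDefs
import Cfsg.Agent.Lib.Helper2.SpMinA3
import Cfsg.Agent.Lib.Helper8.SpMinA1
set_option autoImplicit false
set_option maxHeartbeats 4000000
set_option linter.unusedVariables false
set_option linter.unusedSectionVars false
set_option linter.style.longLine false
set_option linter.style.haveILetI false
open Matrix Cfsg

/-! # S2142 farm, unit A7: a symplectic matrix fixes as many quadratic forms as vectors -/

namespace Cfsg.Agent.Lib.Helper2.SpMin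

open Cfsg.Agent.Lib.Helper5 Cfsg.Agent.Lib.Helper5.SympTv Cfsg.Agent.Lib.Helper3.SpMin

variable {F : Type*} [Field F] [Fintype F]

theorem a7_smul_shift {m : ℕ} (g : symplecticGroup (Fin m) F) (φ : QF m F)
    (a : Fin m ⊕ Fin m → F) : g • shift φ a = shift (g • φ) (g.1 *ᵥ a) := by
  apply QF.ext
  intro x
  rw [Cfsg.Agent.Lib.Helper3.SpMin.smul_apply, shift_apply, shift_apply,
    Cfsg.Agent.Lib.Helper3.SpMin.smul_apply]
  congr 1
  have h := sympForm_mulVec m g.2 a ((g⁻¹).1 *ᵥ x)
  rw [mulVec_inv_mulVec] at h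
  exact h.symm

theorem a7_shift_shift {m : ℕ} (φ : QF m F) (a b : Fin m ⊕ Fin m → F) :
    shift (shift φ a) b = shift φ (a + b) := by
  apply QF.ext
  intro x
  rw [shift_apply, shift_apply, shift_apply, sympForm_add_left, add_assoc]

theorem a7_form_inv {m : ℕ} (g : symplecticGroup (Fin m) F) (w a : Fin m ⊕ Fin m → F) :
    sympForm m F w (g.1 *ᵥ a) = sympForm m F ((g⁻¹).1 *ᵥ w) a := by
  have h := sympForm_mulVec m (g⁻¹).2 w (g.1 *ᵥ a)
  rw [inv_mulVec_mulVec] at h
  exact h.symm

theorem a7_fix_iff (hF : Fintype.card F = 2) {m : ℕ} (g : symplecticGroup (Fin m) F)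
    (w : Fin m ⊕ Fin m → F) : (g⁻¹).1 *ᵥ w + w = 0 ↔ g.1 *ᵥ w = w := by
  have hneg : ∀ x : Fin m ⊕ Fin m → F, -x = x := by
    intro x
    funext i
    exact neg_eq' hF (x i)
  constructor
  · intro h
    have h1 : (g⁻¹).1 *ᵥ w = w := by
      rw [add_eq_zero_iff_eq_neg, hneg] at h
      exact h
    have := congrArg (fun y => g.1 *ᵥ y) h1
    rw [mulVec_inv_mulVec] at this
    exact this.symm
  · intro h
    have h1 : (g⁻¹).1 *ᵥ w = w := by
      have := congrArg (fun y => (g⁻¹).1 *ᵥ y) h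
      rw [inv_mulVec_mulVec] at this
      exact this.symm
    rw [h1, add_eq_zero_iff_eq_neg, hneg]

/-- A7 : every symplectic matrix fixes as many forms as vectors -/
theorem card_fixed (hF : Fintype.card F = 2) (m : ℕ) (g : symplecticGroup (Fin m) F) :
    Nat.card {φ : QF m F // g • φ = φ} = Nat.card {v : Fin m ⊕ Fin m → F // g.1 *ᵥ v = v} := by
  classical
  obtain ⟨φ₀⟩ := Cfsg.Agent.Lib.Helper8.SpMin.qf_nonempty (F := F) hF m
  obtain ⟨d, hd⟩ := Cfsg.Agent.Lib.Helper8.SpMin.exists_shift hF φ₀ (g • φ₀)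
  have hinj := Cfsg.Agent.Lib.Helper8.SpMin.shift_injective φ₀
  have hact : ∀ a, g • shift φ₀ a = shift φ₀ (d + g.1 *ᵥ a) := by
    intro a
    rw [a7_smul_shift, hd, a7_shift_shift]
  -- forms fixed by `g` correspond to solutions of `d + g a = a`
  have h1 : Nat.card {φ : QF m F // g • φ = φ}
      = Nat.card {a : Fin m ⊕ Fin m → F // g.1 *ᵥ a + a + d = 0} := by
    symm
    apply Nat.card_congr
    refine Equiv.ofBijective
      (fun a : {a : Fin m ⊕ Fin m → F // g.1 *ᵥ a + a + d = 0} =>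
        (⟨shift φ₀ a.1, ?_⟩ : {φ : QF m F // g • φ = φ})) ⟨?_, ?_⟩
    · rw [hact]
      congr 1
      have h := a.2
      have h2 : ∀ x : Fin m ⊕ Fin m → F, x + x = 0 := by
        intro x
        funext i
        exact add_self_eq_zero' hF (x i)
      calc d + g.1 *ᵥ a.1 = (g.1 *ᵥ a.1 + a.1 + d) + a.1 - (a.1 + a.1) + (a.1 + a.1) - (a.1 + a.1) := by
            abel
        _ = a.1 := by rw [h, h2]; abel
    · intro a b hab
      apply Subtype.ext
      apply hinj
      exact congrArg Subtype.val hab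
    · rintro ⟨ψ, hψ⟩
      obtain ⟨a, rfl⟩ := Cfsg.Agent.Lib.Helper8.SpMin.exists_shift hF φ₀ ψ
      rw [hact] at hψ
      have h3 := hinj hψ
      refine ⟨⟨a, ?_⟩, rfl⟩
      have h2 : ∀ x : Fin m ⊕ Fin m → F, x + x = 0 := by
        intro x
        funext i
        exact add_self_eq_zero' hF (x i)
      calc g.1 *ᵥ a + a + d = (d + g.1 *ᵥ a) + a := by abel
        _ = a + a := by rw [h3]
        _ = 0 := h2 a
  rw [h1]
  -- `B(w,d) = 0` for fixed `w`
  have hBd : ∀ w, g.1 *ᵥ w = w → sympForm m F w d = 0 := by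
    intro w hw
    have h3 : (g • φ₀).1 w = (shift φ₀ d).1 w := by rw [hd]
    rw [Cfsg.Agent.Lib.Helper3.SpMin.smul_apply, shift_apply] at h3
    have hw' : (g⁻¹).1 *ᵥ w = w := by
      have := congrArg (fun y => (g⁻¹).1 *ᵥ y) hw
      rw [inv_mulVec_mulVec] at this
      exact this.symm
    rw [hw'] at h3
    rw [sympForm_comm hF]
    linear_combination -h3
  rw [Nat.card_eq_fintype_card, Nat.card_eq_fintype_card, Fintype.card_subtype,
    Fintype.card_subtype]
  have h4pos : (0 : ℤ) < 4 ^ m := by positivity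
  have hcardsum : ∀ P : (Fin m ⊕ Fin m → F) → Prop, ∀ [DecidablePred P],
      (4 : ℤ) ^ m * ((Finset.univ.filter P).card : ℤ)
        = ∑ a : Fin m ⊕ Fin m → F, (if P a then (4 : ℤ) ^ m else 0) := by
    intro P _
    rw [Finset.card_filter]
    push_cast
    rw [Finset.mul_sum]
    apply Finset.sum_congr rfl
    intro a _
    split_ifs <;> simp
  have key : (4 : ℤ) ^ m
      * ((Finset.univ.filter (fun a : Fin m ⊕ Fin m → F => g.1 *ᵥ a + a + d = 0)).card : ℤ)
      = (4 : ℤ) ^ m
        * ((Finset.univ.filter (fun v : Fin m ⊕ Fin m → F => g.1 *ᵥ v = v)).card : ℤ) := by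
    rw [hcardsum, hcardsum]
    calc ∑ a : Fin m ⊕ Fin m → F, (if g.1 *ᵥ a + a + d = 0 then (4 : ℤ) ^ m else 0)
        = ∑ a : Fin m ⊕ Fin m → F, ∑ w : Fin m ⊕ Fin m → F,
            chi (sympForm m F w (g.1 *ᵥ a + a + d)) := by
          apply Finset.sum_congr rfl
          intro a _
          rw [sum_chi_form' hF m]
      _ = ∑ w : Fin m ⊕ Fin m → F, ∑ a : Fin m ⊕ Fin m → F,
            chi (sympForm m F w (g.1 *ᵥ a + a + d)) := Finset.sum_comm
      _ = ∑ w : Fin m ⊕ Fin m → F, (if g.1 *ᵥ w = w then (4 : ℤ) ^ m else 0) := by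
          apply Finset.sum_congr rfl
          intro w _
          have e : ∀ a, chi (sympForm m F w (g.1 *ᵥ a + a + d))
              = chi (sympForm m F w d) * chi (sympForm m F ((g⁻¹).1 *ᵥ w + w) a) := by
            intro a
            rw [sympForm_add_right, sympForm_add_right, a7_form_inv, chi_add hF,
              ← sympForm_add_left, mul_comm]
          rw [Finset.sum_congr rfl (fun a _ => e a), ← Finset.mul_sum, sum_chi_form hF m]
          by_cases hw : g.1 *ᵥ w = w
          · rw [if_pos hw, if_pos ((a7_fix_iff hF g w).2 hw), hBd w hw, chi_zero, one_mul]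
          · rw [if_neg hw, if_neg (fun h => hw ((a7_fix_iff hF g w).1 h)), mul_zero]
  have := mul_left_cancel₀ h4pos.ne' key
  exact_mod_cast this

end Cfsg.Agent.Lib.Helper2.SpMin
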