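import Mathlib
import Cfsg.Agent.Lib.Helper3.SpMinDefs
import Cfsg.Agent.Lib.Helper2.SpMinA4
import Cfsg.Agent.Lib.Helper2.SpMinA7
import Cfsg.Agent.Lib.Helper7.MinDegU1
import Cfsg.Agent.Lib.Helper8.SpMinA5
set_option autoImplicit false
set_option maxHeartbeats 4000000
set_option linter.unusedVariables false
set_option linter.unusedSectionVars false
set_option linter.style.longLine false
set_option linter.style.haveILetI false
open Matrix Cfsg

/-! # S2142 farm, unit A8: Lemma A (a subgroup of small index is transitive on non-zero vectors) -/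

namespace Cfsg.Agent.Lib.Helper2.SpMin

open Cfsg.Agent.Lib.Helper5 Cfsg.Agent.Lib.Helper5.SympTv Cfsg.Agent.Lib.Helper3.SpMin

variable {F : Type*} [Field F] [Fintype F]

instance a8_finite_QF (m : ℕ) : Finite (QF m F) := by
  unfold QF
  infer_instance

instance a8_finite_QFs (m : ℕ) (ε : ℤ) : Finite (QFs m F ε) := by
  unfold QFs
  infer_instance

/-- Lemma A from the 2-transitivity on the forms of a given sign -/
theorem lemmaA_of (hF : Fintype.card F = 2) (m : ℕ)
    (h2t : ∀ ε : ℤ, MulAction.IsMultiplyPretransitive (symplecticGroup (Fin m) F) (QFs m F ε) 2)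
    (H : Subgroup (symplecticGroup (Fin m) F))
    (hH : H.index < n0 m) :
    ∀ v w : Fin m ⊕ Fin m → F, v ≠ 0 → w ≠ 0 → ∃ h ∈ H, h.1 *ᵥ v = w := by
  classical
  have hm : 1 ≤ m := by
    rcases Nat.eq_zero_or_pos m with rfl | h
    · simp [n0] at hH
    · exact h
  have hfinG : Finite (symplecticGroup (Fin m) F) := inferInstance
  -- transitivity on the forms of each sign
  have htr : ∀ ε : ℤ, (ε = 2 ^ m ∨ ε = -2 ^ m) → MulAction.IsPretransitive H (QFs m F ε) := by
    intro ε hε
    by_contra hcon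
    have hle := Cfsg.Agent.Lib.Helper7.MinDeg.card_le_index_of_not_pretransitive (h2t ε) H hcon
    rcases hε with rfl | rfl
    · rw [card_QFs_plus hF m hm] at hle
      have : n0 m ≤ 2 ^ (m - 1) * (2 ^ m + 1) := by
        unfold n0
        apply Nat.mul_le_mul_left
        exact le_trans (Nat.sub_le _ _) (Nat.le_add_right _ _)
      exact absurd (lt_of_lt_of_le (lt_of_le_of_lt hle hH) this) (lt_irrefl _)
    · rw [card_QFs_minus hF m hm] at hle
      exact absurd (lt_of_le_of_lt hle hH) (lt_irrefl _)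
  haveI : Fintype (QF m F) := Fintype.ofFinite _
  haveI : Fintype ↥H := Fintype.ofFinite _
  -- at most two orbits on the forms
  have hsame : ∀ φ ψ : QF m F, sgn φ = sgn ψ → (MulAction.orbitRel ↥H (QF m F)) φ ψ := by
    intro φ ψ hs
    have hε : sgn ψ = 2 ^ m ∨ sgn ψ = -2 ^ m := sgn_eq hF ψ
    haveI := htr (sgn ψ) hε
    have hx : ∃ x : QFs m F (sgn ψ), x.1 = ψ := ⟨(show {φ : QF m F // sgn φ = sgn ψ} from ⟨ψ, rfl⟩), rfl⟩
    have hy : ∃ y : QFs m F (sgn ψ), y.1 = φ := ⟨(show {φ : QF m F // sgn φ = sgn ψ} from ⟨φ, hs⟩), rfl⟩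
    obtain ⟨x, hx⟩ := hx
    obtain ⟨y, hy⟩ := hy
    obtain ⟨h, hh⟩ := MulAction.exists_smul_eq ↥H x y
    rw [MulAction.orbitRel_apply, MulAction.mem_orbit_iff]
    refine ⟨h, ?_⟩
    have h2 := congrArg Subtype.val hh
    have h3 : (h • x).1 = (h : symplecticGroup (Fin m) F) • x.1 :=
      qfs_smul_val (h : symplecticGroup (Fin m) F) x
    rw [h3, hx, hy] at h2
    exact h2
  have horbX : Fintype.card (Quotient (MulAction.orbitRel ↥H (QF m F))) ≤ 2 := by
    have hresp : ∀ φ ψ : QF m F, (MulAction.orbitRel ↥H (QF m F)) φ ψ →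
        decide (sgn φ = 2 ^ m) = decide (sgn ψ = 2 ^ m) := by
      intro φ ψ hr
      rw [MulAction.orbitRel_apply, MulAction.mem_orbit_iff] at hr
      obtain ⟨h, rfl⟩ := hr
      have : sgn (h • ψ) = sgn ψ := sgn_smul (h : symplecticGroup (Fin m) F) ψ
      rw [this]
    have hinj : Function.Injective
        (Quotient.lift (s := MulAction.orbitRel ↥H (QF m F))
          (fun φ : QF m F => decide (sgn φ = 2 ^ m)) hresp) := by
      intro a b
      refine Quotient.inductionOn₂ a b ?_
      intro φ ψ hab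
      apply Quotient.sound
      apply hsame
      have hab' : decide (sgn φ = 2 ^ m) = decide (sgn ψ = 2 ^ m) := hab
      rcases sgn_eq hF φ with h1 | h1 <;> rcases sgn_eq hF ψ with h2 | h2
      · rw [h1, h2]
      · exfalso
        have hne : ¬ ((-2 : ℤ) ^ m = 2 ^ m ∨ True) ∨ True := Or.inr trivial
        have hp : (0 : ℤ) < 2 ^ m := by positivity
        rw [h1, h2] at hab'
        simp at hab'
        omega
      · exfalso
        have hp : (0 : ℤ) < 2 ^ m := by positivity
        rw [h1, h2] at hab'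
        simp at hab'
        omega
      · rw [h1, h2]
    have := Fintype.card_le_of_injective _ hinj
    rwa [Fintype.card_bool] at this
  -- Burnside on forms and on vectors
  letI := vecAction (F := F) m
  haveI : ∀ a : ↥H, Fintype (MulAction.fixedBy (QF m F) a) := fun a => Fintype.ofFinite _
  haveI : ∀ a : ↥H, Fintype (MulAction.fixedBy (Fin m ⊕ Fin m → F) a) :=
    fun a => Fintype.ofFinite _
  have B1 := MulAction.sum_card_fixedBy_eq_card_orbits_mul_card_group ↥H (QF m F)
  have B2 := MulAction.sum_card_fixedBy_eq_card_orbits_mul_card_group ↥H (Fin m ⊕ Fin m → F)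
  have hterm : ∀ a : ↥H, Fintype.card (MulAction.fixedBy (QF m F) a)
      = Fintype.card (MulAction.fixedBy (Fin m ⊕ Fin m → F) a) := by
    intro a
    have h := card_fixed hF m (a : symplecticGroup (Fin m) F)
    rw [← Nat.card_eq_fintype_card, ← Nat.card_eq_fintype_card]
    exact h
  rw [Finset.sum_congr rfl (fun a _ => hterm a), B2] at B1
  have hHpos : 0 < Fintype.card ↥H := Fintype.card_pos
  have horbV : Fintype.card (Quotient (MulAction.orbitRel ↥H (Fin m ⊕ Fin m → F))) ≤ 2 := by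
    have := Nat.eq_of_mul_eq_mul_right hHpos B1
    rw [this]
    exact horbX
  -- conclusion
  intro v w hv hw
  by_contra hcon
  push Not at hcon
  have h0v : (⟦(0 : Fin m ⊕ Fin m → F)⟧ : Quotient (MulAction.orbitRel ↥H (Fin m ⊕ Fin m → F)))
      ≠ ⟦v⟧ := by
    intro e
    have e' : (MulAction.orbitRel ↥H (Fin m ⊕ Fin m → F)) _ _ := Quotient.exact e
    rw [MulAction.orbitRel_apply, MulAction.mem_orbit_iff] at e'
    obtain ⟨h, hh⟩ := e'
    apply hv
    have h1 : (h : symplecticGroup (Fin m) F).1 *ᵥ v = 0 := hh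
    have := congrArg (fun y => ((h : symplecticGroup (Fin m) F)⁻¹).1 *ᵥ y) h1
    beta_reduce at this
    rw [inv_mulVec_mulVec, mulVec_zero] at this
    exact this
  have h0w : (⟦(0 : Fin m ⊕ Fin m → F)⟧ : Quotient (MulAction.orbitRel ↥H (Fin m ⊕ Fin m → F)))
      ≠ ⟦w⟧ := by
    intro e
    have e' : (MulAction.orbitRel ↥H (Fin m ⊕ Fin m → F)) _ _ := Quotient.exact e
    rw [MulAction.orbitRel_apply, MulAction.mem_orbit_iff] at e'
    obtain ⟨h, hh⟩ := e'
    apply hw
    have h1 : (h : symplecticGroup (Fin m) F).1 *ᵥ w = 0 := hh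
    have := congrArg (fun y => ((h : symplecticGroup (Fin m) F)⁻¹).1 *ᵥ y) h1
    beta_reduce at this
    rw [inv_mulVec_mulVec, mulVec_zero] at this
    exact this
  have hvw : (⟦w⟧ : Quotient (MulAction.orbitRel ↥H (Fin m ⊕ Fin m → F))) ≠ ⟦v⟧ := by
    intro e
    have e' : (MulAction.orbitRel ↥H (Fin m ⊕ Fin m → F)) _ _ := Quotient.exact e
    rw [MulAction.orbitRel_apply, MulAction.mem_orbit_iff] at e'
    obtain ⟨h, hh⟩ := e'
    exact hcon (h : symplecticGroup (Fin m) F) h.2 hh
  have h3 : ({⟦(0 : Fin m ⊕ Fin m → F)⟧, ⟦w⟧, ⟦v⟧} :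
      Finset (Quotient (MulAction.orbitRel ↥H (Fin m ⊕ Fin m → F)))).card = 3 := by
    rw [Finset.card_insert_of_notMem, Finset.card_insert_of_notMem, Finset.card_singleton]
    · simpa using hvw
    · simp only [Finset.mem_insert, Finset.mem_singleton, not_or]
      exact ⟨h0w, h0v⟩
  have := Finset.card_le_univ ({⟦(0 : Fin m ⊕ Fin m → F)⟧, ⟦w⟧, ⟦v⟧} :
      Finset (Quotient (MulAction.orbitRel ↥H (Fin m ⊕ Fin m → F))))
  omega

/-- A8 : Lemma A -/
theorem lemmaA (hF : Fintype.card F = 2) (m : ℕ) (H : Subgroup (symplecticGroup (Fin m) F))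
    (hH : H.index < n0 m) :
    ∀ v w : Fin m ⊕ Fin m → F, v ≠ 0 → w ≠ 0 → ∃ h ∈ H, h.1 *ᵥ v = w :=
  lemmaA_of hF m (fun ε => Cfsg.Agent.Lib.Helper8.SpMin.two_trans hF m ε) H hH

end Cfsg.Agent.Lib.Helper2.SpMin
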