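import Mathlib
import Cfsg.Agent.Lib.Helper5.SympBlock

/-!
# Steinberg's count of unipotent elements of `Sp_2m(q)` (S2316): common definitions
-/

set_option autoImplicit false
set_option linter.style.haveILetI false

namespace Cfsg.Agent.Lib.Helper2.SpU

open Matrix Cfsg.Agent.Lib.Helper5.SympBlock

/-- `2n × 2n` matrices in the indexing used by `Matrix.symplecticGroup (Fin n) F` -/
abbrev Mat (F : Type*) (n : ℕ) := Matrix (Fin n ⊕ Fin n) (Fin n ⊕ Fin n) F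

/-- the symplectic group `Sp_2n(F)` -/
abbrev Sp (F : Type*) [CommRing F] (n : ℕ) := ↥(Matrix.symplecticGroup (Fin n) F)

variable {F : Type*} [Field F]

/-- helper5's block diagonal embedding `(M₁, M₂) ↦ diag(M₁, M₂)` of `Mat k × Mat l` into `Mat (k + l)`
(in the `(k + l) + (k + l)` indexing); short name avoiding the clash with `Matrix.blockDiag` -/
abbrev bd (k l : ℕ) (M₁ : Mat F k) (M₂ : Mat F l) : Mat F (k + l) :=
  Cfsg.Agent.Lib.Helper5.SympBlock.blockDiag k l M₁ M₂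

/-- conjugation by a symplectic matrix -/
def cj {n : ℕ} (x : Sp F n) (A : Mat F n) : Mat F n :=
  (x : Mat F n) * A * ((x⁻¹ : Sp F n) : Mat F n)

/-- dimension of the generalized kernel of a square matrix -/
noncomputable def nd {ι : Type*} [Fintype ι] [DecidableEq ι] (A : Matrix ι ι F) : ℕ :=
  A.charpoly.natTrailingDegree

theorem coe_mul_inv {n : ℕ} (x : Sp F n) : (x : Mat F n) * ((x⁻¹ : Sp F n) : Mat F n) = 1 := by
  rw [← Submonoid.coe_mul, mul_inv_cancel]; rfl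

theorem coe_inv_mul {n : ℕ} (x : Sp F n) : ((x⁻¹ : Sp F n) : Mat F n) * (x : Mat F n) = 1 := by
  rw [← Submonoid.coe_mul, inv_mul_cancel]; rfl

theorem cj_one_left {n : ℕ} (A : Mat F n) : cj (1 : Sp F n) A = A := by
  simp [cj]

theorem cj_mul_left {n : ℕ} (x y : Sp F n) (A : Mat F n) : cj (x * y) A = cj x (cj y A) := by
  simp only [cj, _root_.mul_inv_rev, Submonoid.coe_mul, Matrix.mul_assoc]

theorem cj_inv_cj {n : ℕ} (x : Sp F n) (A : Mat F n) : cj x⁻¹ (cj x A) = A := by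
  rw [← cj_mul_left, inv_mul_cancel, cj_one_left]

theorem cj_cj_inv {n : ℕ} (x : Sp F n) (A : Mat F n) : cj x (cj x⁻¹ A) = A := by
  rw [← cj_mul_left, mul_inv_cancel, cj_one_left]

theorem cj_mul {n : ℕ} (x : Sp F n) (A B : Mat F n) : cj x (A * B) = cj x A * cj x B := by
  unfold cj
  calc (x : Mat F n) * (A * B) * ((x⁻¹ : Sp F n) : Mat F n)
      = (x : Mat F n) * A * 1 * B * ((x⁻¹ : Sp F n) : Mat F n) := by
        simp only [Matrix.mul_one, Matrix.mul_assoc]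
    _ = _ := by rw [← coe_inv_mul x]; simp only [Matrix.mul_assoc]

theorem cj_one {n : ℕ} (x : Sp F n) : cj x (1 : Mat F n) = 1 := by
  unfold cj; rw [Matrix.mul_one, coe_mul_inv]

theorem cj_zero {n : ℕ} (x : Sp F n) : cj x (0 : Mat F n) = 0 := by
  unfold cj; simp

theorem cj_add {n : ℕ} (x : Sp F n) (A B : Mat F n) : cj x (A + B) = cj x A + cj x B := by
  unfold cj; rw [Matrix.mul_add, Matrix.add_mul]

theorem cj_sub {n : ℕ} (x : Sp F n) (A B : Mat F n) : cj x (A - B) = cj x A - cj x B := by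
  unfold cj; rw [Matrix.mul_sub, Matrix.sub_mul]

theorem cj_neg {n : ℕ} (x : Sp F n) (A : Mat F n) : cj x (-A) = -cj x A := by
  unfold cj; simp

theorem cj_pow {n : ℕ} (x : Sp F n) (A : Mat F n) (j : ℕ) : cj x (A ^ j) = cj x A ^ j := by
  induction j with
  | zero => simp [cj_one]
  | succ j ih => rw [pow_succ, pow_succ, cj_mul, ih]

theorem cj_injective {n : ℕ} (x : Sp F n) : Function.Injective (cj x : Mat F n → Mat F n) := by
  intro A B h
  have := congrArg (cj x⁻¹) h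
  rwa [cj_inv_cj, cj_inv_cj] at this

theorem isNilpotent_cj_iff {n : ℕ} (x : Sp F n) (A : Mat F n) :
    IsNilpotent (cj x A) ↔ IsNilpotent A := by
  constructor
  · rintro ⟨j, hj⟩
    refine ⟨j, cj_injective x ?_⟩
    rw [cj_pow, hj, cj_zero]
  · rintro ⟨j, hj⟩
    exact ⟨j, by rw [← cj_pow, hj, cj_zero]⟩

theorem isUnit_cj_iff {n : ℕ} (x : Sp F n) (A : Mat F n) : IsUnit (cj x A) ↔ IsUnit A := by
  have key : ∀ (y : Sp F n) (B : Mat F n), IsUnit B → IsUnit (cj y B) := by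
    intro y B hB
    obtain ⟨u, rfl⟩ := hB
    refine ⟨⟨cj y (u : Mat F n), cj y ((u⁻¹ : (Mat F n)ˣ) : Mat F n), ?_, ?_⟩, rfl⟩
    · rw [← cj_mul, Units.mul_inv, cj_one]
    · rw [← cj_mul, Units.inv_mul, cj_one]
  constructor
  · intro h
    have := key x⁻¹ _ h
    rwa [cj_inv_cj] at this
  · exact key x A

theorem cj_mem_sp {n : ℕ} (x : Sp F n) (A : Mat F n) (hA : A ∈ Matrix.symplecticGroup (Fin n) F) :
    cj x A ∈ Matrix.symplecticGroup (Fin n) F :=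
  Submonoid.mul_mem _ (Submonoid.mul_mem _ x.2 hA) (x⁻¹).2

theorem bd_add (k l : ℕ) (M₁ N₁ : Mat F k) (M₂ N₂ : Mat F l) :
    bd k l (M₁ + N₁) (M₂ + N₂) = bd k l M₁ M₂ + bd k l N₁ N₂ := by
  unfold bd Cfsg.Agent.Lib.Helper5.SympBlock.blockDiag
  ext i j
  simp only [Matrix.submatrix_apply, Matrix.add_apply]
  rw [← Matrix.add_apply, Matrix.fromBlocks_add]
  simp

theorem bd_neg (k l : ℕ) (M₁ : Mat F k) (M₂ : Mat F l) :
    bd k l (-M₁) (-M₂) = -bd k l M₁ M₂ := by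
  unfold bd Cfsg.Agent.Lib.Helper5.SympBlock.blockDiag
  ext i j
  simp only [Matrix.submatrix_apply, Matrix.neg_apply]
  rw [← Matrix.neg_apply, Matrix.fromBlocks_neg]
  simp

theorem bd_sub (k l : ℕ) (M₁ N₁ : Mat F k) (M₂ N₂ : Mat F l) :
    bd k l (M₁ - N₁) (M₂ - N₂) = bd k l M₁ M₂ - bd k l N₁ N₂ := by
  rw [sub_eq_add_neg, sub_eq_add_neg, sub_eq_add_neg, bd_add, bd_neg]

theorem bd_mul (k l : ℕ) (M₁ N₁ : Mat F k) (M₂ N₂ : Mat F l) :
    bd k l (M₁ * N₁) (M₂ * N₂) = bd k l M₁ M₂ * bd k l N₁ N₂ :=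
  Cfsg.Agent.Lib.Helper5.SympBlock.blockDiag_mul k l M₁ N₁ M₂ N₂

theorem bd_one (k l : ℕ) : bd k l (1 : Mat F k) (1 : Mat F l) = 1 :=
  Cfsg.Agent.Lib.Helper5.SympBlock.blockDiag_one k l

theorem bd_zero (k l : ℕ) : bd k l (0 : Mat F k) (0 : Mat F l) = 0 := by
  unfold bd Cfsg.Agent.Lib.Helper5.SympBlock.blockDiag
  rw [Matrix.fromBlocks_zero]
  simp

theorem bd_injective (k l : ℕ) (M₁ N₁ : Mat F k) (M₂ N₂ : Mat F l)
    (h : bd k l M₁ M₂ = bd k l N₁ N₂) : M₁ = N₁ ∧ M₂ = N₂ :=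
  Cfsg.Agent.Lib.Helper5.SympBlock.blockDiag_injective k l M₁ N₁ M₂ N₂ h

theorem bd_pow (k l : ℕ) (M₁ : Mat F k) (M₂ : Mat F l) (j : ℕ) :
    bd k l (M₁ ^ j) (M₂ ^ j) = bd k l M₁ M₂ ^ j := by
  induction j with
  | zero => simp [bd_one]
  | succ j ih => rw [pow_succ, pow_succ, pow_succ, bd_mul, ih]

theorem bd_transpose (k l : ℕ) (M₁ : Mat F k) (M₂ : Mat F l) :
    (bd k l M₁ M₂)ᵀ = bd k l M₁ᵀ M₂ᵀ := by
  unfold bd Cfsg.Agent.Lib.Helper5.SympBlock.blockDiag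
  rw [Matrix.transpose_submatrix, Matrix.fromBlocks_transpose]
  simp

theorem bd_J (k l : ℕ) :
    bd k l (Matrix.J (Fin k) F) (Matrix.J (Fin l) F) = Matrix.J (Fin (k + l)) F := by
  unfold bd Cfsg.Agent.Lib.Helper5.SympBlock.blockDiag
  rw [← J_submatrix, Matrix.submatrix_submatrix]
  simp

variable (F) in
/-- the affine space `{B | B + B* = 1}` (`B*` the adjoint for the symplectic form) -/
def Aff (n : ℕ) : Set (Mat F n) :=
  {B | Matrix.J (Fin n) F * B + Bᵀ * Matrix.J (Fin n) F = Matrix.J (Fin n) F}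

/-- the data for a "symplectic Fitting decomposition" count -/
structure FitData (F : Type*) [Field F] where
  /-- the sets being counted -/
  X : ∀ n : ℕ, Set (Mat F n)
  /-- the operator whose Fitting decomposition is used -/
  φ : ∀ n : ℕ, Mat F n → Mat F n
  conj_mem : ∀ (n : ℕ) (x : Sp F n) (A : Mat F n), A ∈ X n → cj x A ∈ X n
  φ_conj : ∀ (n : ℕ) (x : Sp F n) (A : Mat F n), φ n (cj x A) = cj x (φ n A)
  block_mem : ∀ (k l : ℕ) (M₁ : Mat F k) (M₂ : Mat F l),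
    bd k l M₁ M₂ ∈ X (k + l) ↔ M₁ ∈ X k ∧ M₂ ∈ X l
  φ_block : ∀ (k l : ℕ) (M₁ : Mat F k) (M₂ : Mat F l),
    φ (k + l) (bd k l M₁ M₂) = bd k l (φ k M₁) (φ l M₂)
  adj : ∀ (n : ℕ) (A : Mat F n), A ∈ X n → ∃ C : Mat F n, C * φ n A = φ n A * C ∧
    (φ n A)ᵀ * Matrix.J (Fin n) F = Matrix.J (Fin n) F * C * φ n A
  comm : ∀ (n : ℕ) (A : Mat F n), A ∈ X n → A * φ n A = φ n A * A

end Cfsg.Agent.Lib.Helper2.SpU
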