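import Mathlib
import Cfsg.Prelude.Def_ClassicalGeometry
import Cfsg.Agent.Lib.Helper2.SpUDefs

set_option autoImplicit false
set_option linter.style.haveILetI false

namespace Cfsg.Agent.Lib.Helper2.SpUBR

open Matrix Cfsg.Agent.Lib.Helper2.SpU

variable {F : Type*} [Field F]

/-- BR: a family of vectors with Gram matrix `J` is the family of columns of a symplectic matrix. -/
theorem exists_sp_of_gram {n : ℕ} (b : Fin n ⊕ Fin n → (Fin n ⊕ Fin n → F))
    (hb : ∀ i j, Cfsg.sympForm n F (b i) (b j) = Matrix.J (Fin n) F i j) :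
    ∃ x : Sp F n, ∀ i, (x : Mat F n) *ᵥ (Pi.single i 1) = b i := by
  let X : Mat F n := Matrix.of (fun r c => b c r)
  have hcol : ∀ i, X *ᵥ (Pi.single i 1) = b i := by
    intro i
    ext r
    rw [Matrix.mulVec_single_one]
    rfl
  have hX : X ∈ Matrix.symplecticGroup (Fin n) F := by
    rw [SymplecticGroup.mem_iff']
    ext i j
    rw [← hb i j]
    unfold Cfsg.sympForm
    rw [Matrix.mul_assoc, Matrix.mul_apply]
    unfold dotProduct
    apply Finset.sum_congr rfl
    intro r _
    rw [Matrix.transpose_apply]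
    congr 1
  exact ⟨⟨X, hX⟩, hcol⟩

end Cfsg.Agent.Lib.Helper2.SpUBR
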