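import Mathlib
import Cfsg.Agent.Lib.Helper2.SpUDefs

/-!
# S2316: from the generic Fitting count to the convolution identity in `ℚ`
-/

set_option autoImplicit false
set_option linter.style.haveILetI false

namespace Cfsg.Agent.Lib.Helper2.SpUSum

open Matrix Cfsg.Agent.Lib.Helper2.SpU

variable {F : Type*} [Field F] [Fintype F]

/-- the nilpotent count of a `FitData` -/
noncomputable def aN (D : FitData F) (k : ℕ) : ℕ :=
  Nat.card {A : Mat F k // A ∈ D.X k ∧ IsNilpotent (D.φ k A)}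

/-- the unit count of a `FitData` -/
noncomputable def bN (D : FitData F) (l : ℕ) : ℕ :=
  Nat.card {A : Mat F l // A ∈ D.X l ∧ IsUnit (D.φ l A)}

theorem card_X_eq_sum (D : FitData F)
    (heven : ∀ (m : ℕ) (A : Mat F m), A ∈ D.X m → ∃ k : ℕ, k ≤ m ∧ nd (D.φ m A) = 2 * k)
    (m : ℕ) :
    Nat.card {A : Mat F m // A ∈ D.X m} =
      ∑ k ∈ Finset.range (m + 1),
        Nat.card {A : Mat F m // A ∈ D.X m ∧ nd (D.φ m A) = 2 * k} := by
  classical
  have h := Finset.card_eq_sum_card_fiberwise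
    (s := (Finset.univ.filter (fun A : Mat F m => A ∈ D.X m))) (t := Finset.range (m + 1))
    (f := fun A => nd (D.φ m A) / 2) (by
      intro A hA
      simp only [Finset.coe_filter, Finset.mem_univ, true_and, Set.mem_ofPred_eq] at hA
      obtain ⟨k, hk, hk2⟩ := heven m A hA
      simp only [Finset.coe_range, Set.mem_Iio]
      rw [hk2]
      omega)
  rw [Nat.card_eq_fintype_card, Fintype.card_subtype, h]
  apply Finset.sum_congr rfl
  intro k _
  rw [Nat.card_eq_fintype_card, Fintype.card_subtype, Finset.filter_filter]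
  congr 1
  apply Finset.filter_congr
  intro A _
  constructor
  · rintro ⟨hA, h2⟩
    refine ⟨hA, ?_⟩
    obtain ⟨k', _, hk2⟩ := heven m A hA
    rw [hk2] at h2 ⊢
    omega
  · rintro ⟨hA, h2⟩
    refine ⟨hA, ?_⟩
    rw [h2]
    omega

theorem ratio_sum (D : FitData F)
    (heven : ∀ (m : ℕ) (A : Mat F m), A ∈ D.X m → ∃ k : ℕ, k ≤ m ∧ nd (D.φ m A) = 2 * k)
    (hfit : ∀ k l : ℕ,
      Nat.card {A : Mat F (k + l) // A ∈ D.X (k + l) ∧ nd (D.φ (k + l) A) = 2 * k} *
        (Nat.card (Sp F k) * Nat.card (Sp F l)) =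
      Nat.card (Sp F (k + l)) * (aN D k * bN D l))
    (m : ℕ) :
    (Nat.card {A : Mat F m // A ∈ D.X m} : ℚ) / Nat.card (Sp F m) =
      ∑ kl ∈ Finset.HasAntidiagonal.antidiagonal m,
        ((aN D kl.1 : ℚ) / Nat.card (Sp F kl.1)) * ((bN D kl.2 : ℚ) / Nat.card (Sp F kl.2)) := by
  rw [card_X_eq_sum D heven m, Finset.Nat.sum_antidiagonal_eq_sum_range_succ_mk, Nat.cast_sum,
    Finset.sum_div]
  apply Finset.sum_congr rfl
  intro k hk
  rw [Finset.mem_range] at hk
  obtain ⟨l, rfl⟩ : ∃ l, m = k + l := ⟨m - k, by omega⟩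
  have hl : k + l - k = l := by omega
  simp only [hl]
  have h := hfit k l
  have hpos : ∀ n : ℕ, (0 : ℚ) < (Nat.card (Sp F n) : ℚ) := by
    intro n
    exact_mod_cast Nat.card_pos
  have h1 := (hpos k).ne'
  have h2 := (hpos l).ne'
  have h3 := (hpos (k + l)).ne'
  have hq : (Nat.card {A : Mat F (k + l) // A ∈ D.X (k + l) ∧ nd (D.φ (k + l) A) = 2 * k} : ℚ) *
        ((Nat.card (Sp F k) : ℚ) * (Nat.card (Sp F l) : ℚ)) =
      (Nat.card (Sp F (k + l)) : ℚ) * ((aN D k : ℚ) * (bN D l : ℚ)) := by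
    exact_mod_cast h
  field_simp
  linear_combination hq

end Cfsg.Agent.Lib.Helper2.SpUSum
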