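import Mathlib
import Cfsg.Prelude.Def_GeometricClasses
import Cfsg.Agent.Lib.Helper5.SpCentres
set_option autoImplicit false
set_option maxHeartbeats 1000000
set_option linter.unusedVariables false
set_option linter.unusedSectionVars false
set_option linter.style.longLine false
set_option linter.unusedSimpArgs false
set_option linter.deprecated false
set_option linter.style.haveILetI false

/-! Subfield subgroups of `Sp_{2m}` are maximal (part A): rational vectors and matrices over an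
arbitrary index type, membership in the subfield group, the rational symplectic group. -/

namespace Cfsg.Agent.Lib.Helper2.Ssf

open Matrix Cfsg Cfsg.Agent.Lib.Helper5.SympTv Cfsg.Agent.Lib.Helper5.SympGen
  Cfsg.Agent.Lib.Helper5.SympBridge Cfsg.Agent.Lib.Helper5.SpCentres

universe u

section Rat

variable {F : Type u} [Field F] {ι : Type} [Fintype ι] [DecidableEq ι] (F₀ : Subfield F)

/-- a vector with all coordinates in the subfield -/
def IsRatV (v : ι → F) : Prop := ∀ i, v i ∈ F₀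

/-- a matrix with all entries in the subfield -/
def IsRatM (A : Matrix ι ι F) : Prop := ∀ i j, A i j ∈ F₀

variable {F₀}

theorem IsRatV.add {v w : ι → F} (hv : IsRatV F₀ v) (hw : IsRatV F₀ w) : IsRatV F₀ (v + w) :=
  fun i => F₀.add_mem (hv i) (hw i)

theorem IsRatV.sub {v w : ι → F} (hv : IsRatV F₀ v) (hw : IsRatV F₀ w) : IsRatV F₀ (v - w) :=
  fun i => F₀.sub_mem (hv i) (hw i)

theorem IsRatV.neg {v : ι → F} (hv : IsRatV F₀ v) : IsRatV F₀ (-v) :=
  fun i => F₀.neg_mem (hv i)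

theorem IsRatV.smul {v : ι → F} {a : F} (ha : a ∈ F₀) (hv : IsRatV F₀ v) : IsRatV F₀ (a • v) :=
  fun i => F₀.mul_mem ha (hv i)

theorem isRatV_zero : IsRatV F₀ (0 : ι → F) := fun i => F₀.zero_mem

theorem isRatV_single (i : ι) {a : F} (ha : a ∈ F₀) : IsRatV F₀ (Pi.single i a : ι → F) := by
  intro j
  by_cases h : j = i
  · subst h; rw [Pi.single_eq_same]; exact ha
  · rw [Pi.single_eq_of_ne h]; exact F₀.zero_mem

theorem IsRatV.dot {v w : ι → F} (hv : IsRatV F₀ v) (hw : IsRatV F₀ w) : v ⬝ᵥ w ∈ F₀ :=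
  F₀.sum_mem fun i _ => F₀.mul_mem (hv i) (hw i)

theorem isRatV_coe (v₀ : ι → F₀) : IsRatV F₀ (fun i => (v₀ i : F)) := fun i => (v₀ i).2

theorem IsRatM.mulVec {A : Matrix ι ι F} {v : ι → F} (hA : IsRatM F₀ A) (hv : IsRatV F₀ v) :
    IsRatV F₀ (A *ᵥ v) := fun i => IsRatV.dot (fun j => hA i j) hv

theorem IsRatM.mul {A B : Matrix ι ι F} (hA : IsRatM F₀ A) (hB : IsRatM F₀ B) :
    IsRatM F₀ (A * B) := fun i j => IsRatV.dot (fun k => hA i k) (fun k => hB k j)

theorem isRatM_one : IsRatM F₀ (1 : Matrix ι ι F) := by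
  intro i j
  rw [Matrix.one_apply]
  split_ifs
  · exact F₀.one_mem
  · exact F₀.zero_mem

theorem IsRatM.add {A B : Matrix ι ι F} (hA : IsRatM F₀ A) (hB : IsRatM F₀ B) :
    IsRatM F₀ (A + B) := fun i j => F₀.add_mem (hA i j) (hB i j)

theorem IsRatM.smul {A : Matrix ι ι F} {a : F} (ha : a ∈ F₀) (hA : IsRatM F₀ A) :
    IsRatM F₀ (a • A) := fun i j => F₀.mul_mem ha (hA i j)

theorem isRatM_vecMulVec {v w : ι → F} (hv : IsRatV F₀ v) (hw : IsRatV F₀ w) :
    IsRatM F₀ (vecMulVec v w) := fun i j => by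
  rw [vecMulVec_apply]; exact F₀.mul_mem (hv i) (hw j)

variable (F₀)

/-- membership in the subfield group: rational entries up to a scalar -/
theorem mem_subfield_iff' (g : GL ι F) :
    g ∈ Cfsg.Geo.subfieldSubgroup F₀ 1 ↔ ∃ c : F, c ≠ 0 ∧ ∀ i j, c * g.1 i j ∈ F₀ := by
  classical
  have hconj : ∀ x : GL ι F, (MulAut.conj (1 : GL ι F)).toMonoidHom x = x := by
    intro x
    show (MulAut.conj (1 : GL ι F)) x = x
    rw [MulAut.conj_apply, one_mul, inv_one, mul_one]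
  constructor
  · intro hM
    unfold Cfsg.Geo.subfieldSubgroup at hM
    rw [Subgroup.mem_map] at hM
    obtain ⟨g', hg, hgM⟩ := hM
    rw [hconj] at hgM
    subst hgM
    rw [Subgroup.mem_sup_of_normal_right] at hg
    obtain ⟨a, ⟨A₀, rfl⟩, s, hs, has⟩ := hg
    rw [Cfsg.Geo.mem_scalars_iff] at hs
    obtain ⟨c, hc⟩ := hs
    refine ⟨(c : F)⁻¹, inv_ne_zero c.ne_zero, fun i j => ?_⟩
    rw [← has, Units.val_mul, hc, Matrix.mul_smul, Matrix.mul_one, Matrix.smul_apply,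
      Matrix.GeneralLinearGroup.map_apply, smul_eq_mul, ← mul_assoc, inv_mul_cancel₀ c.ne_zero,
      one_mul]
    exact ((A₀ : Matrix ι ι F₀) i j).2
  · rintro ⟨w, hw, h⟩
    obtain ⟨A, hA⟩ : ∃ A : Matrix ι ι F₀,
        ∀ i j, (A i j : F) = w * (g : Matrix ι ι F) i j :=
      ⟨fun i j => ⟨_, h i j⟩, fun i j => rfl⟩
    have hMA : (g : Matrix ι ι F) = w⁻¹ • (F₀.subtype.mapMatrix A) := by
      ext i j
      rw [Matrix.smul_apply, RingHom.mapMatrix_apply, Matrix.map_apply, smul_eq_mul]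
      show _ = w⁻¹ * (A i j : F)
      rw [hA, ← mul_assoc, inv_mul_cancel₀ hw, one_mul]
    have hdet : A.det ≠ 0 := by
      intro h0
      have h1 : IsUnit (g : Matrix ι ι F).det :=
        (Matrix.isUnit_iff_isUnit_det _).1 g.isUnit
      rw [hMA, Matrix.det_smul, ← RingHom.map_det, h0, map_zero, mul_zero] at h1
      exact not_isUnit_zero h1
    obtain ⟨A₀, hA₀⟩ : ∃ A₀ : GL ι F₀, (A₀ : Matrix ι ι F₀) = A :=
      ⟨Matrix.GeneralLinearGroup.mkOfDetNeZero A hdet, rfl⟩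
    obtain ⟨s, hs1, hs2⟩ : ∃ s : GL ι F, s ∈ Cfsg.Geo.scalars ι F ∧
        (s : Matrix ι ι F) = w⁻¹ • 1 := by
      refine ⟨Units.map (Matrix.scalar ι : F →+* Matrix ι ι F).toMonoidHom
        (Units.mk0 w⁻¹ (inv_ne_zero hw)), ⟨_, rfl⟩, ?_⟩
      simp [Matrix.smul_one_eq_diagonal]
    have hprod : g = Matrix.GeneralLinearGroup.map (F₀.subtype : F₀ →+* F) A₀ * s := by
      apply Units.ext
      rw [Units.val_mul, hs2, Matrix.mul_smul, Matrix.mul_one]
      ext i j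
      rw [Matrix.smul_apply, Matrix.GeneralLinearGroup.map_apply, hA₀, smul_eq_mul]
      show (g : Matrix ι ι F) i j = w⁻¹ * (A i j : F)
      rw [hA, ← mul_assoc, inv_mul_cancel₀ hw, one_mul]
    unfold Cfsg.Geo.subfieldSubgroup
    rw [Subgroup.mem_map]
    refine ⟨g, ?_, hconj g⟩
    rw [hprod]
    exact Subgroup.mul_mem_sup ⟨A₀, rfl⟩ hs1

/-- equality of invertible matrices from equality of their actions on vectors -/
theorem gl_ext {g h : GL ι F} (H : ∀ x : ι → F, g.1 *ᵥ x = h.1 *ᵥ x) : g = h :=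
  Units.ext (Matrix.ext_iff_mulVec.2 H)

theorem gl_mul_mulVec (g h : GL ι F) (x : ι → F) : (g * h).1 *ᵥ x = g.1 *ᵥ (h.1 *ᵥ x) := by
  rw [Units.val_mul, Matrix.mulVec_mulVec]

theorem gl_inv_mulVec_cancel (g : GL ι F) (x : ι → F) : (g⁻¹).1 *ᵥ (g.1 *ᵥ x) = x := by
  rw [Matrix.mulVec_mulVec, ← Units.val_mul, inv_mul_cancel, Units.val_one, Matrix.one_mulVec]

theorem gl_mulVec_inv_cancel (g : GL ι F) (x : ι → F) : g.1 *ᵥ ((g⁻¹).1 *ᵥ x) = x := by
  rw [Matrix.mulVec_mulVec, ← Units.val_mul, mul_inv_cancel, Units.val_one, Matrix.one_mulVec]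

theorem gl_mulVec_eq_zero (g : GL ι F) {x : ι → F} (h : g.1 *ᵥ x = 0) : x = 0 := by
  have := gl_inv_mulVec_cancel g x
  rw [h, Matrix.mulVec_zero] at this
  exact this.symm

end Rat

section Symp

variable {F : Type u} [Field F] {m : ℕ}

/-- the sign in the pairing of a vector with a standard basis vector -/
def sg (F : Type u) [Field F] {m : ℕ} : Fin m ⊕ Fin m → F
  | Sum.inl _ => 1
  | Sum.inr _ => -1

theorem sg_mul_self (j : Fin m ⊕ Fin m) : sg F j * sg F j = 1 := by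
  rcases j with j | j <;> simp [sg]

theorem sg_ne_zero (j : Fin m ⊕ Fin m) : sg F j ≠ 0 := by
  intro h
  have := sg_mul_self (F := F) j
  rw [h, zero_mul] at this
  exact zero_ne_one this

theorem sg_mem (F₀ : Subfield F) (j : Fin m ⊕ Fin m) : sg F j ∈ F₀ := by
  rcases j with j | j
  · exact F₀.one_mem
  · exact F₀.neg_mem F₀.one_mem

theorem sg_swap (j : Fin m ⊕ Fin m) : sg F (Sum.swap j) = - sg F j := by
  rcases j with j | j <;> simp [sg]

/-- standard basis vectors -/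
def bv (F : Type u) [Field F] {m : ℕ} (j : Fin m ⊕ Fin m) : Fin m ⊕ Fin m → F := Pi.single j 1

theorem bv_apply_same (j : Fin m ⊕ Fin m) : bv F j j = 1 := by
  unfold bv; rw [Pi.single_eq_same]

theorem bv_apply_ne {j k : Fin m ⊕ Fin m} (h : k ≠ j) : bv F j k = 0 := by
  unfold bv; rw [Pi.single_eq_of_ne h]

theorem isRatV_bv (F₀ : Subfield F) (j : Fin m ⊕ Fin m) : IsRatV F₀ (bv F j) :=
  isRatV_single j F₀.one_mem

theorem bv_ne_zero (j : Fin m ⊕ Fin m) : bv F j ≠ 0 := by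
  intro h
  have := congrFun h j
  rw [bv_apply_same, Pi.zero_apply] at this
  exact one_ne_zero this

theorem form_bv (x : Fin m ⊕ Fin m → F) (j : Fin m ⊕ Fin m) :
    sympForm m F x (bv F j) = sg F j * x (Sum.swap j) := by
  rcases j with j | j
  · unfold bv; rw [sympForm_single_inl]; simp [sg]
  · unfold bv; rw [sympForm_single_inr]; simp [sg]

theorem bv_form (x : Fin m ⊕ Fin m → F) (j : Fin m ⊕ Fin m) :
    sympForm m F (bv F j) x = - (sg F j * x (Sum.swap j)) := by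
  rw [sympForm_swap, form_bv]

theorem form_bv_bv_of_ne {j k : Fin m ⊕ Fin m} (h : k ≠ Sum.swap j) :
    sympForm m F (bv F j) (bv F k) = 0 := by
  rw [form_bv, bv_apply_ne, mul_zero]
  intro h'
  apply h
  rw [← h', Sum.swap_swap]

theorem form_bv_bv_swap (j : Fin m ⊕ Fin m) :
    sympForm m F (bv F j) (bv F (Sum.swap j)) = - sg F j := by
  rw [form_bv, Sum.swap_swap, bv_apply_same, mul_one, sg_swap]

theorem form_bv_bv_swap_ne_zero (j : Fin m ⊕ Fin m) :
    sympForm m F (bv F j) (bv F (Sum.swap j)) ≠ 0 := by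
  rw [form_bv_bv_swap]; exact neg_ne_zero.2 (sg_ne_zero j)

theorem swap_ne_self (j : Fin m ⊕ Fin m) : Sum.swap j ≠ j := by
  rcases j with j | j <;> simp

theorem J_mulVec (v : Fin m ⊕ Fin m → F) (j : Fin m ⊕ Fin m) :
    (Matrix.J (Fin m) F *ᵥ v) j = - (sg F j * v (Sum.swap j)) := by
  have h := bv_form v j
  unfold sympForm bv at h
  rw [single_one_dotProduct] at h
  exact h

variable (F₀ : Subfield F)

theorem IsRatV.J {v : Fin m ⊕ Fin m → F} (hv : IsRatV F₀ v) :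
    IsRatV F₀ (Matrix.J (Fin m) F *ᵥ v) := by
  intro j
  rw [J_mulVec]
  exact F₀.neg_mem (F₀.mul_mem (sg_mem F₀ j) (hv _))

theorem IsRatV.form {u v : Fin m ⊕ Fin m → F} (hu : IsRatV F₀ u) (hv : IsRatV F₀ v) :
    sympForm m F u v ∈ F₀ := by
  unfold sympForm
  exact IsRatV.dot hu (IsRatV.J F₀ hv)

theorem isRatM_sympTransvection {w : Fin m ⊕ Fin m → F} {c : F} (hw : IsRatV F₀ w)
    (hc : c ∈ F₀) : IsRatM F₀ (sympTransvection m w c) := by
  unfold sympTransvection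
  exact isRatM_one.add (IsRatM.smul hc (isRatM_vecMulVec hw (IsRatV.J F₀ hw)))

/-- the rational symplectic group -/
def ratSp (F₀ : Subfield F) (m : ℕ) : Subgroup (GL (Fin m ⊕ Fin m) F) where
  carrier := {g | g ∈ spGL m F ∧ IsRatM F₀ g.1 ∧ IsRatM F₀ (g⁻¹).1}
  mul_mem' := by
    rintro a b ⟨ha1, ha2, ha3⟩ ⟨hb1, hb2, hb3⟩
    refine ⟨(spGL m F).mul_mem ha1 hb1, ?_, ?_⟩
    · rw [Units.val_mul]; exact ha2.mul hb2
    · rw [_root_.mul_inv_rev, Units.val_mul]; exact hb3.mul ha3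
  one_mem' := by
    refine ⟨(spGL m F).one_mem, ?_, ?_⟩
    · rw [Units.val_one]; exact isRatM_one
    · rw [inv_one, Units.val_one]; exact isRatM_one
  inv_mem' := by
    rintro a ⟨ha1, ha2, ha3⟩
    refine ⟨(spGL m F).inv_mem ha1, ha3, ?_⟩
    rw [inv_inv]; exact ha2

theorem mem_ratSp (g : GL (Fin m ⊕ Fin m) F) :
    g ∈ ratSp F₀ m ↔ g ∈ spGL m F ∧ IsRatM F₀ g.1 ∧ IsRatM F₀ (g⁻¹).1 := Iff.rfl

theorem ratSp_le_spGL : ratSp F₀ m ≤ spGL m F := fun g hg => hg.1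

theorem ratSp_le : ratSp F₀ m ≤ Cfsg.Geo.subfieldSubgroup F₀ 1 ⊓ spGL m F := by
  intro g hg
  refine Subgroup.mem_inf.2 ⟨?_, hg.1⟩
  rw [mem_subfield_iff']
  exact ⟨1, one_ne_zero, fun i j => by rw [one_mul]; exact hg.2.1 i j⟩

theorem ratSp_mulVec {g : GL (Fin m ⊕ Fin m) F} (hg : g ∈ ratSp F₀ m)
    {v : Fin m ⊕ Fin m → F} (hv : IsRatV F₀ v) : IsRatV F₀ (g.1 *ᵥ v) := hg.2.1.mulVec hv

theorem tvGL_inv (v : Fin m ⊕ Fin m → F) (c : F) : (tvGL m v c)⁻¹ = tvGL m v (-c) := by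
  apply Units.ext
  rfl

theorem tvGL_mul (v : Fin m ⊕ Fin m → F) (c d : F) :
    tvGL m v c * tvGL m v d = tvGL m v (c + d) := by
  apply Units.ext
  exact sympTransvection_mul m v c d

theorem tvGL_zero (v : Fin m ⊕ Fin m → F) : tvGL m v 0 = 1 := by
  apply Units.ext
  exact sympTransvection_zero m v

theorem tvGL_smul (a : F) (v : Fin m ⊕ Fin m → F) (c : F) :
    tvGL m (a • v) c = tvGL m v (a * a * c) := by
  apply gl_ext
  intro x
  rw [tvGL_mulVec, tvGL_mulVec, sympForm_smul_right, smul_smul]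
  congr 2
  ring

theorem tvGL_mem_ratSp {w : Fin m ⊕ Fin m → F} {c : F} (hw : IsRatV F₀ w) (hc : c ∈ F₀) :
    tvGL m w c ∈ ratSp F₀ m := by
  refine ⟨tvGL_mem m w c, isRatM_sympTransvection F₀ hw hc, ?_⟩
  rw [tvGL_inv]
  exact isRatM_sympTransvection F₀ hw (F₀.neg_mem hc)

/-- conjugation of a transvection inside a subgroup of the symplectic group -/
theorem conj_tvGL_mem {H : Subgroup (GL (Fin m ⊕ Fin m) F)} (hH : H ≤ spGL m F)
    {g : GL (Fin m ⊕ Fin m) F} (hg : g ∈ H) {v : Fin m ⊕ Fin m → F} {c : F}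
    (h : tvGL m v c ∈ H) : tvGL m (g.1 *ᵥ v) c ∈ H := by
  rw [← conj_tvGL m g (hH hg)]
  exact H.mul_mem (H.mul_mem hg h) (H.inv_mem hg)

theorem spGL_form {g : GL (Fin m ⊕ Fin m) F} (hg : g ∈ spGL m F) (u v : Fin m ⊕ Fin m → F) :
    sympForm m F (g.1 *ᵥ u) (g.1 *ᵥ v) = sympForm m F u v := (mem_spGL_iff m g).1 hg u v

end Symp

end Cfsg.Agent.Lib.Helper2.Ssf
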