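import Mathlib
import Cfsg.Agent.Lib.Helper2.SsfA
set_option autoImplicit false
set_option maxHeartbeats 1000000
set_option linter.unusedVariables false
set_option linter.unusedSectionVars false
set_option linter.style.longLine false
set_option linter.unusedSimpArgs false
set_option linter.deprecated false
set_option linter.style.haveILetI false

/-! Subfield subgroups of `Sp_{2m}` are maximal (part B): short root elements, and the transitivity
of the rational symplectic group on rational vectors and on rational isotropic pairs. -/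

namespace Cfsg.Agent.Lib.Helper2.Ssf

open Matrix Cfsg Cfsg.Agent.Lib.Helper5.SympTv Cfsg.Agent.Lib.Helper5.SympGen
  Cfsg.Agent.Lib.Helper5.SympBridge Cfsg.Agent.Lib.Helper5.SpCentres

universe u

section Form

variable {F : Type u} [Field F] {m : ℕ}

theorem form_zero_left (v : Fin m ⊕ Fin m → F) : sympForm m F 0 v = 0 := by
  have := sympForm_smul_left m (0 : F) (0 : Fin m ⊕ Fin m → F) v
  rwa [zero_smul, zero_mul] at this

theorem form_zero_right (v : Fin m ⊕ Fin m → F) : sympForm m F v 0 = 0 := by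
  have := sympForm_smul_right m (0 : F) v (0 : Fin m ⊕ Fin m → F)
  rwa [zero_smul, zero_mul] at this

theorem form_neg_left (u v : Fin m ⊕ Fin m → F) : sympForm m F (-u) v = - sympForm m F u v := by
  have := sympForm_smul_left m (-1 : F) u v
  rwa [neg_one_smul, neg_one_mul] at this

theorem form_neg_right (u v : Fin m ⊕ Fin m → F) : sympForm m F u (-v) = - sympForm m F u v := by
  have := sympForm_smul_right m (-1 : F) u v
  rwa [neg_one_smul, neg_one_mul] at this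

theorem form_eq_zero_symm {u v : Fin m ⊕ Fin m → F} (h : sympForm m F u v = 0) :
    sympForm m F v u = 0 := by
  rw [sympForm_swap, h, neg_zero]

/-- the short root element `x ↦ x + a (ω(x, v) w + ω(x, w) v)`, as a product of transvections -/
noncomputable def sGL (m : ℕ) (v w : Fin m ⊕ Fin m → F) (a : F) : GL (Fin m ⊕ Fin m) F :=
  tvGL m (v + w) a * tvGL m v (-a) * tvGL m w (-a)

theorem sGL_mulVec {v w : Fin m ⊕ Fin m → F} (h : sympForm m F v w = 0) (a : F)
    (x : Fin m ⊕ Fin m → F) :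
    (sGL m v w a).1 *ᵥ x = x + a • (sympForm m F x v • w + sympForm m F x w • v) := by
  have h' := form_eq_zero_symm h
  unfold sGL
  rw [gl_mul_mulVec, gl_mul_mulVec, tvGL_mulVec, tvGL_mulVec, tvGL_mulVec]
  simp only [sympForm_add_left, sympForm_add_right, sympForm_smul_left, sympForm_self, h, h',
    mul_zero, add_zero, zero_add]
  module

theorem sGL_mem_ratSp (F₀ : Subfield F) {v w : Fin m ⊕ Fin m → F} {a : F} (hv : IsRatV F₀ v)
    (hw : IsRatV F₀ w) (ha : a ∈ F₀) : sGL m v w a ∈ ratSp F₀ m := by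
  unfold sGL
  exact (ratSp F₀ m).mul_mem ((ratSp F₀ m).mul_mem (tvGL_mem_ratSp F₀ (hv.add hw) ha)
    (tvGL_mem_ratSp F₀ hv (F₀.neg_mem ha))) (tvGL_mem_ratSp F₀ hw (F₀.neg_mem ha))

theorem sGL_smul_left {v w : Fin m ⊕ Fin m → F} (h : sympForm m F v w = 0) (c a : F) :
    sGL m (c • v) w a = sGL m v w (c * a) := by
  apply gl_ext
  intro x
  rw [sGL_mulVec (by rw [sympForm_smul_left, h, mul_zero]), sGL_mulVec h, sympForm_smul_right]
  module

theorem sGL_symm {v w : Fin m ⊕ Fin m → F} (h : sympForm m F v w = 0) (a : F) :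
    sGL m v w a = sGL m w v a := by
  apply gl_ext
  intro x
  rw [sGL_mulVec h, sGL_mulVec (form_eq_zero_symm h)]
  module

/-- three mutually orthogonal vectors: splitting off a short root element -/
theorem triple_identity {v₁ v₂ v₃ : Fin m ⊕ Fin m → F} (h12 : sympForm m F v₁ v₂ = 0)
    (h13 : sympForm m F v₁ v₃ = 0) (h23 : sympForm m F v₂ v₃ = 0) (c κ : F) :
    tvGL m (v₁ + v₃ + κ • v₂) c * tvGL m (v₁ + κ • v₂) (-c) * tvGL m v₃ (-c) =
      sGL m v₁ v₃ c * sGL m v₂ v₃ (c * κ) := by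
  have h21 := form_eq_zero_symm h12
  have h31 := form_eq_zero_symm h13
  have h32 := form_eq_zero_symm h23
  apply gl_ext
  intro x
  rw [gl_mul_mulVec, gl_mul_mulVec, gl_mul_mulVec, sGL_mulVec h13, sGL_mulVec h23, tvGL_mulVec,
    tvGL_mulVec, tvGL_mulVec]
  simp only [sympForm_add_left, sympForm_add_right, sympForm_smul_left, sympForm_smul_right,
    sympForm_self, h12, h13, h23, h21, h31, h32, mul_zero, add_zero, zero_add]
  module

end Form

section Move

variable {F : Type u} [Field F] {m : ℕ} (F₀ : Subfield F)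

/-- one rational transvection moving `x` to `y`, fixing `a` -/
theorem move_step {x y a : Fin m ⊕ Fin m → F} (hx : IsRatV F₀ x) (hy : IsRatV F₀ y)
    (hxy : sympForm m F x y ≠ 0) (ha : sympForm m F a x = sympForm m F a y) :
    ∃ g ∈ ratSp F₀ m, g.1 *ᵥ x = y ∧ g.1 *ᵥ a = a := by
  refine ⟨tvGL m (x - y) (sympForm m F x y)⁻¹,
    tvGL_mem_ratSp F₀ (hx.sub hy) (F₀.inv_mem (hx.form F₀ hy)), ?_, ?_⟩
  · rw [tvGL_mulVec, sympForm_sub_right, sympForm_self, zero_sub, mul_neg, inv_mul_cancel₀ hxy]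
    module
  · rw [tvGL_mulVec, sympForm_sub_right, ha, sub_self, mul_zero, zero_smul, add_zero]

/-- two rational transvections moving `x` to `y`, fixing `a` -/
theorem move_two {x y a z₁ z₂ : Fin m ⊕ Fin m → F} (hx : IsRatV F₀ x) (hy : IsRatV F₀ y)
    (hz₁ : IsRatV F₀ z₁) (hz₂ : IsRatV F₀ z₂) (hxa : sympForm m F a x = 0)
    (hya : sympForm m F a y = 0) (hz₁a : sympForm m F a z₁ = 0) (hz₂a : sympForm m F a z₂ = 0)
    (h1 : sympForm m F x z₁ ≠ 0) (h2 : sympForm m F y z₂ ≠ 0) :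
    ∃ g ∈ ratSp F₀ m, g.1 *ᵥ x = y ∧ g.1 *ᵥ a = a := by
  by_cases hxy : sympForm m F x y = 0
  · obtain ⟨z, hz, hza, hxz, hyz⟩ : ∃ z, IsRatV F₀ z ∧ sympForm m F a z = 0 ∧
        sympForm m F x z ≠ 0 ∧ sympForm m F y z ≠ 0 := by
      by_cases h3 : sympForm m F y z₁ = 0
      · by_cases h4 : sympForm m F x z₂ = 0
        · refine ⟨z₁ + z₂, hz₁.add hz₂, ?_, ?_, ?_⟩
          · rw [sympForm_add_right, hz₁a, hz₂a, add_zero]
          · rw [sympForm_add_right, h4, add_zero]; exact h1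
          · rw [sympForm_add_right, h3, zero_add]; exact h2
        · exact ⟨z₂, hz₂, hz₂a, h4, h2⟩
      · exact ⟨z₁, hz₁, hz₁a, h1, h3⟩
    obtain ⟨g₁, hg₁, hg₁x, hg₁a⟩ := move_step F₀ hx hz hxz (by rw [hxa, hza])
    have hzy : sympForm m F z y ≠ 0 := by
      rw [sympForm_swap]; exact neg_ne_zero.2 hyz
    obtain ⟨g₂, hg₂, hg₂z, hg₂a⟩ := move_step F₀ hz hy hzy (by rw [hza, hya])
    refine ⟨g₂ * g₁, (ratSp F₀ m).mul_mem hg₂ hg₁, ?_, ?_⟩
    · rw [gl_mul_mulVec, hg₁x, hg₂z]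
    · rw [gl_mul_mulVec, hg₁a, hg₂a]
  · exact move_step F₀ hx hy hxy (by rw [hxa, hya])

/-- the rational symplectic group is transitive on non-zero rational vectors -/
theorem exists_move_bv {x : Fin m ⊕ Fin m → F} (hx : IsRatV F₀ x) (hx0 : x ≠ 0)
    (j : Fin m ⊕ Fin m) : ∃ g ∈ ratSp F₀ m, g.1 *ᵥ x = bv F j := by
  obtain ⟨i, hi⟩ : ∃ i, x i ≠ 0 := by
    by_contra h; push Not at h; exact hx0 (funext h)
  obtain ⟨g, hg, hgx, -⟩ := move_two F₀ (a := 0) (z₁ := bv F (Sum.swap i))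
    (z₂ := bv F (Sum.swap j)) hx (isRatV_bv F₀ j) (isRatV_bv F₀ _) (isRatV_bv F₀ _)
    (form_zero_left _) (form_zero_left _) (form_zero_left _) (form_zero_left _)
    (by
      rw [form_bv, Sum.swap_swap]
      exact mul_ne_zero (sg_ne_zero _) hi)
    (form_bv_bv_swap_ne_zero j)
  exact ⟨g, hg, hgx⟩

/-- moving a rational vector of `b_j^⊥` to a basis vector while fixing `b_j` -/
theorem exists_move_fix {x : Fin m ⊕ Fin m → F} (hx : IsRatV F₀ x) (j k : Fin m ⊕ Fin m)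
    (hk : k ≠ j) (hk' : k ≠ Sum.swap j) (hxj : sympForm m F (bv F j) x = 0)
    (hx' : ∃ i, i ≠ j ∧ i ≠ Sum.swap j ∧ x i ≠ 0) :
    ∃ g ∈ ratSp F₀ m, g.1 *ᵥ x = bv F k ∧ g.1 *ᵥ bv F j = bv F j := by
  obtain ⟨i, hij, hij', hi⟩ := hx'
  refine move_two F₀ (a := bv F j) (z₁ := bv F (Sum.swap i)) (z₂ := bv F (Sum.swap k)) hx
    (isRatV_bv F₀ k) (isRatV_bv F₀ _) (isRatV_bv F₀ _) hxj (form_bv_bv_of_ne hk') ?_ ?_ ?_
    (form_bv_bv_swap_ne_zero k)
  · apply form_bv_bv_of_ne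
    intro h
    exact hij (Sum.swap_leftInverse.injective h)
  · apply form_bv_bv_of_ne
    intro h
    exact hk (Sum.swap_leftInverse.injective h)
  · rw [form_bv, Sum.swap_swap]
    exact mul_ne_zero (sg_ne_zero _) hi

/-- the rational symplectic group is transitive on rational isotropic pairs -/
theorem exists_move_pair {w₁ w₂ : Fin m ⊕ Fin m → F} (h₁ : IsRatV F₀ w₁) (h₂ : IsRatV F₀ w₂)
    (h0 : sympForm m F w₁ w₂ = 0) (hw₁ : w₁ ≠ 0) (hind : ∀ c : F, w₂ ≠ c • w₁)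
    (j k : Fin m ⊕ Fin m) (hk : k ≠ j) (hk' : k ≠ Sum.swap j) :
    ∃ g ∈ ratSp F₀ m, g.1 *ᵥ w₁ = bv F j ∧ g.1 *ᵥ w₂ = bv F k := by
  obtain ⟨g₁, hg₁, hg₁w⟩ := exists_move_bv F₀ h₁ hw₁ j
  set x := g₁.1 *ᵥ w₂ with hxdef
  have hx : IsRatV F₀ x := ratSp_mulVec F₀ hg₁ h₂
  have hxj : sympForm m F (bv F j) x = 0 := by
    rw [← hg₁w, hxdef, spGL_form (ratSp_le_spGL F₀ hg₁), h0]
  have hx' : ∃ i, i ≠ j ∧ i ≠ Sum.swap j ∧ x i ≠ 0 := by
    by_contra hcon
    push Not at hcon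
    have hsw : x (Sum.swap j) = 0 := by
      rw [bv_form] at hxj
      rcases mul_eq_zero.1 (neg_eq_zero.1 hxj) with h | h
      · exact absurd h (sg_ne_zero j)
      · exact h
    have hxe : x = x j • bv F j := by
      funext i
      rw [Pi.smul_apply, smul_eq_mul]
      by_cases hij : i = j
      · subst hij; rw [bv_apply_same, mul_one]
      · rw [bv_apply_ne hij, mul_zero]
        by_cases hij' : i = Sum.swap j
        · rw [hij', hsw]
        · exact hcon i hij hij'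
    apply hind (x j)
    have h3 : g₁.1 *ᵥ w₂ = g₁.1 *ᵥ (x j • w₁) := by
      rw [Matrix.mulVec_smul, hg₁w, ← hxe]
    have h4 := congrArg (fun y => (g₁⁻¹).1 *ᵥ y) h3
    simp only [gl_inv_mulVec_cancel] at h4
    exact h4
  obtain ⟨g₂, hg₂, hg₂x, hg₂j⟩ := exists_move_fix F₀ hx j k hk hk' hxj hx'
  refine ⟨g₂ * g₁, (ratSp F₀ m).mul_mem hg₂ hg₁, ?_, ?_⟩
  · rw [gl_mul_mulVec, hg₁w, hg₂j]
  · rw [gl_mul_mulVec, ← hxdef, hg₂x]

end Move

end Cfsg.Agent.Lib.Helper2.Ssf
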