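import Mathlib
import Cfsg.Agent.Lib.Helper2.SsfB
import Cfsg.Agent.Lib.Helper2.SfmB
set_option autoImplicit false
set_option maxHeartbeats 1000000
set_option linter.unusedVariables false
set_option linter.unusedSectionVars false
set_option linter.style.longLine false
set_option linter.unusedSimpArgs false
set_option linter.deprecated false
set_option linter.style.haveILetI false

/-! Subfield subgroups of `Sp_{2m}` are maximal (part C): the Levi embedding of `GL_m`, the
pull-back of an overgroup to `GL_m`, and the case in which the pull-back contains `SL_m`. -/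

namespace Cfsg.Agent.Lib.Helper2.Ssf

open Matrix Cfsg Cfsg.Agent.Lib.Helper5.SympTv Cfsg.Agent.Lib.Helper5.SympGen
  Cfsg.Agent.Lib.Helper5.SympBridge Cfsg.Agent.Lib.Helper5.SpCentres
  Cfsg.Agent.Lib.Helper5.TvGL Cfsg.Agent.Lib.Helper2.Sfm

universe u

section Levi

variable {F : Type u} [Field F] {m : ℕ}

/-- the Levi embedding `g ↦ diag(g, g⁻ᵀ)` -/
noncomputable def dg (m : ℕ) : GL (Fin m) F →* GL (Fin m ⊕ Fin m) F where
  toFun g := ⟨fromBlocks g.1 0 0 ((g⁻¹).1)ᵀ, fromBlocks (g⁻¹).1 0 0 (g.1)ᵀ, by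
      rw [fromBlocks_multiply, ← Units.val_mul, mul_inv_cancel, ← Matrix.transpose_mul,
        ← Units.val_mul, mul_inv_cancel]
      simp, by
      rw [fromBlocks_multiply, ← Units.val_mul, inv_mul_cancel, ← Matrix.transpose_mul,
        ← Units.val_mul, inv_mul_cancel]
      simp⟩
  map_one' := by
    apply Units.ext
    simp
  map_mul' g h := by
    apply Units.ext
    show fromBlocks (g * h).1 0 0 (((g * h)⁻¹).1)ᵀ =
      fromBlocks g.1 0 0 ((g⁻¹).1)ᵀ * fromBlocks h.1 0 0 ((h⁻¹).1)ᵀ
    rw [fromBlocks_multiply, _root_.mul_inv_rev, Units.val_mul, Units.val_mul,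
      Matrix.transpose_mul]
    simp

theorem dg_val (g : GL (Fin m) F) : (dg m g).1 = fromBlocks g.1 0 0 ((g⁻¹).1)ᵀ := rfl

/-- vectors of the first Lagrangian -/
def inlV (u : Fin m → F) : Fin m ⊕ Fin m → F := Sum.elim u 0

/-- vectors of the second Lagrangian -/
def inrV (ψ : Fin m → F) : Fin m ⊕ Fin m → F := Sum.elim 0 ψ

theorem dg_mulVec (g : GL (Fin m) F) (x : Fin m ⊕ Fin m → F) :
    (dg m g).1 *ᵥ x = Sum.elim (g.1 *ᵥ (x ∘ Sum.inl)) (((g⁻¹).1)ᵀ *ᵥ (x ∘ Sum.inr)) := by
  rw [dg_val, fromBlocks_mulVec]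
  simp

theorem dg_mulVec_inlV (g : GL (Fin m) F) (u : Fin m → F) :
    (dg m g).1 *ᵥ inlV u = inlV (g.1 *ᵥ u) := by
  rw [dg_mulVec]
  unfold inlV
  congr 1
  have : (Sum.elim u (0 : Fin m → F)) ∘ Sum.inr = 0 := by
    funext i; simp
  rw [this, Matrix.mulVec_zero]

theorem inlV_single (i : Fin m) : inlV (Pi.single i (1 : F)) = bv F (Sum.inl i) := by
  funext j
  unfold inlV bv
  rcases j with j | j
  · by_cases h : j = i
    · subst h; simp
    · simp [Pi.single_eq_of_ne h, h]
  · simp

theorem inrV_single (i : Fin m) : inrV (Pi.single i (1 : F)) = bv F (Sum.inr i) := by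
  funext j
  unfold inrV bv
  rcases j with j | j
  · simp
  · by_cases h : j = i
    · subst h; simp
    · simp [Pi.single_eq_of_ne h, h]

theorem inlV_smul (c : F) (u : Fin m → F) : inlV (c • u) = c • inlV u := by
  funext j
  unfold inlV
  rcases j with j | j <;> simp

theorem form_inlV (x : Fin m ⊕ Fin m → F) (u : Fin m → F) :
    sympForm m F x (inlV u) = (x ∘ Sum.inr) ⬝ᵥ u := by
  unfold sympForm
  simp only [dotProduct, J_mulVec, Fintype.sum_sum_type, inlV, sg, Sum.swap_inl, Sum.swap_inr,
    Sum.elim_inl, Sum.elim_inr, Pi.zero_apply, mul_zero, neg_zero, Finset.sum_const_zero,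
    zero_add, Function.comp_apply]
  exact Finset.sum_congr rfl fun i _ => by ring

theorem form_inrV (x : Fin m ⊕ Fin m → F) (ψ : Fin m → F) :
    sympForm m F x (inrV ψ) = - ((x ∘ Sum.inl) ⬝ᵥ ψ) := by
  unfold sympForm
  simp only [dotProduct, J_mulVec, Fintype.sum_sum_type, inrV, sg, Sum.swap_inl, Sum.swap_inr,
    Sum.elim_inl, Sum.elim_inr, Pi.zero_apply, mul_zero, neg_zero, Finset.sum_const_zero,
    add_zero, Function.comp_apply]
  rw [← Finset.sum_neg_distrib]
  exact Finset.sum_congr rfl fun i _ => by ring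

theorem form_inlV_inrV (u ψ : Fin m → F) :
    sympForm m F (inlV u) (inrV ψ) = - (u ⬝ᵥ ψ) := by
  rw [form_inrV]
  congr 2

theorem isRatV_inlV (F₀ : Subfield F) {u : Fin m → F} (hu : Sfm.IsRat F₀ u) :
    IsRatV F₀ (inlV u) := by
  intro j
  unfold inlV
  rcases j with j | j
  · exact hu j
  · exact F₀.zero_mem

theorem isRatV_inrV (F₀ : Subfield F) {u : Fin m → F} (hu : Sfm.IsRat F₀ u) :
    IsRatV F₀ (inrV u) := by
  intro j
  unfold inrV
  rcases j with j | j
  · exact F₀.zero_mem
  · exact hu j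

/-- the Levi image of a transvection is a short root element -/
theorem dg_tvG (u ψ : Fin m → F) (h : ψ ⬝ᵥ u = 0) :
    dg m (tvG u ψ h) = sGL m (inlV u) (inrV ψ) (-1) := by
  have h' : sympForm m F (inlV u) (inrV ψ) = 0 := by
    rw [form_inlV_inrV, dotProduct_comm, h, neg_zero]
  apply gl_ext
  intro x
  rw [dg_mulVec, sGL_mulVec h', tvG_val, tvG_inv_val, form_inlV, form_inrV, tvMat_mulVec,
    Matrix.mulVec_transpose, vecMul_tvMat]
  rw [dotProduct_comm ψ]
  funext j
  rcases j with j | j
  · simp [inlV, inrV]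
  · simp [inlV, inrV]

end Levi

section Pull

variable {F : Type u} [Field F] [Fintype F] {m : ℕ} (F₀ : Subfield F)
  {H : Subgroup (GL (Fin m ⊕ Fin m) F)}

/-- the pull-back of an overgroup of the rational symplectic group contains the rational
transvections of `GL_m` -/
theorem hasRat_comap (hR : ratSp F₀ m ≤ H) : HasRat F₀ (H.comap (dg m)) := by
  intro u ψ hu hψ h
  refine ⟨tvG u ψ h, ?_, rfl⟩
  show dg m (tvG u ψ h) ∈ H
  rw [dg_tvG]
  exact hR (sGL_mem_ratSp F₀ (isRatV_inlV F₀ hu) (isRatV_inrV F₀ hψ)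
    (F₀.neg_mem F₀.one_mem))

/-- a Levi short root element of `H` has a rational parameter when the pull-back has no bad
transvections -/
theorem sGL_param_mem (hN : NoBad F₀ (H.comap (dg m))) {i j : Fin m} (hij : i ≠ j) {κ : F}
    (h : sGL m (bv F (Sum.inl i)) (bv F (Sum.inr j)) κ ∈ H) : κ ∈ F₀ := by
  have hdot : (Pi.single j (1 : F) : Fin m → F) ⬝ᵥ ((-κ) • (Pi.single i (1 : F) : Fin m → F)) = 0 :=
    single_dot_smul_single hij (-κ)
  have h0 : sympForm m F (bv F (Sum.inl i)) (bv F (Sum.inr j)) = 0 := by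
    apply form_bv_bv_of_ne
    simp [hij.symm]
  have key : dg m (tvG ((-κ) • (Pi.single i (1 : F) : Fin m → F)) (Pi.single j 1) hdot) =
      sGL m (bv F (Sum.inl i)) (bv F (Sum.inr j)) κ := by
    rw [dg_tvG, inlV_smul, inlV_single, inrV_single, sGL_smul_left h0]
    congr 1
    ring
  have hT : TvIn (H.comap (dg m)) ((-κ) • (Pi.single i (1 : F) : Fin m → F)) (Pi.single j 1) := by
    refine ⟨tvG _ _ hdot, ?_, rfl⟩
    show dg m (tvG _ _ hdot) ∈ H
    rw [key]; exact h
  have h1 : (Pi.single i (1 : F) : Fin m → F) ≠ 0 := by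
    intro h
    have := congrFun h i
    simp at this
  have h2 : (Pi.single j (1 : F) : Fin m → F) ≠ 0 := by
    intro h
    have := congrFun h j
    simp at this
  have h3 : (Pi.single j (1 : F) : Fin m → F) ⬝ᵥ (Pi.single i (1 : F) : Fin m → F) = 0 := by
    have := single_dot_smul_single (F := F) hij 1
    rwa [one_smul] at this
  have := hN _ _ (isRat_single i F₀.one_mem) (isRat_single j F₀.one_mem) h1 h2 h3 (-κ) hT
  have h4 := F₀.neg_mem this
  rwa [neg_neg] at h4

end Pull

section Big

variable {F : Type u} [Field F] [Fintype F] {m : ℕ} (F₀ : Subfield F)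
  {H : Subgroup (GL (Fin m ⊕ Fin m) F)}

/-- a diagonal element of `SL_m` scaling the `i₁`-th basis vector -/
theorem exists_scale {i₁ i₂ : Fin m} (h12 : i₁ ≠ i₂) {lam : F} (hlam : lam ≠ 0) :
    ∃ g : GL (Fin m) F, g ∈ Cfsg.Geo.specialLinear (Fin m) F ∧
      g.1 *ᵥ (Pi.single i₁ (1 : F)) = lam • (Pi.single i₁ (1 : F) : Fin m → F) := by
  classical
  set d : Fin m → F := fun i => if i = i₁ then lam else if i = i₂ then lam⁻¹ else 1 with hd
  have hdet : (Matrix.diagonal d).det = 1 := by
    rw [Matrix.det_diagonal, Fintype.prod_eq_mul i₁ i₂ h12]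
    · simp only [hd, if_true, if_neg h12.symm]
      exact mul_inv_cancel₀ hlam
    · intro c hc
      simp only [hd, if_neg hc.1, if_neg hc.2]
  refine ⟨Matrix.GeneralLinearGroup.mkOfDetNeZero (Matrix.diagonal d) (by rw [hdet]; exact one_ne_zero),
    ?_, ?_⟩
  · rw [Cfsg.Agent.Lib.Helper5.SLSubspaceMax.mem_specialLinear_iff]; exact hdet
  · show Matrix.diagonal d *ᵥ _ = _
    funext i
    rw [Matrix.mulVec_diagonal, Pi.smul_apply, smul_eq_mul]
    by_cases h : i = i₁
    · subst h; simp [hd]
    · rw [Pi.single_eq_of_ne h, mul_zero, mul_zero]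

/-- every element of a finite field is a difference of squares or a square -/
theorem exists_sq_sub_sq (c : F) : ∃ x y : F, c = x * x - y * y := by
  by_cases h2 : (2 : F) = 0
  · have hchar : ringChar F = 2 := CharP.ringChar_of_prime_eq_zero Nat.prime_two h2
    obtain ⟨b, hb⟩ := FiniteField.isSquare_of_char_two hchar c
    exact ⟨b, 0, by rw [hb]; ring⟩
  · refine ⟨(c + 1) / 2, (c - 1) / 2, ?_⟩
    field_simp
    ring

/-- when the pull-back contains `SL_m`, the basis vector `b_{inl i₁}` is a centre -/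
theorem isCentre_bv_of_SL (hm : 2 ≤ m) (hR : ratSp F₀ m ≤ H) (hH : H ≤ spGL m F)
    (hSL : Cfsg.Geo.specialLinear (Fin m) F ≤ H.comap (dg m)) (i₁ : Fin m) :
    IsCentre m H (bv F (Sum.inl i₁)) := by
  obtain ⟨i₂, h12⟩ : ∃ i₂ : Fin m, i₁ ≠ i₂ := by
    by_cases h : (i₁ : ℕ) = 0
    · exact ⟨⟨1, by omega⟩, fun h' => by
        have := congrArg Fin.val h'
        simp at this
        omega⟩
    · exact ⟨⟨0, by omega⟩, fun h' => by
        have := congrArg Fin.val h'
        simp at this
        omega⟩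
  set e₁ := bv F (Sum.inl i₁) with he₁
  have hsq : ∀ lam c : F, tvGL m e₁ c ∈ H → tvGL m e₁ (lam * lam * c) ∈ H := by
    intro lam c hc
    by_cases hlam : lam = 0
    · rw [hlam, zero_mul, zero_mul, tvGL_zero]; exact H.one_mem
    obtain ⟨g, hg, hge⟩ := exists_scale h12 hlam
    have hgH : dg m g ∈ H := hSL hg
    have := conj_tvGL_mem hH hgH hc
    rw [he₁, ← inlV_single, dg_mulVec_inlV, hge, inlV_smul, inlV_single, tvGL_smul] at this
    exact this
  have h1 : tvGL m e₁ 1 ∈ H := hR (tvGL_mem_ratSp F₀ (isRatV_bv F₀ _) F₀.one_mem)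
  have hsq1 : ∀ lam : F, tvGL m e₁ (lam * lam) ∈ H := by
    intro lam
    have := hsq lam 1 h1
    rwa [mul_one] at this
  intro c
  obtain ⟨x, y, hxy⟩ := exists_sq_sub_sq c
  rw [hxy, sub_eq_add_neg, ← tvGL_mul, ← tvGL_inv]
  exact H.mul_mem (hsq1 x) (H.inv_mem (hsq1 y))

/-- all non-zero rational vectors are centres -/
theorem isCentre_rat_of_SL (hm : 2 ≤ m) (hR : ratSp F₀ m ≤ H) (hH : H ≤ spGL m F)
    (hSL : Cfsg.Geo.specialLinear (Fin m) F ≤ H.comap (dg m)) {w : Fin m ⊕ Fin m → F}
    (hw : IsRatV F₀ w) (hw0 : w ≠ 0) : IsCentre m H w := by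
  obtain ⟨g, hg, hgw⟩ := exists_move_bv F₀ hw hw0 (Sum.inl (⟨0, by omega⟩ : Fin m))
  have h1 := isCentre_bv_of_SL F₀ hm hR hH hSL (⟨0, by omega⟩ : Fin m)
  have h2 := isCentre_mulVec hH g⁻¹ (H.inv_mem (hR hg)) h1
  rw [← hgw, gl_inv_mulVec_cancel] at h2
  exact h2

/-- when all non-zero rational vectors are centres, all vectors are -/
theorem isCentre_all (hH : H ≤ spGL m F)
    (hrat : ∀ w : Fin m ⊕ Fin m → F, IsRatV F₀ w → w ≠ 0 → IsCentre m H w) :
    ∀ (S : Finset (Fin m ⊕ Fin m)) (v : Fin m ⊕ Fin m → F), (∀ i, i ∉ S → v i = 0) →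
      IsCentre m H v := by
  classical
  intro S
  induction S using Finset.induction_on with
  | empty =>
    intro v hv
    have : v = 0 := funext fun i => hv i (Finset.notMem_empty i)
    rw [this]; exact isCentre_zero H
  | insert j S' hj ih =>
    intro v hv
    set v' : Fin m ⊕ Fin m → F := Function.update v j 0 with hv'
    have hvv : v = v' + v j • bv F j := by
      funext i
      rw [Pi.add_apply, Pi.smul_apply, smul_eq_mul]
      by_cases hij : i = j
      · subst hij; rw [hv', Function.update_self, bv_apply_same, mul_one, zero_add]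
      · rw [hv', Function.update_of_ne hij, bv_apply_ne hij, mul_zero, add_zero]
    have hv'j : v' j = 0 := by rw [hv', Function.update_self]
    have hsup : ∀ i, i ∉ S' → v' i = 0 := by
      intro i hi
      by_cases hij : i = j
      · rw [hij]; exact hv'j
      · rw [hv', Function.update_of_ne hij]
        apply hv
        rw [Finset.mem_insert]
        push Not
        exact ⟨hij, hi⟩
    have hc' : IsCentre m H v' := ih v' hsup
    have hbj : IsCentre m H (bv F j) := hrat _ (isRatV_bv F₀ j) (bv_ne_zero j)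
    by_cases hv0 : v' = 0
    · rw [hvv, hv0, zero_add]
      exact isCentre_smul _ hbj
    obtain ⟨i, hi⟩ : ∃ i, v' i ≠ 0 := by
      by_contra h; push Not at h; exact hv0 (funext h)
    have hij : i ≠ j := fun h => hi (by rw [h]; exact hv'j)
    by_cases h0 : sympForm m F v' (bv F j) = 0
    · set z := bv F (Sum.swap i) with hz
      have hz1 : sympForm m F v' z ≠ 0 := by
        rw [hz, form_bv, Sum.swap_swap]
        exact mul_ne_zero (sg_ne_zero _) hi
      have hz2 : sympForm m F z (bv F j) = 0 := by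
        apply form_bv_bv_of_ne
        rw [Sum.swap_swap]
        exact hij.symm
      have hji : j ≠ Sum.swap i := by
        intro h
        rw [form_bv] at h0
        rcases mul_eq_zero.1 h0 with h3 | h3
        · exact sg_ne_zero j h3
        · apply hi
          rw [h, Sum.swap_swap] at h3
          exact h3
      have hne : bv F j - z ≠ 0 := by
        intro h
        have := congrFun h j
        rw [Pi.sub_apply, bv_apply_same, hz, bv_apply_ne hji, sub_zero, Pi.zero_apply] at this
        exact one_ne_zero this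
      have hcz : IsCentre m H z := hrat _ (isRatV_bv F₀ _) (bv_ne_zero _)
      have hc1 : IsCentre m H (v' + v j • z) := isCentre_add_smul hH hcz hc' hz1 (v j)
      have hc2 : IsCentre m H (bv F j - z) :=
        hrat _ ((isRatV_bv F₀ j).sub (isRatV_bv F₀ _)) hne
      have hpair : sympForm m F (v' + v j • z) (bv F j - z) ≠ 0 := by
        rw [sympForm_add_left, sympForm_sub_right, sympForm_sub_right, sympForm_smul_left,
          sympForm_smul_left, h0, hz2, sympForm_self, mul_zero, sub_zero, zero_sub, add_zero]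
        exact neg_ne_zero.2 hz1
      have hc3 := isCentre_add_smul hH hc2 hc1 hpair (v j)
      have e : v' + v j • z + v j • (bv F j - z) = v := by
        rw [hvv]
        have : (v' + v j • bv F j) j = v j := by rw [← hvv]
        rw [this]
        module
      rw [e] at hc3
      exact hc3
    · have := isCentre_add_smul hH hbj hc' h0 (v j)
      rw [← hvv] at this
      exact this

/-- an overgroup of the rational symplectic group whose pull-back contains `SL_m` is everything -/
theorem spGL_le_of_SL (hm : 2 ≤ m) (hR : ratSp F₀ m ≤ H) (hH : H ≤ spGL m F)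
    (hSL : Cfsg.Geo.specialLinear (Fin m) F ≤ H.comap (dg m)) : spGL m F ≤ H := by
  apply spGL_le
  intro v
  exact isCentre_all F₀ hH (fun w hw hw0 => isCentre_rat_of_SL F₀ hm hR hH hSL hw hw0)
    Finset.univ v (fun i hi => absurd (Finset.mem_univ i) hi)

end Big

end Cfsg.Agent.Lib.Helper2.Ssf
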