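import Mathlib
import Cfsg.Agent.Lib.Helper2.SsfC
set_option autoImplicit false
set_option maxHeartbeats 1000000
set_option linter.unusedVariables false
set_option linter.unusedSectionVars false
set_option linter.style.longLine false
set_option linter.unusedSimpArgs false
set_option linter.deprecated false
set_option linter.style.haveILetI false

/-! Subfield subgroups of `Sp_{2m}` are maximal (part D): consequences of the absence of bad
transvections in the pull-back: rationality of the parameters of long root elements with rational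
centre, of root elements attached to rational isotropic pairs, and the commutator trick for
transvections whose centre is orthogonal to enough rational vectors. -/

namespace Cfsg.Agent.Lib.Helper2.Ssf

open Matrix Cfsg Cfsg.Agent.Lib.Helper5.SympTv Cfsg.Agent.Lib.Helper5.SympGen
  Cfsg.Agent.Lib.Helper5.SympBridge Cfsg.Agent.Lib.Helper5.SpCentres
  Cfsg.Agent.Lib.Helper5.TvGL Cfsg.Agent.Lib.Helper2.Sfm

universe u

section Ident

variable {F : Type u} [Field F] {m : ℕ}

/-- the double commutator identity -/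
theorem double_comm_identity {u w' w'' : Fin m ⊕ Fin m → F} (a β β'' : F)
    (h1 : sympForm m F u w' = 0) (h2 : sympForm m F w' w'' = 0)
    (h3 : sympForm m F u w'' = β'') :
    tvGL m (u + β • w') a * tvGL m u (-a) * tvGL m (u + β'' • w'') a *
        tvGL m (u + β • w' + β'' • w'') (-a) =
      tvGL m w'' (-1) * tvGL m (w'' + (-(a * β * β'')) • w') 1 := by
  have h1' : sympForm m F w' u = 0 := form_eq_zero_symm h1
  have h2' : sympForm m F w'' w' = 0 := form_eq_zero_symm h2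
  have h3' : sympForm m F w'' u = -β'' := by rw [sympForm_swap, h3]
  apply gl_ext
  intro x
  simp only [gl_mul_mulVec, tvGL_mulVec]
  simp only [sympForm_add_left, sympForm_add_right, sympForm_smul_left, sympForm_smul_right,
    sympForm_self, h1, h2, h3, h1', h2', h3', mul_zero, add_zero, zero_add, mul_neg, neg_zero]
  module

end Ident

section Param

variable {F : Type u} [Field F] [Fintype F] {m : ℕ} (F₀ : Subfield F)
  {H : Subgroup (GL (Fin m ⊕ Fin m) F)}

/-- transitivity of the rational symplectic group on non-zero rational vectors -/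
theorem exists_move_rat (hm : 1 ≤ m) {x y : Fin m ⊕ Fin m → F} (hx : IsRatV F₀ x)
    (hy : IsRatV F₀ y) (hx0 : x ≠ 0) (hy0 : y ≠ 0) : ∃ g ∈ ratSp F₀ m, g.1 *ᵥ x = y := by
  obtain ⟨g₁, hg₁, h1⟩ := exists_move_bv F₀ hx hx0 (Sum.inl (⟨0, by omega⟩ : Fin m))
  obtain ⟨g₂, hg₂, h2⟩ := exists_move_bv F₀ hy hy0 (Sum.inl (⟨0, by omega⟩ : Fin m))
  refine ⟨g₂⁻¹ * g₁, (ratSp F₀ m).mul_mem ((ratSp F₀ m).inv_mem hg₂) hg₁, ?_⟩
  rw [gl_mul_mulVec, h1, ← h2, gl_inv_mulVec_cancel]

/-- a transvection of `H` with rational centre has a rational parameter -/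
theorem tv_param_mem (hm : 2 ≤ m) (hR : ratSp F₀ m ≤ H) (hH : H ≤ spGL m F)
    (hN : NoBad F₀ (H.comap (dg m))) {w : Fin m ⊕ Fin m → F} (hw : IsRatV F₀ w) (hw0 : w ≠ 0)
    {c : F} (h : tvGL m w c ∈ H) : c ∈ F₀ := by
  set i₁ : Fin m := ⟨0, by omega⟩ with hi₁
  set i₂ : Fin m := ⟨1, by omega⟩ with hi₂
  have h12 : i₁ ≠ i₂ := by
    intro h'
    have := congrArg Fin.val h'
    simp [hi₁, hi₂] at this
  set e := bv F (Sum.inl i₁) with he
  set f := bv F (Sum.inr i₂) with hf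
  have hef : sympForm m F e f = 0 := by
    apply form_bv_bv_of_ne
    simp [h12.symm]
  have move : ∀ y : Fin m ⊕ Fin m → F, IsRatV F₀ y → y ≠ 0 → tvGL m y c ∈ H := by
    intro y hy hy0
    obtain ⟨g, hg, hgw⟩ := exists_move_rat F₀ (by omega) hw hy hw0 hy0
    have := conj_tvGL_mem hH (hR hg) h
    rwa [hgw] at this
  have hef0 : e + f ≠ 0 := by
    intro h'
    have := congrFun h' (Sum.inl i₁)
    rw [Pi.add_apply, he, hf, bv_apply_same, bv_apply_ne (by simp), add_zero, Pi.zero_apply] at this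
    exact one_ne_zero this
  have m1 := move e (isRatV_bv F₀ _) (bv_ne_zero _)
  have m2 := move f (isRatV_bv F₀ _) (bv_ne_zero _)
  have m3 := move (e + f) ((isRatV_bv F₀ _).add (isRatV_bv F₀ _)) hef0
  have hs : sGL m e f c ∈ H := by
    unfold sGL
    rw [← tvGL_inv, ← tvGL_inv]
    exact H.mul_mem (H.mul_mem m3 (H.inv_mem m1)) (H.inv_mem m2)
  exact sGL_param_mem F₀ hN h12 hs

/-- a transvection of `H` with rational parameter and centre in a rational isotropic plane -/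
theorem pair_param_mem (hm : 3 ≤ m) (hR : ratSp F₀ m ≤ H) (hH : H ≤ spGL m F)
    (hN : NoBad F₀ (H.comap (dg m))) {w₁ w₂ : Fin m ⊕ Fin m → F} (h₁ : IsRatV F₀ w₁)
    (h₂ : IsRatV F₀ w₂) (h0 : sympForm m F w₁ w₂ = 0) (hw₁ : w₁ ≠ 0)
    (hind : ∀ c : F, w₂ ≠ c • w₁) {c : F} (hc : c ∈ F₀) (hc0 : c ≠ 0) {κ : F}
    (h : tvGL m (w₁ + κ • w₂) c ∈ H) : κ ∈ F₀ := by
  set i₁ : Fin m := ⟨0, by omega⟩ with hi₁
  set i₂ : Fin m := ⟨1, by omega⟩ with hi₂
  set i₃ : Fin m := ⟨2, by omega⟩ with hi₃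
  have h12 : i₁ ≠ i₂ := by
    intro h'
    have := congrArg Fin.val h'
    simp [hi₁, hi₂] at this
  have h13 : i₁ ≠ i₃ := by
    intro h'
    have := congrArg Fin.val h'
    simp [hi₁, hi₃] at this
  have h23 : i₂ ≠ i₃ := by
    intro h'
    have := congrArg Fin.val h'
    simp [hi₂, hi₃] at this
  set v₁ := bv F (Sum.inl i₁) with hv₁
  set v₂ := bv F (Sum.inr i₂) with hv₂
  set v₃ := bv F (Sum.inl i₃) with hv₃
  set f₁ := bv F (Sum.inr i₁) with hf₁
  have o12 : sympForm m F v₁ v₂ = 0 := by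
    apply form_bv_bv_of_ne; simp [h12.symm]
  have o13 : sympForm m F v₁ v₃ = 0 := by
    apply form_bv_bv_of_ne; simp
  have o23 : sympForm m F v₂ v₃ = 0 := by
    apply form_bv_bv_of_ne; simp [h23.symm]
  have o3f : sympForm m F v₃ f₁ = 0 := by
    apply form_bv_bv_of_ne; simp [h13]
  have o2f : sympForm m F v₂ f₁ = 0 := by
    apply form_bv_bv_of_ne; simp
  have o1f : sympForm m F v₁ f₁ = -1 := by
    have := form_bv_bv_swap (F := F) (Sum.inl i₁)
    simpa [sg] using this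
  obtain ⟨g, hg, hg1, hg2⟩ := exists_move_pair F₀ h₁ h₂ h0 hw₁ hind (Sum.inl i₁) (Sum.inr i₂)
    (by simp) (by simp [h12.symm])
  have m1 : tvGL m (v₁ + κ • v₂) c ∈ H := by
    have := conj_tvGL_mem hH (hR hg) h
    rwa [Matrix.mulVec_add, Matrix.mulVec_smul, hg1, hg2] at this
  have hg' : sGL m v₃ f₁ (-1) ∈ ratSp F₀ m :=
    sGL_mem_ratSp F₀ (isRatV_bv F₀ _) (isRatV_bv F₀ _) (F₀.neg_mem F₀.one_mem)
  have m2 : tvGL m (v₁ + v₃ + κ • v₂) c ∈ H := by
    have := conj_tvGL_mem hH (hR hg') m1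
    rw [Matrix.mulVec_add, Matrix.mulVec_smul, sGL_mulVec o3f, sGL_mulVec o3f, o13, o1f, o23,
      o2f] at this
    have e : v₁ + (-1 : F) • ((0 : F) • f₁ + (-1 : F) • v₃) +
        κ • (v₂ + (-1 : F) • ((0 : F) • f₁ + (0 : F) • v₃)) = v₁ + v₃ + κ • v₂ := by
      module
    rwa [e] at this
  have key := triple_identity o12 o13 o23 c κ
  have m3 : sGL m v₁ v₃ c * sGL m v₂ v₃ (c * κ) ∈ H := by
    rw [← key, ← tvGL_inv, ← tvGL_inv]
    refine H.mul_mem (H.mul_mem m2 (H.inv_mem m1)) (H.inv_mem ?_)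
    exact hR (tvGL_mem_ratSp F₀ (isRatV_bv F₀ _) hc)
  have m4 : sGL m v₁ v₃ c ∈ H := hR (sGL_mem_ratSp F₀ (isRatV_bv F₀ _) (isRatV_bv F₀ _) hc)
  have m5 : sGL m v₂ v₃ (c * κ) ∈ H := by
    have := H.mul_mem (H.inv_mem m4) m3
    rwa [inv_mul_cancel_left] at this
  rw [sGL_symm o23] at m5
  have h6 := sGL_param_mem F₀ hN h23.symm m5
  have : κ = c⁻¹ * (c * κ) := by
    rw [← mul_assoc, inv_mul_cancel₀ hc0, one_mul]
  rw [this]
  exact F₀.mul_mem (F₀.inv_mem hc) h6

/-- the commutator trick: a transvection of `H` whose centre is orthogonal to a suitable non-zero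
rational vector -/
theorem low_param_mem (hm : 3 ≤ m) (hR : ratSp F₀ m ≤ H) (hH : H ≤ spGL m F)
    (hN : NoBad F₀ (H.comap (dg m))) {u : Fin m ⊕ Fin m → F} {a : F} (h : tvGL m u a ∈ H)
    {w w'' w' : Fin m ⊕ Fin m → F} (hw : IsRatV F₀ w) (hw'' : IsRatV F₀ w'')
    (hw' : IsRatV F₀ w') (hw'0 : w' ≠ 0) (h1 : sympForm m F w' u = 0)
    (h2 : sympForm m F w' w = 0) (h3 : sympForm m F w' w'' = 0) :
    a * sympForm m F u w * sympForm m F u w'' ∈ F₀ := by
  set β := sympForm m F u w with hβ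
  set β'' := sympForm m F u w'' with hβ''
  by_cases hz : β = 0 ∨ β'' = 0
  · rcases hz with hz | hz
    · rw [hz, mul_zero, zero_mul]; exact F₀.zero_mem
    · rw [hz, mul_zero]; exact F₀.zero_mem
  push Not at hz
  obtain ⟨hβ0, hβ''0⟩ := hz
  have h1' : sympForm m F u w' = 0 := form_eq_zero_symm h1
  have h2' : sympForm m F w w' = 0 := form_eq_zero_symm h2
  -- the conjugating elements
  have hs : sGL m w w' 1 ∈ ratSp F₀ m := sGL_mem_ratSp F₀ hw hw' F₀.one_mem
  have hτ : tvGL m w'' 1 ∈ ratSp F₀ m := tvGL_mem_ratSp F₀ hw'' F₀.one_mem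
  have hsu : (sGL m w w' 1).1 *ᵥ u = u + β • w' := by
    rw [sGL_mulVec h2', h1', ← hβ]
    module
  have hτu : (tvGL m w'' 1).1 *ᵥ u = u + β'' • w'' := by
    rw [tvGL_mulVec, ← hβ'', one_mul]
  have hτw' : (tvGL m w'' 1).1 *ᵥ w' = w' := by
    rw [tvGL_mulVec, h3, mul_zero, zero_smul, add_zero]
  have hneg : tvGL m u (-a) ∈ H := by
    rw [← tvGL_inv]; exact H.inv_mem h
  have A1 : tvGL m (u + β • w') a ∈ H := by
    have := conj_tvGL_mem hH (hR hs) h
    rwa [hsu] at this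
  have A1' : tvGL m (u + β • w') (-a) ∈ H := by
    rw [← tvGL_inv]; exact H.inv_mem A1
  have A3 : tvGL m (u + β'' • w'') a ∈ H := by
    have := conj_tvGL_mem hH (hR hτ) h
    rwa [hτu] at this
  have A4 : tvGL m (u + β • w' + β'' • w'') (-a) ∈ H := by
    have := conj_tvGL_mem hH (hR hτ) A1'
    rw [Matrix.mulVec_add, Matrix.mulVec_smul, hτu, hτw'] at this
    have e : u + β'' • w'' + β • w' = u + β • w' + β'' • w'' := by module
    rwa [e] at this
  have key := double_comm_identity a β β'' h1' h3 hβ''.symm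
  have B : tvGL m w'' (-1) * tvGL m (w'' + (-(a * β * β'')) • w') 1 ∈ H := by
    rw [← key]
    exact H.mul_mem (H.mul_mem (H.mul_mem A1 hneg) A3) A4
  have B' : tvGL m (w'' + (-(a * β * β'')) • w') 1 ∈ H := by
    have h5 : tvGL m w'' (-1) ∈ H := hR (tvGL_mem_ratSp F₀ hw'' (F₀.neg_mem F₀.one_mem))
    have := H.mul_mem (H.inv_mem h5) B
    rwa [inv_mul_cancel_left] at this
  have hw''0 : w'' ≠ 0 := by
    intro h0
    apply hβ''0
    rw [hβ'', h0, form_zero_right]
  have hind : ∀ c : F, w' ≠ c • w'' := by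
    intro c hc
    have h6 : sympForm m F u w' = c * β'' := by
      rw [hc, sympForm_smul_right]
    rw [h1'] at h6
    rcases mul_eq_zero.1 h6.symm with h7 | h7
    · apply hw'0
      rw [hc, h7, zero_smul]
    · exact hβ''0 h7
  have h8 := pair_param_mem F₀ hm hR hH hN hw'' hw' (form_eq_zero_symm h3) hw''0 hind F₀.one_mem
    one_ne_zero B'
  have := F₀.neg_mem h8
  rwa [neg_neg] at this

end Param

section Ker

variable {F : Type u} [Field F] {ι : Type} [Fintype ι] [DecidableEq ι] (F₀ : Subfield F)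

/-- fewer rational linear conditions than coordinates have a non-zero rational solution -/
theorem exists_rat_perp {k : ℕ} (φ : Fin k → ι → F) (hφ : ∀ i, IsRatV F₀ (φ i))
    (hk : k < Fintype.card ι) : ∃ w : ι → F, IsRatV F₀ w ∧ w ≠ 0 ∧ ∀ i, φ i ⬝ᵥ w = 0 := by
  classical
  let A : Matrix (Fin k) ι F₀ := fun i j => ⟨φ i j, hφ i j⟩
  have hlt : Module.finrank F₀ (Fin k → F₀) < Module.finrank F₀ (ι → F₀) := by
    rw [Module.finrank_fin_fun, Module.finrank_pi]; exact hk
  have hker := LinearMap.ker_ne_bot_of_finrank_lt (f := Matrix.mulVecLin A) hlt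
  obtain ⟨z, hz, hz0⟩ := (Submodule.ne_bot_iff _).1 hker
  rw [LinearMap.mem_ker, Matrix.mulVecLin_apply] at hz
  refine ⟨fun j => (z j : F), isRatV_coe z, ?_, ?_⟩
  · intro h
    apply hz0
    funext j
    have := congrFun h j
    simpa using this
  · intro i
    have h1 := congrArg (fun x : F₀ => (x : F)) (congrFun hz i)
    simp only [Matrix.mulVec, dotProduct, Pi.zero_apply, ZeroMemClass.coe_zero] at h1
    rw [← h1]
    simp only [dotProduct]
    push_cast
    rfl

end Ker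

section Low

variable {F : Type u} [Field F] [Fintype F] {m : ℕ} (F₀ : Subfield F)
  {H : Subgroup (GL (Fin m ⊕ Fin m) F)}

/-- a non-zero rational vector orthogonal to four given rational vectors -/
theorem exists_perp_four (hm : 3 ≤ m) {v₁ v₂ v₃ v₄ : Fin m ⊕ Fin m → F} (h₁ : IsRatV F₀ v₁)
    (h₂ : IsRatV F₀ v₂) (h₃ : IsRatV F₀ v₃) (h₄ : IsRatV F₀ v₄) :
    ∃ w : Fin m ⊕ Fin m → F, IsRatV F₀ w ∧ w ≠ 0 ∧ sympForm m F w v₁ = 0 ∧
      sympForm m F w v₂ = 0 ∧ sympForm m F w v₃ = 0 ∧ sympForm m F w v₄ = 0 := by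
  have hcard : 4 < Fintype.card (Fin m ⊕ Fin m) := by
    rw [Fintype.card_sum, Fintype.card_fin]; omega
  obtain ⟨w, hw, hw0, hperp⟩ := exists_rat_perp F₀
    (fun i : Fin 4 => Matrix.J (Fin m) F *ᵥ (![v₁, v₂, v₃, v₄] i))
    (by
      intro i
      apply IsRatV.J
      fin_cases i
      · exact h₁
      · exact h₂
      · exact h₃
      · exact h₄) hcard
  have hf : ∀ v : Fin m ⊕ Fin m → F, sympForm m F w v = (Matrix.J (Fin m) F *ᵥ v) ⬝ᵥ w := by
    intro v
    unfold sympForm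
    rw [dotProduct_comm]
  refine ⟨w, hw, hw0, ?_, ?_, ?_, ?_⟩
  · rw [hf]; exact hperp 0
  · rw [hf]; exact hperp 1
  · rw [hf]; exact hperp 2
  · rw [hf]; exact hperp 3

/-- transvections of `H` whose centre lies in the span of two rational vectors -/
theorem low2_param_mem (hm : 3 ≤ m) (hR : ratSp F₀ m ≤ H) (hH : H ≤ spGL m F)
    (hN : NoBad F₀ (H.comap (dg m))) {u : Fin m ⊕ Fin m → F} {a : F} (h : tvGL m u a ∈ H)
    {u₀ u₁ : Fin m ⊕ Fin m → F} (hu₀ : IsRatV F₀ u₀) (hu₁ : IsRatV F₀ u₁) {x y : F}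
    (hu : u = x • u₀ + y • u₁) {w w'' : Fin m ⊕ Fin m → F} (hw : IsRatV F₀ w)
    (hw'' : IsRatV F₀ w'') :
    a * sympForm m F u w * sympForm m F u w'' ∈ F₀ := by
  obtain ⟨w', hw', hw'0, p1, p2, p3, p4⟩ := exists_perp_four F₀ hm hu₀ hu₁ hw hw''
  refine low_param_mem F₀ hm hR hH hN h hw hw'' hw' hw'0 ?_ p3 p4
  rw [hu, sympForm_add_right, sympForm_smul_right, sympForm_smul_right, p1, p2, mul_zero,
    mul_zero, add_zero]

end Low

end Cfsg.Agent.Lib.Helper2.Ssf
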