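import Mathlib
import Cfsg.Agent.Lib.Helper2.SsfD
import Cfsg.Agent.Lib.Helper2.SfmD
set_option autoImplicit false
set_option maxHeartbeats 1000000
set_option linter.unusedVariables false
set_option linter.unusedSectionVars false
set_option linter.style.longLine false
set_option linter.unusedSimpArgs false
set_option linter.deprecated false
set_option linter.style.haveILetI false

/-! Subfield subgroups of `Sp_{2m}` are maximal (part E): odd characteristic.  Dickson's lemma for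
a transvection of the overgroup and a rational transvection; the centre of every transvection of
an overgroup without bad elements is a multiple of a rational vector. -/

namespace Cfsg.Agent.Lib.Helper2.Ssf

open Matrix Cfsg Cfsg.Agent.Lib.Helper5.SympTv Cfsg.Agent.Lib.Helper5.SympGen
  Cfsg.Agent.Lib.Helper5.SympBridge Cfsg.Agent.Lib.Helper5.SpCentres
  Cfsg.Agent.Lib.Helper5.TvGL Cfsg.Agent.Lib.Helper2.Sfm

universe u

section Emb

variable {F : Type u} [Field F] {ι : Type} [Fintype ι] [DecidableEq ι]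

/-- the embedding of `2 × 2` matrices attached to a pair of vectors and a dual pair -/
def embHom' (A : Matrix ι (Fin 2) F) (B : Matrix (Fin 2) ι F) (hBA : B * A = 1) :
    Matrix (Fin 2) (Fin 2) F →* Matrix ι ι F where
  toFun X := 1 + A * (X - 1) * B
  map_one' := by simp
  map_mul' := fun X Y => by
    have h1 : A * (X - 1) * B * (A * (Y - 1) * B) = A * ((X - 1) * (Y - 1)) * B := by
      calc A * (X - 1) * B * (A * (Y - 1) * B) = A * (X - 1) * (B * A) * (Y - 1) * B := by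
            simp only [Matrix.mul_assoc]
        _ = A * ((X - 1) * (Y - 1)) * B := by
            rw [hBA, Matrix.mul_one]; simp only [Matrix.mul_assoc]
    have h2 : X * Y - 1 = (X - 1) + (Y - 1) + (X - 1) * (Y - 1) := by noncomm_ring
    rw [mul_add, add_mul, add_mul, one_mul, mul_one, one_mul, h1, h2, Matrix.mul_add, Matrix.mul_add,
      Matrix.add_mul, Matrix.add_mul]
    abel

/-- the matrix with columns `b₁, b₂` -/
def colMat' (b₁ b₂ : ι → F) : Matrix ι (Fin 2) F := Matrix.of fun i a => ![b₁, b₂] a i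

/-- the matrix with rows `ε₁, ε₂` -/
def rowMat' (ε₁ ε₂ : ι → F) : Matrix (Fin 2) ι F := Matrix.of ![ε₁, ε₂]

theorem rowMat_mul_colMat' (b₁ b₂ ε₁ ε₂ : ι → F) (h11 : ε₁ ⬝ᵥ b₁ = 1) (h12 : ε₁ ⬝ᵥ b₂ = 0)
    (h21 : ε₂ ⬝ᵥ b₁ = 0) (h22 : ε₂ ⬝ᵥ b₂ = 1) : rowMat' ε₁ ε₂ * colMat' b₁ b₂ = 1 := by
  ext a b
  have key : (rowMat' ε₁ ε₂ * colMat' b₁ b₂) a b = (![ε₁, ε₂] a) ⬝ᵥ (![b₁, b₂] b) := rfl
  rw [key]
  fin_cases a <;> fin_cases b <;> simp [h11, h12, h21, h22]

theorem emb_upper' (b₁ b₂ ε₁ ε₂ : ι → F) (x : F) :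
    colMat' b₁ b₂ * (!![1, x; 0, 1] - 1) * rowMat' ε₁ ε₂ = vecMulVec b₁ (x • ε₂) := by
  ext i j
  simp [Matrix.mul_apply, Fin.sum_univ_two, vecMulVec_apply, colMat', rowMat']
  ring

theorem emb_lower' (b₁ b₂ ε₁ ε₂ : ι → F) (x : F) :
    colMat' b₁ b₂ * (!![1, 0; x, 1] - 1) * rowMat' ε₁ ε₂ = vecMulVec b₂ (x • ε₁) := by
  ext i j
  simp [Matrix.mul_apply, Fin.sum_univ_two, vecMulVec_apply, colMat', rowMat']
  ring

end Emb

section Dickson

variable {F : Type u} [Field F] [Fintype F] {ι : Type} [Fintype ι] [DecidableEq ι]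

/-- Dickson's lemma for two transvections of a subgroup of `GL` -/
theorem dickson_core (h2 : (2 : F) ≠ 0) {H : Subgroup (GL ι F)} {u ψ w ξ : ι → F}
    {t₁ t₂ : GL ι F} (ht₁ : t₁ ∈ H) (ht₁v : t₁.1 = 1 + vecMulVec u ψ) (ht₂ : t₂ ∈ H)
    (ht₂v : t₂.1 = 1 + vecMulVec w ξ) (hψu : ψ ⬝ᵥ u = 0) (hξw : ξ ⬝ᵥ w = 0) :
    (ξ ⬝ᵥ u) * (ψ ⬝ᵥ w) = 0 ∨
      (∃ g ∈ H, g.1 = 1 + vecMulVec (((ξ ⬝ᵥ u) * (ψ ⬝ᵥ w)) • w) ξ) ∨
      ((ξ ⬝ᵥ u) * (ψ ⬝ᵥ w)) ^ 2 = -1 := by
  classical
  set α := ξ ⬝ᵥ u with hα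
  set β := ψ ⬝ᵥ w with hβ
  set lam := α * β with hlam
  by_cases hl0 : lam = 0
  · left; exact hl0
  right
  have hα0 : α ≠ 0 := left_ne_zero_of_mul hl0
  have hβ0 : β ≠ 0 := right_ne_zero_of_mul hl0
  set b₂ : ι → F := β • u with hb₂
  set ε₁ : ι → F := β⁻¹ • ψ with hε₁
  set ε₂ : ι → F := lam⁻¹ • ξ with hε₂
  have hBA : rowMat' ε₁ ε₂ * colMat' w b₂ = 1 := by
    apply rowMat_mul_colMat'
    · rw [hε₁, smul_dotProduct, ← hβ, smul_eq_mul, inv_mul_cancel₀ hβ0]
    · rw [hε₁, hb₂, smul_dotProduct, dotProduct_smul, hψu, smul_zero, smul_zero]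
    · rw [hε₂, smul_dotProduct, hξw, smul_zero]
    · rw [hε₂, hb₂, smul_dotProduct, dotProduct_smul, ← hα, smul_eq_mul, smul_eq_mul, hlam]
      field_simp
  set K' := Subfield.closure ({lam} : Set F) with hK'
  set lam' : K' := ⟨lam, Subfield.subset_closure rfl⟩ with hlam'
  set Ψ : Matrix.SpecialLinearGroup (Fin 2) K' →* GL ι F :=
    ((embHom' (colMat' w b₂) (rowMat' ε₁ ε₂) hBA).comp (Sfm.slToMat K')).toHomUnits with hΨ
  have hΨv : ∀ g, (Ψ g : Matrix ι ι F) =
      1 + colMat' w b₂ * (K'.subtype.mapMatrix g.1 - 1) * rowMat' ε₁ ε₂ := by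
    intro g
    rw [hΨ, MonoidHom.coe_toHomUnits]
    rfl
  have h2' : (2 : K') ≠ 0 := by
    intro h
    apply h2
    have := congrArg K'.subtype h
    rwa [map_ofNat, map_zero] at this
  have hlam'0 : lam' ≠ 0 := by
    intro h
    apply hl0
    have := congrArg (fun x : K' => (x : F)) h
    simpa [hlam'] using this
  rcases Cfsg.Agent.S0801.result h2' lam' hlam'0 (closure_singleton_top lam) with ⟨hgen, -⟩ | ⟨-, hsq, -⟩
  · left
    have hle : Subgroup.closure {g : Matrix.SpecialLinearGroup (Fin 2) K' |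
        (g : Matrix (Fin 2) (Fin 2) K') = !![1, 0; 1, 1] ∨
        (g : Matrix (Fin 2) (Fin 2) K') = !![1, lam'; 0, 1]} ≤ H.comap Ψ := by
      rw [Subgroup.closure_le]
      rintro g (hg | hg)
      · have : Ψ g = t₁ := by
          apply Units.ext
          rw [hΨv, hg, mapMatrix_two, ht₁v]
          have e := emb_lower' w b₂ ε₁ ε₂ (1 : F)
          simp only [OneMemClass.coe_one, ZeroMemClass.coe_zero]
          rw [e, one_smul, hb₂, hε₁, smul_vecMulVec, vecMulVec_smul, smul_smul,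
            mul_inv_cancel₀ hβ0, one_smul]
        show Ψ g ∈ H
        rw [this]; exact ht₁
      · have : Ψ g = t₂ := by
          apply Units.ext
          rw [hΨv, hg, mapMatrix_two, ht₂v]
          have e := emb_upper' w b₂ ε₁ ε₂ lam
          simp only [OneMemClass.coe_one, ZeroMemClass.coe_zero]
          rw [e, hε₂, smul_smul, mul_inv_cancel₀ hl0, one_smul]
        show Ψ g ∈ H
        rw [this]; exact ht₂
    rw [hgen] at hle
    have hdet : (!![1, lam' * lam'; 0, 1] : Matrix (Fin 2) (Fin 2) K').det = 1 := by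
      rw [Matrix.det_fin_two_of]; ring
    obtain ⟨g₀, hg₀⟩ : ∃ g₀ : Matrix.SpecialLinearGroup (Fin 2) K',
        (g₀ : Matrix (Fin 2) (Fin 2) K') = !![1, lam' * lam'; 0, 1] := ⟨⟨_, hdet⟩, rfl⟩
    have hmem : Ψ g₀ ∈ H := hle (Subgroup.mem_top _)
    refine ⟨Ψ g₀, hmem, ?_⟩
    rw [hΨv, hg₀, mapMatrix_two]
    have e := emb_upper' w b₂ ε₁ ε₂ (lam * lam)
    simp only [OneMemClass.coe_one, ZeroMemClass.coe_zero, MulMemClass.coe_mul]
    rw [e, hε₂, smul_smul, mul_assoc, mul_inv_cancel₀ hl0, mul_one, smul_vecMulVec, vecMulVec_smul]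
  · right
    have := congrArg (fun x : K' => (x : F)) hsq
    simpa [hlam'] using this

end Dickson

section Odd

variable {F : Type u} [Field F] [Fintype F] {m : ℕ} (F₀ : Subfield F)
  {H : Subgroup (GL (Fin m ⊕ Fin m) F)}

theorem tvGL_val_eq (v : Fin m ⊕ Fin m → F) (c : F) :
    (tvGL m v c).1 = 1 + vecMulVec v (c • (Matrix.J (Fin m) F *ᵥ v)) := by
  show sympTransvection m v c = _
  unfold sympTransvection
  rw [vecMulVec_smul]

theorem J_dot (v w : Fin m ⊕ Fin m → F) :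
    (Matrix.J (Fin m) F *ᵥ v) ⬝ᵥ w = sympForm m F w v := by
  unfold sympForm
  rw [dotProduct_comm]

/-- Dickson's lemma for a transvection of the overgroup and a rational transvection -/
theorem dickson_sp (h2 : (2 : F) ≠ 0) (hm : 2 ≤ m) (hR : ratSp F₀ m ≤ H) (hH : H ≤ spGL m F)
    (hN : NoBad F₀ (H.comap (dg m))) {u : Fin m ⊕ Fin m → F} {a : F} (h : tvGL m u a ∈ H)
    {w : Fin m ⊕ Fin m → F} (hw : IsRatV F₀ w) :
    a * sympForm m F u w ^ 2 ∈ F₀ ∨ (a * sympForm m F u w ^ 2) ^ 2 = -1 := by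
  set β := sympForm m F u w with hβ
  have hwu : sympForm m F w u = -β := by rw [sympForm_swap]
  have ht₂ : tvGL m w 1 ∈ H := hR (tvGL_mem_ratSp F₀ hw F₀.one_mem)
  have key := dickson_core h2 h (tvGL_val_eq u a) ht₂ (tvGL_val_eq w 1)
    (by rw [smul_dotProduct, J_dot, sympForm_self, smul_zero])
    (by rw [smul_dotProduct, J_dot, sympForm_self, smul_zero])
  have hlam : ((1 : F) • (Matrix.J (Fin m) F *ᵥ w)) ⬝ᵥ u * ((a • (Matrix.J (Fin m) F *ᵥ u)) ⬝ᵥ w) =
      -(a * β ^ 2) := by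
    rw [smul_dotProduct, smul_dotProduct, J_dot, J_dot, ← hβ, hwu]
    simp only [smul_eq_mul]
    ring
  rw [hlam] at key
  rcases key with h0 | ⟨g, hg, hgv⟩ | hsq
  · left
    have : a * β ^ 2 = 0 := neg_eq_zero.1 h0
    rw [this]; exact F₀.zero_mem
  · left
    by_cases hw0 : w = 0
    · have : β = 0 := by rw [hβ, hw0, form_zero_right]
      rw [this]; simp
    have hgt : g = tvGL m w (-(a * β ^ 2)) := by
      apply Units.ext
      rw [hgv, tvGL_val_eq, one_smul, smul_vecMulVec, vecMulVec_smul]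
    rw [hgt] at hg
    have := tv_param_mem F₀ hm hR hH hN hw hw0 hg
    have h3 := F₀.neg_mem this
    rwa [neg_neg] at h3
  · right
    rw [← hsq]; ring

/-- rationality of the centre from rationality of all products of pairings -/
theorem rat_of_products {u : Fin m ⊕ Fin m → F} {a : F} (ha : a ≠ 0) (hu0 : u ≠ 0)
    (hstar : ∀ j k : Fin m ⊕ Fin m,
      a * sympForm m F u (bv F j) * sympForm m F u (bv F k) ∈ F₀) :
    ∃ μ : F, μ ≠ 0 ∧ IsRatV F₀ (μ • u) := by
  obtain ⟨i, hi⟩ : ∃ i, u i ≠ 0 := by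
    by_contra h; push Not at h; exact hu0 (funext h)
  have hc : sympForm m F u (bv F (Sum.swap i)) ≠ 0 := by
    rw [form_bv, Sum.swap_swap]
    exact mul_ne_zero (sg_ne_zero _) hi
  refine ⟨a * sympForm m F u (bv F (Sum.swap i)), mul_ne_zero ha hc, fun l => ?_⟩
  have h1 := hstar (Sum.swap i) (Sum.swap l)
  have h2 : u l = sg F (Sum.swap l) * sympForm m F u (bv F (Sum.swap l)) := by
    rw [form_bv, Sum.swap_swap, ← mul_assoc, sg_mul_self, one_mul]
  rw [Pi.smul_apply, smul_eq_mul, h2]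
  have : a * sympForm m F u (bv F (Sum.swap i)) *
      (sg F (Sum.swap l) * sympForm m F u (bv F (Sum.swap l))) =
      sg F (Sum.swap l) * (a * sympForm m F u (bv F (Sum.swap i)) *
        sympForm m F u (bv F (Sum.swap l))) := by ring
  rw [this]
  exact F₀.mul_mem (sg_mem F₀ _) h1

/-- a square root of `-1` outside the subfield generates the field, as a vector space -/
theorem exists_decomp (r : ℕ) (hr : r.Prime) (hcard : Fintype.card F = Nat.card F₀ ^ r)
    {x₀ : F} (hx : x₀ * x₀ = -1) (hx₀ : x₀ ∉ F₀) (c : F) :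
    ∃ a ∈ F₀, ∃ b ∈ F₀, c = a + b * x₀ := by
  classical
  have hmul : ∀ c d : F, (∃ a ∈ F₀, ∃ b ∈ F₀, c = a + b * x₀) →
      (∃ a ∈ F₀, ∃ b ∈ F₀, d = a + b * x₀) → ∃ a ∈ F₀, ∃ b ∈ F₀, c * d = a + b * x₀ := by
    rintro c d ⟨a, ha, b, hb, rfl⟩ ⟨a', ha', b', hb', rfl⟩
    refine ⟨a * a' - b * b', F₀.sub_mem (F₀.mul_mem ha ha') (F₀.mul_mem hb hb'),
      a * b' + b * a', F₀.add_mem (F₀.mul_mem ha hb') (F₀.mul_mem hb ha'), ?_⟩
    have : (a + b * x₀) * (a' + b' * x₀) = a * a' + (a * b' + b * a') * x₀ + b * b' * (x₀ * x₀) := by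
      ring
    rw [this, hx]; ring
  have hone : ∃ a ∈ F₀, ∃ b ∈ F₀, (1 : F) = a + b * x₀ :=
    ⟨1, F₀.one_mem, 0, F₀.zero_mem, by ring⟩
  have hzero : ∃ a ∈ F₀, ∃ b ∈ F₀, (0 : F) = a + b * x₀ :=
    ⟨0, F₀.zero_mem, 0, F₀.zero_mem, by ring⟩
  let A : Subfield F :=
    { carrier := {c | ∃ a ∈ F₀, ∃ b ∈ F₀, c = a + b * x₀}
      mul_mem' := fun h1 h2 => hmul _ _ h1 h2
      one_mem' := hone
      add_mem' := by
        rintro c d ⟨a, ha, b, hb, rfl⟩ ⟨a', ha', b', hb', rfl⟩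
        exact ⟨a + a', F₀.add_mem ha ha', b + b', F₀.add_mem hb hb', by ring⟩
      zero_mem' := hzero
      neg_mem' := by
        rintro c ⟨a, ha, b, hb, rfl⟩
        exact ⟨-a, F₀.neg_mem ha, -b, F₀.neg_mem hb, by ring⟩
      inv_mem' := by
        intro x hx'
        by_cases hx0 : x = 0
        · rw [hx0, _root_.inv_zero]; exact hzero
        · have h1 : ∀ k : ℕ, ∃ a ∈ F₀, ∃ b ∈ F₀, x ^ k = a + b * x₀ := by
            intro k
            induction k with
            | zero => rw [pow_zero]; exact hone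
            | succ k ih => rw [pow_succ]; exact hmul _ _ ih hx'
          have h2 : x * x ^ (Fintype.card F - 2) = 1 := by
            rw [← pow_succ']
            have : Fintype.card F - 2 + 1 = Fintype.card F - 1 := by
              have : 1 < Fintype.card F := Fintype.one_lt_card
              omega
            rw [this]
            exact FiniteField.pow_card_sub_one_eq_one x hx0
          have h3 : x ^ (Fintype.card F - 2) = x⁻¹ := eq_inv_of_mul_eq_one_right h2
          show ∃ a ∈ F₀, ∃ b ∈ F₀, x⁻¹ = a + b * x₀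
          rw [← h3]
          exact h1 _ }
  have hle : F₀ ≤ A := fun a ha => ⟨a, ha, 0, F₀.zero_mem, by ring⟩
  have hxA : x₀ ∈ A := ⟨0, F₀.zero_mem, 1, F₀.one_mem, by ring⟩
  rcases subfield_eq_or_eq_top F₀ A hle r hr hcard with h | h
  · exact absurd (h ▸ hxA) hx₀
  · have : c ∈ A := by rw [h]; exact Subfield.mem_top c
    exact this

/-- odd characteristic: the centre of a transvection of an overgroup without bad elements is a
multiple of a rational vector -/
theorem centre_rat_odd (h2 : (2 : F) ≠ 0) (hm : 3 ≤ m) (r : ℕ) (hr : r.Prime)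
    (hcard : Fintype.card F = Nat.card F₀ ^ r) (hR : ratSp F₀ m ≤ H) (hH : H ≤ spGL m F)
    (hN : NoBad F₀ (H.comap (dg m))) {u : Fin m ⊕ Fin m → F} {a : F} (h : tvGL m u a ∈ H)
    (ha : a ≠ 0) (hu0 : u ≠ 0) : ∃ μ : F, μ ≠ 0 ∧ IsRatV F₀ (μ • u) := by
  classical
  apply rat_of_products F₀ ha hu0
  by_cases hi : ∀ x : F, x * x = -1 → x ∈ F₀
  · -- all the values `a ω(u, w)²` are rational
    have hq : ∀ w : Fin m ⊕ Fin m → F, IsRatV F₀ w → a * sympForm m F u w ^ 2 ∈ F₀ := by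
      intro w hw
      rcases dickson_sp F₀ h2 (by omega) hR hH hN h hw with h3 | h3
      · exact h3
      · apply hi
        rw [← h3]; ring
    intro j k
    have h1 := hq _ (isRatV_bv F₀ j)
    have h2' := hq _ (isRatV_bv F₀ k)
    have h3 := hq _ ((isRatV_bv F₀ j).add (isRatV_bv F₀ k))
    rw [sympForm_add_right] at h3
    have two : (2 : F) ∈ F₀ := by
      have : (2 : F) = 1 + 1 := by norm_num
      rw [this]; exact F₀.add_mem F₀.one_mem F₀.one_mem
    have e : a * sympForm m F u (bv F j) * sympForm m F u (bv F k) =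
        2⁻¹ * (a * (sympForm m F u (bv F j) + sympForm m F u (bv F k)) ^ 2 -
          a * sympForm m F u (bv F j) ^ 2 - a * sympForm m F u (bv F k) ^ 2) := by
      field_simp
      ring
    rw [e]
    exact F₀.mul_mem (F₀.inv_mem two) (F₀.sub_mem (F₀.sub_mem h3 h1) h2')
  · push Not at hi
    obtain ⟨x₀, hx, hx₀⟩ := hi
    have hdec := exists_decomp F₀ r hr hcard hx hx₀
    choose a' ha' b' hb' hab using hdec
    have hu : u = (1 : F) • (fun i => a' (u i)) + x₀ • (fun i => b' (u i)) := by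
      funext i
      rw [Pi.add_apply, Pi.smul_apply, Pi.smul_apply, smul_eq_mul, smul_eq_mul, one_mul, mul_comm]
      exact hab (u i)
    intro j k
    exact low2_param_mem F₀ hm hR hH hN h (fun i => ha' (u i)) (fun i => hb' (u i)) hu
      (isRatV_bv F₀ j) (isRatV_bv F₀ k)

end Odd

end Cfsg.Agent.Lib.Helper2.Ssf
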