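import Mathlib
import Cfsg.Agent.Lib.Helper2.SsfE
import Cfsg.Agent.Lib.Helper2.SfmE
set_option autoImplicit false
set_option maxHeartbeats 1000000
set_option linter.unusedVariables false
set_option linter.unusedSectionVars false
set_option linter.style.longLine false
set_option linter.unusedSimpArgs false
set_option linter.deprecated false
set_option linter.style.haveILetI false

/-! Subfield subgroups of `Sp_{2m}` are maximal (part F): characteristic two.  A transvection of
the overgroup and a product of two commuting rational transvections generate a dihedral group,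
whose central involution is a transvection with centre in a rational plane. -/

namespace Cfsg.Agent.Lib.Helper2.Ssf

open Matrix Cfsg Cfsg.Agent.Lib.Helper5.SympTv Cfsg.Agent.Lib.Helper5.SympGen
  Cfsg.Agent.Lib.Helper5.SympBridge Cfsg.Agent.Lib.Helper5.SpCentres
  Cfsg.Agent.Lib.Helper5.TvGL Cfsg.Agent.Lib.Helper2.Sfm

universe u

section Basic

variable {F : Type u} [Field F] {m : ℕ}

theorem neg_eq_self_of_two (h2 : (2 : F) = 0) (x : F) : -x = x := by
  have : x + x = 0 := by rw [← two_mul, h2, zero_mul]
  exact neg_eq_of_add_eq_zero_left this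

theorem tvGL_sq (h2 : (2 : F) = 0) (v : Fin m ⊕ Fin m → F) (c : F) :
    tvGL m v c * tvGL m v c = 1 := by
  rw [tvGL_mul, ← two_mul, h2, zero_mul, tvGL_zero]

theorem tvGL_comm {v w : Fin m ⊕ Fin m → F} (h : sympForm m F v w = 0) (c d : F) :
    tvGL m v c * tvGL m w d = tvGL m w d * tvGL m v c := by
  have h' := form_eq_zero_symm h
  apply gl_ext
  intro x
  simp only [gl_mul_mulVec, tvGL_mulVec]
  simp only [sympForm_add_left, sympForm_smul_left, h, h', mul_zero, add_zero]
  module

/-- in characteristic two, a symplectic map commuting with a transvection fixes its centre -/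
theorem fix_of_commute (h2 : (2 : F) = 0) {g : GL (Fin m ⊕ Fin m) F} (hg : g ∈ spGL m F)
    {v : Fin m ⊕ Fin m → F} {b : F} (hb : b ≠ 0) (hv : v ≠ 0)
    (hc : g * tvGL m v b = tvGL m v b * g) : g.1 *ᵥ v = v := by
  have h1 : tvGL m (g.1 *ᵥ v) b = tvGL m v b := by
    rw [← conj_tvGL m g hg, hc, mul_inv_cancel_right]
  obtain ⟨i, hi⟩ : ∃ i, v i ≠ 0 := by
    by_contra h; push Not at h; exact hv (funext h)
  obtain ⟨t, ht⟩ : ∃ t : Fin m ⊕ Fin m → F, sympForm m F t v ≠ 0 := by
    refine ⟨bv F (Sum.swap i), ?_⟩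
    rw [bv_form, Sum.swap_swap]
    exact neg_ne_zero.2 (mul_ne_zero (sg_ne_zero _) hi)
  have h3 := congrArg (fun M : GL (Fin m ⊕ Fin m) F => M.1 *ᵥ t) h1
  simp only [tvGL_mulVec] at h3
  have h4 := add_left_cancel h3
  obtain ⟨gv, hgv⟩ : ∃ gv, gv = g.1 *ᵥ v := ⟨_, rfl⟩
  rw [← hgv] at h4 ⊢
  have h5 : sympForm m F t gv ≠ 0 := by
    intro h0
    rw [h0, mul_zero, zero_smul] at h4
    rcases smul_eq_zero.1 h4.symm with h6 | h6
    · exact mul_ne_zero hb ht h6
    · exact hv h6
  obtain ⟨μ, hμ⟩ : ∃ μ : F, gv = μ • v := by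
    refine ⟨(b * sympForm m F t gv)⁻¹ * (b * sympForm m F t v), ?_⟩
    have := congrArg (fun y => (b * sympForm m F t gv)⁻¹ • y) h4
    simp only [smul_smul] at this
    rw [inv_mul_cancel₀ (mul_ne_zero hb h5), one_smul] at this
    exact this
  have h6 : sympForm m F t gv = μ * sympForm m F t v := by
    rw [hμ, sympForm_smul_right]
  rw [h6, hμ, smul_smul] at h4
  have h7 := smul_left_injective F hv h4
  have h8 : b * sympForm m F t v * (μ * μ - 1) = 0 := by
    linear_combination h7
  have h9 : μ * μ - 1 = 0 := by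
    rcases mul_eq_zero.1 h8 with h | h
    · exact absurd h (mul_ne_zero hb ht)
    · exact h
  have h10 : (μ - 1) * (μ - 1) = 0 := by
    have : (μ - 1) * (μ - 1) = (μ * μ - 1) - 2 * μ + 2 := by ring
    rw [this, h9, h2]; ring
  have h11 : μ = 1 := by
    have := mul_self_eq_zero.1 h10
    exact sub_eq_zero.1 this
  rw [hμ, h11, one_smul]

end Basic

section Core

variable {F : Type u} [Field F] [Fintype F] {m : ℕ}
  {H : Subgroup (GL (Fin m ⊕ Fin m) F)}

/-- characteristic two: from a transvection of `H` and two commuting transvections of `H` with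
independent centres, a transvection of `H` with centre in the plane of the two centres -/
theorem even_core (h2 : (2 : F) = 0) (hH : H ≤ spGL m F) {u p q ps qs : Fin m ⊕ Fin m → F}
    {a : F} (ha : a ≠ 0) (hy : tvGL m u a ∈ H) (hp : tvGL m p 1 ∈ H) (hq : tvGL m q 1 ∈ H)
    (hpq : sympForm m F p q = 0) (hps : sympForm m F ps p ≠ 0) (hpsq : sympForm m F ps q = 0)
    (hqs : sympForm m F qs q ≠ 0) (hqsp : sympForm m F qs p = 0)
    (hβ : sympForm m F u p ≠ sympForm m F u q) :
    tvGL m (sympForm m F u q • p + sympForm m F u p • q)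
      (((sympForm m F u p + sympForm m F u q) ^ 2)⁻¹) ∈ H := by
  classical
  have hqp : sympForm m F q p = 0 := form_eq_zero_symm hpq
  obtain ⟨β, hβdef⟩ : ∃ β, β = sympForm m F u p := ⟨_, rfl⟩
  obtain ⟨β', hβ'def⟩ : ∃ β', β' = sympForm m F u q := ⟨_, rfl⟩
  rw [← hβdef, ← hβ'def] at hβ ⊢
  have hpu : sympForm m F p u = -β := by rw [sympForm_swap, hβdef]
  have hqu : sympForm m F q u = -β' := by rw [sympForm_swap, hβ'def]
  have hN : β + β' ≠ 0 := by
    intro h
    apply hβ
    have : β = -β' := eq_neg_of_add_eq_zero_left h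
    rw [this, neg_eq_self_of_two h2]
  set x' := tvGL m p 1 * tvGL m q 1 with hx'
  set y := tvGL m u a with hydef
  have hx'H : x' ∈ H := H.mul_mem hp hq
  have hxx : x' * x' = 1 := by
    have cqp : Commute (tvGL m q 1) (tvGL m p 1) := (tvGL_comm hpq 1 1).symm
    rw [hx', cqp.mul_mul_mul_comm, tvGL_sq h2, tvGL_sq h2, one_mul]
  have hyy : y * y = 1 := tvGL_sq h2 u a
  have hfin : 0 < orderOf (x' * y) := orderOf_pos _
  have hu0 : u ≠ 0 := by
    intro h
    apply hβ
    rw [hβdef, hβ'def, h, form_zero_left, form_zero_left]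
  rcases dihedral_cases x' y hxx hyy hfin with ⟨k, hk⟩ | ⟨k, hz1, hzz, hzx, hzy⟩
  · -- the two involutions are not conjugate
    exfalso
    set g := (x' * y) ^ k with hg
    have hgH : g ∈ H := H.pow_mem (H.mul_mem hx'H hy) k
    have hgS : g ∈ spGL m F := hH hgH
    have e1 : tvGL m (g.1 *ᵥ p) 1 * tvGL m (g.1 *ᵥ q) 1 = y := by
      rw [← conj_tvGL m g hgS, ← conj_tvGL m g hgS, ← hk, hx']
      group
    have f1 := congrArg (fun M : GL (Fin m ⊕ Fin m) F => M.1 *ᵥ (g.1 *ᵥ ps)) e1
    simp only [gl_mul_mulVec, tvGL_mulVec, hydef, sympForm_add_left, sympForm_smul_left,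
      spGL_form hgS, hpsq, hqp, mul_zero, zero_smul, add_zero, one_mul] at f1
    have f1' := add_left_cancel f1
    have f2 := congrArg (fun M : GL (Fin m ⊕ Fin m) F => M.1 *ᵥ (g.1 *ᵥ qs)) e1
    simp only [gl_mul_mulVec, tvGL_mulVec, hydef, sympForm_add_left, sympForm_smul_left,
      spGL_form hgS, hqsp, hqp, mul_zero, zero_smul, add_zero, one_mul] at f2
    have f2' := add_left_cancel f2
    -- `g p` and `g q` are multiples of `u`
    have hgp : g.1 *ᵥ p = ((sympForm m F ps p)⁻¹ * (a * sympForm m F (g.1 *ᵥ ps) u)) • u := by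
      have := congrArg (fun z => (sympForm m F ps p)⁻¹ • z) f1'
      simp only [smul_smul] at this
      rw [inv_mul_cancel₀ hps, one_smul] at this
      exact this
    have hgq : g.1 *ᵥ q = ((sympForm m F qs q)⁻¹ * (a * sympForm m F (g.1 *ᵥ qs) u)) • u := by
      have := congrArg (fun z => (sympForm m F qs q)⁻¹ • z) f2'
      simp only [smul_smul] at this
      rw [inv_mul_cancel₀ hqs, one_smul] at this
      exact this
    have k1 : sympForm m F (g.1 *ᵥ ps) (g.1 *ᵥ p) ≠ 0 := by
      rw [spGL_form hgS]; exact hps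
    have k2 : sympForm m F (g.1 *ᵥ ps) (g.1 *ᵥ q) = 0 := by
      rw [spGL_form hgS]; exact hpsq
    rw [hgp, sympForm_smul_right] at k1
    rw [hgq, sympForm_smul_right] at k2
    have k3 : sympForm m F (g.1 *ᵥ ps) u ≠ 0 := right_ne_zero_of_mul k1
    have k4 : (sympForm m F qs q)⁻¹ * (a * sympForm m F (g.1 *ᵥ qs) u) = 0 := by
      rcases mul_eq_zero.1 k2 with h | h
      · exact h
      · exact absurd h k3
    rw [k4, zero_smul] at hgq
    have hq0 : q = 0 := gl_mulVec_eq_zero g hgq
    apply hqs
    rw [hq0, form_zero_right]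
  · -- the central involution
    set z := (x' * y) ^ k with hz
    have hzH : z ∈ H := H.pow_mem (H.mul_mem hx'H hy) k
    obtain ⟨c, hcdef⟩ : ∃ c : F, c = ((β + β') ^ 2)⁻¹ := ⟨_, rfl⟩
    rw [← hcdef]
    have hc0 : c ≠ 0 := by rw [hcdef]; exact inv_ne_zero (pow_ne_zero 2 hN)
    have hcN : c * (β ^ 2 + β' ^ 2) = 1 := by
      have : β ^ 2 + β' ^ 2 = (β + β') ^ 2 := by
        have : (β + β') ^ 2 = β ^ 2 + β' ^ 2 + 2 * (β * β') := by ring
        rw [this, h2, zero_mul, add_zero]
      rw [this, hcdef, inv_mul_cancel₀ (pow_ne_zero 2 hN)]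
    set w' : Fin m ⊕ Fin m → F := β • p + β' • q with hw'
    set w₀ : Fin m ⊕ Fin m → F := β' • p + β • q with hw₀
    have o1 : sympForm m F w₀ w' = 0 := by
      rw [hw₀, hw']
      simp only [sympForm_add_left, sympForm_add_right, sympForm_smul_left, sympForm_smul_right,
        sympForm_self, hpq, hqp, mul_zero, add_zero]
    have o2 : sympForm m F w₀ u = 0 := by
      rw [hw₀]
      simp only [sympForm_add_left, sympForm_smul_left, hpu, hqu]
      have : β' * -β + β * -β' = -(2 * (β * β')) := by ring
      rw [this, h2, zero_mul, neg_zero]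
    have o3 : sympForm m F u w' = β ^ 2 + β' ^ 2 := by
      rw [hw']
      simp only [sympForm_add_right, sympForm_smul_right, ← hβdef, ← hβ'def]
      ring
    have o3n : sympForm m F u w' ≠ 0 := by
      rw [o3]
      intro h
      rw [h, mul_zero] at hcN
      exact zero_ne_one hcN
    set ζ := tvGL m w₀ c with hζ
    set t' := tvGL m w' c with ht'
    -- the decomposition of `x'`
    have dec : x' = t' * ζ := by
      apply gl_ext
      intro x
      rw [hx', ht', hζ]
      simp only [gl_mul_mulVec, tvGL_mulVec]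
      rw [hw₀, hw']
      simp only [sympForm_add_left, sympForm_add_right, sympForm_smul_left, sympForm_smul_right,
        sympForm_self, hpq, hqp, mul_zero, add_zero, zero_add, one_mul]
      linear_combination (norm := module)
        (-(sympForm m F x p)) • (hcN • p) - (sympForm m F x q) • (hcN • q)
          - ((c * β * β' * sympForm m F x q) * h2) • p - ((c * β * β' * sympForm m F x p) * h2) • q
    have cζt : Commute ζ t' := tvGL_comm o1 c c
    have cζy : Commute ζ y := tvGL_comm o2 c a
    have hζζ : ζ * ζ = 1 := tvGL_sq h2 w₀ c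
    set g₁ := t' * y with hg₁
    have cg₁ζ : Commute g₁ ζ := (cζt.mul_right cζy).symm
    have hxy : x' * y = g₁ * ζ := by
      rw [dec, hg₁, mul_assoc, cζy.eq, ← mul_assoc]
    have hzpow : z = g₁ ^ k * ζ ^ k := by
      rw [hz, hxy, cg₁ζ.mul_pow]
    set h := g₁ ^ k with hh
    have hhS : h ∈ spGL m F :=
      (spGL m F).pow_mem ((spGL m F).mul_mem (tvGL_mem m w' c) (tvGL_mem m u a)) k
    have hhz : h = z * (ζ ^ k)⁻¹ := by rw [hzpow, mul_inv_cancel_right]
    have cζz : Commute ζ z := by
      rw [hzpow]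
      exact (cg₁ζ.symm.pow_right k).mul_right ((Commute.refl ζ).pow_right k)
    have czy : Commute z y := hzy
    have czx : Commute z x' := hzx
    have czt : Commute z t' := by
      have : t' = x' * ζ := by rw [dec, mul_assoc, hζζ, mul_one]
      rw [this]
      exact czx.mul_right cζz.symm
    have chy : Commute h y := by
      rw [hhz]
      exact czy.mul_left ((cζy.pow_left k).inv_left)
    have cht : Commute h t' := by
      rw [hhz]
      exact czt.mul_left ((cζt.pow_left k).inv_left)
    have hw'0 : w' ≠ 0 := by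
      intro h0
      apply o3n
      rw [h0, form_zero_right]
    have fu : h.1 *ᵥ u = u := fix_of_commute h2 hhS ha hu0 chy.eq
    have fw : h.1 *ᵥ w' = w' := fix_of_commute h2 hhS hc0 hw'0 cht.eq
    have fperp : ∀ x : Fin m ⊕ Fin m → F, sympForm m F x u = 0 → sympForm m F x w' = 0 →
        h.1 *ᵥ x = x := by
      intro x hxu hxw
      have step : g₁.1 *ᵥ x = x := by
        rw [hg₁, gl_mul_mulVec, hydef, ht']
        simp only [tvGL_mulVec, hxu, hxw, mul_zero, zero_smul, add_zero]
      have key : ∀ n : ℕ, (g₁ ^ n).1 *ᵥ x = x := by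
        intro n
        induction n with
        | zero => rw [pow_zero, Units.val_one, Matrix.one_mulVec]
        | succ n ih => rw [pow_succ, gl_mul_mulVec, step]; exact ih
      rw [hh]
      exact key k
    have hone : h = 1 := by
      apply gl_ext
      intro x
      rw [Units.val_one, Matrix.one_mulVec]
      set D := sympForm m F u w' with hD
      have hw'u : sympForm m F w' u = -D := by rw [sympForm_swap]
      set α := sympForm m F x w' / D with hα
      set γ := -(sympForm m F x u / D) with hγ
      set x₀ := x - α • u - γ • w' with hx₀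
      have p1 : sympForm m F x₀ u = 0 := by
        rw [hx₀]
        simp only [sympForm_sub_left, sympForm_smul_left, sympForm_self, hw'u, mul_zero, sub_zero]
        rw [hγ]
        field_simp
        ring
      have p2 : sympForm m F x₀ w' = 0 := by
        rw [hx₀]
        simp only [sympForm_sub_left, sympForm_smul_left, sympForm_self, ← hD, mul_zero, sub_zero]
        rw [hα]
        field_simp
        ring
      have hx : x = x₀ + α • u + γ • w' := by rw [hx₀]; module
      have := fperp x₀ p1 p2
      calc h.1 *ᵥ x = h.1 *ᵥ (x₀ + α • u + γ • w') := by rw [← hx]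
        _ = x₀ + α • u + γ • w' := by
            rw [Matrix.mulVec_add, Matrix.mulVec_add, Matrix.mulVec_smul, Matrix.mulVec_smul,
              this, fu, fw]
        _ = x := hx.symm
    have hzζ : z = ζ ^ k := by rw [hzpow, hone, one_mul]
    have hzeq : z = ζ := by
      rcases Nat.even_or_odd' k with ⟨j, hj | hj⟩
      · exfalso
        apply hz1
        rw [hzζ, hj, pow_mul, pow_two, hζζ, one_pow]
      · rw [hzζ, hj, pow_succ, pow_mul, pow_two, hζζ, one_pow, one_mul]
    rw [← hzeq]
    exact hzH

end Core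

end Cfsg.Agent.Lib.Helper2.Ssf
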