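import Mathlib
import Cfsg.Agent.Lib.Helper2.SsfF
set_option autoImplicit false
set_option maxHeartbeats 1000000
set_option linter.unusedVariables false
set_option linter.unusedSectionVars false
set_option linter.style.longLine false
set_option linter.unusedSimpArgs false
set_option linter.deprecated false
set_option linter.style.haveILetI false

/-! Subfield subgroups of `Sp_{2m}` are maximal (part G): the centres of the transvections of an
overgroup without bad elements are rational up to scalars; such an overgroup normalises the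
rational structure; maximality of the standard subfield subgroup. -/

namespace Cfsg.Agent.Lib.Helper2.Ssf

open Matrix Cfsg Cfsg.Agent.Lib.Helper5.SympTv Cfsg.Agent.Lib.Helper5.SympGen
  Cfsg.Agent.Lib.Helper5.SympBridge Cfsg.Agent.Lib.Helper5.SpCentres
  Cfsg.Agent.Lib.Helper5.TvGL Cfsg.Agent.Lib.Helper2.Sfm

universe u

section EvenRat

variable {F : Type u} [Field F] [Fintype F] {m : ℕ} (F₀ : Subfield F)
  {H : Subgroup (GL (Fin m ⊕ Fin m) F)}

/-- characteristic two: ratios of pairings of the centre with orthogonal basis vectors -/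
theorem ratio_mem_even (h2 : (2 : F) = 0) (hm : 3 ≤ m) (hR : ratSp F₀ m ≤ H)
    (hH : H ≤ spGL m F) (hN : NoBad F₀ (H.comap (dg m))) {u : Fin m ⊕ Fin m → F} {a : F}
    (h : tvGL m u a ∈ H) (ha : a ≠ 0) {j k : Fin m ⊕ Fin m} (hkj : k ≠ j)
    (hkj' : k ≠ Sum.swap j) (hcj : sympForm m F u (bv F j) ≠ 0)
    (hck : sympForm m F u (bv F k) ≠ 0) :
    sympForm m F u (bv F j) / sympForm m F u (bv F k) ∈ F₀ := by
  by_cases heq : sympForm m F u (bv F j) = sympForm m F u (bv F k)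
  · rw [heq, div_self hck]; exact F₀.one_mem
  obtain ⟨cj, hcjd⟩ : ∃ cj, cj = sympForm m F u (bv F j) := ⟨_, rfl⟩
  obtain ⟨ck, hckd⟩ : ∃ ck, ck = sympForm m F u (bv F k) := ⟨_, rfl⟩
  have hp : tvGL m (bv F j) 1 ∈ H := hR (tvGL_mem_ratSp F₀ (isRatV_bv F₀ j) F₀.one_mem)
  have hq : tvGL m (bv F k) 1 ∈ H := hR (tvGL_mem_ratSp F₀ (isRatV_bv F₀ k) F₀.one_mem)
  have hpq : sympForm m F (bv F j) (bv F k) = 0 := form_bv_bv_of_ne hkj'
  have hps : sympForm m F (bv F (Sum.swap j)) (bv F j) ≠ 0 := by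
    have := form_bv_bv_swap_ne_zero (F := F) (Sum.swap j)
    rwa [Sum.swap_swap] at this
  have hqs : sympForm m F (bv F (Sum.swap k)) (bv F k) ≠ 0 := by
    have := form_bv_bv_swap_ne_zero (F := F) (Sum.swap k)
    rwa [Sum.swap_swap] at this
  have hpsq : sympForm m F (bv F (Sum.swap j)) (bv F k) = 0 := by
    apply form_bv_bv_of_ne
    rw [Sum.swap_swap]; exact hkj
  have hqsp : sympForm m F (bv F (Sum.swap k)) (bv F j) = 0 := by
    apply form_bv_bv_of_ne
    rw [Sum.swap_swap]; exact hkj.symm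
  have hT := even_core h2 hH ha h hp hq hpq hps hpsq hqs hqsp heq
  rw [← hcjd, ← hckd] at hT
  rw [← hcjd, ← hckd] at heq
  rw [← hcjd] at hcj
  rw [← hckd] at hck
  rw [← hcjd, ← hckd]
  have hsum : cj + ck ≠ 0 := by
    intro h0
    apply heq
    have : cj = -ck := eq_neg_of_add_eq_zero_left h0
    rw [this, neg_eq_self_of_two h2]
  obtain ⟨c, hcd⟩ : ∃ c : F, c = ((cj + ck) ^ 2)⁻¹ := ⟨_, rfl⟩
  rw [← hcd] at hT
  have hc0 : c ≠ 0 := by rw [hcd]; exact inv_ne_zero (pow_ne_zero 2 hsum)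
  -- pairings of the new centre
  have hjk : Sum.swap j ≠ Sum.swap k := fun h' => hkj (Sum.swap_leftInverse.injective h').symm
  have q1 : sympForm m F (ck • bv F j + cj • bv F k) (bv F (Sum.swap j)) = ck * -sg F j := by
    rw [sympForm_add_left, sympForm_smul_left, sympForm_smul_left, form_bv_bv_swap,
      form_bv_bv_of_ne (j := k) (k := Sum.swap j) hjk, mul_zero, add_zero]
  have q2 : sympForm m F (ck • bv F j + cj • bv F k) (bv F (Sum.swap k)) = cj * -sg F k := by
    rw [sympForm_add_left, sympForm_smul_left, sympForm_smul_left, form_bv_bv_swap,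
      form_bv_bv_of_ne (j := j) (k := Sum.swap k) hjk.symm, mul_zero, zero_add]
  have P1 := low2_param_mem F₀ hm hR hH hN hT (isRatV_bv F₀ j) (isRatV_bv F₀ k) rfl
    (isRatV_bv F₀ (Sum.swap j)) (isRatV_bv F₀ (Sum.swap j))
  have P2 := low2_param_mem F₀ hm hR hH hN hT (isRatV_bv F₀ j) (isRatV_bv F₀ k) rfl
    (isRatV_bv F₀ (Sum.swap k)) (isRatV_bv F₀ (Sum.swap j))
  rw [q1] at P1
  rw [q1, q2] at P2
  have A1 : c * ck * ck ∈ F₀ := by
    have : c * (ck * -sg F j) * (ck * -sg F j) = c * ck * ck * (sg F j * sg F j) := by ring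
    rwa [this, sg_mul_self, mul_one] at P1
  have A2 : c * cj * ck ∈ F₀ := by
    have h3 := F₀.mul_mem (F₀.mul_mem (sg_mem F₀ j) (sg_mem F₀ k)) P2
    have : sg F j * sg F k * (c * (cj * -sg F k) * (ck * -sg F j)) =
        c * cj * ck * ((sg F j * sg F j) * (sg F k * sg F k)) := by ring
    rwa [this, sg_mul_self, sg_mul_self, mul_one, mul_one] at h3
  have : cj / ck = (c * cj * ck) * (c * ck * ck)⁻¹ := by
    field_simp
  rw [this]
  exact F₀.mul_mem A2 (F₀.inv_mem A1)

/-- characteristic two: the centre of a transvection of an overgroup without bad elements is a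
multiple of a rational vector -/
theorem centre_rat_even (h2 : (2 : F) = 0) (hm : 3 ≤ m) (hR : ratSp F₀ m ≤ H)
    (hH : H ≤ spGL m F) (hN : NoBad F₀ (H.comap (dg m))) {u : Fin m ⊕ Fin m → F} {a : F}
    (h : tvGL m u a ∈ H) (ha : a ≠ 0) (hu0 : u ≠ 0) :
    ∃ μ : F, μ ≠ 0 ∧ IsRatV F₀ (μ • u) := by
  classical
  obtain ⟨i₀, hi₀⟩ : ∃ i, u i ≠ 0 := by
    by_contra h'; push Not at h'; exact hu0 (funext h')
  set j₀ := Sum.swap i₀ with hj₀
  have pair : ∀ l, sympForm m F u (bv F l) = sg F l * u (Sum.swap l) := fun l => form_bv u l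
  have hcj₀ : sympForm m F u (bv F j₀) ≠ 0 := by
    rw [pair, hj₀, Sum.swap_swap]
    exact mul_ne_zero (sg_ne_zero _) hi₀
  by_cases hcase : ∀ l, sympForm m F u (bv F l) ≠ 0 → l = j₀ ∨ l = Sum.swap j₀
  · -- the centre lies in a rational hyperbolic plane
    have hu : u = u j₀ • bv F j₀ + u (Sum.swap j₀) • bv F (Sum.swap j₀) := by
      funext i
      rw [Pi.add_apply, Pi.smul_apply, Pi.smul_apply, smul_eq_mul, smul_eq_mul]
      by_cases h1 : i = j₀
      · rw [h1, bv_apply_same, bv_apply_ne (swap_ne_self j₀).symm, mul_one, mul_zero, add_zero]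
      · by_cases h3 : i = Sum.swap j₀
        · rw [h3, bv_apply_same, bv_apply_ne (swap_ne_self j₀), mul_one, mul_zero, zero_add]
        · rw [bv_apply_ne h1, bv_apply_ne h3, mul_zero, mul_zero, add_zero]
          by_contra hne
          have h4 : sympForm m F u (bv F (Sum.swap i)) ≠ 0 := by
            rw [pair, Sum.swap_swap]
            exact mul_ne_zero (sg_ne_zero _) hne
          rcases hcase _ h4 with h5 | h5
          · apply h3
            rw [← h5, Sum.swap_swap]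
          · exact h1 (Sum.swap_leftInverse.injective h5)
    apply rat_of_products F₀ ha hu0
    intro j k
    exact low2_param_mem F₀ hm hR hH hN h (isRatV_bv F₀ j₀) (isRatV_bv F₀ _) hu
      (isRatV_bv F₀ j) (isRatV_bv F₀ k)
  · push Not at hcase
    obtain ⟨l₀, hl₀, hl₀1, hl₀2⟩ := hcase
    have hl₀3 : j₀ ≠ Sum.swap l₀ := by
      intro h'
      apply hl₀2
      rw [h', Sum.swap_swap]
    have ratio : ∀ k, sympForm m F u (bv F k) / sympForm m F u (bv F j₀) ∈ F₀ := by
      intro k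
      by_cases hk0 : sympForm m F u (bv F k) = 0
      · rw [hk0, zero_div]; exact F₀.zero_mem
      by_cases hk1 : k = j₀
      · rw [hk1, div_self hcj₀]; exact F₀.one_mem
      by_cases hk2 : k = Sum.swap j₀
      · have r1 := ratio_mem_even F₀ h2 hm hR hH hN h ha (j := k) (k := l₀)
          (by rw [hk2]; exact hl₀2)
          (by rw [hk2, Sum.swap_swap]; exact hl₀1) hk0 hl₀
        have r2 := ratio_mem_even F₀ h2 hm hR hH hN h ha (j := l₀) (k := j₀)
          (Ne.symm hl₀1) hl₀3 hl₀ hcj₀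
        have := F₀.mul_mem r1 r2
        rwa [div_mul_div_cancel₀ hl₀] at this
      · exact ratio_mem_even F₀ h2 hm hR hH hN h ha (j := k) (k := j₀) (Ne.symm hk1)
          (by
            intro h'
            apply hk2
            rw [h', Sum.swap_swap]) hk0 hcj₀
    refine ⟨(sympForm m F u (bv F j₀))⁻¹, inv_ne_zero hcj₀, fun l => ?_⟩
    have h1 : u l = sg F (Sum.swap l) * sympForm m F u (bv F (Sum.swap l)) := by
      rw [pair, Sum.swap_swap, ← mul_assoc, sg_mul_self, one_mul]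
    rw [Pi.smul_apply, smul_eq_mul, h1]
    have : (sympForm m F u (bv F j₀))⁻¹ * (sg F (Sum.swap l) * sympForm m F u (bv F (Sum.swap l))) =
        sg F (Sum.swap l) * (sympForm m F u (bv F (Sum.swap l)) / sympForm m F u (bv F j₀)) := by
      rw [div_eq_mul_inv]; ring
    rw [this]
    exact F₀.mul_mem (sg_mem F₀ _) (ratio _)

/-- the centre of a transvection of an overgroup without bad elements is a multiple of a rational
vector -/
theorem centre_rat (hm : 3 ≤ m) (r : ℕ) (hr : r.Prime)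
    (hcard : Fintype.card F = Nat.card F₀ ^ r) (hR : ratSp F₀ m ≤ H) (hH : H ≤ spGL m F)
    (hN : NoBad F₀ (H.comap (dg m))) {u : Fin m ⊕ Fin m → F} {a : F} (h : tvGL m u a ∈ H)
    (ha : a ≠ 0) (hu0 : u ≠ 0) : ∃ μ : F, μ ≠ 0 ∧ IsRatV F₀ (μ • u) := by
  by_cases h2 : (2 : F) = 0
  · exact centre_rat_even F₀ h2 hm hR hH hN h ha hu0
  · exact centre_rat_odd F₀ h2 hm r hr hcard hR hH hN h ha hu0

end EvenRat

section Columns

variable {F : Type u} [Field F] [Fintype F] {m : ℕ} (F₀ : Subfield F)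
  {H : Subgroup (GL (Fin m ⊕ Fin m) F)}

/-- an overgroup without bad elements lies in the subfield group -/
theorem le_of_noBad_sp (hm : 3 ≤ m) (r : ℕ) (hr : r.Prime)
    (hcard : Fintype.card F = Nat.card F₀ ^ r) (hR : ratSp F₀ m ≤ H) (hH : H ≤ spGL m F)
    (hN : NoBad F₀ (H.comap (dg m))) : H ≤ Cfsg.Geo.subfieldSubgroup F₀ 1 := by
  classical
  intro g hg
  have hgS : g ∈ spGL m F := hH hg
  -- images of rational vectors
  have hex : ∀ w : Fin m ⊕ Fin m → F, IsRatV F₀ w → w ≠ 0 →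
      ∃ μ : F, μ ≠ 0 ∧ IsRatV F₀ (μ • (g.1 *ᵥ w)) := by
    intro w hw hw0
    have h1 : tvGL m (g.1 *ᵥ w) 1 ∈ H :=
      conj_tvGL_mem hH hg (hR (tvGL_mem_ratSp F₀ hw F₀.one_mem))
    have h2 : g.1 *ᵥ w ≠ 0 := fun h => hw0 (gl_mulVec_eq_zero g h)
    exact centre_rat F₀ hm r hr hcard hR hH hN h1 one_ne_zero h2
  -- squares of the scalars
  have hsq : ∀ (w : Fin m ⊕ Fin m → F) (μ : F), IsRatV F₀ w → w ≠ 0 → μ ≠ 0 →
      IsRatV F₀ (μ • (g.1 *ᵥ w)) → μ * μ ∈ F₀ := by
    intro w μ hw hw0 hμ hrat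
    have h1 : tvGL m (g.1 *ᵥ w) 1 ∈ H :=
      conj_tvGL_mem hH hg (hR (tvGL_mem_ratSp F₀ hw F₀.one_mem))
    have h2 : g.1 *ᵥ w = μ⁻¹ • (μ • (g.1 *ᵥ w)) := by
      rw [smul_smul, inv_mul_cancel₀ hμ, one_smul]
    rw [h2, tvGL_smul] at h1
    have h3 : μ • (g.1 *ᵥ w) ≠ 0 := by
      intro h
      rcases smul_eq_zero.1 h with h | h
      · exact hμ h
      · exact hw0 (gl_mulVec_eq_zero g h)
    have h4 := tv_param_mem F₀ (by omega) hR hH hN hrat h3 h1
    have h5 := F₀.inv_mem h4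
    have : (μ⁻¹ * μ⁻¹ * 1)⁻¹ = μ * μ := by
      field_simp
    rwa [this] at h5
  -- products of the scalars
  have hprod : ∀ (w w'' : Fin m ⊕ Fin m → F) (μ μ'' : F), IsRatV F₀ w → IsRatV F₀ w'' →
      sympForm m F w w'' ≠ 0 → IsRatV F₀ (μ • (g.1 *ᵥ w)) → IsRatV F₀ (μ'' • (g.1 *ᵥ w'')) →
      μ * μ'' ∈ F₀ := by
    intro w w'' μ μ'' hw hw'' hne h1 h2
    have h3 := IsRatV.form F₀ h1 h2
    rw [sympForm_smul_left, sympForm_smul_right, spGL_form hgS] at h3
    have h4 : μ * μ'' = (μ * (μ'' * sympForm m F w w'')) * (sympForm m F w w'')⁻¹ := by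
      field_simp
    rw [h4]
    exact F₀.mul_mem h3 (F₀.inv_mem (IsRatV.form F₀ hw hw''))
  -- ratios of the scalars
  have hratio : ∀ (w w'' : Fin m ⊕ Fin m → F) (μ μ'' : F), IsRatV F₀ w → IsRatV F₀ w'' →
      w'' ≠ 0 → μ'' ≠ 0 →
      sympForm m F w w'' ≠ 0 → IsRatV F₀ (μ • (g.1 *ᵥ w)) → IsRatV F₀ (μ'' • (g.1 *ᵥ w'')) →
      μ / μ'' ∈ F₀ := by
    intro w w'' μ μ'' hw hw'' hw''0 hμ'' hne h1 h2
    have h3 := hprod w w'' μ μ'' hw hw'' hne h1 h2
    have h4 := hsq w'' μ'' hw'' hw''0 hμ'' h2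
    have : μ / μ'' = (μ * μ'') * (μ'' * μ'')⁻¹ := by
      field_simp
    rw [this]
    exact F₀.mul_mem h3 (F₀.inv_mem h4)
  -- the scalars of the columns
  have hcol : ∀ l : Fin m ⊕ Fin m, ∃ μ : F, μ ≠ 0 ∧ IsRatV F₀ (μ • (g.1 *ᵥ bv F l)) :=
    fun l => hex _ (isRatV_bv F₀ l) (bv_ne_zero l)
  choose μ hμ0 hμ using hcol
  set j₀ : Fin m ⊕ Fin m := Sum.inl ⟨0, by omega⟩ with hj₀
  have key : ∀ l, μ j₀ / μ l ∈ F₀ := by
    intro l
    by_cases h1 : l = j₀
    · rw [h1, div_self (hμ0 j₀)]; exact F₀.one_mem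
    by_cases h2 : l = Sum.swap j₀
    · refine hratio (bv F j₀) (bv F l) _ _ (isRatV_bv F₀ _) (isRatV_bv F₀ _) (bv_ne_zero _)
        (hμ0 l) ?_ (hμ j₀) (hμ l)
      rw [h2]; exact form_bv_bv_swap_ne_zero j₀
    · set w := bv F (Sum.swap j₀) + bv F (Sum.swap l) with hw
      have hwr : IsRatV F₀ w := (isRatV_bv F₀ _).add (isRatV_bv F₀ _)
      have hsw : Sum.swap l ≠ Sum.swap j₀ := fun h' => h1 (Sum.swap_leftInverse.injective h')
      have e1 : sympForm m F (bv F j₀) w ≠ 0 := by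
        rw [hw, sympForm_add_right, form_bv_bv_of_ne hsw, add_zero]
        exact form_bv_bv_swap_ne_zero j₀
      have e2 : sympForm m F w (bv F l) ≠ 0 := by
        rw [hw, sympForm_add_left]
        have h3 : sympForm m F (bv F (Sum.swap j₀)) (bv F l) = 0 := by
          apply form_bv_bv_of_ne
          rw [Sum.swap_swap]; exact h1
        have h4 : sympForm m F (bv F (Sum.swap l)) (bv F l) ≠ 0 := by
          have := form_bv_bv_swap_ne_zero (F := F) (Sum.swap l)
          rwa [Sum.swap_swap] at this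
        rw [h3, zero_add]; exact h4
      have hw0 : w ≠ 0 := by
        intro h'
        apply e1
        rw [h', form_zero_right]
      obtain ⟨ν, hν0, hν⟩ := hex w hwr hw0
      have r1 := hratio (bv F j₀) w (μ j₀) ν (isRatV_bv F₀ _) hwr hw0 hν0 e1 (hμ j₀) hν
      have r2 := hratio w (bv F l) ν (μ l) hwr (isRatV_bv F₀ _) (bv_ne_zero _) (hμ0 l) e2 hν (hμ l)
      have := F₀.mul_mem r1 r2
      rwa [div_mul_div_cancel₀ hν0] at this
  rw [mem_subfield_iff']
  refine ⟨μ j₀, hμ0 j₀, fun i l => ?_⟩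
  have h1 := F₀.mul_mem (key l) (hμ l i)
  rw [Pi.smul_apply, smul_eq_mul] at h1
  have h2 : (g.1 *ᵥ bv F l) i = g.1 i l := by
    unfold bv
    rw [Matrix.mulVec_single_one]
    rfl
  rw [h2] at h1
  have : μ j₀ * g.1 i l = μ j₀ / μ l * (μ l * g.1 i l) := by
    have := hμ0 l
    field_simp
  rw [this]
  exact h1

end Columns

section Main

variable {F : Type u} [Field F] [Fintype F] {m : ℕ} (F₀ : Subfield F)

/-- the standard subfield subgroup of `Sp_{2m}` is maximal -/
theorem isMaximalIn_one_sp (hm : 3 ≤ m) (r : ℕ) (hr : r.Prime)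
    (hcard : Fintype.card F = Nat.card F₀ ^ r) :
    Cfsg.Geo.IsMaximalIn (spGL m F) (Cfsg.Geo.subfieldSubgroup F₀ 1 ⊓ spGL m F) := by
  classical
  refine ⟨lt_of_le_of_ne inf_le_right ?_, ?_⟩
  · intro heq
    obtain ⟨c, hc⟩ : ∃ c : F, c ∉ F₀ := by
      by_contra hcon
      push Not at hcon
      have h1 : Nat.card F₀ = Fintype.card F := by
        rw [← Nat.card_eq_fintype_card]
        exact Nat.card_congr ⟨fun x => x.1, fun x => ⟨x, hcon x⟩, fun x => rfl, fun x => rfl⟩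
      have hq : 2 ≤ Nat.card F₀ := by
        have : 1 < Nat.card F₀ := Finite.one_lt_card
        omega
      rw [← h1] at hcard
      have h3 : Nat.card F₀ ^ 1 = Nat.card F₀ ^ r := by rw [pow_one]; exact hcard
      have := Nat.pow_right_injective hq h3
      exact hr.one_lt.ne this
    set j₀ : Fin m ⊕ Fin m := Sum.inl ⟨0, by omega⟩ with hj₀
    have hg : tvGL m (bv F j₀) c ∈ spGL m F := tvGL_mem m _ c
    rw [← heq] at hg
    obtain ⟨c', hc'0, hc'⟩ := (mem_subfield_iff' F₀ _).1 (Subgroup.mem_inf.1 hg).1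
    have hval : ∀ i l, (tvGL m (bv F j₀) c).1 i l =
        (1 : Matrix (Fin m ⊕ Fin m) (Fin m ⊕ Fin m) F) i l +
          c * (bv F j₀ i * -(sg F l * bv F j₀ (Sum.swap l))) := by
      intro i l
      show sympTransvection m (bv F j₀) c i l = _
      unfold sympTransvection
      rw [Matrix.add_apply, Matrix.smul_apply, vecMulVec_apply, J_mulVec, smul_eq_mul]
    have e00 := hc' j₀ j₀
    have e01 := hc' j₀ (Sum.swap j₀)
    rw [hval, Matrix.one_apply_eq, bv_apply_ne (swap_ne_self j₀), mul_zero, neg_zero, mul_zero,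
      mul_zero, add_zero, mul_one] at e00
    rw [hval, Matrix.one_apply_ne (swap_ne_self j₀).symm, Sum.swap_swap, bv_apply_same, zero_add,
      one_mul, mul_one] at e01
    apply hc
    have h1 : c = (c'⁻¹ * (c' * (c * -sg F (Sum.swap j₀)))) * -sg F (Sum.swap j₀) := by
      have : c'⁻¹ * (c' * (c * -sg F (Sum.swap j₀))) * -sg F (Sum.swap j₀) =
          (c'⁻¹ * c') * c * (sg F (Sum.swap j₀) * sg F (Sum.swap j₀)) := by ring
      rw [this, inv_mul_cancel₀ hc'0, sg_mul_self, one_mul, mul_one]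
    rw [h1]
    exact F₀.mul_mem (F₀.mul_mem (F₀.inv_mem e00) e01) (F₀.neg_mem (sg_mem F₀ _))
  · intro H hMH hHS
    have hR : ratSp F₀ m ≤ H := le_trans (ratSp_le F₀) hMH
    have hS : HasRat F₀ (H.comap (dg m)) := hasRat_comap F₀ hR
    rcases noBad_or_le F₀ (H.comap (dg m)) hm hS r hr hcard with hN | hle
    · left
      apply le_antisymm _ hMH
      intro c hc
      exact Subgroup.mem_inf.2 ⟨le_of_noBad_sp F₀ hm r hr hcard hR hHS hN hc, hHS hc⟩
    · right
      exact le_antisymm hHS (spGL_le_of_SL F₀ (by omega) hR hHS hle)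

end Main

end Cfsg.Agent.Lib.Helper2.Ssf
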