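import Mathlib
import Cfsg.Agent.Lib.Helper2.SsfG
import Cfsg.Agent.Lib.Helper2.SfmF
import Cfsg.Agent.Lib.Helper5.AltForm
set_option autoImplicit false
set_option maxHeartbeats 1000000
set_option linter.unusedVariables false
set_option linter.unusedSectionVars false
set_option linter.style.longLine false
set_option linter.unusedSimpArgs false
set_option linter.deprecated false
set_option linter.style.haveILetI false

/-! Subfield subgroups of `Sp_{2m}` are maximal (part H): reduction of an arbitrary rational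
structure compatible with the form to the standard one (Darboux basis over the subfield), and the
maximality statement in general. -/

namespace Cfsg.Agent.Lib.Helper2.Ssf

open Matrix Cfsg Cfsg.Agent.Lib.Helper5.SympTv Cfsg.Agent.Lib.Helper5.SympGen
  Cfsg.Agent.Lib.Helper5.SympBridge Cfsg.Agent.Lib.Helper5.SpCentres
  Cfsg.Agent.Lib.Helper5.TvGL Cfsg.Agent.Lib.Helper2.Sfm

universe u

section Bil

variable {F : Type u} [Field F] {m : ℕ}

/-- the form of the images under a matrix, as a bilinear expression -/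
theorem form_mulVec_eq (A : Matrix (Fin m ⊕ Fin m) (Fin m ⊕ Fin m) F)
    (x y : Fin m ⊕ Fin m → F) :
    sympForm m F (A *ᵥ x) (A *ᵥ y) = x ⬝ᵥ ((Aᵀ * Matrix.J (Fin m) F * A) *ᵥ y) := by
  unfold sympForm
  rw [← Matrix.mulVec_mulVec, ← Matrix.mulVec_mulVec, ← Matrix.vecMul_transpose A x,
    ← Matrix.dotProduct_mulVec]

theorem entry_eq_form (M : Matrix (Fin m ⊕ Fin m) (Fin m ⊕ Fin m) F) (j k : Fin m ⊕ Fin m) :
    M j k = bv F j ⬝ᵥ (M *ᵥ bv F k) := by
  unfold bv
  rw [Matrix.mulVec_single_one, single_one_dotProduct]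
  rfl

/-- a matrix scaling the form on the standard basis scales it everywhere -/
theorem form_eq_of_basis (A : Matrix (Fin m ⊕ Fin m) (Fin m ⊕ Fin m) F) (c : F)
    (h : ∀ j k, c * sympForm m F (A *ᵥ bv F j) (A *ᵥ bv F k) = sympForm m F (bv F j) (bv F k))
    (x y : Fin m ⊕ Fin m → F) :
    c * sympForm m F (A *ᵥ x) (A *ᵥ y) = sympForm m F x y := by
  have hM : c • (Aᵀ * Matrix.J (Fin m) F * A) = Matrix.J (Fin m) F := by
    ext j k
    have e1 := entry_eq_form (Aᵀ * Matrix.J (Fin m) F * A) j k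
    have e2 := entry_eq_form (Matrix.J (Fin m) F) j k
    rw [Matrix.smul_apply, smul_eq_mul, e1, e2, ← form_mulVec_eq]
    exact h j k
  rw [form_mulVec_eq, ← smul_eq_mul, ← dotProduct_smul, ← Matrix.smul_mulVec, hM]
  rfl

/-- conjugation by a similitude preserves the symplectic group -/
theorem conj_mem_spGL {Q : GL (Fin m ⊕ Fin m) F} {c : F} (hc : c ≠ 0)
    (hQ : ∀ x y, sympForm m F (Q.1 *ᵥ x) (Q.1 *ᵥ y) = c * sympForm m F x y)
    {g : GL (Fin m ⊕ Fin m) F} (hg : g ∈ spGL m F) : Q * g * Q⁻¹ ∈ spGL m F := by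
  rw [mem_spGL_iff]
  intro x y
  rw [gl_mul_mulVec, gl_mul_mulVec, gl_mul_mulVec, gl_mul_mulVec, hQ, spGL_form hg]
  have := hQ ((Q⁻¹).1 *ᵥ x) ((Q⁻¹).1 *ᵥ y)
  rw [gl_mulVec_inv_cancel, gl_mulVec_inv_cancel] at this
  exact this.symm

theorem spGL_map_conj {Q : GL (Fin m ⊕ Fin m) F} {c : F} (hc : c ≠ 0)
    (hQ : ∀ x y, sympForm m F (Q.1 *ᵥ x) (Q.1 *ᵥ y) = c * sympForm m F x y) :
    (spGL m F).map (MulAut.conj Q).toMonoidHom = spGL m F := by
  have hQ' : ∀ x y, sympForm m F ((Q⁻¹).1 *ᵥ x) ((Q⁻¹).1 *ᵥ y) = c⁻¹ * sympForm m F x y := by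
    intro x y
    have := hQ ((Q⁻¹).1 *ᵥ x) ((Q⁻¹).1 *ᵥ y)
    rw [gl_mulVec_inv_cancel, gl_mulVec_inv_cancel] at this
    rw [this, ← mul_assoc, inv_mul_cancel₀ hc, one_mul]
  ext x
  rw [Subgroup.mem_map]
  constructor
  · rintro ⟨y, hy, hyx⟩
    rw [← hyx]
    show (MulAut.conj Q) y ∈ _
    rw [MulAut.conj_apply]
    exact conj_mem_spGL hc hQ hy
  · intro hx
    refine ⟨Q⁻¹ * x * (Q⁻¹)⁻¹, conj_mem_spGL (inv_ne_zero hc) hQ' hx, ?_⟩
    show (MulAut.conj Q) (Q⁻¹ * x * (Q⁻¹)⁻¹) = x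
    rw [MulAut.conj_apply]
    group

end Bil

section Sub

variable {F : Type u} [Field F] {ι : Type} [Fintype ι] [DecidableEq ι] (F₀ : Subfield F)

theorem subfieldSubgroup_eq_map' (P : GL ι F) :
    Cfsg.Geo.subfieldSubgroup F₀ P =
      (Cfsg.Geo.subfieldSubgroup F₀ 1).map (MulAut.conj P).toMonoidHom := by
  unfold Cfsg.Geo.subfieldSubgroup
  congr 1
  ext x
  rw [Subgroup.mem_map]
  constructor
  · intro hx
    refine ⟨x, hx, ?_⟩
    show (MulAut.conj (1 : GL ι F)) x = x
    rw [MulAut.conj_apply, one_mul, inv_one, mul_one]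
  · rintro ⟨y, hy, hyx⟩
    have : (MulAut.conj (1 : GL ι F)) y = y := by
      rw [MulAut.conj_apply, one_mul, inv_one, mul_one]
    rw [← hyx]
    show (MulAut.conj (1 : GL ι F)) y ∈ _
    rw [this]; exact hy

theorem map_conj_eq_self {G : Type*} [Group G] (S : Subgroup G) {g : G} (hg : g ∈ S) :
    S.map (MulAut.conj g).toMonoidHom = S := by
  ext x
  rw [Subgroup.mem_map]
  constructor
  · rintro ⟨y, hy, hyx⟩
    rw [← hyx]
    show (MulAut.conj g) y ∈ _
    rw [MulAut.conj_apply]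
    exact S.mul_mem (S.mul_mem hg hy) (S.inv_mem hg)
  · intro hx
    refine ⟨g⁻¹ * x * g, S.mul_mem (S.mul_mem (S.inv_mem hg) hx) hg, ?_⟩
    show (MulAut.conj g) (g⁻¹ * x * g) = x
    rw [MulAut.conj_apply]
    group

/-- changing the basis of the rational structure by a rational matrix does not change the
subfield group -/
theorem subfieldSubgroup_mul (P R : GL ι F) (hR : R ∈ Cfsg.Geo.subfieldSubgroup F₀ 1) :
    Cfsg.Geo.subfieldSubgroup F₀ (P * R) = Cfsg.Geo.subfieldSubgroup F₀ P := by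
  rw [subfieldSubgroup_eq_map' F₀ (P * R), subfieldSubgroup_eq_map' F₀ P]
  have h1 : (MulAut.conj (P * R)).toMonoidHom =
      (MulAut.conj P).toMonoidHom.comp (MulAut.conj R).toMonoidHom := by
    ext x
    simp [MulAut.conj_apply, mul_assoc]
  rw [h1, ← Subgroup.map_map, map_conj_eq_self _ hR]

end Sub

section Darboux

variable {F : Type u} [Field F] [Fintype F] {m : ℕ} (F₀ : Subfield F)

/-- rational vectors, with coordinates in the subfield as a type -/
def up (a : Fin m ⊕ Fin m → F₀) : Fin m ⊕ Fin m → F := fun i => (a i : F)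

theorem up_add (a b : Fin m ⊕ Fin m → F₀) : up F₀ (a + b) = up F₀ a + up F₀ b := by
  funext i; simp [up]

theorem up_smul (c : F₀) (a : Fin m ⊕ Fin m → F₀) : up F₀ (c • a) = (c : F) • up F₀ a := by
  funext i; simp [up]

theorem isRatV_up (a : Fin m ⊕ Fin m → F₀) : IsRatV F₀ (up F₀ a) := fun i => (a i).2

theorem up_single (j : Fin m ⊕ Fin m) : up F₀ (Pi.single j (1 : F₀)) = bv F j := by
  funext i
  unfold up bv
  by_cases h : i = j
  · subst h; simp
  · simp [Pi.single_eq_of_ne h]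

variable {F₀}

/-- the rational form attached to a compatible rational structure -/
noncomputable def ratForm {P : GL (Fin m ⊕ Fin m) F} {ζ : F}
    (hP : Cfsg.Geo.IsFormRationalStructure (sympForm m F) F₀ ζ P) :
    LinearMap.BilinForm F₀ (Fin m ⊕ Fin m → F₀) :=
  LinearMap.mk₂ F₀
    (fun a b => (⟨ζ * sympForm m F (P.1 *ᵥ up F₀ a) (P.1 *ᵥ up F₀ b),
      hP _ _ (isRatV_up F₀ a) (isRatV_up F₀ b)⟩ : F₀))
    (by
      intro a a' b
      apply Subtype.ext
      simp only [up_add, Matrix.mulVec_add, sympForm_add_left, mul_add, Subfield.coe_add])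
    (by
      intro c a b
      apply Subtype.ext
      simp only [up_smul, Matrix.mulVec_smul, sympForm_smul_left, smul_eq_mul, Subfield.coe_mul]
      ring)
    (by
      intro a b b'
      apply Subtype.ext
      simp only [up_add, Matrix.mulVec_add, sympForm_add_right, mul_add, Subfield.coe_add])
    (by
      intro c a b
      apply Subtype.ext
      simp only [up_smul, Matrix.mulVec_smul, sympForm_smul_right, smul_eq_mul, Subfield.coe_mul]
      ring)

theorem ratForm_apply {P : GL (Fin m ⊕ Fin m) F} {ζ : F}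
    (hP : Cfsg.Geo.IsFormRationalStructure (sympForm m F) F₀ ζ P) (a b : Fin m ⊕ Fin m → F₀) :
    ((ratForm hP a b : F₀) : F) = ζ * sympForm m F (P.1 *ᵥ up F₀ a) (P.1 *ᵥ up F₀ b) := rfl

theorem ratForm_isAlt {P : GL (Fin m ⊕ Fin m) F} {ζ : F}
    (hP : Cfsg.Geo.IsFormRationalStructure (sympForm m F) F₀ ζ P) : (ratForm hP).IsAlt := by
  intro a
  apply Subtype.ext
  rw [ratForm_apply, sympForm_self, mul_zero]
  rfl

theorem ratForm_ker {P : GL (Fin m ⊕ Fin m) F} {ζ : F} (hζ : ζ ≠ 0)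
    (hP : Cfsg.Geo.IsFormRationalStructure (sympForm m F) F₀ ζ P) :
    LinearMap.ker (ratForm hP) = ⊥ := by
  rw [eq_bot_iff]
  intro a ha
  rw [Submodule.mem_bot]
  rw [LinearMap.mem_ker] at ha
  set x := P.1 *ᵥ up F₀ a with hx
  -- `x` is orthogonal to the images of the basis vectors
  have h1 : ∀ j, sympForm m F x (P.1 *ᵥ bv F j) = 0 := by
    intro j
    have h2 := congrArg (fun t : F₀ => (t : F)) (LinearMap.congr_fun ha (Pi.single j (1 : F₀)))
    simp only [LinearMap.zero_apply, ZeroMemClass.coe_zero] at h2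
    rw [ratForm_apply, up_single] at h2
    rcases mul_eq_zero.1 h2 with h3 | h3
    · exact absurd h3 hζ
    · exact h3
  -- hence to everything
  have h4 : ∀ y, sympForm m F x (P.1 *ᵥ y) = 0 := by
    intro y
    have e : sympForm m F x (P.1 *ᵥ y) = (x ᵥ* (Matrix.J (Fin m) F * P.1)) ⬝ᵥ y := by
      unfold sympForm
      rw [Matrix.mulVec_mulVec, Matrix.dotProduct_mulVec]
    have h5 : x ᵥ* (Matrix.J (Fin m) F * P.1) = 0 := by
      funext j
      have := h1 j
      unfold sympForm bv at this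
      rw [Matrix.mulVec_mulVec, Matrix.dotProduct_mulVec, dotProduct_single_one] at this
      exact this
    rw [e, h5, zero_dotProduct]
  have h6 : x = 0 := by
    apply eq_zero_of_sympForm_right m x
    intro v
    have := h4 ((P⁻¹).1 *ᵥ v)
    rwa [gl_mulVec_inv_cancel] at this
  have h7 : up F₀ a = 0 := gl_mulVec_eq_zero P h6
  funext i
  have := congrFun h7 i
  apply Subtype.ext
  exact this

/-- a Darboux basis of the rational form -/
theorem exists_darboux {P : GL (Fin m ⊕ Fin m) F} {ζ : F} (hζ : ζ ≠ 0)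
    (hP : Cfsg.Geo.IsFormRationalStructure (sympForm m F) F₀ ζ P) :
    ∃ b : Module.Basis (Fin m ⊕ Fin m) F₀ (Fin m ⊕ Fin m → F₀),
      (∀ i j, ratForm hP (b (Sum.inl i)) (b (Sum.inr j)) = if i = j then 1 else 0) ∧
      (∀ i j, ratForm hP (b (Sum.inl i)) (b (Sum.inl j)) = 0) ∧
      (∀ i j, ratForm hP (b (Sum.inr i)) (b (Sum.inr j)) = 0) := by
  obtain ⟨r, k', b, h1, h2, h3, h4, h5, h6⟩ :=
    Cfsg.Agent.Lib.Helper5.AltForm.exists_darboux_basis (ratForm hP) (ratForm_isAlt hP)
  rw [ratForm_ker hζ hP, finrank_bot] at h6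
  rw [Module.finrank_pi, Fintype.card_sum, Fintype.card_fin] at h5
  have hr : r = m := by omega
  subst h6
  subst hr
  refine ⟨b.reindex (Equiv.sumEmpty _ _), ?_, ?_, ?_⟩
  · intro a c
    rw [Module.Basis.reindex_apply, Module.Basis.reindex_apply]
    exact h1 a c
  · intro a c
    rw [Module.Basis.reindex_apply, Module.Basis.reindex_apply]
    exact h2 a c
  · intro a c
    rw [Module.Basis.reindex_apply, Module.Basis.reindex_apply]
    exact h3 a c

/-- a rational change of basis turning the structure into a similitude of the standard one -/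
theorem exists_rat_similitude {P : GL (Fin m ⊕ Fin m) F} {ζ : F} (hζ : ζ ≠ 0)
    (hP : Cfsg.Geo.IsFormRationalStructure (sympForm m F) F₀ ζ P) :
    ∃ R : GL (Fin m ⊕ Fin m) F, R ∈ Cfsg.Geo.subfieldSubgroup F₀ 1 ∧
      ∀ x y, ζ * sympForm m F ((P * R).1 *ᵥ x) ((P * R).1 *ᵥ y) = sympForm m F x y := by
  classical
  obtain ⟨b, h1, h2, h3⟩ := exists_darboux hζ hP
  set b' : Module.Basis (Fin m ⊕ Fin m) F₀ (Fin m ⊕ Fin m → F₀) :=
    b.reindex (Equiv.sumComm _ _) with hb'
  have hb'l : ∀ i, b' (Sum.inl i) = b (Sum.inr i) := fun i => by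
    rw [hb', Module.Basis.reindex_apply]; rfl
  have hb'r : ∀ i, b' (Sum.inr i) = b (Sum.inl i) := fun i => by
    rw [hb', Module.Basis.reindex_apply]; rfl
  set e := Pi.basisFun F₀ (Fin m ⊕ Fin m) with he
  set R₀ : Matrix (Fin m ⊕ Fin m) (Fin m ⊕ Fin m) F₀ := e.toMatrix b' with hR₀
  set R₁ : Matrix (Fin m ⊕ Fin m) (Fin m ⊕ Fin m) F₀ := b'.toMatrix e with hR₁
  have hmul1 : R₀ * R₁ = 1 := Module.Basis.toMatrix_mul_toMatrix_flip e b'
  have hmul2 : R₁ * R₀ = 1 := Module.Basis.toMatrix_mul_toMatrix_flip b' e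
  have hentry : ∀ i j, R₀ i j = b' j i := by
    intro i j
    rw [hR₀, Module.Basis.toMatrix_apply, he, Pi.basisFun_repr]
  set f : F₀ →+* F := F₀.subtype with hf
  have hm1 : R₀.map f * R₁.map f = 1 := by
    rw [← Matrix.map_mul, hmul1, Matrix.map_one _ (map_zero f) (map_one f)]
  have hm2 : R₁.map f * R₀.map f = 1 := by
    rw [← Matrix.map_mul, hmul2, Matrix.map_one _ (map_zero f) (map_one f)]
  set R : GL (Fin m ⊕ Fin m) F := ⟨R₀.map f, R₁.map f, hm1, hm2⟩ with hR
  have hRv : ∀ j, R.1 *ᵥ bv F j = up F₀ (b' j) := by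
    intro j
    funext i
    unfold bv
    rw [Matrix.mulVec_single_one]
    show (R₀.map f) i j = _
    rw [Matrix.map_apply, hentry]
    rfl
  refine ⟨R, ?_, ?_⟩
  · rw [mem_subfield_iff']
    refine ⟨1, one_ne_zero, fun i j => ?_⟩
    rw [one_mul]
    show (R₀.map f) i j ∈ F₀
    rw [Matrix.map_apply]
    exact (R₀ i j).2
  · -- values on the standard basis
    have hval : ∀ j k, ζ * sympForm m F ((P * R).1 *ᵥ bv F j) ((P * R).1 *ᵥ bv F k) =
        ((ratForm hP (b' j) (b' k) : F₀) : F) := by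
      intro j k
      rw [ratForm_apply, gl_mul_mulVec, gl_mul_mulVec, hRv, hRv]
    have hsk : ∀ a c, ratForm hP (b (Sum.inr a)) (b (Sum.inl c)) = if c = a then -1 else 0 := by
      intro a c
      have h4 := neg_eq_iff_eq_neg.1 ((ratForm_isAlt hP).neg_eq (b (Sum.inr a)) (b (Sum.inl c)))
      rw [h4, h1 c a]
      split_ifs <;> simp
    apply form_eq_of_basis
    intro j k
    rw [hval]
    rcases j with j | j <;> rcases k with k | k
    · rw [hb'l, hb'l, h3, form_bv_bv_of_ne (by simp)]; rfl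
    · rw [hb'l, hb'r, hsk, form_bv]
      by_cases hjk : k = j
      · subst hjk; simp [sg, bv_apply_same]
      · rw [if_neg hjk]
        have : bv F (Sum.inl j) (Sum.swap (Sum.inr k)) = 0 := by
          apply bv_apply_ne
          simp [hjk]
        rw [this, mul_zero]; rfl
    · rw [hb'r, hb'l, h1, form_bv]
      by_cases hjk : j = k
      · subst hjk; simp [sg, bv_apply_same]
      · rw [if_neg hjk]
        have : bv F (Sum.inr j) (Sum.swap (Sum.inl k)) = 0 := by
          apply bv_apply_ne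
          simp [Ne.symm hjk]
        rw [this, mul_zero]; rfl
    · rw [hb'r, hb'r, h2, form_bv_bv_of_ne (by simp)]; rfl

end Darboux

section Final

variable {F : Type u} [Field F] [Fintype F] {m : ℕ} (F₀ : Subfield F)

/-- the subfield group of `Sp_{2m}` attached to a compatible rational structure is maximal -/
theorem isMaximalIn_sp_subfield (hm : 3 ≤ m) (r : ℕ) (hr : r.Prime)
    (hcard : Fintype.card F = Nat.card F₀ ^ r) (P : GL (Fin m ⊕ Fin m) F) (ζ : F) (hζ : ζ ≠ 0)
    (hP : Cfsg.Geo.IsFormRationalStructure (sympForm m F) F₀ ζ P) :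
    Cfsg.Geo.IsMaximalIn (spGL m F) (Cfsg.Geo.subfieldSubgroup F₀ P ⊓ spGL m F) := by
  obtain ⟨R, hR, hsim⟩ := exists_rat_similitude hζ hP
  have hQ : ∀ x y, sympForm m F ((P * R).1 *ᵥ x) ((P * R).1 *ᵥ y) = ζ⁻¹ * sympForm m F x y := by
    intro x y
    rw [← hsim x y, ← mul_assoc, inv_mul_cancel₀ hζ, one_mul]
  have h := isMaximalIn_map (MulAut.conj (P * R)) (isMaximalIn_one_sp F₀ hm r hr hcard)
  rw [Subgroup.map_inf _ _ _ (MulAut.conj (P * R)).injective,
    spGL_map_conj (inv_ne_zero hζ) hQ, ← subfieldSubgroup_eq_map', subfieldSubgroup_mul F₀ P R hR]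
    at h
  exact h

end Final

end Cfsg.Agent.Lib.Helper2.Ssf
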