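import Mathlib
import Cfsg.Agent.Lib.Helper6.StSLD2b
import Cfsg.Agent.Lib.Helper2.StSLW
import Cfsg.Agent.Lib.Helper1.StSLH1

set_option autoImplicit false
set_option linter.style.haveILetI false
set_option linter.unusedVariables false
set_option linter.unusedSectionVars false

/-!
Farm STSL (statement S2401), unit K2: an element of the torus `T = ⟨h_am(t)⟩` whose matrix fixes
`e_a` lies in `L = S.sub (J.erase a)`.  Here with the statements of unit H2 (`h_mul`, `h_comm`,
`h_trans`) as hypotheses.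
-/

namespace Cfsg.Agent.Lib.Helper2.StSL

open Matrix Cfsg.Agent.Lib.Helper6.StSL

variable {I : Type*} [DecidableEq I] [Fintype I] {K : Type*} [Field K] {Γ : Type*} [Group Γ]
  (S : StA I K Γ)

/-- the matrix of an element of `L` fixes `e_a` -/
theorem π_L_fix (J : Finset I) (a : I) : ∀ l ∈ S.sub (J.erase a),
    ((S.π l : Matrix.SpecialLinearGroup I K) : Matrix I I K) *ᵥ (Pi.single a 1) =
      Pi.single a 1 := by
  intro l hl
  rw [sub_erase_eq] at hl
  induction hl using Subgroup.closure_induction with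
  | mem g hg =>
    obtain ⟨i, j, t, hi, hj, hij, rfl⟩ := hg
    have hja : j ≠ a := Finset.ne_of_mem_erase hj
    rw [S.π_x i j hij, transvection_mulVec, Pi.single_eq_of_ne hja, mul_zero, Pi.single_zero,
      add_zero]
  | one => rw [map_one, Matrix.SpecialLinearGroup.coe_one, Matrix.one_mulVec]
  | mul x y _ _ hx hy =>
    rw [map_mul, Matrix.SpecialLinearGroup.coe_mul, ← Matrix.mulVec_mulVec, hy, hx]
  | inv x _ hx =>
    conv_lhs => rw [← hx]
    rw [Matrix.mulVec_mulVec, ← Matrix.SpecialLinearGroup.coe_mul, ← map_mul, inv_mul_cancel,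
      map_one, Matrix.SpecialLinearGroup.coe_one, Matrix.one_mulVec]

/-- every element of `T` is `h_ab(d) · l` with `l ∈ L` -/
theorem T_decomp
    (hmul : ∀ {i j : I}, i ≠ j → ∀ {t u : K}, t ≠ 0 → u ≠ 0 →
      S.h i j t * S.h i j u = S.h i j (t * u))
    (hcomm : ∀ {i j k l : I}, i ≠ j → k ≠ l → ∀ {t u : K}, t ≠ 0 → u ≠ 0 →
      S.h i j t * S.h k l u = S.h k l u * S.h i j t)
    (htrans : ∀ {i j k : I}, i ≠ j → j ≠ k → i ≠ k → ∀ {t : K}, t ≠ 0 →
      S.h i k t = S.h i j t * S.h j k t)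
    (J : Finset I) (a : I) {b : I} (hb : b ∈ J.erase a) :
    ∀ t ∈ Tsub S J a, ∃ d : K, d ≠ 0 ∧ ∃ l ∈ S.sub (J.erase a), t = S.h a b d * l := by
  have hab : a ≠ b := (Finset.ne_of_mem_erase hb).symm
  refine closure_induction_left' (genT S J a) ?_
    (fun t => ∃ d : K, d ≠ 0 ∧ ∃ l ∈ S.sub (J.erase a), t = S.h a b d * l) ?_ ?_
  · rintro x ⟨m, s, hm, hs, rfl⟩
    have ham : a ≠ m := (Finset.ne_of_mem_erase hm).symm
    refine ⟨m, s⁻¹, hm, inv_ne_zero hs, ?_⟩
    apply inv_eq_of_mul_eq_one_right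
    rw [hmul ham hs (inv_ne_zero hs), mul_inv_cancel₀ hs, Cfsg.Agent.Lib.Helper1.StSL.h_one S ham]
  · exact ⟨1, one_ne_zero, 1, one_mem _, by
      rw [Cfsg.Agent.Lib.Helper1.StSL.h_one S hab, mul_one]⟩
  · rintro x ⟨m, s, hm, hs, rfl⟩ y ⟨d, hd, l, hl, rfl⟩
    have ham : a ≠ m := (Finset.ne_of_mem_erase hm).symm
    by_cases hmb : m = b
    · subst hmb
      exact ⟨s * d, mul_ne_zero hs hd, l, hl, by rw [← mul_assoc, hmul ham hs hd]⟩
    · have hbm : b ≠ m := fun h => hmb h.symm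
      refine ⟨s * d, mul_ne_zero hs hd, S.h b m s * l, mul_mem (S.h_mem_sub hb hm hbm s) hl, ?_⟩
      have e : S.h b m s * S.h a b d = S.h a b d * S.h b m s := hcomm hbm hab hs hd
      rw [htrans hab hbm ham hs, ← hmul hab hs hd]
      calc S.h a b s * S.h b m s * (S.h a b d * l)
          = S.h a b s * (S.h b m s * S.h a b d) * l := by group
        _ = S.h a b s * (S.h a b d * S.h b m s) * l := by rw [e]
        _ = S.h a b s * S.h a b d * (S.h b m s * l) := by group

/-- unit K2 with the statements of unit H2 as hypotheses -/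
theorem T_mem_L_of
    (hmul : ∀ {i j : I}, i ≠ j → ∀ {t u : K}, t ≠ 0 → u ≠ 0 →
      S.h i j t * S.h i j u = S.h i j (t * u))
    (hcomm : ∀ {i j k l : I}, i ≠ j → k ≠ l → ∀ {t u : K}, t ≠ 0 → u ≠ 0 →
      S.h i j t * S.h k l u = S.h k l u * S.h i j t)
    (htrans : ∀ {i j k : I}, i ≠ j → j ≠ k → i ≠ k → ∀ {t : K}, t ≠ 0 →
      S.h i k t = S.h i j t * S.h j k t)
    (J : Finset I) (a : I) (ha : a ∈ J) (hJ : 3 ≤ J.card) (t : Γ) (ht : t ∈ Tsub S J a)
    (h1 : ((S.π t : Matrix.SpecialLinearGroup I K) : Matrix I I K) *ᵥ (Pi.single a 1) =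
      Pi.single a 1) : t ∈ S.sub (J.erase a) := by
  have hcard : 2 ≤ (J.erase a).card := by rw [Finset.card_erase_of_mem ha]; omega
  obtain ⟨b, hb⟩ : ∃ b, b ∈ J.erase a := Finset.card_pos.1 (by omega)
  have hab : a ≠ b := (Finset.ne_of_mem_erase hb).symm
  obtain ⟨d, hd, l, hl, rfl⟩ := T_decomp S hmul hcomm htrans J a hb t ht
  rw [map_mul, Matrix.SpecialLinearGroup.coe_mul, ← Matrix.mulVec_mulVec, π_L_fix S J a l hl,
    Cfsg.Agent.Lib.Helper1.StSL.π_h S hab hd, Matrix.diagonal_mulVec_single] at h1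
  have h2 := congrFun h1 a
  rw [Pi.single_eq_same, Pi.single_eq_same, mul_one] at h2
  have hd1 : d = 1 := by
    have : chi a b d a = d := by simp [chi]
    rw [this] at h2
    exact h2
  rw [hd1, Cfsg.Agent.Lib.Helper1.StSL.h_one S hab, one_mul]
  exact hl

end Cfsg.Agent.Lib.Helper2.StSL
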