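import Mathlib
import Cfsg.Prelude.Def_LinearParabolics
import Cfsg.Agent.Lib.Helper5.StVDefs

/-! S2425 farm piece P14 (helper2): arithmetic of `tau`. -/

set_option autoImplicit false

open scoped Polynomial MatrixGroups

namespace Cfsg.Agent.Lib.Helper5.StV

theorem h2_tau_eq_prod_of_subset {F : Type*} [Field F] [DecidableEq F] (q : ℕ) (s : Multiset F[X])
    (T : Finset F[X]) (hT : s.toFinset ⊆ T) :
    tau q s = ∏ f ∈ T, (-1 : ℤ) ^ (s.count f) * ((q : ℤ) ^ f.natDegree) ^ ((s.count f).choose 2) := by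
  unfold tau
  apply Finset.prod_subset hT
  intro g _ hg
  rw [Multiset.mem_toFinset] at hg
  rw [Multiset.count_eq_zero_of_notMem hg]
  simp

theorem tau_cons {F : Type*} [Field F] [DecidableEq F] (q : ℕ) (f : F[X]) (s : Multiset F[X]) :
    tau q (f ::ₘ s) = -(((q : ℤ) ^ f.natDegree) ^ (s.count f)) * tau q s := by
  have hsub1 : (f ::ₘ s).toFinset ⊆ insert f s.toFinset := by
    rw [Multiset.toFinset_cons]
  rw [h2_tau_eq_prod_of_subset q (f ::ₘ s) (insert f s.toFinset) hsub1,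
    h2_tau_eq_prod_of_subset q s (insert f s.toFinset) (Finset.subset_insert _ _)]
  rw [← Finset.mul_prod_erase (insert f s.toFinset) _ (Finset.mem_insert_self f _),
    ← Finset.mul_prod_erase (insert f s.toFinset) _ (Finset.mem_insert_self f _)]
  have h1 : ∀ g ∈ (insert f s.toFinset).erase f,
      (-1 : ℤ) ^ ((f ::ₘ s).count g) * ((q : ℤ) ^ g.natDegree) ^ (((f ::ₘ s).count g).choose 2)
        = (-1 : ℤ) ^ (s.count g) * ((q : ℤ) ^ g.natDegree) ^ ((s.count g).choose 2) := by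
    intro g hg
    rw [Multiset.count_cons_of_ne (Finset.ne_of_mem_erase hg) s]
  rw [Finset.prod_congr rfl h1, Multiset.count_cons_self]
  have h2 : (s.count f + 1).choose 2 = s.count f + (s.count f).choose 2 := by
    rw [Nat.choose_succ_succ' (s.count f) 1, Nat.choose_one_right]
  rw [h2, pow_succ, pow_add]
  ring

theorem tau_eq_prod {F : Type*} [Field F] [DecidableEq F] (q n : ℕ) (s : Multiset F[X]) (hs : ∀ f ∈ s, 1 ≤ f.natDegree)
    (hn : (s.map Polynomial.natDegree).sum = n) :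
    (-1 : ℂ) ^ n * ((tau q s : ℤ) : ℂ) =
      ∏ f ∈ s.toFinset, (-1 : ℂ) ^ ((f.natDegree - 1) * s.count f) *
        (q : ℂ) ^ (f.natDegree * s.count f * (s.count f - 1) / 2) := by
  have hn' : n = ∑ f ∈ s.toFinset, s.count f • f.natDegree := by
    rw [← hn, Finset.sum_multiset_map_count]
  rw [hn', ← Finset.prod_pow_eq_pow_sum]
  unfold tau
  rw [Int.cast_prod, ← Finset.prod_mul_distrib]
  apply Finset.prod_congr rfl
  intro f hf
  rw [Multiset.mem_toFinset] at hf
  obtain ⟨d', hd'⟩ : ∃ d', f.natDegree = d' + 1 := ⟨f.natDegree - 1, by have := hs f hf; omega⟩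
  set c := s.count f with hc
  rw [hd']
  push_cast
  have e1 : d' + 1 - 1 = d' := by omega
  have e2 : (d' + 1) * c * (c - 1) / 2 = (d' + 1) * c.choose 2 := by
    rw [Nat.choose_two_right, mul_assoc]
    exact Nat.mul_div_assoc _ (Nat.even_mul_pred_self c).two_dvd
  rw [e2, smul_eq_mul]
  have e3 : c * (d' + 1) = d' * c + c := by ring
  rw [e3, pow_add, ← pow_mul]
  have e5 : (-1 : ℂ) ^ c * (-1 : ℂ) ^ c = 1 := by
    rw [← mul_pow]; norm_num
  calc (-1 : ℂ) ^ (d' * c) * (-1) ^ c * ((-1) ^ c * (q : ℂ) ^ ((d' + 1) * c.choose 2))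
      = (-1 : ℂ) ^ (d' * c) * ((-1 : ℂ) ^ c * (-1 : ℂ) ^ c) * (q : ℂ) ^ ((d' + 1) * c.choose 2) := by ring
    _ = (-1 : ℂ) ^ (d' * c) * (q : ℂ) ^ ((d' + 1) * c.choose 2) := by rw [e5, mul_one]

end Cfsg.Agent.Lib.Helper5.StV
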