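import Mathlib
import Cfsg.Prelude.Def_LinearParabolics
import Cfsg.Agent.Lib.Helper5.StVDefs

/-! S2425 farm piece P5 (helper2): Weisner's theorem for an upper Moebius function. -/

set_option autoImplicit false

open scoped Polynomial MatrixGroups

namespace Cfsg.Agent.Lib.Helper5.StV

open Classical in
theorem weisner {L : Type*} [Lattice L] [Fintype L] [BoundedOrder L] (e : L → ℤ) (he : IsUpperMu e) (a : L)
    (ha : a ≠ ⊤) : (∑ u ∈ Finset.univ.filter (fun u : L => u ⊓ a = ⊥), e u) = 0 := by
  let T : L → ℤ := fun z => ∑ u ∈ Finset.univ.filter (fun u : L => u ⊓ a = z), e u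
  have hT0 : ∀ z, ¬ z ≤ a → T z = 0 := by
    intro z hz
    apply Finset.sum_eq_zero
    intro u hu
    rw [Finset.mem_filter] at hu
    exact absurd (hu.2 ▸ inf_le_right) hz
  have hsum : ∀ y, y ≤ a → ∑ z ∈ Finset.univ.filter (fun z : L => y ≤ z), T z = 0 := by
    intro y hy
    have hyt : y ≠ ⊤ := by
      rintro rfl
      exact ha (top_le_iff.mp hy)
    have h1 : ∑ z ∈ Finset.univ.filter (fun z : L => y ≤ z), T z
        = ∑ u ∈ Finset.univ.filter (fun u : L => y ≤ u), e u := by
      rw [← Finset.sum_fiberwise_of_maps_to (s := Finset.univ.filter (fun u : L => y ≤ u))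
        (t := Finset.univ.filter (fun z : L => y ≤ z)) (g := fun u => u ⊓ a) (f := e)]
      · apply Finset.sum_congr rfl
        intro z hz
        rw [Finset.mem_filter] at hz
        apply Finset.sum_congr _ (fun _ _ => rfl)
        ext u
        simp only [Finset.mem_filter, Finset.mem_univ, true_and]
        constructor
        · intro h
          exact ⟨(hz.2.trans (h ▸ inf_le_left)), h⟩
        · intro h
          exact h.2
      · intro u hu
        rw [Finset.mem_filter] at hu ⊢
        exact ⟨Finset.mem_univ _, le_inf hu.2 hy⟩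
    rw [h1, he y, if_neg hyt]
  have key : ∀ y, T y = 0 := by
    intro y
    induction y using WellFoundedGT.induction with
    | ind y ih =>
      by_cases hy : y ≤ a
      · have h1 := hsum y hy
        rw [Finset.sum_eq_single_of_mem y (by simp)] at h1
        · exact h1
        · intro z hz hzy
          rw [Finset.mem_filter] at hz
          exact ih z (lt_of_le_of_ne hz.2 (Ne.symm hzy))
      · exact hT0 y hy
  exact key ⊥

end Cfsg.Agent.Lib.Helper5.StV
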