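import Cfsg.Agent.Lib.Helper2.Plane4T
import Cfsg.Agent.Lib.Helper2.Plane4B
import Cfsg.Agent.Lib.Helper9.Steiner6
import Cfsg.Agent.Lib.Helper9.Steiner9

set_option autoImplicit false
set_option linter.unusedSectionVars false
set_option linter.unusedVariables false

/-! Steiner systems S(n+2, n+5, 21+n) on `δ ⊕ Fin n` (n = 2, 3), analysed through the plane of
order 4 on `δ` obtained by deriving at the `n` extra points.  Uniqueness of S(4,7,23) and
S(5,8,24). -/

namespace Cfsg.Agent.Lib.Helper2.SteinerSum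

open Finset Cfsg.Agent.Lib.Helper2.Plane4

variable {δ : Type*} [Fintype δ] [DecidableEq δ] {δ' : Type*} [Fintype δ'] [DecidableEq δ']
  {n : ℕ}

/-- the blocks with infinite part `J`, restricted to the finite part. -/
def fam (X : Finset (Finset (δ ⊕ Fin n))) (J : Finset (Fin n)) : Finset (Finset δ) :=
  (X.filter (fun b => b.toRight = J)).image Finset.toLeft

theorem mem_fam {X : Finset (Finset (δ ⊕ Fin n))} {J : Finset (Fin n)} {x : Finset δ} :
    x ∈ fam X J ↔ ∃ b ∈ X, b.toRight = J ∧ b.toLeft = x := by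
  simp only [fam, mem_image, mem_filter]
  constructor
  · rintro ⟨b, ⟨hb, hJ⟩, rfl⟩
    exact ⟨b, hb, hJ, rfl⟩
  · rintro ⟨b, hb, hJ, rfl⟩
    exact ⟨b, ⟨hb, hJ⟩, rfl⟩

theorem card_inter_split (b c : Finset (δ ⊕ Fin n)) :
    (b.toLeft ∩ c.toLeft).card + (b.toRight ∩ c.toRight).card = (b ∩ c).card := by
  rw [← toLeft_inter, ← toRight_inter, card_toLeft_add_card_toRight]

theorem eq_of_parts {b c : Finset (δ ⊕ Fin n)} (h1 : b.toLeft = c.toLeft)
    (h2 : b.toRight = c.toRight) : b = c := by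
  rw [← toLeft_disjSum_toRight (u := b), ← toLeft_disjSum_toRight (u := c), h1, h2]

/-- the extension of `e` fixing the extra points. -/
def lift (n : ℕ) (e : δ ≃ δ') : δ ⊕ Fin n ≃ δ' ⊕ Fin n := Equiv.sumCongr e (Equiv.refl (Fin n))

theorem toLeft_image_lift (e : δ ≃ δ') (b : Finset (δ ⊕ Fin n)) :
    (b.image (lift n e)).toLeft = b.toLeft.image e := by
  ext y
  simp only [mem_toLeft, mem_image]
  constructor
  · rintro ⟨x, hx, hxy⟩
    cases x with
    | inl x =>
      refine ⟨x, hx, ?_⟩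
      simpa [lift] using hxy
    | inr i => simp [lift] at hxy
  · rintro ⟨x, hx, rfl⟩
    exact ⟨Sum.inl x, hx, by simp [lift]⟩

theorem toRight_image_lift (e : δ ≃ δ') (b : Finset (δ ⊕ Fin n)) :
    (b.image (lift n e)).toRight = b.toRight := by
  ext j
  simp only [mem_toRight, mem_image]
  constructor
  · rintro ⟨x, hx, hxy⟩
    cases x with
    | inl x => simp [lift] at hxy
    | inr i =>
      have : i = j := by simpa [lift] using hxy
      rw [← this]
      exact hx
  · intro hj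
    exact ⟨Sum.inr j, hj, by simp [lift]⟩

theorem image_mem_of_fam {X' : Finset (Finset (δ' ⊕ Fin n))} (e : δ ≃ δ')
    {b : Finset (δ ⊕ Fin n)} (h : b.toLeft.image e ∈ fam X' b.toRight) :
    b.image (lift n e) ∈ X' := by
  obtain ⟨b', hb', h1, h2⟩ := mem_fam.mp h
  have : b.image (lift n e) = b' :=
    eq_of_parts (by rw [toLeft_image_lift, h2]) (by rw [toRight_image_lift, h1])
  rw [this]
  exact hb'

theorem iso_of_forall {Ω Ω' : Type*} [DecidableEq Ω] [DecidableEq Ω'] (f : Ω ≃ Ω')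
    {X : Finset (Finset Ω)} {X' : Finset (Finset Ω')} (h : ∀ b ∈ X, b.image f ∈ X')
    (hc : X'.card ≤ X.card) :
    Cfsg.SetSystemIso (X : Set (Finset Ω)) (X' : Set (Finset Ω')) := by
  refine ⟨f, ?_⟩
  have : X.image (fun b => b.image f) = X' :=
    eq_of_subset_of_card_le (image_subset_iff.mpr h)
      (by rw [card_image_of_injective _ (image_injective f.injective)]; exact hc)
  rw [← this, coe_image]

theorem card_blocks_eq {Ω Ω' : Type*} [Fintype Ω] [DecidableEq Ω] [Fintype Ω'] [DecidableEq Ω']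
    (hc : Fintype.card Ω = Fintype.card Ω') (t k : ℕ) (htk : t ≤ k) (X : Finset (Finset Ω))
    (X' : Finset (Finset Ω')) (hX : Cfsg.IsSteinerSystem t k (X : Set (Finset Ω)))
    (hX' : Cfsg.IsSteinerSystem t k (X' : Set (Finset Ω'))) : X.card = X'.card := by
  have h1 := Cfsg.Agent.Lib.Helper9.Steiner1.card_blocks_through t k X hX ∅ (by simp)
  have h2 := Cfsg.Agent.Lib.Helper9.Steiner1.card_blocks_through t k X' hX' ∅ (by simp)
  simp only [card_empty, empty_subset, filter_true_of_mem, implies_true, Nat.sub_zero] at h1 h2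
  rw [hc] at h1
  have hpos : 0 < k.choose t := Nat.choose_pos htk
  exact Nat.eq_of_mul_eq_mul_right hpos (h1.trans h2.symm)

/-- the designs under study. -/
structure IsD (n : ℕ) (X : Finset (Finset (δ ⊕ Fin n))) : Prop where
  card : Fintype.card δ = 21
  st : Cfsg.IsSteinerSystem (n + 2) (n + 5) (X : Set (Finset (δ ⊕ Fin n)))
  par : ∀ b ∈ X, ∀ c ∈ X, b ≠ c → (b ∩ c).card % 2 = (n + 1) % 2

theorem card_erase_univ (i : Fin n) : (univ.erase i : Finset (Fin n)).card = n - 1 := by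
  rw [card_erase_of_mem (mem_univ _), card_univ, Fintype.card_fin]

namespace IsD

variable {X : Finset (Finset (δ ⊕ Fin n))} (hD : IsD n X)
include hD

theorem inter_le {b c : Finset (δ ⊕ Fin n)} (hb : b ∈ X) (hc : c ∈ X) (hne : b ≠ c) :
    (b ∩ c).card ≤ n + 1 := by
  by_contra h
  exact hne (Cfsg.Agent.Lib.Helper9.Steiner6.block_eq_of_ge (n + 2) (n + 5) X hD.st b c hb hc
    (by omega))

theorem lines_steiner :
    Cfsg.IsSteinerSystem 2 5 ((fam X univ : Finset (Finset δ)) : Set (Finset δ)) := by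
  obtain ⟨hk, hu⟩ := hD.st
  constructor
  · intro x hx
    obtain ⟨b, hb, hJ, rfl⟩ := mem_fam.mp (mem_coe.mp hx)
    have h1 := card_toLeft_add_card_toRight (u := b)
    rw [hJ, card_univ, Fintype.card_fin, hk b (mem_coe.mpr hb)] at h1
    omega
  · intro s hs
    have hZ : (s.disjSum (univ : Finset (Fin n))).card = n + 2 := by
      rw [card_disjSum, hs, card_univ, Fintype.card_fin]
      omega
    obtain ⟨b, ⟨hbX, hZb⟩, hbu⟩ := hu _ hZ
    rw [disjSum_subset] at hZb
    have hbJ : b.toRight = univ := univ_subset_iff.mp hZb.2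
    refine ⟨b.toLeft, ⟨mem_coe.mpr (mem_fam.mpr ⟨b, mem_coe.mp hbX, hbJ, rfl⟩), hZb.1⟩, ?_⟩
    rintro x ⟨hx, hsx⟩
    obtain ⟨c, hc, hcJ, rfl⟩ := mem_fam.mp (mem_coe.mp hx)
    have : c = b :=
      hbu c ⟨mem_coe.mpr hc, disjSum_subset.mpr ⟨hsx, univ_subset_iff.mpr hcJ⟩⟩
    rw [this]

theorem plane : IsPlane4 (fam X univ) := IsPlane4.of_steiner hD.card _ hD.lines_steiner

theorem hyp_arcs {i : Fin n} {x : Finset δ} (hx : x ∈ fam X (univ.erase i)) :
    x ∈ arcs (fam X univ) 6 := by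
  obtain ⟨b, hb, hJ, rfl⟩ := mem_fam.mp hx
  have hn := i.2
  rw [mem_arcs]
  constructor
  · have h1 := card_toLeft_add_card_toRight (u := b)
    rw [hJ, card_erase_univ, hD.st.1 b (mem_coe.mpr hb)] at h1
    omega
  · intro l hl
    obtain ⟨c, hc, hcJ, rfl⟩ := mem_fam.mp hl
    have hne : c ≠ b := by
      intro h
      rw [h, hJ] at hcJ
      have := mem_univ i
      rw [← hcJ] at this
      exact notMem_erase i univ this
    have h1 := card_inter_split c b
    rw [hcJ, hJ, univ_inter, card_erase_univ] at h1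
    have h2 := hD.inter_le hc hb hne
    omega

theorem hyp_even {i : Fin n} {x y : Finset δ} (hx : x ∈ fam X (univ.erase i))
    (hy : y ∈ fam X (univ.erase i)) : Even (x ∩ y).card := by
  have hy6 := (mem_arcs.mp (hD.hyp_arcs hy)).1
  obtain ⟨b, hb, hJ, rfl⟩ := mem_fam.mp hx
  obtain ⟨c, hc, hcJ, rfl⟩ := mem_fam.mp hy
  have hn := i.2
  by_cases hbc : b = c
  · rw [hbc, inter_self, hy6]
    decide
  · have h1 := card_inter_split b c
    rw [hJ, hcJ, inter_self, card_erase_univ] at h1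
    have h2 := hD.par b hb c hc hbc
    rw [Nat.even_iff]
    omega

theorem hyp_odd {i j : Fin n} (hij : i ≠ j) {x y : Finset δ}
    (hx : x ∈ fam X (univ.erase i)) (hy : y ∈ fam X (univ.erase j)) :
    ¬ Even (x ∩ y).card := by
  obtain ⟨b, hb, hJ, rfl⟩ := mem_fam.mp hx
  obtain ⟨c, hc, hcJ, rfl⟩ := mem_fam.mp hy
  have hne : b ≠ c := by
    intro h
    rw [h, hcJ] at hJ
    have : i ∈ (univ.erase j : Finset (Fin n)) := mem_erase.mpr ⟨hij, mem_univ _⟩
    rw [hJ] at this
    exact notMem_erase i univ this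
  have hcard : ((univ.erase i : Finset (Fin n)) ∩ univ.erase j).card = n - 2 := by
    have : (univ.erase i : Finset (Fin n)) ∩ univ.erase j = (univ.erase i).erase j := by
      ext k
      simp only [mem_inter, mem_erase, mem_univ, and_true]
      tauto
    rw [this, card_erase_of_mem (mem_erase.mpr ⟨hij.symm, mem_univ _⟩), card_erase_univ]
    omega
  have h1 := card_inter_split b c
  rw [hJ, hcJ, hcard] at h1
  have h2 := hD.par b hb c hc hne
  have hi := i.2
  have hj := j.2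
  have hij' : (i : ℕ) ≠ j := fun h => hij (Fin.ext h)
  rw [Nat.even_iff]
  omega

omit hD in
theorem fam_card (X : Finset (Finset (δ ⊕ Fin n))) (J : Finset (Fin n)) :
    (fam X J).card = (X.filter (fun b => b.toRight = J)).card := by
  unfold fam
  apply card_image_of_injOn
  intro b hb c hc h
  rw [mem_coe, mem_filter] at hb hc
  exact eq_of_parts h (hb.2.trans hc.2.symm)

theorem hyp_card (i : Fin n) : (fam X (univ.erase i)).card = 56 := by
  have hn := i.2
  have hδ := hD.card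
  rw [fam_card]
  have hZ1c : ((∅ : Finset δ).disjSum (univ.erase i : Finset (Fin n))).card = n - 1 := by
    rw [card_disjSum, card_empty, zero_add, card_erase_univ]
  have hZ2c : ((∅ : Finset δ).disjSum (univ : Finset (Fin n))).card = n := by
    rw [card_disjSum, card_empty, zero_add, card_univ, Fintype.card_fin]
  have c1 := Cfsg.Agent.Lib.Helper9.Steiner1.card_blocks_through (n + 2) (n + 5) X hD.st
    ((∅ : Finset δ).disjSum (univ.erase i : Finset (Fin n))) (by rw [hZ1c]; omega)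
  have c2 := Cfsg.Agent.Lib.Helper9.Steiner1.card_blocks_through (n + 2) (n + 5) X hD.st
    ((∅ : Finset δ).disjSum (univ : Finset (Fin n))) (by rw [hZ2c]; omega)
  rw [hZ1c, Fintype.card_sum, hδ, Fintype.card_fin] at c1
  rw [hZ2c, Fintype.card_sum, hδ, Fintype.card_fin] at c2
  have a1 : n + 5 - (n - 1) = 6 := by omega
  have a2 : n + 2 - (n - 1) = 3 := by omega
  have a3 : 21 + n - (n - 1) = 22 := by omega
  have a4 : n + 5 - n = 5 := by omega
  have a5 : n + 2 - n = 2 := by omega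
  have a6 : 21 + n - n = 21 := by omega
  have k1 : Nat.choose 6 3 = 20 := by decide
  have k2 : Nat.choose 22 3 = 1540 := by decide
  have k3 : Nat.choose 5 2 = 10 := by decide
  have k4 : Nat.choose 21 2 = 210 := by decide
  rw [a1, a2, a3, k1, k2] at c1
  rw [a4, a5, a6, k3, k4] at c2
  have hsplit : X.filter (fun b => b.toRight = univ.erase i)
      = (X.filter (fun b => (∅ : Finset δ).disjSum (univ.erase i : Finset (Fin n)) ⊆ b))
        \ (X.filter (fun b => (∅ : Finset δ).disjSum (univ : Finset (Fin n)) ⊆ b)) := by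
    ext b
    simp only [mem_filter, mem_sdiff, disjSum_subset, empty_subset, true_and, not_and]
    constructor
    · rintro ⟨hb, hJ⟩
      refine ⟨⟨hb, hJ.symm.subset⟩, fun _ h => ?_⟩
      have := h (mem_univ i)
      rw [hJ] at this
      exact notMem_erase i univ this
    · rintro ⟨⟨hb, hsub⟩, hnot⟩
      refine ⟨hb, ?_⟩
      have hi : i ∉ b.toRight := by
        intro hi
        apply hnot hb
        intro k _
        by_cases hk : k = i
        · rw [hk]
          exact hi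
        · exact hsub (mem_erase.mpr ⟨hk, mem_univ _⟩)
      apply Subset.antisymm
      · intro k hk
        exact mem_erase.mpr ⟨fun h => hi (h ▸ hk), mem_univ _⟩
      · exact hsub
  have hsub : X.filter (fun b => (∅ : Finset δ).disjSum (univ : Finset (Fin n)) ⊆ b)
      ⊆ X.filter (fun b => (∅ : Finset δ).disjSum (univ.erase i : Finset (Fin n)) ⊆ b) := by
    intro b hb
    rw [mem_filter] at hb ⊢
    exact ⟨hb.1, (disjSum_mono (Subset.refl _) (erase_subset _ _)).trans hb.2⟩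
  rw [hsplit, card_sdiff_of_subset hsub]
  omega

theorem hyp_nonempty (i : Fin n) : ∃ H, H ∈ fam X (univ.erase i) := by
  have h := hD.hyp_card i
  have : (fam X (univ.erase i)).Nonempty := card_pos.mp (by omega)
  exact this

theorem hyp_eq {i : Fin n} {H₀ : Finset δ} (h₀ : H₀ ∈ fam X (univ.erase i)) :
    fam X (univ.erase i) = (arcs (fam X univ) 6).filter (fun H => Even (H ∩ H₀).card) :=
  class_eq hD.plane (fun H hH => hD.hyp_arcs hH) (hD.hyp_card i)
    (fun H hH K hK => hD.hyp_even hH hK) h₀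

end IsD

/-- members of a hyperoval class go to members of the matching class. -/
theorem hyp_image {X : Finset (Finset (δ ⊕ Fin n))} {X' : Finset (Finset (δ' ⊕ Fin n))}
    (hD : IsD n X) (hD' : IsD n X') {e : δ ≃ δ'} (hcol : IsCol (fam X univ) (fam X' univ) e)
    {i : Fin n} {Hi : Finset δ} (hHi : Hi ∈ fam X (univ.erase i)) {Hi' : Finset δ'}
    (hHi' : Hi' ∈ fam X' (univ.erase i))
    (hiff : ∀ H ∈ arcs (fam X univ) 6, Even (H ∩ Hi).card → Even (H.image e ∩ Hi').card)
    {x : Finset δ} (hx : x ∈ fam X (univ.erase i)) : x.image e ∈ fam X' (univ.erase i) := by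
  have hc : (fam X' univ).card ≤ (fam X univ).card := by rw [hD.plane.lines, hD'.plane.lines]
  rw [hD'.hyp_eq hHi', mem_filter]
  exact ⟨hcol.arcs hc (hD.hyp_arcs hx), hiff x (hD.hyp_arcs hx) (hD.hyp_even hx hHi)⟩

theorem hyp_reflect {X : Finset (Finset (δ ⊕ Fin n))} {X' : Finset (Finset (δ' ⊕ Fin n))}
    (hD : IsD n X) (hD' : IsD n X') {e : δ ≃ δ'} {i : Fin n} {Hi : Finset δ}
    (hHi : Hi ∈ fam X (univ.erase i)) {Hi' : Finset δ'} (hHi' : Hi' ∈ fam X' (univ.erase i))
    (hiff : ∀ H ∈ arcs (fam X univ) 6, Even (H.image e ∩ Hi').card → Even (H ∩ Hi).card)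
    {H : Finset δ} (hH : H ∈ arcs (fam X univ) 6) (hx : H.image e ∈ fam X' (univ.erase i)) :
    H ∈ fam X (univ.erase i) := by
  rw [hD.hyp_eq hHi, mem_filter]
  exact ⟨hH, hiff H hH (hD'.hyp_even hx hHi')⟩

/-! ### S(4,7,23) -/

section two

variable {X : Finset (Finset (δ ⊕ Fin 2))} {X' : Finset (Finset (δ' ⊕ Fin 2))}

theorem baer_props (hD : IsD 2 X) {x : Finset δ} (hx : x ∈ fam X ∅) :
    x.card = 7 ∧ ∀ l ∈ fam X univ, (l ∩ x).card = 1 ∨ (l ∩ x).card = 3 := by
  obtain ⟨b, hb, hJ, rfl⟩ := mem_fam.mp hx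
  constructor
  · have h1 := card_toLeft_add_card_toRight (u := b)
    rw [hJ, card_empty, hD.st.1 b (mem_coe.mpr hb)] at h1
    omega
  · intro l hl
    obtain ⟨c, hc, hcJ, rfl⟩ := mem_fam.mp hl
    have hne : c ≠ b := by
      intro h
      rw [h, hJ] at hcJ
      have := mem_univ (0 : Fin 2)
      rw [← hcJ] at this
      exact absurd this (notMem_empty _)
    have h1 := card_inter_split c b
    rw [hcJ, hJ, inter_empty, card_empty] at h1
    have h2 := hD.inter_le hc hb hne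
    have h3 := hD.par c hc b hb hne
    omega

theorem no_hyp_through (hD : IsD 2 X) {b : Finset (δ ⊕ Fin 2)} (hb : b ∈ X)
    (hJ : b.toRight = ∅) {Q : Finset δ} (hQ : Q ⊆ b.toLeft) (hQ4 : Q.card = 4) {i : Fin 2}
    {H : Finset δ} (hH : H ∈ fam X (univ.erase i)) (hQH : Q ⊆ H) : False := by
  obtain ⟨c, hc, hcJ, rfl⟩ := mem_fam.mp hH
  have hne : b ≠ c := by
    intro h
    rw [h, hcJ] at hJ
    have h1 := card_erase_univ i
    rw [hJ, card_empty] at h1
    omega
  have h1 := card_inter_split b c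
  have h2 := hD.inter_le hb hc hne
  have h3 := card_le_card (subset_inter hQ hQH)
  omega

theorem baer_image (hD : IsD 2 X) (hD' : IsD 2 X') {e : δ ≃ δ'}
    (hcol : IsCol (fam X univ) (fam X' univ) e)
    (hcls : ∀ i : Fin 2, ∀ H, H ∈ arcs (fam X univ) 6 → H.image e ∈ fam X' (univ.erase i) →
      H ∈ fam X (univ.erase i))
    {x : Finset δ} (hx : x ∈ fam X ∅) : x.image e ∈ fam X' ∅ := by
  have hP := hD.plane
  have hP' := hD'.plane
  have hc : (fam X' univ).card ≤ (fam X univ).card := by rw [hP.lines, hP'.lines]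
  obtain ⟨h7, h13⟩ := baer_props hD hx
  obtain ⟨Q, hQx, hQ4, hQarc⟩ := exists_four_arc_in hP h7
    (fun l hl => by rcases h13 l hl with h | h <;> omega)
  have h7' : (x.image e).card = 7 := by rw [card_image_of_injective _ e.injective, h7]
  have h13' : ∀ l' ∈ fam X' univ, (l' ∩ x.image e).card = 1 ∨ (l' ∩ x.image e).card = 3 := by
    intro l' hl'
    obtain ⟨l, hl, rfl⟩ := hcol.exists_preimage hc hl'
    rw [card_inter_image]
    exact h13 l hl
  have hQ'4 : (Q.image e).card = 4 := by rw [card_image_of_injective _ e.injective, hQ4]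
  have hQ'arc : IsArc (fam X' univ) (Q.image e) :=
    (mem_arcs.mp (hcol.arcs hc (mem_arcs.mpr ⟨hQ4, hQarc⟩))).2
  have hQ'x : Q.image e ⊆ x.image e := image_subset_image hQx
  have hZ : ((Q.image e).disjSum (∅ : Finset (Fin 2))).card = 2 + 2 := by
    rw [card_disjSum, hQ'4, card_empty]
  obtain ⟨b', ⟨hb'X, hZb'⟩, -⟩ := hD'.st.2 _ hZ
  rw [mem_coe] at hb'X
  rw [disjSum_subset] at hZb'
  have hQb' := hZb'.1
  obtain ⟨b, hb, hJ, hbx⟩ := mem_fam.mp hx
  have hcases : ∀ J : Finset (Fin 2),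
      J = univ ∨ J = univ.erase 0 ∨ J = univ.erase 1 ∨ J = ∅ := by decide
  have hyp_case : ∀ i : Fin 2, b'.toRight = univ.erase i → False := by
    intro i hJ'
    have hK' : b'.toLeft ∈ fam X' (univ.erase i) := mem_fam.mpr ⟨b', hb'X, hJ', rfl⟩
    obtain ⟨HQ, ⟨hHQ, hQHQ⟩, -⟩ := unique_hyperoval hP Q hQ4 hQarc
    obtain ⟨H0', -, huniq'⟩ := unique_hyperoval hP' (Q.image e) hQ'4 hQ'arc
    have e1 : b'.toLeft = H0' := huniq' _ ⟨mem_arcs.mp (hD'.hyp_arcs hK'), hQb'⟩
    have e2 : HQ.image e = H0' :=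
      huniq' _ ⟨mem_arcs.mp (hcol.arcs hc (mem_arcs.mpr hHQ)), image_subset_image hQHQ⟩
    have hHQmem : HQ ∈ fam X (univ.erase i) := by
      apply hcls i HQ (mem_arcs.mpr hHQ)
      rw [e2, ← e1]
      exact hK'
    exact no_hyp_through hD hb hJ (by rw [hbx]; exact hQx) hQ4 hHQmem hQHQ
  rcases hcases b'.toRight with hJ' | hJ' | hJ' | hJ'
  · exfalso
    have hl' : b'.toLeft ∈ fam X' univ := mem_fam.mpr ⟨b', hb'X, hJ', rfl⟩
    have h1 := hQ'arc _ hl'
    rw [inter_eq_right.mpr hQb', hQ'4] at h1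
    omega
  · exact absurd (hyp_case 0 hJ') id
  · exact absurd (hyp_case 1 hJ') id
  · have hy' : b'.toLeft ∈ fam X' ∅ := mem_fam.mpr ⟨b', hb'X, hJ', rfl⟩
    obtain ⟨k7, k13⟩ := baer_props hD' hy'
    have := baer_unique hP' h7' k7 h13' k13 hQ'4 hQ'arc hQ'x hQb'
    rw [this]
    exact hy'

theorem unique2 (hD : IsD 2 X) (hD' : IsD 2 X') :
    ∃ e : δ ≃ δ', ∀ b ∈ X, b.image (lift 2 e) ∈ X' := by
  have hP := hD.plane
  have hP' := hD'.plane
  obtain ⟨H₁, hH₁⟩ := hD.hyp_nonempty 0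
  obtain ⟨H₂, hH₂⟩ := hD.hyp_nonempty 1
  obtain ⟨H₁', hH₁'⟩ := hD'.hyp_nonempty 0
  obtain ⟨H₂', hH₂'⟩ := hD'.hyp_nonempty 1
  have h01 : (0 : Fin 2) ≠ 1 := by decide
  obtain ⟨e, hcol, iff1, iff2⟩ := core_lemma hP hP' (hD.hyp_arcs hH₁) (hD.hyp_arcs hH₂)
    (hD.hyp_odd h01 hH₁ hH₂) (hD'.hyp_arcs hH₁') (hD'.hyp_arcs hH₂') (hD'.hyp_odd h01 hH₁' hH₂')
  refine ⟨e, ?_⟩
  intro b hb
  apply image_mem_of_fam e
  have hx : b.toLeft ∈ fam X b.toRight := mem_fam.mpr ⟨b, hb, rfl, rfl⟩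
  have hcases : ∀ J : Finset (Fin 2),
      J = univ ∨ J = univ.erase 0 ∨ J = univ.erase 1 ∨ J = ∅ := by decide
  rcases hcases b.toRight with hJ | hJ | hJ | hJ
  · rw [hJ] at hx ⊢
    exact hcol _ hx
  · rw [hJ] at hx ⊢
    exact hyp_image hD hD' hcol hH₁ hH₁' (fun H hH => (iff1 H hH).mp) hx
  · rw [hJ] at hx ⊢
    exact hyp_image hD hD' hcol hH₂ hH₂' (fun H hH => (iff2 H hH).mp) hx
  · rw [hJ] at hx ⊢
    apply baer_image hD hD' hcol ?_ hx
    intro i H hH hHe
    have hi : ∀ j : Fin 2, j = 0 ∨ j = 1 := by decide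
    rcases hi i with rfl | rfl
    · exact hyp_reflect hD hD' hH₁ hH₁' (fun H hH => (iff1 H hH).mpr) hH hHe
    · exact hyp_reflect hD hD' hH₂ hH₂' (fun H hH => (iff2 H hH).mpr) hH hHe

end two

/-- uniqueness of S(4,7,23). -/
theorem unique_4_7_23 {α β : Type*} [Fintype α] [DecidableEq α] [Fintype β] [DecidableEq β]
    (hα : Fintype.card α = 23) (hβ : Fintype.card β = 23) {B : Set (Finset α)}
    {B' : Set (Finset β)} (hB : Cfsg.IsSteinerSystem 4 7 B) (hB' : Cfsg.IsSteinerSystem 4 7 B') :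
    Cfsg.SetSystemIso B B' := by
  obtain ⟨Bf, rfl⟩ := Cfsg.Agent.Lib.Helper9.Steiner5.exists_finset B
  obtain ⟨Bf', rfl⟩ := Cfsg.Agent.Lib.Helper9.Steiner5.exists_finset B'
  have hc23 : Fintype.card (Fin 21 ⊕ Fin 2) = 23 := by simp
  have e0 : α ≃ Fin 21 ⊕ Fin 2 := Fintype.equivOfCardEq (by rw [hα, hc23])
  have e0' : β ≃ Fin 21 ⊕ Fin 2 := Fintype.equivOfCardEq (by rw [hβ, hc23])
  have hS := S22.steiner_image e0 4 7 Bf hB
  have hS' := S22.steiner_image e0' 4 7 Bf' hB'
  have hD : IsD 2 (Bf.image (fun b => b.image e0)) :=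
    ⟨by simp, hS, fun b hb c hc hne => by
      rcases Cfsg.Agent.Lib.Helper9.Steiner6.block_inter_4_7_23 hc23 hS (mem_coe.mpr hb)
        (mem_coe.mpr hc) hne with h | h <;> rw [h]⟩
  have hD' : IsD 2 (Bf'.image (fun b => b.image e0')) :=
    ⟨by simp, hS', fun b hb c hc hne => by
      rcases Cfsg.Agent.Lib.Helper9.Steiner6.block_inter_4_7_23 hc23 hS' (mem_coe.mpr hb)
        (mem_coe.mpr hc) hne with h | h <;> rw [h]⟩
  obtain ⟨e, he⟩ := unique2 hD hD'
  have hcard := card_blocks_eq rfl 4 7 (by omega) _ _ hS hS'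
  have h3 := iso_of_forall (lift 2 e) he hcard.symm.le
  exact S22.iso_trans (S22.iso_of_equiv e0 Bf)
    (S22.iso_trans h3 (S22.iso_symm (S22.iso_of_equiv e0' Bf')))

end Cfsg.Agent.Lib.Helper2.SteinerSum
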