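import Cfsg.Agent.Lib.Helper2.SteinerSum
import Cfsg.Agent.Lib.Helper9.Steiner5

set_option autoImplicit false
set_option linter.unusedSectionVars false
set_option linter.unusedVariables false

/-! Uniqueness of S(5,8,24): lines and hyperoval classes of the derived plane are matched by a
collineation; all other octads are symmetric differences of octads already matched. -/

namespace Cfsg.Agent.Lib.Helper2.SteinerSum

open Finset Cfsg.Agent.Lib.Helper2.Plane4

variable {δ : Type*} [Fintype δ] [DecidableEq δ] {δ' : Type*} [Fintype δ'] [DecidableEq δ']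

section three

variable {X : Finset (Finset (δ ⊕ Fin 3))} {X' : Finset (Finset (δ' ⊕ Fin 3))}

theorem card_sum3 (hD : IsD 3 X) : Fintype.card (δ ⊕ Fin 3) = 24 := by
  rw [Fintype.card_sum, hD.card, Fintype.card_fin]

theorem inter_eq_four (hD : IsD 3 X) {b c : Finset (δ ⊕ Fin 3)} (hb : b ∈ X) (hc : c ∈ X)
    (hne : b ≠ c) (h3 : 3 ≤ (b ∩ c).card) : (b ∩ c).card = 4 := by
  have h1 := hD.inter_le hb hc hne
  have h2 := hD.par b hb c hc hne
  omega

theorem symm_mem (hD : IsD 3 X) {b c : Finset (δ ⊕ Fin 3)} (hb : b ∈ X) (hc : c ∈ X)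
    (h4 : (b ∩ c).card = 4) : symmDiff b c ∈ X := by
  have := Cfsg.Agent.Lib.Helper9.Steiner9.symm_block (card_sum3 hD) hD.st (mem_coe.mpr hb)
    (mem_coe.mpr hc) h4
  exact mem_coe.mp this

theorem inter_symmDiff (b c : Finset (δ ⊕ Fin 3)) : c ∩ symmDiff b c = c \ b := by
  ext z
  simp only [mem_inter, mem_symmDiff, mem_sdiff]
  tauto

theorem card_inter_symmDiff (hD : IsD 3 X) {b c : Finset (δ ⊕ Fin 3)} (hb : b ∈ X)
    (hc : c ∈ X) (h4 : (b ∩ c).card = 4) : (c ∩ symmDiff b c).card = 4 := by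
  rw [inter_symmDiff]
  have h1 := card_sdiff_add_card_inter c b
  rw [inter_comm c b, h4, hD.st.1 c (mem_coe.mpr hc)] at h1
  omega

theorem unique3 (hD : IsD 3 X) (hD' : IsD 3 X') :
    ∃ e : δ ≃ δ', ∀ b ∈ X, b.image (lift 3 e) ∈ X' := by
  have hP := hD.plane
  have hP' := hD'.plane
  have hc : (fam X' univ).card ≤ (fam X univ).card := by rw [hP.lines, hP'.lines]
  obtain ⟨H₁, hH₁⟩ := hD.hyp_nonempty 0
  obtain ⟨H₂, hH₂⟩ := hD.hyp_nonempty 1
  obtain ⟨H₃, hH₃⟩ := hD.hyp_nonempty 2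
  obtain ⟨H₁', hH₁'⟩ := hD'.hyp_nonempty 0
  obtain ⟨H₂', hH₂'⟩ := hD'.hyp_nonempty 1
  obtain ⟨H₃', hH₃'⟩ := hD'.hyp_nonempty 2
  have h01 : (0 : Fin 3) ≠ 1 := by decide
  have h02 : (0 : Fin 3) ≠ 2 := by decide
  have h12 : (1 : Fin 3) ≠ 2 := by decide
  obtain ⟨e, hcol, iff1, iff2⟩ := core_lemma hP hP' (hD.hyp_arcs hH₁) (hD.hyp_arcs hH₂)
    (hD.hyp_odd h01 hH₁ hH₂) (hD'.hyp_arcs hH₁') (hD'.hyp_arcs hH₂') (hD'.hyp_odd h01 hH₁' hH₂')
  refine ⟨e, ?_⟩
  -- blocks with at least two extra points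
  have good2 : ∀ b ∈ X, 2 ≤ b.toRight.card → b.image (lift 3 e) ∈ X' := by
    intro b hb h2
    apply image_mem_of_fam e
    have hx : b.toLeft ∈ fam X b.toRight := mem_fam.mpr ⟨b, hb, rfl, rfl⟩
    have hcases : ∀ J : Finset (Fin 3), 2 ≤ J.card →
        J = univ ∨ J = univ.erase 0 ∨ J = univ.erase 1 ∨ J = univ.erase 2 := by decide
    rcases hcases b.toRight h2 with hJ | hJ | hJ | hJ
    · rw [hJ] at hx ⊢
      exact hcol _ hx
    · rw [hJ] at hx ⊢
      exact hyp_image hD hD' hcol hH₁ hH₁' (fun H hH => (iff1 H hH).mp) hx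
    · rw [hJ] at hx ⊢
      exact hyp_image hD hD' hcol hH₂ hH₂' (fun H hH => (iff2 H hH).mp) hx
    · rw [hJ] at hx ⊢
      have hxa := hD.hyp_arcs hx
      have hNa := hcol.arcs hc hxa
      rw [hD'.hyp_eq hH₃', mem_filter]
      refine ⟨hNa, ?_⟩
      rcases three_classes hP' (hD'.hyp_arcs hH₁') (hD'.hyp_arcs hH₂') (hD'.hyp_arcs hH₃') hNa
        (hD'.hyp_odd h01 hH₁' hH₂') (hD'.hyp_odd h02 hH₁' hH₃') (hD'.hyp_odd h12 hH₂' hH₃')
        with h | h | h
      · exact absurd ((iff1 _ hxa).mpr h) (hD.hyp_odd h02.symm hx hH₁)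
      · exact absurd ((iff2 _ hxa).mpr h) (hD.hyp_odd h12.symm hx hH₂)
      · exact h
  -- closure under symmetric differences
  have hsymm : ∀ c₁ ∈ X, ∀ c₂ ∈ X, c₁.image (lift 3 e) ∈ X' → c₂.image (lift 3 e) ∈ X' →
      (c₁ ∩ c₂).card = 4 → (symmDiff c₁ c₂).image (lift 3 e) ∈ X' := by
    intro c₁ hc₁ c₂ hc₂ g₁ g₂ h4
    rw [image_symmDiff _ _ (lift 3 e).injective]
    apply symm_mem hD' g₁ g₂
    rw [card_inter_image]
    exact h4
  have hgen : ∀ b ∈ X, ∀ c₁ ∈ X, c₁ ≠ b → 3 ≤ (b ∩ c₁).card → c₁.image (lift 3 e) ∈ X' →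
      (symmDiff b c₁).image (lift 3 e) ∈ X' → b.image (lift 3 e) ∈ X' := by
    intro b hb c₁ hc₁ hne h3 g₁ g₂
    have h4 := inter_eq_four hD hb hc₁ hne.symm h3
    have hc₂ := symm_mem hD hb hc₁ h4
    have hb_eq : symmDiff c₁ (symmDiff b c₁) = b := by
      rw [symmDiff_comm b c₁, symmDiff_symmDiff_cancel_left]
    have := hsymm c₁ hc₁ _ hc₂ g₁ g₂ (card_inter_symmDiff hD hb hc₁ h4)
    rw [hb_eq] at this
    exact this
  -- one extra point
  have good1 : ∀ b ∈ X, b.toRight.card = 1 → b.image (lift 3 e) ∈ X' := by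
    intro b hb h1
    obtain ⟨k, hk⟩ := card_eq_one.mp h1
    have hx7 : b.toLeft.card = 7 := by
      have := card_toLeft_add_card_toRight (u := b)
      rw [h1, hD.st.1 b (mem_coe.mpr hb)] at this
      omega
    obtain ⟨x₁, hx₁, x₂, hx₂, h12'⟩ := one_lt_card.mp (by omega : 1 < b.toLeft.card)
    have hl := ln_mem hP h12'
    obtain ⟨c₁, hc₁, hc₁J, hc₁L⟩ := mem_fam.mp hl
    have hne : c₁ ≠ b := by
      intro h
      rw [h, hk] at hc₁J
      have := congrArg card hc₁J
      rw [card_singleton, card_univ, Fintype.card_fin] at this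
      omega
    have h3 : 3 ≤ (b ∩ c₁).card := by
      have hs := card_inter_split b c₁
      rw [hk, hc₁J, inter_univ, card_singleton, hc₁L] at hs
      have : 2 ≤ (b.toLeft ∩ ln (fam X univ) x₁ x₂).card := by
        have hsub : ({x₁, x₂} : Finset δ) ⊆ b.toLeft ∩ ln (fam X univ) x₁ x₂ := by
          intro z hz
          simp only [mem_insert, mem_singleton] at hz
          rcases hz with h | h <;> rw [h]
          · exact mem_inter.mpr ⟨hx₁, left_mem_ln hP h12'⟩
          · exact mem_inter.mpr ⟨hx₂, right_mem_ln hP h12'⟩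
        have := card_le_card hsub
        rwa [card_pair h12'] at this
      omega
    have h4 := inter_eq_four hD hb hc₁ hne.symm h3
    have hc₂ := symm_mem hD hb hc₁ h4
    have hc₂J : (symmDiff b c₁).toRight = univ.erase k := by
      ext j
      have hb_j : Sum.inr j ∈ b ↔ j = k := by rw [← mem_toRight, hk, mem_singleton]
      have hc_j : Sum.inr j ∈ c₁ := by rw [← mem_toRight, hc₁J]; exact mem_univ j
      rw [mem_toRight, mem_symmDiff, hb_j, mem_erase]
      simp [hc_j]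
    apply hgen b hb c₁ hc₁ hne h3
    · apply good2 c₁ hc₁
      rw [hc₁J, card_univ, Fintype.card_fin]
      omega
    · apply good2 _ hc₂
      rw [hc₂J, card_erase_univ]
  have good_pos : ∀ b ∈ X, 1 ≤ b.toRight.card → b.image (lift 3 e) ∈ X' := by
    intro b hb h
    rcases Nat.lt_or_ge b.toRight.card 2 with h' | h'
    · exact good1 b hb (by omega)
    · exact good2 b hb h'
  -- no extra point
  intro b hb
  rcases Nat.eq_zero_or_pos b.toRight.card with h0 | hpos
  · have hJ : b.toRight = ∅ := card_eq_zero.mp h0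
    have hx8 : b.toLeft.card = 8 := by
      have := card_toLeft_add_card_toRight (u := b)
      rw [h0, hD.st.1 b (mem_coe.mpr hb)] at this
      omega
    obtain ⟨Q, hQx, hQ4⟩ := exists_subset_card_eq (by omega : 4 ≤ b.toLeft.card)
    have hZ : (Q.disjSum ({0} : Finset (Fin 3))).card = 3 + 2 := by
      rw [card_disjSum, hQ4, card_singleton]
    obtain ⟨c₁, ⟨hc₁X, hZc₁⟩, -⟩ := hD.st.2 _ hZ
    rw [mem_coe] at hc₁X
    rw [disjSum_subset] at hZc₁
    have h0c : (0 : Fin 3) ∈ c₁.toRight := hZc₁.2 (mem_singleton_self _)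
    have hne : c₁ ≠ b := by
      intro h
      rw [h, hJ] at h0c
      exact absurd h0c (notMem_empty _)
    have h3 : 3 ≤ (b ∩ c₁).card := by
      have hs := card_inter_split b c₁
      have := card_le_card (subset_inter hQx hZc₁.1)
      omega
    have h4 := inter_eq_four hD hb hc₁X hne.symm h3
    have hc₂ := symm_mem hD hb hc₁X h4
    have hc₂J : (symmDiff b c₁).toRight = c₁.toRight := by
      ext j
      have hb_j : ¬ Sum.inr j ∈ b := by
        rw [← mem_toRight, hJ]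
        exact notMem_empty _
      rw [mem_toRight, mem_symmDiff, mem_toRight]
      simp [hb_j]
    have hpos1 : 1 ≤ c₁.toRight.card := card_pos.mpr ⟨0, h0c⟩
    apply hgen b hb c₁ hc₁X hne h3
    · exact good_pos c₁ hc₁X hpos1
    · apply good_pos _ hc₂
      rw [hc₂J]
      exact hpos1
  · exact good_pos b hb hpos

end three

/-- uniqueness of S(5,8,24). -/
theorem unique_5_8_24 {α β : Type*} [Fintype α] [DecidableEq α] [Fintype β] [DecidableEq β]
    (hα : Fintype.card α = 24) (hβ : Fintype.card β = 24) {B : Set (Finset α)}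
    {B' : Set (Finset β)} (hB : Cfsg.IsSteinerSystem 5 8 B) (hB' : Cfsg.IsSteinerSystem 5 8 B') :
    Cfsg.SetSystemIso B B' := by
  obtain ⟨Bf, rfl⟩ := Cfsg.Agent.Lib.Helper9.Steiner5.exists_finset B
  obtain ⟨Bf', rfl⟩ := Cfsg.Agent.Lib.Helper9.Steiner5.exists_finset B'
  have hc24 : Fintype.card (Fin 21 ⊕ Fin 3) = 24 := by simp
  have e0 : α ≃ Fin 21 ⊕ Fin 3 := Fintype.equivOfCardEq (by rw [hα, hc24])
  have e0' : β ≃ Fin 21 ⊕ Fin 3 := Fintype.equivOfCardEq (by rw [hβ, hc24])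
  have hS := S22.steiner_image e0 5 8 Bf hB
  have hS' := S22.steiner_image e0' 5 8 Bf' hB'
  have hD : IsD 3 (Bf.image (fun b => b.image e0)) :=
    ⟨by simp, hS, fun b hb c hc hne => by
      rcases Cfsg.Agent.Lib.Helper9.Steiner5.block_inter hc24 hS (mem_coe.mpr hb)
        (mem_coe.mpr hc) hne with h | h | h <;> rw [h]⟩
  have hD' : IsD 3 (Bf'.image (fun b => b.image e0')) :=
    ⟨by simp, hS', fun b hb c hc hne => by
      rcases Cfsg.Agent.Lib.Helper9.Steiner5.block_inter hc24 hS' (mem_coe.mpr hb)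
        (mem_coe.mpr hc) hne with h | h | h <;> rw [h]⟩
  obtain ⟨e, he⟩ := unique3 hD hD'
  have hcard := card_blocks_eq rfl 5 8 (by omega) _ _ hS hS'
  have h3 := iso_of_forall (lift 3 e) he hcard.symm.le
  exact S22.iso_trans (S22.iso_of_equiv e0 Bf)
    (S22.iso_trans h3 (S22.iso_symm (S22.iso_of_equiv e0' Bf')))

end Cfsg.Agent.Lib.Helper2.SteinerSum
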