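import Mathlib

set_option autoImplicit false

namespace Cfsg.Agent.Lib.Helper2.Stt

/-- two subgroups of index two, one inside the other, are equal -/
theorem eq_of_le_of_index_two {X : Type*} [Group X] {M M' : Subgroup X}
    (hM : M.index = 2) (hM' : M'.index = 2) (hle : M ≤ M') : M = M' := by
  have h1 : M.relIndex M' * M'.index = M.index := Subgroup.relIndex_mul_index hle
  rw [hM, hM'] at h1
  have h2 : M.relIndex M' = 1 := by omega
  exact le_antisymm hle (Subgroup.relIndex_eq_one.mp h2)

/-- the "xor" subgroup of two index-two subgroups -/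
def xorSub {X : Type*} [Group X] (M M' : Subgroup X) (hM : M.index = 2) (hM' : M'.index = 2) :
    Subgroup X where
  carrier := {x | x ∈ M ↔ x ∈ M'}
  one_mem' := by simp [one_mem]
  mul_mem' := by
    intro x y hx hy
    simp only [Set.mem_setOf_eq] at *
    rw [Subgroup.mul_mem_iff_of_index_two hM, Subgroup.mul_mem_iff_of_index_two hM', hx, hy]
  inv_mem' := by
    intro x hx
    simp only [Set.mem_setOf_eq] at *
    rw [inv_mem_iff, inv_mem_iff]; exact hx

theorem mem_xorSub {X : Type*} [Group X] (M M' : Subgroup X) (hM : M.index = 2)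
    (hM' : M'.index = 2) (x : X) : x ∈ xorSub M M' hM hM' ↔ (x ∈ M ↔ x ∈ M') := Iff.rfl

theorem xorSub_index {X : Type*} [Group X] (M M' : Subgroup X) (hM : M.index = 2)
    (hM' : M'.index = 2) (hne : M ≠ M') : (xorSub M M' hM hM').index = 2 := by
  classical
  -- pick a ∈ M \ M'
  have hnle : ¬ M ≤ M' := fun h => hne (eq_of_le_of_index_two hM hM' h)
  obtain ⟨a, haM, haM'⟩ := SetLike.not_le_iff_exists.mp hnle
  rw [Subgroup.index_eq_two_iff]
  refine ⟨a, fun b => ?_⟩
  rw [mem_xorSub, mem_xorSub, Subgroup.mul_mem_iff_of_index_two hM,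
    Subgroup.mul_mem_iff_of_index_two hM']
  by_cases h1 : b ∈ M <;> by_cases h2 : b ∈ M' <;> simp [h1, h2, haM, haM', Xor']

/-- An index-two subgroup gives an index-two subgroup invariant under an involutive
automorphism. -/
theorem exists_invariant_index_two {X : Type*} [Group X] (σ : X ≃* X)
    (hσ : ∀ x, σ (σ x) = x) (M : Subgroup X) (hM : M.index = 2) :
    ∃ N : Subgroup X, N.index = 2 ∧ ∀ n ∈ N, σ n ∈ N := by
  classical
  -- M' = σ(M) = preimage of M under σ (σ is an involution)
  set M' : Subgroup X := M.comap σ.toMonoidHom with hM'def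
  have hM' : M'.index = 2 := by
    rw [hM'def, Subgroup.index_comap_of_surjective _ σ.surjective]; exact hM
  have hmem : ∀ x, x ∈ M' ↔ σ x ∈ M := fun x => Iff.rfl
  by_cases hEq : M = M'
  · refine ⟨M, hM, fun n hn => ?_⟩
    have : n ∈ M' := hEq ▸ hn
    exact (hmem n).mp this
  · refine ⟨xorSub M M' hM hM', xorSub_index M M' hM hM' hEq, fun n hn => ?_⟩
    rw [mem_xorSub] at hn ⊢
    rw [hmem] at hn
    rw [hmem, hσ]
    exact hn.symm

end Cfsg.Agent.Lib.Helper2.Stt
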