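import Mathlib
import Cfsg.Agent.Lib.Helper2.SsfH
import Cfsg.Agent.Lib.Helper5.SUCentres
import Cfsg.Agent.Lib.Helper5.HermBasis
set_option autoImplicit false
set_option maxHeartbeats 1000000
set_option linter.unusedVariables false
set_option linter.unusedSectionVars false
set_option linter.style.longLine false
set_option linter.unusedSimpArgs false
set_option linter.deprecated false
set_option linter.style.haveILetI false

/-! Unitary subfield subgroups `SU_n(q₀) < SU_n(q)`, `q = q₀ ^ r`, `r` an odd prime (part A):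
facts on the subfield `F₀` of `F` (`|F| = q²`) with `|F| = |F₀| ^ r`: it is not fixed by the
involution `x ↦ x ^ q`, norms and traces inside `F₀`, square roots. -/

namespace Cfsg.Agent.Lib.Helper2.Suf

open Matrix Cfsg Cfsg.Agent.Lib.Helper5.Herm Cfsg.Agent.Lib.Helper5.HermBridge
  Cfsg.Agent.Lib.Helper2.Sfm

universe u

section Fld

variable {F : Type u} [Field F] [Fintype F] {q : ℕ} (hF : Fintype.card F = q ^ 2)
  (F₀ : Subfield F) {r : ℕ} (hr : r.Prime) (hro : Odd r)
  (hcard : Fintype.card F = Nat.card F₀ ^ r)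

omit [Fintype F] in
theorem pow_q_mem {x : F} (hx : x ∈ F₀) : x ^ q ∈ F₀ := F₀.pow_mem hx q

include hcard in
theorem two_le_card : 2 ≤ Nat.card F₀ := by
  have : 1 < Nat.card F₀ := Finite.one_lt_card
  omega

include hr hcard in
theorem finrank_eq : Module.finrank F₀ F = r := by
  have h1 : Nat.card F = Nat.card F₀ ^ Module.finrank F₀ F := Module.natCard_eq_pow_finrank
  rw [Nat.card_eq_fintype_card, hcard] at h1
  exact (Nat.pow_right_injective (two_le_card F₀ hcard) h1).symm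

include hF hr hro hcard in
/-- the involution is not trivial on the subfield -/
theorem exists_not_fixed : ∃ θ ∈ F₀, θ ^ q ≠ θ := by
  classical
  by_contra hcon
  push Not at hcon
  let s : F ≃ₐ[F₀] F :=
    { toFun := fun x => x ^ q
      invFun := fun x => x ^ q
      left_inv := fun x => pow_q_pow_q hF x
      right_inv := fun x => pow_q_pow_q hF x
      map_mul' := fun a b => mul_pow a b q
      map_add' := fun a b => pow_q_add hF a b
      commutes' := fun x => hcon x.1 x.2 }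
  have hs2 : s ^ 2 = 1 := by
    apply AlgEquiv.ext
    intro x
    rw [pow_two]
    exact pow_q_pow_q hF x
  have h1 : orderOf s ∣ 2 := orderOf_dvd_of_pow_eq_one hs2
  have h2 : orderOf s ∣ r := by
    have := orderOf_dvd_natCard s
    rwa [IsGalois.card_aut_eq_finrank, finrank_eq F₀ hr hcard] at this
  have h3 : orderOf s ∣ Nat.gcd 2 r := Nat.dvd_gcd h1 h2
  have h4 : Nat.gcd 2 r = 1 := Nat.coprime_two_left.2 hro
  rw [h4, Nat.dvd_one, orderOf_eq_one_iff] at h3
  apply sigma_ne_id hF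
  apply RingHom.ext
  intro x
  have := congrArg (fun f : F ≃ₐ[F₀] F => f x) h3
  exact this

/-- the involution restricted to the subfield -/
def sig0 : F₀ →+* F₀ where
  toFun x := ⟨(x : F) ^ q, F₀.pow_mem x.2 q⟩
  map_one' := Subtype.ext (one_pow _)
  map_mul' := fun a b => Subtype.ext (mul_pow (a : F) b q)
  map_zero' := Subtype.ext (zero_pow (q_ne_zero hF))
  map_add' := fun a b => Subtype.ext (pow_q_add hF (a : F) b)

theorem sig0_coe (x : F₀) : ((sig0 hF F₀ x : F₀) : F) = (x : F) ^ q := rfl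

theorem sig0_sig0 (x : F₀) : sig0 hF F₀ (sig0 hF F₀ x) = x :=
  Subtype.ext (pow_q_pow_q hF (x : F))

include hF hr hro hcard in
theorem sig0_ne_id : sig0 hF F₀ ≠ RingHom.id F₀ := by
  obtain ⟨θ, hθ, hne⟩ := exists_not_fixed hF F₀ hr hro hcard
  intro h
  apply hne
  have := congrArg (fun f : F₀ →+* F₀ => ((f ⟨θ, hθ⟩ : F₀) : F)) h
  exact this

include hF hr hro hcard in
/-- norms inside the subfield -/
theorem exists_norm0 {d : F} (hd : d ∈ F₀) (hd0 : d ≠ 0) (hdq : d ^ q = d) :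
    ∃ t ∈ F₀, t * t ^ q = d := by
  obtain ⟨t, ht⟩ := Cfsg.Agent.Lib.Helper5.HermBasis.exists_norm (sig0_ne_id hF F₀ hr hro hcard)
    (sig0_sig0 hF F₀) ⟨d, hd⟩ (fun h => hd0 (congrArg Subtype.val h)) (Subtype.ext hdq)
  refine ⟨t.1, t.2, ?_⟩
  have := congrArg Subtype.val ht
  exact this

include hF hr hro hcard in
/-- traces inside the subfield -/
theorem exists_trace0 {d : F} (hd : d ∈ F₀) (hdq : d ^ q = d) :
    ∃ t ∈ F₀, t + t ^ q = d := by
  obtain ⟨t, -, ht⟩ := Cfsg.Agent.Lib.Helper5.HermWitt.exists_trace (sig0_ne_id hF F₀ hr hro hcard)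
    (sig0_sig0 hF F₀) ⟨d, hd⟩ (Subtype.ext hdq)
  refine ⟨t.1, t.2, ?_⟩
  have := congrArg Subtype.val ht
  exact this

include hF hr hro hcard in
/-- a non-zero rational element of trace zero -/
theorem exists_s0 : ∃ s ∈ F₀, s ≠ 0 ∧ s ^ q = -s := by
  obtain ⟨θ, hθ, hne⟩ := exists_not_fixed hF F₀ hr hro hcard
  refine ⟨θ - θ ^ q, F₀.sub_mem hθ (F₀.pow_mem hθ q), sub_ne_zero.2 (Ne.symm hne), ?_⟩
  rw [pow_q_sub hF, pow_q_pow_q hF]
  ring

include hF hr hro hcard in
/-- two distinct rational elements of norm `-1` -/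
theorem exists_lam : ∃ l₁ ∈ F₀, ∃ l₂ ∈ F₀, l₁ * l₁ ^ q = -1 ∧ l₂ * l₂ ^ q = -1 ∧ l₁ ≠ l₂ := by
  obtain ⟨θ, hθ, hne⟩ := exists_not_fixed hF F₀ hr hro hcard
  have hθ0 : θ ≠ 0 := by
    rintro rfl
    exact hne (zero_pow (q_ne_zero hF))
  have hθq0 : θ ^ q ≠ 0 := pow_ne_zero q hθ0
  obtain ⟨l, hl, hln⟩ := exists_norm0 hF F₀ hr hro hcard (F₀.neg_mem F₀.one_mem)
    (neg_ne_zero.2 one_ne_zero) (pow_q_neg_one hF)
  have hl0 : l ≠ 0 := by
    rintro rfl
    rw [zero_mul] at hln
    exact (neg_ne_zero.2 one_ne_zero) hln.symm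
  refine ⟨l, hl, l * (θ / θ ^ q), F₀.mul_mem hl (F₀.div_mem hθ (F₀.pow_mem hθ q)), hln, ?_, ?_⟩
  · rw [mul_pow, div_pow, pow_q_pow_q hF]
    have : l * (θ / θ ^ q) * (l ^ q * (θ ^ q / θ)) = l * l ^ q := by
      field_simp
    rw [this, hln]
  · intro h
    have h1 : θ / θ ^ q = 1 := by
      have := mul_left_cancel₀ hl0 (show l * 1 = l * (θ / θ ^ q) by rw [mul_one]; exact h)
      exact this.symm
    rw [div_eq_one_iff_eq hθq0] at h1
    exact hne h1.symm

end Fld

section Quad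

variable {F : Type u} [Field F] [Fintype F] (F₀ : Subfield F) {r : ℕ} (hr : r.Prime)
  (hro : Odd r) (hcard : Fintype.card F = Nat.card F₀ ^ r)

include hr hcard in
/-- a square root of a rational element outside the subfield generates the field, as a vector
space -/
theorem exists_decomp' {x₀ d : F} (hd : d ∈ F₀) (hx : x₀ * x₀ = d) (hx₀ : x₀ ∉ F₀) (c : F) :
    ∃ a ∈ F₀, ∃ b ∈ F₀, c = a + b * x₀ := by
  classical
  have hmul : ∀ c d' : F, (∃ a ∈ F₀, ∃ b ∈ F₀, c = a + b * x₀) →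
      (∃ a ∈ F₀, ∃ b ∈ F₀, d' = a + b * x₀) → ∃ a ∈ F₀, ∃ b ∈ F₀, c * d' = a + b * x₀ := by
    rintro c d' ⟨a, ha, b, hb, rfl⟩ ⟨a', ha', b', hb', rfl⟩
    refine ⟨a * a' + b * b' * d, F₀.add_mem (F₀.mul_mem ha ha') (F₀.mul_mem (F₀.mul_mem hb hb') hd),
      a * b' + b * a', F₀.add_mem (F₀.mul_mem ha hb') (F₀.mul_mem hb ha'), ?_⟩
    have : (a + b * x₀) * (a' + b' * x₀) = a * a' + (a * b' + b * a') * x₀ + b * b' * (x₀ * x₀) := by
      ring
    rw [this, hx]; ring
  have hone : ∃ a ∈ F₀, ∃ b ∈ F₀, (1 : F) = a + b * x₀ :=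
    ⟨1, F₀.one_mem, 0, F₀.zero_mem, by ring⟩
  have hzero : ∃ a ∈ F₀, ∃ b ∈ F₀, (0 : F) = a + b * x₀ :=
    ⟨0, F₀.zero_mem, 0, F₀.zero_mem, by ring⟩
  let A : Subfield F :=
    { carrier := {c | ∃ a ∈ F₀, ∃ b ∈ F₀, c = a + b * x₀}
      mul_mem' := fun h1 h2 => hmul _ _ h1 h2
      one_mem' := hone
      add_mem' := by
        rintro c d' ⟨a, ha, b, hb, rfl⟩ ⟨a', ha', b', hb', rfl⟩
        exact ⟨a + a', F₀.add_mem ha ha', b + b', F₀.add_mem hb hb', by ring⟩
      zero_mem' := hzero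
      neg_mem' := by
        rintro c ⟨a, ha, b, hb, rfl⟩
        exact ⟨-a, F₀.neg_mem ha, -b, F₀.neg_mem hb, by ring⟩
      inv_mem' := by
        intro x hx'
        by_cases hx0 : x = 0
        · rw [hx0, _root_.inv_zero]; exact hzero
        · have h1 : ∀ k : ℕ, ∃ a ∈ F₀, ∃ b ∈ F₀, x ^ k = a + b * x₀ := by
            intro k
            induction k with
            | zero => rw [pow_zero]; exact hone
            | succ k ih => rw [pow_succ]; exact hmul _ _ ih hx'
          have h2 : x * x ^ (Fintype.card F - 2) = 1 := by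
            rw [← pow_succ']
            have : Fintype.card F - 2 + 1 = Fintype.card F - 1 := by
              have : 1 < Fintype.card F := Fintype.one_lt_card
              omega
            rw [this]
            exact FiniteField.pow_card_sub_one_eq_one x hx0
          have h3 : x ^ (Fintype.card F - 2) = x⁻¹ := eq_inv_of_mul_eq_one_right h2
          show ∃ a ∈ F₀, ∃ b ∈ F₀, x⁻¹ = a + b * x₀
          rw [← h3]
          exact h1 _ }
  have hle : F₀ ≤ A := fun a ha => ⟨a, ha, 0, F₀.zero_mem, by ring⟩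
  have hxA : x₀ ∈ A := ⟨0, F₀.zero_mem, 1, F₀.one_mem, by ring⟩
  rcases subfield_eq_or_eq_top F₀ A hle r hr hcard with h | h
  · exact absurd (h ▸ hxA) hx₀
  · have : c ∈ A := by rw [h]; exact Subfield.mem_top c
    exact this

include hr hro hcard in
/-- square roots of rational elements are rational -/
theorem mem_of_mul_self_mem {x : F} (hx : x * x ∈ F₀) : x ∈ F₀ := by
  classical
  by_contra hx₀
  have hdec := exists_decomp' F₀ hr hcard hx rfl hx₀
  have hsurj : Function.Surjective (fun p : F₀ × F₀ => (p.1 : F) + (p.2 : F) * x) := by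
    intro c
    obtain ⟨a, ha, b, hb, hc⟩ := hdec c
    exact ⟨(⟨a, ha⟩, ⟨b, hb⟩), hc.symm⟩
  have h1 : Nat.card F ≤ Nat.card (F₀ × F₀) := Nat.card_le_card_of_surjective _ hsurj
  rw [Nat.card_prod, Nat.card_eq_fintype_card, hcard] at h1
  have h2 := two_le_card F₀ hcard
  have h3 : 3 ≤ r := by
    have := hr.two_le
    rcases hro with ⟨k, hk⟩
    omega
  have h4 : Nat.card F₀ ^ 3 ≤ Nat.card F₀ ^ r := Nat.pow_le_pow_right (by omega) h3
  have h5 : Nat.card F₀ * Nat.card F₀ < Nat.card F₀ ^ 3 := by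
    have : Nat.card F₀ ^ 3 = Nat.card F₀ * Nat.card F₀ * Nat.card F₀ := by ring
    rw [this]
    have h6 : 0 < Nat.card F₀ * Nat.card F₀ := by positivity
    nlinarith
  omega

end Quad

end Cfsg.Agent.Lib.Helper2.Suf
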