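import Mathlib
import Cfsg.Agent.Lib.Helper2.SufA
set_option autoImplicit false
set_option maxHeartbeats 1000000
set_option linter.unusedVariables false
set_option linter.unusedSectionVars false
set_option linter.style.longLine false
set_option linter.unusedSimpArgs false
set_option linter.deprecated false
set_option linter.style.haveILetI false

/-! Unitary subfield subgroups (part B): membership of matrices in a subgroup, and the calculus of
the unipotent matrices `eichMat x w b` (`v ↦ v + h(v,x) w + (b h(v,x) - h(v,w)) x`). -/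

namespace Cfsg.Agent.Lib.Helper2.Suf

open Matrix Cfsg Cfsg.Agent.Lib.Helper5.Herm Cfsg.Agent.Lib.Helper5.HermBridge
  Cfsg.Agent.Lib.Helper5.HermTv Cfsg.Agent.Lib.Helper5.HermEich
  Cfsg.Agent.Lib.Helper5.SUCentres Cfsg.Agent.Lib.Helper2.Sfm Cfsg.Agent.Lib.Helper2.Ssf

universe u

section MIn

variable {F : Type u} [Field F] {n : ℕ}

/-- the matrix `M` is the matrix of an element of `H` -/
def MIn (H : Subgroup (GL (Fin n) F)) (M : Matrix (Fin n) (Fin n) F) : Prop :=
  ∃ g ∈ H, g.1 = M

variable {H H' : Subgroup (GL (Fin n) F)} {M M' : Matrix (Fin n) (Fin n) F}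

theorem mIn_of_mem {g : GL (Fin n) F} (hg : g ∈ H) : MIn H g.1 := ⟨g, hg, rfl⟩

theorem MIn.mem {g : GL (Fin n) F} (h : MIn H g.1) : g ∈ H := by
  obtain ⟨g', hg', h'⟩ := h
  have : g' = g := Units.ext h'
  rwa [← this]

theorem MIn.mul (h1 : MIn H M) (h2 : MIn H M') : MIn H (M * M') := by
  obtain ⟨g, hg, rfl⟩ := h1
  obtain ⟨g', hg', rfl⟩ := h2
  exact ⟨g * g', H.mul_mem hg hg', rfl⟩

theorem mIn_one : MIn H (1 : Matrix (Fin n) (Fin n) F) := ⟨1, H.one_mem, rfl⟩

theorem MIn.of_mul_eq_one (h1 : MIn H M) (h : M * M' = 1) : MIn H M' := by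
  obtain ⟨g, hg, rfl⟩ := h1
  refine ⟨g⁻¹, H.inv_mem hg, ?_⟩
  have h2 : g.1 * (g⁻¹).1 = 1 := by rw [← Units.val_mul, mul_inv_cancel, Units.val_one]
  have h3 : (g⁻¹).1 * g.1 = 1 := by rw [← Units.val_mul, inv_mul_cancel, Units.val_one]
  calc (g⁻¹).1 = (g⁻¹).1 * (g.1 * M') := by rw [h, mul_one]
    _ = M' := by rw [← mul_assoc, h3, one_mul]

theorem MIn.conj {g : GL (Fin n) F} (hg : g ∈ H) (h1 : MIn H M) : MIn H (g.1 * M * (g⁻¹).1) := by
  obtain ⟨g', hg', rfl⟩ := h1
  exact ⟨g * g' * g⁻¹, H.mul_mem (H.mul_mem hg hg') (H.inv_mem hg), rfl⟩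

theorem MIn.mono (hle : H ≤ H') (h1 : MIn H M) : MIn H' M := by
  obtain ⟨g, hg, rfl⟩ := h1
  exact ⟨g, hle hg, rfl⟩

theorem MIn.congr (h1 : MIn H M) (h : M = M') : MIn H M' := h ▸ h1

theorem mat_ext {A B : Matrix (Fin n) (Fin n) F} (h : ∀ v, A *ᵥ v = B *ᵥ v) : A = B := by
  classical
  ext i j
  have := congrFun (h (Pi.single j 1)) i
  rwa [Matrix.mulVec_single_one, Matrix.mulVec_single_one] at this

end MIn

section Mat

variable {F : Type u} [Field F] [Fintype F] {q : ℕ} (hF : Fintype.card F = q ^ 2) {n : ℕ}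

include hF in
theorem herm_sub_l (u v w : Fin n → F) :
    hermForm n F q (u - v) w = hermForm n F q u w - hermForm n F q v w := by
  rw [sub_eq_add_neg, hermForm_add_left, hermForm_neg_left, sub_eq_add_neg]

include hF in
theorem herm_sub_r (u v w : Fin n → F) :
    hermForm n F q u (v - w) = hermForm n F q u v - hermForm n F q u w := by
  rw [sub_eq_add_neg, hermForm_add_right hF, hermForm_neg_right hF, sub_eq_add_neg]

include hF in
/-- the product formula in the group of the matrices `eichMat x · ·` -/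
theorem EM_mul {x w w' : Fin n → F} (b b' : F) (hx : hermForm n F q x x = 0)
    (hwx : hermForm n F q w x = 0) (hw'x : hermForm n F q w' x = 0) :
    eichMat n q x w b * eichMat n q x w' b' =
      eichMat n q x (w + w') (b + b' - hermForm n F q w' w) := by
  apply mat_ext
  intro v
  have hxw := herm_symm_zero hF n hwx
  rw [← mulVec_mulVec, eichMat_mulVec n _ _ _ hx, eichMat_mulVec n _ _ _ hx,
    eichMat_mulVec n _ _ _ hx]
  simp only [hermForm_add_left, hermForm_add_right hF, hermForm_smul_left, hx, hw'x, hxw,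
    mul_zero, add_zero]
  module

include hF in
theorem EM_zero {x : Fin n → F} (hx : hermForm n F q x x = 0) :
    eichMat n q x 0 0 = 1 := by
  apply mat_ext
  intro v
  rw [eichMat_mulVec n _ _ _ hx, one_mulVec, hermForm_zero_right hF]
  simp

include hF in
theorem EM_tv {x : Fin n → F} (c : F) (hx : hermForm n F q x x = 0) :
    eichMat n q x 0 c = unitaryTransvection n q x c := by
  apply mat_ext
  intro v
  rw [eichMat_mulVec n _ _ _ hx, unitaryTransvection_mulVec, hermForm_zero_right hF]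
  simp

include hF in
/-- conjugation by a unitary matrix -/
theorem EM_conj {g : GL (Fin n) F} (hg : g ∈ Cfsg.GU n F q) {x : Fin n → F} (w : Fin n → F)
    (b : F) (hx : hermForm n F q x x = 0) :
    g.1 * eichMat n q x w b * (g⁻¹).1 = eichMat n q (g.1 *ᵥ x) (g.1 *ᵥ w) b := by
  have hgh : ∀ u v, hermForm n F q (g.1 *ᵥ u) (g.1 *ᵥ v) = hermForm n F q u v := hg
  apply mat_ext
  intro v
  have hx' : hermForm n F q (g.1 *ᵥ x) (g.1 *ᵥ x) = 0 := by rw [hgh]; exact hx
  rw [← mulVec_mulVec, ← mulVec_mulVec, eichMat_mulVec n _ _ _ hx, eichMat_mulVec n _ _ _ hx']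
  have e1 : ∀ y, hermForm n F q ((g⁻¹).1 *ᵥ v) y = hermForm n F q v (g.1 *ᵥ y) := by
    intro y
    rw [← hgh, gl_mulVec_inv_cancel]
  rw [e1, e1, mulVec_add, mulVec_add, mulVec_smul, mulVec_smul, gl_mulVec_inv_cancel]

include hF in
/-- conjugation of a unitary transvection -/
theorem TM_conj {g : GL (Fin n) F} (hg : g ∈ Cfsg.GU n F q) (x : Fin n → F) (c : F) :
    g.1 * unitaryTransvection n q x c * (g⁻¹).1 = unitaryTransvection n q (g.1 *ᵥ x) c := by
  have hgh : ∀ u v, hermForm n F q (g.1 *ᵥ u) (g.1 *ᵥ v) = hermForm n F q u v := hg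
  apply mat_ext
  intro v
  rw [← mulVec_mulVec, ← mulVec_mulVec, unitaryTransvection_mulVec, unitaryTransvection_mulVec]
  have e1 : ∀ y, hermForm n F q ((g⁻¹).1 *ᵥ v) y = hermForm n F q v (g.1 *ᵥ y) := by
    intro y
    rw [← hgh, gl_mulVec_inv_cancel]
  rw [e1, mulVec_add, mulVec_smul, gl_mulVec_inv_cancel]

include hF in
/-- rescaling the isotropic vector -/
theorem EM_smul (l : F) {x : Fin n → F} (w : Fin n → F) (b : F)
    (hx : hermForm n F q x x = 0) :
    eichMat n q (l • x) w b = eichMat n q x (l ^ q • w) (l * l ^ q * b) := by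
  apply mat_ext
  intro v
  have hx' : hermForm n F q (l • x) (l • x) = 0 := by
    rw [hermForm_smul_left, hermForm_smul_right, hx, mul_zero, mul_zero]
  rw [eichMat_mulVec n _ _ _ hx', eichMat_mulVec n _ _ _ hx, hermForm_smul_right,
    hermForm_smul_right, pow_q_pow_q hF]
  module

omit [Fintype F] in
theorem TM_smul (l : F) (x : Fin n → F) (c : F) :
    unitaryTransvection n q (l • x) c = unitaryTransvection n q x (l * l ^ q * c) := by
  apply mat_ext
  intro v
  rw [unitaryTransvection_mulVec, unitaryTransvection_mulVec, hermForm_smul_right]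
  module

omit [Fintype F] in
theorem TM_mul {x : Fin n → F} (c d : F) (hx : hermForm n F q x x = 0) :
    unitaryTransvection n q x c * unitaryTransvection n q x d =
      unitaryTransvection n q x (c + d) := by
  apply mat_ext
  intro v
  rw [← mulVec_mulVec, unitaryTransvection_mulVec, unitaryTransvection_mulVec,
    unitaryTransvection_mulVec]
  simp only [hermForm_add_left, hermForm_smul_left, hx, mul_zero, add_zero]
  module

omit [Fintype F] in
theorem TM_zero (x : Fin n → F) : unitaryTransvection n q x 0 = 1 := by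
  apply mat_ext
  intro v
  rw [unitaryTransvection_mulVec, one_mulVec]
  simp

end Mat

section Rat

variable {F : Type u} [Field F] [Fintype F] {q : ℕ} (hF : Fintype.card F = q ^ 2) {n : ℕ}
  (F₀ : Subfield F)

/-- the subfield subgroup of `SU_n` for the standard rational structure -/
abbrev MS (n : ℕ) (q : ℕ) (F₀ : Subfield F) : Subgroup (GL (Fin n) F) :=
  Cfsg.Geo.subfieldSubgroup F₀ 1 ⊓ (Cfsg.GU n F q ⊓ Cfsg.Geo.specialLinear (Fin n) F)

omit [Fintype F] in
theorem isRatM_rk1 {a b : Fin n → F} (ha : IsRatV F₀ a) (hb : IsRatV F₀ b) :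
    IsRatM F₀ (rk1 n q a b) := by
  unfold rk1
  exact isRatM_one.add (isRatM_vecMulVec hb (fun j => F₀.pow_mem (ha j) q))

omit [Fintype F] in
theorem isRatM_eichMat {x w : Fin n → F} {b : F} (hx : IsRatV F₀ x) (hw : IsRatV F₀ w)
    (hb : b ∈ F₀) : IsRatM F₀ (eichMat n q x w b) := by
  unfold eichMat
  exact (isRatM_rk1 F₀ hx (hw.add (hx.smul hb))).mul (isRatM_rk1 F₀ hw hx.neg)

include hF in
/-- rational unipotent elements lie in the subfield subgroup -/
theorem EM_mIn {x w : Fin n → F} {b : F} (hx : IsRatV F₀ x) (hw : IsRatV F₀ w) (hb : b ∈ F₀)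
    (H : EHyp n q x w b) : MIn (MS n q F₀) (eichMat n q x w b) := by
  refine ⟨((eich hF n x w b H : ↥(Cfsg.GU n F q)) : GL (Fin n) F), ?_, rfl⟩
  rw [Subgroup.mem_inf, mem_SU_iff]
  refine ⟨?_, (eich hF n x w b H).2, det_eich hF n x w b H⟩
  rw [mem_subfield_iff']
  refine ⟨1, one_ne_zero, fun i j => ?_⟩
  rw [one_mul]
  exact isRatM_eichMat F₀ hx hw hb i j

end Rat

end Cfsg.Agent.Lib.Helper2.Suf
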