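import Mathlib
import Cfsg.Agent.Lib.Helper2.SufB
set_option autoImplicit false
set_option maxHeartbeats 1000000
set_option linter.unusedVariables false
set_option linter.unusedSectionVars false
set_option linter.style.longLine false
set_option linter.unusedSimpArgs false
set_option linter.deprecated false
set_option linter.style.haveILetI false

/-! Unitary subfield subgroups (part C): rational hyperbolic frames `(e_i, f_i)` and the Levi
embedding `GL_m → GU_n` attached to a frame. -/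

namespace Cfsg.Agent.Lib.Helper2.Suf

open Matrix Cfsg Cfsg.Agent.Lib.Helper5.Herm Cfsg.Agent.Lib.Helper5.HermBridge
  Cfsg.Agent.Lib.Helper5.HermTv Cfsg.Agent.Lib.Helper5.HermEich
  Cfsg.Agent.Lib.Helper5.SUCentres Cfsg.Agent.Lib.Helper2.Sfm Cfsg.Agent.Lib.Helper2.Ssf

universe u

/-- a hyperbolic frame of rational vectors -/
structure Frame {F : Type u} [Field F] (q : ℕ) (F₀ : Subfield F) (m n : ℕ) where
  e : Fin m → Fin n → F
  f : Fin m → Fin n → F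
  rat_e : ∀ i, IsRatV F₀ (e i)
  rat_f : ∀ i, IsRatV F₀ (f i)
  ee : ∀ i j, hermForm n F q (e i) (e j) = 0
  ff : ∀ i j, hermForm n F q (f i) (f j) = 0
  ef : ∀ i j, hermForm n F q (e i) (f j) = if i = j then 1 else 0

section Frm

variable {F : Type u} [Field F] [Fintype F] {q : ℕ} (hF : Fintype.card F = q ^ 2) {n m : ℕ}
  {F₀ : Subfield F} (𝔣 : Frame q F₀ m n)

/-- entrywise conjugate -/
def cj (q : ℕ) {k : ℕ} (x : Fin k → F) : Fin k → F := fun i => x i ^ q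

include hF in
theorem cj_cj {k : ℕ} (x : Fin k → F) : cj q (cj q x) = x := by
  funext i
  exact pow_q_pow_q hF (x i)

omit [Fintype F] in
theorem herm_eq_dot (u v : Fin n → F) : hermForm n F q u v = u ⬝ᵥ cj q v := rfl

include hF in
theorem Frame.fe (i j : Fin m) : hermForm n F q (𝔣.f i) (𝔣.e j) = if i = j then 1 else 0 := by
  rw [← hermForm_conj hF, 𝔣.ef]
  by_cases h : i = j
  · rw [if_pos h, if_pos h.symm, one_pow]
  · rw [if_neg h, if_neg (Ne.symm h), zero_pow (q_ne_zero hF)]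

/-- the frame with the two halves exchanged -/
def Frame.swap : Frame q F₀ m n where
  e := 𝔣.f
  f := 𝔣.e
  rat_e := 𝔣.rat_f
  rat_f := 𝔣.rat_e
  ee := 𝔣.ff
  ff := 𝔣.ee
  ef := 𝔣.fe hF

/-- vectors of the first totally isotropic subspace -/
def Frame.eV (x : Fin m → F) : Fin n → F := ∑ i, x i • 𝔣.e i

/-- vectors of the second totally isotropic subspace -/
def Frame.fV (y : Fin m → F) : Fin n → F := ∑ i, y i • 𝔣.f i

/-- coordinates along the `e_i` -/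
def Frame.cE (v : Fin n → F) : Fin m → F := fun i => hermForm n F q v (𝔣.f i)

/-- coordinates along the `f_i` -/
def Frame.cF (v : Fin n → F) : Fin m → F := fun i => hermForm n F q v (𝔣.e i)

omit [Fintype F] in
theorem Frame.eV_add (x x' : Fin m → F) : 𝔣.eV (x + x') = 𝔣.eV x + 𝔣.eV x' := by
  unfold Frame.eV
  rw [← Finset.sum_add_distrib]
  exact Finset.sum_congr rfl fun i _ => by rw [Pi.add_apply, add_smul]

omit [Fintype F] in
theorem Frame.eV_smul (c : F) (x : Fin m → F) : 𝔣.eV (c • x) = c • 𝔣.eV x := by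
  unfold Frame.eV
  rw [Finset.smul_sum]
  exact Finset.sum_congr rfl fun i _ => by rw [Pi.smul_apply, smul_eq_mul, mul_smul]

omit [Fintype F] in
theorem Frame.eV_single (i : Fin m) : 𝔣.eV (Pi.single i 1) = 𝔣.e i := by
  classical
  unfold Frame.eV
  rw [Finset.sum_eq_single i]
  · rw [Pi.single_eq_same, one_smul]
  · intro j _ hj
    rw [Pi.single_eq_of_ne hj, zero_smul]
  · intro h; exact absurd (Finset.mem_univ _) h

omit [Fintype F] in
theorem Frame.eV_zero : 𝔣.eV 0 = 0 := by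
  unfold Frame.eV
  simp

theorem Frame.fV_eq : 𝔣.fV = (𝔣.swap hF).eV := rfl

theorem Frame.cE_swap (v : Fin n → F) : (𝔣.swap hF).cE v = 𝔣.cF v := rfl

theorem Frame.cF_swap (v : Fin n → F) : (𝔣.swap hF).cF v = 𝔣.cE v := rfl

include hF in
theorem herm_sum_l {κ : Type*} (s : Finset κ) (f : κ → (Fin n → F)) (v : Fin n → F) :
    hermForm n F q (∑ i ∈ s, f i) v = ∑ i ∈ s, hermForm n F q (f i) v :=
  map_sum (hermSesq hF n v) f s

include hF in
theorem herm_sum_r {κ : Type*} (s : Finset κ) (f : κ → (Fin n → F)) (u : Fin n → F) :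
    hermForm n F q u (∑ i ∈ s, f i) = ∑ i ∈ s, hermForm n F q u (f i) := by
  have h1 := map_sum (hermSesq hF n) f s
  have h2 := congrArg (fun g : (Fin n → F) →ₗ[F] F => g u) h1
  simp only [LinearMap.sum_apply] at h2
  exact h2

include hF in
theorem Frame.herm_eV_left (x : Fin m → F) (v : Fin n → F) :
    hermForm n F q (𝔣.eV x) v = ∑ i, x i * hermForm n F q (𝔣.e i) v := by
  unfold Frame.eV
  rw [herm_sum_l hF]
  exact Finset.sum_congr rfl fun i _ => hermForm_smul_left n q _ _ _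

include hF in
theorem Frame.herm_eV_right (v : Fin n → F) (x : Fin m → F) :
    hermForm n F q v (𝔣.eV x) = cj q x ⬝ᵥ 𝔣.cF v := by
  unfold Frame.eV
  rw [herm_sum_r hF]
  exact Finset.sum_congr rfl fun i _ => hermForm_smul_right n q _ _ _

include hF in
theorem Frame.herm_fV_right (v : Fin n → F) (y : Fin m → F) :
    hermForm n F q v (𝔣.fV y) = cj q y ⬝ᵥ 𝔣.cE v :=
  (𝔣.swap hF).herm_eV_right hF v y

include hF in
theorem Frame.cF_eV (x : Fin m → F) : 𝔣.cF (𝔣.eV x) = 0 := by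
  funext i
  show hermForm n F q (𝔣.eV x) (𝔣.e i) = 0
  rw [𝔣.herm_eV_left hF]
  exact Finset.sum_eq_zero fun j _ => by rw [𝔣.ee, mul_zero]

include hF in
theorem Frame.cE_eV (x : Fin m → F) : 𝔣.cE (𝔣.eV x) = x := by
  classical
  funext i
  show hermForm n F q (𝔣.eV x) (𝔣.f i) = x i
  rw [𝔣.herm_eV_left hF, Finset.sum_eq_single i]
  · rw [𝔣.ef, if_pos rfl, mul_one]
  · intro j _ hj
    rw [𝔣.ef, if_neg hj, mul_zero]
  · intro h; exact absurd (Finset.mem_univ _) h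

include hF in
theorem Frame.cE_fV (y : Fin m → F) : 𝔣.cE (𝔣.fV y) = 0 := (𝔣.swap hF).cF_eV hF y

include hF in
theorem Frame.cF_fV (y : Fin m → F) : 𝔣.cF (𝔣.fV y) = y := (𝔣.swap hF).cE_eV hF y

include hF in
theorem Frame.herm_eV_eV (x x' : Fin m → F) : hermForm n F q (𝔣.eV x) (𝔣.eV x') = 0 := by
  rw [𝔣.herm_eV_right hF, 𝔣.cF_eV hF, dotProduct_zero]

include hF in
theorem Frame.herm_eV_fV (x y : Fin m → F) :
    hermForm n F q (𝔣.eV x) (𝔣.fV y) = cj q y ⬝ᵥ x := by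
  rw [𝔣.herm_fV_right hF, 𝔣.cE_eV hF]

include hF in
theorem Frame.herm_fV_fV (y y' : Fin m → F) : hermForm n F q (𝔣.fV y) (𝔣.fV y') = 0 :=
  (𝔣.swap hF).herm_eV_eV hF y y'

include hF in
theorem Frame.herm_fV_eV (y x : Fin m → F) :
    hermForm n F q (𝔣.fV y) (𝔣.eV x) = cj q x ⬝ᵥ y :=
  (𝔣.swap hF).herm_eV_fV hF y x

omit [Fintype F] in
theorem Frame.cE_add (v w : Fin n → F) : 𝔣.cE (v + w) = 𝔣.cE v + 𝔣.cE w := by
  funext i
  exact hermForm_add_left n q v w _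

omit [Fintype F] in
theorem Frame.cE_smul (c : F) (v : Fin n → F) : 𝔣.cE (c • v) = c • 𝔣.cE v := by
  funext i
  exact hermForm_smul_left n q c v _

omit [Fintype F] in
theorem Frame.cF_add (v w : Fin n → F) : 𝔣.cF (v + w) = 𝔣.cF v + 𝔣.cF w := by
  funext i
  exact hermForm_add_left n q v w _

omit [Fintype F] in
theorem Frame.cF_smul (c : F) (v : Fin n → F) : 𝔣.cF (c • v) = c • 𝔣.cF v := by
  funext i
  exact hermForm_smul_left n q c v _

omit [Fintype F] in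
theorem Frame.isRatV_eV {x : Fin m → F} (hx : IsRat F₀ x) : IsRatV F₀ (𝔣.eV x) := by
  unfold Frame.eV
  intro j
  rw [Finset.sum_apply]
  exact F₀.sum_mem fun i _ => F₀.mul_mem (hx i) (𝔣.rat_e i j)

end Frm

section Levi

variable {F : Type u} [Field F] [Fintype F] {q : ℕ} (hF : Fintype.card F = q ^ 2) {n m : ℕ}
  {F₀ : Subfield F} (𝔣 : Frame q F₀ m n)

/-- the matrix with columns `e_i` -/
def Frame.A : Matrix (Fin n) (Fin m) F := Matrix.of fun j i => 𝔣.e i j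

/-- the matrix with rows the conjugates of the `f_i` -/
def Frame.B : Matrix (Fin m) (Fin n) F := Matrix.of fun i j => (𝔣.f i j) ^ q

omit [Fintype F] in
theorem Frame.A_mulVec (x : Fin m → F) : 𝔣.A *ᵥ x = 𝔣.eV x := by
  funext j
  unfold Frame.eV
  rw [Finset.sum_apply]
  show ∑ i, 𝔣.e i j * x i = ∑ i, (x i • 𝔣.e i) j
  exact Finset.sum_congr rfl fun i _ => by
    rw [Pi.smul_apply, smul_eq_mul, mul_comm]

omit [Fintype F] in
theorem Frame.B_mulVec (v : Fin n → F) : 𝔣.B *ᵥ v = 𝔣.cE v := by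
  funext i
  show ∑ j, (𝔣.f i j) ^ q * v j = ∑ j, v j * (𝔣.f i j) ^ q
  exact Finset.sum_congr rfl fun j _ => by rw [mul_comm]

/-- the inverse conjugate transpose -/
def hatM (q : ℕ) (g : GL (Fin m) F) : Matrix (Fin m) (Fin m) F :=
  fun i j => ((g⁻¹).1 j i) ^ q

include hF in
theorem hatM_mul (g h : GL (Fin m) F) : hatM q (g * h) = hatM q g * hatM q h := by
  ext i k
  show ((g * h)⁻¹).1 k i ^ q = ∑ j, (g⁻¹).1 j i ^ q * (h⁻¹).1 k j ^ q
  rw [_root_.mul_inv_rev, Units.val_mul, Matrix.mul_apply, pow_q_sum hF]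
  exact Finset.sum_congr rfl fun j _ => by rw [mul_pow, mul_comm]

include hF in
theorem hatM_one : hatM q (1 : GL (Fin m) F) = 1 := by
  ext i k
  unfold hatM
  rw [inv_one, Units.val_one, Matrix.one_apply, Matrix.one_apply]
  by_cases h : i = k
  · rw [if_pos h, if_pos h.symm, one_pow]
  · rw [if_neg h, if_neg (Ne.symm h)]
    exact zero_pow (q_ne_zero hF)

/-- the inverse conjugate transpose, as an element of the general linear group -/
def hatG (g : GL (Fin m) F) : GL (Fin m) F :=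
  ⟨hatM q g, hatM q g⁻¹, by rw [← hatM_mul hF, mul_inv_cancel, hatM_one hF],
    by rw [← hatM_mul hF, inv_mul_cancel, hatM_one hF]⟩

theorem hatG_val (g : GL (Fin m) F) : (hatG hF g).1 = hatM q g := rfl

include hF in
theorem hatM_hatG (g : GL (Fin m) F) : hatM q (hatG hF g) = g.1 := by
  ext i k
  unfold hatM
  show ((hatM q g⁻¹) k i) ^ q = g.1 i k
  unfold hatM
  rw [inv_inv, pow_q_pow_q hF]

include hF in
theorem det_hatM (g : GL (Fin m) F) : (hatM q g).det = ((g⁻¹).1.det) ^ q := by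
  have h1 : hatM q g = (Cfsg.Agent.Lib.Helper5.HermBridge.sigma hF).mapMatrix ((g⁻¹).1)ᵀ := by
    ext i k
    rfl
  rw [h1, ← RingHom.map_det, Matrix.det_transpose]
  rfl

theorem hatG_mem_SL {g : GL (Fin m) F} (hg : g ∈ Cfsg.Geo.specialLinear (Fin m) F) :
    hatG hF g ∈ Cfsg.Geo.specialLinear (Fin m) F := by
  rw [Cfsg.Agent.Lib.Helper5.SLSubspaceMax.mem_specialLinear_iff] at hg ⊢
  rw [hatG_val, det_hatM hF]
  have h1 : (g⁻¹).1.det * g.1.det = 1 := by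
    rw [← Matrix.det_mul, ← Units.val_mul, inv_mul_cancel, Units.val_one, Matrix.det_one]
  rw [hg, mul_one] at h1
  rw [h1, one_pow]

/-- the matrix of the Levi element attached to `g` -/
def Frame.dgMat (g : GL (Fin m) F) : Matrix (Fin n) (Fin n) F :=
  1 + 𝔣.A * (g.1 - 1) * 𝔣.B + (𝔣.swap hF).A * (hatM q g - 1) * (𝔣.swap hF).B

theorem Frame.dgMat_mulVec (g : GL (Fin m) F) (v : Fin n → F) :
    𝔣.dgMat hF g *ᵥ v =
      v + 𝔣.eV ((g.1 - 1) *ᵥ 𝔣.cE v) + 𝔣.fV ((hatM q g - 1) *ᵥ 𝔣.cF v) := by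
  unfold Frame.dgMat
  rw [add_mulVec, add_mulVec, one_mulVec, ← mulVec_mulVec, ← mulVec_mulVec, ← mulVec_mulVec,
    ← mulVec_mulVec, Frame.B_mulVec, Frame.B_mulVec, Frame.A_mulVec, Frame.A_mulVec]
  rfl

theorem Frame.cE_dgMat (g : GL (Fin m) F) (v : Fin n → F) :
    𝔣.cE (𝔣.dgMat hF g *ᵥ v) = g.1 *ᵥ 𝔣.cE v := by
  rw [𝔣.dgMat_mulVec hF, Frame.cE_add, Frame.cE_add, 𝔣.cE_eV hF, 𝔣.cE_fV hF, add_zero,
    sub_mulVec, one_mulVec]
  abel

theorem Frame.cF_dgMat (g : GL (Fin m) F) (v : Fin n → F) :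
    𝔣.cF (𝔣.dgMat hF g *ᵥ v) = hatM q g *ᵥ 𝔣.cF v := by
  rw [𝔣.dgMat_mulVec hF, Frame.cF_add, Frame.cF_add, 𝔣.cF_eV hF, 𝔣.cF_fV hF, add_zero,
    sub_mulVec, one_mulVec]
  abel

theorem Frame.dgMat_mul (g h : GL (Fin m) F) :
    𝔣.dgMat hF (g * h) = 𝔣.dgMat hF g * 𝔣.dgMat hF h := by
  apply mat_ext
  intro v
  rw [← mulVec_mulVec, 𝔣.dgMat_mulVec hF g, 𝔣.cE_dgMat hF, 𝔣.cF_dgMat hF, 𝔣.dgMat_mulVec hF h,
    𝔣.dgMat_mulVec hF (g * h), hatM_mul hF, Units.val_mul]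
  have e1 : (g.1 * h.1 - 1) *ᵥ 𝔣.cE v =
      (h.1 - 1) *ᵥ 𝔣.cE v + (g.1 - 1) *ᵥ (h.1 *ᵥ 𝔣.cE v) := by
    simp only [sub_mulVec, one_mulVec, ← mulVec_mulVec]
    abel
  have e2 : (hatM q g * hatM q h - 1) *ᵥ 𝔣.cF v =
      (hatM q h - 1) *ᵥ 𝔣.cF v + (hatM q g - 1) *ᵥ (hatM q h *ᵥ 𝔣.cF v) := by
    simp only [sub_mulVec, one_mulVec, ← mulVec_mulVec]
    abel
  rw [e1, e2, Frame.eV_add, 𝔣.fV_eq hF, Frame.eV_add]
  abel

theorem Frame.dgMat_one : 𝔣.dgMat hF (1 : GL (Fin m) F) = 1 := by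
  unfold Frame.dgMat
  rw [hatM_one hF, Units.val_one, sub_self, Matrix.mul_zero, Matrix.zero_mul, Matrix.mul_zero,
    Matrix.zero_mul, add_zero, add_zero]

/-- the Levi embedding attached to a frame -/
def Frame.dg : GL (Fin m) F →* GL (Fin n) F where
  toFun g := ⟨𝔣.dgMat hF g, 𝔣.dgMat hF g⁻¹,
    by rw [← 𝔣.dgMat_mul hF, mul_inv_cancel, 𝔣.dgMat_one hF],
    by rw [← 𝔣.dgMat_mul hF, inv_mul_cancel, 𝔣.dgMat_one hF]⟩
  map_one' := Units.ext (𝔣.dgMat_one hF)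
  map_mul' g h := Units.ext (𝔣.dgMat_mul hF g h)

theorem Frame.dg_val (g : GL (Fin m) F) : (𝔣.dg hF g).1 = 𝔣.dgMat hF g := rfl

theorem Frame.dg_eV (g : GL (Fin m) F) (x : Fin m → F) :
    (𝔣.dg hF g).1 *ᵥ 𝔣.eV x = 𝔣.eV (g.1 *ᵥ x) := by
  rw [𝔣.dg_val hF, 𝔣.dgMat_mulVec hF, 𝔣.cE_eV hF, 𝔣.cF_eV hF, mulVec_zero, 𝔣.fV_eq hF,
    Frame.eV_zero, add_zero, ← Frame.eV_add, sub_mulVec, one_mulVec]
  congr 1
  abel

theorem Frame.dg_fV (g : GL (Fin m) F) (y : Fin m → F) :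
    (𝔣.dg hF g).1 *ᵥ 𝔣.fV y = 𝔣.fV (hatM q g *ᵥ y) := by
  rw [𝔣.dg_val hF, 𝔣.dgMat_mulVec hF, 𝔣.cE_fV hF, 𝔣.cF_fV hF, mulVec_zero,
    Frame.eV_zero, add_zero, 𝔣.fV_eq hF, ← Frame.eV_add, sub_mulVec, one_mulVec]
  congr 1
  abel

theorem Frame.dg_perp (g : GL (Fin m) F) {d : Fin n → F} (h1 : 𝔣.cE d = 0) (h2 : 𝔣.cF d = 0) :
    (𝔣.dg hF g).1 *ᵥ d = d := by
  rw [𝔣.dg_val hF, 𝔣.dgMat_mulVec hF, h1, h2, mulVec_zero, mulVec_zero, 𝔣.fV_eq hF,
    Frame.eV_zero, Frame.eV_zero, add_zero, add_zero]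

/-- the Levi element of the swapped frame -/
theorem Frame.dg_swap (g : GL (Fin m) F) : (𝔣.swap hF).dg hF g = 𝔣.dg hF (hatG hF g) := by
  apply Units.ext
  rw [Frame.dg_val, Frame.dg_val]
  unfold Frame.dgMat
  rw [hatM_hatG hF, hatG_val]
  have : (𝔣.swap hF).swap hF = 𝔣 := rfl
  rw [this]
  abel

end Levi

end Cfsg.Agent.Lib.Helper2.Suf
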