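import Mathlib
import Cfsg.Agent.Lib.Helper2.SufC
set_option autoImplicit false
set_option maxHeartbeats 1000000
set_option linter.unusedVariables false
set_option linter.unusedSectionVars false
set_option linter.style.longLine false
set_option linter.unusedSimpArgs false
set_option linter.deprecated false
set_option linter.style.haveILetI false

/-! Unitary subfield subgroups (part D): the Levi images of the transvections of `GL_m` are the
root elements `eichMat (f ψ̄) (e u) 0`; the pull-back of an overgroup of the subfield subgroup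
contains the rational transvections. -/

namespace Cfsg.Agent.Lib.Helper2.Suf

open Matrix Cfsg Cfsg.Agent.Lib.Helper5.Herm Cfsg.Agent.Lib.Helper5.HermBridge
  Cfsg.Agent.Lib.Helper5.HermTv Cfsg.Agent.Lib.Helper5.HermEich
  Cfsg.Agent.Lib.Helper5.SUCentres Cfsg.Agent.Lib.Helper5.TvGL
  Cfsg.Agent.Lib.Helper2.Sfm Cfsg.Agent.Lib.Helper2.Ssf

universe u

section LeviTv

variable {F : Type u} [Field F] [Fintype F] {q : ℕ} (hF : Fintype.card F = q ^ 2) {n m : ℕ}
  {F₀ : Subfield F} (𝔣 : Frame q F₀ m n)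

include hF in
theorem hatM_tvG (u ψ : Fin m → F) (h : ψ ⬝ᵥ u = 0) :
    hatM q (tvG u ψ h) = tvMat (cj q u) (-cj q ψ) := by
  ext i k
  show ((tvG u ψ h)⁻¹).1 k i ^ q = _
  rw [tvG_inv_val, tvMat_eq, tvMat_eq, Matrix.add_apply, Matrix.add_apply, vecMulVec_apply,
    vecMulVec_apply, pow_q_add hF, Matrix.one_apply, Matrix.one_apply, mul_pow, Pi.neg_apply,
    Pi.neg_apply, pow_q_neg hF]
  by_cases hik : k = i
  · rw [if_pos hik, if_pos hik.symm, one_pow]
    unfold cj
    ring
  · rw [if_neg hik, if_neg (Ne.symm hik), zero_pow (q_ne_zero hF)]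
    unfold cj
    ring

include hF in
theorem cj_dot (x y : Fin m → F) : cj q x ⬝ᵥ cj q y = (x ⬝ᵥ y) ^ q := by
  unfold cj dotProduct
  rw [pow_q_sum hF]
  exact Finset.sum_congr rfl fun i _ => (mul_pow _ _ _).symm

/-- the Levi image of a transvection -/
theorem Frame.dg_tvG (u ψ : Fin m → F) (h : ψ ⬝ᵥ u = 0) :
    (𝔣.dg hF (tvG u ψ h)).1 = eichMat n q (𝔣.fV (cj q ψ)) (𝔣.eV u) 0 := by
  apply mat_ext
  intro v
  rw [𝔣.dg_val hF, 𝔣.dgMat_mulVec hF, eichMat_mulVec n _ _ _ (𝔣.herm_fV_fV hF _ _),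
    𝔣.herm_fV_right hF, 𝔣.herm_eV_right hF, cj_cj hF, hatM_tvG hF, tvG_val]
  simp only [sub_mulVec, one_mulVec, tvMat_mulVec, add_sub_cancel_left]
  rw [Frame.eV_smul, 𝔣.fV_eq hF, Frame.eV_smul]
  have : (𝔣.swap hF).eV (-cj q ψ) = -(𝔣.swap hF).eV (cj q ψ) := by
    have := (𝔣.swap hF).eV_smul (-1 : F) (cj q ψ)
    rwa [neg_one_smul, neg_one_smul] at this
  rw [this]
  module

include hF in
/-- the hypotheses for the root elements -/
theorem Frame.ehyp_root {u ψ : Fin m → F} (h : ψ ⬝ᵥ u = 0) (c : F) :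
    EHyp n q (𝔣.fV (cj q ψ)) (c • 𝔣.eV u) 0 where
  hx := 𝔣.herm_fV_fV hF _ _
  hwx := by
    rw [hermForm_smul_left, 𝔣.herm_eV_fV hF, cj_cj hF, h, mul_zero]
  hb := by
    rw [hermForm_smul_left, hermForm_smul_right, 𝔣.herm_eV_eV hF, mul_zero, mul_zero,
      zero_pow (q_ne_zero hF), add_zero, add_zero]

omit [Fintype F] in
theorem isRat_cj {k : ℕ} {x : Fin k → F} (hx : IsRat F₀ x) : IsRat F₀ (cj q x) :=
  fun i => F₀.pow_mem (hx i) q

/-- the pull-back of an overgroup of the subfield subgroup contains the rational transvections -/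
theorem Frame.hasRat_comap {H : Subgroup (GL (Fin n) F)} (hMH : MS n q F₀ ≤ H) :
    HasRat F₀ (H.comap (𝔣.dg hF)) := by
  intro u ψ hu hψ h
  refine ⟨tvG u ψ h, ?_, rfl⟩
  rw [Subgroup.mem_comap]
  apply MIn.mem
  rw [𝔣.dg_tvG hF]
  have h1 := 𝔣.ehyp_root hF h 1
  rw [one_smul] at h1
  have hX : IsRatV F₀ (𝔣.fV (cj q ψ)) := by
    rw [𝔣.fV_eq hF]
    exact (𝔣.swap hF).isRatV_eV (isRat_cj hψ)
  exact (EM_mIn hF F₀ hX (𝔣.isRatV_eV hu) F₀.zero_mem h1).mono hMH

omit [Fintype F] in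
theorem cj_single (i : Fin m) (hq : q ≠ 0) : cj q (Pi.single i (1 : F) : Fin m → F) = Pi.single i 1 := by
  classical
  funext k
  unfold cj
  by_cases h : k = i
  · subst h; rw [Pi.single_eq_same, one_pow]
  · rw [Pi.single_eq_of_ne h, zero_pow hq]

/-- without bad elements the parameters of the root elements in the overgroup are rational -/
theorem Frame.root_param_mem {H : Subgroup (GL (Fin n) F)}
    (hN : NoBad F₀ (H.comap (𝔣.dg hF))) {i j : Fin m} (hij : i ≠ j) {c : F}
    (h : MIn H (eichMat n q (𝔣.f j) (c • 𝔣.e i) 0)) : c ∈ F₀ := by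
  classical
  have h0 : (Pi.single j (1 : F) : Fin m → F) ⬝ᵥ (c • Pi.single i (1 : F)) = 0 :=
    single_dot_smul_single hij c
  have hne : ∀ k : Fin m, (Pi.single k (1 : F) : Fin m → F) ≠ 0 := by
    intro k hk
    have := congrFun hk k
    rw [Pi.single_eq_same, Pi.zero_apply] at this
    exact one_ne_zero this
  apply hN (Pi.single i 1) (Pi.single j 1) (isRat_single i F₀.one_mem)
    (isRat_single j F₀.one_mem) (hne i) (hne j)
  · have := single_dot_smul_single (F := F) hij (1 : F)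
    rwa [one_smul] at this
  · refine ⟨tvG (c • Pi.single i 1) (Pi.single j 1) h0, ?_, rfl⟩
    rw [Subgroup.mem_comap]
    apply MIn.mem
    rw [𝔣.dg_tvG hF, cj_single j (q_ne_zero hF), Frame.eV_smul, Frame.eV_single, 𝔣.fV_eq hF,
      Frame.eV_single]
    exact h

end LeviTv

section SLtrans

variable {F : Type u} [Field F] [Fintype F] {m : ℕ}

/-- `SL_m` is transitive on non-zero vectors -/
theorem exists_SL_mulVec (hm : 2 ≤ m) {x : Fin m → F} (hx : x ≠ 0) (i₀ : Fin m) :
    ∃ g : GL (Fin m) F, g ∈ Cfsg.Geo.specialLinear (Fin m) F ∧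
      g.1 *ᵥ (Pi.single i₀ (1 : F)) = x := by
  classical
  by_cases hcase : ∃ j, j ≠ i₀ ∧ x j ≠ 0
  · obtain ⟨j, hj, hxj⟩ := hcase
    set ε : Fin m → F := Pi.single i₀ 1 with hε
    set φ : Fin m → F := Pi.single i₀ 1 + ((1 - x i₀) / x j) • Pi.single j 1 with hφ
    have h1 : φ ⬝ᵥ ε = 1 := by
      rw [hφ, hε, add_dotProduct, smul_dotProduct, single_dotProduct, single_dotProduct,
        Pi.single_eq_same, Pi.single_eq_of_ne hj]
      simp
    have h2 : φ ⬝ᵥ x = 1 := by
      rw [hφ, add_dotProduct, smul_dotProduct, single_dotProduct, single_dotProduct, one_mul,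
        one_mul, smul_eq_mul, div_mul_cancel₀ _ hxj]
      ring
    have h3 : φ ⬝ᵥ (x - ε) = 0 := by rw [dotProduct_sub, h1, h2, sub_self]
    refine ⟨tvG (x - ε) φ h3, ?_, ?_⟩
    · rw [Cfsg.Agent.Lib.Helper5.SLSubspaceMax.mem_specialLinear_iff, tvG_val]
      exact det_tvMat φ (x - ε) h3
    · rw [tvG_val, tvMat_mulVec, h1, one_smul]
      abel
  · push Not at hcase
    have hx0 : x i₀ ≠ 0 := by
      intro h0
      apply hx
      funext k
      by_cases hk : k = i₀
      · rw [hk, h0]; rfl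
      · exact hcase k hk
    obtain ⟨i₂, h12⟩ : ∃ i₂ : Fin m, i₀ ≠ i₂ := by
      by_cases h : (i₀ : ℕ) = 0
      · exact ⟨⟨1, by omega⟩, fun h' => by
          have := congrArg Fin.val h'
          simp at this
          omega⟩
      · exact ⟨⟨0, by omega⟩, fun h' => by
          have := congrArg Fin.val h'
          simp at this
          omega⟩
    obtain ⟨g, hg, hge⟩ := exists_scale h12 hx0
    refine ⟨g, hg, ?_⟩
    rw [hge]
    funext k
    rw [Pi.smul_apply, smul_eq_mul]
    by_cases hk : k = i₀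
    · rw [hk, Pi.single_eq_same, mul_one]
    · rw [Pi.single_eq_of_ne hk, mul_zero, hcase k hk]

end SLtrans

end Cfsg.Agent.Lib.Helper2.Suf
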