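import Mathlib
import Cfsg.Agent.Lib.Helper2.SufD
set_option autoImplicit false
set_option maxHeartbeats 1000000
set_option linter.unusedVariables false
set_option linter.unusedSectionVars false
set_option linter.style.longLine false
set_option linter.unusedSimpArgs false
set_option linter.deprecated false
set_option linter.style.haveILetI false

/-! Unitary subfield subgroups (part E): the rational isotropic vectors `b_j + l b_k`
(`l l^q = -1`) and the standard rational hyperbolic frame with four pairs. -/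

namespace Cfsg.Agent.Lib.Helper2.Suf

open Matrix Cfsg Cfsg.Agent.Lib.Helper5.Herm Cfsg.Agent.Lib.Helper5.HermBridge
  Cfsg.Agent.Lib.Helper5.HermTv Cfsg.Agent.Lib.Helper5.HermEich
  Cfsg.Agent.Lib.Helper5.SUCentres Cfsg.Agent.Lib.Helper5.TvGL
  Cfsg.Agent.Lib.Helper2.Sfm Cfsg.Agent.Lib.Helper2.Ssf

universe u

/-- two distinct rational elements of norm `-1` -/
structure LamData {F : Type u} [Field F] (q : ℕ) (F₀ : Subfield F) where
  l₁ : F
  l₂ : F
  h₁ : l₁ ∈ F₀
  h₂ : l₂ ∈ F₀
  n₁ : l₁ * l₁ ^ q = -1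
  n₂ : l₂ * l₂ ^ q = -1
  ne : l₁ ≠ l₂

section Tw

variable {F : Type u} [Field F] [Fintype F] {q : ℕ} (hF : Fintype.card F = q ^ 2) {n : ℕ}

/-- the vector `b_j + l b_k` -/
def tw (j k : Fin n) (l : F) : Fin n → F := Pi.single j 1 + l • Pi.single k 1

include hF in
theorem herm_tw_right (x : Fin n → F) (j k : Fin n) (l : F) :
    hermForm n F q x (tw j k l) = x j + l ^ q * x k := by
  unfold tw
  rw [hermForm_add_right hF, hermForm_smul_right, hermForm_single_right n q (q_ne_zero hF),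
    hermForm_single_right n q (q_ne_zero hF)]

omit [Fintype F] in
theorem herm_tw_left (x : Fin n → F) (j k : Fin n) (l : F) :
    hermForm n F q (tw j k l) x = x j ^ q + l * x k ^ q := by
  unfold tw
  rw [hermForm_add_left, hermForm_smul_left, hermForm_single_left, hermForm_single_left]

omit [Fintype F] in
theorem tw_apply_j {j k : Fin n} (hjk : j ≠ k) (l : F) : tw j k l j = 1 := by
  unfold tw
  rw [Pi.add_apply, Pi.smul_apply, Pi.single_eq_same, Pi.single_eq_of_ne hjk, smul_zero, add_zero]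

omit [Fintype F] in
theorem tw_apply_k {j k : Fin n} (hjk : j ≠ k) (l : F) : tw j k l k = l := by
  unfold tw
  rw [Pi.add_apply, Pi.smul_apply, Pi.single_eq_same, Pi.single_eq_of_ne (Ne.symm hjk), zero_add,
    smul_eq_mul, mul_one]

omit [Fintype F] in
theorem tw_apply_ne {j k i : Fin n} (hij : i ≠ j) (hik : i ≠ k) (l : F) : tw j k l i = 0 := by
  unfold tw
  rw [Pi.add_apply, Pi.smul_apply, Pi.single_eq_of_ne hij, Pi.single_eq_of_ne hik, smul_zero,
    add_zero]

include hF in
theorem herm_tw_tw_same {j k : Fin n} (hjk : j ≠ k) (l l' : F) :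
    hermForm n F q (tw j k l) (tw j k l') = 1 + l' ^ q * l := by
  rw [herm_tw_right hF, tw_apply_j hjk, tw_apply_k hjk]

include hF in
theorem herm_tw_tw_disj {j k j' k' : Fin n} (h1 : j ≠ j') (h2 : j ≠ k') (h3 : k ≠ j')
    (h4 : k ≠ k') (l l' : F) : hermForm n F q (tw j k l) (tw j' k' l') = 0 := by
  rw [herm_tw_right hF, tw_apply_ne h1.symm h3.symm, tw_apply_ne h2.symm h4.symm, mul_zero,
    add_zero]

include hF in
theorem herm_tw_self {j k : Fin n} (hjk : j ≠ k) {l : F} (hl : l * l ^ q = -1) :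
    hermForm n F q (tw j k l) (tw j k l) = 0 := by
  rw [herm_tw_tw_same hF hjk, mul_comm, hl]
  ring

omit [Fintype F] in
theorem isRatV_tw {F₀ : Subfield F} (j k : Fin n) {l : F} (hl : l ∈ F₀) :
    IsRatV F₀ (tw j k l) := by
  classical
  unfold tw
  exact (isRatV_single j F₀.one_mem).add ((isRatV_single k F₀.one_mem).smul hl)

omit [Fintype F] in
theorem tw_ne_zero {j k : Fin n} (hjk : j ≠ k) (l : F) : tw j k l ≠ 0 := by
  intro h
  have := congrFun h j
  rw [tw_apply_j hjk, Pi.zero_apply] at this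
  exact one_ne_zero this

end Tw

section Idx

variable {n : ℕ} (hn : 8 ≤ n)

/-- the first index of the `i`-th pair -/
def i0 (i : Fin 4) : Fin n := ⟨2 * i.val, by have := i.isLt; omega⟩

/-- the second index of the `i`-th pair -/
def i1 (i : Fin 4) : Fin n := ⟨2 * i.val + 1, by have := i.isLt; omega⟩

theorem i0_val (i : Fin 4) : (i0 hn i).val = 2 * i.val := rfl

theorem i1_val (i : Fin 4) : (i1 hn i).val = 2 * i.val + 1 := rfl

theorem i0_ne_i1 (i j : Fin 4) : i0 hn i ≠ i1 hn j := by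
  intro h
  have := congrArg Fin.val h
  rw [i0_val, i1_val] at this
  omega

theorem i0_ne_i0 {i j : Fin 4} (hij : i ≠ j) : i0 hn i ≠ i0 hn j := by
  intro h
  have := congrArg Fin.val h
  rw [i0_val, i0_val] at this
  exact hij (Fin.ext (by omega))

theorem i1_ne_i1 {i j : Fin 4} (hij : i ≠ j) : i1 hn i ≠ i1 hn j := by
  intro h
  have := congrArg Fin.val h
  rw [i1_val, i1_val] at this
  exact hij (Fin.ext (by omega))

theorem ne_i0_of_le (i : Fin 4) {j : Fin n} (hj : 8 ≤ j.val) : j ≠ i0 hn i := by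
  intro h
  have := congrArg Fin.val h
  rw [i0_val] at this
  have := i.isLt
  omega

theorem ne_i1_of_le (i : Fin 4) {j : Fin n} (hj : 8 ≤ j.val) : j ≠ i1 hn i := by
  intro h
  have := congrArg Fin.val h
  rw [i1_val] at this
  have := i.isLt
  omega

end Idx

section Std

variable {F : Type u} [Field F] [Fintype F] {q : ℕ} {n : ℕ} {F₀ : Subfield F}

/-- the normalising factor of the second half of the frame -/
def LamData.mu (L : LamData q F₀) : F := ((1 + L.l₁ * L.l₂ ^ q)⁻¹) ^ q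

omit [Fintype F] in
theorem LamData.one_add_ne (L : LamData q F₀) : 1 + L.l₁ * L.l₂ ^ q ≠ 0 := by
  intro h
  have h1 : L.l₁ * L.l₂ ^ q = L.l₂ * L.l₂ ^ q := by
    rw [L.n₂]
    linear_combination h
  have h2 : L.l₂ ^ q ≠ 0 := by
    intro h0
    have := L.n₂
    rw [h0, mul_zero] at this
    exact (neg_ne_zero.2 one_ne_zero) this.symm
  exact L.ne (mul_right_cancel₀ h2 h1)

omit [Fintype F] in
theorem LamData.mu_mem (L : LamData q F₀) : L.mu ∈ F₀ :=
  F₀.pow_mem (F₀.inv_mem (F₀.add_mem F₀.one_mem (F₀.mul_mem L.h₁ (F₀.pow_mem L.h₂ q)))) q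

theorem LamData.mu_pow (hF : Fintype.card F = q ^ 2) (L : LamData q F₀) :
    L.mu ^ q = (1 + L.l₁ * L.l₂ ^ q)⁻¹ := pow_q_pow_q hF _

omit [Fintype F] in
theorem LamData.mu_ne (L : LamData q F₀) : L.mu ≠ 0 :=
  pow_ne_zero q (inv_ne_zero L.one_add_ne)

/-- the standard rational hyperbolic frame -/
def stdFrame (hF : Fintype.card F = q ^ 2) (hn : 8 ≤ n) (L : LamData q F₀) : Frame q F₀ 4 n where
  e i := tw (i0 hn i) (i1 hn i) L.l₁
  f i := L.mu • tw (i0 hn i) (i1 hn i) L.l₂
  rat_e i := isRatV_tw _ _ L.h₁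
  rat_f i := (isRatV_tw _ _ L.h₂).smul L.mu_mem
  ee i j := by
    by_cases hij : i = j
    · subst hij
      exact herm_tw_self hF (i0_ne_i1 hn i i) L.n₁
    · exact herm_tw_tw_disj hF (i0_ne_i0 hn hij) (i0_ne_i1 hn i j) (i0_ne_i1 hn j i).symm
        (i1_ne_i1 hn hij) _ _
  ff i j := by
    rw [hermForm_smul_left, hermForm_smul_right]
    by_cases hij : i = j
    · subst hij
      rw [herm_tw_self hF (i0_ne_i1 hn i i) L.n₂, mul_zero, mul_zero]
    · rw [herm_tw_tw_disj hF (i0_ne_i0 hn hij) (i0_ne_i1 hn i j) (i0_ne_i1 hn j i).symm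
        (i1_ne_i1 hn hij) _ _, mul_zero, mul_zero]
  ef i j := by
    rw [hermForm_smul_right]
    by_cases hij : i = j
    · subst hij
      rw [if_pos rfl, herm_tw_tw_same hF (i0_ne_i1 hn i i), L.mu_pow hF, mul_comm (L.l₂ ^ q),
        inv_mul_cancel₀ L.one_add_ne]
    · rw [if_neg hij, herm_tw_tw_disj hF (i0_ne_i0 hn hij) (i0_ne_i1 hn i j)
        (i0_ne_i1 hn j i).symm (i1_ne_i1 hn hij) _ _, mul_zero]

variable (hF : Fintype.card F = q ^ 2) (hn : 8 ≤ n) (L : LamData q F₀)

theorem stdFrame_e (i : Fin 4) : (stdFrame hF hn L).e i = tw (i0 hn i) (i1 hn i) L.l₁ := rfl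

theorem stdFrame_f (i : Fin 4) :
    (stdFrame hF hn L).f i = L.mu • tw (i0 hn i) (i1 hn i) L.l₂ := rfl

/-- the frame lives in the first eight coordinates -/
theorem stdFrame_e_apply (i : Fin 4) {j : Fin n} (hj : 8 ≤ j.val) :
    (stdFrame hF hn L).e i j = 0 := by
  rw [stdFrame_e]
  exact tw_apply_ne (ne_i0_of_le hn i hj) (ne_i1_of_le hn i hj) _

theorem stdFrame_f_apply (i : Fin 4) {j : Fin n} (hj : 8 ≤ j.val) :
    (stdFrame hF hn L).f i j = 0 := by
  rw [stdFrame_f, Pi.smul_apply, tw_apply_ne (ne_i0_of_le hn i hj) (ne_i1_of_le hn i hj),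
    smul_zero]

/-- a vector orthogonal to the frame vanishes in the first eight coordinates -/
theorem stdFrame_compl {x : Fin n → F} (h1 : (stdFrame hF hn L).cE x = 0)
    (h2 : (stdFrame hF hn L).cF x = 0) (i : Fin 4) : x (i0 hn i) = 0 ∧ x (i1 hn i) = 0 := by
  have e1 : hermForm n F q x ((stdFrame hF hn L).f i) = 0 := congrFun h1 i
  have e2 : hermForm n F q x ((stdFrame hF hn L).e i) = 0 := congrFun h2 i
  rw [stdFrame_f, hermForm_smul_right, herm_tw_right hF] at e1
  rw [stdFrame_e, herm_tw_right hF] at e2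
  have e1' : x (i0 hn i) + L.l₂ ^ q * x (i1 hn i) = 0 := by
    rcases mul_eq_zero.1 e1 with h | h
    · exact absurd h (pow_ne_zero q L.mu_ne)
    · exact h
  have hne : L.l₁ ^ q - L.l₂ ^ q ≠ 0 := by
    intro h
    apply L.ne
    have h3 : L.l₁ ^ q = L.l₂ ^ q := sub_eq_zero.1 h
    have := congrArg (fun t => t ^ q) h3
    simp only [pow_q_pow_q hF] at this
    exact this
  have h4 : (L.l₁ ^ q - L.l₂ ^ q) * x (i1 hn i) = 0 := by linear_combination e2 - e1'
  have h5 : x (i1 hn i) = 0 := by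
    rcases mul_eq_zero.1 h4 with h | h
    · exact absurd h hne
    · exact h
  refine ⟨?_, h5⟩
  rw [h5, mul_zero, add_zero] at e2
  exact e2

end Std

end Cfsg.Agent.Lib.Helper2.Suf
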